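import Cfsg.Prelude.Def_FusionSystem

set_option autoImplicit false

namespace Cfsg.Agent.Lib.Helper9

open Cfsg

variable {X : Type*} [Group X]

theorem pCore_isPGroup' (p : ℕ) (X : Type*) [Group X] : IsPGroup p (pCore p X) := by
  unfold pCore
  exact Sylow.sSup_of_normal _ (fun H hH => hH.2) (fun H hH => hH.1)

theorem pCore_normal' (p : ℕ) (X : Type*) [Group X] : (pCore p X).Normal := by
  unfold pCore
  exact Subgroup.sSup_normal _ (fun H hH => hH.1)

theorem le_pCore' {p : ℕ} {N : Subgroup X} (hN : N.Normal) (hp : IsPGroup p N) : N ≤ pCore p X :=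
  le_sSup ⟨hN, hp⟩

/-- A nontrivial finite `p`-subgroup does not have `p`-rank `≤ 0`. -/
theorem not_pRankLE_zero_of_ne_bot [Finite X] {p : ℕ} [Fact p.Prime] {R : Subgroup X}
    (hR : IsPGroup p R) (hne : R ≠ ⊥) : ¬ PRankLE p 0 R := by
  intro h
  have hcard : Nat.card R ≠ 1 := by
    intro h1
    exact hne (Subgroup.card_eq_one.mp h1)
  have hdvd : p ∣ Nat.card R := (hR.card_eq_or_dvd).resolve_left hcard
  obtain ⟨x, hx⟩ := exists_prime_orderOf_dvd_card' p hdvd
  have h1 := h (Subgroup.zpowers x) inferInstance (by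
    intro a ha
    obtain ⟨k, rfl⟩ := Subgroup.mem_zpowers_iff.mp ha
    rw [← zpow_natCast, ← zpow_mul, mul_comm, zpow_mul, zpow_natCast, ← hx, pow_orderOf_eq_one,
      one_zpow])
  rw [Nat.card_zpowers, hx, pow_zero] at h1
  exact absurd h1 (by have := (Fact.out : p.Prime).two_le; omega)

/-- A finite group with a strongly `p`-embedded subgroup has trivial `p`-core. -/
theorem pCore_eq_bot_of_stronglyPEmbedded [Finite X] {p : ℕ} [Fact p.Prime] {E : Subgroup X}
    (hE : IsStronglyPEmbedded p E) : pCore p X = ⊥ := by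
  by_contra hne
  obtain ⟨-, hEtop, T, hT⟩ := hE
  have hnorm := pCore_normal' p X
  have hRT : pCore p X ≤ T := IsPGroup.le_sylow_of_normal (pCore_isPGroup' p X) T
  have hrank : ¬ PRankLE p (1 - 1) (pCore p X) :=
    not_pRankLE_zero_of_ne_bot (pCore_isPGroup' p X) hne
  have h1 : Subgroup.normalizer ((pCore p X : Subgroup X) : Set X) ≤
      kGeneratedCore p 1 (T : Subgroup X) := by
    unfold kGeneratedCore
    exact le_iSup (fun Q : {Q : Subgroup X // Q ≤ (T : Subgroup X) ∧ ¬ PRankLE p (1 - 1) Q} =>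
      Subgroup.normalizer ((Q : Subgroup X) : Set X)) ⟨pCore p X, hRT, hrank⟩
  have h2 : Subgroup.normalizer ((pCore p X : Subgroup X) : Set X) = ⊤ := by
    exact Subgroup.normalizer_eq_top _
  rw [h2] at h1
  exact hEtop (top_le_iff.mp (h1.trans hT))

end Cfsg.Agent.Lib.Helper9
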