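import Mathlib
import Cfsg.Agent.Lib.Helper1.AODefs
import Cfsg.Agent.Lib.Helper1.FittingCentralizer
import Cfsg.Agent.Lib.Helper9.StronglyEmbedded
import Cfsg.Agent.S0144

set_option autoImplicit false

open Cfsg.Agent.Lib.Helper1.AO

universe u

namespace Cfsg.Agent.Lib.Helper9.AO

variable {G : Type u} [Group G] [Finite G] {p r : ℕ}

theorem eq_two_pow_mul_pow (n p : ℕ) (hn : n ≠ 0) (hp2 : p ≠ 2)
    (h : ∀ l : ℕ, l.Prime → l ∣ n → l = 2 ∨ l = p) :
    n = 2 ^ (n.factorization 2) * p ^ (n.factorization p) := by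
  conv_lhs => rw [← Nat.prod_factorization_pow_eq_self hn]
  rw [Finsupp.prod_of_support_subset (s := {2, p})]
  · rw [Finset.prod_pair (Ne.symm hp2)]
  · intro l hl
    rw [Nat.support_factorization, Nat.mem_primeFactors] at hl
    rcases h l hl.1 hl.2.1 with rfl | rfl <;> simp
  · intro i _
    exact pow_zero i

/-- local T1: the Sylow `2`-subgroup has exponent `2`. -/
theorem sylow2_exp (H : TwoP G p r) (S : Sylow 2 G) : ∀ x ∈ (S : Subgroup G), x ^ 2 = 1 := by
  intro x hx
  obtain ⟨k, hk⟩ := (IsPGroup.iff_orderOf.mp S.2) ⟨x, hx⟩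
  rw [Subgroup.orderOf_mk] at hk
  have hp := H.hp
  have hr := H.hr
  have key : orderOf x = 1 ∨ orderOf x = 2 := by
    rcases H.spec x with h | h | h | h | h
    · exact Or.inl h
    · exact Or.inr h
    · exfalso
      rw [h] at hk
      have : p ∣ 2 ^ k := by rw [← hk]
      exact H.hp2 ((Nat.prime_dvd_prime_iff_eq hp Nat.prime_two).mp (hp.dvd_of_dvd_pow this))
    · exfalso
      rw [h] at hk
      have : p ∣ 2 ^ k := by rw [← hk]; exact Dvd.intro_left 2 rfl
      exact H.hp2 ((Nat.prime_dvd_prime_iff_eq hp Nat.prime_two).mp (hp.dvd_of_dvd_pow this))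
    · exfalso
      rw [h] at hk
      have : r ∣ 2 ^ k := by rw [← hk]
      exact H.hr2 ((Nat.prime_dvd_prime_iff_eq hr Nat.prime_two).mp (hr.dvd_of_dvd_pow this))
  rcases key with h | h
  · rw [orderOf_eq_one_iff] at h; rw [h]; simp
  · rw [← h]; exact pow_orderOf_eq_one x

/-- local T7 (for an involution): an element commuting with an involution has order dividing `2p`. -/
theorem orderOf_dvd_of_comm_invol (H : TwoP G p r) (t : G) (ht : orderOf t = 2) (c : G)
    (hc : c * t = t * c) : orderOf c ∣ 2 * p := by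
  have hp := H.hp
  have hr := H.hr
  rcases H.spec c with h | h | h | h | h
  · rw [h]; exact one_dvd _
  · rw [h]; exact Dvd.intro _ rfl
  · rw [h]; exact Dvd.intro_left _ rfl
  · rw [h]
  · exfalso
    have hcomm : Commute c t := hc
    have hcop : (orderOf c).Coprime (orderOf t) := by
      rw [h, ht]
      exact (Nat.coprime_primes hr Nat.prime_two).mpr H.hr2
    have hmul := hcomm.orderOf_mul_eq_mul_orderOf_of_coprime hcop
    rw [h, ht] at hmul
    have hr2 := hr.two_le
    have hp2 := hp.two_le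
    rcases H.spec (c * t) with h' | h' | h' | h' | h' <;> rw [hmul] at h'
    · omega
    · omega
    · have : 2 ∣ p := by rw [← h']; exact Dvd.intro_left _ rfl
      exact H.hp2 ((Nat.prime_dvd_prime_iff_eq Nat.prime_two hp).mp this).symm
    · have : r = p := by omega
      exact H.hpr this.symm
    · omega

theorem case2_normal (H : TwoP G p r) (S : Sylow 2 G) (t : G) (ht : orderOf t = 2)
    (hts : t ∈ (S : Subgroup G)) (h2 : Case2 p t) :
    ∀ c : G, c * t = t * c → ∀ s ∈ (S : Subgroup G), c * s * c⁻¹ ∈ (S : Subgroup G) := by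
  have hp := H.hp
  have : Fact (Nat.Prime 2) := ⟨Nat.prime_two⟩
  have : Fact p.Prime := ⟨hp⟩
  have hexp := sylow2_exp H S
  have hsq : ∀ x ∈ (S : Subgroup G), x * x = 1 := fun x hx => by
    rw [← pow_two]; exact hexp x hx
  have hab : ∀ x ∈ (S : Subgroup G), ∀ y ∈ (S : Subgroup G), x * y = y * x := by
    intro x hx y hy
    have hxi : x⁻¹ = x := inv_eq_of_mul_eq_one_right (hsq x hx)
    have hyi : y⁻¹ = y := inv_eq_of_mul_eq_one_right (hsq y hy)
    have hxyi : (x * y)⁻¹ = x * y :=
      inv_eq_of_mul_eq_one_right (hsq (x * y) ((S : Subgroup G).mul_mem hx hy))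
    rw [← hxyi, mul_inv_rev, hxi, hyi]
  set C := Subgroup.centralizer ({t} : Set G) with hC
  have hmemC : ∀ c : G, c ∈ C ↔ c * t = t * c := by
    intro c
    rw [hC, Subgroup.mem_centralizer_iff]
    constructor
    · intro h; exact (h t (Set.mem_singleton t)).symm
    · intro h x hx
      rw [Set.mem_singleton_iff] at hx
      rw [hx]; exact h.symm
  have hSC : (S : Subgroup G) ≤ C := by
    intro s hs
    rw [hmemC]
    exact hab s hs t hts
  -- orders of elements of C
  have hordC : ∀ c : C, orderOf c ∣ 2 * p := by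
    intro c
    rw [← Subgroup.orderOf_coe]
    exact orderOf_dvd_of_comm_invol H t ht c ((hmemC c).mp c.2)
  -- |C| = 2^a p^b, so C is solvable
  have hcardC : Nat.card C = 2 ^ ((Nat.card C).factorization 2) * p ^ ((Nat.card C).factorization p) := by
    apply eq_two_pow_mul_pow _ _ Nat.card_pos.ne' H.hp2
    intro l hl hdvd
    have : Fact l.Prime := ⟨hl⟩
    obtain ⟨c, hc⟩ := exists_prime_orderOf_dvd_card' l hdvd
    have := hordC c
    rw [hc] at this
    rcases (Nat.Prime.dvd_mul hl).mp this with h | h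
    · exact Or.inl ((Nat.prime_dvd_prime_iff_eq hl Nat.prime_two).mp h)
    · exact Or.inr ((Nat.prime_dvd_prime_iff_eq hl hp).mp h)
  have hsolv : Group.IsSolvable C :=
    Cfsg.Agent.S0144.result 2 p _ _ Nat.prime_two hp hcardC
  -- the 2'-core of C is trivial
  have hcore : Cfsg.pPrimeCore 2 C = ⊥ := by
    rw [Cfsg.pPrimeCore, eq_bot_iff]
    apply sSup_le
    rintro N ⟨hNn, hNc⟩
    -- N is a p-group
    have hNp : IsPGroup p N := by
      rw [IsPGroup.iff_orderOf]
      intro x
      have h1 : orderOf x ∣ 2 * p := by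
        rw [← Subgroup.orderOf_coe]
        exact hordC (x : C)
      have h2' : (orderOf x).Coprime 2 :=
        Nat.Coprime.coprime_dvd_left (orderOf_dvd_natCard x) hNc
      have h3 : orderOf x ∣ p := (Nat.Coprime.dvd_mul_left h2').mp h1
      rcases (Nat.dvd_prime hp).mp h3 with h | h
      · exact ⟨0, by rw [h, pow_zero]⟩
      · exact ⟨1, by rw [h, pow_one]⟩
    have hbot : N.map C.subtype = ⊥ := by
      apply h2 (N.map C.subtype) (hNp.map _)
      · exact Subgroup.map_subtype_le N
      · rintro c hc _ ⟨x, hx, rfl⟩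
        refine ⟨⟨c, hc⟩ * x * ⟨c, hc⟩⁻¹, hNn.conj_mem x hx ⟨c, hc⟩, ?_⟩
        simp
    rw [Subgroup.map_eq_bot_iff_of_injective N C.subtype_injective] at hbot
    rw [hbot]
  have hcent := Cfsg.Agent.Lib.Helper1.centralizer_pCore_le (G := C) 2 hcore
  set O := Cfsg.pCore 2 C with hO
  have hOn : O.Normal := Cfsg.Agent.Lib.Helper9.pCore_normal' 2 C
  have hOp : IsPGroup 2 O := Cfsg.Agent.Lib.Helper9.pCore_isPGroup' 2 C
  set S' := (S : Subgroup G).subgroupOf C with hS'
  have hS'p : IsPGroup 2 S' := by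
    rw [hS']
    exact S.2.comap_subtype
  -- O ≤ S'
  have hOS' : O ≤ S' := by
    have hsup : IsPGroup 2 (O ⊔ S' : Subgroup C) := hOp.to_sup_of_normal_left hS'p
    have hmap : IsPGroup 2 ((O ⊔ S' : Subgroup C).map C.subtype) := hsup.map _
    have hle : (S : Subgroup G) ≤ (O ⊔ S' : Subgroup C).map C.subtype := by
      intro s hs
      refine ⟨⟨s, hSC hs⟩, ?_, rfl⟩
      apply Subgroup.mem_sup_right
      rw [hS', Subgroup.mem_subgroupOf]
      exact hs
    have heq := S.3 hmap hle
    intro x hx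
    rw [hS', Subgroup.mem_subgroupOf]
    rw [← heq]
    exact ⟨x, Subgroup.mem_sup_left hx, rfl⟩
  -- S' ≤ centralizer O ≤ O
  have hS'O : S' ≤ O := by
    refine le_trans ?_ hcent
    intro x hx
    rw [Subgroup.mem_centralizer_iff]
    intro y hy
    have hy' : y ∈ S' := hOS' hy
    rw [hS', Subgroup.mem_subgroupOf] at hx hy'
    apply Subtype.ext
    exact hab _ hy' _ hx
  have hS'eq : S' = O := le_antisymm hS'O hOS'
  intro c hc s hs
  have hcC : c ∈ C := (hmemC c).mpr hc
  have hsS' : (⟨s, hSC hs⟩ : C) ∈ S' := by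
    rw [hS', Subgroup.mem_subgroupOf]; exact hs
  rw [hS'eq] at hsS'
  have := hOn.conj_mem _ hsS' ⟨c, hcC⟩
  rw [← hS'eq, hS', Subgroup.mem_subgroupOf] at this
  simpa using this

end Cfsg.Agent.Lib.Helper9.AO
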