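import Mathlib
import Cfsg.Agent.Lib.Helper1.AODefs
import Cfsg.Agent.Lib.Helper9.StronglyEmbedded
import Cfsg.Agent.Lib.Helper9.AOT15

set_option autoImplicit false

open Cfsg.Agent.Lib.Helper1.AO

universe u

namespace Cfsg.Agent.Lib.Helper9.AO

variable {G : Type u} [Group G] [Finite G] {p r : ℕ}

theorem mem_cent_singleton_iff (t c : G) :
    c ∈ Subgroup.centralizer ({t} : Set G) ↔ c * t = t * c := by
  rw [Subgroup.mem_centralizer_iff]
  constructor
  · intro h; exact (h t (Set.mem_singleton t)).symm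
  · intro h x hx
    rw [Set.mem_singleton_iff] at hx
    rw [hx]; exact h.symm

/-- the image of `O_p(C_G(t))` in `G`. -/
noncomputable def pCoreCent (p : ℕ) (t : G) : Subgroup G :=
  (Cfsg.pCore p ↥(Subgroup.centralizer ({t} : Set G))).map
    (Subgroup.centralizer ({t} : Set G)).subtype

theorem pCoreCent_isPGroup (p : ℕ) (t : G) : IsPGroup p (pCoreCent p t) :=
  (Cfsg.Agent.Lib.Helper9.pCore_isPGroup' p _).map _

theorem pCoreCent_le (p : ℕ) (t : G) : pCoreCent p t ≤ Subgroup.centralizer ({t} : Set G) :=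
  Subgroup.map_subtype_le _

theorem pCoreCent_conj (p : ℕ) (t : G) :
    ∀ c ∈ Subgroup.centralizer ({t} : Set G), ∀ x ∈ pCoreCent p t, c * x * c⁻¹ ∈ pCoreCent p t := by
  rintro c hc _ ⟨y, hy, rfl⟩
  have hn := Cfsg.Agent.Lib.Helper9.pCore_normal' p ↥(Subgroup.centralizer ({t} : Set G))
  refine ⟨⟨c, hc⟩ * y * ⟨c, hc⟩⁻¹, hn.conj_mem y hy ⟨c, hc⟩, ?_⟩
  simp

theorem le_pCoreCent (p : ℕ) (t : G) (N : Subgroup G) (hN : IsPGroup p N)
    (hNC : N ≤ Subgroup.centralizer ({t} : Set G))
    (hNn : ∀ c ∈ Subgroup.centralizer ({t} : Set G), ∀ x ∈ N, c * x * c⁻¹ ∈ N) :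
    N ≤ pCoreCent p t := by
  set C := Subgroup.centralizer ({t} : Set G) with hC
  have hnorm : (N.subgroupOf C).Normal := by
    constructor
    intro n hn c
    rw [Subgroup.mem_subgroupOf] at hn ⊢
    have := hNn c c.2 n hn
    simpa using this
  have hp' : IsPGroup p (N.subgroupOf C) := hN.comap_subtype
  have hle := Cfsg.Agent.Lib.Helper9.le_pCore' hnorm hp'
  intro n hn
  refine ⟨⟨n, hNC hn⟩, hle ?_, rfl⟩
  rw [Subgroup.mem_subgroupOf]
  exact hn

theorem pow_mul_invol_odd {t x : G} {p : ℕ} (htt : t * t = 1) (hxp : x ^ p = 1) (hcomm : t * x = x * t)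
    (hodd : Odd p) : (t * x) ^ p = t ∧ (t * x) ^ (p + 1) = x := by
  have hc : Commute t x := hcomm
  obtain ⟨k, hk⟩ := hodd
  have ht2 : t ^ 2 = 1 := by rw [pow_two]; exact htt
  have htp : t ^ p = t := by
    rw [hk, pow_succ, pow_mul, ht2, one_pow, one_mul]
  constructor
  · rw [hc.mul_pow, htp, hxp, mul_one]
  · rw [hc.mul_pow, pow_succ t, htp, htt, one_mul, pow_succ, hxp, one_mul]

theorem dichotomy (H : TwoP G p r) (t : G) (ht : orderOf t = 2) : Case1 p t ∨ Case2 p t := by
  have hp := H.hp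
  have hpodd : Odd p := hp.odd_of_ne_two H.hp2
  have htt : t * t = 1 := by rw [← pow_two, ← ht]; exact pow_orderOf_eq_one t
  by_cases hbot : pCoreCent p t = ⊥
  · right
    intro N hN hNC hNn
    have := le_pCoreCent p t N hN hNC hNn
    rw [hbot] at this
    exact le_bot_iff.mp this
  · left
    refine ⟨pCoreCent p t, pCoreCent_isPGroup p t, pCoreCent_le p t, pCoreCent_conj p t, ?_⟩
    -- an element x1 of order p in Pt
    obtain ⟨⟨x1, hx1mem⟩, hx1ne⟩ := (Subgroup.ne_bot_iff_exists_ne_one).mp hbot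
    have hx1ne' : x1 ≠ 1 := by
      intro h; apply hx1ne; exact Subtype.ext h
    have hx1c : x1 * t = t * x1 :=
      (mem_cent_singleton_iff t x1).mp (pCoreCent_le p t hx1mem)
    have hfact : Fact p.Prime := ⟨hp⟩
    obtain ⟨k, hk⟩ := (IsPGroup.iff_orderOf.mp (pCoreCent_isPGroup p t)) ⟨x1, hx1mem⟩
    rw [Subgroup.orderOf_mk] at hk
    have hx1ord : orderOf x1 = p := by
      have hd := orderOf_dvd_of_comm_invol H t ht x1 hx1c
      rw [hk] at hd
      rcases k with _ | k
      · exfalso
        rw [pow_zero, orderOf_eq_one_iff] at hk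
        exact hx1ne' hk
      · rcases k with _ | k
        · rw [hk]; simp
        · exfalso
          -- p^(k+2) ∣ 2p → p ∣ 2
          have h1 : p * p ∣ 2 * p := by
            refine dvd_trans ?_ hd
            exact ⟨p ^ k, by ring⟩
          have h2 : p ∣ 2 := by
            have := Nat.dvd_of_mul_dvd_mul_right hp.pos h1
            exact this
          exact H.hp2 ((Nat.prime_dvd_prime_iff_eq hp Nat.prime_two).mp h2)
    intro x hx hxc
    -- orders of t * x1 and t * x
    have hcop : (orderOf t).Coprime p := by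
      rw [ht]; exact (Nat.coprime_primes Nat.prime_two hp).mpr (Ne.symm H.hp2)
    have ho1 : orderOf (t * x1) = 2 * p := by
      have hc : Commute t x1 := hx1c.symm
      rw [hc.orderOf_mul_eq_mul_orderOf_of_coprime (by rw [hx1ord]; exact hcop), ht, hx1ord]
    have ho2 : orderOf (t * x) = 2 * p := by
      have hc : Commute t x := hxc.symm
      rw [hc.orderOf_mul_eq_mul_orderOf_of_coprime (by rw [hx]; exact hcop), ht, hx]
    obtain ⟨α, hα⟩ := H.aut (t * x1) (t * x) (by rw [ho1, ho2])
    have hx1p : x1 ^ p = 1 := by rw [← hx1ord]; exact pow_orderOf_eq_one _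
    have hxp : x ^ p = 1 := by rw [← hx]; exact pow_orderOf_eq_one _
    obtain ⟨e1, e2⟩ := pow_mul_invol_odd htt hx1p hx1c.symm hpodd
    obtain ⟨e3, e4⟩ := pow_mul_invol_odd htt hxp hxc.symm hpodd
    have hαt : α t = t := by
      calc α t = α ((t * x1) ^ p) := by rw [e1]
        _ = (α (t * x1)) ^ p := map_pow _ _ _
        _ = (t * x) ^ p := by rw [hα]
        _ = t := e3
    have hαx : α x1 = x := by
      calc α x1 = α ((t * x1) ^ (p + 1)) := by rw [e2]
        _ = (α (t * x1)) ^ (p + 1) := map_pow _ _ _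
        _ = (t * x) ^ (p + 1) := by rw [hα]
        _ = x := e4
    -- the image of Pt under α is a C(t)-invariant p-subgroup of C(t)
    have hle : (pCoreCent p t).map α.toMonoidHom ≤ pCoreCent p t := by
      apply le_pCoreCent p t _ ((pCoreCent_isPGroup p t).map _)
      · rintro _ ⟨y, hy, rfl⟩
        rw [mem_cent_singleton_iff]
        have hyc := (mem_cent_singleton_iff t y).mp (pCoreCent_le p t hy)
        show α y * t = t * α y
        rw [← hαt, ← map_mul, hyc, map_mul]
      · rintro c hc _ ⟨y, hy, rfl⟩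
        have hcc := (mem_cent_singleton_iff t c).mp hc
        have hc' : α.symm c ∈ Subgroup.centralizer ({t} : Set G) := by
          rw [mem_cent_singleton_iff]
          have hst : α.symm t = t := by
            rw [MulEquiv.symm_apply_eq, hαt]
          rw [← hst, ← map_mul, hcc, map_mul, hst]
        refine ⟨α.symm c * y * (α.symm c)⁻¹, pCoreCent_conj p t _ hc' y hy, ?_⟩
        show α (α.symm c * y * (α.symm c)⁻¹) = c * α y * c⁻¹
        rw [map_mul, map_mul, map_inv, MulEquiv.apply_symm_apply]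
    apply hle
    exact ⟨x1, hx1mem, hαx⟩

theorem case2_transport (H : TwoP G p r) {t t' : G} (ht : orderOf t = 2) (ht' : orderOf t' = 2)
    (h2 : Case2 p t) : Case2 p t' := by
  obtain ⟨α, hα⟩ := H.aut t' t (by rw [ht, ht'])
  intro N hN hNC hNn
  have hbot : N.map α.toMonoidHom = ⊥ := by
    apply h2 _ (hN.map _)
    · rintro _ ⟨y, hy, rfl⟩
      rw [mem_cent_singleton_iff]
      have hyc := (mem_cent_singleton_iff t' y).mp (hNC hy)
      show α y * t = t * α y
      rw [← hα, ← map_mul, hyc, map_mul]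
    · rintro c hc _ ⟨y, hy, rfl⟩
      have hcc := (mem_cent_singleton_iff t c).mp hc
      have hst : α.symm t = t' := by
        rw [MulEquiv.symm_apply_eq, hα]
      have hc' : α.symm c ∈ Subgroup.centralizer ({t'} : Set G) := by
        rw [mem_cent_singleton_iff]
        rw [← hst, ← map_mul, hcc, map_mul]
      refine ⟨α.symm c * y * (α.symm c)⁻¹, hNn _ hc' y hy, ?_⟩
      show α (α.symm c * y * (α.symm c)⁻¹) = c * α y * c⁻¹
      rw [map_mul, map_mul, map_inv, MulEquiv.apply_symm_apply]
  rw [Subgroup.map_eq_bot_iff_of_injective N α.injective] at hbot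
  exact hbot

end Cfsg.Agent.Lib.Helper9.AO
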