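import Mathlib
import Cfsg.Agent.Lib.Helper1.AODefs
import Cfsg.Agent.Lib.Helper9.AOT8

set_option autoImplicit false

open Cfsg.Agent.Lib.Helper1.AO

universe u

namespace Cfsg.Agent.Lib.Helper9.AO

variable {G : Type u} [Group G] [Finite G] {p q r : ℕ}

/-- for commuting `x`, `y` with `x ^ p = 1`, `y ^ q = 1` and `q * q' ≡ 1 mod p`:
`(x * y) ^ (q * q') = x`. -/
theorem pow_mul_comm_eq_left {x y : G} {p q q' : ℕ} (hxp : x ^ p = 1) (hyq : y ^ q = 1)
    (hcomm : x * y = y * x) (hq' : q * q' % p = 1) : (x * y) ^ (q * q') = x := by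
  have hc : Commute x y := hcomm
  rw [hc.mul_pow, pow_mul y, hyq, one_pow, mul_one, pow_eq_pow_mod _ hxp, hq', pow_one]

theorem pow_mul_comm_eq_right {x y : G} {p q p' : ℕ} (hxp : x ^ p = 1) (hyq : y ^ q = 1)
    (hcomm : x * y = y * x) (hp' : p * p' % q = 1) : (x * y) ^ (p * p') = y := by
  have hc : Commute x y := hcomm
  rw [hc.mul_pow, pow_mul x, hxp, one_pow, one_mul, pow_eq_pow_mod _ hyq, hp', pow_one]

/-- the image of a `C(x)`-invariant subgroup of `C(x)` under an automorphism fixing `x`. -/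
theorem map_aut_le_pCoreCent (q : ℕ) (x : G) (α : MulAut G) (hαx : α x = x) :
    (pCoreCent q x).map α.toMonoidHom ≤ pCoreCent q x := by
  apply le_pCoreCent q x _ ((pCoreCent_isPGroup q x).map _)
  · rintro _ ⟨y, hy, rfl⟩
    rw [mem_cent_singleton_iff]
    have hyc := (mem_cent_singleton_iff x y).mp (pCoreCent_le q x hy)
    show α y * x = x * α y
    rw [← hαx, ← map_mul, hyc, map_mul]
  · rintro c hc _ ⟨y, hy, rfl⟩
    have hcc := (mem_cent_singleton_iff x c).mp hc
    have hc' : α.symm c ∈ Subgroup.centralizer ({x} : Set G) := by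
      rw [mem_cent_singleton_iff]
      have hst : α.symm x = x := by
        rw [MulEquiv.symm_apply_eq, hαx]
      rw [← hst, ← map_mul, hcc, map_mul, hst]
    refine ⟨α.symm c * y * (α.symm c)⁻¹, pCoreCent_conj q x _ hc' y hy, ?_⟩
    show α (α.symm c * y * (α.symm c)⁻¹) = c * α y * c⁻¹
    rw [map_mul, map_mul, map_inv, MulEquiv.apply_symm_apply]

theorem odd_dichotomy (H : OddPQ G p q r) (x : G) (hx : orderOf x = p) :
    Case1 q x ∨ Case2 q x := by
  have hp := H.hp
  have hq := H.hq
  have hr := H.hr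
  by_cases hbot : pCoreCent q x = ⊥
  · right
    intro N hN hNC hNn
    have := le_pCoreCent q x N hN hNC hNn
    rw [hbot] at this
    exact le_bot_iff.mp this
  · left
    refine ⟨pCoreCent q x, pCoreCent_isPGroup q x, pCoreCent_le q x, pCoreCent_conj q x, ?_⟩
    obtain ⟨⟨y1, hy1mem⟩, hy1ne⟩ := (Subgroup.ne_bot_iff_exists_ne_one).mp hbot
    have hy1ne' : y1 ≠ 1 := by
      intro h; apply hy1ne; exact Subtype.ext h
    have hy1c : y1 * x = x * y1 :=
      (mem_cent_singleton_iff x y1).mp (pCoreCent_le q x hy1mem)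
    have hfact : Fact q.Prime := ⟨hq⟩
    obtain ⟨k, hk⟩ := (IsPGroup.iff_orderOf.mp (pCoreCent_isPGroup q x)) ⟨y1, hy1mem⟩
    rw [Subgroup.orderOf_mk] at hk
    have hqdvd : ∀ l : ℕ, l.Prime → l ≠ q → ¬ (l ∣ q ^ k) := by
      intro l hl hlq hd
      exact hlq ((Nat.prime_dvd_prime_iff_eq hl hq).mp (hl.dvd_of_dvd_pow hd))
    have hy1ord : orderOf y1 = q := by
      rcases H.spec y1 with h | h | h | h | h
      · exfalso; rw [orderOf_eq_one_iff] at h; exact hy1ne' h
      · exfalso
        apply hqdvd p hp H.hpq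
        rw [← hk, h]
      · exact h
      · exfalso
        apply hqdvd r hr (Ne.symm H.hqr)
        rw [← hk, h]
      · exfalso
        apply hqdvd p hp H.hpq
        rw [← hk, h]
        exact Dvd.intro _ rfl
    intro y hy hyc
    have hcop : p.Coprime q := (Nat.coprime_primes hp hq).mpr H.hpq
    have ho1 : orderOf (x * y1) = p * q := by
      have hc : Commute x y1 := hy1c.symm
      rw [hc.orderOf_mul_eq_mul_orderOf_of_coprime (by rw [hx, hy1ord]; exact hcop), hx, hy1ord]
    have ho2 : orderOf (x * y) = p * q := by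
      have hc : Commute x y := hyc.symm
      rw [hc.orderOf_mul_eq_mul_orderOf_of_coprime (by rw [hx, hy]; exact hcop), hx, hy]
    obtain ⟨α, hα⟩ := H.aut (x * y1) (x * y) (by rw [ho1, ho2])
    have hxp : x ^ p = 1 := by rw [← hx]; exact pow_orderOf_eq_one _
    have hy1q : y1 ^ q = 1 := by rw [← hy1ord]; exact pow_orderOf_eq_one _
    have hyq : y ^ q = 1 := by rw [← hy]; exact pow_orderOf_eq_one _
    obtain ⟨q', -, hq'⟩ := Nat.exists_mul_mod_eq_one_of_coprime hcop.symm hp.one_lt
    obtain ⟨p', -, hp'⟩ := Nat.exists_mul_mod_eq_one_of_coprime hcop hq.one_lt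
    have e1 := pow_mul_comm_eq_left hxp hy1q hy1c.symm hq'
    have e2 := pow_mul_comm_eq_right hxp hy1q hy1c.symm hp'
    have e3 := pow_mul_comm_eq_left hxp hyq hyc.symm hq'
    have e4 := pow_mul_comm_eq_right hxp hyq hyc.symm hp'
    have hαx : α x = x := by
      calc α x = α ((x * y1) ^ (q * q')) := by rw [e1]
        _ = (α (x * y1)) ^ (q * q') := map_pow _ _ _
        _ = (x * y) ^ (q * q') := by rw [hα]
        _ = x := e3
    have hαy : α y1 = y := by
      calc α y1 = α ((x * y1) ^ (p * p')) := by rw [e2]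
        _ = (α (x * y1)) ^ (p * p') := map_pow _ _ _
        _ = (x * y) ^ (p * p') := by rw [hα]
        _ = y := e4
    apply map_aut_le_pCoreCent q x α hαx
    exact ⟨y1, hy1mem, hαy⟩

theorem odd_case2_transport (H : OddPQ G p q r) {x x' : G} (hx : orderOf x = p)
    (hx' : orderOf x' = p) (h2 : Case2 q x) : Case2 q x' := by
  obtain ⟨α, hα⟩ := H.aut x' x (by rw [hx, hx'])
  intro N hN hNC hNn
  have hbot : N.map α.toMonoidHom = ⊥ := by
    apply h2 _ (hN.map _)
    · rintro _ ⟨y, hy, rfl⟩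
      rw [mem_cent_singleton_iff]
      have hyc := (mem_cent_singleton_iff x' y).mp (hNC hy)
      show α y * x = x * α y
      rw [← hα, ← map_mul, hyc, map_mul]
    · rintro c hc _ ⟨y, hy, rfl⟩
      have hcc := (mem_cent_singleton_iff x c).mp hc
      have hst : α.symm x = x' := by
        rw [MulEquiv.symm_apply_eq, hα]
      have hc' : α.symm c ∈ Subgroup.centralizer ({x'} : Set G) := by
        rw [mem_cent_singleton_iff]
        rw [← hst, ← map_mul, hcc, map_mul]
      refine ⟨α.symm c * y * (α.symm c)⁻¹, hNn _ hc' y hy, ?_⟩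
      show α (α.symm c * y * (α.symm c)⁻¹) = c * α y * c⁻¹
      rw [map_mul, map_mul, map_inv, MulEquiv.apply_symm_apply]
  rw [Subgroup.map_eq_bot_iff_of_injective N α.injective] at hbot
  exact hbot

end Cfsg.Agent.Lib.Helper9.AO
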