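import Mathlib

set_option autoImplicit false

namespace Cfsg.Agent.Lib.Helper9

variable {G : Type*} [Group G]

/-- conjugation of the rotation by a reflection -/
theorem dih_conj_rot {a b : G} (haa : a * a = 1) (hbb : b * b = 1) :
    a * (a * b) * a⁻¹ = (a * b)⁻¹ ∧ b * (a * b) * b⁻¹ = (a * b)⁻¹ := by
  have hai : a⁻¹ = a := inv_eq_of_mul_eq_one_right haa
  have hbi : b⁻¹ = b := inv_eq_of_mul_eq_one_right hbb
  constructor
  · rw [mul_inv_rev, hai, hbi]
    calc a * (a * b) * a = (a * a) * b * a := by group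
      _ = b * a := by rw [haa, one_mul]
  · rw [mul_inv_rev, hai, hbi]
    calc b * (a * b) * b = b * a * (b * b) := by group
      _ = b * a := by rw [hbb, mul_one]

theorem dih_conj_rot_pow {a b : G} (haa : a * a = 1) (hbb : b * b = 1) (j : ℕ) :
    a * (a * b) ^ j * a⁻¹ = ((a * b) ^ j)⁻¹ ∧ b * (a * b) ^ j * b⁻¹ = ((a * b) ^ j)⁻¹ := by
  obtain ⟨h1, h2⟩ := dih_conj_rot haa hbb
  exact ⟨by rw [← conj_pow, h1, inv_pow], by rw [← conj_pow, h2, inv_pow]⟩

/-- `a r^m` is conjugate to `a` or to `b` -/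
theorem dih_refl_conj {a b : G} (haa : a * a = 1) (hbb : b * b = 1) (m : ℕ) :
    ∃ g : G, a * (a * b) ^ m = g * a * g⁻¹ ∨ a * (a * b) ^ m = g * b * g⁻¹ := by
  set r := a * b with hr
  have hrpow : ∀ j : ℕ, a * r ^ j * a⁻¹ = (r ^ j)⁻¹ := fun j => (dih_conj_rot_pow haa hbb j).1
  have h2 : ∀ j : ℕ, a * r ^ j = (r ^ j)⁻¹ * a := by
    intro j
    calc a * r ^ j = (a * r ^ j * a⁻¹) * a := by group
      _ = (r ^ j)⁻¹ * a := by rw [hrpow]
  rcases Nat.even_or_odd' m with ⟨j, hj | hj⟩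
  · refine ⟨(r ^ j)⁻¹, Or.inl ?_⟩
    rw [hj, inv_inv]
    calc a * r ^ (2 * j) = (a * r ^ j) * r ^ j := by rw [two_mul, pow_add]; group
      _ = (r ^ j)⁻¹ * a * r ^ j := by rw [h2]
  · refine ⟨(r ^ j)⁻¹, Or.inr ?_⟩
    rw [hj, inv_inv]
    have h3 : a * r = b := by
      rw [hr, ← mul_assoc, haa, one_mul]
    calc a * r ^ (2 * j + 1) = (a * r ^ j) * r * r ^ j := by
          have e : 2 * j + 1 = j + 1 + j := by ring
          rw [e, pow_add, pow_add, pow_one]
          group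
      _ = (r ^ j)⁻¹ * (a * r) * r ^ j := by rw [h2]; group
      _ = (r ^ j)⁻¹ * b * r ^ j := by rw [h3]

/-- if the product of two involutions has odd order, they are conjugate -/
theorem dih_conj_of_odd {a b : G} (haa : a * a = 1) (hbb : b * b = 1)
    (hodd : Odd (orderOf (a * b))) : ∃ g : G, b = g * a * g⁻¹ := by
  obtain ⟨k, hk⟩ := hodd
  set r := a * b with hr
  have hrn : r ^ (2 * k + 1) = 1 := by rw [← hk]; exact pow_orderOf_eq_one r
  have hrpow : ∀ j : ℕ, a * r ^ j * a⁻¹ = (r ^ j)⁻¹ := fun j => (dih_conj_rot_pow haa hbb j).1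
  have hai : a⁻¹ = a := inv_eq_of_mul_eq_one_right haa
  refine ⟨r ^ k, ?_⟩
  have h3 : b = a * r := by
    rw [hr, ← mul_assoc, haa, one_mul]
  have h4 : r ^ k * a * (r ^ k)⁻¹ = r ^ k * (a * (r ^ k)⁻¹ * a⁻¹) * a := by group
  have h5 : a * (r ^ k)⁻¹ * a⁻¹ = r ^ k := by
    have : a * (r ^ k)⁻¹ * a⁻¹ = (a * r ^ k * a⁻¹)⁻¹ := by group
    rw [this, hrpow, inv_inv]
  rw [h4, h5, h3]
  have h6 : a * r = (a * r * a⁻¹) * a := by group
  rw [h6, (dih_conj_rot haa hbb).1]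
  congr 1
  have h7 : r ^ k * r ^ k * r = 1 := by
    rw [← pow_add, ← pow_succ]
    have : k + k + 1 = 2 * k + 1 := by ring
    rw [this]
    exact hrn
  exact (eq_inv_of_mul_eq_one_left h7).symm

/-- the central involution of a dihedral group of order divisible by four -/
theorem dih_central_invol {a b : G} (haa : a * a = 1) (hbb : b * b = 1) {m : ℕ} (hm : 0 < m)
    (hn : orderOf (a * b) = m + m) :
    (a * b) ^ m * (a * b) ^ m = 1 ∧ (a * b) ^ m ≠ 1 ∧ a * (a * b) ^ m = (a * b) ^ m * a ∧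
      b * (a * b) ^ m = (a * b) ^ m * b := by
  set r := a * b with hr
  set u := r ^ m with hu
  have huu : u * u = 1 := by
    rw [hu, ← pow_add, ← hn]
    exact pow_orderOf_eq_one r
  have hu1 : u ≠ 1 := by
    intro h1
    have := orderOf_dvd_of_pow_eq_one h1
    have := Nat.le_of_dvd hm this
    omega
  have hui : u⁻¹ = u := inv_eq_of_mul_eq_one_right huu
  obtain ⟨h1, h2⟩ := dih_conj_rot_pow haa hbb m
  rw [← hr, ← hu, hui] at h1 h2
  refine ⟨huu, hu1, ?_, ?_⟩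
  · calc a * u = (a * u * a⁻¹) * a := by group
      _ = u * a := by rw [h1]
  · calc b * u = (b * u * b⁻¹) * b := by group
      _ = u * b := by rw [h2]

end Cfsg.Agent.Lib.Helper9
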