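import Mathlib
import Cfsg.Agent.Lib.Helper1.AODefs
import Cfsg.Agent.Lib.Helper9.DihedralPair

set_option autoImplicit false

open Cfsg.Agent.Lib.Helper1.AO

universe u

namespace Cfsg.Agent.Lib.Helper9.AO

variable {G : Type u} [Group G] [Finite G]

theorem mem_normalizer_of_conj_mem (H : Subgroup G) (g : G)
    (h : ∀ x ∈ H, g * x * g⁻¹ ∈ H) : g ∈ Subgroup.normalizer (H : Set G) := by
  rw [Subgroup.mem_normalizer_iff_map_conj_eq]
  apply Subgroup.eq_of_le_of_card_ge
  · rintro _ ⟨x, hx, rfl⟩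
    exact h x hx
  · rw [Subgroup.card_map_of_injective (MulAut.conj g).injective]

/-- a `2`-element of the normalizer of a Sylow `2`-subgroup lies in it. -/
theorem mem_sylow_of_mem_normalizer (S : Sylow 2 G) (x : G) (hx : x * x = 1)
    (hxN : x ∈ Subgroup.normalizer ((S : Subgroup G) : Set G)) : x ∈ (S : Subgroup G) := by
  have : Fact (Nat.Prime 2) := ⟨Nat.prime_two⟩
  have hP : IsPGroup 2 (Subgroup.zpowers x) := by
    rw [IsPGroup.iff_orderOf]
    intro y
    obtain ⟨y, hy⟩ := y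
    obtain ⟨k, rfl⟩ := Subgroup.mem_zpowers_iff.mp hy
    have h2 : ((⟨x ^ k, hy⟩ : Subgroup.zpowers x)) ^ 2 = 1 := by
      apply Subtype.ext
      show (x ^ k) ^ 2 = 1
      rw [← zpow_natCast, ← zpow_mul, mul_comm, zpow_mul, zpow_natCast, pow_two, hx, one_zpow]
    have hd := orderOf_dvd_of_pow_eq_one h2
    have hd' : orderOf (⟨x ^ k, hy⟩ : Subgroup.zpowers x) ∣ 2 ^ 1 := by simpa using hd
    obtain ⟨j, -, hj⟩ := (Nat.dvd_prime_pow Nat.prime_two).mp hd'
    exact ⟨j, hj⟩
  have hle : Subgroup.zpowers x ≤ Subgroup.normalizer ((S : Subgroup G) : Set G) := by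
    rw [Subgroup.zpowers_le]
    exact hxN
  have h1 := hP.inf_normalizer_sylow S
  have h2 : Subgroup.zpowers x ⊓ Subgroup.normalizer ((S : Subgroup G) : Set G)
      = Subgroup.zpowers x := inf_eq_left.mpr hle
  have h3 : Subgroup.zpowers x ≤ (S : Subgroup G) := by
    rw [← inf_eq_left]
    rw [← h1]
    exact h2
  exact h3 (Subgroup.mem_zpowers x)

theorem se_transitive (hs : IsSimpleGroup G) (hna : ∃ a b : G, a * b ≠ b * a) (S : Sylow 2 G)
    (hexp : ∀ x ∈ (S : Subgroup G), x ^ 2 = 1)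
    (hn : ∀ s ∈ (S : Subgroup G), s ≠ 1 → ∀ c : G, c * s = s * c →
      ∀ s' ∈ (S : Subgroup G), c * s' * c⁻¹ ∈ (S : Subgroup G)) :
    ∀ s ∈ (S : Subgroup G), s ≠ 1 → ∀ t ∈ (S : Subgroup G), t ≠ 1 →
      ∃ n ∈ Subgroup.normalizer ((S : Subgroup G) : Set G), n * s * n⁻¹ = t := by
  have := hs
  have : Fact (Nat.Prime 2) := ⟨Nat.prime_two⟩
  have hsq : ∀ x ∈ (S : Subgroup G), x * x = 1 := fun x hx => by
    rw [← pow_two]; exact hexp x hx
  -- S is abelian
  have hab : ∀ x ∈ (S : Subgroup G), ∀ y ∈ (S : Subgroup G), x * y = y * x := by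
    intro x hx y hy
    have hxi : x⁻¹ = x := inv_eq_of_mul_eq_one_right (hsq x hx)
    have hyi : y⁻¹ = y := inv_eq_of_mul_eq_one_right (hsq y hy)
    have hxyi : (x * y)⁻¹ = x * y :=
      inv_eq_of_mul_eq_one_right (hsq (x * y) ((S : Subgroup G).mul_mem hx hy))
    rw [← hxyi, mul_inv_rev, hxi, hyi]
  -- (a) TI
  have hTI : ∀ s ∈ (S : Subgroup G), s ≠ 1 → ∀ g : G, g * s * g⁻¹ ∈ (S : Subgroup G) →
      g ∈ Subgroup.normalizer ((S : Subgroup G) : Set G) := by
    intro s hsS hne g hg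
    have hs'ne : g * s * g⁻¹ ≠ 1 := by
      intro h
      apply hne
      have : s = g⁻¹ * (g * s * g⁻¹) * g := by group
      rw [this, h]; group
    have hQle : (S : Subgroup G).map (MulAut.conj g).toMonoidHom
        ≤ Subgroup.normalizer ((S : Subgroup G) : Set G) := by
      rintro _ ⟨x, hx, rfl⟩
      apply mem_normalizer_of_conj_mem
      intro y hy
      apply hn (g * s * g⁻¹) hg hs'ne _ _ y hy
      show g * x * g⁻¹ * (g * s * g⁻¹) = g * s * g⁻¹ * (g * x * g⁻¹)
      have h1 : g * x * g⁻¹ * (g * s * g⁻¹) = g * (x * s) * g⁻¹ := by group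
      have h2 : g * s * g⁻¹ * (g * x * g⁻¹) = g * (s * x) * g⁻¹ := by group
      rw [h1, h2, hab x hx s hsS]
    have hQp : IsPGroup 2 ((S : Subgroup G).map (MulAut.conj g).toMonoidHom) := S.2.map _
    have h1 := hQp.inf_normalizer_sylow S
    have h2 : (S : Subgroup G).map (MulAut.conj g).toMonoidHom ⊓
        Subgroup.normalizer ((S : Subgroup G) : Set G)
        = (S : Subgroup G).map (MulAut.conj g).toMonoidHom := inf_eq_left.mpr hQle
    have h3 : (S : Subgroup G).map (MulAut.conj g).toMonoidHom ≤ (S : Subgroup G) := by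
      rw [← inf_eq_left]
      rw [← h1]
      exact h2
    apply mem_normalizer_of_conj_mem
    intro x hx
    exact h3 ⟨x, hx, rfl⟩
  intro s hsS hs1 t htS ht1
  -- (b) an involution outside the normalizer
  have hex : ∃ u : G, u * u = 1 ∧ u ≠ 1 ∧
      u ∉ Subgroup.normalizer ((S : Subgroup G) : Set G) := by
    by_contra hall
    push Not at hall
    -- every involution lies in S
    have hI : ∀ u : G, u * u = 1 → u ∈ (S : Subgroup G) := by
      intro u hu
      by_cases hu1 : u = 1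
      · rw [hu1]; exact (S : Subgroup G).one_mem
      · exact mem_sylow_of_mem_normalizer S u hu (hall u hu hu1)
    have hle : Subgroup.normalClosure {u : G | u * u = 1} ≤ (S : Subgroup G) := by
      rw [Subgroup.normalClosure, Subgroup.closure_le]
      intro a ha
      rw [Group.mem_conjugatesOfSet_iff] at ha
      obtain ⟨b, hb, hba⟩ := ha
      obtain ⟨c, rfl⟩ := isConj_iff.mp hba
      apply hI
      have hb' : b * b = 1 := hb
      have : c * b * c⁻¹ * (c * b * c⁻¹) = c * (b * b) * c⁻¹ := by group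
      rw [this, hb']; group
    have hsmem : s ∈ Subgroup.normalClosure {u : G | u * u = 1} :=
      Subgroup.subset_normalClosure (hsq s hsS)
    rcases Subgroup.Normal.eq_bot_or_eq_top
        (Subgroup.normalClosure_normal (s := {u : G | u * u = 1})) with h | h
    · rw [h, Subgroup.mem_bot] at hsmem
      exact hs1 hsmem
    · obtain ⟨a, b, hab'⟩ := hna
      apply hab'
      apply hab a (hle (by rw [h]; trivial)) b (hle (by rw [h]; trivial))
  obtain ⟨u, huu, hu1, huN⟩ := hex
  -- (c) every s in S# is conjugate to u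
  have hconj : ∀ s ∈ (S : Subgroup G), s ≠ 1 → ∃ g : G, u = g * s * g⁻¹ := by
    intro s hsS hs1
    apply Cfsg.Agent.Lib.Helper9.dih_conj_of_odd (hsq s hsS) huu
    by_contra hodd
    rw [Nat.not_odd_iff_even] at hodd
    obtain ⟨m, hm⟩ := hodd
    have hmpos : 0 < m := by
      have := orderOf_pos (s * u)
      omega
    obtain ⟨hzz, hz1, hsz, huz⟩ :=
      Cfsg.Agent.Lib.Helper9.dih_central_invol (hsq s hsS) huu hmpos hm
    set z := (s * u) ^ m with hz
    -- z normalizes S, hence lies in S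
    have hzN : z ∈ Subgroup.normalizer ((S : Subgroup G) : Set G) := by
      apply mem_normalizer_of_conj_mem
      intro y hy
      exact hn s hsS hs1 z hsz.symm y hy
    have hzS : z ∈ (S : Subgroup G) := mem_sylow_of_mem_normalizer S z hzz hzN
    apply huN
    apply mem_normalizer_of_conj_mem
    intro y hy
    exact hn z hzS hz1 u huz y hy
  obtain ⟨g, hg⟩ := hconj s hsS hs1
  obtain ⟨h, hh⟩ := hconj t htS ht1
  have hts : (h⁻¹ * g) * s * (h⁻¹ * g)⁻¹ = t := by
    have : (h⁻¹ * g) * s * (h⁻¹ * g)⁻¹ = h⁻¹ * (g * s * g⁻¹) * h := by group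
    rw [this, ← hg, hh]; group
  refine ⟨h⁻¹ * g, ?_, hts⟩
  apply hTI s hsS hs1
  rw [hts]
  exact htS

end Cfsg.Agent.Lib.Helper9.AO
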