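import Mathlib
import Cfsg.Agent.Lib.Helper1.AODefs
import Cfsg.Agent.Lib.Helper9.AOT16

set_option autoImplicit false

open Cfsg.Agent.Lib.Helper1.AO

universe u

namespace Cfsg.Agent.Lib.Helper9.AO

variable {G : Type u} [Group G] [Finite G]

theorem card_subgroup_ne_one (H : Subgroup G) :
    Nat.card {s : G // s ∈ H ∧ s ≠ 1} = Nat.card H - 1 := by
  have h1 : {s : G | s ∈ H ∧ s ≠ 1} = (H : Set G) \ {1} := by
    ext s
    simp
  have h2 : Nat.card {s : G // s ∈ H ∧ s ≠ 1} = ({s : G | s ∈ H ∧ s ≠ 1}).ncard :=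
    Nat.card_coe_set_eq _
  rw [h2, h1, Set.ncard_sdiff_singleton_of_mem (H.one_mem)]
  congr 1

theorem case2_card_normalizer (S : Sylow 2 G) (t : G) (hts : t ∈ (S : Subgroup G)) (ht1 : t ≠ 1)
    (hab : ∀ x ∈ (S : Subgroup G), ∀ y ∈ (S : Subgroup G), x * y = y * x)
    (hn : ∀ c : G, c * t = t * c → ∀ s ∈ (S : Subgroup G), c * s * c⁻¹ ∈ (S : Subgroup G))
    (htr : ∀ s ∈ (S : Subgroup G), s ≠ 1 → ∃ n ∈ Subgroup.normalizer ((S : Subgroup G) : Set G), n * t * n⁻¹ = s) :
    Nat.card (Subgroup.normalizer ((S : Subgroup G) : Set G)) = (Nat.card (S : Subgroup G) - 1) * cz t := by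
  set M := Subgroup.normalizer ((S : Subgroup G) : Set G) with hM
  set C := Subgroup.centralizer ({t} : Set G) with hC
  have hCM : C ≤ M := by
    intro c hc
    apply mem_normalizer_of_conj_mem
    intro s hs
    apply hn c _ s hs
    rw [hC, Subgroup.mem_centralizer_iff] at hc
    exact (hc t (Set.mem_singleton t)).symm
  -- conjugates of t by elements of M lie in S minus 1
  have hmem : ∀ n : M, (n : G) * t * (n : G)⁻¹ ∈ (S : Subgroup G) ∧ (n : G) * t * (n : G)⁻¹ ≠ 1 := by
    intro n
    constructor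
    · exact ((Subgroup.mem_normalizer_iff.mp n.2) t).mp hts
    · intro h
      apply ht1
      have : t = (n : G)⁻¹ * ((n : G) * t * (n : G)⁻¹) * (n : G) := by group
      rw [this, h]; group
  let f : M → {s : G // s ∈ (S : Subgroup G) ∧ s ≠ 1} := fun n => ⟨(n : G) * t * (n : G)⁻¹, hmem n⟩
  have hf : ∀ a b : M, f a = f b ↔ a⁻¹ * b ∈ C.subgroupOf M := by
    intro a b
    rw [Subgroup.mem_subgroupOf, hC, Subgroup.mem_centralizer_iff]
    simp only [f, Subtype.mk.injEq, Set.mem_singleton_iff, forall_eq, Subgroup.coe_mul,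
      Subgroup.coe_inv]
    constructor
    · intro h
      have : t * ((a : G)⁻¹ * b) = (a : G)⁻¹ * ((a : G) * t * (a : G)⁻¹) * b := by group
      rw [this, h]; group
    · intro h
      have h2 : (b : G) * t * (b : G)⁻¹ = (a : G) * (((a : G)⁻¹ * b) * t) * (b : G)⁻¹ := by group
      rw [h2, ← h]; group
  let fq : M ⧸ C.subgroupOf M → {s : G // s ∈ (S : Subgroup G) ∧ s ≠ 1} :=
    Quotient.lift f (by
      intro a b hab'
      rw [hf]
      exact QuotientGroup.leftRel_apply.mp hab')
  have hfq_inj : Function.Injective fq := by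
    intro x y hxy
    induction x using Quotient.inductionOn with
    | h a =>
      induction y using Quotient.inductionOn with
      | h b =>
        have : f a = f b := hxy
        rw [hf] at this
        exact Quotient.sound (QuotientGroup.leftRel_apply.mpr this)
  have hfq_surj : Function.Surjective fq := by
    rintro ⟨s, hs, hs1⟩
    obtain ⟨n, hnM, hns⟩ := htr s hs hs1
    refine ⟨Quotient.mk _ ⟨n, hnM⟩, ?_⟩
    apply Subtype.ext
    exact hns
  have hcardq : Nat.card (M ⧸ C.subgroupOf M) = Nat.card (S : Subgroup G) - 1 := by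
    rw [Nat.card_congr (Equiv.ofBijective fq ⟨hfq_inj, hfq_surj⟩)]
    exact card_subgroup_ne_one _
  have hcardC : Nat.card (C.subgroupOf M) = cz t := by
    rw [cz]
    exact Nat.card_congr (Subgroup.subgroupOfEquivOfLe hCM).toEquiv
  rw [Subgroup.card_eq_card_quotient_mul_card_subgroup (C.subgroupOf M), hcardq, hcardC]

end Cfsg.Agent.Lib.Helper9.AO
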