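import Cfsg.Agent.Lib.Helper9.AbCb

set_option autoImplicit false

/-!
# S2202: Hyp passes to subgroups containing `T` and not normalizing it; the odd parts of
the centralizers of two non-commuting involutions with a common nontrivial centralizing element
coincide (induction hypothesis used in `C_G(c)`).
-/

namespace Cfsg.Agent.Lib.Helper9.AbC

open Cfsg Cfsg.Agent.Lib.Lead Cfsg.Agent.Lib.Lead.SE

universe u

/-- `Hyp` passes to a subgroup `M ≥ T` not contained in `N_G(T)` -/
theorem hyp_subgroup {G : Type*} [Group G] [Finite G] {T : Sylow 2 G} (h : Hyp T)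
    (M : Subgroup G) (hTM : (T : Subgroup G) ≤ M)
    (hn : ¬ M ≤ Subgroup.normalizer ((T : Subgroup G) : Set G)) : Hyp (T.subtype hTM) := by
  refine ⟨?_, ?_, ?_⟩
  · intro hcyc
    apply h.nc
    rw [Sylow.coe_subtype] at hcyc
    exact (Subgroup.subgroupOfEquivOfLe hTM).isCyclic.mp hcyc
  · intro hnorm
    apply hn
    rw [Sylow.coe_subtype] at hnorm
    intro m hm
    have key : ∀ m : G, m ∈ M → ∀ τ ∈ T, m * τ * m⁻¹ ∈ T := by
      intro m hm τ hτ
      have h1 : (⟨τ, hTM hτ⟩ : M) ∈ (T : Subgroup G).subgroupOf M := by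
        rw [Subgroup.mem_subgroupOf]; exact hτ
      have h2 := hnorm.conj_mem _ h1 ⟨m, hm⟩
      rw [Subgroup.mem_subgroupOf] at h2
      have h3 : m * τ * m⁻¹ ∈ (T : Subgroup G) := by simpa using h2
      exact h3
    rw [Subgroup.mem_normalizer_iff]
    intro τ
    constructor
    · intro hτ; exact key m hm τ hτ
    · intro hτ
      have := key m⁻¹ (M.inv_mem hm) _ hτ
      have e : m⁻¹ * (m * τ * m⁻¹) * m⁻¹⁻¹ = τ := by group
      rw [e] at this
      exact this
  · intro τ hτ a b ha hb
    apply Subtype.ext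
    have hτ' : orderOf (τ : G) = 2 := by rw [Subgroup.orderOf_coe]; exact hτ
    exact h.ab (τ : G) hτ' a b (congrArg Subtype.val ha) (congrArg Subtype.val hb)

theorem odd_cent_le_aux {G : Type u} [Group G] [Finite G] {T : Sylow 2 G} (h : Hyp T)
    (hcore : (Subgroup.normalizer ((T : Subgroup G) : Set G)).normalCore = ⊥)
    (IH : ∀ (M : Type u) [Group M] [Finite M], Nat.card M < Nat.card G →
      ∀ T' : Sylow 2 M, Hyp T' → Concl T')
    {s t c : G} (hsT : s ∈ T) (hs : orderOf s = 2) (ht : orderOf t = 2) (hc1 : c ≠ 1)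
    (hcs : c * s = s * c) (hct : c * t = t * c) (hst : s * t ≠ t * s)
    {e : G} (heo : Odd (orderOf e)) (hes : e * s = s * e) : e * t = t * e := by
  have hs1 : s ≠ 1 := by
    intro h1; rw [h1, orderOf_one] at hs; omega
  have hcT : ∀ τ ∈ T, c * τ = τ * c := fun τ hτ => h.cent_of_comm hsT hs1 hcs hτ
  set M₀ : Subgroup G := Subgroup.centralizer {c} with hM₀
  have hmem : ∀ g : G, g ∈ M₀ ↔ c * g = g * c := by
    intro g
    rw [hM₀, Subgroup.mem_centralizer_iff]
    constructor
    · intro hg; exact hg c rfl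
    · intro hg x hx
      rw [Set.mem_singleton_iff] at hx; subst hx; exact hg
  have hTM : (T : Subgroup G) ≤ M₀ := fun τ hτ => (hmem τ).mpr (hcT τ hτ)
  have htM : t ∈ M₀ := (hmem t).mpr hct
  have htH : t ∉ Subgroup.normalizer ((T : Subgroup G) : Set G) :=
    fun htH => hst (h.comm hsT (h.invol_mem ht htH))
  have hn : ¬ M₀ ≤ Subgroup.normalizer ((T : Subgroup G) : Set G) := fun hle => htH (hle htM)
  have h₀ := hyp_subgroup h M₀ hTM hn
  have hne : M₀ ≠ ⊤ := by
    intro htop
    have hcen : ∀ g : G, c * g = g * c := by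
      intro g
      apply (hmem g).mp
      rw [htop]; trivial
    have hcH : c ∈ Subgroup.normalizer ((T : Subgroup G) : Set G) := by
      apply centralizer_le h.se hs (Subgroup.le_normalizer hsT)
      rw [Subgroup.mem_centralizer_iff]
      intro x hx
      rw [Set.mem_singleton_iff] at hx; subst hx; exact hcs.symm
    have hcc : c ∈ (Subgroup.normalizer ((T : Subgroup G) : Set G)).normalCore := by
      intro b
      have : b * c * b⁻¹ = c := by rw [← hcen b]; group
      rw [this]; exact hcH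
    rw [hcore] at hcc
    exact hc1 (Subgroup.mem_bot.mp hcc)
  have hlt : Nat.card M₀ < Nat.card G :=
    lt_of_not_ge (fun hle => hne (Subgroup.eq_top_of_le_card _ hle))
  have hc₀ := IH M₀ hlt (T.subtype hTM) h₀
  have hec : e * c = c * e := h.ab s hs e c hes hcs
  have heM : e ∈ M₀ := (hmem e).mpr hec.symm
  have heT : ∀ τ ∈ T, e * τ = τ * e := fun τ hτ => h.cent_of_comm hsT hs1 hes hτ
  have hcm := hc₀.core ⟨e, heM⟩ (by
    intro τ hτ
    apply Subtype.ext
    have hτ' : (τ : G) ∈ T := by
      have : τ ∈ ((T.subtype hTM : Sylow 2 M₀) : Subgroup M₀) := hτ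
      rw [Sylow.coe_subtype, Subgroup.mem_subgroupOf] at this
      exact this
    exact heT _ hτ') (by rw [Subgroup.orderOf_mk]; exact heo)
  have hfin := h₀.core_cent_invol hcm (t := ⟨t, htM⟩) (by rw [Subgroup.orderOf_mk]; exact ht)
  exact congrArg Subtype.val hfin

/-- two non-commuting involutions `s`, `t` both centralized by `c ≠ 1`: the odd order elements
of `C(s)` lie in `C(t)` -/
theorem odd_cent_le {G : Type u} [Group G] [Finite G] {T : Sylow 2 G} (h : Hyp T)
    (hcore : (Subgroup.normalizer ((T : Subgroup G) : Set G)).normalCore = ⊥)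
    (IH : ∀ (M : Type u) [Group M] [Finite M], Nat.card M < Nat.card G →
      ∀ T' : Sylow 2 M, Hyp T' → Concl T')
    {s t c : G} (hs : orderOf s = 2) (ht : orderOf t = 2) (hc1 : c ≠ 1)
    (hcs : c * s = s * c) (hct : c * t = t * c) (hst : s * t ≠ t * s)
    {e : G} (heo : Odd (orderOf e)) (hes : e * s = s * e) : e * t = t * e := by
  obtain ⟨g, hg⟩ := KleinSylow.conj_mem_sylow T s hs
  have conj_comm : ∀ a b : G, a * b = b * a → (g * a * g⁻¹) * (g * b * g⁻¹) =
      (g * b * g⁻¹) * (g * a * g⁻¹) := by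
    intro a b hab
    have e1 : (g * a * g⁻¹) * (g * b * g⁻¹) = g * (a * b) * g⁻¹ := by group
    have e2 : (g * b * g⁻¹) * (g * a * g⁻¹) = g * (b * a) * g⁻¹ := by group
    rw [e1, e2, hab]
  have conj_comm' : ∀ a b : G, (g * a * g⁻¹) * (g * b * g⁻¹) =
      (g * b * g⁻¹) * (g * a * g⁻¹) → a * b = b * a := by
    intro a b hab
    have e1 : (g * a * g⁻¹) * (g * b * g⁻¹) = g * (a * b) * g⁻¹ := by group
    have e2 : (g * b * g⁻¹) * (g * a * g⁻¹) = g * (b * a) * g⁻¹ := by group
    rw [e1, e2] at hab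
    exact mul_left_cancel (mul_right_cancel hab)
  apply conj_comm'
  apply odd_cent_le_aux h hcore IH hg (s := g * s * g⁻¹) (c := g * c * g⁻¹)
  · rw [orderOf_conj_eq]; exact hs
  · rw [orderOf_conj_eq]; exact ht
  · intro h1
    apply hc1
    have : c = g⁻¹ * (g * c * g⁻¹) * g := by group
    rw [this, h1]; group
  · exact conj_comm c s hcs
  · exact conj_comm c t hct
  · intro hh; exact hst (conj_comm' s t hh)
  · rw [orderOf_conj_eq]; exact heo
  · exact conj_comm e s hes

end Cfsg.Agent.Lib.Helper9.AbC
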