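import Mathlib

set_option autoImplicit false
set_option linter.unusedSectionVars false
set_option linter.unusedVariables false
set_option linter.style.longLine false
set_option linter.unusedSimpArgs false

set_option maxHeartbeats 1600000
namespace Cfsg.Agent.Lib.Helper9.Hkk

/-! Graded families of additive subgroups in a Lie ring; Kreknin's theorem. -/

variable {M : Type*} [LieRing M] {n : ℕ} [NeZero n]

/-- bracket-closed family with trivial zero component -/
structure Closed (F : ZMod n → AddSubgroup M) : Prop where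
  lie : ∀ i j, ∀ a ∈ F i, ∀ b ∈ F j, ⁅a, b⁆ ∈ F (i + j)
  zero : F 0 = ⊥

/-- derived family -/
def der (F : ZMod n → AddSubgroup M) : ZMod n → AddSubgroup M := fun k =>
  AddSubgroup.closure {x | ∃ i j, i + j = k ∧ ∃ a ∈ F i, ∃ b ∈ F j, ⁅a, b⁆ = x}

theorem der_le {F : ZMod n → AddSubgroup M} (hF : Closed F) (k : ZMod n) : der F k ≤ F k := by
  apply (AddSubgroup.closure_le _).2
  rintro x ⟨i, j, hij, a, ha, b, hb, rfl⟩
  rw [← hij]; exact hF.lie i j a ha b hb

theorem der_closed {F : ZMod n → AddSubgroup M} (hF : Closed F) : Closed (der F) := by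
  constructor
  · intro i j a ha b hb
    exact AddSubgroup.subset_closure ⟨i, j, rfl, a, der_le hF i ha, b, der_le hF j hb, rfl⟩
  · rw [eq_bot_iff]; exact (der_le hF 0).trans (le_of_eq hF.zero)

/-- iterated derived family -/
def derN (F : ZMod n → AddSubgroup M) (s : ℕ) : ZMod n → AddSubgroup M := (der^[s]) F

theorem derN_zero (F : ZMod n → AddSubgroup M) : derN F 0 = F := rfl

theorem derN_succ (F : ZMod n → AddSubgroup M) (s : ℕ) : derN F (s + 1) = der (derN F s) := by
  unfold derN; rw [Function.iterate_succ_apply']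

theorem derN_succ' (F : ZMod n → AddSubgroup M) (s : ℕ) : derN F (s + 1) = derN (der F) s := by
  unfold derN; rw [Function.iterate_succ_apply]

theorem derN_add (F : ZMod n → AddSubgroup M) (s t : ℕ) : derN F (s + t) = derN (derN F s) t := by
  unfold derN; rw [add_comm, Function.iterate_add_apply]

theorem derN_closed {F : ZMod n → AddSubgroup M} (hF : Closed F) (s : ℕ) : Closed (derN F s) := by
  induction s with
  | zero => exact hF
  | succ s ih => rw [derN_succ]; exact der_closed ih

theorem derN_le {F : ZMod n → AddSubgroup M} (hF : Closed F) (s : ℕ) (k : ZMod n) :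
    derN F s k ≤ F k := by
  induction s with
  | zero => exact le_rfl
  | succ s ih => rw [derN_succ]; exact (der_le (derN_closed hF s) k).trans ih

/-- degree-`u` part of the subring generated by the components of degree `≥ k` -/
inductive Gen (F : ZMod n → AddSubgroup M) (k : ℕ) : ZMod n → M → Prop
  | base {u : ZMod n} {c : M} : c ∈ F u → k ≤ u.val → Gen F k u c
  | lie {u v : ZMod n} {a b : M} : Gen F k u a → Gen F k v b → Gen F k (u + v) ⁅a, b⁆
  | add {u : ZMod n} {a b : M} : Gen F k u a → Gen F k u b → Gen F k u (a + b)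
  | zero {u : ZMod n} : Gen F k u 0
  | neg {u : ZMod n} {a : M} : Gen F k u a → Gen F k u (-a)

theorem Gen.mem {F : ZMod n → AddSubgroup M} (hF : Closed F) {k : ℕ} {u : ZMod n} {a : M}
    (h : Gen F k u a) : a ∈ F u := by
  induction h with
  | base hc _ => exact hc
  | lie _ _ iha ihb => exact hF.lie _ _ _ iha _ ihb
  | add _ _ iha ihb => exact add_mem iha ihb
  | zero => exact zero_mem _
  | neg _ ih => exact neg_mem ih

theorem Gen.cast {F : ZMod n → AddSubgroup M} {k : ℕ} {u v : ZMod n} {a : M}
    (h : Gen F k u a) (huv : u = v) : Gen F k v a := huv ▸ h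

theorem val_natCast_lt {k : ℕ} (hk : k < n) : ((k : ℕ) : ZMod n).val = k :=
  ZMod.val_natCast_of_lt hk

/-- key lemma -/
theorem lemmaK {F : ZMod n → AddSubgroup M} (hF : Closed F) {k : ℕ} (hk : k < n)
    {i : ZMod n} {a : M} (ha : Gen F k i a) :
    ∀ (j : ZMod n) (b : M), b ∈ F j → i + j = (k : ZMod n) → Gen F (k + 1) (k : ZMod n) ⁅a, b⁆ := by
  induction ha with
  | @base u c hc hku =>
    intro j b hb hij
    rcases Nat.eq_or_lt_of_le hku with h | h
    · -- u.val = k
      have hu : u = (k : ZMod n) := by rw [h, ZMod.natCast_zmod_val]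
      have hj : j = 0 := by rw [hu] at hij; simpa using hij
      rw [hj, hF.zero] at hb
      have : b = 0 := by simpa using hb
      rw [this, lie_zero]; exact Gen.zero
    · -- k < u.val
      have hjv : k + 1 ≤ j.val := by
        have h1 : (u + j).val = k := by rw [hij, val_natCast_lt hk]
        rw [ZMod.val_add] at h1
        have hu := ZMod.val_lt u
        have hj := ZMod.val_lt j
        rcases Nat.lt_or_ge (u.val + j.val) n with h2 | h2
        · rw [Nat.mod_eq_of_lt h2] at h1; omega
        · rw [Nat.mod_eq_sub_mod h2, Nat.mod_eq_of_lt (by omega)] at h1; omega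
      exact (Gen.lie (Gen.base hc h) (Gen.base hb hjv)).cast hij
  | @lie u v a1 a2 h1 h2 ih1 ih2 =>
    intro j b hb hij
    rw [lie_lie]
    have hb1 : ⁅a2, b⁆ ∈ F (v + j) := hF.lie _ _ _ (h2.mem hF) _ hb
    have hb2 : ⁅a1, b⁆ ∈ F (u + j) := hF.lie _ _ _ (h1.mem hF) _ hb
    have e1 := ih1 (v + j) _ hb1 (by rw [← hij]; ring)
    have e2 := ih2 (u + j) _ hb2 (by rw [← hij]; ring)
    rw [sub_eq_add_neg]
    exact Gen.add e1 (Gen.neg e2)
  | add _ _ ih1 ih2 =>
    intro j b hb hij
    rw [add_lie]; exact Gen.add (ih1 j b hb hij) (ih2 j b hb hij)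
  | zero =>
    intro j b hb hij
    rw [zero_lie]; exact Gen.zero
  | neg _ ih =>
    intro j b hb hij
    rw [neg_lie]; exact Gen.neg (ih j b hb hij)

/-- `Gen` of a smaller family with higher threshold, given control of the threshold component. -/
theorem Gen.upgrade {F F' : ZMod n → AddSubgroup M} (hle : ∀ u, F' u ≤ F u) {k : ℕ}
    (hkey : ∀ c, c ∈ F' (k : ZMod n) → Gen F (k + 1) (k : ZMod n) c)
    {i : ZMod n} {x : M} (h : Gen F' k i x) : Gen F (k + 1) i x := by
  induction h with
  | @base u c hc hku =>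
    rcases Nat.eq_or_lt_of_le hku with h | h
    · have hu : u = (k : ZMod n) := by rw [h, ZMod.natCast_zmod_val]
      rw [hu] at hc ⊢
      exact hkey c hc
    · exact Gen.base (hle u hc) h
  | lie _ _ ih1 ih2 => exact Gen.lie ih1 ih2
  | add _ _ ih1 ih2 => exact Gen.add ih1 ih2
  | zero => exact Gen.zero
  | neg _ ih => exact Gen.neg ih

theorem kreknin_D : ∀ (k : ℕ), k < n → ∀ (F : ZMod n → AddSubgroup M), Closed F →
    ∀ (i : ZMod n) (x : M), x ∈ derN F (2 ^ k - 1) i → Gen F (k + 1) i x := by
  intro k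
  induction k with
  | zero =>
    intro _ F hF i x hx
    simp only [pow_zero, Nat.sub_self, derN_zero] at hx
    by_cases hi : i = 0
    · rw [hi, hF.zero] at hx
      have : x = 0 := by simpa using hx
      rw [this]; exact Gen.zero
    · refine Gen.base hx ?_
      have : i.val ≠ 0 := fun h => hi ((ZMod.val_eq_zero i).1 h)
      omega
  | succ k ih =>
    intro hk F hF i x hx
    have hk' : k < n := by omega
    set s := 2 ^ k with hs
    have hspos : 1 ≤ s := Nat.one_le_two_pow
    -- C(k+1)
    have hC : ∀ c, c ∈ derN F s ((k + 1 : ℕ) : ZMod n) →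
        Gen F (k + 1 + 1) ((k + 1 : ℕ) : ZMod n) c := by
      intro c hc
      have e : s = (s - 1) + 1 := by omega
      rw [e, derN_succ] at hc
      refine AddSubgroup.closure_induction (p := fun c _ => Gen F (k + 1 + 1) ((k + 1 : ℕ) : ZMod n) c)
        ?_ ?_ ?_ ?_ hc
      · rintro y ⟨i', j', hij, a, ha, b, hb, rfl⟩
        have ga := ih hk' F hF i' a ha
        have hb' : b ∈ F j' := derN_le hF _ _ hb
        exact lemmaK hF hk ga j' b hb' hij
      · exact Gen.zero
      · intro _ _ _ _ h1 h2; exact Gen.add h1 h2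
      · intro _ _ h1; exact Gen.neg h1
    have e2 : 2 ^ (k + 1) - 1 = s + (s - 1) := by rw [pow_succ]; omega
    rw [e2, derN_add] at hx
    have g := ih hk' (derN F s) (derN_closed hF s) i x hx
    exact Gen.upgrade (fun u => derN_le hF s u) hC g

theorem Gen.eq_zero_of_ge {F : ZMod n → AddSubgroup M} {k : ℕ} (hk : n ≤ k) {i : ZMod n} {x : M}
    (h : Gen F k i x) : x = 0 := by
  induction h with
  | @base u c hc hku => exact absurd (ZMod.val_lt u) (by omega)
  | lie _ _ ih1 ih2 => rw [ih1, ih2, lie_zero]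
  | add _ _ ih1 ih2 => rw [ih1, ih2, add_zero]
  | zero => rfl
  | neg _ ih => rw [ih, neg_zero]

/-- Kreknin's theorem. -/
theorem kreknin {F : ZMod n → AddSubgroup M} (hF : Closed F) (i : ZMod n) :
    derN F (2 ^ (n - 1) - 1) i = ⊥ := by
  rw [eq_bot_iff]
  intro x hx
  have hn : 0 < n := Nat.pos_of_ne_zero (NeZero.ne n)
  have g := kreknin_D (n - 1) (by omega) F hF i x hx
  have : x = 0 := g.eq_zero_of_ge (by omega)
  simpa using this

end Cfsg.Agent.Lib.Helper9.Hkk
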