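import Mathlib
import Cfsg.Agent.Lib.Helper9.HkkA

set_option autoImplicit false
set_option linter.unusedSectionVars false
set_option linter.unusedVariables false
set_option linter.style.longLine false
set_option linter.unusedSimpArgs false

set_option maxHeartbeats 1600000
namespace Cfsg.Agent.Lib.Helper9.Hkk

/-! Solvable graded Lie rings with trivial zero component (prime grading) are nilpotent. -/
open scoped Pointwise

variable {M : Type*} [LieRing M] {n : ℕ} [NeZero n]

/-- homogeneous elements -/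
def hom (F : ZMod n → AddSubgroup M) : Set M := {x | ∃ k, x ∈ F k}

/-- left-normed bracket -/
def lbr (x : M) (ys : List M) : M := ys.foldl (fun a y => ⁅a, y⁆) x

@[simp] theorem lbr_nil (x : M) : lbr x [] = x := rfl
@[simp] theorem lbr_cons (x y : M) (ys : List M) : lbr x (y :: ys) = lbr ⁅x, y⁆ ys := rfl

theorem lbr_append (x : M) (l1 l2 : List M) : lbr x (l1 ++ l2) = lbr (lbr x l1) l2 := by
  unfold lbr; rw [List.foldl_append]

theorem lbr_zero (ys : List M) : lbr (0 : M) ys = 0 := by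
  induction ys with
  | nil => rfl
  | cons y ys ih => rw [lbr_cons, zero_lie, ih]

theorem lbr_add (a b : M) (ys : List M) : lbr (a + b) ys = lbr a ys + lbr b ys := by
  induction ys generalizing a b with
  | nil => rfl
  | cons y ys ih => rw [lbr_cons, lbr_cons, lbr_cons, add_lie, ih]

theorem lbr_neg (a : M) (ys : List M) : lbr (-a) ys = -lbr a ys := by
  induction ys generalizing a with
  | nil => rfl
  | cons y ys ih => rw [lbr_cons, lbr_cons, neg_lie, ih]

theorem lbr_sub (a b : M) (ys : List M) : lbr (a - b) ys = lbr a ys - lbr b ys := by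
  rw [sub_eq_add_neg, lbr_add, lbr_neg, ← sub_eq_add_neg]

theorem lbr_nsmul (k : ℕ) (a : M) (ys : List M) : lbr (k • a) ys = k • lbr a ys := by
  induction ys generalizing a with
  | nil => rfl
  | cons y ys ih => rw [lbr_cons, lbr_cons, nsmul_lie, ih]

theorem lbr_of_zero_mem {a : M} {ys : List M} (h : (0 : M) ∈ ys) : lbr a ys = 0 := by
  obtain ⟨l1, l2, rfl⟩ := List.append_of_mem h
  rw [lbr_append, lbr_cons, lie_zero, lbr_zero]

theorem lie_swap (a z y : M) : ⁅⁅a, z⁆, y⁆ = ⁅⁅a, y⁆, z⁆ + ⁅a, ⁅z, y⁆⁆ := by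
  rw [lie_lie, sub_eq_add_neg, lie_skew, add_comm]

/-- nilpotency: all left-normed brackets of `c + 1` homogeneous elements vanish -/
def Nil (c : ℕ) (F : ZMod n → AddSubgroup M) : Prop :=
  ∀ x ∈ hom F, ∀ ys : List M, ys.length = c → (∀ y ∈ ys, y ∈ hom F) → lbr x ys = 0

open Classical in
/-- a chosen degree -/
noncomputable def dg (F : ZMod n → AddSubgroup M) (y : M) : ZMod n :=
  if h : ∃ k, y ∈ F k then h.choose else 0

theorem dg_spec {F : ZMod n → AddSubgroup M} {y : M} (h : y ∈ hom F) : y ∈ F (dg F y) := by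
  have h' : ∃ k, y ∈ F k := h
  unfold dg; rw [dif_pos h']; exact h'.choose_spec

theorem lbr_mem {F : ZMod n → AddSubgroup M} (hF : Closed F) : ∀ (ys : List M) (x : M) (d : ZMod n),
    x ∈ F d → (∀ y ∈ ys, y ∈ hom F) → lbr x ys ∈ F (d + (ys.map (dg F)).sum) := by
  intro ys
  induction ys with
  | nil => intro x d hx _; simpa using hx
  | cons y ys ih =>
    intro x d hx hys
    rw [lbr_cons, List.map_cons, List.sum_cons, ← add_assoc]
    exact ih _ _ (hF.lie _ _ _ hx _ (dg_spec (hys y List.mem_cons_self)))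
      (fun z hz => hys z (List.mem_cons_of_mem _ hz))

theorem lbr_hom {F : ZMod n → AddSubgroup M} (hF : Closed F) {ys : List M} {x : M}
    (hx : x ∈ hom F) (hys : ∀ y ∈ ys, y ∈ hom F) : lbr x ys ∈ hom F := by
  obtain ⟨d, hd⟩ := hx
  exact ⟨_, lbr_mem hF ys x d hd hys⟩

/-- lower central series of the family `F'`, ungraded -/
def NS (F' : ZMod n → AddSubgroup M) : ℕ → AddSubgroup M
  | 0 => AddSubgroup.closure (hom F')
  | j + 1 => AddSubgroup.closure {x | ∃ a ∈ NS F' j, ∃ z ∈ hom F', ⁅a, z⁆ = x}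

theorem hom_der_lie {F : ZMod n → AddSubgroup M} (hF : Closed F) {z y : M}
    (hz : z ∈ hom (der F)) (hy : y ∈ hom F) : ⁅z, y⁆ ∈ hom (der F) := by
  obtain ⟨a, ha⟩ := hz
  obtain ⟨b, hb⟩ := hy
  exact ⟨a + b, AddSubgroup.subset_closure ⟨a, b, rfl, z, der_le hF a ha, y, hb, rfl⟩⟩

theorem hom_lie_der {F : ZMod n → AddSubgroup M} {y y' : M}
    (hy : y ∈ hom F) (hy' : y' ∈ hom F) : ⁅y, y'⁆ ∈ hom (der F) := by
  obtain ⟨a, ha⟩ := hy
  obtain ⟨b, hb⟩ := hy'
  exact ⟨a + b, AddSubgroup.subset_closure ⟨a, b, rfl, y, ha, y', hb, rfl⟩⟩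

theorem NS_lie {F : ZMod n → AddSubgroup M} (hF : Closed F) : ∀ (j : ℕ) (x : M),
    x ∈ NS (der F) j → ∀ y ∈ hom F, ⁅x, y⁆ ∈ NS (der F) j := by
  intro j
  induction j with
  | zero =>
    intro x hx y hy
    refine AddSubgroup.closure_induction (p := fun x _ => ⁅x, y⁆ ∈ NS (der F) 0) ?_ ?_ ?_ ?_ hx
    · intro z hz; exact AddSubgroup.subset_closure (hom_der_lie hF hz hy)
    · rw [zero_lie]; exact zero_mem _
    · intro a b _ _ ha hb; rw [add_lie]; exact add_mem ha hb
    · intro a _ ha; rw [neg_lie]; exact neg_mem ha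
  | succ j ih =>
    intro x hx y hy
    refine AddSubgroup.closure_induction (p := fun x _ => ⁅x, y⁆ ∈ NS (der F) (j + 1)) ?_ ?_ ?_ ?_ hx
    · rintro _ ⟨a, ha, z, hz, rfl⟩
      rw [lie_swap]
      refine add_mem ?_ ?_
      · exact AddSubgroup.subset_closure ⟨⁅a, y⁆, ih a ha y hy, z, hz, rfl⟩
      · exact AddSubgroup.subset_closure ⟨a, ha, ⁅z, y⁆, hom_der_lie hF hz hy, rfl⟩
    · rw [zero_lie]; exact zero_mem _
    · intro a b _ _ ha hb; rw [add_lie]; exact add_mem ha hb
    · intro a _ ha; rw [neg_lie]; exact neg_mem ha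

theorem NS_lbr {F : ZMod n → AddSubgroup M} (hF : Closed F) (j : ℕ) : ∀ (l : List M) (w : M),
    w ∈ NS (der F) j → (∀ y ∈ l, y ∈ hom F) → lbr w l ∈ NS (der F) j := by
  intro l
  induction l with
  | nil => intro w hw _; exact hw
  | cons y l ih =>
    intro w hw hl
    rw [lbr_cons]
    exact ih _ (NS_lie hF j w hw y (hl y List.mem_cons_self))
      (fun z hz => hl z (List.mem_cons_of_mem _ hz))

theorem NS_swap {F : ZMod n → AddSubgroup M} (j : ℕ) {a y y' : M} (ha : a ∈ NS (der F) j)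
    (hy : y ∈ hom F) (hy' : y' ∈ hom F) : ⁅⁅a, y⁆, y'⁆ - ⁅⁅a, y'⁆, y⁆ ∈ NS (der F) (j + 1) := by
  rw [lie_swap a y y', add_sub_cancel_left]
  exact AddSubgroup.subset_closure ⟨a, ha, ⁅y, y'⁆, hom_lie_der hy hy', rfl⟩

theorem NS_perm {F : ZMod n → AddSubgroup M} (hF : Closed F) (j : ℕ) {l l' : List M}
    (h : l.Perm l') : (∀ y ∈ l, y ∈ hom F) → ∀ a ∈ NS (der F) j,
      lbr a l - lbr a l' ∈ NS (der F) (j + 1) := by
  induction h with
  | nil => intro _ a _; rw [sub_self]; exact zero_mem _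
  | cons x _ ih =>
    intro hl a ha
    rw [lbr_cons, lbr_cons]
    exact ih (fun z hz => hl z (List.mem_cons_of_mem _ hz)) _
      (NS_lie hF j a ha x (hl x List.mem_cons_self))
  | swap x y l =>
    intro hl a ha
    rw [lbr_cons, lbr_cons, lbr_cons, lbr_cons, ← lbr_sub]
    have hy : y ∈ hom F := hl y List.mem_cons_self
    have hx : x ∈ hom F := hl x (List.mem_cons_of_mem _ List.mem_cons_self)
    refine NS_lbr hF (j + 1) l _ (NS_swap j ha hy hx) ?_
    intro z hz
    exact hl z (List.mem_cons_of_mem _ (List.mem_cons_of_mem _ hz))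
  | trans h1 _ ih1 ih2 =>
    intro hl a ha
    have hl2 : ∀ y ∈ _, y ∈ hom F := fun y hy => hl y (h1.mem_iff.2 hy)
    have := add_mem (ih1 hl a ha) (ih2 hl2 a ha)
    rwa [sub_add_sub_cancel] at this

open Classical in
theorem subset_sums_card {α : Type*} {p : ℕ} [hp : Fact p.Prime] (w : α → ZMod p) :
    ∀ (ys : List α), (∀ y ∈ ys, w y ≠ 0) →
      min p (ys.length + 1) ≤ (Finset.univ.filter (fun d : ZMod p =>
        ∃ l1 l2 : List α, ys.Perm (l1 ++ l2) ∧ (l1.map w).sum = d)).card := by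
  intro ys
  have hp2 := hp.out.two_le
  induction ys with
  | nil =>
    intro _
    have h0 : (0 : ZMod p) ∈ (Finset.univ.filter (fun d : ZMod p =>
        ∃ l1 l2 : List α, ([] : List α).Perm (l1 ++ l2) ∧ (l1.map w).sum = d)) := by
      simp only [Finset.mem_filter, Finset.mem_univ, true_and]
      exact ⟨[], [], by simp, by simp⟩
    have := Finset.card_pos.2 ⟨_, h0⟩
    simp only [List.length_nil, zero_add]
    omega
  | cons y ys ih =>
    intro h
    have hy : w y ≠ 0 := h y List.mem_cons_self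
    have ih' := ih (fun z hz => h z (List.mem_cons_of_mem _ hz))
    set S := (Finset.univ.filter (fun d : ZMod p =>
        ∃ l1 l2 : List α, ys.Perm (l1 ++ l2) ∧ (l1.map w).sum = d)) with hS
    set S' := (Finset.univ.filter (fun d : ZMod p =>
        ∃ l1 l2 : List α, (y :: ys).Perm (l1 ++ l2) ∧ (l1.map w).sum = d)) with hS'
    have hsub : S + ({0, w y} : Finset (ZMod p)) ⊆ S' := by
      intro d hd
      obtain ⟨a, ha, b, hb, rfl⟩ := Finset.mem_add.1 hd
      rw [hS, Finset.mem_filter] at ha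
      obtain ⟨_, l1, l2, hperm, hsum⟩ := ha
      rw [hS', Finset.mem_filter]
      refine ⟨Finset.mem_univ _, ?_⟩
      rw [Finset.mem_insert, Finset.mem_singleton] at hb
      rcases hb with rfl | rfl
      · refine ⟨l1, y :: l2, ?_, by rw [hsum, add_zero]⟩
        exact (List.Perm.cons y hperm).trans List.perm_middle.symm
      · refine ⟨y :: l1, l2, ?_, ?_⟩
        · exact List.Perm.cons y hperm
        · rw [List.map_cons, List.sum_cons, hsum, add_comm]
    have hSne : S.Nonempty := by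
      apply Finset.card_pos.1
      have : 1 ≤ min p (ys.length + 1) := by omega
      omega
    have hcd := ZMod.cauchy_davenport hp.out (s := S) (t := ({0, w y} : Finset (ZMod p))) hSne ⟨0, by simp⟩
    have ht : ({0, w y} : Finset (ZMod p)).card = 2 := Finset.card_pair (Ne.symm hy)
    have hle := Finset.card_le_card hsub
    simp only [List.length_cons]
    rw [ht] at hcd
    omega

theorem subset_sums {α : Type*} {p : ℕ} [hp : Fact p.Prime] (w : α → ZMod p)
    (ys : List α) (h : ∀ y ∈ ys, w y ≠ 0) (hlen : p - 1 ≤ ys.length) (d : ZMod p) :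
    ∃ l1 l2 : List α, ys.Perm (l1 ++ l2) ∧ (l1.map w).sum = d := by
  classical
  have hc := subset_sums_card w ys h
  have hp2 := hp.out.two_le
  have h1 : min p (ys.length + 1) = p := by omega
  rw [h1] at hc
  have hcard : (Finset.univ.filter (fun d : ZMod p =>
        ∃ l1 l2 : List α, ys.Perm (l1 ++ l2) ∧ (l1.map w).sum = d)).card = Fintype.card (ZMod p) := by
    apply le_antisymm (Finset.card_le_univ _)
    rw [ZMod.card]; exact hc
  have := (Finset.card_eq_iff_eq_univ _).1 hcard
  have hd : d ∈ (Finset.univ.filter (fun d : ZMod p =>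
        ∃ l1 l2 : List α, ys.Perm (l1 ++ l2) ∧ (l1.map w).sum = d)) := by
    rw [this]; exact Finset.mem_univ _
  exact (Finset.mem_filter.1 hd).2

section prime

variable {p : ℕ} [hp : Fact p.Prime] {F : ZMod p → AddSubgroup M}

/-- the key step: `p - 1` homogeneous factors push `NS j` into `NS (j+1)` -/
theorem NS_step (hF : Closed F) (j : ℕ) {a : M} (ha : a ∈ NS (der F) j) (hah : a ∈ hom F)
    {ys : List M} (hys : ∀ y ∈ ys, y ∈ hom F) (hlen : p - 1 ≤ ys.length) :
    lbr a ys ∈ NS (der F) (j + 1) := by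
  by_cases h0 : ∃ y ∈ ys, dg F y = 0
  · obtain ⟨y, hy, hy0⟩ := h0
    have hy' := dg_spec (hys y hy)
    rw [hy0, hF.zero] at hy'
    have : y = 0 := by simpa using hy'
    rw [this] at hy
    rw [lbr_of_zero_mem hy]; exact zero_mem _
  · push Not at h0
    obtain ⟨d, hd⟩ := hah
    obtain ⟨l1, l2, hperm, hsum⟩ := subset_sums (dg F) ys h0 hlen (-d)
    have hl12 : ∀ y ∈ l1 ++ l2, y ∈ hom F := fun y hy => hys y (hperm.mem_iff.2 hy)
    have hl1 : ∀ y ∈ l1, y ∈ hom F := fun y hy => hl12 y (List.mem_append_left _ hy)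
    have h1 := lbr_mem hF l1 a d hd hl1
    rw [hsum, add_neg_cancel, hF.zero] at h1
    have h1' : lbr a l1 = 0 := by simpa using h1
    have h2 : lbr a (l1 ++ l2) = 0 := by rw [lbr_append, h1', lbr_zero]
    have := NS_perm hF j hperm hys a ha
    rwa [h2, sub_zero] at this

theorem NS_reach (hF : Closed F) : ∀ (j : ℕ) (x : M), x ∈ hom F → ∀ ys : List M,
    ys.length = 1 + (p - 1) * j → (∀ y ∈ ys, y ∈ hom F) → lbr x ys ∈ NS (der F) j := by
  intro j
  induction j with
  | zero =>
    intro x hx ys hlen hys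
    match ys, hlen with
    | [y], _ =>
      rw [lbr_cons, lbr_nil]
      exact AddSubgroup.subset_closure (hom_lie_der hx (hys y List.mem_cons_self))
  | succ j ih =>
    intro x hx ys hlen hys
    have hsplit : ys = ys.take (1 + (p - 1) * j) ++ ys.drop (1 + (p - 1) * j) :=
      (List.take_append_drop _ _).symm
    have hl1 : (ys.take (1 + (p - 1) * j)).length = 1 + (p - 1) * j := by
      rw [List.length_take, hlen]
      have : (p - 1) * (j + 1) = (p - 1) * j + (p - 1) := by ring
      omega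
    have hl2 : (ys.drop (1 + (p - 1) * j)).length = p - 1 := by
      rw [List.length_drop, hlen]
      have : (p - 1) * (j + 1) = (p - 1) * j + (p - 1) := by ring
      omega
    have hy1 : ∀ y ∈ ys.take (1 + (p - 1) * j), y ∈ hom F :=
      fun y hy => hys y (List.mem_of_mem_take hy)
    have hy2 : ∀ y ∈ ys.drop (1 + (p - 1) * j), y ∈ hom F :=
      fun y hy => hys y (List.mem_of_mem_drop hy)
    rw [hsplit, lbr_append]
    exact NS_step hF j (ih x hx _ hl1 hy1) (lbr_hom hF hx hy1) hy2 (le_of_eq hl2.symm)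

theorem NS_le_of_nil {c : ℕ} (hN : Nil c (der F)) : ∀ j, NS (der F) j ≤
    AddSubgroup.closure {x | ∃ x0 ∈ hom (der F), ∃ ys : List M, ys.length = j ∧
      (∀ y ∈ ys, y ∈ hom (der F)) ∧ lbr x0 ys = x} := by
  intro j
  induction j with
  | zero =>
    apply (AddSubgroup.closure_le _).2
    intro x hx
    exact AddSubgroup.subset_closure ⟨x, hx, [], rfl, by simp, rfl⟩
  | succ j ih =>
    apply (AddSubgroup.closure_le _).2
    rintro _ ⟨a, ha, z, hz, rfl⟩
    have ha' := ih ha
    refine AddSubgroup.closure_induction (p := fun a _ => ⁅a, z⁆ ∈ AddSubgroup.closure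
      {x | ∃ x0 ∈ hom (der F), ∃ ys : List M, ys.length = j + 1 ∧
      (∀ y ∈ ys, y ∈ hom (der F)) ∧ lbr x0 ys = x}) ?_ ?_ ?_ ?_ ha'
    · rintro _ ⟨x0, hx0, ys, hlen, hys, rfl⟩
      refine AddSubgroup.subset_closure ⟨x0, hx0, ys ++ [z], ?_, ?_, ?_⟩
      · rw [List.length_append, hlen]; rfl
      · intro y hy
        rcases List.mem_append.1 hy with h | h
        · exact hys y h
        · rw [List.mem_singleton] at h; rw [h]; exact hz
      · rw [lbr_append]; rfl
    · rw [zero_lie]; exact zero_mem _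
    · intro a b _ _ ha hb; rw [add_lie]; exact add_mem ha hb
    · intro a _ ha; rw [neg_lie]; exact neg_mem ha

/-- Theorem N: if the derived family has class `≤ c` then the family has class `≤ (p-1)c+1`. -/
theorem nil_of_der_nil (hF : Closed F) {c : ℕ} (hN : Nil c (der F)) :
    Nil ((p - 1) * c + 1) F := by
  intro x hx ys hlen hys
  have h1 := NS_reach hF c x hx ys (by rw [hlen]; ring) hys
  have h2 := NS_le_of_nil hN c h1
  have hbot : AddSubgroup.closure {x | ∃ x0 ∈ hom (der F), ∃ ys : List M, ys.length = c ∧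
      (∀ y ∈ ys, y ∈ hom (der F)) ∧ lbr x0 ys = x} = ⊥ := by
    rw [eq_bot_iff]
    apply (AddSubgroup.closure_le _).2
    rintro _ ⟨x0, hx0, ys, hlen, hys, rfl⟩
    rw [hN x0 hx0 ys hlen hys]; exact zero_mem _
  rw [hbot] at h2
  simpa using h2

/-- class bound function -/
def hkkBound (p s : ℕ) : ℕ := Finset.sum (Finset.range s) (fun i => (p - 1) ^ i)

theorem hkkBound_succ (p s : ℕ) : hkkBound p (s + 1) = (p - 1) * hkkBound p s + 1 := by
  unfold hkkBound
  rw [Finset.sum_range_succ', Finset.mul_sum]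
  simp [pow_succ, mul_comm]

theorem nil_of_derN_bot : ∀ (s : ℕ) (F : ZMod p → AddSubgroup M), Closed F →
    (∀ k, derN F s k = ⊥) → Nil (hkkBound p s) F := by
  intro s
  induction s with
  | zero =>
    intro F hF h x hx ys hlen hys
    obtain ⟨k, hk⟩ := hx
    rw [derN_zero] at h
    rw [h k] at hk
    have : x = 0 := by simpa using hk
    rw [this, lbr_zero]
  | succ s ih =>
    intro F hF h
    rw [hkkBound_succ]
    apply nil_of_der_nil hF
    apply ih (der F) (der_closed hF)
    intro k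
    rw [← derN_succ']; exact h k

/-- Higman–Kreknin–Kostrikin for graded families. -/
theorem hkk_family (hF : Closed F) : Nil (hkkBound p (2 ^ (p - 1) - 1)) F :=
  nil_of_derN_bot _ F hF (fun k => kreknin hF k)

end prime

/-- `p = 3`: class at most two. -/
theorem nil_three {F : ZMod 3 → AddSubgroup M} (hF : Closed F) : Nil 2 F := by
  intro x hx ys hlen hys
  match ys, hlen with
  | [y, z], _ =>
    rw [lbr_cons, lbr_cons, lbr_nil]
    obtain ⟨a, ha⟩ := hx
    obtain ⟨b, hb⟩ := hys y List.mem_cons_self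
    obtain ⟨c, hc⟩ := hys z (List.mem_cons_of_mem _ List.mem_cons_self)
    have key : ∀ (u v : ZMod 3) (s t : M), s ∈ F u → t ∈ F v → u + v = 0 → ⁅s, t⁆ = 0 := by
      intro u v s t hs ht huv
      have := hF.lie u v s hs t ht
      rw [huv, hF.zero] at this
      simpa using this
    have hz0 : ∀ (u : ZMod 3) (s : M), s ∈ F u → u = 0 → s = 0 := by
      intro u s hs hu
      rw [hu, hF.zero] at hs
      simpa using hs
    by_cases ha0 : a = 0
    · rw [hz0 a x ha ha0, zero_lie, zero_lie]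
    by_cases hb0 : b = 0
    · rw [hz0 b y hb hb0, lie_zero, zero_lie]
    by_cases hc0 : c = 0
    · rw [hz0 c z hc hc0, lie_zero]
    by_cases h1 : a + b = 0
    · rw [key a b x y ha hb h1, zero_lie]
    by_cases h2 : a + b + c = 0
    · exact key (a + b) c _ z (hF.lie _ _ _ ha _ hb) hc h2
    -- now a + c = 0 and b + c = 0
    have hdec : ∀ a b c : ZMod 3, a ≠ 0 → b ≠ 0 → c ≠ 0 → ¬ a + b = 0 → ¬ a + b + c = 0 →
        a + c = 0 ∧ b + c = 0 := by decide
    have h3 := hdec a b c ha0 hb0 hc0 h1 h2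
    rw [lie_swap, key a c x z ha hc h3.1, zero_lie, key b c y z hb hc h3.2, lie_zero, add_zero]

end Cfsg.Agent.Lib.Helper9.Hkk
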