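import Mathlib
import Cfsg.Agent.Lib.Helper9.HkkA
import Cfsg.Agent.Lib.Helper9.HkkB

set_option autoImplicit false
set_option linter.unusedSectionVars false
set_option linter.unusedVariables false
set_option linter.style.longLine false
set_option linter.unusedSimpArgs false

set_option maxHeartbeats 1600000
namespace Cfsg.Agent.Lib.Helper9.Hkk

/-! The group ring `L[C_n]` of a Lie ring as convolution Lie ring; eigen-families;
Higman's theorem for Lie rings with a fixed-point-free automorphism of prime order. -/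

/-- functions `ZMod n → L` with the convolution bracket -/
def Conv (n : ℕ) (L : Type*) : Type _ := ZMod n → L

namespace Conv

variable {L : Type*} [LieRing L] {n : ℕ} [NeZero n]

instance : AddCommGroup (Conv n L) := inferInstanceAs (AddCommGroup (ZMod n → L))

instance : Bracket (Conv n L) (Conv n L) := ⟨fun f g k => ∑ i : ZMod n, ⁅f i, g (k - i)⁆⟩

theorem lie_apply (f g : Conv n L) (k : ZMod n) : ⁅f, g⁆ k = ∑ i : ZMod n, ⁅f i, g (k - i)⁆ := rfl

@[simp] theorem add_apply (f g : Conv n L) (k : ZMod n) : (f + g) k = f k + g k := rfl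
@[simp] theorem zero_apply (k : ZMod n) : (0 : Conv n L) k = 0 := rfl
@[simp] theorem neg_apply (f : Conv n L) (k : ZMod n) : (-f) k = -f k := rfl
@[simp] theorem sub_apply (f g : Conv n L) (k : ZMod n) : (f - g) k = f k - g k := rfl
@[simp] theorem nsmul_apply (m : ℕ) (f : Conv n L) (k : ZMod n) : (m • f) k = m • f k := rfl

@[ext] theorem ext {f g : Conv n L} (h : ∀ k, f k = g k) : f = g := funext h

instance : LieRing (Conv n L) :=
  { (inferInstance : AddCommGroup (Conv n L)), (inferInstance : Bracket (Conv n L) (Conv n L)) with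
    add_lie := by
      intro x y z; ext k
      simp only [lie_apply, add_apply, add_lie, Finset.sum_add_distrib]
    lie_add := by
      intro x y z; ext k
      simp only [lie_apply, add_apply, lie_add, Finset.sum_add_distrib]
    lie_self := by
      intro x; ext k
      rw [lie_apply, zero_apply]
      refine Finset.sum_ninvolution (fun i => k - i) ?_ ?_ (fun _ => Finset.mem_univ _) ?_
      · intro a
        rw [sub_sub_cancel, ← lie_skew (x a) (x (k - a)), neg_add_cancel]
      · intro a ha h
        apply ha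
        rw [h, lie_self]
      · intro a; exact sub_sub_cancel k a
    leibniz_lie := by
      intro x y z; ext k
      simp only [lie_apply, add_apply, lie_sum, sum_lie]
      -- LHS: ∑ i, ∑ j, ⁅x i, ⁅y j, z (k - i - j)⁆⁆
      have e1 : ∑ m : ZMod n, ∑ i : ZMod n, ⁅⁅x i, y (m - i)⁆, z (k - m)⁆ =
          ∑ i : ZMod n, ∑ j : ZMod n, ⁅⁅x i, y j⁆, z (k - i - j)⁆ := by
        rw [Finset.sum_comm]
        refine Finset.sum_congr rfl (fun i _ => ?_)
        rw [← Equiv.sum_comp (Equiv.addLeft i)]
        refine Finset.sum_congr rfl (fun j _ => ?_)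
        simp only [Equiv.coe_addLeft, add_sub_cancel_left, sub_sub]
      have e2 : ∑ j : ZMod n, ∑ i : ZMod n, ⁅y j, ⁅x i, z (k - j - i)⁆⁆ =
          ∑ i : ZMod n, ∑ j : ZMod n, ⁅y j, ⁅x i, z (k - i - j)⁆⁆ := by
        rw [Finset.sum_comm]
        refine Finset.sum_congr rfl (fun i _ => Finset.sum_congr rfl (fun j _ => ?_))
        rw [sub_right_comm]
      rw [e1, e2, ← Finset.sum_add_distrib]
      refine Finset.sum_congr rfl (fun i _ => ?_)
      rw [← Finset.sum_add_distrib]
      refine Finset.sum_congr rfl (fun j _ => ?_)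
      exact leibniz_lie _ _ _ }

/-- the element `a·x^0` -/
def single0 (a : L) : Conv n L := fun i => if i = 0 then a else 0

/-- the element `a·(1 + x + ... + x^(n-1))` -/
def const (a : L) : Conv n L := fun _ => a

theorem single0_lie_single0 (a b : L) : ⁅(single0 a : Conv n L), (single0 b : Conv n L)⁆ = (single0 ⁅a, b⁆ : Conv n L) := by
  ext k
  rw [lie_apply, Finset.sum_eq_single 0]
  · simp only [single0, if_true, sub_zero]
    split_ifs <;> simp
  · intro i _ hi; simp [single0, hi]
  · intro h; exact absurd (Finset.mem_univ _) h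

theorem single0_lie_const (a b : L) : ⁅(single0 a : Conv n L), (const b : Conv n L)⁆ = (const ⁅a, b⁆ : Conv n L) := by
  ext k
  rw [lie_apply, Finset.sum_eq_single 0]
  · simp [single0, const]
  · intro i _ hi; simp [single0, hi]
  · intro h; exact absurd (Finset.mem_univ _) h

theorem const_lie_single0 (a b : L) : ⁅(const a : Conv n L), (single0 b : Conv n L)⁆ = (const ⁅a, b⁆ : Conv n L) := by
  ext k
  rw [lie_apply, Finset.sum_eq_single k]
  · simp [single0, const]
  · intro i _ hi
    have : k - i ≠ 0 := fun h => hi (sub_eq_zero.1 h).symm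
    simp [single0, this]
  · intro h; exact absurd (Finset.mem_univ _) h

theorem const_lie_const (a b : L) : ⁅(const a : Conv n L), (const b : Conv n L)⁆ = n • (const ⁅a, b⁆ : Conv n L) := by
  ext k
  rw [lie_apply, nsmul_apply]
  simp [const, Finset.sum_const, Finset.card_univ, ZMod.card]

/-- the embedding up to the factor `n` -/
def iota (a : L) : Conv n L := n • (single0 a : Conv n L) - (const a : Conv n L)

theorem iota_lie_iota (a b : L) : ⁅(iota a : Conv n L), (iota b : Conv n L)⁆ = n • (iota ⁅a, b⁆ : Conv n L) := by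
  unfold iota
  rw [sub_lie, lie_sub, lie_sub, nsmul_lie, nsmul_lie, lie_nsmul, lie_nsmul, single0_lie_single0,
    single0_lie_const, const_lie_single0, const_lie_const]
  module

theorem iota_apply_ne {i : ZMod n} (hi : i ≠ 0) (a : L) : (iota a : Conv n L) i = -a := by
  simp [iota, single0, const, hi]

end Conv

open Conv

section eig

variable {L : Type*} [LieRing L] {n : ℕ} [NeZero n]

/-- eigen-family of an endomorphism -/
def eig (α : L →+ L) (k : ZMod n) : AddSubgroup (Conv n L) where
  carrier := {f | ∀ i, α (f i) = f (i - k)}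
  zero_mem' := by intro i; simp
  add_mem' := by
    intro f g hf hg i
    simp only [Conv.add_apply, map_add, hf i, hg i]
  neg_mem' := by
    intro f hf i
    simp only [Conv.neg_apply, map_neg, hf i]

theorem mem_eig {α : L →+ L} {k : ZMod n} {f : Conv n L} :
    f ∈ eig α k ↔ ∀ i, α (f i) = f (i - k) := Iff.rfl

theorem eig_lie {α : L →+ L} (hα : ∀ a b, α ⁅a, b⁆ = ⁅α a, α b⁆) (j k : ZMod n)
    (f : Conv n L) (hf : f ∈ eig α j) (g : Conv n L) (hg : g ∈ eig α k) : ⁅f, g⁆ ∈ eig α (j + k) := by
  intro i
  rw [Conv.lie_apply, Conv.lie_apply, map_sum]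
  rw [← Equiv.sum_comp (Equiv.addRight j)]
  refine Finset.sum_congr rfl (fun m _ => ?_)
  rw [hα, hf, hg]
  simp only [Equiv.coe_addRight, add_sub_cancel_right]
  congr 2
  ring

end eig

section main

variable {L : Type*} [LieRing L] {p : ℕ} [hp : Fact p.Prime]

theorem iter_mod {α : L →+ L} (h1 : ∀ a, (α^[p]) a = a) (m : ℕ) (a : L) :
    (α^[m]) a = (α^[m % p]) a := by
  conv_lhs => rw [← Nat.mod_add_div m p]
  rw [Function.iterate_add_apply]
  congr 1
  induction (m / p) with
  | zero => simp
  | succ t ih => rw [Nat.mul_succ, Function.iterate_add_apply, h1, ih]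

theorem eig_zero {α : L →+ L} (h2 : ∀ a, ∑ j ∈ Finset.range p, (α^[j]) a = 0)
    (h3 : ∀ a : L, p • a = 0 → a = 0) : eig (n := p) α 0 = ⊥ := by
  rw [eq_bot_iff]
  intro f hf
  rw [AddSubgroup.mem_bot]
  ext i
  have hfix : α (f i) = f i := by have := hf i; rwa [sub_zero] at this
  have hit : ∀ j, (α^[j]) (f i) = f i := by
    intro j
    induction j with
    | zero => rfl
    | succ j ih => rw [Function.iterate_succ_apply', ih, hfix]
  have := h2 (f i)
  simp only [hit, Finset.sum_const, Finset.card_range] at this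
  exact h3 _ this

theorem eig_closed {α : L →+ L} (hα : ∀ a b, α ⁅a, b⁆ = ⁅α a, α b⁆)
    (h2 : ∀ a, ∑ j ∈ Finset.range p, (α^[j]) a = 0)
    (h3 : ∀ a : L, p • a = 0 → a = 0) : Closed (eig (n := p) α) :=
  ⟨eig_lie hα, eig_zero h2 h3⟩

/-- eigenvector built from `a` -/
def evec (α : L →+ L) (c : ZMod p) (a : L) : Conv p L := fun i => (α^[(i * c).val]) a

theorem evec_mem {α : L →+ L} (h1 : ∀ a, (α^[p]) a = a) {c : ZMod p} (hc : c ≠ 0) (a : L) :
    evec α c a ∈ eig α (-c⁻¹) := by
  intro i
  unfold evec
  rw [← Function.iterate_succ_apply' α]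
  have e : (i - -c⁻¹) * c = i * c + 1 := by
    rw [sub_neg_eq_add, add_mul, inv_mul_cancel₀ hc]
  rw [e, iter_mod h1 ((i * c).val + 1), iter_mod h1 ((i * c + 1).val)]
  congr 1
  rw [ZMod.val_add, ZMod.val_one, Nat.mod_mod]

theorem sum_zmod_val (g : ℕ → L) : ∑ c : ZMod p, g c.val = ∑ m ∈ Finset.range p, g m := by
  refine Finset.sum_nbij' (fun c => c.val) (fun m => (m : ZMod p)) ?_ ?_ ?_ ?_ ?_
  · intro c _; exact Finset.mem_range.2 (ZMod.val_lt c)
  · intro m _; exact Finset.mem_univ _
  · intro c _; exact ZMod.natCast_zmod_val c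
  · intro m hm; exact ZMod.val_natCast_of_lt (Finset.mem_range.1 hm)
  · intro c _; rfl

theorem sum_evec {α : L →+ L} (h2 : ∀ a, ∑ j ∈ Finset.range p, (α^[j]) a = 0) (a : L) :
    ∑ c : ZMod p, evec α c a = p • (single0 a : Conv p L) := by
  ext i
  have hs : (∑ c : ZMod p, evec α c a) i = ∑ c : ZMod p, (α^[(i * c).val]) a := by
    have : ∀ (s : Finset (ZMod p)), (∑ c ∈ s, evec α c a) i = ∑ c ∈ s, (α^[(i * c).val]) a := by
      intro s
      induction s using Finset.induction_on with
      | empty => simp
      | insert x s hx ih => rw [Finset.sum_insert hx, Finset.sum_insert hx, Conv.add_apply, ih]; rfl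
    exact this _
  rw [hs, Conv.nsmul_apply]
  by_cases hi : i = 0
  · subst hi
    simp [single0, Finset.card_univ, ZMod.card]
  · have e := Equiv.sum_comp (Equiv.mulLeft₀ i hi) (fun c : ZMod p => (α^[c.val]) a)
    have e' : ∑ c : ZMod p, (α^[(i * c).val]) a = ∑ c : ZMod p, (α^[c.val]) a := e
    rw [e']
    rw [sum_zmod_val (fun m => (α^[m]) a), h2]
    simp [single0, hi]

theorem iota_eq_sum {α : L →+ L} (h2 : ∀ a, ∑ j ∈ Finset.range p, (α^[j]) a = 0) (a : L) :
    (iota a : Conv p L) = ∑ c ∈ Finset.univ.erase (0 : ZMod p), evec α c a := by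
  rw [Finset.sum_erase_eq_sub (Finset.mem_univ _), sum_evec h2]
  unfold iota
  congr 1
  ext i
  simp [evec, const]

theorem iota_mem {α : L →+ L} (h1 : ∀ a, (α^[p]) a = a)
    (h2 : ∀ a, ∑ j ∈ Finset.range p, (α^[j]) a = 0) (a : L) :
    (iota a : Conv p L) ∈ AddSubgroup.closure (hom (eig (n := p) α)) := by
  rw [iota_eq_sum h2]
  refine sum_mem (fun c hc => ?_)
  have hc0 : c ≠ 0 := (Finset.mem_erase.1 hc).1
  exact AddSubgroup.subset_closure ⟨_, evec_mem h1 hc0 a⟩

end main

section ext

variable {M : Type*} [LieRing M] {n : ℕ} [NeZero n]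

/-- nilpotency extends from homogeneous elements to their additive span -/
theorem nil_closure {F : ZMod n → AddSubgroup M} {c : ℕ} (hN : Nil c F) : ∀ (k : ℕ) (l1 l2 : List M),
    l1.length = k → l1.length + l2.length = c →
    (∀ y ∈ l1, y ∈ AddSubgroup.closure (hom F)) → (∀ y ∈ l2, y ∈ hom F) →
    ∀ x ∈ AddSubgroup.closure (hom F), lbr x (l1 ++ l2) = 0 := by
  intro k
  induction k with
  | zero =>
    intro l1 l2 hk hlen _ h2 x hx
    have : l1 = [] := List.length_eq_zero_iff.1 hk
    subst this
    simp only [List.nil_append, List.length_nil, zero_add] at hlen ⊢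
    refine AddSubgroup.closure_induction (p := fun x _ => lbr x l2 = 0) ?_ ?_ ?_ ?_ hx
    · intro z hz; exact hN z hz l2 hlen h2
    · exact lbr_zero _
    · intro a b _ _ ha hb; rw [lbr_add, ha, hb, add_zero]
    · intro a _ ha; rw [lbr_neg, ha, neg_zero]
  | succ k ih =>
    intro l1 l2 hk hlen h1 h2 x hx
    rcases List.eq_nil_or_concat l1 with h | ⟨l1', y, h⟩
    · subst h; simp at hk
    · rw [List.concat_eq_append] at h
      subst h
      have hy : y ∈ AddSubgroup.closure (hom F) := h1 y (by simp)
      have hl1' : ∀ z ∈ l1', z ∈ AddSubgroup.closure (hom F) := fun z hz => h1 z (by simp [hz])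
      have hk' : l1'.length = k := by simpa using hk
      rw [List.append_assoc, List.singleton_append]
      refine AddSubgroup.closure_induction (p := fun y _ => lbr x (l1' ++ y :: l2) = 0) ?_ ?_ ?_ ?_ hy
      · intro z hz
        refine ih l1' (z :: l2) hk' ?_ hl1' ?_ x hx
        · simp only [List.length_append, List.length_cons, List.length_nil] at hlen
          simp only [List.length_cons]; omega
        · intro w hw
          rcases List.mem_cons.1 hw with h | h
          · rw [h]; exact hz
          · exact h2 w h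
      · rw [lbr_append, lbr_cons, lie_zero, lbr_zero]
      · intro a b _ _ ha hb
        rw [lbr_append, lbr_cons, lie_add, lbr_add]
        rw [lbr_append, lbr_cons] at ha hb
        rw [ha, hb, add_zero]
      · intro a _ ha
        rw [lbr_append, lbr_cons, lie_neg, lbr_neg]
        rw [lbr_append, lbr_cons] at ha
        rw [ha, neg_zero]

theorem nil_closure' {F : ZMod n → AddSubgroup M} {c : ℕ} (hN : Nil c F) (x : M) (ys : List M)
    (hlen : ys.length = c) (hx : x ∈ AddSubgroup.closure (hom F))
    (hys : ∀ y ∈ ys, y ∈ AddSubgroup.closure (hom F)) : lbr x ys = 0 := by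
  have := nil_closure hN ys.length ys [] rfl (by simpa using hlen) hys (by simp) x hx
  simpa using this

end ext

section final

variable {L : Type*} [LieRing L] {p : ℕ} [hp : Fact p.Prime]

theorem lbr_iota (x : L) (ys : List L) :
    lbr (iota x : Conv p L) (ys.map iota) = (p ^ ys.length) • (iota (lbr x ys) : Conv p L) := by
  induction ys generalizing x with
  | nil => simp
  | cons y ys ih =>
    rw [List.map_cons, lbr_cons, lbr_cons, iota_lie_iota, lbr_nsmul, ih, List.length_cons, pow_succ,
      mul_comm, mul_smul]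

theorem pow_smul_eq_zero (h3 : ∀ a : L, p • a = 0 → a = 0) : ∀ (c : ℕ) (a : L),
    (p ^ c) • a = 0 → a = 0 := by
  intro c
  induction c with
  | zero => intro a h; simpa using h
  | succ c ih =>
    intro a h
    rw [pow_succ, mul_comm, mul_smul] at h
    exact ih a (h3 _ h)

/-- Higman's theorem for Lie rings, relative to a class bound for graded families. -/
theorem hl_main (α : L →+ L) (hα : ∀ a b, α ⁅a, b⁆ = ⁅α a, α b⁆)
    (h1 : ∀ a, (α^[p]) a = a) (h2 : ∀ a, ∑ j ∈ Finset.range p, (α^[j]) a = 0)
    (h3 : ∀ a : L, p • a = 0 → a = 0) (c : ℕ)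
    (hc : ∀ F : ZMod p → AddSubgroup (Conv p L), Closed F → Nil c F)
    (x : L) (ys : List L) (hlen : ys.length = c) : lbr x ys = 0 := by
  have hcl := eig_closed hα h2 h3
  have hN := hc _ hcl
  have h0 : lbr (iota x : Conv p L) (ys.map iota) = 0 := by
    apply nil_closure' hN _ _ (by simpa using hlen) (iota_mem h1 h2 x)
    intro y hy
    obtain ⟨z, _, rfl⟩ := List.mem_map.1 hy
    exact iota_mem h1 h2 z
  rw [lbr_iota] at h0
  have h1' : ((p ^ ys.length) • (iota (lbr x ys) : Conv p L)) 1 = 0 := by rw [h0]; rfl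
  rw [Conv.nsmul_apply, iota_apply_ne one_ne_zero, smul_neg, neg_eq_zero] at h1'
  exact pow_smul_eq_zero h3 _ _ h1'

end final

end Cfsg.Agent.Lib.Helper9.Hkk
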