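import Mathlib

set_option autoImplicit false
set_option linter.unusedSectionVars false
set_option linter.unusedVariables false
set_option linter.style.longLine false
set_option linter.unusedSimpArgs false

set_option maxHeartbeats 1600000
namespace Cfsg.Agent.Lib.Helper9.Hkk

/-! The associated graded Lie ring of a strongly central filtration: components and bracket. -/

open scoped commutatorElement

variable {G : Type*} [Group G]

/-- strongly central filtration -/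
class SC (Γ : ℕ → Subgroup G) : Prop where
  normal : ∀ i, (Γ i).Normal
  anti : ∀ i, Γ (i + 1) ≤ Γ i
  comm : ∀ i j, ⁅Γ i, Γ j⁆ ≤ Γ (i + j)
  cent : ∀ i, ⁅Γ i, (⊤ : Subgroup G)⁆ ≤ Γ (i + 1)

namespace SC

variable (Γ : ℕ → Subgroup G) [hΓ : SC Γ]

instance instNormal (i : ℕ) : (Γ i).Normal := SC.normal i

theorem comm_mem {i j : ℕ} {x y : G} (hx : x ∈ Γ i) (hy : y ∈ Γ j) : ⁅x, y⁆ ∈ Γ (i + j) :=
  SC.comm i j (Subgroup.commutator_mem_commutator hx hy)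

theorem cent_mem {i : ℕ} {z : G} (hz : z ∈ Γ i) (g : G) : ⁅z, g⁆ ∈ Γ (i + 1) :=
  SC.cent i (Subgroup.commutator_mem_commutator hz (Subgroup.mem_top g))

theorem cent_mem' {i : ℕ} {z : G} (hz : z ∈ Γ i) (g : G) : ⁅g, z⁆ ∈ Γ (i + 1) := by
  rw [← commutatorElement_inv]; exact inv_mem (cent_mem Γ hz g)

/-- projection modulo `Γ m` -/
abbrev pr (m : ℕ) : G →* G ⧸ Γ m := QuotientGroup.mk' (Γ m)

theorem pr_eq_one {m : ℕ} {g : G} : pr Γ m g = 1 ↔ g ∈ Γ m := QuotientGroup.eq_one_iff g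

theorem pr_eq {m : ℕ} {g h : G} : pr Γ m g = pr Γ m h ↔ g⁻¹ * h ∈ Γ m := QuotientGroup.eq

theorem pr_central {m : ℕ} {z : G} (hz : z ∈ Γ m) (g : G) :
    pr Γ (m + 1) z * pr Γ (m + 1) g = pr Γ (m + 1) g * pr Γ (m + 1) z := by
  have h := (pr_eq_one Γ).2 (cent_mem Γ hz g)
  rw [map_commutatorElement] at h
  exact commutatorElement_eq_one_iff_mul_comm.1 h

theorem pr_conj_central {m : ℕ} {z : G} (hz : z ∈ Γ m) (g : G) :
    pr Γ (m + 1) g * pr Γ (m + 1) z * (pr Γ (m + 1) g)⁻¹ = pr Γ (m + 1) z := by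
  rw [← pr_central Γ hz g, mul_inv_cancel_right]

theorem pr_comm_mul_left {i j : ℕ} {x x' y : G} (hx : x ∈ Γ i) (hx' : x' ∈ Γ i) (hy : y ∈ Γ j) :
    pr Γ (i + j + 1) ⁅x * x', y⁆ = pr Γ (i + j + 1) ⁅x, y⁆ * pr Γ (i + j + 1) ⁅x', y⁆ := by
  have e : ⁅x * x', y⁆ = x * ⁅x', y⁆ * x⁻¹ * ⁅x, y⁆ := by
    simp only [commutatorElement_def]; group
  rw [e, map_mul, map_mul, map_mul, map_inv, pr_conj_central Γ (comm_mem Γ hx' hy) x,
    pr_central Γ (comm_mem Γ hx' hy)]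

theorem pr_comm_mul_right {i j : ℕ} {x y y' : G} (hx : x ∈ Γ i) (hy : y ∈ Γ j) (hy' : y' ∈ Γ j) :
    pr Γ (i + j + 1) ⁅x, y * y'⁆ = pr Γ (i + j + 1) ⁅x, y⁆ * pr Γ (i + j + 1) ⁅x, y'⁆ := by
  have e : ⁅x, y * y'⁆ = ⁅x, y⁆ * (y * ⁅x, y'⁆ * y⁻¹) := by
    simp only [commutatorElement_def]; group
  rw [e, map_mul, map_mul, map_mul, map_inv, pr_conj_central Γ (comm_mem Γ hx hy') y]

theorem comm_mem_left {i j : ℕ} {x y : G} (hx : x ∈ Γ (i + 1)) (hy : y ∈ Γ j) :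
    ⁅x, y⁆ ∈ Γ (i + j + 1) := by
  have := comm_mem Γ hx hy
  rwa [show i + 1 + j = i + j + 1 by omega] at this

theorem comm_mem_right {i j : ℕ} {x y : G} (hx : x ∈ Γ i) (hy : y ∈ Γ (j + 1)) :
    ⁅x, y⁆ ∈ Γ (i + j + 1) := comm_mem Γ (i := i) (j := j + 1) hx hy

/-- the `i`-th component `Γ i / Γ (i+1)` -/
def Comp (i : ℕ) : Type _ := Additive (↥(Γ i) ⧸ (Γ (i + 1)).subgroupOf (Γ i))

instance (i : ℕ) : AddGroup (Comp Γ i) :=
  inferInstanceAs (AddGroup (Additive (↥(Γ i) ⧸ (Γ (i + 1)).subgroupOf (Γ i))))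

/-- canonical map onto the component -/
def phi (i : ℕ) (x : Γ i) : Comp Γ i := Additive.ofMul (QuotientGroup.mk x)

theorem phi_mul (i : ℕ) (x y : Γ i) : phi Γ i (x * y) = phi Γ i x + phi Γ i y := rfl
theorem phi_one (i : ℕ) : phi Γ i 1 = 0 := rfl
theorem phi_inv (i : ℕ) (x : Γ i) : phi Γ i x⁻¹ = -phi Γ i x := rfl

theorem phi_surj (i : ℕ) (a : Comp Γ i) : ∃ x, phi Γ i x = a := by
  obtain ⟨x, hx⟩ := QuotientGroup.mk_surjective (Additive.toMul a)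
  exact ⟨x, by unfold phi; rw [hx]; rfl⟩

theorem phi_eq_iff {i : ℕ} {x y : Γ i} : phi Γ i x = phi Γ i y ↔ (x : G)⁻¹ * y ∈ Γ (i + 1) := by
  constructor
  · intro h
    have h' : (QuotientGroup.mk x : ↥(Γ i) ⧸ (Γ (i + 1)).subgroupOf (Γ i)) = QuotientGroup.mk y := h
    rw [QuotientGroup.eq, Subgroup.mem_subgroupOf] at h'
    simpa using h'
  · intro h
    have h' : (QuotientGroup.mk x : ↥(Γ i) ⧸ (Γ (i + 1)).subgroupOf (Γ i)) = QuotientGroup.mk y := by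
      rw [QuotientGroup.eq, Subgroup.mem_subgroupOf]; simpa using h
    exact h'

theorem phi_eq_zero_iff {i : ℕ} {x : Γ i} : phi Γ i x = 0 ↔ (x : G) ∈ Γ (i + 1) := by
  rw [← phi_one, phi_eq_iff]
  simp

theorem phi_eq_of_pr {i : ℕ} {x y : Γ i} (h : pr Γ (i + 1) x = pr Γ (i + 1) y) :
    phi Γ i x = phi Γ i y := (phi_eq_iff Γ).2 ((pr_eq Γ).1 h)

instance (i : ℕ) : AddCommGroup (Comp Γ i) :=
  { (inferInstance : AddGroup (Comp Γ i)) with
    add_comm := by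
      intro a b
      obtain ⟨x, rfl⟩ := phi_surj Γ i a
      obtain ⟨y, rfl⟩ := phi_surj Γ i b
      rw [← phi_mul, ← phi_mul]
      apply phi_eq_of_pr
      simp only [Subgroup.coe_mul, map_mul]
      exact pr_central Γ x.2 y }

/-- commutator as an element of the right filtration term -/
def cm {i j : ℕ} (x : Γ i) (y : Γ j) : Γ (i + j) := ⟨⁅(x : G), (y : G)⁆, comm_mem Γ x.2 y.2⟩

theorem phi_cm_congr {i j : ℕ} {x x' : Γ i} {y y' : Γ j}
    (hx : (x : G)⁻¹ * x' ∈ Γ (i + 1)) (hy : (y : G)⁻¹ * y' ∈ Γ (j + 1)) :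
    phi Γ (i + j) (cm Γ x y) = phi Γ (i + j) (cm Γ x' y') := by
  apply phi_eq_of_pr
  simp only [cm]
  have ex : (x' : G) = x * ((x : G)⁻¹ * x') := by group
  have ey : (y' : G) = y * ((y : G)⁻¹ * y') := by group
  have hn : (x : G)⁻¹ * x' ∈ Γ i := SC.anti i hx
  have hn' : (y : G)⁻¹ * y' ∈ Γ j := SC.anti j hy
  rw [ex, ey, pr_comm_mul_right Γ (mul_mem x.2 hn) y.2 hn',
    pr_comm_mul_left Γ x.2 hn y.2,
    (pr_eq_one Γ).2 (comm_mem_left Γ hx y.2),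
    (pr_eq_one Γ).2 (comm_mem_right Γ (mul_mem x.2 hn) hy), mul_one, mul_one]

/-- graded bracket on components -/
def gmul {i j : ℕ} (a : Comp Γ i) (b : Comp Γ j) : Comp Γ (i + j) :=
  Quotient.liftOn₂' (Additive.toMul a) (Additive.toMul b)
    (fun x y => phi Γ (i + j) (cm Γ x y))
    (by
      intro x y x' y' hx hy
      rw [QuotientGroup.leftRel_apply, Subgroup.mem_subgroupOf] at hx hy
      exact phi_cm_congr Γ (by simpa using hx) (by simpa using hy))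

theorem gmul_phi {i j : ℕ} (x : Γ i) (y : Γ j) :
    gmul Γ (phi Γ i x) (phi Γ j y) = phi Γ (i + j) (cm Γ x y) := rfl

theorem cm_mul_left {i j : ℕ} (x x' : Γ i) (y : Γ j) :
    phi Γ (i + j) (cm Γ (x * x') y) = phi Γ (i + j) (cm Γ x y) + phi Γ (i + j) (cm Γ x' y) := by
  rw [← phi_mul]
  apply phi_eq_of_pr
  simp only [cm, Subgroup.coe_mul, map_mul]
  exact pr_comm_mul_left Γ x.2 x'.2 y.2

theorem cm_mul_right {i j : ℕ} (x : Γ i) (y y' : Γ j) :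
    phi Γ (i + j) (cm Γ x (y * y')) = phi Γ (i + j) (cm Γ x y) + phi Γ (i + j) (cm Γ x y') := by
  rw [← phi_mul]
  apply phi_eq_of_pr
  simp only [cm, Subgroup.coe_mul, map_mul]
  exact pr_comm_mul_right Γ x.2 y.2 y'.2

theorem cm_one_left {i j : ℕ} (y : Γ j) : phi Γ (i + j) (cm Γ (1 : Γ i) y) = 0 := by
  rw [phi_eq_zero_iff]; simp [cm]

theorem cm_one_right {i j : ℕ} (x : Γ i) : phi Γ (i + j) (cm Γ x (1 : Γ j)) = 0 := by
  rw [phi_eq_zero_iff]; simp [cm]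

instance : DirectSum.GNonUnitalNonAssocSemiring (Comp Γ) where
  mul := gmul Γ
  mul_zero := by
    intro i j a
    obtain ⟨x, rfl⟩ := phi_surj Γ i a
    rw [← phi_one Γ j, gmul_phi, cm_one_right]
  zero_mul := by
    intro i j b
    obtain ⟨y, rfl⟩ := phi_surj Γ j b
    rw [← phi_one Γ i, gmul_phi, cm_one_left]
  mul_add := by
    intro i j a b c
    obtain ⟨x, rfl⟩ := phi_surj Γ i a
    obtain ⟨y, rfl⟩ := phi_surj Γ j b
    obtain ⟨z, rfl⟩ := phi_surj Γ j c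
    rw [← phi_mul, gmul_phi, gmul_phi, gmul_phi, cm_mul_right]
  add_mul := by
    intro i j a b c
    obtain ⟨x, rfl⟩ := phi_surj Γ i a
    obtain ⟨y, rfl⟩ := phi_surj Γ i b
    obtain ⟨z, rfl⟩ := phi_surj Γ j c
    rw [← phi_mul, gmul_phi, gmul_phi, gmul_phi, cm_mul_left]

end SC

end Cfsg.Agent.Lib.Helper9.Hkk
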