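import Mathlib
import Cfsg.Agent.Lib.Helper9.HkkD

set_option autoImplicit false
set_option linter.unusedSectionVars false
set_option linter.unusedVariables false
set_option linter.style.longLine false
set_option linter.unusedSimpArgs false

set_option maxHeartbeats 1600000
namespace Cfsg.Agent.Lib.Helper9.Hkk

/-! The associated graded Lie ring of a strongly central filtration: Lie ring structure. -/

open scoped commutatorElement

variable {G : Type*} [Group G]

namespace SC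

variable (Γ : ℕ → Subgroup G) [hΓ : SC Γ]

/-- the associated graded Lie ring -/
def LG : Type _ := DirectSum ℕ (Comp Γ)

noncomputable instance : AddCommGroup (LG Γ) :=
  inferInstanceAs (AddCommGroup (DirectSum ℕ (Comp Γ)))

/-- bracket -/
noncomputable def brk : LG Γ →+ LG Γ →+ LG Γ := DirectSum.mulHom (Comp Γ)

/-- embedding of a component -/
noncomputable def ofc (m : ℕ) : Comp Γ m →+ LG Γ := DirectSum.of (Comp Γ) m

theorem brk_ofc {i j : ℕ} (a : Comp Γ i) (b : Comp Γ j) :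
    brk Γ (ofc Γ i a) (ofc Γ j b) = ofc Γ (i + j) (gmul Γ a b) := DirectSum.mulHom_of_of a b

theorem ofc_injective (m : ℕ) : Function.Injective (ofc Γ m) := DirectSum.of_injective m

open Classical in
/-- total version of the canonical maps -/
noncomputable def Phi (m : ℕ) (g : G) : LG Γ :=
  if h : g ∈ Γ m then ofc Γ m (phi Γ m ⟨g, h⟩) else 0

theorem Phi_of_mem {m : ℕ} {g : G} (h : g ∈ Γ m) : Phi Γ m g = ofc Γ m (phi Γ m ⟨g, h⟩) :=
  dif_pos h

theorem Phi_mul {m : ℕ} {g h : G} (hg : g ∈ Γ m) (hh : h ∈ Γ m) :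
    Phi Γ m (g * h) = Phi Γ m g + Phi Γ m h := by
  rw [Phi_of_mem Γ hg, Phi_of_mem Γ hh, Phi_of_mem Γ (mul_mem hg hh), ← map_add, ← phi_mul]
  rfl

theorem Phi_one (m : ℕ) : Phi Γ m 1 = 0 := by
  rw [Phi_of_mem Γ (one_mem _)]
  have : (⟨1, one_mem _⟩ : Γ m) = 1 := rfl
  rw [this, phi_one, map_zero]

theorem Phi_inv {m : ℕ} {g : G} (hg : g ∈ Γ m) : Phi Γ m g⁻¹ = -Phi Γ m g := by
  rw [Phi_of_mem Γ hg, Phi_of_mem Γ (inv_mem hg), ← map_neg, ← phi_inv]
  rfl

theorem Phi_eq_zero_iff {m : ℕ} {g : G} (hg : g ∈ Γ m) : Phi Γ m g = 0 ↔ g ∈ Γ (m + 1) := by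
  rw [Phi_of_mem Γ hg, ← map_zero (ofc Γ m), (ofc_injective Γ m).eq_iff]
  exact phi_eq_zero_iff Γ

theorem Phi_congr {m : ℕ} {g h : G} (hg : g ∈ Γ m) (hh : h ∈ Γ m) (hmod : g⁻¹ * h ∈ Γ (m + 1)) :
    Phi Γ m g = Phi Γ m h := by
  rw [Phi_of_mem Γ hg, Phi_of_mem Γ hh]
  congr 1
  exact (phi_eq_iff Γ).2 hmod

theorem Phi_conj {m : ℕ} {z : G} (hz : z ∈ Γ m) (g : G) : Phi Γ m (g * z * g⁻¹) = Phi Γ m z := by
  apply Phi_congr Γ ((SC.normal m).conj_mem z hz g) hz
  have e : (g * z * g⁻¹)⁻¹ * z = ⁅g, z⁻¹⁆ := by simp only [commutatorElement_def]; group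
  rw [e]
  exact cent_mem' Γ (inv_mem hz) g

theorem brk_Phi {i j : ℕ} {x y : G} (hx : x ∈ Γ i) (hy : y ∈ Γ j) :
    brk Γ (Phi Γ i x) (Phi Γ j y) = Phi Γ (i + j) ⁅x, y⁆ := by
  rw [Phi_of_mem Γ hx, Phi_of_mem Γ hy, Phi_of_mem Γ (comm_mem Γ hx hy), brk_ofc]
  rfl

theorem LG_induction {P : LG Γ → Prop} (h0 : P 0) (hadd : ∀ a b, P a → P b → P (a + b))
    (hgen : ∀ m g, g ∈ Γ m → P (Phi Γ m g)) : ∀ a, P a := by
  intro a
  refine DirectSum.induction_on (motive := P) a h0 ?_ hadd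
  intro i x
  obtain ⟨y, rfl⟩ := phi_surj Γ i x
  have := hgen i y y.2
  rwa [Phi_of_mem Γ y.2] at this

theorem brk_skew (a b : LG Γ) : brk Γ a b + brk Γ b a = 0 := by
  revert b
  refine LG_induction Γ (P := fun a => ∀ b, brk Γ a b + brk Γ b a = 0) ?_ ?_ ?_ a
  · intro b; simp
  · intro a a' ha ha' b
    rw [map_add, AddMonoidHom.add_apply, map_add, add_add_add_comm, ha b, ha' b, add_zero]
  · intro i x hx b
    refine LG_induction Γ (P := fun b => brk Γ (Phi Γ i x) b + brk Γ b (Phi Γ i x) = 0) ?_ ?_ ?_ b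
    · simp
    · intro b b' hb hb'
      rw [map_add, map_add, AddMonoidHom.add_apply, add_add_add_comm, hb, hb', add_zero]
    · intro j y hy
      rw [brk_Phi Γ hx hy, brk_Phi Γ hy hx, add_comm j i, ← commutatorElement_inv x y,
        Phi_inv Γ (comm_mem Γ hx hy), add_neg_cancel]

theorem brk_self (a : LG Γ) : brk Γ a a = 0 := by
  refine LG_induction Γ (P := fun a => brk Γ a a = 0) ?_ ?_ ?_ a
  · simp
  · intro a b ha hb
    simp only [map_add, AddMonoidHom.add_apply, ha, hb, zero_add, add_zero]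
    first | exact brk_skew Γ b a | exact brk_skew Γ a b
  · intro i x hx
    rw [brk_Phi Γ hx hx, commutatorElement_self, Phi_one]

/-- cyclic Jacobi sum -/
noncomputable def jac (a b c : LG Γ) : LG Γ :=
  brk Γ (brk Γ a b) c + brk Γ (brk Γ b c) a + brk Γ (brk Γ c a) b

theorem jac_add1 (a a' b c : LG Γ) : jac Γ (a + a') b c = jac Γ a b c + jac Γ a' b c := by
  unfold jac
  simp only [map_add, AddMonoidHom.add_apply]
  abel

theorem jac_add2 (a b b' c : LG Γ) : jac Γ a (b + b') c = jac Γ a b c + jac Γ a b' c := by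
  unfold jac
  simp only [map_add, AddMonoidHom.add_apply]
  abel

theorem jac_add3 (a b c c' : LG Γ) : jac Γ a b (c + c') = jac Γ a b c + jac Γ a b c' := by
  unfold jac
  simp only [map_add, AddMonoidHom.add_apply]
  abel

theorem hall_witt (x y z : G) :
    ⁅⁅x, y⁆, y * z * y⁻¹⁆ * ⁅⁅y, z⁆, z * x * z⁻¹⁆ * ⁅⁅z, x⁆, x * y * x⁻¹⁆ = 1 := by
  simp only [commutatorElement_def]; group

theorem jac_gen {i j k : ℕ} {x y z : G} (hx : x ∈ Γ i) (hy : y ∈ Γ j) (hz : z ∈ Γ k) :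
    jac Γ (Phi Γ i x) (Phi Γ j y) (Phi Γ k z) = 0 := by
  unfold jac
  have hxy := comm_mem Γ hx hy
  have hyz := comm_mem Γ hy hz
  have hzx := comm_mem Γ hz hx
  have cz : y * z * y⁻¹ ∈ Γ k := (SC.normal k).conj_mem z hz y
  have cx : z * x * z⁻¹ ∈ Γ i := (SC.normal i).conj_mem x hx z
  have cy : x * y * x⁻¹ ∈ Γ j := (SC.normal j).conj_mem y hy x
  rw [brk_Phi Γ hx hy, brk_Phi Γ hy hz, brk_Phi Γ hz hx,
    ← Phi_conj Γ hz y, ← Phi_conj Γ hx z, ← Phi_conj Γ hy x,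
    brk_Phi Γ hxy cz, brk_Phi Γ hyz cx, brk_Phi Γ hzx cy]
  have e1 : j + k + i = i + j + k := by omega
  have e2 : k + i + j = i + j + k := by omega
  rw [e1, e2]
  have m1 := comm_mem Γ hxy cz
  have m2 := comm_mem Γ hyz cx
  have m3 := comm_mem Γ hzx cy
  rw [e1] at m2
  rw [e2] at m3
  rw [← Phi_mul Γ m1 m2, ← Phi_mul Γ (mul_mem m1 m2) m3, hall_witt, Phi_one]

theorem jac_zero (a b c : LG Γ) : jac Γ a b c = 0 := by
  revert b c
  refine LG_induction Γ (P := fun a => ∀ b c, jac Γ a b c = 0) ?_ ?_ ?_ a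
  · intro b c; unfold jac; simp
  · intro a a' ha ha' b c
    rw [jac_add1, ha, ha', add_zero]
  · intro i x hx b
    refine LG_induction Γ (P := fun b => ∀ c, jac Γ (Phi Γ i x) b c = 0) ?_ ?_ ?_ b
    · intro c; unfold jac; simp
    · intro b b' hb hb' c
      rw [jac_add2, hb, hb', add_zero]
    · intro j y hy c
      refine LG_induction Γ (P := fun c => jac Γ (Phi Γ i x) (Phi Γ j y) c = 0) ?_ ?_ ?_ c
      · unfold jac; simp
      · intro c c' hc hc'
        rw [jac_add3, hc, hc', add_zero]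
      · intro k z hz
        exact jac_gen Γ hx hy hz

theorem brk_leibniz (a b c : LG Γ) :
    brk Γ a (brk Γ b c) = brk Γ (brk Γ a b) c + brk Γ b (brk Γ a c) := by
  have hJ := jac_zero Γ a b c
  unfold jac at hJ
  have s1 := brk_skew Γ a (brk Γ b c)
  have s2 := brk_skew Γ b (brk Γ a c)
  have s3 := brk_skew Γ a c
  have hY' : brk Γ (brk Γ a c) b = -brk Γ (brk Γ c a) b := by
    rw [eq_neg_of_add_eq_zero_left s3, map_neg, AddMonoidHom.neg_apply]
  rw [eq_neg_of_add_eq_zero_left s1, eq_neg_of_add_eq_zero_left s2, hY', neg_neg]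
  rw [add_right_comm] at hJ
  exact (eq_neg_of_add_eq_zero_left hJ).symm

noncomputable instance : LieRing (LG Γ) :=
  { (inferInstance : AddCommGroup (LG Γ)) with
    bracket := fun a b => brk Γ a b
    add_lie := by
      intro x y z
      show brk Γ (x + y) z = brk Γ x z + brk Γ y z
      rw [map_add, AddMonoidHom.add_apply]
    lie_add := by
      intro x y z
      show brk Γ x (y + z) = brk Γ x y + brk Γ x z
      rw [map_add]
    lie_self := fun x => brk_self Γ x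
    leibniz_lie := fun x y z => brk_leibniz Γ x y z }

theorem lie_def (a b : LG Γ) : ⁅a, b⁆ = brk Γ a b := rfl

theorem lie_Phi {i j : ℕ} {x y : G} (hx : x ∈ Γ i) (hy : y ∈ Γ j) :
    ⁅Phi Γ i x, Phi Γ j y⁆ = Phi Γ (i + j) ⁅x, y⁆ := brk_Phi Γ hx hy

end SC

end Cfsg.Agent.Lib.Helper9.Hkk
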