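import Mathlib
import Cfsg.Agent.Lib.Helper9.HkkC
import Cfsg.Agent.Lib.Helper9.HkkE

set_option autoImplicit false
set_option linter.unusedSectionVars false
set_option linter.unusedVariables false
set_option linter.style.longLine false
set_option linter.unusedSimpArgs false

set_option maxHeartbeats 1600000
namespace Cfsg.Agent.Lib.Helper9.Hkk

/-! Induced endomorphism of the associated Lie ring; the top component; application of `hl_main`. -/

open scoped commutatorElement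

variable {G : Type*} [Group G]

namespace SC

variable (Γ : ℕ → Subgroup G) [hΓ : SC Γ] (β : G →* G) (hβ : ∀ i, ∀ g ∈ Γ i, β g ∈ Γ i)

/-- induced map on a component, as a function -/
def compFun (i : ℕ) (a : Comp Γ i) : Comp Γ i :=
  Quotient.liftOn' (Additive.toMul a) (fun x => phi Γ i ⟨β x, hβ i x x.2⟩) (by
    intro x y hxy
    rw [QuotientGroup.leftRel_apply, Subgroup.mem_subgroupOf] at hxy
    apply (phi_eq_iff Γ).2
    have e : (β (x : G))⁻¹ * β (y : G) = β ((x : G)⁻¹ * y) := by rw [map_mul, map_inv]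
    show (β (x : G))⁻¹ * β (y : G) ∈ Γ (i + 1)
    rw [e]
    exact hβ (i + 1) _ (by simpa using hxy))

theorem compFun_phi (i : ℕ) (x : Γ i) :
    compFun Γ β hβ i (phi Γ i x) = phi Γ i ⟨β x, hβ i x x.2⟩ := rfl

/-- induced map on a component -/
def compMap (i : ℕ) : Comp Γ i →+ Comp Γ i where
  toFun := compFun Γ β hβ i
  map_zero' := by
    rw [← phi_one Γ i, compFun_phi]
    have : (⟨β ((1 : Γ i) : G), hβ i _ (1 : Γ i).2⟩ : Γ i) = 1 := by
      apply Subtype.ext; simp
    rw [this]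
  map_add' := by
    intro a b
    obtain ⟨x, rfl⟩ := phi_surj Γ i a
    obtain ⟨y, rfl⟩ := phi_surj Γ i b
    rw [← phi_mul, compFun_phi, compFun_phi, compFun_phi, ← phi_mul]
    congr 1
    apply Subtype.ext
    simp

/-- induced endomorphism of the Lie ring -/
noncomputable def LGmap : LG Γ →+ LG Γ := DirectSum.map (fun i => compMap Γ β hβ i)

theorem LGmap_Phi {m : ℕ} {g : G} (hg : g ∈ Γ m) :
    LGmap Γ β hβ (Phi Γ m g) = Phi Γ m (β g) := by
  rw [Phi_of_mem Γ hg, Phi_of_mem Γ (hβ m g hg)]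
  exact DirectSum.map_of _ _ _

theorem LGmap_lie (a b : LG Γ) : LGmap Γ β hβ ⁅a, b⁆ = ⁅LGmap Γ β hβ a, LGmap Γ β hβ b⁆ := by
  revert b
  refine LG_induction Γ (P := fun a => ∀ b, LGmap Γ β hβ ⁅a, b⁆ = ⁅LGmap Γ β hβ a, LGmap Γ β hβ b⁆)
    ?_ ?_ ?_ a
  · intro b; simp
  · intro a a' ha ha' b
    rw [add_lie, map_add, map_add, add_lie, ha, ha']
  · intro i x hx b
    refine LG_induction Γ (P := fun b => LGmap Γ β hβ ⁅Phi Γ i x, b⁆ =
      ⁅LGmap Γ β hβ (Phi Γ i x), LGmap Γ β hβ b⁆) ?_ ?_ ?_ b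
    · simp
    · intro b b' hb hb'
      rw [lie_add, map_add, map_add, lie_add, hb, hb']
    · intro j y hy
      rw [lie_Phi Γ hx hy, LGmap_Phi Γ β hβ hx, LGmap_Phi Γ β hβ hy,
        LGmap_Phi Γ β hβ (comm_mem Γ hx hy), lie_Phi Γ (hβ i x hx) (hβ j y hy),
        map_commutatorElement]

theorem iter_mem (hβ : ∀ i, ∀ g ∈ Γ i, β g ∈ Γ i) {m : ℕ} {g : G} (hg : g ∈ Γ m) (t : ℕ) :
    (β^[t]) g ∈ Γ m := by
  induction t with
  | zero => exact hg
  | succ t ih => rw [Function.iterate_succ_apply']; exact hβ m _ ih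

theorem LGmap_iter_Phi {m : ℕ} {g : G} (hg : g ∈ Γ m) (t : ℕ) :
    ((LGmap Γ β hβ)^[t]) (Phi Γ m g) = Phi Γ m ((β^[t]) g) := by
  induction t with
  | zero => rfl
  | succ t ih =>
    rw [Function.iterate_succ_apply', ih, LGmap_Phi Γ β hβ (iter_mem Γ β hβ hg t),
      Function.iterate_succ_apply']

theorem Phi_list_prod {m : ℕ} (f : ℕ → G) (hf : ∀ k, f k ∈ Γ m) (n : ℕ) :
    ((List.range n).map f).prod ∈ Γ m ∧
    ∑ j ∈ Finset.range n, Phi Γ m (f j) = Phi Γ m ((List.range n).map f).prod := by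
  induction n with
  | zero => simp [Phi_one]
  | succ n ih =>
    rw [Finset.sum_range_succ, List.range_succ, List.map_append, List.prod_append, ih.2]
    simp only [List.map_cons, List.map_nil, List.prod_cons, List.prod_nil, mul_one]
    exact ⟨mul_mem ih.1 (hf n), (Phi_mul Γ ih.1 (hf n)).symm⟩

theorem ds_torsion_free {ι : Type*} [DecidableEq ι] {A : ι → Type*} [∀ i, AddCommGroup (A i)] (p : ℕ)
    (h : ∀ i (c : A i), p • c = 0 → c = 0) (a : DirectSum ι A) (ha : p • a = 0) : a = 0 := by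
  apply DFinsupp.ext
  intro i
  apply h
  have := DFunLike.congr_fun ha i
  rwa [DFinsupp.nsmul_apply] at this

theorem LG_torsion_free [Finite G] {p : ℕ} (hcop : (Nat.card G).Coprime p) (a : LG Γ)
    (ha : p • a = 0) : a = 0 := by
  have hcomp : ∀ (i : ℕ) (c : Comp Γ i), p • c = 0 → c = 0 := by
    intro i c hc
    obtain ⟨x, rfl⟩ := phi_surj Γ i c
    have hpow : ∀ k : ℕ, phi Γ i (x ^ k) = k • phi Γ i x := by
      intro k
      induction k with
      | zero => simp [phi_one]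
      | succ k ih => rw [pow_succ, phi_mul, succ_nsmul, ih]
    rw [← hpow, phi_eq_zero_iff] at hc
    rw [phi_eq_zero_iff]
    have hx : ((x : G) ^ p) ^ (Nat.card G).gcdB p = (x : G) := (powCoprime hcop).left_inv (x : G)
    rw [← hx]
    apply zpow_mem
    simpa using hc
  exact ds_torsion_free p hcomp a ha

/-- application of Higman's theorem for Lie rings -/
theorem lbr_eq_zero [Finite G] {p : ℕ} [hp : Fact p.Prime] (hβ : ∀ i, ∀ g ∈ Γ i, β g ∈ Γ i) (hper : ∀ g, (β^[p]) g = g)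
    (hprod : ∀ g, ((List.range p).map (fun k => (β^[k]) g)).prod = 1)
    (hcop : (Nat.card G).Coprime p) (c : ℕ)
    (hc : ∀ F : ZMod p → AddSubgroup (Conv p (LG Γ)), Closed F → Nil c F)
    (x : LG Γ) (ys : List (LG Γ)) (hlen : ys.length = c) : lbr x ys = 0 := by
  refine hl_main (LGmap Γ β hβ) (LGmap_lie Γ β hβ) ?_ ?_ (LG_torsion_free Γ hcop) c hc x ys hlen
  · -- period
    intro a
    refine LG_induction Γ (P := fun a => ((LGmap Γ β hβ)^[p]) a = a) ?_ ?_ ?_ a
    · exact iterate_map_zero _ _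
    · intro a b ha hb
      rw [iterate_map_add, ha, hb]
    · intro m g hg
      rw [LGmap_iter_Phi Γ β hβ hg, hper]
  · -- norm
    intro a
    refine LG_induction Γ (P := fun a => ∑ j ∈ Finset.range p, ((LGmap Γ β hβ)^[j]) a = 0) ?_ ?_ ?_ a
    · simp [iterate_map_zero]
    · intro a b ha hb
      simp only [iterate_map_add, Finset.sum_add_distrib, ha, hb, add_zero]
    · intro m g hg
      simp only [LGmap_iter_Phi Γ β hβ hg]
      rw [(Phi_list_prod Γ (fun k => (β^[k]) g) (fun k => iter_mem Γ β hβ hg k) p).2, hprod, Phi_one]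

/-- if all brackets of `c + 1` elements vanish then `Γ (c+1) ≤ Γ (c+2)` -/
theorem top_le (hgen : ∀ m, 1 ≤ m → Γ (m + 1) = ⁅Γ m, Γ 1⁆) (c : ℕ)
    (hvan : ∀ (x : LG Γ) (ys : List (LG Γ)), ys.length = c → lbr x ys = 0) :
    Γ (c + 1) ≤ Γ (c + 2) := by
  have key : ∀ m : ℕ, ∀ g ∈ Γ (m + 1), Phi Γ (m + 1) g ∈
      AddSubgroup.closure {z | ∃ (x : LG Γ) (ys : List (LG Γ)), ys.length = m ∧ lbr x ys = z} := by
    intro m
    induction m with
    | zero =>
      intro g hg
      exact AddSubgroup.subset_closure ⟨Phi Γ 1 g, [], rfl, rfl⟩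
    | succ m ih =>
      intro g hg
      have hg' : g ∈ ⁅Γ (m + 1), Γ 1⁆ := by rw [← hgen (m + 1) (by omega)]; exact hg
      have : g ∈ Γ (m + 1 + 1) ∧ Phi Γ (m + 1 + 1) g ∈ AddSubgroup.closure
          {z | ∃ (x : LG Γ) (ys : List (LG Γ)), ys.length = m + 1 ∧ lbr x ys = z} := by
        rw [Subgroup.commutator_def] at hg'
        refine Subgroup.closure_induction (p := fun g _ => g ∈ Γ (m + 1 + 1) ∧
          Phi Γ (m + 1 + 1) g ∈ AddSubgroup.closure
          {z | ∃ (x : LG Γ) (ys : List (LG Γ)), ys.length = m + 1 ∧ lbr x ys = z}) ?_ ?_ ?_ ?_ hg'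
        · rintro _ ⟨a, ha, b, hb, rfl⟩
          refine ⟨comm_mem Γ ha hb, ?_⟩
          rw [← lie_Phi Γ ha hb]
          have hA := ih a ha
          refine AddSubgroup.closure_induction (p := fun A _ => ⁅A, Phi Γ 1 b⁆ ∈ AddSubgroup.closure
            {z | ∃ (x : LG Γ) (ys : List (LG Γ)), ys.length = m + 1 ∧ lbr x ys = z}) ?_ ?_ ?_ ?_ hA
          · rintro _ ⟨x, ys, hlen, rfl⟩
            refine AddSubgroup.subset_closure ⟨x, ys ++ [Phi Γ 1 b], ?_, ?_⟩
            · rw [List.length_append, hlen]; rfl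
            · rw [lbr_append]; rfl
          · rw [zero_lie]; exact zero_mem _
          · intro u v _ _ hu hv; rw [add_lie]; exact add_mem hu hv
          · intro u _ hu; rw [neg_lie]; exact neg_mem hu
        · exact ⟨one_mem _, by rw [Phi_one]; exact zero_mem _⟩
        · rintro u v _ _ ⟨hu1, hu2⟩ ⟨hv1, hv2⟩
          exact ⟨mul_mem hu1 hv1, by rw [Phi_mul Γ hu1 hv1]; exact add_mem hu2 hv2⟩
        · rintro u _ ⟨hu1, hu2⟩
          exact ⟨inv_mem hu1, by rw [Phi_inv Γ hu1]; exact neg_mem hu2⟩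
      exact this.2
  intro g hg
  have h := key c g hg
  have hbot : AddSubgroup.closure
      {z | ∃ (x : LG Γ) (ys : List (LG Γ)), ys.length = c ∧ lbr x ys = z} = ⊥ := by
    rw [eq_bot_iff]
    apply (AddSubgroup.closure_le _).2
    rintro _ ⟨x, ys, hlen, rfl⟩
    rw [hvan x ys hlen]; exact zero_mem _
  rw [hbot, AddSubgroup.mem_bot] at h
  exact (Phi_eq_zero_iff Γ hg).1 h

end SC

end Cfsg.Agent.Lib.Helper9.Hkk
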