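import Mathlib
import Cfsg.Agent.Lib.Helper4.HP3
import Cfsg.Agent.Lib.Helper9.HkkF

set_option autoImplicit false
set_option linter.unusedSectionVars false
set_option linter.unusedVariables false
set_option linter.style.longLine false
set_option linter.unusedSimpArgs false

set_option maxHeartbeats 1600000
namespace Cfsg.Agent.Lib.Helper9.Hkk

/-! The lower central filtration; Higman–Kreknin–Kostrikin for finite groups. -/

open scoped commutatorElement
open Cfsg.Agent.Lib.Helper4.HP (lcsF lcsF_filt)

variable {G : Type*} [Group G]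

instance lcs_SC : SC (lcsF (⊤ : Subgroup G)) where
  normal := by
    intro i
    cases i with
    | zero => exact (inferInstance : (⊤ : Subgroup G).Normal)
    | succ i =>
      show ((⊤ : Subgroup G).lowerCentralSeries i).Normal
      infer_instance
  anti := fun i => (lcsF_filt (⊤ : Subgroup G)).anti (Nat.le_succ i)
  comm := (lcsF_filt (⊤ : Subgroup G)).comm
  cent := by
    intro i
    cases i with
    | zero => exact le_top
    | succ i => exact le_of_eq rfl

theorem lcsF_gen (m : ℕ) (hm : 1 ≤ m) :
    lcsF (⊤ : Subgroup G) (m + 1) = ⁅lcsF (⊤ : Subgroup G) m, lcsF (⊤ : Subgroup G) 1⁆ := by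
  obtain ⟨k, rfl⟩ := Nat.exists_eq_add_of_le' hm
  rfl

theorem lcsF_aut (α : MulAut G) (i : ℕ) (g : G) (hg : g ∈ lcsF (⊤ : Subgroup G) i) :
    α.toMonoidHom g ∈ lcsF (⊤ : Subgroup G) i := by
  cases i with
  | zero => exact Subgroup.mem_top _
  | succ i =>
    have hch : ((⊤ : Subgroup G).lowerCentralSeries i).Characteristic := inferInstance
    have h := hch.fixed α
    have hg' : g ∈ (⊤ : Subgroup G).lowerCentralSeries i := hg
    rw [← h] at hg'
    exact hg'

theorem mulAut_pow_apply (α : MulAut G) (n : ℕ) (g : G) : (α ^ n) g = (α.toMonoidHom^[n]) g := by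
  induction n generalizing g with
  | zero => rfl
  | succ n ih =>
    rw [pow_succ, MulAut.mul_apply, ih, Function.iterate_succ_apply]
    rfl

theorem coprime_of_fpf [Finite G] {p : ℕ} (hp : p.Prime) (α : MulAut G) (hα : orderOf α = p)
    (hfpf : ∀ g : G, α g = g → g = 1) : (Nat.card G).Coprime p := by
  haveI := Fact.mk hp
  have hP : IsPGroup p (Subgroup.zpowers α) :=
    IsPGroup.of_card (n := 1) (by rw [Nat.card_zpowers, hα, pow_one])
  have h := hP.card_modEq_card_fixedPoints G
  have hfix : MulAction.fixedPoints (Subgroup.zpowers α) G = {1} := by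
    ext g
    simp only [MulAction.mem_fixedPoints, Set.mem_singleton_iff]
    constructor
    · intro h
      exact hfpf g (h ⟨α, Subgroup.mem_zpowers α⟩)
    · rintro rfl b
      exact smul_one b
  rw [hfix] at h
  simp only [Nat.card_eq_fintype_card, Fintype.card_unique, Set.card_singleton] at h
  rw [Nat.coprime_comm, hp.coprime_iff_not_dvd]
  intro hd
  have h0 : Nat.card G ≡ 0 [MOD p] := (Nat.modEq_zero_iff_dvd).2 hd
  have h1 : (0 : ℕ) ≡ 1 [MOD p] := h0.symm.trans (by simpa using h)
  have := (Nat.modEq_zero_iff_dvd).1 h1.symm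
  exact hp.one_lt.ne' (Nat.dvd_one.1 this)

theorem lcs_bot_of_le (hnil : Group.IsNilpotent G) (c : ℕ)
    (h : (⊤ : Subgroup G).lowerCentralSeries c ≤ (⊤ : Subgroup G).lowerCentralSeries (c + 1)) :
    (⊤ : Subgroup G).lowerCentralSeries c = ⊥ := by
  have heq : (⊤ : Subgroup G).lowerCentralSeries (c + 1) = (⊤ : Subgroup G).lowerCentralSeries c :=
    le_antisymm ((⊤ : Subgroup G).lowerCentralSeries_antitone (Nat.le_succ c)) h
  have hall : ∀ t, (⊤ : Subgroup G).lowerCentralSeries (c + t) =
      (⊤ : Subgroup G).lowerCentralSeries c := by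
    intro t
    induction t with
    | zero => rfl
    | succ t ih =>
      rw [← add_assoc, Subgroup.lowerCentralSeries_succ, ih, ← Subgroup.lowerCentralSeries_succ, heq]
  obtain ⟨n, hn⟩ := Subgroup.nilpotent_iff_lowerCentralSeries.1 hnil
  rcases le_total n c with h1 | h1
  · exact le_bot_iff.1 (hn ▸ (⊤ : Subgroup G).lowerCentralSeries_antitone h1)
  · obtain ⟨t, rfl⟩ := Nat.exists_eq_add_of_le h1
    rw [← hall t]; exact hn

/-- Higman's theorem for groups, relative to a class bound for graded families. -/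
theorem hkk_group_aux [Finite G] {p : ℕ} [hp : Fact p.Prime] (α : MulAut G)
    (hα : orderOf α = p) (hfpf : ∀ g : G, α g = g → g = 1) (hnil : Group.IsNilpotent G) (c : ℕ)
    (hc : ∀ F : ZMod p → AddSubgroup (Conv p (SC.LG (lcsF (⊤ : Subgroup G)))), Closed F → Nil c F) :
    (⊤ : Subgroup G).lowerCentralSeries c = ⊥ := by
  have hper : ∀ g, (α.toMonoidHom^[p]) g = g := by
    intro g
    rw [← mulAut_pow_apply, ← hα, pow_orderOf_eq_one]
    rfl
  have hff : MonoidHom.FixedPointFree α.toMonoidHom := fun g hg => hfpf g hg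
  have hprod := fun g => hff.prod_pow_eq_one (n := p) (funext hper) g
  have hcop := coprime_of_fpf hp.out α hα hfpf
  have hvan := SC.lbr_eq_zero (lcsF (⊤ : Subgroup G)) α.toMonoidHom (lcsF_aut α) hper hprod hcop c hc
  have hle := SC.top_le (lcsF (⊤ : Subgroup G)) lcsF_gen c hvan
  exact lcs_bot_of_le hnil c hle


end Cfsg.Agent.Lib.Helper9.Hkk
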