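import Cfsg.Agent.Lib.Helper9.FusionSat3

set_option autoImplicit false

namespace Cfsg.Agent.Lib.Helper9

open Cfsg Cfsg.FusionSystem

variable {Ω : Type*} [Group Ω] {S : Subgroup Ω}

theorem centralizerIn_le_extender (Q : Subgroup Ω) (ψ : Q →* Ω) :
    centralizerIn S Q ≤ extender S Q ψ := by
  intro c hc
  apply Subgroup.subset_closure
  have hc2 : c ∈ Subgroup.centralizer (Q : Set Ω) := hc.2
  refine ⟨hc.1, Subgroup.centralizer_le_normalizer _ hc2, 1, S.one_mem, ?_⟩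
  intro x hx
  have hcx : c * (x : Ω) * c⁻¹ = x := by
    have := hc2 x x.2
    rw [← this]; group
  have : (⟨c * (x : Ω) * c⁻¹, hx⟩ : Q) = x := Subtype.ext hcx
  rw [this]; simp

/-- an extension `ρ` of `ψ : Q → P` to the extender maps `C_S(Q)` into `C_S(P)` -/
theorem extension_centralizer_mem (F : FusionSystem S) {P Q : Subgroup Ω} {ψ : Q →* Ω}
    (hψ : ψ ∈ F.Hom Q) (hψr : ψ.range = P)
    {ρ : (extender S Q ψ : Subgroup Ω) →* Ω} (hρ : ρ ∈ F.Hom (extender S Q ψ))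
    (hρψ : ∀ (x : Ω) (hP : x ∈ Q) (hN : x ∈ extender S Q ψ), ρ ⟨x, hN⟩ = ψ ⟨x, hP⟩)
    (c : Ω) (hc : c ∈ centralizerIn S Q) :
    ρ ⟨c, centralizerIn_le_extender Q ψ hc⟩ ∈ centralizerIn S P := by
  have hQS : Q ≤ S := hom_le F hψ
  have hQle : Q ≤ extender S Q ψ := le_extender hQS ψ (fun x => hom_mem F hψ x)
  refine ⟨hom_mem F hρ _, ?_⟩
  show _ ∈ Subgroup.centralizer (P : Set Ω)
  rw [Subgroup.mem_centralizer_iff]
  intro y hy
  obtain ⟨x, rfl⟩ := hψr.ge hy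
  rw [← hρψ x x.2 (hQle x.2), ← map_mul, ← map_mul]
  congr 1
  apply Subtype.ext
  exact hc.2 x x.2

/-- In a saturated system a fully centralized subgroup containing its centralizer is centric. -/
theorem centric_of_fullyCentralized [Finite S] {p : ℕ} [Fact p.Prime] (hS : IsPGroup p S)
    (F : FusionSystem S) (hF : F.IsSaturated p) {U : Subgroup Ω} (hU : F.IsFullyCentralized U)
    (hC : centralizerIn S U ≤ U) : F.IsCentric U := by
  have hrec := receptive_of_fullyCentralized hS F hF hU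
  refine ⟨hU.1, ?_⟩
  intro Q hUQ
  obtain ⟨ψ, hψ, hψr⟩ := isConj_symm F hUQ
  obtain ⟨ρ, hρ, hρψ⟩ := hrec.2 Q ψ hψ hψr
  have hQS : Q ≤ S := hom_le F hψ
  have hQle : Q ≤ extender S Q ψ := le_extender hQS ψ (fun x => hom_mem F hψ x)
  intro c hc
  have h1 := hC (extension_centralizer_mem F hψ hψr hρ hρψ c hc)
  obtain ⟨x, hx⟩ := hψr.ge h1
  rw [← hρψ x x.2 (hQle x.2)] at hx
  have h2 := F.injective_of_mem hρ hx
  have h3 : (x : Ω) = c := congrArg (fun z : extender S Q ψ => (z : Ω)) h2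
  rw [← h3]
  exact x.2

end Cfsg.Agent.Lib.Helper9
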