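import Mathlib.GroupTheory.Sylow
import Mathlib.GroupTheory.PGroup

set_option autoImplicit false

namespace Cfsg.Agent.Lib.Helper9

variable {G : Type*} [Group G]

theorem mem_cj {g x : G} {H : Subgroup G} :
    x ∈ H.map (MulAut.conj g).toMonoidHom ↔ g⁻¹ * x * g ∈ H := by
  constructor
  · rintro ⟨y, hy, rfl⟩
    have : g⁻¹ * ((MulAut.conj g).toMonoidHom y) * g = y := by
      show g⁻¹ * (g * y * g⁻¹) * g = y
      group
    rw [this]; exact hy
  · intro h
    refine ⟨g⁻¹ * x * g, h, ?_⟩
    show g * (g⁻¹ * x * g) * g⁻¹ = x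
    group

theorem cj_mem_cj {g x : G} {H : Subgroup G} (hx : x ∈ H) :
    g * x * g⁻¹ ∈ H.map (MulAut.conj g).toMonoidHom := ⟨x, hx, rfl⟩

theorem cj_mono {g : G} {H K : Subgroup G} (h : H ≤ K) :
    H.map (MulAut.conj g).toMonoidHom ≤ K.map (MulAut.conj g).toMonoidHom :=
  Subgroup.map_mono h

theorem cj_cj (g h : G) (H : Subgroup G) :
    (H.map (MulAut.conj g).toMonoidHom).map (MulAut.conj h).toMonoidHom =
      H.map (MulAut.conj (h * g)).toMonoidHom := by
  rw [Subgroup.map_map]
  congr 1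
  ext x
  simp [MulAut.conj_apply, mul_assoc]

theorem cj_one (H : Subgroup G) : H.map (MulAut.conj (1 : G)).toMonoidHom = H := by
  ext x
  rw [mem_cj]
  simp

theorem cj_inv_cj (g : G) (H : Subgroup G) :
    (H.map (MulAut.conj g).toMonoidHom).map (MulAut.conj g⁻¹).toMonoidHom = H := by
  rw [cj_cj, inv_mul_cancel, cj_one]

theorem cj_cj_inv (g : G) (H : Subgroup G) :
    (H.map (MulAut.conj g⁻¹).toMonoidHom).map (MulAut.conj g).toMonoidHom = H := by
  rw [cj_cj, mul_inv_cancel, cj_one]

theorem card_cj (g : G) (H : Subgroup G) :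
    Nat.card (H.map (MulAut.conj g).toMonoidHom) = Nat.card H :=
  Subgroup.card_map_of_injective (MulAut.conj g).injective

theorem isPGroup_cj {p : ℕ} (g : G) {H : Subgroup G} (hH : IsPGroup p H) :
    IsPGroup p (H.map (MulAut.conj g).toMonoidHom) := hH.map _

theorem normalizer_cj (g : G) (H : Subgroup G) :
    Subgroup.normalizer ((H.map (MulAut.conj g).toMonoidHom : Subgroup G) : Set G) =
      (Subgroup.normalizer (H : Set G)).map (MulAut.conj g).toMonoidHom :=
  (Subgroup.map_equiv_normalizer_eq H (MulAut.conj g)).symm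

theorem centralizer_cj (g : G) (H : Subgroup G) :
    Subgroup.centralizer ((H.map (MulAut.conj g).toMonoidHom : Subgroup G) : Set G) =
      (Subgroup.centralizer (H : Set G)).map (MulAut.conj g).toMonoidHom := by
  ext x
  rw [mem_cj, Subgroup.mem_centralizer_iff, Subgroup.mem_centralizer_iff]
  constructor
  · intro h y hy
    have := h (g * y * g⁻¹) (cj_mem_cj hy)
    calc y * (g⁻¹ * x * g) = g⁻¹ * ((g * y * g⁻¹) * x) * g := by group
      _ = g⁻¹ * (x * (g * y * g⁻¹)) * g := by rw [this]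
      _ = g⁻¹ * x * g * y := by group
  · rintro h _ ⟨y, hy, rfl⟩
    have := h y hy
    show g * y * g⁻¹ * x = x * (g * y * g⁻¹)
    calc g * y * g⁻¹ * x = g * (y * (g⁻¹ * x * g)) * g⁻¹ := by group
      _ = g * ((g⁻¹ * x * g) * y) * g⁻¹ := by rw [this]
      _ = x * (g * y * g⁻¹) := by group

theorem exists_cj_le_sylow [Finite G] {p : ℕ} [Fact p.Prime] (S : Sylow p G) {H : Subgroup G}
    (hH : IsPGroup p H) : ∃ g : G, H.map (MulAut.conj g).toMonoidHom ≤ S := by
  obtain ⟨Q, hQ⟩ := hH.exists_le_sylow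
  obtain ⟨g, hg⟩ := MulAction.exists_smul_eq G Q S
  refine ⟨g, ?_⟩
  have h1 : ((g • Q : Sylow p G) : Subgroup G) = (Q : Subgroup G).map (MulAut.conj g).toMonoidHom := by
    rw [Sylow.coe_subgroup_smul]
    rfl
  rw [← hg, h1]
  exact Subgroup.map_mono hQ

theorem card_subgroupOf_of_le {T H : Subgroup G} (h : T ≤ H) :
    Nat.card (T.subgroupOf H) = Nat.card T :=
  Nat.card_congr (Subgroup.subgroupOfEquivOfLe h).toEquiv

/-- A `p`-subgroup of `H` of maximal order among the `p`-subgroups containing it is Sylow in `H`. -/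
theorem sylowIn_of_card_le [Finite G] {p : ℕ} [Fact p.Prime] {T H : Subgroup G} (hTH : T ≤ H)
    (hT : IsPGroup p T)
    (h : ∀ U : Subgroup G, T ≤ U → U ≤ H → IsPGroup p U → Nat.card U ≤ Nat.card T) :
    ∃ R : Sylow p H, (R : Subgroup H) = T.subgroupOf H := by
  have hT' : IsPGroup p (T.subgroupOf H) := hT.comap_subtype
  obtain ⟨R, hR⟩ := hT'.exists_le_sylow
  refine ⟨R, ?_⟩
  have hU1 : T ≤ (R : Subgroup H).map H.subtype := by
    intro x hx
    exact ⟨⟨x, hTH hx⟩, hR hx, rfl⟩
  have hU2 : (R : Subgroup H).map H.subtype ≤ H := by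
    rintro _ ⟨x, -, rfl⟩
    exact x.2
  have hU3 : IsPGroup p ((R : Subgroup H).map H.subtype) := R.isPGroup'.map _
  have hcard := h _ hU1 hU2 hU3
  have heq : T = (R : Subgroup H).map H.subtype := by
    have : (T : Set G) = ((R : Subgroup H).map H.subtype : Subgroup G) := by
      apply Set.eq_of_subset_of_ncard_le hU1
      · rw [← Nat.card_coe_set_eq, ← Nat.card_coe_set_eq]
        exact hcard
    exact SetLike.coe_injective this
  apply le_antisymm
  · intro x hx
    have : (x : G) ∈ (R : Subgroup H).map H.subtype := ⟨x, hx, rfl⟩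
    rw [← heq] at this
    exact this
  · exact hR

/-- If `T` is Sylow in `H`, every `p`-subgroup of `H` has order at most that of `T`. -/
theorem card_le_of_sylowIn [Finite G] {p : ℕ} [Fact p.Prime] {T H : Subgroup G} (hTH : T ≤ H)
    (R : Sylow p H) (hR : (R : Subgroup H) = T.subgroupOf H) {U : Subgroup G} (hU : U ≤ H)
    (hpU : IsPGroup p U) : Nat.card U ≤ Nat.card T := by
  have hU' : IsPGroup p (U.subgroupOf H) := hpU.comap_subtype
  obtain ⟨R', hR'⟩ := hU'.exists_le_sylow
  have h1 : Nat.card (U.subgroupOf H) ≤ Nat.card (R' : Subgroup H) :=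
    Nat.card_le_card_of_injective (Subgroup.inclusion hR') (Subgroup.inclusion_injective hR')
  have h2 : Nat.card (R' : Subgroup H) = Nat.card (R : Subgroup H) := by
    rw [Sylow.card_eq_multiplicity, Sylow.card_eq_multiplicity]
  rw [card_subgroupOf_of_le hU] at h1
  rw [h2, hR, card_subgroupOf_of_le hTH] at h1
  exact h1

end Cfsg.Agent.Lib.Helper9
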