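import Cfsg.Agent.Lib.Helper9.FusionNormalizer
import Cfsg.Agent.Lib.Helper9.SylowConj

set_option autoImplicit false

namespace Cfsg.Agent.Lib.Helper9

open Cfsg Cfsg.FusionSystem

variable {G : Type*} [Group G]

theorem range_conjHom (P : Subgroup G) (g : G) :
    (conjHom P g).range = P.map (MulAut.conj g).toMonoidHom := by
  ext x
  constructor
  · rintro ⟨y, rfl⟩
    exact ⟨y, y.2, rfl⟩
  · rintro ⟨y, hy, rfl⟩
    exact ⟨⟨y, hy⟩, rfl⟩

theorem groupFusion_conjHom_mem {S P : Subgroup G} {g : G} (hP : P ≤ S)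
    (hQ : P.map (MulAut.conj g).toMonoidHom ≤ S) :
    conjHom P g ∈ (groupFusionSystem S).Hom P :=
  ⟨hP, fun x => hQ ⟨x, x.2, rfl⟩, g, fun _ => rfl⟩

theorem groupFusion_isConj_of_cj {S P : Subgroup G} {g : G} (hP : P ≤ S)
    (hQ : P.map (MulAut.conj g).toMonoidHom ≤ S) :
    (groupFusionSystem S).IsConj P (P.map (MulAut.conj g).toMonoidHom) :=
  ⟨conjHom P g, groupFusion_conjHom_mem hP hQ, range_conjHom P g⟩

theorem groupFusion_hom_eq_conjHom {S P : Subgroup G} {φ : P →* G}
    (hφ : φ ∈ (groupFusionSystem S).Hom P) : ∃ g : G, φ = conjHom P g := by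
  obtain ⟨-, -, g, hg⟩ := hφ
  exact ⟨g, MonoidHom.ext hg⟩

theorem groupFusion_isConj_cases {S P Q : Subgroup G} (h : (groupFusionSystem S).IsConj P Q) :
    P ≤ S ∧ Q ≤ S ∧ ∃ g : G, Q = P.map (MulAut.conj g).toMonoidHom := by
  obtain ⟨φ, hφ, rfl⟩ := h
  refine ⟨hom_le _ hφ, range_le _ hφ, ?_⟩
  obtain ⟨g, rfl⟩ := groupFusion_hom_eq_conjHom hφ
  exact ⟨g, range_conjHom P g⟩

theorem self_le_normalizerIn {S P : Subgroup G} (hP : P ≤ S) : P ≤ normalizerIn S P :=
  le_inf hP Subgroup.le_normalizer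

theorem isPGroup_normalizerIn {p : ℕ} (S : Sylow p G) (P : Subgroup G) :
    IsPGroup p (normalizerIn (S : Subgroup G) P) := S.isPGroup'.to_le inf_le_left

theorem isPGroup_centralizerIn {p : ℕ} (S : Sylow p G) (P : Subgroup G) :
    IsPGroup p (centralizerIn (S : Subgroup G) P) := S.isPGroup'.to_le inf_le_left

theorem groupFusion_fullyNormalized_iff [Finite G] {p : ℕ} [Fact p.Prime] (S : Sylow p G)
    (P : Subgroup G) (hP : P ≤ S) :
    (groupFusionSystem (S : Subgroup G)).IsFullyNormalized P ↔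
      ∃ R : Sylow p ↥(Subgroup.normalizer (P : Set G)),
        (R : Subgroup ↥(Subgroup.normalizer (P : Set G))) =
          (normalizerIn (S : Subgroup G) P).subgroupOf (Subgroup.normalizer (P : Set G)) := by
  constructor
  · rintro ⟨-, hfn⟩
    apply sylowIn_of_card_le inf_le_right (isPGroup_normalizerIn S P)
    intro U hTU hUH hU
    obtain ⟨g, hg⟩ := exists_cj_le_sylow S hU
    have hPU : P ≤ U := (self_le_normalizerIn hP).trans hTU
    have hQS : P.map (MulAut.conj g).toMonoidHom ≤ S := (cj_mono hPU).trans hg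
    have hconj := groupFusion_isConj_of_cj hP hQS
    have h1 := hfn _ hconj
    have h2 : U.map (MulAut.conj g).toMonoidHom ≤
        normalizerIn (S : Subgroup G) (P.map (MulAut.conj g).toMonoidHom) := by
      refine le_inf hg ?_
      rw [normalizer_cj]
      exact cj_mono hUH
    calc Nat.card U = Nat.card (U.map (MulAut.conj g).toMonoidHom) := (card_cj g U).symm
      _ ≤ Nat.card (normalizerIn (S : Subgroup G) (P.map (MulAut.conj g).toMonoidHom)) :=
        Subgroup.card_le_of_le h2
      _ ≤ _ := h1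
  · rintro ⟨R, hR⟩
    refine ⟨hP, ?_⟩
    intro Q hQ
    obtain ⟨-, hQS, g, rfl⟩ := groupFusion_isConj_cases hQ
    set Q := P.map (MulAut.conj g).toMonoidHom with hQdef
    have hU : (normalizerIn (S : Subgroup G) Q).map (MulAut.conj g⁻¹).toMonoidHom ≤
        Subgroup.normalizer (P : Set G) := by
      have h1 : normalizerIn (S : Subgroup G) Q ≤ Subgroup.normalizer (Q : Set G) := inf_le_right
      have h2 := cj_mono (g := g⁻¹) h1
      rw [hQdef, normalizer_cj, cj_inv_cj] at h2
      exact h2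
    have h3 := card_le_of_sylowIn inf_le_right R hR hU
      (isPGroup_cj g⁻¹ (isPGroup_normalizerIn S Q))
    rw [card_cj] at h3
    exact h3

theorem groupFusion_fullyCentralized_iff [Finite G] {p : ℕ} [Fact p.Prime] (S : Sylow p G)
    (P : Subgroup G) (hP : P ≤ S) :
    (groupFusionSystem (S : Subgroup G)).IsFullyCentralized P ↔
      ∃ R : Sylow p ↥(Subgroup.centralizer (P : Set G)),
        (R : Subgroup ↥(Subgroup.centralizer (P : Set G))) =
          (centralizerIn (S : Subgroup G) P).subgroupOf (Subgroup.centralizer (P : Set G)) := by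
  constructor
  · rintro ⟨-, hfn⟩
    apply sylowIn_of_card_le inf_le_right (isPGroup_centralizerIn S P)
    intro U hTU hUH hU
    have hUN : U ≤ Subgroup.normalizer (P : Set G) :=
      hUH.trans (Subgroup.centralizer_le_normalizer _)
    have hUP : IsPGroup p (U ⊔ P : Subgroup G) :=
      hU.to_sup_of_normal_right' (S.isPGroup'.to_le hP) hUN
    obtain ⟨g, hg⟩ := exists_cj_le_sylow S hUP
    have hQS : P.map (MulAut.conj g).toMonoidHom ≤ S := (cj_mono le_sup_right).trans hg
    have hconj := groupFusion_isConj_of_cj hP hQS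
    have h1 := hfn _ hconj
    have h2 : U.map (MulAut.conj g).toMonoidHom ≤
        centralizerIn (S : Subgroup G) (P.map (MulAut.conj g).toMonoidHom) := by
      refine le_inf ((cj_mono le_sup_left).trans hg) ?_
      rw [centralizer_cj]
      exact cj_mono hUH
    calc Nat.card U = Nat.card (U.map (MulAut.conj g).toMonoidHom) := (card_cj g U).symm
      _ ≤ Nat.card (centralizerIn (S : Subgroup G) (P.map (MulAut.conj g).toMonoidHom)) :=
        Subgroup.card_le_of_le h2
      _ ≤ _ := h1
  · rintro ⟨R, hR⟩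
    refine ⟨hP, ?_⟩
    intro Q hQ
    obtain ⟨-, hQS, g, rfl⟩ := groupFusion_isConj_cases hQ
    set Q := P.map (MulAut.conj g).toMonoidHom with hQdef
    have hU : (centralizerIn (S : Subgroup G) Q).map (MulAut.conj g⁻¹).toMonoidHom ≤
        Subgroup.centralizer (P : Set G) := by
      have h1 : centralizerIn (S : Subgroup G) Q ≤ Subgroup.centralizer (Q : Set G) := inf_le_right
      have h2 := cj_mono (g := g⁻¹) h1
      rw [hQdef, centralizer_cj, cj_inv_cj] at h2
      exact h2
    have h3 := card_le_of_sylowIn inf_le_right R hR hU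
      (isPGroup_cj g⁻¹ (isPGroup_centralizerIn S Q))
    rw [card_cj] at h3
    exact h3

end Cfsg.Agent.Lib.Helper9
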