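import Cfsg.Agent.Lib.Helper9.SylowConj

set_option autoImplicit false

namespace Cfsg.Agent.Lib.Helper9

variable {G : Type*} [Group G]

theorem cj_eq_of_mem_normalizer {n : G} {Q : Subgroup G}
    (hn : n ∈ Subgroup.normalizer (Q : Set G)) : Q.map (MulAut.conj n).toMonoidHom = Q := by
  ext x
  rw [mem_cj]
  have h := Subgroup.mem_normalizer_iff.mp (Subgroup.inv_mem _ hn) x
  rw [inv_inv] at h
  exact h.symm

theorem normalizer_le_normalizer_centralizer (Q : Subgroup G) :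
    Subgroup.normalizer (Q : Set G) ≤
      Subgroup.normalizer ((Subgroup.centralizer (Q : Set G) : Subgroup G) : Set G) := by
  intro n hn
  rw [Subgroup.mem_normalizer_iff]
  intro c
  have key : ∀ m : G, m ∈ Subgroup.normalizer (Q : Set G) →
      ∀ c ∈ Subgroup.centralizer (Q : Set G), m * c * m⁻¹ ∈ Subgroup.centralizer (Q : Set G) := by
    intro m hm c hc
    have h1 := centralizer_cj m Q
    rw [cj_eq_of_mem_normalizer hm] at h1
    rw [h1]
    exact cj_mem_cj hc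
  constructor
  · exact key n hn c
  · intro h
    have := key n⁻¹ (Subgroup.inv_mem _ hn) _ h
    have e : n⁻¹ * (n * c * n⁻¹) * n⁻¹⁻¹ = c := by group
    rw [e] at this
    exact this

theorem exists_cj_le_of_sylowIn [Finite G] {p : ℕ} [Fact p.Prime] {T H : Subgroup G}
    (R : Sylow p H) (hR : (R : Subgroup H) = T.subgroupOf H) {U : Subgroup G} (hU : U ≤ H)
    (hpU : IsPGroup p U) : ∃ h ∈ H, U.map (MulAut.conj h).toMonoidHom ≤ T := by
  have hU' : IsPGroup p (U.subgroupOf H) := hpU.comap_subtype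
  obtain ⟨h, hh⟩ := exists_cj_le_sylow R hU'
  refine ⟨h, h.2, ?_⟩
  rintro _ ⟨u, hu, rfl⟩
  have h1 : (MulAut.conj h).toMonoidHom ⟨u, hU hu⟩ ∈
      (U.subgroupOf H).map (MulAut.conj h).toMonoidHom := ⟨⟨u, hU hu⟩, hu, rfl⟩
  have h2 := hh h1
  have h3 : (MulAut.conj h).toMonoidHom ⟨u, hU hu⟩ ∈ (R : Subgroup H) := h2
  rw [hR] at h3
  exact h3

theorem sylowIn_of_le [Finite G] {p : ℕ} [Fact p.Prime] {T M H : Subgroup G} (hTM : T ≤ M)
    (hMH : M ≤ H) (R : Sylow p H) (hR : (R : Subgroup H) = T.subgroupOf H) :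
    ∃ R' : Sylow p M, (R' : Subgroup M) = T.subgroupOf M := by
  have hT : IsPGroup p T := by
    have h1 : IsPGroup p (T.subgroupOf H) := hR ▸ R.isPGroup'
    exact h1.of_equiv (Subgroup.subgroupOfEquivOfLe (hTM.trans hMH))
  apply sylowIn_of_card_le hTM hT
  intro U _ hUM hU
  exact card_le_of_sylowIn (hTM.trans hMH) R hR (hUM.trans hMH) hU

/-- decomposition of elements of `A ⊔ C` when `A` normalizes `C` -/
theorem exists_mul_of_mem_sup {A C : Subgroup G}
    (hAC : A ≤ Subgroup.normalizer ((C : Subgroup G) : Set G)) {m : G} (hm : m ∈ A ⊔ C) :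
    ∃ a ∈ A, ∃ c ∈ C, m = a * c := by
  have h1 : m ∈ ((A ⊔ C : Subgroup G) : Set G) := hm
  rw [Subgroup.coe_mul_of_left_le_normalizer_right A C hAC] at h1
  obtain ⟨a, ha, c, hc, rfl⟩ := h1
  exact ⟨a, ha, c, hc, rfl⟩

end Cfsg.Agent.Lib.Helper9
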