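import Cfsg.Agent.Lib.Helper9.FusionAut
import Cfsg.Agent.Lib.Helper9.GroupFusion
import Cfsg.Agent.Lib.Helper9.SylowConj2

set_option autoImplicit false

namespace Cfsg.Agent.Lib.Helper9

open Cfsg Cfsg.FusionSystem

variable {G : Type*} [Group G]

theorem conj_mem_of_mem_normalizer {Q : Subgroup G} {n : G}
    (hn : n ∈ Subgroup.normalizer (Q : Set G)) {x : G} (hx : x ∈ Q) : n * x * n⁻¹ ∈ Q :=
  (Subgroup.mem_normalizer_iff.mp hn x).mp hx

theorem conj_inv_mem_of_mem_normalizer {Q : Subgroup G} {n : G}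
    (hn : n ∈ Subgroup.normalizer (Q : Set G)) {x : G} (hx : x ∈ Q) : n⁻¹ * x * n ∈ Q := by
  have := conj_mem_of_mem_normalizer (Subgroup.inv_mem _ hn) hx
  rwa [inv_inv] at this

/-- The conjugation action of `N_G(Q)` on `Q`. -/
def conjAut (Q : Subgroup G) : ↥(Subgroup.normalizer (Q : Set G)) →* MulAut Q where
  toFun n :=
    { toFun := fun x => ⟨n * x * (n : G)⁻¹, conj_mem_of_mem_normalizer n.2 x.2⟩
      invFun := fun x => ⟨(n : G)⁻¹ * x * n, conj_inv_mem_of_mem_normalizer n.2 x.2⟩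
      left_inv := by
        intro x
        apply Subtype.ext
        show (n : G)⁻¹ * (n * x * (n : G)⁻¹) * n = x
        group
      right_inv := by
        intro x
        apply Subtype.ext
        show (n : G) * ((n : G)⁻¹ * x * n) * (n : G)⁻¹ = x
        group
      map_mul' := by
        intro x y
        apply Subtype.ext
        show (n : G) * (x * y) * (n : G)⁻¹ = (n * x * (n : G)⁻¹) * (n * y * (n : G)⁻¹)
        group }
  map_one' := by
    ext x
    show ((1 : ↥(Subgroup.normalizer (Q : Set G))) : G) * x *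
      ((1 : ↥(Subgroup.normalizer (Q : Set G))) : G)⁻¹ = x
    simp
  map_mul' := by
    intro a b
    ext x
    show ((a * b : ↥(Subgroup.normalizer (Q : Set G))) : G) * x *
      ((a * b : ↥(Subgroup.normalizer (Q : Set G))) : G)⁻¹ = a * (b * x * (b : G)⁻¹) * (a : G)⁻¹
    simp [mul_assoc]

theorem conjAut_apply (Q : Subgroup G) (n : ↥(Subgroup.normalizer (Q : Set G))) (x : Q) :
    ((conjAut Q n x : Q) : G) = n * x * (n : G)⁻¹ := rfl

/-- an element inducing an automorphism of `Q` by conjugation normalizes `Q` -/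
theorem mem_normalizer_of_induces {Q : Subgroup G} {g : G} (α : MulAut Q)
    (h : ∀ x : Q, ((α x : Q) : G) = g * x * g⁻¹) : g ∈ Subgroup.normalizer (Q : Set G) := by
  rw [Subgroup.mem_normalizer_iff]
  intro y
  constructor
  · intro hy
    rw [← h ⟨y, hy⟩]
    exact (α ⟨y, hy⟩).2
  · intro hy
    have h1 := h (α⁻¹ ⟨_, hy⟩)
    rw [MulAut.apply_inv_self] at h1
    have h2 : y = ((α⁻¹ ⟨_, hy⟩ : Q) : G) := by
      have : g * y * g⁻¹ = g * ((α⁻¹ ⟨_, hy⟩ : Q) : G) * g⁻¹ := h1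
      exact mul_left_cancel (mul_right_cancel this)
    rw [h2]
    exact (α⁻¹ ⟨_, hy⟩).2

theorem map_conjAut_eq (K Q : Subgroup G) :
    ((K ⊓ Subgroup.normalizer (Q : Set G)).subgroupOf (Subgroup.normalizer (Q : Set G))).map
      (conjAut Q) = autInducedBy K Q := by
  apply le_antisymm
  · rintro _ ⟨n, hn, rfl⟩
    rw [mem_autInducedBy_iff]
    exact ⟨n, hn.1, fun x => rfl⟩
  · intro α hα
    obtain ⟨g, hg, hgα⟩ := (mem_autInducedBy_iff K Q α).mp hα
    have hgN := mem_normalizer_of_induces α hgα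
    refine ⟨⟨g, hgN⟩, ⟨hg, hgN⟩, ?_⟩
    ext x
    exact (hgα x).symm

theorem range_conjAut_eq (Q : Subgroup G) : (conjAut Q).range = autInducedBy ⊤ Q := by
  rw [← map_conjAut_eq, MonoidHom.range_eq_map]
  congr 1
  ext n
  simp [Subgroup.mem_subgroupOf]

theorem autInducedBy_mono {K K' : Subgroup G} (h : K ≤ K') (Q : Subgroup G) :
    autInducedBy K Q ≤ autInducedBy K' Q := by
  intro α hα
  obtain ⟨g, hg, hgα⟩ := (mem_autInducedBy_iff K Q α).mp hα
  exact (mem_autInducedBy_iff K' Q α).mpr ⟨g, h hg, hgα⟩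

/-- The image of a Sylow subgroup of `N_G(Q)` in `Aut_G(Q)` is a Sylow subgroup. -/
theorem sylow_autInducedBy [Finite G] {p : ℕ} [Fact p.Prime] {T Q : Subgroup G}
    (R : Sylow p ↥(Subgroup.normalizer (Q : Set G)))
    (hR : (R : Subgroup ↥(Subgroup.normalizer (Q : Set G))) =
      (T ⊓ Subgroup.normalizer (Q : Set G)).subgroupOf (Subgroup.normalizer (Q : Set G))) :
    ∃ R' : Sylow p ↥(autInducedBy ⊤ Q),
      (R' : Subgroup ↥(autInducedBy ⊤ Q)) = (autInducedBy T Q).subgroupOf (autInducedBy ⊤ Q) := by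
  have hmem : ∀ n, conjAut Q n ∈ autInducedBy ⊤ Q := by
    intro n
    rw [← range_conjAut_eq]
    exact ⟨n, rfl⟩
  let f : ↥(Subgroup.normalizer (Q : Set G)) →* ↥(autInducedBy ⊤ Q) :=
    (conjAut Q).codRestrict _ hmem
  have hf : Function.Surjective f := by
    rintro ⟨α, hα⟩
    rw [← range_conjAut_eq] at hα
    obtain ⟨n, rfl⟩ := hα
    exact ⟨n, rfl⟩
  refine ⟨R.mapSurjective hf, ?_⟩
  rw [Sylow.coe_mapSurjective, hR]
  ext α
  constructor
  · rintro ⟨n, hn, rfl⟩
    show conjAut Q n ∈ autInducedBy T Q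
    rw [← map_conjAut_eq]
    exact ⟨n, hn, rfl⟩
  · intro hα
    have h1 : (α : MulAut Q) ∈ autInducedBy T Q := hα
    rw [← map_conjAut_eq] at h1
    obtain ⟨n, hn, hnα⟩ := h1
    exact ⟨n, hn, Subtype.ext hnα⟩

theorem groupFusion_autGroup_eq {S Q : Subgroup G} (hQ : Q ≤ S) :
    (groupFusionSystem S).autGroup Q = autInducedBy ⊤ Q := by
  ext α
  rw [mem_autGroup_iff _ hQ, mem_autInducedBy_iff]
  constructor
  · rintro ⟨-, -, g, hg⟩
    exact ⟨g, Subgroup.mem_top g, hg⟩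
  · rintro ⟨g, -, hg⟩
    exact ⟨hQ, fun x => hQ (α x).2, g, hg⟩

end Cfsg.Agent.Lib.Helper9
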