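import Cfsg.Agent.Lib.Helper9.FusionBasic

set_option autoImplicit false

namespace Cfsg.Agent.Lib.Helper9

open Cfsg Cfsg.FusionSystem

variable {Ω : Type*} [Group Ω] {S : Subgroup Ω}

theorem range_sup_eq {P Q : Subgroup Ω} (ψ : (P ⊔ Q : Subgroup Ω) →* Ω) :
    ψ.range = (P.subgroupOf (P ⊔ Q)).map ψ ⊔ (Q.subgroupOf (P ⊔ Q)).map ψ := by
  rw [← map_subgroupOf_sup ψ le_sup_left le_sup_right, Subgroup.subgroupOf_self,
    MonoidHom.range_eq_map]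

theorem map_left_eq_range {P Q : Subgroup Ω} (ψ : (P ⊔ Q : Subgroup Ω) →* Ω) (φ : P →* Ω)
    (h : ∀ x : P, ψ (Subgroup.inclusion le_sup_left x) = φ x) :
    (P.subgroupOf (P ⊔ Q)).map ψ = φ.range := by
  apply le_antisymm
  · rintro _ ⟨x, hx, rfl⟩
    have hx1 : (x : Ω) ∈ P := hx
    refine ⟨⟨x, hx1⟩, ?_⟩
    rw [← h]
    rfl
  · rintro _ ⟨x, rfl⟩
    exact ⟨Subgroup.inclusion le_sup_left x, x.2, h x⟩

theorem range_ext_eq {P Q : Subgroup Ω} (ψ : (P ⊔ Q : Subgroup Ω) →* Ω) (φ : P →* Ω)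
    (h : ∀ x : P, ψ (Subgroup.inclusion le_sup_left x) = φ x)
    (hQ : (Q.subgroupOf (P ⊔ Q)).map ψ = Q) : ψ.range = φ.range ⊔ Q := by
  rw [range_sup_eq, map_left_eq_range ψ φ h, hQ]

theorem ext_mem_sup {P Q P' : Subgroup Ω} (ψ : (P ⊔ Q : Subgroup Ω) →* Ω) (φ : P →* Ω)
    (h : ∀ x : P, ψ (Subgroup.inclusion le_sup_left x) = φ x)
    (hP' : ∀ x : P, φ x ∈ P')
    (hQ : (Q.subgroupOf (P ⊔ Q)).map ψ = Q) (z : (P ⊔ Q : Subgroup Ω)) : ψ z ∈ P' ⊔ Q := by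
  have h1 : ψ z ∈ ψ.range := ⟨z, rfl⟩
  rw [range_ext_eq ψ φ h hQ] at h1
  refine (sup_le_sup_right ?_ Q) h1
  rintro _ ⟨x, rfl⟩
  exact hP' x

theorem normalizerIn_le (S P : Subgroup Ω) : normalizerIn S P ≤ S := inf_le_left

theorem centralizerIn_le (S P : Subgroup Ω) : centralizerIn S P ≤ S := inf_le_left

theorem mem_normalizerIn {S P : Subgroup Ω} {g : Ω} :
    g ∈ normalizerIn S P ↔ g ∈ S ∧ g ∈ Subgroup.normalizer (P : Set Ω) := Iff.rfl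

theorem mem_centralizerIn {S P : Subgroup Ω} {g : Ω} :
    g ∈ centralizerIn S P ↔ g ∈ S ∧ g ∈ Subgroup.centralizer (P : Set Ω) := Iff.rfl

theorem conj_map_eq_of_mem_normalizer {D Q : Subgroup Ω} (hQD : Q ≤ D) {g : Ω}
    (hg : g ∈ Subgroup.normalizer (Q : Set Ω)) :
    (Q.subgroupOf D).map (conjHom D g) = Q := by
  apply le_antisymm
  · rintro _ ⟨x, hx, rfl⟩
    have hx1 : (x : Ω) ∈ Q := hx
    exact (Subgroup.mem_normalizer_iff.mp hg _).mp hx1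
  · intro y hy
    have h1 : g⁻¹ * y * g⁻¹⁻¹ ∈ Q :=
      (Subgroup.mem_normalizer_iff.mp (Subgroup.inv_mem _ hg) _).mp hy
    refine ⟨⟨g⁻¹ * y * g⁻¹⁻¹, hQD h1⟩, h1, ?_⟩
    show g * (g⁻¹ * y * g⁻¹⁻¹) * g⁻¹ = y
    group

/-- The normalizer fusion system. -/
def normalizerSystem (F : FusionSystem S) (Q : Subgroup Ω) (hQ : Q ≤ S) :
    FusionSystem (normalizerIn S Q) where
  Hom P := F.normalizerHom Q P
  le_of_mem h := ⟨h.2.1, h.2.2.1⟩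
  injective_of_mem h := F.injective_of_mem h.1
  conj_mem := by
    intro P g hP hg
    have hPS : P ≤ S := hP.trans (normalizerIn_le S Q)
    refine ⟨F.conj_mem hPS hg.1, hP, ?_, conjHom (P ⊔ Q) g,
      F.conj_mem (sup_le hPS hQ) hg.1, fun x => rfl, ?_⟩
    · intro x
      exact Subgroup.mul_mem _ (Subgroup.mul_mem _ hg (hP x.2)) (Subgroup.inv_mem _ hg)
    · exact conj_map_eq_of_mem_normalizer le_sup_right hg.2
  comp_mem := by
    rintro P P' φ ψ ⟨hφ, hPN, hφN, φ', hφ', hφ'φ, hφ'Q⟩ ⟨hψ, hP'N, hψN, ψ', hψ', hψ'ψ, hψ'Q⟩ h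
    refine ⟨F.comp_mem hφ hψ h, hPN, fun x => hψN _, ?_⟩
    have hmem : ∀ z : (P ⊔ Q : Subgroup Ω), φ' z ∈ P' ⊔ Q := ext_mem_sup φ' φ hφ'φ h hφ'Q
    refine ⟨ψ'.comp (φ'.codRestrict (P' ⊔ Q) hmem), F.comp_mem hφ' hψ' hmem, ?_, ?_⟩
    · intro x
      show ψ' ⟨φ' (Subgroup.inclusion le_sup_left x), _⟩ = ψ ⟨φ x, _⟩
      rw [← hψ'ψ]
      congr 1
      apply Subtype.ext
      exact hφ'φ x
    · apply le_antisymm
      · rintro _ ⟨x, hx, rfl⟩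
        have hx1 : φ' x ∈ Q := hφ'Q.le ⟨x, hx, rfl⟩
        exact hψ'Q.le ⟨⟨φ' x, hmem x⟩, hx1, rfl⟩
      · intro y hy
        obtain ⟨u, hu, huy⟩ := hψ'Q.ge hy
        have hu1 : (u : Ω) ∈ Q := hu
        obtain ⟨v, hv, hvu⟩ := hφ'Q.ge hu1
        refine ⟨v, hv, ?_⟩
        show ψ' ⟨φ' v, _⟩ = y
        rw [← huy]
        congr 1
        exact Subtype.ext hvu
  inv_mem := by
    rintro P φ ⟨hφ, hPN, hφN, φ', hφ', hφ'φ, hφ'Q⟩
    obtain ⟨θ, hθ, hθφ'⟩ := F.inv_mem hφ'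
    have hrange : φ'.range = φ.range ⊔ Q := range_ext_eq φ' φ hφ'φ hφ'Q
    have hle : φ.range ⊔ Q ≤ φ'.range := hrange.ge
    have hψ' : θ.comp (Subgroup.inclusion hle) ∈ F.Hom (φ.range ⊔ Q) := restrict_mem F hθ hle
    have hψ := restrict_mem F hψ' (le_sup_left : φ.range ≤ φ.range ⊔ Q)
    have key : ∀ (x : P) (hx : φ x ∈ φ'.range), θ ⟨φ x, hx⟩ = x := by
      intro x hx
      have h1 := hθφ' (Subgroup.inclusion le_sup_left x)
      have h2 : (⟨φ x, hx⟩ : φ'.range) =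
          ⟨φ' (Subgroup.inclusion le_sup_left x), ⟨_, rfl⟩⟩ := Subtype.ext (hφ'φ x).symm
      rw [h2]
      exact h1
    refine ⟨(θ.comp (Subgroup.inclusion hle)).comp (Subgroup.inclusion le_sup_left),
      ⟨hψ, ?_, ?_, θ.comp (Subgroup.inclusion hle), hψ', fun x => rfl, ?_⟩, ?_⟩
    · rintro _ ⟨x, rfl⟩
      exact hφN x
    · rintro ⟨_, x, rfl⟩
      have : ((θ.comp (Subgroup.inclusion hle)).comp (Subgroup.inclusion le_sup_left))
          ⟨φ x, ⟨x, rfl⟩⟩ = x := key x _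
      rw [this]
      exact hPN x.2
    · apply le_antisymm
      · rintro _ ⟨y, hy, rfl⟩
        have hy1 : (y : Ω) ∈ Q := hy
        obtain ⟨v, hv, hvy⟩ := hφ'Q.ge hy1
        have hv1 : (v : Ω) ∈ Q := hv
        have : (θ.comp (Subgroup.inclusion hle)) y = v := by
          rw [← hθφ' v]
          show θ _ = θ _
          congr 1
          exact Subtype.ext hvy.symm
        rw [this]
        exact hv1
      · intro q hq
        have hq' : q ∈ P ⊔ Q := (le_sup_right : Q ≤ P ⊔ Q) hq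
        have h1 : φ' ⟨q, hq'⟩ ∈ Q := hφ'Q.le ⟨⟨q, hq'⟩, hq, rfl⟩
        refine ⟨⟨φ' ⟨q, hq'⟩, (le_sup_right : Q ≤ φ.range ⊔ Q) h1⟩, h1, ?_⟩
        exact hθφ' ⟨q, hq'⟩
    · intro x
      exact key x _

theorem isNormalizerSystem_normalizerSystem (F : FusionSystem S) (Q : Subgroup Ω) (hQ : Q ≤ S) :
    F.IsNormalizerSystem Q (normalizerSystem F Q hQ) := fun _ => rfl

end Cfsg.Agent.Lib.Helper9
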