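import Mathlib
import Cfsg.Agent.Lib.Helper1.BrandtBRL
import Cfsg.Agent.Lib.Helper6.Auto
import Cfsg.Agent.Lib.Helper6.BlkDefect

/-!
BR4b of the Brandt bridge: for two distinct characters the `e`-part of the centre of the reduced
group algebra has dimension at least `2`.
-/

set_option autoImplicit false
set_option linter.unusedSectionVars false
open Cfsg

namespace Cfsg.Agent.Lib.Helper1.Brandt

open Cfsg.Agent.Lib.Helper6

variable {p : ℕ} {M : Ideal Cfsg.AlgInt}

universe u

variable {G : Type u} [Group G] [Fintype G] [DecidableEq G]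

/-- the function `g ↦ χ g⁻¹` -/
noncomputable def br4bInvFun (χ : G → ℂ) : G → ℂ := fun g => χ g⁻¹

theorem br4b_invFun_isClassFunction {χ : G → ℂ} (hχ : Cfsg.IsClassFunction G χ) :
    Cfsg.IsClassFunction G (br4bInvFun χ) := by
  intro g h
  unfold br4bInvFun
  have e : (h * g * h⁻¹)⁻¹ = h * g⁻¹ * h⁻¹ := by group
  rw [e, hχ g⁻¹ h]

theorem br4b_regMat_invFun (χ : Cfsg.IrrCharacter G) :
    regMat (br4bInvFun (χ : G → ℂ)) =
      ((Nat.card G : ℂ) / (χ : G → ℂ) 1) • regMat (idemFun (χ : G → ℂ)) := by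
  have hχ1 := IsIrrCharacter.apply_one_ne_zero χ.2
  have hG : (Nat.card G : ℂ) ≠ 0 := by
    have : Nat.card G ≠ 0 := Nat.card_pos.ne'
    exact_mod_cast this
  rw [← regMat_smul]
  congr 1
  funext g
  rw [Pi.smul_apply, smul_eq_mul]
  unfold br4bInvFun idemFun
  rw [IsCharacter.apply_inv (IsIrrCharacter.isCharacter χ.2) g]
  field_simp

theorem br4b_cOmega_invFun (χ ψ : Cfsg.IrrCharacter G) :
    cOmega (ψ : G → ℂ) (regMat (br4bInvFun (χ : G → ℂ))) =
      ((Nat.card G : ℂ) / (χ : G → ℂ) 1) * (if χ = ψ then 1 else 0) := by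
  rw [br4b_regMat_invFun, cOmega_smul, cOmega_idem]

theorem br4b_invFun_memLocalRing (hM : Cfsg.IsPModular p M) (χ : Cfsg.IrrCharacter G) (g : G) :
    Cfsg.MemLocalRing M (br4bInvFun (χ : G → ℂ) g) :=
  memLocalRing_of_isIntegral hM
    (IsCharacter.isIntegral_apply (IsIrrCharacter.isCharacter χ.2) g⁻¹)

/-- a central matrix with entries in the local ideal has central character values in the local
ideal -/
theorem br4b_cOmega_memLocalIdeal (hM : Cfsg.IsPModular p M) {θ : G → ℂ}
    (hθ : Cfsg.IsIrrCharacter G θ) {X : Matrix G G ℂ} (hX : X ∈ centerAlg G)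
    (hXs : ∀ s t, Cfsg.MemLocalIdeal M (X s t)) : Cfsg.MemLocalIdeal M (cOmega θ X) := by
  classical
  have : Fintype (ConjClasses G) := Fintype.ofFinite _
  rw [cOmega_eq_sum_classes (IsIrrCharacter.isClassFunction hθ) hX]
  apply MemLocalIdeal.sum hM
  intro c _
  exact MemLocalIdeal.mul_right hM (hXs _ _)
    (memLocalRing_of_isIntegral hM (IsIrrCharacter.isIntegral_centralChar' hθ _))

/-- two independent elements of the `e`-part of the centre -/
theorem br4b_two_le_finrank_centerPart {K R : Type*} [Field K] [Ring R] [Algebra K R]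
    [Module.Finite K R] (e x y : R) (hx : x ∈ centerPart K e) (hy : y ∈ centerPart K e)
    (hind : ∀ a b : K, a • x + b • y = 0 → a = 0 ∧ b = 0) :
    2 ≤ Module.finrank K (centerPart K e) := by
  have hli : LinearIndependent K ![(⟨x, hx⟩ : centerPart K e), ⟨y, hy⟩] := by
    rw [LinearIndependent.pair_iff]
    intro a b hab
    exact hind a b (congrArg Subtype.val hab)
  have := hli.fintype_card_le_finrank
  simpa using this

/-- the reduction of a central matrix is central in the reduced group algebra -/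
theorem br4b_redR_central (hM : Cfsg.IsPModular p M) {X : Matrix G G ℂ} (hX : X ∈ centerAlg G)
    (hXs : ∀ s t, Cfsg.MemLocalRing M (X s t)) (a : rInvAlgF (ResField hM) G) :
    a * redR hM X hX.1 = redR hM X hX.1 * a := by
  obtain ⟨A, hA1, hA2, hA3⟩ := exists_lift_rInv hM a
  apply Subtype.ext
  change a.1 * redM hM X = redM hM X * a.1
  rw [hA3, ← redM_mul hM hA2 hXs, ← redM_mul hM hXs hA2, centerAlg_comm_rInv hX hA1]

theorem finrank_centerPart_ge (hM : Cfsg.IsPModular p M) (χ₁ χ₂ : Cfsg.IrrCharacter G)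
    (h12 : χ₁ ≠ χ₂)
    (hBs : ∀ s t, Cfsg.MemLocalRing M
      (blockMat ({χ₁, χ₂} : Set (Cfsg.IrrCharacter G)) s t))
    (g₁ : G) (h1 : ¬ Cfsg.MemLocalIdeal M ((χ₁ : G → ℂ) g₁)) :
    2 ≤ Module.finrank (ResField hM)
      (centerPart (ResField hM) (ebar hM ({χ₁, χ₂} : Set (Cfsg.IrrCharacter G)))) := by
  classical
  set B : Set (Cfsg.IrrCharacter G) := {χ₁, χ₂} with hB
  set E : Matrix G G ℂ := blockMat B with hE
  have hEc : E ∈ centerAlg G := blockMat_mem_centerAlg B
  have hEE : E * E = E := blockMat_idem B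
  set W : Matrix G G ℂ := regMat (br4bInvFun (χ₁ : G → ℂ)) with hW
  have hWc : W ∈ centerAlg G :=
    regMat_mem_centerAlg (br4b_invFun_isClassFunction (IsIrrCharacter.isClassFunction χ₁.2))
  have hWs : ∀ s t, Cfsg.MemLocalRing M (W s t) := fun s t => br4b_invFun_memLocalRing hM χ₁ _
  have hχ1B : χ₁ ∈ B := Or.inl rfl
  have hχ2B : χ₂ ∈ B := Or.inr rfl
  have hWE : W * E = W := by
    apply eq_of_cOmega_eq ((centerAlg G).mul_mem hWc hEc) hWc
    intro ψ
    rw [cOmega_mul ψ.2 hWc hEc.1, cOmega_blockMat B ψ, hW, br4b_cOmega_invFun]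
    by_cases hψ : χ₁ = ψ
    · rw [if_pos hψ, if_pos (hψ ▸ hχ1B)]
      ring
    · rw [if_neg hψ]
      ring
  -- the two elements
  set e : rInvAlgF (ResField hM) G := ebar hM B with he
  set w : rInvAlgF (ResField hM) G := redR hM W hWc.1 with hw
  have hee : e * e = e := by
    apply Subtype.ext
    change redM hM E * redM hM E = redM hM E
    rw [← redM_mul hM hBs hBs, hEE]
  have hwe : w * e = w := by
    apply Subtype.ext
    change redM hM W * redM hM E = redM hM W
    rw [← redM_mul hM hWs hBs, hWE]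
  have hemem : e ∈ centerPart (ResField hM) e := ⟨fun a => br4b_redR_central hM hEc hBs a, hee⟩
  have hwmem : w ∈ centerPart (ResField hM) e := ⟨fun a => br4b_redR_central hM hWc hWs a, hwe⟩
  refine br4b_two_le_finrank_centerPart e e w hemem hwmem ?_
  · intro a b hab'
    have habm : a • redM hM E + b • redM hM W = 0 := by
      have := congrArg Subtype.val hab'
      exact this
    set A : ℂ := liftC hM a with hA
    set B' : ℂ := liftC hM b with hB'
    have hAs : Cfsg.MemLocalRing M A := liftC_mem hM a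
    have hB's : Cfsg.MemLocalRing M B' := liftC_mem hM b
    set X : Matrix G G ℂ := A • E + B' • W with hX
    have hXc : X ∈ centerAlg G :=
      (centerAlg G).add_mem ((centerAlg G).smul_mem hEc A) ((centerAlg G).smul_mem hWc B')
    have hAEs : ∀ s t, Cfsg.MemLocalRing M ((A • E) s t) := fun s t => by
      rw [Matrix.smul_apply, smul_eq_mul]
      exact MemLocalRing.mul hM hAs (hBs s t)
    have hBWs : ∀ s t, Cfsg.MemLocalRing M ((B' • W) s t) := fun s t => by
      rw [Matrix.smul_apply, smul_eq_mul]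
      exact MemLocalRing.mul hM hB's (hWs s t)
    have hXs : ∀ s t, Cfsg.MemLocalRing M (X s t) := fun s t => by
      rw [hX, Matrix.add_apply]
      exact MemLocalRing.add hM (hAEs s t) (hBWs s t)
    have hXred : redM hM X = 0 := by
      rw [hX, redM_add hM hAEs hBWs, redM_smul hM hAs hBs, redM_smul hM hB's hWs, hA, hB',
        redC_liftC, redC_liftC]
      exact habm
    have hXi : ∀ s t, Cfsg.MemLocalIdeal M (X s t) := fun s t => by
      rw [← redC_eq_zero_iff hM (hXs s t)]
      have := congrFun (congrFun hXred s) t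
      exact this
    have hcX : cOmega (χ₂ : G → ℂ) X = A := by
      rw [hX, cOmega_add, cOmega_smul, cOmega_smul, cOmega_blockMat B χ₂, if_pos hχ2B, hW,
        br4b_cOmega_invFun, if_neg h12]
      ring
    have hAi : Cfsg.MemLocalIdeal M A := by
      rw [← hcX]
      exact br4b_cOmega_memLocalIdeal hM χ₂.2 hXc hXi
    have ha0 : a = 0 := by
      rw [← redC_liftC hM a]
      exact (redC_eq_zero_iff hM hAs).mpr hAi
    refine ⟨ha0, ?_⟩
    rw [ha0, zero_smul, zero_add] at habm
    have hent := congrFun (congrFun habm g₁⁻¹) 1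
    rw [Matrix.smul_apply, redM_apply, Matrix.zero_apply, smul_eq_mul] at hent
    have hval : W g₁⁻¹ 1 = (χ₁ : G → ℂ) g₁ := by
      rw [hW, regMat_apply]
      unfold br4bInvFun
      group
    rw [hval] at hent
    have hχs : Cfsg.MemLocalRing M ((χ₁ : G → ℂ) g₁) :=
      memLocalRing_of_isIntegral hM
        (IsCharacter.isIntegral_apply (IsIrrCharacter.isCharacter χ₁.2) g₁)
    have hne : redC hM ((χ₁ : G → ℂ) g₁) ≠ 0 := fun h => h1 ((redC_eq_zero_iff hM hχs).mp h)
    rcases mul_eq_zero.mp hent with h | h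
    · exact h
    · exact absurd h hne

end Cfsg.Agent.Lib.Helper1.Brandt
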