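import Mathlib
import Cfsg.Agent.Lib.Helper1.BrandtBRL

/-!
BR5a of the Brandt bridge: the `e`-part of the centre of the reduced group algebra, for a pair of
characters in one block, is local (every element is a scalar multiple of `e` plus a square-zero
element).
-/

set_option autoImplicit false
set_option linter.unusedSectionVars false
open Cfsg

namespace Cfsg.Agent.Lib.Helper1.Brandt

open Cfsg.Agent.Lib.Helper6

variable {p : ℕ} {M : Ideal Cfsg.AlgInt}

universe u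

variable {G : Type u} [Group G] [Fintype G] [DecidableEq G]

theorem centerPart_local_pair (hM : Cfsg.IsPModular p M) (χ₁ χ₂ : Cfsg.IrrCharacter G)
    (hsb : Cfsg.SameBlock M (χ₁ : G → ℂ) (χ₂ : G → ℂ))
    (hBs : ∀ s t, Cfsg.MemLocalRing M
      (blockMat ({χ₁, χ₂} : Set (Cfsg.IrrCharacter G)) s t)) :
    ∀ z ∈ centerPart (ResField hM) (ebar hM ({χ₁, χ₂} : Set (Cfsg.IrrCharacter G))),
      ∃ c : ResField hM,
        (z - c • ebar hM ({χ₁, χ₂} : Set (Cfsg.IrrCharacter G))) *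
          (z - c • ebar hM ({χ₁, χ₂} : Set (Cfsg.IrrCharacter G))) = 0 := by
  classical
  intro z hz
  set B : Set (Cfsg.IrrCharacter G) := {χ₁, χ₂} with hB
  obtain ⟨hzc, hze⟩ := hz
  obtain ⟨Z, hZc, hZs, hZr⟩ := exists_lift_center hM z hzc
  set E : Matrix G G ℂ := blockMat B with hE
  have hEc : E ∈ centerAlg G := blockMat_mem_centerAlg B
  have hEE : E * E = E := blockMat_idem B
  set Z' : Matrix G G ℂ := Z * E with hZ'
  have hZ'c : Z' ∈ centerAlg G := (centerAlg G).mul_mem hZc hEc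
  have hZ's : ∀ s t, Cfsg.MemLocalRing M (Z' s t) := memLocalRing_mul_apply hM hZs hBs
  have hZ'r : redM hM Z' = z.1 := by
    rw [hZ', redM_mul hM hZs hBs, ← hZr]
    have := congrArg Subtype.val hze
    exact this
  have hZ'E : Z' * E = Z' := by rw [hZ', Matrix.mul_assoc, hEE]
  set c₁ : ℂ := cOmega (χ₁ : G → ℂ) Z' with hc₁
  set c₂ : ℂ := cOmega (χ₂ : G → ℂ) Z' with hc₂
  have hc₁s : Cfsg.MemLocalRing M c₁ := cOmega_memLocalRing hM χ₁.2 hZ'c hZ's
  have hc₂s : Cfsg.MemLocalRing M c₂ := cOmega_memLocalRing hM χ₂.2 hZ'c hZ's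
  have hc12 : Cfsg.MemLocalIdeal M (c₁ - c₂) :=
    cOmega_sub_memLocalIdeal hM χ₁.2 χ₂.2 hsb hZ'c hZ's
  have hredc : redC hM c₁ = redC hM c₂ := (redC_eq_iff hM hc₁s hc₂s).mpr hc12
  -- the product vanishes
  have hT1c : Z' - c₁ • E ∈ centerAlg G :=
    (centerAlg G).sub_mem hZ'c ((centerAlg G).smul_mem hEc c₁)
  have hT2c : Z' - c₂ • E ∈ centerAlg G :=
    (centerAlg G).sub_mem hZ'c ((centerAlg G).smul_mem hEc c₂)
  have hT : (Z' - c₁ • E) * (Z' - c₂ • E) = 0 := by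
    apply eq_zero_of_cOmega_eq_zero ((centerAlg G).mul_mem hT1c hT2c)
    intro ψ
    rw [cOmega_mul ψ.2 hT1c hT2c.1, cOmega_sub, cOmega_sub, cOmega_smul, cOmega_smul,
      cOmega_blockMat B ψ]
    have hZ'ψ : cOmega (ψ : G → ℂ) Z' = cOmega (ψ : G → ℂ) Z' * (if ψ ∈ B then 1 else 0) := by
      conv_lhs => rw [← hZ'E]
      rw [cOmega_mul ψ.2 hZ'c hEc.1, cOmega_blockMat B ψ]
    by_cases hψ : ψ ∈ B
    · rw [if_pos hψ]
      rcases hψ with h | h
      · rw [h, ← hc₁]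
        ring
      · have h' : ψ = χ₂ := h
        rw [h', ← hc₂]
        ring
    · rw [if_neg hψ] at hZ'ψ ⊢
      rw [hZ'ψ]
      ring
  refine ⟨redC hM c₁, ?_⟩
  apply Subtype.ext
  have hEs : ∀ s t, Cfsg.MemLocalRing M (E s t) := hBs
  have h1s : ∀ s t, Cfsg.MemLocalRing M ((c₁ • E) s t) := fun s t => by
    rw [Matrix.smul_apply, smul_eq_mul]
    exact MemLocalRing.mul hM hc₁s (hEs s t)
  have h2s : ∀ s t, Cfsg.MemLocalRing M ((c₂ • E) s t) := fun s t => by
    rw [Matrix.smul_apply, smul_eq_mul]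
    exact MemLocalRing.mul hM hc₂s (hEs s t)
  have hd1s : ∀ s t, Cfsg.MemLocalRing M ((Z' - c₁ • E) s t) := fun s t => by
    rw [Matrix.sub_apply]
    exact MemLocalRing.sub hM (hZ's s t) (h1s s t)
  have hd2s : ∀ s t, Cfsg.MemLocalRing M ((Z' - c₂ • E) s t) := fun s t => by
    rw [Matrix.sub_apply]
    exact MemLocalRing.sub hM (hZ's s t) (h2s s t)
  have hred := congrArg (redM hM) hT
  rw [redM_mul hM hd1s hd2s, redM_sub hM hZ's h1s, redM_sub hM hZ's h2s,
    redM_smul hM hc₁s hEs, redM_smul hM hc₂s hEs, redM_zero, hZ'r, ← hredc] at hred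
  exact hred

end Cfsg.Agent.Lib.Helper1.Brandt
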