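import Mathlib
import Cfsg.Agent.Lib.Helper6.PU0

/-!
# S2770 units: U-DICH, U-GEN, U-IDX (helper9)
-/

set_option autoImplicit false
set_option linter.unusedVariables false

namespace Cfsg.Agent.Lib.Helper9.PU2770A

open Cfsg.Agent.Lib.Helper6.PU
open scoped Pointwise

variable {G : Type*} [Group G] [Finite G] {p : ℕ}

/-- every proper subgroup containing `S` lies in `M` -/
theorem le_of_ne_top (S : Sylow p G) (M : Subgroup G)
    (huniq : ∀ M' : Subgroup G, IsCoatom M' → (S : Subgroup G) ≤ M' → M' = M)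
    (K : Subgroup G) (hSK : (S : Subgroup G) ≤ K) (hK : K ≠ ⊤) : K ≤ M := by
  obtain ⟨M', hM', hKM'⟩ := (eq_top_or_exists_le_coatom K).resolve_left hK
  rw [← huniq M' hM' (hSK.trans hKM')]
  exact hKM'

/-- `|H| |K| ≤ |V| |H ∩ K|` for subgroups `H, K ≤ V`. -/
theorem card_mul_card_le (V H K : Subgroup G) (hHV : H ≤ V) (hKV : K ≤ V) :
    Nat.card H * Nat.card K ≤ Nat.card V * Nat.card (H ⊓ K : Subgroup G) := by
  have key : ∀ A : Subgroup G, A ≤ V → A.relIndex V * Nat.card A = Nat.card V := by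
    intro A hA
    rw [Subgroup.relIndex, ← Nat.card_congr (Subgroup.subgroupOfEquivOfLe hA).toEquiv]
    exact Subgroup.index_mul_card _
  have h1 := key (H ⊓ K) (inf_le_left.trans hHV)
  have h2 := key H hHV
  have h3 := key K hKV
  have h4 : (H ⊓ K).relIndex V ≤ H.relIndex V * K.relIndex V := Subgroup.relIndex_inf_le
  have hvpos : 0 < Nat.card V := Nat.card_pos
  apply Nat.le_of_mul_le_mul_left _ hvpos
  calc Nat.card V * (Nat.card H * Nat.card K)
      = ((H ⊓ K).relIndex V * Nat.card (H ⊓ K : Subgroup G)) * (Nat.card H * Nat.card K) := by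
        rw [h1]
    _ ≤ ((H.relIndex V * K.relIndex V) * Nat.card (H ⊓ K : Subgroup G))
          * (Nat.card H * Nat.card K) :=
        Nat.mul_le_mul_right _ (Nat.mul_le_mul_right _ h4)
    _ = (H.relIndex V * Nat.card H) * (K.relIndex V * Nat.card K)
          * Nat.card (H ⊓ K : Subgroup G) := by ring
    _ = Nat.card V * (Nat.card V * Nat.card (H ⊓ K : Subgroup G)) := by rw [h2, h3]; ring

variable [Fact p.Prime]

/-- U-DICH : a normal subgroup either covers `G` together with `S`, or lies in `M` and meets `S` in a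
normal subgroup of `G`. -/
theorem dich (S : Sylow p G) (M : Subgroup G) (hM : IsCoatom M) (hSM : (S : Subgroup G) ≤ M)
    (huniq : ∀ M' : Subgroup G, IsCoatom M' → (S : Subgroup G) ≤ M' → M' = M)
    (N : Subgroup G) [N.Normal] :
    N ⊔ (S : Subgroup G) = ⊤ ∨ (N ≤ M ∧ (N ⊓ (S : Subgroup G)).Normal) := by
  by_cases h : N ⊔ (S : Subgroup G) = ⊤
  · exact Or.inl h
  right
  have hNM : N ≤ M := le_sup_left.trans (le_of_ne_top S M huniq _ le_sup_right h)
  refine ⟨hNM, ?_⟩
  rw [← Subgroup.normalizer_eq_top_iff]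
  by_contra hK
  have hSK : (S : Subgroup G) ≤ Subgroup.normalizer ((N ⊓ (S : Subgroup G) : Subgroup G) : Set G) := by
    intro s hs
    rw [Subgroup.mem_normalizer_iff]
    intro t
    rw [Subgroup.mem_inf, Subgroup.mem_inf]
    constructor
    · rintro ⟨h1, h2⟩
      exact ⟨‹N.Normal›.conj_mem t h1 s, mul_mem (mul_mem hs h2) (inv_mem hs)⟩
    · rintro ⟨h1, h2⟩
      refine ⟨?_, ?_⟩
      · have := ‹N.Normal›.conj_mem _ h1 s⁻¹
        simpa [mul_assoc] using this
      · have := mul_mem (mul_mem (inv_mem hs) h2) hs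
        simpa [mul_assoc] using this
  have hKM := le_of_ne_top S M huniq _ hSK hK
  -- Frattini
  obtain ⟨Q, hQ⟩ := Sylow.exists_comap_subtype_eq (default : Sylow p N)
  obtain ⟨g, rfl⟩ := MulAction.exists_smul_eq G S Q
  have hfr := Sylow.normalizer_sup_eq_top (default : Sylow p N)
  have e1 : ((default : Sylow p N) : Subgroup N).map N.subtype
      = MulAut.conj g • (N ⊓ (S : Subgroup G)) := by
    rw [← hQ]
    show (((g • S : Sylow p G) : Subgroup G).subgroupOf N).map N.subtype = _
    rw [Subgroup.subgroupOf_map_subtype,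
      Sylow.coe_subgroup_smul, Subgroup.smul_inf, Subgroup.Normal.conj_smul_eq_self g N, inf_comm]
  rw [e1] at hfr
  have hbij : Function.Bijective (MulAut.conj g).toMonoidHom := (MulAut.conj g).bijective
  have e2 : Subgroup.normalizer ((MulAut.conj g • (N ⊓ (S : Subgroup G)) : Subgroup G) : Set G)
      = MulAut.conj g • Subgroup.normalizer ((N ⊓ (S : Subgroup G) : Subgroup G) : Set G) :=
    (Subgroup.map_normalizer_eq_of_bijective (N ⊓ (S : Subgroup G)) hbij).symm
  rw [e2] at hfr
  have h3 : MulAut.conj g • Subgroup.normalizer ((N ⊓ (S : Subgroup G) : Subgroup G) : Set G) ⊔ N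
      ≤ MulAut.conj g • M := by
    apply sup_le
    · exact Subgroup.map_mono hKM
    · have : MulAut.conj g • N ≤ MulAut.conj g • M := Subgroup.map_mono hNM
      rwa [Subgroup.Normal.conj_smul_eq_self g N] at this
  rw [hfr, top_le_iff] at h3
  apply hM.1
  rw [eq_top_iff]
  intro x _
  have hx : (MulAut.conj g) x ∈ MulAut.conj g • M := by rw [h3]; trivial
  obtain ⟨m, hm, hmx⟩ := hx
  have : m = x := (MulAut.conj g).injective hmx
  rwa [← this]

/-- U-GEN : two Sylow subgroups `S`, `x S x⁻¹` with `x ∉ M` generate `G`. -/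
theorem gen_of_not_mem (S : Sylow p G) (M : Subgroup G) (hM : IsCoatom M)
    (hSM : (S : Subgroup G) ≤ M)
    (huniq : ∀ M' : Subgroup G, IsCoatom M' → (S : Subgroup G) ≤ M' → M' = M)
    (hSn : ¬ (S : Subgroup G).Normal) (x : G) (hx : x ∉ M) :
    (S : Subgroup G) ⊔ (S : Subgroup G).map (MulAut.conj x).toMonoidHom = ⊤ := by
  by_contra hK
  have hKM := le_of_ne_top S M huniq _ le_sup_left hK
  have hxS : ((x • S : Sylow p G) : Subgroup G) ≤ M := by
    rw [Sylow.coe_subgroup_smul]
    exact le_sup_right.trans hKM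
  obtain ⟨m, hm⟩ := MulAction.exists_smul_eq M (S.subtype hSM) ((x • S).subtype hxS)
  rw [Sylow.smul_subtype] at hm
  have hm2 : (m : G) • S = x • S := by
    have := congrArg (fun P : Sylow p M => (P : Subgroup M).map M.subtype) hm
    simp only [Sylow.coe_subtype, Subgroup.subgroupOf_map_subtype] at this
    apply Sylow.ext
    have h1 : ((m • S : Sylow p G) : Subgroup G) ≤ M := Sylow.smul_le hSM m
    rw [inf_of_le_left h1, inf_of_le_left hxS] at this
    exact this
  have hN : ((m : G)⁻¹ * x) ∈ Subgroup.normalizer ((S : Subgroup G) : Set G) := by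
    rw [Sylow.coe_coe, ← Sylow.smul_eq_iff_mem_normalizer, mul_smul, ← hm2, inv_smul_smul]
  have hNtop : Subgroup.normalizer ((S : Subgroup G) : Set G) ≠ ⊤ := by
    intro h
    exact hSn (Subgroup.normalizer_eq_top_iff.mp h)
  have hNM := le_of_ne_top S M huniq _ Subgroup.le_normalizer hNtop
  apply hx
  have := M.mul_mem m.2 (hNM hN)
  simpa using this

/-- U-IDX : `|C_V(S)|² ≤ |V| · |C_V(y)|` for every `y`. -/
theorem index_cent_le (S : Sylow p G) (M : Subgroup G) (hM : IsCoatom M)
    (hSM : (S : Subgroup G) ≤ M)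
    (huniq : ∀ M' : Subgroup G, IsCoatom M' → (S : Subgroup G) ≤ M' → M' = M)
    (hSn : ¬ (S : Subgroup G).Normal) (V : Subgroup G) [V.Normal]
    (hVc : ∀ a ∈ V, ∀ b ∈ V, a * b = b * a) (y : G) :
    Nat.card (V ⊓ Subgroup.centralizer ((S : Subgroup G) : Set G) : Subgroup G) ^ 2 ≤
      Nat.card V * Nat.card (V ⊓ Subgroup.centralizer ({y} : Set G) : Subgroup G) := by
  obtain ⟨x, hx⟩ : ∃ x : G, x ∉ M := by
    by_contra hcon
    push Not at hcon
    exact hM.1 (eq_top_iff.mpr fun x _ => hcon x)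
  have hgen := gen_of_not_mem S M hM hSM huniq hSn x hx
  set c := (MulAut.conj x).toMonoidHom with hc
  set H := V ⊓ Subgroup.centralizer ((S : Subgroup G) : Set G) with hH
  set K := V ⊓ Subgroup.centralizer (((S : Subgroup G).map c : Subgroup G) : Set G) with hK
  have hHK : Nat.card H ≤ Nat.card K := by
    have hinj : Function.Injective c := (MulAut.conj x).injective
    rw [← Subgroup.card_map_of_injective hinj]
    apply Subgroup.card_le_of_le
    intro z hz
    obtain ⟨h, hh, rfl⟩ := Subgroup.mem_map.mp hz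
    rw [hH, Subgroup.mem_inf] at hh
    obtain ⟨hhV, hhC⟩ := hh
    rw [hK, Subgroup.mem_inf]
    refine ⟨?_, ?_⟩
    · exact ‹V.Normal›.conj_mem h hhV x
    · rw [Subgroup.mem_centralizer_iff]
      intro z' hz'
      obtain ⟨s, hs, rfl⟩ := Subgroup.mem_map.mp hz'
      have := (Subgroup.mem_centralizer_iff.mp hhC) s hs
      simp only [hc, MulEquiv.coe_toMonoidHom, MulAut.conj_apply]
      calc x * s * x⁻¹ * (x * h * x⁻¹) = x * (s * h) * x⁻¹ := by group
        _ = x * (h * s) * x⁻¹ := by rw [this]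
        _ = x * h * x⁻¹ * (x * s * x⁻¹) := by group
  have hinf : H ⊓ K ≤ V ⊓ Subgroup.centralizer ({y} : Set G) := by
    intro v hv
    rw [Subgroup.mem_inf, hH, hK, Subgroup.mem_inf, Subgroup.mem_inf] at hv
    obtain ⟨⟨hvV, hv1⟩, -, hv2⟩ := hv
    rw [Subgroup.mem_inf]
    refine ⟨hvV, ?_⟩
    have h1 : (S : Subgroup G) ≤ Subgroup.centralizer ({v} : Set G) := by
      intro s hs
      rw [Subgroup.mem_centralizer_iff]
      intro w hw
      rw [Set.mem_singleton_iff] at hw
      rw [hw]
      exact ((Subgroup.mem_centralizer_iff.mp hv1) s hs).symm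
    have h2 : (S : Subgroup G).map c ≤ Subgroup.centralizer ({v} : Set G) := by
      intro s hs
      rw [Subgroup.mem_centralizer_iff]
      intro w hw
      rw [Set.mem_singleton_iff] at hw
      rw [hw]
      exact ((Subgroup.mem_centralizer_iff.mp hv2) s hs).symm
    have h3 : y ∈ Subgroup.centralizer ({v} : Set G) := by
      have : (⊤ : Subgroup G) ≤ Subgroup.centralizer ({v} : Set G) := by
        rw [← hgen]; exact sup_le h1 h2
      exact this (Subgroup.mem_top y)
    rw [Subgroup.mem_centralizer_iff]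
    intro w hw
    rw [Set.mem_singleton_iff] at hw
    rw [hw]
    exact ((Subgroup.mem_centralizer_iff.mp h3) v rfl).symm
  have hle : Nat.card H * Nat.card K ≤ Nat.card V * Nat.card (H ⊓ K : Subgroup G) :=
    card_mul_card_le V H K inf_le_left inf_le_left
  calc Nat.card H ^ 2 = Nat.card H * Nat.card H := sq _
    _ ≤ Nat.card H * Nat.card K := Nat.mul_le_mul_left _ hHK
    _ ≤ Nat.card V * Nat.card (H ⊓ K : Subgroup G) := hle
    _ ≤ Nat.card V * Nat.card (V ⊓ Subgroup.centralizer ({y} : Set G) : Subgroup G) :=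
      Nat.mul_le_mul_left _ (Subgroup.card_le_of_le hinf)

end Cfsg.Agent.Lib.Helper9.PU2770A
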