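import Mathlib
import Cfsg.Agent.Lib.Helper3.CPDefs

/-!
# S3396 piece Hg: Higman's theorem for the class `CC` (solvable ⇒ at most two primes).
-/

set_option autoImplicit false
set_option linter.unusedVariables false
set_option linter.deprecated false

namespace Cfsg.Agent.Lib.Helper9.CP

open Cfsg.Agent.Lib.Helper3.CP

open scoped commutatorElement

universe u

/-- statement of the norm lemma N1 (helper4's piece), as a hypothesis. -/
def N1Stmt : Prop :=
  ∀ (G : Type u) [Group G] [Finite G]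
    (W : Subgroup G) (hWab : ∀ a ∈ W, ∀ b ∈ W, a*b = b*a) (hW1 : W ≠ ⊥) (z y : G) (r s : ℕ)
    (hr : r.Prime) (hs : s.Prime) (hz : orderOf z = r) (hy : orderOf y = s)
    (hzW : ∀ w ∈ W, z*w*z⁻¹ ∈ W) (hyW : ∀ w ∈ W, y*w*y⁻¹ ∈ W)
    (hnorm : y*z*y⁻¹ ∈ Subgroup.zpowers z) (hnc : y*z*y⁻¹ ≠ z)
    (hcop : (Nat.card W).Coprime r) (hfpf : ∀ w ∈ W, z*w*z⁻¹ = w → w = 1),
    ∃ w ∈ W, w ≠ 1 ∧ y*w*y⁻¹ = w

/-- statement of the norm lemma N2 (helper4's piece), as a hypothesis. -/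
def N2Stmt : Prop :=
  ∀ (G : Type u) [Group G] [Finite G]
    (W : Subgroup G) (hWab : ∀ a ∈ W, ∀ b ∈ W, a*b = b*a) (hW1 : W ≠ ⊥) (a b : G) (s : ℕ)
    (hs : s.Prime) (ha : orderOf a = s) (hb : orderOf b = s) (hab : a*b = b*a)
    (hb' : b ∉ Subgroup.zpowers a) (haW : ∀ w ∈ W, a*w*a⁻¹ ∈ W) (hbW : ∀ w ∈ W, b*w*b⁻¹ ∈ W)
    (hcop : (Nat.card W).Coprime s),
    ∃ c ∈ Subgroup.closure ({a, b} : Set G), c ≠ 1 ∧ ∃ w ∈ W, w ≠ 1 ∧ c*w*c⁻¹ = w

variable {G : Type u} [Group G]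

/-- `CC` passes to subgroups. -/
theorem CC.subgroup (hC : CC G) (H : Subgroup G) : CC H := by
  intro g hg
  have hg' : (g : G) ≠ 1 := fun h => hg (Subtype.ext h)
  have := hC (g : G) hg'
  rwa [Subgroup.orderOf_coe] at this

/-- `CC` passes to quotients. -/
theorem CC.quotient (hC : CC G) (N : Subgroup G) [N.Normal] : CC (G ⧸ N) := by
  intro g hg
  induction g using QuotientGroup.induction_on with
  | H x =>
    have hx1 : x ≠ 1 := by
      intro h
      apply hg
      rw [h]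
      rfl
    have hdvd : orderOf (x : G ⧸ N) ∣ orderOf x := by
      have : (x : G ⧸ N) = QuotientGroup.mk' N x := rfl
      rw [this]
      exact orderOf_map_dvd _ x
    have hne1 : orderOf (x : G ⧸ N) ≠ 1 := by
      intro h
      exact hg (orderOf_eq_one_iff.1 h)
    rcases hC x hx1 with ⟨k, hk⟩ | ⟨hp, h5⟩
    · left
      rw [hk] at hdvd
      obtain ⟨j, -, hj⟩ := (Nat.dvd_prime_pow Nat.prime_two).1 hdvd
      exact ⟨j, hj⟩
    · right
      rcases (Nat.dvd_prime hp).1 hdvd with h | h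
      · exact absurd h hne1
      · rw [h]
        exact ⟨hp, h5⟩

/-- in a `CC` group, elements of distinct prime orders do not commute. -/
theorem CC.false_of_commute (hC : CC G) {x y : G} {p q : ℕ} (hp : p.Prime) (hq : q.Prime)
    (hpq : p ≠ q) (hx : orderOf x = p) (hy : orderOf y = q) (hxy : x * y = y * x) : False := by
  have hcop : (orderOf x).Coprime (orderOf y) := by
    rw [hx, hy]
    exact (Nat.coprime_primes hp hq).2 hpq
  have hord : orderOf (x * y) = p * q := by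
    rw [Commute.orderOf_mul_eq_mul_orderOf_of_coprime hxy hcop, hx, hy]
  have hne : x * y ≠ 1 := by
    intro h
    rw [h, orderOf_one] at hord
    have := hp.two_le
    have := hq.two_le
    nlinarith
  rcases hC (x * y) hne with ⟨k, hk⟩ | ⟨hpr, -⟩
  · rw [hord] at hk
    have h1 : p ∣ 2 ^ k := hk ▸ Dvd.intro _ rfl
    have h2 : q ∣ 2 ^ k := hk ▸ Dvd.intro_left _ rfl
    have hp2 : p = 2 := (Nat.prime_dvd_prime_iff_eq hp Nat.prime_two).1 (hp.dvd_of_dvd_pow h1)
    have hq2 : q = 2 := (Nat.prime_dvd_prime_iff_eq hq Nat.prime_two).1 (hq.dvd_of_dvd_pow h2)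
    exact hpq (hp2.trans hq2.symm)
  · rw [hord] at hpr
    exact Nat.not_prime_mul hp.one_lt.ne' hq.one_lt.ne' hpr

/-- a nontrivial abelian subgroup of a `CC` group is a `p`-group. -/
theorem CC.isPGroup_of_comm [Finite G] (hC : CC G) (A : Subgroup G)
    (hA : ∀ a ∈ A, ∀ b ∈ A, a * b = b * a) (hA1 : A ≠ ⊥) :
    ∃ p : ℕ, p.Prime ∧ IsPGroup p A := by
  have hcard : Nat.card A ≠ 1 := fun h => hA1 (Subgroup.card_eq_one.1 h)
  obtain ⟨p, hp, hpd⟩ := Nat.exists_prime_and_dvd hcard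
  have : Fact p.Prime := ⟨hp⟩
  obtain ⟨x, hx⟩ := exists_prime_orderOf_dvd_card' p hpd
  have hx' : orderOf (x : G) = p := by rw [Subgroup.orderOf_coe]; exact hx
  refine ⟨p, hp, ?_⟩
  intro a
  by_cases ha1 : a = 1
  · exact ⟨0, by rw [ha1]; simp⟩
  have ha1' : (a : G) ≠ 1 := fun h => ha1 (Subtype.ext h)
  have hord1 : orderOf (a : G) ≠ 1 := fun h => ha1' (orderOf_eq_one_iff.1 h)
  have hord0 : orderOf (a : G) ≠ 0 := (orderOf_pos (a : G)).ne'
  -- every prime divisor of the order of `a` is `p`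
  have hprime : ∀ q : ℕ, q.Prime → q ∣ orderOf (a : G) → q = p := by
    intro q hq hqd
    by_contra hne
    have h1 : orderOf ((a : G) ^ (orderOf (a : G) / q)) = q := orderOf_pow_orderOf_div hord0 hqd
    have h2 : (a : G) ^ (orderOf (a : G) / q) * (x : G) = (x : G) * (a : G) ^ (orderOf (a : G) / q) :=
      hA _ (A.pow_mem a.2 _) _ x.2
    exact CC.false_of_commute hC hq hp hne h1 hx' h2
  rcases hC (a : G) ha1' with ⟨k, hk⟩ | ⟨hq, -⟩
  · have hk0 : k ≠ 0 := by
      intro h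
      rw [h, pow_zero] at hk
      exact hord1 hk
    have h2 : (2 : ℕ) = p := hprime 2 Nat.prime_two (hk ▸ dvd_pow_self 2 hk0)
    refine ⟨k, ?_⟩
    apply Subtype.ext
    rw [Subgroup.coe_pow, ← h2, ← hk]
    exact pow_orderOf_eq_one _
  · have h2 : orderOf (a : G) = p := hprime _ hq dvd_rfl
    refine ⟨1, ?_⟩
    apply Subtype.ext
    rw [Subgroup.coe_pow, pow_one, ← h2]
    exact pow_orderOf_eq_one _

/-- a nontrivial solvable subgroup has a nontrivial abelian subgroup normalized by it. -/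
theorem exists_normal_abelian_sub [Finite G] (K : Subgroup G) (hK1 : K ≠ ⊥) (hs : IsSolvable K) :
    ∃ B : Subgroup G, B ≤ K ∧ B ≠ ⊥ ∧ (∀ k ∈ K, ∀ b ∈ B, k * b * k⁻¹ ∈ B) ∧
      ∀ a ∈ B, ∀ b ∈ B, a * b = b * a := by
  classical
  have hex : ∃ n, derivedSeries ↥K n = ⊥ := hs.solvable
  have hnt : Nontrivial ↥K := (Subgroup.nontrivial_iff_ne_bot K).mpr hK1
  have h0 : Nat.find hex ≠ 0 := by
    intro h
    have := Nat.find_spec hex
    rw [h, derivedSeries_zero] at this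
    exact top_ne_bot this
  obtain ⟨m, hm⟩ := Nat.exists_eq_succ_of_ne_zero h0
  have hD1 : derivedSeries ↥K m ≠ ⊥ := Nat.find_min hex (by rw [hm]; exact Nat.lt_succ_self m)
  have hD2 : ⁅derivedSeries ↥K m, derivedSeries ↥K m⁆ = ⊥ := by
    have := Nat.find_spec hex
    rw [hm, derivedSeries_succ] at this
    exact this
  have hDn : (derivedSeries ↥K m).Normal := derivedSeries_normal ↥K m
  refine ⟨(derivedSeries ↥K m).map K.subtype, ?_, ?_, ?_, ?_⟩
  · rintro _ ⟨x, -, rfl⟩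
    exact x.2
  · intro h
    apply hD1
    rw [eq_bot_iff]
    intro x hx
    have : (x : G) ∈ (derivedSeries ↥K m).map K.subtype := ⟨x, hx, rfl⟩
    rw [h, Subgroup.mem_bot] at this
    exact Subgroup.mem_bot.mpr (Subtype.ext this)
  · rintro k hk _ ⟨b, hb, rfl⟩
    refine ⟨⟨k, hk⟩ * b * ⟨k, hk⟩⁻¹, hDn.conj_mem b hb ⟨k, hk⟩, ?_⟩
    simp
  · rintro _ ⟨a, ha, rfl⟩ _ ⟨b, hb, rfl⟩
    have h1 : ⁅a, b⁆ ∈ ⁅derivedSeries ↥K m, derivedSeries ↥K m⁆ :=
      Subgroup.commutator_mem_commutator ha hb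
    rw [hD2, Subgroup.mem_bot, commutatorElement_eq_one_iff_mul_comm] at h1
    exact congrArg Subtype.val h1

/-- in a `CC` group an element of prime order `t` fixes no nonidentity element of a `p`-subgroup,
`p ≠ t`. -/
theorem CC.eq_one_of_fix [Finite G] (hC : CC G) {p t : ℕ} (hp : p.Prime) (ht : t.Prime)
    (hpt : p ≠ t) {A : Subgroup G} (hA : IsPGroup p A) {k w : G} (hk : orderOf k = t)
    (hw : w ∈ A) (hkw : k * w * k⁻¹ = w) : w = 1 := by
  by_contra hw1
  have : Fact p.Prime := ⟨hp⟩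
  obtain ⟨j, hj⟩ := (IsPGroup.iff_orderOf.1 hA) ⟨w, hw⟩
  rw [Subgroup.orderOf_mk] at hj
  have hj0 : j ≠ 0 := by
    intro h
    rw [h, pow_zero] at hj
    exact hw1 (orderOf_eq_one_iff.1 hj)
  have hpd : p ∣ orderOf w := hj ▸ dvd_pow_self p hj0
  have hord0 : orderOf w ≠ 0 := (orderOf_pos w).ne'
  have h1 : orderOf (w ^ (orderOf w / p)) = p := orderOf_pow_orderOf_div hord0 hpd
  have hcomm : k * w = w * k := by
    calc k * w = k * w * k⁻¹ * k := by group
      _ = w * k := by rw [hkw]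
  have h2 : k * w ^ (orderOf w / p) = w ^ (orderOf w / p) * k :=
    (Commute.pow_right (show Commute k w from hcomm) _).eq
  exact CC.false_of_commute hC ht hp hpt.symm hk h1 h2

/-- the same for an arbitrary nonidentity element of order prime to `p`. -/
theorem CC.eq_one_of_fix' [Finite G] (hC : CC G) {p : ℕ} (hp : p.Prime)
    {A : Subgroup G} (hA : IsPGroup p A) {c w : G} (hc1 : c ≠ 1) (hcp : ¬ p ∣ orderOf c)
    (hw : w ∈ A) (hcw : c * w * c⁻¹ = w) : w = 1 := by
  have hord1 : orderOf c ≠ 1 := fun h => hc1 (orderOf_eq_one_iff.1 h)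
  have hord0 : orderOf c ≠ 0 := (orderOf_pos c).ne'
  obtain ⟨t, ht, htd⟩ := Nat.exists_prime_and_dvd hord1
  have hpt : p ≠ t := fun h => hcp (h ▸ htd)
  have h1 : orderOf (c ^ (orderOf c / t)) = t := orderOf_pow_orderOf_div hord0 htd
  have hcomm : c * w = w * c := by
    calc c * w = c * w * c⁻¹ * c := by group
      _ = w * c := by rw [hcw]
  have h2 : c ^ (orderOf c / t) * w = w * c ^ (orderOf c / t) :=
    (Commute.pow_left (show Commute c w from hcomm) _).eq
  refine CC.eq_one_of_fix hC hp ht hpt hA h1 hw ?_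
  rw [h2]
  group

/-- Higman's theorem for the class `CC`, modulo the norm lemmas. -/
theorem higman_aux (hN1 : N1Stmt.{u}) (hN2 : N2Stmt.{u}) :
    ∀ (n : ℕ) (G : Type u) [Group G] [Finite G], Nat.card G = n → CC G → IsSolvable G →
      (Nat.card G).primeFactors.card ≤ 2 := by
  intro n
  induction n using Nat.strong_induction_on with
  | _ n ih =>
  intro G _ _ hn hC hs
  by_contra hcon
  rw [not_le] at hcon
  classical
  -- `G` is nontrivial
  have hG1 : (⊤ : Subgroup G) ≠ ⊥ := by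
    intro h
    have h1 : Nat.card G = 1 := by
      rw [← Subgroup.card_top (G := G), h, Subgroup.card_bot]
    rw [h1] at hcon
    simp at hcon
  -- a normal abelian subgroup `A`, a `p`-group
  have hs' : Group.IsSolvable G := hs
  have hsT : IsSolvable (⊤ : Subgroup G) := (inferInstance : Group.IsSolvable (⊤ : Subgroup G))
  obtain ⟨A, -, hA1, hAn, hAab⟩ := exists_normal_abelian_sub ⊤ hG1 hsT
  have hAnorm : ∀ g w : G, w ∈ A → g * w * g⁻¹ ∈ A := fun g w hw => hAn g (Subgroup.mem_top g) w hw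
  have hAN : A.Normal := ⟨fun w hw g => hAnorm g w hw⟩
  obtain ⟨p, hp, hAp⟩ := CC.isPGroup_of_comm hC A hAab hA1
  have : Fact p.Prime := ⟨hp⟩
  obtain ⟨k, hk⟩ := hAp.exists_card_eq
  have hk0 : k ≠ 0 := by
    intro h
    rw [h, pow_zero] at hk
    exact hA1 (Subgroup.card_eq_one.1 hk)
  have hmul : Nat.card G = Nat.card (G ⧸ A) * Nat.card A :=
    Subgroup.card_eq_card_quotient_mul_card_subgroup A
  have hQpos : 0 < Nat.card (G ⧸ A) := Nat.card_pos
  have hA2 : 2 ≤ Nat.card A := by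
    rw [hk]
    calc 2 ≤ p := hp.two_le
      _ = p ^ 1 := (pow_one p).symm
      _ ≤ p ^ k := Nat.pow_le_pow_right hp.pos (Nat.one_le_iff_ne_zero.2 hk0)
  have hQlt : Nat.card (G ⧸ A) < n := by
    rw [← hn, hmul]
    nlinarith
  have hQ := ih (Nat.card (G ⧸ A)) hQlt (G ⧸ A) rfl (CC.quotient hC A)
    (inferInstance : Group.IsSolvable (G ⧸ A))
  -- the primes
  have hπ : (Nat.card G).primeFactors = (Nat.card (G ⧸ A)).primeFactors ∪ {p} := by
    rw [hmul, Nat.primeFactors_mul hQpos.ne' (by omega), hk, Nat.primeFactors_prime_pow hk0 hp]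
  have hpQ : p ∉ (Nat.card (G ⧸ A)).primeFactors := by
    intro h
    rw [hπ, Finset.union_eq_left.2 (Finset.singleton_subset_iff.2 h)] at hcon
    omega
  have hQ2 : (Nat.card (G ⧸ A)).primeFactors.card = 2 := by
    rw [hπ, Finset.union_comm, ← Finset.insert_eq, Finset.card_insert_of_notMem hpQ] at hcon
    omega
  have hpQ' : ¬ p ∣ Nat.card (G ⧸ A) := by
    intro h
    exact hpQ (Nat.mem_primeFactors.2 ⟨hp, h, hQpos.ne'⟩)
  -- Schur–Zassenhaus
  have hcop : (Nat.card A).Coprime A.index := by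
    rw [Subgroup.index_eq_card, hk]
    exact Nat.Coprime.pow_left k ((Nat.Prime.coprime_iff_not_dvd hp).2 hpQ')
  obtain ⟨K, hK⟩ := Subgroup.exists_right_complement'_of_coprime hcop
  have hKcard : Nat.card K = Nat.card (G ⧸ A) := by
    have h1 := hK.card_mul_card
    rw [hmul, mul_comm] at h1
    exact Nat.eq_of_mul_eq_mul_right (by omega) h1
  have hpK : ¬ p ∣ Nat.card K := by rw [hKcard]; exact hpQ'
  obtain ⟨s, l, hsl, hsl'⟩ := Finset.card_eq_two.1 hQ2
  have hsmem : s ∈ (Nat.card (G ⧸ A)).primeFactors := by rw [hsl']; simp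
  have hlmem : l ∈ (Nat.card (G ⧸ A)).primeFactors := by rw [hsl']; simp
  obtain ⟨hsp, hsd, -⟩ := Nat.mem_primeFactors.1 hsmem
  obtain ⟨hlp, hld, -⟩ := Nat.mem_primeFactors.1 hlmem
  rw [← hKcard] at hsd hld
  -- `K` acts fixed-point-freely on `A`
  have hfpf : ∀ c ∈ K, c ≠ 1 → ∀ w ∈ A, c * w * c⁻¹ = w → w = 1 := by
    intro c hc hc1 w hw hcw
    refine CC.eq_one_of_fix' hC hp hAp hc1 ?_ hw hcw
    intro hpd
    apply hpK
    have h1 : orderOf (⟨c, hc⟩ : K) ∣ Nat.card K := orderOf_dvd_natCard _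
    rw [Subgroup.orderOf_mk] at h1
    exact hpd.trans h1
  -- a normal abelian subgroup `B` of `K`, a `q`-group
  have hK1 : K ≠ ⊥ := by
    intro h
    rw [h, Subgroup.card_bot] at hsd
    exact hsp.one_lt.ne' (Nat.dvd_one.1 hsd)
  obtain ⟨B, hBK, hB1, hBn, hBab⟩ := exists_normal_abelian_sub K hK1
    (inferInstance : Group.IsSolvable K)
  obtain ⟨q, hq, hBq⟩ := CC.isPGroup_of_comm hC B hBab hB1
  have : Fact q.Prime := ⟨hq⟩
  obtain ⟨j, hj⟩ := hBq.exists_card_eq
  have hj0 : j ≠ 0 := by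
    intro h
    rw [h, pow_zero] at hj
    exact hB1 (Subgroup.card_eq_one.1 hj)
  have hqB : q ∣ Nat.card B := hj ▸ dvd_pow_self q hj0
  have hqK : q ∣ Nat.card K := hqB.trans (Subgroup.card_dvd_of_le hBK)
  have hqp : q ≠ p := fun h => hpK (h ▸ hqK)
  have hqmem : q ∈ (Nat.card (G ⧸ A)).primeFactors :=
    Nat.mem_primeFactors.2 ⟨hq, hKcard ▸ hqK, hQpos.ne'⟩
  -- the other prime `q'`
  obtain ⟨q', hq', hqq', hq'K⟩ : ∃ q' : ℕ, q'.Prime ∧ q' ≠ q ∧ q' ∣ Nat.card K := by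
    rw [hsl'] at hqmem
    simp only [Finset.mem_insert, Finset.mem_singleton] at hqmem
    rcases hqmem with h | h
    · exact ⟨l, hlp, fun h' => hsl (h.symm.trans h'.symm |>.symm ▸ rfl), hld⟩
    · exact ⟨s, hsp, fun h' => hsl (h'.trans h), hsd⟩
  have : Fact q'.Prime := ⟨hq'⟩
  obtain ⟨z, hz⟩ := exists_prime_orderOf_dvd_card' q hqB
  obtain ⟨y, hy⟩ := exists_prime_orderOf_dvd_card' q' hq'K
  have hz' : orderOf (z : G) = q := by rw [Subgroup.orderOf_coe]; exact hz
  have hy' : orderOf (y : G) = q' := by rw [Subgroup.orderOf_coe]; exact hy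
  have hzK : (z : G) ∈ K := hBK z.2
  have hz1 : (z : G) ≠ 1 := by
    intro h
    rw [h, orderOf_one] at hz'
    exact hq.one_lt.ne hz'
  have hy1 : (y : G) ≠ 1 := by
    intro h
    rw [h, orderOf_one] at hy'
    exact hq'.one_lt.ne hy'
  have hcopq : (Nat.card A).Coprime q := by
    rw [hk]
    exact Nat.Coprime.pow_left k ((Nat.coprime_primes hp hq).2 hqp.symm)
  -- elements of order `q` of `B` lie in `⟨z⟩`
  have hBz : ∀ b ∈ B, orderOf b = q → b ∈ Subgroup.zpowers (z : G) := by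
    intro b hb hbq
    by_contra hb'
    obtain ⟨c, hc, hc1, w, hw, hw1, hcw⟩ := hN2 G A hAab hA1 (z : G) b q hq hz' hbq
      (hBab _ z.2 _ hb) hb' (fun w hw => hAnorm _ w hw) (fun w hw => hAnorm _ w hw) hcopq
    have hcK : c ∈ K := by
      refine (Subgroup.closure_le K).2 ?_ hc
      intro x hx
      rcases hx with rfl | rfl
      · exact hzK
      · exact hBK hb
    exact hw1 (hfpf c hcK hc1 w hw hcw)
  have hnorm : (y : G) * (z : G) * (y : G)⁻¹ ∈ Subgroup.zpowers (z : G) := by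
    refine hBz _ (hBn _ y.2 _ z.2) ?_
    have := (MulAut.conj (y : G)).orderOf_eq (z : G)
    rw [MulAut.conj_apply] at this
    rw [this, hz']
  have hnc : (y : G) * (z : G) * (y : G)⁻¹ ≠ (z : G) := by
    intro h
    have hcomm : (y : G) * (z : G) = (z : G) * (y : G) := by
      calc (y : G) * (z : G) = (y : G) * (z : G) * (y : G)⁻¹ * (y : G) := by group
        _ = (z : G) * (y : G) := by rw [h]
    exact CC.false_of_commute hC hq' hq hqq' hy' hz' hcomm
  obtain ⟨w, hw, hw1, hyw⟩ := hN1 G A hAab hA1 (z : G) (y : G) q q' hq hq' hz' hy'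
    (fun w hw => hAnorm _ w hw) (fun w hw => hAnorm _ w hw) hnorm hnc hcopq
    (fun w hw h => hfpf _ hzK hz1 w hw h)
  exact hw1 (hfpf _ y.2 hy1 w hw hyw)

/-- Higman's theorem for the class `CC`, with the norm lemmas N1, N2 as hypotheses. -/
theorem higman_of_norm (hN1 : N1Stmt.{u}) (hN2 : N2Stmt.{u}) [Finite G] (hC : CC G)
    (hs : IsSolvable G) : (Nat.card G).primeFactors.card ≤ 2 :=
  higman_aux hN1 hN2 _ G rfl hC hs

end Cfsg.Agent.Lib.Helper9.CP
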