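import Cfsg.Agent.Lib.Helper9.GroupFusionAut

set_option autoImplicit false

namespace Cfsg.Agent.Lib.Helper9

open Cfsg Cfsg.FusionSystem

variable {G : Type*} [Group G]

/-- Every subgroup of `S` has a `G`-conjugate in `S` that is fully normalized in `F_S(G)`. -/
theorem exists_cj_fullyNormalized [Finite G] {p : ℕ} [Fact p.Prime] (S : Sylow p G)
    (P : Subgroup G) (hP : P ≤ S) :
    ∃ g : G, P.map (MulAut.conj g).toMonoidHom ≤ S ∧
      (groupFusionSystem (S : Subgroup G)).IsFullyNormalized (P.map (MulAut.conj g).toMonoidHom) := by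
  let A := {g : G // P.map (MulAut.conj g).toMonoidHom ≤ (S : Subgroup G)}
  have : Nonempty A := ⟨⟨1, by rw [cj_one]; exact hP⟩⟩
  obtain ⟨⟨g, hg⟩, hmax⟩ := Finite.exists_max
    (fun a : A => Nat.card (normalizerIn (S : Subgroup G) (P.map (MulAut.conj a.1).toMonoidHom)))
  refine ⟨g, hg, hg, ?_⟩
  intro Q' hQ'
  obtain ⟨-, hQ'S, h, rfl⟩ := groupFusion_isConj_cases hQ'
  rw [cj_cj] at hQ'S ⊢
  exact hmax ⟨h * g, hQ'S⟩

theorem sylow_centralizer_of_sylow_normalizer [Finite G] {p : ℕ} [Fact p.Prime] (S : Sylow p G)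
    (Q : Subgroup G)
    (R : Sylow p ↥(Subgroup.normalizer (Q : Set G)))
    (hR : (R : Subgroup ↥(Subgroup.normalizer (Q : Set G))) =
      (normalizerIn (S : Subgroup G) Q).subgroupOf (Subgroup.normalizer (Q : Set G))) :
    ∃ R' : Sylow p ↥(Subgroup.centralizer (Q : Set G)),
      (R' : Subgroup ↥(Subgroup.centralizer (Q : Set G))) =
        (centralizerIn (S : Subgroup G) Q).subgroupOf (Subgroup.centralizer (Q : Set G)) := by
  apply sylowIn_of_card_le inf_le_right (isPGroup_centralizerIn S Q)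
  intro U _ hUC hU
  have hUN : U ≤ Subgroup.normalizer (Q : Set G) :=
    hUC.trans (Subgroup.centralizer_le_normalizer _)
  obtain ⟨n, hn, hnU⟩ := exists_cj_le_of_sylowIn R hR hUN hU
  have h2 : U.map (MulAut.conj n).toMonoidHom ≤ centralizerIn (S : Subgroup G) Q := by
    refine le_inf (hnU.trans inf_le_left) ?_
    have h3 := cj_mono (g := n) hUC
    rw [← centralizer_cj, cj_eq_of_mem_normalizer hn] at h3
    exact h3
  calc Nat.card U = Nat.card (U.map (MulAut.conj n).toMonoidHom) := (card_cj n U).symm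
    _ ≤ _ := Subgroup.card_le_of_le h2

end Cfsg.Agent.Lib.Helper9
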