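import Cfsg.Agent.Lib.Helper9.FusionSat1

set_option autoImplicit false

namespace Cfsg.Agent.Lib.Helper9

open Cfsg Cfsg.FusionSystem

variable {Ω : Type*} [Group Ω] {S : Subgroup Ω}

theorem self_le_normalizerIn' {P : Subgroup Ω} (hP : P ≤ S) : P ≤ normalizerIn S P :=
  le_inf hP Subgroup.le_normalizer

theorem centralizerIn_le_normalizerIn (S P : Subgroup Ω) : centralizerIn S P ≤ normalizerIn S P :=
  inf_le_inf_left S (Subgroup.centralizer_le_normalizer _)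

/-- the source of a map with values in `S` is contained in its extender -/
theorem le_extender {R : Subgroup Ω} (hR : R ≤ S) (ω : R →* Ω) (hω : ∀ x, ω x ∈ S) :
    R ≤ extender S R ω := by
  intro g hg
  apply Subgroup.subset_closure
  refine ⟨hR hg, Subgroup.le_normalizer hg, ω ⟨g, hg⟩, hω _, ?_⟩
  intro x hx
  have : (⟨g * (x : Ω) * g⁻¹, hx⟩ : R) = ⟨g, hg⟩ * x * ⟨g, hg⟩⁻¹ := Subtype.ext rfl
  rw [this]; simp

theorem extender_le_normalizerIn (R : Subgroup Ω) (ω : R →* Ω) :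
    extender S R ω ≤ normalizerIn S R := by
  rw [extender, Subgroup.closure_le]
  rintro g ⟨hgS, hgN, -⟩
  exact ⟨hgS, hgN⟩

theorem exists_isConj_fullyNormalized [Finite S] (F : FusionSystem S) {P : Subgroup Ω}
    (hP : P ≤ S) : ∃ Q, F.IsConj P Q ∧ F.IsFullyNormalized Q := by
  have hfin : {Q | F.IsConj P Q}.Finite :=
    (finite_subgroups_le S).subset (fun Q h => isConj_le_right F h)
  have : Finite {Q // F.IsConj P Q} := hfin.to_subtype
  have : Nonempty {Q // F.IsConj P Q} := ⟨⟨P, isConj_refl F hP⟩⟩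
  obtain ⟨⟨Q, hQ⟩, hmax⟩ := Finite.exists_max
    (fun Q : {Q // F.IsConj P Q} => Nat.card (normalizerIn S (Q : Subgroup Ω)))
  refine ⟨Q, hQ, isConj_le_right F hQ, ?_⟩
  intro Q' hQ'
  exact hmax ⟨Q', isConj_trans F hQ hQ'⟩

/-- a map `N_S(P) → N_S(Q)` carrying `P` onto `Q` sends `C_S(P)` into `C_S(Q)` -/
theorem map_centralizerIn_mem (F : FusionSystem S) {P Q : Subgroup Ω} (hP : P ≤ S)
    {φ : (normalizerIn S P : Subgroup Ω) →* Ω} (hφ : φ ∈ F.Hom (normalizerIn S P))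
    (hφPQ : (P.subgroupOf (normalizerIn S P)).map φ = Q)
    (c : Ω) (hc : c ∈ centralizerIn S P) :
    φ ⟨c, centralizerIn_le_normalizerIn S P hc⟩ ∈ centralizerIn S Q := by
  refine ⟨hom_mem F hφ _, ?_⟩
  show _ ∈ Subgroup.centralizer (Q : Set Ω)
  rw [Subgroup.mem_centralizer_iff]
  intro y hy
  obtain ⟨x, hx, rfl⟩ := hφPQ.ge hy
  rw [← map_mul, ← map_mul]
  congr 1
  apply Subtype.ext
  exact hc.2 x hx

theorem finite_centralizerIn [Finite S] (P : Subgroup Ω) : Finite (centralizerIn S P) :=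
  finite_of_le (centralizerIn_le S P)

theorem finite_normalizerIn [Finite S] (P : Subgroup Ω) : Finite (normalizerIn S P) :=
  finite_of_le (normalizerIn_le S P)

/-- if `Q` is conjugate to the fully centralized `P`, a map `N_S(P) → N_S(Q)` carrying `P` onto
`Q` sends `C_S(P)` onto `C_S(Q)` -/
theorem map_centralizerIn_surj [Finite S] (F : FusionSystem S) {P Q : Subgroup Ω} (hP : P ≤ S)
    {φ : (normalizerIn S P : Subgroup Ω) →* Ω} (hφ : φ ∈ F.Hom (normalizerIn S P))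
    (hφPQ : (P.subgroupOf (normalizerIn S P)).map φ = Q)
    (hcard : Nat.card (centralizerIn S Q) ≤ Nat.card (centralizerIn S P))
    (d : Ω) (hd : d ∈ centralizerIn S Q) :
    ∃ (c : Ω) (hc : c ∈ centralizerIn S P),
      φ ⟨c, centralizerIn_le_normalizerIn S P hc⟩ = d := by
  let f : centralizerIn S P → centralizerIn S Q :=
    fun c => ⟨φ ⟨c, centralizerIn_le_normalizerIn S P c.2⟩,
      map_centralizerIn_mem F hP hφ hφPQ c c.2⟩
  have hf : Function.Injective f := by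
    intro a b hab
    have h1 : φ ⟨a, centralizerIn_le_normalizerIn S P a.2⟩ =
        φ ⟨b, centralizerIn_le_normalizerIn S P b.2⟩ :=
      congrArg (fun z : centralizerIn S Q => (z : Ω)) hab
    have h2 := F.injective_of_mem hφ h1
    exact Subtype.ext (congrArg (fun z : normalizerIn S P => (z : Ω)) h2)
  have := finite_centralizerIn (S := S) Q
  have hbij := hf.bijective_of_nat_card_le hcard
  obtain ⟨c, hc⟩ := hbij.2 ⟨d, hd⟩
  exact ⟨c, c.2, congrArg (fun z : centralizerIn S Q => (z : Ω)) hc⟩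

/-- In a saturated system, fully centralized subgroups are receptive. -/
theorem receptive_of_fullyCentralized [Finite S] {p : ℕ} [Fact p.Prime] (hS : IsPGroup p S)
    (F : FusionSystem S) (hF : F.IsSaturated p) {P : Subgroup Ω} (hP : F.IsFullyCentralized P) :
    F.IsReceptive P := by
  obtain ⟨hPS, hPc⟩ := hP
  obtain ⟨Q, hPQ, hQa, hQr⟩ := hF P hPS
  obtain ⟨φ, hφ, hφN, hφPQ⟩ := exists_normalizer_hom hS F Q P hQa hQr hPQ
  have hQS : Q ≤ S := hQr.1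
  have hcard := hPc Q hPQ
  have hPN : P ≤ normalizerIn S P := self_le_normalizerIn' hPS
  refine ⟨hPS, ?_⟩
  intro R χ hχ hχr
  have hRS : R ≤ S := hom_le F hχ
  have hχN : ∀ x : R, χ x ∈ normalizerIn S P := fun x => hPN (hχr.le ⟨x, rfl⟩)
  obtain ⟨ω, hω, hωe⟩ := comp_hom F hχ hφ hχN
  have hωr : ω.range = Q := by
    apply le_antisymm
    · rintro _ ⟨x, rfl⟩
      rw [hωe]
      exact hφPQ.le ⟨_, hχr.le ⟨x, rfl⟩, rfl⟩
    · intro y hy
      obtain ⟨z, hz, rfl⟩ := hφPQ.ge hy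
      have hz1 : (z : Ω) ∈ P := hz
      obtain ⟨x, hx⟩ := hχr.ge hz1
      refine ⟨x, ?_⟩
      rw [hωe]
      congr 1
      exact Subtype.ext hx
  obtain ⟨ρ, hρ, hρω⟩ := hQr.2 R ω hω hωr
  have hRle : R ≤ extender S R ω := le_extender hRS ω (fun x => hom_mem F hω x)
  -- generators of the extender of χ
  have key : ∀ g : Ω, g ∈ S → g ∈ Subgroup.normalizer (R : Set Ω) →
      (∃ h ∈ S, ∀ (x : R) (hx : g * (x : Ω) * g⁻¹ ∈ R), χ ⟨g * x * g⁻¹, hx⟩ = h * χ x * h⁻¹) →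
      ∃ hg : g ∈ extender S R ω, ρ ⟨g, hg⟩ ∈ φ.range := by
    rintro g hgS hgN ⟨h, hhS, hh⟩
    -- h normalizes P
    have hhN : h ∈ Subgroup.normalizer (P : Set Ω) := by
      rw [Subgroup.mem_normalizer_iff]
      intro y
      constructor
      · intro hy
        obtain ⟨x, rfl⟩ := hχr.ge hy
        have hgx : g * (x : Ω) * g⁻¹ ∈ R := conj_mem_of_mem_normalizer hgN x.2
        rw [← hh x hgx, ← hχr]
        exact ⟨_, rfl⟩
      · intro hy
        obtain ⟨x', hx'⟩ := hχr.ge hy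
        have hgx : g⁻¹ * (x' : Ω) * g ∈ R := conj_inv_mem_of_mem_normalizer hgN x'.2
        have hgx2 : g * ((⟨g⁻¹ * (x' : Ω) * g, hgx⟩ : R) : Ω) * g⁻¹ ∈ R := by
          have : g * (g⁻¹ * (x' : Ω) * g) * g⁻¹ = x' := by group
          rw [this]; exact x'.2
        have h1 := hh ⟨g⁻¹ * (x' : Ω) * g, hgx⟩ hgx2
        have h2 : (⟨g * ((⟨g⁻¹ * (x' : Ω) * g, hgx⟩ : R) : Ω) * g⁻¹, hgx2⟩ : R) = x' := by
          apply Subtype.ext
          show g * (g⁻¹ * (x' : Ω) * g) * g⁻¹ = x'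
          group
        rw [h2, hx'] at h1
        have h3 : y = χ ⟨g⁻¹ * (x' : Ω) * g, hgx⟩ :=
          mul_left_cancel (mul_right_cancel h1)
        rw [h3, ← hχr]
        exact ⟨_, rfl⟩
    have hhNS : h ∈ normalizerIn S P := ⟨hhS, hhN⟩
    have hgext : g ∈ extender S R ω := by
      apply Subgroup.subset_closure
      refine ⟨hgS, hgN, φ ⟨h, hhNS⟩, hom_mem F hφ _, ?_⟩
      intro x hx
      rw [hωe, hωe, ← map_inv, ← map_mul, ← map_mul]
      congr 1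
      apply Subtype.ext
      exact hh x hx
    refine ⟨hgext, ?_⟩
    -- φ(h)⁻¹ ρ(g) centralizes Q
    have hcent : (φ ⟨h, hhNS⟩)⁻¹ * ρ ⟨g, hgext⟩ ∈ centralizerIn S Q := by
      refine ⟨Subgroup.mul_mem _ (Subgroup.inv_mem _ (hom_mem F hφ _)) (hom_mem F hρ _), ?_⟩
      show _ ∈ Subgroup.centralizer (Q : Set Ω)
      rw [Subgroup.mem_centralizer_iff]
      intro y hy
      obtain ⟨x, rfl⟩ := hωr.ge hy
      have hgx : g * (x : Ω) * g⁻¹ ∈ R := conj_mem_of_mem_normalizer hgN x.2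
      have h1 : ρ ⟨g, hgext⟩ * ω x * (ρ ⟨g, hgext⟩)⁻¹ = ω ⟨g * x * g⁻¹, hgx⟩ := by
        rw [← hρω _ hgx (hRle hgx), ← hρω x x.2 (hRle x.2), ← map_inv, ← map_mul, ← map_mul]
        rfl
      have h2 : ω ⟨g * x * g⁻¹, hgx⟩ = φ ⟨h, hhNS⟩ * ω x * (φ ⟨h, hhNS⟩)⁻¹ := by
        rw [hωe, hωe, ← map_inv, ← map_mul, ← map_mul]
        congr 1
        apply Subtype.ext
        exact hh x hgx
      rw [h2] at h1
      -- rearrange
      have h3 : ρ ⟨g, hgext⟩ * ω x = φ ⟨h, hhNS⟩ * ω x * (φ ⟨h, hhNS⟩)⁻¹ * ρ ⟨g, hgext⟩ := by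
        rw [← h1]; group
      calc ω x * ((φ ⟨h, hhNS⟩)⁻¹ * ρ ⟨g, hgext⟩)
          = (φ ⟨h, hhNS⟩)⁻¹ * (φ ⟨h, hhNS⟩ * ω x * (φ ⟨h, hhNS⟩)⁻¹ * ρ ⟨g, hgext⟩) := by group
        _ = (φ ⟨h, hhNS⟩)⁻¹ * (ρ ⟨g, hgext⟩ * ω x) := by rw [← h3]
        _ = (φ ⟨h, hhNS⟩)⁻¹ * ρ ⟨g, hgext⟩ * ω x := by group
    obtain ⟨c, hc, hcφ⟩ := map_centralizerIn_surj F hPS hφ hφPQ hcard _ hcent
    refine ⟨⟨h, hhNS⟩ * ⟨c, centralizerIn_le_normalizerIn S P hc⟩, ?_⟩
    rw [map_mul, hcφ]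
    group
  have hle : extender S R χ ≤ extender S R ω := by
    rw [extender, Subgroup.closure_le]
    rintro g ⟨hgS, hgN, hex⟩
    exact (key g hgS hgN hex).1
  have hrange : ∀ z : extender S R χ, ρ ⟨z, hle z.2⟩ ∈ φ.range := by
    have h1 : extender S R χ ≤ ((φ.range).comap ρ).map (extender S R ω).subtype := by
      rw [extender, Subgroup.closure_le]
      rintro g ⟨hgS, hgN, hex⟩
      obtain ⟨hg, hρg⟩ := key g hgS hgN hex
      exact ⟨⟨g, hg⟩, hρg, rfl⟩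
    intro z
    obtain ⟨w, hw, hwz⟩ := h1 z.2
    have : (⟨z, hle z.2⟩ : extender S R ω) = w := Subtype.ext hwz.symm
    rw [this]
    exact hw
  obtain ⟨θ, hθ, hθφ⟩ := F.inv_mem hφ
  have hρ' := restrict_mem F hρ hle
  obtain ⟨ρ', hρ'mem, hρ'e⟩ := comp_hom F hρ' hθ hrange
  refine ⟨ρ', hρ'mem, ?_⟩
  intro x hxR hxN
  rw [hρ'e]
  have h1 : (ρ.comp (Subgroup.inclusion hle)) ⟨x, hxN⟩ = φ ⟨χ ⟨x, hxR⟩, hχN ⟨x, hxR⟩⟩ := by
    rw [← hωe]
    exact hρω x hxR (hle hxN)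
  have h2 := hθφ ⟨χ ⟨x, hxR⟩, hχN ⟨x, hxR⟩⟩
  exact (congrArg θ (Subtype.ext h1)).trans h2

end Cfsg.Agent.Lib.Helper9
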