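import Cfsg.Agent.Lib.Helper9.FusionSat2

set_option autoImplicit false

namespace Cfsg.Agent.Lib.Helper9

open Cfsg Cfsg.FusionSystem

variable {Ω : Type*} [Group Ω] {S : Subgroup Ω}

/-- the generating set of the extender is already a subgroup -/
theorem mem_extender_iff {P : Subgroup Ω} (φ : P →* Ω) (g : Ω) :
    g ∈ extender S P φ ↔ g ∈ S ∧ g ∈ Subgroup.normalizer (P : Set Ω) ∧
      ∃ h ∈ S, ∀ (x : P) (hx : g * (x : Ω) * g⁻¹ ∈ P), φ ⟨g * x * g⁻¹, hx⟩ = h * φ x * h⁻¹ := by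
  constructor
  · intro hg
    induction hg using Subgroup.closure_induction with
    | mem x hx => exact hx
    | one =>
      refine ⟨S.one_mem, Subgroup.one_mem _, 1, S.one_mem, fun x hx => ?_⟩
      have : (⟨1 * (x : Ω) * 1⁻¹, hx⟩ : P) = x := Subtype.ext (by simp)
      rw [this]; simp
    | mul a b _ _ iha ihb =>
      obtain ⟨haS, haN, h₁, hh₁, hh₁φ⟩ := iha
      obtain ⟨hbS, hbN, h₂, hh₂, hh₂φ⟩ := ihb
      refine ⟨S.mul_mem haS hbS, Subgroup.mul_mem _ haN hbN, h₁ * h₂, S.mul_mem hh₁ hh₂,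
        fun x hx => ?_⟩
      have hbx : b * (x : Ω) * b⁻¹ ∈ P := (Subgroup.mem_normalizer_iff.mp hbN x).mp x.2
      have habx : a * ((⟨b * (x : Ω) * b⁻¹, hbx⟩ : P) : Ω) * a⁻¹ ∈ P :=
        (Subgroup.mem_normalizer_iff.mp haN _).mp hbx
      have h3 : (⟨a * b * (x : Ω) * (a * b)⁻¹, hx⟩ : P) =
          ⟨a * ((⟨b * (x : Ω) * b⁻¹, hbx⟩ : P) : Ω) * a⁻¹, habx⟩ := by
        apply Subtype.ext
        show a * b * (x : Ω) * (a * b)⁻¹ = a * (b * (x : Ω) * b⁻¹) * a⁻¹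
        group
      rw [h3, hh₁φ _ habx, hh₂φ x hbx]
      group
    | inv a _ iha =>
      obtain ⟨haS, haN, h₁, hh₁, hh₁φ⟩ := iha
      refine ⟨S.inv_mem haS, Subgroup.inv_mem _ haN, h₁⁻¹, S.inv_mem hh₁, fun x hx => ?_⟩
      have h4 : a * ((⟨a⁻¹ * (x : Ω) * a⁻¹⁻¹, hx⟩ : P) : Ω) * a⁻¹ ∈ P := by
        have : a * (a⁻¹ * (x : Ω) * a⁻¹⁻¹) * a⁻¹ = x := by group
        show a * (a⁻¹ * (x : Ω) * a⁻¹⁻¹) * a⁻¹ ∈ P
        rw [this]; exact x.2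
      have h5 := hh₁φ ⟨a⁻¹ * (x : Ω) * a⁻¹⁻¹, hx⟩ h4
      have h6 : (⟨a * ((⟨a⁻¹ * (x : Ω) * a⁻¹⁻¹, hx⟩ : P) : Ω) * a⁻¹, h4⟩ : P) = x := by
        apply Subtype.ext
        show a * (a⁻¹ * (x : Ω) * a⁻¹⁻¹) * a⁻¹ = x
        group
      rw [h6] at h5
      rw [h5]
      group
  · intro h
    exact Subgroup.subset_closure h

end Cfsg.Agent.Lib.Helper9
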