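import Cfsg.Agent.Lib.Helper9.Alperin3

set_option autoImplicit false

namespace Cfsg.Agent.Lib.Helper9

open Cfsg Cfsg.FusionSystem Cfsg.Agent.Lib.Helper7

variable {Ω : Type*} [Group Ω] {S : Subgroup Ω}

theorem fusionSystem_ext {F E : FusionSystem S} (h : ∀ P, F.Hom P = E.Hom P) : F = E := by
  cases F
  cases E
  simp only [FusionSystem.mk.injEq]
  funext P
  exact h P

theorem fusionSystem_le_antisymm {F E : FusionSystem S} (h₁ : F ≤ E) (h₂ : E ≤ F) : F = E :=
  fusionSystem_ext (fun P => Set.Subset.antisymm (h₁ P) (h₂ P))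

theorem alperin [Finite S] (p : ℕ) [Fact p.Prime] (hS : IsPGroup p S)
    (F : FusionSystem S) (hF : F.IsSaturated p) (E : FusionSystem S)
    (hE : ∀ P : Subgroup Ω, (P = S ∨ F.IsEssential p P) → F.autGroup P ≤ E.autGroup P) :
    F ≤ E := by
  intro P φ hφ
  exact alperin_aux p hS F hF E hE _ P (hom_le F hφ) rfl hφ

theorem innerFusionSystem_le (F : FusionSystem S) : innerFusionSystem S ≤ F := by
  rintro P φ ⟨hP, g, hg, hφ⟩
  have : φ = conjHom P g := by
    ext x
    exact hφ x
  rw [this]
  exact F.conj_mem hP hg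

theorem fullyNormalized_top [Finite S] (F : FusionSystem S) : F.IsFullyNormalized S := by
  refine ⟨le_rfl, fun Q _ => ?_⟩
  have := finite_normalizerIn (S := S) S
  apply Subgroup.card_le_of_le
  intro x hx
  exact ⟨hx.1, Subgroup.le_normalizer hx.1⟩

/-- a group with a strongly `p`-embedded subgroup is not a `p`-group -/
theorem not_isPGroup_of_spe {X : Type*} [Group X] [Finite X] {p : ℕ} [Fact p.Prime]
    {M : Subgroup X} (hM : IsStronglyPEmbedded p M) : ¬ IsPGroup p X := by
  intro hX
  obtain ⟨hdvd, hne, T, hT⟩ := hM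
  have hTtop : (T : Subgroup X) = ⊤ := (T.is_maximal' (hX.to_subgroup ⊤) le_top).symm
  rw [kGeneratedCore_one_le_iff _ T.isPGroup'] at hT
  have h1 := hT T le_rfl (T.ne_bot_of_dvd_card hdvd)
  apply hne
  rw [eq_top_iff]
  intro x _
  apply h1
  rw [hTtop]
  exact Subgroup.le_normalizer (Subgroup.mem_top x)

theorem not_essential_of_isPGroup [Finite S] {p : ℕ} [Fact p.Prime] (F : FusionSystem S)
    {P : Subgroup Ω} (h : IsPGroup p (F.autGroup P)) : ¬ F.IsEssential p P := by
  rintro ⟨hc, -, hn, M, hM⟩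
  have hfinP : Finite P := finite_of_le hc.1
  exact not_isPGroup_of_spe hM (h.to_quotient _)

/-- S5083 -/
theorem eq_inner_of_autGroups_pGroups [Finite S] (p : ℕ) [Fact p.Prime] (hS : IsPGroup p S)
    (F : FusionSystem S) (hF : F.IsSaturated p)
    (h : ∀ P : Subgroup Ω, P ≤ S → IsPGroup p (F.autGroup P)) : F = innerFusionSystem S := by
  apply fusionSystem_le_antisymm _ (innerFusionSystem_le F)
  apply alperin p hS F hF
  rintro P (rfl | hess)
  · have hfa := fullyAutomized_of_fullyNormalized hS F hF (fullyNormalized_top F)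
    obtain ⟨-, R, hR⟩ := hfa
    have hfinP : Finite P := finite_of_le le_rfl
    have hRtop : (R : Subgroup (F.autGroup P)) = ⊤ :=
      (R.is_maximal' ((h P le_rfl).to_subgroup ⊤) le_top).symm
    intro α hα
    have h1 : (⟨α, hα⟩ : F.autGroup P) ∈ (R : Subgroup (F.autGroup P)) := by
      rw [hRtop]
      trivial
    rw [hR] at h1
    exact autInducedBy_le_autGroup (innerFusionSystem P) le_rfl (Subgroup.mem_subgroupOf.mp h1)
  · exact absurd hess (not_essential_of_isPGroup F (h P hess.1.1))

end Cfsg.Agent.Lib.Helper9
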