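import Cfsg.Prelude.Def_FusionSystem

set_option autoImplicit false

namespace Cfsg.Agent.Lib.Helper9

open Cfsg Cfsg.FusionSystem

variable {Ω : Type*} [Group Ω] {S : Subgroup Ω}

theorem conjHom_apply (P : Subgroup Ω) (g : Ω) (x : P) : conjHom P g x = g * x * g⁻¹ := rfl

theorem conjHom_one (P : Subgroup Ω) : conjHom P 1 = P.subtype := by
  ext x; simp [conjHom_apply]

theorem subtype_mem (F : FusionSystem S) {P : Subgroup Ω} (hP : P ≤ S) : P.subtype ∈ F.Hom P := by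
  have := F.conj_mem (P := P) hP S.one_mem
  rwa [conjHom_one] at this

theorem restrict_mem (F : FusionSystem S) {P R : Subgroup Ω} {φ : P →* Ω} (hφ : φ ∈ F.Hom P)
    (hRP : R ≤ P) : φ.comp (Subgroup.inclusion hRP) ∈ F.Hom R := by
  have hR : R ≤ S := hRP.trans (F.le_of_mem hφ).1
  have h1 := subtype_mem F hR
  have := F.comp_mem h1 hφ (fun x => hRP x.2)
  exact this

theorem hom_le (F : FusionSystem S) {P : Subgroup Ω} {φ : P →* Ω} (hφ : φ ∈ F.Hom P) : P ≤ S :=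
  (F.le_of_mem hφ).1

theorem hom_mem (F : FusionSystem S) {P : Subgroup Ω} {φ : P →* Ω} (hφ : φ ∈ F.Hom P) (x : P) :
    φ x ∈ S := (F.le_of_mem hφ).2 x

theorem range_le (F : FusionSystem S) {P : Subgroup Ω} {φ : P →* Ω} (hφ : φ ∈ F.Hom P) :
    φ.range ≤ S := by
  rintro _ ⟨x, rfl⟩
  exact hom_mem F hφ x

theorem map_subgroupOf_comp_inclusion {D' D Q : Subgroup Ω} (hle : D' ≤ D) (ψ : D →* Ω) :
    (Q.subgroupOf D').map (ψ.comp (Subgroup.inclusion hle)) ≤ (Q.subgroupOf D).map ψ := by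
  rintro _ ⟨x, hx, rfl⟩
  exact ⟨Subgroup.inclusion hle x, hx, rfl⟩

theorem map_subgroupOf_comp_inclusion_eq {D' D Q : Subgroup Ω} (hle : D' ≤ D) (ψ : D →* Ω)
    (hQ : Q ≤ D') :
    (Q.subgroupOf D').map (ψ.comp (Subgroup.inclusion hle)) = (Q.subgroupOf D).map ψ := by
  apply le_antisymm (map_subgroupOf_comp_inclusion hle ψ)
  rintro _ ⟨x, hx, rfl⟩
  have hx1 : (x : Ω) ∈ Q := hx
  exact ⟨⟨x, hQ hx1⟩, hx1, rfl⟩

theorem map_subgroupOf_sup {D Q₁ Q₂ : Subgroup Ω} (ψ : D →* Ω) (h₁ : Q₁ ≤ D) (h₂ : Q₂ ≤ D) :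
    ((Q₁ ⊔ Q₂).subgroupOf D).map ψ = (Q₁.subgroupOf D).map ψ ⊔ (Q₂.subgroupOf D).map ψ := by
  rw [Subgroup.subgroupOf_sup h₁ h₂, Subgroup.map_sup]

theorem finite_subgroups_le (S : Subgroup Ω) [Finite S] : {Q : Subgroup Ω | Q ≤ S}.Finite := by
  refine Set.Finite.subset (Set.finite_range (fun Q : Subgroup S => Q.map S.subtype)) ?_
  intro Q hQ
  exact ⟨Q.subgroupOf S, Subgroup.map_subgroupOf_eq_of_le hQ⟩

theorem sSup_induction_of_finite (S : Subgroup Ω) [Finite S] (p : Subgroup Ω → Prop)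
    (hle : ∀ Q, p Q → Q ≤ S) (hbot : p ⊥) (hsup : ∀ Q₁ Q₂, p Q₁ → p Q₂ → p (Q₁ ⊔ Q₂)) :
    p (sSup {Q | p Q}) := by
  have hfin : {Q : Subgroup Ω | p Q}.Finite :=
    Set.Finite.subset (finite_subgroups_le S) (fun Q hQ => hle Q hQ)
  have h1 : sSup {Q | p Q} = hfin.toFinset.sup id := by
    rw [Finset.sup_id_eq_sSup, Set.Finite.coe_toFinset]
  rw [h1]
  refine Finset.sup_induction hbot (fun a ha b hb => hsup a b ha hb) ?_
  intro b hb
  exact (Set.Finite.mem_toFinset hfin).mp hb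

end Cfsg.Agent.Lib.Helper9
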