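import Cfsg.Agent.Lib.Helper9.FusionSat2
import Cfsg.Agent.S5078

set_option autoImplicit false

namespace Cfsg.Agent.Lib.Helper9

open Cfsg Cfsg.FusionSystem

variable {Ω : Type*} [Group Ω] {S : Subgroup Ω}

theorem fullyCentralized_of_receptive [Finite S] (F : FusionSystem S) {P : Subgroup Ω}
    (hP : F.IsReceptive P) : F.IsFullyCentralized P := Cfsg.Agent.S5078.result F P hP

/-- if `Q` is conjugate to the fully normalized `P`, a map `N_S(P) → N_S(Q)` is onto -/
theorem map_normalizerIn_surj [Finite S] (F : FusionSystem S) {P Q : Subgroup Ω}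
    {φ : (normalizerIn S P : Subgroup Ω) →* Ω} (hφ : φ ∈ F.Hom (normalizerIn S P))
    (hφN : ∀ x, φ x ∈ normalizerIn S Q)
    (hcard : Nat.card (normalizerIn S Q) ≤ Nat.card (normalizerIn S P))
    (d : Ω) (hd : d ∈ normalizerIn S Q) : ∃ n : normalizerIn S P, φ n = d := by
  let f : normalizerIn S P → normalizerIn S Q := fun n => ⟨φ n, hφN n⟩
  have hf : Function.Injective f := by
    intro a b hab
    exact F.injective_of_mem hφ (congrArg (fun z : normalizerIn S Q => (z : Ω)) hab)
  have := finite_normalizerIn (S := S) Q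
  have hbij := hf.bijective_of_nat_card_le hcard
  obtain ⟨n, hn⟩ := hbij.2 ⟨d, hd⟩
  exact ⟨n, congrArg (fun z : normalizerIn S Q => (z : Ω)) hn⟩

/-- In a saturated system, fully normalized subgroups are fully centralized. -/
theorem fullyCentralized_of_fullyNormalized [Finite S] {p : ℕ} [Fact p.Prime] (hS : IsPGroup p S)
    (F : FusionSystem S) (hF : F.IsSaturated p) {P : Subgroup Ω} (hP : F.IsFullyNormalized P) :
    F.IsFullyCentralized P := by
  obtain ⟨hPS, hPn⟩ := hP
  obtain ⟨Q, hPQ, hQa, hQr⟩ := hF P hPS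
  obtain ⟨φ, hφ, hφN, hφPQ⟩ := exists_normalizer_hom hS F Q P hQa hQr hPQ
  have hcard := hPn Q hPQ
  have hQc := fullyCentralized_of_receptive F hQr
  -- C_S(Q) has order at most that of C_S(P)
  have hcc : Nat.card (centralizerIn S Q) ≤ Nat.card (centralizerIn S P) := by
    let f : centralizerIn S P → centralizerIn S Q :=
      fun c => ⟨φ ⟨c, centralizerIn_le_normalizerIn S P c.2⟩,
        map_centralizerIn_mem F hPS hφ hφPQ c c.2⟩
    have hf : Function.Surjective f := by
      rintro ⟨d, hd⟩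
      obtain ⟨n, hn⟩ := map_normalizerIn_surj F hφ hφN hcard d
        (centralizerIn_le_normalizerIn S Q hd)
      have hnc : (n : Ω) ∈ centralizerIn S P := by
        refine ⟨n.2.1, ?_⟩
        show (n : Ω) ∈ Subgroup.centralizer (P : Set Ω)
        rw [Subgroup.mem_centralizer_iff]
        intro x hx
        have hxN : x ∈ normalizerIn S P := self_le_normalizerIn' hPS hx
        have h1 : φ (⟨x, hxN⟩ * n) = φ (n * ⟨x, hxN⟩) := by
          rw [map_mul, map_mul, hn]
          have hy : φ ⟨x, hxN⟩ ∈ Q := hφPQ.le ⟨⟨x, hxN⟩, hx, rfl⟩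
          exact hd.2 _ hy
        have h2 := F.injective_of_mem hφ h1
        exact congrArg (fun z : normalizerIn S P => (z : Ω)) h2
      refine ⟨⟨n, hnc⟩, ?_⟩
      apply Subtype.ext
      exact hn
    have := finite_centralizerIn (S := S) P
    exact Nat.card_le_card_of_surjective f hf
  refine ⟨hPS, ?_⟩
  intro P' hPP'
  have h1 : F.IsConj Q P' := isConj_trans F (isConj_symm F hPQ) hPP'
  exact (hQc.2 P' h1).trans hcc

/-- In a saturated system, fully normalized subgroups are fully automized. -/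
theorem fullyAutomized_of_fullyNormalized [Finite S] {p : ℕ} [Fact p.Prime] (hS : IsPGroup p S)
    (F : FusionSystem S) (hF : F.IsSaturated p) {P : Subgroup Ω} (hP : F.IsFullyNormalized P) :
    F.IsFullyAutomized p P := by
  obtain ⟨hPS, hPn⟩ := hP
  obtain ⟨Q, hPQ, hQa, hQr⟩ := hF P hPS
  obtain ⟨φ, hφ, hφN, hφPQ⟩ := exists_normalizer_hom hS F Q P hQa hQr hPQ
  have hcard := hPn Q hPQ
  obtain ⟨hQS, RQ, hRQ⟩ := hQa
  have hPN : P ≤ normalizerIn S P := self_le_normalizerIn' hPS
  have hfinP : Finite P := finite_of_le hPS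
  have hfinQ : Finite Q := finite_of_le hQS
  refine ⟨hPS, ?_⟩
  have hψ : φ.comp (Subgroup.inclusion hPN) ∈ F.Hom P := restrict_mem F hφ hPN
  have hψr : (φ.comp (Subgroup.inclusion hPN)).range = Q := by
    apply le_antisymm
    · rintro _ ⟨x, rfl⟩
      exact hφPQ.le ⟨_, x.2, rfl⟩
    · intro y hy
      obtain ⟨z, hz, rfl⟩ := hφPQ.ge hy
      exact ⟨⟨z, hz⟩, rfl⟩
  set e := equivOfRange (φ.comp (Subgroup.inclusion hPN)) (F.injective_of_mem hψ) hψr with he
  apply sylowIn_of_card_le (autInducedBy_le_autGroup F hPS) (isPGroup_autInducedBy hS P)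
  intro U _ hUH hU
  have h1 : U.map (MulAut.congr e).toMonoidHom ≤ F.autGroup Q := by
    rintro _ ⟨α, hα, rfl⟩
    exact congr_mem_autGroup F hψ hψr (hUH hα)
  have h2 : Nat.card (U.map (MulAut.congr e).toMonoidHom) ≤ Nat.card (autInducedBy S Q) :=
    card_le_of_sylowIn (autInducedBy_le_autGroup F hQS) RQ hRQ h1 (hU.map _)
  have h3 : Nat.card (U.map (MulAut.congr e).toMonoidHom) = Nat.card U :=
    Subgroup.card_map_of_injective (MulAut.congr e).injective
  have h4 : autInducedBy S Q ≤ (autInducedBy S P).map (MulAut.congr e).toMonoidHom := by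
    intro α hα
    obtain ⟨m, hmS, hm⟩ := (mem_autInducedBy_iff S Q α).mp hα
    have hmN := mem_normalizer_of_induces α hm
    obtain ⟨n, hn⟩ := map_normalizerIn_surj F hφ hφN hcard m ⟨hmS, hmN⟩
    have hnN : (n : Ω) ∈ Subgroup.normalizer (P : Set Ω) := (mem_normalizerIn.mp n.2).2
    have hnS : (n : Ω) ∈ S := (mem_normalizerIn.mp n.2).1
    refine ⟨conjAut P ⟨n, hnN⟩, ?_, ?_⟩
    · show conjAut P ⟨n, hnN⟩ ∈ autInducedBy S P
      rw [mem_autInducedBy_iff]
      exact ⟨n, hnS, fun x => rfl⟩
    · ext y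
      rw [hm y]
      show ((e ((conjAut P ⟨n, hnN⟩) (e.symm y)) : Q) : Ω) = _
      rw [he, equivOfRange_apply]
      have h5 : (Subgroup.inclusion hPN) ((conjAut P ⟨n, hnN⟩) (e.symm y)) =
          n * (Subgroup.inclusion hPN (e.symm y)) * n⁻¹ := by
        apply Subtype.ext
        rfl
      show φ ((Subgroup.inclusion hPN) ((conjAut P ⟨n, hnN⟩) (e.symm y))) = _
      rw [h5, map_mul, map_mul, map_inv, hn]
      have h6 : φ (Subgroup.inclusion hPN (e.symm y)) = y :=
        equivOfRange_symm_apply (φ.comp (Subgroup.inclusion hPN)) (F.injective_of_mem hψ) hψr y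
      rw [h6]
  have h5 : Nat.card (autInducedBy S Q) ≤ Nat.card (autInducedBy S P) := by
    calc Nat.card (autInducedBy S Q)
        ≤ Nat.card ((autInducedBy S P).map (MulAut.congr e).toMonoidHom) :=
          Subgroup.card_le_of_le h4
      _ = Nat.card (autInducedBy S P) :=
          Subgroup.card_map_of_injective (MulAut.congr e).injective
  omega

/-- Saturation is equivalent to the Sylow axiom plus the extension axiom. -/
theorem saturated_iff_sylow_extension [Finite S] {p : ℕ} [Fact p.Prime] (hS : IsPGroup p S)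
    (F : FusionSystem S) :
    F.IsSaturated p ↔
      ((∀ P : Subgroup Ω, F.IsFullyNormalized P → F.IsFullyCentralized P ∧ F.IsFullyAutomized p P) ∧
        (∀ P : Subgroup Ω, F.IsFullyCentralized P → F.IsReceptive P)) := by
  constructor
  · intro hF
    exact ⟨fun P hP => ⟨fullyCentralized_of_fullyNormalized hS F hF hP,
      fullyAutomized_of_fullyNormalized hS F hF hP⟩,
      fun P hP => receptive_of_fullyCentralized hS F hF hP⟩
  · rintro ⟨h1, h2⟩ P hP
    obtain ⟨Q, hPQ, hQn⟩ := exists_isConj_fullyNormalized F hP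
    obtain ⟨hQc, hQa⟩ := h1 Q hQn
    exact ⟨Q, hPQ, hQa, h2 Q hQc⟩

end Cfsg.Agent.Lib.Helper9
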