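import Cfsg.Agent.Lib.Helper9.SpeQuotient
import Cfsg.Agent.Lib.Helper9.FusionSat4
import Cfsg.Agent.Lib.Helper9.FusionSat3

set_option autoImplicit false

namespace Cfsg.Agent.Lib.Helper9

open Cfsg Cfsg.FusionSystem

variable {Ω : Type*} [Group Ω] {S : Subgroup Ω}

/-- normalizers grow in a finite `p`-group -/
theorem exists_mem_normalizerIn_not_mem [Finite S] {p : ℕ} [Fact p.Prime] (hS : IsPGroup p S)
    {P : Subgroup Ω} (hPS : P < S) : ∃ g ∈ normalizerIn S P, g ∉ P := by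
  have hnil : Group.IsNilpotent S := hS.isNilpotent
  have hnc : NormalizerCondition S := Group.normalizerCondition_of_isNilpotent
  have hlt : P.subgroupOf S < ⊤ := by
    rw [lt_top_iff_ne_top]
    intro h
    rw [Subgroup.subgroupOf_eq_top] at h
    exact absurd h (not_le_of_gt hPS)
  have h1 := hnc _ hlt
  obtain ⟨g, hgN, hgP⟩ := SetLike.exists_of_lt h1
  rw [← Subgroup.subgroupOf_normalizer_eq hPS.le] at hgN
  exact ⟨g, ⟨g.2, hgN⟩, hgP⟩

/-- the automorphisms of `P` that extend to a map of the system on a strictly larger subgroup -/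
def extGen (F : FusionSystem S) (P : Subgroup Ω) : Set (MulAut P) :=
  {α : MulAut P | ∃ (Q : Subgroup Ω) (hPQ : P < Q) (φ : Q →* Ω), φ ∈ F.Hom Q ∧
    ∀ x : P, φ (Subgroup.inclusion hPQ.le x) = α x}

theorem extGen_subset_autGroup (F : FusionSystem S) (P : Subgroup Ω) {α : MulAut P}
    (hα : α ∈ extGen F P) : α ∈ F.autGroup P := by
  obtain ⟨Q, hPQ, φ, hφ, hφα⟩ := hα
  have hPS : P ≤ S := hPQ.le.trans (hom_le F hφ)
  rw [mem_autGroup_iff F hPS]
  have h1 := restrict_mem F hφ hPQ.le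
  have h2 : φ.comp (Subgroup.inclusion hPQ.le) = P.subtype.comp α.toMonoidHom := by
    ext x
    exact hφα x
  rw [← h2]
  exact h1

theorem mem_extGen_of_extender (F : FusionSystem S) {P : Subgroup Ω} (hPS : P ≤ S)
    (hrec : F.IsReceptive P) {α : MulAut P} (hα : α ∈ F.autGroup P) {g : Ω}
    (hg : g ∈ extender S P (P.subtype.comp α.toMonoidHom)) (hgP : g ∉ P) : α ∈ extGen F P := by
  have hω := hom_of_mem_autGroup F hPS hα
  set ω := P.subtype.comp α.toMonoidHom with hωdef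
  have hωr : ω.range = P := by
    apply le_antisymm
    · rintro _ ⟨x, rfl⟩
      exact (α x).2
    · intro y hy
      exact ⟨α.symm ⟨y, hy⟩, by simp [hωdef]⟩
  obtain ⟨ψ, hψ, hψω⟩ := hrec.2 P ω hω hωr
  have hle : P ≤ extender S P ω := le_extender hPS ω (fun x => hom_mem F hω x)
  have hlt : P < extender S P ω := lt_of_le_of_ne hle (fun h => hgP (h ▸ hg))
  exact ⟨extender S P ω, hlt, ψ, hψ, fun x => hψω x x.2 _⟩

theorem mem_extender_of_conj {P : Subgroup Ω} (α : MulAut P) {g h : Ω}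
    (hg : g ∈ normalizerIn S P) (hh : h ∈ S)
    (hgh : ∀ (x : P) (hx : g * (x : Ω) * g⁻¹ ∈ P),
      ((α ⟨g * x * g⁻¹, hx⟩ : P) : Ω) = h * (α x : P) * h⁻¹) :
    g ∈ extender S P (P.subtype.comp α.toMonoidHom) := by
  apply Subgroup.subset_closure
  exact ⟨hg.1, hg.2, h, hh, fun x hx => hgh x hx⟩

/-- non-centric case: every automorphism extends -/
theorem autGroup_subset_extGen_of_not_centric [Finite S] {p : ℕ} [Fact p.Prime]
    (hS : IsPGroup p S) (F : FusionSystem S) (hF : F.IsSaturated p) {P : Subgroup Ω}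
    (hPn : F.IsFullyNormalized P) (hc : ¬ F.IsCentric P) {α : MulAut P}
    (hα : α ∈ F.autGroup P) : α ∈ extGen F P := by
  have hfc := fullyCentralized_of_fullyNormalized hS F hF hPn
  have hrec := receptive_of_fullyCentralized hS F hF hfc
  have hnle : ¬ centralizerIn S P ≤ P := fun h => hc (centric_of_fullyCentralized hS F hF hfc h)
  obtain ⟨c, hc, hcP⟩ := SetLike.not_le_iff_exists.mp hnle
  exact mem_extGen_of_extender F hPn.1 hrec hα (centralizerIn_le_extender P _ hc) hcP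

theorem inn_le_autInducedBy {P : Subgroup Ω} (hPS : P ≤ S) : Inn P ≤ autInducedBy S P := by
  rintro _ ⟨y, rfl⟩
  rw [mem_autInducedBy_iff]
  exact ⟨y, hPS y.2, fun x => rfl⟩

/-- for centric `P`, elements of `N_S(P)` outside `P` induce non-inner automorphisms -/
theorem not_mem_inn_of_not_mem {P : Subgroup Ω} (hC : centralizerIn S P ≤ P) {g : Ω}
    (hgS : g ∈ S) (hgP : g ∉ P) (hPS : P ≤ S) {t : MulAut P}
    (ht : ∀ x : P, ((t x : P) : Ω) = g * x * g⁻¹) : t ∉ Inn P := by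
  rintro ⟨y, hy⟩
  apply hgP
  have h1 : (y : Ω)⁻¹ * g ∈ centralizerIn S P := by
    refine ⟨S.mul_mem (S.inv_mem (hPS y.2)) hgS, ?_⟩
    show _ ∈ Subgroup.centralizer (P : Set Ω)
    rw [Subgroup.mem_centralizer_iff]
    intro x hx
    have h2 := ht ⟨x, hx⟩
    rw [← hy] at h2
    have h3 : (y : Ω) * x * (y : Ω)⁻¹ = g * x * g⁻¹ := h2
    calc x * ((y : Ω)⁻¹ * g) = (y : Ω)⁻¹ * ((y : Ω) * x * (y : Ω)⁻¹) * g := by group
      _ = (y : Ω)⁻¹ * (g * x * g⁻¹) * g := by rw [h3]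
      _ = (y : Ω)⁻¹ * g * x := by group
  have h4 : (y : Ω) * ((y : Ω)⁻¹ * g) ∈ P := P.mul_mem y.2 (hC h1)
  simpa using h4

/-- centric case, one inclusion -/
theorem mem_extGen_of_conj_mem (F : FusionSystem S) {P : Subgroup Ω} (hPS : P ≤ S)
    (hrec : F.IsReceptive P) {α t : MulAut P} (hα : α ∈ F.autGroup P)
    (ht : t ∈ autInducedBy S P) (htI : t ∉ Inn P) (hαt : α * t * α⁻¹ ∈ autInducedBy S P) :
    α ∈ extGen F P := by
  obtain ⟨g, hgS, hg⟩ := (mem_autInducedBy_iff S P t).mp ht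
  obtain ⟨h, hhS, hh⟩ := (mem_autInducedBy_iff S P _).mp hαt
  have hgN : g ∈ Subgroup.normalizer (P : Set Ω) := mem_normalizer_of_induces t hg
  have hgP : g ∉ P := by
    intro hgP
    apply htI
    refine ⟨⟨g, hgP⟩, ?_⟩
    ext x
    rw [hg]
    rfl
  apply mem_extGen_of_extender F hPS hrec hα _ hgP
  apply mem_extender_of_conj α ⟨hgS, hgN⟩ hhS
  intro x hx
  have h1 := hh (α x)
  rw [← h1]
  show _ = ((α (t (α⁻¹ (α x))) : P) : Ω)
  rw [MulAut.inv_apply_self]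
  congr 2
  apply Subtype.ext
  rw [hg]

/-- centric case, the other inclusion -/
theorem exists_conj_mem_of_mem_extGen [Finite S] {p : ℕ} [Fact p.Prime] (hS : IsPGroup p S)
    (F : FusionSystem S) {P : Subgroup Ω} (hC : centralizerIn S P ≤ P) {α : MulAut P}
    (hα : α ∈ extGen F P) :
    ∃ t ∈ autInducedBy S P, t ∉ Inn P ∧ α * t * α⁻¹ ∈ autInducedBy S P := by
  obtain ⟨Q, hPQ, φ, hφ, hφα⟩ := hα
  have hQS : Q ≤ S := hom_le F hφ
  have hPS : P ≤ S := hPQ.le.trans hQS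
  have hfinQ : Finite Q := finite_of_le hQS
  obtain ⟨g, hgN, hgP⟩ := exists_mem_normalizerIn_not_mem (isPGroup_of_le hS hQS) hPQ
  have hgQ : g ∈ Q := hgN.1
  have hgS : g ∈ S := hQS hgQ
  refine ⟨conjAut P ⟨g, hgN.2⟩, ?_, ?_, ?_⟩
  · rw [mem_autInducedBy_iff]
    exact ⟨g, hgS, fun x => rfl⟩
  · exact not_mem_inn_of_not_mem hC hgS hgP hPS (fun x => rfl)
  · rw [mem_autInducedBy_iff]
    refine ⟨φ ⟨g, hgQ⟩, hom_mem F hφ _, ?_⟩
    intro y
    show ((α (conjAut P ⟨g, hgN.2⟩ (α⁻¹ y)) : P) : Ω) = _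
    rw [← hφα]
    have h1 : (Subgroup.inclusion hPQ.le (conjAut P ⟨g, hgN.2⟩ (α⁻¹ y)) : Q) =
        ⟨g, hgQ⟩ * Subgroup.inclusion hPQ.le (α⁻¹ y) * ⟨g, hgQ⟩⁻¹ := by
      apply Subtype.ext
      rfl
    rw [h1, map_mul, map_mul, map_inv, hφα, MulAut.apply_inv_self]

end Cfsg.Agent.Lib.Helper9
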