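import Cfsg.Agent.Lib.Helper9.Alperin2

set_option autoImplicit false

namespace Cfsg.Agent.Lib.Helper9

open Cfsg Cfsg.FusionSystem

variable {Ω : Type*} [Group Ω] {S : Subgroup Ω}

theorem card_eq_of_isConj (F : FusionSystem S) {P Q : Subgroup Ω} (h : F.IsConj P Q) :
    Nat.card P = Nat.card Q := by
  obtain ⟨φ, hφ, hr⟩ := h
  exact Nat.card_congr (equivOfRange φ (F.injective_of_mem hφ) hr).toEquiv

theorem card_lt_of_lt' {P Q : Subgroup Ω} [Finite Q] (h : P < Q) : Nat.card P < Nat.card Q := by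
  have hle : Nat.card P ≤ Nat.card Q := Subgroup.card_le_of_le h.le
  rcases hle.lt_or_eq with h1 | h1
  · exact h1
  · exact absurd (Subgroup.eq_of_le_of_card_ge h.le h1.ge) h.ne

theorem lt_of_card_lt' {P Q : Subgroup Ω} (hle : P ≤ Q) (h : Nat.card P < Nat.card Q) : P < Q := by
  refine lt_of_le_of_ne hle ?_
  rintro rfl
  exact lt_irrefl _ h

theorem range_comp_inclusion {P N : Subgroup Ω} (h : P ≤ N) (ψ : N →* Ω) :
    (ψ.comp (Subgroup.inclusion h)).range = (P.subgroupOf N).map ψ := by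
  ext y
  constructor
  · rintro ⟨x, rfl⟩
    exact ⟨Subgroup.inclusion h x, x.2, rfl⟩
  · rintro ⟨x, hx, rfl⟩
    exact ⟨⟨x, hx⟩, rfl⟩

/-- factorization through a common conjugate whose automorphism groups are comparable -/
theorem hom_of_factor (F E : FusionSystem S) {P P' Q : Subgroup Ω} {φ : P →* Ω}
    (hφ : φ ∈ F.Hom P) (hφr : φ.range = P')
    {χ : P →* Ω} (hχF : χ ∈ F.Hom P) (hχE : χ ∈ E.Hom P) (hχr : χ.range = Q)
    {χ' : P' →* Ω} (hχ'F : χ' ∈ F.Hom P') (hχ'E : χ' ∈ E.Hom P') (hχ'r : χ'.range = Q)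
    (hAut : F.autGroup Q ≤ E.autGroup Q) : φ ∈ E.Hom P := by
  have hQS : Q ≤ S := hχr ▸ range_le F hχF
  obtain ⟨θ, hθ, hθχ, hθr, hχθ⟩ := inv_hom F hχF hχr
  have h1 : ∀ y : Q, θ y ∈ P := fun y => hθr.le ⟨y, rfl⟩
  obtain ⟨ω₁, hω₁, hω₁e⟩ := comp_hom F hθ hφ h1
  have h2 : ∀ y : Q, ω₁ y ∈ P' := fun y => by rw [hω₁e]; exact hφr.le ⟨_, rfl⟩
  obtain ⟨ω₂, hω₂, hω₂e⟩ := comp_hom F hω₁ hχ'F h2
  have hχQ : ∀ x : P, χ x ∈ Q := fun x => hχr.le ⟨x, rfl⟩
  have hφP' : ∀ x : P, φ x ∈ P' := fun x => hφr.le ⟨x, rfl⟩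
  have hkey : ∀ x : P, ω₂ ⟨χ x, hχQ x⟩ = χ' ⟨φ x, hφP' x⟩ := by
    intro x
    rw [hω₂e]
    congr 1
    apply Subtype.ext
    show ω₁ ⟨χ x, hχQ x⟩ = φ x
    rw [hω₁e]
    congr 1
    apply Subtype.ext
    exact hθχ x (hχQ x)
  have hω₂r : ω₂.range = Q := by
    apply le_antisymm
    · rintro _ ⟨y, rfl⟩
      rw [hω₂e]
      exact hχ'r.le ⟨_, rfl⟩
    · intro y hy
      obtain ⟨z, rfl⟩ := hχ'r.ge hy
      obtain ⟨x, hx⟩ := hφr.ge z.2
      refine ⟨⟨χ x, hχQ x⟩, ?_⟩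
      rw [hkey]
      congr 1
      exact Subtype.ext hx
  obtain ⟨α, hα, hαω⟩ := exists_aut_of_hom F hω₂ hω₂r
  have hαE : α ∈ E.autGroup Q := hAut hα
  have hαhom := hom_of_mem_autGroup E hQS hαE
  obtain ⟨θ', hθ', hθ'χ, -, -⟩ := inv_hom E hχ'E hχ'r
  obtain ⟨β₁, hβ₁, hβ₁e⟩ := comp_hom E hχE hαhom hχQ
  have h3 : ∀ x : P, β₁ x ∈ Q := fun x => by rw [hβ₁e]; exact (α _).2
  obtain ⟨β₂, hβ₂, hβ₂e⟩ := comp_hom E hβ₁ hθ' h3
  have hχ'Q : ∀ z : P', χ' z ∈ Q := fun z => hχ'r.le ⟨z, rfl⟩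
  have : β₂ = φ := by
    ext x
    rw [hβ₂e]
    have h4 : (⟨β₁ x, h3 x⟩ : Q) = ⟨χ' ⟨φ x, hφP' x⟩, hχ'Q _⟩ := by
      apply Subtype.ext
      show β₁ x = χ' ⟨φ x, hφP' x⟩
      rw [hβ₁e, ← hkey, ← hαω]
      rfl
    rw [h4, hθ'χ]
  rw [← this]
  exact hβ₂

theorem autGroup_le_of_not_essential [Finite S] {p : ℕ} [Fact p.Prime] (hS : IsPGroup p S)
    (F : FusionSystem S) (hF : F.IsSaturated p) (E : FusionSystem S) {Q : Subgroup Ω}
    (hQS : Q < S) (hQn : F.IsFullyNormalized Q) (hne : ¬ F.IsEssential p Q)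
    (hIH : ∀ Q₁ : Subgroup Ω, Q < Q₁ → F.Hom Q₁ ⊆ E.Hom Q₁) :
    F.autGroup Q ≤ E.autGroup Q := by
  obtain h | h := extendable_dichotomy p hS F hF Q hQS hQn _ rfl
  · rw [← h.2, Subgroup.closure_le]
    rintro α ⟨Q₁, hlt, φ, hφ, hφα⟩
    have hφE := hIH Q₁ hlt hφ
    show α ∈ E.autGroup Q
    rw [mem_autGroup_iff E hQS.le]
    have h1 := restrict_mem E hφE hlt.le
    have h2 : φ.comp (Subgroup.inclusion hlt.le) = Q.subtype.comp α.toMonoidHom := by
      ext x
      exact hφα x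
    rw [← h2]
    exact h1
  · exact absurd h.1 hne

/-- Alperin--Goldschmidt fusion theorem (S5082), by induction on the index. -/
theorem alperin_aux [Finite S] (p : ℕ) [Fact p.Prime] (hS : IsPGroup p S)
    (F : FusionSystem S) (hF : F.IsSaturated p) (E : FusionSystem S)
    (hE : ∀ P : Subgroup Ω, (P = S ∨ F.IsEssential p P) → F.autGroup P ≤ E.autGroup P) :
    ∀ (n : ℕ) (P : Subgroup Ω), P ≤ S → Nat.card S - Nat.card P = n → F.Hom P ⊆ E.Hom P := by
  intro n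
  induction n using Nat.strong_induction_on with
  | _ n ih =>
    intro P hPS hn φ hφ
    have hIH : ∀ P₁ : Subgroup Ω, P₁ ≤ S → Nat.card P < Nat.card P₁ → F.Hom P₁ ⊆ E.Hom P₁ := by
      intro P₁ hP₁ hlt
      have hle : Nat.card P₁ ≤ Nat.card S := Subgroup.card_le_of_le hP₁
      exact ih (Nat.card S - Nat.card P₁) (by omega) P₁ hP₁ rfl
    by_cases hPeq : P = S
    · subst hPeq
      have hr : φ.range = P := by
        apply Subgroup.eq_of_le_of_card_ge (range_le F hφ)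
        exact (Nat.card_congr (MonoidHom.ofInjective (F.injective_of_mem hφ)).toEquiv).le
      obtain ⟨α, hα, hαφ⟩ := exists_aut_of_hom F hφ hr
      have hαE := hE P (Or.inl rfl) hα
      have h1 := hom_of_mem_autGroup E le_rfl hαE
      have h2 : P.subtype.comp α.toMonoidHom = φ := by
        ext x
        exact hαφ x
      rw [← h2]
      exact h1
    · have hlt : P < S := lt_of_le_of_ne hPS hPeq
      obtain ⟨Q, hPQ, hQn⟩ := exists_isConj_fullyNormalized F hPS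
      have hQa := fullyAutomized_of_fullyNormalized hS F hF hQn
      have hQr := receptive_of_fullyCentralized hS F hF
        (fullyCentralized_of_fullyNormalized hS F hF hQn)
      have hPP' : F.IsConj P φ.range := ⟨φ, hφ, rfl⟩
      have hP'Q : F.IsConj φ.range Q := isConj_trans F (isConj_symm F hPP') hPQ
      have hP'S : φ.range ≤ S := range_le F hφ
      obtain ⟨χ, hχ, -, hχQ⟩ := exists_normalizer_hom hS F Q P hQa hQr hPQ
      obtain ⟨χ', hχ', -, hχ'Q⟩ := exists_normalizer_hom hS F Q φ.range hQa hQr hP'Q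
      have hcP' : Nat.card φ.range = Nat.card P := (card_eq_of_isConj F hPP').symm
      have hcQ : Nat.card Q = Nat.card P := (card_eq_of_isConj F hPQ).symm
      have hcS : Nat.card P < Nat.card S := card_lt_of_lt' hlt
      have hP'lt : φ.range < S := lt_of_card_lt' hP'S (hcP' ▸ hcS)
      have hQlt : Q < S := lt_of_card_lt' hQn.1 (hcQ ▸ hcS)
      have hN : ∀ R : Subgroup Ω, R < S → Nat.card R < Nat.card (normalizerIn S R) := by
        intro R hR
        have := finite_normalizerIn (S := S) R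
        obtain ⟨g, hg, hgR⟩ := exists_mem_normalizerIn_not_mem hS hR
        apply card_lt_of_lt'
        exact lt_of_le_of_ne (self_le_normalizerIn' hR.le) (fun h => hgR (h ▸ hg))
      have hχE : χ ∈ E.Hom (normalizerIn S P) := hIH _ inf_le_left (hN P hlt) hχ
      have hχ'E : χ' ∈ E.Hom (normalizerIn S φ.range) :=
        hIH _ inf_le_left (hcP' ▸ hN φ.range hP'lt) hχ'
      have hPN : P ≤ normalizerIn S P := self_le_normalizerIn' hPS
      have hP'N : φ.range ≤ normalizerIn S φ.range := self_le_normalizerIn' hP'S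
      have hAut : F.autGroup Q ≤ E.autGroup Q := by
        by_cases hess : F.IsEssential p Q
        · exact hE Q (Or.inr hess)
        · apply autGroup_le_of_not_essential hS F hF E hQlt hQn hess
          intro Q₁ hQ₁ φ₁ hφ₁
          have hQ₁S := hom_le F hφ₁
          have : Finite Q₁ := finite_of_le hQ₁S
          exact hIH Q₁ hQ₁S (hcQ ▸ card_lt_of_lt' hQ₁) hφ₁
      exact hom_of_factor F E hφ rfl (restrict_mem F hχ hPN) (restrict_mem E hχE hPN)
        ((range_comp_inclusion hPN χ).trans hχQ)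
        (restrict_mem F hχ' hP'N) (restrict_mem E hχ'E hP'N)
        ((range_comp_inclusion hP'N χ').trans hχ'Q) hAut

end Cfsg.Agent.Lib.Helper9
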