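import Cfsg.Agent.Lib.Helper9.StronglyEmbedded

set_option autoImplicit false

namespace Cfsg.Agent.Lib.Helper9

open Cfsg

variable {P : Type*} [Group P]

/-- the automorphisms in `A` stabilizing the ascending chain `e` (acting trivially on each factor) -/
def stabChain (A : Subgroup (MulAut P)) (e : ℕ → Subgroup P)
    (hinv : ∀ α ∈ A, ∀ j, ∀ x ∈ e j, α x ∈ e j) : Subgroup (MulAut P) where
  carrier := {α | α ∈ A ∧ ∀ j, ∀ x ∈ e (j + 1), x⁻¹ * α x ∈ e j}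
  one_mem' := ⟨A.one_mem, fun j x _ => by simp⟩
  mul_mem' := by
    rintro α β ⟨hαA, hα⟩ ⟨hβA, hβ⟩
    refine ⟨A.mul_mem hαA hβA, fun j x hx => ?_⟩
    have h1 : x⁻¹ * β x ∈ e j := hβ j x hx
    have h2 : α (x⁻¹ * β x) ∈ e j := hinv α hαA j _ h1
    have h3 : x⁻¹ * α x ∈ e j := hα j x hx
    have h4 : x⁻¹ * (α * β) x = (x⁻¹ * α x) * α (x⁻¹ * β x) := by
      show x⁻¹ * α (β x) = _
      rw [map_mul, map_inv]
      group
    rw [h4]
    exact (e j).mul_mem h3 h2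
  inv_mem' := by
    rintro α ⟨hαA, hα⟩
    refine ⟨A.inv_mem hαA, fun j x hx => ?_⟩
    have hz : α⁻¹ x ∈ e (j + 1) := hinv α⁻¹ (A.inv_mem hαA) (j + 1) x hx
    have hw := hα j _ hz
    rw [MulAut.apply_inv_self] at hw
    have h4 : x⁻¹ * α⁻¹ x = ((α⁻¹ x)⁻¹ * x)⁻¹ := by group
    rw [h4]
    exact (e j).inv_mem hw

theorem mem_stabChain {A : Subgroup (MulAut P)} {e : ℕ → Subgroup P}
    {hinv : ∀ α ∈ A, ∀ j, ∀ x ∈ e j, α x ∈ e j} {α : MulAut P} :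
    α ∈ stabChain A e hinv ↔ α ∈ A ∧ ∀ j, ∀ x ∈ e (j + 1), x⁻¹ * α x ∈ e j := Iff.rfl

theorem stabChain_le (A : Subgroup (MulAut P)) (e : ℕ → Subgroup P)
    (hinv : ∀ α ∈ A, ∀ j, ∀ x ∈ e j, α x ∈ e j) : stabChain A e hinv ≤ A := fun _ h => h.1

theorem stabChain_normal (A : Subgroup (MulAut P)) (e : ℕ → Subgroup P)
    (hinv : ∀ α ∈ A, ∀ j, ∀ x ∈ e j, α x ∈ e j) :
    ((stabChain A e hinv).subgroupOf A).Normal := by
  refine ⟨fun α hα γ => ?_⟩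
  obtain ⟨hαA, hα⟩ := (hα : (α : MulAut P) ∈ stabChain A e hinv)
  show ((γ : MulAut P) * α * (γ : MulAut P)⁻¹) ∈ stabChain A e hinv
  refine ⟨A.mul_mem (A.mul_mem γ.2 hαA) (A.inv_mem γ.2), fun j x hx => ?_⟩
  have hz : (γ : MulAut P)⁻¹ x ∈ e (j + 1) := hinv _ (A.inv_mem γ.2) (j + 1) x hx
  have hw := hα j _ hz
  have h1 := hinv γ γ.2 j _ hw
  have h2 : x⁻¹ * ((γ : MulAut P) * α * (γ : MulAut P)⁻¹) x =
      (γ : MulAut P) (((γ : MulAut P)⁻¹ x)⁻¹ * (α : MulAut P) ((γ : MulAut P)⁻¹ x)) := by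
    show x⁻¹ * (γ : MulAut P) ((α : MulAut P) ((γ : MulAut P)⁻¹ x)) = _
    rw [map_mul, map_inv, MulAut.apply_inv_self]
  rw [h2]
  exact h1

theorem stabChain_isPGroup [Finite P] {p : ℕ} [Fact p.Prime] (hP : IsPGroup p P)
    (A : Subgroup (MulAut P)) (e : ℕ → Subgroup P)
    (hinv : ∀ α ∈ A, ∀ j, ∀ x ∈ e j, α x ∈ e j) (h0 : e 0 = ⊥) (m : ℕ) (hm : e m = ⊤) :
    IsPGroup p (stabChain A e hinv) := by
  obtain ⟨k, hk⟩ := IsPGroup.iff_card.mp hP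
  have key : ∀ j : ℕ, ∀ α ∈ stabChain A e hinv, ∀ x ∈ e j, (α ^ (Nat.card P ^ j)) x = x := by
    intro j
    induction j with
    | zero =>
      intro α _ x hx
      rw [h0, Subgroup.mem_bot] at hx
      rw [hx, map_one]
    | succ j ih =>
      intro α hα x hx
      set β := α ^ (Nat.card P ^ j) with hβ
      have hβmem : β ∈ stabChain A e hinv := Subgroup.pow_mem _ hα _
      have hy : x⁻¹ * β x ∈ e j := hβmem.2 j x hx
      have hβy : β (x⁻¹ * β x) = x⁻¹ * β x := ih α hα _ hy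
      have hpow : ∀ r : ℕ, (β ^ r) x = x * (x⁻¹ * β x) ^ r := by
        intro r
        induction r with
        | zero => simp
        | succ r ihr =>
          rw [pow_succ', MulAut.mul_apply, ihr, map_mul, map_pow, hβy, pow_succ', ← mul_assoc,
            mul_inv_cancel_left]
      have h1 : α ^ (Nat.card P ^ (j + 1)) = β ^ Nat.card P := by
        rw [hβ, ← pow_mul, pow_succ]
      rw [h1, hpow, pow_card_eq_one', mul_one]
  intro α
  refine ⟨k * m, ?_⟩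
  apply Subtype.ext
  rw [Subgroup.coe_pow, Subgroup.coe_one, pow_mul, ← hk]
  ext x
  exact key m α α.2 x (by rw [hm]; trivial)

/-- a subgroup of `A` stabilizing an `A`-invariant chain lies in `O_p(A)` -/
theorem le_pCore_of_stabilizes [Finite P] {p : ℕ} [Fact p.Prime] (hP : IsPGroup p P)
    (A : Subgroup (MulAut P)) (e : ℕ → Subgroup P)
    (hinv : ∀ α ∈ A, ∀ j, ∀ x ∈ e j, α x ∈ e j) (h0 : e 0 = ⊥) (m : ℕ) (hm : e m = ⊤)
    {β : MulAut P} (hβA : β ∈ A) (hβ : ∀ j, ∀ x ∈ e (j + 1), x⁻¹ * β x ∈ e j) :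
    β ∈ (pCore p A).map A.subtype := by
  have h1 : (stabChain A e hinv).subgroupOf A ≤ pCore p A :=
    le_pCore' (stabChain_normal A e hinv) (stabChain_isPGroup hP A e hinv h0 m hm).comap_subtype
  exact ⟨⟨β, hβA⟩, h1 (show β ∈ stabChain A e hinv from ⟨hβA, hβ⟩), rfl⟩

end Cfsg.Agent.Lib.Helper9
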