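import Cfsg.Agent.Lib.Helper9.PSubTransport
import Cfsg.Agent.Lib.Helper9.StabChain
import Cfsg.Agent.Lib.Helper9.Alperin1
import Cfsg.Agent.Lib.Helper9.Alperin3

set_option autoImplicit false

namespace Cfsg.Agent.Lib.Helper9

open Cfsg Cfsg.FusionSystem

variable {Ω : Type*} [Group Ω] {S : Subgroup Ω}

theorem centric_of_isConj (F : FusionSystem S) {Q Q' : Subgroup Ω} (hQ : F.IsCentric Q)
    (h : F.IsConj Q Q') : F.IsCentric Q' :=
  ⟨isConj_le_right F h, fun R hR => hQ.2 R (isConj_trans F h hR)⟩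

theorem centric_of_le (F : FusionSystem S) {Q P : Subgroup Ω} (hQ : F.IsCentric Q) (hQP : Q ≤ P)
    (hPS : P ≤ S) : F.IsCentric P := by
  refine ⟨hPS, fun P' hP' => ?_⟩
  obtain ⟨θ, hθ, hθr⟩ := hP'
  have hres := restrict_mem F hθ hQP
  have hQ'P' : (θ.comp (Subgroup.inclusion hQP)).range ≤ P' := by
    rw [← hθr]
    rintro _ ⟨x, rfl⟩
    exact ⟨_, rfl⟩
  have h1 := hQ.2 _ ⟨_, hres, rfl⟩
  intro c hc
  apply hQ'P'
  apply h1
  refine ⟨hc.1, ?_⟩
  show c ∈ Subgroup.centralizer _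
  exact Subgroup.centralizer_le hQ'P' hc.2

/-- the pointwise stabilizer of `Q` in `Aut(P)` -/
def fixingSubgroup' (P Q : Subgroup Ω) : Subgroup (MulAut P) where
  carrier := {β | ∀ x : P, (x : Ω) ∈ Q → β x = x}
  one_mem' := fun _ _ => rfl
  mul_mem' := by
    intro a b ha hb x hx
    show a (b x) = x
    rw [hb x hx, ha x hx]
  inv_mem' := by
    intro a ha x hx
    have h1 := ha x hx
    calc a⁻¹ x = a⁻¹ (a x) := by rw [h1]
      _ = x := MulAut.inv_apply_self _ _ _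

/-- if `x g x⁻¹ = y g y⁻¹` for all `g ∈ Q` then `x⁻¹ y` centralizes `Q` -/
theorem inv_mul_mem_centralizer {Q : Subgroup Ω} {x y : Ω}
    (h : ∀ g ∈ Q, x * g * x⁻¹ = y * g * y⁻¹) : x⁻¹ * y ∈ Subgroup.centralizer (Q : Set Ω) := by
  rw [Subgroup.mem_centralizer_iff]
  intro g hg
  have h1 := h g hg
  calc g * (x⁻¹ * y) = x⁻¹ * (x * g * x⁻¹) * y := by group
    _ = x⁻¹ * (y * g * y⁻¹) * y := by rw [h1]
    _ = x⁻¹ * y * g := by group

/-- a map fixing the normal centric subgroup `Q` of `P` pointwise moves elements of `P` by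
elements of `Q` -/
theorem inv_mul_map_mem_of_fix (F : FusionSystem S) {P Q : Subgroup Ω} (hQP : Q ≤ P)
    (hPN : P ≤ Subgroup.normalizer (Q : Set Ω)) (hC : centralizerIn S Q ≤ Q) {ψ : P →* Ω}
    (hψ : ψ ∈ F.Hom P) (hfix : ∀ x : P, (x : Ω) ∈ Q → ψ x = x) (x : P) :
    (x : Ω)⁻¹ * ψ x ∈ Q := by
  have hPS := hom_le F hψ
  apply hC
  refine ⟨S.mul_mem (S.inv_mem (hPS x.2)) (hom_mem F hψ x), ?_⟩
  apply inv_mul_mem_centralizer
  intro g hg
  have hc : (x : Ω) * g * (x : Ω)⁻¹ ∈ Q := conj_mem_of_mem_normalizer (hPN x.2) hg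
  have h1 : ψ (x * ⟨g, hQP hg⟩ * x⁻¹) = (x : Ω) * g * (x : Ω)⁻¹ := hfix (x * ⟨g, hQP hg⟩ * x⁻¹) hc
  rw [map_mul, map_mul, map_inv, hfix ⟨g, hQP hg⟩ hg] at h1
  exact h1.symm

/-- an automorphism in the system of `P` fixing a normal centric subgroup `Q` pointwise is
conjugation by an element of `Z(Q)` -/
theorem aut_fix_centric_normal [Finite S] {p : ℕ} [Fact p.Prime] (hS : IsPGroup p S)
    (F : FusionSystem S) (hF : F.IsSaturated p) {P Q : Subgroup Ω} (hPS : P ≤ S) (hQP : Q ≤ P)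
    (hPN : P ≤ Subgroup.normalizer (Q : Set Ω)) (hQ : F.IsCentric Q) {α : MulAut P}
    (hα : α ∈ F.autGroup P) (hfix : ∀ x : P, (x : Ω) ∈ Q → α x = x) :
    ∃ z : P, (z : Ω) ∈ Q ∧ (z : Ω) ∈ Subgroup.centralizer (Q : Set Ω) ∧
      ∀ y : P, α y = z * y * z⁻¹ := by
  have hC : centralizerIn S Q ≤ Q := hQ.2 Q (isConj_refl F hQ.1)
  have hfinP : Finite P := finite_of_le hPS
  have hPp : IsPGroup p P := isPGroup_of_le hS hPS
  have hφ := hom_of_mem_autGroup F hPS hα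
  have hstab : ∀ x : P, ((x⁻¹ * α x : P) : Ω) ∈ Q := by
    intro x
    exact inv_mul_map_mem_of_fix F hQP hPN hC hφ (fun y hy => congrArg Subtype.val (hfix y hy)) x
  -- the chain
  have hinv : ∀ β ∈ fixingSubgroup' P Q, ∀ j, ∀ x ∈ (if j = 0 then (⊥ : Subgroup P)
      else if j = 1 then Q.subgroupOf P else ⊤), β x ∈ (if j = 0 then (⊥ : Subgroup P)
      else if j = 1 then Q.subgroupOf P else ⊤) := by
    intro β hβ j x hx
    by_cases h0 : j = 0
    · rw [if_pos h0] at hx ⊢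
      rw [Subgroup.mem_bot] at hx ⊢
      rw [hx, map_one]
    · rw [if_neg h0] at hx ⊢
      by_cases h1 : j = 1
      · rw [if_pos h1] at hx ⊢
        rw [hβ x hx]
        exact hx
      · rw [if_neg h1]
        trivial
  have hpg := stabChain_isPGroup hPp (fixingSubgroup' P Q) _ hinv (by simp) 2 (by simp)
  have hαstab : α ∈ stabChain (fixingSubgroup' P Q) _ hinv := by
    refine ⟨hfix, fun j x hx => ?_⟩
    by_cases h0 : j = 0
    · subst h0
      have hx' : x ∈ Q.subgroupOf P := by simpa using hx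
      rw [hfix x hx']
      simp
    · by_cases h1 : j = 1
      · subst h1
        have h2 : x⁻¹ * α x ∈ Q.subgroupOf P := hstab x
        simpa using h2
      · show x⁻¹ * α x ∈ (if j = 0 then (⊥ : Subgroup P)
          else if j = 1 then Q.subgroupOf P else ⊤)
        rw [if_neg h0, if_neg h1]
        trivial
  have hB : IsPGroup p (stabChain (fixingSubgroup' P Q) _ hinv ⊓ F.autGroup P : Subgroup (MulAut P)) :=
    hpg.to_le inf_le_left
  obtain ⟨P', χ, -, hχ, -, hconj⟩ := exists_hom_conj_pSubgroup hS F hF hPS _ inf_le_right hB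
  obtain ⟨g, hgS, hg⟩ := hconj α ⟨hαstab, hα⟩
  have hχQ := restrict_mem F hχ hQP
  have hC' : centralizerIn S (χ.comp (Subgroup.inclusion hQP)).range ≤
      (χ.comp (Subgroup.inclusion hQP)).range := hQ.2 _ ⟨_, hχQ, rfl⟩
  have hgC : g ∈ centralizerIn S (χ.comp (Subgroup.inclusion hQP)).range := by
    refine ⟨hgS, ?_⟩
    show g ∈ Subgroup.centralizer _
    rw [Subgroup.mem_centralizer_iff]
    rintro _ ⟨x, rfl⟩
    have h1 := hg (Subgroup.inclusion hQP x)
    rw [hfix _ x.2] at h1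
    show χ (Subgroup.inclusion hQP x) * g = g * χ (Subgroup.inclusion hQP x)
    calc χ (Subgroup.inclusion hQP x) * g
        = (g * χ (Subgroup.inclusion hQP x) * g⁻¹) * g := by rw [← h1]
      _ = g * χ (Subgroup.inclusion hQP x) := by group
  obtain ⟨z₀, hz₀⟩ := hC' hgC
  have hz₀' : χ (Subgroup.inclusion hQP z₀) = g := hz₀
  have hform : ∀ y : P, α y = Subgroup.inclusion hQP z₀ * y * (Subgroup.inclusion hQP z₀)⁻¹ := by
    intro y
    apply F.injective_of_mem hχ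
    rw [hg y, map_mul, map_mul, map_inv, hz₀']
  refine ⟨Subgroup.inclusion hQP z₀, z₀.2, ?_, hform⟩
  rw [Subgroup.mem_centralizer_iff]
  intro h hh
  have h1 := hform ⟨h, hQP hh⟩
  rw [hfix _ hh] at h1
  have h2 : h = (z₀ : Ω) * h * (z₀ : Ω)⁻¹ := congrArg Subtype.val h1
  show h * (z₀ : Ω) = (z₀ : Ω) * h
  calc h * (z₀ : Ω) = ((z₀ : Ω) * h * (z₀ : Ω)⁻¹) * z₀ := by rw [← h2]
    _ = (z₀ : Ω) * h := by group

end Cfsg.Agent.Lib.Helper9
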