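import Cfsg.Agent.Lib.Helper9.FusionBasic

set_option autoImplicit false

namespace Cfsg.Agent.Lib.Helper9

open Cfsg Cfsg.FusionSystem

variable {Ω : Type*} [Group Ω] {S : Subgroup Ω}

/-- For `P ≤ S`, the generating set of `Aut_F(P)` is already a subgroup. -/
theorem mem_autGroup_iff (F : FusionSystem S) {P : Subgroup Ω} (hP : P ≤ S) (α : MulAut P) :
    α ∈ F.autGroup P ↔ P.subtype.comp α.toMonoidHom ∈ F.Hom P := by
  constructor
  · intro h
    induction h using Subgroup.closure_induction with
    | mem x hx => exact hx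
    | one => exact subtype_mem F hP
    | mul a b _ _ iha ihb =>
      have h1 := F.comp_mem ihb iha (fun x => (b x).2)
      exact h1
    | inv a _ iha =>
      obtain ⟨ψ, hψ, hψa⟩ := F.inv_mem iha
      have hle : P ≤ (P.subtype.comp a.toMonoidHom).range := by
        intro y hy
        refine ⟨a⁻¹ ⟨y, hy⟩, ?_⟩
        show ((a (a⁻¹ ⟨y, hy⟩) : P) : Ω) = y
        rw [MulAut.apply_inv_self]
      have h1 := restrict_mem F hψ hle
      have h2 : ψ.comp (Subgroup.inclusion hle) = P.subtype.comp (a⁻¹).toMonoidHom := by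
        ext y
        have h3 := hψa (a⁻¹ y)
        show ψ ⟨(y : Ω), _⟩ = ((a⁻¹ y : P) : Ω)
        rw [← h3]
        congr 1
        apply Subtype.ext
        show (y : Ω) = ((a (a⁻¹ y) : P) : Ω)
        rw [MulAut.apply_inv_self]
      rw [← h2]
      exact h1
  · intro h
    exact Subgroup.subset_closure h

/-- `Aut_K(P)`: the generating set is already a subgroup. -/
theorem mem_autInducedBy_iff (K P : Subgroup Ω) (α : MulAut P) :
    α ∈ autInducedBy K P ↔ ∃ g ∈ K, ∀ x : P, ((α x : P) : Ω) = g * (x : Ω) * g⁻¹ := by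
  constructor
  · intro h
    induction h using Subgroup.closure_induction with
    | mem x hx => exact hx
    | one => exact ⟨1, K.one_mem, fun x => by simp⟩
    | mul a b _ _ iha ihb =>
      obtain ⟨g, hg, hga⟩ := iha
      obtain ⟨k, hk, hkb⟩ := ihb
      refine ⟨g * k, K.mul_mem hg hk, fun x => ?_⟩
      show ((a (b x) : P) : Ω) = _
      rw [hga, hkb]
      group
    | inv a _ iha =>
      obtain ⟨g, hg, hga⟩ := iha
      refine ⟨g⁻¹, K.inv_mem hg, fun x => ?_⟩
      have h1 := hga (a⁻¹ x)
      rw [MulAut.apply_inv_self] at h1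
      rw [h1]
      group
  · intro h
    exact Subgroup.subset_closure h

theorem autInducedBy_le_autGroup (F : FusionSystem S) {P : Subgroup Ω} (hP : P ≤ S) :
    autInducedBy S P ≤ F.autGroup P := by
  intro α hα
  obtain ⟨g, hg, hgα⟩ := (mem_autInducedBy_iff S P α).mp hα
  rw [mem_autGroup_iff F hP]
  have h1 := F.conj_mem hP hg
  have h2 : conjHom P g = P.subtype.comp α.toMonoidHom := by
    ext x
    exact (hgα x).symm
  rw [← h2]
  exact h1

end Cfsg.Agent.Lib.Helper9
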