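import Cfsg.Agent.Lib.Helper9.AlperinCor
import Cfsg.Agent.Lib.Helper9.FusionNormalizer
import Cfsg.Agent.S5080

set_option autoImplicit false

namespace Cfsg.Agent.Lib.Helper9

open Cfsg Cfsg.FusionSystem

variable {Ω : Type*} [Group Ω] {S : Subgroup Ω}

/-- transport of a fusion system along an equality of the underlying subgroups -/
def castSystem {S' : Subgroup Ω} (h : S' = S) (E : FusionSystem S') : FusionSystem S := h ▸ E

theorem castSystem_hom {S' : Subgroup Ω} (h : S' = S) (E : FusionSystem S') (P : Subgroup Ω) :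
    (castSystem h E).Hom P = E.Hom P := by
  subst h
  rfl

/-- a subgroup normal in the system lies in every centric radical subgroup -/
theorem normal_le_centric_radical [Finite S] {p : ℕ} [Fact p.Prime] (hS : IsPGroup p S)
    (F : FusionSystem S) {Q P : Subgroup Ω} (hQ : F.IsNormal Q) (hPc : F.IsCentric P)
    (hPr : F.IsRadical p P) : Q ≤ P := by
  have hPS := hPc.1
  have hQS := hQ.1
  have hC : centralizerIn S P ≤ P := hPc.2 P (isConj_refl F hPS)
  have hPQS : P ⊔ Q ≤ S := sup_le hPS hQS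
  by_contra hQP
  have hlt : P < P ⊔ Q := lt_of_le_of_ne le_sup_left (fun h => hQP (h ▸ le_sup_right))
  have hfin : Finite (P ⊔ Q : Subgroup Ω) := finite_of_le hPQS
  obtain ⟨g, hgN, hgP⟩ :=
    exists_mem_normalizerIn_not_mem (S := P ⊔ Q) (isPGroup_of_le hS hPQS) hlt
  have hP'S : normalizerIn (P ⊔ Q) P ≤ S := inf_le_left.trans hPQS
  have hBA : autInducedBy (normalizerIn (P ⊔ Q) P) P ≤ F.autGroup P :=
    (autInducedBy_mono hP'S P).trans (autInducedBy_le_autGroup F hPS)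
  have hnorm : ∀ α ∈ F.autGroup P, ∀ β ∈ autInducedBy (normalizerIn (P ⊔ Q) P) P,
      α * β * α⁻¹ ∈ autInducedBy (normalizerIn (P ⊔ Q) P) P := by
    intro α hα β hβ
    obtain ⟨n, hn, hnβ⟩ := (mem_autInducedBy_iff _ _ _).mp hβ
    have hφ := hom_of_mem_autGroup F hPS hα
    obtain ⟨ψ, hψ, hψφ, hψQ⟩ := hQ.2 P _ hφ
    have hn' : n ∈ P ⊔ Q := hn.1
    have hformula : ∀ y : P, (((α * β * α⁻¹) y : P) : Ω) =
        ψ ⟨n, hn'⟩ * y * (ψ ⟨n, hn'⟩)⁻¹ := by
      intro y
      show ((α (β (α⁻¹ y)) : P) : Ω) = _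
      have h1 : ((α (β (α⁻¹ y)) : P) : Ω) = ψ (Subgroup.inclusion le_sup_left (β (α⁻¹ y))) :=
        (hψφ _).symm
      have h2 : (Subgroup.inclusion le_sup_left (β (α⁻¹ y)) : (P ⊔ Q : Subgroup Ω)) =
          ⟨n, hn'⟩ * Subgroup.inclusion le_sup_left (α⁻¹ y) * ⟨n, hn'⟩⁻¹ := by
        apply Subtype.ext
        exact hnβ _
      rw [h1, h2, map_mul, map_mul, map_inv, hψφ]
      show ψ ⟨n, hn'⟩ * ((α (α⁻¹ y) : P) : Ω) * _ = _
      rw [MulAut.apply_inv_self]
    rw [mem_autInducedBy_iff]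
    refine ⟨ψ ⟨n, hn'⟩, ⟨?_, mem_normalizer_of_induces _ hformula⟩, hformula⟩
    exact ext_mem_sup ψ _ hψφ (fun x => (α x).2) hψQ _
  have hNormal : ((autInducedBy (normalizerIn (P ⊔ Q) P) P).subgroupOf (F.autGroup P)).Normal := by
    refine ⟨fun b hb a => ?_⟩
    exact hnorm a a.2 b hb
  have hPG : IsPGroup p ((autInducedBy (normalizerIn (P ⊔ Q) P) P).subgroupOf (F.autGroup P)) :=
    (isPGroup_autInducedBy (isPGroup_of_le hS hP'S) P).comap_subtype
  have hle := le_pCore' hNormal hPG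
  have hcg : conjAut P ⟨g, hgN.2⟩ ∈ autInducedBy (normalizerIn (P ⊔ Q) P) P := by
    rw [mem_autInducedBy_iff]
    exact ⟨g, hgN, fun x => rfl⟩
  have h1 : (⟨conjAut P ⟨g, hgN.2⟩, hBA hcg⟩ : F.autGroup P) ∈ pCore p (F.autGroup P) :=
    hle hcg
  have h2 : conjAut P ⟨g, hgN.2⟩ ∈ Inn P := by
    rw [← hPr.2]
    exact ⟨_, h1, rfl⟩
  exact not_mem_inn_of_not_mem hC (hPQS hgN.1) hgP hPS (fun x => rfl) h2

theorem map_le_of_normal (F : FusionSystem S) {Q P : Subgroup Ω} (hQ : F.IsNormal Q)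
    (hPS : P ≤ S) {α : MulAut P} (hα : α ∈ F.autGroup P) :
    (Q.subgroupOf P).map α.toMonoidHom ≤ Q.subgroupOf P := by
  rintro _ ⟨x, hx, rfl⟩
  have hφ := hom_of_mem_autGroup F hPS hα
  obtain ⟨ψ, hψ, hψφ, hψQ⟩ := hQ.2 P _ hφ
  show ((α x : P) : Ω) ∈ Q
  have h1 : ((α x : P) : Ω) = ψ (Subgroup.inclusion le_sup_left x) := (hψφ x).symm
  rw [h1]
  exact hψQ.le ⟨_, hx, rfl⟩

theorem map_eq_of_forall_map_le {P : Subgroup Ω} {A : Subgroup (MulAut P)} {R : Subgroup P}
    (h : ∀ α ∈ A, R.map α.toMonoidHom ≤ R) {α : MulAut P} (hα : α ∈ A) :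
    R.map α.toMonoidHom = R := by
  apply le_antisymm (h α hα)
  intro y hy
  refine ⟨(α⁻¹ : MulAut P) y, h _ (A.inv_mem hα) ⟨y, hy, rfl⟩, ?_⟩
  show α ((α⁻¹ : MulAut P) y) = y
  rw [MulAut.apply_inv_self]

/-- S5087 -/
theorem normal_iff_essential_invariant [Finite S] (p : ℕ) [Fact p.Prime] (hS : IsPGroup p S)
    (F : FusionSystem S) (hF : F.IsSaturated p) (Q : Subgroup Ω) :
    F.IsNormal Q ↔ ∀ P : Subgroup Ω, (P = S ∨ F.IsEssential p P) →
      (Q ≤ P ∧ ∀ α ∈ F.autGroup P, (Q.subgroupOf P).map α.toMonoidHom = Q.subgroupOf P) := by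
  constructor
  · intro hQ P hP
    have hPS : P ≤ S := by
      rcases hP with rfl | hP
      · exact le_rfl
      · exact hP.1.1
    refine ⟨?_, fun α hα => map_eq_of_forall_map_le (fun β hβ => map_le_of_normal F hQ hPS hβ) hα⟩
    rcases hP with rfl | hP
    · exact hQ.1
    · exact normal_le_centric_radical hS F hQ hP.1 (Cfsg.Agent.S5080.result p hS F hF P hP)
  · intro h
    have hQS : Q ≤ S := (h S (Or.inl rfl)).1
    have hSN : S ≤ Subgroup.normalizer (Q : Set Ω) := by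
      have key : ∀ g ∈ S, ∀ x ∈ Q, g * x * g⁻¹ ∈ Q := by
        intro g hg x hx
        have hgN : g ∈ Subgroup.normalizer (S : Set Ω) := Subgroup.le_normalizer hg
        have hα : conjAut S ⟨g, hgN⟩ ∈ F.autGroup S := by
          apply autInducedBy_le_autGroup F le_rfl
          rw [mem_autInducedBy_iff]
          exact ⟨g, hg, fun x => rfl⟩
        have h1 := (h S (Or.inl rfl)).2 _ hα
        have h2 : conjAut S ⟨g, hgN⟩ ⟨x, hQS hx⟩ ∈ Q.subgroupOf S := by
          rw [← h1]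
          exact ⟨⟨x, hQS hx⟩, hx, rfl⟩
        exact h2
      intro g hg
      rw [Subgroup.mem_normalizer_iff]
      intro x
      constructor
      · exact key g hg x
      · intro hx
        have := key g⁻¹ (S.inv_mem hg) _ hx
        simpa [mul_assoc] using this
    have hNS : normalizerIn S Q = S := inf_eq_left.mpr hSN
    have hle : F ≤ castSystem hNS (normalizerSystem F Q hQS) := by
      apply alperin p hS F hF
      intro P hP
      obtain ⟨hQP, hinv⟩ := h P hP
      have hPS : P ≤ S := by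
        rcases hP with rfl | hP
        · exact le_rfl
        · exact hP.1.1
      intro α hα
      rw [mem_autGroup_iff _ hPS, castSystem_hom]
      have hφ := hom_of_mem_autGroup F hPS hα
      have hsup : P ⊔ Q ≤ P := sup_le le_rfl hQP
      refine ⟨hφ, hNS.ge.trans' hPS, fun x => hNS.ge (hom_mem F hφ x),
        (P.subtype.comp α.toMonoidHom).comp (Subgroup.inclusion hsup),
        restrict_mem F hφ hsup, fun x => rfl, ?_⟩
      have h1 := hinv α hα
      apply le_antisymm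
      · rintro _ ⟨x, hx, rfl⟩
        have hx' : (Subgroup.inclusion hsup x) ∈ Q.subgroupOf P := hx
        have h2 : α (Subgroup.inclusion hsup x) ∈ Q.subgroupOf P := by
          rw [← h1]
          exact ⟨_, hx', rfl⟩
        exact h2
      · intro y hy
        have hy' : (⟨y, hQP hy⟩ : P) ∈ Q.subgroupOf P := hy
        rw [← h1] at hy'
        obtain ⟨x, hx, hxy⟩ := hy'
        refine ⟨Subgroup.inclusion le_sup_left x, hx, ?_⟩
        show ((α x : P) : Ω) = y
        have := congrArg Subtype.val hxy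
        exact this
    refine ⟨hQS, fun P φ hφ => ?_⟩
    have h1 := hle P hφ
    rw [castSystem_hom] at h1
    exact h1.2.2.2

end Cfsg.Agent.Lib.Helper9

namespace Cfsg.Agent.Lib.Helper9

open Cfsg Cfsg.FusionSystem

variable {Ω : Type*} [Group Ω] {S : Subgroup Ω}

theorem stronglyClosed_of_normal (F : FusionSystem S) {Q : Subgroup Ω} (hQ : F.IsNormal Q) :
    F.StronglyClosed Q := by
  refine ⟨hQ.1, fun R hRQ φ hφ x => ?_⟩
  obtain ⟨ψ, hψ, hψφ, hψQ⟩ := hQ.2 R φ hφ
  rw [← hψφ x]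
  exact hψQ.le ⟨_, hRQ x.2, rfl⟩

theorem map_le_of_stronglyClosed (F : FusionSystem S) {Q P : Subgroup Ω} (hQ : F.StronglyClosed Q)
    (hPS : P ≤ S) {α : MulAut P} (hα : α ∈ F.autGroup P) :
    (Q.subgroupOf P).map α.toMonoidHom ≤ Q.subgroupOf P := by
  rintro _ ⟨x, hx, rfl⟩
  have hφ := hom_of_mem_autGroup F hPS hα
  have hx' : (x : Ω) ∈ Q := hx
  have h1 := restrict_mem F hφ (inf_le_left : P ⊓ Q ≤ P)
  exact hQ.2 (P ⊓ Q) inf_le_right _ h1 ⟨x, ⟨x.2, hx'⟩⟩

/-- S5086 -/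
theorem normal_iff_stronglyClosed_le_centric_radical [Finite S] (p : ℕ) [Fact p.Prime]
    (hS : IsPGroup p S) (F : FusionSystem S) (hF : F.IsSaturated p) (Q : Subgroup Ω) :
    F.IsNormal Q ↔ (F.StronglyClosed Q ∧
      ∀ P : Subgroup Ω, F.IsCentric P → F.IsRadical p P → Q ≤ P) := by
  constructor
  · intro hQ
    exact ⟨stronglyClosed_of_normal F hQ, fun P hc hr => normal_le_centric_radical hS F hQ hc hr⟩
  · rintro ⟨hsc, hcr⟩
    rw [normal_iff_essential_invariant p hS F hF]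
    intro P hP
    have hPS : P ≤ S := by
      rcases hP with rfl | hP
      · exact le_rfl
      · exact hP.1.1
    refine ⟨?_, fun α hα =>
      map_eq_of_forall_map_le (fun β hβ => map_le_of_stronglyClosed F hsc hPS hβ) hα⟩
    rcases hP with rfl | hP
    · exact hsc.1
    · exact hcr P hP.1 (Cfsg.Agent.S5080.result p hS F hF P hP)

end Cfsg.Agent.Lib.Helper9
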