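import Cfsg.Agent.Lib.Helper9.NormalCrit
import Cfsg.Agent.Lib.Helper9.StabChain
import Cfsg.Agent.Lib.Helper9.SylowConj2

set_option autoImplicit false

namespace Cfsg.Agent.Lib.Helper9

open Cfsg Cfsg.FusionSystem
open scoped commutatorElement

variable {Ω : Type*} [Group Ω] {S : Subgroup Ω}

theorem conj_mem_of_stronglyClosed (F : FusionSystem S) {Q : Subgroup Ω} (hQ : F.StronglyClosed Q)
    {g x : Ω} (hg : g ∈ S) (hx : x ∈ Q) : g * x * g⁻¹ ∈ Q :=
  hQ.2 Q le_rfl _ (F.conj_mem hQ.1 hg) ⟨x, hx⟩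

theorem le_normalizer_of_stronglyClosed (F : FusionSystem S) {Q : Subgroup Ω}
    (hQ : F.StronglyClosed Q) : S ≤ Subgroup.normalizer (Q : Set Ω) := by
  intro g hg
  rw [Subgroup.mem_normalizer_iff]
  intro x
  constructor
  · exact conj_mem_of_stronglyClosed F hQ hg
  · intro hx
    have := conj_mem_of_stronglyClosed F hQ (S.inv_mem hg) hx
    simpa [mul_assoc] using this

theorem stronglyClosed_top (F : FusionSystem S) : F.StronglyClosed S :=
  ⟨le_rfl, fun _ _ _ hφ x => hom_mem F hφ x⟩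

theorem stronglyClosed_bot (F : FusionSystem S) : F.StronglyClosed ⊥ := by
  refine ⟨bot_le, fun R hR φ _ x => ?_⟩
  have : x = 1 := Subtype.ext (Subgroup.mem_bot.mp (hR x.2))
  rw [this, map_one]
  exact Subgroup.one_mem _

/-- A strongly closed subgroup with a "central series" of strongly closed subgroups is normal in a
saturated system. -/
theorem normal_of_series [Finite S] (p : ℕ) [Fact p.Prime] (hS : IsPGroup p S)
    (F : FusionSystem S) (hF : F.IsSaturated p) (Q : Subgroup Ω) (T : ℕ → Subgroup Ω) (n : ℕ)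
    (h0 : T 0 = ⊥) (hn : T n = Q) (hsc : ∀ j, F.StronglyClosed (T j))
    (hcomm : ∀ j < n, ⁅Q, T (j + 1)⁆ ≤ T j) (htop : ∀ j, n < j → T j = S) : F.IsNormal Q := by
  have hQsc : F.StronglyClosed Q := hn ▸ hsc n
  rw [normal_iff_stronglyClosed_le_centric_radical p hS F hF]
  refine ⟨hQsc, fun P hPc hPr => ?_⟩
  have hQS := hQsc.1
  have hPS := hPc.1
  have hC : centralizerIn S P ≤ P := hPc.2 P (isConj_refl F hPS)
  have hfinP : Finite P := finite_of_le hPS
  have hPp : IsPGroup p P := isPGroup_of_le hS hPS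
  have hinv : ∀ α ∈ F.autGroup P, ∀ j, ∀ x ∈ (T j).subgroupOf P, α x ∈ (T j).subgroupOf P :=
    fun α hα j x hx => map_le_of_stronglyClosed F (hsc j) hPS hα ⟨x, hx, rfl⟩
  have he0 : (T 0).subgroupOf P = ⊥ := by
    rw [h0]
    exact Subgroup.bot_subgroupOf P
  have hem : (T (n + 1)).subgroupOf P = ⊤ := by
    rw [htop _ (Nat.lt_succ_self n), Subgroup.subgroupOf_eq_top]
    exact hPS
  have key : ∀ g ∈ Q, g ∈ Subgroup.normalizer (P : Set Ω) → g ∈ P := by
    intro g hgQ hgN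
    by_contra hgP
    have hβA : conjAut P ⟨g, hgN⟩ ∈ F.autGroup P :=
      autInducedBy_le_autGroup F hPS
        ((mem_autInducedBy_iff S P _).mpr ⟨g, hQS hgQ, fun x => rfl⟩)
    have hβ : ∀ j, ∀ x ∈ (T (j + 1)).subgroupOf P,
        x⁻¹ * conjAut P ⟨g, hgN⟩ x ∈ (T j).subgroupOf P := by
      intro j x hx
      show (x : Ω)⁻¹ * (g * x * g⁻¹) ∈ T j
      have hx' : (x : Ω) ∈ T (j + 1) := hx
      rcases Nat.lt_trichotomy j n with hj | hj | hj
      · apply hcomm j hj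
        rw [Subgroup.commutator_comm]
        have : (x : Ω)⁻¹ * (g * x * g⁻¹) = ⁅(x : Ω)⁻¹, g⁆ := by
          rw [commutatorElement_def]
          group
        rw [this]
        exact Subgroup.commutator_mem_commutator ((T (j + 1)).inv_mem hx') hgQ
      · rw [hj, hn]
        have h1 : (x : Ω)⁻¹ * g * ((x : Ω)⁻¹)⁻¹ ∈ Q :=
          conj_mem_of_stronglyClosed F hQsc (S.inv_mem (hPS x.2)) hgQ
        have : (x : Ω)⁻¹ * (g * x * g⁻¹) = ((x : Ω)⁻¹ * g * ((x : Ω)⁻¹)⁻¹) * g⁻¹ := by group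
        rw [this]
        exact Q.mul_mem h1 (Q.inv_mem hgQ)
      · rw [htop j hj]
        exact S.mul_mem (S.inv_mem (hPS x.2))
          (S.mul_mem (S.mul_mem (hQS hgQ) (hPS x.2)) (S.inv_mem (hQS hgQ)))
    have h1 := le_pCore_of_stabilizes hPp (F.autGroup P) (fun j => (T j).subgroupOf P) hinv he0
      (n + 1) hem hβA hβ
    rw [hPr.2] at h1
    exact not_mem_inn_of_not_mem hC (hQS hgQ) hgP hPS (fun x => rfl) h1
  by_contra hQP
  have hPQS : P ⊔ Q ≤ S := sup_le hPS hQS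
  have hlt : P < P ⊔ Q := lt_of_le_of_ne le_sup_left (fun h => hQP (h ▸ le_sup_right))
  have hfin : Finite (P ⊔ Q : Subgroup Ω) := finite_of_le hPQS
  obtain ⟨g, hgN, hgP⟩ :=
    exists_mem_normalizerIn_not_mem (S := P ⊔ Q) (isPGroup_of_le hS hPQS) hlt
  have hPN : P ≤ Subgroup.normalizer (Q : Set Ω) :=
    hPS.trans (le_normalizer_of_stronglyClosed F hQsc)
  obtain ⟨a, ha, b, hb, hab⟩ := exists_mul_of_mem_sup hPN hgN.1
  apply hgP
  rw [hab]
  apply P.mul_mem ha
  apply key b hb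
  have h1 : a⁻¹ * g ∈ Subgroup.normalizer (P : Set Ω) :=
    Subgroup.mul_mem _ (Subgroup.inv_mem _ (Subgroup.le_normalizer ha)) hgN.2
  rw [hab] at h1
  simpa using h1

end Cfsg.Agent.Lib.Helper9
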