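import Cfsg.Agent.Lib.Helper9.ExtMod2

set_option autoImplicit false

namespace Cfsg.Agent.Lib.Helper9

open Cfsg Cfsg.FusionSystem

variable {Ω : Type*} [Group Ω] {S : Subgroup Ω}

theorem le_extModSystem [Finite S] {p : ℕ} [Fact p.Prime] (hS : IsPGroup p S)
    (F : FusionSystem S) (hF : F.IsSaturated p) {T : Subgroup Ω} (hT : F.StronglyClosed T) :
    ∀ d : ℕ, F ≤ extModSystem F T hT (Nat.card S - d) := by
  intro d
  induction d with
  | zero =>
    intro P φ hφ
    refine ⟨hφ, fun hk => ?_⟩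
    exfalso
    have h1 : Nat.card P ≤ Nat.card S := Subgroup.card_le_of_le (hom_le F hφ)
    omega
  | succ d ih =>
    by_cases hd : Nat.card S - (d + 1) = Nat.card S - d
    · rw [hd]; exact ih
    have hk : Nat.card S - d = (Nat.card S - (d + 1)) + 1 := by omega
    rw [hk] at ih
    set k := Nat.card S - (d + 1) with hkdef
    apply alperin p hS F hF
    intro R hR α hα
    have hRn : F.IsFullyNormalized R := by
      rcases hR with rfl | hR
      · exact fullyNormalized_top F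
      · exact hR.2.1
    apply Subgroup.subset_closure
    refine ⟨hom_of_mem_autGroup F hRn.1 hα, fun hkR => ?_⟩
    apply extendsMod_aut_of_fullyNormalized hS F hF hT hRn _ hα
    intro P _ hRP φ hφ
    exact (ih P hφ).2 (by omega)

/-- **Key lemma**: in a saturated fusion system every map `φ : P → S` extends, modulo the
strongly closed subgroup `T`, to a map `P T → S`. -/
theorem extendsMod_of_stronglyClosed [Finite S] {p : ℕ} [Fact p.Prime] (hS : IsPGroup p S)
    (F : FusionSystem S) (hF : F.IsSaturated p) {T : Subgroup Ω} (hT : F.StronglyClosed T)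
    {P : Subgroup Ω} {φ : P →* Ω} (hφ : φ ∈ F.Hom P) : ExtendsMod F T φ := by
  have h1 := le_extModSystem hS F hF hT (Nat.card S) P hφ
  rw [Nat.sub_self] at h1
  have hfin : Finite P := finite_of_le (hom_le F hφ)
  exact h1.2 Nat.card_pos

/-- the product of two strongly closed subgroups is strongly closed -/
theorem stronglyClosed_sup [Finite S] {p : ℕ} [Fact p.Prime] (hS : IsPGroup p S)
    (F : FusionSystem S) (hF : F.IsSaturated p) {T₁ T₂ : Subgroup Ω}
    (h₁ : F.StronglyClosed T₁) (h₂ : F.StronglyClosed T₂) : F.StronglyClosed (T₁ ⊔ T₂) := by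
  refine ⟨sup_le h₁.1 h₂.1, ?_⟩
  intro R hR φ hφ x
  obtain ⟨ψ, hψ, hψφ⟩ := extendsMod_of_stronglyClosed hS F hF h₁ hφ
  have hx : (x : Ω) ∈ T₂ ⊔ T₁ := by rw [sup_comm]; exact hR x.2
  obtain ⟨a, ha, c, hc, hxac⟩ := exists_mul_of_mem_sup_stronglyClosed F h₁ h₂.1 hx
  -- `a = x * c⁻¹ ∈ R ⊔ T₁`
  have haRT : a ∈ R ⊔ T₁ := by
    have : a = x * c⁻¹ := by rw [hxac]; group
    rw [this]
    exact Subgroup.mul_mem _ (Subgroup.mem_sup_left x.2) (Subgroup.mem_sup_right (T₁.inv_mem hc))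
  have h3 : Subgroup.inclusion le_sup_left x =
      (⟨a, haRT⟩ : (R ⊔ T₁ : Subgroup Ω)) * Subgroup.inclusion le_sup_right ⟨c, hc⟩ :=
    Subtype.ext hxac
  have h4 : ψ (Subgroup.inclusion le_sup_left x) ∈ T₁ ⊔ T₂ := by
    rw [h3, map_mul]
    exact Subgroup.mul_mem _
      (Subgroup.mem_sup_right (map_mem_of_stronglyClosed F h₂ hψ _ ha))
      (Subgroup.mem_sup_left (map_mem_of_stronglyClosed F h₁ hψ _ hc))
  have h5 : φ x = ψ (Subgroup.inclusion le_sup_left x) *
      ((φ x)⁻¹ * ψ (Subgroup.inclusion le_sup_left x))⁻¹ := by group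
  rw [h5]
  exact Subgroup.mul_mem _ h4 (Subgroup.inv_mem _ (Subgroup.mem_sup_left (hψφ x)))

/-- `T C_S(T)` is strongly closed when `T` is -/
theorem stronglyClosed_sup_centralizerIn [Finite S] {p : ℕ} [Fact p.Prime] (hS : IsPGroup p S)
    (F : FusionSystem S) (hF : F.IsSaturated p) {T : Subgroup Ω}
    (hT : F.StronglyClosed T) : F.StronglyClosed (T ⊔ centralizerIn S T) := by
  refine ⟨sup_le hT.1 inf_le_left, ?_⟩
  intro R hR φ hφ x
  obtain ⟨ψ, hψ, hψφ⟩ := extendsMod_of_stronglyClosed hS F hF hT hφ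
  have hx : (x : Ω) ∈ centralizerIn S T ⊔ T := by rw [sup_comm]; exact hR x.2
  obtain ⟨a, ha, c, hc, hxac⟩ := exists_mul_of_mem_sup_stronglyClosed F hT inf_le_left hx
  have haRT : a ∈ R ⊔ T := by
    have : a = x * c⁻¹ := by rw [hxac]; group
    rw [this]
    exact Subgroup.mul_mem _ (Subgroup.mem_sup_left x.2) (Subgroup.mem_sup_right (T.inv_mem hc))
  have h3 : Subgroup.inclusion le_sup_left x =
      (⟨a, haRT⟩ : (R ⊔ T : Subgroup Ω)) * Subgroup.inclusion le_sup_right ⟨c, hc⟩ :=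
    Subtype.ext hxac
  -- `ψ a` centralizes `T`
  have ha' : ψ ⟨a, haRT⟩ ∈ centralizerIn S T := by
    refine ⟨hom_mem F hψ _, ?_⟩
    show _ ∈ Subgroup.centralizer (T : Set Ω)
    rw [Subgroup.mem_centralizer_iff]
    intro t ht
    obtain ⟨z, hzT, hz⟩ := exists_preimage_of_stronglyClosed F hT le_sup_right hψ t ht
    rw [← hz, ← map_mul, ← map_mul]
    congr 1
    apply Subtype.ext
    exact ha.2 z hzT
  have h4 : ψ (Subgroup.inclusion le_sup_left x) ∈ T ⊔ centralizerIn S T := by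
    rw [h3, map_mul]
    exact Subgroup.mul_mem _ (Subgroup.mem_sup_right ha')
      (Subgroup.mem_sup_left (map_mem_of_stronglyClosed F hT hψ _ hc))
  have h5 : φ x = ψ (Subgroup.inclusion le_sup_left x) *
      ((φ x)⁻¹ * ψ (Subgroup.inclusion le_sup_left x))⁻¹ := by group
  rw [h5]
  exact Subgroup.mul_mem _ h4 (Subgroup.inv_mem _ (Subgroup.mem_sup_left (hψφ x)))

end Cfsg.Agent.Lib.Helper9
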