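import Cfsg.Agent.Lib.Helper9.FactorSys7

set_option autoImplicit false

namespace Cfsg.Agent.Lib.Helper9

open Cfsg Cfsg.FusionSystem

variable {Ω : Type*} [Group Ω] {S : Subgroup Ω} {Ω' : Type*} [Group Ω']

/-- the image of a strongly closed subgroup containing the kernel is strongly closed in the factor
system -/
theorem imageAlong_stronglyClosed (F : FusionSystem S) {S₀ : Subgroup Ω} {S' : Subgroup Ω'}
    (θ : S →* Ω') (E : FusionSystem S') (hE : F.IsFactorSystem S₀ θ E) {T : Subgroup Ω}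
    (hT : F.StronglyClosed T) (hS₀T : S₀ ≤ T) : E.StronglyClosed (imageAlong θ T) := by
  obtain ⟨hS₀S, hker, hrange, hHom⟩ := hE
  refine ⟨hrange ▸ imageAlong_le_range θ T, ?_⟩
  intro R' hR' φ' hφ' y
  obtain ⟨hR'S', φ, hφ, hD, hφS, hDP', hind⟩ := (hHom R' φ').mp hφ'
  obtain ⟨d, hd⟩ := exists_preimage_of_mem_range θ hrange hR'S' y
  have hy : y = ⟨θ ⟨d, hD d.2⟩, hDP' d⟩ := Subtype.ext hd.symm
  have hle : preimageAlong θ R' ≤ T := by
    have h1 := preimageAlong_mono θ hR'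
    rwa [preimageAlong_imageAlong θ hker hT.1 hS₀T] at h1
  rw [hy, hind]
  exact (mem_imageAlong θ T _).mpr ⟨φ d, hφS d, hT.2 _ hle φ hφ d, rfl⟩

/-- the preimage of a strongly closed subgroup of the factor system is strongly closed -/
theorem preimageAlong_stronglyClosed [Finite S] (p : ℕ) [Fact p.Prime] (hS : IsPGroup p S)
    (F : FusionSystem S) (hF : F.IsSaturated p) {S₀ : Subgroup Ω} (hS₀ : F.StronglyClosed S₀)
    {S' : Subgroup Ω'} (θ : S →* Ω') (E : FusionSystem S') (hE : F.IsFactorSystem S₀ θ E)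
    {T' : Subgroup Ω'} (hT' : E.StronglyClosed T') : F.StronglyClosed (preimageAlong θ T') := by
  have hmor := factor_isSurjectiveMorphism p hS F hF S₀ hS₀ θ E hE
  refine ⟨preimageAlong_le θ T', ?_⟩
  intro R hR φ hφ u
  obtain ⟨φ', hφ', hP, hφS, hPP', hind⟩ := hmor.1.2 R φ hφ
  have hle : imageAlong θ R ≤ T' := by
    intro y hy
    obtain ⟨x, hxS, hxR, rfl⟩ := (mem_imageAlong θ R y).mp hy
    exact ((mem_preimageAlong θ T' x).mp (hR hxR)).2
  have h1 := hT'.2 _ hle φ' hφ' ⟨θ ⟨u, hP u.2⟩, hPP' u⟩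
  rw [hind u] at h1
  exact (mem_preimageAlong θ T' _).mpr ⟨hφS u, h1⟩

end Cfsg.Agent.Lib.Helper9
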