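import Cfsg.Agent.Lib.Helper9.Solvable4
import Cfsg.Agent.Lib.Helper9.ExtMod3
import Cfsg.Agent.Lib.Helper9.FactorSys8

set_option autoImplicit false

namespace Cfsg.Agent.Lib.Helper9

open Cfsg Cfsg.FusionSystem
open scoped commutatorElement

variable {Ω : Type*} [Group Ω] {S : Subgroup Ω}

/-- solvable from a chain indexed by naturals -/
theorem solvable_of_nat_chain [Finite S] (p : ℕ) [Fact p.Prime] (hS : IsPGroup p S)
    (F : FusionSystem S) (hF : F.IsSaturated p) (n : ℕ) (c : ℕ → Subgroup Ω)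
    (h0 : c 0 = ⊥) (hn : c n = S) (hsc : ∀ j ≤ n, F.StronglyClosed (c j))
    (hcomm : ∀ j < n, ⁅c (j + 1), c (j + 1)⁆ ≤ c j) : F.IsSolvableSystem := by
  refine solvable_of_series p hS F hF n (fun i => c i) h0 hn (fun i => hsc i (by omega)) ?_
  intro i
  exact hcomm i i.2

/-- a subgroup of `T` strongly closed in `F` is strongly closed in a subsystem over `T` -/
theorem stronglyClosed_of_subsystem {T : Subgroup Ω} (E : FusionSystem T) (F : FusionSystem S)
    (hEF : E.IsSubsystemOf F) {R : Subgroup Ω} (hRT : R ≤ T) (hR : F.StronglyClosed R) :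
    E.StronglyClosed R :=
  ⟨hRT, fun P hP φ hφ x => hR.2 P hP φ (hEF P hφ) x⟩

/-- a saturated subsystem of a solvable system over a strongly closed subgroup is solvable -/
theorem solvable_sub_of_solvable [Finite S] (p : ℕ) [Fact p.Prime] (hS : IsPGroup p S)
    (F : FusionSystem S) (hF : F.IsSaturated p) {T : Subgroup Ω} (E : FusionSystem T)
    (hE : E.IsSaturated p) (hEF : E.IsSubsystemOf F) (hT : F.StronglyClosed T)
    (h : F.IsSolvableSystem) : E.IsSolvableSystem := by
  obtain ⟨n, c, hc0, hcn, hcsc, hcmono, hccomm⟩ :=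
    exists_chain_of_solvable p hS F hF h _ ⊥ (stronglyClosed_bot F) le_rfl
  have : Finite T := finite_of_le hT.1
  refine solvable_of_nat_chain p (isPGroup_of_le hS hT.1) E hE n (fun j => c j ⊓ T) ?_ ?_ ?_ ?_
  · show c 0 ⊓ T = ⊥
    rw [hc0, bot_inf_eq]
  · show c n ⊓ T = T
    rw [hcn]
    exact inf_eq_right.mpr hT.1
  · intro j _
    exact stronglyClosed_of_subsystem E F hEF inf_le_right (stronglyClosed_inf F (hcsc j) hT)
  · intro j hj
    show ⁅c (j + 1) ⊓ T, c (j + 1) ⊓ T⁆ ≤ c j ⊓ T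
    apply le_inf
    · exact (Subgroup.commutator_mono inf_le_left inf_le_left).trans (hccomm j hj)
    · rw [Subgroup.commutator_le]
      intro a ha b hb
      rw [commutatorElement_def]
      exact T.mul_mem (T.mul_mem (T.mul_mem ha.2 hb.2) (T.inv_mem ha.2)) (T.inv_mem hb.2)

/-- the image of `P ⊔ S₀` is the image of `P` -/
theorem imageAlong_sup_ker {Ω' : Type*} [Group Ω'] (F : FusionSystem S) {S₀ : Subgroup Ω}
    (hS₀ : F.StronglyClosed S₀) (θ : S →* Ω') (hker : ∀ s : S, θ s = 1 ↔ (s : Ω) ∈ S₀)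
    {P : Subgroup Ω} (hP : P ≤ S) : imageAlong θ (P ⊔ S₀) = imageAlong θ P := by
  apply le_antisymm
  · intro y hy
    obtain ⟨x, hxS, hx, rfl⟩ := (mem_imageAlong θ _ y).mp hy
    obtain ⟨a, ha, t, ht, rfl⟩ := exists_mul_of_mem_sup_stronglyClosed F hS₀ hP hx
    have h1 : (⟨a * t, hxS⟩ : S) = ⟨a, hP ha⟩ * ⟨t, hS₀.1 ht⟩ := rfl
    rw [h1, map_mul, (hker ⟨t, hS₀.1 ht⟩).mpr ht, mul_one]
    exact (mem_imageAlong θ _ _).mpr ⟨a, hP ha, ha, rfl⟩
  · exact imageAlong_mono θ le_sup_left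

/-- a factor system of a solvable system is solvable -/
theorem solvable_factor_of_solvable [Finite S] (p : ℕ) [Fact p.Prime] (hS : IsPGroup p S)
    (F : FusionSystem S) (hF : F.IsSaturated p) {T : Subgroup Ω} (hT : F.StronglyClosed T)
    {Ω' : Type*} [Group Ω'] {S' : Subgroup Ω'} (θ : S →* Ω') (D : FusionSystem S')
    (hD : F.IsFactorSystem T θ D) (h : F.IsSolvableSystem) : D.IsSolvableSystem := by
  obtain ⟨n, c, hc0, hcn, hcsc, hcmono, hccomm⟩ :=
    exists_chain_of_solvable p hS F hF h _ ⊥ (stronglyClosed_bot F) le_rfl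
  have hDsat := factorSystem_saturated p hS F hF hT θ D hD
  have hD' := hD
  obtain ⟨hTS, hker, hrange, hHom⟩ := hD'
  have : Finite S' := finite_of_range_eq θ hrange
  refine solvable_of_nat_chain p (isPGroup_of_range_eq hS θ hrange) D hDsat n
    (fun j => imageAlong θ (c j)) ?_ ?_ ?_ ?_
  · show imageAlong θ (c 0) = ⊥
    rw [hc0]
    unfold imageAlong
    rw [Subgroup.bot_subgroupOf, Subgroup.map_bot]
  · show imageAlong θ (c n) = S'
    rw [hcn, ← hrange]
    unfold imageAlong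
    rw [Subgroup.subgroupOf_self, ← MonoidHom.range_eq_map]
  · intro j _
    show D.StronglyClosed (imageAlong θ (c j))
    rw [← imageAlong_sup_ker F hT θ hker (hcsc j).1]
    exact imageAlong_stronglyClosed F θ D hD (stronglyClosed_sup hS F hF (hcsc j) hT) le_sup_right
  · intro j hj
    show ⁅imageAlong θ (c (j + 1)), imageAlong θ (c (j + 1))⁆ ≤ imageAlong θ (c j)
    rw [Subgroup.commutator_le]
    intro a ha b hb
    obtain ⟨x, hxS, hx, rfl⟩ := (mem_imageAlong θ _ a).mp ha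
    obtain ⟨y, hyS, hy, rfl⟩ := (mem_imageAlong θ _ b).mp hb
    rw [← map_commutatorElement]
    have hxy : ⁅x, y⁆ ∈ S := by
      rw [commutatorElement_def]
      exact S.mul_mem (S.mul_mem (S.mul_mem hxS hyS) (S.inv_mem hxS)) (S.inv_mem hyS)
    refine (mem_imageAlong θ _ _).mpr ⟨⁅x, y⁆, hxy, ?_, rfl⟩
    exact hccomm j hj (Subgroup.commutator_mem_commutator hx hy)

end Cfsg.Agent.Lib.Helper9
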