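import Mathlib
import Cfsg.Agent.S0146
import Cfsg.Agent.Lib.Helper6.IndFunMore
import Cfsg.Agent.Lib.Helper6.Multiplicity
import Cfsg.Agent.Lib.Helper6.Norm
import Cfsg.Agent.Lib.Helper6.CharOps
import Cfsg.Agent.Lib.Helper6.Mult
import Cfsg.Agent.Lib.Helper6.ClassFun
import Cfsg.Agent.Lib.Helper6.IrrBasis

/-!
# S4538 / S2440 farm, unit R (rank-one step), core

`P` a finite group, `UP ≤ B ≤ P`, `UP ⊴ P`, `φ : B →* ℂˣ` trivial on `UP`.  If `Ind_B^P φ` is
irreducible and `χ` is a character of `P` with `⟨χ|_B, φ⟩ ≠ 0`, then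
`[P:B] ≤ ⟨χ|_UP, 1⟩`.
-/

set_option autoImplicit false

namespace Cfsg.Agent.Lib.Helper9.SLR

open Cfsg.Agent.Lib.Helper6
open scoped ComplexConjugate

variable {P : Type*} [Group P] [Fintype P]

/-- The complex-valued function of a linear character. -/
def lin {H : Type*} [Group H] (φ : H →* ℂˣ) : H → ℂ := fun h => ((φ h : ℂˣ) : ℂ)

/-- An induced linear character is constant `= [P:B]` on a normal subgroup of `P` inside its
kernel. -/
theorem indFun_apply_of_normal (B UP : Subgroup P) (hUB : UP ≤ B) [hn : UP.Normal] (φ : B →* ℂˣ)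
    (hφ : ∀ u : B, (u : P) ∈ UP → φ u = 1) (u : P) (hu : u ∈ UP) :
    Cfsg.indFun B (lin φ) u = (Nat.card P : ℂ) / (Nat.card B : ℂ) := by
  unfold Cfsg.indFun
  have h1 : ∀ x : P, Cfsg.extendByZero B (lin φ) (x⁻¹ * u * x) = 1 := by
    intro x
    have hx : x⁻¹ * u * x ∈ UP := by
      have := hn.conj_mem u hu x⁻¹
      simpa using this
    rw [extendByZero_of_mem B (lin φ) (hUB hx)]
    unfold lin
    rw [hφ ⟨_, hUB hx⟩ hx]
    simp
  rw [Finset.sum_congr rfl (fun x _ => h1 x)]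
  simp [Finset.sum_const, Finset.card_univ, Nat.card_eq_fintype_card, div_eq_inv_mul]

/-- Sum of a character over a subgroup is a natural multiple of the order of the subgroup. -/
theorem sum_subgroup_nat (H : Subgroup P) [Fintype H] {θ : P → ℂ} (hθ : Cfsg.IsCharacter P θ) :
    ∃ n : ℕ, ∑ u : H, θ (u : P) = (n : ℂ) * (Nat.card H : ℂ) := by
  classical
  obtain ⟨n, hn⟩ := IsCharacter.classInner_irr_nat (IsCharacter.restrict H hθ)
    (isIrrCharacter_one (G := H))
  refine ⟨n, ?_⟩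
  unfold Cfsg.classInner at hn
  have hH : (Nat.card H : ℂ) ≠ 0 := card_ne_zero_complex H
  have h2 : ∑ g : H, θ (g : P) * conj (1 : ℂ) = ∑ u : H, θ (u : P) := by
    apply Finset.sum_congr rfl
    intro g _
    simp
  rw [h2] at hn
  field_simp at hn
  rw [hn, mul_comm]

/-- **R, core**: if `Ind_B^P φ` has norm one, `UP ⊴ P` lies in the kernel of `φ`, and `χ` is a
character of `P` whose restriction to `B` contains `φ`, then `|P| ≤ ⟨χ|_UP, 1⟩ |B|`. -/
theorem rank_one_core (B UP : Subgroup P) [Fintype B] [Fintype UP] (hUB : UP ≤ B)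
    [hn : UP.Normal] (φ : B →* ℂˣ)
    (hφ : ∀ u : B, (u : P) ∈ UP → φ u = 1)
    (hnorm : Cfsg.classInner (Cfsg.indFun B (lin φ)) (Cfsg.indFun B (lin φ)) = 1)
    (χ : P → ℂ) (hχ : Cfsg.IsCharacter P χ)
    (h1 : Cfsg.classInner (fun b : B => χ (b : P)) (lin φ) ≠ 0)
    (k : ℕ) (hk : ∑ u : UP, χ (u : P) = (k : ℂ) * (Nat.card UP : ℂ)) :
    Nat.card P ≤ k * Nat.card B := by
  classical
  have : Fintype (Cfsg.IrrCharacter P) := Fintype.ofFinite _
  have hφirr : Cfsg.IsIrrCharacter B (lin φ) := isIrrCharacter_of_hom φ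
  have hθch : Cfsg.IsCharacter P (Cfsg.indFun B (lin φ)) :=
    IsCharacter.indFun B (IsIrrCharacter.isCharacter hφirr)
  have hθirr : Cfsg.IsIrrCharacter P (Cfsg.indFun B (lin φ)) :=
    isIrrCharacter_of_classInner_self_eq_one hθch hnorm
  -- Frobenius reciprocity
  have hfrob : Cfsg.classInner (Cfsg.indFun B (lin φ)) χ
      = Cfsg.classInner (lin φ) (fun b : B => χ (b : P)) :=
    Cfsg.Agent.S0146.result B (lin φ) χ (IsCharacter.isClassFunction hχ)
  have hne : Cfsg.classInner χ (Cfsg.indFun B (lin φ)) ≠ 0 := by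
    rw [← classInner_conj_symm, hfrob, ← classInner_conj_symm]
    simpa using h1
  -- decomposition of χ
  obtain ⟨m, hm, hmult⟩ := IsCharacter.exists_mult hχ
  set θ₀ : Cfsg.IrrCharacter P := ⟨Cfsg.indFun B (lin φ), hθirr⟩ with hθ₀
  have hm0 : 1 ≤ m θ₀ := by
    have h := hmult θ₀
    rw [hθ₀] at h
    simp only at h
    rcases Nat.eq_zero_or_pos (m θ₀) with h0 | h0
    · exfalso
      apply hne
      rw [h, h0]
      simp
    · exact h0
  -- evaluate the sum over UP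
  have hval : ∀ g : P, χ g = ∑ θ : Cfsg.IrrCharacter P, (m θ : ℂ) * (θ : P → ℂ) g :=
    apply_eq_sum_mult hm
  have hsumθ : ∀ θ : Cfsg.IrrCharacter P, ∃ n : ℕ,
      ∑ u : UP, (θ : P → ℂ) (u : P) = (n : ℂ) * (Nat.card UP : ℂ) :=
    fun θ => sum_subgroup_nat UP (IsIrrCharacter.isCharacter θ.2)
  choose nθ hnθ using hsumθ
  have hUP : (Nat.card UP : ℂ) ≠ 0 := card_ne_zero_complex UP
  have hBc : (Nat.card B : ℂ) ≠ 0 := card_ne_zero_complex B
  have htot : (k : ℂ) * (Nat.card UP : ℂ)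
      = ((∑ θ : Cfsg.IrrCharacter P, m θ * nθ θ : ℕ) : ℂ) * (Nat.card UP : ℂ) := by
    rw [← hk]
    simp_rw [hval]
    rw [Finset.sum_comm]
    push_cast
    rw [Finset.sum_mul]
    apply Finset.sum_congr rfl
    intro θ _
    rw [← Finset.mul_sum, hnθ θ]
    ring
  have hk' : k = ∑ θ : Cfsg.IrrCharacter P, m θ * nθ θ := by
    have := mul_right_cancel₀ hUP htot
    exact_mod_cast this
  -- the value of nθ at θ₀
  have hn0 : (nθ θ₀ : ℂ) * (Nat.card B : ℂ) = (Nat.card P : ℂ) := by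
    have h := hnθ θ₀
    have h2 : ∑ u : UP, (θ₀ : P → ℂ) (u : P)
        = (Nat.card UP : ℂ) * ((Nat.card P : ℂ) / (Nat.card B : ℂ)) := by
      rw [Finset.sum_congr rfl (fun (u : UP) _ => indFun_apply_of_normal B UP hUB φ hφ (u : P) u.2)]
      simp [Finset.sum_const, Finset.card_univ, Nat.card_eq_fintype_card]
    rw [h2] at h
    have h3 : (Nat.card P : ℂ) / (Nat.card B : ℂ) = (nθ θ₀ : ℂ) := by
      have := mul_left_cancel₀ hUP (h.trans (mul_comm _ _))
      exact this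
    rw [← h3]
    field_simp
  have hn0' : nθ θ₀ * Nat.card B = Nat.card P := by exact_mod_cast hn0
  have hge : m θ₀ * nθ θ₀ ≤ k := by
    rw [hk']
    exact Finset.single_le_sum (f := fun θ => m θ * nθ θ) (fun _ _ => Nat.zero_le _)
      (Finset.mem_univ θ₀)
  calc Nat.card P = nθ θ₀ * Nat.card B := hn0'.symm
    _ ≤ (m θ₀ * nθ θ₀) * Nat.card B := by
        apply Nat.mul_le_mul_right
        exact Nat.le_mul_of_pos_left _ hm0
    _ ≤ k * Nat.card B := Nat.mul_le_mul_right _ hge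

end Cfsg.Agent.Lib.Helper9.SLR
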