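import Mathlib
import Cfsg.Agent.Lib.Helper9.SLR1

/-!
# S4538 / S2440 farm, unit R (rank-one step), the norm of `Ind_B^P φ` for `P = B ∪ BsB`

If `P = B ∪ B s B` and the linear character `φ` of `B` is not `s`-stable on `B ∩ s⁻¹ B s`,
then `Ind_B^P φ` has norm one.
-/

set_option autoImplicit false

namespace Cfsg.Agent.Lib.Helper9.SLR

open Cfsg.Agent.Lib.Helper6
open scoped ComplexConjugate

variable {P : Type*} [Group P] [Fintype P]

theorem lin_mul {H : Type*} [Group H] (φ : H →* ℂˣ) (a b : H) :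
    lin φ (a * b) = lin φ a * lin φ b := by
  unfold lin
  rw [map_mul]
  simp

theorem lin_ne_zero {H : Type*} [Group H] (φ : H →* ℂˣ) (a : H) : lin φ a ≠ 0 := by
  unfold lin
  exact Units.ne_zero _

theorem lin_mul_conj {H : Type*} [Group H] [Finite H] (φ : H →* ℂˣ) (a : H) :
    lin φ a * conj (lin φ a) = 1 := by
  have h1 : (φ a) ^ (Nat.card H) = 1 := by
    rw [← map_pow, pow_card_eq_one', map_one]
  have h2 : (lin φ a) ^ (Nat.card H) = 1 := by
    unfold lin
    have := congrArg (fun u : ℂˣ => (u : ℂ)) h1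
    simpa using this
  have h3 : ‖lin φ a‖ = 1 :=
    Complex.norm_eq_one_of_pow_eq_one h2 (Nat.card_pos.ne')
  rw [Complex.mul_conj, Complex.normSq_eq_norm_sq, h3]
  simp

theorem lin_conj_eq {H : Type*} [Group H] (φ : H →* ℂˣ) (c b : H) :
    lin φ (c⁻¹ * b * c) = lin φ b := by
  unfold lin
  rw [map_mul, map_mul, map_inv]
  simp [mul_comm]

/-- `extendByZero` of a linear character is invariant under conjugation by elements of `B`. -/
theorem ext_conj_mem (B : Subgroup P) (φ : B →* ℂˣ) (c : P) (hc : c ∈ B) (g : P) :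
    Cfsg.extendByZero B (lin φ) (c⁻¹ * g * c) = Cfsg.extendByZero B (lin φ) g := by
  by_cases hg : g ∈ B
  · have h1 : c⁻¹ * g * c ∈ B := B.mul_mem (B.mul_mem (B.inv_mem hc) hg) hc
    rw [extendByZero_of_mem B _ h1, extendByZero_of_mem B _ hg]
    have : (⟨c⁻¹ * g * c, h1⟩ : B) = (⟨c, hc⟩ : B)⁻¹ * ⟨g, hg⟩ * ⟨c, hc⟩ := rfl
    rw [this, lin_conj_eq]
  · have h1 : c⁻¹ * g * c ∉ B := by
      intro h
      apply hg
      have := B.mul_mem (B.mul_mem hc h) (B.inv_mem hc)
      simpa [mul_assoc] using this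
    rw [extendByZero_of_not_mem B _ h1, extendByZero_of_not_mem B _ hg]

/-- `extendByZero` of a linear character and left multiplication by an element of `B`. -/
theorem ext_mul_left (B : Subgroup P) (φ : B →* ℂˣ) (y : B) (g : P) :
    Cfsg.extendByZero B (lin φ) ((y : P) * g) = lin φ y * Cfsg.extendByZero B (lin φ) g := by
  by_cases hg : g ∈ B
  · have h1 : (y : P) * g ∈ B := B.mul_mem y.2 hg
    rw [extendByZero_of_mem B _ h1, extendByZero_of_mem B _ hg]
    have : (⟨(y : P) * g, h1⟩ : B) = y * ⟨g, hg⟩ := rfl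
    rw [this, lin_mul]
  · have h1 : (y : P) * g ∉ B := by
      intro h
      apply hg
      have := B.mul_mem (B.inv_mem y.2) h
      simpa using this
    rw [extendByZero_of_not_mem B _ h1, extendByZero_of_not_mem B _ hg, mul_zero]

/-- The `s`-twisted sum vanishes when `φ` is not `s`-stable. -/
theorem twisted_sum_eq_zero (B : Subgroup P) [Fintype B] (φ : B →* ℂˣ) (s : P)
    (y₀ : B) (hy₀ : s * y₀ * s⁻¹ ∈ B) (hne : φ ⟨s * y₀ * s⁻¹, hy₀⟩ ≠ φ y₀) :
    ∑ b : B, lin φ b * conj (Cfsg.extendByZero B (lin φ) (s⁻¹ * (b : P) * s)) = 0 := by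
  set t : B := ⟨s * y₀ * s⁻¹, hy₀⟩ with ht
  set Z := ∑ b : B, lin φ b * conj (Cfsg.extendByZero B (lin φ) (s⁻¹ * (b : P) * s)) with hZ
  have h1 : Z = ∑ b : B, lin φ (t * b) *
      conj (Cfsg.extendByZero B (lin φ) (s⁻¹ * ((t * b : B) : P) * s)) := by
    rw [hZ]
    exact (Fintype.sum_equiv (Equiv.mulLeft t) _ _ (fun b => rfl)).symm
  have h2 : ∀ b : B, lin φ (t * b) *
      conj (Cfsg.extendByZero B (lin φ) (s⁻¹ * ((t * b : B) : P) * s))
      = (lin φ t * conj (lin φ y₀)) *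
        (lin φ b * conj (Cfsg.extendByZero B (lin φ) (s⁻¹ * (b : P) * s))) := by
    intro b
    have e1 : s⁻¹ * ((t * b : B) : P) * s = (y₀ : P) * (s⁻¹ * (b : P) * s) := by
      rw [ht]
      simp only [Subgroup.coe_mul]
      group
    rw [e1, ext_mul_left, lin_mul, map_mul]
    ring
  rw [Finset.sum_congr rfl (fun b _ => h2 b), ← Finset.mul_sum, ← hZ] at h1
  have h3 : lin φ t * conj (lin φ y₀) ≠ 1 := by
    intro h
    apply hne
    have h4 : lin φ t * conj (lin φ y₀) * lin φ y₀ = lin φ y₀ := by rw [h, one_mul]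
    have h5 : conj (lin φ y₀) * lin φ y₀ = 1 := by
      rw [mul_comm]; exact lin_mul_conj φ y₀
    rw [mul_assoc, h5, mul_one] at h4
    unfold lin at h4
    exact Units.ext h4
  have h6 : (1 - lin φ t * conj (lin φ y₀)) * Z = 0 := by
    rw [sub_mul, one_mul, ← h1, sub_self]
  rcases mul_eq_zero.mp h6 with h | h
  · exfalso
    apply h3
    exact (sub_eq_zero.mp h).symm
  · exact h

/-- **Norm of `Ind_B^P φ`** for `P = B ∪ B s B` and `φ` not `s`-stable. -/
theorem norm_indFun_eq_one (B : Subgroup P) [Fintype B] (φ : B →* ℂˣ) (s : P)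
    (hcov : ∀ g : P, g ∈ B ∨ ∃ b₁ ∈ B, ∃ b₂ ∈ B, g = b₁ * s * b₂)
    (y₀ : B) (hy₀ : s * y₀ * s⁻¹ ∈ B) (hne : φ ⟨s * y₀ * s⁻¹, hy₀⟩ ≠ φ y₀) :
    Cfsg.classInner (Cfsg.indFun B (lin φ)) (Cfsg.indFun B (lin φ)) = 1 := by
  classical
  have hφirr : Cfsg.IsIrrCharacter B (lin φ) := isIrrCharacter_of_hom φ
  have hθch : Cfsg.IsCharacter P (Cfsg.indFun B (lin φ)) :=
    IsCharacter.indFun B (IsIrrCharacter.isCharacter hφirr)
  rw [Cfsg.Agent.Lib.Helper6.IndFunMore.classInner_indFun B (lin φ) _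
    (IsCharacter.isClassFunction hθch)]
  have hB : (Nat.card B : ℂ) ≠ 0 := card_ne_zero_complex B
  -- the inner sums
  have hS : ∀ x : P, ∑ b : B, lin φ b *
      conj (Cfsg.extendByZero B (lin φ) (x⁻¹ * (b : P) * x))
      = if x ∈ B then (Nat.card B : ℂ) else 0 := by
    intro x
    by_cases hx : x ∈ B
    · rw [if_pos hx]
      have : ∀ b : B, lin φ b * conj (Cfsg.extendByZero B (lin φ) (x⁻¹ * (b : P) * x)) = 1 := by
        intro b
        rw [ext_conj_mem B φ x hx, extendByZero_coe, lin_mul_conj]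
      rw [Finset.sum_congr rfl (fun b _ => this b)]
      simp [Finset.sum_const, Finset.card_univ, Nat.card_eq_fintype_card]
    · rw [if_neg hx]
      rcases hcov x with h | ⟨b₁, hb₁, b₂, hb₂, hxe⟩
      · exact absurd h hx
      · rw [← twisted_sum_eq_zero B φ s y₀ hy₀ hne]
        -- reindex b ↦ b₁ b b₁⁻¹
        let c : B := ⟨b₁, hb₁⟩
        refine (Fintype.sum_equiv (MulAut.conj c⁻¹).toEquiv _ _ ?_)
        intro b
        simp only [MulEquiv.toEquiv_eq_coe, EquivLike.coe_coe, MulAut.conj_apply, inv_inv]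
        have e1 : x⁻¹ * (b : P) * x
            = b₂⁻¹ * (s⁻¹ * ((c⁻¹ * b * c : B) : P) * s) * b₂ := by
          rw [hxe]
          simp only [Subgroup.coe_mul, Subgroup.coe_inv, c]
          group
        rw [e1, ext_conj_mem B φ b₂ hb₂, lin_conj_eq]
  have hexp : ∀ b : B, lin φ b * conj (Cfsg.indFun B (lin φ) (b : P))
      = (Nat.card B : ℂ)⁻¹ * ∑ x : P, lin φ b *
        conj (Cfsg.extendByZero B (lin φ) (x⁻¹ * (b : P) * x)) := by
    intro b
    unfold Cfsg.indFun
    rw [map_mul, map_inv₀, Complex.conj_natCast, map_sum, Finset.mul_sum, Finset.mul_sum,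
      Finset.mul_sum]
    apply Finset.sum_congr rfl
    intro x _
    ring
  rw [Finset.sum_congr rfl (fun b _ => hexp b), ← Finset.mul_sum, Finset.sum_comm,
    Finset.sum_congr rfl (fun x _ => hS x)]
  rw [Finset.sum_ite, Finset.sum_const_zero, add_zero, Finset.sum_const]
  have hcard : (Finset.univ.filter (fun x : P => x ∈ B)).card = Nat.card B := by
    rw [Nat.card_eq_fintype_card, Fintype.card_subtype]
  rw [hcard]
  simp only [nsmul_eq_mul]
  field_simp

end Cfsg.Agent.Lib.Helper9.SLR
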