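import Mathlib
import Cfsg.Agent.Lib.Helper9.SLR1
import Cfsg.Agent.Lib.Helper9.SLR2
import Cfsg.Agent.Lib.Helper6.Auto

/-!
# S4538 / S2440 farm, unit R (rank-one step), final forms

* `rank_one`: inside a finite group `P = B ∪ B s B` with `UP ≤ B`, `UP ⊴ P`, `φ : B →* ℂˣ` trivial
  on `UP`, `χ` a character of `P` with `⟨χ|_B, φ⟩ ≠ 0` and `⟨χ|_UP, 1⟩ = k`, `k |B| < |P|`:
  `φ (s y s⁻¹) = φ y` whenever `y, s y s⁻¹ ∈ B`.
* `rank_one_ambient`: the same with `UP ≤ B ≤ P` subgroups of an ambient finite group `G` and `χ`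
  a character of `G`.
-/

set_option autoImplicit false

namespace Cfsg.Agent.Lib.Helper9.SLR

open Cfsg.Agent.Lib.Helper6
open scoped ComplexConjugate

/-- **R**, inside `P`. -/
theorem rank_one {P : Type*} [Group P] [Fintype P] (B UP : Subgroup P) [Fintype B] [Fintype UP]
    (hUB : UP ≤ B) [hn : UP.Normal] (φ : B →* ℂˣ)
    (hφ : ∀ u : B, (u : P) ∈ UP → φ u = 1)
    (s : P) (hcov : ∀ g : P, g ∈ B ∨ ∃ b₁ ∈ B, ∃ b₂ ∈ B, g = b₁ * s * b₂)
    (χ : P → ℂ) (hχ : Cfsg.IsCharacter P χ)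
    (h1 : Cfsg.classInner (fun b : B => χ (b : P)) (lin φ) ≠ 0)
    (k : ℕ) (hk : ∑ u : UP, χ (u : P) = (k : ℂ) * (Nat.card UP : ℂ))
    (hlt : k * Nat.card B < Nat.card P)
    (y : B) (hy : s * (y : P) * s⁻¹ ∈ B) : φ ⟨s * (y : P) * s⁻¹, hy⟩ = φ y := by
  by_contra hne
  have hnorm := norm_indFun_eq_one B φ s hcov y hy hne
  have := rank_one_core B UP hUB φ hφ hnorm χ hχ h1 k hk
  omega

/-- **R**, in an ambient group `G ⊇ P ⊇ B ⊇ UP`. -/
theorem rank_one_ambient {G : Type*} [Group G] [Fintype G] (P B UP : Subgroup G)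
    [Fintype P] [Fintype B] [Fintype UP]
    (hBP : B ≤ P) (hUB : UP ≤ B)
    (hnorm : ∀ p ∈ P, ∀ u ∈ UP, p * u * p⁻¹ ∈ UP)
    (φ : B →* ℂˣ) (hφ : ∀ u : B, (u : G) ∈ UP → φ u = 1)
    (s : G) (hs : s ∈ P)
    (hcov : ∀ g ∈ P, g ∈ B ∨ ∃ b₁ ∈ B, ∃ b₂ ∈ B, g = b₁ * s * b₂)
    (χ : G → ℂ) (hχ : Cfsg.IsCharacter G χ)
    (h1 : Cfsg.classInner (fun b : B => χ (b : G)) (lin φ) ≠ 0)
    (k : ℕ) (hk : ∑ u : UP, χ (u : G) = (k : ℂ) * (Nat.card UP : ℂ))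
    (hlt : k * Nat.card B < Nat.card P)
    (y : B) (hy : s * (y : G) * s⁻¹ ∈ B) : φ ⟨s * (y : G) * s⁻¹, hy⟩ = φ y := by
  classical
  -- the data inside `↥P`
  let B' : Subgroup P := B.subgroupOf P
  let UP' : Subgroup P := UP.subgroupOf P
  let e : B' ≃* B := Subgroup.subgroupOfEquivOfLe hBP
  let eU : UP' ≃* UP := Subgroup.subgroupOfEquivOfLe (hUB.trans hBP)
  let φ' : B' →* ℂˣ := φ.comp e.toMonoidHom
  let s' : P := ⟨s, hs⟩
  have hUB' : UP' ≤ B' := fun x hx => hUB hx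
  have hn' : UP'.Normal := by
    constructor
    intro u hu p
    exact hnorm (p : G) p.2 (u : G) hu
  have hφ' : ∀ u : B', ((u : P)) ∈ UP' → φ' u = 1 := by
    intro u hu
    exact hφ (e u) hu
  have hcov' : ∀ g : P, g ∈ B' ∨ ∃ b₁ ∈ B', ∃ b₂ ∈ B', g = b₁ * s' * b₂ := by
    intro g
    rcases hcov (g : G) g.2 with h | ⟨b₁, hb₁, b₂, hb₂, hg⟩
    · exact Or.inl h
    · refine Or.inr ⟨⟨b₁, hBP hb₁⟩, hb₁, ⟨b₂, hBP hb₂⟩, hb₂, ?_⟩
      exact Subtype.ext hg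
  have hχ' : Cfsg.IsCharacter P (fun p : P => χ (p : G)) := IsCharacter.restrict P hχ
  have h1' : Cfsg.classInner (fun b : B' => (fun p : P => χ (p : G)) (b : P)) (lin φ') ≠ 0 := by
    have := classInner_comp_mulEquiv e (fun b : B => χ (b : G)) (lin φ)
    intro h0
    apply h1
    rw [← this]
    exact h0
  have hcardU : Nat.card UP' = Nat.card UP := Nat.card_congr eU.toEquiv
  have hcardB : Nat.card B' = Nat.card B := Nat.card_congr e.toEquiv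
  have hk' : ∑ u : UP', (fun p : P => χ (p : G)) (u : P) = (k : ℂ) * (Nat.card UP' : ℂ) := by
    rw [hcardU, ← hk]
    exact Fintype.sum_equiv eU.toEquiv _ _ (fun _ => rfl)
  have hlt' : k * Nat.card B' < Nat.card P := by rw [hcardB]; exact hlt
  let y' : B' := e.symm y
  have hy' : s' * (y' : P) * s'⁻¹ ∈ B' := by
    show ((s' * (y' : P) * s'⁻¹ : P) : G) ∈ B
    have : (((y' : B') : P) : G) = (y : G) := by
      have := e.apply_symm_apply y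
      exact congrArg Subtype.val this
    simp only [Subgroup.coe_mul, Subgroup.coe_inv, this]
    exact hy
  have key := @rank_one P _ _ B' UP' _ _ hUB' hn' φ' hφ' s' hcov' _ hχ' h1' k hk' hlt' y' hy'
  -- transport back
  have e1 : φ' y' = φ y := by
    show φ (e (e.symm y)) = φ y
    rw [e.apply_symm_apply]
  have e2 : φ' ⟨s' * (y' : P) * s'⁻¹, hy'⟩ = φ ⟨s * (y : G) * s⁻¹, hy⟩ := by
    show φ (e ⟨s' * (y' : P) * s'⁻¹, hy'⟩) = φ ⟨s * (y : G) * s⁻¹, hy⟩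
    congr 1
  rw [← e1, ← e2]
  exact key

end Cfsg.Agent.Lib.Helper9.SLR
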