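import Mathlib
import Cfsg.Agent.Lib.Helper6.Multiplicity
import Cfsg.Agent.Lib.Helper6.Norm

/-!
# S4538 / S2440 farm, unit X2: multiplicities versus inner products of characters

For characters `A`, `C` and an irreducible `χ`: `⟨A,χ⟩ ⟨C,χ⟩ ≤ ⟨A,C⟩`; and if two distinct
irreducible characters are common constituents of `A` and `C` then `2 ≤ ⟨A,C⟩`.
-/

set_option autoImplicit false

namespace Cfsg.Agent.Lib.Helper9.SLX2

open Cfsg.Agent.Lib.Helper6

variable {G : Type*} [Group G] [Fintype G]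

/-- The inner product of two characters in terms of their multiplicities. -/
theorem classInner_eq_sum_mult [Fintype (Cfsg.IrrCharacter G)] {A C : G → ℂ}
    (hA : Cfsg.IsCharacter G A) (hC : Cfsg.IsCharacter G C) :
    ∃ a c : Cfsg.IrrCharacter G → ℕ,
      (∀ θ : Cfsg.IrrCharacter G, Cfsg.classInner A (θ : G → ℂ) = a θ) ∧
      (∀ θ : Cfsg.IrrCharacter G, Cfsg.classInner C (θ : G → ℂ) = c θ) ∧
      Cfsg.classInner A C = ((∑ θ, a θ * c θ : ℕ) : ℂ) := by
  obtain ⟨a, hAa, ha⟩ := IsCharacter.exists_mult hA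
  obtain ⟨c, hCc, hc⟩ := IsCharacter.exists_mult hC
  refine ⟨a, c, ha, hc, ?_⟩
  conv_lhs => rw [hAa, hCc]
  exact classInner_sum_irr a c

/-- **X2**: `⟨A,χ⟩ ⟨C,χ⟩ ≤ ⟨A,C⟩`. -/
theorem mul_le_classInner {A C : G → ℂ} (hA : Cfsg.IsCharacter G A) (hC : Cfsg.IsCharacter G C)
    (χ : Cfsg.IrrCharacter G) (a c n : ℕ)
    (ha : Cfsg.classInner A (χ : G → ℂ) = a) (hc : Cfsg.classInner C (χ : G → ℂ) = c)
    (hn : Cfsg.classInner A C = n) : a * c ≤ n := by
  classical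
  have : Fintype (Cfsg.IrrCharacter G) := Fintype.ofFinite _
  obtain ⟨a', c', ha', hc', hAC⟩ := classInner_eq_sum_mult hA hC
  have h1 : a' χ = a := by
    have := (ha' χ).symm.trans ha
    exact_mod_cast this
  have h2 : c' χ = c := by
    have := (hc' χ).symm.trans hc
    exact_mod_cast this
  have h3 : (∑ θ, a' θ * c' θ : ℕ) = n := by
    have := hAC.symm.trans hn
    exact_mod_cast this
  rw [← h3, ← h1, ← h2]
  exact Finset.single_le_sum (f := fun θ => a' θ * c' θ) (fun _ _ => Nat.zero_le _)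
    (Finset.mem_univ χ)

/-- **X2**, two-constituent form: two distinct common irreducible constituents force
`2 ≤ ⟨A,C⟩`. -/
theorem two_le_classInner {A C : G → ℂ} (hA : Cfsg.IsCharacter G A) (hC : Cfsg.IsCharacter G C)
    (χ₁ χ₂ : Cfsg.IrrCharacter G) (hne : χ₁ ≠ χ₂)
    (hA1 : Cfsg.classInner A (χ₁ : G → ℂ) ≠ 0) (hA2 : Cfsg.classInner A (χ₂ : G → ℂ) ≠ 0)
    (hC1 : Cfsg.classInner C (χ₁ : G → ℂ) ≠ 0) (hC2 : Cfsg.classInner C (χ₂ : G → ℂ) ≠ 0)
    (n : ℕ) (hn : Cfsg.classInner A C = n) : 2 ≤ n := by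
  classical
  have : Fintype (Cfsg.IrrCharacter G) := Fintype.ofFinite _
  obtain ⟨a', c', ha', hc', hAC⟩ := classInner_eq_sum_mult hA hC
  have h3 : (∑ θ, a' θ * c' θ : ℕ) = n := by
    have := hAC.symm.trans hn
    exact_mod_cast this
  have pos : ∀ θ : Cfsg.IrrCharacter G, Cfsg.classInner A (θ : G → ℂ) ≠ 0 →
      Cfsg.classInner C (θ : G → ℂ) ≠ 0 → 1 ≤ a' θ * c' θ := by
    intro θ h1 h2
    have e1 : a' θ ≠ 0 := by
      intro h0
      apply h1
      rw [ha' θ, h0]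
      simp
    have e2 : c' θ ≠ 0 := by
      intro h0
      apply h2
      rw [hc' θ, h0]
      simp
    exact Nat.one_le_iff_ne_zero.mpr (Nat.mul_ne_zero e1 e2)
  have hsub : ∑ θ ∈ ({χ₁, χ₂} : Finset (Cfsg.IrrCharacter G)), a' θ * c' θ ≤
      ∑ θ, a' θ * c' θ :=
    Finset.sum_le_sum_of_subset (Finset.subset_univ _)
  rw [Finset.sum_pair hne] at hsub
  have p1 := pos χ₁ hA1 hC1
  have p2 := pos χ₂ hA2 hC2
  omega

end Cfsg.Agent.Lib.Helper9.SLX2
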