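import Mathlib
import Cfsg.Agent.Lib.Helper9.SLX2
import Cfsg.Agent.Lib.Helper9.SLR3

/-!
# S4538 / S2440 farm: units X2a, X2b, R in the verbatim shapes of helper2's stub file
(`tools/helper2/S4538_stubs.lean.txt`).
-/

set_option autoImplicit false

namespace Cfsg.Agent.Lib.Helper9.SLV

open Cfsg Cfsg.Agent.Lib.Helper6 Cfsg.Agent.Lib.Helper9.SLR Cfsg.Agent.Lib.Helper9.SLX2

variable {G : Type*} [Group G] [Fintype G]

/-- X2a -/
theorem x2_mult_le (A C : G → ℂ) (hA : IsCharacter G A) (hC : IsCharacter G C)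
    (χ : IrrCharacter G) :
    (classInner A χ.1).re * (classInner C χ.1).re ≤ (classInner A C).re := by
  obtain ⟨a, ha⟩ := IsCharacter.classInner_irr_nat hA χ.2
  obtain ⟨c, hc⟩ := IsCharacter.classInner_irr_nat hC χ.2
  obtain ⟨n, hn⟩ := IsCharacter.classInner_nat hA hC
  have h := mul_le_classInner hA hC χ a c n ha hc hn
  rw [ha, hc, hn]
  simp only [Complex.natCast_re]
  exact_mod_cast h

/-- X2b -/
theorem x2_two (A C : G → ℂ) (hA : IsCharacter G A) (hC : IsCharacter G C)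
    (χ χ' : IrrCharacter G) (hne : χ ≠ χ')
    (h1 : 1 ≤ (classInner A χ.1).re) (h2 : 1 ≤ (classInner C χ.1).re)
    (h1' : 1 ≤ (classInner A χ'.1).re) (h2' : 1 ≤ (classInner C χ'.1).re) :
    2 ≤ (classInner A C).re := by
  obtain ⟨n, hn⟩ := IsCharacter.classInner_nat hA hC
  have nz : ∀ z : ℂ, 1 ≤ z.re → z ≠ 0 := by
    intro z hz h0
    rw [h0] at hz
    simp at hz
    linarith
  have h := two_le_classInner hA hC χ χ' hne (nz _ h1) (nz _ h1') (nz _ h2) (nz _ h2') n hn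
  rw [hn]
  simp only [Complex.natCast_re]
  exact_mod_cast h

/-- R: the rank-one lemma. -/
theorem r_rank_one (UP B P : Subgroup G) [Fintype UP] [Fintype B] [Fintype P]
    (hUB : UP ≤ B) (hBP : B ≤ P) (hUPn : ∀ g ∈ P, ∀ u ∈ UP, g * u * g⁻¹ ∈ UP)
    (s : G) (hs : s ∈ P) (hcov : ∀ g ∈ P, g ∈ B ∨ ∃ b ∈ B, ∃ b' ∈ B, g = b * s * b')
    (φ : B →* ℂˣ) (hφ : ∀ b : B, (b : G) ∈ UP → φ b = 1)
    (χ : G → ℂ) (hχ : IsCharacter G χ)
    (h1 : 1 ≤ (classInner (fun b : B => χ b) (fun b : B => ((φ b : ℂˣ) : ℂ))).re)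
    (hk : (∑ u : UP, χ u).re * (Nat.card B : ℝ) < (Nat.card UP : ℝ) * (Nat.card P : ℝ))
    (y : G) (hy : y ∈ B) (hsy : s * y * s⁻¹ ∈ B) :
    φ ⟨s * y * s⁻¹, hsy⟩ = φ ⟨y, hy⟩ := by
  obtain ⟨k, hk'⟩ := sum_subgroup_nat UP hχ
  have h1' : classInner (fun b : B => χ (b : G)) (lin φ) ≠ 0 := by
    intro h0
    have : (classInner (fun b : B => χ b) (fun b : B => ((φ b : ℂˣ) : ℂ))) = 0 := h0
    rw [this] at h1
    simp at h1
    linarith
  have hUPpos : (0 : ℝ) < (Nat.card UP : ℝ) := by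
    exact_mod_cast Nat.card_pos
  have hlt : k * Nat.card B < Nat.card P := by
    rw [hk'] at hk
    have e : ((k : ℂ) * (Nat.card UP : ℂ)).re = (k : ℝ) * (Nat.card UP : ℝ) := by
      simp
    rw [e] at hk
    have h2 : (Nat.card UP : ℝ) * ((k : ℝ) * (Nat.card B : ℝ))
        < (Nat.card UP : ℝ) * (Nat.card P : ℝ) := by
      calc (Nat.card UP : ℝ) * ((k : ℝ) * (Nat.card B : ℝ))
          = (k : ℝ) * (Nat.card UP : ℝ) * (Nat.card B : ℝ) := by ring
        _ < _ := hk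
    have h3 := lt_of_mul_lt_mul_left h2 hUPpos.le
    exact_mod_cast h3
  exact rank_one_ambient P B UP hBP hUB hUPn φ hφ s hs hcov χ hχ h1' k hk' hlt ⟨y, hy⟩ hsy

end Cfsg.Agent.Lib.Helper9.SLV
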