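import Mathlib
import Cfsg.Prelude

set_option autoImplicit false
set_option linter.unusedSectionVars false
set_option linter.unusedVariables false
open Cfsg

namespace Cfsg.Agent.Lib.Helper9.ALB

/-! Local balance: abstract lemmas on the `p'`-core of a centraliser. -/

section abstractlb

theorem pPrimeCore_ne_bot_iff' (G : Type*) [Group G] (p : ℕ) :
    Cfsg.pPrimeCore p G ≠ ⊥ ↔ ∃ N : Subgroup G, N.Normal ∧ N ≠ ⊥ ∧ (Nat.card N).Coprime p := by
  constructor
  · intro h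
    by_contra hno
    apply h
    unfold Cfsg.pPrimeCore
    rw [eq_bot_iff]
    apply sSup_le
    rintro N ⟨hNn, hNc⟩
    by_contra hne
    apply hno
    refine ⟨N, hNn, ?_, hNc⟩
    intro h0
    apply hne
    rw [h0]
  · rintro ⟨N, hNn, hN0, hNc⟩ h
    apply hN0
    have h1 : N ≤ Cfsg.pPrimeCore p G := le_sSup ⟨hNn, hNc⟩
    rw [h] at h1
    exact le_bot_iff.mp h1

theorem pPrimeCore_ne_bot_of_equiv {G H : Type*} [Group G] [Group H] (e : G ≃* H) (p : ℕ)
    (h : Cfsg.pPrimeCore p G ≠ ⊥) : Cfsg.pPrimeCore p H ≠ ⊥ := by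
  rw [pPrimeCore_ne_bot_iff'] at h ⊢
  obtain ⟨N, hNn, hN0, hNc⟩ := h
  refine ⟨N.map (e : G →* H), ?_, ?_, ?_⟩
  · exact Subgroup.Normal.map hNn _ e.surjective
  · intro h0
    apply hN0
    rw [Subgroup.map_eq_bot_iff_of_injective _ e.injective] at h0
    exact h0
  · rw [Subgroup.card_map_of_injective e.injective]
    exact hNc

theorem pPrimeCore_ne_bot_congr {G H : Type*} [Group G] [Group H] (e : G ≃* H) (p : ℕ) :
    Cfsg.pPrimeCore p G ≠ ⊥ ↔ Cfsg.pPrimeCore p H ≠ ⊥ :=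
  ⟨pPrimeCore_ne_bot_of_equiv e p, pPrimeCore_ne_bot_of_equiv e.symm p⟩

variable {Γ : Type*} [Group Γ]

/-- nontriviality of the `p'`-core of a subgroup, in terms of subgroups of the ambient group -/
theorem pPrimeCore_ne_bot_iff (C : Subgroup Γ) (p : ℕ) :
    Cfsg.pPrimeCore p ↥C ≠ ⊥ ↔ ∃ N : Subgroup Γ, N ≤ C ∧ N ≠ ⊥ ∧
      (∀ c ∈ C, ∀ n ∈ N, c * n * c⁻¹ ∈ N) ∧ (Nat.card N).Coprime p := by
  rw [pPrimeCore_ne_bot_iff']
  constructor
  · rintro ⟨N', hN'n, hN'0, hN'c⟩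
    refine ⟨N'.map C.subtype, ?_, ?_, ?_, ?_⟩
    · rintro _ ⟨n, -, rfl⟩
      exact n.2
    · intro h0
      apply hN'0
      rw [Subgroup.map_eq_bot_iff_of_injective _ C.subtype_injective] at h0
      exact h0
    · rintro c hc _ ⟨n, hn, rfl⟩
      exact ⟨⟨c, hc⟩ * n * ⟨c, hc⟩⁻¹, hN'n.conj_mem n hn ⟨c, hc⟩, rfl⟩
    · rw [Subgroup.card_map_of_injective C.subtype_injective]
      exact hN'c
  · rintro ⟨N, hNC, hN0, hNn, hNc⟩
    refine ⟨N.subgroupOf C, ⟨fun n hn g => ?_⟩, ?_, ?_⟩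
    · exact hNn g.1 g.2 n.1 hn
    · intro h0
      apply hN0
      rw [Subgroup.subgroupOf_eq_bot] at h0
      rw [eq_bot_iff]
      intro n hn
      exact h0.le_bot ⟨hn, hNC hn⟩
    · rw [Nat.card_congr (Subgroup.subgroupOfEquivOfLe hNC).toEquiv]
      exact hNc

theorem map_centralizer_single' {A B : Type*} [Group A] [Group B] (Ψ : A ≃* B) (x : A) :
    (Subgroup.centralizer {x}).map (Ψ : A →* B) = Subgroup.centralizer {Ψ x} := by
  ext y
  simp only [Subgroup.mem_map, Subgroup.mem_centralizer_iff, Set.mem_singleton_iff, forall_eq]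
  constructor
  · rintro ⟨c, hc, rfl⟩
    show Ψ x * Ψ c = Ψ c * Ψ x
    rw [← map_mul, ← map_mul, hc]
  · intro hy
    refine ⟨Ψ.symm y, ?_, Ψ.apply_symm_apply y⟩
    apply Ψ.injective
    rw [map_mul, map_mul, Ψ.apply_symm_apply]
    exact hy

/-- the centraliser of a conjugate -/
noncomputable def centConjEquiv (A : Subgroup Γ) (α φ : Γ) :
    ↥(A.comap ((MulAut.conj α : Γ ≃* Γ) : Γ →* Γ) ⊓ Subgroup.centralizer {φ}) ≃*
      ↥(A ⊓ Subgroup.centralizer {α * φ * α⁻¹}) :=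
  ((A.comap ((MulAut.conj α : Γ ≃* Γ) : Γ →* Γ) ⊓
      Subgroup.centralizer {φ}).equivMapOfInjective ((MulAut.conj α : Γ ≃* Γ) : Γ →* Γ)
        (MulAut.conj α).injective).trans
    (MulEquiv.subgroupCongr (by
      rw [Subgroup.map_inf_eq _ _ _ (MulAut.conj α).injective, map_centralizer_single',
        Subgroup.map_comap_eq_self_of_surjective (MulAut.conj α).surjective]
      rfl))

/-- **the abstract local balance lemma**: a normal `p'`-subgroup of `C` is trivial, provided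
`C` contains a normal subgroup `I₀` with a normal subgroup `E = π(S)` whose centraliser is a
group `Z` of order `p` meeting `I₀` trivially, such that `S` has the Iwasawa dichotomy, an
abelianisation of exponent prime to `p`, and `E` has an element of order `p`. -/
theorem core_trivial [Finite Γ] {S : Type*} [Group S] (π : S →* Γ) (C N I₀ Z : Subgroup Γ)
    (p r : ℕ) [hp : Fact p.Prime]
    (hNC : N ≤ C) (hNn : ∀ c ∈ C, ∀ n ∈ N, c * n * c⁻¹ ∈ N) (hcop : (Nat.card N).Coprime p)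
    (hIC : I₀ ≤ C) (hIn : ∀ c ∈ C, ∀ i ∈ I₀, c * i * c⁻¹ ∈ I₀)
    (hπI : ∀ s, π s ∈ I₀) (hπn : ∀ i ∈ I₀, ∀ s, ∃ s', i * π s * i⁻¹ = π s')
    (hIwa : ∀ M : Subgroup S, M.Normal → commutator S ≤ M ∨ M ≤ π.ker)
    (hexp : ∀ s : S, s ^ r ∈ commutator S) (hrp : Nat.Coprime r p)
    (hk : ∃ s₀ : S, orderOf (π s₀) = p)
    (hcent : ∀ y : Γ, (∀ s, y * π s = π s * y) → y ∈ Z)
    (hZ : Nat.card Z = p) (hZI : ∀ y, y ∈ Z → y ∈ I₀ → y = 1) : N = ⊥ := by
  have hpn : ¬ p ∣ Nat.card N := by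
    intro hdvd
    have h1 := Nat.Coprime.eq_one_of_dvd hcop.symm hdvd
    exact hp.out.one_lt.ne' h1
  have hcomm : ∀ n ∈ N, ∀ s, n * π s * n⁻¹ * (π s)⁻¹ ∈ N := by
    intro n hn s
    have h1 := hNn _ (hIC (hπI s)) _ (N.inv_mem hn)
    have h2 := N.mul_mem hn h1
    have e : n * π s * n⁻¹ * (π s)⁻¹ = n * (π s * n⁻¹ * (π s)⁻¹) := by group
    rw [e]
    exact h2
  -- step 1
  have step1 : ∀ z, z ∈ N → z ∈ I₀ → z = 1 := by
    obtain ⟨M, hM⟩ : ∃ M : Subgroup S, M = (N ⊓ I₀).comap π := ⟨_, rfl⟩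
    have hMn : M.Normal := by
      constructor
      intro s hs t
      rw [hM, Subgroup.mem_comap] at hs ⊢
      rw [map_mul, map_mul, map_inv]
      exact ⟨hNn _ (hIC (hπI t)) _ hs.1, hIn _ (hIC (hπI t)) _ hs.2⟩
    rcases hIwa M hMn with hcase | hcase
    · exfalso
      obtain ⟨s₀, hs₀⟩ := hk
      have h1 : s₀ ^ r ∈ M := hcase (hexp s₀)
      rw [hM, Subgroup.mem_comap, map_pow] at h1
      obtain ⟨a, -, ha⟩ := Nat.exists_mul_mod_eq_one_of_coprime hrp hp.out.one_lt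
      have h2 : (π s₀) ^ (r * a) = (π s₀) ^ 1 := by
        rw [pow_eq_pow_iff_modEq, hs₀]
        show r * a % p = 1 % p
        rw [ha, Nat.mod_eq_of_lt hp.out.one_lt]
      have h3 : π s₀ ∈ N := by
        have h4 := N.pow_mem h1.1 a
        rw [← pow_mul, h2, pow_one] at h4
        exact h4
      apply hpn
      rw [← hs₀]
      exact Subgroup.orderOf_dvd_natCard N h3
    · intro z hzN hzI
      apply hZI z _ hzI
      apply hcent
      intro s
      obtain ⟨s', hs'⟩ := hπn z hzI s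
      have h1 : s' * s⁻¹ ∈ M := by
        rw [hM, Subgroup.mem_comap, map_mul, map_inv, ← hs']
        exact ⟨hcomm z hzN s, I₀.mul_mem (hIn z (hIC hzI) _ (hπI s)) (I₀.inv_mem (hπI s))⟩
      have h2 := hcase h1
      rw [MonoidHom.mem_ker, map_mul, map_inv, ← hs'] at h2
      calc z * π s = (z * π s * z⁻¹ * (π s)⁻¹) * π s * z := by group
        _ = π s * z := by rw [h2, one_mul]
  -- step 2
  have hNZ : N ≤ Z := by
    intro n hn
    apply hcent
    intro s
    have h1 := step1 _ (hcomm n hn s)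
      (I₀.mul_mem (hIn n (hNC hn) _ (hπI s)) (I₀.inv_mem (hπI s)))
    calc n * π s = (n * π s * n⁻¹ * (π s)⁻¹) * π s * n := by group
      _ = π s * n := by rw [h1, one_mul]
  have h1 := Subgroup.card_dvd_of_le hNZ
  rw [hZ] at h1
  rcases (Nat.dvd_prime hp.out).mp h1 with h2 | h2
  · exact Subgroup.card_eq_one.mp h2
  · exact absurd (h2 ▸ dvd_refl _) hpn

end abstractlb

end Cfsg.Agent.Lib.Helper9.ALB
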