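import Mathlib

set_option autoImplicit false

/-! Automorphisms of `PSL_n(F)`: transvection algebra. -/

namespace Cfsg.Agent.Lib.Helper9.APSL

open Matrix

variable {F : Type*} [Field F] {n : ℕ}

local notation "Mn" => Matrix (Fin n) (Fin n) F
local notation "SLn" => Matrix.SpecialLinearGroup (Fin n) F
local notation "Vn" => (Fin n → F)

/-- the rank-one perturbation `1 + v φᵀ` -/
def tv (v φ : Vn) : Mn := 1 + vecMulVec v φ

theorem tv_apply (v φ : Vn) (i j : Fin n) : tv v φ i j = (if i = j then 1 else 0) + v i * φ j := by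
  simp [tv, Matrix.one_apply, vecMulVec_apply]

theorem det_tv (v φ : Vn) : (tv v φ).det = 1 + φ ⬝ᵥ v := by
  have := det_one_add_replicateCol_mul_replicateRow (ι := Unit) v φ
  rwa [← vecMulVec_eq] at this

theorem tv_mul_tv (v φ v' φ' : Vn) :
    tv v φ * tv v' φ' = 1 + vecMulVec v φ + vecMulVec v' φ' + (φ ⬝ᵥ v') • vecMulVec v φ' := by
  simp only [tv, mul_add, add_mul, one_mul, mul_one, vecMulVec_mul_vecMulVec, vecMulVec_smul]
  abel

theorem tv_mul_same_left (v φ φ' : Vn) (h : φ ⬝ᵥ v = 0) :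
    tv v φ * tv v φ' = tv v (φ + φ') := by
  rw [tv_mul_tv, h, zero_smul, add_zero, tv, vecMulVec_add, add_assoc]

theorem tv_mul_same_right (v v' φ : Vn) (h : φ ⬝ᵥ v' = 0) :
    tv v φ * tv v' φ = tv (v + v') φ := by
  rw [tv_mul_tv, h, zero_smul, add_zero, tv, add_vecMulVec, add_assoc]

theorem tv_zero_right (v : Vn) : tv v 0 = 1 := by simp [tv]
theorem tv_zero_left (φ : Vn) : tv 0 φ = 1 := by simp [tv]

theorem tv_smul_left (c : F) (v φ : Vn) : tv (c • v) φ = tv v (c • φ) := by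
  simp [tv, smul_vecMulVec, vecMulVec_smul]

theorem tv_mulVec (v φ w : Vn) : tv v φ *ᵥ w = w + (φ ⬝ᵥ w) • v := by
  rw [tv, add_mulVec, one_mulVec, vecMulVec_mulVec, op_smul_eq_smul]

theorem vecMul_tv (v φ ψ : Vn) : ψ ᵥ* tv v φ = ψ + (ψ ⬝ᵥ v) • φ := by
  rw [tv, vecMul_add, vecMul_one, vecMul_vecMulVec]

/-- conjugating a rank one perturbation -/
theorem conj_tv (g h : Mn) (hgh : g * h = 1) (v φ : Vn) :
    g * tv v φ * h = tv (g *ᵥ v) (φ ᵥ* h) := by
  simp only [tv, mul_add, add_mul, mul_one, hgh, mul_vecMulVec, vecMulVec_mul]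

/-- the transvection as an element of `SL` -/
def tvS (v φ : Vn) (h : φ ⬝ᵥ v = 0) : SLn := ⟨tv v φ, by rw [det_tv, h, add_zero]⟩

@[simp] theorem tvS_coe (v φ : Vn) (h : φ ⬝ᵥ v = 0) : ((tvS v φ h : SLn) : Mn) = tv v φ := rfl

theorem tvS_mul_same_left (v φ φ' : Vn) (h : φ ⬝ᵥ v = 0) (h' : φ' ⬝ᵥ v = 0) :
    tvS v φ h * tvS v φ' h' = tvS v (φ + φ') (by rw [add_dotProduct, h, h', add_zero]) := by
  apply Subtype.ext
  simp only [Matrix.SpecialLinearGroup.coe_mul, tvS_coe]
  exact tv_mul_same_left v φ φ' h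

theorem tvS_mul_same_right (v v' φ : Vn) (h : φ ⬝ᵥ v = 0) (h' : φ ⬝ᵥ v' = 0) :
    tvS v φ h * tvS v' φ h' = tvS (v + v') φ (by rw [dotProduct_add, h, h', add_zero]) := by
  apply Subtype.ext
  simp only [Matrix.SpecialLinearGroup.coe_mul, tvS_coe]
  exact tv_mul_same_right v v' φ h'

theorem tvS_inv (v φ : Vn) (h : φ ⬝ᵥ v = 0) :
    (tvS v φ h)⁻¹ = tvS v (-φ) (by rw [neg_dotProduct, h, neg_zero]) := by
  apply inv_eq_of_mul_eq_one_right
  rw [tvS_mul_same_left]
  apply Subtype.ext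
  simp [tv_zero_right]

theorem conj_tvS (g : SLn) (v φ : Vn) (h : φ ⬝ᵥ v = 0) :
    g * tvS v φ h * g⁻¹ = tvS ((g : Mn) *ᵥ v) (φ ᵥ* ((g⁻¹ : SLn) : Mn)) (by
      rw [← dotProduct_mulVec, mulVec_mulVec, ← Matrix.SpecialLinearGroup.coe_mul, inv_mul_cancel,
        Matrix.SpecialLinearGroup.coe_one, one_mulVec, h]) := by
  apply Subtype.ext
  simp only [Matrix.SpecialLinearGroup.coe_mul, tvS_coe]
  apply conj_tv
  rw [← Matrix.SpecialLinearGroup.coe_mul, mul_inv_cancel, Matrix.SpecialLinearGroup.coe_one]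

/-- a scalar multiple of a transvection is unipotent of class two only for the scalar one -/
theorem scalar_eq_one_of_sq (z : F) (v φ : Vn) (hn : 0 < n) (h : φ ⬝ᵥ v = 0)
    (hz : (z • tv v φ - 1) * (z • tv v φ - 1) = 0) : z = 1 := by
  have e : z • tv v φ - 1 = (z - 1) • (1 : Mn) + z • vecMulVec v φ := by
    simp only [tv, smul_add, sub_smul, one_smul]; abel
  rw [e] at hz
  have h2 : vecMulVec v φ * vecMulVec v φ = 0 := by
    rw [vecMulVec_mul_vecMulVec, h, zero_smul, vecMulVec_zero]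
  have e2 : ((z - 1) • (1 : Mn) + z • vecMulVec v φ) * ((z - 1) • (1 : Mn) + z • vecMulVec v φ)
      = ((z - 1) * (z - 1)) • (1 : Mn) + (2 * z * (z - 1)) • vecMulVec v φ := by
    simp only [mul_add, add_mul, smul_mul_assoc, mul_smul_comm, one_mul, mul_one, h2, smul_zero,
      add_zero, smul_smul]
    module
  rw [e2] at hz
  have h3 := congrArg (fun M : Mn => M *ᵥ v) hz
  simp only [add_mulVec, smul_mulVec, one_mulVec, vecMulVec_mulVec, zero_mulVec, h] at h3
  by_cases hv : v = 0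
  · subst hv
    simp only [zero_vecMulVec, smul_zero, add_zero] at hz
    have := congrFun (congrFun hz ⟨0, hn⟩) ⟨0, hn⟩
    simp only [Matrix.smul_apply, one_apply_eq, smul_eq_mul, mul_one, Matrix.zero_apply] at this
    have h4 : z - 1 = 0 := by
      rcases mul_eq_zero.mp this with h | h <;> exact h
    exact sub_eq_zero.mp h4
  · have h4 : ((z - 1) * (z - 1)) • v = 0 := by
      simpa using h3
    rcases smul_eq_zero.mp h4 with h5 | h5
    · have h6 : z - 1 = 0 := by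
        rcases mul_eq_zero.mp h5 with h | h <;> exact h
      exact sub_eq_zero.mp h6
    · exact absurd h5 hv

end Cfsg.Agent.Lib.Helper9.APSL
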