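import Mathlib
import Cfsg.Agent.Lib.Helper9.APSL1

set_option autoImplicit false

/-! Automorphisms of `PSL_n(F)`: passing to the quotient, small linear algebra. -/

namespace Cfsg.Agent.Lib.Helper9.APSL

open Matrix

variable {F : Type*} [Field F] {n : ℕ}

local notation "Mn" => Matrix (Fin n) (Fin n) F
local notation "SLn" => Matrix.SpecialLinearGroup (Fin n) F
local notation "PSLn" => Matrix.ProjectiveSpecialLinearGroup (Fin n) F
local notation "Vn" => (Fin n → F)

/-- the projection `SL → PSL` -/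
def mkP : SLn →* PSLn := QuotientGroup.mk' (Subgroup.center SLn)

theorem mkP_surjective : Function.Surjective (mkP : SLn → PSLn) := QuotientGroup.mk'_surjective _

theorem mkP_eq_iff (A B : SLn) :
    mkP A = mkP B ↔ ∃ r : F, r ^ n = 1 ∧ (B : Mn) = r • (A : Mn) := by
  unfold mkP
  rw [QuotientGroup.mk'_apply, QuotientGroup.mk'_apply, QuotientGroup.eq,
    Matrix.SpecialLinearGroup.mem_center_iff]
  simp only [Fintype.card_fin]
  constructor
  · rintro ⟨r, hr, h⟩
    refine ⟨r, hr, ?_⟩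
    have h2 : (A : Mn) * ((A⁻¹ * B : SLn) : Mn) = (B : Mn) := by
      rw [← Matrix.SpecialLinearGroup.coe_mul, mul_inv_cancel_left]
    rw [← h2, ← h]
    simp [Matrix.scalar_apply, Matrix.smul_eq_mul_diagonal]
  · rintro ⟨r, hr, h⟩
    refine ⟨r, hr, ?_⟩
    have h2 : ((A⁻¹ * B : SLn) : Mn) = ((A⁻¹ : SLn) : Mn) * (r • (A : Mn)) := by
      rw [Matrix.SpecialLinearGroup.coe_mul, h]
    rw [h2, Matrix.mul_smul, ← Matrix.SpecialLinearGroup.coe_mul, inv_mul_cancel,
      Matrix.SpecialLinearGroup.coe_one]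
    ext i j
    simp [Matrix.scalar_apply, Matrix.diagonal_apply, Matrix.one_apply]

/-- a scalar multiple of a transvection fixing a nonzero vector is the transvection itself -/
theorem scalar_eq_one_of_fix (r : F) (v φ x : Vn) (h : φ ⬝ᵥ v = 0) (hx : x ≠ 0)
    (hfix : (r • tv v φ) *ᵥ x = x) : r = 1 := by
  rw [smul_mulVec, tv_mulVec] at hfix
  by_contra hr
  have h1 := congrArg (fun w => φ ⬝ᵥ w) hfix
  simp only [dotProduct_smul, dotProduct_add, h, smul_eq_mul, mul_zero, add_zero] at h1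
  have h2 : φ ⬝ᵥ x = 0 := by
    have : (r - 1) * (φ ⬝ᵥ x) = 0 := by rw [sub_mul, h1, one_mul, sub_self]
    rcases mul_eq_zero.mp this with h | h
    · exact absurd (sub_eq_zero.mp h) hr
    · exact h
  rw [h2, zero_smul, add_zero] at hfix
  have h3 : (r - 1) • x = 0 := by rw [sub_smul, hfix, one_smul, sub_self]
  rcases smul_eq_zero.mp h3 with h | h
  · exact hr (sub_eq_zero.mp h)
  · exact hx h

theorem tv_fix (v φ x : Vn) (hx : φ ⬝ᵥ x = 0) : tv v φ *ᵥ x = x := by
  rw [tv_mulVec, hx, zero_smul, add_zero]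

/-- equal images of transvections in `PSL`: equal matrices -/
theorem tv_eq_of_mkP_eq (hn : 0 < n) (v φ v' φ' : Vn) (h : φ ⬝ᵥ v = 0) (h' : φ' ⬝ᵥ v' = 0)
    (he : mkP (tvS v φ h) = mkP (tvS v' φ' h')) : tv v φ = tv v' φ' := by
  obtain ⟨r, -, hr⟩ := (mkP_eq_iff _ _).mp he
  simp only [tvS_coe] at hr
  by_cases hv : v' = 0
  · subst hv
    rw [tv_zero_left] at hr
    have hx : (Pi.single ⟨0, hn⟩ 1 : Vn) ≠ 0 := by
      intro h0
      have := congrFun h0 ⟨0, hn⟩
      simp at this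
    have : r = 1 := by
      apply scalar_eq_one_of_fix r v φ _ h hx
      rw [← hr, one_mulVec]
    rw [this, one_smul] at hr
    rw [← hr, tv_zero_left]
  · have : r = 1 := by
      apply scalar_eq_one_of_fix r v φ v' h hv
      rw [← hr]
      exact tv_fix v' φ' v' h'
    rw [this, one_smul] at hr
    exact hr.symm

theorem tvS_eq_of_mkP_eq (hn : 0 < n) (v φ v' φ' : Vn) (h : φ ⬝ᵥ v = 0) (h' : φ' ⬝ᵥ v' = 0)
    (he : mkP (tvS v φ h) = mkP (tvS v' φ' h')) : tvS v φ h = tvS v' φ' h' :=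
  Subtype.ext (tv_eq_of_mkP_eq hn v φ v' φ' h h' he)

/-- commuting with a transvection modulo the centre means commuting -/
theorem commute_of_mkP_commute (hn : 0 < n) (g : SLn) (v φ : Vn) (h : φ ⬝ᵥ v = 0)
    (hc : mkP g * mkP (tvS v φ h) = mkP (tvS v φ h) * mkP g) :
    g * tvS v φ h = tvS v φ h * g := by
  have h1 : mkP (g * tvS v φ h * g⁻¹) = mkP (tvS v φ h) := by
    rw [map_mul, map_mul, hc, map_inv, mul_inv_cancel_right]
  rw [conj_tvS] at h1
  have h2 := tvS_eq_of_mkP_eq hn _ _ _ _ _ _ h1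
  rw [← conj_tvS g v φ h] at h2
  calc g * tvS v φ h = (g * tvS v φ h * g⁻¹) * g := by group
    _ = tvS v φ h * g := by rw [h2]

/-- equal rank one matrices -/
theorem vecMulVec_eq_imp (v φ v' φ' : Vn) (hv : v ≠ 0) (hφ : φ ≠ 0)
    (he : vecMulVec v φ = vecMulVec v' φ') :
    ∃ c : F, c ≠ 0 ∧ v' = c • v ∧ φ = c • φ' := by
  obtain ⟨j, hj⟩ : ∃ j, φ j ≠ 0 := by
    by_contra hcon
    push Not at hcon
    exact hφ (funext hcon)
  obtain ⟨i, hi⟩ : ∃ i, v i ≠ 0 := by
    by_contra hcon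
    push Not at hcon
    exact hv (funext hcon)
  have key : ∀ a b, v a * φ b = v' a * φ' b := fun a b => by
    have := congrFun (congrFun he a) b
    simpa [vecMulVec_apply] using this
  have hφ'j : φ' j ≠ 0 := by
    intro h0
    have := key i j
    rw [h0, mul_zero] at this
    exact (mul_ne_zero hi hj) this
  refine ⟨φ j / φ' j, div_ne_zero hj hφ'j, ?_, ?_⟩
  · funext a
    have := key a j
    simp only [Pi.smul_apply, smul_eq_mul]
    field_simp
    linear_combination -this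
  · funext b
    have h1 := key i b
    have h2 := key i j
    simp only [Pi.smul_apply, smul_eq_mul]
    have hv'i : v' i ≠ 0 := by
      intro h0
      rw [h0, zero_mul] at h2
      exact (mul_ne_zero hi hj) h2
    field_simp
    have : v i * (φ b * φ' j) = v i * (φ j * φ' b) := by
      calc v i * (φ b * φ' j) = (v i * φ b) * φ' j := by ring
        _ = (v' i * φ' b) * φ' j := by rw [h1]
        _ = (v' i * φ' j) * φ' b := by ring
        _ = (v i * φ j) * φ' b := by rw [h2]
        _ = v i * (φ j * φ' b) := by ring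
    exact mul_left_cancel₀ hi this

theorem tv_eq_imp (v φ v' φ' : Vn) (hv : v ≠ 0) (hφ : φ ≠ 0) (he : tv v φ = tv v' φ') :
    ∃ c : F, c ≠ 0 ∧ v' = c • v ∧ φ = c • φ' :=
  vecMulVec_eq_imp v φ v' φ' hv hφ (add_left_cancel he)

/-- two linear forms on a space of dimension at least three have a common nonzero zero -/
theorem exists_common_zero (hn : 3 ≤ n) (φ φ' : Vn) :
    ∃ x : Vn, x ≠ 0 ∧ φ ⬝ᵥ x = 0 ∧ φ' ⬝ᵥ x = 0 := by
  let M : Matrix (Fin 2) (Fin n) F := Matrix.of ![φ, φ']
  have h1 : LinearMap.ker M.mulVecLin ≠ ⊥ := by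
    apply LinearMap.ker_ne_bot_of_finrank_lt
    simp only [Module.finrank_fintype_fun_eq_card, Fintype.card_fin]
    omega
  obtain ⟨x, hx, hx0⟩ := Submodule.exists_mem_ne_zero_of_ne_bot h1
  refine ⟨x, hx0, ?_, ?_⟩
  · have := congrFun (LinearMap.mem_ker.mp hx) 0
    simpa [M, Matrix.mulVec] using this
  · have := congrFun (LinearMap.mem_ker.mp hx) 1
    simpa [M, Matrix.mulVec] using this

/-- a linear form vanishing on the kernel of a nonzero linear form is a multiple of it -/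
theorem exists_smul_of_ker_le (φ ψ : Vn) (hφ : φ ≠ 0)
    (h : ∀ x : Vn, φ ⬝ᵥ x = 0 → ψ ⬝ᵥ x = 0) : ∃ c : F, ψ = c • φ := by
  obtain ⟨k, hk⟩ : ∃ k, φ k ≠ 0 := by
    by_contra hcon
    push Not at hcon
    exact hφ (funext hcon)
  refine ⟨ψ k / φ k, ?_⟩
  funext j
  have := h (φ k • Pi.single j 1 - φ j • Pi.single k 1) (by
    simp [dotProduct_sub, dotProduct_smul, mul_comm])
  simp only [dotProduct_sub, dotProduct_smul, dotProduct_single, mul_one, smul_eq_mul] at this
  simp only [Pi.smul_apply, smul_eq_mul]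
  field_simp
  linear_combination this

/-- a vector killed by all forms killing a nonzero vector is a multiple of it -/
theorem exists_smul_of_ann_le (v w : Vn) (hv : v ≠ 0)
    (h : ∀ ψ : Vn, ψ ⬝ᵥ v = 0 → ψ ⬝ᵥ w = 0) : ∃ c : F, w = c • v := by
  obtain ⟨c, hc⟩ := exists_smul_of_ker_le v w hv (fun x hx => by
    rw [dotProduct_comm]; exact h x (by rw [dotProduct_comm]; exact hx))
  exact ⟨c, hc⟩

end Cfsg.Agent.Lib.Helper9.APSL
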