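import Mathlib
import Cfsg.Agent.Lib.Helper9.APSL2

set_option autoImplicit false

/-! Automorphisms of `PSL_n(F)`: transvection subgroups with a common centre or a common axis. -/

namespace Cfsg.Agent.Lib.Helper9.APSL

open Matrix

variable {F : Type*} [Field F] {n : ℕ}

local notation "Mn" => Matrix (Fin n) (Fin n) F
local notation "SLn" => Matrix.SpecialLinearGroup (Fin n) F
local notation "PSLn" => Matrix.ProjectiveSpecialLinearGroup (Fin n) F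
local notation "Vn" => (Fin n → F)

/-- proportional vectors -/
def Par (v w : Vn) : Prop := ∃ c : F, c ≠ 0 ∧ w = c • v

theorem Par.refl (v : Vn) : Par v v := ⟨1, one_ne_zero, (one_smul _ _).symm⟩

theorem Par.symm {v w : Vn} (h : Par v w) : Par w v := by
  obtain ⟨c, hc, rfl⟩ := h
  exact ⟨c⁻¹, inv_ne_zero hc, by rw [smul_smul, inv_mul_cancel₀ hc, one_smul]⟩

theorem Par.trans {u v w : Vn} (h : Par u v) (h' : Par v w) : Par u w := by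
  obtain ⟨c, hc, rfl⟩ := h
  obtain ⟨d, hd, rfl⟩ := h'
  exact ⟨d * c, mul_ne_zero hd hc, by rw [smul_smul]⟩

theorem Par.ne_zero {v w : Vn} (h : Par v w) (hv : v ≠ 0) : w ≠ 0 := by
  obtain ⟨c, hc, rfl⟩ := h
  exact smul_ne_zero hc hv

theorem par_of_smul {v w : Vn} (hw : w ≠ 0) (c : F) (h : w = c • v) : Par v w := by
  refine ⟨c, ?_, h⟩
  rintro rfl
  rw [zero_smul] at h
  exact hw h

theorem tv_neg (v φ : Vn) : tv v (-φ) = tv (-v) φ := by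
  simp [tv, vecMulVec_neg, neg_vecMulVec]

/-- transvections with centre `v` -/
def TP (v : Vn) : Subgroup SLn where
  carrier := {g | ∃ (φ : Vn) (h : φ ⬝ᵥ v = 0), g = tvS v φ h}
  one_mem' := ⟨0, zero_dotProduct v, by apply Subtype.ext; simp [tv_zero_right]⟩
  mul_mem' := by
    rintro _ _ ⟨φ, h, rfl⟩ ⟨φ', h', rfl⟩
    exact ⟨φ + φ', _, tvS_mul_same_left v φ φ' h h'⟩
  inv_mem' := by
    rintro _ ⟨φ, h, rfl⟩
    exact ⟨-φ, _, tvS_inv v φ h⟩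

/-- transvections with axis `φ` -/
def TH (φ : Vn) : Subgroup SLn where
  carrier := {g | ∃ (v : Vn) (h : φ ⬝ᵥ v = 0), g = tvS v φ h}
  one_mem' := ⟨0, dotProduct_zero φ, by apply Subtype.ext; simp [tv_zero_left]⟩
  mul_mem' := by
    rintro _ _ ⟨v, h, rfl⟩ ⟨v', h', rfl⟩
    exact ⟨v + v', _, tvS_mul_same_right v v' φ h h'⟩
  inv_mem' := by
    rintro _ ⟨v, h, rfl⟩
    refine ⟨-v, by rw [dotProduct_neg, h, neg_zero], ?_⟩
    rw [tvS_inv]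
    apply Subtype.ext
    simp only [tvS_coe]
    exact tv_neg v φ

theorem mem_TP {v : Vn} {g : SLn} : g ∈ TP v ↔ ∃ (φ : Vn) (h : φ ⬝ᵥ v = 0), g = tvS v φ h := Iff.rfl
theorem mem_TH {φ : Vn} {g : SLn} : g ∈ TH φ ↔ ∃ (v : Vn) (h : φ ⬝ᵥ v = 0), g = tvS v φ h := Iff.rfl

/-- images in `PSL` -/
def TPb (v : Vn) : Subgroup PSLn := (TP v).map mkP
def THb (φ : Vn) : Subgroup PSLn := (TH φ).map mkP

theorem mem_TPb {v : Vn} {x : PSLn} :
    x ∈ TPb v ↔ ∃ (φ : Vn) (h : φ ⬝ᵥ v = 0), x = mkP (tvS v φ h) := by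
  unfold TPb
  rw [Subgroup.mem_map]
  constructor
  · rintro ⟨g, ⟨φ, h, rfl⟩, rfl⟩
    exact ⟨φ, h, rfl⟩
  · rintro ⟨φ, h, rfl⟩
    exact ⟨_, ⟨φ, h, rfl⟩, rfl⟩

theorem mem_THb {φ : Vn} {x : PSLn} :
    x ∈ THb φ ↔ ∃ (v : Vn) (h : φ ⬝ᵥ v = 0), x = mkP (tvS v φ h) := by
  unfold THb
  rw [Subgroup.mem_map]
  constructor
  · rintro ⟨g, ⟨v, h, rfl⟩, rfl⟩
    exact ⟨v, h, rfl⟩
  · rintro ⟨v, h, rfl⟩
    exact ⟨_, ⟨v, h, rfl⟩, rfl⟩

/-- the set of images of (nontrivial) transvections -/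
def PT : Set PSLn :=
  {x | ∃ (v φ : Vn) (h : φ ⬝ᵥ v = 0), v ≠ 0 ∧ φ ≠ 0 ∧ x = mkP (tvS v φ h)}

/-- `x` is trivial or a transvection -/
def PT1 (x : PSLn) : Prop := x = 1 ∨ x ∈ PT

theorem tvS_zero_right (v : Vn) (h : (0 : Vn) ⬝ᵥ v = 0) : tvS v 0 h = 1 := by
  apply Subtype.ext; simp [tv_zero_right]

theorem tvS_zero_left (φ : Vn) (h : φ ⬝ᵥ (0 : Vn) = 0) : tvS 0 φ h = 1 := by
  apply Subtype.ext; simp [tv_zero_left]

theorem PT1_mk (v φ : Vn) (h : φ ⬝ᵥ v = 0) : PT1 (mkP (tvS v φ h)) := by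
  by_cases hv : v = 0
  · subst hv; left; rw [tvS_zero_left, map_one]
  by_cases hφ : φ = 0
  · subst hφ; left; rw [tvS_zero_right, map_one]
  exact Or.inr ⟨v, φ, h, hv, hφ, rfl⟩

theorem PT1_of_mem_TPb {v : Vn} {x : PSLn} (hx : x ∈ TPb v) : PT1 x := by
  obtain ⟨φ, h, rfl⟩ := mem_TPb.mp hx
  exact PT1_mk v φ h

theorem PT1_of_mem_THb {φ : Vn} {x : PSLn} (hx : x ∈ THb φ) : PT1 x := by
  obtain ⟨v, h, rfl⟩ := mem_THb.mp hx
  exact PT1_mk v φ h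

theorem tvS_smul_left (c : F) (v φ : Vn) (h : φ ⬝ᵥ (c • v) = 0) (h' : (c • φ) ⬝ᵥ v = 0) :
    tvS (c • v) φ h = tvS v (c • φ) h' := by
  apply Subtype.ext
  simp only [tvS_coe]
  exact tv_smul_left c v φ

theorem TPb_eq_of_par {v w : Vn} (h : Par v w) : TPb w = TPb v := by
  obtain ⟨c, hc, rfl⟩ := h
  ext x
  rw [mem_TPb, mem_TPb]
  constructor
  · rintro ⟨φ, h, rfl⟩
    refine ⟨c • φ, by rw [smul_dotProduct, ← dotProduct_smul]; exact h, ?_⟩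
    rw [tvS_smul_left]
  · rintro ⟨φ, h, rfl⟩
    refine ⟨c⁻¹ • φ, by rw [smul_dotProduct, dotProduct_smul, h]; simp, ?_⟩
    rw [tvS_smul_left c v (c⁻¹ • φ) _ (by rw [smul_smul, mul_inv_cancel₀ hc, one_smul]; exact h)]
    congr 1
    apply Subtype.ext
    simp only [tvS_coe, smul_smul, mul_inv_cancel₀ hc, one_smul]

theorem THb_eq_of_par {φ ψ : Vn} (h : Par φ ψ) : THb ψ = THb φ := by
  obtain ⟨c, hc, rfl⟩ := h
  ext x
  rw [mem_THb, mem_THb]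
  constructor
  · rintro ⟨v, h, rfl⟩
    refine ⟨c • v, by rw [dotProduct_smul, ← smul_dotProduct]; exact h, ?_⟩
    rw [tvS_smul_left]
  · rintro ⟨v, h, rfl⟩
    refine ⟨c⁻¹ • v, by rw [smul_dotProduct, dotProduct_smul, h]; simp, ?_⟩
    rw [← tvS_smul_left c (c⁻¹ • v) φ (by rw [smul_smul, mul_inv_cancel₀ hc, one_smul]; exact h)]
    congr 1
    apply Subtype.ext
    simp only [tvS_coe, smul_smul, mul_inv_cancel₀ hc, one_smul]

/-- a nontrivial transvection with centre `v` lying in `TPb v'` -/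
theorem par_of_mem_TPb (hn : 0 < n) {v φ v' : Vn} (h : φ ⬝ᵥ v = 0) (hv : v ≠ 0) (hφ : φ ≠ 0)
    (hx : mkP (tvS v φ h) ∈ TPb v') : Par v v' := by
  obtain ⟨φ', h', he⟩ := mem_TPb.mp hx
  have := tv_eq_of_mkP_eq hn _ _ _ _ h h' he
  obtain ⟨c, hc, h1, -⟩ := tv_eq_imp v φ v' φ' hv hφ this
  exact ⟨c, hc, h1⟩

theorem par_of_mem_THb (hn : 0 < n) {v φ φ' : Vn} (h : φ ⬝ᵥ v = 0) (hv : v ≠ 0) (hφ : φ ≠ 0)
    (hx : mkP (tvS v φ h) ∈ THb φ') : Par φ' φ := by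
  obtain ⟨v', h', he⟩ := mem_THb.mp hx
  have := tv_eq_of_mkP_eq hn _ _ _ _ h h' he
  obtain ⟨c, hc, -, h1⟩ := tv_eq_imp v φ v' φ' hv hφ this
  exact ⟨c, hc, h1⟩

theorem mk_mem_TPb_of_par {v φ v' : Vn} (h : φ ⬝ᵥ v = 0) (hp : Par v' v) :
    mkP (tvS v φ h) ∈ TPb v' := by
  rw [← TPb_eq_of_par hp]
  exact mem_TPb.mpr ⟨φ, h, rfl⟩

theorem mk_mem_THb_of_par {v φ φ' : Vn} (h : φ ⬝ᵥ v = 0) (hp : Par φ' φ) :
    mkP (tvS v φ h) ∈ THb φ' := by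
  rw [← THb_eq_of_par hp]
  exact mem_THb.mpr ⟨v, h, rfl⟩

/-- a sum of two rank one matrices of rank at most one -/
theorem rank_one_sum (v ψ v' φ' w χ : Vn) (hv : v ≠ 0) (hφ' : φ' ≠ 0)
    (he : vecMulVec v ψ + vecMulVec v' φ' = vecMulVec w χ) :
    (∃ c : F, v' = c • v) ∨ (∃ c : F, ψ = c • φ') := by
  by_cases hps : ∃ c : F, ψ = c • φ'
  · exact Or.inr hps
  left
  have h1 : ∃ x : Vn, φ' ⬝ᵥ x = 0 ∧ ψ ⬝ᵥ x ≠ 0 := by
    by_contra hcon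
    push Not at hcon
    exact hps (exists_smul_of_ker_le φ' ψ hφ' hcon)
  obtain ⟨x, hx1, hx2⟩ := h1
  have h2 := congrArg (fun M : Mn => M *ᵥ x) he
  simp only [add_mulVec, vecMulVec_mulVec, hx1, op_smul_eq_smul, zero_smul, add_zero] at h2
  -- v = a • w
  have hv2 : v = ((ψ ⬝ᵥ x)⁻¹ * (χ ⬝ᵥ x)) • w := by
    rw [← smul_smul, ← h2, smul_smul, inv_mul_cancel₀ hx2, one_smul]
  set a := (ψ ⬝ᵥ x)⁻¹ * (χ ⬝ᵥ x) with ha
  have ha0 : a ≠ 0 := by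
    intro h0
    rw [h0, zero_smul] at hv2
    exact hv hv2
  have hw : w = a⁻¹ • v := by rw [hv2, smul_smul, inv_mul_cancel₀ ha0, one_smul]
  have h3 : vecMulVec v' φ' = vecMulVec v (a⁻¹ • χ - ψ) := by
    rw [vecMulVec_sub, vecMulVec_smul, ← smul_vecMulVec, ← hw, ← he]
    abel
  obtain ⟨j, hj⟩ : ∃ j, φ' j ≠ 0 := by
    by_contra hcon
    push Not at hcon
    exact hφ' (funext hcon)
  obtain ⟨d, hd⟩ : ∃ d, d = (a⁻¹ • χ - ψ) j := ⟨_, rfl⟩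
  refine ⟨d / φ' j, ?_⟩
  funext i
  have := congrFun (congrFun h3 i) j
  simp only [vecMulVec_apply] at this
  rw [← hd] at this
  simp only [Pi.smul_apply, smul_eq_mul]
  field_simp
  linear_combination this

/-- **Lemma B**: if the product of two transvections is a transvection or trivial modulo scalars,
they share the centre or the axis -/
theorem par_or_par_of_mul (hn : 3 ≤ n) {v φ v' φ' : Vn} (h : φ ⬝ᵥ v = 0) (h' : φ' ⬝ᵥ v' = 0)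
    (hv : v ≠ 0) (hφ : φ ≠ 0) (hv' : v' ≠ 0) (hφ' : φ' ≠ 0)
    (hm : PT1 (mkP (tvS v φ h) * mkP (tvS v' φ' h'))) : Par v v' ∨ Par φ φ' := by
  have hn0 : 0 < n := by omega
  -- the product is the class of some `tvS w χ`
  have h1 : ∃ (w χ : Vn) (hw : χ ⬝ᵥ w = 0),
      mkP (tvS v φ h) * mkP (tvS v' φ' h') = mkP (tvS w χ hw) := by
    rcases hm with h1 | ⟨w, χ, hw, -, -, h1⟩
    · exact ⟨0, 0, by simp, by rw [h1, tvS_zero_left, map_one]⟩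
    · exact ⟨w, χ, hw, h1⟩
  obtain ⟨w, χ, hw, h1⟩ := h1
  rw [← map_mul] at h1
  obtain ⟨r, -, hr⟩ := (mkP_eq_iff _ _).mp h1.symm
  simp only [Matrix.SpecialLinearGroup.coe_mul, tvS_coe] at hr
  obtain ⟨x, hx0, hx1, hx2⟩ := exists_common_zero hn φ φ'
  have hr1 : r = 1 := by
    apply scalar_eq_one_of_fix r w χ x hw hx0
    rw [← hr, ← mulVec_mulVec, tv_fix v' φ' x hx2, tv_fix v φ x hx1]
  rw [hr1, one_smul, tv_mul_tv] at hr
  have h2 : vecMulVec v (φ + (φ ⬝ᵥ v') • φ') + vecMulVec v' φ' = vecMulVec w χ := by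
    have : (1 : Mn) + vecMulVec v φ + vecMulVec v' φ' + (φ ⬝ᵥ v') • vecMulVec v φ'
        = 1 + (vecMulVec v (φ + (φ ⬝ᵥ v') • φ') + vecMulVec v' φ') := by
      rw [vecMulVec_add, vecMulVec_smul]; abel
    rw [this] at hr
    exact add_left_cancel (a := (1 : Mn)) (by rw [hr]; rfl)
  rcases rank_one_sum v _ v' φ' w χ hv hφ' h2 with ⟨c, hc⟩ | ⟨c, hc⟩
  · exact Or.inl (par_of_smul hv' c hc)
  · right
    have h3 : φ = (c - φ ⬝ᵥ v') • φ' := by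
      rw [sub_smul, ← hc]; abel
    exact (par_of_smul hφ _ h3).symm

end Cfsg.Agent.Lib.Helper9.APSL
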