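import Mathlib
import Cfsg.Agent.Lib.Helper9.APSL3

set_option autoImplicit false

/-! Automorphisms of `PSL_n(F)`: the maximal subgroups consisting of transvections. -/

namespace Cfsg.Agent.Lib.Helper9.APSL

open Matrix

variable {F : Type*} [Field F] {n : ℕ}

local notation "Mn" => Matrix (Fin n) (Fin n) F
local notation "SLn" => Matrix.SpecialLinearGroup (Fin n) F
local notation "PSLn" => Matrix.ProjectiveSpecialLinearGroup (Fin n) F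
local notation "Vn" => (Fin n → F)

/-- a subgroup consisting of transvections -/
def IsTS (A : Subgroup PSLn) : Prop := ∀ x ∈ A, PT1 x

theorem isTS_TPb (v : Vn) : IsTS (TPb v) := fun _ hx => PT1_of_mem_TPb hx
theorem isTS_THb (φ : Vn) : IsTS (THb φ) := fun _ hx => PT1_of_mem_THb hx

theorem single_ne_zero' (hn : 0 < n) : (Pi.single ⟨0, hn⟩ 1 : Vn) ≠ 0 := by
  intro h0
  have := congrFun h0 ⟨0, hn⟩
  simp at this

/-- **Lemma C** -/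
theorem exists_TPb_or_THb (hn : 3 ≤ n) (A : Subgroup PSLn) (hA : IsTS A) :
    (∃ v : Vn, v ≠ 0 ∧ A ≤ TPb v) ∨ (∃ φ : Vn, φ ≠ 0 ∧ A ≤ THb φ) := by
  have hn0 : 0 < n := by omega
  by_cases hAb : A = ⊥
  · left
    exact ⟨_, single_ne_zero' hn0, by rw [hAb]; exact bot_le⟩
  obtain ⟨x0, hx0, hx01⟩ := (Subgroup.ne_bot_iff_exists_ne_one (H := A)).mp hAb |>.choose_spec |> fun h =>
    (⟨_, (Subgroup.ne_bot_iff_exists_ne_one (H := A)).mp hAb |>.choose.2, fun h1 => h (Subtype.ext h1)⟩ :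
      ∃ x0 : PSLn, x0 ∈ A ∧ x0 ≠ 1)
  rcases hA x0 hx0 with h1 | ⟨v0, φ0, h0, hv0, hφ0, rfl⟩
  · exact absurd h1 hx01
  by_cases hall : A ≤ TPb v0
  · exact Or.inl ⟨v0, hv0, hall⟩
  right
  obtain ⟨x1, hx1, hx1n⟩ := SetLike.not_le_iff_exists.mp hall
  have hx11 : x1 ≠ 1 := by
    rintro rfl
    exact hx1n (Subgroup.one_mem _)
  rcases hA x1 hx1 with h1 | ⟨v1, φ1, h1, hv1, hφ1, rfl⟩
  · exact absurd h1 hx11
  have hnp : ¬ Par v0 v1 := fun hp => hx1n (mk_mem_TPb_of_par h1 hp)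
  have hp01 : Par φ0 φ1 := by
    rcases par_or_par_of_mul hn h0 h1 hv0 hφ0 hv1 hφ1 (hA _ (A.mul_mem hx0 hx1)) with h | h
    · exact absurd h hnp
    · exact h
  refine ⟨φ0, hφ0, fun x hx => ?_⟩
  rcases hA x hx with h1' | ⟨v, φ, h, hv, hφ, rfl⟩
  · rw [h1']; exact Subgroup.one_mem _
  rcases par_or_par_of_mul hn h0 h hv0 hφ0 hv hφ (hA _ (A.mul_mem hx0 hx)) with ha | ha
  · rcases par_or_par_of_mul hn h1 h hv1 hφ1 hv hφ (hA _ (A.mul_mem hx1 hx)) with hb | hb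
    · exact absurd (ha.trans hb.symm) hnp
    · exact mk_mem_THb_of_par h (hp01.trans hb)
  · exact mk_mem_THb_of_par h ha

/-- two nonproportional nonzero vectors orthogonal to a given vector -/
theorem exists_two_orth (hn : 3 ≤ n) (a : Vn) :
    ∃ x1 x2 : Vn, x1 ≠ 0 ∧ x2 ≠ 0 ∧ a ⬝ᵥ x1 = 0 ∧ a ⬝ᵥ x2 = 0 ∧ ¬ Par x1 x2 := by
  obtain ⟨x1, hx1, h1, -⟩ := exists_common_zero hn a a
  obtain ⟨j, hj⟩ : ∃ j, x1 j ≠ 0 := by
    by_contra hcon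
    push Not at hcon
    exact hx1 (funext hcon)
  obtain ⟨x2, hx2, h2, h3⟩ := exists_common_zero hn a (Pi.single j 1)
  refine ⟨x1, x2, hx1, hx2, h1, h2, ?_⟩
  rintro ⟨c, hc, rfl⟩
  rw [dotProduct_smul, single_dotProduct, one_mul, smul_eq_mul] at h3
  rcases mul_eq_zero.mp h3 with h | h
  · exact hc h
  · exact hj h

theorem par_of_TPb_le (hn : 3 ≤ n) {v v' : Vn} (hv : v ≠ 0) (h : TPb v ≤ TPb v') : Par v' v := by
  obtain ⟨ψ, -, hψ, -, hψv, -, -⟩ := exists_two_orth hn v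
  rw [dotProduct_comm] at hψv
  have : mkP (tvS v ψ hψv) ∈ TPb v' := h (mem_TPb.mpr ⟨ψ, hψv, rfl⟩)
  exact (par_of_mem_TPb (by omega) hψv hv hψ this).symm

theorem par_of_THb_le (hn : 3 ≤ n) {φ φ' : Vn} (hφ : φ ≠ 0) (h : THb φ ≤ THb φ') : Par φ' φ := by
  obtain ⟨w, -, hw, -, hφw, -, -⟩ := exists_two_orth hn φ
  have : mkP (tvS w φ hφw) ∈ THb φ' := h (mem_THb.mpr ⟨w, hφw, rfl⟩)
  exact par_of_mem_THb (by omega) hφw hw hφ this

theorem not_TPb_le_THb (hn : 3 ≤ n) {v φ' : Vn} (hv : v ≠ 0) : ¬ TPb v ≤ THb φ' := by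
  intro h
  obtain ⟨ψ1, ψ2, hψ1, hψ2, h1, h2, hnp⟩ := exists_two_orth hn v
  rw [dotProduct_comm] at h1 h2
  have a1 : mkP (tvS v ψ1 h1) ∈ THb φ' := h (mem_TPb.mpr ⟨ψ1, h1, rfl⟩)
  have a2 : mkP (tvS v ψ2 h2) ∈ THb φ' := h (mem_TPb.mpr ⟨ψ2, h2, rfl⟩)
  have b1 := par_of_mem_THb (by omega) h1 hv hψ1 a1
  have b2 := par_of_mem_THb (by omega) h2 hv hψ2 a2
  exact hnp (b1.symm.trans b2)

theorem not_THb_le_TPb (hn : 3 ≤ n) {φ v' : Vn} (hφ : φ ≠ 0) : ¬ THb φ ≤ TPb v' := by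
  intro h
  obtain ⟨w1, w2, hw1, hw2, h1, h2, hnp⟩ := exists_two_orth hn φ
  have a1 : mkP (tvS w1 φ h1) ∈ TPb v' := h (mem_THb.mpr ⟨w1, h1, rfl⟩)
  have a2 : mkP (tvS w2 φ h2) ∈ TPb v' := h (mem_THb.mpr ⟨w2, h2, rfl⟩)
  have b1 := par_of_mem_TPb (by omega) h1 hw1 hφ a1
  have b2 := par_of_mem_TPb (by omega) h2 hw2 hφ a2
  exact hnp (b1.trans b2.symm)

theorem TPb_ne_THb (hn : 3 ≤ n) {v φ : Vn} (hv : v ≠ 0) : TPb v ≠ THb φ :=
  fun h => not_TPb_le_THb hn hv (le_of_eq h)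

/-- maximal subgroups consisting of transvections -/
def IsMaxTS (A : Subgroup PSLn) : Prop := IsTS A ∧ ∀ B : Subgroup PSLn, A ≤ B → IsTS B → B = A

theorem isMaxTS_TPb (hn : 3 ≤ n) {v : Vn} (hv : v ≠ 0) : IsMaxTS (TPb v) := by
  refine ⟨isTS_TPb v, fun B hB hBT => ?_⟩
  rcases exists_TPb_or_THb hn B hBT with ⟨v', hv', h⟩ | ⟨φ', hφ', h⟩
  · have hp := par_of_TPb_le hn hv (hB.trans h)
    rw [TPb_eq_of_par hp] at hB ⊢
    exact le_antisymm h hB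
  · exact absurd (hB.trans h) (not_TPb_le_THb hn hv)

theorem isMaxTS_THb (hn : 3 ≤ n) {φ : Vn} (hφ : φ ≠ 0) : IsMaxTS (THb φ) := by
  refine ⟨isTS_THb φ, fun B hB hBT => ?_⟩
  rcases exists_TPb_or_THb hn B hBT with ⟨v', hv', h⟩ | ⟨φ', hφ', h⟩
  · exact absurd (hB.trans h) (not_THb_le_TPb hn hφ)
  · have hp := par_of_THb_le hn hφ (hB.trans h)
    rw [THb_eq_of_par hp] at hB ⊢
    exact le_antisymm h hB

theorem IsMaxTS.eq_TPb_or_THb (hn : 3 ≤ n) {A : Subgroup PSLn} (hA : IsMaxTS A) :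
    (∃ v : Vn, v ≠ 0 ∧ A = TPb v) ∨ (∃ φ : Vn, φ ≠ 0 ∧ A = THb φ) := by
  rcases exists_TPb_or_THb hn A hA.1 with ⟨v, hv, h⟩ | ⟨φ, hφ, h⟩
  · exact Or.inl ⟨v, hv, (hA.2 _ h (isTS_TPb v)).symm⟩
  · exact Or.inr ⟨φ, hφ, (hA.2 _ h (isTS_THb φ)).symm⟩

/-- an automorphism preserving transvections (both ways) -/
def PresT (α : PSLn ≃* PSLn) : Prop := (∀ x ∈ PT, α x ∈ PT) ∧ (∀ x ∈ PT, α.symm x ∈ PT)

theorem PresT.symm {α : PSLn ≃* PSLn} (h : PresT α) : PresT α.symm := ⟨h.2, by simpa using h.1⟩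

theorem PresT.pt1 {α : PSLn ≃* PSLn} (h : PresT α) {x : PSLn} (hx : PT1 x) : PT1 (α x) := by
  rcases hx with rfl | hx
  · left; exact map_one α
  · right; exact h.1 x hx

theorem PresT.isTS {α : PSLn ≃* PSLn} (h : PresT α) {A : Subgroup PSLn} (hA : IsTS A) :
    IsTS (A.map α.toMonoidHom) := by
  rintro _ ⟨x, hx, rfl⟩
  exact h.pt1 (hA x hx)

theorem PresT.isMaxTS {α : PSLn ≃* PSLn} (h : PresT α) {A : Subgroup PSLn} (hA : IsMaxTS A) :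
    IsMaxTS (A.map α.toMonoidHom) := by
  refine ⟨h.isTS hA.1, fun B hB hBT => ?_⟩
  have h1 : A ≤ B.map α.symm.toMonoidHom := by
    intro x hx
    refine ⟨α x, hB ⟨x, hx, rfl⟩, ?_⟩
    simp
  have h2 := hA.2 _ h1 (h.symm.isTS hBT)
  rw [← h2]
  ext y
  constructor
  · intro hy
    exact ⟨α.symm y, ⟨y, hy, rfl⟩, by simp⟩
  · rintro ⟨x, ⟨y', hy', rfl⟩, rfl⟩
    simpa using hy'

end Cfsg.Agent.Lib.Helper9.APSL
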