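import Mathlib
import Cfsg.Agent.Lib.Helper9.APSL4

set_option autoImplicit false

/-! Automorphisms of `PSL_n(F)`: automorphisms preserve transvections (via centres of Sylow subgroups). -/

namespace Cfsg.Agent.Lib.Helper9.APSL

open Matrix
open scoped Pointwise

section general

variable {G : Type*} [Group G] [Finite G] {p : ℕ} [Fact p.Prime]

/-- an element of the centre of a Sylow subgroup goes, under any automorphism, to a conjugate of
an element of the centre of the same Sylow subgroup -/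
theorem sylow_center_aut (α : MulAut G) (P : Sylow p G) (z : G) (hz : z ∈ P)
    (hzc : ∀ y ∈ P, y * z = z * y) :
    ∃ h : G, h⁻¹ * α z * h ∈ P ∧ ∀ y ∈ P, y * (h⁻¹ * α z * h) = (h⁻¹ * α z * h) * y := by
  obtain ⟨h, hh⟩ := MulAction.exists_smul_eq G P (α • P)
  have hmem : ∀ x : G, x ∈ (α • P : Sylow p G) ↔ α⁻¹ x ∈ P := by
    intro x
    change x ∈ α • (P : Subgroup G) ↔ _
    rw [Subgroup.mem_pointwise_smul_iff_inv_smul_mem]
    rfl
  have hmem2 : ∀ x : G, x ∈ (h • P : Sylow p G) ↔ h⁻¹ * x * h ∈ P := by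
    intro x
    change x ∈ MulAut.conj h • (P : Subgroup G) ↔ _
    rw [Subgroup.mem_pointwise_smul_iff_inv_smul_mem, MulAut.smul_def, ← map_inv,
      MulAut.conj_apply, inv_inv]
    exact Iff.rfl
  have e1 : h⁻¹ * α z * h ∈ P := by
    rw [← hmem2, hh, hmem]
    simpa using hz
  refine ⟨h, e1, fun y hy => ?_⟩
  have h1 : h * y * h⁻¹ ∈ (α • P : Sylow p G) := by
    rw [← hh, hmem2]
    simpa [mul_assoc] using hy
  rw [hmem] at h1
  have h2 := hzc _ h1
  have h3 := congrArg α h2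
  simp only [map_mul, MulAut.apply_inv_self] at h3
  calc y * (h⁻¹ * α z * h) = h⁻¹ * ((h * y * h⁻¹) * α z) * h := by group
    _ = h⁻¹ * (α z * (h * y * h⁻¹)) * h := by rw [h3]
    _ = (h⁻¹ * α z * h) * y := by group

end general

variable {F : Type*} [Field F] {n : ℕ}

local notation "Mn" => Matrix (Fin n) (Fin n) F
local notation "SLn" => Matrix.SpecialLinearGroup (Fin n) F
local notation "PSLn" => Matrix.ProjectiveSpecialLinearGroup (Fin n) F
local notation "Vn" => (Fin n → F)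

theorem exists_third (hn : 3 ≤ n) (k l : Fin n) : ∃ m : Fin n, m ≠ k ∧ m ≠ l := by
  by_contra hcon
  push Not at hcon
  have h1 : (Finset.univ : Finset (Fin n)) ⊆ {k, l} := by
    intro m _
    by_cases hmk : m = k
    · simp [hmk]
    · simp [hcon m hmk]
  have h2 := Finset.card_le_card h1
  have h3 : ({k, l} : Finset (Fin n)).card ≤ 2 := Finset.card_le_two
  simp at h2
  omega

theorem mkP_tvS_ne_one (hn : 0 < n) {v φ : Vn} (h : φ ⬝ᵥ v = 0) (hv : v ≠ 0) (hφ : φ ≠ 0) :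
    mkP (tvS v φ h) ≠ 1 := by
  intro h1
  have h2 : mkP (tvS v φ h) = mkP (tvS 0 0 (by simp)) := by
    rw [h1, tvS_zero_left, map_one]
  have h3 := tv_eq_of_mkP_eq hn _ _ _ _ _ _ h2
  rw [tv_zero_left] at h3
  have h4 : vecMulVec v φ = 0 := by
    have : (1 : Mn) + vecMulVec v φ = 1 + 0 := by rw [add_zero]; exact h3
    exact add_left_cancel this
  rcases vecMulVec_eq_zero.mp h4 with h | h
  · exact hv h
  · exact hφ h

theorem mulVec_ne_zero (g : SLn) {v : Vn} (hv : v ≠ 0) : (g : Mn) *ᵥ v ≠ 0 := by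
  intro h
  have : ((g⁻¹ : SLn) : Mn) *ᵥ ((g : Mn) *ᵥ v) = v := by
    rw [mulVec_mulVec, ← Matrix.SpecialLinearGroup.coe_mul, inv_mul_cancel,
      Matrix.SpecialLinearGroup.coe_one, one_mulVec]
  rw [h, mulVec_zero] at this
  exact hv this.symm

theorem vecMul_ne_zero (g : SLn) {φ : Vn} (hφ : φ ≠ 0) : φ ᵥ* (g : Mn) ≠ 0 := by
  intro h
  have : (φ ᵥ* (g : Mn)) ᵥ* ((g⁻¹ : SLn) : Mn) = φ := by
    rw [vecMul_vecMul, ← Matrix.SpecialLinearGroup.coe_mul, mul_inv_cancel,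
      Matrix.SpecialLinearGroup.coe_one, vecMul_one]
  rw [h, zero_vecMul] at this
  exact hφ this.symm

/-- transvections are closed under conjugation -/
theorem PT_conj {x : PSLn} (hx : x ∈ PT) (y : PSLn) : y * x * y⁻¹ ∈ PT := by
  obtain ⟨v, φ, h, hv, hφ, rfl⟩ := hx
  obtain ⟨g, rfl⟩ := mkP_surjective y
  rw [← map_inv, ← map_mul, ← map_mul, conj_tvS]
  exact ⟨_, _, _, mulVec_ne_zero g hv, vecMul_ne_zero g⁻¹ hφ, rfl⟩

/-- the centraliser of all transvections with centre `v` and all those with axis `φ` -/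
theorem cent_TP_TH {v φ : Vn} (hv : v ≠ 0) (hφ : φ ≠ 0) (h : φ ⬝ᵥ v = 0) (g : SLn)
    (h1 : ∀ (ψ : Vn) (hψ : ψ ⬝ᵥ v = 0), g * tvS v ψ hψ = tvS v ψ hψ * g)
    (h2 : ∀ (w : Vn) (hw : φ ⬝ᵥ w = 0), g * tvS w φ hw = tvS w φ hw * g) :
    ∃ c t : F, c ≠ 0 ∧ (g : Mn) = c • tv (t • v) φ := by
  -- matrix forms
  have m1 : ∀ (ψ : Vn), ψ ⬝ᵥ v = 0 → vecMulVec ((g : Mn) *ᵥ v) ψ = vecMulVec v (ψ ᵥ* (g : Mn)) := by
    intro ψ hψ
    have := congrArg (fun s : SLn => (s : Mn)) (h1 ψ hψ)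
    simp only [Matrix.SpecialLinearGroup.coe_mul, tvS_coe, tv, mul_add, add_mul, mul_one, one_mul,
      mul_vecMulVec, vecMulVec_mul] at this
    exact add_left_cancel this
  have m2 : ∀ (w : Vn), φ ⬝ᵥ w = 0 → vecMulVec ((g : Mn) *ᵥ w) φ = vecMulVec w (φ ᵥ* (g : Mn)) := by
    intro w hw
    have := congrArg (fun s : SLn => (s : Mn)) (h2 w hw)
    simp only [Matrix.SpecialLinearGroup.coe_mul, tvS_coe, tv, mul_add, add_mul, mul_one, one_mul,
      mul_vecMulVec, vecMulVec_mul] at this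
    exact add_left_cancel this
  -- the eigenvalue
  obtain ⟨c, hc0, hc1, hc2⟩ := vecMulVec_eq_imp _ _ _ _ (mulVec_ne_zero g hv) hφ (m1 φ h)
  -- hc1 : v = c • g v, hc2 : φ = c • (φ g)
  have hgv : (g : Mn) *ᵥ v = c⁻¹ • v := by
    conv_rhs => rw [hc1, smul_smul, inv_mul_cancel₀ hc0, one_smul]
  have hφg : φ ᵥ* (g : Mn) = c⁻¹ • φ := by
    conv_rhs => rw [hc2, smul_smul, inv_mul_cancel₀ hc0, one_smul]
  have hcinv : c⁻¹ ≠ 0 := inv_ne_zero hc0
  -- g w = c⁻¹ w on ker φ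
  have k1 : ∀ w : Vn, φ ⬝ᵥ w = 0 → (g : Mn) *ᵥ w = c⁻¹ • w := by
    intro w hw
    have := m2 w hw
    rw [hφg, vecMulVec_smul, ← smul_vecMulVec] at this
    have h3 : vecMulVec ((g : Mn) *ᵥ w - c⁻¹ • w) φ = 0 := by
      rw [sub_vecMulVec, this, sub_self]
    rcases vecMulVec_eq_zero.mp h3 with h4 | h4
    · exact sub_eq_zero.mp h4
    · exact absurd h4 hφ
  -- ψ g = c⁻¹ ψ for ψ ⊥ v
  have k2 : ∀ ψ : Vn, ψ ⬝ᵥ v = 0 → ψ ᵥ* (g : Mn) = c⁻¹ • ψ := by
    intro ψ hψ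
    have := m1 ψ hψ
    rw [hgv, smul_vecMulVec, ← vecMulVec_smul] at this
    have h3 : vecMulVec v (c⁻¹ • ψ - ψ ᵥ* (g : Mn)) = 0 := by
      rw [vecMulVec_sub, this, sub_self]
    rcases vecMulVec_eq_zero.mp h3 with h4 | h4
    · exact absurd h4 hv
    · exact (sub_eq_zero.mp h4).symm
  -- D = g - c⁻¹
  set D : Mn := (g : Mn) - c⁻¹ • (1 : Mn) with hD
  have d1 : ∀ w : Vn, φ ⬝ᵥ w = 0 → D *ᵥ w = 0 := by
    intro w hw
    rw [hD, sub_mulVec, k1 w hw, smul_mulVec, one_mulVec, sub_self]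
  have d2 : ∀ ψ : Vn, ψ ⬝ᵥ v = 0 → ψ ᵥ* D = 0 := by
    intro ψ hψ
    rw [hD, vecMul_sub, k2 ψ hψ, vecMul_smul, vecMul_one, sub_self]
  -- rows of D are multiples of φ
  have d3 : ∀ i : Fin n, ∃ a : F, (fun j => D i j) = a • φ := by
    intro i
    apply exists_smul_of_ker_le φ _ hφ
    intro x hx
    have := congrFun (d1 x hx) i
    simpa [Matrix.mulVec, dotProduct] using this
  choose a ha using d3
  have d4 : D = vecMulVec a φ := by
    ext i j
    have := congrFun (ha i) j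
    simp only [Pi.smul_apply, smul_eq_mul] at this
    rw [vecMulVec_apply, ← this]
  obtain ⟨b, hb⟩ : ∃ b : F, a = b • v := by
    apply exists_smul_of_ann_le v a hv
    intro ψ hψ
    have := d2 ψ hψ
    rw [d4, vecMul_vecMulVec] at this
    rcases smul_eq_zero.mp this with h5 | h5
    · exact h5
    · exact absurd h5 hφ
  refine ⟨c⁻¹, c * b, hcinv, ?_⟩
  have : (g : Mn) = c⁻¹ • (1 : Mn) + D := by rw [hD]; abel
  rw [this, d4, hb, tv, smul_add, smul_vecMulVec, smul_vecMulVec, smul_smul,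
    inv_mul_cancel_left₀ hc0]

/-- an element of `PSL` centralising the transvections with centre `v` and those with axis `φ` -/
theorem cent_TPb_THb (hn : 0 < n) {v φ : Vn} (hv : v ≠ 0) (hφ : φ ≠ 0) (h : φ ⬝ᵥ v = 0) (x : PSLn)
    (h1 : ∀ y ∈ TPb v, y * x = x * y) (h2 : ∀ y ∈ THb φ, y * x = x * y) :
    ∃ (t : F) (ht : φ ⬝ᵥ (t • v) = 0), x = mkP (tvS (t • v) φ ht) := by
  obtain ⟨g, rfl⟩ := mkP_surjective x
  obtain ⟨c, t, hc, hg⟩ := cent_TP_TH hv hφ h g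
    (fun ψ hψ => commute_of_mkP_commute hn g v ψ hψ (h1 _ (mem_TPb.mpr ⟨ψ, hψ, rfl⟩)).symm)
    (fun w hw => commute_of_mkP_commute hn g w φ hw (h2 _ (mem_THb.mpr ⟨w, hw, rfl⟩)).symm)
  have ht : φ ⬝ᵥ (t • v) = 0 := by rw [dotProduct_smul, h, smul_zero]
  refine ⟨t, ht, ?_⟩
  symm
  rw [mkP_eq_iff]
  refine ⟨c, ?_, by rw [tvS_coe]; exact hg⟩
  have := g.2
  rw [hg, det_smul, det_tv, ht, add_zero, mul_one, Fintype.card_fin] at this
  exact this

end Cfsg.Agent.Lib.Helper9.APSL
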