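import Mathlib
import Cfsg.Agent.Lib.Helper9.APSL5

set_option autoImplicit false

/-! Automorphisms of `PSL_n(F)`, `n ≥ 3`: every automorphism preserves the set of transvections. -/

namespace Cfsg.Agent.Lib.Helper9.APSL

open Matrix

variable {F : Type*} [Field F] {n : ℕ}

local notation "Mn" => Matrix (Fin n) (Fin n) F
local notation "SLn" => Matrix.SpecialLinearGroup (Fin n) F
local notation "PSLn" => Matrix.ProjectiveSpecialLinearGroup (Fin n) F
local notation "Vn" => (Fin n → F)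

theorem tvS_pow_coe (v φ : Vn) (h : φ ⬝ᵥ v = 0) (m : ℕ) :
    (((tvS v φ h) ^ m : SLn) : Mn) = tv v (m • φ) := by
  induction m with
  | zero => simp [tv_zero_right]
  | succ m ih =>
    rw [pow_succ, Matrix.SpecialLinearGroup.coe_mul, ih, tvS_coe,
      tv_mul_same_left _ _ _ (by rw [smul_dotProduct, h, smul_zero]), succ_nsmul]

section charp

variable (p : ℕ) [CharP F p]

theorem tvS_pow_char (v φ : Vn) (h : φ ⬝ᵥ v = 0) : (tvS v φ h) ^ p = 1 := by
  apply Subtype.ext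
  rw [tvS_pow_coe, ← Nat.cast_smul_eq_nsmul F, CharP.cast_eq_zero, zero_smul, tv_zero_right]
  rfl

theorem isPGroup_TP (v : Vn) : IsPGroup p (TP (F := F) v) := by
  rintro ⟨g, φ, h, rfl⟩
  refine ⟨1, ?_⟩
  apply Subtype.ext
  simp only [pow_one, Subgroup.coe_pow, Subgroup.coe_one]
  exact tvS_pow_char p v φ h

theorem isPGroup_TH (φ : Vn) : IsPGroup p (TH (F := F) φ) := by
  rintro ⟨g, v, h, rfl⟩
  refine ⟨1, ?_⟩
  apply Subtype.ext
  simp only [pow_one, Subgroup.coe_pow, Subgroup.coe_one]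
  exact tvS_pow_char p v φ h

end charp

theorem conj_mem_TP {v φ : Vn} (h : φ ⬝ᵥ v = 0) {g x : SLn} (hg : g ∈ TH φ) (hx : x ∈ TP v) :
    g * x * g⁻¹ ∈ TP v := by
  obtain ⟨w, hw, rfl⟩ := hg
  obtain ⟨ψ, hψ, rfl⟩ := hx
  rw [conj_tvS]
  have hgv : ((tvS w φ hw : SLn) : Mn) *ᵥ v = v := by
    rw [tvS_coe, tv_mulVec, h, zero_smul, add_zero]
  refine ⟨ψ ᵥ* (((tvS w φ hw)⁻¹ : SLn) : Mn), ?_, ?_⟩
  · rw [← dotProduct_mulVec]
    have : (((tvS w φ hw)⁻¹ : SLn) : Mn) *ᵥ v = v := by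
      conv_lhs => rw [← hgv]
      rw [mulVec_mulVec, ← Matrix.SpecialLinearGroup.coe_mul, inv_mul_cancel,
        Matrix.SpecialLinearGroup.coe_one, one_mulVec]
    rw [this, hψ]
  · apply Subtype.ext
    simp only [tvS_coe]
    rw [← tvS_coe w φ hw, hgv]

theorem TH_le_normalizer_TP {v φ : Vn} (h : φ ⬝ᵥ v = 0) :
    TH φ ≤ Subgroup.normalizer (TP (F := F) v : Set SLn) := by
  intro g hg
  rw [Subgroup.mem_normalizer_iff]
  intro x
  constructor
  · exact fun hx => conj_mem_TP h hg hx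
  · intro hx
    have := conj_mem_TP h ((TH φ).inv_mem hg) hx
    simpa [mul_assoc] using this

section finite

variable [Finite F]

/-- **Lemma A1**: some nontrivial element of each root subgroup is sent to a transvection -/
theorem exists_smul_mem_PT (p : ℕ) [Fact p.Prime] [CharP F p] (hn : 0 < n) (α : MulAut PSLn) {v φ : Vn} (hv : v ≠ 0) (hφ : φ ≠ 0)
    (h : φ ⬝ᵥ v = 0) :
    ∃ (t : F) (ht : φ ⬝ᵥ (t • v) = 0), t ≠ 0 ∧ α (mkP (tvS (t • v) φ ht)) ∈ PT := by
  have hR : IsPGroup p ((TP v ⊔ TH φ : Subgroup SLn).map mkP) :=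
    (IsPGroup.to_sup_of_normal_left' (isPGroup_TP p v) (isPGroup_TH p φ)
      (TH_le_normalizer_TP h)).map _
  obtain ⟨P, hP⟩ := hR.exists_le_sylow
  have hTP : TPb v ≤ P := (Subgroup.map_mono le_sup_left).trans hP
  have hTH : THb φ ≤ P := (Subgroup.map_mono le_sup_right).trans hP
  have hx0 : mkP (tvS v φ h) ∈ (P : Subgroup PSLn) := hTP (mem_TPb.mpr ⟨φ, h, rfl⟩)
  have : Nontrivial (P : Subgroup PSLn) :=
    ⟨⟨⟨_, hx0⟩, 1, fun h1 => mkP_tvS_ne_one hn h hv hφ (congrArg Subtype.val h1)⟩⟩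
  have hnt : Nontrivial (Subgroup.center (P : Subgroup PSLn)) := P.isPGroup'.center_nontrivial
  obtain ⟨z, hz⟩ := exists_ne (1 : Subgroup.center (P : Subgroup PSLn))
  have hzP : ((z : (P : Subgroup PSLn)) : PSLn) ∈ (P : Subgroup PSLn) := (z : (P : Subgroup PSLn)).2
  have hzc : ∀ y ∈ (P : Subgroup PSLn), y * ((z : (P : Subgroup PSLn)) : PSLn)
      = ((z : (P : Subgroup PSLn)) : PSLn) * y := by
    intro y hy
    have := Subgroup.mem_center_iff.mp z.2 ⟨y, hy⟩
    exact congrArg Subtype.val this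
  have hz1 : ((z : (P : Subgroup PSLn)) : PSLn) ≠ 1 := by
    intro h1
    apply hz
    apply Subtype.ext
    apply Subtype.ext
    exact h1
  -- abbreviate
  obtain ⟨z0, hz0⟩ : ∃ z0 : PSLn, z0 = ((z : (P : Subgroup PSLn)) : PSLn) := ⟨_, rfl⟩
  rw [← hz0] at hzP hzc hz1
  obtain ⟨t, ht, hzt⟩ := cent_TPb_THb hn hv hφ h z0 (fun y hy => hzc y (hTP hy))
    (fun y hy => hzc y (hTH hy))
  refine ⟨t, ht, ?_, ?_⟩
  · rintro rfl
    apply hz1
    rw [hzt]
    have : tvS ((0 : F) • v) φ ht = 1 := by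
      apply Subtype.ext
      simp [tv_zero_left]
    rw [this, map_one]
  · rw [← hzt]
    obtain ⟨h0, hh1, hh2⟩ := sylow_center_aut α P z0 hzP hzc
    obtain ⟨t', ht', hzt'⟩ := cent_TPb_THb hn hv hφ h _ (fun y hy => hh2 y (hTP hy))
      (fun y hy => hh2 y (hTH hy))
    have ht'0 : t' ≠ 0 := by
      rintro rfl
      have h3 : tvS ((0 : F) • v) φ ht' = 1 := by
        apply Subtype.ext
        simp [tv_zero_left]
      rw [h3, map_one] at hzt'
      have h4 : α z0 = 1 := by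
        have : α z0 = h0 * (h0⁻¹ * α z0 * h0) * h0⁻¹ := by group
        rw [this, hzt']
        group
      exact hz1 (by simpa using h4)
    have h5 : h0⁻¹ * α z0 * h0 ∈ PT :=
      ⟨t' • v, φ, ht', smul_ne_zero ht'0 hv, hφ, hzt'⟩
    have h6 := PT_conj h5 h0
    have : h0 * (h0⁻¹ * α z0 * h0) * h0⁻¹ = α z0 := by group
    rwa [this] at h6

end finite

end Cfsg.Agent.Lib.Helper9.APSL
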