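import Mathlib
import Cfsg.Agent.Lib.Helper9.APSL6

set_option autoImplicit false

/-! Automorphisms of `PSL_n(F)`, `n ≥ 3`: normal form of transvections, all automorphisms preserve them. -/

namespace Cfsg.Agent.Lib.Helper9.APSL

open Matrix

variable {F : Type*} [Field F] {n : ℕ}

local notation "Mn" => Matrix (Fin n) (Fin n) F
local notation "SLn" => Matrix.SpecialLinearGroup (Fin n) F
local notation "PSLn" => Matrix.ProjectiveSpecialLinearGroup (Fin n) F
local notation "Vn" => (Fin n → F)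

theorem sd {k l : Fin n} (hkl : k ≠ l) (t u : F) :
    (Pi.single l u : Vn) ⬝ᵥ (Pi.single k t) = 0 := by
  rw [single_dotProduct, Pi.single_eq_of_ne hkl.symm, mul_zero]

/-- the elementary transvection `x_kl(t)` -/
def xS (k l : Fin n) (hkl : k ≠ l) (t : F) : SLn :=
  tvS (Pi.single k t) (Pi.single l 1) (sd hkl t 1)

theorem vecMul_inv_of (g : SLn) {φ φ' : Vn} (h : φ ᵥ* (g : Mn) = φ') :
    φ' ᵥ* ((g⁻¹ : SLn) : Mn) = φ := by
  rw [← h, vecMul_vecMul, ← Matrix.SpecialLinearGroup.coe_mul, mul_inv_cancel,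
    Matrix.SpecialLinearGroup.coe_one, vecMul_one]

/-- every transvection is conjugate in `SL_n`, `n ≥ 3`, to an elementary one -/
theorem exists_conj_elem (hn : 3 ≤ n) {v φ : Vn} (hv : v ≠ 0) (hφ : φ ≠ 0) (h : φ ⬝ᵥ v = 0) :
    ∃ (g : SLn) (k l : Fin n) (hkl : k ≠ l), tvS v φ h = g * xS k l hkl 1 * g⁻¹ := by
  obtain ⟨k, hk⟩ : ∃ k, v k ≠ 0 := by
    by_contra hcon
    push Not at hcon
    exact hv (funext hcon)
  obtain ⟨l, hlk, hl⟩ : ∃ l, l ≠ k ∧ φ l ≠ 0 := by
    by_contra hcon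
    push Not at hcon
    have h1 : φ ⬝ᵥ v = φ k * v k := by
      unfold dotProduct
      apply Finset.sum_eq_single k
      · intro b _ hb
        rw [hcon b hb, zero_mul]
      · intro hb
        exact absurd (Finset.mem_univ k) hb
    rw [h1] at h
    have h2 : φ k = 0 := by
      rcases mul_eq_zero.mp h with h | h
      · exact h
      · exact absurd h hk
    apply hφ
    funext i
    by_cases hi : i = k
    · rw [hi, h2]; rfl
    · exact hcon i hi
  obtain ⟨m, hmk, hml⟩ := exists_third hn k l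
  have hkl : k ≠ l := hlk.symm
  set ek : Vn := Pi.single k 1 with hek
  set el : Vn := Pi.single l 1 with hel
  set em : Vn := Pi.single m 1 with hem
  set φ1 : Vn := φ - φ k • ek with hφ1
  set d : F := v k * (φ l)⁻¹ with hd
  have hd0 : d ≠ 0 := mul_ne_zero hk (inv_ne_zero hl)
  have hφ1l : φ1 l = φ l := by
    simp [hφ1, hek, Pi.single_eq_of_ne hlk]
  have hφ1k : φ1 k = 0 := by
    simp [hφ1, hek]
  obtain ⟨A, hA⟩ : ∃ A : Mn, A = tv (v - ek) ek := ⟨_, rfl⟩
  obtain ⟨H, hH⟩ : ∃ H : Mn, H = tv (-(φ l)⁻¹ • el) (φ1 - el) := ⟨_, rfl⟩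
  obtain ⟨D, hD⟩ : ∃ D : Mn, D = tv ((d⁻¹ - 1) • em) em := ⟨_, rfl⟩
  have hdet : (A * H * D).det = 1 := by
    rw [det_mul, det_mul, hA, hH, hD, det_tv, det_tv, det_tv]
    have e1 : ek ⬝ᵥ (v - ek) = v k - 1 := by
      simp [hek, single_dotProduct]
    have e2 : (φ1 - el) ⬝ᵥ (-(φ l)⁻¹ • el) = -(φ l)⁻¹ * (φ l - 1) := by
      rw [dotProduct_smul, hel, dotProduct_single, Pi.sub_apply, hφ1l]
      simp
    have e3 : em ⬝ᵥ ((d⁻¹ - 1) • em) = d⁻¹ - 1 := by
      simp [hem, single_dotProduct]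
    rw [e1, e2, e3, hd]
    field_simp
    ring
  have hD1 : D *ᵥ ek = ek := by
    rw [hD, tv_mulVec]
    have e1 : em ⬝ᵥ ek = 0 := by
      rw [hem, hek]; exact sd hmk.symm 1 1
    rw [e1, zero_smul, add_zero]
  have hH1 : H *ᵥ ek = ek := by
    rw [hH, tv_mulVec]
    have e2 : (φ1 - el) ⬝ᵥ ek = 0 := by
      rw [hek, dotProduct_single, Pi.sub_apply, hφ1k, hel, Pi.single_eq_of_ne hkl]
      simp
    rw [e2, zero_smul, add_zero]
  have hA1 : A *ᵥ ek = v := by
    rw [hA, tv_mulVec]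
    have e3 : ek ⬝ᵥ ek = 1 := by
      simp [hek, single_dotProduct]
    rw [e3, one_smul]
    abel
  have hMek : (A * H * D) *ᵥ ek = v := by
    rw [← mulVec_mulVec, ← mulVec_mulVec, hD1, hH1, hA1]
  have hA2 : φ ᵥ* A = φ1 := by
    rw [hA, vecMul_tv]
    have e1 : φ ⬝ᵥ (v - ek) = - φ k := by
      rw [dotProduct_sub, h, hek, dotProduct_single]
      simp
    rw [e1, hφ1]; simp [sub_eq_add_neg]
  have hH2 : φ1 ᵥ* H = el := by
    rw [hH, vecMul_tv]
    have e2 : φ1 ⬝ᵥ (-(φ l)⁻¹ • el) = -1 := by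
      rw [dotProduct_smul, hel, dotProduct_single, hφ1l]
      simp [hl]
    rw [e2]
    simp
  have hD2 : el ᵥ* D = el := by
    rw [hD, vecMul_tv]
    have e4 : el ⬝ᵥ ((d⁻¹ - 1) • em) = 0 := by
      rw [dotProduct_smul, hel, hem, sd hml 1 1, smul_zero]
    rw [e4, zero_smul, add_zero]
  have hφM : φ ᵥ* (A * H * D) = el := by
    rw [← vecMul_vecMul, ← vecMul_vecMul, hA2, hH2, hD2]
  obtain ⟨g, hg⟩ : ∃ g : SLn, (g : Mn) = A * H * D := ⟨⟨A * H * D, hdet⟩, rfl⟩
  rw [← hg] at hMek hφM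
  refine ⟨g, k, l, hkl, ?_⟩
  unfold xS
  rw [conj_tvS]
  apply Subtype.ext
  simp only [tvS_coe]
  have e5 : el ᵥ* ((g⁻¹ : SLn) : Mn) = φ := vecMul_inv_of g hφM
  rw [← hek, ← hel, e5, hMek]

/-- conjugating an elementary transvection by a diagonal element -/
theorem conj_xS_diag {k l m : Fin n} (hkl : k ≠ l) (hmk : m ≠ k) (hml : m ≠ l) (s : F) (hs : s ≠ 0)
    (t : F) :
    Matrix.SpecialLinearGroup.diag2n hmk.symm s hs * xS k l hkl t *
      (Matrix.SpecialLinearGroup.diag2n hmk.symm s hs)⁻¹ = xS k l hkl (s * t) := by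
  unfold xS
  rw [conj_tvS]
  apply Subtype.ext
  simp only [tvS_coe]
  have e1 : ((Matrix.SpecialLinearGroup.diag2n hmk.symm s hs : SLn) : Mn) *ᵥ (Pi.single k t)
      = Pi.single k (s * t) := by
    rw [Matrix.SpecialLinearGroup.diag2n_coe, diagonal_mulVec_single]
    simp
  have e2 : (Pi.single l 1 : Vn) ᵥ* ((Matrix.SpecialLinearGroup.diag2n hmk.symm s hs : SLn) : Mn)
      = Pi.single l 1 := by
    rw [Matrix.SpecialLinearGroup.diag2n_coe, single_vecMul_diagonal]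
    simp [hkl.symm, hml.symm]
  rw [e1, vecMul_inv_of _ e2]

section finite

variable [Finite F]

/-- **Lemma A**: automorphisms of `PSL_n(F)`, `n ≥ 3`, preserve transvections -/
theorem aut_PT (p : ℕ) [Fact p.Prime] [CharP F p] (hn : 3 ≤ n) (α : MulAut PSLn) :
    ∀ x ∈ PT, α x ∈ PT := by
  have hn0 : 0 < n := by omega
  -- elementary transvections
  have key : ∀ (k l : Fin n) (hkl : k ≠ l), α (mkP (xS k l hkl 1)) ∈ PT := by
    intro k l hkl
    have hk0 : (Pi.single k 1 : Vn) ≠ 0 := by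
      intro h0
      have := congrFun h0 k
      simp at this
    have hl0 : (Pi.single l 1 : Vn) ≠ 0 := by
      intro h0
      have := congrFun h0 l
      simp at this
    obtain ⟨t, ht, ht0, hmem⟩ := exists_smul_mem_PT p hn0 α hk0 hl0 (sd hkl 1 1)
    obtain ⟨m, hmk, hml⟩ := exists_third hn k l
    have e1 : tvS (t • (Pi.single k 1 : Vn)) (Pi.single l 1) ht = xS k l hkl t := by
      unfold xS
      apply Subtype.ext
      simp only [tvS_coe]
      congr 1
      rw [← Pi.single_smul, smul_eq_mul, mul_one]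
    rw [e1] at hmem
    have e2 := conj_xS_diag hkl hmk hml t⁻¹ (inv_ne_zero ht0) t
    rw [inv_mul_cancel₀ ht0] at e2
    rw [← e2, map_mul, map_mul, map_mul, map_mul, map_inv, map_inv]
    exact PT_conj hmem _
  intro x hx
  obtain ⟨v, φ, h, hv, hφ, rfl⟩ := hx
  obtain ⟨g, k, l, hkl, he⟩ := exists_conj_elem hn hv hφ h
  rw [he, map_mul, map_mul, map_mul, map_mul, map_inv, map_inv]
  exact PT_conj (key k l hkl) _

theorem presT_of_aut (p : ℕ) [Fact p.Prime] [CharP F p] (hn : 3 ≤ n) (α : MulAut PSLn) :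
    PresT (α : PSLn ≃* PSLn) :=
  ⟨aut_PT p hn α, aut_PT p hn α⁻¹⟩

end finite

end Cfsg.Agent.Lib.Helper9.APSL
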