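import Mathlib
import Cfsg.Prelude.Def_LieTypeDatum
import Cfsg.Prelude.Def_StandardType
import Cfsg.Agent.Lib.Helper9.APSL7

set_option autoImplicit false

/-! Automorphisms of `PSL_n(F)`: the standard automorphisms. -/

namespace Cfsg.Agent.Lib.Helper9.APSL

open Matrix

variable {F : Type*} [Field F] {n : ℕ}

local notation "Mn" => Matrix (Fin n) (Fin n) F
local notation "SLn" => Matrix.SpecialLinearGroup (Fin n) F
local notation "PSLn" => Matrix.ProjectiveSpecialLinearGroup (Fin n) F
local notation "Vn" => (Fin n → F)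
local notation "GLn" => GL (Fin n) F

/-- lifting an automorphism of `SL` to `PSL` -/
noncomputable def liftAut (e : SLn ≃* SLn) : MulAut PSLn :=
  QuotientGroup.congr (Subgroup.center SLn) (Subgroup.center SLn) e
    (Subgroup.characteristic_iff_map_eq.mp Subgroup.centerCharacteristic e)

theorem liftAut_mkP (e : SLn ≃* SLn) (s : SLn) : liftAut e (mkP s) = mkP (e s) :=
  QuotientGroup.congr_mk _ _ e _ s

theorem liftAut_mul (e e' : SLn ≃* SLn) : liftAut e * liftAut e' = liftAut (e'.trans e) := by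
  apply MulEquiv.ext
  intro x
  obtain ⟨s, rfl⟩ := mkP_surjective x
  rw [MulAut.mul_apply, liftAut_mkP, liftAut_mkP, liftAut_mkP]
  rfl

theorem liftAut_inv (e : SLn ≃* SLn) : (liftAut e)⁻¹ = liftAut e.symm := by
  apply inv_eq_of_mul_eq_one_left
  rw [liftAut_mul]
  apply MulEquiv.ext
  intro x
  obtain ⟨s, rfl⟩ := mkP_surjective x
  rw [liftAut_mkP]
  simp

theorem det_conj_GL (g : GLn) (s : SLn) :
    ((g : Mn) * (s : Mn) * ((g⁻¹ : GLn) : Mn)).det = 1 := by
  rw [det_mul, det_mul, s.2, mul_one, ← det_mul, ← Units.val_mul, mul_inv_cancel, Units.val_one,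
    det_one]

/-- conjugation by an invertible matrix, on `SL` -/
def conjSL (g : GLn) : SLn ≃* SLn where
  toFun s := ⟨(g : Mn) * (s : Mn) * ((g⁻¹ : GLn) : Mn), det_conj_GL g s⟩
  invFun s := ⟨((g⁻¹ : GLn) : Mn) * (s : Mn) * (((g⁻¹)⁻¹ : GLn) : Mn), det_conj_GL g⁻¹ s⟩
  left_inv s := by
    apply Subtype.ext
    simp only [inv_inv]
    rw [← mul_assoc, ← mul_assoc, ← Units.val_mul, inv_mul_cancel, Units.val_one, one_mul, mul_assoc,
      ← Units.val_mul, inv_mul_cancel, Units.val_one, mul_one]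
  right_inv s := by
    apply Subtype.ext
    simp only [inv_inv]
    rw [← mul_assoc, ← mul_assoc, ← Units.val_mul, mul_inv_cancel, Units.val_one, one_mul, mul_assoc,
      ← Units.val_mul, mul_inv_cancel, Units.val_one, mul_one]
  map_mul' s t := by
    apply Subtype.ext
    have : ((g⁻¹ : GLn) : Mn) * (g : Mn) = 1 := by
      rw [← Units.val_mul, inv_mul_cancel, Units.val_one]
    show (g : Mn) * ((s * t : SLn) : Mn) * ((g⁻¹ : GLn) : Mn)
      = ((g : Mn) * (s : Mn) * ((g⁻¹ : GLn) : Mn)) * ((g : Mn) * (t : Mn) * ((g⁻¹ : GLn) : Mn))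
    rw [Matrix.SpecialLinearGroup.coe_mul]
    calc (g : Mn) * ((s : Mn) * (t : Mn)) * ((g⁻¹ : GLn) : Mn)
        = (g : Mn) * (s : Mn) * (1 : Mn) * (t : Mn) * ((g⁻¹ : GLn) : Mn) := by
          simp only [mul_one, mul_assoc]
      _ = _ := by rw [← this]; simp only [mul_assoc]

@[simp] theorem conjSL_coe (g : GLn) (s : SLn) :
    ((conjSL g s : SLn) : Mn) = (g : Mn) * (s : Mn) * ((g⁻¹ : GLn) : Mn) := rfl

/-- a field automorphism applied to the entries, on `SL` -/
def fieldSL (σ : F ≃+* F) : SLn ≃* SLn where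
  toFun := Matrix.SpecialLinearGroup.map σ.toRingHom
  invFun := Matrix.SpecialLinearGroup.map σ.symm.toRingHom
  left_inv s := by
    apply Subtype.ext
    ext i j
    simp [Matrix.SpecialLinearGroup.map_apply_coe]
  right_inv s := by
    apply Subtype.ext
    ext i j
    simp [Matrix.SpecialLinearGroup.map_apply_coe]
  map_mul' s t := map_mul _ s t

@[simp] theorem fieldSL_coe (σ : F ≃+* F) (s : SLn) :
    ((fieldSL σ s : SLn) : Mn) = (s : Mn).map σ := by
  change ((Matrix.SpecialLinearGroup.map σ.toRingHom s : SLn) : Mn) = _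
  rw [Matrix.SpecialLinearGroup.map_apply_coe, RingHom.mapMatrix_apply]
  rfl

theorem transpose_inv_SL (s : SLn) : (Matrix.SpecialLinearGroup.transpose s)⁻¹
    = Matrix.SpecialLinearGroup.transpose s⁻¹ := by
  apply inv_eq_of_mul_eq_one_left
  apply Subtype.ext
  rw [Matrix.SpecialLinearGroup.coe_mul, Matrix.SpecialLinearGroup.coe_transpose,
    Matrix.SpecialLinearGroup.coe_transpose, ← transpose_mul, ← Matrix.SpecialLinearGroup.coe_mul,
    mul_inv_cancel, Matrix.SpecialLinearGroup.coe_one, transpose_one]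

theorem transpose_transpose_SL (s : SLn) :
    Matrix.SpecialLinearGroup.transpose (Matrix.SpecialLinearGroup.transpose s) = s := by
  apply Subtype.ext
  simp [Matrix.SpecialLinearGroup.coe_transpose]

theorem invT_invT_aux (s : SLn) :
    Matrix.SpecialLinearGroup.transpose (Matrix.SpecialLinearGroup.transpose s⁻¹)⁻¹ = s := by
  rw [transpose_inv_SL, inv_inv, transpose_transpose_SL]

/-- inverse transpose, on `SL` -/
def invT : SLn ≃* SLn where
  toFun s := Matrix.SpecialLinearGroup.transpose s⁻¹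
  invFun s := Matrix.SpecialLinearGroup.transpose s⁻¹
  left_inv s := invT_invT_aux s
  right_inv s := invT_invT_aux s
  map_mul' s t := by
    apply Subtype.ext
    rw [_root_.mul_inv_rev, Matrix.SpecialLinearGroup.coe_mul,
      Matrix.SpecialLinearGroup.coe_transpose,
      Matrix.SpecialLinearGroup.coe_transpose, Matrix.SpecialLinearGroup.coe_transpose,
      Matrix.SpecialLinearGroup.coe_mul, transpose_mul]

@[simp] theorem invT_coe (s : SLn) : ((invT s : SLn) : Mn) = ((s⁻¹ : SLn) : Mn)ᵀ := rfl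

theorem invT_symm : (invT : SLn ≃* SLn).symm = invT := rfl

/-! ### the predicates of the statements -/

theorem isInnerDiagonal_liftAut (g : GLn) : Cfsg.IsInnerDiagonalAutPSL (liftAut (conjSL g)) := by
  refine ⟨g, fun s s' h => ?_⟩
  have : liftAut (conjSL g) (mkP s) = mkP s' := by
    rw [liftAut_mkP]
    congr 1
    apply Subtype.ext
    rw [conjSL_coe, h]
  exact this

theorem isStdField_liftAut (σ : F ≃+* F) : Cfsg.IsStdFieldAutPSL σ (liftAut (fieldSL (n := n) σ)) := by
  intro s s' h
  have : liftAut (fieldSL σ) (mkP s) = mkP s' := by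
    rw [liftAut_mkP]
    congr 1
    apply Subtype.ext
    rw [fieldSL_coe, h]
  exact this

theorem isInverseTranspose_liftAut :
    Cfsg.IsInverseTransposeAutPSL (liftAut (invT (F := F) (n := n))) := by
  intro s s' h
  have : liftAut invT (mkP s) = mkP s' := by
    rw [liftAut_mkP]
    congr 1
    apply Subtype.ext
    rw [invT_coe, h]
  exact this

/-! ### action on transvections -/

theorem conjSL_tvS (g : GLn) (v φ : Vn) (h : φ ⬝ᵥ v = 0) :
    conjSL g (tvS v φ h) = tvS ((g : Mn) *ᵥ v) (φ ᵥ* ((g⁻¹ : GLn) : Mn)) (by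
      rw [← dotProduct_mulVec, mulVec_mulVec, ← Units.val_mul, inv_mul_cancel, Units.val_one,
        one_mulVec, h]) := by
  apply Subtype.ext
  rw [conjSL_coe, tvS_coe, tvS_coe]
  apply conj_tv
  rw [← Units.val_mul, mul_inv_cancel, Units.val_one]

theorem fieldSL_tvS (σ : F ≃+* F) (v φ : Vn) (h : φ ⬝ᵥ v = 0) :
    fieldSL σ (tvS v φ h) = tvS (fun i => σ (v i)) (fun i => σ (φ i)) (by
      have := congrArg σ h
      rw [map_zero] at this
      rw [← this]
      simp [dotProduct, map_sum]) := by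
  apply Subtype.ext
  rw [fieldSL_coe, tvS_coe, tvS_coe]
  ext i j
  simp [tv_apply, Matrix.map_apply, apply_ite]

theorem invT_tvS (v φ : Vn) (h : φ ⬝ᵥ v = 0) :
    invT (tvS v φ h) = tvS (-φ) v (by rw [dotProduct_neg, dotProduct_comm, h, neg_zero]) := by
  apply Subtype.ext
  rw [invT_coe, tvS_inv, tvS_coe, tvS_coe, tv, tv, transpose_add, transpose_one,
    transpose_vecMulVec]

end Cfsg.Agent.Lib.Helper9.APSL
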