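import Mathlib
import Cfsg.Agent.Lib.Helper9.APSL8

set_option autoImplicit false

/-! Automorphisms of `PSL_n(F)`: incidence of the maximal transvection subgroups and
the type dichotomy. -/

namespace Cfsg.Agent.Lib.Helper9.APSL

open Matrix

variable {F : Type*} [Field F] {n : ℕ}

local notation "Mn" => Matrix (Fin n) (Fin n) F
local notation "SLn" => Matrix.SpecialLinearGroup (Fin n) F
local notation "PSLn" => Matrix.ProjectiveSpecialLinearGroup (Fin n) F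
local notation "Vn" => (Fin n → F)
local notation "GLn" => GL (Fin n) F

theorem tvS_congr {v v' φ φ' : Vn} (hv : v = v') (hφ : φ = φ') (h : φ ⬝ᵥ v = 0)
    (h' : φ' ⬝ᵥ v' = 0) : tvS v φ h = tvS v' φ' h' := by
  subst hv; subst hφ; rfl

theorem exists_of_mem_TPb_ne_one {v : Vn} {x : PSLn} (hx : x ∈ TPb v) (h1 : x ≠ 1) :
    ∃ (φ : Vn) (h : φ ⬝ᵥ v = 0), v ≠ 0 ∧ φ ≠ 0 ∧ x = mkP (tvS v φ h) := by
  obtain ⟨φ, h, rfl⟩ := mem_TPb.mp hx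
  refine ⟨φ, h, ?_, ?_, rfl⟩
  · intro hv; subst hv; apply h1; rw [tvS_zero_left, map_one]
  · intro hφ; subst hφ; apply h1; rw [tvS_zero_right, map_one]

theorem exists_of_mem_THb_ne_one {φ : Vn} {x : PSLn} (hx : x ∈ THb φ) (h1 : x ≠ 1) :
    ∃ (v : Vn) (h : φ ⬝ᵥ v = 0), v ≠ 0 ∧ φ ≠ 0 ∧ x = mkP (tvS v φ h) := by
  obtain ⟨v, h, rfl⟩ := mem_THb.mp hx
  refine ⟨v, h, ?_, ?_, rfl⟩
  · intro hv; subst hv; apply h1; rw [tvS_zero_left, map_one]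
  · intro hφ; subst hφ; apply h1; rw [tvS_zero_right, map_one]

/-- two point-type subgroups sharing a nontrivial element coincide -/
theorem TPb_eq_of_common (hn : 0 < n) {u v : Vn} {x : PSLn} (hx : x ∈ TPb u) (hx' : x ∈ TPb v)
    (h1 : x ≠ 1) : TPb u = TPb v := by
  obtain ⟨φ, h, hu, hφ, rfl⟩ := exists_of_mem_TPb_ne_one hx h1
  exact (TPb_eq_of_par (par_of_mem_TPb hn h hu hφ hx')).symm

theorem THb_eq_of_common (hn : 0 < n) {φ ψ : Vn} {x : PSLn} (hx : x ∈ THb φ) (hx' : x ∈ THb ψ)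
    (h1 : x ≠ 1) : THb φ = THb ψ := by
  obtain ⟨v, h, hv, hφ, rfl⟩ := exists_of_mem_THb_ne_one hx h1
  exact THb_eq_of_par (par_of_mem_THb hn h hv hφ hx')

/-- incidence: a common nontrivial element forces `φ ⬝ᵥ v = 0` -/
theorem dot_eq_zero_of_common (hn : 0 < n) {v φ : Vn} {x : PSLn} (hx : x ∈ TPb v)
    (hx' : x ∈ THb φ) (h1 : x ≠ 1) : φ ⬝ᵥ v = 0 := by
  obtain ⟨ψ, h, hv, hψ, rfl⟩ := exists_of_mem_TPb_ne_one hx h1
  obtain ⟨c, hc, rfl⟩ := par_of_mem_THb hn h hv hψ hx'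
  rw [smul_dotProduct, smul_eq_mul] at h
  rcases mul_eq_zero.mp h with h | h
  · exact absurd h hc
  · exact h

/-- the root group `TPb v ⊓ THb φ` -/
theorem exists_of_mem_TPb_THb (hn : 0 < n) {v φ : Vn}
    {x : PSLn} (hx : x ∈ TPb v) (hx' : x ∈ THb φ) :
    ∃ (t : F) (h : φ ⬝ᵥ (t • v) = 0), x = mkP (tvS (t • v) φ h) := by
  by_cases h1 : x = 1
  · refine ⟨0, by rw [zero_smul, dotProduct_zero], ?_⟩
    rw [h1, tvS_congr (zero_smul F v) rfl _ (dotProduct_zero φ), tvS_zero_left, map_one]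
  obtain ⟨ψ, h, hv, hψ, rfl⟩ := exists_of_mem_TPb_ne_one hx h1
  obtain ⟨c, hc, rfl⟩ := par_of_mem_THb hn h hv hψ hx'
  have h' : φ ⬝ᵥ (c • v) = 0 := by
    rw [smul_dotProduct, smul_eq_mul] at h
    rw [dotProduct_smul, smul_eq_mul]
    exact h
  exact ⟨c, h', by rw [tvS_smul_left c v φ h' h]⟩

theorem map_symm_map (α : PSLn ≃* PSLn) (A : Subgroup PSLn) :
    (A.map α.symm.toMonoidHom).map α.toMonoidHom = A := by
  ext y
  constructor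
  · rintro ⟨x, ⟨y', hy', rfl⟩, rfl⟩
    simpa using hy'
  · intro hy
    exact ⟨α.symm y, ⟨y, hy, rfl⟩, by simp⟩

theorem map_map_symm (α : PSLn ≃* PSLn) (A : Subgroup PSLn) :
    (A.map α.toMonoidHom).map α.symm.toMonoidHom = A := by
  have := map_symm_map α.symm A
  simpa using this

theorem map_aut_injective (α : PSLn ≃* PSLn) {A B : Subgroup PSLn}
    (h : A.map α.toMonoidHom = B.map α.toMonoidHom) : A = B := by
  rw [← map_map_symm α A, h, map_map_symm]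

theorem map_mul_aut (α β : MulAut PSLn) (A : Subgroup PSLn) :
    A.map ((α * β : MulAut PSLn) : PSLn ≃* PSLn).toMonoidHom
      = (A.map (β : PSLn ≃* PSLn).toMonoidHom).map (α : PSLn ≃* PSLn).toMonoidHom := by
  rw [Subgroup.map_map]
  rfl

theorem aut_ne_one (α : PSLn ≃* PSLn) {x : PSLn} (h : x ≠ 1) : α x ≠ 1 := by
  intro h'
  exact h (α.injective (h'.trans (map_one α).symm))

/-- an incident pair cannot both go to point type -/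
theorem not_both_P (hn : 3 ≤ n) (α : PSLn ≃* PSLn) {v φ v' u : Vn} (hv : v ≠ 0) (hφ : φ ≠ 0)
    (hvφ : φ ⬝ᵥ v = 0) (h1 : (TPb v).map α.toMonoidHom = TPb v')
    (h2 : (THb φ).map α.toMonoidHom = TPb u) : False := by
  have hx1 : mkP (tvS v φ hvφ) ∈ TPb v := mem_TPb.mpr ⟨φ, hvφ, rfl⟩
  have hx2 : mkP (tvS v φ hvφ) ∈ THb φ := mem_THb.mpr ⟨v, hvφ, rfl⟩
  have hne : α (mkP (tvS v φ hvφ)) ≠ 1 := aut_ne_one α (mkP_tvS_ne_one (by omega) hvφ hv hφ)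
  have m1 : α (mkP (tvS v φ hvφ)) ∈ TPb v' := by
    rw [← h1]; exact Subgroup.mem_map_of_mem _ hx1
  have m2 : α (mkP (tvS v φ hvφ)) ∈ TPb u := by
    rw [← h2]; exact Subgroup.mem_map_of_mem _ hx2
  have := TPb_eq_of_common (by omega) m1 m2 hne
  rw [← h1, ← h2] at this
  exact TPb_ne_THb hn hv (map_aut_injective α this)

/-- an incident pair cannot both go to hyperplane type -/
theorem not_both_H (hn : 3 ≤ n) (α : PSLn ≃* PSLn) {v φ φ' ψ : Vn} (hv : v ≠ 0) (hφ : φ ≠ 0)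
    (hvφ : φ ⬝ᵥ v = 0) (h1 : (TPb v).map α.toMonoidHom = THb φ')
    (h2 : (THb φ).map α.toMonoidHom = THb ψ) : False := by
  have hx1 : mkP (tvS v φ hvφ) ∈ TPb v := mem_TPb.mpr ⟨φ, hvφ, rfl⟩
  have hx2 : mkP (tvS v φ hvφ) ∈ THb φ := mem_THb.mpr ⟨v, hvφ, rfl⟩
  have hne : α (mkP (tvS v φ hvφ)) ≠ 1 := aut_ne_one α (mkP_tvS_ne_one (by omega) hvφ hv hφ)
  have m1 : α (mkP (tvS v φ hvφ)) ∈ THb φ' := by
    rw [← h1]; exact Subgroup.mem_map_of_mem _ hx1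
  have m2 : α (mkP (tvS v φ hvφ)) ∈ THb ψ := by
    rw [← h2]; exact Subgroup.mem_map_of_mem _ hx2
  have := THb_eq_of_common (by omega) m1 m2 hne
  rw [← h1, ← h2] at this
  exact TPb_ne_THb hn hv (map_aut_injective α this)

/-- points to points, hyperplanes to hyperplanes -/
def PP (α : PSLn ≃* PSLn) : Prop :=
  (∀ v : Vn, v ≠ 0 → ∃ v' : Vn, v' ≠ 0 ∧ (TPb v).map α.toMonoidHom = TPb v') ∧
  (∀ φ : Vn, φ ≠ 0 → ∃ φ' : Vn, φ' ≠ 0 ∧ (THb φ).map α.toMonoidHom = THb φ')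

/-- points to hyperplanes, hyperplanes to points -/
def PH (α : PSLn ≃* PSLn) : Prop :=
  (∀ v : Vn, v ≠ 0 → ∃ φ' : Vn, φ' ≠ 0 ∧ (TPb v).map α.toMonoidHom = THb φ') ∧
  (∀ φ : Vn, φ ≠ 0 → ∃ v' : Vn, v' ≠ 0 ∧ (THb φ).map α.toMonoidHom = TPb v')

theorem exists_common_ann (hn : 3 ≤ n) (v w : Vn) :
    ∃ φ : Vn, φ ≠ 0 ∧ φ ⬝ᵥ v = 0 ∧ φ ⬝ᵥ w = 0 := by
  obtain ⟨φ, hφ, h1, h2⟩ := exists_common_zero hn v w
  exact ⟨φ, hφ, by rw [dotProduct_comm]; exact h1, by rw [dotProduct_comm]; exact h2⟩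

theorem PresT.pp_or_ph (hn : 3 ≤ n) {α : PSLn ≃* PSLn} (h : PresT α) : PP α ∨ PH α := by
  have dP : ∀ v : Vn, v ≠ 0 →
      (∃ v' : Vn, v' ≠ 0 ∧ (TPb v).map α.toMonoidHom = TPb v') ∨
      (∃ φ' : Vn, φ' ≠ 0 ∧ (TPb v).map α.toMonoidHom = THb φ') :=
    fun v hv => (h.isMaxTS (isMaxTS_TPb hn hv)).eq_TPb_or_THb hn
  have dH : ∀ φ : Vn, φ ≠ 0 →
      (∃ v' : Vn, v' ≠ 0 ∧ (THb φ).map α.toMonoidHom = TPb v') ∨
      (∃ φ' : Vn, φ' ≠ 0 ∧ (THb φ).map α.toMonoidHom = THb φ') :=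
    fun φ hφ => (h.isMaxTS (isMaxTS_THb hn hφ)).eq_TPb_or_THb hn
  have hv0 : (Pi.single ⟨0, by omega⟩ 1 : Vn) ≠ 0 := single_ne_zero' (by omega)
  rcases dP _ hv0 with ⟨v0', hv0', e0⟩ | ⟨φ0', hφ0', e0⟩
  · left
    have HH : ∀ (v φ : Vn), v ≠ 0 → φ ≠ 0 → φ ⬝ᵥ v = 0 →
        (∃ v' : Vn, v' ≠ 0 ∧ (TPb v).map α.toMonoidHom = TPb v') →
        ∃ φ' : Vn, φ' ≠ 0 ∧ (THb φ).map α.toMonoidHom = THb φ' := by
      rintro v φ hv hφ hvφ ⟨v', -, e⟩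
      rcases dH φ hφ with ⟨u, -, e'⟩ | r
      · exact (not_both_P hn α hv hφ hvφ e e').elim
      · exact r
    have PPall : ∀ w : Vn, w ≠ 0 →
        ∃ v' : Vn, v' ≠ 0 ∧ (TPb w).map α.toMonoidHom = TPb v' := by
      intro w hw
      obtain ⟨φ, hφ, h1, h2⟩ := exists_common_ann hn (Pi.single ⟨0, by omega⟩ 1) w
      obtain ⟨ψ, -, eψ⟩ := HH _ φ hv0 hφ h1 ⟨v0', hv0', e0⟩
      rcases dP w hw with r | ⟨φ', -, e'⟩
      · exact r
      · exact (not_both_H hn α hw hφ h2 e' eψ).elim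
    refine ⟨PPall, fun φ hφ => ?_⟩
    obtain ⟨v, hv, h1, -⟩ := exists_common_zero hn φ φ
    exact HH v φ hv hφ h1 (PPall v hv)
  · right
    have HP : ∀ (v φ : Vn), v ≠ 0 → φ ≠ 0 → φ ⬝ᵥ v = 0 →
        (∃ φ' : Vn, φ' ≠ 0 ∧ (TPb v).map α.toMonoidHom = THb φ') →
        ∃ v' : Vn, v' ≠ 0 ∧ (THb φ).map α.toMonoidHom = TPb v' := by
      rintro v φ hv hφ hvφ ⟨φ', -, e⟩
      rcases dH φ hφ with r | ⟨ψ, -, e'⟩
      · exact r
      · exact (not_both_H hn α hv hφ hvφ e e').elim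
    have PHall : ∀ w : Vn, w ≠ 0 →
        ∃ φ' : Vn, φ' ≠ 0 ∧ (TPb w).map α.toMonoidHom = THb φ' := by
      intro w hw
      obtain ⟨φ, hφ, h1, h2⟩ := exists_common_ann hn (Pi.single ⟨0, by omega⟩ 1) w
      obtain ⟨u, -, eu⟩ := HP _ φ hv0 hφ h1 ⟨φ0', hφ0', e0⟩
      rcases dP w hw with ⟨v', -, e'⟩ | r
      · exact (not_both_P hn α hw hφ h2 e' eu).elim
      · exact r
    refine ⟨PHall, fun φ hφ => ?_⟩
    obtain ⟨v, hv, h1, -⟩ := exists_common_zero hn φ φ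
    exact HP v φ hv hφ h1 (PHall v hv)

/-- one point going to a point decides the type -/
theorem PresT.pp_of_one (hn : 3 ≤ n) {α : PSLn ≃* PSLn} (h : PresT α) {v v' : Vn} (hv : v ≠ 0)
    (e : (TPb v).map α.toMonoidHom = TPb v') (hv' : v' ≠ 0) : PP α := by
  rcases h.pp_or_ph hn with r | r
  · exact r
  · obtain ⟨φ', -, e'⟩ := r.1 v hv
    exact (TPb_ne_THb hn hv' (e.symm.trans e')).elim

theorem PP.symm (hn : 3 ≤ n) {α : PSLn ≃* PSLn} (h : PresT α) (hp : PP α) : PP α.symm := by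
  rcases h.symm.pp_or_ph hn with r | r
  · exact r
  · exfalso
    have hv0 : (Pi.single ⟨0, by omega⟩ 1 : Vn) ≠ 0 := single_ne_zero' (by omega)
    obtain ⟨φ', hφ', e'⟩ := r.1 _ hv0
    obtain ⟨ψ, hψ, e⟩ := hp.2 φ' hφ'
    rw [← e', map_symm_map] at e
    exact TPb_ne_THb hn hv0 e

/-- maximality: an inclusion of the image of `TPb v` is an equality -/
theorem PresT.map_TPb_eq (hn : 3 ≤ n) {α : PSLn ≃* PSLn} (h : PresT α) {v : Vn} (hv : v ≠ 0)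
    {B : Subgroup PSLn} (hB : IsTS B) (hle : (TPb v).map α.toMonoidHom ≤ B) :
    (TPb v).map α.toMonoidHom = B :=
  ((h.isMaxTS (isMaxTS_TPb hn hv)).2 B hle hB).symm

theorem PresT.map_THb_eq (hn : 3 ≤ n) {α : PSLn ≃* PSLn} (h : PresT α) {φ : Vn} (hφ : φ ≠ 0)
    {B : Subgroup PSLn} (hB : IsTS B) (hle : (THb φ).map α.toMonoidHom ≤ B) :
    (THb φ).map α.toMonoidHom = B :=
  ((h.isMaxTS (isMaxTS_THb hn hφ)).2 B hle hB).symm

end Cfsg.Agent.Lib.Helper9.APSL
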