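import Mathlib
import Cfsg.Agent.Lib.Helper9.APSL9

set_option autoImplicit false

/-! Automorphisms of `PSL_n(F)`: the standard automorphisms on the maximal transvection
subgroups, and normalisation along the standard frame. -/

namespace Cfsg.Agent.Lib.Helper9.APSL

open Matrix

variable {F : Type*} [Field F] {n : ℕ}

local notation "Mn" => Matrix (Fin n) (Fin n) F
local notation "SLn" => Matrix.SpecialLinearGroup (Fin n) F
local notation "PSLn" => Matrix.ProjectiveSpecialLinearGroup (Fin n) F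
local notation "Vn" => (Fin n → F)
local notation "GLn" => GL (Fin n) F

theorem map_invT_TPb (v : Vn) :
    (TPb v).map ((liftAut invT : MulAut PSLn) : PSLn ≃* PSLn).toMonoidHom = THb v := by
  ext x
  constructor
  · rintro ⟨y, hy, rfl⟩
    obtain ⟨φ, h, rfl⟩ := mem_TPb.mp hy
    show liftAut invT (mkP (tvS v φ h)) ∈ THb v
    rw [liftAut_mkP, invT_tvS]
    exact mem_THb.mpr ⟨-φ, _, rfl⟩
  · intro hx
    obtain ⟨w, h, rfl⟩ := mem_THb.mp hx
    have h' : (-w) ⬝ᵥ v = 0 := by rw [neg_dotProduct, dotProduct_comm, h, neg_zero]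
    refine ⟨mkP (tvS v (-w) h'), mem_TPb.mpr ⟨-w, h', rfl⟩, ?_⟩
    show liftAut invT (mkP (tvS v (-w) h')) = _
    rw [liftAut_mkP, invT_tvS]
    congr 1
    exact tvS_congr (neg_neg w) rfl _ _

theorem map_invT_THb (φ : Vn) :
    (THb φ).map ((liftAut invT : MulAut PSLn) : PSLn ≃* PSLn).toMonoidHom = TPb φ := by
  ext x
  constructor
  · rintro ⟨y, hy, rfl⟩
    obtain ⟨v, h, rfl⟩ := mem_THb.mp hy
    show liftAut invT (mkP (tvS v φ h)) ∈ TPb φ
    rw [liftAut_mkP, invT_tvS]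
    have h' : (-v) ⬝ᵥ φ = 0 := by rw [neg_dotProduct, dotProduct_comm, h, neg_zero]
    refine mem_TPb.mpr ⟨-v, h', ?_⟩
    congr 1
    apply Subtype.ext
    rw [tvS_coe, tvS_coe]
    exact (tv_neg φ v).symm
  · intro hx
    obtain ⟨ψ, h, rfl⟩ := mem_TPb.mp hx
    have h' : φ ⬝ᵥ (-ψ) = 0 := by rw [dotProduct_neg, dotProduct_comm, h, neg_zero]
    refine ⟨mkP (tvS (-ψ) φ h'), mem_THb.mpr ⟨-ψ, h', rfl⟩, ?_⟩
    show liftAut invT (mkP (tvS (-ψ) φ h')) = _
    rw [liftAut_mkP, invT_tvS]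
    congr 1
    apply Subtype.ext
    rw [tvS_coe, tvS_coe, ← tv_neg, neg_neg]

theorem map_conj_TPb (g : GLn) (v : Vn) :
    (TPb v).map ((liftAut (conjSL g) : MulAut PSLn) : PSLn ≃* PSLn).toMonoidHom
      = TPb ((g : Mn) *ᵥ v) := by
  ext x
  constructor
  · rintro ⟨y, hy, rfl⟩
    obtain ⟨φ, h, rfl⟩ := mem_TPb.mp hy
    show liftAut (conjSL g) (mkP (tvS v φ h)) ∈ _
    rw [liftAut_mkP, conjSL_tvS]
    exact mem_TPb.mpr ⟨_, _, rfl⟩
  · intro hx
    obtain ⟨ψ, h, rfl⟩ := mem_TPb.mp hx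
    have h' : (ψ ᵥ* (g : Mn)) ⬝ᵥ v = 0 := by rw [← dotProduct_mulVec]; exact h
    refine ⟨mkP (tvS v (ψ ᵥ* (g : Mn)) h'), mem_TPb.mpr ⟨_, h', rfl⟩, ?_⟩
    show liftAut (conjSL g) (mkP (tvS v (ψ ᵥ* (g : Mn)) h')) = _
    rw [liftAut_mkP, conjSL_tvS]
    congr 1
    refine tvS_congr rfl ?_ _ _
    rw [vecMul_vecMul, ← Units.val_mul, mul_inv_cancel, Units.val_one, vecMul_one]

theorem map_conj_THb (g : GLn) (φ : Vn) :
    (THb φ).map ((liftAut (conjSL g) : MulAut PSLn) : PSLn ≃* PSLn).toMonoidHom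
      = THb (φ ᵥ* ((g⁻¹ : GLn) : Mn)) := by
  ext x
  constructor
  · rintro ⟨y, hy, rfl⟩
    obtain ⟨v, h, rfl⟩ := mem_THb.mp hy
    show liftAut (conjSL g) (mkP (tvS v φ h)) ∈ _
    rw [liftAut_mkP, conjSL_tvS]
    exact mem_THb.mpr ⟨_, _, rfl⟩
  · intro hx
    obtain ⟨w, h, rfl⟩ := mem_THb.mp hx
    have h' : φ ⬝ᵥ (((g⁻¹ : GLn) : Mn) *ᵥ w) = 0 := by rw [dotProduct_mulVec]; exact h
    refine ⟨mkP (tvS (((g⁻¹ : GLn) : Mn) *ᵥ w) φ h'), mem_THb.mpr ⟨_, h', rfl⟩, ?_⟩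
    show liftAut (conjSL g) (mkP (tvS (((g⁻¹ : GLn) : Mn) *ᵥ w) φ h')) = _
    rw [liftAut_mkP, conjSL_tvS]
    congr 1
    refine tvS_congr ?_ rfl _ _
    rw [mulVec_mulVec, ← Units.val_mul, mul_inv_cancel, Units.val_one, one_mulVec]

theorem single_one_ne_zero (i : Fin n) : (Pi.single i 1 : Vn) ≠ 0 := by
  intro h
  have := congrFun h i
  simp at this

/-- the frame: the images of the coordinate points are the columns of an invertible matrix -/
theorem exists_frame (hn : 3 ≤ n) {α : PSLn ≃* PSLn} (h : PresT α) (hp : PP α) :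
    ∃ g : GLn, ∀ i : Fin n,
      (TPb (Pi.single i 1 : Vn)).map α.toMonoidHom = TPb ((g : Mn) *ᵥ Pi.single i 1) := by
  have hq : ∀ i : Fin n, ∃ q : Vn, q ≠ 0 ∧
      (TPb (Pi.single i 1 : Vn)).map α.toMonoidHom = TPb q :=
    fun i => hp.1 _ (single_one_ne_zero i)
  choose q hq0 hq using hq
  obtain ⟨Q, hQdef⟩ : ∃ Q : Mn, Q = Matrix.of fun i j => q j i := ⟨_, rfl⟩
  have hQ : ∀ j, Q *ᵥ Pi.single j 1 = q j := by
    intro j
    rw [mulVec_single_one]
    ext i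
    rw [hQdef]
    rfl
  have hdet : Q.det ≠ 0 := by
    intro h0
    obtain ⟨ψ, hψ, hψQ⟩ := Matrix.exists_vecMul_eq_zero_iff.mpr h0
    have hψq : ∀ j, ψ ⬝ᵥ q j = 0 := by
      intro j
      rw [← hQ j, dotProduct_mulVec, hψQ, zero_dotProduct]
    obtain ⟨φ, hφ, eφ⟩ := (PP.symm hn h hp).2 ψ hψ
    apply hφ
    funext j
    have hx1 : mkP (tvS (q j) ψ (hψq j)) ∈ TPb (q j) := mem_TPb.mpr ⟨ψ, _, rfl⟩
    have hx2 : mkP (tvS (q j) ψ (hψq j)) ∈ THb ψ := mem_THb.mpr ⟨q j, _, rfl⟩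
    have hne := aut_ne_one α.symm (mkP_tvS_ne_one (by omega) (hψq j) (hq0 j) hψ)
    have m1 : α.symm (mkP (tvS (q j) ψ (hψq j))) ∈ TPb (Pi.single j 1 : Vn) := by
      have : (TPb (q j)).map α.symm.toMonoidHom = TPb (Pi.single j 1 : Vn) := by
        rw [← hq j, map_map_symm]
      rw [← this]; exact Subgroup.mem_map_of_mem _ hx1
    have m2 : α.symm (mkP (tvS (q j) ψ (hψq j))) ∈ THb φ := by
      rw [← eφ]; exact Subgroup.mem_map_of_mem _ hx2
    have := dot_eq_zero_of_common (by omega) m1 m2 hne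
    rw [dotProduct_single, mul_one] at this
    exact this
  exact ⟨Matrix.GeneralLinearGroup.mkOfDetNeZero Q hdet, fun i => by
    rw [hq i]; congr 1; exact (hQ i).symm⟩

/-- fixing all coordinate points forces fixing all coordinate hyperplanes -/
theorem fix_THb (hn : 3 ≤ n) {α : PSLn ≃* PSLn} (h : PresT α)
    (hfix : ∀ i : Fin n, (TPb (Pi.single i 1 : Vn)).map α.toMonoidHom = TPb (Pi.single i 1))
    (j : Fin n) : (THb (Pi.single j 1 : Vn)).map α.toMonoidHom = THb (Pi.single j 1) := by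
  have hp : PP α := h.pp_of_one hn (single_one_ne_zero ⟨0, by omega⟩) (hfix _)
    (single_one_ne_zero _)
  obtain ⟨ψ, hψ, e⟩ := hp.2 (Pi.single j 1) (single_one_ne_zero j)
  rw [e]
  have hz : ∀ i, i ≠ j → ψ i = 0 := by
    intro i hij
    have h0 : (Pi.single j 1 : Vn) ⬝ᵥ (Pi.single i 1) = 0 := sd hij 1 1
    have hx1 : mkP (tvS (Pi.single i 1) (Pi.single j 1) h0) ∈ TPb (Pi.single i 1 : Vn) :=
      mem_TPb.mpr ⟨_, _, rfl⟩
    have hx2 : mkP (tvS (Pi.single i 1) (Pi.single j 1) h0) ∈ THb (Pi.single j 1 : Vn) :=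
      mem_THb.mpr ⟨_, _, rfl⟩
    have hne := aut_ne_one α (mkP_tvS_ne_one (by omega) h0 (single_one_ne_zero i)
      (single_one_ne_zero j))
    have m1 : α (mkP (tvS (Pi.single i 1) (Pi.single j 1) h0)) ∈ TPb (Pi.single i 1 : Vn) := by
      rw [← hfix i]; exact Subgroup.mem_map_of_mem _ hx1
    have m2 : α (mkP (tvS (Pi.single i 1) (Pi.single j 1) h0)) ∈ THb ψ := by
      rw [← e]; exact Subgroup.mem_map_of_mem _ hx2
    have := dot_eq_zero_of_common (by omega) m1 m2 hne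
    rw [dotProduct_single, mul_one] at this
    exact this
  have hψj : ψ = ψ j • (Pi.single j 1 : Vn) := by
    funext i
    by_cases hij : i = j
    · subst hij; simp
    · rw [hz i hij]; simp [hij]
  have hj0 : ψ j ≠ 0 := by
    intro h0
    apply hψ
    rw [hψj, h0, zero_smul]
  exact THb_eq_of_par ⟨ψ j, hj0, hψj⟩

theorem single_smul_one (i : Fin n) (t : F) : (t • (Pi.single i 1 : Vn)) = Pi.single i t := by
  rw [← Pi.single_smul, smul_eq_mul, mul_one]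

theorem xS_mem_TPb {i j : Fin n} (hij : i ≠ j) (t : F) :
    mkP (xS i j hij t) ∈ TPb (Pi.single i 1 : Vn) := by
  have h' : (t • (Pi.single j 1 : Vn)) ⬝ᵥ (Pi.single i 1 : Vn) = 0 := by
    rw [smul_dotProduct, sd hij, smul_zero]
  refine mem_TPb.mpr ⟨t • Pi.single j 1, h', ?_⟩
  congr 1
  unfold xS
  rw [← tvS_smul_left t (Pi.single i 1) (Pi.single j 1) (by
    rw [single_smul_one]; exact sd hij t 1) h']
  exact tvS_congr (single_smul_one i t).symm rfl _ _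

theorem xS_mem_THb {i j : Fin n} (hij : i ≠ j) (t : F) :
    mkP (xS i j hij t) ∈ THb (Pi.single j 1 : Vn) :=
  mem_THb.mpr ⟨Pi.single i t, sd hij t 1, rfl⟩

/-- root groups are preserved -/
theorem exists_root_image {α : PSLn ≃* PSLn}
    (hP : ∀ i : Fin n, (TPb (Pi.single i 1 : Vn)).map α.toMonoidHom = TPb (Pi.single i 1))
    (hH : ∀ j : Fin n, (THb (Pi.single j 1 : Vn)).map α.toMonoidHom = THb (Pi.single j 1))
    {i j : Fin n} (hij : i ≠ j) (t : F) :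
    ∃ t' : F, α (mkP (xS i j hij t)) = mkP (xS i j hij t') := by
  have hn : 0 < n := Fin.pos i
  have m1 : α (mkP (xS i j hij t)) ∈ TPb (Pi.single i 1 : Vn) := by
    rw [← hP i]; exact Subgroup.mem_map_of_mem _ (xS_mem_TPb hij t)
  have m2 : α (mkP (xS i j hij t)) ∈ THb (Pi.single j 1 : Vn) := by
    rw [← hH j]; exact Subgroup.mem_map_of_mem _ (xS_mem_THb hij t)
  obtain ⟨t', h', e⟩ := exists_of_mem_TPb_THb hn m1 m2
  refine ⟨t', ?_⟩
  rw [e]
  congr 1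
  exact tvS_congr (single_smul_one i t') rfl _ _

end Cfsg.Agent.Lib.Helper9.APSL
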