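import Mathlib
import Cfsg.Agent.Lib.Helper9.APSL10

set_option autoImplicit false

/-! Automorphisms of `PSL_n(F)`: algebra of the elementary transvections, and the
equaliser lemma. -/

namespace Cfsg.Agent.Lib.Helper9.APSL

open Matrix

variable {F : Type*} [Field F] {n : ℕ}

local notation "Mn" => Matrix (Fin n) (Fin n) F
local notation "SLn" => Matrix.SpecialLinearGroup (Fin n) F
local notation "PSLn" => Matrix.ProjectiveSpecialLinearGroup (Fin n) F
local notation "Vn" => (Fin n → F)
local notation "GLn" => GL (Fin n) F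

theorem vecMulVec_single_single' (k l : Fin n) (t u : F) :
    vecMulVec (Pi.single k t : Vn) (Pi.single l u : Vn) = Matrix.single k l (t * u) := by
  ext a b
  simp only [vecMulVec_apply, Matrix.single_apply, Pi.single_apply]
  split_ifs <;> simp_all

theorem xS_eq_transvection {k l : Fin n} (hkl : k ≠ l) (t : F) :
    xS k l hkl t = Matrix.SpecialLinearGroup.transvection hkl t := by
  apply Subtype.ext
  unfold xS
  rw [tvS_coe, tv, vecMulVec_single_single', mul_one, Matrix.SpecialLinearGroup.transvection_coe]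

theorem xS_add {k l : Fin n} (hkl : k ≠ l) (t u : F) :
    xS k l hkl (t + u) = xS k l hkl t * xS k l hkl u := by
  rw [xS_eq_transvection, xS_eq_transvection, xS_eq_transvection,
    Matrix.SpecialLinearGroup.transvection_add]

theorem xS_zero {k l : Fin n} (hkl : k ≠ l) : xS k l hkl (0 : F) = 1 := by
  rw [xS_eq_transvection, Matrix.SpecialLinearGroup.transvection_coeff_zero]

theorem xS_inv {k l : Fin n} (hkl : k ≠ l) (t : F) : (xS k l hkl t)⁻¹ = xS k l hkl (-t) := by
  rw [xS_eq_transvection, xS_eq_transvection, Matrix.SpecialLinearGroup.transvection_inv]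

theorem xS_apply {k l : Fin n} (hkl : k ≠ l) (t : F) : ((xS k l hkl t : SLn) : Mn) k l = t := by
  rw [xS_eq_transvection, Matrix.SpecialLinearGroup.transvection_coe]
  simp [hkl]

theorem xS_inj {k l : Fin n} (hkl : k ≠ l) {t u : F}
    (h : mkP (xS k l hkl t) = mkP (xS k l hkl u)) : t = u := by
  have hn : 0 < n := Fin.pos k
  have := tvS_eq_of_mkP_eq hn _ _ _ _ _ _ h
  have h2 : ((xS k l hkl t : SLn) : Mn) k l = ((xS k l hkl u : SLn) : Mn) k l := by
    unfold xS
    rw [this]
  rwa [xS_apply, xS_apply] at h2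

theorem comm_rel_ring {R : Type*} [Ring R] (a b : R) (haa : a * a = 0) (hbb : b * b = 0)
    (hba : b * a = 0) : (1 + a) * (1 + b) * (1 - a) * (1 - b) = 1 + a * b := by
  have h1 : (1 + a) * (1 + b) * (1 - a) = 1 + b + a * b := by
    have : (1 + a) * (1 + b) * (1 - a) = 1 + b + a * b - a * a - b * a - a * (b * a) := by
      noncomm_ring
    rw [this, haa, hba]
    simp
  rw [h1]
  have : (1 + b + a * b) * (1 - b) = 1 + a * b - b * b - a * (b * b) := by noncomm_ring
  rw [this, hbb]
  simp

/-- the commutator relation -/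
theorem xS_comm {i j k : Fin n} (hij : i ≠ j) (hjk : j ≠ k) (hik : i ≠ k) (t u : F) :
    xS i j hij t * xS j k hjk u * (xS i j hij t)⁻¹ * (xS j k hjk u)⁻¹ = xS i k hik (t * u) := by
  rw [xS_inv, xS_inv]
  apply Subtype.ext
  simp only [xS_eq_transvection, Matrix.SpecialLinearGroup.coe_mul,
    Matrix.SpecialLinearGroup.transvection_coe]
  have e1 : (1 : Mn) + single i j (-t) = 1 - single i j t := by
    rw [← single_neg, sub_eq_add_neg]
  have e2 : (1 : Mn) + single j k (-u) = 1 - single j k u := by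
    rw [← single_neg, sub_eq_add_neg]
  rw [e1, e2, comm_rel_ring _ _ (single_mul_single_of_ne _ _ _ _ hij.symm _)
    (single_mul_single_of_ne _ _ _ _ hjk.symm _) (single_mul_single_of_ne _ _ _ _ hik.symm _),
    single_mul_single_same]

theorem tvS_single_single {k l : Fin n} (hkl : k ≠ l) (a b : F)
    (h : (Pi.single l b : Vn) ⬝ᵥ (Pi.single k a) = 0) :
    tvS (Pi.single k a) (Pi.single l b) h = xS k l hkl (a * b) := by
  apply Subtype.ext
  unfold xS
  rw [tvS_coe, tvS_coe, tv, tv, vecMulVec_single_single', vecMulVec_single_single', mul_one]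

theorem fieldSL_xS (σ : F ≃+* F) {k l : Fin n} (hkl : k ≠ l) (t : F) :
    fieldSL σ (xS k l hkl t) = xS k l hkl (σ t) := by
  unfold xS
  rw [fieldSL_tvS]
  apply tvS_congr
  · funext i
    by_cases hik : i = k
    · subst hik; simp
    · simp [hik]
  · funext i
    by_cases hil : i = l
    · subst hil; simp
    · simp [hil]

/-- conjugating an elementary transvection by an invertible diagonal matrix -/
theorem conjSL_diag_xS (g : GLn) (δ : Fin n → F) (hg : (g : Mn) = diagonal δ)
    (hδ : ∀ i, δ i ≠ 0) {k l : Fin n} (hkl : k ≠ l) (t : F) :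
    conjSL g (xS k l hkl t) = xS k l hkl (δ k * t * (δ l)⁻¹) := by
  have e1 : (g : Mn) *ᵥ Pi.single k t = Pi.single k (δ k * t) := by
    rw [hg, diagonal_mulVec_single]
  have e2 : (Pi.single l 1 : Vn) ᵥ* ((g⁻¹ : GLn) : Mn) = Pi.single l (δ l)⁻¹ := by
    have : (Pi.single l (δ l)⁻¹ : Vn) ᵥ* (g : Mn) = Pi.single l 1 := by
      rw [hg, single_vecMul_diagonal, inv_mul_cancel₀ (hδ l)]
    rw [← this, vecMul_vecMul, ← Units.val_mul, mul_inv_cancel, Units.val_one, vecMul_one]
  unfold xS
  rw [conjSL_tvS]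
  rw [tvS_congr e1 e2 _ (sd hkl _ _)]
  exact tvS_single_single hkl _ _ _

/-- conjugating an elementary transvection by a diagonal element of `SL` -/
theorem conj_diag_xS (D : SLn) (δ : Fin n → F) (hD : (D : Mn) = diagonal δ)
    (hδ : ∀ i, δ i ≠ 0) {k l : Fin n} (hkl : k ≠ l) (t : F) :
    D * xS k l hkl t * D⁻¹ = xS k l hkl (δ k * t * (δ l)⁻¹) := by
  have e1 : (D : Mn) *ᵥ Pi.single k t = Pi.single k (δ k * t) := by
    rw [hD, diagonal_mulVec_single]
  have e2 : (Pi.single l 1 : Vn) ᵥ* ((D⁻¹ : SLn) : Mn) = Pi.single l (δ l)⁻¹ := by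
    apply vecMul_inv_of
    rw [hD, single_vecMul_diagonal, inv_mul_cancel₀ (hδ l)]
  unfold xS
  rw [conj_tvS]
  rw [tvS_congr e1 e2 _ (sd hkl _ _)]
  exact tvS_single_single hkl _ _ _

/-- the equaliser lemma: an automorphism fixing all elementary transvections is trivial -/
theorem eq_of_fix_elem (hn : 2 ≤ n) (β : PSLn ≃* PSLn)
    (hfix : ∀ (k l : Fin n) (hkl : k ≠ l) (t : F), β (mkP (xS k l hkl t)) = mkP (xS k l hkl t))
    (x : PSLn) : β x = x := by
  have key : ∀ (D : SLn) (δ : Fin n → F), (D : Mn) = diagonal δ → (∀ i, δ i ≠ 0) →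
      β (mkP D) = mkP D := by
    intro D δ hD hδ
    obtain ⟨s, hs⟩ := mkP_surjective ((mkP D)⁻¹ * β (mkP D))
    have hcomm : ∀ (k l : Fin n) (hkl : k ≠ l) (t : F),
        s * xS k l hkl t = xS k l hkl t * s := by
      intro k l hkl t
      apply commute_of_mkP_commute (by omega)
      rw [hs]
      have h1 : β (mkP (D * xS k l hkl t * D⁻¹)) = mkP (D * xS k l hkl t * D⁻¹) := by
        rw [conj_diag_xS D δ hD hδ]
        exact hfix _ _ _ _
      rw [map_mul, map_mul, map_mul, map_mul, hfix, map_inv, map_inv] at h1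
      calc (mkP D)⁻¹ * β (mkP D) * mkP (xS k l hkl t)
          = (mkP D)⁻¹ * (β (mkP D) * mkP (xS k l hkl t) * (β (mkP D))⁻¹) * β (mkP D) := by group
        _ = (mkP D)⁻¹ * (mkP D * mkP (xS k l hkl t) * (mkP D)⁻¹) * β (mkP D) := by rw [h1]
        _ = mkP (xS k l hkl t) * ((mkP D)⁻¹ * β (mkP D)) := by group
    have hsc : (s : Mn) ∈ Set.range (Matrix.scalar (Fin n)) := by
      apply Matrix.mem_range_scalar_of_commute_transvectionStruct
      intro T
      have h2 := congrArg Subtype.val (hcomm T.i T.j T.hij T.c)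
      rw [xS_eq_transvection] at h2
      exact h2.symm
    obtain ⟨r, hr⟩ := hsc
    have h1 : mkP s = 1 := by
      have hrn : r ^ n = 1 := by
        have := s.2
        rw [← hr, Matrix.scalar_apply, det_diagonal] at this
        simpa using this
      have := (mkP_eq_iff 1 s).mpr ⟨r, hrn, by
        rw [← hr, Matrix.SpecialLinearGroup.coe_one]
        ext i j
        simp [Matrix.scalar_apply, Matrix.diagonal_apply, Matrix.one_apply]⟩
      rw [← this, map_one]
    rw [hs] at h1
    exact (inv_mul_eq_one.mp h1).symm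
  obtain ⟨s, rfl⟩ := mkP_surjective x
  haveI : Nontrivial (Fin n) := Fin.nontrivial_iff_two_le.mpr hn
  refine Matrix.SpecialLinearGroup.diagonal_transvection_induction'
    (fun s => β (mkP s) = mkP s) s ?_ ?_ ?_
  · intro i j hij c hc
    refine key _ _ (Matrix.SpecialLinearGroup.diag2n_coe hij c hc) (fun k => ?_)
    split_ifs
    · exact hc
    · exact inv_ne_zero hc
    · exact one_ne_zero
  · intro i j hij a
    rw [← xS_eq_transvection]
    exact hfix _ _ _ _
  · intro A B hA hB
    show β (mkP (A * B)) = mkP (A * B)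
    rw [map_mul, map_mul, hA, hB]

end Cfsg.Agent.Lib.Helper9.APSL
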