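import Mathlib
import Cfsg.Agent.Lib.Helper9.APSL11

set_option autoImplicit false

/-! Automorphisms of `PSL_n(F)`: the functions on the root groups come from one field
endomorphism. -/

namespace Cfsg.Agent.Lib.Helper9.APSL

open Matrix

variable {F : Type*} [Field F] {n : ℕ}

local notation "Mn" => Matrix (Fin n) (Fin n) F
local notation "SLn" => Matrix.SpecialLinearGroup (Fin n) F
local notation "PSLn" => Matrix.ProjectiveSpecialLinearGroup (Fin n) F
local notation "Vn" => (Fin n → F)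
local notation "GLn" => GL (Fin n) F

/-- the purely algebraic step -/
theorem exists_sigma (hn : 3 ≤ n) (f : Fin n → Fin n → F → F)
    (hadd : ∀ i j, i ≠ j → ∀ t u, f i j (t + u) = f i j t + f i j u)
    (hmul : ∀ i j k, i ≠ j → j ≠ k → i ≠ k → ∀ t u, f i k (t * u) = f i j t * f j k u)
    (hone : ∀ j : Fin n, j ≠ ⟨0, by omega⟩ → f ⟨0, by omega⟩ j 1 = 1) :
    ∃ σ : F →+* F, ∀ i j, i ≠ j → ∀ t, f i j t = σ t := by
  obtain ⟨o, ho⟩ : ∃ o : Fin n, o = ⟨0, by omega⟩ := ⟨_, rfl⟩
  obtain ⟨o1, ho1⟩ : ∃ o1 : Fin n, o1 = ⟨1, by omega⟩ := ⟨_, rfl⟩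
  obtain ⟨o2, ho2⟩ : ∃ o2 : Fin n, o2 = ⟨2, by omega⟩ := ⟨_, rfl⟩
  rw [← ho] at hone
  have h01 : o ≠ o1 := by rw [ho, ho1]; intro h; simpa using congrArg Fin.val h
  have h02 : o ≠ o2 := by rw [ho, ho2]; intro h; simpa using congrArg Fin.val h
  have h12 : o1 ≠ o2 := by rw [ho1, ho2]; intro h; simpa using congrArg Fin.val h
  -- all the constants are `1`
  have s1 : ∀ j k, j ≠ o → k ≠ o → j ≠ k → f j k 1 = 1 := by
    intro j k hj hk hjk
    have := hmul o j k hj.symm hjk hk.symm 1 1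
    rw [mul_one, hone j hj, hone k hk, one_mul] at this
    exact this.symm
  have s2 : ∀ j, j ≠ o → f j o 1 = 1 := by
    intro j hj
    obtain ⟨k, hkj, hko⟩ := exists_third hn j o
    have := hmul j o k hj hko.symm hkj.symm 1 1
    rw [mul_one, s1 j k hj hko hkj.symm, hone k hko, mul_one] at this
    exact this.symm
  have hc : ∀ i j, i ≠ j → f i j 1 = 1 := by
    intro i j hij
    by_cases hi : i = o
    · subst hi; exact hone j hij.symm
    by_cases hj : j = o
    · subst hj; exact s2 i hi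
    exact s1 i j hi hj hij
  have row : ∀ i j k, i ≠ j → j ≠ k → i ≠ k → ∀ t, f i k t = f i j t := by
    intro i j k hij hjk hik t
    have := hmul i j k hij hjk hik t 1
    rw [mul_one, hc j k hjk, mul_one] at this
    exact this
  have col : ∀ i j k, i ≠ j → j ≠ k → i ≠ k → ∀ u, f i k u = f j k u := by
    intro i j k hij hjk hik u
    have := hmul i j k hij hjk hik 1 u
    rw [one_mul, hc i j hij, one_mul] at this
    exact this
  have c1 : ∀ j, j ≠ o → ∀ t, f o j t = f o o1 t := by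
    intro j hj t
    by_cases hj1 : j = o1
    · rw [hj1]
    · exact (row o j o1 hj.symm hj1 h01 t).symm
  have c2 : ∀ i j, i ≠ o → j ≠ o → i ≠ j → ∀ t, f i j t = f o o1 t := by
    intro i j hi hj hij t
    rw [col i o j hi hj.symm hij t, c1 j hj t]
  have all : ∀ i j, i ≠ j → ∀ t, f i j t = f o o1 t := by
    intro i j hij t
    by_cases hi : i = o
    · subst hi; exact c1 j hij.symm t
    by_cases hj : j = o
    · subst hj
      obtain ⟨k, hki, hkj⟩ := exists_third hn i j
      rw [row i k j hki.symm hkj hij t]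
      exact c2 i k hi hkj hki.symm t
    exact c2 i j hi hj hij t
  have hzero : f o o1 0 = 0 := by
    have := hadd o o1 h01 0 0
    rw [add_zero] at this
    have h2 : f o o1 0 + 0 = f o o1 0 + f o o1 0 := by rw [add_zero]; exact this
    exact (add_left_cancel h2).symm
  refine ⟨{ toFun := f o o1
            map_one' := hc o o1 h01
            map_mul' := ?_
            map_zero' := hzero
            map_add' := hadd o o1 h01 }, fun i j hij t => all i j hij t⟩
  intro t u
  have := hmul o o1 o2 h01 h12 h02 t u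
  rw [all o o2 h02, all o1 o2 h12] at this
  exact this

theorem eq_of_agree_elem (hn : 2 ≤ n) (α β : PSLn ≃* PSLn)
    (h : ∀ (k l : Fin n) (hkl : k ≠ l) (t : F),
      α (mkP (xS k l hkl t)) = β (mkP (xS k l hkl t))) : α = β := by
  apply MulEquiv.ext
  intro x
  have := eq_of_fix_elem hn (α.trans β.symm) (fun k l hkl t => by
    rw [MulEquiv.trans_apply, h, MulEquiv.symm_apply_apply]) x
  rw [MulEquiv.trans_apply] at this
  rw [← β.apply_symm_apply (α x), this]

theorem liftAut_conj_mul (g h : GLn) :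
    liftAut (conjSL g) * liftAut (conjSL h) = liftAut (conjSL (g * h)) := by
  apply MulEquiv.ext
  intro x
  obtain ⟨s, rfl⟩ := mkP_surjective x
  rw [MulAut.mul_apply, liftAut_mkP, liftAut_mkP, liftAut_mkP]
  congr 1
  apply Subtype.ext
  rw [conjSL_coe, conjSL_coe, conjSL_coe, _root_.mul_inv_rev, Units.val_mul, Units.val_mul]
  simp only [mul_assoc]

theorem liftAut_conj_one : liftAut (conjSL (1 : GLn)) = 1 := by
  apply MulEquiv.ext
  intro x
  obtain ⟨s, rfl⟩ := mkP_surjective x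
  rw [liftAut_mkP]
  show mkP _ = mkP s
  congr 1
  apply Subtype.ext
  rw [conjSL_coe]
  simp

theorem liftAut_conj_inv (g : GLn) : (liftAut (conjSL g))⁻¹ = liftAut (conjSL g⁻¹) := by
  apply inv_eq_of_mul_eq_one_left
  rw [liftAut_conj_mul, inv_mul_cancel, liftAut_conj_one]

theorem liftAut_invT_sq : liftAut (invT (F := F) (n := n)) * liftAut invT = 1 := by
  apply MulEquiv.ext
  intro x
  obtain ⟨s, rfl⟩ := mkP_surjective x
  rw [MulAut.mul_apply, liftAut_mkP, liftAut_mkP]
  show mkP _ = mkP s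
  congr 1
  exact invT_invT_aux s

section finite

variable [Finite F]

/-- an automorphism fixing the coordinate points is a diagonal conjugation times a field
automorphism -/
theorem exists_diag_field (hn : 3 ≤ n)
    (hall : ∀ α : MulAut PSLn, PresT (α : PSLn ≃* PSLn)) (α : MulAut PSLn)
    (hP : ∀ i : Fin n, (TPb (Pi.single i 1 : Vn)).map (α : PSLn ≃* PSLn).toMonoidHom
      = TPb (Pi.single i 1)) :
    ∃ (d : GLn) (σ : F ≃+* F), liftAut (conjSL d) * α = liftAut (fieldSL σ) := by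
  have hH := fix_THb hn (hall α) hP
  have hf : ∀ (i j : Fin n) (t : F), ∃ t' : F, ∀ hij : i ≠ j,
      α (mkP (xS i j hij t)) = mkP (xS i j hij t') := by
    intro i j t
    by_cases hij : i = j
    · exact ⟨0, fun h => absurd hij h⟩
    · obtain ⟨t', ht'⟩ := exists_root_image hP hH hij t
      exact ⟨t', fun _ => ht'⟩
  choose f hf using hf
  have hadd : ∀ i j, i ≠ j → ∀ t u, f i j (t + u) = f i j t + f i j u := by
    intro i j hij t u
    apply xS_inj hij
    rw [← hf i j (t + u) hij, xS_add, map_mul, map_mul, hf i j t hij, hf i j u hij, ← map_mul,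
      ← xS_add]
  have hmul : ∀ i j k, i ≠ j → j ≠ k → i ≠ k → ∀ t u, f i k (t * u) = f i j t * f j k u := by
    intro i j k hij hjk hik t u
    apply xS_inj hik
    rw [← hf i k (t * u) hik, ← xS_comm hij hjk hik t u, ← xS_comm hij hjk hik (f i j t) (f j k u)]
    simp only [map_mul, map_inv]
    rw [hf i j t hij, hf j k u hjk]
  have hinj : ∀ i j, i ≠ j → ∀ t, f i j t = 0 → t = 0 := by
    intro i j hij t h0
    have h1 := hf i j t hij
    rw [h0, xS_zero, map_one] at h1
    have h2 : mkP (xS i j hij t) = 1 := by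
      apply (α : PSLn ≃* PSLn).injective
      rw [h1, map_one]
    apply xS_inj hij
    rw [h2, xS_zero, map_one]
  obtain ⟨o, ho⟩ : ∃ o : Fin n, o = ⟨0, by omega⟩ := ⟨_, rfl⟩
  obtain ⟨δ, hδdef⟩ : ∃ δ : Fin n → F, δ = fun j => if j = o then 1 else f o j 1 := ⟨_, rfl⟩
  have hδo : δ o = 1 := by rw [hδdef]; simp
  have hδj : ∀ j, j ≠ o → δ j = f o j 1 := by intro j hj; rw [hδdef]; simp [hj]
  have hδ : ∀ j, δ j ≠ 0 := by
    intro j
    by_cases hj : j = o
    · rw [hj, hδo]; exact one_ne_zero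
    · rw [hδj j hj]
      intro h0
      exact one_ne_zero (hinj o j (Ne.symm hj) 1 h0)
  have hdet : (diagonal δ : Mn).det ≠ 0 := by
    rw [det_diagonal]
    exact Finset.prod_ne_zero_iff.mpr (fun j _ => hδ j)
  obtain ⟨d, hd⟩ : ∃ d : GLn, (d : Mn) = diagonal δ :=
    ⟨Matrix.GeneralLinearGroup.mkOfDetNeZero _ hdet, rfl⟩
  obtain ⟨σ0, hσ0⟩ := exists_sigma hn (fun i j t => δ i * f i j t * (δ j)⁻¹)
    (fun i j hij t u => by
      show δ i * f i j (t + u) * (δ j)⁻¹ = δ i * f i j t * (δ j)⁻¹ + δ i * f i j u * (δ j)⁻¹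
      rw [hadd i j hij]; ring)
    (fun i j k hij hjk hik t u => by
      show δ i * f i k (t * u) * (δ k)⁻¹
        = (δ i * f i j t * (δ j)⁻¹) * (δ j * f j k u * (δ k)⁻¹)
      rw [hmul i j k hij hjk hik]
      have := hδ j
      field_simp)
    (fun j hj => by
      show δ _ * f _ j 1 * (δ j)⁻¹ = 1
      rw [← ho] at hj ⊢
      have h1 := hδ j
      rw [hδo, one_mul, ← hδj j hj, mul_inv_cancel₀ h1])
  have hbij : Function.Bijective σ0 :=
    ⟨σ0.injective, Finite.injective_iff_surjective.mp σ0.injective⟩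
  refine ⟨d, RingEquiv.ofBijective σ0 hbij, ?_⟩
  apply eq_of_agree_elem (by omega)
  intro k l hkl t
  rw [MulAut.mul_apply, hf k l t hkl, liftAut_mkP, liftAut_mkP, conjSL_diag_xS d δ hd hδ,
    fieldSL_xS]
  congr 2
  exact hσ0 k l hkl t

/-- **automorphisms of `PSL_n(F)`, `n ≥ 3`** -/
theorem aut_eq_std (hn : 3 ≤ n)
    (hall : ∀ α : MulAut PSLn, PresT (α : PSLn ≃* PSLn)) (β : MulAut PSLn) :
    ∃ (g : GLn) (σ : F ≃+* F), β = liftAut (conjSL g) * liftAut (fieldSL σ) ∨
      β = liftAut (conjSL g) * liftAut (fieldSL σ) * liftAut invT := by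
  have core : ∀ α : MulAut PSLn, PP (α : PSLn ≃* PSLn) →
      ∃ (g : GLn) (σ : F ≃+* F), α = liftAut (conjSL g) * liftAut (fieldSL σ) := by
    intro α hp
    obtain ⟨g, hg⟩ := exists_frame hn (hall α) hp
    have hP2 : ∀ i : Fin n, (TPb (Pi.single i 1 : Vn)).map
        (((liftAut (conjSL g))⁻¹ * α : MulAut PSLn) : PSLn ≃* PSLn).toMonoidHom
          = TPb (Pi.single i 1) := by
      intro i
      rw [map_mul_aut, hg i, ← map_conj_TPb g]
      exact map_map_symm _ _
    obtain ⟨d, σ, h⟩ := exists_diag_field hn hall _ hP2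
    refine ⟨g * d⁻¹, σ, ?_⟩
    rw [← h, ← liftAut_conj_mul, ← liftAut_conj_inv]
    group
  rcases (hall β).pp_or_ph hn with hp | hp
  · obtain ⟨g, σ, h⟩ := core β hp
    exact ⟨g, σ, Or.inl h⟩
  · have hp' : PP ((β * liftAut invT : MulAut PSLn) : PSLn ≃* PSLn) := by
      refine ⟨fun v hv => ?_, fun φ hφ => ?_⟩
      · rw [map_mul_aut, map_invT_TPb]; exact hp.2 v hv
      · rw [map_mul_aut, map_invT_THb]; exact hp.1 φ hφ
    obtain ⟨g, σ, h⟩ := core _ hp'
    refine ⟨g, σ, Or.inr ?_⟩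
    rw [← h, mul_assoc, liftAut_invT_sq, mul_one]

end finite

end Cfsg.Agent.Lib.Helper9.APSL
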