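import Mathlib
import Cfsg.Agent.Lib.Helper9.APSL12

set_option autoImplicit false

/-! Automorphisms of `PSL_2(F)`: basics. -/

namespace Cfsg.Agent.Lib.Helper9.APSL

open Matrix

variable {F : Type*} [Field F]

local notation "M2" => Matrix (Fin 2) (Fin 2) F
local notation "SL2" => Matrix.SpecialLinearGroup (Fin 2) F
local notation "PSL2" => Matrix.ProjectiveSpecialLinearGroup (Fin 2) F
local notation "V2" => (Fin 2 → F)
local notation "GL2" => GL (Fin 2) F

/-- inner automorphisms are induced by conjugation -/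
theorem liftAut_conj_toGL {n : ℕ} (s : Matrix.SpecialLinearGroup (Fin n) F) :
    liftAut (conjSL (Matrix.SpecialLinearGroup.toGL s)) = MulAut.conj (mkP s) := by
  apply MulEquiv.ext
  intro x
  obtain ⟨y, rfl⟩ := mkP_surjective x
  rw [liftAut_mkP, MulAut.conj_apply, ← map_inv, ← map_mul, ← map_mul]
  congr 1

theorem conj_comm_aut {G : Type*} [Group G] (α : MulAut G) (y : G) :
    α * MulAut.conj y = MulAut.conj (α y) * α := by
  apply MulEquiv.ext
  intro x
  simp [MulAut.conj_apply]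

/-- the plane: vectors killed by a nonzero form are proportional -/
theorem plane_par {φ v w : V2} (hφ : φ ≠ 0) (hv : v ≠ 0) (h1 : φ ⬝ᵥ v = 0) (h2 : φ ⬝ᵥ w = 0) :
    ∃ s : F, w = s • v := by
  rw [dotProduct, Fin.sum_univ_two] at h1 h2
  by_cases hφ1 : φ 1 = 0
  · have hφ0 : φ 0 ≠ 0 := by
      intro h0
      apply hφ
      funext i
      fin_cases i
      · exact h0
      · exact hφ1
    rw [hφ1, zero_mul, add_zero] at h1 h2
    have hv0 : v 0 = 0 := (mul_eq_zero.mp h1).resolve_left hφ0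
    have hw0 : w 0 = 0 := (mul_eq_zero.mp h2).resolve_left hφ0
    have hv1 : v 1 ≠ 0 := by
      intro h0
      apply hv
      funext i
      fin_cases i
      · exact hv0
      · exact h0
    refine ⟨w 1 / v 1, ?_⟩
    funext i
    fin_cases i
    · simp [hv0, hw0]
    · simp [hv1]
  · have hv0 : v 0 ≠ 0 := by
      intro h0
      rw [h0, mul_zero, zero_add] at h1
      have hv1 : v 1 = 0 := (mul_eq_zero.mp h1).resolve_left hφ1
      apply hv
      funext i
      fin_cases i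
      · exact h0
      · exact hv1
    refine ⟨w 0 / v 0, ?_⟩
    have e1 : v 1 = - (φ 0 * v 0) / φ 1 := by field_simp; linear_combination h1
    have e2 : w 1 = - (φ 0 * w 0) / φ 1 := by field_simp; linear_combination h2
    funext i
    fin_cases i
    · simp [hv0]
    · simp only [Fin.mk_one, Pi.smul_apply, smul_eq_mul]
      rw [e1, e2]
      field_simp

/-- the plane: forms killing a nonzero vector are proportional -/
theorem plane_par' {v φ ψ : V2} (hv : v ≠ 0) (hφ : φ ≠ 0) (h1 : φ ⬝ᵥ v = 0) (h2 : ψ ⬝ᵥ v = 0) :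
    ∃ s : F, ψ = s • φ := by
  rw [dotProduct_comm] at h1 h2
  exact plane_par hv hφ h1 h2

/-- `SL_2` is transitive on nonzero vectors -/
theorem exists_SL2_mulVec {v : V2} (hv : v ≠ 0) :
    ∃ s : SL2, (s : M2) *ᵥ (Pi.single 0 1) = v := by
  by_cases h0 : v 0 = 0
  · have h1 : v 1 ≠ 0 := by
      intro h1
      apply hv
      funext i
      fin_cases i
      · exact h0
      · exact h1
    refine ⟨⟨!![v 0, -(v 1)⁻¹; v 1, 0], ?_⟩, ?_⟩
    · rw [det_fin_two_of]; field_simp; ring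
    · funext i
      fin_cases i <;> simp [mulVec, dotProduct, Fin.sum_univ_two]
  · refine ⟨⟨!![v 0, 0; v 1, (v 0)⁻¹], ?_⟩, ?_⟩
    · rw [det_fin_two_of]; field_simp; ring
    · funext i
      fin_cases i <;> simp [mulVec, dotProduct, Fin.sum_univ_two]

theorem xS01_coe (h : (0 : Fin 2) ≠ 1) (t : F) : ((xS 0 1 h t : SL2) : M2) = !![1, t; 0, 1] := by
  rw [xS_eq_transvection, Matrix.SpecialLinearGroup.transvection_coe]
  ext i j
  fin_cases i <;> fin_cases j <;> simp [Matrix.single_apply]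

theorem xS10_coe (h : (1 : Fin 2) ≠ 0) (t : F) : ((xS 1 0 h t : SL2) : M2) = !![1, 0; t, 1] := by
  rw [xS_eq_transvection, Matrix.SpecialLinearGroup.transvection_coe]
  ext i j
  fin_cases i <;> fin_cases j <;> simp [Matrix.single_apply]

/-- the subgroups `TPb v` are abelian -/
theorem TPb_comm {n : ℕ} {v : Fin n → F} {x y : Matrix.ProjectiveSpecialLinearGroup (Fin n) F}
    (hx : x ∈ TPb v) (hy : y ∈ TPb v) : x * y = y * x := by
  obtain ⟨φ, h, rfl⟩ := mem_TPb.mp hx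
  obtain ⟨ψ, h', rfl⟩ := mem_TPb.mp hy
  rw [← map_mul, ← map_mul, tvS_mul_same_left, tvS_mul_same_left]
  congr 1
  exact tvS_congr rfl (add_comm _ _) _ _

/-- elements of `TPb e_i` in the plane -/
theorem mem_TPb_plane {i j : Fin 2} (hij : i ≠ j) {x : PSL2} :
    x ∈ TPb (Pi.single i 1 : V2) ↔ ∃ t : F, x = mkP (xS i j hij t) := by
  constructor
  · intro hx
    obtain ⟨φ, h, rfl⟩ := mem_TPb.mp hx
    rw [dotProduct_single, mul_one] at h
    have hφ : φ = Pi.single j (φ j) := by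
      funext k
      by_cases hk : k = j
      · subst hk; simp
      · have : k = i := by
          fin_cases k <;> fin_cases i <;> fin_cases j <;> simp_all
        subst this
        rw [h]; simp [hij]
    refine ⟨1 * φ j, ?_⟩
    rw [← tvS_single_single hij 1 (φ j) (sd hij 1 (φ j))]
    congr 1
    exact tvS_congr rfl hφ _ _
  · rintro ⟨t, rfl⟩
    exact xS_mem_TPb hij t

/-- the centraliser of an upper unitriangular element, concretely -/
theorem cent_xS01 (h01 : (0 : Fin 2) ≠ 1) {t : F} (ht : t ≠ 0) (g : SL2)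
    (hc : g * xS 0 1 h01 t = xS 0 1 h01 t * g) : mkP g ∈ TPb (Pi.single 0 1 : V2) := by
  have h1 := congrArg (fun s : SL2 => (s : M2)) hc
  simp only [Matrix.SpecialLinearGroup.coe_mul, xS01_coe] at h1
  rw [eta_fin_two (g : M2), mul_fin_two, mul_fin_two] at h1
  have e00 := congrFun (congrFun h1 0) 0
  have e01 := congrFun (congrFun h1 0) 1
  simp at e00 e01
  have hg10 : (g : M2) 1 0 = 0 := e00.resolve_left ht
  have hg11 : (g : M2) 1 1 = (g : M2) 0 0 := by
    have : t * ((g : M2) 0 0 - (g : M2) 1 1) = 0 := by linear_combination e01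
    rcases mul_eq_zero.mp this with h | h
    · exact absurd h ht
    · exact (sub_eq_zero.mp h).symm
  have hdet := g.2
  rw [det_fin_two, hg10, hg11, mul_zero, sub_zero] at hdet
  have ha : (g : M2) 0 0 ≠ 0 := by
    intro h0; rw [h0, mul_zero] at hdet; exact zero_ne_one hdet
  rw [mem_TPb_plane h01]
  refine ⟨(g : M2) 0 1 / (g : M2) 0 0, ?_⟩
  symm
  rw [mkP_eq_iff]
  refine ⟨(g : M2) 0 0, by rw [pow_two]; exact hdet, ?_⟩
  rw [xS01_coe, eta_fin_two (g : M2), hg10, hg11]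
  ext i j
  fin_cases i <;> fin_cases j <;> simp [ha]
  field_simp

theorem conj_mem_TPb {n : ℕ} (s : Matrix.SpecialLinearGroup (Fin n) F) {v : Fin n → F}
    {y : Matrix.ProjectiveSpecialLinearGroup (Fin n) F} (hy : y ∈ TPb v) :
    mkP s * y * (mkP s)⁻¹ ∈ TPb ((s : Matrix (Fin n) (Fin n) F) *ᵥ v) := by
  obtain ⟨χ, h, rfl⟩ := mem_TPb.mp hy
  rw [← map_inv, ← map_mul, ← map_mul, conj_tvS]
  exact mem_TPb.mpr ⟨_, _, rfl⟩

/-- the centraliser of a transvection of the plane -/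
theorem cent_tvS_plane {v φ : V2} (hv : v ≠ 0) (hφ : φ ≠ 0) (h : φ ⬝ᵥ v = 0) (x : PSL2)
    (hx : x * mkP (tvS v φ h) = mkP (tvS v φ h) * x) : x ∈ TPb v := by
  have h01 : (0 : Fin 2) ≠ 1 := by decide
  obtain ⟨g, rfl⟩ := mkP_surjective x
  have hc : g * tvS v φ h = tvS v φ h * g := commute_of_mkP_commute (by norm_num) g v φ h hx
  obtain ⟨s, hs⟩ := exists_SL2_mulVec hv
  obtain ⟨ψ, hψdef⟩ : ∃ ψ : V2, ψ = φ ᵥ* (s : M2) := ⟨_, rfl⟩
  have hψ0 : ψ ⬝ᵥ (Pi.single 0 1 : V2) = 0 := by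
    rw [hψdef, ← dotProduct_mulVec, hs, h]
  have hψne : ψ ≠ 0 := by rw [hψdef]; exact vecMul_ne_zero s hφ
  have hψ1 : ψ = Pi.single 1 (ψ 1) := by
    rw [dotProduct_single, mul_one] at hψ0
    funext k
    fin_cases k
    · simp [hψ0]
    · simp
  have hc1 : ψ 1 ≠ 0 := by
    intro h0
    apply hψne
    rw [hψ1, h0]
    simp
  have e1 : tvS v φ h = s * xS 0 1 h01 (1 * ψ 1) * s⁻¹ := by
    rw [← tvS_single_single h01 1 (ψ 1) (sd h01 1 (ψ 1)), conj_tvS]
    apply tvS_congr hs.symm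
    rw [← hψ1, hψdef, vecMul_vecMul, ← Matrix.SpecialLinearGroup.coe_mul, mul_inv_cancel,
      Matrix.SpecialLinearGroup.coe_one, vecMul_one]
  have hc2 : (s⁻¹ * g * s) * xS 0 1 h01 (1 * ψ 1) = xS 0 1 h01 (1 * ψ 1) * (s⁻¹ * g * s) := by
    have : xS 0 1 h01 (1 * ψ 1) = s⁻¹ * tvS v φ h * s := by rw [e1]; group
    rw [this]
    calc s⁻¹ * g * s * (s⁻¹ * tvS v φ h * s) = s⁻¹ * (g * tvS v φ h) * s := by group
      _ = s⁻¹ * (tvS v φ h * g) * s := by rw [hc]
      _ = s⁻¹ * tvS v φ h * s * (s⁻¹ * g * s) := by group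
  have h3 := cent_xS01 h01 (by rw [one_mul]; exact hc1) _ hc2
  have h4 := conj_mem_TPb s h3
  rw [hs] at h4
  have : mkP s * mkP (s⁻¹ * g * s) * (mkP s)⁻¹ = mkP g := by
    rw [← map_inv, ← map_mul, ← map_mul]
    congr 1
    group
  rwa [this] at h4

section finite

variable [Finite F]

theorem map_TPb_e0 (p : ℕ) [Fact p.Prime] [CharP F p] (α : MulAut PSL2) : ∃ v' : V2, v' ≠ 0 ∧
    (TPb (Pi.single 0 1 : V2)).map (α : PSL2 ≃* PSL2).toMonoidHom = TPb v' := by
  have h01 : (0 : Fin 2) ≠ 1 := by decide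
  have he : (Pi.single 1 1 : V2) ⬝ᵥ (Pi.single 0 1) = 0 := sd h01 1 1
  obtain ⟨t, ht, ht0, hPT⟩ := exists_smul_mem_PT p (by norm_num) α (single_one_ne_zero 0)
    (single_one_ne_zero 1) he
  obtain ⟨v', φ', h', hv', hφ', hz⟩ := hPT
  have hzmem : mkP (tvS (t • (Pi.single 0 1 : V2)) (Pi.single 1 1) ht) ∈ TPb (Pi.single 0 1 : V2) :=
    mk_mem_TPb_of_par ht ⟨t, ht0, rfl⟩
  refine ⟨v', hv', ?_⟩
  ext y
  constructor
  · rintro ⟨x, hx, rfl⟩
    apply cent_tvS_plane hv' hφ' h'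
    rw [← hz]
    show α x * α _ = α _ * α x
    rw [← map_mul, ← map_mul]
    congr 1
    exact TPb_comm hx hzmem
  · intro hy
    refine ⟨α⁻¹ y, ?_, by simp⟩
    have hαz : α (mkP (tvS (t • (Pi.single 0 1 : V2)) (Pi.single 1 1) ht)) ∈ TPb v' := by
      rw [hz]; exact mem_TPb.mpr ⟨φ', h', rfl⟩
    have hcomm : α⁻¹ y * mkP (tvS (t • (Pi.single 0 1 : V2)) (Pi.single 1 1) ht)
        = mkP (tvS (t • (Pi.single 0 1 : V2)) (Pi.single 1 1) ht) * α⁻¹ y := by
      apply (α : PSL2 ≃* PSL2).injective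
      show α (_ * _) = α (_ * _)
      rw [map_mul, map_mul, MulAut.apply_inv_self]
      exact TPb_comm hy hαz
    have := cent_tvS_plane (smul_ne_zero ht0 (single_one_ne_zero 0)) (single_one_ne_zero 1) ht _ hcomm
    rwa [TPb_eq_of_par ⟨t, ht0, rfl⟩] at this

theorem map_TPb_plane (p : ℕ) [Fact p.Prime] [CharP F p] (α : MulAut PSL2) {v : V2} (hv : v ≠ 0) : ∃ v' : V2, v' ≠ 0 ∧
    (TPb v).map (α : PSL2 ≃* PSL2).toMonoidHom = TPb v' := by
  obtain ⟨s, hs⟩ := exists_SL2_mulVec hv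
  have e1 : TPb v = (TPb (Pi.single 0 1 : V2)).map
      ((liftAut (conjSL (Matrix.SpecialLinearGroup.toGL s)) : MulAut PSL2) : PSL2 ≃* PSL2).toMonoidHom := by
    rw [map_conj_TPb]
    congr 1
    exact hs.symm
  obtain ⟨v', hv', e⟩ := map_TPb_e0 p (α * liftAut (conjSL (Matrix.SpecialLinearGroup.toGL s)))
  refine ⟨v', hv', ?_⟩
  rw [e1, ← map_mul_aut]
  exact e

/-- the frame, in the plane -/
theorem exists_frame_plane (p : ℕ) [Fact p.Prime] [CharP F p] (α : MulAut PSL2) : ∃ g : GL2, ∀ i : Fin 2,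
    (TPb (Pi.single i 1 : V2)).map (α : PSL2 ≃* PSL2).toMonoidHom
      = TPb ((g : M2) *ᵥ Pi.single i 1) := by
  have hq : ∀ i : Fin 2, ∃ q : V2, q ≠ 0 ∧
      (TPb (Pi.single i 1 : V2)).map (α : PSL2 ≃* PSL2).toMonoidHom = TPb q :=
    fun i => map_TPb_plane p α (single_one_ne_zero i)
  choose q hq0 hq using hq
  obtain ⟨Q, hQdef⟩ : ∃ Q : M2, Q = Matrix.of fun i j => q j i := ⟨_, rfl⟩
  have hQ : ∀ j, Q *ᵥ Pi.single j 1 = q j := by
    intro j
    rw [mulVec_single_one]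
    ext i
    rw [hQdef]
    rfl
  have hdet : Q.det ≠ 0 := by
    intro h0
    obtain ⟨ψ, hψ, hψQ⟩ := Matrix.exists_vecMul_eq_zero_iff.mpr h0
    have hψq : ∀ j, ψ ⬝ᵥ q j = 0 := by
      intro j
      rw [← hQ j, dotProduct_mulVec, hψQ, zero_dotProduct]
    obtain ⟨c, hc⟩ := plane_par hψ (hq0 0) (hψq 0) (hψq 1)
    have hc0 : c ≠ 0 := by
      intro h0; apply hq0 1; rw [hc, h0, zero_smul]
    have e1 : TPb (q 1) = TPb (q 0) := TPb_eq_of_par ⟨c, hc0, hc⟩
    rw [← hq 0, ← hq 1] at e1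
    have e2 := map_aut_injective _ e1
    have h10 : (1 : Fin 2) ≠ 0 := by decide
    have h3 : mkP (xS 1 0 h10 (1 : F)) ∈ TPb (Pi.single 0 1 : V2) := by
      rw [← e2]; exact xS_mem_TPb h10 1
    unfold xS at h3
    obtain ⟨c', -, hc'⟩ := par_of_mem_TPb (by norm_num) (sd h10 (1 : F) 1) (single_one_ne_zero 1)
      (single_one_ne_zero 0) h3
    have := congrFun hc' 0
    simp at this
  exact ⟨Matrix.GeneralLinearGroup.mkOfDetNeZero Q hdet, fun i => by
    rw [hq i]; congr 1; exact (hQ i).symm⟩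

end finite

end Cfsg.Agent.Lib.Helper9.APSL
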