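import Mathlib
import Cfsg.Agent.Lib.Helper9.APSL13

set_option autoImplicit false

/-! Automorphisms of `PSL_2(F)`: the main analysis. -/

namespace Cfsg.Agent.Lib.Helper9.APSL

open Matrix

variable {F : Type*} [Field F]

local notation "M2" => Matrix (Fin 2) (Fin 2) F
local notation "SL2" => Matrix.SpecialLinearGroup (Fin 2) F
local notation "PSL2" => Matrix.ProjectiveSpecialLinearGroup (Fin 2) F
local notation "V2" => (Fin 2 → F)
local notation "GL2" => GL (Fin 2) F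

theorem ne01 : (0 : Fin 2) ≠ 1 := by decide
theorem ne10 : (1 : Fin 2) ≠ 0 := by decide

/-- transport of the relation "`y` moves the point `e_0` to the point `e_1`" -/
theorem move_point (α : MulAut PSL2)
    (hP0 : (TPb (Pi.single 0 1 : V2)).map (α : PSL2 ≃* PSL2).toMonoidHom = TPb (Pi.single 0 1))
    (hP1 : (TPb (Pi.single 1 1 : V2)).map (α : PSL2 ≃* PSL2).toMonoidHom = TPb (Pi.single 1 1))
    (y y' : SL2) (hy : α (mkP y) = mkP y')
    (hye : TPb ((y : M2) *ᵥ (Pi.single 0 1 : V2)) = TPb (Pi.single 1 1 : V2)) :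
    TPb ((y' : M2) *ᵥ (Pi.single 0 1 : V2)) = TPb (Pi.single 1 1 : V2) := by
  have e1 : ∀ s : SL2, TPb ((s : M2) *ᵥ (Pi.single 0 1 : V2)) = (TPb (Pi.single 0 1 : V2)).map
      ((MulAut.conj (mkP s) : MulAut PSL2) : PSL2 ≃* PSL2).toMonoidHom := by
    intro s
    rw [← liftAut_conj_toGL, map_conj_TPb]
    rfl
  rw [e1 y', ← hy]
  conv_lhs => rw [← hP0]
  rw [← map_mul_aut, ← conj_comm_aut, map_mul_aut, ← e1 y, hye, hP1]

/-- the product `x_01(t) x_10(u) x_01(t)` on `e_0` -/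
theorem wprod_mulVec (t u : F) :
    ((xS 0 1 ne01 t * xS 1 0 ne10 u * xS 0 1 ne01 t : SL2) : M2) *ᵥ (Pi.single 0 1 : V2)
      = ![1 + t * u, u] := by
  simp only [Matrix.SpecialLinearGroup.coe_mul, xS01_coe, xS10_coe]
  funext i
  fin_cases i <;> simp [mulVec, dotProduct, Fin.sum_univ_two, Matrix.mul_apply]

theorem TPb_eq_e1_iff {a u : F} (hu : u ≠ 0) :
    TPb (![a, u] : V2) = TPb (Pi.single 1 1 : V2) ↔ a = 0 := by
  constructor
  · intro h
    have h3 : mkP (xS 1 0 ne10 (1 : F)) ∈ TPb (![a, u] : V2) := by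
      rw [h]; exact xS_mem_TPb ne10 1
    unfold xS at h3
    obtain ⟨c', -, hc'⟩ := par_of_mem_TPb (by norm_num) (sd ne10 (1 : F) 1) (single_one_ne_zero 1)
      (single_one_ne_zero 0) h3
    have := congrFun hc' 0
    simpa using this
  · rintro rfl
    apply TPb_eq_of_par
    refine ⟨u, hu, ?_⟩
    funext i
    fin_cases i <;> simp

/-- the monomial elements -/
def wS (t : F) : SL2 := xS 0 1 ne01 t * xS 1 0 ne10 (-t⁻¹) * xS 0 1 ne01 t

theorem wS_coe {t : F} (ht : t ≠ 0) : ((wS t : SL2) : M2) = !![0, t; -t⁻¹, 0] := by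
  unfold wS
  simp only [Matrix.SpecialLinearGroup.coe_mul, xS01_coe, xS10_coe, mul_fin_two]
  ext i j
  fin_cases i <;> fin_cases j <;> simp [ht]

theorem hS_coe {t : F} (ht : t ≠ 0) :
    ((wS t * wS (-1) : SL2) : M2) = diagonal ![t, t⁻¹] := by
  rw [Matrix.SpecialLinearGroup.coe_mul, wS_coe ht, wS_coe (neg_ne_zero.mpr one_ne_zero),
    mul_fin_two]
  ext i j
  fin_cases i <;> fin_cases j <;> simp [inv_neg]

theorem hS_conj {t : F} (ht : t ≠ 0) (u : F) :
    (wS t * wS (-1)) * xS 0 1 ne01 u * (wS t * wS (-1))⁻¹ = xS 0 1 ne01 (t * u * t) := by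
  rw [conj_diag_xS _ ![t, t⁻¹] (hS_coe ht) (fun i => by
    fin_cases i
    · exact ht
    · exact inv_ne_zero ht)]
  simp

section finite

variable [Finite F]

theorem plane_core (α : MulAut PSL2)
    (hP : ∀ i : Fin 2, (TPb (Pi.single i 1 : V2)).map (α : PSL2 ≃* PSL2).toMonoidHom
      = TPb (Pi.single i 1))
    (h1 : α (mkP (xS 0 1 ne01 (1 : F))) = mkP (xS 0 1 ne01 1)) :
    ∃ σ : F ≃+* F, α = liftAut (fieldSL σ) := by
  have hf : ∀ (i j : Fin 2) (t : F), ∃ t' : F, ∀ hij : i ≠ j,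
      α (mkP (xS i j hij t)) = mkP (xS i j hij t') := by
    intro i j t
    by_cases hij : i = j
    · exact ⟨0, fun h => absurd hij h⟩
    · have : α (mkP (xS i j hij t)) ∈ TPb (Pi.single i 1 : V2) := by
        rw [← hP i]; exact Subgroup.mem_map_of_mem _ (xS_mem_TPb hij t)
      obtain ⟨t', ht'⟩ := (mem_TPb_plane hij).mp this
      exact ⟨t', fun _ => ht'⟩
  choose f hf using hf
  have hadd : ∀ i j, i ≠ j → ∀ t u, f i j (t + u) = f i j t + f i j u := by
    intro i j hij t u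
    apply xS_inj hij
    rw [← hf i j (t + u) hij, xS_add, map_mul, map_mul, hf i j t hij, hf i j u hij, ← map_mul,
      ← xS_add]
  have hzero : ∀ i j, i ≠ j → f i j 0 = 0 := by
    intro i j hij
    have := hadd i j hij 0 0
    rw [add_zero] at this
    have h2 : f i j 0 + 0 = f i j 0 + f i j 0 := by rw [add_zero]; exact this
    exact (add_left_cancel h2).symm
  have hneg : ∀ i j, i ≠ j → ∀ t, f i j (-t) = - f i j t := by
    intro i j hij t
    have := hadd i j hij t (-t)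
    rw [add_neg_cancel, hzero i j hij] at this
    exact (neg_eq_of_add_eq_zero_right this.symm).symm
  have hinj : ∀ i j, i ≠ j → ∀ t, f i j t = 0 → t = 0 := by
    intro i j hij t h0
    have h1 := hf i j t hij
    rw [h0, xS_zero, map_one] at h1
    have h2 : mkP (xS i j hij t) = 1 := by
      apply (α : PSL2 ≃* PSL2).injective
      rw [h1, map_one]
    apply xS_inj hij
    rw [h2, xS_zero, map_one]
  obtain ⟨φ, hφdef⟩ : ∃ φ : F → F, φ = f 0 1 := ⟨_, rfl⟩
  obtain ⟨ψ, hψdef⟩ : ∃ ψ : F → F, ψ = f 1 0 := ⟨_, rfl⟩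
  have hφ1 : φ 1 = 1 := by
    rw [hφdef]
    apply xS_inj ne01
    rw [← hf 0 1 1 ne01, h1]
  have hφ : ∀ t, α (mkP (xS 0 1 ne01 t)) = mkP (xS 0 1 ne01 (φ t)) := by
    intro t; rw [hφdef]; exact hf 0 1 t ne01
  have hψ : ∀ t, α (mkP (xS 1 0 ne10 t)) = mkP (xS 1 0 ne10 (ψ t)) := by
    intro t; rw [hψdef]; exact hf 1 0 t ne10
  have hφadd : ∀ t u, φ (t + u) = φ t + φ u := by rw [hφdef]; exact hadd 0 1 ne01
  have hφ0 : φ 0 = 0 := by rw [hφdef]; exact hzero 0 1 ne01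
  have hφneg : ∀ t, φ (-t) = - φ t := by rw [hφdef]; exact hneg 0 1 ne01
  have hφinj : ∀ t, φ t = 0 → t = 0 := by rw [hφdef]; exact hinj 0 1 ne01
  have hψ0 : ψ 0 = 0 := by rw [hψdef]; exact hzero 1 0 ne10
  -- the relation between `φ` and `ψ`
  have R1 : ∀ t, t ≠ 0 → ψ (-t⁻¹) * φ t = -1 := by
    intro t ht
    have hy : α (mkP (xS 0 1 ne01 t * xS 1 0 ne10 (-t⁻¹) * xS 0 1 ne01 t))
        = mkP (xS 0 1 ne01 (φ t) * xS 1 0 ne10 (ψ (-t⁻¹)) * xS 0 1 ne01 (φ t)) := by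
      rw [map_mul, map_mul, map_mul, map_mul, map_mul, map_mul, hφ, hψ]
    have hye : TPb (((xS 0 1 ne01 t * xS 1 0 ne10 (-t⁻¹) * xS 0 1 ne01 t : SL2) : M2) *ᵥ
        (Pi.single 0 1 : V2)) = TPb (Pi.single 1 1 : V2) := by
      rw [wprod_mulVec, TPb_eq_e1_iff (neg_ne_zero.mpr (inv_ne_zero ht))]
      field_simp
      ring
    have := move_point α (hP 0) (hP 1) _ _ hy hye
    rw [wprod_mulVec] at this
    have hψne : ψ (-t⁻¹) ≠ 0 := by
      intro h0
      rw [h0, mul_zero, add_zero] at this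
      have h3 : mkP (xS 0 1 ne01 (1 : F)) ∈ TPb (![1, 0] : V2) := by
        have : (![1, 0] : V2) = Pi.single 0 1 := by
          funext i; fin_cases i <;> simp
        rw [this]; exact xS_mem_TPb ne01 1
      rw [this] at h3
      unfold xS at h3
      obtain ⟨c', -, hc'⟩ := par_of_mem_TPb (by norm_num) (sd ne01 (1 : F) 1)
        (single_one_ne_zero 0) (single_one_ne_zero 1) h3
      have := congrFun hc' 1
      simp at this
    rw [TPb_eq_e1_iff hψne] at this
    linear_combination this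
  have hw : ∀ t, t ≠ 0 → α (mkP (wS t)) = mkP (wS (φ t)) := by
    intro t ht
    unfold wS
    rw [map_mul, map_mul, map_mul, map_mul, map_mul, map_mul, hφ, hψ]
    have hφt : φ t ≠ 0 := fun h0 => ht (hφinj t h0)
    have : ψ (-t⁻¹) = -(φ t)⁻¹ := by
      have h3 := R1 t ht
      generalize ψ (-t⁻¹) = c at h3 ⊢
      have : c = -1 / φ t := by rw [eq_div_iff hφt]; exact h3
      rw [this, neg_div, one_div]
    rw [this]
  have hφm1 : φ (-1) = -1 := by rw [hφneg, hφ1]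
  have hh : ∀ t, t ≠ 0 → α (mkP (wS t * wS (-1))) = mkP (wS (φ t) * wS (-1)) := by
    intro t ht
    rw [map_mul, map_mul, map_mul, hw t ht, hw (-1) (neg_ne_zero.mpr one_ne_zero), hφm1]
  have mm : ∀ a b : SL2, mkP (a * b) = mkP a * mkP b := fun a b => map_mul _ a b
  have mi : ∀ a : SL2, mkP a⁻¹ = (mkP a)⁻¹ := fun a => map_inv _ a
  have R2 : ∀ t u, φ (t * u * t) = φ t * φ u * φ t := by
    intro t u
    by_cases ht : t = 0
    · subst ht; simp [hφ0]
    have hφt : φ t ≠ 0 := fun h0 => ht (hφinj t h0)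
    apply xS_inj ne01
    rw [← hφ, ← hS_conj ht u, ← hS_conj hφt (φ u)]
    have e1 : ∀ H X : SL2, α (mkP (H * X * H⁻¹)) = α (mkP H) * α (mkP X) * (α (mkP H))⁻¹ := by
      intro H X
      rw [mm, mm, mi, map_mul α, map_mul α, map_inv α]
    rw [e1, hh t ht, hφ u]
    simp only [mm, mi]
  have hsq : ∀ t, φ (t * t) = φ t * φ t := by
    intro t
    have := R2 t 1
    rw [mul_one, hφ1, mul_one] at this
    exact this
  have hmulφ : ∀ t u, φ (t * u) = φ t * φ u := by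
    intro t u
    by_cases h2 : (2 : F) = 0
    · have : CharP F 2 := CharTwo.of_one_ne_zero_of_two_eq_zero one_ne_zero h2
      obtain ⟨s, hs⟩ := isSquare_of_charTwo' t
      rw [hs, hsq s]
      have := R2 s u
      rw [show s * u * s = s * s * u by ring] at this
      rw [this]; ring
    · have h3 := R2 (t + 1) u
      rw [show (t + 1) * u * (t + 1) = t * u * t + (t * u + t * u) + u by ring, hφadd, hφadd,
        hφadd, hφadd t 1, hφ1, R2] at h3
      have h4 : 2 * (φ (t * u) - φ t * φ u) = 0 := by linear_combination h3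
      rcases mul_eq_zero.mp h4 with h | h
      · exact absurd h h2
      · exact sub_eq_zero.mp h
  have hψφ : ∀ u, ψ u = φ u := by
    intro u
    by_cases hu : u = 0
    · rw [hu, hψ0, hφ0]
    have ht : -u⁻¹ ≠ 0 := neg_ne_zero.mpr (inv_ne_zero hu)
    have h3 := R1 (-u⁻¹) ht
    rw [inv_neg, inv_inv, neg_neg, hφneg] at h3
    have h4 : φ u * φ u⁻¹ = 1 := by rw [← hmulφ, mul_inv_cancel₀ hu, hφ1]
    have h5 : ψ u * φ u⁻¹ = 1 := by linear_combination -h3
    calc ψ u = ψ u * (φ u * φ u⁻¹) := by rw [h4, mul_one]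
      _ = (ψ u * φ u⁻¹) * φ u := by ring
      _ = φ u := by rw [h5, one_mul]
  obtain ⟨σ0, hσ0⟩ : ∃ σ0 : F →+* F, ∀ t, σ0 t = φ t :=
    ⟨{ toFun := φ, map_one' := hφ1, map_mul' := hmulφ, map_zero' := hφ0, map_add' := hφadd },
      fun t => rfl⟩
  have hbij : Function.Bijective σ0 :=
    ⟨σ0.injective, Finite.injective_iff_surjective.mp σ0.injective⟩
  refine ⟨RingEquiv.ofBijective σ0 hbij, ?_⟩
  apply eq_of_agree_elem (le_refl 2)
  intro k l hkl t
  rw [liftAut_mkP, fieldSL_xS, hf k l t hkl]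
  congr 2
  show f k l t = σ0 t
  rw [hσ0]
  fin_cases k <;> fin_cases l
  · exact absurd rfl hkl
  · show f 0 1 t = φ t
    rw [hφdef]
  · show f 1 0 t = φ t
    rw [← hψφ, hψdef]
  · exact absurd rfl hkl

/-- **automorphisms of `PSL_2(F)`** -/
theorem aut_eq_std_plane (p : ℕ) [Fact p.Prime] [CharP F p] (β : MulAut PSL2) :
    ∃ (g : GL2) (σ : F ≃+* F), β = liftAut (conjSL g) * liftAut (fieldSL σ) := by
  obtain ⟨g, hg⟩ := exists_frame_plane p β
  have hP2 : ∀ i : Fin 2, (TPb (Pi.single i 1 : V2)).map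
      (((liftAut (conjSL g))⁻¹ * β : MulAut PSL2) : PSL2 ≃* PSL2).toMonoidHom
        = TPb (Pi.single i 1) := by
    intro i
    rw [map_mul_aut, hg i, ← map_conj_TPb g]
    exact map_map_symm _ _
  obtain ⟨α2, hα2⟩ : ∃ α2 : MulAut PSL2, α2 = (liftAut (conjSL g))⁻¹ * β := ⟨_, rfl⟩
  rw [← hα2] at hP2
  have hmem : α2 (mkP (xS 0 1 ne01 (1 : F))) ∈ TPb (Pi.single 0 1 : V2) := by
    rw [← hP2 0]; exact Subgroup.mem_map_of_mem _ (xS_mem_TPb ne01 1)
  obtain ⟨c, hc⟩ := (mem_TPb_plane ne01).mp hmem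
  have hc0 : c ≠ 0 := by
    intro h0
    rw [h0, xS_zero, map_one] at hc
    have h2 : mkP (xS 0 1 ne01 (1 : F)) = 1 := by
      apply (α2 : PSL2 ≃* PSL2).injective
      rw [map_one]; exact hc
    have := xS_inj ne01 (h2.trans (by rw [xS_zero, map_one] : (1 : PSL2) = mkP (xS 0 1 ne01 0)))
    exact one_ne_zero this
  obtain ⟨δ, hδdef⟩ : ∃ δ : Fin 2 → F, δ = ![1, c] := ⟨_, rfl⟩
  have hδ : ∀ i, δ i ≠ 0 := by
    intro i
    rw [hδdef]
    fin_cases i
    · exact one_ne_zero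
    · exact hc0
  have hdet : (diagonal δ : M2).det ≠ 0 := by
    rw [det_diagonal]
    exact Finset.prod_ne_zero_iff.mpr (fun j _ => hδ j)
  obtain ⟨d, hd⟩ : ∃ d : GL2, (d : M2) = diagonal δ :=
    ⟨Matrix.GeneralLinearGroup.mkOfDetNeZero _ hdet, rfl⟩
  have hP3 : ∀ i : Fin 2, (TPb (Pi.single i 1 : V2)).map
      ((liftAut (conjSL d) * α2 : MulAut PSL2) : PSL2 ≃* PSL2).toMonoidHom
        = TPb (Pi.single i 1) := by
    intro i
    rw [map_mul_aut, hP2 i, map_conj_TPb, hd, diagonal_mulVec_single, mul_one]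
    apply TPb_eq_of_par
    exact ⟨δ i, hδ i, (single_smul_one i (δ i)).symm⟩
  have h13 : (liftAut (conjSL d) * α2) (mkP (xS 0 1 ne01 (1 : F))) = mkP (xS 0 1 ne01 1) := by
    rw [MulAut.mul_apply, hc, liftAut_mkP, conjSL_diag_xS d δ hd hδ]
    congr 2
    rw [hδdef]
    simp [hc0]
  obtain ⟨σ, hσ⟩ := plane_core _ hP3 h13
  refine ⟨g * d⁻¹, σ, ?_⟩
  rw [← hσ, hα2, ← liftAut_conj_mul, ← liftAut_conj_inv]
  group

end finite

end Cfsg.Agent.Lib.Helper9.APSL
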