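import Mathlib
import Cfsg.Agent.Lib.Helper9.APSL14

set_option autoImplicit false

/-! Automorphisms of `PSL_n(F)`, `F` finite: the classification. -/

namespace Cfsg.Agent.Lib.Helper9.APSL

open Matrix

variable {F : Type*} [Field F] {n : ℕ}

local notation "Mn" => Matrix (Fin n) (Fin n) F
local notation "SLn" => Matrix.SpecialLinearGroup (Fin n) F
local notation "PSLn" => Matrix.ProjectiveSpecialLinearGroup (Fin n) F
local notation "Vn" => (Fin n → F)
local notation "GLn" => GL (Fin n) F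

theorem charP_of_card [Fintype F] (p f : ℕ) [hp : Fact p.Prime]
    (hF : Fintype.card F = p ^ f) : CharP F p := by
  obtain ⟨p', hp'⟩ := CharP.exists F
  have hzero : ((p ^ f : ℕ) : F) = 0 := by
    rw [← hF]
    exact Nat.cast_card_eq_zero F
  rw [Nat.cast_pow] at hzero
  have hp0 : ((p : ℕ) : F) = 0 := (pow_eq_zero_iff'.1 hzero).1
  have hdvd : p' ∣ p := (CharP.cast_eq_zero_iff F p' p).1 hp0
  rcases (Nat.dvd_prime hp.1).1 hdvd with h | h
  · exfalso
    subst h
    exact CharP.char_ne_one F 1 rfl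
  · subst h
    exact hp'

/-- **the automorphisms of `PSL_n(F)`**, `F` finite, `n ≥ 2` -/
theorem aut_PSL_std [Finite F] (p : ℕ) [Fact p.Prime] [CharP F p] (hn : 2 ≤ n)
    (β : MulAut PSLn) :
    ∃ (g : GLn) (σ : F ≃+* F), β = liftAut (conjSL g) * liftAut (fieldSL σ) ∨
      β = liftAut (conjSL g) * liftAut (fieldSL σ) * liftAut invT := by
  rcases Nat.lt_or_ge 2 n with h3 | h2
  · exact aut_eq_std h3 (fun α => presT_of_aut p h3 α) β
  · have h2' : n = 2 := le_antisymm h2 hn
    subst h2'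
    obtain ⟨g, σ, h⟩ := aut_eq_std_plane p β
    exact ⟨g, σ, Or.inl h⟩

end Cfsg.Agent.Lib.Helper9.APSL
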