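import Mathlib
import Cfsg.Agent.Lib.Helper9.APSL15

set_option autoImplicit false

/-! Automorphisms of `PSL_n(F)`: the field automorphism attached to an automorphism. -/

namespace Cfsg.Agent.Lib.Helper9.APSL

open Matrix

variable {F : Type*} [Field F] {n : ℕ}

local notation "Mn" => Matrix (Fin n) (Fin n) F
local notation "SLn" => Matrix.SpecialLinearGroup (Fin n) F
local notation "PSLn" => Matrix.ProjectiveSpecialLinearGroup (Fin n) F
local notation "Vn" => (Fin n → F)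
local notation "GLn" => GL (Fin n) F

theorem dot_smul_zero {v φ : Vn} (h : φ ⬝ᵥ v = 0) (t : F) : φ ⬝ᵥ (t • v) = 0 := by
  rw [dotProduct_smul, h, smul_zero]

/-- `β` is compatible with the scaling of transvections, through `σ` -/
def Resp (β : PSLn ≃* PSLn) (σ : RingAut F) : Prop :=
  ∀ (v φ : Vn) (h : φ ⬝ᵥ v = 0) (t : F), ∃ (v' φ' : Vn) (h' : φ' ⬝ᵥ v' = 0),
    β (mkP (tvS v φ h)) = mkP (tvS v' φ' h') ∧
    β (mkP (tvS (t • v) φ (dot_smul_zero h t))) = mkP (tvS (σ t • v') φ' (dot_smul_zero h' _))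

theorem resp_one : Resp (1 : MulAut PSLn) (1 : RingAut F) :=
  fun v φ h _ => ⟨v, φ, h, rfl, rfl⟩

theorem resp_conj (g : GLn) : Resp (liftAut (conjSL g)) (1 : RingAut F) := by
  intro v φ h t
  refine ⟨(g : Mn) *ᵥ v, φ ᵥ* ((g⁻¹ : GLn) : Mn), ?_, ?_, ?_⟩
  · rw [← dotProduct_mulVec, mulVec_mulVec, ← Units.val_mul, inv_mul_cancel, Units.val_one,
      one_mulVec, h]
  · rw [liftAut_mkP, conjSL_tvS]
  · rw [liftAut_mkP, conjSL_tvS]
    congr 1
    apply tvS_congr _ rfl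
    rw [mulVec_smul]
    rfl

theorem resp_field (σ : RingAut F) : Resp (liftAut (fieldSL (n := n) σ)) σ := by
  intro v φ h t
  have h' : (fun i => σ (φ i)) ⬝ᵥ (fun i => σ (v i)) = 0 := by
    have := congrArg σ h
    rw [map_zero] at this
    rw [← this]
    simp [dotProduct, map_sum]
  refine ⟨fun i => σ (v i), fun i => σ (φ i), h', ?_, ?_⟩
  · rw [liftAut_mkP, fieldSL_tvS]
  · rw [liftAut_mkP, fieldSL_tvS]
    congr 1
    apply tvS_congr _ rfl
    funext i
    simp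

theorem resp_invT : Resp (liftAut (invT (F := F) (n := n))) (1 : RingAut F) := by
  intro v φ h t
  have h' : v ⬝ᵥ (-φ) = 0 := by rw [dotProduct_neg, dotProduct_comm, h, neg_zero]
  refine ⟨-φ, v, h', ?_, ?_⟩
  · rw [liftAut_mkP, invT_tvS]
  · rw [liftAut_mkP, invT_tvS]
    congr 1
    exact (tvS_smul_left t (-φ) v _ _).symm

theorem resp_mul {β₁ β₂ : MulAut PSLn} {σ₁ σ₂ : RingAut F} (h₁ : Resp β₁ σ₁) (h₂ : Resp β₂ σ₂) :
    Resp (β₁ * β₂ : MulAut PSLn) (σ₁ * σ₂) := by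
  intro v φ h t
  obtain ⟨v', φ', h', e1, e2⟩ := h₂ v φ h t
  obtain ⟨v'', φ'', h'', e1', e2'⟩ := h₁ v' φ' h' (σ₂ t)
  refine ⟨v'', φ'', h'', ?_, ?_⟩
  · rw [MulAut.mul_apply, e1, e1']
  · rw [MulAut.mul_apply, e2, e2']
    rfl

theorem resp_unique (hn : 2 ≤ n) {β : PSLn ≃* PSLn} {σ σ' : RingAut F} (h : Resp β σ)
    (h' : Resp β σ') : σ = σ' := by
  apply RingEquiv.ext
  intro t
  obtain ⟨i0, hi0⟩ : ∃ i0 : Fin n, i0 = ⟨0, by omega⟩ := ⟨_, rfl⟩
  obtain ⟨i1, hi1⟩ : ∃ i1 : Fin n, i1 = ⟨1, by omega⟩ := ⟨_, rfl⟩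
  have h01 : i0 ≠ i1 := by rw [hi0, hi1]; intro h; simpa using congrArg Fin.val h
  have he : (Pi.single i1 1 : Vn) ⬝ᵥ (Pi.single i0 1) = 0 := sd h01 1 1
  obtain ⟨v1, φ1, h1, e1, e2⟩ := h _ _ he t
  obtain ⟨v2, φ2, h2, e1', e2'⟩ := h' _ _ he t
  have hne : β (mkP (tvS _ _ he)) ≠ 1 :=
    aut_ne_one β (mkP_tvS_ne_one (by omega) he (single_one_ne_zero i0) (single_one_ne_zero i1))
  have a1 : vecMulVec v1 φ1 = vecMulVec v2 φ2 := by
    have := tv_eq_of_mkP_eq (by omega) _ _ _ _ h1 h2 (e1.symm.trans e1')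
    exact add_left_cancel this
  have a2 : vecMulVec (σ t • v1) φ1 = vecMulVec (σ' t • v2) φ2 := by
    have := tv_eq_of_mkP_eq (by omega) _ _ _ _ (dot_smul_zero h1 _) (dot_smul_zero h2 _)
      (e2.symm.trans e2')
    exact add_left_cancel this
  have hR : vecMulVec v1 φ1 ≠ 0 := by
    intro h0
    apply hne
    rw [e1]
    have : tvS v1 φ1 h1 = 1 := by
      apply Subtype.ext
      rw [tvS_coe, tv, h0, add_zero]
      rfl
    rw [this, map_one]
  rw [smul_vecMulVec, smul_vecMulVec, ← a1] at a2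
  have : (σ t - σ' t) • vecMulVec v1 φ1 = 0 := by rw [sub_smul, a2, sub_self]
  rcases smul_eq_zero.mp this with h0 | h0
  · exact sub_eq_zero.mp h0
  · exact absurd h0 hR

theorem fieldSL_one : liftAut (fieldSL (n := n) (1 : RingAut F)) = 1 := by
  apply MulEquiv.ext
  intro x
  obtain ⟨s, rfl⟩ := mkP_surjective x
  rw [liftAut_mkP]
  show mkP _ = mkP s
  congr 1

section finite

variable [Finite F]

theorem exists_resp (p : ℕ) [Fact p.Prime] [CharP F p] (hn : 2 ≤ n) (β : MulAut PSLn) :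
    ∃ σ : RingAut F, Resp (β : PSLn ≃* PSLn) σ := by
  obtain ⟨g, σ, h | h⟩ := aut_PSL_std p hn β
  · refine ⟨1 * σ, ?_⟩
    rw [h]
    exact resp_mul (resp_conj g) (resp_field σ)
  · refine ⟨1 * σ * 1, ?_⟩
    rw [h]
    exact resp_mul (resp_mul (resp_conj g) (resp_field σ)) resp_invT

/-- the field automorphism attached to an automorphism of `PSL_n(F)` -/
noncomputable def tauHom (p : ℕ) [Fact p.Prime] [CharP F p] (hn : 2 ≤ n) :
    MulAut PSLn →* RingAut F where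
  toFun β := Classical.choose (exists_resp p hn β)
  map_one' := resp_unique hn (Classical.choose_spec (exists_resp p hn 1)) resp_one
  map_mul' β₁ β₂ := resp_unique hn (Classical.choose_spec (exists_resp p hn (β₁ * β₂)))
    (resp_mul (Classical.choose_spec (exists_resp p hn β₁))
      (Classical.choose_spec (exists_resp p hn β₂)))

theorem tauHom_spec (p : ℕ) [Fact p.Prime] [CharP F p] (hn : 2 ≤ n) (β : MulAut PSLn) :
    Resp (β : PSLn ≃* PSLn) (tauHom p hn β) :=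
  Classical.choose_spec (exists_resp p hn β)

theorem tauHom_eq (p : ℕ) [Fact p.Prime] [CharP F p] (hn : 2 ≤ n) {β : MulAut PSLn}
    {σ : RingAut F} (h : Resp (β : PSLn ≃* PSLn) σ) : tauHom p hn β = σ :=
  resp_unique hn (tauHom_spec p hn β) h

theorem tauHom_conj (p : ℕ) [Fact p.Prime] [CharP F p] (hn : 2 ≤ n) (g : GLn) :
    tauHom p hn (liftAut (conjSL g)) = 1 := tauHom_eq p hn (resp_conj g)

theorem tauHom_field (p : ℕ) [Fact p.Prime] [CharP F p] (hn : 2 ≤ n) (σ : RingAut F) :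
    tauHom p hn (liftAut (fieldSL (n := n) σ)) = σ := tauHom_eq p hn (resp_field σ)

theorem tauHom_invT (p : ℕ) [Fact p.Prime] [CharP F p] (hn : 2 ≤ n) :
    tauHom p hn (liftAut (invT (F := F) (n := n))) = 1 := tauHom_eq p hn resp_invT

theorem tauHom_surjective (p : ℕ) [Fact p.Prime] [CharP F p] (hn : 2 ≤ n) :
    Function.Surjective (tauHom (F := F) p hn) :=
  fun σ => ⟨_, tauHom_field p hn σ⟩

end finite

end Cfsg.Agent.Lib.Helper9.APSL
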