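import Mathlib
import Cfsg.Agent.Lib.Helper9.APSL16

set_option autoImplicit false

/-! Automorphisms of `PSL_n(F)`: the graph type of an automorphism, and the map to
`RingAut F × Z/2`. -/

namespace Cfsg.Agent.Lib.Helper9.APSL

open Matrix

variable {F : Type*} [Field F] {n : ℕ}

local notation "Mn" => Matrix (Fin n) (Fin n) F
local notation "SLn" => Matrix.SpecialLinearGroup (Fin n) F
local notation "PSLn" => Matrix.ProjectiveSpecialLinearGroup (Fin n) F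
local notation "Vn" => (Fin n → F)
local notation "GLn" => GL (Fin n) F

theorem not_pp_and_ph (hn : 3 ≤ n) {α : PSLn ≃* PSLn} (h1 : PP α) (h2 : PH α) : False := by
  have hv0 : (Pi.single ⟨0, by omega⟩ 1 : Vn) ≠ 0 := single_one_ne_zero _
  obtain ⟨v', hv', e⟩ := h1.1 _ hv0
  obtain ⟨φ', hφ', e'⟩ := h2.1 _ hv0
  exact TPb_ne_THb hn hv' (e.symm.trans e')

theorem PP.mul {a b : MulAut PSLn} (ha : PP (a : PSLn ≃* PSLn)) (hb : PP (b : PSLn ≃* PSLn)) :
    PP ((a * b : MulAut PSLn) : PSLn ≃* PSLn) := by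
  refine ⟨fun v hv => ?_, fun φ hφ => ?_⟩
  · obtain ⟨v', hv', e⟩ := hb.1 v hv
    obtain ⟨v'', hv'', e'⟩ := ha.1 v' hv'
    exact ⟨v'', hv'', by rw [map_mul_aut, e, e']⟩
  · obtain ⟨v', hv', e⟩ := hb.2 φ hφ
    obtain ⟨v'', hv'', e'⟩ := ha.2 v' hv'
    exact ⟨v'', hv'', by rw [map_mul_aut, e, e']⟩

theorem PP.mul_PH {a b : MulAut PSLn} (ha : PP (a : PSLn ≃* PSLn)) (hb : PH (b : PSLn ≃* PSLn)) :
    PH ((a * b : MulAut PSLn) : PSLn ≃* PSLn) := by
  refine ⟨fun v hv => ?_, fun φ hφ => ?_⟩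
  · obtain ⟨v', hv', e⟩ := hb.1 v hv
    obtain ⟨v'', hv'', e'⟩ := ha.2 v' hv'
    exact ⟨v'', hv'', by rw [map_mul_aut, e, e']⟩
  · obtain ⟨v', hv', e⟩ := hb.2 φ hφ
    obtain ⟨v'', hv'', e'⟩ := ha.1 v' hv'
    exact ⟨v'', hv'', by rw [map_mul_aut, e, e']⟩

theorem PH.mul_PP {a b : MulAut PSLn} (ha : PH (a : PSLn ≃* PSLn)) (hb : PP (b : PSLn ≃* PSLn)) :
    PH ((a * b : MulAut PSLn) : PSLn ≃* PSLn) := by
  refine ⟨fun v hv => ?_, fun φ hφ => ?_⟩
  · obtain ⟨v', hv', e⟩ := hb.1 v hv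
    obtain ⟨v'', hv'', e'⟩ := ha.1 v' hv'
    exact ⟨v'', hv'', by rw [map_mul_aut, e, e']⟩
  · obtain ⟨v', hv', e⟩ := hb.2 φ hφ
    obtain ⟨v'', hv'', e'⟩ := ha.2 v' hv'
    exact ⟨v'', hv'', by rw [map_mul_aut, e, e']⟩

theorem PH.mul_PH {a b : MulAut PSLn} (ha : PH (a : PSLn ≃* PSLn)) (hb : PH (b : PSLn ≃* PSLn)) :
    PP ((a * b : MulAut PSLn) : PSLn ≃* PSLn) := by
  refine ⟨fun v hv => ?_, fun φ hφ => ?_⟩
  · obtain ⟨v', hv', e⟩ := hb.1 v hv
    obtain ⟨v'', hv'', e'⟩ := ha.2 v' hv'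
    exact ⟨v'', hv'', by rw [map_mul_aut, e, e']⟩
  · obtain ⟨v', hv', e⟩ := hb.2 φ hφ
    obtain ⟨v'', hv'', e'⟩ := ha.1 v' hv'
    exact ⟨v'', hv'', by rw [map_mul_aut, e, e']⟩

theorem map_one_aut (A : Subgroup PSLn) :
    A.map ((1 : MulAut PSLn) : PSLn ≃* PSLn).toMonoidHom = A := by
  ext x
  constructor
  · rintro ⟨y, hy, rfl⟩
    exact hy
  · intro hx
    exact ⟨x, hx, rfl⟩

theorem pp_one : PP ((1 : MulAut PSLn) : PSLn ≃* PSLn) :=
  ⟨fun v hv => ⟨v, hv, map_one_aut _⟩, fun φ hφ => ⟨φ, hφ, map_one_aut _⟩⟩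

theorem GL_mulVec_ne_zero (g : GLn) {v : Vn} (hv : v ≠ 0) : (g : Mn) *ᵥ v ≠ 0 := by
  intro h0
  apply hv
  have : ((g⁻¹ : GLn) : Mn) *ᵥ ((g : Mn) *ᵥ v) = v := by
    rw [mulVec_mulVec, ← Units.val_mul, inv_mul_cancel, Units.val_one, one_mulVec]
  rw [← this, h0, mulVec_zero]

theorem GL_vecMul_ne_zero (g : GLn) {φ : Vn} (hφ : φ ≠ 0) : φ ᵥ* (g : Mn) ≠ 0 := by
  intro h0
  apply hφ
  have : (φ ᵥ* (g : Mn)) ᵥ* ((g⁻¹ : GLn) : Mn) = φ := by
    rw [vecMul_vecMul, ← Units.val_mul, mul_inv_cancel, Units.val_one, vecMul_one]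
  rw [← this, h0, zero_vecMul]

theorem pp_conj (g : GLn) : PP ((liftAut (conjSL g) : MulAut PSLn) : PSLn ≃* PSLn) :=
  ⟨fun v hv => ⟨_, GL_mulVec_ne_zero g hv, map_conj_TPb g v⟩,
   fun φ hφ => ⟨_, GL_vecMul_ne_zero g⁻¹ hφ, map_conj_THb g φ⟩⟩

theorem ph_invT : PH ((liftAut (invT (F := F) (n := n)) : MulAut PSLn) : PSLn ≃* PSLn) :=
  ⟨fun v hv => ⟨v, hv, map_invT_TPb v⟩, fun φ hφ => ⟨φ, hφ, map_invT_THb φ⟩⟩

section finite

variable [Finite F]

theorem pp_field (p : ℕ) [Fact p.Prime] [CharP F p] (hn : 3 ≤ n) (σ : RingAut F) :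
    PP ((liftAut (fieldSL (n := n) σ) : MulAut PSLn) : PSLn ≃* PSLn) := by
  have hpres := presT_of_aut p hn (liftAut (fieldSL (n := n) σ))
  have hv0 : (Pi.single ⟨0, by omega⟩ 1 : Vn) ≠ 0 := single_one_ne_zero _
  refine hpres.pp_of_one hn hv0 (hpres.map_TPb_eq hn hv0 (isTS_TPb _) ?_) hv0
  rintro _ ⟨y, hy, rfl⟩
  obtain ⟨φ, h, rfl⟩ := mem_TPb.mp hy
  show liftAut (fieldSL σ) (mkP _) ∈ _
  rw [liftAut_mkP, fieldSL_tvS]
  have e : (fun i => σ ((Pi.single ⟨0, by omega⟩ 1 : Vn) i)) = (Pi.single ⟨0, by omega⟩ 1 : Vn) := by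
    funext i
    by_cases hi : i = ⟨0, by omega⟩
    · subst hi; simp
    · simp [hi]
  have h' : (fun i => σ (φ i)) ⬝ᵥ (Pi.single ⟨0, by omega⟩ 1 : Vn) = 0 := by
    rw [dotProduct_single, mul_one] at h ⊢
    rw [h, map_zero]
  exact mem_TPb.mpr ⟨_, h', congrArg mkP (tvS_congr e rfl _ _)⟩

theorem pp_or_ph_aut (p : ℕ) [Fact p.Prime] [CharP F p] (hn : 3 ≤ n) (β : MulAut PSLn) :
    PP (β : PSLn ≃* PSLn) ∨ PH (β : PSLn ≃* PSLn) :=
  (presT_of_aut p hn β).pp_or_ph hn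

open Classical in
/-- the graph type of an automorphism -/
noncomputable def epsHom (p : ℕ) [Fact p.Prime] [CharP F p] (hn : 3 ≤ n) :
    MulAut PSLn →* Multiplicative (ZMod 2) where
  toFun β := if PP (β : PSLn ≃* PSLn) then 1 else Multiplicative.ofAdd 1
  map_one' := if_pos pp_one
  map_mul' a b := by
    rcases pp_or_ph_aut p hn a with ha | ha <;> rcases pp_or_ph_aut p hn b with hb | hb
    · rw [if_pos ha, if_pos hb, if_pos (ha.mul hb), one_mul]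
    · have hb' : ¬ PP (b : PSLn ≃* PSLn) := fun h => not_pp_and_ph hn h hb
      have hab : ¬ PP ((a * b : MulAut PSLn) : PSLn ≃* PSLn) :=
        fun h => not_pp_and_ph hn h (ha.mul_PH hb)
      rw [if_pos ha, if_neg hb', if_neg hab, one_mul]
    · have ha' : ¬ PP (a : PSLn ≃* PSLn) := fun h => not_pp_and_ph hn h ha
      have hab : ¬ PP ((a * b : MulAut PSLn) : PSLn ≃* PSLn) :=
        fun h => not_pp_and_ph hn h (ha.mul_PP hb)
      rw [if_neg ha', if_pos hb, if_neg hab, mul_one]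
    · have ha' : ¬ PP (a : PSLn ≃* PSLn) := fun h => not_pp_and_ph hn h ha
      have hb' : ¬ PP (b : PSLn ≃* PSLn) := fun h => not_pp_and_ph hn h hb
      rw [if_neg ha', if_neg hb', if_pos (ha.mul_PH hb)]
      decide

open Classical in
theorem epsHom_of_pp (p : ℕ) [Fact p.Prime] [CharP F p] (hn : 3 ≤ n) {β : MulAut PSLn}
    (h : PP (β : PSLn ≃* PSLn)) : epsHom p hn β = 1 := if_pos h

open Classical in
theorem epsHom_of_ph (p : ℕ) [Fact p.Prime] [CharP F p] (hn : 3 ≤ n) {β : MulAut PSLn}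
    (h : PH (β : PSLn ≃* PSLn)) : epsHom p hn β = Multiplicative.ofAdd 1 :=
  if_neg (fun h' => not_pp_and_ph hn h' h)

/-- the map to `RingAut F × Z/2` -/
noncomputable def phiHom (p : ℕ) [Fact p.Prime] [CharP F p] (hn : 3 ≤ n) :
    MulAut PSLn →* RingAut F × Multiplicative (ZMod 2) :=
  (tauHom p (by omega : 2 ≤ n)).prod (epsHom p hn)

theorem phiHom_conj (p : ℕ) [Fact p.Prime] [CharP F p] (hn : 3 ≤ n) (g : GLn) :
    phiHom p hn (liftAut (conjSL g)) = 1 := by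
  unfold phiHom
  rw [MonoidHom.prod_apply, tauHom_conj, epsHom_of_pp p hn (pp_conj g)]
  rfl

theorem phiHom_field (p : ℕ) [Fact p.Prime] [CharP F p] (hn : 3 ≤ n) (σ : RingAut F) :
    phiHom p hn (liftAut (fieldSL (n := n) σ)) = (σ, 1) := by
  unfold phiHom
  rw [MonoidHom.prod_apply, tauHom_field, epsHom_of_pp p hn (pp_field p hn σ)]

theorem phiHom_invT (p : ℕ) [Fact p.Prime] [CharP F p] (hn : 3 ≤ n) :
    phiHom (F := F) p hn (liftAut invT) = (1, Multiplicative.ofAdd 1) := by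
  unfold phiHom
  rw [MonoidHom.prod_apply, tauHom_invT, epsHom_of_ph p hn ph_invT]

theorem phiHom_surjective (p : ℕ) [Fact p.Prime] [CharP F p] (hn : 3 ≤ n) :
    Function.Surjective (phiHom (F := F) p hn) := by
  rintro ⟨σ, e⟩
  rcases (by decide : ∀ e : Multiplicative (ZMod 2), e = 1 ∨ e = Multiplicative.ofAdd 1) e with
    rfl | rfl
  · exact ⟨_, phiHom_field p hn σ⟩
  · refine ⟨liftAut (fieldSL σ) * liftAut invT, ?_⟩
    rw [map_mul, phiHom_field, phiHom_invT]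
    ext <;> simp

theorem phiHom_ker (p : ℕ) [Fact p.Prime] [CharP F p] (hn : 3 ≤ n) (β : MulAut PSLn) :
    phiHom p hn β = 1 ↔ ∃ g : GLn, β = liftAut (conjSL g) := by
  constructor
  · intro h
    obtain ⟨g, σ, hβ | hβ⟩ := aut_PSL_std p (by omega : 2 ≤ n) β
    · refine ⟨g, ?_⟩
      rw [hβ, map_mul, phiHom_conj, phiHom_field, one_mul] at h
      have hσ : σ = 1 := congrArg Prod.fst h
      rw [hβ, hσ]
      exact (congrArg (fun x => liftAut (conjSL g) * x) fieldSL_one).trans (mul_one _)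
    · exfalso
      rw [hβ, map_mul, map_mul, phiHom_conj, phiHom_field, phiHom_invT, one_mul] at h
      have := congrArg Prod.snd h
      revert this
      simp only [Prod.snd_mul, one_mul, Prod.snd_one]
      decide
  · rintro ⟨g, rfl⟩
    exact phiHom_conj p hn g

/-- for `n = 2` the kernel of `tauHom` is the inner-diagonal group -/
theorem tauHom_ker_plane (p : ℕ) [Fact p.Prime] [CharP F p]
    (β : MulAut (Matrix.ProjectiveSpecialLinearGroup (Fin 2) F)) :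
    tauHom p (le_refl 2) β = 1 ↔ ∃ g : GL (Fin 2) F, β = liftAut (conjSL g) := by
  constructor
  · intro h
    obtain ⟨g, σ, hβ⟩ := aut_eq_std_plane p β
    refine ⟨g, ?_⟩
    rw [hβ, map_mul, tauHom_conj, tauHom_field, one_mul] at h
    rw [hβ, h]
    exact (congrArg (fun x => liftAut (conjSL g) * x) fieldSL_one).trans (mul_one _)
  · rintro ⟨g, rfl⟩
    exact tauHom_conj p _ g

end finite

end Cfsg.Agent.Lib.Helper9.APSL
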