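import Mathlib
import Cfsg.Prelude.Def_KGroupFacts
import Cfsg.Agent.Lib.Helper9.APSL17

set_option autoImplicit false

/-! Automorphisms of `PSL_n(F)`: the inner-diagonal group and its image in `Out`. -/

namespace Cfsg.Agent.Lib.Helper9.APSL

open Matrix

variable {F : Type*} [Field F] {n : ℕ}

local notation "Mn" => Matrix (Fin n) (Fin n) F
local notation "SLn" => Matrix.SpecialLinearGroup (Fin n) F
local notation "PSLn" => Matrix.ProjectiveSpecialLinearGroup (Fin n) F
local notation "Vn" => (Fin n → F)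
local notation "GLn" => GL (Fin n) F

/-- `GL_n → Aut PSL_n` -/
noncomputable def cG : GLn →* MulAut PSLn where
  toFun g := liftAut (conjSL g)
  map_one' := liftAut_conj_one
  map_mul' g h := (liftAut_conj_mul g h).symm

theorem cG_apply (g : GLn) : cG g = liftAut (conjSL g) := rfl

theorem cG_ker (hn : 2 ≤ n) : (cG (F := F) (n := n)).ker = Subgroup.center GLn := by
  ext g
  rw [MonoidHom.mem_ker]
  constructor
  · intro h
    rw [Matrix.GeneralLinearGroup.mem_center_iff_val_mem_range_scalar]
    apply Matrix.mem_range_scalar_of_commute_transvectionStruct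
    intro T
    have h1 : cG g (mkP (xS T.i T.j T.hij T.c)) = mkP (xS T.i T.j T.hij T.c) := by
      rw [h]; rfl
    rw [cG_apply, liftAut_mkP] at h1
    have h2 : conjSL g (xS T.i T.j T.hij T.c) = xS T.i T.j T.hij T.c := by
      unfold xS at h1 ⊢
      rw [conjSL_tvS] at h1 ⊢
      exact tvS_eq_of_mkP_eq (by omega) _ _ _ _ _ _ h1
    have h3 := congrArg Subtype.val h2
    rw [conjSL_coe] at h3
    have h4 : (g : Mn) * ((xS T.i T.j T.hij T.c : SLn) : Mn)
        = ((xS T.i T.j T.hij T.c : SLn) : Mn) * (g : Mn) := by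
      have : ((g⁻¹ : GLn) : Mn) * (g : Mn) = 1 := by
        rw [← Units.val_mul, inv_mul_cancel, Units.val_one]
      calc (g : Mn) * ((xS T.i T.j T.hij T.c : SLn) : Mn)
          = (g : Mn) * ((xS T.i T.j T.hij T.c : SLn) : Mn) * (((g⁻¹ : GLn) : Mn) * (g : Mn)) := by
            rw [this, mul_one]
        _ = ((g : Mn) * ((xS T.i T.j T.hij T.c : SLn) : Mn) * ((g⁻¹ : GLn) : Mn)) * (g : Mn) := by
            simp only [mul_assoc]
        _ = _ := by rw [h3]
    rw [xS_eq_transvection] at h4
    exact h4.symm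
  · intro h
    apply MulEquiv.ext
    intro x
    obtain ⟨s, rfl⟩ := mkP_surjective x
    rw [cG_apply, liftAut_mkP]
    show mkP _ = mkP s
    congr 1
    apply Subtype.ext
    rw [conjSL_coe]
    have h1 := Subgroup.mem_center_iff.mp h (Matrix.SpecialLinearGroup.toGL s)
    have h2 : g * Matrix.SpecialLinearGroup.toGL s * g⁻¹ = Matrix.SpecialLinearGroup.toGL s := by
      rw [← h1, mul_inv_cancel_right]
    have h3 := congrArg Units.val h2
    rw [Units.val_mul, Units.val_mul] at h3
    exact h3

theorem card_cG_range [Finite F] (hn : 2 ≤ n) :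
    Nat.card (cG (F := F) (n := n)).range = Nat.card (Matrix.ProjGenLinGroup (Fin n) F) := by
  rw [← Nat.card_congr (QuotientGroup.quotientKerEquivRange (cG (F := F) (n := n))).toEquiv]
  exact Nat.card_congr (QuotientGroup.quotientMulEquivOfEq (cG_ker hn)).toEquiv

/-- `GL_n → Out PSL_n` -/
noncomputable def psiG : GLn →* Cfsg.Out PSLn :=
  (QuotientGroup.mk' (Cfsg.Inn PSLn)).comp cG

theorem psiG_ker (hn : 2 ≤ n) : (psiG (F := F) (n := n)).ker
    = (powMonoidHom n : Fˣ →* Fˣ).range.comap Matrix.GeneralLinearGroup.det := by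
  ext g
  rw [MonoidHom.mem_ker, Subgroup.mem_comap]
  unfold psiG
  rw [MonoidHom.comp_apply, QuotientGroup.mk'_apply, QuotientGroup.eq_one_iff]
  constructor
  · rintro ⟨x, hx⟩
    obtain ⟨s, rfl⟩ := mkP_surjective x
    rw [← liftAut_conj_toGL, ← cG_apply] at hx
    have h1 : (Matrix.SpecialLinearGroup.toGL s)⁻¹ * g ∈ (cG (F := F) (n := n)).ker := by
      rw [MonoidHom.mem_ker, map_mul, map_inv, hx, inv_mul_cancel]
    rw [cG_ker hn, Matrix.GeneralLinearGroup.center_eq_range_scalar] at h1
    obtain ⟨u, hu⟩ := h1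
    refine ⟨u, ?_⟩
    have h2 : g = Matrix.SpecialLinearGroup.toGL s * Matrix.GeneralLinearGroup.scalar (Fin n) u := by
      rw [hu, mul_inv_cancel_left]
    rw [h2, map_mul, Matrix.GeneralLinearGroup.det_scalar, Fintype.card_fin, powMonoidHom_apply]
    have : Matrix.GeneralLinearGroup.det (Matrix.SpecialLinearGroup.toGL s) = 1 := by
      ext
      simp
    rw [this, one_mul]
  · rintro ⟨u, hu⟩
    rw [powMonoidHom_apply] at hu
    obtain ⟨g', hg'⟩ : ∃ g' : GLn, g' = g * (Matrix.GeneralLinearGroup.scalar (Fin n) u)⁻¹ :=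
      ⟨_, rfl⟩
    have hdet : (g' : Mn).det = 1 := by
      have : Matrix.GeneralLinearGroup.det g' = 1 := by
        rw [hg', map_mul, map_inv, Matrix.GeneralLinearGroup.det_scalar, Fintype.card_fin, hu,
          mul_inv_cancel]
      have := congrArg Units.val this
      simpa using this
    obtain ⟨s, hs⟩ : ∃ s : SLn, Matrix.SpecialLinearGroup.toGL s = g' :=
      ⟨⟨(g' : Mn), hdet⟩, by ext; rfl⟩
    refine ⟨mkP s, ?_⟩
    rw [← liftAut_conj_toGL, ← cG_apply, hs, hg', map_mul, map_inv]
    have : cG (Matrix.GeneralLinearGroup.scalar (Fin n) u) = (1 : MulAut PSLn) := by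
      rw [← MonoidHom.mem_ker, cG_ker hn, Matrix.GeneralLinearGroup.center_eq_range_scalar]
      exact ⟨u, rfl⟩
    rw [this, inv_one, mul_one]

section finite

variable [Finite F]

theorem card_psiG_range (hn : 2 ≤ n) :
    Nat.card (psiG (F := F) (n := n)).range = Nat.gcd n (Nat.card F - 1) := by
  have : Nonempty (Fin n) := ⟨⟨0, by omega⟩⟩
  rw [← Subgroup.index_ker, psiG_ker hn,
    Subgroup.index_comap_of_surjective _ Matrix.GeneralLinearGroup.det_surjective,
    IsCyclic.index_powMonoidHom_range, Nat.card_units, Nat.gcd_comm]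

theorem isCyclic_psiG_range (hn : 2 ≤ n) : IsCyclic (psiG (F := F) (n := n)).range := by
  have : Nonempty (Fin n) := ⟨⟨0, by omega⟩⟩
  have hle : (Matrix.GeneralLinearGroup.det : GLn →* Fˣ).ker
      ≤ (psiG (F := F) (n := n)).rangeRestrict.ker := by
    intro g hg
    rw [MonoidHom.mem_ker] at hg
    rw [MonoidHom.ker_rangeRestrict, psiG_ker hn, Subgroup.mem_comap, hg]
    exact one_mem _
  have h1 : IsCyclic (GLn ⧸ (Matrix.GeneralLinearGroup.det : GLn →* Fˣ).ker) :=
    isCyclic_of_surjective
      (QuotientGroup.quotientKerEquivOfSurjective _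
        (Matrix.GeneralLinearGroup.det_surjective (n := Fin n) (R := F))).symm
      (MulEquiv.surjective _)
  exact isCyclic_of_surjective (QuotientGroup.lift _ (psiG (F := F) (n := n)).rangeRestrict hle)
    (QuotientGroup.lift_surjective_of_surjective _ _
      (psiG (F := F) (n := n)).rangeRestrict_surjective _)

/-- The automorphism group of a field with `p ^ f` elements is cyclic of order `f`. -/
theorem ringAut_cyclic_card' (p f : ℕ) [Fact p.Prime] [CharP F p]
    (hF : Nat.card F = p ^ f) : IsCyclic (RingAut F) ∧ Nat.card (RingAut F) = f := by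
  let _ := ZMod.algebra F p
  let e : RingAut F ≃* (F ≃ₐ[ZMod p] F) :=
    { toFun := fun σ => AlgEquiv.ofRingEquiv (f := σ) (fun r =>
        RingHom.congr_fun (Subsingleton.elim ((σ : F →+* F).comp (algebraMap (ZMod p) F))
          (algebraMap (ZMod p) F)) r)
      invFun := fun τ => τ.toRingEquiv
      left_inv := fun σ => by ext x; rfl
      right_inv := fun τ => by ext x; rfl
      map_mul' := fun σ τ => by ext x; rfl }
  have hcyc : IsCyclic (F ≃ₐ[ZMod p] F) := inferInstance
  have hcard : Nat.card (F ≃ₐ[ZMod p] F) = Module.finrank (ZMod p) F := by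
    rw [← Nat.card_eq_of_bijective _
      (FiniteField.bijective_frobeniusAlgEquivOfAlgebraic_pow (ZMod p) F), Nat.card_fin]
  have hrank : Module.finrank (ZMod p) F = f := by
    have := Fintype.ofFinite F
    have h1 := Module.card_eq_pow_finrank (K := ZMod p) (V := F)
    rw [ZMod.card, ← Nat.card_eq_fintype_card, hF] at h1
    exact (Nat.pow_right_injective (Fact.out : p.Prime).two_le h1).symm
  constructor
  · exact isCyclic_of_surjective e.symm e.symm.surjective
  · rw [Nat.card_congr e.toEquiv, hcard, hrank]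

end finite

end Cfsg.Agent.Lib.Helper9.APSL
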