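import Mathlib
import Cfsg.Agent.Lib.Helper9.APSL18

set_option autoImplicit false

/-! Automorphisms of `PSL_n(F)`: the order of the automorphism group and the structure of the
outer automorphism group. -/

namespace Cfsg.Agent.Lib.Helper9.APSL

open Matrix

variable {F : Type*} [Field F] {n : ℕ}

local notation "Mn" => Matrix (Fin n) (Fin n) F
local notation "SLn" => Matrix.SpecialLinearGroup (Fin n) F
local notation "PSLn" => Matrix.ProjectiveSpecialLinearGroup (Fin n) F
local notation "Vn" => (Fin n → F)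
local notation "GLn" => GL (Fin n) F

theorem card_of_surjective_hom {A B : Type*} [Group A] [Group B] (Φ : A →* B)
    (hs : Function.Surjective Φ) : Nat.card A = Nat.card Φ.ker * Nat.card B := by
  rw [← Subgroup.card_mul_index Φ.ker, Subgroup.index_ker, MonoidHom.range_eq_top.mpr hs,
    Subgroup.card_top]

theorem inn_le_range_cG : Cfsg.Inn PSLn ≤ (cG (F := F) (n := n)).range := by
  rintro _ ⟨x, rfl⟩
  obtain ⟨s, rfl⟩ := mkP_surjective x
  exact ⟨Matrix.SpecialLinearGroup.toGL s, liftAut_conj_toGL s⟩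

section finite

variable [Fintype F]

/-- **the order of `Aut(PSL_n(F))`** -/
theorem card_aut_PSL (p f : ℕ) [Fact p.Prime] (hF : Fintype.card F = p ^ f) (hn : 2 ≤ n) :
    Nat.card (MulAut PSLn)
      = (if n = 2 then 1 else 2) * f * Nat.card (Matrix.ProjGenLinGroup (Fin n) F) := by
  haveI : CharP F p := charP_of_card p f hF
  have hF' : Nat.card F = p ^ f := by rw [Nat.card_eq_fintype_card, hF]
  obtain ⟨-, hcard⟩ := ringAut_cyclic_card' (F := F) p f hF'
  rcases Nat.lt_or_ge 2 n with h3 | h2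
  · have h3' : 3 ≤ n := h3
    rw [if_neg (by omega : ¬ n = 2), card_of_surjective_hom _ (phiHom_surjective (F := F) p h3')]
    have hker : (phiHom (F := F) p h3').ker = (cG (F := F) (n := n)).range := by
      ext β
      rw [MonoidHom.mem_ker, phiHom_ker]
      constructor
      · rintro ⟨g, rfl⟩; exact ⟨g, rfl⟩
      · rintro ⟨g, rfl⟩; exact ⟨g, rfl⟩
    rw [hker, card_cG_range hn, Nat.card_prod, hcard]
    have : Nat.card (Multiplicative (ZMod 2)) = 2 := by
      rw [Nat.card_eq_fintype_card]; rfl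
    rw [this]
    ring
  · have h2' : n = 2 := le_antisymm h2 hn
    subst h2'
    rw [if_pos rfl, card_of_surjective_hom _ (tauHom_surjective (F := F) p (le_refl 2))]
    have hker : (tauHom (F := F) p (le_refl 2)).ker = (cG (F := F) (n := 2)).range := by
      ext β
      rw [MonoidHom.mem_ker, tauHom_ker_plane]
      constructor
      · rintro ⟨g, rfl⟩; exact ⟨g, rfl⟩
      · rintro ⟨g, rfl⟩; exact ⟨g, rfl⟩
    rw [hker, card_cG_range (le_refl 2), hcard]
    ring

/-- **the structure of `Out(PSL_n(F))`, `n ≥ 3`** -/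
theorem out_PSL_struct (p f : ℕ) [Fact p.Prime] (hF : Fintype.card F = p ^ f) (hn : 3 ≤ n) :
    ∃ φ : Cfsg.Out PSLn →* Multiplicative (ZMod f × ZMod 2),
      Function.Surjective φ ∧ IsCyclic φ.ker ∧ Nat.card φ.ker = Nat.gcd n (p ^ f - 1) := by
  haveI : CharP F p := charP_of_card p f hF
  have hF' : Nat.card F = p ^ f := by rw [Nat.card_eq_fintype_card, hF]
  obtain ⟨hcyc, hcard⟩ := ringAut_cyclic_card' (F := F) p f hF'
  obtain ⟨e⟩ : Nonempty (RingAut F ≃* Multiplicative (ZMod f)) := by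
    subst hcard
    exact ⟨(zmodCyclicMulEquiv hcyc).symm⟩
  have hle : Cfsg.Inn PSLn ≤ (phiHom (F := F) p hn).ker := by
    rintro _ ⟨x, rfl⟩
    obtain ⟨s, rfl⟩ := mkP_surjective x
    rw [MonoidHom.mem_ker, ← liftAut_conj_toGL]
    exact phiHom_conj p hn _
  obtain ⟨L, hL⟩ : ∃ L : Cfsg.Out PSLn →* RingAut F × Multiplicative (ZMod 2),
      ∀ β : MulAut PSLn, L (QuotientGroup.mk β) = phiHom p hn β :=
    ⟨QuotientGroup.lift (Cfsg.Inn PSLn) (phiHom p hn) hle, fun β => rfl⟩
  have hLsurj : Function.Surjective L := by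
    intro y
    obtain ⟨β, rfl⟩ := phiHom_surjective (F := F) p hn y
    exact ⟨_, hL β⟩
  obtain ⟨E, -⟩ : ∃ E : RingAut F × Multiplicative (ZMod 2) ≃* Multiplicative (ZMod f × ZMod 2),
      True :=
    ⟨(MulEquiv.prodCongr e (MulEquiv.refl _)).trans (MulEquiv.prodMultiplicative (ZMod f) (ZMod 2)).symm, trivial⟩
  have hker : (E.toMonoidHom.comp L).ker = (psiG (F := F) (n := n)).range := by
    ext x
    rw [MonoidHom.mem_ker, MonoidHom.comp_apply]
    have : E.toMonoidHom (L x) = 1 ↔ L x = 1 := E.map_eq_one_iff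
    rw [this]
    obtain ⟨β, rfl⟩ := QuotientGroup.mk_surjective x
    rw [hL, phiHom_ker]
    constructor
    · rintro ⟨g, rfl⟩
      exact ⟨g, rfl⟩
    · rintro ⟨g, hg⟩
      have h1 : (cG g)⁻¹ * β ∈ Cfsg.Inn PSLn := by
        rw [← QuotientGroup.eq]
        exact hg
      obtain ⟨g', hg'⟩ := inn_le_range_cG h1
      refine ⟨g * g', ?_⟩
      rw [← cG_apply, map_mul, hg', mul_inv_cancel_left]
  refine ⟨E.toMonoidHom.comp L, E.surjective.comp hLsurj, ?_, ?_⟩
  · rw [hker]
    exact isCyclic_psiG_range (by omega)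
  · rw [hker, card_psiG_range (by omega), hF']

end finite

end Cfsg.Agent.Lib.Helper9.APSL
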