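import Mathlib
import Cfsg.Prelude.Def_LieTypeDatum
import Cfsg.Prelude.Def_StandardType
import Cfsg.Agent.Lib.Helper9.APSL19

set_option autoImplicit false

/-! Automorphisms of `PSL_n(F)`: the standard subgroups and their commutation rules. -/

namespace Cfsg.Agent.Lib.Helper9.APSL

open Matrix

variable {F : Type*} [Field F] {n : ℕ}

local notation "Mn" => Matrix (Fin n) (Fin n) F
local notation "SLn" => Matrix.SpecialLinearGroup (Fin n) F
local notation "PSLn" => Matrix.ProjectiveSpecialLinearGroup (Fin n) F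
local notation "Vn" => (Fin n → F)
local notation "GLn" => GL (Fin n) F

theorem eq_cG_of_innerDiagonal {β : PSLn ≃* PSLn} (h : Cfsg.IsInnerDiagonalAutPSL β) :
    ∃ g : GLn, β = cG g := by
  obtain ⟨g, hg⟩ := h
  refine ⟨g, ?_⟩
  apply MulEquiv.ext
  intro x
  obtain ⟨s, rfl⟩ := mkP_surjective x
  rw [cG_apply, liftAut_mkP]
  exact hg s (conjSL g s) (conjSL_coe g s)

theorem eq_fld_of_stdField {σ : F ≃+* F} {β : PSLn ≃* PSLn} (h : Cfsg.IsStdFieldAutPSL σ β) :
    β = liftAut (fieldSL σ) := by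
  apply MulEquiv.ext
  intro x
  obtain ⟨s, rfl⟩ := mkP_surjective x
  rw [liftAut_mkP]
  exact h s (fieldSL σ s) (fieldSL_coe σ s)

theorem eq_gam_of_inverseTranspose {β : PSLn ≃* PSLn} (h : Cfsg.IsInverseTransposeAutPSL β) :
    β = liftAut invT := by
  apply MulEquiv.ext
  intro x
  obtain ⟨s, rfl⟩ := mkP_surjective x
  rw [liftAut_mkP]
  exact h s (invT s) (invT_coe s)

theorem inndiagPSL_eq : Cfsg.inndiagPSL n F = (cG (F := F) (n := n)).range := by
  unfold Cfsg.inndiagPSL Cfsg.autSubgroupOf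
  apply le_antisymm
  · rw [Subgroup.closure_le]
    intro β hβ
    obtain ⟨g, rfl⟩ := eq_cG_of_innerDiagonal hβ
    exact ⟨g, rfl⟩
  · rintro _ ⟨g, rfl⟩
    exact Subgroup.subset_closure (isInnerDiagonal_liftAut g)

/-- the field automorphisms, as a homomorphism -/
noncomputable def fld : RingAut F →* MulAut PSLn where
  toFun σ := liftAut (fieldSL σ)
  map_one' := fieldSL_one
  map_mul' σ τ := by
    rw [liftAut_mul]
    congr 1

theorem fld_apply (σ : RingAut F) : fld (n := n) σ = liftAut (fieldSL σ) := rfl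

/-- the inverse-transpose automorphism -/
noncomputable def gam : MulAut PSLn := liftAut invT

theorem gam_def : (gam : MulAut PSLn) = liftAut invT := rfl

theorem gam_mul_gam : (gam : MulAut PSLn) * gam = 1 := liftAut_invT_sq

theorem gam_inv : (gam : MulAut PSLn)⁻¹ = gam := inv_eq_of_mul_eq_one_left gam_mul_gam

/-- a field automorphism applied to the entries, on `GL` -/
noncomputable def sG (σ : RingAut F) : GLn →* GLn :=
  Matrix.GeneralLinearGroup.map (σ : F ≃+* F).toRingHom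

theorem sG_coe (σ : RingAut F) (g : GLn) : ((sG σ g : GLn) : Mn) = (g : Mn).map σ := by
  ext i j
  rfl

theorem sG_one (g : GLn) : sG (1 : RingAut F) g = g := by
  apply Units.ext
  rw [sG_coe]
  ext i j
  rfl

theorem sG_mul (σ τ : RingAut F) (g : GLn) : sG (σ * τ) g = sG σ (sG τ g) := by
  apply Units.ext
  rw [sG_coe, sG_coe, sG_coe]
  ext i j
  rfl

/-- inverse transpose, on `GL` -/
noncomputable def tI : GLn →* GLn where
  toFun g := ⟨((g⁻¹ : GLn) : Mn)ᵀ, (g : Mn)ᵀ,
    by rw [← transpose_mul, ← Units.val_mul, mul_inv_cancel, Units.val_one, transpose_one],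
    by rw [← transpose_mul, ← Units.val_mul, inv_mul_cancel, Units.val_one, transpose_one]⟩
  map_one' := by
    apply Units.ext
    show ((1⁻¹ : GLn) : Mn)ᵀ = 1
    rw [inv_one, Units.val_one, transpose_one]
  map_mul' g h := by
    apply Units.ext
    show (((g * h)⁻¹ : GLn) : Mn)ᵀ = ((g⁻¹ : GLn) : Mn)ᵀ * ((h⁻¹ : GLn) : Mn)ᵀ
    rw [_root_.mul_inv_rev, Units.val_mul, transpose_mul]

theorem tI_coe (g : GLn) : ((tI g : GLn) : Mn) = ((g⁻¹ : GLn) : Mn)ᵀ := rfl

theorem tI_inv_coe (g : GLn) : (((tI g)⁻¹ : GLn) : Mn) = (g : Mn)ᵀ := rfl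

theorem tI_tI (g : GLn) : tI (tI g) = g := by
  apply Units.ext
  rw [tI_coe, tI_inv_coe, transpose_transpose]

theorem sG_tI (σ : RingAut F) (g : GLn) : sG σ (tI g) = tI (sG σ g) := by
  apply Units.ext
  rw [sG_coe, tI_coe, tI_coe, ← map_inv, sG_coe, transpose_map]

/-! ### commutation rules -/

theorem fld_mul_cG (σ : RingAut F) (g : GLn) :
    fld σ * cG g = cG (sG σ g) * fld σ := by
  apply MulEquiv.ext
  intro x
  obtain ⟨s, rfl⟩ := mkP_surjective x
  rw [MulAut.mul_apply, MulAut.mul_apply, fld_apply, cG_apply, cG_apply, liftAut_mkP, liftAut_mkP,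
    liftAut_mkP, liftAut_mkP]
  congr 1
  apply Subtype.ext
  rw [fieldSL_coe, conjSL_coe, conjSL_coe, fieldSL_coe, Matrix.map_mul, Matrix.map_mul,
    ← map_inv, sG_coe, sG_coe]

theorem gam_mul_cG (g : GLn) : gam * cG g = cG (tI g) * gam := by
  apply MulEquiv.ext
  intro x
  obtain ⟨s, rfl⟩ := mkP_surjective x
  rw [MulAut.mul_apply, MulAut.mul_apply, gam_def, cG_apply, cG_apply, liftAut_mkP, liftAut_mkP,
    liftAut_mkP, liftAut_mkP]
  congr 1
  apply Subtype.ext
  rw [invT_coe, conjSL_coe, invT_coe, ← map_inv, conjSL_coe, transpose_mul, transpose_mul,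
    tI_inv_coe, tI_coe, mul_assoc]

theorem gam_mul_fld (σ : RingAut F) : gam * fld (n := n) σ = fld σ * gam := by
  apply MulEquiv.ext
  intro x
  obtain ⟨s, rfl⟩ := mkP_surjective x
  rw [MulAut.mul_apply, MulAut.mul_apply, gam_def, fld_apply, liftAut_mkP, liftAut_mkP,
    liftAut_mkP, liftAut_mkP]
  congr 1
  apply Subtype.ext
  rw [invT_coe, fieldSL_coe, invT_coe, ← map_inv, fieldSL_coe, transpose_map]

theorem cG_scalar (hn : 2 ≤ n) (u : Fˣ) :
    cG (Matrix.GeneralLinearGroup.scalar (Fin n) u) = (1 : MulAut PSLn) := by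
  rw [← MonoidHom.mem_ker, cG_ker hn, Matrix.GeneralLinearGroup.center_eq_range_scalar]
  exact ⟨u, rfl⟩

theorem exists_scalar_of_cG_eq_one (hn : 2 ≤ n) {g : GLn} (h : cG g = (1 : MulAut PSLn)) :
    ∃ u : Fˣ, g = Matrix.GeneralLinearGroup.scalar (Fin n) u := by
  rw [← MonoidHom.mem_ker, cG_ker hn, Matrix.GeneralLinearGroup.center_eq_range_scalar] at h
  obtain ⟨u, hu⟩ := h
  exact ⟨u, hu.symm⟩

section finite

variable [Finite F]

theorem cG_range_normal (p : ℕ) [Fact p.Prime] [CharP F p] (hn : 2 ≤ n) :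
    (cG (F := F) (n := n)).range.Normal := by
  rcases Nat.lt_or_ge 2 n with h3 | h2
  · have : (cG (F := F) (n := n)).range = (phiHom p h3).ker := by
      ext β
      rw [MonoidHom.mem_ker, phiHom_ker, MonoidHom.mem_range]
      constructor
      · rintro ⟨g, rfl⟩; exact ⟨g, rfl⟩
      · rintro ⟨g, rfl⟩; exact ⟨g, rfl⟩
    rw [this]; infer_instance
  · obtain rfl : n = 2 := by omega
    have : (cG (F := F) (n := 2)).range = (tauHom p (le_refl 2)).ker := by
      ext β
      rw [MonoidHom.mem_ker, tauHom_ker_plane, MonoidHom.mem_range]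
      constructor
      · rintro ⟨g, rfl⟩; exact ⟨g, rfl⟩
      · rintro ⟨g, rfl⟩; exact ⟨g, rfl⟩
    rw [this]; infer_instance

theorem fld_injective (p : ℕ) [Fact p.Prime] [CharP F p] (hn : 2 ≤ n) :
    Function.Injective (fld (F := F) (n := n)) := by
  intro σ τ h
  have := congrArg (tauHom p hn) h
  rwa [fld_apply, fld_apply, tauHom_field, tauHom_field] at this

end finite

theorem conjUnder_of_conj {X : Type*} [Group X] (D : Subgroup X) [hD : D.Normal] (α x δ : X)
    (h : Cfsg.IsConjUnder D (α * x * α⁻¹) (α * (δ * x) * α⁻¹)) : Cfsg.IsConjUnder D x (δ * x) := by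
  obtain ⟨k, hk, e⟩ := h
  refine ⟨α⁻¹ * k * α, ?_, ?_⟩
  · have := hD.conj_mem k hk α⁻¹
    rwa [inv_inv] at this
  · calc δ * x = α⁻¹ * (α * (δ * x) * α⁻¹) * α := by group
      _ = α⁻¹ * (k * (α * x * α⁻¹) * k⁻¹) * α := by rw [e]
      _ = α⁻¹ * k * α * x * (α⁻¹ * k * α)⁻¹ := by group

end Cfsg.Agent.Lib.Helper9.APSL
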