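import Mathlib
import Cfsg.Agent.Lib.Helper9.APSL20

set_option autoImplicit false

/-! Semilinear descent: Hilbert's theorem 90 for `GL_n`, cyclic case. -/

namespace Cfsg.Agent.Lib.Helper9.APSL

open Matrix

variable {F : Type*} [Field F] {n : ℕ}

local notation "Mn" => Matrix (Fin n) (Fin n) F
local notation "SLn" => Matrix.SpecialLinearGroup (Fin n) F
local notation "PSLn" => Matrix.ProjectiveSpecialLinearGroup (Fin n) F
local notation "Vn" => (Fin n → F)
local notation "GLn" => GL (Fin n) F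

/-- the twisted norm `g σ(g) ⋯ σ^{k-1}(g)` -/
noncomputable def Nk (σ : RingAut F) (g : GLn) : ℕ → GLn
  | 0 => 1
  | k + 1 => g * sG σ (Nk σ g k)

theorem Nk_zero (σ : RingAut F) (g : GLn) : Nk σ g 0 = 1 := rfl

theorem Nk_succ (σ : RingAut F) (g : GLn) (k : ℕ) : Nk σ g (k + 1) = g * sG σ (Nk σ g k) := rfl

theorem pow_cG_fld (σ : RingAut F) (g : GLn) (k : ℕ) :
    (cG g * fld σ) ^ k = cG (Nk σ g k) * fld (σ ^ k) := by
  induction k with
  | zero => rw [pow_zero, pow_zero, Nk_zero, map_one, map_one, one_mul]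
  | succ k ih =>
    rw [pow_succ', ih, Nk_succ, pow_succ', map_mul, map_mul]
    calc cG g * fld σ * (cG (Nk σ g k) * fld (σ ^ k))
        = cG g * (fld σ * cG (Nk σ g k)) * fld (σ ^ k) := by simp only [mul_assoc]
      _ = cG g * (cG (sG σ (Nk σ g k)) * fld σ) * fld (σ ^ k) := by rw [fld_mul_cG]
      _ = _ := by simp only [mul_assoc]

/-- a field automorphism applied to the coordinates -/
def sv (σ : RingAut F) (v : Vn) : Vn := fun i => σ (v i)

theorem sv_one (v : Vn) : sv (1 : RingAut F) v = v := rfl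

theorem sv_mul (σ τ : RingAut F) (v : Vn) : sv (σ * τ) v = sv σ (sv τ v) := rfl

theorem sv_add (σ : RingAut F) (v w : Vn) : sv σ (v + w) = sv σ v + sv σ w := by
  ext i
  simp [sv]

theorem sv_zero (σ : RingAut F) : sv σ (0 : Vn) = 0 := by
  ext i
  simp [sv]

theorem sv_smul (σ : RingAut F) (c : F) (v : Vn) : sv σ (c • v) = σ c • sv σ v := by
  ext i
  simp [sv]

theorem sv_mulVec (σ : RingAut F) (M : Mn) (v : Vn) : sv σ (M *ᵥ v) = (M.map σ) *ᵥ sv σ v := by
  ext i
  simp [sv, mulVec, dotProduct, map_sum]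

/-- the semilinear map `v ↦ g σ(v)` -/
def Tsl (σ : RingAut F) (g : GLn) (v : Vn) : Vn := (g : Mn) *ᵥ sv σ v

theorem Tsl_add (σ : RingAut F) (g : GLn) (v w : Vn) :
    Tsl σ g (v + w) = Tsl σ g v + Tsl σ g w := by
  unfold Tsl
  rw [sv_add, mulVec_add]

theorem Tsl_zero (σ : RingAut F) (g : GLn) : Tsl σ g 0 = 0 := by
  unfold Tsl
  rw [sv_zero, mulVec_zero]

theorem Tsl_smul (σ : RingAut F) (g : GLn) (c : F) (v : Vn) :
    Tsl σ g (c • v) = σ c • Tsl σ g v := by
  unfold Tsl
  rw [sv_smul, mulVec_smul]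

theorem Tsl_sum (σ : RingAut F) (g : GLn) {ι : Type*} (s : Finset ι) (f : ι → Vn) :
    Tsl σ g (∑ i ∈ s, f i) = ∑ i ∈ s, Tsl σ g (f i) := by
  classical
  induction s using Finset.induction_on with
  | empty => simp [Tsl_zero]
  | insert a s ha ih => rw [Finset.sum_insert ha, Finset.sum_insert ha, Tsl_add, ih]

theorem Tsl_iterate (σ : RingAut F) (g : GLn) (k : ℕ) (v : Vn) :
    (Tsl σ g)^[k] v = ((Nk σ g k : GLn) : Mn) *ᵥ sv (σ ^ k) v := by
  induction k with
  | zero => rw [Function.iterate_zero, id, Nk_zero, pow_zero, sv_one, Units.val_one, one_mulVec]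
  | succ k ih =>
    rw [Function.iterate_succ_apply', ih, Nk_succ, pow_succ', sv_mul, Units.val_mul, sG_coe]
    unfold Tsl
    rw [sv_mulVec, mulVec_mulVec]

theorem Tsl_iterate_smul (σ : RingAut F) (g : GLn) (k : ℕ) (c : F) (v : Vn) :
    (Tsl σ g)^[k] (c • v) = (σ ^ k) c • (Tsl σ g)^[k] v := by
  rw [Tsl_iterate, Tsl_iterate, sv_smul, mulVec_smul]

theorem dedekind_pow (σ : RingAut F) (r : ℕ)
    (hinj : ∀ i j, i < r → j < r → σ ^ i = σ ^ j → i = j) (a : ℕ → F)
    (h : ∀ c : F, ∑ i ∈ Finset.range r, a i * (σ ^ i) c = 0) : ∀ i, i < r → a i = 0 := by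
  let ι : Fin r → (F →* F) := fun i => ((σ ^ (i : ℕ) : RingAut F) : F ≃+* F).toRingHom.toMonoidHom
  have hι : Function.Injective ι := by
    intro i j hij
    apply Fin.ext
    apply hinj _ _ i.2 j.2
    apply RingEquiv.ext
    intro c
    exact DFunLike.congr_fun hij c
  have hli := (linearIndependent_monoidHom F F).comp ι hι
  rw [Fintype.linearIndependent_iff] at hli
  have h0 : ∑ i : Fin r, a i • ((fun f : F →* F => (f : F → F)) ∘ ι) i = 0 := by
    funext c
    rw [Finset.sum_apply]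
    have := h c
    rw [← Fin.sum_univ_eq_sum_range (fun i => a i * (σ ^ i) c)] at this
    simpa [ι] using this
  intro i hi
  exact hli (fun i => a i) h0 ⟨i, hi⟩

/-- **Hilbert 90 for `GL_n`**, cyclic case, by semilinear descent. -/
theorem exists_descent (σ : RingAut F) (r : ℕ) (hr : 0 < r)
    (hinj : ∀ i j, i < r → j < r → σ ^ i = σ ^ j → i = j) (hσ : σ ^ r = 1) (g : GLn)
    (hN : Nk σ g r = 1) : ∃ h : GLn, g * sG σ h = h := by
  have hTr : ∀ v, (Tsl σ g)^[r] v = v := by
    intro v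
    rw [Tsl_iterate, hN, hσ, sv_one, Units.val_one, one_mulVec]
  have hP : ∀ v, Tsl σ g (∑ i ∈ Finset.range r, (Tsl σ g)^[i] v)
      = ∑ i ∈ Finset.range r, (Tsl σ g)^[i] v := by
    intro v
    rw [Tsl_sum]
    have h1 : ∑ i ∈ Finset.range r, Tsl σ g ((Tsl σ g)^[i] v)
        = ∑ i ∈ Finset.range r, (Tsl σ g)^[i + 1] v := by
      apply Finset.sum_congr rfl
      intro i _
      rw [Function.iterate_succ_apply']
    rw [h1]
    have h2 := Finset.sum_range_succ (fun i => (Tsl σ g)^[i] v) r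
    have h3 := Finset.sum_range_succ' (fun i => (Tsl σ g)^[i] v) r
    rw [h2] at h3
    simp only [Function.iterate_zero, id] at h3
    rw [hTr] at h3
    exact (add_right_cancel h3).symm
  obtain ⟨V₀, hV₀⟩ : ∃ V₀ : Set Vn, V₀ = {v | Tsl σ g v = v} := ⟨_, rfl⟩
  have hW : Submodule.span F V₀ = ⊤ := by
    by_contra hW
    have hlt : Submodule.span F V₀ < ⊤ := lt_top_iff_ne_top.mpr hW
    obtain ⟨ℓ, hℓ0, hℓ⟩ := Submodule.exists_dual_map_eq_bot_of_lt_top hlt inferInstance
    have hker : ∀ w ∈ Submodule.span F V₀, ℓ w = 0 := by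
      intro w hw
      have : ℓ w ∈ (Submodule.span F V₀).map ℓ := Submodule.mem_map_of_mem hw
      rw [hℓ] at this
      exact (Submodule.mem_bot F).mp this
    apply hℓ0
    apply LinearMap.ext
    intro v
    have hsum : ∀ c : F, ∑ i ∈ Finset.range r, ℓ ((Tsl σ g)^[i] v) * (σ ^ i) c = 0 := by
      intro c
      have h1 : (∑ i ∈ Finset.range r, (Tsl σ g)^[i] (c • v)) ∈ Submodule.span F V₀ := by
        apply Submodule.subset_span
        rw [hV₀]
        exact hP (c • v)
      have h2 := hker _ h1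
      rw [map_sum] at h2
      rw [← h2]
      apply Finset.sum_congr rfl
      intro i _
      rw [Tsl_iterate_smul, map_smul, smul_eq_mul, mul_comm]
    have := dedekind_pow σ r hinj (fun i => ℓ ((Tsl σ g)^[i] v)) hsum 0 hr
    simpa using this
  have hV₀mem : ∀ v, v ∈ V₀ → Tsl σ g v = v := by
    intro v hv
    rw [hV₀] at hv
    exact hv
  obtain ⟨b, hb_mem, -, hb_li⟩ := Submodule.exists_fun_fin_finrank_span_eq F V₀
  have hfin : Module.finrank F (Submodule.span F V₀) = n := by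
    rw [hW, finrank_top, Module.finrank_fin_fun]
  obtain ⟨b', hb'⟩ : ∃ b' : Fin n → Vn, b' = b ∘ (finCongr hfin.symm) := ⟨_, rfl⟩
  have hb'li : LinearIndependent F b' := by
    rw [hb']
    exact hb_li.comp _ (finCongr hfin.symm).injective
  have hb'fix : ∀ j, Tsl σ g (b' j) = b' j := by
    intro j
    rw [hb']
    exact hV₀mem _ (hb_mem _)
  obtain ⟨B, hB⟩ : ∃ B : Mn, B = Matrix.of (fun i j => b' j i) := ⟨_, rfl⟩
  have hcol : B.col = b' := by
    funext j i
    rw [hB]
    rfl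
  have hBu : IsUnit B := by
    rw [← Matrix.linearIndependent_cols_iff_isUnit, hcol]
    exact hb'li
  have hfix : (g : Mn) * B.map σ = B := by
    ext i j
    have h2 := congrFun (hb'fix j) i
    rw [hB]
    show ((g : Mn) * (Matrix.of (fun i j => b' j i)).map σ) i j = b' j i
    rw [← h2]
    simp [Tsl, sv, mulVec, dotProduct, Matrix.mul_apply]
  obtain ⟨h, hh⟩ := hBu
  refine ⟨h, ?_⟩
  apply Units.ext
  rw [Units.val_mul, sG_coe, hh]
  exact hfix

end Cfsg.Agent.Lib.Helper9.APSL
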