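import Mathlib
import Cfsg.Agent.Lib.Helper9.APSL21

set_option autoImplicit false

/-! Norms in finite fields; field automorphisms of `PSL_n` twisted by inner-diagonal ones. -/

namespace Cfsg.Agent.Lib.Helper9.APSL

open Matrix

variable {F : Type*} [Field F] {n : ℕ}

local notation "Mn" => Matrix (Fin n) (Fin n) F
local notation "SLn" => Matrix.SpecialLinearGroup (Fin n) F
local notation "PSLn" => Matrix.ProjectiveSpecialLinearGroup (Fin n) F
local notation "Vn" => (Fin n → F)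
local notation "GLn" => GL (Fin n) F

/-- a field automorphism acting on the units -/
noncomputable def uA (σ : RingAut F) : Fˣ →* Fˣ :=
  Units.map ((σ : F ≃+* F).toRingHom.toMonoidHom)

theorem uA_coe (σ : RingAut F) (u : Fˣ) : ((uA σ u : Fˣ) : F) = σ u := rfl

theorem uA_one (u : Fˣ) : uA (1 : RingAut F) u = u := Units.ext rfl

theorem uA_mul (σ τ : RingAut F) (u : Fˣ) : uA (σ * τ) u = uA σ (uA τ u) := Units.ext rfl

/-- the partial norms `u σ(u) ⋯ σ^{k-1}(u)` -/
noncomputable def nrm (σ : RingAut F) (k : ℕ) : Fˣ →* Fˣ := ∏ i ∈ Finset.range k, uA (σ ^ i)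

theorem nrm_apply (σ : RingAut F) (k : ℕ) (u : Fˣ) :
    nrm σ k u = ∏ i ∈ Finset.range k, uA (σ ^ i) u := by
  unfold nrm
  rw [MonoidHom.finsetProd_apply]

theorem nrm_zero (σ : RingAut F) (u : Fˣ) : nrm σ 0 u = 1 := by
  rw [nrm_apply, Finset.range_zero, Finset.prod_empty]

theorem uA_nrm (σ : RingAut F) (k : ℕ) (u : Fˣ) :
    uA σ (nrm σ k u) = ∏ i ∈ Finset.range k, uA (σ ^ (i + 1)) u := by
  rw [nrm_apply, map_prod]
  apply Finset.prod_congr rfl
  intro i _
  rw [pow_succ', uA_mul]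

theorem nrm_succ (σ : RingAut F) (k : ℕ) (u : Fˣ) :
    nrm σ (k + 1) u = u * uA σ (nrm σ k u) := by
  rw [uA_nrm, nrm_apply, Finset.prod_range_succ', pow_zero, uA_one, mul_comm]

theorem uA_nrm_of_pow (σ : RingAut F) (r : ℕ) (hσ : σ ^ r = 1) (u : Fˣ) :
    uA σ (nrm σ r u) = nrm σ r u := by
  rw [uA_nrm, nrm_apply]
  have h2 := Finset.prod_range_succ (fun i => uA (σ ^ i) u) r
  have h3 := Finset.prod_range_succ' (fun i => uA (σ ^ i) u) r
  rw [h2] at h3
  simp only [pow_zero, uA_one, hσ] at h3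
  exact (mul_right_cancel h3).symm

theorem nrm_uA (σ : RingAut F) (k : ℕ) (u : Fˣ) : nrm σ k (uA σ u) = uA σ (nrm σ k u) := by
  rw [uA_nrm, nrm_apply]
  apply Finset.prod_congr rfl
  intro i _
  rw [pow_succ, uA_mul]

theorem sG_scalar (σ : RingAut F) (u : Fˣ) :
    sG σ (Matrix.GeneralLinearGroup.scalar (Fin n) u)
      = Matrix.GeneralLinearGroup.scalar (Fin n) (uA σ u) := by
  apply Units.ext
  rw [sG_coe, Matrix.GeneralLinearGroup.coe_scalar, Matrix.GeneralLinearGroup.coe_scalar,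
    Matrix.scalar_apply, Matrix.scalar_apply, Matrix.diagonal_map (map_zero _)]
  rfl

theorem Nk_one (σ : RingAut F) (k : ℕ) : Nk σ (1 : GLn) k = 1 := by
  induction k with
  | zero => rfl
  | succ k ih => rw [Nk_succ, ih, map_one, one_mul]

theorem Nk_scalar_mul (σ : RingAut F) (u : Fˣ) (g : GLn) (k : ℕ) :
    Nk σ (Matrix.GeneralLinearGroup.scalar (Fin n) u * g) k
      = Matrix.GeneralLinearGroup.scalar (Fin n) (nrm σ k u) * Nk σ g k := by
  induction k with
  | zero => rw [Nk_zero, Nk_zero, nrm_zero, map_one, one_mul]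
  | succ k ih =>
    rw [Nk_succ, ih, map_mul, sG_scalar, Nk_succ, nrm_succ, map_mul]
    calc Matrix.GeneralLinearGroup.scalar (Fin n) u * g
          * (Matrix.GeneralLinearGroup.scalar (Fin n) (uA σ (nrm σ k u)) * sG σ (Nk σ g k))
        = Matrix.GeneralLinearGroup.scalar (Fin n) u
          * (g * Matrix.GeneralLinearGroup.scalar (Fin n) (uA σ (nrm σ k u)))
          * sG σ (Nk σ g k) := by simp only [mul_assoc]
      _ = Matrix.GeneralLinearGroup.scalar (Fin n) u
          * (Matrix.GeneralLinearGroup.scalar (Fin n) (uA σ (nrm σ k u)) * g)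
          * sG σ (Nk σ g k) := by
            rw [Matrix.GeneralLinearGroup.scalar_commute (uA σ (nrm σ k u)) g]
      _ = _ := by simp only [mul_assoc]

theorem Nk_scalar (σ : RingAut F) (u : Fˣ) (k : ℕ) :
    Nk σ (Matrix.GeneralLinearGroup.scalar (Fin n) u) k
      = Matrix.GeneralLinearGroup.scalar (Fin n) (nrm σ k u) := by
  have := Nk_scalar_mul σ u (1 : GLn) k
  rwa [mul_one, Nk_one, mul_one] at this

theorem det_sG (σ : RingAut F) (h : GLn) :
    Matrix.GeneralLinearGroup.det (sG σ h) = uA σ (Matrix.GeneralLinearGroup.det h) := by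
  apply Units.ext
  show ((sG σ h : GLn) : Mn).det = σ ((h : Mn).det)
  rw [sG_coe]
  exact (RingHom.map_det (σ : F ≃+* F).toRingHom (h : Mn)).symm

/-- **Hilbert 90** for the units of a field, cyclic case -/
theorem exists_field_h90 (σ : RingAut F) (r : ℕ) (hr : 0 < r)
    (hinj : ∀ i j, i < r → j < r → σ ^ i = σ ^ j → i = j) (hσ : σ ^ r = 1) (u : Fˣ)
    (hu : nrm σ r u = 1) : ∃ ν : Fˣ, u * uA σ ν = ν := by
  have hN : Nk σ (Matrix.GeneralLinearGroup.scalar (Fin 1) u) r = 1 := by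
    rw [Nk_scalar, hu, map_one]
  obtain ⟨h, hh⟩ := exists_descent σ r hr hinj hσ _ hN
  refine ⟨Matrix.GeneralLinearGroup.det h, ?_⟩
  have := congrArg Matrix.GeneralLinearGroup.det hh
  rw [map_mul, Matrix.GeneralLinearGroup.det_scalar, det_sG, Fintype.card_fin, pow_one] at this
  exact this

/-- the norm of a finite field onto the fixed field of an automorphism is surjective -/
theorem norm_surjective [Finite F] (σ : RingAut F) (r : ℕ) (hr : 0 < r)
    (hinj : ∀ i j, i < r → j < r → σ ^ i = σ ^ j → i = j) (hσ : σ ^ r = 1) (lam : Fˣ)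
    (hlam : uA σ lam = lam) : ∃ μ : Fˣ, nrm σ r μ = lam := by
  obtain ⟨D, hD⟩ : ∃ D : Fˣ →* Fˣ, D = MonoidHom.id Fˣ / uA σ := ⟨_, rfl⟩
  have hDa : ∀ ν, D ν = ν / uA σ ν := by
    intro ν
    rw [hD, MonoidHom.div_apply, MonoidHom.id_apply]
  have hb : D.range ≤ (nrm σ r).ker := by
    rintro _ ⟨ν, rfl⟩
    rw [MonoidHom.mem_ker, hDa, map_div, nrm_uA, uA_nrm_of_pow σ r hσ, div_self']
  have hc : (nrm σ r).ker ≤ D.range := by
    intro u hu
    rw [MonoidHom.mem_ker] at hu
    obtain ⟨ν, hν⟩ := exists_field_h90 σ r hr hinj hσ u hu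
    refine ⟨ν, ?_⟩
    rw [hDa, div_eq_iff_eq_mul]
    exact hν.symm
  have hd : (nrm σ r).range ≤ D.ker := by
    rintro _ ⟨μ, rfl⟩
    rw [MonoidHom.mem_ker, hDa, uA_nrm_of_pow σ r hσ, div_self']
  have hker : (nrm σ r).ker = D.range := le_antisymm hc hb
  have hcardN : Nat.card Fˣ = Nat.card (nrm σ r).ker * Nat.card (nrm σ r).range := by
    rw [← Subgroup.index_ker, Subgroup.card_mul_index]
  have hcardD : Nat.card Fˣ = Nat.card D.ker * Nat.card D.range := by
    rw [← Subgroup.index_ker, Subgroup.card_mul_index]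
  have hcard : Nat.card (nrm σ r).range = Nat.card D.ker := by
    rw [hker] at hcardN
    have hpos : 0 < Nat.card D.range := Nat.card_pos
    have : Nat.card D.range * Nat.card (nrm σ r).range = Nat.card D.range * Nat.card D.ker := by
      rw [← hcardN, hcardD, mul_comm]
    exact Nat.eq_of_mul_eq_mul_left hpos this
  have heq : (nrm σ r).range = D.ker := Subgroup.eq_of_le_of_card_ge hd (by rw [hcard])
  have : lam ∈ D.ker := by
    rw [MonoidHom.mem_ker, hDa, hlam, div_self']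
  rw [← heq] at this
  exact this

theorem scalar_mulVec (a : F) (w : Vn) : (Matrix.scalar (Fin n) a) *ᵥ w = a • w := by
  ext x
  rw [Matrix.scalar_apply, mulVec_diagonal]
  rfl

theorem exists_Tsl_ne_zero (hn : 0 < n) (σ : RingAut F) (g : GLn) : ∃ v : Vn, Tsl σ g v ≠ 0 := by
  have hw : (Pi.single ⟨0, hn⟩ 1 : Vn) ≠ 0 := single_one_ne_zero _
  refine ⟨sv σ⁻¹ (Pi.single ⟨0, hn⟩ 1), ?_⟩
  unfold Tsl
  rw [← sv_mul, mul_inv_cancel, sv_one]
  exact GL_mulVec_ne_zero g hw

/-- **Case A**: a field automorphism times an inner-diagonal one, of the same order, is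
conjugate to it under the inner-diagonal group. -/
theorem conj_field_of_pow_eq_one [Finite F] (hn : 2 ≤ n) (σ : RingAut F) (r : ℕ) (hr : 0 < r)
    (hord : orderOf σ = r) (g : GLn) (h : (cG g * fld σ) ^ r = 1) :
    ∃ k : GLn, cG g * fld σ = cG k * fld σ * (cG k)⁻¹ := by
  have hσ : σ ^ r = 1 := hord ▸ pow_orderOf_eq_one σ
  have hinj : ∀ i j, i < r → j < r → σ ^ i = σ ^ j → i = j := by
    intro i j hi hj e
    exact pow_injOn_Iio_orderOf (by rw [hord]; exact hi) (by rw [hord]; exact hj) e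
  rw [pow_cG_fld, hσ, map_one, mul_one] at h
  obtain ⟨lam, hlam⟩ := exists_scalar_of_cG_eq_one hn h
  have hfix : uA σ lam = lam := by
    obtain ⟨v, hv⟩ := exists_Tsl_ne_zero (by omega : 0 < n) σ g
    have hT : ∀ w, (Tsl σ g)^[r] w = (lam : F) • w := by
      intro w
      rw [Tsl_iterate, hlam, hσ, sv_one, Matrix.GeneralLinearGroup.coe_scalar, scalar_mulVec]
    have h1 : (Tsl σ g)^[r + 1] v = (lam : F) • Tsl σ g v := by
      rw [Function.iterate_succ_apply, hT]
    have h2 : (Tsl σ g)^[r + 1] v = σ (lam : F) • Tsl σ g v := by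
      rw [Function.iterate_succ_apply', hT, Tsl_smul]
    rw [h1] at h2
    have h3 : ((lam : F) - σ (lam : F)) • Tsl σ g v = 0 := by
      rw [sub_smul, h2, sub_self]
    rcases smul_eq_zero.mp h3 with h4 | h4
    · apply Units.ext
      rw [uA_coe]
      exact (sub_eq_zero.mp h4).symm
    · exact absurd h4 hv
  obtain ⟨μ, hμ⟩ := norm_surjective σ r hr hinj hσ lam hfix
  obtain ⟨g', hg'⟩ : ∃ g' : GLn, g' = Matrix.GeneralLinearGroup.scalar (Fin n) μ⁻¹ * g :=
    ⟨_, rfl⟩
  have hcg : cG g' = cG g := by rw [hg', map_mul, cG_scalar hn, one_mul]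
  have hN' : Nk σ g' r = 1 := by
    rw [hg', Nk_scalar_mul, hlam, map_inv, hμ, ← map_mul, inv_mul_cancel, map_one]
  obtain ⟨k, hk⟩ := exists_descent σ r hr hinj hσ g' hN'
  refine ⟨k, ?_⟩
  rw [← hcg]
  have : g' = k * (sG σ k)⁻¹ := by
    rw [eq_mul_inv_iff_mul_eq]
    exact hk
  rw [this]
  calc cG (k * (sG σ k)⁻¹) * fld σ = cG k * (cG (sG σ k⁻¹) * fld σ) := by
        rw [map_mul, ← map_inv (sG σ), mul_assoc]
    _ = cG k * (fld σ * cG k⁻¹) := by rw [fld_mul_cG]
    _ = cG k * fld σ * (cG k)⁻¹ := by rw [map_inv, mul_assoc]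

end Cfsg.Agent.Lib.Helper9.APSL
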