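import Mathlib
import Cfsg.Agent.Lib.Helper9.APSL22

set_option autoImplicit false

/-! Hermitian forms over finite fields have orthonormal bases. -/

namespace Cfsg.Agent.Lib.Helper9.APSL

open Matrix

variable {F : Type*} [Field F] {n : ℕ}

local notation "Mn" => Matrix (Fin n) (Fin n) F
local notation "SLn" => Matrix.SpecialLinearGroup (Fin n) F
local notation "PSLn" => Matrix.ProjectiveSpecialLinearGroup (Fin n) F
local notation "Vn" => (Fin n → F)
local notation "GLn" => GL (Fin n) F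

/-- conjugate transpose with respect to `σ` -/
def ct (σ : RingAut F) (A : Mn) : Mn := (A.map σ)ᵀ

theorem ct_apply (σ : RingAut F) (A : Mn) (i j : Fin n) : ct σ A i j = σ (A j i) := rfl

theorem ct_mul (σ : RingAut F) (A B : Mn) : ct σ (A * B) = ct σ B * ct σ A := by
  unfold ct
  rw [Matrix.map_mul, transpose_mul]

theorem ct_one (σ : RingAut F) : ct σ (1 : Mn) = 1 := by
  ext i j
  rw [ct_apply, one_apply, one_apply]
  split_ifs with h1 h2 h2
  · exact map_one σ
  · exact absurd h1.symm h2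
  · exact absurd h2.symm h1
  · exact map_zero σ

theorem ct_smul (σ : RingAut F) (c : F) (A : Mn) : ct σ (c • A) = σ c • ct σ A := by
  ext i j
  rw [ct_apply, Matrix.smul_apply, Matrix.smul_apply, ct_apply, smul_eq_mul, smul_eq_mul, map_mul]

theorem ct_ct (σ : RingAut F) (hσ2 : σ * σ = 1) (A : Mn) : ct σ (ct σ A) = A := by
  ext i j
  rw [ct_apply, ct_apply]
  have := DFunLike.congr_fun hσ2 (A i j)
  exact this

theorem sG_tI_inv_coe (σ : RingAut F) (g : GLn) :
    (((sG σ (tI g))⁻¹ : GLn) : Mn) = ct σ (g : Mn) := by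
  rw [← map_inv, sG_coe, tI_inv_coe]
  unfold ct
  rw [transpose_map]

/-- the sesquilinear form of a matrix -/
def hf (σ : RingAut F) (A : Mn) (v w : Vn) : F := sv σ v ⬝ᵥ (A *ᵥ w)

theorem hf_add_left (σ : RingAut F) (A : Mn) (v v' w : Vn) :
    hf σ A (v + v') w = hf σ A v w + hf σ A v' w := by
  unfold hf
  rw [sv_add, add_dotProduct]

theorem hf_add_right (σ : RingAut F) (A : Mn) (v w w' : Vn) :
    hf σ A v (w + w') = hf σ A v w + hf σ A v w' := by
  unfold hf
  rw [mulVec_add, dotProduct_add]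

theorem hf_smul_left (σ : RingAut F) (A : Mn) (c : F) (v w : Vn) :
    hf σ A (c • v) w = σ c * hf σ A v w := by
  unfold hf
  rw [sv_smul, smul_dotProduct, smul_eq_mul]

theorem hf_smul_right (σ : RingAut F) (A : Mn) (c : F) (v w : Vn) :
    hf σ A v (c • w) = c * hf σ A v w := by
  unfold hf
  rw [mulVec_smul, dotProduct_smul, smul_eq_mul]

theorem hf_zero_right (σ : RingAut F) (A : Mn) (v : Vn) : hf σ A v 0 = 0 := by
  unfold hf
  rw [mulVec_zero, dotProduct_zero]

theorem hf_neg_right (σ : RingAut F) (A : Mn) (v w : Vn) : hf σ A v (-w) = - hf σ A v w := by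
  unfold hf
  rw [mulVec_neg, dotProduct_neg]

theorem hf_sub_right (σ : RingAut F) (A : Mn) (v w w' : Vn) :
    hf σ A v (w - w') = hf σ A v w - hf σ A v w' := by
  rw [sub_eq_add_neg, hf_add_right, hf_neg_right, ← sub_eq_add_neg]

theorem hf_sum_right (σ : RingAut F) (A : Mn) (v : Vn) {ι : Type*} (s : Finset ι) (f : ι → Vn) :
    hf σ A v (∑ i ∈ s, f i) = ∑ i ∈ s, hf σ A v (f i) := by
  classical
  induction s using Finset.induction_on with
  | empty => simp [hf_zero_right]
  | insert a s ha ih => rw [Finset.sum_insert ha, Finset.sum_insert ha, hf_add_right, ih]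

theorem hf_conj (σ : RingAut F) (hσ2 : σ * σ = 1) (A : Mn) (hA : ct σ A = A) (v w : Vn) :
    σ (hf σ A v w) = hf σ A w v := by
  have h1 : ∀ i j, σ (A i j) = A j i := by
    intro i j
    rw [← ct_apply, hA]
  have h2 : ∀ c : F, σ (σ c) = c := fun c => DFunLike.congr_fun hσ2 c
  unfold hf
  simp only [sv, dotProduct, mulVec, map_sum, map_mul, h1, h2, Finset.mul_sum]
  rw [Finset.sum_comm]
  apply Finset.sum_congr rfl
  intro i _
  apply Finset.sum_congr rfl
  intro j _
  ring

theorem hf_nondeg (σ : RingAut F) (g : GLn) (v : Vn) (h : ∀ w, hf σ (g : Mn) v w = 0) :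
    v = 0 := by
  by_contra hv
  have hv' : sv σ v ≠ 0 := by
    intro h0
    apply hv
    ext i
    have := congrFun h0 i
    exact (map_eq_zero σ).mp this
  have h1 := GL_vecMul_ne_zero g hv'
  apply h1
  ext j
  have := h (Pi.single j 1)
  unfold hf at this
  rw [dotProduct_mulVec, dotProduct_single_one] at this
  exact this

theorem hf_matrix (σ : RingAut F) (A B : Mn) (i j : Fin n) :
    (ct σ B * A * B) i j = hf σ A (B.col i) (B.col j) := by
  unfold hf
  simp only [Matrix.mul_apply, ct_apply, sv, dotProduct, mulVec, Matrix.col_apply,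
    Finset.sum_mul, Finset.mul_sum]
  rw [Finset.sum_comm]
  apply Finset.sum_congr rfl
  intro k _
  apply Finset.sum_congr rfl
  intro l _
  ring

/-- polarisation: a nonzero Hermitian form on a subspace has an anisotropic vector there -/
theorem exists_aniso (σ : RingAut F) (hσ2 : σ * σ = 1) (hσ1 : σ ≠ 1) (A : Mn)
    (hA : ct σ A = A) (S : Submodule F Vn) (u w : Vn) (hu : u ∈ S) (hw : w ∈ S)
    (huw : hf σ A u w ≠ 0) : ∃ z ∈ S, hf σ A z z ≠ 0 := by
  by_contra hall
  push Not at hall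
  have h1 : ∀ c : F, c * hf σ A u w + σ (c * hf σ A u w) = 0 := by
    intro c
    have hz := hall (u + c • w) (S.add_mem hu (S.smul_mem c hw))
    rw [hf_add_left, hf_add_right, hf_add_right, hall u hu, hf_smul_right, hf_smul_left,
      hf_smul_left, hf_smul_right, hall w hw, mul_zero, mul_zero, add_zero, zero_add,
      ← hf_conj σ hσ2 A hA u w, ← map_mul] at hz
    exact hz
  have h2 : ∀ d : F, d + σ d = 0 := by
    intro d
    have := h1 (d / hf σ A u w)
    rwa [div_mul_cancel₀ _ huw] at this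
  have h3 : (1 : F) + 1 = 0 := by
    have := h2 1
    rwa [map_one] at this
  apply hσ1
  apply RingEquiv.ext
  intro d
  have h4 : d + d = 0 := by
    have : d + d = d * (1 + 1) := by ring
    rw [this, h3, mul_zero]
  have h5 := h2 d
  have : σ d = d := by
    have : σ d - d = 0 := by
      have : σ d - d = (d + σ d) - (d + d) := by ring
      rw [this, h5, h4, sub_zero]
    exact sub_eq_zero.mp this
  exact this

theorem hinj_two (σ : RingAut F) (hσ1 : σ ≠ 1) :
    ∀ i j, i < 2 → j < 2 → σ ^ i = σ ^ j → i = j := by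
  intro i j hi hj e
  interval_cases i <;> interval_cases j
  · rfl
  · rw [pow_zero, pow_one] at e
    exact absurd e.symm hσ1
  · rw [pow_zero, pow_one] at e
    exact absurd e hσ1
  · rfl

theorem nrm_two (σ : RingAut F) (u : Fˣ) : nrm σ 2 u = u * uA σ u := by
  rw [nrm_succ, nrm_succ, nrm_zero, map_one, mul_one]

section finite

variable [Finite F]

theorem exists_unit_norm (σ : RingAut F) (hσ2 : σ * σ = 1) (hσ1 : σ ≠ 1) (A : Mn)
    (hA : ct σ A = A) (S : Submodule F Vn) (z : Vn) (hz : z ∈ S) (hzz : hf σ A z z ≠ 0) :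
    ∃ z' ∈ S, hf σ A z' z' = 1 := by
  have hfix : σ (hf σ A z z) = hf σ A z z := hf_conj σ hσ2 A hA z z
  obtain ⟨lam, hlam⟩ : ∃ lam : Fˣ, (lam : F) = hf σ A z z := ⟨Units.mk0 _ hzz, rfl⟩
  have hlam' : uA σ lam = lam := by
    apply Units.ext
    rw [uA_coe, hlam, hfix]
  have hσ : σ ^ 2 = 1 := by rw [pow_two, hσ2]
  obtain ⟨μ, hμ⟩ := norm_surjective σ 2 (by norm_num) (hinj_two σ hσ1) hσ lam hlam'
  rw [nrm_two] at hμ
  have hμ' : (μ : F) * σ (μ : F) = hf σ A z z := by
    rw [← hlam, ← hμ, Units.val_mul, uA_coe]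
  refine ⟨(μ : F)⁻¹ • z, S.smul_mem _ hz, ?_⟩
  rw [hf_smul_left, hf_smul_right, ← hμ', map_inv₀]
  have h1 : (μ : F) ≠ 0 := μ.ne_zero
  have h2 : σ (μ : F) ≠ 0 := (map_ne_zero σ).mpr h1
  field_simp

/-- extending an orthonormal family by one vector -/
theorem exists_next (σ : RingAut F) (hσ2 : σ * σ = 1) (hσ1 : σ ≠ 1) (g : GLn)
    (hA : ct σ (g : Mn) = g) (k : ℕ) (hk : k < n) (v : ℕ → Vn)
    (hv : ∀ i j, i < k → j < k → hf σ (g : Mn) (v i) (v j) = if i = j then 1 else 0) :
    ∃ z : Vn, hf σ (g : Mn) z z = 1 ∧ ∀ i, i < k → hf σ (g : Mn) (v i) z = 0 := by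
  classical
  obtain ⟨S, hS⟩ : ∃ S : Submodule F Vn, ∀ w, w ∈ S ↔ ∀ i, i < k → hf σ (g : Mn) (v i) w = 0 :=
    ⟨{ carrier := {w | ∀ i, i < k → hf σ (g : Mn) (v i) w = 0}
       add_mem' := by
         intro a b ha hb i hi
         rw [hf_add_right, ha i hi, hb i hi, add_zero]
       zero_mem' := by
         intro i _
         exact hf_zero_right _ _ _
       smul_mem' := by
         intro c a ha i hi
         rw [hf_smul_right, ha i hi, mul_zero] }, fun w => Iff.rfl⟩
  obtain ⟨π, hπ⟩ : ∃ π : Vn → Vn,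
      ∀ y, π y = y - ∑ i ∈ Finset.range k, hf σ (g : Mn) (v i) y • v i := ⟨_, fun _ => rfl⟩
  have hπS : ∀ y, π y ∈ S := by
    intro y
    rw [hS]
    intro j hj
    rw [hπ, hf_sub_right, hf_sum_right]
    have : ∑ i ∈ Finset.range k, hf σ (g : Mn) (v j) (hf σ (g : Mn) (v i) y • v i)
        = ∑ i ∈ Finset.range k, if j = i then hf σ (g : Mn) (v i) y else 0 := by
      apply Finset.sum_congr rfl
      intro i hi
      rw [hf_smul_right, hv j i hj (Finset.mem_range.mp hi)]
      split_ifs <;> simp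
    rw [this, Finset.sum_ite_eq, if_pos (Finset.mem_range.mpr hj), sub_self]
  -- a vector outside the span
  obtain ⟨W, hW⟩ : ∃ W : Submodule F Vn, W = Submodule.span F (Set.range (fun i : Fin k => v i)) :=
    ⟨_, rfl⟩
  have hWtop : W ≠ ⊤ := by
    intro htop
    have h1 : Module.finrank F W ≤ k := by
      rw [hW]
      have := finrank_range_le_card (R := F) (fun i : Fin k => v i)
      rwa [Fintype.card_fin] at this
    rw [htop, finrank_top, Module.finrank_fin_fun] at h1
    omega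
  obtain ⟨y, hy⟩ : ∃ y, y ∉ W := by
    by_contra hall
    push Not at hall
    exact hWtop (eq_top_iff.mpr fun y _ => hall y)
  have hu0 : π y ≠ 0 := by
    intro h0
    apply hy
    rw [hπ, sub_eq_zero] at h0
    rw [h0, hW]
    apply Submodule.sum_mem
    intro i hi
    apply Submodule.smul_mem
    apply Submodule.subset_span
    exact ⟨⟨i, Finset.mem_range.mp hi⟩, rfl⟩
  obtain ⟨w, hw⟩ : ∃ w, hf σ (g : Mn) (π y) w ≠ 0 := by
    by_contra hall
    push Not at hall
    exact hu0 (hf_nondeg σ g _ hall)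
  have huv : ∀ i, i < k → hf σ (g : Mn) (π y) (v i) = 0 := by
    intro i hi
    rw [← hf_conj σ hσ2 _ hA, (hS _).mp (hπS y) i hi, map_zero]
  have hw' : hf σ (g : Mn) (π y) (π w) ≠ 0 := by
    rw [hπ w, hf_sub_right, hf_sum_right]
    have : ∑ i ∈ Finset.range k, hf σ (g : Mn) (π y) (hf σ (g : Mn) (v i) w • v i) = 0 := by
      apply Finset.sum_eq_zero
      intro i hi
      rw [hf_smul_right, huv i (Finset.mem_range.mp hi), mul_zero]
    rw [this, sub_zero]
    exact hw
  obtain ⟨z, hzS, hzz⟩ := exists_aniso σ hσ2 hσ1 _ hA S _ _ (hπS y) (hπS w) hw'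
  obtain ⟨z', hz'S, hz'⟩ := exists_unit_norm σ hσ2 hσ1 _ hA S z hzS hzz
  exact ⟨z', hz', (hS z').mp hz'S⟩

theorem exists_orthonormal (σ : RingAut F) (hσ2 : σ * σ = 1) (hσ1 : σ ≠ 1) (g : GLn)
    (hA : ct σ (g : Mn) = g) : ∀ k, k ≤ n → ∃ v : ℕ → Vn,
      ∀ i j, i < k → j < k → hf σ (g : Mn) (v i) (v j) = if i = j then 1 else 0 := by
  intro k
  induction k with
  | zero =>
    intro _
    exact ⟨fun _ => 0, fun i j hi => absurd hi (Nat.not_lt_zero _)⟩
  | succ k ih =>
    intro hk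
    obtain ⟨v, hv⟩ := ih (by omega)
    obtain ⟨z, hz1, hz0⟩ := exists_next σ hσ2 hσ1 g hA k (by omega) v hv
    refine ⟨Function.update v k z, ?_⟩
    intro i j hi hj
    rcases Nat.lt_succ_iff_lt_or_eq.mp hi with hi' | rfl
    · rcases Nat.lt_succ_iff_lt_or_eq.mp hj with hj' | rfl
      · rw [Function.update_of_ne (by omega), Function.update_of_ne (by omega)]
        exact hv i j hi' hj'
      · rw [Function.update_of_ne (by omega), Function.update_self, if_neg (by omega)]
        exact hz0 i hi'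
    · rcases Nat.lt_succ_iff_lt_or_eq.mp hj with hj' | rfl
      · rw [Function.update_self, Function.update_of_ne (by omega), if_neg (by omega),
          ← hf_conj σ hσ2 _ hA, hz0 j hj', map_zero]
      · rw [Function.update_self, if_pos rfl]
        exact hz1

/-- a nondegenerate Hermitian matrix over a finite field is `h h^*` -/
theorem exists_hermitian_sqrt (σ : RingAut F) (hσ2 : σ * σ = 1) (hσ1 : σ ≠ 1) (g : GLn)
    (hg : ct σ (g : Mn) = g) : ∃ h : GLn, (h : Mn) * ct σ (h : Mn) = g := by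
  have hX : ct σ ((g⁻¹ : GLn) : Mn) = ((g⁻¹ : GLn) : Mn) := by
    have h1 : ct σ ((g⁻¹ : GLn) : Mn) * (g : Mn) = 1 := by
      calc ct σ ((g⁻¹ : GLn) : Mn) * (g : Mn) = ct σ ((g⁻¹ : GLn) : Mn) * ct σ (g : Mn) := by
            rw [hg]
        _ = 1 := by rw [← ct_mul, ← Units.val_mul, mul_inv_cancel, Units.val_one, ct_one]
    calc ct σ ((g⁻¹ : GLn) : Mn) = ct σ ((g⁻¹ : GLn) : Mn) * ((g : Mn) * ((g⁻¹ : GLn) : Mn)) := by
          rw [← Units.val_mul, mul_inv_cancel, Units.val_one, mul_one]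
      _ = ((g⁻¹ : GLn) : Mn) := by rw [← mul_assoc, h1, one_mul]
  obtain ⟨v, hv⟩ := exists_orthonormal σ hσ2 hσ1 g⁻¹ hX n (le_refl n)
  obtain ⟨B, hB⟩ : ∃ B : Mn, B = Matrix.of (fun (i : Fin n) (j : Fin n) => v (j : ℕ) i) := ⟨_, rfl⟩
  have hcol : ∀ j : Fin n, B.col j = v j := by
    intro j
    funext i
    rw [hB]
    rfl
  have h1 : ct σ B * ((g⁻¹ : GLn) : Mn) * B = 1 := by
    ext i j
    rw [hf_matrix, hcol, hcol, hv i j i.2 j.2, one_apply]
    simp only [Fin.ext_iff]
  have h2 : B * (ct σ B * ((g⁻¹ : GLn) : Mn)) = 1 := by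
    rw [_root_.mul_eq_one_comm]
    exact h1
  refine ⟨⟨B, ct σ B * ((g⁻¹ : GLn) : Mn), h2, h1⟩, ?_⟩
  show B * ct σ B = g
  calc B * ct σ B = B * ct σ B * (((g⁻¹ : GLn) : Mn) * (g : Mn)) := by
        rw [← Units.val_mul, inv_mul_cancel, Units.val_one, mul_one]
    _ = (B * (ct σ B * ((g⁻¹ : GLn) : Mn))) * (g : Mn) := by simp only [mul_assoc]
    _ = g := by rw [h2, one_mul]

end finite

end Cfsg.Agent.Lib.Helper9.APSL
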