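import Mathlib
import Cfsg.Agent.Lib.Helper9.APSL23

set_option autoImplicit false

/-! Field and graph-field automorphisms of `PSL_n(F)`: conjugacy under the inner-diagonal group. -/

namespace Cfsg.Agent.Lib.Helper9.APSL

open Matrix

variable {F : Type*} [Field F] {n : ℕ}

local notation "Mn" => Matrix (Fin n) (Fin n) F
local notation "SLn" => Matrix.SpecialLinearGroup (Fin n) F
local notation "PSLn" => Matrix.ProjectiveSpecialLinearGroup (Fin n) F
local notation "Vn" => (Fin n → F)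
local notation "GLn" => GL (Fin n) F

theorem psi_mul_cG (σ : RingAut F) (g : GLn) :
    (fld σ * gam) * cG g = cG (sG σ (tI g)) * (fld σ * gam) := by
  calc (fld σ * gam) * cG g = fld σ * (gam * cG g) := by rw [mul_assoc]
    _ = fld σ * (cG (tI g) * gam) := by rw [gam_mul_cG]
    _ = (fld σ * cG (tI g)) * gam := by rw [mul_assoc]
    _ = (cG (sG σ (tI g)) * fld σ) * gam := by rw [fld_mul_cG]
    _ = _ := by rw [mul_assoc]

theorem psi_sq (σ : RingAut F) :
    (fld (n := n) σ * gam) * (fld σ * gam) = fld (σ * σ) := by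
  calc (fld (n := n) σ * gam) * (fld σ * gam) = fld σ * (gam * fld σ) * gam := by
        simp only [mul_assoc]
    _ = fld σ * (fld σ * gam) * gam := by rw [gam_mul_fld]
    _ = fld σ * fld σ * (gam * gam) := by simp only [mul_assoc]
    _ = fld (σ * σ) := by rw [gam_mul_gam, mul_one, map_mul]

theorem cG_psi_sq (σ : RingAut F) (g : GLn) :
    (cG g * (fld σ * gam)) ^ 2 = cG (g * sG σ (tI g)) * fld (σ * σ) := by
  rw [pow_two]
  calc cG g * (fld σ * gam) * (cG g * (fld σ * gam))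
      = cG g * ((fld σ * gam) * cG g) * (fld σ * gam) := by simp only [mul_assoc]
    _ = cG g * (cG (sG σ (tI g)) * (fld σ * gam)) * (fld σ * gam) := by rw [psi_mul_cG]
    _ = cG g * cG (sG σ (tI g)) * ((fld σ * gam) * (fld σ * gam)) := by simp only [mul_assoc]
    _ = _ := by rw [psi_sq, MonoidHom.map_mul cG]

theorem scalar_mul_eq_smul (a : F) (M : Mn) : Matrix.scalar (Fin n) a * M = a • M := by
  rw [Matrix.scalar_apply, ← Matrix.smul_eq_diagonal_mul]

/-- **Case B**: a graph-field involution times an inner-diagonal automorphism, again an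
involution, is conjugate to it under the inner-diagonal group. -/
theorem conj_graphfield_of_sq_eq_one [Finite F] (hn : 2 ≤ n) (σ : RingAut F) (hσ1 : σ ≠ 1)
    (hσ2 : σ * σ = 1) (g : GLn) (h : (cG g * (fld σ * gam)) ^ 2 = 1) :
    ∃ k : GLn, cG g * (fld σ * gam) = cG k * (fld σ * gam) * (cG k)⁻¹ := by
  rw [cG_psi_sq, hσ2, map_one, mul_one] at h
  obtain ⟨lam, hlam⟩ := exists_scalar_of_cG_eq_one hn h
  have hg0 : g = Matrix.GeneralLinearGroup.scalar (Fin n) lam * (sG σ (tI g))⁻¹ := by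
    rw [← hlam, mul_inv_cancel_right]
  have hg1 : (g : Mn) = (lam : F) • ct σ (g : Mn) := by
    have := congrArg Units.val hg0
    rw [Units.val_mul, sG_tI_inv_coe, Matrix.GeneralLinearGroup.coe_scalar,
      scalar_mul_eq_smul] at this
    exact this
  have hg2 : ct σ (g : Mn) = σ (lam : F) • (g : Mn) := by
    have := congrArg (ct σ) hg1
    rw [ct_smul, ct_ct σ hσ2] at this
    exact this
  have hlam1 : (lam : F) * σ (lam : F) = 1 := by
    have h3 : (g : Mn) = ((lam : F) * σ (lam : F)) • (g : Mn) := by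
      conv_lhs => rw [hg1, hg2, smul_smul]
    have hw : (Pi.single ⟨0, by omega⟩ 1 : Vn) ≠ 0 := single_one_ne_zero _
    have h4 := GL_mulVec_ne_zero g hw
    have h5 : (1 - (lam : F) * σ (lam : F)) • ((g : Mn) *ᵥ (Pi.single ⟨0, by omega⟩ 1 : Vn)) = 0 := by
      rw [sub_smul, one_smul, ← smul_mulVec, ← h3, sub_self]
    rcases smul_eq_zero.mp h5 with h6 | h6
    · exact (sub_eq_zero.mp h6).symm
    · exact absurd h6 h4
  have hσ : σ ^ 2 = 1 := by rw [pow_two, hσ2]
  have hnrm : nrm σ 2 lam = 1 := by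
    rw [nrm_two]
    apply Units.ext
    rw [Units.val_mul, uA_coe, hlam1, Units.val_one]
  obtain ⟨ν, hν⟩ := exists_field_h90 σ 2 (by norm_num) (hinj_two σ hσ1) hσ lam hnrm
  have hν' : (lam : F) * σ (ν : F) = ν := by
    have := congrArg Units.val hν
    rwa [Units.val_mul, uA_coe] at this
  obtain ⟨g', hg'⟩ : ∃ g' : GLn, g' = Matrix.GeneralLinearGroup.scalar (Fin n) ν⁻¹ * g :=
    ⟨_, rfl⟩
  have hcg : cG g' = cG g := by rw [hg', map_mul, cG_scalar hn, one_mul]
  have hg'c : (g' : Mn) = ((ν : F)⁻¹) • (g : Mn) := by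
    rw [hg', Units.val_mul, Matrix.GeneralLinearGroup.coe_scalar, scalar_mul_eq_smul,
      Units.val_inv_eq_inv_val]
  have hherm : ct σ (g' : Mn) = g' := by
    rw [hg'c, ct_smul, hg2, smul_smul]
    congr 1
    have h1 : (ν : F) ≠ 0 := ν.ne_zero
    have h2 : σ (ν : F) ≠ 0 := (map_ne_zero σ).mpr h1
    have h3 : (lam : F) ≠ 0 := lam.ne_zero
    have h4 : σ (lam : F) = (lam : F)⁻¹ := eq_inv_of_mul_eq_one_right hlam1
    rw [map_inv₀, h4, ← mul_inv, mul_comm (σ (ν : F)) (lam : F), hν']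
  obtain ⟨k, hk⟩ := exists_hermitian_sqrt σ hσ2 hσ1 g' hherm
  refine ⟨k, ?_⟩
  rw [← hcg]
  have hk' : g' = k * (sG σ (tI k))⁻¹ := by
    apply Units.ext
    rw [Units.val_mul, sG_tI_inv_coe, hk]
  rw [hk']
  calc cG (k * (sG σ (tI k))⁻¹) * (fld σ * gam) = cG k * (cG (sG σ (tI k⁻¹)) * (fld σ * gam)) := by
        rw [map_mul, ← map_inv (sG σ), ← map_inv tI, mul_assoc]
    _ = cG k * ((fld σ * gam) * cG k⁻¹) := by rw [psi_mul_cG]
    _ = cG k * (fld σ * gam) * (cG k)⁻¹ := by rw [map_inv]; simp only [mul_assoc]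

end Cfsg.Agent.Lib.Helper9.APSL
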