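import Mathlib
import Cfsg.Agent.Lib.Helper9.APSL24

set_option autoImplicit false

/-! Field and graph-field automorphisms of `PSL_n(F)` of prime order: the main theorem. -/

namespace Cfsg.Agent.Lib.Helper9.APSL

open Matrix

variable {F : Type*} [Field F] {n : ℕ}

local notation "Mn" => Matrix (Fin n) (Fin n) F
local notation "SLn" => Matrix.SpecialLinearGroup (Fin n) F
local notation "PSLn" => Matrix.ProjectiveSpecialLinearGroup (Fin n) F
local notation "Vn" => (Fin n → F)
local notation "GLn" => GL (Fin n) F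

theorem orderOf_conj' {G : Type*} [Group G] (a x : G) : orderOf (a * x * a⁻¹) = orderOf x := by
  have h : SemiconjBy a x (a * x * a⁻¹) := by
    unfold SemiconjBy
    group
  exact (h.orderOf_eq a).symm

theorem epsHom_fld [Finite F] (p : ℕ) [Fact p.Prime] [CharP F p] (hn : 3 ≤ n) (σ : RingAut F) :
    epsHom p hn (fld σ) = 1 := epsHom_of_pp p hn (pp_field p hn σ)

theorem epsHom_gam [Finite F] (p : ℕ) [Fact p.Prime] [CharP F p] (hn : 3 ≤ n) :
    epsHom (F := F) p hn gam = Multiplicative.ofAdd 1 := epsHom_of_ph p hn ph_invT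

theorem epsHom_cG [Finite F] (p : ℕ) [Fact p.Prime] [CharP F p] (hn : 3 ≤ n) (g : GLn) :
    epsHom p hn (cG g) = 1 := epsHom_of_pp p hn (pp_conj g)

/-- a graph-field automorphism of prime order has order two, and the field part is an involution -/
theorem graphfield_prime_order [Finite F] (p : ℕ) [Fact p.Prime] [CharP F p] (hn : 3 ≤ n)
    (σ : RingAut F) {r : ℕ} (hr : r.Prime) (h : orderOf (fld (n := n) σ * gam) = r) :
    r = 2 ∧ σ * σ = 1 := by
  have h1 : (fld (n := n) σ * gam) ^ r = 1 := by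
    rw [← h]
    exact pow_orderOf_eq_one _
  have h2 : (epsHom p hn (fld σ * gam)) ^ r = 1 := by rw [← map_pow, h1, map_one]
  rw [map_mul, epsHom_fld, epsHom_gam, one_mul] at h2
  have h2' : ((r : ℕ) : ZMod 2) = 0 := by
    have := congrArg Multiplicative.toAdd h2
    simpa using this
  have h3 : 2 ∣ r := (ZMod.natCast_eq_zero_iff r 2).mp h2'
  have hr2 : r = 2 := ((Nat.prime_dvd_prime_iff_eq Nat.prime_two hr).mp h3).symm
  refine ⟨hr2, ?_⟩
  rw [hr2, pow_two, psi_sq] at h1
  apply fld_injective p (by omega : 2 ≤ n)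
  rw [h1, map_one]

/-- **the main theorem**: for `x` a field or graph-field automorphism of prime order `r` and `δ`
inner-diagonal, `δ x` has order `r` iff it is conjugate to `x` under the inner-diagonal group -/
theorem field_or_graphfield_conj [Fintype F] (p f : ℕ) [Fact p.Prime]
    (hF : Fintype.card F = p ^ f) (hn : 2 ≤ n) (x δ : MulAut PSLn)
    (hx : Cfsg.IsFieldAutClassPSL x ∨ Cfsg.IsGraphFieldAutClassPSL x) {r : ℕ} (hr : r.Prime)
    (hxr : orderOf x = r) (hδ : δ ∈ Cfsg.inndiagPSL n F) :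
    orderOf (δ * x) = r ↔ Cfsg.IsConjUnder (Cfsg.inndiagPSL n F) x (δ * x) := by
  haveI : CharP F p := charP_of_card p f hF
  rw [inndiagPSL_eq] at hδ ⊢
  haveI hD := cG_range_normal (F := F) (n := n) p hn
  constructor
  · intro hord
    have hpow : (δ * x) ^ r = 1 := by
      rw [← hord]
      exact pow_orderOf_eq_one _
    rcases hx with ⟨α, σ, hσ, hstd⟩ | ⟨hn3, α, φ, γ, σ, hσ, hφ, hγ, e⟩
    · have e1 : α * x * α⁻¹ = fld σ := eq_fld_of_stdField hstd
      apply conjUnder_of_conj _ α
      obtain ⟨g, hg⟩ := hD.conj_mem δ hδ α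
      have e2 : α * (δ * x) * α⁻¹ = cG g * fld σ := by
        rw [hg, ← e1]
        group
      rw [e1, e2]
      have hordσ : orderOf (σ : RingAut F) = r := by
        rw [← hxr, ← orderOf_injective fld (fld_injective p hn) σ, ← e1, orderOf_conj']
      have hpow' : (cG g * fld σ) ^ r = 1 := by
        rw [← e2, conj_pow, hpow, mul_one, mul_inv_cancel]
      obtain ⟨k, hk⟩ := conj_field_of_pow_eq_one hn σ r hr.pos hordσ g hpow'
      exact ⟨cG k, ⟨k, rfl⟩, hk⟩
    · have e1 : α * x * α⁻¹ = fld σ * gam := by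
        rw [e, eq_fld_of_stdField hφ, eq_gam_of_inverseTranspose hγ]
        rfl
      apply conjUnder_of_conj _ α
      obtain ⟨g, hg⟩ := hD.conj_mem δ hδ α
      have e2 : α * (δ * x) * α⁻¹ = cG g * (fld σ * gam) := by
        rw [hg, ← e1]
        group
      rw [e1, e2]
      have hord' : orderOf (fld (n := n) σ * gam) = r := by
        rw [← hxr, ← e1, orderOf_conj']
      obtain ⟨hr2, hσ2⟩ := graphfield_prime_order p hn3 σ hr hord'
      have hpow' : (cG g * (fld σ * gam)) ^ 2 = 1 := by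
        rw [← e2, conj_pow, ← hr2, hpow, mul_one, mul_inv_cancel]
      obtain ⟨k, hk⟩ := conj_graphfield_of_sq_eq_one hn σ hσ hσ2 g hpow'
      exact ⟨cG k, ⟨k, rfl⟩, hk⟩
  · rintro ⟨k, _, e⟩
    rw [e, orderOf_conj', hxr]

end Cfsg.Agent.Lib.Helper9.APSL
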