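import Mathlib
import Cfsg.Agent.Lib.Helper9.APSL25

set_option autoImplicit false

/-! General lemmas on centralisers and on the splitting of conjugacy classes. -/

namespace Cfsg.Agent.Lib.Helper9.APSL

section general

variable {X : Type*} [Group X]

theorem mem_cent_single {g x : X} : g ∈ Subgroup.centralizer {x} ↔ x * g = g * x := by
  rw [Subgroup.mem_centralizer_iff]
  simp

/-- conjugation by `α` carries `D ⊓ C(x)` to `D ⊓ C(α x α⁻¹)` -/
def centInfConjEquiv (D : Subgroup X) [hD : D.Normal] (α x : X) :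
    ↥(D ⊓ Subgroup.centralizer {x}) ≃* ↥(D ⊓ Subgroup.centralizer {α * x * α⁻¹}) where
  toFun d := ⟨α * d.1 * α⁻¹, ⟨hD.conj_mem _ d.2.1 α, by
    have h := mem_cent_single.mp d.2.2
    refine mem_cent_single.mpr ?_
    calc α * x * α⁻¹ * (α * d.1 * α⁻¹) = α * (x * d.1) * α⁻¹ := by group
      _ = α * (d.1 * x) * α⁻¹ := by rw [h]
      _ = α * d.1 * α⁻¹ * (α * x * α⁻¹) := by group⟩⟩
  invFun e := ⟨α⁻¹ * e.1 * α, ⟨by
    have := hD.conj_mem _ e.2.1 α⁻¹
    rwa [inv_inv] at this, by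
    have h := mem_cent_single.mp e.2.2
    refine mem_cent_single.mpr ?_
    calc x * (α⁻¹ * e.1 * α) = α⁻¹ * (α * x * α⁻¹ * e.1) * α := by group
      _ = α⁻¹ * (e.1 * (α * x * α⁻¹)) * α := by rw [h]
      _ = α⁻¹ * e.1 * α * x := by group⟩⟩
  left_inv d := by
    apply Subtype.ext
    show α⁻¹ * (α * d.1 * α⁻¹) * α = d.1
    group
  right_inv e := by
    apply Subtype.ext
    show α * (α⁻¹ * e.1 * α) * α⁻¹ = e.1
    group
  map_mul' d₁ d₂ := by
    apply Subtype.ext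
    show α * (d₁.1 * d₂.1) * α⁻¹ = (α * d₁.1 * α⁻¹) * (α * d₂.1 * α⁻¹)
    group

/-- the number of classes into which a class splits is invariant under conjugation -/
theorem splitClassCount_conj (H K : Subgroup X) [hH : H.Normal] [hK : K.Normal] (α x : X) :
    Cfsg.splitClassCount H K (α * x * α⁻¹) = Cfsg.splitClassCount H K x := by
  unfold Cfsg.splitClassCount
  apply Nat.card_congr
  symm
  refine Quot.congr
    { toFun := fun y => ⟨α * y.1 * α⁻¹, ?_⟩
      invFun := fun z => ⟨α⁻¹ * z.1 * α, ?_⟩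
      left_inv := ?_
      right_inv := ?_ } ?_
  · obtain ⟨h, hh, e⟩ := y.2
    refine ⟨α * h * α⁻¹, hH.conj_mem _ hh α, ?_⟩
    rw [e]
    group
  · obtain ⟨h, hh, e⟩ := z.2
    refine ⟨α⁻¹ * h * α, ?_, ?_⟩
    · have := hH.conj_mem _ hh α⁻¹
      rwa [inv_inv] at this
    · rw [e]
      group
  · intro y
    apply Subtype.ext
    show α⁻¹ * (α * y.1 * α⁻¹) * α = y.1
    group
  · intro z
    apply Subtype.ext
    show α * (α⁻¹ * z.1 * α) * α⁻¹ = z.1
    group
  · intro y z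
    show Cfsg.IsConjUnder K y.1 z.1 ↔ Cfsg.IsConjUnder K (α * y.1 * α⁻¹) (α * z.1 * α⁻¹)
    constructor
    · rintro ⟨k, hk, e⟩
      refine ⟨α * k * α⁻¹, hK.conj_mem _ hk α, ?_⟩
      rw [e]
      group
    · rintro ⟨k, hk, e⟩
      refine ⟨α⁻¹ * k * α, ?_, ?_⟩
      · have := hK.conj_mem _ hk α⁻¹
        rwa [inv_inv] at this
      · calc z.1 = α⁻¹ * (α * z.1 * α⁻¹) * α := by group
          _ = α⁻¹ * (k * (α * y.1 * α⁻¹) * k⁻¹) * α := by rw [e]
          _ = α⁻¹ * k * α * y.1 * (α⁻¹ * k * α)⁻¹ := by group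

/-- the number of `K`-classes in the class of `x` under the image of `φ`, as an index -/
theorem splitClassCount_range {A : Type*} [Group A] (φ : A →* X) (K : Subgroup X)
    [hK : K.Normal] (x : X) :
    Cfsg.splitClassCount φ.range K x
      = ((Subgroup.centralizer {x} ⊔ K).comap φ).index := by
  obtain ⟨P, hP⟩ : ∃ P : Subgroup A, P = (Subgroup.centralizer {x} ⊔ K).comap φ := ⟨_, rfl⟩
  rw [← hP]
  obtain ⟨o, ho⟩ : ∃ o : A → {y : X // Cfsg.IsConjUnder φ.range x y},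
      ∀ a, (o a).1 = φ a * x * (φ a)⁻¹ :=
    ⟨fun a => ⟨φ a * x * (φ a)⁻¹, φ a, ⟨a, rfl⟩, rfl⟩, fun _ => rfl⟩
  have hkey : ∀ a b : A, Cfsg.IsConjUnder K (o a).1 (o b).1 ↔ a⁻¹ * b ∈ P := by
    intro a b
    rw [hP, Subgroup.mem_comap, Subgroup.mem_sup_of_normal_right, ho, ho, map_mul, map_inv]
    constructor
    · rintro ⟨k, hk, e⟩
      refine ⟨(φ a)⁻¹ * k⁻¹ * φ b, ?_, (φ b)⁻¹ * k * φ b, ?_, by group⟩
      · rw [mem_cent_single]
        symm
        calc (φ a)⁻¹ * k⁻¹ * φ b * x = (φ a)⁻¹ * k⁻¹ * (φ b * x * (φ b)⁻¹) * φ b := by group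
          _ = (φ a)⁻¹ * k⁻¹ * (k * (φ a * x * (φ a)⁻¹) * k⁻¹) * φ b := by rw [e]
          _ = x * ((φ a)⁻¹ * k⁻¹ * φ b) := by group
      · have := hK.conj_mem _ hk (φ b)⁻¹
        rwa [inv_inv] at this
    · rintro ⟨c, hc, k, hk, e⟩
      rw [mem_cent_single] at hc
      refine ⟨φ a * (c * k * c⁻¹) * (φ a)⁻¹, hK.conj_mem _ (hK.conj_mem _ hk c) _, ?_⟩
      have hb : φ b = φ a * (c * k) := by rw [e]; group
      have hx : c⁻¹ * x * c = x := by
        rw [mul_assoc, hc, ← mul_assoc, inv_mul_cancel, one_mul]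
      rw [hb]
      calc φ a * (c * k) * x * (φ a * (c * k))⁻¹
          = φ a * c * k * x * k⁻¹ * c⁻¹ * (φ a)⁻¹ := by group
        _ = φ a * c * k * (c⁻¹ * x * c) * k⁻¹ * c⁻¹ * (φ a)⁻¹ := by rw [hx]
        _ = _ := by group
  have hsurj : ∀ y : {y : X // Cfsg.IsConjUnder φ.range x y}, ∃ a, o a = y := by
    rintro ⟨y, h, ⟨a, rfl⟩, e⟩
    refine ⟨a, ?_⟩
    apply Subtype.ext
    show (o a).1 = y
    rw [ho]
    exact e.symm
  have hequiv : Equivalence (fun y z : {y : X // Cfsg.IsConjUnder φ.range x y} =>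
      Cfsg.IsConjUnder K y.1 z.1) := by
    refine ⟨fun y => ⟨1, K.one_mem, by group⟩, ?_, ?_⟩
    · rintro y z ⟨k, hk, e⟩
      refine ⟨k⁻¹, K.inv_mem hk, ?_⟩
      rw [e]
      group
    · rintro y z w ⟨k, hk, e⟩ ⟨k', hk', e'⟩
      refine ⟨k' * k, K.mul_mem hk' hk, ?_⟩
      rw [e', e]
      group
  unfold Cfsg.splitClassCount Subgroup.index
  apply Nat.card_congr
  symm
  refine Equiv.ofBijective (Quotient.lift (fun a => Quot.mk _ (o a)) ?_) ⟨?_, ?_⟩
  · intro a b hab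
    apply Quot.sound
    exact (hkey a b).mpr (QuotientGroup.leftRel_apply.mp hab)
  · intro qa qb
    induction qa using Quotient.inductionOn with
    | _ a =>
      induction qb using Quotient.inductionOn with
      | _ b =>
        intro h
        apply Quotient.sound
        have h' : Quot.mk _ (o a) = Quot.mk _ (o b) := h
        rw [Quot.eq, hequiv.eqvGen_iff] at h'
        exact QuotientGroup.leftRel_apply.mpr ((hkey a b).mp h')
  · intro q
    induction q using Quot.inductionOn with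
    | _ y =>
      obtain ⟨a, rfl⟩ := hsurj y
      exact ⟨Quotient.mk _ a, rfl⟩

end general

end Cfsg.Agent.Lib.Helper9.APSL
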