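import Mathlib
import Cfsg.Agent.Lib.Helper9.APSL26

set_option autoImplicit false

/-! Fixed fields of automorphisms of finite fields; subgroups of cyclic groups. -/

namespace Cfsg.Agent.Lib.Helper9.APSL

open Matrix

variable {F : Type*} [Field F] {n : ℕ}

theorem finite_ringAut [Finite F] : Finite (RingAut F) :=
  Finite.of_injective (fun e : RingAut F => (e : F → F)) DFunLike.coe_injective

theorem mem_fixed_subfield (σ : RingAut F) (a : F) :
    a ∈ FixedPoints.subfield (Subgroup.zpowers σ) F ↔ σ a = a := by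
  constructor
  · intro h
    exact h ⟨σ, Subgroup.mem_zpowers σ⟩
  · intro h m
    have h1 : Subgroup.zpowers σ ≤ MulAction.stabilizer (RingAut F) a := by
      rw [Subgroup.zpowers_le]
      exact h
    exact h1 m.2

theorem fixed_card [Fintype F] (p f : ℕ) [hp : Fact p.Prime] (hF : Fintype.card F = p ^ f)
    (σ : RingAut F) (r : ℕ) (hr : 0 < r) (hord : orderOf σ = r) :
    ∃ e, e * r = f ∧ Nat.card (FixedPoints.subfield (Subgroup.zpowers σ) F) = p ^ e := by
  haveI : Finite (RingAut F) := finite_ringAut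
  letI : Fintype (Subgroup.zpowers σ) := Fintype.ofFinite _
  letI : Fintype (FixedPoints.subfield (Subgroup.zpowers σ) F) := Fintype.ofFinite _
  have h1 := FixedPoints.finrank_eq_card (Subgroup.zpowers σ) F
  have h2 : Fintype.card (Subgroup.zpowers σ) = r := by
    rw [Fintype.card_eq_nat_card, Nat.card_zpowers, hord]
  have h3 : Fintype.card F = Fintype.card (FixedPoints.subfield (Subgroup.zpowers σ) F)
      ^ Module.finrank (FixedPoints.subfield (Subgroup.zpowers σ) F) F :=
    Module.card_eq_pow_finrank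
  rw [h1, h2, hF] at h3
  have h4 : Fintype.card (FixedPoints.subfield (Subgroup.zpowers σ) F) ∣ p ^ f := by
    rw [h3]
    exact dvd_pow_self _ (by omega)
  obtain ⟨e, -, he⟩ := (Nat.dvd_prime_pow hp.out).mp h4
  refine ⟨e, ?_, ?_⟩
  · rw [he, ← pow_mul] at h3
    exact (Nat.pow_right_injective hp.out.two_le h3).symm
  · rw [Nat.card_eq_fintype_card, he]

/-- the fixed field of an automorphism of order `r` of a field with `p^f` elements is the image
of any field with `p^(f/r)` elements -/
theorem exists_fixed_embedding [Fintype F] (p f : ℕ) [hp : Fact p.Prime]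
    (hF : Fintype.card F = p ^ f) (σ : RingAut F) (r : ℕ) (hr : 0 < r) (hord : orderOf σ = r)
    (F₀ : Type*) [Field F₀] [Fintype F₀] (hF₀ : Fintype.card F₀ = p ^ (f / r)) :
    r ∣ f ∧ ∃ ι : F₀ →+* F, ∀ a : F, σ a = a ↔ a ∈ Set.range ι := by
  obtain ⟨e, he, hcard⟩ := fixed_card p f hF σ r hr hord
  refine ⟨⟨e, by rw [← he, mul_comm]⟩, ?_⟩
  have hfr : f / r = e := by rw [← he, Nat.mul_div_cancel _ hr]
  letI : Fintype (FixedPoints.subfield (Subgroup.zpowers σ) F) := Fintype.ofFinite _
  have hc : Fintype.card F₀ = Fintype.card (FixedPoints.subfield (Subgroup.zpowers σ) F) := by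
    rw [hF₀, hfr, ← hcard, Nat.card_eq_fintype_card]
  obtain ⟨φ⟩ : Nonempty (F₀ ≃+* FixedPoints.subfield (Subgroup.zpowers σ) F) :=
    ⟨FiniteField.ringEquivOfCardEq hc⟩
  refine ⟨(FixedPoints.subfield (Subgroup.zpowers σ) F).subtype.comp φ.toRingHom, ?_⟩
  intro a
  rw [← mem_fixed_subfield]
  constructor
  · intro ha
    exact ⟨φ.symm ⟨a, ha⟩, by simp⟩
  · rintro ⟨b, rfl⟩
    exact (φ b).2

/-- the units fixed by a field automorphism -/
def fixU (σ : RingAut F) : Subgroup Fˣ where
  carrier := {u | uA σ u = u}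
  mul_mem' := by
    intro a b ha hb
    show uA σ (a * b) = a * b
    rw [map_mul, ha, hb]
  one_mem' := map_one _
  inv_mem' := by
    intro a ha
    show uA σ a⁻¹ = a⁻¹
    rw [map_inv, ha]

theorem mem_fixU (σ : RingAut F) (u : Fˣ) : u ∈ fixU σ ↔ uA σ u = u := Iff.rfl

theorem card_fixU [Finite F] (σ : RingAut F) {F₀ : Type*} [Field F₀] (ι : F₀ →+* F)
    (hι : ∀ a : F, σ a = a ↔ a ∈ Set.range ι) : Nat.card (fixU σ) = Nat.card F₀ - 1 := by
  have hinj : Function.Injective (Units.map ι.toMonoidHom) :=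
    Units.map_injective ι.injective
  have hrange : fixU σ = (Units.map ι.toMonoidHom).range := by
    ext u
    rw [mem_fixU, MonoidHom.mem_range]
    constructor
    · intro hu
      have h1 : σ (u : F) = u := by
        have := congrArg Units.val hu
        rwa [uA_coe] at this
      obtain ⟨a, ha⟩ := (hι _).mp h1
      have ha0 : a ≠ 0 := by
        rintro rfl
        rw [map_zero] at ha
        exact u.ne_zero ha.symm
      refine ⟨Units.mk0 a ha0, ?_⟩
      apply Units.ext
      exact ha
    · rintro ⟨v, rfl⟩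
      apply Units.ext
      rw [uA_coe]
      exact (hι _).mpr ⟨(v : F₀), rfl⟩
  rw [hrange, ← Nat.card_congr (MonoidHom.ofInjective hinj).toEquiv, Nat.card_units]

/-- in a finite cyclic group, the subgroup generated by a subgroup and the `n`-th powers -/
theorem index_sup_pow {C : Type*} [CommGroup C] [IsCyclic C] [Finite C] (B : Subgroup C)
    (n : ℕ) :
    (B ⊔ (powMonoidHom n : C →* C).range).index = Nat.gcd n (Nat.card C / Nat.card B) := by
  obtain ⟨N, hN⟩ : ∃ N, N = Nat.card C := ⟨_, rfl⟩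
  obtain ⟨m, hm⟩ : ∃ m, m = Nat.card B := ⟨_, rfl⟩
  have hmN : m ∣ N := by
    rw [hm, hN]
    exact Subgroup.card_subgroup_dvd_card B
  have hNpos : 0 < N := by rw [hN]; exact Nat.card_pos
  have hmpos : 0 < m := by rw [hm]; exact Nat.card_pos
  obtain ⟨e, he⟩ := hmN
  have hepos : 0 < e := by
    rcases Nat.eq_zero_or_pos e with h | h
    · rw [h, mul_zero] at he; omega
    · exact h
  have hdiv : N / m = e := by rw [he, Nat.mul_div_cancel_left _ hmpos]
  rw [← hN, ← hm, hdiv]
  -- B is the kernel of the m-th power map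
  have hB1 : B ≤ (powMonoidHom m : C →* C).ker := by
    intro b hb
    rw [MonoidHom.mem_ker, powMonoidHom_apply, hm]
    have : (⟨b, hb⟩ : B) ^ Nat.card B = 1 := pow_card_eq_one'
    exact congrArg Subtype.val this
  have hkcard : Nat.card (powMonoidHom m : C →* C).ker = m := by
    rw [IsCyclic.card_powMonoidHom_ker, ← hN, he, Nat.gcd_mul_right_left]
  have hB : B = (powMonoidHom m : C →* C).ker :=
    Subgroup.eq_of_le_of_card_ge hB1 (by rw [hkcard, hm])
  have hR1 : (powMonoidHom e : C →* C).range ≤ (powMonoidHom m : C →* C).ker := by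
    rintro _ ⟨c, rfl⟩
    rw [MonoidHom.mem_ker, powMonoidHom_apply, powMonoidHom_apply, ← pow_mul, mul_comm, ← he, hN]
    exact pow_card_eq_one'
  have hRcard : Nat.card (powMonoidHom e : C →* C).range = m := by
    rw [IsCyclic.card_powMonoidHom_range, ← hN, he, Nat.gcd_mul_left_left,
      Nat.mul_div_cancel _ hepos]
  have hR : (powMonoidHom e : C →* C).range = (powMonoidHom m : C →* C).ker :=
    Subgroup.eq_of_le_of_card_ge hR1 (by rw [hkcard, hRcard])
  rw [hB, ← hR]
  have hsup : (powMonoidHom e : C →* C).range ⊔ (powMonoidHom n : C →* C).range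
      = (powMonoidHom (Nat.gcd e n) : C →* C).range := by
    apply le_antisymm
    · apply sup_le
      · rintro _ ⟨c, rfl⟩
        obtain ⟨k, hk⟩ := Nat.gcd_dvd_left e n
        refine ⟨c ^ k, ?_⟩
        rw [powMonoidHom_apply, powMonoidHom_apply, ← pow_mul, mul_comm, ← hk]
      · rintro _ ⟨c, rfl⟩
        obtain ⟨k, hk⟩ := Nat.gcd_dvd_right e n
        refine ⟨c ^ k, ?_⟩
        rw [powMonoidHom_apply, powMonoidHom_apply, ← pow_mul, mul_comm, ← hk]
    · rintro _ ⟨c, rfl⟩
      rw [powMonoidHom_apply]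
      have : c ^ (Nat.gcd e n) = (c ^ e) ^ (Nat.gcdA e n) * (c ^ n) ^ (Nat.gcdB e n) := by
        rw [← zpow_natCast c (Nat.gcd e n), Nat.gcd_eq_gcd_ab, _root_.zpow_add, _root_.zpow_mul,
          _root_.zpow_mul, zpow_natCast, zpow_natCast]
      rw [this]
      apply Subgroup.mul_mem_sup
      · exact Subgroup.zpow_mem _ (show c ^ e ∈ (powMonoidHom e : C →* C).range from ⟨c, rfl⟩) _
      · exact Subgroup.zpow_mem _ (show c ^ n ∈ (powMonoidHom n : C →* C).range from ⟨c, rfl⟩) _
  rw [hsup, IsCyclic.index_powMonoidHom_range, ← hN, Nat.gcd_comm n e]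
  apply Nat.gcd_eq_right
  exact dvd_trans (Nat.gcd_dvd_left e n) ⟨m, by rw [he, mul_comm]⟩

end Cfsg.Agent.Lib.Helper9.APSL
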