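import Mathlib
import Cfsg.Agent.Lib.Helper9.APSL27

set_option autoImplicit false

/-! The centraliser of a field automorphism in the inner-diagonal group of `PSL_n(F)`. -/

namespace Cfsg.Agent.Lib.Helper9.APSL

open Matrix

variable {F : Type*} [Field F] {n : ℕ}

local notation "Mn" => Matrix (Fin n) (Fin n) F
local notation "SLn" => Matrix.SpecialLinearGroup (Fin n) F
local notation "PSLn" => Matrix.ProjectiveSpecialLinearGroup (Fin n) F
local notation "Vn" => (Fin n → F)
local notation "GLn" => GL (Fin n) F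

theorem scalar_eq_one (hn : 0 < n) {u : Fˣ}
    (h : Matrix.GeneralLinearGroup.scalar (Fin n) u = 1) : u = 1 := by
  have h1 := congrArg Units.val h
  rw [Matrix.GeneralLinearGroup.coe_scalar, Units.val_one] at h1
  have h2 := congrFun (congrFun h1 ⟨0, hn⟩) ⟨0, hn⟩
  rw [Matrix.scalar_apply, Matrix.diagonal_apply_eq, Matrix.one_apply_eq] at h2
  exact Units.ext h2

theorem sG_pow_of_scalar (σ : RingAut F) (g : GLn) (lam : Fˣ)
    (h : sG σ g = Matrix.GeneralLinearGroup.scalar (Fin n) lam * g) (k : ℕ) :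
    sG (σ ^ k) g = Matrix.GeneralLinearGroup.scalar (Fin n) (nrm σ k lam) * g := by
  induction k with
  | zero => rw [pow_zero, sG_one, nrm_zero, map_one, one_mul]
  | succ k ih =>
    rw [pow_succ', sG_mul, ih, map_mul, sG_scalar, h, nrm_succ, ← mul_assoc, ← map_mul,
      mul_comm (uA σ (nrm σ k lam)) lam]

/-- an inner-diagonal automorphism commuting with a field automorphism comes from a fixed matrix -/
theorem cent_fld_iff [Finite F] (hn : 2 ≤ n) (σ : RingAut F) (r : ℕ) (hr : 0 < r)
    (hord : orderOf σ = r) (β : MulAut PSLn) :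
    β ∈ (cG (F := F) (n := n)).range ⊓ Subgroup.centralizer {fld σ}
      ↔ ∃ g : GLn, sG σ g = g ∧ β = cG g := by
  have hσ : σ ^ r = 1 := hord ▸ pow_orderOf_eq_one σ
  have hinj : ∀ i j, i < r → j < r → σ ^ i = σ ^ j → i = j := by
    intro i j hi hj e
    exact pow_injOn_Iio_orderOf (by rw [hord]; exact hi) (by rw [hord]; exact hj) e
  rw [Subgroup.mem_inf, mem_cent_single]
  constructor
  · rintro ⟨⟨g, rfl⟩, hc⟩
    rw [fld_mul_cG] at hc
    have h1 : cG (sG σ g) = cG g := mul_right_cancel hc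
    have h2 : cG (sG σ g * g⁻¹) = (1 : MulAut PSLn) := by
      rw [map_mul, map_inv, h1, mul_inv_cancel]
    obtain ⟨lam, hlam⟩ := exists_scalar_of_cG_eq_one hn h2
    have h3 : sG σ g = Matrix.GeneralLinearGroup.scalar (Fin n) lam * g := by
      rw [← hlam, inv_mul_cancel_right]
    have h4 := sG_pow_of_scalar σ g lam h3 r
    rw [hσ, sG_one] at h4
    have h5 : Matrix.GeneralLinearGroup.scalar (Fin n) (nrm σ r lam) = 1 := by
      have : Matrix.GeneralLinearGroup.scalar (Fin n) (nrm σ r lam) * g = 1 * g := by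
        rw [one_mul]; exact h4.symm
      exact mul_right_cancel this
    have h6 := scalar_eq_one (by omega) h5
    obtain ⟨ν, hν⟩ := exists_field_h90 σ r hr hinj hσ lam h6
    refine ⟨Matrix.GeneralLinearGroup.scalar (Fin n) ν * g, ?_, ?_⟩
    · rw [map_mul, sG_scalar, h3, ← mul_assoc, ← map_mul, mul_comm (uA σ ν), hν]
    · rw [map_mul, cG_scalar hn, one_mul]
  · rintro ⟨g, hg, rfl⟩
    exact ⟨⟨g, rfl⟩, by rw [fld_mul_cG, hg]⟩

/-- a diagonal matrix with prescribed determinant -/
theorem exists_diag_det (hn : 0 < n) (a : Fˣ) :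
    ∃ h : GLn, Matrix.GeneralLinearGroup.det h = a ∧
      ∀ σ : RingAut F, uA σ a = a → sG σ h = h := by
  classical
  obtain ⟨d, hd⟩ : ∃ d : Fin n → Fˣ, d = Function.update (fun _ => (1 : Fˣ)) ⟨0, hn⟩ a :=
    ⟨_, rfl⟩
  have h1 : Matrix.diagonal (fun i => ((d i : Fˣ) : F))
      * Matrix.diagonal (fun i => (((d i)⁻¹ : Fˣ) : F)) = (1 : Mn) := by
    rw [Matrix.diagonal_mul_diagonal, ← Matrix.diagonal_one]
    congr 1
    funext i
    rw [← Units.val_mul, mul_inv_cancel, Units.val_one]
  have h2 : Matrix.diagonal (fun i => (((d i)⁻¹ : Fˣ) : F)) * Matrix.diagonal (fun i => ((d i : Fˣ) : F))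
      = (1 : Mn) := by
    rw [Matrix.diagonal_mul_diagonal, ← Matrix.diagonal_one]
    congr 1
    funext i
    rw [← Units.val_mul, inv_mul_cancel, Units.val_one]
  refine ⟨⟨_, _, h1, h2⟩, ?_, ?_⟩
  · apply Units.ext
    show (Matrix.diagonal (fun i => ((d i : Fˣ) : F))).det = a
    rw [Matrix.det_diagonal, hd, ← Units.coe_prod,
      Finset.prod_update_of_mem (Finset.mem_univ _)]
    simp
  · intro σ ha
    apply Units.ext
    rw [sG_coe]
    show (Matrix.diagonal (fun i => ((d i : Fˣ) : F))).map σ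
      = Matrix.diagonal (fun i => ((d i : Fˣ) : F))
    rw [Matrix.diagonal_map (map_zero _)]
    congr 1
    funext i
    rw [hd]
    by_cases hi : i = ⟨0, hn⟩
    · rw [hi, Function.update_self, ← uA_coe, ha]
    · rw [Function.update_of_ne hi]
      exact map_one σ

theorem det_mem_fixU (σ : RingAut F) (h : GLn) (hh : sG σ h = h) :
    Matrix.GeneralLinearGroup.det h ∈ fixU σ := by
  rw [mem_fixU, ← det_sG, hh]

/-- the subgroup of `GL_n` in the definition of the number of classes, for a field automorphism -/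
theorem comap_cent_fld [Finite F] (hn : 2 ≤ n) (σ : RingAut F) (r : ℕ) (hr : 0 < r)
    (hord : orderOf σ = r) :
    (Subgroup.centralizer {fld (n := n) σ} ⊔ Cfsg.Inn PSLn).comap cG
      = (fixU σ ⊔ (powMonoidHom n : Fˣ →* Fˣ).range).comap Matrix.GeneralLinearGroup.det := by
  ext g
  rw [Subgroup.mem_comap, Subgroup.mem_comap, Subgroup.mem_sup_of_normal_right]
  constructor
  · rintro ⟨c, hc, k, hk, e⟩
    have hcr : c ∈ (cG (F := F) (n := n)).range := by
      have : c = cG g * k⁻¹ := by rw [← e, mul_inv_cancel_right]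
      rw [this]
      exact Subgroup.mul_mem _ ⟨g, rfl⟩ (Subgroup.inv_mem _ (inn_le_range_cG hk))
    obtain ⟨h, hh, rfl⟩ := (cent_fld_iff hn σ r hr hord c).mp ⟨hcr, hc⟩
    have hk' : cG (h⁻¹ * g) ∈ Cfsg.Inn PSLn := by
      have : cG (h⁻¹ * g) = k := by rw [map_mul, map_inv, ← e, inv_mul_cancel_left]
      rw [this]
      exact hk
    have h1 : h⁻¹ * g ∈ (psiG (F := F) (n := n)).ker := by
      rw [MonoidHom.mem_ker]
      unfold psiG
      rw [MonoidHom.comp_apply, QuotientGroup.mk'_apply, QuotientGroup.eq_one_iff]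
      exact hk'
    rw [psiG_ker hn, Subgroup.mem_comap, map_mul, map_inv] at h1
    have h2 : Matrix.GeneralLinearGroup.det g = Matrix.GeneralLinearGroup.det h
        * ((Matrix.GeneralLinearGroup.det h)⁻¹ * Matrix.GeneralLinearGroup.det g) := by
      rw [mul_inv_cancel_left]
    rw [h2]
    exact Subgroup.mul_mem_sup (det_mem_fixU σ h hh) h1
  · intro hg
    obtain ⟨a, ha, b, hb, e⟩ := Subgroup.mem_sup.mp hg
    obtain ⟨h, hdet, hfix⟩ := exists_diag_det (by omega : 0 < n) a
    have hh : sG σ h = h := hfix σ ((mem_fixU σ a).mp ha)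
    refine ⟨cG h, ?_, cG (h⁻¹ * g), ?_, ?_⟩
    · exact ((cent_fld_iff hn σ r hr hord (cG h)).mpr ⟨h, hh, rfl⟩).2
    · have h1 : h⁻¹ * g ∈ (psiG (F := F) (n := n)).ker := by
        rw [psiG_ker hn, Subgroup.mem_comap, map_mul, map_inv, hdet, ← e, inv_mul_cancel_left]
        exact hb
      rw [MonoidHom.mem_ker] at h1
      unfold psiG at h1
      rw [MonoidHom.comp_apply, QuotientGroup.mk'_apply, QuotientGroup.eq_one_iff] at h1
      exact h1
    · rw [← map_mul, mul_inv_cancel_left]

/-- **the number of classes** into which the inner-diagonal class of a field automorphism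
splits under the inner automorphisms -/
theorem splitClassCount_fld [Fintype F] (p f : ℕ) [Fact p.Prime] (hF : Fintype.card F = p ^ f)
    (hn : 2 ≤ n) (σ : RingAut F) (r : ℕ) (hr : 0 < r) (hord : orderOf σ = r)
    {F₀ : Type*} [Field F₀] [Fintype F₀] (hF₀ : Fintype.card F₀ = p ^ (f / r))
    (ι : F₀ →+* F) (hι : ∀ a : F, σ a = a ↔ a ∈ Set.range ι) :
    Cfsg.splitClassCount (cG (F := F) (n := n)).range (Cfsg.Inn PSLn) (fld σ)
      = Nat.gcd n ((p ^ f - 1) / (p ^ (f / r) - 1)) := by
  haveI : Nonempty (Fin n) := ⟨⟨0, by omega⟩⟩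
  rw [splitClassCount_range, comap_cent_fld hn σ r hr hord,
    Subgroup.index_comap_of_surjective _ Matrix.GeneralLinearGroup.det_surjective,
    index_sup_pow, card_fixU σ ι hι, Nat.card_units, Nat.card_eq_fintype_card,
    Nat.card_eq_fintype_card, hF, hF₀]

end Cfsg.Agent.Lib.Helper9.APSL
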