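import Mathlib
import Cfsg.Agent.Lib.Helper9.APSL28

set_option autoImplicit false

/-! The centraliser of a field automorphism in the inner-diagonal group is `PGL_n` of the fixed
field. -/

namespace Cfsg.Agent.Lib.Helper9.APSL

open Matrix

variable {F : Type*} [Field F] {n : ℕ} {F₀ : Type*} [Field F₀]

local notation "Mn" => Matrix (Fin n) (Fin n) F
local notation "SLn" => Matrix.SpecialLinearGroup (Fin n) F
local notation "PSLn" => Matrix.ProjectiveSpecialLinearGroup (Fin n) F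
local notation "Vn" => (Fin n → F)
local notation "GLn" => GL (Fin n) F

theorem glmap_coe (ι : F₀ →+* F) (g₀ : GL (Fin n) F₀) :
    ((Matrix.GeneralLinearGroup.map ι g₀ : GLn) : Mn)
      = (g₀ : Matrix (Fin n) (Fin n) F₀).map ι := rfl

theorem sG_glmap (σ : RingAut F) (ι : F₀ →+* F) (hι : ∀ b, σ (ι b) = ι b)
    (g₀ : GL (Fin n) F₀) :
    sG σ (Matrix.GeneralLinearGroup.map ι g₀) = Matrix.GeneralLinearGroup.map ι g₀ := by
  apply Units.ext
  rw [sG_coe, glmap_coe]
  ext i j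
  simp [hι]

theorem exists_glmap_eq (σ : RingAut F) (ι : F₀ →+* F)
    (hι : ∀ a : F, σ a = a ↔ a ∈ Set.range ι) (g : GLn) (hg : sG σ g = g) :
    ∃ g₀ : GL (Fin n) F₀, Matrix.GeneralLinearGroup.map ι g₀ = g := by
  have hfix : ∀ i j, σ ((g : Mn) i j) = (g : Mn) i j := by
    intro i j
    have := congrArg Units.val hg
    rw [sG_coe] at this
    exact congrFun (congrFun this i) j
  choose c hc using fun i j => (hι _).mp (hfix i j)
  have hM : (Matrix.of c).map ι = (g : Mn) := by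
    ext i j
    exact hc i j
  have hdet : (Matrix.of c).det ≠ 0 := by
    intro h0
    have h1 : ι ((Matrix.of c).det) = (g : Mn).det := by
      rw [RingHom.map_det, RingHom.mapMatrix_apply, hM]
    rw [h0, map_zero] at h1
    have h2 : IsUnit (g : Mn).det := by
      rw [← Matrix.isUnit_iff_isUnit_det]
      exact g.isUnit
    exact h2.ne_zero h1.symm
  refine ⟨Matrix.GeneralLinearGroup.mkOfDetNeZero (Matrix.of c) hdet, ?_⟩
  apply Units.ext
  rw [glmap_coe]
  exact hM

theorem glmap_mem_center_iff (hn : 0 < n) (ι : F₀ →+* F) (g₀ : GL (Fin n) F₀) :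
    Matrix.GeneralLinearGroup.map ι g₀ ∈ Subgroup.center GLn
      ↔ g₀ ∈ Subgroup.center (GL (Fin n) F₀) := by
  rw [Matrix.GeneralLinearGroup.mem_center_iff_val_mem_range_scalar,
    Matrix.GeneralLinearGroup.mem_center_iff_val_mem_range_scalar]
  constructor
  · rintro ⟨b, hb⟩
    refine ⟨(g₀ : Matrix (Fin n) (Fin n) F₀) ⟨0, hn⟩ ⟨0, hn⟩, ?_⟩
    have h1 : ∀ i j, ι ((g₀ : Matrix (Fin n) (Fin n) F₀) i j) = if i = j then b else 0 := by
      intro i j
      have := congrFun (congrFun hb i) j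
      rw [Matrix.scalar_apply, Matrix.diagonal_apply] at this
      exact this.symm
    ext i j
    rw [Matrix.scalar_apply, Matrix.diagonal_apply]
    by_cases hij : i = j
    · rw [if_pos hij]
      apply ι.injective
      rw [h1, h1, if_pos rfl, if_pos hij]
    · rw [if_neg hij]
      apply ι.injective
      rw [h1, if_neg hij, map_zero]
  · rintro ⟨a, ha⟩
    refine ⟨ι a, ?_⟩
    rw [glmap_coe, ← ha, Matrix.scalar_apply, Matrix.scalar_apply, Matrix.diagonal_map (map_zero _)]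

/-- **the centraliser of a field automorphism in the inner-diagonal group** -/
theorem exists_cent_fld_equiv [Finite F] (hn : 2 ≤ n) (σ : RingAut F) (r : ℕ) (hr : 0 < r)
    (hord : orderOf σ = r) (ι : F₀ →+* F) (hι : ∀ a : F, σ a = a ↔ a ∈ Set.range ι) :
    Nonempty (↥((cG (F := F) (n := n)).range ⊓ Subgroup.centralizer {fld σ})
      ≃* Matrix.ProjGenLinGroup (Fin n) F₀) := by
  have hι' : ∀ b, σ (ι b) = ι b := fun b => (hι _).mpr ⟨b, rfl⟩
  obtain ⟨Ψ, hΨ⟩ : ∃ Ψ : GL (Fin n) F₀ →*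
      ↥((cG (F := F) (n := n)).range ⊓ Subgroup.centralizer {fld σ}),
      ∀ g₀, (Ψ g₀ : MulAut PSLn) = cG (Matrix.GeneralLinearGroup.map ι g₀) :=
    ⟨(cG.comp (Matrix.GeneralLinearGroup.map ι)).codRestrict _ (fun g₀ =>
      (cent_fld_iff hn σ r hr hord _).mpr ⟨_, sG_glmap σ ι hι' g₀, rfl⟩), fun _ => rfl⟩
  have hsurj : Function.Surjective Ψ := by
    intro β
    obtain ⟨g, hg, e⟩ := (cent_fld_iff hn σ r hr hord _).mp β.2
    obtain ⟨g₀, rfl⟩ := exists_glmap_eq σ ι hι g hg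
    refine ⟨g₀, ?_⟩
    apply Subtype.ext
    rw [hΨ, e]
  have hker : Ψ.ker = Subgroup.center (GL (Fin n) F₀) := by
    ext g₀
    rw [MonoidHom.mem_ker, ← glmap_mem_center_iff (by omega : 0 < n) ι, ← cG_ker hn,
      MonoidHom.mem_ker, ← hΨ]
    constructor
    · intro h
      rw [h]
      rfl
    · intro h
      apply Subtype.ext
      rw [h]
      rfl
  exact ⟨(QuotientGroup.quotientKerEquivOfSurjective Ψ hsurj).symm.trans
    (QuotientGroup.quotientMulEquivOfEq hker)⟩

/-- **S2698 in general form** -/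
theorem field_aut_centralizer_and_split [Fintype F] (p f : ℕ) [Fact p.Prime]
    (hF : Fintype.card F = p ^ f) (hn : 2 ≤ n) (x : MulAut PSLn)
    (hx : Cfsg.IsFieldAutClassPSL x) {r : ℕ} (hr : r.Prime) (hxr : orderOf x = r)
    [Fintype F₀] (hF₀ : Fintype.card F₀ = p ^ (f / r)) :
    r ∣ f ∧ Nonempty (↥(Cfsg.inndiagPSL n F ⊓ Subgroup.centralizer {x})
      ≃* Matrix.ProjGenLinGroup (Fin n) F₀) ∧
      Cfsg.splitClassCount (Cfsg.inndiagPSL n F) (Cfsg.Inn PSLn) x
        = Nat.gcd n ((p ^ f - 1) / (p ^ (f / r) - 1)) := by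
  haveI : CharP F p := charP_of_card p f hF
  obtain ⟨α, σ, hσ, hstd⟩ := hx
  have e1 : α * x * α⁻¹ = fld σ := eq_fld_of_stdField hstd
  have hordσ : orderOf (σ : RingAut F) = r := by
    rw [← hxr, ← orderOf_injective fld (fld_injective p hn) σ, ← e1, orderOf_conj']
  obtain ⟨hdiv, ι, hι⟩ := exists_fixed_embedding p f hF σ r hr.pos hordσ F₀ hF₀
  rw [inndiagPSL_eq]
  haveI hD := cG_range_normal (F := F) (n := n) p hn
  refine ⟨hdiv, ?_, ?_⟩
  · obtain ⟨E⟩ := exists_cent_fld_equiv hn σ r hr.pos hordσ ι hι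
    exact ⟨(centInfConjEquiv (cG (F := F) (n := n)).range α x).trans
      ((MulEquiv.subgroupCongr (by rw [e1])).trans E)⟩
  · rw [← splitClassCount_conj _ _ α x, e1]
    exact splitClassCount_fld p f hF hn σ r hr.pos hordσ hF₀ ι hι

end Cfsg.Agent.Lib.Helper9.APSL
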