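import Mathlib
import Cfsg.Prelude.Def_LieClassical
import Cfsg.Agent.Lib.Helper9.APSL29

set_option autoImplicit false

/-! The involutory field automorphism of a finite field; unitary groups. -/

namespace Cfsg.Agent.Lib.Helper9.APSL

open Matrix

variable {F : Type*} [Field F] {n : ℕ}

local notation "Mn" => Matrix (Fin n) (Fin n) F
local notation "Vn" => (Fin n → F)
local notation "GLn" => GL (Fin n) F

theorem unique_involution {G : Type*} [Group G] [IsCyclic G] [Finite G] {a b : G}
    (ha : orderOf a = 2) (hb : orderOf b = 2) : a = b := by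
  classical
  letI : Fintype G := Fintype.ofFinite G
  have h2 : 2 ∣ Fintype.card G := by rw [← ha]; exact orderOf_dvd_card
  have := IsCyclic.card_orderOf_eq_totient h2
  rw [Nat.totient_two] at this
  obtain ⟨c, hc⟩ := Finset.card_eq_one.mp this
  have ha' : a ∈ Finset.univ.filter (fun a : G => orderOf a = 2) := by simp [ha]
  have hb' : b ∈ Finset.univ.filter (fun a : G => orderOf a = 2) := by simp [hb]
  rw [hc, Finset.mem_singleton] at ha' hb'
  rw [ha', hb']

theorem orderOf_involution {G : Type*} [Group G] {a : G} (h1 : a ≠ 1) (h2 : a * a = 1) :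
    orderOf a = 2 := by
  haveI : Fact (Nat.Prime 2) := ⟨Nat.prime_two⟩
  exact orderOf_eq_prime (by rw [pow_two, h2]) h1

section finite

variable [Fintype F]

theorem ringAut_comm (p f : ℕ) [Fact p.Prime] [CharP F p] (hF : Fintype.card F = p ^ f)
    (σ τ : RingAut F) : σ * τ = τ * σ := by
  have hF' : Nat.card F = p ^ f := by rw [Nat.card_eq_fintype_card, hF]
  haveI := (ringAut_cyclic_card' p f hF').1
  letI := IsCyclic.commGroup (α := RingAut F)
  exact mul_comm σ τ

/-- the involution of a finite field is the `p^(f/2)`-th power map -/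
theorem involution_eq_pow (p f : ℕ) [hp : Fact p.Prime] [CharP F p]
    (hF : Fintype.card F = p ^ f) (σ : RingAut F) (hσ1 : σ ≠ 1) (hσ2 : σ * σ = 1) :
    Even f ∧ ∀ x : F, σ x = x ^ (p ^ (f / 2)) := by
  have hF' : Nat.card F = p ^ f := by rw [Nat.card_eq_fintype_card, hF]
  obtain ⟨hcyc, hcard⟩ := ringAut_cyclic_card' p f hF'
  haveI := hcyc
  haveI : Finite (RingAut F) := finite_ringAut
  have hord : orderOf σ = 2 := orderOf_involution hσ1 hσ2
  have h2f : 2 ∣ f := by
    rw [← hcard, ← hord]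
    exact orderOf_dvd_natCard σ
  obtain ⟨e, he⟩ := h2f
  have hfe : f / 2 = e := by rw [he, Nat.mul_div_cancel_left _ (by norm_num : 0 < 2)]
  refine ⟨⟨e, by rw [he, two_mul]⟩, ?_⟩
  rw [hfe]
  haveI : ExpChar F p := ExpChar.prime hp.out
  obtain ⟨τ, hτ⟩ : ∃ τ : RingAut F, ∀ x, τ x = x ^ p ^ e :=
    ⟨iterateFrobeniusEquiv F p e, fun x => iterateFrobeniusEquiv_def F p e x⟩
  have hτ2 : τ * τ = 1 := by
    apply RingEquiv.ext
    intro x
    show τ (τ x) = x
    rw [hτ, hτ, ← pow_mul, ← pow_add, ← two_mul, ← he, ← hF]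
    exact FiniteField.pow_card x
  have hf0 : 0 < f := by
    rcases Nat.eq_zero_or_pos f with h | h
    · exfalso
      rw [h, pow_zero] at hF
      have := Fintype.one_lt_card (α := F)
      omega
    · exact h
  have he0 : 0 < e := by omega
  have hτ1 : τ ≠ 1 := by
    intro h1
    obtain ⟨ζ, hζ⟩ := IsCyclic.exists_generator (α := Fˣ)
    have hζo : orderOf ζ = Nat.card Fˣ := orderOf_eq_card_of_forall_mem_zpowers hζ
    rw [Nat.card_units, Nat.card_eq_fintype_card, hF] at hζo
    have h3 : (ζ : F) ^ p ^ e = ζ := by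
      rw [← hτ, h1]
      rfl
    have hpe : 1 < p ^ e := Nat.one_lt_pow (by omega) hp.out.one_lt
    have h4 : ζ ^ (p ^ e - 1) = 1 := by
      apply Units.ext
      rw [Units.val_pow_eq_pow_val, Units.val_one]
      have h5 : (ζ : F) ^ (p ^ e - 1) * ζ = 1 * ζ := by
        rw [← pow_succ, Nat.sub_add_cancel hpe.le, h3, one_mul]
      exact mul_right_cancel₀ ζ.ne_zero h5
    have h6 := orderOf_dvd_of_pow_eq_one h4
    rw [hζo] at h6
    have h7 := Nat.le_of_dvd (by omega) h6
    have h8 : p ^ e < p ^ f := Nat.pow_lt_pow_right hp.out.one_lt (by omega)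
    omega
  have : σ = τ := unique_involution hord (orderOf_involution hτ1 hτ2)
  intro x
  rw [this, hτ]

end finite

/-! ### unitary groups -/

theorem hf_single (σ : RingAut F) (A : Mn) (i j : Fin n) :
    hf σ A (Pi.single i 1) (Pi.single j 1) = A i j := by
  classical
  unfold hf
  rw [mulVec_single_one]
  simp [sv, dotProduct, Pi.single_apply, apply_ite]

theorem hermForm_eq (σ : RingAut F) (q : ℕ) (hq : ∀ x : F, σ x = x ^ q) (u v : Vn) :
    Cfsg.hermForm n F q u v = hf σ 1 v u := by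
  unfold Cfsg.hermForm hf
  rw [one_mulVec, dotProduct]
  apply Finset.sum_congr rfl
  intro i _
  rw [← hq, mul_comm]
  rfl

theorem hf_mulVec (σ : RingAut F) (A h : Mn) (v w : Vn) :
    hf σ A (h *ᵥ v) (h *ᵥ w) = hf σ (ct σ h * A * h) v w := by
  unfold hf
  rw [sv_mulVec, mulVec_mulVec, ← vecMul_transpose (h.map σ) (sv σ v), ← dotProduct_mulVec,
    mulVec_mulVec, ← mul_assoc]
  rfl

theorem mem_GU_iff (σ : RingAut F) (q : ℕ) (hq : ∀ x : F, σ x = x ^ q) (h : GLn) :
    h ∈ Cfsg.GU n F q ↔ (h : Mn) * ct σ (h : Mn) = 1 := by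
  rw [_root_.mul_eq_one_comm]
  constructor
  · intro hh
    have hh' : ∀ u v : Vn, Cfsg.hermForm n F q ((h : Mn) *ᵥ u) ((h : Mn) *ᵥ v)
        = Cfsg.hermForm n F q u v := hh
    ext i j
    have := hh' (Pi.single j 1) (Pi.single i 1)
    rw [hermForm_eq σ q hq, hermForm_eq σ q hq, hf_mulVec, hf_single, hf_single, mul_one] at this
    exact this
  · intro hh u v
    show Cfsg.hermForm n F q ((h : Mn) *ᵥ u) ((h : Mn) *ᵥ v) = Cfsg.hermForm n F q u v
    rw [hermForm_eq σ q hq, hermForm_eq σ q hq, hf_mulVec, mul_one, hh]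

end Cfsg.Agent.Lib.Helper9.APSL
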