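import Mathlib
import Cfsg.Agent.Lib.Helper9.APSL30

set_option autoImplicit false

/-! The centraliser of a graph-field involution in the inner-diagonal group of `PSL_n(F)`. -/

namespace Cfsg.Agent.Lib.Helper9.APSL

open Matrix

variable {F : Type*} [Field F] {n : ℕ}

local notation "Mn" => Matrix (Fin n) (Fin n) F
local notation "SLn" => Matrix.SpecialLinearGroup (Fin n) F
local notation "PSLn" => Matrix.ProjectiveSpecialLinearGroup (Fin n) F
local notation "Vn" => (Fin n → F)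
local notation "GLn" => GL (Fin n) F

theorem smul_one_inj (hn : 0 < n) {a b : F} (h : a • (1 : Mn) = b • (1 : Mn)) : a = b := by
  have := congrFun (congrFun h ⟨0, hn⟩) ⟨0, hn⟩
  simpa using this

theorem scalar_coe_smul (u : Fˣ) :
    ((Matrix.GeneralLinearGroup.scalar (Fin n) u : GLn) : Mn) = (u : F) • (1 : Mn) := by
  rw [Matrix.GeneralLinearGroup.coe_scalar, Matrix.scalar_apply, Matrix.smul_one_eq_diagonal]

/-- an inner-diagonal automorphism commuting with a graph-field involution comes from a unitary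
matrix -/
theorem cent_psi_iff [Finite F] (hn : 2 ≤ n) (σ : RingAut F) (hσ1 : σ ≠ 1) (hσ2 : σ * σ = 1)
    (β : MulAut PSLn) :
    β ∈ (cG (F := F) (n := n)).range ⊓ Subgroup.centralizer {fld σ * gam}
      ↔ ∃ g : GLn, (g : Mn) * ct σ (g : Mn) = 1 ∧ β = cG g := by
  have hσ : σ ^ 2 = 1 := by rw [pow_two, hσ2]
  rw [Subgroup.mem_inf, mem_cent_single]
  constructor
  · rintro ⟨⟨g, rfl⟩, hc⟩
    rw [psi_mul_cG] at hc
    have h1 : cG (sG σ (tI g)) = cG g := mul_right_cancel hc
    have h2 : cG (g * (sG σ (tI g))⁻¹) = (1 : MulAut PSLn) := by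
      rw [map_mul, map_inv, h1, mul_inv_cancel]
    obtain ⟨μ, hμ⟩ := exists_scalar_of_cG_eq_one hn h2
    have h3 : (g : Mn) * ct σ (g : Mn) = (μ : F) • (1 : Mn) := by
      have := congrArg Units.val hμ
      rw [Units.val_mul, sG_tI_inv_coe, scalar_coe_smul] at this
      exact this
    have h4 : σ (μ : F) = μ := by
      have h5 : ct σ ((g : Mn) * ct σ (g : Mn)) = (g : Mn) * ct σ (g : Mn) := by
        rw [ct_mul, ct_ct σ hσ2]
      rw [h3, ct_smul, ct_one] at h5
      exact smul_one_inj (by omega) h5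
    have h4' : uA σ μ = μ := Units.ext h4
    obtain ⟨ν, hν⟩ := norm_surjective σ 2 (by norm_num) (hinj_two σ hσ1) hσ μ h4'
    rw [nrm_two] at hν
    have hν' : (ν : F) * σ (ν : F) = μ := by
      have := congrArg Units.val hν
      rwa [Units.val_mul, uA_coe] at this
    refine ⟨Matrix.GeneralLinearGroup.scalar (Fin n) ν⁻¹ * g, ?_, ?_⟩
    · rw [Units.val_mul, scalar_coe_smul, smul_mul_assoc, one_mul, ct_smul, smul_mul_assoc,
        Matrix.mul_smul, h3, smul_smul, smul_smul, Units.val_inv_eq_inv_val, map_inv₀, ← hν']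
      have h1 : (ν : F) ≠ 0 := ν.ne_zero
      have h2 : σ (ν : F) ≠ 0 := (map_ne_zero σ).mpr h1
      have : (ν : F)⁻¹ * (σ (ν : F))⁻¹ * ((ν : F) * σ (ν : F)) = 1 := by
        field_simp
      rw [this, one_smul]
    · rw [map_mul, cG_scalar hn, one_mul]
  · rintro ⟨g, hg, rfl⟩
    refine ⟨⟨g, rfl⟩, ?_⟩
    have h1 : g * (sG σ (tI g))⁻¹ = 1 := by
      apply Units.ext
      rw [Units.val_mul, sG_tI_inv_coe, hg, Units.val_one]
    have h2 : sG σ (tI g) = g := (mul_inv_eq_one.mp h1).symm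
    rw [psi_mul_cG, h2]

/-- invertible diagonal matrices -/
def diagGL (d : Fin n → Fˣ) : GLn :=
  ⟨Matrix.diagonal (fun i => ((d i : Fˣ) : F)), Matrix.diagonal (fun i => (((d i)⁻¹ : Fˣ) : F)),
    by
      rw [Matrix.diagonal_mul_diagonal, ← Matrix.diagonal_one]
      congr 1
      funext i
      rw [← Units.val_mul, mul_inv_cancel, Units.val_one],
    by
      rw [Matrix.diagonal_mul_diagonal, ← Matrix.diagonal_one]
      congr 1
      funext i
      rw [← Units.val_mul, inv_mul_cancel, Units.val_one]⟩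

theorem diagGL_coe (d : Fin n → Fˣ) :
    ((diagGL d : GLn) : Mn) = Matrix.diagonal (fun i => ((d i : Fˣ) : F)) := rfl

theorem det_diagGL (d : Fin n → Fˣ) : Matrix.GeneralLinearGroup.det (diagGL d) = ∏ i, d i := by
  apply Units.ext
  show (Matrix.diagonal (fun i => ((d i : Fˣ) : F))).det = _
  rw [Matrix.det_diagonal, Units.coe_prod]

theorem ct_diagonal (σ : RingAut F) (d : Fin n → F) :
    ct σ (Matrix.diagonal d) = Matrix.diagonal (fun i => σ (d i)) := by
  ext i j
  rw [ct_apply, Matrix.diagonal_apply, Matrix.diagonal_apply]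
  by_cases h : i = j
  · rw [if_pos h, if_pos h.symm, h]
  · rw [if_neg h, if_neg (fun h' => h h'.symm), map_zero]

/-- the units of norm one -/
noncomputable def nrmOne (σ : RingAut F) : Subgroup Fˣ := (nrm σ 2).ker

theorem mem_nrmOne (σ : RingAut F) (u : Fˣ) : u ∈ nrmOne σ ↔ u * uA σ u = 1 := by
  unfold nrmOne
  rw [MonoidHom.mem_ker, nrm_two]

theorem det_ct (σ : RingAut F) (A : Mn) : (ct σ A).det = σ A.det := by
  unfold ct
  rw [det_transpose]
  exact (RingHom.map_det (σ : F ≃+* F).toRingHom A).symm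

theorem det_mem_nrmOne (σ : RingAut F) (h : GLn) (hh : (h : Mn) * ct σ (h : Mn) = 1) :
    Matrix.GeneralLinearGroup.det h ∈ nrmOne σ := by
  rw [mem_nrmOne]
  apply Units.ext
  rw [Units.val_mul, uA_coe, Units.val_one]
  show (h : Mn).det * σ ((h : Mn).det) = 1
  rw [← det_ct, ← det_mul, hh, det_one]

theorem exists_unitary_diag (hn : 0 < n) (σ : RingAut F) (a : Fˣ) (ha : a ∈ nrmOne σ) :
    ∃ h : GLn, Matrix.GeneralLinearGroup.det h = a ∧ (h : Mn) * ct σ (h : Mn) = 1 := by
  classical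
  rw [mem_nrmOne] at ha
  refine ⟨diagGL (Function.update (fun _ => (1 : Fˣ)) ⟨0, hn⟩ a), ?_, ?_⟩
  · rw [det_diagGL, Finset.prod_update_of_mem (Finset.mem_univ _)]
    simp
  · rw [diagGL_coe, ct_diagonal, Matrix.diagonal_mul_diagonal, ← Matrix.diagonal_one]
    congr 1
    funext i
    by_cases hi : i = ⟨0, hn⟩
    · rw [hi, Function.update_self, ← uA_coe, ← Units.val_mul, ha, Units.val_one]
    · rw [Function.update_of_ne hi, Units.val_one, map_one, mul_one]

theorem comap_cent_psi [Finite F] (hn : 2 ≤ n) (σ : RingAut F) (hσ1 : σ ≠ 1) (hσ2 : σ * σ = 1) :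
    (Subgroup.centralizer {fld (n := n) σ * gam} ⊔ Cfsg.Inn PSLn).comap cG
      = (nrmOne σ ⊔ (powMonoidHom n : Fˣ →* Fˣ).range).comap Matrix.GeneralLinearGroup.det := by
  ext g
  rw [Subgroup.mem_comap, Subgroup.mem_comap, Subgroup.mem_sup_of_normal_right]
  constructor
  · rintro ⟨c, hc, k, hk, e⟩
    have hcr : c ∈ (cG (F := F) (n := n)).range := by
      have : c = cG g * k⁻¹ := by rw [← e, mul_inv_cancel_right]
      rw [this]
      exact Subgroup.mul_mem _ ⟨g, rfl⟩ (Subgroup.inv_mem _ (inn_le_range_cG hk))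
    obtain ⟨h, hh, rfl⟩ := (cent_psi_iff hn σ hσ1 hσ2 c).mp ⟨hcr, hc⟩
    have hk' : cG (h⁻¹ * g) ∈ Cfsg.Inn PSLn := by
      have : cG (h⁻¹ * g) = k := by rw [map_mul, map_inv, ← e, inv_mul_cancel_left]
      rw [this]
      exact hk
    have h1 : h⁻¹ * g ∈ (psiG (F := F) (n := n)).ker := by
      rw [MonoidHom.mem_ker]
      unfold psiG
      rw [MonoidHom.comp_apply, QuotientGroup.mk'_apply, QuotientGroup.eq_one_iff]
      exact hk'
    rw [psiG_ker hn, Subgroup.mem_comap, map_mul, map_inv] at h1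
    have h2 : Matrix.GeneralLinearGroup.det g = Matrix.GeneralLinearGroup.det h
        * ((Matrix.GeneralLinearGroup.det h)⁻¹ * Matrix.GeneralLinearGroup.det g) := by
      rw [mul_inv_cancel_left]
    rw [h2]
    exact Subgroup.mul_mem_sup (det_mem_nrmOne σ h hh) h1
  · intro hg
    obtain ⟨a, ha, b, hb, e⟩ := Subgroup.mem_sup.mp hg
    obtain ⟨h, hdet, hh⟩ := exists_unitary_diag (by omega : 0 < n) σ a ha
    refine ⟨cG h, ?_, cG (h⁻¹ * g), ?_, ?_⟩
    · exact ((cent_psi_iff hn σ hσ1 hσ2 (cG h)).mpr ⟨h, hh, rfl⟩).2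
    · have h1 : h⁻¹ * g ∈ (psiG (F := F) (n := n)).ker := by
        rw [psiG_ker hn, Subgroup.mem_comap, map_mul, map_inv, hdet, ← e, inv_mul_cancel_left]
        exact hb
      rw [MonoidHom.mem_ker] at h1
      unfold psiG at h1
      rw [MonoidHom.comp_apply, QuotientGroup.mk'_apply, QuotientGroup.eq_one_iff] at h1
      exact h1
    · rw [← map_mul, mul_inv_cancel_left]

theorem card_ratio_nrmOne [Fintype F] (p f : ℕ) [Fact p.Prime] (hF : Fintype.card F = p ^ f)
    (σ : RingAut F) (hσ1 : σ ≠ 1) (hσ2 : σ * σ = 1) :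
    Nat.card Fˣ / Nat.card (nrmOne σ) = p ^ (f / 2) - 1 := by
  have hσ : σ ^ 2 = 1 := by rw [pow_two, hσ2]
  have hord : orderOf σ = 2 := orderOf_involution hσ1 hσ2
  have hrange : (nrm σ 2).range = fixU σ := by
    ext u
    rw [mem_fixU]
    constructor
    · rintro ⟨v, rfl⟩
      exact uA_nrm_of_pow σ 2 hσ v
    · intro hu
      exact norm_surjective σ 2 (by norm_num) (hinj_two σ hσ1) hσ u hu
  have hcard : Nat.card Fˣ = Nat.card (nrmOne σ) * Nat.card (nrm σ 2).range := by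
    unfold nrmOne
    rw [← Subgroup.index_ker, Subgroup.card_mul_index]
  have hpos : 0 < Nat.card (nrmOne σ) := Nat.card_pos
  rw [hcard, Nat.mul_div_cancel_left _ hpos, hrange]
  obtain ⟨e, he, hK⟩ := fixed_card p f hF σ 2 (by norm_num) hord
  have hfe : f / 2 = e := by rw [← he, Nat.mul_div_cancel _ (by norm_num : 0 < 2)]
  rw [card_fixU σ (FixedPoints.subfield (Subgroup.zpowers σ) F).subtype
    (fun a => by
      rw [← mem_fixed_subfield]
      constructor
      · intro ha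
        exact ⟨⟨a, ha⟩, rfl⟩
      · rintro ⟨b, rfl⟩
        exact b.2), hK, hfe]

/-- **the number of classes** for a graph-field involution -/
theorem splitClassCount_psi [Fintype F] (p f : ℕ) [Fact p.Prime] (hF : Fintype.card F = p ^ f)
    (hn : 2 ≤ n) (σ : RingAut F) (hσ1 : σ ≠ 1) (hσ2 : σ * σ = 1) :
    Cfsg.splitClassCount (cG (F := F) (n := n)).range (Cfsg.Inn PSLn) (fld σ * gam)
      = Nat.gcd n (p ^ (f / 2) - 1) := by
  haveI : Nonempty (Fin n) := ⟨⟨0, by omega⟩⟩
  rw [splitClassCount_range, comap_cent_psi hn σ hσ1 hσ2,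
    Subgroup.index_comap_of_surjective _ Matrix.GeneralLinearGroup.det_surjective,
    index_sup_pow, card_ratio_nrmOne p f hF σ hσ1 hσ2]

/-- **the centraliser of a graph-field involution in the inner-diagonal group** -/
theorem exists_cent_psi_equiv [Finite F] (hn : 2 ≤ n) (σ : RingAut F) (hσ1 : σ ≠ 1)
    (hσ2 : σ * σ = 1) (q : ℕ) (hq : ∀ x : F, σ x = x ^ q) :
    Nonempty (↥((cG (F := F) (n := n)).range ⊓ Subgroup.centralizer {fld σ * gam})
      ≃* Cfsg.PGU n F q) := by
  obtain ⟨Ψ, hΨ⟩ : ∃ Ψ : ↥(Cfsg.GU n F q) →*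
      ↥((cG (F := F) (n := n)).range ⊓ Subgroup.centralizer {fld σ * gam}),
      ∀ h, (Ψ h : MulAut PSLn) = cG (h : GLn) :=
    ⟨(cG.comp (Cfsg.GU n F q).subtype).codRestrict _ (fun h =>
      (cent_psi_iff hn σ hσ1 hσ2 _).mpr ⟨h.1, (mem_GU_iff σ q hq h.1).mp h.2, rfl⟩),
      fun _ => rfl⟩
  have hsurj : Function.Surjective Ψ := by
    intro β
    obtain ⟨g, hg, e⟩ := (cent_psi_iff hn σ hσ1 hσ2 _).mp β.2
    refine ⟨⟨g, (mem_GU_iff σ q hq g).mpr hg⟩, ?_⟩
    apply Subtype.ext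
    rw [hΨ, e]
  have hker : Ψ.ker = (Cfsg.Geo.scalars (Fin n) F).subgroupOf (Cfsg.GU n F q) := by
    ext h
    rw [MonoidHom.mem_ker, Subgroup.mem_subgroupOf]
    have h1 : Cfsg.Geo.scalars (Fin n) F = (cG (F := F) (n := n)).ker := by
      rw [cG_ker hn, Matrix.GeneralLinearGroup.center_eq_range_scalar]
      rfl
    rw [h1, MonoidHom.mem_ker, ← hΨ]
    constructor
    · intro h
      rw [h]
      rfl
    · intro h
      apply Subtype.ext
      rw [h]
      rfl
  exact ⟨(QuotientGroup.quotientKerEquivOfSurjective Ψ hsurj).symm.trans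
    (QuotientGroup.quotientMulEquivOfEq hker)⟩

end Cfsg.Agent.Lib.Helper9.APSL
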