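import Mathlib
import Cfsg.Agent.Lib.Helper9.APSL31

set_option autoImplicit false

/-! Graph-field involutions of `PSL_n(F)`: the main theorem. -/

namespace Cfsg.Agent.Lib.Helper9.APSL

open Matrix

variable {F : Type*} [Field F] {n : ℕ}

local notation "Mn" => Matrix (Fin n) (Fin n) F
local notation "SLn" => Matrix.SpecialLinearGroup (Fin n) F
local notation "PSLn" => Matrix.ProjectiveSpecialLinearGroup (Fin n) F
local notation "Vn" => (Fin n → F)
local notation "GLn" => GL (Fin n) F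

theorem fld_comm [Fintype F] (p f : ℕ) [Fact p.Prime] [CharP F p]
    (hF : Fintype.card F = p ^ f) (ρ σ : RingAut F) :
    fld (n := n) ρ * fld σ = fld σ * fld ρ := by
  rw [← map_mul, ← map_mul, ringAut_comm p f hF]

/-- the standard automorphisms `fld ρ` and `fld ρ * gam` commute with `fld σ * gam` -/
theorem std_comm_psi [Fintype F] (p f : ℕ) [Fact p.Prime] [CharP F p]
    (hF : Fintype.card F = p ^ f) (ρ σ : RingAut F) :
    fld (n := n) ρ * (fld σ * gam) = (fld σ * gam) * fld ρ ∧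
    (fld (n := n) ρ * gam) * (fld σ * gam) = (fld σ * gam) * (fld ρ * gam) := by
  have h1 : fld (n := n) ρ * (fld σ * gam) = (fld σ * gam) * fld ρ := by
    calc fld (n := n) ρ * (fld σ * gam) = (fld ρ * fld σ) * gam := by rw [mul_assoc]
      _ = (fld σ * fld ρ) * gam := by rw [fld_comm p f hF]
      _ = fld σ * (fld ρ * gam) := by rw [mul_assoc]
      _ = fld σ * (gam * fld ρ) := by rw [gam_mul_fld]
      _ = (fld σ * gam) * fld ρ := by rw [mul_assoc]
  refine ⟨h1, ?_⟩
  calc (fld (n := n) ρ * gam) * (fld σ * gam) = fld ρ * (gam * fld σ) * gam := by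
        simp only [mul_assoc]
    _ = fld ρ * (fld σ * gam) * gam := by rw [gam_mul_fld]
    _ = (fld σ * gam) * fld ρ * gam := by rw [h1]
    _ = _ := by simp only [mul_assoc]

/-- **S2704 in general form** -/
theorem graphfield_involution_main [Fintype F] (p f : ℕ) [Fact p.Prime]
    (hF : Fintype.card F = p ^ f) (hn : 3 ≤ n) (x : MulAut PSLn)
    (hx : Cfsg.IsGraphFieldAutClassPSL x) (hx2 : orderOf x = 2) :
    Even f ∧
    (∀ y : MulAut PSLn, Cfsg.IsGraphFieldAutClassPSL y → orderOf y = 2 →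
      Cfsg.IsConjUnder (Cfsg.inndiagPSL n F) x y) ∧
    Nonempty (↥(Cfsg.inndiagPSL n F ⊓ Subgroup.centralizer {x}) ≃* Cfsg.PGU n F (p ^ (f / 2))) ∧
    Cfsg.splitClassCount (Cfsg.inndiagPSL n F) (Cfsg.Inn PSLn) x
      = Nat.gcd n (p ^ (f / 2) - 1) := by
  haveI : CharP F p := charP_of_card p f hF
  have hn2 : 2 ≤ n := by omega
  obtain ⟨-, α, φ, γ, σ, hσ, hφ, hγ, e⟩ := hx
  have e1 : α * x * α⁻¹ = fld σ * gam := by
    rw [e, eq_fld_of_stdField hφ, eq_gam_of_inverseTranspose hγ]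
    rfl
  have hord' : orderOf (fld (n := n) σ * gam) = 2 := by
    rw [← hx2, ← e1, orderOf_conj']
  obtain ⟨-, hσ2⟩ := graphfield_prime_order p hn σ Nat.prime_two hord'
  have hσ1 : (σ : RingAut F) ≠ 1 := hσ
  obtain ⟨hev, hq⟩ := involution_eq_pow p f hF σ hσ1 hσ2
  rw [inndiagPSL_eq]
  haveI hD := cG_range_normal (F := F) (n := n) p hn2
  refine ⟨hev, ?_, ?_, ?_⟩
  · rintro y ⟨-, β, φ', γ', τ, hτ, hφ', hγ', e'⟩ hy2
    have e2 : β * y * β⁻¹ = fld τ * gam := by
      rw [e', eq_fld_of_stdField hφ', eq_gam_of_inverseTranspose hγ']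
      rfl
    have hordy : orderOf (fld (n := n) τ * gam) = 2 := by
      rw [← hy2, ← e2, orderOf_conj']
    obtain ⟨-, hτ2⟩ := graphfield_prime_order p hn τ Nat.prime_two hordy
    have hτ1 : (τ : RingAut F) ≠ 1 := hτ
    have hF' : Nat.card F = p ^ f := by rw [Nat.card_eq_fintype_card, hF]
    haveI := (ringAut_cyclic_card' p f hF').1
    haveI : Finite (RingAut F) := finite_ringAut
    have hστ : (τ : RingAut F) = σ :=
      unique_involution (orderOf_involution hτ1 hτ2) (orderOf_involution hσ1 hσ2)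
    rw [hστ] at e2
    -- θ = α β⁻¹ conjugates β y β⁻¹ to α y α⁻¹
    obtain ⟨g, ρ, hθ | hθ⟩ := aut_PSL_std p hn2 (α * β⁻¹)
    · have hy : α * y * α⁻¹ = cG g * (fld σ * gam) * (cG g)⁻¹ := by
        have h1 : α * y * α⁻¹ = (α * β⁻¹) * (β * y * β⁻¹) * (α * β⁻¹)⁻¹ := by group
        rw [h1, e2, hθ]
        have hc := (std_comm_psi (n := n) p f hF ρ σ).1
        calc liftAut (conjSL g) * liftAut (fieldSL ρ) * (fld σ * gam)
              * (liftAut (conjSL g) * liftAut (fieldSL ρ))⁻¹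
            = cG g * (fld ρ * (fld σ * gam)) * (fld ρ)⁻¹ * (cG g)⁻¹ := by
              rw [_root_.mul_inv_rev]
              simp only [mul_assoc]
              rfl
          _ = cG g * ((fld σ * gam) * fld ρ) * (fld ρ)⁻¹ * (cG g)⁻¹ := by rw [hc]
          _ = _ := by group
      refine ⟨α⁻¹ * cG g * α, ?_, ?_⟩
      · have := hD.conj_mem (cG g) ⟨g, rfl⟩ α⁻¹
        rwa [inv_inv] at this
      · calc y = α⁻¹ * (α * y * α⁻¹) * α := by group
          _ = α⁻¹ * (cG g * (α * x * α⁻¹) * (cG g)⁻¹) * α := by rw [hy, e1]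
          _ = _ := by group
    · have hy : α * y * α⁻¹ = cG g * (fld σ * gam) * (cG g)⁻¹ := by
        have h1 : α * y * α⁻¹ = (α * β⁻¹) * (β * y * β⁻¹) * (α * β⁻¹)⁻¹ := by group
        rw [h1, e2, hθ]
        have hc := (std_comm_psi (n := n) p f hF ρ σ).2
        calc liftAut (conjSL g) * liftAut (fieldSL ρ) * liftAut invT * (fld σ * gam)
              * (liftAut (conjSL g) * liftAut (fieldSL ρ) * liftAut invT)⁻¹
            = cG g * ((fld ρ * gam) * (fld σ * gam)) * (fld ρ * gam)⁻¹ * (cG g)⁻¹ := by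
              rw [_root_.mul_inv_rev, _root_.mul_inv_rev, _root_.mul_inv_rev]
              simp only [mul_assoc]
              rfl
          _ = cG g * ((fld σ * gam) * (fld ρ * gam)) * (fld ρ * gam)⁻¹ * (cG g)⁻¹ := by rw [hc]
          _ = _ := by group
      refine ⟨α⁻¹ * cG g * α, ?_, ?_⟩
      · have := hD.conj_mem (cG g) ⟨g, rfl⟩ α⁻¹
        rwa [inv_inv] at this
      · calc y = α⁻¹ * (α * y * α⁻¹) * α := by group
          _ = α⁻¹ * (cG g * (α * x * α⁻¹) * (cG g)⁻¹) * α := by rw [hy, e1]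
          _ = _ := by group
  · obtain ⟨E⟩ := exists_cent_psi_equiv hn2 σ hσ1 hσ2 (p ^ (f / 2)) hq
    exact ⟨(centInfConjEquiv (cG (F := F) (n := n)).range α x).trans
      ((MulEquiv.subgroupCongr (by rw [e1])).trans E)⟩
  · rw [← splitClassCount_conj _ _ α x, e1]
    exact splitClassCount_psi p f hF hn2 σ hσ1 hσ2

end Cfsg.Agent.Lib.Helper9.APSL
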