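import Mathlib
import Cfsg.Prelude
import Cfsg.Agent.Lib.Helper8.AschZ1
import Cfsg.Agent.Lib.Helper5.HermPerp

set_option autoImplicit false
set_option linter.unusedSectionVars false
set_option linter.unusedVariables false
set_option linter.style.longLine false
set_option linter.unusedSimpArgs false
open Cfsg

namespace Cfsg.Agent.Lib.Helper9.AschU

open Module Matrix
open Cfsg.Geo
open Cfsg.Agent.Lib.Helper8.Asch
open Cfsg.Agent.Lib.Helper5 Cfsg.Agent.Lib.Helper8
open Cfsg.Agent.Lib.Helper5.Herm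
open Cfsg.Agent.Lib.Helper5.HermBridge (hermSesq hermSesq_apply hermSesq_nondegenerate sigma_apply sigma_sigma sigma_ne_id)
open Cfsg.Agent.Lib.Helper5.HermPair Cfsg.Agent.Lib.Helper5.HermPerp
open Cfsg.Agent.Lib.Helper5.SUSingularMax

variable {F : Type*} [Field F] [Fintype F] {q : ℕ} (hF : Fintype.card F = q ^ 2) {n : ℕ}

/-- the adjoint identity for the standard hermitian form -/
theorem herm_adj (X : Matrix (Fin n) (Fin n) F) (u v : Fin n → F) :
    hermForm n F q (X *ᵥ u) v = hermForm n F q u (Asch.star (HermBridge.sigma hF) X *ᵥ v) := by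
  unfold hermForm
  have h1 : ∀ j, (Asch.star (HermBridge.sigma hF) X *ᵥ v) j ^ q = ∑ i, X i j * v i ^ q := by
    intro j
    simp only [Matrix.mulVec, dotProduct, Asch.star_apply, sigma_apply]
    rw [pow_q_sum hF]
    refine Finset.sum_congr rfl fun i _ => ?_
    rw [mul_pow, pow_q_pow_q hF]
  simp only [h1]
  simp only [Matrix.mulVec, dotProduct, Finset.sum_mul, Finset.mul_sum]
  rw [Finset.sum_comm]
  refine Finset.sum_congr rfl fun j _ => Finset.sum_congr rfl fun i _ => ?_
  ring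

theorem herm_adj' (X : Matrix (Fin n) (Fin n) F) (u v : Fin n → F) :
    hermForm n F q u (X *ᵥ v) = hermForm n F q (Asch.star (HermBridge.sigma hF) X *ᵥ u) v := by
  rw [herm_adj hF, Asch.star_star (HermBridge.sigma hF) (sigma_sigma hF)]

include hF in
theorem herm_eq_zero_right (v : Fin n → F) (h : ∀ u, hermForm n F q u v = 0) : v = 0 := by
  apply (hermSesq_nondegenerate hF n).1 v
  intro y
  rw [hermSesq_apply]
  exact h y

include hF in
theorem herm_eq_zero_left (u : Fin n → F) (h : ∀ v, hermForm n F q u v = 0) : u = 0 := by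
  apply herm_eq_zero_right hF u
  intro v
  rw [← hermForm_conj hF, h v, zero_pow (q_ne_zero hF)]

/-- membership in `GU` in matrix terms -/
theorem mem_GU_iff (g : GL (Fin n) F) :
    g ∈ GU n F q ↔ Asch.star (HermBridge.sigma hF) (g : Matrix (Fin n) (Fin n) F) * (g : Matrix (Fin n) (Fin n) F) = 1 := by
  constructor
  · intro hg
    have hg' : ∀ u v, hermForm n F q ((g : Matrix (Fin n) (Fin n) F) *ᵥ u)
        ((g : Matrix (Fin n) (Fin n) F) *ᵥ v) = hermForm n F q u v := hg
    have key : ∀ v, (Asch.star (HermBridge.sigma hF) (g : Matrix (Fin n) (Fin n) F) * (g : Matrix (Fin n) (Fin n) F)) *ᵥ v = v := by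
      intro v
      rw [← sub_eq_zero]
      apply herm_eq_zero_right hF
      intro u
      rw [sub_eq_add_neg, hermForm_add_right hF, HermEich.hermForm_neg_right hF, ← sub_eq_add_neg,
        sub_eq_zero, ← Matrix.mulVec_mulVec, ← herm_adj hF, hg']
    apply Matrix.toLin'.injective
    apply LinearMap.ext
    intro v
    rw [Matrix.toLin'_apply, key, Matrix.toLin'_one, LinearMap.id_apply]
  · intro h u v
    show hermForm n F q ((g : Matrix (Fin n) (Fin n) F) *ᵥ u)
        ((g : Matrix (Fin n) (Fin n) F) *ᵥ v) = hermForm n F q u v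
    rw [herm_adj hF, Matrix.mulVec_mulVec, h, Matrix.one_mulVec]

theorem star_eq_inv_of_mem_GU {g : GL (Fin n) F} (hg : g ∈ GU n F q) :
    Asch.star (HermBridge.sigma hF) (g : Matrix (Fin n) (Fin n) F) = ((g⁻¹ : GL (Fin n) F) : Matrix (Fin n) (Fin n) F) := by
  have h := (mem_GU_iff hF g).mp hg
  calc Asch.star (HermBridge.sigma hF) (g : Matrix (Fin n) (Fin n) F)
      = Asch.star (HermBridge.sigma hF) (g : Matrix (Fin n) (Fin n) F) * ((g : Matrix (Fin n) (Fin n) F) *
          ((g⁻¹ : GL (Fin n) F) : Matrix (Fin n) (Fin n) F)) := by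
        rw [← Units.val_mul, mul_inv_cancel, Units.val_one, mul_one]
    _ = ((g⁻¹ : GL (Fin n) F) : Matrix (Fin n) (Fin n) F) := by rw [← mul_assoc, h, one_mul]

theorem FInv_one_of_le_GU {N : Subgroup (GL (Fin n) F)} (hN : N ≤ GU n F q) :
    FInv (HermBridge.sigma hF) N (1 : Matrix (Fin n) (Fin n) F) := by
  intro x hx
  rw [mul_one]
  exact (mem_GU_iff hF x).mp (hN hx)

/-- invariance of a subspace under a subgroup, matrix form -/
def Inv (H : Subgroup (GL (Fin n) F)) (W : Submodule F (Fin n → F)) : Prop :=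
  ∀ h ∈ H, ∀ w ∈ W, (h : Matrix (Fin n) (Fin n) F) *ᵥ w ∈ W

theorem Inv.map_eq {H : Subgroup (GL (Fin n) F)} {W : Submodule F (Fin n → F)} (hW : Inv H W)
    {h : GL (Fin n) F} (hh : h ∈ H) : W.map (Matrix.toLin' (h : Matrix (Fin n) (Fin n) F)) = W := by
  apply le_antisymm
  · rintro _ ⟨w, hw, rfl⟩
    rw [Matrix.toLin'_apply]
    exact hW h hh w hw
  · intro w hw
    refine ⟨((h⁻¹ : GL (Fin n) F) : Matrix (Fin n) (Fin n) F) *ᵥ w, hW _ (H.inv_mem hh) w hw, ?_⟩
    rw [Matrix.toLin'_apply, Matrix.mulVec_mulVec, ← Units.val_mul, mul_inv_cancel, Units.val_one,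
      Matrix.one_mulVec]

theorem Inv.le_stab {H : Subgroup (GL (Fin n) F)} {W : Submodule F (Fin n → F)} (hW : Inv H W) :
    H ≤ subspaceStabilizer W := by
  intro h hh v
  constructor
  · intro hv
    exact hW h hh v hv
  · intro hv
    have hv' : (h : Matrix (Fin n) (Fin n) F) *ᵥ v ∈ W := hv
    have := hW _ (H.inv_mem hh) _ hv'
    rwa [Matrix.mulVec_mulVec, ← Units.val_mul, inv_mul_cancel, Units.val_one,
      Matrix.one_mulVec] at this

theorem Inv.perp {H : Subgroup (GL (Fin n) F)} (hH : H ≤ GU n F q) {W : Submodule F (Fin n → F)}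
    (hW : Inv H W) : Inv H (perpS hF W) := by
  intro h hh v hv w hw
  rw [herm_adj' hF, star_eq_inv_of_mem_GU hF (hH hh)]
  exact hv _ (hW _ (H.inv_mem hh) w hw)

theorem Inv.inf {H : Subgroup (GL (Fin n) F)} {W W' : Submodule F (Fin n → F)}
    (hW : Inv H W) (hW' : Inv H W') : Inv H (W ⊓ W') :=
  fun h hh w hw => ⟨hW h hh w hw.1, hW' h hh w hw.2⟩

/-- a subspace meeting its perp trivially is non-degenerate -/
theorem nondegOn_of_inf_perp (W : Submodule F (Fin n → F)) (hW : W ⊓ perpS hF W = ⊥) :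
    IsNondegenerateOn (hermForm n F q) W := by
  intro w hw hw0
  have h1 : ∃ x ∈ W, hermForm n F q x w ≠ 0 := by
    by_contra hcon
    push Not at hcon
    have : w ∈ W ⊓ perpS hF W := ⟨hw, fun x hx => hcon x hx⟩
    rw [hW] at this
    exact hw0 ((Submodule.mem_bot F).mp this)
  refine ⟨h1, ?_⟩
  obtain ⟨x, hx, hxw⟩ := h1
  refine ⟨x, hx, ?_⟩
  intro h0
  apply hxw
  rw [← hermForm_conj hF, h0, zero_pow (q_ne_zero hF)]

theorem inf_perp_of_nondegOn (W : Submodule F (Fin n → F))
    (hW : IsNondegenerateOn (hermForm n F q) W) : W ⊓ perpS hF W = ⊥ := by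
  rw [eq_bot_iff]
  intro w hw
  rw [Submodule.mem_bot]
  by_contra hw0
  obtain ⟨⟨x, hx, hxw⟩, -⟩ := hW w hw.1 hw0
  exact hxw (hw.2 x hx)

theorem sup_perp_of_inf_perp (W : Submodule F (Fin n → F)) (hW : W ⊓ perpS hF W = ⊥) :
    W ⊔ perpS hF W = ⊤ := by
  apply Submodule.eq_top_of_finrank_eq
  have h1 := Submodule.finrank_sup_add_finrank_inf_eq W (perpS hF W)
  rw [hW, finrank_bot, add_zero] at h1
  rw [h1, Module.finrank_fin_fun]
  have := finrank_perpS hF W
  omega

theorem totSing_inf_perp (W : Submodule F (Fin n → F)) :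
    IsTotallySingularFor (hermForm n F q) (W ⊓ perpS hF W) :=
  fun u hu v hv => hv.2 u hu.1

end Cfsg.Agent.Lib.Helper9.AschU
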