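import Mathlib
import Cfsg.Prelude
import Cfsg.Agent.Lib.Helper9.AschU1

set_option autoImplicit false
set_option linter.unusedSectionVars false
set_option linter.unusedVariables false
set_option linter.style.longLine false
set_option linter.unusedSimpArgs false
open Cfsg

namespace Cfsg.Agent.Lib.Helper9.AschU

open Module Matrix
open Cfsg.Geo
open Cfsg.Agent.Lib.Helper8.Asch
open Cfsg.Agent.Lib.Helper5 Cfsg.Agent.Lib.Helper8
open Cfsg.Agent.Lib.Helper5.Herm
open Cfsg.Agent.Lib.Helper5.HermBridge (hermSesq hermSesq_apply hermSesq_nondegenerate sigma_apply sigma_sigma sigma_ne_id)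
open Cfsg.Agent.Lib.Helper5.HermPair Cfsg.Agent.Lib.Helper5.HermPerp
open Cfsg.Agent.Lib.Helper5.SUSingularMax

variable {F : Type*} [Field F] [Fintype F] {q : ℕ} (hF : Fintype.card F = q ^ 2) {n : ℕ}

/-- the conclusion "contained in a member of a unitary class" -/
def UC (n : ℕ) (F : Type*) [Field F] [Fintype F] (q : ℕ) (H : Subgroup (GL (Fin n) F)) : Prop :=
  ∃ M : Subgroup (GL (Fin n) F), InUnitaryClass n F q M ∧ H ≤ M

theorem UC_C1a {H : Subgroup (GL (Fin n) F)} (hH : H ≤ GU n F q) (W : Submodule F (Fin n → F))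
    (hW0 : W ≠ ⊥) (hts : IsTotallySingularFor (hermForm n F q) W) (hinv : Inv H W) : UC n F q H :=
  ⟨subspaceStabilizer W ⊓ GU n F q, Or.inl (Or.inl ⟨W, hW0, hts, rfl⟩), le_inf hinv.le_stab hH⟩

theorem UC_C1b {H : Subgroup (GL (Fin n) F)} (hH : H ≤ GU n F q) (W : Submodule F (Fin n → F))
    (hW0 : W ≠ ⊥) (hnd : IsNondegenerateOn (hermForm n F q) W) (hdim : 2 * finrank F W < n)
    (hinv : Inv H W) : UC n F q H :=
  ⟨subspaceStabilizer W ⊓ GU n F q, Or.inl (Or.inr (Or.inl ⟨W, hW0, hnd, hdim, rfl⟩)),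
    le_inf hinv.le_stab hH⟩

theorem UC_C2a {H : Subgroup (GL (Fin n) F)} (hH : H ≤ GU n F q) {t : ℕ} (k : ℕ)
    (D : Fin t → Submodule F (Fin n → F))
    (hD : IsNondegenerateMDecomposition (hermForm n F q) k D)
    (hperm : ∀ h ∈ H, ∃ σ : Equiv.Perm (Fin t), ∀ i,
      (D i).map (Matrix.toLin' (h : Matrix (Fin n) (Fin n) F)) = D (σ i)) : UC n F q H :=
  ⟨decompositionStabilizer D ⊓ GU n F q,
    Or.inl (Or.inr (Or.inr (Or.inl ⟨t, k, D, hD, rfl⟩))),
    le_inf (fun h hh => hperm h hh) hH⟩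

theorem UC_C2b {H : Subgroup (GL (Fin n) F)} (hH : H ≤ GU n F q) (k : ℕ)
    (D : Fin 2 → Submodule F (Fin n → F)) (hk : 2 * k = n)
    (hD : IsMDecomposition k D) (hts : ∀ i, IsTotallySingularFor (hermForm n F q) (D i))
    (hperm : ∀ h ∈ H, ∃ σ : Equiv.Perm (Fin 2), ∀ i,
      (D i).map (Matrix.toLin' (h : Matrix (Fin n) (Fin n) F)) = D (σ i)) : UC n F q H :=
  ⟨decompositionStabilizer D ⊓ GU n F q,
    Or.inl (Or.inr (Or.inr (Or.inr (Or.inl ⟨k, D, hk, hD, hts, rfl⟩)))),
    le_inf (fun h hh => hperm h hh) hH⟩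

theorem exists_inv_of_not_irr (H : Subgroup (GL (Fin n) F)) (hirr : ¬ Irr (HV H)) :
    ∃ W : Submodule F (Fin n → F), Inv H W ∧ W ≠ ⊥ ∧ W ≠ ⊤ := by
  unfold Irr at hirr
  push Not at hirr
  obtain ⟨W, hW, h0, h1⟩ := hirr
  refine ⟨W, ?_, h0, h1⟩
  intro h hh w hw
  have := hW (toV h) (mem_HV hh) w hw
  rwa [toV_apply] at this

theorem finrank_sum_two (D : Fin 2 → Submodule F (Fin n → F)) :
    (⨆ i, D i) = D 0 ⊔ D 1 := by
  apply le_antisymm
  · apply iSup_le
    intro i
    fin_cases i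
    · exact le_sup_left
    · exact le_sup_right
  · exact sup_le (le_iSup D 0) (le_iSup D 1)

include hF in
theorem class_of_reducible (hn : 3 ≤ n) (H : Subgroup (GL (Fin n) F)) (hH : H ≤ GU n F q)
    (hirr : ¬ Irr (HV H)) : UC n F q H := by
  obtain ⟨W, hinv, hW0, hW1⟩ := exists_inv_of_not_irr H hirr
  have hinvP : Inv H (perpS hF W) := hinv.perp hF hH
  by_cases hR : W ⊓ perpS hF W = ⊥
  swap
  · exact UC_C1a hH _ hR (totSing_inf_perp hF W) (hinv.inf hinvP)
  have hdim := finrank_perpS hF W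
  have hsup := sup_perp_of_inf_perp hF W hR
  have hndW := nondegOn_of_inf_perp hF W hR
  have hR' : perpS hF W ⊓ perpS hF (perpS hF W) = ⊥ := by
    rw [perpS_perpS, inf_comm]
    exact hR
  have hndP := nondegOn_of_inf_perp hF (perpS hF W) hR'
  have hP0 : perpS hF W ≠ ⊥ := by
    intro h0
    rw [h0, sup_bot_eq] at hsup
    exact hW1 hsup
  by_cases h1 : 2 * finrank F W < n
  · exact UC_C1b hH W hW0 hndW h1 hinv
  by_cases h2 : 2 * finrank F (perpS hF W) < n
  · exact UC_C1b hH _ hP0 hndP h2 hinvP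
  -- equal dimensions
  have hk : finrank F W = finrank F (perpS hF W) := by omega
  set k := finrank F W with hkdef
  let D : Fin 2 → Submodule F (Fin n → F) := ![W, perpS hF W]
  have hD0 : D 0 = W := rfl
  have hD1 : D 1 = perpS hF W := rfl
  have hdec : IsMDecomposition k D := by
    refine ⟨le_refl _, ?_, ?_, ?_, ?_⟩
    · rw [hkdef]
      apply Module.finrank_pos_iff.mpr
      exact Submodule.nontrivial_iff_ne_bot.mpr hW0
    · intro i
      fin_cases i
      · exact hkdef.symm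
      · exact hk.symm
    · rw [iSupIndep_pair (i := (0 : Fin 2)) (j := 1) (by decide) (by
        intro i; fin_cases i <;> simp)]
      rw [hD0, hD1, disjoint_iff]
      exact hR
    · rw [finrank_sum_two]
      exact hsup
  refine UC_C2a hH k D ⟨hdec, ?_, ?_⟩ ?_
  · intro i
    fin_cases i
    · exact hndW
    · exact hndP
  · intro i j hij
    fin_cases i <;> fin_cases j
    · exact absurd rfl hij
    · intro u hu v hv
      exact hv u hu
    · intro u hu v hv
      exact HermEich.herm_symm_zero hF n (hu v hv)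
    · exact absurd rfl hij
  · intro h hh
    refine ⟨1, fun i => ?_⟩
    fin_cases i
    · exact hinv.map_eq hh
    · exact hinvP.map_eq hh

end Cfsg.Agent.Lib.Helper9.AschU
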