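import Mathlib
import Cfsg.Prelude
import Cfsg.Agent.Lib.Helper8.AschZ1

set_option autoImplicit false
set_option linter.unusedSectionVars false
set_option linter.unusedVariables false
set_option linter.style.longLine false
set_option linter.unusedSimpArgs false
open Cfsg

namespace Cfsg.Agent.Lib.Helper9.AschU

open Module
open Cfsg.Agent.Lib.Helper8.Asch

section
variable {F : Type*} [Field F] {V : Type*} [AddCommGroup V] [Module F V]

/-- Clifford dichotomy, keeping the information that the blocks are `A`-stable and that every
subspace stable under `A` and its commutant is a sum of blocks. -/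
theorem clifford_fi [FiniteDimensional F V] [Nontrivial V] (H : Subgroup (GLV F V))
    (hirr : Irr H) (A : Subalgebra F (Module.End F V)) (hA : ∀ h ∈ H, Nrm A h) :
    IsIsotypic A V ∨ ∃ (t m : ℕ) (D : Fin t → Submodule F V), 2 ≤ t ∧ 0 < m ∧
      (∀ i, Module.finrank F (D i) = m) ∧ iSupIndep D ∧ iSup D = ⊤ ∧
      (∀ h ∈ H, ∃ σ : Equiv.Perm (Fin t), ∀ i, (D i).map (h : Module.End F V) = D (σ i)) ∧
      (∀ i, ∀ a ∈ A, ∀ v ∈ D i, a v ∈ D i) ∧
      (∀ i, ∀ c ∈ Cmt A, ∀ v ∈ D i, c v ∈ D i) ∧
      (∀ W : Submodule F V, (∀ a ∈ A, ∀ w ∈ W, a w ∈ W) → (∀ c ∈ Cmt A, ∀ w ∈ W, c w ∈ W) →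
        W = ⨆ i, ⨆ (_ : D i ≤ W), D i) := by
  have ss : IsSemisimpleModule A V := clifford_semisimple H hirr A hA
  have hnoeth : IsNoetherian A V := isNoetherian_of_tower F inferInstance
  have hfin : Finite (isotypicComponents A V) := inferInstance
  have hsup : sSup (isotypicComponents A V) = ⊤ := sSup_isotypicComponents A V
  have hne : (isotypicComponents A V).Nonempty := by
    by_contra hcon
    rw [Set.not_nonempty_iff_eq_empty] at hcon
    rw [hcon, sSup_empty] at hsup
    exact bot_ne_top hsup
  obtain ⟨c₀, hc₀⟩ := hne
  set O : Set (Submodule A V) :=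
    {c | ∃ h, ∃ hh : h ∈ H, c = mapSub A h (Nrm.inv_of_subgroup hA hh) c₀} with hO
  have hOsub : O ⊆ isotypicComponents A V := by
    rintro c ⟨h, hh, rfl⟩
    exact mapSub_mem_isotypicComponents A h _ (hA h hh) c₀ hc₀
  have hc₀O : c₀ ∈ O := ⟨1, H.one_mem, (mapSub_one A _ c₀).symm⟩
  have hOtop : sSup O = ⊤ := by
    have hstab : ∀ h (hh : h ∈ H), mapSub A h (Nrm.inv_of_subgroup hA hh) (sSup O) ≤ sSup O := by
      intro h hh
      have h1 : mapSub A h (Nrm.inv_of_subgroup hA hh) (sSup O) =
          mapIso A h (Nrm.inv_of_subgroup hA hh) (hA h hh) (sSup O) := rfl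
      rw [h1, OrderIso.map_sSup]
      apply iSup₂_le
      rintro c ⟨g, hg, rfl⟩
      apply le_sSup
      refine ⟨h * g, H.mul_mem hh hg, ?_⟩
      exact (mapSub_mul A h g (Nrm.inv_of_subgroup hA hh) (Nrm.inv_of_subgroup hA hg)
        (Nrm.inv_of_subgroup hA (H.mul_mem hh hg)) c₀).symm
    rcases eq_bot_or_top_of_stable H hirr A hA (sSup O) hstab with h | h
    · exfalso
      have h1 : c₀ ≤ sSup O := le_sSup hc₀O
      rw [h] at h1
      exact (bot_lt_isotypicComponents hc₀).ne' (le_bot_iff.mp h1)
    · exact h
  have hall : ∀ c ∈ isotypicComponents A V, c ∈ O := by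
    intro c hc
    by_contra hcO
    have hind := sSupIndep_isotypicComponents A V hc
    have h1 : sSup O ≤ sSup (isotypicComponents A V \ {c}) := by
      apply sSup_le_sSup
      intro d hd
      refine ⟨hOsub hd, ?_⟩
      rintro rfl
      exact hcO hd
    rw [hOtop, top_le_iff] at h1
    rw [h1, disjoint_top] at hind
    exact (bot_lt_isotypicComponents hc).ne' hind
  set t := Nat.card (isotypicComponents A V) with ht
  have e : Fin t ≃ isotypicComponents A V := (Finite.equivFin _).symm
  by_cases ht2 : 2 ≤ t
  · right
    set m := Module.finrank F (c₀.restrictScalars F) with hm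
    refine ⟨t, m, fun i => (e i).1.restrictScalars F, ht2, ?_, ?_, ?_, ?_, ?_, ?_, ?_, ?_⟩
    · rw [hm]
      apply Module.finrank_pos_iff.mpr
      have : c₀.restrictScalars F ≠ ⊥ := by
        intro h
        exact (bot_lt_isotypicComponents hc₀).ne'
          ((Submodule.restrictScalars_eq_bot_iff _ _ _).mp h)
      exact Submodule.nontrivial_iff_ne_bot.mpr this
    · intro i
      obtain ⟨h, hh, hc⟩ := hall (e i).1 (e i).2
      show Module.finrank F ((e i).1.restrictScalars F) = m
      rw [hc, restrictScalars_mapSub, hm]
      have hinj : Function.Injective (h : Module.End F V) := by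
        intro x y hxy
        have := congrArg ((h⁻¹ : GLV F V) : Module.End F V) hxy
        rwa [inv_apply_apply, inv_apply_apply] at this
      exact (LinearEquiv.finrank_eq (Submodule.equivMapOfInjective _ hinj _)).symm
    · apply iSupIndep_restrictScalars A (fun i => (e i).1)
      have h1 := (sSupIndep_iff _).mp (sSupIndep_isotypicComponents A V)
      exact h1.comp e.injective
    · rw [← Submodule.restrictScalars_iSup, Submodule.restrictScalars_eq_top_iff]
      rw [← hsup, sSup_eq_iSup']
      exact e.iSup_comp (g := fun c : isotypicComponents A V => c.1)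
    · intro h hh
      let f : isotypicComponents A V → isotypicComponents A V := fun c =>
        ⟨mapSub A h (Nrm.inv_of_subgroup hA hh) c.1,
          mapSub_mem_isotypicComponents A h _ (hA h hh) c.1 c.2⟩
      have hfinj : Function.Injective f := by
        intro c d hcd
        have h1 : mapSub A h (Nrm.inv_of_subgroup hA hh) c.1 =
            mapSub A h (Nrm.inv_of_subgroup hA hh) d.1 := congrArg Subtype.val hcd
        have h2 := congrArg (mapSub A h⁻¹ (by rw [inv_inv]; exact hA h hh)) h1
        rw [mapSub_inv_mapSub _ (hA h hh), mapSub_inv_mapSub _ (hA h hh)] at h2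
        exact Subtype.ext h2
      have hfbij : Function.Bijective f := Finite.injective_iff_bijective.mp hfinj
      refine ⟨(e.trans (Equiv.ofBijective f hfbij)).trans e.symm, fun i => ?_⟩
      simp only [Equiv.trans_apply, Equiv.apply_symm_apply, Equiv.ofBijective_apply]
      rw [← restrictScalars_mapSub]
    · intro i a ha v hv
      exact (e i).1.smul_mem (⟨a, ha⟩ : A) hv
    · intro i c hc v hv
      have hfi : (e i).1.IsFullyInvariant := Submodule.IsFullyInvariant.of_mem_isotypicComponents (e i).2
      exact hfi (toEndA A c hc) hv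
    · intro W hWA hWC
      apply le_antisymm
      swap
      · apply iSup_le
        intro i
        apply iSup_le
        intro hi
        exact hi
      let W' : Submodule A V :=
        { carrier := W
          add_mem' := W.add_mem
          zero_mem' := W.zero_mem
          smul_mem' := fun a w hw => hWA a.1 a.2 w hw }
      have hfi : W'.IsFullyInvariant := by
        intro f w hw
        exact hWC (f.restrictScalars F) (restrictScalars_mem_Cmt A f) w hw
      obtain ⟨s, hs, hWs⟩ := isFullyInvariant_iff_sSup_isotypicComponents.mp hfi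
      have hWr : W = (sSup s).restrictScalars F := by rw [← hWs]; rfl
      have hstep : (sSup s).restrictScalars F = ⨆ c, ⨆ (_ : c ∈ s), c.restrictScalars F := by
        rw [sSup_eq_iSup, Submodule.restrictScalars_iSup]
        congr 1
        funext c
        rw [Submodule.restrictScalars_iSup]
      refine le_trans (le_of_eq (hWr.trans hstep)) ?_
      apply iSup_le
      intro c
      apply iSup_le
      intro hc
      have hcW : c ≤ W' := by rw [hWs]; exact le_sSup hc
      have hci : (e (e.symm ⟨c, hs hc⟩)).1 = c := by rw [Equiv.apply_symm_apply]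
      have h1 : (e (e.symm ⟨c, hs hc⟩)).1.restrictScalars F ≤ W := by
        rw [hci]
        exact fun x hx => hcW hx
      refine le_trans ?_ (le_iSup₂ (f := fun i (_ : (e i).1.restrictScalars F ≤ W) =>
        (e i).1.restrictScalars F) (e.symm ⟨c, hs hc⟩) h1)
      rw [hci]
  · left
    push Not at ht2
    have hsingle : ∀ c ∈ isotypicComponents A V, c = c₀ := by
      intro c hc
      by_contra hne
      have : 1 < t := by
        rw [ht]
        apply Finite.one_lt_card_iff_nontrivial.mpr
        exact ⟨⟨⟨c, hc⟩, ⟨c₀, hc₀⟩, fun h => hne (congrArg Subtype.val h)⟩⟩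
      omega
    have hset : isotypicComponents A V = {c₀} := by
      ext c
      constructor
      · intro hc
        exact hsingle c hc
      · rintro rfl
        exact hc₀
    rw [hset, sSup_singleton] at hsup
    obtain ⟨S, hS, rfl⟩ := hc₀
    exact (IsIsotypicOfType.of_isotypicComponent_eq_top hsup).isIsotypic

end

end Cfsg.Agent.Lib.Helper9.AschU
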