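import Mathlib
import Cfsg.Prelude
import Cfsg.Agent.Lib.Helper9.AschU2
import Cfsg.Agent.Lib.Helper9.AschU3

set_option autoImplicit false
set_option linter.unusedSectionVars false
set_option linter.unusedVariables false
set_option linter.style.longLine false
set_option linter.unusedSimpArgs false
open Cfsg

namespace Cfsg.Agent.Lib.Helper9.AschU

open Module Matrix
open Cfsg.Geo
open Cfsg.Agent.Lib.Helper8.Asch
open Cfsg.Agent.Lib.Helper5 Cfsg.Agent.Lib.Helper8
open Cfsg.Agent.Lib.Helper5.Herm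
open Cfsg.Agent.Lib.Helper5.HermBridge (hermSesq hermSesq_apply hermSesq_nondegenerate sigma_apply sigma_sigma sigma_ne_id)
open Cfsg.Agent.Lib.Helper5.HermPair Cfsg.Agent.Lib.Helper5.HermPerp
open Cfsg.Agent.Lib.Helper5.SUSingularMax

section blocks

variable {K : Type*} [Field K] {V : Type*} [AddCommGroup V] [Module K V] [FiniteDimensional K V]

theorem finrank_biSup {t : ℕ} (D : Fin t → Submodule K V) (m : ℕ)
    (hfr : ∀ i, finrank K (D i) = m) (hind : iSupIndep D) (S : Finset (Fin t)) :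
    finrank K (⨆ j ∈ S, D j : Submodule K V) = S.card * m := by
  classical
  induction S using Finset.induction_on with
  | empty => simp
  | insert a S ha ih =>
    rw [Finset.iSup_insert, Finset.card_insert_of_notMem ha]
    have hdis : Disjoint (D a) (⨆ j ∈ S, D j) := by
      have := hind.disjoint_biSup (x := a) (y := (S : Set (Fin t))) (by simpa using ha)
      simpa using this
    have h1 := Submodule.finrank_sup_add_finrank_inf_eq (D a) (⨆ j ∈ S, D j)
    rw [disjoint_iff.mp hdis, finrank_bot, add_zero, hfr, ih] at h1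
    rw [h1]
    ring

theorem biSup_univ {t : ℕ} (D : Fin t → Submodule K V) :
    (⨆ j ∈ (Finset.univ : Finset (Fin t)), D j) = ⨆ j, D j := by
  simp

end blocks

variable {F : Type*} [Field F] [Fintype F] {q : ℕ} (hF : Fintype.card F = q ^ 2) {n : ℕ}

/-- the pairing of blocks induced by the form -/
theorem exists_pairing {t : ℕ} (m : ℕ) (D : Fin t → Submodule F (Fin n → F)) (hm : 0 < m)
    (hfr : ∀ i, finrank F (D i) = m) (hind : iSupIndep D) (hsup : iSup D = ⊤)
    (hperp : ∀ i, perpS hF (D i) = ⨆ j, ⨆ (_ : D j ≤ perpS hF (D i)), D j) :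
    ∃ π : Fin t → Fin t, ∀ i j, D j ≤ perpS hF (D i) ↔ j ≠ π i := by
  classical
  have hn : n = t * m := by
    have h1 := finrank_biSup D m hfr hind Finset.univ
    rw [biSup_univ, hsup, finrank_top, Module.finrank_fin_fun, Finset.card_univ,
      Fintype.card_fin] at h1
    exact h1
  have key : ∀ i, ∃ p, ∀ j, D j ≤ perpS hF (D i) ↔ j ≠ p := by
    intro i
    set S : Finset (Fin t) := Finset.univ.filter (fun j => D j ≤ perpS hF (D i)) with hS
    have h1 : perpS hF (D i) = ⨆ j ∈ S, D j := by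
      apply le_antisymm
      · conv_lhs => rw [hperp i]
        apply iSup_le
        intro j
        apply iSup_le
        intro hj
        exact le_iSup₂ (f := fun j (_ : j ∈ S) => D j) j (by rw [hS]; simp [hj])
      · apply iSup_le
        intro j
        apply iSup_le
        intro hj
        rw [hS, Finset.mem_filter] at hj
        exact hj.2
    have h2 := finrank_biSup D m hfr hind S
    rw [← h1] at h2
    have h3 := finrank_perpS hF (D i)
    rw [hfr i, h2, hn] at h3
    have hcard : S.card + 1 = t := by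
      have : (S.card + 1) * m = t * m := by rw [add_mul, one_mul]; exact h3
      exact Nat.eq_of_mul_eq_mul_right hm this
    have hcompl : Sᶜ.card = 1 := by
      rw [Finset.card_compl, Fintype.card_fin]
      omega
    obtain ⟨p, hp⟩ := Finset.card_eq_one.mp hcompl
    refine ⟨p, fun j => ?_⟩
    have hj : j ∈ Sᶜ ↔ j = p := by rw [hp, Finset.mem_singleton]
    rw [Finset.mem_compl, hS, Finset.mem_filter] at hj
    simp only [Finset.mem_univ, true_and] at hj
    constructor
    · intro h hjp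
      exact (hj.mpr hjp) h
    · intro h
      by_contra hcon
      exact h (hj.mp hcon)
  choose π hπ using key
  exact ⟨π, hπ⟩

section pairing

variable {t : ℕ} (m : ℕ) (D : Fin t → Submodule F (Fin n → F))
  (π : Fin t → Fin t) (hπ : ∀ i j, D j ≤ perpS hF (D i) ↔ j ≠ π i)

include hπ in
theorem pairing_symm (i j : Fin t) : j = π i ↔ i = π j := by
  have h1 : ∀ a b : Fin t, D b ≤ perpS hF (D a) → D a ≤ perpS hF (D b) := by
    intro a b hab u hu v hv
    exact HermEich.herm_symm_zero hF n (hab hv u hu)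
  have h2 : j ≠ π i ↔ i ≠ π j := by
    rw [← hπ i j, ← hπ j i]
    exact ⟨h1 i j, h1 j i⟩
  exact not_iff_not.mp h2

include hπ in
theorem pairing_invol (i : Fin t) : π (π i) = i :=
  ((pairing_symm hF D π hπ i (π i)).mp rfl).symm

include hπ in
theorem pairing_equivariant {h : GL (Fin n) F} (hh : h ∈ GU n F q) (σ : Equiv.Perm (Fin t))
    (hσ : ∀ i, (D i).map (Matrix.toLin' (h : Matrix (Fin n) (Fin n) F)) = D (σ i)) (i : Fin t) :
    π (σ i) = σ (π i) := by
  have hh' : ∀ u v, hermForm n F q ((h : Matrix (Fin n) (Fin n) F) *ᵥ u)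
      ((h : Matrix (Fin n) (Fin n) F) *ᵥ v) = hermForm n F q u v := hh
  have key : ∀ j, D (σ j) ≤ perpS hF (D (σ i)) → D j ≤ perpS hF (D i) := by
    intro j hj u hu v hv
    rw [← hh']
    apply hj
    · rw [← hσ j]
      exact ⟨u, hu, Matrix.toLin'_apply _ _⟩
    · rw [← hσ i]
      exact ⟨v, hv, Matrix.toLin'_apply _ _⟩
  by_contra hne
  have h1 : D (σ (π i)) ≤ perpS hF (D (σ i)) := (hπ (σ i) (σ (π i))).mpr (Ne.symm hne)
  have h2 := key (π i) h1
  exact (hπ i (π i)).mp h2 rfl

end pairing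

theorem ne_bot_of_finrank {m : ℕ} (hm : 0 < m) (W : Submodule F (Fin n → F))
    (h : finrank F W = m) : W ≠ ⊥ := by
  intro h0
  rw [h0, finrank_bot] at h
  omega

theorem blocks_transitive (H : Subgroup (GL (Fin n) F)) (hirr : Irr (HV H)) {t : ℕ} (m : ℕ)
    (D : Fin t → Submodule F (Fin n → F)) (hm : 0 < m) (hfr : ∀ i, finrank F (D i) = m)
    (hind : iSupIndep D)
    (hperm : ∀ h ∈ H, ∃ σ : Equiv.Perm (Fin t), ∀ i,
      (D i).map (Matrix.toLin' (h : Matrix (Fin n) (Fin n) F)) = D (σ i)) (i j : Fin t) :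
    ∃ h ∈ H, (D i).map (Matrix.toLin' (h : Matrix (Fin n) (Fin n) F)) = D j := by
  set O : Set (Fin t) := {j | ∃ h ∈ H, (D i).map (Matrix.toLin' (h : Matrix (Fin n) (Fin n) F)) = D j}
    with hO
  set W : Submodule F (Fin n → F) := ⨆ j ∈ O, D j with hW
  have hiO : i ∈ O := ⟨1, H.one_mem, by simp⟩
  have hinv : ∀ u ∈ HV H, ∀ w ∈ W, (u : Module.End F (Fin n → F)) w ∈ W := by
    intro u hu w hw
    obtain ⟨g, hg, rfl⟩ := exists_of_mem_HV hu
    rw [toV_val]
    have hmap : W.map (Matrix.toLin' (g : Matrix (Fin n) (Fin n) F)) ≤ W := by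
      rw [hW, Submodule.map_iSup]
      apply iSup_le
      intro j
      rw [Submodule.map_iSup]
      apply iSup_le
      intro hj
      obtain ⟨σ, hσ⟩ := hperm g hg
      rw [hσ j]
      have : σ j ∈ O := by
        obtain ⟨h, hh, hhj⟩ := hj
        refine ⟨g * h, H.mul_mem hg hh, ?_⟩
        rw [Units.val_mul, Matrix.toLin'_mul, Submodule.map_comp, hhj, hσ j]
      exact le_iSup₂ (f := fun j (_ : j ∈ O) => D j) (σ j) this
    exact hmap ⟨w, hw, rfl⟩
  rcases hirr W hinv with h0 | h1
  · exfalso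
    have : D i ≤ W := le_iSup₂ (f := fun j (_ : j ∈ O) => D j) i hiO
    rw [h0] at this
    exact ne_bot_of_finrank hm _ (hfr i) (le_bot_iff.mp this)
  · exact hind.mem_of_biSup_eq_top h1 (ne_bot_of_finrank hm _ (hfr j))

theorem blocks_injective {t : ℕ} (m : ℕ) (D : Fin t → Submodule F (Fin n → F)) (hm : 0 < m)
    (hfr : ∀ i, finrank F (D i) = m) (hind : iSupIndep D) : Function.Injective D :=
  hind.injective (fun i => ne_bot_of_finrank hm _ (hfr i))

section cases

variable {t : ℕ} (m : ℕ) (D : Fin t → Submodule F (Fin n → F))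
  (hperp : ∀ i, perpS hF (D i) = ⨆ j, ⨆ (_ : D j ≤ perpS hF (D i)), D j)
  (π : Fin t → Fin t) (hπ : ∀ i j, D j ≤ perpS hF (D i) ↔ j ≠ π i)

include hperp hπ in
theorem perp_block_eq (i : Fin t) : perpS hF (D i) = ⨆ j, ⨆ (_ : j ≠ π i), D j := by
  conv_lhs => rw [hperp i]
  apply iSup_congr
  intro j
  exact iSup_congr_Prop (hπ i j) (fun _ => rfl)

include hperp hπ in
theorem disjoint_perp_block (hind : iSupIndep D) (i : Fin t) :
    Disjoint (D (π i)) (perpS hF (D i)) := by
  rw [perp_block_eq hF D hperp π hπ i]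
  exact hind (π i)

include hperp hπ in
theorem class_of_blocks_id {H : Subgroup (GL (Fin n) F)} (hH : H ≤ GU n F q) (ht : 2 ≤ t)
    (hm : 0 < m) (hfr : ∀ i, finrank F (D i) = m) (hind : iSupIndep D) (hsup : iSup D = ⊤)
    (hperm : ∀ h ∈ H, ∃ σ : Equiv.Perm (Fin t), ∀ i,
      (D i).map (Matrix.toLin' (h : Matrix (Fin n) (Fin n) F)) = D (σ i))
    (hid : ∀ i, π i = i) : UC n F q H := by
  refine UC_C2a hH m D ⟨⟨ht, hm, hfr, hind, hsup⟩, ?_, ?_⟩ hperm
  · intro i
    apply nondegOn_of_inf_perp hF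
    have := disjoint_perp_block hF D hperp π hπ hind i
    rw [hid i] at this
    exact disjoint_iff.mp this
  · intro i j hij u hu v hv
    have h1 : D j ≤ perpS hF (D i) := (hπ i j).mpr (by rw [hid i]; exact Ne.symm hij)
    exact h1 hv u hu

include hperp hπ in
theorem class_of_blocks_two {H : Subgroup (GL (Fin n) F)} (hH : H ≤ GU n F q) (ht : t = 2)
    (hm : 0 < m) (hfr : ∀ i, finrank F (D i) = m) (hind : iSupIndep D) (hsup : iSup D = ⊤)
    (hperm : ∀ h ∈ H, ∃ σ : Equiv.Perm (Fin t), ∀ i,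
      (D i).map (Matrix.toLin' (h : Matrix (Fin n) (Fin n) F)) = D (σ i))
    (hfpf : ∀ i, π i ≠ i) : UC n F q H := by
  subst ht
  have hn : n = 2 * m := by
    have h1 := finrank_biSup D m hfr hind Finset.univ
    rw [biSup_univ, hsup, finrank_top, Module.finrank_fin_fun, Finset.card_univ,
      Fintype.card_fin] at h1
    exact h1
  refine UC_C2b hH m D hn.symm ⟨le_refl _, hm, hfr, hind, hsup⟩ ?_ hperm
  intro i u hu v hv
  have h1 : D i ≤ perpS hF (D i) := (hπ i i).mpr (Ne.symm (hfpf i))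
  exact h1 hv u hu

end cases

end Cfsg.Agent.Lib.Helper9.AschU
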