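import Mathlib
import Cfsg.Prelude
import Cfsg.Agent.Lib.Helper9.AschU4

set_option autoImplicit false
set_option linter.unusedSectionVars false
set_option linter.unusedVariables false
set_option linter.style.longLine false
set_option linter.unusedSimpArgs false
open Cfsg

namespace Cfsg.Agent.Lib.Helper9.AschU

open Module Matrix
open Cfsg.Geo
open Cfsg.Agent.Lib.Helper8.Asch
open Cfsg.Agent.Lib.Helper5 Cfsg.Agent.Lib.Helper8
open Cfsg.Agent.Lib.Helper5.Herm
open Cfsg.Agent.Lib.Helper5.HermBridge (hermSesq hermSesq_apply hermSesq_nondegenerate sigma_apply sigma_sigma sigma_ne_id)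
open Cfsg.Agent.Lib.Helper5.HermPair Cfsg.Agent.Lib.Helper5.HermPerp
open Cfsg.Agent.Lib.Helper5.SUSingularMax

variable {F : Type*} [Field F] [Fintype F] {q : ℕ} (hF : Fintype.card F = q ^ 2) {n : ℕ}

section pairs

variable {t : ℕ} (π : Fin t → Fin t) (hinv : ∀ i, π (π i) = i) (hfpf : ∀ i, π i ≠ i)

/-- representatives of the pairs -/
abbrev Qt (π : Fin t → Fin t) : Type := {i : Fin t // i < π i}

/-- the representative of the pair of `k` -/
def rep (k : Fin t) : Qt π :=
  if h : k < π k then ⟨k, h⟩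
  else ⟨π k, by rw [hinv]; exact lt_of_le_of_ne (not_lt.mp h) (hfpf k)⟩

theorem rep_cases (k : Fin t) :
    (k < π k ∧ (rep π hinv hfpf k).1 = k) ∨ (¬ k < π k ∧ (rep π hinv hfpf k).1 = π k) := by
  unfold rep
  by_cases h : k < π k
  · left
    rw [dif_pos h]
    exact ⟨h, rfl⟩
  · right
    rw [dif_neg h]
    exact ⟨h, rfl⟩

theorem mem_pair_rep (k : Fin t) :
    k = (rep π hinv hfpf k).1 ∨ k = π (rep π hinv hfpf k).1 := by
  rcases rep_cases π hinv hfpf k with ⟨_, h⟩ | ⟨_, h⟩
  · left; exact h.symm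
  · right; rw [h, hinv]

theorem rep_pair (k : Fin t) :
    (rep π hinv hfpf k).1 = k ∨ (rep π hinv hfpf k).1 = π k := by
  rcases rep_cases π hinv hfpf k with ⟨_, h⟩ | ⟨_, h⟩
  · left; exact h
  · right; exact h

include hinv in
theorem Qt_sep (a b : Qt π) (hab : a ≠ b) :
    b.1 ≠ a.1 ∧ b.1 ≠ π a.1 ∧ π b.1 ≠ a.1 ∧ π b.1 ≠ π a.1 := by
  have h1 : b.1 ≠ a.1 := fun h => hab (Subtype.ext h.symm)
  refine ⟨h1, ?_, ?_, ?_⟩
  · intro h
    have ha := a.2
    have hb := b.2
    rw [h, hinv] at hb
    exact lt_asymm ha hb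
  · intro h
    have ha := a.2
    have hb := b.2
    rw [← h, hinv] at ha
    exact lt_asymm ha hb
  · intro h
    apply h1
    have := congrArg π h
    rwa [hinv, hinv] at this

variable (D : Fin t → Submodule F (Fin n → F))

/-- the block of a pair -/
def blk (k : Fin t) : Submodule F (Fin n → F) := D k ⊔ D (π k)

include hinv in
theorem blk_pi (k : Fin t) : blk π D (π k) = blk π D k := by
  unfold blk
  rw [hinv, sup_comm]

theorem blk_rep (k : Fin t) : blk π D (rep π hinv hfpf k).1 = blk π D k := by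
  rcases rep_pair π hinv hfpf k with h | h
  · rw [h]
  · rw [h, blk_pi π hinv]

theorem blk_eq_biSup (k : Fin t) :
    blk π D k = ⨆ i ∈ ({k, π k} : Set (Fin t)), D i := by
  unfold blk
  rw [iSup_insert, iSup_singleton]

end pairs

section main

variable {t : ℕ} (m : ℕ) (D : Fin t → Submodule F (Fin n → F))
  (hperp : ∀ i, perpS hF (D i) = ⨆ j, ⨆ (_ : D j ≤ perpS hF (D i)), D j)
  (π : Fin t → Fin t) (hπ : ∀ i j, D j ≤ perpS hF (D i) ↔ j ≠ π i)

include hperp hπ in
theorem class_of_blocks_pairs {H : Subgroup (GL (Fin n) F)} (hH : H ≤ GU n F q) (ht : 3 ≤ t)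
    (hm : 0 < m) (hfr : ∀ i, finrank F (D i) = m) (hind : iSupIndep D) (hsup : iSup D = ⊤)
    (hperm : ∀ h ∈ H, ∃ σ : Equiv.Perm (Fin t), ∀ i,
      (D i).map (Matrix.toLin' (h : Matrix (Fin n) (Fin n) F)) = D (σ i))
    (hfpf : ∀ i, π i ≠ i) : UC n F q H := by
  classical
  have hinv : ∀ i, π (π i) = i := pairing_invol hF D π hπ
  set s := Fintype.card (Qt π) with hs
  let e : Fin s ≃ Qt π := (Fintype.equivFin (Qt π)).symm
  let E : Fin s → Submodule F (Fin n → F) := fun j => blk π D (e j).1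
  have hEdef : ∀ j, E j = blk π D (e j).1 := fun j => rfl
  have hts : ∀ k, D k ≤ perpS hF (D k) := fun k => (hπ k k).mpr (Ne.symm (hfpf k))
  -- at least two pairs
  have hs2 : 2 ≤ s := by
    by_contra hcon
    have h1 : Fintype.card (Qt π) ≤ 1 := by omega
    have hall : ∀ a b : Qt π, a = b := Fintype.card_le_one_iff.mp h1
    set q₀ := rep π hinv hfpf (⟨0, by omega⟩ : Fin t) with hq₀
    have hmem : ∀ k : Fin t, k ∈ ({q₀.1, π q₀.1} : Finset (Fin t)) := by
      intro k
      rw [Finset.mem_insert, Finset.mem_singleton]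
      rcases mem_pair_rep π hinv hfpf k with h | h
      · left; rw [h, hall (rep π hinv hfpf k) q₀]
      · right; rw [h, hall (rep π hinv hfpf k) q₀]
    have h2 : (Finset.univ : Finset (Fin t)) ⊆ {q₀.1, π q₀.1} := fun k _ => hmem k
    have h3 := Finset.card_le_card h2
    rw [Finset.card_univ, Fintype.card_fin] at h3
    have h4 : ({q₀.1, π q₀.1} : Finset (Fin t)).card ≤ 2 := Finset.card_le_two
    omega
  have hEfr : ∀ j, finrank F (E j) = 2 * m := by
    intro j
    rw [hEdef]
    unfold blk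
    have hdis : Disjoint (D (e j).1) (D (π (e j).1)) :=
      hind.pairwiseDisjoint (Ne.symm (hfpf (e j).1))
    have h1 := Submodule.finrank_sup_add_finrank_inf_eq (D (e j).1) (D (π (e j).1))
    rw [disjoint_iff.mp hdis, finrank_bot, add_zero, hfr, hfr] at h1
    omega
  have hEind : iSupIndep E := by
    rw [iSupIndep_def]
    intro j
    set S : Set (Fin t) := {(e j).1, π (e j).1} with hS
    have h1 : E j = ⨆ i ∈ S, D i := blk_eq_biSup π D (e j).1
    have h2 : (⨆ (j') (_ : j' ≠ j), E j') ≤ ⨆ i ∈ Sᶜ, D i := by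
      apply iSup_le
      intro j'
      apply iSup_le
      intro hj'
      have hne : e j ≠ e j' := fun h => hj' (e.injective h).symm
      obtain ⟨k1, k2, k3, k4⟩ := Qt_sep π hinv (e j) (e j') hne
      rw [hEdef]
      unfold blk
      apply sup_le
      · apply le_iSup₂ (f := fun i (_ : i ∈ Sᶜ) => D i) (e j').1
        rw [Set.mem_compl_iff, hS, Set.mem_insert_iff, Set.mem_singleton_iff]
        push Not
        exact ⟨k1, k2⟩
      · apply le_iSup₂ (f := fun i (_ : i ∈ Sᶜ) => D i) (π (e j').1)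
        rw [Set.mem_compl_iff, hS, Set.mem_insert_iff, Set.mem_singleton_iff]
        push Not
        exact ⟨k3, k4⟩
    rw [h1]
    exact (hind.disjoint_biSup_biSup' (disjoint_compl_right) (Set.toFinite S)).mono_right h2
  have hEsup : iSup E = ⊤ := by
    rw [eq_top_iff, ← hsup]
    apply iSup_le
    intro k
    refine le_trans ?_ (le_iSup E (e.symm (rep π hinv hfpf k)))
    rw [hEdef, Equiv.apply_symm_apply, blk_rep]
    exact le_sup_left
  have hEnd : ∀ j, IsNondegenerateOn (hermForm n F q) (E j) := by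
    intro j
    apply nondegOn_of_inf_perp hF
    rw [eq_bot_iff]
    rintro w ⟨hw1, hw2⟩
    rw [Submodule.mem_bot]
    set k := (e j).1 with hk
    have hw1' : w ∈ D k ⊔ D (π k) := hw1
    obtain ⟨a, ha, b, hb, rfl⟩ := Submodule.mem_sup.mp hw1'
    have hb0 : b = 0 := by
      have h1 : b ∈ perpS hF (D k) := by
        intro u hu
        have h2 : hermForm n F q u (a + b) = 0 := hw2 u (show u ∈ D k ⊔ D (π k) from
          Submodule.mem_sup_left hu)
        rw [hermForm_add_right hF, hts k ha u hu, zero_add] at h2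
        exact h2
      have := disjoint_perp_block hF D hperp π hπ hind k
      exact (Submodule.disjoint_def.mp this) b hb h1
    have ha0 : a = 0 := by
      have h1 : a ∈ perpS hF (D (π k)) := by
        intro u hu
        have h2 : hermForm n F q u (a + b) = 0 := hw2 u (show u ∈ D k ⊔ D (π k) from
          Submodule.mem_sup_right hu)
        rw [hermForm_add_right hF, hts (π k) hb u hu, add_zero] at h2
        exact h2
      have := disjoint_perp_block hF D hperp π hπ hind (π k)
      rw [hinv] at this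
      exact (Submodule.disjoint_def.mp this) a ha h1
    rw [ha0, hb0, add_zero]
  have hEorth : ∀ i j, i ≠ j → AreOrthogonalFor (hermForm n F q) (E i) (E j) := by
    intro i j hij u hu v hv
    have hne : e i ≠ e j := fun h => hij (e.injective h)
    obtain ⟨k1, k2, k3, k4⟩ := Qt_sep π hinv (e i) (e j) hne
    have hu' : u ∈ D (e i).1 ⊔ D (π (e i).1) := hu
    have hv' : v ∈ D (e j).1 ⊔ D (π (e j).1) := hv
    obtain ⟨u1, hu1, u2, hu2, rfl⟩ := Submodule.mem_sup.mp hu'
    obtain ⟨v1, hv1, v2, hv2, rfl⟩ := Submodule.mem_sup.mp hv'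
    have z11 : hermForm n F q u1 v1 = 0 := ((hπ (e i).1 (e j).1).mpr k2) hv1 u1 hu1
    have z12 : hermForm n F q u1 v2 = 0 := ((hπ (e i).1 (π (e j).1)).mpr k4) hv2 u1 hu1
    have z21 : hermForm n F q u2 v1 = 0 :=
      ((hπ (π (e i).1) (e j).1).mpr (by rw [hinv]; exact k1)) hv1 u2 hu2
    have z22 : hermForm n F q u2 v2 = 0 :=
      ((hπ (π (e i).1) (π (e j).1)).mpr (by rw [hinv]; exact k3)) hv2 u2 hu2
    rw [hermForm_add_left, hermForm_add_right hF, hermForm_add_right hF, z11, z12, z21, z22]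
    simp
  have hEperm : ∀ h ∈ H, ∃ τ : Equiv.Perm (Fin s), ∀ j,
      (E j).map (Matrix.toLin' (h : Matrix (Fin n) (Fin n) F)) = E (τ j) := by
    intro h hh
    obtain ⟨σ, hσ⟩ := hperm h hh
    have hσπ : ∀ i, π (σ i) = σ (π i) := pairing_equivariant hF D π hπ (hH hh) σ hσ
    let τ₀ : Fin s → Fin s := fun j => e.symm (rep π hinv hfpf (σ (e j).1))
    have hτ : ∀ j, (E j).map (Matrix.toLin' (h : Matrix (Fin n) (Fin n) F)) = E (τ₀ j) := by
      intro j
      show _ = blk π D (e (e.symm (rep π hinv hfpf (σ (e j).1)))).1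
      rw [Equiv.apply_symm_apply, blk_rep, hEdef]
      unfold blk
      rw [Submodule.map_sup, hσ, hσ, hσπ]
    have hinj : Function.Injective τ₀ := by
      intro j j' hjj
      have h1 : rep π hinv hfpf (σ (e j).1) = rep π hinv hfpf (σ (e j').1) := e.symm.injective hjj
      by_contra hne
      have hne' : e j ≠ e j' := fun h => hne (e.injective h)
      obtain ⟨k1, k2, k3, k4⟩ := Qt_sep π hinv (e j) (e j') hne'
      have h2 := mem_pair_rep π hinv hfpf (σ (e j').1)
      rw [← h1] at h2
      rcases rep_pair π hinv hfpf (σ (e j).1) with h3 | h3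
      · rw [h3] at h2
        rcases h2 with h2 | h2
        · exact k1 (σ.injective h2)
        · rw [hσπ] at h2
          exact k2 (σ.injective h2)
      · rw [h3] at h2
        rcases h2 with h2 | h2
        · rw [hσπ] at h2
          exact k2 (σ.injective h2)
        · rw [hinv] at h2
          exact k1 (σ.injective h2)
    exact ⟨Equiv.ofBijective τ₀ (Finite.injective_iff_bijective.mp hinj), hτ⟩
  exact UC_C2a hH (2 * m) E ⟨⟨hs2, by omega, hEfr, hEind, hEsup⟩, hEnd, hEorth⟩ hEperm

end main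

end Cfsg.Agent.Lib.Helper9.AschU
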