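import Mathlib
import Cfsg.Prelude
import Cfsg.Agent.Lib.Helper9.AschU5

set_option autoImplicit false
set_option linter.unusedSectionVars false
set_option linter.unusedVariables false
set_option linter.style.longLine false
set_option linter.unusedSimpArgs false
open Cfsg

namespace Cfsg.Agent.Lib.Helper9.AschU

open Module Matrix
open Cfsg.Geo
open Cfsg.Agent.Lib.Helper8.Asch
open Cfsg.Agent.Lib.Helper5 Cfsg.Agent.Lib.Helper8
open Cfsg.Agent.Lib.Helper5.Herm
open Cfsg.Agent.Lib.Helper5.HermBridge (hermSesq hermSesq_apply hermSesq_nondegenerate sigma_apply sigma_sigma sigma_ne_id)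
open Cfsg.Agent.Lib.Helper5.HermPair Cfsg.Agent.Lib.Helper5.HermPerp
open Cfsg.Agent.Lib.Helper5.SUSingularMax

variable {F : Type*} [Field F] [Fintype F] {q : ℕ} (hF : Fintype.card F = q ^ 2) {n : ℕ}

/-- the adjoint of an endomorphism with respect to the standard hermitian form -/
noncomputable def adjE (x : Module.End F (Fin n → F)) : Module.End F (Fin n → F) :=
  Matrix.toLin' (Asch.star (HermBridge.sigma hF) (LinearMap.toMatrix' x))

theorem herm_adjE (x : Module.End F (Fin n → F)) (u v : Fin n → F) :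
    hermForm n F q (x u) v = hermForm n F q u (adjE hF x v) := by
  unfold adjE
  rw [Matrix.toLin'_apply, ← herm_adj hF, ← Matrix.toLin'_apply, Matrix.toLin'_toMatrix']

theorem adjE_adjE (x : Module.End F (Fin n → F)) : adjE hF (adjE hF x) = x := by
  unfold adjE
  rw [LinearMap.toMatrix'_toLin', Asch.star_star _ (sigma_sigma hF), Matrix.toLin'_toMatrix']

theorem herm_adjE' (x : Module.End F (Fin n → F)) (u v : Fin n → F) :
    hermForm n F q u (x v) = hermForm n F q (adjE hF x u) v := by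
  rw [herm_adjE hF, adjE_adjE]

theorem adjE_mul (x y : Module.End F (Fin n → F)) : adjE hF (x * y) = adjE hF y * adjE hF x := by
  unfold adjE
  have h1 : LinearMap.toMatrix' (x * y) = LinearMap.toMatrix' x * LinearMap.toMatrix' y :=
    LinearMap.toMatrix'_mul x y
  rw [h1, Asch.star_mul]
  exact Matrix.toLin'_mul _ _

theorem adjE_toLin' (M : Matrix (Fin n) (Fin n) F) :
    adjE hF (Matrix.toLin' M) = Matrix.toLin' (Asch.star (HermBridge.sigma hF) M) := by
  unfold adjE
  rw [LinearMap.toMatrix'_toLin']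

theorem star_mem_span {N : Subgroup (GL (Fin n) F)} (hN : N ≤ GU n F q)
    {M : Matrix (Fin n) (Fin n) F} (hM : M ∈ Submodule.span F (mset N)) :
    Asch.star (HermBridge.sigma hF) M ∈ Submodule.span F (mset N) := by
  induction hM using Submodule.span_induction with
  | mem M hM =>
    obtain ⟨g, hg, rfl⟩ := hM
    apply Submodule.subset_span
    refine ⟨g⁻¹, N.inv_mem hg, ?_⟩
    exact (star_eq_inv_of_mem_GU hF (hN hg)).symm
  | zero =>
    have : Asch.star (HermBridge.sigma hF) (0 : Matrix (Fin n) (Fin n) F) = 0 := by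
      ext i j
      rw [Asch.star_apply, Matrix.zero_apply, Matrix.zero_apply, map_zero]
    rw [this]
    exact Submodule.zero_mem _
  | add a b _ _ ha hb =>
    rw [Asch.star_add]
    exact Submodule.add_mem _ ha hb
  | smul c a _ ha =>
    rw [Asch.star_smul]
    exact Submodule.smul_mem _ _ ha

theorem adjE_mem_algOf {N : Subgroup (GL (Fin n) F)} (hN : N ≤ GU n F q)
    {x : Module.End F (Fin n → F)} (hx : x ∈ algOf (HV N)) : adjE hF x ∈ algOf (HV N) := by
  have h1 : x = Matrix.toLin' (LinearMap.toMatrix' x) := (Matrix.toLin'_toMatrix' x).symm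
  rw [h1] at hx
  rw [mem_algOf_HV_iff] at hx
  unfold adjE
  rw [mem_algOf_HV_iff]
  exact star_mem_span hF hN hx

theorem adjE_mem_Cmt {N : Subgroup (GL (Fin n) F)} (hN : N ≤ GU n F q)
    {c : Module.End F (Fin n → F)} (hc : c ∈ Cmt (algOf (HV N))) :
    adjE hF c ∈ Cmt (algOf (HV N)) := by
  rw [mem_Cmt] at hc ⊢
  intro a ha
  have ha' := adjE_mem_algOf hF hN ha
  have h1 := hc _ ha'
  have h2 := congrArg (adjE hF) h1
  rw [adjE_mul, adjE_mul, adjE_adjE] at h2
  exact h2.symm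

/-- the perp of a subspace stable under an adjoint-closed set is stable -/
theorem perp_stable (X : Set (Module.End F (Fin n → F))) (hX : ∀ x ∈ X, adjE hF x ∈ X)
    (W : Submodule F (Fin n → F)) (hW : ∀ x ∈ X, ∀ w ∈ W, x w ∈ W) :
    ∀ x ∈ X, ∀ v ∈ perpS hF W, x v ∈ perpS hF W := by
  intro x hx v hv w hw
  rw [herm_adjE' hF]
  exact hv _ (hW _ (hX x hx) w hw)

include hF in
theorem class_of_nonisotypic (H N : Subgroup (GL (Fin n) F)) (hH : H ≤ GU n F q)
    (hN : N ≤ GU n F q) (hirr : Irr (HV H))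
    (hcl : ∃ (t m : ℕ) (D : Fin t → Submodule F (Fin n → F)), 2 ≤ t ∧ 0 < m ∧
      (∀ i, Module.finrank F (D i) = m) ∧ iSupIndep D ∧ iSup D = ⊤ ∧
      (∀ h ∈ HV H, ∃ σ : Equiv.Perm (Fin t), ∀ i,
        (D i).map (h : Module.End F (Fin n → F)) = D (σ i)) ∧
      (∀ i, ∀ a ∈ algOf (HV N), ∀ v ∈ D i, a v ∈ D i) ∧
      (∀ i, ∀ c ∈ Cmt (algOf (HV N)), ∀ v ∈ D i, c v ∈ D i) ∧
      (∀ W : Submodule F (Fin n → F), (∀ a ∈ algOf (HV N), ∀ w ∈ W, a w ∈ W) →
        (∀ c ∈ Cmt (algOf (HV N)), ∀ w ∈ W, c w ∈ W) → W = ⨆ i, ⨆ (_ : D i ≤ W), D i)) :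
    UC n F q H := by
  obtain ⟨t, m, D, ht, hm, hfr, hind, hsup, hperm0, hDA, hDC, hfi⟩ := hcl
  have hperm : ∀ h ∈ H, ∃ σ : Equiv.Perm (Fin t), ∀ i,
      (D i).map (Matrix.toLin' (h : Matrix (Fin n) (Fin n) F)) = D (σ i) := by
    intro h hh
    obtain ⟨σ, hσ⟩ := hperm0 (toV h) (mem_HV hh)
    refine ⟨σ, fun i => ?_⟩
    rw [← hσ i, toV_val]
  have hperp : ∀ i, perpS hF (D i) = ⨆ j, ⨆ (_ : D j ≤ perpS hF (D i)), D j := by
    intro i
    apply hfi
    · exact perp_stable hF _ (fun x hx => adjE_mem_algOf hF hN hx) (D i) (hDA i)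
    · exact perp_stable hF _ (fun x hx => adjE_mem_Cmt hF hN hx) (D i) (hDC i)
  obtain ⟨π, hπ⟩ := exists_pairing hF m D hm hfr hind hsup hperp
  by_cases hfix : ∃ i₀, π i₀ = i₀
  · obtain ⟨i₀, hi₀⟩ := hfix
    have hid : ∀ i, π i = i := by
      intro i
      obtain ⟨h, hh, hhi⟩ := blocks_transitive H hirr m D hm hfr hind hperm i₀ i
      obtain ⟨σ, hσ⟩ := hperm h hh
      have h1 : σ i₀ = i := by
        apply blocks_injective m D hm hfr hind
        rw [← hσ i₀, hhi]
      rw [← h1, pairing_equivariant hF D π hπ (hH hh) σ hσ, hi₀]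
    exact class_of_blocks_id hF m D hperp π hπ hH ht hm hfr hind hsup hperm hid
  · push Not at hfix
    by_cases ht2 : t = 2
    · exact class_of_blocks_two hF m D hperp π hπ hH ht2 hm hfr hind hsup hperm hfix
    · exact class_of_blocks_pairs hF m D hperp π hπ hH (by omega) hm hfr hind hsup hperm hfix

end Cfsg.Agent.Lib.Helper9.AschU
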