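import Mathlib
import Cfsg.Prelude

set_option autoImplicit false
set_option linter.unusedSectionVars false
set_option linter.unusedVariables false
set_option linter.style.longLine false
set_option linter.unusedSimpArgs false
open Cfsg

namespace Cfsg.Agent.Lib.Helper9.AschU

open Polynomial

/-- A finite field `E` containing a field `F` of order `q²` and carrying an involutory
automorphism that induces `x ↦ x ^ q ≠ id` on `F` has odd degree over `F`. -/
theorem odd_degree_of_involution {F E : Type*} [Field F] [Fintype F] [Field E] [Fintype E]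
    (ι : F →+* E) (q d : ℕ) (hq : 2 ≤ q) (hF : Fintype.card F = q ^ 2)
    (hE : Fintype.card E = (q ^ 2) ^ d)
    (τ : E →+* E) (hτ2 : ∀ x, τ (τ x) = x) (hτι : ∀ c, τ (ι c) = ι (c ^ q))
    (hne : ∃ c : F, c ^ q ≠ c) : Odd d := by
  classical
  rw [← Nat.not_even_iff_odd]
  intro hd
  obtain ⟨k, hk⟩ := hd
  obtain ⟨c₀, hc₀⟩ := hne
  set θ := ι c₀ with hθ
  have hιinj : Function.Injective ι := ι.injective
  have hθτ : τ θ ≠ θ := by
    rw [hθ, hτι]
    intro h
    exact hc₀ (hιinj h)
  have hθ' : θ - τ θ ≠ 0 := sub_ne_zero.mpr (Ne.symm hθτ)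
  let L : Subfield E :=
    { carrier := {x | τ x = x}
      mul_mem' := by
        intro a b ha hb
        simp only [Set.mem_ofPred_eq] at ha hb ⊢
        rw [map_mul, ha, hb]
      one_mem' := by simp
      add_mem' := by
        intro a b ha hb
        simp only [Set.mem_ofPred_eq] at ha hb ⊢
        rw [map_add, ha, hb]
      zero_mem' := by simp
      neg_mem' := by
        intro a ha
        simp only [Set.mem_ofPred_eq] at ha ⊢
        rw [map_neg, ha]
      inv_mem' := by
        intro a ha
        simp only [Set.mem_ofPred_eq] at ha ⊢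
        rw [map_inv₀, ha] }
  have hmemL : ∀ x : E, x ∈ L ↔ τ x = x := fun x => Iff.rfl
  let φ : L × L → E := fun p => (p.1 : E) + (p.2 : E) * θ
  have hφinj : Function.Injective φ := by
    rintro ⟨a, b⟩ ⟨a', b'⟩ h
    have h1 : (a : E) + (b : E) * θ = (a' : E) + (b' : E) * θ := h
    have h2 : (a : E) + (b : E) * τ θ = (a' : E) + (b' : E) * τ θ := by
      have := congrArg τ h1
      rw [map_add, map_add, map_mul, map_mul, (hmemL a).mp a.2, (hmemL b).mp b.2,
        (hmemL a').mp a'.2, (hmemL b').mp b'.2] at this
      exact this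
    have h3 : ((b : E) - (b' : E)) * (θ - τ θ) = 0 := by linear_combination h1 - h2
    have h4 : (b : E) = (b' : E) := by
      rcases mul_eq_zero.mp h3 with h | h
      · exact sub_eq_zero.mp h
      · exact absurd h hθ'
    have h5 : (a : E) = (a' : E) := by
      rw [h4] at h1
      exact add_right_cancel h1
    exact Prod.ext (Subtype.ext h5) (Subtype.ext h4)
  have hφsurj : Function.Surjective φ := by
    intro x
    set b : E := (x - τ x) / (θ - τ θ) with hb
    set a : E := x - b * θ with ha
    have hbL : τ b = b := by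
      rw [hb, map_div₀, map_sub, map_sub, hτ2, hτ2]
      rw [div_eq_div_iff (sub_ne_zero.mpr hθτ) hθ']
      ring
    have hbb : b * (θ - τ θ) = x - τ x := by
      rw [hb, div_mul_cancel₀ _ hθ']
    have haL : τ a = a := by
      rw [ha, map_sub, map_mul, hbL]
      linear_combination hbb
    refine ⟨(⟨a, haL⟩, ⟨b, hbL⟩), ?_⟩
    show a + b * θ = x
    rw [ha]
    ring
  have hcard : Fintype.card E = Fintype.card L * Fintype.card L := by
    rw [← Fintype.card_prod]
    exact (Fintype.card_congr (Equiv.ofBijective φ ⟨hφinj, hφsurj⟩)).symm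
  set M := q ^ d with hM
  have hcardL : Fintype.card L = M := by
    have h1 : (Fintype.card L) ^ 2 = M ^ 2 := by
      rw [sq, ← hcard, hE, hM, ← pow_mul, ← pow_mul, mul_comm]
    exact Nat.pow_left_injective (by norm_num : 2 ≠ 0) h1
  have hM1 : 1 < M := by
    rw [hM]
    have hd0 : d ≠ 0 := by
      rintro rfl
      rw [pow_zero] at hE
      have : 1 < Fintype.card E := Fintype.one_lt_card
      omega
    calc 1 < q := by omega
      _ = q ^ 1 := (pow_one q).symm
      _ ≤ q ^ d := Nat.pow_le_pow_right (by omega) (Nat.one_le_iff_ne_zero.mpr hd0)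
  -- the roots of X^M - X
  set R : Finset E := Finset.univ.filter (fun x => x ^ M = x) with hR
  have hRcard : R.card ≤ M := by
    set P : E[X] := X ^ M - X with hP
    have hP0 : P ≠ 0 := FiniteField.X_pow_card_sub_X_ne_zero E hM1
    have hsub : R ⊆ P.roots.toFinset := by
      intro x hx
      rw [hR, Finset.mem_filter] at hx
      rw [Multiset.mem_toFinset, mem_roots hP0, hP]
      simp [hx.2]
    calc R.card ≤ P.roots.toFinset.card := Finset.card_le_card hsub
      _ ≤ Multiset.card P.roots := Multiset.toFinset_card_le _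
      _ ≤ P.natDegree := Polynomial.card_roots' P
      _ = M := FiniteField.X_pow_card_sub_X_natDegree_eq E hM1
  set LS : Finset E := Finset.univ.filter (fun x => τ x = x) with hLS
  have hLScard : LS.card = M := by
    rw [← hcardL, Fintype.card_subtype]
    rfl
  have hLSR : LS ⊆ R := by
    intro x hx
    rw [hLS, Finset.mem_filter] at hx
    rw [hR, Finset.mem_filter]
    refine ⟨Finset.mem_univ _, ?_⟩
    have h1 := FiniteField.pow_card (⟨x, hx.2⟩ : L)
    rw [hcardL] at h1
    exact congrArg Subtype.val h1
  have hEq : LS = R := Finset.eq_of_subset_of_card_le hLSR (by rw [hLScard]; exact hRcard)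
  have hfix : ∀ c : F, c ^ q = c := by
    intro c
    have h1 : c ^ M = c := by
      rw [hM, hk, ← two_mul, pow_mul, ← hF]
      exact FiniteField.pow_card_pow k c
    have h2 : ι c ∈ R := by
      rw [hR, Finset.mem_filter]
      refine ⟨Finset.mem_univ _, ?_⟩
      rw [← map_pow, h1]
    rw [← hEq, hLS, Finset.mem_filter] at h2
    have h3 := h2.2
    rw [hτι] at h3
    exact hιinj h3
  exact hc₀ (hfix c₀)

end Cfsg.Agent.Lib.Helper9.AschU
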