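import Mathlib
import Cfsg.Prelude
import Cfsg.Agent.Lib.Helper9.AschU6
import Cfsg.Agent.Lib.Helper9.AschU7

set_option autoImplicit false
set_option linter.unusedSectionVars false
set_option linter.unusedVariables false
set_option linter.style.longLine false
set_option linter.unusedSimpArgs false
open Cfsg

namespace Cfsg.Agent.Lib.Helper9.AschU

open Module Matrix
open Cfsg.Geo
open Cfsg.Agent.Lib.Helper8.Asch
open Cfsg.Agent.Lib.Helper5 Cfsg.Agent.Lib.Helper8
open Cfsg.Agent.Lib.Helper5.Herm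
open Cfsg.Agent.Lib.Helper5.HermBridge (hermSesq hermSesq_apply hermSesq_nondegenerate sigma_apply sigma_sigma sigma_ne_id)
open Cfsg.Agent.Lib.Helper5.HermPair Cfsg.Agent.Lib.Helper5.HermPerp
open Cfsg.Agent.Lib.Helper5.SUSingularMax

variable {F : Type*} [Field F] [Fintype F] {q : ℕ} (hF : Fintype.card F = q ^ 2) {n : ℕ}

theorem adjE_pow (x : Module.End F (Fin n → F)) (k : ℕ) : adjE hF (x ^ k) = (adjE hF x) ^ k := by
  induction k with
  | zero =>
    rw [pow_zero, pow_zero]
    unfold adjE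
    have : LinearMap.toMatrix' (1 : Module.End F (Fin n → F)) = 1 := LinearMap.toMatrix'_one
    rw [this, Asch.star_one, Matrix.toLin'_one]
    rfl
  | succ k ih => rw [pow_succ, adjE_mul, ih, pow_succ']

theorem adjE_add (x y : Module.End F (Fin n → F)) : adjE hF (x + y) = adjE hF x + adjE hF y := by
  unfold adjE
  rw [map_add, Asch.star_add, map_add]

theorem adjE_smul_one (c : F) :
    adjE hF (c • (1 : Module.End F (Fin n → F))) = (c ^ q) • (1 : Module.End F (Fin n → F)) := by
  unfold adjE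
  have h1 : LinearMap.toMatrix' (c • (1 : Module.End F (Fin n → F))) =
      c • (1 : Matrix (Fin n) (Fin n) F) := by
    rw [map_smul]
    congr 1
    exact LinearMap.toMatrix'_one
  rw [h1, Asch.star_smul, Asch.star_one, map_smul, Matrix.toLin'_one, sigma_apply]
  rfl

theorem adjE_zero : adjE hF (0 : Module.End F (Fin n → F)) = 0 := by
  have := adjE_smul_one hF (n := n) (0 : F)
  rwa [zero_smul, zero_pow (q_ne_zero hF), zero_smul] at this

theorem adjE_one : adjE hF (1 : Module.End F (Fin n → F)) = 1 := by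
  have := adjE_smul_one hF (n := n) (1 : F)
  rwa [one_smul, one_pow, one_smul] at this

theorem adjE_mem_ZC {N : Subgroup (GL (Fin n) F)} (hN : N ≤ GU n F q)
    {z : Module.End F (Fin n → F)} (hz : z ∈ ZC (algOf (HV N))) :
    adjE hF z ∈ ZC (algOf (HV N)) := by
  rw [mem_ZC] at hz ⊢
  constructor
  · have h1 : z ∈ Cmt (algOf (HV N)) := mem_Cmt.mpr hz.1
    exact mem_Cmt.mp (adjE_mem_Cmt hF hN h1)
  · intro c hc
    have hc' := adjE_mem_Cmt hF hN hc
    have h1 := hz.2 _ hc'
    have h2 := congrArg (adjE hF) h1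
    rw [adjE_mul, adjE_mul, adjE_adjE] at h2
    exact h2.symm

/-- translation of an adjoint-closed normalised field of odd prime degree into class 3 -/
theorem UC_C3 {H : Subgroup (GL (Fin n) F)} (hH : H ≤ GU n F q) (r : ℕ)
    (K : Subalgebra F (Module.End F (Fin n → F))) (hr : r.Prime) (hodd : Odd r) (hK : IsFld K)
    (hfr : finrank F K = r)
    (hnorm : ∀ h ∈ HV H, ∀ x, x ∈ K ↔
      (h : Module.End F (Fin n → F)) * x *
        ((h⁻¹ : GLV F (Fin n → F)) : Module.End F (Fin n → F)) ∈ K)
    (hadj : ∀ x ∈ K, adjE hF x ∈ K) : UC n F q H := by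
  let φ : Module.End F (Fin n → F) ≃ₐ[F] Matrix (Fin n) (Fin n) F := LinearMap.toMatrixAlgEquiv'
  let K' : Subalgebra F (Matrix (Fin n) (Fin n) F) := K.map (φ : _ →ₐ[F] _)
  have hmem : ∀ x : Matrix (Fin n) (Fin n) F, x ∈ K' ↔ Matrix.toLin' x ∈ K := by
    intro x
    constructor
    · rintro ⟨y, hy, rfl⟩
      have : Matrix.toLin' (φ y) = y := Matrix.toLin'_toMatrix' y
      show Matrix.toLin' (φ y) ∈ K
      rw [this]
      exact hy
    · intro hx
      exact ⟨Matrix.toLin' x, hx, LinearMap.toMatrix'_toLin' x⟩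
  refine ⟨subalgebraNormalizer K' ⊓ GU n F q, ?_, le_inf ?_ hH⟩
  · right; left
    refine ⟨r, K', hr, hodd, ⟨?_, ?_, ?_⟩, ?_, rfl⟩
    · intro x hx y hy
      rw [hmem] at hx hy
      have := hK.comm _ hx _ hy
      have e : ∀ a b : Matrix (Fin n) (Fin n) F,
          Matrix.toLin' (a * b) = Matrix.toLin' a * Matrix.toLin' b :=
        fun a b => Matrix.toLin'_mul a b
      rw [← e, ← e] at this
      exact Matrix.toLin'.injective this
    · intro x hx hx0
      rw [hmem] at hx
      have h0 : Matrix.toLin' x ≠ 0 := by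
        intro h0
        apply hx0
        apply Matrix.toLin'.injective
        rw [h0, map_zero]
      obtain ⟨y, hy, hxy⟩ := hK.inv _ hx h0
      refine ⟨φ y, ⟨y, hy, rfl⟩, ?_⟩
      apply Matrix.toLin'.injective
      have e : ∀ a b : Matrix (Fin n) (Fin n) F,
          Matrix.toLin' (a * b) = Matrix.toLin' a * Matrix.toLin' b :=
        fun a b => Matrix.toLin'_mul a b
      rw [e, Matrix.toLin'_one]
      have : Matrix.toLin' (φ y) = y := Matrix.toLin'_toMatrix' y
      rw [this]
      exact hxy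
    · rw [← hfr]
      exact (AlgEquiv.subalgebraMap φ K).toLinearEquiv.finrank_eq.symm
    · intro k hk
      refine ⟨Asch.star (HermBridge.sigma hF) k, ?_, fun u v => herm_adj hF k u v⟩
      rw [hmem] at hk ⊢
      rw [← adjE_toLin' hF]
      exact hadj _ hk
  · intro g hg k
    rw [hmem, hmem]
    have := hnorm (toV g) (mem_HV hg) (Matrix.toLin' k)
    rw [this]
    have e : ((toV g : GLV F (Fin n → F)) : Module.End F (Fin n → F)) * Matrix.toLin' k *
        (((toV g)⁻¹ : GLV F (Fin n → F)) : Module.End F (Fin n → F)) =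
        Matrix.toLin' ((g : Matrix (Fin n) (Fin n) F) * k *
          ((g⁻¹ : GL (Fin n) F) : Matrix (Fin n) (Fin n) F)) := by
      have e' : ∀ a b : Matrix (Fin n) (Fin n) F,
          Matrix.toLin' (a * b) = Matrix.toLin' a * Matrix.toLin' b :=
        fun a b => Matrix.toLin'_mul a b
      rw [← map_inv, toV_val, toV_val, e', e']
    rw [e]


section generic

variable {V : Type*} [AddCommGroup V] [Module F V]

theorem finrank_ne_one_of_nonscalar [FiniteDimensional F V] [Nontrivial V] (E : Subalgebra F (Module.End F V))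
    (hne : ∃ z ∈ E, ∀ c : F, z ≠ c • (1 : Module.End F V)) : finrank F E ≠ 1 := by
  intro h1
  rw [Subalgebra.finrank_eq_one_iff] at h1
  obtain ⟨z, hz, hzc⟩ := hne
  rw [h1, Algebra.mem_bot] at hz
  obtain ⟨c, rfl⟩ := hz
  exact hzc c (Algebra.algebraMap_eq_smul_one c)

include hF in
theorem odd_finrank_of_adj [FiniteDimensional F V] [Nontrivial V]
    (E : Subalgebra F (Module.End F V)) (hE : IsFld E)
    (adj : Module.End F V → Module.End F V)
    (h_mul : ∀ x y, adj (x * y) = adj y * adj x) (h_add : ∀ x y, adj (x + y) = adj x + adj y)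
    (h_smul : ∀ c : F, adj (c • (1 : Module.End F V)) = (c ^ q) • (1 : Module.End F V))
    (h_invol : ∀ x, adj (adj x) = x) (hEadj : ∀ z ∈ E, adj z ∈ E) : Odd (finrank F E) := by
  have h_one : adj 1 = 1 := by
    have := h_smul 1
    rwa [one_smul, one_pow, one_smul] at this
  have h_zero : adj 0 = 0 := by
    have := h_smul 0
    rwa [zero_smul, zero_pow (q_ne_zero hF), zero_smul] at this
  letI fE : Field E := hE.field
  haveI : Finite E := Module.finite_of_finite F
  haveI : Fintype E := Fintype.ofFinite _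
  let τ : E →+* E :=
    { toFun := fun x => ⟨adj x.1, hEadj _ x.2⟩
      map_one' := Subtype.ext h_one
      map_mul' := fun x y => Subtype.ext (by
        show adj (x.1 * y.1) = adj x.1 * adj y.1
        rw [h_mul]
        exact hE.comm _ (hEadj _ y.2) _ (hEadj _ x.2))
      map_zero' := Subtype.ext h_zero
      map_add' := fun x y => Subtype.ext (h_add x.1 y.1) }
  have hcardE : Fintype.card E = (q ^ 2) ^ finrank F E := by
    rw [Module.card_eq_pow_finrank (K := F) (V := E), hF]
  have hτ2 : ∀ x, τ (τ x) = x := fun x => Subtype.ext (h_invol x.1)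
  have hτι : ∀ c : F, τ (algebraMap F E c) = algebraMap F E (c ^ q) := by
    intro c
    apply Subtype.ext
    show adj ((algebraMap F E c : E) : Module.End F V) =
      ((algebraMap F E (c ^ q) : E) : Module.End F V)
    rw [Subalgebra.coe_algebraMap, Subalgebra.coe_algebraMap, Algebra.algebraMap_eq_smul_one,
      Algebra.algebraMap_eq_smul_one, h_smul]
  exact odd_degree_of_involution (algebraMap F E) q (finrank F E) (two_le_q hF) hF hcardE τ hτ2
    hτι (exists_not_fixed hF)

end generic

include hF in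
theorem class_of_field_aux (H : Subgroup (GL (Fin n) F)) (hH : H ≤ GU n F q)
    (hn : 0 < n) (A : Subalgebra F (Module.End F (Fin n → F))) (hA : ∀ h ∈ HV H, Nrm A h)
    [IsSemisimpleModule A (Fin n → F)]
    (hiso : IsIsotypic A (Fin n → F))
    (hne : ∃ z ∈ ZC A, ∀ c : F, z ≠ c • (1 : Module.End F (Fin n → F)))
    (hadjZ : ∀ z ∈ ZC A, adjE hF z ∈ ZC A) :
    UC n F q H := by
  haveI : Nonempty (Fin n) := ⟨⟨0, hn⟩⟩
  haveI : Nontrivial (Fin n → F) := Function.nontrivial
  have hE : IsFld (ZC A) := isFld_ZC A hiso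
  set d := finrank F (ZC A) with hd
  have hd1 : d ≠ 1 := finrank_ne_one_of_nonscalar (ZC A) hne
  have hodd : Odd d := odd_finrank_of_adj hF (ZC A) hE (adjE hF) (adjE_mul hF) (adjE_add hF)
    (adjE_smul_one hF) (adjE_adjE hF) hadjZ
  set r := d.minFac with hr
  have hrp : r.Prime := Nat.minFac_prime hd1
  have hrd : r ∣ d := Nat.minFac_dvd _
  have hrodd : Odd r := Odd.of_dvd_nat hodd hrd
  obtain ⟨K, hKE, hKf, hKr, N₀, hKN⟩ := exists_subfield_of_dvd (ZC A) hE r hrp.pos hrd
  have key : ∀ h ∈ HV H, ∀ x, x ∈ K →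
      (h : Module.End F (Fin n → F)) * x *
        ((h⁻¹ : GLV F (Fin n → F)) : Module.End F (Fin n → F)) ∈ K := by
    intro h hh x hx
    rw [hKN] at hx ⊢
    refine ⟨Nrm_ZC (hA h hh) (Nrm.inv_of_subgroup hA hh) x hx.1, ?_⟩
    rw [Units.conj_pow, hx.2]
  have hnorm : ∀ h ∈ HV H, ∀ x, x ∈ K ↔
      (h : Module.End F (Fin n → F)) * x *
        ((h⁻¹ : GLV F (Fin n → F)) : Module.End F (Fin n → F)) ∈ K := by
    intro h hh x
    refine ⟨key h hh x, fun hx => ?_⟩
    have := key h⁻¹ ((HV H).inv_mem hh) _ hx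
    rw [inv_inv] at this
    have e : ((h⁻¹ : GLV F (Fin n → F)) : Module.End F (Fin n → F)) *
        ((h : Module.End F (Fin n → F)) * x *
          ((h⁻¹ : GLV F (Fin n → F)) : Module.End F (Fin n → F))) *
        (h : Module.End F (Fin n → F)) = x := by
      calc _ = (((h⁻¹ : GLV F (Fin n → F)) : Module.End F (Fin n → F)) *
            (h : Module.End F (Fin n → F))) * x *
          (((h⁻¹ : GLV F (Fin n → F)) : Module.End F (Fin n → F)) *
            (h : Module.End F (Fin n → F))) := by simp only [mul_assoc]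
        _ = x := by rw [val_inv_mul, one_mul, mul_one]
    rwa [e] at this
  have hadj : ∀ x ∈ K, adjE hF x ∈ K := by
    intro x hx
    rw [hKN] at hx ⊢
    exact ⟨hadjZ _ hx.1, by rw [← adjE_pow, hx.2]⟩
  exact UC_C3 hF hH r K hrp hrodd hKf hKr hnorm hadj

include hF in
theorem class_of_field (H N : Subgroup (GL (Fin n) F)) (hH : H ≤ GU n F q) (hN : N ≤ GU n F q)
    (hn : 0 < n) (hA : ∀ h ∈ HV H, Nrm (algOf (HV N)) h)
    [IsSemisimpleModule (algOf (HV N)) (Fin n → F)]
    (hiso : IsIsotypic (algOf (HV N)) (Fin n → F))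
    (hne : ∃ z ∈ ZC (algOf (HV N)), ∀ c : F, z ≠ c • (1 : Module.End F (Fin n → F))) :
    UC n F q H :=
  class_of_field_aux hF H hH hn (algOf (HV N)) hA hiso hne (fun z hz => adjE_mem_ZC hF hN hz)

end Cfsg.Agent.Lib.Helper9.AschU
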