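import Mathlib
import Cfsg.Prelude
import Cfsg.Agent.Lib.Helper9.AschU8
import Cfsg.Agent.Lib.Helper5.HermCount

set_option autoImplicit false
set_option linter.unusedSectionVars false
set_option linter.unusedVariables false
set_option linter.style.longLine false
set_option linter.unusedSimpArgs false
open Cfsg

namespace Cfsg.Agent.Lib.Helper9.AschU

open Module Matrix
open Cfsg.Geo
open Cfsg.Agent.Lib.Helper8.Asch
open Cfsg.Agent.Lib.Helper5 Cfsg.Agent.Lib.Helper8
open Cfsg.Agent.Lib.Helper5.Herm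
open Cfsg.Agent.Lib.Helper5.HermBridge (hermSesq hermSesq_apply hermSesq_nondegenerate sigma_apply sigma_sigma sigma_ne_id)
open Cfsg.Agent.Lib.Helper5.HermPair Cfsg.Agent.Lib.Helper5.HermPerp
open Cfsg.Agent.Lib.Helper5.SUSingularMax

variable {F : Type*} [Field F] [Fintype F] {q : ℕ} (hF : Fintype.card F = q ^ 2) {n : ℕ}

/-- the subfield of elements fixed by `x ↦ x ^ q` -/
def Fq : Subfield F where
  carrier := {x | x ^ q = x}
  mul_mem' := by
    intro a b ha hb
    show (a * b) ^ q = a * b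
    rw [mul_pow, ha, hb]
  one_mem' := one_pow q
  add_mem' := by
    intro a b ha hb
    show (a + b) ^ q = a + b
    rw [pow_q_add hF, ha, hb]
  zero_mem' := zero_pow (q_ne_zero hF)
  neg_mem' := by
    intro a ha
    show (-a) ^ q = -a
    rw [pow_q_neg hF, ha]
  inv_mem' := by
    intro a ha
    show (a⁻¹) ^ q = a⁻¹
    rw [inv_pow, ha]

theorem mem_Fq (x : F) : x ∈ Fq hF ↔ x ^ q = x := Iff.rfl

theorem card_Fq : Nat.card ↥(Fq hF) = q := by
  have h2 := two_le_q hF
  have h1 := HermCount.card_fixed hF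
  have hS : ((Fq hF : Subfield F) : Set F) = insert 0 {c : F | c ≠ 0 ∧ c ^ q = c} := by
    ext x
    simp only [SetLike.mem_coe, mem_Fq, Set.mem_insert_iff, Set.mem_ofPred_eq]
    constructor
    · intro hx
      by_cases h0 : x = 0
      · exact Or.inl h0
      · exact Or.inr ⟨h0, hx⟩
    · rintro (rfl | ⟨-, hx⟩)
      · exact zero_pow (q_ne_zero hF)
      · exact hx
  have h3 : Nat.card ↥(Fq hF) = Set.ncard ((Fq hF : Subfield F) : Set F) :=
    Nat.card_coe_set_eq _
  rw [h3, hS, Set.ncard_insert_of_notMem (by simp) (Set.toFinite _)]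
  have h4 : Set.ncard {c : F | c ≠ 0 ∧ c ^ q = c} = q - 1 := by
    rw [← Nat.card_coe_set_eq]
    exact h1
  rw [h4]
  omega

theorem card_F_eq : Fintype.card F = Nat.card ↥(Fq hF) ^ 2 := by
  rw [card_Fq, hF]

theorem Fq_ne_top : Fq hF ≠ ⊤ := by
  intro h
  obtain ⟨t, ht⟩ := exists_not_fixed hF
  apply ht
  have : t ∈ Fq hF := by rw [h]; trivial
  exact this

include hF in
theorem exists_trace_zero' : ∃ c : F, c ≠ 0 ∧ c ^ q = -c := by
  obtain ⟨t, ht⟩ := exists_not_fixed hF
  refine ⟨t - t ^ q, sub_ne_zero.mpr (Ne.symm ht), ?_⟩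
  rw [sub_eq_add_neg, pow_q_add hF, pow_q_neg hF, pow_q_pow_q hF]
  ring

/-- a subfield of index two is the fixed field -/
theorem eq_Fq_of_card (K : Subfield F) (hK : Fintype.card F = Nat.card K ^ 2) : K = Fq hF := by
  have hq : Nat.card K = q := by
    rw [hF] at hK
    exact (Nat.pow_left_injective (by norm_num : 2 ≠ 0) hK).symm
  ext x
  rw [mem_subfield_iff_pow, hq, mem_Fq]

/-- the standard hermitian form as a Gram form -/
theorem herm_eq_gf (u v : Fin n → F) :
    hermForm n F q u v = gf (HermBridge.sigma hF) (1 : Matrix (Fin n) (Fin n) F) u v := by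
  unfold hermForm gf
  rw [Matrix.one_mulVec]
  simp only [dotProduct, Function.comp, sigma_apply]

theorem herm_mulVec_gf (P : Matrix (Fin n) (Fin n) F) (u v : Fin n → F) :
    hermForm n F q (P *ᵥ u) (P *ᵥ v) =
      gf (HermBridge.sigma hF) (Pᵀ * P.map (HermBridge.sigma hF)) u v := by
  rw [herm_eq_gf hF, gf_mulVec, Matrix.mul_one]

/-- the Gram matrix of a basis change is hermitian -/
theorem star_gram (P : Matrix (Fin n) (Fin n) F) :
    Asch.star (HermBridge.sigma hF) (Pᵀ * P.map (HermBridge.sigma hF)) =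
      Pᵀ * P.map (HermBridge.sigma hF) := by
  ext i j
  simp only [Asch.star_apply, Matrix.mul_apply, Matrix.transpose_apply, Matrix.map_apply, map_sum,
    map_mul, sigma_sigma]
  refine Finset.sum_congr rfl fun k _ => ?_
  ring

theorem gram_entry (P : Matrix (Fin n) (Fin n) F) (i j : Fin n) :
    (HermBridge.sigma hF) ((Pᵀ * P.map (HermBridge.sigma hF)) j i) =
      (Pᵀ * P.map (HermBridge.sigma hF)) i j := by
  have := congrFun (congrFun (star_gram hF P) i) j
  rwa [Asch.star_apply] at this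

theorem det_gram (P : GL (Fin n) F) :
    ((P : Matrix (Fin n) (Fin n) F)ᵀ * (P : Matrix (Fin n) (Fin n) F).map (HermBridge.sigma hF)).det ≠ 0 := by
  have hP : (P : Matrix (Fin n) (Fin n) F).det ≠ 0 :=
    ((Matrix.isUnit_iff_isUnit_det _).mp P.isUnit).ne_zero
  rw [Matrix.det_mul, Matrix.det_transpose]
  refine mul_ne_zero hP ?_
  have : ((P : Matrix (Fin n) (Fin n) F).map (HermBridge.sigma hF)).det =
      (HermBridge.sigma hF) (P : Matrix (Fin n) (Fin n) F).det := by
    rw [RingHom.map_det]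
    rfl
  rw [this]
  exact (map_ne_zero _).mpr hP

end Cfsg.Agent.Lib.Helper9.AschU
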