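import Mathlib
import Cfsg.Prelude
import Cfsg.Agent.Lib.Helper9.AschU9

set_option autoImplicit false
set_option linter.unusedSectionVars false
set_option linter.unusedVariables false
set_option linter.style.longLine false
set_option linter.unusedSimpArgs false
open Cfsg

namespace Cfsg.Agent.Lib.Helper9.AschU

open Module Matrix
open Cfsg.Geo
open Cfsg.Agent.Lib.Helper8.Asch
open Cfsg.Agent.Lib.Helper5 Cfsg.Agent.Lib.Helper8
open Cfsg.Agent.Lib.Helper5.Herm
open Cfsg.Agent.Lib.Helper5.HermBridge (hermSesq hermSesq_apply hermSesq_nondegenerate sigma_apply sigma_sigma sigma_ne_id)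
open Cfsg.Agent.Lib.Helper5.HermPair Cfsg.Agent.Lib.Helper5.HermPerp
open Cfsg.Agent.Lib.Helper5.SUSingularMax

variable {F : Type*} [Field F] [Fintype F] {q : ℕ} (hF : Fintype.card F = q ^ 2) {n : ℕ}

theorem UC_C5a {H : Subgroup (GL (Fin n) F)} (hH : H ≤ GU n F q) (F₀ : Subfield F) (r : ℕ)
    (P : GL (Fin n) F) (hr : r.Prime) (hodd : Odd r) (hcard : Fintype.card F = Nat.card F₀ ^ r)
    (hform : IsFormRationalStructure (hermForm n F q) F₀ 1 P)
    (hle : H ≤ subfieldSubgroup F₀ P) : UC n F q H :=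
  ⟨subfieldSubgroup F₀ P ⊓ GU n F q,
    Or.inl (Or.inr (Or.inr (Or.inr (Or.inr (Or.inl ⟨F₀, r, P, hr, hodd, hcard, hform, rfl⟩))))),
    le_inf hle hH⟩

theorem UC_C5b {H : Subgroup (GL (Fin n) F)} (hH : H ≤ GU n F q) (F₀ : Subfield F)
    (P : GL (Fin n) F) (hodd : Odd q) (hcard : Fintype.card F = Nat.card F₀ ^ 2)
    (hform : IsFormRationalStructure (hermForm n F q) F₀ 1 P)
    (hle : H ≤ subfieldSubgroup F₀ P) : UC n F q H :=
  ⟨subfieldSubgroup F₀ P ⊓ GU n F q,
    Or.inl (Or.inr (Or.inr (Or.inr (Or.inr (Or.inr (Or.inl ⟨F₀, P, hodd, hcard, hform, rfl⟩)))))),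
    le_inf hle hH⟩

theorem UC_C5c {H : Subgroup (GL (Fin n) F)} (hH : H ≤ GU n F q) (F₀ : Subfield F)
    (P : GL (Fin n) F) (ζ : F) (hev : Even n) (hcard : Fintype.card F = Nat.card F₀ ^ 2)
    (hζ0 : ζ ≠ 0) (hζ : ζ + ζ ^ q = 0)
    (hform : IsFormRationalStructure (hermForm n F q) F₀ ζ P)
    (halt : ∀ u : Fin n → F, (∀ i, u i ∈ F₀) →
      hermForm n F q ((P : Matrix (Fin n) (Fin n) F) *ᵥ u) ((P : Matrix (Fin n) (Fin n) F) *ᵥ u) = 0)
    (hle : H ≤ subfieldSubgroup F₀ P) : UC n F q H :=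
  ⟨subfieldSubgroup F₀ P ⊓ GU n F q,
    Or.inl (Or.inr (Or.inr (Or.inr (Or.inr (Or.inr (Or.inr (Or.inl
      ⟨F₀, P, ζ, hev, hcard, hζ0, hζ, hform, halt, rfl⟩))))))),
    le_inf hle hH⟩

omit [Fintype F] in
theorem gf_mem_subfield {ι : Type} [Fintype ι] [DecidableEq ι] (K : Subfield F) (σ : F →+* F) (G : Matrix ι ι F) (c : F)
    (hG : ∀ i j, c * G i j ∈ K) (u v : ι → F) (hu : ∀ i, u i ∈ K) (hv : ∀ i, σ (v i) ∈ K) :
    c * gf σ G u v ∈ K := by
  unfold gf
  simp only [dotProduct, mulVec, Function.comp, Finset.mul_sum]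
  refine Subfield.sum_mem _ fun i _ => Subfield.sum_mem _ fun j _ => ?_
  have : c * (u i * (G i j * σ (v j))) = u i * ((c * G i j) * σ (v j)) := by ring
  rw [this]
  exact K.mul_mem (hu i) (K.mul_mem (hG i j) (hv j))

omit [Fintype F] in
theorem gf_diag {ι : Type} [Fintype ι] [DecidableEq ι] (g : ι → F) (v : ι → F) :
    gf (RingHom.id F) (Matrix.diagonal g) v v = ∑ k, g k * v k ^ 2 := by
  unfold gf
  simp only [dotProduct, Matrix.mulVec_diagonal, Function.comp, RingHom.id_apply]
  refine Finset.sum_congr rfl fun k _ => ?_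
  ring

/-- in characteristic two, a symmetric form invariant under an irreducible group is alternating -/
theorem diag_zero_of_char_two (hn : 2 ≤ n) (h2 : (2 : F) = 0) {N : Subgroup (GL (Fin n) F)}
    (hspan : Submodule.span F (mset N) = ⊤) (G : Matrix (Fin n) (Fin n) F) (hsymm : Gᵀ = G)
    (hG : FInv (RingHom.id F) N G) : ∀ i, G i i = 0 := by
  by_contra hcon
  push Not at hcon
  obtain ⟨i₀, hi₀⟩ := hcon
  haveI : CharP F 2 := CharTwo.of_one_ne_zero_of_two_eq_zero one_ne_zero h2
  haveI : Fact (Nat.Prime 2) := ⟨Nat.prime_two⟩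
  have hchar : ringChar F = 2 := ringChar.eq F 2
  have hsq : ∀ i, ∃ r : F, G i i = r * r := fun i => FiniteField.isSquare_of_char_two hchar (G i i)
  choose d hd using hsq
  -- the alternating part
  set A : Matrix (Fin n) (Fin n) F := G - Matrix.diagonal (fun k => G k k) with hA
  have hAskew : ∀ a b, A a b + A b a = 0 := by
    intro a b
    have hs : G b a = G a b := by
      have := congrFun (congrFun hsymm a) b
      rwa [Matrix.transpose_apply] at this
    rw [hA, Matrix.sub_apply, Matrix.sub_apply, hs]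
    by_cases hab : a = b
    · subst hab
      rw [Matrix.diagonal_apply_eq, sub_self, add_zero]
    · rw [Matrix.diagonal_apply_ne _ hab, Matrix.diagonal_apply_ne _ (Ne.symm hab), sub_zero]
      have : G a b + G a b = 2 * G a b := by ring
      rw [this, h2, zero_mul]
  have hAdiag : ∀ a, A a a = 0 := by
    intro a
    rw [hA, Matrix.sub_apply, Matrix.diagonal_apply_eq, sub_self]
  have hQ : ∀ v : Fin n → F, gf (RingHom.id F) G v v = ∑ k, G k k * v k ^ 2 := by
    intro v
    have : G = Matrix.diagonal (fun k => G k k) + A := by rw [hA]; abel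
    rw [this, gf_add_mat, gf_alt A hAskew hAdiag, add_zero, gf_diag]
    simp only [Matrix.add_apply, Matrix.diagonal_apply_eq, hAdiag, add_zero]
  -- the invariant functional
  have key : ∀ x ∈ N, ∀ j, ∑ k, d k * (x : Matrix (Fin n) (Fin n) F) k j = d j := by
    intro x hx j
    set v : Fin n → F := (x : Matrix (Fin n) (Fin n) F) *ᵥ Pi.single j 1 with hv
    have hvk : ∀ k, v k = (x : Matrix (Fin n) (Fin n) F) k j := by
      intro k
      rw [hv, Matrix.mulVec_single_one]
      rfl
    have h1 : gf (RingHom.id F) G v v = G j j := by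
      rw [hv, gf_mulVec, Asch.map_id']
      have := hG x hx
      have hst : Asch.star (RingHom.id F) (x : Matrix (Fin n) (Fin n) F) =
          (x : Matrix (Fin n) (Fin n) F)ᵀ := by
        ext a b
        rfl
      rw [hst] at this
      rw [this, gf_single]
    rw [hQ] at h1
    have h3 : (∑ k, d k * (x : Matrix (Fin n) (Fin n) F) k j) ^ 2 = (d j) ^ 2 := by
      rw [sum_pow_char 2]
      rw [sq (d j), ← hd j, ← h1]
      refine Finset.sum_congr rfl fun k _ => ?_
      rw [hvk, mul_pow, sq (d k), ← hd k]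
    exact frobenius_inj F 2 h3
  let W : Submodule F (Fin n → F) :=
    { carrier := {v | d ⬝ᵥ v = 0}
      add_mem' := by
        intro a b ha hb
        show d ⬝ᵥ (a + b) = 0
        rw [dotProduct_add, ha, hb, add_zero]
      zero_mem' := dotProduct_zero d
      smul_mem' := by
        intro c a ha
        show d ⬝ᵥ (c • a) = 0
        rw [dotProduct_smul, ha, smul_zero] }
  have hWmem : ∀ v, v ∈ W ↔ d ⬝ᵥ v = 0 := fun v => Iff.rfl
  have hWinv : ∀ u ∈ HV N, ∀ w ∈ W, (u : Module.End F (Fin n → F)) w ∈ W := by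
    intro u hu w hw
    obtain ⟨x, hx, rfl⟩ := exists_of_mem_HV hu
    rw [toV_apply, hWmem, dotProduct_mulVec]
    have : d ᵥ* (x : Matrix (Fin n) (Fin n) F) = d := by
      funext j
      exact key x hx j
    rw [this]
    exact hw
  have hdi₀ : d i₀ ≠ 0 := by
    intro h0
    apply hi₀
    rw [hd i₀, h0, mul_zero]
  rcases irr_of_span N hspan W hWinv with hbot | htop
  · obtain ⟨j, hj⟩ : ∃ j : Fin n, j ≠ i₀ := by
      by_cases h0 : (i₀ : ℕ) = 0
      · refine ⟨⟨1, by omega⟩, ?_⟩
        intro h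
        have := congrArg Fin.val h
        simp at this
        omega
      · refine ⟨⟨0, by omega⟩, ?_⟩
        intro h
        have := congrArg Fin.val h
        simp at this
        omega
    have hmem : (d j • Pi.single i₀ (1 : F) - d i₀ • Pi.single j (1 : F) : Fin n → F) ∈ W := by
      rw [hWmem, dotProduct_sub, dotProduct_smul, dotProduct_smul, dotProduct_single,
        dotProduct_single, mul_one, mul_one, smul_eq_mul, smul_eq_mul]
      ring
    rw [hbot, Submodule.mem_bot] at hmem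
    have := congrFun hmem j
    simp only [Pi.sub_apply, Pi.smul_apply, Pi.single_eq_same, Pi.single_eq_of_ne hj, smul_eq_mul,
      mul_zero, mul_one, zero_sub, Pi.zero_apply, neg_eq_zero] at this
    exact hdi₀ this
  · have hmem : (Pi.single i₀ (1 : F) : Fin n → F) ∈ W := by rw [htop]; trivial
    rw [hWmem, dotProduct_single, mul_one] at hmem
    exact hdi₀ hmem

omit [Fintype F] in
theorem GLmul_inv (B : GL (Fin n) F) :
    (B : Matrix (Fin n) (Fin n) F) * ((B⁻¹ : GL (Fin n) F) : Matrix (Fin n) (Fin n) F) = 1 := by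
  rw [← Units.val_mul, mul_inv_cancel, Units.val_one]

omit [Fintype F] in
theorem GLinv_mul (B : GL (Fin n) F) :
    ((B⁻¹ : GL (Fin n) F) : Matrix (Fin n) (Fin n) F) * (B : Matrix (Fin n) (Fin n) F) = 1 := by
  rw [← Units.val_mul, inv_mul_cancel, Units.val_one]

omit [Fintype F] in
theorem map_mul_inv (σ : F →+* F) (B : GL (Fin n) F) :
    (B : Matrix (Fin n) (Fin n) F).map σ * ((B⁻¹ : GL (Fin n) F) : Matrix (Fin n) (Fin n) F).map σ = 1 := by
  rw [← Matrix.map_mul, GLmul_inv, Matrix.map_one _ (map_zero σ) (map_one σ)]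

omit [Fintype F] in
theorem map_inv_mul (σ : F →+* F) (B : GL (Fin n) F) :
    ((B⁻¹ : GL (Fin n) F) : Matrix (Fin n) (Fin n) F).map σ * (B : Matrix (Fin n) (Fin n) F).map σ = 1 := by
  rw [← Matrix.map_mul, GLinv_mul, Matrix.map_one _ (map_zero σ) (map_one σ)]

/-- a matrix with entries fixed by `σ` -/
theorem map_sigma_of_mem_Fq (X : Matrix (Fin n) (Fin n) F) (hX : ∀ i j, X i j ∈ Fq hF) :
    X.map (HermBridge.sigma hF) = X := by
  ext i j
  rw [Matrix.map_apply, sigma_apply]
  exact hX i j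

/-- the twisted form `(B^σ)⁻¹ B` is invariant under a unitary group written over the fixed field -/
theorem FInv_twist {N : Subgroup (GL (Fin n) F)} (hN : N ≤ GU n F q) (B : GL (Fin n) F)
    (hB : ∀ s ∈ matrixSet N, ∀ i j, ((B : Matrix (Fin n) (Fin n) F) * s *
      ((B⁻¹ : GL (Fin n) F) : Matrix (Fin n) (Fin n) F)) i j ∈ Fq hF) :
    FInv (RingHom.id F) N
      (((B⁻¹ : GL (Fin n) F) : Matrix (Fin n) (Fin n) F).map (HermBridge.sigma hF) *
        (B : Matrix (Fin n) (Fin n) F)) := by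
  intro x hx
  set σ := HermBridge.sigma hF with hσ
  set Bm : Matrix (Fin n) (Fin n) F := (B : Matrix (Fin n) (Fin n) F) with hBm
  set Bi : Matrix (Fin n) (Fin n) F := ((B⁻¹ : GL (Fin n) F) : Matrix (Fin n) (Fin n) F) with hBi
  set xm : Matrix (Fin n) (Fin n) F := (x : Matrix (Fin n) (Fin n) F) with hxm
  have hst : Asch.star (RingHom.id F) xm = xmᵀ := by
    ext a b
    rfl
  rw [hst]
  have h1 : (Bm * xm * Bi).map σ = Bm * xm * Bi :=
    map_sigma_of_mem_Fq hF _ (hB xm ⟨x, hx, rfl⟩)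
  rw [Matrix.map_mul, Matrix.map_mul] at h1
  -- Bm x = Bm^σ x^σ Bi^σ Bm
  have h2 : Bm * xm = Bm.map σ * xm.map σ * Bi.map σ * Bm := by
    rw [h1, Matrix.mul_assoc (Bm * xm), GLinv_mul, Matrix.mul_one]
  have h3 : xmᵀ * xm.map σ = 1 := by
    have h4 := (mem_GU_iff hF x).mp (hN hx)
    have h5 := congrArg Matrix.transpose h4
    rw [Matrix.transpose_mul, Matrix.transpose_one] at h5
    have h6 : (Asch.star σ xm)ᵀ = xm.map σ := by
      unfold Asch.star
      rw [Matrix.transpose_transpose]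
    rw [h6] at h5
    exact h5
  calc xmᵀ * (Bi.map σ * Bm) * xm = xmᵀ * Bi.map σ * (Bm * xm) := by
        simp only [Matrix.mul_assoc]
    _ = xmᵀ * (Bi.map σ * Bm.map σ) * xm.map σ * Bi.map σ * Bm := by
        rw [h2]
        simp only [Matrix.mul_assoc]
    _ = (xmᵀ * xm.map σ) * (Bi.map σ * Bm) := by
        rw [map_inv_mul, Matrix.mul_one]
        simp only [Matrix.mul_assoc]
    _ = Bi.map σ * Bm := by rw [h3, Matrix.one_mul]

theorem class5_Fq (hn : 2 ≤ n) (H N : Subgroup (GL (Fin n) F)) (hH : H ≤ GU n F q)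
    (hNH : N ≤ H) (hHN : ∀ h ∈ H, ∀ x ∈ N, h * x * h⁻¹ ∈ N)
    (hspan : Submodule.span F (mset N) = ⊤) (B : GL (Fin n) F)
    (hB : ∀ s ∈ matrixSet N, ∀ i j, ((B : Matrix (Fin n) (Fin n) F) * s *
      ((B⁻¹ : GL (Fin n) F) : Matrix (Fin n) (Fin n) F)) i j ∈ Fq hF) :
    UC n F q H := by
  haveI : Nonempty (Fin n) := ⟨⟨0, by omega⟩⟩
  have hsub : H ≤ subfieldSubgroup (Fq hF) B⁻¹ :=
    le_subfieldSubgroup_of_realisable H N hHN hspan (Fq hF) B hB
  set σ := HermBridge.sigma hF with hσ
  set Bm : Matrix (Fin n) (Fin n) F := (B : Matrix (Fin n) (Fin n) F) with hBm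
  set Bi : Matrix (Fin n) (Fin n) F := ((B⁻¹ : GL (Fin n) F) : Matrix (Fin n) (Fin n) F) with hBi
  obtain ⟨G, hG⟩ : ∃ G : Matrix (Fin n) (Fin n) F, G = Biᵀ * Bi.map σ := ⟨_, rfl⟩
  obtain ⟨Gt, hGt⟩ : ∃ Gt : Matrix (Fin n) (Fin n) F, Gt = Bi.map σ * Bm := ⟨_, rfl⟩
  have hFI : FInv (RingHom.id F) N Gt := by
    rw [hGt]
    exact FInv_twist hF (hNH.trans hH) B hB
  let GtGL : GL (Fin n) F := ⟨Gt, Bi * Bm.map σ, by
    rw [hGt, Matrix.mul_assoc, ← Matrix.mul_assoc Bm, GLmul_inv, Matrix.one_mul, map_inv_mul], by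
    rw [hGt, Matrix.mul_assoc, ← Matrix.mul_assoc (Bm.map σ), map_mul_inv, Matrix.one_mul, GLinv_mul]⟩
  have hGtdet : Gt.det ≠ 0 := ((Matrix.isUnit_iff_isUnit_det _).mp GtGL.isUnit).ne_zero
  have hGGt : G = Biᵀ * Gt * Bi := by
    rw [hG, hGt, Matrix.mul_assoc, Matrix.mul_assoc, GLmul_inv, Matrix.mul_one]
  have hform : ∀ u v, hermForm n F q (Bi *ᵥ u) (Bi *ᵥ v) = gf σ G u v := by
    intro u v
    rw [hG]
    exact herm_mulVec_gf hF Bi u v
  have hherm : ∀ i j, σ (G j i) = G i j := by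
    intro i j
    rw [hG]
    exact gram_entry hF Bi i j
  have hidG : ∀ u, gf (RingHom.id F) G u u = gf (RingHom.id F) Gt (Bi *ᵥ u) (Bi *ᵥ u) := by
    intro u
    rw [gf_mulVec, Asch.map_id', hGGt]
  have hrat : ∀ u : Fin n → F, (∀ i, u i ∈ Fq hF) → σ ∘ u = (RingHom.id F) ∘ u := by
    intro u hu
    funext i
    simp only [Function.comp, hσ, sigma_apply, RingHom.id_apply]
    exact hu i
  have hratgf : ∀ u : Fin n → F, (∀ i, u i ∈ Fq hF) → gf σ G u u = gf (RingHom.id F) G u u := by
    intro u hu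
    unfold gf
    rw [hrat u hu]
  have hσmem : ∀ v : Fin n → F, (∀ i, v i ∈ Fq hF) → ∀ i, σ (v i) ∈ Fq hF := by
    intro v hv i
    rw [hσ, sigma_apply, (hv i : v i ^ q = v i)]
    exact hv i
  have hcases : Gtᵀ = Gt ∨ (Gtᵀ = -Gt ∧ (2 : F) ≠ 0) := by
    rcases symm_or_skew hspan GtGL hFI with h | h
    · exact Or.inl h
    · by_cases h2 : (2 : F) = 0
      · left
        have h' : Gtᵀ = -Gt := h
        rw [h']
        ext i j
        rw [Matrix.neg_apply]
        have : Gt i j + Gt i j = 2 * Gt i j := by ring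
        rw [h2, zero_mul] at this
        exact neg_eq_of_add_eq_zero_left this
      · exact Or.inr ⟨h, h2⟩
  rcases hcases with hsymm | ⟨hskew, h2⟩
  · -- symmetric
    have hGsymm : ∀ i j, G i j = G j i := by
      intro i j
      have h1 : Gᵀ = G := by
        rw [hGGt, Matrix.transpose_mul, Matrix.transpose_mul, Matrix.transpose_transpose, hsymm,
          Matrix.mul_assoc]
      have := congrFun (congrFun h1 i) j
      rw [Matrix.transpose_apply] at this
      exact this.symm
    have hGmem : ∀ i j, (1 : F) * G i j ∈ Fq hF := by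
      intro i j
      rw [one_mul, mem_Fq, ← sigma_apply hF, ← hσ, hGsymm i j, hherm]
      exact hGsymm i j
    have hformrat : IsFormRationalStructure (hermForm n F q) (Fq hF) 1 B⁻¹ := by
      intro u v hu hv
      show (1 : F) * hermForm n F q (Bi *ᵥ u) (Bi *ᵥ v) ∈ Fq hF
      rw [hform]
      exact gf_mem_subfield (Fq hF) σ G 1 hGmem u v hu (hσmem v hv)
    by_cases hq : Odd q
    · exact UC_C5b hH (Fq hF) B⁻¹ hq (card_F_eq hF) hformrat hsub
    · have h2 : (2 : F) = 0 := by
        apply two_eq_zero_of_not_odd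
        rw [hF]
        intro hodd
        exact hq (Nat.Odd.of_mul_right (by rwa [sq] at hodd))
      have hdiag : ∀ i, Gt i i = 0 := diag_zero_of_char_two hn h2 hspan Gt hsymm hFI
      have hsk : ∀ a b, Gt a b + Gt b a = 0 := by
        intro a b
        have := congrFun (congrFun hsymm a) b
        rw [Matrix.transpose_apply] at this
        rw [this]
        have h3 : Gt a b + Gt a b = 2 * Gt a b := by ring
        rw [h3, h2, zero_mul]
      have hev : Even n := by
        have := even_of_alt_det_ne_zero Gt hsk hdiag hGtdet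
        rwa [Fintype.card_fin] at this
      refine UC_C5c hH (Fq hF) B⁻¹ 1 hev (card_F_eq hF) one_ne_zero ?_ hformrat ?_ hsub
      · rw [one_pow]
        have : (1 : F) + 1 = 2 := by norm_num
        rw [this, h2]
      · intro u hu
        show hermForm n F q (Bi *ᵥ u) (Bi *ᵥ u) = 0
        rw [hform, hratgf u hu, hidG]
        exact gf_alt Gt hsk hdiag _
  · -- skew, odd characteristic
    obtain ⟨ζ, hζ0, hζ⟩ := exists_trace_zero' hF
    have hsk : ∀ a b, Gt a b + Gt b a = 0 := by
      intro a b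
      have := congrFun (congrFun hskew b) a
      rw [Matrix.transpose_apply, Matrix.neg_apply] at this
      rw [this]
      ring
    have hdiag : ∀ a, Gt a a = 0 := by
      intro a
      have h3 := hsk a a
      have h4 : Gt a a + Gt a a = 2 * Gt a a := by ring
      rw [h4] at h3
      rcases mul_eq_zero.mp h3 with h | h
      · exact absurd h h2
      · exact h
    have hev : Even n := by
      have := even_of_alt_det_ne_zero Gt hsk hdiag hGtdet
      rwa [Fintype.card_fin] at this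
    have hGskew : ∀ i j, G i j = - G j i := by
      intro i j
      have h1 : Gᵀ = -G := by
        rw [hGGt, Matrix.transpose_mul, Matrix.transpose_mul, Matrix.transpose_transpose, hskew,
          Matrix.mul_assoc]
        simp only [Matrix.mul_neg, Matrix.neg_mul]
      have := congrFun (congrFun h1 j) i
      rw [Matrix.transpose_apply, Matrix.neg_apply] at this
      exact this
    have hGmem : ∀ i j, ζ * G i j ∈ Fq hF := by
      intro i j
      have e1 : (G i j) ^ q = G j i := by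
        rw [← sigma_apply hF]
        exact hherm j i
      rw [mem_Fq, mul_pow, hζ, e1, hGskew j i]
      ring
    have hformrat : IsFormRationalStructure (hermForm n F q) (Fq hF) ζ B⁻¹ := by
      intro u v hu hv
      show ζ * hermForm n F q (Bi *ᵥ u) (Bi *ᵥ v) ∈ Fq hF
      rw [hform]
      exact gf_mem_subfield (Fq hF) σ G ζ hGmem u v hu (hσmem v hv)
    refine UC_C5c hH (Fq hF) B⁻¹ ζ hev (card_F_eq hF) hζ0 ?_ hformrat ?_ hsub
    · rw [hζ, add_neg_cancel]
    · intro u hu
      show hermForm n F q (Bi *ᵥ u) (Bi *ᵥ u) = 0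
      rw [hform, hratgf u hu, hidG]
      exact gf_alt Gt hsk hdiag _

end Cfsg.Agent.Lib.Helper9.AschU
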