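import Mathlib
import Cfsg.Prelude
import Cfsg.Agent.Lib.Helper9.AschU10

set_option autoImplicit false
set_option linter.unusedSectionVars false
set_option linter.unusedVariables false
set_option linter.style.longLine false
set_option linter.unusedSimpArgs false
open Cfsg

namespace Cfsg.Agent.Lib.Helper9.AschU

open Module Matrix
open Cfsg.Geo
open Cfsg.Agent.Lib.Helper8.Asch
open Cfsg.Agent.Lib.Helper5 Cfsg.Agent.Lib.Helper8
open Cfsg.Agent.Lib.Helper5.Herm
open Cfsg.Agent.Lib.Helper5.HermBridge (hermSesq hermSesq_apply hermSesq_nondegenerate sigma_apply sigma_sigma sigma_ne_id)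
open Cfsg.Agent.Lib.Helper5.HermPair Cfsg.Agent.Lib.Helper5.HermPerp
open Cfsg.Agent.Lib.Helper5.SUSingularMax

variable {F : Type*} [Field F] [Fintype F] {q : ℕ} (hF : Fintype.card F = q ^ 2) {n : ℕ}

omit [Fintype F] in
/-- applying a ring endomorphism commuting with `σ` to a Gram form -/
theorem map_gf {ι : Type} [Fintype ι] [DecidableEq ι] (σ τ : F →+* F) (hcomm : ∀ a, τ (σ a) = σ (τ a))
    (G : Matrix ι ι F) (u v : ι → F) :
    τ (gf σ G u v) = gf σ (G.map τ) (τ ∘ u) (τ ∘ v) := by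
  unfold gf
  simp only [dotProduct, mulVec, Function.comp, map_sum, map_mul, Matrix.map_apply, hcomm]

/-- the Gram matrix in conjugated coordinates is invariant -/
theorem gram_conj_inv {N : Subgroup (GL (Fin n) F)} (hN : N ≤ GU n F q) (B : GL (Fin n) F)
    (x : GL (Fin n) F) (hx : x ∈ N) :
    ((B : Matrix (Fin n) (Fin n) F) * (x : Matrix (Fin n) (Fin n) F) *
        ((B⁻¹ : GL (Fin n) F) : Matrix (Fin n) (Fin n) F))ᵀ *
      (((B⁻¹ : GL (Fin n) F) : Matrix (Fin n) (Fin n) F)ᵀ *
        ((B⁻¹ : GL (Fin n) F) : Matrix (Fin n) (Fin n) F).map (HermBridge.sigma hF)) *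
      ((B : Matrix (Fin n) (Fin n) F) * (x : Matrix (Fin n) (Fin n) F) *
        ((B⁻¹ : GL (Fin n) F) : Matrix (Fin n) (Fin n) F)).map (HermBridge.sigma hF) =
      ((B⁻¹ : GL (Fin n) F) : Matrix (Fin n) (Fin n) F)ᵀ *
        ((B⁻¹ : GL (Fin n) F) : Matrix (Fin n) (Fin n) F).map (HermBridge.sigma hF) := by
  set σ := HermBridge.sigma hF with hσ
  set Bm : Matrix (Fin n) (Fin n) F := (B : Matrix (Fin n) (Fin n) F) with hBm
  set Bi : Matrix (Fin n) (Fin n) F := ((B⁻¹ : GL (Fin n) F) : Matrix (Fin n) (Fin n) F) with hBi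
  set xm : Matrix (Fin n) (Fin n) F := (x : Matrix (Fin n) (Fin n) F) with hxm
  have h3 : xmᵀ * xm.map σ = 1 := by
    have h4 := (mem_GU_iff hF x).mp (hN hx)
    have h5 := congrArg Matrix.transpose h4
    rw [Matrix.transpose_mul, Matrix.transpose_one] at h5
    have h6 : (Asch.star σ xm)ᵀ = xm.map σ := by
      unfold Asch.star
      rw [Matrix.transpose_transpose]
    rw [h6] at h5
    exact h5
  have e1 : Bmᵀ * Biᵀ = 1 := by
    rw [← Matrix.transpose_mul, GLinv_mul, Matrix.transpose_one]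
  rw [Matrix.transpose_mul, Matrix.transpose_mul, Matrix.map_mul, Matrix.map_mul]
  calc Biᵀ * (xmᵀ * Bmᵀ) * (Biᵀ * Bi.map σ) * (Bm.map σ * xm.map σ * Bi.map σ)
      = Biᵀ * xmᵀ * (Bmᵀ * Biᵀ) * (Bi.map σ * Bm.map σ) * xm.map σ * Bi.map σ := by
        simp only [Matrix.mul_assoc]
    _ = Biᵀ * (xmᵀ * xm.map σ) * Bi.map σ := by
        rw [e1, map_inv_mul, Matrix.mul_one, Matrix.mul_one]
        simp only [Matrix.mul_assoc]
    _ = Biᵀ * Bi.map σ := by rw [h3, Matrix.mul_one]

theorem class5_odd (hn : 2 ≤ n) (H N : Subgroup (GL (Fin n) F)) (hH : H ≤ GU n F q)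
    (hNH : N ≤ H) (hHN : ∀ h ∈ H, ∀ x ∈ N, h * x * h⁻¹ ∈ N)
    (hspan : Submodule.span F (mset N) = ⊤) (K : Subfield F) (r : ℕ) (hr : r.Prime)
    (hrodd : Odd r) (hcard : Fintype.card F = Nat.card K ^ r) (hK : ¬ K ≤ Fq hF)
    (B : GL (Fin n) F)
    (hB : ∀ s ∈ matrixSet N, ∀ i j, ((B : Matrix (Fin n) (Fin n) F) * s *
      ((B⁻¹ : GL (Fin n) F) : Matrix (Fin n) (Fin n) F)) i j ∈ K) :
    UC n F q H := by
  classical
  haveI : Nonempty (Fin n) := ⟨⟨0, by omega⟩⟩
  haveI : Fintype K := Fintype.ofFinite K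
  have hN : N ≤ GU n F q := hNH.trans hH
  set σ := HermBridge.sigma hF with hσ
  let τ : F →+* F := (FiniteField.frobeniusAlgHom K F).toRingHom
  have hτ : ∀ x : F, τ x = x ^ Fintype.card K := fun x => rfl
  have hfix : ∀ x : F, x ∈ K ↔ τ x = x := by
    intro x
    rw [hτ, Fintype.card_eq_nat_card]
    exact mem_subfield_iff_pow K x
  have hcomm : ∀ a, τ (σ a) = σ (τ a) := by
    intro a
    rw [hτ, hτ, hσ, sigma_apply, sigma_apply, ← pow_mul, ← pow_mul, mul_comm]
  set Bm : Matrix (Fin n) (Fin n) F := (B : Matrix (Fin n) (Fin n) F) with hBm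
  set Bi : Matrix (Fin n) (Fin n) F := ((B⁻¹ : GL (Fin n) F) : Matrix (Fin n) (Fin n) F) with hBi
  obtain ⟨G, hG⟩ : ∃ G : Matrix (Fin n) (Fin n) F, G = Biᵀ * Bi.map σ := ⟨_, rfl⟩
  have hherm : ∀ i j, σ (G j i) = G i j := by
    intro i j
    rw [hG]
    exact gram_entry hF Bi i j
  have hform : ∀ (P : Matrix (Fin n) (Fin n) F) u v,
      hermForm n F q (P *ᵥ u) (P *ᵥ v) = gf σ (Pᵀ * P.map σ) u v := fun P u v =>
    herm_mulVec_gf hF P u v
  have hmapK : ∀ Y : Matrix (Fin n) (Fin n) F, (∀ i j, Y i j ∈ K) → Y.map τ = Y := by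
    intro Y hY
    ext i j
    rw [Matrix.map_apply]
    exact (hfix _).mp (hY i j)
  -- invariance of G and of G^τ
  have hinv : ∀ x ∈ N, (Bm * (x : Matrix (Fin n) (Fin n) F) * Bi)ᵀ * G *
      (Bm * (x : Matrix (Fin n) (Fin n) F) * Bi).map σ = G := by
    intro x hx
    rw [hG]
    exact gram_conj_inv hF hN B x hx
  have hinvτ : ∀ x ∈ N, (Bm * (x : Matrix (Fin n) (Fin n) F) * Bi)ᵀ * G.map τ *
      (Bm * (x : Matrix (Fin n) (Fin n) F) * Bi).map σ = G.map τ := by
    intro x hx
    have h1 := congrArg (fun Y : Matrix (Fin n) (Fin n) F => Y.map τ) (hinv x hx)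
    simp only [Matrix.map_mul] at h1
    have h2 : (Bm * (x : Matrix (Fin n) (Fin n) F) * Bi).map τ =
        Bm * (x : Matrix (Fin n) (Fin n) F) * Bi := hmapK _ (hB _ ⟨x, hx, rfl⟩)
    have h3 : ((Bm * (x : Matrix (Fin n) (Fin n) F) * Bi)ᵀ).map τ =
        (Bm * (x : Matrix (Fin n) (Fin n) F) * Bi)ᵀ := by
      rw [Matrix.transpose_map, h2]
    have h4 : ((Bm * (x : Matrix (Fin n) (Fin n) F) * Bi).map σ).map τ =
        (Bm * (x : Matrix (Fin n) (Fin n) F) * Bi).map σ := by
      ext i j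
      rw [Matrix.map_apply, Matrix.map_apply, hcomm]
      have := congrFun (congrFun h2 i) j
      rw [Matrix.map_apply] at this
      rw [this]
    simp only [Matrix.map_mul] at h2 h3 h4
    rw [Matrix.map_mul, Matrix.map_mul] at *
    rw [h3, h4] at h1
    exact h1
  -- G^τ = c G
  obtain ⟨c, hc⟩ : ∃ c : F, G.map τ = c • G := by
    have hFI : FInv σ N ((Bmᵀ * G.map τ * Bm.map σ)ᵀ) := by
      intro x hx
      set xm : Matrix (Fin n) (Fin n) F := (x : Matrix (Fin n) (Fin n) F) with hxm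
      have h1 := hinvτ x hx
      have e1 : Biᵀ * Bmᵀ = 1 := by
        rw [← Matrix.transpose_mul, GLmul_inv, Matrix.transpose_one]
      have h2 : xmᵀ * (Bmᵀ * G.map τ * Bm.map σ) * xm.map σ = Bmᵀ * G.map τ * Bm.map σ := by
        calc xmᵀ * (Bmᵀ * G.map τ * Bm.map σ) * xm.map σ
            = Bmᵀ * ((Bm * xm * Bi)ᵀ * G.map τ * (Bm * xm * Bi).map σ) * Bm.map σ := by
              rw [Matrix.transpose_mul, Matrix.transpose_mul, Matrix.map_mul, Matrix.map_mul]
              have e2 : Bmᵀ * (Biᵀ * (xmᵀ * Bmᵀ)) = xmᵀ * Bmᵀ := by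
                rw [← Matrix.mul_assoc, ← Matrix.transpose_mul, GLinv_mul, Matrix.transpose_one,
                  Matrix.one_mul]
              have e3 : Bm.map σ * xm.map σ * Bi.map σ * Bm.map σ = Bm.map σ * xm.map σ := by
                rw [Matrix.mul_assoc, map_inv_mul, Matrix.mul_one]
              calc xmᵀ * (Bmᵀ * G.map τ * Bm.map σ) * xm.map σ
                  = (xmᵀ * Bmᵀ) * G.map τ * (Bm.map σ * xm.map σ) := by
                    simp only [Matrix.mul_assoc]
                _ = (Bmᵀ * (Biᵀ * (xmᵀ * Bmᵀ))) * G.map τ *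
                      (Bm.map σ * xm.map σ * Bi.map σ * Bm.map σ) := by rw [e2, e3]
                _ = _ := by simp only [Matrix.mul_assoc]
          _ = _ := by rw [h1]
      have h3 := congrArg Matrix.transpose h2
      rw [Matrix.transpose_mul, Matrix.transpose_mul, Matrix.transpose_transpose] at h3
      have h4 : (xm.map σ)ᵀ = Asch.star σ xm := rfl
      rw [h4, ← Matrix.mul_assoc] at h3
      exact h3
    obtain ⟨c, hc⟩ := FInv_unique σ hspan (1 : GL (Fin n) F)
      (by rw [Units.val_one]; exact FInv_one_of_le_GU hF hN) hFI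
    refine ⟨c, ?_⟩
    rw [Units.val_one] at hc
    have h5 := congrArg Matrix.transpose hc
    rw [Matrix.transpose_transpose, Matrix.transpose_smul, Matrix.transpose_one] at h5
    -- G^τ = Bi^T (c • 1) Bi^σ
    have e1 : Biᵀ * Bmᵀ = 1 := by
      rw [← Matrix.transpose_mul, GLmul_inv, Matrix.transpose_one]
    calc G.map τ = (Biᵀ * Bmᵀ) * G.map τ * (Bm.map σ * Bi.map σ) := by
          rw [e1, map_mul_inv, Matrix.one_mul, Matrix.mul_one]
      _ = Biᵀ * (Bmᵀ * G.map τ * Bm.map σ) * Bi.map σ := by simp only [Matrix.mul_assoc]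
      _ = c • G := by
          rw [h5, hG, Matrix.mul_smul, Matrix.smul_mul, Matrix.mul_one]
  -- a rational vector of non-zero norm
  have hG0 : G ≠ 0 := by
    intro h0
    have := det_gram hF B⁻¹
    rw [← hBi, ← hG, h0] at this
    exact this Matrix.det_zero
  obtain ⟨u, hu, hs⟩ : ∃ u : Fin n → F, (∀ i, u i ∈ K) ∧ gf σ G u u ≠ 0 := by
    by_contra hcon
    push Not at hcon
    obtain ⟨i, j, hij⟩ : ∃ i j, G i j ≠ 0 := by
      by_contra h
      push Not at h
      apply hG0
      ext i j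
      exact h i j
    have hii : ∀ k, G k k = 0 := by
      intro k
      have := hcon (Pi.single k 1) (fun l => by
        by_cases hl : l = k
        · subst hl; rw [Pi.single_eq_same]; exact K.one_mem
        · rw [Pi.single_eq_of_ne hl]; exact K.zero_mem)
      rwa [gf_single] at this
    have key : ∀ α ∈ K, α * G i j + σ (α * G i j) = 0 := by
      intro α hα
      have hmem : ∀ l, (α • Pi.single i (1 : F) + Pi.single j (1 : F) : Fin n → F) l ∈ K := by
        intro l
        rw [Pi.add_apply, Pi.smul_apply, smul_eq_mul]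
        refine K.add_mem (K.mul_mem hα ?_) ?_
        · by_cases hl : l = i
          · subst hl; rw [Pi.single_eq_same]; exact K.one_mem
          · rw [Pi.single_eq_of_ne hl]; exact K.zero_mem
        · by_cases hl : l = j
          · subst hl; rw [Pi.single_eq_same]; exact K.one_mem
          · rw [Pi.single_eq_of_ne hl]; exact K.zero_mem
      have h1 := hcon _ hmem
      rw [gf_add_left, gf_add_right, gf_add_right, gf_smul_left, gf_smul_left, gf_smul_right,
        gf_smul_right, gf_single, gf_single, gf_single, gf_single, hii i, hii j] at h1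
      rw [map_mul, hherm j i]
      linear_combination h1
    have hβ : σ (G i j) = - G i j := by
      have := key 1 K.one_mem
      rw [one_mul] at this
      linear_combination this
    apply hK
    intro α hα
    have h1 := key α hα
    rw [map_mul, hβ] at h1
    have h2 : (α - σ α) * G i j = 0 := by linear_combination h1
    rcases mul_eq_zero.mp h2 with h | h
    · rw [mem_Fq, ← sigma_apply hF, ← hσ]
      exact (sub_eq_zero.mp h).symm
    · exact absurd h hij
  obtain ⟨s, hsdef⟩ : ∃ s : F, s = gf σ G u u := ⟨_, rfl⟩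
  have hs0 : s ≠ 0 := by rw [hsdef]; exact hs
  have hsσ : s ^ q = s := by
    rw [← sigma_apply hF, ← hσ, hsdef]
    exact (gf_herm σ (sigma_sigma hF) G (fun a b => hherm a b) u u).symm
  have hτs : τ s = c * s := by
    rw [hsdef, map_gf σ τ hcomm, hc, gf_smul_mat]
    have : τ ∘ u = u := by
      funext i
      exact (hfix _).mp (hu i)
    rw [this]
  have hG₁ : ∀ i j, (1 : F) * (s⁻¹ • G) i j ∈ K := by
    intro i j
    rw [one_mul, Matrix.smul_apply, smul_eq_mul, hfix, map_mul, map_inv₀, hτs]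
    have h1 : τ (G i j) = c * G i j := by
      have := congrFun (congrFun hc i) j
      rwa [Matrix.map_apply, Matrix.smul_apply, smul_eq_mul] at this
    rw [h1]
    have hc0 : c ≠ 0 := by
      intro h0
      rw [h0, zero_mul] at hτs
      exact hs0 ((map_eq_zero τ).mp hτs)
    field_simp
  obtain ⟨l, hl⟩ := HermCount.exists_norm_eq hF s⁻¹ (inv_ne_zero hs0) (by rw [inv_pow, hsσ])
  have hl0 : l ≠ 0 := by
    intro h0
    rw [h0, zero_pow (by omega)] at hl
    exact inv_ne_zero hs0 hl.symm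
  let B' : GL (Fin n) F := ⟨l⁻¹ • Bm, l • Bi, by
    rw [Matrix.smul_mul, Matrix.mul_smul, smul_smul, inv_mul_cancel₀ hl0, one_smul, GLmul_inv], by
    rw [Matrix.smul_mul, Matrix.mul_smul, smul_smul, mul_inv_cancel₀ hl0, one_smul, GLinv_mul]⟩
  have hB'val : (B' : Matrix (Fin n) (Fin n) F) = l⁻¹ • Bm := rfl
  have hB'inv : ((B'⁻¹ : GL (Fin n) F) : Matrix (Fin n) (Fin n) F) = l • Bi := rfl
  have hsub : H ≤ subfieldSubgroup K B'⁻¹ := by
    refine le_subfieldSubgroup_of_realisable H N hHN hspan K B' ?_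
    intro t ht i j
    rw [hB'val, hB'inv, Matrix.smul_mul, Matrix.smul_mul, Matrix.mul_smul, smul_smul,
      inv_mul_cancel₀ hl0, one_smul]
    exact hB t ht i j
  have hformrat : IsFormRationalStructure (hermForm n F q) K 1 B'⁻¹ := by
    intro u v hu hv
    rw [hB'inv, hform]
    have e1 : (l • Bi)ᵀ * (l • Bi).map σ = s⁻¹ • G := by
      have : (l • Bi).map σ = σ l • Bi.map σ := by
        ext a b
        simp [Matrix.map_apply, Matrix.smul_apply]
      rw [this, Matrix.transpose_smul, Matrix.smul_mul, Matrix.mul_smul, smul_smul, ← hG, hσ,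
        sigma_apply, ← hl, pow_succ]
      congr 1
      ring
    rw [e1]
    refine gf_mem_subfield K σ _ 1 hG₁ u v hu ?_
    intro i
    rw [hσ, sigma_apply]
    exact K.pow_mem (hv i) q
  exact UC_C5a hH K r B'⁻¹ hr hrodd hcard hformrat hsub

include hF in
/-- the class-5 lemma: a spanning normal subgroup written over a proper subfield -/
theorem class5U (hn : 2 ≤ n) (H N : Subgroup (GL (Fin n) F)) (hH : H ≤ GU n F q)
    (hNH : N ≤ H) (hHN : ∀ h ∈ H, ∀ x ∈ N, h * x * h⁻¹ ∈ N)
    (hspan : Submodule.span F (mset N) = ⊤) (F₁ : Subfield F) (hF₁ : F₁ ≠ ⊤)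
    (hreal : RealisableOver F₁ (matrixSet N)) : UC n F q H := by
  obtain ⟨B, hB⟩ := hreal
  by_cases hle : F₁ ≤ Fq hF
  · exact class5_Fq hF hn H N hH hNH hHN hspan B (fun s hs i j => hle (hB s hs i j))
  · obtain ⟨K, r, hFK, hr, hcard⟩ := exists_max_subfield F₁ hF₁
    have hr2 : r ≠ 2 := by
      rintro rfl
      apply hle
      intro x hx
      have := hFK hx
      rwa [eq_Fq_of_card hF K hcard] at this
    exact class5_odd hF hn H N hH hNH hHN hspan K r hr (hr.odd_of_ne_two hr2) hcard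
      (fun h => hle (hFK.trans h)) B (fun s hs i j => hFK (hB s hs i j))

end Cfsg.Agent.Lib.Helper9.AschU
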