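import Mathlib
import Cfsg.Prelude
import Cfsg.Agent.Lib.Helper9.AschU11

set_option autoImplicit false
set_option linter.unusedSectionVars false
set_option linter.unusedVariables false
set_option linter.style.longLine false
set_option linter.unusedSimpArgs false
open Cfsg

namespace Cfsg.Agent.Lib.Helper9.AschU

open Module Matrix
open Cfsg.Geo
open Cfsg.Agent.Lib.Helper8.Asch
open Cfsg.Agent.Lib.Helper5 Cfsg.Agent.Lib.Helper8
open Cfsg.Agent.Lib.Helper5.Herm
open Cfsg.Agent.Lib.Helper5.HermBridge (hermSesq hermSesq_apply hermSesq_nondegenerate sigma_apply sigma_sigma sigma_ne_id)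
open Cfsg.Agent.Lib.Helper5.HermPair Cfsg.Agent.Lib.Helper5.HermPerp
open Cfsg.Agent.Lib.Helper5.SUSingularMax

variable {F : Type*} [Field F] [Fintype F] {q : ℕ} (hF : Fintype.card F = q ^ 2) {n : ℕ}

theorem transpose_mul_map_of_mem_GU {x : GL (Fin n) F} (hx : x ∈ GU n F q) :
    (x : Matrix (Fin n) (Fin n) F)ᵀ * (x : Matrix (Fin n) (Fin n) F).map (HermBridge.sigma hF) = 1 := by
  have h4 := (mem_GU_iff hF x).mp hx
  have h5 := congrArg Matrix.transpose h4
  rw [Matrix.transpose_mul, Matrix.transpose_one] at h5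
  have h6 : (Asch.star (HermBridge.sigma hF) (x : Matrix (Fin n) (Fin n) F))ᵀ =
      (x : Matrix (Fin n) (Fin n) F).map (HermBridge.sigma hF) := by
    unfold Asch.star
    rw [Matrix.transpose_transpose]
  rw [h6] at h5
  exact h5

theorem map_map_sigma (X : Matrix (Fin n) (Fin n) F) :
    (X.map (HermBridge.sigma hF)).map (HermBridge.sigma hF) = X := by
  ext i j
  simp only [Matrix.map_apply, sigma_sigma]

/-- a unitary group preserving a non-degenerate bilinear form is written over the fixed field -/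
theorem descent (hn : 0 < n) {N : Subgroup (GL (Fin n) F)} (hN : N ≤ GU n F q)
    (hspan : Submodule.span F (mset N) = ⊤) (Bf : Matrix (Fin n) (Fin n) F) (hdet : Bf.det ≠ 0)
    (hFI : FInv (RingHom.id F) N Bf) : RealisableOver (Fq hF) (matrixSet N) := by
  classical
  haveI : Nonempty (Fin n) := ⟨⟨0, hn⟩⟩
  set σ := HermBridge.sigma hF with hσ
  have hσσ : ∀ X : Matrix (Fin n) (Fin n) F, (X.map σ).map σ = X := map_map_sigma hF
  have hone : (1 : Matrix (Fin n) (Fin n) F).map σ = 1 := Matrix.map_one _ (map_zero σ) (map_one σ)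
  -- x^σ Bf = Bf x
  have hstar : ∀ x ∈ N, (x : Matrix (Fin n) (Fin n) F).map σ * Bf = Bf * (x : Matrix (Fin n) (Fin n) F) := by
    intro x hx
    set xm : Matrix (Fin n) (Fin n) F := (x : Matrix (Fin n) (Fin n) F) with hxm
    have h1 := hFI x hx
    have hst : Asch.star (RingHom.id F) xm = xmᵀ := by
      ext a b
      rfl
    rw [hst] at h1
    have h2 : xmᵀ * xm.map σ = 1 := transpose_mul_map_of_mem_GU hF (hN hx)
    have h3 : xm.map σ * xmᵀ = 1 := mul_eq_one_comm.mp h2
    calc xm.map σ * Bf = xm.map σ * (xmᵀ * Bf * xm) := by rw [h1]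
      _ = (xm.map σ * xmᵀ) * Bf * xm := by simp only [Matrix.mul_assoc]
      _ = Bf * xm := by rw [h3, Matrix.one_mul]
  have hstar' : ∀ x ∈ N, (x : Matrix (Fin n) (Fin n) F) * Bf.map σ =
      Bf.map σ * (x : Matrix (Fin n) (Fin n) F).map σ := by
    intro x hx
    have := congrArg (fun Y : Matrix (Fin n) (Fin n) F => Y.map σ) (hstar x hx)
    simp only [Matrix.map_mul, hσσ] at this
    exact this
  have hC : ∀ X ∈ mset N, (Bf.map σ * Bf) * X = X * (Bf.map σ * Bf) := by
    rintro X ⟨x, hx, rfl⟩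
    rw [Matrix.mul_assoc, ← hstar x hx, ← Matrix.mul_assoc, ← hstar' x hx, Matrix.mul_assoc]
  obtain ⟨c, hc⟩ := scalar_of_commute_span hspan hC
  have hdetσ : (Bf.map σ).det ≠ 0 := by
    have : (Bf.map σ).det = σ Bf.det := by
      rw [RingHom.map_det]
      rfl
    rw [this]
    exact (map_ne_zero _).mpr hdet
  have hc0 : c ≠ 0 := by
    intro h0
    rw [h0, zero_smul] at hc
    have := congrArg Matrix.det hc
    rw [Matrix.det_mul, Matrix.det_zero] at this
    exact mul_ne_zero hdetσ hdet this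
  have hc' : Bf * Bf.map σ = c • 1 := by
    have h1 : (c⁻¹ • Bf.map σ) * Bf = 1 := by
      rw [Matrix.smul_mul, hc, smul_smul, inv_mul_cancel₀ hc0, one_smul]
    have h2 := mul_eq_one_comm.mp h1
    rw [Matrix.mul_smul] at h2
    have h3 := congrArg (fun Y : Matrix (Fin n) (Fin n) F => c • Y) h2
    simp only [smul_smul, mul_inv_cancel₀ hc0, one_smul] at h3
    exact h3
  have hcσ : c ^ q = c := by
    have h1 := congrArg (fun Y : Matrix (Fin n) (Fin n) F => Y.map σ) hc
    simp only [Matrix.map_mul, hσσ] at h1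
    rw [hc'] at h1
    have h2 := congrFun (congrFun h1 ⟨0, hn⟩) ⟨0, hn⟩
    simp only [Matrix.map_apply, Matrix.smul_apply, Matrix.one_apply_eq, smul_eq_mul, mul_one] at h2
    rw [← sigma_apply hF, ← hσ]
    exact h2.symm
  obtain ⟨μ, hμ⟩ := HermCount.exists_norm_eq hF c⁻¹ (inv_ne_zero hc0) (by rw [inv_pow, hcσ])
  have hμ0 : μ ≠ 0 := by
    intro h0
    rw [h0, zero_pow (by omega)] at hμ
    exact inv_ne_zero hc0 hμ.symm
  obtain ⟨B₁, hB₁⟩ : ∃ B₁ : Matrix (Fin n) (Fin n) F, B₁ = μ • Bf := ⟨_, rfl⟩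
  have hB₁σ : B₁.map σ = σ μ • Bf.map σ := by
    rw [hB₁]
    ext a b
    simp [Matrix.map_apply, Matrix.smul_apply]
  have hμσ : σ μ * μ * c = 1 := by
    rw [hσ, sigma_apply]
    have : μ ^ q * μ = μ ^ (q + 1) := by rw [pow_succ]
    rw [this, hμ, inv_mul_cancel₀ hc0]
  have e1 : B₁.map σ * B₁ = 1 := by
    rw [hB₁σ, hB₁, Matrix.smul_mul, Matrix.mul_smul, hc, smul_smul, smul_smul, hμσ, one_smul]
  have e2 : B₁ * B₁.map σ = 1 := mul_eq_one_comm.mp e1
  have hs1 : ∀ x ∈ N, (x : Matrix (Fin n) (Fin n) F) * B₁.map σ =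
      B₁.map σ * (x : Matrix (Fin n) (Fin n) F).map σ := by
    intro x hx
    rw [hB₁σ, Matrix.mul_smul, Matrix.smul_mul, hstar' x hx]
  -- the semilinear involution
  let φ : (Fin n → F) → (Fin n → F) := fun t => (σ ∘ t) ᵥ* B₁
  have hφφ : ∀ t, φ (φ t) = t := by
    intro t
    show (σ ∘ ((σ ∘ t) ᵥ* B₁)) ᵥ* B₁ = t
    have h1 : σ ∘ ((σ ∘ t) ᵥ* B₁) = t ᵥ* B₁.map σ := by
      funext j
      rw [Function.comp, RingHom.map_vecMul]
      congr 2
      funext k
      simp only [Function.comp, hσ, sigma_sigma]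
    rw [h1, Matrix.vecMul_vecMul, e1, Matrix.vecMul_one]
  have hφadd : ∀ s t, φ (s + t) = φ s + φ t := by
    intro s t
    show (σ ∘ (s + t)) ᵥ* B₁ = (σ ∘ s) ᵥ* B₁ + (σ ∘ t) ᵥ* B₁
    rw [comp_add, Matrix.add_vecMul]
  have hφsmul : ∀ (a : F) t, φ (a • t) = σ a • φ t := by
    intro a t
    show (σ ∘ (a • t)) ᵥ* B₁ = σ a • ((σ ∘ t) ᵥ* B₁)
    rw [comp_smul, Matrix.smul_vecMul]
  let V₀ : Set (Fin n → F) := {t | φ t = t}
  have hV₀span : Submodule.span F V₀ = ⊤ := by
    obtain ⟨θ, hθ⟩ := exists_not_fixed hF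
    have hθ' : σ θ - θ ≠ 0 := by
      rw [hσ, sigma_apply]
      exact sub_ne_zero.mpr hθ
    rw [eq_top_iff]
    intro v _
    have hw1 : v + φ v ∈ V₀ := by
      show φ (v + φ v) = v + φ v
      rw [hφadd, hφφ, add_comm]
    have hw2 : θ • v + σ θ • φ v ∈ V₀ := by
      show φ (θ • v + σ θ • φ v) = θ • v + σ θ • φ v
      rw [hφadd, hφsmul, hφsmul, hφφ, hσ, sigma_sigma, add_comm]
    have hv : v = (σ θ - θ)⁻¹ • (σ θ • (v + φ v) - (θ • v + σ θ • φ v)) := by
      have : σ θ • (v + φ v) - (θ • v + σ θ • φ v) = (σ θ - θ) • v := by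
        rw [smul_add, sub_smul]
        abel
      rw [this, smul_smul, inv_mul_cancel₀ hθ', one_smul]
    rw [hv]
    refine Submodule.smul_mem _ _ (Submodule.sub_mem _ (Submodule.smul_mem _ _ ?_) ?_)
    · exact Submodule.subset_span hw1
    · exact Submodule.subset_span hw2
  obtain ⟨f, hf, -, hli⟩ := Submodule.exists_fun_fin_finrank_span_eq F V₀
  have hm : finrank F (Submodule.span F V₀) = n := by
    rw [hV₀span, finrank_top, Module.finrank_fin_fun]
  obtain ⟨T, hT⟩ : ∃ T : Matrix (Fin n) (Fin n) F, T = Matrix.of (fun i => f (Fin.cast hm.symm i)) :=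
    ⟨_, rfl⟩
  have hTu : IsUnit T := by
    rw [← Matrix.linearIndependent_rows_iff_isUnit]
    have : T.row = f ∘ (Fin.cast hm.symm) := by
      rw [hT]
      rfl
    rw [this]
    exact hli.comp _ (Fin.cast_injective _)
  have hTB : T.map σ * B₁ = T := by
    ext i j
    have h1 : φ (T i) = T i := by
      rw [hT]
      exact hf _
    have h2 := congrFun h1 j
    rw [← h2]
    simp only [Matrix.mul_apply, Matrix.map_apply, φ, Matrix.vecMul, dotProduct, Function.comp]
  obtain ⟨TGL, hTGL⟩ := hTu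
  refine ⟨TGL, ?_⟩
  rintro s ⟨x, hx, rfl⟩ i j
  set xm : Matrix (Fin n) (Fin n) F := (x : Matrix (Fin n) (Fin n) F) with hxm
  set Ti : Matrix (Fin n) (Fin n) F := ((TGL⁻¹ : GL (Fin n) F) : Matrix (Fin n) (Fin n) F) with hTi
  rw [hTGL]
  have t1 : Ti * T = 1 := by rw [hTi, ← hTGL]; exact GLinv_mul TGL
  have t2 : T * Ti = 1 := by rw [hTi, ← hTGL]; exact GLmul_inv TGL
  have t3 : T.map σ * Ti.map σ = 1 := by rw [← Matrix.map_mul, t2, hone]
  have hTσ : T.map σ = T * B₁.map σ := by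
    calc T.map σ = T.map σ * (B₁ * B₁.map σ) := by rw [e2, Matrix.mul_one]
      _ = T * B₁.map σ := by rw [← Matrix.mul_assoc, hTB]
  have key : (T * xm * Ti).map σ * T.map σ = (T * xm * Ti) * T.map σ := by
    rw [← Matrix.map_mul]
    have h1 : T * xm * Ti * T = T * xm := by rw [Matrix.mul_assoc, t1, Matrix.mul_one]
    rw [h1, Matrix.map_mul, hTσ]
    calc T * B₁.map σ * xm.map σ = T * (B₁.map σ * xm.map σ) := by rw [Matrix.mul_assoc]
      _ = T * (xm * B₁.map σ) := by rw [hs1 x hx]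
      _ = T * xm * (Ti * T) * B₁.map σ := by rw [t1, Matrix.mul_one, Matrix.mul_assoc]
      _ = T * xm * Ti * (T * B₁.map σ) := by simp only [Matrix.mul_assoc]
  have hfin : (T * xm * Ti).map σ = T * xm * Ti := by
    calc (T * xm * Ti).map σ = (T * xm * Ti).map σ * (T.map σ * Ti.map σ) := by
          rw [t3, Matrix.mul_one]
      _ = ((T * xm * Ti).map σ * T.map σ) * Ti.map σ := (Matrix.mul_assoc _ _ _).symm
      _ = ((T * xm * Ti) * T.map σ) * Ti.map σ := by rw [key]
      _ = (T * xm * Ti) * (T.map σ * Ti.map σ) := Matrix.mul_assoc _ _ _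
      _ = T * xm * Ti := by rw [t3, Matrix.mul_one]
  have := congrFun (congrFun hfin i) j
  rw [Matrix.map_apply, hσ, sigma_apply] at this
  exact this

end Cfsg.Agent.Lib.Helper9.AschU
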