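import Mathlib
import Cfsg.Prelude
import Cfsg.Agent.Lib.Helper9.AschU12

set_option autoImplicit false
set_option linter.unusedSectionVars false
set_option linter.unusedVariables false
set_option linter.style.longLine false
set_option linter.unusedSimpArgs false
open Cfsg

namespace Cfsg.Agent.Lib.Helper9.AschU

open Module Matrix
open scoped commutatorElement
open Cfsg.Geo
open Cfsg.Agent.Lib.Helper8.Asch
open Cfsg.Agent.Lib.Helper5 Cfsg.Agent.Lib.Helper8
open Cfsg.Agent.Lib.Helper5.Herm
open Cfsg.Agent.Lib.Helper5.HermBridge (hermSesq hermSesq_apply hermSesq_nondegenerate sigma_apply sigma_sigma sigma_ne_id)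
open Cfsg.Agent.Lib.Helper5.HermPair Cfsg.Agent.Lib.Helper5.HermPerp
open Cfsg.Agent.Lib.Helper5.SUSingularMax

variable {F : Type*} [Field F] [Fintype F] {q : ℕ} (hF : Fintype.card F = q ^ 2) {n : ℕ}

theorem GU_le_similarity : GU n F q ≤ similarityGroup (hermForm n F q) := by
  intro g hg
  refine ⟨1, fun u v => ?_⟩
  rw [Units.val_one, one_mul]
  exact hg u v

theorem le_normalizer_of_HInv {H R : Subgroup (GL (Fin n) F)}
    (hHR : ∀ h ∈ H, ∀ x ∈ R, h * x * h⁻¹ ∈ R) : H ≤ subgroupNormalizer R := by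
  intro h hh
  unfold subgroupNormalizer
  rw [Subgroup.mem_set_normalizer_iff]
  intro x
  constructor
  · intro hx
    exact hHR h hh x hx
  · intro hx
    have := hHR h⁻¹ (H.inv_mem hh) _ hx
    have e : h⁻¹ * (h * x * h⁻¹) * h⁻¹⁻¹ = x := by group
    rw [e] at this
    exact this

theorem UC_C6 {H : Subgroup (GL (Fin n) F)} (hH : H ≤ GU n F q) (r : ℕ)
    (R : Subgroup (GL (Fin n) F)) (p e k : ℕ) (hst : IsSymplecticTypeGroup r R)
    (habs : ActsAbsolutelyIrreducibly (matrixSet R))
    (hsim : R ≤ similarityGroup (hermForm n F q)) (hrp : r ≠ p)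
    (hmin : IsMinimalFieldFor (Nat.card (Subgroup.center R)) p e F)
    (hcases : (Odd r ∧ Nat.card (Subgroup.center R) = r ∧ 1 ≤ k ∧ Nat.card R = r ^ (1 + 2 * k)) ∨
       (r = 2 ∧ e = 2 ∧ Nat.card (Subgroup.center R) = 4 ∧ Nat.card R = 2 ^ (2 + 2 * k)))
    (hle : H ≤ subgroupNormalizer R) : UC n F q H :=
  ⟨subgroupNormalizer R ⊓ GU n F q,
    Or.inl (Or.inr (Or.inr (Or.inr (Or.inr (Or.inr (Or.inr (Or.inr
      ⟨r, R, p, e, k, hst, habs, hsim, hrp, hmin, hcases, rfl⟩))))))),
    le_inf hle hH⟩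

include hF in
theorem even_exponent (p e : ℕ) (hp : p.Prime) (hcard : Fintype.card F = p ^ e) : Even e := by
  have h1 : p ^ e = q ^ 2 := hcard.symm.trans hF
  have h2 := congrArg (fun x => x.factorization p) h1
  simp only [Nat.factorization_pow, Finsupp.smul_apply, hp.factorization_self, smul_eq_mul,
    mul_one] at h2
  exact ⟨q.factorization p, by omega⟩

include hF in
theorem caseA_U (hn : 3 ≤ n) {H N : Subgroup (GL (Fin n) F)} (hH : H ≤ GU n F q)
    (hA : ACase H N) : UC n F q H := by
  haveI : Nonempty (Fin n) := ⟨⟨0, by omega⟩⟩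
  obtain ⟨r, m, hr, hnm, hp, hexp, hz1, hz2, hcardN⟩ := hA.structure_thm
  rw [Fintype.card_fin] at hnm
  set z := Nat.card ↥(N ⊓ Zs (Fin n) F) with hz
  have hHN : HInv H N := hA.minNC.inv
  have hNH : N ≤ H := hA.minNC.le
  have hsvz : ∀ k ∈ N, k ∈ Zs (Fin n) F → sv k ^ z = 1 := fun k hk hkZ => sv_pow_card N hk hkZ
  have hm1 : 1 ≤ m := by
    by_contra hlt
    push Not at hlt
    interval_cases m
    rw [pow_zero] at hnm
    omega
  have hrcases : (r = 2 ∧ (z = 2 ∨ z = 4)) ∨ (Odd r ∧ z = r) := by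
    rcases hr.eq_two_or_odd' with h2 | hodd
    · left
      subst h2
      refine ⟨rfl, ?_⟩
      have h4 : z ∣ 4 := hz1
      have hle : z ≤ 4 := Nat.le_of_dvd (by norm_num) h4
      have h0 : z ≠ 0 := by
        intro h0
        rw [h0] at h4
        omega
      have h3 : z ≠ 3 := by
        intro h3
        rw [h3] at h4
        omega
      omega
    · right
      refine ⟨hodd, ?_⟩
      have hg : Nat.gcd 2 r = 1 := by
        rw [← Nat.coprime_iff_gcd_eq_one]
        exact (Nat.coprime_primes Nat.prime_two hr).mpr (fun h => by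
          rw [← h] at hodd
          exact absurd hodd (by decide))
      rw [hg, mul_one] at hz1
      rcases (Nat.dvd_prime hr).mp hz1 with h | h
      · exact absurd h hz2
      · exact h
  set S : Set F := Set.range (svHom N) with hS
  set F₁ : Subfield F := Subfield.closure S with hF₁def
  have hF₁ : ∀ k ∈ N, k ∈ Zs (Fin n) F → sv k ∈ F₁ := fun k hk hkZ =>
    Subfield.subset_closure ⟨⟨k, hk, hkZ⟩, rfl⟩
  by_cases htop : F₁ = ⊤
  swap
  · obtain ⟨U, hU⟩ := realise_over_subfield hA.cl2 F₁ hF₁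
    refine class5U hF (by omega) H N hH hNH hHN hA.span F₁ htop ⟨U, ?_⟩
    rintro s ⟨x, hx, rfl⟩ i j
    exact hU x hx i j
  obtain ⟨p, hchar, e, hpp, hcard⟩ := FiniteField.card' F
  haveI : Fact p.Prime := ⟨hpp⟩
  have he1 : 1 ≤ (e : ℕ) := e.pos
  have heven : Even (e : ℕ) := even_exponent hF p e hpp hcard
  have hSz : ∀ c ∈ S, c ^ z = 1 := by
    rintro c ⟨k, rfl⟩
    exact hsvz k k.2.1 k.2.2
  have hmin : ∀ d : ℕ, 0 < d → d < (e : ℕ) → ¬ z ∣ p ^ d - 1 :=
    fun d hd0 hde => minimal_of_closure_top S z hSz htop p e hcard d hd0 hde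
  have hzdvd : z ∣ p ^ (e : ℕ) - 1 := by
    have := card_inf_dvd (F := F) N
    rwa [Nat.card_eq_fintype_card (α := F), hcard] at this
  have hcen : Nat.card (Subgroup.center N) = z := card_center hA.cl2
  have hminF : IsMinimalFieldFor (Nat.card (Subgroup.center N)) p e F := by
    rw [hcen]
    exact ⟨hpp, hchar, hcard, hzdvd, hmin⟩
  have hsymp : IsSymplecticTypeGroup r N := hA.symplecticType hr hp hexp
  have habs : ActsAbsolutelyIrreducibly (matrixSet N) := absIrred_of_span N hA.span
  have hsim : N ≤ similarityGroup (hermForm n F q) := (hNH.trans hH).trans GU_le_similarity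
  have hnorm : H ≤ subgroupNormalizer N := le_normalizer_of_HInv hHN
  have hppos : 1 ≤ p ^ (e : ℕ) := Nat.one_le_pow _ _ hpp.pos
  rcases hrcases with ⟨hr2, hz24⟩ | ⟨hrodd, hzr⟩
  · subst hr2
    rcases hz24 with hz2' | hz4
    · -- centre of order two: the scalars are ±1, in the fixed field
      exfalso
      apply Fq_ne_top hF
      rw [eq_top_iff, ← htop, hF₁def]
      apply Subfield.closure_le.mpr
      intro c hc
      have h1 := hSz c hc
      rw [hz2'] at h1
      show c ^ q = c
      have h2 : (c - 1) * (c + 1) = 0 := by linear_combination h1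
      rcases mul_eq_zero.mp h2 with h | h
      · rw [sub_eq_zero.mp h, one_pow]
      · rw [eq_neg_of_add_eq_zero_left h, pow_q_neg hF, one_pow]
    · have hrp : 2 ≠ p := by
        intro h2p
        subst h2p
        rw [hz4] at hzdvd
        have h2e : 2 ∣ 2 ^ (e : ℕ) := dvd_pow_self 2 (by omega)
        omega
      have he1' : (e : ℕ) ≠ 1 := by
        intro h
        rw [h] at heven
        exact absurd heven (by decide)
      have h41 : ¬ 4 ∣ p ^ 1 - 1 := by
        have := hmin 1 (by norm_num) (by omega)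
        rwa [hz4] at this
      rw [pow_one] at h41
      have hpodd : p % 2 = 1 := by
        rw [hz4] at hzdvd
        by_contra hp2
        have hp0 : p % 2 = 0 := by omega
        have h2p : 2 ∣ p := Nat.dvd_of_mod_eq_zero hp0
        have h2pe : 2 ∣ p ^ (e : ℕ) := dvd_pow h2p (by omega)
        omega
      have hp3 : p % 4 = 3 := by omega
      have h4p1 : 4 ∣ p + 1 := by omega
      have h42 : 4 ∣ p ^ 2 - 1 := by
        have : p ^ 2 - 1 ^ 2 = (p + 1) * (p - 1) := Nat.sq_sub_sq p 1
        rw [one_pow] at this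
        rw [this]
        exact Dvd.dvd.mul_right h4p1 _
      have he2 : (e : ℕ) = 2 := by
        by_contra hne
        have h3 : 2 < (e : ℕ) := by omega
        have := hmin 2 (by norm_num) h3
        rw [hz4] at this
        exact this h42
      refine UC_C6 hH 2 N p e m hsymp habs hsim hrp hminF ?_ hnorm
      right
      refine ⟨rfl, he2, by rw [hcen, hz4], ?_⟩
      rw [hcardN, hz4, pow_add]
      norm_num
  · have hrp : r ≠ p := by
      intro hrp
      rw [hzr, hrp] at hzdvd
      have : p ∣ p ^ (e : ℕ) := dvd_pow_self p (by omega)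
      have h1 : p ∣ 1 := by
        have h2 : p ∣ p ^ (e : ℕ) - (p ^ (e : ℕ) - 1) := Nat.dvd_sub this hzdvd
        have h3 : p ^ (e : ℕ) - (p ^ (e : ℕ) - 1) = 1 := by omega
        rwa [h3] at h2
      exact hpp.one_lt.ne' (Nat.dvd_one.mp h1)
    refine UC_C6 hH r N p e m hsymp habs hsim hrp hminF ?_ hnorm
    left
    refine ⟨hrodd, by rw [hcen, hzr], hm1, ?_⟩
    rw [hcardN, hzr, pow_add, pow_one]

end Cfsg.Agent.Lib.Helper9.AschU
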