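import Mathlib
import Cfsg.Prelude
import Cfsg.Agent.Lib.Helper9.AschU13

set_option autoImplicit false
set_option linter.unusedSectionVars false
set_option linter.unusedVariables false
set_option linter.style.longLine false
set_option linter.unusedSimpArgs false
open Cfsg

namespace Cfsg.Agent.Lib.Helper9.AschU

open Module Matrix
open scoped commutatorElement
open Cfsg.Geo
open Cfsg.Agent.Lib.Helper8.Asch
open Cfsg.Agent.Lib.Helper5 Cfsg.Agent.Lib.Helper8
open Cfsg.Agent.Lib.Helper5.Herm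
open Cfsg.Agent.Lib.Helper5.HermBridge (hermSesq hermSesq_apply hermSesq_nondegenerate sigma_apply sigma_sigma sigma_ne_id)
open Cfsg.Agent.Lib.Helper5.HermPair Cfsg.Agent.Lib.Helper5.HermPerp
open Cfsg.Agent.Lib.Helper5.SUSingularMax

variable {F : Type*} [Field F] [Fintype F] {q : ℕ} (hF : Fintype.card F = q ^ 2) {n : ℕ}

/-- a unitary spanning group fixing a non-degenerate bilinear form is written over the fixed field -/
theorem realisable_of_fixes_bilinear (hn : 0 < n) {N : Subgroup (GL (Fin n) F)} (hN : N ≤ GU n F q)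
    (hspan : Submodule.span F (mset N) = ⊤) (f : (Fin n → F) → (Fin n → F) → F)
    (hb : IsBilinearForm f) (hnd : IsNondegenerateForm f)
    (hfix : ∀ x ∈ N, ∀ u v, f ((x : Matrix (Fin n) (Fin n) F) *ᵥ u)
      ((x : Matrix (Fin n) (Fin n) F) *ᵥ v) = f u v) :
    RealisableOver (Fq hF) (matrixSet N) := by
  set G := gramMatrix f with hG
  have hfG : ∀ u v, f u v = gf (RingHom.id F) G u v :=
    eq_gf (RingHom.id F) f hb.add_left hb.smul_left hb.add_right
      (fun c v x => hb.smul_right c v x)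
  have hdet : G.det ≠ 0 := by
    refine det_ne_zero_of_nondeg (RingHom.id F) (fun a => ⟨a, rfl⟩) G ?_
    have : gf (RingHom.id F) G = f := by
      funext u v
      exact (hfG u v).symm
    rw [this]
    exact hnd
  refine descent hF hn hN hspan G hdet ?_
  intro x hx
  have h1 := mat_of_fixes (RingHom.id F) G (x : Matrix (Fin n) (Fin n) F) (by
    intro u v
    rw [← hfG, ← hfG]
    exact hfix x hx u v)
  rw [Asch.map_id'] at h1
  rw [star_id]
  exact h1

include hF in
theorem caseB_one_U (hn : 3 ≤ n) (H N : Subgroup (GL (Fin n) F)) (hH : H ≤ GU n F q)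
    (hNH : N ≤ H) (hHN : HInv H N) (hspan : Submodule.span F (mset N) = ⊤)
    (hperf : ⁅N, N⁆ = N) (hmin : IsMinNC N (scalars (Fin n) F) N) :
    UC n F q H ∨ InUnitaryResidualClass H := by
  haveI : Nonempty (Fin n) := ⟨⟨0, by omega⟩⟩
  have hN : N ≤ GU n F q := hNH.trans hH
  by_cases h1 : ∃ F₀ : Subfield F, F₀ ≠ ⊤ ∧ RealisableOver F₀ (matrixSet N)
  · left
    obtain ⟨F₀, hF₀, hreal⟩ := h1
    exact class5U hF (by omega) H N hH hNH hHN hspan F₀ hF₀ hreal
  right
  refine ⟨N, residual_core H N hNH hHN hspan hperf hmin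
    (fun F₀ hF₀ hreal => h1 ⟨F₀, hF₀, hreal⟩), ?_, ?_⟩
  · rintro ⟨Q, hQ, hfix⟩
    apply h1
    refine ⟨Fq hF, Fq_ne_top hF, ?_⟩
    refine realisable_of_fixes_bilinear hF (by omega) hN hspan (QuadraticMap.polar Q)
      hQ.polar_bilinear hQ.nondegenerate ?_
    intro x hx u v
    show Q (_ + _) - Q _ - Q _ = Q (u + v) - Q u - Q v
    rw [← mulVec_add, hfix _ ⟨x, hx, rfl⟩, hfix _ ⟨x, hx, rfl⟩, hfix _ ⟨x, hx, rfl⟩]
  · rintro ⟨f, hf, hfix⟩
    apply h1
    refine ⟨Fq hF, Fq_ne_top hF, ?_⟩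
    exact realisable_of_fixes_bilinear hF (by omega) hN hspan f hf.bilinear hf.nondegenerate
      (fun x hx u v => hfix _ ⟨x, hx, rfl⟩ u v)

end Cfsg.Agent.Lib.Helper9.AschU
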