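import Mathlib
import Cfsg.Prelude
import Cfsg.Agent.Lib.Helper9.AschU14

set_option autoImplicit false
set_option linter.unusedSectionVars false
set_option linter.unusedVariables false
set_option linter.style.longLine false
set_option linter.unusedSimpArgs false
open Cfsg

namespace Cfsg.Agent.Lib.Helper9.AschU

open Module Matrix
open scoped Kronecker
open Cfsg.Geo
open Cfsg.Agent.Lib.Helper8.Asch
open Cfsg.Agent.Lib.Helper5 Cfsg.Agent.Lib.Helper8
open Cfsg.Agent.Lib.Helper5.Herm
open Cfsg.Agent.Lib.Helper5.HermBridge (hermSesq hermSesq_apply hermSesq_nondegenerate sigma_apply sigma_sigma sigma_ne_id)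
open Cfsg.Agent.Lib.Helper5.HermPair Cfsg.Agent.Lib.Helper5.HermPerp
open Cfsg.Agent.Lib.Helper5.SUSingularMax

variable {F : Type*} [Field F] [Fintype F] {q : ℕ} (hF : Fintype.card F = q ^ 2) {n : ℕ}
variable {κ : Type} [Fintype κ] [DecidableEq κ]

/-- the Gram matrix of the standard hermitian form in a basis -/
noncomputable def gramB (q : ℕ) (b : Basis κ F (Fin n → F)) : Matrix κ κ F :=
  fun k l => hermForm n F q (b k) (b l)

theorem herm_coord (b : Basis κ F (Fin n → F)) (u v : κ → F) :
    hermForm n F q (b.equivFun.symm u) (b.equivFun.symm v) =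
      gf (HermBridge.sigma hF) (gramB q b) u v := by
  rw [Basis.equivFun_symm_apply, Basis.equivFun_symm_apply, hermForm_sum_left hF]
  unfold gf
  simp only [dotProduct, mulVec, Function.comp, sigma_apply]
  refine Finset.sum_congr rfl fun k _ => ?_
  rw [hermForm_sum_right hF, Finset.mul_sum]
  refine Finset.sum_congr rfl fun l _ => ?_
  rw [hermForm_smul_left, hermForm_smul_right]
  unfold gramB
  ring

theorem gramB_herm (b : Basis κ F (Fin n → F)) (k l : κ) :
    (HermBridge.sigma hF) (gramB q b l k) = gramB q b k l := by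
  unfold gramB
  rw [sigma_apply, hermForm_conj hF]

theorem gramB_nondeg (b : Basis κ F (Fin n → F)) :
    IsNondegenerateForm (gf (HermBridge.sigma hF) (gramB q b)) := by
  intro v hv
  have hv' : b.equivFun.symm v ≠ 0 := by
    intro h0
    apply hv
    have := congrArg b.equivFun h0
    rwa [LinearEquiv.apply_symm_apply, map_zero] at this
  constructor
  · by_contra hcon
    push Not at hcon
    apply hv'
    apply herm_eq_zero_right hF
    intro u
    have := hcon (b.equivFun u)
    rwa [← herm_coord hF, LinearEquiv.symm_apply_apply] at this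
  · by_contra hcon
    push Not at hcon
    apply hv'
    apply herm_eq_zero_left hF
    intro u
    have := hcon (b.equivFun u)
    rwa [← herm_coord hF, LinearEquiv.symm_apply_apply] at this

include hF in
theorem gramB_det (b : Basis κ F (Fin n → F)) : (gramB q b).det ≠ 0 := by
  refine det_ne_zero_of_nondeg (HermBridge.sigma hF) ?_ _ (gramB_nondeg hF b)
  intro a
  exact ⟨HermBridge.sigma hF a, sigma_sigma hF a⟩

omit [Fintype F] in
theorem toMatrix_mulVec_coord (b : Basis κ F (Fin n → F)) (f : Module.End F (Fin n → F)) (u : κ → F) :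
    LinearMap.toMatrix b b f *ᵥ u = b.equivFun (f (b.equivFun.symm u)) := by
  have := LinearMap.toMatrix_mulVec_repr b b f (b.equivFun.symm u)
  have h2 : (b.repr (b.equivFun.symm u) : κ → F) = u := by
    have := b.equivFun.apply_symm_apply u
    exact this
  rw [h2] at this
  rw [this]
  rfl

omit [Fintype F] in
theorem mat_of_fixes' (σ : F →+* F) (G : Matrix κ κ F) (x : Matrix κ κ F)
    (hfix : ∀ u v, gf σ G (x *ᵥ u) (x *ᵥ v) = gf σ G u v) : xᵀ * G * x.map σ = G := by
  ext a b
  rw [← gf_single σ (xᵀ * G * x.map σ) a b, ← gf_mulVec, hfix, gf_single]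

omit [Fintype F] in
theorem eq_of_gf_eq (σ : F →+* F) (G G' : Matrix κ κ F)
    (h : ∀ u v, gf σ G u v = gf σ G' u v) : G = G' := by
  ext a b
  rw [← gf_single σ G a b, h, gf_single]

/-- the Gram matrix is invariant under the matrices of unitary elements -/
theorem gramB_inv (b : Basis κ F (Fin n → F)) {x : GL (Fin n) F} (hx : x ∈ GU n F q) :
    (LinearMap.toMatrix b b (Matrix.toLin' (x : Matrix (Fin n) (Fin n) F)))ᵀ * gramB q b *
      (LinearMap.toMatrix b b (Matrix.toLin' (x : Matrix (Fin n) (Fin n) F))).map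
        (HermBridge.sigma hF) = gramB q b := by
  apply mat_of_fixes'
  intro u v
  rw [toMatrix_mulVec_coord, toMatrix_mulVec_coord, ← herm_coord hF, LinearEquiv.symm_apply_apply,
    LinearEquiv.symm_apply_apply, Matrix.toLin'_apply, Matrix.toLin'_apply, ← herm_coord hF]
  exact hx _ _

/-- the matrix of a group element in a basis, as a group homomorphism -/
noncomputable def matB (b : Basis κ F (Fin n → F)) : GL (Fin n) F →* GL κ F :=
  (glMat b).comp toV

omit [Fintype F] in
theorem matB_val (b : Basis κ F (Fin n → F)) (x : GL (Fin n) F) :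
    (matB b x : Matrix κ κ F) =
      LinearMap.toMatrix b b (Matrix.toLin' (x : Matrix (Fin n) (Fin n) F)) := by
  show (glMat b (toV x) : Matrix κ κ F) = _
  rw [glMat_val, toV_val]

omit [Fintype F] in
/-- the matrix algebra equivalence attached to a basis -/
theorem span_matB (b : Basis κ F (Fin n → F)) (N : Subgroup (GL (Fin n) F))
    (hspan : Submodule.span F (mset N) = ⊤) :
    Submodule.span F (mset (N.map (matB b))) = ⊤ := by
  let φ : Matrix (Fin n) (Fin n) F →ₗ[F] Matrix κ κ F :=
    (LinearMap.toMatrix b b).toLinearMap ∘ₗ (Matrix.toLin' : Matrix (Fin n) (Fin n) F ≃ₗ[F] _).toLinearMap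
  have hφ : ∀ M, φ M = LinearMap.toMatrix b b (Matrix.toLin' M) := fun M => rfl
  have hsurj : Function.Surjective φ := by
    intro Y
    refine ⟨LinearMap.toMatrix' (Matrix.toLin b b Y), ?_⟩
    rw [hφ, Matrix.toLin'_toMatrix', LinearMap.toMatrix_toLin]
  have himg : φ '' (mset N) ⊆ mset (N.map (matB b)) := by
    rintro Y ⟨M, ⟨x, hx, rfl⟩, rfl⟩
    exact ⟨matB b x, Subgroup.mem_map_of_mem _ hx, by
      show ((matB b x : GL κ F) : Matrix κ κ F) = φ (x : Matrix (Fin n) (Fin n) F)
      rw [matB_val, hφ]⟩
  rw [eq_top_iff]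
  intro Y _
  obtain ⟨M, rfl⟩ := hsurj Y
  have hM : M ∈ Submodule.span F (mset N) := by rw [hspan]; trivial
  have := Submodule.mem_map_of_mem (f := φ) hM
  rw [Submodule.map_span] at this
  exact Submodule.span_mono himg this

/-- the transposed Gram matrix is invariant in the sense of `FInv` -/
theorem FInv_gramB (b : Basis κ F (Fin n → F)) {N : Subgroup (GL (Fin n) F)} (hN : N ≤ GU n F q) :
    FInv (HermBridge.sigma hF) (N.map (matB b)) ((gramB q b)ᵀ) := by
  rintro y ⟨x, hx, rfl⟩
  have h1 := gramB_inv hF b (hN hx)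
  rw [← matB_val] at h1
  have h2 := congrArg Matrix.transpose h1
  rw [Matrix.transpose_mul, Matrix.transpose_mul, Matrix.transpose_transpose, ← Matrix.mul_assoc] at h2
  exact h2

end Cfsg.Agent.Lib.Helper9.AschU
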