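import Mathlib
import Cfsg.Prelude
import Cfsg.Agent.Lib.Helper9.AschU15

set_option autoImplicit false
set_option linter.unusedSectionVars false
set_option linter.unusedVariables false
set_option linter.style.longLine false
set_option linter.unusedSimpArgs false
open Cfsg

namespace Cfsg.Agent.Lib.Helper9.AschU

open Module Matrix
open scoped Kronecker
open Cfsg.Geo
open Cfsg.Agent.Lib.Helper8.Asch
open Cfsg.Agent.Lib.Helper5 Cfsg.Agent.Lib.Helper8
open Cfsg.Agent.Lib.Helper5.Herm
open Cfsg.Agent.Lib.Helper5.HermBridge (hermSesq hermSesq_apply hermSesq_nondegenerate sigma_apply sigma_sigma sigma_ne_id)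
open Cfsg.Agent.Lib.Helper5.HermPair Cfsg.Agent.Lib.Helper5.HermPerp
open Cfsg.Agent.Lib.Helper5.SUSingularMax

variable {F : Type*} [Field F] [Fintype F] {q : ℕ} (hF : Fintype.card F = q ^ 2) {n : ℕ}
variable {κ : Type} [Fintype κ] [DecidableEq κ]

omit [Fintype F] in
/-- a non-zero form invariant under a spanning group is non-degenerate -/
theorem FInv_det_ne_zero (σ : F →+* F) {N : Subgroup (GL κ F)}
    (hspan : Submodule.span F (mset N) = ⊤) (G : Matrix κ κ F) (hG0 : G ≠ 0)
    (hG : FInv σ N G) : G.det ≠ 0 := by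
  intro hdet
  obtain ⟨w, hw0, hw⟩ := Matrix.exists_mulVec_eq_zero_iff.mpr hdet
  let K : Submodule F (κ → F) := LinearMap.ker (Matrix.mulVecLin G)
  have hK : ∀ v, v ∈ K ↔ G *ᵥ v = 0 := by
    intro v
    rw [LinearMap.mem_ker, Matrix.mulVecLin_apply]
  have hinv : ∀ u ∈ HV N, ∀ v ∈ K, (u : Module.End F (κ → F)) v ∈ K := by
    intro u hu v hv
    obtain ⟨x, hx, rfl⟩ := exists_of_mem_HV hu
    rw [toV_apply, hK]
    have h1 := hG x hx
    have h2 : Asch.star σ (x : Matrix κ κ F) *ᵥ (G *ᵥ ((x : Matrix κ κ F) *ᵥ v)) = 0 := by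
      rw [Matrix.mulVec_mulVec, Matrix.mulVec_mulVec, h1]
      exact (hK v).mp hv
    obtain ⟨y, hy⟩ := isUnit_star σ x
    have h3 : ((y⁻¹ : (Matrix κ κ F)ˣ) : Matrix κ κ F) *ᵥ
        (Asch.star σ (x : Matrix κ κ F) *ᵥ (G *ᵥ ((x : Matrix κ κ F) *ᵥ v))) = 0 := by
      rw [h2, Matrix.mulVec_zero]
    rw [Matrix.mulVec_mulVec, ← hy, ← Units.val_mul, inv_mul_cancel, Units.val_one,
      Matrix.one_mulVec] at h3
    exact h3
  rcases irr_of_span N hspan K hinv with hbot | htop
  · have : w ∈ K := (hK w).mpr hw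
    rw [hbot, Submodule.mem_bot] at this
    exact hw0 this
  · apply hG0
    ext i j
    have : (Pi.single j (1 : F) : κ → F) ∈ K := by rw [htop]; trivial
    have h1 := (hK _).mp this
    have h2 := congrFun h1 i
    rw [Matrix.mulVec_single_one] at h2
    exact h2

/-- orthonormalisation of a non-degenerate hermitian Gram matrix -/
theorem exists_orthonormalizer (m : ℕ) (G : Matrix (Fin m) (Fin m) F)
    (hherm : ∀ i j, (HermBridge.sigma hF) (G j i) = G i j) (hdet : G.det ≠ 0) :
    ∃ Q : GL (Fin m) F, (Q : Matrix (Fin m) (Fin m) F)ᵀ * G *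
      (Q : Matrix (Fin m) (Fin m) F).map (HermBridge.sigma hF) = 1 := by
  set σ := HermBridge.sigma hF with hσ
  let Bs : (Fin m → F) →ₛₗ[σ] (Fin m → F) →ₗ[F] F :=
    LinearMap.mk₂'ₛₗ σ (RingHom.id F) (fun x y => gf σ G y x)
      (fun x x' y => gf_add_right σ G y x x')
      (fun c x y => by rw [gf_smul_right, smul_eq_mul])
      (fun x y y' => gf_add_left σ G y y' x)
      (fun c x y => by rw [gf_smul_left, RingHom.id_apply, smul_eq_mul])
  have hBs : ∀ x y, Bs x y = gf σ G y x := fun x y => rfl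
  have hsymm : Bs.IsSymm := by
    refine ⟨fun x y => ?_⟩
    rw [hBs, hBs]
    exact (gf_herm σ (sigma_sigma hF) G (fun a b => hherm a b) x y).symm
  have hnd := gf_nondeg σ (fun a b hab => by
    have := congrArg σ hab
    rwa [hσ, sigma_sigma, sigma_sigma] at this) G hdet
  have hBnd : Bs.Nondegenerate := by
    constructor
    · intro x hx
      by_contra hx0
      obtain ⟨y, hy⟩ := (hnd x hx0).1
      exact hy (hx y)
    · intro y hy
      by_contra hy0
      obtain ⟨x, hx⟩ := (hnd y hy0).2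
      exact hx (hy x)
  obtain ⟨bb, hbb⟩ := HermBasis.exists_orthonormal (sigma_ne_id hF) (sigma_sigma hF) m Bs hsymm hBnd
    (Module.finrank_fin_fun F)
  obtain ⟨Q, hQ⟩ : ∃ Q : Matrix (Fin m) (Fin m) F, Q = Matrix.of (fun k i => bb i k) := ⟨_, rfl⟩
  have hcol : ∀ i, Q *ᵥ Pi.single i 1 = bb i := by
    intro i
    rw [Matrix.mulVec_single_one]
    funext k
    rw [hQ]
    rfl
  have hkey : Qᵀ * G * Q.map σ = 1 := by
    ext i j
    rw [← gf_single σ (Qᵀ * G * Q.map σ) i j, ← gf_mulVec, hcol, hcol, ← hBs, hbb, Matrix.one_apply]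
    simp only [eq_comm]
  have hQdet : Q.det ≠ 0 := by
    intro h0
    have := congrArg Matrix.det hkey
    rw [Matrix.det_mul, Matrix.det_mul, Matrix.det_transpose, h0, zero_mul, zero_mul,
      Matrix.det_one] at this
    exact zero_ne_one this
  exact ⟨Matrix.GeneralLinearGroup.mkOfDetNeZero Q hQdet, hkey⟩

omit [Fintype F] in
theorem GLmulK (B : GL κ F) :
    (B : Matrix κ κ F) * ((B⁻¹ : GL κ F) : Matrix κ κ F) = 1 := by
  rw [← Units.val_mul, mul_inv_cancel, Units.val_one]

omit [Fintype F] in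
theorem GLinvK (B : GL κ F) :
    ((B⁻¹ : GL κ F) : Matrix κ κ F) * (B : Matrix κ κ F) = 1 := by
  rw [← Units.val_mul, inv_mul_cancel, Units.val_one]

/-- the basis obtained from `b` by the change of coordinates `Q` -/
noncomputable def newBasis (b : Basis κ F (Fin n → F)) (Q : GL κ F) : Basis κ F (Fin n → F) :=
  Basis.ofEquivFun (b.equivFun.trans
    (Matrix.toLin'OfInv (M := (Q : Matrix κ κ F)) (M' := ((Q⁻¹ : GL κ F) : Matrix κ κ F))
      (GLmulK Q) (GLinvK Q)))

omit [Fintype F] in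
theorem newBasis_equivFun (b : Basis κ F (Fin n → F)) (Q : GL κ F) (v : Fin n → F) :
    (newBasis b Q).equivFun v = ((Q⁻¹ : GL κ F) : Matrix κ κ F) *ᵥ b.equivFun v := by
  unfold newBasis
  rw [Basis.equivFun_ofEquivFun]
  rfl

omit [Fintype F] in
theorem newBasis_symm (b : Basis κ F (Fin n → F)) (Q : GL κ F) (u : κ → F) :
    (newBasis b Q).equivFun.symm u = b.equivFun.symm ((Q : Matrix κ κ F) *ᵥ u) := by
  apply (newBasis b Q).equivFun.injective
  rw [LinearEquiv.apply_symm_apply, newBasis_equivFun, LinearEquiv.apply_symm_apply,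
    Matrix.mulVec_mulVec, GLinvK, Matrix.one_mulVec]

omit [Fintype F] in
theorem eq_of_mulVec_eq (X Y : Matrix κ κ F) (h : ∀ u, X *ᵥ u = Y *ᵥ u) : X = Y := by
  ext i j
  have := congrFun (h (Pi.single j 1)) i
  rwa [Matrix.mulVec_single_one, Matrix.mulVec_single_one] at this

omit [Fintype F] in
theorem toMatrix_newBasis (b : Basis κ F (Fin n → F)) (Q : GL κ F)
    (f : Module.End F (Fin n → F)) :
    LinearMap.toMatrix (newBasis b Q) (newBasis b Q) f =
      ((Q⁻¹ : GL κ F) : Matrix κ κ F) * LinearMap.toMatrix b b f * (Q : Matrix κ κ F) := by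
  apply eq_of_mulVec_eq
  intro u
  rw [toMatrix_mulVec_coord, newBasis_equivFun, newBasis_symm, ← Matrix.mulVec_mulVec,
    ← Matrix.mulVec_mulVec, toMatrix_mulVec_coord]

theorem gramB_newBasis (b : Basis κ F (Fin n → F)) (Q : GL κ F) :
    gramB q (newBasis b Q) = (Q : Matrix κ κ F)ᵀ * gramB q b *
      (Q : Matrix κ κ F).map (HermBridge.sigma hF) := by
  apply eq_of_gf_eq (HermBridge.sigma hF)
  intro u v
  rw [← herm_coord hF, newBasis_symm, newBasis_symm, herm_coord hF, gf_mulVec]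

end Cfsg.Agent.Lib.Helper9.AschU
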