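import Cfsg.Agent.Lib.Helper7.StronglyEmbedded
import Cfsg.Agent.Lib.Helper9.SylowConj

set_option autoImplicit false

namespace Cfsg.Agent.Lib.Helper9

open Cfsg Cfsg.Agent.Lib.Helper7

variable {A : Type*} [Group A]

theorem normalizersLE_cj {p : ℕ} {M : Subgroup A} (h : NormalizersOfPSubgroupsLE p M) (x : A) :
    NormalizersOfPSubgroupsLE p (M.map (MulAut.conj x).toMonoidHom) := by
  intro B hBM hB hB1
  have h1 : B.map (MulAut.conj x⁻¹).toMonoidHom ≤ M := by
    have := cj_mono (g := x⁻¹) hBM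
    rwa [cj_inv_cj] at this
  have h2 : IsPGroup p (B.map (MulAut.conj x⁻¹).toMonoidHom) := isPGroup_cj _ hB
  have h3 : B.map (MulAut.conj x⁻¹).toMonoidHom ≠ ⊥ := by
    intro h0
    apply hB1
    rw [← cj_cj_inv x B, h0, Subgroup.map_bot]
  have h4 := h _ h1 h2 h3
  have h5 := cj_mono (g := x) h4
  rw [← normalizer_cj, cj_cj_inv] at h5
  exact h5

theorem cj_ne_top {M : Subgroup A} (hM : M ≠ ⊤) (x : A) :
    M.map (MulAut.conj x).toMonoidHom ≠ ⊤ := by
  intro h
  apply hM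
  rw [eq_top_iff]
  intro y _
  have : x * y * x⁻¹ ∈ M.map (MulAut.conj x).toMonoidHom := by rw [h]; trivial
  rw [mem_cj] at this
  simpa [mul_assoc] using this

/-- The abstract dichotomy behind the Alperin--Goldschmidt theorem. -/
theorem spe_dichotomy [Finite A] {p : ℕ} [Fact p.Prime] (I : Subgroup A) [I.Normal]
    (T : Sylow p A) (hIT : I ≤ T) (hne : ∃ t ∈ (T : Subgroup A), t ∉ I) (H : Subgroup A)
    (hH : H = Subgroup.closure
      {a : A | ∃ t ∈ (T : Subgroup A), t ∉ I ∧ a * t * a⁻¹ ∈ (T : Subgroup A)}) :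
    ((¬ ∃ E : Subgroup (A ⧸ I), IsStronglyPEmbedded p E) ∧ H = ⊤) ∨
    ((∃ E : Subgroup (A ⧸ I), IsStronglyPEmbedded p E) ∧
      IsStronglyPEmbedded p (H.map (QuotientGroup.mk' I))) := by
  classical
  have hsurj : Function.Surjective (QuotientGroup.mk' I) := QuotientGroup.mk'_surjective I
  set π := QuotientGroup.mk' I with hπ
  let Tb : Sylow p (A ⧸ I) := T.mapSurjective hsurj
  have hTb : (Tb : Subgroup (A ⧸ I)) = (T : Subgroup A).map π := rfl
  have hWH : ∀ a : A, (∃ t ∈ (T : Subgroup A), t ∉ I ∧ a * t * a⁻¹ ∈ (T : Subgroup A)) → a ∈ H := by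
    intro a ha
    rw [hH]
    exact Subgroup.subset_closure ha
  obtain ⟨t₀, ht₀T, ht₀I⟩ := hne
  have hTH : (T : Subgroup A) ≤ H := by
    intro a ha
    exact hWH a ⟨t₀, ht₀T, ht₀I, Subgroup.mul_mem _ (Subgroup.mul_mem _ ha ht₀T) (Subgroup.inv_mem _ ha)⟩
  have hIH : I ≤ H := hIT.trans hTH
  have hπ1 : ∀ a : A, π a = 1 ↔ a ∈ I := fun a => QuotientGroup.eq_one_iff a
  -- membership in the image of T
  have hmemT : ∀ a : A, π a ∈ (Tb : Subgroup (A ⧸ I)) → a ∈ (T : Subgroup A) := by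
    intro a ha
    rw [hTb] at ha
    obtain ⟨t, ht, hta⟩ := ha
    have : t⁻¹ * a ∈ I := by
      rw [← hπ1, map_mul, map_inv, hta, inv_mul_cancel]
    have h2 : t * (t⁻¹ * a) ∈ (T : Subgroup A) := Subgroup.mul_mem _ ht (hIT this)
    simpa using h2
  -- the generation property
  have hΓ : kGeneratedCore p 1 (Tb : Subgroup (A ⧸ I)) ≤ H.map π := by
    rw [kGeneratedCore_one_le_iff _ Tb.isPGroup']
    intro D hD hD1 nb hnb
    obtain ⟨n, rfl⟩ := hsurj nb
    obtain ⟨db, hdb1⟩ := (Subgroup.ne_bot_iff_exists_ne_one).mp hD1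
    obtain ⟨d, hd⟩ := hsurj (db : A ⧸ I)
    have hdD : π d ∈ D := by rw [hd]; exact db.2
    have hdT : d ∈ (T : Subgroup A) := hmemT d (hD hdD)
    have hdI : d ∉ I := by
      intro h
      apply hdb1
      apply Subtype.ext
      rw [← hd]
      exact (hπ1 d).mpr h
    have hconj : π (n * d * n⁻¹) ∈ D := by
      rw [map_mul, map_mul, map_inv]
      exact (Subgroup.mem_normalizer_iff.mp hnb (π d)).mp hdD
    exact ⟨n, hWH n ⟨d, hdT, hdI, hmemT _ (hD hconj)⟩, rfl⟩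
  have hpdvd : p ∣ Nat.card (A ⧸ I) := by
    have hnt : Nontrivial (Tb : Subgroup (A ⧸ I)) := by
      refine ⟨⟨⟨π t₀, ⟨t₀, ht₀T, rfl⟩⟩, 1, ?_⟩⟩
      intro h
      apply ht₀I
      rw [← hπ1]
      exact congrArg Subtype.val h
    obtain ⟨n, hn, hcard⟩ := (IsPGroup.nontrivial_iff_card Tb.isPGroup').mp hnt
    have h1 : p ∣ Nat.card (Tb : Subgroup (A ⧸ I)) := by
      rw [hcard]
      exact dvd_pow_self p hn.ne'
    exact h1.trans (Subgroup.card_subgroup_dvd_card _)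
  -- bounded by any "local" subgroup containing the image of T
  have hbound : ∀ M : Subgroup (A ⧸ I), NormalizersOfPSubgroupsLE p M →
      (Tb : Subgroup (A ⧸ I)) ≤ M → H.map π ≤ M := by
    intro M hloc hTM
    rw [Subgroup.map_le_iff_le_comap, hH, Subgroup.closure_le]
    rintro a ⟨t, htT, htI, hat⟩
    show π a ∈ M
    apply mem_of_conj_sylow_inf_ne_bot hloc Tb hTM
    intro h0
    have h1 : π (a * t * a⁻¹) ∈
        (Tb : Subgroup (A ⧸ I)).map (MulAut.conj (π a)).toMonoidHom ⊓ M := by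
      refine ⟨⟨π t, ⟨t, htT, rfl⟩, ?_⟩, hTM ⟨_, hat, rfl⟩⟩
      show π a * π t * (π a)⁻¹ = _
      rw [map_mul, map_mul, map_inv]
    rw [h0, Subgroup.mem_bot, hπ1] at h1
    apply htI
    have h2 : a⁻¹ * (a * t * a⁻¹) * a ∈ I := by
      have := (inferInstance : I.Normal).conj_mem _ h1 a⁻¹
      simpa using this
    simpa [mul_assoc] using h2
  by_cases hE : ∃ E : Subgroup (A ⧸ I), IsStronglyPEmbedded p E
  · right
    refine ⟨hE, hpdvd, ?_, Tb, hΓ⟩
    obtain ⟨E, hE⟩ := hE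
    obtain ⟨hloc, -, P₁, hP₁⟩ := local_of_spe hE
    obtain ⟨x, hx⟩ := MulAction.exists_smul_eq (A ⧸ I) P₁ Tb
    have hTE : (Tb : Subgroup (A ⧸ I)) ≤ E.map (MulAut.conj x).toMonoidHom := by
      rw [← hx, sylow_smul_coe_eq_map]
      exact cj_mono hP₁
    have := hbound _ (normalizersLE_cj hloc x) hTE
    intro htop
    rw [htop, top_le_iff] at this
    exact cj_ne_top hE.2.1 x this
  · left
    refine ⟨hE, ?_⟩
    by_contra hne
    apply hE
    refine ⟨H.map π, hpdvd, ?_, Tb, hΓ⟩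
    intro htop
    apply hne
    rw [eq_top_iff]
    intro a _
    have : π a ∈ H.map π := by rw [htop]; trivial
    obtain ⟨h, hh, hha⟩ := this
    have h1 : h⁻¹ * a ∈ I := by
      rw [← hπ1, map_mul, map_inv, hha, inv_mul_cancel]
    have h2 : h * (h⁻¹ * a) ∈ H := Subgroup.mul_mem _ hh (hIH h1)
    simpa using h2

end Cfsg.Agent.Lib.Helper9
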