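import Cfsg.Agent.Lib.Helper9.Alperin1

set_option autoImplicit false

namespace Cfsg.Agent.Lib.Helper9

open Cfsg Cfsg.FusionSystem

variable {Ω : Type*} [Group Ω] {S : Subgroup Ω}

/-- The dichotomy for the subgroup generated by the extendable automorphisms (S5081). -/
theorem extendable_dichotomy [Finite S] (p : ℕ) [Fact p.Prime] (hS : IsPGroup p S)
    (F : FusionSystem S) (hF : F.IsSaturated p) (P : Subgroup Ω) (hPS : P < S)
    (hPn : F.IsFullyNormalized P) (H : Subgroup (MulAut P))
    (hH : H = Subgroup.closure (extGen F P)) :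
    (¬ F.IsEssential p P ∧ H = F.autGroup P) ∨
    (F.IsEssential p P ∧ ∃ _ : ((Inn P).subgroupOf (F.autGroup P)).Normal,
      IsStronglyPEmbedded p ((H.subgroupOf (F.autGroup P)).map
        (QuotientGroup.mk' ((Inn P).subgroupOf (F.autGroup P))))) := by
  have hHA : H ≤ F.autGroup P := by
    rw [hH, Subgroup.closure_le]
    exact fun α hα => extGen_subset_autGroup F P hα
  by_cases hc : F.IsCentric P
  · have hfa := fullyAutomized_of_fullyNormalized hS F hF hPn
    obtain ⟨-, R, hR⟩ := hfa
    have hfc := fullyCentralized_of_fullyNormalized hS F hF hPn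
    have hrec := receptive_of_fullyCentralized hS F hF hfc
    have hC : centralizerIn S P ≤ P := hc.2 P (isConj_refl F hPS.le)
    have hfinP : Finite P := finite_of_le hPS.le
    have hnorm : ((Inn P).subgroupOf (F.autGroup P)).Normal := inferInstance
    have hIT : (Inn P).subgroupOf (F.autGroup P) ≤ R := by
      rw [hR]
      exact Subgroup.comap_mono (inn_le_autInducedBy hPS.le)
    have hmemR : ∀ t : F.autGroup P, t ∈ (R : Subgroup (F.autGroup P)) ↔
        (t : MulAut P) ∈ autInducedBy S P := by
      intro t
      rw [hR]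
      exact Subgroup.mem_subgroupOf
    have hne : ∃ t ∈ (R : Subgroup (F.autGroup P)), t ∉ (Inn P).subgroupOf (F.autGroup P) := by
      obtain ⟨g, hgN, hgP⟩ := exists_mem_normalizerIn_not_mem hS hPS
      have h1 : conjAut P ⟨g, hgN.2⟩ ∈ autInducedBy S P := by
        rw [mem_autInducedBy_iff]
        exact ⟨g, hgN.1, fun x => rfl⟩
      refine ⟨⟨conjAut P ⟨g, hgN.2⟩, autInducedBy_le_autGroup F hPS.le h1⟩, ?_, ?_⟩
      · rw [hmemR]
        exact h1
      · intro h2
        exact not_mem_inn_of_not_mem hC hgN.1 hgP hPS.le (fun x => rfl) (Subgroup.mem_subgroupOf.mp h2)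
    have hH' : H.subgroupOf (F.autGroup P) = Subgroup.closure
        {a : F.autGroup P | ∃ t ∈ (R : Subgroup (F.autGroup P)),
          t ∉ (Inn P).subgroupOf (F.autGroup P) ∧ a * t * a⁻¹ ∈ (R : Subgroup (F.autGroup P))} := by
      apply le_antisymm
      · have h1 : H ≤ (Subgroup.closure
          {a : F.autGroup P | ∃ t ∈ (R : Subgroup (F.autGroup P)),
            t ∉ (Inn P).subgroupOf (F.autGroup P) ∧
              a * t * a⁻¹ ∈ (R : Subgroup (F.autGroup P))}).map (F.autGroup P).subtype := by
          rw [hH, Subgroup.closure_le]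
          intro α hα
          have hαA := extGen_subset_autGroup F P hα
          obtain ⟨t, ht, htI, hαt⟩ := exists_conj_mem_of_mem_extGen hS F hC hα
          have htA := autInducedBy_le_autGroup F hPS.le ht
          refine ⟨⟨α, hαA⟩, Subgroup.subset_closure ⟨⟨t, htA⟩, ?_, ?_, ?_⟩, rfl⟩
          · rw [hmemR]
            exact ht
          · intro h2
            exact htI (Subgroup.mem_subgroupOf.mp h2)
          · rw [hmemR]
            exact hαt
        intro x hx
        obtain ⟨y, hy, hyx⟩ := h1 (Subgroup.mem_subgroupOf.mp hx)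
        have : y = x := Subtype.ext hyx
        rw [← this]
        exact hy
      · rw [Subgroup.closure_le]
        rintro a ⟨t, ht, htI, hat⟩
        show (a : MulAut P) ∈ H
        rw [hH]
        apply Subgroup.subset_closure
        rw [hmemR] at ht hat
        exact mem_extGen_of_conj_mem F hPS.le hrec a.2 ht
          (fun h2 => htI (Subgroup.mem_subgroupOf.mpr h2)) hat
    obtain h | h := spe_dichotomy ((Inn P).subgroupOf (F.autGroup P)) R hIT hne
      (H.subgroupOf (F.autGroup P)) hH'
    · left
      refine ⟨?_, ?_⟩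
      · rintro ⟨-, -, _, E, hE⟩
        exact h.1 ⟨E, hE⟩
      · apply le_antisymm hHA
        intro a ha
        have : (⟨a, ha⟩ : F.autGroup P) ∈ H.subgroupOf (F.autGroup P) := by
          rw [h.2]
          trivial
        exact this
    · right
      obtain ⟨⟨E, hE⟩, h2⟩ := h
      exact ⟨⟨hc, hPn, hnorm, E, hE⟩, hnorm, h2⟩
  · left
    refine ⟨fun he => hc he.1, le_antisymm hHA ?_⟩
    intro α hα
    rw [hH]
    exact Subgroup.subset_closure (autGroup_subset_extGen_of_not_centric hS F hF hPn hc hα)

end Cfsg.Agent.Lib.Helper9
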