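import Cfsg.Agent.Lib.Helper9.AlperinCor
import Cfsg.Agent.Lib.Helper9.SylowConj2
import Cfsg.Agent.Lib.Helper7.PResidual

set_option autoImplicit false

namespace Cfsg.Agent.Lib.Helper9

open Cfsg Cfsg.FusionSystem
open scoped commutatorElement

variable {Ω : Type*} [Group Ω] {S : Subgroup Ω}

/-- a finite group is the product of a Sylow `p`-subgroup and `O^p` -/
theorem exists_sylow_mul_pResidual {A : Type*} [Group A] [Finite A] {p : ℕ} [Fact p.Prime]
    (T : Sylow p A) (a : A) : ∃ t ∈ (T : Subgroup A), ∃ r ∈ pResidual p A, a = t * r := by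
  have h1 := Cfsg.Agent.Lib.Helper7.normal_le_sylow_sup_pResidual (p := p) (⊤ : Subgroup A) T
  have h2 : Subgroup.closure {g : A | g ∈ (⊤ : Subgroup A) ∧ (orderOf g).Coprime p} =
      pResidual p A := by
    unfold pResidual
    congr 1
    ext g
    simp
  rw [h2] at h1
  have hn : (pResidual p A).Normal := by
    rw [← h2]
    exact Cfsg.Agent.Lib.Helper7.pPrimeElements_closure_normal p ⊤
  have h3 : (T : Subgroup A) ≤ Subgroup.normalizer ((pResidual p A : Subgroup A) : Set A) := by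
    rw [Subgroup.normalizer_eq_top]
    exact le_top
  exact exists_mul_of_mem_sup h3 (h1 (Subgroup.mem_top a))

/-- the subsystem of the maps `φ` with `x⁻¹ φ(x) ∈ N` for all `x` -/
def focalSubsystem (F : FusionSystem S) (N : Subgroup Ω) (hN : ⁅S, S⁆ ≤ N) : FusionSystem S where
  Hom P := {φ | φ ∈ F.Hom P ∧ ∀ x : P, (x : Ω)⁻¹ * φ x ∈ N}
  le_of_mem h := F.le_of_mem h.1
  injective_of_mem h := F.injective_of_mem h.1
  conj_mem := by
    intro P g hP hg
    refine ⟨F.conj_mem hP hg, fun x => hN ?_⟩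
    have : (x : Ω)⁻¹ * conjHom P g x = ⁅(x : Ω)⁻¹, g⁆ := by
      rw [commutatorElement_def, conjHom_apply]
      group
    rw [this]
    exact Subgroup.commutator_mem_commutator (S.inv_mem (hP x.2)) hg
  comp_mem := by
    rintro P Q φ ψ ⟨hφ, hφN⟩ ⟨hψ, hψN⟩ h
    refine ⟨F.comp_mem hφ hψ h, fun x => ?_⟩
    have h1 := hφN x
    have h2 := hψN ⟨φ x, h x⟩
    have h3 : (x : Ω)⁻¹ * (ψ.comp (φ.codRestrict Q h)) x =
        ((x : Ω)⁻¹ * φ x) * ((φ x)⁻¹ * ψ ⟨φ x, h x⟩) := by
      show (x : Ω)⁻¹ * ψ ⟨φ x, h x⟩ = _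
      group
    rw [h3]
    exact N.mul_mem h1 h2
  inv_mem := by
    rintro P φ ⟨hφ, hφN⟩
    obtain ⟨ψ, hψ, hψφ⟩ := F.inv_mem hφ
    refine ⟨ψ, ⟨hψ, ?_⟩, hψφ⟩
    rintro ⟨_, x, rfl⟩
    have h1 := hφN x
    have h2 : ((⟨φ x, ⟨x, rfl⟩⟩ : φ.range) : Ω)⁻¹ * ψ ⟨φ x, ⟨x, rfl⟩⟩ = ((x : Ω)⁻¹ * φ x)⁻¹ := by
      rw [hψφ x]
      show (φ x)⁻¹ * (x : Ω) = _
      group
    rw [h2]
    exact N.inv_mem h1

/-- S5092 -/
theorem focal_eq_hyperfocal_sup_commutator [Finite S] (p : ℕ) [Fact p.Prime] (hS : IsPGroup p S)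
    (F : FusionSystem S) (hF : F.IsSaturated p) :
    F.focalSubgroup = F.hyperfocalSubgroup p ⊔ ⁅(S : Subgroup Ω), (S : Subgroup Ω)⁆ := by
  apply le_antisymm
  · have hle : F ≤ focalSubsystem F (F.hyperfocalSubgroup p ⊔ ⁅S, S⁆) le_sup_right := by
      apply alperin p hS F hF
      intro P hP
      have hPn : F.IsFullyNormalized P := by
        rcases hP with rfl | hP
        · exact fullyNormalized_top F
        · exact hP.2.1
      have hPS := hPn.1
      obtain ⟨-, R, hR⟩ := fullyAutomized_of_fullyNormalized hS F hF hPn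
      have hfinP : Finite P := finite_of_le hPS
      intro α hα
      rw [mem_autGroup_iff _ hPS]
      refine ⟨hom_of_mem_autGroup F hPS hα, fun x => ?_⟩
      obtain ⟨t, ht, r, hr, hα'⟩ := exists_sylow_mul_pResidual R (⟨α, hα⟩ : F.autGroup P)
      rw [hR] at ht
      obtain ⟨g, hg, hgt⟩ := (mem_autInducedBy_iff S P _).mp (Subgroup.mem_subgroupOf.mp ht)
      have hαx : ((α x : P) : Ω) = (((t : MulAut P) ((r : MulAut P) x) : P) : Ω) := by
        have := congrArg (fun a : F.autGroup P => (((a : MulAut P) x : P) : Ω)) hα'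
        exact this
      show (x : Ω)⁻¹ * ((α x : P) : Ω) ∈ _
      rw [hαx, hgt]
      have h1 : (x : Ω)⁻¹ * (((r : MulAut P) x : P) : Ω) ∈ F.hyperfocalSubgroup p :=
        Subgroup.subset_closure ⟨P, r, x, hPS, hr, rfl⟩
      have h2 : ((((r : MulAut P) x : P) : Ω))⁻¹ * (g * (((r : MulAut P) x : P) : Ω) * g⁻¹) ∈
          ⁅S, S⁆ := by
        have : ((((r : MulAut P) x : P) : Ω))⁻¹ * (g * (((r : MulAut P) x : P) : Ω) * g⁻¹) =
            ⁅((((r : MulAut P) x : P) : Ω))⁻¹, g⁆ := by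
          rw [commutatorElement_def]
          group
        rw [this]
        exact Subgroup.commutator_mem_commutator (S.inv_mem (hPS ((r : MulAut P) x).2)) hg
      have h3 : (x : Ω)⁻¹ * (g * (((r : MulAut P) x : P) : Ω) * g⁻¹) =
          ((x : Ω)⁻¹ * (((r : MulAut P) x : P) : Ω)) *
            (((((r : MulAut P) x : P) : Ω))⁻¹ * (g * (((r : MulAut P) x : P) : Ω) * g⁻¹)) := by
        group
      rw [h3]
      exact Subgroup.mul_mem _ (le_sup_left (a := F.hyperfocalSubgroup p) h1)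
        (le_sup_right (b := ⁅S, S⁆) h2)
    unfold focalSubgroup
    rw [Subgroup.closure_le]
    rintro y ⟨P, φ, x, hφ, rfl⟩
    exact (hle P hφ).2 x
  · apply sup_le
    · unfold hyperfocalSubgroup
      rw [Subgroup.closure_le]
      rintro y ⟨P, α, x, hPS, -, rfl⟩
      apply Subgroup.subset_closure
      exact ⟨P, _, x, hom_of_mem_autGroup F hPS α.2, rfl⟩
    · rw [Subgroup.commutator_le]
      intro a ha b hb
      apply Subgroup.subset_closure
      refine ⟨S, conjHom S b, ⟨a⁻¹, S.inv_mem ha⟩, F.conj_mem le_rfl hb, ?_⟩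
      rw [commutatorElement_def, conjHom_apply]
      group

end Cfsg.Agent.Lib.Helper9
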