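import Cfsg.Agent.Lib.Helper9.ExtMod3
import Cfsg.Agent.Lib.Helper9.Focal

set_option autoImplicit false

namespace Cfsg.Agent.Lib.Helper9

open Cfsg Cfsg.FusionSystem

variable {Ω : Type*} [Group Ω] {S : Subgroup Ω}

/-- `O^p` is a normal subgroup -/
theorem pResidual_normal (p : ℕ) (A : Type*) [Group A] : (pResidual p A).Normal := by
  unfold pResidual
  apply Cfsg.Agent.Lib.Helper7.closure_normal_of_conj_invariant
  intro g x hx
  show Nat.Coprime (orderOf (g * x * g⁻¹)) p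
  have : g * x * g⁻¹ = MulAut.conj g x := rfl
  rw [this, MulEquiv.orderOf_eq]
  exact hx

/-- a power of an element that is congruent to the first power modulo a number prime to `p` and
has order prime to `p` -/
theorem exists_pow_pPrime {G : Type*} [Group G] [Finite G] (p : ℕ) [hp : Fact p.Prime] (g : G)
    (o : ℕ) (ho : Nat.Coprime o p) :
    ∃ k : ℕ, k ≡ 1 [MOD o] ∧ Nat.Coprime (orderOf (g ^ k)) p := by
  have hn : orderOf g ≠ 0 := (orderOf_pos g).ne'
  obtain ⟨e, m, hm, hnm⟩ := Nat.exists_eq_pow_mul_and_not_dvd hn p hp.out.one_lt.ne'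
  have hcop : Nat.Coprime (p ^ e) o := (Nat.Coprime.pow_left e ho.symm)
  have hmc : Nat.Coprime m p := ((Nat.Prime.coprime_iff_not_dvd hp.out).mpr hm).symm
  by_cases ho1 : o = 1
  · subst ho1
    refine ⟨p ^ e, Nat.modEq_one, ?_⟩
    apply Nat.Coprime.coprime_dvd_left _ hmc
    apply orderOf_dvd_of_pow_eq_one
    rw [← pow_mul, ← hnm, pow_orderOf_eq_one]
  · have ho0 : o ≠ 0 := by
      rintro rfl
      rw [Nat.coprime_zero_left] at ho
      exact hp.out.one_lt.ne' ho
    have ho2 : 1 < o := by omega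
    obtain ⟨u, -, hu⟩ := Nat.exists_mul_mod_eq_one_of_coprime hcop ho2
    refine ⟨p ^ e * u, ?_, ?_⟩
    · show p ^ e * u % o = 1 % o
      rw [hu, Nat.mod_eq_of_lt ho2]
    · apply Nat.Coprime.coprime_dvd_left _ hmc
      apply orderOf_dvd_of_pow_eq_one
      have : p ^ e * u * m = orderOf g * u := by rw [hnm]; ring
      rw [← pow_mul, this, pow_mul, pow_orderOf_eq_one, one_pow]

/-- a map of the system from `P` into `P` is onto -/
theorem range_eq_of_forall_mem [Finite S] (F : FusionSystem S) {P : Subgroup Ω} {φ : P →* Ω}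
    (hφ : φ ∈ F.Hom P) (h : ∀ x, φ x ∈ P) : φ.range = P := by
  have hfin : Finite P := finite_of_le (hom_le F hφ)
  apply le_antisymm
  · rintro _ ⟨x, rfl⟩
    exact h x
  · intro y hy
    have hinj : Function.Injective (φ.codRestrict P h) := by
      intro a b hab
      exact F.injective_of_mem hφ (congrArg Subtype.val hab)
    obtain ⟨x, hx⟩ := Finite.surjective_of_injective hinj ⟨y, hy⟩
    exact ⟨x, congrArg Subtype.val hx⟩

/-- every automorphism `α ∈ Aut_F(P)` extends modulo the strongly closed `T` to an element of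
`Aut_F(P T)` -/
theorem exists_aut_sup_extendsMod [Finite S] {p : ℕ} [Fact p.Prime] (hS : IsPGroup p S)
    (F : FusionSystem S) (hF : F.IsSaturated p) {T : Subgroup Ω} (hT : F.StronglyClosed T)
    {P : Subgroup Ω} (hP : P ≤ S) {α : MulAut P} (hα : α ∈ F.autGroup P) :
    ∃ β ∈ F.autGroup (P ⊔ T), ∀ x : P,
      ((α x : P) : Ω)⁻¹ * ((β (Subgroup.inclusion le_sup_left x) : (P ⊔ T : Subgroup Ω)) : Ω) ∈ T := by
  have hφ := hom_of_mem_autGroup F hP hα
  obtain ⟨ψ, hψ, hψφ⟩ := extendsMod_of_stronglyClosed hS F hF hT hφ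
  have h1 : ∀ z, ψ z ∈ P ⊔ T :=
    extension_mem_sup F hT hP (fun x => (α x).2) hψ hψφ
  obtain ⟨β, hβ, hβψ⟩ := exists_aut_of_hom F hψ (range_eq_of_forall_mem F hψ h1)
  refine ⟨β, hβ, fun x => ?_⟩
  rw [hβψ]
  exact hψφ x

/-- elements of `Aut_F(R)` preserve a strongly closed subgroup -/
theorem aut_mem_of_stronglyClosed (F : FusionSystem S) {T R : Subgroup Ω}
    (hT : F.StronglyClosed T) (hR : R ≤ S) {β : MulAut R} (hβ : β ∈ F.autGroup R) (z : R)
    (hz : (z : Ω) ∈ T) : ((β z : R) : Ω) ∈ T :=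
  map_mem_of_stronglyClosed F hT (hom_of_mem_autGroup F hR hβ) z hz

/-- restriction of `Aut_F(R)` to the strongly closed subgroup `T ≤ R` -/
noncomputable def resAutF (F : FusionSystem S) {T R : Subgroup Ω} (hT : F.StronglyClosed T)
    (hTR : T ≤ R) (hR : R ≤ S) : F.autGroup R →* F.autGroup T where
  toFun β := ⟨
    { toFun := fun t => ⟨β.1 ⟨t, hTR t.2⟩, aut_mem_of_stronglyClosed F hT hR β.2 _ t.2⟩
      invFun := fun t => ⟨β.1⁻¹ ⟨t, hTR t.2⟩,
        aut_mem_of_stronglyClosed F hT hR (inv_mem β.2) _ t.2⟩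
      left_inv := by
        intro t
        apply Subtype.ext
        show ((β.1⁻¹ ⟨((β.1 ⟨t, hTR t.2⟩ : R) : Ω), _⟩ : R) : Ω) = t
        have : (⟨((β.1 ⟨t, hTR t.2⟩ : R) : Ω), hTR (aut_mem_of_stronglyClosed F hT hR β.2 _ t.2)⟩ : R)
            = β.1 ⟨t, hTR t.2⟩ := rfl
        rw [this, MulAut.inv_apply_self]
      right_inv := by
        intro t
        apply Subtype.ext
        show ((β.1 ⟨((β.1⁻¹ ⟨t, hTR t.2⟩ : R) : Ω), _⟩ : R) : Ω) = t
        have : (⟨((β.1⁻¹ ⟨t, hTR t.2⟩ : R) : Ω),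
            hTR (aut_mem_of_stronglyClosed F hT hR (inv_mem β.2) _ t.2)⟩ : R)
            = β.1⁻¹ ⟨t, hTR t.2⟩ := rfl
        rw [this, MulAut.apply_inv_self]
      map_mul' := by
        intro a b
        apply Subtype.ext
        show ((β.1 ⟨(a * b : T), _⟩ : R) : Ω) = ((β.1 ⟨a, _⟩ : R) : Ω) * ((β.1 ⟨b, _⟩ : R) : Ω)
        rw [← Subgroup.coe_mul, ← map_mul]
        rfl }, by
      rw [mem_autGroup_iff F hT.1]
      have h1 := restrict_mem F (hom_of_mem_autGroup F hR β.2) hTR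
      exact h1⟩
  map_one' := by
    apply Subtype.ext
    ext t
    rfl
  map_mul' := by
    intro a b
    apply Subtype.ext
    ext t
    rfl

theorem resAutF_apply (F : FusionSystem S) {T R : Subgroup Ω} (hT : F.StronglyClosed T)
    (hTR : T ≤ R) (hR : R ≤ S) (β : F.autGroup R) (t : T) :
    (((resAutF F hT hTR hR β : F.autGroup T) : MulAut T) t : Ω) =
      ((β : MulAut R) ⟨t, hTR t.2⟩ : R) := rfl

/-- powers of `α` and of an extension of `α` modulo `T` -/
theorem pow_extendsMod (F : FusionSystem S) {T P : Subgroup Ω} (hT : F.StronglyClosed T)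
    (hP : P ≤ S) (α : MulAut P) {β : MulAut (P ⊔ T : Subgroup Ω)} (hβ : β ∈ F.autGroup (P ⊔ T))
    (h : ∀ x : P, ((α x : P) : Ω)⁻¹ *
      ((β (Subgroup.inclusion le_sup_left x) : (P ⊔ T : Subgroup Ω)) : Ω) ∈ T) (j : ℕ) :
    ∀ x : P, (((α ^ j) x : P) : Ω)⁻¹ *
      (((β ^ j) (Subgroup.inclusion le_sup_left x) : (P ⊔ T : Subgroup Ω)) : Ω) ∈ T := by
  induction j with
  | zero =>
    intro x
    simp
  | succ j ih =>
    intro x
    rw [pow_succ', pow_succ', MulAut.mul_apply, MulAut.mul_apply]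
    have h1 := ih x
    have h2 := h ((α ^ j) x)
    -- `β^j x = (α^j x) * t`
    have h3 : (β ^ j) (Subgroup.inclusion le_sup_left x) =
        Subgroup.inclusion le_sup_left ((α ^ j) x) *
          ⟨(((α ^ j) x : P) : Ω)⁻¹ * (((β ^ j) (Subgroup.inclusion le_sup_left x) :
            (P ⊔ T : Subgroup Ω)) : Ω), Subgroup.mem_sup_right h1⟩ := by
      apply Subtype.ext
      simp
    rw [h3, map_mul]
    have h4 := aut_mem_of_stronglyClosed F hT (sup_le hP hT.1) hβ
      ⟨(((α ^ j) x : P) : Ω)⁻¹ * (((β ^ j) (Subgroup.inclusion le_sup_left x) :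
            (P ⊔ T : Subgroup Ω)) : Ω), Subgroup.mem_sup_right h1⟩ h1
    rw [Subgroup.coe_mul, ← mul_assoc]
    exact T.mul_mem h2 h4

end Cfsg.Agent.Lib.Helper9
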