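import Cfsg.Agent.Lib.Helper9.FusionIso
import Cfsg.Agent.Lib.Helper9.GroupFusionAut

set_option autoImplicit false

namespace Cfsg.Agent.Lib.Helper9

open Cfsg Cfsg.FusionSystem

variable {Ω : Type*} [Group Ω] {S : Subgroup Ω}

theorem isPGroup_autInducedBy {p : ℕ} (hS : IsPGroup p S) (Q : Subgroup Ω) :
    IsPGroup p (autInducedBy S Q) := by
  rw [← map_conjAut_eq]
  apply IsPGroup.map
  have h1 : IsPGroup p (S ⊓ Subgroup.normalizer (Q : Set Ω) : Subgroup Ω) :=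
    isPGroup_of_le hS inf_le_left
  exact h1.comap_subtype

/-- transport of `Aut_F(Q)` to `Aut_F(P)` along a map of the system from `Q` onto `P` -/
theorem congr_mem_autGroup (F : FusionSystem S) {P Q : Subgroup Ω} {ψ : Q →* Ω}
    (hψ : ψ ∈ F.Hom Q) (hP : ψ.range = P) {α : MulAut Q} (hα : α ∈ F.autGroup Q) :
    MulAut.congr (equivOfRange ψ (F.injective_of_mem hψ) hP) α ∈ F.autGroup P := by
  have hQS : Q ≤ S := hom_le F hψ
  have hPS : P ≤ S := hP ▸ range_le F hψ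
  rw [mem_autGroup_iff F hPS]
  obtain ⟨θ, hθ, hθψ, hθr, hψθ⟩ := inv_hom F hψ hP
  have hα' := hom_of_mem_autGroup F hQS hα
  have h1 : ∀ y : P, θ y ∈ Q := fun y => hθr.le ⟨y, rfl⟩
  obtain ⟨χ₁, hχ₁, hχ₁e⟩ := comp_hom F hθ hα' h1
  have h2 : ∀ y : P, χ₁ y ∈ Q := by
    intro y
    rw [hχ₁e]
    exact (α ⟨θ y, h1 y⟩).2
  obtain ⟨χ₂, hχ₂, hχ₂e⟩ := comp_hom F hχ₁ hψ h2
  have : χ₂ = P.subtype.comp
      (MulAut.congr (equivOfRange ψ (F.injective_of_mem hψ) hP) α).toMonoidHom := by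
    ext y
    rw [hχ₂e]
    show ψ _ = ψ (α ((equivOfRange ψ (F.injective_of_mem hψ) hP).symm y))
    congr 1
    apply Subtype.ext
    show χ₁ y = _
    rw [hχ₁e]
    show ((α ⟨θ y, h1 y⟩ : Q) : Ω) = ((α ((equivOfRange ψ (F.injective_of_mem hψ) hP).symm y) : Q) : Ω)
    congr 2
    apply F.injective_of_mem hψ
    rw [equivOfRange_symm_apply]
    obtain ⟨h, hh⟩ := hψθ y
    exact hh
  rw [← this]
  exact hχ₂

/-- If `P` is fully automized and receptive and `Q` is conjugate to `P`, some map of the system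
from `N_S(Q)` to `N_S(P)` carries `Q` onto `P`. -/
theorem exists_normalizer_hom [Finite S] {p : ℕ} [Fact p.Prime] (hS : IsPGroup p S)
    (F : FusionSystem S) (P Q : Subgroup Ω) (h₁ : F.IsFullyAutomized p P) (h₂ : F.IsReceptive P)
    (hQ : F.IsConj Q P) :
    ∃ φ ∈ F.Hom (normalizerIn S Q), (∀ x, φ x ∈ normalizerIn S P) ∧
      (Q.subgroupOf (normalizerIn S Q)).map φ = P := by
  obtain ⟨ψ, hψ, hψr⟩ := hQ
  obtain ⟨hPS, R, hR⟩ := h₁
  have hQS : Q ≤ S := hom_le F hψ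
  have hfinP : Finite P := finite_of_le hPS
  set e := equivOfRange ψ (F.injective_of_mem hψ) hψr with he
  -- the transported p-subgroup
  set B : Subgroup (MulAut P) := (autInducedBy S Q).map (MulAut.congr e).toMonoidHom with hB
  have hBA : B ≤ F.autGroup P := by
    rintro _ ⟨α, hα, rfl⟩
    exact congr_mem_autGroup F hψ hψr (autInducedBy_le_autGroup F hQS hα)
  have hBp : IsPGroup p B := (isPGroup_autInducedBy hS Q).map _
  have hB'p : IsPGroup p (B.subgroupOf (F.autGroup P)) := hBp.comap_subtype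
  obtain ⟨a, ha⟩ := exists_cj_le_sylow R hB'p
  have hconj : ∀ β ∈ B, (a : MulAut P) * β * (a : MulAut P)⁻¹ ∈ autInducedBy S P := by
    intro β hβ
    have h1 : (MulAut.conj a).toMonoidHom ⟨β, hBA hβ⟩ ∈ (R : Subgroup (F.autGroup P)) :=
      ha ⟨⟨β, hBA hβ⟩, hβ, rfl⟩
    rw [hR] at h1
    exact h1
  -- the new map
  have haP := hom_of_mem_autGroup F hPS a.2
  have hψP : ∀ x : Q, ψ x ∈ P := fun x => hψr.le ⟨x, rfl⟩
  obtain ⟨χ, hχ, hχe⟩ := comp_hom F hψ haP hψP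
  have hχe' : ∀ x : Q, χ x = (((a : MulAut P) (e x) : P) : Ω) := fun x => hχe x
  have hχr : χ.range = P := by
    apply le_antisymm
    · rintro _ ⟨x, rfl⟩
      rw [hχe']
      exact ((a : MulAut P) (e x)).2
    · intro y hy
      refine ⟨e.symm ((a : MulAut P)⁻¹ ⟨y, hy⟩), ?_⟩
      rw [hχe', MulEquiv.apply_symm_apply, MulAut.apply_inv_self]
  -- N_S(Q) is inside the extender
  have hNle : normalizerIn S Q ≤ extender S Q χ := by
    intro g hg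
    apply Subgroup.subset_closure
    refine ⟨hg.1, hg.2, ?_⟩
    have hcg : conjAut Q ⟨g, hg.2⟩ ∈ autInducedBy S Q := by
      rw [mem_autInducedBy_iff]
      exact ⟨g, hg.1, fun x => rfl⟩
    have hβ : MulAut.congr e (conjAut Q ⟨g, hg.2⟩) ∈ B := ⟨_, hcg, rfl⟩
    obtain ⟨h, hhS, hh⟩ := (mem_autInducedBy_iff S P _).mp (hconj _ hβ)
    refine ⟨h, hhS, ?_⟩
    intro x hx
    have h3 := hh ((a : MulAut P) (e x))
    rw [hχe', hχe', ← h3]
    show _ = (((a : MulAut P) ((MulAut.congr e (conjAut Q ⟨g, hg.2⟩))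
      ((a : MulAut P)⁻¹ ((a : MulAut P) (e x)))) : P) : Ω)
    rw [MulAut.inv_apply_self]
    show _ = (((a : MulAut P) (e ((conjAut Q ⟨g, hg.2⟩) (e.symm (e x)))) : P) : Ω)
    rw [MulEquiv.symm_apply_apply]
    rfl
  obtain ⟨ρ, hρ, hρχ⟩ := h₂.2 Q χ hχ hχr
  have hQN : Q ≤ normalizerIn S Q := le_inf hQS Subgroup.le_normalizer
  have hρQ : ∀ (x : Ω) (hx : x ∈ Q), ρ ⟨x, hNle (hQN hx)⟩ = χ ⟨x, hx⟩ :=
    fun x hx => hρχ x hx _
  -- conjugation by ρ g maps P into P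
  have hconjP : ∀ g : normalizerIn S Q, ∀ y ∈ P,
      ρ ⟨g, hNle g.2⟩ * y * (ρ ⟨g, hNle g.2⟩)⁻¹ ∈ P := by
    intro g y hy
    obtain ⟨x, rfl⟩ := hχr.ge hy
    have hgx : (g : Ω) * x * (g : Ω)⁻¹ ∈ Q := conj_mem_of_mem_normalizer g.2.2 x.2
    have h1 : ρ ⟨g, hNle g.2⟩ * χ x * (ρ ⟨g, hNle g.2⟩)⁻¹ = χ ⟨(g : Ω) * x * (g : Ω)⁻¹, hgx⟩ := by
      rw [← hρQ _ hgx, ← hρQ x x.2, ← map_inv, ← map_mul, ← map_mul]
      rfl
    rw [h1, ← hχr]
    exact ⟨_, rfl⟩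
  refine ⟨ρ.comp (Subgroup.inclusion hNle), restrict_mem F hρ hNle, ?_, ?_⟩
  · intro g
    refine ⟨hom_mem F hρ _, ?_⟩
    show (ρ.comp (Subgroup.inclusion hNle)) g ∈ Subgroup.normalizer (P : Set Ω)
    rw [Subgroup.mem_normalizer_iff]
    intro y
    constructor
    · intro hy
      exact hconjP g y hy
    · intro hy
      have h1 := hconjP g⁻¹ _ hy
      have h2 : ρ ⟨((g⁻¹ : normalizerIn S Q) : Ω), hNle (g⁻¹).2⟩ =
          (ρ ⟨g, hNle g.2⟩)⁻¹ := by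
        rw [← map_inv]
        rfl
      rw [h2] at h1
      have h3 : (ρ ⟨g, hNle g.2⟩)⁻¹ * ((ρ.comp (Subgroup.inclusion hNle)) g * y *
          ((ρ.comp (Subgroup.inclusion hNle)) g)⁻¹) * (ρ ⟨g, hNle g.2⟩)⁻¹⁻¹ = y := by
        show (ρ ⟨g, hNle g.2⟩)⁻¹ * (ρ ⟨g, hNle g.2⟩ * y * (ρ ⟨g, hNle g.2⟩)⁻¹) *
          (ρ ⟨g, hNle g.2⟩)⁻¹⁻¹ = y
        group
      rw [h3] at h1
      exact h1
  · apply le_antisymm
    · rintro _ ⟨x, hx, rfl⟩
      have hx1 : (x : Ω) ∈ Q := hx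
      have : (ρ.comp (Subgroup.inclusion hNle)) x = χ ⟨x, hx1⟩ := hρQ x hx1
      rw [this, ← hχr]
      exact ⟨_, rfl⟩
    · intro y hy
      obtain ⟨x, rfl⟩ := hχr.ge hy
      exact ⟨⟨x, hQN x.2⟩, x.2, hρQ x x.2⟩

end Cfsg.Agent.Lib.Helper9
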