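import Mathlib
import Cfsg.Agent.Lib.Helper1.F4Out.Defs

set_option autoImplicit false

/-!
# F4OUT farm (S2128), unit NUM: two facts on the field with `2^(2m+1)` elements
-/

namespace Cfsg.Agent.Lib.Helper9.F4Out

open Cfsg Cfsg.Lie Cfsg.Agent.Lib.Helper5.ChevSym Cfsg.Agent.Lib.Helper5.ChevSymP
  Cfsg.Agent.Lib.Helper5.ChevStruct Cfsg.Agent.Lib.Helper5.Ree Cfsg.Agent.Lib.Helper5.TwX
  Cfsg.Agent.Lib.Helper5.MatPow Cfsg.Agent.Lib.Helper5.F4T Cfsg.Agent.Lib.Helper5.TwAut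
  Cfsg.Agent.Lib.Helper1.F4Out

variable {K : Type*} [Field K] [Fintype K] [CharP K 2] (m : ℕ)

/-- `t ↦ t^(θ+1)` is onto: `(a+1)(2a²-2a+1) = a(q-1)+1` for `a = 2^m`, `q = 2a²`. -/
theorem exists_mul_ph (hK : Fintype.card K = 2 ^ (2 * m + 1)) (u : K) :
    ∃ t : K, t * ph m t = u := by
  obtain ⟨b, hb⟩ : ∃ b, 2 ^ m = b + 1 :=
    ⟨2 ^ m - 1, by have := Nat.one_le_two_pow (n := m); omega⟩
  by_cases hu : u = 0
  · exact ⟨0, by rw [hu, map_zero, mul_zero]⟩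
  have hcard : Fintype.card K - 1 = 2 * b * b + 4 * b + 1 := by
    have : 2 ^ (2 * m + 1) = 2 * b * b + 4 * b + 1 + 1 := by
      rw [pow_succ, mul_comm 2 m, pow_mul, hb]; ring
    omega
  have h1 : u ^ (2 * b * b + 4 * b + 1) = 1 := by
    rw [← hcard]; exact FiniteField.pow_card_sub_one_eq_one u hu
  refine ⟨u ^ (2 * (b + 1) * b + 1), ?_⟩
  rw [ph_apply, hb, ← pow_succ', ← pow_mul]
  have : (2 * (b + 1) * b + 1) * (b + 1 + 1) = (2 * b * b + 4 * b + 1) * (b + 1) + 1 := by ring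
  rw [this, pow_succ, pow_mul, h1, one_pow, one_mul]

/-- `θ` is not the identity when `m ≥ 1`. -/
theorem exists_ph_ne (hm : 1 ≤ m) (hK : Fintype.card K = 2 ^ (2 * m + 1)) :
    ∃ c : K, c ≠ 0 ∧ ph m c ≠ c := by
  obtain ⟨g, hg⟩ := IsCyclic.exists_generator (α := Kˣ)
  refine ⟨(g : K), g.ne_zero, ?_⟩
  intro h
  rw [ph_apply] at h
  have h2 : g ^ 2 ^ m = g := by
    apply Units.ext
    rw [Units.val_pow_eq_pow_val, h]
  have hpos : 1 ≤ 2 ^ m := Nat.one_le_two_pow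
  have h3 : g ^ (2 ^ m - 1) = 1 := by
    have : g ^ (2 ^ m - 1) * g = 1 * g := by
      rw [← pow_succ, Nat.sub_add_cancel hpos, h2, one_mul]
    exact mul_right_cancel this
  have h4 : orderOf g ∣ 2 ^ m - 1 := orderOf_dvd_of_pow_eq_one h3
  have h5 : orderOf g = Fintype.card K - 1 := by
    rw [orderOf_eq_card_of_forall_mem_zpowers hg, Nat.card_units, Nat.card_eq_fintype_card]
  have h6 : 2 ^ 1 ≤ 2 ^ m := Nat.pow_le_pow_right (by norm_num) hm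
  have h7 : 2 ^ m < 2 ^ (2 * m + 1) := Nat.pow_lt_pow_right (by norm_num) (by omega)
  have h8 := Nat.le_of_dvd (by omega) h4
  rw [h5, hK] at h8
  omega

end Cfsg.Agent.Lib.Helper9.F4Out
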