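import Mathlib
import Cfsg.Agent.Lib.Helper1.F4Out.Defs
import Cfsg.Agent.Lib.Helper5.ChevTorusAct

set_option autoImplicit false

/-!
# F4OUT farm (S2128), unit T: the torus `H ∩ G1 = {hz m p}` acting on `X₁`, `X₂`
-/

namespace Cfsg.Agent.Lib.Helper9.F4Out

open Cfsg Cfsg.Lie Cfsg.Agent.Lib.Helper5.ChevSym Cfsg.Agent.Lib.Helper5.ChevSymP
  Cfsg.Agent.Lib.Helper5.ChevStruct Cfsg.Agent.Lib.Helper5.Ree Cfsg.Agent.Lib.Helper5.TwX
  Cfsg.Agent.Lib.Helper5.MatPow Cfsg.Agent.Lib.Helper5.F4T Cfsg.Agent.Lib.Helper5.TwAut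
  Cfsg.Agent.Lib.Helper1.F4Out

variable {K : Type*} [Field K] [Fintype K] [CharP K 2] (m : ℕ)
  (hq : ∀ x : K, x ^ 2 ^ (2 * m + 1) = x)

/-- the character of `hz m (y, z)` on `X₁` : `z² y⁻¹` -/
def chi1 (p : Kˣ × Kˣ) : Kˣ := p.2 ^ 2 * p.1⁻¹

/-- the character of `hz m (y, z)` on `X₂ / Z(X₂)` : `y^{2 - 2θ} z⁻¹` -/
noncomputable def chi2 (p : Kˣ × Kˣ) : Kˣ :=
  p.1 ^ 2 * (Units.map ((ph (K := K) m).toMonoidHom) p.1 ^ 2)⁻¹ * p.2⁻¹

/-- the torus parameters of `hz m p` -/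
noncomputable def czF (p : Kˣ × Kˣ) : ℕ → K :=
  fun i => if i = 0 then ph m (p.2 : K) else if i = 1 then ph m (p.1 : K)
    else if i = 2 then (p.1 : K) else if i = 3 then (p.2 : K) else 1

theorem czF_ne (p : Kˣ × Kˣ) (i : ℕ) : czF m p i ≠ 0 := by
  unfold czF
  split_ifs
  · exact (map_ne_zero _).2 p.2.ne_zero
  · exact (map_ne_zero _).2 p.1.ne_zero
  · exact p.1.ne_zero
  · exact p.2.ne_zero
  · exact one_ne_zero

theorem chi_F4 (c : ℕ → K) (s : ℕ) :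
    chi chevF4 c s = c 0 ^ chevF4.cartan 0 s * (c 1 ^ chevF4.cartan 1 s
      * (c 2 ^ chevF4.cartan 2 s * c 3 ^ chevF4.cartan 3 s)) := by
  unfold chi
  have : chevF4.rank = 4 := rfl
  rw [this]
  simp [List.range_succ, mul_assoc]

theorem cartan_tblF4 :
    (chevF4.cartan 0 33 = 2 ∧ chevF4.cartan 1 33 = -1 ∧ chevF4.cartan 2 33 = 0
      ∧ chevF4.cartan 3 33 = 0) ∧
    (chevF4.cartan 0 24 = 0 ∧ chevF4.cartan 1 24 = 0 ∧ chevF4.cartan 2 24 = -1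
      ∧ chevF4.cartan 3 24 = 2) ∧
    (chevF4.cartan 0 27 = -1 ∧ chevF4.cartan 1 27 = 2 ∧ chevF4.cartan 2 27 = -1
      ∧ chevF4.cartan 3 27 = 0) ∧
    (chevF4.cartan 0 25 = 0 ∧ chevF4.cartan 1 25 = -2 ∧ chevF4.cartan 2 25 = 2
      ∧ chevF4.cartan 3 25 = -1) ∧
    (chevF4.cartan 0 28 = -1 ∧ chevF4.cartan 1 28 = 0 ∧ chevF4.cartan 2 28 = 1
      ∧ chevF4.cartan 3 28 = -1) ∧
    (chevF4.cartan 0 30 = -2 ∧ chevF4.cartan 1 30 = 2 ∧ chevF4.cartan 2 30 = 0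
      ∧ chevF4.cartan 3 30 = -1) := by decide

theorem hz_mul_word (p : Kˣ × Kˣ) (w : List (ℕ × K)) :
    hz m p * wordGL chevF4 hF4 w
      = wordGL chevF4 hF4 (w.map fun q => (q.1, chi chevF4 (czF m p) q.1 * q.2)) * hz m p := by
  apply Units.ext
  rw [Units.val_mul, Units.val_mul, hz_val, wordGL_val, wordGL_val]
  exact torus_conj_word chevF4 hF4 _ (czF_ne m p) w

theorem chi_33 (p : Kˣ × Kˣ) : chi chevF4 (czF m p) 33 = ph m (chi1 p : K) := by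
  obtain ⟨⟨a0, a1, a2, a3⟩, -⟩ := cartan_tblF4
  rw [chi_F4, a0, a1, a2, a3]
  simp [czF, chi1]

theorem chi_24 (p : Kˣ × Kˣ) : chi chevF4 (czF m p) 24 = (chi1 p : K) := by
  obtain ⟨-, ⟨a0, a1, a2, a3⟩, -⟩ := cartan_tblF4
  rw [chi_F4, a0, a1, a2, a3]
  simp [czF, chi1, mul_comm]

theorem hz_conj_x1 (p : Kˣ × Kˣ) (t : K) :
    hz m p * x1 m t * (hz m p)⁻¹ = x1 m ((chi1 p : K) * t) := by
  rw [mul_inv_eq_iff_eq_mul]
  unfold x1
  rw [hz_mul_word]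
  simp only [List.map_cons, List.map_nil]
  rw [chi_33, chi_24, map_mul]

theorem chi2_val (p : Kˣ × Kˣ) :
    ((chi2 m p : Kˣ) : K) = (p.1 : K) ^ 2 * ((ph m (p.1 : K)) ^ 2)⁻¹ * (p.2 : K)⁻¹ := by
  simp [chi2]

include hq in
theorem ph_ph_sq (x : K) : (ph m (ph m x)) ^ 2 = x := by
  rw [← ps_eq, ps_ph m hq]

include hq in
theorem ph_chi2 (p : Kˣ × Kˣ) :
    ph m (chi2 m p : K) = (ph m (p.1 : K)) ^ 2 * (p.1 : K)⁻¹ * (ph m (p.2 : K))⁻¹ := by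
  rw [chi2_val, map_mul, map_mul, map_inv₀, map_inv₀, map_pow, map_pow, ph_ph_sq m hq]

include hq in
theorem chi_27 (p : Kˣ × Kˣ) : chi chevF4 (czF m p) 27 = ph m (chi2 m p : K) := by
  obtain ⟨-, -, ⟨a0, a1, a2, a3⟩, -⟩ := cartan_tblF4
  rw [chi_F4, a0, a1, a2, a3, ph_chi2 m hq]
  have h1 : (p.1 : K) ≠ 0 := p.1.ne_zero
  have h2 : (p.2 : K) ≠ 0 := p.2.ne_zero
  have h3 : ph m (p.1 : K) ≠ 0 := (map_ne_zero _).2 h1
  have h4 : ph m (p.2 : K) ≠ 0 := (map_ne_zero _).2 h2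
  simp only [czF]
  simp
  field_simp

theorem chi_25 (p : Kˣ × Kˣ) : chi chevF4 (czF m p) 25 = (chi2 m p : K) := by
  obtain ⟨-, -, -, ⟨a0, a1, a2, a3⟩, -⟩ := cartan_tblF4
  rw [chi_F4, a0, a1, a2, a3, chi2_val]
  have h1 : (p.1 : K) ≠ 0 := p.1.ne_zero
  have h2 : (p.2 : K) ≠ 0 := p.2.ne_zero
  have h3 : ph m (p.1 : K) ≠ 0 := (map_ne_zero _).2 h1
  have h4 : ph m (p.2 : K) ≠ 0 := (map_ne_zero _).2 h2
  simp only [czF]
  simp
  field_simp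

include hq in
theorem chi2_mul_ph (p : Kˣ × Kˣ) :
    (chi2 m p : K) * ph m (chi2 m p : K) = (p.1 : K) * (p.2 : K)⁻¹ * (ph m (p.2 : K))⁻¹ := by
  rw [ph_chi2 m hq, chi2_val]
  have h1 : (p.1 : K) ≠ 0 := p.1.ne_zero
  have h2 : (p.2 : K) ≠ 0 := p.2.ne_zero
  have h3 : ph m (p.1 : K) ≠ 0 := (map_ne_zero _).2 h1
  have h4 : ph m (p.2 : K) ≠ 0 := (map_ne_zero _).2 h2
  field_simp

include hq in
theorem chi_28 (p : Kˣ × Kˣ) :
    chi chevF4 (czF m p) 28 = (chi2 m p : K) * ph m (chi2 m p : K) := by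
  obtain ⟨-, -, -, -, ⟨a0, a1, a2, a3⟩, -⟩ := cartan_tblF4
  rw [chi_F4, a0, a1, a2, a3, chi2_mul_ph m hq]
  have h1 : (p.1 : K) ≠ 0 := p.1.ne_zero
  have h2 : (p.2 : K) ≠ 0 := p.2.ne_zero
  have h3 : ph m (p.1 : K) ≠ 0 := (map_ne_zero _).2 h1
  have h4 : ph m (p.2 : K) ≠ 0 := (map_ne_zero _).2 h2
  simp only [czF]
  simp
  field_simp

include hq in
theorem chi_30 (p : Kˣ × Kˣ) :
    chi chevF4 (czF m p) 30 = ps m ((chi2 m p : K) * ph m (chi2 m p : K)) := by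
  obtain ⟨-, -, -, -, -, ⟨a0, a1, a2, a3⟩⟩ := cartan_tblF4
  rw [chi_F4, a0, a1, a2, a3, chi2_mul_ph m hq, ps_eq, map_mul, map_mul, map_inv₀, map_inv₀,
    mul_pow, mul_pow, inv_pow, inv_pow, ph_ph_sq m hq]
  have h1 : (p.1 : K) ≠ 0 := p.1.ne_zero
  have h2 : (p.2 : K) ≠ 0 := p.2.ne_zero
  have h3 : ph m (p.1 : K) ≠ 0 := (map_ne_zero _).2 h1
  have h4 : ph m (p.2 : K) ≠ 0 := (map_ne_zero _).2 h2
  simp only [czF]
  simp
  field_simp

include hq in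
theorem hz_conj_x2 (p : Kˣ × Kˣ) (t u : K) :
    hz m p * x2 m t u * (hz m p)⁻¹
      = x2 m ((chi2 m p : K) * t) ((chi2 m p : K) * ph m (chi2 m p : K) * u) := by
  rw [mul_inv_eq_iff_eq_mul]
  unfold x2
  rw [hz_mul_word]
  simp only [List.map_cons, List.map_nil]
  rw [chi_27 m hq, chi_25, chi_28 m hq, chi_30 m hq]
  have e1 : ph m (chi2 m p : K) * ph m t = ph m ((chi2 m p : K) * t) := (map_mul _ _ _).symm
  have e3 : (chi2 m p : K) * ph m (chi2 m p : K) * (t * ph m t + u)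
      = (chi2 m p : K) * t * ph m ((chi2 m p : K) * t)
        + (chi2 m p : K) * ph m (chi2 m p : K) * u := by
    rw [map_mul]; ring
  have e4 : ps m ((chi2 m p : K) * ph m (chi2 m p : K)) * ps m u
      = ps m ((chi2 m p : K) * ph m (chi2 m p : K) * u) := (map_mul _ _ _).symm
  rw [e1, e3, e4]

theorem units_map_ph (x : Kˣ) : Units.map ((ph (K := K) m).toMonoidHom) x = x ^ 2 ^ m := by
  apply Units.ext
  simp [ph_apply]

theorem chi_surj (hK : Fintype.card K = 2 ^ (2 * m + 1)) (a b : Kˣ) :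
    ∃ p : Kˣ × Kˣ, chi1 p = a ∧ chi2 m p = b := by
  obtain ⟨A, hA⟩ : ∃ A, A = 2 ^ m := ⟨_, rfl⟩
  obtain ⟨c, hc⟩ : ∃ c : Kˣ, c = a * b ^ 2 := ⟨_, rfl⟩
  have hcq : c ^ (2 * A * A) = c := by
    apply Units.ext
    rw [Units.val_pow_eq_pow_val]
    have h := FiniteField.pow_card (c : K)
    rw [hK] at h
    have e : 2 * A * A = 2 ^ (2 * m + 1) := by
      rw [hA, pow_succ, mul_comm 2 m, pow_mul]; ring
    rw [e, h]
  obtain ⟨y, hy⟩ : ∃ y : Kˣ, y = c ^ (4 * A + 3) := ⟨_, rfl⟩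
  obtain ⟨w, hw⟩ : ∃ w : Kˣ, w = y ^ A := ⟨_, rfl⟩
  have key : y ^ 3 = c * w ^ 4 := by
    rw [hw, hy, ← pow_mul, ← pow_mul, ← pow_mul, ← pow_succ']
    have e1 : (4 * A + 3) * 3 = 12 * A + 1 + 8 := by ring
    have e2 : (4 * A + 3) * (A * 4) + 1 = 12 * A + 1 + (2 * A * A) * 8 := by ring
    rw [e1, e2, pow_add, pow_add _ _ ((2 * A * A) * 8), pow_mul _ (2 * A * A), hcq]
  have hmap : Units.map ((ph (K := K) m).toMonoidHom) y = w := by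
    rw [units_map_ph, hw, hA]
  refine ⟨(y, y ^ 2 * (w ^ 2)⁻¹ * b⁻¹), ?_, ?_⟩
  · show (y ^ 2 * (w ^ 2)⁻¹ * b⁻¹) ^ 2 * y⁻¹ = a
    rw [mul_inv_eq_iff_eq_mul, mul_pow, mul_pow, inv_pow, inv_pow, ← pow_mul, ← pow_mul,
      mul_inv_eq_iff_eq_mul, mul_inv_eq_iff_eq_mul]
    calc y ^ (2 * 2) = y * y ^ 3 := by rw [← pow_succ']
      _ = y * (c * w ^ 4) := by rw [key]
      _ = a * y * b ^ 2 * w ^ (2 * 2) := by
        rw [hc]
        show y * (a * b ^ 2 * w ^ 4) = a * y * b ^ 2 * w ^ 4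
        rw [mul_comm a y, mul_assoc, mul_assoc, mul_assoc]
  · show y ^ 2 * (Units.map ((ph (K := K) m).toMonoidHom) y ^ 2)⁻¹
      * (y ^ 2 * (w ^ 2)⁻¹ * b⁻¹)⁻¹ = b
    rw [hmap, mul_inv_rev, inv_inv, mul_comm b, mul_inv_cancel_left]

/-! ### `hz m (1, z)` lies in the rank-one group `⟨X₁, Y₁⟩` -/

omit [Fintype K] in
theorem hE_mul_hE (y : K) : hE 33 (ph m y) * hE 24 y
    = nE 33 (ph m y) * nE 24 y * (nE 33 (1 : K) * nE 24 1)⁻¹ := by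
  rw [mul_inv_rev, nE_one_inv, nE_one_inv, hE_eq, hE_eq]
  have hc : Commute (nE 24 y * nE 24 (-1)) (nE 33 (-1 : K)) := by
    have := commute_long_short (chevF4.nWord 24 y ++ chevF4.nWord 24 (-1))
      (chevF4.nWord 33 (-1 : K)) (by
        intro p hp
        simp only [ChevalleyDatum.nWord, List.cons_append, List.nil_append, List.mem_cons,
          List.not_mem_nil, or_false] at hp
        have e24 : chevF4.neg 24 = 23 := rfl
        rw [e24] at hp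
        rcases hp with rfl | rfl | rfl | rfl | rfl | rfl <;> simp) (by
        intro p hp
        simp only [ChevalleyDatum.nWord, List.mem_cons, List.not_mem_nil, or_false] at hp
        have e33 : chevF4.neg 33 = 14 := rfl
        rw [e33] at hp
        rcases hp with rfl | rfl | rfl <;> simp)
    rw [wordGL_append' chevF4 hF4] at this
    exact this
  calc nE 33 (ph m y) * nE 33 (-1) * (nE 24 y * nE 24 (-1))
      = nE 33 (ph m y) * (nE 33 (-1) * (nE 24 y * nE 24 (-1))) := by group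
    _ = nE 33 (ph m y) * ((nE 24 y * nE 24 (-1)) * nE 33 (-1)) := by rw [hc.eq]
    _ = nE 33 (ph m y) * nE 24 y * (nE 24 (-1) * nE 33 (-1)) := by group

omit [Fintype K] in
theorem mEl_mem_closure (y : K) : nE 33 (ph m y) * nE 24 y
    ∈ Subgroup.closure {g : GL chevF4.Idx K | ∃ t, g = x1 m t ∨ g = y1 m t} := by
  rw [← mEl_eq, pairWord_eq, pairWord_eq]
  exact mul_mem (mul_mem (Subgroup.subset_closure ⟨y, Or.inl rfl⟩)
    (Subgroup.subset_closure ⟨y⁻¹, Or.inr rfl⟩)) (Subgroup.subset_closure ⟨y, Or.inl rfl⟩)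

theorem hz_one_mem_closure (z : Kˣ) :
    hz m (1, z) ∈ Subgroup.closure {g : GL chevF4.Idx K | ∃ t, g = x1 m t ∨ g = y1 m t} := by
  rw [← hh_eq_hz, hE_mul_hE]
  have h2 := mEl_mem_closure m (1 : K)
  rw [map_one] at h2
  exact mul_mem (mEl_mem_closure m (z : K)) (inv_mem h2)

end Cfsg.Agent.Lib.Helper9.F4Out
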