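import Cfsg.Agent.Lib.Helper9.ExtMod3
import Cfsg.Prelude.Def_FusionComponents

set_option autoImplicit false

namespace Cfsg.Agent.Lib.Helper9

open Cfsg Cfsg.FusionSystem

variable {Ω : Type*} [Group Ω] {S : Subgroup Ω} {Ω' : Type*} [Group Ω']

theorem mem_preimageAlong (θ : S →* Ω') (P' : Subgroup Ω') (x : Ω) :
    x ∈ preimageAlong θ P' ↔ ∃ hx : x ∈ S, θ ⟨x, hx⟩ ∈ P' := by
  constructor
  · rintro ⟨s, hs, rfl⟩
    exact ⟨s.2, hs⟩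
  · rintro ⟨hx, h⟩
    exact ⟨⟨x, hx⟩, h, rfl⟩

theorem preimageAlong_le (θ : S →* Ω') (P' : Subgroup Ω') : preimageAlong θ P' ≤ S := by
  intro x hx
  exact ((mem_preimageAlong θ P' x).mp hx).1

theorem map_mem_of_mem_preimageAlong (θ : S →* Ω') (P' : Subgroup Ω')
    (x : (preimageAlong θ P' : Subgroup Ω)) : θ ⟨x, preimageAlong_le θ P' x.2⟩ ∈ P' :=
  ((mem_preimageAlong θ P' x).mp x.2).2

theorem mem_imageAlong (θ : S →* Ω') (P : Subgroup Ω) (y : Ω') :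
    y ∈ imageAlong θ P ↔ ∃ (x : Ω) (hx : x ∈ S), x ∈ P ∧ θ ⟨x, hx⟩ = y := by
  constructor
  · rintro ⟨s, hs, rfl⟩
    exact ⟨s, s.2, hs, rfl⟩
  · rintro ⟨x, hx, hxP, rfl⟩
    exact ⟨⟨x, hx⟩, hxP, rfl⟩

theorem le_preimageAlong_imageAlong (θ : S →* Ω') {P : Subgroup Ω} (hP : P ≤ S) :
    P ≤ preimageAlong θ (imageAlong θ P) := by
  intro x hx
  rw [mem_preimageAlong]
  exact ⟨hP hx, (mem_imageAlong θ P _).mpr ⟨x, hP hx, hx, rfl⟩⟩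

theorem ker_le_preimageAlong (θ : S →* Ω') {S₀ : Subgroup Ω} (hS₀ : S₀ ≤ S)
    (hker : ∀ s : S, θ s = 1 ↔ (s : Ω) ∈ S₀) (P' : Subgroup Ω') : S₀ ≤ preimageAlong θ P' := by
  intro x hx
  rw [mem_preimageAlong]
  refine ⟨hS₀ hx, ?_⟩
  rw [(hker ⟨x, hS₀ hx⟩).mpr hx]
  exact P'.one_mem

theorem preimageAlong_imageAlong_le (θ : S →* Ω') {S₀ : Subgroup Ω}
    (hker : ∀ s : S, θ s = 1 ↔ (s : Ω) ∈ S₀) (P : Subgroup Ω) :
    preimageAlong θ (imageAlong θ P) ≤ P ⊔ S₀ := by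
  intro x hx
  obtain ⟨hxS, hx'⟩ := (mem_preimageAlong θ _ x).mp hx
  obtain ⟨y, hyS, hyP, hy⟩ := (mem_imageAlong θ P _).mp hx'
  have h1 : θ (⟨y, hyS⟩⁻¹ * ⟨x, hxS⟩) = 1 := by
    rw [map_mul, map_inv, hy, inv_mul_cancel]
  have h2 : y⁻¹ * x ∈ S₀ := (hker _).mp h1
  have h3 : x = y * (y⁻¹ * x) := by group
  rw [h3]
  exact Subgroup.mul_mem _ (Subgroup.mem_sup_left hyP) (Subgroup.mem_sup_right h2)

/-- the homomorphism induced along `θ` on `P'` by a map `ψ` defined on a subgroup `D` with `θ(D) = P'` -/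
noncomputable def inducedHom (θ : S →* Ω') {D : Subgroup Ω} (hD : D ≤ S) (ψ : D →* Ω)
    (hψS : ∀ x, ψ x ∈ S) (P' : Subgroup Ω') (hDP' : ∀ x : D, θ ⟨x, hD x.2⟩ ∈ P')
    (hsurj : ∀ y ∈ P', ∃ x : D, θ ⟨x, hD x.2⟩ = y)
    (hker : ∀ x : D, θ ⟨x, hD x.2⟩ = 1 → θ ⟨ψ x, hψS x⟩ = 1) : P' →* Ω' :=
  MonoidHom.liftOfRightInverse ((θ.comp (Subgroup.inclusion hD)).codRestrict P' hDP')
    (Function.surjInv (f := (θ.comp (Subgroup.inclusion hD)).codRestrict P' hDP') (by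
      rintro ⟨y, hy⟩
      obtain ⟨x, hx⟩ := hsurj y hy
      exact ⟨x, Subtype.ext hx⟩))
    (Function.rightInverse_surjInv _)
    ⟨θ.comp (ψ.codRestrict S hψS), by
      intro x hx
      rw [MonoidHom.mem_ker] at hx ⊢
      have h1 : θ ⟨x, hD x.2⟩ = 1 := congrArg Subtype.val hx
      exact hker x h1⟩

theorem inducedHom_apply (θ : S →* Ω') {D : Subgroup Ω} (hD : D ≤ S) (ψ : D →* Ω)
    (hψS : ∀ x, ψ x ∈ S) (P' : Subgroup Ω') (hDP' : ∀ x : D, θ ⟨x, hD x.2⟩ ∈ P')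
    (hsurj : ∀ y ∈ P', ∃ x : D, θ ⟨x, hD x.2⟩ = y)
    (hker : ∀ x : D, θ ⟨x, hD x.2⟩ = 1 → θ ⟨ψ x, hψS x⟩ = 1) (x : D) :
    inducedHom θ hD ψ hψS P' hDP' hsurj hker ⟨θ ⟨x, hD x.2⟩, hDP' x⟩ = θ ⟨ψ x, hψS x⟩ := by
  unfold inducedHom
  exact MonoidHom.liftOfRightInverse_comp_apply _ _ _ _ x

theorem inducedAlong_inducedHom (θ : S →* Ω') {D : Subgroup Ω} (hD : D ≤ S) (ψ : D →* Ω)
    (hψS : ∀ x, ψ x ∈ S) (P' : Subgroup Ω') (hDP' : ∀ x : D, θ ⟨x, hD x.2⟩ ∈ P')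
    (hsurj : ∀ y ∈ P', ∃ x : D, θ ⟨x, hD x.2⟩ = y)
    (hker : ∀ x : D, θ ⟨x, hD x.2⟩ = 1 → θ ⟨ψ x, hψS x⟩ = 1) :
    InducedAlong θ ψ (inducedHom θ hD ψ hψS P' hDP' hsurj hker) :=
  ⟨hD, hψS, hDP', inducedHom_apply θ hD ψ hψS P' hDP' hsurj hker⟩

/-- S5134: the factor map is a surjective morphism -/
theorem factor_isSurjectiveMorphism [Finite S] (p : ℕ) [Fact p.Prime] (hS : IsPGroup p S)
    (F : FusionSystem S) (hF : F.IsSaturated p) (S₀ : Subgroup Ω) (hS₀ : F.StronglyClosed S₀)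
    {S' : Subgroup Ω'} (θ : S →* Ω') (E : FusionSystem S') (hE : F.IsFactorSystem S₀ θ E) :
    F.IsSurjectiveMorphism E θ := by
  obtain ⟨hS₀S, hker, hrange, hHom⟩ := hE
  refine ⟨⟨fun s => hrange ▸ ⟨s, rfl⟩, ?_⟩, hrange, fun P' hP' φ' hφ' => ((hHom P' φ').mp hφ').2⟩
  intro P φ hφ
  have hPS : P ≤ S := hom_le F hφ
  obtain ⟨ψ, hψ, hψφ⟩ := extendsMod_of_stronglyClosed hS F hF hS₀ hφ
  have hle : preimageAlong θ (imageAlong θ P) ≤ P ⊔ S₀ := preimageAlong_imageAlong_le θ hker P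
  have hψ' := restrict_mem F hψ hle
  set ψ' := ψ.comp (Subgroup.inclusion hle) with hψ'def
  have hD : preimageAlong θ (imageAlong θ P) ≤ S := preimageAlong_le θ _
  have hψ'S : ∀ x, ψ' x ∈ S := fun x => hom_mem F hψ' x
  have hDP' : ∀ x : (preimageAlong θ (imageAlong θ P) : Subgroup Ω),
      θ ⟨x, hD x.2⟩ ∈ imageAlong θ P := map_mem_of_mem_preimageAlong θ _
  have hsurj : ∀ y ∈ imageAlong θ P, ∃ x : (preimageAlong θ (imageAlong θ P) : Subgroup Ω),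
      θ ⟨x, hD x.2⟩ = y := by
    intro y hy
    obtain ⟨x, hxS, hxP, hxy⟩ := (mem_imageAlong θ P y).mp hy
    exact ⟨⟨x, le_preimageAlong_imageAlong θ hPS hxP⟩, hxy⟩
  have hker' : ∀ x : (preimageAlong θ (imageAlong θ P) : Subgroup Ω),
      θ ⟨x, hD x.2⟩ = 1 → θ ⟨ψ' x, hψ'S x⟩ = 1 := by
    intro x hx
    have h1 : (x : Ω) ∈ S₀ := (hker _).mp hx
    exact (hker _).mpr (map_mem_of_stronglyClosed F hS₀ hψ' x h1)
  set φ' := inducedHom θ hD ψ' hψ'S (imageAlong θ P) hDP' hsurj hker' with hφ'def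
  have hind := inducedAlong_inducedHom θ hD ψ' hψ'S (imageAlong θ P) hDP' hsurj hker'
  refine ⟨φ', (hHom _ φ').mpr ⟨?_, ψ', hψ', hind⟩, ?_⟩
  · rintro _ ⟨s, -, rfl⟩
    rw [← hrange]
    exact ⟨s, rfl⟩
  · refine ⟨hPS, fun x => hom_mem F hφ x, fun x => (mem_imageAlong θ P _).mpr
      ⟨x, hPS x.2, x.2, rfl⟩, fun x => ?_⟩
    have h1 := inducedHom_apply θ hD ψ' hψ'S (imageAlong θ P) hDP' hsurj hker'
      ⟨x, le_preimageAlong_imageAlong θ hPS x.2⟩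
    rw [← hφ'def] at h1
    rw [h1]
    have h2 : ψ' ⟨x, le_preimageAlong_imageAlong θ hPS x.2⟩ =
        ψ (Subgroup.inclusion le_sup_left x) := rfl
    have h3 := hψφ x
    have h4 : (⟨ψ' ⟨x, le_preimageAlong_imageAlong θ hPS x.2⟩, hψ'S _⟩ : S) =
        ⟨φ x, hom_mem F hφ x⟩ * ⟨(φ x)⁻¹ * ψ (Subgroup.inclusion le_sup_left x), hS₀S h3⟩ := by
      apply Subtype.ext
      show ψ' ⟨x, _⟩ = φ x * ((φ x)⁻¹ * ψ (Subgroup.inclusion le_sup_left x))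
      rw [h2]; group
    have h5 : θ ⟨(φ x)⁻¹ * ψ (Subgroup.inclusion le_sup_left x), hS₀S h3⟩ = 1 := (hker _).mpr h3
    rw [h4, map_mul, h5, mul_one]

end Cfsg.Agent.Lib.Helper9
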