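import Cfsg.Agent.Lib.Helper9.FusionNormalizer

set_option autoImplicit false

namespace Cfsg.Agent.Lib.Helper9

open Cfsg Cfsg.FusionSystem

variable {Ω : Type*} [Group Ω] {S : Subgroup Ω}

theorem map_eq_of_fix {P Q : Subgroup Ω} (ψ : (P ⊔ Q : Subgroup Ω) →* Ω)
    (h : ∀ x : Q, ψ (Subgroup.inclusion le_sup_right x) = x) :
    (Q.subgroupOf (P ⊔ Q)).map ψ = Q := by
  apply le_antisymm
  · rintro _ ⟨x, hx, rfl⟩
    have hx1 : (x : Ω) ∈ Q := hx
    have := h ⟨x, hx1⟩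
    have e : Subgroup.inclusion (le_sup_right : Q ≤ P ⊔ Q) ⟨x, hx1⟩ = x := Subtype.ext rfl
    rw [e] at this
    rw [this]
    exact hx1
  · intro q hq
    exact ⟨Subgroup.inclusion le_sup_right ⟨q, hq⟩, hq, h ⟨q, hq⟩⟩

theorem centralizerHom_subset_normalizerHom (F : FusionSystem S) (Q P : Subgroup Ω) :
    F.centralizerHom Q P ⊆ F.normalizerHom Q P := by
  rintro φ ⟨hφ, hPC, hφC, ψ, hψ, hψφ, hψQ⟩
  refine ⟨hφ, ?_, ?_, ψ, hψ, hψφ, map_eq_of_fix ψ hψQ⟩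
  · intro x hx
    exact ⟨(hPC hx).1, Subgroup.centralizer_le_normalizer _ (hPC hx).2⟩
  · intro x
    exact ⟨(hφC x).1, Subgroup.centralizer_le_normalizer _ (hφC x).2⟩

/-- The centralizer fusion system. -/
def centralizerSystem (F : FusionSystem S) (Q : Subgroup Ω) (hQ : Q ≤ S) :
    FusionSystem (centralizerIn S Q) where
  Hom P := F.centralizerHom Q P
  le_of_mem h := ⟨h.2.1, h.2.2.1⟩
  injective_of_mem h := F.injective_of_mem h.1
  conj_mem := by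
    intro P g hP hg
    have hPS : P ≤ S := hP.trans (centralizerIn_le S Q)
    refine ⟨F.conj_mem hPS hg.1, hP, ?_, conjHom (P ⊔ Q) g,
      F.conj_mem (sup_le hPS hQ) hg.1, fun x => rfl, ?_⟩
    · intro x
      exact Subgroup.mul_mem _ (Subgroup.mul_mem _ hg (hP x.2)) (Subgroup.inv_mem _ hg)
    · intro x
      show g * (x : Ω) * g⁻¹ = x
      have := hg.2 x x.2
      rw [← this]; group
  comp_mem := by
    rintro P P' φ ψ ⟨hφ, hPN, hφN, φ', hφ', hφ'φ, hφ'Q⟩ ⟨hψ, hP'N, hψN, ψ', hψ', hψ'ψ, hψ'Q⟩ h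
    refine ⟨F.comp_mem hφ hψ h, hPN, fun x => hψN _, ?_⟩
    have hmem : ∀ z : (P ⊔ Q : Subgroup Ω), φ' z ∈ P' ⊔ Q :=
      ext_mem_sup φ' φ hφ'φ h (map_eq_of_fix φ' hφ'Q)
    refine ⟨ψ'.comp (φ'.codRestrict (P' ⊔ Q) hmem), F.comp_mem hφ' hψ' hmem, ?_, ?_⟩
    · intro x
      show ψ' ⟨φ' (Subgroup.inclusion le_sup_left x), _⟩ = ψ ⟨φ x, _⟩
      rw [← hψ'ψ]
      congr 1
      apply Subtype.ext
      exact hφ'φ x
    · intro x
      show ψ' ⟨φ' (Subgroup.inclusion le_sup_right x), _⟩ = x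
      rw [← hψ'Q x]
      congr 1
      apply Subtype.ext
      exact hφ'Q x
  inv_mem := by
    rintro P φ ⟨hφ, hPN, hφN, φ', hφ', hφ'φ, hφ'Q⟩
    obtain ⟨θ, hθ, hθφ'⟩ := F.inv_mem hφ'
    have hrange : φ'.range = φ.range ⊔ Q := range_ext_eq φ' φ hφ'φ (map_eq_of_fix φ' hφ'Q)
    have hle : φ.range ⊔ Q ≤ φ'.range := hrange.ge
    have hψ' : θ.comp (Subgroup.inclusion hle) ∈ F.Hom (φ.range ⊔ Q) := restrict_mem F hθ hle
    have hψ := restrict_mem F hψ' (le_sup_left : φ.range ≤ φ.range ⊔ Q)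
    have key : ∀ (x : P) (hx : φ x ∈ φ'.range), θ ⟨φ x, hx⟩ = x := by
      intro x hx
      have h1 := hθφ' (Subgroup.inclusion le_sup_left x)
      have h2 : (⟨φ x, hx⟩ : φ'.range) =
          ⟨φ' (Subgroup.inclusion le_sup_left x), ⟨_, rfl⟩⟩ := Subtype.ext (hφ'φ x).symm
      rw [h2]
      exact h1
    refine ⟨(θ.comp (Subgroup.inclusion hle)).comp (Subgroup.inclusion le_sup_left),
      ⟨hψ, ?_, ?_, θ.comp (Subgroup.inclusion hle), hψ', fun x => rfl, ?_⟩, ?_⟩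
    · rintro _ ⟨x, rfl⟩
      exact hφN x
    · rintro ⟨_, x, rfl⟩
      have : ((θ.comp (Subgroup.inclusion hle)).comp (Subgroup.inclusion le_sup_left))
          ⟨φ x, ⟨x, rfl⟩⟩ = x := key x _
      rw [this]
      exact hPN x.2
    · intro q
      have h1 := hθφ' (Subgroup.inclusion le_sup_right q)
      have h2 := hφ'Q q
      show θ ⟨(q : Ω), _⟩ = q
      have h3 : (⟨(q : Ω), hle ((le_sup_right : Q ≤ φ.range ⊔ Q) q.2)⟩ : φ'.range) =
          ⟨φ' (Subgroup.inclusion le_sup_right q), ⟨_, rfl⟩⟩ := Subtype.ext h2.symm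
      rw [h3]
      exact h1
    · intro x
      exact key x _

theorem isCentralizerSystem_centralizerSystem (F : FusionSystem S) (Q : Subgroup Ω) (hQ : Q ≤ S) :
    F.IsCentralizerSystem Q (centralizerSystem F Q hQ) := fun _ => rfl

end Cfsg.Agent.Lib.Helper9
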