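import Cfsg.Agent.Lib.Helper9.AlperinCor
import Cfsg.Agent.Lib.Helper9.FusionCentralizer
import Cfsg.Agent.Lib.Helper9.FusionSat4

set_option autoImplicit false

namespace Cfsg.Agent.Lib.Helper9

open Cfsg Cfsg.FusionSystem

variable {Ω : Type*} [Group Ω] {S : Subgroup Ω}

/-- a nontrivial finite `p`-group `S` has a central subgroup of order `p` -/
theorem exists_central_order_p [Finite S] {p : ℕ} [Fact p.Prime] (hS : IsPGroup p S)
    (hne : S ≠ ⊥) : ∃ z : Ω, z ∈ S ∧ orderOf z = p ∧ ∀ s ∈ S, s * z = z * s := by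
  have hnt : Nontrivial S := (Subgroup.nontrivial_iff_ne_bot S).mpr hne
  have hZ : Nontrivial (Subgroup.center S) := hS.center_nontrivial
  have hZp : IsPGroup p (Subgroup.center S) := hS.to_subgroup _
  obtain ⟨n, hn, hcard⟩ := (IsPGroup.nontrivial_iff_card hZp).mp hZ
  have hdvd : p ∣ Nat.card (Subgroup.center S) := by
    rw [hcard]
    exact dvd_pow_self p hn.ne'
  obtain ⟨x, hx⟩ := exists_prime_orderOf_dvd_card' p hdvd
  refine ⟨((x : S) : Ω), (x : S).2, ?_, ?_⟩
  · rw [← hx, ← Subgroup.orderOf_coe, ← Subgroup.orderOf_coe]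
  · intro s hs
    have h1 := Subgroup.mem_center_iff.mp x.2 ⟨s, hs⟩
    exact congrArg Subtype.val h1

/-- S5333 -/
theorem eq_of_agree_on_order_p [Finite S] (p : ℕ) [Fact p.Prime] (hS : IsPGroup p S)
    (F : FusionSystem S) (hF : F.IsSaturated p) (F' : FusionSystem S) (hF' : F'.IsSaturated p)
    (hle : F' ≤ F)
    (hZ : ∀ Z : Subgroup Ω, Z ≤ S → Nat.card Z = p → F'.IsFullyCentralized Z →
      F.Hom Z = F'.Hom Z ∧ ∀ (C C' : FusionSystem (centralizerIn S Z)),
        F.IsCentralizerSystem Z C → F'.IsCentralizerSystem Z C' →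
          ∀ P : Subgroup Ω, C.Hom P = C'.Hom P) (P : Subgroup Ω) : F.Hom P = F'.Hom P := by
  have hFF' : F ≤ F' := by
    apply alperin p hS F hF
    intro P hP
    have hPS : P ≤ S := by
      rcases hP with rfl | hP
      · exact le_rfl
      · exact hP.1.1
    intro α hα
    rw [mem_autGroup_iff _ hPS]
    have hφ := hom_of_mem_autGroup F hPS hα
    by_cases hS1 : S = ⊥
    · have hP1 : P = ⊥ := le_bot_iff.mp (hS1 ▸ hPS)
      have : P.subtype.comp α.toMonoidHom = P.subtype := by
        ext x
        have hx : (x : Ω) = 1 := Subgroup.mem_bot.mp (hP1.le x.2)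
        have hαx : ((α x : P) : Ω) = 1 := Subgroup.mem_bot.mp (hP1.le (α x).2)
        show ((α x : P) : Ω) = x
        rw [hx, hαx]
      rw [this]
      exact subtype_mem F' hPS
    · obtain ⟨z, hzS, hzo, hzc⟩ := exists_central_order_p hS hS1
      have hZS : Subgroup.zpowers z ≤ S := by
        rw [Subgroup.zpowers_le]
        exact hzS
      have hZcard : Nat.card (Subgroup.zpowers z) = p := by
        rw [Nat.card_zpowers, hzo]
      have hSC : S ≤ Subgroup.centralizer (Subgroup.zpowers z : Set Ω) := by
        intro s hs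
        rw [Subgroup.mem_centralizer_iff]
        intro y hy
        obtain ⟨k, rfl⟩ := Subgroup.mem_zpowers_iff.mp hy
        have hc : Commute s z := hzc s hs
        exact ((hc.zpow_right k).eq).symm
      have hCS : centralizerIn S (Subgroup.zpowers z) = S := inf_eq_left.mpr hSC
      have hZfc : F'.IsFullyCentralized (Subgroup.zpowers z) := by
        refine ⟨hZS, fun Z' _ => ?_⟩
        rw [hCS]
        have := finite_centralizerIn (S := S) Z'
        exact Subgroup.card_le_of_le inf_le_left
      obtain ⟨hHomZ, hCent⟩ := hZ _ hZS hZcard hZfc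
      have hCent' := hCent (centralizerSystem F _ hZS) (centralizerSystem F' _ hZS)
        (isCentralizerSystem_centralizerSystem F _ hZS)
        (isCentralizerSystem_centralizerSystem F' _ hZS) P
      -- Z ≤ P
      have hZP : Subgroup.zpowers z ≤ P := by
        rcases hP with rfl | hP
        · exact hZS
        · have hC : centralizerIn S P ≤ P := hP.1.2 P (isConj_refl F hPS)
          rw [Subgroup.zpowers_le]
          apply hC
          refine ⟨hzS, ?_⟩
          show z ∈ Subgroup.centralizer (P : Set Ω)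
          rw [Subgroup.mem_centralizer_iff]
          intro y hy
          exact hzc y (hPS hy)
      -- the restriction of α to Z lies in F'
      have hαZ : (P.subtype.comp α.toMonoidHom).comp (Subgroup.inclusion hZP) ∈
          F'.Hom (Subgroup.zpowers z) := by
        rw [← hHomZ]
        exact restrict_mem F hφ hZP
      obtain ⟨θ, hθ, hθα, hθr, -⟩ := inv_hom F' hαZ rfl
      have hrec := receptive_of_fullyCentralized hS F' hF' hZfc
      obtain ⟨ρ, hρ, hρθ⟩ := hrec.2 _ θ hθ hθr
      -- P centralizes α(Z)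
      have hPle : P ≤ extender S
          ((P.subtype.comp α.toMonoidHom).comp (Subgroup.inclusion hZP)).range θ := by
        intro y hy
        apply centralizerIn_le_extender
        refine ⟨hPS hy, ?_⟩
        show y ∈ Subgroup.centralizer _
        rw [Subgroup.mem_centralizer_iff]
        rintro _ ⟨w, rfl⟩
        show ((α (Subgroup.inclusion hZP w) : P) : Ω) * y = y * ((α (Subgroup.inclusion hZP w) : P) : Ω)
        have h1 : (Subgroup.inclusion hZP w) * (α.symm ⟨y, hy⟩) =
            (α.symm ⟨y, hy⟩) * (Subgroup.inclusion hZP w) := by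
          apply Subtype.ext
          show (w : Ω) * _ = _ * (w : Ω)
          obtain ⟨k, hk⟩ := Subgroup.mem_zpowers_iff.mp w.2
          rw [← hk]
          have hc : Commute ((α.symm ⟨y, hy⟩ : P) : Ω) z := hzc _ (hPS (α.symm ⟨y, hy⟩).2)
          exact ((hc.zpow_right k).eq).symm
        have h2 := congrArg (fun t : P => ((α t : P) : Ω)) h1
        simp only [map_mul, MulEquiv.apply_symm_apply, Subgroup.coe_mul] at h2
        exact h2
      have hβ := restrict_mem F' hρ hPle
      -- γ = β ∘ α
      have hαP : ∀ x : P, (P.subtype.comp α.toMonoidHom) x ∈ P := fun x => (α x).2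
      obtain ⟨γ, hγ, hγe⟩ := comp_hom F hφ (hle P hβ) hαP
      have hγfix : ∀ w : Subgroup.zpowers z, γ (Subgroup.inclusion hZP w) = w := by
        intro w
        rw [hγe]
        have hmem : ((α (Subgroup.inclusion hZP w) : P) : Ω) ∈
            ((P.subtype.comp α.toMonoidHom).comp (Subgroup.inclusion hZP)).range := ⟨w, rfl⟩
        have h1 := hρθ _ hmem (hPle (α (Subgroup.inclusion hZP w)).2)
        have h2 := hθα w hmem
        exact h1.trans h2
      have hγC : γ ∈ F.centralizerHom (Subgroup.zpowers z) P := by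
        have hsup : P ⊔ Subgroup.zpowers z ≤ P := sup_le le_rfl hZP
        refine ⟨hγ, hCS.ge.trans' hPS, fun x => hCS.ge (hom_mem F hγ x),
          γ.comp (Subgroup.inclusion hsup), restrict_mem F hγ hsup, fun x => rfl, ?_⟩
        intro w
        exact hγfix w
      have hγ' : γ ∈ F'.Hom P := by
        have h1 : γ ∈ (centralizerSystem F _ hZS).Hom P := hγC
        rw [hCent'] at h1
        exact h1.1
      -- α = β⁻¹ ∘ γ
      obtain ⟨η, hη, hηβ, -, -⟩ := inv_hom F' hβ rfl
      have hγr : ∀ x : P, γ x ∈ (ρ.comp (Subgroup.inclusion hPle)).range := by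
        intro x
        rw [hγe]
        exact ⟨_, rfl⟩
      obtain ⟨χ, hχ, hχe⟩ := comp_hom F' hγ' hη hγr
      have : χ = P.subtype.comp α.toMonoidHom := by
        ext x
        rw [hχe]
        have h1 := hηβ (α x) ⟨α x, rfl⟩
        have h2 : (⟨γ x, hγr x⟩ : (ρ.comp (Subgroup.inclusion hPle)).range) =
            ⟨(ρ.comp (Subgroup.inclusion hPle)) (α x), ⟨α x, rfl⟩⟩ :=
          Subtype.ext (hγe x)
        rw [h2, h1]
        rfl
      rw [← this]
      exact hχ
  exact Set.Subset.antisymm (hFF' P) (hle P)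

end Cfsg.Agent.Lib.Helper9
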