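import Cfsg.Agent.Lib.Helper9.NormalSeries3

set_option autoImplicit false

namespace Cfsg.Agent.Lib.Helper9

open Cfsg Cfsg.FusionSystem
open scoped commutatorElement

variable {Ω : Type*} [Group Ω] {S : Subgroup Ω}

/-- maps defined on subgroups of a normal subgroup `R` extend to automorphisms of `R` -/
theorem exists_aut_of_normal (F : FusionSystem S) {R P : Subgroup Ω} (hR : F.IsNormal R)
    (hPR : P ≤ R) {φ : P →* Ω} (hφ : φ ∈ F.Hom P) :
    ∃ α ∈ F.autGroup R, ∀ x : P, ((α (Subgroup.inclusion hPR x) : R) : Ω) = φ x := by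
  obtain ⟨ψ, hψ, hψφ, hψR⟩ := hR.2 P φ hφ
  have hle : R ≤ P ⊔ R := le_sup_right
  have hψ' := restrict_mem F hψ hle
  have hrange : (ψ.comp (Subgroup.inclusion hle)).range = R :=
    (range_comp_inclusion hle ψ).trans hψR
  obtain ⟨α, hα, hαψ⟩ := exists_aut_of_hom F hψ' hrange
  refine ⟨α, hα, fun x => ?_⟩
  rw [hαψ, ← hψφ x]
  rfl

/-- S5106 -/
theorem normal_iff_maps_extend [Finite S] (p : ℕ) [Fact p.Prime] (hS : IsPGroup p S)
    (F : FusionSystem S) (hF : F.IsSaturated p) (R : Subgroup Ω) (hRS : R ≤ S) :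
    F.IsNormal R ↔ ∀ (P : Subgroup Ω) (hPR : P ≤ R) (φ : P →* Ω), φ ∈ F.Hom P →
      ∃ α ∈ F.autGroup R, ∀ x : P, ((α (Subgroup.inclusion hPR x) : R) : Ω) = φ x := by
  constructor
  · intro hR P hPR φ hφ
    exact exists_aut_of_normal F hR hPR hφ
  · intro h
    have hfinR : Finite R := finite_of_le hRS
    have hnil : Group.IsNilpotent R := (isPGroup_of_le hS hRS).isNilpotent
    obtain ⟨n, hn⟩ := hnil.nilpotent'
    have hsc : ∀ j : ℕ, F.StronglyClosed ((Subgroup.upperCentralSeries R j).map R.subtype) := by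
      intro j
      refine ⟨(Subgroup.map_subtype_le _).trans hRS, fun P hP φ hφ x => ?_⟩
      obtain ⟨α, -, hα⟩ := h P (hP.trans (Subgroup.map_subtype_le _)) φ hφ
      rw [← hα x]
      obtain ⟨b, hb, hbx⟩ := hP x.2
      have hbx' : b = Subgroup.inclusion (hP.trans (Subgroup.map_subtype_le _)) x :=
        Subtype.ext hbx
      rw [← hbx']
      have hchar : (Subgroup.upperCentralSeries R j).Characteristic := inferInstance
      have := (Subgroup.characteristic_iff_map_le.mp hchar) α
      exact ⟨α b, this ⟨b, hb, rfl⟩, rfl⟩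
    apply normal_of_fin_series p hS F hF R n
      (fun i => (Subgroup.upperCentralSeries R (i : ℕ)).map R.subtype)
    · show (Subgroup.upperCentralSeries R ((0 : Fin (n + 1)) : ℕ)).map R.subtype = ⊥
      rw [Fin.val_zero, Subgroup.upperCentralSeries_zero, Subgroup.map_bot]
    · show (Subgroup.upperCentralSeries R ((Fin.last n : Fin (n + 1)) : ℕ)).map R.subtype = R
      rw [Fin.val_last, hn, ← MonoidHom.range_eq_map, Subgroup.range_subtype]
    · intro i
      exact ⟨hsc _, commutator_upperCentralSeries_map_le R i⟩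

end Cfsg.Agent.Lib.Helper9
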