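import Cfsg.Agent.Lib.Helper9.CentricAgree

set_option autoImplicit false

namespace Cfsg.Agent.Lib.Helper9

open Cfsg Cfsg.FusionSystem

variable {Ω : Type*} [Group Ω] {S : Subgroup Ω}

/-- a map of the system on `P` fixing a centric subgroup `Q ≤ P` pointwise is conjugation by an
element of `Z(Q)` -/
theorem hom_fix_centric [Finite S] {p : ℕ} [Fact p.Prime] (hS : IsPGroup p S)
    (F : FusionSystem S) (hF : F.IsSaturated p) :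
    ∀ (n : ℕ) (P Q : Subgroup Ω), P ≤ S → Q ≤ P → F.IsCentric Q →
      Nat.card P - Nat.card Q = n → ∀ ψ ∈ F.Hom P, (∀ x : P, (x : Ω) ∈ Q → ψ x = x) →
      ∃ z : P, (z : Ω) ∈ Q ∧ (z : Ω) ∈ Subgroup.centralizer (Q : Set Ω) ∧
        ∀ y : P, ψ y = ((z * y * z⁻¹ : P) : Ω) := by
  intro n
  induction n using Nat.strong_induction_on with
  | _ n ih =>
    intro P Q hPS hQP hQ hn ψ hψ hfix
    have hfinP : Finite P := finite_of_le hPS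
    have hPp : IsPGroup p P := isPGroup_of_le hS hPS
    have hC : centralizerIn S Q ≤ Q := hQ.2 Q (isConj_refl F hQ.1)
    by_cases hQeq : Q = P
    · subst hQeq
      refine ⟨1, Subgroup.one_mem _, Subgroup.one_mem _, fun y => ?_⟩
      rw [hfix y y.2]
      simp
    · have hlt : Q < P := lt_of_le_of_ne hQP hQeq
      obtain ⟨g₀, hg₀N, hg₀Q⟩ := exists_mem_normalizerIn_not_mem (S := P) hPp hlt
      have hQ₁P : normalizerIn P Q ≤ P := inf_le_left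
      have hQQ₁ : Q ≤ normalizerIn P Q := le_inf hQP Subgroup.le_normalizer
      have hQ₁S : normalizerIn P Q ≤ S := hQ₁P.trans hPS
      have hfinQ₁ : Finite (normalizerIn P Q) := finite_of_le hQ₁S
      have hcardlt : Nat.card Q < Nat.card (normalizerIn P Q) :=
        card_lt_of_lt' (lt_of_le_of_ne hQQ₁ (fun h => hg₀Q (h ▸ hg₀N)))
      have hψ₁ := restrict_mem F hψ hQ₁P
      have hfix₁ : ∀ x : normalizerIn P Q, (x : Ω) ∈ Q →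
          (ψ.comp (Subgroup.inclusion hQ₁P)) x = x := fun x hx => hfix _ hx
      have hmem₁ : ∀ x : normalizerIn P Q,
          (ψ.comp (Subgroup.inclusion hQ₁P)) x ∈ normalizerIn P Q := by
        intro x
        have h1 := inv_mul_map_mem_of_fix F hQQ₁ inf_le_right hC hψ₁ hfix₁ x
        have h2 : (ψ.comp (Subgroup.inclusion hQ₁P)) x =
            (x : Ω) * ((x : Ω)⁻¹ * (ψ.comp (Subgroup.inclusion hQ₁P)) x) := by group
        rw [h2]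
        exact Subgroup.mul_mem _ x.2 (hQQ₁ h1)
      have hrange₁ : (ψ.comp (Subgroup.inclusion hQ₁P)).range = normalizerIn P Q := by
        apply Subgroup.eq_of_le_of_card_ge
        · rintro _ ⟨x, rfl⟩
          exact hmem₁ x
        · exact (Nat.card_congr
            (MonoidHom.ofInjective (F.injective_of_mem hψ₁)).toEquiv).le
      obtain ⟨α₁, hα₁, hα₁ψ⟩ := exists_aut_of_hom F hψ₁ hrange₁
      obtain ⟨z₁, hz₁Q, hz₁C, hz₁⟩ := aut_fix_centric_normal hS F hF hQ₁S hQQ₁ inf_le_right hQ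
        hα₁ (fun x hx => Subtype.ext ((hα₁ψ x).trans (hfix₁ x hx)))
      -- the corrected map
      have hz₁P : (z₁ : Ω) ∈ P := hQ₁P z₁.2
      have hcz : ∀ y : P, conjHom P (z₁ : Ω)⁻¹ y ∈ P := by
        intro y
        rw [conjHom_apply]
        exact P.mul_mem (P.mul_mem (P.inv_mem hz₁P) y.2) (P.inv_mem (P.inv_mem hz₁P))
      obtain ⟨ψ', hψ', hψ'e⟩ := comp_hom F (F.conj_mem hPS (S.inv_mem (hPS hz₁P))) hψ hcz
      have hfix' : ∀ y : P, (y : Ω) ∈ normalizerIn P Q → ψ' y = y := by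
        intro y hy
        rw [hψ'e]
        have hw : (z₁ : Ω)⁻¹ * y * ((z₁ : Ω)⁻¹)⁻¹ ∈ normalizerIn P Q :=
          Subgroup.mul_mem _ (Subgroup.mul_mem _ (Subgroup.inv_mem _ z₁.2) hy)
            (Subgroup.inv_mem _ (Subgroup.inv_mem _ z₁.2))
        have h1 := hα₁ψ ⟨(z₁ : Ω)⁻¹ * y * ((z₁ : Ω)⁻¹)⁻¹, hw⟩
        have h2 := congrArg Subtype.val (hz₁ ⟨(z₁ : Ω)⁻¹ * y * ((z₁ : Ω)⁻¹)⁻¹, hw⟩)
        have h3 : ψ ⟨conjHom P (z₁ : Ω)⁻¹ y, hcz y⟩ =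
            (ψ.comp (Subgroup.inclusion hQ₁P)) ⟨(z₁ : Ω)⁻¹ * y * ((z₁ : Ω)⁻¹)⁻¹, hw⟩ := rfl
        rw [h3, ← h1, h2]
        show (z₁ : Ω) * ((z₁ : Ω)⁻¹ * y * ((z₁ : Ω)⁻¹)⁻¹) * (z₁ : Ω)⁻¹ = y
        group
      have hQ₁c : F.IsCentric (normalizerIn P Q) := centric_of_le F hQ hQQ₁ hQ₁S
      have hcardle : Nat.card (normalizerIn P Q) ≤ Nat.card P := Subgroup.card_le_of_le hQ₁P
      obtain ⟨z₂, hz₂Q₁, hz₂C, hz₂⟩ := ih (Nat.card P - Nat.card (normalizerIn P Q)) (by omega)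
        P (normalizerIn P Q) hPS hQ₁P hQ₁c rfl ψ' hψ' hfix'
      have hz₂CQ : (z₂ : Ω) ∈ Subgroup.centralizer (Q : Set Ω) :=
        Subgroup.centralizer_le hQQ₁ hz₂C
      have hz₂Q : (z₂ : Ω) ∈ Q := hC ⟨hPS z₂.2, hz₂CQ⟩
      refine ⟨z₂ * ⟨z₁, hz₁P⟩, Q.mul_mem hz₂Q hz₁Q, Subgroup.mul_mem _ hz₂CQ hz₁C, fun y => ?_⟩
      have h1 := hz₂ (⟨z₁, hz₁P⟩ * y * ⟨z₁, hz₁P⟩⁻¹)
      rw [hψ'e] at h1
      have h2 : (⟨conjHom P (z₁ : Ω)⁻¹ (⟨z₁, hz₁P⟩ * y * ⟨z₁, hz₁P⟩⁻¹), hcz _⟩ : P) = y := by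
        apply Subtype.ext
        show (z₁ : Ω)⁻¹ * ((z₁ : Ω) * y * (z₁ : Ω)⁻¹) * ((z₁ : Ω)⁻¹)⁻¹ = y
        group
      rw [h2] at h1
      rw [h1]
      show (z₂ : Ω) * ((z₁ : Ω) * y * (z₁ : Ω)⁻¹) * (z₂ : Ω)⁻¹ =
        ((z₂ : Ω) * z₁) * y * ((z₂ : Ω) * z₁)⁻¹
      group

/-- S5095 -/
theorem maps_agreeing_on_centric [Finite S] (p : ℕ) [Fact p.Prime] (hS : IsPGroup p S)
    (F : FusionSystem S) (hF : F.IsSaturated p) (P Q : Subgroup Ω) (hQP : Q ≤ P)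
    (hQ : F.IsCentric Q) (φ φ' : P →* Ω) (hφ : φ ∈ F.Hom P) (hφ' : φ' ∈ F.Hom P)
    (h : ∀ x : P, (x : Ω) ∈ Q → φ x = φ' x) :
    ∃ z : P, (z : Ω) ∈ Q ∧ (z : Ω) ∈ Subgroup.centralizer (Q : Set Ω) ∧
      ∀ y : P, φ' y = φ (z * y * z⁻¹) := by
  obtain ⟨θ, hθ, hθφ, hθr, hφθ⟩ := inv_hom F hφ rfl
  have h1 : ∀ y : φ.range, θ y ∈ P := fun y => hθr.le ⟨y, rfl⟩
  obtain ⟨ψ, hψ, hψe⟩ := comp_hom F hθ hφ' h1
  have hφQ := restrict_mem F hφ hQP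
  have hQ₁c : F.IsCentric (φ.comp (Subgroup.inclusion hQP)).range :=
    centric_of_isConj F hQ ⟨_, hφQ, rfl⟩
  have hQ₁P₁ : (φ.comp (Subgroup.inclusion hQP)).range ≤ φ.range := by
    rintro _ ⟨x, rfl⟩
    exact ⟨_, rfl⟩
  have hfix : ∀ y : φ.range, (y : Ω) ∈ (φ.comp (Subgroup.inclusion hQP)).range → ψ y = y := by
    rintro y ⟨x, hx⟩
    rw [hψe]
    have hx' : φ (Subgroup.inclusion hQP x) = y := hx
    have hy : y = ⟨φ (Subgroup.inclusion hQP x), ⟨_, rfl⟩⟩ := Subtype.ext hx'.symm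
    have h2 : (⟨θ y, h1 y⟩ : P) = Subgroup.inclusion hQP x := by
      apply Subtype.ext
      rw [hy]
      exact hθφ _ _
    rw [h2, ← h _ x.2, hx']
  obtain ⟨z₁, hz₁Q, hz₁C, hz₁⟩ := hom_fix_centric hS F hF _ φ.range _ (range_le F hφ) hQ₁P₁ hQ₁c
    rfl ψ hψ hfix
  obtain ⟨z₀, hz₀⟩ := hz₁Q
  have hz₀' : φ (Subgroup.inclusion hQP z₀) = z₁ := hz₀
  have hform : ∀ y : P, φ' y = φ (Subgroup.inclusion hQP z₀ * y * (Subgroup.inclusion hQP z₀)⁻¹) := by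
    intro y
    have h2 := hz₁ ⟨φ y, ⟨y, rfl⟩⟩
    rw [hψe] at h2
    have h3 : (⟨θ ⟨φ y, ⟨y, rfl⟩⟩, h1 _⟩ : P) = y := Subtype.ext (hθφ y _)
    rw [h3] at h2
    rw [h2, map_mul, map_mul, map_inv, hz₀']
    rfl
  refine ⟨Subgroup.inclusion hQP z₀, z₀.2, ?_, hform⟩
  rw [Subgroup.mem_centralizer_iff]
  intro g hg
  have h2 : φ ⟨g, hQP hg⟩ ∈ (φ.comp (Subgroup.inclusion hQP)).range := ⟨⟨g, hg⟩, rfl⟩
  have h3 := Subgroup.mem_centralizer_iff.mp hz₁C _ h2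
  rw [← hz₀', ← map_mul, ← map_mul] at h3
  have h4 := F.injective_of_mem hφ h3
  exact congrArg Subtype.val h4

end Cfsg.Agent.Lib.Helper9
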