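import Cfsg.Agent.Lib.Helper9.GroupFusionSylow

set_option autoImplicit false

namespace Cfsg.Agent.Lib.Helper9

open Cfsg Cfsg.FusionSystem

variable {G : Type*} [Group G]

/-- Sylow extension lemma. -/
theorem sylow_extension [Finite G] {p : ℕ} [Fact p.Prime] (S : Sylow p G) (P Q : Subgroup G)
    (g : G)
    (hN : (∃ R : Sylow p ↥(Subgroup.normalizer (Q : Set G)),
      (R : Subgroup ↥(Subgroup.normalizer (Q : Set G))) =
        (normalizerIn (S : Subgroup G) Q).subgroupOf (Subgroup.normalizer (Q : Set G)))) :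
    ∃ h ∈ Subgroup.centralizer (Q : Set G),
      ((normalizerIn (S : Subgroup G) P) ⊓
        (normalizerIn (S : Subgroup G) Q ⊔ Subgroup.centralizer (Q : Set G)).comap
          (MulAut.conj g).toMonoidHom).map (MulAut.conj (h * g)).toMonoidHom ≤ S := by
  obtain ⟨R, hR⟩ := hN
  set T := normalizerIn (S : Subgroup G) Q with hT
  set C := Subgroup.centralizer (Q : Set G) with hC
  have hTH : T ≤ Subgroup.normalizer (Q : Set G) := inf_le_right
  have hCH : C ≤ Subgroup.normalizer (Q : Set G) := Subgroup.centralizer_le_normalizer _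
  have hTM : T ≤ T ⊔ C := le_sup_left
  have hMH : T ⊔ C ≤ Subgroup.normalizer (Q : Set G) := sup_le hTH hCH
  obtain ⟨R', hR'⟩ := sylowIn_of_le hTM hMH R hR
  set N := normalizerIn (S : Subgroup G) P ⊓ (T ⊔ C).comap (MulAut.conj g).toMonoidHom with hNdef
  have hUM : N.map (MulAut.conj g).toMonoidHom ≤ T ⊔ C := by
    rintro _ ⟨x, hx, rfl⟩
    exact hx.2
  have hNp : IsPGroup p N := S.isPGroup'.to_le (inf_le_left.trans inf_le_left)
  obtain ⟨m, hm, hmU⟩ := exists_cj_le_of_sylowIn R' hR' hUM (isPGroup_cj g hNp)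
  have hTC : T ≤ Subgroup.normalizer ((C : Subgroup G) : Set G) :=
    hTH.trans (normalizer_le_normalizer_centralizer Q)
  obtain ⟨s, hs, c, hc, rfl⟩ := exists_mul_of_mem_sup hTC hm
  refine ⟨c, hc, ?_⟩
  rintro _ ⟨x, hx, rfl⟩
  have h1 : (MulAut.conj (s * c)).toMonoidHom ((MulAut.conj g).toMonoidHom x) ∈ T :=
    hmU ⟨_, ⟨x, hx, rfl⟩, rfl⟩
  have h2 : s⁻¹ * ((MulAut.conj (s * c)).toMonoidHom ((MulAut.conj g).toMonoidHom x)) * s ∈ T :=
    T.mul_mem (T.mul_mem (T.inv_mem hs) h1) hs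
  have h3 : s⁻¹ * ((MulAut.conj (s * c)).toMonoidHom ((MulAut.conj g).toMonoidHom x)) * s =
      (MulAut.conj (c * g)).toMonoidHom x := by
    show s⁻¹ * ((s * c) * (g * x * g⁻¹) * (s * c)⁻¹) * s = (c * g) * x * (c * g)⁻¹
    group
  rw [h3] at h2
  exact (normalizerIn_le _ _) h2

/-- In `F_S(G)`, a subgroup `Q ≤ S` with `N_S(Q)` Sylow in `N_G(Q)` is receptive. -/
theorem groupFusion_receptive [Finite G] {p : ℕ} [Fact p.Prime] (S : Sylow p G) (Q : Subgroup G)
    (hQ : Q ≤ S)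
    (hN : (∃ R : Sylow p ↥(Subgroup.normalizer (Q : Set G)),
      (R : Subgroup ↥(Subgroup.normalizer (Q : Set G))) =
        (normalizerIn (S : Subgroup G) Q).subgroupOf (Subgroup.normalizer (Q : Set G)))) :
    (groupFusionSystem (S : Subgroup G)).IsReceptive Q := by
  refine ⟨hQ, ?_⟩
  intro P φ hφ hrange
  obtain ⟨g, rfl⟩ := groupFusion_hom_eq_conjHom hφ
  rw [range_conjHom] at hrange
  have hPS : P ≤ S := hom_le _ hφ
  obtain ⟨c, hc, hcN⟩ := sylow_extension S P Q g hN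
  set N := normalizerIn (S : Subgroup G) P ⊓
    (normalizerIn (S : Subgroup G) Q ⊔ Subgroup.centralizer (Q : Set G)).comap
      (MulAut.conj g).toMonoidHom with hNdef
  have hext : extender (S : Subgroup G) P (conjHom P g) ≤ N := by
    rw [extender, Subgroup.closure_le]
    rintro y ⟨hyS, hyN, h, hhS, hh⟩
    refine ⟨⟨hyS, hyN⟩, ?_⟩
    show g * y * g⁻¹ ∈ normalizerIn (S : Subgroup G) Q ⊔ Subgroup.centralizer (Q : Set G)
    -- h⁻¹ * (g y g⁻¹) centralizes Q
    have hcent : h⁻¹ * (g * y * g⁻¹) ∈ Subgroup.centralizer (Q : Set G) := by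
      rw [Subgroup.mem_centralizer_iff]
      intro q hq
      rw [← hrange] at hq
      obtain ⟨x, hx, rfl⟩ := hq
      have hyx : y * x * y⁻¹ ∈ P := conj_mem_of_mem_normalizer hyN hx
      have h1 := hh ⟨x, hx⟩ hyx
      have h2 : g * (y * x * y⁻¹) * g⁻¹ = h * (g * x * g⁻¹) * h⁻¹ := h1
      show g * x * g⁻¹ * (h⁻¹ * (g * y * g⁻¹)) = h⁻¹ * (g * y * g⁻¹) * (g * x * g⁻¹)
      have h3 : h⁻¹ * (g * y * g⁻¹) * (g * x * g⁻¹) = h⁻¹ * (g * (y * x * y⁻¹) * g⁻¹) * (g * y * g⁻¹) := by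
        group
      rw [h3, h2]
      group
    have hgyN : g * y * g⁻¹ ∈ Subgroup.normalizer (Q : Set G) := by
      have h1 : g * y * g⁻¹ ∈ (Subgroup.normalizer (P : Set G)).map (MulAut.conj g).toMonoidHom :=
        cj_mem_cj hyN
      rw [← normalizer_cj, hrange] at h1
      exact h1
    have hhN : h ∈ Subgroup.normalizer (Q : Set G) := by
      have h1 : h = (g * y * g⁻¹) * (h⁻¹ * (g * y * g⁻¹))⁻¹ := by group
      rw [h1]
      exact Subgroup.mul_mem _ hgyN
        (Subgroup.inv_mem _ (Subgroup.centralizer_le_normalizer _ hcent))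
    have h4 : g * y * g⁻¹ = h * (h⁻¹ * (g * y * g⁻¹)) := by group
    rw [h4]
    exact Subgroup.mul_mem _ (Subgroup.mem_sup_left ⟨hhS, hhN⟩) (Subgroup.mem_sup_right hcent)
  have hextS : extender (S : Subgroup G) P (conjHom P g) ≤ S :=
    hext.trans (inf_le_left.trans inf_le_left)
  refine ⟨conjHom _ (c * g), ⟨hextS, ?_, c * g, fun _ => rfl⟩, ?_⟩
  · intro x
    exact hcN ⟨x, hext x.2, rfl⟩
  · intro x hxP hxN
    show c * g * x * (c * g)⁻¹ = g * x * g⁻¹
    have hq : g * x * g⁻¹ ∈ Q := by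
      rw [← hrange]; exact cj_mem_cj hxP
    have := hc _ hq
    calc c * g * x * (c * g)⁻¹ = c * (g * x * g⁻¹) * c⁻¹ := by group
      _ = (g * x * g⁻¹) * c * c⁻¹ := by rw [this]
      _ = g * x * g⁻¹ := by group

theorem groupFusion_fullyAutomized [Finite G] {p : ℕ} [Fact p.Prime] (S : Sylow p G)
    (Q : Subgroup G) (hQ : Q ≤ S)
    (hN : (∃ R : Sylow p ↥(Subgroup.normalizer (Q : Set G)),
      (R : Subgroup ↥(Subgroup.normalizer (Q : Set G))) =
        (normalizerIn (S : Subgroup G) Q).subgroupOf (Subgroup.normalizer (Q : Set G)))) :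
    (groupFusionSystem (S : Subgroup G)).IsFullyAutomized p Q := by
  refine ⟨hQ, ?_⟩
  obtain ⟨R, hR⟩ := hN
  have h1 := sylow_autInducedBy R hR
  have key : ∀ A B : Subgroup (MulAut Q), A = B →
      (∃ R' : Sylow p ↥A, (R' : Subgroup ↥A) = (autInducedBy (S : Subgroup G) Q).subgroupOf A) →
      (∃ R' : Sylow p ↥B, (R' : Subgroup ↥B) = (autInducedBy (S : Subgroup G) Q).subgroupOf B) := by
    rintro A _ rfl h
    exact h
  exact key _ _ (groupFusion_autGroup_eq hQ).symm h1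

/-- The fusion system of a finite group on a Sylow subgroup is saturated. -/
theorem groupFusion_saturated [Finite G] {p : ℕ} [Fact p.Prime] (S : Sylow p G) :
    (groupFusionSystem (S : Subgroup G)).IsSaturated p := by
  intro P hP
  obtain ⟨g, hg, hfn⟩ := exists_cj_fullyNormalized S P hP
  have hN := (groupFusion_fullyNormalized_iff S _ hg).mp hfn
  exact ⟨_, groupFusion_isConj_of_cj hP hg, groupFusion_fullyAutomized S _ hg hN,
    groupFusion_receptive S _ hg hN⟩

end Cfsg.Agent.Lib.Helper9
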