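import Cfsg.Agent.Lib.Helper9.TransportConstrained
import Cfsg.Agent.Lib.Helper9.GroupFusionSat
import Cfsg.Agent.S5102

set_option autoImplicit false

namespace Cfsg.Agent.Lib.Helper9

open Cfsg Cfsg.FusionSystem

variable {Ω : Type*} [Group Ω] {S : Subgroup Ω} {G : Type*} [Group G]

/-- a system realized by `ι` is the isomorphic image of the fusion system of the group on `ι(S)` -/
theorem exists_isFactorSystem_of_isRealizedBy (F : FusionSystem S) (ι : S →* G)
    (hι : F.IsRealizedBy ι) (T : Subgroup G) (hT : T = ι.range) :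
    ∃ θ : T →* Ω, (groupFusionSystem T).IsFactorSystem ⊥ θ F := by
  subst hT
  obtain ⟨hinj, hreal⟩ := hι
  set e : S ≃* ι.range := MonoidHom.ofInjective hinj with hedef
  have he : ∀ s : S, ((e s : ι.range) : G) = ι s := fun s => MonoidHom.ofInjective_apply hinj
  have hes : ∀ y : ι.range, ι (e.symm y) = (y : G) := by
    intro y
    rw [← he, MulEquiv.apply_symm_apply]
  refine ⟨S.subtype.comp e.symm.toMonoidHom, bot_le, ?_, ?_, ?_⟩
  · intro y
    rw [Subgroup.mem_bot]
    constructor
    · intro h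
      have h1 : ((e.symm y : S) : Ω) = 1 := h
      have h2 : e.symm y = 1 := Subtype.ext h1
      have h3 : y = 1 := by
        rw [← e.apply_symm_apply y, h2, map_one]
      rw [h3]
      rfl
    · intro h
      have h3 : y = 1 := Subtype.ext h
      rw [h3, map_one]
  · ext s
    constructor
    · rintro ⟨y, rfl⟩
      exact (e.symm y).2
    · intro hs
      refine ⟨e ⟨s, hs⟩, ?_⟩
      show ((e.symm (e ⟨s, hs⟩) : S) : Ω) = s
      rw [MulEquiv.symm_apply_apply]
  · intro P φ
    have hθ : ∀ y : ι.range, (S.subtype.comp e.symm.toMonoidHom) y = ((e.symm y : S) : Ω) :=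
      fun _ => rfl
    constructor
    · intro hφ
      have hP : P ≤ S := (F.le_of_mem hφ).1
      have hφS : ∀ x : P, φ x ∈ S := (F.le_of_mem hφ).2
      obtain ⟨g, hg⟩ := (hreal P hP φ hφS).mp hφ
      refine ⟨hP, conjHom (preimageAlong (S.subtype.comp e.symm.toMonoidHom) P) g, ?_, ?_⟩
      · refine ⟨preimageAlong_le _ _, fun d => ?_, g, fun _ => rfl⟩
        have hd := map_mem_of_mem_preimageAlong (S.subtype.comp e.symm.toMonoidHom) P d
        rw [hθ] at hd
        have h1 := hg ⟨_, hd⟩
        rw [hes] at h1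
        show g * (d : G) * g⁻¹ ∈ ι.range
        rw [← h1]
        exact ⟨_, rfl⟩
      · have hval : ∀ d : (preimageAlong (S.subtype.comp e.symm.toMonoidHom) P : Subgroup G),
            conjHom (preimageAlong (S.subtype.comp e.symm.toMonoidHom) P) g d ∈ ι.range := by
          intro d
          have hd := map_mem_of_mem_preimageAlong (S.subtype.comp e.symm.toMonoidHom) P d
          rw [hθ] at hd
          have h1 := hg ⟨_, hd⟩
          rw [hes] at h1
          show g * (d : G) * g⁻¹ ∈ ι.range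
          rw [← h1]
          exact ⟨_, rfl⟩
        refine ⟨preimageAlong_le _ _, hval, map_mem_of_mem_preimageAlong _ _, fun d => ?_⟩
        have hd := map_mem_of_mem_preimageAlong (S.subtype.comp e.symm.toMonoidHom) P d
        have h1 := hg ⟨_, hd⟩
        -- `ι (φ (θ d)) = g d g⁻¹`
        have h2 : ι ⟨((⟨_, hd⟩ : P) : Ω), hP hd⟩ = (d : G) :=
          hes ⟨(d : G), preimageAlong_le _ _ d.2⟩
        have h3 : ι ⟨φ ⟨_, hd⟩, hφS _⟩ = g * (d : G) * g⁻¹ := by
          rw [h1, h2]
        have h4 : (⟨φ ⟨_, hd⟩, hφS _⟩ : S) =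
            e.symm ⟨g * (d : G) * g⁻¹, hval d⟩ := by
          apply hinj
          rw [h3, hes]
        exact congrArg Subtype.val h4
    · rintro ⟨hP, ψ, ⟨hD, hψT, g, hg⟩, hDT, hψT', hDP, hind⟩
      have hmemD : ∀ x : P, ι ⟨x, hP x.2⟩ ∈
          preimageAlong (S.subtype.comp e.symm.toMonoidHom) P := by
        intro x
        rw [mem_preimageAlong]
        refine ⟨⟨_, rfl⟩, ?_⟩
        rw [hθ]
        have : e.symm ⟨ι ⟨x, hP x.2⟩, ⟨_, rfl⟩⟩ = ⟨x, hP x.2⟩ := by
          apply hinj
          rw [hes]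
        rw [this]
        exact x.2
      have hxeq : ∀ x : P, (⟨(S.subtype.comp e.symm.toMonoidHom)
          ⟨((⟨_, hmemD x⟩ : (preimageAlong (S.subtype.comp e.symm.toMonoidHom) P : Subgroup G)) : G),
            hDT (hmemD x)⟩, hDP ⟨_, hmemD x⟩⟩ : P) = x := by
        intro x
        apply Subtype.ext
        show ((e.symm ⟨ι ⟨x, hP x.2⟩, _⟩ : S) : Ω) = x
        have : e.symm ⟨ι ⟨x, hP x.2⟩, ⟨_, rfl⟩⟩ = ⟨x, hP x.2⟩ := by
          apply hinj
          rw [hes]
        rw [this]
      have hφS : ∀ x : P, φ x ∈ S := by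
        intro x
        have h1 := hind ⟨_, hmemD x⟩
        rw [hxeq x] at h1
        rw [h1]
        exact (e.symm _).2
      rw [hreal P hP φ hφS]
      refine ⟨g, fun x => ?_⟩
      have h1 := hind ⟨_, hmemD x⟩
      rw [hxeq x] at h1
      have h2 : (⟨φ x, hφS x⟩ : S) = e.symm ⟨ψ ⟨_, hmemD x⟩, hψT' _⟩ := Subtype.ext h1
      rw [h2, hes]
      exact hg _

/-- S5103 -/
theorem constrained_of_model [Finite S] (p : ℕ) [Fact p.Prime]
    (F : FusionSystem S) (ι : S →* G) (hG : F.IsModel p G ι) : F.IsConstrained p := by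
  obtain ⟨hfin, hreal, ⟨T, hT⟩, hcent⟩ := hG
  have hsat := groupFusion_saturated T
  have hn : (pCore p G).Normal := pCore_normal' p G
  have hQ : (groupFusionSystem (T : Subgroup G)).IsNormal (pCore p G) :=
    Cfsg.Agent.S5102.result p T (pCore p G) (pCore_isPGroup' p G)
  have hc : (groupFusionSystem (T : Subgroup G)).IsConstrained p := by
    refine ⟨hsat, pCore p G, hQ, hQ.1, fun Q' hQ' => ?_⟩
    have hEq := eq_of_isConj_of_stronglyClosed _ (stronglyClosed_of_normal _ hQ) hQ'
    rw [hEq]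
    intro x hx
    exact hcent hx.2
  obtain ⟨θ, hθ⟩ := exists_isFactorSystem_of_isRealizedBy F ι hreal (T : Subgroup G) hT
  exact constrained_image p T.isPGroup' _ hc θ F hθ

end Cfsg.Agent.Lib.Helper9
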