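import Mathlib.Algebra.Group.Subgroup.Basic
import Mathlib.Algebra.Group.End
import Mathlib.GroupTheory.QuotientGroup.Basic

set_option autoImplicit false

namespace Cfsg.Agent.Lib.Helper9

variable {A B : Type*} [Group A] [Group B]

/-- the endomorphism of `B` induced along the surjection `π` by an automorphism of `A` preserving
the kernel -/
noncomputable def quotEnd (π : A →* B) (hπ : Function.Surjective π) (β : MulAut A)
    (hβ : ∀ a, π a = 1 → π (β a) = 1) : B →* B :=
  MonoidHom.liftOfRightInverse π (Function.surjInv hπ) (Function.rightInverse_surjInv hπ)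
    ⟨π.comp β.toMonoidHom, fun a ha => by
      rw [MonoidHom.mem_ker] at ha ⊢
      exact hβ a ha⟩

theorem quotEnd_apply (π : A →* B) (hπ : Function.Surjective π) (β : MulAut A)
    (hβ : ∀ a, π a = 1 → π (β a) = 1) (a : A) : quotEnd π hπ β hβ (π a) = π (β a) := by
  unfold quotEnd
  exact MonoidHom.liftOfRightInverse_comp_apply _ _ _ _ a

/-- the automorphism of `B` induced by an automorphism of `A` preserving the kernel of `π` -/
noncomputable def quotAut (π : A →* B) (hπ : Function.Surjective π) (β : MulAut A)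
    (hβ : ∀ a, π a = 1 → π (β a) = 1) (hβ' : ∀ a, π a = 1 → π (β⁻¹ a) = 1) : MulAut B :=
  { toFun := quotEnd π hπ β hβ
    invFun := quotEnd π hπ β⁻¹ hβ'
    left_inv := by
      intro b
      obtain ⟨a, rfl⟩ := hπ b
      rw [quotEnd_apply, quotEnd_apply, MulAut.inv_apply_self]
    right_inv := by
      intro b
      obtain ⟨a, rfl⟩ := hπ b
      rw [quotEnd_apply, quotEnd_apply, MulAut.apply_inv_self]
    map_mul' := map_mul _ }

theorem quotAut_apply (π : A →* B) (hπ : Function.Surjective π) (β : MulAut A)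
    (hβ : ∀ a, π a = 1 → π (β a) = 1) (hβ' : ∀ a, π a = 1 → π (β⁻¹ a) = 1) (a : A) :
    quotAut π hπ β hβ hβ' (π a) = π (β a) :=
  quotEnd_apply π hπ β hβ a

/-- the automorphisms of `B` induced by a group of automorphisms of `A` preserving the kernel of
the surjection `π` -/
noncomputable def autQuotHom (π : A →* B) (hπ : Function.Surjective π) (G : Subgroup (MulAut A))
    (hG : ∀ β ∈ G, ∀ a, π a = 1 → π (β a) = 1) : G →* MulAut B where
  toFun β := quotAut π hπ (β : MulAut A) (hG β β.2) (hG _ (G.inv_mem β.2))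
  map_one' := by
    ext b
    obtain ⟨a, rfl⟩ := hπ b
    rw [quotAut_apply]
    rfl
  map_mul' := by
    intro β γ
    ext b
    obtain ⟨a, rfl⟩ := hπ b
    rw [MulAut.mul_apply, quotAut_apply, quotAut_apply, quotAut_apply]
    rfl

theorem autQuotHom_apply (π : A →* B) (hπ : Function.Surjective π) (G : Subgroup (MulAut A))
    (hG : ∀ β ∈ G, ∀ a, π a = 1 → π (β a) = 1) (β : G) (a : A) :
    autQuotHom π hπ G hG β (π a) = π ((β : MulAut A) a) :=
  quotAut_apply π hπ _ _ _ a

end Cfsg.Agent.Lib.Helper9
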