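import Cfsg.Agent.Lib.Helper9.FactorSys4
import Cfsg.Agent.Lib.Helper9.AutQuot

set_option autoImplicit false

namespace Cfsg.Agent.Lib.Helper9

open Cfsg Cfsg.FusionSystem

variable {Ω : Type*} [Group Ω] {S : Subgroup Ω} {Ω' : Type*} [Group Ω']

theorem finite_of_range_eq [Finite S] (θ : S →* Ω') {S' : Subgroup Ω'} (hrange : θ.range = S') :
    Finite S' := by
  rw [← hrange]
  exact Finite.of_surjective θ.rangeRestrict θ.rangeRestrict_surjective

theorem isPGroup_of_range_eq {p : ℕ} (hS : IsPGroup p S) (θ : S →* Ω') {S' : Subgroup Ω'}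
    (hrange : θ.range = S') : IsPGroup p S' := by
  rw [← hrange]
  exact hS.of_surjective θ.rangeRestrict θ.rangeRestrict_surjective

/-- in a factor system of a saturated system, the top group is fully automized -/
theorem factorSystem_fullyAutomized_top [Finite S] (p : ℕ) [Fact p.Prime] (hS : IsPGroup p S)
    (F : FusionSystem S) (hF : F.IsSaturated p) {S₀ : Subgroup Ω} (hS₀ : F.StronglyClosed S₀)
    {S' : Subgroup Ω'} (θ : S →* Ω') (E : FusionSystem S') (hE : F.IsFactorSystem S₀ θ E) :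
    E.IsFullyAutomized p S' := by
  obtain ⟨hS₀S, hker, hrange, hHom⟩ := hE
  have hθS' : ∀ s : S, θ s ∈ S' := fun s => hrange ▸ ⟨s, rfl⟩
  set π : S →* S' := θ.codRestrict S' hθS' with hπdef
  have hπ : Function.Surjective π := by
    rintro ⟨y, hy⟩
    rw [← hrange] at hy
    obtain ⟨s, rfl⟩ := hy
    exact ⟨s, rfl⟩
  have hG : ∀ β ∈ F.autGroup S, ∀ a, π a = 1 → π (β a) = 1 := by
    intro β hβ a ha
    have h1 : θ a = 1 := congrArg Subtype.val ha
    have h2 : (a : Ω) ∈ S₀ := (hker a).mp h1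
    have h3 : ((β a : S) : Ω) ∈ S₀ :=
      map_mem_of_stronglyClosed F hS₀ (hom_of_mem_autGroup F le_rfl hβ) a h2
    exact Subtype.ext ((hker _).mpr h3)
  set Φ := autQuotHom π hπ (F.autGroup S) hG with hΦdef
  have hΦapp : ∀ (β : F.autGroup S) (s : S), ((Φ β (π s) : S') : Ω') = θ ((β : MulAut S) s) := by
    intro β s
    rw [hΦdef, autQuotHom_apply]
    rfl
  have hSpre : S ≤ preimageAlong θ S' := by
    intro x hx
    exact (mem_preimageAlong θ S' x).mpr ⟨hx, hθS' _⟩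
  have hpreS : preimageAlong θ S' ≤ S := preimageAlong_le θ S'
  -- the induced automorphisms lie in `Aut_E(S')`
  have hA : ∀ β : F.autGroup S, Φ β ∈ E.autGroup S' := by
    intro β
    rw [mem_autGroup_iff E le_rfl, hHom]
    refine ⟨le_rfl, (S.subtype.comp (β : MulAut S).toMonoidHom).comp (Subgroup.inclusion hpreS),
      restrict_mem F (hom_of_mem_autGroup F le_rfl β.2) hpreS, hpreS, fun x => ?_,
      map_mem_of_mem_preimageAlong θ S', fun x => ?_⟩
    · exact ((β : MulAut S) _).2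
    · exact hΦapp β ⟨x, hpreS x.2⟩
  -- every element of `Aut_E(S')` is induced
  have hB : ∀ β' ∈ E.autGroup S', ∃ β : F.autGroup S, Φ β = β' := by
    intro β' hβ'
    have h1 := hom_of_mem_autGroup E le_rfl hβ'
    obtain ⟨-, φ, hφ, hD, hφS, hDP', hind⟩ := (hHom _ _).mp h1
    have hφ₀ := restrict_mem F hφ hSpre
    have hr : (φ.comp (Subgroup.inclusion hSpre)).range = S := by
      apply Subgroup.eq_of_le_of_card_ge (range_le F hφ₀)
      exact (Nat.card_congr (MonoidHom.ofInjective (F.injective_of_mem hφ₀)).toEquiv).le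
    obtain ⟨β, hβ, hβφ⟩ := exists_aut_of_hom F hφ₀ hr
    refine ⟨⟨β, hβ⟩, ?_⟩
    ext y
    obtain ⟨s, rfl⟩ := hπ y
    rw [hΦapp]
    have h2 := hind ⟨s, hSpre s.2⟩
    have h3 : (⟨θ ⟨((⟨s, hSpre s.2⟩ : (preimageAlong θ S' : Subgroup Ω)) : Ω), hD (hSpre s.2)⟩,
        hDP' ⟨s, hSpre s.2⟩⟩ : S') = π s := Subtype.ext rfl
    rw [h3] at h2
    show θ (β s) = ((β' (π s) : S') : Ω')
    have h4 : (S'.subtype.comp β'.toMonoidHom) (π s) = ((β' (π s) : S') : Ω') := rfl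
    rw [← h4, h2]
    congr 1
    exact Subtype.ext (hβφ s)
  set Φ' : F.autGroup S →* E.autGroup S' := Φ.codRestrict _ hA with hΦ'def
  have hΦ' : Function.Surjective Φ' := by
    rintro ⟨β', hβ'⟩
    obtain ⟨β, hβ⟩ := hB β' hβ'
    exact ⟨β, Subtype.ext hβ⟩
  obtain ⟨-, Sy, hSy⟩ := fullyAutomized_of_fullyNormalized hS F hF (fullyNormalized_top F)
  have hfinS : Finite S := inferInstance
  have hfinA : Finite (F.autGroup S) := inferInstance
  refine ⟨le_rfl, Sy.mapSurjective hΦ', ?_⟩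
  rw [Sylow.coe_mapSurjective, hSy]
  ext β'
  rw [Subgroup.mem_map, Subgroup.mem_subgroupOf, mem_autInducedBy_iff]
  constructor
  · rintro ⟨β, hβ, rfl⟩
    rw [Subgroup.mem_subgroupOf, mem_autInducedBy_iff] at hβ
    obtain ⟨g, hg, hgβ⟩ := hβ
    refine ⟨θ ⟨g, hg⟩, hθS' _, fun y => ?_⟩
    obtain ⟨s, rfl⟩ := hπ y
    show ((Φ β (π s) : S') : Ω') = _
    rw [hΦapp]
    show θ ((β : MulAut S) s) = θ ⟨g, hg⟩ * θ s * (θ ⟨g, hg⟩)⁻¹
    rw [← map_inv, ← map_mul, ← map_mul]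
    congr 1
    apply Subtype.ext
    exact hgβ s
  · rintro ⟨g', hg', hg'β⟩
    rw [← hrange] at hg'
    obtain ⟨g, rfl⟩ := hg'
    have hgN : (g : Ω) ∈ Subgroup.normalizer (S : Set Ω) := Subgroup.le_normalizer g.2
    have hc : conjAut S ⟨g, hgN⟩ ∈ autInducedBy S S :=
      (mem_autInducedBy_iff S S _).mpr ⟨g, g.2, fun x => rfl⟩
    have hcA : conjAut S ⟨g, hgN⟩ ∈ F.autGroup S := autInducedBy_le_autGroup F le_rfl hc
    refine ⟨⟨conjAut S ⟨g, hgN⟩, hcA⟩, hc, ?_⟩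
    apply Subtype.ext
    ext y
    obtain ⟨s, rfl⟩ := hπ y
    show ((Φ ⟨conjAut S ⟨g, hgN⟩, hcA⟩ (π s) : S') : Ω') = (((β' : MulAut S') (π s) : S') : Ω')
    rw [hΦapp, hg'β]
    show θ (conjAut S ⟨g, hgN⟩ s) = θ g * θ s * (θ g)⁻¹
    rw [← map_inv, ← map_mul, ← map_mul]
    congr 1

end Cfsg.Agent.Lib.Helper9
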