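import Cfsg.Agent.Lib.Helper9.Solvable5

set_option autoImplicit false

namespace Cfsg.Agent.Lib.Helper9

open Cfsg Cfsg.FusionSystem
open scoped commutatorElement

variable {Ω : Type*} [Group Ω] {S : Subgroup Ω}

/-- an intersection of a nonempty family of strongly closed subgroups is strongly closed -/
theorem stronglyClosed_sInf (F : FusionSystem S) (A : Set (Subgroup Ω))
    (hA : ∀ R ∈ A, F.StronglyClosed R) (hne : A.Nonempty) : F.StronglyClosed (sInf A) := by
  obtain ⟨R₀, hR₀⟩ := hne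
  refine ⟨(sInf_le hR₀).trans (hA R₀ hR₀).1, ?_⟩
  intro R hR φ hφ x
  rw [Subgroup.mem_sInf]
  intro R' hR'
  exact (hA R' hR').2 R (hR.trans (sInf_le hR')) φ hφ x

/-- the smallest strongly closed subgroup containing `X` -/
def scClosure (F : FusionSystem S) (X : Subgroup Ω) : Subgroup Ω :=
  sInf {R | F.StronglyClosed R ∧ X ≤ R}

theorem scClosure_stronglyClosed (F : FusionSystem S) {X : Subgroup Ω} (hX : X ≤ S) :
    F.StronglyClosed (scClosure F X) :=
  stronglyClosed_sInf F _ (fun _ hR => hR.1) ⟨S, stronglyClosed_top F, hX⟩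

theorem le_scClosure (F : FusionSystem S) (X : Subgroup Ω) : X ≤ scClosure F X :=
  le_sInf fun _ hR => hR.2

theorem scClosure_le (F : FusionSystem S) {X R : Subgroup Ω} (hR : F.StronglyClosed R)
    (hXR : X ≤ R) : scClosure F X ≤ R :=
  sInf_le ⟨hR, hXR⟩

/-- the strongly closed derived series -/
def dser (F : FusionSystem S) : ℕ → Subgroup Ω
  | 0 => S
  | (i + 1) => scClosure F ⁅dser F i, dser F i⁆

theorem dser_le (F : FusionSystem S) (i : ℕ) : dser F i ≤ S := by
  induction i with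
  | zero => exact le_rfl
  | succ i ih =>
    show scClosure F ⁅dser F i, dser F i⁆ ≤ S
    apply scClosure_le F (stronglyClosed_top F)
    exact (Subgroup.commutator_mono ih ih).trans (Subgroup.commutator_le_self S) |>.trans le_rfl

theorem dser_stronglyClosed (F : FusionSystem S) (i : ℕ) : F.StronglyClosed (dser F i) := by
  cases i with
  | zero => exact stronglyClosed_top F
  | succ i =>
    apply scClosure_stronglyClosed
    exact (Subgroup.commutator_mono (dser_le F i) (dser_le F i)).trans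
      (Subgroup.commutator_le_self S)

theorem commutator_dser_le (F : FusionSystem S) (i : ℕ) :
    ⁅dser F i, dser F i⁆ ≤ dser F (i + 1) :=
  le_scClosure F _

theorem dser_le_chain (F : FusionSystem S) (n : ℕ) (c : ℕ → Subgroup Ω) (hcn : c n = S)
    (hcsc : ∀ j, F.StronglyClosed (c j)) (hccomm : ∀ j < n, ⁅c (j + 1), c (j + 1)⁆ ≤ c j) :
    ∀ i ≤ n, dser F i ≤ c (n - i) := by
  intro i
  induction i with
  | zero =>
    intro _
    rw [Nat.sub_zero, hcn]
    exact le_rfl
  | succ i ih =>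
    intro hi
    have ih' := ih (by omega)
    apply scClosure_le F (hcsc _)
    have h1 : n - i = (n - (i + 1)) + 1 := by omega
    rw [h1] at ih'
    exact (Subgroup.commutator_mono ih' ih').trans (hccomm _ (by omega))

/-- image of `X` under an automorphism of `T` -/
def mapAut {T : Subgroup Ω} (α : MulAut T) (X : Subgroup Ω) : Subgroup Ω :=
  (X.subgroupOf T).map (T.subtype.comp α.toMonoidHom)

theorem mem_mapAut {T : Subgroup Ω} (α : MulAut T) (X : Subgroup Ω) (y : Ω) :
    y ∈ mapAut α X ↔ ∃ t : T, (t : Ω) ∈ X ∧ ((α t : T) : Ω) = y := by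
  constructor
  · rintro ⟨t, ht, rfl⟩
    exact ⟨t, ht, rfl⟩
  · rintro ⟨t, ht, rfl⟩
    exact ⟨t, ht, rfl⟩

/-- an `F`-automorphism of `T` carries `E`-strongly closed subgroups to such, for `E` invariant -/
theorem stronglyClosed_mapAut {T : Subgroup Ω} (E : FusionSystem T) (F : FusionSystem S)
    (hinv : E.IsInvariantIn F) {X : Subgroup Ω} (hX : E.StronglyClosed X) {α : MulAut T}
    (hα : α ∈ F.autGroup T) : E.StronglyClosed (mapAut α X) := by
  refine ⟨?_, ?_⟩
  · intro y hy
    obtain ⟨t, -, rfl⟩ := (mem_mapAut α X y).mp hy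
    exact (α t).2
  · intro R hR φ hφ x
    have hRT : R ≤ T := (E.le_of_mem hφ).1
    obtain ⟨χ, hχ, hχeq⟩ := hinv.2.2.1 R hRT φ hφ α⁻¹ (inv_mem hα)
    have hφxT : φ x ∈ T := (E.le_of_mem hφ).2 x
    have hαx : ((α⁻¹ ⟨x, hRT x.2⟩ : T) : Ω) ∈
        (R.subgroupOf T).map (T.subtype.comp (α⁻¹).toMonoidHom) := ⟨⟨x, hRT x.2⟩, x.2, rfl⟩
    have h1 := hχeq x hφxT hαx
    have hle : (R.subgroupOf T).map (T.subtype.comp (α⁻¹).toMonoidHom) ≤ X := by
      rintro _ ⟨r, hr, rfl⟩
      obtain ⟨t, ht, hte⟩ := (mem_mapAut α X _).mp (hR hr)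
      have h2 : α t = r := Subtype.ext hte
      show ((α⁻¹ r : T) : Ω) ∈ X
      rw [← h2]
      simpa using ht
    have h2 := hX.2 _ hle χ hχ ⟨_, hαx⟩
    rw [h1] at h2
    rw [mem_mapAut]
    exact ⟨α⁻¹ ⟨φ x, hφxT⟩, h2, by simp⟩

/-- the strongly closed derived series of an invariant subsystem is invariant under `Aut_F(T)` -/
theorem dser_inv {T : Subgroup Ω} (E : FusionSystem T) (F : FusionSystem S)
    (hinv : E.IsInvariantIn F) (i : ℕ) :
    ∀ α ∈ F.autGroup T, ∀ y : T, (y : Ω) ∈ dser E i → ((α y : T) : Ω) ∈ dser E i := by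
  induction i with
  | zero =>
    intro α _ y _
    exact (α y).2
  | succ i ih =>
    intro α hα y hy
    have hZ : E.StronglyClosed (mapAut α⁻¹ (dser E (i + 1))) :=
      stronglyClosed_mapAut E F hinv (dser_stronglyClosed E (i + 1)) (inv_mem hα)
    have hle : ⁅dser E i, dser E i⁆ ≤ mapAut α⁻¹ (dser E (i + 1)) := by
      rw [Subgroup.commutator_le]
      intro a ha b hb
      have haT : a ∈ T := dser_le E i ha
      have hbT : b ∈ T := dser_le E i hb
      rw [mem_mapAut]
      refine ⟨α ⟨⁅a, b⁆, ?_⟩, ?_, by simp⟩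
      · rw [commutatorElement_def]
        exact T.mul_mem (T.mul_mem (T.mul_mem haT hbT) (T.inv_mem haT)) (T.inv_mem hbT)
      · have h1 : (⟨⁅a, b⁆, by
            rw [commutatorElement_def]
            exact T.mul_mem (T.mul_mem (T.mul_mem haT hbT) (T.inv_mem haT)) (T.inv_mem hbT)⟩ : T)
            = ⁅(⟨a, haT⟩ : T), ⟨b, hbT⟩⁆ := by
          apply Subtype.ext
          simp [commutatorElement_def]
        rw [h1, map_commutatorElement]
        apply commutator_dser_le E i
        have h2 : ((⁅α ⟨a, haT⟩, α ⟨b, hbT⟩⁆ : T) : Ω) =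
            ⁅((α ⟨a, haT⟩ : T) : Ω), ((α ⟨b, hbT⟩ : T) : Ω)⁆ := by
          simp [commutatorElement_def]
        rw [h2]
        exact Subgroup.commutator_mem_commutator (ih α hα ⟨a, haT⟩ ha) (ih α hα ⟨b, hbT⟩ hb)
    have h3 : dser E (i + 1) ≤ mapAut α⁻¹ (dser E (i + 1)) := scClosure_le E hZ hle
    obtain ⟨t, ht, hte⟩ := (mem_mapAut α⁻¹ _ _).mp (h3 hy)
    have h4 : α⁻¹ t = y := Subtype.ext hte
    rw [← h4]
    simpa using ht

/-- `E`-strongly closed and `Aut_F(T)`-invariant implies `F`-strongly closed -/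
theorem stronglyClosed_of_inv {T : Subgroup Ω} (E : FusionSystem T) (F : FusionSystem S)
    (hinv : E.IsInvariantIn F) {Y : Subgroup Ω} (hY : E.StronglyClosed Y)
    (hYinv : ∀ α ∈ F.autGroup T, ∀ y : T, (y : Ω) ∈ Y → ((α y : T) : Ω) ∈ Y) :
    F.StronglyClosed Y := by
  refine ⟨hY.1.trans hinv.2.1.1, ?_⟩
  intro R hR φ hφ x
  obtain ⟨α, hα, φ₀, hφ₀, h⟩ := hinv.2.2.2 R (hR.trans hY.1) φ hφ
  have h0 : φ₀ x ∈ T := (E.le_of_mem hφ₀).2 x
  rw [h x h0]
  exact hYinv α hα _ (hY.2 R hR φ₀ hφ₀ x)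

/-- concatenating two chains -/
theorem solvable_of_two_chains [Finite S] (p : ℕ) [Fact p.Prime] (hS : IsPGroup p S)
    (F : FusionSystem S) (hF : F.IsSaturated p) (n m : ℕ) (a b : ℕ → Subgroup Ω)
    (ha0 : a 0 = ⊥) (hab : a n = b 0) (hbm : b m = S)
    (hasc : ∀ j ≤ n, F.StronglyClosed (a j)) (hbsc : ∀ j ≤ m, F.StronglyClosed (b j))
    (hacomm : ∀ j < n, ⁅a (j + 1), a (j + 1)⁆ ≤ a j)
    (hbcomm : ∀ j < m, ⁅b (j + 1), b (j + 1)⁆ ≤ b j) : F.IsSolvableSystem := by
  refine solvable_of_nat_chain p hS F hF (n + m) (fun j => if j ≤ n then a j else b (j - n))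
    ?_ ?_ ?_ ?_
  · show (if 0 ≤ n then a 0 else b (0 - n)) = ⊥
    rw [if_pos (Nat.zero_le n), ha0]
  · show (if n + m ≤ n then a (n + m) else b (n + m - n)) = S
    by_cases hm : m = 0
    · subst hm
      rw [if_pos (by omega), Nat.add_zero, hab]
      exact hbm
    · rw [if_neg (by omega), Nat.add_sub_cancel_left, hbm]
  · intro j hj
    show F.StronglyClosed (if j ≤ n then a j else b (j - n))
    by_cases hjn : j ≤ n
    · rw [if_pos hjn]
      exact hasc j hjn
    · rw [if_neg hjn]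
      exact hbsc _ (by omega)
  · intro j hj
    show ⁅(if j + 1 ≤ n then a (j + 1) else b (j + 1 - n)),
      (if j + 1 ≤ n then a (j + 1) else b (j + 1 - n))⁆ ≤ (if j ≤ n then a j else b (j - n))
    by_cases hjn : j + 1 ≤ n
    · rw [if_pos hjn, if_pos (by omega)]
      exact hacomm j (by omega)
    · rw [if_neg hjn]
      have h1 : j + 1 - n = (j - n) + 1 := by omega
      rw [h1]
      by_cases hjn' : j ≤ n
      · have h2 : j = n := by omega
        rw [if_pos hjn', h2, Nat.sub_self, hab]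
        exact hbcomm 0 (by omega)
      · rw [if_neg hjn']
        exact hbcomm _ (by omega)

/-- S5159, backward direction -/
theorem solvable_of_normal_and_factor [Finite S] (p : ℕ) [Fact p.Prime] (hS : IsPGroup p S)
    (F : FusionSystem S) (hF : F.IsSaturated p) {T : Subgroup Ω} (E : FusionSystem T)
    (hEsat : E.IsSaturated p) (hinv : E.IsInvariantIn F)
    {Ω' : Type*} [Group Ω'] {S' : Subgroup Ω'} (θ : S →* Ω') (D : FusionSystem S')
    (hD : F.IsFactorSystem T θ D) (hEs : E.IsSolvableSystem) (hDs : D.IsSolvableSystem) :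
    F.IsSolvableSystem := by
  have hT : F.StronglyClosed T := hinv.2.1
  have hTfin : Finite T := finite_of_le hT.1
  have hTp : IsPGroup p T := isPGroup_of_le hS hT.1
  obtain ⟨n, c, hc0, hcn, hcsc, -, hccomm⟩ :=
    exists_chain_of_solvable p hTp E hEsat hEs _ ⊥ (stronglyClosed_bot E) le_rfl
  have hDsat := factorSystem_saturated p hS F hF hT θ D hD
  have hD' := hD
  obtain ⟨hTS, hker, hrange, hHom⟩ := hD'
  have : Finite S' := finite_of_range_eq θ hrange
  have hS'p : IsPGroup p S' := isPGroup_of_range_eq hS θ hrange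
  obtain ⟨m, d, hd0, hdm, hdsc, -, hdcomm⟩ :=
    exists_chain_of_solvable p hS'p D hDsat hDs _ ⊥ (stronglyClosed_bot D) le_rfl
  have hdn : dser E n = ⊥ := by
    have := dser_le_chain E n c hcn hcsc hccomm n le_rfl
    rw [Nat.sub_self, hc0] at this
    exact le_bot_iff.mp this
  refine solvable_of_two_chains p hS F hF n m (fun j => dser E (n - j))
    (fun j => preimageAlong θ (d j)) ?_ ?_ ?_ ?_ ?_ ?_ ?_
  · show dser E (n - 0) = ⊥
    rw [Nat.sub_zero, hdn]
  · show dser E (n - n) = preimageAlong θ (d 0)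
    rw [Nat.sub_self, hd0]
    show T = preimageAlong θ ⊥
    ext x
    rw [mem_preimageAlong]
    constructor
    · intro hx
      exact ⟨hTS hx, by rw [Subgroup.mem_bot]; exact (hker ⟨x, hTS hx⟩).mpr hx⟩
    · rintro ⟨hxS, hx⟩
      exact (hker ⟨x, hxS⟩).mp (by rwa [Subgroup.mem_bot] at hx)
  · show preimageAlong θ (d m) = S
    rw [hdm]
    apply le_antisymm (preimageAlong_le θ S')
    intro x hx
    rw [mem_preimageAlong]
    exact ⟨hx, hrange ▸ ⟨⟨x, hx⟩, rfl⟩⟩
  · intro j _
    exact stronglyClosed_of_inv E F hinv (dser_stronglyClosed E _) (dser_inv E F hinv _)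
  · intro j _
    exact preimageAlong_stronglyClosed p hS F hF hT θ D hD (hdsc j)
  · intro j hj
    show ⁅dser E (n - (j + 1)), dser E (n - (j + 1))⁆ ≤ dser E (n - j)
    have h1 : n - j = (n - (j + 1)) + 1 := by omega
    rw [h1]
    exact commutator_dser_le E _
  · intro j hj
    show ⁅preimageAlong θ (d (j + 1)), preimageAlong θ (d (j + 1))⁆ ≤ preimageAlong θ (d j)
    rw [Subgroup.commutator_le]
    intro a ha b hb
    obtain ⟨haS, ha'⟩ := (mem_preimageAlong θ _ a).mp ha
    obtain ⟨hbS, hb'⟩ := (mem_preimageAlong θ _ b).mp hb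
    rw [mem_preimageAlong]
    have hab : ⁅a, b⁆ ∈ S := by
      rw [commutatorElement_def]
      exact S.mul_mem (S.mul_mem (S.mul_mem haS hbS) (S.inv_mem haS)) (S.inv_mem hbS)
    refine ⟨hab, ?_⟩
    have h1 : (⟨⁅a, b⁆, hab⟩ : S) = ⁅(⟨a, haS⟩ : S), ⟨b, hbS⟩⁆ := by
      apply Subtype.ext
      simp [commutatorElement_def]
    rw [h1, map_commutatorElement]
    exact hdcomm j hj (Subgroup.commutator_mem_commutator ha' hb')

end Cfsg.Agent.Lib.Helper9
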