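import Cfsg.Agent.Lib.Helper9.NormalCrit
import Cfsg.Agent.Lib.Helper9.FusionCentralizer

set_option autoImplicit false

namespace Cfsg.Agent.Lib.Helper9

open Cfsg Cfsg.FusionSystem

variable {Ω : Type*} [Group Ω] {S : Subgroup Ω}

/-- S5084 -/
theorem central_iff_singleton_classes [Finite S] (p : ℕ) [Fact p.Prime] (hS : IsPGroup p S)
    (F : FusionSystem S) (hF : F.IsSaturated p) (Q : Subgroup Ω) :
    F.IsCentral Q ↔ (Q ≤ S ∧ ∀ x ∈ Q, ∀ y : Ω, F.IsConjElt x y → y = x) := by
  constructor
  · intro hQ
    refine ⟨hQ.1, ?_⟩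
    rintro x hx y ⟨φ, hφ, hφx⟩
    obtain ⟨ψ, hψ, hψφ, hψQ⟩ := hQ.2 _ φ hφ
    have h1 := hψφ ⟨x, Subgroup.mem_zpowers x⟩
    have h2 := hψQ ⟨x, hx⟩
    have h3 : (Subgroup.inclusion le_sup_left (⟨x, Subgroup.mem_zpowers x⟩ : Subgroup.zpowers x) :
        (Subgroup.zpowers x ⊔ Q : Subgroup Ω)) = Subgroup.inclusion le_sup_right ⟨x, hx⟩ :=
      Subtype.ext rfl
    rw [← hφx, ← h1, h3, h2]
  · rintro ⟨hQS, hfix⟩
    have hcomm : ∀ g ∈ S, ∀ x ∈ Q, g * x * g⁻¹ = x := by
      intro g hg x hx
      apply hfix x hx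
      have hle : Subgroup.zpowers x ≤ S := by
        rw [Subgroup.zpowers_le]
        exact hQS hx
      exact ⟨conjHom _ g, F.conj_mem hle hg, rfl⟩
    have hSC : S ≤ Subgroup.centralizer (Q : Set Ω) := by
      intro g hg
      rw [Subgroup.mem_centralizer_iff]
      intro x hx
      have := hcomm g hg x hx
      calc x * g = (g * x * g⁻¹) * g := by rw [this]
        _ = g * x := by group
    have hCS : centralizerIn S Q = S := inf_eq_left.mpr hSC
    have hle : F ≤ castSystem hCS (centralizerSystem F Q hQS) := by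
      apply alperin p hS F hF
      intro P hP
      have hPS : P ≤ S := by
        rcases hP with rfl | hP
        · exact le_rfl
        · exact hP.1.1
      have hQP : Q ≤ P := by
        rcases hP with rfl | hP
        · exact hQS
        · have hC : centralizerIn S P ≤ P := hP.1.2 P (isConj_refl F hPS)
          intro x hx
          apply hC
          refine ⟨hQS hx, ?_⟩
          show x ∈ Subgroup.centralizer (P : Set Ω)
          rw [Subgroup.mem_centralizer_iff]
          intro y hy
          have := hcomm y (hPS hy) x hx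
          calc y * x = (y * x * y⁻¹) * y := by group
            _ = x * y := by rw [this]
      intro α hα
      rw [mem_autGroup_iff _ hPS, castSystem_hom]
      have hφ := hom_of_mem_autGroup F hPS hα
      have hsup : P ⊔ Q ≤ P := sup_le le_rfl hQP
      refine ⟨hφ, hCS.ge.trans' hPS, fun x => hCS.ge (hom_mem F hφ x),
        (P.subtype.comp α.toMonoidHom).comp (Subgroup.inclusion hsup),
        restrict_mem F hφ hsup, fun x => rfl, ?_⟩
      intro x
      show ((α ⟨x, hQP x.2⟩ : P) : Ω) = x
      apply hfix x x.2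
      have hzle : Subgroup.zpowers (x : Ω) ≤ P := by
        rw [Subgroup.zpowers_le]
        exact hQP x.2
      exact ⟨_, restrict_mem F hφ hzle, rfl⟩
    refine ⟨hQS, fun P φ hφ => ?_⟩
    have h1 := hle P hφ
    rw [castSystem_hom] at h1
    exact h1.2.2.2

end Cfsg.Agent.Lib.Helper9
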