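import Cfsg.Agent.Lib.Helper9.NormalSeries4

set_option autoImplicit false

namespace Cfsg.Agent.Lib.Helper9

open Cfsg Cfsg.FusionSystem
open scoped commutatorElement

variable {Ω : Type*} [Group Ω] {S : Subgroup Ω}

theorem eq_of_isConj_of_stronglyClosed [Finite S] (F : FusionSystem S) {Q Q' : Subgroup Ω}
    (hQ : F.StronglyClosed Q) (h : F.IsConj Q Q') : Q' = Q := by
  have hcard := card_eq_of_isConj F h
  obtain ⟨φ, hφ, hr⟩ := h
  have hle : Q' ≤ Q := by
    rw [← hr]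
    rintro _ ⟨x, rfl⟩
    exact hQ.2 Q le_rfl φ hφ x
  have hfin : Finite Q := finite_of_le hQ.1
  exact Subgroup.eq_of_le_of_card_ge hle hcard.le

theorem fullyNormalized_of_stronglyClosed [Finite S] (F : FusionSystem S) {Q : Subgroup Ω}
    (hQ : F.StronglyClosed Q) : F.IsFullyNormalized Q := by
  refine ⟨hQ.1, fun Q' h => ?_⟩
  rw [eq_of_isConj_of_stronglyClosed F hQ h]

theorem autGroup_le_autInducedBy_of_isPGroup [Finite S] {p : ℕ} [Fact p.Prime] (hS : IsPGroup p S)
    (F : FusionSystem S) (hF : F.IsSaturated p) {P : Subgroup Ω} (hPn : F.IsFullyNormalized P)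
    (hA : IsPGroup p (F.autGroup P)) : F.autGroup P ≤ autInducedBy S P := by
  obtain ⟨-, R, hR⟩ := fullyAutomized_of_fullyNormalized hS F hF hPn
  have hfinP : Finite P := finite_of_le hPn.1
  have hRtop : (R : Subgroup (F.autGroup P)) = ⊤ :=
    (R.is_maximal' (hA.to_subgroup ⊤) le_top).symm
  intro α hα
  have h1 : (⟨α, hα⟩ : F.autGroup P) ∈ (R : Subgroup (F.autGroup P)) := by
    rw [hRtop]
    trivial
  rw [hR] at h1
  exact Subgroup.mem_subgroupOf.mp h1

/-- S5125 -/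
theorem normal_of_abelian_over_normal [Finite S] (p : ℕ) [Fact p.Prime] (hS : IsPGroup p S)
    (F : FusionSystem S) (hF : F.IsSaturated p) (Q Q₁ : Subgroup Ω) (hQ : F.StronglyClosed Q)
    (_hQ₁Q : Q₁ ≤ Q) (hQ₁ : F.IsNormal Q₁) (hab : ⁅Q, Q⁆ ≤ Q₁)
    (hAut : IsPGroup p ↥(F.autGroup Q₁)) : F.IsNormal Q := by
  have hQ₁sc := stronglyClosed_of_normal F hQ₁
  have hQ₁S := hQ₁.1
  have hAS := autGroup_le_autInducedBy_of_isPGroup hS F hF
    (fullyNormalized_of_stronglyClosed F hQ₁sc) hAut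
  -- maps between subgroups of `Q₁` are conjugations by elements of `S`
  have hconj : ∀ (P : Subgroup Ω), P ≤ Q₁ → ∀ φ ∈ F.Hom P, ∃ g ∈ S, ∀ x : P, φ x = g * x * g⁻¹ := by
    intro P hP φ hφ
    obtain ⟨α, hα, hαφ⟩ := exists_aut_of_normal F hQ₁ hP hφ
    obtain ⟨g, hg, hgα⟩ := (mem_autInducedBy_iff S Q₁ α).mp (hAS hα)
    refine ⟨g, hg, fun x => ?_⟩
    rw [← hαφ x, hgα]
    rfl
  have hscU : ∀ U : Subgroup Ω, U ≤ Q₁ → (∀ g ∈ S, ∀ x ∈ U, g * x * g⁻¹ ∈ U) →
      F.StronglyClosed U := by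
    intro U hU hUn
    refine ⟨hU.trans hQ₁S, fun R hR φ hφ x => ?_⟩
    obtain ⟨g, hg, hgφ⟩ := hconj R (hR.trans hU) φ hφ
    rw [hgφ]
    exact hUn g hg x (hR x.2)
  have hnil : Group.IsNilpotent S := hS.isNilpotent
  obtain ⟨m, hm⟩ := hnil.nilpotent'
  have hZn : ∀ j : ℕ, ∀ g ∈ S, ∀ x ∈ (Subgroup.upperCentralSeries S j).map S.subtype,
      g * x * g⁻¹ ∈ (Subgroup.upperCentralSeries S j).map S.subtype := by
    rintro j g hg _ ⟨b, hb, rfl⟩
    have hnorm : (Subgroup.upperCentralSeries S j).Normal := inferInstance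
    exact ⟨⟨g, hg⟩ * b * ⟨g, hg⟩⁻¹, hnorm.conj_mem b hb ⟨g, hg⟩, rfl⟩
  have hZsc : ∀ j : ℕ, F.StronglyClosed ((Subgroup.upperCentralSeries S j).map S.subtype ⊓ Q₁) := by
    intro j
    apply hscU _ inf_le_right
    intro g hg x hx
    exact ⟨hZn j g hg x hx.1, conj_mem_of_stronglyClosed F hQ₁sc hg hx.2⟩
  apply normal_of_series p hS F hF Q
    (fun j => if j ≤ m then (Subgroup.upperCentralSeries S j).map S.subtype ⊓ Q₁
      else if j = m + 1 then Q else S) (m + 1)
  · show (if 0 ≤ m then (Subgroup.upperCentralSeries S 0).map S.subtype ⊓ Q₁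
      else if 0 = m + 1 then Q else S) = ⊥
    rw [if_pos (Nat.zero_le m), Subgroup.upperCentralSeries_zero, Subgroup.map_bot, bot_inf_eq]
  · show (if m + 1 ≤ m then (Subgroup.upperCentralSeries S (m + 1)).map S.subtype ⊓ Q₁
      else if m + 1 = m + 1 then Q else S) = Q
    rw [if_neg (by omega), if_pos rfl]
  · intro j
    show F.StronglyClosed (if j ≤ m then (Subgroup.upperCentralSeries S j).map S.subtype ⊓ Q₁
      else if j = m + 1 then Q else S)
    by_cases h1 : j ≤ m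
    · rw [if_pos h1]
      exact hZsc j
    · rw [if_neg h1]
      by_cases h2 : j = m + 1
      · rw [if_pos h2]
        exact hQ
      · rw [if_neg h2]
        exact stronglyClosed_top F
  · intro j hj
    show ⁅Q, (if j + 1 ≤ m then (Subgroup.upperCentralSeries S (j + 1)).map S.subtype ⊓ Q₁
      else if j + 1 = m + 1 then Q else S)⁆ ≤
      (if j ≤ m then (Subgroup.upperCentralSeries S j).map S.subtype ⊓ Q₁
      else if j = m + 1 then Q else S)
    rw [if_pos (by omega : j ≤ m)]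
    by_cases h1 : j + 1 ≤ m
    · rw [if_pos h1, Subgroup.commutator_le]
      rintro a ha b ⟨⟨b', hb', rfl⟩, hbQ₁⟩
      have haS : a ∈ S := hQ.1 ha
      refine ⟨?_, ?_⟩
      · have h2 := Subgroup.mem_upperCentralSeries_succ_iff.mp hb' ⟨a, haS⟩
        have h3 : ⁅(⟨a, haS⟩ : S), b'⁆ ∈ Subgroup.upperCentralSeries S j := by
          rw [← commutatorElement_inv]
          exact Subgroup.inv_mem _ h2
        exact ⟨_, h3, rfl⟩
      · rw [commutatorElement_def]
        exact Q₁.mul_mem (conj_mem_of_stronglyClosed F hQ₁sc haS hbQ₁) (Q₁.inv_mem hbQ₁)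
    · have hjm : j = m := by omega
      rw [if_neg h1, if_pos (by omega : j + 1 = m + 1), hjm, hm, ← MonoidHom.range_eq_map,
        Subgroup.range_subtype, inf_eq_right.mpr hQ₁S]
      exact hab
  · intro j hj
    show (if j ≤ m then (Subgroup.upperCentralSeries S j).map S.subtype ⊓ Q₁
      else if j = m + 1 then Q else S) = S
    rw [if_neg (by omega), if_neg (by omega)]

end Cfsg.Agent.Lib.Helper9
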