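import Cfsg.Agent.Lib.Helper9.Quasisimple1
import Cfsg.Agent.Lib.Helper9.NormalSeries5
import Cfsg.Agent.Lib.Helper9.NormalSeries4
import Cfsg.Agent.Lib.Helper9.CentralCrit

set_option autoImplicit false

namespace Cfsg.Agent.Lib.Helper9

open Cfsg Cfsg.FusionSystem

variable {Ω : Type*} [Group Ω] {S : Subgroup Ω}

/-- `P`-local version: if `Aut_F(P)` acts trivially on the central subgroup `Z` and modulo `Z`,
it is a `p`-group -/
theorem autGroup_isPGroup_of_trivial_mod_central' [Finite S] {p : ℕ} [Fact p.Prime]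
    (hS : IsPGroup p S) (F : FusionSystem S) {Z : Subgroup Ω} (hZ : F.IsCentral Z)
    {P : Subgroup Ω} (hP : P ≤ S)
    (hmod : ∀ (φ : P →* Ω), φ ∈ F.Hom P → ∀ x : P, (x : Ω)⁻¹ * φ x ∈ Z) :
    IsPGroup p (F.autGroup P) := by
  have hfinP : Finite P := finite_of_le hP
  have hPp : IsPGroup p P := isPGroup_of_le hS hP
  have hfix : ∀ α ∈ F.autGroup P, ∀ x : P, (x : Ω) ∈ Z → α x = x := by
    intro α hα x hx
    apply Subtype.ext
    exact map_eq_of_isCentral F hZ (hom_of_mem_autGroup F hP hα) x hx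
  have hinv : ∀ α ∈ F.autGroup P, ∀ j, ∀ x ∈ centerChain Z P j, α x ∈ centerChain Z P j := by
    intro α hα j x hx
    unfold centerChain at hx ⊢
    split_ifs with h0 h1
    · rw [if_pos h0, Subgroup.mem_bot] at hx
      rw [hx, map_one]
      exact Subgroup.one_mem _
    · rw [if_neg h0, if_pos h1] at hx
      rw [hfix α hα x hx]
      exact hx
    · trivial
  have hstab : ∀ α ∈ F.autGroup P, ∀ j, ∀ x ∈ centerChain Z P (j + 1),
      x⁻¹ * α x ∈ centerChain Z P j := by
    intro α hα j x hx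
    unfold centerChain at hx ⊢
    split_ifs with h0 h1
    · subst h0
      rw [if_neg (by norm_num), if_pos (by norm_num)] at hx
      rw [hfix α hα x hx, inv_mul_cancel]
      exact Subgroup.one_mem _
    · exact hmod _ (hom_of_mem_autGroup F hP hα) x
    · trivial
  have h0 : centerChain Z P 0 = ⊥ := by unfold centerChain; rw [if_pos rfl]
  have h2 : centerChain Z P 2 = ⊤ := by
    unfold centerChain
    rw [if_neg (by norm_num), if_neg (by norm_num)]
  have h1 := stabChain_isPGroup hPp (F.autGroup P) (centerChain Z P) hinv h0 2 h2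
  have h3 : stabChain (F.autGroup P) (centerChain Z P) hinv = F.autGroup P := by
    apply le_antisymm (stabChain_le _ _ _)
    intro α hα
    exact ⟨hα, hstab α hα⟩
  rw [h3] at h1
  exact h1

/-- the centralizer in `S` of a subgroup normal in the system is strongly closed -/
theorem centralizerIn_stronglyClosed_of_normal (F : FusionSystem S) {X : Subgroup Ω}
    (hX : F.IsNormal X) : F.StronglyClosed (centralizerIn S X) := by
  refine ⟨inf_le_left, fun R hR φ hφ u => ?_⟩
  obtain ⟨ψ, hψ, hψφ, hψX⟩ := hX.2 R φ hφ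
  refine ⟨hom_mem F hφ u, ?_⟩
  show φ u ∈ Subgroup.centralizer (X : Set Ω)
  rw [Subgroup.mem_centralizer_iff]
  intro y hy
  rw [← hψX] at hy
  obtain ⟨w, hw, rfl⟩ := hy
  rw [← hψφ u, ← map_mul, ← map_mul]
  congr 1
  apply Subtype.ext
  exact (hR u.2).2 w hw

/-- the conjugation relation between an automorphism of `P` and the automorphism it induces on a
subgroup `X` normal in the system -/
theorem exists_aut_conj_relation [Finite S] (F : FusionSystem S) {X : Subgroup Ω}
    (hX : F.IsNormal X) {P : Subgroup Ω} (hP : P ≤ S)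
    {α : MulAut P} (hα : α ∈ F.autGroup P) :
    ∃ a ∈ F.autGroup X, ∀ (u : P) (x : X) (hx : (u : Ω) * x * (u : Ω)⁻¹ ∈ X),
      ((α u : P) : Ω) * (a x : X) * ((α u : P) : Ω)⁻¹ = ((a ⟨(u : Ω) * x * (u : Ω)⁻¹, hx⟩ : X) : Ω) := by
  obtain ⟨ψ, hψ, hψφ, hψX⟩ := hX.2 P _ (hom_of_mem_autGroup F hP hα)
  have hle : X ≤ P ⊔ X := le_sup_right
  have hψ' := restrict_mem F hψ hle
  have hrange : (ψ.comp (Subgroup.inclusion hle)).range = X :=
    (range_comp_inclusion hle ψ).trans hψX
  obtain ⟨a, ha, haψ⟩ := exists_aut_of_hom F hψ' hrange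
  refine ⟨a, ha, fun u x hx => ?_⟩
  rw [haψ, haψ]
  have h1 := hψφ u
  have h2 : ((α u : P) : Ω) = ψ (Subgroup.inclusion le_sup_left u) := h1.symm
  rw [h2]
  show ψ (Subgroup.inclusion le_sup_left u) * ψ (Subgroup.inclusion hle x) *
    (ψ (Subgroup.inclusion le_sup_left u))⁻¹ = ψ (Subgroup.inclusion hle ⟨_, hx⟩)
  rw [← map_inv, ← map_mul, ← map_mul]
  congr 1

end Cfsg.Agent.Lib.Helper9
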