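import Cfsg.Agent.Lib.Helper9.NormalSeries
import Cfsg.Agent.S5085

set_option autoImplicit false

namespace Cfsg.Agent.Lib.Helper9

open Cfsg Cfsg.FusionSystem
open scoped commutatorElement

variable {Ω : Type*} [Group Ω] {S : Subgroup Ω}

/-- the `Fin`-indexed version of `normal_of_series` -/
theorem normal_of_fin_series [Finite S] (p : ℕ) [Fact p.Prime] (hS : IsPGroup p S)
    (F : FusionSystem S) (hF : F.IsSaturated p) (Q : Subgroup Ω) (n : ℕ)
    (Qs : Fin (n + 1) → Subgroup Ω) (h0 : Qs 0 = ⊥) (hn : Qs (Fin.last n) = Q)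
    (h : ∀ i : Fin n, F.StronglyClosed (Qs i.succ) ∧ ⁅Q, Qs i.succ⁆ ≤ Qs (Fin.castSucc i)) :
    F.IsNormal Q := by
  apply normal_of_series p hS F hF Q
    (fun j => if h : j ≤ n then Qs ⟨j, Nat.lt_succ_of_le h⟩ else S) n
  · show (if h : 0 ≤ n then Qs ⟨0, Nat.lt_succ_of_le h⟩ else S) = ⊥
    rw [dif_pos (Nat.zero_le n)]
    exact h0
  · show (if h : n ≤ n then Qs ⟨n, Nat.lt_succ_of_le h⟩ else S) = Q
    rw [dif_pos le_rfl]
    exact hn
  · intro j
    show F.StronglyClosed (if h : j ≤ n then Qs ⟨j, Nat.lt_succ_of_le h⟩ else S)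
    by_cases hj : j ≤ n
    · rw [dif_pos hj]
      rcases j with _ | i
      · have : Qs ⟨0, Nat.lt_succ_of_le hj⟩ = ⊥ := h0
        rw [this]
        exact stronglyClosed_bot F
      · exact (h ⟨i, hj⟩).1
    · rw [dif_neg hj]
      exact stronglyClosed_top F
  · intro j hj
    show ⁅Q, (if h : j + 1 ≤ n then Qs ⟨j + 1, Nat.lt_succ_of_le h⟩ else S)⁆ ≤
      (if h : j ≤ n then Qs ⟨j, Nat.lt_succ_of_le h⟩ else S)
    rw [dif_pos hj.le, dif_pos (Nat.succ_le_of_lt hj)]
    exact (h ⟨j, hj⟩).2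
  · intro j hj
    show (if h : j ≤ n then Qs ⟨j, Nat.lt_succ_of_le h⟩ else S) = S
    rw [dif_neg (not_le_of_gt hj)]

theorem upperCentralSeries_map_normal (F : FusionSystem S) {Q : Subgroup Ω} (hQ : F.IsNormal Q)
    (j : ℕ) : F.IsNormal ((Subgroup.upperCentralSeries Q j).map Q.subtype) := by
  apply Cfsg.Agent.S5085.result F Q _ hQ (Subgroup.map_subtype_le _)
  have : ((Subgroup.upperCentralSeries Q j).map Q.subtype).subgroupOf Q =
      Subgroup.upperCentralSeries Q j :=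
    Subgroup.comap_map_eq_self_of_injective (Subgroup.subtype_injective _) _
  rw [this]
  infer_instance

theorem commutator_upperCentralSeries_map_le (Q : Subgroup Ω) (j : ℕ) :
    ⁅Q, (Subgroup.upperCentralSeries Q (j + 1)).map Q.subtype⁆ ≤
      (Subgroup.upperCentralSeries Q j).map Q.subtype := by
  rw [Subgroup.commutator_le]
  rintro a ha _ ⟨b, hb, rfl⟩
  have h1 := Subgroup.mem_upperCentralSeries_succ_iff.mp hb ⟨a, ha⟩
  have h2 : ⁅(⟨a, ha⟩ : Q), b⁆ ∈ Subgroup.upperCentralSeries Q j := by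
    rw [← commutatorElement_inv]
    exact Subgroup.inv_mem _ h1
  exact ⟨_, h2, rfl⟩

/-- S5088 -/
theorem normal_iff_series [Finite S] (p : ℕ) [Fact p.Prime] (hS : IsPGroup p S)
    (F : FusionSystem S) (hF : F.IsSaturated p) (Q : Subgroup Ω) :
    F.IsNormal Q ↔ ∃ (n : ℕ) (Qs : Fin (n + 1) → Subgroup Ω), Qs 0 = ⊥ ∧ Qs (Fin.last n) = Q ∧
      Monotone Qs ∧ ∀ i : Fin n, F.StronglyClosed (Qs i.succ) ∧
        ⁅Q, Qs i.succ⁆ ≤ Qs (Fin.castSucc i) := by
  constructor
  · intro hQ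
    have hfinQ : Finite Q := finite_of_le hQ.1
    have hnil : Group.IsNilpotent Q := (isPGroup_of_le hS hQ.1).isNilpotent
    obtain ⟨n, hn⟩ := hnil.nilpotent'
    refine ⟨n, fun i => (Subgroup.upperCentralSeries Q (i : ℕ)).map Q.subtype, ?_, ?_, ?_, ?_⟩
    · show (Subgroup.upperCentralSeries Q ((0 : Fin (n + 1)) : ℕ)).map Q.subtype = ⊥
      rw [Fin.val_zero, Subgroup.upperCentralSeries_zero, Subgroup.map_bot]
    · show (Subgroup.upperCentralSeries Q ((Fin.last n : Fin (n + 1)) : ℕ)).map Q.subtype = Q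
      rw [Fin.val_last, hn, ← MonoidHom.range_eq_map, Subgroup.range_subtype]
    · intro i j hij
      exact Subgroup.map_mono (Subgroup.upperCentralSeries_mono Q hij)
    · intro i
      exact ⟨stronglyClosed_of_normal F (upperCentralSeries_map_normal F hQ _),
        commutator_upperCentralSeries_map_le Q i⟩
  · rintro ⟨n, Qs, h0, hn, -, h⟩
    exact normal_of_fin_series p hS F hF Q n Qs h0 hn h

end Cfsg.Agent.Lib.Helper9
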