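import Cfsg.Agent.Lib.Helper9.Solvable3
import Cfsg.Agent.Lib.Helper9.NormalSeries2
import Cfsg.Agent.Lib.Helper9.Grun1

set_option autoImplicit false

namespace Cfsg.Agent.Lib.Helper9

open Cfsg Cfsg.FusionSystem
open scoped commutatorElement

variable {Ω : Type*} [Group Ω] {S : Subgroup Ω}

theorem stronglyClosed_inf (F : FusionSystem S) {T₁ T₂ : Subgroup Ω} (h₁ : F.StronglyClosed T₁)
    (h₂ : F.StronglyClosed T₂) : F.StronglyClosed (T₁ ⊓ T₂) :=
  ⟨inf_le_left.trans h₁.1, fun R hR φ hφ x =>
    ⟨h₁.2 R (hR.trans inf_le_left) φ hφ x, h₂.2 R (hR.trans inf_le_right) φ hφ x⟩⟩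

theorem commutator_mul_left (a b c : Ω) : ⁅a * b, c⁆ = a * ⁅b, c⁆ * a⁻¹ * ⁅a, c⁆ := by
  simp only [commutatorElement_def]; group

theorem commutator_mul_right (a b c : Ω) : ⁅a, b * c⁆ = ⁅a, b⁆ * b * ⁅a, c⁆ * b⁻¹ := by
  simp only [commutatorElement_def]; group

/-- if `W` is strongly closed, centralizes the normal subgroup `Q` and is abelian modulo `Q`, then
`W Q` is normal in the system -/
theorem normal_sup_of_centralizing [Finite S] (p : ℕ) [Fact p.Prime] (hS : IsPGroup p S)
    (F : FusionSystem S) (hF : F.IsSaturated p) {Q W : Subgroup Ω} (hQ : F.IsNormal Q)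
    (hW : F.StronglyClosed W) (hWD : W ≤ centralizerIn S Q) (hWW : ⁅W, W⁆ ≤ Q) :
    F.IsNormal (W ⊔ Q) := by
  have hQsc := stronglyClosed_of_normal F hQ
  have hVsc := stronglyClosed_sup hS F hF hW hQsc
  have hfinQ : Finite Q := finite_of_le hQ.1
  have hnil : Group.IsNilpotent Q := (isPGroup_of_le hS hQ.1).isNilpotent
  obtain ⟨m, hm⟩ := hnil.nilpotent'
  have hZm : (Subgroup.upperCentralSeries Q m).map Q.subtype = Q := by
    rw [hm, ← MonoidHom.range_eq_map, Subgroup.range_subtype]
  have hcomm : ∀ w ∈ W, ∀ q ∈ Q, ⁅w, q⁆ = 1 := by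
    intro w hw q hq
    rw [commutatorElement_eq_one_iff_mul_comm]
    exact ((hWD hw).2 q hq).symm
  have hZQ : ∀ j, (Subgroup.upperCentralSeries Q j).map Q.subtype ≤ Q :=
    fun j => Subgroup.map_subtype_le _
  apply normal_of_series p hS F hF (W ⊔ Q)
    (fun k => if k ≤ m then (Subgroup.upperCentralSeries Q k).map Q.subtype
      else if k = m + 1 then W ⊔ Q else S) (m + 1)
  · show (if 0 ≤ m then (Subgroup.upperCentralSeries Q 0).map Q.subtype
      else if 0 = m + 1 then W ⊔ Q else S) = ⊥
    rw [if_pos (Nat.zero_le m), Subgroup.upperCentralSeries_zero, Subgroup.map_bot]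
  · show (if m + 1 ≤ m then (Subgroup.upperCentralSeries Q (m + 1)).map Q.subtype
      else if m + 1 = m + 1 then W ⊔ Q else S) = W ⊔ Q
    rw [if_neg (by omega), if_pos rfl]
  · intro j
    show F.StronglyClosed (if j ≤ m then (Subgroup.upperCentralSeries Q j).map Q.subtype
      else if j = m + 1 then W ⊔ Q else S)
    split_ifs
    · exact stronglyClosed_of_normal F (upperCentralSeries_map_normal F hQ j)
    · exact hVsc
    · exact stronglyClosed_top F
  · intro j hj
    show ⁅W ⊔ Q, (if j + 1 ≤ m then (Subgroup.upperCentralSeries Q (j + 1)).map Q.subtype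
      else if j + 1 = m + 1 then W ⊔ Q else S)⁆ ≤
      (if j ≤ m then (Subgroup.upperCentralSeries Q j).map Q.subtype
        else if j = m + 1 then W ⊔ Q else S)
    rw [if_pos (by omega : j ≤ m)]
    by_cases hjm : j + 1 ≤ m
    · rw [if_pos hjm, Subgroup.commutator_le]
      intro v hv z hz
      obtain ⟨w, hw, q, hq, rfl⟩ := exists_mul_of_mem_sup_stronglyClosed F hQsc hW.1 hv
      have hzQ : z ∈ Q := hZQ _ hz
      rw [commutator_mul_left, hcomm w hw z hzQ, mul_one]
      have h1 : ⁅q, z⁆ ∈ (Subgroup.upperCentralSeries Q j).map Q.subtype :=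
        commutator_upperCentralSeries_map_le Q j (Subgroup.commutator_mem_commutator hq hz)
      have h2 : ⁅w, ⁅q, z⁆⁆ = 1 := hcomm w hw _ (hZQ _ h1)
      rw [commutatorElement_def] at h2
      have h3 : w * ⁅q, z⁆ * w⁻¹ = ⁅q, z⁆ := by
        calc w * ⁅q, z⁆ * w⁻¹ = (w * ⁅q, z⁆ * w⁻¹ * ⁅q, z⁆⁻¹) * ⁅q, z⁆ := by group
          _ = ⁅q, z⁆ := by rw [h2, one_mul]
      rw [h3]
      exact h1
    · have hjm' : j = m := by omega
      rw [if_neg hjm, if_pos (by omega : j + 1 = m + 1), hjm', hZm, Subgroup.commutator_le]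
      intro v hv v' hv'
      obtain ⟨w, hw, q, hq, rfl⟩ := exists_mul_of_mem_sup_stronglyClosed F hQsc hW.1 hv
      obtain ⟨w', hw', q', hq', rfl⟩ := exists_mul_of_mem_sup_stronglyClosed F hQsc hW.1 hv'
      have hwS : w ∈ S := hW.1 hw
      have hw'S : w' ∈ S := hW.1 hw'
      have hv'S : w' * q' ∈ S := S.mul_mem hw'S (hQ.1 hq')
      rw [commutator_mul_left]
      apply Q.mul_mem
      · apply conj_mem_of_stronglyClosed F hQsc hwS
        rw [commutatorElement_def]
        have h1 : (w' * q') * q⁻¹ * (w' * q')⁻¹ ∈ Q :=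
          conj_mem_of_stronglyClosed F hQsc hv'S (Q.inv_mem hq)
        have h2 : q * (w' * q') * q⁻¹ * (w' * q')⁻¹ = q * ((w' * q') * q⁻¹ * (w' * q')⁻¹) := by
          group
        rw [h2]
        exact Q.mul_mem hq h1
      · rw [commutator_mul_right, hcomm w hw q' hq', mul_one, mul_inv_cancel_right]
        exact hWW (Subgroup.commutator_mem_commutator hw hw')
  · intro j hj
    show (if j ≤ m then (Subgroup.upperCentralSeries Q j).map Q.subtype
      else if j = m + 1 then W ⊔ Q else S) = S
    rw [if_neg (by omega), if_neg (by omega)]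

/-- S5158: a solvable saturated fusion system is constrained -/
theorem constrained_of_solvable [Finite S] (p : ℕ) [Fact p.Prime] (hS : IsPGroup p S)
    (F : FusionSystem S) (hF : F.IsSaturated p) (h : F.IsSolvableSystem) :
    F.IsConstrained p := by
  have hQ : F.IsNormal F.core := Cfsg.Agent.S5145.result F
  have hQsc := stronglyClosed_of_normal F hQ
  have hDsc := centralizerIn_stronglyClosed_of_normal F hQ
  obtain ⟨n, c, hc0, hcn, hcsc, hcmono, hccomm⟩ :=
    exists_chain_of_solvable p hS F hF h _ ⊥ (stronglyClosed_bot F) le_rfl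
  have hW : ∀ j ≤ n, c j ⊓ centralizerIn S F.core ≤ F.core := by
    intro j
    induction j with
    | zero =>
      intro _
      rw [hc0]
      exact inf_le_left.trans bot_le
    | succ j ih =>
      intro hj
      have ih' := ih (by omega)
      have hWsc := stronglyClosed_inf F (hcsc (j + 1)) hDsc
      have hWW : ⁅c (j + 1) ⊓ centralizerIn S F.core, c (j + 1) ⊓ centralizerIn S F.core⁆ ≤
          F.core := by
        refine le_trans ?_ ih'
        apply le_inf
        · exact (Subgroup.commutator_mono inf_le_left inf_le_left).trans (hccomm j (by omega))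
        · rw [Subgroup.commutator_le]
          intro a ha b hb
          rw [commutatorElement_def]
          exact Subgroup.mul_mem _ (Subgroup.mul_mem _ (Subgroup.mul_mem _ ha.2 hb.2)
            (Subgroup.inv_mem _ ha.2)) (Subgroup.inv_mem _ hb.2)
      have hVn := normal_sup_of_centralizing p hS F hF hQ hWsc inf_le_right hWW
      have hle : c (j + 1) ⊓ centralizerIn S F.core ⊔ F.core ≤ F.core := le_sSup hVn
      exact le_sup_left.trans hle
  have hD : centralizerIn S F.core ≤ F.core := by
    have h1 := hW n le_rfl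
    rw [hcn] at h1
    intro x hx
    exact h1 ⟨hx.1, hx⟩
  refine ⟨hF, F.core, hQ, hQ.1, fun Q' hQ' => ?_⟩
  have hEq := eq_of_isConj_of_stronglyClosed F hQsc hQ'
  rw [hEq]
  exact hD

end Cfsg.Agent.Lib.Helper9
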