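import Cfsg.Agent.Lib.Helper9.NormalSeries2
import Cfsg.Agent.S5145

set_option autoImplicit false

namespace Cfsg.Agent.Lib.Helper9

open Cfsg Cfsg.FusionSystem
open scoped commutatorElement

variable {Ω : Type*} [Group Ω] {S : Subgroup Ω}

/-- an abelian strongly closed subgroup is normal in a saturated system -/
theorem normal_of_abelian_stronglyClosed [Finite S] (p : ℕ) [Fact p.Prime] (hS : IsPGroup p S)
    (F : FusionSystem S) (hF : F.IsSaturated p) (Q : Subgroup Ω) (hab : ⁅Q, Q⁆ ≤ ⊥)
    (hQ : F.StronglyClosed Q) : F.IsNormal Q := by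
  apply normal_of_series p hS F hF Q (fun j => if j = 0 then ⊥ else if j = 1 then Q else S) 1
  · simp
  · simp
  · intro j
    show F.StronglyClosed (if j = 0 then ⊥ else if j = 1 then Q else S)
    by_cases h0 : j = 0
    · rw [if_pos h0]
      exact stronglyClosed_bot F
    · rw [if_neg h0]
      by_cases h1 : j = 1
      · rw [if_pos h1]
        exact hQ
      · rw [if_neg h1]
        exact stronglyClosed_top F
  · intro j hj
    have : j = 0 := by omega
    subst this
    simpa using hab
  · intro j hj
    show (if j = 0 then ⊥ else if j = 1 then Q else S) = S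
    rw [if_neg (by omega), if_neg (by omega)]

theorem commutator_le_bot_of_comm (Q : Subgroup Ω) [IsMulCommutative Q] : ⁅Q, Q⁆ ≤ ⊥ := by
  rw [Subgroup.commutator_le]
  intro a ha b hb
  rw [Subgroup.mem_bot, commutatorElement_eq_one_iff_mul_comm]
  exact setLike_mul_comm ha hb

/-- S5089 -/
theorem core_ne_bot_iff [Finite S] (p : ℕ) [Fact p.Prime] (hS : IsPGroup p S)
    (F : FusionSystem S) (hF : F.IsSaturated p) :
    F.core ≠ ⊥ ↔ ∃ Q : Subgroup Ω, Q ≠ ⊥ ∧ IsMulCommutative Q ∧ F.StronglyClosed Q := by
  constructor
  · intro hne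
    have hcore : F.IsNormal F.core := Cfsg.Agent.S5145.result F
    have hfin : Finite F.core := finite_of_le hcore.1
    have hp : IsPGroup p F.core := isPGroup_of_le hS hcore.1
    have hnt : Nontrivial F.core := (Subgroup.nontrivial_iff_ne_bot _).mpr hne
    have hZ : Nontrivial (Subgroup.center F.core) := hp.center_nontrivial
    refine ⟨(Subgroup.center F.core).map F.core.subtype, ?_, inferInstance, ?_⟩
    · rw [Ne, Subgroup.map_eq_bot_iff_of_injective _ (Subgroup.subtype_injective _)]
      exact (Subgroup.nontrivial_iff_ne_bot _).mp hZ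
    · apply stronglyClosed_of_normal
      apply Cfsg.Agent.S5085.result F F.core _ hcore (Subgroup.map_subtype_le _)
      have : ((Subgroup.center F.core).map F.core.subtype).subgroupOf F.core =
          Subgroup.center F.core :=
        Subgroup.comap_map_eq_self_of_injective (Subgroup.subtype_injective _) _
      rw [this]
      infer_instance
  · rintro ⟨Q, hne, hcomm, hsc⟩ hcore
    apply hne
    have hQn := normal_of_abelian_stronglyClosed p hS F hF Q (commutator_le_bot_of_comm Q) hsc
    have hle : Q ≤ F.core := le_sSup hQn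
    rw [hcore] at hle
    exact le_bot_iff.mp hle

end Cfsg.Agent.Lib.Helper9
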