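import Mathlib
import Cfsg.Prelude.Def_CaseTheorems

set_option autoImplicit false
set_option linter.unusedSectionVars false
set_option linter.unusedVariables false
set_option linter.unusedSimpArgs false
set_option linter.style.haveILetI false
set_option linter.style.longLine false
set_option maxHeartbeats 1000000

/-! # S3103 piece E5: an exponent-2 quotient of a group of sectional 2-rank ≤ 4 has order ≤ 16 -/

namespace Cfsg.Agent.Lib.Helper9.A8Emb

theorem card_quot_le {Q : Type*} [Group Q] [Finite Q] (h4 : Cfsg.SectionalPRankLE 2 4 Q)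
    (N : Subgroup Q) [N.Normal] (h2 : ∀ x : Q ⧸ N, x ^ 2 = 1) : Nat.card (Q ⧸ N) ≤ 16 := by
  classical
  let e : ↥(⊤ : Subgroup Q) ≃* Q := Subgroup.topEquiv
  have he : (N.subgroupOf ⊤).map (e : ↥(⊤ : Subgroup Q) →* Q) = N := by
    ext x
    constructor
    · rintro ⟨z, hz, rfl⟩
      rw [SetLike.mem_coe, Subgroup.mem_subgroupOf] at hz
      exact hz
    · intro hx
      refine ⟨⟨x, Subgroup.mem_top x⟩, ?_, rfl⟩
      rw [SetLike.mem_coe, Subgroup.mem_subgroupOf]
      exact hx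
  let E : (↥(⊤ : Subgroup Q) ⧸ N.subgroupOf ⊤) ≃* (Q ⧸ N) :=
    QuotientGroup.congr (N.subgroupOf ⊤) N e he
  have hexp : ∀ y : ↥(⊤ : Subgroup Q) ⧸ N.subgroupOf ⊤, y ^ 2 = 1 := by
    intro y
    apply E.injective
    rw [map_pow, map_one]
    exact h2 (E y)
  have hcomm : ∀ a b : ↥(⊤ : Subgroup Q) ⧸ N.subgroupOf ⊤, a * b = b * a := by
    intro a b
    have h1 := hexp (a * b)
    have ha := hexp a
    have hb := hexp b
    have hainv : a⁻¹ = a := by
      rw [inv_eq_iff_mul_eq_one, ← pow_two]; exact ha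
    have hbinv : b⁻¹ = b := by
      rw [inv_eq_iff_mul_eq_one, ← pow_two]; exact hb
    have h3 : (a * b)⁻¹ = a * b := by
      rw [inv_eq_iff_mul_eq_one, ← pow_two]; exact h1
    rw [mul_inv_rev, hainv, hbinv] at h3
    exact h3.symm
  have hA : IsMulCommutative ↥(⊤ : Subgroup (↥(⊤ : Subgroup Q) ⧸ N.subgroupOf ⊤)) :=
    ⟨⟨fun a b => Subtype.ext (hcomm a.1 b.1)⟩⟩
  have hle := h4 ⊤ (N.subgroupOf ⊤) ⊤ hA (fun a _ => hexp a)
  rw [Subgroup.card_top] at hle
  rw [← Nat.card_congr E.toEquiv]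
  calc Nat.card (↥(⊤ : Subgroup Q) ⧸ N.subgroupOf ⊤) ≤ 2 ^ 4 := hle
    _ = 16 := by norm_num

end Cfsg.Agent.Lib.Helper9.A8Emb
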