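import Mathlib

set_option autoImplicit false
set_option linter.unusedSectionVars false
set_option linter.unusedVariables false
set_option linter.unusedSimpArgs false
set_option linter.style.haveILetI false
set_option linter.style.longLine false
set_option maxHeartbeats 1000000

/-! # S3103 piece F0: the conjugation action on a quotient `Q / D` of normal subgroups -/

namespace Cfsg.Agent.Lib.Helper9.A8Emb

theorem exists_conjQuot {X : Type*} [Group X] (Q D : Subgroup X) [hQn : Q.Normal] [D.Normal] (hDQ : D ≤ Q) :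
    ∃ φ : X →* MulAut (↥Q ⧸ D.subgroupOf Q), ∀ (g : X) (a : ↥Q),
      φ g ((a : ↥Q) : ↥Q ⧸ D.subgroupOf Q) =
        (((⟨g * (a : X) * g⁻¹, hQn.conj_mem a a.2 g⟩ : ↥Q)) : ↥Q ⧸ D.subgroupOf Q) := by
  classical
  have hmap : ∀ g : X, (D.subgroupOf Q).map ((MulAut.conjNormal g : MulAut ↥Q) : ↥Q →* ↥Q) =
      D.subgroupOf Q := by
    intro g
    ext y
    constructor
    · rintro ⟨z, hz, rfl⟩
      rw [SetLike.mem_coe, Subgroup.mem_subgroupOf] at hz
      rw [Subgroup.mem_subgroupOf]
      show ((MulAut.conjNormal g z : ↥Q) : X) ∈ D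
      rw [MulAut.conjNormal_apply]
      exact ‹D.Normal›.conj_mem _ hz g
    · intro hy
      refine ⟨(MulAut.conjNormal g : MulAut ↥Q).symm y, ?_, ?_⟩
      · rw [Subgroup.mem_subgroupOf] at hy
        rw [SetLike.mem_coe, Subgroup.mem_subgroupOf]
        rw [MulAut.conjNormal_symm_apply]
        have := ‹D.Normal›.conj_mem _ hy g⁻¹
        rwa [inv_inv] at this
      · exact (MulAut.conjNormal g : MulAut ↥Q).apply_symm_apply y
  let f : X → MulAut (↥Q ⧸ D.subgroupOf Q) := fun g =>
    QuotientGroup.congr (D.subgroupOf Q) (D.subgroupOf Q) (MulAut.conjNormal g : MulAut ↥Q) (hmap g)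
  have hf : ∀ (g : X) (a : ↥Q), f g ((a : ↥Q) : ↥Q ⧸ D.subgroupOf Q) =
      (((⟨g * (a : X) * g⁻¹, hQn.conj_mem a a.2 g⟩ : ↥Q)) : ↥Q ⧸ D.subgroupOf Q) := by
    intro g a
    show QuotientGroup.congr (D.subgroupOf Q) (D.subgroupOf Q) (MulAut.conjNormal g : MulAut ↥Q)
      (hmap g) (QuotientGroup.mk a) = _
    rw [QuotientGroup.congr_mk]
    congr 1
  refine ⟨MonoidHom.mk' f ?_, ?_⟩
  · intro g h
    apply MulEquiv.ext
    intro y
    induction y using QuotientGroup.induction_on with
    | H a =>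
      rw [MulAut.mul_apply, hf, hf, hf]
      congr 1
      apply Subtype.ext
      show g * h * (a : X) * (g * h)⁻¹ = g * (h * (a : X) * h⁻¹) * g⁻¹
      group
  · intro g a
    rw [MonoidHom.mk'_apply]
    exact hf g a

end Cfsg.Agent.Lib.Helper9.A8Emb
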