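import Mathlib

set_option autoImplicit false
set_option linter.unusedSectionVars false
set_option linter.unusedVariables false
set_option linter.unusedSimpArgs false
set_option linter.style.haveILetI false
set_option linter.style.longLine false
set_option maxHeartbeats 1000000

/-! # S3103 piece F1: squares are non-generators in a finite 2-group -/

namespace Cfsg.Agent.Lib.Helper9.A8Emb

theorem eq_of_mul_sq_eq {X : Type*} [Group X] [Finite X] (Q C : Subgroup X) (hQ : IsPGroup 2 Q)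
    (hC : C ≤ Q)
    (h : ∀ a ∈ Q, ∃ c ∈ C, ∃ d ∈ Subgroup.closure {y : X | ∃ b ∈ Q, y = b ^ 2}, a = c * d) :
    C = Q := by
  classical
  haveI : Fact (Nat.Prime 2) := ⟨Nat.prime_two⟩
  by_contra hne
  have hlt : C < Q := lt_of_le_of_ne hC hne
  -- work inside ↥Q
  obtain ⟨m, hm⟩ := hQ.exists_card_eq
  have hC2 : IsPGroup 2 (C.subgroupOf Q) := hQ.to_subgroup _
  obtain ⟨n, hn⟩ := hC2.exists_card_eq
  have hCcard : Nat.card (C.subgroupOf Q) = Nat.card C :=
    Nat.card_congr (Subgroup.subgroupOfEquivOfLe hC).toEquiv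
  have hlt' : Nat.card C < Nat.card Q := Set.ncard_lt_ncard hlt (Set.toFinite _)
  have hnm : n < m := by
    rw [← hCcard, hn, hm] at hlt'
    exact (Nat.pow_lt_pow_iff_right (by norm_num)).mp hlt'
  have hdvd : 2 ^ (m - 1) ∣ Nat.card ↥Q := by
    rw [hm]; exact pow_dvd_pow 2 (by omega)
  obtain ⟨K, hKcard, hCK⟩ := Sylow.exists_subgroup_card_pow_prime_le 2 hdvd (C.subgroupOf Q) hn
    (by omega)
  have hKidx : K.index = 2 := by
    have h1 := K.card_mul_index
    rw [hKcard, hm] at h1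
    have h2 : (2 : ℕ) ^ m = 2 ^ (m - 1) * 2 := by
      rw [← pow_succ]; congr 1; omega
    rw [h2] at h1
    exact Nat.eq_of_mul_eq_mul_left (by positivity) h1
  -- all squares lie in K
  have hsq : ∀ b : ↥Q, b ^ 2 ∈ K := fun b => Subgroup.sq_mem_of_index_two hKidx b
  set K' : Subgroup X := K.map Q.subtype with hK'
  have hD : Subgroup.closure {y : X | ∃ b ∈ Q, y = b ^ 2} ≤ K' := by
    rw [Subgroup.closure_le]
    rintro y ⟨b, hb, rfl⟩
    exact ⟨(⟨b, hb⟩ : ↥Q) ^ 2, hsq ⟨b, hb⟩, by simp⟩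
  have hCK' : C ≤ K' := by
    intro c hc
    refine ⟨⟨c, hC hc⟩, hCK ?_, rfl⟩
    rw [Subgroup.mem_subgroupOf]; exact hc
  have hQK : Q ≤ K' := by
    intro a ha
    obtain ⟨c, hc, d, hd, rfl⟩ := h a ha
    exact K'.mul_mem (hCK' hc) (hD hd)
  have hK'card : Nat.card K' = 2 ^ (m - 1) := by
    rw [hK', Subgroup.card_map_of_injective Q.subtype_injective, hKcard]
  have hle : Nat.card Q ≤ Nat.card K' := Subgroup.card_le_of_le hQK
  rw [hm, hK'card] at hle
  have : (2 : ℕ) ^ (m - 1) < 2 ^ m := Nat.pow_lt_pow_right (by norm_num) (by omega)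
  omega

end Cfsg.Agent.Lib.Helper9.A8Emb
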