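import Mathlib

set_option autoImplicit false
set_option linter.unusedSectionVars false
set_option linter.unusedVariables false
set_option linter.unusedSimpArgs false
set_option linter.style.haveILetI false
set_option linter.style.longLine false
set_option maxHeartbeats 1000000

/-! # S3103 piece F2: coprime action, a fixed point in every coset of `D = ⟨squares of Q⟩` -/

namespace Cfsg.Agent.Lib.Helper9.A8Emb

theorem exists_fixed_in_coset {X : Type*} [Group X] [Finite X] (Q : Subgroup X) (hQ : IsPGroup 2 Q)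
    {x : X} {r : ℕ} (hr : r.Prime) (hr2 : r ≠ 2) (hx : orderOf x = r)
    (hxQ : ∀ a ∈ Q, x * a * x⁻¹ ∈ Q)
    (hg : ∀ a ∈ Q, ∃ d ∈ Subgroup.closure {y : X | ∃ b ∈ Q, y = b ^ 2}, x * a * x⁻¹ = a * d) :
    ∀ a ∈ Q, ∃ c ∈ Q, x * c * x⁻¹ = c ∧
      ∃ d ∈ Subgroup.closure {y : X | ∃ b ∈ Q, y = b ^ 2}, a = c * d := by
  classical
  set D : Subgroup X := Subgroup.closure {y : X | ∃ b ∈ Q, y = b ^ 2} with hD
  have hDQ : D ≤ Q := by
    rw [hD, Subgroup.closure_le]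
    rintro y ⟨b, hb, rfl⟩
    exact Q.pow_mem hb 2
  -- x normalizes D
  have hxD : ∀ d ∈ D, x * d * x⁻¹ ∈ D := by
    intro d hd
    have hle : D ≤ D.comap (MulAut.conj x).toMonoidHom := by
      rw [hD, Subgroup.closure_le]
      rintro y ⟨b, hb, rfl⟩
      show (MulAut.conj x) (b ^ 2) ∈ Subgroup.closure {y : X | ∃ b ∈ Q, y = b ^ 2}
      rw [MulAut.conj_apply]
      apply Subgroup.subset_closure
      exact ⟨x * b * x⁻¹, hxQ b hb, by rw [conj_pow]⟩
    have := hle hd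
    rwa [Subgroup.mem_comap, MulEquiv.coe_toMonoidHom, MulAut.conj_apply] at this
  -- powers of x
  have hpow : ∀ n : ℕ, (∀ d ∈ D, x ^ n * d * (x ^ n)⁻¹ ∈ D) ∧
      (∀ a ∈ Q, ∃ d ∈ D, x ^ n * a * (x ^ n)⁻¹ = a * d) := by
    intro n
    induction n with
    | zero =>
      refine ⟨fun d hd => by simpa using hd, fun a ha => ⟨1, D.one_mem, by simp⟩⟩
    | succ n ih =>
      obtain ⟨ih1, ih2⟩ := ih
      constructor
      · intro d hd
        have h1 := hxD _ (ih1 d hd)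
        have e : x ^ (n + 1) * d * (x ^ (n + 1))⁻¹ = x * (x ^ n * d * (x ^ n)⁻¹) * x⁻¹ := by
          rw [pow_succ']; group
        rw [e]; exact h1
      · intro a ha
        obtain ⟨d1, hd1, h1⟩ := ih2 a ha
        obtain ⟨d2, hd2, h2⟩ := hg a ha
        refine ⟨d2 * (x * d1 * x⁻¹), D.mul_mem hd2 (hxD d1 hd1), ?_⟩
        have e : x ^ (n + 1) * a * (x ^ (n + 1))⁻¹ = x * (x ^ n * a * (x ^ n)⁻¹) * x⁻¹ := by
          rw [pow_succ']; group
        rw [e, h1]
        calc x * (a * d1) * x⁻¹ = (x * a * x⁻¹) * (x * d1 * x⁻¹) := by group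
          _ = a * d2 * (x * d1 * x⁻¹) := by rw [h2]
          _ = a * (d2 * (x * d1 * x⁻¹)) := by group
  have hxfin : IsOfFinOrder x := by
    rw [← orderOf_pos_iff, hx]; exact hr.pos
  have hK : ∀ k ∈ Subgroup.zpowers x, (∀ d ∈ D, k * d * k⁻¹ ∈ D) ∧
      (∀ a ∈ Q, ∃ d ∈ D, k * a * k⁻¹ = a * d) := by
    intro k hk
    rw [← hxfin.mem_powers_iff_mem_zpowers] at hk
    obtain ⟨n, rfl⟩ := (Submonoid.mem_powers_iff _ _).mp hk
    exact hpow n
  intro a ha
  let S := {y : X // ∃ d ∈ D, y = a * d}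
  have hSmem : ∀ (k : ↥(Subgroup.zpowers x)) (y : S), ∃ d ∈ D, (k : X) * y.1 * (k : X)⁻¹ = a * d := by
    intro k y
    obtain ⟨d, hd, hy⟩ := y.2
    obtain ⟨h1, h2⟩ := hK k k.2
    obtain ⟨d', hd', h3⟩ := h2 a ha
    refine ⟨d' * ((k : X) * d * (k : X)⁻¹), D.mul_mem hd' (h1 d hd), ?_⟩
    rw [hy]
    calc (k : X) * (a * d) * (k : X)⁻¹ = ((k : X) * a * (k : X)⁻¹) * ((k : X) * d * (k : X)⁻¹) := by
          group
      _ = a * d' * ((k : X) * d * (k : X)⁻¹) := by rw [h3]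
      _ = a * (d' * ((k : X) * d * (k : X)⁻¹)) := by group
  letI : MulAction ↥(Subgroup.zpowers x) S :=
    { smul := fun k y => ⟨(k : X) * y.1 * (k : X)⁻¹, hSmem k y⟩
      one_smul := by
        intro y
        apply Subtype.ext
        show ((1 : ↥(Subgroup.zpowers x)) : X) * y.1 * ((1 : ↥(Subgroup.zpowers x)) : X)⁻¹ = y.1
        simp
      mul_smul := by
        intro k k' y
        apply Subtype.ext
        show ((k * k' : ↥(Subgroup.zpowers x)) : X) * y.1 * ((k * k' : ↥(Subgroup.zpowers x)) : X)⁻¹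
          = (k : X) * ((k' : X) * y.1 * (k' : X)⁻¹) * (k : X)⁻¹
        rw [Subgroup.coe_mul]; group }
  have hsm : ∀ (k : ↥(Subgroup.zpowers x)) (y : S), ((k • y).1 : X) = (k : X) * y.1 * (k : X)⁻¹ :=
    fun k y => rfl
  haveI : Fact r.Prime := ⟨hr⟩
  have hKp : IsPGroup r ↥(Subgroup.zpowers x) :=
    IsPGroup.of_card (n := 1) (by rw [Nat.card_zpowers, hx, pow_one])
  have hScard : Nat.card S = Nat.card D := by
    apply Nat.card_congr
    refine ⟨fun y => ⟨a⁻¹ * y.1, ?_⟩, fun d => ⟨a * d.1, d.1, d.2, rfl⟩, ?_, ?_⟩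
    · obtain ⟨d, hd, hy⟩ := y.2
      rw [hy]; simpa using hd
    · intro y; apply Subtype.ext; simp
    · intro d; apply Subtype.ext; simp
  have hnd : ¬ r ∣ Nat.card S := by
    rw [hScard]
    haveI : Fact (Nat.Prime 2) := ⟨Nat.prime_two⟩
    obtain ⟨k, hk⟩ := (hQ.to_le hDQ).exists_card_eq
    rw [hk]
    intro hdvd
    exact hr2 ((Nat.prime_dvd_prime_iff_eq hr Nat.prime_two).mp (hr.dvd_of_dvd_pow hdvd))
  obtain ⟨y, hy⟩ := hKp.nonempty_fixed_point_of_prime_not_dvd_card S hnd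
  rw [MulAction.mem_fixedPoints] at hy
  obtain ⟨d, hd, hyd⟩ := y.2
  have hfix : x * y.1 * x⁻¹ = y.1 := by
    have := hy ⟨x, Subgroup.mem_zpowers x⟩
    have h2 := congrArg Subtype.val this
    rwa [hsm] at h2
  refine ⟨y.1, ?_, hfix, d⁻¹, D.inv_mem hd, ?_⟩
  · rw [hyd]; exact Q.mul_mem ha (hDQ hd)
  · rw [hyd]; group

end Cfsg.Agent.Lib.Helper9.A8Emb
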