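import Mathlib

/-!
Farm GH5 (statement S3106): facts about A5 by decide, used by GH5M (Lemma M):
faithful modules of order 16 for `A₅` over the field with two elements.

`G ≃* alternatingGroup (Fin 5)` acts on an elementary abelian 2-group `U` through
`ρ : G →* AddMonoid.End U`.
-/

namespace Cfsg.Agent.Lib.Helper9.GH5M

open Equiv

/-! ### facts about `A₅` inside `Perm (Fin 5)`, by `decide` -/

set_option maxRecDepth 1000000 in
set_option maxHeartbeats 4000000 in
/-- an even permutation of five points of order dividing 4 is an involution -/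
theorem a5_sq : ∀ a : Perm (Fin 5), a ^ 4 = 1 → Equiv.Perm.sign a = 1 → a * a = 1 := by
  decide

set_option maxRecDepth 1000000 in
set_option maxHeartbeats 4000000 in
/-- a four-group in `A₅` is normalised by an element of order three permuting its involutions -/
theorem a5_norm3 : ∀ a b : Perm (Fin 5), a * a = 1 → b * b = 1 → a * b = b * a → a ≠ 1 → b ≠ 1 →
    a ≠ b → Equiv.Perm.sign a = 1 → Equiv.Perm.sign b = 1 →
    ∃ σ : Perm (Fin 5), Equiv.Perm.sign σ = 1 ∧ σ ≠ 1 ∧ σ ^ 3 = 1 ∧ σ * a * σ⁻¹ = b ∧
      σ * b * σ⁻¹ = a * b := by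
  decide

end Cfsg.Agent.Lib.Helper9.GH5M
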