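import Mathlib
import Cfsg.Agent.Lib.Helper9.GH5MA5

/-!
Farm GH5 (statement S3106), units U4 + F1 + dichotomy of Lemma M:
faithful modules of order 16 for `A₅` over the field with two elements.

`G ≃* alternatingGroup (Fin 5)` acts on an elementary abelian 2-group `U` through
`ρ : G →* AddMonoid.End U`.
-/

namespace Cfsg.Agent.Lib.Helper9.GH5M

open Equiv

set_option linter.style.haveILetI false
set_option linter.unusedSectionVars false

variable {G : Type*} [Group G] {U : Type*} [AddCommGroup U]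

/-- the action of `G` on `U` through `ρ`. -/
@[reducible] def actOf (ρ : G →* AddMonoid.End U) : MulAction G U := MulAction.compHom U ρ

theorem act_def (ρ : G →* AddMonoid.End U) (g : G) (u : U) :
    (letI := actOf ρ; g • u) = ρ g u := rfl

/-- the stabiliser of `u` under `ρ`. -/
def stab (ρ : G →* AddMonoid.End U) (u : U) : Subgroup G :=
  letI := actOf ρ
  MulAction.stabilizer G u

theorem mem_stab {ρ : G →* AddMonoid.End U} {u : U} {g : G} : g ∈ stab ρ u ↔ ρ g u = u :=
  Iff.rfl

/-- `G` is transitive on the nonzero vectors. -/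
def TypeN (ρ : G →* AddMonoid.End U) : Prop := ∀ u v : U, u ≠ 0 → v ≠ 0 → ∃ g : G, ρ g u = v

theorem rho_inv_apply (ρ : G →* AddMonoid.End U) (g : G) (u : U) : ρ g⁻¹ (ρ g u) = u := by
  have : (ρ g⁻¹ * ρ g) u = u := by rw [← map_mul, inv_mul_cancel, map_one]; rfl
  exact this

theorem rho_apply_inv (ρ : G →* AddMonoid.End U) (g : G) (u : U) : ρ g (ρ g⁻¹ u) = u := by
  have : (ρ g * ρ g⁻¹) u = u := by rw [← map_mul, mul_inv_cancel, map_one]; rfl
  exact this

theorem rho_eq_zero (ρ : G →* AddMonoid.End U) (g : G) {u : U} (h : ρ g u = 0) : u = 0 := by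
  have := rho_inv_apply ρ g u
  rw [h, map_zero] at this
  exact this.symm

/-! ### the group `G ≃* A₅` -/

theorem card_G [Finite G] (e : G ≃* ↥(alternatingGroup (Fin 5))) : Nat.card G = 60 := by
  rw [Nat.card_congr e.toEquiv, nat_card_alternatingGroup, Nat.card_fin]
  rfl

theorem simple_G (e : G ≃* ↥(alternatingGroup (Fin 5))) : IsSimpleGroup G := by
  have h5 : IsSimpleGroup ↥(alternatingGroup (Fin 5)) :=
    alternatingGroup.isSimpleGroup (by rw [Nat.card_fin])
  have hnt : Nontrivial G := e.toEquiv.nontrivial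
  exact IsSimpleGroup.isSimpleGroup_of_surjective e.symm.toMonoidHom e.symm.surjective

theorem exists_orderOf [Finite G] (e : G ≃* ↥(alternatingGroup (Fin 5))) (p : ℕ) [Fact p.Prime]
    (hp : p ∣ 60) : ∃ g : G, orderOf g = p :=
  exists_prime_orderOf_dvd_card' p (by rw [card_G e]; exact hp)

/-! ### fixed points -/

/-- a finite elementary abelian 2-group has order a power of 2 -/
theorem card_pow_two [Finite U] (hU2 : ∀ u : U, u + u = 0) : ∃ a, Nat.card U = 2 ^ a := by
  have hp : IsPGroup 2 (Multiplicative U) := by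
    intro x
    refine ⟨1, ?_⟩
    rw [pow_one, pow_two]
    exact congrArg Multiplicative.ofAdd (hU2 (Multiplicative.toAdd x))
  obtain ⟨a, ha⟩ := IsPGroup.iff_card.1 hp
  exact ⟨a, ha⟩

/-- the vectors fixed by `g`. -/
def fixEl (ρ : G →* AddMonoid.End U) (g : G) : AddSubgroup U where
  carrier := {u | ρ g u = u}
  zero_mem' := map_zero _
  add_mem' := by
    intro a b ha hb
    show ρ g (a + b) = a + b
    rw [map_add, ha, hb]
  neg_mem' := by
    intro a ha
    show ρ g (-a) = -a
    rw [map_neg, ha]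

theorem mem_fixEl {ρ : G →* AddMonoid.End U} {g : G} {u : U} : u ∈ fixEl ρ g ↔ ρ g u = u :=
  Iff.rfl

/-- the fixed-point congruence for an element of prime order -/
theorem card_modEq_fixEl [Finite U] (ρ : G →* AddMonoid.End U) (g : G) (p : ℕ) [hp : Fact p.Prime]
    (hg : g ^ p = 1) : Nat.card U ≡ Nat.card (fixEl ρ g) [MOD p] := by
  classical
  have := Fintype.ofFinite U
  let f : Function.End U := fun u => ρ g u
  have h3 : ∀ (n : ℕ) (v : U), (f ^ n) v = ((ρ g : U → U)^[n]) v := by
    intro n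
    induction n with
    | zero => intro v; rfl
    | succ n ih =>
      intro v
      rw [pow_succ, Function.iterate_succ_apply]
      show (f ^ n) (f v) = _
      rw [ih]
  have hf : f ^ p ^ 1 = 1 := by
    rw [pow_one]
    have h1 : (ρ g) ^ p = 1 := by rw [← map_pow, hg, map_one]
    funext u
    have h2 : ((ρ g) ^ p) u = u := by rw [h1]; rfl
    rw [AddMonoid.End.coe_pow] at h2
    rw [h3, h2]; rfl
  have key := Equiv.Perm.card_fixedPoints_modEq (p := p) (n := 1) hf
  rw [Nat.card_eq_fintype_card, Nat.card_eq_fintype_card]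
  have hc : Fintype.card ↥(fixEl ρ g) = Fintype.card ↑(Function.fixedPoints f) :=
    Fintype.card_congr (Equiv.subtypeEquivRight
      (fun u => (Iff.rfl : u ∈ fixEl ρ g ↔ u ∈ Function.fixedPoints f)))
  rw [hc]
  exact key

theorem fixEl_eq_top_iff {ρ : G →* AddMonoid.End U} {g : G} : fixEl ρ g = ⊤ ↔ ρ g = 1 := by
  constructor
  · intro h
    ext u
    have : u ∈ fixEl ρ g := by rw [h]; trivial
    exact this
  · intro h
    rw [eq_top_iff]
    intro u _
    show ρ g u = u
    rw [h]; rfl

/-- the key arithmetic: an element of order 5 acting nontrivially -/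
theorem fix5 [Finite U] (hU2 : ∀ u : U, u + u = 0) (hcard : Nat.card U ≤ 16)
    (ρ : G →* AddMonoid.End U) (g : G) (hg : g ^ 5 = 1) (hne : ρ g ≠ 1) :
    Nat.card U = 16 ∧ fixEl ρ g = ⊥ := by
  haveI : Fact (Nat.Prime 5) := ⟨by norm_num⟩
  obtain ⟨a, ha⟩ := card_pow_two hU2
  have hdvd : Nat.card (fixEl ρ g) ∣ Nat.card U := AddSubgroup.card_addSubgroup_dvd_card _
  rw [ha] at hdvd
  obtain ⟨b, hba, hb⟩ := (Nat.dvd_prime_pow Nat.prime_two).1 hdvd
  have hmod := card_modEq_fixEl ρ g 5 hg
  rw [ha, hb] at hmod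
  have ha4 : a ≤ 4 := by
    rw [ha] at hcard
    by_contra h
    have : 2 ^ 5 ≤ 2 ^ a := Nat.pow_le_pow_right (by norm_num) (by omega)
    omega
  have hbne : b ≠ a := by
    intro hab
    apply hne
    rw [← fixEl_eq_top_iff]
    rw [← AddSubgroup.card_eq_iff_eq_top, hb, ha, hab]
  have hb' : b < a := lt_of_le_of_ne hba hbne
  have hkey : a = 4 ∧ b = 0 := by
    interval_cases a <;> interval_cases b <;> first | exact ⟨rfl, rfl⟩ | exact absurd hmod (by decide)
  refine ⟨by rw [ha, hkey.1]; rfl, ?_⟩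
  apply AddSubgroup.eq_bot_of_card_eq
  rw [hb, hkey.2]; rfl

variable [Finite G]

theorem five_fpf [Finite U] (hU2 : ∀ u : U, u + u = 0) (ρ : G →* AddMonoid.End U)
    (hcard : Nat.card U = 16) (hinj : Function.Injective ρ) (g : G) (hg : orderOf g = 5)
    (u : U) (hu : ρ g u = u) : u = 0 := by
  have hg5 : g ^ 5 = 1 := by rw [← hg]; exact pow_orderOf_eq_one g
  have hne : ρ g ≠ 1 := by
    intro h
    have : g = 1 := hinj (by rw [h, map_one])
    rw [this, orderOf_one] at hg
    omega
  have h := (fix5 hU2 hcard.le ρ g hg5 hne).2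
  have : u ∈ fixEl ρ g := hu
  rw [h] at this
  exact this

theorem f1 (e : G ≃* ↥(alternatingGroup (Fin 5))) [Finite U] (hU2 : ∀ u : U, u + u = 0)
    (ρ : G →* AddMonoid.End U) (hcard : Nat.card U ≤ 16) :
    (∀ g u, ρ g u = u) ∨ (Nat.card U = 16 ∧ Function.Injective ρ) := by
  haveI := simple_G e
  rcases (ρ.normal_ker).eq_bot_or_eq_top with h | h
  · right
    have hinj : Function.Injective ρ := (MonoidHom.ker_eq_bot_iff ρ).1 h
    refine ⟨?_, hinj⟩
    haveI : Fact (Nat.Prime 5) := ⟨by norm_num⟩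
    obtain ⟨g, hg⟩ := exists_orderOf e 5 (by norm_num)
    have hg5 : g ^ 5 = 1 := by rw [← hg]; exact pow_orderOf_eq_one g
    have hne : ρ g ≠ 1 := by
      intro h'
      have : g = 1 := hinj (by rw [h', map_one])
      rw [this, orderOf_one] at hg
      omega
    exact (fix5 hU2 hcard ρ g hg5 hne).1
  · left
    intro g u
    have : g ∈ ρ.ker := by rw [h]; trivial
    rw [MonoidHom.mem_ker] at this
    rw [this]; rfl

theorem no_fixed (e : G ≃* ↥(alternatingGroup (Fin 5))) [Finite U] (hU2 : ∀ u : U, u + u = 0)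
    (ρ : G →* AddMonoid.End U) (hcard : Nat.card U = 16) (hinj : Function.Injective ρ)
    (u : U) (hu : ∀ g, ρ g u = u) : u = 0 := by
  haveI : Fact (Nat.Prime 5) := ⟨by norm_num⟩
  obtain ⟨g, hg⟩ := exists_orderOf e 5 (by norm_num)
  exact five_fpf hU2 ρ hcard hinj g hg u (hu g)

/-! ### orbits and stabilisers -/

theorem ncard_nonzero [Finite U] (hcard : Nat.card U = 16) : {v : U | v ≠ 0}.ncard = 15 := by
  have h : {v : U | v ≠ 0} = ({0} : Set U)ᶜ := by ext v; simp
  rw [h, Set.ncard_compl, hcard, Set.ncard_singleton]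

theorem orbit_subset_nonzero (ρ : G →* AddMonoid.End U) {u : U} (hu : u ≠ 0) :
    (letI := actOf ρ; MulAction.orbit G u) ⊆ {v : U | v ≠ 0} := by
  letI := actOf ρ
  rintro v ⟨g, rfl⟩
  intro h0
  exact hu (rho_eq_zero ρ g h0)

theorem card_stab_mul (e : G ≃* ↥(alternatingGroup (Fin 5))) (ρ : G →* AddMonoid.End U) (u : U) :
    Nat.card (stab ρ u) * (letI := actOf ρ; MulAction.orbit G u).ncard = 60 := by
  letI := actOf ρ
  rw [← MulAction.index_stabilizer]
  show Nat.card (MulAction.stabilizer G u) * _ = 60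
  rw [Subgroup.card_mul_index, card_G e]

theorem card_stab (e : G ≃* ↥(alternatingGroup (Fin 5))) [Finite U] (hU2 : ∀ u : U, u + u = 0)
    (ρ : G →* AddMonoid.End U) (hcard : Nat.card U = 16) (hinj : Function.Injective ρ)
    (u : U) (hu : u ≠ 0) :
    Nat.card (stab ρ u) = 4 ∨ Nat.card (stab ρ u) = 6 ∨ Nat.card (stab ρ u) = 12 := by
  letI := actOf ρ
  have h1 := card_stab_mul e ρ u
  have h2 : (MulAction.orbit G u).ncard ≤ 15 := by
    rw [← ncard_nonzero hcard]
    exact Set.ncard_le_ncard (orbit_subset_nonzero ρ hu) (Set.toFinite _)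
  have h3 : ¬ 5 ∣ Nat.card (stab ρ u) := by
    intro h5
    haveI : Fact (Nat.Prime 5) := ⟨by norm_num⟩
    obtain ⟨x, hx⟩ := exists_prime_orderOf_dvd_card' 5 h5
    have hx' : orderOf (x : G) = 5 := by rw [Subgroup.orderOf_coe]; exact hx
    exact hu (five_fpf hU2 ρ hcard hinj (x : G) hx' u (mem_stab.1 x.2))
  generalize Nat.card (stab ρ u) = s at *
  generalize (MulAction.orbit G u).ncard = o at *
  have hs : s ≤ 60 := by
    rcases Nat.eq_zero_or_pos o with h | h
    · rw [h] at h1; omega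
    · nlinarith
  interval_cases s <;> omega

theorem dichotomy (e : G ≃* ↥(alternatingGroup (Fin 5))) [Finite U] (hU2 : ∀ u : U, u + u = 0)
    (ρ : G →* AddMonoid.End U) (hcard : Nat.card U = 16) (hinj : Function.Injective ρ) :
    TypeN ρ ∨ ∃ u : U, u ≠ 0 ∧ Nat.card (stab ρ u) = 12 := by
  letI := actOf ρ
  by_cases h12 : ∃ u : U, u ≠ 0 ∧ Nat.card (stab ρ u) = 12
  · exact Or.inr h12
  left
  have hsize : ∀ u : U, u ≠ 0 → (MulAction.orbit G u).ncard = 10 ∨
      (MulAction.orbit G u).ncard = 15 := by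
    intro u hu
    have h1 := card_stab_mul e ρ u
    rcases card_stab e hU2 ρ hcard hinj u hu with h | h | h
    · rw [h] at h1; right; omega
    · rw [h] at h1; left; omega
    · exact absurd ⟨u, hu, h⟩ h12
  have hfull : ∀ u : U, u ≠ 0 → (MulAction.orbit G u).ncard = 15 := by
    intro u hu
    rcases hsize u hu with h10 | h15
    · exfalso
      have hlt : (MulAction.orbit G u).ncard < {v : U | v ≠ 0}.ncard := by
        rw [ncard_nonzero hcard, h10]; norm_num
      obtain ⟨v, hv0, hvo⟩ := Set.exists_mem_notMem_of_ncard_lt_ncard hlt (Set.toFinite _)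
      have hdisj : Disjoint (MulAction.orbit G u) (MulAction.orbit G v) := by
        rw [Set.disjoint_left]
        intro x hxu hxv
        apply hvo
        rw [← MulAction.orbit_eq_iff.2 hxu, MulAction.orbit_eq_iff.2 hxv]
        exact MulAction.mem_orbit_self v
      have hun : (MulAction.orbit G u ∪ MulAction.orbit G v).ncard ≤ 15 := by
        rw [← ncard_nonzero hcard]
        exact Set.ncard_le_ncard (Set.union_subset (orbit_subset_nonzero ρ hu)
          (orbit_subset_nonzero ρ hv0)) (Set.toFinite _)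
      rw [Set.ncard_union_eq hdisj (Set.toFinite _) (Set.toFinite _)] at hun
      rcases hsize v hv0 with h | h <;> omega
    · exact h15
  intro u v hu hv
  have heq : MulAction.orbit G u = {v : U | v ≠ 0} := by
    apply Set.eq_of_subset_of_ncard_le (orbit_subset_nonzero ρ hu) _ (Set.toFinite _)
    rw [ncard_nonzero hcard, hfull u hu]
  have : v ∈ MulAction.orbit G u := by rw [heq]; exact hv
  obtain ⟨g, hg⟩ := this
  exact ⟨g, hg⟩

/-! ### subgroups of order four -/

/-- the embedding `G → Perm (Fin 5)` given by `e`. -/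
def toPerm (e : G ≃* ↥(alternatingGroup (Fin 5))) : G →* Perm (Fin 5) :=
  (alternatingGroup (Fin 5)).subtype.comp e.toMonoidHom

theorem toPerm_inj (e : G ≃* ↥(alternatingGroup (Fin 5))) : Function.Injective (toPerm e) := by
  intro x y h
  apply e.injective
  apply Subtype.ext
  exact h

theorem toPerm_sign (e : G ≃* ↥(alternatingGroup (Fin 5))) (g : G) :
    Equiv.Perm.sign (toPerm e g) = 1 :=
  Equiv.Perm.mem_alternatingGroup.1 (e g).2

theorem toPerm_surj (e : G ≃* ↥(alternatingGroup (Fin 5))) (σ : Perm (Fin 5))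
    (hσ : Equiv.Perm.sign σ = 1) : ∃ g : G, toPerm e g = σ := by
  refine ⟨e.symm ⟨σ, Equiv.Perm.mem_alternatingGroup.2 hσ⟩, ?_⟩
  show ((e (e.symm ⟨σ, _⟩) : ↥(alternatingGroup (Fin 5))) : Perm (Fin 5)) = σ
  rw [MulEquiv.apply_symm_apply]

/-- a subgroup of order four is normalised by an element of order three. -/
theorem exists_norm3 (e : G ≃* ↥(alternatingGroup (Fin 5))) (P : Subgroup G)
    (hP : Nat.card P = 4) : ∃ y : G, orderOf y = 3 ∧ ∀ g ∈ P, y * g * y⁻¹ ∈ P := by
  classical
  haveI : Fact (Nat.Prime 2) := ⟨Nat.prime_two⟩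
  haveI : Fact (Nat.Prime 3) := ⟨Nat.prime_three⟩
  have := Fintype.ofFinite ↥P
  have hcomm : ∀ x y : ↥P, x * y = y * x :=
    IsPGroup.commutative_of_card_eq_prime_sq (p := 2) (by rw [hP]; norm_num)
  have hP' : Fintype.card ↥P = 4 := by rw [← Nat.card_eq_fintype_card, hP]
  -- two distinct nonidentity elements
  have hex1 : ∃ a : ↥P, a ≠ 1 := by
    by_contra h
    have hall : ∀ a : ↥P, a = 1 := fun a => Classical.by_contradiction fun ha => h ⟨a, ha⟩
    have : Fintype.card ↥P ≤ 1 := Fintype.card_le_one_iff.2 (fun x y => by rw [hall x, hall y])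
    omega
  obtain ⟨a, ha1⟩ := hex1
  have hex2 : ∃ b : ↥P, b ≠ 1 ∧ b ≠ a := by
    by_contra h
    have hall : ∀ b : ↥P, b ∈ ({1, a} : Finset ↥P) := by
      intro b
      by_contra hb
      simp only [Finset.mem_insert, Finset.mem_singleton, not_or] at hb
      exact h ⟨b, hb.1, hb.2⟩
    have : Fintype.card ↥P ≤ 2 := by
      calc Fintype.card ↥P = (Finset.univ : Finset ↥P).card := Finset.card_univ.symm
        _ ≤ ({1, a} : Finset ↥P).card := Finset.card_le_card (fun b _ => hall b)
        _ ≤ 2 := Finset.card_le_two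
    omega
  obtain ⟨b, hb1, hba⟩ := hex2
  -- images in Perm (Fin 5)
  set α := toPerm e (a : G) with hα
  set β := toPerm e (b : G) with hβ
  have hpow : ∀ x : ↥P, (toPerm e (x : G)) ^ 4 = 1 := by
    intro x
    have h4 : x ^ 4 = 1 := by rw [← hP]; exact pow_card_eq_one'
    have h4' : ((x : G)) ^ 4 = 1 := by
      have := congrArg (fun t : ↥P => (t : G)) h4
      simpa using this
    rw [← map_pow, h4', map_one]
  have hαα : α * α = 1 := a5_sq α (hpow a) (toPerm_sign e _)
  have hββ : β * β = 1 := a5_sq β (hpow b) (toPerm_sign e _)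
  have hαβ : α * β = β * α := by
    rw [hα, hβ, ← map_mul, ← map_mul]
    congr 1
    have := congrArg (fun t : ↥P => (t : G)) (hcomm a b)
    simpa using this
  have hα1 : α ≠ 1 := by
    intro h
    apply ha1
    have h1 : (a : G) = 1 := toPerm_inj e (by rw [map_one]; exact h)
    exact OneMemClass.coe_eq_one.1 h1
  have hβ1 : β ≠ 1 := by
    intro h
    apply hb1
    have h1 : (b : G) = 1 := toPerm_inj e (by rw [map_one]; exact h)
    exact OneMemClass.coe_eq_one.1 h1
  have hαβne : α ≠ β := by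
    intro h
    apply hba
    apply Subtype.ext
    apply toPerm_inj e
    exact h.symm
  obtain ⟨σ, hσs, hσ1, hσ3, hσa, hσb⟩ :=
    a5_norm3 α β hαα hββ hαβ hα1 hβ1 hαβne (toPerm_sign e _) (toPerm_sign e _)
  obtain ⟨y, hy⟩ := toPerm_surj e σ hσs
  have hy1 : y ≠ 1 := by
    intro h
    rw [h, map_one] at hy
    exact hσ1 hy.symm
  have hy3 : y ^ 3 = 1 := by
    apply toPerm_inj e
    rw [map_pow, hy, hσ3, map_one]
  have hya : y * (a : G) * y⁻¹ = (b : G) := by
    apply toPerm_inj e
    rw [map_mul, map_mul, map_inv, hy]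
    exact hσa
  have hyb : y * (b : G) * y⁻¹ = (a : G) * (b : G) := by
    apply toPerm_inj e
    rw [map_mul, map_mul, map_inv, hy, map_mul]
    exact hσb
  refine ⟨y, orderOf_eq_prime hy3 hy1, ?_⟩
  -- P = {1, a, b, ab}
  have hbb : b * b = 1 := by
    apply Subtype.ext
    apply toPerm_inj e
    show toPerm e ((b : G) * (b : G)) = toPerm e 1
    rw [map_mul, map_one]
    exact hββ
  have hS : ({1, a, b, a * b} : Finset ↥P) = Finset.univ := by
    apply Finset.eq_univ_of_card
    rw [hP']
    have h1 : (1 : ↥P) ∉ ({a, b, a * b} : Finset ↥P) := by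
      simp only [Finset.mem_insert, Finset.mem_singleton, not_or]
      refine ⟨fun h => ha1 h.symm, fun h => hb1 h.symm, fun h => ?_⟩
      apply hba
      have : a = b⁻¹ := eq_inv_of_mul_eq_one_left h.symm
      rw [this]
      exact eq_inv_of_mul_eq_one_left hbb
    have h2 : a ∉ ({b, a * b} : Finset ↥P) := by
      simp only [Finset.mem_insert, Finset.mem_singleton, not_or]
      refine ⟨fun h => hba h.symm, fun h => ?_⟩
      apply hb1
      exact (mul_eq_left.1 h.symm)
    have h3 : b ∉ ({a * b} : Finset ↥P) := by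
      simp only [Finset.mem_singleton]
      intro h
      apply ha1
      exact (mul_eq_right.1 h.symm)
    rw [Finset.card_insert_of_notMem h1, Finset.card_insert_of_notMem h2,
      Finset.card_insert_of_notMem h3, Finset.card_singleton]
  intro g hg
  have hgS : (⟨g, hg⟩ : ↥P) ∈ ({1, a, b, a * b} : Finset ↥P) := by rw [hS]; exact Finset.mem_univ _
  simp only [Finset.mem_insert, Finset.mem_singleton] at hgS
  rcases hgS with h | h | h | h
  · have : g = 1 := congrArg (fun t : ↥P => (t : G)) h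
    rw [this, mul_one, mul_inv_cancel]; exact P.one_mem
  · have : g = (a : G) := congrArg (fun t : ↥P => (t : G)) h
    rw [this, hya]; exact b.2
  · have : g = (b : G) := congrArg (fun t : ↥P => (t : G)) h
    rw [this, hyb]; exact P.mul_mem a.2 b.2
  · have : g = (a : G) * (b : G) := congrArg (fun t : ↥P => (t : G)) h
    have h' : y * ((a : G) * (b : G)) * y⁻¹ = (y * (a : G) * y⁻¹) * (y * (b : G) * y⁻¹) := by group
    rw [this, h', hya, hyb]
    exact P.mul_mem b.2 (P.mul_mem a.2 b.2)

/-- the vectors fixed by a subgroup -/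
def fixOf (ρ : G →* AddMonoid.End U) (P : Subgroup G) : AddSubgroup U where
  carrier := {u | ∀ g ∈ P, ρ g u = u}
  zero_mem' := fun g _ => map_zero _
  add_mem' := by
    intro a b ha hb g hg
    show ρ g (a + b) = a + b
    rw [map_add, ha g hg, hb g hg]
  neg_mem' := by
    intro a ha g hg
    show ρ g (-a) = -a
    rw [map_neg, ha g hg]

theorem mem_fixOf {ρ : G →* AddMonoid.End U} {P : Subgroup G} {u : U} :
    u ∈ fixOf ρ P ↔ ∀ g ∈ P, ρ g u = u := Iff.rfl

/-! ### type N -/

namespace TypeN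

theorem card_stab (e : G ≃* ↥(alternatingGroup (Fin 5))) [Finite U] (hU2 : ∀ u : U, u + u = 0)
    {ρ : G →* AddMonoid.End U} (hN : TypeN ρ) (hcard : Nat.card U = 16)
    (hinj : Function.Injective ρ) (u : U) (hu : u ≠ 0) : Nat.card (stab ρ u) = 4 := by
  letI := actOf ρ
  have h1 := card_stab_mul e ρ u
  have hsub : {v : U | v ≠ 0} ⊆ MulAction.orbit G u := by
    intro v hv
    obtain ⟨g, hg⟩ := hN u v hu hv
    exact ⟨g, hg⟩
  have h2 : 15 ≤ (MulAction.orbit G u).ncard := by
    rw [← ncard_nonzero hcard]; exact Set.ncard_le_ncard hsub (Set.toFinite _)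
  rcases GH5M.card_stab e hU2 ρ hcard hinj u hu with h | h | h
  · exact h
  · rw [h] at h1; omega
  · rw [h] at h1; omega

theorem three_fpf (e : G ≃* ↥(alternatingGroup (Fin 5))) [Finite U] (hU2 : ∀ u : U, u + u = 0)
    {ρ : G →* AddMonoid.End U} (hN : TypeN ρ) (hcard : Nat.card U = 16)
    (hinj : Function.Injective ρ) (y : G) (hy : orderOf y = 3) (u : U) (hyu : ρ y u = u) :
    u = 0 := by
  by_contra hu
  have h4 := card_stab e hU2 hN hcard hinj u hu
  have hd : orderOf y ∣ Nat.card (stab ρ u) := Subgroup.orderOf_dvd_natCard _ (mem_stab.2 hyu)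
  rw [hy, h4] at hd
  omega

theorem not_twelve (e : G ≃* ↥(alternatingGroup (Fin 5))) [Finite U] (hU2 : ∀ u : U, u + u = 0)
    {ρ : G →* AddMonoid.End U} (hN : TypeN ρ) (hcard : Nat.card U = 16)
    (hinj : Function.Injective ρ) : ¬ ∃ u : U, u ≠ 0 ∧ Nat.card (stab ρ u) = 12 := by
  rintro ⟨u, hu, h12⟩
  have h4 := card_stab e hU2 hN hcard hinj u hu
  omega

theorem card_fixOf_four (e : G ≃* ↥(alternatingGroup (Fin 5))) [Finite U]
    (hU2 : ∀ u : U, u + u = 0) {ρ : G →* AddMonoid.End U} (hN : TypeN ρ)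
    (hcard : Nat.card U = 16) (hinj : Function.Injective ρ) (P : Subgroup G)
    (hP : Nat.card P = 4) : Nat.card (fixOf ρ P) = 4 := by
  classical
  haveI : Fact (Nat.Prime 2) := ⟨Nat.prime_two⟩
  haveI : Fact (Nat.Prime 3) := ⟨Nat.prime_three⟩
  obtain ⟨y, hy3, hyP⟩ := exists_norm3 e P hP
  have hy3' : y ^ 3 = 1 := by rw [← hy3]; exact pow_orderOf_eq_one y
  -- powers of y normalise P
  have hpow : ∀ n : ℕ, ∀ g ∈ P, y ^ n * g * (y ^ n)⁻¹ ∈ P := by
    intro n
    induction n with
    | zero => intro g hg; simpa using hg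
    | succ n ih =>
      intro g hg
      have h := hyP _ (ih g hg)
      have : y ^ (n + 1) * g * (y ^ (n + 1))⁻¹ = y * (y ^ n * g * (y ^ n)⁻¹) * y⁻¹ := by
        rw [pow_succ']; group
      rw [this]; exact h
  have hinvP : ∀ g ∈ P, y⁻¹ * g * y ∈ P := by
    intro g hg
    have h2 : y ^ 2 = y⁻¹ := by
      apply eq_inv_of_mul_eq_one_left
      rw [← pow_succ]; exact hy3'
    have := hpow 2 g hg
    rwa [h2, inv_inv] at this
  -- y preserves the fixed vectors of P
  have hyF : ∀ u ∈ fixOf ρ P, ρ y u ∈ fixOf ρ P := by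
    intro u hu g hg
    have h1 : g * y = y * (y⁻¹ * g * y) := by group
    have h2 : ρ g (ρ y u) = (ρ (g * y)) u := by rw [map_mul]; rfl
    rw [h2, h1, map_mul]
    show ρ y (ρ (y⁻¹ * g * y) u) = ρ y u
    rw [hu _ (hinvP g hg)]
  -- card of the fixed subgroup
  have hdvd : Nat.card (fixOf ρ P) ∣ 2 ^ 4 := by
    have := AddSubgroup.card_addSubgroup_dvd_card (fixOf ρ P)
    rw [hcard] at this
    exact this
  obtain ⟨b, hb4, hb⟩ := (Nat.dvd_prime_pow Nat.prime_two).1 hdvd
  -- not everything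
  have hne_top : b ≠ 4 := by
    intro hb4'
    have htop : fixOf ρ P = ⊤ := by
      rw [← AddSubgroup.card_eq_iff_eq_top, hb, hb4', hcard]; rfl
    have hnt : Nontrivial ↥P := by
      rw [← Finite.one_lt_card_iff_nontrivial, hP]; norm_num
    obtain ⟨a, ha⟩ := exists_ne (1 : ↥P)
    have hρa : ρ (a : G) = 1 := by
      ext u
      have : u ∈ fixOf ρ P := by rw [htop]; trivial
      exact this _ a.2
    have : (a : G) = 1 := hinj (by rw [hρa, map_one])
    exact ha (OneMemClass.coe_eq_one.1 this)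
  -- even
  have hne_zero : b ≠ 0 := by
    intro hb0
    have hPg : IsPGroup 2 ↥P := IsPGroup.of_card (n := 2) (by rw [hP]; norm_num)
    letI := actOf ρ
    have hmod := hPg.card_modEq_card_fixedPoints U
    have hc : Nat.card (MulAction.fixedPoints ↥P U) = Nat.card (fixOf ρ P) := by
      apply Nat.card_congr
      apply Equiv.subtypeEquivRight
      intro u
      constructor
      · intro hu g hg
        exact hu ⟨g, hg⟩
      · intro hu g
        exact hu g.1 g.2
    rw [hc, hb, hb0, hcard] at hmod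
    exact absurd hmod (by decide)
  -- mod 3
  have := Fintype.ofFinite ↥(fixOf ρ P)
  let f : Function.End ↥(fixOf ρ P) := fun u => ⟨ρ y u.1, hyF u.1 u.2⟩
  have h3 : ∀ (n : ℕ) (v : ↥(fixOf ρ P)), ((f ^ n) v).1 = ((ρ y) ^ n) v.1 := by
    intro n
    induction n with
    | zero => intro v; rfl
    | succ n ih =>
      intro v
      rw [pow_succ, pow_succ]
      show ((f ^ n) (f v)).1 = ((ρ y) ^ n) (ρ y v.1)
      rw [ih]
  have hf : f ^ 3 ^ 1 = 1 := by
    rw [pow_one]
    funext v
    apply Subtype.ext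
    rw [h3, ← map_pow, hy3', map_one]
    rfl
  have key := Equiv.Perm.card_fixedPoints_modEq (p := 3) (n := 1) hf
  have hfix : Fintype.card ↑(Function.fixedPoints f) = 1 := by
    rw [Fintype.card_eq_one_iff]
    refine ⟨⟨0, ?_⟩, ?_⟩
    · show f 0 = 0
      apply Subtype.ext
      show ρ y 0 = 0
      exact map_zero _
    · rintro ⟨v, hv⟩
      apply Subtype.ext
      apply Subtype.ext
      have hv' : ρ y v.1 = v.1 := congrArg Subtype.val hv
      show v.1 = 0
      exact three_fpf e hU2 hN hcard hinj y hy3 v.1 hv'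
  rw [hfix, ← Nat.card_eq_fintype_card, hb] at key
  have hb2 : b = 2 := by
    interval_cases b
    · exact absurd rfl hne_zero
    · exact absurd key (by decide)
    · rfl
    · exact absurd key (by decide)
    · exact absurd rfl hne_top
  rw [hb, hb2]; rfl

theorem card_fix_four (e : G ≃* ↥(alternatingGroup (Fin 5))) [Finite U]
    (hU2 : ∀ u : U, u + u = 0) {ρ : G →* AddMonoid.End U} (hN : TypeN ρ)
    (hcard : Nat.card U = 16) (hinj : Function.Injective ρ) (P : Subgroup G)
    (hP : Nat.card P = 4) : Nat.card {u : U // ∀ g ∈ P, ρ g u = u} = 4 :=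
  card_fixOf_four e hU2 hN hcard hinj P hP

theorem exists_second_fixed (e : G ≃* ↥(alternatingGroup (Fin 5))) [Finite U]
    (hU2 : ∀ u : U, u + u = 0) {ρ : G →* AddMonoid.End U} (hN : TypeN ρ)
    (hcard : Nat.card U = 16) (hinj : Function.Injective ρ) (u : U) (hu : u ≠ 0) :
    ∃ v : U, v ≠ 0 ∧ v ≠ u ∧ ∀ g ∈ stab ρ u, ρ g v = v := by
  classical
  have h4 := card_fixOf_four e hU2 hN hcard hinj (stab ρ u) (card_stab e hU2 hN hcard hinj u hu)
  have := Fintype.ofFinite ↥(fixOf ρ (stab ρ u))
  by_contra hcon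
  have hall : ∀ v : ↥(fixOf ρ (stab ρ u)), v.1 = 0 ∨ v.1 = u := by
    intro v
    by_contra hv
    simp only [not_or] at hv
    exact hcon ⟨v.1, hv.1, hv.2, v.2⟩
  have hu_mem : u ∈ fixOf ρ (stab ρ u) := fun g hg => mem_stab.1 hg
  have hle : Fintype.card ↥(fixOf ρ (stab ρ u)) ≤ 2 := by
    calc Fintype.card ↥(fixOf ρ (stab ρ u))
        = (Finset.univ : Finset ↥(fixOf ρ (stab ρ u))).card := Finset.card_univ.symm
      _ ≤ ({0, ⟨u, hu_mem⟩} : Finset ↥(fixOf ρ (stab ρ u))).card := by
          apply Finset.card_le_card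
          intro v _
          simp only [Finset.mem_insert, Finset.mem_singleton]
          rcases hall v with h | h
          · left; exact Subtype.ext h
          · right; exact Subtype.ext h
      _ ≤ 2 := Finset.card_le_two
  rw [← Nat.card_eq_fintype_card, h4] at hle
  omega

end TypeN

end Cfsg.Agent.Lib.Helper9.GH5M
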