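import Mathlib
import Cfsg.Agent.Lib.Helper9.GH5M
import Cfsg.Agent.Lib.Helper4.GH5MO4
import Cfsg.Agent.Lib.Helper8.GH5OTb
import Cfsg.Agent.Lib.Helper1.GH5U7b
import Cfsg.Agent.Lib.Helper3.A8Emb

set_option autoImplicit false
set_option linter.unusedVariables false
set_option linter.unusedSectionVars false
set_option linter.style.longLine false

/-! GH5 (S3106), second layer, unit G2f: an invariant quadratic map from a faithful `A₅`-module of
order 16 into a trivial module takes at most one nonzero value; group-level consequence: if the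
squares of `Q` lie in a subgroup `Φ` central in `Y`, they take at most one nontrivial value. -/

namespace Cfsg.Agent.Lib.Helper9.GH5G2f

open Cfsg.Agent.Lib.Helper9.GH5M
open Cfsg.Agent.Lib.Helper8.GH5Cases
open Cfsg.Agent.Lib.Helper8.GH5OT
open Cfsg.Agent.Lib.Helper4.GH5

section moduleLevel

variable {G V W : Type*} [Group G] [AddCommGroup V] [AddCommGroup W]
variable {ρV : G →* AddMonoid.End V} {ρW : G →* AddMonoid.End W} {s : V → W} {c : V → V → W}

theorem two_valued_add {a x y : W} (ha : a + a = 0) (hx : x = 0 ∨ x = a) (hy : y = 0 ∨ y = a) :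
    x + y = 0 ∨ x + y = a := by
  rcases hx with rfl | rfl <;> rcases hy with rfl | rfl
  · left; simp
  · right; simp
  · right; simp
  · left; exact ha

theorem two_valued_nsmul {a : W} (ha : a + a = 0) (n : ℕ) : n • a = 0 ∨ n • a = a := by
  induction n with
  | zero => left; simp
  | succ n ih =>
    rw [succ_nsmul]
    exact two_valued_add ha ih (Or.inr rfl)

/-- subset sums of the `w i` have `s`-value `0` or `a` -/
theorem s_sum_two_valued (h : SC ρV ρW s c) (w : Fin 5 → V) (a : W) (hs0 : ∀ i, s (w i) = 0)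
    (hca : ∀ i j, i ≠ j → c (w i) (w j) = a) (S : Finset (Fin 5)) :
    s (∑ i ∈ S, w i) = 0 ∨ s (∑ i ∈ S, w i) = a := by
  classical
  have ha : a + a = 0 := h.W2 a
  induction S using Finset.induction_on with
  | empty => left; simpa using h.s_zero
  | insert j S hj ih =>
    rw [Finset.sum_insert hj, h.s_add, hs0, zero_add]
    apply two_valued_add ha ih
    -- `c (w j) (∑ S) = |S| • a`
    have hcs : c (w j) (∑ i ∈ S, w i) = ∑ i ∈ S, c (w j) (w i) := by
      let F : V →+ W := AddMonoidHom.mk' (c (w j)) (h.c_add_right (w j))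
      have : F (∑ i ∈ S, w i) = ∑ i ∈ S, F (w i) := map_sum F _ _
      exact this
    rw [hcs]
    have : ∑ i ∈ S, c (w j) (w i) = ∑ i ∈ S, a := by
      apply Finset.sum_congr rfl
      intro i hi
      apply hca
      rintro rfl
      exact hj hi
    rw [this, Finset.sum_const]
    exact two_valued_nsmul ha _

/-- MODULE LEVEL (G2f): `G ≃* A₅`, `V` a faithful module of order 16, `W` a trivial module, `(s,c)` an
invariant quadratic map: `s` takes at most one nonzero value. -/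
theorem s_two_valued [Finite G] [Finite V] (e : G ≃* ↥(alternatingGroup (Fin 5)))
    (h : SC ρV ρW s c) (htriv : ∀ g w, ρW g w = w)
    (hcard : Nat.card V = 16) (hinj : Function.Injective ρV) :
    ∃ a : W, ∀ v, s v = 0 ∨ s v = a := by
  rcases dichotomy e h.V2 ρV hcard hinj with hN | ⟨u, hu, h12⟩
  · refine ⟨0, fun v => Or.inl ?_⟩
    exact (case_N_triv h (by rw [hcard]; norm_num) hN htriv).1 v
  · have h12' : Nat.card {g : G // ρV g u = u} = 12 := h12
    obtain ⟨d⟩ := exists_typeO_of_stab12 e hcard h.V2 ρV hinj u hu h12'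
    obtain ⟨a, hs0, hca⟩ := qf h htriv d.w d.sum_w (htr2_of_data d)
    refine ⟨a, fun v => ?_⟩
    obtain ⟨S, rfl⟩ := d.span v
    exact s_sum_two_valued h d.w a hs0 hca S

end moduleLevel

section groupLevel

universe u

open Cfsg.Agent.Lib.Helper1.GH5U7

/-- GROUP LEVEL (G2f): `Φ ≤ Q` normal in `Y`, central in `Y`, of exponent 2, containing all squares of
`Q`; `Y ⧸ Q ≃* A₅` faithful on `Q / Φ` of order 16: the squares of `Q` take at most one nontrivial
value. -/
theorem sq_two_valued {Y : Type u} [Group Y] [Finite Y] (Q Φ : Subgroup Y) [hQn : Q.Normal]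
    [hΦn : Φ.Normal] (e : Y ⧸ Q ≃* ↥(alternatingGroup (Fin 5)))
    (hΦQ : Φ ≤ Q) (hsq : ∀ q ∈ Q, q * q ∈ Φ) (hexp : ∀ f ∈ Φ, f * f = 1)
    (hcen : ∀ f ∈ Φ, ∀ y : Y, y * f * y⁻¹ = f)
    (hcard : Nat.card ↥Q = 16 * Nat.card ↥Φ)
    (hfaith : ∀ y : Y, (∀ q ∈ Q, y * q * y⁻¹ * q⁻¹ ∈ Φ) → y ∈ Q) :
    ∃ a ∈ Φ, ∀ q ∈ Q, q * q = 1 ∨ q * q = a := by
  have hc : ∀ f ∈ Φ, ∀ q ∈ Q, f * q = q * f := by
    intro f hf q _
    have := hcen f hf q
    calc f * q = (q * f * q⁻¹) * q := by rw [this]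
      _ = q * f := by group
  obtain ⟨V, Wt, iV, iW, fV, fW, ρV, ρW, πV, πW, s, c, hV2, hW2, hπVs, hπVa, hπV0, hπWb, hπWa,
    hρV, hρW, hs, hcc, hsadd, hcl, hcr, hcself, hcsymm, hseq, hceq, hcardV, hcardW⟩ :=
    exists_layer Q Φ hΦQ hc hsq hexp
  have hSC : SC ρV ρW s c := ⟨hV2, hW2, hcl, hcr, hcself, hsadd, hseq, hceq⟩
  have hΦpos : 0 < Nat.card ↥Φ := Nat.card_pos
  have hV16 : Nat.card V = 16 := by
    rw [hcard] at hcardV
    exact Nat.eq_of_mul_eq_mul_right hΦpos hcardV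
  have hπV_one : πV 1 = 0 := by
    have := hπVa 1 1
    rw [mul_one] at this
    have h2 : πV 1 + 0 = πV 1 + πV 1 := by rw [add_zero]; exact this
    exact (add_left_cancel h2).symm
  have hπV_inv : ∀ a : ↥Q, πV a⁻¹ = πV a := by
    intro a
    have := hπVa a a⁻¹
    rw [mul_inv_cancel, hπV_one] at this
    -- 0 = πV a + πV a⁻¹, and πV a + πV a = 0
    have h2 : πV a + πV a⁻¹ = πV a + πV a := by rw [← this, hV2]
    exact add_left_cancel h2
  have hπW_one : πW 1 = 0 := by
    have := hπWa 1 1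
    rw [mul_one] at this
    have h2 : πW 1 + 0 = πW 1 + πW 1 := by rw [add_zero]; exact this
    exact (add_left_cancel h2).symm
  -- trivial action on `Wt`
  have htriv : ∀ g w, ρW g w = w := by
    intro g w
    obtain ⟨y, rfl⟩ := QuotientGroup.mk_surjective g
    obtain ⟨f, rfl⟩ := hπWb.2 w
    have hmem : y * (f : Y) * y⁻¹ ∈ Φ := hΦn.conj_mem _ f.2 y
    rw [hρW y f hmem]
    congr 1
    exact Subtype.ext (hcen f f.2 y)
  -- faithful action on `V`
  have hinj : Function.Injective ρV := by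
    rw [injective_iff_map_eq_one]
    intro g hg
    obtain ⟨y, rfl⟩ := QuotientGroup.mk_surjective g
    rw [QuotientGroup.eq_one_iff]
    apply hfaith
    intro q hq
    have hmem : y * q * y⁻¹ ∈ Q := hQn.conj_mem _ hq y
    have h1 := hρV y ⟨q, hq⟩ hmem
    rw [hg] at h1
    have h1' : πV ⟨q, hq⟩ = πV ⟨y * q * y⁻¹, hmem⟩ := h1
    have h2 : πV (⟨y * q * y⁻¹, hmem⟩ * (⟨q, hq⟩ : ↥Q)⁻¹) = 0 := by
      rw [hπVa, hπV_inv, ← h1', hV2]
    have h3 := (hπV0 _).mp h2
    simpa using h3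
  obtain ⟨a, ha⟩ := s_two_valued e hSC htriv hV16 hinj
  obtain ⟨a', rfl⟩ := hπWb.2 a
  refine ⟨a', a'.2, ?_⟩
  intro q hq
  have hqq : q * q ∈ Φ := hsq q hq
  have h1 := hs ⟨q, hq⟩ hqq
  rcases ha (πV ⟨q, hq⟩) with h0 | h0
  · left
    rw [h1, ← hπW_one] at h0
    have := hπWb.1 h0
    exact congrArg Subtype.val this
  · right
    rw [h1] at h0
    have := hπWb.1 h0
    exact congrArg Subtype.val this

open Cfsg.Agent.Lib.Helper3.A8Emb (sqSub) in
/-- consequence for `Φ = sqSub Q`: it has order at most 2. -/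
theorem card_sqSub_le_two {Y : Type u} [Group Y] [Finite Y] (Q : Subgroup Y) [hQn : Q.Normal]
    (e : Y ⧸ Q ≃* ↥(alternatingGroup (Fin 5)))
    (hexp : ∀ f ∈ sqSub Q, f * f = 1)
    (hcen : ∀ f ∈ sqSub Q, ∀ y : Y, y * f * y⁻¹ = f)
    (hcard : Nat.card ↥Q = 16 * Nat.card ↥(sqSub Q))
    (hfaith : ∀ y : Y, (∀ q ∈ Q, y * q * y⁻¹ * q⁻¹ ∈ sqSub Q) → y ∈ Q) :
    Nat.card ↥(sqSub Q) ≤ 2 := by
  haveI : (sqSub Q).Normal := Cfsg.Agent.Lib.Helper3.A8Emb.sqSub_normal Q
  have hsq : ∀ q ∈ Q, q * q ∈ sqSub Q := by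
    intro q hq
    apply Subgroup.subset_closure
    exact ⟨q, hq, (pow_two q).symm⟩
  obtain ⟨a, haΦ, ha⟩ := sq_two_valued Q (sqSub Q) e (Cfsg.Agent.Lib.Helper3.A8Emb.sqSub_le Q)
    hsq hexp hcen hcard hfaith
  have hle : sqSub Q ≤ Subgroup.zpowers a := by
    unfold sqSub
    rw [Subgroup.closure_le]
    rintro y ⟨b, hb, rfl⟩
    rw [pow_two]
    rcases ha b hb with h | h
    · rw [h]; exact Subgroup.one_mem _
    · rw [h]; exact Subgroup.mem_zpowers a
  have haa : a * a = 1 := hexp a haΦ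
  have hord : orderOf a ≤ 2 := by
    apply orderOf_le_of_pow_eq_one (by norm_num)
    rw [pow_two]; exact haa
  calc Nat.card ↥(sqSub Q) ≤ Nat.card ↥(Subgroup.zpowers a) :=
        Nat.card_le_card_of_injective (Subgroup.inclusion hle) (Subgroup.inclusion_injective hle)
    _ = orderOf a := Nat.card_zpowers a
    _ ≤ 2 := hord

end groupLevel

end Cfsg.Agent.Lib.Helper9.GH5G2f
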