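import Cfsg.Agent.Lib.Helper9.Hyperfocal

set_option autoImplicit false

namespace Cfsg.Agent.Lib.Helper9

open Cfsg Cfsg.FusionSystem

variable {Ω : Type*} [Group Ω] {S : Subgroup Ω}

/-- the subsystem of the maps that are, modulo the `S`-invariant subgroup `H`, conjugation by an
element of `S` -/
def cosetSystem (F : FusionSystem S) (H : Subgroup Ω)
    (hH : ∀ s ∈ S, ∀ h ∈ H, s * h * s⁻¹ ∈ H) : FusionSystem S where
  Hom P := {φ | φ ∈ F.Hom P ∧ ∃ s ∈ S, ∀ y : P, (s * (y : Ω) * s⁻¹)⁻¹ * φ y ∈ H}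
  le_of_mem h := F.le_of_mem h.1
  injective_of_mem h := F.injective_of_mem h.1
  conj_mem := by
    intro P g hP hg
    refine ⟨F.conj_mem hP hg, g, hg, fun y => ?_⟩
    rw [conjHom_apply, inv_mul_cancel]
    exact H.one_mem
  comp_mem := by
    rintro P Q φ ψ ⟨hφ, s, hs, hsφ⟩ ⟨hψ, t, ht, htψ⟩ h
    refine ⟨F.comp_mem hφ hψ h, t * s, S.mul_mem ht hs, fun y => ?_⟩
    have h1 := hH t ht _ (hsφ y)
    have h2 := htψ ⟨φ y, h y⟩
    have h3 : (t * s * (y : Ω) * (t * s)⁻¹)⁻¹ * (ψ.comp (φ.codRestrict Q h)) y =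
        (t * ((s * (y : Ω) * s⁻¹)⁻¹ * φ y) * t⁻¹) * ((t * φ y * t⁻¹)⁻¹ * ψ ⟨φ y, h y⟩) := by
      show (t * s * (y : Ω) * (t * s)⁻¹)⁻¹ * ψ ⟨φ y, h y⟩ = _
      group
    rw [h3]
    exact H.mul_mem h1 h2
  inv_mem := by
    rintro P φ ⟨hφ, s, hs, hsφ⟩
    obtain ⟨ψ, hψ, hψφ⟩ := F.inv_mem hφ
    refine ⟨ψ, ⟨hψ, s⁻¹, S.inv_mem hs, ?_⟩, hψφ⟩
    rintro ⟨_, y, rfl⟩
    have h1 := hH s⁻¹ (S.inv_mem hs) _ (H.inv_mem (hsφ y))
    have h2 : (s⁻¹ * ((⟨φ y, ⟨y, rfl⟩⟩ : φ.range) : Ω) * s⁻¹⁻¹)⁻¹ * ψ ⟨φ y, ⟨y, rfl⟩⟩ =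
        s⁻¹ * ((s * (y : Ω) * s⁻¹)⁻¹ * φ y)⁻¹ * s⁻¹⁻¹ := by
      rw [hψφ y]
      show (s⁻¹ * φ y * s⁻¹⁻¹)⁻¹ * (y : Ω) = _
      group
    rw [h2]
    exact h1

theorem hyperfocal_le (F : FusionSystem S) (p : ℕ) : F.hyperfocalSubgroup p ≤ S := by
  unfold hyperfocalSubgroup
  rw [Subgroup.closure_le]
  rintro y ⟨P, α, x, hPS, -, rfl⟩
  exact S.mul_mem (S.inv_mem (hPS x.2)) (hPS ((α : MulAut P) x).2)

/-- S5124 -/
theorem hyperfocal_stronglyClosed [Finite S] (p : ℕ) [Fact p.Prime] (hS : IsPGroup p S)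
    (F : FusionSystem S) (hF : F.IsSaturated p) : F.StronglyClosed (F.hyperfocalSubgroup p) := by
  have hH : ∀ s ∈ S, ∀ h ∈ F.hyperfocalSubgroup p, s * h * s⁻¹ ∈ F.hyperfocalSubgroup p :=
    fun s hs h hh => hyperfocal_conj_mem F p hs hh
  have hle : F ≤ cosetSystem F _ hH := by
    apply alperin p hS F hF
    intro P hP
    have hPn : F.IsFullyNormalized P := by
      rcases hP with rfl | hP
      · exact fullyNormalized_top F
      · exact hP.2.1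
    have hPS := hPn.1
    obtain ⟨-, R, hR⟩ := fullyAutomized_of_fullyNormalized hS F hF hPn
    have hfinP : Finite P := finite_of_le hPS
    intro α hα
    rw [mem_autGroup_iff _ hPS]
    obtain ⟨t, ht, r, hr, hα'⟩ := exists_sylow_mul_pResidual R (⟨α, hα⟩ : F.autGroup P)
    rw [hR] at ht
    obtain ⟨g, hg, hgt⟩ := (mem_autInducedBy_iff S P _).mp (Subgroup.mem_subgroupOf.mp ht)
    refine ⟨hom_of_mem_autGroup F hPS hα, g, hg, fun y => ?_⟩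
    have hαy : ((α y : P) : Ω) = (((t : MulAut P) ((r : MulAut P) y) : P) : Ω) := by
      have := congrArg (fun a : F.autGroup P => (((a : MulAut P) y : P) : Ω)) hα'
      exact this
    show (g * (y : Ω) * g⁻¹)⁻¹ * ((α y : P) : Ω) ∈ _
    rw [hαy, hgt]
    have h1 : (y : Ω)⁻¹ * (((r : MulAut P) y : P) : Ω) ∈ F.hyperfocalSubgroup p :=
      Subgroup.subset_closure ⟨P, r, y, hPS, hr, rfl⟩
    have h2 := hH g hg _ h1
    have h3 : (g * (y : Ω) * g⁻¹)⁻¹ * (g * (((r : MulAut P) y : P) : Ω) * g⁻¹) =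
        g * ((y : Ω)⁻¹ * (((r : MulAut P) y : P) : Ω)) * g⁻¹ := by group
    rw [h3]
    exact h2
  refine ⟨hyperfocal_le F p, fun R hR φ hφ x => ?_⟩
  obtain ⟨-, s, hs, hsφ⟩ := hle R hφ
  have h1 := hsφ x
  have h2 := hH s hs _ (hR x.2)
  have h3 : φ x = (s * (x : Ω) * s⁻¹) * ((s * (x : Ω) * s⁻¹)⁻¹ * φ x) := by group
  rw [h3]
  exact Subgroup.mul_mem _ h2 h1

end Cfsg.Agent.Lib.Helper9
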