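import Cfsg.Agent.Lib.Helper9.HyperfocalFactor1
import Cfsg.Agent.Lib.Helper9.Hyperfocal2

set_option autoImplicit false

namespace Cfsg.Agent.Lib.Helper9

open Cfsg Cfsg.FusionSystem

variable {Ω : Type*} [Group Ω] {S : Subgroup Ω} {Ω' : Type*} [Group Ω']

/-- a `p'`-element of `Aut_F(P)` extends modulo `T` to a `p'`-element of `Aut_F(P T)` -/
theorem exists_pPrime_aut_sup_extendsMod [Finite S] {p : ℕ} [Fact p.Prime] (hS : IsPGroup p S)
    (F : FusionSystem S) (hF : F.IsSaturated p) {T : Subgroup Ω} (hT : F.StronglyClosed T)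
    {P : Subgroup Ω} (hP : P ≤ S) (a : F.autGroup P) (ha : Nat.Coprime (orderOf a) p) :
    ∃ g : F.autGroup (P ⊔ T), Nat.Coprime (orderOf g) p ∧ ∀ x : P,
      (((a : MulAut P) x : P) : Ω)⁻¹ *
        (((g : MulAut (P ⊔ T : Subgroup Ω)) (Subgroup.inclusion le_sup_left x) :
          (P ⊔ T : Subgroup Ω)) : Ω) ∈ T := by
  obtain ⟨β, hβ, hβa⟩ := exists_aut_sup_extendsMod hS F hF hT hP a.2
  have hRS : P ⊔ T ≤ S := sup_le hP hT.1
  have hfinR : Finite (P ⊔ T : Subgroup Ω) := finite_of_le hRS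
  obtain ⟨k, hk1, hkc⟩ := exists_pow_pPrime p (⟨β, hβ⟩ : F.autGroup (P ⊔ T)) (orderOf a) ha
  have hak : (a : MulAut P) ^ k = a := by
    have h1 : a ^ k = a ^ 1 := pow_eq_pow_iff_modEq.mpr hk1
    rw [pow_one] at h1
    have h2 := congrArg Subtype.val h1
    rwa [Subgroup.coe_pow] at h2
  refine ⟨⟨β, hβ⟩ ^ k, hkc, fun x => ?_⟩
  have hpow := pow_extendsMod F hT hP (a : MulAut P) hβ hβa k x
  rw [hak] at hpow
  rw [Subgroup.coe_pow]
  exact hpow

/-- S5256: the hyperfocal subgroup of a factor system -/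
theorem hyperfocal_factorSystem [Finite S] (p : ℕ) [Fact p.Prime] (hS : IsPGroup p S)
    (F : FusionSystem S) (hF : F.IsSaturated p) (T : Subgroup Ω) (hT : F.StronglyClosed T)
    {S' : Subgroup Ω'} (θ : S →* Ω') (E : FusionSystem S') (hE : F.IsFactorSystem T θ E) :
    E.hyperfocalSubgroup p = imageAlong θ (F.hyperfocalSubgroup p) := by
  have hE' := hE
  obtain ⟨hTS, hker, hrange, hHom⟩ := hE'
  apply le_antisymm
  · -- `hyp(E) ≤ θ(hyp F)`
    unfold hyperfocalSubgroup
    rw [Subgroup.closure_le]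
    rintro y' ⟨P', α', x', hP'S', hα', rfl⟩
    revert x'
    -- write `P'` as an image
    have hP'eq : P' = imageAlong θ (preimageAlong θ P') :=
      (imageAlong_preimageAlong θ hrange hP'S').symm
    have hTR : T ≤ preimageAlong θ P' := ker_le_preimageAlong θ hTS hker P'
    have hRS : preimageAlong θ P' ≤ S := preimageAlong_le θ P'
    generalize preimageAlong θ P' = R at hP'eq hTR hRS
    subst hP'eq
    obtain ⟨Φ, hΦsurj, hΦapp⟩ := exists_autFactorHom F hT θ E hE hRS hTR
    have hfinR : Finite R := finite_of_le hRS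
    unfold pResidual at hα'
    induction hα' using Subgroup.closure_induction with
    | mem a' ha' =>
      intro x'
      obtain ⟨b, hb⟩ := hΦsurj a'
      obtain ⟨k, hk1, hkc⟩ := exists_pow_pPrime p b (orderOf a') ha'
      have hbk : Φ (b ^ k) = a' := by
        rw [map_pow, hb]
        have h1 : a' ^ k = a' ^ 1 := pow_eq_pow_iff_modEq.mpr hk1
        rwa [pow_one] at h1
      obtain ⟨x, hxS, hxR, hx⟩ := (mem_imageAlong θ R _).mp x'.2
      have hx' : x' = ⟨θ ⟨(⟨x, hxR⟩ : R), hRS hxR⟩, map_mem_imageAlong θ hRS ⟨x, hxR⟩⟩ :=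
        Subtype.ext hx.symm
      rw [← hbk, hx', hΦapp]
      show (θ ⟨x, hxS⟩)⁻¹ * θ ⟨(((b ^ k : F.autGroup R) : MulAut R) ⟨x, hxR⟩ : R), _⟩ ∈ _
      rw [← map_inv, ← map_mul]
      have hmemS : x⁻¹ * ((((b ^ k : F.autGroup R) : MulAut R) ⟨x, hxR⟩ : R) : Ω) ∈ S :=
        S.mul_mem (S.inv_mem hxS) (hRS (((b ^ k : F.autGroup R) : MulAut R) ⟨x, hxR⟩).2)
      refine (mem_imageAlong θ _ _).mpr ⟨x⁻¹ * (((b ^ k : F.autGroup R) : MulAut R) ⟨x, hxR⟩ : R),
        hmemS, ?_, rfl⟩
      apply Subgroup.subset_closure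
      exact ⟨R, b ^ k, ⟨x, hxR⟩, hRS, Subgroup.subset_closure hkc, rfl⟩
    | one =>
      intro x'
      have : (x' : Ω')⁻¹ * ((((1 : E.autGroup (imageAlong θ R)) : MulAut _) x' :
          imageAlong θ R) : Ω') = 1 := by simp
      rw [this]
      exact Subgroup.one_mem _
    | mul a b _ _ iha ihb =>
      intro x'
      have : (x' : Ω')⁻¹ * ((((a * b : E.autGroup (imageAlong θ R)) : MulAut _) x' :
          imageAlong θ R) : Ω') =
          ((x' : Ω')⁻¹ * (((b : MulAut _) x' : imageAlong θ R) : Ω')) *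
            ((((b : MulAut _) x' : imageAlong θ R) : Ω')⁻¹ *
              (((a : MulAut _) ((b : MulAut _) x') : imageAlong θ R) : Ω')) := by
        rw [Subgroup.coe_mul, MulAut.mul_apply]
        group
      rw [this]
      exact Subgroup.mul_mem _ (ihb x') (iha _)
    | inv a _ iha =>
      intro x'
      have : (x' : Ω')⁻¹ * ((((a⁻¹ : E.autGroup (imageAlong θ R)) : MulAut _) x' :
          imageAlong θ R) : Ω') =
          (((((a : MulAut _)⁻¹ x' : imageAlong θ R) : Ω'))⁻¹ *
            (((a : MulAut _) ((a : MulAut _)⁻¹ x') : imageAlong θ R) : Ω'))⁻¹ := by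
        rw [Subgroup.coe_inv, MulAut.apply_inv_self]
        group
      rw [this]
      exact Subgroup.inv_mem _ (iha _)
  · -- `θ(hyp F) ≤ hyp(E)`
    intro y' hy'
    obtain ⟨y, hyS, hy, rfl⟩ := (mem_imageAlong θ _ y').mp hy'
    clear hy'
    revert hyS
    unfold hyperfocalSubgroup at hy
    induction hy using Subgroup.closure_induction with
    | mem y hy =>
      obtain ⟨P, α, x, hPS, hα, rfl⟩ := hy
      revert x
      unfold pResidual at hα
      induction hα using Subgroup.closure_induction with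
      | mem a ha =>
        intro x hyS
        obtain ⟨g, hgc, hga⟩ := exists_pPrime_aut_sup_extendsMod hS F hF hT hPS a ha
        have hRS : P ⊔ T ≤ S := sup_le hPS hTS
        obtain ⟨Φ, -, hΦapp⟩ := exists_autFactorHom F hT θ E hE hRS le_sup_right
        have hΦg : Φ g ∈ pResidual p (E.autGroup (imageAlong θ (P ⊔ T))) := by
          apply Subgroup.subset_closure
          show Nat.Coprime (orderOf (Φ g)) p
          exact Nat.Coprime.coprime_dvd_left (orderOf_map_dvd _ _) hgc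
        have hR'S' : imageAlong θ (P ⊔ T) ≤ S' := hrange ▸ imageAlong_le_range θ _
        have hgen : ((⟨θ ⟨(Subgroup.inclusion le_sup_left x : (P ⊔ T : Subgroup Ω)), hRS
              (Subgroup.inclusion le_sup_left x : (P ⊔ T : Subgroup Ω)).2⟩,
              map_mem_imageAlong θ hRS _⟩ : imageAlong θ (P ⊔ T)) : Ω')⁻¹ *
            (((Φ g : MulAut _) ⟨θ ⟨(Subgroup.inclusion le_sup_left x : (P ⊔ T : Subgroup Ω)), hRS
              (Subgroup.inclusion le_sup_left x : (P ⊔ T : Subgroup Ω)).2⟩,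
              map_mem_imageAlong θ hRS _⟩ : imageAlong θ (P ⊔ T)) : Ω') ∈
            E.hyperfocalSubgroup p := by
          apply Subgroup.subset_closure
          exact ⟨_, Φ g, _, hR'S', hΦg, rfl⟩
        rw [hΦapp] at hgen
        have ht := hga x
        have hxS : (x : Ω) ∈ S := hPS x.2
        have haxS : (((a : MulAut P) x : P) : Ω) ∈ S := hPS ((a : MulAut P) x).2
        have hgxS : (((g : MulAut (P ⊔ T : Subgroup Ω)) (Subgroup.inclusion le_sup_left x) :
            (P ⊔ T : Subgroup Ω)) : Ω) ∈ S :=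
          hRS ((g : MulAut (P ⊔ T : Subgroup Ω)) (Subgroup.inclusion le_sup_left x)).2
        have h1 : (⟨(x : Ω)⁻¹ * (((a : MulAut P) x : P) : Ω), hyS⟩ : S) =
            (⟨x, hxS⟩ : S)⁻¹ * ⟨_, hgxS⟩ * (⟨_, hTS ht⟩ : S)⁻¹ := by
          apply Subtype.ext
          simp only [Subgroup.coe_mul, Subgroup.coe_inv]
          group
        rw [h1, map_mul, map_mul, map_inv, map_inv, (hker ⟨_, hTS ht⟩).mpr ht, inv_one, mul_one]
        exact hgen
      | one =>
        intro x hyS
        have h1 : (⟨(x : Ω)⁻¹ * ((((1 : F.autGroup P) : MulAut P) x : P) : Ω), hyS⟩ : S) = 1 := by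
          apply Subtype.ext
          simp
        rw [h1, map_one]
        exact Subgroup.one_mem _
      | mul a b _ _ iha ihb =>
        intro x hyS
        have hxS : (x : Ω) ∈ S := hPS x.2
        have hbxS : (((b : MulAut P) x : P) : Ω) ∈ S := hPS ((b : MulAut P) x).2
        have habxS : (((a : MulAut P) ((b : MulAut P) x) : P) : Ω) ∈ S :=
          hPS ((a : MulAut P) ((b : MulAut P) x)).2
        have h1S : (x : Ω)⁻¹ * (((b : MulAut P) x : P) : Ω) ∈ S := S.mul_mem (S.inv_mem hxS) hbxS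
        have h2S : (((b : MulAut P) x : P) : Ω)⁻¹ *
            (((a : MulAut P) ((b : MulAut P) x) : P) : Ω) ∈ S :=
          S.mul_mem (S.inv_mem hbxS) habxS
        have h1 : (⟨(x : Ω)⁻¹ * ((((a * b : F.autGroup P) : MulAut P) x : P) : Ω), hyS⟩ : S) =
            ⟨_, h1S⟩ * ⟨_, h2S⟩ := by
          apply Subtype.ext
          show (x : Ω)⁻¹ * (((a : MulAut P) ((b : MulAut P) x) : P) : Ω) =
            ((x : Ω)⁻¹ * (((b : MulAut P) x : P) : Ω)) * ((((b : MulAut P) x : P) : Ω)⁻¹ *
              (((a : MulAut P) ((b : MulAut P) x) : P) : Ω))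
          group
        rw [h1, map_mul]
        exact Subgroup.mul_mem _ (ihb x h1S) (iha _ h2S)
      | inv a _ iha =>
        intro x hyS
        have hxS : (x : Ω) ∈ S := hPS x.2
        have haxS : (((a : MulAut P)⁻¹ x : P) : Ω) ∈ S := hPS ((a : MulAut P)⁻¹ x).2
        have h2S : (((a : MulAut P)⁻¹ x : P) : Ω)⁻¹ *
            (((a : MulAut P) ((a : MulAut P)⁻¹ x) : P) : Ω) ∈ S := by
          rw [MulAut.apply_inv_self]
          exact S.mul_mem (S.inv_mem haxS) hxS
        have h1 : (⟨(x : Ω)⁻¹ * ((((a⁻¹ : F.autGroup P) : MulAut P) x : P) : Ω), hyS⟩ : S) =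
            (⟨_, h2S⟩ : S)⁻¹ := by
          apply Subtype.ext
          show (x : Ω)⁻¹ * (((a : MulAut P)⁻¹ x : P) : Ω) =
            ((((a : MulAut P)⁻¹ x : P) : Ω)⁻¹ *
              (((a : MulAut P) ((a : MulAut P)⁻¹ x) : P) : Ω))⁻¹
          rw [MulAut.apply_inv_self]
          group
        rw [h1, map_inv]
        exact Subgroup.inv_mem _ (iha _ h2S)
    | one =>
      intro hyS
      have : (⟨1, hyS⟩ : S) = 1 := rfl
      rw [this, map_one]
      exact Subgroup.one_mem _
    | mul a b ha hb iha ihb =>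
      intro hyS
      have haS : a ∈ S := hyperfocal_le F p ha
      have hbS : b ∈ S := hyperfocal_le F p hb
      have : (⟨a * b, hyS⟩ : S) = ⟨a, haS⟩ * ⟨b, hbS⟩ := rfl
      rw [this, map_mul]
      exact Subgroup.mul_mem _ (iha haS) (ihb hbS)
    | inv a ha iha =>
      intro hyS
      have haS : a ∈ S := hyperfocal_le F p ha
      have : (⟨a⁻¹, hyS⟩ : S) = (⟨a, haS⟩ : S)⁻¹ := rfl
      rw [this, map_inv]
      exact Subgroup.inv_mem _ (iha haS)

end Cfsg.Agent.Lib.Helper9
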