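import Cfsg.Agent.Lib.Helper9.SubgroupSystem1
import Cfsg.Agent.Lib.Helper9.SylowConj2
import Cfsg.Agent.Lib.Helper9.GroupFusionAut
import Cfsg.Agent.Lib.Helper2.SylowNormal

set_option autoImplicit false

namespace Cfsg.Agent.Lib.Helper9

open Cfsg Cfsg.FusionSystem

variable {G : Type*} [Group G]

theorem fusionSystemOfSubgroup_isSubsystemOf (S H : Subgroup G) :
    (fusionSystemOfSubgroup H (S ⊓ H) inf_le_right).IsSubsystemOf (groupFusionSystem S) := by
  rintro P φ ⟨hP, hφT, g, -, hg⟩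
  exact ⟨hP.trans inf_le_left, fun x => (hφT x).1, g, hg⟩

theorem inf_normal_stronglyClosed (S H : Subgroup G) [hH : H.Normal] :
    (groupFusionSystem S).StronglyClosed (S ⊓ H) := by
  refine ⟨inf_le_left, ?_⟩
  rintro R hR φ ⟨-, hφS, g, hg⟩ x
  refine ⟨hφS x, ?_⟩
  rw [hg]
  exact hH.conj_mem _ (hR x.2).2 g

/-- if `g T g⁻¹ ≤ T` for a finite subgroup then `g` normalizes `T` -/
theorem mem_normalizer_of_cj_le' [Finite G] {T : Subgroup G} {g : G}
    (h : T.map (MulAut.conj g).toMonoidHom ≤ T) : g ∈ Subgroup.normalizer (T : Set G) := by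
  have heq : T.map (MulAut.conj g).toMonoidHom = T := by
    apply Subgroup.eq_of_le_of_card_ge h
    rw [card_cj]
  rw [Subgroup.mem_normalizer_iff]
  intro x
  constructor
  · intro hx
    exact h ⟨x, hx, rfl⟩
  · intro hx
    rw [← heq] at hx
    obtain ⟨y, hy, hyx⟩ := hx
    have h1 : g * y * g⁻¹ = g * x * g⁻¹ := hyx
    have h2 : y = x := mul_left_cancel (mul_right_cancel h1)
    rwa [← h2]

/-- the fusion system of a normal subgroup `H` on `S ∩ H` is invariant in the fusion system of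
`G` on the Sylow subgroup `S` -/
theorem fusionSystemOfSubgroup_invariant [Finite G] (p : ℕ) [Fact p.Prime] (S : Sylow p G)
    (H : Subgroup G) [hH : H.Normal] :
    (fusionSystemOfSubgroup H ((S : Subgroup G) ⊓ H) inf_le_right).IsInvariantIn
      (groupFusionSystem (S : Subgroup G)) := by
  refine ⟨fusionSystemOfSubgroup_isSubsystemOf _ H, inf_normal_stronglyClosed _ H, ?_, ?_⟩
  · rintro P hPT φ ⟨-, hφT, h, hhH, hh⟩ α hα
    rw [groupFusion_autGroup_eq inf_le_left, mem_autInducedBy_iff] at hα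
    obtain ⟨n, -, hn⟩ := hα
    have hP₁T : (P.subgroupOf ((S : Subgroup G) ⊓ H)).map
        (((S : Subgroup G) ⊓ H).subtype.comp α.toMonoidHom) ≤ (S : Subgroup G) ⊓ H := by
      rintro _ ⟨t, -, rfl⟩
      exact (α t).2
    have hval : ∀ y : ((P.subgroupOf ((S : Subgroup G) ⊓ H)).map
        (((S : Subgroup G) ⊓ H).subtype.comp α.toMonoidHom) : Subgroup G),
        (n * h * n⁻¹) * (y : G) * (n * h * n⁻¹)⁻¹ ∈ (S : Subgroup G) ⊓ H := by
      rintro ⟨_, t, ht, rfl⟩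
      show (n * h * n⁻¹) * ((α t : ((S : Subgroup G) ⊓ H : Subgroup G)) : G) * (n * h * n⁻¹)⁻¹ ∈ _
      rw [hn t]
      have h1 : (n * h * n⁻¹) * (n * (t : G) * n⁻¹) * (n * h * n⁻¹)⁻¹ =
          n * (h * (t : G) * h⁻¹) * n⁻¹ := by group
      rw [h1]
      have h2 : h * (t : G) * h⁻¹ ∈ (S : Subgroup G) ⊓ H := by
        have := hφT ⟨t, ht⟩
        rwa [hh] at this
      have h3 := hn ⟨_, h2⟩
      rw [← h3]
      exact (α ⟨_, h2⟩).2
    refine ⟨conjHom _ (n * h * n⁻¹), ⟨hP₁T, hval, n * h * n⁻¹, hH.conj_mem h hhH n, fun _ => rfl⟩, ?_⟩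
    intro x hφx hαx
    show (n * h * n⁻¹) * ((α ⟨x, hPT x.2⟩ : ((S : Subgroup G) ⊓ H : Subgroup G)) : G) *
      (n * h * n⁻¹)⁻¹ = _
    rw [hn, hn]
    show _ = n * (φ x) * n⁻¹
    rw [hh]
    group
  · rintro P hPT φ ⟨-, hφS, g, hg⟩
    obtain ⟨R, hR⟩ := Cfsg.Agent.Lib.Helper2.exists_sylow_eq_inf_normal S H
    have hTp : IsPGroup p ((S : Subgroup G) ⊓ H : Subgroup G) := S.isPGroup'.to_le inf_le_left
    have hU : ((S : Subgroup G) ⊓ H).map (MulAut.conj g).toMonoidHom ≤ H := by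
      rintro _ ⟨t, ht, rfl⟩
      exact hH.conj_mem t ht.2 g
    obtain ⟨h, hhH, hle⟩ := exists_cj_le_of_sylowIn R hR hU (isPGroup_cj g hTp)
    rw [cj_cj] at hle
    have hnN : h * g ∈ Subgroup.normalizer (((S : Subgroup G) ⊓ H : Subgroup G) : Set G) :=
      mem_normalizer_of_cj_le' hle
    have hα : conjAut _ ⟨h * g, hnN⟩ ∈ (groupFusionSystem (S : Subgroup G)).autGroup
        ((S : Subgroup G) ⊓ H) := by
      rw [groupFusion_autGroup_eq inf_le_left, mem_autInducedBy_iff]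
      exact ⟨h * g, Subgroup.mem_top _, fun x => rfl⟩
    have hφT : ∀ x : P, g * (x : G) * g⁻¹ ∈ (S : Subgroup G) ⊓ H := by
      intro x
      refine ⟨?_, hH.conj_mem _ (hPT x.2).2 g⟩
      rw [← hg]
      exact hφS x
    have hval : ∀ x : P, ((h * g)⁻¹ * g) * (x : G) * ((h * g)⁻¹ * g)⁻¹ ∈ (S : Subgroup G) ⊓ H := by
      intro x
      have h1 : ((h * g)⁻¹ * g) * (x : G) * ((h * g)⁻¹ * g)⁻¹ =
          (h * g)⁻¹ * (g * (x : G) * g⁻¹) * (h * g) := by group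
      rw [h1]
      exact conj_inv_mem_of_mem_normalizer hnN (hφT x)
    have hmemH : (h * g)⁻¹ * g ∈ H := by
      have h1 : (h * g)⁻¹ * g = g⁻¹ * h⁻¹ * g⁻¹⁻¹ := by group
      rw [h1]
      exact hH.conj_mem _ (H.inv_mem hhH) _
    refine ⟨conjAut _ ⟨h * g, hnN⟩, hα, conjHom P ((h * g)⁻¹ * g),
      ⟨hPT, hval, _, hmemH, fun _ => rfl⟩, ?_⟩
    intro x hx
    rw [hg, conjAut_apply]
    show g * (x : G) * g⁻¹ = (h * g) * (((h * g)⁻¹ * g) * (x : G) * ((h * g)⁻¹ * g)⁻¹) * (h * g)⁻¹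
    group

end Cfsg.Agent.Lib.Helper9
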