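import Cfsg.Agent.Lib.Helper9.HyperfocalGroup1
import Cfsg.Agent.Lib.Helper9.HyperfocalFactor2
import Cfsg.Agent.Lib.Helper9.SubgroupSystem2
import Cfsg.Agent.Lib.Helper2.SylowNormal
import Mathlib.GroupTheory.Focal

set_option autoImplicit false

universe u

namespace Cfsg.Agent.Lib.Helper9

open Cfsg Cfsg.FusionSystem
open scoped commutatorElement

/-- the hyperfocal subgroup of a subsystem over a subgroup is smaller -/
theorem hyperfocal_le_of_subsystem {Ω : Type*} [Group Ω] {S T : Subgroup Ω} (E : FusionSystem T)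
    (F : FusionSystem S) (hTS : T ≤ S) (hEF : E.IsSubsystemOf F) (p : ℕ) :
    E.hyperfocalSubgroup p ≤ F.hyperfocalSubgroup p := by
  unfold hyperfocalSubgroup
  apply Subgroup.closure_mono
  rintro y ⟨P, α, x, hPT, hα, rfl⟩
  have hle : E.autGroup P ≤ F.autGroup P := Subgroup.closure_mono (fun a ha => hEF P ha)
  refine ⟨P, Subgroup.inclusion hle α, x, hPT.trans hTS, ?_, rfl⟩
  exact map_pResidual_le p (Subgroup.inclusion hle) (Subgroup.inclusion_injective hle) ⟨α, hα, rfl⟩

variable {G : Type*} [Group G]

/-- the group-theoretic focal subgroup lies in the focal subgroup of the fusion system -/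
theorem focalSubgroup_le_focal (S : Subgroup G) :
    Subgroup.focalSubgroup S ≤ (groupFusionSystem S).focalSubgroup := by
  rw [Subgroup.focalSubgroup_def, Subgroup.closure_le]
  rintro g ⟨hgS, x, hxS, u, rfl⟩
  unfold focalSubgroup
  apply Subgroup.subset_closure
  have hux : u * x⁻¹ * u⁻¹ ∈ S := by
    have : u * x⁻¹ * u⁻¹ = x⁻¹ * ⁅x, u⁆ := by rw [commutatorElement_def]; group
    rw [this]
    exact S.mul_mem (S.inv_mem hxS) hgS
  have hux' : u * x * u⁻¹ ∈ S := by
    have : u * x * u⁻¹ = (u * x⁻¹ * u⁻¹)⁻¹ := by group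
    rw [this]
    exact S.inv_mem hux
  have huxk : ∀ y : Subgroup.zpowers x, conjHom (Subgroup.zpowers x) u y ∈ S := by
    rintro ⟨y, k, rfl⟩
    show MulAut.conj u (x ^ k) ∈ S
    rw [map_zpow]
    exact S.zpow_mem hux' k
  refine ⟨Subgroup.zpowers x, conjHom _ u, ⟨x⁻¹, inv_mem (Subgroup.mem_zpowers x)⟩,
    ⟨(Subgroup.zpowers_le.mpr hxS), huxk, u, fun y => rfl⟩, ?_⟩
  show ⁅x, u⁆ = (x⁻¹)⁻¹ * (u * x⁻¹ * u⁻¹)
  rw [commutatorElement_def]
  group

theorem le_hyperfocal_groupFusion_aux (p : ℕ) [Fact p.Prime] :
    ∀ n : ℕ, ∀ (G : Type u) [Group G] [Finite G], Nat.card G = n → ∀ S : Sylow p G,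
      (S : Subgroup G) ⊓ pResidual p G ≤
        (groupFusionSystem (S : Subgroup G)).hyperfocalSubgroup p := by
  intro n
  induction n using Nat.strong_induction_on with
  | _ n ih =>
    intro G _ _ hn S
    have hS : IsPGroup p (S : Subgroup G) := S.isPGroup'
    have hF : (groupFusionSystem (S : Subgroup G)).IsSaturated p := groupFusion_saturated S
    have hNS : (S : Subgroup G).transferFocal.ker ⊓ S = (S : Subgroup G).focalSubgroup :=
      Subgroup.ker_transferFocal_inf_eq_focalSubgroup S
    have hpN : ∀ g : G, Nat.Coprime (orderOf g) p → g ∈ (S : Subgroup G).transferFocal.ker := by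
      intro g hg
      rw [MonoidHom.mem_ker]
      have hQ : IsPGroup p ((S : Subgroup G) ⧸ (S : Subgroup G).focalSubgroupOf) :=
        S.2.to_quotient _
      obtain ⟨k, hk⟩ := hQ ((S : Subgroup G).transferFocal g)
      have h1 : orderOf ((S : Subgroup G).transferFocal g) ∣ p ^ k := orderOf_dvd_of_pow_eq_one hk
      have h2 : orderOf ((S : Subgroup G).transferFocal g) ∣ orderOf g := orderOf_map_dvd _ g
      have h3 : orderOf ((S : Subgroup G).transferFocal g) = 1 :=
        Nat.eq_one_of_dvd_coprimes (Nat.Coprime.pow_right k hg) h2 h1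
      exact orderOf_eq_one_iff.mp h3
    by_cases htop : (S : Subgroup G).transferFocal.ker = ⊤
    · have h1 : (S : Subgroup G) ≤ (groupFusionSystem (S : Subgroup G)).hyperfocalSubgroup p ⊔
          ⁅(S : Subgroup G), (S : Subgroup G)⁆ := by
        rw [← focal_eq_hyperfocal_sup_commutator p hS _ hF]
        refine le_trans ?_ (focalSubgroup_le_focal (S : Subgroup G))
        rw [← hNS, htop, top_inf_eq]
      have h2 := le_of_le_sup_commutator hS (hyperfocal_le _ p)
        (fun s hs h hh => hyperfocal_conj_mem _ p hs hh) h1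
      exact inf_le_left.trans h2
    · have hcard : Nat.card (S : Subgroup G).transferFocal.ker < n := by
        rw [← hn]
        apply lt_of_le_of_ne (Subgroup.card_le_card_group _)
        intro h
        exact htop (Subgroup.eq_top_of_card_eq _ h)
      obtain ⟨S₁, hS₁⟩ := Cfsg.Agent.Lib.Helper2.exists_sylow_eq_inf_normal S
        (S : Subgroup G).transferFocal.ker
      have ih' := ih _ hcard (S : Subgroup G).transferFocal.ker rfl S₁
      rintro g ⟨hgS, hgR⟩
      have hle : pResidual p G ≤
          (pResidual p (S : Subgroup G).transferFocal.ker).map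
            (S : Subgroup G).transferFocal.ker.subtype := by
        unfold pResidual
        rw [Subgroup.closure_le]
        intro g hg
        refine ⟨⟨g, hpN g hg⟩, Subgroup.subset_closure ?_, rfl⟩
        show Nat.Coprime (orderOf (⟨g, hpN g hg⟩ : (S : Subgroup G).transferFocal.ker)) p
        rw [Subgroup.orderOf_mk]
        exact hg
      obtain ⟨g₁, hg₁, rfl⟩ := hle hgR
      have hg₁S : g₁ ∈ (S₁ : Subgroup (S : Subgroup G).transferFocal.ker) := by
        rw [hS₁]
        exact Subgroup.mem_subgroupOf.mpr ⟨hgS, g₁.2⟩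
      have h3 := ih' ⟨hg₁S, hg₁⟩
      rw [hS₁] at h3
      have hfac := isFactorSystem_fusionSystemOfSubgroup (S : Subgroup G).transferFocal.ker
        ((S : Subgroup G) ⊓ (S : Subgroup G).transferFocal.ker) inf_le_right
      have hsat₁ : (groupFusionSystem (((S : Subgroup G) ⊓
          (S : Subgroup G).transferFocal.ker).subgroupOf
            (S : Subgroup G).transferFocal.ker)).IsSaturated p := by
        rw [← hS₁]
        exact groupFusion_saturated S₁
      have hp₁ : IsPGroup p (((S : Subgroup G) ⊓
          (S : Subgroup G).transferFocal.ker).subgroupOf (S : Subgroup G).transferFocal.ker) := by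
        rw [← hS₁]
        exact S₁.isPGroup'
      have hhyp := hyperfocal_factorSystem p hp₁ _ hsat₁ ⊥ (stronglyClosed_bot _)
        (inclSub _ _) _ hfac
      have h4 : ((g₁ : (S : Subgroup G).transferFocal.ker) : G) ∈
          (fusionSystemOfSubgroup (S : Subgroup G).transferFocal.ker
            ((S : Subgroup G) ⊓ (S : Subgroup G).transferFocal.ker)
            inf_le_right).hyperfocalSubgroup p := by
        rw [hhyp, mem_imageAlong]
        exact ⟨g₁, hyperfocal_le _ p h3, h3, rfl⟩
      exact hyperfocal_le_of_subsystem _ _ inf_le_left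
        (fusionSystemOfSubgroup_isSubsystemOf (S : Subgroup G) _) p h4

/-- S5093: the hyperfocal subgroup theorem -/
theorem hyperfocal_groupFusion_eq {G : Type u} [Group G] [Finite G] (p : ℕ) [Fact p.Prime]
    (S : Sylow p G) :
    (groupFusionSystem (S : Subgroup G)).hyperfocalSubgroup p =
      (S : Subgroup G) ⊓ pResidual p G :=
  le_antisymm (hyperfocal_groupFusion_le p (S : Subgroup G))
    (le_hyperfocal_groupFusion_aux p _ G rfl S)

end Cfsg.Agent.Lib.Helper9
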