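import Cfsg.Agent.Lib.Helper9.NormalCrit

set_option autoImplicit false

namespace Cfsg.Agent.Lib.Helper9

open Cfsg Cfsg.FusionSystem

variable {Ω : Type*} [Group Ω] {S : Subgroup Ω}

/-- a fully normalized centric radical subgroup whose automizer has a normal Sylow `p`-subgroup
is all of `S` -/
theorem eq_top_of_normal_sylow_aut [Finite S] {p : ℕ} [Fact p.Prime] (hS : IsPGroup p S)
    (F : FusionSystem S) (hF : F.IsSaturated p) {P : Subgroup Ω} (hPn : F.IsFullyNormalized P)
    (hPc : F.IsCentric P) (hPr : F.IsRadical p P)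
    (hR : ∃ R : Sylow p ↥(F.autGroup P), (R : Subgroup ↥(F.autGroup P)).Normal) : P = S := by
  have hPS := hPn.1
  have hfinP : Finite P := finite_of_le hPS
  have hC : centralizerIn S P ≤ P := hPc.2 P (isConj_refl F hPS)
  obtain ⟨R, hRn⟩ := hR
  obtain ⟨-, T, hT⟩ := fullyAutomized_of_fullyNormalized hS F hF hPn
  have hRT : (R : Subgroup (F.autGroup P)) ≤ T := IsPGroup.le_sylow_of_normal R.isPGroup' T
  have hTR : (T : Subgroup (F.autGroup P)) = R := R.is_maximal' T.isPGroup' hRT
  have hTn : ((autInducedBy S P).subgroupOf (F.autGroup P)).Normal := by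
    rw [← hT, hTR]
    exact hRn
  have hTp : IsPGroup p ((autInducedBy S P).subgroupOf (F.autGroup P)) := by
    rw [← hT]
    exact T.isPGroup'
  have hle := le_pCore' hTn hTp
  by_contra hne
  have hlt : P < S := lt_of_le_of_ne hPS hne
  obtain ⟨g, hgN, hgP⟩ := exists_mem_normalizerIn_not_mem hS hlt
  have hcg : conjAut P ⟨g, hgN.2⟩ ∈ autInducedBy S P := by
    rw [mem_autInducedBy_iff]
    exact ⟨g, hgN.1, fun x => rfl⟩
  have hcgA := autInducedBy_le_autGroup F hPS hcg
  have h1 : (⟨conjAut P ⟨g, hgN.2⟩, hcgA⟩ : F.autGroup P) ∈ pCore p (F.autGroup P) := hle hcg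
  have h2 : conjAut P ⟨g, hgN.2⟩ ∈ Inn P := by
    rw [← hPr.2]
    exact ⟨_, h1, rfl⟩
  exact not_mem_inn_of_not_mem hC hgN.1 hgP hPS (fun x => rfl) h2

/-- S5301 -/
theorem top_normal_of_normal_sylow_auts [Finite S] (p : ℕ) [Fact p.Prime] (hS : IsPGroup p S)
    (F : FusionSystem S) (hF : F.IsSaturated p)
    (hcl : ∀ P : Subgroup Ω, F.IsFullyNormalized P → F.IsCentric P → F.IsRadical p P →
      ∃ R : Sylow p ↥(F.autGroup P), (R : Subgroup ↥(F.autGroup P)).Normal) :
    F.IsNormal S := by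
  rw [normal_iff_essential_invariant p hS F hF]
  intro P hP
  have hPeq : P = S := by
    rcases hP with rfl | hP
    · rfl
    · have hr := Cfsg.Agent.S5080.result p hS F hF P hP
      exact eq_top_of_normal_sylow_aut hS F hF hP.2.1 hP.1 hr (hcl P hP.2.1 hP.1 hr)
  subst hPeq
  refine ⟨le_rfl, fun α _ => ?_⟩
  rw [Subgroup.subgroupOf_self]
  exact Subgroup.map_top_of_surjective _ α.surjective

end Cfsg.Agent.Lib.Helper9
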