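import Mathlib
import Cfsg.Agent.Lib.Helper7.JMDefs

set_option autoImplicit false

open MulAction
open scoped Pointwise
open Cfsg.Agent.Lib.Helper7.JM Cfsg.Agent.Lib.Helper7.JS

universe u v

namespace Cfsg.Agent.Lib.Helper9.JM

/-- The permutation induced by the `3`-cycle element of `Has3`. -/
theorem toPerm_eq_of_three {G : Type*} {Ω : Type*} [Group G] [MulAction G Ω] [DecidableEq Ω]
    {g : G} {a b c : Ω} (hab : a ≠ b) (hbc : b ≠ c) (hac : a ≠ c) (h1 : g • a = b)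
    (h2 : g • b = c) (h3 : g • c = a) (h4 : ∀ x, x ≠ a → x ≠ b → x ≠ c → g • x = x) :
    (MulAction.toPerm g : Equiv.Perm Ω) = Equiv.swap a c * Equiv.swap a b := by
  ext x
  rw [MulAction.toPerm_apply, Equiv.Perm.mul_apply]
  by_cases hxa : x = a
  · subst hxa
    rw [Equiv.swap_apply_left, Equiv.swap_apply_of_ne_of_ne (Ne.symm hab) hbc, h1]
  by_cases hxb : x = b
  · subst hxb
    rw [Equiv.swap_apply_right, Equiv.swap_apply_left, h2]
  by_cases hxc : x = c
  · subst hxc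
    rw [Equiv.swap_apply_of_ne_of_ne (Ne.symm hac) (Ne.symm hbc), Equiv.swap_apply_right, h3]
  rw [Equiv.swap_apply_of_ne_of_ne hxa hxb, Equiv.swap_apply_of_ne_of_ne hxa hxc, h4 x hxa hxb hxc]

/-- PIECE L'. -/
theorem exists_toPerm_eq_of_has3 {G : Type*} {Ω : Type*} [Group G] [MulAction G Ω] [Fintype Ω]
    [DecidableEq Ω] (hprim : IsPreprimitive G Ω) (h3 : Has3 G Ω) (σ : Equiv.Perm Ω)
    (hσ : Equiv.Perm.sign σ = 1) : ∃ x : G, (MulAction.toPerm x : Equiv.Perm Ω) = σ := by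
  obtain ⟨g, a, b, c, hab, hbc, hac, h1, h2, h3', h4⟩ := h3
  set H : Subgroup (Equiv.Perm Ω) := (MulAction.toPermHom G Ω).range with hH
  -- `H` is primitive on `Ω`
  let φ : G → H := (MulAction.toPermHom G Ω).rangeRestrict
  let f : Ω →ₑ[φ] Ω := { toFun := id, map_smul' := fun _ _ => rfl }
  have hHprim : IsPreprimitive H Ω :=
    IsPreprimitive.of_surjective (f := f) (fun x => ⟨x, rfl⟩)
  have hg : (MulAction.toPerm g : Equiv.Perm Ω) ∈ H := ⟨g, rfl⟩
  have h3c : (MulAction.toPerm g : Equiv.Perm Ω).IsThreeCycle := by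
    rw [toPerm_eq_of_three hab hbc hac h1 h2 h3' h4]
    exact Equiv.Perm.isThreeCycle_swap_mul_swap_same hac hab (Ne.symm hbc)
  have hle : alternatingGroup Ω ≤ H :=
    Equiv.Perm.alternatingGroup_le_of_isPreprimitive_of_isThreeCycle_mem hHprim h3c hg
  have hσH : σ ∈ H := hle (Equiv.Perm.mem_alternatingGroup.2 hσ)
  obtain ⟨x, hx⟩ := hσH
  exact ⟨x, hx⟩

/-- PIECE L. -/
theorem pretransitive_of_has3 {G : Type*} {Ω : Type*} [Group G] [MulAction G Ω] [Finite Ω]
    (hprim : IsPreprimitive G Ω) (h3 : Has3 G Ω) :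
    IsMultiplyPretransitive G Ω (Nat.card Ω - 2) := by
  classical
  haveI : Fintype Ω := Fintype.ofFinite Ω
  rw [isMultiplyPretransitive_iff]
  intro x y
  haveI := alternatingGroup.isMultiplyPretransitive Ω
  obtain ⟨σ, hσ⟩ := exists_smul_eq (alternatingGroup Ω) x y
  obtain ⟨g, hg⟩ := exists_toPerm_eq_of_has3 hprim h3 (σ : Equiv.Perm Ω)
    (Equiv.Perm.mem_alternatingGroup.1 σ.2)
  refine ⟨g, ?_⟩
  ext i
  have := congrArg (fun e : Fin (Nat.card Ω - 2) ↪ Ω => e i) hσ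
  simp only [Function.Embedding.smul_apply] at this
  rw [Function.Embedding.smul_apply, ← this, ← MulAction.toPerm_apply, hg]
  rfl

end Cfsg.Agent.Lib.Helper9.JM
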