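import Mathlib
import Cfsg.Prelude.Def_TwoFusion

set_option autoImplicit false

/-! Farm JR (S3206): definitions. -/

namespace Cfsg.Agent.Lib.Helper9.JRDefs

/-- `PSL₂(F)` -/
abbrev PSL2 (F : Type*) [Field F] := Matrix.ProjectiveSpecialLinearGroup (Fin 2) F

/-- `Q` is a Sylow `p`-subgroup of `K` (both subgroups of `G`). -/
def IsSylowIn {G : Type*} [Group G] (p : ℕ) (Q K : Subgroup G) : Prop :=
  Q ≤ K ∧ IsPGroup p Q ∧ ¬ p ∣ Q.relIndex K

/-- The hypotheses of S3206, flattened to subgroups of `G`: `t` an involution whose centralizer is a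
maximal subgroup and equals `⟨t⟩ × E`; `NG ≤ E` is normalized by `E`, isomorphic to `PSL₂(F)`, `|F|` odd
and `> 3`, and no nontrivial element of `E` centralizes `NG`. All Sylow 2-subgroups of the simple
nonabelian group `G` are abelian. -/
structure JR (G : Type*) [Group G] (F : Type*) [Field F] [Fintype F] where
  t : G
  E : Subgroup G
  NG : Subgroup G
  simple : IsSimpleGroup G
  perfect : commutator G = ⊤
  hab : ∀ S : Sylow 2 G, ∀ a ∈ S, ∀ b ∈ S, a * b = b * a
  ht : orderOf t = 2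
  hmax : IsCoatom (Subgroup.centralizer ({t} : Set G))
  hE : Cfsg.IsInternalDirectProduct (Subgroup.zpowers t) E (Subgroup.centralizer ({t} : Set G))
  hNE : NG ≤ E
  hnorm : ∀ e ∈ E, ∀ x ∈ NG, e * x * e⁻¹ ∈ NG
  hcent : ∀ e ∈ E, (∀ x ∈ NG, e * x = x * e) → e = 1
  iso : Nonempty (↥NG ≃* PSL2 F)
  hFo : Odd (Fintype.card F)
  hF3 : 3 < Fintype.card F

/-- a Sylow 2-subgroup containing the involution `t` -/
theorem JR.exists_sylow {G : Type*} [Group G] [Finite G] {F : Type*} [Field F] [Fintype F]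
    (X : JR G F) : ∃ S : Sylow 2 G, X.t ∈ S := by
  have h2 : IsPGroup 2 (Subgroup.zpowers X.t) := by
    apply IsPGroup.of_card (n := 1)
    rw [Nat.card_zpowers, X.ht, pow_one]
  obtain ⟨S, hS⟩ := h2.exists_le_sylow
  exact ⟨S, hS (Subgroup.mem_zpowers X.t)⟩

/-- `t ≠ 1` -/
theorem JR.t_ne_one {G : Type*} [Group G] {F : Type*} [Field F] [Fintype F] (X : JR G F) :
    X.t ≠ 1 := by
  intro h
  have := X.ht
  rw [h, orderOf_one] at this
  omega

/-- `t * t = 1` -/
theorem JR.t_mul_self {G : Type*} [Group G] {F : Type*} [Field F] [Fintype F] (X : JR G F) :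
    X.t * X.t = 1 := by
  have := pow_orderOf_eq_one X.t
  rwa [X.ht, pow_two] at this

/-- `E ≤ C_G(t)` -/
theorem JR.E_le {G : Type*} [Group G] {F : Type*} [Field F] [Fintype F] (X : JR G F) :
    X.E ≤ Subgroup.centralizer ({X.t} : Set G) := X.hE.2.1

/-- every Sylow 2-subgroup containing `t` lies in `C_G(t)` -/
theorem JR.sylow_le {G : Type*} [Group G] {F : Type*} [Field F] [Fintype F] (X : JR G F)
    (S : Sylow 2 G) (htS : X.t ∈ S) :
    (S : Subgroup G) ≤ Subgroup.centralizer ({X.t} : Set G) := by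
  intro s hs
  rw [Subgroup.mem_centralizer_singleton_iff]
  exact X.hab S s hs X.t htS

/-- every element of `C_G(t)` is `e` or `t * e` with `e ∈ E` -/
theorem JR.mem_C {G : Type*} [Group G] {F : Type*} [Field F] [Fintype F] (X : JR G F)
    (c : G) (hc : c ∈ Subgroup.centralizer ({X.t} : Set G)) :
    ∃ e ∈ X.E, c = e ∨ c = X.t * e := by
  obtain ⟨h1, h2, h3, h4, h5⟩ := X.hE
  rw [← h5] at hc
  have hte : ∀ e ∈ X.E, X.t * e = e * X.t := fun e he => h3 X.t (Subgroup.mem_zpowers _) e he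
  have htt := X.t_mul_self
  let D : Subgroup G :=
    { carrier := {x | ∃ e ∈ X.E, x = e ∨ x = X.t * e}
      one_mem' := ⟨1, one_mem _, Or.inl rfl⟩
      mul_mem' := by
        rintro a b ⟨e1, he1, h6⟩ ⟨e2, he2, h7⟩
        have hte1 := hte e1 he1
        refine ⟨e1 * e2, mul_mem he1 he2, ?_⟩
        rcases h6 with rfl | rfl <;> rcases h7 with rfl | rfl
        · left; rfl
        · right
          rw [← mul_assoc, ← hte1, mul_assoc]
        · right
          rw [mul_assoc]
        · left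
          calc X.t * e1 * (X.t * e2) = X.t * (e1 * X.t) * e2 := by group
            _ = X.t * (X.t * e1) * e2 := by rw [hte1]
            _ = (X.t * X.t) * e1 * e2 := by group
            _ = e1 * e2 := by rw [htt, one_mul]
      inv_mem' := by
        rintro a ⟨e1, he1, h6⟩
        have hte1 := hte e1⁻¹ (inv_mem he1)
        refine ⟨e1⁻¹, inv_mem he1, ?_⟩
        rcases h6 with rfl | rfl
        · left; rfl
        · right
          have : X.t⁻¹ = X.t := inv_eq_of_mul_eq_one_right htt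
          rw [mul_inv_rev, this, hte1] }
  have hD : Subgroup.zpowers X.t ⊔ X.E ≤ D := by
    apply sup_le
    · rw [Subgroup.zpowers_le]
      exact ⟨1, one_mem _, Or.inr (mul_one _).symm⟩
    · intro b hb
      exact ⟨b, hb, Or.inl rfl⟩
  exact hD hc

/-- `t ∉ E` -/
theorem JR.t_not_mem_E {G : Type*} [Group G] {F : Type*} [Field F] [Fintype F] (X : JR G F) :
    X.t ∉ X.E := by
  intro h
  have h1 : X.t ∈ Subgroup.zpowers X.t ⊓ X.E := ⟨Subgroup.mem_zpowers _, h⟩
  rw [X.hE.2.2.2.1, Subgroup.mem_bot] at h1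
  exact X.t_ne_one h1

/-- `t` commutes with `E` -/
theorem JR.t_comm {G : Type*} [Group G] {F : Type*} [Field F] [Fintype F] (X : JR G F)
    (e : G) (he : e ∈ X.E) : X.t * e = e * X.t :=
  X.hE.2.2.1 X.t (Subgroup.mem_zpowers _) e he

end Cfsg.Agent.Lib.Helper9.JRDefs
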