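import Mathlib
import Cfsg.Agent.S0116

/-! Farm LBAL (S1301), unit TC2: control of fusion of single elements of `S` by the fixed points
of `α`, from the local statement `hloc` and Alperin's fusion theorem (`S0116.result`, `A = {s}`). -/

set_option autoImplicit false

namespace Cfsg.Agent.Lib.Helper9.LBAL

universe u

theorem TC2 {H : Type u} [Group H] [Finite H] (S : Sylow 2 H) (α : MulAut H)
    (hloc : ∀ E : Subgroup H, E ≤ (S : Subgroup H) → E ≠ ⊥ →
      ¬ 2 ∣ ((S : Subgroup H) ⊓ Subgroup.normalizer (E : Set H)).relIndex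
        (Subgroup.normalizer (E : Set H)) →
      ∀ n ∈ Subgroup.normalizer (E : Set H), ∃ o k : H, n = o * k ∧ α k = k ∧
        k ∈ Subgroup.normalizer (E : Set H) ∧ o ∈ Subgroup.centralizer (E : Set H))
    (s : H) (hs : s ∈ S) (x : H) (hx : x⁻¹ * s * x ∈ S) :
    ∃ k : H, α k = k ∧ k⁻¹ * s * k = x⁻¹ * s * x := by
  haveI : Fact (Nat.Prime 2) := ⟨Nat.prime_two⟩
  by_cases hs1 : s = 1
  · subst hs1
    exact ⟨1, map_one α, by simp⟩
  have hA : ({s} : Set H) ⊆ ((S : Subgroup H) : Set H) := by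
    intro a ha
    rw [Set.mem_singleton_iff] at ha
    subst ha
    exact hs
  have hAg : (fun a => x⁻¹ * a * x) '' ({s} : Set H) ⊆ ((S : Subgroup H) : Set H) := by
    rintro _ ⟨a, ha, rfl⟩
    rw [Set.mem_singleton_iff] at ha
    subst ha
    exact hx
  obtain ⟨n, Q, xs, hprod, hstep, h0, hnext⟩ := Cfsg.Agent.S0116.result S ({s} : Set H) x hA hAg
  -- the conjugate of `s` by the `i`-th prefix product lies in `S ⊓ Q i`
  have hmem : ∀ i : Fin n, (((List.ofFn xs).take i.val).prod)⁻¹ * s *
      ((List.ofFn xs).take i.val).prod ∈ (S : Subgroup H) ⊓ (Q i : Subgroup H) := by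
    rintro ⟨i, hi⟩
    cases i with
    | zero =>
      have h00 : s ∈ (S : Subgroup H) ⊓ (Q ⟨0, hi⟩ : Subgroup H) := h0 hi (Set.mem_singleton s)
      have e : ((List.ofFn xs).take (0 : ℕ)).prod = 1 := by simp
      show (((List.ofFn xs).take 0).prod)⁻¹ * s * ((List.ofFn xs).take 0).prod ∈ _
      rw [e, inv_one, one_mul, mul_one]
      exact h00
    | succ j =>
      have hj : j < n := by omega
      exact hnext ⟨j, hj⟩ hi ⟨s, Set.mem_singleton s, rfl⟩
  -- induction along the prefix products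
  have key : ∀ i : ℕ, i ≤ n → ∃ k : H, α k = k ∧
      k⁻¹ * s * k = (((List.ofFn xs).take i).prod)⁻¹ * s * ((List.ofFn xs).take i).prod := by
    intro i
    induction i with
    | zero =>
      intro _
      exact ⟨1, map_one α, by simp⟩
    | succ i ih =>
      intro hi
      have hi' : i < n := by omega
      obtain ⟨k, hk, hks⟩ := ih (by omega)
      have hlen : i < (List.ofFn xs).length := by rw [List.length_ofFn]; exact hi'
      have htake : (List.ofFn xs).take (i + 1) = (List.ofFn xs).take i ++ [xs ⟨i, hi'⟩] := by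
        rw [List.take_succ_eq_append_getElem hlen, List.getElem_ofFn]
      set g := ((List.ofFn xs).take i).prod with hg
      set E : Subgroup H := (S : Subgroup H) ⊓ (Q ⟨i, hi'⟩ : Subgroup H) with hE
      have hsi : g⁻¹ * s * g ∈ E := hmem ⟨i, hi'⟩
      have hEne : E ≠ ⊥ := by
        intro hbot
        rw [hbot, Subgroup.mem_bot] at hsi
        apply hs1
        have : s = g * (g⁻¹ * s * g) * g⁻¹ := by group
        rw [this, hsi]
        group
      obtain ⟨hxN, hsyl, -⟩ := hstep ⟨i, hi'⟩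
      obtain ⟨o, k', hok, hk', -, ho⟩ := hloc E inf_le_left hEne hsyl _ hxN
      refine ⟨k * k', by rw [map_mul, hk, hk'], ?_⟩
      rw [htake, List.prod_append, List.prod_singleton, hok]
      have hoc : o⁻¹ * (g⁻¹ * s * g) * o = g⁻¹ * s * g := by
        have := Subgroup.mem_centralizer_iff.mp ho (g⁻¹ * s * g) hsi
        rw [mul_assoc, this, ← mul_assoc, inv_mul_cancel, one_mul]
      calc (k * k')⁻¹ * s * (k * k') = k'⁻¹ * (k⁻¹ * s * k) * k' := by group
        _ = k'⁻¹ * (g⁻¹ * s * g) * k' := by rw [hks]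
        _ = k'⁻¹ * (o⁻¹ * (g⁻¹ * s * g) * o) * k' := by rw [hoc]
        _ = (g * (o * k'))⁻¹ * s * (g * (o * k')) := by group
  obtain ⟨k, hk, hks⟩ := key n le_rfl
  refine ⟨k, hk, ?_⟩
  rw [hks, List.take_of_length_le (by rw [List.length_ofFn]), hprod]

end Cfsg.Agent.Lib.Helper9.LBAL
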