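import Mathlib
import Cfsg.Prelude.Def_Local
import Cfsg.Prelude.Def_ClassificationStages
import Cfsg.Agent.Lib.Helper1.LBALAct
import Cfsg.Agent.Lib.Helper1.PLengthOne
import Cfsg.Agent.Lib.Helper8.PComp2

/-! Farm LBAL (S1301), unit T10, with Theorem T (`Tmain`) as an explicit hypothesis `hT`.
Route: for a Sylow 2-subgroup `Q` of the perfect group `J` one has `Q ≤ [Q, J]` (Burnside
transfer in `J / [Q, J]`), so Theorem T applies to `D = J` directly (no Frobenius criterion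
needed); `J` is generated by its 2-elements, so `J` acts trivially on `K / Z(K)`, and then on
`K` because `K` is perfect. -/

set_option autoImplicit false

namespace Cfsg.Agent.Lib.Helper9.LBAL

open Cfsg Cfsg.Agent.Lib.Helper1.LBAL Cfsg.Agent.Lib.Helper8.PComp
open scoped commutatorElement

universe u

/-- `[Q, ⊤]` is a normal subgroup. -/
theorem commutator_top_normal {D : Type u} [Group D] (Q : Subgroup D) :
    (⁅Q, (⊤ : Subgroup D)⁆).Normal := by
  constructor
  intro n hn g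
  have key : ∀ n ∈ ⁅Q, (⊤ : Subgroup D)⁆, MulAut.conj g n ∈ ⁅Q, (⊤ : Subgroup D)⁆ := by
    intro n hn
    have hle : ⁅Q, (⊤ : Subgroup D)⁆ ≤
        (⁅Q, (⊤ : Subgroup D)⁆).comap (MulAut.conj g).toMonoidHom := by
      rw [Subgroup.commutator_le]
      intro q hq d _
      rw [Subgroup.mem_comap]
      show MulAut.conj g ⁅q, d⁆ ∈ _
      have e : MulAut.conj g ⁅q, d⁆ = ⁅q, g⁆⁻¹ * ⁅q, g * d⁆ := by
        simp only [MulAut.conj_apply, commutatorElement_def]
        group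
      rw [e]
      exact Subgroup.mul_mem _
        (Subgroup.inv_mem _ (Subgroup.commutator_mem_commutator hq (Subgroup.mem_top g)))
        (Subgroup.commutator_mem_commutator hq (Subgroup.mem_top (g * d)))
    exact hle hn
  simpa [MulAut.conj_apply] using key n hn

/-- A Sylow 2-subgroup `Q` of a finite perfect group `D` lies in `[Q, D]`. -/
theorem sylow_le_commutator_top_of_perfect {D : Type u} [Group D] [Finite D]
    (hD : commutator D = ⊤) (Q : Sylow 2 D) :
    (Q : Subgroup D) ≤ ⁅(Q : Subgroup D), (⊤ : Subgroup D)⁆ := by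
  haveI : Fact (Nat.Prime 2) := ⟨Nat.prime_two⟩
  haveI hNn : (⁅(Q : Subgroup D), (⊤ : Subgroup D)⁆).Normal := commutator_top_normal _
  set N : Subgroup D := ⁅(Q : Subgroup D), (⊤ : Subgroup D)⁆ with hN
  have hsurj : Function.Surjective (QuotientGroup.mk' N) := QuotientGroup.mk'_surjective N
  let Qb : Sylow 2 (D ⧸ N) := Q.mapSurjective hsurj
  have hQb : (Qb : Subgroup (D ⧸ N)) = (Q : Subgroup D).map (QuotientGroup.mk' N) := rfl
  -- `Qb` is central
  have hcen : ∀ x ∈ (Qb : Subgroup (D ⧸ N)), ∀ y : D ⧸ N, y * x = x * y := by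
    intro x hx y
    rw [hQb] at hx
    obtain ⟨q, hq, rfl⟩ := hx
    obtain ⟨d, rfl⟩ := hsurj y
    have hc : ⁅q, d⁆ ∈ N := Subgroup.commutator_mem_commutator hq (Subgroup.mem_top d)
    have h1 : (QuotientGroup.mk' N) ⁅q, d⁆ = 1 := by
      rw [← MonoidHom.mem_ker, QuotientGroup.ker_mk']
      exact hc
    rw [commutatorElement_def, map_mul, map_mul, map_mul, map_inv, map_inv] at h1
    -- q d q⁻¹ d⁻¹ = 1
    have h2 : (QuotientGroup.mk' N) q * (QuotientGroup.mk' N) d =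
        (QuotientGroup.mk' N) d * (QuotientGroup.mk' N) q := by
      have := congrArg (fun z => z * ((QuotientGroup.mk' N) d * (QuotientGroup.mk' N) q)) h1
      simpa [mul_assoc] using this
    exact h2.symm
  have hP : Subgroup.normalizer ((Qb : Subgroup (D ⧸ N)) : Set (D ⧸ N)) ≤
      Subgroup.centralizer ((Qb : Subgroup (D ⧸ N)) : Set (D ⧸ N)) := by
    intro y _
    rw [Subgroup.mem_centralizer_iff]
    intro x hx
    exact (hcen x hx y).symm
  have hcompl := MonoidHom.ker_transferSylow_isComplement' Qb hP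
  -- the quotient is perfect, the target commutative: the kernel is everything
  have hperf : commutator (D ⧸ N) = ⊤ := by
    have := Group.isPerfect_def.mpr hD
    exact (Group.isPerfect_def.mp inferInstance)
  haveI : IsMulCommutative (Qb : Subgroup (D ⧸ N)) :=
    ⟨⟨fun a b => Subtype.ext (hP (Subgroup.le_normalizer b.2) a a.2)⟩⟩
  have hker : (MonoidHom.transferSylow Qb hP).ker = ⊤ := by
    rw [eq_top_iff, ← hperf]
    letI : CommGroup (Qb : Subgroup (D ⧸ N)) :=
      { (inferInstance : Group (Qb : Subgroup (D ⧸ N))) with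
        mul_comm := fun a b => Subtype.ext (hP (Subgroup.le_normalizer b.2) a a.2) }
    exact Abelianization.commutator_subset_ker (MonoidHom.transferSylow Qb hP)
  rw [hker, Subgroup.isComplement'_top_left] at hcompl
  intro q hq
  have : (QuotientGroup.mk' N) q ∈ (Qb : Subgroup (D ⧸ N)) := by
    rw [hQb]; exact Subgroup.mem_map_of_mem _ hq
  rw [hcompl, Subgroup.mem_bot, ← MonoidHom.mem_ker, QuotientGroup.ker_mk'] at this
  exact this

/-- a simple group of even order has trivial odd core. -/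
theorem oddCore_eq_bot_of_simple_even {H : Type u} [Group H] [Finite H] (hs : IsSimpleGroup H)
    (heven : 2 ∣ Nat.card H) : Cfsg.oddCore H = ⊥ := by
  haveI := Cfsg.Agent.Lib.Helper1.pPrimeCore_normal (G := H) 2
  rcases hs.eq_bot_or_eq_top_of_normal (Cfsg.pPrimeCore 2 H) inferInstance with h | h
  · exact h
  · exfalso
    have hc := Cfsg.Agent.Lib.Helper1.pPrimeCore_card_coprime (G := H) 2
    rw [h, Subgroup.card_top] at hc
    have : (2 : ℕ) ∣ Nat.gcd (Nat.card H) 2 := Nat.dvd_gcd heven dvd_rfl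
    rw [Nat.Coprime] at hc
    rw [hc] at this
    exact absurd this (by decide)

/-- a homomorphism from a perfect group to a commutative group is trivial. -/
theorem hom_eq_one_of_perfect {K A : Type*} [Group K] [Group A] (hA : ∀ a b : A, a * b = b * a)
    (hK : commutator K = ⊤) (f : K →* A) (k : K) : f k = 1 := by
  have h1 : k ∈ commutator K := hK ▸ Subgroup.mem_top k
  have hle : commutator K ≤ f.ker := by
    rw [commutator_def, Subgroup.commutator_le]
    intro a _ b _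
    rw [MonoidHom.mem_ker, commutatorElement_def, map_mul, map_mul, map_mul, map_inv, map_inv,
      hA (f a) (f b), mul_assoc, mul_assoc, mul_inv_cancel_left, mul_inv_cancel]
  exact MonoidHom.mem_ker.mp (hle h1)

/-- Unit T10 with Theorem T as a hypothesis. -/
theorem T10_of_Tmain {G : Type u} [Group G] [Finite G]
    (hT : ∀ {D : Type u} [Group D] (Q : Subgroup D), IsPGroup 2 ↥Q →
      Q ≤ ⁅Q, (⊤ : Subgroup D)⁆ → ∀ {H : Type u} [Group H] [Finite H]
      (φ : D →* MulAut H) (S : Sylow 2 H), (∀ d : D, ∀ s ∈ S, φ d s = s) → TStmt φ Q)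
    (K J SK : Subgroup G)
    (hKq : Cfsg.IsQuasisimple ↥K) (hKeven : 2 ∣ Nat.card (↥K ⧸ Subgroup.center ↥K))
    (hSK : SK ≤ K) (hSK2 : IsPGroup 2 ↥SK) (hSKs : ¬ 2 ∣ SK.relIndex K)
    (hJK : J ≤ Subgroup.normalizer (K : Set G)) (hJS : J ≤ Subgroup.centralizer (SK : Set G))
    (hJperf : ⁅J, J⁆ = J) (hJgen : J = pGen 2 J) : J ≤ Subgroup.centralizer (K : Set G) := by
  haveI : Fact (Nat.Prime 2) := ⟨Nat.prime_two⟩
  -- the action of `J` on `K`, then on `K / Z(K)`
  let φ0 : ↥J →* MulAut G := (MulAut.conj).comp J.subtype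
  have hK0 : ∀ d : ↥J, ∀ n ∈ K, φ0 d n ∈ K := by
    intro d n hn
    show (d : G) * n * (d : G)⁻¹ ∈ K
    exact (Subgroup.mem_normalizer_iff.mp (hJK d.2) n).mp hn
  let φ1 : ↥J →* MulAut ↥K := resAct φ0 K hK0
  have hφ1 : ∀ (d : ↥J) (k : ↥K), ((φ1 d k : ↥K) : G) = (d : G) * k * (d : G)⁻¹ := fun _ _ => rfl
  have hZ : ∀ d : ↥J, ∀ n ∈ Subgroup.center ↥K, φ1 d n ∈ Subgroup.center ↥K := by
    intro d n hn
    rw [Subgroup.mem_center_iff] at hn ⊢
    intro g
    obtain ⟨g', rfl⟩ := (φ1 d).surjective g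
    rw [← map_mul, ← map_mul, hn g']
  let φ : ↥J →* MulAut (↥K ⧸ Subgroup.center ↥K) := quotAct φ1 (Subgroup.center ↥K) hZ
  have hO : Cfsg.oddCore (↥K ⧸ Subgroup.center ↥K) = ⊥ :=
    oddCore_eq_bot_of_simple_even hKq.2 hKeven
  -- the Sylow 2-subgroup
  have hSKK : IsPGroup 2 ↥(SK.subgroupOf K) := hSK2.comap_subtype
  let S0 : Sylow 2 ↥K := hSKK.toSylow hSKs
  have hS0 : (S0 : Subgroup ↥K) = SK.subgroupOf K := rfl
  have hsurj : Function.Surjective (QuotientGroup.mk' (Subgroup.center ↥K)) :=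
    QuotientGroup.mk'_surjective _
  let S : Sylow 2 (↥K ⧸ Subgroup.center ↥K) := S0.mapSurjective hsurj
  have hS : (S : Subgroup (↥K ⧸ Subgroup.center ↥K)) =
      (SK.subgroupOf K).map (QuotientGroup.mk' (Subgroup.center ↥K)) := rfl
  have hfix : ∀ d : ↥J, ∀ s ∈ S, φ d s = s := by
    intro d s hs
    have hs' : s ∈ (S : Subgroup (↥K ⧸ Subgroup.center ↥K)) := hs
    rw [hS] at hs'
    obtain ⟨k, hk, rfl⟩ := hs'
    show quotAct φ1 (Subgroup.center ↥K) hZ d ((k : ↥K) : ↥K ⧸ Subgroup.center ↥K) = _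
    rw [quotAct_mk]
    have : φ1 d k = k := by
      apply Subtype.ext
      rw [hφ1]
      have hc := Subgroup.mem_centralizer_iff.mp (hJS d.2) (k : G) (Subgroup.mem_subgroupOf.mp hk)
      rw [← hc, mul_assoc, mul_inv_cancel, mul_one]
    rw [this]
    rfl
  -- `J` is perfect as a group
  have hJp : commutator ↥J = ⊤ := Group.isPerfect_def.mp (Subgroup.isPerfect_iff.mpr hJperf)
  -- every 2-element of `J` acts trivially on `K / Z(K)`
  have h2el : ∀ x : ↥J, (∃ n : ℕ, x ^ (2 ^ n) = 1) → φ x = 1 := by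
    rintro x ⟨n, hxn⟩
    have hz : IsPGroup 2 ↥(Subgroup.zpowers x) := by
      rintro ⟨g, hg⟩
      obtain ⟨m, rfl⟩ := Subgroup.mem_zpowers_iff.mp hg
      refine ⟨n, Subtype.ext ?_⟩
      show (x ^ m) ^ (2 ^ n) = 1
      rw [← zpow_natCast, ← zpow_mul, mul_comm, zpow_mul, zpow_natCast, hxn, one_zpow]
    obtain ⟨Q, hQ⟩ := hz.exists_le_sylow
    have hTQ := hT (Q : Subgroup ↥J) Q.2 (sylow_le_commutator_top_of_perfect hJp Q) φ S hfix
    have hx : x ∈ (Q : Subgroup ↥J) := hQ (Subgroup.mem_zpowers x)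
    ext h
    have := hTQ x hx h
    rw [hO, Subgroup.mem_bot, inv_mul_eq_one] at this
    rw [← this]
    rfl
  have hJker : J ≤ (φ.ker).map J.subtype := by
    intro j hj
    rw [hJgen] at hj
    revert j
    show pGen 2 J ≤ _
    unfold pGen
    rw [Subgroup.closure_le]
    rintro x ⟨hxJ, n, hxn⟩
    refine ⟨⟨x, hxJ⟩, ?_, rfl⟩
    show (⟨x, hxJ⟩ : ↥J) ∈ φ.ker
    rw [MonoidHom.mem_ker]
    exact h2el ⟨x, hxJ⟩ ⟨n, Subtype.ext hxn⟩
  -- now `J` centralizes `K`
  haveI := hKq.1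
  have hKp : commutator ↥K = ⊤ := Group.isPerfect_def.mp hKq.1
  intro j hj
  obtain ⟨j', hj', rfl⟩ := hJker hj
  replace hj' : φ j' = 1 := MonoidHom.mem_ker.mp hj'
  have hcen : ∀ k : ↥K, k⁻¹ * φ1 j' k ∈ Subgroup.center ↥K := by
    intro k
    have h1 : φ j' ((k : ↥K) : ↥K ⧸ Subgroup.center ↥K) = ((k : ↥K) : ↥K ⧸ Subgroup.center ↥K) := by
      rw [hj']; rfl
    have h2 : φ j' ((k : ↥K) : ↥K ⧸ Subgroup.center ↥K) =
        ((φ1 j' k : ↥K) : ↥K ⧸ Subgroup.center ↥K) := quotAct_mk φ1 _ hZ j' k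
    rw [h2] at h1
    exact QuotientGroup.eq.mp h1.symm
  obtain ⟨c, hc⟩ : ∃ c : ↥K →* ↥(Subgroup.center ↥K),
      ∀ k : ↥K, ((c k : ↥(Subgroup.center ↥K)) : ↥K) = k⁻¹ * φ1 j' k := by
    refine ⟨MonoidHom.mk' (fun k => ⟨k⁻¹ * φ1 j' k, hcen k⟩) ?_, fun _ => rfl⟩
    intro a b
    apply Subtype.ext
    show (a * b)⁻¹ * φ1 j' (a * b) = (a⁻¹ * φ1 j' a) * (b⁻¹ * φ1 j' b)
    have hc := Subgroup.mem_center_iff.mp (hcen a) b⁻¹
    rw [map_mul, mul_inv_rev, mul_assoc, ← mul_assoc a⁻¹, ← mul_assoc b⁻¹, hc, mul_assoc]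
  rw [Subgroup.mem_centralizer_iff]
  intro k hk
  have h1 : c ⟨k, hk⟩ = 1 := hom_eq_one_of_perfect (fun a b => Subtype.ext (Subgroup.mem_center_iff.mp b.2 a)) hKp c ⟨k, hk⟩
  have h2 : (⟨k, hk⟩ : ↥K)⁻¹ * φ1 j' ⟨k, hk⟩ = 1 := by
    rw [← hc, h1]; rfl
  rw [inv_mul_eq_one] at h2
  have h3 : (k : G) = (j' : G) * k * (j' : G)⁻¹ := by
    have := congrArg Subtype.val h2
    rw [hφ1] at this
    exact this
  show k * (j' : G) = (j' : G) * k
  conv_lhs => rw [h3]
  group

end Cfsg.Agent.Lib.Helper9.LBAL
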