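import Cfsg.Agent.Lib.Helper9.M24K2

set_option autoImplicit false

namespace Cfsg.Agent.Lib.Helper9.M24K3

open Cfsg Finset Cfsg.Agent.Lib.Helper9.GolayQR1
  Cfsg.Agent.Lib.Helper9.M24T1 Cfsg.Agent.Lib.Helper9.M24T4 Cfsg.Agent.Lib.Helper9.M24U1
  Cfsg.Agent.Lib.Helper9.M24F7
  Cfsg.Agent.Lib.Helper9.M24K1 Cfsg.Agent.Lib.Helper9.M24K2
open scoped Pointwise

theorem seven_normalizer (S : Subgroup ↥Cfsg.M24) (hS : Nat.card S = 7) :
    Nat.card ↥(Subgroup.normalizer (S : Set ↥Cfsg.M24)) = 126 ∧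
    Nat.card ↥(Subgroup.centralizer (S : Set ↥Cfsg.M24)) = 42 ∧
    (∃ x ∈ Subgroup.centralizer (S : Set ↥Cfsg.M24),
      ∃ y ∈ Subgroup.centralizer (S : Set ↥Cfsg.M24), x * y ≠ y * x) ∧
    ∃ T ∈ Cfsg.trios, ∀ n ∈ Subgroup.normalizer (S : Set ↥Cfsg.M24),
      ((n : ↥Cfsg.M24) : Equiv.Perm Cfsg.GolayPt) • T = T := by
  haveI : Fact (Nat.Prime 7) := ⟨by norm_num⟩
  have hcard : Nat.card ↥M24 = 244823040 := card_M24
  obtain ⟨k, hk⟩ := sylow_conj 7 S7 S card_S7 hS (by rw [hcard]; norm_num)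
  rw [Subgroup.pointwise_smul_def] at hk
  have hk' : S7.map (MulAut.conj k).toMonoidHom = S := hk
  have hN : Subgroup.normalizer (S : Set ↥M24) =
      (Subgroup.normalizer (S7 : Set ↥M24)).map (MulAut.conj k).toMonoidHom := by
    rw [Subgroup.map_equiv_normalizer_eq, hk']
  have hC : Subgroup.centralizer (S : Set ↥M24) =
      (Subgroup.centralizer (S7 : Set ↥M24)).map (MulAut.conj k).toMonoidHom := by
    rw [map_equiv_centralizer_eq, hk']
  refine ⟨?_, ?_, ?_, ?_⟩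
  · rw [hN, Subgroup.card_map_of_injective (MulAut.conj k).injective, ← card_N7_eq, card_N7]
  · rw [hC, Subgroup.card_map_of_injective (MulAut.conj k).injective, ← card_C7_eq, card_C7]
  · have h1 : (⟨k1, k1_mem⟩ : ↥M24) ∈ Subgroup.centralizer (S7 : Set ↥M24) := by
      unfold S7
      rw [mem_centralizer_zpowers]
      exact Subtype.ext k1_comm
    have h2 : (⟨k2, k2_mem⟩ : ↥M24) ∈ Subgroup.centralizer (S7 : Set ↥M24) := by
      unfold S7
      rw [mem_centralizer_zpowers]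
      exact Subtype.ext k2_comm
    rw [hC]
    refine ⟨MulAut.conj k ⟨k1, k1_mem⟩, Subgroup.mem_map.mpr ⟨_, h1, rfl⟩,
      MulAut.conj k ⟨k2, k2_mem⟩, Subgroup.mem_map.mpr ⟨_, h2, rfl⟩, ?_⟩
    rw [← map_mul, ← map_mul]
    intro h
    have := (MulAut.conj k).injective h
    exact k1_k2 (congrArg Subtype.val this)
  · refine ⟨(k : Equiv.Perm GolayPt) • T7, smul_trio_mem _ k.2 _ T7_mem, ?_⟩
    intro n hn
    rw [hN] at hn
    obtain ⟨n', hn', rfl⟩ := Subgroup.mem_map.mp hn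
    have hn7 : (n' : Equiv.Perm GolayPt) ∈ N7 := Subgroup.mem_map.mpr ⟨n', hn', rfl⟩
    have e : ((MulAut.conj k n' : ↥M24) : Equiv.Perm GolayPt) =
        (k : Equiv.Perm GolayPt) * (n' : Equiv.Perm GolayPt) * (k : Equiv.Perm GolayPt)⁻¹ := by
      rw [MulAut.conj_apply]
      rfl
    change ((MulAut.conj k n' : ↥M24) : Equiv.Perm GolayPt) • (k : Equiv.Perm GolayPt) • T7 = _
    rw [e, ← mul_smul, inv_mul_cancel_right, mul_smul, N7_fix_T7 _ hn7]

end Cfsg.Agent.Lib.Helper9.M24K3
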