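import Mathlib
import Cfsg.Agent.Lib.Helper1.MNDDefs

set_option autoImplicit false
set_option linter.unusedSectionVars false
set_option linter.unusedVariables false
set_option linter.unusedSimpArgs false

/-!
Farm MND (statement S2332), unit A2: the root element `hb t = diag(1, 1 + t E₀₁)` of `SL_(m+3)(F)`
lies in the commutator subgroup of the stabiliser `StabC c` of every nonzero `c` with `c 1 = 0`,
unless `(m + 2, q)` is one of the four exceptional pairs.
-/

namespace Cfsg.Agent.Lib.Helper9.MND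

open Matrix Cfsg Cfsg.Agent.Lib.Lead.LS1 Cfsg.Agent.Lib.Helper1.MND
open scoped commutatorElement

section Hom

variable {F : Type*} [Field F] {m : ℕ}

/-! ### `gm` is a homomorphism -/

theorem gm_mul (A B : SS m F) : (gm (A * B) : GG m F) = gm A * gm B := by
  apply Subtype.ext
  show fromBlocks 1 0 0 (A.1 * B.1) = fromBlocks 1 0 0 A.1 * fromBlocks 1 0 0 B.1
  rw [fromBlocks_multiply]
  simp

theorem gm_one : (gm (1 : SS m F) : GG m F) = 1 := by
  apply Subtype.ext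
  show fromBlocks 1 0 0 (1 : Matrix (Fin m) (Fin m) F) = 1
  rw [fromBlocks_one]

/-- `gm` as a monoid homomorphism -/
def gmHom (m : ℕ) (F : Type*) [Field F] : SS m F →* GG m F where
  toFun := gm
  map_one' := gm_one
  map_mul' := gm_mul

theorem gmHom_apply (A : SS m F) : gmHom m F A = gm A := rfl

theorem gm_inv (A : SS m F) : (gm A⁻¹ : GG m F) = (gm A)⁻¹ := by
  rw [← gmHom_apply, ← gmHom_apply, map_inv]

theorem gm_commutator (A B : SS m F) : (gm ⁅A, B⁆ : GG m F) = ⁅gm A, gm B⁆ := by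
  rw [← gmHom_apply, ← gmHom_apply, ← gmHom_apply, map_commutatorElement]

end Hom

variable {F : Type*} [Field F] [Fintype F] [DecidableEq F] {m k : ℕ}

/-! ### elementary matrices in `SL` -/

/-- the elementary matrix `1 + a E_ij` of `SL_n` -/
def tv {n : ℕ} (i j : Fin n) (h : i ≠ j) (a : F) : SS n F :=
  ⟨Matrix.transvection i j a, Matrix.det_transvection_of_ne i j h a⟩

theorem tvS_eq_tv (t : F) : (tvS t : SS (m + 2) F) = tv 0 1 (by simp) t := rfl

theorem tv_mulVec {n : ℕ} (i j : Fin n) (h : i ≠ j) (a : F) (c : Fin n → F) :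
    (tv i j h a).1 *ᵥ c = c + (a * c j) • Pi.single i 1 := by
  show (1 + Matrix.single i j a) *ᵥ c = _
  rw [add_mulVec, one_mulVec, single_mulVec_eq]

theorem tv_mulVec_of_eq_zero {n : ℕ} (i j : Fin n) (h : i ≠ j) (a : F) (c : Fin n → F)
    (h0 : a * c j = 0) : (tv i j h a).1 *ᵥ c = c := by
  rw [tv_mulVec, h0, zero_smul, add_zero]

theorem tv_add {n : ℕ} (i j : Fin n) (h : i ≠ j) (a b : F) :
    tv i j h (a + b) = tv i j h a * tv i j h b := by
  apply Subtype.ext
  show transvection i j (a + b) = transvection i j a * transvection i j b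
  exact (transvection_mul_transvection_same i j h a b).symm

theorem tv_zero {n : ℕ} (i j : Fin n) (h : i ≠ j) : tv i j h (0 : F) = 1 := by
  apply Subtype.ext
  show transvection i j (0 : F) = 1
  rw [transvection_zero]

theorem tv_neg {n : ℕ} (i j : Fin n) (h : i ≠ j) (a : F) : tv i j h (-a) = (tv i j h a)⁻¹ := by
  rw [eq_inv_iff_mul_eq_one, ← tv_add, neg_add_cancel, tv_zero]

/-- Chevalley commutator relation, without inverses -/
theorem tv_mul_tv {n : ℕ} (i k j : Fin n) (hik : i ≠ k) (hkj : k ≠ j) (hij : i ≠ j) (a b : F) :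
    tv i k hik a * tv k j hkj b = tv i j hij (a * b) * (tv k j hkj b * tv i k hik a) := by
  apply Subtype.ext
  show transvection i k a * transvection k j b
    = transvection i j (a * b) * (transvection k j b * transvection i k a)
  simp only [transvection, mul_add, add_mul, mul_one, one_mul, single_mul_single_same,
    single_mul_single_of_ne _ _ _ _ hij.symm, single_mul_single_of_ne _ _ _ _ hkj.symm,
    single_mul_single_of_ne _ _ _ _ hik.symm, add_zero, zero_add, mul_zero, zero_mul]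
  abel

theorem tv_commutator {n : ℕ} (i k j : Fin n) (hik : i ≠ k) (hkj : k ≠ j) (hij : i ≠ j)
    (a b : F) : ⁅tv i k hik a, tv k j hkj b⁆ = tv i j hij (a * b) := by
  rw [commutatorElement_def, tv_mul_tv i k j hik hkj hij]
  group

/-- elementary matrices with unrelated indices commute -/
theorem tv_comm {n : ℕ} (k l i j : Fin n) (hkl : k ≠ l) (hij : i ≠ j) (hli : l ≠ i) (hjk : j ≠ k)
    (a b : F) : tv k l hkl a * tv i j hij b = tv i j hij b * tv k l hkl a := by
  apply Subtype.ext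
  show transvection k l a * transvection i j b = transvection i j b * transvection k l a
  simp only [transvection, mul_add, add_mul, mul_one, one_mul,
    single_mul_single_of_ne _ _ _ _ hli, single_mul_single_of_ne _ _ _ _ hjk, add_zero]
  abel

/-! ### conjugating the stabiliser -/

theorem gm_conj_xm (A : SS m F) (u : Fin m → F) :
    (gm A : GG m F) * xm u * (gm A)⁻¹ = xm (u ᵥ* (A⁻¹).1) := by
  have := xm_mul_gm (u ᵥ* (A⁻¹).1) A
  rw [vecMul_vecMul, ← Matrix.SpecialLinearGroup.coe_mul, inv_mul_cancel,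
    Matrix.SpecialLinearGroup.coe_one, vecMul_one] at this
  rw [← this]; group

theorem gm_conj_xm' (A : SS m F) (u : Fin m → F) :
    (gm A : GG m F)⁻¹ * xm u * gm A = xm (u ᵥ* A.1) := by
  rw [mul_assoc, xm_mul_gm]; group

theorem inv_mulVec_mulVec (A : SS m F) (c : Fin m → F) : (A⁻¹).1 *ᵥ (A.1 *ᵥ c) = c := by
  rw [mulVec_mulVec, ← Matrix.SpecialLinearGroup.coe_mul, inv_mul_cancel,
    Matrix.SpecialLinearGroup.coe_one, one_mulVec]

/-- `gm A` conjugates the stabiliser of `c` into the stabiliser of `A c` -/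
theorem conj_mem_StabC (A : SS m F) (c : Fin m → F) {y : GG m F} (hy : y ∈ StabC c) :
    gm A * y * (gm A)⁻¹ ∈ StabC (A.1 *ᵥ c) := by
  obtain ⟨L, L', h1, h2, h3, h4⟩ := hy
  refine ⟨fun u => L (u ᵥ* A.1) ᵥ* (A⁻¹).1, fun u => L' (u ᵥ* A.1) ᵥ* (A⁻¹).1,
    fun u => ?_, fun u => ?_, fun u => ?_, fun u => ?_⟩
  · rw [← gm_conj_xm, ← h1, ← gm_conj_xm']; group
  · rw [← gm_conj_xm, ← h2, ← gm_conj_xm']; group
  · rw [dotProduct_comm, ← dotProduct_mulVec, inv_mulVec_mulVec, dotProduct_comm, h3,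
      dotProduct_comm, ← dotProduct_mulVec, dotProduct_comm]
  · rw [dotProduct_comm, ← dotProduct_mulVec, inv_mulVec_mulVec, dotProduct_comm, h4,
      dotProduct_comm, ← dotProduct_mulVec, dotProduct_comm]

theorem conj_mem_commutator (A : SS m F) (c : Fin m → F) {y : GG m F}
    (hy : y ∈ ⁅StabC c, StabC c⁆) :
    gm A * y * (gm A)⁻¹ ∈ ⁅StabC (A.1 *ᵥ c), StabC (A.1 *ᵥ c)⁆ := by
  have hle : (StabC c).map (MulAut.conj (gm A : GG m F)).toMonoidHom ≤ StabC (A.1 *ᵥ c) := by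
    rintro _ ⟨y, hy, rfl⟩
    exact conj_mem_StabC A c hy
  have h2 : (MulAut.conj (gm A : GG m F)).toMonoidHom y ∈
      (⁅StabC c, StabC c⁆).map (MulAut.conj (gm A : GG m F)).toMonoidHom :=
    Subgroup.mem_map_of_mem _ hy
  rw [Subgroup.map_commutator] at h2
  exact Subgroup.commutator_mono hle hle h2

/-- reduction: replace `c` by `A c` for `A` commuting with the root element -/
theorem reduce (A : SS (m + 2) F) (c : Fin (m + 2) → F) (t : F)
    (hcomm : A * tvS t = tvS t * A)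
    (h : (hb t : GG (m + 2) F) ∈ ⁅StabC (A.1 *ᵥ c), StabC (A.1 *ᵥ c)⁆) :
    (hb t : GG (m + 2) F) ∈ ⁅StabC c, StabC c⁆ := by
  have h2 := conj_mem_commutator A⁻¹ (A.1 *ᵥ c) h
  rw [inv_mulVec_mulVec] at h2
  have h3 : (gm A⁻¹ : GG (m + 2) F) * hb t * (gm A⁻¹)⁻¹ = hb t := by
    unfold hb
    rw [← gm_inv, ← gm_mul, ← gm_mul, inv_inv]
    congr 1
    rw [mul_assoc, ← hcomm, inv_mul_cancel_left]
  rw [h3] at h2
  exact h2

/-! ### Case A: some coordinate `k ≠ 0, 1` of `c` vanishes -/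

theorem caseA (c : Fin (m + 2) → F) (hc1 : c 1 = 0) (k : Fin (m + 2)) (hk0 : k ≠ 0) (hk1 : k ≠ 1)
    (hck : c k = 0) (t : F) : (hb t : GG (m + 2) F) ∈ ⁅StabC c, StabC c⁆ := by
  have h01 : (0 : Fin (m + 2)) ≠ 1 := by simp
  have e : (hb t : GG (m + 2) F) = ⁅gm (tv 0 k hk0.symm t), gm (tv k 1 hk1 1)⁆ := by
    rw [← gm_commutator, tv_commutator 0 k 1 hk0.symm hk1 h01, mul_one]
    rfl
  rw [e]
  refine Subgroup.commutator_mem_commutator (gm_mem_StabC _ _ ?_) (gm_mem_StabC _ _ ?_)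
  · exact tv_mulVec_of_eq_zero _ _ _ _ _ (by rw [hck, mul_zero])
  · exact tv_mulVec_of_eq_zero _ _ _ _ _ (by rw [hc1, mul_zero])

/-! ### the torus argument -/

theorem exists_pow_ne_one (p : ℕ) (hp : p.Prime) (h2 : Fintype.card F ≠ 2)
    (hp1 : Fintype.card F ≠ p + 1) : ∃ δ : F, δ ≠ 0 ∧ δ ^ p ≠ 1 := by
  classical
  obtain ⟨g, hg⟩ := IsCyclic.exists_generator (α := Fˣ)
  refine ⟨(g : F), g.ne_zero, fun h => ?_⟩
  have h1 : g ^ p = 1 := by
    apply Units.ext
    rw [Units.val_pow_eq_pow_val, h, Units.val_one]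
  have h3 : orderOf g ∣ p := orderOf_dvd_of_pow_eq_one h1
  have h4 : orderOf g = Nat.card Fˣ := orderOf_eq_card_of_forall_mem_zpowers hg
  rw [Nat.card_eq_fintype_card, Fintype.card_units] at h4
  have := hp.two_le
  rcases (Nat.dvd_prime hp).1 h3 with h5 | h5 <;> omega

/-- a one-parameter subgroup `x` of `S` scaled by `κ ≠ 1` under conjugation by `T ∈ S` lies in the
commutator subgroup of `S` -/
theorem mem_comm_of_torus {G : Type*} [Group G] (S : Subgroup G) (x : F → G)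
    (hadd : ∀ a b, x (a + b) = x a * x b) (T : G) (hT : T ∈ S) (hx : ∀ a, x a ∈ S) (κ : F)
    (hκ : κ ≠ 1) (hconj : ∀ a, T * x a = x (κ * a) * T) (t : F) : x t ∈ ⁅S, S⁆ := by
  have hκ' : κ - 1 ≠ 0 := sub_ne_zero.2 hκ
  have e : x t = ⁅T, x (t / (κ - 1))⁆ := by
    rw [commutatorElement_def, hconj]
    have : κ * (t / (κ - 1)) = t + t / (κ - 1) := by field_simp; ring
    rw [this, hadd]
    group
  rw [e]
  exact Subgroup.commutator_mem_commutator hT (hx _)

theorem hb_add (a b : F) : (hb (a + b) : GG (m + 2) F) = hb a * hb b := by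
  unfold hb
  rw [tvS_eq_tv, tvS_eq_tv, tvS_eq_tv, tv_add, gm_mul]

theorem hb_mem_StabC (c : Fin (m + 2) → F) (hc1 : c 1 = 0) (a : F) :
    (hb a : GG (m + 2) F) ∈ StabC c := by
  refine gm_mem_StabC _ _ ?_
  rw [tvS_eq_tv]
  exact tv_mulVec_of_eq_zero _ _ _ _ _ (by rw [hc1, mul_zero])

/-- `m + 2 = 3`, `c = (0, 0, c₂)`: the torus `diag(δ, δ⁻¹, 1)` -/
theorem torus3 (c : Fin (1 + 2) → F) (h0 : c 0 = 0) (h1 : c 1 = 0) (δ : F) (hδ : δ ≠ 0)
    (hδ2 : δ ^ 2 ≠ 1) (t : F) : (hb t : GG (1 + 2) F) ∈ ⁅StabC c, StabC c⁆ := by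
  let H : SS (1 + 2) F := ⟨diagonal ![δ, δ⁻¹, 1], by
    rw [det_diagonal, Fin.prod_univ_three]; simp [hδ]⟩
  have hHc : H.1 *ᵥ c = c := by
    ext i
    show (diagonal ![δ, δ⁻¹, 1] *ᵥ c) i = c i
    rw [mulVec_diagonal]
    fin_cases i <;> simp [h0, h1]
  have hH : ∀ s, H * tvS s = tvS (δ ^ 2 * s) * H := by
    intro s
    apply Subtype.ext
    show (diagonal ![δ, δ⁻¹, 1] : Matrix (Fin (1 + 2)) (Fin (1 + 2)) F) * transvection 0 1 s
      = transvection 0 1 (δ ^ 2 * s) * diagonal ![δ, δ⁻¹, 1]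
    ext i j
    fin_cases i <;> fin_cases j <;>
      simp [transvection, Matrix.mul_apply, Matrix.single_apply, Matrix.one_apply, diagonal_apply]
    field_simp
  refine mem_comm_of_torus (StabC c) (fun a => hb a) hb_add (gm H) (gm_mem_StabC H c hHc)
    (hb_mem_StabC c h1) (δ ^ 2) hδ2 (fun a => ?_) t
  show gm H * gm (tvS a) = gm (tvS (δ ^ 2 * a)) * gm H
  rw [← gm_mul, ← gm_mul, hH]

/-- `m + 2 = 2`: the torus `diag(δ; δ, δ⁻²)` -/
theorem torus2 (c : Fin (0 + 2) → F) (h1 : c 1 = 0) (δ : F) (hδ : δ ≠ 0) (hδ3 : δ ^ 3 ≠ 1)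
    (t : F) : (hb t : GG (0 + 2) F) ∈ ⁅StabC c, StabC c⁆ := by
  let T : GG (0 + 2) F :=
    ⟨fromBlocks (δ • (1 : Matrix Unit Unit F)) 0 0 (diagonal ![δ, (δ ^ 2)⁻¹]), by
      rw [det_fromBlocks_zero₂₁, det_diagonal, Fin.prod_univ_two]; simp; field_simp⟩
  have hT1 : ∀ u : Fin (0 + 2) → F, T * xm u = xm ![u 0, δ ^ 3 * u 1] * T := by
    intro u
    apply Subtype.ext
    show fromBlocks (δ • (1 : Matrix Unit Unit F)) 0 0 (diagonal ![δ, (δ ^ 2)⁻¹])
        * fromBlocks 1 (replicateRow Unit u) 0 1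
      = fromBlocks 1 (replicateRow Unit ![u 0, δ ^ 3 * u 1]) 0 1
        * fromBlocks (δ • (1 : Matrix Unit Unit F)) 0 0 (diagonal ![δ, (δ ^ 2)⁻¹])
    rw [fromBlocks_multiply, fromBlocks_multiply]
    congr 1
    · simp
    · ext i j
      fin_cases j <;> simp [Matrix.mul_apply, diagonal_apply]
      · ring
      · rw [eq_mul_inv_iff_mul_eq₀ (pow_ne_zero 2 hδ)]
        ring
    · simp
    · simp
  have hT2 : ∀ u : Fin (0 + 2) → F, xm u * T = T * xm ![u 0, (δ ^ 3)⁻¹ * u 1] := by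
    intro u
    apply Subtype.ext
    show fromBlocks 1 (replicateRow Unit u) 0 1
        * fromBlocks (δ • (1 : Matrix Unit Unit F)) 0 0 (diagonal ![δ, (δ ^ 2)⁻¹])
      = fromBlocks (δ • (1 : Matrix Unit Unit F)) 0 0 (diagonal ![δ, (δ ^ 2)⁻¹])
        * fromBlocks 1 (replicateRow Unit ![u 0, (δ ^ 3)⁻¹ * u 1]) 0 1
    rw [fromBlocks_multiply, fromBlocks_multiply]
    congr 1
    · simp
    · ext i j
      fin_cases j <;> simp [Matrix.mul_apply, diagonal_apply]
      · ring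
      · field_simp
    · simp
    · simp
  have hT3 : ∀ s : F, T * hb s = hb (δ ^ 3 * s) * T := by
    intro s
    apply Subtype.ext
    show fromBlocks (δ • (1 : Matrix Unit Unit F)) 0 0 (diagonal ![δ, (δ ^ 2)⁻¹])
        * fromBlocks 1 0 0 (transvection 0 1 s)
      = fromBlocks 1 0 0 (transvection 0 1 (δ ^ 3 * s))
        * fromBlocks (δ • (1 : Matrix Unit Unit F)) 0 0 (diagonal ![δ, (δ ^ 2)⁻¹])
    rw [fromBlocks_multiply, fromBlocks_multiply]
    congr 1
    · simp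
    · simp
    · simp
    · ext i j
      fin_cases i <;> fin_cases j <;>
        simp [transvection, Matrix.mul_apply, Matrix.single_apply, Matrix.one_apply,
          diagonal_apply, Matrix.add_apply]
      field_simp
  have hTS : T ∈ StabC c := by
    refine ⟨fun u => ![u 0, δ ^ 3 * u 1], fun u => ![u 0, (δ ^ 3)⁻¹ * u 1], fun u => ?_,
      fun u => ?_, fun u => ?_, fun u => ?_⟩
    · rw [hT1]; group
    · rw [mul_assoc, hT2]; group
    · simp [dotProduct, Fin.sum_univ_two, h1]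
    · simp [dotProduct, Fin.sum_univ_two, h1]
  exact mem_comm_of_torus (StabC c) (fun a => hb a) hb_add T hTS (hb_mem_StabC c h1) (δ ^ 3) hδ3
    hT3 t

/-! ### the main statement -/

theorem tv_mulVec_apply {n : ℕ} (i j : Fin n) (h : i ≠ j) (a : F) (c : Fin n → F) (r : Fin n) :
    ((tv i j h a).1 *ᵥ c) r = if r = i then c i + a * c j else c r := by
  rw [tv_mulVec]
  by_cases hr : r = i
  · subst hr; simp
  · simp [hr]

/-- THE place where the four exceptions die: `x₀₁(t)` is a product of commutators inside the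
stabiliser of `λ_c` (`c ≠ 0` fixed by `X_β`, i.e. `c 1 = 0`). -/
theorem hb_mem_commutator (hex : ¬ Exc (m + 2) (Fintype.card F)) (c : Fin (m + 2) → F)
    (hc : c ≠ 0) (hc1 : c 1 = 0) (t : F) :
    (hb t : GG (m + 2) F) ∈ ⁅StabC c, StabC c⁆ := by
  match m, hex, c, hc, hc1 with
  | 0, hex, c, hc, hc1 =>
    have h2 : Fintype.card F ≠ 2 := fun h => hex (Or.inl ⟨rfl, h⟩)
    have h4 : Fintype.card F ≠ 3 + 1 := fun h => hex (Or.inr (Or.inl ⟨rfl, h⟩))
    obtain ⟨δ, hδ, hδ3⟩ := exists_pow_ne_one (F := F) 3 Nat.prime_three h2 h4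
    exact torus2 c hc1 δ hδ hδ3 t
  | 1, hex, c, hc, hc1 =>
    have h2 : Fintype.card F ≠ 2 := fun h => hex (Or.inr (Or.inr (Or.inl ⟨rfl, h⟩)))
    have h3 : Fintype.card F ≠ 2 + 1 := fun h => hex (Or.inr (Or.inr (Or.inr ⟨rfl, h⟩)))
    obtain ⟨δ, hδ, hδ2⟩ := exists_pow_ne_one (F := F) 2 Nat.prime_two h2 h3
    by_cases hc2 : c 2 = 0
    · exact caseA c hc1 2 (by decide) (by decide) hc2 t
    · -- move `c₀` to `0` by `x₀₂(-c₀/c₂)`
      have h02 : (0 : Fin (1 + 2)) ≠ 2 := by decide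
      refine reduce (tv 0 2 h02 (-(c 0) / c 2)) c t ?_ ?_
      · rw [tvS_eq_tv]
        exact tv_comm 0 2 0 1 h02 (by decide) (by decide) (by decide) _ _
      · refine torus3 _ ?_ ?_ δ hδ hδ2 t
        · rw [tv_mulVec_apply, if_pos rfl]
          field_simp
          ring
        · rw [tv_mulVec_apply, if_neg (by decide)]
          exact hc1
  | m + 2, hex, c, hc, hc1 =>
    by_cases hex' : ∃ k : Fin (m + 2 + 2), k ≠ 0 ∧ k ≠ 1 ∧ c k = 0
    · obtain ⟨k, hk0, hk1, hck⟩ := hex'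
      exact caseA c hc1 k hk0 hk1 hck t
    · push Not at hex'
      have h23 : (⟨2, by omega⟩ : Fin (m + 2 + 2)) ≠ ⟨3, by omega⟩ := by
        simp [Fin.ext_iff]
      have hk0 : (⟨2, by omega⟩ : Fin (m + 2 + 2)) ≠ 0 := by simp [Fin.ext_iff]
      have hk1 : (⟨2, by omega⟩ : Fin (m + 2 + 2)) ≠ 1 := by simp [Fin.ext_iff]
      have hl0 : (⟨3, by omega⟩ : Fin (m + 2 + 2)) ≠ 0 := by simp [Fin.ext_iff]
      have hl1 : (⟨3, by omega⟩ : Fin (m + 2 + 2)) ≠ 1 := by simp [Fin.ext_iff]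
      have hcl : c ⟨3, by omega⟩ ≠ 0 := hex' _ hl0 hl1
      refine reduce (tv ⟨2, by omega⟩ ⟨3, by omega⟩ h23 (-(c ⟨2, by omega⟩) / c ⟨3, by omega⟩)) c t
        ?_ ?_
      · rw [tvS_eq_tv]
        exact tv_comm _ _ 0 1 h23 (by simp) hl0 hk1.symm _ _
      · refine caseA _ ?_ ⟨2, by omega⟩ hk0 hk1 ?_ t
        · rw [tv_mulVec_apply, if_neg hk1.symm]
          exact hc1
        · rw [tv_mulVec_apply, if_pos rfl]
          field_simp
          ring

end Cfsg.Agent.Lib.Helper9.MND
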