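import Mathlib
import Cfsg.Prelude.Def_Characters
import Cfsg.Agent.Lib.Helper1.MNDDefs
import Cfsg.Agent.Lib.Helper1.MNDE
import Cfsg.Agent.Lib.Helper6.CharOps
import Cfsg.Agent.Lib.Helper6.IndFunMore

set_option autoImplicit false
set_option linter.unusedSectionVars false
set_option linter.unusedVariables false
set_option linter.unusedSimpArgs false

/-!
Farm MND (statement S2332), unit F2: the values of `Θ = Ind_P^G θ` (`P` the stabiliser of the line
spanned by the first basis vector, `θ` a linear character of `P` through the `(0,0)` entry) at `1` and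
on the row group, and `⟨Θ, 1⟩ ∈ {0, 1}`.
-/

namespace Cfsg.Agent.Lib.Helper9.MND

open Matrix Cfsg Cfsg.Agent.Lib.Lead.LS1 Cfsg.Agent.Lib.Helper1.MND Cfsg.Agent.Lib.Helper6
open scoped ComplexConjugate

variable {F : Type*} [Field F] [Fintype F] [DecidableEq F] {m k : ℕ}

/-! ### first columns -/

/-- the first basis vector -/
def e0 : Unit ⊕ Fin m → F := Pi.single (Sum.inl ()) 1

/-- the first column of `x` -/
def col (x : GG m F) : Unit ⊕ Fin m → F := fun i => x.1 i (Sum.inl ())

theorem e0_ne_zero : (e0 : Unit ⊕ Fin m → F) ≠ 0 := by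
  intro h
  have := congrFun h (Sum.inl ())
  simp [e0] at this

theorem col_eq (x : GG m F) : col x = x.1 *ᵥ e0 := by
  ext i
  simp [col, e0]

theorem col_one : col (1 : GG m F) = e0 := by
  rw [col_eq, Matrix.SpecialLinearGroup.coe_one, one_mulVec]

theorem col_mul (x y : GG m F) : col (x * y) = x.1 *ᵥ col y := by
  rw [col_eq, col_eq, Matrix.SpecialLinearGroup.coe_mul, mulVec_mulVec]

theorem inv_mulVec_mulVec_GG (x : GG m F) (v : Unit ⊕ Fin m → F) :
    (x⁻¹).1 *ᵥ (x.1 *ᵥ v) = v := by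
  rw [mulVec_mulVec, ← Matrix.SpecialLinearGroup.coe_mul, inv_mul_cancel,
    Matrix.SpecialLinearGroup.coe_one, one_mulVec]

theorem mulVec_inv_mulVec_GG (x : GG m F) (v : Unit ⊕ Fin m → F) :
    x.1 *ᵥ ((x⁻¹).1 *ᵥ v) = v := by
  rw [mulVec_mulVec, ← Matrix.SpecialLinearGroup.coe_mul, mul_inv_cancel,
    Matrix.SpecialLinearGroup.coe_one, one_mulVec]

theorem mulVec_injective_GG (x : GG m F) {v w : Unit ⊕ Fin m → F} (h : x.1 *ᵥ v = x.1 *ᵥ w) :
    v = w := by
  rw [← inv_mulVec_mulVec_GG x v, h, inv_mulVec_mulVec_GG]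

theorem col_ne_zero (x : GG m F) : col x ≠ 0 := by
  intro h
  have h1 : col (x⁻¹ * x) = 0 := by rw [col_mul, h, mulVec_zero]
  rw [inv_mul_cancel, col_one] at h1
  exact e0_ne_zero h1

/-! ### transitivity on nonzero vectors -/

/-- the lower unitriangular element with first column `(1, s)` -/
def lm (s : Fin m → F) : GG m F :=
  ⟨fromBlocks 1 0 (replicateCol Unit s) 1, by rw [det_fromBlocks_zero₁₂]; simp⟩

theorem lm_mulVec (s : Fin m → F) (v : Unit ⊕ Fin m → F) :
    (lm s).1 *ᵥ v = Sum.elim (fun _ => v (Sum.inl ())) (v (Sum.inl ()) • s + v ∘ Sum.inr) := by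
  show fromBlocks 1 0 (replicateCol Unit s) 1 *ᵥ v = _
  rw [fromBlocks_mulVec]
  congr 1
  · ext i
    simp
  · ext i
    simp [mulVec, dotProduct, mul_comm]

theorem xm_mulVec (r : Fin m → F) (v : Unit ⊕ Fin m → F) :
    (xm r : GG m F).1 *ᵥ v
      = Sum.elim (fun _ => v (Sum.inl ()) + r ⬝ᵥ (v ∘ Sum.inr)) (v ∘ Sum.inr) := by
  show fromBlocks 1 (replicateRow Unit r) 0 1 *ᵥ v = _
  rw [fromBlocks_mulVec]
  congr 1
  · ext i
    simp [mulVec, dotProduct]
  · ext i
    simp

theorem exists_col_eq_of_inr_ne (v : Unit ⊕ Fin m → F) (hv : v ∘ Sum.inr ≠ 0) :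
    ∃ h : GG m F, col h = v := by
  obtain ⟨j, hj⟩ : ∃ j, v (Sum.inr j) ≠ 0 := by
    by_contra hcon
    push Not at hcon
    exact hv (funext hcon)
  refine ⟨xm (Pi.single j ((v (Sum.inl ()) - 1) / v (Sum.inr j))) * lm (v ∘ Sum.inr), ?_⟩
  rw [col_mul, col_eq, lm_mulVec, xm_mulVec]
  ext i
  rcases i with ⟨⟩ | i
  · simp only [Sum.elim_inl, e0, Pi.single_eq_same, Function.comp_def, Sum.elim_inr, Pi.add_apply,
      Pi.smul_apply, smul_eq_mul, one_mul, Pi.single_apply, Sum.inr.injEq, reduceCtorEq, if_false,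
      add_zero, single_dotProduct]
    field_simp
    ring
  · simp [e0]

theorem exists_col_eq (hm : 1 ≤ m) (v : Unit ⊕ Fin m → F) (hv : v ≠ 0) :
    ∃ h : GG m F, col h = v := by
  by_cases hw : v ∘ Sum.inr ≠ 0
  · exact exists_col_eq_of_inr_ne v hw
  · push Not at hw
    have hw' : ∀ i, v (Sum.inr i) = 0 := fun i => congrFun hw i
    have hv0 : v (Sum.inl ()) ≠ 0 := by
      intro h0
      apply hv
      ext i
      rcases i with ⟨⟩ | i
      · exact h0
      · exact hw' i
    let j : Fin m := ⟨0, by omega⟩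
    have h2 : ((lm (Pi.single j 1) : GG m F).1 *ᵥ v) ∘ Sum.inr ≠ 0 := by
      intro h
      have := congrFun h j
      rw [lm_mulVec] at this
      simp [hw' j] at this
      exact hv0 this
    obtain ⟨h', hh'⟩ := exists_col_eq_of_inr_ne _ h2
    refine ⟨(lm (Pi.single j 1))⁻¹ * h', ?_⟩
    rw [col_mul, hh', inv_mulVec_mulVec_GG]

/-! ### counting elements by their first column -/

/-- the number of elements with first column `e0` -/
noncomputable def NN (m : ℕ) (F : Type*) [Field F] [Fintype F] [DecidableEq F] : ℕ :=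
  (Finset.univ.filter (fun x : GG m F => col x = e0)).card

theorem card_fiber (hm : 1 ≤ m) (v : Unit ⊕ Fin m → F) (hv : v ≠ 0) :
    (Finset.univ.filter (fun x : GG m F => col x = v)).card = NN m F := by
  obtain ⟨h, hh⟩ := exists_col_eq hm v hv
  symm
  unfold NN
  refine Finset.card_equiv (Equiv.mulLeft h) (fun x => ?_)
  simp only [Finset.mem_filter, Finset.mem_univ, true_and, Equiv.coe_mulLeft]
  rw [col_mul, ← hh, col_eq h]
  constructor
  · intro hx
    rw [hx]
  · intro hx
    exact mulVec_injective_GG h hx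

theorem card_col_mem (hm : 1 ≤ m) (W : Finset (Unit ⊕ Fin m → F)) (hW : ∀ v ∈ W, v ≠ 0) :
    (Finset.univ.filter (fun x : GG m F => col x ∈ W)).card = W.card * NN m F := by
  rw [Finset.card_eq_sum_card_fiberwise (f := col) (t := W)
    (fun x hx => by simpa using hx)]
  rw [Finset.sum_congr rfl (g := fun _ => NN m F), Finset.sum_const, smul_eq_mul]
  intro v hv
  rw [← card_fiber hm v (hW v hv)]
  congr 1
  ext x
  simp only [Finset.mem_filter, Finset.mem_univ, true_and]
  constructor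
  · rintro ⟨_, h⟩
    exact h
  · intro h
    exact ⟨by rw [h]; exact hv, h⟩

/-! ### the parabolic subgroup -/

theorem mem_PP_iff (y : GG m F) : y ∈ PP m F ↔ ∀ i, col y (Sum.inr i) = 0 := by
  constructor
  · intro hy
    exact hy.1
  · intro hy
    refine ⟨hy, ?_⟩
    obtain ⟨c, h1⟩ : ∃ c : F, col y = c • e0 := by
      refine ⟨col y (Sum.inl ()), ?_⟩
      ext i
      rcases i with ⟨⟩ | i
      · simp [e0]
      · simp [e0, hy i]
    have h2 : (e0 : Unit ⊕ Fin m → F) = c • col y⁻¹ := by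
      rw [← col_one, ← inv_mul_cancel y, col_mul, h1, mulVec_smul, ← col_eq]
    have hc : c ≠ 0 := by
      intro h0
      rw [h0, zero_smul] at h2
      exact e0_ne_zero h2
    intro i
    have h3 := congrFun h2 (Sum.inr i)
    simp only [e0, Pi.smul_apply, smul_eq_mul] at h3
    rw [Pi.single_eq_of_ne (by simp)] at h3
    rcases mul_eq_zero.1 h3.symm with h | h
    · exact absurd h hc
    · exact h

theorem mem_PP_iff' (y : GG m F) : y ∈ PP m F ↔ ∃ c : F, col y = c • e0 := by
  rw [mem_PP_iff]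
  constructor
  · intro hy
    refine ⟨col y (Sum.inl ()), ?_⟩
    ext i
    rcases i with ⟨⟩ | i
    · simp [e0]
    · simp [e0, hy i]
  · rintro ⟨c, hc⟩ i
    rw [hc]
    simp [e0]

/-- the nonzero multiples of `e0` -/
noncomputable def WP (m : ℕ) (F : Type*) [Field F] [Fintype F] [DecidableEq F] :
    Finset (Unit ⊕ Fin m → F) :=
  (Finset.univ.erase (0 : F)).image (fun c => c • (e0 : Unit ⊕ Fin m → F))

theorem card_WP : (WP m F).card = Fintype.card F - 1 := by
  unfold WP
  rw [Finset.card_image_of_injective _ (smul_left_injective F e0_ne_zero),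
    Finset.card_erase_of_mem (Finset.mem_univ _), Finset.card_univ]

theorem col_mem_WP_iff (y : GG m F) : col y ∈ WP m F ↔ y ∈ PP m F := by
  rw [mem_PP_iff']
  unfold WP
  simp only [Finset.mem_image, Finset.mem_erase, Finset.mem_univ, and_true]
  constructor
  · rintro ⟨c, _, hc⟩
    exact ⟨c, hc.symm⟩
  · rintro ⟨c, hc⟩
    refine ⟨c, ?_, hc.symm⟩
    intro h0
    rw [h0, zero_smul] at hc
    exact col_ne_zero y hc

theorem card_PP (hm : 1 ≤ m) : Nat.card (PP m F) = (Fintype.card F - 1) * NN m F := by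
  classical
  rw [← card_WP (m := m), ← card_col_mem hm (WP m F)]
  · rw [Nat.card_eq_fintype_card, Fintype.card_subtype]
    congr 1
    ext y
    simp only [Finset.mem_filter, Finset.mem_univ, true_and]
    exact (col_mem_WP_iff y).symm
  · intro v hv
    unfold WP at hv
    simp only [Finset.mem_image, Finset.mem_erase, Finset.mem_univ, and_true] at hv
    obtain ⟨c, hc, rfl⟩ := hv
    exact smul_ne_zero hc e0_ne_zero

/-! ### the induced function as a count of fixed vectors -/

theorem thetaP_eq_one (θ : AddChar (Additive Fˣ) ℂ) (p : PP m F)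
    (h : p.1.1 (Sum.inl ()) (Sum.inl ()) = 1) : thetaP θ p = 1 := by
  unfold thetaP
  have hne : p.1.1 (Sum.inl ()) (Sum.inl ()) ≠ 0 := by rw [h]; exact one_ne_zero
  rw [dif_neg hne]
  have : Units.mk0 (p.1.1 (Sum.inl ()) (Sum.inl ())) hne = 1 := Units.ext h
  rw [this, ofMul_one, AddChar.map_zero_eq_one]

theorem extend_eq (θ : AddChar (Additive Fˣ) ℂ) (g : GG m F)
    (hg : ∀ (v : Unit ⊕ Fin m → F) (c : F), v ≠ 0 → g.1 *ᵥ v = c • v → c = 1) (x : GG m F) :
    extendByZero (PP m F) (thetaP θ) (x⁻¹ * g * x)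
      = if g.1 *ᵥ col x = col x then 1 else 0 := by
  have hcol : col (x⁻¹ * g * x) = (x⁻¹).1 *ᵥ (g.1 *ᵥ col x) := by
    rw [mul_assoc, col_mul, col_mul]
  split_ifs with h
  · have hcol' : col (x⁻¹ * g * x) = e0 := by
      rw [hcol, h, ← col_mul, inv_mul_cancel, col_one]
    have hmem : x⁻¹ * g * x ∈ PP m F := (mem_PP_iff' _).2 ⟨1, by rw [hcol', one_smul]⟩
    rw [extendByZero_of_mem _ _ hmem]
    apply thetaP_eq_one
    show col (x⁻¹ * g * x) (Sum.inl ()) = 1
    rw [hcol']
    simp [e0]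
  · apply extendByZero_of_not_mem
    intro hmem
    obtain ⟨c, hc⟩ := (mem_PP_iff' _).1 hmem
    rw [hcol] at hc
    have h2 : g.1 *ᵥ col x = c • col x := by
      have := congrArg (fun v => x.1 *ᵥ v) hc
      simp only [mulVec_inv_mulVec_GG, mulVec_smul, ← col_eq] at this
      exact this
    have hc1 := hg _ c (col_ne_zero x) h2
    rw [hc1, one_smul] at h2
    exact h h2

theorem indFun_mul (hm : 1 ≤ m) (θ : AddChar (Additive Fˣ) ℂ) (g : GG m F)
    (hg : ∀ (v : Unit ⊕ Fin m → F) (c : F), v ≠ 0 → g.1 *ᵥ v = c • v → c = 1) :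
    indFun (PP m F) (thetaP θ) g * ((Fintype.card F : ℂ) - 1)
      = ((Finset.univ.filter
          (fun v : Unit ⊕ Fin m → F => v ≠ 0 ∧ g.1 *ᵥ v = v)).card : ℂ) := by
  classical
  unfold indFun
  rw [Finset.sum_congr rfl (fun x _ => extend_eq θ g hg x), Finset.sum_boole]
  have h1 : (Finset.univ.filter (fun x : GG m F => g.1 *ᵥ col x = col x))
      = Finset.univ.filter (fun x : GG m F =>
          col x ∈ Finset.univ.filter (fun v : Unit ⊕ Fin m → F => v ≠ 0 ∧ g.1 *ᵥ v = v)) := by
    ext x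
    simp [col_ne_zero x]
  rw [h1, card_col_mem hm _ (fun v hv => (Finset.mem_filter.1 hv).2.1), card_PP hm]
  have hq : 2 ≤ Fintype.card F := Fintype.one_lt_card
  have hN : (NN m F : ℂ) ≠ 0 := by
    have h0 : Nat.card (PP m F) ≠ 0 := Nat.card_pos.ne'
    rw [card_PP hm] at h0
    exact_mod_cast (Nat.ne_zero_of_mul_ne_zero_right h0)
  have hq1 : ((Fintype.card F : ℂ) - 1) ≠ 0 := by
    have : ((Fintype.card F - 1 : ℕ) : ℂ) ≠ 0 := by
      exact_mod_cast (show Fintype.card F - 1 ≠ 0 by omega)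
    rwa [Nat.cast_sub (by omega), Nat.cast_one] at this
  rw [Nat.cast_mul, Nat.cast_mul, Nat.cast_sub (by omega), Nat.cast_one]
  field_simp

/-! ### the two values -/

theorem card_vec : Fintype.card (Unit ⊕ Fin m → F) = Fintype.card F ^ (m + 1) := by
  rw [Fintype.card_fun, Fintype.card_sum, Fintype.card_unit, Fintype.card_fin, add_comm 1 m]

theorem value_of_card (hm : 1 ≤ m) (θ : AddChar (Additive Fˣ) ℂ) (g : GG m F)
    (hg : ∀ (v : Unit ⊕ Fin m → F) (c : F), v ≠ 0 → g.1 *ᵥ v = c • v → c = 1) (j : ℕ)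
    (hj : (Finset.univ.filter (fun v : Unit ⊕ Fin m → F => g.1 *ᵥ v = v)).card
      = Fintype.card F ^ j) :
    indFun (PP m F) (thetaP θ) g = sNum (Fintype.card F) j := by
  classical
  have hq : 2 ≤ Fintype.card F := Fintype.one_lt_card
  have h1 := indFun_mul hm θ g hg
  have h2 : (Finset.univ.filter (fun v : Unit ⊕ Fin m → F => v ≠ 0 ∧ g.1 *ᵥ v = v))
      = (Finset.univ.filter (fun v : Unit ⊕ Fin m → F => g.1 *ᵥ v = v)).erase 0 := by
    ext v
    simp [and_comm]
  rw [h2, Finset.card_erase_of_mem (by simp), hj, ← sNum_mul _ _ hq] at h1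
  have hq1 : ((Fintype.card F : ℂ) - 1) ≠ 0 := by
    have : ((Fintype.card F - 1 : ℕ) : ℂ) ≠ 0 := by
      exact_mod_cast (show Fintype.card F - 1 ≠ 0 by omega)
    rwa [Nat.cast_sub (by omega), Nat.cast_one] at this
  rw [Nat.cast_mul, Nat.cast_sub (by omega), Nat.cast_one] at h1
  exact mul_right_cancel₀ hq1 h1

theorem value_one (hm : 1 ≤ m) (θ : AddChar (Additive Fˣ) ℂ) :
    indFun (PP m F) (thetaP θ) (1 : GG m F) = sNum (Fintype.card F) (m + 1) := by
  classical
  refine value_of_card hm θ 1 ?_ (m + 1) ?_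
  · intro v c hv h
    rw [Matrix.SpecialLinearGroup.coe_one, one_mulVec] at h
    obtain ⟨i, hi⟩ : ∃ i, v i ≠ 0 := by
      by_contra hcon
      push Not at hcon
      exact hv (funext hcon)
    have h3 := congrFun h i
    rw [Pi.smul_apply, smul_eq_mul] at h3
    have : (c - 1) * v i = 0 := by rw [sub_mul, one_mul, ← h3, sub_self]
    rcases mul_eq_zero.1 this with h4 | h4
    · exact sub_eq_zero.1 h4
    · exact absurd h4 hi
  · rw [← card_vec, ← Finset.card_univ]
    congr 1
    ext v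
    simp

theorem card_fix_xm (u : Fin m → F) (hu : u ≠ 0) :
    (Finset.univ.filter (fun v : Unit ⊕ Fin m → F => u ⬝ᵥ (v ∘ Sum.inr) = 0)).card
      = Fintype.card F ^ m := by
  classical
  let ψ : (Unit ⊕ Fin m → F) →+ F :=
    { toFun := fun v => u ⬝ᵥ (v ∘ Sum.inr)
      map_zero' := by
        show u ⬝ᵥ ((0 : Unit ⊕ Fin m → F) ∘ Sum.inr) = 0
        have : ((0 : Unit ⊕ Fin m → F) ∘ Sum.inr) = (0 : Fin m → F) := rfl
        rw [this, dotProduct_zero]
      map_add' := fun v w => by
        show u ⬝ᵥ ((v + w) ∘ Sum.inr) = u ⬝ᵥ (v ∘ Sum.inr) + u ⬝ᵥ (w ∘ Sum.inr)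
        have : ((v + w) ∘ Sum.inr) = v ∘ Sum.inr + w ∘ Sum.inr := rfl
        rw [this, dotProduct_add] }
  have hsurj : Function.Surjective ψ := by
    obtain ⟨j, hj⟩ : ∃ j, u j ≠ 0 := by
      by_contra hcon
      push Not at hcon
      exact hu (funext hcon)
    intro t
    refine ⟨Sum.elim 0 (Pi.single j (t / u j)), ?_⟩
    show u ⬝ᵥ ((Sum.elim 0 (Pi.single j (t / u j)) : Unit ⊕ Fin m → F) ∘ Sum.inr) = t
    have : ((Sum.elim 0 (Pi.single j (t / u j)) : Unit ⊕ Fin m → F) ∘ Sum.inr)
        = Pi.single j (t / u j) := rfl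
    rw [this, dotProduct_single]
    field_simp
  have h1 := AddSubgroup.card_mul_index ψ.ker
  rw [AddSubgroup.index_ker, AddMonoidHom.range_eq_top.2 hsurj] at h1
  have h2 : Nat.card (⊤ : AddSubgroup F) = Fintype.card F := by
    rw [Nat.card_eq_fintype_card]
    exact Fintype.card_congr AddSubgroup.topEquiv.toEquiv
  have h3 : Nat.card ψ.ker
      = (Finset.univ.filter (fun v : Unit ⊕ Fin m → F => u ⬝ᵥ (v ∘ Sum.inr) = 0)).card := by
    rw [Nat.card_eq_fintype_card, Fintype.card_subtype]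
    congr 1
    ext v
    simp only [Finset.mem_filter, Finset.mem_univ, true_and, AddMonoidHom.mem_ker]
    rfl
  rw [h2, h3, Nat.card_eq_fintype_card, card_vec, pow_succ] at h1
  exact Nat.eq_of_mul_eq_mul_right (by have := Fintype.card_pos (α := F); omega) h1

theorem value_xm (hm : 1 ≤ m) (θ : AddChar (Additive Fˣ) ℂ) (u : Fin m → F) (hu : u ≠ 0) :
    indFun (PP m F) (thetaP θ) (xm u : GG m F) = sNum (Fintype.card F) m := by
  classical
  refine value_of_card hm θ (xm u) ?_ m ?_
  · intro v c hv h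
    rw [xm_mulVec] at h
    by_cases hw : ∃ i, v (Sum.inr i) ≠ 0
    · obtain ⟨i, hi⟩ := hw
      have h3 := congrFun h (Sum.inr i)
      simp only [Sum.elim_inr, Function.comp_apply, Pi.smul_apply, smul_eq_mul] at h3
      have : (c - 1) * v (Sum.inr i) = 0 := by rw [sub_mul, one_mul, ← h3, sub_self]
      rcases mul_eq_zero.1 this with h4 | h4
      · exact sub_eq_zero.1 h4
      · exact absurd h4 hi
    · push Not at hw
      have hw0 : v ∘ Sum.inr = (0 : Fin m → F) := funext hw
      have hv0 : v (Sum.inl ()) ≠ 0 := by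
        intro h0
        apply hv
        ext i
        rcases i with ⟨⟩ | i
        · exact h0
        · exact hw i
      have h3 := congrFun h (Sum.inl ())
      simp only [Sum.elim_inl, hw0, dotProduct_zero, add_zero, Pi.smul_apply, smul_eq_mul] at h3
      have : (c - 1) * v (Sum.inl ()) = 0 := by rw [sub_mul, one_mul, ← h3, sub_self]
      rcases mul_eq_zero.1 this with h4 | h4
      · exact sub_eq_zero.1 h4
      · exact absurd h4 hv0
  · rw [← card_fix_xm u hu]
    congr 1
    ext v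
    simp only [Finset.mem_filter, Finset.mem_univ, true_and]
    rw [xm_mulVec]
    constructor
    · intro h
      have h3 := congrFun h (Sum.inl ())
      simp only [Sum.elim_inl] at h3
      exact add_eq_left.1 h3
    · intro h
      ext i
      rcases i with ⟨⟩ | i
      · simp [h]
      · simp

/-! ### `thetaP θ` is a linear character of `P` -/

theorem col_PP (p : PP m F) : col p.1 = (p.1.1 (Sum.inl ()) (Sum.inl ())) • e0 := by
  ext i
  rcases i with ⟨⟩ | i
  · simp [e0, col]
  · simp [e0, col, p.2.1 i]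

theorem entry_ne_zero (p : PP m F) : p.1.1 (Sum.inl ()) (Sum.inl ()) ≠ 0 := by
  intro h0
  have h := col_PP p
  rw [h0, zero_smul] at h
  exact col_ne_zero p.1 h

theorem entry_mul (p p' : PP m F) :
    (p * p').1.1 (Sum.inl ()) (Sum.inl ())
      = p.1.1 (Sum.inl ()) (Sum.inl ()) * p'.1.1 (Sum.inl ()) (Sum.inl ()) := by
  have h : col (p.1 * p'.1) (Sum.inl ())
      = p.1.1 (Sum.inl ()) (Sum.inl ()) * p'.1.1 (Sum.inl ()) (Sum.inl ()) := by
    rw [col_mul, col_PP p', mulVec_smul, ← col_eq, col_PP p]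
    simp [e0, mul_comm]
  exact h

/-- the `(0,0)` entry as a homomorphism `P → Fˣ` -/
def entryHom (m : ℕ) (F : Type*) [Field F] [Fintype F] [DecidableEq F] : PP m F →* Fˣ where
  toFun p := Units.mk0 (p.1.1 (Sum.inl ()) (Sum.inl ())) (entry_ne_zero p)
  map_one' := Units.ext (by simp)
  map_mul' p p' := Units.ext (by
    rw [Units.val_mul, Units.val_mk0, Units.val_mk0, Units.val_mk0]
    exact entry_mul p p')

/-- `thetaP θ` as a homomorphism to `ℂ` -/
noncomputable def thetaHom (θ : AddChar (Additive Fˣ) ℂ) : PP m F →* ℂ where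
  toFun p := θ (Additive.ofMul (entryHom m F p))
  map_one' := by rw [map_one, ofMul_one, AddChar.map_zero_eq_one]
  map_mul' p p' := by rw [map_mul, ofMul_mul, AddChar.map_add_eq_mul]

theorem thetaP_eq (θ : AddChar (Additive Fˣ) ℂ) :
    (thetaP θ : PP m F → ℂ) = fun p => (((thetaHom θ).toHomUnits p : ℂˣ) : ℂ) := by
  funext p
  rw [MonoidHom.coe_toHomUnits]
  unfold thetaP
  rw [dif_neg (entry_ne_zero p)]
  rfl

theorem isIrrCharacter_thetaP (θ : AddChar (Additive Fˣ) ℂ) :
    IsIrrCharacter (PP m F) (thetaP θ) := by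
  rw [thetaP_eq]
  exact isIrrCharacter_of_hom _

/-! ### the statement -/

/-- F2. `Θ = Ind_P^G θ`: a character of degree `(q^(m+1) - 1)/(q - 1)` (the number of points)
with value `(q^m - 1)/(q - 1)` (the number of points of a hyperplane) on the row group, containing
the trivial character at most once -/
theorem theta_values (hm : 1 ≤ m) (θ : AddChar (Additive Fˣ) ℂ) :
    IsCharacter (GG m F) (indFun (PP m F) (thetaP θ)) ∧
    indFun (PP m F) (thetaP θ) 1 = sNum (Fintype.card F) (m + 1) ∧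
    (∀ u : Fin m → F, u ≠ 0 → indFun (PP m F) (thetaP θ) (xm u) = sNum (Fintype.card F) m) ∧
    (classInner (indFun (PP m F) (thetaP θ)) (fun _ => 1) = 0 ∨
      classInner (indFun (PP m F) (thetaP θ)) (fun _ => 1) = 1) := by
  classical
  refine ⟨IsCharacter.indFun _ (IsIrrCharacter.isCharacter (isIrrCharacter_thetaP θ)),
    value_one hm θ, fun u hu => value_xm hm θ u hu, ?_⟩
  have h1 : classInner (indFun (PP m F) (thetaP θ)) (fun _ => 1)
      = classInner (thetaP θ : PP m F → ℂ) (fun _ => 1) := by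
    rw [IndFunMore.classInner_indFun (PP m F) (thetaP θ) (fun _ => 1) (fun _ _ => rfl)]
    rfl
  rw [h1, classInner_isIrrCharacter (isIrrCharacter_thetaP θ) isIrrCharacter_one]
  split_ifs
  · exact Or.inr rfl
  · exact Or.inl rfl

end Cfsg.Agent.Lib.Helper9.MND
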