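import Mathlib
import Cfsg.Agent.Lib.Helper3.MSDefs

/-! S4125 MS farm, piece D2c: `pair_index_dvd`. -/

set_option autoImplicit false
set_option linter.unusedVariables false
set_option linter.unusedSectionVars false
set_option linter.style.longLine false

namespace Cfsg.Agent.Lib.Helper3.MS

universe u v

variable {p q : ℕ} {H : Type u} [Group H] {V : Type v} [AddCommGroup V] [DistribMulAction H V]

theorem pair_index_dvd [Finite H] {Ω : Type*} [Fintype Ω] [DecidableEq Ω] (φ : H →* Equiv.Perm Ω)
    (h2 : ∀ i i' j j' : Ω, i ≠ i' → j ≠ j' → ∃ x : H, φ x i = j ∧ φ x i' = j')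
    (S : Subgroup H) (ω ω' : Ω) (hne : ω ≠ ω')
    (hS : ∀ x ∈ S, (φ x ω = ω ∧ φ x ω' = ω') ∨ (φ x ω = ω' ∧ φ x ω' = ω)) :
    (Fintype.card Ω).choose 2 ∣ S.index := by
  classical
  let act : MulAction H (Sym2 Ω) :=
    { smul := fun x s => Sym2.map (φ x) s
      one_smul := fun s => by
        show Sym2.map (φ 1) s = s
        rw [map_one]
        exact congrFun Sym2.map_id s
      mul_smul := fun x y s => by
        show Sym2.map (φ (x * y)) s = Sym2.map (φ x) (Sym2.map (φ y) s)
        rw [map_mul, Sym2.map_map]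
        rfl }
  have hsm : ∀ (x : H) (a b : Ω), x • s(a, b) = s(φ x a, φ x b) := fun x a b => rfl
  -- the orbit of s(ω, ω') is the set of non-diagonal pairs
  have horb : MulAction.orbit H s(ω, ω') = {s : Sym2 Ω | ¬ s.IsDiag} := by
    ext s
    constructor
    · rintro ⟨x, rfl⟩
      show ¬ (x • s(ω, ω')).IsDiag
      rw [hsm]
      rw [Sym2.mk_isDiag_iff]
      intro he
      exact hne ((φ x).injective he)
    · intro hs
      induction s using Sym2.ind with
      | _ j j' =>
        have hjj : j ≠ j' := by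
          intro he
          apply hs
          rw [he]
          exact Sym2.mk_isDiag_iff.mpr rfl
        obtain ⟨x, hx1, hx2⟩ := h2 ω ω' j j' hne hjj
        exact ⟨x, by show x • s(ω, ω') = s(j, j'); rw [hsm, hx1, hx2]⟩
  have hidx : (MulAction.stabilizer H s(ω, ω')).index = (Fintype.card Ω).choose 2 := by
    rw [MulAction.index_stabilizer, horb, ← Sym2.card_subtype_not_diag, ← Nat.card_eq_fintype_card]
    exact (Nat.card_coe_set_eq _).symm
  have hle : S ≤ MulAction.stabilizer H s(ω, ω') := by
    intro x hx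
    rw [MulAction.mem_stabilizer_iff, hsm]
    rcases hS x hx with ⟨h1, h2'⟩ | ⟨h1, h2'⟩
    · rw [h1, h2']
    · rw [h1, h2']; exact Sym2.eq_swap
  rw [← hidx]
  exact Subgroup.index_dvd_of_le hle

end Cfsg.Agent.Lib.Helper3.MS
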