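import Cfsg.Agent.Lib.Helper9.AlperinCor
import Cfsg.Agent.Lib.Helper9.NormalSeries

set_option autoImplicit false

namespace Cfsg.Agent.Lib.Helper9

open Cfsg Cfsg.FusionSystem

variable {Ω : Type*} [Group Ω] {S : Subgroup Ω}

/-- `φ` extends, modulo `T`, to a map of the system on `P ⊔ T` -/
def ExtendsMod (F : FusionSystem S) (T : Subgroup Ω) {P : Subgroup Ω} (φ : P →* Ω) : Prop :=
  ∃ ψ ∈ F.Hom (P ⊔ T), ∀ x : P, (φ x)⁻¹ * ψ (Subgroup.inclusion le_sup_left x) ∈ T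

theorem map_mem_of_stronglyClosed (F : FusionSystem S) {T : Subgroup Ω} (hT : F.StronglyClosed T)
    {D : Subgroup Ω} {ψ : D →* Ω} (hψ : ψ ∈ F.Hom D) (x : D) (hx : (x : Ω) ∈ T) : ψ x ∈ T :=
  hT.2 (D ⊓ T) inf_le_right (ψ.comp (Subgroup.inclusion inf_le_left))
    (restrict_mem F hψ inf_le_left) ⟨x, ⟨x.2, hx⟩⟩

theorem exists_mul_of_mem_sup_stronglyClosed (F : FusionSystem S) {T : Subgroup Ω}
    (hT : F.StronglyClosed T) {P : Subgroup Ω} (hP : P ≤ S) {m : Ω} (hm : m ∈ P ⊔ T) :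
    ∃ a ∈ P, ∃ c ∈ T, m = a * c :=
  exists_mul_of_mem_sup (hP.trans (le_normalizer_of_stronglyClosed F hT)) hm

theorem extension_mem_sup (F : FusionSystem S) {T : Subgroup Ω} (hT : F.StronglyClosed T)
    {P Q : Subgroup Ω} {φ : P →* Ω} (hPS : P ≤ S) (hφQ : ∀ x : P, φ x ∈ Q)
    {ψ : (P ⊔ T : Subgroup Ω) →* Ω} (hψ : ψ ∈ F.Hom (P ⊔ T))
    (hψφ : ∀ x : P, (φ x)⁻¹ * ψ (Subgroup.inclusion le_sup_left x) ∈ T)
    (z : (P ⊔ T : Subgroup Ω)) : ψ z ∈ Q ⊔ T := by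
  obtain ⟨a, ha, c, hc, hz⟩ := exists_mul_of_mem_sup_stronglyClosed F hT hPS z.2
  have h1 : z = Subgroup.inclusion le_sup_left ⟨a, ha⟩ * Subgroup.inclusion le_sup_right ⟨c, hc⟩ :=
    Subtype.ext hz
  rw [h1, map_mul]
  have h2 : ψ (Subgroup.inclusion le_sup_right ⟨c, hc⟩) ∈ T := map_mem_of_stronglyClosed F hT hψ _ hc
  have h3 : ψ (Subgroup.inclusion le_sup_left ⟨a, ha⟩) =
      φ ⟨a, ha⟩ * ((φ ⟨a, ha⟩)⁻¹ * ψ (Subgroup.inclusion le_sup_left ⟨a, ha⟩)) := by group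
  rw [h3]
  exact Subgroup.mul_mem _ (Subgroup.mul_mem _ (Subgroup.mem_sup_left (hφQ _))
    (Subgroup.mem_sup_right (hψφ _))) (Subgroup.mem_sup_right h2)

/-- a map of the system defined on a subgroup containing the strongly closed `T` maps `T` onto `T` -/
theorem exists_preimage_of_stronglyClosed [Finite S] (F : FusionSystem S) {T : Subgroup Ω}
    (hT : F.StronglyClosed T) {D : Subgroup Ω} (hTD : T ≤ D) {ψ : D →* Ω} (hψ : ψ ∈ F.Hom D)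
    (t : Ω) (ht : t ∈ T) : ∃ z : D, (z : Ω) ∈ T ∧ ψ z = t := by
  have hfinT : Finite T := finite_of_le hT.1
  let f : T → T := fun u => ⟨ψ ⟨u, hTD u.2⟩, map_mem_of_stronglyClosed F hT hψ _ u.2⟩
  have hf : Function.Injective f := by
    intro u v huv
    have h1 : ψ ⟨u, hTD u.2⟩ = ψ ⟨v, hTD v.2⟩ := congrArg Subtype.val huv
    have h2 := F.injective_of_mem hψ h1
    have h3 : ((⟨u, hTD u.2⟩ : D) : Ω) = ((⟨v, hTD v.2⟩ : D) : Ω) := congrArg Subtype.val h2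
    exact Subtype.ext h3
  obtain ⟨u, hu⟩ := Finite.surjective_of_injective hf ⟨t, ht⟩
  exact ⟨⟨u, hTD u.2⟩, u.2, congrArg Subtype.val hu⟩

theorem extendsMod_conj (F : FusionSystem S) {T : Subgroup Ω} (hTS : T ≤ S) {P : Subgroup Ω}
    (hP : P ≤ S) {g : Ω} (hg : g ∈ S) : ExtendsMod F T (conjHom P g) := by
  refine ⟨conjHom (P ⊔ T) g, F.conj_mem (sup_le hP hTS) hg, fun x => ?_⟩
  have : (conjHom P g x)⁻¹ * conjHom (P ⊔ T) g (Subgroup.inclusion le_sup_left x) = 1 := by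
    show (g * (x : Ω) * g⁻¹)⁻¹ * (g * (x : Ω) * g⁻¹) = 1
    group
  rw [this]
  exact T.one_mem

theorem extendsMod_comp (F : FusionSystem S) {T : Subgroup Ω} (hT : F.StronglyClosed T)
    {P Q : Subgroup Ω} {φ : P →* Ω} {φ₂ : Q →* Ω} (hφ : φ ∈ F.Hom P)
    (hφQ : ∀ x : P, φ x ∈ Q) (h₁ : ExtendsMod F T φ) (h₂ : ExtendsMod F T φ₂) :
    ExtendsMod F T (φ₂.comp (φ.codRestrict Q hφQ)) := by
  obtain ⟨ψ₁, hψ₁, hψ₁φ⟩ := h₁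
  obtain ⟨ψ₂, hψ₂, hψ₂φ⟩ := h₂
  have hPS : P ≤ S := hom_le F hφ
  have hmem : ∀ z : (P ⊔ T : Subgroup Ω), ψ₁ z ∈ Q ⊔ T :=
    extension_mem_sup F hT hPS hφQ hψ₁ hψ₁φ
  refine ⟨ψ₂.comp (ψ₁.codRestrict (Q ⊔ T) hmem), F.comp_mem hψ₁ hψ₂ hmem, fun x => ?_⟩
  show (φ₂ ⟨φ x, hφQ x⟩)⁻¹ * ψ₂ ⟨ψ₁ (Subgroup.inclusion le_sup_left x), hmem _⟩ ∈ T
  have ht := hψ₁φ x
  set t := (φ x)⁻¹ * ψ₁ (Subgroup.inclusion le_sup_left x) with htdef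
  have h1 : (⟨ψ₁ (Subgroup.inclusion le_sup_left x), hmem _⟩ : (Q ⊔ T : Subgroup Ω)) =
      Subgroup.inclusion le_sup_left ⟨φ x, hφQ x⟩ * Subgroup.inclusion le_sup_right ⟨t, ht⟩ := by
    apply Subtype.ext
    show ψ₁ (Subgroup.inclusion le_sup_left x) = φ x * t
    rw [htdef]; group
  rw [h1, map_mul, ← mul_assoc]
  exact T.mul_mem (hψ₂φ _) (map_mem_of_stronglyClosed F hT hψ₂ _ ht)

theorem extendsMod_inv [Finite S] (F : FusionSystem S) {T : Subgroup Ω} (hT : F.StronglyClosed T)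
    {P : Subgroup Ω} {φ : P →* Ω} (hφ : φ ∈ F.Hom P) (h₁ : ExtendsMod F T φ)
    {φ' : φ.range →* Ω} (hφ' : ∀ x : P, φ' ⟨φ x, ⟨x, rfl⟩⟩ = (x : Ω)) :
    ExtendsMod F T φ' := by
  obtain ⟨ψ, hψ, hψφ⟩ := h₁
  have hPS : P ≤ S := hom_le F hφ
  obtain ⟨ψ', hψ', hψ'ψ⟩ := F.inv_mem hψ
  have hTψ : T ≤ ψ.range := by
    intro t ht
    obtain ⟨z, -, hz⟩ := exists_preimage_of_stronglyClosed F hT le_sup_right hψ t ht
    exact ⟨z, hz⟩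
  have hle : φ.range ⊔ T ≤ ψ.range := by
    apply sup_le _ hTψ
    rintro _ ⟨x, rfl⟩
    have h2 : φ x = ψ (Subgroup.inclusion le_sup_left x) *
        ((φ x)⁻¹ * ψ (Subgroup.inclusion le_sup_left x))⁻¹ := by group
    rw [h2]
    exact Subgroup.mul_mem _ ⟨_, rfl⟩ (Subgroup.inv_mem _ (hTψ (hψφ x)))
  refine ⟨ψ'.comp (Subgroup.inclusion hle), restrict_mem F hψ' hle, ?_⟩
  rintro ⟨_, x, rfl⟩
  show (φ' ⟨φ x, _⟩)⁻¹ * ψ' ⟨φ x, _⟩ ∈ T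
  rw [hφ' x]
  have ht := hψφ x
  set t := (φ x)⁻¹ * ψ (Subgroup.inclusion le_sup_left x) with htdef
  have h3 : (⟨φ x, hle (Subgroup.mem_sup_left ⟨x, rfl⟩)⟩ : ψ.range) =
      ⟨ψ (Subgroup.inclusion le_sup_left x), ⟨_, rfl⟩⟩ * (⟨t, hTψ ht⟩ : ψ.range)⁻¹ := by
    apply Subtype.ext
    show φ x = ψ (Subgroup.inclusion le_sup_left x) * t⁻¹
    rw [htdef]; group
  have h4 : ψ' ⟨φ x, hle (Subgroup.mem_sup_left ⟨x, rfl⟩)⟩ =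
      (x : Ω) * (ψ' ⟨t, hTψ ht⟩)⁻¹ := by
    rw [h3, map_mul, map_inv, hψ'ψ]
    rfl
  have h5 : ψ' ⟨t, hTψ ht⟩ ∈ T := map_mem_of_stronglyClosed F hT hψ' _ ht
  have h6 : (x : Ω)⁻¹ * ψ' ⟨φ x, hle (Subgroup.mem_sup_left ⟨x, rfl⟩)⟩ =
      (ψ' ⟨t, hTψ ht⟩)⁻¹ := by
    rw [h4]; group
  exact h6 ▸ T.inv_mem h5

end Cfsg.Agent.Lib.Helper9
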