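import Cfsg.Agent.Lib.Helper9.GolayQR3

set_option autoImplicit false

namespace Cfsg.Agent.Lib.Helper9.GolayQR4

open Cfsg Cfsg.Agent.Lib.Helper9.GolayQR1 Cfsg.Agent.Lib.Helper9.GolayQR2
  Cfsg.Agent.Lib.Helper9.GolayQR3

theorem bit_eq_false_iff (c : ZMod 2) : bit c = false ↔ c = 0 := by
  revert c; decide

theorem wt_sum (g : Fin 12 → ZMod 2) (hg : g ≠ 0) : 8 ≤ hammingNorm (∑ i, g i • bw i) := by
  rw [sum_eq_dec, wt_dec]
  rcases wt_check (bit (g 0)) (bit (g 1)) (bit (g 2)) (bit (g 3)) (bit (g 4)) (bit (g 5))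
    (bit (g 6)) (bit (g 7)) (bit (g 8)) (bit (g 9)) (bit (g 10)) (bit (g 11)) with h | h
  · exfalso
    apply hg
    simp only [Bool.or_eq_false_iff, bit_eq_false_iff] at h
    funext i
    fin_cases i <;> simp [h]
  · exact h

theorem bw_linearIndependent : LinearIndependent (ZMod 2) bw := by
  rw [Fintype.linearIndependent_iff]
  intro g hg
  by_contra hne
  have hg0 : g ≠ 0 := by
    intro h
    apply hne
    intro i
    rw [h]
    rfl
  have := wt_sum g hg0
  rw [hg, hammingNorm_zero] at this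
  omega

theorem finrank_golayCode : Module.finrank (ZMod 2) golayCode = 12 := by
  rw [golayCode_eq_span, finrank_span_eq_card bw_linearIndependent]
  rfl

theorem exists_coords (w : GolayPt → ZMod 2) (hw : w ∈ golayCode) :
    ∃ g : Fin 12 → ZMod 2, ∑ i, g i • bw i = w := by
  rw [golayCode_eq_span] at hw
  exact (Submodule.mem_span_range_iff_exists_fun (ZMod 2)).mp hw

theorem min_weight (w : GolayPt → ZMod 2) (hw : w ∈ golayCode) (hne : w ≠ 0) :
    8 ≤ hammingNorm w := by
  obtain ⟨g, rfl⟩ := exists_coords w hw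
  apply wt_sum
  rintro rfl
  apply hne
  simp

theorem weight_values (w : GolayPt → ZMod 2) (hw : w ∈ golayCode) :
    hammingNorm w = 0 ∨ hammingNorm w = 8 ∨ hammingNorm w = 12 ∨ hammingNorm w = 16 ∨
      hammingNorm w = 24 := by
  obtain ⟨g, rfl⟩ := exists_coords w hw
  rw [sum_eq_dec, wt_dec]
  have := wt_values (bit (g 0)) (bit (g 1)) (bit (g 2)) (bit (g 3)) (bit (g 4)) (bit (g 5))
    (bit (g 6)) (bit (g 7)) (bit (g 8)) (bit (g 9)) (bit (g 10)) (bit (g 11))
  simpa using this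

theorem bw_orth : ∀ i j : Fin 12, ∑ p, bw i p * bw j p = 0 := by decide +kernel

theorem self_orth (v w : GolayPt → ZMod 2) (hv : v ∈ golayCode) (hw : w ∈ golayCode) :
    ∑ p, v p * w p = 0 := by
  obtain ⟨g, rfl⟩ := exists_coords v hv
  obtain ⟨h, rfl⟩ := exists_coords w hw
  have e : ∀ p, (∑ i, g i • bw i) p * (∑ j, h j • bw j) p
      = ∑ i, ∑ j, (g i * h j) * (bw i p * bw j p) := by
    intro p
    simp only [Finset.sum_apply, Pi.smul_apply, smul_eq_mul, Finset.sum_mul_sum]
    refine Finset.sum_congr rfl fun i _ => Finset.sum_congr rfl fun j _ => ?_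
    ring
  simp only [e]
  rw [Finset.sum_comm]
  refine Finset.sum_eq_zero fun i _ => ?_
  rw [Finset.sum_comm]
  refine Finset.sum_eq_zero fun j _ => ?_
  rw [← Finset.mul_sum, bw_orth, mul_zero]

end Cfsg.Agent.Lib.Helper9.GolayQR4
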