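import Cfsg.Agent.Lib.Helper9.MTc
import Cfsg.Agent.S0391
import Cfsg.Agent.S0392

/-!
# Monster type, part d: swap, the action of `C` and transitivity on the types

* `MT.swap`: a non-central `x ∈ Q` is conjugate to `x z` under `Q`.
* `MT.conj_of_smul`: a lattice automorphism is induced by conjugation with an element of `C`.
* `MT.trans_of_congr`, `MT.trans2`, `MT.trans4`: `C` is transitive on the elements of `Q` over vectors of
  norm 32 (type 2) and over vectors of norm 64 (type 4).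
* `MT.type_cases`: every non-central element of `Q` lies over a vector of norm 32, 48 or 64; the
  involutions are those of norm 32 and 64.
-/

set_option autoImplicit false

namespace Cfsg.Agent.Lib.Helper9.MTc

open Cfsg Cfsg.Agent.Lib.Helper4.ES2 Cfsg.Agent.Lib.Helper9.MTa Cfsg.Agent.Lib.Helper9.MTb

variable {G : Type*} [Group G] [Finite G] {z : G}
  {Q : Subgroup (Subgroup.centralizer ({z} : Set G))} [Q.Normal]
  {e : (Subgroup.centralizer ({z} : Set G)) ⧸ Q ≃* Spor.Co1}
  {ψ : leechLattice → Q ⧸ Subgroup.center Q}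

/-- a non-central element of `Q` is `Q`-conjugate to its product with `z` -/
theorem MT.swap (h : MT z Q e ψ) {x : Subgroup.centralizer ({z} : Set G)} (hx : x ∈ Q)
    (h1 : x ≠ 1) (hxz : x ≠ zC z) : ∃ y ∈ Q, y * x * y⁻¹ = x * zC z := by
  obtain ⟨y, hy, hc⟩ := h.data.exists_nc hx h1 hxz
  refine ⟨y, hy, ?_⟩
  have h2 : cm y x = zC z := by rw [h.data.cm_symm hy hx]; exact hc
  have h3 : y * x * y⁻¹ = cm y x * x := by unfold cm; group
  rw [h3, h2]
  exact (zC_comm x).symm

/-- lattice automorphisms are induced by conjugation -/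
theorem MT.conj_of_smul (h : MT z Q e ψ) (g : Co0) (v : leechLattice) (x : Q)
    (hx : ψ v = QuotientGroup.mk x) :
    ∃ c : Subgroup.centralizer ({z} : Set G),
      ψ (g • v) = QuotientGroup.mk (⟨c * x * c⁻¹, (inferInstance : Q.Normal).conj_mem
        (x : Subgroup.centralizer ({z} : Set G)) x.2 c⟩ : Q) := by
  obtain ⟨c, hc⟩ := QuotientGroup.mk_surjective (e.symm (QuotientGroup.mk g : Spor.Co1))
  have hg : (QuotientGroup.mk g : Spor.Co1) = e (QuotientGroup.mk c) := by
    rw [hc, MulEquiv.apply_symm_apply]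
  exact ⟨c, h.hψ.2.2.2 c g hg v x hx⟩

/-- a vector of norm 32, 48 or 64 is not twice a lattice vector -/
theorem not_double (v : leechLattice) (hv : 0 < sqNorm (v : GolayPt → ℤ))
    (hv64 : sqNorm (v : GolayPt → ℤ) ≤ 64) : ¬ ∃ w : leechLattice, v = w + w := by
  rintro ⟨w, hw⟩
  have h1 : sqNorm (v : GolayPt → ℤ) = 4 * sqNorm (w : GolayPt → ℤ) := by
    rw [hw]
    unfold sqNorm
    rw [Finset.mul_sum]
    apply Finset.sum_congr rfl
    intro i _
    simp only [AddSubgroup.coe_add, Pi.add_apply]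
    ring
  by_cases hw0 : (w : GolayPt → ℤ) = 0
  · rw [h1, hw0] at hv
    simp [sqNorm] at hv
  · have := Cfsg.Agent.S0391.result (w : GolayPt → ℤ) w.2 hw0
    omega

/-- an element of `Q` over a vector of positive norm at most 64 is not central -/
theorem MT.noncentral (h : MT z Q e ψ) (v : leechLattice) (x : Q) (hx : ψ v = QuotientGroup.mk x)
    (hv : 0 < sqNorm (v : GolayPt → ℤ)) (hv64 : sqNorm (v : GolayPt → ℤ) ≤ 64) :
    (x : Subgroup.centralizer ({z} : Set G)) ≠ 1 ∧ (x : Subgroup.centralizer ({z} : Set G)) ≠ zC z := by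
  have h1 : ψ v ≠ 1 := fun h2 => not_double v hv hv64 ((h.hψ.2.2.1 v).mp h2)
  rw [hx] at h1
  have h2 := fun h3 => h1 ((h.mk_eq_one_iff x).mpr h3)
  constructor
  · intro h3
    apply h2
    left
    exact Subtype.ext h3
  · intro h3
    exact h2 (Or.inr h3)

/-- transitivity along a lattice automorphism -/
theorem MT.trans_of_congr (h : MT z Q e ψ) (v v' : leechLattice) (x x' : Q)
    (hx : ψ v = QuotientGroup.mk x) (hx' : ψ v' = QuotientGroup.mk x')
    (hv' : 0 < sqNorm (v' : GolayPt → ℤ)) (hv64 : sqNorm (v' : GolayPt → ℤ) ≤ 64)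
    (g : Co0) (hg : ∃ u ∈ leechLattice,
      ((g • v : leechLattice) : GolayPt → ℤ) - (v' : GolayPt → ℤ) = 2 • u) :
    ∃ c : Subgroup.centralizer ({z} : Set G),
      c * (x : Subgroup.centralizer ({z} : Set G)) * c⁻¹ = x' := by
  obtain ⟨c, hc⟩ := h.conj_of_smul g v x hx
  rw [h.psi_congr _ _ hg, hx'] at hc
  have h1 : (⟨c * x * c⁻¹, (inferInstance : Q.Normal).conj_mem
      (x : Subgroup.centralizer ({z} : Set G)) x.2 c⟩ : Q)⁻¹ * x' ∈ Subgroup.center Q :=
    QuotientGroup.eq.mp hc.symm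
  rcases (mem_center_iff h.dataQ _).mp h1 with h2 | h2
  · refine ⟨c, ?_⟩
    have h3 := congrArg (fun t : Q => (t : Subgroup.centralizer ({z} : Set G))) (inv_mul_eq_one.mp h2)
    exact h3
  · -- `x' = (c x c⁻¹) z`
    have h3 : x' = (⟨c * x * c⁻¹, (inferInstance : Q.Normal).conj_mem
        (x : Subgroup.centralizer ({z} : Set G)) x.2 c⟩ : Q) * ⟨zC z, h.zC_mem⟩ := by
      rw [← h2]; group
    have h4 : (x' : Subgroup.centralizer ({z} : Set G)) = c * x * c⁻¹ * zC z := by
      have := congrArg (fun t : Q => (t : Subgroup.centralizer ({z} : Set G))) h3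
      exact this
    have hnc := h.noncentral v' x' hx' hv' hv64
    have h5 : c * (x : Subgroup.centralizer ({z} : Set G)) * c⁻¹ ≠ 1 := by
      intro h6
      rw [h6, one_mul] at h4
      exact hnc.2 h4
    have h6 : c * (x : Subgroup.centralizer ({z} : Set G)) * c⁻¹ ≠ zC z := by
      intro h6
      rw [h6, zC_sq h.hz] at h4
      exact hnc.1 h4
    obtain ⟨y, _, hy⟩ := h.swap ((inferInstance : Q.Normal).conj_mem
      (x : Subgroup.centralizer ({z} : Set G)) x.2 c) h5 h6
    refine ⟨y * c, ?_⟩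
    rw [h4, ← hy]
    group

/-- `C` is transitive on the elements of `Q` over vectors of norm 32 -/
theorem MT.trans2 (h : MT z Q e ψ) (v v' : leechLattice) (x x' : Q)
    (hx : ψ v = QuotientGroup.mk x) (hx' : ψ v' = QuotientGroup.mk x')
    (hv : sqNorm (v : GolayPt → ℤ) = 32) (hv' : sqNorm (v' : GolayPt → ℤ) = 32) :
    ∃ c : Subgroup.centralizer ({z} : Set G),
      c * (x : Subgroup.centralizer ({z} : Set G)) * c⁻¹ = x' := by
  obtain ⟨g, hg⟩ := Cfsg.Agent.S0400.result v v' hv hv'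
  apply h.trans_of_congr v v' x x' hx hx' (by omega) (by omega) g
  refine ⟨0, AddSubgroup.zero_mem _, ?_⟩
  rw [hg]
  simp

/-- `C` is transitive on the elements of `Q` over vectors of norm 64 -/
theorem MT.trans4 (h : MT z Q e ψ) (v v' : leechLattice) (x x' : Q)
    (hx : ψ v = QuotientGroup.mk x) (hx' : ψ v' = QuotientGroup.mk x')
    (hv : sqNorm (v : GolayPt → ℤ) = 64) (hv' : sqNorm (v' : GolayPt → ℤ) = 64) :
    ∃ c : Subgroup.centralizer ({z} : Set G),
      c * (x : Subgroup.centralizer ({z} : Set G)) * c⁻¹ = x' := by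
  obtain ⟨g, u, hu, hg⟩ := Cfsg.Agent.S5593.result v v' hv hv'
  exact h.trans_of_congr v v' x x' hx hx' (by omega) (by omega) g ⟨u, hu, hg⟩

/-- norms of lattice vectors are multiples of 16; short vectors have norm 0, 32, 48 or 64 -/
theorem short_cases (v : leechLattice) (hv : sqNorm (v : GolayPt → ℤ) ≤ 64) :
    (v : GolayPt → ℤ) = 0 ∨ sqNorm (v : GolayPt → ℤ) = 32 ∨ sqNorm (v : GolayPt → ℤ) = 48 ∨
      sqNorm (v : GolayPt → ℤ) = 64 := by
  by_cases h0 : (v : GolayPt → ℤ) = 0
  · left; exact h0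
  · right
    have h1 := Cfsg.Agent.S0391.result (v : GolayPt → ℤ) v.2 h0
    have h2 : (16 : ℤ) ∣ sqNorm (v : GolayPt → ℤ) := Cfsg.Agent.S0392.result (v : GolayPt → ℤ) v.2
    omega

end Cfsg.Agent.Lib.Helper9.MTc
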