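import Cfsg.Agent.Lib.Helper9.MTg
import Cfsg.Agent.Lib.Helper9.MTd

/-!
# Monster type, part h: the conjugates of `z` in `Q` are the elements of type 4

* `MT.conj_type4`: a conjugate of `z` in `Q` other than `z` lies over a vector of norm 64.
* `MT.type4_conj`: if `z` is not weakly closed in `Q`, every element over a vector of norm 64 is a
  conjugate of `z` other than `z`.
* `MT.inv_type`: a non-central involution of `Q` lies over a vector of norm 32 or 64.
-/

set_option autoImplicit false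

namespace Cfsg.Agent.Lib.Helper9.MTc

open Cfsg Cfsg.Agent.Lib.Helper4.ES2 Cfsg.Agent.Lib.Helper9.MTa Cfsg.Agent.Lib.Helper9.MTb

variable {G : Type*} [Group G] [Finite G] {z : G}
  {Q : Subgroup (Subgroup.centralizer ({z} : Set G))} [Q.Normal]
  {e : (Subgroup.centralizer ({z} : Set G)) ⧸ Q ≃* Spor.Co1}
  {ψ : leechLattice → Q ⧸ Subgroup.center Q}

theorem z_ne_one_of (hz : orderOf z = 2) : z ≠ 1 := by
  intro h1
  rw [h1, orderOf_one] at hz
  norm_num at hz

theorem z_sq_of (hz : orderOf z = 2) : z * z = 1 := by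
  rw [← pow_two, ← hz, pow_orderOf_eq_one]

/-- a non-central element of `Q` lies over a vector of norm 32, 48 or 64 -/
theorem MT.type_cases (h : MT z Q e ψ) (x : Q)
    (hx1 : (x : Subgroup.centralizer ({z} : Set G)) ≠ 1)
    (hxz : (x : Subgroup.centralizer ({z} : Set G)) ≠ zC z) :
    ∃ v : leechLattice, (sqNorm (v : GolayPt → ℤ) = 32 ∨ sqNorm (v : GolayPt → ℤ) = 48 ∨
      sqNorm (v : GolayPt → ℤ) = 64) ∧ ψ v = QuotientGroup.mk x := by
  obtain ⟨v, hv64, hv⟩ := h.exists_short x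
  rcases short_cases v hv64 with h0 | h0
  · exfalso
    have h1 : v = 0 := Subtype.ext h0
    rw [h1, psi_zero h.hψ] at hv
    rcases (h.mk_eq_one_iff x).mp hv.symm with h2 | h2
    · exact hx1 (by rw [h2]; rfl)
    · exact hxz h2
  · exact ⟨v, h0, hv⟩

/-- a non-central involution of `Q` lies over a vector of norm 32 or 64 -/
theorem MT.inv_type (h : MT z Q e ψ) (x : Q)
    (hx1 : (x : Subgroup.centralizer ({z} : Set G)) ≠ 1)
    (hxz : (x : Subgroup.centralizer ({z} : Set G)) ≠ zC z) (hx2 : x * x = 1) :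
    ∃ v : leechLattice, (sqNorm (v : GolayPt → ℤ) = 32 ∨ sqNorm (v : GolayPt → ℤ) = 64) ∧
      ψ v = QuotientGroup.mk x := by
  obtain ⟨v, hv, hvx⟩ := h.type_cases x hx1 hxz
  rcases hv with hv | hv | hv
  · exact ⟨v, Or.inl hv, hvx⟩
  · exfalso
    have h1 := (h.sq_iff v x hvx).mp hx2
    rw [hv] at h1
    have h2 : ((48 / 16 : ℤ) : ZMod 2) = 1 := by decide
    rw [h2] at h1
    exact one_ne_zero h1
  · exact ⟨v, Or.inr hv, hvx⟩

/-- a conjugate of `z` in `Q` other than `z` lies over a vector of norm 64 -/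
theorem MT.conj_type4 (h : MT z Q e ψ) (x : Q) (g0 : G)
    (hx : ((x : Subgroup.centralizer ({z} : Set G)) : G) = g0 * z * g0⁻¹)
    (hxz : ((x : Subgroup.centralizer ({z} : Set G)) : G) ≠ z) :
    ∃ v : leechLattice, sqNorm (v : GolayPt → ℤ) = 64 ∧ ψ v = QuotientGroup.mk x := by
  have hx1 : (x : Subgroup.centralizer ({z} : Set G)) ≠ 1 := by
    intro h1
    have h2 : ((x : Subgroup.centralizer ({z} : Set G)) : G) = 1 := by rw [h1]; rfl
    rw [hx] at h2
    apply z_ne_one_of h.hz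
    have : z = g0⁻¹ * (g0 * z * g0⁻¹) * g0 := by group
    rw [this, h2]; group
  have hxz' : (x : Subgroup.centralizer ({z} : Set G)) ≠ zC z := by
    intro h1
    apply hxz
    rw [h1]; rfl
  have hx2 : x * x = 1 := by
    apply Subtype.ext
    apply Subtype.ext
    show ((x : Subgroup.centralizer ({z} : Set G)) : G) * ((x : Subgroup.centralizer ({z} : Set G)) : G) = 1
    rw [hx]
    have : g0 * z * g0⁻¹ * (g0 * z * g0⁻¹) = g0 * (z * z) * g0⁻¹ := by group
    rw [this, z_sq_of h.hz]; group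
  obtain ⟨v, hv, hvx⟩ := h.inv_type x hx1 hxz' hx2
  rcases hv with hv | hv
  · exfalso
    have hsC : g0 * z * g0⁻¹ ∈ Subgroup.centralizer ({z} : Set G) := by
      rw [← hx]; exact (x : Subgroup.centralizer ({z} : Set G)).2
    have hxe : (x : Subgroup.centralizer ({z} : Set G)) = ⟨g0 * z * g0⁻¹, hsC⟩ := Subtype.ext hx
    have hsQ : (⟨g0 * z * g0⁻¹, hsC⟩ : Subgroup.centralizer ({z} : Set G)) ∈ Q := by
      rw [← hxe]; exact x.2
    have hxe' : x = ⟨⟨g0 * z * g0⁻¹, hsC⟩, hsQ⟩ := Subtype.ext hxe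
    apply h.not_type2 g0 hsC hsQ (by rw [← hx]; exact hxz) v hv
    rw [hvx, hxe']
  · exact ⟨v, hv, hvx⟩

/-- if `z` is not weakly closed in `Q`, the elements over vectors of norm 64 are conjugates of `z` -/
theorem MT.type4_conj (h : MT z Q e ψ)
    (hfus : ∃ g : G, (∃ hq : g * z * g⁻¹ ∈ Subgroup.centralizer ({z} : Set G),
      (⟨g * z * g⁻¹, hq⟩ : Subgroup.centralizer ({z} : Set G)) ∈ Q) ∧ g * z * g⁻¹ ≠ z)
    (x : Q) (v : leechLattice) (hv : sqNorm (v : GolayPt → ℤ) = 64)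
    (hx : ψ v = QuotientGroup.mk x) :
    IsConj z ((x : Subgroup.centralizer ({z} : Set G)) : G) ∧
      ((x : Subgroup.centralizer ({z} : Set G)) : G) ≠ z := by
  obtain ⟨g, ⟨hq, hqQ⟩, hne⟩ := hfus
  obtain ⟨v0, hv0, hs0⟩ := h.conj_type4 ⟨⟨g * z * g⁻¹, hq⟩, hqQ⟩ g rfl hne
  obtain ⟨c, hc⟩ := h.trans4 v0 v _ x hs0 hx hv0 hv
  constructor
  · rw [isConj_iff]
    refine ⟨c * g, ?_⟩
    have h1 := congrArg (fun t : Subgroup.centralizer ({z} : Set G) => (t : G)) hc
    simp only [Subgroup.coe_mul, Subgroup.coe_inv] at h1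
    rw [← h1]
    group
  · intro h1
    apply (h.noncentral v x hx (by omega) (by omega)).2
    exact Subtype.ext h1

/-- the `MT` structure from the definition and a given identification -/
theorem MT.of_type' (hM : IsOfMonsterType z Q) (hψ : IsLeechModTwoIso Q e ψ) : MT z Q e ψ := by
  obtain ⟨⟨hz, hF, hQ, hcard, _⟩, _⟩ := hM
  exact ⟨hz, hF, hQ, by rw [hcard], hψ⟩

theorem fusion_of_type (hM : IsOfMonsterType z Q) :
    ∃ g : G, (∃ hq : g * z * g⁻¹ ∈ Subgroup.centralizer ({z} : Set G),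
      (⟨g * z * g⁻¹, hq⟩ : Subgroup.centralizer ({z} : Set G)) ∈ Q) ∧ g * z * g⁻¹ ≠ z := by
  obtain ⟨⟨_, _, _, _, hfus⟩, _⟩ := hM
  exact hfus

end Cfsg.Agent.Lib.Helper9.MTc
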