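import Cfsg.Agent.Lib.Helper9.LeechX11

set_option autoImplicit false

/-! The order of the automorphism group of the rank-24 lattice. -/

namespace Cfsg.Agent.Lib.Helper9.LeechX12

open Cfsg Finset Cfsg.Agent.Lib.Helper4.Leech Cfsg.Agent.Lib.Helper9.Golay1
  Cfsg.Agent.Lib.Helper9.LeechM1 Cfsg.Agent.Lib.Helper9.LeechM4 Cfsg.Agent.Lib.Helper9.LeechX4
  Cfsg.Agent.Lib.Helper9.LeechX11 Cfsg.Agent.Lib.Helper9.LeechC7 Cfsg.Agent.Lib.Helper9.LeechC8
open Cfsg.Agent.Lib.Helper9.LeechC2 (fwd bwd par cl mem_lev')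

/-- vectors with entries divisible by 4 and sum divisible by 8 are in the lattice -/
theorem four_mem (z : G) (h4 : ∀ i, z i % 4 = 0) (h8 : (∑ i, z i) % 8 = 0) :
    z ∈ leechLattice := by
  rw [mem_leechLattice_iff]
  refine (bwd (μ := 0) (c := ∅) (Or.inl rfl) ?_ ?_ ?_).1
  · rw [ind_empty]
    exact golayCode.zero_mem
  · intro i
    rw [if_neg (notMem_empty i), h4 i]
    norm_num
  · rw [h8]
    norm_num

theorem E_cong (i : GolayPt) : mk (E i).1 = mk (E none).1 := by
  rw [mk_eq_iff]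
  refine ⟨Pi.single i 4 - Pi.single none 4, four_mem _ ?_ ?_, ?_⟩
  · intro j
    simp only [Pi.sub_apply, Pi.single_apply]
    split_ifs <;> norm_num
  · simp only [Pi.sub_apply]
    rw [Finset.sum_sub_distrib, Finset.sum_pi_single', Finset.sum_pi_single']
    simp
  · rw [E_val, E_val]
    funext j
    simp only [Pi.sub_apply, Pi.smul_apply, Pi.single_apply, nsmul_eq_mul, Nat.cast_ofNat]
    split_ifs <;> norm_num

theorem std_cong (y : G) (hy : y ∈ stdCross) : mk y = mk (E none).1 := by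
  obtain ⟨i, s, hs, rfl⟩ := hy
  rcases hs with rfl | rfl
  · exact E_cong i
  · have : (Pi.single i (-8) : G) = -(E i).1 := by
      rw [E_val]
      funext j
      by_cases h : j = i <;> simp [Pi.single_apply, h]
    rw [this, mk_neg_self (E i).2]
    exact E_cong i

theorem std_mem (y : G) (hy : y ∈ stdCross) : y ∈ leechLattice := by
  obtain ⟨i, s, hs, rfl⟩ := hy
  rcases hs with rfl | rfl
  · exact (E i).2
  · have : (Pi.single i (-8) : G) = -(E i).1 := by
      rw [E_val]
      funext j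
      by_cases h : j = i <;> simp [Pi.single_apply, h]
    rw [this]
    exact leechLattice.neg_mem (E i).2

theorem std_norm (y : G) (hy : y ∈ stdCross) : sqNorm y = 64 := by
  obtain ⟨i, s, hs, rfl⟩ := hy
  unfold sqNorm
  rw [Finset.sum_eq_single i]
  · rw [Pi.single_eq_same]
    rcases hs with rfl | rfl <;> norm_num
  · intro j _ hj
    rw [Pi.single_eq_of_ne hj]
    norm_num
  · intro h
    exact absurd (mem_univ i) h

theorem dot_single (y : G) (i : GolayPt) : dotInt y (Pi.single i 8) = 8 * y i := by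
  unfold dotInt
  rw [Finset.sum_eq_single i]
  · rw [Pi.single_eq_same]
    ring
  · intro j _ hj
    rw [Pi.single_eq_of_ne hj, mul_zero]
  · intro h
    exact absurd (mem_univ i) h

/-- the standard cross is a full congruence class -/
theorem mem_std_of_cong (y : G) (hy : y ∈ leechLattice) (hn : sqNorm y = 64)
    (hc : mk y = mk (E none).1) : y ∈ stdCross := by
  by_contra hns
  have hyL : y ∈ Lf 64 (le_refl _) := mem_Lf.mpr ⟨hy, by exact_mod_cast hn⟩
  have h0 : ∀ i, y i = 0 := by
    intro i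
    have hE : (E i).1 ∈ Lf 64 (le_refl _) :=
      mem_Lf.mpr ⟨(E i).2, by
        have := Cfsg.Agent.Lib.Helper9.LeechM2.sqNorm_E i
        exact_mod_cast this⟩
    rcases cong_cases hyL hE (hc.trans (E_cong i).symm) with h | h | ⟨-, -, h⟩
    · exfalso
      apply hns
      rw [← h, E_val]
      exact ⟨i, 8, Or.inl rfl, rfl⟩
    · exfalso
      apply hns
      have : y = -(E i).1 := by rw [h, neg_neg]
      rw [this, E_val]
      refine ⟨i, -8, Or.inr rfl, ?_⟩
      funext j
      by_cases hj : j = i <;> simp [Pi.single_apply, hj]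
    · rw [E_val, dot_single] at h
      omega
  have : y = 0 := funext h0
  rw [this] at hn
  simp [sqNorm] at hn

/-- automorphisms preserve congruence modulo twice the lattice -/
theorem cong_pres (k : Equiv.Perm leechLattice) (hk : k ∈ Co0) (x y : leechLattice)
    (h : mk x.1 = mk y.1) : mk (k x).1 = mk (k y).1 := by
  rw [mk_eq_iff] at h ⊢
  obtain ⟨z, hz, hxy⟩ := h
  let zL : leechLattice := ⟨z, hz⟩
  have e : x = y + (zL + zL) := by
    apply Subtype.ext
    show x.1 = y.1 + (z + z)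
    rw [← two_nsmul, ← hxy]
    abel
  refine ⟨(k zL).1, (k zL).2, ?_⟩
  rw [e, hk.1, hk.1]
  show (k y).1 + ((k zL).1 + (k zL).1) - (k y).1 = 2 • (k zL).1
  rw [two_nsmul]
  abel

/-- elements with congruent images of the standard vector differ by a monomial element -/
theorem P_of_cong (g h : ↥Co0) (hc : mk (g.1 (E none)).1 = mk (h.1 (E none)).1) :
    P (h⁻¹ * g) := by
  intro v hv
  show ((h⁻¹ * g).1 v).1 ∈ stdCross
  have hk : (h⁻¹ * g).1 ∈ Co0 := (h⁻¹ * g).2
  have e1 : mk ((h⁻¹ * g).1 v).1 = mk ((h⁻¹ * g).1 (E none)).1 :=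
    cong_pres _ hk v (E none) (std_cong _ hv)
  have e2 : mk ((h⁻¹ * g).1 (E none)).1 = mk (E none).1 := by
    have := cong_pres h⁻¹.1 h⁻¹.2 _ _ hc
    have e3 : h⁻¹.1 (h.1 (E none)) = E none := by
      show (h⁻¹ * h).1 (E none) = E none
      rw [inv_mul_cancel]
      rfl
    rw [e3] at this
    exact this
  apply mem_std_of_cong _ ((h⁻¹ * g).1 v).2 _ (e1.trans e2)
  rw [hk.2 v]
  exact std_norm _ hv

theorem E_none_std : (E none).1 ∈ stdCross := ⟨none, 8, Or.inl rfl, rfl⟩

/-- monomial elements keep the standard vector in its class -/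
theorem cong_of_P (s : ↥Co0) (hs : P s) : mk (s.1 (E none)).1 = mk (E none).1 :=
  std_cong _ (hs (E none) E_none_std)

open Classical in
theorem exists_rep (κ : Q) (hκ : κ ∈ Cl 64 (le_refl _)) :
    ∃ g : ↥Co0, mk (g.1 (E none)).1 = κ := by
  obtain ⟨y, hy, rfl⟩ := mem_image.mp hκ
  rw [mem_Lf] at hy
  have hn : sqNorm (E none).1 = 64 := Cfsg.Agent.Lib.Helper9.LeechM2.sqNorm_E none
  obtain ⟨g, hg, hgE⟩ := trans64 (E none) ⟨y, hy.1⟩ hn (by exact_mod_cast hy.2)
  exact ⟨⟨g, hg⟩, by rw [hgE]⟩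

open Classical in
/-- the order of the automorphism group -/
theorem card_Co0 : Nat.card ↥Co0 = 8315553613086720000 := by
  choose rep hrep using exists_rep
  let F : (↥(Cl 64 (le_refl _)) × {g : ↥Co0 // P g}) → ↥Co0 :=
    fun p => rep p.1.1 p.1.2 * p.2.1
  have hcls : ∀ p : (↥(Cl 64 (le_refl _)) × {g : ↥Co0 // P g}),
      mk ((F p).1 (E none)).1 = p.1.1 := by
    intro p
    have h1 : mk ((F p).1 (E none)).1 = mk ((rep p.1.1 p.1.2).1 (E none)).1 := by
      show mk ((rep p.1.1 p.1.2).1 (p.2.1.1 (E none))).1 = _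
      exact cong_pres _ (rep p.1.1 p.1.2).2 _ _ (cong_of_P p.2.1 p.2.2)
    rw [h1, hrep]
  have hbij : Function.Bijective F := by
    constructor
    · intro p q hpq
      have h1 : p.1 = q.1 := by
        apply Subtype.ext
        rw [← hcls p, ← hcls q, hpq]
      have h2 : p.2 = q.2 := by
        apply Subtype.ext
        have : rep p.1.1 p.1.2 * p.2.1 = rep q.1.1 q.1.2 * q.2.1 := hpq
        have e : rep q.1.1 q.1.2 = rep p.1.1 p.1.2 := by
          congr 1
          rw [h1]
        rw [e] at this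
        exact mul_left_cancel this
      exact Prod.ext h1 h2
    · intro g
      have hn : sqNorm (g.1 (E none)).1 = 64 := by
        rw [g.2.2]
        exact Cfsg.Agent.Lib.Helper9.LeechM2.sqNorm_E none
      have hκ : mk (g.1 (E none)).1 ∈ Cl 64 (le_refl _) :=
        mem_image_of_mem _ (mem_Lf.mpr ⟨(g.1 (E none)).2, by exact_mod_cast hn⟩)
      have hP : P ((rep _ hκ)⁻¹ * g) := P_of_cong g (rep _ hκ) (hrep _ hκ).symm
      refine ⟨(⟨_, hκ⟩, ⟨_, hP⟩), ?_⟩
      show rep _ hκ * ((rep _ hκ)⁻¹ * g) = g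
      rw [mul_inv_cancel_left]
  rw [← Nat.card_congr (Equiv.ofBijective F hbij), Nat.card_prod, card_stab,
    Nat.card_eq_fintype_card, Fintype.card_coe, card_Cl64]

end Cfsg.Agent.Lib.Helper9.LeechX12
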