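import Cfsg.Agent.Lib.Helper9.M24Q3

set_option autoImplicit false

/-! Simplicity of `M11`, `M12`, `M24`. -/

namespace Cfsg.Agent.Lib.Helper9.M24Q4

open Cfsg Finset Cfsg.Agent.Lib.Helper9.M24H5 Cfsg.Agent.Lib.Helper9.M24Q1
  Cfsg.Agent.Lib.Helper9.M24Q2 Cfsg.Agent.Lib.Helper9.M24Q3
  Cfsg.Agent.Lib.Helper9.M24T3 Cfsg.Agent.Lib.Helper9.M24T7
  Cfsg.Agent.Lib.Helper9.M24T9 Cfsg.Agent.Lib.Helper9.M24T11
  Cfsg.Agent.Lib.Helper9.SimpA Cfsg.Agent.Lib.Helper9.SimpB
open scoped Pointwise

theorem stabF_le (d : Finset GolayPt) : stabF d ≤ M24 := fun _ hg => ((mem_stabF d _).mp hg).1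

theorem stabF_maps (d : Finset GolayPt) (g : Equiv.Perm GolayPt) (hg : g ∈ stabF d)
    (x : GolayPt) (hx : x ∈ d) : g x ∈ d := by
  have := ((mem_stabF d g).mp hg).2
  rw [← this]
  exact Finset.smul_mem_smul_finset hx

/-- the stabilizer of a dodecad is 3-transitive on it -/
theorem trans3 (d : Finset GolayPt) (hd : d ∈ dodecads) (l l' : List GolayPt)
    (hl : l.Nodup) (hl' : l'.Nodup) (hld : ∀ x ∈ l, x ∈ d) (hld' : ∀ x ∈ l', x ∈ d)
    (hlen : l.length = l'.length) (h5 : l.length ≤ 5) :
    ∃ g ∈ stabF d, ∀ (i : ℕ) (hi : i < l.length), g l[i] = l'[i] := by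
  have h12 : d.card = 12 := hd.2
  obtain ⟨x, hx, hxl⟩ := exists_emb_prefix d (by omega) l hl hld h5
  obtain ⟨y, hy, hyl⟩ := exists_emb_prefix d (by omega) l' hl' hld' (by omega)
  obtain ⟨g, ⟨hg, hgxy⟩, -⟩ := sharp_dodecad d hd x y hx hy
  refine ⟨g, hg, ?_⟩
  intro i hi
  rw [← hxl i hi, hgxy, hyl i (by omega)]

theorem m11_simple (d : Finset GolayPt) (hd : d ∈ dodecads) (p0 : GolayPt) (hp0 : p0 ∈ d) :
    IsSimpleGroup ↥(stabF d ⊓ MulAction.stabilizer (Equiv.Perm GolayPt) p0) := by
  haveI : Fact (Nat.Prime 11) := ⟨by norm_num⟩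
  have h12 : d.card = 12 := hd.2
  have hfix : ∀ h ∈ stabF d ⊓ MulAction.stabilizer (Equiv.Perm GolayPt) p0, h p0 = p0 :=
    fun h hh => MulAction.mem_stabilizer_iff.mp (Subgroup.mem_inf.mp hh).2
  have hcard : (d.erase p0).card = 11 := by
    rw [Finset.card_erase_of_mem hp0, h12]
  refine simple_sub (stabF d ⊓ MulAction.stabilizer (Equiv.Perm GolayPt) p0)
    (inf_le_left.trans (stabF_le d)) p0 hfix 11 5 (by norm_num) (Or.inl rfl)
    (d.erase p0) ?_ ?_ ?_ (by rw [hcard]) (by rw [hcard]; norm_num)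
    7920 (card_stab_point d hd p0 hp0) (by norm_num) (by norm_num) (by intro _; norm_num) ?_
    (by norm_num)
  · intro a ha b hb c hc e he hab hce
    obtain ⟨hap, ha'⟩ := Finset.mem_erase.mp ha
    obtain ⟨hbp, hb'⟩ := Finset.mem_erase.mp hb
    obtain ⟨hcp, hc'⟩ := Finset.mem_erase.mp hc
    obtain ⟨hep, he'⟩ := Finset.mem_erase.mp he
    obtain ⟨g, hg, hmap⟩ := trans3 d hd [p0, a, b] [p0, c, e]
      (by simp [hap.symm, hbp.symm, hab]) (by simp [hcp.symm, hep.symm, hce])
      (by
        intro x hx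
        simp only [List.mem_cons, List.not_mem_nil, or_false] at hx
        rcases hx with rfl | rfl | rfl <;> assumption)
      (by
        intro x hx
        simp only [List.mem_cons, List.not_mem_nil, or_false] at hx
        rcases hx with rfl | rfl | rfl <;> assumption) rfl (by simp)
    have h0 : g p0 = p0 := hmap 0 (by simp)
    have h1 : g a = c := hmap 1 (by simp)
    have h2 : g b = e := hmap 2 (by simp)
    exact ⟨g, Subgroup.mem_inf.mpr ⟨hg, MulAction.mem_stabilizer_iff.mpr h0⟩, h1, h2⟩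
  · intro h hh hx
    exact Cfsg.Agent.Lib.Helper9.M24P5.eq_one_of_fix d hd h (Subgroup.mem_inf.mp hh).1
      (d.erase p0) (Finset.erase_subset _ _) (by rw [hcard]; norm_num) hx
  · intro h hh x hx
    obtain ⟨hxp, hx'⟩ := Finset.mem_erase.mp hx
    refine Finset.mem_erase.mpr ⟨?_, stabF_maps d h (Subgroup.mem_inf.mp hh).1 x hx'⟩
    intro he
    have := hfix h hh
    rw [← this] at he
    exact hxp (h.injective he)
  · intro e he1 he2 he3
    have hle : e ≤ 10 := Nat.le_of_dvd (by norm_num) he1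
    interval_cases e <;> first | rfl | (exfalso; revert he1 he2 he3; decide)

theorem m12_simple (d : Finset GolayPt) (hd : d ∈ dodecads) : IsSimpleGroup ↥(stabF d) := by
  have h12 : d.card = 12 := hd.2
  obtain ⟨p0, hp0⟩ : d.Nonempty := Finset.card_pos.mp (by omega)
  refine simple_of_stab (stabF d) d ?_ ?_ (stabF_maps d) p0 hp0 (by omega) ?_
    (by rw [h12]; exact not_pp 12 (by norm_num) (by norm_num))
  · intro a ha b hb c hc e he hab hce
    obtain ⟨g, hg, hmap⟩ := trans3 d hd [a, b] [c, e]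
      (by simp [hab]) (by simp [hce])
      (by
        intro x hx
        simp only [List.mem_cons, List.not_mem_nil, or_false] at hx
        rcases hx with rfl | rfl <;> assumption)
      (by
        intro x hx
        simp only [List.mem_cons, List.not_mem_nil, or_false] at hx
        rcases hx with rfl | rfl <;> assumption) rfl (by simp)
    exact ⟨g, hg, hmap 0 (by simp), hmap 1 (by simp)⟩
  · intro h hh hx
    exact Cfsg.Agent.Lib.Helper9.M24P5.eq_one_of_fix d hd h hh d (Finset.Subset.refl _)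
      (by omega) hx
  · have e := subEquiv (stabF d)
      ((MulAction.stabilizer (Equiv.Perm GolayPt) p0).subgroupOf (stabF d))
      (stabF d ⊓ MulAction.stabilizer (Equiv.Perm GolayPt) p0) inf_le_left (by
        intro g
        rw [Subgroup.mem_subgroupOf, Subgroup.mem_inf]
        exact ⟨fun h => ⟨g.2, h⟩, fun h => h.2⟩)
    haveI := m11_simple d hd p0 hp0
    exact e.isSimpleGroup

theorem m24_simple : IsSimpleGroup ↥M24 := by
  refine simple_of_stab M24 Finset.univ ?_ ?_ (fun _ _ _ _ => Finset.mem_univ _) none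
    (Finset.mem_univ _) (by rw [card_univ_pt]; norm_num) ?_
    (by rw [card_univ_pt]; exact not_pp 24 (by norm_num) (by norm_num))
  · intro a _ b _ c _ e _ hab hce
    obtain ⟨g, hg, hmap⟩ := Cfsg.Agent.Lib.Helper9.M24Y1.exists_map_list [a, b] [c, e]
      (by simp [hab]) (by simp [hce]) rfl (by simp)
    simp only [List.map_cons, List.map_nil, List.cons.injEq, and_true] at hmap
    exact ⟨g, hg, hmap.1, hmap.2⟩
  · intro h _ hx
    exact Equiv.ext fun x => hx x (Finset.mem_univ _)
  · have e := subEquiv M24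
      ((MulAction.stabilizer (Equiv.Perm GolayPt) (none : GolayPt)).subgroupOf M24)
      (fixL M24 [none]) (fixL_le _ _) (by
        intro g
        rw [Subgroup.mem_subgroupOf, MulAction.mem_stabilizer_iff, mem_fixL]
        constructor
        · intro h
          refine ⟨g.2, ?_⟩
          intro b hb
          rw [List.mem_singleton] at hb
          rw [hb]; exact h
        · intro h
          exact h.2 none (by simp))
    haveI := m23_simple none
    exact e.isSimpleGroup

end Cfsg.Agent.Lib.Helper9.M24Q4
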