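import Cfsg.Agent.Lib.Helper9.M24T3

set_option autoImplicit false

namespace Cfsg.Agent.Lib.Helper9.M24T4

open Cfsg Finset Cfsg.Agent.Lib.Helper9.GolayQR1 Cfsg.Agent.Lib.Helper9.GolayQR3
  Cfsg.Agent.Lib.Helper9.M24T1 Cfsg.Agent.Lib.Helper9.M24T2 Cfsg.Agent.Lib.Helper9.M24T3
  Cfsg.Agent.Lib.Helper9.Chain1

theorem level_card (l : List GolayPt) (b : GolayPt) (δ : GolayPt → Prop) [DecidablePred δ]
    (hup : ∀ g ∈ fixL M24 l, δ (g b)) (hlow : ∀ p, δ p → ∃ u ∈ fixL C l, u b = p) :
    Nat.card (fixL M24 l) = (univ.filter δ).card * Nat.card (fixL M24 (l ++ [b])) := by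
  rw [fixL_snoc]
  apply card_step
  · intro g hg
    rw [mem_filter]
    exact ⟨mem_univ _, hup g hg⟩
  · intro x hx
    rw [mem_filter] at hx
    obtain ⟨u, hu, hux⟩ := hlow x hx.2
    exact ⟨u, fixL_mono C_le l hu, hux⟩

theorem level_le (l : List GolayPt) (b : GolayPt) (δ : GolayPt → Prop)
    (hup : ∀ g ∈ fixL M24 l, δ (g b)) (hlow : ∀ p, δ p → ∃ u ∈ fixL C l, u b = p)
    (hnext : fixL M24 (l ++ [b]) ≤ C) : fixL M24 l ≤ C := by
  apply le_step (fixL M24 l) C b
  · intro g hg
    obtain ⟨u, hu, hux⟩ := hlow _ (hup g hg)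
    exact ⟨u, hu.1, fixL_mono C_le l hu, hux⟩
  · rw [← fixL_snoc]
    exact hnext

theorem M24_le_C : M24 ≤ C := by
  have h7 : fixL M24 [none, some 0, some 1, some 2, some 3, some 4, some 5] ≤ C := by
    rw [fix7_eq_bot]
    exact bot_le
  have h6 := level_le _ _ _ up7 low7 h7
  have h5 := level_le _ _ _ up6 low6 h6
  have h4 := level_le _ _ _ up5 low5 h5
  have h3 := level_le _ _ _ up4 low4 h4
  have h2 := level_le _ _ _ up3 low3 h3
  have h1 := level_le _ _ _ up2 low2 h2
  have h0 := level_le _ _ _ up1 low1 h1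
  rwa [fixL_nil] at h0

theorem C_eq_M24 : C = M24 := le_antisymm C_le M24_le_C

theorem card_fix7 :
    Nat.card (fixL M24 [none, some 0, some 1, some 2, some 3, some 4, some 5]) = 1 := by
  rw [fix7_eq_bot]
  exact Subgroup.card_bot

theorem card_fix6 : Nat.card (fixL M24 [none, some 0, some 1, some 2, some 3, some 4]) = 3 := by
  rw [level_card _ _ _ up7 low7]
  change _ * Nat.card (fixL M24 [none, some 0, some 1, some 2, some 3, some 4, some 5]) = 3
  rw [card_fix7, mul_one]
  decide +kernel

theorem card_fix5 : Nat.card (fixL M24 [none, some 0, some 1, some 2, some 3]) = 48 := by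
  rw [level_card _ _ _ up6 low6]
  change _ * Nat.card (fixL M24 [none, some 0, some 1, some 2, some 3, some 4]) = 48
  rw [card_fix6]
  decide +kernel

theorem card_fix4 : Nat.card (fixL M24 [none, some 0, some 1, some 2]) = 960 := by
  rw [level_card _ _ _ up5 low5]
  change _ * Nat.card (fixL M24 [none, some 0, some 1, some 2, some 3]) = 960
  rw [card_fix5]
  decide +kernel

theorem card_fix3 : Nat.card (fixL M24 [none, some 0, some 1]) = 20160 := by
  rw [level_card _ _ _ up4 low4]
  change _ * Nat.card (fixL M24 [none, some 0, some 1, some 2]) = 20160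
  rw [card_fix4]
  decide +kernel

theorem card_fix2 : Nat.card (fixL M24 [none, some 0]) = 443520 := by
  rw [level_card _ _ _ up3 low3]
  change _ * Nat.card (fixL M24 [none, some 0, some 1]) = 443520
  rw [card_fix3]
  decide +kernel

theorem card_fix1 : Nat.card (fixL M24 [none]) = 10200960 := by
  rw [level_card _ _ _ up2 low2]
  change _ * Nat.card (fixL M24 [none, some 0]) = 10200960
  rw [card_fix2]
  decide +kernel

theorem card_M24 : Nat.card M24 = 244823040 := by
  have h := level_card _ _ _ up1 low1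
  rw [fixL_nil] at h
  rw [h]
  change _ * Nat.card (fixL M24 [none]) = 244823040
  rw [card_fix1]
  decide +kernel

end Cfsg.Agent.Lib.Helper9.M24T4
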