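import Mathlib

set_option autoImplicit false
set_option linter.unusedSectionVars false
set_option linter.unusedVariables false
set_option linter.style.longLine false
set_option linter.unusedSimpArgs false

set_option maxHeartbeats 1600000
namespace Cfsg.Agent.Lib.Helper9.Bsw

/-- The hypotheses of the abstract Brauer-Suzuki-Wall theorem (S3282), bundled. -/
structure Hy {G : Type*} [Group G] (t s : G) (K : Subgroup G) : Prop where
  ht : orderOf t = 2
  hKab : ∀ x ∈ K, ∀ y ∈ K, x * y = y * x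
  hKH : K ≤ Subgroup.centralizer ({t} : Set G)
  htK : t ∈ K
  hs : orderOf s = 2
  hsK : s ∉ K
  hH : K ⊔ Subgroup.zpowers s = Subgroup.centralizer ({t} : Set G)
  hCK : K ⊓ Subgroup.centralizer ({s} : Set G) = Subgroup.zpowers t
  hinv : ∀ x ∈ K, s * x * s⁻¹ = x⁻¹
  hTI : ∀ g : G, g ∉ Subgroup.centralizer ({t} : Set G) →
    K ⊓ K.map (MulAut.conj g).toMonoidHom = ⊥
  hconj : ∀ x y : G, orderOf x = 2 → orderOf y = 2 → IsConj x y

namespace Hy

variable {G : Type*} [Group G] {t s : G} {K : Subgroup G}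

theorem s_mul_s (h : Hy t s K) : s * s = 1 := by
  have := pow_orderOf_eq_one s
  rw [h.hs, pow_two] at this
  exact this

theorem s_inv (h : Hy t s K) : s⁻¹ = s := by
  rw [inv_eq_iff_mul_eq_one]; exact h.s_mul_s

theorem t_mul_t (h : Hy t s K) : t * t = 1 := by
  have := pow_orderOf_eq_one t
  rw [h.ht, pow_two] at this
  exact this

theorem t_ne_one (h : Hy t s K) : t ≠ 1 := by
  intro h1
  have := h.ht
  rw [h1, orderOf_one] at this
  omega

theorem s_ne_one (h : Hy t s K) : s ≠ 1 := by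
  intro h1
  exact h.hsK (h1 ▸ K.one_mem)

theorem inv' (h : Hy t s K) {x : G} (hx : x ∈ K) : s * x * s = x⁻¹ := by
  have := h.hinv x hx
  rwa [h.s_inv] at this

/-- the subgroup `K ∪ Ks` -/
def HS (h : Hy t s K) : Subgroup G where
  carrier := {g | g ∈ K ∨ g * s ∈ K}
  one_mem' := Or.inl K.one_mem
  mul_mem' := by
    rintro a b (ha | ha) (hb | hb)
    · exact Or.inl (K.mul_mem ha hb)
    · right
      have : a * b * s = a * (b * s) := by group
      rw [this]; exact K.mul_mem ha hb
    · right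
      have h1 := h.inv' hb
      have : a * b * s = (a * s) * (s * b * s) := by
        calc a * b * s = a * (s * s) * b * s := by rw [h.s_mul_s, mul_one]
          _ = _ := by group
      rw [this, h1]
      exact K.mul_mem ha (K.inv_mem hb)
    · left
      have h1 := h.inv' hb
      have : a * b = (a * s) * (s * (b * s) * s) := by
        calc a * b = a * (s * s) * b * (s * s) := by rw [h.s_mul_s, mul_one, mul_one]
          _ = _ := by group
      rw [this, h1]
      exact K.mul_mem ha (K.inv_mem hb)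
  inv_mem' := by
    rintro a (ha | ha)
    · exact Or.inl (K.inv_mem ha)
    · right
      have h1 := h.inv' (K.inv_mem ha)
      have : a⁻¹ * s = s * (a * s)⁻¹ * s := by
        calc a⁻¹ * s = (s * s) * a⁻¹ * s := by rw [h.s_mul_s, one_mul]
          _ = s * (s * a⁻¹) * s := by simp only [mul_assoc]
          _ = _ := by rw [mul_inv_rev, h.s_inv]
      rw [this, h1, inv_inv]
      exact ha

theorem mem_HS (h : Hy t s K) {g : G} : g ∈ h.HS ↔ g ∈ K ∨ g * s ∈ K := Iff.rfl

theorem HS_eq (h : Hy t s K) : h.HS = Subgroup.centralizer ({t} : Set G) := by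
  rw [← h.hH]
  apply le_antisymm
  · rintro g (hg | hg)
    · exact Subgroup.mem_sup_left hg
    · have : g = (g * s) * s⁻¹ := by group
      rw [this]
      exact Subgroup.mul_mem _ (Subgroup.mem_sup_left hg)
        (Subgroup.mem_sup_right (Subgroup.inv_mem _ (Subgroup.mem_zpowers s)))
  · apply sup_le
    · intro g hg; exact Or.inl hg
    · rw [Subgroup.zpowers_le]
      right
      rw [h.s_mul_s]; exact K.one_mem

theorem mem_H_iff (h : Hy t s K) {g : G} :
    g ∈ Subgroup.centralizer ({t} : Set G) ↔ g ∈ K ∨ g * s ∈ K := by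
  rw [← h.HS_eq]; rfl

theorem s_mem_H (h : Hy t s K) : s ∈ Subgroup.centralizer ({t} : Set G) := by
  rw [h.mem_H_iff]; right; rw [h.s_mul_s]; exact K.one_mem

/-- TI in elementwise form -/
theorem ti (h : Hy t s K) {x g : G} (hx : x ∈ K) (hx1 : x ≠ 1) (hg : g * x * g⁻¹ ∈ K) :
    g ∈ Subgroup.centralizer ({t} : Set G) := by
  by_contra hgH
  have h1 := h.hTI g hgH
  have h2 : g * x * g⁻¹ ∈ K ⊓ K.map (MulAut.conj g).toMonoidHom := by
    refine ⟨hg, ?_⟩
    exact ⟨x, hx, by simp [MulAut.conj_apply]⟩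
  rw [h1, Subgroup.mem_bot] at h2
  apply hx1
  have : x = g⁻¹ * (g * x * g⁻¹) * g := by group
  rw [this, h2]; group

theorem ti' (h : Hy t s K) {x g : G} (hx : x ∈ K) (hx1 : x ≠ 1) (hg : g⁻¹ * x * g ∈ K) :
    g ∈ Subgroup.centralizer ({t} : Set G) := by
  have h1 : g⁻¹ ∈ Subgroup.centralizer ({t} : Set G) := by
    apply h.ti hx hx1
    rwa [inv_inv]
  have := Subgroup.inv_mem _ h1
  rwa [inv_inv] at this

/-- elements of `H \ K` are involutions -/
theorem sq_of_mem_H_not_mem_K (h : Hy t s K) {g : G}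
    (hg : g ∈ Subgroup.centralizer ({t} : Set G)) (hgK : g ∉ K) : g * g = 1 := by
  rcases h.mem_H_iff.1 hg with h1 | h1
  · exact (hgK h1).elim
  · have h2 := h.inv' h1
    have : g * g = (g * s) * (s * (g * s) * s) := by
      calc g * g = g * (s * s) * g * (s * s) := by rw [h.s_mul_s, mul_one, mul_one]
        _ = _ := by group
    rw [this, h2, mul_inv_cancel]

theorem orderOf_of_mem_H_not_mem_K (h : Hy t s K) {g : G}
    (hg : g ∈ Subgroup.centralizer ({t} : Set G)) (hgK : g ∉ K) : orderOf g = 2 := by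
  have h1 : g ≠ 1 := fun h1 => hgK (h1 ▸ K.one_mem)
  have h2 : g ^ 2 = 1 := by rw [pow_two]; exact h.sq_of_mem_H_not_mem_K hg hgK
  exact orderOf_eq_prime h2 h1

/-- `K` has a unique involution -/
theorem eq_one_or_eq_t (h : Hy t s K) {x : G} (hx : x ∈ K) (hxx : x * x = 1) : x = 1 ∨ x = t := by
  have hxi : x⁻¹ = x := by rw [inv_eq_iff_mul_eq_one]; exact hxx
  have h1 : x ∈ K ⊓ Subgroup.centralizer ({s} : Set G) := by
    refine ⟨hx, ?_⟩
    show x ∈ Subgroup.centralizer ({s} : Set G)
    rw [Subgroup.mem_centralizer_singleton_iff]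
    have h2 := h.hinv x hx
    rw [hxi] at h2
    symm
    calc s * x = (s * x * s⁻¹) * s := by group
      _ = x * s := by rw [h2]
  rw [h.hCK, Subgroup.mem_zpowers_iff] at h1
  obtain ⟨n, hn⟩ := h1
  rw [← hn]
  rcases Int.emod_two_eq_zero_or_one n with h0 | h0
  · left
    obtain ⟨m, rfl⟩ : ∃ m, n = 2 * m := ⟨n / 2, by omega⟩
    rw [zpow_mul, zpow_two, h.t_mul_t, one_zpow]
  · right
    obtain ⟨m, rfl⟩ : ∃ m, n = 2 * m + 1 := ⟨n / 2, by omega⟩
    rw [zpow_add, zpow_mul, zpow_two, h.t_mul_t, one_zpow, one_mul, zpow_one]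

theorem orderOf_two_iff {x : G} : orderOf x = 2 ↔ x * x = 1 ∧ x ≠ 1 := by
  constructor
  · intro hx
    refine ⟨?_, ?_⟩
    · have := pow_orderOf_eq_one x
      rwa [hx, pow_two] at this
    · intro h1; rw [h1, orderOf_one] at hx; omega
  · rintro ⟨h1, h2⟩
    exact orderOf_eq_prime (by rw [pow_two]; exact h1) h2

end Hy

end Cfsg.Agent.Lib.Helper9.Bsw
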