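import Mathlib
import Cfsg.Agent.Lib.Helper9.BswA

set_option autoImplicit false
set_option linter.unusedSectionVars false
set_option linter.unusedVariables false
set_option linter.style.longLine false
set_option linter.unusedSimpArgs false

set_option maxHeartbeats 1600000
namespace Cfsg.Agent.Lib.Helper9.Bsw

namespace Hy

variable {G : Type*} [Group G] {t s : G} {K : Subgroup G}

theorem card_H [Finite G] (h : Hy t s K) :
    Nat.card (Subgroup.centralizer ({t} : Set G)) = 2 * Nat.card K := by
  have h1 : (K.subgroupOf (Subgroup.centralizer ({t} : Set G))).index = 2 := by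
    rw [Subgroup.index_eq_two_iff]
    refine ⟨⟨s, h.s_mem_H⟩, ?_⟩
    intro b
    rw [Subgroup.mem_subgroupOf, Subgroup.mem_subgroupOf]
    have hb := h.mem_H_iff.1 b.2
    show Xor ((b : G) * s ∈ K) ((b : G) ∈ K)
    rcases hb with hb | hb
    · right
      refine ⟨hb, ?_⟩
      intro hbs
      apply h.hsK
      have : s = (b : G)⁻¹ * ((b : G) * s) := by group
      rw [this]
      exact K.mul_mem (K.inv_mem hb) hbs
    · left
      refine ⟨hb, ?_⟩
      intro hbK
      apply h.hsK
      have : s = (b : G)⁻¹ * ((b : G) * s) := by group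
      rw [this]
      exact K.mul_mem (K.inv_mem hbK) hb
  have h2 := (K.subgroupOf (Subgroup.centralizer ({t} : Set G))).card_mul_index
  rw [h1] at h2
  have h3 : Nat.card (K.subgroupOf (Subgroup.centralizer ({t} : Set G))) = Nat.card K :=
    Nat.card_congr (Subgroup.subgroupOfEquivOfLe h.hKH).toEquiv
  omega

theorem mul_s_mem_H (h : Hy t s K) {y : G} (hy : y ∈ K) :
    y * s ∈ Subgroup.centralizer ({t} : Set G) := by
  rw [h.mem_H_iff]; right
  have : y * s * s = y * (s * s) := by group
  rw [this, h.s_mul_s, mul_one]; exact hy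

theorem mul_s_not_mem (h : Hy t s K) {y : G} (hy : y ∈ K) : y * s ∉ K := by
  intro hys
  apply h.hsK
  have : s = y⁻¹ * (y * s) := by group
  rw [this]
  exact K.mul_mem (K.inv_mem hy) hys

theorem s_mul_mem_H (h : Hy t s K) {y : G} (hy : y ∈ K) :
    s * y ∈ Subgroup.centralizer ({t} : Set G) :=
  Subgroup.mul_mem _ h.s_mem_H (h.hKH hy)

theorem s_mul_not_mem (h : Hy t s K) {y : G} (hy : y ∈ K) : s * y ∉ K := by
  intro hys
  apply h.hsK
  have : s = (s * y) * y⁻¹ := by group
  rw [this]
  exact K.mul_mem hys (K.inv_mem hy)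

/-- the number of ways of writing a nonidentity element of `K` as a product of two
involutions is `|K|` -/
theorem psi_of_mem_K (h : Hy t s K) {x0 : G} (hx0 : x0 ∈ K) (hx01 : x0 ≠ 1) :
    Nat.card {p : G × G // orderOf p.1 = 2 ∧ orderOf p.2 = 2 ∧ p.1 * p.2 = x0} = Nat.card K := by
  symm
  let f : K → {p : G × G // orderOf p.1 = 2 ∧ orderOf p.2 = 2 ∧ p.1 * p.2 = x0} := fun y =>
    ⟨((y : G) * s, s * ((y : G)⁻¹ * x0)), by
      refine ⟨h.orderOf_of_mem_H_not_mem_K (h.mul_s_mem_H y.2) (h.mul_s_not_mem y.2),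
        h.orderOf_of_mem_H_not_mem_K (h.s_mul_mem_H (K.mul_mem (K.inv_mem y.2) hx0))
          (h.s_mul_not_mem (K.mul_mem (K.inv_mem y.2) hx0)), ?_⟩
      show (y : G) * s * (s * ((y : G)⁻¹ * x0)) = x0
      calc (y : G) * s * (s * ((y : G)⁻¹ * x0)) = (y : G) * (s * s) * ((y : G)⁻¹ * x0) := by group
        _ = x0 := by rw [h.s_mul_s]; group⟩
  apply Nat.card_congr
  refine Equiv.ofBijective f ⟨?_, ?_⟩
  · intro y y' hyy
    have h1 := congrArg (fun p => p.1.1) hyy
    simp only [f] at h1
    exact Subtype.ext (mul_right_cancel h1)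
  · rintro ⟨⟨u, v⟩, hu, hv, huv⟩
    simp only at hu hv huv
    obtain ⟨huu, hu1⟩ := orderOf_two_iff.1 hu
    obtain ⟨hvv, hv1⟩ := orderOf_two_iff.1 hv
    have hui : u⁻¹ = u := by rw [inv_eq_iff_mul_eq_one]; exact huu
    have hvi : v⁻¹ = v := by rw [inv_eq_iff_mul_eq_one]; exact hvv
    have hconj : u * x0 * u⁻¹ = x0⁻¹ := by
      rw [← huv, mul_inv_rev, hui, hvi]
      calc u * (u * v) * u = (u * u) * v * u := by group
        _ = v * u := by rw [huu, one_mul]
    have huH : u ∈ Subgroup.centralizer ({t} : Set G) := by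
      apply h.ti hx0 hx01
      rw [hconj]; exact K.inv_mem hx0
    have huK : u ∉ K := by
      intro huK
      have hut : u = t := (h.eq_one_or_eq_t huK huu).resolve_left hu1
      have hvK : v ∈ K := by
        have : v = u⁻¹ * x0 := by rw [← huv]; group
        rw [this]; exact K.mul_mem (K.inv_mem huK) hx0
      have hvt : v = t := (h.eq_one_or_eq_t hvK hvv).resolve_left hv1
      apply hx01
      rw [← huv, hut, hvt, h.t_mul_t]
    have husK : u * s ∈ K := (h.mem_H_iff.1 huH).resolve_left huK
    refine ⟨⟨u * s, husK⟩, ?_⟩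
    apply Subtype.ext
    simp only [f]
    have e1 : u * s * s = u := by
      calc u * s * s = u * (s * s) := by group
        _ = u := by rw [h.s_mul_s, mul_one]
    have e2 : s * ((u * s)⁻¹ * x0) = v := by
      rw [← huv, mul_inv_rev]
      group
    rw [e1, e2]

end Hy

end Cfsg.Agent.Lib.Helper9.Bsw
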