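import Mathlib
import Cfsg.Agent.Lib.Helper6.MulCop1
import Cfsg.Agent.Lib.Helper6.Auto
import Cfsg.Agent.Lib.Helper6.Norm
import Cfsg.Agent.Lib.Helper6.Mult

set_option autoImplicit false
set_option linter.unusedSectionVars false
set_option linter.unusedVariables false
set_option linter.style.longLine false
set_option linter.unusedSimpArgs false

set_option maxHeartbeats 1600000
namespace Cfsg.Agent.Lib.Helper9.Bsw

open Cfsg Cfsg.Agent.Lib.Helper6
open scoped ComplexConjugate

section abel

variable {A : Type*} [Group A] [Fintype A]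

/-- the trivial irreducible character -/
noncomputable def oneI (A : Type*) [Group A] : IrrCharacter A := ⟨fun _ => 1, isIrrCharacter_one⟩

theorem oneI_apply (a : A) : (oneI A : A → ℂ) a = 1 := rfl

/-- the complex conjugate irreducible character -/
noncomputable def barI (μ : IrrCharacter A) : IrrCharacter A :=
  ⟨fun a => conj ((μ : A → ℂ) a), IsIrrCharacter.conj μ.2⟩

theorem barI_apply (μ : IrrCharacter A) (a : A) : (barI μ : A → ℂ) a = conj ((μ : A → ℂ) a) := rfl

theorem barI_barI (μ : IrrCharacter A) : barI (barI μ) = μ := by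
  apply Subtype.ext
  funext a
  simp [barI_apply]

theorem barI_oneI : barI (oneI A) = oneI A := by
  apply Subtype.ext
  funext a
  simp [barI_apply, oneI_apply]

theorem irr_inv (μ : IrrCharacter A) (a : A) : (μ : A → ℂ) a⁻¹ = conj ((μ : A → ℂ) a) :=
  IsCharacter.apply_inv (IsIrrCharacter.isCharacter μ.2) a

variable (hA : IsMulCommutative A)
include hA

theorem irr_one (μ : IrrCharacter A) : (μ : A → ℂ) 1 = 1 :=
  MulCop.apply_one_eq_one_of_comm hA μ

theorem irr_mul (μ : IrrCharacter A) (a b : A) :
    (μ : A → ℂ) (a * b) = (μ : A → ℂ) a * (μ : A → ℂ) b :=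
  IsCharacter.mul_of_apply_one_eq_one (IsIrrCharacter.isCharacter μ.2) (irr_one hA μ) a b

theorem irr_mul_conj (μ : IrrCharacter A) (a : A) :
    (μ : A → ℂ) a * conj ((μ : A → ℂ) a) = 1 := by
  rw [← irr_inv, ← irr_mul hA, mul_inv_cancel, irr_one hA]

theorem sum_irr_apply [Fintype (IrrCharacter A)] [DecidableEq A] (a : A) :
    ∑ μ : IrrCharacter A, (μ : A → ℂ) a = if a = 1 then (Nat.card A : ℂ) else 0 := by
  rw [← sum_irr_apply_mul_apply_one a]
  apply Finset.sum_congr rfl
  intro μ _
  rw [irr_one hA, mul_one]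

theorem card_irr [Fintype (IrrCharacter A)] : Fintype.card (IrrCharacter A) = Nat.card A := by
  classical
  have h := sum_irr_apply hA (1 : A)
  rw [if_pos rfl] at h
  have h2 : ∑ μ : IrrCharacter A, (μ : A → ℂ) 1 = (Fintype.card (IrrCharacter A) : ℂ) := by
    rw [Finset.sum_congr rfl (fun μ _ => irr_one hA μ)]
    simp
  rw [h2] at h
  exact_mod_cast h

/-- Frobenius-Schur count for an abelian group: the number of real irreducible characters is
the number of solutions of `a * a = 1`. -/
theorem card_real [Fintype (IrrCharacter A)] [DecidableEq A] [DecidableEq (IrrCharacter A)] :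
    (Finset.univ.filter (fun μ : IrrCharacter A => barI μ = μ)).card
      = (Finset.univ.filter (fun a : A => a * a = 1)).card := by
  have hA0 : (Nat.card A : ℂ) ≠ 0 := card_ne_zero_complex A
  have h1 : ∀ μ : IrrCharacter A, ∑ a : A, (μ : A → ℂ) (a * a)
      = if barI μ = μ then (Nat.card A : ℂ) else 0 := by
    intro μ
    have h2 : ∑ a : A, (μ : A → ℂ) (a * a)
        = ∑ a : A, (μ : A → ℂ) a * conj ((barI μ : A → ℂ) a) := by
      apply Finset.sum_congr rfl
      intro a _
      rw [irr_mul hA, barI_apply, Complex.conj_conj]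
    rw [h2]
    have h3 : ∑ a : A, (μ : A → ℂ) a * conj ((barI μ : A → ℂ) a)
        = (Nat.card A : ℂ) * classInner (μ : A → ℂ) (barI μ : A → ℂ) := by
      unfold classInner; field_simp
    rw [h3, classInner_irrCharacter]
    by_cases hb : barI μ = μ
    · rw [if_pos hb, if_pos hb.symm, mul_one]
    · rw [if_neg hb, if_neg (fun h' => hb h'.symm), mul_zero]
  have h2 : ∑ μ : IrrCharacter A, ∑ a : A, (μ : A → ℂ) (a * a)
      = (Nat.card A : ℂ) * ((Finset.univ.filter (fun μ : IrrCharacter A => barI μ = μ)).card : ℂ) := by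
    rw [Finset.sum_congr rfl (fun μ _ => h1 μ), ← Finset.sum_filter, Finset.sum_const,
      nsmul_eq_mul, mul_comm]
  have h3 : ∑ μ : IrrCharacter A, ∑ a : A, (μ : A → ℂ) (a * a)
      = (Nat.card A : ℂ) * ((Finset.univ.filter (fun a : A => a * a = 1)).card : ℂ) := by
    rw [Finset.sum_comm]
    rw [Finset.sum_congr rfl (fun a _ => sum_irr_apply hA (a * a)), ← Finset.sum_filter,
      Finset.sum_const, nsmul_eq_mul, mul_comm]
  rw [h2] at h3
  have h4 := mul_left_cancel₀ hA0 h3
  exact_mod_cast h4

end abel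

end Cfsg.Agent.Lib.Helper9.Bsw
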