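import Mathlib
import Cfsg.Agent.Lib.Helper9.BswB
import Cfsg.Agent.Lib.Helper9.BswC
import Cfsg.Agent.Lib.Helper6.IndFunMore
import Cfsg.Agent.Lib.Helper6.GenCharOps
import Cfsg.Agent.Lib.Helper6.Constituent

set_option autoImplicit false
set_option linter.unusedSectionVars false
set_option linter.unusedVariables false
set_option linter.style.longLine false
set_option linter.unusedSimpArgs false

set_option maxHeartbeats 1600000
namespace Cfsg.Agent.Lib.Helper9.Bsw

open Cfsg Cfsg.Agent.Lib.Helper6 Cfsg.Agent.Lib.Helper6.IndFunMore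
open scoped ComplexConjugate

section phi

variable {G : Type*} [Group G] [Fintype G] {t s : G} {K : Subgroup G} [Fintype K]

/-- the function on `K` given by `1 - μ` -/
noncomputable def theta (K : Subgroup G) (μ : IrrCharacter K) : K → ℂ :=
  (oneI K : K → ℂ) - (μ : K → ℂ)

theorem theta_apply (μ : IrrCharacter K) (x : K) : theta K μ x = 1 - (μ : K → ℂ) x := rfl

/-- the generalized character of `G` induced from `1 - μ` -/
noncomputable def Phi (K : Subgroup G) (μ : IrrCharacter K) : G → ℂ :=
  Cfsg.indFun K (theta K μ)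

theorem Phi_isGen (μ : IrrCharacter K) : IsGeneralizedCharacter G (Phi K μ) := by
  apply IsGeneralizedCharacter.indFun
  exact ⟨_, _, IsIrrCharacter.isCharacter (oneI K).2, IsIrrCharacter.isCharacter μ.2, rfl⟩

theorem Phi_isClassFunction (μ : IrrCharacter K) : IsClassFunction G (Phi K μ) :=
  indFun_isClassFunction _ _

theorem Phi_of_not_conj (μ : IrrCharacter K) (g : G) (hg : ∀ x : G, x⁻¹ * g * x ∉ K) :
    Phi K μ g = 0 :=
  indFun_eq_zero_of_not_conj K _ g hg

theorem Phi_oneI : Phi K (oneI K) = 0 := by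
  unfold Phi
  have : theta K (oneI K) = 0 := by
    funext x; simp [theta_apply, oneI_apply]
  rw [this]
  funext g
  unfold Cfsg.indFun
  have h1 : ∀ x : G, Cfsg.extendByZero K (0 : K → ℂ) (x⁻¹ * g * x) = 0 := by
    intro x
    by_cases hm : x⁻¹ * g * x ∈ K
    · rw [extendByZero_of_mem _ _ hm]; rfl
    · exact extendByZero_of_not_mem _ _ hm
  rw [Finset.sum_congr rfl (fun x _ => h1 x)]
  simp

/-- Frobenius reciprocity for `Phi` -/
theorem classInner_Phi (μ : IrrCharacter K) (χ : G → ℂ) (hχ : IsClassFunction G χ) :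
    classInner (Phi K μ) χ = classInner (theta K μ) (fun x : K => χ x) :=
  Cfsg.Agent.S0146.result K (theta K μ) χ hχ

theorem isMulComm (h : Hy t s K) : IsMulCommutative K :=
  ⟨⟨fun a b => Subtype.ext (h.hKab a a.2 b b.2)⟩⟩

variable (h : Hy t s K)
include h

theorem Phi_one (μ : IrrCharacter K) : Phi K μ 1 = 0 := by
  unfold Phi
  rw [indFun_one, theta_apply, irr_one (isMulComm h), sub_self, mul_zero]

/-- values of `Phi` on `K#` -/
theorem Phi_of_mem (μ : IrrCharacter K) (x0 : K) (hx0 : x0 ≠ 1) :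
    Phi K μ x0 = 2 - (μ : K → ℂ) x0 - conj ((μ : K → ℂ) x0) := by
  classical
  have hx0' : (x0 : G) ≠ 1 := fun h1 => hx0 (Subtype.ext h1)
  have hK0 : (Nat.card K : ℂ) ≠ 0 := card_ne_zero_complex K
  have hpt : ∀ x : G, Cfsg.extendByZero K (theta K μ) (x⁻¹ * (x0 : G) * x)
      = Cfsg.extendByZero K (fun _ => theta K μ x0) x
        + Cfsg.extendByZero K (fun _ => theta K μ x0⁻¹) (x * s) := by
    intro x
    by_cases hx : x ∈ K
    · have hxs : x * s ∉ K := h.mul_s_not_mem hx
      rw [extendByZero_of_mem _ _ hx, extendByZero_of_not_mem _ _ hxs, add_zero]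
      have : x⁻¹ * (x0 : G) * x = (x0 : G) := by
        rw [mul_assoc, h.hKab _ x0.2 _ hx, ← mul_assoc, inv_mul_cancel, one_mul]
      rw [this, extendByZero_coe]
    · by_cases hxs : x * s ∈ K
      · rw [extendByZero_of_not_mem _ _ hx, extendByZero_of_mem _ _ hxs, zero_add]
        have : x⁻¹ * (x0 : G) * x = ((x0⁻¹ : K) : G) := by
          have e1 : x = (x * s) * s := by
            calc x = x * (s * s) := by rw [h.s_mul_s, mul_one]
              _ = _ := by group
          have e2 : (x * s)⁻¹ * (x0 : G) * (x * s) = (x0 : G) := by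
            rw [mul_assoc, h.hKab _ x0.2 _ hxs, ← mul_assoc, inv_mul_cancel, one_mul]
          have e3 : x⁻¹ * (x0 : G) * x = s * ((x * s)⁻¹ * (x0 : G) * (x * s)) * s := by
            conv_lhs => rw [e1]
            rw [mul_inv_rev, h.s_inv]
            group
          rw [e3, e2, h.inv' x0.2]
          rfl
        rw [this, extendByZero_coe]
      · rw [extendByZero_of_not_mem _ _ hx, extendByZero_of_not_mem _ _ hxs, add_zero]
        apply extendByZero_of_not_mem
        intro hm
        have hxH := h.ti' x0.2 hx0' hm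
        rcases h.mem_H_iff.1 hxH with h1 | h1
        · exact hx h1
        · exact hxs h1
  unfold Phi Cfsg.indFun
  rw [Finset.sum_congr rfl (fun x _ => hpt x), Finset.sum_add_distrib]
  have h3 : ∑ x : G, Cfsg.extendByZero K (fun _ => theta K μ x0⁻¹) (x * s) =
      ∑ x : G, Cfsg.extendByZero K (fun _ => theta K μ x0⁻¹) x :=
    Fintype.sum_equiv (Equiv.mulRight s) _ _ (fun x => rfl)
  rw [h3, sum_extendByZero_const, sum_extendByZero_const, theta_apply, theta_apply, irr_inv]
  field_simp
  ring

/-- values of `Phi` on all of `K` -/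
theorem Phi_of_mem' (μ : IrrCharacter K) (x0 : K) :
    Phi K μ x0 = 2 - (μ : K → ℂ) x0 - conj ((μ : K → ℂ) x0) := by
  by_cases hx0 : x0 = 1
  · rw [hx0]
    have : ((1 : K) : G) = 1 := rfl
    rw [this, Phi_one h, irr_one (isMulComm h)]
    simp
    norm_num
  · exact Phi_of_mem h μ x0 hx0

theorem Phi_barI (μ : IrrCharacter K) : Phi K (barI μ) = Phi K μ := by
  funext g
  by_cases hg : ∀ x : G, x⁻¹ * g * x ∉ K
  · rw [Phi_of_not_conj _ g hg, Phi_of_not_conj _ g hg]
  · push Not at hg
    obtain ⟨x, hx⟩ := hg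
    have e1 : ∀ ν : IrrCharacter K, Phi K ν g = Phi K ν (x⁻¹ * g * x) := by
      intro ν
      have := Phi_isClassFunction ν g x⁻¹
      rw [inv_inv] at this
      exact this.symm
    rw [e1, e1]
    have e2 := Phi_of_mem' h μ ⟨_, hx⟩
    have e3 := Phi_of_mem' h (barI μ) ⟨_, hx⟩
    simp only at e2 e3
    rw [e2, e3, barI_apply, Complex.conj_conj]
    ring

end phi

end Cfsg.Agent.Lib.Helper9.Bsw
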