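import Mathlib
import Cfsg.Agent.Lib.Helper9.BswD
import Cfsg.Agent.Lib.Helper6.ClassFun
import Cfsg.Agent.Lib.Helper6.IrrBasis

set_option autoImplicit false
set_option linter.unusedSectionVars false
set_option linter.unusedVariables false
set_option linter.style.longLine false
set_option linter.unusedSimpArgs false

set_option maxHeartbeats 1600000
namespace Cfsg.Agent.Lib.Helper9.Bsw

open Cfsg Cfsg.Agent.Lib.Helper6 Cfsg.Agent.Lib.Helper6.IndFunMore
open scoped ComplexConjugate
open scoped Classical

section inner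

variable {G : Type*} [Group G] [Fintype G] {t s : G} {K : Subgroup G} [Fintype K]

theorem barI_eq_oneI_iff {A : Type*} [Group A] [Fintype A] (μ : IrrCharacter A) :
    barI μ = oneI A ↔ μ = oneI A := by
  constructor
  · intro h1
    have := congrArg barI h1
    rwa [barI_barI, barI_oneI] at this
  · intro h1
    rw [h1, barI_oneI]

variable (h : Hy t s K)
include h

theorem restrict_Phi (μ : IrrCharacter K) :
    (fun x : K => Phi K μ x) = (2 : ℂ) • (oneI K : K → ℂ) - (μ : K → ℂ) - (barI μ : K → ℂ) := by
  funext x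
  rw [Phi_of_mem' h μ x]
  simp [oneI_apply, barI_apply]

theorem classInner_Phi_Phi (lam μ : IrrCharacter K) (hl : lam ≠ oneI K) (hμ : μ ≠ oneI K) :
    classInner (Phi K lam) (Phi K μ)
      = 2 + (if lam = μ then 1 else 0) + (if lam = barI μ then 1 else 0) := by
  rw [classInner_Phi lam _ (Phi_isClassFunction μ), restrict_Phi h μ]
  unfold theta
  have hμ' : oneI K ≠ μ := fun h1 => hμ h1.symm
  have hμb : oneI K ≠ barI μ := fun h1 => hμ ((barI_eq_oneI_iff μ).1 h1.symm)
  rw [classInner_sub_left, classInner_sub_right, classInner_sub_right, classInner_sub_right,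
    classInner_sub_right, classInner_smul_right, classInner_smul_right,
    classInner_irrCharacter, classInner_irrCharacter, classInner_irrCharacter,
    classInner_irrCharacter, classInner_irrCharacter, classInner_irrCharacter,
    if_pos rfl, if_neg hμ', if_neg hμb, if_neg hl]
  have h2 : (starRingEnd ℂ) 2 = 2 := map_ofNat _ 2
  rw [h2]
  ring

theorem classInner_Phi_self_nonreal (μ : IrrCharacter K) (hμ : μ ≠ oneI K) (hb : barI μ ≠ μ) :
    classInner (Phi K μ) (Phi K μ) = 3 := by
  rw [classInner_Phi_Phi h μ μ hμ hμ, if_pos rfl, if_neg (fun h1 => hb h1.symm)]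
  norm_num

theorem classInner_Phi_self_real (μ : IrrCharacter K) (hμ : μ ≠ oneI K) (hb : barI μ = μ) :
    classInner (Phi K μ) (Phi K μ) = 4 := by
  rw [classInner_Phi_Phi h μ μ hμ hμ, if_pos rfl, if_pos hb.symm]
  norm_num

theorem classInner_Phi_Phi_ne (lam μ : IrrCharacter K) (hl : lam ≠ oneI K) (hμ : μ ≠ oneI K)
    (h1 : lam ≠ μ) (h2 : lam ≠ barI μ) : classInner (Phi K lam) (Phi K μ) = 2 := by
  rw [classInner_Phi_Phi h lam μ hl hμ, if_neg h1, if_neg h2]
  norm_num

omit h in
theorem classInner_Phi_oneG (μ : IrrCharacter K) (hμ : μ ≠ oneI K) :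
    classInner (Phi K μ) (oneI G : G → ℂ) = 1 := by
  rw [classInner_Phi μ _ (IsIrrCharacter.isClassFunction (oneI G).2)]
  have : (fun x : K => (oneI G : G → ℂ) x) = (oneI K : K → ℂ) := rfl
  rw [this]
  unfold theta
  rw [classInner_sub_left, classInner_irrCharacter, classInner_irrCharacter, if_pos rfl,
    if_neg hμ, sub_zero]

omit h in
theorem classInner_oneG_Phi (μ : IrrCharacter K) (hμ : μ ≠ oneI K) :
    classInner (oneI G : G → ℂ) (Phi K μ) = 1 := by
  rw [← classInner_conj_symm, classInner_Phi_oneG μ hμ, map_one]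

omit h in
/-- the inner product of `Phi ν` with a character, via restriction to `K` -/
theorem classInner_Phi_char (ν : IrrCharacter K) {χ : G → ℂ} (hχ : IsCharacter G χ) :
    classInner (Phi K ν) χ = classInner (fun x : K => χ x) (oneI K : K → ℂ)
      - classInner (fun x : K => χ x) (ν : K → ℂ) := by
  rw [classInner_Phi ν _ (IsCharacter.isClassFunction hχ)]
  unfold theta
  rw [classInner_sub_left]
  have hr := IsCharacter.restrict K hχ
  obtain ⟨n1, hn1⟩ := IsCharacter.classInner_irr_nat hr (oneI K).2
  obtain ⟨n2, hn2⟩ := IsCharacter.classInner_irr_nat hr ν.2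
  rw [← classInner_conj_symm (fun x : K => χ x) (oneI K : K → ℂ),
    ← classInner_conj_symm (fun x : K => χ x) (ν : K → ℂ), hn1, hn2]
  simp

/-- values of a character of `G` on `K#` in terms of the inner products with the `Phi ν` -/
theorem restrict_apply [Fintype (IrrCharacter K)] {χ : G → ℂ} (hχ : IsCharacter G χ) (x : K)
    (hx : x ≠ 1) :
    χ x = - ∑ ν : IrrCharacter K, classInner (Phi K ν) χ * (ν : K → ℂ) x := by
  have hr := IsCharacter.restrict K hχ
  have h1 := congrFun (classFunction_eq_sum (fun x : K => χ x) (IsCharacter.isClassFunction hr)) x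
  simp only [Finset.sum_apply, Pi.smul_apply, smul_eq_mul] at h1
  have h2 : ∀ ν : IrrCharacter K, classInner (Phi K ν) χ * (ν : K → ℂ) x
      = classInner (fun x : K => χ x) (oneI K : K → ℂ) * (ν : K → ℂ) x
        - classInner (fun x : K => χ x) (ν : K → ℂ) * (ν : K → ℂ) x := by
    intro ν
    rw [classInner_Phi_char ν hχ, sub_mul]
  rw [Finset.sum_congr rfl (fun ν _ => h2 ν), Finset.sum_sub_distrib, ← Finset.mul_sum,
    sum_irr_apply (isMulComm h) x, if_neg hx, mul_zero, zero_sub, neg_neg]
  exact h1

/-- the degree of a character of `G` in terms of the inner products with the `Phi ν` -/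
theorem restrict_degree [Fintype (IrrCharacter K)] {χ : G → ℂ} (hχ : IsCharacter G χ) :
    χ 1 = (Nat.card K : ℂ) * classInner (fun x : K => χ x) (oneI K : K → ℂ)
      - ∑ ν : IrrCharacter K, classInner (Phi K ν) χ := by
  have hr := IsCharacter.restrict K hχ
  have h1 := congrFun (classFunction_eq_sum (fun x : K => χ x) (IsCharacter.isClassFunction hr)) 1
  simp only [Finset.sum_apply, Pi.smul_apply, smul_eq_mul] at h1
  have h2 : ∀ ν : IrrCharacter K, classInner (Phi K ν) χ
      = classInner (fun x : K => χ x) (oneI K : K → ℂ)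
        - classInner (fun x : K => χ x) (ν : K → ℂ) * (ν : K → ℂ) 1 := by
    intro ν
    rw [classInner_Phi_char ν hχ, irr_one (isMulComm h), mul_one]
  rw [Finset.sum_congr rfl (fun ν _ => h2 ν), Finset.sum_sub_distrib, Finset.sum_const,
    Finset.card_univ, card_irr (isMulComm h), nsmul_eq_mul]
  have : ((1 : K) : G) = 1 := rfl
  rw [this] at h1
  rw [← h1]
  ring

end inner

end Cfsg.Agent.Lib.Helper9.Bsw
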