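import Mathlib
import Cfsg.Agent.Lib.Helper9.BswE
import Cfsg.Agent.Lib.Helper6.GenChar
import Cfsg.Agent.Lib.Helper3.TIFN9

set_option autoImplicit false
set_option linter.unusedSectionVars false
set_option linter.unusedVariables false
set_option linter.style.longLine false
set_option linter.unusedSimpArgs false

set_option maxHeartbeats 1600000
namespace Cfsg.Agent.Lib.Helper9.Bsw

open Cfsg Cfsg.Agent.Lib.Helper6
open scoped ComplexConjugate
open scoped Classical

section gen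

variable {G : Type*} [Group G] [Fintype G]

/-- a generalized character of norm two is `γ₁ Z₁ + γ₂ Z₂` with signs `γᵢ` and `Z₁ ≠ Z₂` -/
theorem exists_pair_of_norm_two {θ : G → ℂ}
    (hθ : IsGeneralizedCharacter G θ) (hnorm : classInner θ θ = 2) :
    ∃ (Z1 Z2 : IrrCharacter G) (γ1 γ2 : ℂ), Z1 ≠ Z2 ∧ (γ1 = 1 ∨ γ1 = -1) ∧ (γ2 = 1 ∨ γ2 = -1) ∧
      θ = γ1 • (Z1 : G → ℂ) + γ2 • (Z2 : G → ℂ) := by
  have : Fintype (IrrCharacter G) := Fintype.ofFinite _
  obtain ⟨c, hc, _⟩ := IsGeneralizedCharacter.exists_int_coeff hθ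
  have hsq : ∑ β, c β * c β = 2 := by
    have h2 := hnorm
    rw [hc, classInner_sum_int] at h2
    exact_mod_cast h2
  obtain ⟨i, j, hij, hci, hcj, hrest⟩ := exists_pair_of_sum_sq_eq_two c hsq
  have hθ2 : θ = (c i : ℂ) • (i : G → ℂ) + (c j : ℂ) • (j : G → ℂ) := by
    rw [hc, ← Finset.add_sum_erase Finset.univ _ (Finset.mem_univ i),
      ← Finset.add_sum_erase (Finset.univ.erase i) _
        (Finset.mem_erase.mpr ⟨hij.symm, Finset.mem_univ j⟩)]
    rw [Finset.sum_eq_zero, add_zero]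
    intro k hk
    have hkj := Finset.ne_of_mem_erase hk
    have hki := Finset.ne_of_mem_erase (Finset.mem_of_mem_erase hk)
    rw [hrest k hki hkj, Int.cast_zero, zero_smul]
  refine ⟨i, j, (c i : ℂ), (c j : ℂ), hij, ?_, ?_, hθ2⟩
  · rcases hci with h1 | h1 <;> rw [h1] <;> simp
  · rcases hcj with h1 | h1 <;> rw [h1] <;> simp

theorem irr_degree_pos (β : IrrCharacter G) : ∃ d : ℕ, 0 < d ∧ (β : G → ℂ) 1 = d := by
  obtain ⟨d, hd⟩ := IsCharacter.apply_one_eq_natCast (IsIrrCharacter.isCharacter β.2)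
  refine ⟨d, ?_, hd⟩
  rcases Nat.eq_zero_or_pos d with h0 | h0
  · exfalso
    apply IsIrrCharacter.apply_one_ne_zero β.2
    rw [hd, h0, Nat.cast_zero]
  · exact h0

/-- a generalized character of norm two whose value at the identity is `0`, `1` or `-1` is a
difference of two distinct irreducible characters -/
theorem eq_sub_of_norm_two' {θ : G → ℂ}
    (hθ : IsGeneralizedCharacter G θ) (hnorm : classInner θ θ = 2)
    (h1 : θ 1 = 0 ∨ θ 1 = 1 ∨ θ 1 = -1) :
    ∃ x y : IrrCharacter G, x ≠ y ∧ θ = (x : G → ℂ) - (y : G → ℂ) := by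
  obtain ⟨Z1, Z2, γ1, γ2, hZ, hγ1, hγ2, hθ2⟩ := exists_pair_of_norm_two hθ hnorm
  obtain ⟨d1, hd1, hd1'⟩ := irr_degree_pos Z1
  obtain ⟨d2, hd2, hd2'⟩ := irr_degree_pos Z2
  have hval : θ 1 = γ1 * d1 + γ2 * d2 := by
    rw [hθ2]
    simp only [Pi.add_apply, Pi.smul_apply, smul_eq_mul, hd1', hd2']
  rcases hγ1 with rfl | rfl <;> rcases hγ2 with rfl | rfl
  · exfalso
    have h3 : ((d1 + d2 : ℕ) : ℂ) = θ 1 := by rw [hval]; push_cast; ring
    rcases h1 with h1 | h1 | h1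
    · rw [h1] at h3
      have : d1 + d2 = 0 := by exact_mod_cast h3
      omega
    · rw [h1] at h3
      have : d1 + d2 = 1 := by exact_mod_cast h3
      omega
    · rw [h1] at h3
      have : ((d1 + d2 : ℕ) : ℤ) = -1 := by exact_mod_cast h3
      omega
  · refine ⟨Z1, Z2, hZ, ?_⟩
    rw [hθ2, one_smul, neg_one_smul, sub_eq_add_neg]
  · refine ⟨Z2, Z1, hZ.symm, ?_⟩
    rw [hθ2, one_smul, neg_one_smul]
    ring
  · exfalso
    have h3 : -((d1 + d2 : ℕ) : ℂ) = θ 1 := by rw [hval]; push_cast; ring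
    rcases h1 with h1 | h1 | h1
    · rw [h1] at h3
      have : -((d1 + d2 : ℕ) : ℤ) = 0 := by exact_mod_cast h3
      omega
    · rw [h1] at h3
      have : -((d1 + d2 : ℕ) : ℤ) = 1 := by exact_mod_cast h3
      omega
    · rw [h1] at h3
      have : -((d1 + d2 : ℕ) : ℤ) = -1 := by exact_mod_cast h3
      omega

end gen

end Cfsg.Agent.Lib.Helper9.Bsw
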