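import Mathlib
import Cfsg.Agent.Lib.Helper9.BswF

set_option autoImplicit false
set_option linter.unusedSectionVars false
set_option linter.unusedVariables false
set_option linter.style.longLine false
set_option linter.unusedSimpArgs false

set_option maxHeartbeats 1600000
namespace Cfsg.Agent.Lib.Helper9.Bsw

open Cfsg Cfsg.Agent.Lib.Helper6 Cfsg.Agent.Lib.Helper3.TIFN
open scoped ComplexConjugate
open scoped Classical

section coh

variable {G : Type*} [Group G] [Fintype G] {t s : G} {K : Subgroup G} [Fintype K]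

/-- the family consisting of the principal character and the `Phi μ` for nonreal `μ` -/
abbrev Fam (K : Subgroup G) [Fintype K] : Type _ :=
  {Ψ : G → ℂ // Ψ = (oneI G : G → ℂ) ∨ ∃ μ : IrrCharacter K, barI μ ≠ μ ∧ Ψ = Phi K μ}

theorem ne_oneI_of_nonreal {μ : IrrCharacter K} (hb : barI μ ≠ μ) : μ ≠ oneI K := by
  intro h1
  apply hb
  rw [h1, barI_oneI]

variable (h : Hy t s K)
include h

theorem fam_apply_one (i : Fam K) : i.1 1 = 0 ∨ i.1 1 = 1 := by
  rcases i.2 with h1 | ⟨μ, hb, h1⟩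
  · right; rw [h1]; rfl
  · left; rw [h1]; exact Phi_one h μ

theorem fam_isGen (i : Fam K) : IsGeneralizedCharacter G i.1 := by
  rcases i.2 with h1 | ⟨μ, hb, h1⟩
  · rw [h1]
    exact IsCharacter.isGeneralizedCharacter (IsIrrCharacter.isCharacter (oneI G).2)
  · rw [h1]; exact Phi_isGen μ

theorem fam_gram (i j : Fam K) :
    classInner i.1 j.1 = 2 - i.1 1 - j.1 1 + (if i = j then 1 else 0) := by
  rcases i with ⟨Ψ, hΨ⟩
  rcases j with ⟨Ψ', hΨ'⟩
  rcases hΨ with rfl | ⟨μ, hb, rfl⟩ <;> rcases hΨ' with rfl | ⟨ν, hb', rfl⟩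
  · simp only [if_pos]
    rw [classInner_irrCharacter, if_pos rfl, oneI_apply]
    norm_num
  · have hne : (⟨(oneI G : G → ℂ), Or.inl rfl⟩ : Fam K) ≠ ⟨Phi K ν, Or.inr ⟨ν, hb', rfl⟩⟩ := by
      intro h1
      have h2 := congrArg (fun i : Fam K => i.1 1) h1
      simp only [oneI_apply, Phi_one h ν] at h2
      exact one_ne_zero h2
    rw [if_neg hne]
    simp only
    rw [classInner_oneG_Phi ν (ne_oneI_of_nonreal hb'), oneI_apply, Phi_one h]
    norm_num
  · have hne : (⟨Phi K μ, Or.inr ⟨μ, hb, rfl⟩⟩ : Fam K) ≠ ⟨(oneI G : G → ℂ), Or.inl rfl⟩ := by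
      intro h1
      have h2 := congrArg (fun i : Fam K => i.1 1) h1
      simp only [oneI_apply, Phi_one h μ] at h2
      exact zero_ne_one h2
    rw [if_neg hne]
    simp only
    rw [classInner_Phi_oneG μ (ne_oneI_of_nonreal hb), oneI_apply, Phi_one h]
    norm_num
  · simp only
    rw [Phi_one h, Phi_one h, classInner_Phi_Phi h μ ν (ne_oneI_of_nonreal hb)
      (ne_oneI_of_nonreal hb')]
    by_cases h1 : μ = ν
    · subst h1
      rw [if_pos rfl, if_neg (fun h2 => hb h2.symm), if_pos rfl]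
      norm_num
    · by_cases h2 : μ = barI ν
      · have h3 : Phi K μ = Phi K ν := by rw [h2, Phi_barI h]
        have h4 : (⟨Phi K μ, Or.inr ⟨μ, hb, rfl⟩⟩ : Fam K) = ⟨Phi K ν, Or.inr ⟨ν, hb', rfl⟩⟩ :=
          Subtype.ext h3
        rw [if_neg h1, if_pos h2, if_pos h4]
        norm_num
      · have h4 : (⟨Phi K μ, Or.inr ⟨μ, hb, rfl⟩⟩ : Fam K) ≠ ⟨Phi K ν, Or.inr ⟨ν, hb', rfl⟩⟩ := by
          intro h5
          have h6 : Phi K μ = Phi K ν := congrArg Subtype.val h5
          have h7 := classInner_Phi_self_nonreal h μ (ne_oneI_of_nonreal hb) hb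
          have h8 := classInner_Phi_Phi_ne h μ ν (ne_oneI_of_nonreal hb)
            (ne_oneI_of_nonreal hb') h1 h2
          rw [← h6, h7] at h8
          norm_num at h8
        rw [if_neg h1, if_neg h2, if_neg h4]
        norm_num

/-- coherence: the star decomposition of the `Phi μ`, `μ` nonreal -/
theorem exists_star : ∃ (ε : ℂ) (Y : IrrCharacter G) (X : IrrCharacter K → IrrCharacter G),
    (ε = 1 ∨ ε = -1) ∧ ∀ μ : IrrCharacter K, barI μ ≠ μ →
      Phi K μ = (oneI G : G → ℂ) + ε • (Y : G → ℂ) - ε • (X μ : G → ℂ) := by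
  have hcoh := exists_coherent (H := G) (ι := Fam K) (fun i j => j.1 - i.1)
    (by intro i j k; abel)
    (by
      intro i j hij
      apply eq_sub_of_norm_two' (IsGeneralizedCharacter.sub (fam_isGen h j) (fam_isGen h i))
      · rw [classInner_sub_left, classInner_sub_right, classInner_sub_right,
          fam_gram h, fam_gram h, fam_gram h, fam_gram h, if_pos rfl, if_pos rfl, if_neg hij,
          if_neg (fun h1 => hij h1.symm)]
        ring
      · rw [Pi.sub_apply]
        rcases fam_apply_one h i with h1 | h1 <;> rcases fam_apply_one h j with h2 | h2 <;>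
          rw [h1, h2] <;> norm_num)
    (by
      intro i j k hij hik hjk
      rw [classInner_sub_left, classInner_sub_right, classInner_sub_right,
        fam_gram h, fam_gram h, fam_gram h, fam_gram h, if_pos rfl, if_neg hjk, if_neg hik,
        if_neg (fun h1 => hij h1.symm)]
      ring)
  obtain ⟨ε, f, hε, hf, hD⟩ := hcoh
  refine ⟨ε, f ⟨(oneI G : G → ℂ), Or.inl rfl⟩,
    fun μ => if hb : barI μ ≠ μ then f ⟨Phi K μ, Or.inr ⟨μ, hb, rfl⟩⟩ else oneI G, hε, ?_⟩
  intro μ hb
  beta_reduce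
  rw [dif_pos hb]
  have h1 := hD ⟨(oneI G : G → ℂ), Or.inl rfl⟩ ⟨Phi K μ, Or.inr ⟨μ, hb, rfl⟩⟩
  simp only at h1
  rw [smul_sub] at h1
  rw [add_sub_assoc, ← h1]
  abel

end coh

end Cfsg.Agent.Lib.Helper9.Bsw
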