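import Mathlib
import Cfsg.Agent.Lib.Helper9.BswG
import Cfsg.Agent.Lib.Helper6.ClassMult

set_option autoImplicit false
set_option linter.unusedSectionVars false
set_option linter.unusedVariables false
set_option linter.style.longLine false
set_option linter.unusedSimpArgs false

set_option maxHeartbeats 1600000
namespace Cfsg.Agent.Lib.Helper9.Bsw

open Cfsg Cfsg.Agent.Lib.Helper6
open scoped ComplexConjugate
open scoped Classical

section psi

variable {G : Type*} [Group G] [Fintype G] {t s : G} {K : Subgroup G} [Fintype K]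

/-- the number of ways of writing `c` as a product of two involutions -/
noncomputable def psi (c : G) : ℕ :=
  Nat.card {p : G × G // orderOf p.1 = 2 ∧ orderOf p.2 = 2 ∧ p.1 * p.2 = c}

theorem irr_apply_t_real {t : G} (ht : t * t = 1) (χ : IrrCharacter G) :
    conj ((χ : G → ℂ) t) = (χ : G → ℂ) t := by
  have hti : t⁻¹ = t := by rw [inv_eq_iff_mul_eq_one]; exact ht
  rw [← irr_inv, hti]

theorem irr_apply_one_real (χ : IrrCharacter G) :
    conj ((χ : G → ℂ) 1) = (χ : G → ℂ) 1 := by
  obtain ⟨d, -, hd⟩ := irr_degree_pos χ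
  rw [hd, Complex.conj_natCast]

variable (h : Hy t s K)
include h

theorem isConj_t_iff (u : G) : IsConj t u ↔ orderOf u = 2 := by
  constructor
  · intro hu
    obtain ⟨g, rfl⟩ := isConj_iff.1 hu
    rw [Hy.orderOf_two_iff]
    refine ⟨?_, ?_⟩
    · calc g * t * g⁻¹ * (g * t * g⁻¹) = g * (t * t) * g⁻¹ := by group
        _ = 1 := by rw [h.t_mul_t]; group
    · intro h1
      apply h.t_ne_one
      have : t = g⁻¹ * (g * t * g⁻¹) * g := by group
      rw [this, h1]; group
  · intro hu
    exact h.hconj t u h.ht hu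

theorem psi_eq_card_conj (c : G) :
    psi c = Nat.card {p : G × G // IsConj t p.1 ∧ IsConj t p.2 ∧ p.1 * p.2 = c} := by
  unfold psi
  apply Nat.card_congr
  apply Equiv.subtypeEquivRight
  intro p
  rw [isConj_t_iff h, isConj_t_iff h]

/-- the class multiplication formula for involutions -/
theorem psi_formula [Fintype (IrrCharacter G)] (c : G) :
    ((2 * Nat.card K : ℕ) : ℂ) ^ 2 * (psi c : ℂ)
      = (Nat.card G : ℂ) * ∑ χ : IrrCharacter G,
          (χ : G → ℂ) t * (χ : G → ℂ) t * conj ((χ : G → ℂ) c) / (χ : G → ℂ) 1 := by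
  rw [← card_conj_mul_conj_eq t t c, card_conj_pairs t t c, h.card_H, ← psi_eq_card_conj h c]
  push_cast
  ring

theorem psi_of_mem (x : K) (hx : x ≠ 1) : psi (x : G) = Nat.card K := by
  unfold psi
  exact h.psi_of_mem_K x.2 (fun h1 => hx (Subtype.ext h1))

/-- `psi` as a complex class function, expanded in irreducible characters -/
theorem psi_expansion [Fintype (IrrCharacter G)] :
    (fun c : G => (psi c : ℂ)) = ((Nat.card G : ℂ) / ((2 * Nat.card K : ℕ) : ℂ) ^ 2) •
      ∑ χ : IrrCharacter G,
        ((χ : G → ℂ) t * (χ : G → ℂ) t / (χ : G → ℂ) 1) • (χ : G → ℂ) := by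
  funext c
  have hk0 : ((2 * Nat.card K : ℕ) : ℂ) ≠ 0 := by
    have : 0 < Nat.card K := Nat.card_pos
    exact_mod_cast (by omega : 2 * Nat.card K ≠ 0)
  have h1 := psi_formula h c
  have h2 : (psi c : ℂ) = conj (psi c : ℂ) := by rw [Complex.conj_natCast]
  have h3 : (psi c : ℂ) = (Nat.card G : ℂ) / ((2 * Nat.card K : ℕ) : ℂ) ^ 2 *
      ∑ χ : IrrCharacter G,
          (χ : G → ℂ) t * (χ : G → ℂ) t * conj ((χ : G → ℂ) c) / (χ : G → ℂ) 1 := by
    rw [div_mul_eq_mul_div, ← h1]
    field_simp
  rw [h2, h3]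
  simp only [Pi.smul_apply, Finset.sum_apply, smul_eq_mul, map_mul, map_div₀, map_sum, map_pow,
    Complex.conj_natCast, Complex.conj_conj]
  congr 1
  apply Finset.sum_congr rfl
  intro χ _
  rw [irr_apply_t_real h.t_mul_t, irr_apply_one_real]
  ring

/-- the `E`-equations: pairing `psi` with `Phi ν` -/
theorem E_eq [Fintype (IrrCharacter G)] (ν : IrrCharacter K) (hν : ν ≠ oneI K) :
    ∑ χ : IrrCharacter G, ((χ : G → ℂ) t * (χ : G → ℂ) t / (χ : G → ℂ) 1) *
        classInner (Phi K ν) (χ : G → ℂ)
      = 4 * (Nat.card K : ℂ) ^ 3 / (Nat.card G : ℂ) := by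
  have hk0 : (Nat.card K : ℂ) ≠ 0 := card_ne_zero_complex K
  have hG0 : (Nat.card G : ℂ) ≠ 0 := card_ne_zero_complex G
  set F : G → ℂ := fun c : G => (psi c : ℂ) with hF
  have hFcf : IsClassFunction G F := by
    rw [hF, psi_expansion h]
    apply isClassFunction_smul
    apply isClassFunction_sum
    intro χ _
    exact isClassFunction_smul _ (IsIrrCharacter.isClassFunction χ.2)
  -- first computation
  have h1 : classInner (Phi K ν) F = (Nat.card K : ℂ) := by
    rw [classInner_Phi ν F hFcf]
    unfold classInner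
    have hterm : ∀ x : K, theta K ν x * conj (F (x : G))
        = (Nat.card K : ℂ) * (1 - (ν : K → ℂ) x) := by
      intro x
      by_cases hx : x = 1
      · rw [hx, theta_apply, irr_one (isMulComm h)]
        simp
      · rw [theta_apply, hF]
        simp only
        rw [psi_of_mem h x hx, Complex.conj_natCast]
        ring
    rw [Finset.sum_congr rfl (fun x _ => hterm x), ← Finset.mul_sum, Finset.sum_sub_distrib]
    have hsum : ∑ x : K, (ν : K → ℂ) x = 0 := by
      have h2 := classInner_irrCharacter ν (oneI K)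
      rw [if_neg hν] at h2
      unfold classInner at h2
      have h3 : ∑ x : K, (ν : K → ℂ) x * conj ((oneI K : K → ℂ) x) = ∑ x : K, (ν : K → ℂ) x := by
        apply Finset.sum_congr rfl
        intro x _
        rw [oneI_apply, map_one, mul_one]
      rw [h3] at h2
      rcases mul_eq_zero.1 h2 with h4 | h4
      · exact absurd (inv_eq_zero.1 h4) hk0
      · exact h4
    rw [hsum, sub_zero, Finset.sum_const, Finset.card_univ, nsmul_eq_mul, mul_one,
      ← Nat.card_eq_fintype_card]
    field_simp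
  -- second computation
  have h2 : classInner (Phi K ν) F = ((Nat.card G : ℂ) / ((2 * Nat.card K : ℕ) : ℂ) ^ 2) *
      ∑ χ : IrrCharacter G, ((χ : G → ℂ) t * (χ : G → ℂ) t / (χ : G → ℂ) 1) *
        classInner (Phi K ν) (χ : G → ℂ) := by
    rw [hF, psi_expansion h, classInner_smul_right, classInner_sum_right]
    have hc : conj ((Nat.card G : ℂ) / ((2 * Nat.card K : ℕ) : ℂ) ^ 2)
        = (Nat.card G : ℂ) / ((2 * Nat.card K : ℕ) : ℂ) ^ 2 := by
      rw [map_div₀, map_pow, Complex.conj_natCast, Complex.conj_natCast]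
    rw [hc]
    congr 1
    apply Finset.sum_congr rfl
    intro χ _
    rw [classInner_smul_right, map_div₀, map_mul, irr_apply_t_real h.t_mul_t, irr_apply_one_real]
  rw [h1] at h2
  have hk2 : ((2 * Nat.card K : ℕ) : ℂ) = 2 * (Nat.card K : ℂ) := by push_cast; ring
  rw [hk2] at h2
  field_simp at h2 ⊢
  rw [← h2]; ring

end psi

end Cfsg.Agent.Lib.Helper9.Bsw
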