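import Mathlib
import Cfsg.Agent.Lib.Helper9.BswH

set_option autoImplicit false
set_option linter.unusedSectionVars false
set_option linter.unusedVariables false
set_option linter.style.longLine false
set_option linter.unusedSimpArgs false

set_option maxHeartbeats 1600000
namespace Cfsg.Agent.Lib.Helper9.Bsw

open Cfsg Cfsg.Agent.Lib.Helper6
open scoped ComplexConjugate
open scoped Classical

section real

variable {G : Type*} [Group G] [Fintype G] {t s : G} {K : Subgroup G} [Fintype K]
variable (h : Hy t s K)
include h

theorem card_sq_eq_one : (Finset.univ.filter (fun a : K => a * a = 1)).card = 2 := by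
  have h1 : Finset.univ.filter (fun a : K => a * a = 1) = {1, ⟨t, h.htK⟩} := by
    ext a
    simp only [Finset.mem_filter, Finset.mem_univ, true_and, Finset.mem_insert,
      Finset.mem_singleton]
    constructor
    · intro ha
      have ha' : (a : G) * (a : G) = 1 := by
        have := congrArg Subtype.val ha
        simpa using this
      rcases h.eq_one_or_eq_t a.2 ha' with h2 | h2
      · left; exact Subtype.ext h2
      · right; exact Subtype.ext h2
    · rintro (rfl | rfl)
      · simp
      · apply Subtype.ext
        simp only [Subgroup.coe_mul, Subgroup.coe_one]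
        exact h.t_mul_t
  rw [h1, Finset.card_pair]
  intro h2
  have := congrArg Subtype.val h2
  simp only [Subgroup.coe_one] at this
  exact h.t_ne_one this.symm

/-- there is a unique nontrivial real irreducible character of `K` -/
theorem exists_real [Fintype (IrrCharacter K)] : ∃ lam0 : IrrCharacter K, lam0 ≠ oneI K ∧ barI lam0 = lam0 ∧
    ∀ μ : IrrCharacter K, barI μ = μ → μ = oneI K ∨ μ = lam0 := by
  have h1 : (Finset.univ.filter (fun μ : IrrCharacter K => barI μ = μ)).card = 2 := by
    have := card_real (isMulComm h) (A := K)
    rw [card_sq_eq_one h] at this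
    convert this
  rw [Finset.card_eq_two] at h1
  obtain ⟨a, b, hab, hset⟩ := h1
  have hone : oneI K ∈ Finset.univ.filter (fun μ : IrrCharacter K => barI μ = μ) := by
    simp [barI_oneI]
  have hmem : ∀ μ : IrrCharacter K, barI μ = μ ↔ μ = a ∨ μ = b := by
    intro μ
    have : μ ∈ Finset.univ.filter (fun μ : IrrCharacter K => barI μ = μ) ↔ μ ∈ ({a, b} : Finset _) := by
      rw [hset]
    simpa using this
  rcases (hmem (oneI K)).1 barI_oneI with h2 | h2
  · refine ⟨b, ?_, (hmem b).2 (Or.inr rfl), ?_⟩
    · rw [h2]; exact fun h3 => hab h3.symm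
    · intro μ hμ
      rcases (hmem μ).1 hμ with h3 | h3
      · left; rw [h3, h2]
      · right; exact h3
  · refine ⟨a, ?_, (hmem a).2 (Or.inl rfl), ?_⟩
    · rw [h2]; exact hab
    · intro μ hμ
      rcases (hmem μ).1 hμ with h3 | h3
      · right; exact h3
      · left; rw [h3, h2]

/-- the number of nonreal irreducible characters of `K` -/
theorem card_nonreal [Fintype (IrrCharacter K)] :
    (Finset.univ.filter (fun μ : IrrCharacter K => barI μ ≠ μ)).card + 2 = Nat.card K := by
  have h1 : (Finset.univ.filter (fun μ : IrrCharacter K => barI μ = μ)).card = 2 := by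
    have := card_real (isMulComm h) (A := K)
    rw [card_sq_eq_one h] at this
    convert this
  have h2 := Finset.card_filter_add_card_filter_not (s := (Finset.univ : Finset (IrrCharacter K)))
    (fun μ : IrrCharacter K => barI μ = μ)
  rw [h1, Finset.card_univ, card_irr (isMulComm h)] at h2
  have h3 : (Finset.univ.filter (fun μ : IrrCharacter K => barI μ ≠ μ)).card
      = (Finset.univ.filter (fun μ : IrrCharacter K => ¬ (barI μ = μ))).card := by
    congr 1
  rw [h3]
  omega

theorem exists_nonreal (hk : 4 ≤ Nat.card K) : ∃ μ : IrrCharacter K, barI μ ≠ μ := by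
  have : Fintype (IrrCharacter K) := Fintype.ofFinite _
  have h1 := card_nonreal h
  have h2 : 0 < (Finset.univ.filter (fun μ : IrrCharacter K => barI μ ≠ μ)).card := by omega
  obtain ⟨μ, hμ⟩ := Finset.card_pos.1 h2
  exact ⟨μ, (Finset.mem_filter.1 hμ).2⟩

end real

end Cfsg.Agent.Lib.Helper9.Bsw
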