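import Mathlib
import Cfsg.Agent.Lib.Helper9.BswI

set_option autoImplicit false
set_option linter.unusedSectionVars false
set_option linter.unusedVariables false
set_option linter.style.longLine false
set_option linter.unusedSimpArgs false

set_option maxHeartbeats 1600000
namespace Cfsg.Agent.Lib.Helper9.Bsw

open Cfsg Cfsg.Agent.Lib.Helper6
open scoped ComplexConjugate
open scoped Classical

section star

variable {G : Type*} [Group G] [Fintype G] {t s : G} {K : Subgroup G} [Fintype K]

/-- the star decomposition of the `Phi μ`, `μ` nonreal -/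
structure Star (K : Subgroup G) [Fintype K] (ε : ℂ) (Y : IrrCharacter G)
    (X : IrrCharacter K → IrrCharacter G) : Prop where
  hε : ε = 1 ∨ ε = -1
  star : ∀ μ : IrrCharacter K, barI μ ≠ μ →
    Phi K μ = (oneI G : G → ℂ) + ε • (Y : G → ℂ) - ε • (X μ : G → ℂ)

namespace Star

variable {ε : ℂ} {Y : IrrCharacter G} {X : IrrCharacter K → IrrCharacter G}

theorem conj_ε (S : Star K ε Y X) : conj ε = ε := by
  rcases S.hε with h1 | h1 <;> rw [h1] <;> simp

theorem ε_mul (S : Star K ε Y X) : ε * ε = 1 := by
  rcases S.hε with h1 | h1 <;> rw [h1] <;> norm_num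

theorem ε_ne (S : Star K ε Y X) : ε ≠ 0 := by
  rcases S.hε with h1 | h1 <;> rw [h1] <;> norm_num

/-- coefficients of `Phi μ` -/
theorem coef (S : Star K ε Y X) {μ : IrrCharacter K} (hb : barI μ ≠ μ) (β : IrrCharacter G) :
    classInner (Phi K μ) (β : G → ℂ) = (if oneI G = β then 1 else 0)
      + ε * (if Y = β then 1 else 0) - ε * (if X μ = β then 1 else 0) := by
  rw [S.star μ hb, classInner_sub_left, classInner_add_left, classInner_smul_left,
    classInner_smul_left, classInner_irrCharacter, classInner_irrCharacter,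
    classInner_irrCharacter]

/-- pairing an arbitrary function against `Phi μ` -/
theorem inner_right (S : Star K ε Y X) {μ : IrrCharacter K} (hb : barI μ ≠ μ) (θ : G → ℂ) :
    classInner θ (Phi K μ) = classInner θ (oneI G : G → ℂ)
      + ε * classInner θ (Y : G → ℂ) - ε * classInner θ (X μ : G → ℂ) := by
  rw [S.star μ hb, classInner_sub_right, classInner_add_right, classInner_smul_right,
    classInner_smul_right, S.conj_ε]

variable (h : Hy t s K)
include h

theorem Y_ne_X (S : Star K ε Y X) {μ : IrrCharacter K} (hb : barI μ ≠ μ) : Y ≠ X μ := by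
  intro hYX
  have h1 := classInner_Phi_self_nonreal h μ (ne_oneI_of_nonreal hb) hb
  have h2 : Phi K μ = (oneI G : G → ℂ) := by
    rw [S.star μ hb, hYX]; abel
  rw [h2, classInner_irrCharacter, if_pos rfl] at h1
  norm_num at h1

theorem Y_ne_one (S : Star K ε Y X) {μ : IrrCharacter K} (hb : barI μ ≠ μ) :
    Y ≠ oneI G ∧ X μ ≠ oneI G := by
  have h1 := classInner_Phi_oneG (G := G) μ (ne_oneI_of_nonreal hb)
  rw [S.coef hb, if_pos rfl] at h1
  have hYX := S.Y_ne_X h hb
  have hε := S.ε_ne
  by_cases hY : Y = oneI G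
  · have hX : X μ ≠ oneI G := fun hX => hYX (hY.trans hX.symm)
    rw [if_pos hY, if_neg hX] at h1
    exfalso
    apply hε
    linear_combination h1
  · by_cases hX : X μ = oneI G
    · rw [if_neg hY, if_pos hX] at h1
      exfalso
      apply hε
      linear_combination -h1
    · exact ⟨hY, hX⟩

theorem X_eq_iff (S : Star K ε Y X) {μ ν : IrrCharacter K} (hb : barI μ ≠ μ) (hb' : barI ν ≠ ν) :
    X μ = X ν ↔ μ = ν ∨ μ = barI ν := by
  have h1 := classInner_Phi_Phi h μ ν (ne_oneI_of_nonreal hb) (ne_oneI_of_nonreal hb')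
  rw [S.inner_right hb', S.coef hb, S.coef hb, S.coef hb] at h1
  have f1 : ¬ (Y = oneI G) := (S.Y_ne_one h hb).1
  have f2 : ¬ (X μ = oneI G) := (S.Y_ne_one h hb).2
  have f3 : ¬ (oneI G = Y) := fun h2 => f1 h2.symm
  have f4 : ¬ (X μ = Y) := fun h2 => S.Y_ne_X h hb h2.symm
  have f5 : ¬ (oneI G = X ν) := fun h2 => (S.Y_ne_one h hb').2 h2.symm
  have f6 : ¬ (Y = X ν) := S.Y_ne_X h hb'
  simp only [if_true, if_neg f1, if_neg f2, if_neg f3, if_neg f4, if_neg f5, if_neg f6] at h1
  have hεε := S.ε_mul
  constructor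
  · intro hX
    rw [if_pos hX] at h1
    by_contra hcon
    push Not at hcon
    rw [if_neg hcon.1, if_neg hcon.2] at h1
    have : (1 : ℂ) = 0 := by linear_combination h1 - 2 * hεε
    exact one_ne_zero this
  · intro hμν
    by_contra hX
    rw [if_neg hX] at h1
    have h3 : ((if μ = ν then 1 else 0) + (if μ = barI ν then 1 else 0) : ℂ) = 0 := by
      linear_combination -h1 + hεε
    rcases hμν with h4 | h4
    · have h5 : μ ≠ barI ν := by
        rw [h4]; exact fun h6 => hb' h6.symm
      rw [if_pos h4, if_neg h5] at h3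
      norm_num at h3
    · have h5 : μ ≠ ν := by
        rw [h4]; exact hb'
      rw [if_neg h5, if_pos h4] at h3
      norm_num at h3

end Star

end star

end Cfsg.Agent.Lib.Helper9.Bsw
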