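import Mathlib
import Cfsg.Agent.Lib.Helper9.BswJ

set_option autoImplicit false
set_option linter.unusedSectionVars false
set_option linter.unusedVariables false
set_option linter.style.longLine false
set_option linter.unusedSimpArgs false

set_option maxHeartbeats 1600000
namespace Cfsg.Agent.Lib.Helper9.Bsw

open Cfsg Cfsg.Agent.Lib.Helper6
open scoped ComplexConjugate
open scoped Classical

section deco

variable {G : Type*} [Group G] [Fintype G] {t s : G} {K : Subgroup G} [Fintype K]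

/-- the full decomposition: star for nonreal `μ`, and `Phi lam0 = 1 + ε Y + γ₁ Z₁ + γ₂ Z₂` -/
structure Deco (K : Subgroup G) [Fintype K] (lam0 : IrrCharacter K) (ε : ℂ) (Y : IrrCharacter G)
    (X : IrrCharacter K → IrrCharacter G) (γ1 γ2 : ℂ) (Z1 Z2 : IrrCharacter G) : Prop
    extends Star K ε Y X where
  hγ1 : γ1 = 1 ∨ γ1 = -1
  hγ2 : γ2 = 1 ∨ γ2 = -1
  phi0 : Phi K lam0 = (oneI G : G → ℂ) + ε • (Y : G → ℂ) + γ1 • (Z1 : G → ℂ) + γ2 • (Z2 : G → ℂ)
  hZ12 : Z1 ≠ Z2
  hZ1 : Z1 ≠ oneI G ∧ Z1 ≠ Y ∧ ∀ μ : IrrCharacter K, barI μ ≠ μ → Z1 ≠ X μ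
  hZ2 : Z2 ≠ oneI G ∧ Z2 ≠ Y ∧ ∀ μ : IrrCharacter K, barI μ ≠ μ → Z2 ≠ X μ

variable {ε : ℂ} {Y : IrrCharacter G} {X : IrrCharacter K → IrrCharacter G}
variable (h : Hy t s K)
include h

omit h in
theorem classInner_int_of_gen {θ : G → ℂ} (hθ : IsGeneralizedCharacter G θ) (β : IrrCharacter G) :
    ∃ z : ℤ, classInner θ (β : G → ℂ) = z := by
  have : Fintype (IrrCharacter G) := Fintype.ofFinite _
  obtain ⟨c, -, hc⟩ := IsGeneralizedCharacter.exists_int_coeff hθ
  exact ⟨c β, hc β⟩

/-- coefficients of `Phi lam0` other than at the principal character are `0, 1, -1` -/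
theorem phi0_coef_small {lam0 : IrrCharacter K} (hl1 : lam0 ≠ oneI K) (hlb : barI lam0 = lam0)
    (β : IrrCharacter G) (hβ : β ≠ oneI G) :
    classInner (Phi K lam0) (β : G → ℂ) = 0 ∨ classInner (Phi K lam0) (β : G → ℂ) = 1 ∨
      classInner (Phi K lam0) (β : G → ℂ) = -1 := by
  have : Fintype (IrrCharacter G) := Fintype.ofFinite _
  obtain ⟨c, hc, hci⟩ := IsGeneralizedCharacter.exists_int_coeff (Phi_isGen (G := G) lam0)
  have hsq : ∑ β, c β * c β = 4 := by
    have h2 := classInner_Phi_self_real h lam0 hl1 hlb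
    rw [hc, classInner_sum_int] at h2
    exact_mod_cast h2
  have hc1 : c (oneI G) = 1 := by
    have h2 := classInner_Phi_oneG (G := G) lam0 hl1
    rw [hci] at h2
    exact_mod_cast h2
  have hle : c (oneI G) * c (oneI G) + c β * c β ≤ 4 := by
    rw [← hsq]
    have h3 : ∑ b ∈ ({oneI G, β} : Finset (IrrCharacter G)), c b * c b
        ≤ ∑ b, c b * c b :=
      Finset.sum_le_univ_sum_of_nonneg (fun b => mul_self_nonneg (c b))
    rw [Finset.sum_pair (fun h4 => hβ h4.symm)] at h3
    exact h3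
  rw [hc1] at hle
  have h4 : c β * c β ≤ 3 := by linarith
  have h5 : c β = 0 ∨ c β = 1 ∨ c β = -1 := by
    have h6 : -1 ≤ c β := by nlinarith
    have h7 : c β ≤ 1 := by nlinarith
    omega
  rw [hci]
  rcases h5 with h5 | h5 | h5 <;> rw [h5] <;> simp

theorem phi0_Y_sub_X (S : Star K ε Y X) {lam0 : IrrCharacter K} (hl1 : lam0 ≠ oneI K)
    (hlb : barI lam0 = lam0) {μ : IrrCharacter K} (hb : barI μ ≠ μ) :
    classInner (Phi K lam0) (Y : G → ℂ) - classInner (Phi K lam0) (X μ : G → ℂ) = ε := by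
  have hne1 : lam0 ≠ μ := by
    intro h1; rw [← h1] at hb; exact hb hlb
  have hne2 : lam0 ≠ barI μ := by
    intro h1
    apply hb
    have h2 := congrArg barI h1
    rw [barI_barI, hlb] at h2
    rw [← h2, hlb]
  have h1 := classInner_Phi_Phi_ne h lam0 μ hl1 (ne_oneI_of_nonreal hb) hne1 hne2
  rw [S.inner_right hb, classInner_Phi_oneG lam0 hl1] at h1
  have hεε := S.ε_mul
  linear_combination ε * h1 - (classInner (Phi K lam0) (Y : G → ℂ)
    - classInner (Phi K lam0) (X μ : G → ℂ)) * hεε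

/-- Case A: if `Y` occurs in `Phi lam0` with coefficient `ε`, we get the full decomposition -/
theorem deco_of_caseA (S : Star K ε Y X) {lam0 : IrrCharacter K} (hl1 : lam0 ≠ oneI K)
    (hlb : barI lam0 = lam0) (hY1 : Y ≠ oneI G)
    (hp : classInner (Phi K lam0) (Y : G → ℂ) = ε) :
    ∃ (γ1 γ2 : ℂ) (Z1 Z2 : IrrCharacter G), Deco K lam0 ε Y X γ1 γ2 Z1 Z2 := by
  have hεε := S.ε_mul
  have hεc := S.conj_ε
  set R : G → ℂ := Phi K lam0 - (oneI G : G → ℂ) - ε • (Y : G → ℂ) with hR
  have hRgen : IsGeneralizedCharacter G R := by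
    apply IsGeneralizedCharacter.sub
    · apply IsGeneralizedCharacter.sub (Phi_isGen lam0)
      exact IsCharacter.isGeneralizedCharacter (IsIrrCharacter.isCharacter (oneI G).2)
    · rcases S.hε with h1 | h1
      · rw [h1, one_smul]
        exact IsCharacter.isGeneralizedCharacter (IsIrrCharacter.isCharacter Y.2)
      · rw [h1, neg_one_smul]
        exact IsGeneralizedCharacter.neg
          (IsCharacter.isGeneralizedCharacter (IsIrrCharacter.isCharacter Y.2))
  have hY1' : ¬ (oneI G = Y) := fun h1 => hY1 h1.symm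
  -- coefficients of R
  have hRβ : ∀ β : IrrCharacter G, classInner R (β : G → ℂ)
      = classInner (Phi K lam0) (β : G → ℂ) - (if oneI G = β then 1 else 0)
        - ε * (if Y = β then 1 else 0) := by
    intro β
    rw [hR, classInner_sub_left, classInner_sub_left, classInner_smul_left,
      classInner_irrCharacter, classInner_irrCharacter]
  have hpc : classInner (Y : G → ℂ) (Phi K lam0) = ε := by
    rw [← classInner_conj_symm, hp, hεc]
  have hRnorm : classInner R R = 2 := by
    have e1 : classInner R R = classInner R (Phi K lam0) - classInner R (oneI G : G → ℂ)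
        - ε * classInner R (Y : G → ℂ) := by
      conv_lhs => rw [hR]
      rw [classInner_sub_right, classInner_sub_right, classInner_smul_right, hεc]
    have e2 : classInner R (Phi K lam0) = 4 - 1 - ε * ε := by
      rw [hR, classInner_sub_left, classInner_sub_left, classInner_smul_left,
        classInner_Phi_self_real h lam0 hl1 hlb, classInner_oneG_Phi lam0 hl1, hpc]
    rw [e1, e2, hRβ, hRβ, classInner_Phi_oneG lam0 hl1, hp, if_pos rfl, if_neg hY1, if_neg hY1',
      if_pos rfl]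
    linear_combination (-1 : ℂ) * hεε
  obtain ⟨Z1, Z2, γ1, γ2, hZ12, hγ1, hγ2, hRZ⟩ := exists_pair_of_norm_two hRgen hRnorm
  have hγ1n : γ1 ≠ 0 := by rcases hγ1 with h1 | h1 <;> rw [h1] <;> norm_num
  have hγ2n : γ2 ≠ 0 := by rcases hγ2 with h1 | h1 <;> rw [h1] <;> norm_num
  have hRβ' : ∀ β : IrrCharacter G, classInner R (β : G → ℂ)
      = γ1 * (if Z1 = β then 1 else 0) + γ2 * (if Z2 = β then 1 else 0) := by
    intro β
    rw [hRZ, classInner_add_left, classInner_smul_left, classInner_smul_left,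
      classInner_irrCharacter, classInner_irrCharacter]
  -- a constituent `β` with `(R, β) = 0` is neither `Z1` nor `Z2`
  have hkey : ∀ β : IrrCharacter G, classInner R (β : G → ℂ) = 0 → Z1 ≠ β ∧ Z2 ≠ β := by
    intro β h0
    rw [hRβ'] at h0
    constructor
    · intro h1
      have h2 : Z2 ≠ β := fun h2 => hZ12 (h1.trans h2.symm)
      rw [if_pos h1, if_neg h2] at h0
      apply hγ1n
      linear_combination h0
    · intro h2
      have h1 : Z1 ≠ β := fun h1 => hZ12 (h1.trans h2.symm)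
      rw [if_neg h1, if_pos h2] at h0
      apply hγ2n
      linear_combination h0
  have h01 : classInner R (oneI G : G → ℂ) = 0 := by
    rw [hRβ, classInner_Phi_oneG lam0 hl1, if_pos rfl, if_neg hY1]
    ring
  have h0Y : classInner R (Y : G → ℂ) = 0 := by
    rw [hRβ, hp, if_neg hY1', if_pos rfl]
    ring
  have h0X : ∀ μ : IrrCharacter K, barI μ ≠ μ → classInner R (X μ : G → ℂ) = 0 := by
    intro μ hb
    have h1 := phi0_Y_sub_X h S hl1 hlb hb
    rw [hp] at h1
    have h2 : classInner (Phi K lam0) (X μ : G → ℂ) = 0 := by linear_combination -h1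
    rw [hRβ, h2, if_neg (fun h3 => (S.Y_ne_one h hb).2 h3.symm), if_neg (S.Y_ne_X h hb)]
    ring
  refine ⟨γ1, γ2, Z1, Z2, ⟨S, hγ1, hγ2, ?_, hZ12, ⟨(hkey _ h01).1, (hkey _ h0Y).1, ?_⟩,
    ⟨(hkey _ h01).2, (hkey _ h0Y).2, ?_⟩⟩⟩
  · have : Phi K lam0 = R + (oneI G : G → ℂ) + ε • (Y : G → ℂ) := by rw [hR]; abel
    rw [this, hRZ]; abel
  · intro μ hb; exact (hkey _ (h0X μ hb)).1
  · intro μ hb; exact (hkey _ (h0X μ hb)).2

end deco

end Cfsg.Agent.Lib.Helper9.Bsw
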