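import Mathlib
import Cfsg.Agent.Lib.Helper9.BswK

set_option autoImplicit false
set_option linter.unusedSectionVars false
set_option linter.unusedVariables false
set_option linter.style.longLine false
set_option linter.unusedSimpArgs false

set_option maxHeartbeats 1600000
namespace Cfsg.Agent.Lib.Helper9.Bsw

open Cfsg Cfsg.Agent.Lib.Helper6
open scoped ComplexConjugate
open scoped Classical

section vals

variable {G : Type*} [Group G] [Fintype G] {t s : G} {K : Subgroup G} [Fintype K]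
variable [Fintype (IrrCharacter K)] [Fintype (IrrCharacter G)]
variable {ε : ℂ} {Y : IrrCharacter G} {X : IrrCharacter K → IrrCharacter G}

/-- the real/nonreal splitting of a sum over `Irr K` -/
theorem sum_split {lam0 : IrrCharacter K} (hl1 : lam0 ≠ oneI K) (hlb : barI lam0 = lam0)
    (hreal : ∀ μ : IrrCharacter K, barI μ = μ → μ = oneI K ∨ μ = lam0) (F : IrrCharacter K → ℂ) :
    ∑ ν, F ν = F (oneI K) + F lam0
      + ∑ ν ∈ Finset.univ.filter (fun ν : IrrCharacter K => barI ν ≠ ν), F ν := by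
  rw [← Finset.sum_filter_add_sum_filter_not Finset.univ (fun ν : IrrCharacter K => barI ν = ν) F]
  congr 1
  have : Finset.univ.filter (fun ν : IrrCharacter K => barI ν = ν) = {oneI K, lam0} := by
    ext ν
    simp only [Finset.mem_filter, Finset.mem_univ, true_and, Finset.mem_insert,
      Finset.mem_singleton]
    constructor
    · exact hreal ν
    · rintro (rfl | rfl)
      · exact barI_oneI
      · exact hlb
  rw [this, Finset.sum_pair (fun h1 => hl1 h1.symm)]

variable (h : Hy t s K)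
include h

/-- the sum of the nonreal characters at a nonidentity element -/
theorem sum_nonreal_apply {lam0 : IrrCharacter K} (hl1 : lam0 ≠ oneI K) (hlb : barI lam0 = lam0)
    (hreal : ∀ μ : IrrCharacter K, barI μ = μ → μ = oneI K ∨ μ = lam0) (x : K) (hx : x ≠ 1) :
    ∑ ν ∈ Finset.univ.filter (fun ν : IrrCharacter K => barI ν ≠ ν), (ν : K → ℂ) x
      = -1 - (lam0 : K → ℂ) x := by
  have h1 := sum_irr_apply (isMulComm h) x
  rw [if_neg hx, sum_split hl1 hlb hreal (fun ν => (ν : K → ℂ) x), oneI_apply] at h1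
  linear_combination h1

/-- the sum over the pair `{μ, barI μ}` inside the nonreal characters -/
theorem sum_nonreal_pair {μ : IrrCharacter K} (hb : barI μ ≠ μ) (F : IrrCharacter K → ℂ) :
    ∑ ν ∈ Finset.univ.filter (fun ν : IrrCharacter K => barI ν ≠ ν),
      (if μ = ν ∨ μ = barI ν then F ν else 0) = F μ + F (barI μ) := by
  rw [← Finset.sum_filter, Finset.filter_filter]
  have : Finset.univ.filter (fun ν : IrrCharacter K => barI ν ≠ ν ∧ (μ = ν ∨ μ = barI ν))
      = {μ, barI μ} := by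
    ext ν
    simp only [Finset.mem_filter, Finset.mem_univ, true_and, Finset.mem_insert,
      Finset.mem_singleton]
    constructor
    · rintro ⟨-, h1 | h1⟩
      · left; exact h1.symm
      · right; rw [h1, barI_barI]
    · rintro (rfl | rfl)
      · exact ⟨hb, Or.inl rfl⟩
      · refine ⟨?_, Or.inr (barI_barI μ).symm⟩
        rw [barI_barI]; exact fun h1 => hb h1.symm
  rw [this, Finset.sum_pair (fun h1 => hb h1.symm)]

omit h in
theorem classInner_Phi_oneI_left (β : IrrCharacter G) :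
    classInner (Phi K (oneI K)) (β : G → ℂ) = 0 := by
  rw [Phi_oneI, classInner_zero_left]

/-- values of `X μ` on `K#` -/
theorem Star.X_apply (S : Star K ε Y X) {lam0 : IrrCharacter K} (hl1 : lam0 ≠ oneI K)
    (hlb : barI lam0 = lam0)
    (hreal : ∀ μ : IrrCharacter K, barI μ = μ → μ = oneI K ∨ μ = lam0)
    {μ : IrrCharacter K} (hb : barI μ ≠ μ) (x : K) (hx : x ≠ 1) :
    (X μ : G → ℂ) x = - classInner (Phi K lam0) (X μ : G → ℂ) * (lam0 : K → ℂ) x
      + ε * ((μ : K → ℂ) x + conj ((μ : K → ℂ) x)) := by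
  rw [restrict_apply h (IsIrrCharacter.isCharacter (X μ).2) x hx,
    sum_split hl1 hlb hreal, classInner_Phi_oneI_left, zero_mul, zero_add]
  have h1 : ∀ ν ∈ Finset.univ.filter (fun ν : IrrCharacter K => barI ν ≠ ν),
      classInner (Phi K ν) (X μ : G → ℂ) * (ν : K → ℂ) x
        = if μ = ν ∨ μ = barI ν then -ε * (ν : K → ℂ) x else 0 := by
    intro ν hν
    have hb' : barI ν ≠ ν := (Finset.mem_filter.1 hν).2
    rw [S.coef hb', if_neg (fun h2 => (S.Y_ne_one h hb).2 h2.symm), if_neg (S.Y_ne_X h hb)]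
    by_cases h3 : μ = ν ∨ μ = barI ν
    · rw [if_pos h3, if_pos ((S.X_eq_iff h hb' hb).2 (by
        rcases h3 with h3 | h3
        · left; exact h3.symm
        · right; rw [h3, barI_barI]))]
      ring
    · rw [if_neg h3, if_neg (fun h4 => h3 (by
        rcases (S.X_eq_iff h hb' hb).1 h4 with h5 | h5
        · left; exact h5.symm
        · right; rw [h5, barI_barI]))]
      ring
  rw [Finset.sum_congr rfl h1, sum_nonreal_pair h hb (fun ν => -ε * (ν : K → ℂ) x), barI_apply]
  ring

/-- values of `Y` on `K#` -/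
theorem Star.Y_apply (S : Star K ε Y X) {lam0 : IrrCharacter K} (hl1 : lam0 ≠ oneI K)
    (hlb : barI lam0 = lam0)
    (hreal : ∀ μ : IrrCharacter K, barI μ = μ → μ = oneI K ∨ μ = lam0)
    {μ0 : IrrCharacter K} (hb0 : barI μ0 ≠ μ0) (x : K) (hx : x ≠ 1) :
    (Y : G → ℂ) x = - classInner (Phi K lam0) (Y : G → ℂ) * (lam0 : K → ℂ) x
      + ε * (1 + (lam0 : K → ℂ) x) := by
  rw [restrict_apply h (IsIrrCharacter.isCharacter Y.2) x hx,
    sum_split hl1 hlb hreal, classInner_Phi_oneI_left, zero_mul, zero_add]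
  have hY1 : Y ≠ oneI G := (S.Y_ne_one h hb0).1
  have h1 : ∀ ν ∈ Finset.univ.filter (fun ν : IrrCharacter K => barI ν ≠ ν),
      classInner (Phi K ν) (Y : G → ℂ) * (ν : K → ℂ) x = ε * (ν : K → ℂ) x := by
    intro ν hν
    have hb' : barI ν ≠ ν := (Finset.mem_filter.1 hν).2
    rw [S.coef hb', if_neg (fun h2 => hY1 h2.symm), if_pos rfl,
      if_neg (fun h2 => S.Y_ne_X h hb' h2.symm)]
    ring
  rw [Finset.sum_congr rfl h1, ← Finset.mul_sum, sum_nonreal_apply h hl1 hlb hreal x hx]
  ring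

/-- values on `K#` of an irreducible character which is not `1`, `Y` or an `X μ` -/
theorem Star.other_apply (S : Star K ε Y X) {lam0 : IrrCharacter K} (hl1 : lam0 ≠ oneI K)
    (hlb : barI lam0 = lam0)
    (hreal : ∀ μ : IrrCharacter K, barI μ = μ → μ = oneI K ∨ μ = lam0)
    (β : IrrCharacter G) (hβ1 : β ≠ oneI G) (hβY : β ≠ Y)
    (hβX : ∀ μ : IrrCharacter K, barI μ ≠ μ → β ≠ X μ) (x : K) (hx : x ≠ 1) :
    (β : G → ℂ) x = - classInner (Phi K lam0) (β : G → ℂ) * (lam0 : K → ℂ) x := by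
  rw [restrict_apply h (IsIrrCharacter.isCharacter β.2) x hx,
    sum_split hl1 hlb hreal, classInner_Phi_oneI_left, zero_mul, zero_add]
  have h1 : ∀ ν ∈ Finset.univ.filter (fun ν : IrrCharacter K => barI ν ≠ ν),
      classInner (Phi K ν) (β : G → ℂ) * (ν : K → ℂ) x = 0 := by
    intro ν hν
    have hb' : barI ν ≠ ν := (Finset.mem_filter.1 hν).2
    rw [S.coef hb', if_neg (fun h2 => hβ1 h2.symm), if_neg (fun h2 => hβY h2.symm),
      if_neg (fun h2 => hβX ν hb' h2.symm)]
    ring
  rw [Finset.sum_eq_zero h1]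
  ring

/-- the `E`-equation in star form -/
theorem Star.E_star (S : Star K ε Y X) {μ : IrrCharacter K} (hb : barI μ ≠ μ) :
    1 + ε * ((Y : G → ℂ) t * (Y : G → ℂ) t / (Y : G → ℂ) 1)
      - ε * ((X μ : G → ℂ) t * (X μ : G → ℂ) t / (X μ : G → ℂ) 1)
      = 4 * (Nat.card K : ℂ) ^ 3 / (Nat.card G : ℂ) := by
  rw [← E_eq h μ (ne_oneI_of_nonreal hb)]
  have h1 : ∀ β : IrrCharacter G,
      ((β : G → ℂ) t * (β : G → ℂ) t / (β : G → ℂ) 1) * classInner (Phi K μ) (β : G → ℂ)
      = (if oneI G = β then ((β : G → ℂ) t * (β : G → ℂ) t / (β : G → ℂ) 1) else 0)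
        + ε * (if Y = β then ((β : G → ℂ) t * (β : G → ℂ) t / (β : G → ℂ) 1) else 0)
        - ε * (if X μ = β then ((β : G → ℂ) t * (β : G → ℂ) t / (β : G → ℂ) 1) else 0) := by
    intro β
    rw [S.coef hb]
    split_ifs <;> ring
  rw [Finset.sum_congr rfl (fun β _ => h1 β), Finset.sum_sub_distrib, Finset.sum_add_distrib,
    ← Finset.mul_sum, ← Finset.mul_sum, Finset.sum_ite_eq, Finset.sum_ite_eq, Finset.sum_ite_eq]
  simp only [Finset.mem_univ, if_true, oneI_apply]
  ring

end vals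

end Cfsg.Agent.Lib.Helper9.Bsw
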