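import Mathlib
import Cfsg.Agent.Lib.Helper9.BswL

set_option autoImplicit false
set_option linter.unusedSectionVars false
set_option linter.unusedVariables false
set_option linter.style.longLine false
set_option linter.unusedSimpArgs false

set_option maxHeartbeats 1600000
namespace Cfsg.Agent.Lib.Helper9.Bsw

open Cfsg Cfsg.Agent.Lib.Helper6
open scoped ComplexConjugate
open scoped Classical

section caseB

variable {G : Type*} [Group G] [Fintype G] {t s : G} {K : Subgroup G} [Fintype K]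
variable [Fintype (IrrCharacter K)] [Fintype (IrrCharacter G)]
variable {ε : ℂ} {Y : IrrCharacter G} {X : IrrCharacter K → IrrCharacter G}
variable (h : Hy t s K)
include h

/-- `t` as an element of `K` -/
def tK : K := ⟨t, h.htK⟩

theorem tK_ne_one : tK h ≠ 1 := by
  intro h1
  exact h.t_ne_one (congrArg Subtype.val h1)

theorem irr_apply_tK_sq (μ : IrrCharacter K) :
    (μ : K → ℂ) (tK h) * (μ : K → ℂ) (tK h) = 1 := by
  rw [← irr_mul (isMulComm h)]
  have : tK h * tK h = 1 := Subtype.ext h.t_mul_t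
  rw [this, irr_one (isMulComm h)]

theorem irr_apply_tK_cases (μ : IrrCharacter K) :
    (μ : K → ℂ) (tK h) = 1 ∨ (μ : K → ℂ) (tK h) = -1 :=
  mul_self_eq_one_iff.1 (irr_apply_tK_sq h μ)

theorem irr_apply_tK_conj (μ : IrrCharacter K) :
    conj ((μ : K → ℂ) (tK h)) = (μ : K → ℂ) (tK h) := by
  rcases irr_apply_tK_cases h μ with h1 | h1 <;> rw [h1] <;> simp

/-- the degree relation coming from `Phi μ 1 = 0` -/
theorem Star.degree_rel (S : Star K ε Y X) {μ : IrrCharacter K} (hb : barI μ ≠ μ) :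
    (X μ : G → ℂ) 1 = (Y : G → ℂ) 1 + ε := by
  have h1 := congrFun (S.star μ hb) 1
  rw [Phi_one h] at h1
  simp only [Pi.add_apply, Pi.sub_apply, Pi.smul_apply, smul_eq_mul, oneI_apply] at h1
  have hεε := S.ε_mul
  linear_combination ε * h1 + ((Y : G → ℂ) 1 - (X μ : G → ℂ) 1) * hεε

/-- in case B, two nonreal characters with different `X` take the same value at `t` -/
theorem caseB_eq (S : Star K ε Y X) {lam0 : IrrCharacter K} (hl1 : lam0 ≠ oneI K)
    (hlb : barI lam0 = lam0)
    (hreal : ∀ μ : IrrCharacter K, barI μ = μ → μ = oneI K ∨ μ = lam0)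
    (hp : classInner (Phi K lam0) (Y : G → ℂ) = 0)
    {μ ν : IrrCharacter K} (hb : barI μ ≠ μ) (hb' : barI ν ≠ ν) :
    (μ : K → ℂ) (tK h) = (ν : K → ℂ) (tK h) := by
  have hεε := S.ε_mul
  have hq : ∀ μ' : IrrCharacter K, barI μ' ≠ μ' →
      classInner (Phi K lam0) (X μ' : G → ℂ) = -ε := by
    intro μ' hb''
    have := phi0_Y_sub_X h S hl1 hlb hb''
    rw [hp] at this
    linear_combination -this
  have hval : ∀ μ' : IrrCharacter K, barI μ' ≠ μ' → (X μ' : G → ℂ) t
      = ε * ((lam0 : K → ℂ) (tK h) + 2 * (μ' : K → ℂ) (tK h)) := by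
    intro μ' hb''
    have := S.X_apply h hl1 hlb hreal hb'' (tK h) (tK_ne_one h)
    rw [hq μ' hb'', irr_apply_tK_conj] at this
    have e : ((tK h : K) : G) = t := rfl
    rw [e] at this
    rw [this]; ring
  have hdeg := S.degree_rel h hb
  have hdeg' := S.degree_rel h hb'
  have hx0 : (X μ : G → ℂ) 1 ≠ 0 := IsIrrCharacter.apply_one_ne_zero (X μ).2
  have e1 := S.E_star h hb
  have e2 := S.E_star h hb'
  have hε0 := S.ε_ne
  have e3 : (X μ : G → ℂ) t * (X μ : G → ℂ) t / (X μ : G → ℂ) 1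
      = (X ν : G → ℂ) t * (X ν : G → ℂ) t / (X ν : G → ℂ) 1 := by
    have : ε * ((X μ : G → ℂ) t * (X μ : G → ℂ) t / (X μ : G → ℂ) 1)
        = ε * ((X ν : G → ℂ) t * (X ν : G → ℂ) t / (X ν : G → ℂ) 1) := by
      linear_combination e2 - e1
    exact mul_left_cancel₀ hε0 this
  rw [hdeg', ← hdeg] at e3
  have e4 : (X μ : G → ℂ) t ^ 2 = (X ν : G → ℂ) t ^ 2 := by
    field_simp at e3
    exact e3
  rw [hval μ hb, hval ν hb'] at e4
  have hl := irr_apply_tK_sq h lam0
  have ha := irr_apply_tK_sq h μ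
  have hb2 := irr_apply_tK_sq h ν
  have hl0 : (lam0 : K → ℂ) (tK h) ≠ 0 := by
    intro h0; rw [h0] at hl; norm_num at hl
  have e5 : (lam0 : K → ℂ) (tK h) * ((μ : K → ℂ) (tK h) - (ν : K → ℂ) (tK h)) = 0 := by
    have : 4 * ((lam0 : K → ℂ) (tK h) * ((μ : K → ℂ) (tK h) - (ν : K → ℂ) (tK h))) = 0 := by
      linear_combination e4 + (-((lam0 : K → ℂ) (tK h) + 2 * (μ : K → ℂ) (tK h)) ^ 2
        + ((lam0 : K → ℂ) (tK h) + 2 * (ν : K → ℂ) (tK h)) ^ 2) * hεε - 4 * ha + 4 * hb2
    rcases mul_eq_zero.1 this with h4 | h4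
    · norm_num at h4
    · exact h4
  rcases mul_eq_zero.1 e5 with h6 | h6
  · exact absurd h6 hl0
  · exact sub_eq_zero.1 h6

/-- case B with two different `X` is impossible -/
theorem caseB_false (S : Star K ε Y X) {lam0 : IrrCharacter K} (hl1 : lam0 ≠ oneI K)
    (hlb : barI lam0 = lam0)
    (hreal : ∀ μ : IrrCharacter K, barI μ = μ → μ = oneI K ∨ μ = lam0)
    (hp : classInner (Phi K lam0) (Y : G → ℂ) = 0)
    {μ ν : IrrCharacter K} (hb : barI μ ≠ μ) (hb' : barI ν ≠ ν) (hX : X μ ≠ X ν) : False := by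
  -- all nonreal characters take the value `a` at `t`
  set a := (μ : K → ℂ) (tK h) with ha
  have hall : ∀ ν' ∈ Finset.univ.filter (fun ν : IrrCharacter K => barI ν ≠ ν),
      (ν' : K → ℂ) (tK h) = a := by
    intro ν' hν'
    exact (caseB_eq h S hl1 hlb hreal hp hb (Finset.mem_filter.1 hν').2).symm
  have hsum := sum_nonreal_apply h hl1 hlb hreal (tK h) (tK_ne_one h)
  rw [Finset.sum_congr rfl hall, Finset.sum_const, nsmul_eq_mul] at hsum
  -- at least four nonreal characters
  have hne : ¬ (μ = ν ∨ μ = barI ν) := fun h1 => hX ((S.X_eq_iff h hb hb').2 h1)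
  push Not at hne
  have hbb : barI (barI μ) ≠ barI μ := by rw [barI_barI]; exact fun h1 => hb h1.symm
  have hbb' : barI (barI ν) ≠ barI ν := by rw [barI_barI]; exact fun h1 => hb' h1.symm
  have hsub : ({μ, barI μ, ν, barI ν} : Finset (IrrCharacter K))
      ⊆ Finset.univ.filter (fun ν : IrrCharacter K => barI ν ≠ ν) := by
    intro x hx
    simp only [Finset.mem_insert, Finset.mem_singleton] at hx
    rw [Finset.mem_filter]
    refine ⟨Finset.mem_univ _, ?_⟩
    rcases hx with rfl | rfl | rfl | rfl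
    · exact hb
    · exact hbb
    · exact hb'
    · exact hbb'
  have hcard4 : ({μ, barI μ, ν, barI ν} : Finset (IrrCharacter K)).card = 4 := by
    have n1 : μ ≠ barI μ := fun h1 => hb h1.symm
    have n2 : μ ≠ ν := hne.1
    have n3 : μ ≠ barI ν := hne.2
    have n4 : barI μ ≠ ν := by
      intro h1; apply n3; rw [← h1, barI_barI]
    have n5 : barI μ ≠ barI ν := by
      intro h1; apply n2
      have := congrArg barI h1
      rwa [barI_barI, barI_barI] at this
    have n6 : ν ≠ barI ν := fun h1 => hb' h1.symm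
    rw [Finset.card_insert_of_notMem, Finset.card_insert_of_notMem, Finset.card_pair n6]
    · simp only [Finset.mem_insert, Finset.mem_singleton]; push Not; exact ⟨n4, n5⟩
    · simp only [Finset.mem_insert, Finset.mem_singleton]; push Not; exact ⟨n1, n2, n3⟩
  have hge : 4 ≤ (Finset.univ.filter (fun ν : IrrCharacter K => barI ν ≠ ν)).card := by
    rw [← hcard4]; exact Finset.card_le_card hsub
  set N := (Finset.univ.filter (fun ν : IrrCharacter K => barI ν ≠ ν)).card with hN
  rcases irr_apply_tK_cases h μ with h1 | h1 <;> rcases irr_apply_tK_cases h lam0 with h2 | h2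
  · rw [← ha] at h1
    rw [h1, h2] at hsum
    have : (N : ℤ) = -2 := by exact_mod_cast (by linear_combination hsum : (N : ℂ) = -2)
    omega
  · rw [← ha] at h1
    rw [h1, h2] at hsum
    have : (N : ℤ) = 0 := by exact_mod_cast (by linear_combination hsum : (N : ℂ) = 0)
    omega
  · rw [← ha] at h1
    rw [h1, h2] at hsum
    have : (N : ℤ) = 2 := by exact_mod_cast (by linear_combination -hsum : (N : ℂ) = 2)
    omega
  · rw [← ha] at h1
    rw [h1, h2] at hsum
    have : (N : ℤ) = 0 := by exact_mod_cast (by linear_combination -hsum : (N : ℂ) = 0)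
    omega

end caseB

end Cfsg.Agent.Lib.Helper9.Bsw
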