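import Mathlib
import Cfsg.Agent.Lib.Helper9.BswM

set_option autoImplicit false
set_option linter.unusedSectionVars false
set_option linter.unusedVariables false
set_option linter.style.longLine false
set_option linter.unusedSimpArgs false

set_option maxHeartbeats 1600000
namespace Cfsg.Agent.Lib.Helper9.Bsw

open Cfsg Cfsg.Agent.Lib.Helper6
open scoped ComplexConjugate
open scoped Classical

section exdeco

variable {G : Type*} [Group G] [Fintype G] {t s : G} {K : Subgroup G} [Fintype K]
variable (h : Hy t s K)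
include h

/-- existence of the full decomposition -/
theorem exists_deco (hk : 4 ≤ Nat.card K) :
    ∃ (lam0 : IrrCharacter K) (ε : ℂ) (Y : IrrCharacter G) (X : IrrCharacter K → IrrCharacter G)
      (γ1 γ2 : ℂ) (Z1 Z2 : IrrCharacter G), lam0 ≠ oneI K ∧ barI lam0 = lam0 ∧
      (∀ μ : IrrCharacter K, barI μ = μ → μ = oneI K ∨ μ = lam0) ∧
      Deco K lam0 ε Y X γ1 γ2 Z1 Z2 := by
  have : Fintype (IrrCharacter K) := Fintype.ofFinite _
  have : Fintype (IrrCharacter G) := Fintype.ofFinite _
  obtain ⟨lam0, hl1, hlb, hreal⟩ := exists_real h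
  obtain ⟨μ0, hb0⟩ := exists_nonreal h hk
  obtain ⟨ε, Y, X, hε, hstar⟩ := exists_star h
  have S : Star K ε Y X := ⟨hε, hstar⟩
  have hY1 := (S.Y_ne_one h hb0).1
  have hX1 := (S.Y_ne_one h hb0).2
  have hpq := phi0_Y_sub_X h S hl1 hlb hb0
  have hp3 := phi0_coef_small h hl1 hlb Y hY1
  have hq3 := phi0_coef_small h hl1 hlb (X μ0) hX1
  by_cases hp : classInner (Phi K lam0) (Y : G → ℂ) = ε
  · obtain ⟨γ1, γ2, Z1, Z2, hD⟩ := deco_of_caseA h S hl1 hlb hY1 hp
    exact ⟨lam0, ε, Y, X, γ1, γ2, Z1, Z2, hl1, hlb, hreal, hD⟩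
  · -- then `p = 0`
    have hp0 : classInner (Phi K lam0) (Y : G → ℂ) = 0 := by
      rcases hε with rfl | rfl
      · rcases hp3 with h1 | h1 | h1
        · exact h1
        · exact absurd h1 hp
        · exfalso
          rw [h1] at hpq
          have h2 : classInner (Phi K lam0) (X μ0 : G → ℂ) = -2 := by linear_combination -hpq
          rcases hq3 with h3 | h3 | h3 <;> rw [h3] at h2 <;> norm_num at h2
      · rcases hp3 with h1 | h1 | h1
        · exact h1
        · exfalso
          rw [h1] at hpq
          have h2 : classInner (Phi K lam0) (X μ0 : G → ℂ) = 2 := by linear_combination -hpq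
          rcases hq3 with h3 | h3 | h3 <;> rw [h3] at h2 <;> norm_num at h2
        · exact absurd h1 hp
    by_cases hall : ∀ μ ν : IrrCharacter K, barI μ ≠ μ → barI ν ≠ ν → X μ = X ν
    · -- rename
      have S' : Star K (-ε) (X μ0) (fun _ => Y) := by
        refine ⟨?_, ?_⟩
        · rcases hε with rfl | rfl
          · right; rfl
          · left; simp
        · intro μ hb
          rw [hstar μ hb, hall μ μ0 hb hb0]
          simp only [neg_smul]
          abel
      have hp' : classInner (Phi K lam0) (X μ0 : G → ℂ) = -ε := by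
        rw [hp0] at hpq
        linear_combination -hpq
      obtain ⟨γ1, γ2, Z1, Z2, hD⟩ := deco_of_caseA h S' hl1 hlb hX1 hp'
      exact ⟨lam0, -ε, X μ0, fun _ => Y, γ1, γ2, Z1, Z2, hl1, hlb, hreal, hD⟩
    · push Not at hall
      obtain ⟨μ, ν, hb, hb', hX⟩ := hall
      exact (caseB_false h S hl1 hlb hreal hp0 hb hb' hX).elim

end exdeco

end Cfsg.Agent.Lib.Helper9.Bsw
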