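import Mathlib
import Cfsg.Agent.Lib.Helper9.BswN

set_option autoImplicit false
set_option linter.unusedSectionVars false
set_option linter.unusedVariables false
set_option linter.style.longLine false
set_option linter.unusedSimpArgs false

set_option maxHeartbeats 1600000
namespace Cfsg.Agent.Lib.Helper9.Bsw

open Cfsg Cfsg.Agent.Lib.Helper6
open scoped ComplexConjugate
open scoped Classical

section decoVals

variable {G : Type*} [Group G] [Fintype G] {t s : G} {K : Subgroup G} [Fintype K]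
variable [Fintype (IrrCharacter K)] [Fintype (IrrCharacter G)]
variable {lam0 : IrrCharacter K} {ε : ℂ} {Y : IrrCharacter G}
  {X : IrrCharacter K → IrrCharacter G} {γ1 γ2 : ℂ} {Z1 Z2 : IrrCharacter G}

namespace Deco

theorem γ1_mul (D : Deco K lam0 ε Y X γ1 γ2 Z1 Z2) : γ1 * γ1 = 1 := by
  rcases D.hγ1 with h1 | h1 <;> rw [h1] <;> norm_num

theorem γ2_mul (D : Deco K lam0 ε Y X γ1 γ2 Z1 Z2) : γ2 * γ2 = 1 := by
  rcases D.hγ2 with h1 | h1 <;> rw [h1] <;> norm_num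

/-- coefficients of `Phi lam0` -/
theorem coef0 (D : Deco K lam0 ε Y X γ1 γ2 Z1 Z2) (β : IrrCharacter G) :
    classInner (Phi K lam0) (β : G → ℂ) = (if oneI G = β then 1 else 0)
      + ε * (if Y = β then 1 else 0) + γ1 * (if Z1 = β then 1 else 0)
      + γ2 * (if Z2 = β then 1 else 0) := by
  rw [D.phi0, classInner_add_left, classInner_add_left, classInner_add_left,
    classInner_smul_left, classInner_smul_left, classInner_smul_left,
    classInner_irrCharacter, classInner_irrCharacter, classInner_irrCharacter,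
    classInner_irrCharacter]

variable (h : Hy t s K)
include h

theorem coef0_Y (D : Deco K lam0 ε Y X γ1 γ2 Z1 Z2) {μ0 : IrrCharacter K} (hb0 : barI μ0 ≠ μ0) :
    classInner (Phi K lam0) (Y : G → ℂ) = ε := by
  rw [D.coef0, if_neg (fun h1 => (D.toStar.Y_ne_one h hb0).1 h1.symm), if_pos rfl,
    if_neg D.hZ1.2.1, if_neg D.hZ2.2.1]
  ring

theorem coef0_X (D : Deco K lam0 ε Y X γ1 γ2 Z1 Z2) {μ : IrrCharacter K} (hb : barI μ ≠ μ) :
    classInner (Phi K lam0) (X μ : G → ℂ) = 0 := by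
  rw [D.coef0, if_neg (fun h1 => (D.toStar.Y_ne_one h hb).2 h1.symm),
    if_neg (D.toStar.Y_ne_X h hb), if_neg (D.hZ1.2.2 μ hb), if_neg (D.hZ2.2.2 μ hb)]
  ring

omit h in
theorem coef0_Z1 (D : Deco K lam0 ε Y X γ1 γ2 Z1 Z2) :
    classInner (Phi K lam0) (Z1 : G → ℂ) = γ1 := by
  rw [D.coef0, if_neg (fun h1 => D.hZ1.1 h1.symm), if_neg (fun h1 => D.hZ1.2.1 h1.symm),
    if_pos rfl, if_neg (fun h1 => D.hZ12 h1.symm)]
  ring

omit h in
theorem coef0_Z2 (D : Deco K lam0 ε Y X γ1 γ2 Z1 Z2) :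
    classInner (Phi K lam0) (Z2 : G → ℂ) = γ2 := by
  rw [D.coef0, if_neg (fun h1 => D.hZ2.1 h1.symm), if_neg (fun h1 => D.hZ2.2.1 h1.symm),
    if_neg D.hZ12, if_pos rfl]
  ring

variable (hl1 : lam0 ≠ oneI K) (hlb : barI lam0 = lam0)
  (hreal : ∀ μ : IrrCharacter K, barI μ = μ → μ = oneI K ∨ μ = lam0)
include hl1 hlb hreal

/-- `Y` is constant `ε` on `K#` -/
theorem Y_apply (D : Deco K lam0 ε Y X γ1 γ2 Z1 Z2) {μ0 : IrrCharacter K} (hb0 : barI μ0 ≠ μ0)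
    (x : K) (hx : x ≠ 1) : (Y : G → ℂ) x = ε := by
  rw [D.toStar.Y_apply h hl1 hlb hreal hb0 x hx, D.coef0_Y h hb0]
  ring

theorem X_apply (D : Deco K lam0 ε Y X γ1 γ2 Z1 Z2) {μ : IrrCharacter K} (hb : barI μ ≠ μ)
    (x : K) (hx : x ≠ 1) :
    (X μ : G → ℂ) x = ε * ((μ : K → ℂ) x + conj ((μ : K → ℂ) x)) := by
  rw [D.toStar.X_apply h hl1 hlb hreal hb x hx, D.coef0_X h hb]
  ring

theorem Z1_apply (D : Deco K lam0 ε Y X γ1 γ2 Z1 Z2) (x : K) (hx : x ≠ 1) :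
    (Z1 : G → ℂ) x = - γ1 * (lam0 : K → ℂ) x := by
  rw [D.toStar.other_apply h hl1 hlb hreal Z1 D.hZ1.1 D.hZ1.2.1 D.hZ1.2.2 x hx, D.coef0_Z1]

theorem Z2_apply (D : Deco K lam0 ε Y X γ1 γ2 Z1 Z2) (x : K) (hx : x ≠ 1) :
    (Z2 : G → ℂ) x = - γ2 * (lam0 : K → ℂ) x := by
  rw [D.toStar.other_apply h hl1 hlb hreal Z2 D.hZ2.1 D.hZ2.2.1 D.hZ2.2.2 x hx, D.coef0_Z2]

/-- all other irreducible characters vanish on `K#` -/
theorem other_apply (D : Deco K lam0 ε Y X γ1 γ2 Z1 Z2) (β : IrrCharacter G)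
    (hβ1 : β ≠ oneI G) (hβY : β ≠ Y) (hβX : ∀ μ : IrrCharacter K, barI μ ≠ μ → β ≠ X μ)
    (hβ1' : β ≠ Z1) (hβ2' : β ≠ Z2) (x : K) (hx : x ≠ 1) : (β : G → ℂ) x = 0 := by
  rw [D.toStar.other_apply h hl1 hlb hreal β hβ1 hβY hβX x hx, D.coef0,
    if_neg (fun h1 => hβ1 h1.symm), if_neg (fun h1 => hβY h1.symm),
    if_neg (fun h1 => hβ1' h1.symm), if_neg (fun h1 => hβ2' h1.symm)]
  ring

omit hl1 hlb hreal in
/-- the `E`-equation for `lam0` -/
theorem E0 (D : Deco K lam0 ε Y X γ1 γ2 Z1 Z2) (hl1 : lam0 ≠ oneI K) :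
    1 + ε * ((Y : G → ℂ) t * (Y : G → ℂ) t / (Y : G → ℂ) 1)
      + γ1 * ((Z1 : G → ℂ) t * (Z1 : G → ℂ) t / (Z1 : G → ℂ) 1)
      + γ2 * ((Z2 : G → ℂ) t * (Z2 : G → ℂ) t / (Z2 : G → ℂ) 1)
      = 4 * (Nat.card K : ℂ) ^ 3 / (Nat.card G : ℂ) := by
  rw [← E_eq h lam0 hl1]
  have h1 : ∀ β : IrrCharacter G,
      ((β : G → ℂ) t * (β : G → ℂ) t / (β : G → ℂ) 1) * classInner (Phi K lam0) (β : G → ℂ)
      = (if oneI G = β then ((β : G → ℂ) t * (β : G → ℂ) t / (β : G → ℂ) 1) else 0)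
        + ε * (if Y = β then ((β : G → ℂ) t * (β : G → ℂ) t / (β : G → ℂ) 1) else 0)
        + γ1 * (if Z1 = β then ((β : G → ℂ) t * (β : G → ℂ) t / (β : G → ℂ) 1) else 0)
        + γ2 * (if Z2 = β then ((β : G → ℂ) t * (β : G → ℂ) t / (β : G → ℂ) 1) else 0) := by
    intro β
    rw [D.coef0]
    split_ifs <;> ring
  rw [Finset.sum_congr rfl (fun β _ => h1 β), Finset.sum_add_distrib, Finset.sum_add_distrib,
    Finset.sum_add_distrib, ← Finset.mul_sum, ← Finset.mul_sum, ← Finset.mul_sum,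
    Finset.sum_ite_eq, Finset.sum_ite_eq, Finset.sum_ite_eq, Finset.sum_ite_eq]
  simp only [Finset.mem_univ, if_true, oneI_apply]
  ring

end Deco

end decoVals

end Cfsg.Agent.Lib.Helper9.Bsw
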