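import Mathlib
import Cfsg.Agent.Lib.Helper9.BswO

set_option autoImplicit false
set_option linter.unusedSectionVars false
set_option linter.unusedVariables false
set_option linter.style.longLine false
set_option linter.unusedSimpArgs false

set_option maxHeartbeats 1600000
namespace Cfsg.Agent.Lib.Helper9.Bsw

open Cfsg Cfsg.Agent.Lib.Helper6
open scoped ComplexConjugate
open scoped Classical

section degrees

variable {G : Type*} [Group G] [Fintype G] {t s : G} {K : Subgroup G} [Fintype K]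
variable [Fintype (IrrCharacter K)] [Fintype (IrrCharacter G)]
variable {lam0 : IrrCharacter K} {ε : ℂ} {Y : IrrCharacter G}
  {X : IrrCharacter K → IrrCharacter G} {γ1 γ2 : ℂ} {Z1 Z2 : IrrCharacter G}

variable (h : Hy t s K)
include h

theorem Star.coef_X (S : Star K ε Y X) {μ ν : IrrCharacter K} (hb : barI μ ≠ μ)
    (hb' : barI ν ≠ ν) :
    classInner (Phi K ν) (X μ : G → ℂ) = if μ = ν ∨ μ = barI ν then -ε else 0 := by
  rw [S.coef hb', if_neg (fun h2 => (S.Y_ne_one h hb).2 h2.symm), if_neg (S.Y_ne_X h hb)]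
  by_cases h3 : μ = ν ∨ μ = barI ν
  · rw [if_pos h3, if_pos ((S.X_eq_iff h hb' hb).2 (by
      rcases h3 with h3 | h3
      · left; exact h3.symm
      · right; rw [h3, barI_barI]))]
    ring
  · rw [if_neg h3, if_neg (fun h4 => h3 (by
      rcases (S.X_eq_iff h hb' hb).1 h4 with h5 | h5
      · left; exact h5.symm
      · right; rw [h5, barI_barI]))]
    ring

theorem card_nonreal_cast :
    ((Finset.univ.filter (fun μ : IrrCharacter K => barI μ ≠ μ)).card : ℂ)
      = (Nat.card K : ℂ) - 2 := by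
  have h1 := card_nonreal h
  have h2 : (((Finset.univ.filter (fun μ : IrrCharacter K => barI μ ≠ μ)).card + 2 : ℕ) : ℂ)
      = (Nat.card K : ℂ) := by rw [h1]
  push_cast at h2
  linear_combination h2

namespace Deco

variable (hl1 : lam0 ≠ oneI K) (hlb : barI lam0 = lam0)
  (hreal : ∀ μ : IrrCharacter K, barI μ = μ → μ = oneI K ∨ μ = lam0)
include hl1 hlb hreal

theorem Y_degree (D : Deco K lam0 ε Y X γ1 γ2 Z1 Z2) {μ0 : IrrCharacter K} (hb0 : barI μ0 ≠ μ0) :
    ∃ nY : ℕ, (Y : G → ℂ) 1 = (Nat.card K : ℂ) * nY - ((Nat.card K : ℂ) - 1) * ε := by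
  have hχ := IsIrrCharacter.isCharacter Y.2
  obtain ⟨nY, hnY⟩ := IsCharacter.classInner_irr_nat (IsCharacter.restrict K hχ) (oneI K).2
  refine ⟨nY, ?_⟩
  rw [restrict_degree h hχ, hnY, sum_split hl1 hlb hreal, classInner_Phi_oneI_left,
    D.coef0_Y h hb0]
  have hY1 : Y ≠ oneI G := (D.toStar.Y_ne_one h hb0).1
  have h1 : ∀ ν ∈ Finset.univ.filter (fun ν : IrrCharacter K => barI ν ≠ ν),
      classInner (Phi K ν) (Y : G → ℂ) = ε := by
    intro ν hν
    have hb' : barI ν ≠ ν := (Finset.mem_filter.1 hν).2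
    rw [D.toStar.coef hb', if_neg (fun h2 => hY1 h2.symm), if_pos rfl,
      if_neg (fun h2 => D.toStar.Y_ne_X h hb' h2.symm)]
    ring
  rw [Finset.sum_congr rfl h1, Finset.sum_const, nsmul_eq_mul, card_nonreal_cast h]
  ring

theorem X_degree (D : Deco K lam0 ε Y X γ1 γ2 Z1 Z2) {μ : IrrCharacter K} (hb : barI μ ≠ μ) :
    ∃ nX : ℕ, (X μ : G → ℂ) 1 = (Nat.card K : ℂ) * nX + 2 * ε := by
  have hχ := IsIrrCharacter.isCharacter (X μ).2
  obtain ⟨nX, hnX⟩ := IsCharacter.classInner_irr_nat (IsCharacter.restrict K hχ) (oneI K).2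
  refine ⟨nX, ?_⟩
  rw [restrict_degree h hχ, hnX, sum_split hl1 hlb hreal, classInner_Phi_oneI_left,
    D.coef0_X h hb]
  have h1 : ∀ ν ∈ Finset.univ.filter (fun ν : IrrCharacter K => barI ν ≠ ν),
      classInner (Phi K ν) (X μ : G → ℂ) = if μ = ν ∨ μ = barI ν then -ε else 0 := by
    intro ν hν
    exact D.toStar.coef_X h hb (Finset.mem_filter.1 hν).2
  rw [Finset.sum_congr rfl h1, sum_nonreal_pair h hb (fun _ => -ε)]
  ring

theorem Z1_degree (D : Deco K lam0 ε Y X γ1 γ2 Z1 Z2) :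
    ∃ m : ℕ, (Z1 : G → ℂ) 1 = (Nat.card K : ℂ) * m - γ1 := by
  have hχ := IsIrrCharacter.isCharacter Z1.2
  obtain ⟨m, hm⟩ := IsCharacter.classInner_irr_nat (IsCharacter.restrict K hχ) (oneI K).2
  refine ⟨m, ?_⟩
  rw [restrict_degree h hχ, hm, sum_split hl1 hlb hreal, classInner_Phi_oneI_left,
    D.coef0_Z1]
  have h1 : ∀ ν ∈ Finset.univ.filter (fun ν : IrrCharacter K => barI ν ≠ ν),
      classInner (Phi K ν) (Z1 : G → ℂ) = 0 := by
    intro ν hν
    have hb' : barI ν ≠ ν := (Finset.mem_filter.1 hν).2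
    rw [D.toStar.coef hb', if_neg (fun h2 => D.hZ1.1 h2.symm),
      if_neg (fun h2 => D.hZ1.2.1 h2.symm), if_neg (fun h2 => D.hZ1.2.2 ν hb' h2.symm)]
    ring
  rw [Finset.sum_eq_zero h1]
  ring

theorem Z2_degree (D : Deco K lam0 ε Y X γ1 γ2 Z1 Z2) :
    ∃ m : ℕ, (Z2 : G → ℂ) 1 = (Nat.card K : ℂ) * m - γ2 := by
  have hχ := IsIrrCharacter.isCharacter Z2.2
  obtain ⟨m, hm⟩ := IsCharacter.classInner_irr_nat (IsCharacter.restrict K hχ) (oneI K).2
  refine ⟨m, ?_⟩
  rw [restrict_degree h hχ, hm, sum_split hl1 hlb hreal, classInner_Phi_oneI_left,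
    D.coef0_Z2]
  have h1 : ∀ ν ∈ Finset.univ.filter (fun ν : IrrCharacter K => barI ν ≠ ν),
      classInner (Phi K ν) (Z2 : G → ℂ) = 0 := by
    intro ν hν
    have hb' : barI ν ≠ ν := (Finset.mem_filter.1 hν).2
    rw [D.toStar.coef hb', if_neg (fun h2 => D.hZ2.1 h2.symm),
      if_neg (fun h2 => D.hZ2.2.1 h2.symm), if_neg (fun h2 => D.hZ2.2.2 ν hb' h2.symm)]
    ring
  rw [Finset.sum_eq_zero h1]
  ring

end Deco

end degrees

end Cfsg.Agent.Lib.Helper9.Bsw
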