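import Mathlib
import Cfsg.Agent.Lib.Helper9.BswP
import Cfsg.Agent.Lib.Helper1.BswArith

set_option autoImplicit false
set_option linter.unusedSectionVars false
set_option linter.unusedVariables false
set_option linter.style.longLine false
set_option linter.unusedSimpArgs false

set_option maxHeartbeats 1600000
namespace Cfsg.Agent.Lib.Helper9.Bsw

open Cfsg Cfsg.Agent.Lib.Helper6
open scoped ComplexConjugate
open scoped Classical

section arith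

variable {G : Type*} [Group G] [Fintype G] {t s : G} {K : Subgroup G} [Fintype K]
variable [Fintype (IrrCharacter K)] [Fintype (IrrCharacter G)]
variable {lam0 : IrrCharacter K} {ε : ℂ} {Y : IrrCharacter G}
  {X : IrrCharacter K → IrrCharacter G} {γ1 γ2 : ℂ} {Z1 Z2 : IrrCharacter G}

theorem exists_int_sign {γ : ℂ} (hγ : γ = 1 ∨ γ = -1) :
    ∃ z : ℤ, (z = 1 ∨ z = -1) ∧ (z : ℂ) = γ := by
  rcases hγ with rfl | rfl
  · exact ⟨1, Or.inl rfl, by simp⟩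
  · exact ⟨-1, Or.inr rfl, by simp⟩

variable (h : Hy t s K)
include h

theorem card_G_eq : Nat.card G = 2 * Nat.card K * (Subgroup.centralizer ({t} : Set G)).index := by
  rw [← h.card_H, Subgroup.card_mul_index]

namespace Deco

variable (hl1 : lam0 ≠ oneI K) (hlb : barI lam0 = lam0)
  (hreal : ∀ μ : IrrCharacter K, barI μ = μ → μ = oneI K ∨ μ = lam0)
include hl1 hlb hreal

/-- the numerics of the decomposition -/
theorem arith (D : Deco K lam0 ε Y X γ1 γ2 Z1 Z2) (hk : 4 ≤ Nat.card K)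
    {μ0 : IrrCharacter K} (hb0 : barI μ0 ≠ μ0) :
    ∃ εZ : ℤ, (εZ = 1 ∨ εZ = -1) ∧ (εZ : ℂ) = ε ∧ γ1 = -ε ∧ γ2 = -ε ∧
      ((Subgroup.centralizer ({t} : Set G)).index : ℤ)
        = (2 * (Nat.card K : ℤ) + εZ) * ((Nat.card K : ℤ) + εZ) ∧
      (Y : G → ℂ) 1 = 2 * (Nat.card K : ℂ) + ε ∧
      (∀ μ : IrrCharacter K, barI μ ≠ μ → (X μ : G → ℂ) 1 = 2 * (Nat.card K : ℂ) + 2 * ε) ∧
      (Z1 : G → ℂ) 1 = (Nat.card K : ℂ) + ε ∧ (Z2 : G → ℂ) 1 = (Nat.card K : ℂ) + ε := by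
  obtain ⟨εZ, hεZ, hεZc⟩ := exists_int_sign D.hε
  obtain ⟨g1, hg1, hg1c⟩ := exists_int_sign D.hγ1
  obtain ⟨g2, hg2, hg2c⟩ := exists_int_sign D.hγ2
  obtain ⟨y, hy, hyc⟩ := irr_degree_pos Y
  obtain ⟨x, hx, hxc⟩ := irr_degree_pos (X μ0)
  obtain ⟨z1, hz1, hz1c⟩ := irr_degree_pos Z1
  obtain ⟨z2, hz2, hz2c⟩ := irr_degree_pos Z2
  obtain ⟨nY, hnY⟩ := D.Y_degree h hl1 hlb hreal hb0
  obtain ⟨nX, hnX⟩ := D.X_degree h hl1 hlb hreal hb0
  obtain ⟨m1, hm1⟩ := D.Z1_degree h hl1 hlb hreal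
  obtain ⟨m2, hm2⟩ := D.Z2_degree h hl1 hlb hreal
  set k := Nat.card K with hkdef
  set n := (Subgroup.centralizer ({t} : Set G)).index with hndef
  have hn : 0 < n := by
    rcases Nat.eq_zero_or_pos n with h0 | h0
    · exfalso
      have := card_G_eq h
      rw [← hndef, h0, mul_zero] at this
      exact (Nat.card_pos (α := G)).ne' this
    · exact h0
  have hεε : ε * ε = 1 := D.toStar.ε_mul
  have hg11 : γ1 * γ1 = 1 := D.γ1_mul
  have hg22 : γ2 * γ2 = 1 := D.γ2_mul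
  -- degree relations
  have hD1c : (x : ℂ) = (y : ℂ) + ε := by
    rw [← hxc, ← hyc]; exact D.toStar.degree_rel h hb0
  have hD0c : (1 : ℂ) + ε * y + γ1 * z1 + γ2 * z2 = 0 := by
    have h1 := congrFun D.phi0 1
    rw [Phi_one h] at h1
    simp only [Pi.add_apply, Pi.smul_apply, smul_eq_mul, oneI_apply, hyc, hz1c, hz2c] at h1
    exact h1.symm
  have D1 : 1 + εZ * (y : ℤ) - εZ * (x : ℤ) = 0 := by
    have hx' : (x : ℤ) = (y : ℤ) + εZ := by
      have : ((x : ℤ) : ℂ) = (((y : ℤ) + εZ : ℤ) : ℂ) := by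
        push_cast; rw [hεZc]; exact hD1c
      exact_mod_cast this
    rw [hx']
    rcases hεZ with rfl | rfl <;> ring
  have D0 : 1 + εZ * (y : ℤ) + g1 * (z1 : ℤ) + g2 * (z2 : ℤ) = 0 := by
    have : ((1 + εZ * (y : ℤ) + g1 * (z1 : ℤ) + g2 * (z2 : ℤ) : ℤ) : ℂ) = ((0 : ℤ) : ℂ) := by
      push_cast; rw [hεZc, hg1c, hg2c]; exact hD0c
    exact_mod_cast this
  -- values at t
  have htK : ((tK h : K) : G) = t := rfl
  have hYt : (Y : G → ℂ) t = ε := by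
    have := D.Y_apply h hl1 hlb hreal hb0 (tK h) (tK_ne_one h)
    rwa [htK] at this
  have hXt : (X μ0 : G → ℂ) t * (X μ0 : G → ℂ) t = 4 := by
    have := D.X_apply h hl1 hlb hreal hb0 (tK h) (tK_ne_one h)
    rw [htK, irr_apply_tK_conj] at this
    rw [this]
    have h2 := irr_apply_tK_sq h μ0
    linear_combination 4 * ((μ0 : K → ℂ) (tK h) * (μ0 : K → ℂ) (tK h)) * hεε + 4 * h2
  have hZ1t : (Z1 : G → ℂ) t * (Z1 : G → ℂ) t = 1 := by
    have := D.Z1_apply h hl1 hlb hreal (tK h) (tK_ne_one h)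
    rw [htK] at this
    rw [this]
    have h2 := irr_apply_tK_sq h lam0
    linear_combination ((lam0 : K → ℂ) (tK h) * (lam0 : K → ℂ) (tK h)) * hg11 + h2
  have hZ2t : (Z2 : G → ℂ) t * (Z2 : G → ℂ) t = 1 := by
    have := D.Z2_apply h hl1 hlb hreal (tK h) (tK_ne_one h)
    rw [htK] at this
    rw [this]
    have h2 := irr_apply_tK_sq h lam0
    linear_combination ((lam0 : K → ℂ) (tK h) * (lam0 : K → ℂ) (tK h)) * hg22 + h2
  -- the E-equations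
  have hk0 : (k : ℂ) ≠ 0 := by
    have : 0 < k := by omega
    exact_mod_cast this.ne'
  have hn0 : (n : ℂ) ≠ 0 := by exact_mod_cast hn.ne'
  have hy0 : (y : ℂ) ≠ 0 := by exact_mod_cast hy.ne'
  have hx0 : (x : ℂ) ≠ 0 := by exact_mod_cast hx.ne'
  have hz10 : (z1 : ℂ) ≠ 0 := by exact_mod_cast hz1.ne'
  have hz20 : (z2 : ℂ) ≠ 0 := by exact_mod_cast hz2.ne'
  have hR : 4 * (Nat.card K : ℂ) ^ 3 / (Nat.card G : ℂ) = 2 * (k : ℂ) ^ 2 / (n : ℂ) := by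
    rw [card_G_eq h, ← hndef, ← hkdef]
    push_cast
    field_simp
    ring
  have hE1c : (1 : ℂ) + ε / y - 4 * ε / x = 2 * (k : ℂ) ^ 2 / (n : ℂ) := by
    have e1 := D.toStar.E_star h hb0
    rw [hYt, hXt, hyc, hxc, hR, hεε] at e1
    rw [← e1]
    ring
  have hE0c : (1 : ℂ) + ε / y + γ1 / z1 + γ2 / z2 = 2 * (k : ℂ) ^ 2 / (n : ℂ) := by
    have e0 := D.E0 h hl1
    rw [hYt, hZ1t, hZ2t, hyc, hz1c, hz2c, hR, hεε] at e0
    rw [← e0]
    ring
  have E1 : (1 : ℚ) + εZ / y - 4 * εZ / x = 2 * k ^ 2 / n := by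
    apply Rat.cast_injective (α := ℂ)
    push_cast
    rw [hεZc]
    exact hE1c
  have E0 : (1 : ℚ) + εZ / y + g1 / z1 + g2 / z2 = 2 * k ^ 2 / n := by
    apply Rat.cast_injective (α := ℂ)
    push_cast
    rw [hεZc, hg1c, hg2c]
    exact hE0c
  have Ry : (y : ℤ) = k * nY - (k - 1) * εZ := by
    have : ((y : ℤ) : ℂ) = ((k * nY - (k - 1) * εZ : ℤ) : ℂ) := by
      push_cast; rw [hεZc, ← hyc]; exact hnY
    exact_mod_cast this
  have Rx : (x : ℤ) = k * nX + 2 * εZ := by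
    have : ((x : ℤ) : ℂ) = ((k * nX + 2 * εZ : ℤ) : ℂ) := by
      push_cast; rw [hεZc, ← hxc]; exact hnX
    exact_mod_cast this
  have Rz1 : (z1 : ℤ) = k * m1 - g1 := by
    have : ((z1 : ℤ) : ℂ) = ((k * m1 - g1 : ℤ) : ℂ) := by
      push_cast; rw [hg1c, ← hz1c]; exact hm1
    exact_mod_cast this
  have Rz2 : (z2 : ℤ) = k * m2 - g2 := by
    have : ((z2 : ℤ) : ℂ) = ((k * m2 - g2 : ℤ) : ℂ) := by
      push_cast; rw [hg2c, ← hz2c]; exact hm2
    exact_mod_cast this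
  obtain ⟨r1, r2, r3, r4, r5, r6, r7⟩ := Cfsg.Agent.Lib.Helper1.BswArith.bsw_arith
    k n y x z1 z2 nY nX m1 m2 εZ g1 g2 hk hn hy hx hz1 hz2 hεZ hg1 hg2 D1 D0 E1 E0 Ry Rx Rz1 Rz2
  refine ⟨εZ, hεZ, hεZc, ?_, ?_, r3, ?_, ?_, ?_, ?_⟩
  · rw [← hg1c, ← hεZc, r1]; push_cast; ring
  · rw [← hg2c, ← hεZc, r2]; push_cast; ring
  · rw [hyc, ← hεZc]
    have : ((y : ℤ) : ℂ) = ((2 * k + εZ : ℤ) : ℂ) := by rw [r4]
    push_cast at this
    exact this
  · intro μ hb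
    rw [D.toStar.degree_rel h hb, hyc, ← hεZc]
    have : ((y : ℤ) : ℂ) = ((2 * k + εZ : ℤ) : ℂ) := by rw [r4]
    push_cast at this
    rw [this]; ring
  · rw [hz1c, ← hεZc]
    have : ((z1 : ℤ) : ℂ) = ((k + εZ : ℤ) : ℂ) := by rw [r6]
    push_cast at this
    exact this
  · rw [hz2c, ← hεZc]
    have : ((z2 : ℤ) : ℂ) = ((k + εZ : ℤ) : ℂ) := by rw [r7]
    push_cast at this
    exact this

end Deco

end arith

end Cfsg.Agent.Lib.Helper9.Bsw
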