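import Mathlib
import Cfsg.Agent.Lib.Helper9.BswQ

set_option autoImplicit false
set_option linter.unusedSectionVars false
set_option linter.unusedVariables false
set_option linter.style.longLine false
set_option linter.unusedSimpArgs false

set_option maxHeartbeats 1600000
namespace Cfsg.Agent.Lib.Helper9.Bsw

open Cfsg Cfsg.Agent.Lib.Helper6
open scoped ComplexConjugate
open scoped Classical

section psioff

variable {G : Type*} [Group G] [Fintype G] {t s : G} {K : Subgroup G} [Fintype K]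
variable [Fintype (IrrCharacter K)] [Fintype (IrrCharacter G)]
variable {lam0 : IrrCharacter K} {ε : ℂ} {Y : IrrCharacter G}
  {X : IrrCharacter K → IrrCharacter G} {γ1 γ2 : ℂ} {Z1 Z2 : IrrCharacter G}

variable (h : Hy t s K)
include h

/-- summing over the image of `X` -/
theorem Star.sum_image_X (S : Star K ε Y X) (F : IrrCharacter G → ℂ) :
    ∑ χ ∈ (Finset.univ.filter (fun ν : IrrCharacter K => barI ν ≠ ν)).image X, F χ
      = ∑ μ ∈ Finset.univ.filter (fun ν : IrrCharacter K => barI ν ≠ ν), F (X μ) / 2 := by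
  apply Finset.sum_image'
  intro i hi
  have hb : barI i ≠ i := (Finset.mem_filter.1 hi).2
  rw [Finset.sum_filter]
  have h1 : ∀ j ∈ Finset.univ.filter (fun ν : IrrCharacter K => barI ν ≠ ν),
      (if X j = X i then F (X j) / 2 else 0)
        = if i = j ∨ i = barI j then (fun _ : IrrCharacter K => F (X i) / 2) j else 0 := by
    intro j hj
    have hb' : barI j ≠ j := (Finset.mem_filter.1 hj).2
    by_cases h2 : X j = X i
    · rw [if_pos h2, if_pos ((S.X_eq_iff h hb hb').1 h2.symm), h2]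
    · rw [if_neg h2, if_neg (fun h3 => h2 ((S.X_eq_iff h hb hb').2 h3).symm)]
  rw [Finset.sum_congr rfl h1, sum_nonreal_pair h hb (fun _ => F (X i) / 2)]
  ring

namespace Deco

variable (hl1 : lam0 ≠ oneI K) (hlb : barI lam0 = lam0)
  (hreal : ∀ μ : IrrCharacter K, barI μ = μ → μ = oneI K ∨ μ = lam0)
include hl1 hlb hreal

theorem Y_t (D : Deco K lam0 ε Y X γ1 γ2 Z1 Z2) {μ0 : IrrCharacter K} (hb0 : barI μ0 ≠ μ0) :
    (Y : G → ℂ) t = ε :=
  D.Y_apply h hl1 hlb hreal hb0 (tK h) (tK_ne_one h)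

theorem X_t_sq (D : Deco K lam0 ε Y X γ1 γ2 Z1 Z2) {μ : IrrCharacter K} (hb : barI μ ≠ μ) :
    (X μ : G → ℂ) t * (X μ : G → ℂ) t = 4 := by
  have htK : ((tK h : K) : G) = t := rfl
  have := D.X_apply h hl1 hlb hreal hb (tK h) (tK_ne_one h)
  rw [htK, irr_apply_tK_conj] at this
  rw [this]
  have h2 := irr_apply_tK_sq h μ
  have hεε := D.toStar.ε_mul
  linear_combination 4 * ((μ : K → ℂ) (tK h) * (μ : K → ℂ) (tK h)) * hεε + 4 * h2

theorem Z1_t_sq (D : Deco K lam0 ε Y X γ1 γ2 Z1 Z2) :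
    (Z1 : G → ℂ) t * (Z1 : G → ℂ) t = 1 := by
  have htK : ((tK h : K) : G) = t := rfl
  have := D.Z1_apply h hl1 hlb hreal (tK h) (tK_ne_one h)
  rw [htK] at this
  rw [this]
  have h2 := irr_apply_tK_sq h lam0
  linear_combination ((lam0 : K → ℂ) (tK h) * (lam0 : K → ℂ) (tK h)) * D.γ1_mul + h2

theorem Z2_t_sq (D : Deco K lam0 ε Y X γ1 γ2 Z1 Z2) :
    (Z2 : G → ℂ) t * (Z2 : G → ℂ) t = 1 := by
  have htK : ((tK h : K) : G) = t := rfl
  have := D.Z2_apply h hl1 hlb hreal (tK h) (tK_ne_one h)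
  rw [htK] at this
  rw [this]
  have h2 := irr_apply_tK_sq h lam0
  linear_combination ((lam0 : K → ℂ) (tK h) * (lam0 : K → ℂ) (tK h)) * D.γ2_mul + h2

/-- the sum over all irreducible characters of a function vanishing off the special ones -/
theorem sum_special (D : Deco K lam0 ε Y X γ1 γ2 Z1 Z2) {μ0 : IrrCharacter K}
    (hb0 : barI μ0 ≠ μ0) (F : IrrCharacter G → ℂ)
    (hF : ∀ β : IrrCharacter G, β ≠ oneI G → β ≠ Y →
      (∀ μ : IrrCharacter K, barI μ ≠ μ → β ≠ X μ) → β ≠ Z1 → β ≠ Z2 → F β = 0) :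
    ∑ β, F β = F (oneI G) + F Y + F Z1 + F Z2
      + ∑ μ ∈ Finset.univ.filter (fun ν : IrrCharacter K => barI ν ≠ ν), F (X μ) / 2 := by
  set SX := (Finset.univ.filter (fun ν : IrrCharacter K => barI ν ≠ ν)).image X with hSX
  have hmemSX : ∀ β : IrrCharacter G, β ∈ SX ↔ ∃ μ : IrrCharacter K, barI μ ≠ μ ∧ X μ = β := by
    intro β
    rw [hSX, Finset.mem_image]
    constructor
    · rintro ⟨μ, hμ, rfl⟩; exact ⟨μ, (Finset.mem_filter.1 hμ).2, rfl⟩
    · rintro ⟨μ, hμ, rfl⟩; exact ⟨μ, Finset.mem_filter.2 ⟨Finset.mem_univ _, hμ⟩, rfl⟩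
  have hY1 : Y ≠ oneI G := (D.toStar.Y_ne_one h hb0).1
  have n4 : Z2 ∉ SX := by
    rw [hmemSX]; rintro ⟨μ, hb, h1⟩; exact D.hZ2.2.2 μ hb h1.symm
  have n3 : Z1 ∉ insert Z2 SX := by
    rw [Finset.mem_insert, hmemSX]
    rintro (h1 | ⟨μ, hb, h1⟩)
    · exact D.hZ12 h1
    · exact D.hZ1.2.2 μ hb h1.symm
  have n2 : Y ∉ insert Z1 (insert Z2 SX) := by
    rw [Finset.mem_insert, Finset.mem_insert, hmemSX]
    rintro (h1 | h1 | ⟨μ, hb, h1⟩)
    · exact D.hZ1.2.1 h1.symm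
    · exact D.hZ2.2.1 h1.symm
    · exact D.toStar.Y_ne_X h hb h1.symm
  have n1 : oneI G ∉ insert Y (insert Z1 (insert Z2 SX)) := by
    rw [Finset.mem_insert, Finset.mem_insert, Finset.mem_insert, hmemSX]
    rintro (h1 | h1 | h1 | ⟨μ, hb, h1⟩)
    · exact hY1 h1.symm
    · exact D.hZ1.1 h1.symm
    · exact D.hZ2.1 h1.symm
    · exact (D.toStar.Y_ne_one h hb).2 h1
  have hsub : ∑ β, F β
      = ∑ β ∈ insert (oneI G) (insert Y (insert Z1 (insert Z2 SX))), F β := by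
    symm
    apply Finset.sum_subset (Finset.subset_univ _)
    intro β _ hβ
    simp only [Finset.mem_insert, not_or] at hβ
    obtain ⟨b1, b2, b3, b4, b5⟩ := hβ
    apply hF β b1 b2 _ b3 b4
    intro μ hb h1
    apply b5
    rw [hmemSX]; exact ⟨μ, hb, h1.symm⟩
  rw [hsub, Finset.sum_insert n1, Finset.sum_insert n2, Finset.sum_insert n3,
    Finset.sum_insert n4, D.toStar.sum_image_X h F]
  ring

end Deco

end psioff

end Cfsg.Agent.Lib.Helper9.Bsw
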