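import Mathlib
import Cfsg.Agent.Lib.Helper9.BswR

set_option autoImplicit false
set_option linter.unusedSectionVars false
set_option linter.unusedVariables false
set_option linter.style.longLine false
set_option linter.unusedSimpArgs false

set_option maxHeartbeats 1600000
namespace Cfsg.Agent.Lib.Helper9.Bsw

open Cfsg Cfsg.Agent.Lib.Helper6
open scoped ComplexConjugate
open scoped Classical

section psioff2

variable {G : Type*} [Group G] [Fintype G] {t s : G} {K : Subgroup G} [Fintype K]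
variable [Fintype (IrrCharacter K)] [Fintype (IrrCharacter G)]
variable {lam0 : IrrCharacter K} {ε : ℂ} {Y : IrrCharacter G}
  {X : IrrCharacter K → IrrCharacter G} {γ1 γ2 : ℂ} {Z1 Z2 : IrrCharacter G}

variable (h : Hy t s K)
include h

namespace Deco

variable (hl1 : lam0 ≠ oneI K) (hlb : barI lam0 = lam0)
  (hreal : ∀ μ : IrrCharacter K, barI μ = μ → μ = oneI K ∨ μ = lam0)
include hl1 hlb hreal

/-- the value of `psi` at an element not conjugate into `K` -/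
theorem psi_off (D : Deco K lam0 ε Y X γ1 γ2 Z1 Z2) {μ0 : IrrCharacter K} (hb0 : barI μ0 ≠ μ0)
    (hγ1 : γ1 = -ε) (hγ2 : γ2 = -ε)
    (hY1 : (Y : G → ℂ) 1 = 2 * (Nat.card K : ℂ) + ε)
    (hX1 : ∀ μ : IrrCharacter K, barI μ ≠ μ → (X μ : G → ℂ) 1 = 2 * (Nat.card K : ℂ) + 2 * ε)
    (hZ11 : (Z1 : G → ℂ) 1 = (Nat.card K : ℂ) + ε) (hZ21 : (Z2 : G → ℂ) 1 = (Nat.card K : ℂ) + ε)
    (hG : (Nat.card G : ℂ) = 2 * (Nat.card K : ℂ)
      * ((2 * (Nat.card K : ℂ) + ε) * ((Nat.card K : ℂ) + ε)))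
    (g : G) (hg : ∀ x : G, x⁻¹ * g * x ∉ K) :
    2 * (Nat.card K : ℂ) * (psi g : ℂ)
      = (2 * (Nat.card K : ℂ) + ε) * ((Nat.card K : ℂ) + ε)
        + ((Nat.card K : ℂ) + ε) * conj ((Y : G → ℂ) g)
        + ((Nat.card K : ℂ) - 1) * (2 * (Nat.card K : ℂ) + ε) * (conj ((Y : G → ℂ) g) + ε) := by
  have hεε := D.toStar.ε_mul
  have hεc := D.toStar.conj_ε
  set k : ℂ := (Nat.card K : ℂ) with hkdef
  set v : ℂ := conj ((Y : G → ℂ) g) with hvdef
  have hk0 : k ≠ 0 := card_ne_zero_complex K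
  have hy0 : 2 * k + ε ≠ 0 := by
    rw [← hY1]; exact IsIrrCharacter.apply_one_ne_zero Y.2
  have hz0 : k + ε ≠ 0 := by
    rw [← hZ11]; exact IsIrrCharacter.apply_one_ne_zero Z1.2
  -- values at g
  have hXg : ∀ μ : IrrCharacter K, barI μ ≠ μ → (X μ : G → ℂ) g = (Y : G → ℂ) g + ε := by
    intro μ hb
    have h1 := congrFun (D.star μ hb) g
    rw [Phi_of_not_conj μ g hg] at h1
    simp only [Pi.add_apply, Pi.sub_apply, Pi.smul_apply, smul_eq_mul, oneI_apply] at h1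
    linear_combination ε * h1 + ((Y : G → ℂ) g - (X μ : G → ℂ) g) * hεε
  have hZg : (Z1 : G → ℂ) g + (Z2 : G → ℂ) g = (Y : G → ℂ) g + ε := by
    have h1 := congrFun D.phi0 g
    rw [Phi_of_not_conj lam0 g hg, hγ1, hγ2] at h1
    simp only [Pi.add_apply, Pi.smul_apply, smul_eq_mul, oneI_apply] at h1
    linear_combination ε * h1 + ((Y : G → ℂ) g - (Z1 : G → ℂ) g - (Z2 : G → ℂ) g) * hεε
  have hZgc : conj ((Z1 : G → ℂ) g) + conj ((Z2 : G → ℂ) g) = v + ε := by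
    rw [← map_add, hZg, map_add, hεc]
  have hXgc : ∀ μ : IrrCharacter K, barI μ ≠ μ → conj ((X μ : G → ℂ) g) = v + ε := by
    intro μ hb
    rw [hXg μ hb, map_add, hεc]
  -- the sum
  set F : IrrCharacter G → ℂ := fun χ =>
    (χ : G → ℂ) t * (χ : G → ℂ) t * conj ((χ : G → ℂ) g) / (χ : G → ℂ) 1 with hF
  have hFother : ∀ β : IrrCharacter G, β ≠ oneI G → β ≠ Y →
      (∀ μ : IrrCharacter K, barI μ ≠ μ → β ≠ X μ) → β ≠ Z1 → β ≠ Z2 → F β = 0 := by
    intro β b1 b2 b3 b4 b5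
    have h0 := D.other_apply h hl1 hlb hreal β b1 b2 b3 b4 b5 (tK h) (tK_ne_one h)
    have htK : ((tK h : K) : G) = t := rfl
    rw [htK] at h0
    simp only [hF, h0, zero_mul, zero_div]
  have hsum := D.sum_special h hl1 hlb hreal hb0 F hFother
  have hF1 : F (oneI G) = 1 := by
    simp only [hF, oneI_apply, map_one, mul_one, div_one]
  have hFY : F Y = v / (2 * k + ε) := by
    simp only [hF]
    rw [D.Y_t h hl1 hlb hreal hb0, hY1, hεε, one_mul]
  have hFZ : F Z1 + F Z2 = (v + ε) / (k + ε) := by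
    simp only [hF]
    rw [D.Z1_t_sq h hl1 hlb hreal, D.Z2_t_sq h hl1 hlb hreal, hZ11, hZ21, one_mul, one_mul,
      ← add_div, hZgc]
  have hFX : ∀ μ ∈ Finset.univ.filter (fun ν : IrrCharacter K => barI ν ≠ ν),
      F (X μ) / 2 = (v + ε) / (k + ε) := by
    intro μ hμ
    have hb : barI μ ≠ μ := (Finset.mem_filter.1 hμ).2
    simp only [hF]
    rw [D.X_t_sq h hl1 hlb hreal hb, hX1 μ hb, hXgc μ hb]
    field_simp
    ring
  rw [Finset.sum_congr rfl hFX, Finset.sum_const, nsmul_eq_mul, card_nonreal_cast h,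
    hF1, hFY, add_assoc (1 + v / (2 * k + ε)), hFZ] at hsum
  have hf := psi_formula h g
  have hsumF : ∑ χ : IrrCharacter G,
      (χ : G → ℂ) t * (χ : G → ℂ) t * conj ((χ : G → ℂ) g) / (χ : G → ℂ) 1 = ∑ β, F β := rfl
  rw [hsumF, hsum, hG] at hf
  have h2k : ((2 * Nat.card K : ℕ) : ℂ) = 2 * k := by push_cast; ring
  rw [h2k] at hf
  have hf' : (2 * k) * ((2 * k) * (psi g : ℂ))
      = (2 * k) * ((2 * k + ε) * (k + ε) + (k + ε) * v + (k - 1) * (2 * k + ε) * (v + ε)) := by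
    rw [← mul_assoc, ← pow_two, hf]
    field_simp
    ring
  have h2k0 : (2 * k) ≠ 0 := mul_ne_zero two_ne_zero hk0
  exact mul_left_cancel₀ h2k0 hf'

end Deco

end psioff2

end Cfsg.Agent.Lib.Helper9.Bsw
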