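import Mathlib
import Cfsg.Agent.Lib.Helper9.BswS
import Cfsg.Agent.Lib.Helper6.DegreeDvd

set_option autoImplicit false
set_option linter.unusedSectionVars false
set_option linter.unusedVariables false
set_option linter.style.longLine false
set_option linter.unusedSimpArgs false

set_option maxHeartbeats 1600000
namespace Cfsg.Agent.Lib.Helper9.Bsw

open Cfsg Cfsg.Agent.Lib.Helper6
open scoped ComplexConjugate
open scoped Classical

theorem isIntegral_irr_apply {G : Type*} [Group G] [Finite G] (β : IrrCharacter G) (g : G) :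
    IsIntegral ℤ ((β : G → ℂ) g) := by
  obtain ⟨n, ρ, -, hρ⟩ := β.2
  rw [← hρ]
  exact isIntegral_character ρ g

/-- **Part C of the abstract Brauer-Suzuki-Wall theorem**: the numerics. -/
theorem numerics {G : Type*} [Group G] [Finite G] (t : G) (ht : orderOf t = 2)
    (K : Subgroup G) (hKab : IsMulCommutative ↥K)
    (hKH : K ≤ Subgroup.centralizer ({t} : Set G)) (htK : t ∈ K)
    (s : G) (hs : orderOf s = 2) (hsH : s ∈ Subgroup.centralizer ({t} : Set G)) (hsK : s ∉ K)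
    (hH : K ⊔ Subgroup.zpowers s = Subgroup.centralizer ({t} : Set G))
    (hCK : K ⊓ Subgroup.centralizer ({s} : Set G) = Subgroup.zpowers t)
    (hinv : ∀ x ∈ K, s * x * s⁻¹ = x⁻¹)
    (hTI : ∀ g : G, g ∉ Subgroup.centralizer ({t} : Set G) →
      K ⊓ K.map (MulAut.conj g).toMonoidHom = ⊥)
    (hconj : ∀ x y : G, orderOf x = 2 → orderOf y = 2 → IsConj x y)
    (hk : 4 ≤ Nat.card K) :
    ∃ ε : ℤ, (ε = 1 ∨ ε = -1) ∧
      ((Subgroup.centralizer ({t} : Set G)).index : ℤ)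
        = (2 * (Nat.card K : ℤ) + ε) * ((Nat.card K : ℤ) + ε) ∧
      ∀ g : G, (∀ a : G, a * g * a⁻¹ ∉ K) → ∃ m : ℤ,
        (Nat.card {p : G × G // orderOf p.1 = 2 ∧ orderOf p.2 = 2 ∧ p.1 * p.2 = g} : ℤ)
          = if ε = 1 then 2 * (Nat.card K : ℤ) + 1 + (Nat.card K : ℤ) * m
            else ((Nat.card K : ℤ) - 1) * m := by
  have : Fintype G := Fintype.ofFinite G
  have : Fintype K := Fintype.ofFinite K
  have : Fintype (IrrCharacter K) := Fintype.ofFinite _
  have : Fintype (IrrCharacter G) := Fintype.ofFinite _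
  have h : Hy t s K := by
    refine ⟨ht, ?_, hKH, htK, hs, hsK, hH, hCK, hinv, hTI, hconj⟩
    intro x hx y hy
    have := hKab.is_comm.comm ⟨x, hx⟩ ⟨y, hy⟩
    exact congrArg Subtype.val this
  obtain ⟨lam0, ε, Y, X, γ1, γ2, Z1, Z2, hl1, hlb, hreal, D⟩ := exists_deco h hk
  obtain ⟨μ0, hb0⟩ := exists_nonreal h hk
  obtain ⟨εZ, hεZ, hεZc, hγ1, hγ2, hn, hY1, hX1, hZ11, hZ21⟩ :=
    D.arith h hl1 hlb hreal hk hb0
  refine ⟨εZ, hεZ, hn, ?_⟩
  intro g hg
  have hg' : ∀ x : G, x⁻¹ * g * x ∉ K := by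
    intro x
    have := hg x⁻¹
    rwa [inv_inv] at this
  have hG : (Nat.card G : ℂ) = 2 * (Nat.card K : ℂ)
      * ((2 * (Nat.card K : ℂ) + ε) * ((Nat.card K : ℂ) + ε)) := by
    rw [card_G_eq h]
    have h1 : (((Subgroup.centralizer ({t} : Set G)).index : ℤ) : ℂ)
        = (((2 * (Nat.card K : ℤ) + εZ) * ((Nat.card K : ℤ) + εZ) : ℤ) : ℂ) := by rw [hn]
    push_cast at h1 ⊢
    rw [h1, hεZc]
  have hpsi := D.psi_off h hl1 hlb hreal hb0 hγ1 hγ2 hY1 hX1 hZ11 hZ21 hG g hg'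
  have hv : conj ((Y : G → ℂ) g) = (Y : G → ℂ) g⁻¹ := (irr_inv Y g).symm
  have hvint : IsIntegral ℤ (conj ((Y : G → ℂ) g)) := by
    rw [hv]; exact isIntegral_irr_apply Y g⁻¹
  set v : ℂ := conj ((Y : G → ℂ) g) with hvdef
  set P : ℕ := Nat.card {p : G × G // orderOf p.1 = 2 ∧ orderOf p.2 = 2 ∧ p.1 * p.2 = g} with hP
  have hpsiP : (psi g : ℂ) = (P : ℂ) := rfl
  rw [hpsiP] at hpsi
  have hk0 : (Nat.card K : ℂ) ≠ 0 := card_ne_zero_complex K
  set k : ℕ := Nat.card K with hkdef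
  rcases hεZ with rfl | rfl
  · -- ε = 1
    have hε1 : ε = 1 := by rw [← hεZc]; simp
    rw [hε1] at hpsi
    have hv' : v = (((P : ℚ) - 2 * k - 1) / k : ℚ) := by
      push_cast
      field_simp
      have : 2 * (k : ℂ) * ((P : ℂ) - 2 * k - 1 - v * k) = 0 := by linear_combination hpsi
      rcases mul_eq_zero.1 this with h1 | h1
      · exfalso; exact (mul_ne_zero two_ne_zero hk0) h1
      · linear_combination -h1
    rw [hv'] at hvint
    obtain ⟨m, hm⟩ := int_of_isIntegral_ratCast hvint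
    refine ⟨m, ?_⟩
    rw [if_pos rfl]
    have hkQ : (k : ℚ) ≠ 0 := by
      have : 0 < k := by omega
      exact_mod_cast this.ne'
    have h2 : (P : ℚ) = 2 * k + 1 + k * m := by
      rw [hm]; field_simp; ring
    exact_mod_cast h2
  · -- ε = -1
    have hε1 : ε = -1 := by rw [← hεZc]; simp
    rw [hε1] at hpsi
    have hk1 : ((k : ℂ) - 1) ≠ 0 := by
      have h4 : (4 : ℝ) ≤ (k : ℝ) := by exact_mod_cast hk
      intro h0
      have : (k : ℂ) = 1 := by linear_combination h0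
      have : (k : ℝ) = 1 := by exact_mod_cast this
      linarith
    have hv' : v = ((P : ℚ) / ((k : ℚ) - 1) : ℚ) := by
      push_cast
      field_simp
      have : 2 * (k : ℂ) * ((P : ℂ) - v * (k - 1)) = 0 := by linear_combination hpsi
      rcases mul_eq_zero.1 this with h1 | h1
      · exfalso; exact (mul_ne_zero two_ne_zero hk0) h1
      · linear_combination -h1
    rw [hv'] at hvint
    obtain ⟨m, hm⟩ := int_of_isIntegral_ratCast hvint
    refine ⟨m, ?_⟩
    rw [if_neg (by norm_num)]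
    have hkQ : ((k : ℚ) - 1) ≠ 0 := by
      have h4 : (4 : ℚ) ≤ (k : ℚ) := by exact_mod_cast hk
      intro h0
      linarith
    have h2 : (P : ℚ) = (k - 1) * m := by
      rw [hm]; field_simp
    exact_mod_cast h2

end Cfsg.Agent.Lib.Helper9.Bsw
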