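import Mathlib
import Cfsg.Agent.Lib.Helper1.Nilpotent

set_option autoImplicit false
open scoped commutatorElement

namespace Cfsg.Agent.Lib.Helper9.NG5U06

variable {X : Type*} [Group X] [Finite X]

/-- U06 (socle): a normal subgroup `K` properly above the normal subgroup `N` contains an element
outside `N` which is central of order 2 modulo `N`. -/
theorem socle (hX : IsPGroup 2 X) (N K : Subgroup X) (hN : N.Normal) (hK : K.Normal)
    (hNK : N ≤ K) (hne : ¬ K ≤ N) : ∃ x ∈ K, x ∉ N ∧ x ^ 2 ∈ N ∧ ∀ g : X, ⁅x, g⁆ ∈ N := by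
  haveI := hN
  haveI := hK
  have hQ : IsPGroup 2 (X ⧸ N) := hX.to_quotient N
  haveI : Group.IsNilpotent (X ⧸ N) := hQ.isNilpotent
  let Kb : Subgroup (X ⧸ N) := K.map (QuotientGroup.mk' N)
  haveI : Kb.Normal := Subgroup.Normal.map hK _ (QuotientGroup.mk'_surjective N)
  have hKb : Kb ≠ ⊥ := by
    intro h
    apply hne
    intro k hk
    have : (QuotientGroup.mk' N k) ∈ Kb := ⟨k, hk, rfl⟩
    rw [h, Subgroup.mem_bot] at this
    exact (QuotientGroup.eq_one_iff k).mp this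
  have hmeet := Cfsg.Agent.Lib.Helper1.normal_inf_center_ne_bot Kb hKb
  obtain ⟨⟨q, hq⟩, hq1⟩ := (Subgroup.ne_bot_iff_exists_ne_one).mp hmeet
  have hq1' : q ≠ 1 := fun h => hq1 (Subtype.ext h)
  -- order of q is 2^j with j ≥ 1
  obtain ⟨k, hk⟩ := hQ q
  obtain ⟨j, hjk, hj⟩ := (Nat.dvd_prime_pow Nat.prime_two).mp (orderOf_dvd_of_pow_eq_one hk)
  have hj1 : j ≠ 0 := by
    intro h0
    rw [h0, pow_zero, orderOf_eq_one_iff] at hj
    exact hq1' hj
  obtain ⟨i, rfl⟩ := Nat.exists_eq_succ_of_ne_zero hj1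
  set q' := q ^ (2 ^ i) with hq'
  have hq'2 : q' ^ 2 = 1 := by
    rw [hq', ← pow_mul, ← pow_succ, ← hj]
    exact pow_orderOf_eq_one q
  have hq'1 : q' ≠ 1 := by
    apply pow_ne_one_of_lt_orderOf (by positivity)
    rw [hj]
    exact Nat.pow_lt_pow_right (by norm_num) (Nat.lt_succ_self i)
  have hq'mem : q' ∈ Kb ⊓ Subgroup.center (X ⧸ N) := Subgroup.pow_mem _ hq _
  rw [Subgroup.mem_inf] at hq'mem
  obtain ⟨⟨x, hxK, hxq⟩, hcen⟩ := hq'mem
  refine ⟨x, hxK, ?_, ?_, ?_⟩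
  · intro hxN
    apply hq'1
    rw [← hxq]
    exact (QuotientGroup.eq_one_iff x).mpr hxN
  · rw [← QuotientGroup.eq_one_iff, QuotientGroup.mk_pow]
    have : ((x : X) : X ⧸ N) = q' := hxq
    rw [this]; exact hq'2
  · intro g
    rw [← QuotientGroup.eq_one_iff]
    have h1 : ((⁅x, g⁆ : X) : X ⧸ N) = ⁅(x : X ⧸ N), (g : X ⧸ N)⁆ := by
      simp [commutatorElement_def]
    rw [h1]
    have : ((x : X) : X ⧸ N) = q' := hxq
    rw [this, commutatorElement_eq_one_iff_commute]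
    exact (Subgroup.mem_center_iff.mp hcen (g : X ⧸ N)).symm

end Cfsg.Agent.Lib.Helper9.NG5U06
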