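import Mathlib
import Cfsg.Agent.Lib.Helper8.CSGDefs

/-! S4257 piece P4: `x` centralizes the normal subgroup `K`, so `x ^ |K|` is central. -/

set_option autoImplicit false
set_option maxHeartbeats 4000000
set_option linter.unusedVariables false
set_option linter.unusedSectionVars false
set_option linter.style.longLine false

namespace Cfsg.Agent.Lib.Helper8.CSG

/-- For `N` normal, `|N : N ∩ D|` divides `|G : D|`. -/
theorem h9_csg_relIndex_dvd_index {G : Type*} [Group G] [Finite G]
    (D N : Subgroup G) [N.Normal] : D.relIndex N ∣ D.index := by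
  have h1 : (D ⊓ N).relIndex N * N.index = (D ⊓ N).index :=
    Subgroup.relIndex_mul_index inf_le_right
  have h2 : (D ⊓ N).relIndex D * D.index = (D ⊓ N).index :=
    Subgroup.relIndex_mul_index inf_le_left
  rw [Subgroup.inf_relIndex_right] at h1
  rw [Subgroup.inf_relIndex_left] at h2
  have h3 : N.relIndex (N ⊔ D) * (N ⊔ D).index = N.index :=
    Subgroup.relIndex_mul_index le_sup_left
  rw [Subgroup.relIndex_sup_left] at h3
  have hpos : 0 < N.relIndex D :=
    Nat.pos_of_ne_zero (Subgroup.index_ne_zero_of_finite (H := N.subgroupOf D))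
  refine ⟨(N ⊔ D).index, ?_⟩
  apply Nat.eq_of_mul_eq_mul_left hpos
  rw [h2, ← h1, ← h3]; ring

variable {G : Type*} [Group G] [Finite G]

theorem pow_card_mem_center {x : G} (K : Subgroup G) [K.Normal]
    (hK : (Nat.card K).Coprime (idx x)) (hx : ∀ g : G, x⁻¹ * (g * x * g⁻¹) ∈ K) :
    x ^ Nat.card K ∈ Subgroup.center G := by
  have h1 : (Subgroup.centralizer ({x} : Set G)).relIndex K ∣ idx x :=
    h9_csg_relIndex_dvd_index _ K
  have h2 : (Subgroup.centralizer ({x} : Set G)).relIndex K ∣ Nat.card K :=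
    Subgroup.relIndex_dvd_card _ K
  have h3 : (Subgroup.centralizer ({x} : Set G)).relIndex K = 1 :=
    Nat.eq_one_of_dvd_coprimes hK h2 h1
  have hle : K ≤ Subgroup.centralizer ({x} : Set G) := Subgroup.relIndex_eq_one.mp h3
  rw [Subgroup.mem_center_iff]
  intro g
  have hc := hx g
  have hcx : Commute x (x⁻¹ * (g * x * g⁻¹)) := by
    have := Subgroup.mem_centralizer_singleton_iff.mp (hle hc)
    exact this.symm
  have hpow : (x⁻¹ * (g * x * g⁻¹)) ^ Nat.card K = 1 := by
    have := pow_card_eq_one' (G := K) (x := ⟨_, hc⟩)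
    exact congrArg Subtype.val this
  have e1 : g * x * g⁻¹ = x * (x⁻¹ * (g * x * g⁻¹)) := by group
  have e2 : g * x ^ Nat.card K * g⁻¹ = x ^ Nat.card K := by
    rw [← conj_pow, e1, hcx.mul_pow, hpow, mul_one]
  calc g * x ^ Nat.card K = g * x ^ Nat.card K * g⁻¹ * g := by group
    _ = x ^ Nat.card K * g := by rw [e2]

end Cfsg.Agent.Lib.Helper8.CSG
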