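import Mathlib
import Cfsg.Agent.Lib.Helper8.CSGDefs
import Cfsg.Agent.Lib.Helper7.IT1

/-! S4257 piece P6: Sylow pieces. -/

set_option autoImplicit false
set_option maxHeartbeats 4000000
set_option linter.unusedVariables false
set_option linter.unusedSectionVars false
set_option linter.style.longLine false

namespace Cfsg.Agent.Lib.Helper8.CSG

variable {G : Type*} [Group G] [Finite G]

/-- A subgroup of index prime to `r` contains a conjugate of every Sylow `r`-subgroup. -/
theorem h9_csg_sylow_conj_le {r : ℕ} [Fact r.Prime] (H : Subgroup G) (R : Sylow r G)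
    (hH : ¬ r ∣ H.index) : ∃ g : G, ∀ x ∈ (R : Subgroup G), g⁻¹ * x * g ∈ H := by
  classical
  have hR : IsPGroup r (R : Subgroup G) := R.isPGroup'
  have hcard : ¬ r ∣ Nat.card (G ⧸ H) := by
    rw [← Subgroup.index_eq_card]; exact hH
  obtain ⟨q, hq⟩ := hR.nonempty_fixed_point_of_prime_not_dvd_card (G ⧸ H) hcard
  obtain ⟨g, rfl⟩ := QuotientGroup.mk_surjective q
  refine ⟨g, fun x hx => ?_⟩
  have h1 := hq ⟨x, hx⟩
  have h2 : ((x * g : G) : G ⧸ H) = (g : G ⧸ H) := h1
  have h3 := (QuotientGroup.eq (s := H)).mp h2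
  have h4 := H.inv_mem h3
  have e : ((x * g)⁻¹ * g)⁻¹ = g⁻¹ * x * g := by group
  rwa [e] at h4

theorem not_dvd_idx_of_central_elts {v : ℕ} (hv : v.Prime) {u : G} (hvu : ¬ v ∣ idx u)
    (hcent : ∀ g : G, Commute u g → (∃ k : ℕ, g ^ v ^ k = 1) → g ∈ Subgroup.center G) (h : G) :
    ¬ v ∣ idx h := by
  classical
  have hvf : Fact v.Prime := ⟨hv⟩
  obtain ⟨R⟩ : Nonempty (Sylow v G) := inferInstance
  obtain ⟨g, hg⟩ := h9_csg_sylow_conj_le (Subgroup.centralizer ({u} : Set G)) R hvu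
  have hRZ : (R : Subgroup G) ≤ Subgroup.center G := by
    intro x hx
    have h1 := hg x hx
    have hcomm : Commute u (g⁻¹ * x * g) :=
      (Subgroup.mem_centralizer_singleton_iff.mp h1).symm
    obtain ⟨k, hk⟩ := (IsPGroup.iff_orderOf.mp R.isPGroup') ⟨x, hx⟩
    have hxk : x ^ v ^ k = 1 := by
      have h2 : orderOf x = v ^ k := by rw [← hk, Subgroup.orderOf_mk]
      rw [← h2]; exact pow_orderOf_eq_one x
    have hpow : (g⁻¹ * x * g) ^ v ^ k = 1 := by
      have e : g⁻¹ * x * g = g⁻¹ * x * g⁻¹⁻¹ := by rw [inv_inv]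
      rw [e, conj_pow, hxk, mul_one, inv_inv, inv_mul_cancel]
    have hz := hcent _ hcomm ⟨k, hpow⟩
    have hz2 := (Subgroup.center G).normal_of_characteristic.conj_mem _ hz g
    have e2 : g * (g⁻¹ * x * g) * g⁻¹ = x := by group
    rwa [e2] at hz2
  have hle : (R : Subgroup G) ≤ Subgroup.centralizer ({h} : Set G) :=
    hRZ.trans (Subgroup.center_le_centralizer _)
  have hdvd : idx h ∣ (R : Subgroup G).index := Subgroup.index_dvd_of_le hle
  intro hcon
  exact R.not_dvd_index (hcon.trans hdvd)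

theorem exists_prime_to_part {v n : ℕ} (hv : v.Prime) (hvn : ¬ v ∣ n) {x : G}
    (hx : x ^ n ∈ Subgroup.center G) :
    ∃ u : G, ¬ v ∣ orderOf u ∧
      Subgroup.centralizer ({u} : Set G) = Subgroup.centralizer ({x} : Set G) := by
  obtain ⟨a, m, hm, hem⟩ := Nat.exists_eq_pow_mul_and_not_dvd (orderOf_pos x).ne' v hv.ne_one
  have hm0 : 0 < m := by
    rcases Nat.eq_zero_or_pos m with h0 | h0
    · rw [h0, mul_zero] at hem; exact absurd hem (orderOf_pos x).ne'
    · exact h0
  have hva0 : 0 < v ^ a := pow_pos hv.pos a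
  have hd1 : v ^ a ∣ orderOf x := by rw [hem]; exact dvd_mul_right _ _
  have hd2 : m ∣ orderOf x := by rw [hem]; exact dvd_mul_left _ _
  have ho1 : orderOf (x ^ (v ^ a)) = m := by
    rw [orderOf_pow_of_dvd hva0.ne' hd1, hem, Nat.mul_div_cancel_left _ hva0]
  have ho2 : orderOf (x ^ m) = v ^ a := by
    rw [orderOf_pow_of_dvd hm0.ne' hd2, hem, Nat.mul_div_cancel _ hm0]
  -- `w = x ^ m` is central
  have hwn : (x ^ m) ^ n ∈ Subgroup.center G := by
    have : (x ^ m) ^ n = (x ^ n) ^ m := by rw [← pow_mul, ← pow_mul, mul_comm]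
    rw [this]; exact Subgroup.pow_mem _ hx m
  have hcop : Nat.Coprime n (orderOf (x ^ m)) := by
    rw [ho2]
    exact Nat.Coprime.pow_right _ ((Nat.Prime.coprime_iff_not_dvd hv).mpr hvn).symm
  obtain ⟨s, hs⟩ := exists_pow_eq_self_of_coprime hcop
  have hw : x ^ m ∈ Subgroup.center G := by
    rw [← hs]; exact Subgroup.pow_mem _ hwn s
  refine ⟨x ^ (v ^ a), by rw [ho1]; exact hm, ?_⟩
  apply le_antisymm
  · intro c hc
    rw [Subgroup.mem_centralizer_singleton_iff] at hc ⊢
    have c1 : Commute c (x ^ (v ^ a)) := hc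
    have c2 : Commute c (x ^ m) := Subgroup.mem_center_iff.mp hw c
    have hvm : Nat.Coprime (v ^ a) m :=
      Nat.Coprime.pow_left a ((Nat.Prime.coprime_iff_not_dvd hv).mpr hm)
    exact (Cfsg.Agent.Lib.Helper7.IT.commute_of_coprime_pows hvm c1 c2)
  · intro c hc
    rw [Subgroup.mem_centralizer_singleton_iff] at hc ⊢
    have c1 : Commute c x := hc
    exact (c1.pow_right _)

end Cfsg.Agent.Lib.Helper8.CSG
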