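import Mathlib
import Cfsg.Agent.Lib.Helper1.PSGDefs
import Cfsg.Agent.Lib.Helper4.CSGConj
import Cfsg.Agent.Lib.Helper7.CSGPowC
import Cfsg.Agent.Lib.Helper7.CSGStab
import Cfsg.Agent.Lib.Helper9.CSGPow
import Cfsg.Agent.Lib.Helper9.CSGSylow
import Cfsg.Agent.Lib.Helper8.CSGAsym
import Cfsg.Agent.Lib.Helper8.NCSComp

/-! S4321 piece P0b (PSGBasicB): `p`-elements. -/

set_option autoImplicit false
set_option linter.unusedVariables false
set_option linter.unusedSectionVars false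
set_option linter.style.longLine false

namespace Cfsg.Agent.Lib.Helper1.PSG

open Cfsg.Agent.Lib.Helper8.CSG

variable {G : Type*} [Group G] [Finite G]

/-! ### P0b (PSGBasicB): `p`-elements -/

theorem exists_decomp (p : ℕ) [Fact p.Prime] (x : G) :
    ∃ u w : G, x = u * w ∧ Commute u w ∧ PElt p u ∧ ¬ p ∣ orderOf w ∧
      u ∈ Subgroup.zpowers x ∧ w ∈ Subgroup.zpowers x ∧ (p ∣ orderOf x → u ≠ 1) := by
  have hp : p.Prime := Fact.out
  obtain ⟨u1, u2, h1, h2, hx, hk, hco⟩ := Cfsg.Agent.Lib.Helper3.NCS.h8_rdecomp p x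
  have hnd : ¬ p ∣ orderOf u2 := by
    rw [← Nat.Prime.coprime_iff_not_dvd hp]
    exact hco.symm
  refine ⟨u1, u2, hx, ?_, hk, hnd, h1, h2, ?_⟩
  · obtain ⟨i, hi⟩ := h1
    obtain ⟨j, hj⟩ := h2
    rw [← hi, ← hj]
    exact (Commute.refl x).zpow_zpow i j
  · intro hpx hu1
    apply hnd
    have : x = u2 := by rw [hx, hu1, one_mul]
    rw [← this]
    exact hpx

omit [Finite G] in
theorem h9_psg_isPGroup_zpowers {p : ℕ} [Fact p.Prime] {v : G} (hv : PElt p v) :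
    IsPGroup p (Subgroup.zpowers v) := by
  obtain ⟨k, hk⟩ := hv
  intro g
  obtain ⟨g, hg⟩ := g
  obtain ⟨i, hi⟩ := Subgroup.mem_zpowers_iff.mp hg
  refine ⟨k, ?_⟩
  apply Subtype.ext
  show g ^ p ^ k = 1
  rw [← hi, ← zpow_natCast, ← zpow_mul, mul_comm, zpow_mul, zpow_natCast, hk, one_zpow]

theorem exists_conj_commute {p : ℕ} [Fact p.Prime] {u v : G} (hpu : ¬ p ∣ idx u) (hv : PElt p v) :
    ∃ g : G, Commute u (g * v * g⁻¹) := by
  have hpg : IsPGroup p (Subgroup.zpowers v) := h9_psg_isPGroup_zpowers hv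
  obtain ⟨P, hP⟩ := hpg.exists_le_sylow
  obtain ⟨g0, hg0⟩ := h9_csg_sylow_conj_le (Subgroup.centralizer ({u} : Set G)) P hpu
  refine ⟨g0⁻¹, ?_⟩
  have h1 := hg0 v (hP (Subgroup.mem_zpowers v))
  rw [inv_inv]
  exact (Subgroup.mem_centralizer_singleton_iff.mp h1).symm

theorem pelt_mul {p : ℕ} {u v : G} (hu : PElt p u) (hv : PElt p v) (hc : Commute u v) :
    PElt p (u * v) := by
  obtain ⟨k, hk⟩ := hu
  obtain ⟨l, hl⟩ := hv
  refine ⟨k + l, ?_⟩
  rw [hc.mul_pow, pow_add, pow_mul, hk, one_pow, one_mul, mul_comm (p ^ k), pow_mul, hl, one_pow]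

theorem pelt_conj {p : ℕ} {v : G} (hv : PElt p v) (g : G) : PElt p (g * v * g⁻¹) := by
  obtain ⟨k, hk⟩ := hv
  exact ⟨k, by rw [conj_pow, hk, mul_one, mul_inv_cancel]⟩

theorem dvd_orderOf_of_pelt {p : ℕ} [Fact p.Prime] {u : G} (hu : PElt p u) (h1 : u ≠ 1) :
    p ∣ orderOf u := by
  obtain ⟨k, hk⟩ := hu
  have h2 : orderOf u ∣ p ^ k := orderOf_dvd_of_pow_eq_one hk
  obtain ⟨j, _, hj⟩ := (Nat.dvd_prime_pow Fact.out).mp h2
  rcases Nat.eq_zero_or_pos j with h0 | h0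
  · exfalso
    apply h1
    rw [h0, pow_zero] at hj
    exact orderOf_eq_one_iff.mp hj
  · rw [hj]
    exact dvd_pow_self p h0.ne'

theorem sing_mul {p : ℕ} [Fact p.Prime] {u b : G} (hu : PElt p u) (h1 : u ≠ 1)
    (hb : ¬ p ∣ orderOf b) (hc : Commute u b) :
    p ∣ orderOf (u * b) ∧ (orderOf u).Coprime (orderOf b) := by
  have hp : p.Prime := Fact.out
  have hpu : p ∣ orderOf u := dvd_orderOf_of_pelt hu h1
  obtain ⟨k, hk⟩ := hu
  have h2 : orderOf u ∣ p ^ k := orderOf_dvd_of_pow_eq_one hk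
  obtain ⟨j, _, hj⟩ := (Nat.dvd_prime_pow hp).mp h2
  have hco : (orderOf u).Coprime (orderOf b) := by
    rw [hj]
    apply Nat.Coprime.pow_left
    exact (Nat.Prime.coprime_iff_not_dvd hp).mpr hb
  refine ⟨?_, hco⟩
  rw [hc.orderOf_mul_eq_mul_orderOf_of_coprime hco]
  exact hpu.mul_right _

theorem mem_zpowers_mul_of_coprime {u w : G} (hc : Commute u w)
    (ho : (orderOf u).Coprime (orderOf w)) :
    u ∈ Subgroup.zpowers (u * w) ∧ w ∈ Subgroup.zpowers (u * w) := by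
  obtain ⟨a, ha⟩ := exists_pow_eq_self_of_coprime (x := u) ho.symm
  obtain ⟨b, hb⟩ := exists_pow_eq_self_of_coprime (x := w) ho
  have hu' : (u * w) ^ (orderOf w * a) = u := by
    rw [pow_mul, hc.mul_pow, pow_orderOf_eq_one, mul_one, ha]
  have hw' : (u * w) ^ (orderOf u * b) = w := by
    rw [pow_mul, hc.mul_pow, pow_orderOf_eq_one, one_mul, hb]
  constructor
  · have h := Subgroup.pow_mem _ (Subgroup.mem_zpowers (u * w)) (orderOf w * a)
    rw [hu'] at h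
    exact h
  · have h := Subgroup.pow_mem _ (Subgroup.mem_zpowers (u * w)) (orderOf u * b)
    rw [hw'] at h
    exact h

theorem pelt_of_mem_sylow {p : ℕ} [Fact p.Prime] (P : Sylow p G) {g : G}
    (hg : g ∈ (P : Subgroup G)) : PElt p g := by
  obtain ⟨k, hk⟩ := (IsPGroup.iff_orderOf.mp P.isPGroup') ⟨g, hg⟩
  refine ⟨k, ?_⟩
  have h2 : orderOf g = p ^ k := by rw [← hk, Subgroup.orderOf_mk]
  rw [← h2]; exact pow_orderOf_eq_one g

theorem mem_normal_sylow {p : ℕ} [Fact p.Prime] (P : Sylow p G) (hP : (P : Subgroup G).Normal)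
    {g : G} (hg : PElt p g) : g ∈ (P : Subgroup G) := by
  have hpg : IsPGroup p (Subgroup.zpowers g) := h9_psg_isPGroup_zpowers hg
  obtain ⟨Q, hQ⟩ := hpg.exists_le_sylow
  obtain ⟨c, hc⟩ := MulAction.exists_smul_eq G P Q
  have hPQ : Q = P := by
    rw [← hc]
    exact Sylow.smul_eq_of_normal
  rw [← hPQ]
  exact hQ (Subgroup.mem_zpowers g)

end Cfsg.Agent.Lib.Helper1.PSG
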