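import Mathlib
import Cfsg.Agent.Lib.Helper3.NMDefs
import Cfsg.Agent.Lib.Helper3.ConjCover
import Cfsg.Agent.Lib.Helper4.CSGConj
import Cfsg.Agent.Lib.Helper9.CSGSylow
import Cfsg.Agent.Lib.Helper9.PSGBasicB
import Cfsg.Agent.Lib.Helper1.PSGBasicA

/-! S4146 piece P0 (NMBasic): basic facts. -/

set_option autoImplicit false
set_option maxHeartbeats 4000000
set_option linter.unusedVariables false
set_option linter.unusedSectionVars false
set_option linter.style.longLine false
set_option linter.style.haveILetI false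

namespace Cfsg.Agent.Lib.Helper3.NM

open Cfsg.Agent.Lib.Helper8.CSG Cfsg.Agent.Lib.Helper1.PSG

variable {G : Type*} [Group G] [Finite G]

/-- P0a -/
theorem idx_of_dvd_left {n m : ℕ} (h : Hyp G n m) {g : G} (hg : idx g ∣ n) :
    idx g = 1 ∨ idx g = n := by
  have hn := h.hn
  have hm := h.hm
  rcases h.mem g with h1 | h1 | h1 | h1
  · exact Or.inl h1
  · exact Or.inr h1
  · exfalso
    rw [h1] at hg
    have h2 : m ∣ Nat.gcd n m := Nat.dvd_gcd hg dvd_rfl
    rw [h.cop] at h2
    have := Nat.dvd_one.mp h2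
    omega
  · exfalso
    rw [h1] at hg
    have h2 : m ∣ n := (dvd_mul_left m n).trans hg
    have h3 : m ∣ Nat.gcd n m := Nat.dvd_gcd h2 dvd_rfl
    rw [h.cop] at h3
    have := Nat.dvd_one.mp h3
    omega

/-- P0b -/
theorem idx_of_dvd_right {n m : ℕ} (h : Hyp G n m) {g : G} (hg : idx g ∣ m) :
    idx g = 1 ∨ idx g = m :=
  idx_of_dvd_left h.symm hg

/-- P0c: an `s`-element with `s` prime to `n` and `m` is central. -/
theorem mem_center_of_pelt {n m : ℕ} (h : Hyp G n m) {s : ℕ} (hs : s.Prime) (hsn : ¬ s ∣ n)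
    (hsm : ¬ s ∣ m) {g : G} (hg : PElt s g) : g ∈ Subgroup.center G := by
  haveI : Fact s.Prime := ⟨hs⟩
  have hidx : ∀ x : G, ¬ s ∣ idx x := by
    intro x hx
    rcases h.mem x with h1 | h1 | h1 | h1
    · rw [h1] at hx; exact hs.one_lt.ne' (Nat.dvd_one.mp hx)
    · rw [h1] at hx; exact hsn hx
    · rw [h1] at hx; exact hsm hx
    · rw [h1] at hx
      rcases (Nat.Prime.dvd_mul hs).mp hx with h2 | h2
      · exact hsn h2
      · exact hsm h2
  have hpg : IsPGroup s (Subgroup.zpowers g) := h9_psg_isPGroup_zpowers hg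
  obtain ⟨S, hS⟩ := hpg.exists_le_sylow
  have htop : Subgroup.centralizer ((S : Subgroup G) : Set G) = ⊤ := by
    apply Cfsg.Agent.Lib.Helper3.eq_top_of_conj_cover
    intro y
    obtain ⟨a, ha⟩ := h9_csg_sylow_conj_le (Subgroup.centralizer ({y} : Set G)) S (hidx y)
    refine ⟨a⁻¹, ?_⟩
    rw [Subgroup.mem_centralizer_iff]
    intro x hx
    have h1 := ha x hx
    rw [Subgroup.mem_centralizer_singleton_iff] at h1
    -- h1 : a⁻¹ * x * a * y = y * (a⁻¹ * x * a)
    rw [inv_inv]
    have h2 : a⁻¹ * x * a * y = y * (a⁻¹ * x * a) := h1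
    calc x * (a * y * a⁻¹) = a * (a⁻¹ * x * a * y) * a⁻¹ := by group
      _ = a * (y * (a⁻¹ * x * a)) * a⁻¹ := by rw [h2]
      _ = a * y * a⁻¹ * x := by group
  rw [Subgroup.mem_center_iff]
  intro x
  have hx : x ∈ Subgroup.centralizer ((S : Subgroup G) : Set G) := by rw [htop]; trivial
  rw [Subgroup.mem_centralizer_iff] at hx
  exact (hx g (hS (Subgroup.mem_zpowers g))).symm

/-- P0d: an element lies in a subgroup as soon as all its prime-power-order powers do. -/
theorem mem_of_primary (C : Subgroup G) (y : G)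
    (hC : ∀ (s : ℕ) (d : G), s.Prime → PElt s d → d ∈ Subgroup.zpowers y → d ∈ C) : y ∈ C := by
  induction hk : orderOf y using Nat.strong_induction_on generalizing y with
  | _ k ih =>
    by_cases h1 : k = 1
    · rw [h1] at hk
      rw [orderOf_eq_one_iff.mp hk]
      exact C.one_mem
    · have hkpos : 0 < k := by rw [← hk]; exact orderOf_pos y
      obtain ⟨p, hp, hpk⟩ := Nat.exists_prime_and_dvd h1
      haveI : Fact p.Prime := ⟨hp⟩
      obtain ⟨u, w, hy, hcomm, hu, hw, huz, hwz, hu1⟩ := exists_decomp p y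
      have huC : u ∈ C := hC p u hp hu huz
      have hwk : orderOf w < k := by
        have hdvd : orderOf w ∣ k := by
          rw [← hk]
          exact orderOf_dvd_of_mem_zpowers hwz
        have hle := Nat.le_of_dvd hkpos hdvd
        rcases Nat.lt_or_ge (orderOf w) k with hlt | hge
        · exact hlt
        · exfalso
          have : orderOf w = k := le_antisymm hle hge
          rw [this] at hw
          exact hw hpk
      have hwC : w ∈ C := by
        apply ih (orderOf w) hwk w _ rfl
        intro s d hs hd hdz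
        apply hC s d hs hd
        exact (Subgroup.zpowers_le.mpr hwz) hdz
      rw [hy]
      exact C.mul_mem huC hwC

/-- P0e -/
theorem exists_primary_noncentral {g : G} (hg : g ∉ Subgroup.center G) :
    ∃ (s : ℕ) (d : G), s.Prime ∧ PElt s d ∧ d ∈ Subgroup.zpowers g ∧ d ∉ Subgroup.center G := by
  by_contra hno
  push Not at hno
  exact hg (mem_of_primary (Subgroup.center G) g (fun s d hs hd hdz => hno s d hs hd hdz))

/-- P0f (max class size) -/
theorem cent_le_of_max {n m : ℕ} (h : Hyp G n m) {s : ℕ} (hs : s.Prime) {g : G} (hg : PElt s g)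
    (hgi : idx g = n * m) {u : G} (hu : Commute g u) (hus : ¬ s ∣ orderOf u) :
    Subgroup.centralizer ({g} : Set G) ≤ Subgroup.centralizer ({u} : Set G) := by
  haveI : Fact s.Prime := ⟨hs⟩
  -- coprime orders
  obtain ⟨k, hk⟩ := hg
  have h2 : orderOf g ∣ s ^ k := orderOf_dvd_of_pow_eq_one hk
  obtain ⟨j, _, hj⟩ := (Nat.dvd_prime_pow hs).mp h2
  have hco : (orderOf g).Coprime (orderOf u) := by
    rw [hj]
    apply Nat.Coprime.pow_left
    exact (Nat.Prime.coprime_iff_not_dvd hs).mpr hus
  obtain ⟨hgz, huz⟩ := mem_zpowers_mul_of_coprime hu hco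
  have hpow : ∀ z : G, z ∈ Subgroup.zpowers (g * u) →
      Subgroup.centralizer ({g * u} : Set G) ≤ Subgroup.centralizer ({z} : Set G) := by
    intro z hz c hc
    rw [Subgroup.mem_centralizer_singleton_iff] at hc ⊢
    obtain ⟨i, hi⟩ := Subgroup.mem_zpowers_iff.mp hz
    have hcomm : Commute c (g * u) := hc
    rw [← hi]
    exact (hcomm.zpow_right i)
  have hle1 := hpow g hgz
  have hle2 := hpow u huz
  -- indices
  have hdvd : idx g ∣ idx (g * u) := Subgroup.index_dvd_of_le hle1
  have hmax : idx (g * u) ≤ n * m := by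
    have hn := h.hn
    have hm := h.hm
    rcases h.mem (g * u) with h1 | h1 | h1 | h1
    · rw [h1]; nlinarith
    · rw [h1]; nlinarith
    · rw [h1]; nlinarith
    · rw [h1]
  have hpos : 0 < idx (g * u) := Nat.pos_of_ne_zero Subgroup.index_ne_zero_of_finite
  have heq : idx (g * u) = idx g := by
    have := Nat.le_of_dvd hpos hdvd
    rw [hgi] at this ⊢
    omega
  have hrel : (Subgroup.centralizer ({g * u} : Set G)).relIndex (Subgroup.centralizer ({g} : Set G)) = 1 := by
    have h3 := Subgroup.relIndex_mul_index hle1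
    have h4 : (Subgroup.centralizer ({g * u} : Set G)).index = (Subgroup.centralizer ({g} : Set G)).index := heq
    rw [h4] at h3
    have hpos' : 0 < (Subgroup.centralizer ({g} : Set G)).index :=
      Nat.pos_of_ne_zero Subgroup.index_ne_zero_of_finite
    exact Nat.eq_of_mul_eq_mul_right hpos' (by rw [h3, one_mul])
  have hle3 : Subgroup.centralizer ({g} : Set G) ≤ Subgroup.centralizer ({g * u} : Set G) :=
    Subgroup.relIndex_eq_one.mp hrel
  exact hle3.trans hle2

end Cfsg.Agent.Lib.Helper3.NM
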