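import Mathlib
import Cfsg.Agent.Lib.Helper5.OS.Defs

set_option autoImplicit false
set_option linter.unusedSectionVars false
set_option linter.unusedVariables false
set_option linter.unusedSimpArgs false
set_option linter.style.haveILetI false
set_option linter.style.longLine false
set_option maxHeartbeats 1000000

/-! # S3421 piece P1: the cyclic Hall subgroup `M` of order `m` and its dihedral normalizer -/

open Cfsg.Agent.Lib.Helper5.OS

namespace Cfsg.Agent.Lib.Helper9.OS

/-- class formula with constant stabilizer size: `|N| / s` divides `|X|` -/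
theorem dvd_card_of_card_stabilizer {N X : Type*} [Group N] [Finite N] [MulAction N X] [Finite X]
    (s : ℕ) (hs : ∀ x : X, Nat.card (MulAction.stabilizer N x) = s) :
    Nat.card N / s ∣ Nat.card X := by
  classical
  haveI : Fintype (MulAction.orbitRel.Quotient N X) := Fintype.ofFinite _
  have e := MulAction.selfEquivSigmaOrbitsQuotientStabilizer N X
  rw [Nat.card_congr e, Nat.card_sigma]
  apply Finset.dvd_sum
  intro ω _
  have h1 : Nat.card (N ⧸ MulAction.stabilizer N ω.out) = Nat.card N / s := by
    rw [← Subgroup.index_eq_card, ← hs ω.out]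
    have h2 := Subgroup.card_mul_index (MulAction.stabilizer N ω.out)
    have hpos : 0 < Nat.card (MulAction.stabilizer N ω.out) := Nat.card_pos
    rw [← h2, Nat.mul_div_cancel_left _ hpos]
  rw [h1]

variable {G : Type*} [Group G] [Finite G] {p q n m : ℕ}

/-- `Nat.card {x // x ≠ a} + 1 = Nat.card α` -/
theorem card_ne_add_one {α : Type*} [Finite α] (a : α) :
    Nat.card {x : α // x ≠ a} + 1 = Nat.card α := by
  classical
  rw [← Finite.card_option, Nat.card_congr (Equiv.optionSubtypeNe a)]

theorem exists_MData (h : Hyp G p q n m) : ∃ (M : Subgroup G) (z : G), MData G m M z := by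
  classical
  obtain ⟨b, hb⟩ := h.exm
  have hm3 := h.m_ge
  have hmpos : 0 < m := by omega
  set M : Subgroup G := Subgroup.zpowers b with hM
  have hcardM : Nat.card M = m := by rw [hM, Nat.card_zpowers, hb]
  have hMcomm : ∀ x ∈ M, ∀ y ∈ M, x * y = y * x := by
    intro x hx y hy
    obtain ⟨i, rfl⟩ := Subgroup.mem_zpowers_iff.1 hx
    obtain ⟨j, rfl⟩ := Subgroup.mem_zpowers_iff.1 hy
    exact (Commute.zpow_zpow_self b i j)
  -- centralizers
  have hcent : ∀ y ∈ M, y ≠ 1 → Subgroup.centralizer ({y} : Set G) = M := by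
    intro y hy hy1
    have hym : orderOf y ∣ m := by
      rw [← hb]; exact orderOf_dvd_of_mem_zpowers hy
    have hdvd := h.card_centralizer_dvd_m hy1 hym
    have hle : M ≤ Subgroup.centralizer ({y} : Set G) := by
      intro x hx
      rw [Subgroup.mem_centralizer_singleton_iff]
      exact hMcomm x hx y hy
    symm
    apply Subgroup.eq_of_le_of_card_ge hle
    rw [hcardM]
    exact Nat.le_of_dvd hmpos hdvd
  set N : Subgroup G := Subgroup.normalizer (M : Set G) with hN
  have hMN : M ≤ N := Subgroup.le_normalizer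
  have hconjM : ∀ g ∈ N, ∀ y ∈ M, g * y * g⁻¹ ∈ M := by
    intro g hg y hy
    exact (Subgroup.mem_normalizer_iff.1 hg y).1 hy
  -- `w`
  have hmN : m ∣ Nat.card N := by
    rw [← hcardM]; exact Subgroup.card_dvd_of_le hMN
  obtain ⟨w, hw⟩ := hmN
  have hNpos : 0 < Nat.card N := Nat.card_pos
  have hwpos : 0 < w := by
    rcases Nat.eq_zero_or_pos w with h0 | h0
    · rw [h0, mul_zero] at hw; omega
    · exact h0
  -- action of `N` on `M ∖ 1`
  have hw_dvd : w ∣ m - 1 := by
    let X1 := {y : ↥M // y ≠ 1}
    letI : MulAction ↥N X1 :=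
      { smul := fun g y => ⟨⟨(g : G) * (y.1 : G) * (g : G)⁻¹, hconjM g g.2 y.1 y.1.2⟩, by
          intro h0
          apply y.2
          have h1 : (g : G) * (y.1 : G) * (g : G)⁻¹ = 1 := congrArg Subtype.val h0
          apply Subtype.ext
          calc (y.1 : G) = (g : G)⁻¹ * ((g : G) * (y.1 : G) * (g : G)⁻¹) * (g : G) := by group
            _ = 1 := by rw [h1]; group⟩
        one_smul := by
          intro y
          apply Subtype.ext; apply Subtype.ext
          show ((1 : ↥N) : G) * (y.1 : G) * ((1 : ↥N) : G)⁻¹ = (y.1 : G)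
          simp
        mul_smul := by
          intro g g' y
          apply Subtype.ext; apply Subtype.ext
          show ((g * g' : ↥N) : G) * (y.1 : G) * ((g * g' : ↥N) : G)⁻¹
            = (g : G) * ((g' : G) * (y.1 : G) * (g' : G)⁻¹) * (g : G)⁻¹
          rw [Subgroup.coe_mul]; group }
    have hsm : ∀ (g : ↥N) (y : X1), ((g • y).1 : G) = (g : G) * (y.1 : G) * (g : G)⁻¹ :=
      fun _ _ => rfl
    have hstab : ∀ y : X1, Nat.card (MulAction.stabilizer ↥N y) = m := by
      intro y
      have hy1 : (y.1 : G) ≠ 1 := fun h0 => y.2 (Subtype.ext h0)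
      have heq : MulAction.stabilizer ↥N y = M.subgroupOf N := by
        ext g
        rw [MulAction.mem_stabilizer_iff, Subgroup.mem_subgroupOf,
          ← hcent (y.1 : G) y.1.2 hy1, Subgroup.mem_centralizer_singleton_iff]
        constructor
        · intro h0
          have h1 : (g : G) * (y.1 : G) * (g : G)⁻¹ = (y.1 : G) := by
            rw [← hsm, h0]
          calc (g : G) * (y.1 : G) = ((g : G) * (y.1 : G) * (g : G)⁻¹) * (g : G) := by group
            _ = (y.1 : G) * (g : G) := by rw [h1]
        · intro h0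
          apply Subtype.ext; apply Subtype.ext
          rw [hsm, h0]; group
      rw [heq, Nat.card_congr (Subgroup.subgroupOfEquivOfLe hMN).toEquiv, hcardM]
    have hd := dvd_card_of_card_stabilizer (N := ↥N) (X := X1) m hstab
    have hc1 : Nat.card X1 + 1 = m := by
      rw [card_ne_add_one, hcardM]
    have hX1 : Nat.card X1 = m - 1 := by omega
    rw [hX1, hw, Nat.mul_div_cancel_left _ hmpos] at hd
    exact hd
  -- `w ∣ 2nq`, coprime to `m`
  have hcardG : Nat.card N * N.index = q * (2 * n) * m := by
    rw [Subgroup.card_mul_index, h.card]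
  have hwi : w * N.index = q * (2 * n) := by
    have : m * (w * N.index) = m * (q * (2 * n)) := by
      calc m * (w * N.index) = (m * w) * N.index := by ring
        _ = q * (2 * n) * m := by rw [← hw, hcardG]
        _ = m * (q * (2 * n)) := by ring
    exact Nat.eq_of_mul_eq_mul_left hmpos this
  have hcop_wm : Nat.Coprime w m := by
    have h1 : w ∣ q * (2 * n) := ⟨N.index, hwi.symm⟩
    exact Nat.Coprime.coprime_dvd_left h1 (Nat.Coprime.mul_left h.cop_qm h.cop_2n_m)
  -- an element of `N` of order dividing `m` lies in `M`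
  have hmemM : ∀ y ∈ N, orderOf y ∣ m → y ∈ M := by
    intro y hyN hym
    haveI : (M.subgroupOf N).Normal := Subgroup.normal_in_normalizer
    have hidx : (M.subgroupOf N).index = w := by
      have h1 := Subgroup.card_mul_index (M.subgroupOf N)
      rw [Nat.card_congr (Subgroup.subgroupOfEquivOfLe hMN).toEquiv, hcardM, hw] at h1
      exact Nat.eq_of_mul_eq_mul_left hmpos h1
    have h2 : (⟨y, hyN⟩ : ↥N) ^ w ∈ M.subgroupOf N := by
      rw [← hidx]; exact Subgroup.pow_index_mem _ _
    have h3 : y ^ w ∈ M := by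
      rw [Subgroup.mem_subgroupOf] at h2
      simpa using h2
    have hcop : Nat.Coprime w (orderOf y) := Nat.Coprime.coprime_dvd_right hym hcop_wm
    obtain ⟨k, hk⟩ := exists_pow_eq_self_of_coprime hcop
    rw [← hk]
    exact M.pow_mem h3 k
  -- `m ∣ index - 1`
  have hidx1 : m ∣ N.index - 1 := by
    let X2 := {c : G ⧸ N // c ≠ ((1 : G) : G ⧸ N)}
    letI : MulAction ↥M X2 :=
      { smul := fun x c => ⟨(x : G) • c.1, by
          intro h0
          apply c.2
          have h1 : c.1 = (x : G)⁻¹ • ((x : G) • c.1) := by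
            rw [smul_smul, inv_mul_cancel, one_smul]
          have h2 : (c.1 : G ⧸ N) = (x : G)⁻¹ • (((1 : G) : G ⧸ N)) := by
            rw [h1, h0]
          rw [h2]
          show (((x : G)⁻¹ * 1 : G) : G ⧸ N) = ((1 : G) : G ⧸ N)
          rw [QuotientGroup.eq]
          simp only [mul_one, inv_inv]
          exact hMN x.2⟩
        one_smul := by
          intro c
          apply Subtype.ext
          show ((1 : ↥M) : G) • c.1 = c.1
          simp
        mul_smul := by
          intro x x' c
          apply Subtype.ext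
          show ((x * x' : ↥M) : G) • c.1 = (x : G) • ((x' : G) • c.1)
          rw [Subgroup.coe_mul, mul_smul] }
    have hsm : ∀ (x : ↥M) (c : X2), ((x • c).1 : G ⧸ N) = (x : G) • c.1 := fun _ _ => rfl
    have hstab : ∀ c : X2, Nat.card (MulAction.stabilizer ↥M c) = 1 := by
      intro c
      rw [Subgroup.card_eq_one, eq_bot_iff]
      intro x hx
      rw [Subgroup.mem_bot]
      by_contra hx1
      rw [MulAction.mem_stabilizer_iff] at hx
      obtain ⟨g, hg⟩ := QuotientGroup.mk_surjective c.1
      have h1 : (x : G) • c.1 = c.1 := by rw [← hsm, hx]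
      rw [← hg] at h1
      have h2 : (((x : G) * g : G) : G ⧸ N) = (g : G ⧸ N) := h1
      rw [QuotientGroup.eq] at h2
      -- `g⁻¹ x⁻¹ g ∈ N`, so `y' := g⁻¹ x g ∈ N`
      have hy'N : g⁻¹ * (x : G) * g ∈ N := by
        have := N.inv_mem h2
        have e : (((x : G) * g)⁻¹ * g)⁻¹ = g⁻¹ * (x : G) * g := by group
        rwa [e] at this
      have hxG1 : (x : G) ≠ 1 := fun h0 => hx1 (Subtype.ext h0)
      have hxo : orderOf (x : G) ∣ m := by
        rw [← hb]; exact orderOf_dvd_of_mem_zpowers x.2
      have hy'o : orderOf (g⁻¹ * (x : G) * g) ∣ m := by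
        have : orderOf (g⁻¹ * (x : G) * g) = orderOf (x : G) := by
          have h5 : g⁻¹ * (x : G) * g = MulAut.conj g⁻¹ (x : G) := by simp [MulAut.conj_apply]
          rw [h5, MulEquiv.orderOf_eq]
        rw [this]; exact hxo
      have hy'M : g⁻¹ * (x : G) * g ∈ M := hmemM _ hy'N hy'o
      have hy'1 : g⁻¹ * (x : G) * g ≠ 1 := by
        intro h0
        apply hxG1
        calc (x : G) = g * (g⁻¹ * (x : G) * g) * g⁻¹ := by group
          _ = 1 := by rw [h0]; group
      have hC1 := hcent _ hy'M hy'1
      have hC2 := hcent _ x.2 hxG1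
      -- `g ∈ N`
      have hgN : g ∈ N := by
        rw [hN, Subgroup.mem_normalizer_iff]
        intro k
        have hk1 : k ∈ M ↔ k * (g⁻¹ * (x : G) * g) = (g⁻¹ * (x : G) * g) * k := by
          rw [← Subgroup.mem_centralizer_singleton_iff, hC1]
        have hk2 : g * k * g⁻¹ ∈ M ↔ g * k * g⁻¹ * (x : G) = (x : G) * (g * k * g⁻¹) := by
          rw [← Subgroup.mem_centralizer_singleton_iff, hC2]
        rw [hk1, hk2]
        constructor
        · intro h0
          calc g * k * g⁻¹ * (x : G) = g * (k * (g⁻¹ * (x : G) * g)) * g⁻¹ := by group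
            _ = g * ((g⁻¹ * (x : G) * g) * k) * g⁻¹ := by rw [h0]
            _ = (x : G) * (g * k * g⁻¹) := by group
        · intro h0
          calc k * (g⁻¹ * (x : G) * g) = g⁻¹ * ((g * k * g⁻¹) * (x : G)) * g := by group
            _ = g⁻¹ * ((x : G) * (g * k * g⁻¹)) * g := by rw [h0]
            _ = (g⁻¹ * (x : G) * g) * k := by group
      apply c.2
      rw [← hg]
      show (g : G ⧸ N) = ((1 : G) : G ⧸ N)
      rw [QuotientGroup.eq]
      simpa using N.inv_mem hgN
    have hd := dvd_card_of_card_stabilizer (N := ↥M) (X := X2) 1 hstab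
    rw [Nat.div_one, hcardM] at hd
    have hc1 : Nat.card X2 + 1 = N.index := by
      rw [card_ne_add_one, Subgroup.index_eq_card]
    have hX2 : Nat.card X2 = N.index - 1 := by omega
    rw [hX2] at hd
    exact hd
  -- arithmetic: `w = 2`
  have hw2 : w = 2 := by
    have hipos : 0 < N.index := Nat.pos_of_ne_zero (Subgroup.index_ne_zero_of_finite)
    have hi1 : N.index ≡ 1 [MOD m] := by
      have := (Nat.modEq_iff_dvd' hipos).2 hidx1
      exact this.symm
    have h1 : w * N.index ≡ w * 1 [MOD m] := Nat.ModEq.mul_left w hi1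
    rw [hwi, mul_one] at h1
    have h2 : q * (2 * n) ≡ 2 [MOD m] := by
      have := h.two_n_q_modEq
      have e : 2 * n * q = q * (2 * n) := by ring
      rwa [e] at this
    have h3 : w ≡ 2 [MOD m] := h1.symm.trans h2
    have hwle : w ≤ m - 1 := Nat.le_of_dvd (by omega) hw_dvd
    exact Nat.ModEq.eq_of_lt_of_lt h3 (by omega) (by omega)
  have hcardN : Nat.card N = 2 * m := by rw [hw, hw2]; ring
  -- the involution
  haveI : Fact (Nat.Prime 2) := ⟨Nat.prime_two⟩
  obtain ⟨z, hz⟩ := exists_prime_orderOf_dvd_card' (G := ↥N) 2 (by rw [hcardN]; exact dvd_mul_right 2 m)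
  have hzo : orderOf (z : G) = 2 := by rw [Subgroup.orderOf_coe]; exact hz
  have hz2 : (z : G) * (z : G) = 1 := by
    have := pow_orderOf_eq_one (z : G)
    rwa [hzo, pow_two] at this
  have hzinv : (z : G)⁻¹ = (z : G) := inv_eq_of_mul_eq_one_right hz2
  have hzM : (z : G) ∉ M := by
    intro hzM
    have : orderOf (z : G) ∣ m := by rw [← hb]; exact orderOf_dvd_of_mem_zpowers hzM
    rw [hzo] at this
    obtain ⟨k, hk⟩ := h.m_odd
    omega
  refine ⟨M, (z : G), ⟨inferInstance, hcardM, hcent, hcardN, z.2, hzo, ?_⟩⟩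
  intro y hy
  have hzy : (z : G) * y * (z : G)⁻¹ ∈ M := hconjM z z.2 y hy
  set v := y * ((z : G) * y * (z : G)⁻¹) with hv
  have hvM : v ∈ M := M.mul_mem hy hzy
  have hzv : (z : G) * v = v * (z : G) := by
    have e1 : (z : G) * v = ((z : G) * y * (z : G)⁻¹) * y * (z : G) := by
      rw [hv, hzinv]
      group
    have e2 : v * (z : G) = y * ((z : G) * y * (z : G)⁻¹) * (z : G) := by rw [hv]
    rw [e1, e2, hMcomm _ hzy y hy]
  by_cases hv1 : v = 1
  · have : (z : G) * y * (z : G)⁻¹ = y⁻¹ := by
      have h0 : y * ((z : G) * y * (z : G)⁻¹) = 1 := hv1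
      exact (eq_inv_of_mul_eq_one_right h0)
    exact this
  · exfalso
    have hC := hcent v hvM hv1
    apply hzM
    rw [← hC, Subgroup.mem_centralizer_singleton_iff]
    exact hzv

end Cfsg.Agent.Lib.Helper9.OS
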