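import Mathlib
import Cfsg.Agent.Lib.Helper1.PSGDefs
import Cfsg.Agent.Lib.Helper4.CSGConj
import Cfsg.Agent.Lib.Helper7.CSGPowC
import Cfsg.Agent.Lib.Helper7.CSGStab
import Cfsg.Agent.Lib.Helper9.CSGPow
import Cfsg.Agent.Lib.Helper9.CSGSylow
import Cfsg.Agent.Lib.Helper8.CSGAsym
import Cfsg.Agent.Lib.Helper8.NCSComp
import Cfsg.Agent.Lib.Helper9.PSGBasicB

/-! S4321 piece P2 (PSGWielandt): a `p`-element with `p`-power class size lies in a normal
`p`-subgroup. -/

set_option autoImplicit false
set_option linter.unusedVariables false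
set_option linter.unusedSectionVars false
set_option linter.style.longLine false

namespace Cfsg.Agent.Lib.Helper1.PSG

open Cfsg.Agent.Lib.Helper8.CSG

variable {G : Type*} [Group G] [Finite G]

theorem wielandt {p : ℕ} [Fact p.Prime] {g : G} (hg : PElt p g) (hi : ∃ m : ℕ, idx g = p ^ m) :
    ∃ N : Subgroup G, N.Normal ∧ IsPGroup p N ∧ g ∈ N := by
  have hp : p.Prime := Fact.out
  obtain ⟨m, hm⟩ := hi
  have hpg : IsPGroup p (Subgroup.zpowers g) := h9_psg_isPGroup_zpowers hg
  obtain ⟨P, hP⟩ := hpg.exists_le_sylow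
  have hgP : g ∈ (P : Subgroup G) := hP (Subgroup.mem_zpowers g)
  have hco : (P : Subgroup G).index.Coprime (Subgroup.centralizer ({g} : Set G)).index := by
    have h1 : (Subgroup.centralizer ({g} : Set G)).index = p ^ m := hm
    rw [h1]
    apply Nat.Coprime.pow_right
    exact ((Nat.Prime.coprime_iff_not_dvd hp).mpr P.not_dvd_index).symm
  have hconj : ∀ x : G, x * g * x⁻¹ ∈ (P : Subgroup G) := by
    intro x
    obtain ⟨h, hh, hc⟩ := csg_prod_eq_top hco x
    have hc' : Commute (h⁻¹ * x) g := Subgroup.mem_centralizer_singleton_iff.mp hc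
    have e : x * g * x⁻¹ = h * g * h⁻¹ := by
      have e1 : x = h * (h⁻¹ * x) := by group
      have e2 : (h⁻¹ * x) * g = g * (h⁻¹ * x) := hc'.eq
      calc x * g * x⁻¹ = h * ((h⁻¹ * x) * g) * x⁻¹ := by group
        _ = h * (g * (h⁻¹ * x)) * x⁻¹ := by rw [e2]
        _ = h * g * h⁻¹ := by group
    rw [e]
    exact (P : Subgroup G).mul_mem ((P : Subgroup G).mul_mem hh hgP) ((P : Subgroup G).inv_mem hh)
  refine ⟨Subgroup.normalClosure ({g} : Set G), Subgroup.normalClosure_normal, ?_, ?_⟩
  · have hle : Subgroup.normalClosure ({g} : Set G) ≤ (P : Subgroup G) := by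
      unfold Subgroup.normalClosure
      rw [Subgroup.closure_le]
      intro a ha
      rw [Group.mem_conjugatesOfSet_iff] at ha
      obtain ⟨a', ha', hconj'⟩ := ha
      rw [Set.mem_singleton_iff] at ha'
      subst ha'
      obtain ⟨c, hc⟩ := isConj_iff.mp hconj'
      rw [← hc]
      exact hconj c
    exact P.isPGroup'.to_le hle
  · exact Subgroup.subset_normalClosure (Set.mem_singleton g)

end Cfsg.Agent.Lib.Helper1.PSG
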