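import Cfsg.Agent.Lib.Helper1.QBDefs
import Cfsg.Agent.Lib.Helper1.Glauberman
import Cfsg.Agent.Lib.Helper1.Index
import Cfsg.Agent.Lib.Helper3.ConjCover

/-! S4125 GT farm, piece C0: the cover lemma. -/

set_option autoImplicit false
universe u

namespace Cfsg.Agent.Lib.Helper1.QB

open Cfsg

/-- the conjugacy class of `z`, as a type -/
def h9_qb_Cls {Γ : Type*} [Group Γ] (z : Γ) : Type _ := {w : Γ // ∃ g : Γ, w = g * z * g⁻¹}

instance h9_qb_ClsAct {Γ : Type*} [Group Γ] (z : Γ) : MulAction Γ (h9_qb_Cls z) where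
  smul g w := ⟨g * w.1 * g⁻¹, by
    obtain ⟨k, hk⟩ := w.2
    exact ⟨g * k, by rw [hk]; group⟩⟩
  one_smul w := by
    apply Subtype.ext
    show (1 : Γ) * w.1 * (1 : Γ)⁻¹ = w.1
    group
  mul_smul a b w := by
    apply Subtype.ext
    show (a * b) * w.1 * (a * b)⁻¹ = a * (b * w.1 * b⁻¹) * a⁻¹
    group

theorem h9_qb_Cls_smul_val {Γ : Type*} [Group Γ] (z : Γ) (g : Γ) (w : h9_qb_Cls z) :
    (g • w).1 = g * w.1 * g⁻¹ := rfl

instance h9_qb_ClsNonempty {Γ : Type*} [Group Γ] (z : Γ) : Nonempty (h9_qb_Cls z) :=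
  ⟨⟨z, 1, by group⟩⟩

/-- every `z ∈ R` with `q`-power class size is `R`-conjugate to an element commuting with `H`. -/
theorem h9_qb_cover_aux {Γ : Type*} [Group Γ] [Finite Γ] {q : ℕ} [Fact q.Prime] (R H : Subgroup Γ)
    [R.Normal] (hR : IsPGroup q R) (hc : R.IsComplement' H)
    (hcop : (Nat.card R).Coprime (Nat.card H)) (z : Γ) (hzR : z ∈ R) (a : ℕ)
    (hz : ind z = q ^ a) :
    ∃ u ∈ R, ∀ h ∈ H, h * (u * z * u⁻¹) = (u * z * u⁻¹) * h := by
  have hq : q.Prime := Fact.out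
  by_cases hz1 : z = 1
  · refine ⟨1, R.one_mem, fun h _ => ?_⟩
    rw [hz1]; group
  -- q is coprime to card H
  have hidx : R.index = Nat.card H := hc.symm.index_eq_card
  have hqH : q.Coprime (Nat.card H) := by
    obtain ⟨n, hn⟩ := IsPGroup.iff_card.mp hR
    have hn0 : n ≠ 0 := by
      rintro rfl
      rw [pow_zero] at hn
      have : Subsingleton R := (Nat.card_eq_one_iff_unique.mp hn).1
      have h1 : (⟨z, hzR⟩ : R) = 1 := Subsingleton.elim _ _
      exact hz1 (congrArg Subtype.val h1)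
    rw [hn] at hcop
    exact (Nat.coprime_pow_left_iff (Nat.pos_of_ne_zero hn0) q (Nat.card H)).mp hcop
  -- every conjugate is an R-conjugate
  have hconj : ∀ g : Γ, ∃ x ∈ R, g * z * g⁻¹ = x * z * x⁻¹ := by
    intro g
    have hcp : R.index.Coprime (Subgroup.centralizer ({z} : Set Γ)).index := by
      rw [hidx]
      have : (Subgroup.centralizer ({z} : Set Γ)).index = q ^ a := hz
      rw [this]
      exact (Nat.Coprime.pow_right a hqH.symm)
    obtain ⟨x, hx, y, hy, hg⟩ :=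
      Cfsg.Agent.Lib.Helper1.mul_eq_of_coprime_index R (Subgroup.centralizer ({z} : Set Γ)) hcp g
    refine ⟨x, hx, ?_⟩
    rw [Subgroup.mem_centralizer_singleton_iff] at hy
    rw [hg]
    have : x * y * z * (x * y)⁻¹ = x * (y * z) * y⁻¹ * x⁻¹ := by group
    rw [this, hy]; group
  -- transitivity of R on the class
  have htrans : MulAction.IsPretransitive R (h9_qb_Cls z) := by
    constructor
    intro w1 w2
    obtain ⟨g1, hg1⟩ := w1.2
    obtain ⟨g2, hg2⟩ := w2.2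
    obtain ⟨x1, hx1, e1⟩ := hconj g1
    obtain ⟨x2, hx2, e2⟩ := hconj g2
    refine ⟨⟨x2 * x1⁻¹, R.mul_mem hx2 (R.inv_mem hx1)⟩, ?_⟩
    apply Subtype.ext
    show (x2 * x1⁻¹) * w1.1 * (x2 * x1⁻¹)⁻¹ = w2.1
    rw [hg1, hg2, e1, e2]; group
  have hsolv : Group.IsSolvable R := by
    have : Group.IsNilpotent R := hR.isNilpotent
    infer_instance
  have hcop' : (Nat.card R).Coprime R.index := by rw [hidx]; exact hcop
  obtain ⟨w, hw⟩ := Cfsg.Agent.Lib.Helper1.glauberman_exists_fixed (X := h9_qb_Cls z) R H hc hcop'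
    (Or.inl hsolv) htrans
  obtain ⟨g, hg⟩ := w.2
  obtain ⟨u, hu, e⟩ := hconj g
  refine ⟨u, hu, fun h hh => ?_⟩
  have h1 := congrArg Subtype.val (hw h hh)
  rw [h9_qb_Cls_smul_val, hg, e] at h1
  calc h * (u * z * u⁻¹) = (h * (u * z * u⁻¹) * h⁻¹) * h := by group
    _ = (u * z * u⁻¹) * h := by rw [h1]

theorem cover_lemma {Γ : Type*} [Group Γ] [Finite Γ] {q : ℕ} [Fact q.Prime] (R H T : Subgroup Γ) [R.Normal]
    (hR : IsPGroup q R) (hc : R.IsComplement' H) (hcop : (Nat.card R).Coprime (Nat.card H))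
    (hTR : T ≤ R) (hCT : ∀ c ∈ R, (∀ h ∈ H, h * c = c * h) → c ∈ T)
    (hz : ∀ z ∈ R, (∃ a : ℕ, ind z = q ^ a) ∨ z ∈ T) : T = R := by
  apply le_antisymm hTR
  have key : ∀ z ∈ R, ∃ u ∈ R, u * z * u⁻¹ ∈ T := by
    intro z hzR
    rcases hz z hzR with ⟨a, ha⟩ | hzT
    · obtain ⟨u, hu, hfix⟩ := h9_qb_cover_aux R H hR hc hcop z hzR a ha
      refine ⟨u, hu, hCT _ ?_ hfix⟩
      exact R.mul_mem (R.mul_mem hu hzR) (R.inv_mem hu)
    · exact ⟨1, R.one_mem, by simpa using hzT⟩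
  have htop : T.subgroupOf R = ⊤ := by
    apply Cfsg.Agent.Lib.Helper3.eq_top_of_conj_cover
    intro y
    obtain ⟨u, hu, huT⟩ := key y.1 y.2
    refine ⟨⟨u, hu⟩⁻¹, ?_⟩
    rw [Subgroup.mem_subgroupOf]
    simpa using huT
  exact Subgroup.subgroupOf_eq_top.mp htop

end Cfsg.Agent.Lib.Helper1.QB
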