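import Cfsg.Agent.Lib.Helper2.QBA4
import Cfsg.Agent.Lib.Helper2.QBA5
import Cfsg.Agent.Lib.Helper9.QBC0

/-! S4125 GT farm, piece C2: in `G/K` the commutators of `O_q(G/K)` are centralized by a complement. -/

set_option autoImplicit false
universe u

namespace Cfsg.Agent.Lib.Helper1.QB

open Cfsg

theorem h9_qb_comm_left {Γ : Type*} [Group Γ] (a w y : Γ) (hwy : w * y = y * w) :
    a * w * y * (a * w)⁻¹ * y⁻¹ = a * y * a⁻¹ * y⁻¹ := by
  have h1 : w * y * w⁻¹ = y := by rw [hwy]; group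
  calc a * w * y * (a * w)⁻¹ * y⁻¹ = a * (w * y * w⁻¹) * a⁻¹ * y⁻¹ := by group
    _ = a * y * a⁻¹ * y⁻¹ := by rw [h1]

theorem h9_qb_comm_right {Γ : Type*} [Group Γ] (x a w : Γ) (hwx : w * x = x * w) :
    x * (a * w) * x⁻¹ * (a * w)⁻¹ = x * a * x⁻¹ * a⁻¹ := by
  have h1 : w * x⁻¹ * w⁻¹ = x⁻¹ := by
    have : x⁻¹ * w = w * x⁻¹ := by
      calc x⁻¹ * w = x⁻¹ * (w * x) * x⁻¹ := by group
        _ = x⁻¹ * (x * w) * x⁻¹ := by rw [hwx]
        _ = w * x⁻¹ := by group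
    rw [← this]; group
  calc x * (a * w) * x⁻¹ * (a * w)⁻¹ = x * a * (w * x⁻¹ * w⁻¹) * a⁻¹ := by group
    _ = x * a * x⁻¹ * a⁻¹ := by rw [h1]

variable {G : Type*} [Group G] [Finite G]

theorem quot_comm_fixed {q : ℕ} [Fact q.Prime] (hB : Baer q G) :
    ∃ H : Subgroup (G ⧸ pPrimeCore q G),
      (pCore q (G ⧸ pPrimeCore q G)).IsComplement' H ∧ (Nat.card H).Coprime q ∧
      ∀ z1 ∈ pCore q (G ⧸ pPrimeCore q G), ∀ z2 ∈ pCore q (G ⧸ pPrimeCore q G), ∀ h ∈ H,
        h * (z1 * z2 * z1⁻¹ * z2⁻¹) = (z1 * z2 * z1⁻¹ * z2⁻¹) * h := by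
  have hq : q.Prime := Fact.out
  set R : Subgroup (G ⧸ pPrimeCore q G) := pCore q (G ⧸ pPrimeCore q G) with hRdef
  have hRp : IsPGroup q R := Cfsg.Agent.Lib.Helper2.pCore_isPGroup q
  have hidx : R.index.Coprime q := quot_pCore_index_coprime hB
  obtain ⟨n, hn⟩ := IsPGroup.iff_card.mp hRp
  have hcop0 : (Nat.card R).Coprime R.index := by
    rw [hn]; exact Nat.Coprime.pow_left n hidx.symm
  obtain ⟨H, hc⟩ := Subgroup.exists_right_complement'_of_coprime hcop0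
  have hidxH : R.index = Nat.card H := hc.symm.index_eq_card
  have hHq : (Nat.card H).Coprime q := by rw [← hidxH]; exact hidx
  refine ⟨H, hc, hHq, ?_⟩
  have hcop : (Nat.card R).Coprime (Nat.card H) := by rw [← hidxH]; exact hcop0
  -- the subgroup T
  set A : Subgroup (G ⧸ pPrimeCore q G) := R ⊓ Subgroup.centralizer (H : Set (G ⧸ pPrimeCore q G)) with hA
  set Z : Subgroup (G ⧸ pPrimeCore q G) := R ⊓ Subgroup.centralizer (R : Set (G ⧸ pPrimeCore q G)) with hZ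
  have hZn : Z.Normal := by
    rw [hZ]; infer_instance
  have hT : A ⊔ Z = R := by
    apply cover_lemma R H (A ⊔ Z) hRp hc hcop (sup_le inf_le_left inf_le_left)
    · intro c hcR hcH
      apply Subgroup.mem_sup_left
      refine Subgroup.mem_inf.mpr ⟨hcR, ?_⟩
      rw [Subgroup.mem_centralizer_iff]
      intro h hh
      exact hcH h hh
    · intro z hzR
      obtain Q : Sylow q G := default
      have hmap := map_sylow_eq hB Q
      rw [← hRdef] at hmap
      rw [← hmap] at hzR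
      obtain ⟨z0, hz0, rfl⟩ := hzR
      have hz0q : QElt q z0 := qelt_of_mem_pgroup (Q : Subgroup G) Q.isPGroup' hz0
      obtain ⟨r, c, hr, hi⟩ := hB z0 hz0q
      by_cases hrq : r = q
      · left
        subst hrq
        have hd := ind_map_dvd (pPrimeCore r G) z0
        rw [hi] at hd
        obtain ⟨a, _, ha⟩ := (Nat.dvd_prime_pow hr).mp hd
        exact ⟨a, ha⟩
      · right
        apply Subgroup.mem_sup_right
        have hcp : (ind z0).Coprime q := by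
          rw [hi]
          exact Nat.Coprime.pow_left c ((Nat.coprime_primes hr hq).mpr hrq)
        have hcen := map_central_of_ind_coprime hB hcp
        refine Subgroup.mem_inf.mpr ⟨?_, ?_⟩
        · rw [← hmap]; exact Subgroup.mem_map_of_mem _ hz0
        · rw [Subgroup.mem_centralizer_iff]
          intro z hz
          exact (hcen z hz).symm
  intro z1 hz1 z2 hz2 h hh
  rw [← hT] at hz1 hz2
  obtain ⟨a1, ha1, w1, hw1, rfl⟩ := Subgroup.mem_sup_of_normal_right.mp hz1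
  obtain ⟨a2, ha2, w2, hw2, rfl⟩ := Subgroup.mem_sup_of_normal_right.mp hz2
  have ha1R : a1 ∈ R := (Subgroup.mem_inf.mp ha1).1
  have ha2R : a2 ∈ R := (Subgroup.mem_inf.mp ha2).1
  have hw1R : w1 ∈ R := (Subgroup.mem_inf.mp hw1).1
  have hw2R : w2 ∈ R := (Subgroup.mem_inf.mp hw2).1
  have hw1c := Subgroup.mem_centralizer_iff.mp (Subgroup.mem_inf.mp hw1).2
  have hw2c := Subgroup.mem_centralizer_iff.mp (Subgroup.mem_inf.mp hw2).2
  have ha1c := Subgroup.mem_centralizer_iff.mp (Subgroup.mem_inf.mp ha1).2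
  have ha2c := Subgroup.mem_centralizer_iff.mp (Subgroup.mem_inf.mp ha2).2
  have e1 : a1 * w1 * (a2 * w2) * (a1 * w1)⁻¹ * (a2 * w2)⁻¹ = a1 * (a2 * w2) * a1⁻¹ * (a2 * w2)⁻¹ :=
    h9_qb_comm_left a1 w1 (a2 * w2) (hw1c (a2 * w2) (R.mul_mem ha2R hw2R)).symm
  have e2 : a1 * (a2 * w2) * a1⁻¹ * (a2 * w2)⁻¹ = a1 * a2 * a1⁻¹ * a2⁻¹ :=
    h9_qb_comm_right a1 a2 w2 (hw2c a1 ha1R).symm
  rw [e1, e2]
  have c1 : Commute h a1 := ha1c h hh
  have c2 : Commute h a2 := ha2c h hh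
  exact (((c1.mul_right c2).mul_right c1.inv_right).mul_right c2.inv_right).eq

end Cfsg.Agent.Lib.Helper1.QB
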