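import Cfsg.Agent.Lib.Helper1.QBDefs

/-! S4125 GT farm, piece E2: apply the MS black box to a complement acting on an abelian normal `q`-subgroup. -/

set_option autoImplicit false
universe u

namespace Cfsg.Agent.Lib.Helper1.QB

open Cfsg

/-- if `Γ = A B` then the relative index of `B` in `A` is the index of `B`. -/
theorem h9_qb_relIndex_eq_index {Γ : Type*} [Group Γ] (A B : Subgroup Γ)
    (h : ∀ g : Γ, ∃ a ∈ A, ∃ b ∈ B, g = a * b) : B.relIndex A = B.index := by
  let f : A ⧸ B.subgroupOf A → Γ ⧸ B :=
    Quotient.map' (Subtype.val) (fun a b hab => by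
      rw [QuotientGroup.leftRel_apply] at hab ⊢
      simpa [Subgroup.mem_subgroupOf] using hab)
  have hf : Function.Injective f := by
    intro a b
    refine Quotient.inductionOn₂' a b ?_
    intro a b hab
    simp only [f, Quotient.map'_mk''] at hab
    rw [Quotient.eq''] at hab ⊢
    rw [QuotientGroup.leftRel_apply] at hab ⊢
    simpa [Subgroup.mem_subgroupOf] using hab
  have hs : Function.Surjective f := by
    intro x
    refine Quotient.inductionOn' x ?_
    intro g
    obtain ⟨a, ha, b, hb, rfl⟩ := h g
    refine ⟨Quotient.mk'' ⟨a, ha⟩, ?_⟩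
    simp only [f, Quotient.map'_mk'']
    rw [Quotient.eq'', QuotientGroup.leftRel_apply]
    simpa using hb
  exact Nat.card_congr (Equiv.ofBijective f ⟨hf, hs⟩)

theorem solvable_of_complement {Γ : Type u} [Group Γ] [Finite Γ] {p q : ℕ} [Fact p.Prime] [Fact q.Prime]
    (R H : Subgroup Γ) [R.Normal] (hRq : IsPGroup q R) (hRab : ∀ a ∈ R, ∀ b ∈ R, a * b = b * a)
    (hc : R.IsComplement' H) (hcop : (Nat.card H).Coprime q)
    (hfaith : ∀ h ∈ H, (∀ z ∈ R, h * z = z * h) → h = 1)
    (horb : ∀ z ∈ R, ∃ a : ℕ, ind z = p ^ a)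
    (hMS : ∀ (H' : Type u) [Group H'] [Finite H'] (V : Type u) [AddCommGroup V] [Finite V] [DistribMulAction H' V],
      (∃ n : ℕ, Nat.card V = q ^ n) → (Nat.card H').Coprime q →
      (∀ h : H', (∀ v : V, h • v = v) → h = 1) →
      (∀ v : V, ∃ a : ℕ, (MulAction.stabilizer H' v).index = p ^ a) → Group.IsSolvable H') :
    Group.IsSolvable H := by
  classical
  have hRn : R.Normal := inferInstance
  let cg : CommGroup ↥R :=
    { (inferInstance : Group ↥R) with
      mul_comm := fun a b => Subtype.ext (hRab a a.2 b b.2) }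
  let sm : ↥H → Additive ↥R → Additive ↥R := fun h v => Additive.ofMul
    ⟨(h : Γ) * ((Additive.toMul v : ↥R) : Γ) * (h : Γ)⁻¹, hRn.conj_mem _ (Additive.toMul v).2 _⟩
  let act : DistribMulAction ↥H (Additive ↥R) :=
    { smul := sm
      one_smul := fun v => by
        show sm 1 v = v
        apply Additive.toMul.injective
        apply Subtype.ext
        simp [sm]
      mul_smul := fun a b v => by
        show sm (a * b) v = sm a (sm b v)
        apply Additive.toMul.injective
        apply Subtype.ext
        simp [sm, mul_assoc]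
      smul_zero := fun a => by
        show sm a 0 = 0
        apply Additive.toMul.injective
        apply Subtype.ext
        simp [sm]
      smul_add := fun a v w => by
        show sm a (v + w) = sm a v + sm a w
        apply Additive.toMul.injective
        apply Subtype.ext
        simp [sm, mul_assoc] }
  have hsmul : ∀ (h : ↥H) (v : Additive ↥R),
      ((Additive.toMul (h • v) : ↥R) : Γ) = (h : Γ) * ((Additive.toMul v : ↥R) : Γ) * (h : Γ)⁻¹ :=
    fun h v => rfl
  apply hMS ↥H (Additive ↥R)
  · obtain ⟨n, hn⟩ := IsPGroup.iff_card.mp hRq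
    exact ⟨n, by rw [← hn]; exact Nat.card_congr Additive.toMul⟩
  · exact hcop
  · intro h hh
    have := hfaith h h.2 (fun z hz => by
      have h1 := hsmul h (Additive.ofMul ⟨z, hz⟩)
      rw [hh] at h1
      simp only [toMul_ofMul] at h1
      calc (h : Γ) * z = ((h : Γ) * z * (h : Γ)⁻¹) * h := by group
        _ = z * h := by rw [← h1])
    exact Subtype.ext this
  · intro v
    obtain ⟨z, hz⟩ : ∃ z : ↥R, v = Additive.ofMul z := ⟨Additive.toMul v, rfl⟩
    obtain ⟨a, ha⟩ := horb z.1 z.2
    refine ⟨a, ?_⟩
    have hstab : MulAction.stabilizer ↥H v = (Subgroup.centralizer ({(z : Γ)} : Set Γ)).subgroupOf H := by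
      ext h
      rw [MulAction.mem_stabilizer_iff, Subgroup.mem_subgroupOf, Subgroup.mem_centralizer_singleton_iff]
      constructor
      · intro hv
        have h1 := hsmul h v
        rw [hv, hz] at h1
        simp only [toMul_ofMul] at h1
        calc (h : Γ) * z = ((h : Γ) * z * (h : Γ)⁻¹) * h := by group
          _ = z * h := by rw [← h1]
      · intro hv
        apply Additive.toMul.injective
        apply Subtype.ext
        rw [hsmul, hz]
        simp only [toMul_ofMul]
        rw [hv]; group
    rw [hstab]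
    have : (Subgroup.centralizer ({(z : Γ)} : Set Γ)).relIndex H =
        (Subgroup.centralizer ({(z : Γ)} : Set Γ)).index := by
      apply h9_qb_relIndex_eq_index
      intro g
      -- g⁻¹ = r * h
      obtain ⟨⟨⟨r, hr⟩, ⟨h, hh⟩⟩, hrh⟩ := hc.2 g⁻¹
      simp only at hrh
      refine ⟨h⁻¹, H.inv_mem hh, r⁻¹, ?_, ?_⟩
      · apply Subgroup.inv_mem
        rw [Subgroup.mem_centralizer_singleton_iff]
        exact hRab r hr z z.2
      · rw [← mul_inv_rev, hrh, inv_inv]
    exact this.trans ha

end Cfsg.Agent.Lib.Helper1.QB
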