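import Mathlib
import Cfsg.Agent.Lib.Helper7.PGroupAux
import Cfsg.Agent.Lib.Lead.SylowCount

set_option autoImplicit false

namespace Cfsg.Agent.Lib.Helper9.G162


/-- An invariant homomorphism onto `ZMod 3` not killing a fixed element. -/
theorem exists_invariant_hom {A : Type*} [CommGroup A] (h3 : ∀ a : A, a ^ 3 = 1)
    (τ : A →* A) (hτ2 : ∀ a, τ (τ a) = a) (z : A) (hz : z ≠ 1) (hτz : τ z = z) :
    ∃ φ : A →* Multiplicative (ZMod 3), φ z ≠ 1 ∧ ∀ a, φ (τ a) = φ a := by
  letI : Module (ZMod 3) (Additive A) := AddCommGroup.zmodModule (n := 3) (by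
    intro x
    show Additive.ofMul ((Additive.toMul x) ^ 3) = 0
    rw [h3]; rfl)
  have hz' : (Additive.ofMul z : Additive A) ≠ 0 := fun h => hz (by simpa using h)
  obtain ⟨f0, hf0⟩ := Module.Projective.exists_dual_ne_zero (ZMod 3) hz'
  refine ⟨{ toFun := fun a => Multiplicative.ofAdd (f0 (Additive.ofMul a) + f0 (Additive.ofMul (τ a)))
            map_one' := by simp
            map_mul' := by
              intro a b
              simp only [map_mul, ofMul_mul, map_add]
              rw [← ofAdd_add]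
              congr 1
              abel }, ?_, ?_⟩
  · show Multiplicative.ofAdd (f0 (Additive.ofMul z) + f0 (Additive.ofMul (τ z))) ≠ 1
    rw [hτz]
    intro h
    have h0 : f0 (Additive.ofMul z) + f0 (Additive.ofMul z) = 0 := by
      have := congrArg Multiplicative.toAdd h
      simpa using this
    revert hf0 h0
    generalize f0 (Additive.ofMul z) = c
    revert c
    decide
  · intro a
    show Multiplicative.ofAdd (f0 (Additive.ofMul (τ a)) + f0 (Additive.ofMul (τ (τ a)))) =
      Multiplicative.ofAdd (f0 (Additive.ofMul a) + f0 (Additive.ofMul (τ a)))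
    rw [hτ2, add_comm]



open Equiv

/-- the product of three 3-cycles -/
def sig : Perm (Fin 9) :=
  Equiv.swap (0 : Fin 9) 1 * Equiv.swap 1 2 * Equiv.swap 3 4 * Equiv.swap 4 5 * Equiv.swap 6 7 * Equiv.swap 7 8

theorem cycleType_of_order_three (ρ : Perm (Fin 9)) (h3 : orderOf ρ = 3) (hfix : ∀ x, ρ x ≠ x) :
    ρ.cycleType = Multiset.replicate 3 3 := by
  have hp : (orderOf ρ).Prime := by rw [h3]; norm_num
  obtain ⟨n, hn⟩ := Equiv.Perm.cycleType_prime_order hp
  rw [h3] at hn
  have hsum := Equiv.Perm.sum_cycleType ρ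
  have hsupp : ρ.support = Finset.univ := by
    ext x
    simp [Equiv.Perm.mem_support, hfix x]
  rw [hsupp, hn, Multiset.sum_replicate] at hsum
  simp at hsum
  have : n = 2 := by omega
  rw [hn, this]

theorem sig_order : orderOf sig = 3 := by
  have h1 : sig ^ 3 = 1 := by decide
  have h2 : sig ≠ 1 := by decide
  exact orderOf_eq_prime h1 h2

theorem sig_fix : ∀ x, sig x ≠ x := by decide

theorem sig_cycleType : sig.cycleType = Multiset.replicate 3 3 :=
  cycleType_of_order_three sig sig_order sig_fix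

theorem card_centralizer_sig : Nat.card (Subgroup.centralizer ({sig} : Set (Perm (Fin 9)))) = 162 := by
  rw [Equiv.Perm.nat_card_centralizer, sig_cycleType]
  decide



variable {G : Type*} [Group G]

/-- A nontrivial subgroup of the `p`-group `S`, normalised by `S`, contains a nontrivial element
centralising `S`. -/
theorem exists_central_of_normal [Finite G] {p : ℕ} [Fact p.Prime] (S : Subgroup G) (hS : IsPGroup p S)
    (N : Subgroup G) (hNS : N ≤ S) (hnorm : ∀ s ∈ S, ∀ n ∈ N, s * n * s⁻¹ ∈ N) (hN : N ≠ ⊥) :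
    ∃ b ∈ N, b ≠ 1 ∧ ∀ s ∈ S, s * b = b * s := by
  haveI : (N.subgroupOf S).Normal := ⟨fun n hn s => by
    rw [Subgroup.mem_subgroupOf] at hn ⊢
    simpa using hnorm s s.2 n hn⟩
  have hne : N.subgroupOf S ≠ ⊥ := by
    intro h
    apply hN
    rw [Subgroup.subgroupOf_eq_bot] at h
    rw [eq_bot_iff]
    intro x hx
    have : x ∈ N ⊓ S := ⟨hx, hNS hx⟩
    rw [disjoint_iff.mp h] at this
    exact this
  obtain ⟨b, hbN, hb1, hbc⟩ := Cfsg.Agent.Lib.Helper7.exists_mem_center_of_normal_ne_bot hS
    (N.subgroupOf S) hne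
  refine ⟨b, Subgroup.mem_subgroupOf.mp hbN, fun h => hb1 (Subtype.ext h), fun s hs => ?_⟩
  have := (Subgroup.mem_center_iff.mp hbc) ⟨s, hs⟩
  exact congrArg Subtype.val this

/-- A subgroup of order 3 is contained in every subgroup meeting it nontrivially. -/
theorem le_of_card_three (Z N : Subgroup G) (hZ3 : Nat.card Z = 3) (b : G) (hbZ : b ∈ Z)
    (hbN : b ∈ N) (hb1 : b ≠ 1) : Z ≤ N := by
  haveI : Fact (Nat.Prime 3) := ⟨by norm_num⟩
  intro x hx
  have htop : Subgroup.zpowers (⟨b, hbZ⟩ : Z) = ⊤ :=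
    zpowers_eq_top_of_prime_card hZ3 (fun h => hb1 (congrArg Subtype.val h))
  have hmem : (⟨x, hx⟩ : Z) ∈ Subgroup.zpowers (⟨b, hbZ⟩ : Z) := by rw [htop]; trivial
  obtain ⟨k, hk⟩ := Subgroup.mem_zpowers_iff.mp hmem
  have : b ^ k = x := by
    have := congrArg Subtype.val hk
    simpa using this
  rw [← this]
  exact N.zpow_mem hbN k





/-- the subgroup `A ∪ A t` for an involution `t` normalising `A`. -/
def extInv (A : Subgroup G) (t : G) (ht2 : t * t = 1) (hnorm : ∀ a ∈ A, t * a * t⁻¹ ∈ A) : Subgroup G where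
  carrier := {g | g ∈ A ∨ g * t ∈ A}
  one_mem' := Or.inl A.one_mem
  mul_mem' := by
    have hti : t⁻¹ = t := inv_eq_of_mul_eq_one_right ht2
    have hnorm' : ∀ a ∈ A, t * a * t ∈ A := fun a ha => by simpa [hti] using hnorm a ha
    rintro g h (hg | hg) (hh | hh)
    · exact Or.inl (A.mul_mem hg hh)
    · right; rw [mul_assoc]; exact A.mul_mem hg hh
    · right
      have : g * h * t = (g * t) * (t * h * t) := by
        calc g * h * t = g * (t * t) * h * t := by rw [ht2, mul_one]
          _ = (g * t) * (t * h * t) := by group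
      rw [this]; exact A.mul_mem hg (hnorm' h hh)
    · left
      have : g * h = (g * t) * (t * (h * t) * t) := by
        calc g * h = g * (t * t) * h * (t * t) := by rw [ht2, mul_one, mul_one]
          _ = (g * t) * (t * (h * t) * t) := by group
      rw [this]; exact A.mul_mem hg (hnorm' _ hh)
  inv_mem' := by
    have hti : t⁻¹ = t := inv_eq_of_mul_eq_one_right ht2
    have hnorm' : ∀ a ∈ A, t * a * t ∈ A := fun a ha => by simpa [hti] using hnorm a ha
    rintro g (hg | hg)
    · exact Or.inl (A.inv_mem hg)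
    · right
      have : g⁻¹ * t = t * (g * t)⁻¹ * t := by
        rw [mul_inv_rev, hti]
        calc g⁻¹ * t = (t * t) * g⁻¹ * t := by rw [ht2, one_mul]
          _ = t * (t * g⁻¹) * t := by group
      rw [this]; exact hnorm' _ (A.inv_mem hg)

theorem mem_extInv (A : Subgroup G) (t : G) (ht2 : t * t = 1) (hnorm : ∀ a ∈ A, t * a * t⁻¹ ∈ A) (g : G) :
    g ∈ extInv A t ht2 hnorm ↔ g ∈ A ∨ g * t ∈ A := Iff.rfl


theorem zmod3_key : ∀ c y : Multiplicative (ZMod 3), c ≠ 1 → y = 1 ∨ y = c ∨ y = c * c := by decide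

open Cfsg.Agent.Lib.Lead.SylowCount in
theorem main {G : Type*} [Group G] [Finite G] (hG : Nat.card G = 162)
    (S : Sylow 3 G) (T : Sylow 2 G) (J : Subgroup G) [hJn : J.Normal] (hJcomm : IsMulCommutative J)
    (hJexp : ∀ a ∈ J, a ^ 3 = 1) (hJcard : Nat.card J = 27)
    (Z : Subgroup G) (hZ : Z = (S : Subgroup G) ⊓ Subgroup.centralizer ((S : Subgroup G) : Set G)) (hZcard : Nat.card Z = 3)
    (hZT : Z ≤ Subgroup.centralizer ((T : Subgroup G) : Set G))
    (hST : (S : Subgroup G) ⊓ Subgroup.centralizer ((T : Subgroup G) : Set G) ≠ S) :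
    Nonempty (G ≃* Subgroup.centralizer ({Equiv.swap (0 : Fin 9) 1 * Equiv.swap 1 2 * Equiv.swap 3 4 * Equiv.swap 4 5 * Equiv.swap 6 7 * Equiv.swap 7 8} : Set (Equiv.Perm (Fin 9)))) := by
  classical
  haveI h3p : Fact (Nat.Prime 3) := ⟨by norm_num⟩
  haveI h2p : Fact (Nat.Prime 2) := ⟨by norm_num⟩
  have hS81 : Nat.card (S : Subgroup G) = 81 := by
    have := card_sylow_of_card_eq_pow 3 4 2 (by rw [hG]; norm_num) (by norm_num) S
    simpa using this
  have hT2 : Nat.card (T : Subgroup G) = 2 :=
    card_sylow_of_card_eq 2 81 (by rw [hG]) (by norm_num) T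
  have hSidx : (S : Subgroup G).index = 2 := by
    have := (S : Subgroup G).card_mul_index
    rw [hS81, hG] at this
    omega
  haveI hSn : (S : Subgroup G).Normal := Subgroup.normal_of_index_eq_two hSidx
  have hSp : IsPGroup 3 (S : Subgroup G) := S.isPGroup'
  have hS_pow : ∀ s ∈ (S : Subgroup G), s ^ 81 = 1 := by
    intro s hs
    have := pow_card_eq_one' (G := (S : Subgroup G)) (x := ⟨s, hs⟩)
    rw [hS81] at this
    simpa using congrArg Subtype.val this
  obtain ⟨t, htT, ht1⟩ : ∃ t ∈ (T : Subgroup G), t ≠ 1 := by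
    by_contra hcon
    push Not at hcon
    have : (T : Subgroup G) = ⊥ := by
      rw [eq_bot_iff]; intro x hx; exact hcon x hx
    rw [this] at hT2; simp at hT2
  have ht2 : t * t = 1 := by
    have := pow_card_eq_one' (G := (T : Subgroup G)) (x := ⟨t, htT⟩)
    rw [hT2] at this
    have := congrArg Subtype.val this
    simpa [pow_two] using this
  have hti : t⁻¹ = t := inv_eq_of_mul_eq_one_right ht2
  have htS : t ∉ (S : Subgroup G) := by
    intro h
    have h81 := hS_pow t h
    have : t ^ 81 = t := by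
      have : t ^ 81 = (t * t) ^ 40 * t := by rw [← pow_two, ← pow_mul, ← pow_succ]
      rw [this, ht2, one_pow, one_mul]
    exact ht1 (by rw [← this, h81])
  have hT_elems : ∀ u ∈ (T : Subgroup G), u = 1 ∨ u = t := by
    intro u hu
    have htop : Subgroup.zpowers (⟨t, htT⟩ : (T : Subgroup G)) = ⊤ :=
      zpowers_eq_top_of_prime_card hT2 (fun h => ht1 (congrArg Subtype.val h))
    have hmem : (⟨u, hu⟩ : (T : Subgroup G)) ∈ Subgroup.zpowers (⟨t, htT⟩ : (T : Subgroup G)) := by
      rw [htop]; trivial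
    obtain ⟨k, hk⟩ := Subgroup.mem_zpowers_iff.mp hmem
    have hk' : t ^ k = u := by simpa using congrArg Subtype.val hk
    rcases Int.emod_two_eq_zero_or_one k with h | h
    · left
      have : k = 2 * (k / 2) := by omega
      rw [← hk', this, zpow_mul, zpow_two, ht2, one_zpow]
    · right
      have : k = 2 * (k / 2) + 1 := by omega
      rw [← hk', this, zpow_add, zpow_mul, zpow_two, ht2, one_zpow, one_mul, zpow_one]
  have hJS : J ≤ (S : Subgroup G) := by
    have hJp : IsPGroup 3 J := IsPGroup.of_card (n := 3) (by rw [hJcard]; norm_num)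
    obtain ⟨Q, hQ⟩ := hJp.exists_le_sylow
    have : Q = S := by
      obtain ⟨g, hg⟩ := MulAction.exists_smul_eq G S Q
      rw [← hg, Sylow.smul_eq_of_normal]
    rwa [this] at hQ
  obtain ⟨z, hzZ, hz1⟩ : ∃ z ∈ Z, z ≠ 1 := by
    by_contra hcon; push Not at hcon
    have : Z = ⊥ := by rw [eq_bot_iff]; intro x hx; exact hcon x hx
    rw [this] at hZcard; simp at hZcard
  have hzZ' : z ∈ (S : Subgroup G) ⊓ Subgroup.centralizer ((S : Subgroup G) : Set G) := by
    rw [← hZ]; exact hzZ
  have hzS : z ∈ (S : Subgroup G) := hzZ'.1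
  have hzc : ∀ s ∈ (S : Subgroup G), s * z = z * s := by
    intro s hs
    exact (Subgroup.mem_centralizer_iff.mp hzZ'.2) s hs
  have hzt : t * z = z * t := (Subgroup.mem_centralizer_iff.mp (hZT hzZ)) t htT
  have hZle : ∀ N : Subgroup G, N ≤ (S : Subgroup G) →
      (∀ s ∈ (S : Subgroup G), ∀ n ∈ N, s * n * s⁻¹ ∈ N) → N ≠ ⊥ → Z ≤ N := by
    intro N hNS hnorm hN
    obtain ⟨b, hbN, hb1, hbc⟩ := exists_central_of_normal (S : Subgroup G) hSp N hNS hnorm hN
    have hbZ : b ∈ Z := by
      rw [hZ]
      exact ⟨hNS hbN, Subgroup.mem_centralizer_iff.mpr (fun s hs => hbc s hs)⟩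
    exact le_of_card_three Z N hZcard b hbZ hbN hb1
  have hZJ : Z ≤ J := hZle J hJS (fun s _ n hn => hJn.conj_mem n hn s) (by
    intro h; rw [h] at hJcard; simp at hJcard)
  haveI := hJcomm
  letI : CommGroup J := { (inferInstance : Group J) with mul_comm := fun a b => mul_comm' a b }
  let τ : J →* J :=
    { toFun := fun a => ⟨t * a * t⁻¹, hJn.conj_mem a a.2 t⟩
      map_one' := by ext; simp
      map_mul' := by intro a b; ext; simp }
  have hτ2 : ∀ a, τ (τ a) = a := by
    intro a; ext
    show t * (t * a * t⁻¹) * t⁻¹ = a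
    rw [hti]
    calc t * (t * (a : G) * t) * t = (t * t) * a * (t * t) := by group
      _ = a := by rw [ht2, one_mul, mul_one]
  obtain ⟨φ, hφz, hφτ⟩ := exists_invariant_hom (A := J)
    (fun a => by ext; simpa using hJexp a a.2) τ hτ2 ⟨z, hZJ hzZ⟩
    (fun h => hz1 (congrArg Subtype.val h))
    (by ext; show t * z * t⁻¹ = z; rw [hzt, mul_inv_cancel_right])
  let A : Subgroup G := φ.ker.map J.subtype
  have hA_mem : ∀ a : G, a ∈ A ↔ ∃ h : a ∈ J, φ ⟨a, h⟩ = 1 := by
    intro a
    constructor
    · rintro ⟨x, hx, rfl⟩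
      exact ⟨x.2, by simpa using MonoidHom.mem_ker.mp hx⟩
    · rintro ⟨h, hφ⟩
      exact ⟨⟨a, h⟩, MonoidHom.mem_ker.mpr hφ, rfl⟩
  have hAJ : A ≤ J := fun a ha => ((hA_mem a).mp ha).1
  have hAS : A ≤ (S : Subgroup G) := hAJ.trans hJS
  have hzA : z ∉ A := fun h => by
    obtain ⟨h1, h2⟩ := (hA_mem z).mp h
    exact hφz h2
  have hAnorm : ∀ a ∈ A, t * a * t⁻¹ ∈ A := by
    intro a ha
    obtain ⟨h1, h2⟩ := (hA_mem a).mp ha
    refine (hA_mem _).mpr ⟨hJn.conj_mem a h1 t, ?_⟩
    have := hφτ ⟨a, h1⟩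
    rw [h2] at this
    exact this
  have hAcard : Nat.card A = 9 := by
    have h1 : Nat.card A = Nat.card φ.ker :=
      Nat.card_congr (Subgroup.equivMapOfInjective φ.ker J.subtype (Subgroup.subtype_injective J)).symm.toEquiv
    have hr : φ.range = ⊤ := by
      rw [eq_top_iff]
      intro y _
      rcases zmod3_key _ y hφz with h | h | h
      · rw [h]; exact φ.range.one_mem
      · rw [h]; exact ⟨_, rfl⟩
      · rw [h]; exact φ.range.mul_mem ⟨_, rfl⟩ ⟨_, rfl⟩
    have h2 : φ.ker.index = 3 := by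
      rw [Subgroup.index_ker, hr, Subgroup.card_top, Nat.card_eq_fintype_card]
      simp
    have h3 := φ.ker.card_mul_index
    rw [h2, hJcard] at h3
    omega
  let H' : Subgroup G := extInv A t ht2 hAnorm
  have hH'S : ∀ g ∈ H', g ∈ (S : Subgroup G) → g ∈ A := by
    intro g hg hgS
    rcases (mem_extInv A t ht2 hAnorm g).mp hg with h | h
    · exact h
    · exfalso
      apply htS
      have : t = g⁻¹ * (g * t) := by group
      rw [this]
      exact (S : Subgroup G).mul_mem ((S : Subgroup G).inv_mem hgS) (hAS h)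
  have hzH' : z ∉ H' := fun h => hzA (hH'S z h hzS)
  have htH' : t ∈ H' := by
    refine (mem_extInv A t ht2 hAnorm t).mpr (Or.inr ?_); rw [ht2]; exact A.one_mem
  have hAH' : A ≤ H' := fun a ha => (mem_extInv A t ht2 hAnorm a).mpr (Or.inl ha)
  have hinf : (S : Subgroup G) ⊓ H' = A := by
    apply le_antisymm
    · rintro g ⟨hgS, hgH⟩; exact hH'S g hgH hgS
    · exact le_inf hAS hAH'
  have hrel : (S : Subgroup G).relIndex H' = 2 := by
    rw [← Subgroup.relIndex_sup_right]
    have hle : (S : Subgroup G) ≤ H' ⊔ S := le_sup_right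
    have h1 := Subgroup.relIndex_mul_index hle
    rw [hSidx] at h1
    have hne : (S : Subgroup G).relIndex (H' ⊔ S) ≠ 1 := by
      intro h
      rw [Subgroup.relIndex_eq_one] at h
      exact htS (h (Subgroup.mem_sup_left htH'))
    have hdvd : (S : Subgroup G).relIndex (H' ⊔ S) ∣ 2 := Dvd.intro _ h1
    rcases (Nat.dvd_prime Nat.prime_two).mp hdvd with h | h
    · exact absurd h hne
    · exact h
  have hH'card : Nat.card H' = 18 := by
    have h1 : A.relIndex H' = 2 := by rw [← hinf, Subgroup.inf_relIndex_right]; exact hrel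
    have := card_mul_relIndex hAH'
    rw [hAcard, h1] at this
    omega
  have hH'idx : H'.index = 9 := by
    have := H'.card_mul_index
    rw [hH'card, hG] at this
    omega
  have hzcent : ∀ g : G, g * z = z * g := by
    let C : Subgroup G := Subgroup.centralizer {z}
    have hSC : (S : Subgroup G) ≤ C := fun s hs => Subgroup.mem_centralizer_singleton_iff.mpr (hzc s hs)
    have htC : t ∈ C := Subgroup.mem_centralizer_singleton_iff.mpr hzt
    have h1 := Subgroup.relIndex_mul_index hSC
    rw [hSidx] at h1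
    have hne : (S : Subgroup G).relIndex C ≠ 1 := by
      intro h; rw [Subgroup.relIndex_eq_one] at h; exact htS (h htC)
    have hdvd : (S : Subgroup G).relIndex C ∣ 2 := Dvd.intro _ h1
    have h2 : (S : Subgroup G).relIndex C = 2 := by
      rcases (Nat.dvd_prime Nat.prime_two).mp hdvd with h | h
      · exact absurd h hne
      · exact h
    rw [h2] at h1
    have hC1 : C.index = 1 := by omega
    have hCtop : C = ⊤ := Subgroup.index_eq_one.mp hC1
    intro g
    have : g ∈ C := by rw [hCtop]; trivial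
    exact Subgroup.mem_centralizer_singleton_iff.mp this
  have hcore : H'.normalCore = ⊥ := by
    by_contra hK
    have hKH : H'.normalCore ≤ H' := Subgroup.normalCore_le H'
    haveI hKn : H'.normalCore.Normal := Subgroup.normalCore_normal H'
    by_cases hKS : H'.normalCore ⊓ (S : Subgroup G) = ⊥
    · obtain ⟨k, hkK, hk1⟩ : ∃ k ∈ H'.normalCore, k ≠ 1 := by
        by_contra hcon; push Not at hcon
        exact hK (by rw [eq_bot_iff]; intro x hx; exact hcon x hx)
      have hkS : k ∉ (S : Subgroup G) := fun h => hk1 (by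
        have : k ∈ H'.normalCore ⊓ (S : Subgroup G) := ⟨hkK, h⟩
        rw [hKS] at this; exact this)
      have hkc : ∀ s ∈ (S : Subgroup G), k * s = s * k := by
        intro s hs
        exact (Subgroup.commute_of_normal_of_disjoint H'.normalCore S hKn hSn
          (disjoint_iff.mpr hKS) k s hkK hs).eq
      have hkt : k * t ∈ A := by
        rcases (mem_extInv A t ht2 hAnorm k).mp (hKH hkK) with h | h
        · exact absurd (hAS h) hkS
        · exact h
      obtain ⟨a, ha⟩ : ∃ a, a = k * t := ⟨_, rfl⟩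
      rw [← ha] at hkt
      have hk_eq : k = a * t := by rw [ha, mul_assoc, ht2, mul_one]
      have hkk : k * k = 1 := by
        have h1 : k * k ∈ H'.normalCore := H'.normalCore.mul_mem hkK hkK
        have h2 : k * k ∈ (S : Subgroup G) := by
          have : k * k = a * (t * a * t⁻¹) := by rw [hk_eq, hti]; group
          rw [this]
          exact (S : Subgroup G).mul_mem (hAS hkt) (hAS (hAnorm a hkt))
        have : k * k ∈ H'.normalCore ⊓ (S : Subgroup G) := ⟨h1, h2⟩
        rw [hKS] at this; exact this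
      have hak : k * a = a * k := hkc a (hAS hkt)
      have ht_eq : t = k * a := by rw [ha, ← mul_assoc, hkk, one_mul]
      have ha2 : a * a = 1 := by
        have h : t * t = (k * k) * (a * a) := by
          calc t * t = (k * a) * (k * a) := by rw [← ht_eq]
            _ = k * (a * k) * a := by group
            _ = k * (k * a) * a := by rw [hak]
            _ = (k * k) * (a * a) := by group
        rw [ht2, hkk, one_mul] at h
        exact h.symm
      have ha1 : a = 1 := by
        have h3 : a ^ 3 = 1 := hJexp a (hAJ hkt)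
        calc a = a ^ 3 * (a * a)⁻¹ := by group
          _ = 1 := by rw [h3, ha2]; simp
      have htk : t = k := by rw [ht_eq, ha1, mul_one]
      have hS_cent : (S : Subgroup G) ≤ Subgroup.centralizer ((T : Subgroup G) : Set G) := by
        intro s hs
        rw [Subgroup.mem_centralizer_iff]
        intro u hu
        rcases hT_elems u hu with rfl | rfl
        · simp
        · rw [htk]; exact hkc s hs
      exact hST (inf_eq_left.mpr hS_cent)
    · have hle := hZle (H'.normalCore ⊓ (S : Subgroup G)) inf_le_right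
        (fun s _ n hn => ⟨hKn.conj_mem n hn.1 s, hSn.conj_mem n hn.2 s⟩) hKS
      exact hzH' (hKH (hle hzZ).1)
  let φG : G →* Equiv.Perm (G ⧸ H') := MulAction.toPermHom G (G ⧸ H')
  have hφG_inj : Function.Injective φG := by
    rw [← MonoidHom.ker_eq_bot_iff, ← Subgroup.normalCore_eq_ker]; exact hcore
  haveI : Fintype (G ⧸ H') := Fintype.ofFinite _
  have hcard9 : Fintype.card (G ⧸ H') = 9 := by
    rw [← Nat.card_eq_fintype_card, ← Subgroup.index_eq_card]; exact hH'idx
  let e0 : (G ⧸ H') ≃ Fin 9 := Fintype.equivFinOfCardEq hcard9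
  let ρ : Equiv.Perm (Fin 9) := e0.permCongr (φG z)
  have hρ_fix : ∀ x, ρ x ≠ x := by
    intro x hx
    have h1 : φG z (e0.symm x) = e0.symm x := by
      have : e0 (φG z (e0.symm x)) = x := hx
      exact e0.injective (by rw [this, Equiv.apply_symm_apply])
    obtain ⟨g, hg⟩ := QuotientGroup.mk_surjective (e0.symm x)
    rw [← hg] at h1
    have h2 : (QuotientGroup.mk (z * g) : G ⧸ H') = QuotientGroup.mk g := h1
    rw [QuotientGroup.eq] at h2
    have : (z * g)⁻¹ * g = z⁻¹ := by
      rw [← hzcent g]; group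
    rw [this] at h2
    exact hzH' (by simpa using H'.inv_mem h2)
  have hz3 : orderOf z = 3 := orderOf_eq_prime (hJexp z (hZJ hzZ)) hz1
  have hρ3 : orderOf ρ = 3 := by
    have h1 : orderOf (φG z) = 3 := by rw [orderOf_injective φG hφG_inj]; exact hz3
    have : ρ = e0.permCongrHom (φG z) := rfl
    rw [this, MulEquiv.orderOf_eq]; exact h1
  have hρct := cycleType_of_order_three ρ hρ3 hρ_fix
  have hconj : IsConj ρ sig := by
    rw [Equiv.Perm.isConj_iff_cycleType_eq, hρct, sig_cycleType]
  obtain ⟨c, hc⟩ := isConj_iff.mp hconj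
  let ψ : G →* Equiv.Perm (Fin 9) :=
    ((MulAut.conj c).toMonoidHom.comp e0.permCongrHom.toMonoidHom).comp φG
  have hψz : ψ z = sig := by
    show c * (e0.permCongr (φG z)) * c⁻¹ = sig
    exact hc
  have hψ_inj : Function.Injective ψ := by
    show Function.Injective ((MulAut.conj c) ∘ e0.permCongrHom ∘ φG)
    exact (MulAut.conj c).injective.comp (e0.permCongrHom.injective.comp hφG_inj)
  have hψ_mem : ∀ g, ψ g ∈ Subgroup.centralizer ({sig} : Set (Equiv.Perm (Fin 9))) := by
    intro g
    rw [Subgroup.mem_centralizer_singleton_iff, ← hψz, ← map_mul, ← map_mul, hzcent g]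
  let ψ' : G →* Subgroup.centralizer ({sig} : Set (Equiv.Perm (Fin 9))) := ψ.codRestrict _ hψ_mem
  have hψ'_inj : Function.Injective ψ' := by
    intro a b hab
    apply hψ_inj
    exact congrArg Subtype.val hab
  have hbij : Function.Bijective ψ' := by
    rw [Nat.bijective_iff_injective_and_card]
    exact ⟨hψ'_inj, by rw [hG, card_centralizer_sig]⟩
  exact ⟨MulEquiv.ofBijective ψ' hbij⟩

end Cfsg.Agent.Lib.Helper9.G162
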