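import Mathlib
import Cfsg.Prelude.Def_Transfer

/-! Farm RK3 (S4404), LEMMA HHc: the faithful configuration `Cfg`.

`Cfg M R x r`: inside a group `G`, `M` is an elementary abelian `2`-subgroup, `R` is an
`r`-subgroup (`r ≥ 5` prime) normalizing `M` and acting FAITHFULLY on it
(`R ⊓ C_G(M) = ⊥`), `x` normalizes `M` and `R`, `x ^ 3 = 1`, and `|[M, ⟨x⟩]| ≤ 4`. -/

set_option autoImplicit false

open scoped commutatorElement

namespace Cfsg.Agent.Lib.Helper9.RK3

universe u

variable {G : Type u} [Group G]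

structure Cfg (M R : Subgroup G) (x : G) (r : ℕ) : Prop where
  hr : r.Prime
  hr5 : 5 ≤ r
  hM : Cfsg.IsElementaryAbelian 2 M
  hR : IsPGroup r R
  hRM : R ≤ Subgroup.normalizer (M : Set G)
  hxM : x ∈ Subgroup.normalizer (M : Set G)
  hxR : x ∈ Subgroup.normalizer (R : Set G)
  hx3 : x ^ 3 = 1
  hV : Nat.card (⁅M, Subgroup.zpowers x⁆ : Subgroup G) ≤ 4
  faith : R ⊓ Subgroup.centralizer (M : Set G) = ⊥

end Cfsg.Agent.Lib.Helper9.RK3
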