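import Mathlib
import Cfsg.Prelude.Def_Classical
import Cfsg.Agent.Lib.Helper9.SyTC
import Cfsg.Agent.S0288

set_option autoImplicit false

/-! The Sylow `2`-subgroups of `S₈` and of `O₆⁻(2)` are isomorphic. -/

namespace Cfsg.Agent.Lib.Helper9.SyT

open Matrix

/-! ### the symmetric side -/

theorem PB_apply (i : Fin 128) (x : Fin 8) : PB i x = pb i x := rfl

theorem PB_inj : Function.Injective PB := by
  intro i j h
  apply pb_inj
  intro x
  rw [← PB_apply, ← PB_apply, h]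

theorem PB_zero : PB 0 = 1 := Equiv.ext pb_zero

theorem PB_step (i : Fin 128) (t : Fin 3) : PB i * PB (sb t) = PB (rb i t) :=
  Equiv.ext (fun x => pb_step i t x)

def TB : TabGrp (Equiv.Perm (Fin 8)) 128 :=
  TabGrp.ofCayley PB (fun t => PB (sb t)) rb wb 0 ivb PB_inj PB_zero PB_step wb_spec ivb_spec

theorem card_S8 : Nat.card (Equiv.Perm (Fin 8)) = 40320 := by
  rw [Nat.card_perm, Nat.card_eq_fintype_card (α := Fin 8), Fintype.card_fin]
  decide

theorem fact_S8 : (Nat.card (Equiv.Perm (Fin 8))).factorization 2 = 7 := by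
  rw [card_S8]
  apply factorization_two_of_dvd <;> norm_num

/-! ### the orthogonal side -/

abbrev Q2 : (I6 → ZMod 2) → ZMod 2 := Cfsg.quadFormMinus 2 (ZMod 2) 1 1

abbrev O6 : Type := ↥(Cfsg.isometryGroup (ZMod 2) Q2)

theorem all_mkv (v : I6 → ZMod 2) :
    v = mkv (v (Sum.inl (Sum.inl 0))) (v (Sum.inl (Sum.inl 1))) (v (Sum.inl (Sum.inr 0)))
      (v (Sum.inl (Sum.inr 1))) (v (Sum.inr 0)) (v (Sum.inr 1)) := by
  funext x
  rcases x with (x | x) | x <;> fin_cases x <;> rfl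

def genU (t : Fin 3) : Matrix.GeneralLinearGroup I6 (ZMod 2) :=
  ⟨qb (sb t), qb (sb t), qb_gen_sq t, qb_gen_sq t⟩

def genO (t : Fin 3) : O6 :=
  ⟨genU t, by
    intro u v
    show Q2 (qb (sb t) *ᵥ u) = Q2 u
    rw [all_mkv u]
    exact qb_gen_isom t _ _ _ _ _ _⟩

def valO : O6 →* Matrix I6 I6 (ZMod 2) :=
  (Units.coeHom (Matrix I6 I6 (ZMod 2))).comp (Subgroup.subtype _)

theorem valO_inj : Function.Injective valO := by
  intro a b h
  apply Subtype.ext
  apply Units.ext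
  exact h

theorem valO_gen (t : Fin 3) : valO (genO t) = qb (sb t) := rfl

def fB (i : Fin 128) : O6 := ((wb i).map genO).prod

theorem valO_fB (i : Fin 128) : valO (fB i) = qb i := by
  unfold fB
  rw [map_list_prod, List.map_map]
  have h := foldl_mul qb (fun t => qb (sb t)) rb qb_step (wb i) 0
  rw [qb_zero, one_mul, wb_spec] at h
  rw [← h]
  rfl

theorem fB_mul (i j : Fin 128) : fB i * fB j = fB ((wb j).foldl rb i) := by
  apply valO_inj
  rw [map_mul, valO_fB, valO_fB, valO_fB]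
  exact cayley_mul qb (fun t => qb (sb t)) rb qb_step 0 qb_zero wb wb_spec i j

theorem fB_zero : fB 0 = 1 := by
  apply valO_inj
  rw [valO_fB, map_one, qb_zero]

theorem fB_ker (k : Fin 128) (h : fB k = 1) : k = 0 := by
  apply qb_ker
  rw [← valO_fB, h, map_one]

def TB' : TabGrp O6 128 := TB.push fB fB_mul fB_zero fB_ker

set_option maxRecDepth 100000 in
theorem hab2 : ∀ z₁ z₂ : ZMod 2, z₁ ^ 2 + 1 * z₁ * z₂ + 1 * z₂ ^ 2 = 0 → z₁ = 0 ∧ z₂ = 0 := by
  decide

theorem card_O6 : Nat.card O6 = 51840 := by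
  have h := Cfsg.Agent.S0288.result (F := ZMod 2) (q := 2) (ZMod.card 2) 3 (by norm_num) 1 1 hab2
  have e : (3 - 1 : ℕ) = 2 := rfl
  rw [e] at h
  rw [h]
  decide

theorem fact_O6 : (Nat.card O6).factorization 2 = 7 := by
  rw [card_O6]
  apply factorization_two_of_dvd <;> norm_num

/-- every subgroup of order `2 ^ 7` of `O₆⁻(2)` is isomorphic to every Sylow `2`-subgroup of
`S₈` -/
theorem iso_S8_O6 (P : Sylow 2 (Equiv.Perm (Fin 8))) (B : Subgroup O6)
    (hB : Nat.card B = 2 ^ 7) :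
    Nonempty (↥(P : Subgroup (Equiv.Perm (Fin 8))) ≃* ↥B) := by
  haveI : Fact (Nat.Prime 2) := ⟨Nat.prime_two⟩
  haveI : Finite O6 := by
    apply Nat.finite_of_card_ne_zero
    rw [card_O6]
    norm_num
  obtain ⟨e1⟩ := sylow_iso fact_S8 TB.sub (by rw [TB.card_sub]; norm_num) P
  obtain ⟨e2⟩ := iso_of_card_eq fact_O6 TB'.sub B (by rw [TB'.card_sub]; norm_num) hB
  exact ⟨(e1.trans (TB.iso TB' rfl)).trans e2⟩

end Cfsg.Agent.Lib.Helper9.SyT
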