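import Mathlib
import Cfsg.Prelude.Def_ChevStructure
import Cfsg.Agent.Lib.Helper1.InvolN
import Cfsg.Agent.Lib.Helper1.InvolMoves
import Cfsg.Agent.Lib.Helper2.WcS7
import Cfsg.Agent.Lib.Helper5.ChevW0
import Cfsg.Agent.Lib.Helper5.ChevGen
import Cfsg.Agent.Lib.Helper5.ChevNormal
import Cfsg.Agent.Lib.Helper5.ChevWKer
import Cfsg.Agent.Lib.Helper5.ChevMonoN
import Cfsg.Agent.Lib.Helper5.ChevTorusCard

set_option autoImplicit false

/-!
Involutions of `N` in a Chevalley group (seven types, odd `q`): exact signs of the conjugation by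
`n_w`, the action of `n_w h` on root elements, and the torus action of `h_r(β)`.
-/

namespace Cfsg.Agent.Lib.Helper9.InvolX

open Cfsg Cfsg.Lie Cfsg.Agent.Lib.Helper5.ChevSym Cfsg.Agent.Lib.Helper5.ChevStruct

variable {F : Type*} [Field F]

/-- the sign of the conjugation of `x_r` by `n_w` -/
def wEps (D : ChevalleyDatum) : List ℕ → ℕ → ℤ
  | [], _ => 1
  | i :: w, r => eta D i (wAct D w r) * wEps D w r

theorem wEps_sq (D : ChevalleyDatum) (hD : D ∈ Seven) (w : List ℕ) (hw : Wd D w) (r : ℕ)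
    (hr : r < D.nroots) : wEps D w r = 1 ∨ wEps D w r = -1 := by
  induction w with
  | nil => exact Or.inl rfl
  | cons i w ih =>
    have hi := hw i (List.mem_cons_self ..)
    have hw' : Wd D w := fun j hj => hw j (List.mem_cons_of_mem _ hj)
    have hr' := wAct_lt D hD w hw' r hr
    have e4 : wEps D (i :: w) r = eta D i (wAct D w r) * wEps D w r := rfl
    rw [e4]
    rcases eta_sq D hD i hi _ hr' with h1 | h1 <;> rcases ih hw' with h2 | h2 <;>
      rw [h1, h2] <;> simp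

theorem wEps_cast_ne_zero (D : ChevalleyDatum) (hD : D ∈ Seven) (w : List ℕ) (hw : Wd D w)
    (r : ℕ) (hr : r < D.nroots) : ((wEps D w r : ℤ) : F) ≠ 0 := by
  rcases wEps_sq D hD w hw r hr with h | h <;> rw [h] <;> simp

theorem wEps_cast_mul_self (D : ChevalleyDatum) (hD : D ∈ Seven) (w : List ℕ) (hw : Wd D w)
    (r : ℕ) (hr : r < D.nroots) : ((wEps D w r : ℤ) : F) * ((wEps D w r : ℤ) : F) = 1 := by
  rcases wEps_sq D hD w hw r hr with h | h <;> rw [h] <;> simp

/-- exact conjugation of a root element by `n_w` -/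
theorem wGL_conj_eps (D : ChevalleyDatum) (hD : D ∈ Seven) (w : List ℕ) (hw : Wd D w) (r : ℕ)
    (hr : r < D.nroots) (t : F) :
    wGL D hD w * xGL D hD r t * (wGL D hD w)⁻¹
      = xGL D hD (wAct D w r) (((wEps D w r : ℤ) : F) * t) := by
  induction w with
  | nil => simp [wGL, wAct, wEps]
  | cons i w ih =>
    have hi := hw i (List.mem_cons_self ..)
    have hw' : Wd D w := fun j hj => hw j (List.mem_cons_of_mem _ hj)
    have hr' := wAct_lt D hD w hw' r hr
    have e2 : (wGL D hD (i :: w) * xGL D hD r t * (wGL D hD (i :: w))⁻¹ : GL D.Idx F)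
        = nGL D hD i * (wGL D hD w * xGL D hD r t * (wGL D hD w)⁻¹) * (nGL D hD i)⁻¹ := by
      rw [wGL_cons]
      group
    rw [e2, ih hw', Cfsg.Agent.Lib.Helper2.Wc.nGL_conj_xGL D hD i hi _ hr']
    have e3 : wAct D (i :: w) r = D.reflectRoot i (wAct D w r) := rfl
    have e4 : wEps D (i :: w) r = eta D i (wAct D w r) * wEps D w r := rfl
    rw [e3, e4]
    congr 1
    push_cast
    ring

/-- the action of `n_w h` on a root element -/
theorem nh_conj_x (D : ChevalleyDatum) (hD : D ∈ Seven) (w : List ℕ) (hw : Wd D w)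
    (h : GL D.Idx F) (c : ℕ → F) (hc : ∀ i, c i ≠ 0)
    (hmat : (h : Matrix D.Idx D.Idx F) = torusMat D c) (r : ℕ) (hr : r < D.nroots) (t : F) :
    (wGL D hD w * h) * xGL D hD r t * (wGL D hD w * h)⁻¹
      = xGL D hD (wAct D w r) (((wEps D w r : ℤ) : F) * chi D c r * t) := by
  have h1 := torus_conj_x D hD h (xGL D hD r t) c hc hmat r t (xGL_val _ _ _ _)
  have h1' : h * xGL D hD r t * h⁻¹ = xGL D hD r (chi D c r * t) :=
    Units.ext (by rw [h1, xGL_val])
  calc (wGL D hD w * h) * xGL D hD r t * (wGL D hD w * h)⁻¹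
      = wGL D hD w * (h * xGL D hD r t * h⁻¹) * (wGL D hD w)⁻¹ := by group
    _ = _ := by rw [h1', wGL_conj_eps D hD w hw r hr, mul_assoc]

/-- the pairing `⟨s, r^∨⟩` -/
def pairZ (D : ChevalleyDatum) (r s : ℕ) : ℤ :=
  ((List.range D.rank).map fun i => ((D.coroot.getD r #[]).getD i 0) * D.cartan i s).sum

/-- the action of `h_r(β)` on a root element -/
theorem hGL_conj_x_gen (D : ChevalleyDatum) (hD : D ∈ Seven) (r : ℕ) (hr : r < D.nroots) (β : F)
    (hβ : β ≠ 0) (s : ℕ) (t : F) :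
    hGL D hD r β * xGL D hD s t * (hGL D hD r β)⁻¹ = xGL D hD s (β ^ (pairZ D r s) * t) := by
  have hmat : ((hGL D hD r β : GL D.Idx F) : Matrix D.Idx D.Idx F)
      = torusMat D (fun i => β ^ ((D.coroot.getD r #[]).getD i 0)) := by
    rw [hGL_val, hMat_eq_torusMat D hD r hr β hβ]
  have h1 := torus_conj_x D hD (hGL D hD r β) (xGL D hD s t) _ (fun i => zpow_ne_zero _ hβ) hmat s t
    (xGL_val _ _ _ _)
  apply Units.ext
  rw [h1, xGL_val]
  congr 2
  unfold chi pairZ
  exact prod_zpow_eq β hβ _ _ _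

theorem hGL_mem_diagonal (D : ChevalleyDatum) (hD : D ∈ Seven) (r : ℕ) (hr : r < D.nroots) (β : F)
    (hβ : β ≠ 0) : hGL D hD r β ∈ D.diagonalSubgroup F :=
  Subgroup.subset_closure ⟨r, β, hr, hβ, hGL_val D hD r β⟩

end Cfsg.Agent.Lib.Helper9.InvolX
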