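import Mathlib

set_option autoImplicit false

/-!
# Universality of the Steinberg cover (S2398): the abstract reduction

`Δ` perfect, `θ : Δ → Γ` with central kernel.  Suppose that every central extension of `θ(Δ)`
(given as `Ψ : Q → Γ` with central kernel and image containing `θ(Δ)`, for the group `Q` below)
receives a homomorphism `τ : Δ → Q` with `Ψ ∘ τ = θ`.  Then every homomorphism `σ : Δ → G₁` lifts
uniquely through every central extension `π₁ : E → G₁`.

`Q` is the commutator subgroup of the pullback `P = Δ ×_{G₁} E`; `P → Δ` is a central extension,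
and `Q → Δ → Γ` has central kernel because `x ↦ [k, x]` is a homomorphism from `P` to its centre
whenever `k` maps into the centre of `Δ`.
-/

namespace Cfsg.Agent.Lib.Helper9.StUni

open scoped commutatorElement

variable {Δ E G₁ Γ : Type*} [Group Δ] [Group E] [Group G₁] [Group Γ]

theorem conj_eq_of_central {G : Type*} [Group G] {x x' : G}
    (hx : x * x'⁻¹ ∈ Subgroup.center G) (g : G) : x * g * x⁻¹ = x' * g * x'⁻¹ := by
  have hu := Subgroup.mem_center_iff.1 hx
  calc x * g * x⁻¹ = (x * x'⁻¹) * (x' * g * x'⁻¹) * (x * x'⁻¹)⁻¹ := by group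
    _ = (x' * g * x'⁻¹) * (x * x'⁻¹) * (x * x'⁻¹)⁻¹ := by rw [hu]
    _ = x' * g * x'⁻¹ := by group

/-- a commutator depends only on its arguments modulo the centre -/
theorem comm_eq_of_central {G : Type*} [Group G] {x x' y y' : G}
    (hx : x * x'⁻¹ ∈ Subgroup.center G) (hy : y * y'⁻¹ ∈ Subgroup.center G) :
    x * y * x⁻¹ * y⁻¹ = x' * y' * x'⁻¹ * y'⁻¹ := by
  calc x * y * x⁻¹ * y⁻¹ = (x * y * x⁻¹) * y⁻¹ := by group
    _ = (x' * y * x'⁻¹) * y⁻¹ := by rw [conj_eq_of_central hx]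
    _ = x' * (y * x'⁻¹ * y⁻¹) := by group
    _ = x' * (y' * x'⁻¹ * y'⁻¹) := by rw [conj_eq_of_central hy]
    _ = x' * y' * x'⁻¹ * y'⁻¹ := by group

/-- two homomorphisms from a perfect group that differ by central elements are equal -/
theorem hom_eq_of_perfect (hperf : commutator Δ = ⊤) (τ τ' : Δ →* E)
    (h : ∀ d, τ d * (τ' d)⁻¹ ∈ Subgroup.center E) : τ = τ' := by
  have hle : commutator Δ ≤ τ.eqLocus τ' := by
    rw [commutator_eq_closure, Subgroup.closure_le]
    rintro x ⟨a, b, rfl⟩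
    show τ ⁅a, b⁆ = τ' ⁅a, b⁆
    rw [commutatorElement_def, map_mul, map_mul, map_mul, map_inv, map_inv, map_mul, map_mul,
      map_mul, map_inv, map_inv]
    exact comm_eq_of_central (h a) (h b)
  ext d
  have h1 : d ∈ τ.eqLocus τ' := hle (by rw [hperf]; exact Subgroup.mem_top d)
  exact h1

/-- the pullback of `σ` and `π₁` -/
def pullbackSub (σ : Δ →* G₁) (π₁ : E →* G₁) : Subgroup (Δ × E) :=
  (σ.comp (MonoidHom.fst Δ E)).eqLocus (π₁.comp (MonoidHom.snd Δ E))

theorem mem_pullbackSub (σ : Δ →* G₁) (π₁ : E →* G₁) (x : Δ × E) :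
    x ∈ pullbackSub σ π₁ ↔ σ x.1 = π₁ x.2 := Iff.rfl

/-- the projection of the pullback to `Δ` -/
def pullFst (σ : Δ →* G₁) (π₁ : E →* G₁) : ↥(pullbackSub σ π₁) →* Δ :=
  (MonoidHom.fst Δ E).comp (pullbackSub σ π₁).subtype

/-- the projection of the pullback to `E` -/
def pullSnd (σ : Δ →* G₁) (π₁ : E →* G₁) : ↥(pullbackSub σ π₁) →* E :=
  (MonoidHom.snd Δ E).comp (pullbackSub σ π₁).subtype

theorem pull_comm (σ : Δ →* G₁) (π₁ : E →* G₁) (x : ↥(pullbackSub σ π₁)) :
    σ (pullFst σ π₁ x) = π₁ (pullSnd σ π₁ x) := x.2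

theorem pullFst_surjective (σ : Δ →* G₁) (π₁ : E →* G₁) (hπ : Function.Surjective π₁) :
    Function.Surjective (pullFst σ π₁) := by
  intro d
  obtain ⟨e, he⟩ := hπ (σ d)
  exact ⟨⟨(d, e), he.symm⟩, rfl⟩

theorem pullFst_ker_le (σ : Δ →* G₁) (π₁ : E →* G₁) (hc : π₁.ker ≤ Subgroup.center E) :
    (pullFst σ π₁).ker ≤ Subgroup.center ↥(pullbackSub σ π₁) := by
  intro x hx
  rw [MonoidHom.mem_ker] at hx
  have h1 : (x : Δ × E).1 = 1 := hx
  have h2 : (x : Δ × E).2 ∈ π₁.ker := by
    rw [MonoidHom.mem_ker]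
    have := x.2
    rw [mem_pullbackSub, h1, map_one] at this
    exact this.symm
  have h3 := Subgroup.mem_center_iff.1 (hc h2)
  rw [Subgroup.mem_center_iff]
  intro y
  apply Subtype.ext
  apply Prod.ext
  · show (y : Δ × E).1 * (x : Δ × E).1 = (x : Δ × E).1 * (y : Δ × E).1
    rw [h1, mul_one, one_mul]
  · exact h3 (y : Δ × E).2

/-- if `k` maps into the centre of `Δ` under a central extension `p : P → Δ`, then `k` commutes
with the commutator subgroup of `P` -/
theorem commute_commutator_of_central {P : Type*} [Group P] (p : P →* Δ)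
    (hp : p.ker ≤ Subgroup.center P) (k : P) (hk : p k ∈ Subgroup.center Δ) (x : P)
    (hx : x ∈ commutator P) : k * x = x * k := by
  have hcen : ∀ y : P, (k * y * k⁻¹) * y⁻¹ ∈ Subgroup.center P := by
    intro y
    apply hp
    rw [MonoidHom.mem_ker, map_mul, map_mul, map_mul, map_inv, map_inv,
      (Subgroup.mem_center_iff.1 hk (p y)).symm]
    group
  have hle : commutator P ≤ Subgroup.centralizer {k} := by
    rw [commutator_eq_closure, Subgroup.closure_le]
    rintro x ⟨a, b, rfl⟩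
    rw [SetLike.mem_coe, Subgroup.mem_centralizer_iff]
    intro h hh
    rw [Set.mem_singleton_iff] at hh
    subst hh
    have h1 : h * ⁅a, b⁆ * h⁻¹ = ⁅a, b⁆ := by
      rw [commutatorElement_def]
      calc h * (a * b * a⁻¹ * b⁻¹) * h⁻¹
          = (h * a * h⁻¹) * (h * b * h⁻¹) * (h * a * h⁻¹)⁻¹ * (h * b * h⁻¹)⁻¹ := by group
        _ = a * b * a⁻¹ * b⁻¹ := comm_eq_of_central (hcen a) (hcen b)
    calc h * ⁅a, b⁆ = (h * ⁅a, b⁆ * h⁻¹) * h := by group
      _ = ⁅a, b⁆ * h := by rw [h1]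
  have := Subgroup.mem_centralizer_iff.1 (hle hx) k (Set.mem_singleton k)
  exact this

/-- the abstract reduction -/
theorem lift_unique_of_steinberg (hperf : commutator Δ = ⊤) (θ : Δ →* Γ)
    (hθ : θ.ker ≤ Subgroup.center Δ) (π₁ : E →* G₁) (hπ : Function.Surjective π₁)
    (hc : π₁.ker ≤ Subgroup.center E) (σ : Δ →* G₁)
    (hlift : ∀ Ψ : ↥(commutator ↥(pullbackSub σ π₁)) →* Γ,
      Ψ.ker ≤ Subgroup.center ↥(commutator ↥(pullbackSub σ π₁)) →
      (∀ d : Δ, ∃ q, Ψ q = θ d) →
      ∃ τ : Δ →* ↥(commutator ↥(pullbackSub σ π₁)), ∀ d, Ψ (τ d) = θ d) :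
    ∃! τ : Δ →* E, π₁.comp τ = σ := by
  have hpk := pullFst_ker_le σ π₁ hc
  have hps := pullFst_surjective σ π₁ hπ
  obtain ⟨τ, hτ⟩ := hlift (θ.comp ((pullFst σ π₁).comp (commutator ↥(pullbackSub σ π₁)).subtype))
    (by
      intro q hq
      rw [MonoidHom.mem_ker] at hq
      have hk : pullFst σ π₁ (q : ↥(pullbackSub σ π₁)) ∈ Subgroup.center Δ :=
        hθ (MonoidHom.mem_ker.2 hq)
      rw [Subgroup.mem_center_iff]
      intro y
      apply Subtype.ext
      exact (commute_commutator_of_central (pullFst σ π₁) hpk q hk y y.2).symm)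
    (by
      intro d
      have h1 : (commutator ↥(pullbackSub σ π₁)).map (pullFst σ π₁) = ⊤ := by
        rw [commutator_def, Subgroup.map_commutator, Subgroup.map_top_of_surjective _ hps,
          ← commutator_def, hperf]
      have h2 : d ∈ (commutator ↥(pullbackSub σ π₁)).map (pullFst σ π₁) := by
        rw [h1]; exact Subgroup.mem_top d
      obtain ⟨x, hx, rfl⟩ := h2
      exact ⟨⟨x, hx⟩, rfl⟩)
  -- the composite `Δ → Q → P → Δ` is the identity
  have hid : (pullFst σ π₁).comp ((commutator ↥(pullbackSub σ π₁)).subtype.comp τ)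
      = MonoidHom.id Δ := by
    apply hom_eq_of_perfect hperf
    intro d
    apply hθ
    rw [MonoidHom.mem_ker, map_mul, map_inv, MonoidHom.id_apply]
    have := hτ d
    simp only [MonoidHom.comp_apply] at this ⊢
    rw [this, mul_inv_cancel]
  have hsec : ∀ d, pullFst σ π₁ ((commutator ↥(pullbackSub σ π₁)).subtype (τ d)) = d :=
    fun d => DFunLike.congr_fun hid d
  refine ⟨(pullSnd σ π₁).comp ((commutator ↥(pullbackSub σ π₁)).subtype.comp τ), ?_, ?_⟩
  · ext d
    show π₁ (pullSnd σ π₁ ((commutator ↥(pullbackSub σ π₁)).subtype (τ d))) = σ d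
    rw [← pull_comm, hsec]
  · intro τ' hτ'
    apply hom_eq_of_perfect hperf
    intro d
    apply hc
    rw [MonoidHom.mem_ker, map_mul, map_inv]
    have e1 : π₁ (τ' d) = σ d := DFunLike.congr_fun hτ' d
    have e2 : π₁ (((pullSnd σ π₁).comp ((commutator ↥(pullbackSub σ π₁)).subtype.comp τ)) d)
        = σ d := by
      show π₁ (pullSnd σ π₁ ((commutator ↥(pullbackSub σ π₁)).subtype (τ d))) = σ d
      rw [← pull_comm, hsec]
    rw [e1, e2, mul_inv_cancel]

end Cfsg.Agent.Lib.Helper9.StUni
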