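import Mathlib
import Cfsg.Agent.Lib.Helper8.StLiftG

set_option autoImplicit false

/-!
# Universality of the Steinberg cover (S2398): (LC) for the roots that pair evenly with all coroots

For the long roots `r` of `B₂` every pairing `⟨r, γ^∨⟩` is even and the torus argument of
`lc_of_good_root` is not available.  Instead: `x_r(±t) = x_m(·)⁻¹ [x_q(1)⁻¹, x_p(t)⁻¹]` for
suitable roots `p, q, m = p + q`, and lifts of `X_r` commute with lifts of `X_p, X_q, X_m`, because
`[X_r, X_a] = 1` and some `h_γ(c)` acts trivially on `X_r` and by `c^{±1}` on `X_a` (or by `c^{±2}`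
on `X_r` and trivially on `X_a`).
-/

namespace Cfsg.Agent.Lib.Helper9.StUni

open Cfsg Cfsg.Lie Cfsg.Agent.Lib.Helper5.ChevSym Cfsg.Agent.Lib.Helper5.ChevStruct
  Cfsg.Agent.Lib.Helper5.StPres Cfsg.Agent.Lib.Helper9.InvolX Cfsg.Agent.Lib.Helper8.StLift

variable {D : ChevalleyDatum} {hD : D ∈ Seven} {K : Type*} [Field K] {E : Type*} [Group E]
  (C : Ctx D hD K E)

/-- any lift of an element of `X_r` commutes with any lift of an element of `X_a` -/
def CommLift (r a : ℕ) : Prop :=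
  ∀ (e e' : E) (t u : K), C.Ψ e = xGL D hD r t → C.Ψ e' = xGL D hD a u → e * e' = e' * e

theorem commLift_of_torus (hK : FieldOK K) (r a γ : ℕ) (hr : r < D.nroots) (ha : a < D.nroots)
    (hγ : γ < D.nroots)
    (hcomm : ∀ t u : K, xGL D hD r t * xGL D hD a u = xGL D hD a u * xGL D hD r t)
    (hp : (pairZ D γ r = 0 ∧ (pairZ D γ a = 1 ∨ pairZ D γ a = -1)) ∨
      ((pairZ D γ r = 2 ∨ pairZ D γ r = -2) ∧ pairZ D γ a = 0)) : CommLift C r a := by
  set f : K → K → E := fun t u => C.xl r t * C.xl a u * (C.xl r t)⁻¹ * (C.xl a u)⁻¹ with hf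
  have hcen : ∀ t u, f t u ∈ Subgroup.center E := by
    intro t u
    apply C.central_of_Ψ_one
    simp only [hf]
    rw [map_mul, map_mul, map_mul, map_inv, map_inv, C.Ψ_xl, C.Ψ_xl, hcomm t u]
    group
  have hl : ∀ t t' u, f (t + t') u = f t u * f t' u := by
    intro t t' u
    have h1 : f (t + t') u = (C.xl r t * C.xl r t') * C.xl a u * (C.xl r t * C.xl r t')⁻¹
        * (C.xl a u)⁻¹ := by
      simp only [hf]
      apply comm_lift_indep C.Ψ C.hc _ rfl
      rw [map_mul, C.Ψ_xl, C.Ψ_xl, C.Ψ_xl, xGL_add D hD r hr]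
    have hc := Subgroup.mem_center_iff.1 (hcen t' u)
    rw [h1]
    have h2 : (C.xl r t * C.xl r t') * C.xl a u * (C.xl r t * C.xl r t')⁻¹ * (C.xl a u)⁻¹
        = C.xl r t * f t' u * (C.xl r t)⁻¹ * f t u := by
      simp only [hf]
      group
    rw [h2, hc (C.xl r t)]
    have h3 : f t' u * C.xl r t * (C.xl r t)⁻¹ * f t u = f t' u * f t u := by group
    rw [h3, ← hc (f t u)]
  have hr' : ∀ t u u', f t (u + u') = f t u * f t u' := by
    intro t u u'
    have h1 : f t (u + u') = C.xl r t * (C.xl a u * C.xl a u') * (C.xl r t)⁻¹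
        * (C.xl a u * C.xl a u')⁻¹ := by
      simp only [hf]
      apply comm_lift_indep C.Ψ C.hc rfl
      rw [map_mul, C.Ψ_xl, C.Ψ_xl, C.Ψ_xl, xGL_add D hD a ha]
    have hc := Subgroup.mem_center_iff.1 (hcen t u')
    rw [h1]
    have h2 : C.xl r t * (C.xl a u * C.xl a u') * (C.xl r t)⁻¹ * (C.xl a u * C.xl a u')⁻¹
        = f t u * (C.xl a u * f t u' * (C.xl a u)⁻¹) := by
      simp only [hf]
      group
    rw [h2, hc (C.xl a u)]
    group
  have hinv1 : ∀ (c : K), c ≠ 0 → ∀ t u,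
      f (c ^ (pairZ D γ r) * t) (c ^ (pairZ D γ a) * u) = f t u := by
    intro c hc0 t u
    set eh := C.hl γ c with heh
    have hΨeh : C.Ψ eh = hGL D hD γ c := C.Ψ_hl γ hγ c hc0
    have hc := Subgroup.mem_center_iff.1 (hcen t u) eh
    have h1 : eh * f t u * eh⁻¹ = (eh * C.xl r t * eh⁻¹) * (eh * C.xl a u * eh⁻¹)
        * (eh * C.xl r t * eh⁻¹)⁻¹ * (eh * C.xl a u * eh⁻¹)⁻¹ := by
      simp only [hf]
      group
    have h2 : eh * f t u * eh⁻¹ = f t u := by
      rw [hc]
      group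
    rw [← h2, h1]
    simp only [hf]
    apply comm_lift_indep C.Ψ C.hc
    · rw [map_mul, map_mul, map_inv, hΨeh, C.Ψ_xl, C.Ψ_xl, hGL_conj_x_gen D hD γ hγ c hc0]
    · rw [map_mul, map_mul, map_inv, hΨeh, C.Ψ_xl, C.Ψ_xl, hGL_conj_x_gen D hD γ hγ c hc0]
  have hone : ∀ t u, f t u = 1 := by
    rcases hp with ⟨h0, h1⟩ | ⟨h2, h0⟩
    · -- `h_γ(c)` fixes `X_r` and scales `X_a` by `c^{±1}`
      obtain ⟨c, hc0, hc1⟩ := hK.pw 1 (by norm_num) (by norm_num)
      rw [pow_one] at hc1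
      apply center_biadd_right f hcen hr' c hc1
      intro t u
      rcases h1 with h1 | h1
      · have := hinv1 c hc0 t u
        rwa [h0, h1, zpow_zero, one_mul, zpow_one] at this
      · have := hinv1 c⁻¹ (inv_ne_zero hc0) t u
        rwa [h0, h1, zpow_zero, one_mul, zpow_neg_one, inv_inv] at this
    · -- `h_γ(c)` scales `X_r` by `c^{±2}` and fixes `X_a`
      obtain ⟨c, hc0, hc1⟩ := hK.pw 2 (by norm_num) (by norm_num)
      have key := center_biadd_right (fun u t => f t u) (fun u t => hcen t u)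
        (fun u t t' => hl t t' u) (c ^ 2) hc1 (by
          intro u t
          show f (c ^ 2 * t) u = f t u
          rcases h2 with h2 | h2
          · have := hinv1 c hc0 t u
            rwa [h0, h2, zpow_zero, one_mul, zpow_two, ← pow_two] at this
          · have := hinv1 c⁻¹ (inv_ne_zero hc0) t u
            rw [h0, h2, zpow_zero, one_mul, zpow_neg, inv_zpow, inv_inv, zpow_two, ← pow_two]
              at this
            exact this)
      intro t u
      exact key u t
  intro e e' t u he he'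
  have h2 : C.xl r t * C.xl a u = C.xl a u * C.xl r t := by
    have h1 := hone t u
    simp only [hf] at h1
    have : C.xl r t * C.xl a u = (C.xl r t * C.xl a u * (C.xl r t)⁻¹ * (C.xl a u)⁻¹)
        * (C.xl a u * C.xl r t) := by group
    rw [this, h1, one_mul]
  have h3 : e * C.xl a u = C.xl a u * e :=
    commute_lift_indep C.Ψ C.hc (by rw [C.Ψ_xl, he]) h2
  exact (commute_lift_indep C.Ψ C.hc (by rw [C.Ψ_xl, he']) h3.symm).symm

/-- (LC) at `r`, when `x_r(c₂ (-t) u²)` is the second term of the commutator formula of `(p, q)` and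
lifts of `X_r` commute with lifts of `X_p`, `X_q`, `X_m` -/
theorem lc_of_decomp (r p q m : ℕ) (hp : p < D.nroots) (hq : q < D.nroots)
    (hqp : q ≠ p) (hqn : q ≠ D.neg p) (c1 c2 : ℤ)
    (hterms : D.commTerms p q = [(m, c1, 1, 1), (r, c2, 1, 2)]) (hc2 : c2 = 1 ∨ c2 = -1)
    (h1 : CommLift C r p) (h2 : CommLift C r q) (h3 : CommLift C r m)
    (e e' : E) (t u : K) (he : C.Ψ e = xGL D hD r t) (he' : C.Ψ e' = xGL D hD r u) :
    e * e' = e' * e := by
  have hcc : (c2 : K) * (c2 : K) = 1 := by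
    rcases hc2 with h | h <;> rw [h] <;> simp
  obtain ⟨t', ht'⟩ : ∃ t' : K, t' = -((c2 : K) * u) := ⟨_, rfl⟩
  obtain ⟨a, ha⟩ : ∃ a : K, a = (c1 : K) * (-t') ^ 1 * 1 ^ 1 := ⟨_, rfl⟩
  have key := xGL_comm D hD p q t' (1 : K) hp hq hqp hqn
  have hw : D.commWord K p q t' 1 = [(m, a), (r, u)] := by
    unfold ChevalleyDatum.commWord
    rw [hterms]
    simp only [List.map_cons, List.map_nil]
    rw [ha]
    congr 3
    rw [ht', pow_one, one_pow, mul_one, neg_neg, ← mul_assoc, hcc, one_mul]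
  have hw2 : wordGL D hD [(m, a), (r, u)] = xGL D hD m a * xGL D hD r u := by
    simp [wordGL]
  rw [hw, hw2] at key
  -- a lift of `x_r(u)` that commutes with `e`
  obtain ⟨e2, he2⟩ : ∃ e2 : E, e2 = (C.xl m a)⁻¹ * ((C.xl q 1)⁻¹ * (C.xl p t')⁻¹ * C.xl q 1
      * C.xl p t') := ⟨_, rfl⟩
  have hΨ : C.Ψ e2 = xGL D hD r u := by
    rw [he2, map_mul, map_mul, map_mul, map_mul, map_inv, map_inv, map_inv, C.Ψ_xl, C.Ψ_xl,
      C.Ψ_xl, key]
    group
  have c1' : Commute e (C.xl m a) := h3 e _ t a he (C.Ψ_xl m a)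
  have c2' : Commute e (C.xl q 1) := h2 e _ t 1 he (C.Ψ_xl q 1)
  have c3' : Commute e (C.xl p t') := h1 e _ t t' he (C.Ψ_xl p t')
  have hcm : Commute e e2 := by
    rw [he2]
    exact c1'.inv_right.mul_right
      (((c2'.inv_right.mul_right c3'.inv_right).mul_right c2').mul_right c3')
  have h4 : e2 * e = e * e2 := hcm.eq.symm
  exact (commute_lift_indep C.Ψ C.hc (by rw [hΨ, he']) h4).symm

end Cfsg.Agent.Lib.Helper9.StUni
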