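import Mathlib
import Cfsg.Agent.Lib.Helper8.StLiftC

set_option autoImplicit false

/-!
# Universality of the Steinberg cover (S2398): the facts of the field

Every field with more than four elements (finite or not) satisfies `FieldOK`.
-/

namespace Cfsg.Agent.Lib.Helper9.StUni

open Cfsg Cfsg.Lie Cfsg.Agent.Lib.Helper8.StLift Polynomial

variable {K : Type*} [Field K]

/-- a nonzero polynomial of degree at most four has a non-root in a field with more than four
elements -/
theorem exists_not_root (hK5 : ∃ s : Finset K, 4 < s.card) (p : K[X]) (hp : p ≠ 0)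
    (hd : p.natDegree ≤ 4) : ∃ a : K, p.eval a ≠ 0 := by
  obtain ⟨s, hs⟩ := hK5
  by_contra h
  push Not at h
  have hsub : s.val ⊆ p.roots := by
    intro a _
    exact (mem_roots hp).2 (h a)
  have := card_le_degree_of_subset_roots hsub
  omega

theorem fieldOK_of_five (hK5 : ∃ s : Finset K, 4 < s.card) : FieldOK K where
  pw := by
    intro n hn1 hn3
    have hq : (X ^ n - C (1 : K)) ≠ 0 := X_pow_sub_C_ne_zero (by omega) 1
    have hp : (X * (X ^ n - C (1 : K)) : K[X]) ≠ 0 := mul_ne_zero X_ne_zero hq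
    have hd : (X * (X ^ n - C (1 : K)) : K[X]).natDegree ≤ 4 := by
      rw [natDegree_mul X_ne_zero hq, natDegree_X, natDegree_X_pow_sub_C]
      omega
    obtain ⟨a, ha⟩ := exists_not_root hK5 _ hp hd
    rw [eval_mul, eval_X, eval_sub, eval_pow, eval_X, eval_C] at ha
    exact ⟨a, left_ne_zero_of_mul ha, sub_ne_zero.1 (right_ne_zero_of_mul ha)⟩
  b := by
    have h1 : (X + C (1 : K)) ≠ 0 := (monic_X_add_C 1).ne_zero
    have hm2 : (X ^ 2 + (X + C (1 : K))).Monic := by
      apply monic_X_pow_add
      rw [degree_X_add_C]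
      norm_num
    have h2 : (X ^ 2 + (X + C (1 : K))) ≠ 0 := hm2.ne_zero
    have hp : (X * (X + C (1 : K)) * (X ^ 2 + (X + C (1 : K))) : K[X]) ≠ 0 :=
      mul_ne_zero (mul_ne_zero X_ne_zero h1) h2
    have hd2 : (X ^ 2 + (X + C (1 : K))).natDegree = 2 := by
      have : (X + C (1 : K)).natDegree < ((X : K[X]) ^ 2).natDegree := by
        rw [natDegree_X_add_C, natDegree_X_pow]
        norm_num
      rw [natDegree_add_eq_left_of_natDegree_lt this, natDegree_X_pow]
    have hd : (X * (X + C (1 : K)) * (X ^ 2 + (X + C (1 : K))) : K[X]).natDegree ≤ 4 := by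
      rw [natDegree_mul (mul_ne_zero X_ne_zero h1) h2, natDegree_mul X_ne_zero h1, natDegree_X,
        natDegree_X_add_C, hd2]
    obtain ⟨b, hb⟩ := exists_not_root hK5 _ hp hd
    rw [eval_mul, eval_mul, eval_X, eval_add, eval_add, eval_add, eval_pow, eval_X, eval_C] at hb
    refine ⟨b, left_ne_zero_of_mul (left_ne_zero_of_mul hb),
      right_ne_zero_of_mul (left_ne_zero_of_mul hb), ?_⟩
    have := right_ne_zero_of_mul hb
    rwa [← add_assoc] at this

end Cfsg.Agent.Lib.Helper9.StUni
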