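import Mathlib
import Cfsg.Agent.Lib.Helper8.StLiftI
import Cfsg.Agent.Lib.Helper5.StPres.Opp
import Cfsg.Agent.Lib.Helper5.ChevW0
import Cfsg.Agent.Lib.Helper5.ChevUOrd

set_option autoImplicit false

/-!
# Universality of the Steinberg cover (S2398): table checker for `Comb.pairPos`

For every pair of roots `(r, s)` a word of fundamental reflections, encoded as a natural number in
base `rank + 1` (first letter = least significant digit, letter `i` = digit `i + 1`).  The action
of the fundamental reflections on the roots and the positivity of a root are read off packed tables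
(one byte per root, one bit per root), which are verified once against the datum.
-/

namespace Cfsg.Agent.Lib.Helper9.StUni

open Cfsg Cfsg.Lie Cfsg.Agent.Lib.Helper5.ChevSym Cfsg.Agent.Lib.Helper5.ChevStruct
  Cfsg.Agent.Lib.Helper5.StPres Cfsg.Agent.Lib.Helper9.InvolX Cfsg.Agent.Lib.Helper8.StLift

/-- decode a word (the pattern matching on the code forces its evaluation) -/
def decW : ℕ → ℕ → ℕ → List ℕ
  | 0, _, _ => []
  | _ + 1, _, 0 => []
  | f + 1, B, k + 1 => ((k + 1) % B - 1) :: decW f B ((k + 1) / B)

theorem decW_wd (D : ChevalleyDatum) (hrk : 0 < D.rank) (f n : ℕ) :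
    Wd D (decW f (D.rank + 1) n) := by
  induction f generalizing n with
  | zero =>
    intro i hi
    simp [decW] at hi
  | succ f ih =>
    cases n with
    | zero =>
      intro i hi
      simp [decW] at hi
    | succ k =>
      intro i hi
      rw [decW] at hi
      rcases List.mem_cons.1 hi with rfl | hi
      · have h1 : (k + 1) % (D.rank + 1) < D.rank + 1 := Nat.mod_lt _ (Nat.succ_pos D.rank)
        omega
      · exact ih _ i hi

/-- force the evaluation of the argument (pattern matching) before applying `f` -/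
def forceN {α : Type} (f : ℕ → α) : ℕ → α
  | 0 => f 0
  | k + 1 => f (k + 1)

theorem forceN_eq {α : Type} (f : ℕ → α) (n : ℕ) : forceN f n = f n := by cases n <;> rfl

/-- the same for an integer -/
def forceZ {α : Type} (f : ℤ → α) : ℤ → α
  | Int.ofNat n => forceN (fun m => f (Int.ofNat m)) n
  | Int.negSucc n => forceN (fun m => f (Int.negSucc m)) n

theorem forceZ_eq {α : Type} (f : ℤ → α) (z : ℤ) : forceZ f z = f z := by
  cases z <;> simp [forceZ, forceN_eq]

/-! ### The packed tables -/

/-- eight packed reflection tables (one byte per root), one for each fundamental reflection -/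
structure RTab where
  t0 : ℕ
  t1 : ℕ
  t2 : ℕ
  t3 : ℕ
  t4 : ℕ
  t5 : ℕ
  t6 : ℕ
  t7 : ℕ

def RTab.sel (T : RTab) : ℕ → ℕ
  | 0 => T.t0
  | 1 => T.t1
  | 2 => T.t2
  | 3 => T.t3
  | 4 => T.t4
  | 5 => T.t5
  | 6 => T.t6
  | _ => T.t7

/-- the reflection `i` applied to the root `s`, from the packed tables -/
def reflF (T : RTab) (i s : ℕ) : ℕ := ((T.sel i) >>> (8 * s)) % 256

/-- the action of a word, from the packed tables -/
def wActF (T : RTab) (w : List ℕ) (r : ℕ) : ℕ := w.foldr (fun i r => reflF T i r) r

/-- positivity of a root in range: the positive roots are the upper half -/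
def posF (D : ChevalleyDatum) (x : ℕ) : Bool := Nat.ble (D.nroots / 2) x

/-- the packed tables agree with the datum -/
def tblOK (D : ChevalleyDatum) (T : RTab) : Bool :=
  (List.range D.rank).all fun i => (List.range D.nroots).all fun s =>
    Nat.beq (reflF T i s) (D.reflectRoot i s)

theorem reflF_eq (D : ChevalleyDatum) (T : RTab) (h : tblOK D T = true) (i s : ℕ)
    (hi : i < D.rank) (hs : s < D.nroots) : reflF T i s = D.reflectRoot i s := by
  unfold tblOK at h
  rw [List.all_eq_true] at h
  have := h i (List.mem_range.2 hi)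
  rw [List.all_eq_true] at this
  exact Nat.eq_of_beq_eq_true (this s (List.mem_range.2 hs))

theorem posF_iff (D : ChevalleyDatum) (hD : D ∈ Seven) (r : ℕ)
    (hr : r < D.nroots) : posF D r = true ↔ D.IsPosRoot r := by
  unfold posF
  rw [isPosRoot_iff D hD r, Nat.ble_eq]
  exact ⟨fun h => ⟨h, hr⟩, fun h => h.1⟩

theorem wActF_eq (D : ChevalleyDatum) (hD : D ∈ Seven) (T : RTab)
    (h : tblOK D T = true) (w : List ℕ) (hw : Wd D w) (r : ℕ) (hr : r < D.nroots) :
    wActF T w r = wAct D w r := by
  induction w with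
  | nil => rfl
  | cons i w ih =>
    have hw' : Wd D w := fun j hj => hw j (List.mem_cons_of_mem _ hj)
    have e1 : wActF T (i :: w) r = reflF T i (wActF T w r) := rfl
    have e2 : wAct D (i :: w) r = D.reflectRoot i (wAct D w r) := rfl
    rw [e1, e2, ih hw', reflF_eq D T h i _ (hw i List.mem_cons_self) (wAct_lt D hD w hw' r hr)]

/-- the root `wAct D w r` is positive -/
def posAct (D : ChevalleyDatum) (T : RTab) (w : List ℕ) (r : ℕ) : Bool := posF D (wActF T w r)

theorem posAct_iff (D : ChevalleyDatum) (hD : D ∈ Seven) (T : RTab)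
    (h : tblOK D T = true) (w : List ℕ) (hw : Wd D w) (r : ℕ) (hr : r < D.nroots) :
    posAct D T w r = true ↔ D.IsPosRoot (wAct D w r) := by
  unfold posAct
  rw [wActF_eq D hD T h w hw r hr, posF_iff D hD _ (wAct_lt D hD w hw r hr)]

/-! ### The checker -/

/-- the check for one pair -/
def chkOne (D : ChevalleyDatum) (T : RTab) (r s : ℕ) (w : List ℕ) : Bool :=
  posAct D T w r && posAct D T w s && (D.commTerms r s).all fun c => posAct D T w c.1

/-- the check for one row (`nr` is the opposite root) -/
def chkRowAux (D : ChevalleyDatum) (T : RTab) (r nr : ℕ) : ℕ → List ℕ → Bool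
  | _, [] => true
  | s, n :: ns =>
    (Nat.beq s r || Nat.beq s nr || chkOne D T r s (decW 100 (D.rank + 1) n))
      && chkRowAux D T r nr (s + 1) ns

def chkRow (D : ChevalleyDatum) (T : RTab) (r : ℕ) (row : List ℕ) : Bool :=
  Nat.beq row.length D.nroots && forceN (fun nr => chkRowAux D T r nr 0 row) (D.neg r)

/-- the check for consecutive rows, starting at the root `r` -/
def chkRows (D : ChevalleyDatum) (T : RTab) : ℕ → List (List ℕ) → Bool
  | _, [] => true
  | r, row :: rows => chkRow D T r row && chkRows D T (r + 1) rows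

/-- the property `Comb.pairPos` for one root `r` -/
def PairPosAt (D : ChevalleyDatum) (r : ℕ) : Prop :=
  ∀ s, s < D.nroots → s ≠ r → s ≠ D.neg r →
    ∃ w, Wd D w ∧ D.IsPosRoot (wAct D w r) ∧ D.IsPosRoot (wAct D w s) ∧
      ∀ c ∈ D.commTerms r s, D.IsPosRoot (wAct D w c.1)

theorem chkOne_spec (D : ChevalleyDatum) (hD : D ∈ Seven) (T : RTab)
    (h : tblOK D T = true) (r s : ℕ) (hr : r < D.nroots) (hs : s < D.nroots) (hsr : s ≠ r)
    (hsn : s ≠ D.neg r) (w : List ℕ) (hw : Wd D w) (hc : chkOne D T r s w = true) :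
    D.IsPosRoot (wAct D w r) ∧ D.IsPosRoot (wAct D w s) ∧
      ∀ c ∈ D.commTerms r s, D.IsPosRoot (wAct D w c.1) := by
  unfold chkOne at hc
  rw [Bool.and_eq_true, Bool.and_eq_true, List.all_eq_true] at hc
  exact ⟨(posAct_iff D hD T h w hw r hr).1 hc.1.1, (posAct_iff D hD T h w hw s hs).1 hc.1.2,
    fun c hcm => (posAct_iff D hD T h w hw c.1 (commTerms_lt hD r s hr hs hsr hsn c hcm)).1
      (hc.2 c hcm)⟩

theorem chkRowAux_spec (D : ChevalleyDatum) (hD : D ∈ Seven) (hrk : 0 < D.rank) (T : RTab)
    (h : tblOK D T = true) (r : ℕ) (hr : r < D.nroots) (row : List ℕ) :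
    ∀ s0, chkRowAux D T r (D.neg r) s0 row = true → ∀ s, s0 ≤ s → s < s0 + row.length → s < D.nroots →
      s ≠ r → s ≠ D.neg r →
      ∃ w, Wd D w ∧ D.IsPosRoot (wAct D w r) ∧ D.IsPosRoot (wAct D w s) ∧
        ∀ c ∈ D.commTerms r s, D.IsPosRoot (wAct D w c.1) := by
  induction row with
  | nil =>
    intro s0 _ s h1 h2
    simp at h2
    omega
  | cons n ns ih =>
    intro s0 hc s h1 h2 hs hsr hsn
    unfold chkRowAux at hc
    rw [Bool.and_eq_true] at hc
    by_cases hs0 : s = s0
    · subst hs0
      have h3 := hc.1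
      rw [Bool.or_eq_true, Bool.or_eq_true] at h3
      rcases h3 with (h3 | h3) | h3
      · exact absurd (Nat.eq_of_beq_eq_true h3) hsr
      · exact absurd (Nat.eq_of_beq_eq_true h3) hsn
      · exact ⟨_, decW_wd D hrk _ _,
          chkOne_spec D hD T h r s hr hs hsr hsn _ (decW_wd D hrk _ _) h3⟩
    · apply ih (s0 + 1) hc.2 s (by omega) _ hs hsr hsn
      rw [List.length_cons] at h2
      omega

theorem chkRow_spec (D : ChevalleyDatum) (hD : D ∈ Seven) (hrk : 0 < D.rank) (T : RTab)
    (h : tblOK D T = true) (r : ℕ) (hr : r < D.nroots) (row : List ℕ)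
    (hc : chkRow D T r row = true) : PairPosAt D r := by
  unfold chkRow at hc
  rw [Bool.and_eq_true] at hc
  have hl : row.length = D.nroots := Nat.eq_of_beq_eq_true hc.1
  intro s hs hsr hsn
  have hc2 := hc.2
  rw [forceN_eq] at hc2
  exact chkRowAux_spec D hD hrk T h r hr row 0 hc2 s (Nat.zero_le _) (by omega) hs hsr hsn

theorem chkRows_spec (D : ChevalleyDatum) (hD : D ∈ Seven) (hrk : 0 < D.rank) (T : RTab)
    (h : tblOK D T = true) (rows : List (List ℕ)) :
    ∀ r0, chkRows D T r0 rows = true → ∀ r, r0 ≤ r → r < r0 + rows.length → r < D.nroots →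
      PairPosAt D r := by
  induction rows with
  | nil =>
    intro r0 _ r h1 h2
    simp at h2
    omega
  | cons row rows ih =>
    intro r0 hc r h1 h2 hr
    unfold chkRows at hc
    rw [Bool.and_eq_true] at hc
    by_cases hr0 : r = r0
    · subst hr0
      exact chkRow_spec D hD hrk T h r hr row hc.1
    · apply ih (r0 + 1) hc.2 r (by omega) _ hr
      rw [List.length_cons] at h2
      omega

/-! ### The pairings, from packed tables -/

/-- a signed nibble (offset 8) -/
def nibZ (X k : ℕ) : ℤ := Int.ofNat ((X >>> (4 * k)) % 16) - 8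

/-- the packed coroot table `C` (8 nibbles per root) and Cartan table `A` (256 nibbles per
fundamental root) agree with the datum -/
def pkOK (D : ChevalleyDatum) (C A : ℕ) : Bool :=
  ((List.range D.nroots).all fun r => (List.range D.rank).all fun i =>
    decide (nibZ C (8 * r + i) = (D.coroot.getD r #[]).getD i 0)) &&
  ((List.range D.rank).all fun i => (List.range D.nroots).all fun s =>
    decide (nibZ A (256 * i + s) = D.cartan i s))

/-- the pairing `⟨s, r^∨⟩` from the packed tables -/
def pairZF (rk C A r s : ℕ) : ℤ :=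
  ((List.range rk).map fun i => nibZ C (8 * r + i) * nibZ A (256 * i + s)).sum

theorem pairZ_eq (D : ChevalleyDatum) (C A : ℕ) (h : pkOK D C A = true) (r s : ℕ)
    (hr : r < D.nroots) (hs : s < D.nroots) : pairZ D r s = pairZF D.rank C A r s := by
  unfold pkOK at h
  rw [Bool.and_eq_true, List.all_eq_true, List.all_eq_true] at h
  unfold pairZ pairZF
  congr 1
  apply List.map_congr_left
  intro i hi
  have h1 := h.1 r (List.mem_range.2 hr)
  rw [List.all_eq_true] at h1
  have h2 := h.2 i hi
  rw [List.all_eq_true] at h2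
  rw [of_decide_eq_true (h1 i hi), of_decide_eq_true (h2 s (List.mem_range.2 hs))]

def chkSelfF (D : ChevalleyDatum) (C A : ℕ) : Bool :=
  (List.range D.nroots).all fun r => decide (pairZF D.rank C A r r = 2)

/-- the test of `Comb.prod` on the two pairings -/
def prodTest (x y : ℤ) : Bool :=
  decide (x = 0) || decide (x * y = 1) || decide (x * y = 2) || decide (x * y = 3)

/-- `Comb.prod` for the roots `r` with `lo ≤ r < lo + n` -/
def chkProdR (D : ChevalleyDatum) (C A lo n : ℕ) : Bool :=
  (List.range' lo n).all fun r => forceN (fun nr => (List.range D.nroots).all fun q =>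
    Nat.beq q r || Nat.beq q nr ||
      forceZ (fun x => forceZ (fun y => prodTest x y) (pairZF D.rank C A r q))
        (pairZF D.rank C A q r)) (D.neg r)

/-- the property `Comb.prod` for one root `r` -/
def ProdAt (D : ChevalleyDatum) (r : ℕ) : Prop :=
  ∀ q, q < D.nroots → q ≠ r → q ≠ D.neg r →
    pairZ D q r = 0 ∨ pairZ D q r * pairZ D r q = 1 ∨ pairZ D q r * pairZ D r q = 2 ∨
      pairZ D q r * pairZ D r q = 3

theorem chkProdR_spec (D : ChevalleyDatum) (C A : ℕ) (h : pkOK D C A = true) (lo n : ℕ)
    (hc : chkProdR D C A lo n = true) (r : ℕ) (h1 : lo ≤ r) (h2 : r < lo + n)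
    (hr : r < D.nroots) : ProdAt D r := by
  intro q hq hqr hqn
  unfold chkProdR at hc
  rw [List.all_eq_true] at hc
  have := hc r (List.mem_range'_1.2 ⟨h1, h2⟩)
  rw [forceN_eq, List.all_eq_true] at this
  have := this q (List.mem_range.2 hq)
  rw [forceZ_eq, forceZ_eq, ← pairZ_eq D C A h q r hq hr, ← pairZ_eq D C A h r q hr hq] at this
  unfold prodTest at this
  simp only [Bool.or_eq_true, decide_eq_true_eq] at this
  rcases this with (h5 | h5) | h5
  · exact absurd (Nat.eq_of_beq_eq_true h5) hqr
  · exact absurd (Nat.eq_of_beq_eq_true h5) hqn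
  · rcases h5 with ((h5 | h5) | h5) | h5
    · exact Or.inl h5
    · exact Or.inr (Or.inl h5)
    · exact Or.inr (Or.inr (Or.inl h5))
    · exact Or.inr (Or.inr (Or.inr h5))

def chkGoodF (D : ChevalleyDatum) (C A : ℕ) : Bool :=
  (List.range D.nroots).all fun r => (List.range D.nroots).any fun γ =>
    forceZ (fun x => decide (x = 1) || decide (x = -1)) (pairZF D.rank C A γ r)

/-- checker for `Comb.ord` (the positive roots are the upper half of the indices) -/
def chkOrdF (D : ChevalleyDatum) : Bool :=
  (List.range D.nroots).all fun k => (List.range D.nroots).all fun s =>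
    !(Nat.ble (D.nroots / 2) k && Nat.blt k s) ||
      (D.commTerms k s).all fun c => Nat.blt s c.1 && Nat.blt c.1 D.nroots

theorem good_of_fast (D : ChevalleyDatum) (C A : ℕ) (h : pkOK D C A = true)
    (hg : chkGoodF D C A = true) : Good D := by
  intro r hr
  unfold chkGoodF at hg
  rw [List.all_eq_true] at hg
  have := hg r (List.mem_range.2 hr)
  rw [List.any_eq_true] at this
  obtain ⟨γ, hγ, hg'⟩ := this
  have hγ' := List.mem_range.1 hγ
  rw [forceZ_eq, ← pairZ_eq D C A h γ r hγ' hr] at hg'
  simp only [Bool.or_eq_true, decide_eq_true_eq] at hg'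
  exact ⟨γ, hγ', hg'⟩

/-- `Comb` from the fast checkers and `PairPosAt` for all roots -/
theorem comb_of_fast (D : ChevalleyDatum) (hD : D ∈ Seven) (C A : ℕ) (h : pkOK D C A = true)
    (h1 : chkSelfF D C A = true) (h2 : ∀ r < D.nroots, ProdAt D r)
    (h3 : chkOrdF D = true) (h4 : ∀ r < D.nroots, PairPosAt D r) : Comb D where
  self := by
    intro r hr
    unfold chkSelfF at h1
    rw [List.all_eq_true] at h1
    rw [pairZ_eq D C A h r r hr hr]
    exact of_decide_eq_true (h1 r (List.mem_range.2 hr))
  prod := fun r q hr hq hqr hqn => h2 r hr q hq hqr hqn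
  ord := by
    intro k s hk hs hks c hc
    have hk' := (isPosRoot_iff D hD k).1 hk
    unfold chkOrdF at h3
    rw [List.all_eq_true] at h3
    have := h3 k (List.mem_range.2 hk.1)
    rw [List.all_eq_true] at this
    have := this s (List.mem_range.2 hs.1)
    rw [Bool.or_eq_true] at this
    rcases this with h5 | h5
    · exfalso
      rw [Bool.not_eq_true', Bool.and_eq_false_iff] at h5
      rcases h5 with h5 | h5
      · rw [Nat.ble_eq_true_of_le hk'.1] at h5
        exact Bool.noConfusion h5
      · have : Nat.blt k s = true := by rw [Nat.blt_eq]; exact hks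
        rw [this] at h5
        exact Bool.noConfusion h5
    · rw [List.all_eq_true] at h5
      have := h5 c hc
      rw [Bool.and_eq_true, Nat.blt_eq, Nat.blt_eq] at this
      refine ⟨this.1, (isPosRoot_iff D hD c.1).2 ⟨?_, this.2⟩⟩
      have := hk'.1
      omega
  pairPos := fun r s hr hs hsr hsn => h4 r hr s hs hsr hsn

end Cfsg.Agent.Lib.Helper9.StUni
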