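import Mathlib
import Cfsg.Agent.Lib.Helper9.StUniA

set_option autoImplicit false
set_option maxRecDepth 1000000

/-!
# Universality of the Steinberg cover (S2398): packed tables for type `B2`
(generated)
-/

namespace Cfsg.Agent.Lib.Helper9.StUni

open Cfsg Cfsg.Lie Cfsg.Agent.Lib.Helper5.ChevSym Cfsg.Agent.Lib.Helper5.ChevStruct
  Cfsg.Agent.Lib.Helper5.StPres Cfsg.Agent.Lib.Helper9.InvolX Cfsg.Agent.Lib.Helper8.StLift

theorem mem_B2 : chevB2 ∈ Seven := by simp [Seven]

def rtabB2 : RTab :=
  ⟨289921455100330243,
   505817143170892288,
   0,
   0,
   0,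
   0,
   0,
   0⟩

def corB2 : ℕ :=
  4124871841134878082064628081768308525163973569002771404707384172478583

def carB2 : ℕ :=
  414638098448997634569649562819119328449020178201977738924133239245510275954340964078539825529274667081728987446115426572891062538019584453165709131731818817119860033908059371857428581391658203712675149370817690657470871085563162061103055959792918794691269321630900810523355790865193469121143593332268901322728084514438

theorem tblOK_B2 : tblOK chevB2 rtabB2 = true := by decide +kernel

theorem pkOK_B2 : pkOK chevB2 corB2 carB2 = true := by decide +kernel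

theorem self_B2 : chkSelfF chevB2 corB2 carB2 = true := by decide +kernel

theorem prod_B2_0 : chkProdR chevB2 corB2 carB2 0 8 = true := by
  decide +kernel

theorem prodAt_B2 : ∀ r < chevB2.nroots, ProdAt chevB2 r := by
  intro r hr
  have hr' : r < 8 := hr
  by_cases h0 : r < 8
  · exact chkProdR_spec chevB2 corB2 carB2 pkOK_B2 0 8 prod_B2_0 r (by omega) (by omega) hr
  omega

theorem ord_B2 : chkOrdF chevB2 = true := by decide +kernel

end Cfsg.Agent.Lib.Helper9.StUni
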