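import Mathlib
import Cfsg.Agent.Lib.Helper9.StUniPkB2

set_option autoImplicit false
set_option maxRecDepth 1000000

/-!
# Universality of the Steinberg cover (S2398): word table for `Comb.pairPos`, type `B2`
(generated)
-/

namespace Cfsg.Agent.Lib.Helper9.StUni

open Cfsg Cfsg.Lie Cfsg.Agent.Lib.Helper5.ChevSym Cfsg.Agent.Lib.Helper5.ChevStruct
  Cfsg.Agent.Lib.Helper5.StPres Cfsg.Agent.Lib.Helper9.InvolX Cfsg.Agent.Lib.Helper8.StLift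

def tblB2_0 : List (List ℕ) :=
  [[0, 16, 16, 23, 5, 23, 5, 0],
   [23, 0, 16, 7, 16, 7, 0, 7],
   [5, 16, 0, 50, 1, 0, 1, 1],
   [23, 7, 50, 0, 0, 7, 2, 2],
   [5, 16, 1, 0, 0, 0, 0, 0],
   [23, 7, 0, 2, 0, 0, 0, 0],
   [5, 0, 1, 2, 0, 0, 0, 0],
   [0, 7, 1, 2, 0, 0, 0, 0]]

theorem tblB2_0_ok : chkRows chevB2 rtabB2 0 tblB2_0 = true := by
  decide +kernel

end Cfsg.Agent.Lib.Helper9.StUni
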