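import Mathlib
import Cfsg.Agent.Lib.Helper9.StUniPkB2
import Cfsg.Agent.Lib.Helper9.StUniTblB2

set_option autoImplicit false

/-!
# Universality of the Steinberg cover (S2398): `Comb` and `Good` for type `B2`
(generated)
-/

namespace Cfsg.Agent.Lib.Helper9.StUni

open Cfsg Cfsg.Lie Cfsg.Agent.Lib.Helper5.ChevSym Cfsg.Agent.Lib.Helper5.ChevStruct
  Cfsg.Agent.Lib.Helper5.StPres Cfsg.Agent.Lib.Helper9.InvolX Cfsg.Agent.Lib.Helper8.StLift

theorem pairPos_B2 : ∀ r < chevB2.nroots, PairPosAt chevB2 r := by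
  intro r hr
  have hn : chevB2.nroots = 8 := rfl
  have hr' : r < 8 := hr
  have hrk : 0 < chevB2.rank := by decide
  by_cases h0 : r < 8
  · exact chkRows_spec chevB2 mem_B2 hrk rtabB2 tblOK_B2 tblB2_0 0 tblB2_0_ok r (by omega)
      (by have : tblB2_0.length = 8 := by decide
          omega) hr
  omega

theorem comb_B2 : Comb chevB2 :=
  comb_of_fast chevB2 mem_B2 corB2 carB2 pkOK_B2 self_B2 prodAt_B2 ord_B2
    pairPos_B2

end Cfsg.Agent.Lib.Helper9.StUni
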