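import Mathlib
import Cfsg.Agent.Lib.Helper9.StUniA

set_option autoImplicit false
set_option maxRecDepth 1000000

/-!
# Universality of the Steinberg cover (S2398): packed tables for type `D4`
(generated)
-/

namespace Cfsg.Agent.Lib.Helper9.StUni

open Cfsg Cfsg.Lie Cfsg.Agent.Lib.Helper5.ChevSym Cfsg.Agent.Lib.Helper5.ChevStruct
  Cfsg.Agent.Lib.Helper5.StPres Cfsg.Agent.Lib.Helper9.InvolX Cfsg.Agent.Lib.Helper8.StLift

theorem mem_D4 : chevD4 ∈ Seven := by simp [Seven]

def rtabD4 : RTab :=
  ⟨565592643864087472290204273757603651193062799363369534976,
   541649279090809664310305499994679834166397163664360734721,
   565881119482020990812274433957960368099339668429056770816,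
   565978018496368764364970633948976412520310965285293195776,
   0,
   0,
   0,
   0⟩

def corD4 : ℕ :=
  14219294351303600275965138272804259824449665265158355619440216440690440086704772757933112110580358895149820067837957016027636328326114403928222662422252769537566392850918284470745683917603510001347689867544569567141340932765543

def carD4 : ℕ :=
  247177215451255356641829281645835254159333453413307861655203614228400711211889509101746912397110456096634995100131397865030375357508104584113518718125389139662636780034075092384805871326408952754907631460879447385036107268624017954462311729017980385182546318793942587927955978288877731204168515434653578923043344126790511926656823810034707234344619728167967917671940550074129296490678086240612183642759940167779941880740056990878147358496613256438010680117695182508896574278681224652441461255668163406014823926406012761389693637093208836769669408958322771756467706765117739997995793326594798240629948183481855051818091244812703669766469153950790641327839288384897238216030791015275806872839829446679456631070115516469005568007026970741369851466180339686240846382454674117819720200763446314221645777387906523505678857005275058610162718635363064535639521278103110775108015033995504660393887702075648710743785286543404674156368105470346005751577167635380088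

theorem tblOK_D4 : tblOK chevD4 rtabD4 = true := by decide +kernel

theorem pkOK_D4 : pkOK chevD4 corD4 carD4 = true := by decide +kernel

theorem self_D4 : chkSelfF chevD4 corD4 carD4 = true := by decide +kernel

theorem prod_D4_0 : chkProdR chevD4 corD4 carD4 0 24 = true := by
  decide +kernel

theorem prodAt_D4 : ∀ r < chevD4.nroots, ProdAt chevD4 r := by
  intro r hr
  have hr' : r < 24 := hr
  by_cases h0 : r < 24
  · exact chkProdR_spec chevD4 corD4 carD4 pkOK_D4 0 24 prod_D4_0 r (by omega) (by omega) hr
  omega

theorem goodchk_D4 : chkGoodF chevD4 corD4 carD4 = true := by decide +kernel

theorem ord_D4 : chkOrdF chevD4 = true := by decide +kernel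

end Cfsg.Agent.Lib.Helper9.StUni
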