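import Mathlib
import Cfsg.Agent.Lib.Helper9.StUniPkD4

set_option autoImplicit false
set_option maxRecDepth 1000000

/-!
# Universality of the Steinberg cover (S2398): word table for `Comb.pairPos`, type `D4`
(generated)
-/

namespace Cfsg.Agent.Lib.Helper9.StUni

open Cfsg Cfsg.Lie Cfsg.Agent.Lib.Helper5.ChevSym Cfsg.Agent.Lib.Helper5.ChevStruct
  Cfsg.Agent.Lib.Helper5.StPres Cfsg.Agent.Lib.Helper9.InvolX Cfsg.Agent.Lib.Helper8.StLift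

def tblD4_0 : List (List ℕ) :=
  [[0, 915292, 4861, 915292, 915292, 4861, 210558, 182738, 29589, 8486, 10863, 13964, 7309, 1488, 134042, 24047, 24667, 1464, 8683, 55917, 8422, 9042, 1472, 0],
   [134042, 0, 2172, 134042, 4861, 134042, 5297, 10863, 13964, 915292, 26488, 11183, 24047, 988, 238, 964, 2433, 972, 55917, 11183, 2172, 2792, 0, 222],
   [24047, 24047, 0, 4861, 24047, 4861, 10863, 961, 915292, 1464, 192, 54308, 192, 4597, 214, 24047, 972, 38, 8422, 2172, 211, 0, 292, 42],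
   [9042, 24667, 4861, 0, 24667, 47, 13964, 915292, 24667, 1488, 134042, 1183, 919, 236, 5558, 972, 1113, 39, 9042, 2792, 0, 236, 297, 47],
   [4597, 4861, 4597, 184, 0, 36, 915292, 1464, 1488, 4597, 4809, 24667, 36, 59, 972, 38, 38, 4597, 1472, 0, 292, 297, 59, 7],
   [4861, 972, 194, 972, 972, 0, 134042, 4809, 24667, 184, 214, 238, 8, 972, 7, 972, 38, 36, 0, 1, 9, 47, 1, 9],
   [55917, 55917, 10863, 13964, 915292, 134042, 0, 55917, 55917, 363, 89, 55917, 8422, 9042, 5361, 89, 2792, 0, 558, 55917, 434, 1808, 347, 97],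
   [8422, 10863, 8422, 915292, 1464, 24047, 8422, 0, 1736, 8422, 8422, 55917, 8422, 1472, 211, 1059, 0, 292, 336, 89, 17, 13, 67, 17],
   [9042, 13964, 915292, 9042, 1488, 4613, 9042, 1736, 0, 297, 8486, 9042, 1472, 9042, 22, 0, 111, 14, 9042, 72, 347, 111, 14, 22],
   [1472, 182738, 1464, 1488, 1472, 4597, 1736, 1472, 72, 0, 8422, 9042, 1472, 1472, 0, 292, 297, 294, 69, 67, 1472, 14, 1472, 2],
   [10863, 2172, 2172, 134042, 24047, 214, 2172, 2172, 55917, 8422, 0, 486, 42, 0, 222, 8, 8, 42, 89, 89, 3, 97, 17, 8],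
   [13964, 2792, 134042, 558, 197, 9, 2792, 55917, 113, 9042, 486, 0, 0, 111, 4, 222, 558, 47, 4, 2792, 19, 4, 22, 4],
   [7309, 24047, 292, 972, 292, 972, 339, 58, 1472, 292, 86, 0, 0, 0, 0, 0, 0, 0, 0, 0, 0, 0, 0, 0],
   [1488, 24667, 4597, 297, 297, 47, 9042, 1472, 297, 69, 0, 22, 0, 0, 0, 0, 0, 0, 0, 0, 0, 0, 0, 0],
   [24308, 222, 1072, 1183, 972, 222, 2433, 2172, 2792, 0, 19, 9, 0, 0, 0, 0, 0, 0, 0, 0, 0, 0, 0, 0],
   [24047, 1059, 42, 238, 7, 42, 89, 336, 0, 292, 17, 19, 0, 0, 0, 0, 0, 0, 0, 0, 0, 0, 0, 0],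
   [24667, 238, 194, 47, 39, 47, 2792, 0, 1183, 297, 222, 47, 0, 0, 0, 0, 0, 0, 0, 0, 0, 0, 0, 0],
   [4597, 972, 194, 184, 7, 7, 0, 292, 297, 2, 42, 47, 0, 0, 0, 0, 0, 0, 0, 0, 0, 0, 0, 0],
   [1736, 55917, 8422, 9042, 1472, 0, 347, 347, 14, 11, 3, 4, 0, 0, 0, 0, 0, 0, 0, 0, 0, 0, 0, 0],
   [55917, 238, 2172, 2792, 0, 1, 97, 447, 113, 347, 97, 4, 0, 0, 0, 0, 0, 0, 0, 0, 0, 0, 0, 0],
   [8422, 214, 336, 0, 292, 42, 89, 17, 347, 2, 17, 97, 0, 0, 0, 0, 0, 0, 0, 0, 0, 0, 0, 0],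
   [9042, 2792, 0, 111, 39, 47, 113, 347, 22, 363, 17, 22, 0, 0, 0, 0, 0, 0, 0, 0, 0, 0, 0, 0],
   [1472, 0, 292, 111, 11, 1, 347, 13, 59, 2, 17, 22, 0, 0, 0, 0, 0, 0, 0, 0, 0, 0, 0, 0],
   [0, 222, 42, 47, 7, 1, 97, 17, 22, 2, 19, 4, 0, 0, 0, 0, 0, 0, 0, 0, 0, 0, 0, 0]]

theorem tblD4_0_ok : chkRows chevD4 rtabD4 0 tblD4_0 = true := by
  decide +kernel

end Cfsg.Agent.Lib.Helper9.StUni
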