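import Mathlib
import Cfsg.Agent.Lib.Helper9.StUniPkD4
import Cfsg.Agent.Lib.Helper9.StUniTblD4

set_option autoImplicit false

/-!
# Universality of the Steinberg cover (S2398): `Comb` and `Good` for type `D4`
(generated)
-/

namespace Cfsg.Agent.Lib.Helper9.StUni

open Cfsg Cfsg.Lie Cfsg.Agent.Lib.Helper5.ChevSym Cfsg.Agent.Lib.Helper5.ChevStruct
  Cfsg.Agent.Lib.Helper5.StPres Cfsg.Agent.Lib.Helper9.InvolX Cfsg.Agent.Lib.Helper8.StLift

theorem pairPos_D4 : ∀ r < chevD4.nroots, PairPosAt chevD4 r := by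
  intro r hr
  have hn : chevD4.nroots = 24 := rfl
  have hr' : r < 24 := hr
  have hrk : 0 < chevD4.rank := by decide
  by_cases h0 : r < 24
  · exact chkRows_spec chevD4 mem_D4 hrk rtabD4 tblOK_D4 tblD4_0 0 tblD4_0_ok r (by omega)
      (by have : tblD4_0.length = 24 := by decide
          omega) hr
  omega

theorem comb_D4 : Comb chevD4 :=
  comb_of_fast chevD4 mem_D4 corD4 carD4 pkOK_D4 self_D4 prodAt_D4 ord_D4
    pairPos_D4

theorem good_D4 : Good chevD4 := good_of_fast chevD4 corD4 carD4 pkOK_D4 goodchk_D4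

end Cfsg.Agent.Lib.Helper9.StUni
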