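import Mathlib
import Cfsg.Agent.Lib.Helper9.StUniA

set_option autoImplicit false
set_option maxRecDepth 1000000

/-!
# Universality of the Steinberg cover (S2398): packed tables for type `F4`
(generated)
-/

namespace Cfsg.Agent.Lib.Helper9.StUni

open Cfsg Cfsg.Lie Cfsg.Agent.Lib.Helper5.ChevSym Cfsg.Agent.Lib.Helper5.ChevStruct
  Cfsg.Agent.Lib.Helper5.StPres Cfsg.Agent.Lib.Helper9.InvolX Cfsg.Agent.Lib.Helper8.StLift

theorem mem_F4 : chevF4 ∈ Seven := by simp [Seven]

def rtabF4 : RTab :=
  ⟨7261724565101152271001196648824430191705409898545041084742521782222439549395075633586971079114467536390968217567488,
   7261719905179377314326951809577084366435515108925945206036271551105028264520922437528663364052125838431098365018368,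
   7261125723798567773061544950201179012210677350992756811983071709623601191490907863340615466535151168674041335710208,
   7108411742389255762021063953019659246634323563397623500971045033854480450961950488139841120255260502304031118589953,
   0,
   0,
   0,
   0⟩

def corF4 : ℕ :=
  24661696428295183106638852597893669735023089398398850989246461173071375805076544092526544320029525548190471363703035458558426497541992926513253982805690380356654694819751771044151915217293863878927232899614810221413839646373510822412721019451005820575632661654018991898827555862211567961914441577705601517409927092890703422751731122749661232395104134815676368807431078427714189404608395136418046003833719996160594709315762241630170406780403574328117566661991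

def carF4 : ℕ :=
  21586095772419492653588364230075978566655415594941805533216827853166330273776370656991416642667261030222857333286941597247061929750400707239904955323780175611318384610913912944801477624225050576608771308549964989220667225148655566779199937941219167342756618524269464535512890903294992470813033094586288796823750607978524177625834228585979257948855204103569655881406614893724754212144617564459934022942678130330855269234503818040023015129425108744704412243179793230493268278254587354230939736547835734210947838494601735377027535989540859218895642072422105797071474360612911161447588070909725652478303657777929656821182486421506908864278968456235593461098775816052591131910998540390866524882297057595665095345926845862887641761095435407338845130236366781509030072289696237227775783991636777982637129846210509447429835593036812410864355654049579238424711734962010885080142254245748960935152916840857807072682674691428133279566615212196863435121744935185721226080745127580131078013614216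

theorem tblOK_F4 : tblOK chevF4 rtabF4 = true := by decide +kernel

theorem pkOK_F4 : pkOK chevF4 corF4 carF4 = true := by decide +kernel

theorem self_F4 : chkSelfF chevF4 corF4 carF4 = true := by decide +kernel

theorem prod_F4_0 : chkProdR chevF4 corF4 carF4 0 48 = true := by
  decide +kernel

theorem prodAt_F4 : ∀ r < chevF4.nroots, ProdAt chevF4 r := by
  intro r hr
  have hr' : r < 48 := hr
  by_cases h0 : r < 48
  · exact chkProdR_spec chevF4 corF4 carF4 pkOK_F4 0 48 prod_F4_0 r (by omega) (by omega) hr
  omega

theorem goodchk_F4 : chkGoodF chevF4 corF4 carF4 = true := by decide +kernel

theorem ord_F4 : chkOrdF chevF4 = true := by decide +kernel

end Cfsg.Agent.Lib.Helper9.StUni
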