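import Mathlib
import Cfsg.Agent.Lib.Helper9.StUniPkF4
import Cfsg.Agent.Lib.Helper9.StUniTblF4

set_option autoImplicit false

/-!
# Universality of the Steinberg cover (S2398): `Comb` and `Good` for type `F4`
(generated)
-/

namespace Cfsg.Agent.Lib.Helper9.StUni

open Cfsg Cfsg.Lie Cfsg.Agent.Lib.Helper5.ChevSym Cfsg.Agent.Lib.Helper5.ChevStruct
  Cfsg.Agent.Lib.Helper5.StPres Cfsg.Agent.Lib.Helper9.InvolX Cfsg.Agent.Lib.Helper8.StLift

theorem pairPos_F4 : ∀ r < chevF4.nroots, PairPosAt chevF4 r := by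
  intro r hr
  have hn : chevF4.nroots = 48 := rfl
  have hr' : r < 48 := hr
  have hrk : 0 < chevF4.rank := by decide
  by_cases h0 : r < 48
  · exact chkRows_spec chevF4 mem_F4 hrk rtabF4 tblOK_F4 tblF4_0 0 tblF4_0_ok r (by omega)
      (by have : tblF4_0.length = 48 := by decide
          omega) hr
  omega

theorem comb_F4 : Comb chevF4 :=
  comb_of_fast chevF4 mem_F4 corF4 carF4 pkOK_F4 self_F4 prodAt_F4 ord_F4
    pairPos_F4

theorem good_F4 : Good chevF4 := good_of_fast chevF4 corF4 carF4 pkOK_F4 goodchk_F4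

end Cfsg.Agent.Lib.Helper9.StUni
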