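import Mathlib
import Cfsg.Agent.Lib.Helper9.StUniB
import Cfsg.Agent.Lib.Helper9.StUniC
import Cfsg.Agent.Lib.Helper9.StUniF
import Cfsg.Agent.Lib.Helper9.StUniPPB2
import Cfsg.Agent.Lib.Helper9.StUniPPD4
import Cfsg.Agent.Lib.Helper9.StUniPPF4
import Cfsg.Agent.Lib.Helper8.StLiftJ
import Cfsg.Agent.Lib.Helper8.StSlE67
import Cfsg.Agent.Lib.Helper8.StSlE8
import Cfsg.Agent.Lib.Helper5.StPres.CoverMain
import Cfsg.Agent.S2395

set_option autoImplicit false

/-!
# Universality of the Steinberg cover (S2398): the theorem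

Over a field with more than four elements every homomorphism from the group `Δ` presented by
(R1), (R2) (types `G₂, B₂, D₄, F₄, E₆, E₇, E₈`) lifts uniquely through every central extension.
For `G₂, B₂, D₄, F₄` the lift to a central extension of the Chevalley group is Steinberg's (torus
argument, `Helper8.StLift.exists_lift`); for `E₆, E₇, E₈` it is the torus-free lift of
`Helper8.StSl`.
-/

namespace Cfsg.Agent.Lib.Helper9.StUni

open Cfsg Cfsg.Lie Cfsg.Agent.Lib.Helper5.ChevSym Cfsg.Agent.Lib.Helper5.ChevStruct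
  Cfsg.Agent.Lib.Helper5.StPres Cfsg.Agent.Lib.Helper9.InvolX Cfsg.Agent.Lib.Helper8.StLift

variable {K : Type*} [Field K]

/-- root elements commute when the commutator formula is empty -/
theorem xGL_commute_of_nil (D : ChevalleyDatum) (hD : D ∈ Seven) (r a : ℕ) (hr : r < D.nroots)
    (ha : a < D.nroots) (har : a ≠ r) (han : a ≠ D.neg r) (h : D.commTerms r a = [])
    (t u : K) : xGL D hD r t * xGL D hD a u = xGL D hD a u * xGL D hD r t := by
  have key := xGL_comm D hD r a t u hr ha har han
  have hw : D.commWord K r a t u = [] := by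
    unfold ChevalleyDatum.commWord
    rw [h]
    rfl
  rw [hw] at key
  have h1 : wordGL D hD ([] : List (ℕ × K)) = 1 := by simp [wordGL]
  rw [h1] at key
  calc xGL D hD r t * xGL D hD a u
      = xGL D hD a u * xGL D hD r t * ((xGL D hD a u)⁻¹ * (xGL D hD r t)⁻¹ * xGL D hD a u
        * xGL D hD r t)⁻¹ := by group
    _ = xGL D hD a u * xGL D hD r t := by rw [key, inv_one, mul_one]

section B2

variable {E : Type*} [Group E] (C : Ctx chevB2 mem_B2 K E)

/-- lifts of `X_r` and `X_a` commute, type `B₂`, by the torus element `h_γ` -/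
theorem commLift_B2 (hK : FieldOK K) (r a γ : ℕ) (hr : r < 8) (ha : a < 8) (hγ : γ < 8)
    (har : a ≠ r) (han : a ≠ chevB2.neg r) (h : chevB2.commTerms r a = [])
    (hp : (pairZ chevB2 γ r = 0 ∧ (pairZ chevB2 γ a = 1 ∨ pairZ chevB2 γ a = -1)) ∨
      ((pairZ chevB2 γ r = 2 ∨ pairZ chevB2 γ r = -2) ∧ pairZ chevB2 γ a = 0)) :
    CommLift C r a :=
  commLift_of_torus C hK r a γ hr ha hγ
    (xGL_commute_of_nil chevB2 mem_B2 r a hr ha har han h) hp

/-- (LC) for type `B₂` -/
theorem lc_B2 (hK : FieldOK K) : C.LC := by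
  intro r hr e e' t u he he'
  have hr' : r < 8 := hr
  interval_cases r
  · -- `r = 0`, long: `(p, q, m) = (3, 2, 1)`
    exact lc_of_decomp C 0 3 2 1 (by decide) (by decide) (by decide) (by decide) (-1) (-1)
      (by decide) (Or.inr rfl)
      (commLift_B2 C hK 0 3 0 (by decide) (by decide) (by decide) (by decide) (by decide)
        (by decide) (by decide))
      (commLift_B2 C hK 0 2 3 (by decide) (by decide) (by decide) (by decide) (by decide)
        (by decide) (by decide))
      (commLift_B2 C hK 0 1 3 (by decide) (by decide) (by decide) (by decide) (by decide)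
        (by decide) (by decide)) e e' t u he he'
  · exact lc_of_good_root C hK 1 (by decide) 0 (by decide) (by decide) e e' t u he he'
  · exact lc_of_good_root C hK 2 (by decide) 0 (by decide) (by decide) e e' t u he he'
  · -- `r = 3`, long: `(p, q, m) = (0, 5, 1)`
    exact lc_of_decomp C 3 0 5 1 (by decide) (by decide) (by decide) (by decide) 1 (-1)
      (by decide) (Or.inr rfl)
      (commLift_B2 C hK 3 0 3 (by decide) (by decide) (by decide) (by decide) (by decide)
        (by decide) (by decide))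
      (commLift_B2 C hK 3 5 0 (by decide) (by decide) (by decide) (by decide) (by decide)
        (by decide) (by decide))
      (commLift_B2 C hK 3 1 0 (by decide) (by decide) (by decide) (by decide) (by decide)
        (by decide) (by decide)) e e' t u he he'
  · -- `r = 4`, long: `(p, q, m) = (0, 6, 2)`
    exact lc_of_decomp C 4 0 6 2 (by decide) (by decide) (by decide) (by decide) (-1) 1
      (by decide) (Or.inl rfl)
      (commLift_B2 C hK 4 0 3 (by decide) (by decide) (by decide) (by decide) (by decide)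
        (by decide) (by decide))
      (commLift_B2 C hK 4 6 0 (by decide) (by decide) (by decide) (by decide) (by decide)
        (by decide) (by decide))
      (commLift_B2 C hK 4 2 0 (by decide) (by decide) (by decide) (by decide) (by decide)
        (by decide) (by decide)) e e' t u he he'
  · exact lc_of_good_root C hK 5 (by decide) 0 (by decide) (by decide) e e' t u he he'
  · exact lc_of_good_root C hK 6 (by decide) 0 (by decide) (by decide) e e' t u he he'
  · -- `r = 7`, long: `(p, q, m) = (4, 5, 6)`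
    exact lc_of_decomp C 7 4 5 6 (by decide) (by decide) (by decide) (by decide) 1 (-1)
      (by decide) (Or.inr rfl)
      (commLift_B2 C hK 7 4 0 (by decide) (by decide) (by decide) (by decide) (by decide)
        (by decide) (by decide))
      (commLift_B2 C hK 7 5 3 (by decide) (by decide) (by decide) (by decide) (by decide)
        (by decide) (by decide))
      (commLift_B2 C hK 7 6 3 (by decide) (by decide) (by decide) (by decide) (by decide)
        (by decide) (by decide)) e e' t u he he'

end B2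

/-- the core: from a lifting theorem for the central extensions of the Chevalley group -/
theorem uni_core (D : ChevalleyDatum) (hD : D ∈ Seven)
    (hperf : commutator (D.SteinbergCover K) = ⊤)
    {G₁ E : Type*} [Group G₁] [Group E] (π₁ : E →* G₁) (hπ : Function.Surjective π₁)
    (hc : π₁.ker ≤ Subgroup.center E) (σ : D.SteinbergCover K →* G₁)
    (hex : ∀ Ψ : ↥(commutator ↥(pullbackSub σ π₁)) →* GL D.Idx K,
      Ψ.ker ≤ Subgroup.center ↥(commutator ↥(pullbackSub σ π₁)) →
      (∀ g ∈ D.group K, ∃ e, Ψ e = g) →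
      ∃ τ : D.SteinbergCover K →* ↥(commutator ↥(pullbackSub σ π₁)),
        ∀ (r : ℕ) (t : K), r < D.nroots → Ψ (τ (D.scGen K r t)) = xGL D hD r t) :
    ∃! τ : D.SteinbergCover K →* E, π₁.comp τ = σ := by
  obtain ⟨θ, hθs, hθc, hθx⟩ := cover_main D hD K
  apply lift_unique_of_steinberg hperf ((D.group K).subtype.comp θ) _ π₁ hπ hc σ
  · intro Ψ hΨc hΨs
    obtain ⟨τ, hτ⟩ := hex Ψ hΨc (by
      intro g hg
      obtain ⟨d, hd⟩ := hθs ⟨g, hg⟩
      obtain ⟨q, hq⟩ := hΨs d
      refine ⟨q, ?_⟩
      rw [hq, MonoidHom.comp_apply, hd]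
      rfl)
    refine ⟨τ, ?_⟩
    have heq : Ψ.comp τ = (D.group K).subtype.comp θ := by
      apply cover_hom_ext
      intro r t hr
      rw [MonoidHom.comp_apply, MonoidHom.comp_apply]
      have h1 : Ψ (τ (D.scGen K r t)) = xGL D hD r t := hτ r t hr
      rw [h1]
      apply Units.ext
      rw [xGL_val]
      exact (hθx r t hr).symm
    intro d
    exact DFunLike.congr_fun heq d
  · intro x hx
    apply hθc
    rw [MonoidHom.mem_ker] at hx ⊢
    exact Subtype.ext hx

/-- the lifting hypothesis of `uni_core` from Steinberg's torus argument -/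
theorem hex_of_torus (D : ChevalleyDatum) (hD : D ∈ Seven) (hK : FieldOK K) (hcomb : Comb D)
    {Q : Type*} [Group Q] (hlc : ∀ C : Ctx D hD K Q, C.LC) (Ψ : Q →* GL D.Idx K)
    (hΨc : Ψ.ker ≤ Subgroup.center Q) (hΨs : ∀ g ∈ D.group K, ∃ e, Ψ e = g) :
    ∃ τ : D.SteinbergCover K →* Q,
      ∀ (r : ℕ) (t : K), r < D.nroots → Ψ (τ (D.scGen K r t)) = xGL D hD r t := by
  obtain ⟨a₀, ha0, ha2⟩ := hK.pw 2 (by norm_num) (by norm_num)
  let C : Ctx D hD K Q :=
    { Ψ := Ψ
      hc := hΨc
      hsurj := hΨs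
      a₀ := a₀
      ha0 := ha0
      ha2 := ha2 }
  exact exists_lift C (hlc C) hcomb hK

/-- **S2398** -/
theorem steinberg_cover_lift_unique (hK5 : ∃ s : Finset K, 4 < s.card) (D : ChevalleyDatum)
    (hD : D ∈ [chevG2, chevB2, chevD4, chevF4, chevE6, chevE7, chevE8])
    {G₁ E : Type*} [Group G₁] [Group E] (π₁ : E →* G₁) (hπ : Function.Surjective π₁)
    (hc : π₁.ker ≤ Subgroup.center E) (σ : D.SteinbergCover K →* G₁) :
    ∃! τ : D.SteinbergCover K →* E, π₁.comp τ = σ := by
  have hK := fieldOK_of_five hK5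
  have hperf : commutator (D.SteinbergCover K) = ⊤ := by
    apply Cfsg.Agent.S2395.result D hD
    intro _
    obtain ⟨a, ha0, ha1⟩ := hK.pw 1 (by norm_num) (by norm_num)
    rw [pow_one] at ha1
    exact ⟨a, ha0, ha1⟩
  have hD' := hD
  simp only [List.mem_cons, List.not_mem_nil, or_false] at hD'
  rcases hD' with rfl | rfl | rfl | rfl | rfl | rfl | rfl
  · exact uni_core chevG2 hD hperf π₁ hπ hc σ
      (hex_of_torus chevG2 hD hK comb_G2 (fun C => lc_of_good C good_G2 hK))
  · exact uni_core chevB2 hD hperf π₁ hπ hc σ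
      (hex_of_torus chevB2 hD hK comb_B2 (fun C => lc_B2 C hK))
  · exact uni_core chevD4 hD hperf π₁ hπ hc σ
      (hex_of_torus chevD4 hD hK comb_D4 (fun C => lc_of_good C good_D4 hK))
  · exact uni_core chevF4 hD hperf π₁ hπ hc σ
      (hex_of_torus chevF4 hD hK comb_F4 (fun C => lc_of_good C good_F4 hK))
  · exact uni_core chevE6 hD hperf π₁ hπ hc σ (fun Ψ hΨc hΨs =>
      Cfsg.Agent.Lib.Helper8.StSl.exists_lift_E6 ⟨Ψ, hΨc, hΨs⟩)
  · exact uni_core chevE7 hD hperf π₁ hπ hc σ (fun Ψ hΨc hΨs =>
      Cfsg.Agent.Lib.Helper8.StSl.exists_lift_E7 ⟨Ψ, hΨc, hΨs⟩)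
  · exact uni_core chevE8 hD hperf π₁ hπ hc σ (fun Ψ hΨc hΨs =>
      Cfsg.Agent.Lib.Helper8.StSl.exists_lift_E8 ⟨Ψ, hΨc, hΨs⟩)

end Cfsg.Agent.Lib.Helper9.StUni
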