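import Mathlib
import Cfsg.Agent.Lib.Helper1.TCSDefs

/-!
# S4284 piece G6: basic facts on a normal `p`-complement
-/

set_option autoImplicit false
set_option linter.unusedVariables false
set_option linter.unusedSectionVars false
set_option linter.style.longLine false
set_option linter.style.haveILetI false

namespace Cfsg.Agent.Lib.Helper1.TCS

open Cfsg.Agent.Lib.Helper8.CSG Cfsg.Agent.Lib.Helper1.PSG

variable {G : Type*} [Group G] [Finite G]

theorem npc_basic {p : ℕ} [Fact p.Prime] (K : Subgroup G) [K.Normal] (hK : (Nat.card K).Coprime p)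
    (hKi : ∃ e : ℕ, K.index = p ^ e) (P : Sylow p G) :
    (∀ g : G, (orderOf g).Coprime p → g ∈ K) ∧ K ⊓ (P : Subgroup G) = ⊥ ∧ K ⊔ (P : Subgroup G) = ⊤ ∧
      Nat.card K * Nat.card (P : Subgroup G) = Nat.card G := by
  have hp : p.Prime := Fact.out
  obtain ⟨e, he⟩ := hKi
  have hK0 : Nat.card K ≠ 0 := Nat.card_pos.ne'
  have hcard : Nat.card K * p ^ e = Nat.card G := by rw [← he]; exact Subgroup.card_mul_index K
  have hPcard : Nat.card (P : Subgroup G) = p ^ e := by
    rw [Sylow.card_eq_multiplicity P, ← hcard, Nat.factorization_mul hK0 (pow_ne_zero _ hp.ne_zero)]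
    simp only [Finsupp.coe_add, Pi.add_apply]
    rw [Nat.factorization_eq_zero_of_not_dvd ((Nat.Prime.coprime_iff_not_dvd hp).mp hK.symm),
      hp.factorization_pow]
    simp
  have hcop : (Nat.card K).Coprime (Nat.card (P : Subgroup G)) := by
    rw [hPcard]; exact Nat.Coprime.pow_right _ hK
  have hprod : Nat.card K * Nat.card (P : Subgroup G) = Nat.card G := by rw [hPcard]; exact hcard
  refine ⟨?_, (Subgroup.disjoint_of_coprime_natCard hcop).eq_bot, ?_, hprod⟩
  · intro g hg
    have h1 : orderOf (QuotientGroup.mk' K g) ∣ orderOf g := orderOf_map_dvd _ g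
    have h2 : orderOf (QuotientGroup.mk' K g) ∣ p ^ e := by
      rw [← he]; exact orderOf_dvd_natCard _
    have h3 : orderOf (QuotientGroup.mk' K g) = 1 :=
      Nat.eq_one_of_dvd_coprimes (Nat.Coprime.pow_right e hg) h1 h2
    rw [orderOf_eq_one_iff, QuotientGroup.mk'_apply, QuotientGroup.eq_one_iff] at h3
    exact h3
  · apply Subgroup.eq_top_of_le_card
    rw [← hprod]
    exact Nat.le_of_dvd Nat.card_pos (Nat.Coprime.mul_dvd_of_dvd_of_dvd hcop
      (Subgroup.card_dvd_of_le le_sup_left) (Subgroup.card_dvd_of_le le_sup_right))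

end Cfsg.Agent.Lib.Helper1.TCS
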