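import Mathlib
import Cfsg.Agent.Lib.Helper1.TCSDefs
import Cfsg.Agent.Lib.Helper9.TCSG6

/-!
# S4284 piece G5: class sizes in a semidirect product `K ⋊ P`
-/

set_option autoImplicit false
set_option linter.unusedVariables false
set_option linter.unusedSectionVars false
set_option linter.style.longLine false
set_option linter.style.haveILetI false

namespace Cfsg.Agent.Lib.Helper1.TCS

open Cfsg.Agent.Lib.Helper8.CSG Cfsg.Agent.Lib.Helper1.PSG

variable {G : Type*} [Group G] [Finite G]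

/-- `|H ⊓ K| * |K : H ⊓ K| = |K|` -/
theorem h9tcs_card_inf_mul_relIndex (H K : Subgroup G) :
    Nat.card (H ⊓ K : Subgroup G) * H.relIndex K = Nat.card K := by
  have h1 := Subgroup.relIndex_mul_relIndex (H := (⊥ : Subgroup G)) (K := H ⊓ K) (L := K) bot_le
    inf_le_right
  rw [Subgroup.relIndex_bot_left, Subgroup.relIndex_bot_left, Subgroup.inf_relIndex_right] at h1
  exact h1

theorem h9tcs_mem_Cz {g c : G} : c ∈ Cz g ↔ g * c = c * g := by
  unfold Cz
  rw [Subgroup.mem_centralizer_iff]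
  simp

theorem idx_semidirect {p : ℕ} [Fact p.Prime] (K : Subgroup G) [K.Normal] (hK : (Nat.card K).Coprime p)
    (hKi : ∃ e : ℕ, K.index = p ^ e) (P : Sylow p G) {t : G} (ht : t ∈ (P : Subgroup G)) :
    idx t = (Cz t).relIndex K * (Cz t).relIndex (P : Subgroup G) := by
  obtain ⟨-, hKP, hKPtop, hprod⟩ := npc_basic K hK hKi P
  -- the bijection `C_K(t) × C_P(t) ≃ C_G(t)`
  have hbij : Function.Bijective
      (fun x : ↥(Cz t ⊓ K : Subgroup G) × ↥(Cz t ⊓ (P : Subgroup G) : Subgroup G) =>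
        (⟨(x.1 : G) * (x.2 : G), (Cz t).mul_mem x.1.2.1 x.2.2.1⟩ : ↥(Cz t))) := by
    constructor
    · rintro ⟨⟨k, hk⟩, ⟨s, hs⟩⟩ ⟨⟨k', hk'⟩, ⟨s', hs'⟩⟩ h
      have h1 : k * s = k' * s' := congrArg Subtype.val h
      have h2 : k'⁻¹ * k = s' * s⁻¹ := by
        calc k'⁻¹ * k = k'⁻¹ * (k * s) * s⁻¹ := by group
          _ = k'⁻¹ * (k' * s') * s⁻¹ := by rw [h1]
          _ = s' * s⁻¹ := by group
      have h3 : k'⁻¹ * k ∈ K ⊓ (P : Subgroup G) := by
        refine ⟨K.mul_mem (K.inv_mem hk'.2) hk.2, ?_⟩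
        rw [h2]
        exact (P : Subgroup G).mul_mem hs'.2 ((P : Subgroup G).inv_mem hs.2)
      rw [hKP, Subgroup.mem_bot] at h3
      have h4 : k = k' := by
        calc k = k' * (k'⁻¹ * k) := by group
          _ = k' := by rw [h3, mul_one]
      subst h4
      have h5 : s = s' := mul_left_cancel h1
      subst h5
      rfl
    · rintro ⟨g, hg⟩
      have hgtop : g ∈ K ⊔ (P : Subgroup G) := by rw [hKPtop]; trivial
      obtain ⟨k, hk, s, hs, rfl⟩ := Subgroup.mem_sup_of_normal_left.mp hgtop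
      rw [h9tcs_mem_Cz] at hg
      -- `s t s⁻¹ t⁻¹ = k⁻¹ (t k t⁻¹) ∈ K ⊓ P`
      have h1 : s * t * s⁻¹ * t⁻¹ = k⁻¹ * (t * k * t⁻¹) := by
        calc s * t * s⁻¹ * t⁻¹ = k⁻¹ * (k * s * t) * s⁻¹ * t⁻¹ := by group
          _ = k⁻¹ * (t * (k * s)) * s⁻¹ * t⁻¹ := by rw [hg]
          _ = k⁻¹ * (t * k * t⁻¹) := by group
      have h2 : s * t * s⁻¹ * t⁻¹ ∈ K ⊓ (P : Subgroup G) := by
        refine ⟨?_, ?_⟩
        · rw [h1]
          exact K.mul_mem (K.inv_mem hk) (Subgroup.Normal.conj_mem inferInstance k hk t)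
        · exact (P : Subgroup G).mul_mem ((P : Subgroup G).mul_mem ((P : Subgroup G).mul_mem hs ht)
            ((P : Subgroup G).inv_mem hs)) ((P : Subgroup G).inv_mem ht)
      rw [hKP, Subgroup.mem_bot] at h2
      have hst : t * s = s * t := by
        calc t * s = (s * t * s⁻¹ * t⁻¹)⁻¹ * (s * t) := by group
          _ = s * t := by rw [h2, inv_one, one_mul]
      have hkt : t * k = k * t := by
        calc t * k = t * (k * s) * s⁻¹ := by group
          _ = k * s * t * s⁻¹ := by rw [hg]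
          _ = k * (s * t) * s⁻¹ := by group
          _ = k * (t * s) * s⁻¹ := by rw [hst]
          _ = k * t := by group
      exact ⟨(⟨k, h9tcs_mem_Cz.mpr hkt, hk⟩, ⟨s, h9tcs_mem_Cz.mpr hst, hs⟩), rfl⟩
  have hcardD : Nat.card (Cz t) = Nat.card (Cz t ⊓ K : Subgroup G) *
      Nat.card (Cz t ⊓ (P : Subgroup G) : Subgroup G) := by
    rw [← Nat.card_prod]
    exact (Nat.card_congr (Equiv.ofBijective _ hbij)).symm
  have h1 := h9tcs_card_inf_mul_relIndex (Cz t) K
  have h2 := h9tcs_card_inf_mul_relIndex (Cz t) (P : Subgroup G)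
  have h3 : Nat.card (Cz t) * idx t = Nat.card G := Subgroup.card_mul_index (Cz t)
  have hD0 : 0 < Nat.card (Cz t) := Nat.card_pos
  apply Nat.eq_of_mul_eq_mul_left hD0
  rw [h3, ← hprod, ← h1, ← h2, hcardD]
  ring

end Cfsg.Agent.Lib.Helper1.TCS
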