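import Mathlib
import Cfsg.Agent.Lib.Helper1.TCSDefs
import Cfsg.Agent.Lib.Helper9.TCSG5

/-!
# S4284 piece G9: the `p`-part of `idx g` divides `|P : C_P(g)|`
-/

set_option autoImplicit false
set_option linter.unusedVariables false
set_option linter.unusedSectionVars false
set_option linter.style.longLine false
set_option linter.style.haveILetI false

namespace Cfsg.Agent.Lib.Helper1.TCS

open Cfsg.Agent.Lib.Helper8.CSG Cfsg.Agent.Lib.Helper1.PSG

variable {G : Type*} [Group G] [Finite G]

theorem pow_dvd_relIndex_sylow {p : ℕ} [Fact p.Prime] (P : Sylow p G) (g : G) {j : ℕ}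
    (hj : p ^ j ∣ idx g) : p ^ j ∣ (Cz g).relIndex (P : Subgroup G) := by
  have hp : p.Prime := Fact.out
  have hP : Nat.card (P : Subgroup G) = p ^ (Nat.card G).factorization p :=
    Sylow.card_eq_multiplicity P
  have hDP : IsPGroup p ↥(Cz g ⊓ (P : Subgroup G) : Subgroup G) := P.isPGroup'.to_le inf_le_right
  obtain ⟨b, hb⟩ := IsPGroup.iff_card.mp hDP
  have h1 := h9tcs_card_inf_mul_relIndex (Cz g) (P : Subgroup G)
  rw [hb, hP] at h1
  have hrel : (Cz g).relIndex (P : Subgroup G) ∣ p ^ (Nat.card G).factorization p :=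
    Dvd.intro_left _ h1
  obtain ⟨c, hc, hc'⟩ := (Nat.dvd_prime_pow hp).mp hrel
  rw [hc', ← pow_add] at h1
  have hbc : b + c = (Nat.card G).factorization p := Nat.pow_right_injective hp.two_le h1
  have hD0 : Nat.card (Cz g) ≠ 0 := Nat.card_pos.ne'
  have hi0 : idx g ≠ 0 := Subgroup.index_ne_zero_of_finite
  have h2 : p ^ b ∣ Nat.card (Cz g) := by
    rw [← hb]; exact Subgroup.card_dvd_of_le inf_le_left
  have h3 : b ≤ (Nat.card (Cz g)).factorization p := (hp.pow_dvd_iff_le_factorization hD0).mp h2
  have h4 : (Nat.card (Cz g)).factorization p + (idx g).factorization p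
      = (Nat.card G).factorization p := by
    rw [← Subgroup.card_mul_index (Cz g), Nat.factorization_mul hD0 hi0]; rfl
  have h5 : j ≤ (idx g).factorization p := (hp.pow_dvd_iff_le_factorization hi0).mp hj
  rw [hc']
  exact pow_dvd_pow p (by omega)

end Cfsg.Agent.Lib.Helper1.TCS
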