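import Mathlib
import Cfsg.Agent.Lib.Helper1.TCSDefs
import Cfsg.Agent.Lib.Helper9.TCSG6

/-!
# S4284 piece G8: no abelian direct factor and an abelian normal `p`-complement `K` give
`K ∩ Z(G) = 1`
-/

set_option autoImplicit false
set_option linter.unusedVariables false
set_option linter.unusedSectionVars false
set_option linter.style.longLine false
set_option linter.style.haveILetI false

namespace Cfsg.Agent.Lib.Helper1.TCS

open Cfsg.Agent.Lib.Helper8.CSG Cfsg.Agent.Lib.Helper1.PSG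

variable {G : Type*} [Group G] [Finite G]

theorem ndf_center_inf {p : ℕ} [Fact p.Prime] (hndf : NDF G) (K : Subgroup G) [K.Normal]
    (hK : (Nat.card K).Coprime p) (hKi : ∃ e : ℕ, K.index = p ^ e)
    (hKc : ∀ a ∈ K, ∀ b ∈ K, a * b = b * a) : K ⊓ Subgroup.center G = ⊥ := by
  classical
  have hp : p.Prime := Fact.out
  have hKn : K.Normal := inferInstance
  obtain ⟨P⟩ : Nonempty (Sylow p G) := Sylow.nonempty
  obtain ⟨-, hKP, hKPtop, hprod⟩ := npc_basic K hK hKi P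
  have hdecomp : ∀ g : G, ∃ k' ∈ K, ∃ s ∈ (P : Subgroup G), k' * s = g := by
    intro g
    have hg : g ∈ K ⊔ (P : Subgroup G) := by rw [hKPtop]; trivial
    exact Subgroup.mem_sup_of_normal_left.mp hg
  have hordK : ∀ c ∈ K, orderOf c ∣ Nat.card K := by
    intro c hc
    have := orderOf_dvd_natCard (⟨c, hc⟩ : ↥K)
    rwa [← Subgroup.orderOf_coe] at this
  have hcopKP : (Nat.card K).Coprime (Nat.card (P : Subgroup G)) := by
    obtain ⟨n, hn⟩ := IsPGroup.iff_card.mp P.isPGroup'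
    rw [hn]; exact Nat.Coprime.pow_right _ hK
  letI : CommGroup ↥K := { (inferInstance : Group ↥K) with
    mul_comm := fun a b => Subtype.ext (hKc a a.2 b b.2) }
  haveI : Fintype ↥(P : Subgroup G) := Fintype.ofFinite _
  -- conjugation on `K`
  let cj : G → (↥K →* ↥K) := fun g =>
    { toFun := fun k => ⟨g * k * g⁻¹, hKn.conj_mem (k : G) k.2 g⟩
      map_one' := Subtype.ext (by simp)
      map_mul' := fun a b => Subtype.ext (by
        show g * ((a : G) * (b : G)) * g⁻¹ = g * a * g⁻¹ * (g * b * g⁻¹)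
        group) }
  have hcj : ∀ (g : G) (k : ↥K), ((cj g k : ↥K) : G) = g * k * g⁻¹ := fun g k => rfl
  have hcj_mul : ∀ (g h : G) (k : ↥K), cj (g * h) k = cj g (cj h k) := by
    intro g h k
    apply Subtype.ext
    rw [hcj, hcj, hcj]; group
  have hcjK : ∀ k' : G, k' ∈ K → ∀ k : ↥K, cj k' k = k := by
    intro k' hk' k
    apply Subtype.ext
    rw [hcj, hKc k' hk' k k.2]; group
  -- the norm map
  obtain ⟨θ, hθdef⟩ : ∃ θ : ↥K →* ↥K, θ = ∏ t : ↥(P : Subgroup G), cj (t : G) := ⟨_, rfl⟩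
  have hθ : ∀ k, θ k = ∏ t : ↥(P : Subgroup G), cj (t : G) k := by
    intro k; rw [hθdef]; exact MonoidHom.finsetProd_apply _ _ _
  have hθP : ∀ s ∈ (P : Subgroup G), ∀ k, θ (cj s k) = θ k := by
    intro s hs k
    rw [hθ, hθ]
    have h1 : ∀ t : ↥(P : Subgroup G),
        cj (t : G) (cj s k) = cj ((t * (⟨s, hs⟩ : ↥(P : Subgroup G)) : ↥(P : Subgroup G)) : G) k :=
      fun t => (hcj_mul _ _ _).symm
    rw [Finset.prod_congr rfl (fun t _ => h1 t)]
    exact Equiv.prod_comp (Equiv.mulRight (⟨s, hs⟩ : ↥(P : Subgroup G)))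
      (fun t : ↥(P : Subgroup G) => cj (t : G) k)
  have hPθ : ∀ s ∈ (P : Subgroup G), ∀ k, cj s (θ k) = θ k := by
    intro s hs k
    rw [hθ, map_prod]
    have h1 : ∀ t : ↥(P : Subgroup G),
        cj s (cj (t : G) k) = cj (((⟨s, hs⟩ : ↥(P : Subgroup G)) * t : ↥(P : Subgroup G)) : G) k :=
      fun t => (hcj_mul _ _ _).symm
    rw [Finset.prod_congr rfl (fun t _ => h1 t)]
    exact Equiv.prod_comp (Equiv.mulLeft (⟨s, hs⟩ : ↥(P : Subgroup G)))
      (fun t : ↥(P : Subgroup G) => cj (t : G) k)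
  have hθG : ∀ (g : G) (k : ↥K), θ (cj g k) = θ k := by
    intro g k
    obtain ⟨k', hk', s, hs, rfl⟩ := hdecomp g
    rw [hcj_mul, hcjK k' hk', hθP s hs]
  have hθc : ∀ k : ↥K, ((θ k : ↥K) : G) ∈ Subgroup.center G := by
    intro k
    rw [Subgroup.mem_center_iff]
    intro g
    obtain ⟨k', hk', s, hs, rfl⟩ := hdecomp g
    have h1 : s * ((θ k : ↥K) : G) * s⁻¹ = ((θ k : ↥K) : G) := by
      rw [← hcj, hPθ s hs]
    have h2 : k' * ((θ k : ↥K) : G) = ((θ k : ↥K) : G) * k' := hKc k' hk' _ (θ k).2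
    calc k' * s * ((θ k : ↥K) : G) = k' * (s * ((θ k : ↥K) : G) * s⁻¹) * s := by group
      _ = k' * ((θ k : ↥K) : G) * s := by rw [h1]
      _ = ((θ k : ↥K) : G) * k' * s := by rw [h2]
      _ = ((θ k : ↥K) : G) * (k' * s) := by group
  have hθz : ∀ z : ↥K, (z : G) ∈ Subgroup.center G → θ z = z ^ Nat.card (P : Subgroup G) := by
    intro z hz
    rw [hθ]
    have h1 : ∀ t : ↥(P : Subgroup G), cj (t : G) z = z := by
      intro t
      apply Subtype.ext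
      rw [hcj, Subgroup.mem_center_iff.mp hz (t : G)]; group
    rw [Finset.prod_congr rfl (fun t _ => h1 t), Finset.prod_const, Finset.card_univ,
      Nat.card_eq_fintype_card]
  -- the subgroup `M = ker θ`
  obtain ⟨M, hM⟩ : ∃ M : Subgroup G, M = θ.ker.map K.subtype := ⟨_, rfl⟩
  have memM : ∀ x : G, x ∈ M ↔ ∃ hx : x ∈ K, θ ⟨x, hx⟩ = 1 := by
    intro x
    rw [hM, Subgroup.mem_map]
    constructor
    · rintro ⟨y, hy, rfl⟩
      exact ⟨y.2, MonoidHom.mem_ker.mp hy⟩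
    · rintro ⟨hx, h1⟩
      exact ⟨⟨x, hx⟩, MonoidHom.mem_ker.mpr h1, rfl⟩
  have hMK : M ≤ K := fun x hx => ((memM x).mp hx).1
  haveI hMn : M.Normal := by
    refine ⟨fun x hx g => ?_⟩
    obtain ⟨hxK, hx1⟩ := (memM x).mp hx
    refine (memM _).mpr ⟨hKn.conj_mem x hxK g, ?_⟩
    have h1 : (⟨g * x * g⁻¹, hKn.conj_mem x hxK g⟩ : ↥K)
        = cj g ⟨x, hxK⟩ := rfl
    rw [h1, hθG, hx1]
  have hBn : (M ⊔ (P : Subgroup G)).Normal := by
    refine ⟨fun x hx g => ?_⟩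
    obtain ⟨c, hc, t, ht, rfl⟩ := Subgroup.mem_sup_of_normal_left.mp hx
    have e : g * (c * t) * g⁻¹ = (g * c * g⁻¹) * (g * t * g⁻¹) := by group
    rw [e]
    refine Subgroup.mul_mem _ ((le_sup_left : M ≤ M ⊔ (P : Subgroup G)) (hMn.conj_mem c hc g)) ?_
    obtain ⟨k', hk', s, hs, rfl⟩ := hdecomp g
    obtain ⟨t', ht'⟩ : ∃ t' : G, t' = s * t * s⁻¹ := ⟨_, rfl⟩
    have ht'P : t' ∈ (P : Subgroup G) := by
      rw [ht']
      exact (P : Subgroup G).mul_mem ((P : Subgroup G).mul_mem hs ht) ((P : Subgroup G).inv_mem hs)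
    have e2 : k' * s * t * (k' * s)⁻¹ = (k' * (t' * k'⁻¹ * t'⁻¹)) * t' := by rw [ht']; group
    rw [e2]
    refine Subgroup.mul_mem _ ((le_sup_left : M ≤ M ⊔ (P : Subgroup G)) ?_)
      ((le_sup_right : (P : Subgroup G) ≤ M ⊔ (P : Subgroup G)) ht'P)
    have hmem : k' * (t' * k'⁻¹ * t'⁻¹) ∈ K :=
      K.mul_mem hk' (hKn.conj_mem _ (K.inv_mem hk') t')
    refine (memM _).mpr ⟨hmem, ?_⟩
    have h1 : (⟨k' * (t' * k'⁻¹ * t'⁻¹), hmem⟩ : ↥K)
        = (⟨k', hk'⟩ : ↥K) * cj t' ((⟨k', hk'⟩ : ↥K)⁻¹) := rfl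
    rw [h1, map_mul, hθG, ← map_mul, mul_inv_cancel, map_one]
  -- the abelian direct factor
  have hAn : (K ⊓ Subgroup.center G).Normal := inferInstance
  have hAc : IsMulCommutative ↥(K ⊓ Subgroup.center G : Subgroup G) :=
    ⟨⟨fun a b => Subtype.ext (hKc a a.2.1 b b.2.1)⟩⟩
  have hinf : (K ⊓ Subgroup.center G) ⊓ (M ⊔ (P : Subgroup G)) = ⊥ := by
    rw [eq_bot_iff]
    rintro x ⟨⟨hxK, hxZ⟩, hxB⟩
    obtain ⟨c, hc, t, ht, rfl⟩ := Subgroup.mem_sup_of_normal_left.mp hxB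
    obtain ⟨hcK, hc1⟩ := (memM c).mp hc
    have htK : t ∈ K := by
      have := K.mul_mem (K.inv_mem hcK) hxK
      simpa using this
    have ht1 : t = 1 := by
      have : t ∈ K ⊓ (P : Subgroup G) := ⟨htK, ht⟩
      rwa [hKP, Subgroup.mem_bot] at this
    subst ht1
    rw [mul_one] at hxZ ⊢
    have h1 := hθz ⟨c, hcK⟩ hxZ
    rw [hc1] at h1
    have h2 : c ^ Nat.card (P : Subgroup G) = 1 := by
      have := congrArg Subtype.val h1.symm
      exact this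
    have h3 : orderOf c = 1 :=
      Nat.eq_one_of_dvd_coprimes hcopKP (hordK c hcK) (orderOf_dvd_of_pow_eq_one h2)
    rw [Subgroup.mem_bot]
    exact orderOf_eq_one_iff.mp h3
  have hsup : (K ⊓ Subgroup.center G) ⊔ (M ⊔ (P : Subgroup G)) = ⊤ := by
    rw [eq_top_iff, ← hKPtop]
    refine sup_le ?_ ((le_sup_right : (P : Subgroup G) ≤ M ⊔ (P : Subgroup G)).trans le_sup_right)
    intro k hk
    have hco : (Nat.card (P : Subgroup G)).Coprime (orderOf ((θ ⟨k, hk⟩ : ↥K) : G)) :=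
      Nat.Coprime.coprime_dvd_right (hordK _ (θ ⟨k, hk⟩).2) hcopKP.symm
    obtain ⟨m, hm⟩ := exists_pow_eq_self_of_coprime hco
    obtain ⟨z, hz⟩ : ∃ z : ↥K, z = (θ ⟨k, hk⟩) ^ m := ⟨_, rfl⟩
    have hzG : (z : G) = ((θ ⟨k, hk⟩ : ↥K) : G) ^ m := by rw [hz]; rfl
    have hzc : (z : G) ∈ Subgroup.center G := by
      rw [hzG]; exact Subgroup.pow_mem _ (hθc _) m
    have hθz' : θ z = θ ⟨k, hk⟩ := by
      rw [hθz z hzc]
      apply Subtype.ext
      show (z : G) ^ Nat.card (P : Subgroup G) = _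
      rw [hzG, ← pow_mul, mul_comm, pow_mul, hm]
    have hkz : k * (z : G)⁻¹ ∈ M := by
      refine (memM _).mpr ⟨K.mul_mem hk (K.inv_mem z.2), ?_⟩
      have h1 : (⟨k * (z : G)⁻¹, K.mul_mem hk (K.inv_mem z.2)⟩ : ↥K) = (⟨k, hk⟩ : ↥K) * z⁻¹ := rfl
      rw [h1, map_mul, map_inv, hθz', mul_inv_cancel]
    have e : k = (z : G) * (k * (z : G)⁻¹) := by
      rw [hKc _ z.2 _ (K.mul_mem hk (K.inv_mem z.2))]; group
    rw [e]
    exact Subgroup.mul_mem _ ((le_sup_left : K ⊓ Subgroup.center G ≤ _) ⟨z.2, hzc⟩)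
      ((le_sup_right : M ⊔ (P : Subgroup G) ≤ _) ((le_sup_left : M ≤ M ⊔ (P : Subgroup G)) hkz))
  exact hndf _ _ hAn hBn hinf hsup hAc

end Cfsg.Agent.Lib.Helper1.TCS
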