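import Mathlib
import Cfsg.Agent.Lib.Helper1.TCSDefs
import Cfsg.Agent.Lib.Helper1.TCSApi
import Cfsg.Agent.Lib.Helper1.TCSBasic
import Cfsg.Agent.Lib.Helper1.TCSBasicC
import Cfsg.Agent.Lib.Helper1.TCSC1
import Cfsg.Agent.Lib.Helper8.TCSB2
import Cfsg.Agent.Lib.Helper9.CSGPow
import Cfsg.Agent.Lib.Helper9.TCSG5
import Cfsg.Agent.Lib.Helper9.TCSG6

/-!
# S4284 piece C7: a normal `p`-complement is abelian (Part C)
-/

set_option autoImplicit false
set_option maxHeartbeats 4000000
set_option linter.unusedVariables false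
set_option linter.unusedSectionVars false
set_option linter.style.longLine false
set_option linter.style.haveILetI false

namespace Cfsg.Agent.Lib.Helper1.TCS

open Cfsg.Agent.Lib.Helper8.CSG Cfsg.Agent.Lib.Helper1.PSG Cfsg.Agent.Lib.Helper8

variable {G : Type*} [Group G] [Finite G] {p a n : ℕ}

theorem partC_K_abelian [Fact p.Prime] (h : H3 G p n)
    (hβ : ∀ t : G, PElt p t → idx t ≠ 1 → idx t = p * n)
    (K : Subgroup G) [K.Normal] (hK : (Nat.card K).Coprime p) (hKi : ∃ e : ℕ, K.index = p ^ e) :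
    ∀ x ∈ K, ∀ y ∈ K, x * y = y * x := by
  have hp : p.Prime := Fact.out
  have hn1 : 1 < n := h.hn
  obtain ⟨P⟩ : Nonempty (Sylow p G) := Sylow.nonempty
  obtain ⟨hpK, hKP, hKPtop, hprod⟩ := npc_basic K hK hKi P
  have hPcard : Nat.card (P : Subgroup G) = p ^ (Nat.card G).factorization p :=
    Sylow.card_eq_multiplicity P
  have h' : H3 G (p ^ 1) n := by rw [pow_one]; exact h
  have hβ' : ∀ t : G, PElt p t → idx t ≠ 1 → idx t = p ^ 1 * n := by
    intro t ht htn; rw [pow_one]; exact hβ t ht htn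
  obtain ⟨-, h2, -, h4, -⟩ := partC_basic h' hβ'
  have hordK : ∀ c ∈ K, (orderOf c).Coprime p := by
    intro c hc
    have h1 := orderOf_dvd_natCard (⟨c, hc⟩ : ↥K)
    rw [← Subgroup.orderOf_coe] at h1
    exact Nat.Coprime.coprime_dvd_left h1 hK
  -- the key computation
  have key : ∀ t : G, PElt p t → idx t ≠ 1 → (Cz t).relIndex K = n := by
    intro t ht htn
    have heq : Cz t ⊓ K = Hc p t := by
      apply le_antisymm
      · rintro x ⟨hx1, hx2⟩
        exact mem_Hc (mem_Cz.mp hx1) (hordK x hx2)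
      · apply le_inf (Hc_le p t)
        unfold Hc
        rw [Subgroup.closure_le]
        intro x hx
        exact hpK x hx.2
    have h5 := h4 t ht htn
    obtain ⟨E, hE⟩ : ∃ E : ℕ, E = (Nat.card G).factorization p := ⟨_, rfl⟩
    have hPc := hPcard
    rw [← hE] at hPc h5
    rw [← hprod, hPc] at h5
    have h6 : Nat.card (Hc p t) * n = Nat.card K :=
      Nat.eq_of_mul_eq_mul_right (pow_pos hp.pos E) h5
    have h7 := h9tcs_card_inf_mul_relIndex (Cz t) K
    rw [heq, ← h6] at h7
    exact Nat.eq_of_mul_eq_mul_left Nat.card_pos h7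
  -- class sizes of `K`
  have hcs : ∀ k ∈ K, (Cz k).relIndex K = 1 ∨ (Cz k).relIndex K = n := by
    intro k hk
    have hdvd1 : (Cz k).relIndex K ∣ idx k := h9_csg_relIndex_dvd_index (Cz k) K
    have hdvd2 : (Cz k).relIndex K ∣ Nat.card K := Subgroup.relIndex_dvd_card _ _
    rcases h.mem k with h1 | h1 | h1
    · left
      rw [h1] at hdvd1
      exact Nat.dvd_one.mp hdvd1
    · left
      rw [h1] at hdvd1
      exact Nat.eq_one_of_dvd_coprimes hK hdvd2 hdvd1
    · right
      obtain ⟨t, ht, htn, hCkt⟩ := h2 k (hordK k hk) (by rw [pow_one]; exact h1)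
      have : Cz k = Cz t := hCkt
      rw [this]
      exact key t ht htn
  -- a noncentral `p`-element
  obtain ⟨g, hg⟩ := h.ex1
  have hgn : idx g ≠ 1 := by rw [hg]; exact hp.one_lt.ne'
  obtain ⟨t, ht, -, htn⟩ := exists_noncentral_pelt h hp (dvd_refl p) hgn
  exact K_abelian (a := 1) h' K hK hcs ht (hβ' t ht htn) (key t ht htn)

end Cfsg.Agent.Lib.Helper1.TCS
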