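import Mathlib
import Cfsg.Agent.Lib.Helper1.TCSDefs
import Cfsg.Agent.Lib.Helper1.TCSApi
import Cfsg.Agent.Lib.Helper1.TCSBasic
import Cfsg.Agent.Lib.Helper1.TCSBasicC
import Cfsg.Agent.Lib.Helper1.TCSC1
import Cfsg.Agent.Lib.Helper2.TCSG4
import Cfsg.Agent.Lib.Helper2.TCSG7
import Cfsg.Agent.Lib.Helper9.TCSG5
import Cfsg.Agent.Lib.Helper9.TCSG6

/-!
# S4284 piece C8: the final contradiction of Part C
-/

set_option autoImplicit false
set_option maxHeartbeats 4000000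
set_option linter.unusedVariables false
set_option linter.unusedSectionVars false
set_option linter.style.longLine false
set_option linter.style.haveILetI false

namespace Cfsg.Agent.Lib.Helper1.TCS

open Cfsg.Agent.Lib.Helper8.CSG Cfsg.Agent.Lib.Helper1.PSG Cfsg.Agent.Lib.Helper8

variable {G : Type*} [Group G] [Finite G] {p a n : ℕ}

theorem h9tcs_comm_aux {M : Type*} [CommGroup M] (A B C E : M) :
    (A⁻¹ * B) * (C⁻¹ * E)⁻¹ = (A * C⁻¹)⁻¹ * (B * E⁻¹) := by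
  simp only [mul_inv_rev, inv_inv, mul_assoc, mul_comm, mul_left_comm]

theorem partC_false [Fact p.Prime] (h : H3 G p n) (hβ : ∀ t : G, PElt p t → idx t ≠ 1 → idx t = p * n)
    (K : Subgroup G) [K.Normal] (hK : (Nat.card K).Coprime p) (hKi : ∃ e : ℕ, K.index = p ^ e)
    (hKc : ∀ x ∈ K, ∀ y ∈ K, x * y = y * x) : False := by
  classical
  have hp : p.Prime := Fact.out
  have hKn : K.Normal := inferInstance
  have hn1 : 1 < n := h.hn
  have hpn : p.Coprime n := h.cop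
  obtain ⟨P⟩ : Nonempty (Sylow p G) := Sylow.nonempty
  obtain ⟨hpK, hKP, hKPtop, hprod⟩ := npc_basic K hK hKi P
  have hdecomp : ∀ g : G, ∃ k' ∈ K, ∃ s ∈ (P : Subgroup G), k' * s = g := by
    intro g
    have hg : g ∈ K ⊔ (P : Subgroup G) := by rw [hKPtop]; trivial
    exact Subgroup.mem_sup_of_normal_left.mp hg
  -- `n` does not divide a power of `p`
  have hnpow : ∀ e : ℕ, ¬ p * n ∣ p ^ e := by
    intro e hdvd
    have h1 : n ∣ p ^ e := (Dvd.intro_left p rfl).trans hdvd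
    have h2 : n = 1 := Nat.Coprime.eq_one_of_dvd (Nat.Coprime.pow_right e hpn.symm) h1
    omega
  -- class sizes of elements of `K`
  have hidxK : ∀ k ∈ K, idx k = 1 ∨ idx k = p := by
    intro k hk
    have hle : K ≤ Cz k := by
      intro x hx
      rw [mem_Cz]
      exact hKc x hx k hk
    obtain ⟨e, he⟩ := hKi
    have hdvd : idx k ∣ p ^ e := by rw [← he]; exact Subgroup.index_dvd_of_le hle
    rcases h.mem k with h1 | h1 | h1
    · exact Or.inl h1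
    · exact Or.inr h1
    · exfalso; rw [h1] at hdvd; exact hnpow e hdvd
  -- the element `u`
  obtain ⟨a₀, ha₀, x₀, hx₀, hax⟩ := sylow_not_comm h (dvd_refl p) P
  obtain ⟨u, huP, ⟨x₁, hx₁P, hux₁⟩, hucomm, -⟩ := exists_second_center hp (P : Subgroup G)
    (P : Subgroup G) P.isPGroup' le_rfl
    (fun x hx a ha => (P : Subgroup G).mul_mem ((P : Subgroup G).mul_mem hx ha)
      ((P : Subgroup G).inv_mem hx)) ⟨a₀, ha₀, x₀, hx₀, hax⟩
  have hzc : ∀ s ∈ (P : Subgroup G), u * s * u⁻¹ * s⁻¹ ∈ Subgroup.center G := by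
    intro s hs
    apply center_sylow h (dvd_refl p) P
    · exact (P : Subgroup G).mul_mem ((P : Subgroup G).mul_mem ((P : Subgroup G).mul_mem huP hs)
        ((P : Subgroup G).inv_mem huP)) ((P : Subgroup G).inv_mem hs)
    · intro x hx
      exact hucomm s hs x hx
  have hupelt : PElt p u := h1tcs_pelt_of_isPGroup P.isPGroup' huP
  have hun : idx u ≠ 1 := by
    intro h1
    have := h8_mem_center_of_idx_eq_one h1
    exact hux₁ ((Subgroup.mem_center_iff.mp this x₁).symm)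
  have hui : idx u = p * n := hβ u hupelt hun
  -- `u` has order prime to `|K|`
  have huco : (orderOf u).Coprime (Nat.card K) := by
    obtain ⟨j, hj⟩ := hupelt
    have h1 : orderOf u ∣ p ^ j := orderOf_dvd_of_pow_eq_one hj
    exact Nat.Coprime.coprime_dvd_left h1 (Nat.Coprime.pow_left j hK.symm)
  -- `u` does not centralize `K`
  have hunK : ∃ k ∈ K, u * k ≠ k * u := by
    by_contra hcon
    push Not at hcon
    have hle : K ≤ Cz u := by
      intro x hx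
      rw [mem_Cz]
      exact (hcon x hx).symm
    have h1 := idx_semidirect K hK hKi P huP
    rw [Subgroup.relIndex_eq_one.mpr hle, one_mul, hui] at h1
    obtain ⟨e', he'⟩ := IsPGroup.iff_card.mp P.isPGroup'
    have h2 : (Cz u).relIndex (P : Subgroup G) ∣ p ^ e' := by
      rw [← he']; exact Subgroup.relIndex_dvd_card _ _
    rw [← h1] at h2
    exact hnpow e' h2
  obtain ⟨k₀, hk₀K, hk₀u⟩ := hunK
  -- `y₁`
  have h' : H3 G (p ^ 1) n := by rw [pow_one]; exact h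
  have hβ' : ∀ t : G, PElt p t → idx t ≠ 1 → idx t = p ^ 1 * n := by
    intro t ht htn; rw [pow_one]; exact hβ t ht htn
  obtain ⟨-, -, -, -, h5⟩ := partC_basic h' hβ'
  obtain ⟨y₁, hy₁H, hy₁n⟩ := h5 u hupelt hun
  have hHcK : Hc p u ≤ K := by
    unfold Hc
    rw [Subgroup.closure_le]
    intro x hx
    exact hpK x hx.2
  have hy₁K : y₁ ∈ K := hHcK hy₁H
  have hy₁u : y₁ * u = u * y₁ := mem_Cz.mp (Hc_le p u hy₁H)
  have hy₁i : idx y₁ = p := (hidxK y₁ hy₁K).resolve_left hy₁n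
  -- the commutative group `K` and conjugation on it
  letI : CommGroup ↥K := { (inferInstance : Group ↥K) with
    mul_comm := fun a b => Subtype.ext (hKc a a.2 b b.2) }
  let cj : G → (↥K →* ↥K) := fun g =>
    { toFun := fun k => ⟨g * k * g⁻¹, hKn.conj_mem (k : G) k.2 g⟩
      map_one' := Subtype.ext (by simp)
      map_mul' := fun a b => Subtype.ext (by
        show g * ((a : G) * (b : G)) * g⁻¹ = g * a * g⁻¹ * (g * b * g⁻¹)
        group) }
  have hcj : ∀ (g : G) (k : ↥K), ((cj g k : ↥K) : G) = g * k * g⁻¹ := fun g k => rfl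
  have hcj_mul : ∀ (g h : G) (k : ↥K), cj (g * h) k = cj g (cj h k) := by
    intro g h k
    apply Subtype.ext
    rw [hcj, hcj, hcj]; group
  have hcjK : ∀ k' : G, k' ∈ K → ∀ k : ↥K, cj k' k = k := by
    intro k' hk' k
    apply Subtype.ext
    rw [hcj, hKc k' hk' k k.2]; group
  have hcjZ : ∀ z : G, z ∈ Subgroup.center G → ∀ k : ↥K, cj z k = k := by
    intro z hz k
    apply Subtype.ext
    rw [hcj, ← Subgroup.mem_center_iff.mp hz (k : G)]; group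
  have hcj_iff : ∀ (g : G) (k : ↥K), cj g k = k ↔ g * (k : G) = (k : G) * g := by
    intro g k
    constructor
    · intro h1
      have h2 : g * (k : G) * g⁻¹ = (k : G) := by rw [← hcj, h1]
      calc g * (k : G) = g * (k : G) * g⁻¹ * g := by group
        _ = (k : G) * g := by rw [h2]
    · intro h1
      apply Subtype.ext
      rw [hcj, h1]; group
  -- `cj u` commutes with `cj s` for `s ∈ P`
  have hUS : ∀ s ∈ (P : Subgroup G), ∀ k : ↥K, cj u (cj s k) = cj s (cj u k) := by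
    intro s hs k
    have e : u * s = (u * s * u⁻¹ * s⁻¹) * (s * u) := by group
    rw [← hcj_mul, ← hcj_mul, e, hcj_mul, hcjZ _ (hzc s hs)]
  -- the fixed-point lemma in `K`
  have hκ : ∀ x : ↥K, cj u (x⁻¹ * cj u x) = x⁻¹ * cj u x → x⁻¹ * cj u x = 1 := by
    intro x hx
    have h1 := (hcj_iff u _).mp hx
    have h2 : ((x⁻¹ * cj u x : ↥K) : G) = (x : G)⁻¹ * (u * (x : G) * u⁻¹) := rfl
    rw [h2] at h1
    have h3 := comm_fixed_eq_one K hKc huco x.2 h1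
    apply Subtype.ext
    rw [h2, h3]; rfl
  -- the elements
  obtain ⟨Y₁, hY₁⟩ : ∃ Y₁ : ↥K, Y₁ = ⟨y₁, hy₁K⟩ := ⟨_, rfl⟩
  obtain ⟨K₀, hK₀⟩ : ∃ K₀ : ↥K, K₀ = ⟨k₀, hk₀K⟩ := ⟨_, rfl⟩
  have hUY₁ : cj u Y₁ = Y₁ := by
    rw [hcj_iff, hY₁]; exact hy₁u.symm
  have hUK₀ : cj u K₀ ≠ K₀ := by
    rw [Ne, hcj_iff, hK₀]; exact hk₀u
  obtain ⟨Y₂, hY₂⟩ : ∃ Y₂ : ↥K, Y₂ = K₀⁻¹ * cj u K₀ := ⟨_, rfl⟩
  have hY₂1 : Y₂ ≠ 1 := by
    intro h1
    apply hUK₀
    rw [hY₂] at h1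
    calc cj u K₀ = K₀ * (K₀⁻¹ * cj u K₀) := by group
      _ = K₀ := by rw [h1, mul_one]
  have hUY₂ : cj u Y₂ ≠ Y₂ := by
    intro h1
    apply hY₂1
    rw [hY₂] at h1 ⊢
    exact hκ K₀ h1
  -- the key claim
  have key : ∀ s ∈ (P : Subgroup G), cj s (Y₁ * Y₂) = Y₁ * Y₂ → cj s Y₁ = Y₁ ∧ cj s Y₂ = Y₂ := by
    intro s hs hw
    rw [map_mul] at hw
    obtain ⟨D, hD⟩ : ∃ D : ↥K, D = Y₁⁻¹ * cj s Y₁ := ⟨_, rfl⟩
    have hD2 : D = Y₂ * (cj s Y₂)⁻¹ := by
      rw [hD]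
      calc Y₁⁻¹ * cj s Y₁ = Y₁⁻¹ * (cj s Y₁ * cj s Y₂) * (cj s Y₂)⁻¹ := by group
        _ = Y₁⁻¹ * (Y₁ * Y₂) * (cj s Y₂)⁻¹ := by rw [hw]
        _ = Y₂ * (cj s Y₂)⁻¹ := by group
    have hUD : cj u D = D := by
      rw [hD, map_mul, map_inv, hUS s hs, hUY₁]
    have hSY₂ : cj s Y₂ = (cj s K₀)⁻¹ * cj u (cj s K₀) := by
      rw [hY₂, map_mul, map_inv, hUS s hs]
    have hD3 : D = (K₀ * (cj s K₀)⁻¹)⁻¹ * cj u (K₀ * (cj s K₀)⁻¹) := by
      rw [hD2, hSY₂, hY₂, map_mul, map_inv]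
      exact h9tcs_comm_aux K₀ (cj u K₀) (cj s K₀) (cj u (cj s K₀))
    have hD1 : D = 1 := by
      rw [hD3] at hUD ⊢
      exact hκ _ hUD
    constructor
    · rw [hD] at hD1
      calc cj s Y₁ = Y₁ * (Y₁⁻¹ * cj s Y₁) := by group
        _ = Y₁ := by rw [hD1, mul_one]
    · rw [hD2] at hD1
      calc cj s Y₂ = (Y₂ * (cj s Y₂)⁻¹)⁻¹ * Y₂ := by group
        _ = Y₂ := by rw [hD1, inv_one, one_mul]
  -- `C(w) ≤ C(y₁) ⊓ C(y₂)`
  obtain ⟨w, hw⟩ : ∃ w : G, w = ((Y₁ * Y₂ : ↥K) : G) := ⟨_, rfl⟩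
  have hwK : w ∈ K := by rw [hw]; exact (Y₁ * Y₂).2
  have hCw : ∀ g ∈ Cz w, cj g Y₁ = Y₁ ∧ cj g Y₂ = Y₂ := by
    intro g hg
    rw [mem_Cz, hw] at hg
    have h1 : cj g (Y₁ * Y₂) = Y₁ * Y₂ := (hcj_iff g _).mpr hg
    obtain ⟨k', hk', s, hs, rfl⟩ := hdecomp g
    rw [hcj_mul, hcjK k' hk'] at h1
    obtain ⟨h2, h3⟩ := key s hs h1
    constructor
    · rw [hcj_mul, hcjK k' hk', h2]
    · rw [hcj_mul, hcjK k' hk', h3]
  have hY₁G : (Y₁ : G) = y₁ := by rw [hY₁]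
  have hle : Cz w ≤ Cz y₁ := by
    intro g hg
    rw [mem_Cz, ← hY₁G]
    exact (hcj_iff g Y₁).mp (hCw g hg).1
  have hwi : idx w = p := by
    have h1 : idx y₁ ∣ idx w := Subgroup.index_dvd_of_le hle
    rw [hy₁i] at h1
    rcases hidxK w hwK with h2 | h2
    · rw [h2] at h1
      exact absurd (Nat.le_of_dvd Nat.one_pos h1) (by have := hp.two_le; omega)
    · exact h2
  have heq : Cz w = Cz y₁ := Cz_eq_of_le hle (by rw [hwi, hy₁i])
  have huw : u ∈ Cz w := by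
    rw [heq, mem_Cz]; exact hy₁u.symm
  exact hUY₂ (hCw u huw).2

end Cfsg.Agent.Lib.Helper1.TCS
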