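import Mathlib
import Cfsg.Agent.Lib.Helper7.ZfT
import Cfsg.Agent.Lib.Helper1.DihedralSylowInvolutions

set_option autoImplicit false
set_option linter.unusedSectionVars false
set_option linter.unusedVariables false
set_option linter.style.longLine false
set_option linter.unusedSimpArgs false

set_option maxHeartbeats 1600000
namespace Cfsg.Agent.Lib.Helper9.Zfg

open Cfsg.Agent.Lib.Helper7.Zf

/-- a four-group has two distinct non-identity elements -/
theorem klein_exists_two {Γ : Type*} [Group Γ] {U : Subgroup Γ} (hU : IsKleinFour U) :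
    ∃ a b : Γ, a ∈ U ∧ b ∈ U ∧ a ≠ 1 ∧ b ≠ 1 ∧ a ≠ b := by
  have hc : Nat.card U = 4 := hU.card_four
  by_contra hcon
  push Not at hcon
  by_cases h1 : ∃ a : Γ, a ∈ U ∧ a ≠ 1
  · obtain ⟨a, ha, ha1⟩ := h1
    have hsub : (Set.univ : Set U) ⊆ {1, ⟨a, ha⟩} := by
      intro x _
      by_cases hx : (x : Γ) = 1
      · left; exact Subtype.ext hx
      · right
        have := hcon a x ha x.2 ha1 hx
        exact Subtype.ext this.symm
    have h2 := Set.ncard_le_ncard hsub (Set.toFinite _)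
    rw [Set.ncard_univ, hc] at h2
    have h3 := Set.ncard_insert_le (1 : U) {⟨a, ha⟩}
    rw [Set.ncard_singleton] at h3
    omega
  · push Not at h1
    have hsub : (Set.univ : Set U) ⊆ {1} := by
      intro x _
      exact Subtype.ext (h1 x x.2)
    have h2 := Set.ncard_le_ncard hsub (Set.toFinite _)
    rw [Set.ncard_univ, hc, Set.ncard_singleton] at h2
    omega

/-- a subgroup of `DihedralGroup (2 ^ n)`, `n ≥ 3`, all of whose elements are involutions and which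
is normal, has at most two elements: it contains no reflection -/
theorem dih_no_refl (n : ℕ) (hn : 3 ≤ n) (W : Subgroup (DihedralGroup (2 ^ n)))
    (hsq : ∀ d ∈ W, d * d = 1) (hnorm : ∀ g, ∀ d ∈ W, g * d * g⁻¹ ∈ W) (j : ZMod (2 ^ n)) :
    DihedralGroup.sr j ∉ W := by
  intro hj
  have h1 := hnorm (DihedralGroup.r 1) _ hj
  rw [DihedralGroup.r_mul_sr, DihedralGroup.inv_r, DihedralGroup.sr_mul_r] at h1
  have h2 := W.mul_mem hj h1
  rw [DihedralGroup.sr_mul_sr] at h2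
  have h3 := hsq _ h2
  rw [DihedralGroup.r_mul_r, DihedralGroup.one_def, DihedralGroup.r.injEq] at h3
  have h4 : ((4 : ℕ) : ZMod (2 ^ n)) = 0 := by
    have : (j - 1 + -1 - j + (j - 1 + -1 - j) : ZMod (2 ^ n)) = -((4 : ℕ) : ZMod (2 ^ n)) := by
      push_cast; ring
    rw [this] at h3
    exact neg_eq_zero.mp h3
  rw [ZMod.natCast_eq_zero_iff] at h4
  have h5 : 2 ^ 3 ≤ 2 ^ n := Nat.pow_le_pow_right (by norm_num) hn
  have := Nat.le_of_dvd (by norm_num) h4
  omega

/-- (D4) a dihedral group of order at least 16 has no normal four-subgroup -/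
theorem dihedral_no_normal_klein {Γ : Type*} [Group Γ] (S : Subgroup Γ) (n : ℕ) (hn : 3 ≤ n)
    (e : S ≃* DihedralGroup (2 ^ n)) (U : Subgroup Γ) (hU : IsKleinFour U) (hUS : U ≤ S)
    (hnorm : ∀ s ∈ S, ∀ a ∈ U, s * a * s⁻¹ ∈ U) : False := by
  set W : Subgroup (DihedralGroup (2 ^ n)) := (U.subgroupOf S).map e.toMonoidHom with hW
  have hmem : ∀ d, d ∈ W ↔ ∃ a : Γ, ∃ ha : a ∈ S, a ∈ U ∧ e ⟨a, ha⟩ = d := by
    intro d
    rw [hW, Subgroup.mem_map]
    constructor
    · rintro ⟨x, hx, rfl⟩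
      exact ⟨x.1, x.2, Subgroup.mem_subgroupOf.mp hx, rfl⟩
    · rintro ⟨a, ha, haU, rfl⟩
      exact ⟨⟨a, ha⟩, Subgroup.mem_subgroupOf.mpr haU, rfl⟩
  have hsq : ∀ d ∈ W, d * d = 1 := by
    intro d hd
    obtain ⟨a, ha, haU, rfl⟩ := (hmem d).mp hd
    rw [← map_mul]
    have : (⟨a, ha⟩ : S) * ⟨a, ha⟩ = 1 := Subtype.ext (klein_sq hU haU)
    rw [this, map_one]
  have hnormW : ∀ g, ∀ d ∈ W, g * d * g⁻¹ ∈ W := by
    intro g d hd
    obtain ⟨a, ha, haU, rfl⟩ := (hmem _).mp hd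
    obtain ⟨s, rfl⟩ := e.surjective g
    rw [hmem]
    refine ⟨(s : Γ) * a * (s : Γ)⁻¹, S.mul_mem (S.mul_mem s.2 ha) (S.inv_mem s.2),
      hnorm s s.2 a haU, ?_⟩
    rw [← map_inv, ← map_mul, ← map_mul]
    rfl
  obtain ⟨a, b, ha, hb, ha1, hb1, hab⟩ := klein_exists_two hU
  have key : ∀ c : Γ, c ∈ U → c ≠ 1 → ∃ i : ZMod (2 ^ n), i + i = 0 ∧ i ≠ 0 ∧
      ∃ hc : c ∈ S, e ⟨c, hc⟩ = DihedralGroup.r i := by
    intro c hc hc1
    have hcS := hUS hc
    have hmemc : e ⟨c, hcS⟩ ∈ W := (hmem _).mpr ⟨c, hcS, hc, rfl⟩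
    rcases hd : e ⟨c, hcS⟩ with i | i
    · refine ⟨i, ?_, ?_, hcS, hd⟩
      · have := hsq _ hmemc
        rw [hd, DihedralGroup.r_mul_r, DihedralGroup.one_def, DihedralGroup.r.injEq] at this
        exact this
      · rintro rfl
        rw [DihedralGroup.r_zero] at hd
        have : (⟨c, hcS⟩ : S) = 1 := e.injective (by rw [hd, map_one])
        exact hc1 (congrArg Subtype.val this)
    · exfalso
      rw [hd] at hmemc
      exact dih_no_refl n hn W hsq hnormW i hmemc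
  obtain ⟨i, hi, hi0, haS, hai⟩ := key a ha ha1
  obtain ⟨j, hj, hj0, hbS, hbj⟩ := key b hb hb1
  have hij := Cfsg.Agent.Lib.Helper1.zmod_two_pow_eq_of_double_eq_zero n (by omega) i j hi hi0 hj hj0
  rw [hij, ← hbj] at hai
  exact hab (congrArg Subtype.val (e.injective hai))

end Cfsg.Agent.Lib.Helper9.Zfg
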