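import Mathlib
import Cfsg.Agent.Lib.Helper9.ZfgA

set_option autoImplicit false
set_option linter.unusedSectionVars false
set_option linter.unusedVariables false
set_option linter.style.longLine false
set_option linter.unusedSimpArgs false

set_option maxHeartbeats 1600000
namespace Cfsg.Agent.Lib.Helper9.Zfg

open Cfsg.Agent.Lib.Helper7.Zf

section dih

/-- the central rotation of `DihedralGroup (2 ^ n)` -/
def cz (n : ℕ) : ZMod (2 ^ n) := ((2 ^ (n - 1) : ℕ) : ZMod (2 ^ n))

/-- a rotation of order four -/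
def cq (n : ℕ) : ZMod (2 ^ n) := ((2 ^ (n - 2) : ℕ) : ZMod (2 ^ n))

theorem cz_add (n : ℕ) (hn : 1 ≤ n) : cz n + cz n = 0 := by
  unfold cz
  rw [← Nat.cast_add, ← two_mul, ← pow_succ', Nat.sub_add_cancel hn]
  exact ZMod.natCast_self _

theorem cq_add (n : ℕ) (hn : 2 ≤ n) : cq n + cq n = cz n := by
  unfold cq cz
  rw [← Nat.cast_add, ← two_mul, ← pow_succ']
  congr 2
  omega

theorem cz_ne (n : ℕ) (hn : 1 ≤ n) : cz n ≠ 0 := by
  unfold cz
  rw [Ne, ZMod.natCast_eq_zero_iff]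
  intro h
  have h1 := Nat.le_of_dvd (by positivity) h
  have h2 : 2 ^ (n - 1) < 2 ^ n := Nat.pow_lt_pow_right (by norm_num) (by omega)
  omega

theorem one_ne_zero_zmod (n : ℕ) (hn : 1 ≤ n) : (1 : ZMod (2 ^ n)) ≠ 0 := by
  intro h
  have : ((1 : ℕ) : ZMod (2 ^ n)) = 0 := by rw [Nat.cast_one]; exact h
  rw [ZMod.natCast_eq_zero_iff] at this
  have h1 := Nat.le_of_dvd (by norm_num) this
  have h2 : 2 ^ 1 ≤ 2 ^ n := Nat.pow_le_pow_right (by norm_num) hn
  omega

theorem one_ne_cz (n : ℕ) (hn : 2 ≤ n) : (1 : ZMod (2 ^ n)) ≠ cz n := by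
  intro h
  have h0 := cz_add n (by omega)
  rw [← h] at h0
  have : ((2 : ℕ) : ZMod (2 ^ n)) = 0 := by
    rw [← h0]; push_cast; ring
  rw [ZMod.natCast_eq_zero_iff] at this
  have h1 := Nat.le_of_dvd (by norm_num) this
  have h2 : 2 ^ 2 ≤ 2 ^ n := Nat.pow_le_pow_right (by norm_num) hn
  omega

/-- a rotation which is an involution is the central one -/
theorem rot_invol (n : ℕ) (hn : 1 ≤ n) (i : ZMod (2 ^ n))
    (h : DihedralGroup.r i * DihedralGroup.r i = 1) :
    DihedralGroup.r i = 1 ∨ DihedralGroup.r i = DihedralGroup.r (cz n) := by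
  rw [DihedralGroup.r_mul_r, DihedralGroup.one_def, DihedralGroup.r.injEq] at h
  by_cases hi : i = 0
  · left; rw [hi, DihedralGroup.r_zero]
  · right
    rw [Cfsg.Agent.Lib.Helper1.zmod_two_pow_eq_of_double_eq_zero n hn i (cz n) h hi
      (cz_add n hn) (cz_ne n hn)]

theorem cz_central (n : ℕ) (hn : 1 ≤ n) (d : DihedralGroup (2 ^ n)) :
    d * DihedralGroup.r (cz n) = DihedralGroup.r (cz n) * d := by
  have h0 := cz_add n hn
  rcases d with i | i
  · rw [DihedralGroup.r_mul_r, DihedralGroup.r_mul_r, add_comm]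
  · rw [DihedralGroup.sr_mul_r, DihedralGroup.r_mul_sr, DihedralGroup.sr.injEq]
    have : cz n = -cz n := eq_neg_of_add_eq_zero_left h0
    rw [sub_eq_add_neg, ← this]

/-- in a four-subgroup of `DihedralGroup (2 ^ n)`, `n ≥ 2`: the central involution lies in it,
and the rotation of order four swaps the other two involutions -/
theorem dih_four (n : ℕ) (hn : 2 ≤ n) (W : Subgroup (DihedralGroup (2 ^ n)))
    (hsq : ∀ d ∈ W, d * d = 1) {x y : DihedralGroup (2 ^ n)} (hx : x ∈ W) (hy : y ∈ W)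
    (hx1 : x ≠ 1) (hy1 : y ≠ 1) (hxy : x ≠ y) :
    DihedralGroup.r (cz n) ∈ W ∧ ∀ w ∈ W, w ≠ 1 → w ≠ DihedralGroup.r (cz n) →
      DihedralGroup.r (cq n) * w * (DihedralGroup.r (cq n))⁻¹ = w * DihedralGroup.r (cz n) ∧
      ∃ j, w = DihedralGroup.sr j := by
  have hn1 : 1 ≤ n := by omega
  constructor
  · rcases x with i | i
    · rcases rot_invol n hn1 i (hsq _ hx) with h | h
      · exact absurd h hx1
      · rw [← h]; exact hx
    · rcases y with j | j
      · rcases rot_invol n hn1 j (hsq _ hy) with h | h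
        · exact absurd h hy1
        · rw [← h]; exact hy
      · have hm := W.mul_mem hx hy
        rw [DihedralGroup.sr_mul_sr] at hm
        rcases rot_invol n hn1 _ (hsq _ hm) with h | h
        · exfalso
          rw [DihedralGroup.one_def, DihedralGroup.r.injEq, sub_eq_zero] at h
          exact hxy (by rw [h])
        · rw [← h]; exact hm
  · intro w hw hw1 hwz
    rcases w with i | i
    · rcases rot_invol n hn1 i (hsq _ hw) with h | h
      · exact absurd h hw1
      · exact absurd h hwz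
    · refine ⟨?_, i, rfl⟩
      rw [DihedralGroup.r_mul_sr, DihedralGroup.inv_r, DihedralGroup.sr_mul_r,
        DihedralGroup.sr_mul_r, DihedralGroup.sr.injEq, ← cq_add n hn]
      have h0 := cz_add n hn1
      rw [← cq_add n hn] at h0
      linear_combination (-1 : ZMod (2 ^ n)) * h0

end dih

section transfer

variable {Γ : Type*} [Group Γ]

/-- the image in the dihedral group of a subgroup of `S` -/
theorem mem_img (S : Subgroup Γ) {D : Type*} [Group D] (e : S ≃* D) (E : Subgroup Γ) (d : D) :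
    d ∈ (E.subgroupOf S).map e.toMonoidHom ↔ ∃ a : Γ, ∃ ha : a ∈ S, a ∈ E ∧ e ⟨a, ha⟩ = d := by
  rw [Subgroup.mem_map]
  constructor
  · rintro ⟨x, hx, rfl⟩
    exact ⟨x.1, x.2, Subgroup.mem_subgroupOf.mp hx, rfl⟩
  · rintro ⟨a, ha, haU, rfl⟩
    exact ⟨⟨a, ha⟩, Subgroup.mem_subgroupOf.mpr haU, rfl⟩

theorem img_sq (S : Subgroup Γ) {D : Type*} [Group D] (e : S ≃* D) (E : Subgroup Γ)
    (hE : IsKleinFour E) : ∀ d ∈ (E.subgroupOf S).map e.toMonoidHom, d * d = 1 := by
  intro d hd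
  obtain ⟨a, ha, haU, rfl⟩ := (mem_img S e E d).mp hd
  rw [← map_mul]
  have : (⟨a, ha⟩ : S) * ⟨a, ha⟩ = 1 := Subtype.ext (klein_sq hE haU)
  rw [this, map_one]

/-- structure of the four-subgroups of a dihedral subgroup of order at least eight -/
theorem dih_swap (S : Subgroup Γ) (n : ℕ) (hn : 2 ≤ n) (e : S ≃* DihedralGroup (2 ^ n)) :
    ∃ z ∈ S, z ≠ 1 ∧ z * z = 1 ∧ (∀ s ∈ S, s * z = z * s) ∧
      ∀ E : Subgroup Γ, IsKleinFour E → E ≤ S → z ∈ E ∧
        (∃ s ∈ S, ∀ x ∈ E, x ≠ 1 → x ≠ z → s * x * s⁻¹ = x * z) ∧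
        ∃ E' : Subgroup Γ, IsKleinFour E' ∧ E' ≤ S ∧ E' ≠ E := by
  have hn1 : 1 ≤ n := by omega
  set zS : S := e.symm (DihedralGroup.r (cz n)) with hzS
  have hez : e zS = DihedralGroup.r (cz n) := by rw [hzS, MulEquiv.apply_symm_apply]
  have hz1 : (zS : Γ) ≠ 1 := by
    intro h
    have h1 : zS = 1 := Subtype.ext h
    rw [h1, map_one, DihedralGroup.one_def, DihedralGroup.r.injEq] at hez
    exact cz_ne n hn1 hez.symm
  have hzz : (zS : Γ) * zS = 1 := by
    have h1 : zS * zS = 1 := by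
      apply e.injective
      rw [map_mul, hez, DihedralGroup.r_mul_r, cz_add n hn1, map_one, DihedralGroup.r_zero]
    exact congrArg Subtype.val h1
  have hzc : ∀ s ∈ S, s * (zS : Γ) = zS * s := by
    intro s hs
    have h1 : (⟨s, hs⟩ : S) * zS = zS * ⟨s, hs⟩ := by
      apply e.injective
      rw [map_mul, map_mul, hez]
      exact cz_central n hn1 _
    exact congrArg Subtype.val h1
  refine ⟨zS, zS.2, hz1, hzz, hzc, ?_⟩
  intro E hE hES
  set W : Subgroup (DihedralGroup (2 ^ n)) := (E.subgroupOf S).map e.toMonoidHom with hW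
  have hmem := mem_img S e E
  have hsq := img_sq S e E hE
  obtain ⟨a, b, ha, hb, ha1, hb1, hab⟩ := klein_exists_two hE
  have hne1 : ∀ c : Γ, ∀ hc : c ∈ S, c ≠ 1 → e ⟨c, hc⟩ ≠ 1 := by
    intro c hc hc1 h
    have : (⟨c, hc⟩ : S) = 1 := e.injective (by rw [h, map_one])
    exact hc1 (congrArg Subtype.val this)
  have hfour := dih_four n hn W hsq ((hmem _).mpr ⟨a, hES ha, ha, rfl⟩)
    ((hmem _).mpr ⟨b, hES hb, hb, rfl⟩) (hne1 a _ ha1) (hne1 b _ hb1)
    (fun h => hab (congrArg Subtype.val (e.injective h)))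
  obtain ⟨hzW, hsw⟩ := hfour
  have hzE : (zS : Γ) ∈ E := by
    obtain ⟨a0, h0, h0E, h0e⟩ := (hmem _).mp hzW
    have : (⟨a0, h0⟩ : S) = zS := e.injective (by rw [h0e, hez])
    rw [← this]
    exact h0E
  -- description of non-central elements
  have hrefl : ∀ x ∈ E, x ≠ 1 → x ≠ (zS : Γ) → ∀ hx : x ∈ S,
      DihedralGroup.r (cq n) * e ⟨x, hx⟩ * (DihedralGroup.r (cq n))⁻¹ =
        e ⟨x, hx⟩ * DihedralGroup.r (cz n) ∧ ∃ j, e ⟨x, hx⟩ = DihedralGroup.sr j := by
    intro x hx hx1 hxz hxS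
    apply hsw _ ((hmem _).mpr ⟨x, hxS, hx, rfl⟩) (hne1 x _ hx1)
    intro h
    have : (⟨x, hxS⟩ : S) = zS := e.injective (by rw [h, hez])
    exact hxz (congrArg Subtype.val this)
  refine ⟨hzE, ⟨(e.symm (DihedralGroup.r (cq n)) : S), (e.symm (DihedralGroup.r (cq n))).2, ?_⟩, ?_⟩
  · intro x hx hx1 hxz
    have h1 := (hrefl x hx hx1 hxz (hES hx)).1
    have h2 : e.symm (DihedralGroup.r (cq n)) * ⟨x, hES hx⟩ * (e.symm (DihedralGroup.r (cq n)))⁻¹ =
        ⟨x, hES hx⟩ * zS := by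
      apply e.injective
      rw [map_mul, map_mul, map_inv, MulEquiv.apply_symm_apply, map_mul, hez]
      exact h1
    exact congrArg Subtype.val h2
  · -- another four-group
    obtain ⟨x, hx, hx1, hxz⟩ : ∃ x ∈ E, x ≠ 1 ∧ x ≠ (zS : Γ) := by
      by_cases haz : a = zS
      · exact ⟨b, hb, hb1, fun h => hab (by rw [haz, h])⟩
      · exact ⟨a, ha, ha1, haz⟩
    obtain ⟨j, hj⟩ := (hrefl x hx hx1 hxz (hES hx)).2
    set bS : S := e.symm (DihedralGroup.sr (j + 1)) with hbS
    have heb : e bS = DihedralGroup.sr (j + 1) := by rw [hbS, MulEquiv.apply_symm_apply]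
    have hbb : (bS : Γ) * bS = 1 := by
      have h1 : bS * bS = 1 := by
        apply e.injective
        rw [map_mul, heb, DihedralGroup.sr_mul_sr, sub_self, map_one, DihedralGroup.r_zero]
      exact congrArg Subtype.val h1
    have hb1' : (bS : Γ) ≠ 1 := by
      intro h
      have h1 : bS = 1 := Subtype.ext h
      rw [h1, map_one, DihedralGroup.one_def] at heb
      exact absurd heb (by intro h; cases h)
    have hbz : (zS : Γ) ≠ bS := by
      intro h
      have h1 : zS = bS := Subtype.ext h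
      rw [← h1, hez] at heb
      exact absurd heb (by intro h; cases h)
    obtain ⟨E', hE', hmemE'⟩ := klein_of_comm_invol (zS : Γ) bS hzz hbb (hzc _ bS.2).symm hz1 hb1' hbz
    refine ⟨E', hE', ?_, ?_⟩
    · intro g hg
      rcases (hmemE' g).mp hg with rfl | rfl | rfl | rfl
      · exact S.one_mem
      · exact zS.2
      · exact bS.2
      · exact S.mul_mem zS.2 bS.2
    · intro hEE
      have hbE : (bS : Γ) ∈ E := by
        rw [← hEE, hmemE']
        right; right; left; rfl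
      have hxb : x * (bS : Γ) ∈ E := E.mul_mem hx hbE
      have h1 := hsq _ ((hmem _).mpr ⟨x * bS, S.mul_mem (hES hx) bS.2, hxb, rfl⟩)
      have h2 : e ⟨x * (bS : Γ), S.mul_mem (hES hx) bS.2⟩ = DihedralGroup.r 1 := by
        have : (⟨x * (bS : Γ), S.mul_mem (hES hx) bS.2⟩ : S) = ⟨x, hES hx⟩ * bS := rfl
        rw [this, map_mul, hj, heb, DihedralGroup.sr_mul_sr]
        congr 1
        ring
      rw [h2, DihedralGroup.r_mul_r, DihedralGroup.one_def, DihedralGroup.r.injEq] at h1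
      have h3 := cz_add n hn1
      have h4 := Cfsg.Agent.Lib.Helper1.zmod_two_pow_eq_of_double_eq_zero n hn1 1 (cz n) h1
        (one_ne_zero_zmod n hn1) h3 (cz_ne n hn1)
      exact one_ne_cz n hn h4

end transfer

end Cfsg.Agent.Lib.Helper9.Zfg
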