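import Mathlib
import Cfsg.Agent.Lib.Helper9.ZfgB

set_option autoImplicit false
set_option linter.unusedSectionVars false
set_option linter.unusedVariables false
set_option linter.style.longLine false
set_option linter.unusedSimpArgs false

set_option maxHeartbeats 1600000
namespace Cfsg.Agent.Lib.Helper9.Zfg

open Cfsg.Agent.Lib.Helper7.Zf
open scoped Pointwise

variable {Γ : Type*} [Group Γ]

/-- Sylow's theorem inside the centralizer of `a`: a `2`-subgroup `E` centralizing the involution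
`a = g₀ z g₀⁻¹` (`z` central in the Sylow subgroup `S`) lies in a conjugate `h S h⁻¹` with
`h z h⁻¹ = a` -/
theorem exists_conj_into [Finite Γ] (S : Sylow 2 Γ) (z a : Γ)
    (hzc : ∀ s ∈ (S : Subgroup Γ), s * z = z * s) (g0 : Γ) (hg0 : g0 * z * g0⁻¹ = a)
    (E : Subgroup Γ) (hE2 : IsPGroup 2 E) (hEa : ∀ x ∈ E, x * a = a * x) :
    ∃ h : Γ, h * z * h⁻¹ = a ∧ ∀ x ∈ E, h⁻¹ * x * h ∈ (S : Subgroup Γ) := by
  have : Fact (Nat.Prime 2) := ⟨Nat.prime_two⟩
  set C := Subgroup.centralizer ({a} : Set Γ) with hC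
  have hle : ((g0 • S : Sylow 2 Γ) : Subgroup Γ) ≤ C := by
    intro y hy
    rw [Sylow.coe_subgroup_smul] at hy
    obtain ⟨s, hs, rfl⟩ := (Subgroup.mem_smul_pointwise_iff_exists _ _ _).mp hy
    rw [hC, Subgroup.mem_centralizer_singleton_iff, MulAut.smul_def, MulAut.conj_apply, ← hg0]
    have h1 := hzc s hs
    calc g0 * s * g0⁻¹ * (g0 * z * g0⁻¹) = g0 * (s * z) * g0⁻¹ := by group
      _ = g0 * (z * s) * g0⁻¹ := by rw [h1]
      _ = g0 * z * g0⁻¹ * (g0 * s * g0⁻¹) := by group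
  set P1 : Sylow 2 C := (g0 • S : Sylow 2 Γ).subtype hle with hP1
  have hE' : IsPGroup 2 (E.subgroupOf C) := hE2.comap_subtype
  obtain ⟨R, hR⟩ := hE'.exists_le_sylow
  obtain ⟨c, hc⟩ := MulAction.exists_smul_eq C P1 R
  refine ⟨(c : Γ) * g0, ?_, ?_⟩
  · have hca : (c : Γ) * a = a * c := Subgroup.mem_centralizer_singleton_iff.mp c.2
    calc (c : Γ) * g0 * z * ((c : Γ) * g0)⁻¹ = c * (g0 * z * g0⁻¹) * (c : Γ)⁻¹ := by group
      _ = c * a * (c : Γ)⁻¹ := by rw [hg0]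
      _ = a := by rw [hca]; group
  · intro x hx
    have hxC : x ∈ C := by
      rw [hC, Subgroup.mem_centralizer_singleton_iff]
      exact hEa x hx
    have h1 : (⟨x, hxC⟩ : C) ∈ (R : Subgroup C) := hR (Subgroup.mem_subgroupOf.mpr hx)
    rw [← hc, Sylow.coe_subgroup_smul] at h1
    obtain ⟨y, hy, hyx⟩ := (Subgroup.mem_smul_pointwise_iff_exists _ _ _).mp h1
    rw [hP1, Sylow.coe_subtype, Subgroup.mem_subgroupOf, Sylow.coe_subgroup_smul] at hy
    obtain ⟨s, hs, hsy⟩ := (Subgroup.mem_smul_pointwise_iff_exists _ _ _).mp hy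
    rw [MulAut.smul_def, MulAut.conj_apply] at hsy hyx
    have h2 : x = (c : Γ) * (y : Γ) * (c : Γ)⁻¹ := by
      have := congrArg Subtype.val hyx
      simpa using this.symm
    rw [h2, ← hsy]
    have : ((c : Γ) * g0)⁻¹ * ((c : Γ) * (g0 * s * g0⁻¹) * (c : Γ)⁻¹) * ((c : Γ) * g0) = s := by
      group
    rw [this]
    exact hs

/-- a group isomorphic to a four-group is a four-group -/
theorem klein_of_equiv {A B : Type*} [Group A] [Group B] (hA : IsKleinFour A) (e : A ≃* B) :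
    IsKleinFour B where
  card_four := by rw [← Nat.card_congr e.toEquiv]; exact hA.card_four
  exponent_two := by rw [← Monoid.exponent_eq_of_mulEquiv e]; exact hA.exponent_two

/-- conjugates of four-groups are four-groups -/
theorem klein_conj {U : Subgroup Γ} (hU : IsKleinFour U) (h : Γ) :
    IsKleinFour (U.map (MulAut.conj h).toMonoidHom) :=
  klein_of_equiv hU (U.equivMapOfInjective _ (MulAut.conj h).injective)

theorem mem_conj {U : Subgroup Γ} (h x : Γ) :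
    x ∈ U.map (MulAut.conj h).toMonoidHom ↔ h⁻¹ * x * h ∈ U := by
  rw [Subgroup.mem_map]
  constructor
  · rintro ⟨y, hy, rfl⟩
    have : h⁻¹ * ((MulAut.conj h).toMonoidHom y) * h = y := by
      show h⁻¹ * (MulAut.conj h y) * h = y
      rw [MulAut.conj_apply]; group
    rw [this]; exact hy
  · intro hx
    refine ⟨h⁻¹ * x * h, hx, ?_⟩
    show MulAut.conj h (h⁻¹ * x * h) = x
    rw [MulAut.conj_apply]; group

/-- **Lemma F**: if all involutions are conjugate and the Sylow `2`-subgroup is dihedral of order at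
least eight, every four-subgroup `E` of it is normalized by a `3`-element inducing an automorphism
of order three. -/
theorem exists_three_elt [Finite Γ] (S : Sylow 2 Γ) (n : ℕ) (hn : 2 ≤ n)
    (hS : Nonempty ((S : Subgroup Γ) ≃* DihedralGroup (2 ^ n)))
    (hconj : ∀ s t : Γ, orderOf s = 2 → orderOf t = 2 → ∃ g : Γ, g * s * g⁻¹ = t)
    (E : Subgroup Γ) (hE : IsKleinFour E) (hES : E ≤ S) :
    ∃ g : Γ, (∃ k : ℕ, orderOf g = 3 ^ k) ∧ g ≠ 1 ∧ (∀ a ∈ E, g * a * g⁻¹ ∈ E) ∧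
      (∃ a ∈ E, g * a * g⁻¹ ≠ a) ∧ ∀ a ∈ E, g ^ 3 * a = a * g ^ 3 := by
  obtain ⟨e⟩ := hS
  obtain ⟨z, hzS, hz1, hzz, hzc, hfour⟩ := dih_swap (S : Subgroup Γ) n hn e
  obtain ⟨hzE, ⟨s, hsS, hs⟩, -⟩ := hfour E hE hES
  obtain ⟨a, ha, ha1, haz⟩ : ∃ a ∈ E, a ≠ 1 ∧ a ≠ z := by
    obtain ⟨a, b, ha, hb, ha1, hb1, hab⟩ := klein_exists_two hE
    by_cases haz : a = z
    · exact ⟨b, hb, hb1, fun h => hab (by rw [haz, h])⟩
    · exact ⟨a, ha, ha1, haz⟩
  have haa : a * a = 1 := klein_sq hE ha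
  have hcomm : a * z = z * a := klein_comm hE ha hzE
  have hoz : orderOf z = 2 := orderOf_eq_prime (by rw [pow_two]; exact hzz) hz1
  have hoa : orderOf a = 2 := orderOf_eq_prime (by rw [pow_two]; exact haa) ha1
  obtain ⟨g0, hg0⟩ := hconj z a hoz hoa
  have hE2 : IsPGroup 2 E := IsPGroup.of_card (n := 2) hE.card_four
  obtain ⟨h, hh, hhE⟩ := exists_conj_into S z a hzc g0 hg0 E hE2 (fun x hx => klein_comm hE hx ha)
  -- the conjugate four-group inside `S`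
  set E2 : Subgroup Γ := E.map (MulAut.conj h⁻¹).toMonoidHom with hE2def
  have hE2K : IsKleinFour E2 := klein_conj hE h⁻¹
  have hE2mem : ∀ x, x ∈ E2 ↔ h * x * h⁻¹ ∈ E := by
    intro x
    rw [hE2def, mem_conj, inv_inv]
  have hE2S : E2 ≤ S := by
    intro x hx
    have h1 := hhE _ ((hE2mem x).mp hx)
    have : h⁻¹ * (h * x * h⁻¹) * h = x := by group
    rwa [this] at h1
  obtain ⟨-, ⟨s', hs'S, hs'⟩, -⟩ := hfour E2 hE2K hE2S
  obtain ⟨b, hb⟩ : ∃ b : Γ, b = h⁻¹ * z * h := ⟨_, rfl⟩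
  have hbE2 : b ∈ E2 := by
    rw [hE2mem, hb]
    have : h * (h⁻¹ * z * h) * h⁻¹ = z := by group
    rw [this]; exact hzE
  have hb1 : b ≠ 1 := by
    intro h1
    apply hz1
    have : z = h * b * h⁻¹ := by rw [hb]; group
    rw [this, h1]; group
  have hbz : b ≠ z := by
    intro h1
    apply haz
    calc a = h * z * h⁻¹ := hh.symm
      _ = h * b * h⁻¹ := by rw [h1]
      _ = z := by rw [hb]; group
  have hsb := hs' b hbE2 hb1 hbz
  have hza : h⁻¹ * a * h = z := by rw [← hh]; group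
  obtain ⟨t', ht'⟩ : ∃ t' : Γ, t' = h * s' * h⁻¹ := ⟨_, rfl⟩
  have ht'z : t' * z * t'⁻¹ = z * a := by
    calc t' * z * t'⁻¹ = h * (s' * b * s'⁻¹) * h⁻¹ := by rw [ht', hb]; group
      _ = h * (b * z) * h⁻¹ := by rw [hsb]
      _ = (h * b * h⁻¹) * (h * z * h⁻¹) := by group
      _ = z * a := by
        rw [hh]
        congr 1
        rw [hb]; group
  have ht'a : t' * a * t'⁻¹ = a := by
    calc t' * a * t'⁻¹ = h * (s' * (h⁻¹ * a * h) * s'⁻¹) * h⁻¹ := by rw [ht']; group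
      _ = h * (s' * z * s'⁻¹) * h⁻¹ := by rw [hza]
      _ = h * z * h⁻¹ := by rw [hzc s' hs'S]; group
      _ = a := hh
  have hsa := hs a ha ha1 haz
  have hsz : s * z * s⁻¹ = z := by rw [hzc s hsS]; group
  obtain ⟨g1, hg1⟩ : ∃ g1 : Γ, g1 = s * t' := ⟨_, rfl⟩
  have hg1z : g1 * z * g1⁻¹ = a := by
    calc g1 * z * g1⁻¹ = s * (t' * z * t'⁻¹) * s⁻¹ := by rw [hg1]; group
      _ = (s * z * s⁻¹) * (s * a * s⁻¹) := by rw [ht'z]; group
      _ = z * (a * z) := by rw [hsz, hsa]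
      _ = a := by rw [hcomm, ← mul_assoc, hzz, one_mul]
  have hg1a : g1 * a * g1⁻¹ = a * z := by
    calc g1 * a * g1⁻¹ = s * (t' * a * t'⁻¹) * s⁻¹ := by rw [hg1]; group
      _ = a * z := by rw [ht'a, hsa]
  have hg1az : g1 * (a * z) * g1⁻¹ = z := by
    calc g1 * (a * z) * g1⁻¹ = (g1 * a * g1⁻¹) * (g1 * z * g1⁻¹) := by group
      _ = a * z * a := by rw [hg1a, hg1z]
      _ = z := by rw [hcomm, mul_assoc, haa, mul_one]
  have hEmem : ∀ x ∈ E, x = 1 ∨ x = z ∨ x = a ∨ x = z * a := fun x hx =>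
    klein_mem hE hzE ha hx hz1 ha1 (Ne.symm haz)
  have hnorm : ∀ x ∈ E, g1 * x * g1⁻¹ ∈ E := by
    intro x hx
    rcases hEmem x hx with rfl | rfl | rfl | rfl
    · simp
    · rw [hg1z]; exact ha
    · rw [hg1a]; exact E.mul_mem ha hzE
    · rw [← hcomm, hg1az]; exact hzE
  -- the centralizer of `E`
  set K : Subgroup Γ := Subgroup.centralizer (E : Set Γ) with hK
  have hKmem : ∀ g : Γ, g ∈ K ↔ ∀ x ∈ E, g * x * g⁻¹ = x := by
    intro g
    rw [hK, Subgroup.mem_centralizer_iff]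
    constructor
    · intro hg x hx
      rw [← hg x hx]; group
    · intro hg x hx
      have := hg x hx
      calc x * g = (g * x * g⁻¹) * g := by rw [this]
        _ = g * x := by group
  have hg1K : g1 ∉ K := by
    intro hg
    exact haz (by rw [← hg1z, (hKmem g1).mp hg z hzE])
  have e3 : g1 ^ 3 = g1 * g1 * g1 := by rw [pow_succ, pow_two]
  have hg13 : g1 ^ 3 ∈ K := by
    rw [hKmem]
    have hz3 : g1 ^ 3 * z * (g1 ^ 3)⁻¹ = z := by
      calc g1 ^ 3 * z * (g1 ^ 3)⁻¹ = g1 * (g1 * (g1 * z * g1⁻¹) * g1⁻¹) * g1⁻¹ := by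
            rw [e3]; group
        _ = z := by rw [hg1z, hg1a, hg1az]
    have ha3 : g1 ^ 3 * a * (g1 ^ 3)⁻¹ = a := by
      calc g1 ^ 3 * a * (g1 ^ 3)⁻¹ = g1 * (g1 * (g1 * a * g1⁻¹) * g1⁻¹) * g1⁻¹ := by
            rw [e3]; group
        _ = a := by rw [hg1a, hg1az, hg1z]
    intro x hx
    rcases hEmem x hx with rfl | rfl | rfl | rfl
    · simp
    · exact hz3
    · exact ha3
    · calc g1 ^ 3 * (z * a) * (g1 ^ 3)⁻¹ = (g1 ^ 3 * z * (g1 ^ 3)⁻¹) * (g1 ^ 3 * a * (g1 ^ 3)⁻¹) := by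
            group
        _ = z * a := by rw [hz3, ha3]
  -- the 3-part
  obtain ⟨k, m, hm3, ho⟩ := Nat.exists_eq_pow_mul_and_not_dvd (orderOf_pos g1).ne' 3 (by norm_num)
  have hm0 : m ≠ 0 := by
    rintro rfl
    exact hm3 (dvd_zero 3)
  have hgm : g1 ^ m ∉ K := by
    intro hmem
    have hcop : Nat.Coprime m 3 := (Nat.Coprime.symm ((Nat.Prime.coprime_iff_not_dvd Nat.prime_three).mpr hm3))
    obtain ⟨u, v, huv⟩ := (Nat.isCoprime_iff_coprime.mpr hcop)
    apply hg1K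
    have : g1 = (g1 ^ m) ^ u * (g1 ^ 3) ^ v := by
      rw [← zpow_natCast g1 m, ← zpow_natCast g1 3, ← zpow_mul, ← zpow_mul, ← zpow_add]
      have : (m : ℤ) * u + ((3 : ℕ) : ℤ) * v = 1 := by
        rw [← huv]; push_cast; ring
      rw [this, zpow_one]
    rw [this]
    exact K.mul_mem (K.zpow_mem hmem u) (K.zpow_mem hg13 v)
  have hpow : ∀ j : ℕ, ∀ x ∈ E, g1 ^ j * x * (g1 ^ j)⁻¹ ∈ E := by
    intro j
    induction j with
    | zero => intro x hx; simpa using hx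
    | succ j ih =>
      intro x hx
      have h1 := hnorm _ (ih x hx)
      have : g1 ^ (j + 1) * x * (g1 ^ (j + 1))⁻¹ = g1 * (g1 ^ j * x * (g1 ^ j)⁻¹) * g1⁻¹ := by
        rw [pow_succ']; group
      rw [this]; exact h1
  refine ⟨g1 ^ m, ⟨k, ?_⟩, ?_, hpow m, ?_, ?_⟩
  · rw [orderOf_pow_of_dvd hm0 (Dvd.intro_left _ ho.symm), ho, Nat.mul_div_cancel _ (Nat.pos_of_ne_zero hm0)]
  · intro h1
    apply hgm
    rw [h1]; exact K.one_mem
  · by_contra hcon
    push Not at hcon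
    exact hgm ((hKmem _).mpr hcon)
  · have h3 : (g1 ^ m) ^ 3 ∈ K := by
      rw [← pow_mul, mul_comm, pow_mul]
      exact K.pow_mem hg13 m
    intro x hx
    have := (hKmem _).mp h3 x hx
    calc (g1 ^ m) ^ 3 * x = ((g1 ^ m) ^ 3 * x * ((g1 ^ m) ^ 3)⁻¹) * (g1 ^ m) ^ 3 := by group
      _ = x * (g1 ^ m) ^ 3 := by rw [this]

end Cfsg.Agent.Lib.Helper9.Zfg
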