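import Mathlib
import Cfsg.Agent.Lib.Helper9.ZfgC
import Cfsg.Agent.Lib.Helper1.ZaG2
import Cfsg.Agent.Lib.Helper7.CycSyl1

set_option autoImplicit false
set_option linter.unusedSectionVars false
set_option linter.unusedVariables false
set_option linter.style.longLine false
set_option linter.unusedSimpArgs false

set_option maxHeartbeats 1600000
namespace Cfsg.Agent.Lib.Helper9.Zfg

open Cfsg.Agent.Lib.Helper7.Zf Cfsg.Agent.Lib.Helper1.ZaG
open scoped Pointwise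

variable {Γ : Type*} [Group Γ]

theorem mem_normalizer_of_both {U : Subgroup Γ} {g : Γ} (h1 : ∀ a ∈ U, g * a * g⁻¹ ∈ U)
    (h2 : ∀ a ∈ U, g⁻¹ * a * g ∈ U) : g ∈ Subgroup.normalizer (U : Set Γ) := by
  rw [Subgroup.mem_normalizer_iff]
  intro a
  constructor
  · exact h1 a
  · intro h
    have := h2 _ h
    have e : g⁻¹ * (g * a * g⁻¹) * g = a := by group
    rwa [e] at this

/-- the centralizer of an involution normalizes the special four-group containing it -/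
theorem cent_le_norm
    (uniq : ∀ U U' : Subgroup Γ, Special U → Special U' → (∃ z : Γ, z ≠ 1 ∧ z ∈ U ∧ z ∈ U') → U = U')
    {U : Subgroup Γ} (hU : Special U) {z : Γ} (hz1 : z ≠ 1) (hzU : z ∈ U) (c : Γ)
    (hc : c * z = z * c) : ∀ a ∈ U, c * a * c⁻¹ ∈ U := by
  have hU' := conj_special U hU c
  have hz' : z ∈ U.map (MulAut.conj c).toMonoidHom := by
    rw [mem_map_conj]
    have : c⁻¹ * z * c = z := by
      calc c⁻¹ * z * c = c⁻¹ * (z * c) := by group
        _ = c⁻¹ * (c * z) := by rw [hc]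
        _ = z := by group
    rw [this]; exact hzU
  have heq := uniq _ _ hU' hU ⟨z, hz1, hz', hzU⟩
  intro a ha
  rw [← heq, mem_map_conj]
  have : c⁻¹ * (c * a * c⁻¹) * c = a := by group
  rw [this]; exact ha

/-- a `2`-subgroup normalized by a Sylow `2`-subgroup lies in it -/
theorem le_sylow_of_normalizes [Finite Γ] (S : Sylow 2 Γ) (U : Subgroup Γ) (hU2 : IsPGroup 2 U)
    (hnorm : ∀ s ∈ (S : Subgroup Γ), ∀ a ∈ U, s * a * s⁻¹ ∈ U) : U ≤ S := by
  have hle : (S : Subgroup Γ) ≤ Subgroup.normalizer (U : Set Γ) := by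
    intro s hs
    apply mem_normalizer_of_both (hnorm s hs)
    intro a ha
    have := hnorm s⁻¹ (inv_mem hs) a ha
    rwa [inv_inv] at this
  have hp : IsPGroup 2 ((S : Subgroup Γ) ⊔ U : Subgroup Γ) :=
    IsPGroup.to_sup_of_normal_right' S.isPGroup' hU2 hle
  have := S.is_maximal' hp le_sup_left
  rw [← this]
  exact le_sup_right

/-- in a group with cyclic Sylow `3`-subgroups, subgroups of order three of a subgroup `N` are
conjugate in `N` -/
theorem conj_order_three [Finite Γ]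
    (hodd : ∀ (p : ℕ) [Fact p.Prime], p ≠ 2 → ∀ P : Sylow p Γ, IsCyclic P)
    (N : Subgroup Γ) (x y : Γ) (hx : x ∈ N) (hy : y ∈ N) (hxo : orderOf x = 3)
    (hyo : orderOf y = 3) : ∃ c ∈ N, ∃ i : ℤ, x = c * y ^ i * c⁻¹ := by
  have : Fact (Nat.Prime 3) := ⟨Nat.prime_three⟩
  have hpg : ∀ w : N, orderOf w = 3 → IsPGroup 3 (Subgroup.zpowers w) := by
    intro w hw
    apply IsPGroup.of_card (n := 1)
    rw [Nat.card_zpowers, hw, pow_one]
  have hxo' : orderOf (⟨x, hx⟩ : N) = 3 := by rw [Subgroup.orderOf_mk]; exact hxo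
  have hyo' : orderOf (⟨y, hy⟩ : N) = 3 := by rw [Subgroup.orderOf_mk]; exact hyo
  obtain ⟨Q1, hQ1⟩ := (hpg _ hxo').exists_le_sylow
  obtain ⟨Q3, hQ3⟩ := (hpg _ hyo').exists_le_sylow
  obtain ⟨c, hc⟩ := MulAction.exists_smul_eq N Q3 Q1
  have hcy : c * ⟨y, hy⟩ * c⁻¹ ∈ (Q1 : Subgroup N) := by
    rw [← hc, Sylow.coe_subgroup_smul]
    refine (Subgroup.mem_smul_pointwise_iff_exists _ _ _).mpr ⟨⟨y, hy⟩, hQ3 (Subgroup.mem_zpowers _), ?_⟩
    rw [MulAut.smul_def, MulAut.conj_apply]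
  have hxQ : (⟨x, hx⟩ : N) ∈ (Q1 : Subgroup N) := hQ1 (Subgroup.mem_zpowers _)
  -- push to Γ
  have hQ1' : IsPGroup 3 ((Q1 : Subgroup N).map N.subtype) := Q1.isPGroup'.map _
  obtain ⟨P, hP⟩ := hQ1'.exists_le_sylow
  have hPc : IsCyclic (P : Subgroup Γ) := hodd 3 (by norm_num) P
  have hxP : x ∈ (P : Subgroup Γ) := hP ⟨⟨x, hx⟩, hxQ, rfl⟩
  have hyP : (c : Γ) * y * (c : Γ)⁻¹ ∈ (P : Subgroup Γ) := hP ⟨c * ⟨y, hy⟩ * c⁻¹, hcy, rfl⟩
  have hyo2 : orderOf ((c : Γ) * y * (c : Γ)⁻¹) = 3 := by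
    have := (MulAut.conj (c : Γ)).orderOf_eq y
    rw [MulAut.conj_apply] at this
    rw [this]; exact hyo
  have hx3 : x ^ 3 = 1 := by rw [← hxo]; exact pow_orderOf_eq_one x
  have hmem := Cfsg.Agent.Lib.Helper7.CycSyl.mem_zpowers_of_mem_cyclic Nat.prime_three
    (P : Subgroup Γ) hPc hyP hxP hyo2 hx3
  obtain ⟨i, hi⟩ := Subgroup.mem_zpowers_iff.mp hmem
  refine ⟨c, c.2, i, ?_⟩
  rw [← hi, conj_zpow]

/-- **the dihedral eliminations**: under the hypotheses of the main theorem of part G (one class of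
involutions, a special four-group exists, special four-groups with a common involution are equal,
odd Sylow subgroups cyclic), the dihedral Sylow `2`-subgroup is a four-group. -/
theorem n_eq_one [Finite Γ] (S : Sylow 2 Γ) (n : ℕ) (hn : 1 ≤ n)
    (hS : Nonempty ((S : Subgroup Γ) ≃* DihedralGroup (2 ^ n)))
    (hodd : ∀ (p : ℕ) [Fact p.Prime], p ≠ 2 → ∀ P : Sylow p Γ, IsCyclic P)
    (hconj : ∀ s t : Γ, orderOf s = 2 → orderOf t = 2 → ∃ g : Γ, g * s * g⁻¹ = t)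
    (hex : ∃ U : Subgroup Γ, Special U)
    (uniq : ∀ U U' : Subgroup Γ, Special U → Special U' → (∃ z : Γ, z ≠ 1 ∧ z ∈ U ∧ z ∈ U') → U = U') :
    n = 1 := by
  by_contra hne
  have hn2 : 2 ≤ n := by omega
  obtain ⟨e⟩ := hS
  obtain ⟨z, hzS, hz1, hzz, hzc, hfour⟩ := dih_swap (S : Subgroup Γ) n hn2 e
  have hoz : orderOf z = 2 := orderOf_eq_prime (by rw [pow_two]; exact hzz) hz1
  obtain ⟨U0, hU0⟩ := hex
  obtain ⟨a0, b0, ha0, -, ha01, -, -⟩ := klein_exists_two hU0.1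
  have hoa0 : orderOf a0 = 2 :=
    orderOf_eq_prime (by rw [pow_two]; exact klein_sq hU0.1 ha0) ha01
  obtain ⟨g, hg⟩ := hconj a0 z hoa0 hoz
  set U1 : Subgroup Γ := U0.map (MulAut.conj g).toMonoidHom with hU1def
  have hU1 : Special U1 := conj_special U0 hU0 g
  have hzU1 : z ∈ U1 := by
    rw [hU1def, mem_map_conj, ← hg]
    have : g⁻¹ * (g * a0 * g⁻¹) * g = a0 := by group
    rw [this]; exact ha0
  have hcn : ∀ c : Γ, c * z = z * c → ∀ a ∈ U1, c * a * c⁻¹ ∈ U1 :=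
    fun c hc => cent_le_norm uniq hU1 hz1 hzU1 c hc
  have hnormS : ∀ s ∈ (S : Subgroup Γ), ∀ a ∈ U1, s * a * s⁻¹ ∈ U1 :=
    fun s hs => hcn s (hzc s hs)
  have hU1p : IsPGroup 2 U1 := IsPGroup.of_card (n := 2) hU1.1.card_four
  have hU1S : U1 ≤ S := le_sylow_of_normalizes S U1 hU1p hnormS
  by_cases h3 : 3 ≤ n
  · exact dihedral_no_normal_klein (S : Subgroup Γ) n h3 e U1 hU1.1 hU1S hnormS
  · have hn' : n = 2 := by omega
    subst hn'
    obtain ⟨-, -, U2, hU2K, hU2S, hU2ne⟩ := hfour U1 hU1.1 hU1S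
    obtain ⟨hzU2, -, -⟩ := hfour U2 hU2K hU2S
    have hU2ns : ¬ Special U2 := fun h => hU2ne (uniq U2 U1 h hU1 ⟨z, hz1, hzU2, hzU1⟩)
    obtain ⟨g3, ⟨k, hk⟩, hg1, hgn, ⟨a, ha, hga⟩, hg3⟩ :=
      exists_three_elt S 2 le_rfl ⟨e⟩ hconj U2 hU2K hU2S
    have hk0 : k ≠ 0 := by
      rintro rfl
      rw [pow_zero, orderOf_eq_one_iff] at hk
      exact hg1 hk
    by_cases hk1 : k = 1
    · -- `U2` would be special
      apply hU2ns
      rw [hk1, pow_one] at hk
      refine ⟨hU2K, g3, hk, ?_, a, ha, hga⟩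
      apply mem_normalizer_of_both hgn
      intro x hx
      have h3' : g3 ^ 3 = 1 := by rw [← hk]; exact pow_orderOf_eq_one g3
      have hinv : g3⁻¹ = g3 * g3 := by
        apply inv_eq_of_mul_eq_one_left
        rw [← h3', pow_succ, pow_two]
      have h1 := hgn _ (hgn x hx)
      have : g3⁻¹ * x * g3 = g3 * (g3 * x * g3⁻¹) * g3⁻¹ := by
        have e1 : g3 * (g3 * x * g3⁻¹) * g3⁻¹ = (g3 * g3) * x * (g3 * g3)⁻¹ := by group
        rw [e1, ← hinv, inv_inv]
      rw [this]; exact h1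
    · -- an element of order three centralizing `U2`
      have hk2 : 2 ≤ k := by omega
      obtain ⟨x3, hx3def⟩ : ∃ x3 : Γ, x3 = g3 ^ 3 ^ (k - 1) := ⟨_, rfl⟩
      have hx3o : orderOf x3 = 3 := by
        rw [hx3def, orderOf_pow_of_dvd (by positivity) (by rw [hk]; exact pow_dvd_pow 3 (by omega)),
          hk]
        have : 3 ^ k = 3 ^ (k - 1) * 3 := by rw [← pow_succ]; congr 1; omega
        rw [this, Nat.mul_div_cancel_left _ (by positivity)]
      have hx3c : ∀ a ∈ U2, x3 * a = a * x3 := by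
        intro a ha
        have hpow : x3 = (g3 ^ 3) ^ 3 ^ (k - 2) := by
          rw [hx3def, ← pow_mul, ← pow_succ']
          congr 2; omega
        rw [hpow]
        exact ((show Commute (g3 ^ 3) a from hg3 a ha).pow_left _).eq
      have hx3z : x3 * z = z * x3 := hx3c z hzU2
      have hx33 : x3 ^ 3 = 1 := by rw [← hx3o]; exact pow_orderOf_eq_one x3
      have hx3n : x3 ∈ Subgroup.normalizer (U1 : Set Γ) := by
        apply mem_normalizer_of_both (hcn x3 hx3z)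
        intro a ha
        have hinv : x3⁻¹ * z = z * x3⁻¹ := by
          calc x3⁻¹ * z = x3⁻¹ * (z * x3) * x3⁻¹ := by group
            _ = x3⁻¹ * (x3 * z) * x3⁻¹ := by rw [hx3z]
            _ = z * x3⁻¹ := by group
        have := hcn x3⁻¹ hinv a ha
        rwa [inv_inv] at this
      have hx3U1 : ∀ a ∈ U1, x3 * a * x3⁻¹ = a := by
        intro a ha
        by_contra hcon
        have := special_moves hU1.1 hx33 hx3n ha hcon hzU1 hz1
        apply this
        rw [hx3z]; group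
      obtain ⟨-, x1, hx1o, hx1n, a1, ha1, hx1a⟩ := hU1
      obtain ⟨c, hcN, i, hci⟩ := conj_order_three hodd (Subgroup.normalizer (U1 : Set Γ)) x1 x3
        hx1n hx3n hx1o hx3o
      apply hx1a
      have hcinv : c⁻¹ * a1 * c ∈ U1 := by
        have := (Subgroup.mem_normalizer_iff.mp (inv_mem hcN) a1).1 ha1
        rwa [inv_inv] at this
      have hcomm : x3 ^ i * (c⁻¹ * a1 * c) * (x3 ^ i)⁻¹ = c⁻¹ * a1 * c := by
        have h1 : Commute x3 (c⁻¹ * a1 * c) := by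
          have := hx3U1 _ hcinv
          show x3 * (c⁻¹ * a1 * c) = (c⁻¹ * a1 * c) * x3
          calc x3 * (c⁻¹ * a1 * c) = (x3 * (c⁻¹ * a1 * c) * x3⁻¹) * x3 := by group
            _ = (c⁻¹ * a1 * c) * x3 := by rw [this]
        have h2 := (h1.zpow_left i).eq
        calc x3 ^ i * (c⁻¹ * a1 * c) * (x3 ^ i)⁻¹ = (c⁻¹ * a1 * c) * x3 ^ i * (x3 ^ i)⁻¹ := by rw [h2]
          _ = c⁻¹ * a1 * c := by group
      calc x1 * a1 * x1⁻¹ = c * (x3 ^ i * (c⁻¹ * a1 * c) * (x3 ^ i)⁻¹) * c⁻¹ := by rw [hci]; group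
        _ = c * (c⁻¹ * a1 * c) * c⁻¹ := by rw [hcomm]
        _ = a1 := by group

end Cfsg.Agent.Lib.Helper9.Zfg
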