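import Cfsg.Prelude.Def_Sporadic_a

set_option autoImplicit false

namespace Cfsg.Agent.Lib.Helper9.Steiner1

open Finset

variable {α : Type*} [Fintype α] [DecidableEq α]

/-- number of `k`-sets between `Z` and `b`. -/
theorem card_between (Z b : Finset α) (hZb : Z ⊆ b) (k : ℕ) (hk : Z.card ≤ k) :
    (univ.filter (fun S : Finset α => Z ⊆ S ∧ S ⊆ b ∧ S.card = k)).card
      = (b.card - Z.card).choose (k - Z.card) := by
  rw [← card_sdiff_of_subset hZb, ← card_powersetCard]
  refine card_nbij' (fun S => S \ Z) (fun T => T ∪ Z) ?_ ?_ ?_ ?_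
  · intro S hS
    simp only [coe_filter, mem_univ, true_and, Set.mem_ofPred_eq] at hS
    obtain ⟨h1, h2, h3⟩ := hS
    simp only [mem_coe, mem_powersetCard]
    refine ⟨sdiff_subset_sdiff h2 le_rfl, ?_⟩
    rw [card_sdiff_of_subset h1, h3]
  · intro T hT
    simp only [mem_coe, mem_powersetCard] at hT
    obtain ⟨h1, h2⟩ := hT
    simp only [coe_filter, mem_univ, true_and, Set.mem_ofPred_eq]
    have hd : Disjoint T Z := disjoint_of_subset_left h1 sdiff_disjoint
    refine ⟨subset_union_right, union_subset (h1.trans sdiff_subset) hZb, ?_⟩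
    rw [card_union_of_disjoint hd, h2]
    omega
  · intro S hS
    simp only [coe_filter, mem_univ, true_and, Set.mem_ofPred_eq] at hS
    exact sdiff_union_of_subset hS.1
  · intro T hT
    simp only [mem_coe, mem_powersetCard] at hT
    have hd : Disjoint T Z := disjoint_of_subset_left hT.1 sdiff_disjoint
    exact union_sdiff_cancel_right hd

/-- number of blocks through an `i`-set in a Steiner system. -/
theorem card_blocks_through (t k : ℕ) (B : Finset (Finset α))
    (hB : Cfsg.IsSteinerSystem t k (B : Set (Finset α))) (Z : Finset α) (hZ : Z.card ≤ t) :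
    (B.filter (fun b => Z ⊆ b)).card * (k - Z.card).choose (t - Z.card)
      = (Fintype.card α - Z.card).choose (t - Z.card) := by
  obtain ⟨hk, hu⟩ := hB
  have h := card_mul_eq_card_mul (fun (S : Finset α) (b : Finset α) => S ⊆ b)
    (s := univ.filter (fun S : Finset α => Z ⊆ S ∧ S ⊆ univ ∧ S.card = t))
    (t := B.filter (fun b => Z ⊆ b)) (m := 1) (n := (k - Z.card).choose (t - Z.card)) ?_ ?_
  · rw [mul_one, card_between Z univ (subset_univ _) t hZ, card_univ] at h
    exact h.symm
  · intro S hS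
    simp only [mem_filter, mem_univ, true_and] at hS
    obtain ⟨b, ⟨hbB, hSb⟩, hbu⟩ := hu S hS.2.2
    rw [card_eq_one]
    refine ⟨b, ?_⟩
    ext c
    simp only [mem_bipartiteAbove, mem_filter, mem_singleton]
    constructor
    · rintro ⟨⟨hcB, -⟩, hSc⟩
      exact hbu c ⟨hcB, hSc⟩
    · rintro rfl
      exact ⟨⟨hbB, hS.1.trans hSb⟩, hSb⟩
  · intro b hb
    simp only [mem_filter] at hb
    have hkb : b.card = k := hk b hb.1
    rw [← hkb, ← card_between Z b hb.2 t hZ]
    congr 1
    ext S
    simp only [mem_bipartiteBelow, mem_filter, mem_univ, true_and]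
    constructor
    · rintro ⟨⟨h1, -, h3⟩, h4⟩
      exact ⟨h1, h4, h3⟩
    · rintro ⟨h1, h2, h3⟩
      exact ⟨⟨h1, subset_univ _, h3⟩, h2⟩

end Cfsg.Agent.Lib.Helper9.Steiner1
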