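import Cfsg.Agent.Lib.Helper9.GolayQR5
import Cfsg.Agent.Lib.Helper9.Steiner1

set_option autoImplicit false

namespace Cfsg.Agent.Lib.Helper9.GolayQR6

open Cfsg Finset Cfsg.Agent.Lib.Helper9.Golay1 Cfsg.Agent.Lib.Helper9.GolayQR4
  Cfsg.Agent.Lib.Helper9.GolayQR5

theorem supp_injective {ι : Type*} [Fintype ι] [DecidableEq ι] :
    Function.Injective (supp : (ι → ZMod 2) → Finset ι) :=
  fun u v h => (supp_eq_iff u v).mp h

/-- the codewords of weight `n`, as a finset -/
noncomputable def wordsN (n : ℕ) : Finset (GolayPt → ZMod 2) := by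
  classical
  exact univ.filter fun c => c ∈ golayCode ∧ hammingNorm c = n

theorem mem_wordsN (n : ℕ) (c : GolayPt → ZMod 2) :
    c ∈ wordsN n ↔ c ∈ golayCode ∧ hammingNorm c = n := by
  classical
  simp [wordsN]

theorem wordsOfWeight_ncard (n : ℕ) :
    (wordsOfWeight (golayCode : Set (GolayPt → ZMod 2)) n).ncard = (wordsN n).card := by
  have h : wordsOfWeight (golayCode : Set (GolayPt → ZMod 2)) n
      = supp '' (wordsN n : Set (GolayPt → ZMod 2)) := by
    ext b
    constructor
    · rintro ⟨⟨c, hc, rfl⟩, hcard⟩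
      refine ⟨c, ?_, supp_eq_support₂ c⟩
      rw [mem_coe, mem_wordsN]
      refine ⟨hc, ?_⟩
      rw [wt_eq, supp_eq_support₂]
      exact hcard
    · rintro ⟨c, hc, rfl⟩
      rw [mem_coe, mem_wordsN] at hc
      refine ⟨⟨c, hc.1, (supp_eq_support₂ c).symm⟩, ?_⟩
      rw [← wt_eq]
      exact hc.2
  rw [h, Set.ncard_image_of_injective _ supp_injective, Set.ncard_coe_finset]

theorem card_octads : octads.ncard = 759 := by
  classical
  obtain ⟨Bf, hBf⟩ : ∃ Bf : Finset (Finset GolayPt), Bf = univ.filter (· ∈ octads) := ⟨_, rfl⟩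
  have hBc : (Bf : Set (Finset GolayPt)) = octads := by ext; simp [hBf]
  have hB' : IsSteinerSystem 5 8 (Bf : Set (Finset GolayPt)) := hBc ▸ octads_isSteiner
  have h := Cfsg.Agent.Lib.Helper9.Steiner1.card_blocks_through 5 8 Bf hB' ∅ (by simp)
  rw [card_golayPt] at h
  simp only [card_empty, Nat.sub_zero, empty_subset, filter_true] at h
  have c24 : Nat.choose 24 5 = 42504 := by decide
  have c8 : Nat.choose 8 5 = 56 := by decide
  rw [c24, c8] at h
  rw [← hBc, Set.ncard_coe_finset]
  omega

theorem one_mem : (1 : GolayPt → ZMod 2) ∈ golayCode :=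
  Submodule.subset_span (Or.inr rfl)

theorem supp_one : supp (1 : GolayPt → ZMod 2) = univ := by
  ext p
  simp [mem_supp]

theorem wt_add_one (c : GolayPt → ZMod 2) : hammingNorm (c + 1) + hammingNorm c = 24 := by
  have h := wt_add c 1
  rw [supp_one, inter_univ, ← wt_eq] at h
  have h1 : hammingNorm (1 : GolayPt → ZMod 2) = 24 := by
    rw [wt_eq, supp_one, card_univ, card_golayPt]
  omega

theorem card_words_zero : (wordsN 0).card = 1 := by
  have : wordsN 0 = {0} := by
    ext c
    rw [mem_wordsN, mem_singleton]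
    constructor
    · rintro ⟨-, h⟩
      exact hammingNorm_eq_zero.mp h
    · rintro rfl
      exact ⟨Submodule.zero_mem _, hammingNorm_zero⟩
  rw [this, card_singleton]

theorem card_words_full : (wordsN 24).card = 1 := by
  have : wordsN 24 = {1} := by
    ext c
    rw [mem_wordsN, mem_singleton]
    constructor
    · rintro ⟨-, h⟩
      have h2 := wt_add_one c
      have h3 : hammingNorm (c + 1) = 0 := by omega
      have h4 : c + 1 = 0 := hammingNorm_eq_zero.mp h3
      calc c = (c + 1) + 1 := by rw [add_assoc, add_self', add_zero]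
        _ = 1 := by rw [h4, zero_add]
    · rintro rfl
      refine ⟨one_mem, ?_⟩
      rw [wt_eq, supp_one, card_univ, card_golayPt]
  rw [this, card_singleton]

theorem card_words_compl (n : ℕ) (hn : n ≤ 24) : (wordsN (24 - n)).card = (wordsN n).card := by
  refine card_nbij' (fun c => c + 1) (fun c => c + 1) ?_ ?_ ?_ ?_
  · intro c hc
    rw [mem_coe, mem_wordsN] at hc ⊢
    refine ⟨Submodule.add_mem _ hc.1 one_mem, ?_⟩
    have := wt_add_one c
    change hammingNorm (c + 1) = n
    omega
  · intro c hc
    rw [mem_coe, mem_wordsN] at hc ⊢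
    refine ⟨Submodule.add_mem _ hc.1 one_mem, ?_⟩
    have := wt_add_one c
    change hammingNorm (c + 1) = 24 - n
    omega
  · intro c _
    change c + 1 + 1 = c
    rw [add_assoc, add_self', add_zero]
  · intro c _
    change c + 1 + 1 = c
    rw [add_assoc, add_self', add_zero]

theorem card_code [DecidablePred fun c : GolayPt → ZMod 2 => c ∈ golayCode] :
    (univ.filter fun c : GolayPt → ZMod 2 => c ∈ golayCode).card = 4096 := by
  have h1 : Fintype.card golayCode = 2 ^ 12 := by
    rw [Module.card_eq_pow_finrank (K := ZMod 2), finrank_golayCode, ZMod.card]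
  rw [← Fintype.card_subtype]
  have h2 : (2 : ℕ) ^ 12 = 4096 := by norm_num
  rw [← h2, ← h1]

theorem card_dodecads : dodecads.ncard = 2576 := by
  classical
  have hpart : (univ.filter fun c : GolayPt → ZMod 2 => c ∈ golayCode).card
      = ∑ k ∈ ({0, 8, 12, 16, 24} : Finset ℕ), (wordsN k).card := by
    rw [card_eq_sum_card_fiberwise (f := fun c : GolayPt → ZMod 2 => hammingNorm c)
      (t := ({0, 8, 12, 16, 24} : Finset ℕ))]
    · refine sum_congr rfl fun k _ => ?_
      congr 1
      ext c
      simp only [mem_filter, mem_univ, true_and, mem_wordsN]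
    · intro c hc
      simp only [coe_filter, mem_univ, true_and, Set.mem_ofPred_eq] at hc
      have := weight_values c hc
      simp only [coe_insert, coe_singleton, Set.mem_insert_iff, Set.mem_singleton_iff]
      tauto
  rw [card_code] at hpart
  have h16 := card_words_compl 8 (by norm_num)
  have h8 : (wordsN 8).card = 759 := by
    rw [← wordsOfWeight_ncard 8]
    exact card_octads
  have h0 := card_words_zero
  have h24 := card_words_full
  have e : (24 - 8 : ℕ) = 16 := by norm_num
  rw [e] at h16
  have hexp : ∑ k ∈ ({0, 8, 12, 16, 24} : Finset ℕ), (wordsN k).card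
      = (wordsN 0).card + ((wordsN 8).card + ((wordsN 12).card + ((wordsN 16).card
        + (wordsN 24).card))) := by
    rw [sum_insert (by decide), sum_insert (by decide), sum_insert (by decide),
      sum_insert (by decide), sum_singleton]
  rw [hexp] at hpart
  unfold dodecads
  rw [wordsOfWeight_ncard 12]
  omega

end Cfsg.Agent.Lib.Helper9.GolayQR6
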