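import Cfsg.Agent.Lib.Helper9.GolayM24a
import Cfsg.Agent.Lib.Helper9.GolayQR6

set_option autoImplicit false

namespace Cfsg.Agent.Lib.Helper9.GolayM24c

open Cfsg Finset Cfsg.Agent.Lib.Helper9.Golay1 Cfsg.Agent.Lib.Helper9.GolayQR4
  Cfsg.Agent.Lib.Helper9.GolayQR5 Cfsg.Agent.Lib.Helper9.GolayM24a
open scoped Pointwise

theorem map_eq_of_span (g : Equiv.Perm GolayPt) (S : Set (GolayPt → ZMod 2))
    (hS : Submodule.span (ZMod 2) S = golayCode) (h : ∀ w ∈ S, w ∘ g ∈ golayCode) :
    golayCode.map (permLin g).toLinearMap = golayCode := by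
  have hle : golayCode.map (permLin g).toLinearMap ≤ golayCode := by
    rw [← hS, Submodule.map_span_le, hS]
    intro w hw
    exact h w hw
  apply Submodule.eq_of_le_of_finrank_eq hle
  exact LinearEquiv.finrank_map_eq (permLin g) golayCode

theorem mem_M24_of_map_eq (g : Equiv.Perm GolayPt)
    (hmap : golayCode.map (permLin g).toLinearMap = golayCode) : g ∈ M24 := by
  have hinv : g⁻¹ ∈ M24 := by
    rw [MulAction.mem_stabilizer_iff]
    unfold supports
    ext b
    constructor
    · rintro ⟨b', ⟨w, hw, rfl⟩, rfl⟩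
      refine ⟨w ∘ g, ?_, ?_⟩
      · rw [← hmap]
        exact ⟨w, hw, rfl⟩
      · exact support_comp g w
    · rintro ⟨w, hw, rfl⟩
      rw [SetLike.mem_coe, ← hmap] at hw
      obtain ⟨w', hw', rfl⟩ := hw
      refine ⟨support₂ w', ⟨w', hw', rfl⟩, ?_⟩
      exact (support_comp g w').symm
  exact (Subgroup.inv_mem_iff _).mp hinv

theorem card_smul_finset (g : Equiv.Perm GolayPt) (b : Finset GolayPt) : (g • b).card = b.card :=
  Finset.card_smul_finset g b

theorem M24_eq_aut_octads : M24 = setSystemAut octads := by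
  ext g
  constructor
  · intro hg
    have hg' : g • supports (golayCode : Set (GolayPt → ZMod 2))
        = supports (golayCode : Set (GolayPt → ZMod 2)) := MulAction.mem_stabilizer_iff.mp hg
    have hginv : g⁻¹ • supports (golayCode : Set (GolayPt → ZMod 2))
        = supports (golayCode : Set (GolayPt → ZMod 2)) :=
      MulAction.mem_stabilizer_iff.mp (Subgroup.inv_mem _ hg)
    rw [MulAction.mem_stabilizer_iff]
    ext b
    constructor
    · rintro ⟨b', ⟨hb's, hb'8⟩, rfl⟩
      refine ⟨?_, ?_⟩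
      · rw [← hg']
        exact ⟨b', hb's, rfl⟩
      · change (g • b').card = 8
        rw [card_smul_finset]
        exact hb'8
    · rintro ⟨hbs, hb8⟩
      refine ⟨g⁻¹ • b, ⟨?_, ?_⟩, ?_⟩
      · rw [← hginv]
        exact ⟨b, hbs, rfl⟩
      · rw [card_smul_finset]
        exact hb8
      · change g • g⁻¹ • b = b
        rw [smul_inv_smul]
  · intro hg
    have hginv : g⁻¹ • octads = octads :=
      MulAction.mem_stabilizer_iff.mp (Subgroup.inv_mem _ hg)
    apply mem_M24_of_map_eq
    apply map_eq_of_span g {w | w ∈ golayCode ∧ hammingNorm w = 8}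
    · exact Cfsg.Agent.Lib.Helper9.GolayG4.span_octads card_golayPt golayCode finrank_golayCode
        min_weight
    · rintro w ⟨hw, hw8⟩
      have h1 : support₂ (w ∘ g) ∈ octads := by
        rw [support_comp, ← hginv]
        refine ⟨support₂ w, ⟨⟨w, hw, rfl⟩, ?_⟩, rfl⟩
        rw [← supp_eq_support₂, ← wt_eq]
        exact hw8
      obtain ⟨⟨w', hw', hw'eq⟩, -⟩ := h1
      have : w ∘ g = w' := by
        rw [← supp_eq_iff, supp_eq_support₂, supp_eq_support₂]
        exact hw'eq.symm
      rw [this]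
      exact hw'

end Cfsg.Agent.Lib.Helper9.GolayM24c
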