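import Cfsg.Agent.Lib.Helper9.M24T4

set_option autoImplicit false

namespace Cfsg.Agent.Lib.Helper9.M24T5

open Cfsg Finset Cfsg.Agent.Lib.Helper9.GolayQR1 Cfsg.Agent.Lib.Helper9.GolayQR3
  Cfsg.Agent.Lib.Helper9.M24T1 Cfsg.Agent.Lib.Helper9.M24T2 Cfsg.Agent.Lib.Helper9.M24T3
  Cfsg.Agent.Lib.Helper9.Chain1

/-- the base points -/
def bpt (i : ℕ) : GolayPt := [none, some 0, some 1, some 2, some 3, some 4, some 5].getD i none

theorem step_of_low (k : ℕ) (l : List GolayPt) (hl : l = (List.range k).map bpt)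
    (hlow : ∀ p : GolayPt, p ∉ l → ∃ u ∈ fixL C l, u (bpt k) = p)
    (x : GolayPt) (hx : ∀ j < k, x ≠ bpt j) :
    ∃ u ∈ M24, (∀ j < k, u (bpt j) = bpt j) ∧ u (bpt k) = x := by
  have hxl : x ∉ l := by
    rw [hl, List.mem_map]
    rintro ⟨j, hj, rfl⟩
    exact hx j (List.mem_range.mp hj) rfl
  obtain ⟨u, hu, hux⟩ := hlow x hxl
  refine ⟨u, C_le hu.1, fun j hj => hu.2 _ ?_, hux⟩
  rw [hl, List.mem_map]
  exact ⟨j, List.mem_range.mpr hj, rfl⟩

theorem exists_map5 (y : ℕ → GolayPt) (hy : ∀ i < 5, ∀ j < 5, y i = y j → i = j) :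
    ∃ h ∈ M24, ∀ i < 5, h (bpt i) = y i := by
  apply exists_map_tuple M24 bpt 5 ?_ y hy
  intro k hk x hx
  interval_cases k
  · exact step_of_low 0 [] rfl (fun p _ => low1 p trivial) x hx
  · exact step_of_low 1 [none] rfl low2 x hx
  · exact step_of_low 2 [none, some 0] rfl low3 x hx
  · exact step_of_low 3 [none, some 0, some 1] rfl low4 x hx
  · exact step_of_low 4 [none, some 0, some 1, some 2] rfl low5 x hx

/-- `M24` is 5-transitive: any injective 5-tuple can be mapped to any other -/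
theorem exists_map_emb (x y : Fin 5 ↪ GolayPt) : ∃ g ∈ M24, ∀ i, g (x i) = y i := by
  have key : ∀ z : Fin 5 ↪ GolayPt, ∃ h ∈ M24, ∀ i : Fin 5, h (bpt i.val) = z i := by
    intro z
    obtain ⟨h, hh, hz⟩ := exists_map5 (fun i => if hi : i < 5 then z ⟨i, hi⟩ else none) (by
      intro i hi j hj hij
      rw [dif_pos hi, dif_pos hj] at hij
      have := z.injective hij
      exact Fin.mk.inj_iff.mp this)
    refine ⟨h, hh, fun i => ?_⟩
    have := hz i.val i.isLt
    rw [dif_pos i.isLt] at this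
    exact this
  obtain ⟨h1, hh1, hx⟩ := key x
  obtain ⟨h2, hh2, hy⟩ := key y
  refine ⟨h2 * h1⁻¹, M24.mul_mem hh2 (M24.inv_mem hh1), fun i => ?_⟩
  rw [Equiv.Perm.mul_apply, ← hx i, inv_apply_self', hy i]

theorem five_transitive : MulAction.IsMultiplyPretransitive M24 GolayPt 5 := by
  rw [MulAction.isMultiplyPretransitive_iff]
  intro x y
  obtain ⟨g, hg, hxy⟩ := exists_map_emb x y
  refine ⟨⟨g, hg⟩, ?_⟩
  apply Function.Embedding.ext
  intro i
  rw [Function.Embedding.smul_apply]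
  exact hxy i

end Cfsg.Agent.Lib.Helper9.M24T5
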