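import Cfsg.Agent.Lib.Helper9.M24T6

set_option autoImplicit false

namespace Cfsg.Agent.Lib.Helper9.M24T7

open Cfsg Finset Cfsg.Agent.Lib.Helper9.GolayQR1 Cfsg.Agent.Lib.Helper9.GolayQR3
  Cfsg.Agent.Lib.Helper9.GolayQR5
  Cfsg.Agent.Lib.Helper9.M24T1 Cfsg.Agent.Lib.Helper9.M24T2 Cfsg.Agent.Lib.Helper9.M24T3
  Cfsg.Agent.Lib.Helper9.M24T4 Cfsg.Agent.Lib.Helper9.M24T5 Cfsg.Agent.Lib.Helper9.Chain1
open scoped Pointwise

theorem exists_mapn (n : ℕ) (hn : n ≤ 5) (y : ℕ → GolayPt)
    (hy : ∀ i < n, ∀ j < n, y i = y j → i = j) :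
    ∃ h ∈ M24, ∀ i < n, h (bpt i) = y i := by
  apply exists_map_tuple M24 bpt n ?_ y hy
  intro k hk x hx
  have hk5 : k < 5 := by omega
  interval_cases k
  · exact step_of_low 0 [] rfl (fun p _ => low1 p trivial) x hx
  · exact step_of_low 1 [none] rfl low2 x hx
  · exact step_of_low 2 [none, some 0] rfl low3 x hx
  · exact step_of_low 3 [none, some 0, some 1] rfl low4 x hx
  · exact step_of_low 4 [none, some 0, some 1, some 2] rfl low5 x hx

/-- conjugation identifies the fixators of a list and of its image -/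
theorem card_fixL_map (H : Subgroup (Equiv.Perm GolayPt)) (g : Equiv.Perm GolayPt) (hg : g ∈ H)
    (l : List GolayPt) : Nat.card (fixL H (l.map g)) = Nat.card (fixL H l) := by
  apply Nat.card_congr
  exact
    { toFun := fun x => ⟨g⁻¹ * x.1 * g, by
        refine ⟨H.mul_mem (H.mul_mem (H.inv_mem hg) x.2.1) hg, fun b hb => ?_⟩
        rw [Equiv.Perm.mul_apply, Equiv.Perm.mul_apply, x.2.2 _ (List.mem_map.mpr ⟨b, hb, rfl⟩),
          inv_apply_self']⟩
      invFun := fun y => ⟨g * y.1 * g⁻¹, by
        refine ⟨H.mul_mem (H.mul_mem hg y.2.1) (H.inv_mem hg), fun b hb => ?_⟩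
        obtain ⟨c, hc, rfl⟩ := List.mem_map.mp hb
        rw [Equiv.Perm.mul_apply, Equiv.Perm.mul_apply, inv_apply_self', y.2.2 c hc]⟩
      left_inv := fun x => by
        apply Subtype.ext
        change g * (g⁻¹ * x.1 * g) * g⁻¹ = x.1
        group
      right_inv := fun y => by
        apply Subtype.ext
        change g⁻¹ * (g * y.1 * g⁻¹) * g = y.1
        group }

theorem card_fix_point (p : GolayPt) : Nat.card (fixL M24 [p]) = 10200960 := by
  obtain ⟨g, hg, h⟩ := exists_mapn 1 (by omega) (fun _ => p) (by intro i hi j hj _; omega)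
  have h0 : g none = p := h 0 (by omega)
  have := card_fixL_map M24 g hg [none]
  rw [List.map_cons, List.map_nil, h0] at this
  rw [this, card_fix1]

theorem card_fix_two (p q : GolayPt) (hpq : p ≠ q) : Nat.card (fixL M24 [p, q]) = 443520 := by
  obtain ⟨g, hg, h⟩ := exists_mapn 2 (by omega) (fun i => if i = 0 then p else q) (by
    intro i hi j hj hij
    by_contra hne
    have : (i = 0 ∧ j = 1) ∨ (i = 1 ∧ j = 0) := by omega
    rcases this with ⟨rfl, rfl⟩ | ⟨rfl, rfl⟩
    · exact hpq (by simpa using hij)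
    · exact hpq (by simpa using hij.symm))
  have h0 : g none = p := h 0 (by omega)
  have h1 : g (some 0) = q := h 1 (by omega)
  have := card_fixL_map M24 g hg [none, some 0]
  rw [List.map_cons, List.map_cons, List.map_nil, h0, h1] at this
  rw [this, card_fix2]

theorem card_fix_three (p q r : GolayPt) (hpq : p ≠ q) (hpr : p ≠ r) (hqr : q ≠ r) :
    Nat.card (fixL M24 [p, q, r]) = 20160 := by
  obtain ⟨g, hg, h⟩ := exists_mapn 3 (by omega)
    (fun i => if i = 0 then p else if i = 1 then q else r) (by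
    intro i hi j hj hij
    by_contra hne
    have : (i = 0 ∧ j = 1) ∨ (i = 1 ∧ j = 0) ∨ (i = 0 ∧ j = 2) ∨ (i = 2 ∧ j = 0) ∨
        (i = 1 ∧ j = 2) ∨ (i = 2 ∧ j = 1) := by omega
    rcases this with ⟨rfl, rfl⟩ | ⟨rfl, rfl⟩ | ⟨rfl, rfl⟩ | ⟨rfl, rfl⟩ | ⟨rfl, rfl⟩ | ⟨rfl, rfl⟩
    · exact hpq (by simpa using hij)
    · exact hpq (by simpa using hij.symm)
    · exact hpr (by simpa using hij)
    · exact hpr (by simpa using hij.symm)
    · exact hqr (by simpa using hij)
    · exact hqr (by simpa using hij.symm))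
  have h0 : g none = p := h 0 (by omega)
  have h1 : g (some 0) = q := h 1 (by omega)
  have h2 : g (some 1) = r := h 2 (by omega)
  have := card_fixL_map M24 g hg [none, some 0, some 1]
  rw [List.map_cons, List.map_cons, List.map_cons, List.map_nil, h0, h1, h2] at this
  rw [this, card_fix3]

/-- the stabilizer of a point in `↥M24`, as a fixator -/
theorem card_stabilizer (p : GolayPt) :
    Nat.card (MulAction.stabilizer M24 p) = Nat.card (fixL M24 [p]) := by
  apply Nat.card_congr
  exact
    { toFun := fun x => ⟨x.1.1, x.1.2, fun b hb => by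
        rw [List.mem_singleton] at hb
        rw [hb]
        exact MulAction.mem_stabilizer_iff.mp x.2⟩
      invFun := fun y => ⟨⟨y.1, y.2.1⟩, MulAction.mem_stabilizer_iff.mpr
        (y.2.2 p (List.mem_singleton.mpr rfl))⟩
      left_inv := fun x => rfl
      right_inv := fun y => rfl }

theorem card_stabilizer_two (p q : GolayPt) :
    Nat.card ↥(MulAction.stabilizer M24 p ⊓ MulAction.stabilizer M24 q)
      = Nat.card (fixL M24 [p, q]) := by
  apply Nat.card_congr
  exact
    { toFun := fun x => ⟨x.1.1, x.1.2, fun b hb => by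
        have hx := Subgroup.mem_inf.mp x.2
        simp only [List.mem_cons, List.not_mem_nil, or_false] at hb
        rcases hb with rfl | rfl
        · exact MulAction.mem_stabilizer_iff.mp hx.1
        · exact MulAction.mem_stabilizer_iff.mp hx.2⟩
      invFun := fun y => ⟨⟨y.1, y.2.1⟩, Subgroup.mem_inf.mpr
        ⟨MulAction.mem_stabilizer_iff.mpr (y.2.2 p (by simp)),
          MulAction.mem_stabilizer_iff.mpr (y.2.2 q (by simp))⟩⟩
      left_inv := fun x => rfl
      right_inv := fun y => rfl }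

theorem card_stabilizer_three (p q r : GolayPt) :
    Nat.card ↥(MulAction.stabilizer M24 p ⊓ MulAction.stabilizer M24 q ⊓
      MulAction.stabilizer M24 r) = Nat.card (fixL M24 [p, q, r]) := by
  apply Nat.card_congr
  exact
    { toFun := fun x => ⟨x.1.1, x.1.2, fun b hb => by
        have hx := Subgroup.mem_inf.mp x.2
        have hx1 := Subgroup.mem_inf.mp hx.1
        simp only [List.mem_cons, List.not_mem_nil, or_false] at hb
        rcases hb with rfl | rfl | rfl
        · exact MulAction.mem_stabilizer_iff.mp hx1.1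
        · exact MulAction.mem_stabilizer_iff.mp hx1.2
        · exact MulAction.mem_stabilizer_iff.mp hx.2⟩
      invFun := fun y => ⟨⟨y.1, y.2.1⟩, Subgroup.mem_inf.mpr
        ⟨Subgroup.mem_inf.mpr ⟨MulAction.mem_stabilizer_iff.mpr (y.2.2 p (by simp)),
          MulAction.mem_stabilizer_iff.mpr (y.2.2 q (by simp))⟩,
          MulAction.mem_stabilizer_iff.mpr (y.2.2 r (by simp))⟩⟩
      left_inv := fun x => rfl
      right_inv := fun y => rfl }

end Cfsg.Agent.Lib.Helper9.M24T7
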