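import Mathlib
import Cfsg.Agent.Lib.Helper1.PResidual

/-!
# S2768 endgame (helper9): `T = J̃` from the focal subgroup theorem for an abelian Sylow quotient
-/

set_option autoImplicit false
set_option linter.unusedVariables false

namespace Cfsg.Agent.Lib.Helper9.PU2768T

open scoped commutatorElement

section typeLevel

variable {L : Type*} [Group L]

/-- A subgroup containing the commutator subgroup is normal. -/
theorem normal_of_commutator_le (D : Subgroup L) (hD : commutator L ≤ D) : D.Normal := by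
  constructor
  intro d hd g
  have h1 : ⁅g, d⁆ ∈ D := hD (by
    rw [commutator_def]
    exact Subgroup.commutator_mem_commutator (Subgroup.mem_top g) (Subgroup.mem_top d))
  have : g * d * g⁻¹ = ⁅g, d⁆ * d := by
    rw [commutatorElement_def]; group
  rw [this]
  exact D.mul_mem h1 hd

variable [Finite L] {p : ℕ} [Fact p.Prime]

/-- (T2)+(T3)+(T4): the endgame of S2768 inside `L = ⟨J̃^G⟩`. `T` is a Sylow `p`-subgroup of `L`,
`Q0 ≤ Jt ≤ T` with `Q0` normal in `L`, `T/Q0` abelian, `N_L(T) ≤ N_L(Jt)`, `T = Jt Z0` with `Z0`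
central modulo `Q0`, and `L` is the normal closure of `Jt`. Then `T = Jt`. -/
theorem focal_endgame (T : Sylow p L) (Jt Q0 Z0 : Subgroup L) [Q0.Normal]
    (hQ0J : Q0 ≤ Jt) (hJT : Jt ≤ (T : Subgroup L))
    (hTT : ⁅(T : Subgroup L), (T : Subgroup L)⁆ ≤ Q0)
    (hN : Subgroup.normalizer ((T : Subgroup L) : Set L) ≤ Subgroup.normalizer (Jt : Set L))
    (hZ0 : ⁅Z0, (⊤ : Subgroup L)⁆ ≤ Q0)
    (hprod : ∀ t ∈ (T : Subgroup L), ∃ j ∈ Jt, ∃ z ∈ Z0, t = j * z)
    (hcl : Subgroup.normalClosure (Jt : Set L) = ⊤) :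
    (T : Subgroup L) = Jt := by
  classical
  set π := QuotientGroup.mk' Q0 with hπ
  have hπs : Function.Surjective π := QuotientGroup.mk'_surjective Q0
  have hker : π.ker = Q0 := QuotientGroup.ker_mk' Q0
  set Tb : Sylow p (L ⧸ Q0) := T.mapSurjective hπs with hTb
  have hTbc : (Tb : Subgroup (L ⧸ Q0)) = (T : Subgroup L).map π := Sylow.coe_mapSurjective hπs T
  -- `Tb` is abelian
  have hab : IsMulCommutative (Tb : Subgroup (L ⧸ Q0)) := by
    refine ⟨⟨?_⟩⟩
    rintro ⟨a, ha⟩ ⟨b, hb⟩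
    rw [hTbc] at ha hb
    obtain ⟨a', ha', rfl⟩ := ha
    obtain ⟨b', hb', rfl⟩ := hb
    apply Subtype.ext
    show π a' * π b' = π b' * π a'
    have hc : ⁅a', b'⁆ ∈ Q0 := hTT (Subgroup.commutator_mem_commutator ha' hb')
    have : π ⁅a', b'⁆ = 1 := by
      rw [← MonoidHom.mem_ker, hker]; exact hc
    rw [map_commutatorElement, commutatorElement_eq_one_iff_mul_comm] at this
    exact this
  have hfocal := Cfsg.Agent.Lib.Helper1.commutator_inf_abelian_sylow Tb hab
  rw [← Sylow.coe_coe] at hfocal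
  -- `[Tb, N(Tb)] ≤ π(Jt)`
  have h1 : ⁅(Tb : Subgroup (L ⧸ Q0)), Subgroup.normalizer ((Tb : Subgroup (L ⧸ Q0)) : Set (L ⧸ Q0))⁆
      ≤ Jt.map π := by
    rw [Subgroup.commutator_le]
    intro t ht n hn
    rw [hTbc] at ht
    obtain ⟨t', ht', rfl⟩ := ht
    obtain ⟨m, rfl⟩ := hπs n
    obtain ⟨j, hj, z, hz, rfl⟩ := hprod t' ht'
    -- `m` normalizes `T`
    have hm : m ∈ Subgroup.normalizer ((T : Subgroup L) : Set L) := by
      rw [Subgroup.mem_normalizer_iff]
      intro x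
      have hn' := (Subgroup.mem_normalizer_iff.mp hn) (π x)
      have hiff : ∀ y : L, π y ∈ (Tb : Subgroup (L ⧸ Q0)) ↔ y ∈ (T : Subgroup L) := by
        intro y
        rw [hTbc]
        constructor
        · rintro ⟨y', hy', hyy'⟩
          have : y'⁻¹ * y ∈ Q0 := by
            rw [← hker, MonoidHom.mem_ker, map_mul, map_inv, hyy', inv_mul_cancel]
          have h2 : y'⁻¹ * y ∈ (T : Subgroup L) := hJT (hQ0J this)
          have := (T : Subgroup L).mul_mem hy' h2
          rwa [mul_inv_cancel_left] at this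
        · intro hy
          exact ⟨y, hy, rfl⟩
      rw [← hiff x, ← hiff (m * x * m⁻¹)]
      simpa using hn'
    have hmJ := hN hm
    -- `π z` is central
    have hzc : ∀ w : L ⧸ Q0, π z * w = w * π z := by
      intro w
      obtain ⟨w', rfl⟩ := hπs w
      have hc : ⁅z, w'⁆ ∈ Q0 := hZ0 (Subgroup.commutator_mem_commutator hz (Subgroup.mem_top w'))
      have : π ⁅z, w'⁆ = 1 := by
        rw [← MonoidHom.mem_ker, hker]; exact hc
      rw [map_commutatorElement, commutatorElement_eq_one_iff_mul_comm] at this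
      exact this
    have hcomm : ⁅π (j * z), π m⁆ = π ⁅j, m⁆ := by
      rw [map_commutatorElement, map_mul]
      rw [commutatorElement_def, commutatorElement_def]
      have e1 : (π j * π z)⁻¹ = (π z)⁻¹ * (π j)⁻¹ := mul_inv_rev _ _
      have hz1 := hzc (π m)
      have hz2 := hzc ((π j)⁻¹)
      have hz3 := hzc ((π m)⁻¹)
      calc π j * π z * π m * (π j * π z)⁻¹ * (π m)⁻¹
          = π j * (π z * π m) * ((π z)⁻¹ * (π j)⁻¹) * (π m)⁻¹ := by rw [e1]; group
        _ = π j * (π m * π z) * ((π z)⁻¹ * (π j)⁻¹) * (π m)⁻¹ := by rw [hz1]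
        _ = π j * π m * (π j)⁻¹ * (π m)⁻¹ := by group
    rw [hcomm]
    refine ⟨⁅j, m⁆, ?_, rfl⟩
    -- `[j, m] = j * (m j⁻¹ m⁻¹) ∈ Jt`
    rw [commutatorElement_def]
    have hm' := (Subgroup.mem_normalizer_iff.mp hmJ) j⁻¹
    have : m * j⁻¹ * m⁻¹ ∈ Jt := hm'.mp (Jt.inv_mem hj)
    have e : j * m * j⁻¹ * m⁻¹ = j * (m * j⁻¹ * m⁻¹) := by group
    rw [e]
    exact Jt.mul_mem hj this
  -- `⊤ = Jt ⊔ L'`
  have hD : (⊤ : Subgroup L) = Jt ⊔ commutator L := by
    have hnorm : (Jt ⊔ commutator L).Normal := normal_of_commutator_le _ le_sup_right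
    apply le_antisymm
    · rw [← hcl]
      exact Subgroup.normalClosure_le_normal (le_sup_left (a := Jt) (b := commutator L))
    · exact le_top
  -- `Tb ≤ π(Jt)`
  have h2 : (Tb : Subgroup (L ⧸ Q0)) ≤ Jt.map π := by
    intro t ht
    have ht0 := ht
    rw [hTbc] at ht
    obtain ⟨t', ht', rfl⟩ := ht
    have hmem : t' ∈ Jt ⊔ commutator L := by rw [← hD]; exact Subgroup.mem_top _
    rw [Subgroup.mem_sup_of_normal_right] at hmem
    obtain ⟨j, hj, d, hd, rfl⟩ := hmem
    -- `π d ∈ commutator ⊓ Tb`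
    have hd1 : π d ∈ commutator (L ⧸ Q0) := by
      have : (commutator L).map π ≤ commutator (L ⧸ Q0) := by
        rw [commutator_def, commutator_def, Subgroup.map_commutator]
        exact Subgroup.commutator_mono le_top le_top
      exact this ⟨d, hd, rfl⟩
    have hd2 : π d ∈ (Tb : Subgroup (L ⧸ Q0)) := by
      have hj' : π j ∈ (Tb : Subgroup (L ⧸ Q0)) := by
        rw [hTbc]; exact ⟨j, hJT hj, rfl⟩
      have := (Tb : Subgroup (L ⧸ Q0)).mul_mem ((Tb : Subgroup (L ⧸ Q0)).inv_mem hj') ht0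
      rwa [map_mul, inv_mul_cancel_left] at this
    have hd3 : π d ∈ Jt.map π := by
      apply h1
      rw [← hfocal]
      exact ⟨hd1, hd2⟩
    rw [map_mul]
    exact (Jt.map π).mul_mem ⟨j, hj, rfl⟩ hd3
  -- pull back
  apply le_antisymm _ hJT
  intro t ht
  have : π t ∈ Jt.map π := h2 (by rw [hTbc]; exact ⟨t, ht, rfl⟩)
  obtain ⟨j, hj, hjt⟩ := this
  have : j⁻¹ * t ∈ Q0 := by
    rw [← hker, MonoidHom.mem_ker, map_mul, map_inv, hjt, inv_mul_cancel]
  have := Jt.mul_mem hj (hQ0J this)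
  rwa [mul_inv_cancel_left] at this

end typeLevel

end Cfsg.Agent.Lib.Helper9.PU2768T
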