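import Mathlib

/-!
# `S ∩ N` is a Sylow `p`-subgroup of a normal subgroup `N` (helper9)
-/

set_option autoImplicit false

namespace Cfsg.Agent.Lib.Helper9.SylInfNormal

variable {G : Type*} [Group G] [Finite G] {p : ℕ} [Fact p.Prime]

/-- `|N : S ∩ N| = |N S : S|` for `N` normal. -/
theorem relIndex_eq_relIndex_sup (S N : Subgroup G) [N.Normal] :
    S.relIndex N = S.relIndex (N ⊔ S) := by
  have key : ∀ A B : Subgroup G, A ≤ B → A.relIndex B * Nat.card A = Nat.card B := by
    intro A B hA
    rw [Subgroup.relIndex, ← Nat.card_congr (Subgroup.subgroupOfEquivOfLe hA).toEquiv]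
    exact Subgroup.index_mul_card _
  have h1 : N.relIndex S * Nat.card (N ⊓ S : Subgroup G) = Nat.card S := by
    rw [← Subgroup.inf_relIndex_right]; exact key _ _ inf_le_right
  have h2 : N.relIndex S * Nat.card N = Nat.card (N ⊔ S : Subgroup G) := by
    rw [← Subgroup.relIndex_sup_left]; exact key _ _ le_sup_left
  have h3 : S.relIndex N * Nat.card (N ⊓ S : Subgroup G) = Nat.card N := by
    rw [← Subgroup.inf_relIndex_right, inf_comm]; exact key _ _ inf_le_left
  have h4 : S.relIndex (N ⊔ S) * Nat.card S = Nat.card (N ⊔ S : Subgroup G) :=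
    key _ _ le_sup_right
  have hpos : 0 < N.relIndex S * Nat.card (N ⊓ S : Subgroup G) := by
    rw [h1]; exact Nat.card_pos
  apply Nat.eq_of_mul_eq_mul_right hpos
  calc S.relIndex N * (N.relIndex S * Nat.card (N ⊓ S : Subgroup G))
      = N.relIndex S * (S.relIndex N * Nat.card (N ⊓ S : Subgroup G)) := by ring
    _ = N.relIndex S * Nat.card N := by rw [h3]
    _ = Nat.card (N ⊔ S : Subgroup G) := h2
    _ = S.relIndex (N ⊔ S) * Nat.card S := h4.symm
    _ = S.relIndex (N ⊔ S) * (N.relIndex S * Nat.card (N ⊓ S : Subgroup G)) := by rw [h1]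

/-- `S ∩ N` is a Sylow `p`-subgroup of the normal subgroup `N`. -/
theorem exists_sylow_subgroupOf_normal (S : Sylow p G) (N : Subgroup G) [N.Normal] :
    ∃ P : Sylow p N, (P : Subgroup N) = (S : Subgroup G).subgroupOf N := by
  have hp : IsPGroup p ((S : Subgroup G).subgroupOf N) := S.isPGroup'.comap_subtype
  have hidx : ¬ p ∣ ((S : Subgroup G).subgroupOf N).index := by
    show ¬ p ∣ (S : Subgroup G).relIndex N
    rw [relIndex_eq_relIndex_sup]
    intro h
    exact S.not_dvd_index (h.trans (Subgroup.relIndex_dvd_index_of_le le_sup_right))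
  exact ⟨hp.toSylow hidx, hp.toSylow_coe hidx⟩

/-- If `X = S ∩ N` for a Sylow `S` and a normal `N`, then `X` is a Sylow subgroup of `N`. -/
theorem exists_sylow_of_eq_inf (S : Sylow p G) (N : Subgroup G) [N.Normal] (X : Subgroup G)
    (hX : X = (S : Subgroup G) ⊓ N) :
    ∃ P : Sylow p N, (P : Subgroup N) = X.subgroupOf N := by
  obtain ⟨P, hP⟩ := exists_sylow_subgroupOf_normal S N
  refine ⟨P, ?_⟩
  rw [hP, hX, Subgroup.inf_subgroupOf_right]

end Cfsg.Agent.Lib.Helper9.SylInfNormal
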