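import Mathlib
import Cfsg.Agent.Lib.Helper9.PU2768T
import Cfsg.Agent.Lib.Helper9.SylInfNormal

/-!
# S2768, case IIb at the level of subgroups of `G` (helper9)

`s2768_IIb`: (T1)+(T2)+(T3)+(T4)+packaging of helper2's proof.
-/

set_option autoImplicit false
set_option linter.unusedVariables false

namespace Cfsg.Agent.Lib.Helper9.PU2768G

open scoped commutatorElement

variable {G : Type*} [Group G]

/-- `[x, y] ∈ N` iff the images of `x`, `y` commute in `G ⧸ N`. -/
theorem comm_mod_iff (N : Subgroup G) [N.Normal] (x y : G) :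
    ⁅x, y⁆ ∈ N ↔ (QuotientGroup.mk' N x) * (QuotientGroup.mk' N y)
      = (QuotientGroup.mk' N y) * (QuotientGroup.mk' N x) := by
  rw [← commutatorElement_eq_one_iff_mul_comm, ← map_commutatorElement,
    ← MonoidHom.mem_ker, QuotientGroup.ker_mk']

variable [Finite G] {p : ℕ} [Fact p.Prime]

/-- Case IIb of S2768 at the level of `G`. -/
theorem s2768_IIb (S : Sylow p G) (Jt Q Q0 : Subgroup G) (hQn : Q.Normal) (hQ0n : Q0.Normal)
    (hJS : Jt ≤ (S : Subgroup G))
    (hJn : (S : Subgroup G) ≤ Subgroup.normalizer (Jt : Set G))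
    (hQ0J : Q0 ≤ Jt)
    (hS : (S : Subgroup G) ≤ Jt ⊔ Q)
    (hLS : Subgroup.normalClosure (Jt : Set G) ⊔ (S : Subgroup G) = ⊤)
    (hQL : ⁅Q, Subgroup.normalClosure (Jt : Set G)⁆ ≤ Q0)
    (hJJ : ⁅Jt, Jt⁆ ≤ Q0)
    (hchar : Subgroup.normalizer
        (((S : Subgroup G) ⊓ Subgroup.normalClosure (Jt : Set G) : Subgroup G) : Set G)
        ≤ Subgroup.normalizer (Jt : Set G)) :
    (S : Subgroup G) ⊓ Subgroup.normalClosure (Jt : Set G) = Jt ∧
    ∃ P : Sylow p ↥(Subgroup.normalClosure (Jt : Set G)),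
      (P : Subgroup ↥(Subgroup.normalClosure (Jt : Set G)))
        = Jt.subgroupOf (Subgroup.normalClosure (Jt : Set G)) := by
  classical
  have := hQn
  have := hQ0n
  set Lt := Subgroup.normalClosure (Jt : Set G) with hLt
  have hJL : Jt ≤ Lt := Subgroup.le_normalClosure
  obtain ⟨P, hP⟩ := Cfsg.Agent.Lib.Helper9.SylInfNormal.exists_sylow_subgroupOf_normal S Lt
  -- the hypotheses of `focal_endgame`
  have hQ0J' : Q0.subgroupOf Lt ≤ Jt.subgroupOf Lt := Subgroup.comap_mono hQ0J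
  have hJT' : Jt.subgroupOf Lt ≤ (P : Subgroup Lt) := by
    rw [hP]; exact Subgroup.comap_mono hJS
  -- decomposition of elements of `S ∩ Lt`
  have hdec : ∀ t : G, t ∈ (S : Subgroup G) → t ∈ Lt →
      ∃ j ∈ Jt, ∃ z ∈ Q, z ∈ Lt ∧ t = j * z := by
    intro t htS htL
    have := hS htS
    rw [Subgroup.mem_sup_of_normal_right] at this
    obtain ⟨j, hj, z, hz, rfl⟩ := this
    refine ⟨j, hj, z, hz, ?_, rfl⟩
    have := Lt.mul_mem (Lt.inv_mem (hJL hj)) htL
    rwa [inv_mul_cancel_left] at this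
  -- elements of `Q ∩ Lt` are central in `Lt` modulo `Q0`
  have hzc : ∀ z ∈ Q, ∀ w ∈ Lt, (QuotientGroup.mk' Q0 z) * (QuotientGroup.mk' Q0 w)
      = (QuotientGroup.mk' Q0 w) * (QuotientGroup.mk' Q0 z) := by
    intro z hz w hw
    rw [← comm_mod_iff]
    exact hQL (Subgroup.commutator_mem_commutator hz hw)
  have hjc : ∀ j ∈ Jt, ∀ j' ∈ Jt, (QuotientGroup.mk' Q0 j) * (QuotientGroup.mk' Q0 j')
      = (QuotientGroup.mk' Q0 j') * (QuotientGroup.mk' Q0 j) := by
    intro j hj j' hj'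
    rw [← comm_mod_iff]
    exact hJJ (Subgroup.commutator_mem_commutator hj hj')
  have hTT' : ⁅(P : Subgroup Lt), (P : Subgroup Lt)⁆ ≤ Q0.subgroupOf Lt := by
    rw [Subgroup.commutator_le]
    intro a ha b hb
    rw [hP] at ha hb
    rw [Subgroup.mem_subgroupOf] at ha hb ⊢
    obtain ⟨j, hj, z, hz, hzL, hjz⟩ := hdec a.1 ha a.2
    obtain ⟨j', hj', z', hz', hzL', hjz'⟩ := hdec b.1 hb b.2
    have : ((⁅a, b⁆ : Lt) : G) = ⁅(a : G), (b : G)⁆ := rfl
    rw [this, comm_mod_iff, hjz, hjz', map_mul, map_mul]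
    have e1 := hzc z hz j' (hJL hj')
    have e2 := hzc z hz z' hzL'
    have e3 := hzc z' hz' j (hJL hj)
    have e4 := hjc j hj j' hj'
    set a1 := QuotientGroup.mk' Q0 j
    set a2 := QuotientGroup.mk' Q0 z
    set b1 := QuotientGroup.mk' Q0 j'
    set b2 := QuotientGroup.mk' Q0 z'
    calc a1 * a2 * (b1 * b2) = a1 * (a2 * b1) * b2 := by group
      _ = a1 * (b1 * a2) * b2 := by rw [e1]
      _ = (a1 * b1) * (a2 * b2) := by group
      _ = (b1 * a1) * (b2 * a2) := by rw [e4, e2]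
      _ = b1 * (a1 * b2) * a2 := by group
      _ = b1 * (b2 * a1) * a2 := by rw [e3]
      _ = b1 * b2 * (a1 * a2) := by group
  have hN' : Subgroup.normalizer ((P : Subgroup Lt) : Set Lt)
      ≤ Subgroup.normalizer ((Jt.subgroupOf Lt : Subgroup Lt) : Set Lt) := by
    intro m hm
    rw [hP] at hm
    have hm1 : (m : G) ∈ Subgroup.normalizer
        (((S : Subgroup G) ⊓ Lt : Subgroup G) : Set G) := by
      rw [Subgroup.mem_normalizer_iff]
      intro x
      constructor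
      · rintro ⟨hxS, hxL⟩
        have := (Subgroup.mem_normalizer_iff.mp hm ⟨x, hxL⟩).mp (Subgroup.mem_subgroupOf.mpr hxS)
        rw [Subgroup.mem_subgroupOf] at this
        exact ⟨this, Lt.mul_mem (Lt.mul_mem m.2 hxL) (Lt.inv_mem m.2)⟩
      · rintro ⟨hxS, hxL⟩
        have hxL' : x ∈ Lt := by
          have := Lt.mul_mem (Lt.mul_mem (Lt.inv_mem m.2) hxL) m.2
          simpa [mul_assoc] using this
        have := (Subgroup.mem_normalizer_iff.mp hm ⟨x, hxL'⟩).mpr (Subgroup.mem_subgroupOf.mpr hxS)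
        rw [Subgroup.mem_subgroupOf] at this
        exact ⟨this, hxL'⟩
    have hm2 := hchar hm1
    rw [Subgroup.mem_normalizer_iff]
    intro x
    rw [Subgroup.mem_subgroupOf, Subgroup.mem_subgroupOf]
    exact Subgroup.mem_normalizer_iff.mp hm2 x.1
  have hZ0' : ⁅Q.subgroupOf Lt, (⊤ : Subgroup Lt)⁆ ≤ Q0.subgroupOf Lt := by
    rw [Subgroup.commutator_le]
    intro z hz w _
    rw [Subgroup.mem_subgroupOf] at hz ⊢
    have : ((⁅z, w⁆ : Lt) : G) = ⁅(z : G), (w : G)⁆ := rfl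
    rw [this]
    exact hQL (Subgroup.commutator_mem_commutator hz w.2)
  have hprod' : ∀ t ∈ (P : Subgroup Lt), ∃ j ∈ Jt.subgroupOf Lt, ∃ z ∈ Q.subgroupOf Lt,
      t = j * z := by
    intro t ht
    rw [hP, Subgroup.mem_subgroupOf] at ht
    obtain ⟨j, hj, z, hz, hzL, hjz⟩ := hdec t.1 ht t.2
    refine ⟨⟨j, hJL hj⟩, Subgroup.mem_subgroupOf.mpr hj, ⟨z, hzL⟩,
      Subgroup.mem_subgroupOf.mpr hz, ?_⟩
    exact Subtype.ext hjz
  have hcl' : Subgroup.normalClosure ((Jt.subgroupOf Lt : Subgroup Lt) : Set Lt) = ⊤ := by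
    set D := Subgroup.normalClosure ((Jt.subgroupOf Lt : Subgroup Lt) : Set Lt) with hD
    have hLD : Lt ≤ D.map Lt.subtype := by
      have hcl0 : Subgroup.closure (Group.conjugatesOfSet (Jt : Set G)) ≤ D.map Lt.subtype := by
        rw [Subgroup.closure_le]
        intro y hy
        rw [Group.mem_conjugatesOfSet_iff] at hy
        obtain ⟨x, hx, hxy⟩ := hy
        obtain ⟨g, rfl⟩ := isConj_iff.mp hxy
        have hg : g ∈ Lt ⊔ (S : Subgroup G) := by rw [hLS]; exact Subgroup.mem_top g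
        rw [Subgroup.mem_sup_of_normal_left] at hg
        obtain ⟨l, hl, s, hs, rfl⟩ := hg
        have hsx : s * x * s⁻¹ ∈ Jt := (Subgroup.mem_normalizer_iff.mp (hJn hs) x).mp hx
        have hmem : (⟨l, hl⟩ : Lt) * ⟨s * x * s⁻¹, hJL hsx⟩ * (⟨l, hl⟩ : Lt)⁻¹ ∈ D := by
          apply (Subgroup.normalClosure_normal (s := ((Jt.subgroupOf Lt : Subgroup Lt) : Set Lt))).conj_mem
          apply Subgroup.subset_normalClosure
          exact Subgroup.mem_subgroupOf.mpr hsx
        refine ⟨_, hmem, ?_⟩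
        simp only [Subgroup.coe_subtype, Subgroup.coe_mul, Subgroup.coe_inv]
        group
      exact hcl0
    rw [eq_top_iff]
    intro a _
    obtain ⟨d, hd, hda⟩ := hLD a.2
    have : d = a := Subtype.ext hda
    rwa [← this]
  have key := Cfsg.Agent.Lib.Helper9.PU2768T.focal_endgame P (Jt.subgroupOf Lt)
    (Q0.subgroupOf Lt) (Q.subgroupOf Lt) hQ0J' hJT' hTT' hN' hZ0' hprod' hcl'
  refine ⟨?_, P, key⟩
  rw [hP, Subgroup.subgroupOf_inj] at key
  rw [key]
  exact inf_of_le_left hJL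

end Cfsg.Agent.Lib.Helper9.PU2768G
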