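import Cfsg.Agent.Lib.Helper9.GolayM24a

set_option autoImplicit false

namespace Cfsg.Agent.Lib.Helper9.GolayM24b

open Cfsg Finset Cfsg.Agent.Lib.Helper9.Golay1 Cfsg.Agent.Lib.Helper9.GolayQR4
  Cfsg.Agent.Lib.Helper9.GolayQR5 Cfsg.Agent.Lib.Helper9.GolayM24a

theorem qrWord_mem (t : ZMod 23) : qrWord t ∈ golayCode :=
  Submodule.subset_span (Or.inl (Set.mem_range_self t))

theorem shift_comp : ∀ (t : ZMod 23) (p : GolayPt),
    qrWord t (Equiv.optionCongr (Equiv.addRight (1 : ZMod 23)) p) = qrWord (t - 1) p := by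
  decide +kernel

theorem shift_mem : Equiv.optionCongr (Equiv.addRight (1 : ZMod 23)) ∈ M24 := by
  apply mem_M24_of_gens
  intro t
  have : qrWord t ∘ (Equiv.optionCongr (Equiv.addRight (1 : ZMod 23))) = qrWord (t - 1) :=
    funext (shift_comp t)
  rw [this]
  exact qrWord_mem _

theorem mul_square_mem (u : (ZMod 23)ˣ) (hu : IsSquare u) :
    Equiv.optionCongr (Units.mulLeft u) ∈ M24 := by
  apply mem_M24_of_gens
  intro t
  obtain ⟨v, rfl⟩ := hu
  have : qrWord t ∘ (Equiv.optionCongr (Units.mulLeft (v * v)))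
      = qrWord (((v * v)⁻¹ : (ZMod 23)ˣ) * t) := by
    funext p
    cases p with
    | none => rfl
    | some x =>
      change qrWord t (some (((v * v : (ZMod 23)ˣ) : ZMod 23) * x)) = _
      unfold qrWord
      refine if_congr ?_ rfl rfl
      constructor
      · rintro ⟨r, hr⟩
        refine ⟨((v⁻¹ : (ZMod 23)ˣ) : ZMod 23) * r, ?_⟩
        have h1 : x = (((v * v)⁻¹ : (ZMod 23)ˣ) : ZMod 23) * (r ^ 2 + t) := by
          rw [← hr, ← mul_assoc, ← Units.val_mul, inv_mul_cancel, Units.val_one, one_mul]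
        rw [h1, mul_inv_rev, Units.val_mul]
        ring
      · rintro ⟨r, hr⟩
        refine ⟨(v : ZMod 23) * r, ?_⟩
        have h2 : ((v * v : (ZMod 23)ˣ) : ZMod 23) * (((v * v)⁻¹ : (ZMod 23)ˣ) : ZMod 23) = 1 :=
          Units.mul_inv _
        have h3 : ((v * v : (ZMod 23)ˣ) : ZMod 23) = (v : ZMod 23) * v := Units.val_mul v v
        rw [hr]
        linear_combination r ^ 2 * h3 + t * h2
  rw [this]
  exact qrWord_mem _

open Cfsg.Agent.Lib.Helper9.GolayQR1 Cfsg.Agent.Lib.Helper9.GolayQR3 in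
theorem mem_of_masks (g : Equiv.Perm GolayPt) (msk : ZMod 23 → ℕ)
    (h1 : ∀ (t : ZMod 23) (p : GolayPt), qrWord t (g p) = dec (msk t) p)
    (h2 : ∀ t : ZMod 23, reprod (msk t) = msk t) : g ∈ M24 := by
  apply mem_M24_of_gens
  intro t
  have : qrWord t ∘ g = dec (msk t) := funext (h1 t)
  rw [this, golayCode_eq_span]
  exact dec_mem_span_of_reprod _ (h2 t)

/-- masks of the images of the generators under `projInv` -/
def projMask (t : ZMod 23) : ℕ :=
  [16436384, 4696816, 2083596, 2799212, 3876754, 10252980, 8216682, 9514476, 7705908, 2316478,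
    10864326, 15598044, 6586248, 1875162, 8840506, 13850200, 4738934, 11139408, 5435846,
    11934562, 13210538, 13581318, 15772190].getD t.val 0

/-- masks of the images of the generators under `cubeTwist` -/
def cubeMask (t : ZMod 23) : ℕ :=
  [340831, 5598424, 7770270, 438188, 4020100, 4420775, 5815878, 3390737, 7500648, 2089522,
    5966731, 6801989, 6391794, 4839740, 7136523, 1366499, 2779606, 3165759, 3087466, 7092913,
    3776749, 6161781, 710361].getD t.val 0

open Cfsg.Agent.Lib.Helper9.GolayQR1 Cfsg.Agent.Lib.Helper9.GolayQR3 in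
theorem proj_comp : ∀ (t : ZMod 23) (p : GolayPt),
    qrWord t (projInvFun p) = dec (projMask t) p := by
  decide +kernel

open Cfsg.Agent.Lib.Helper9.GolayQR1 Cfsg.Agent.Lib.Helper9.GolayQR3 in
theorem cube_comp : ∀ (t : ZMod 23) (p : GolayPt),
    qrWord t (cubeTwistFun p) = dec (cubeMask t) p := by
  decide +kernel

open Cfsg.Agent.Lib.Helper9.GolayQR1 Cfsg.Agent.Lib.Helper9.GolayQR3 in
theorem proj_reprod : ∀ t : ZMod 23, reprod (projMask t) = projMask t := by decide +kernel

open Cfsg.Agent.Lib.Helper9.GolayQR1 Cfsg.Agent.Lib.Helper9.GolayQR3 in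
theorem cube_reprod : ∀ t : ZMod 23, reprod (cubeMask t) = cubeMask t := by decide +kernel

theorem projInv_mem : projInv ∈ M24 :=
  mem_of_masks projInv projMask proj_comp proj_reprod

theorem cubeTwist_mem : cubeTwist ∈ M24 :=
  mem_of_masks cubeTwist cubeMask cube_comp cube_reprod

end Cfsg.Agent.Lib.Helper9.GolayM24b
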