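import Cfsg.Agent.Lib.Helper9.M24H2

set_option autoImplicit false

namespace Cfsg.Agent.Lib.Helper9.M24H4

open Cfsg Finset Cfsg.Agent.Lib.Helper9.GolayQR1
  Cfsg.Agent.Lib.Helper9.M24T1 Cfsg.Agent.Lib.Helper9.M24T3 Cfsg.Agent.Lib.Helper9.M24T4
  Cfsg.Agent.Lib.Helper9.M24U1 Cfsg.Agent.Lib.Helper9.M24H1 Cfsg.Agent.Lib.Helper9.M24H2
  Cfsg.Agent.Lib.Helper9.GolayQR5
open scoped Pointwise

/-- the representative of the class `3A` -/
def r3A : Equiv.Perm GolayPt :=
  tperm [0, 1, 2, 3, 4, 14, 15, 10, 21, 8, 12, 19, 7, 22, 17, 18, 13, 5, 6, 20, 11, 9, 16, 23]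
    [0, 1, 2, 3, 4, 17, 18, 12, 9, 21, 7, 20, 10, 16, 5, 6, 22, 14, 15, 11, 19, 8, 13, 23] (by decide +kernel) (by decide +kernel)

theorem r3A_mem : r3A ∈ M24 := tperm_mem _ _ _ _ (by decide +kernel) (by decide +kernel)

/-- the representative of the class `3B` -/
def r3B : Equiv.Perm GolayPt :=
  tperm [1, 23, 3, 4, 2, 11, 9, 18, 12, 10, 6, 22, 15, 17, 19, 8, 14, 20, 21, 16, 13, 7, 5, 0]
    [23, 0, 4, 2, 3, 22, 10, 21, 15, 6, 9, 5, 8, 20, 16, 12, 19, 13, 7, 14, 17, 18, 11, 1] (by decide +kernel) (by decide +kernel)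

theorem r3B_mem : r3B ∈ M24 := tperm_mem _ _ _ _ (by decide +kernel) (by decide +kernel)

/-- an element acting on the special list by the pattern -/
def us3 : Equiv.Perm GolayPt :=
  tperm [1, 23, 3, 5, 18, 2, 13, 8, 11, 15, 21, 20, 19, 9, 14, 12, 7, 17, 4, 6, 22, 10, 16, 0]
    [23, 0, 5, 2, 18, 3, 19, 16, 7, 13, 21, 8, 15, 6, 14, 9, 22, 17, 4, 12, 11, 10, 20, 1] (by decide +kernel) (by decide +kernel)

theorem us3_mem : us3 ∈ M24 := tperm_mem _ _ _ _ (by decide +kernel) (by decide +kernel)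

/-- an element acting on the non-special list by the pattern -/
def un3 : Equiv.Perm GolayPt :=
  tperm [1, 23, 3, 4, 2, 11, 9, 18, 12, 10, 6, 22, 15, 17, 19, 8, 14, 20, 21, 16, 13, 7, 5, 0]
    [23, 0, 4, 2, 3, 22, 10, 21, 15, 6, 9, 5, 8, 20, 16, 12, 19, 13, 7, 14, 17, 18, 11, 1] (by decide +kernel) (by decide +kernel)

theorem un3_mem : un3 ∈ M24 := tperm_mem _ _ _ _ (by decide +kernel) (by decide +kernel)

theorem us3_map : Ls.map us3 = rearr [1, 2, 0, 4, 5, 3] Ls := by decide +kernel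

theorem un3_map : Ln.map un3 = rearr [1, 2, 0, 4, 5, 3] Ln := by decide +kernel

/-- nontrivial elements of order dividing 3 -/
def P3 (g : Equiv.Perm GolayPt) : Prop := g * g * g = 1 ∧ g ≠ 1

/-- conjugates of the representatives -/
def Q3 (g : Equiv.Perm GolayPt) : Prop :=
  ∃ k ∈ M24, k * g * k⁻¹ = r3A ∨ k * g * k⁻¹ = r3B

theorem hQ3 (g k : Equiv.Perm GolayPt) (hk : k ∈ M24) (h : Q3 (k * g * k⁻¹)) : Q3 g := by
  obtain ⟨k', hk', h'⟩ := h
  refine ⟨k' * k, M24.mul_mem hk' hk, ?_⟩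
  have e : k' * k * g * (k' * k)⁻¹ = k' * (k * g * k⁻¹) * k'⁻¹ := by group
  rw [e]
  exact h'

theorem hP3 (g k : Equiv.Perm GolayPt) (h : P3 g) : P3 (k * g * k⁻¹) := by
  obtain ⟨h1, h2⟩ := h
  constructor
  · have e : (k * g * k⁻¹) * (k * g * k⁻¹) * (k * g * k⁻¹) = k * (g * g * g) * k⁻¹ := by group
    rw [e, h1]
    group
  · intro h
    apply h2
    have e : g = k⁻¹ * (k * g * k⁻¹) * k := by group
    rw [e, h]
    group

theorem hall_s3 : ∀ f ∈ F16, P3 (us3 * f) → Q3 (us3 * f) := by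
  intro f hf
  simp only [F16, List.mem_cons, List.not_mem_nil, or_false] at hf
  rcases hf with rfl | rfl | rfl | rfl | rfl | rfl | rfl | rfl | rfl | rfl | rfl | rfl | rfl | rfl | rfl | rfl
  · intro h; exact absurd h.1 (by decide +kernel)
  · intro h; exact absurd h.1 (by decide +kernel)
  · intro h; exact absurd h.1 (by decide +kernel)
  · intro h; exact absurd h.1 (by decide +kernel)
  · intro h; exact absurd h.1 (by decide +kernel)
  · intro h; exact absurd h.1 (by decide +kernel)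
  · intro h; exact absurd h.1 (by decide +kernel)
  · intro h; exact absurd h.1 (by decide +kernel)
  · intro _
    exact ⟨tperm [18, 6, 20, 11, 10, 19, 23, 17, 8, 12, 5, 4, 7, 13, 2, 3, 1, 0, 22, 16, 21, 9, 14, 15]
      [17, 16, 14, 15, 11, 10, 1, 12, 8, 21, 4, 3, 9, 13, 22, 23, 19, 7, 0, 5, 2, 20, 18, 6] (by decide +kernel) (by decide +kernel),
      tperm_mem _ _ _ _ (by decide +kernel) (by decide +kernel), Or.inl (by decide +kernel)⟩
  · intro _
    exact ⟨tperm [19, 20, 22, 16, 18, 13, 15, 12, 1, 0, 10, 7, 6, 17, 3, 5, 8, 2, 14, 4, 9, 21, 23, 11]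
      [9, 8, 17, 14, 19, 15, 12, 11, 16, 20, 10, 23, 7, 5, 18, 6, 3, 13, 4, 0, 1, 21, 2, 22] (by decide +kernel) (by decide +kernel),
      tperm_mem _ _ _ _ (by decide +kernel) (by decide +kernel), Or.inl (by decide +kernel)⟩
  · intro h; exact absurd h.1 (by decide +kernel)
  · intro _
    exact ⟨tperm [11, 19, 21, 9, 4, 8, 5, 6, 10, 17, 0, 18, 14, 22, 1, 13, 12, 2, 3, 16, 7, 23, 15, 20]
      [10, 14, 17, 18, 4, 6, 7, 20, 5, 3, 8, 0, 16, 15, 12, 22, 19, 9, 11, 1, 23, 2, 13, 21] (by decide +kernel) (by decide +kernel),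
      tperm_mem _ _ _ _ (by decide +kernel) (by decide +kernel), Or.inl (by decide +kernel)⟩
  · intro _
    exact ⟨tperm [20, 11, 14, 17, 9, 5, 8, 0, 22, 21, 18, 6, 1, 23, 4, 10, 13, 2, 7, 12, 3, 16, 15, 19]
      [7, 12, 17, 20, 14, 5, 11, 18, 6, 4, 15, 1, 19, 16, 2, 22, 21, 3, 10, 23, 0, 9, 8, 13] (by decide +kernel) (by decide +kernel),
      tperm_mem _ _ _ _ (by decide +kernel) (by decide +kernel), Or.inl (by decide +kernel)⟩
  · intro h; exact absurd h.1 (by decide +kernel)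
  · intro h; exact absurd h.1 (by decide +kernel)
  · intro h; exact absurd h.1 (by decide +kernel)

theorem hall_n3 : ∀ f ∈ F3, P3 (un3 * f) → Q3 (un3 * f) := by
  intro f hf
  simp only [F3, List.mem_cons, List.not_mem_nil, or_false] at hf
  rcases hf with rfl | rfl | rfl
  · intro _
    exact ⟨tperm [0, 1, 2, 3, 4, 5, 6, 7, 8, 9, 10, 11, 12, 13, 14, 15, 16, 17, 18, 19, 20, 21, 22, 23]
      [0, 1, 2, 3, 4, 5, 6, 7, 8, 9, 10, 11, 12, 13, 14, 15, 16, 17, 18, 19, 20, 21, 22, 23] (by decide +kernel) (by decide +kernel),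
      tperm_mem _ _ _ _ (by decide +kernel) (by decide +kernel), Or.inr (by decide +kernel)⟩
  · intro _
    exact ⟨tperm [0, 1, 9, 10, 6, 15, 19, 14, 16, 21, 5, 3, 7, 12, 20, 11, 4, 2, 18, 8, 13, 22, 17, 23]
      [0, 1, 17, 11, 16, 10, 4, 12, 19, 2, 3, 15, 13, 20, 7, 5, 8, 22, 18, 6, 14, 9, 21, 23] (by decide +kernel) (by decide +kernel),
      tperm_mem _ _ _ _ (by decide +kernel) (by decide +kernel), Or.inr (by decide +kernel)⟩
  · intro _
    exact ⟨tperm [0, 1, 17, 20, 13, 21, 2, 5, 9, 22, 10, 12, 4, 15, 8, 11, 18, 16, 6, 14, 7, 3, 19, 23]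
      [0, 1, 6, 21, 12, 7, 18, 20, 14, 8, 10, 15, 11, 4, 19, 13, 17, 2, 16, 22, 3, 5, 9, 23] (by decide +kernel) (by decide +kernel),
      tperm_mem _ _ _ _ (by decide +kernel) (by decide +kernel), Or.inr (by decide +kernel)⟩

theorem hall_s3_id : ∀ f ∈ F16, P3 ((1 : Equiv.Perm GolayPt) * f) → Q3 ((1 : Equiv.Perm GolayPt) * f) := by
  intro f hf
  simp only [F16, List.mem_cons, List.not_mem_nil, or_false] at hf
  rcases hf with rfl | rfl | rfl | rfl | rfl | rfl | rfl | rfl | rfl | rfl | rfl | rfl | rfl | rfl | rfl | rfl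
  · intro h; exact absurd (by decide +kernel) h.2
  · intro h; exact absurd h.1 (by decide +kernel)
  · intro h; exact absurd h.1 (by decide +kernel)
  · intro h; exact absurd h.1 (by decide +kernel)
  · intro h; exact absurd h.1 (by decide +kernel)
  · intro h; exact absurd h.1 (by decide +kernel)
  · intro h; exact absurd h.1 (by decide +kernel)
  · intro h; exact absurd h.1 (by decide +kernel)
  · intro h; exact absurd h.1 (by decide +kernel)
  · intro h; exact absurd h.1 (by decide +kernel)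
  · intro h; exact absurd h.1 (by decide +kernel)
  · intro h; exact absurd h.1 (by decide +kernel)
  · intro h; exact absurd h.1 (by decide +kernel)
  · intro h; exact absurd h.1 (by decide +kernel)
  · intro h; exact absurd h.1 (by decide +kernel)
  · intro h; exact absurd h.1 (by decide +kernel)

theorem hall_n3_id : ∀ f ∈ F3, P3 ((1 : Equiv.Perm GolayPt) * f) → Q3 ((1 : Equiv.Perm GolayPt) * f) := by
  intro f hf
  simp only [F3, List.mem_cons, List.not_mem_nil, or_false] at hf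
  rcases hf with rfl | rfl | rfl
  · intro h; exact absurd (by decide +kernel) h.2
  · intro _
    exact ⟨tperm [0, 1, 2, 3, 4, 5, 6, 7, 8, 9, 10, 11, 12, 13, 14, 15, 16, 17, 18, 19, 20, 21, 22, 23]
      [0, 1, 2, 3, 4, 5, 6, 7, 8, 9, 10, 11, 12, 13, 14, 15, 16, 17, 18, 19, 20, 21, 22, 23] (by decide +kernel) (by decide +kernel),
      tperm_mem _ _ _ _ (by decide +kernel) (by decide +kernel), Or.inl (by decide +kernel)⟩
  · intro _
    exact ⟨tperm [0, 1, 2, 4, 3, 16, 6, 7, 9, 8, 12, 20, 10, 17, 22, 18, 5, 13, 15, 19, 11, 21, 14, 23]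
      [0, 1, 2, 4, 3, 16, 6, 7, 9, 8, 12, 20, 10, 17, 22, 18, 5, 13, 15, 19, 11, 21, 14, 23] (by decide +kernel) (by decide +kernel),
      tperm_mem _ _ _ _ (by decide +kernel) (by decide +kernel), Or.inl (by decide +kernel)⟩

/-- elements acting by the pattern are conjugate to a representative -/
theorem class_pat3 (g : Equiv.Perm GolayPt) (hg : g ∈ M24) (L : List GolayPt) (hnd : L.Nodup)
    (h6 : L.length = 6) (hgL : L.map g = rearr [1, 2, 0, 4, 5, 3] L) (hP : P3 g) : Q3 g :=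
  class_of_pattern P3 Q3 hQ3 hP3 F16 F3 F16_sub F3_sub [1, 2, 0, 4, 5, 3] us3 un3 us3_mem un3_mem
    us3_map un3_map hall_s3 hall_n3 g hg L hnd h6 hgL hP

/-- elements fixing six points are conjugate to a representative -/
theorem class_fix3 (g : Equiv.Perm GolayPt) (hg : g ∈ M24) (L : List GolayPt) (hnd : L.Nodup)
    (h6 : L.length = 6) (hgL : ∀ p ∈ L, g p = p) (hP : P3 g) : Q3 g := by
  refine class_of_pattern P3 Q3 hQ3 hP3 F16 F3 F16_sub F3_sub [0, 1, 2, 3, 4, 5] 1 1 M24.one_mem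
    M24.one_mem (by decide +kernel) (by decide +kernel) hall_s3_id hall_n3_id g hg L hnd h6 ?_ hP
  rw [rearr_id L h6]
  conv_rhs => rw [← List.map_id L]
  apply List.map_congr_left
  intro p hp
  exact hgL p hp

/-- the classification of the elements of order three of `M24` -/
theorem three_class (g : Equiv.Perm GolayPt) (hg : g ∈ M24) (h3 : g * g * g = 1) (h1 : g ≠ 1) :
    Q3 g := by
  have hggg : ∀ p, g (g (g p)) = p := fun p => by
    rw [← Equiv.Perm.mul_apply, ← Equiv.Perm.mul_apply, h3]; rfl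
  by_cases hc : 4 ≤ (univ.filter fun p => g p ≠ p).card
  · obtain ⟨a, d, -, -, hnd⟩ := pick_triples g h3 (univ.filter fun p => g p ≠ p)
      (fun p hp => by
        rw [mem_filter] at hp ⊢
        exact ⟨mem_univ _, fun h => hp.2 (g.injective h)⟩)
      (fun p hp => (mem_filter.mp hp).2) hc
    refine class_pat3 g hg _ hnd rfl ?_ ⟨h3, h1⟩
    simp only [List.map_cons, List.map_nil, hggg]
    rfl
  · have hB : 6 ≤ (univ.filter fun p => g p = p).card := by
      have h := card_filter_add_card_filter_not (s := (univ : Finset GolayPt))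
        (fun p => g p = p)
      rw [card_univ, card_golayPt] at h
      change _ + (univ.filter fun p => g p ≠ p).card = 24 at h
      omega
    obtain ⟨L, hnd, h6, hL⟩ := pick_six _ hB
    exact class_fix3 g hg L hnd h6 (fun p hp => (mem_filter.mp (hL p hp)).2) ⟨h3, h1⟩

end Cfsg.Agent.Lib.Helper9.M24H4
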