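import Cfsg.Agent.Lib.Helper9.M24H3
import Cfsg.Agent.Lib.Helper9.M24H4

set_option autoImplicit false

namespace Cfsg.Agent.Lib.Helper9.M24H5

open Cfsg Finset Cfsg.Agent.Lib.Helper9.GolayQR1 Cfsg.Agent.Lib.Helper9.GolayQR5
  Cfsg.Agent.Lib.Helper9.M24T1 Cfsg.Agent.Lib.Helper9.M24T3 Cfsg.Agent.Lib.Helper9.M24T4
  Cfsg.Agent.Lib.Helper9.M24U1 Cfsg.Agent.Lib.Helper9.M24U4 Cfsg.Agent.Lib.Helper9.M24H1
  Cfsg.Agent.Lib.Helper9.M24H2 Cfsg.Agent.Lib.Helper9.M24H3 Cfsg.Agent.Lib.Helper9.M24H4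
open scoped Pointwise

/-- the set of fixed points -/
def Fix (g : Equiv.Perm GolayPt) : Finset GolayPt := univ.filter fun p => g p = p

theorem mem_Fix (g : Equiv.Perm GolayPt) (p : GolayPt) : p ∈ Fix g ↔ g p = p := by
  unfold Fix
  rw [mem_filter]
  exact ⟨fun h => h.2, fun h => ⟨mem_univ _, h⟩⟩

theorem Fix_conj (g k : Equiv.Perm GolayPt) : Fix (k * g * k⁻¹) = k • Fix g := by
  ext p
  rw [← Finset.inv_smul_mem_iff, mem_Fix, mem_Fix, Equiv.Perm.smul_def, Equiv.Perm.mul_apply,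
    Equiv.Perm.mul_apply]
  constructor
  · intro h
    have := congrArg (fun q => k⁻¹ q) h
    simpa using this
  · intro h
    rw [h]
    simp

theorem card_Fix_conj (g k : Equiv.Perm GolayPt) : (Fix (k * g * k⁻¹)).card = (Fix g).card := by
  rw [Fix_conj, Finset.card_smul_finset]

theorem Fix_of_conj (g k r : Equiv.Perm GolayPt) (h : k * g * k⁻¹ = r) : Fix g = k⁻¹ • Fix r := by
  rw [← h, Fix_conj, inv_smul_smul]

theorem order_two (g : Equiv.Perm GolayPt) (h : orderOf g = 2) : g * g = 1 ∧ g ≠ 1 := by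
  constructor
  · rw [← pow_two, ← h, pow_orderOf_eq_one]
  · intro h1
    rw [h1, orderOf_one] at h
    omega

theorem order_three (g : Equiv.Perm GolayPt) (h : orderOf g = 3) : g * g * g = 1 ∧ g ≠ 1 := by
  constructor
  · have := pow_orderOf_eq_one g
    rw [h, pow_succ, pow_two] at this
    exact this
  · intro h1
    rw [h1, orderOf_one] at h
    omega

theorem Fix_r2A : Fix r2A = M 8536111 := by
  ext p
  rw [mem_Fix, mem_M]
  revert p
  decide +kernel

theorem Fix_r2A_mem : Fix r2A ∈ octads := by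
  rw [Fix_r2A]
  exact (mem_octads_iff' _).mpr ⟨8536111, by decide +kernel, rfl⟩

theorem Fix_r2B : Fix r2B = ∅ := by
  ext p
  rw [mem_Fix]
  revert p
  decide +kernel

theorem card_Fix_r3A : (Fix r3A).card = 6 := by
  unfold Fix
  decide +kernel

theorem Fix_r3B : Fix r3B = ∅ := by
  ext p
  rw [mem_Fix]
  revert p
  decide +kernel

theorem orderOf_r2A : orderOf r2A = 2 :=
  orderOf_eq_prime (by decide +kernel) (by decide +kernel)

theorem orderOf_r2B : orderOf r2B = 2 :=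
  orderOf_eq_prime (by decide +kernel) (by decide +kernel)

theorem orderOf_r3A : orderOf r3A = 3 :=
  orderOf_eq_prime (by decide +kernel) (by decide +kernel)

theorem orderOf_r3B : orderOf r3B = 3 :=
  orderOf_eq_prime (by decide +kernel) (by decide +kernel)

theorem Fix_eq_empty_iff (g : Equiv.Perm GolayPt) : Fix g = ∅ ↔ ∀ p, g p ≠ p := by
  rw [Finset.eq_empty_iff_forall_notMem]
  exact forall_congr' fun p => by rw [mem_Fix]

theorem smul_empty' (k : Equiv.Perm GolayPt) : k • (∅ : Finset GolayPt) = ∅ :=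
  Finset.smul_finset_empty k

/-- the classification of the involutions by their fixed points -/
theorem invol_cases (g : Equiv.Perm GolayPt) (hg : g ∈ M24) (h2 : orderOf g = 2) :
    (∃ k ∈ M24, k * g * k⁻¹ = r2A ∧ Fix g ∈ octads ∧ (Fix g).card = 8) ∨
    (∃ k ∈ M24, k * g * k⁻¹ = r2B ∧ Fix g = ∅) := by
  obtain ⟨h1, h1'⟩ := order_two g h2
  obtain ⟨k, hk, hk' | hk'⟩ := invol_class g hg h1 h1'
  · left
    refine ⟨k, hk, hk', ?_, ?_⟩
    · rw [Fix_of_conj g k _ hk']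
      exact smul_octad_mem _ (M24.inv_mem hk) _ Fix_r2A_mem
    · rw [← card_Fix_conj g k, hk']
      exact Fix_r2A_mem.2
  · right
    refine ⟨k, hk, hk', ?_⟩
    rw [Fix_of_conj g k _ hk', Fix_r2B, smul_empty']

/-- the classification of the elements of order three by their fixed points -/
theorem three_cases (g : Equiv.Perm GolayPt) (hg : g ∈ M24) (h3 : orderOf g = 3) :
    (∃ k ∈ M24, k * g * k⁻¹ = r3A ∧ (Fix g).card = 6) ∨
    (∃ k ∈ M24, k * g * k⁻¹ = r3B ∧ Fix g = ∅) := by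
  obtain ⟨h1, h1'⟩ := order_three g h3
  obtain ⟨k, hk, hk' | hk'⟩ := three_class g hg h1 h1'
  · left
    refine ⟨k, hk, hk', ?_⟩
    rw [← card_Fix_conj g k, hk', card_Fix_r3A]
  · right
    refine ⟨k, hk, hk', ?_⟩
    rw [Fix_of_conj g k _ hk', Fix_r3B, smul_empty']

/-- two conjugates of the same element are conjugate -/
theorem conj_of_conj (g h r k k' : Equiv.Perm GolayPt) (hk : k ∈ M24) (hk' : k' ∈ M24)
    (e : k * g * k⁻¹ = r) (e' : k' * h * k'⁻¹ = r) : ∃ c ∈ M24, c * g * c⁻¹ = h := by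
  refine ⟨k'⁻¹ * k, M24.mul_mem (M24.inv_mem hk') hk, ?_⟩
  have : k'⁻¹ * k * g * (k'⁻¹ * k)⁻¹ = k'⁻¹ * (k * g * k⁻¹) * k' := by group
  rw [this, e, ← e']
  group

end Cfsg.Agent.Lib.Helper9.M24H5
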