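import Cfsg.Agent.Lib.Helper9.M24P5
import Cfsg.Agent.Lib.Helper9.M24H5
import Cfsg.Agent.Lib.Helper9.GolayM24b
import Cfsg.Prelude.Def_Spor_Mathieu

set_option autoImplicit false

namespace Cfsg.Agent.Lib.Helper9.M24P6

open Cfsg Finset Cfsg.Agent.Lib.Helper9.Golay1 Cfsg.Agent.Lib.Helper9.GolayQR1
  Cfsg.Agent.Lib.Helper9.GolayQR5 Cfsg.Agent.Lib.Helper9.GolayQR6
  Cfsg.Agent.Lib.Helper9.M24T1 Cfsg.Agent.Lib.Helper9.M24T6 Cfsg.Agent.Lib.Helper9.M24T9
  Cfsg.Agent.Lib.Helper9.M24T10 Cfsg.Agent.Lib.Helper9.M24T11 Cfsg.Agent.Lib.Helper9.M24X1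
  Cfsg.Agent.Lib.Helper9.M24H5 Cfsg.Agent.Lib.Helper9.M24P1 Cfsg.Agent.Lib.Helper9.M24P5
open scoped Pointwise

theorem sq_mem : Spor.squareDodecad ∈ dodecads :=
  ⟨⟨qrWord 0, Cfsg.Agent.Lib.Helper9.GolayM24b.qrWord_mem 0, rfl⟩, by decide⟩

theorem zero_mem_sq : (some 0 : GolayPt) ∈ Spor.squareDodecad := by decide

theorem M11_eq : Spor.M11 = stabF Spor.squareDodecad ⊓
    MulAction.stabilizer (Equiv.Perm GolayPt) (some 0 : GolayPt) := rfl

theorem card_M11 : Nat.card ↥Spor.M11 = 7920 := by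
  rw [M11_eq]
  exact card_stab_point _ sq_mem _ zero_mem_sq

theorem prime_cases (p : ℕ) (hp : p.Prime) (h : p ∣ 7920) : p = 2 ∨ p = 3 ∨ p = 5 ∨ p = 11 := by
  have e : 7920 = 2 ^ 4 * 3 ^ 2 * 5 * 11 := by norm_num
  rw [e] at h
  rcases (Nat.Prime.dvd_mul hp).mp h with h | h
  · rcases (Nat.Prime.dvd_mul hp).mp h with h | h
    · rcases (Nat.Prime.dvd_mul hp).mp h with h | h
      · left
        exact (Nat.prime_dvd_prime_iff_eq hp Nat.prime_two).mp (hp.dvd_of_dvd_pow h)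
      · right; left
        exact (Nat.prime_dvd_prime_iff_eq hp Nat.prime_three).mp (hp.dvd_of_dvd_pow h)
    · right; right; left
      exact (Nat.prime_dvd_prime_iff_eq hp Nat.prime_five).mp h
  · right; right; right
    exact (Nat.prime_dvd_prime_iff_eq hp (by norm_num)).mp h

/-- a permutation of prime order stabilizing a set whose size is prime to the order fixes a point
of the set -/
theorem fixed_in (g : Equiv.Perm GolayPt) (p : ℕ) [Fact p.Prime] (hord : orderOf g = p)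
    (s : Finset GolayPt) (hs : g • s = s) (hnd : ¬ p ∣ s.card) : ∃ x ∈ s, g x = x := by
  have hpow : (g.subtypePerm ((stab_iff s g).mp hs)) ^ p ^ 1 = 1 := by
    rw [pow_one]
    apply Equiv.ext
    intro x
    apply Subtype.ext
    rw [Equiv.Perm.subtypePerm_pow, Equiv.Perm.subtypePerm_apply]
    change (g ^ p) (x : GolayPt) = x
    rw [← hord, pow_orderOf_eq_one]
    rfl
  have hnd' : ¬ p ∣ Fintype.card ↥s := by
    rw [Fintype.card_coe]
    exact hnd
  obtain ⟨a, ha⟩ := Equiv.Perm.exists_fixed_point_of_prime hnd' hpow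
  exact ⟨a, a.2, congrArg Subtype.val ha⟩

theorem main (g : Equiv.Perm GolayPt) (hg : g ∈ Spor.M11) (hord : (orderOf g).Prime) :
    ∃ x : GolayPt, x ∉ Spor.squareDodecad ∧ g x = x := by
  have hg' := hg
  rw [M11_eq, Subgroup.mem_inf] at hg'
  obtain ⟨hgd, hg0⟩ := hg'
  have hg0' : g (some 0) = some 0 := MulAction.mem_stabilizer_iff.mp hg0
  have hgM := (mem_stabF _ g).mp hgd
  have hdvd : orderOf g ∣ 7920 := by
    rw [← card_M11]
    have : orderOf (⟨g, hg⟩ : ↥Spor.M11) = orderOf g := Subgroup.orderOf_mk g hg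
    rw [← this]
    exact orderOf_dvd_natCard _
  have hne : g ≠ 1 := by
    rintro rfl
    rw [orderOf_one] at hord
    exact Nat.not_prime_one hord
  have h0F : (some 0 : GolayPt) ∈ Fix g := (mem_Fix g _).mpr hg0'
  -- fixed point sets with at least five points are not inside the dodecad
  have key : 5 ≤ (Fix g).card → ∃ x : GolayPt, x ∉ Spor.squareDodecad ∧ g x = x := by
    intro h5
    by_contra hcon
    push_neg at hcon
    apply hne
    apply eq_one_of_fix _ sq_mem g hgd (Fix g) _ h5 (fun p hp => (mem_Fix g p).mp hp)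
    intro x hx
    by_contra hxd
    exact hcon x hxd ((mem_Fix g x).mp hx)
  have hcompl : g • (Spor.squareDodecad)ᶜ = (Spor.squareDodecad)ᶜ := by
    rw [Cfsg.Agent.Lib.Helper9.M24F7.smul_compl', hgM.2]
  have hc12 : ((Spor.squareDodecad)ᶜ : Finset GolayPt).card = 12 := by
    rw [card_compl, card_golayPt, sq_mem.2]
  rcases prime_cases _ hord hdvd with h | h | h | h
  · rcases invol_cases g hgM.1 h with ⟨k, -, -, -, h8⟩ | ⟨k, -, -, he⟩
    · exact key (by rw [h8]; norm_num)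
    · rw [he] at h0F
      exact absurd h0F (notMem_empty _)
  · rcases three_cases g hgM.1 h with ⟨k, -, -, h6⟩ | ⟨k, -, -, he⟩
    · exact key (by rw [h6]; norm_num)
    · rw [he] at h0F
      exact absurd h0F (notMem_empty _)
  · haveI : Fact (Nat.Prime 5) := ⟨by norm_num⟩
    obtain ⟨x, hx, hgx⟩ := fixed_in g 5 h _ hcompl (by rw [hc12]; norm_num)
    exact ⟨x, mem_compl.mp hx, hgx⟩
  · haveI : Fact (Nat.Prime 11) := ⟨by norm_num⟩
    obtain ⟨x, hx, hgx⟩ := fixed_in g 11 h _ hcompl (by rw [hc12]; norm_num)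
    exact ⟨x, mem_compl.mp hx, hgx⟩

end Cfsg.Agent.Lib.Helper9.M24P6
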