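import Mathlib
import Cfsg.Prelude.Def_Transfer
import Cfsg.Agent.Lib.Helper3.SympA

set_option autoImplicit false

/-! A finite `2`-group generated by a set of elements whose commutators and squares lie in a
central subgroup `{1, z}` that is the whole centre is extraspecial. -/

namespace Cfsg.Agent.Lib.Helper9.ExtraCl

open Cfsg

variable {G : Type*} [Group G]

/-- the criterion -/
theorem extraspecial_closure (S : Set G) (z : G) [Finite ↥(Subgroup.closure S)] (k : ℕ)
    (hcard : Nat.card ↥(Subgroup.closure S) = 2 ^ k) (hz : z ∈ Subgroup.closure S)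
    (hz1 : z ≠ 1) (hzc : ∀ s ∈ S, s * z = z * s)
    (hcomm : ∀ s ∈ S, ∀ t ∈ S, s * t = t * s ∨ s * t = z * (t * s))
    (hsq : ∀ s ∈ S, s * s = 1 ∨ s * s = z)
    (hcen : ∀ x ∈ Subgroup.closure S, (∀ s ∈ S, s * x = x * s) → x = 1 ∨ x = z)
    (hna : ∃ s ∈ S, ∃ t ∈ S, s * t ≠ t * s) : IsExtraspecial 2 ↥(Subgroup.closure S) := by
  haveI : Fact (Nat.Prime 2) := ⟨Nat.prime_two⟩
  -- `z` commutes with the closure
  have hzall : ∀ x ∈ Subgroup.closure S, x * z = z * x := by
    intro x hx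
    induction hx using Subgroup.closure_induction with
    | mem s hs => exact hzc s hs
    | one => rw [one_mul, mul_one]
    | mul a b _ _ ha hb => rw [mul_assoc, hb, ← mul_assoc, ha, mul_assoc]
    | inv a _ ha =>
      calc a⁻¹ * z = a⁻¹ * (z * a) * a⁻¹ := by group
        _ = a⁻¹ * (a * z) * a⁻¹ := by rw [ha]
        _ = z * a⁻¹ := by group
  let P := ↥(Subgroup.closure S)
  let zP : P := ⟨z, hz⟩
  have hzP1 : zP ≠ 1 := fun h => hz1 (congrArg Subtype.val h)
  have hzcen : zP ∈ Subgroup.center P := by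
    rw [Subgroup.mem_center_iff]
    intro y
    apply Subtype.ext
    exact hzall y.1 y.2
  -- the centre
  have hcenP : ∀ x : P, x ∈ Subgroup.center P → x = 1 ∨ x = zP := by
    intro x hx
    rw [Subgroup.mem_center_iff] at hx
    rcases hcen x.1 x.2 (fun s hs => by
      have := hx ⟨s, Subgroup.subset_closure hs⟩
      exact congrArg Subtype.val this) with h | h
    · exact Or.inl (Subtype.ext h)
    · exact Or.inr (Subtype.ext h)
  have hZcard : Nat.card (Subgroup.center P) = 2 := by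
    rw [Nat.card_eq_two_iff]
    refine ⟨1, ⟨zP, hzcen⟩, fun h => hzP1 (congrArg Subtype.val h).symm, ?_⟩
    ext x
    simp only [Set.mem_insert_iff, Set.mem_singleton_iff, Set.mem_univ, iff_true]
    rcases hcenP x.1 x.2 with h | h
    · exact Or.inl (Subtype.ext h)
    · exact Or.inr (Subtype.ext h)
  -- the quotient by the centre is commutative of exponent two
  let π : P →* P ⧸ Subgroup.center P := QuotientGroup.mk' (Subgroup.center P)
  have hπz : π zP = 1 := (QuotientGroup.eq_one_iff zP).mpr hzcen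
  have hgen : ∀ s (hs : s ∈ S) t (ht : t ∈ S),
      π ⟨s, Subgroup.subset_closure hs⟩ * π ⟨t, Subgroup.subset_closure ht⟩ =
        π ⟨t, Subgroup.subset_closure ht⟩ * π ⟨s, Subgroup.subset_closure hs⟩ := by
    intro s hs t ht
    rw [← map_mul, ← map_mul]
    rcases hcomm s hs t ht with h | h
    · congr 1
      exact Subtype.ext h
    · have : (⟨s, Subgroup.subset_closure hs⟩ : P) * ⟨t, Subgroup.subset_closure ht⟩ =
          zP * (⟨t, Subgroup.subset_closure ht⟩ * ⟨s, Subgroup.subset_closure hs⟩) :=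
        Subtype.ext h
      rw [this, map_mul, hπz, one_mul]
  have hcommQ : ∀ x (hx : x ∈ Subgroup.closure S) y (hy : y ∈ Subgroup.closure S),
      π ⟨x, hx⟩ * π ⟨y, hy⟩ = π ⟨y, hy⟩ * π ⟨x, hx⟩ := by
    intro x hx y hy
    induction hx using Subgroup.closure_induction with
    | mem s hs =>
      induction hy using Subgroup.closure_induction with
      | mem t ht => exact hgen s hs t ht
      | one =>
        have : (⟨1, Subgroup.one_mem _⟩ : P) = 1 := rfl
        rw [this, map_one, mul_one, one_mul]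
      | mul a b ha hb iha ihb =>
        have : (⟨a * b, Subgroup.mul_mem _ ha hb⟩ : P) = ⟨a, ha⟩ * ⟨b, hb⟩ := rfl
        rw [this, map_mul, ← mul_assoc, iha, mul_assoc, ihb, ← mul_assoc]
      | inv a ha iha =>
        have : (⟨a⁻¹, Subgroup.inv_mem _ ha⟩ : P) = (⟨a, ha⟩ : P)⁻¹ := rfl
        rw [this, map_inv]
        exact (Commute.inv_right (show Commute _ _ from iha)).eq
    | one =>
      have : (⟨1, Subgroup.one_mem _⟩ : P) = 1 := rfl
      rw [this, map_one, mul_one, one_mul]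
    | mul a b ha hb iha ihb =>
      have : (⟨a * b, Subgroup.mul_mem _ ha hb⟩ : P) = ⟨a, ha⟩ * ⟨b, hb⟩ := rfl
      rw [this, map_mul, mul_assoc, ihb, ← mul_assoc, iha, mul_assoc]
    | inv a ha iha =>
      have : (⟨a⁻¹, Subgroup.inv_mem _ ha⟩ : P) = (⟨a, ha⟩ : P)⁻¹ := rfl
      rw [this, map_inv]
      exact (Commute.inv_left (show Commute _ _ from iha)).eq
  have hsqQ : ∀ x (hx : x ∈ Subgroup.closure S), π ⟨x, hx⟩ * π ⟨x, hx⟩ = 1 := by
    intro x hx
    induction hx using Subgroup.closure_induction with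
    | mem s hs =>
      rw [← map_mul]
      rcases hsq s hs with h | h
      · have : (⟨s, Subgroup.subset_closure hs⟩ : P) * ⟨s, Subgroup.subset_closure hs⟩ = 1 :=
          Subtype.ext h
        rw [this, map_one]
      · have : (⟨s, Subgroup.subset_closure hs⟩ : P) * ⟨s, Subgroup.subset_closure hs⟩ = zP :=
          Subtype.ext h
        rw [this, hπz]
    | one =>
      have : (⟨1, Subgroup.one_mem _⟩ : P) = 1 := rfl
      rw [this, map_one, mul_one]
    | mul a b ha hb iha ihb =>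
      have : (⟨a * b, Subgroup.mul_mem _ ha hb⟩ : P) = ⟨a, ha⟩ * ⟨b, hb⟩ := rfl
      rw [this, map_mul]
      calc π ⟨a, ha⟩ * π ⟨b, hb⟩ * (π ⟨a, ha⟩ * π ⟨b, hb⟩)
          = π ⟨a, ha⟩ * (π ⟨b, hb⟩ * π ⟨a, ha⟩) * π ⟨b, hb⟩ := by group
        _ = π ⟨a, ha⟩ * (π ⟨a, ha⟩ * π ⟨b, hb⟩) * π ⟨b, hb⟩ := by rw [hcommQ b hb a ha]
        _ = (π ⟨a, ha⟩ * π ⟨a, ha⟩) * (π ⟨b, hb⟩ * π ⟨b, hb⟩) := by group
        _ = 1 := by rw [iha, ihb, one_mul]
    | inv a ha iha =>
      have : (⟨a⁻¹, Subgroup.inv_mem _ ha⟩ : P) = (⟨a, ha⟩ : P)⁻¹ := rfl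
      rw [this, map_inv, ← mul_inv_rev, iha, inv_one]
  apply Cfsg.Agent.Lib.Helper3.Symp.isExtraspecial_of (IsPGroup.of_card hcard) hZcard
  · obtain ⟨s, hs, t, ht, hst⟩ := hna
    refine ⟨⟨s, Subgroup.subset_closure hs⟩, ⟨t, Subgroup.subset_closure ht⟩, ?_⟩
    intro h
    exact hst (congrArg Subtype.val h)
  · intro a b
    rw [← QuotientGroup.eq_one_iff]
    rw [← QuotientGroup.mk'_apply, map_commutatorElement, commutatorElement_eq_one_iff_mul_comm]
    exact hcommQ a.1 a.2 b.1 b.2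
  · intro x
    rw [← QuotientGroup.eq_one_iff, sq]
    show π (x * x) = 1
    rw [map_mul]
    exact hsqQ x.1 x.2

end Cfsg.Agent.Lib.Helper9.ExtraCl
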