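import Mathlib
import Cfsg.Prelude.Def_Characters
import Cfsg.Agent.Lib.Helper1.MNDDefs
import Cfsg.Agent.Lib.Helper1.MNDE
import Cfsg.Agent.Lib.Helper6.PermChar
import Cfsg.Agent.Lib.Helper6.CharOps
import Cfsg.Agent.Lib.Helper6.GenCharOps
import Cfsg.Agent.Lib.Helper1.FrobeniusTheorem

set_option autoImplicit false
set_option linter.unusedSectionVars false
set_option linter.unusedVariables false
set_option linter.unusedSimpArgs false

/-!
Farm MND (statement S2332), unit H: existence of an irreducible representation of `SL_(m+1)(F)` of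
degree `(q^(m+1) - q)/(q - 1)`: the permutation character of the doubly transitive action on the
points of the projective space, minus the trivial character.
-/

namespace Cfsg.Agent.Lib.Helper9.MND

open Matrix Cfsg Cfsg.Agent.Lib.Lead.LS1 Cfsg.Agent.Lib.Helper1.MND Cfsg.Agent.Lib.Helper6
open scoped LinearAlgebra.Projectivization ComplexConjugate

universe u

/-- a doubly transitive action on `n ≥ 2` points gives an irreducible representation of degree
`n - 1` -/
theorem exists_irr_of_two_transitive {G : Type u} [Group G] [Fintype G] (X : Type*)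
    [MulAction G X] [Finite X] (h2 : MulAction.IsMultiplyPretransitive G X 2)
    (hX : 2 ≤ Nat.card X) :
    ∃ ρ : Representation ℂ G (Fin (Nat.card X - 1) → ℂ), ρ.IsIrreducible := by
  classical
  have hne : Nonempty X := by
    by_contra hne
    rw [not_nonempty_iff] at hne
    rw [Nat.card_of_isEmpty] at hX
    omega
  have hpre : MulAction.IsPretransitive G X :=
    MulAction.isPretransitive_of_is_two_pretransitive
  have hππ : classInner (permChar G X) (permChar G X) = 2 := by
    rw [classInner_permChar_self, (card_orbits_prod_eq_two_iff X hX).2 h2]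
    norm_num
  have hπ1 : classInner (permChar G X) (fun _ => (1 : ℂ)) = 1 := by
    rw [classInner_permChar_one]
    have : Nat.card (Quotient (MulAction.orbitRel G X)) = 1 := by
      rw [Nat.card_eq_one_iff_unique]
      refine ⟨?_, ?_⟩
      · exact (MulAction.pretransitive_iff_subsingleton_quotient G X).1 hpre
      · obtain ⟨x⟩ := hne
        exact ⟨Quotient.mk _ x⟩
    rw [this]
    norm_num
  have h1π : classInner (fun _ => (1 : ℂ)) (permChar G X) = 1 := by
    rw [← classInner_conj_symm, hπ1, map_one]
  have h11 : classInner (fun _ : G => (1 : ℂ)) (fun _ => (1 : ℂ)) = 1 := by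
    unfold classInner
    simp only [map_one, mul_one, Finset.sum_const, Finset.card_univ, nsmul_eq_mul,
      Nat.card_eq_fintype_card]
    have : (Fintype.card G : ℂ) ≠ 0 := Nat.cast_ne_zero.2 Fintype.card_ne_zero
    field_simp
  have hgen : IsGeneralizedCharacter G (permChar G X - fun _ => (1 : ℂ)) :=
    ⟨permChar G X, fun _ => 1, isCharacter_permChar X, isCharacter_one, rfl⟩
  have hnorm : classInner (permChar G X - fun _ => (1 : ℂ)) (permChar G X - fun _ => (1 : ℂ))
      = 1 := by
    rw [classInner_sub_left, classInner_sub_right, classInner_sub_right, hππ, hπ1, h1π, h11]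
    norm_num
  have hone : (permChar G X - fun _ : G => (1 : ℂ)) 1 = ((Nat.card X - 1 : ℕ) : ℂ) := by
    have hp1 : permChar G X 1 = (Nat.card X : ℂ) := by
      unfold permChar
      congr 1
      have : MulAction.fixedBy X (1 : G) = Set.univ := by
        ext x
        simp
      rw [this, Nat.card_coe_set_eq, Set.ncard_univ]
    rw [Pi.sub_apply, hp1, Nat.cast_sub (by omega), Nat.cast_one]
  obtain ⟨n, ρ, hirr, hchar⟩ :=
    Cfsg.Agent.Lib.Helper1.isIrrCharacter_of_genChar_norm_one hgen hnorm (Nat.card X - 1)
      (by omega) hone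
  have hn : n = Nat.card X - 1 := by
    have h3 := congrFun hchar 1
    rw [Representation.char_one, hone, Module.finrank_fin_fun] at h3
    exact_mod_cast h3
  subst hn
  exact ⟨ρ, hirr⟩

variable {F : Type*} [Field F] [Fintype F] [DecidableEq F] {m k : ℕ}

/-- the number of points of the projective space of `F^(m+1)` -/
theorem card_points :
    Nat.card (ℙ F ((Unit ⊕ Fin m) → F)) = sNum (Fintype.card F) (m + 1) := by
  rw [Projectivization.card'', Nat.card_eq_fintype_card, Nat.card_eq_fintype_card,
    Fintype.card_fun, Fintype.card_sum, Fintype.card_unit, Fintype.card_fin, add_comm 1 m]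
  rfl

theorem exists_min (hm : 2 ≤ m) :
    ∃ ρ : Representation ℂ (GG m F) (Fin (tauNum (Fintype.card F) m) → ℂ), ρ.IsIrreducible := by
  have hq : 2 ≤ Fintype.card F := Fintype.one_lt_card
  have hcard := card_points (F := F) (m := m)
  have h3 : 2 ≤ sNum (Fintype.card F) (m + 1) := by
    have h1 := sNum_mono (Fintype.card F) hq (show 2 ≤ m + 1 by omega)
    rw [sNum_two _ hq] at h1
    omega
  have htau : tauNum (Fintype.card F) m = Nat.card (ℙ F ((Unit ⊕ Fin m) → F)) - 1 := by
    rw [hcard, ← tauNum_succ _ _ hq]
    omega
  rw [htau]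
  exact exists_irr_of_two_transitive (G := GG m F) (ℙ F ((Unit ⊕ Fin m) → F)) inferInstance
    (by rw [hcard]; exact h3)

end Cfsg.Agent.Lib.Helper9.MND
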