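import Mathlib
import Cfsg.Agent.Lib.Helper5.ChevRankOne
import Cfsg.Agent.Lib.Helper5.ChevTwistN
import Cfsg.Agent.Lib.Helper5.ChevWEps
import Cfsg.Agent.Lib.Helper5.ChevBN
import Cfsg.Agent.Lib.Helper6.F4EvA2

set_option autoImplicit false

/-!
# Orthogonal frames of roots in characteristic two

For a list `R` of pairwise strongly orthogonal roots the product of the `x_r(1)`, `r ∈ R`, is
conjugate (by the product of the `x_{-r}(1)`) to the product of the `n_r = x_r(1) x_{-r}(1) x_r(1)`,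
and in characteristic two `n_r = n_w` for any word `w = v s_i v⁻¹` with `r = v(p_i)`.
-/

namespace Cfsg.Agent.Lib.Helper9.InvFrame

open Cfsg Cfsg.Lie Cfsg.Agent.Lib.Helper5.ChevSym Cfsg.Agent.Lib.Helper5.ChevStruct
  Cfsg.Agent.Lib.Helper5.RankOneHom Cfsg.Agent.Lib.Helper6.F4Ev

variable {F : Type*} [Field F]

/-- `n_r = x_r(1) x_{-r}(1) x_r(1)` -/
def nR (D : ChevalleyDatum) (hD : D ∈ Seven) (r : ℕ) : GL D.Idx F :=
  xGL D hD r 1 * xGL D hD (D.neg r) 1 * xGL D hD r 1

/-- the product of the `x_r(1)` -/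
def fprod (D : ChevalleyDatum) (hD : D ∈ Seven) (R : List ℕ) : GL D.Idx F :=
  (R.map fun r => (xGL D hD r 1 : GL D.Idx F)).prod

/-- the product of the `x_{-r}(1)` -/
def gprod (D : ChevalleyDatum) (hD : D ∈ Seven) (R : List ℕ) : GL D.Idx F :=
  (R.map fun r => (xGL D hD (D.neg r) 1 : GL D.Idx F)).prod

/-- the product of the `n_r` -/
def nprod (D : ChevalleyDatum) (hD : D ∈ Seven) (R : List ℕ) : GL D.Idx F :=
  (R.map fun r => (nR D hD r : GL D.Idx F)).prod

/-- strongly orthogonal roots: the four pairs of root subgroups commute -/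
def sOrth (D : ChevalleyDatum) (r s : ℕ) : Bool :=
  commOK D r s && commOK D r (D.neg s) && commOK D (D.neg r) s && commOK D (D.neg r) (D.neg s)

/-- a frame: roots, pairwise strongly orthogonal -/
def frameOK (D : ChevalleyDatum) : List ℕ → Bool
  | [] => true
  | r :: R => Nat.blt r D.nroots && R.all (fun s => sOrth D r s) && frameOK D R

theorem fprod_nil (D : ChevalleyDatum) (hD : D ∈ Seven) : (fprod D hD [] : GL D.Idx F) = 1 := rfl

theorem fprod_cons (D : ChevalleyDatum) (hD : D ∈ Seven) (r : ℕ) (R : List ℕ) :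
    (fprod D hD (r :: R) : GL D.Idx F) = xGL D hD r 1 * fprod D hD R := by
  simp [fprod]

theorem gprod_cons (D : ChevalleyDatum) (hD : D ∈ Seven) (r : ℕ) (R : List ℕ) :
    (gprod D hD (r :: R) : GL D.Idx F) = xGL D hD (D.neg r) 1 * gprod D hD R := by
  simp [gprod]

theorem nprod_cons (D : ChevalleyDatum) (hD : D ∈ Seven) (r : ℕ) (R : List ℕ) :
    (nprod D hD (r :: R) : GL D.Idx F) = nR D hD r * nprod D hD R := by
  simp [nprod]

theorem fprod_mem_group (D : ChevalleyDatum) (hD : D ∈ Seven) (R : List ℕ) :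
    (fprod D hD R : GL D.Idx F) ∈ D.group F := by
  unfold fprod
  apply Subgroup.list_prod_mem
  intro g hg
  rw [List.mem_map] at hg
  obtain ⟨r, -, rfl⟩ := hg
  exact xGL_mem_group D hD r 1

theorem gprod_mem_group (D : ChevalleyDatum) (hD : D ∈ Seven) (R : List ℕ) :
    (gprod D hD R : GL D.Idx F) ∈ D.group F := by
  unfold gprod
  apply Subgroup.list_prod_mem
  intro g hg
  rw [List.mem_map] at hg
  obtain ⟨r, -, rfl⟩ := hg
  exact xGL_mem_group D hD _ 1

theorem uu_val (t : F) : (uu t).1 = !![1, t; 0, 1] := rfl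

theorem ll_val (t : F) : (ll t).1 = !![1, 0; t, 1] := rfl

/-- the relation of `SL₂` in characteristic two -/
theorem sl2_char2 [CharP F 2] :
    (ll (1 : F)) * uu 1 * (ll 1)⁻¹ = uu 1 * ll 1 * uu 1 := by
  rw [mul_inv_eq_iff_eq_mul]
  have h2 : (2 : F) = 0 := CharTwo.two_eq_zero
  apply Subtype.ext
  rw [Matrix.SpecialLinearGroup.coe_mul, Matrix.SpecialLinearGroup.coe_mul,
    Matrix.SpecialLinearGroup.coe_mul, Matrix.SpecialLinearGroup.coe_mul]
  show (ll (1 : F)).1 * (uu 1).1 = (uu 1).1 * (ll 1).1 * (uu 1).1 * (ll 1).1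
  rw [uu_val, ll_val]
  ext i j
  fin_cases i <;> fin_cases j <;> simp [Matrix.mul_apply, Fin.sum_univ_two] <;>
    first | linear_combination (-2 : F) * h2 | linear_combination (-1 : F) * h2 | linear_combination (1 : F) * h2 | linear_combination (2 : F) * h2

/-- `x_{-r}(1) x_r(1) x_{-r}(1)⁻¹ = n_r` in characteristic two -/
theorem conj_x_eq_nR [CharP F 2] (D : ChevalleyDatum) (hD : D ∈ Seven) (r : ℕ)
    (hr : r < D.nroots) :
    (xGL D hD (D.neg r) 1 * xGL D hD r 1 * (xGL D hD (D.neg r) 1)⁻¹ : GL D.Idx F) = nR D hD r := by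
  obtain ⟨-, φ, h1, h2⟩ := exists_sl2_hom (F := F) D hD r hr
  have := congrArg φ (sl2_char2 (F := F))
  rw [map_mul, map_mul, map_inv, map_mul, map_mul, h1, h2] at this
  exact this

theorem fuse_step {G : Type*} [Group G] (a b g P N n : G) (hn : b * a * b⁻¹ = n)
    (ih : g * P * g⁻¹ = N) (c2 : Commute a g) (c3 : Commute b N) :
    (b * g) * (a * P) * (b * g)⁻¹ = n * N := by
  calc (b * g) * (a * P) * (b * g)⁻¹ = b * (g * a) * P * g⁻¹ * b⁻¹ := by group
    _ = b * (a * g) * P * g⁻¹ * b⁻¹ := by rw [c2.eq]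
    _ = b * a * (g * P * g⁻¹) * b⁻¹ := by group
    _ = b * a * N * b⁻¹ := by rw [ih]
    _ = b * a * (N * b⁻¹) := by group
    _ = b * a * (b⁻¹ * N) := by rw [(c3.inv_left).eq.symm]
    _ = n * N := by rw [← hn]; group

section char2

variable [CharP F 2]

theorem commute_of_sOrth (D : ChevalleyDatum) (hD : D ∈ Seven) (r s : ℕ)
    (h : sOrth D r s = true) (t u : F) :
    Commute (xGL D hD r t) (xGL D hD s u) ∧ Commute (xGL D hD r t) (xGL D hD (D.neg s) u) ∧
    Commute (xGL D hD (D.neg r) t) (xGL D hD s u) ∧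
    Commute (xGL D hD (D.neg r) t) (xGL D hD (D.neg s) u) := by
  unfold sOrth at h
  simp only [Bool.and_eq_true] at h
  obtain ⟨⟨⟨h1, h2⟩, h3⟩, h4⟩ := h
  exact ⟨xGL_commute D hD _ _ h1 t u, xGL_commute D hD _ _ h2 t u, xGL_commute D hD _ _ h3 t u,
    xGL_commute D hD _ _ h4 t u⟩

theorem commute_nR (D : ChevalleyDatum) (hD : D ∈ Seven) (r s : ℕ)
    (h : sOrth D r s = true) (t : F) :
    Commute (xGL D hD (D.neg r) t) (nR D hD s) := by
  obtain ⟨-, -, h3, h4⟩ := commute_of_sOrth D hD r s h t (1 : F)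
  unfold nR
  exact (h3.mul_right h4).mul_right h3

/-- **the fusion of a frame**: the product of the `x_{-r}(1)` conjugates the product of the
`x_r(1)` to the product of the `n_r` -/
theorem frame_fuse (D : ChevalleyDatum) (hD : D ∈ Seven) (R : List ℕ)
    (hR : frameOK D R = true) :
    (gprod D hD R * fprod D hD R * (gprod D hD R)⁻¹ : GL D.Idx F) = nprod D hD R := by
  induction R with
  | nil => simp [gprod, fprod, nprod]
  | cons r R ih =>
    unfold frameOK at hR
    simp only [Bool.and_eq_true, List.all_eq_true, Nat.blt_eq] at hR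
    obtain ⟨⟨hr, hall⟩, hR'⟩ := hR
    have ih' := ih hR'
    rw [gprod_cons, fprod_cons, nprod_cons]
    have c2 : Commute (xGL D hD r (1 : F)) (gprod D hD R) := by
      unfold gprod
      apply Commute.list_prod_right
      intro g hg
      rw [List.mem_map] at hg
      obtain ⟨s, hs, rfl⟩ := hg
      exact (commute_of_sOrth D hD r s (hall s hs) 1 1).2.1
    have c3 : Commute (xGL D hD (D.neg r) (1 : F)) (nprod D hD R) := by
      unfold nprod
      apply Commute.list_prod_right
      intro g hg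
      rw [List.mem_map] at hg
      obtain ⟨s, hs, rfl⟩ := hg
      exact commute_nR D hD r s (hall s hs) 1
    exact fuse_step _ _ _ _ _ _ (conj_x_eq_nR D hD r hr) ih' c2 c3

/-- the product of a frame is conjugate in the group to the product of the `n_r` -/
theorem conjG_frame (D : ChevalleyDatum) (hD : D ∈ Seven) (R : List ℕ)
    (hR : frameOK D R = true) :
    ConjG D (fprod D hD R : GL D.Idx F) (nprod D hD R) :=
  ⟨gprod D hD R, gprod_mem_group D hD R, frame_fuse D hD R hR⟩

end char2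

end Cfsg.Agent.Lib.Helper9.InvFrame
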