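import Mathlib
import Cfsg.Agent.Lib.Helper9.InvFrameA

set_option autoImplicit false

/-!
# Orthogonal frames, continued: `n_r` as `n_w`, and the conjugacy of `∏ x_r(1)` with `n_w`
-/

namespace Cfsg.Agent.Lib.Helper9.InvFrame

open Cfsg Cfsg.Lie Cfsg.Agent.Lib.Helper5.ChevSym Cfsg.Agent.Lib.Helper5.ChevStruct
  Cfsg.Agent.Lib.Helper6.F4Ev

variable {F : Type*} [Field F]

theorem conjG_refl (D : ChevalleyDatum) (t : GL D.Idx F) : ConjG D t t :=
  ⟨1, one_mem _, by group⟩

theorem conjG_symm {D : ChevalleyDatum} {t x : GL D.Idx F} (h : ConjG D t x) : ConjG D x t := by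
  obtain ⟨g, hg, e⟩ := h
  exact ⟨g⁻¹, inv_mem hg, by rw [← e]; group⟩

theorem conjG_trans {D : ChevalleyDatum} {t x y : GL D.Idx F} (h1 : ConjG D t x)
    (h2 : ConjG D x y) : ConjG D t y := by
  obtain ⟨g, hg, e⟩ := h1
  obtain ⟨k, hk, e'⟩ := h2
  exact ⟨k * g, mul_mem hk hg, by rw [← e', ← e]; group⟩

theorem conjG_of_eq {D : ChevalleyDatum} {t x : GL D.Idx F} (h : t = x) : ConjG D t x :=
  h ▸ conjG_refl D t

theorem sq_step {G : Type*} [Group G] (a P : G) (c : Commute a P) (ha : a * a = 1)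
    (hP : P * P = 1) : (a * P) * (a * P) = 1 := by
  calc a * P * (a * P) = a * (P * a) * P := by group
    _ = a * (a * P) * P := by rw [c.eq]
    _ = (a * a) * (P * P) := by group
    _ = 1 := by rw [ha, hP, one_mul]

section char2

variable [CharP F 2]

theorem cast_wEps (D : ChevalleyDatum) (hD : D ∈ Seven) (v : List ℕ) (hv : Wd D v) (r : ℕ)
    (hr : r < D.nroots) : ((wEps D v r : ℤ) : F) = 1 := by
  rcases wEps_sq D hD v hv r hr with h | h
  · rw [h]; simp
  · rw [h]; simp [CharTwo.neg_eq]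

/-- conjugation of `x_r(t)` by `n_v` in characteristic two: no sign -/
theorem wGL_conj_char2 (D : ChevalleyDatum) (hD : D ∈ Seven) (v : List ℕ) (hv : Wd D v) (r : ℕ)
    (hr : r < D.nroots) (t : F) :
    (wGL D hD v * xGL D hD r t * (wGL D hD v)⁻¹ : GL D.Idx F) = xGL D hD (wAct D v r) t := by
  rw [wGL_conj_eps D hD v hv r hr t, cast_wEps D hD v hv r hr, one_mul]

theorem nGL_eq_nR (D : ChevalleyDatum) (hD : D ∈ Seven) (i : ℕ) :
    (nGL D hD i : GL D.Idx F) = nR D hD (D.simple i) := by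
  unfold nGL nR wordGL ChevalleyDatum.nWord
  simp [CharTwo.neg_eq, mul_assoc]

theorem conj_nR (D : ChevalleyDatum) (hD : D ∈ Seven) (v : List ℕ) (hv : Wd D v) (r : ℕ)
    (hr : r < D.nroots) :
    (wGL D hD v * nR D hD r * (wGL D hD v)⁻¹ : GL D.Idx F) = nR D hD (wAct D v r) := by
  have hn := (neg_lt D hD r hr).1
  unfold nR
  rw [← wGL_conj_char2 D hD v hv r hr, ← wAct_neg D hD v hv r hr,
    ← wGL_conj_char2 D hD v hv _ hn]
  group

/-- `n_r = n_w` for `w = v s_i v⁻¹`, `r = v(p_i)` -/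
theorem wGL_eq_nR (D : ChevalleyDatum) (hD : D ∈ Seven) (v : List ℕ) (hv : Wd D v) (i : ℕ)
    (hi : i < D.rank) :
    (wGL D hD (v ++ [i] ++ v.reverse) : GL D.Idx F) = nR D hD (wAct D v (D.simple i)) := by
  rw [wGL_append, wGL_append, wGL_cons, wGL_nil, mul_one, ← wGL_reverse_char2 D hD v hv,
    nGL_eq_nR, conj_nR D hD v hv _ (simple_lt D hD i hi)]

/-- the roots of a list of pairs `(v, i)` : `v(p_i)` -/
def fwRoots (D : ChevalleyDatum) (fw : List (List ℕ × ℕ)) : List ℕ :=
  fw.map fun p => wAct D p.1 (D.simple p.2)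

/-- the word `∏ v s_i v⁻¹` -/
def fwWord (fw : List (List ℕ × ℕ)) : List ℕ :=
  (fw.map fun p => p.1 ++ [p.2] ++ p.1.reverse).flatten

def fwOK (D : ChevalleyDatum) (fw : List (List ℕ × ℕ)) : Bool :=
  fw.all fun p => p.1.all (fun j => Nat.blt j D.rank) && Nat.blt p.2 D.rank

theorem fwOK_cons (D : ChevalleyDatum) (p : List ℕ × ℕ) (fw : List (List ℕ × ℕ))
    (h : fwOK D (p :: fw) = true) : Wd D p.1 ∧ p.2 < D.rank ∧ fwOK D fw = true := by
  unfold fwOK at h
  rw [List.all_cons, Bool.and_eq_true, Bool.and_eq_true, List.all_eq_true] at h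
  refine ⟨fun j hj => ?_, ?_, h.2⟩
  · have := h.1.1 j hj
    rwa [Nat.blt_eq] at this
  · have := h.1.2
    rwa [Nat.blt_eq] at this

theorem fwWord_wd (D : ChevalleyDatum) (fw : List (List ℕ × ℕ)) (h : fwOK D fw = true) :
    Wd D (fwWord fw) := by
  induction fw with
  | nil => exact Wd.nil D
  | cons p fw ih =>
    obtain ⟨h1, h2, h3⟩ := fwOK_cons D p fw h
    have : fwWord (p :: fw) = (p.1 ++ [p.2] ++ p.1.reverse) ++ fwWord fw := by
      simp [fwWord]
    rw [this]
    exact ((h1.append (Wd.single h2)).append h1.reverse).append (ih h3)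

theorem nprod_eq_wGL (D : ChevalleyDatum) (hD : D ∈ Seven) (fw : List (List ℕ × ℕ))
    (h : fwOK D fw = true) :
    (nprod D hD (fwRoots D fw) : GL D.Idx F) = wGL D hD (fwWord fw) := by
  induction fw with
  | nil => simp [nprod, fwRoots, fwWord, wGL_nil]
  | cons p fw ih =>
    obtain ⟨h1, h2, h3⟩ := fwOK_cons D p fw h
    have e1 : fwWord (p :: fw) = (p.1 ++ [p.2] ++ p.1.reverse) ++ fwWord fw := by
      simp [fwWord]
    have e2 : fwRoots D (p :: fw) = wAct D p.1 (D.simple p.2) :: fwRoots D fw := by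
      simp [fwRoots]
    rw [e1, e2, nprod_cons, wGL_append, ih h3, wGL_eq_nR D hD p.1 h1 p.2 h2]

/-- **a frame is conjugate to `n_w`**, `w` any word acting like the product of the reflections
of the frame -/
theorem conjG_fw (D : ChevalleyDatum) (hD : D ∈ Seven) (fw : List (List ℕ × ℕ))
    (h1 : fwOK D fw = true) (h2 : frameOK D (fwRoots D fw) = true) (w : List ℕ) (hw : Wd D w)
    (hact : ∀ r < D.nroots, wAct D w r = wAct D (fwWord fw) r) :
    ConjG D (fprod D hD (fwRoots D fw) : GL D.Idx F) (wGL D hD w) := by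
  have h3 := conjG_frame (F := F) D hD (fwRoots D fw) h2
  rw [nprod_eq_wGL D hD fw h1,
    ← A1h_wGL_congr D hD w (fwWord fw) hw (fwWord_wd D fw h1) hact] at h3
  exact h3

/-- the square of a frame product is `1` -/
theorem fprod_sq (D : ChevalleyDatum) (hD : D ∈ Seven) (R : List ℕ)
    (hR : frameOK D R = true) :
    (fprod D hD R * fprod D hD R : GL D.Idx F) = 1 := by
  induction R with
  | nil => simp [fprod]
  | cons r R ih =>
    unfold frameOK at hR
    simp only [Bool.and_eq_true, List.all_eq_true, Nat.blt_eq] at hR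
    obtain ⟨⟨hr, hall⟩, hR'⟩ := hR
    have c1 : Commute (xGL D hD r (1 : F)) (fprod D hD R) := by
      unfold fprod
      apply Commute.list_prod_right
      intro g hg
      rw [List.mem_map] at hg
      obtain ⟨s, hs, rfl⟩ := hg
      exact (commute_of_sOrth D hD r s (hall s hs) 1 1).1
    have hx : (xGL D hD r (1 : F) * xGL D hD r 1 : GL D.Idx F) = 1 := by
      apply Units.ext
      rw [Units.val_mul, xGL_val, Units.val_one, x_add D hD, CharTwo.add_self_eq_zero, x_at_zero]
    rw [fprod_cons]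
    exact sq_step _ _ c1 hx (ih hR')

end char2

end Cfsg.Agent.Lib.Helper9.InvFrame
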