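import Mathlib
import Cfsg.Prelude.Def_ChevStructure
import Cfsg.Prelude.Def_LieChev
import Cfsg.Agent.Lib.Helper5.ChevChk.W0All
import Cfsg.Agent.Lib.Helper9.InvFrameB

set_option autoImplicit false

/-!
# Farm E7EV (S2181): the five classes of involutions of `E₇(q)`, `q` even — definitions and data

Roots of `chevE7`: simple `i ↦ [93, 78, 73, 69, 66, 64, 63]`, `neg r = 125 - r`.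
The frame `125, 92, 87, 73, 78, 66, 63` consists of seven pairwise orthogonal roots.
-/

namespace Cfsg.Agent.Lib.Helper9.E7Ev

open Cfsg Cfsg.Lie Cfsg.Agent.Lib.Helper5.ChevSym Cfsg.Agent.Lib.Helper5.ChevStruct
  Cfsg.Agent.Lib.Helper9.InvFrame

theorem memE7v : chevE7 ∈ Seven := by simp [Seven]

/-- the longest element of `W(E₇)` (the word of `chkW0_E7`) -/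
def w0E7 : List ℕ :=
  [0, 1, 2, 0, 3, 1, 2, 0, 3, 2, 4, 3, 1, 2, 0, 3, 2, 4, 3, 1, 5, 4, 3, 1, 2, 0, 3, 2, 4, 3, 1,
   5, 4, 3, 2, 0, 6, 5, 4, 3, 1, 2, 0, 3, 2, 4, 3, 1, 5, 4, 3, 2, 0, 6, 5, 4, 3, 1, 2, 3, 4, 5, 6]

theorem chkW0_w0E7 : checkW0 chevE7 w0E7 = true := chkW0_E7

/-- the 128 subsets `I` of the diagram with a word of the longest element of `W_I` -/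
def liE7 : List (List ℕ × List ℕ) :=
  [([], []), ([0], [0]), ([1], [1]), ([2], [2]), ([3], [3]), ([4], [4]), ([5], [5]), ([6], [6]),
   ([0, 1], [0, 1]), ([0, 2], [0, 2, 0]), ([0, 3], [0, 3]), ([0, 4], [0, 4]), ([0, 5], [0, 5]),
   ([0, 6], [0, 6]), ([1, 2], [1, 2]), ([1, 3], [1, 3, 1]), ([1, 4], [1, 4]), ([1, 5], [1, 5]),
   ([1, 6], [1, 6]), ([2, 3], [2, 3, 2]), ([2, 4], [2, 4]), ([2, 5], [2, 5]), ([2, 6], [2, 6]),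
   ([3, 4], [3, 4, 3]), ([3, 5], [3, 5]), ([3, 6], [3, 6]), ([4, 5], [4, 5, 4]),
   ([4, 6], [4, 6]), ([5, 6], [5, 6, 5]), ([0, 1, 2], [0, 1, 2, 0]), ([0, 1, 3], [0, 1, 3, 1]),
   ([0, 1, 4], [0, 1, 4]), ([0, 1, 5], [0, 1, 5]), ([0, 1, 6], [0, 1, 6]),
   ([0, 2, 3], [0, 2, 0, 3, 2, 0]), ([0, 2, 4], [0, 2, 0, 4]), ([0, 2, 5], [0, 2, 0, 5]),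
   ([0, 2, 6], [0, 2, 0, 6]), ([0, 3, 4], [0, 3, 4, 3]), ([0, 3, 5], [0, 3, 5]),
   ([0, 3, 6], [0, 3, 6]), ([0, 4, 5], [0, 4, 5, 4]), ([0, 4, 6], [0, 4, 6]),
   ([0, 5, 6], [0, 5, 6, 5]), ([1, 2, 3], [1, 2, 3, 1, 2, 3]), ([1, 2, 4], [1, 2, 4]),
   ([1, 2, 5], [1, 2, 5]), ([1, 2, 6], [1, 2, 6]), ([1, 3, 4], [1, 3, 1, 4, 3, 1]),
   ([1, 3, 5], [1, 3, 1, 5]), ([1, 3, 6], [1, 3, 1, 6]), ([1, 4, 5], [1, 4, 5, 4]),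
   ([1, 4, 6], [1, 4, 6]), ([1, 5, 6], [1, 5, 6, 5]), ([2, 3, 4], [2, 3, 2, 4, 3, 2]),
   ([2, 3, 5], [2, 3, 2, 5]), ([2, 3, 6], [2, 3, 2, 6]), ([2, 4, 5], [2, 4, 5, 4]),
   ([2, 4, 6], [2, 4, 6]), ([2, 5, 6], [2, 5, 6, 5]), ([3, 4, 5], [3, 4, 3, 5, 4, 3]),
   ([3, 4, 6], [3, 4, 3, 6]), ([3, 5, 6], [3, 5, 6, 5]), ([4, 5, 6], [4, 5, 4, 6, 5, 4]),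
   ([0, 1, 2, 3], [0, 1, 2, 0, 3, 1, 2, 0, 3, 2]), ([0, 1, 2, 4], [0, 1, 2, 0, 4]),
   ([0, 1, 2, 5], [0, 1, 2, 0, 5]), ([0, 1, 2, 6], [0, 1, 2, 0, 6]),
   ([0, 1, 3, 4], [0, 1, 3, 1, 4, 3, 1]), ([0, 1, 3, 5], [0, 1, 3, 1, 5]),
   ([0, 1, 3, 6], [0, 1, 3, 1, 6]), ([0, 1, 4, 5], [0, 1, 4, 5, 4]),
   ([0, 1, 4, 6], [0, 1, 4, 6]), ([0, 1, 5, 6], [0, 1, 5, 6, 5]),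
   ([0, 2, 3, 4], [0, 2, 0, 3, 2, 0, 4, 3, 2, 0]), ([0, 2, 3, 5], [0, 2, 0, 3, 2, 0, 5]),
   ([0, 2, 3, 6], [0, 2, 0, 3, 2, 0, 6]), ([0, 2, 4, 5], [0, 2, 0, 4, 5, 4]),
   ([0, 2, 4, 6], [0, 2, 0, 4, 6]), ([0, 2, 5, 6], [0, 2, 0, 5, 6, 5]),
   ([0, 3, 4, 5], [0, 3, 4, 3, 5, 4, 3]), ([0, 3, 4, 6], [0, 3, 4, 3, 6]),
   ([0, 3, 5, 6], [0, 3, 5, 6, 5]), ([0, 4, 5, 6], [0, 4, 5, 4, 6, 5, 4]),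
   ([1, 2, 3, 4], [1, 2, 3, 1, 2, 3, 4, 3, 1, 2, 3, 4]), ([1, 2, 3, 5], [1, 2, 3, 1, 2, 3, 5]),
   ([1, 2, 3, 6], [1, 2, 3, 1, 2, 3, 6]), ([1, 2, 4, 5], [1, 2, 4, 5, 4]),
   ([1, 2, 4, 6], [1, 2, 4, 6]), ([1, 2, 5, 6], [1, 2, 5, 6, 5]),
   ([1, 3, 4, 5], [1, 3, 1, 4, 3, 1, 5, 4, 3, 1]), ([1, 3, 4, 6], [1, 3, 1, 4, 3, 1, 6]),
   ([1, 3, 5, 6], [1, 3, 1, 5, 6, 5]), ([1, 4, 5, 6], [1, 4, 5, 4, 6, 5, 4]),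
   ([2, 3, 4, 5], [2, 3, 2, 4, 3, 2, 5, 4, 3, 2]), ([2, 3, 4, 6], [2, 3, 2, 4, 3, 2, 6]),
   ([2, 3, 5, 6], [2, 3, 2, 5, 6, 5]), ([2, 4, 5, 6], [2, 4, 5, 4, 6, 5, 4]),
   ([3, 4, 5, 6], [3, 4, 3, 5, 4, 3, 6, 5, 4, 3]),
   ([0, 1, 2, 3, 4], [0, 1, 2, 0, 3, 1, 2, 0, 3, 2, 4, 3, 1, 2, 0, 3, 2, 4, 3, 1]),
   ([0, 1, 2, 3, 5], [0, 1, 2, 0, 3, 1, 2, 0, 3, 2, 5]),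
   ([0, 1, 2, 3, 6], [0, 1, 2, 0, 3, 1, 2, 0, 3, 2, 6]),
   ([0, 1, 2, 4, 5], [0, 1, 2, 0, 4, 5, 4]), ([0, 1, 2, 4, 6], [0, 1, 2, 0, 4, 6]),
   ([0, 1, 2, 5, 6], [0, 1, 2, 0, 5, 6, 5]),
   ([0, 1, 3, 4, 5], [0, 1, 3, 1, 4, 3, 1, 5, 4, 3, 1]),
   ([0, 1, 3, 4, 6], [0, 1, 3, 1, 4, 3, 1, 6]), ([0, 1, 3, 5, 6], [0, 1, 3, 1, 5, 6, 5]),
   ([0, 1, 4, 5, 6], [0, 1, 4, 5, 4, 6, 5, 4]),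
   ([0, 2, 3, 4, 5], [0, 2, 0, 3, 2, 0, 4, 3, 2, 0, 5, 4, 3, 2, 0]),
   ([0, 2, 3, 4, 6], [0, 2, 0, 3, 2, 0, 4, 3, 2, 0, 6]),
   ([0, 2, 3, 5, 6], [0, 2, 0, 3, 2, 0, 5, 6, 5]),
   ([0, 2, 4, 5, 6], [0, 2, 0, 4, 5, 4, 6, 5, 4]),
   ([0, 3, 4, 5, 6], [0, 3, 4, 3, 5, 4, 3, 6, 5, 4, 3]),
   ([1, 2, 3, 4, 5], [1, 2, 3, 1, 2, 3, 4, 3, 1, 2, 3, 4, 5, 4, 3, 1, 2, 3, 4, 5]),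
   ([1, 2, 3, 4, 6], [1, 2, 3, 1, 2, 3, 4, 3, 1, 2, 3, 4, 6]),
   ([1, 2, 3, 5, 6], [1, 2, 3, 1, 2, 3, 5, 6, 5]), ([1, 2, 4, 5, 6], [1, 2, 4, 5, 4, 6, 5, 4]),
   ([1, 3, 4, 5, 6], [1, 3, 1, 4, 3, 1, 5, 4, 3, 1, 6, 5, 4, 3, 1]),
   ([2, 3, 4, 5, 6], [2, 3, 2, 4, 3, 2, 5, 4, 3, 2, 6, 5, 4, 3, 2]),
   ([0, 1, 2, 3, 4, 5], [0, 1, 2, 0, 3, 1, 2, 0, 3, 2, 4, 3, 1, 2, 0, 3, 2, 4, 3, 1, 5, 4, 3, 1, 2, 0, 3, 2, 4, 3, 1, 5, 4, 3, 2, 0]),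
   ([0, 1, 2, 3, 4, 6], [0, 1, 2, 0, 3, 1, 2, 0, 3, 2, 4, 3, 1, 2, 0, 3, 2, 4, 3, 1, 6]),
   ([0, 1, 2, 3, 5, 6], [0, 1, 2, 0, 3, 1, 2, 0, 3, 2, 5, 6, 5]),
   ([0, 1, 2, 4, 5, 6], [0, 1, 2, 0, 4, 5, 4, 6, 5, 4]),
   ([0, 1, 3, 4, 5, 6], [0, 1, 3, 1, 4, 3, 1, 5, 4, 3, 1, 6, 5, 4, 3, 1]),
   ([0, 2, 3, 4, 5, 6], [0, 2, 0, 3, 2, 0, 4, 3, 2, 0, 5, 4, 3, 2, 0, 6, 5, 4, 3, 2, 0]),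
   ([1, 2, 3, 4, 5, 6], [1, 2, 3, 1, 2, 3, 4, 3, 1, 2, 3, 4, 5, 4, 3, 1, 2, 3, 4, 5, 6, 5, 4, 3, 1, 2, 3, 4, 5, 6]),
   ([0, 1, 2, 3, 4, 5, 6], [0, 1, 2, 0, 3, 1, 2, 0, 3, 2, 4, 3, 1, 2, 0, 3, 2, 4, 3, 1, 5, 4, 3, 1, 2, 0, 3, 2, 4, 3, 1, 5, 4, 3, 2, 0, 6, 5, 4, 3, 1, 2, 0, 3, 2, 4, 3, 1, 5, 4, 3, 2, 0, 6, 5, 4, 3, 1, 2, 3, 4, 5, 6])]

/-- reduced words of the 40 involutive local maxima `w₀ w_I` of `W(E₇)` (the last one is the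
identity) -/
def lmE7 : List (List ℕ) :=
  [[0, 1, 2, 0, 3, 1, 2, 0, 3, 2, 4, 3, 1, 2, 0, 3, 2, 4, 3, 1, 5, 4, 3, 1, 2, 0, 3, 2, 4, 3, 1, 5, 4, 3, 2, 0, 6, 5, 4, 3, 1, 2, 0, 3, 2, 4, 3, 1, 5, 4, 3, 2, 0, 6, 5, 4, 3, 1, 2, 3, 4, 5, 6],
   [1, 2, 0, 3, 1, 2, 0, 3, 2, 4, 3, 1, 2, 0, 3, 2, 4, 3, 1, 5, 4, 3, 1, 2, 0, 3, 2, 4, 3, 1, 5, 4, 3, 2, 0, 6, 5, 4, 3, 1, 2, 0, 3, 2, 4, 3, 1, 5, 4, 3, 2, 0, 6, 5, 4, 3, 1, 2, 3, 4, 5, 6],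
   [0, 2, 0, 3, 1, 2, 0, 3, 2, 4, 3, 1, 2, 0, 3, 2, 4, 3, 1, 5, 4, 3, 1, 2, 0, 3, 2, 4, 3, 1, 5, 4, 3, 2, 0, 6, 5, 4, 3, 1, 2, 0, 3, 2, 4, 3, 1, 5, 4, 3, 2, 0, 6, 5, 4, 3, 1, 2, 3, 4, 5, 6],
   [0, 1, 2, 3, 1, 2, 0, 3, 2, 4, 3, 1, 2, 0, 3, 2, 4, 3, 1, 5, 4, 3, 1, 2, 0, 3, 2, 4, 3, 1, 5, 4, 3, 2, 0, 6, 5, 4, 3, 1, 2, 0, 3, 2, 4, 3, 1, 5, 4, 3, 2, 0, 6, 5, 4, 3, 1, 2, 3, 4, 5, 6],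
   [0, 1, 2, 0, 3, 1, 2, 0, 3, 4, 3, 1, 2, 0, 3, 2, 4, 3, 1, 5, 4, 3, 1, 2, 0, 3, 2, 4, 3, 1, 5, 4, 3, 2, 0, 6, 5, 4, 3, 1, 2, 0, 3, 2, 4, 3, 1, 5, 4, 3, 2, 0, 6, 5, 4, 3, 1, 2, 3, 4, 5, 6],
   [0, 1, 2, 0, 3, 1, 2, 0, 3, 2, 4, 3, 1, 2, 0, 3, 2, 4, 3, 5, 4, 3, 1, 2, 0, 3, 2, 4, 3, 1, 5, 4, 3, 2, 0, 6, 5, 4, 3, 1, 2, 0, 3, 2, 4, 3, 1, 5, 4, 3, 2, 0, 6, 5, 4, 3, 1, 2, 3, 4, 5, 6],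
   [0, 1, 2, 0, 3, 1, 2, 0, 3, 2, 4, 3, 1, 2, 0, 3, 2, 4, 3, 1, 5, 4, 3, 1, 2, 0, 3, 2, 4, 3, 1, 5, 4, 3, 2, 6, 5, 4, 3, 1, 2, 0, 3, 2, 4, 3, 1, 5, 4, 3, 2, 0, 6, 5, 4, 3, 1, 2, 3, 4, 5, 6],
   [0, 1, 2, 0, 3, 1, 2, 0, 3, 2, 4, 3, 1, 2, 0, 3, 2, 4, 3, 1, 5, 4, 3, 1, 2, 0, 3, 2, 4, 3, 1, 5, 4, 3, 2, 0, 6, 5, 4, 3, 1, 2, 0, 3, 2, 4, 3, 1, 5, 4, 3, 2, 0, 6, 5, 4, 3, 1, 2, 3, 4, 5],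
   [2, 0, 3, 1, 2, 0, 3, 2, 4, 3, 1, 2, 0, 3, 2, 4, 3, 1, 5, 4, 3, 1, 2, 0, 3, 2, 4, 3, 1, 5, 4, 3, 2, 0, 6, 5, 4, 3, 1, 2, 0, 3, 2, 4, 3, 1, 5, 4, 3, 2, 0, 6, 5, 4, 3, 1, 2, 3, 4, 5, 6],
   [1, 2, 0, 3, 1, 2, 0, 3, 4, 3, 1, 2, 0, 3, 2, 4, 3, 1, 5, 4, 3, 1, 2, 0, 3, 2, 4, 3, 1, 5, 4, 3, 2, 0, 6, 5, 4, 3, 1, 2, 0, 3, 2, 4, 3, 1, 5, 4, 3, 2, 0, 6, 5, 4, 3, 1, 2, 3, 4, 5, 6],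
   [1, 2, 0, 3, 1, 2, 0, 3, 2, 4, 3, 1, 2, 0, 3, 2, 4, 3, 5, 4, 3, 1, 2, 0, 3, 2, 4, 3, 1, 5, 4, 3, 2, 0, 6, 5, 4, 3, 1, 2, 0, 3, 2, 4, 3, 1, 5, 4, 3, 2, 0, 6, 5, 4, 3, 1, 2, 3, 4, 5, 6],
   [1, 2, 0, 3, 1, 2, 0, 3, 2, 4, 3, 1, 2, 0, 3, 2, 4, 3, 1, 5, 4, 3, 1, 2, 0, 3, 2, 4, 3, 1, 5, 4, 3, 2, 6, 5, 4, 3, 1, 2, 0, 3, 2, 4, 3, 1, 5, 4, 3, 2, 0, 6, 5, 4, 3, 1, 2, 3, 4, 5, 6],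
   [1, 2, 0, 3, 1, 2, 0, 3, 2, 4, 3, 1, 2, 0, 3, 2, 4, 3, 1, 5, 4, 3, 1, 2, 0, 3, 2, 4, 3, 1, 5, 4, 3, 2, 0, 6, 5, 4, 3, 1, 2, 0, 3, 2, 4, 3, 1, 5, 4, 3, 2, 0, 6, 5, 4, 3, 1, 2, 3, 4, 5],
   [0, 2, 3, 1, 2, 0, 3, 2, 4, 3, 1, 2, 0, 3, 2, 4, 3, 1, 5, 4, 3, 1, 2, 0, 3, 2, 4, 3, 1, 5, 4, 3, 2, 0, 6, 5, 4, 3, 1, 2, 0, 3, 2, 4, 3, 1, 5, 4, 3, 2, 0, 6, 5, 4, 3, 1, 2, 3, 4, 5, 6],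
   [0, 2, 0, 3, 1, 2, 0, 3, 2, 4, 3, 1, 2, 0, 3, 2, 4, 3, 5, 4, 3, 1, 2, 0, 3, 2, 4, 3, 1, 5, 4, 3, 2, 0, 6, 5, 4, 3, 1, 2, 0, 3, 2, 4, 3, 1, 5, 4, 3, 2, 0, 6, 5, 4, 3, 1, 2, 3, 4, 5, 6],
   [0, 2, 0, 3, 1, 2, 0, 3, 2, 4, 3, 1, 2, 0, 3, 2, 4, 3, 1, 5, 4, 3, 1, 2, 0, 3, 2, 4, 3, 1, 5, 4, 3, 2, 6, 5, 4, 3, 1, 2, 0, 3, 2, 4, 3, 1, 5, 4, 3, 2, 0, 6, 5, 4, 3, 1, 2, 3, 4, 5, 6],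
   [0, 2, 0, 3, 1, 2, 0, 3, 2, 4, 3, 1, 2, 0, 3, 2, 4, 3, 1, 5, 4, 3, 1, 2, 0, 3, 2, 4, 3, 1, 5, 4, 3, 2, 0, 6, 5, 4, 3, 1, 2, 0, 3, 2, 4, 3, 1, 5, 4, 3, 2, 0, 6, 5, 4, 3, 1, 2, 3, 4, 5],
   [0, 1, 2, 3, 1, 2, 0, 3, 2, 4, 3, 1, 2, 0, 3, 2, 4, 3, 5, 4, 3, 1, 2, 0, 3, 2, 4, 3, 1, 5, 4, 3, 2, 0, 6, 5, 4, 3, 1, 2, 0, 3, 2, 4, 3, 1, 5, 4, 3, 2, 0, 6, 5, 4, 3, 1, 2, 3, 4, 5, 6],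
   [0, 1, 2, 3, 1, 2, 0, 3, 2, 4, 3, 1, 2, 0, 3, 2, 4, 3, 1, 5, 4, 3, 1, 2, 0, 3, 2, 4, 3, 1, 5, 4, 3, 2, 6, 5, 4, 3, 1, 2, 0, 3, 2, 4, 3, 1, 5, 4, 3, 2, 0, 6, 5, 4, 3, 1, 2, 3, 4, 5, 6],
   [0, 1, 2, 3, 1, 2, 0, 3, 2, 4, 3, 1, 2, 0, 3, 2, 4, 3, 1, 5, 4, 3, 1, 2, 0, 3, 2, 4, 3, 1, 5, 4, 3, 2, 0, 6, 5, 4, 3, 1, 2, 0, 3, 2, 4, 3, 1, 5, 4, 3, 2, 0, 6, 5, 4, 3, 1, 2, 3, 4, 5],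
   [0, 1, 2, 0, 3, 1, 2, 0, 3, 4, 3, 1, 2, 0, 3, 2, 4, 3, 1, 5, 4, 3, 1, 2, 0, 3, 2, 4, 3, 1, 5, 4, 3, 2, 6, 5, 4, 3, 1, 2, 0, 3, 2, 4, 3, 1, 5, 4, 3, 2, 0, 6, 5, 4, 3, 1, 2, 3, 4, 5, 6],
   [0, 1, 2, 0, 3, 1, 2, 0, 3, 4, 3, 1, 2, 0, 3, 2, 4, 3, 1, 5, 4, 3, 1, 2, 0, 3, 2, 4, 3, 1, 5, 4, 3, 2, 0, 6, 5, 4, 3, 1, 2, 0, 3, 2, 4, 3, 1, 5, 4, 3, 2, 0, 6, 5, 4, 3, 1, 2, 3, 4, 5],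
   [0, 1, 2, 0, 3, 1, 2, 0, 3, 2, 4, 3, 1, 2, 0, 3, 2, 4, 3, 5, 4, 3, 1, 2, 0, 3, 2, 4, 3, 1, 5, 4, 3, 2, 0, 6, 5, 4, 3, 1, 2, 0, 3, 2, 4, 3, 1, 5, 4, 3, 2, 0, 6, 5, 4, 3, 1, 2, 3, 4, 5],
   [2, 0, 3, 1, 2, 0, 3, 2, 4, 3, 1, 2, 0, 3, 2, 4, 3, 5, 4, 3, 1, 2, 0, 3, 2, 4, 3, 1, 5, 4, 3, 2, 0, 6, 5, 4, 3, 1, 2, 0, 3, 2, 4, 3, 1, 5, 4, 3, 2, 0, 6, 5, 4, 3, 1, 2, 3, 4, 5, 6],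
   [2, 0, 3, 1, 2, 0, 3, 2, 4, 3, 1, 2, 0, 3, 2, 4, 3, 1, 5, 4, 3, 1, 2, 0, 3, 2, 4, 3, 1, 5, 4, 3, 2, 6, 5, 4, 3, 1, 2, 0, 3, 2, 4, 3, 1, 5, 4, 3, 2, 0, 6, 5, 4, 3, 1, 2, 3, 4, 5, 6],
   [2, 0, 3, 1, 2, 0, 3, 2, 4, 3, 1, 2, 0, 3, 2, 4, 3, 1, 5, 4, 3, 1, 2, 0, 3, 2, 4, 3, 1, 5, 4, 3, 2, 0, 6, 5, 4, 3, 1, 2, 0, 3, 2, 4, 3, 1, 5, 4, 3, 2, 0, 6, 5, 4, 3, 1, 2, 3, 4, 5],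
   [1, 2, 0, 3, 1, 2, 0, 3, 4, 3, 1, 2, 0, 3, 2, 4, 3, 1, 5, 4, 3, 1, 2, 0, 3, 2, 4, 3, 1, 5, 4, 3, 2, 6, 5, 4, 3, 1, 2, 0, 3, 2, 4, 3, 1, 5, 4, 3, 2, 0, 6, 5, 4, 3, 1, 2, 3, 4, 5, 6],
   [1, 2, 0, 3, 1, 2, 0, 3, 4, 3, 1, 2, 0, 3, 2, 4, 3, 1, 5, 4, 3, 1, 2, 0, 3, 2, 4, 3, 1, 5, 4, 3, 2, 0, 6, 5, 4, 3, 1, 2, 0, 3, 2, 4, 3, 1, 5, 4, 3, 2, 0, 6, 5, 4, 3, 1, 2, 3, 4, 5],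
   [1, 2, 0, 3, 1, 2, 0, 3, 2, 4, 3, 1, 2, 0, 3, 2, 4, 3, 5, 4, 3, 1, 2, 0, 3, 2, 4, 3, 1, 5, 4, 3, 2, 0, 6, 5, 4, 3, 1, 2, 0, 3, 2, 4, 3, 1, 5, 4, 3, 2, 0, 6, 5, 4, 3, 1, 2, 3, 4, 5],
   [0, 2, 3, 1, 2, 0, 3, 2, 4, 3, 1, 2, 0, 3, 2, 4, 3, 5, 4, 3, 1, 2, 0, 3, 2, 4, 3, 1, 5, 4, 3, 2, 0, 6, 5, 4, 3, 1, 2, 0, 3, 2, 4, 3, 1, 5, 4, 3, 2, 0, 6, 5, 4, 3, 1, 2, 3, 4, 5, 6],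
   [0, 2, 3, 1, 2, 0, 3, 2, 4, 3, 1, 2, 0, 3, 2, 4, 3, 1, 5, 4, 3, 1, 2, 0, 3, 2, 4, 3, 1, 5, 4, 3, 2, 6, 5, 4, 3, 1, 2, 0, 3, 2, 4, 3, 1, 5, 4, 3, 2, 0, 6, 5, 4, 3, 1, 2, 3, 4, 5, 6],
   [0, 2, 3, 1, 2, 0, 3, 2, 4, 3, 1, 2, 0, 3, 2, 4, 3, 1, 5, 4, 3, 1, 2, 0, 3, 2, 4, 3, 1, 5, 4, 3, 2, 0, 6, 5, 4, 3, 1, 2, 0, 3, 2, 4, 3, 1, 5, 4, 3, 2, 0, 6, 5, 4, 3, 1, 2, 3, 4, 5],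
   [0, 2, 0, 3, 1, 2, 0, 3, 2, 4, 3, 1, 2, 0, 3, 2, 4, 3, 5, 4, 3, 1, 2, 0, 3, 2, 4, 3, 1, 5, 4, 3, 2, 0, 6, 5, 4, 3, 1, 2, 0, 3, 2, 4, 3, 1, 5, 4, 3, 2, 0, 6, 5, 4, 3, 1, 2, 3, 4, 5],
   [0, 1, 2, 3, 1, 2, 0, 3, 2, 4, 3, 1, 2, 0, 3, 2, 4, 3, 5, 4, 3, 1, 2, 0, 3, 2, 4, 3, 1, 5, 4, 3, 2, 0, 6, 5, 4, 3, 1, 2, 0, 3, 2, 4, 3, 1, 5, 4, 3, 2, 0, 6, 5, 4, 3, 1, 2, 3, 4, 5],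
   [2, 0, 3, 1, 2, 0, 3, 2, 4, 3, 1, 2, 0, 3, 2, 4, 3, 5, 4, 3, 1, 2, 0, 3, 2, 4, 3, 1, 5, 4, 3, 2, 0, 6, 5, 4, 3, 1, 2, 0, 3, 2, 4, 3, 1, 5, 4, 3, 2, 0, 6, 5, 4, 3, 1, 2, 3, 4, 5],
   [0, 2, 3, 1, 4, 3, 2, 0, 5, 4, 3, 1, 2, 0, 3, 2, 4, 3, 1, 5, 4, 3, 2, 0, 6, 5, 4, 3, 1, 2, 0, 3, 2, 4, 3, 1, 5, 4, 3, 2, 0, 6, 5, 4, 3, 1, 2, 3, 4, 5, 6],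
   [0, 2, 3, 1, 2, 0, 3, 2, 4, 3, 1, 2, 0, 3, 2, 4, 3, 5, 4, 3, 1, 2, 0, 3, 2, 4, 3, 1, 5, 4, 3, 2, 0, 6, 5, 4, 3, 1, 2, 0, 3, 2, 4, 3, 1, 5, 4, 3, 2, 0, 6, 5, 4, 3, 1, 2, 3, 4, 5],
   [0, 2, 3, 1, 4, 3, 2, 0, 5, 4, 3, 1, 2, 0, 3, 2, 4, 3, 1, 5, 4, 3, 2, 0, 6, 5, 4, 3, 1, 2, 0, 3, 2, 4, 3, 1, 5, 4, 3, 2, 0, 6, 5, 4, 3, 1, 2, 3, 4, 5],
   [0, 2, 3, 1, 4, 3, 2, 0, 5, 4, 3, 1, 2, 3, 4, 5, 6, 5, 4, 3, 1, 2, 0, 3, 2, 4, 3, 1, 5, 4, 3, 2, 0],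
   []]

/-- the nine frames: `A₁, 2A₁, 3A₁'', 3A₁', 4A₁', 4A₁'', 5A₁, 6A₁, 7A₁`, each root `r` of a frame
given as a pair `(v, i)` with `r = v(p_i)` -/
def fwE7 : List (List (List ℕ × ℕ)) :=
  [[([0, 2, 3, 4, 5, 6, 1, 3, 4, 5, 2, 3, 4, 1, 3, 2], 0)],
   [([0, 2, 3, 4, 5, 6, 1, 3, 4, 5, 2, 3, 4, 1, 3, 2], 0), ([5, 6, 4, 5, 3, 4, 2, 3], 1)],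
   [([0, 2, 3, 4, 5, 6, 1, 3, 4, 5, 2, 3, 4, 1, 3, 2], 0), ([5, 6, 4, 5, 3, 4, 2, 3], 1), ([], 6)],
   [([0, 2, 3, 4, 5, 6, 1, 3, 4, 5, 2, 3, 4, 1, 3, 2], 0), ([5, 6, 4, 5, 3, 4, 2, 3], 1), ([3, 4, 2, 3], 1)],
   [([0, 2, 3, 4, 5, 6, 1, 3, 4, 5, 2, 3, 4, 1, 3, 2], 0), ([5, 6, 4, 5, 3, 4, 2, 3], 1), ([3, 4, 2, 3], 1), ([], 2)],
   [([0, 2, 3, 4, 5, 6, 1, 3, 4, 5, 2, 3, 4, 1, 3, 2], 0), ([5, 6, 4, 5, 3, 4, 2, 3], 1), ([3, 4, 2, 3], 1), ([], 1)],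
   [([0, 2, 3, 4, 5, 6, 1, 3, 4, 5, 2, 3, 4, 1, 3, 2], 0), ([5, 6, 4, 5, 3, 4, 2, 3], 1), ([3, 4, 2, 3], 1), ([], 2), ([], 1)],
   [([0, 2, 3, 4, 5, 6, 1, 3, 4, 5, 2, 3, 4, 1, 3, 2], 0), ([5, 6, 4, 5, 3, 4, 2, 3], 1), ([3, 4, 2, 3], 1), ([], 2), ([], 1), ([], 4)],
   [([0, 2, 3, 4, 5, 6, 1, 3, 4, 5, 2, 3, 4, 1, 3, 2], 0), ([5, 6, 4, 5, 3, 4, 2, 3], 1), ([3, 4, 2, 3], 1), ([], 2), ([], 1), ([], 4), ([], 6)]]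

/-- the roots of the nine frames -/
def frE7 : List (List ℕ) :=
  [[125], [125, 92], [125, 92, 63], [125, 92, 87], [125, 92, 87, 73], [125, 92, 87, 78],
   [125, 92, 87, 73, 78], [125, 92, 87, 73, 78, 66], [125, 92, 87, 73, 78, 66, 63]]

/-- for the `k`-th local maximum: the index `c` of its frame and a conjugating word `u` -/
def lmConj7 : List (ℕ × List ℕ) :=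
  [(8, []), (7, [5, 4, 3, 2, 0, 6, 5, 4, 3, 2]), (7, [5, 4, 3, 1, 6, 5, 4, 3]),
   (7, [5, 4, 3, 2, 6, 5, 4, 3]), (7, [5, 4, 3, 6, 5, 4]), (7, [5, 4, 6, 5]), (7, [5, 6]),
   (7, []), (6, [3, 2, 0, 4, 3, 2, 5, 4, 3, 1, 6, 5, 4, 3]),
   (6, [3, 2, 0, 4, 3, 2, 5, 4, 3, 6, 5, 4]), (6, [3, 2, 0, 4, 3, 2, 5, 4, 6, 5]),
   (6, [3, 2, 0, 4, 3, 2, 5, 6]), (6, [3, 2, 0, 4, 3, 2]),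
   (6, [3, 2, 0, 4, 3, 2, 5, 4, 3, 1, 6, 5, 4, 3, 2, 0]), (6, [3, 1, 4, 3, 5, 4, 6, 5]),
   (6, [3, 1, 4, 3, 5, 6]), (6, [3, 1, 4, 3]), (6, [3, 2, 4, 3, 5, 4, 6, 5]),
   (6, [3, 2, 4, 3, 5, 6]), (6, [3, 2, 4, 3]), (6, [3, 4, 5, 6]), (6, [3, 4]), (6, []),
   (5, [0, 2, 3, 1, 4, 3, 5, 4, 6, 5]), (5, [0, 2, 3, 1, 4, 3, 5, 6]), (5, [0, 2, 3, 1, 4, 3]),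
   (5, [0, 2, 3, 4, 5, 6]), (5, [0, 2, 3, 4]), (5, [0, 2]),
   (5, [0, 2, 3, 1, 4, 3, 2, 0, 5, 4, 6, 5]), (5, [0, 2, 3, 1, 4, 3, 2, 0, 5, 6]),
   (5, [0, 2, 3, 1, 4, 3, 2, 0]), (4, []), (5, []), (3, [0, 2]), (2, []), (3, []), (1, []),
   (0, []), (0, [])]

/-- the five representatives as frames: `A₁, 2A₁, 3A₁'', 3A₁', 4A₁''` -/
def ysE7 : List (List ℕ) :=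
  [[125], [125, 92], [125, 92, 63], [125, 92, 87], [125, 92, 87, 78]]

/-- the class of the frame `c` -/
def clsK7 : List ℕ := [0, 1, 2, 3, 3, 4, 4, 4, 4]

variable (F : Type*) [Field F]

/-- the five representatives in `GL` -/
def yGL7 (k : ℕ) : GL chevE7.Idx F := fprod chevE7 memE7v (ysE7.getD k [])

theorem yGL7_mem_group (k : ℕ) : yGL7 F k ∈ chevE7.group F :=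
  fprod_mem_group chevE7 memE7v _

end Cfsg.Agent.Lib.Helper9.E7Ev
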