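import Mathlib
import Cfsg.Agent.Lib.Helper8.E8CoreDefs
import Cfsg.Agent.Lib.Helper5.ChevW0Def
import Cfsg.Agent.Lib.Helper5.ChevW0
import Cfsg.Agent.Lib.Helper5.ChevWPerm

set_option autoImplicit false

/-! Farm E8CORE (S5751), unit DATA: facts on the 240 roots of `E₈` and their levels (coefficient at the
branch node), checked by evaluation on the tables; the `W_J`-conjugacy of every positive root of
level `m ≥ 1` to a root that the branch reflection sends to level `m - 1`, by an explicit table of
words. The reflections are handled through their linear action on the coroot coordinates. -/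

namespace Cfsg.Agent.Lib.Helper9.E8Core

open Cfsg Cfsg.Lie Cfsg.Agent.Lib.Helper5.ChevStruct Cfsg.Agent.Lib.Helper5.ChevSym
  Cfsg.Agent.Lib.Helper8.E8Core

/-- the words of the table: for a positive root `r` of level at least one, a word in the
fundamental reflections other than the branch one -/
def badTab : List (List ℕ) := [[], [], [], [], [], [], [], [], [], [], [], [], [], [], [], [], [], [], [], [], [], [], [], [], [], [], [], [], [], [], [], [], [], [], [], [], [], [], [], [], [], [], [], [], [], [], [], [], [], [], [], [], [], [], [], [], [], [], [], [], [], [], [], [], [], [], [], [], [], [], [], [], [], [], [], [], [], [], [], [], [], [], [], [], [], [], [], [], [], [], [], [], [], [], [], [], [], [], [], [], [], [], [], [], [], [], [], [], [], [], [], [], [], [], [], [], [], [], [], [], [], [], [], [], [], [], [], [], [], [], [], [4], [4, 5], [4, 5, 6], [4, 5, 6, 7], [], [2], [4, 2], [4, 5, 2], [4, 5, 6, 2], [4, 5, 6, 7, 2], [], [1], [4, 1], [4, 5, 1], [4, 5, 6, 1], [4, 5, 6, 7, 1],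 [2, 1], [4, 2, 1], [4, 5, 2, 1], [4, 5, 6, 2, 1], [4, 5, 6, 7, 2, 1], [], [], [], [], [4], [4], [4], [4, 5], [4, 5], [4, 5, 6], [], [], [2, 0], [4, 2, 0], [4, 5, 2, 0], [4, 5, 6, 2, 0], [4, 5, 6, 7, 2, 0], [2, 1, 0], [4, 2, 1, 0], [4, 5, 2, 1, 0], [4, 5, 6, 2, 1, 0], [4, 5, 6, 7, 2, 1, 0], [], [], [], [], [4], [4], [4], [4, 5], [4, 5], [4, 5, 6], [2], [2], [2], [2], [4, 2], [4, 2], [4, 2], [4, 5, 2], [4, 5, 2], [4, 5, 6, 2], [], [], [], [], [], [], [4], [4], [4], [4, 5], [1], [1], [1], [1], [1], [1], [4, 1], [4, 1], [4, 1], [4, 5, 1], [], [], [], [], [4], [2], [2], [2], [2], [4, 2], [], [1], [2, 0], [2, 0], [2, 0], [2, 0], [4, 2, 0], [], [2], [1], [2, 1], [], [4], [4, 5], [4, 5, 6], [4, 5, 6, 7]]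

/-- the check of a word in the seven reflections -/
def jwB (w : List ℕ) : Bool := w.all fun i => Nat.blt i 8 && !(Nat.beq i 3)

theorem jword_of_jwB (w : List ℕ) (h : jwB w = true) : JWord w := by
  intro i hi
  have h1 := List.all_eq_true.mp h i hi
  rw [Bool.and_eq_true, Nat.blt_eq, Bool.not_eq_true', ← Bool.not_eq_true] at h1
  refine ⟨h1.1, fun e => h1.2 ?_⟩
  rw [e]
  rfl

theorem lev_eq_co (r : ℕ) : lev r = co chevE8 r node := by
  unfold lev co
  exact Eq.refl _

/-- the level after the branch reflection -/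
theorem lev_reflect_node (r : ℕ) (hr : r < chevE8.nroots) :
    lev (chevE8.reflectRoot node r) = lev r - pairVec chevE8 node (co chevE8 r) := by
  rw [lev_eq_co, (checkCoLin_spec chevE8 node (chkCoLin_all chevE8 hE8 node node_lt) r hr).1 node
    node_lt]
  unfold reflVec
  rw [if_pos rfl, lev_eq_co]

theorem DATA_lev_reflect (i : ℕ) (hi : i < chevE8.rank) (hin : i ≠ node) (r : ℕ)
    (hr : r < chevE8.nroots) : lev (chevE8.reflectRoot i r) = lev r := by
  rw [lev_eq_co, lev_eq_co]
  exact co_reflect_of_ne chevE8 hE8 i hi r hr node node_lt (Ne.symm hin)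

/-- the facts on a single root, read off the tables -/
def rootB (r : ℕ) : Bool := canon (fun r =>
  (!(decide (chevE8.IsPosRoot r)) || (decide (0 ≤ lev r) && decide (lev r ≤ 6))) &&
  decide (lev (chevE8.neg r) = - lev r) &&
  (List.range 8).any (fun i => decide ((chevE8.coroot.getD r #[]).getD i 0 % 2 = 1)) &&
  (Nat.beq r (chevE8.simple node) || Nat.beq r (chevE8.neg (chevE8.simple node)) ||
    decide (pairVec chevE8 node (co chevE8 r) ≤ 1)) &&
  (!(decide (chevE8.IsPosRoot r)) || !(decide (1 ≤ lev r)) ||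
    (jwB (badTab.getD r []) &&
      forceNat (wActC chevE8 (badTab.getD r []) r) fun v =>
      ((!(decide (lev r = 1)) || Nat.beq v (chevE8.simple node)) &&
      (!(decide (2 ≤ lev r)) ||
        decide (lev v - pairVec chevE8 node (co chevE8 v) = lev r - 1)))))) r

set_option maxRecDepth 1000000 in
theorem rootB_true : (List.range 240).all rootB = true := by decide +kernel

theorem rootB_spec (r : ℕ) (hr : r < chevE8.nroots) :
    (chevE8.IsPosRoot r → 0 ≤ lev r ∧ lev r ≤ 6) ∧
    lev (chevE8.neg r) = - lev r ∧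
    (∃ i < 8, (chevE8.coroot.getD r #[]).getD i 0 % 2 = 1) ∧
    (r = chevE8.simple node ∨ r = chevE8.neg (chevE8.simple node) ∨
      pairVec chevE8 node (co chevE8 r) ≤ 1) ∧
    (chevE8.IsPosRoot r → 1 ≤ lev r → jwB (badTab.getD r []) = true ∧
      (lev r = 1 → wAct chevE8 (badTab.getD r []) r = chevE8.simple node) ∧
      (2 ≤ lev r → lev (wAct chevE8 (badTab.getD r []) r)
        - pairVec chevE8 node (co chevE8 (wAct chevE8 (badTab.getD r []) r)) = lev r - 1)) := by
  have h := List.all_eq_true.mp rootB_true r (List.mem_range.mpr hr)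
  unfold rootB at h
  rw [canon_eq] at h
  simp only [forceNat_eq, wActC_eq, Bool.and_eq_true, Bool.or_eq_true, Bool.not_eq_true',
    decide_eq_true_eq, decide_eq_false_iff_not, List.any_eq_true,
    List.mem_range] at h
  obtain ⟨⟨⟨⟨h1, h2⟩, h3⟩, h4⟩, h5⟩ := h
  refine ⟨fun hp => ?_, h2, h3, ?_, fun hp hl => ?_⟩
  · rcases h1 with h1 | h1
    · exact absurd hp h1
    · exact h1
  · rcases h4 with (h4 | h4) | h4
    · exact Or.inl (Nat.eq_of_beq_eq_true h4)
    · exact Or.inr (Or.inl (Nat.eq_of_beq_eq_true h4))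
    · exact Or.inr (Or.inr h4)
  · rcases h5 with (h5 | h5) | h5
    · exact absurd hp h5
    · exact absurd hl h5
    · obtain ⟨h6, h7, h8⟩ := h5
      refine ⟨h6, fun e => ?_, fun e => ?_⟩
      · rcases h7 with h7 | h7
        · exact absurd e h7
        · exact Nat.eq_of_beq_eq_true h7
      · rcases h8 with h8 | h8
        · exact absurd e h8
        · exact h8

theorem DATA_lev_le (r : ℕ) (hr : chevE8.IsPosRoot r) : 0 ≤ lev r ∧ lev r ≤ 6 :=
  (rootB_spec r hr.1).1 hr

theorem DATA_lev_neg (r : ℕ) (hr : r < chevE8.nroots) : lev (chevE8.neg r) = - lev r :=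
  (rootB_spec r hr).2.1

theorem DATA_coroot_odd (r : ℕ) (hr : r < chevE8.nroots) :
    ∃ i : Fin chevE8.rank, (((chevE8.coroot.getD r #[]).getD i.val 0 : ℤ) : F2) = 1 := by
  obtain ⟨i, hi, h⟩ := (rootB_spec r hr).2.2.1
  refine ⟨⟨i, hi⟩, ?_⟩
  rw [← ZMod.intCast_mod _ 2]
  show ((((chevE8.coroot.getD r #[]).getD i 0 % 2 : ℤ)) : F2) = 1
  rw [h]
  rfl

set_option maxRecDepth 1000000 in
theorem lev_simple_node : lev (chevE8.simple node) = 1 := by decide +kernel

set_option maxRecDepth 1000000 in
theorem lev_neg_simple_node : lev (chevE8.neg (chevE8.simple node)) = -1 := by decide +kernel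

theorem DATA_s3_level (r : ℕ) (hr : chevE8.IsPosRoot r) (h2 : 2 ≤ lev r) :
    chevE8.IsPosRoot (chevE8.reflectRoot node r) ∧ lev r - 1 ≤ lev (chevE8.reflectRoot node r) := by
  have hne : r ≠ chevE8.simple node := by
    intro e
    rw [e, lev_simple_node] at h2
    exact absurd h2 (by norm_num)
  have hne' : r ≠ chevE8.neg (chevE8.simple node) := by
    intro e
    rw [e, lev_neg_simple_node] at h2
    exact absurd h2 (by norm_num)
  refine ⟨(checkCoLin_spec chevE8 node (chkCoLin_all chevE8 hE8 node node_lt) r hr.1).2 hr hne, ?_⟩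
  rw [lev_reflect_node r hr.1]
  rcases (rootB_spec r hr.1).2.2.2.1 with h | h | h
  · exact absurd h hne
  · exact absurd h hne'
  · linarith

/-- every positive root of level 1 is `W_J`-conjugate to the branch root; every positive root of
level `m ≥ 2` is `W_J`-conjugate to a root that the branch reflection sends to level `m - 1` -/
theorem DATA_bad (r : ℕ) (hr : chevE8.IsPosRoot r) (h1 : 1 ≤ lev r) :
    ∃ w : List ℕ, JWord w ∧
      (lev r = 1 → wAct chevE8 w r = chevE8.simple node) ∧
      (2 ≤ lev r → lev (wAct chevE8 (node :: w) r) = lev r - 1) := by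
  obtain ⟨h4, h5, h6⟩ := (rootB_spec r hr.1).2.2.2.2 hr h1
  have hJ := jword_of_jwB _ h4
  refine ⟨badTab.getD r [], hJ, h5, fun e => ?_⟩
  have hlt : wAct chevE8 (badTab.getD r []) r < chevE8.nroots :=
    wAct_lt chevE8 hE8 _ (fun i hi => (hJ i hi).1) r hr.1
  have : wAct chevE8 (node :: badTab.getD r []) r =
      chevE8.reflectRoot node (wAct chevE8 (badTab.getD r []) r) := rfl
  rw [this, lev_reflect_node _ hlt]
  exact h6 e

end Cfsg.Agent.Lib.Helper9.E8Core
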