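import Cfsg.Agent.Lib.Helper9.Lc9B

/-! # S3702 (B): extension steps of the search tree (generated by a script) -/

set_option autoImplicit false
set_option linter.unusedSimpArgs false
set_option linter.unusedVariables false
set_option linter.unusedSectionVars false
set_option linter.unusedTactic false
set_option linter.unreachableTactic false
set_option linter.unnecessarySeqFocus false
set_option maxRecDepth 4000
set_option maxHeartbeats 40000000

namespace Cfsg.Agent.Lib.Helper9.Lc9

open Cfsg.Agent.Lib.Helper2.Emb4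

section

variable {ι : Type*} [Fintype ι] [DecidableEq ι] {t0 : ι} {v : Fin 9 → ι → ℤ}
  (d : ι → ℤ) (hd : ∀ χ, 0 < d χ)
  (hgram : ∀ i j : Fin 9, ∑ χ, v i χ * v j χ = gramL i j)
  (htriv : ∀ i : Fin 9, v i t0 = trivL i)
  (hdeg : ∀ i : Fin 9, ∑ χ, v i χ * d χ = 0)

include hd hgram htriv hdeg

theorem ext_5_0 (h : St t0 v (Pt 5) 10 0 S5_0) : St t0 v (Pt 6) 11 0 S6_0 ∨ St t0 v (Pt 6) 10 0 S6_1 := by
  obtain ⟨a, hb, hz, hip, hnorm, hnext⟩ := St.step d hd hgram htriv hdeg 4 h
  have h0 : a 0 = -1 := by simpa [trivL] using hz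
  have e0 := hip 0 (by decide)
  simp [Fin.sum_univ_succ, S5_0, gramL] at e0
  have e1 := hip 1 (by decide)
  simp [Fin.sum_univ_succ, S5_0, gramL] at e1
  have e2 := hip 2 (by decide)
  simp [Fin.sum_univ_succ, S5_0, gramL] at e2
  have e3 := hip 3 (by decide)
  simp [Fin.sum_univ_succ, S5_0, gramL] at e3
  have e8 := hip 8 (by decide)
  simp [Fin.sum_univ_succ, S5_0, gramL] at e8
  simp [Fin.sum_univ_succ, gramL] at hnorm
  have q0 := le_sq (a 0)
  have b1 := hb 1
  have q1 := le_sq (a 1)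
  have b2 := hb 2
  have q2 := le_sq (a 2)
  have b3 := hb 3
  have q3 := le_sq (a 3)
  have b4 := hb 4
  have q4 := le_sq (a 4)
  have b5 := hb 5
  have q5 := le_sq (a 5)
  have b6 := hb 6
  have q6 := le_sq (a 6)
  have b7 := hb 7
  have q7 := le_sq (a 7)
  have b8 := hb 8
  have q8 := le_sq (a 8)
  have b9 := hb 9
  have q9 := le_sq (a 9)
  rcases (show a 4 = -1 ∨ a 4 = 0 ∨ a 4 = 1 by omega) with h4 | h4 | h4
  · rcases (show a 7 = -1 ∨ a 7 = 0 ∨ a 7 = 1 by omega) with h7 | h7 | h7
    · rcases (show a 8 = -1 ∨ a 8 = 0 ∨ a 8 = 1 by omega) with h8 | h8 | h8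
      · rcases (show a 9 = -1 ∨ a 9 = 0 ∨ a 9 = 1 by omega) with h9 | h9 | h9
        · exfalso; omega
        · exfalso; omega
        · exfalso; omega
      · rcases (show a 9 = -1 ∨ a 9 = 0 ∨ a 9 = 1 by omega) with h9 | h9 | h9
        · exfalso; omega
        · exfalso; omega
        · exfalso; omega
      · rcases (show a 9 = -1 ∨ a 9 = 0 ∨ a 9 = 1 by omega) with h9 | h9 | h9
        · exfalso; omega
        · exfalso; omega
        · exfalso; omega
    · rcases (show a 8 = -1 ∨ a 8 = 0 ∨ a 8 = 1 by omega) with h8 | h8 | h8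
      · rcases (show a 9 = -1 ∨ a 9 = 0 ∨ a 9 = 1 by omega) with h9 | h9 | h9
        · exfalso; omega
        · exfalso; omega
        · exfalso; omega
      · rcases (show a 9 = -1 ∨ a 9 = 0 ∨ a 9 = 1 by omega) with h9 | h9 | h9
        · exfalso; omega
        · exfalso; omega
        · exfalso; omega
      · rcases (show a 9 = -1 ∨ a 9 = 0 ∨ a 9 = 1 by omega) with h9 | h9 | h9
        · exfalso; omega
        · exfalso; omega
        · exfalso; omega
    · rcases (show a 8 = -1 ∨ a 8 = 0 ∨ a 8 = 1 by omega) with h8 | h8 | h8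
      · rcases (show a 9 = -1 ∨ a 9 = 0 ∨ a 9 = 1 by omega) with h9 | h9 | h9
        · exfalso; omega
        · exfalso; omega
        · exfalso; omega
      · rcases (show a 9 = -1 ∨ a 9 = 0 ∨ a 9 = 1 by omega) with h9 | h9 | h9
        · exfalso; omega
        · exfalso; omega
        · exfalso; omega
      · rcases (show a 9 = -1 ∨ a 9 = 0 ∨ a 9 = 1 by omega) with h9 | h9 | h9
        · exfalso; omega
        · exfalso; omega
        · exfalso; omega
  · rcases (show a 7 = -1 ∨ a 7 = 0 ∨ a 7 = 1 by omega) with h7 | h7 | h7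
    · rcases (show a 8 = -1 ∨ a 8 = 0 ∨ a 8 = 1 by omega) with h8 | h8 | h8
      · rcases (show a 9 = -1 ∨ a 9 = 0 ∨ a 9 = 1 by omega) with h9 | h9 | h9
        · exfalso; omega
        · exfalso; omega
        · exfalso; omega
      · rcases (show a 9 = -1 ∨ a 9 = 0 ∨ a 9 = 1 by omega) with h9 | h9 | h9
        · exfalso; omega
        · exfalso; omega
        · exfalso; omega
      · rcases (show a 9 = -1 ∨ a 9 = 0 ∨ a 9 = 1 by omega) with h9 | h9 | h9
        · exfalso; omega
        · exfalso; omega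
        · exfalso; omega
    · rcases (show a 8 = -1 ∨ a 8 = 0 ∨ a 8 = 1 by omega) with h8 | h8 | h8
      · rcases (show a 9 = -1 ∨ a 9 = 0 ∨ a 9 = 1 by omega) with h9 | h9 | h9
        · exfalso; omega
        · exfalso; omega
        · exfalso; omega
      · rcases (show a 9 = -1 ∨ a 9 = 0 ∨ a 9 = 1 by omega) with h9 | h9 | h9
        · exfalso; omega
        · have ha : a = ![-1,0,0,1,0,0,1,0,0,0] := by
            funext c; fin_cases c <;> simp <;> omega
          subst ha
          have h2 := hnext 1 (by decide +kernel)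
          exact (Or.inl (h2.perm ![0,1,2,3,4,5,6,7,8,9,10] (by decide +kernel) ![1,1,1,1,1,1,1,1,1,1,1] (by decide +kernel) (by decide +kernel) (by decide +kernel) (by decide +kernel) (by decide +kernel)))
        · exfalso; omega
      · rcases (show a 9 = -1 ∨ a 9 = 0 ∨ a 9 = 1 by omega) with h9 | h9 | h9
        · exfalso; omega
        · exfalso; omega
        · exfalso; omega
    · rcases (show a 8 = -1 ∨ a 8 = 0 ∨ a 8 = 1 by omega) with h8 | h8 | h8
      · rcases (show a 9 = -1 ∨ a 9 = 0 ∨ a 9 = 1 by omega) with h9 | h9 | h9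
        · exfalso; omega
        · exfalso; omega
        · exfalso; omega
      · rcases (show a 9 = -1 ∨ a 9 = 0 ∨ a 9 = 1 by omega) with h9 | h9 | h9
        · exfalso; omega
        · have ha : a = ![-1,0,0,1,0,1,0,1,0,0] := by
            funext c; fin_cases c <;> simp <;> omega
          subst ha
          have h2 := hnext 0 (by decide +kernel)
          exact (Or.inr (h2.perm ![0,1,2,3,4,5,6,7,8,9] (by decide +kernel) ![1,1,1,1,1,1,1,1,1,1] (by decide +kernel) (by decide +kernel) (by decide +kernel) (by decide +kernel) (by decide +kernel)))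
        · exfalso; omega
      · rcases (show a 9 = -1 ∨ a 9 = 0 ∨ a 9 = 1 by omega) with h9 | h9 | h9
        · exfalso; omega
        · exfalso; omega
        · exfalso; omega
  · rcases (show a 7 = -1 ∨ a 7 = 0 ∨ a 7 = 1 by omega) with h7 | h7 | h7
    · rcases (show a 8 = -1 ∨ a 8 = 0 ∨ a 8 = 1 by omega) with h8 | h8 | h8
      · rcases (show a 9 = -1 ∨ a 9 = 0 ∨ a 9 = 1 by omega) with h9 | h9 | h9
        · exfalso; omega
        · exfalso; omega
        · exfalso; omega
      · rcases (show a 9 = -1 ∨ a 9 = 0 ∨ a 9 = 1 by omega) with h9 | h9 | h9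
        · exfalso; omega
        · exfalso; omega
        · exfalso; omega
      · rcases (show a 9 = -1 ∨ a 9 = 0 ∨ a 9 = 1 by omega) with h9 | h9 | h9
        · exfalso; omega
        · exfalso; omega
        · exfalso; omega
    · rcases (show a 8 = -1 ∨ a 8 = 0 ∨ a 8 = 1 by omega) with h8 | h8 | h8
      · rcases (show a 9 = -1 ∨ a 9 = 0 ∨ a 9 = 1 by omega) with h9 | h9 | h9
        · exfalso; omega
        · exfalso; omega
        · exfalso; omega
      · rcases (show a 9 = -1 ∨ a 9 = 0 ∨ a 9 = 1 by omega) with h9 | h9 | h9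
        · exfalso; omega
        · have ha : a = ![-1,0,0,0,1,0,1,0,0,0] := by
            funext c; fin_cases c <;> simp <;> omega
          subst ha
          have h2 := hnext 1 (by decide +kernel)
          exact (Or.inl (h2.perm ![0,1,2,4,3,5,6,7,8,9,10] (by decide +kernel) ![1,1,1,1,1,1,1,1,1,1,1] (by decide +kernel) (by decide +kernel) (by decide +kernel) (by decide +kernel) (by decide +kernel)))
        · exfalso; omega
      · rcases (show a 9 = -1 ∨ a 9 = 0 ∨ a 9 = 1 by omega) with h9 | h9 | h9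
        · exfalso; omega
        · exfalso; omega
        · exfalso; omega
    · rcases (show a 8 = -1 ∨ a 8 = 0 ∨ a 8 = 1 by omega) with h8 | h8 | h8
      · rcases (show a 9 = -1 ∨ a 9 = 0 ∨ a 9 = 1 by omega) with h9 | h9 | h9
        · exfalso; omega
        · exfalso; omega
        · exfalso; omega
      · rcases (show a 9 = -1 ∨ a 9 = 0 ∨ a 9 = 1 by omega) with h9 | h9 | h9
        · exfalso; omega
        · have ha : a = ![-1,0,0,0,1,1,0,1,0,0] := by
            funext c; fin_cases c <;> simp <;> omega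
          subst ha
          have h2 := hnext 0 (by decide +kernel)
          exact (Or.inr (h2.perm ![0,1,2,4,3,5,6,7,8,9] (by decide +kernel) ![1,1,1,1,1,1,1,1,1,1] (by decide +kernel) (by decide +kernel) (by decide +kernel) (by decide +kernel) (by decide +kernel)))
        · exfalso; omega
      · rcases (show a 9 = -1 ∨ a 9 = 0 ∨ a 9 = 1 by omega) with h9 | h9 | h9
        · exfalso; omega
        · exfalso; omega
        · exfalso; omega

theorem ext_5_1 (h : St t0 v (Pt 5) 8 0 S5_1) : False := by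
  obtain ⟨a, hb, hz, hip, hnorm, hnext⟩ := St.step d hd hgram htriv hdeg 4 h
  have h0 : a 0 = -1 := by simpa [trivL] using hz
  have e0 := hip 0 (by decide)
  simp [Fin.sum_univ_succ, S5_1, gramL] at e0
  have e1 := hip 1 (by decide)
  simp [Fin.sum_univ_succ, S5_1, gramL] at e1
  have e2 := hip 2 (by decide)
  simp [Fin.sum_univ_succ, S5_1, gramL] at e2
  have e3 := hip 3 (by decide)
  simp [Fin.sum_univ_succ, S5_1, gramL] at e3
  have e8 := hip 8 (by decide)
  simp [Fin.sum_univ_succ, S5_1, gramL] at e8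
  simp [Fin.sum_univ_succ, gramL] at hnorm
  have q0 := le_sq (a 0)
  have b1 := hb 1
  have q1 := le_sq (a 1)
  have b2 := hb 2
  have q2 := le_sq (a 2)
  have b3 := hb 3
  have q3 := le_sq (a 3)
  have b4 := hb 4
  have q4 := le_sq (a 4)
  have b5 := hb 5
  have q5 := le_sq (a 5)
  have b6 := hb 6
  have q6 := le_sq (a 6)
  have b7 := hb 7
  have q7 := le_sq (a 7)
  rcases (show a 6 = -1 ∨ a 6 = 0 ∨ a 6 = 1 by omega) with h6 | h6 | h6
  · rcases (show a 7 = -1 ∨ a 7 = 0 ∨ a 7 = 1 by omega) with h7 | h7 | h7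
    · exfalso; omega
    · exfalso; omega
    · exfalso; omega
  · rcases (show a 7 = -1 ∨ a 7 = 0 ∨ a 7 = 1 by omega) with h7 | h7 | h7
    · exfalso; omega
    · exfalso; omega
    · exfalso; omega
  · rcases (show a 7 = -1 ∨ a 7 = 0 ∨ a 7 = 1 by omega) with h7 | h7 | h7
    · exfalso; omega
    · exfalso; omega
    · exfalso; omega

theorem ext_5_2 (h : St t0 v (Pt 5) 8 0 S5_2) : St t0 v (Pt 6) 9 0 S6_2 := by
  obtain ⟨a, hb, hz, hip, hnorm, hnext⟩ := St.step d hd hgram htriv hdeg 4 h
  have h0 : a 0 = -1 := by simpa [trivL] using hz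
  have e0 := hip 0 (by decide)
  simp [Fin.sum_univ_succ, S5_2, gramL] at e0
  have e1 := hip 1 (by decide)
  simp [Fin.sum_univ_succ, S5_2, gramL] at e1
  have e2 := hip 2 (by decide)
  simp [Fin.sum_univ_succ, S5_2, gramL] at e2
  have e3 := hip 3 (by decide)
  simp [Fin.sum_univ_succ, S5_2, gramL] at e3
  have e8 := hip 8 (by decide)
  simp [Fin.sum_univ_succ, S5_2, gramL] at e8
  simp [Fin.sum_univ_succ, gramL] at hnorm
  have q0 := le_sq (a 0)
  have b1 := hb 1
  have q1 := le_sq (a 1)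
  have b2 := hb 2
  have q2 := le_sq (a 2)
  have b3 := hb 3
  have q3 := le_sq (a 3)
  have b4 := hb 4
  have q4 := le_sq (a 4)
  have b5 := hb 5
  have q5 := le_sq (a 5)
  have b6 := hb 6
  have q6 := le_sq (a 6)
  have b7 := hb 7
  have q7 := le_sq (a 7)
  rcases (show a 6 = -1 ∨ a 6 = 0 ∨ a 6 = 1 by omega) with h6 | h6 | h6
  · rcases (show a 7 = -1 ∨ a 7 = 0 ∨ a 7 = 1 by omega) with h7 | h7 | h7
    · exfalso; omega
    · exfalso; omega
    · exfalso; omega
  · rcases (show a 7 = -1 ∨ a 7 = 0 ∨ a 7 = 1 by omega) with h7 | h7 | h7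
    · exfalso; omega
    · exfalso; omega
    · have ha : a = ![-1,0,0,0,1,1,0,1] := by
        funext c; fin_cases c <;> simp <;> omega
      subst ha
      have h2 := hnext 0 (by decide +kernel)
      have h3 := h2.perm (P' := Pt 6) (z' := 0) (S' := ![![0,1,1,0,0,0,0,0],![0,-1,0,1,1,0,0,0],![0,1,0,0,0,1,1,0],![0,0,0,0,0,-1,0,1],![-1,0,0,0,1,1,0,1],![0,0,0,0,0,0,0,0],![0,0,0,0,0,0,0,0],![0,0,0,0,0,0,0,0],![-1,0,1,-1,0,0,1,0]]) ![0,1,2,3,4,5,6,7] (by decide +kernel) ![1,1,1,1,1,1,1,1] (by decide +kernel) (by decide +kernel) (by decide +kernel) (by decide +kernel) (by decide +kernel)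
      obtain ⟨D, hD, _, hdg⟩ := St.deg d hd hdeg h3
      have g0 := hdg 0 (by decide)
      simp [Fin.sum_univ_succ] at g0
      have g1 := hdg 1 (by decide)
      simp [Fin.sum_univ_succ] at g1
      have g2 := hdg 2 (by decide)
      simp [Fin.sum_univ_succ] at g2
      have g3 := hdg 3 (by decide)
      simp [Fin.sum_univ_succ] at g3
      have g8 := hdg 8 (by decide)
      simp [Fin.sum_univ_succ] at g8
      have g4 := hdg 4 (by decide)
      simp [Fin.sum_univ_succ] at g4
      exact (hD 6 (by omega)).elim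
  · rcases (show a 7 = -1 ∨ a 7 = 0 ∨ a 7 = 1 by omega) with h7 | h7 | h7
    · exfalso; omega
    · have ha : a = ![-1,0,0,1,0,0,1,0] := by
        funext c; fin_cases c <;> simp <;> omega
      subst ha
      have h2 := hnext 1 (by decide +kernel)
      exact h2.perm ![0,1,2,3,4,5,6,7,8] (by decide +kernel) ![1,1,1,1,1,1,1,1,1] (by decide +kernel) (by decide +kernel) (by decide +kernel) (by decide +kernel) (by decide +kernel)
    · exfalso; omega

theorem ext_5_3 (h : St t0 v (Pt 5) 8 0 S5_3) : St t0 v (Pt 6) 8 0 S6_3 := by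
  obtain ⟨a, hb, hz, hip, hnorm, hnext⟩ := St.step d hd hgram htriv hdeg 4 h
  have h0 : a 0 = -1 := by simpa [trivL] using hz
  have e0 := hip 0 (by decide)
  simp [Fin.sum_univ_succ, S5_3, gramL] at e0
  have e1 := hip 1 (by decide)
  simp [Fin.sum_univ_succ, S5_3, gramL] at e1
  have e2 := hip 2 (by decide)
  simp [Fin.sum_univ_succ, S5_3, gramL] at e2
  have e3 := hip 3 (by decide)
  simp [Fin.sum_univ_succ, S5_3, gramL] at e3
  have e8 := hip 8 (by decide)
  simp [Fin.sum_univ_succ, S5_3, gramL] at e8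
  simp [Fin.sum_univ_succ, gramL] at hnorm
  have q0 := le_sq (a 0)
  have b1 := hb 1
  have q1 := le_sq (a 1)
  have b2 := hb 2
  have q2 := le_sq (a 2)
  have b3 := hb 3
  have q3 := le_sq (a 3)
  have b4 := hb 4
  have q4 := le_sq (a 4)
  have b5 := hb 5
  have q5 := le_sq (a 5)
  have b6 := hb 6
  have q6 := le_sq (a 6)
  have b7 := hb 7
  have q7 := le_sq (a 7)
  rcases (show a 6 = -1 ∨ a 6 = 0 ∨ a 6 = 1 by omega) with h6 | h6 | h6
  · rcases (show a 7 = -1 ∨ a 7 = 0 ∨ a 7 = 1 by omega) with h7 | h7 | h7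
    · exfalso; omega
    · exfalso; omega
    · exfalso; omega
  · rcases (show a 7 = -1 ∨ a 7 = 0 ∨ a 7 = 1 by omega) with h7 | h7 | h7
    · have ha : a = ![-1,-1,1,0,0,0,0,-1] := by
        funext c; fin_cases c <;> simp <;> omega
      subst ha
      have h2 := hnext 0 (by decide +kernel)
      exact h2.perm ![0,1,2,3,4,5,6,7] (by decide +kernel) ![1,1,1,1,1,1,1,1] (by decide +kernel) (by decide +kernel) (by decide +kernel) (by decide +kernel) (by decide +kernel)
    · exfalso; omega
    · exfalso; omega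
  · rcases (show a 7 = -1 ∨ a 7 = 0 ∨ a 7 = 1 by omega) with h7 | h7 | h7
    · exfalso; omega
    · exfalso; omega
    · exfalso; omega

theorem ext_5_4 (h : St t0 v (Pt 5) 7 0 S5_4) : False := by
  obtain ⟨a, hb, hz, hip, hnorm, hnext⟩ := St.step d hd hgram htriv hdeg 4 h
  have h0 : a 0 = -1 := by simpa [trivL] using hz
  have e0 := hip 0 (by decide)
  simp [Fin.sum_univ_succ, S5_4, gramL] at e0
  have e1 := hip 1 (by decide)
  simp [Fin.sum_univ_succ, S5_4, gramL] at e1
  have e2 := hip 2 (by decide)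
  simp [Fin.sum_univ_succ, S5_4, gramL] at e2
  have e3 := hip 3 (by decide)
  simp [Fin.sum_univ_succ, S5_4, gramL] at e3
  have e8 := hip 8 (by decide)
  simp [Fin.sum_univ_succ, S5_4, gramL] at e8
  simp [Fin.sum_univ_succ, gramL] at hnorm
  have q0 := le_sq (a 0)
  have b1 := hb 1
  have q1 := le_sq (a 1)
  have b2 := hb 2
  have q2 := le_sq (a 2)
  have b3 := hb 3
  have q3 := le_sq (a 3)
  have b4 := hb 4
  have q4 := le_sq (a 4)
  have b5 := hb 5
  have q5 := le_sq (a 5)
  have b6 := hb 6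
  have q6 := le_sq (a 6)
  rcases (show a 6 = -1 ∨ a 6 = 0 ∨ a 6 = 1 by omega) with h6 | h6 | h6
  · exfalso; omega
  · exfalso; omega
  · exfalso; omega

theorem ext_5_5 (h : St t0 v (Pt 5) 7 0 S5_5) : False := by
  obtain ⟨a, hb, hz, hip, hnorm, hnext⟩ := St.step d hd hgram htriv hdeg 4 h
  have h0 : a 0 = -1 := by simpa [trivL] using hz
  have e0 := hip 0 (by decide)
  simp [Fin.sum_univ_succ, S5_5, gramL] at e0
  have e1 := hip 1 (by decide)
  simp [Fin.sum_univ_succ, S5_5, gramL] at e1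
  have e2 := hip 2 (by decide)
  simp [Fin.sum_univ_succ, S5_5, gramL] at e2
  have e3 := hip 3 (by decide)
  simp [Fin.sum_univ_succ, S5_5, gramL] at e3
  have e8 := hip 8 (by decide)
  simp [Fin.sum_univ_succ, S5_5, gramL] at e8
  simp [Fin.sum_univ_succ, gramL] at hnorm
  have q0 := le_sq (a 0)
  have b1 := hb 1
  have q1 := le_sq (a 1)
  have b2 := hb 2
  have q2 := le_sq (a 2)
  have b3 := hb 3
  have q3 := le_sq (a 3)
  have b4 := hb 4
  have q4 := le_sq (a 4)
  have b5 := hb 5
  have q5 := le_sq (a 5)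
  have b6 := hb 6
  have q6 := le_sq (a 6)
  rcases (show a 6 = -1 ∨ a 6 = 0 ∨ a 6 = 1 by omega) with h6 | h6 | h6
  · exfalso; omega
  · exfalso; omega
  · exfalso; omega

theorem ext_5_6 (h : St t0 v (Pt 5) 7 0 S5_6) : False := by
  obtain ⟨a, hb, hz, hip, hnorm, hnext⟩ := St.step d hd hgram htriv hdeg 4 h
  have h0 : a 0 = -1 := by simpa [trivL] using hz
  have e0 := hip 0 (by decide)
  simp [Fin.sum_univ_succ, S5_6, gramL] at e0
  have e1 := hip 1 (by decide)
  simp [Fin.sum_univ_succ, S5_6, gramL] at e1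
  have e2 := hip 2 (by decide)
  simp [Fin.sum_univ_succ, S5_6, gramL] at e2
  have e3 := hip 3 (by decide)
  simp [Fin.sum_univ_succ, S5_6, gramL] at e3
  have e8 := hip 8 (by decide)
  simp [Fin.sum_univ_succ, S5_6, gramL] at e8
  simp [Fin.sum_univ_succ, gramL] at hnorm
  have q0 := le_sq (a 0)
  have b1 := hb 1
  have q1 := le_sq (a 1)
  have b2 := hb 2
  have q2 := le_sq (a 2)
  have b3 := hb 3
  have q3 := le_sq (a 3)
  have b4 := hb 4
  have q4 := le_sq (a 4)
  have b5 := hb 5
  have q5 := le_sq (a 5)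
  have b6 := hb 6
  have q6 := le_sq (a 6)
  rcases (show a 6 = -1 ∨ a 6 = 0 ∨ a 6 = 1 by omega) with h6 | h6 | h6
  · exfalso; omega
  · exfalso; omega
  · have ha : a = ![-1,-1,1,0,0,0,1] := by
      funext c; fin_cases c <;> simp <;> omega
    subst ha
    have h2 := hnext 0 (by decide +kernel)
    have h3 := h2.perm (P' := Pt 6) (z' := 0) (S' := ![![0,1,1,0,0,0,0],![0,-1,0,1,1,0,0],![0,0,1,-1,0,1,0],![0,0,0,1,-1,0,0],![-1,-1,1,0,0,0,1],![0,0,0,0,0,0,0],![0,0,0,0,0,0,0],![0,0,0,0,0,0,0],![-1,1,0,0,0,1,1]]) ![0,1,2,3,4,5,6] (by decide +kernel) ![1,1,1,1,1,1,1] (by decide +kernel) (by decide +kernel) (by decide +kernel) (by decide +kernel) (by decide +kernel)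
    obtain ⟨D, hD, _, hdg⟩ := St.deg d hd hdeg h3
    have g0 := hdg 0 (by decide)
    simp [Fin.sum_univ_succ] at g0
    have g1 := hdg 1 (by decide)
    simp [Fin.sum_univ_succ] at g1
    have g2 := hdg 2 (by decide)
    simp [Fin.sum_univ_succ] at g2
    have g3 := hdg 3 (by decide)
    simp [Fin.sum_univ_succ] at g3
    have g8 := hdg 8 (by decide)
    simp [Fin.sum_univ_succ] at g8
    have g4 := hdg 4 (by decide)
    simp [Fin.sum_univ_succ] at g4
    exact (hD 1 (by omega)).elim

end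

end Cfsg.Agent.Lib.Helper9.Lc9
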