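import Cfsg.Agent.Lib.Helper9.Lc9B

/-! # S3702 (B): extension steps of the search tree (generated by a script) -/

set_option autoImplicit false
set_option linter.unusedSimpArgs false
set_option linter.unusedVariables false
set_option linter.unusedSectionVars false
set_option linter.unusedTactic false
set_option linter.unreachableTactic false
set_option linter.unnecessarySeqFocus false
set_option maxRecDepth 4000
set_option maxHeartbeats 40000000

namespace Cfsg.Agent.Lib.Helper9.Lc9

open Cfsg.Agent.Lib.Helper2.Emb4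

section

variable {ι : Type*} [Fintype ι] [DecidableEq ι] {t0 : ι} {v : Fin 9 → ι → ℤ}
  (d : ι → ℤ) (hd : ∀ χ, 0 < d χ)
  (hgram : ∀ i j : Fin 9, ∑ χ, v i χ * v j χ = gramL i j)
  (htriv : ∀ i : Fin 9, v i t0 = trivL i)
  (hdeg : ∀ i : Fin 9, ∑ χ, v i χ * d χ = 0)

include hd hgram htriv hdeg

theorem ext_8_0 (h : St t0 v (Pt 8) 13 0 S8_0) : St t0 v (Pt 9) 14 0 S9_0 ∨ St t0 v (Pt 9) 13 0 S9_1 := by
  obtain ⟨a, hb, hz, hip, hnorm, hnext⟩ := St.step d hd hgram htriv hdeg 7 h
  have h0 : a 0 = 0 := by simpa [trivL] using hz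
  have e0 := hip 0 (by decide)
  simp [Fin.sum_univ_succ, S8_0, gramL] at e0
  have e1 := hip 1 (by decide)
  simp [Fin.sum_univ_succ, S8_0, gramL] at e1
  have e2 := hip 2 (by decide)
  simp [Fin.sum_univ_succ, S8_0, gramL] at e2
  have e3 := hip 3 (by decide)
  simp [Fin.sum_univ_succ, S8_0, gramL] at e3
  have e8 := hip 8 (by decide)
  simp [Fin.sum_univ_succ, S8_0, gramL] at e8
  have e4 := hip 4 (by decide)
  simp [Fin.sum_univ_succ, S8_0, gramL] at e4
  have e5 := hip 5 (by decide)
  simp [Fin.sum_univ_succ, S8_0, gramL] at e5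
  have e6 := hip 6 (by decide)
  simp [Fin.sum_univ_succ, S8_0, gramL] at e6
  simp [Fin.sum_univ_succ, gramL] at hnorm
  have q0 := le_sq (a 0)
  have b1 := hb 1
  have q1 := le_sq (a 1)
  have b2 := hb 2
  have q2 := le_sq (a 2)
  have b3 := hb 3
  have q3 := le_sq (a 3)
  have b4 := hb 4
  have q4 := le_sq (a 4)
  have b5 := hb 5
  have q5 := le_sq (a 5)
  have b6 := hb 6
  have q6 := le_sq (a 6)
  have b7 := hb 7
  have q7 := le_sq (a 7)
  have b8 := hb 8
  have q8 := le_sq (a 8)
  have b9 := hb 9
  have q9 := le_sq (a 9)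
  have b10 := hb 10
  have q10 := le_sq (a 10)
  have b11 := hb 11
  have q11 := le_sq (a 11)
  have b12 := hb 12
  have q12 := le_sq (a 12)
  rcases (show a 9 = -1 ∨ a 9 = 0 ∨ a 9 = 1 by omega) with h9 | h9 | h9
  · rcases (show a 10 = -1 ∨ a 10 = 0 ∨ a 10 = 1 by omega) with h10 | h10 | h10
    · rcases (show a 11 = -1 ∨ a 11 = 0 ∨ a 11 = 1 by omega) with h11 | h11 | h11
      · rcases (show a 12 = -1 ∨ a 12 = 0 ∨ a 12 = 1 by omega) with h12 | h12 | h12
        · exfalso; omega
        · exfalso; omega
        · exfalso; omega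
      · rcases (show a 12 = -1 ∨ a 12 = 0 ∨ a 12 = 1 by omega) with h12 | h12 | h12
        · exfalso; omega
        · exfalso; omega
        · exfalso; omega
      · rcases (show a 12 = -1 ∨ a 12 = 0 ∨ a 12 = 1 by omega) with h12 | h12 | h12
        · exfalso; omega
        · exfalso; omega
        · exfalso; omega
    · rcases (show a 11 = -1 ∨ a 11 = 0 ∨ a 11 = 1 by omega) with h11 | h11 | h11
      · rcases (show a 12 = -1 ∨ a 12 = 0 ∨ a 12 = 1 by omega) with h12 | h12 | h12
        · exfalso; omega
        · exfalso; omega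
        · exfalso; omega
      · rcases (show a 12 = -1 ∨ a 12 = 0 ∨ a 12 = 1 by omega) with h12 | h12 | h12
        · exfalso; omega
        · exfalso; omega
        · exfalso; omega
      · rcases (show a 12 = -1 ∨ a 12 = 0 ∨ a 12 = 1 by omega) with h12 | h12 | h12
        · exfalso; omega
        · exfalso; omega
        · exfalso; omega
    · rcases (show a 11 = -1 ∨ a 11 = 0 ∨ a 11 = 1 by omega) with h11 | h11 | h11
      · rcases (show a 12 = -1 ∨ a 12 = 0 ∨ a 12 = 1 by omega) with h12 | h12 | h12
        · exfalso; omega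
        · exfalso; omega
        · exfalso; omega
      · rcases (show a 12 = -1 ∨ a 12 = 0 ∨ a 12 = 1 by omega) with h12 | h12 | h12
        · exfalso; omega
        · exfalso; omega
        · exfalso; omega
      · rcases (show a 12 = -1 ∨ a 12 = 0 ∨ a 12 = 1 by omega) with h12 | h12 | h12
        · exfalso; omega
        · exfalso; omega
        · exfalso; omega
  · rcases (show a 10 = -1 ∨ a 10 = 0 ∨ a 10 = 1 by omega) with h10 | h10 | h10
    · rcases (show a 11 = -1 ∨ a 11 = 0 ∨ a 11 = 1 by omega) with h11 | h11 | h11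
      · rcases (show a 12 = -1 ∨ a 12 = 0 ∨ a 12 = 1 by omega) with h12 | h12 | h12
        · exfalso; omega
        · exfalso; omega
        · exfalso; omega
      · rcases (show a 12 = -1 ∨ a 12 = 0 ∨ a 12 = 1 by omega) with h12 | h12 | h12
        · exfalso; omega
        · exfalso; omega
        · exfalso; omega
      · rcases (show a 12 = -1 ∨ a 12 = 0 ∨ a 12 = 1 by omega) with h12 | h12 | h12
        · exfalso; omega
        · exfalso; omega
        · exfalso; omega
    · rcases (show a 11 = -1 ∨ a 11 = 0 ∨ a 11 = 1 by omega) with h11 | h11 | h11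
      · rcases (show a 12 = -1 ∨ a 12 = 0 ∨ a 12 = 1 by omega) with h12 | h12 | h12
        · exfalso; omega
        · exfalso; omega
        · exfalso; omega
      · rcases (show a 12 = -1 ∨ a 12 = 0 ∨ a 12 = 1 by omega) with h12 | h12 | h12
        · exfalso; omega
        · have ha : a = ![0,0,0,1,0,-1,0,0,1,0,0,0,0] := by
            funext c; fin_cases c <;> simp <;> omega
          subst ha
          have h2 := hnext 1 (by decide +kernel)
          exact (Or.inl (h2.perm ![0,1,2,3,4,5,6,7,8,9,10,11,12,13] (by decide +kernel) ![1,1,1,1,1,1,1,1,1,1,1,1,1,1] (by decide +kernel) (by decide +kernel) (by decide +kernel) (by decide +kernel) (by decide +kernel)))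
        · exfalso; omega
      · rcases (show a 12 = -1 ∨ a 12 = 0 ∨ a 12 = 1 by omega) with h12 | h12 | h12
        · exfalso; omega
        · exfalso; omega
        · exfalso; omega
    · rcases (show a 11 = -1 ∨ a 11 = 0 ∨ a 11 = 1 by omega) with h11 | h11 | h11
      · rcases (show a 12 = -1 ∨ a 12 = 0 ∨ a 12 = 1 by omega) with h12 | h12 | h12
        · exfalso; omega
        · exfalso; omega
        · exfalso; omega
      · rcases (show a 12 = -1 ∨ a 12 = 0 ∨ a 12 = 1 by omega) with h12 | h12 | h12
        · exfalso; omega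
        · exfalso; omega
        · exfalso; omega
      · rcases (show a 12 = -1 ∨ a 12 = 0 ∨ a 12 = 1 by omega) with h12 | h12 | h12
        · exfalso; omega
        · exfalso; omega
        · exfalso; omega
  · rcases (show a 10 = -1 ∨ a 10 = 0 ∨ a 10 = 1 by omega) with h10 | h10 | h10
    · rcases (show a 11 = -1 ∨ a 11 = 0 ∨ a 11 = 1 by omega) with h11 | h11 | h11
      · rcases (show a 12 = -1 ∨ a 12 = 0 ∨ a 12 = 1 by omega) with h12 | h12 | h12
        · exfalso; omega
        · exfalso; omega
        · exfalso; omega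
      · rcases (show a 12 = -1 ∨ a 12 = 0 ∨ a 12 = 1 by omega) with h12 | h12 | h12
        · exfalso; omega
        · exfalso; omega
        · exfalso; omega
      · rcases (show a 12 = -1 ∨ a 12 = 0 ∨ a 12 = 1 by omega) with h12 | h12 | h12
        · exfalso; omega
        · exfalso; omega
        · exfalso; omega
    · rcases (show a 11 = -1 ∨ a 11 = 0 ∨ a 11 = 1 by omega) with h11 | h11 | h11
      · rcases (show a 12 = -1 ∨ a 12 = 0 ∨ a 12 = 1 by omega) with h12 | h12 | h12
        · exfalso; omega
        · exfalso; omega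
        · exfalso; omega
      · rcases (show a 12 = -1 ∨ a 12 = 0 ∨ a 12 = 1 by omega) with h12 | h12 | h12
        · exfalso; omega
        · exfalso; omega
        · exfalso; omega
      · rcases (show a 12 = -1 ∨ a 12 = 0 ∨ a 12 = 1 by omega) with h12 | h12 | h12
        · exfalso; omega
        · have ha : a = ![0,0,0,1,0,-1,0,0,0,1,0,1,0] := by
            funext c; fin_cases c <;> simp <;> omega
          subst ha
          have h2 := hnext 0 (by decide +kernel)
          exact (Or.inr (h2.perm ![0,1,2,3,4,5,6,7,8,9,10,11,12] (by decide +kernel) ![1,1,1,1,1,1,1,1,1,1,1,1,1] (by decide +kernel) (by decide +kernel) (by decide +kernel) (by decide +kernel) (by decide +kernel)))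
        · exfalso; omega
    · rcases (show a 11 = -1 ∨ a 11 = 0 ∨ a 11 = 1 by omega) with h11 | h11 | h11
      · rcases (show a 12 = -1 ∨ a 12 = 0 ∨ a 12 = 1 by omega) with h12 | h12 | h12
        · exfalso; omega
        · exfalso; omega
        · exfalso; omega
      · rcases (show a 12 = -1 ∨ a 12 = 0 ∨ a 12 = 1 by omega) with h12 | h12 | h12
        · exfalso; omega
        · exfalso; omega
        · exfalso; omega
      · rcases (show a 12 = -1 ∨ a 12 = 0 ∨ a 12 = 1 by omega) with h12 | h12 | h12
        · exfalso; omega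
        · exfalso; omega
        · exfalso; omega

theorem ext_8_1 (h : St t0 v (Pt 8) 12 0 S8_1) : False := by
  obtain ⟨a, hb, hz, hip, hnorm, hnext⟩ := St.step d hd hgram htriv hdeg 7 h
  have h0 : a 0 = 0 := by simpa [trivL] using hz
  have e0 := hip 0 (by decide)
  simp [Fin.sum_univ_succ, S8_1, gramL] at e0
  have e1 := hip 1 (by decide)
  simp [Fin.sum_univ_succ, S8_1, gramL] at e1
  have e2 := hip 2 (by decide)
  simp [Fin.sum_univ_succ, S8_1, gramL] at e2
  have e3 := hip 3 (by decide)
  simp [Fin.sum_univ_succ, S8_1, gramL] at e3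
  have e8 := hip 8 (by decide)
  simp [Fin.sum_univ_succ, S8_1, gramL] at e8
  have e4 := hip 4 (by decide)
  simp [Fin.sum_univ_succ, S8_1, gramL] at e4
  have e5 := hip 5 (by decide)
  simp [Fin.sum_univ_succ, S8_1, gramL] at e5
  have e6 := hip 6 (by decide)
  simp [Fin.sum_univ_succ, S8_1, gramL] at e6
  simp [Fin.sum_univ_succ, gramL] at hnorm
  have q0 := le_sq (a 0)
  have b1 := hb 1
  have q1 := le_sq (a 1)
  have b2 := hb 2
  have q2 := le_sq (a 2)
  have b3 := hb 3
  have q3 := le_sq (a 3)
  have b4 := hb 4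
  have q4 := le_sq (a 4)
  have b5 := hb 5
  have q5 := le_sq (a 5)
  have b6 := hb 6
  have q6 := le_sq (a 6)
  have b7 := hb 7
  have q7 := le_sq (a 7)
  have b8 := hb 8
  have q8 := le_sq (a 8)
  have b9 := hb 9
  have q9 := le_sq (a 9)
  have b10 := hb 10
  have q10 := le_sq (a 10)
  have b11 := hb 11
  have q11 := le_sq (a 11)
  rcases (show a 9 = -1 ∨ a 9 = 0 ∨ a 9 = 1 by omega) with h9 | h9 | h9
  · rcases (show a 10 = -1 ∨ a 10 = 0 ∨ a 10 = 1 by omega) with h10 | h10 | h10
    · rcases (show a 11 = -1 ∨ a 11 = 0 ∨ a 11 = 1 by omega) with h11 | h11 | h11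
      · exfalso; omega
      · exfalso; omega
      · exfalso; omega
    · rcases (show a 11 = -1 ∨ a 11 = 0 ∨ a 11 = 1 by omega) with h11 | h11 | h11
      · exfalso; omega
      · exfalso; omega
      · exfalso; omega
    · rcases (show a 11 = -1 ∨ a 11 = 0 ∨ a 11 = 1 by omega) with h11 | h11 | h11
      · exfalso; omega
      · exfalso; omega
      · exfalso; omega
  · rcases (show a 10 = -1 ∨ a 10 = 0 ∨ a 10 = 1 by omega) with h10 | h10 | h10
    · rcases (show a 11 = -1 ∨ a 11 = 0 ∨ a 11 = 1 by omega) with h11 | h11 | h11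
      · exfalso; omega
      · exfalso; omega
      · exfalso; omega
    · rcases (show a 11 = -1 ∨ a 11 = 0 ∨ a 11 = 1 by omega) with h11 | h11 | h11
      · exfalso; omega
      · exfalso; omega
      · exfalso; omega
    · rcases (show a 11 = -1 ∨ a 11 = 0 ∨ a 11 = 1 by omega) with h11 | h11 | h11
      · exfalso; omega
      · exfalso; omega
      · exfalso; omega
  · rcases (show a 10 = -1 ∨ a 10 = 0 ∨ a 10 = 1 by omega) with h10 | h10 | h10
    · rcases (show a 11 = -1 ∨ a 11 = 0 ∨ a 11 = 1 by omega) with h11 | h11 | h11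
      · exfalso; omega
      · exfalso; omega
      · exfalso; omega
    · rcases (show a 11 = -1 ∨ a 11 = 0 ∨ a 11 = 1 by omega) with h11 | h11 | h11
      · exfalso; omega
      · exfalso; omega
      · exfalso; omega
    · rcases (show a 11 = -1 ∨ a 11 = 0 ∨ a 11 = 1 by omega) with h11 | h11 | h11
      · exfalso; omega
      · exfalso; omega
      · exfalso; omega

theorem ext_8_2 (h : St t0 v (Pt 8) 12 0 S8_2) : False := by
  obtain ⟨a, hb, hz, hip, hnorm, hnext⟩ := St.step d hd hgram htriv hdeg 7 h
  have h0 : a 0 = 0 := by simpa [trivL] using hz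
  have e0 := hip 0 (by decide)
  simp [Fin.sum_univ_succ, S8_2, gramL] at e0
  have e1 := hip 1 (by decide)
  simp [Fin.sum_univ_succ, S8_2, gramL] at e1
  have e2 := hip 2 (by decide)
  simp [Fin.sum_univ_succ, S8_2, gramL] at e2
  have e3 := hip 3 (by decide)
  simp [Fin.sum_univ_succ, S8_2, gramL] at e3
  have e8 := hip 8 (by decide)
  simp [Fin.sum_univ_succ, S8_2, gramL] at e8
  have e4 := hip 4 (by decide)
  simp [Fin.sum_univ_succ, S8_2, gramL] at e4
  have e5 := hip 5 (by decide)
  simp [Fin.sum_univ_succ, S8_2, gramL] at e5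
  have e6 := hip 6 (by decide)
  simp [Fin.sum_univ_succ, S8_2, gramL] at e6
  simp [Fin.sum_univ_succ, gramL] at hnorm
  have q0 := le_sq (a 0)
  have b1 := hb 1
  have q1 := le_sq (a 1)
  have b2 := hb 2
  have q2 := le_sq (a 2)
  have b3 := hb 3
  have q3 := le_sq (a 3)
  have b4 := hb 4
  have q4 := le_sq (a 4)
  have b5 := hb 5
  have q5 := le_sq (a 5)
  have b6 := hb 6
  have q6 := le_sq (a 6)
  have b7 := hb 7
  have q7 := le_sq (a 7)
  have b8 := hb 8
  have q8 := le_sq (a 8)
  have b9 := hb 9
  have q9 := le_sq (a 9)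
  have b10 := hb 10
  have q10 := le_sq (a 10)
  have b11 := hb 11
  have q11 := le_sq (a 11)
  rcases (show a 8 = -1 ∨ a 8 = 0 ∨ a 8 = 1 by omega) with h8 | h8 | h8
  · rcases (show a 10 = -1 ∨ a 10 = 0 ∨ a 10 = 1 by omega) with h10 | h10 | h10
    · rcases (show a 11 = -1 ∨ a 11 = 0 ∨ a 11 = 1 by omega) with h11 | h11 | h11
      · exfalso; omega
      · exfalso; omega
      · exfalso; omega
    · rcases (show a 11 = -1 ∨ a 11 = 0 ∨ a 11 = 1 by omega) with h11 | h11 | h11
      · exfalso; omega
      · exfalso; omega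
      · exfalso; omega
    · rcases (show a 11 = -1 ∨ a 11 = 0 ∨ a 11 = 1 by omega) with h11 | h11 | h11
      · exfalso; omega
      · exfalso; omega
      · exfalso; omega
  · rcases (show a 10 = -1 ∨ a 10 = 0 ∨ a 10 = 1 by omega) with h10 | h10 | h10
    · rcases (show a 11 = -1 ∨ a 11 = 0 ∨ a 11 = 1 by omega) with h11 | h11 | h11
      · exfalso; omega
      · exfalso; omega
      · exfalso; omega
    · rcases (show a 11 = -1 ∨ a 11 = 0 ∨ a 11 = 1 by omega) with h11 | h11 | h11
      · exfalso; omega
      · exfalso; omega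
      · exfalso; omega
    · rcases (show a 11 = -1 ∨ a 11 = 0 ∨ a 11 = 1 by omega) with h11 | h11 | h11
      · exfalso; omega
      · exfalso; omega
      · exfalso; omega
  · rcases (show a 10 = -1 ∨ a 10 = 0 ∨ a 10 = 1 by omega) with h10 | h10 | h10
    · rcases (show a 11 = -1 ∨ a 11 = 0 ∨ a 11 = 1 by omega) with h11 | h11 | h11
      · exfalso; omega
      · exfalso; omega
      · exfalso; omega
    · rcases (show a 11 = -1 ∨ a 11 = 0 ∨ a 11 = 1 by omega) with h11 | h11 | h11
      · exfalso; omega
      · exfalso; omega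
      · exfalso; omega
    · rcases (show a 11 = -1 ∨ a 11 = 0 ∨ a 11 = 1 by omega) with h11 | h11 | h11
      · exfalso; omega
      · exfalso; omega
      · exfalso; omega

end

end Cfsg.Agent.Lib.Helper9.Lc9
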