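import Cfsg.Agent.Lib.Helper9.Lc9C
import Cfsg.Agent.Lib.Helper9.Lc9D
import Cfsg.Agent.Lib.Helper9.Lc9E
import Cfsg.Agent.Lib.Helper9.Lc9F
import Cfsg.Agent.Lib.Helper9.Lc9H

/-! # S3702 (B): `lattice_classify` -/

set_option autoImplicit false
set_option linter.unusedSimpArgs false
set_option linter.unusedVariables false
set_option linter.unusedSectionVars false
set_option linter.unusedTactic false
set_option linter.unreachableTactic false
set_option linter.unnecessarySeqFocus false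
set_option maxRecDepth 4000
set_option maxHeartbeats 40000000

namespace Cfsg.Agent.Lib.Helper9.Lc9

open Cfsg.Agent.Lib.Helper2.Emb4

section

variable {ι : Type*} [Fintype ι] [DecidableEq ι] {t0 : ι} {v : Fin 9 → ι → ℤ}
  (d : ι → ℤ) (hd : ∀ χ, 0 < d χ)
  (hgram : ∀ i j : Fin 9, ∑ χ, v i χ * v j χ = gramL i j)
  (htriv : ∀ i : Fin 9, v i t0 = trivL i)
  (hdeg : ∀ i : Fin 9, ∑ χ, v i χ * d χ = 0)

include hd hgram htriv hdeg

theorem stage_1 : St t0 v (Pt 1) 3 0 S1_0 := by
  exact ext_0_0 d hd hgram htriv hdeg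

theorem stage_2 : St t0 v (Pt 2) 5 0 S2_0 := by
  have h := stage_1 d hd hgram htriv hdeg
  have h' := ext_1_0 d hd hgram htriv hdeg h
  simp only [h', or_true, true_or]

theorem stage_3 : St t0 v (Pt 3) 7 0 S3_0 ∨ St t0 v (Pt 3) 6 0 S3_1 := by
  have h := stage_2 d hd hgram htriv hdeg
  rcases ext_2_0 d hd hgram htriv hdeg h with h' | h'
  · simp only [h', or_true, true_or]
  · simp only [h', or_true, true_or]

theorem stage_4 : St t0 v (Pt 4) 8 0 S4_0 ∨ St t0 v (Pt 4) 7 0 S4_1 ∨ St t0 v (Pt 4) 6 0 S4_2 := by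
  rcases stage_3 d hd hgram htriv hdeg with h | h
  · have h' := ext_3_0 d hd hgram htriv hdeg h
    simp only [h', or_true, true_or]
  · rcases ext_3_1 d hd hgram htriv hdeg h with h' | h'
    · simp only [h', or_true, true_or]
    · simp only [h', or_true, true_or]

theorem stage_5 : St t0 v (Pt 5) 10 0 S5_0 ∨ St t0 v (Pt 5) 8 0 S5_1 ∨ St t0 v (Pt 5) 8 0 S5_2 ∨ St t0 v (Pt 5) 8 0 S5_3 ∨ St t0 v (Pt 5) 7 0 S5_4 ∨ St t0 v (Pt 5) 7 0 S5_5 ∨ St t0 v (Pt 5) 7 0 S5_6 := by
  rcases stage_4 d hd hgram htriv hdeg with h | h | h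
  · rcases ext_4_0 d hd hgram htriv hdeg h with h' | h' | h'
    · simp only [h', or_true, true_or]
    · simp only [h', or_true, true_or]
    · simp only [h', or_true, true_or]
  · rcases ext_4_1 d hd hgram htriv hdeg h with h' | h' | h'
    · simp only [h', or_true, true_or]
    · simp only [h', or_true, true_or]
    · simp only [h', or_true, true_or]
  · have h' := ext_4_2 d hd hgram htriv hdeg h
    simp only [h', or_true, true_or]

theorem stage_6 : St t0 v (Pt 6) 11 0 S6_0 ∨ St t0 v (Pt 6) 10 0 S6_1 ∨ St t0 v (Pt 6) 9 0 S6_2 ∨ St t0 v (Pt 6) 8 0 S6_3 := by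
  rcases stage_5 d hd hgram htriv hdeg with h | h | h | h | h | h | h
  · rcases ext_5_0 d hd hgram htriv hdeg h with h' | h'
    · simp only [h', or_true, true_or]
    · simp only [h', or_true, true_or]
  · exact (ext_5_1 d hd hgram htriv hdeg h).elim
  · have h' := ext_5_2 d hd hgram htriv hdeg h
    simp only [h', or_true, true_or]
  · have h' := ext_5_3 d hd hgram htriv hdeg h
    simp only [h', or_true, true_or]
  · exact (ext_5_4 d hd hgram htriv hdeg h).elim
  · exact (ext_5_5 d hd hgram htriv hdeg h).elim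
  · exact (ext_5_6 d hd hgram htriv hdeg h).elim

theorem stage_7 : St t0 v (Pt 7) 12 0 S7_0 ∨ St t0 v (Pt 7) 11 0 S7_1 ∨ St t0 v (Pt 7) 11 0 S7_2 ∨ St t0 v (Pt 7) 11 0 S7_3 ∨ St t0 v (Pt 7) 11 0 S7_4 := by
  rcases stage_6 d hd hgram htriv hdeg with h | h | h | h
  · rcases ext_6_0 d hd hgram htriv hdeg h with h' | h' | h'
    · simp only [h', or_true, true_or]
    · simp only [h', or_true, true_or]
    · simp only [h', or_true, true_or]
  · have h' := ext_6_1 d hd hgram htriv hdeg h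
    simp only [h', or_true, true_or]
  · have h' := ext_6_2 d hd hgram htriv hdeg h
    simp only [h', or_true, true_or]
  · exact (ext_6_3 d hd hgram htriv hdeg h).elim

theorem stage_8 : St t0 v (Pt 8) 13 0 S8_0 ∨ St t0 v (Pt 8) 12 0 S8_1 ∨ St t0 v (Pt 8) 12 0 S8_2 := by
  rcases stage_7 d hd hgram htriv hdeg with h | h | h | h | h
  · have h' := ext_7_0 d hd hgram htriv hdeg h
    simp only [h', or_true, true_or]
  · exact (ext_7_1 d hd hgram htriv hdeg h).elim
  · exact (ext_7_2 d hd hgram htriv hdeg h).elim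
  · have h' := ext_7_3 d hd hgram htriv hdeg h
    simp only [h', or_true, true_or]
  · have h' := ext_7_4 d hd hgram htriv hdeg h
    simp only [h', or_true, true_or]

theorem stage_9 : St t0 v (Pt 9) 14 0 S9_0 ∨ St t0 v (Pt 9) 13 0 S9_1 := by
  rcases stage_8 d hd hgram htriv hdeg with h | h | h
  · rcases ext_8_0 d hd hgram htriv hdeg h with h' | h'
    · simp only [h', or_true, true_or]
    · simp only [h', or_true, true_or]
  · exact (ext_8_1 d hd hgram htriv hdeg h).elim
  · exact (ext_8_2 d hd hgram htriv hdeg h).elim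

end

/-- helper2's (B): the two embeddings of the rank-9 lattice of S3702 -/
theorem lattice_classify {ι : Type*} [Fintype ι] [DecidableEq ι] (t0 : ι) (v : Fin 9 → ι → ℤ)
    (d : ι → ℤ) (hd : ∀ χ, 0 < d χ)
    (hgram : ∀ i j : Fin 9, ∑ χ, v i χ * v j χ = gramL i j)
    (htriv : ∀ i : Fin 9, v i t0 = trivL i)
    (hdeg : ∀ i : Fin 9, ∑ χ, v i χ * d χ = 0) :
    (∃ (X : Fin 14 → ι) (s : Fin 14 → ℤ), Function.Injective X ∧ (∀ c, s c = 1 ∨ s c = -1) ∧
        X 0 = t0 ∧ s 0 = 1 ∧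
        ∀ (i : Fin 9) (χ : ι), v i χ = ∑ c : Fin 14, if χ = X c then M0 i c * s c else 0) ∨
    (∃ (X : Fin 13 → ι) (s : Fin 13 → ℤ), Function.Injective X ∧ (∀ c, s c = 1 ∨ s c = -1) ∧
        X 0 = t0 ∧ s 0 = 1 ∧
        ∀ (i : Fin 9) (χ : ι), v i χ = ∑ c : Fin 13, if χ = X c then M1 i c * s c else 0) := by
  rcases stage_9 d hd hgram htriv hdeg with h | h
  · left
    have h2 := h.perm (P' := fun _ => True) (z' := 0) (S' := M0) ![0,8,6,3,4,10,1,11,2,12,13,9,5,7] (by decide +kernel) ![1,-1,-1,-1,-1,1,-1,1,1,1,1,1,1,1]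
      (by decide +kernel) (by decide +kernel) (by decide +kernel) (by decide +kernel) (by decide +kernel)
    obtain ⟨X, s, hinj, hs, hX, hs0, hv⟩ := h2
    exact ⟨X, s, hinj, hs, hX, hs0, fun i χ => hv i trivial χ⟩
  · right
    have h2 := h.perm (P' := fun _ => True) (z' := 0) (S' := M1) ![0,2,1,4,3,6,5,7,9,8,10,11,12] (by decide +kernel) ![1,1,1,1,1,1,1,1,1,1,1,1,1]
      (by decide +kernel) (by decide +kernel) (by decide +kernel) (by decide +kernel) (by decide +kernel)
    obtain ⟨X, s, hinj, hs, hX, hs0, hv⟩ := h2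
    exact ⟨X, s, hinj, hs, hX, hs0, fun i χ => hv i trivial χ⟩

end Cfsg.Agent.Lib.Helper9.Lc9
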