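import Cfsg.Agent.Lib.Helper9.FusionAut

set_option autoImplicit false

namespace Cfsg.Agent.Lib.Helper9

open Cfsg Cfsg.FusionSystem

variable {Ω : Type*} [Group Ω] {S : Subgroup Ω}

/-- composition of maps of the system, in a convenient form -/
theorem comp_hom (F : FusionSystem S) {P Q : Subgroup Ω} {φ : P →* Ω} {ψ : Q →* Ω}
    (hφ : φ ∈ F.Hom P) (hψ : ψ ∈ F.Hom Q) (h : ∀ x : P, φ x ∈ Q) :
    ∃ χ ∈ F.Hom P, ∀ x : P, χ x = ψ ⟨φ x, h x⟩ :=
  ⟨_, F.comp_mem hφ hψ h, fun _ => rfl⟩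

/-- the inverse of a map of the system onto its image `Q` -/
theorem inv_hom (F : FusionSystem S) {P Q : Subgroup Ω} {φ : P →* Ω} (hφ : φ ∈ F.Hom P)
    (hQ : φ.range = Q) :
    ∃ θ ∈ F.Hom Q, (∀ (x : P) (h : φ x ∈ Q), θ ⟨φ x, h⟩ = x) ∧ θ.range = P ∧
      (∀ y : Q, ∃ h : θ y ∈ P, φ ⟨θ y, h⟩ = y) := by
  subst hQ
  obtain ⟨θ, hθ, hθφ⟩ := F.inv_mem hφ
  refine ⟨θ, hθ, fun x _ => hθφ x, ?_, ?_⟩
  · apply le_antisymm
    · rintro _ ⟨⟨_, x, rfl⟩, rfl⟩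
      rw [hθφ x]
      exact x.2
    · intro x hx
      exact ⟨⟨φ ⟨x, hx⟩, ⟨⟨x, hx⟩, rfl⟩⟩, hθφ ⟨x, hx⟩⟩
  · rintro ⟨_, x, rfl⟩
    have h1 : θ ⟨φ x, ⟨x, rfl⟩⟩ = x := hθφ x
    refine ⟨by rw [h1]; exact x.2, ?_⟩
    show φ _ = φ x
    congr 1
    exact Subtype.ext h1

theorem isConj_refl (F : FusionSystem S) {P : Subgroup Ω} (hP : P ≤ S) : F.IsConj P P :=
  ⟨P.subtype, subtype_mem F hP, Subgroup.range_subtype P⟩

theorem isConj_symm (F : FusionSystem S) {P Q : Subgroup Ω} (h : F.IsConj P Q) : F.IsConj Q P := by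
  obtain ⟨φ, hφ, hQ⟩ := h
  obtain ⟨θ, hθ, -, hθr, -⟩ := inv_hom F hφ hQ
  exact ⟨θ, hθ, hθr⟩

theorem isConj_trans (F : FusionSystem S) {P Q R : Subgroup Ω} (h₁ : F.IsConj P Q)
    (h₂ : F.IsConj Q R) : F.IsConj P R := by
  obtain ⟨φ, hφ, hQ⟩ := h₁
  obtain ⟨ψ, hψ, hR⟩ := h₂
  have hmem : ∀ x : P, φ x ∈ Q := fun x => hQ.le ⟨x, rfl⟩
  refine ⟨_, F.comp_mem hφ hψ hmem, ?_⟩
  apply le_antisymm
  · rintro _ ⟨x, rfl⟩
    exact hR.le ⟨_, rfl⟩
  · intro z hz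
    obtain ⟨y, rfl⟩ := hR.ge hz
    obtain ⟨x, hx⟩ := hQ.ge y.2
    refine ⟨x, ?_⟩
    show ψ ⟨φ x, _⟩ = ψ y
    congr 1
    exact Subtype.ext hx

theorem isConj_le_left (F : FusionSystem S) {P Q : Subgroup Ω} (h : F.IsConj P Q) : P ≤ S := by
  obtain ⟨φ, hφ, -⟩ := h
  exact hom_le F hφ

theorem isConj_le_right (F : FusionSystem S) {P Q : Subgroup Ω} (h : F.IsConj P Q) : Q ≤ S := by
  obtain ⟨φ, hφ, rfl⟩ := h
  exact range_le F hφ

/-- The isomorphism `P ≃* Q` given by an injective homomorphism with image `Q`. -/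
noncomputable def equivOfRange {P Q : Subgroup Ω} (φ : P →* Ω) (hinj : Function.Injective φ)
    (hQ : φ.range = Q) : P ≃* Q :=
  MulEquiv.ofBijective (φ.codRestrict Q (fun x => hQ.le ⟨x, rfl⟩))
    ⟨fun a b hab => hinj (congrArg (fun z : Q => (z : Ω)) hab),
     fun y => by
      obtain ⟨x, hx⟩ := hQ.ge y.2
      exact ⟨x, Subtype.ext hx⟩⟩

theorem equivOfRange_apply {P Q : Subgroup Ω} (φ : P →* Ω) (hinj : Function.Injective φ)
    (hQ : φ.range = Q) (x : P) : ((equivOfRange φ hinj hQ x : Q) : Ω) = φ x := rfl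

theorem equivOfRange_symm_apply {P Q : Subgroup Ω} (φ : P →* Ω) (hinj : Function.Injective φ)
    (hQ : φ.range = Q) (y : Q) : φ ((equivOfRange φ hinj hQ).symm y) = y := by
  have := equivOfRange_apply φ hinj hQ ((equivOfRange φ hinj hQ).symm y)
  rw [MulEquiv.apply_symm_apply] at this
  exact this.symm

/-- A map of the system from `P` onto `P` gives an element of `Aut_F(P)`. -/
theorem exists_aut_of_hom (F : FusionSystem S) {P : Subgroup Ω} {φ : P →* Ω} (hφ : φ ∈ F.Hom P)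
    (hP : φ.range = P) : ∃ α ∈ F.autGroup P, ∀ x : P, ((α x : P) : Ω) = φ x := by
  refine ⟨equivOfRange φ (F.injective_of_mem hφ) hP, ?_, fun x => rfl⟩
  rw [mem_autGroup_iff F (hom_le F hφ)]
  have : P.subtype.comp (equivOfRange φ (F.injective_of_mem hφ) hP).toMonoidHom = φ := by
    ext x; rfl
  rw [this]
  exact hφ

theorem hom_of_mem_autGroup (F : FusionSystem S) {P : Subgroup Ω} (hP : P ≤ S) {α : MulAut P}
    (hα : α ∈ F.autGroup P) : P.subtype.comp α.toMonoidHom ∈ F.Hom P :=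
  (mem_autGroup_iff F hP α).mp hα

theorem finite_of_le [Finite S] {P : Subgroup Ω} (hP : P ≤ S) : Finite P :=
  Finite.of_injective (Subgroup.inclusion hP) (Subgroup.inclusion_injective hP)

theorem isPGroup_of_le {p : ℕ} (hS : IsPGroup p S) {P : Subgroup Ω} (hP : P ≤ S) : IsPGroup p P :=
  hS.of_injective (Subgroup.inclusion hP) (Subgroup.inclusion_injective hP)

end Cfsg.Agent.Lib.Helper9
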