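import Cfsg.Agent.Lib.Helper9.SubsystemExt

set_option autoImplicit false

namespace Cfsg.Agent.Lib.Helper9

open Cfsg Cfsg.FusionSystem

variable {Ω : Type*} [Group Ω] {S : Subgroup Ω}

/-- S5334 -/
theorem two_out_of_three [Finite S] (p : ℕ) [Fact p.Prime] (hS : IsPGroup p S)
    (F : FusionSystem S) (hF : F.IsSaturated p) (F' : FusionSystem S) (hF' : F'.IsSaturated p)
    (hle : F' ≤ F) (Q R : Subgroup Ω) (hQ : F.IsCentric Q) (_hR : F.IsCentric R)
    (φ : ↥Q →* Ω) (hφ : φ ∈ F.Hom Q) (hφR : ∀ x : Q, φ x ∈ R) (ψ : ↥R →* Ω) (hψ : ψ ∈ F.Hom R) :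
    (φ ∈ F'.Hom Q → ψ ∈ F'.Hom R → ψ.comp (φ.codRestrict R hφR) ∈ F'.Hom Q) ∧
    (ψ ∈ F'.Hom R → ψ.comp (φ.codRestrict R hφR) ∈ F'.Hom Q → φ ∈ F'.Hom Q) ∧
    (φ ∈ F'.Hom Q → ψ.comp (φ.codRestrict R hφR) ∈ F'.Hom Q → ψ ∈ F'.Hom R) := by
  refine ⟨fun h1 h2 => F'.comp_mem h1 h2 hφR, ?_, ?_⟩
  · intro hψ' hc
    obtain ⟨θ, hθ, hθψ, -, -⟩ := inv_hom F' hψ' rfl
    have h1 : ∀ x : Q, (ψ.comp (φ.codRestrict R hφR)) x ∈ ψ.range := fun x => ⟨_, rfl⟩
    obtain ⟨χ, hχ, hχe⟩ := comp_hom F' hc hθ h1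
    have : χ = φ := by
      ext x
      rw [hχe]
      exact hθψ ⟨φ x, hφR x⟩ _
    rw [← this]
    exact hχ
  · intro hφ' hc
    have hQ₁R : φ.range ≤ R := by
      rintro _ ⟨x, rfl⟩
      exact hφR x
    have hQ₁c : F.IsCentric φ.range := centric_of_isConj F hQ ⟨φ, hφ, rfl⟩
    obtain ⟨θ, hθ, hθφ, hθr, hφθ⟩ := inv_hom F' hφ' rfl
    have h1 : ∀ y : φ.range, θ y ∈ Q := fun y => hθr.le ⟨y, rfl⟩
    obtain ⟨χ, hχ, hχe⟩ := comp_hom F' hθ hc h1
    have : ψ.comp (Subgroup.inclusion hQ₁R) = χ := by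
      ext y
      rw [hχe]
      obtain ⟨h2, h3⟩ := hφθ y
      show ψ (Subgroup.inclusion hQ₁R y) = ψ ⟨φ ⟨θ y, h1 y⟩, hφR _⟩
      congr 1
      apply Subtype.ext
      exact h3.symm
    apply hom_mem_of_restrict_mem hS F hF F' hF' hle _ R φ.range hQ₁R hQ₁c rfl ψ hψ
    rw [this]
    exact hχ

theorem centric_top [Finite S] (F : FusionSystem S) : F.IsCentric S := by
  refine ⟨le_rfl, fun Q hQ => ?_⟩
  have hQS := isConj_le_right F hQ
  have hcard := card_eq_of_isConj F hQ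
  have : Q = S := Subgroup.eq_of_le_of_card_ge hQS hcard.le
  rw [this]
  exact inf_le_left

/-- every centric subgroup contains a minimal centric subgroup -/
theorem exists_minimal_centric [Finite S] (F : FusionSystem S) {P : Subgroup Ω}
    (hP : F.IsCentric P) :
    ∃ Q : Subgroup Ω, Q ≤ P ∧ F.IsCentric Q ∧ ∀ R : Subgroup Ω, R < Q → ¬ F.IsCentric R := by
  have hfin : Finite P := finite_of_le hP.1
  have key : ∀ n : ℕ, ∀ P : Subgroup Ω, F.IsCentric P → Nat.card P = n →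
      ∃ Q : Subgroup Ω, Q ≤ P ∧ F.IsCentric Q ∧ ∀ R : Subgroup Ω, R < Q → ¬ F.IsCentric R := by
    intro n
    induction n using Nat.strong_induction_on with
    | _ n ih =>
      intro P hP hn
      by_cases hmin : ∀ R : Subgroup Ω, R < P → ¬ F.IsCentric R
      · exact ⟨P, le_rfl, hP, hmin⟩
      · push Not at hmin
        obtain ⟨R, hRP, hR⟩ := hmin
        have hfinP : Finite P := finite_of_le hP.1
        obtain ⟨Q, hQR, hQ, hQmin⟩ := ih (Nat.card R) (hn ▸ card_lt_of_lt' hRP) R hR rfl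
        exact ⟨Q, hQR.trans hRP.le, hQ, hQmin⟩
  exact key _ P hP rfl

/-- S5335 -/
theorem eq_of_agree_on_minimal_centric [Finite S] (p : ℕ) [Fact p.Prime] (hS : IsPGroup p S)
    (F : FusionSystem S) (hF : F.IsSaturated p) (F' : FusionSystem S) (hF' : F'.IsSaturated p)
    (hle : F' ≤ F)
    (hmin : ∀ Q : Subgroup Ω, F.IsCentric Q → (∀ R : Subgroup Ω, R < Q → ¬ F.IsCentric R) →
      F.Hom Q = F'.Hom Q) (P : Subgroup Ω) : F.Hom P = F'.Hom P := by
  have hFF' : F ≤ F' := by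
    apply alperin p hS F hF
    intro P hP
    have hPc : F.IsCentric P := by
      rcases hP with rfl | hP
      · exact centric_top F
      · exact hP.1
    have hPS := hPc.1
    intro α hα
    rw [mem_autGroup_iff _ hPS]
    have hφ := hom_of_mem_autGroup F hPS hα
    obtain ⟨Q, hQP, hQ, hQmin⟩ := exists_minimal_centric F hPc
    apply hom_mem_of_restrict_mem hS F hF F' hF' hle _ P Q hQP hQ rfl _ hφ
    rw [← hmin Q hQ hQmin]
    exact restrict_mem F hφ hQP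
  exact Set.Subset.antisymm (hFF' P) (hle P)

end Cfsg.Agent.Lib.Helper9
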