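import Mathlib

/-!
HIG farm (S3050), unit US1: the conjugation action of `G/Q ≃ S` on an abelian normal subgroup `A`
centralised by `Q`.
-/

namespace Cfsg.Agent.Lib.Helper9.HIGS1

/-- conjugation by `g` on a normal subgroup `A`, as a map of `Additive A`. -/
def conjFun {G : Type*} [Group G] (A : Subgroup G) [hA : A.Normal] (g : G) (a : Additive ↥A) :
    Additive ↥A :=
  Additive.ofMul (⟨g * ((Additive.toMul a : ↥A) : G) * g⁻¹,
    hA.conj_mem _ (Additive.toMul a : ↥A).2 g⟩ : ↥A)

theorem conjFun_add {G : Type*} [Group G] (A : Subgroup G) [hA : A.Normal] (g : G)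
    (a b : Additive ↥A) : conjFun A g (a + b) = conjFun A g a + conjFun A g b := by
  obtain ⟨a, rfl⟩ := Additive.ofMul.surjective a
  obtain ⟨b, rfl⟩ := Additive.ofMul.surjective b
  show Additive.ofMul _ = Additive.ofMul (_ * _)
  apply congrArg Additive.ofMul
  apply Subtype.ext
  show g * ((a : G) * (b : G)) * g⁻¹ = g * (a : G) * g⁻¹ * (g * (b : G) * g⁻¹)
  group

/-- conjugation of `G` on a normal subgroup `A`, as additive endomorphisms of `Additive A`. -/
def conjEnd {G : Type*} [Group G] (A : Subgroup G) [hA : A.Normal] :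
    G →* AddMonoid.End (Additive ↥A) where
  toFun g := AddMonoidHom.mk' (conjFun A g) (conjFun_add A g)
  map_one' := by
    ext a
    obtain ⟨a, rfl⟩ := Additive.ofMul.surjective a
    show 1 * (a : G) * 1⁻¹ = a
    group
  map_mul' g h := by
    ext a
    obtain ⟨a, rfl⟩ := Additive.ofMul.surjective a
    show g * h * (a : G) * (g * h)⁻¹ = g * (h * (a : G) * h⁻¹) * g⁻¹
    group

theorem conjEnd_apply {G : Type*} [Group G] (A : Subgroup G) [hA : A.Normal] (g : G) (a : ↥A) :
    conjEnd A g (Additive.ofMul a) =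
      Additive.ofMul (⟨g * (a : G) * g⁻¹, hA.conj_mem a a.2 g⟩ : ↥A) := rfl

open scoped IsMulCommutative in
/-- US1: the conjugation action of `G/Q ≃ S` on an abelian normal subgroup `A` centralised by `Q`. -/
theorem exists_subAct {G : Type*} [Group G] {S : Type*} [Group S] (Q : Subgroup G) [Q.Normal]
    (e : G ⧸ Q ≃* S) (A : Subgroup G) [hA : A.Normal] [IsMulCommutative ↥A]
    (hQA : ∀ q ∈ Q, ∀ a ∈ A, q * a = a * q) :
    ∃ ρ : S →* AddMonoid.End (Additive ↥A), ∀ (g : G) (a : ↥A),
      ρ (e (QuotientGroup.mk g)) (Additive.ofMul a) =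
        Additive.ofMul (⟨g * (a : G) * g⁻¹, hA.conj_mem a a.2 g⟩ : ↥A) := by
  have hker : ∀ q ∈ Q, conjEnd A q = 1 := by
    intro q hq
    ext a
    obtain ⟨a, rfl⟩ := Additive.ofMul.surjective a
    show q * (a : G) * q⁻¹ = a
    rw [hQA q hq a a.2, mul_inv_cancel_right]
  refine ⟨(QuotientGroup.lift Q (conjEnd A) hker).comp e.symm.toMonoidHom, ?_⟩
  intro g a
  have : ((QuotientGroup.lift Q (conjEnd A) hker).comp e.symm.toMonoidHom)
      (e (QuotientGroup.mk g)) = conjEnd A g := by
    rw [MonoidHom.comp_apply]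
    show (QuotientGroup.lift Q (conjEnd A) hker) (e.symm (e (QuotientGroup.mk g))) = _
    rw [MulEquiv.symm_apply_apply]
    rfl
  rw [this, conjEnd_apply]

end Cfsg.Agent.Lib.Helper9.HIGS1
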