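import Mathlib

/-!
HIG farm (S3050), unit US2c: `Ω₁(Z(Q))` as a normal subgroup of `G`.
-/

namespace Cfsg.Agent.Lib.Helper9.HIGS2c

/-- US2c: `Ω₁(Z(Q))` as a normal subgroup of `G`. -/
theorem exists_central_elem {G : Type*} [Group G] [Finite G] (Q : Subgroup G) [Q.Normal]
    (hQ : IsPGroup 2 ↥Q) (hQ1 : Q ≠ ⊥) :
    ∃ Z : Subgroup G, Z.Normal ∧ Z ≤ Q ∧ Z ≠ ⊥ ∧ (∀ z ∈ Z, ∀ q ∈ Q, q * z = z * q) ∧
      ∀ z ∈ Z, z ^ 2 = 1 := by
  classical
  have hQn : Q.Normal := inferInstance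
  let Z : Subgroup G :=
    { carrier := {z | z ∈ Q ∧ z ^ 2 = 1 ∧ ∀ q ∈ Q, q * z = z * q}
      one_mem' := ⟨Q.one_mem, one_pow 2, fun q _ => by simp⟩
      mul_mem' := by
        rintro a b ⟨ha, ha2, hac⟩ ⟨hb, hb2, hbc⟩
        refine ⟨Q.mul_mem ha hb, ?_, ?_⟩
        · have hab : a * b = b * a := hbc a ha
          calc (a * b) ^ 2 = a * (b * a) * b := by rw [pow_two]; group
            _ = a * (a * b) * b := by rw [hab]
            _ = a ^ 2 * b ^ 2 := by rw [pow_two, pow_two]; group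
            _ = 1 := by rw [ha2, hb2, one_mul]
        · intro q hq
          rw [← mul_assoc, hac q hq, mul_assoc, hbc q hq, mul_assoc]
      inv_mem' := by
        rintro a ⟨ha, ha2, hac⟩
        refine ⟨Q.inv_mem ha, by rw [inv_pow, ha2, inv_one], ?_⟩
        intro q hq
        have h := hac q hq
        calc q * a⁻¹ = a⁻¹ * (a * q) * a⁻¹ := by group
          _ = a⁻¹ * (q * a) * a⁻¹ := by rw [h]
          _ = a⁻¹ * q := by group }
  have hmem : ∀ z, z ∈ Z ↔ z ∈ Q ∧ z ^ 2 = 1 ∧ ∀ q ∈ Q, q * z = z * q := fun z => Iff.rfl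
  refine ⟨Z, ?_, ?_, ?_, ?_, ?_⟩
  · constructor
    intro z hz g
    obtain ⟨hzQ, hz2, hzc⟩ := (hmem z).1 hz
    refine (hmem _).2 ⟨hQn.conj_mem z hzQ g, ?_, ?_⟩
    · rw [conj_pow, hz2, mul_one, mul_inv_cancel]
    · intro q hq
      have h1 : g⁻¹ * q * g ∈ Q := by
        have := hQn.conj_mem q hq g⁻¹
        rwa [inv_inv] at this
      have h2 := hzc _ h1
      calc q * (g * z * g⁻¹) = g * ((g⁻¹ * q * g) * z) * g⁻¹ := by group
        _ = g * (z * (g⁻¹ * q * g)) * g⁻¹ := by rw [h2]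
        _ = g * z * g⁻¹ * q := by group
  · intro z hz
    exact ((hmem z).1 hz).1
  · -- nontrivial
    haveI : Nontrivial ↥Q := (Subgroup.nontrivial_iff_ne_bot Q).2 hQ1
    haveI : Nontrivial (Subgroup.center ↥Q) := hQ.center_nontrivial
    have hC : IsPGroup 2 (Subgroup.center ↥Q) := hQ.to_subgroup _
    haveI : Fact (Nat.Prime 2) := ⟨Nat.prime_two⟩
    have hdvd : 2 ∣ Nat.card (Subgroup.center ↥Q) := by
      rcases hC.card_eq_or_dvd with h | h
      · exact absurd h (by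
          have := Finite.one_lt_card (α := Subgroup.center ↥Q)
          omega)
      · exact h
    obtain ⟨c, hc⟩ := exists_prime_orderOf_dvd_card' 2 hdvd
    intro hbot
    have hcZ : ((c : ↥Q) : G) ∈ Z := by
      refine (hmem _).2 ⟨(c : ↥Q).2, ?_, ?_⟩
      · have : c ^ 2 = 1 := by rw [← hc]; exact pow_orderOf_eq_one c
        have h' := congrArg (fun t : Subgroup.center ↥Q => ((t : ↥Q) : G)) this
        simpa using h'
      · intro q hq
        have := Subgroup.mem_center_iff.1 c.2 ⟨q, hq⟩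
        have h' := congrArg (fun t : ↥Q => (t : G)) this
        simpa using h'
    rw [hbot, Subgroup.mem_bot] at hcZ
    have hc1 : c = 1 := by
      apply Subtype.ext; apply Subtype.ext; simpa using hcZ
    rw [hc1, orderOf_one] at hc
    omega
  · intro z hz q hq
    exact ((hmem z).1 hz).2.2 q hq
  · intro z hz
    exact ((hmem z).1 hz).2.1

end Cfsg.Agent.Lib.Helper9.HIGS2c
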