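import Mathlib
import Cfsg.Agent.Lib.Helper9.GH5M
import Cfsg.Agent.Lib.Helper1.GH5U7c

set_option autoImplicit false
set_option linter.unusedVariables false
set_option linter.unusedSectionVars false
set_option linter.style.longLine false

/-! GH5 (S3106), second layer: a normal subgroup `A ≤ Q` of `Y`, central in `Q`, of exponent 2 and of
order `< 16`, is central in `Y` when `Y ⧸ Q ≃* A₅`. -/

namespace Cfsg.Agent.Lib.Helper9.GH5Cen

open Cfsg.Agent.Lib.Helper9.GH5M
open Cfsg.Agent.Lib.Helper1.GH5U7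

universe u

theorem central_of_small {Y : Type u} [Group Y] [Finite Y] (Q A : Subgroup Y) [hQn : Q.Normal]
    [hAn : A.Normal] (e : Y ⧸ Q ≃* ↥(alternatingGroup (Fin 5))) (hAQ : A ≤ Q)
    (hc : ∀ a ∈ A, ∀ q ∈ Q, a * q = q * a) (hexp : ∀ a ∈ A, a * a = 1)
    (hcard : Nat.card ↥A < 16) : ∀ a ∈ A, ∀ y : Y, y * a * y⁻¹ = a := by
  obtain ⟨Wt, iW, fW, ρW, πW, hW2, hπWb, hπWa, hρW, hcardW⟩ :=
    exists_central_module Q A hc hAQ hexp
  have hle : Nat.card Wt ≤ 16 := by rw [hcardW]; exact hcard.le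
  rcases f1 e hW2 ρW hle with htriv | ⟨h16, _⟩
  · intro a ha y
    have hmem : y * a * y⁻¹ ∈ A := hAn.conj_mem _ ha y
    have h1 := hρW y ⟨a, ha⟩ hmem
    rw [htriv] at h1
    exact (congrArg Subtype.val (hπWb.1 h1)).symm
  · exfalso
    rw [hcardW] at h16
    omega

/-- the same with the conclusion in commuting form -/
theorem central_of_small' {Y : Type u} [Group Y] [Finite Y] (Q A : Subgroup Y) [hQn : Q.Normal]
    [hAn : A.Normal] (e : Y ⧸ Q ≃* ↥(alternatingGroup (Fin 5))) (hAQ : A ≤ Q)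
    (hc : ∀ a ∈ A, ∀ q ∈ Q, a * q = q * a) (hexp : ∀ a ∈ A, a * a = 1)
    (hcard : Nat.card ↥A < 16) : ∀ a ∈ A, ∀ y : Y, a * y = y * a := by
  intro a ha y
  have := central_of_small Q A e hAQ hc hexp hcard a ha y
  calc a * y = (y * a * y⁻¹) * y := by rw [this]
    _ = y * a := by group

end Cfsg.Agent.Lib.Helper9.GH5Cen
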