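import Mathlib
import Cfsg.Agent.Lib.Helper9.GH5M
import Cfsg.Agent.Lib.Helper6.GH5R
import Cfsg.Agent.Lib.Helper2.GH5Core
import Cfsg.Agent.Lib.Helper7.GH5BRA

set_option autoImplicit false
set_option linter.unusedVariables false
set_option linter.unusedSectionVars false
set_option linter.style.longLine false

/-! GH5 (S3106): wrappers (V1) `ρV` injective, (V2) `|V| = 16`, (Wd) the `W`-dichotomy, stated about the
opened data of helper1's `exists_layer`, and `CardVStmt` verbatim. -/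

namespace Cfsg.Agent.Lib.Helper9.GH5V

open Cfsg.Agent.Lib.Helper9.GH5M
open scoped commutatorElement

universe u

section V

variable {Y : Type*} [Group Y] (Q W : Subgroup Y) [hQn : Q.Normal]
  {V : Type*} [AddCommGroup V] (ρV : (Y ⧸ Q) →* AddMonoid.End V) (πV : ↥Q → V)

theorem piV_one (hπVa : ∀ a b : ↥Q, πV (a * b) = πV a + πV b) : πV 1 = 0 := by
  have := hπVa 1 1
  rw [mul_one] at this
  have h2 : πV 1 + 0 = πV 1 + πV 1 := by rw [add_zero]; exact this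
  exact (add_left_cancel h2).symm

theorem piV_inv (hV2 : ∀ u : V, u + u = 0) (hπVa : ∀ a b : ↥Q, πV (a * b) = πV a + πV b)
    (a : ↥Q) : πV a⁻¹ = πV a := by
  have := hπVa a a⁻¹
  rw [mul_inv_cancel, piV_one Q πV hπVa] at this
  have h2 : πV a + πV a⁻¹ = πV a + πV a := by rw [← this, hV2]
  exact add_left_cancel h2

/-- if `mk y` acts trivially on `V` then `y` centralises `Q` modulo `W` -/
theorem comm_mem_of_fix (hV2 : ∀ u : V, u + u = 0)
    (hπVa : ∀ a b : ↥Q, πV (a * b) = πV a + πV b)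
    (hπV0 : ∀ a : ↥Q, πV a = 0 ↔ (a : Y) ∈ W)
    (hρV : ∀ (y : Y) (q : ↥Q) (h : y * q * y⁻¹ ∈ Q),
      ρV (QuotientGroup.mk y) (πV q) = πV ⟨y * q * y⁻¹, h⟩)
    (y : Y) (hy : ∀ v, ρV (QuotientGroup.mk y) v = v) :
    ∀ a ∈ Q, y * a * y⁻¹ * a⁻¹ ∈ W := by
  intro q hq
  have hmem : y * q * y⁻¹ ∈ Q := hQn.conj_mem _ hq y
  have h1 := hρV y ⟨q, hq⟩ hmem
  rw [hy] at h1
  have h2 : πV (⟨y * q * y⁻¹, hmem⟩ * (⟨q, hq⟩ : ↥Q)⁻¹) = 0 := by
    rw [hπVa, piV_inv Q πV hV2 hπVa, ← h1, hV2]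
  have h3 := (hπV0 _).mp h2
  simpa using h3

/-- (V1) `ρV` is injective. -/
theorem rhoV_injective (hV2 : ∀ u : V, u + u = 0)
    (hπVa : ∀ a b : ↥Q, πV (a * b) = πV a + πV b)
    (hπV0 : ∀ a : ↥Q, πV a = 0 ↔ (a : Y) ∈ W)
    (hρV : ∀ (y : Y) (q : ↥Q) (h : y * q * y⁻¹ ∈ Q),
      ρV (QuotientGroup.mk y) (πV q) = πV ⟨y * q * y⁻¹, h⟩)
    (hfaith : ∀ g : Y, (∀ a ∈ Q, g * a * g⁻¹ * a⁻¹ ∈ W) → g ∈ Q) :
    Function.Injective ρV := by
  rw [injective_iff_map_eq_one]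
  intro g hg
  obtain ⟨y, rfl⟩ := QuotientGroup.mk_surjective g
  rw [QuotientGroup.eq_one_iff]
  apply hfaith
  apply comm_mem_of_fix Q W ρV πV hV2 hπVa hπV0 hρV y
  intro v
  rw [hg]; rfl

/-- (V2) `|V| = 16`. -/
theorem card_V [Finite Y] [Finite V] (hWQ : W ≤ Q) (hr : Cfsg.SectionalPRankLE 2 4 Y)
    (e : Y ⧸ Q ≃* ↥(alternatingGroup (Fin 5)))
    (hV2 : ∀ u : V, u + u = 0)
    (hπVa : ∀ a b : ↥Q, πV (a * b) = πV a + πV b)
    (hπV0 : ∀ a : ↥Q, πV a = 0 ↔ (a : Y) ∈ W)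
    (hρV : ∀ (y : Y) (q : ↥Q) (h : y * q * y⁻¹ ∈ Q),
      ρV (QuotientGroup.mk y) (πV q) = πV ⟨y * q * y⁻¹, h⟩)
    (hcardV : Nat.card V * Nat.card ↥W = Nat.card ↥Q)
    (hfaith : ∀ g : Y, (∀ a ∈ Q, g * a * g⁻¹ * a⁻¹ ∈ W) → g ∈ Q) :
    Nat.card V = 16 := by
  have hinv := piV_inv Q πV hV2 hπVa
  -- commutators and squares of `Q` lie in `W`
  have hcomm : ∀ x ∈ Q, ∀ y ∈ Q, ⁅x, y⁆ ∈ W := by
    intro x hx y hy
    have h1 : πV (⟨x, hx⟩ * ⟨y, hy⟩ * (⟨x, hx⟩ : ↥Q)⁻¹ * (⟨y, hy⟩ : ↥Q)⁻¹) = 0 := by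
      rw [hπVa, hπVa, hπVa, hinv, hinv]
      have : πV ⟨x, hx⟩ + πV ⟨y, hy⟩ + πV ⟨x, hx⟩ + πV ⟨y, hy⟩ =
          (πV ⟨x, hx⟩ + πV ⟨x, hx⟩) + (πV ⟨y, hy⟩ + πV ⟨y, hy⟩) := by abel
      rw [this, hV2, hV2, add_zero]
    have h2 := (hπV0 _).mp h1
    rw [commutatorElement_def]
    simpa using h2
  have hsq : ∀ x ∈ Q, x ^ 2 ∈ W := by
    intro x hx
    have h1 : πV (⟨x, hx⟩ * ⟨x, hx⟩) = 0 := by rw [hπVa, hV2]
    have h2 := (hπV0 _).mp h1
    rw [pow_two]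
    simpa using h2
  have hle : W.relIndex Q ≤ 2 ^ 4 :=
    Cfsg.Agent.Lib.Helper6.GH5.relIndex_le_of_sectional hr W Q hcomm hsq
  have hmul : Nat.card ↥W * W.relIndex Q = Nat.card ↥Q := by
    have := Subgroup.relIndex_mul_relIndex ⊥ W Q bot_le hWQ
    rwa [Subgroup.relIndex_bot_left, Subgroup.relIndex_bot_left] at this
  have hWpos : 0 < Nat.card ↥W := Nat.card_pos
  have hVle : Nat.card V ≤ 16 := by
    have h1 : Nat.card V * Nat.card ↥W = W.relIndex Q * Nat.card ↥W := by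
      rw [hcardV, ← hmul, mul_comm]
    have h2 := Nat.eq_of_mul_eq_mul_right hWpos h1
    rw [h2]; exact hle
  haveI : Finite (Y ⧸ Q) := inferInstance
  rcases f1 e hV2 ρV hVle with htriv | ⟨h16, _⟩
  · exfalso
    haveI : Fact (Nat.Prime 3) := ⟨by norm_num⟩
    obtain ⟨g, hg⟩ := exists_orderOf e 3 (by norm_num)
    obtain ⟨y, rfl⟩ := QuotientGroup.mk_surjective g
    have hyQ : y ∈ Q := hfaith y
      (comm_mem_of_fix Q W ρV πV hV2 hπVa hπV0 hρV y (fun v => htriv _ v))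
    have h1 : (QuotientGroup.mk y : Y ⧸ Q) = 1 := (QuotientGroup.eq_one_iff y).mpr hyQ
    rw [h1, orderOf_one] at hg
    norm_num at hg
  · exact h16

end V

section Wd

variable {Y : Type*} [Group Y] (Q W : Subgroup Y) [hQn : Q.Normal] [hWn : W.Normal]
  {Wt : Type*} [AddCommGroup Wt] (ρW : (Y ⧸ Q) →* AddMonoid.End Wt) (πW : ↥W → Wt)

/-- (Wd) the `W`-dichotomy: a minimal normal `W`, as a module `Wt` for `Y ⧸ Q ≃* A₅`, is trivial of
order 2 or faithful of order 16. -/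
theorem W_dichotomy [Finite Y] [Finite Wt] (hr : Cfsg.SectionalPRankLE 2 4 Y)
    (e : Y ⧸ Q ≃* ↥(alternatingGroup (Fin 5)))
    (hW2 : ∀ w : Wt, w + w = 0)
    (hπWb : Function.Bijective πW) (hπWa : ∀ a b : ↥W, πW (a * b) = πW a + πW b)
    (hρW : ∀ (y : Y) (w : ↥W) (h : y * w * y⁻¹ ∈ W),
      ρW (QuotientGroup.mk y) (πW w) = πW ⟨y * w * y⁻¹, h⟩)
    (hcardW : Nat.card Wt = Nat.card ↥W)
    (hWne : W ≠ ⊥) (hmin : ∀ M : Subgroup Y, M.Normal → M ≤ W → M = ⊥ ∨ M = W) :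
    (Nat.card Wt = 2 ∧ ∀ g w, ρW g w = w) ∨ (Nat.card Wt = 16 ∧ Function.Injective ρW) := by
  have hπW_one : πW 1 = 0 := by
    have := hπWa 1 1
    rw [mul_one] at this
    have h2 : πW 1 + 0 = πW 1 + πW 1 := by rw [add_zero]; exact this
    exact (add_left_cancel h2).symm
  -- `W` is abelian of exponent 2
  have hWc : ∀ a b : ↥W, a * b = b * a := by
    intro a b
    apply hπWb.1
    rw [hπWa, hπWa, add_comm]
  have hWsq : ∀ a : ↥W, a * a = 1 := by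
    intro a
    apply hπWb.1
    rw [hπWa, hW2, hπW_one]
  have hcomm : ∀ x ∈ W, ∀ y ∈ W, ⁅x, y⁆ ∈ (⊥ : Subgroup Y) := by
    intro x hx y hy
    rw [Subgroup.mem_bot, commutatorElement_def]
    have := congrArg Subtype.val (hWc ⟨x, hx⟩ ⟨y, hy⟩)
    simp only [Subgroup.coe_mul] at this
    rw [this]; group
  have hsq : ∀ x ∈ W, x ^ 2 ∈ (⊥ : Subgroup Y) := by
    intro x hx
    rw [Subgroup.mem_bot, pow_two]
    have := congrArg Subtype.val (hWsq ⟨x, hx⟩)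
    simpa using this
  have hle : (⊥ : Subgroup Y).relIndex W ≤ 2 ^ 4 :=
    Cfsg.Agent.Lib.Helper6.GH5.relIndex_le_of_sectional hr ⊥ W hcomm hsq
  rw [Subgroup.relIndex_bot_left] at hle
  have hWtle : Nat.card Wt ≤ 16 := by rw [hcardW]; exact hle
  rcases f1 e hW2 ρW hWtle with htriv | h16
  · left
    refine ⟨?_, htriv⟩
    -- every element of `W` is central in `Y`
    have hcen : ∀ w ∈ W, ∀ y : Y, y * w * y⁻¹ = w := by
      intro w hw y
      have hmem : y * w * y⁻¹ ∈ W := hWn.conj_mem _ hw y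
      have h1 := hρW y ⟨w, hw⟩ hmem
      rw [htriv] at h1
      exact (congrArg Subtype.val (hπWb.1 h1)).symm
    obtain ⟨w, hw, hw1⟩ : ∃ w ∈ W, w ≠ 1 := by
      by_contra hcon
      push_neg at hcon
      apply hWne
      rw [eq_bot_iff]
      intro x hx
      rw [Subgroup.mem_bot]
      exact hcon x hx
    have hMn : (Subgroup.zpowers w).Normal := by
      constructor
      intro n hn y
      obtain ⟨k, rfl⟩ := hn
      have : y * w ^ k * y⁻¹ = (y * w * y⁻¹) ^ k := by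
        rw [conj_zpow]
      rw [this, hcen w hw y]
      exact ⟨k, rfl⟩
    have hMle : Subgroup.zpowers w ≤ W := by
      rw [Subgroup.zpowers_le]; exact hw
    have hMW : Subgroup.zpowers w = W := by
      rcases hmin _ hMn hMle with h | h
      · exfalso
        apply hw1
        have : w ∈ Subgroup.zpowers w := Subgroup.mem_zpowers w
        rw [h, Subgroup.mem_bot] at this
        exact this
      · exact h
    have hww : w * w = 1 := by
      have := congrArg Subtype.val (hWsq ⟨w, hw⟩)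
      simpa using this
    have hord : orderOf w = 2 := by
      apply orderOf_eq_prime
      · rw [pow_two]; exact hww
      · exact hw1
    rw [hcardW, ← hMW, Nat.card_zpowers, hord]
  · right
    exact h16

end Wd

section cardV

open Cfsg.Agent.Lib.Helper2.GH5
open Cfsg.Agent.Lib.Helper3.A8Emb (sqSub sqSub_le)

/-- `CardVStmt` verbatim: `|Q| = 16 |sqSub Q|`. -/
theorem cardV : CardVStmt.{u} := by
  intro G _ _ Q _ hD
  obtain ⟨ρV, hM, _⟩ := Cfsg.Agent.Lib.Helper7.GH5BRA.BRA_exists_rhoV Q hD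
  have h1 := Subgroup.card_eq_card_quotient_mul_card_subgroup ((sqSub Q).subgroupOf Q)
  rw [hM.card] at h1
  have h2 : Nat.card ((sqSub Q).subgroupOf Q) = Nat.card (sqSub Q) :=
    Nat.card_congr (Subgroup.subgroupOfEquivOfLe (sqSub_le Q)).toEquiv
  rw [h1, h2]

end cardV

end Cfsg.Agent.Lib.Helper9.GH5V
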