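import Mathlib

set_option autoImplicit false

/-! Plain loops over `Fin n` (universal quantifier, sums, counting) that the kernel evaluates
cheaply, with their specifications. -/

namespace Cfsg.Agent.Lib.Helper9.BL

/-- Boolean universal quantifier over `Fin n`, evaluated by a plain loop -/
def allF {n : ℕ} (p : Fin n → Bool) : Bool :=
  Nat.rec true (fun i acc => (if h : i < n then p ⟨i, h⟩ else true) && acc) n

theorem allF_iff {n : ℕ} (p : Fin n → Bool) : allF p = true ↔ ∀ i, p i = true := by
  unfold allF
  have key : ∀ m : ℕ, (Nat.rec true (fun i acc => (if h : i < n then p ⟨i, h⟩ else true) && acc) m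
      : Bool) = true ↔ ∀ i : Fin n, i.val < m → p i = true := by
    intro m
    induction m with
    | zero => simp
    | succ m ih =>
      show ((if h : m < n then p ⟨m, h⟩ else true) && (Nat.rec true
        (fun i acc => (if h : i < n then p ⟨i, h⟩ else true) && acc) m : Bool)) = true ↔ _
      rw [Bool.and_eq_true, ih]
      constructor
      · rintro ⟨h1, h2⟩ i hi
        rcases Nat.lt_succ_iff_lt_or_eq.mp hi with h3 | h3
        · exact h2 i h3
        · have hm : m < n := h3 ▸ i.isLt
          rw [dif_pos hm] at h1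
          have : i = ⟨m, hm⟩ := Fin.ext h3
          rw [this]; exact h1
      · intro h
        refine ⟨?_, fun i hi => h i (Nat.lt_succ_of_lt hi)⟩
        by_cases hm : m < n
        · rw [dif_pos hm]; exact h ⟨m, hm⟩ (Nat.lt_succ_self m)
        · rw [dif_neg hm]
  rw [key]
  exact ⟨fun h i => h i i.isLt, fun h i _ => h i⟩

theorem allF_spec {n : ℕ} {p : Fin n → Bool} (h : allF p = true) (i : Fin n) : p i = true :=
  (allF_iff p).mp h i

/-- sum over `Fin n`, evaluated by a plain loop -/
def sumF {n : ℕ} (g : Fin n → ℕ) : ℕ :=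
  Nat.rec 0 (fun i acc => (if h : i < n then g ⟨i, h⟩ else 0) + acc) n

theorem sumF_eq {n : ℕ} (g : Fin n → ℕ) : sumF g = ∑ i, g i := by
  unfold sumF
  have key : ∀ m : ℕ, (Nat.rec 0 (fun i acc => (if h : i < n then g ⟨i, h⟩ else 0) + acc) m : ℕ) =
      ∑ k ∈ Finset.range m, (if h : k < n then g ⟨k, h⟩ else 0) := by
    intro m
    induction m with
    | zero => simp
    | succ m ih =>
      show (if h : m < n then g ⟨m, h⟩ else 0) + (Nat.rec 0
        (fun i acc => (if h : i < n then g ⟨i, h⟩ else 0) + acc) m : ℕ) = _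
      rw [ih, Finset.sum_range_succ, add_comm]
  rw [key, ← Fin.sum_univ_eq_sum_range (fun k => if h : k < n then g ⟨k, h⟩ else 0) n]
  apply Finset.sum_congr rfl
  intro i _
  rw [dif_pos i.isLt]

/-- number of `i : Fin n` with `p i`, evaluated by a plain loop -/
def countF {n : ℕ} (p : Fin n → Bool) : ℕ := sumF fun i => if p i then 1 else 0

theorem countF_eq {n : ℕ} (p : Fin n → Bool) :
    countF p = Fintype.card {i : Fin n // p i = true} := by
  unfold countF
  rw [sumF_eq, Fintype.card_subtype, Finset.card_filter]

theorem countF_eq_natCard {n : ℕ} (p : Fin n → Bool) :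
    countF p = Nat.card {i : Fin n // p i = true} := by
  rw [countF_eq, Nat.card_eq_fintype_card]

/-- number of pairs `(i, j)` with `q i j` -/
def countF2 {n k : ℕ} (q : Fin n → Fin k → Bool) : ℕ := sumF fun i => countF (q i)

theorem countF2_eq {n k : ℕ} (q : Fin n → Fin k → Bool) :
    countF2 q = Fintype.card {p : Fin n × Fin k // q p.1 p.2 = true} := by
  unfold countF2
  rw [sumF_eq, Fintype.card_subtype, Finset.card_filter, Fintype.sum_prod_type]
  apply Finset.sum_congr rfl
  intro i _
  unfold countF
  rw [sumF_eq]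

theorem countF2_eq_natCard {n k : ℕ} (q : Fin n → Fin k → Bool) :
    countF2 q = Nat.card {p : Fin n × Fin k // q p.1 p.2 = true} := by
  rw [countF2_eq, Nat.card_eq_fintype_card]

end Cfsg.Agent.Lib.Helper9.BL
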