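import Mathlib

set_option autoImplicit false

/-! A bit-coded model of `4 × 4` matrices over `ZMod 2` and of vectors in `(ZMod 2)⁴`:
a vector is a number below `16`, a matrix a number below `65536` (row `r` is the `r`-th nibble). -/

namespace Cfsg.Agent.Lib.Helper9.G42

open Matrix

/-- bit `c` of `x` -/
def bitN (x c : ℕ) : ℕ := (x >>> c) % 2

/-- row `r` of the matrix with code `a` -/
def rowN (a r : ℕ) : ℕ := (a >>> (4 * r)) % 16

/-- parity of a number below `16` -/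
def parN (x : ℕ) : ℕ := (0x6996 >>> x) % 2

/-- matrix times vector on codes -/
def appN (a v : ℕ) : ℕ :=
  parN (rowN a 0 &&& v) + 2 * parN (rowN a 1 &&& v) + 4 * parN (rowN a 2 &&& v) +
    8 * parN (rowN a 3 &&& v)

/-- the vector with code `v` -/
def bv (v : ℕ) : Fin 4 → ZMod 2 := fun c => ((bitN v c.val : ℕ) : ZMod 2)

/-- the matrix with code `a` -/
def bm (a : ℕ) : Matrix (Fin 4) (Fin 4) (ZMod 2) :=
  fun r c => ((bitN (rowN a r.val) c.val : ℕ) : ZMod 2)

theorem parN_le (x : ℕ) : parN x ≤ 1 := by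
  unfold parN
  omega

theorem appN_lt (a v : ℕ) : appN a v < 16 := by
  unfold appN
  have h0 := parN_le (rowN a 0 &&& v)
  have h1 := parN_le (rowN a 1 &&& v)
  have h2 := parN_le (rowN a 2 &&& v)
  have h3 := parN_le (rowN a 3 &&& v)
  omega

theorem rowN_lt (a r : ℕ) : rowN a r < 16 := by
  unfold rowN
  omega

theorem par_key : ∀ x v : Fin 16, parN (x.val &&& v.val) =
    (bitN x.val 0 * bitN v.val 0 + bitN x.val 1 * bitN v.val 1 + bitN x.val 2 * bitN v.val 2 +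
      bitN x.val 3 * bitN v.val 3) % 2 := by decide

theorem bit_assemble (p0 p1 p2 p3 : ℕ) (h0 : p0 ≤ 1) (h1 : p1 ≤ 1) (h2 : p2 ≤ 1) (h3 : p3 ≤ 1) :
    bitN (p0 + 2 * p1 + 4 * p2 + 8 * p3) 0 = p0 ∧ bitN (p0 + 2 * p1 + 4 * p2 + 8 * p3) 1 = p1 ∧
    bitN (p0 + 2 * p1 + 4 * p2 + 8 * p3) 2 = p2 ∧ bitN (p0 + 2 * p1 + 4 * p2 + 8 * p3) 3 = p3 := by
  unfold bitN
  simp only [Nat.shiftRight_eq_div_pow]
  norm_num
  omega

theorem bitN_appN (a v r : ℕ) (hr : r < 4) (hv : v < 16) :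
    bitN (appN a v) r = (bitN (rowN a r) 0 * bitN v 0 + bitN (rowN a r) 1 * bitN v 1 +
      bitN (rowN a r) 2 * bitN v 2 + bitN (rowN a r) 3 * bitN v 3) % 2 := by
  have hk := par_key ⟨rowN a r, rowN_lt a r⟩ ⟨v, hv⟩
  simp only at hk
  rw [← hk]
  obtain ⟨h0, h1, h2, h3⟩ := bit_assemble _ _ _ _ (parN_le (rowN a 0 &&& v))
    (parN_le (rowN a 1 &&& v)) (parN_le (rowN a 2 &&& v)) (parN_le (rowN a 3 &&& v))
  unfold appN
  interval_cases r
  · exact h0
  · exact h1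
  · exact h2
  · exact h3

/-- the coded application is the matrix-vector product -/
theorem bm_mulVec (a v : ℕ) (hv : v < 16) : bm a *ᵥ bv v = bv (appN a v) := by
  funext r
  show ∑ c, bm a r c * bv v c = bv (appN a v) r
  unfold bv bm
  rw [bitN_appN a v r.val r.isLt hv, Fin.sum_univ_four, ZMod.natCast_mod]
  push_cast
  rfl

theorem bv_inj_fin : ∀ v w : Fin 16, bv v.val = bv w.val → v = w := by decide

theorem bv_inj {v w : ℕ} (hv : v < 16) (hw : w < 16) (h : bv v = bv w) : v = w := by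
  have := bv_inj_fin ⟨v, hv⟩ ⟨w, hw⟩ h
  exact congrArg Fin.val this

theorem bv_surj_fin : ∀ u : Fin 4 → ZMod 2, ∃ v : Fin 16, bv v.val = u := by decide

theorem bv_zero : bv 0 = 0 := by decide

theorem bv_basis : bv 1 = Pi.single 0 1 ∧ bv 2 = Pi.single 1 1 ∧ bv 4 = Pi.single 2 1 ∧
    bv 8 = Pi.single 3 1 := by decide

/-- matrices agreeing on the four basis vectors are equal -/
theorem mat_ext_basis (M M' : Matrix (Fin 4) (Fin 4) (ZMod 2))
    (h1 : M *ᵥ bv 1 = M' *ᵥ bv 1) (h2 : M *ᵥ bv 2 = M' *ᵥ bv 2)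
    (h4 : M *ᵥ bv 4 = M' *ᵥ bv 4) (h8 : M *ᵥ bv 8 = M' *ᵥ bv 8) : M = M' := by
  obtain ⟨e1, e2, e4, e8⟩ := bv_basis
  rw [e1, Matrix.mulVec_single_one, Matrix.mulVec_single_one] at h1
  rw [e2, Matrix.mulVec_single_one, Matrix.mulVec_single_one] at h2
  rw [e4, Matrix.mulVec_single_one, Matrix.mulVec_single_one] at h4
  rw [e8, Matrix.mulVec_single_one, Matrix.mulVec_single_one] at h8
  ext i j
  fin_cases j
  · exact congrFun h1 i
  · exact congrFun h2 i
  · exact congrFun h4 i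
  · exact congrFun h8 i

theorem bm_row (a : ℕ) (r : Fin 4) : bm a r = bv (rowN a r.val) := rfl

/-- every matrix has a code -/
theorem bm_surj (M : Matrix (Fin 4) (Fin 4) (ZMod 2)) : ∃ a : ℕ, a < 65536 ∧ bm a = M := by
  obtain ⟨w0, h0⟩ := bv_surj_fin (M 0)
  obtain ⟨w1, h1⟩ := bv_surj_fin (M 1)
  obtain ⟨w2, h2⟩ := bv_surj_fin (M 2)
  obtain ⟨w3, h3⟩ := bv_surj_fin (M 3)
  refine ⟨w0.val + 16 * w1.val + 256 * w2.val + 4096 * w3.val, by omega, ?_⟩
  have hr : rowN (w0.val + 16 * w1.val + 256 * w2.val + 4096 * w3.val) 0 = w0.val ∧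
      rowN (w0.val + 16 * w1.val + 256 * w2.val + 4096 * w3.val) 1 = w1.val ∧
      rowN (w0.val + 16 * w1.val + 256 * w2.val + 4096 * w3.val) 2 = w2.val ∧
      rowN (w0.val + 16 * w1.val + 256 * w2.val + 4096 * w3.val) 3 = w3.val := by
    unfold rowN
    simp only [Nat.shiftRight_eq_div_pow]
    norm_num
    omega
  funext r
  rw [bm_row]
  fin_cases r
  · show bv (rowN _ 0) = M 0
    rw [hr.1, h0]
  · show bv (rowN _ 1) = M 1
    rw [hr.2.1, h1]
  · show bv (rowN _ 2) = M 2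
    rw [hr.2.2.1, h2]
  · show bv (rowN _ 3) = M 3
    rw [hr.2.2.2, h3]

/-- codes below `65536` are determined by the matrix -/
theorem bm_inj {a b : ℕ} (ha : a < 65536) (hb : b < 65536) (h : bm a = bm b) : a = b := by
  have hr : ∀ r : Fin 4, rowN a r.val = rowN b r.val := by
    intro r
    apply bv_inj (rowN_lt _ _) (rowN_lt _ _)
    rw [← bm_row, ← bm_row, h]
  have h0 := hr 0
  have h1 := hr 1
  have h2 := hr 2
  have h3 := hr 3
  unfold rowN at h0 h1 h2 h3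
  simp only [Nat.shiftRight_eq_div_pow] at h0 h1 h2 h3
  norm_num at h0 h1 h2 h3
  omega

/-- a Boolean test on the four basis vectors -/
def all4 (p : ℕ → Bool) : Bool := p 1 && (p 2 && (p 4 && p 8))

theorem all4_iff (p : ℕ → Bool) : all4 p = true ↔ p 1 = true ∧ p 2 = true ∧ p 4 = true ∧ p 8 = true := by
  unfold all4
  simp only [Bool.and_eq_true]

end Cfsg.Agent.Lib.Helper9.G42
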