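import Mathlib
import Cfsg.Agent.Lib.Helper9.BoolLoop
import Cfsg.Agent.Lib.Helper9.G42A

set_option autoImplicit false
set_option maxRecDepth 100000

/-! Enumeration: every matrix `a` of order `3` in `GL₄(2)` which together with a power `y` of a
fixed element of order `5` satisfies `(ay)⁷ = (ay⁻¹ay)² = 1` generates with `y` a group that is
`2`-transitive on the non-zero vectors. -/

namespace Cfsg.Agent.Lib.Helper9.G42

open Cfsg.Agent.Lib.Helper9.BL

/-- apply a list of coded matrices (the head is applied last) -/
def appL : List ℕ → ℕ → ℕ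
  | [], v => v
  | a :: l, v => appN a (appL l v)

/-- the product of the list fixes the basis vectors -/
def fixB (l : List ℕ) : Bool := all4 fun e => decide (appL l e = e)

/-- the relation test -/
def relB (a y yi : ℕ) : Bool :=
  fixB [a, y, a, y, a, y, a, y, a, y, a, y, a, y] && fixB [a, yi, a, y, a, yi, a, y]

/-- bit test -/
def tb (m n : ℕ) : Bool := decide ((m >>> n) % 2 = 1)

/-- image of a coded pair of vectors -/
def imgN (g i : ℕ) : ℕ := 16 * appN g (i / 16) + appN g (i % 16)

/-- image of a set of pairs, as bit masks -/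
def stepM (g S : ℕ) : ℕ :=
  Nat.rec 0 (fun i acc => if tb S i then acc ||| (1 <<< imgN g i) else acc) 256

def roundM (a y S : ℕ) : ℕ := S ||| (stepM a S ||| stepM y S)

def orbM (a y : ℕ) : ℕ := Nat.iterate (roundM a y) 10 (1 <<< 18)

def validB (i : ℕ) : Bool :=
  !decide (i / 16 = 0) && (!decide (i % 16 = 0) && !decide (i / 16 = i % 16))

def orbB (a y : ℕ) : Bool := allF fun i : Fin 256 => !validB i.val || tb (orbM a y) i.val

/-- codes of the powers `Y₀^(k+1)` and of their inverses -/
def ycode : Fin 4 → ℕ × ℕ
  | 0 => (0x125b, 0xda48)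
  | 1 => (0xb59f, 0xf9ad)
  | 2 => (0xf9ad, 0xb59f)
  | 3 => (0xda48, 0x125b)

theorem enum_b : (allF fun i : Fin 256 => allF fun j : Fin 256 =>
    !fixB [256 * i.val + j.val, 256 * i.val + j.val, 256 * i.val + j.val] ||
      allF fun k : Fin 4 => !relB (256 * i.val + j.val) (ycode k).1 (ycode k).2 ||
        orbB (256 * i.val + j.val) (ycode k).1) = true := by
  decide +kernel

end Cfsg.Agent.Lib.Helper9.G42
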