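import Mathlib
import Cfsg.Agent.Lib.Helper9.G42C

set_option autoImplicit false

/-! Soundness of the coded computations in `GL₄(2)`. -/

namespace Cfsg.Agent.Lib.Helper9.G42

open Cfsg.Agent.Lib.Helper9.BL Matrix

abbrev GL4 := GL (Fin 4) (ZMod 2)
abbrev V4 := Fin 4 → ZMod 2

/-- action on vectors -/
def gv (g : GL4) (v : V4) : V4 := (g : Matrix (Fin 4) (Fin 4) (ZMod 2)) *ᵥ v

theorem gv_mul (g h : GL4) (v : V4) : gv (g * h) v = gv g (gv h v) := by
  unfold gv
  rw [Matrix.GeneralLinearGroup.coe_mul, Matrix.mulVec_mulVec]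

theorem gv_one (v : V4) : gv 1 v = v := by
  unfold gv
  simp

theorem gv_inv_gv (g : GL4) (v : V4) : gv g⁻¹ (gv g v) = v := by
  rw [← gv_mul, inv_mul_cancel, gv_one]

theorem gv_inj (g : GL4) {v w : V4} (h : gv g v = gv g w) : v = w := by
  have := congrArg (gv g⁻¹) h
  rwa [gv_inv_gv, gv_inv_gv] at this

theorem gv_code {g : GL4} {a : ℕ} (hg : (g : Matrix (Fin 4) (Fin 4) (ZMod 2)) = bm a) {v : ℕ}
    (hv : v < 16) : gv g (bv v) = bv (appN a v) := by
  unfold gv
  rw [hg, bm_mulVec a v hv]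

theorem appL_lt (l : List ℕ) {v : ℕ} (hv : v < 16) : appL l v < 16 := by
  cases l with
  | nil => exact hv
  | cons a l => exact appN_lt _ _

theorem gv_prod (l : List (GL4 × ℕ))
    (hl : ∀ p ∈ l, ((p.1 : GL4) : Matrix (Fin 4) (Fin 4) (ZMod 2)) = bm p.2) {v : ℕ} (hv : v < 16) :
    gv (l.map Prod.fst).prod (bv v) = bv (appL (l.map Prod.snd) v) := by
  induction l with
  | nil => simp [appL, gv_one]
  | cons p l ih =>
    rw [List.map_cons, List.prod_cons, gv_mul, ih (fun q hq => hl q (List.mem_cons_of_mem _ hq)),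
      List.map_cons]
    exact gv_code (hl p List.mem_cons_self) (appL_lt _ hv)

theorem fixB_of_prod (l : List (GL4 × ℕ))
    (hl : ∀ p ∈ l, ((p.1 : GL4) : Matrix (Fin 4) (Fin 4) (ZMod 2)) = bm p.2)
    (h1 : (l.map Prod.fst).prod = 1) : fixB (l.map Prod.snd) = true := by
  rw [fixB, all4_iff]
  have key : ∀ e : ℕ, e < 16 → decide (appL (l.map Prod.snd) e = e) = true := by
    intro e he
    rw [decide_eq_true_iff]
    apply bv_inj (appL_lt _ he) he
    rw [← gv_prod l hl he, h1, gv_one]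
  exact ⟨key 1 (by norm_num), key 2 (by norm_num), key 4 (by norm_num), key 8 (by norm_num)⟩

/-! ### bit masks -/

theorem tb_eq (m n : ℕ) : tb m n = m.testBit n := by
  unfold tb
  rw [Nat.testBit_eq_decide_div_mod_eq, Nat.shiftRight_eq_div_pow]

theorem tb_or (S T i : ℕ) : tb (S ||| T) i = (tb S i || tb T i) := by
  rw [tb_eq, tb_eq, tb_eq, Nat.testBit_or]

theorem tb_one_shift (k i : ℕ) : tb (1 <<< k) i = decide (k = i) := by
  rw [tb_eq, Nat.one_shiftLeft, Nat.testBit_two_pow]

theorem tb_zero (i : ℕ) : tb 0 i = false := by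
  rw [tb_eq, Nat.zero_testBit]

/-- the loop of `stepM` -/
def stepL (g S : ℕ) (m : ℕ) : ℕ :=
  Nat.rec 0 (fun i acc => if tb S i then acc ||| (1 <<< imgN g i) else acc) m

theorem stepM_eq (g S : ℕ) : stepM g S = stepL g S 256 := rfl

theorem stepL_succ (g S m : ℕ) : stepL g S (m + 1) =
    if tb S m then stepL g S m ||| (1 <<< imgN g m) else stepL g S m := rfl

theorem tb_stepL (g S : ℕ) : ∀ m j : ℕ, tb (stepL g S m) j = true →
    ∃ i, i < m ∧ tb S i = true ∧ j = imgN g i := by
  intro m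
  induction m with
  | zero =>
    intro j hj
    have : stepL g S 0 = 0 := rfl
    rw [this, tb_zero] at hj
    exact Bool.noConfusion hj
  | succ m ih =>
    intro j hj
    rw [stepL_succ] at hj
    by_cases hS : tb S m = true
    · rw [if_pos hS, tb_or, Bool.or_eq_true] at hj
      rcases hj with hj | hj
      · obtain ⟨i, hi, h1, h2⟩ := ih j hj
        exact ⟨i, by omega, h1, h2⟩
      · rw [tb_one_shift, decide_eq_true_iff] at hj
        exact ⟨m, by omega, hS, hj.symm⟩
    · rw [if_neg hS] at hj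
      obtain ⟨i, hi, h1, h2⟩ := ih j hj
      exact ⟨i, by omega, h1, h2⟩

/-! ### reachability -/

section reach

variable (X Y : GL4)

/-- the pair of vectors coded by `i` is an image of the pair `(e₁, e₂)` -/
def Reach (i : ℕ) : Prop :=
  ∃ g ∈ Subgroup.closure ({X, Y} : Set GL4), gv g (bv 1) = bv (i / 16) ∧ gv g (bv 2) = bv (i % 16)

theorem reach_img {g0 : GL4} {c : ℕ} (hg0 : g0 ∈ Subgroup.closure ({X, Y} : Set GL4))
    (hc : (g0 : Matrix (Fin 4) (Fin 4) (ZMod 2)) = bm c) {i : ℕ} (hi : i < 256)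
    (h : Reach X Y i) : imgN c i < 256 ∧ Reach X Y (imgN c i) := by
  have h1 := appN_lt c (i / 16)
  have h2 := appN_lt c (i % 16)
  have e1 : imgN c i / 16 = appN c (i / 16) := by unfold imgN; omega
  have e2 : imgN c i % 16 = appN c (i % 16) := by unfold imgN; omega
  refine ⟨by unfold imgN; omega, ?_⟩
  obtain ⟨g, hg, hg1, hg2⟩ := h
  refine ⟨g0 * g, mul_mem hg0 hg, ?_, ?_⟩
  · rw [gv_mul, hg1, e1]
    exact gv_code hc (by omega)
  · rw [gv_mul, hg2, e2]
    exact gv_code hc (by omega)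

/-- all pairs in the mask are reachable -/
def Good (S : ℕ) : Prop := ∀ i, tb S i = true → i < 256 ∧ Reach X Y i

theorem good_or {S T : ℕ} (hS : Good X Y S) (hT : Good X Y T) : Good X Y (S ||| T) := by
  intro i hi
  rw [tb_or, Bool.or_eq_true] at hi
  rcases hi with hi | hi
  · exact hS i hi
  · exact hT i hi

theorem good_step {g0 : GL4} {c : ℕ} (hg0 : g0 ∈ Subgroup.closure ({X, Y} : Set GL4))
    (hc : (g0 : Matrix (Fin 4) (Fin 4) (ZMod 2)) = bm c) {S : ℕ} (hS : Good X Y S) :
    Good X Y (stepM c S) := by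
  intro j hj
  rw [stepM_eq] at hj
  obtain ⟨i, hi, h1, h2⟩ := tb_stepL c S 256 j hj
  rw [h2]
  exact reach_img X Y hg0 hc hi (hS i h1).2

theorem good_start : Good X Y (1 <<< 18) := by
  intro i hi
  rw [tb_one_shift, decide_eq_true_iff] at hi
  subst hi
  refine ⟨by norm_num, 1, one_mem _, ?_, ?_⟩
  · rw [gv_one]
  · rw [gv_one]

theorem good_orb {a y : ℕ} (hX : (X : Matrix (Fin 4) (Fin 4) (ZMod 2)) = bm a)
    (hY : (Y : Matrix (Fin 4) (Fin 4) (ZMod 2)) = bm y) : Good X Y (orbM a y) := by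
  have hXm : X ∈ Subgroup.closure ({X, Y} : Set GL4) := Subgroup.subset_closure (by simp)
  have hYm : Y ∈ Subgroup.closure ({X, Y} : Set GL4) := Subgroup.subset_closure (by simp)
  have key : ∀ n : ℕ, Good X Y (Nat.iterate (roundM a y) n (1 <<< 18)) := by
    intro n
    induction n with
    | zero => exact good_start X Y
    | succ n ih =>
      rw [Function.iterate_succ_apply']
      exact good_or X Y ih (good_or X Y (good_step X Y hXm hX ih) (good_step X Y hYm hY ih))
  exact key 10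

theorem closure_two_trans {a y : ℕ} (hX : (X : Matrix (Fin 4) (Fin 4) (ZMod 2)) = bm a)
    (hY : (Y : Matrix (Fin 4) (Fin 4) (ZMod 2)) = bm y) (h : orbB a y = true)
    (v w v' w' : V4) (hv : v ≠ 0) (hw : w ≠ 0) (hvw : v ≠ w) (hv' : v' ≠ 0) (hw' : w' ≠ 0)
    (hvw' : v' ≠ w') :
    ∃ g ∈ Subgroup.closure ({X, Y} : Set GL4), gv g v = v' ∧ gv g w = w' := by
  have key : ∀ v w : V4, v ≠ 0 → w ≠ 0 → v ≠ w →
      ∃ g ∈ Subgroup.closure ({X, Y} : Set GL4), gv g (bv 1) = v ∧ gv g (bv 2) = w := by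
    intro v w hv hw hvw
    obtain ⟨cv, rfl⟩ := bv_surj_fin v
    obtain ⟨cw, rfl⟩ := bv_surj_fin w
    have h1 : cv.val ≠ 0 := by
      intro h0
      apply hv
      rw [h0, bv_zero]
    have h2 : cw.val ≠ 0 := by
      intro h0
      apply hw
      rw [h0, bv_zero]
    have h3 : cv.val ≠ cw.val := by
      intro h0
      apply hvw
      rw [h0]
    have hlt : 16 * cv.val + cw.val < 256 := by omega
    have e1 : (16 * cv.val + cw.val) / 16 = cv.val := by omega
    have e2 : (16 * cv.val + cw.val) % 16 = cw.val := by omega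
    have h4 := allF_spec h ⟨16 * cv.val + cw.val, hlt⟩
    have h5 : validB (16 * cv.val + cw.val) = true := by
      unfold validB
      rw [e1, e2]
      simp [h1, h2, h3]
    simp only [h5, Bool.not_true, Bool.false_or] at h4
    obtain ⟨-, g, hg, hg1, hg2⟩ := good_orb X Y hX hY _ h4
    rw [e1] at hg1
    rw [e2] at hg2
    exact ⟨g, hg, hg1, hg2⟩
  obtain ⟨g1, hg1, h11, h12⟩ := key v w hv hw hvw
  obtain ⟨g2, hg2, h21, h22⟩ := key v' w' hv' hw' hvw'
  refine ⟨g2 * g1⁻¹, mul_mem hg2 (inv_mem hg1), ?_, ?_⟩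
  · rw [gv_mul, ← h11, gv_inv_gv, h21]
  · rw [gv_mul, ← h12, gv_inv_gv, h22]

end reach

/-- the enumeration, for actual matrices -/
theorem orb_of_rel (X Y : GL4) (a : ℕ) (ha : a < 65536) (k : Fin 4)
    (hX : (X : Matrix (Fin 4) (Fin 4) (ZMod 2)) = bm a)
    (hY : (Y : Matrix (Fin 4) (Fin 4) (ZMod 2)) = bm (ycode k).1)
    (hYi : ((Y⁻¹ : GL4) : Matrix (Fin 4) (Fin 4) (ZMod 2)) = bm (ycode k).2)
    (h3 : X ^ 3 = 1) (h7 : (X * Y) ^ 7 = 1) (h2 : (X * Y⁻¹ * X * Y) ^ 2 = 1) :
    orbB a (ycode k).1 = true := by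
  have hlt : a / 256 < 256 := by omega
  have hlt' : a % 256 < 256 := by omega
  have h0 := allF_spec (allF_spec enum_b ⟨a / 256, hlt⟩) ⟨a % 256, hlt'⟩
  have ea : 256 * (a / 256) + a % 256 = a := Nat.div_add_mod a 256
  simp only [ea] at h0
  have f3 : fixB [a, a, a] = true := by
    have := fixB_of_prod [(X, a), (X, a), (X, a)] (by
      intro p hp
      simp only [List.mem_cons, List.not_mem_nil, or_false] at hp
      rcases hp with rfl | rfl | rfl <;> exact hX) (by
      show X * (X * (X * 1)) = 1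
      have e : X * (X * (X * 1)) = X ^ 3 := by
        simp only [pow_succ, pow_zero, one_mul, mul_one, mul_assoc]
      rw [e, h3])
    exact this
  rw [f3] at h0
  simp only [Bool.not_true, Bool.false_or] at h0
  have h1 := allF_spec h0 k
  have fr : relB a (ycode k).1 (ycode k).2 = true := by
    unfold relB
    rw [Bool.and_eq_true]
    constructor
    · exact fixB_of_prod [(X, a), (Y, (ycode k).1), (X, a), (Y, (ycode k).1), (X, a),
        (Y, (ycode k).1), (X, a), (Y, (ycode k).1), (X, a), (Y, (ycode k).1), (X, a),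
        (Y, (ycode k).1), (X, a), (Y, (ycode k).1)] (by
        intro p hp
        simp only [List.mem_cons, List.not_mem_nil, or_false] at hp
        rcases hp with rfl | rfl | rfl | rfl | rfl | rfl | rfl | rfl | rfl | rfl | rfl | rfl |
          rfl | rfl <;> first | exact hX | exact hY) (by
        show X * (Y * (X * (Y * (X * (Y * (X * (Y * (X * (Y * (X * (Y * (X * (Y * 1))))))))))))) = 1
        have e : X * (Y * (X * (Y * (X * (Y * (X * (Y * (X * (Y * (X * (Y * (X * (Y * 1)))))))))))))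
            = (X * Y) ^ 7 := by
          simp only [pow_succ, pow_zero, one_mul, mul_one, mul_assoc]
        rw [e, h7])
    · exact fixB_of_prod [(X, a), (Y⁻¹, (ycode k).2), (X, a), (Y, (ycode k).1), (X, a),
        (Y⁻¹, (ycode k).2), (X, a), (Y, (ycode k).1)] (by
        intro p hp
        simp only [List.mem_cons, List.not_mem_nil, or_false] at hp
        rcases hp with rfl | rfl | rfl | rfl | rfl | rfl | rfl | rfl <;>
          first | exact hX | exact hY | exact hYi) (by
        show X * (Y⁻¹ * (X * (Y * (X * (Y⁻¹ * (X * (Y * 1))))))) = 1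
        have e : X * (Y⁻¹ * (X * (Y * (X * (Y⁻¹ * (X * (Y * 1))))))) = (X * Y⁻¹ * X * Y) ^ 2 := by
          simp only [pow_succ, pow_zero, one_mul, mul_one, mul_assoc]
        rw [e, h2])
  rw [fr] at h1
  simpa using h1

end Cfsg.Agent.Lib.Helper9.G42
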