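import Mathlib
import Cfsg.Agent.Lib.Helper9.G42B
import Cfsg.Agent.Lib.Helper9.G42D

set_option autoImplicit false
set_option maxRecDepth 100000

/-! Every subgroup of `GL₄(2)` isomorphic to `A₇` is `2`-transitive on the non-zero vectors. -/

open scoped Pointwise

namespace Cfsg.Agent.Lib.Helper9.G42

open Cfsg.Agent.Lib.Helper9.BL Cfsg.Agent.Lib.Helper9.SyT Matrix

/-- powers at the level of indices -/
def pwF (i : Fin 2520) : ℕ → Fin 2520
  | 0 => E0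
  | k + 1 => mF (pwF i k) i

theorem fM_pw (i : Fin 2520) (k : ℕ) : fM (pwF i k) = fM i ^ k := by
  induction k with
  | zero => rw [pow_zero]; exact fM_E0
  | succ k ih => rw [pow_succ, ← ih, fM_mul]; rfl

theorem el_pw (i : Fin 2520) (k : ℕ) : el (pwF i k) = el i ^ k := by
  induction k with
  | zero => rw [pow_zero]; exact el_E0
  | succ k ih => rw [pow_succ, ← ih, el_mul]; rfl

def IA : Fin 2520 := ⟨69, by norm_num⟩

def IB : Fin 2520 := ⟨1, by norm_num⟩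

theorem rel_idx : pwF IA 3 = E0 ∧ pwF IB 5 = E0 ∧ IB ≠ E0 ∧ pwF (mF IA IB) 7 = E0 ∧
    pwF (mF (mF (mF IA (ivF IB)) IA) IB) 2 = E0 := by decide +kernel

theorem ycode_spec : ∀ k : Fin 4, matN (pwF IB (k.val + 1)).val = (ycode k).1 ∧
    matN (ivF (pwF IB (k.val + 1))).val = (ycode k).2 := by decide +kernel

theorem el_rel : el IA ^ 3 = 1 ∧ el IB ^ 5 = 1 ∧ el IB ≠ 1 ∧ (el IA * el IB) ^ 7 = 1 ∧
    (el IA * (el IB)⁻¹ * el IA * el IB) ^ 2 = 1 := by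
  obtain ⟨h1, h2, h3, h4, h5⟩ := rel_idx
  refine ⟨?_, ?_, ?_, ?_, ?_⟩
  · rw [← el_pw, h1, el_E0]
  · rw [← el_pw, h2, el_E0]
  · rw [← el_E0]
    exact fun h => h3 (el_inj h)
  · rw [el_mul, ← el_pw, h4, el_E0]
  · rw [el_inv, el_mul, el_mul, el_mul, ← el_pw, h5, el_E0]

/-- the fixed element of order `5` -/
def Y0 : GL4 := fM IB

theorem Y0_pow : Y0 ^ 5 = 1 := by
  unfold Y0
  rw [← fM_pw, rel_idx.2.1, fM_E0]

theorem Y0_ne : Y0 ≠ 1 := by
  unfold Y0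
  rw [← fM_E0]
  exact fun h => rel_idx.2.2.1 (fM_inj h)

theorem Y0_code (k : Fin 4) :
    ((Y0 ^ (k.val + 1) : GL4) : Matrix (Fin 4) (Fin 4) (ZMod 2)) = bm (ycode k).1 ∧
    (((Y0 ^ (k.val + 1))⁻¹ : GL4) : Matrix (Fin 4) (Fin 4) (ZMod 2)) = bm (ycode k).2 := by
  unfold Y0
  rw [← fM_pw]
  constructor
  · rw [fM_val, (ycode_spec k).1]
  · have h := TM.inv_eq (pwF IB (k.val + 1))
    change (fM (pwF IB (k.val + 1)))⁻¹ = fM (ivF (pwF IB (k.val + 1))) at h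
    rw [h, fM_val, (ycode_spec k).2]

theorem card_GL4 : Nat.card GL4 = 20160 := by
  rw [Matrix.card_GL_field]
  simp [ZMod.card, Fin.prod_univ_four]

theorem factorization_of_dvd (p N k : ℕ) (hp : p.Prime) (hN : N ≠ 0) (h1 : p ^ k ∣ N)
    (h2 : ¬ p ^ (k + 1) ∣ N) : N.factorization p = k := by
  have a := (hp.pow_dvd_iff_le_factorization hN).mp h1
  have b : ¬ (k + 1 ≤ N.factorization p) := fun h =>
    h2 ((hp.pow_dvd_iff_le_factorization hN).mpr h)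
  omega

instance fact_five : Fact (Nat.Prime 5) := ⟨by norm_num⟩

/-- every element of order `5` is conjugate to a power of `Y₀` -/
theorem sylow5 (y : GL4) (hy5 : y ^ 5 = 1) (hy1 : y ≠ 1) :
    ∃ (h : GL4) (k : Fin 4), h * y * h⁻¹ = Y0 ^ (k.val + 1) := by
  have hfac : (Nat.card GL4).factorization 5 = 1 := by
    rw [card_GL4]
    exact factorization_of_dvd 5 20160 1 (by norm_num) (by norm_num) (by norm_num) (by norm_num)
  have ho : orderOf y = 5 := orderOf_eq_prime hy5 hy1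
  have ho0 : orderOf Y0 = 5 := orderOf_eq_prime Y0_pow Y0_ne
  obtain ⟨P, hP⟩ : ∃ P : Sylow 5 GL4, (P : Subgroup GL4) = Subgroup.zpowers y :=
    ⟨Sylow.ofCard (Subgroup.zpowers y) (by rw [Nat.card_zpowers, ho, hfac, pow_one]), rfl⟩
  obtain ⟨Q, hQ⟩ : ∃ Q : Sylow 5 GL4, (Q : Subgroup GL4) = Subgroup.zpowers Y0 :=
    ⟨Sylow.ofCard (Subgroup.zpowers Y0) (by rw [Nat.card_zpowers, ho0, hfac, pow_one]), rfl⟩
  obtain ⟨h, hh⟩ := MulAction.exists_smul_eq GL4 P Q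
  have h1 : h * y * h⁻¹ ∈ (Q : Subgroup GL4) := by
    rw [← hh, Sylow.coe_subgroup_smul, hP]
    have := Subgroup.smul_mem_pointwise_smul y (MulAut.conj h) (Subgroup.zpowers y)
      (Subgroup.mem_zpowers y)
    rwa [MulAut.smul_def, MulAut.conj_apply] at this
  rw [hQ, Subgroup.mem_zpowers_iff] at h1
  obtain ⟨z, hz⟩ := h1
  have h2 : Y0 ^ (z % 5) = h * y * h⁻¹ := by
    rw [← hz]
    have := zpow_mod_orderOf Y0 z
    rwa [ho0] at this
  have h3 : 0 ≤ z % 5 := Int.emod_nonneg z (by norm_num)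
  have h4 : z % 5 < 5 := Int.emod_lt_of_pos z (by norm_num)
  obtain ⟨j, hj⟩ := Int.eq_ofNat_of_zero_le h3
  rw [hj, zpow_natCast] at h2
  have h5 : j < 5 := by omega
  have h6 : j ≠ 0 := by
    intro h0
    rw [h0, pow_zero] at h2
    apply hy1
    have : y = h⁻¹ * (h * y * h⁻¹) * h := by group
    rw [this, ← h2]
    group
  refine ⟨h, ⟨j - 1, by omega⟩, ?_⟩
  rw [← h2]
  congr 1
  show j = j - 1 + 1
  omega

theorem gv_zero (g : GL4) : gv g 0 = 0 := by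
  unfold gv
  exact Matrix.mulVec_zero _

/-- the main statement over `ZMod 2` -/
theorem two_trans_zmod2 (H : Subgroup GL4) (e : ↥H ≃* alternatingGroup (Fin 7))
    (v w v' w' : V4) (hv : v ≠ 0) (hw : w ≠ 0) (hvw : v ≠ w) (hv' : v' ≠ 0) (hw' : w' ≠ 0)
    (hvw' : v' ≠ w') : ∃ g ∈ H, gv g v = v' ∧ gv g w = w' := by
  obtain ⟨r1, r2, r3, r4, r5⟩ := el_rel
  -- the generators inside H
  let ψ : ↥H0 →* GL4 := H.subtype.comp (isoA7.trans e.symm).toMonoidHom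
  have hψ : Function.Injective ψ := by
    intro a b hab
    exact (isoA7.trans e.symm).injective (Subtype.ext hab)
  have hψH : ∀ t, ψ t ∈ H := fun t => ((isoA7.trans e.symm) t).2
  obtain ⟨x, hx⟩ : ∃ x : GL4, x = ψ (el IA) := ⟨_, rfl⟩
  obtain ⟨y, hy⟩ : ∃ y : GL4, y = ψ (el IB) := ⟨_, rfl⟩
  have hxH : x ∈ H := hx ▸ hψH _
  have hyH : y ∈ H := hy ▸ hψH _
  have x3 : x ^ 3 = 1 := by rw [hx, ← map_pow, r1, map_one]
  have y5 : y ^ 5 = 1 := by rw [hy, ← map_pow, r2, map_one]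
  have y1 : y ≠ 1 := by
    rw [hy, ← map_one ψ]
    exact fun h => r3 (hψ h)
  have xy7 : (x * y) ^ 7 = 1 := by rw [hx, hy, ← map_mul, ← map_pow, r4, map_one]
  have xy2 : (x * y⁻¹ * x * y) ^ 2 = 1 := by
    rw [hx, hy, ← map_inv, ← map_mul, ← map_mul, ← map_mul, ← map_pow, r5, map_one]
  -- conjugate y into the powers of Y0
  obtain ⟨h, k, hk⟩ := sylow5 y y5 y1
  obtain ⟨c, hc⟩ : ∃ c : GL4 ≃* GL4, ∀ t, c t = h * t * h⁻¹ :=
    ⟨MulAut.conj h, fun t => MulAut.conj_apply h t⟩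
  obtain ⟨X', hX'⟩ : ∃ X' : GL4, X' = c x := ⟨_, rfl⟩
  obtain ⟨Y', hY'⟩ : ∃ Y' : GL4, Y' = c y := ⟨_, rfl⟩
  have hY'k : Y' = Y0 ^ (k.val + 1) := by rw [hY', hc, hk]
  have X3 : X' ^ 3 = 1 := by rw [hX', ← map_pow, x3, map_one]
  have XY7 : (X' * Y') ^ 7 = 1 := by rw [hX', hY', ← map_mul, ← map_pow, xy7, map_one]
  have XY2 : (X' * Y'⁻¹ * X' * Y') ^ 2 = 1 := by
    rw [hX', hY', ← map_inv, ← map_mul, ← map_mul, ← map_mul, ← map_pow, xy2, map_one]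
  obtain ⟨a, ha, hbm⟩ := bm_surj (X' : Matrix (Fin 4) (Fin 4) (ZMod 2))
  have hYc : (Y' : Matrix (Fin 4) (Fin 4) (ZMod 2)) = bm (ycode k).1 := by
    rw [hY'k]; exact (Y0_code k).1
  have hYic : ((Y'⁻¹ : GL4) : Matrix (Fin 4) (Fin 4) (ZMod 2)) = bm (ycode k).2 := by
    rw [hY'k]; exact (Y0_code k).2
  have horb := orb_of_rel X' Y' a ha k hbm.symm hYc hYic X3 XY7 XY2
  have hcl : Subgroup.closure ({X', Y'} : Set GL4) ≤ H.map c.toMonoidHom := by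
    rw [Subgroup.closure_le]
    intro t ht
    rcases ht with rfl | rfl
    · exact ⟨x, hxH, hX'.symm⟩
    · exact ⟨y, hyH, hY'.symm⟩
  have hne : ∀ u : V4, u ≠ 0 → gv h u ≠ 0 := by
    intro u hu h0
    apply hu
    rw [← gv_zero h] at h0
    exact gv_inj h h0
  obtain ⟨g', hg', hg1, hg2⟩ := closure_two_trans X' Y' hbm.symm hYc horb (gv h v) (gv h w)
    (gv h v') (gv h w') (hne v hv) (hne w hw) (fun h0 => hvw (gv_inj h h0)) (hne v' hv')
    (hne w' hw') (fun h0 => hvw' (gv_inj h h0))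
  obtain ⟨g, hgH, hg⟩ := hcl hg'
  have hg'' : g' = h * g * h⁻¹ := by rw [← hg]; exact hc g
  refine ⟨g, hgH, ?_, ?_⟩
  · apply gv_inj h
    rw [← hg1, hg'', gv_mul, gv_mul, gv_inv_gv]
  · apply gv_inj h
    rw [← hg2, hg'', gv_mul, gv_mul, gv_inv_gv]

section transport

variable {F : Type*} [Field F]

/-- general linear groups over isomorphic fields -/
def glEq (φ : F ≃+* ZMod 2) : GL (Fin 4) F ≃* GL4 :=
  Units.mapEquiv (RingEquiv.mapMatrix φ).toMulEquiv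

theorem glEq_val (φ : F ≃+* ZMod 2) (g : GL (Fin 4) F) :
    ((glEq φ g : GL4) : Matrix (Fin 4) (Fin 4) (ZMod 2)) =
      (g : Matrix (Fin 4) (Fin 4) F).map φ := rfl

theorem map_mulVec_comp' (φ : F ≃+* ZMod 2) (A : Matrix (Fin 4) (Fin 4) F) (v : Fin 4 → F) :
    A.map φ *ᵥ (⇑φ ∘ v) = ⇑φ ∘ (A *ᵥ v) := by
  funext i
  exact (RingHom.map_mulVec (φ : F →+* ZMod 2) A v i).symm

theorem main [Fintype F] (hF : Fintype.card F = 2) :
    (∃ H : Subgroup (GL (Fin 4) F), Nonempty (↥H ≃* alternatingGroup (Fin 7))) ∧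
    ∀ H : Subgroup (GL (Fin 4) F), Nonempty (↥H ≃* alternatingGroup (Fin 7)) →
      ∀ v w v' w' : Fin 4 → F, v ≠ 0 → w ≠ 0 → v ≠ w → v' ≠ 0 → w' ≠ 0 → v' ≠ w' →
        ∃ g ∈ H, (g : Matrix (Fin 4) (Fin 4) F).mulVec v = v' ∧
          (g : Matrix (Fin 4) (Fin 4) F).mulVec w = w' := by
  obtain ⟨φ⟩ : Nonempty (F ≃+* ZMod 2) := ⟨(ZMod.ringEquivOfPrime F Nat.prime_two hF).symm⟩
  have hcomp : ∀ u u' : Fin 4 → F, ⇑φ ∘ u = ⇑φ ∘ u' → u = u' := by
    intro u u' h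
    funext i
    exact φ.injective (congrFun h i)
  have hzero : ∀ u : Fin 4 → F, u ≠ 0 → (⇑φ ∘ u : V4) ≠ 0 := by
    intro u hu h0
    apply hu
    apply hcomp
    rw [h0]
    funext i
    simp
  constructor
  · exact ⟨H0.map (glEq φ).symm.toMonoidHom,
      ⟨(((glEq φ).symm.subgroupMap H0).symm.trans isoA7)⟩⟩
  · rintro H ⟨e⟩ v w v' w' hv hw hvw hv' hw' hvw'
    obtain ⟨g', hg', h1, h2⟩ := two_trans_zmod2 (H.map (glEq φ).toMonoidHom)
      (((glEq φ).subgroupMap H).symm.trans e) (⇑φ ∘ v) (⇑φ ∘ w) (⇑φ ∘ v') (⇑φ ∘ w')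
      (hzero v hv) (hzero w hw) (fun h => hvw (hcomp _ _ h)) (hzero v' hv') (hzero w' hw')
      (fun h => hvw' (hcomp _ _ h))
    obtain ⟨g, hgH, rfl⟩ := hg'
    refine ⟨g, hgH, ?_, ?_⟩
    · apply hcomp
      rw [← map_mulVec_comp', ← glEq_val]
      exact h1
    · apply hcomp
      rw [← map_mulVec_comp', ← glEq_val]
      exact h2

end transport

end Cfsg.Agent.Lib.Helper9.G42
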