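import Mathlib
import Cfsg.Prelude.Def_KGroupFacts
import Cfsg.Agent.Lib.Helper2.SchurBasic
import Cfsg.Agent.Lib.Helper7.SM6
import Cfsg.Agent.Lib.Helper7.SM7

set_option autoImplicit false

/-! Local criteria for the triviality of the Schur multiplier: the kernel of a stem extension of
`G` is killed by the index of any subgroup `U` for which the kernel meets the derived subgroup of
the preimage of `U` trivially. -/

namespace Cfsg.Agent.Lib.Helper9.SchurLoc

open scoped commutatorElement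
open Cfsg.Agent.Lib.Helper7.SM

universe u

section basic

variable {Γ : Type*} {G : Type*} [Group Γ] [Group G]

/-- transfer: the `|G:U|`-th power of an element of the kernel of a stem extension lies in the
derived subgroup of the preimage of `U` -/
theorem ker_pow_mem (σ : Γ →* G) (hσ : Cfsg.IsStemExtension σ) (U : Subgroup G) [U.FiniteIndex]
    (a : Γ) (ha : a ∈ σ.ker) : a ^ U.index ∈ ⁅U.comap σ, U.comap σ⁆ := by
  obtain ⟨hs, hc, hk⟩ := hσ
  have hidx : (U.comap σ).index = U.index := Subgroup.index_comap_of_surjective U hs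
  haveI : (U.comap σ).FiniteIndex := ⟨by rw [hidx]; exact Subgroup.FiniteIndex.index_ne_zero⟩
  obtain ⟨h, hmem⟩ := transfer_pow_mem (U.comap σ) a (hc ha) (hk ha) U.index hidx
  rw [← Subgroup.map_subtype_commutator]
  exact ⟨⟨a ^ U.index, h⟩, hmem, rfl⟩

theorem comm_bot_of_commute (H : Subgroup Γ) (h : ∀ x ∈ H, ∀ y ∈ H, x * y = y * x) :
    ⁅H, H⁆ = ⊥ := by
  rw [Subgroup.commutator_eq_bot_iff_le_centralizer]
  intro x hx
  rw [Subgroup.mem_centralizer_iff]
  intro y hy
  exact h y hy x hx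

/-- the preimage of the subgroup generated by the images of pairwise commuting elements is
commutative when the kernel is central -/
theorem commute_of_lifts (σ : Γ →* G) (hc : σ.ker ≤ Subgroup.center Γ) (T : Set Γ)
    (hT : ∀ x ∈ T, ∀ y ∈ T, x * y = y * x) :
    ∀ x ∈ (Subgroup.closure (σ '' T)).comap σ, ∀ y ∈ (Subgroup.closure (σ '' T)).comap σ,
      x * y = y * x := by
  have hcomm := Subgroup.isMulCommutative_closure hT
  have hcl : ∀ x ∈ Subgroup.closure T, ∀ y ∈ Subgroup.closure T, x * y = y * x := by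
    intro x hx y hy
    have := hcomm.is_comm.comm (⟨x, hx⟩ : ↥(Subgroup.closure T)) ⟨y, hy⟩
    exact congrArg Subtype.val this
  have hdec : ∀ x ∈ (Subgroup.closure (σ '' T)).comap σ,
      ∃ x₀ ∈ Subgroup.closure T, ∃ z ∈ σ.ker, x = x₀ * z := by
    intro x hx
    rw [Subgroup.mem_comap, ← MonoidHom.map_closure] at hx
    obtain ⟨x₀, hx₀, h0⟩ := hx
    refine ⟨x₀, hx₀, x₀⁻¹ * x, ?_, by group⟩
    rw [MonoidHom.mem_ker, map_mul, map_inv, h0, inv_mul_cancel]
  intro x hx y hy
  obtain ⟨x₀, hx₀, z, hz, rfl⟩ := hdec x hx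
  obtain ⟨y₀, hy₀, w, hw, rfl⟩ := hdec y hy
  have hz' := Subgroup.mem_center_iff.mp (hc hz)
  have hw' := Subgroup.mem_center_iff.mp (hc hw)
  calc x₀ * z * (y₀ * w) = x₀ * (z * y₀) * w := by group
    _ = x₀ * (y₀ * z) * w := by rw [hz' y₀]
    _ = (x₀ * y₀) * (z * w) := by group
    _ = (y₀ * x₀) * (w * z) := by rw [hcl x₀ hx₀ y₀ hy₀, hw' z]
    _ = y₀ * (x₀ * w) * z := by group
    _ = y₀ * (w * x₀) * z := by rw [hw' x₀]
    _ = y₀ * w * (x₀ * z) := by group

end basic

/-- `U` is good if in every finite stem extension of `G` the kernel meets the derived subgroup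
of the preimage of `U` trivially -/
def StemGood {G : Type u} [Group G] (U : Subgroup G) : Prop :=
  ∀ (Γ : Type u) [Group Γ] [Finite Γ] (σ : Γ →* G), Cfsg.IsStemExtension σ →
    ∀ x ∈ ⁅U.comap σ, U.comap σ⁆, x ∈ σ.ker → x = 1

section good

variable {G : Type u} [Group G]

theorem stemGood_of_lifts (S : Set G)
    (h : ∀ (Γ : Type u) [Group Γ] [Finite Γ] (σ : Γ →* G), Cfsg.IsStemExtension σ →
      ∃ T : Set Γ, σ '' T = S ∧ ∀ x ∈ T, ∀ y ∈ T, x * y = y * x) :
    StemGood (Subgroup.closure S) := by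
  intro Γ _ _ σ hσ x hx _
  obtain ⟨T, hTS, hT⟩ := h Γ σ hσ
  have h1 := comm_bot_of_commute _ (commute_of_lifts σ hσ.2.1 T hT)
  rw [hTS] at h1
  rw [h1] at hx
  exact Subgroup.mem_bot.mp hx

theorem stemGood_zpowers (g : G) : StemGood (Subgroup.zpowers g) := by
  rw [Subgroup.zpowers_eq_closure]
  apply stemGood_of_lifts
  intro Γ _ _ σ hσ
  obtain ⟨g', hg'⟩ := hσ.1 g
  refine ⟨{g'}, by rw [Set.image_singleton, hg'], ?_⟩
  intro x hx y hy
  rw [Set.mem_singleton_iff] at hx hy
  rw [hx, hy]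

theorem stemGood_bot : StemGood (⊥ : Subgroup G) := by
  have := stemGood_zpowers (1 : G)
  rwa [Subgroup.zpowers_one_eq_bot] at this

/-- a subgroup whose own multiplier is trivial is good -/
theorem stemGood_of_trivial (U : Subgroup G) [Finite U]
    (h : Cfsg.HasCyclicSchurMultiplier ↥U 1) : StemGood U := by
  intro Γ _ _ σ hσ x hx hxk
  obtain ⟨hs, hc, hk⟩ := hσ
  have hτ : Function.Surjective (σ.subgroupComap U) :=
    MonoidHom.subgroupComap_surjective_of_surjective σ U hs
  have hτc : (σ.subgroupComap U).ker ≤ Subgroup.center (U.comap σ) := by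
    intro y hy
    have h1 : (y : Γ) ∈ σ.ker := by
      rw [MonoidHom.mem_ker] at hy ⊢
      exact congrArg Subtype.val hy
    have h2 := hc h1
    rw [Subgroup.mem_center_iff] at h2 ⊢
    intro g
    exact Subtype.ext (h2 g)
  obtain ⟨f, hf⟩ := exists_hom_range h (σ.subgroupComap U) hτ hτc
  rw [← Subgroup.map_subtype_commutator] at hx
  obtain ⟨x', hx', rfl⟩ := hx
  have h1 : x' ∈ (σ.subgroupComap U).ker ⊓ commutator ↥(U.comap σ) := by
    refine Subgroup.mem_inf.mpr ⟨?_, hx'⟩
    rw [MonoidHom.mem_ker]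
    apply Subtype.ext
    exact MonoidHom.mem_ker.mp hxk
  rw [← hf] at h1
  obtain ⟨a, rfl⟩ := h1
  haveI : Subsingleton (Multiplicative (ZMod 1)) := by
    show Subsingleton (ZMod 1)
    infer_instance
  rw [Subsingleton.elim a 1, map_one]
  rfl

/-- the assembly: if for every prime divisor `p` of `|G|` there is a good subgroup of index prime
to `p` then the multiplier of `G` is trivial -/
theorem trivial_of_good [Finite G]
    (h : ∀ p : ℕ, p.Prime → p ∣ Nat.card G → ∃ U : Subgroup G, StemGood U ∧ ¬ p ∣ U.index) :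
    Cfsg.HasCyclicSchurMultiplier G 1 := by
  apply Cfsg.Agent.Lib.Helper2.hasCyclicSchurMultiplier_one_of_forall_ker_eq_bot
  intro Γ _ _ σ hσ
  by_contra hne
  have hcard : Nat.card σ.ker ≠ 1 := fun h1 => hne (Subgroup.card_eq_one.mp h1)
  obtain ⟨p, hp, hpd⟩ := Nat.exists_prime_and_dvd hcard
  haveI : Fact p.Prime := ⟨hp⟩
  obtain ⟨z, hz⟩ := exists_prime_orderOf_dvd_card' p hpd
  have hz' : orderOf (z : Γ) = p := by rw [Subgroup.orderOf_coe, hz]
  have key : ∀ U : Subgroup G, StemGood U → p ∣ U.index := by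
    intro U hU
    have h1 := ker_pow_mem σ hσ U (z : Γ) z.2
    have h2 : (z : Γ) ^ U.index ∈ σ.ker := Subgroup.pow_mem _ z.2 _
    have h3 := hU Γ σ hσ _ h1 h2
    rw [← hz']
    exact orderOf_dvd_of_pow_eq_one h3
  by_cases hpG : p ∣ Nat.card G
  · obtain ⟨U, hU, hnd⟩ := h p hp hpG
    exact hnd (key U hU)
  · have := key ⊥ stemGood_bot
    rw [Subgroup.index_bot] at this
    exact hpG this

/-- transport of the triviality of the multiplier along an isomorphism -/
theorem trivial_of_equiv {G' : Type u} [Group G'] [Finite G'] (e : G ≃* G')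
    (h : Cfsg.HasCyclicSchurMultiplier G 1) : Cfsg.HasCyclicSchurMultiplier G' 1 := by
  apply Cfsg.Agent.Lib.Helper2.hasCyclicSchurMultiplier_one_of_forall_ker_eq_bot
  intro Γ _ _ σ hσ
  obtain ⟨hs, hc, hk⟩ := hσ
  have hker : (e.symm.toMonoidHom.comp σ).ker = σ.ker := by
    ext x
    simp [MonoidHom.mem_ker]
  have h1 := Cfsg.Agent.Lib.Helper2.ker_eq_bot_of_hasCyclicSchurMultiplier_one h Γ
    (e.symm.toMonoidHom.comp σ) ⟨e.symm.surjective.comp hs, by rw [hker]; exact hc,
      by rw [hker]; exact hk⟩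
  rw [← hker, h1]

end good

end Cfsg.Agent.Lib.Helper9.SchurLoc
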