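import Mathlib
import Cfsg.Agent.Lib.Helper9.SchurLoc1

set_option autoImplicit false

/-! Local criteria, part 3: groups `⟨a, b⟩` with `⟨a⟩` normal, `b a b⁻¹ = a ^ (q + 1)`,
`b ^ 2 = a ^ s` have trivial multiplier under an arithmetic condition (covers semidihedral and
generalised quaternion groups, and dihedral groups of twice odd order). -/

namespace Cfsg.Agent.Lib.Helper9.SchurLoc

open scoped commutatorElement
open Cfsg.Agent.Lib.Helper7.SM

universe u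

theorem trivial_metacyclic {G : Type u} [Group G] [Finite G] (a b : G) (n q s : ℕ)
    (hgen : Subgroup.closure {a, b} = ⊤) (hn : orderOf a = n)
    (hba : b * a * b⁻¹ = a ^ (q + 1)) (hb2 : b ^ 2 = a ^ s)
    (harith : ∀ i : ℤ, (n : ℤ) ∣ (q : ℤ) * i → ((Nat.gcd (q + 2) s : ℕ) : ℤ) ∣ i) :
    Cfsg.HasCyclicSchurMultiplier G 1 := by
  apply Cfsg.Agent.Lib.Helper2.hasCyclicSchurMultiplier_one_of_forall_ker_eq_bot
  intro Γ _ _ σ hσ
  obtain ⟨hs, hc, hk⟩ := hσ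
  obtain ⟨a', ha'⟩ := hs a
  obtain ⟨t, ht⟩ := hs b
  obtain ⟨R, hRdef⟩ : ∃ R : Subgroup Γ, R = (Subgroup.zpowers a).comap σ := ⟨_, rfl⟩
  have hRmem : ∀ x, x ∈ R ↔ σ x ∈ Subgroup.zpowers a := by
    intro x
    rw [hRdef]
    rfl
  have hRc : ∀ x ∈ R, ∀ y ∈ R, x * y = y * x := by
    have h1 := commute_of_lifts σ hc {a'} (by
      intro x hx y hy
      rw [Set.mem_singleton_iff] at hx hy
      rw [hx, hy])
    rw [Set.image_singleton, ha', ← Subgroup.zpowers_eq_closure, ← hRdef] at h1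
    exact h1
  have hkerR : σ.ker ≤ R := by
    intro x hx
    rw [hRmem, MonoidHom.mem_ker.mp hx]
    exact one_mem _
  have ha'R : a' ∈ R := by
    rw [hRmem, ha']
    exact Subgroup.mem_zpowers a
  have hconjG : ∀ y ∈ Subgroup.zpowers a, b * y * b⁻¹ ∈ Subgroup.zpowers a := by
    intro y hy
    obtain ⟨i, rfl⟩ := Subgroup.mem_zpowers_iff.mp hy
    rw [← conj_zpow, hba]
    exact Subgroup.zpow_mem _ (Subgroup.pow_mem _ (Subgroup.mem_zpowers a) _) _
  have hRt : ∀ x ∈ R, t * x * t⁻¹ ∈ R := by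
    intro x hx
    rw [hRmem] at hx ⊢
    rw [map_mul, map_mul, map_inv, ht]
    exact hconjG _ hx
  have hRt' : ∀ x ∈ R, t⁻¹ * x * t ∈ R := by
    intro x hx
    rw [hRmem] at hx ⊢
    rw [map_mul, map_mul, map_inv, ht]
    have e1 : b⁻¹ * σ x * b = (a ^ s)⁻¹ * (b * σ x * b⁻¹) * a ^ s := by
      rw [← hb2]
      group
    rw [e1]
    exact mul_mem (mul_mem (inv_mem (Subgroup.pow_mem _ (Subgroup.mem_zpowers a) _))
      (hconjG _ hx)) (Subgroup.pow_mem _ (Subgroup.mem_zpowers a) _)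
  have htop : R ⊔ Subgroup.zpowers t = ⊤ := by
    have h1 : (R ⊔ Subgroup.zpowers t).map σ = ⊤ := by
      rw [Subgroup.map_sup, hRdef, Subgroup.map_comap_eq_self_of_surjective hs,
        MonoidHom.map_zpowers, ht, ← hgen, Subgroup.zpowers_eq_closure, Subgroup.zpowers_eq_closure,
        ← Subgroup.closure_union]
      rfl
    have h2 := Subgroup.comap_map_eq_self (hkerR.trans (le_sup_left : R ≤ R ⊔ Subgroup.zpowers t))
    rw [h1, Subgroup.comap_top] at h2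
    exact h2.symm
  -- the element e
  obtain ⟨e, hedef⟩ : ∃ e : Γ, e = a' * (t * a' * t⁻¹)⁻¹ := ⟨_, rfl⟩
  have heR : e ∈ R := by
    rw [hedef]
    exact mul_mem ha'R (inv_mem (hRt a' ha'R))
  have hta' : t * a' * t⁻¹ = e⁻¹ * a' := by
    rw [hedef]
    group
  have hcomm_ea : Commute e⁻¹ a' := hRc _ (inv_mem heR) _ ha'R
  have hfix : ∀ z ∈ σ.ker, t * z * t⁻¹ = z := by
    intro z hz
    rw [Subgroup.mem_center_iff.mp (hc hz) t, mul_inv_cancel_right]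
  -- t^2 lies in R
  have ht2R : t ^ 2 ∈ R := by
    rw [hRmem, map_pow, ht, hb2]
    exact Subgroup.pow_mem _ (Subgroup.mem_zpowers a) _
  have hθθ : t * (t * a' * t⁻¹) * t⁻¹ = a' := by
    have h1 : t * (t * a' * t⁻¹) * t⁻¹ = t ^ 2 * a' * (t ^ 2)⁻¹ := by
      rw [pow_two, mul_inv_rev]
      simp only [mul_assoc]
    rw [h1, hRc _ ht2R _ ha'R, mul_inv_cancel_right]
  have hθe : t * e * t⁻¹ = e⁻¹ := by
    have h1 : t * e * t⁻¹ = (t * a' * t⁻¹) * (t * (t * a' * t⁻¹) * t⁻¹)⁻¹ := by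
      rw [hedef]
      group
    rw [h1, hθθ, hedef]
    group
  -- e ^ s = 1
  have hes : e ^ s = 1 := by
    obtain ⟨w, hwdef⟩ : ∃ w : Γ, w = (a' ^ s)⁻¹ * t ^ 2 := ⟨_, rfl⟩
    have hwK : w ∈ σ.ker := by
      rw [MonoidHom.mem_ker, hwdef, map_mul, map_inv, map_pow, map_pow, ha', ht, hb2,
        inv_mul_cancel]
    have ht2 : t ^ 2 = a' ^ s * w := by
      rw [hwdef]
      group
    have h1 : t * (t ^ 2) * t⁻¹ = t ^ 2 := by group
    have h2 : t * (a' ^ s * w) * t⁻¹ = (e⁻¹) ^ s * (a' ^ s * w) := by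
      have : t * (a' ^ s * w) * t⁻¹ = (t * a' * t⁻¹) ^ s * (t * w * t⁻¹) := by
        rw [conj_pow]
        group
      rw [this, hfix w hwK, hta', hcomm_ea.mul_pow, mul_assoc]
    rw [ht2, h2] at h1
    have h3 : (e⁻¹) ^ s = 1 := mul_eq_right.mp h1
    rw [inv_pow, inv_eq_one] at h3
    exact h3
  -- e ^ (q + 2) = 1
  have heq : e ^ (q + 2) = 1 := by
    obtain ⟨k', hk'def⟩ : ∃ k' : Γ, k' = a' ^ q * e := ⟨_, rfl⟩
    have hk'K : k' ∈ σ.ker := by
      rw [MonoidHom.mem_ker, hk'def, hedef]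
      simp only [map_mul, map_inv, map_pow, ha', ht, hba]
      rw [pow_succ]
      group
    have h1 := hfix k' hk'K
    have h2 : t * k' * t⁻¹ = (e⁻¹) ^ q * a' ^ q * e⁻¹ := by
      have : t * k' * t⁻¹ = (t * a' * t⁻¹) ^ q * (t * e * t⁻¹) := by
        rw [hk'def, conj_pow]
        group
      rw [this, hθe, hta', hcomm_ea.mul_pow]
    have hAR : a' ^ q ∈ R := Subgroup.pow_mem _ ha'R _
    have hER : (e⁻¹) ^ q ∈ R := Subgroup.pow_mem _ (inv_mem heR) _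
    have h3 : (e⁻¹) ^ q * a' ^ q * e⁻¹ = a' ^ q * (e⁻¹) ^ (q + 1) := by
      rw [hRc _ hER _ hAR, mul_assoc, ← pow_succ]
    rw [h2, h3, hk'def] at h1
    have h4 : (e⁻¹) ^ (q + 1) = e := mul_left_cancel h1
    calc e ^ (q + 2) = e ^ (q + 1) * e := pow_succ e (q + 1)
      _ = e ^ (q + 1) * (e⁻¹) ^ (q + 1) := by rw [h4]
      _ = 1 := by rw [inv_pow, mul_inv_cancel]
  have heg : e ^ (Nat.gcd (q + 2) s) = 1 := pow_gcd_eq_one.mpr ⟨heq, hes⟩
  have hσe : σ e = (a ^ q)⁻¹ := by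
    rw [hedef]
    simp only [map_mul, map_inv, ha', ht, hba]
    rw [pow_succ]
    group
  -- the kernel is trivial
  rw [eq_bot_iff]
  intro y hy
  rw [Subgroup.mem_bot]
  obtain ⟨x, hxR, hyx⟩ := Cfsg.Agent.Lib.Helper2.exists_eq_mul_conj_inv_of_mem_commutator R t hRc
    hRt hRt' htop y (hk hy)
  obtain ⟨i, hi⟩ := Subgroup.mem_zpowers_iff.mp ((hRmem x).mp hxR)
  obtain ⟨z, hzdef⟩ : ∃ z : Γ, z = (a' ^ i)⁻¹ * x := ⟨_, rfl⟩
  have hzK : z ∈ σ.ker := by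
    rw [MonoidHom.mem_ker, hzdef, map_mul, map_inv, map_zpow, ha', hi, inv_mul_cancel]
  have hx : x = a' ^ i * z := by
    rw [hzdef]
    group
  have hye : y = e ^ i := by
    have h1 : t * x * t⁻¹ = (e⁻¹) ^ i * a' ^ i * z := by
      have : t * x * t⁻¹ = (t * a' * t⁻¹) ^ i * (t * z * t⁻¹) := by
        rw [hx, conj_zpow]
        group
      rw [this, hfix z hzK, hta', hcomm_ea.mul_zpow]
    rw [hyx, h1, hx]
    rw [inv_zpow]
    group
  have h1 : ((a ^ q)⁻¹) ^ i = 1 := by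
    rw [← hσe, ← map_zpow, ← hye]
    exact MonoidHom.mem_ker.mp hy
  have h2 : a ^ ((q : ℤ) * i) = 1 := by
    rw [inv_zpow, inv_eq_one] at h1
    rw [zpow_mul, zpow_natCast]
    exact h1
  have h3 : (n : ℤ) ∣ (q : ℤ) * i := by
    rw [← hn]
    exact orderOf_dvd_iff_zpow_eq_one.mpr h2
  obtain ⟨j, hj⟩ := harith i h3
  rw [hye, hj, zpow_mul, zpow_natCast, heg, one_zpow]

end Cfsg.Agent.Lib.Helper9.SchurLoc
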