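import Mathlib
import Cfsg.Agent.Lib.Helper9.SchurLoc1

set_option autoImplicit false

/-! Local criteria, part 2: abelian subgroups of rank two with an element of the normaliser of
determinant `-1`. -/

namespace Cfsg.Agent.Lib.Helper9.SchurLoc

open scoped commutatorElement
open Cfsg.Agent.Lib.Helper7.SM

universe u

section cl

variable {Γ : Type*} [Group Γ]

theorem comm_mul_right' (a x y : Γ) : ⁅a, x * y⁆ = ⁅a, x⁆ * (x * ⁅a, y⁆ * x⁻¹) := by
  simp only [commutatorElement_def]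
  group

theorem comm_pow_right (a b : Γ) (hc : ⁅a, b⁆ ∈ Subgroup.center Γ) (n : ℕ) :
    ⁅a, b ^ n⁆ = ⁅a, b⁆ ^ n := by
  induction n with
  | zero => simp
  | succ n ih =>
    rw [pow_succ, comm_mul_right', ih, pow_succ]
    have h := Subgroup.mem_center_iff.mp hc (b ^ n)
    rw [h, mul_inv_cancel_right]

theorem comm_inv_right (a b : Γ) (hc : ⁅a, b⁆ ∈ Subgroup.center Γ) : ⁅a, b⁻¹⁆ = ⁅a, b⁆⁻¹ := by
  have h := Subgroup.mem_center_iff.mp (Subgroup.inv_mem _ hc) b⁻¹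
  have h1 : ⁅a, b⁻¹⁆ = b⁻¹ * ⁅a, b⁆⁻¹ * b⁻¹⁻¹ := by
    simp only [commutatorElement_def]
    group
  rw [h1, h, mul_inv_cancel_right]

end cl

/-- a commutative subgroup generated by `u`, `v` with `v` of odd order, and an element `t`
centralising `u` and inverting `v`, is good -/
theorem stemGood_rank2 {G : Type u} [Group G] (u v t : G) (huv : u * v = v * u)
    (htu : t * u * t⁻¹ = u) (htv : t * v * t⁻¹ = v⁻¹) (m : ℕ) (hm : Odd m) (hvm : v ^ m = 1) :
    StemGood (Subgroup.closure {u, v}) := by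
  apply stemGood_of_lifts
  intro Γ _ _ σ hσ
  obtain ⟨hs, hc, hk⟩ := hσ
  obtain ⟨u', hu'⟩ := hs u
  obtain ⟨v', hv'⟩ := hs v
  obtain ⟨t', ht'⟩ := hs t
  obtain ⟨c, hcdef⟩ : ∃ c : Γ, c = ⁅u', v'⁆ := ⟨_, rfl⟩
  have hcK : c ∈ σ.ker := by
    rw [MonoidHom.mem_ker, hcdef, map_commutatorElement, hu', hv',
      commutatorElement_eq_one_iff_mul_comm]
    exact huv
  have hcZ : c ∈ Subgroup.center Γ := hc hcK
  -- conjugation by t'
  have hk1 : u'⁻¹ * (t' * u' * t'⁻¹) ∈ σ.ker := by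
    rw [MonoidHom.mem_ker]
    simp only [map_mul, map_inv, hu', ht', htu]
    group
  have hk2 : v' * (t' * v' * t'⁻¹) ∈ σ.ker := by
    rw [MonoidHom.mem_ker]
    simp only [map_mul, map_inv, hv', ht', htv]
    group
  have e1 : t' * u' * t'⁻¹ = u' * (u'⁻¹ * (t' * u' * t'⁻¹)) := by group
  have e2 : t' * v' * t'⁻¹ = v'⁻¹ * (v' * (t' * v' * t'⁻¹)) := by group
  have hconj : t' * c * t'⁻¹ = ⁅t' * u' * t'⁻¹, t' * v' * t'⁻¹⁆ := by
    rw [hcdef]
    simp only [commutatorElement_def]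
    group
  have h1 : t' * c * t'⁻¹ = c⁻¹ := by
    rw [hconj, e1, e2, comm_mul_central _ _ _ _ (hc hk1) (hc hk2),
      comm_inv_right _ _ (hcdef ▸ hcZ), ← hcdef]
  have h2 : t' * c * t'⁻¹ = c := by
    rw [Subgroup.mem_center_iff.mp hcZ t', mul_inv_cancel_right]
  have hc2 : c ^ 2 = 1 := by
    rw [pow_two]
    have : c = c⁻¹ := by rw [← h1, h2]
    calc c * c = c * c⁻¹ := by rw [← this]
      _ = 1 := mul_inv_cancel c
  have hcm : c ^ m = 1 := by
    have hvK : v' ^ m ∈ σ.ker := by rw [MonoidHom.mem_ker, map_pow, hv', hvm]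
    have := comm_pow_right u' v' (hcdef ▸ hcZ) m
    rw [← hcdef] at this
    rw [← this, commutatorElement_eq_one_iff_mul_comm]
    exact Subgroup.mem_center_iff.mp (hc hvK) u'
  have hc1 : c = 1 := by
    obtain ⟨j, hj⟩ := hm
    rw [hj, pow_succ, pow_mul, hc2, one_pow, one_mul] at hcm
    exact hcm
  have huv' : u' * v' = v' * u' := by
    rw [← commutatorElement_eq_one_iff_mul_comm, ← hcdef, hc1]
  refine ⟨{u', v'}, by rw [Set.image_pair, hu', hv'], ?_⟩
  intro x hx y hy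
  rcases hx with rfl | rfl <;> rcases hy with rfl | rfl
  · rfl
  · exact huv'
  · exact huv'.symm
  · rfl

end Cfsg.Agent.Lib.Helper9.SchurLoc
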