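import Mathlib
import Cfsg.Agent.Lib.Helper9.SchurLoc2
import Cfsg.Agent.S3979

set_option autoImplicit false

/-! Local criteria, part 4: abelian subgroups of rank three with an element of the normaliser
acting as a companion matrix; Sylow subgroups of prime order. -/

namespace Cfsg.Agent.Lib.Helper9.SchurLoc

open scoped commutatorElement
open Cfsg.Agent.Lib.Helper7.SM

universe u

section cl

variable {Γ : Type*} [Group Γ]

theorem comm_conj (t a b : Γ) : t * ⁅a, b⁆ * t⁻¹ = ⁅t * a * t⁻¹, t * b * t⁻¹⁆ := by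
  simp only [commutatorElement_def]
  group

theorem comm_mul_right_central (a x y : Γ) (hc : ⁅a, y⁆ ∈ Subgroup.center Γ) :
    ⁅a, x * y⁆ = ⁅a, x⁆ * ⁅a, y⁆ := by
  rw [comm_mul_right', Subgroup.mem_center_iff.mp hc x, mul_inv_cancel_right]

end cl

/-- a commutative subgroup generated by `e₀`, `e₁`, `e₂`, permuted by `s` as the basis
`1, α, α²` of the field of order eight (`α³ = α + 1`) under multiplication by `α`, is good -/
theorem stemGood_frob3 {G : Type u} [Group G] (s e₀ e₁ e₂ : G) (h1 : s * e₀ * s⁻¹ = e₁)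
    (h2 : s * e₁ * s⁻¹ = e₂) (h3 : s * e₂ * s⁻¹ = e₀ * e₁) (c01 : e₀ * e₁ = e₁ * e₀)
    (c02 : e₀ * e₂ = e₂ * e₀) (c12 : e₁ * e₂ = e₂ * e₁) :
    StemGood (Subgroup.closure {e₀, e₁, e₂}) := by
  apply stemGood_of_lifts
  intro Γ _ _ σ hσ
  obtain ⟨hs, hc, hk⟩ := hσ
  obtain ⟨t, ht⟩ := hs s
  obtain ⟨a₀, ha₀⟩ := hs e₀
  obtain ⟨a₁, ha₁d⟩ : ∃ a₁ : Γ, a₁ = t * a₀ * t⁻¹ := ⟨_, rfl⟩
  obtain ⟨a₂, ha₂d⟩ : ∃ a₂ : Γ, a₂ = t * a₁ * t⁻¹ := ⟨_, rfl⟩
  have ha₁ : σ a₁ = e₁ := by rw [ha₁d, map_mul, map_mul, map_inv, ht, ha₀, h1]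
  have ha₂ : σ a₂ = e₂ := by rw [ha₂d, map_mul, map_mul, map_inv, ht, ha₁, h2]
  -- the commutators are central
  have k01 : ⁅a₀, a₁⁆ ∈ Subgroup.center Γ := by
    apply hc
    rw [MonoidHom.mem_ker, map_commutatorElement, ha₀, ha₁, commutatorElement_eq_one_iff_mul_comm]
    exact c01
  have k02 : ⁅a₀, a₂⁆ ∈ Subgroup.center Γ := by
    apply hc
    rw [MonoidHom.mem_ker, map_commutatorElement, ha₀, ha₂, commutatorElement_eq_one_iff_mul_comm]
    exact c02
  have k12 : ⁅a₁, a₂⁆ ∈ Subgroup.center Γ := by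
    apply hc
    rw [MonoidHom.mem_ker, map_commutatorElement, ha₁, ha₂, commutatorElement_eq_one_iff_mul_comm]
    exact c12
  have k10 : ⁅a₁, a₀⁆ ∈ Subgroup.center Γ := by
    rw [← commutatorElement_inv]
    exact Subgroup.inv_mem _ k01
  have k20 : ⁅a₂, a₀⁆ ∈ Subgroup.center Γ := by
    rw [← commutatorElement_inv]
    exact Subgroup.inv_mem _ k02
  have k21 : ⁅a₂, a₁⁆ ∈ Subgroup.center Γ := by
    rw [← commutatorElement_inv]
    exact Subgroup.inv_mem _ k12
  -- the third conjugate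
  have hz : (a₀ * a₁)⁻¹ * (t * a₂ * t⁻¹) ∈ Subgroup.center Γ := by
    apply hc
    rw [MonoidHom.mem_ker]
    simp only [map_mul, map_inv, ht, ha₀, ha₁, ha₂, h3]
    group
  have e3 : t * a₂ * t⁻¹ = a₀ * a₁ * ((a₀ * a₁)⁻¹ * (t * a₂ * t⁻¹)) := by group
  have conj_c (c : Γ) (hcz : c ∈ Subgroup.center Γ) : t * c * t⁻¹ = c := by
    rw [Subgroup.mem_center_iff.mp hcz t, mul_inv_cancel_right]
  -- c₁₂ = c₀₁
  have r1 : ⁅a₁, a₂⁆ = ⁅a₀, a₁⁆ := by
    rw [← conj_c _ k01, comm_conj, ← ha₁d, ← ha₂d]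
  -- c₀₂ = [a₁, a₃] = [a₁, a₀]
  have r2 : ⁅a₀, a₂⁆ = ⁅a₁, a₀⁆ := by
    rw [← conj_c _ k02, comm_conj, ← ha₁d, e3, comm_mul_central_right _ _ _ hz,
      comm_mul_right_central _ _ _ (by rw [commutatorElement_self]; exact Subgroup.one_mem _),
      commutatorElement_self, mul_one]
  -- c₁₂ = [a₂, a₃] = [a₂, a₀] [a₂, a₁]
  have r3 : ⁅a₁, a₂⁆ = ⁅a₂, a₀⁆ * ⁅a₂, a₁⁆ := by
    rw [← conj_c _ k12, comm_conj, ← ha₂d, e3, comm_mul_central_right _ _ _ hz,
      comm_mul_right_central _ _ _ k21]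
  have q01 : ⁅a₀, a₁⁆ = 1 := by
    have i1 : ⁅a₂, a₀⁆ = ⁅a₀, a₁⁆ := by
      rw [← commutatorElement_inv a₀ a₂, r2, commutatorElement_inv]
    have i2 : ⁅a₂, a₁⁆ = ⁅a₀, a₁⁆⁻¹ := by
      rw [← commutatorElement_inv a₁ a₂, r1]
    rw [r1, i1, i2, mul_inv_cancel] at r3
    exact r3
  have q12 : ⁅a₁, a₂⁆ = 1 := by rw [r1, q01]
  have q02 : ⁅a₀, a₂⁆ = 1 := by
    rw [r2, ← commutatorElement_inv, q01, inv_one]
  rw [commutatorElement_eq_one_iff_mul_comm] at q01 q12 q02
  refine ⟨{a₀, a₁, a₂}, ?_, ?_⟩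
  · rw [Set.image_insert_eq, Set.image_pair, ha₀, ha₁, ha₂]
  · intro x hx y hy
    rcases hx with rfl | rfl | rfl <;> rcases hy with rfl | rfl | rfl
    · rfl
    · exact q01
    · exact q02
    · exact q01.symm
    · rfl
    · exact q12
    · exact q02.symm
    · exact q12.symm
    · rfl

/-- the index of an elementary abelian subgroup of order at least five is odd when sixteen
does not divide the order of the group -/
theorem index_odd_of_elem_abelian {G : Type u} [Group G] [Finite G] (S : Set G)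
    (hcomm : ∀ x ∈ S, ∀ y ∈ S, x * y = y * x) (hinv : ∀ x ∈ S, x ^ 2 = 1)
    (hcard : 4 < Nat.card (Subgroup.closure S)) (hN : ¬ 16 ∣ Nat.card G) :
    ¬ 2 ∣ (Subgroup.closure S).index := by
  haveI : Fact (Nat.Prime 2) := ⟨Nat.prime_two⟩
  have hcm := Subgroup.isMulCommutative_closure hcomm
  have hexp : ∀ x ∈ Subgroup.closure S, x ^ 2 = 1 := by
    intro x hx
    induction hx using Subgroup.closure_induction with
    | mem x hx => exact hinv x hx
    | one => exact one_pow 2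
    | mul x y hx hy ihx ihy =>
      have hc : Commute x y := by
        have := hcm.is_comm.comm (⟨x, hx⟩ : ↥(Subgroup.closure S)) ⟨y, hy⟩
        exact congrArg Subtype.val this
      rw [hc.mul_pow, ihx, ihy, one_mul]
    | inv x hx ih => rw [inv_pow, ih, inv_one]
  have hp : IsPGroup 2 ↥(Subgroup.closure S) := by
    intro x
    refine ⟨1, ?_⟩
    rw [pow_one]
    exact Subtype.ext (hexp x x.2)
  obtain ⟨k, hk⟩ := hp.exists_card_eq
  have hk3 : 3 ≤ k := by
    by_contra hlt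
    have hk2 : k ≤ 2 := by omega
    have : 2 ^ k ≤ 2 ^ 2 := Nat.pow_le_pow_right (by norm_num) hk2
    rw [hk] at hcard
    omega
  intro h2
  have hmul := Subgroup.card_mul_index (Subgroup.closure S)
  rw [hk] at hmul
  have h8 : 2 ^ 3 ∣ 2 ^ k := pow_dvd_pow 2 hk3
  apply hN
  rw [← hmul]
  have : (16 : ℕ) = 2 ^ 3 * 2 := by norm_num
  rw [this]
  exact Nat.mul_dvd_mul h8 h2

/-- a prime dividing the order of `G` exactly once has a good subgroup of index prime to it -/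
theorem good_of_prime_sylow {G : Type u} [Group G] [Finite G] (p : ℕ) [Fact p.Prime]
    (hfac : (Nat.card G).factorization p = 1) :
    ∃ U : Subgroup G, StemGood U ∧ ¬ p ∣ U.index := by
  obtain ⟨S⟩ : Nonempty (Sylow p G) := inferInstance
  have hcard : Nat.card ↥(S : Subgroup G) = p := by
    rw [S.card_eq_multiplicity, hfac, pow_one]
  haveI : IsCyclic ↥(S : Subgroup G) := isCyclic_of_prime_card hcard
  exact ⟨S, stemGood_of_trivial _ Cfsg.Agent.S3979.result, S.not_dvd_index⟩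

/-- a subgroup containing elements separated by a function has at least that many elements -/
theorem card_ge_of_nodup {G : Type*} [Group G] [Finite G] (H : Subgroup G) {β : Type*}
    (f : G → β) (l : List G) (hl : ∀ g ∈ l, g ∈ H) (hnd : (l.map f).Nodup) :
    l.length ≤ Nat.card H := by
  classical
  haveI := Fintype.ofFinite ↥H
  have h1 : l.Nodup := List.Nodup.of_map f hnd
  have h2 : (l.attach.map (fun g => (⟨g.1, hl g.1 g.2⟩ : ↥H))).Nodup := by
    apply List.Nodup.map _ (List.nodup_attach.mpr h1)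
    intro a b hab
    have hab' : (a : G) = (b : G) := congrArg (fun x : ↥H => (x : G)) hab
    exact Subtype.ext hab'
  have h3 := List.Nodup.length_le_card h2
  rw [List.length_map, List.length_attach] at h3
  rw [Nat.card_eq_fintype_card]
  exact h3

end Cfsg.Agent.Lib.Helper9.SchurLoc
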