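import Mathlib
import Cfsg.Agent.Lib.Helper9.SchurLoc3
import Cfsg.Agent.Lib.Helper9.SchurLoc4
import Cfsg.Agent.Lib.Helper7.SM5

set_option autoImplicit false

/-! Local criteria, part 5: metacyclic subgroups with a cyclic subgroup of index two, and the
multiplier of a group with a stem cover of trivial multiplier. -/

namespace Cfsg.Agent.Lib.Helper9.SchurLoc

open scoped commutatorElement
open Cfsg.Agent.Lib.Helper7.SM

universe u v

section metac

variable {G : Type*} [Group G]

theorem conj_zpow_of_rel (a b : G) (k : ℕ) (hba : b * a * b⁻¹ = a ^ k) (i : ℤ) :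
    b * a ^ i = (a ^ k) ^ i * b := by
  have h : b * a ^ i * b⁻¹ = (a ^ k) ^ i := by
    rw [← hba]
    exact (conj_zpow (a := b) (b := a) (i := i)).symm
  rw [← h]
  group

/-- a group generated by `a`, `b` with `b` normalising `⟨a⟩` and `b² ∈ ⟨a⟩` has order at most
twice the order of `a` -/
theorem card_metacyclic_le [Finite G] (a b : G) (n k s : ℕ) (hgen : Subgroup.closure {a, b} = ⊤)
    (hn : a ^ n = 1) (hn0 : 0 < n) (hba : b * a * b⁻¹ = a ^ k) (hb2 : b ^ 2 = a ^ s) :
    Nat.card G ≤ 2 * n := by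
  have hbb : b * b = a ^ (s : ℤ) := by rw [← pow_two, hb2, zpow_natCast]
  have hbinv : b⁻¹ = b * a ^ (-(s : ℤ)) := by
    rw [zpow_neg, ← hbb]
    group
  have hpow : ∀ i : ℤ, (a ^ k) ^ i = a ^ ((k : ℤ) * i) := by
    intro i
    rw [← zpow_natCast, ← zpow_mul]
  have key : ∀ x : G, ∃ i : ℤ, x = a ^ i ∨ x = a ^ i * b := by
    intro x
    have hx : x ∈ Subgroup.closure ({a, b} : Set G) := by rw [hgen]; exact Subgroup.mem_top x
    induction hx using Subgroup.closure_induction_left with
    | one => exact ⟨0, Or.inl (by simp)⟩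
    | mul_left g hg y hy ih =>
      obtain ⟨i, hi | hi⟩ := ih
      · rcases hg with rfl | rfl
        · exact ⟨1 + i, Or.inl (by rw [hi, zpow_add, zpow_one])⟩
        · refine ⟨(k : ℤ) * i, Or.inr ?_⟩
          rw [hi, conj_zpow_of_rel a g k hba, hpow]
      · rcases hg with rfl | rfl
        · exact ⟨1 + i, Or.inr (by rw [hi, zpow_add, zpow_one, mul_assoc])⟩
        · refine ⟨(k : ℤ) * i + s, Or.inl ?_⟩
          rw [hi, ← mul_assoc, conj_zpow_of_rel a g k hba, hpow, mul_assoc, hbb, zpow_add]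
    | inv_mul_cancel g hg y hy ih =>
      obtain ⟨i, hi | hi⟩ := ih
      · rcases hg with rfl | rfl
        · exact ⟨-1 + i, Or.inl (by rw [hi, zpow_add, zpow_neg, zpow_one])⟩
        · refine ⟨(k : ℤ) * (-(s : ℤ) + i), Or.inr ?_⟩
          rw [hi, hbinv, mul_assoc, ← zpow_add, conj_zpow_of_rel a g k hba, hpow]
      · rcases hg with rfl | rfl
        · exact ⟨-1 + i, Or.inr (by rw [hi, zpow_add, zpow_neg, zpow_one, mul_assoc])⟩
        · refine ⟨(k : ℤ) * (-(s : ℤ) + i) + s, Or.inl ?_⟩
          rw [hi, hbinv, mul_assoc, ← mul_assoc (a ^ (-(s : ℤ))), ← zpow_add, ← mul_assoc,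
            conj_zpow_of_rel a g k hba, hpow, mul_assoc, hbb, zpow_add]
  -- a surjection from `Fin n × Bool`
  have hmod : ∀ i : ℤ, a ^ i = a ^ (i % (n : ℤ)).toNat := by
    intro i
    have hnz : (n : ℤ) ≠ 0 := by exact_mod_cast hn0.ne'
    have h1 : 0 ≤ i % (n : ℤ) := Int.emod_nonneg i hnz
    rw [← zpow_natCast, Int.toNat_of_nonneg h1]
    have h2 : i = i % (n : ℤ) + (n : ℤ) * (i / (n : ℤ)) := (Int.emod_add_mul_ediv i n).symm
    conv_lhs => rw [h2]
    rw [zpow_add, zpow_mul, zpow_natCast, hn, one_zpow, mul_one]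
  have hlt : ∀ i : ℤ, (i % (n : ℤ)).toNat < n := by
    intro i
    have hnz : (n : ℤ) ≠ 0 := by exact_mod_cast hn0.ne'
    have h1 : 0 ≤ i % (n : ℤ) := Int.emod_nonneg i hnz
    have h2 : i % (n : ℤ) < n := Int.emod_lt_of_pos i (by exact_mod_cast hn0)
    omega
  have hsurj : Function.Surjective
      (fun q : Fin n × Bool => if q.2 then a ^ q.1.val * b else a ^ q.1.val) := by
    intro x
    obtain ⟨i, hi | hi⟩ := key x
    · refine ⟨(⟨(i % (n : ℤ)).toNat, hlt i⟩, false), ?_⟩
      simp only [Bool.false_eq_true, if_false]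
      rw [hi, ← hmod]
    · refine ⟨(⟨(i % (n : ℤ)).toNat, hlt i⟩, true), ?_⟩
      simp only [if_true]
      rw [hi, ← hmod]
  have := Nat.card_le_card_of_surjective _ hsurj
  have hB : Nat.card Bool = 2 := by rw [Nat.card_eq_fintype_card, Fintype.card_bool]
  rw [Nat.card_prod, Nat.card_fin, hB] at this
  omega

end metac

section sub

variable {G : Type u} [Group G] [Finite G]

theorem closure_pair_top (a b : G) (ha : a ∈ Subgroup.closure ({a, b} : Set G))
    (hb : b ∈ Subgroup.closure ({a, b} : Set G)) :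
    Subgroup.closure ({⟨a, ha⟩, ⟨b, hb⟩} : Set ↥(Subgroup.closure ({a, b} : Set G))) = ⊤ := by
  have h := Subgroup.closure_closure_coe_preimage (k := ({a, b} : Set G))
  have hset : ((↑) : ↥(Subgroup.closure ({a, b} : Set G)) → G) ⁻¹' ({a, b} : Set G) =
      {⟨a, ha⟩, ⟨b, hb⟩} := by
    ext x
    simp only [Set.mem_preimage, Set.mem_insert_iff, Set.mem_singleton_iff, Subtype.ext_iff]
  rw [hset] at h
  exact h

/-- the order of a subgroup generated by `a`, `b` with `b ∉ ⟨a⟩` normalising `⟨a⟩` and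
`b² ∈ ⟨a⟩` is twice the order of `a` -/
theorem card_closure_metacyclic (a b : G) (n k s : ℕ) (hord : orderOf a = n)
    (hba : b * a * b⁻¹ = a ^ k) (hb2 : b ^ 2 = a ^ s) (hb : b ∉ Subgroup.zpowers a) :
    Nat.card (Subgroup.closure ({a, b} : Set G)) = 2 * n := by
  have hn0 : 0 < n := by rw [← hord]; exact orderOf_pos a
  have ha' : a ∈ Subgroup.closure ({a, b} : Set G) := Subgroup.subset_closure (by simp)
  have hb' : b ∈ Subgroup.closure ({a, b} : Set G) := Subgroup.subset_closure (by simp)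
  have hle := card_metacyclic_le (G := ↥(Subgroup.closure ({a, b} : Set G))) ⟨a, ha'⟩ ⟨b, hb'⟩ n k s
    (closure_pair_top a b ha' hb')
    (by apply Subtype.ext; show a ^ n = 1; rw [← hord]; exact pow_orderOf_eq_one a) hn0
    (by apply Subtype.ext; exact hba) (by apply Subtype.ext; exact hb2)
  have hz : Subgroup.zpowers a ≤ Subgroup.closure ({a, b} : Set G) := by
    rw [Subgroup.zpowers_le]
    exact ha'
  have hdvd : n ∣ Nat.card (Subgroup.closure ({a, b} : Set G)) := by
    rw [← hord, ← Nat.card_zpowers]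
    exact Subgroup.card_dvd_of_le hz
  have hgt : n < Nat.card (Subgroup.closure ({a, b} : Set G)) := by
    by_contra hle'
    have hcard : Nat.card (Subgroup.closure ({a, b} : Set G)) ≤ Nat.card (Subgroup.zpowers a) := by
      rw [Nat.card_zpowers, hord]
      omega
    have := Subgroup.eq_of_le_of_card_ge hz hcard
    rw [this] at hb
    exact hb hb'
  obtain ⟨c, hc⟩ := hdvd
  rw [hc] at hgt hle ⊢
  have hc1 : 1 < c := by
    by_contra h
    have : c ≤ 1 := by omega
    have : n * c ≤ n * 1 := Nat.mul_le_mul_left n this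
    omega
  have hc2 : c ≤ 2 := by
    by_contra h
    have : 3 ≤ c := by omega
    have : n * 3 ≤ n * c := Nat.mul_le_mul_left n this
    omega
  have : c = 2 := by omega
  rw [this, mul_comm]

/-- a subgroup generated by `a`, `b` subject to metacyclic relations whose arithmetic forces a
trivial multiplier is good -/
theorem stemGood_metacyclic (a b : G) (n q s : ℕ) (hord : orderOf a = n)
    (hba : b * a * b⁻¹ = a ^ (q + 1)) (hb2 : b ^ 2 = a ^ s)
    (harith : ∀ i : ℤ, (n : ℤ) ∣ (q : ℤ) * i → ((Nat.gcd (q + 2) s : ℕ) : ℤ) ∣ i) :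
    StemGood (Subgroup.closure ({a, b} : Set G)) := by
  have ha' : a ∈ Subgroup.closure ({a, b} : Set G) := Subgroup.subset_closure (by simp)
  have hb' : b ∈ Subgroup.closure ({a, b} : Set G) := Subgroup.subset_closure (by simp)
  apply stemGood_of_trivial
  apply trivial_metacyclic (G := ↥(Subgroup.closure ({a, b} : Set G))) ⟨a, ha'⟩ ⟨b, hb'⟩ n q s
    (closure_pair_top a b ha' hb')
  · rw [← hord]
    exact Subgroup.orderOf_mk a ha'
  · apply Subtype.ext
    exact hba
  · apply Subtype.ext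
    exact hb2
  · exact harith

end sub

/-! ### covers -/

theorem isStem_comp_equiv {Γ Γ' Q : Type*} [Group Γ] [Group Γ'] [Group Q] (σ : Γ →* Q)
    (hσ : Cfsg.IsStemExtension σ) (e : Γ' ≃* Γ) :
    Cfsg.IsStemExtension (σ.comp e.toMonoidHom) := by
  obtain ⟨hs, hc, hk⟩ := hσ
  have hker : ∀ x : Γ', x ∈ (σ.comp e.toMonoidHom).ker ↔ e x ∈ σ.ker := by
    intro x
    rw [MonoidHom.mem_ker, MonoidHom.mem_ker]
    rfl
  refine ⟨hs.comp e.surjective, ?_, ?_⟩
  · intro x hx
    have h1 := hc ((hker x).mp hx)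
    rw [Subgroup.mem_center_iff] at h1 ⊢
    intro g
    apply e.injective
    rw [map_mul, map_mul]
    exact h1 (e g)
  · intro x hx
    have h1 := hk ((hker x).mp hx)
    have h2 : (commutator Γ).map e.symm.toMonoidHom ≤ commutator Γ' := by
      rw [commutator_def, commutator_def, Subgroup.map_commutator]
      exact Subgroup.commutator_mono le_top le_top
    have h3 : e.symm (e x) ∈ commutator Γ' := h2 ⟨e x, h1, rfl⟩
    rwa [MulEquiv.symm_apply_apply] at h3

/-- a group with a stem cover of trivial multiplier has the kernel of the cover as multiplier -/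
theorem hasSchurMultiplier_of_cover {Q : Type u} [Group Q] [Finite Q] {Γ : Type} [Group Γ]
    [Finite Γ] (σ : Γ →* Q) (hσ : Cfsg.IsStemExtension σ)
    (hΓ : Cfsg.HasCyclicSchurMultiplier Γ 1) {A : Type v} [CommGroup A] (e : σ.ker ≃* A) :
    Cfsg.HasSchurMultiplier Q A := by
  constructor
  · refine ⟨ULift.{u} Γ, inferInstance, inferInstance,
      σ.comp (MulEquiv.ulift : ULift.{u} Γ ≃* Γ).toMonoidHom,
      isStem_comp_equiv σ hσ MulEquiv.ulift, ?_⟩
    have hker : ∀ x : ULift.{u} Γ,
        x ∈ (σ.comp (MulEquiv.ulift : ULift.{u} Γ ≃* Γ).toMonoidHom).ker ↔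
          (MulEquiv.ulift : ULift.{u} Γ ≃* Γ) x ∈ σ.ker := by
      intro x
      rw [MonoidHom.mem_ker, MonoidHom.mem_ker]
      rfl
    have e1 : (σ.comp (MulEquiv.ulift : ULift.{u} Γ ≃* Γ).toMonoidHom).ker ≃* σ.ker :=
      (MulEquiv.ulift : ULift.{u} Γ ≃* Γ).subgroupMap _ |>.trans
        (MulEquiv.subgroupCongr (by
          ext y
          constructor
          · rintro ⟨x, hx, rfl⟩
            exact (hker x).mp hx
          · intro hy
            refine ⟨(MulEquiv.ulift : ULift.{u} Γ ≃* Γ).symm y, ?_, ?_⟩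
            · apply (hker _).mpr
              rw [MulEquiv.apply_symm_apply]
              exact hy
            · exact MulEquiv.apply_symm_apply _ y))
    exact ⟨e1.trans e⟩
  · intro Δ _ _ τ hτ
    obtain ⟨π, hπ⟩ := trivial_mult_cover σ hσ hΓ Δ τ hτ
    exact ⟨π.comp e.symm.toMonoidHom, hπ.comp e.symm.surjective⟩

end Cfsg.Agent.Lib.Helper9.SchurLoc
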