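import Mathlib
import Cfsg.Agent.Lib.Helper9.SchurLoc5
import Cfsg.Agent.Lib.Helper4.SLCenter
import Cfsg.Agent.S0255
import Cfsg.Agent.Lib.Helper9.G42E

set_option autoImplicit false

/-! The Schur multiplier of `PSL₃(2)` is cyclic of order two: `SL₂(7)` is a stem cover of
`PSL₂(7) ≃ PSL₃(2)` with trivial multiplier. -/

namespace Cfsg.Agent.Lib.Helper9.SchurL32

open Cfsg Cfsg.Agent.Lib.Helper9.SchurLoc Cfsg.Agent.Lib.Helper4 Matrix
open scoped commutatorElement

universe u

abbrev S27 := Matrix.SpecialLinearGroup (Fin 2) (ZMod 7)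

instance fact_seven : Fact (Nat.Prime 7) := ⟨by norm_num⟩

theorem card_S27 : Nat.card S27 = 336 := by
  rw [card_SL2, ZMod.card]
  norm_num

instance finite_S27 : Finite S27 := Nat.finite_of_card_ne_zero (by rw [card_S27]; norm_num)

def aM : S27 := ⟨!![0, 1; 6, 3], by rw [Matrix.det_fin_two_of]; decide⟩
def bM : S27 := ⟨!![1, 5; 1, 6], by rw [Matrix.det_fin_two_of]; decide⟩
def xM : S27 := ⟨!![0, 1; 6, 0], by rw [Matrix.det_fin_two_of]; decide⟩
def yM : S27 := ⟨!![2, 3; 3, 5], by rw [Matrix.det_fin_two_of]; decide⟩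
def zM : S27 := ⟨!![6, 0; 0, 6], by rw [Matrix.det_fin_two_of]; decide⟩

theorem rel_ba : bM * aM * bM⁻¹ = aM ^ (6 + 1) := by
  rw [mul_inv_eq_iff_eq_mul]
  apply Subtype.ext
  decide +kernel

theorem rel_b2 : bM ^ 2 = aM ^ 4 := by
  apply Subtype.ext
  decide +kernel

theorem a_pow8 : aM ^ 2 ^ (2 + 1) = 1 := by
  apply Subtype.ext
  decide +kernel

theorem a_pow4 : ¬ aM ^ 2 ^ 2 = 1 := by
  intro h
  have h1 := congrArg (fun x : S27 => (x : Matrix (Fin 2) (Fin 2) (ZMod 7))) h
  revert h1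
  decide +kernel

theorem orderOf_aM : orderOf aM = 8 := by
  haveI : Fact (Nat.Prime 2) := ⟨Nat.prime_two⟩
  exact orderOf_eq_prime_pow a_pow4 a_pow8

theorem a_pow6 : ¬ aM ^ (6 + 1) = aM := by
  intro h
  have h1 := congrArg (fun x : S27 => (x : Matrix (Fin 2) (Fin 2) (ZMod 7))) h
  revert h1
  decide +kernel

theorem b_not_mem : bM ∉ Subgroup.zpowers aM := by
  intro h
  obtain ⟨k, hk⟩ := Subgroup.mem_zpowers_iff.mp h
  have hcomm : bM * aM = aM * bM := by
    rw [← hk]
    exact ((Commute.refl aM).zpow_left k).eq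
  have h1 : bM * aM * bM⁻¹ = aM := by rw [hcomm, mul_inv_cancel_right]
  rw [rel_ba] at h1
  exact a_pow6 h1

theorem good2 : StemGood (Subgroup.closure ({aM, bM} : Set S27)) := by
  apply stemGood_metacyclic aM bM 8 6 4 orderOf_aM rel_ba rel_b2
  intro i hi
  have : Nat.gcd (6 + 2) 4 = 4 := by decide
  rw [this]
  push_cast at hi ⊢
  omega

theorem index2 : ¬ 2 ∣ (Subgroup.closure ({aM, bM} : Set S27)).index := by
  have hc := card_closure_metacyclic aM bM 8 (6 + 1) 4 orderOf_aM rel_ba rel_b2 b_not_mem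
  have hmul := Subgroup.card_mul_index (Subgroup.closure ({aM, bM} : Set S27))
  rw [hc, card_S27] at hmul
  omega

theorem prime_cases (p : ℕ) (hp : p.Prime) (h : p ∣ 336) : p = 2 ∨ p = 3 ∨ p = 7 := by
  have e : 336 = 2 ^ 4 * 3 * 7 := by norm_num
  rw [e] at h
  rcases (Nat.Prime.dvd_mul hp).mp h with h | h
  · rcases (Nat.Prime.dvd_mul hp).mp h with h | h
    · left
      exact (Nat.prime_dvd_prime_iff_eq hp Nat.prime_two).mp (hp.dvd_of_dvd_pow h)
    · right; left
      exact (Nat.prime_dvd_prime_iff_eq hp Nat.prime_three).mp h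
  · right; right
    exact (Nat.prime_dvd_prime_iff_eq hp (by norm_num)).mp h

theorem fac1 (p : ℕ) (hp : p.Prime) (h1 : p ∣ 336) (h2 : ¬ p ^ 2 ∣ 336) :
    (Nat.card S27).factorization p = 1 := by
  rw [card_S27]
  exact Cfsg.Agent.Lib.Helper9.G42.factorization_of_dvd p 336 1 hp (by norm_num)
    (by rw [pow_one]; exact h1) h2

theorem S27_trivial : Cfsg.HasCyclicSchurMultiplier S27 1 := by
  apply trivial_of_good
  intro p hp hpd
  rw [card_S27] at hpd
  haveI : Fact p.Prime := ⟨hp⟩
  rcases prime_cases p hp hpd with rfl | rfl | rfl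
  · exact ⟨_, good2, index2⟩
  · exact good_of_prime_sylow 3 (fac1 3 hp (by norm_num) (by norm_num))
  · exact good_of_prime_sylow 7 (fac1 7 hp (by norm_num) (by norm_num))

/-! ### the centre -/

theorem card_center : Nat.card (Subgroup.center S27) = 2 := by
  rw [card_center_SL 2 (by norm_num), ZMod.card]
  decide

theorem z_mem_center : zM ∈ Subgroup.center S27 := by
  rw [Matrix.SpecialLinearGroup.mem_center_iff]
  refine ⟨6, by decide, ?_⟩
  show Matrix.scalar (Fin 2) (6 : ZMod 7) = !![6, 0; 0, 6]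
  decide +kernel

theorem z_comm : zM = ⁅xM, yM⁆ := by
  rw [commutatorElement_def, eq_mul_inv_iff_mul_eq, eq_mul_inv_iff_mul_eq]
  apply Subtype.ext
  decide +kernel

theorem z_sq : zM ^ 2 = 1 := by
  apply Subtype.ext
  decide +kernel

theorem z_ne : zM ≠ 1 := by
  intro h
  have h1 := congrArg (fun x : S27 => (x : Matrix (Fin 2) (Fin 2) (ZMod 7))) h
  revert h1
  decide +kernel

theorem center_eq : Subgroup.center S27 = Subgroup.zpowers zM := by
  haveI : Fact (Nat.Prime 2) := ⟨Nat.prime_two⟩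
  have hle : Subgroup.zpowers zM ≤ Subgroup.center S27 := by
    rw [Subgroup.zpowers_le]
    exact z_mem_center
  have hord : orderOf zM = 2 := orderOf_eq_prime z_sq z_ne
  symm
  apply Subgroup.eq_of_le_of_card_ge hle
  rw [Nat.card_zpowers, hord, card_center]

theorem center_le_commutator : Subgroup.center S27 ≤ commutator S27 := by
  rw [center_eq, Subgroup.zpowers_le, z_comm, commutator_def]
  exact Subgroup.commutator_mem_commutator (Subgroup.mem_top _) (Subgroup.mem_top _)

/-! ### the main statement -/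

theorem main {F : Type u} [Field F] [Fintype F] (hF : Fintype.card F = 2) :
    Cfsg.HasCyclicSchurMultiplier (Matrix.ProjectiveSpecialLinearGroup (Fin 3) F) 2 := by
  obtain ⟨e⟩ := Cfsg.Agent.S0255.result (F := ZMod 7) (K := F) (by rw [ZMod.card]) hF
  haveI : Finite (Matrix.ProjectiveSpecialLinearGroup (Fin 3) F) :=
    Nat.finite_of_card_ne_zero (by rw [Cfsg.Agent.S0255.psl32_card hF]; norm_num)
  obtain ⟨σ, hσdef⟩ : ∃ σ : S27 →* Matrix.ProjectiveSpecialLinearGroup (Fin 3) F,
      σ = e.toMonoidHom.comp (QuotientGroup.mk' (Subgroup.center S27)) := ⟨_, rfl⟩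
  have hker : σ.ker = Subgroup.center S27 := by
    ext x
    rw [MonoidHom.mem_ker, hσdef]
    show e (QuotientGroup.mk' (Subgroup.center S27) x) = 1 ↔ _
    rw [map_eq_one_iff e e.injective, ← MonoidHom.mem_ker, QuotientGroup.ker_mk']
  have hσ : Cfsg.IsStemExtension σ := by
    refine ⟨?_, ?_, ?_⟩
    · rw [hσdef]
      exact e.surjective.comp (QuotientGroup.mk'_surjective _)
    · rw [hker]
    · rw [hker]
      exact center_le_commutator
  have hcard : Nat.card σ.ker = 2 := by rw [hker, card_center]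
  haveI : Fact (Nat.Prime 2) := ⟨Nat.prime_two⟩
  haveI : IsCyclic σ.ker := isCyclic_of_prime_card hcard
  have e2 : σ.ker ≃* Multiplicative (ZMod 2) := by
    apply mulEquivOfCyclicCardEq
    rw [hcard, Nat.card_eq_fintype_card]
    rfl
  exact hasSchurMultiplier_of_cover σ hσ S27_trivial e2

end Cfsg.Agent.Lib.Helper9.SchurL32
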