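import Mathlib
import Cfsg.Agent.Lib.Helper2.GH7Defs
import Cfsg.Agent.Lib.Helper9.SchurL32

set_option autoImplicit false

/-! GH7 unit SCHUR: a central extension of `L = SL(3,2)` by a group of order 4 has a normal
subgroup of index 2 (the Schur multiplier of `L` has order 2). -/

namespace Cfsg.Agent.Lib.Helper9.GH7Schur

open Cfsg.Agent.Lib.Helper2.GH7
open scoped commutatorElement

universe u

/-! ### generalities on central extensions of perfect groups -/

theorem comm_mul_central_left {G : Type*} [Group G] (a b z : G) (hz : ∀ g : G, g * z = z * g) :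
    ⁅a * z, b⁆ = ⁅a, b⁆ := by
  rw [commutatorElement_def, commutatorElement_def, mul_inv_rev]
  have h1 : a * z * b = a * b * z := by rw [mul_assoc, ← hz b, ← mul_assoc]
  rw [h1]
  group

theorem comm_mul_central_right {G : Type*} [Group G] (a b z : G) (hz : ∀ g : G, g * z = z * g) :
    ⁅a, b * z⁆ = ⁅a, b⁆ := by
  rw [commutatorElement_def, commutatorElement_def, mul_inv_rev]
  have h1 : a * (b * z) * a⁻¹ = a * b * a⁻¹ * z := by
    have h2 : z * a⁻¹ = a⁻¹ * z := (hz a⁻¹).symm
    calc a * (b * z) * a⁻¹ = a * b * (z * a⁻¹) := by group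
      _ = a * b * (a⁻¹ * z) := by rw [h2]
      _ = a * b * a⁻¹ * z := by group
  rw [h1]
  group

/-- the commutator subgroup maps onto a perfect quotient -/
theorem comm_surj {E H : Type*} [Group E] [Group H] (θ : E →* H) (hsurj : Function.Surjective θ)
    (hperf : commutator H = ⊤) (y : H) : ∃ x ∈ commutator E, θ x = y := by
  have h1 : Subgroup.map θ (commutator E) = ⊤ := by
    rw [commutator_def, Subgroup.map_commutator, ← MonoidHom.range_eq_map,
      MonoidHom.range_eq_top.mpr hsurj, ← commutator_def, hperf]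
  have h2 : y ∈ Subgroup.map θ (commutator E) := by rw [h1]; exact Subgroup.mem_top _
  exact Subgroup.mem_map.mp h2

/-- every element is (commutator element) * (kernel element) -/
theorem comm_decomp {E H : Type*} [Group E] [Group H] (θ : E →* H) (hsurj : Function.Surjective θ)
    (hperf : commutator H = ⊤) (e : E) : ∃ x ∈ commutator E, ∃ z ∈ θ.ker, e = x * z := by
  obtain ⟨x, hx, hxe⟩ := comm_surj θ hsurj hperf (θ e)
  refine ⟨x, hx, x⁻¹ * e, ?_, by group⟩
  rw [MonoidHom.mem_ker, map_mul, map_inv, hxe, inv_mul_cancel]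

/-- the commutator subgroup of a central extension of a perfect group is perfect -/
theorem comm_perfect {E H : Type*} [Group E] [Group H] (θ : E →* H) (hsurj : Function.Surjective θ)
    (hperf : commutator H = ⊤) (hcen : θ.ker ≤ Subgroup.center E) :
    commutator (commutator E) = ⊤ := by
  have h1 : ⁅commutator E, commutator E⁆ = commutator E := by
    apply le_antisymm (Subgroup.commutator_le_left _ _)
    conv_lhs => rw [commutator_def]
    rw [Subgroup.commutator_le]
    intro a _ b _
    obtain ⟨a', ha', z₁, hz₁, rfl⟩ := comm_decomp θ hsurj hperf a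
    obtain ⟨b', hb', z₂, hz₂, rfl⟩ := comm_decomp θ hsurj hperf b
    have hc1 : ∀ g : E, g * z₁ = z₁ * g := fun g => (Subgroup.mem_center_iff.mp (hcen hz₁) g)
    have hc2 : ∀ g : E, g * z₂ = z₂ * g := fun g => (Subgroup.mem_center_iff.mp (hcen hz₂) g)
    rw [comm_mul_central_left _ _ _ hc1, comm_mul_central_right _ _ _ hc2]
    exact Subgroup.commutator_mem_commutator ha' hb'
  exact (Group.isPerfect_def.mp (Subgroup.isPerfect_iff.mpr h1))

theorem of_surj (E : Type*) [Group E] : Function.Surjective (Abelianization.of : E →* Abelianization E) := by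
  intro y
  induction y using Quotient.inductionOn with
  | h a => exact ⟨a, rfl⟩

/-- abstract version: the target `H` lives in the universe of `E`, is perfect, and the kernels of its
finite stem extensions have at most two elements -/
theorem index_two_abstract {E H : Type u} [Group E] [Finite E] [Group H] (θ : E →* H)
    (hsurj : Function.Surjective θ) (hperf : commutator H = ⊤)
    (hmult : ∀ (Γ : Type u) [Group Γ] [Finite Γ] (σ : Γ →* H), Cfsg.IsStemExtension σ →
      Nat.card σ.ker ≤ 2)
    (hcen : θ.ker ≤ Subgroup.center E) (hcard : Nat.card θ.ker = 4) :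
    ∃ X0 : Subgroup E, X0.Normal ∧ X0.index = 2 := by
  classical
  have hfact : Fact (Nat.Prime 2) := ⟨Nat.prime_two⟩
  obtain ⟨σ, hσdef⟩ : ∃ σ : ↥(commutator E) →* H, σ = θ.comp (commutator E).subtype := ⟨_, rfl⟩
  have hσapp : ∀ x : ↥(commutator E), σ x = θ (x : E) := by
    intro x; rw [hσdef]; rfl
  have hσ : Cfsg.IsStemExtension σ := by
    refine ⟨?_, ?_, ?_⟩
    · intro y
      obtain ⟨x, hx, hxy⟩ := comm_surj θ hsurj hperf y
      exact ⟨⟨x, hx⟩, by rw [hσapp]; exact hxy⟩
    · intro x hx
      rw [Subgroup.mem_center_iff]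
      intro g
      have h1 : (x : E) ∈ θ.ker := by
        rw [MonoidHom.mem_ker] at hx ⊢
        rw [← hσapp]; exact hx
      apply Subtype.ext
      exact Subgroup.mem_center_iff.mp (hcen h1) g
    · rw [comm_perfect θ hsurj hperf hcen]; exact le_top
  have h2 : Nat.card σ.ker ≤ 2 := hmult _ σ hσ
  -- the kernel is not inside the commutator subgroup
  have hnot : ¬ θ.ker ≤ commutator E := by
    intro hle
    have hmem : ∀ z : θ.ker, (⟨z.1, hle z.2⟩ : ↥(commutator E)) ∈ σ.ker := by
      intro z
      rw [MonoidHom.mem_ker, hσapp]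
      exact z.2
    have hinj : Function.Injective (fun z : θ.ker => (⟨⟨z.1, hle z.2⟩, hmem z⟩ : σ.ker)) := by
      intro a b hab
      apply Subtype.ext
      exact congrArg (fun w : σ.ker => ((w : ↥(commutator E)) : E)) hab
    have := Nat.card_le_card_of_injective _ hinj
    omega
  obtain ⟨z₀, hz₀, hz₀n⟩ := SetLike.not_le_iff_exists.mp hnot
  -- the abelianization
  have hfin : Finite (Abelianization E) := Finite.of_surjective _ (of_surj E)
  have hne : (Abelianization.of z₀ : Abelianization E) ≠ 1 := by
    intro h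
    apply hz₀n
    rw [← Abelianization.ker_of, MonoidHom.mem_ker]
    exact h
  have hp : IsPGroup 2 (Abelianization E) := by
    intro g
    obtain ⟨e, rfl⟩ := of_surj E g
    refine ⟨2, ?_⟩
    obtain ⟨x, hx, z, hz, rfl⟩ := comm_decomp θ hsurj hperf e
    have hx1 : (Abelianization.of x : Abelianization E) = 1 := by
      rw [← MonoidHom.mem_ker, Abelianization.ker_of]; exact hx
    have hz4 : z ^ 4 = 1 := by
      have h := pow_card_eq_one' (G := θ.ker) (x := ⟨z, hz⟩)
      rw [hcard] at h
      exact congrArg Subtype.val h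
    rw [map_mul, hx1, one_mul]
    have h22 : (2 : ℕ) ^ 2 = 4 := by norm_num
    rw [h22, ← map_pow, hz4, map_one]
  obtain ⟨n, hn⟩ := IsPGroup.iff_card.mp hp
  have hn0 : n ≠ 0 := by
    rintro rfl
    rw [pow_zero, Nat.card_eq_one_iff_unique] at hn
    obtain ⟨hsub, _⟩ := hn
    exact hne (Subsingleton.elim _ _)
  obtain ⟨m, rfl⟩ := Nat.exists_eq_succ_of_ne_zero hn0
  obtain ⟨K, hK⟩ := Sylow.exists_subgroup_card_pow_prime (G := Abelianization E) 2 (n := m)
    (by rw [hn]; exact pow_dvd_pow 2 (Nat.le_succ m))
  have hidx : K.index = 2 := by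
    have h := K.card_mul_index
    rw [hK, hn, pow_succ] at h
    exact Nat.eq_of_mul_eq_mul_left (by positivity) h
  refine ⟨K.comap Abelianization.of, ?_, ?_⟩
  · exact (Subgroup.normal_of_isMulCommutative K).comap _
  · rw [Subgroup.index_comap_of_surjective K (of_surj E), hidx]

/-! ### the concrete group `L = SL(3, 2)`, lifted to the universe of `E` -/

theorem L_perfect : commutator L = ⊤ := by
  have := Cfsg.Agent.Lib.Helper1.Dv.simple_SL32
  rcases (inferInstance : (commutator L).Normal).eq_bot_or_eq_top with h | h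
  · exfalso
    have h1 : ⁅a12, b23⁆ ∈ commutator L := by
      rw [commutator_def]
      exact Subgroup.commutator_mem_commutator (Subgroup.mem_top _) (Subgroup.mem_top _)
    rw [h, Subgroup.mem_bot] at h1
    revert h1
    decide
  · exact h

theorem perfect_of_surj {A B : Type*} [Group A] [Group B] (f : A →* B) (hf : Function.Surjective f)
    (hA : commutator A = ⊤) : commutator B = ⊤ := by
  have h1 : Subgroup.map f (commutator A) = commutator B := by
    rw [commutator_def, Subgroup.map_commutator, ← MonoidHom.range_eq_map,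
      MonoidHom.range_eq_top.mpr hf, ← commutator_def]
  rw [← h1, hA, ← MonoidHom.range_eq_map, MonoidHom.range_eq_top.mpr hf]

abbrev F2u : Type u := ULift.{u} (ZMod 2)

theorem card_F2u : Fintype.card F2u.{u} = 2 := by
  rw [Fintype.card_ulift, ZMod.card]

def upHom : L →* Matrix.SpecialLinearGroup (Fin 3) F2u.{u} :=
  Matrix.SpecialLinearGroup.map (ULift.ringEquiv.symm : ZMod 2 ≃+* F2u.{u}).toRingHom

def downHom : Matrix.SpecialLinearGroup (Fin 3) F2u.{u} →* L :=
  Matrix.SpecialLinearGroup.map (ULift.ringEquiv : F2u.{u} ≃+* ZMod 2).toRingHom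

theorem up_down (A : Matrix.SpecialLinearGroup (Fin 3) F2u.{u}) : upHom (downHom A) = A := by
  apply Subtype.ext
  ext i j
  simp [upHom, downHom]

theorem down_up (A : L) : downHom.{u} (upHom.{u} A) = A := by
  apply Subtype.ext
  ext i j
  simp [upHom, downHom]

theorem center_F2u : Subgroup.center (Matrix.SpecialLinearGroup (Fin 3) F2u.{u}) = ⊥ := by
  rw [Subgroup.eq_bot_iff_forall]
  intro A hA
  rw [Matrix.SpecialLinearGroup.mem_center_iff] at hA
  obtain ⟨r, hr, hA⟩ := hA
  have hr1 : r = 1 := by
    have key : ∀ r : ZMod 2, r ^ 3 = 1 → r = 1 := by decide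
    have h2 : (ULift.ringEquiv r : ZMod 2) = 1 := by
      apply key
      rw [← map_pow]
      have h3 : r ^ 3 = 1 := by simpa using hr
      rw [h3, map_one]
    have h4 : ULift.ringEquiv r = ULift.ringEquiv (1 : F2u.{u}) := by rw [h2, map_one]
    exact ULift.ringEquiv.injective h4
  subst hr1
  apply Subtype.ext
  rw [← hA]; simp

/-- **SCHUR**: a central extension of `L` by a group of order 4 has a normal subgroup of index 2. -/
theorem exists_index_two_of_Z4 {E : Type u} [Group E] [Finite E] (θ : E →* L)
    (hsurj : Function.Surjective θ)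
    (hcen : θ.ker ≤ Subgroup.center E) (hcard : Nat.card θ.ker = 4) :
    ∃ X0 : Subgroup E, X0.Normal ∧ X0.index = 2 := by
  obtain ⟨θ', hθ'⟩ : ∃ θ' : E →* Matrix.ProjectiveSpecialLinearGroup (Fin 3) F2u.{u},
      θ' = (QuotientGroup.mk' (Subgroup.center (Matrix.SpecialLinearGroup (Fin 3) F2u.{u}))).comp
        (upHom.{u}.comp θ) := ⟨_, rfl⟩
  have hup : Function.Surjective upHom.{u} := fun A => ⟨downHom A, up_down A⟩
  have hq : Function.Surjective ((QuotientGroup.mk' (Subgroup.center
      (Matrix.SpecialLinearGroup (Fin 3) F2u.{u}))).comp upHom.{u}) :=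
    (QuotientGroup.mk'_surjective _).comp hup
  have hsurj' : Function.Surjective θ' := by
    rw [hθ']
    exact (QuotientGroup.mk'_surjective _).comp (hup.comp hsurj)
  have hker : θ'.ker = θ.ker := by
    ext x
    rw [MonoidHom.mem_ker, MonoidHom.mem_ker, hθ']
    show QuotientGroup.mk' _ (upHom (θ x)) = 1 ↔ _
    rw [← MonoidHom.mem_ker, QuotientGroup.ker_mk', center_F2u, Subgroup.mem_bot]
    constructor
    · intro h
      have := congrArg downHom.{u} h
      rwa [down_up, map_one] at this
    · intro h
      rw [h, map_one]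
  have hperf : commutator (Matrix.ProjectiveSpecialLinearGroup (Fin 3) F2u.{u}) = ⊤ :=
    perfect_of_surj _ hq L_perfect
  refine index_two_abstract θ' hsurj' hperf ?_ (by rw [hker]; exact hcen) (by rw [hker]; exact hcard)
  intro Γ _ _ σ hσ
  obtain ⟨π, hπ⟩ := (Cfsg.Agent.Lib.Helper9.SchurL32.main (F := F2u.{u}) card_F2u).2 Γ σ hσ
  have h1 := Nat.card_le_card_of_surjective π hπ
  have h2 : Nat.card (Multiplicative (ZMod 2)) = 2 := by
    rw [Nat.card_eq_fintype_card]
    rfl
  omega

end Cfsg.Agent.Lib.Helper9.GH7Schur
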