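import Mathlib
import Cfsg.Agent.Lib.Helper2.GH7Glue

set_option autoImplicit false

/-! GH7 unit C2, part a: generic tools. -/

namespace Cfsg.Agent.Lib.Helper9.GH7C2

open Cfsg.Agent.Lib.Helper2.GH7
open Cfsg.Agent.Lib.Helper3.A8Emb (sqSub sqSub_le)

universe u

/-- a normal subgroup of order at most 4 centralised by `ker θ` is central -/
theorem central_of_small {G : Type u} [Group G] [Finite G] (θ : G →* L) (hsurj : Function.Surjective θ)
    (N : Subgroup G) [N.Normal] (hN : Nat.card N ≤ 4)
    (hker : ∀ q ∈ θ.ker, ∀ n ∈ N, q * n = n * q) : ∀ g : G, ∀ n ∈ N, g * n = n * g := by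
  classical
  let φ : G →* MulAut N := MulAut.conjNormal
  have hφ : ∀ z ∈ θ.ker, φ z = 1 := by
    intro z hz
    ext w
    show ((MulAut.conjNormal z w : N) : G) = w
    rw [MulAut.conjNormal_apply]
    rw [hker z hz w w.2]; group
  let e := QuotientGroup.quotientKerEquivOfSurjective θ hsurj
  let ψ : L →* MulAut N := (QuotientGroup.lift θ.ker φ hφ).comp e.symm.toMonoidHom
  have hcardAut : Nat.card (MulAut N) < 168 := by
    have hinj : Function.Injective (MulAut.toPerm N) := by
      intro a b hab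
      ext x
      have := congrArg (fun f : Equiv.Perm N => f x) hab
      exact congrArg Subtype.val this
    have h1 := Nat.card_le_card_of_injective _ hinj
    have h2 : Nat.card (Equiv.Perm N) ≤ 24 := by
      rw [Nat.card_perm]
      calc (Nat.card N).factorial ≤ (4 : ℕ).factorial := Nat.factorial_le hN
        _ = 24 := rfl
    omega
  have htriv := hom_trivial_of_card_lt ψ hcardAut
  intro g z hz
  have h1 : ψ (θ g) = φ g := by
    show (QuotientGroup.lift θ.ker φ hφ) (e.symm (θ g)) = φ g
    have : e.symm (θ g) = QuotientGroup.mk g := by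
      rw [MulEquiv.symm_apply_eq]
      rfl
    rw [this]
    rfl
  have h2 : φ g = 1 := by rw [← h1]; exact htriv _
  have h3 : (φ g) ⟨z, hz⟩ = ⟨z, hz⟩ := by rw [h2]; rfl
  have h4 := congrArg Subtype.val h3
  rw [show ((φ g ⟨z, hz⟩ : N) : G) = g * z * g⁻¹ from MulAut.conjNormal_apply _ _] at h4
  calc g * z = g * z * g⁻¹ * g := by group
    _ = z * g := by rw [h4]

section abelian

variable {G : Type u} [Group G] {Q : Subgroup G}

/-- in an abelian `Q`, every element of `sqSub Q` is a square -/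
theorem exists_sqrt (hab : ∀ a ∈ Q, ∀ b ∈ Q, a * b = b * a) : ∀ y ∈ sqSub Q, ∃ q ∈ Q, q * q = y := by
  intro y hy
  unfold sqSub at hy
  induction hy using Subgroup.closure_induction with
  | mem x hx =>
    obtain ⟨b, hb, rfl⟩ := hx
    exact ⟨b, hb, (pow_two b).symm⟩
  | one => exact ⟨1, Q.one_mem, one_mul 1⟩
  | mul x y _ _ hx hy =>
    obtain ⟨a, ha, rfl⟩ := hx
    obtain ⟨b, hb, rfl⟩ := hy
    refine ⟨a * b, Q.mul_mem ha hb, ?_⟩
    calc a * b * (a * b) = a * (b * a) * b := by group
      _ = a * (a * b) * b := by rw [hab b hb a ha]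
      _ = a * a * (b * b) := by group
  | inv x _ hx =>
    obtain ⟨a, ha, rfl⟩ := hx
    exact ⟨a⁻¹, Q.inv_mem ha, by group⟩

theorem sq_mem_sqSub' {q : G} (hq : q ∈ Q) : q * q ∈ sqSub Q := by
  unfold sqSub
  exact Subgroup.subset_closure ⟨q, hq, (pow_two q).symm⟩

end abelian

end Cfsg.Agent.Lib.Helper9.GH7C2
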