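import Mathlib
import Cfsg.Agent.Lib.Helper2.GH7Top
import Cfsg.Agent.Lib.Helper9.GH7C2a

set_option autoImplicit false

/-! GH7 unit C2, part b: the data, `Φ(Q)` central, the case `Φ(Q) = E4` is impossible. -/

namespace Cfsg.Agent.Lib.Helper9.GH7C2

open Cfsg.Agent.Lib.Helper2.GH7
open Cfsg.Agent.Lib.Helper3.A8Emb (sqSub sqSub_le)

universe u

variable {G : Type u} [Group G] {Q : Subgroup G} {θ : G →* L}

/-- the data of case C2, `Q` abelian -/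
structure C2Data (θ : G →* L) (Q : Subgroup G) : Prop where
  fin : Finite G
  nQ : Q.Normal
  surj : Function.Surjective θ
  ker : θ.ker = Q
  ab : ∀ a ∈ Q, ∀ b ∈ Q, a * b = b * a
  cardQ : Nat.card Q = 64
  cardΦ : Nat.card (sqSub Q) = 4
  faithful : ∀ g : G, (∀ a ∈ Q, g * a * g⁻¹ * a⁻¹ ∈ sqSub Q) → g ∈ Q

theorem C2Data.conj_mem (h : C2Data θ Q) (g : G) {a : G} (ha : a ∈ Q) : g * a * g⁻¹ ∈ Q :=
  h.nQ.conj_mem a ha g

/-- `Φ(Q)` is central in `G` -/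
theorem C2Data.Φ_central (h : C2Data θ Q) : ∀ g : G, ∀ y ∈ sqSub Q, g * y = y * g := by
  have := h.fin
  have := h.nQ
  apply central_of_small θ h.surj (sqSub Q) (by rw [h.cardΦ])
  intro q hq n hn
  rw [h.ker] at hq
  exact h.ab q hq n (sqSub_le Q hn)

theorem C2Data.sq_central (h : C2Data θ Q) (g : G) {a : G} (ha : a ∈ Q) : g * (a * a) = (a * a) * g :=
  h.Φ_central g _ (sq_mem_sqSub' ha)

/-- squares multiply in `Q` -/
theorem C2Data.mul_sq (h : C2Data θ Q) {a b : G} (ha : a ∈ Q) (hb : b ∈ Q) :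
    (a * b) * (a * b) = (a * a) * (b * b) := by
  calc a * b * (a * b) = a * (b * a) * b := by group
    _ = a * (a * b) * b := by rw [h.ab b hb a ha]
    _ = a * a * (b * b) := by group

/-- commutators `[g, a]`, `a ∈ Q`, are involutions -/
theorem C2Data.comm_sq (h : C2Data θ Q) (g : G) {a : G} (ha : a ∈ Q) :
    (g * a * g⁻¹ * a⁻¹) * (g * a * g⁻¹ * a⁻¹) = 1 := by
  have h1 : g * a * g⁻¹ ∈ Q := h.conj_mem g ha
  have h2 : a⁻¹ ∈ Q := Q.inv_mem ha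
  rw [h.mul_sq h1 h2]
  have h3 : g * a * g⁻¹ * (g * a * g⁻¹) = g * (a * a) * g⁻¹ := by group
  rw [h3, h.sq_central g ha]
  group

theorem C2Data.comm_mem (h : C2Data θ Q) (g : G) {a : G} (ha : a ∈ Q) : g * a * g⁻¹ * a⁻¹ ∈ Q :=
  Q.mul_mem (h.conj_mem g ha) (Q.inv_mem ha)

/-- `Ω₁(Q)` -/
def omega1 (h : C2Data θ Q) : Subgroup G where
  carrier := {q | q ∈ Q ∧ q * q = 1}
  one_mem' := ⟨Q.one_mem, one_mul 1⟩
  mul_mem' := by
    rintro a b ⟨ha, ha2⟩ ⟨hb, hb2⟩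
    exact ⟨Q.mul_mem ha hb, by rw [h.mul_sq ha hb, ha2, hb2, one_mul]⟩
  inv_mem' := by
    rintro a ⟨ha, ha2⟩
    refine ⟨Q.inv_mem ha, ?_⟩
    have : a⁻¹ * a⁻¹ = (a * a)⁻¹ := by group
    rw [this, ha2, inv_one]

theorem mem_omega1 (h : C2Data θ Q) (q : G) : q ∈ omega1 h ↔ q ∈ Q ∧ q * q = 1 := Iff.rfl

theorem omega1_normal (h : C2Data θ Q) : (omega1 h).Normal := by
  constructor
  rintro a ⟨ha, ha2⟩ g
  refine ⟨h.conj_mem g ha, ?_⟩
  have : g * a * g⁻¹ * (g * a * g⁻¹) = g * (a * a) * g⁻¹ := by group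
  rw [this, ha2]; group

/-- squaring `Q → Φ(Q)` -/
noncomputable def sqH (h : C2Data θ Q) : ↥Q →* ↥(sqSub Q) :=
  MonoidHom.mk' (fun q => ⟨(q : G) * q, sq_mem_sqSub' q.2⟩) (by
    intro a b
    apply Subtype.ext
    exact h.mul_sq a.2 b.2)

theorem sqH_surj (h : C2Data θ Q) : Function.Surjective (sqH h) := by
  intro y
  obtain ⟨q, hq, hqy⟩ := exists_sqrt h.ab y y.2
  exact ⟨⟨q, hq⟩, Subtype.ext hqy⟩

theorem card_omega1 (h : C2Data θ Q) : Nat.card (omega1 h) = 16 := by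
  have := h.fin
  have hk : (sqH h).ker.map Q.subtype = omega1 h := by
    ext y
    constructor
    · rintro ⟨q, hq, rfl⟩
      rw [SetLike.mem_coe, MonoidHom.mem_ker] at hq
      exact ⟨q.2, congrArg Subtype.val hq⟩
    · rintro ⟨hy, hy2⟩
      refine ⟨⟨y, hy⟩, ?_, rfl⟩
      rw [SetLike.mem_coe, MonoidHom.mem_ker]
      exact Subtype.ext hy2
  have h1 := (sqH h).ker.card_mul_index
  rw [Subgroup.index_ker, MonoidHom.range_eq_top.mpr (sqH_surj h), Subgroup.card_top, h.cardΦ, h.cardQ,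
    ← Subgroup.card_map_of_injective (K := (sqH h).ker) Q.subtype_injective, hk] at h1
  omega

/-- the case `Φ(Q) = E4` is impossible -/
theorem C2Data.not_E4 (h : C2Data θ Q) (hE4 : ∀ y ∈ sqSub Q, y * y = 1) : False := by
  have hfin := h.fin
  have hnQ := h.nQ
  have hΩn := omega1_normal h
  have hΦΩ : sqSub Q ≤ omega1 h := fun y hy => ⟨sqSub_le Q hy, hE4 y hy⟩
  -- `Ω₁ / Φ` is central in `G / Φ`
  have hΦker : sqSub Q ≤ θ.ker := by rw [h.ker]; exact sqSub_le Q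
  obtain ⟨θ', hθ'⟩ : ∃ θ' : G ⧸ sqSub Q →* L, ∀ g : G, θ' (QuotientGroup.mk g) = θ g :=
    ⟨QuotientGroup.lift (sqSub Q) θ hΦker, fun g => rfl⟩
  have hsurj' : Function.Surjective θ' := by
    intro l
    obtain ⟨g, rfl⟩ := h.surj l
    exact ⟨QuotientGroup.mk g, hθ' g⟩
  have hcardN : Nat.card ((omega1 h).map (QuotientGroup.mk' (sqSub Q))) ≤ 4 := by
    have := card_map_mk (sqSub Q) (omega1 h) hΦΩ
    rw [card_omega1 h, h.cardΦ] at this
    omega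
  have hcen := central_of_small θ' hsurj' ((omega1 h).map (QuotientGroup.mk' (sqSub Q))) hcardN (by
    intro q hq n hn
    obtain ⟨q0, rfl⟩ := QuotientGroup.mk'_surjective (sqSub Q) q
    obtain ⟨n0, hn0, rfl⟩ := hn
    have hq0 : q0 ∈ Q := by
      rw [← h.ker, MonoidHom.mem_ker, ← hθ' q0]
      exact hq
    show (QuotientGroup.mk q0 : G ⧸ sqSub Q) * QuotientGroup.mk n0 = QuotientGroup.mk n0 * QuotientGroup.mk q0
    rw [← QuotientGroup.mk_mul, ← QuotientGroup.mk_mul, h.ab q0 hq0 n0 hn0.1])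
  have hΩc : ∀ g : G, ∀ w ∈ omega1 h, g * w * g⁻¹ * w⁻¹ ∈ sqSub Q := by
    intro g w hw
    have h1 := hcen (QuotientGroup.mk g) (QuotientGroup.mk w) (Subgroup.mem_map_of_mem _ hw)
    rw [← QuotientGroup.mk_mul, ← QuotientGroup.mk_mul, QuotientGroup.eq] at h1
    -- (g * w)⁻¹ * (w * g) ∈ Φ
    have h2 := (inferInstance : (sqSub Q).Normal).conj_mem _ ((sqSub Q).inv_mem h1) (g * w)
    have h3 : g * w * ((g * w)⁻¹ * (w * g))⁻¹ * (g * w)⁻¹ = g * w * g⁻¹ * w⁻¹ := by group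
    rwa [h3] at h2
  -- every square lies in `Q`
  have hsq : ∀ g : G, g * g ∈ Q := by
    intro k
    apply h.faithful
    intro a ha
    have hb : k * a * k⁻¹ * a⁻¹ ∈ omega1 h := ⟨h.comm_mem k ha, h.comm_sq k ha⟩
    have h1 : k * k * a * (k * k)⁻¹ * a⁻¹ =
        (k * (k * a * k⁻¹ * a⁻¹) * k⁻¹ * (k * a * k⁻¹ * a⁻¹)⁻¹) *
          ((k * a * k⁻¹ * a⁻¹) * (k * a * k⁻¹ * a⁻¹)) := by group
    rw [h1, h.comm_sq k ha, mul_one]
    exact hΩc k _ hb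
  obtain ⟨g, hg⟩ := h.surj y7
  have h1 := hsq g
  rw [← h.ker, MonoidHom.mem_ker, map_mul, hg] at h1
  exact y7_sq_ne h1

end Cfsg.Agent.Lib.Helper9.GH7C2
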