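import Mathlib
import Cfsg.Agent.Lib.Helper9.GH7C2b

set_option autoImplicit false

/-! GH7 unit C2, part c: the case `Φ(Q) = ⟨d⟩ ≅ Z4`: the subgroup `D = Ω₂(Q)` of index 2. -/

namespace Cfsg.Agent.Lib.Helper9.GH7C2

open Cfsg.Agent.Lib.Helper2.GH7
open Cfsg.Agent.Lib.Helper3.A8Emb (sqSub sqSub_le)

universe u

variable {G : Type u} [Group G] {Q : Subgroup G} {θ : G →* L} {d : G}

theorem C2Data.pow4_Φ (h : C2Data θ Q) : ∀ y ∈ sqSub Q, (y * y) * (y * y) = 1 := by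
  intro y hy
  have := h.fin
  have h1 := pow_card_eq_one' (G := ↥(sqSub Q)) (x := ⟨y, hy⟩)
  rw [h.cardΦ] at h1
  have h2 : y ^ 4 = 1 := congrArg Subtype.val h1
  rw [← h2]
  simp only [pow_succ, pow_zero, one_mul, mul_assoc]

theorem C2Data.orderOf_d (h : C2Data θ Q) (hd : d ∈ sqSub Q) (hdd : d * d ≠ 1) : orderOf d = 4 := by
  have : Fact (Nat.Prime 2) := ⟨Nat.prime_two⟩
  have h1 : ¬ d ^ 2 ^ 1 = 1 := by
    rw [pow_one, pow_two]; exact hdd
  have h2 : d ^ 2 ^ (1 + 1) = 1 := by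
    have := h.pow4_Φ d hd
    rw [← this]
    show d ^ 4 = _
    simp only [pow_succ, pow_zero, one_mul, mul_assoc]
  exact orderOf_eq_prime_pow h1 h2

/-- the elements of `Φ(Q) = ⟨d⟩` -/
theorem C2Data.Φ_cases (h : C2Data θ Q) (hd : d ∈ sqSub Q) (hdd : d * d ≠ 1) :
    ∀ y ∈ sqSub Q, y = 1 ∨ y = d ∨ y = d * d ∨ y = d * d * d := by
  have := h.fin
  have hord := h.orderOf_d hd hdd
  have hle : Subgroup.zpowers d ≤ sqSub Q := by
    rw [Subgroup.zpowers_le]; exact hd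
  have heq : Subgroup.zpowers d = sqSub Q :=
    Subgroup.eq_of_le_of_card_ge hle (by rw [Nat.card_zpowers, hord, h.cardΦ])
  intro y hy
  rw [← heq] at hy
  obtain ⟨k, rfl⟩ := Subgroup.mem_zpowers_iff.mp hy
  rw [← zpow_mod_orderOf, hord]
  have h4 : k % ((4 : ℕ) : ℤ) = 0 ∨ k % ((4 : ℕ) : ℤ) = 1 ∨ k % ((4 : ℕ) : ℤ) = 2 ∨
      k % ((4 : ℕ) : ℤ) = 3 := by omega
  rcases h4 with h0 | h0 | h0 | h0 <;> rw [h0]
  · left; exact zpow_zero d
  · right; left; exact zpow_one d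
  · right; right; left
    rw [show (2 : ℤ) = ((2 : ℕ) : ℤ) from rfl, zpow_natCast, pow_two]
  · right; right; right
    rw [show (3 : ℤ) = ((3 : ℕ) : ℤ) from rfl, zpow_natCast, pow_succ, pow_two]

/-- fourth powers of `Q` lie in `{1, d^2}` -/
theorem C2Data.pow4_cases (h : C2Data θ Q) (hd : d ∈ sqSub Q) (hdd : d * d ≠ 1) :
    ∀ q ∈ Q, (q * q) * (q * q) = 1 ∨ (q * q) * (q * q) = d * d := by
  intro q hq
  have hd4 := h.pow4_Φ d hd
  rcases h.Φ_cases hd hdd (q * q) (sq_mem_sqSub' hq) with h1 | h1 | h1 | h1 <;> rw [h1]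
  · left; rw [one_mul]
  · right; rfl
  · left; exact hd4
  · right
    calc d * d * d * (d * d * d) = (d * d) * (d * d) * (d * d) := by group
      _ = d * d := by rw [hd4, one_mul]

/-- `D = Ω₂(Q)` -/
def omega2 (h : C2Data θ Q) : Subgroup G where
  carrier := {q | q ∈ Q ∧ (q * q) * (q * q) = 1}
  one_mem' := ⟨Q.one_mem, by group⟩
  mul_mem' := by
    rintro a b ⟨ha, ha2⟩ ⟨hb, hb2⟩
    refine ⟨Q.mul_mem ha hb, ?_⟩
    rw [h.mul_sq ha hb, h.mul_sq (Q.mul_mem ha ha) (Q.mul_mem hb hb), ha2, hb2, one_mul]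
  inv_mem' := by
    rintro a ⟨ha, ha2⟩
    refine ⟨Q.inv_mem ha, ?_⟩
    have : a⁻¹ * a⁻¹ * (a⁻¹ * a⁻¹) = ((a * a) * (a * a))⁻¹ := by group
    rw [this, ha2, inv_one]

theorem mem_omega2 (h : C2Data θ Q) (q : G) : q ∈ omega2 h ↔ q ∈ Q ∧ (q * q) * (q * q) = 1 := Iff.rfl

theorem omega2_le (h : C2Data θ Q) : omega2 h ≤ Q := fun _ hq => hq.1

theorem omega2_normal (h : C2Data θ Q) : (omega2 h).Normal := by
  constructor
  rintro a ⟨ha, ha2⟩ g
  refine ⟨h.conj_mem g ha, ?_⟩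
  have : g * a * g⁻¹ * (g * a * g⁻¹) * (g * a * g⁻¹ * (g * a * g⁻¹)) = g * ((a * a) * (a * a)) * g⁻¹ := by
    group
  rw [this, ha2]; group

theorem d_mem_omega2 (h : C2Data θ Q) (hd : d ∈ sqSub Q) : d ∈ omega2 h :=
  ⟨sqSub_le Q hd, h.pow4_Φ d hd⟩

/-- `|D| = 32` -/
theorem card_omega2 (h : C2Data θ Q) (hd : d ∈ sqSub Q) (hdd : d * d ≠ 1) : Nat.card (omega2 h) = 32 := by
  have := h.fin
  obtain ⟨q0, hq0, hq0d⟩ := exists_sqrt h.ab d hd
  have hq0D : q0 ∉ omega2 h := by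
    rintro ⟨_, h2⟩
    rw [hq0d] at h2
    exact hdd h2
  have hnot : ∀ a ∈ Q, a ∉ omega2 h → (a * a) * (a * a) = d * d := by
    intro a ha haD
    rcases h.pow4_cases hd hdd a ha with h1 | h1
    · exact absurd ⟨ha, h1⟩ haD
    · exact h1
  have hprod : ∀ a ∈ Q, ∀ b ∈ Q, a ∉ omega2 h → b ∉ omega2 h → a * b ∈ omega2 h := by
    intro a ha b hb haD hbD
    refine ⟨Q.mul_mem ha hb, ?_⟩
    rw [h.mul_sq ha hb, h.mul_sq (Q.mul_mem ha ha) (Q.mul_mem hb hb), hnot a ha haD, hnot b hb hbD]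
    exact h.pow4_Φ d hd
  have hidx : ((omega2 h).subgroupOf Q).index = 2 := by
    rw [Subgroup.index_eq_two_iff]
    refine ⟨⟨q0, hq0⟩, fun b => ?_⟩
    by_cases hb : (b : G) ∈ omega2 h
    · right
      refine ⟨Subgroup.mem_subgroupOf.mpr hb, fun hc => hq0D ?_⟩
      have hc' : (b : G) * q0 ∈ omega2 h := Subgroup.mem_subgroupOf.mp hc
      have := (omega2 h).mul_mem ((omega2 h).inv_mem hb) hc'
      rwa [inv_mul_cancel_left] at this
    · left
      exact ⟨Subgroup.mem_subgroupOf.mpr (hprod b b.2 q0 hq0 hb hq0D),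
        fun hc => hb (Subgroup.mem_subgroupOf.mp hc)⟩
  have h1 := ((omega2 h).subgroupOf Q).card_mul_index
  rw [hidx, Nat.card_congr (Subgroup.subgroupOfEquivOfLe (omega2_le h)).toEquiv, h.cardQ] at h1
  omega

/-- `Φ(D) = ⟨d^2⟩` -/
theorem sqSub_omega2 (h : C2Data θ Q) (hd : d ∈ sqSub Q) (hdd : d * d ≠ 1) :
    sqSub (omega2 h) = Subgroup.zpowers (d * d) := by
  apply le_antisymm
  · apply sqSub_le_of_sq
    intro q hq
    rcases h.Φ_cases hd hdd (q * q) (sq_mem_sqSub' hq.1) with h1 | h1 | h1 | h1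
    · rw [h1]; exact Subgroup.one_mem _
    · exfalso
      have := hq.2
      rw [h1] at this
      exact hdd this
    · rw [h1]; exact Subgroup.mem_zpowers _
    · exfalso
      have h2 := hq.2
      rw [h1] at h2
      have hd4 := h.pow4_Φ d hd
      apply hdd
      calc d * d = (d * d) * (d * d) * (d * d) := by rw [hd4, one_mul]
        _ = d * d * d * (d * d * d) := by group
        _ = 1 := h2
  · rw [Subgroup.zpowers_le]
    exact sq_mem_sqSub' (d_mem_omega2 h hd)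

theorem card_sqSub_omega2 (h : C2Data θ Q) (hd : d ∈ sqSub Q) (hdd : d * d ≠ 1) :
    Nat.card (sqSub (omega2 h)) = 2 := by
  have : Fact (Nat.Prime 2) := ⟨Nat.prime_two⟩
  rw [sqSub_omega2 h hd hdd, Nat.card_zpowers]
  apply orderOf_eq_prime
  · rw [pow_two]; exact h.pow4_Φ d hd
  · exact hdd

end Cfsg.Agent.Lib.Helper9.GH7C2
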