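import Mathlib
import Cfsg.Agent.Lib.Helper9.GH7C2c
import Cfsg.Agent.Lib.Helper3.GH7CE
import Cfsg.Agent.Lib.Helper6.GH5R

set_option autoImplicit false

/-! GH7 unit C2, part d: `x^16 = 1` for `x` over `u4`, the subgroup `X0` of index 2, and the of-pattern
theorem `caseC2_of`. -/

namespace Cfsg.Agent.Lib.Helper9.GH7C2

open Cfsg.Agent.Lib.Helper2.GH7
open Cfsg.Agent.Lib.Helper3.A8Emb (sqSub sqSub_le)

universe u

variable {G : Type u} [Group G] {Q : Subgroup G} {θ : G →* L} {d : G}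

/-- conjugating a square of `Q` does nothing -/
theorem C2Data.conj_sq (h : C2Data θ Q) (y : G) {a : G} (ha : a ∈ Q) :
    (y⁻¹ * a * y) * (y⁻¹ * a * y) = a * a := by
  have h1 := h.sq_central y⁻¹ ha
  calc y⁻¹ * a * y * (y⁻¹ * a * y) = y⁻¹ * (a * a) * y := by group
    _ = a * a * y⁻¹ * y := by rw [h1]
    _ = a * a := by group

theorem C2Data.conj_mem' (h : C2Data θ Q) (y : G) {a : G} (ha : a ∈ Q) : y⁻¹ * a * y ∈ Q := by
  have := h.conj_mem y⁻¹ ha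
  rwa [inv_inv] at this

/-- `x^16 = 1` for `x` over `u4` -/
theorem C2Data.pow16 (h : C2Data θ Q) (x : G) (hx : θ x = u4) : x ^ 16 = 1 := by
  obtain ⟨s, hs⟩ := h.surj a12
  have ha12 : a12⁻¹ = a12 := inv_eq_of_mul_eq_one_right a12_sq
  have hx4 : x ^ 4 ∈ Q := by
    rw [← h.ker, MonoidHom.mem_ker, map_pow, hx, u4_pow4]
  -- q := x * (s x s⁻¹) ∈ Q
  have hq : x * (s * x * s⁻¹) ∈ Q := by
    rw [← h.ker, MonoidHom.mem_ker, map_mul, map_mul, map_mul, map_inv, hx, hs, ha12, a12_u4,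
      mul_inv_cancel]
  obtain ⟨q, hqdef⟩ : ∃ q : G, q = x * (s * x * s⁻¹) := ⟨_, rfl⟩
  rw [← hqdef] at hq
  have hsx : s * x * s⁻¹ = x⁻¹ * q := by rw [hqdef]; group
  obtain ⟨y, hy⟩ : ∃ y : G, y = x⁻¹ := ⟨_, rfl⟩
  have hy4 : y ^ 4 ∈ Q := by
    rw [hy, inv_pow]; exact Q.inv_mem hx4
  -- the conjugates of `q`
  have hq1 : y⁻¹ * q * y ∈ Q := h.conj_mem' y hq
  have hq2 : y⁻¹ * (y⁻¹ * q * y) * y ∈ Q := h.conj_mem' y hq1
  have hq3 : y⁻¹ * (y⁻¹ * (y⁻¹ * q * y) * y) * y ∈ Q := h.conj_mem' y hq2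
  have e1 := h.conj_sq y hq
  have e2 := (h.conj_sq y hq1).trans e1
  have e3 := (h.conj_sq y hq2).trans e2
  have hpow : (y * q) ^ 4 = y ^ 4 *
      ((y⁻¹ * (y⁻¹ * (y⁻¹ * q * y) * y) * y) * (y⁻¹ * (y⁻¹ * q * y) * y) * (y⁻¹ * q * y) * q) := by
    simp only [pow_succ, pow_zero, one_mul]
    group
  have hP : (y⁻¹ * (y⁻¹ * (y⁻¹ * q * y) * y) * y) * (y⁻¹ * (y⁻¹ * q * y) * y) * (y⁻¹ * q * y) * q ∈ Q :=
    Q.mul_mem (Q.mul_mem (Q.mul_mem hq3 hq2) hq1) hq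
  have hP2 : ((y⁻¹ * (y⁻¹ * (y⁻¹ * q * y) * y) * y) * (y⁻¹ * (y⁻¹ * q * y) * y) * (y⁻¹ * q * y) * q) *
      ((y⁻¹ * (y⁻¹ * (y⁻¹ * q * y) * y) * y) * (y⁻¹ * (y⁻¹ * q * y) * y) * (y⁻¹ * q * y) * q) = 1 := by
    rw [h.mul_sq (Q.mul_mem (Q.mul_mem hq3 hq2) hq1) hq, h.mul_sq (Q.mul_mem hq3 hq2) hq1,
      h.mul_sq hq3 hq2, e1, e2, e3]
    have := h.pow4_Φ (q * q) (sq_mem_sqSub' hq)
    rw [← this]; group
  have h8 : (y * q) ^ 8 = y ^ 8 := by
    have : (y * q) ^ 8 = (y * q) ^ 4 * (y * q) ^ 4 := by rw [← pow_add]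
    rw [this, hpow, h.mul_sq hy4 hP, hP2, mul_one, ← pow_add]
  -- `x^8` is central
  have hx8 : x ^ 8 ∈ sqSub Q := by
    have : x ^ 8 = x ^ 4 * x ^ 4 := by rw [← pow_add]
    rw [this]; exact sq_mem_sqSub' hx4
  have hc := h.Φ_central s _ hx8
  have h9 : s * x ^ 8 * s⁻¹ = x ^ 8 := by rw [hc]; group
  have h10 : s * x ^ 8 * s⁻¹ = (x⁻¹) ^ 8 := by
    rw [← conj_pow, hsx, ← hy, h8]
  have h11 : x ^ 8 = (x ^ 8)⁻¹ := by rw [← inv_pow, ← h10, h9]
  have h12 : x ^ 8 * x ^ 8 = 1 := by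
    nth_rewrite 2 [h11]
    exact mul_inv_cancel _
  rw [← h12, ← pow_add]

/-- the combined statement of S★a (split and nonsplit) and S★b, for a group `X` -/
def SStar (X : Type u) [Group X] : Prop :=
  ∀ (Q' : Subgroup X) (θ' : X →* L), Q'.Normal → Function.Surjective θ' → θ'.ker = Q' →
    (∀ a ∈ Q', ∀ b ∈ Q', a * b = b * a) → Nat.card Q' = 32 → Nat.card (sqSub Q') = 2 →
    (∀ g : X, (∀ a ∈ Q', g * a * g⁻¹ * a⁻¹ ∈ sqSub Q') → g ∈ Q') →
    ∀ c ∈ Q', c * c ≠ 1 → (∀ g : X, g * c = c * g) → ¬ Cfsg.SectionalPRankLE 2 4 X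

/-- the case `Φ(Q) = ⟨d⟩ ≅ Z4` is impossible -/
theorem C2Data.not_Z4 (h : C2Data θ Q) (hr : Cfsg.SectionalPRankLE 2 4 G)
    (hS : ∀ X0 : Subgroup G, SStar ↥X0) (hd : d ∈ sqSub Q) (hdd : d * d ≠ 1) : False := by
  have hfin := h.fin
  have hnQ := h.nQ
  have hDn := omega2_normal h
  have hcardD := card_omega2 h hd hdd
  -- the lift of an involution with square in `D`
  obtain ⟨x, hx⟩ := h.surj u4
  have hx16 := h.pow16 x hx
  have hx4 : x ^ 4 ∈ Q := by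
    rw [← h.ker, MonoidHom.mem_ker, map_pow, hx, u4_pow4]
  have hkD : (x * x) * (x * x) ∈ omega2 h := by
    have e : (x * x) * (x * x) = x ^ 4 := by
      simp only [pow_succ, pow_zero, one_mul, mul_assoc]
    rw [e]
    refine ⟨hx4, ?_⟩
    rw [← hx16]
    simp only [← pow_add]
  have hk1 : θ (x * x) ≠ 1 := by rw [map_mul, hx, u4_sq]; exact z13_ne
  have hk2 : θ (x * x) * θ (x * x) = 1 := by rw [map_mul, hx, u4_sq]; exact z13_sq
  obtain ⟨X0, hX0n, hX0i, hX0Q⟩ := Cfsg.Agent.Lib.Helper3.GH7CE.exists_index_two_of_inv θ h.surj h.ker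
    (omega2 h) (omega2_le h) (by rw [h.cardQ, hcardD]) (x * x) hk1 hk2 hkD
  have hDX : omega2 h ≤ X0 := by rw [← hX0Q]; exact inf_le_left
  -- `θ` restricted to `X0` is onto
  have hsurj' : Function.Surjective (θ.comp X0.subtype) := by
    rcases map_eq_bot_or_top θ h.surj X0 with hb | ht
    · exfalso
      have hle : X0 ≤ Q := by
        intro g hg
        rw [← h.ker, MonoidHom.mem_ker]
        have : θ g ∈ X0.map θ := Subgroup.mem_map_of_mem _ hg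
        rwa [hb, Subgroup.mem_bot] at this
      have h1 := X0.card_mul_index
      rw [hX0i] at h1
      have h2 := Subgroup.card_le_of_le hle
      rw [h.cardQ] at h2
      have h3 := Nat.card_le_card_of_surjective θ h.surj
      rw [Cfsg.Agent.Lib.Helper1.Dv.card_SL32] at h3
      omega
    · intro l
      have : l ∈ X0.map θ := by rw [ht]; trivial
      obtain ⟨g, hg, rfl⟩ := this
      exact ⟨⟨g, hg⟩, rfl⟩
  have hker' : (θ.comp X0.subtype).ker = (omega2 h).subgroupOf X0 := by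
    ext g
    rw [MonoidHom.mem_ker, Subgroup.mem_subgroupOf]
    show θ (g : G) = 1 ↔ _
    rw [← MonoidHom.mem_ker, h.ker]
    constructor
    · intro hg
      rw [← hX0Q]
      exact ⟨g.2, hg⟩
    · intro hg
      exact omega2_le h hg
  have hmap : ((omega2 h).subgroupOf X0).map X0.subtype = omega2 h :=
    Subgroup.map_subgroupOf_eq_of_le hDX
  have hsqmap : (sqSub ((omega2 h).subgroupOf X0)).map X0.subtype = sqSub (omega2 h) := by
    rw [← Cfsg.Agent.Lib.Helper2.GH5.sqSub_map, hmap]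
  have hW : sqSub (omega2 h) ≤ sqSub Q := by
    apply sqSub_le_of_sq
    intro q hq
    exact sq_mem_sqSub' hq.1
  refine hS X0 ((omega2 h).subgroupOf X0) (θ.comp X0.subtype) inferInstance hsurj' hker' ?_ ?_ ?_ ?_
    ⟨d, hDX (d_mem_omega2 h hd)⟩ ?_ ?_ ?_ (Cfsg.Agent.Lib.Helper6.GH5.sectional_subgroup hr X0)
  · intro a ha b hb
    apply Subtype.ext
    exact h.ab a (omega2_le h (Subgroup.mem_subgroupOf.mp ha)) b (omega2_le h (Subgroup.mem_subgroupOf.mp hb))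
  · rw [Nat.card_congr (Subgroup.subgroupOfEquivOfLe hDX).toEquiv, hcardD]
  · rw [← Subgroup.card_map_of_injective (K := sqSub ((omega2 h).subgroupOf X0)) X0.subtype_injective,
      hsqmap, card_sqSub_omega2 h hd hdd]
  · -- faithful
    intro g hg
    rw [Subgroup.mem_subgroupOf, ← hX0Q]
    refine ⟨g.2, ?_⟩
    have hgK : (g : G) ∈ centMod (omega2 h) (sqSub (omega2 h)) := by
      rw [mem_centMod]
      intro b hb
      have h1 := hg ⟨b, hDX hb⟩ (Subgroup.mem_subgroupOf.mpr hb)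
      have h2 : X0.subtype (g * ⟨b, hDX hb⟩ * g⁻¹ * (⟨b, hDX hb⟩ : ↥X0)⁻¹) ∈ sqSub (omega2 h) := by
        rw [← hsqmap]
        exact Subgroup.mem_map_of_mem _ h1
      exact h2
    have hker := le_ker_of_sq θ h.surj (centMod (omega2 h) (sqSub (omega2 h))) (by
      intro k hk
      have hkk : k * k ∈ Q := by
        apply h.faithful
        intro a ha
        have hb : k * a * k⁻¹ * a⁻¹ ∈ omega2 h :=
          comm_mem_of_index_two Q (omega2 h) (omega2_le h) (by rw [h.cardQ, hcardD]) k a ha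
        have h1 : k * k * a * (k * k)⁻¹ * a⁻¹ =
            (k * (k * a * k⁻¹ * a⁻¹) * k⁻¹ * (k * a * k⁻¹ * a⁻¹)⁻¹) *
              ((k * a * k⁻¹ * a⁻¹) * (k * a * k⁻¹ * a⁻¹)) := by group
        rw [h1]
        exact mul_mem (hW (hk _ hb)) (sq_mem_sqSub' hb.1)
      have : k * k ∈ θ.ker := by rw [h.ker]; exact hkk
      rw [MonoidHom.mem_ker, map_mul] at this
      exact this) (g : G) hgK
    show (g : G) ∈ Q
    rw [← h.ker, MonoidHom.mem_ker]
    exact hker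
  · exact Subgroup.mem_subgroupOf.mpr (d_mem_omega2 h hd)
  · intro hc
    exact hdd (congrArg Subtype.val hc)
  · intro g
    apply Subtype.ext
    exact h.Φ_central g d hd

end Cfsg.Agent.Lib.Helper9.GH7C2
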