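import Mathlib
import Cfsg.Agent.Lib.Helper9.GH7C2d

set_option autoImplicit false

/-! GH7 unit C2, part e: `caseC2_of` (of-pattern: `form16` and S★ as hypotheses). -/

namespace Cfsg.Agent.Lib.Helper9.GH7C2

open Cfsg.Agent.Lib.Helper2.GH7
open Cfsg.Agent.Lib.Helper3.A8Emb (sqSub sqSub_le)

universe u

variable {G : Type u} [Group G] [Finite G] {Q : Subgroup G} [Q.Normal] {θ : G →* L}

/-- **C2** in of-pattern: `hab` is the conclusion of `form16`, `hS` the combination of S★a and S★b. -/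
theorem caseC2_of (hF : Frame Q θ) (N1 : Subgroup G) [N1.Normal] (_hle : N1 ≤ sqSub Q)
    (hcard : Nat.card N1 = 2)
    (_hcomm : ∀ a ∈ Q, ∀ b ∈ Q, a * b * a⁻¹ * b⁻¹ ∈ N1) (hQ : Nat.card Q = 32 * Nat.card N1)
    (hΦ : Nat.card (sqSub Q) = 2 * Nat.card N1)
    (hab : ∀ a ∈ Q, ∀ b ∈ Q, a * b = b * a)
    (hS : ∀ X0 : Subgroup G, SStar ↥X0) : False := by
  have h : C2Data θ Q :=
    { fin := inferInstance
      nQ := inferInstance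
      surj := hF.surj
      ker := hF.ker
      ab := hab
      cardQ := by rw [hQ, hcard]
      cardΦ := by rw [hΦ, hcard]
      faithful := hF.faithful }
  by_cases hE4 : ∀ y ∈ sqSub Q, y * y = 1
  · exact h.not_E4 hE4
  · push Not at hE4
    obtain ⟨d, hd, hdd⟩ := hE4
    exact h.not_Z4 hF.rank hS hd hdd

/-- S★ from its three leaves (statements of `exists_lift_pow8_split`, `exists_lift_pow8_nonsplit`, `rank5_of_lift`) -/
theorem sstar_of {X : Type u} [Group X]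
    (hsp : ∀ (Q' : Subgroup X) (θ' : X →* L), Q'.Normal → Function.Surjective θ' → θ'.ker = Q' →
      (∀ a ∈ Q', ∀ b ∈ Q', a * b = b * a) → Nat.card Q' = 32 → Nat.card (sqSub Q') = 2 →
      (∀ g : X, (∀ a ∈ Q', g * a * g⁻¹ * a⁻¹ ∈ sqSub Q') → g ∈ Q') →
      ∀ c ∈ Q', c * c ≠ 1 → (∀ g : X, g * c = c * g) →
      (∃ U' : Subgroup X, U'.Normal ∧ U' ≤ Q' ∧ Nat.card U' = 8 ∧ ∀ x ∈ U', x * x = 1) →
      ∃ x : X, orderOf (θ' x) = 4 ∧ x ^ 8 = 1)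
    (hns : ∀ (Q' : Subgroup X) (θ' : X →* L), Q'.Normal → Function.Surjective θ' → θ'.ker = Q' →
      (∀ a ∈ Q', ∀ b ∈ Q', a * b = b * a) → Nat.card Q' = 32 → Nat.card (sqSub Q') = 2 →
      (∀ g : X, (∀ a ∈ Q', g * a * g⁻¹ * a⁻¹ ∈ sqSub Q') → g ∈ Q') →
      ∀ c ∈ Q', c * c ≠ 1 → (∀ g : X, g * c = c * g) →
      (¬ ∃ U' : Subgroup X, U'.Normal ∧ U' ≤ Q' ∧ Nat.card U' = 8 ∧ ∀ x ∈ U', x * x = 1) →
      ∃ x : X, orderOf (θ' x) = 4 ∧ x ^ 8 = 1)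
    (hr5 : ∀ (Q' : Subgroup X) (θ' : X →* L), Q'.Normal → Function.Surjective θ' → θ'.ker = Q' →
      (∀ a ∈ Q', ∀ b ∈ Q', a * b = b * a) → Nat.card Q' = 32 → Nat.card (sqSub Q') = 2 →
      (∀ g : X, (∀ a ∈ Q', g * a * g⁻¹ * a⁻¹ ∈ sqSub Q') → g ∈ Q') →
      ∀ c ∈ Q', c * c ≠ 1 → (∀ g : X, g * c = c * g) →
      ∀ x : X, orderOf (θ' x) = 4 → x ^ 8 = 1 → ¬ Cfsg.SectionalPRankLE 2 4 X) : SStar X := by
  intro Q' θ' hn hsurj hker hcomm hcard hΦ hfaith c hcQ hc hcen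
  by_cases hU : ∃ U' : Subgroup X, U'.Normal ∧ U' ≤ Q' ∧ Nat.card U' = 8 ∧ ∀ x ∈ U', x * x = 1
  · obtain ⟨x, hx, hx8⟩ := hsp Q' θ' hn hsurj hker hcomm hcard hΦ hfaith c hcQ hc hcen hU
    exact hr5 Q' θ' hn hsurj hker hcomm hcard hΦ hfaith c hcQ hc hcen x hx hx8
  · obtain ⟨x, hx, hx8⟩ := hns Q' θ' hn hsurj hker hcomm hcard hΦ hfaith c hcQ hc hcen hU
    exact hr5 Q' θ' hn hsurj hker hcomm hcard hΦ hfaith c hcQ hc hcen x hx hx8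

end Cfsg.Agent.Lib.Helper9.GH7C2
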