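import Mathlib
import Cfsg.Agent.Lib.Helper2.GLkDefs

/-!
# S2478 piece PD: isomorphic `F[X]`-modules give conjugate matrices
-/

set_option autoImplicit false
set_option linter.unusedVariables false
set_option linter.unusedSectionVars false
set_option linter.style.longLine false

namespace Cfsg.Agent.Lib.Helper2.GLk

open Polynomial

universe u

variable {F : Type u} [Field F]

theorem conj_of_equiv {n : ℕ} (A B : GL (Fin n) F)
    (h : Nonempty (Mod (A : Matrix (Fin n) (Fin n) F) ≃ₗ[F[X]] Mod (B : Matrix (Fin n) (Fin n) F))) :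
    IsConj A B := by
  obtain ⟨φ⟩ := h
  set a : (Fin n → F) →ₗ[F] (Fin n → F) := Matrix.toLin' (A : Matrix (Fin n) (Fin n) F) with ha
  set b : (Fin n → F) →ₗ[F] (Fin n → F) := Matrix.toLin' (B : Matrix (Fin n) (Fin n) F) with hb
  -- the F-linear equivalence
  let ψ : (Fin n → F) ≃ₗ[F] (Fin n → F) :=
    ((Module.AEval'.of a).trans (φ.restrictScalars F)).trans (Module.AEval'.of b).symm
  have hψ : ∀ v, ψ (a v) = b (ψ v) := by
    intro v
    show (Module.AEval'.of b).symm (φ (Module.AEval'.of a (a v))) =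
      b ((Module.AEval'.of b).symm (φ (Module.AEval'.of a v)))
    rw [← Module.AEval'.X_smul_of, map_smul, Module.AEval'.of_symm_X_smul]
  have hcomp : (ψ : (Fin n → F) →ₗ[F] (Fin n → F)) ∘ₗ a = b ∘ₗ (ψ : (Fin n → F) →ₗ[F] (Fin n → F)) := by
    apply LinearMap.ext
    intro v
    exact hψ v
  set P : Matrix (Fin n) (Fin n) F := LinearMap.toMatrix' (ψ : (Fin n → F) →ₗ[F] (Fin n → F)) with hP
  set P' : Matrix (Fin n) (Fin n) F := LinearMap.toMatrix' (ψ.symm : (Fin n → F) →ₗ[F] (Fin n → F)) with hP'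
  have h1 : P * P' = 1 := by
    rw [hP, hP', ← LinearMap.toMatrix'_comp]
    have : (ψ : (Fin n → F) →ₗ[F] (Fin n → F)) ∘ₗ (ψ.symm : (Fin n → F) →ₗ[F] (Fin n → F)) = LinearMap.id := by
      apply LinearMap.ext
      intro v
      simp
    rw [this, LinearMap.toMatrix'_id]
  have h2 : P' * P = 1 := by
    rw [hP, hP', ← LinearMap.toMatrix'_comp]
    have : (ψ.symm : (Fin n → F) →ₗ[F] (Fin n → F)) ∘ₗ (ψ : (Fin n → F) →ₗ[F] (Fin n → F)) = LinearMap.id := by
      apply LinearMap.ext
      intro v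
      simp
    rw [this, LinearMap.toMatrix'_id]
  have hPA : P * (A : Matrix (Fin n) (Fin n) F) = (B : Matrix (Fin n) (Fin n) F) * P := by
    have := congrArg LinearMap.toMatrix' hcomp
    rw [LinearMap.toMatrix'_comp, LinearMap.toMatrix'_comp, ha, hb, LinearMap.toMatrix'_toLin',
      LinearMap.toMatrix'_toLin'] at this
    exact this
  let c : GL (Fin n) F := ⟨P, P', h1, h2⟩
  rw [isConj_iff]
  refine ⟨c, ?_⟩
  rw [mul_inv_eq_iff_eq_mul]
  apply Units.ext
  simpa using hPA

end Cfsg.Agent.Lib.Helper2.GLk
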