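import Mathlib
import Cfsg.Agent.Lib.Helper2.GLkDefs

/-!
# S2478 piece PH: the numerical bound `q^N * K q N n ≤ (q^N - 1) * q^n`
-/

set_option autoImplicit false
set_option linter.unusedVariables false
set_option linter.unusedSectionVars false
set_option linter.style.longLine false

namespace Cfsg.Agent.Lib.Helper2.GLk

theorem h9_K_succ (q N n : ℕ) :
    K q (N + 1) n = ∑ m ∈ Finset.range (n / (N + 1) + 1), c q m * K q N (n - (N + 1) * m) := by
  rw [K]

theorem h9_K_zero (q n : ℕ) : K q 0 n = if n = 0 then 1 else 0 := by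
  rw [K]

theorem h9_c_zero (q : ℕ) : c q 0 = 1 := by
  simp [c]

theorem h9_c_succ (q j : ℕ) : c q (j + 1) = (q - 1) * q ^ j := by
  unfold c
  rw [if_neg (Nat.succ_ne_zero j), Nat.add_sub_cancel, pow_succ, Nat.sub_mul, one_mul, mul_comm]

theorem K_zero_right (q N : ℕ) : K q N 0 = 1 := by
  induction N with
  | zero => rw [h9_K_zero]; simp
  | succ N ih =>
    rw [h9_K_succ]
    simp [ih, h9_c_zero]

theorem h9_K_step (q : ℕ) (hq : 2 ≤ q) (N : ℕ) (hN : 1 ≤ N)
    (IH : ∀ t, 1 ≤ t → q ^ N * K q N t ≤ (q ^ N - 1) * q ^ t) (n : ℕ) (hn : 1 ≤ n) :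
    ∀ j, (N + 1) * j < n →
      q ^ N * ∑ m ∈ Finset.range (j + 1), c q m * K q N (n - (N + 1) * m) +
          (q - 1) * q ^ (n - 1 - N * j)
        ≤ (q ^ N - 1) * q ^ n + (q - 1) * q ^ (n - 1) := by
  intro j
  induction j with
  | zero =>
    intro _
    simp only [zero_add, Finset.range_one, Finset.sum_singleton, h9_c_zero, mul_zero, one_mul,
      Nat.sub_zero]
    have := IH n hn
    omega
  | succ j ih =>
    intro hj
    have e0 : (N + 1) * (j + 1) = N * j + N + j + 1 := by ring
    have e0' : (N + 1) * j = N * j + j := by ring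
    have e0'' : N * (j + 1) = N * j + N := by ring
    have hj' : (N + 1) * j < n := by omega
    have h1 := ih hj'
    rw [Finset.sum_range_succ, mul_add]
    set t := n - (N + 1) * (j + 1) with ht
    have ht1 : 1 ≤ t := by omega
    have hK := IH t ht1
    have key : q ^ N * (c q (j + 1) * K q N t) + (q - 1) * q ^ (n - 1 - N * (j + 1))
        ≤ (q - 1) * q ^ (n - 1 - N * j) := by
      have e1 : n - 1 - N * (j + 1) = t + j := by omega
      have e2 : n - 1 - N * j = t + j + N := by omega
      rw [e1, e2, h9_c_succ]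
      obtain ⟨a, ha⟩ : ∃ a, q ^ N = a + 1 :=
        ⟨q ^ N - 1, by have := Nat.one_le_pow N q (by omega); omega⟩
      calc q ^ N * ((q - 1) * q ^ j * K q N t) + (q - 1) * q ^ (t + j)
          = (q - 1) * q ^ j * (q ^ N * K q N t) + (q - 1) * q ^ (t + j) := by ring
        _ ≤ (q - 1) * q ^ j * ((q ^ N - 1) * q ^ t) + (q - 1) * q ^ (t + j) := by gcongr
        _ = (q - 1) * q ^ (t + j + N) := by
          rw [pow_add _ (t + j) N, ha, Nat.add_sub_cancel, pow_add]; ring
    omega

theorem K_bound (q : ℕ) (hq : 2 ≤ q) (N : ℕ) (hN : 1 ≤ N) (n : ℕ) (hn : 1 ≤ n) :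
    q ^ N * K q N n ≤ (q ^ N - 1) * q ^ n := by
  induction N, hN using Nat.le_induction generalizing n with
  | base =>
    rw [h9_K_succ]
    have hsum : ∑ m ∈ Finset.range (n / (0 + 1) + 1), c q m * K q 0 (n - (0 + 1) * m) = c q n := by
      rw [Finset.sum_eq_single n]
      · rw [h9_K_zero]; simp
      · intro m hm hmn
        rw [h9_K_zero]
        have : m < n := by
          have := Finset.mem_range.mp hm
          simp at this
          omega
        rw [if_neg (by omega)]; simp
      · intro h
        exfalso; apply h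
        simp
    rw [hsum]
    obtain ⟨k, rfl⟩ : ∃ k, n = k + 1 := ⟨n - 1, by omega⟩
    rw [h9_c_succ, pow_one]
    apply le_of_eq
    rw [pow_succ]; ring
  | succ N hN IH =>
    rw [h9_K_succ]
    have step := h9_K_step q hq N hN (fun t ht => IH t ht) n hn
    have hM : 0 < N + 1 := Nat.succ_pos N
    set J := n / (N + 1) with hJ
    have hJle : (N + 1) * J ≤ n := Nat.mul_div_le n (N + 1)
    -- the intermediate bound
    have hmid : q ^ N * ∑ m ∈ Finset.range (J + 1), c q m * K q N (n - (N + 1) * m)
        ≤ (q ^ N - 1) * q ^ n + (q - 1) * q ^ (n - 1) := by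
      rcases Nat.lt_or_ge ((N + 1) * J) n with hlt | hge
      · have := step J hlt
        omega
      · have heq : (N + 1) * J = n := le_antisymm hJle hge
        have hJ1 : 1 ≤ J := by
          rcases Nat.eq_zero_or_pos J with h0 | h0
          · rw [h0] at heq; omega
          · exact h0
        obtain ⟨i, hi⟩ : ∃ i, J = i + 1 := ⟨J - 1, by omega⟩
        have e0 : (N + 1) * (i + 1) = N * i + N + i + 1 := by ring
        have e0' : (N + 1) * i = N * i + i := by ring
        rw [hi] at heq
        have hilt : (N + 1) * i < n := by omega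
        have h1 := step i hilt
        rw [hi, Finset.sum_range_succ, mul_add]
        have e3 : n - (N + 1) * (i + 1) = 0 := by omega
        rw [e3, K_zero_right, mul_one, h9_c_succ]
        have e4 : n - 1 - N * i = N + i := by omega
        rw [e4] at h1
        have e5 : q ^ N * ((q - 1) * q ^ i) = (q - 1) * q ^ (N + i) := by
          rw [pow_add]; ring
        rw [e5]
        exact h1
    -- multiply by q
    obtain ⟨k, rfl⟩ : ∃ k, n = k + 1 := ⟨n - 1, by omega⟩
    obtain ⟨a, ha⟩ : ∃ a, q ^ N = a + 1 :=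
      ⟨q ^ N - 1, by have := Nat.one_le_pow N q (by omega); omega⟩
    obtain ⟨b, hb⟩ : ∃ b, q = b + 1 := ⟨q - 1, by omega⟩
    have hqN1 : q ^ (N + 1) - 1 = a * q + b := by
      rw [pow_succ, ha]
      have : (a + 1) * q = a * q + q := by ring
      omega
    rw [hqN1]
    rw [ha, Nat.add_sub_cancel, Nat.add_sub_cancel] at hmid
    have hb' : q - 1 = b := by omega
    rw [hb'] at hmid
    calc q ^ (N + 1) * ∑ m ∈ Finset.range (J + 1), c q m * K q N (k + 1 - (N + 1) * m)
        = q * (q ^ N * ∑ m ∈ Finset.range (J + 1), c q m * K q N (k + 1 - (N + 1) * m)) := by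
          rw [pow_succ]; ring
      _ = q * ((a + 1) * ∑ m ∈ Finset.range (J + 1), c q m * K q N (k + 1 - (N + 1) * m)) := by
          rw [ha]
      _ ≤ q * (a * q ^ (k + 1) + b * q ^ k) := Nat.mul_le_mul_left _ hmid
      _ = (a * q + b) * q ^ (k + 1) := by
          rw [pow_succ]; ring

end Cfsg.Agent.Lib.Helper2.GLk
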