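import Mathlib
import Cfsg.Prelude

set_option autoImplicit false
set_option linter.unusedSectionVars false
set_option linter.unusedVariables false
set_option linter.style.longLine false
set_option linter.unusedSimpArgs false
open Cfsg

set_option maxHeartbeats 1600000
namespace Cfsg.Agent.Lib.Helper9.GY

open Pointwise

universe u

variable {X : Type u} [Group X]

/-- `Ω₁(Z(P))` as a subgroup of the ambient group. -/
def omegaZ (p : ℕ) (P : Subgroup X) : Subgroup X where
  carrier := {x | x ∈ P ∧ x ^ p = 1 ∧ ∀ y ∈ P, y * x = x * y}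
  one_mem' := ⟨P.one_mem, one_pow _, fun y _ => by rw [mul_one, one_mul]⟩
  mul_mem' := by
    rintro a b ⟨ha, hap, hac⟩ ⟨hb, hbp, hbc⟩
    refine ⟨P.mul_mem ha hb, ?_, ?_⟩
    · have hcomm : Commute a b := (hac b hb).symm
      rw [hcomm.mul_pow, hap, hbp, one_mul]
    · intro y hy
      rw [← mul_assoc, hac y hy, mul_assoc, hbc y hy, ← mul_assoc]
  inv_mem' := by
    rintro a ⟨ha, hap, hac⟩
    refine ⟨P.inv_mem ha, by rw [inv_pow, hap, inv_one], ?_⟩
    intro y hy
    have := hac y hy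
    calc y * a⁻¹ = a⁻¹ * (a * y) * a⁻¹ := by group
      _ = a⁻¹ * (y * a) * a⁻¹ := by rw [this]
      _ = a⁻¹ * y := by group

theorem mem_omegaZ {p : ℕ} {P : Subgroup X} {x : X} :
    x ∈ omegaZ p P ↔ x ∈ P ∧ x ^ p = 1 ∧ ∀ y ∈ P, y * x = x * y := Iff.rfl

theorem omegaZ_le (p : ℕ) (P : Subgroup X) : omegaZ p P ≤ P := fun _ h => h.1

/-- automorphisms preserving `P` preserve `Ω₁(Z(P))`. -/
theorem omegaZ_aut {p : ℕ} {P : Subgroup X} (hP : ∀ a : MulAut X, ∀ x ∈ P, a x ∈ P)
    (a : MulAut X) (x : X) (hx : x ∈ omegaZ p P) : a x ∈ omegaZ p P := by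
  obtain ⟨h1, h2, h3⟩ := hx
  refine ⟨hP a x h1, by rw [← map_pow, h2, map_one], ?_⟩
  intro y hy
  have hy' : a⁻¹ y ∈ P := hP a⁻¹ y hy
  have := h3 _ hy'
  have h4 := congrArg a this
  rw [map_mul, map_mul] at h4
  have h5 : a (a⁻¹ y) = y := by
    change (a * a⁻¹) y = y
    rw [mul_inv_cancel]; rfl
  rwa [h5] at h4

/-- a nontrivial `p`-subgroup has an element of order `p` in `Ω₁(Z(P))`. -/
theorem exists_omegaZ [Finite X] {p : ℕ} [hp : Fact p.Prime] {P : Subgroup X} (hP : IsPGroup p P)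
    (hne : P ≠ ⊥) : ∃ w ∈ omegaZ p P, orderOf w = p := by
  haveI : Nontrivial ↥P := (Subgroup.nontrivial_iff_ne_bot P).mpr hne
  haveI := hP.center_nontrivial
  have hZ : IsPGroup p (Subgroup.center ↥P) := hP.to_subgroup _
  have hdvd : p ∣ Nat.card (Subgroup.center ↥P) := by
    rcases hZ.card_eq_or_dvd with h | h
    · exfalso
      have := (Subgroup.center ↥P).one_lt_card_iff_ne_bot.mpr
        ((Subgroup.nontrivial_iff_ne_bot _).mp inferInstance)
      omega
    · exact h
  obtain ⟨z, hz⟩ := exists_prime_orderOf_dvd_card' p hdvd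
  refine ⟨((z : ↥P) : X), ⟨(z : ↥P).2, ?_, ?_⟩, ?_⟩
  · have : z ^ p = 1 := by rw [← hz]; exact pow_orderOf_eq_one z
    have h2 := congrArg (fun t : Subgroup.center ↥P => ((t : ↥P) : X)) this
    simpa using h2
  · intro y hy
    have := Subgroup.mem_center_iff.mp z.2 ⟨y, hy⟩
    have h2 := congrArg (fun t : ↥P => (t : X)) this
    simpa using h2
  · rw [← hz]
    rw [← Subgroup.orderOf_coe, ← Subgroup.orderOf_coe]

/-- a subgroup invariant under all automorphisms which contains an element of order `p`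
contains all elements `x` with `x ^ p = 1`, provided the automorphisms permute the
subgroups of order `p` transitively. -/
theorem all_of_one {p : ℕ} [hp : Fact p.Prime]
    (htrans : ∀ U V : Subgroup X, Nat.card U = p → Nat.card V = p →
      ∃ a : MulAut X, U.map a.toMonoidHom = V)
    (Y : Subgroup X) (hY : ∀ a : MulAut X, ∀ x ∈ Y, a x ∈ Y) (c : X) (hc : c ∈ Y)
    (hcp : orderOf c = p) (x : X) (hx : x ^ p = 1) : x ∈ Y := by
  by_cases h1 : x = 1
  · rw [h1]; exact Y.one_mem
  have hox : orderOf x = p := orderOf_eq_prime hx h1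
  obtain ⟨a, ha⟩ := htrans (Subgroup.zpowers c) (Subgroup.zpowers x)
    (by rw [Nat.card_zpowers, hcp]) (by rw [Nat.card_zpowers, hox])
  have hxm : x ∈ (Subgroup.zpowers c).map a.toMonoidHom := by
    rw [ha]; exact Subgroup.mem_zpowers x
  obtain ⟨y, hy, rfl⟩ := hxm
  apply hY a y
  exact (Subgroup.zpowers_le.mpr hc) hy

end Cfsg.Agent.Lib.Helper9.GY
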