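import Mathlib
import Cfsg.Prelude
import Cfsg.Agent.Lib.Helper3.SZRel
import Cfsg.Agent.Lib.Helper1.CoprimeAut
import Cfsg.Agent.Lib.Helper1.FrattiniHall

set_option autoImplicit false
set_option linter.unusedSectionVars false
set_option linter.unusedVariables false
set_option linter.style.longLine false
set_option linter.unusedSimpArgs false
open Cfsg

set_option maxHeartbeats 1600000
namespace Cfsg.Agent.Lib.Helper9.GY

open Pointwise

universe u

variable {X : Type u} [Group X]

/-- A normal `p`-subgroup `P` of `p'`-index in `M` has a `p'`-complement `R` in `M`. -/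
theorem exists_compl [Finite X] {p : ℕ} [hp : Fact p.Prime] (P M : Subgroup X) [hPn : P.Normal]
    (hP : IsPGroup p P) (hPM : P ≤ M) (hidx : (P.relIndex M).Coprime p) :
    ∃ R : Subgroup X, R ≤ M ∧ (Nat.card R).Coprime p ∧ R ⊔ P = M := by
  haveI : (P.subgroupOf M).Normal := hPn.subgroupOf M
  obtain ⟨k, hk⟩ := hP.exists_card_eq
  have hcN : Nat.card (P.subgroupOf M) = Nat.card P :=
    Cfsg.Agent.Lib.Helper1.card_subgroupOf_of_le hPM
  have hcop : (Nat.card (P.subgroupOf M)).Coprime (P.subgroupOf M).index := by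
    rw [hcN, hk]
    exact (Nat.Coprime.pow_left k hidx.symm)
  obtain ⟨H, hH⟩ := Subgroup.exists_right_complement'_of_coprime hcop
  refine ⟨H.map M.subtype, Subgroup.map_subtype_le H, ?_, ?_⟩
  · rw [Subgroup.card_map_of_injective M.subtype_injective, ← hH.symm.index_eq_card]
    exact hidx
  · have h1 := hH.sup_eq_top
    have h2 := congrArg (Subgroup.map M.subtype) h1
    rw [Subgroup.map_sup, Subgroup.subgroupOf_map_subtype, inf_of_le_left hPM,
      ← MonoidHom.range_eq_map, Subgroup.range_subtype] at h2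
    rw [sup_comm]; exact h2

/-- Frattini argument for a complement `R` of the normal `p`-subgroup `P` in the normal
subgroup `M`. -/
theorem frattini_compl [Finite X] {p : ℕ} [hp : Fact p.Prime] (P M R : Subgroup X) [hPn : P.Normal]
    [hMn : M.Normal] (hP : IsPGroup p P) (hR : (Nat.card R).Coprime p) (hRM : R ⊔ P = M) :
    P ⊔ Subgroup.normalizer (R : Set X) = ⊤ := by
  rw [eq_top_iff]
  intro g _
  obtain ⟨k, hk⟩ := hP.exists_card_eq
  have hcop : (Nat.card P).Coprime (Nat.card R) := by
    rw [hk]; exact Nat.Coprime.pow_left k hR.symm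
  have hsolv : Group.IsSolvable ↥P := by
    haveI := hP.isNilpotent
    infer_instance
  have hRleM : R ≤ M := hRM ▸ le_sup_left
  have hK : MulAut.conj g • R ≤ R ⊔ P := by
    rw [hRM]
    have : MulAut.conj g • R ≤ MulAut.conj g • M :=
      Subgroup.pointwise_smul_le_pointwise_smul_iff.mpr hRleM
    rwa [Subgroup.Normal.conj_smul_eq_self g M] at this
  obtain ⟨n, hn, hnR⟩ := Cfsg.Agent.Lib.Helper3.sz_conj_rel P R (MulAut.conj g • R) hcop hK
    (Cfsg.Agent.Lib.Helper1.card_conj_smul g R) (Or.inl hsolv)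
  have h4 : MulAut.conj (n⁻¹ * g) • R = R := by
    rw [map_mul, mul_smul, ← hnR, ← mul_smul, ← map_mul, inv_mul_cancel, map_one, one_smul]
  have h5 := Cfsg.Agent.Lib.Helper1.mem_normalizer_of_conj_smul_eq h4
  have e : g = n * (n⁻¹ * g) := by group
  rw [e]
  exact Subgroup.mul_mem_sup hn h5

/-- For odd `p`: a `p'`-element centralizing all elements of order dividing `p` of the normal
`p`-subgroup `P` centralizes `P`. -/
theorem centralizes_of_omega [Finite X] {p : ℕ} [hp : Fact p.Prime] (hp2 : p ≠ 2) (P : Subgroup X)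
    [hPn : P.Normal] (hP : IsPGroup p P) (r : X) (hr : (orderOf r).Coprime p)
    (h : ∀ x ∈ P, x ^ p = 1 → r * x = x * r) : ∀ x ∈ P, r * x = x * r := by
  have ha : (orderOf (MulAut.conjNormal (H := P) r)).Coprime p :=
    Nat.Coprime.coprime_dvd_left (orderOf_map_dvd _ r) hr
  have h1 : MulAut.conjNormal (H := P) r = 1 := by
    apply Cfsg.Agent.Lib.Helper1.coprime_aut_trivial_of_fix_omega hp2 hP _ ha
    intro x hx
    apply Subtype.ext
    rw [MulAut.conjNormal_apply]
    have hx' : (x : X) ^ p = 1 := by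
      have := congrArg (fun t : ↥P => (t : X)) hx
      simpa using this
    rw [h x x.2 hx', mul_assoc, mul_inv_cancel, mul_one]
  intro x hx
  have h2 : (MulAut.conjNormal (H := P) r) ⟨x, hx⟩ = ⟨x, hx⟩ := by rw [h1]; rfl
  have h3 := congrArg (fun t : ↥P => (t : X)) h2
  simp only [MulAut.conjNormal_apply] at h3
  calc r * x = r * x * r⁻¹ * r := by group
    _ = x * r := by rw [h3]

end Cfsg.Agent.Lib.Helper9.GY
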