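import Mathlib
import Cfsg.Prelude
import Cfsg.Agent.Lib.Helper9.GY1
import Cfsg.Agent.Lib.Helper9.GY2

set_option autoImplicit false
set_option linter.unusedSectionVars false
set_option linter.unusedVariables false
set_option linter.style.longLine false
set_option linter.unusedSimpArgs false
open Cfsg

set_option maxHeartbeats 1600000
namespace Cfsg.Agent.Lib.Helper9.GY

open Pointwise

universe u

variable {X : Type u} [Group X]

theorem centralizer_aut {M : Subgroup X} (hMa : ∀ a : MulAut X, ∀ x ∈ M, a x ∈ M)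
    (a : MulAut X) (x : X) (hx : x ∈ Subgroup.centralizer (M : Set X)) :
    a x ∈ Subgroup.centralizer (M : Set X) := by
  rw [Subgroup.mem_centralizer_iff] at hx ⊢
  intro m hm
  have hm' : a⁻¹ m ∈ M := hMa a⁻¹ m hm
  have h4 := congrArg a (hx _ hm')
  rw [map_mul, map_mul] at h4
  have h5 : a (a⁻¹ m) = m := by
    change (a * a⁻¹) m = m
    rw [mul_inv_cancel]; rfl
  rwa [h5] at h4

/-- The core of the Gaschütz–Yen argument. -/
theorem core [Finite X] {p : ℕ} [hp : Fact p.Prime] (hp2 : p ≠ 2) (P M : Subgroup X)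
    [hPn : P.Normal] [hMn : M.Normal]
    (hP : IsPGroup p P) (hPM : P ≤ M) (hidx : (P.relIndex M).Coprime p)
    (hCP : Subgroup.centralizer (P : Set X) ≤ P)
    (hPa : ∀ a : MulAut X, ∀ x ∈ P, a x ∈ P) (hMa : ∀ a : MulAut X, ∀ x ∈ M, a x ∈ M)
    (htrans : ∀ U V : Subgroup X, Nat.card U = p → Nat.card V = p →
      ∃ a : MulAut X, U.map a.toMonoidHom = V)
    (hne : P ≠ ⊥) : M = P ∨ P.index.Coprime p := by
  obtain ⟨w, hwW, hwo⟩ := exists_omegaZ hP hne
  have hWa := omegaZ_aut (p := p) hPa
  have hall : ∀ x : X, x ^ p = 1 → x ∈ omegaZ p P :=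
    all_of_one htrans (omegaZ p P) hWa w hwW hwo
  obtain ⟨R, hRM, hRc, hRP⟩ := exists_compl P M hP hPM hidx
  obtain ⟨k, hk⟩ := hP.exists_card_eq
  have hdisj : R ⊓ P = ⊥ := by
    apply (Subgroup.disjoint_of_coprime_natCard _).eq_bot
    rw [hk]; exact Nat.Coprime.pow_right k hRc
  obtain ⟨Y, hYdef⟩ : ∃ Y : Subgroup X, Y = omegaZ p P ⊓ Subgroup.centralizer (M : Set X) :=
    ⟨_, rfl⟩
  have hYa : ∀ a : MulAut X, ∀ x ∈ Y, a x ∈ Y := by
    intro a x hx
    rw [hYdef] at hx ⊢
    exact ⟨hWa a x hx.1, centralizer_aut hMa a x hx.2⟩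
  by_cases hY : ∃ c ∈ Y, c ≠ 1
  · left
    obtain ⟨c, hcY, hc1⟩ := hY
    have hcp : c ^ p = 1 := by
      rw [hYdef] at hcY
      exact hcY.1.2.1
    have hco : orderOf c = p := orderOf_eq_prime hcp hc1
    have hallY : ∀ x : X, x ^ p = 1 → x ∈ Y := all_of_one htrans Y hYa c hcY hco
    have hRbot : R = ⊥ := by
      rw [eq_bot_iff]
      intro r hr
      have hro : (orderOf r).Coprime p :=
        Nat.Coprime.coprime_dvd_left (Subgroup.orderOf_dvd_natCard R hr) hRc
      have h1 : ∀ x ∈ P, x ^ p = 1 → r * x = x * r := by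
        intro x _ hx
        have := hallY x hx
        rw [hYdef] at this
        exact Subgroup.mem_centralizer_iff.mp this.2 r (hRM hr)
      have h2 := centralizes_of_omega hp2 P hP r hro h1
      have h3 : r ∈ Subgroup.centralizer (P : Set X) := by
        rw [Subgroup.mem_centralizer_iff]
        intro x hx
        exact (h2 x hx).symm
      have h4 : r ∈ R ⊓ P := ⟨hr, hCP h3⟩
      rwa [hdisj] at h4
    rw [← hRP, hRbot, bot_sup_eq]
  · right
    push Not at hY
    have hfr := frattini_compl P M R hP hRc hRP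
    have hNc : (Nat.card (Subgroup.normalizer (R : Set X))).Coprime p := by
      rw [Nat.coprime_comm, Nat.Prime.coprime_iff_not_dvd hp.out]
      intro hdvd
      obtain ⟨x, hx⟩ := exists_prime_orderOf_dvd_card' p hdvd
      have hxo : orderOf (x : X) = p := by rw [Subgroup.orderOf_coe]; exact hx
      have hxp : (x : X) ^ p = 1 := by rw [← hxo]; exact pow_orderOf_eq_one _
      have hxW : (x : X) ∈ omegaZ p P := hall _ hxp
      have hxR : R ≤ Subgroup.centralizer ({(x : X)} : Set X) := by
        intro r hr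
        rw [Subgroup.mem_centralizer_iff]
        intro y hy
        rw [Set.mem_singleton_iff] at hy
        subst hy
        -- commutator x r x⁻¹ r⁻¹ lies in R ⊓ P
        have h1 : (x : X) * r * (x : X)⁻¹ ∈ R :=
          (Subgroup.mem_normalizer_iff.mp x.2 r).mp hr
        have h2 : (x : X) * r * (x : X)⁻¹ * r⁻¹ ∈ R := R.mul_mem h1 (R.inv_mem hr)
        have h3 : r * (x : X)⁻¹ * r⁻¹ ∈ omegaZ p P := by
          have := hWa (MulAut.conj r) _ ((omegaZ p P).inv_mem hxW)
          simpa [MulAut.conj_apply] using this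
        have h4 : (x : X) * r * (x : X)⁻¹ * r⁻¹ ∈ P := by
          have := (omegaZ p P).mul_mem hxW h3
          have e : (x : X) * (r * (x : X)⁻¹ * r⁻¹) = (x : X) * r * (x : X)⁻¹ * r⁻¹ := by group
          rw [e] at this
          exact omegaZ_le p P this
        have h5 : (x : X) * r * (x : X)⁻¹ * r⁻¹ ∈ R ⊓ P := ⟨h2, h4⟩
        rw [hdisj, Subgroup.mem_bot] at h5
        calc (x : X) * r = (x : X) * r * (x : X)⁻¹ * r⁻¹ * (r * (x : X)) := by group
          _ = r * (x : X) := by rw [h5, one_mul]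
      have hxP : P ≤ Subgroup.centralizer ({(x : X)} : Set X) := by
        intro y hy
        rw [Subgroup.mem_centralizer_iff]
        intro z hz
        rw [Set.mem_singleton_iff] at hz
        subst hz
        exact (hxW.2.2 y hy).symm
      have hxM : M ≤ Subgroup.centralizer ({(x : X)} : Set X) := by
        rw [← hRP]; exact sup_le hxR hxP
      have hxY : (x : X) ∈ Y := by
        rw [hYdef]
        refine Subgroup.mem_inf.mpr ⟨hxW, ?_⟩
        rw [Subgroup.mem_centralizer_iff]
        intro m hm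
        exact (Subgroup.mem_centralizer_iff.mp (hxM hm) (x : X) rfl).symm
      have := hY _ hxY
      rw [this, orderOf_one] at hxo
      exact hp.out.one_lt.ne hxo
    have h1 : P.index = P.relIndex (Subgroup.normalizer (R : Set X)) := by
      rw [← Subgroup.relIndex_top_right, ← hfr, Subgroup.relIndex_sup_left]
    rw [h1]
    exact Nat.Coprime.coprime_dvd_left (Subgroup.relIndex_dvd_card _ _) hNc

end Cfsg.Agent.Lib.Helper9.GY
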