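import Mathlib
import Cfsg.Prelude
import Cfsg.Agent.Lib.Helper9.GY1
import Cfsg.Agent.Lib.Helper9.GY2
import Cfsg.Agent.Lib.Helper9.GY3
import Cfsg.Agent.Lib.Helper2.HHDual
import Cfsg.Agent.Lib.Helper3.UpperPSeries
import Cfsg.Agent.Lib.Helper1.PConstrainedOfPSolvable

set_option autoImplicit false
set_option linter.unusedSectionVars false
set_option linter.unusedVariables false
set_option linter.style.longLine false
set_option linter.unusedSimpArgs false
open Cfsg

set_option maxHeartbeats 1600000
namespace Cfsg.Agent.Lib.Helper9.GY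

open Pointwise

universe u

variable {X : Type u} [Group X]

theorem char_aut {H : Subgroup X} (hH : H.Characteristic) (a : MulAut X) (x : X) (hx : x ∈ H) :
    a x ∈ H := by
  have := Subgroup.characteristic_iff_map_eq.mp hH a
  rw [← this]
  exact ⟨x, hx, rfl⟩

/-- `O_{p,p'}(X)` is invariant under all automorphisms. -/
theorem pPPrime_aut [Finite X] (p : ℕ) (a : MulAut X) (x : X)
    (hx : x ∈ (pPrimeCore p (X ⧸ pCore p X)).comap (QuotientGroup.mk' (pCore p X))) :
    a x ∈ (pPrimeCore p (X ⧸ pCore p X)).comap (QuotientGroup.mk' (pCore p X)) := by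
  have hPchar : (pCore p X).Characteristic := Cfsg.Agent.Lib.Helper2.pCore_characteristic p
  have hmap : (pCore p X).map a.toMonoidHom = pCore p X :=
    Subgroup.characteristic_iff_map_eq.mp hPchar a
  have hmap' : (pCore p X).map (a : X →* X) = pCore p X := hmap
  let e : X ⧸ pCore p X ≃* X ⧸ pCore p X := QuotientGroup.congr (pCore p X) (pCore p X) a hmap'
  have he := Cfsg.Agent.Lib.Helper3.pPrimeCore_map_equiv p e
  rw [Subgroup.mem_comap] at hx ⊢
  rw [← he]
  refine ⟨_, hx, ?_⟩
  change e (QuotientGroup.mk x) = QuotientGroup.mk (a x)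
  exact QuotientGroup.congr_mk _ _ _ _ _

/-- Gaschütz–Yen for a group with `O_{p'}(X) = 1`. -/
theorem coreX [Finite X] {p : ℕ} [hp : Fact p.Prime] (hp2 : p ≠ 2) (hsol : IsPSolvable p X)
    (hbot : pPrimeCore p X = ⊥)
    (htrans : ∀ U V : Subgroup X, Nat.card U = p → Nat.card V = p →
      ∃ a : MulAut X, U.map a.toMonoidHom = V) : (pCore p X).index.Coprime p := by
  have hP : IsPGroup p (pCore p X) := Cfsg.Agent.Lib.Helper2.pCore_isPGroup p
  have hPchar : (pCore p X).Characteristic := Cfsg.Agent.Lib.Helper2.pCore_characteristic p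
  have hCP : Subgroup.centralizer ((pCore p X : Subgroup X) : Set X) ≤ pCore p X := by
    intro γ hγ
    apply Cfsg.Agent.S4218.HH p hsol hbot γ
    intro y hy
    have h1 : y * γ = γ * y := Subgroup.mem_centralizer_iff.mp hγ y hy
    have h2 : γ * y * γ⁻¹ * y⁻¹ = 1 := by
      rw [← h1]; group
    rw [h2]
    exact Subgroup.one_mem _
  by_cases hne : pCore p X = ⊥
  · -- then `X` is trivial
    have h1 : (⊤ : Subgroup X) ≤ pCore p X := by
      intro γ _
      apply hCP
      rw [hne, Subgroup.mem_centralizer_iff]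
      intro y hy
      rw [SetLike.mem_coe, Subgroup.mem_bot] at hy
      rw [hy, one_mul, mul_one]
    rw [top_le_iff] at h1
    rw [h1, Subgroup.index_top]
    exact Nat.coprime_one_left p
  obtain ⟨M, hMdef⟩ : ∃ M : Subgroup X,
      M = (pPrimeCore p (X ⧸ pCore p X)).comap (QuotientGroup.mk' (pCore p X)) := ⟨_, rfl⟩
  haveI hMn : M.Normal := by
    rw [hMdef]
    exact (inferInstance : (pPrimeCore p (X ⧸ pCore p X)).Normal).comap _
  have hker : (⊥ : Subgroup (X ⧸ pCore p X)).comap (QuotientGroup.mk' (pCore p X)) = pCore p X := by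
    rw [MonoidHom.comap_bot, QuotientGroup.ker_mk']
  have hPM : pCore p X ≤ M := by
    rw [hMdef]
    exact hker.symm.le.trans (Subgroup.comap_mono bot_le)
  have hsurj : Function.Surjective (QuotientGroup.mk' (pCore p X)) :=
    QuotientGroup.mk'_surjective _
  have hidx : ((pCore p X).relIndex M).Coprime p := by
    have h1 : (pCore p X).relIndex M = Nat.card (pPrimeCore p (X ⧸ pCore p X)) := by
      conv_lhs => rw [← hker]
      rw [Subgroup.relIndex_comap, Subgroup.relIndex_bot_left, hMdef,
        Subgroup.map_comap_eq_self_of_surjective hsurj]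
    rw [h1]
    exact Cfsg.Agent.Lib.Helper2.pPrimeCore_card_coprime p
  have hMa : ∀ a : MulAut X, ∀ x ∈ M, a x ∈ M := by
    intro a x hx
    rw [hMdef] at hx ⊢
    exact pPPrime_aut p a x hx
  rcases core hp2 (pCore p X) M hP hPM hidx hCP (char_aut hPchar) hMa htrans hne with h | h
  · -- `O_{p'}(X/P) = 1`, so `X/P = 1`
    have hO : pPrimeCore p (X ⧸ pCore p X) = ⊥ := by
      apply Subgroup.comap_injective hsurj
      rw [hker, ← hMdef, h]
    have hsolQ : IsPSolvable p (X ⧸ pCore p X) :=
      Cfsg.Agent.Lib.Helper1.isPSolvable_of_surjective p _ hsurj hsol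
    have hOp : pCore p (X ⧸ pCore p X) = ⊥ := Cfsg.Agent.Lib.Helper2.pCore_quotient_pCore_eq_bot p
    have hall : ∀ γ : X ⧸ pCore p X, γ = 1 := by
      intro γ
      have := Cfsg.Agent.S4218.HH p hsolQ hO γ (by
        intro y hy
        rw [hOp, Subgroup.mem_bot] at hy
        rw [hy, mul_one, mul_inv_cancel, inv_one, mul_one]
        exact Subgroup.one_mem _)
      rwa [hOp, Subgroup.mem_bot] at this
    have hsub : Subsingleton (X ⧸ pCore p X) := ⟨fun a b => by rw [hall a, hall b]⟩
    have h1 : (pCore p X).index = 1 := by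
      rw [Subgroup.index_eq_card]
      exact Nat.card_unique
    rw [h1]
    exact Nat.coprime_one_left p
  · exact h

end Cfsg.Agent.Lib.Helper9.GY
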