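import Mathlib
import Cfsg.Prelude
import Cfsg.Agent.Lib.Helper9.GY4
import Cfsg.Agent.Lib.Helper1.PLengthOne

set_option autoImplicit false
set_option linter.unusedSectionVars false
set_option linter.unusedVariables false
set_option linter.style.longLine false
set_option linter.unusedSimpArgs false
open Cfsg

set_option maxHeartbeats 1600000
namespace Cfsg.Agent.Lib.Helper9.GY

open Pointwise

universe u

variable {G : Type u} [Group G]

/-- Lifting a subgroup of order `p` through a quotient by a normal `p'`-subgroup. -/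
theorem lift_order_p [Finite G] {p : ℕ} [hp : Fact p.Prime] (K : Subgroup G) [K.Normal]
    (hKc : (Nat.card K).Coprime p) (Ub : Subgroup (G ⧸ K)) (hUb : Nat.card Ub = p) :
    ∃ U : Subgroup G, Nat.card U = p ∧ U.map (QuotientGroup.mk' K) = Ub := by
  have hne : Ub ≠ ⊥ := by
    rw [← Subgroup.one_lt_card_iff_ne_bot, hUb]
    exact hp.out.one_lt
  obtain ⟨⟨ub, hub⟩, hub1'⟩ := Subgroup.ne_bot_iff_exists_ne_one.mp hne
  have hub1 : ub ≠ 1 := fun h => hub1' (Subtype.ext h)
  have hubp : ub ^ p = 1 := by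
    have h1 : (⟨ub, hub⟩ : ↥Ub) ^ Nat.card Ub = 1 := pow_card_eq_one'
    rw [hUb] at h1
    have := congrArg (fun t : ↥Ub => (t : G ⧸ K)) h1
    simpa using this
  have hubo : orderOf ub = p := orderOf_eq_prime hubp hub1
  obtain ⟨u, rfl⟩ := QuotientGroup.mk'_surjective K ub
  obtain ⟨n, hn⟩ : ∃ n, n = Nat.card K := ⟨_, rfl⟩
  have hupK : u ^ p ∈ K := by
    rw [← QuotientGroup.eq_one_iff, QuotientGroup.mk_pow]
    exact hubp
  have hu'p : (u ^ n) ^ p = 1 := by
    rw [← pow_mul, mul_comm, pow_mul]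
    have h1 : (⟨u ^ p, hupK⟩ : ↥K) ^ Nat.card K = 1 := pow_card_eq_one'
    rw [← hn] at h1
    have := congrArg (fun t : ↥K => (t : G)) h1
    simpa using this
  have himg1 : (QuotientGroup.mk' K) (u ^ n) ≠ 1 := by
    rw [map_pow]
    intro h
    have := orderOf_dvd_of_pow_eq_one h
    rw [hubo, hn] at this
    exact (Nat.Prime.coprime_iff_not_dvd hp.out).mp hKc.symm this
  have hu'1 : u ^ n ≠ 1 := by
    intro h
    apply himg1
    rw [h, map_one]
  have hu'o : orderOf (u ^ n) = p := orderOf_eq_prime hu'p hu'1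
  refine ⟨Subgroup.zpowers (u ^ n), by rw [Nat.card_zpowers, hu'o], ?_⟩
  rw [MonoidHom.map_zpowers]
  apply Subgroup.eq_of_le_of_card_ge
  · rw [Subgroup.zpowers_le, map_pow]
    exact Ub.pow_mem hub n
  · rw [hUb, Nat.card_zpowers]
    have h2 : ((QuotientGroup.mk' K) (u ^ n)) ^ p = 1 := by
      rw [← map_pow, hu'p, map_one]
    rw [orderOf_eq_prime h2 himg1]

/-- Transitivity of the automorphism group on subgroups of order `p` passes to the quotient by a
characteristic `p'`-subgroup. -/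
theorem trans_quot [Finite G] {p : ℕ} [hp : Fact p.Prime] (K : Subgroup G) [K.Normal]
    (hKc : (Nat.card K).Coprime p) (hKa : ∀ a : MulAut G, K.map a.toMonoidHom = K)
    (htrans : ∀ U V : Subgroup G, Nat.card U = p → Nat.card V = p →
      ∃ a : MulAut G, U.map a.toMonoidHom = V) :
    ∀ U V : Subgroup (G ⧸ K), Nat.card U = p → Nat.card V = p →
      ∃ a : MulAut (G ⧸ K), U.map a.toMonoidHom = V := by
  intro Ub Vb hUb hVb
  obtain ⟨U, hU, rfl⟩ := lift_order_p K hKc Ub hUb
  obtain ⟨V, hV, rfl⟩ := lift_order_p K hKc Vb hVb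
  obtain ⟨a, ha⟩ := htrans U V hU hV
  have hmap' : K.map (a : G →* G) = K := hKa a
  let e : G ⧸ K ≃* G ⧸ K := QuotientGroup.congr K K a hmap'
  refine ⟨e, ?_⟩
  have hcomp : (e.toMonoidHom).comp (QuotientGroup.mk' K) =
      (QuotientGroup.mk' K).comp a.toMonoidHom := by
    apply MonoidHom.ext
    intro x
    change e (QuotientGroup.mk x) = QuotientGroup.mk (a x)
    exact QuotientGroup.congr_mk _ _ _ _ _
  rw [← ha, Subgroup.map_map, Subgroup.map_map, hcomp]

/-- The Gaschütz–Yen theorem. -/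
theorem gaschutz_yen [Finite G] {p : ℕ} [hp : Fact p.Prime] (hp2 : p ≠ 2)
    (hG : Cfsg.IsPSolvable p G)
    (htrans : ∀ U V : Subgroup G, Nat.card U = p → Nat.card V = p →
      ∃ a : MulAut G, U.map a.toMonoidHom = V) : Cfsg.PLengthLE p 1 G := by
  apply Cfsg.Agent.Lib.Helper3.pLengthLE_one_of_index_coprime
  have hKc : (Nat.card (pPrimeCore p G)).Coprime p :=
    Cfsg.Agent.Lib.Helper2.pPrimeCore_card_coprime p
  have hKchar : (pPrimeCore p G).Characteristic :=
    Cfsg.Agent.Lib.Helper2.pPrimeCore_characteristic p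
  have hsurj : Function.Surjective (QuotientGroup.mk' (pPrimeCore p G)) :=
    QuotientGroup.mk'_surjective _
  have hsolQ : IsPSolvable p (G ⧸ pPrimeCore p G) :=
    Cfsg.Agent.Lib.Helper1.isPSolvable_of_surjective p _ hsurj hG
  have hbot : pPrimeCore p (G ⧸ pPrimeCore p G) = ⊥ :=
    Cfsg.Agent.Lib.Helper1.pPrimeCore_quotient_eq_bot p
  have htq := trans_quot (pPrimeCore p G) hKc
    (fun a => Subgroup.characteristic_iff_map_eq.mp hKchar a) htrans
  have h := coreX hp2 hsolQ hbot htq
  have h1 : (pPrimePCore p G).index = (pCore p (G ⧸ pPrimeCore p G)).index := by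
    rw [pPrimePCore]
    exact Subgroup.index_comap_of_surjective _ hsurj
  rw [h1]
  exact h

end Cfsg.Agent.Lib.Helper9.GY
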