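import Mathlib
import Cfsg.Prelude.Def_CaseTheorems

set_option autoImplicit false

namespace Cfsg.Agent.Lib.Helper9.HDCaseA

open scoped Classical in
/-- (e) In a nonabelian group with a cyclic subgroup `C` of index 2, the centre lies in `C`. -/
theorem center_le_of_cyclic_index_two {D : Type*} [Group D] (C : Subgroup D) [IsCyclic ↥C]
    (hC : C.index = 2) (hna : ∃ a b : D, a * b ≠ b * a) : Subgroup.center D ≤ C := by
  intro z hz
  by_contra hzC
  obtain ⟨a, b, hab⟩ := hna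
  apply hab
  have hzc : ∀ d : D, d * z = z * d := fun d => (Subgroup.mem_center_iff.mp hz d)
  have hCcomm : ∀ c ∈ C, ∀ c' ∈ C, c * c' = c' * c := by
    intro c hc c' hc'
    letI := IsCyclic.commGroup (α := ↥C)
    have := mul_comm (⟨c, hc⟩ : ↥C) ⟨c', hc'⟩
    exact congrArg Subtype.val this
  have hdec : ∀ d : D, d ∈ C ∨ z⁻¹ * d ∈ C := by
    intro d
    by_cases hd : d ∈ C
    · exact Or.inl hd
    · right
      rw [Subgroup.mul_mem_iff_of_index_two hC]
      simp [hd, hzC]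
  have hzi : ∀ d : D, d * z⁻¹ = z⁻¹ * d := by
    intro d
    have := hzc d
    calc d * z⁻¹ = z⁻¹ * (z * d) * z⁻¹ := by group
      _ = z⁻¹ * (d * z) * z⁻¹ := by rw [hzc d]
      _ = z⁻¹ * d := by group
  rcases hdec a with ha | ha <;> rcases hdec b with hb | hb
  · exact hCcomm a ha b hb
  · -- b = z * (z⁻¹ b)
    have h := hCcomm a ha _ hb
    calc a * b = z * (a * (z⁻¹ * b)) := by
          rw [← mul_assoc a, hzi a]; group
      _ = z * ((z⁻¹ * b) * a) := by rw [h]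
      _ = b * a := by group
  · have h := hCcomm _ ha b hb
    calc a * b = z * ((z⁻¹ * a) * b) := by group
      _ = z * (b * (z⁻¹ * a)) := by rw [h]
      _ = b * a := by rw [← mul_assoc b, hzi b]; group
  · have h := hCcomm _ ha _ hb
    have e1 : a * b = z * z * ((z⁻¹ * a) * (z⁻¹ * b)) := by
      have : (z⁻¹ * a) * (z⁻¹ * b) = z⁻¹ * z⁻¹ * (a * b) := by
        rw [mul_assoc z⁻¹ a, ← mul_assoc a z⁻¹, hzi a]; group
      rw [this]; group
    have e2 : b * a = z * z * ((z⁻¹ * b) * (z⁻¹ * a)) := by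
      have : (z⁻¹ * b) * (z⁻¹ * a) = z⁻¹ * z⁻¹ * (b * a) := by
        rw [mul_assoc z⁻¹ b, ← mul_assoc b z⁻¹, hzi b]; group
      rw [this]; group
    rw [e1, e2, h]

/-- (f) A subgroup of exponent 2 inside a cyclic subgroup has at most two elements. -/
theorem card_le_two_of_le_cyclic {D : Type*} [Group D] [Finite D] (C : Subgroup D)
    [IsCyclic ↥C] (E : Subgroup D) (hEC : E ≤ C) (hexp : ∀ e ∈ E, e ^ 2 = 1) :
    Nat.card ↥E ≤ 2 := by
  classical
  haveI : Fintype ↥C := Fintype.ofFinite _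
  have h := IsCyclic.card_pow_eq_one_le (α := ↥C) (n := 2) (by norm_num)
  -- inject E into the filter
  have hinj : Function.Injective (fun e : ↥E => (⟨e.1, hEC e.2⟩ : ↥C)) := by
    intro e e' hee
    apply Subtype.ext
    exact congrArg (fun c : ↥C => (c : D)) hee
  have hle : Nat.card ↥E ≤ (Finset.univ.filter (fun a : ↥C => a ^ 2 = 1)).card := by
    haveI : Fintype ↥E := Fintype.ofFinite _
    rw [Nat.card_eq_fintype_card, ← Finset.card_univ]
    apply Finset.card_le_card_of_injOn (fun e : ↥E => (⟨e.1, hEC e.2⟩ : ↥C))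
    · intro e _
      simp only [Finset.coe_filter, Finset.mem_univ, true_and]
      show _ = _
      apply Subtype.ext
      simpa using hexp e.1 e.2
    · intro e _ e' _ hee
      exact hinj hee
  exact le_trans hle h

/-- The commutator map `z ↦ z⁻¹ * (g z g⁻¹)` on a commutative subgroup `Z` normalized by `g`. -/
noncomputable def commHom {G : Type*} [Group G] (Z : Subgroup G)
    (hcomm : ∀ a ∈ Z, ∀ b ∈ Z, a * b = b * a) (g : G)
    (hg : ∀ z ∈ Z, g * z * g⁻¹ ∈ Z) : ↥Z →* G where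
  toFun z := (z : G)⁻¹ * (g * z * g⁻¹)
  map_one' := by simp
  map_mul' a b := by
    have h1 : g * ((a : G) * b) * g⁻¹ = (g * a * g⁻¹) * (g * b * g⁻¹) := by group
    have h2 := hcomm _ (Z.inv_mem b.2) _ (hg a a.2)
    show ((a : G) * (b : G))⁻¹ * (g * ((a : G) * b) * g⁻¹) = _
    rw [h1, mul_inv_rev]
    calc (b : G)⁻¹ * (a : G)⁻¹ * (g * a * g⁻¹ * (g * b * g⁻¹))
        = (a : G)⁻¹ * (b : G)⁻¹ * (g * a * g⁻¹ * (g * b * g⁻¹)) := by
          rw [hcomm _ (Z.inv_mem b.2) _ (Z.inv_mem a.2)]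
      _ = (a : G)⁻¹ * ((b : G)⁻¹ * (g * a * g⁻¹)) * (g * b * g⁻¹) := by group
      _ = (a : G)⁻¹ * ((g * a * g⁻¹) * (b : G)⁻¹) * (g * b * g⁻¹) := by rw [h2]
      _ = (a : G)⁻¹ * (g * a * g⁻¹) * ((b : G)⁻¹ * (g * b * g⁻¹)) := by group

/-- (g) U3 core: if `g` normalizes the elementary abelian 2-subgroup `Z` and `g ^ 2` centralizes
it, then `|Z| ≤ |C_Z(g)|^2`. -/
theorem card_le_card_fixed_sq {G : Type*} [Group G] (Z : Subgroup G) [Finite ↥Z]
    (hcomm : ∀ a ∈ Z, ∀ b ∈ Z, a * b = b * a) (hexp : ∀ a ∈ Z, a ^ 2 = 1) (g : G)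
    (hg : ∀ z ∈ Z, g * z * g⁻¹ ∈ Z) (hg2 : ∀ z ∈ Z, g ^ 2 * z = z * g ^ 2) :
    Nat.card ↥Z ≤ (Nat.card ↥(Z ⊓ Subgroup.centralizer ({g} : Set G))) ^ 2 := by
  set φ := commHom Z hcomm g hg with hφ
  have hφapp : ∀ z : ↥Z, φ z = (z : G)⁻¹ * (g * z * g⁻¹) := fun z => rfl
  have hinv : ∀ a ∈ Z, a⁻¹ = a := by
    intro a ha
    have := hexp a ha
    rw [sq] at this
    exact inv_eq_of_mul_eq_one_right this
  -- range ≤ Z ⊓ C(g)
  have hrange : φ.range ≤ Z ⊓ Subgroup.centralizer ({g} : Set G) := by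
    rintro _ ⟨z, rfl⟩
    have hz := z.2
    have hgz := hg z hz
    rw [Subgroup.mem_inf]
    refine ⟨?_, ?_⟩
    · rw [hφapp]; exact Z.mul_mem (Z.inv_mem hz) hgz
    · rw [Subgroup.mem_centralizer_iff]
      intro h hh
      rw [Set.mem_singleton_iff] at hh
      subst hh
      rw [hφapp]
      -- h * (z⁻¹ * (h z h⁻¹)) = (z⁻¹ * (h z h⁻¹)) * h
      have e1 : h * ((z : G)⁻¹ * (h * z * h⁻¹)) * h⁻¹ =
          (h * z * h⁻¹)⁻¹ * (h ^ 2 * z * (h ^ 2)⁻¹) := by group
      have e2 : h ^ 2 * z * (h ^ 2)⁻¹ = z := by rw [hg2 z hz]; group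
      have e3 : h * ((z : G)⁻¹ * (h * z * h⁻¹)) * h⁻¹ = (z : G)⁻¹ * (h * z * h⁻¹) := by
        rw [e1, e2, hinv _ hgz, hinv _ hz]
        exact hcomm _ hgz _ hz
      calc h * ((z : G)⁻¹ * (h * z * h⁻¹))
          = (h * ((z : G)⁻¹ * (h * z * h⁻¹)) * h⁻¹) * h := by group
        _ = (z : G)⁻¹ * (h * z * h⁻¹) * h := by rw [e3]
  -- kernel = (Z ⊓ C(g)).subgroupOf Z
  have hker : φ.ker = (Z ⊓ Subgroup.centralizer ({g} : Set G)).subgroupOf Z := by
    ext z
    rw [MonoidHom.mem_ker, Subgroup.mem_subgroupOf, hφapp, Subgroup.mem_inf]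
    constructor
    · intro h
      refine ⟨z.2, ?_⟩
      rw [Subgroup.mem_centralizer_iff]
      intro k hk
      rw [Set.mem_singleton_iff] at hk
      subst hk
      have : k * z * k⁻¹ = z := by
        have := congrArg (fun w => (z : G) * w) h
        simpa [mul_assoc] using this
      calc k * (z : G) = (k * z * k⁻¹) * k := by group
        _ = z * k := by rw [this]
    · rintro ⟨_, h⟩
      rw [Subgroup.mem_centralizer_iff] at h
      have := h g (Set.mem_singleton g)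
      rw [this]; group
  have hcardker : Nat.card ↥φ.ker = Nat.card ↥(Z ⊓ Subgroup.centralizer ({g} : Set G)) := by
    rw [hker]
    exact Nat.card_congr (Subgroup.subgroupOfEquivOfLe inf_le_left).toEquiv
  have hmul : Nat.card ↥φ.ker * Nat.card ↥φ.range = Nat.card ↥Z := by
    rw [← Subgroup.index_ker φ]
    exact Subgroup.card_mul_index φ.ker
  haveI : Finite ↥(Z ⊓ Subgroup.centralizer ({g} : Set G)) :=
    Finite.of_injective (fun x : ↥(Z ⊓ Subgroup.centralizer ({g} : Set G)) =>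
      (⟨x.1, x.2.1⟩ : ↥Z)) (fun a b h => Subtype.ext (congrArg (fun w : ↥Z => (w : G)) h))
  have hrc : Nat.card ↥φ.range ≤ Nat.card ↥(Z ⊓ Subgroup.centralizer ({g} : Set G)) :=
    Subgroup.card_le_of_le hrange
  calc Nat.card ↥Z = Nat.card ↥φ.ker * Nat.card ↥φ.range := hmul.symm
    _ ≤ Nat.card ↥(Z ⊓ Subgroup.centralizer ({g} : Set G)) *
          Nat.card ↥(Z ⊓ Subgroup.centralizer ({g} : Set G)) := by
        rw [hcardker]; exact Nat.mul_le_mul_left _ hrc
    _ = _ := (sq _).symm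

/-- Two subgroups of `Z` meeting trivially: `|F| * |B| ≤ |Z|`. -/
theorem card_mul_card_le_of_inf_eq_bot {G : Type*} [Group G] (Z F B : Subgroup G) [Finite ↥Z]
    (hF : F ≤ Z) (hB : B ≤ Z) (hFB : F ⊓ B = ⊥) :
    Nat.card ↥F * Nat.card ↥B ≤ Nat.card ↥Z := by
  rw [← Nat.card_prod]
  apply Nat.card_le_card_of_injective
    (fun x : ↥F × ↥B => (⟨(x.1 : G) * x.2, Z.mul_mem (hF x.1.2) (hB x.2.2)⟩ : ↥Z))
  rintro ⟨f, b⟩ ⟨f', b'⟩ h
  have h' : (f : G) * b = f' * b' := congrArg (fun w : ↥Z => (w : G)) h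
  have hx : (f' : G)⁻¹ * f = b' * (b : G)⁻¹ := by
    calc (f' : G)⁻¹ * f = (f' : G)⁻¹ * (f * b) * (b : G)⁻¹ := by group
      _ = (f' : G)⁻¹ * (f' * b') * (b : G)⁻¹ := by rw [h']
      _ = b' * (b : G)⁻¹ := by group
  have hmem : (f' : G)⁻¹ * f ∈ F ⊓ B := by
    rw [Subgroup.mem_inf]
    refine ⟨F.mul_mem (F.inv_mem f'.2) f.2, ?_⟩
    rw [hx]; exact B.mul_mem b'.2 (B.inv_mem b.2)
  rw [hFB, Subgroup.mem_bot] at hmem
  have hff : (f : G) = f' := by
    calc (f : G) = f' * ((f' : G)⁻¹ * f) := by group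
      _ = f' := by rw [hmem, mul_one]
  have hbb : (b : G) = b' := by
    have := h'
    rw [hff] at this
    exact mul_left_cancel this
  exact Prod.ext (Subtype.ext hff) (Subtype.ext hbb)

/-- (g') U3 corollary: with a four-subgroup `B ≤ Z` and `|Z| ≤ 8`, the element `g` centralizes
a non-identity element of `B`. -/
theorem exists_fixed_in_four {G : Type*} [Group G] (Z : Subgroup G) [Finite ↥Z]
    (hcomm : ∀ a ∈ Z, ∀ b ∈ Z, a * b = b * a) (hexp : ∀ a ∈ Z, a ^ 2 = 1) (g : G)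
    (hg : ∀ z ∈ Z, g * z * g⁻¹ ∈ Z) (hg2 : ∀ z ∈ Z, g ^ 2 * z = z * g ^ 2)
    (B : Subgroup G) (hBZ : B ≤ Z) (hB4 : Nat.card ↥B = 4) (hZ8 : Nat.card ↥Z ≤ 8) :
    ∃ b ∈ B, b ≠ 1 ∧ g * b = b * g := by
  have hsq := card_le_card_fixed_sq Z hcomm hexp g hg hg2
  set F := Z ⊓ Subgroup.centralizer ({g} : Set G) with hF
  have hB4Z : 4 ≤ Nat.card ↥Z := by
    rw [← hB4]; exact Subgroup.card_le_of_le hBZ
  by_cases hFB : F ⊓ B = ⊥
  · exfalso
    have h1 := card_mul_card_le_of_inf_eq_bot Z F B inf_le_left hBZ hFB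
    rw [hB4] at h1
    have h2 : Nat.card ↥F ≤ 2 := by omega
    have h3 : Nat.card ↥F ^ 2 ≤ 4 := by
      calc Nat.card ↥F ^ 2 ≤ 2 ^ 2 := Nat.pow_le_pow_left h2 2
        _ = 4 := by norm_num
    have h4 : Nat.card ↥Z ≤ 4 := le_trans hsq h3
    have h5 : Nat.card ↥F ≤ 1 := by omega
    have h6 : Nat.card ↥F ^ 2 ≤ 1 := by
      calc Nat.card ↥F ^ 2 ≤ 1 ^ 2 := Nat.pow_le_pow_left h5 2
        _ = 1 := by norm_num
    omega
  · obtain ⟨⟨x, hx⟩, hx1⟩ := (Subgroup.ne_bot_iff_exists_ne_one).mp hFB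
    rw [Subgroup.mem_inf] at hx
    refine ⟨x, hx.2, ?_, ?_⟩
    · intro h; apply hx1; exact Subtype.ext h
    · have hxF := hx.1
      rw [hF, Subgroup.mem_inf, Subgroup.mem_centralizer_iff] at hxF
      exact hxF.2 g (Set.mem_singleton g)

/-- (h1) A quasi-dihedral group is nonabelian with a cyclic subgroup of index 2. -/
theorem quasiDihedral_cyclic_index_two {D : Type*} [Group D] [Finite D]
    (h : Cfsg.IsQuasiDihedral D) :
    ∃ C : Subgroup D, IsCyclic ↥C ∧ C.index = 2 ∧ ∃ a b : D, a * b ≠ b * a := by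
  obtain ⟨n, hn, hcard, x, y, hx, hy, hrel⟩ := h
  refine ⟨Subgroup.zpowers x, inferInstance, ?_, y, x, ?_⟩
  · have h1 := Subgroup.card_mul_index (Subgroup.zpowers x)
    rw [Nat.card_zpowers, hx, hcard, pow_succ] at h1
    exact Nat.eq_of_mul_eq_mul_left (by positivity) h1
  · intro hyx
    have h1 : y * x * y⁻¹ = x := by rw [hyx]; group
    rw [h1] at hrel
    have h4 : 4 ≤ 2 ^ (n - 1) := by
      calc 4 = 2 ^ 2 := by norm_num
        _ ≤ 2 ^ (n - 1) := Nat.pow_le_pow_right (by norm_num) (by omega)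
    have hk : 2 ^ (n - 1) - 1 = (2 ^ (n - 1) - 2) + 1 := by omega
    rw [hk, pow_succ] at hrel
    have h2 : x ^ (2 ^ (n - 1) - 2) = 1 := by
      have := congrArg (fun w => w * x⁻¹) hrel
      simpa using this.symm
    have h3 : orderOf x ∣ 2 ^ (n - 1) - 2 := orderOf_dvd_of_pow_eq_one h2
    rw [hx] at h3
    have h5 : 2 ^ n ≤ 2 ^ (n - 1) - 2 := Nat.le_of_dvd (by omega) h3
    have h6 : 2 ^ (n - 1) ≤ 2 ^ n := Nat.pow_le_pow_right (by norm_num) (by omega)
    omega

/-- (h2) The dihedral group of order `2m`, `m ≥ 3`, is nonabelian with a cyclic subgroup of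
index 2. -/
theorem dihedral_cyclic_index_two (m : ℕ) (hm : 3 ≤ m) :
    ∃ C : Subgroup (DihedralGroup m), IsCyclic ↥C ∧ C.index = 2 ∧
      ∃ a b : DihedralGroup m, a * b ≠ b * a := by
  haveI : NeZero m := ⟨by omega⟩
  refine ⟨Subgroup.zpowers (DihedralGroup.r 1), inferInstance, ?_,
    DihedralGroup.r 1, DihedralGroup.sr 0, ?_⟩
  · have h1 := Subgroup.card_mul_index (Subgroup.zpowers (DihedralGroup.r (1 : ZMod m)))
    rw [Nat.card_zpowers, DihedralGroup.orderOf_r_one, DihedralGroup.nat_card, mul_comm 2 m] at h1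
    exact Nat.eq_of_mul_eq_mul_left (by omega) h1
  · rw [DihedralGroup.r_mul_sr, DihedralGroup.sr_mul_r]
    intro h
    have h1 : (0 : ZMod m) - 1 = 0 + 1 := DihedralGroup.sr.inj h
    have h2 : ((2 : ℕ) : ZMod m) = 0 := by
      have : (1 : ZMod m) + 1 = 0 := by
        have := h1
        rw [zero_sub, zero_add] at this
        calc (1 : ZMod m) + 1 = -1 + 1 := by rw [this]
          _ = 0 := by ring
      push_cast
      rw [← this]; ring
    rw [ZMod.natCast_eq_zero_iff] at h2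
    have := Nat.le_of_dvd (by norm_num) h2
    omega

/-- Transport of "nonabelian with cyclic subgroup of index 2" along an isomorphism. -/
theorem cyclic_index_two_of_equiv {D D' : Type*} [Group D] [Group D'] (e : D ≃* D')
    (h : ∃ C : Subgroup D', IsCyclic ↥C ∧ C.index = 2 ∧ ∃ a b : D', a * b ≠ b * a) :
    ∃ C : Subgroup D, IsCyclic ↥C ∧ C.index = 2 ∧ ∃ a b : D, a * b ≠ b * a := by
  obtain ⟨C, hcyc, hidx, a, b, hab⟩ := h
  refine ⟨C.comap e.toMonoidHom, ?_, ?_, e.symm a, e.symm b, ?_⟩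
  · have hinj : Function.Injective (fun x : ↥(C.comap e.toMonoidHom) => (⟨e x.1, x.2⟩ : ↥C)) := by
      intro x y hxy
      apply Subtype.ext
      exact e.injective (congrArg (fun w : ↥C => (w : D')) hxy)
    let f' : ↥(C.comap e.toMonoidHom) →* ↥C :=
      { toFun := fun x => ⟨e x.1, x.2⟩
        map_one' := by ext; simp
        map_mul' := fun x y => by
          apply Subtype.ext
          show e ((x * y : ↥(C.comap e.toMonoidHom)) : D) = e x.1 * e y.1
          rw [Subgroup.coe_mul, map_mul] }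
    exact isCyclic_of_injective f' hinj
  · rw [Subgroup.index_comap_of_surjective C (f := e.toMonoidHom) e.surjective]
    exact hidx
  · intro h
    apply hab
    have := congrArg e h
    simpa using this

/-- (h3) A finite 2-group isomorphic to `DihedralGroup m` has `m` a power of 2. -/
theorem dihedral_two_group_pow {D : Type*} [Group D] [Finite D] (hD : IsPGroup 2 D) (m : ℕ)
    (e : D ≃* DihedralGroup m) : ∃ j : ℕ, m = 2 ^ j := by
  obtain ⟨k, hk⟩ := hD.exists_card_eq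
  have hc : Nat.card D = 2 * m := by
    rw [Nat.card_congr e.toEquiv, DihedralGroup.nat_card]
  rw [hc] at hk
  cases k with
  | zero => omega
  | succ k =>
    refine ⟨k, ?_⟩
    rw [pow_succ] at hk
    omega

end Cfsg.Agent.Lib.Helper9.HDCaseA
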