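import Mathlib
import Cfsg.Prelude.Def_CaseTheorems
import Cfsg.Prelude.Def_TwoFusion
import Cfsg.Agent.Lib.Helper9.HDCaseA

set_option autoImplicit false

namespace Cfsg.Agent.Lib.Helper9.HD

open Cfsg.Agent.Lib.Helper9.HDCaseA

/-- Elements of the join of two elementwise commuting subgroups are products. -/
theorem mem_sup_of_commute {X : Type*} [Group X] (D B : Subgroup X)
    (hcomm : ∀ a ∈ D, ∀ b ∈ B, a * b = b * a) (s : X) (hs : s ∈ D ⊔ B) :
    ∃ d ∈ D, ∃ b ∈ B, s = d * b := by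
  let Q : Subgroup X :=
    { carrier := {x | ∃ d ∈ D, ∃ b ∈ B, x = d * b}
      one_mem' := ⟨1, D.one_mem, 1, B.one_mem, by simp⟩
      mul_mem' := by
        rintro _ _ ⟨p, hp, k, hk, rfl⟩ ⟨p', hp', k', hk', rfl⟩
        refine ⟨p * p', D.mul_mem hp hp', k * k', B.mul_mem hk hk', ?_⟩
        calc p * k * (p' * k') = p * (k * p') * k' := by group
          _ = p * (p' * k) * k' := by rw [(hcomm p' hp' k hk).symm]
          _ = p * p' * (k * k') := by group
      inv_mem' := by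
        rintro _ ⟨p, hp, k, hk, rfl⟩
        refine ⟨p⁻¹, D.inv_mem hp, k⁻¹, B.inv_mem hk, ?_⟩
        rw [mul_inv_rev]
        exact (hcomm p⁻¹ (D.inv_mem hp) k⁻¹ (B.inv_mem hk)).symm }
  have hle : D ⊔ B ≤ Q := by
    refine sup_le ?_ ?_
    · intro p hp
      exact ⟨p, hp, 1, B.one_mem, by simp⟩
    · intro k hk
      exact ⟨1, D.one_mem, k, hk, by simp⟩
  exact hle hs

/-- U3a (case A): `D` nonabelian with a cyclic subgroup of index 2: the subgroup
`Z = Ω₁(Z(T))` has order at most 8, contains `B`, is central in `T` of exponent 2 and is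
invariant under `N_P(T)`. -/
theorem U3a_omega {P : Type*} [Group P] [Finite P]
    (T D B C : Subgroup P) (hprod : Cfsg.IsInternalDirectProduct D B T)
    (hB4 : Nat.card B = 4) (hBexp : ∀ b ∈ B, b * b = 1)
    (hCD : C ≤ D) (hC : IsCyclic C) (hidx : C.relIndex D = 2)
    (hnab : ∃ d ∈ D, ∃ d' ∈ D, d * d' ≠ d' * d) :
    ∃ Z : Subgroup P, B ≤ Z ∧ Z ≤ T ∧ (∀ z ∈ Z, z * z = 1) ∧ (∀ z ∈ Z, ∀ t ∈ T, z * t = t * z) ∧
      Nat.card Z ≤ 8 ∧ ∀ g ∈ Subgroup.normalizer (T : Set P), ∀ z ∈ Z, g * z * g⁻¹ ∈ Z := by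
  obtain ⟨hDT, hBT, hDB, hinf, hsup⟩ := hprod
  have hinvsq : ∀ z : P, z * z = 1 → z⁻¹ = z := fun z hz => inv_eq_of_mul_eq_one_right hz
  -- the subgroup Ω₁(Z(T))
  let Z : Subgroup P :=
    { carrier := {z | z ∈ T ∧ z * z = 1 ∧ ∀ t ∈ T, z * t = t * z}
      one_mem' := ⟨T.one_mem, by simp, by simp⟩
      mul_mem' := by
        rintro z z' ⟨hz, hz2, hzc⟩ ⟨hz', hz2', hzc'⟩
        refine ⟨T.mul_mem hz hz', ?_, ?_⟩
        · calc z * z' * (z * z') = z * (z' * z) * z' := by group
            _ = z * (z * z') * z' := by rw [hzc' z hz]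
            _ = (z * z) * (z' * z') := by group
            _ = 1 := by rw [hz2, hz2', one_mul]
        · intro t ht
          calc z * z' * t = z * (z' * t) := by group
            _ = z * (t * z') := by rw [hzc' t ht]
            _ = (z * t) * z' := by group
            _ = (t * z) * z' := by rw [hzc t ht]
            _ = t * (z * z') := by group
      inv_mem' := by
        rintro z ⟨hz, hz2, hzc⟩
        rw [hinvsq z hz2]
        exact ⟨hz, hz2, hzc⟩ }
  have hZmem : ∀ z : P, z ∈ Z ↔ (z ∈ T ∧ z * z = 1 ∧ ∀ t ∈ T, z * t = t * z) := fun z => Iff.rfl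
  -- B is commutative
  have hBcomm : ∀ b ∈ B, ∀ b' ∈ B, b * b' = b' * b := by
    intro b hb b' hb'
    have h1 := hBexp (b * b') (B.mul_mem hb hb')
    have h2 : b * b' = (b * b')⁻¹ := (hinvsq _ h1).symm
    rw [mul_inv_rev, hinvsq b (hBexp b hb), hinvsq b' (hBexp b' hb')] at h2
    exact h2
  -- B is central in T
  have hBcent : ∀ b ∈ B, ∀ t ∈ T, b * t = t * b := by
    intro b hb t ht
    rw [← hsup] at ht
    obtain ⟨d, hd, b', hb', rfl⟩ := mem_sup_of_commute D B hDB t ht
    calc b * (d * b') = (b * d) * b' := by group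
      _ = (d * b) * b' := by rw [hDB d hd b hb]
      _ = d * (b * b') := by group
      _ = d * (b' * b) := by rw [hBcomm b hb b' hb']
      _ = d * b' * b := by group
  refine ⟨Z, ?_, ?_, ?_, ?_, ?_, ?_⟩
  · intro b hb
    exact ⟨hBT hb, hBexp b hb, hBcent b hb⟩
  · intro z hz
    exact hz.1
  · intro z hz
    exact hz.2.1
  · intro z hz
    exact hz.2.2
  · -- the card bound
    -- E = Ω₁ of the part of Z inside D
    let E : Subgroup P :=
      { carrier := {z | z ∈ D ∧ z * z = 1 ∧ ∀ t ∈ T, z * t = t * z}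
        one_mem' := ⟨D.one_mem, by simp, by simp⟩
        mul_mem' := by
          rintro z z' ⟨hz, hz2, hzc⟩ ⟨hz', hz2', hzc'⟩
          have hm := Z.mul_mem (show z ∈ Z from ⟨hDT hz, hz2, hzc⟩)
            (show z' ∈ Z from ⟨hDT hz', hz2', hzc'⟩)
          exact ⟨D.mul_mem hz hz', hm.2.1, hm.2.2⟩
        inv_mem' := by
          rintro z ⟨hz, hz2, hzc⟩
          rw [hinvsq z hz2]
          exact ⟨hz, hz2, hzc⟩ }
    -- E ≤ C via the centre of ↥D
    have hEC : E ≤ C := by
      intro d hd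
      obtain ⟨hdD, hd2, hdc⟩ := hd
      haveI : IsCyclic ↥(C.subgroupOf D) :=
        isCyclic_of_surjective (Subgroup.subgroupOfEquivOfLe hCD).symm
          (Subgroup.subgroupOfEquivOfLe hCD).symm.surjective
      have hidx' : (C.subgroupOf D).index = 2 := hidx
      have hna : ∃ a b : ↥D, a * b ≠ b * a := by
        obtain ⟨a, ha, b, hb, hab⟩ := hnab
        refine ⟨⟨a, ha⟩, ⟨b, hb⟩, ?_⟩
        intro h
        exact hab (congrArg Subtype.val h)
      have hcen := center_le_of_cyclic_index_two (C.subgroupOf D) hidx' hna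
      have hdcen : (⟨d, hdD⟩ : ↥D) ∈ Subgroup.center ↥D := by
        rw [Subgroup.mem_center_iff]
        intro y
        apply Subtype.ext
        show (y : P) * d = d * y
        exact (hdc y (hDT y.2)).symm
      have := hcen hdcen
      rw [Subgroup.mem_subgroupOf] at this
      exact this
    haveI : IsCyclic ↥C := hC
    have hE2 : Nat.card ↥E ≤ 2 := by
      apply card_le_two_of_le_cyclic C E hEC
      intro e he
      rw [sq]; exact he.2.1
    -- injection Z → E × B
    have hdec : ∀ z : ↥Z, ∃ x : ↥E × ↥B, (z : P) = (x.1 : P) * (x.2 : P) := by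
      intro z
      obtain ⟨hzT, hz2, hzc⟩ := z.2
      have hzT' : (z : P) ∈ D ⊔ B := by rw [hsup]; exact hzT
      obtain ⟨d, hd, b, hb, hzdb⟩ := mem_sup_of_commute D B hDB z hzT'
      have hbZ : b ∈ Z := ⟨hBT hb, hBexp b hb, hBcent b hb⟩
      have hdz : d = (z : P) * b := by
        rw [hzdb, mul_assoc, hBexp b hb, mul_one]
      have hdZ : d ∈ Z := by rw [hdz]; exact Z.mul_mem z.2 hbZ
      exact ⟨(⟨d, ⟨hd, hdZ.2.1, hdZ.2.2⟩⟩, ⟨b, hb⟩), hzdb⟩
    choose f hf using hdec
    have hinj : Function.Injective f := by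
      intro z z' h
      apply Subtype.ext
      rw [hf z, hf z', h]
    have h1 : Nat.card ↥Z ≤ Nat.card (↥E × ↥B) := Nat.card_le_card_of_injective f hinj
    rw [Nat.card_prod, hB4] at h1
    calc Nat.card ↥Z ≤ Nat.card ↥E * 4 := h1
      _ ≤ 2 * 4 := Nat.mul_le_mul_right 4 hE2
      _ = 8 := by norm_num
  · intro g hg z hz
    obtain ⟨hzT, hz2, hzc⟩ := hz
    rw [Subgroup.mem_normalizer_iff] at hg
    refine ⟨(hg z).mp hzT, ?_, ?_⟩
    · calc g * z * g⁻¹ * (g * z * g⁻¹) = g * (z * z) * g⁻¹ := by group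
        _ = 1 := by rw [hz2]; group
    · intro t ht
      have ht' : g⁻¹ * t * g ∈ T := by
        rw [hg (g⁻¹ * t * g)]
        have : g * (g⁻¹ * t * g) * g⁻¹ = t := by group
        rw [this]; exact ht
      have h := hzc _ ht'
      calc g * z * g⁻¹ * t = g * (z * (g⁻¹ * t * g)) * g⁻¹ := by group
        _ = g * ((g⁻¹ * t * g) * z) * g⁻¹ := by rw [h]
        _ = t * (g * z * g⁻¹) := by group

end Cfsg.Agent.Lib.Helper9.HD
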