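import Mathlib
import Cfsg.Prelude.Def_CaseTheorems
import Cfsg.Agent.Lib.Helper9.HDCaseA

set_option autoImplicit false

namespace Cfsg.Agent.Lib.Helper9.HD

open Cfsg.Agent.Lib.Helper9.HDCaseA

/-- Push a "nonabelian with cyclic subgroup of index 2" statement from the subgroup type `↥D`
to subgroups of the ambient group. -/
theorem cyclic_relIndex_two_of_subtype {G : Type*} [Group G] (D : Subgroup G)
    (h : ∃ C : Subgroup ↥D, IsCyclic ↥C ∧ C.index = 2 ∧ ∃ a b : ↥D, a * b ≠ b * a) :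
    ∃ C : Subgroup G, C ≤ D ∧ IsCyclic C ∧ C.relIndex D = 2 ∧
      ∃ d ∈ D, ∃ d' ∈ D, d * d' ≠ d' * d := by
  obtain ⟨C₀, hcyc, hidx, a, b, hab⟩ := h
  refine ⟨C₀.map D.subtype, ?_, ?_, ?_, a.1, a.2, b.1, b.2, ?_⟩
  · rintro _ ⟨c, _, rfl⟩
    exact c.2
  · have e : ↥C₀ ≃* ↥(C₀.map D.subtype) :=
      C₀.equivMapOfInjective D.subtype D.subtype_injective
    exact isCyclic_of_surjective e e.surjective
  · unfold Subgroup.relIndex Subgroup.subgroupOf
    rw [Subgroup.comap_map_eq_self_of_injective D.subtype_injective]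
    exact hidx
  · intro h
    apply hab
    exact Subtype.ext h

/-- U8a: dihedral `D`: four-group, or nonabelian with a cyclic subgroup of index 2. -/
theorem U8a_dihedral {G : Type*} [Group G] (D : Subgroup G) (m : ℕ) (hm : 2 ≤ m)
    (e : ↥D ≃* DihedralGroup m) :
    (Nat.card D = 4 ∧ ∀ d ∈ D, d * d = 1) ∨
      ∃ C : Subgroup G, C ≤ D ∧ IsCyclic C ∧ C.relIndex D = 2 ∧
        ∃ d ∈ D, ∃ d' ∈ D, d * d' ≠ d' * d := by
  rcases Nat.eq_or_lt_of_le hm with h2 | h3
  · left
    subst h2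
    refine ⟨?_, ?_⟩
    · rw [Nat.card_congr e.toEquiv, DihedralGroup.nat_card]
    · intro d hd
      have hall : ∀ x : DihedralGroup 2, x * x = 1 := by decide
      have h1 := hall (e ⟨d, hd⟩)
      rw [← map_mul] at h1
      have h2 : (⟨d, hd⟩ : ↥D) * ⟨d, hd⟩ = 1 := by
        apply e.injective
        rw [h1, map_one]
      exact congrArg Subtype.val h2
  · right
    apply cyclic_relIndex_two_of_subtype
    exact cyclic_index_two_of_equiv e (dihedral_cyclic_index_two m h3)

end Cfsg.Agent.Lib.Helper9.HD
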