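import Cfsg.Agent.Lib.Helper9.Steiner6

set_option autoImplicit false
set_option linter.unusedSectionVars false

namespace Cfsg.Agent.Lib.Helper9.Steiner7

open Finset Cfsg.Agent.Lib.Helper9.Steiner1 Cfsg.Agent.Lib.Helper9.Steiner3
  Cfsg.Agent.Lib.Helper9.Steiner5 Cfsg.Agent.Lib.Helper9.Steiner6

variable {α : Type*} [Fintype α] [DecidableEq α]

/-- S(3,6,22): intersection distribution with a fixed block -/
theorem inter_distribution_3_6_22 (hα : Fintype.card α = 22) (Bf : Finset (Finset α))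
    (hB : Cfsg.IsSteinerSystem 3 6 (Bf : Set (Finset α))) (c : Finset α) (hc : c ∈ Bf) :
    (Bf.filter (fun x => (x ∩ c).card = 0)).card = 16 ∧
    (Bf.filter (fun x => (x ∩ c).card = 1)).card = 0 ∧
    (Bf.filter (fun x => (x ∩ c).card = 2)).card = 60 := by
  have hc6 : c.card = 6 := hB.1 c (mem_coe.mpr hc)
  have m0 := moment 3 6 Bf hB c 0 (by omega) 77 (by rw [hα]; decide) (by decide)
  have m1 := moment 3 6 Bf hB c 1 (by omega) 21 (by rw [hα]; decide) (by decide)
  have m2 := moment 3 6 Bf hB c 2 (by omega) 5 (by rw [hα]; decide) (by decide)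
  rw [sum_fiber_inter Bf c 6 (by omega) (fun k => k.choose 0)] at m0
  rw [sum_fiber_inter Bf c 6 (by omega) (fun k => k.choose 1)] at m1
  rw [sum_fiber_inter Bf c 6 (by omega) (fun k => k.choose 2)] at m2
  simp only [sum_range_succ, sum_range_zero] at m0 m1 m2
  rw [filter_mid_card 3 6 Bf hB c hc 3 (by omega) (by omega),
    filter_mid_card 3 6 Bf hB c hc 4 (by omega) (by omega),
    filter_mid_card 3 6 Bf hB c hc 5 (by omega) (by omega),
    filter_self_card 3 6 (by omega) Bf hB c hc, hc6] at m0 m1 m2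
  generalize (Bf.filter (fun x => (x ∩ c).card = 0)).card = c0 at *
  generalize (Bf.filter (fun x => (x ∩ c).card = 1)).card = c1 at *
  generalize (Bf.filter (fun x => (x ∩ c).card = 2)).card = c2 at *
  norm_num [Nat.choose] at m0 m1 m2
  omega

theorem block_inter_3_6_22 (hα : Fintype.card α = 22) {B : Set (Finset α)}
    (hB : Cfsg.IsSteinerSystem 3 6 B) {b c : Finset α} (hb : b ∈ B) (hc : c ∈ B) (hbc : b ≠ c) :
    (b ∩ c).card = 0 ∨ (b ∩ c).card = 2 := by
  obtain ⟨Bf, rfl⟩ := exists_finset B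
  rw [mem_coe] at hb hc
  obtain ⟨-, h1, -⟩ := inter_distribution_3_6_22 hα Bf hB c hc
  have hlt : (b ∩ c).card < 3 := by
    by_contra h
    exact hbc (block_eq_of_ge 3 6 Bf hB b c hb hc (by omega))
  have hn1 : (b ∩ c).card ≠ 1 := by
    intro h
    have : b ∈ Bf.filter (fun x => (x ∩ c).card = 1) := mem_filter.mpr ⟨hb, h⟩
    rw [card_eq_zero.mp h1] at this
    exact notMem_empty _ this
  omega

/-- S(5,6,12): intersection distribution with a fixed block -/
theorem inter_distribution_5_6_12 (hα : Fintype.card α = 12) (Bf : Finset (Finset α))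
    (hB : Cfsg.IsSteinerSystem 5 6 (Bf : Set (Finset α))) (c : Finset α) (hc : c ∈ Bf) :
    (Bf.filter (fun x => (x ∩ c).card = 0)).card = 1 ∧
    (Bf.filter (fun x => (x ∩ c).card = 1)).card = 0 ∧
    (Bf.filter (fun x => (x ∩ c).card = 2)).card = 45 ∧
    (Bf.filter (fun x => (x ∩ c).card = 3)).card = 40 ∧
    (Bf.filter (fun x => (x ∩ c).card = 4)).card = 45 := by
  have hc6 : c.card = 6 := hB.1 c (mem_coe.mpr hc)
  have m0 := moment 5 6 Bf hB c 0 (by omega) 132 (by rw [hα]; decide) (by decide)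
  have m1 := moment 5 6 Bf hB c 1 (by omega) 66 (by rw [hα]; decide) (by decide)
  have m2 := moment 5 6 Bf hB c 2 (by omega) 30 (by rw [hα]; decide) (by decide)
  have m3 := moment 5 6 Bf hB c 3 (by omega) 12 (by rw [hα]; decide) (by decide)
  have m4 := moment 5 6 Bf hB c 4 (by omega) 4 (by rw [hα]; decide) (by decide)
  rw [sum_fiber_inter Bf c 6 (by omega) (fun k => k.choose 0)] at m0
  rw [sum_fiber_inter Bf c 6 (by omega) (fun k => k.choose 1)] at m1
  rw [sum_fiber_inter Bf c 6 (by omega) (fun k => k.choose 2)] at m2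
  rw [sum_fiber_inter Bf c 6 (by omega) (fun k => k.choose 3)] at m3
  rw [sum_fiber_inter Bf c 6 (by omega) (fun k => k.choose 4)] at m4
  simp only [sum_range_succ, sum_range_zero] at m0 m1 m2 m3 m4
  rw [filter_mid_card 5 6 Bf hB c hc 5 (by omega) (by omega),
    filter_self_card 5 6 (by omega) Bf hB c hc, hc6] at m0 m1 m2 m3 m4
  generalize (Bf.filter (fun x => (x ∩ c).card = 0)).card = c0 at *
  generalize (Bf.filter (fun x => (x ∩ c).card = 1)).card = c1 at *
  generalize (Bf.filter (fun x => (x ∩ c).card = 2)).card = c2 at *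
  generalize (Bf.filter (fun x => (x ∩ c).card = 3)).card = c3 at *
  generalize (Bf.filter (fun x => (x ∩ c).card = 4)).card = c4 at *
  norm_num [Nat.choose] at m0 m1 m2 m3 m4
  omega

theorem compl_block_5_6_12 (hα : Fintype.card α = 12) {B : Set (Finset α)}
    (hB : Cfsg.IsSteinerSystem 5 6 B) {b : Finset α} (hb : b ∈ B) : bᶜ ∈ B := by
  obtain ⟨Bf, rfl⟩ := exists_finset B
  rw [mem_coe] at hb
  obtain ⟨h0, -⟩ := inter_distribution_5_6_12 hα Bf hB b hb
  obtain ⟨x, hx⟩ := card_eq_one.mp h0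
  have hxm : x ∈ Bf.filter (fun x => (x ∩ b).card = 0) := by rw [hx]; exact mem_singleton_self x
  rw [mem_filter, card_eq_zero, ← disjoint_iff_inter_eq_empty] at hxm
  have hx6 : x.card = 6 := hB.1 x (mem_coe.mpr hxm.1)
  have hb6 : b.card = 6 := hB.1 b (mem_coe.mpr hb)
  have hsub : x ⊆ bᶜ := by
    intro i hi
    rw [mem_compl]
    exact fun hib => disjoint_left.mp hxm.2 hi hib
  have hcard : bᶜ.card = 6 := by rw [card_compl, hα, hb6]
  have : x = bᶜ := eq_of_subset_of_card_le hsub (by rw [hcard, hx6])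
  rw [mem_coe, ← this]
  exact hxm.1

end Cfsg.Agent.Lib.Helper9.Steiner7
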