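import Mathlib
import Cfsg.Prelude
import Cfsg.Agent.Lib.Helper5.SpinorHyp2
import Cfsg.Agent.Lib.Helper5.MaxTS
import Cfsg.Agent.S0760

set_option autoImplicit false
set_option linter.unusedSectionVars false
set_option linter.unusedVariables false
open Cfsg

/-! A hyperbolic space plus a non-trivial anisotropic space has no Lagrangian subspace. -/

namespace Cfsg.Agent.Lib.Helper9.AOR

open Matrix QuadraticMap Module Cfsg.Agent.Lib.Helper5.OrthCard Cfsg.Agent.Lib.Helper5.SpinorHyp2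
  Cfsg.Agent.Lib.Helper5.MaxTS

variable {F : Type*} [Field F] {κ₀ : Type} [Fintype κ₀] [DecidableEq κ₀]
  (Q₀ : QuadraticForm F (κ₀ → F))

/-- the standard totally singular subspace of `genForm Q₀ k` -/
def stdTS (k : ℕ) : Submodule F ((Fin k ⊕ Fin k) ⊕ κ₀ → F) where
  carrier := {v | (∀ j, v (Sum.inl (Sum.inr j)) = 0) ∧ ∀ x, v (Sum.inr x) = 0}
  zero_mem' := ⟨fun _ => rfl, fun _ => rfl⟩
  add_mem' := by
    rintro u v ⟨hu1, hu2⟩ ⟨hv1, hv2⟩
    exact ⟨fun j => by rw [Pi.add_apply, hu1, hv1, add_zero],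
      fun x => by rw [Pi.add_apply, hu2, hv2, add_zero]⟩
  smul_mem' := by
    rintro c v ⟨hv1, hv2⟩
    exact ⟨fun j => by rw [Pi.smul_apply, hv1, smul_zero],
      fun x => by rw [Pi.smul_apply, hv2, smul_zero]⟩

theorem mem_stdTS (k : ℕ) (v : (Fin k ⊕ Fin k) ⊕ κ₀ → F) :
    v ∈ stdTS (F := F) (κ₀ := κ₀) k ↔
      (∀ j, v (Sum.inl (Sum.inr j)) = 0) ∧ ∀ x, v (Sum.inr x) = 0 := Iff.rfl

theorem stdTS_sing (k : ℕ) (v : (Fin k ⊕ Fin k) ⊕ κ₀ → F) (hv : v ∈ stdTS (F := F) (κ₀ := κ₀) k) :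
    genForm Q₀ k v = 0 := by
  rw [genForm_apply]
  have h1 : (fun x => v (Sum.inr x)) = (0 : κ₀ → F) := by
    ext x
    exact hv.2 x
  rw [h1, map_zero, add_zero]
  apply Finset.sum_eq_zero
  intro j _
  rw [hv.1 j, mul_zero]

theorem single_ll_mem (k : ℕ) (j : Fin k) :
    (Pi.single (Sum.inl (Sum.inl j)) 1 : (Fin k ⊕ Fin k) ⊕ κ₀ → F) ∈
      stdTS (F := F) (κ₀ := κ₀) k := by
  constructor
  · intro j'
    simp
  · intro x
    simp

theorem stdTS_max (han : ∀ v : κ₀ → F, Q₀ v = 0 → v = 0) (k : ℕ)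
    (W : Submodule F ((Fin k ⊕ Fin k) ⊕ κ₀ → F)) (hle : stdTS (F := F) (κ₀ := κ₀) k ≤ W)
    (hW : ∀ w ∈ W, genForm Q₀ k w = 0) : W = stdTS (F := F) (κ₀ := κ₀) k := by
  apply le_antisymm _ hle
  intro w hw
  have h1 : ∀ j, w (Sum.inl (Sum.inr j)) = 0 := by
    intro j
    rw [← polar_genForm_single_ll Q₀ k j w]
    exact Cfsg.Agent.Lib.Helper5.PlusGeom.polar_eq_zero_of_ts (genForm Q₀ k) W hW
      (hle (single_ll_mem k j)) hw
  refine ⟨h1, ?_⟩
  have h2 := hW w hw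
  rw [genForm_apply] at h2
  have h3 : ∑ i : Fin k, w (Sum.inl (Sum.inl i)) * w (Sum.inl (Sum.inr i)) = 0 := by
    apply Finset.sum_eq_zero
    intro j _
    rw [h1 j, mul_zero]
  rw [h3, zero_add] at h2
  have h4 := han _ h2
  intro x
  exact congrFun h4 x

theorem no_lagrangian_genForm [Finite F] [Nonempty κ₀] (han : ∀ v : κ₀ → F, Q₀ v = 0 → v = 0)
    (k : ℕ) (hnd : (polarBilin (genForm Q₀ k)).Nondegenerate)
    (Y : Submodule F ((Fin k ⊕ Fin k) ⊕ κ₀ → F)) (hY : ∀ y ∈ Y, genForm Q₀ k y = 0)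
    (hle : orth (genForm Q₀ k) Y ≤ Y) : False := by
  obtain ⟨x₀⟩ := (inferInstance : Nonempty κ₀)
  have h1 := Cfsg.Agent.S0760.finrank_le_of_maximal (genForm Q₀ k) hnd
    (stdTS (F := F) (κ₀ := κ₀) k) Y (stdTS_sing Q₀ k) hY (stdTS_max Q₀ han k)
  have hYeq : orth (genForm Q₀ k) Y = Y := le_antisymm hle (le_orth_of_ts _ Y hY)
  have h2 := finrank_orth (genForm Q₀ k) hnd Y
  rw [hYeq] at h2
  have h3 := finrank_orth (genForm Q₀ k) hnd (stdTS (F := F) (κ₀ := κ₀) k)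
  have h4 := le_orth_of_ts (genForm Q₀ k) (stdTS (F := F) (κ₀ := κ₀) k) (stdTS_sing Q₀ k)
  have h5 := Submodule.finrank_mono h4
  have h6 := Submodule.finrank_le Y
  have h7 := Submodule.finrank_le (stdTS (F := F) (κ₀ := κ₀) k)
  have h8 : stdTS (F := F) (κ₀ := κ₀) k = orth (genForm Q₀ k) (stdTS (F := F) (κ₀ := κ₀) k) := by
    apply Submodule.eq_of_le_of_finrank_le h4
    omega
  have h9 : (Pi.single (Sum.inr x₀) 1 : (Fin k ⊕ Fin k) ⊕ κ₀ → F) ∈
      orth (genForm Q₀ k) (stdTS (F := F) (κ₀ := κ₀) k) := by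
    rw [mem_orth]
    intro w hw
    rw [polar_genForm]
    have h10 : (fun x => w (Sum.inr x)) = (0 : κ₀ → F) := by
      ext x
      exact hw.2 x
    rw [h10]
    have h11 : polar (⇑Q₀) 0 (fun x => (Pi.single (Sum.inr x₀) 1 :
        (Fin k ⊕ Fin k) ⊕ κ₀ → F) (Sum.inr x)) = 0 := by simp [polar]
    rw [h11, add_zero]
    apply Finset.sum_eq_zero
    intro j _
    rw [hw.1 j]
    simp
  rw [← h8] at h9
  have := h9.2 x₀
  simp at this

end Cfsg.Agent.Lib.Helper9.AOR
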