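import Mathlib
import Cfsg.Prelude
import Cfsg.Agent.Lib.Helper5.OmegaSimple
import Cfsg.Agent.Lib.Helper5.MaxTS

set_option autoImplicit false
set_option linter.unusedSectionVars false
set_option linter.unusedVariables false
open Cfsg

namespace Cfsg.Agent.Lib.Helper9.AOR

open Matrix QuadraticMap Cfsg.Agent.Lib.Helper5.CartanDieudonne Cfsg.Agent.Lib.Helper5.Refl
  Cfsg.Agent.Lib.Helper5.OrthCard Cfsg.Agent.Lib.Helper5.Siegel Cfsg.Agent.Lib.Helper5.QuadIsom
  Cfsg.Agent.Lib.Helper5.ReflGen Cfsg.Agent.Lib.Helper5.Eichler Cfsg.Agent.Lib.Helper5.SingGeom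
  Cfsg.Agent.Lib.Helper5.OmegaGen Cfsg.Agent.Lib.Helper5.OmegaSimple

variable {ι : Type} [Fintype ι] [DecidableEq ι] {F : Type*} [Field F] [Fintype F]
  (Q : QuadraticForm F (ι → F))

/-! Basic facts about Eichler elements. -/

theorem act_one' (x : ι → F) : act Q (1 : ↥(isometryGroup F ⇑Q)) x = x := one_mulVec x

theorem act_eich' (u z : ι → F) (hu : Q u = 0) (huz : polar ⇑Q u z = 0) (x : ι → F) :
    act Q (eich Q u z hu huz) x =
      x + polar ⇑Q u x • z + (-(polar ⇑Q z x + Q z * polar ⇑Q u x)) • u := by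
  rw [act_eich, eichlerMap_apply]

theorem act_eich_perp (u z : ι → F) (hu : Q u = 0) (huz : polar ⇑Q u z = 0) (x : ι → F)
    (hx : polar ⇑Q u x = 0) :
    act Q (eich Q u z hu huz) x = x - polar ⇑Q z x • u := by
  rw [act_eich', hx]
  simp only [zero_smul, add_zero, mul_zero, neg_smul]
  abel

theorem ND_of_nondeg (hQ : (polarBilin Q).Nondegenerate) : ND Q := fun z hz => hQ.1 z hz

theorem eich_smul_self (u : ι → F) (hu : Q u = 0) (t : F) :
    eich Q u (t • u) hu (by rw [polar_smul_right, polar_self_of_sing Q u hu, smul_zero]) = 1 := by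
  apply ext_act
  intro x
  rw [act_eich', act_one', QuadraticMap.map_smul, hu, polar_smul_left]
  simp only [smul_eq_mul, mul_zero, zero_mul, add_zero, neg_smul, smul_smul]
  rw [mul_comm (polar (⇑Q) u x) t]
  abel

theorem eich_eq_one_iff (hQ : (polarBilin Q).Nondegenerate) (u z : ι → F) (hu : Q u = 0)
    (huz : polar ⇑Q u z = 0) (hu0 : u ≠ 0) :
    eich Q u z hu huz = 1 ↔ ∃ t : F, z = t • u := by
  constructor
  · intro h
    obtain ⟨x, hx⟩ := exists_polar_ne Q (ND_of_nondeg Q hQ) u hu0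
    have h1 : act Q (eich Q u z hu huz) x = x := by rw [h, act_one']
    rw [act_eich'] at h1
    refine ⟨(polar ⇑Q u x)⁻¹ * (polar ⇑Q z x + Q z * polar ⇑Q u x), ?_⟩
    have h2 : polar ⇑Q u x • z = (polar ⇑Q z x + Q z * polar ⇑Q u x) • u := by
      linear_combination (norm := module) h1
    rw [← smul_smul, ← h2, smul_smul, inv_mul_cancel₀ hx, one_smul]
  · rintro ⟨t, rfl⟩
    exact eich_smul_self Q u hu t

theorem eich_eq_eich_iff (hQ : (polarBilin Q).Nondegenerate) (u z z' : ι → F) (hu : Q u = 0)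
    (huz : polar ⇑Q u z = 0) (huz' : polar ⇑Q u z' = 0) (hu0 : u ≠ 0) :
    eich Q u z hu huz = eich Q u z' hu huz' ↔ ∃ t : F, z = z' + t • u := by
  have hneg : polar ⇑Q u (-z') = 0 := by rw [polar_neg_right, huz', neg_zero]
  have hsum : polar ⇑Q u (z + -z') = 0 := by rw [polar_add_right, huz, hneg, add_zero]
  have key : eich Q u z hu huz = eich Q u z' hu huz' ↔ eich Q u (z + -z') hu hsum = 1 := by
    rw [← eich_mul Q u z (-z') hu huz hneg, ← eich_inv Q u z' hu huz', mul_inv_eq_one]
  rw [key, eich_eq_one_iff Q hQ u _ hu hsum hu0]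
  constructor
  · rintro ⟨t, ht⟩
    exact ⟨t, by rw [← ht]; abel⟩
  · rintro ⟨t, ht⟩
    exact ⟨t, by rw [ht]; abel⟩

/-- fixed points of a non-trivial Eichler element -/
theorem eich_fix_imp (u z : ι → F) (hu : Q u = 0) (huz : polar ⇑Q u z = 0) (hu0 : u ≠ 0)
    (hz : ¬ ∃ t : F, z = t • u) (x : ι → F) (l : F)
    (hx : act Q (eich Q u z hu huz) x = l • x) :
    polar ⇑Q u x = 0 ∧ ((∃ t : F, x = t • u) ∨ polar ⇑Q z x = 0) := by
  have huu : polar ⇑Q u u = 0 := polar_self_of_sing Q u hu
  have h1 : polar ⇑Q u x = 0 := by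
    by_contra hne
    have h2 : polar ⇑Q u (act Q (eich Q u z hu huz) x) = polar ⇑Q u (l • x) := by rw [hx]
    rw [act_eich', polar_add_right, polar_add_right, polar_smul_right, polar_smul_right,
      polar_smul_right, huz, huu] at h2
    simp only [smul_eq_mul, mul_zero, add_zero] at h2
    have hl : l = 1 := by
      have : (l - 1) * polar ⇑Q u x = 0 := by linear_combination -h2
      rcases mul_eq_zero.mp this with h | h
      · exact sub_eq_zero.mp h
      · exact absurd h hne
    rw [hl, one_smul, act_eich'] at hx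
    apply hz
    refine ⟨(polar ⇑Q u x)⁻¹ * (polar ⇑Q z x + Q z * polar ⇑Q u x), ?_⟩
    have h3 : polar ⇑Q u x • z = (polar ⇑Q z x + Q z * polar ⇑Q u x) • u := by
      linear_combination (norm := module) hx
    rw [← smul_smul, ← h3, smul_smul, inv_mul_cancel₀ hne, one_smul]
  refine ⟨h1, ?_⟩
  by_cases h4 : polar ⇑Q z x = 0
  · exact Or.inr h4
  · left
    rw [act_eich_perp Q u z hu huz x h1] at hx
    have hl : l ≠ 1 := by
      intro hl
      rw [hl, one_smul] at hx
      have : polar ⇑Q z x • u = 0 := by linear_combination (norm := module) -hx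
      rcases smul_eq_zero.mp this with h | h
      · exact h4 h
      · exact hu0 h
    have h1l : (1 - l) ≠ 0 := sub_ne_zero.mpr (Ne.symm hl)
    refine ⟨(1 - l)⁻¹ * polar ⇑Q z x, ?_⟩
    have h5 : (1 - l) • x = polar ⇑Q z x • u := by
      linear_combination (norm := module) hx
    rw [← smul_smul, ← h5, smul_smul, inv_mul_cancel₀ h1l, one_smul]

theorem eich_pow (u z : ι → F) (hu : Q u = 0) (huz : polar ⇑Q u z = 0) (k : ℕ) :
    (eich Q u z hu huz) ^ k =
      eich Q u ((k : F) • z) hu (by rw [polar_smul_right, huz, smul_zero]) := by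
  induction k with
  | zero =>
    rw [pow_zero]
    symm
    have : ((0 : ℕ) : F) • z = (0 : F) • u := by simp
    rw [eich_congr Q rfl this hu _ hu
      (by rw [polar_smul_right, polar_self_of_sing Q u hu, smul_zero])]
    exact eich_smul_self Q u hu 0
  | succ k ih =>
    rw [pow_succ, ih, eich_mul]
    apply eich_congr Q rfl
    push_cast
    rw [add_smul, one_smul]

theorem eich_pow_char (p : ℕ) [CharP F p] (u z : ι → F) (hu : Q u = 0)
    (huz : polar ⇑Q u z = 0) : (eich Q u z hu huz) ^ p = 1 := by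
  rw [eich_pow]
  have : ((p : ℕ) : F) • z = (0 : F) • u := by rw [CharP.cast_eq_zero F p]; simp
  rw [eich_congr Q rfl this hu _ hu
    (by rw [polar_smul_right, polar_self_of_sing Q u hu, smul_zero])]
  exact eich_smul_self Q u hu 0

theorem isPGroup_eichSub (p : ℕ) [CharP F p] (u : ι → F) (hu : Q u = 0) :
    IsPGroup p ↥(eichSub Q u hu) := by
  intro g
  refine ⟨1, ?_⟩
  obtain ⟨z, hz, hg⟩ := g.2
  apply Subtype.ext
  apply Subtype.ext
  rw [pow_one]
  show ((g : ↥(Omega F ⇑Q)) : ↥(isometryGroup F ⇑Q)) ^ p = 1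
  rw [hg]
  exact eich_pow_char Q p u z hu hz

/-- a vector with prescribed polar values on a linearly independent family -/
theorem exists_polar_eq (hQ : (polarBilin Q).Nondegenerate) {n : ℕ} (v : Fin n → ι → F)
    (hli : LinearIndependent F v) (c : Fin n → F) :
    ∃ z : ι → F, ∀ i, polar ⇑Q (v i) z = c i := by
  let p := Submodule.span F (Set.range v)
  let f : ↥p →ₗ[F] F := (Finsupp.linearCombination F c) ∘ₗ hli.repr
  obtain ⟨g, hg⟩ := LinearMap.exists_extend f
  have hgv : ∀ i, g (v i) = c i := by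
    intro i
    have h1 : g (v i) = (g ∘ₗ p.subtype) ⟨v i, Submodule.subset_span ⟨i, rfl⟩⟩ := rfl
    rw [h1, hg]
    show Finsupp.linearCombination F c (hli.repr ⟨v i, Submodule.subset_span ⟨i, rfl⟩⟩) = c i
    rw [LinearIndependent.repr_eq_single hli i ⟨v i, Submodule.subset_span ⟨i, rfl⟩⟩ rfl]
    simp
  let z := (LinearMap.BilinForm.toDual (polarBilin Q) hQ).symm g
  refine ⟨z, fun i => ?_⟩
  have h2 : polarBilin Q z (v i) = g (v i) :=
    LinearMap.BilinForm.apply_toDual_symm_apply (B := polarBilin Q) (hB := hQ) g (v i)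
  rw [← hgv i, ← h2, polarBilin_apply_apply, polar_comm]
end Cfsg.Agent.Lib.Helper9.AOR
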