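import Mathlib
import Cfsg.Prelude
import Cfsg.Agent.Lib.Helper5.OmegaSimple
import Cfsg.Agent.Lib.Helper5.MaxTS
import Cfsg.Agent.Lib.Helper9.AOR1

set_option autoImplicit false
set_option linter.unusedSectionVars false
set_option linter.unusedVariables false
open Cfsg

namespace Cfsg.Agent.Lib.Helper9.AOR

open Matrix QuadraticMap Cfsg.Agent.Lib.Helper5.CartanDieudonne Cfsg.Agent.Lib.Helper5.Refl
  Cfsg.Agent.Lib.Helper5.OrthCard Cfsg.Agent.Lib.Helper5.Siegel Cfsg.Agent.Lib.Helper5.QuadIsom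
  Cfsg.Agent.Lib.Helper5.ReflGen Cfsg.Agent.Lib.Helper5.Eichler Cfsg.Agent.Lib.Helper5.SingGeom
  Cfsg.Agent.Lib.Helper5.OmegaGen Cfsg.Agent.Lib.Helper5.OmegaSimple

variable {ι : Type} [Fintype ι] [DecidableEq ι] {F : Type*} [Field F] [Fintype F]
  (Q : QuadraticForm F (ι → F))

/-! Singular points fixed by Eichler groups and by `p`-subgroups. -/

section pts
open scoped LinearAlgebra.Projectivization Pointwise
attribute [local instance 2000] omSMul omAction omSMulComm singSMul singAction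

variable {Q}

theorem smul_pt_iff (g : ↥(Omega F ⇑Q)) (x : ι → F) (hx0 : x ≠ 0) (hQx : Q x = 0) :
    g • pt Q x hx0 hQx = pt Q x hx0 hQx ↔ ∃ l : F, act Q g.1 x = l • x := by
  rw [smul_pt, pt_eq_pt_iff]
  constructor
  · rintro ⟨a, ha⟩; exact ⟨a, ha.symm⟩
  · rintro ⟨a, ha⟩; exact ⟨a, ha.symm⟩

/-- Eichler elements as elements of `Ω` -/
noncomputable def eo (H : Hyp Q) (u z : ι → F) (hu : Q u = 0) (huz : polar ⇑Q u z = 0) :
    ↥(Omega F ⇑Q) := ⟨eich Q u z hu huz, eich_mem_Omega H u z hu huz⟩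

theorem eo_val (H : Hyp Q) (u z : ι → F) (hu : Q u = 0) (huz : polar ⇑Q u z = 0) :
    (eo H u z hu huz).1 = eich Q u z hu huz := rfl

theorem eo_mem (H : Hyp Q) (u z : ι → F) (hu : Q u = 0) (huz : polar ⇑Q u z = 0) :
    eo H u z hu huz ∈ eichSub Q u hu := ⟨z, huz, rfl⟩

theorem exists_eo_of_mem (H : Hyp Q) (u : ι → F) (hu : Q u = 0) (g : ↥(Omega F ⇑Q))
    (hg : g ∈ eichSub Q u hu) : ∃ (z : ι → F) (huz : polar ⇑Q u z = 0), g = eo H u z hu huz := by
  obtain ⟨z, huz, h⟩ := hg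
  exact ⟨z, huz, Subtype.ext h⟩

theorem exists_not_smul (H : Hyp Q) (u : ι → F) (hu : Q u = 0) :
    ∃ z : ι → F, polar ⇑Q u z = 0 ∧ Q z ≠ 0 ∧ ¬ ∃ t : F, z = t • u := by
  obtain ⟨z, hz, huz, -⟩ := exists_aniso_perp2 Q H.nondeg H.finrank5 u u
  refine ⟨z, huz, hz, ?_⟩
  rintro ⟨t, rfl⟩
  apply hz
  rw [QuadraticMap.map_smul, hu, smul_zero]

/-- the only singular point fixed by the whole Eichler group of `u` is `u` -/
theorem fixed_of_eichSub (H : Hyp Q) (u : ι → F) (hu0 : u ≠ 0) (hu : Q u = 0) (x : ι → F)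
    (hx0 : x ≠ 0) (hQx : Q x = 0)
    (hfix : ∀ g ∈ eichSub Q u hu, g • pt Q x hx0 hQx = pt Q x hx0 hQx) :
    ∃ t : F, x = t • u := by
  by_contra hx
  obtain ⟨z0, huz0, -, hz0⟩ := exists_not_smul H u hu
  obtain ⟨l0, hl0⟩ := (smul_pt_iff _ x hx0 hQx).mp (hfix _ (eo_mem H u z0 hu huz0))
  have hux : polar ⇑Q u x = 0 := (eich_fix_imp Q u z0 hu huz0 hu0 hz0 x l0 hl0).1
  have hli : LinearIndependent F ![u, x] := by
    rw [LinearIndependent.pair_iff' hu0]
    intro a ha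
    exact hx ⟨a, ha.symm⟩
  obtain ⟨z, hz⟩ := exists_polar_eq Q H.nondeg ![u, x] hli ![0, 1]
  have h0 : polar ⇑Q u z = 0 := hz 0
  have h1 : polar ⇑Q x z = 1 := hz 1
  have hzu : ¬ ∃ t : F, z = t • u := by
    rintro ⟨t, rfl⟩
    rw [polar_smul_right, polar_comm, hux, smul_zero] at h1
    exact zero_ne_one h1
  obtain ⟨l, hl⟩ := (smul_pt_iff _ x hx0 hQx).mp (hfix _ (eo_mem H u z hu h0))
  rcases (eich_fix_imp Q u z hu h0 hu0 hzu x l hl).2 with h | h
  · exact hx h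
  · rw [polar_comm, h1] at h
    exact one_ne_zero h

theorem eo_smul_pt_self (H : Hyp Q) (u z : ι → F) (hu0 : u ≠ 0) (hu : Q u = 0)
    (huz : polar ⇑Q u z = 0) : eo H u z hu huz • pt Q u hu0 hu = pt Q u hu0 hu := by
  rw [smul_pt_iff]
  exact ⟨1, by rw [one_smul]; exact act_eich_self u z hu huz⟩

instance : Finite ↥(singPts Q) := by
  have : Finite (ℙ F (ι → F)) := Quotient.finite _
  exact Subtype.finite

theorem card_singPts_modEq (p : ℕ) [Fact p.Prime] [CharP F p] (H : Hyp Q) :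
    Nat.card ↥(singPts Q) ≡ 1 [MOD p] := by
  obtain ⟨e, f, he, hf, hef⟩ := exists_hyp_pair H
  have he0 : e ≠ 0 := by
    rintro rfl
    simp [polar] at hef
  have h1 := (isPGroup_eichSub Q p e he).card_modEq_card_fixedPoints ↥(singPts Q)
  have h2 : MulAction.fixedPoints ↥(eichSub Q e he) ↥(singPts Q) = {pt Q e he0 he} := by
    ext x
    rw [MulAction.mem_fixedPoints, Set.mem_singleton_iff]
    constructor
    · intro hx
      induction x using pt_ind with
      | h v hv hQv =>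
        obtain ⟨t, ht⟩ := fixed_of_eichSub H e he0 he v hv hQv (fun g hg => hx ⟨g, hg⟩)
        rw [pt_eq_pt_iff]
        exact ⟨t, ht.symm⟩
    · rintro rfl ⟨g, hg⟩
      obtain ⟨z, huz, rfl⟩ := exists_eo_of_mem H e he g hg
      exact eo_smul_pt_self H e z he0 he huz
  rw [h2] at h1
  simpa using h1

/-- a `p`-subgroup of `Ω` fixes a singular point -/
theorem exists_fixed_pt (p : ℕ) [Fact p.Prime] [CharP F p] (H : Hyp Q)
    (A : Subgroup ↥(Omega F ⇑Q)) (hA : IsPGroup p ↥A) :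
    ∃ x : ↥(singPts Q), ∀ a ∈ A, a • x = x := by
  have hp : ¬ p ∣ Nat.card ↥(singPts Q) := by
    intro hdvd
    have h1 := card_singPts_modEq p H
    have h2 : Nat.card ↥(singPts Q) % p = 0 := Nat.mod_eq_zero_of_dvd hdvd
    have h3 : Nat.card ↥(singPts Q) % p = 1 % p := h1
    rw [h2, Nat.one_mod_eq_one.mpr (Fact.out : p.Prime).ne_one] at h3
    exact zero_ne_one h3
  obtain ⟨x, hx⟩ := hA.nonempty_fixed_point_of_prime_not_dvd_card ↥(singPts Q) hp
  exact ⟨x, fun a ha => hx ⟨a, ha⟩⟩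

end pts

section powfix
variable {Q}

theorem act_pow_eigen (g : ↥(isometryGroup F ⇑Q)) (x : ι → F) (l : F)
    (hx : act Q g x = l • x) (n : ℕ) : act Q (g ^ n) x = l ^ n • x := by
  induction n with
  | zero => rw [pow_zero, pow_zero, one_smul]; exact act_one' Q x
  | succ n ih => rw [pow_succ, act_mul, hx, act_smul, ih, smul_smul, pow_succ, mul_comm]

/-- an eigenvector of a `p`-element is fixed -/
theorem eigen_one_of_pow (p : ℕ) [Fact p.Prime] [CharP F p] (g : ↥(isometryGroup F ⇑Q)) (k : ℕ)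
    (hg : g ^ (p ^ k) = 1) (x : ι → F) (hx0 : x ≠ 0) (l : F) (hx : act Q g x = l • x) :
    l = 1 := by
  have h1 := act_pow_eigen g x l hx (p ^ k)
  rw [hg, act_one'] at h1
  have h2 : (l ^ (p ^ k) - 1) • x = 0 := by rw [sub_smul, one_smul, ← h1, sub_self]
  have h3 : l ^ (p ^ k) = 1 := by
    rcases smul_eq_zero.mp h2 with h | h
    · exact sub_eq_zero.mp h
    · exact absurd h hx0
  have h4 : (l - 1) ^ (p ^ k) = 0 := by rw [sub_pow_char_pow, h3, one_pow, sub_self]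
  exact sub_eq_zero.mp (pow_eq_zero_iff (pow_ne_zero k (Fact.out : p.Prime).ne_zero) |>.mp h4)

end powfix
end Cfsg.Agent.Lib.Helper9.AOR
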