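import Mathlib
import Cfsg.Prelude
import Cfsg.Agent.Lib.Helper5.OmegaSimple
import Cfsg.Agent.Lib.Helper5.MaxTS
import Cfsg.Agent.Lib.Helper9.AOR2

set_option autoImplicit false
set_option linter.unusedSectionVars false
set_option linter.unusedVariables false
open Cfsg

namespace Cfsg.Agent.Lib.Helper9.AOR

open Matrix QuadraticMap Cfsg.Agent.Lib.Helper5.CartanDieudonne Cfsg.Agent.Lib.Helper5.Refl
  Cfsg.Agent.Lib.Helper5.OrthCard Cfsg.Agent.Lib.Helper5.Siegel Cfsg.Agent.Lib.Helper5.QuadIsom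
  Cfsg.Agent.Lib.Helper5.ReflGen Cfsg.Agent.Lib.Helper5.Eichler Cfsg.Agent.Lib.Helper5.SingGeom
  Cfsg.Agent.Lib.Helper5.OmegaGen Cfsg.Agent.Lib.Helper5.OmegaSimple

variable {ι : Type} [Fintype ι] [DecidableEq ι] {F : Type*} [Field F] [Fintype F]
  (Q : QuadraticForm F (ι → F))

/-! Kernel lemma, the centre, and the centraliser of an Eichler group. -/

theorem exists_partner (hQ : (polarBilin Q).Nondegenerate) (u : ι → F) (hu0 : u ≠ 0)
    (hu : Q u = 0) : ∃ f : ι → F, Q f = 0 ∧ polar ⇑Q u f = 1 := by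
  obtain ⟨x, hx⟩ := exists_polar_ne Q (ND_of_nondeg Q hQ) u hu0
  obtain ⟨x', hx'⟩ : ∃ x' : ι → F, x' = (polar ⇑Q u x)⁻¹ • x := ⟨_, rfl⟩
  have h1 : polar ⇑Q u x' = 1 := by
    rw [hx', polar_smul_right, smul_eq_mul, inv_mul_cancel₀ hx]
  refine ⟨x' + (-(Q x')) • u, ?_, ?_⟩
  · rw [quad_add', QuadraticMap.map_smul, hu, polar_smul_right, polar_comm (⇑Q) x' u, h1]
    simp
  · rw [polar_add_right, polar_smul_right, polar_self_of_sing Q u hu, h1]
    simp

/-- an isometry fixing `u` and acting trivially on `u^⊥/u` is an Eichler element -/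
theorem eq_eich_of_trivial (hQ : (polarBilin Q).Nondegenerate) (g : ↥(isometryGroup F ⇑Q))
    (u : ι → F) (hu0 : u ≠ 0) (hu : Q u = 0) (hgu : act Q g u = u)
    (h : ∀ x, polar ⇑Q u x = 0 → ∃ c : F, act Q g x = x + c • u) :
    ∃ (z : ι → F) (huz : polar ⇑Q u z = 0), g = eich Q u z hu huz := by
  obtain ⟨f, hf, huf⟩ := exists_partner Q hQ u hu0 hu
  have hff : polar ⇑Q f f = 0 := polar_self_of_sing Q f hf
  have huu : polar ⇑Q u u = 0 := polar_self_of_sing Q u hu
  set z : ι → F := act Q g f - f with hz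
  have h1 : polar ⇑Q u (act Q g f) = 1 := by
    have := polar_act Q g u f
    rw [hgu] at this
    rw [this, huf]
  have huz : polar ⇑Q u z = 0 := by
    rw [hz, polar_sub_right, h1, huf, sub_self]
  refine ⟨z, huz, ?_⟩
  have hQz : Q z = -polar ⇑Q (act Q g f) f := by
    rw [hz, quad_sub', quad_act, hf]
    ring
  have hzf : polar ⇑Q z f = polar ⇑Q (act Q g f) f := by
    rw [hz, polar_sub_left, hff, sub_zero]
  have hEf : act Q (eich Q u z hu huz) f = act Q g f := by
    rw [act_eich', huf, hzf, hQz, hz]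
    simp
  have hEy : ∀ y, polar ⇑Q u y = 0 → act Q (eich Q u z hu huz) y = act Q g y := by
    intro y hy
    obtain ⟨c, hc⟩ := h y hy
    rw [act_eich_perp Q u z hu huz y hy, hc]
    have h2 := polar_act Q g f y
    rw [hc, polar_add_right, polar_smul_right] at h2
    have h3 : polar ⇑Q (act Q g f) u = 1 := by rw [polar_comm]; exact h1
    rw [h3, smul_eq_mul, mul_one] at h2
    have h4 : polar ⇑Q z y = -c := by
      rw [hz, polar_sub_left]
      linear_combination h2
    rw [h4]
    module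
  apply ext_act
  intro x
  have hx : x = polar ⇑Q u x • f + (x - polar ⇑Q u x • f) := by abel
  have hperp : polar ⇑Q u (x - polar ⇑Q u x • f) = 0 := by
    rw [polar_sub_right, polar_smul_right, huf]
    simp
  rw [hx, act_add, act_add, act_smul, act_smul, hEf, hEy _ hperp]

/-- scalar isometries `±1` -/
noncomputable def scal (a : F) (ha : a * a = 1) : ↥(isometryGroup F ⇑Q) :=
  ⟨⟨a • 1, a • 1, by rw [smul_mul_smul_comm, ha, one_smul, one_mul],
      by rw [smul_mul_smul_comm, ha, one_smul, one_mul]⟩, by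
    rw [mem_isometryGroup_iff]
    intro v
    show Q ((a • (1 : Matrix ι ι F)) *ᵥ v) = Q v
    rw [smul_mulVec, one_mulVec, QuadraticMap.map_smul, ha, one_smul]⟩

theorem act_scal (a : F) (ha : a * a = 1) (x : ι → F) : act Q (scal Q a ha) x = a • x := by
  show (a • (1 : Matrix ι ι F)) *ᵥ x = a • x
  rw [smul_mulVec, one_mulVec]

theorem scal_comm (a : F) (ha : a * a = 1) (g : ↥(isometryGroup F ⇑Q)) :
    scal Q a ha * g = g * scal Q a ha := by
  apply ext_act
  intro x
  rw [act_mul, act_mul, act_scal, act_scal, act_smul]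

theorem eq_scal_of_act (a : F) (ha : a * a = 1) (g : ↥(isometryGroup F ⇑Q))
    (hg : ∀ x, act Q g x = a • x) : g = scal Q a ha := by
  apply ext_act
  intro x
  rw [hg, act_scal]

section centre
open scoped LinearAlgebra.Projectivization Pointwise
attribute [local instance 2000] omSMul omAction omSMulComm singSMul singAction

variable {Q}

/-- an element commuting with the Eichler group of `u` fixes the point `u` -/
theorem fix_of_commute (H : Hyp Q) (u : ι → F) (hu0 : u ≠ 0) (hu : Q u = 0)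
    (g : ↥(Omega F ⇑Q)) (hg : ∀ k ∈ eichSub Q u hu, g * k = k * g) :
    ∃ l : F, act Q g.1 u = l • u := by
  have hgu0 : act Q g.1 u ≠ 0 := (smul_ne_zero_iff_ne g).mpr hu0
  have hQgu : Q (act Q g.1 u) = 0 := by rw [quad_act]; exact hu
  have := fixed_of_eichSub H u hu0 hu (act Q g.1 u) hgu0 hQgu (by
    intro k hk
    have h1 : g • pt Q u hu0 hu = pt Q (act Q g.1 u) hgu0 hQgu := smul_pt Q g u hu0 hu
    rw [← h1, ← mul_smul, ← hg k hk, mul_smul]
    obtain ⟨z, huz, rfl⟩ := exists_eo_of_mem H u hu k hk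
    rw [eo_smul_pt_self H u z hu0 hu huz])
  exact this

/-- central elements of `Ω` are scalars `±1` -/
theorem center_scalar (H : Hyp Q) (z : ↥(Omega F ⇑Q)) (hz : z ∈ Subgroup.center ↥(Omega F ⇑Q)) :
    ∃ a : F, a * a = 1 ∧ ∀ x, act Q z.1 x = a • x := by
  have hfix : ∀ p : ↥(singPts Q), z • p = p := by
    intro p
    induction p using pt_ind with
    | h v hv hQv =>
      rw [smul_pt_iff]
      exact fix_of_commute H v hv hQv z (fun k _ => (Subgroup.mem_center_iff.mp hz k).symm)
  obtain ⟨a, ha⟩ := scalar_of_fix H z hfix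
  refine ⟨a, ?_, ha⟩
  obtain ⟨e, f, he, hf, hef⟩ := exists_hyp_pair H
  obtain ⟨w, -, hw, -⟩ := exists_not_smul H e he
  have h1 := quad_act Q z.1 w
  rw [ha w, QuadraticMap.map_smul, smul_eq_mul] at h1
  have h2 : (a * a - 1) * Q w = 0 := by linear_combination h1
  rcases mul_eq_zero.mp h2 with h | h
  · exact sub_eq_zero.mp h
  · exact absurd h hw

/-- the centre of `Ω` has no non-trivial `p`-elements -/
theorem center_pow_eq_one (p : ℕ) [Fact p.Prime] [CharP F p] (H : Hyp Q) (z : ↥(Omega F ⇑Q))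
    (hz : z ∈ Subgroup.center ↥(Omega F ⇑Q)) (k : ℕ) (hzk : z ^ (p ^ k) = 1) : z = 1 := by
  obtain ⟨a, ha, hza⟩ := center_scalar H z hz
  obtain ⟨e, f, he, hf, hef⟩ := exists_hyp_pair H
  have he0 : e ≠ 0 := by
    rintro rfl
    simp [polar] at hef
  have hzk' : z.1 ^ (p ^ k) = 1 := by
    have := congrArg Subtype.val hzk
    rwa [SubmonoidClass.coe_pow] at this
  have ha1 : a = 1 := eigen_one_of_pow p z.1 k hzk' e he0 a (hza e)
  apply Subtype.ext
  apply ext_act
  intro x
  rw [hza x, ha1, one_smul]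
  exact (act_one' Q x).symm

/-- the centraliser of an Eichler group -/
theorem centralizer_eichSub (H : Hyp Q) (u : ι → F) (hu0 : u ≠ 0) (hu : Q u = 0)
    (g : ↥(Omega F ⇑Q)) (hg : ∀ k ∈ eichSub Q u hu, g * k = k * g) :
    ∃ k ∈ eichSub Q u hu, ∃ c ∈ Subgroup.center ↥(Omega F ⇑Q), g = k * c := by
  obtain ⟨l, hl⟩ := fix_of_commute H u hu0 hu g hg
  have hl0 : l ≠ 0 := by
    rintro rfl
    rw [zero_smul] at hl
    exact (smul_ne_zero_iff_ne g).mpr hu0 hl
  -- action on u^⊥
  have hperp : ∀ z, polar ⇑Q u z = 0 → ∃ t : F, l • act Q g.1 z = z + t • u := by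
    intro z huz
    have h1 := hg _ (eo_mem H u z hu huz)
    have h2 : g.1 * eich Q u z hu huz * g.1⁻¹ = eich Q u z hu huz := by
      have h3 := congrArg Subtype.val h1
      rw [Subgroup.coe_mul, Subgroup.coe_mul, eo_val] at h3
      rw [h3]
      group
    rw [conj_eich] at h2
    have hQu' : Q (l • u) = 0 := by rw [QuadraticMap.map_smul, hu, smul_zero]
    have hpz : polar ⇑Q u (act Q g.1 z) = 0 := by
      have := polar_act Q g.1 u z
      rw [hl, polar_smul_left, huz, smul_eq_mul] at this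
      exact (mul_eq_zero.mp this).resolve_left hl0
    have h4 : eich Q (act Q g.1 u) (act Q g.1 z) (by rw [quad_act, hu]) (by rw [polar_act, huz]) =
        eich Q u (l • act Q g.1 z) hu (by rw [polar_smul_right, hpz, smul_zero]) := by
      rw [← eich_smul_left Q u (act Q g.1 z) hu hpz l]
      exact eich_congr Q hl rfl _ _ _ _
    rw [h4] at h2
    exact (eich_eq_eich_iff Q H.nondeg u _ z hu _ huz hu0).mp h2
  -- l² = 1
  obtain ⟨w, huw, hw, -⟩ := exists_not_smul H u hu
  have hll : l * l = 1 := by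
    obtain ⟨t, ht⟩ := hperp w huw
    have h1 : Q (l • act Q g.1 w) = Q (w + t • u) := by rw [ht]
    rw [QuadraticMap.map_smul, quad_act, quad_add_smul_sing Q u w hu huw t, smul_eq_mul] at h1
    have h2 : (l * l - 1) * Q w = 0 := by linear_combination h1
    rcases mul_eq_zero.mp h2 with h | h
    · exact sub_eq_zero.mp h
    · exact absurd h hw
  set h' : ↥(isometryGroup F ⇑Q) := scal Q l hll * g.1 with hh'
  have h'u : act Q h' u = u := by
    rw [hh', act_mul, act_scal, hl, smul_smul, hll, one_smul]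
  have h'z : ∀ x, polar ⇑Q u x = 0 → ∃ c : F, act Q h' x = x + c • u := by
    intro x hx
    obtain ⟨t, ht⟩ := hperp x hx
    exact ⟨t, by rw [hh', act_mul, act_scal, ht]⟩
  obtain ⟨z, huz, hEz⟩ := eq_eich_of_trivial Q H.nondeg h' u hu0 hu h'u h'z
  have hg1 : g.1 = scal Q l hll * eich Q u z hu huz := by
    rw [← hEz, hh', ← mul_assoc]
    have : scal Q l hll * scal Q l hll = 1 := by
      apply ext_act
      intro x
      rw [act_mul, act_scal, act_scal, smul_smul, hll, one_smul, act_one']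
    rw [this, one_mul]
  have hsc : scal Q l hll ∈ Omega F ⇑Q := by
    have : scal Q l hll = g.1 * (eich Q u z hu huz)⁻¹ := by rw [hg1]; group
    rw [this]
    exact mul_mem g.2 (inv_mem (eich_mem_Omega H u z hu huz))
  refine ⟨eo H u z hu huz, eo_mem H u z hu huz, ⟨scal Q l hll, hsc⟩, ?_, ?_⟩
  · rw [Subgroup.mem_center_iff]
    intro k
    apply Subtype.ext
    show k.1 * scal Q l hll = scal Q l hll * k.1
    exact (scal_comm Q l hll k.1).symm
  · apply Subtype.ext
    show g.1 = eich Q u z hu huz * scal Q l hll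
    rw [hg1, scal_comm]

end centre
end Cfsg.Agent.Lib.Helper9.AOR
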