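import Mathlib
import Cfsg.Prelude
import Cfsg.Agent.Lib.Helper5.OmegaSimple
import Cfsg.Agent.Lib.Helper5.MaxTS
import Cfsg.Agent.Lib.Helper9.AOR3

set_option autoImplicit false
set_option linter.unusedSectionVars false
set_option linter.unusedVariables false
open Cfsg

namespace Cfsg.Agent.Lib.Helper9.AOR

open Matrix QuadraticMap Cfsg.Agent.Lib.Helper5.CartanDieudonne Cfsg.Agent.Lib.Helper5.Refl
  Cfsg.Agent.Lib.Helper5.OrthCard Cfsg.Agent.Lib.Helper5.Siegel Cfsg.Agent.Lib.Helper5.QuadIsom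
  Cfsg.Agent.Lib.Helper5.ReflGen Cfsg.Agent.Lib.Helper5.Eichler Cfsg.Agent.Lib.Helper5.SingGeom
  Cfsg.Agent.Lib.Helper5.OmegaGen Cfsg.Agent.Lib.Helper5.OmegaSimple

variable {ι : Type} [Fintype ι] [DecidableEq ι] {F : Type*} [Field F] [Fintype F]
  (Q : QuadraticForm F (ι → F))

/-! Irreducibility of `u^⊥/u` under the Eichler elements fixing `u`. -/

open Module in
/-- common perp of a finite family -/
def perpN {k : ℕ} (v : Fin k → ι → F) : Submodule F (ι → F) :=
  LinearMap.ker (LinearMap.pi (fun i => polarBilin Q (v i)))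

theorem mem_perpN {k : ℕ} (v : Fin k → ι → F) (z : ι → F) :
    z ∈ perpN Q v ↔ ∀ i, polar ⇑Q (v i) z = 0 := by
  unfold perpN
  rw [LinearMap.mem_ker]
  constructor
  · intro h i
    have := congrFun h i
    simpa using this
  · intro h
    ext i
    simpa using h i

open Module in
theorem finrank_perpN {k : ℕ} (v : Fin k → ι → F) :
    Fintype.card ι ≤ finrank F ↥(perpN Q v) + k := by
  have h1 := LinearMap.finrank_range_add_finrank_ker
    (LinearMap.pi (fun i => polarBilin Q (v i)) : (ι → F) →ₗ[F] (Fin k → F))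
  have h2 : finrank F ↥(LinearMap.range
      (LinearMap.pi (fun i => polarBilin Q (v i)) : (ι → F) →ₗ[F] (Fin k → F))) ≤ k := by
    have := Submodule.finrank_le (LinearMap.range
      (LinearMap.pi (fun i => polarBilin Q (v i)) : (ι → F) →ₗ[F] (Fin k → F)))
    rwa [Module.finrank_fin_fun] at this
  rw [Module.finrank_fintype_fun_eq_card] at h1
  unfold perpN
  omega

theorem exists_singular_perpN {k : ℕ} (v : Fin k → ι → F) (hk : k + 3 ≤ Fintype.card ι) :
    ∃ e : ι → F, e ≠ 0 ∧ Q e = 0 ∧ ∀ i, polar ⇑Q (v i) e = 0 := by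
  have h1 := finrank_perpN Q v
  obtain ⟨e, heU, he0, he⟩ := exists_singular_in Q (perpN Q v) (by omega)
  exact ⟨e, he0, he, (mem_perpN Q v e).mp heU⟩

/-- a singular partner of `s` inside `⟨u,f⟩^⊥` -/
theorem exists_partner_in (hQ : (polarBilin Q).Nondegenerate) (u f s : ι → F) (hu : Q u = 0)
    (hf : Q f = 0) (huf : polar ⇑Q u f = 1) (hs0 : s ≠ 0) (hs : Q s = 0)
    (hus : polar ⇑Q u s = 0) (hfs : polar ⇑Q f s = 0) :
    ∃ w : ι → F, Q w = 0 ∧ polar ⇑Q w s = 1 ∧ polar ⇑Q u w = 0 ∧ polar ⇑Q f w = 0 := by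
  obtain ⟨x, hx⟩ := exists_polar_ne Q (ND_of_nondeg Q hQ) s hs0
  have huu : polar ⇑Q u u = 0 := polar_self_of_sing Q u hu
  have hff : polar ⇑Q f f = 0 := polar_self_of_sing Q f hf
  have hss : polar ⇑Q s s = 0 := polar_self_of_sing Q s hs
  have hfu : polar ⇑Q f u = 1 := by rw [polar_comm]; exact huf
  have hsu : polar ⇑Q s u = 0 := by rw [polar_comm]; exact hus
  have hsf : polar ⇑Q s f = 0 := by rw [polar_comm]; exact hfs
  obtain ⟨x', hx'⟩ : ∃ x' : ι → F, x' = (polar ⇑Q s x)⁻¹ •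
      (x - polar ⇑Q f x • u - polar ⇑Q u x • f) := ⟨_, rfl⟩
  have h1 : polar ⇑Q s x' = 1 := by
    rw [hx', polar_smul_right, polar_sub_right, polar_sub_right, polar_smul_right,
      polar_smul_right, hsu, hsf]
    simp only [smul_eq_mul, mul_zero, sub_zero]
    exact inv_mul_cancel₀ hx
  have h2 : polar ⇑Q u x' = 0 := by
    rw [hx', polar_smul_right, polar_sub_right, polar_sub_right, polar_smul_right,
      polar_smul_right, huu, huf]
    simp
  have h3 : polar ⇑Q f x' = 0 := by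
    rw [hx', polar_smul_right, polar_sub_right, polar_sub_right, polar_smul_right,
      polar_smul_right, hff, hfu]
    simp
  refine ⟨x' + (-(Q x')) • s, ?_, ?_, ?_, ?_⟩
  · rw [quad_add', QuadraticMap.map_smul, hs, polar_smul_right, polar_comm (⇑Q) x' s, h1]
    simp
  · rw [polar_add_left, polar_smul_left, hss, polar_comm (⇑Q) x' s, h1]
    simp
  · rw [polar_add_right, polar_smul_right, hus, h2]
    simp
  · rw [polar_add_right, polar_smul_right, hfs, h3]
    simp

theorem irr_step2 (hQ : (polarBilin Q).Nondegenerate) (h7 : 7 ≤ Fintype.card ι) (u f : ι → F)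
    (hu : Q u = 0) (hf : Q f = 0) (huf : polar ⇑Q u f = 1) (S : AddSubgroup (ι → F))
    (hinv : ∀ w y : ι → F, Q w = 0 → polar ⇑Q w y = 0 → polar ⇑Q u w = 0 → polar ⇑Q u y = 0 →
      ∀ z ∈ S, eichlerMap Q w y z ∈ S)
    (s w : ι → F) (hs : Q s = 0) (hw : Q w = 0) (hws : polar ⇑Q w s = 1)
    (hus : polar ⇑Q u s = 0) (hfs : polar ⇑Q f s = 0) (huw : polar ⇑Q u w = 0)
    (hfw : polar ⇑Q f w = 0) (hsS : s ∈ S) :
    ∀ y, polar ⇑Q u y = 0 → polar ⇑Q w y = 0 → y ∈ S := by
  have huu : polar ⇑Q u u = 0 := polar_self_of_sing Q u hu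
  have hww : polar ⇑Q w w = 0 := polar_self_of_sing Q w hw
  have hstar : ∀ y, polar ⇑Q u y = 0 → polar ⇑Q w y = 0 →
      y + (-(polar ⇑Q y s + Q y)) • w ∈ S := by
    intro y huy hwy
    have h1 := hinv w y hw hwy huw huy s hsS
    rw [eichlerMap_apply, hws, one_smul, mul_one] at h1
    have h2 := S.sub_mem h1 hsS
    have h3 : s + y + (-(polar ⇑Q y s + Q y)) • w - s = y + (-(polar ⇑Q y s + Q y)) • w := by abel
    rwa [h3] at h2
  obtain ⟨a, ha0, ha, hperp⟩ := exists_singular_perpN Q ![u, f, w, s] (by omega)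
  have hua : polar ⇑Q u a = 0 := hperp 0
  have hfa : polar ⇑Q f a = 0 := hperp 1
  have hwa : polar ⇑Q w a = 0 := hperp 2
  have hsa : polar ⇑Q s a = 0 := hperp 3
  obtain ⟨x0, hx0⟩ := exists_polar_ne Q (ND_of_nondeg Q hQ) a ha0
  obtain ⟨x, hx⟩ : ∃ x : ι → F, x = (polar ⇑Q a x0)⁻¹ • x0 := ⟨_, rfl⟩
  have hax : polar ⇑Q a x = 1 := by
    rw [hx, polar_smul_right, smul_eq_mul, inv_mul_cancel₀ hx0]
  obtain ⟨b, hb⟩ : ∃ b : ι → F, b = x - polar ⇑Q f x • u - polar ⇑Q u x • f
      - polar ⇑Q s x • w - polar ⇑Q w x • s := ⟨_, rfl⟩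
  have hau : polar ⇑Q a u = 0 := by rw [polar_comm]; exact hua
  have haf : polar ⇑Q a f = 0 := by rw [polar_comm]; exact hfa
  have haw : polar ⇑Q a w = 0 := by rw [polar_comm]; exact hwa
  have has : polar ⇑Q a s = 0 := by rw [polar_comm]; exact hsa
  have hwu : polar ⇑Q w u = 0 := by rw [polar_comm]; exact huw
  have hwf : polar ⇑Q w f = 0 := by rw [polar_comm]; exact hfw
  have hab : polar ⇑Q a b = 1 := by
    rw [hb, polar_sub_right, polar_sub_right, polar_sub_right, polar_sub_right, polar_smul_right,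
      polar_smul_right, polar_smul_right, polar_smul_right, hau, haf, haw, has, hax]
    simp
  have hub : polar ⇑Q u b = 0 := by
    rw [hb, polar_sub_right, polar_sub_right, polar_sub_right, polar_sub_right, polar_smul_right,
      polar_smul_right, polar_smul_right, polar_smul_right, huu, huf, huw, hus]
    simp
  have hwb : polar ⇑Q w b = 0 := by
    rw [hb, polar_sub_right, polar_sub_right, polar_sub_right, polar_sub_right, polar_smul_right,
      polar_smul_right, polar_smul_right, polar_smul_right, hwu, hwf, hww, hws]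
    simp
  have htw : ∀ t : F, t • w ∈ S := by
    intro t
    have e1 := hstar (t • a + b) (by rw [polar_add_right, polar_smul_right, hua, hub]; simp)
      (by rw [polar_add_right, polar_smul_right, hwa, hwb]; simp)
    have e2 := hstar (t • a) (by rw [polar_smul_right, hua, smul_zero])
      (by rw [polar_smul_right, hwa, smul_zero])
    have e3 := hstar b hub hwb
    have e4 := S.sub_mem (S.add_mem e2 e3) e1
    have e5 : t • a + (-(polar ⇑Q (t • a) s + Q (t • a))) • w + (b + (-(polar ⇑Q b s + Q b)) • w)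
        - (t • a + b + (-(polar ⇑Q (t • a + b) s + Q (t • a + b))) • w) = t • w := by
      rw [quad_add' Q (t • a) b, polar_add_left]
      simp only [polar_smul_left, hab, smul_eq_mul, mul_one]
      module
    rwa [e5] at e4
  intro y huy hwy
  have h1 := hstar y huy hwy
  have h2 := S.add_mem h1 (htw (polar ⇑Q y s + Q y))
  have h3 : y + (-(polar ⇑Q y s + Q y)) • w + (polar ⇑Q y s + Q y) • w = y := by module
  rwa [h3] at h2

theorem irr_main (hQ : (polarBilin Q).Nondegenerate) (h7 : 7 ≤ Fintype.card ι) (u : ι → F)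
    (hu0 : u ≠ 0) (hu : Q u = 0) (S : AddSubgroup (ι → F)) (hSu : ∀ t : F, t • u ∈ S)
    (hinv : ∀ w y : ι → F, Q w = 0 → polar ⇑Q w y = 0 → polar ⇑Q u w = 0 → polar ⇑Q u y = 0 →
      ∀ z ∈ S, eichlerMap Q w y z ∈ S)
    (z₀ : ι → F) (hz₀S : z₀ ∈ S) (huz₀ : polar ⇑Q u z₀ = 0) (hz₀ : ¬ ∃ t : F, z₀ = t • u) :
    ∀ x, polar ⇑Q u x = 0 → x ∈ S := by
  have h5 : 5 ≤ Module.finrank F (ι → F) := by
    rw [Module.finrank_fintype_fun_eq_card]; omega
  obtain ⟨f, hf, huf⟩ := exists_partner Q hQ u hu0 hu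
  have hspan : z₀ ∉ Submodule.span F {u} := by
    intro hmem
    obtain ⟨t, ht⟩ := Submodule.mem_span_singleton.mp hmem
    exact hz₀ ⟨t, ht.symm⟩
  obtain ⟨e, he, hue, hez⟩ := exists_singular_perp_not_perp Q hQ h5 u z₀ hu0 hspan
  obtain ⟨w1, hw10, hw1, hperp⟩ := exists_singular_perpN Q ![u, f, z₀, e] (by omega)
  have huw1 : polar ⇑Q u w1 = 0 := hperp 0
  have hfw1 : polar ⇑Q f w1 = 0 := hperp 1
  have hzw1 : polar ⇑Q z₀ w1 = 0 := hperp 2
  have hew1 : polar ⇑Q e w1 = 0 := hperp 3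
  have h1 := hinv w1 e hw1 (by rw [polar_comm]; exact hew1) huw1 hue z₀ hz₀S
  rw [eichlerMap_apply, polar_comm (⇑Q) w1 z₀, hzw1] at h1
  simp only [zero_smul, add_zero, mul_zero, neg_smul] at h1
  have h2 := S.sub_mem hz₀S h1
  have h3 : z₀ - (z₀ + -(polar ⇑Q e z₀ • w1)) = polar ⇑Q e z₀ • w1 := by abel
  rw [h3] at h2
  obtain ⟨s, hsdef⟩ : ∃ s : ι → F, s = polar ⇑Q e z₀ • w1 := ⟨_, rfl⟩
  rw [← hsdef] at h2
  have hs0 : s ≠ 0 := by
    rw [hsdef]
    exact smul_ne_zero hez hw10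
  have hs : Q s = 0 := by rw [hsdef, QuadraticMap.map_smul, hw1, smul_zero]
  have hus : polar ⇑Q u s = 0 := by rw [hsdef, polar_smul_right, huw1, smul_zero]
  have hfs : polar ⇑Q f s = 0 := by rw [hsdef, polar_smul_right, hfw1, smul_zero]
  obtain ⟨w, hw, hws, huw, hfw⟩ := exists_partner_in Q hQ u f s hu hf huf hs0 hs hus hfs
  have hM := irr_step2 Q hQ h7 u f hu hf huf S hinv s w hs hw hws hus hfs huw hfw h2
  have hwS : w ∈ S := hM w huw (polar_self_of_sing Q w hw)
  have hM' := irr_step2 Q hQ h7 u f hu hf huf S hinv w s hw hs (by rw [polar_comm]; exact hws)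
    huw hfw hus hfs hwS
  intro x hx
  have e1 : x = (x - polar ⇑Q w x • s) + polar ⇑Q w x • s := by abel
  rw [e1]
  apply S.add_mem
  · apply hM
    · rw [polar_sub_right, polar_smul_right, hx, hus]; simp
    · rw [polar_sub_right, polar_smul_right, hws]; simp
  · apply hM'
    · rw [polar_smul_right, hus, smul_zero]
    · rw [polar_smul_right, polar_self_of_sing Q s hs, smul_zero]

section grp
variable {Q}

theorem eo_congr (H : Hyp Q) {u u' z z' : ι → F} (h1 : u = u') (h2 : z = z') (hu : Q u = 0)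
    (huz : polar ⇑Q u z = 0) (hu' : Q u' = 0) (huz' : polar ⇑Q u' z' = 0) :
    eo H u z hu huz = eo H u' z' hu' huz' := by
  subst h1; subst h2; rfl

theorem conj_eo (H : Hyp Q) (g : ↥(Omega F ⇑Q)) (u z : ι → F) (hu : Q u = 0)
    (huz : polar ⇑Q u z = 0) :
    g * eo H u z hu huz * g⁻¹ = eo H (act Q g.1 u) (act Q g.1 z) (by rw [quad_act]; exact hu)
      (by rw [polar_act]; exact huz) :=
  Subtype.ext (conj_eich Q g.1 u z hu huz)

theorem eo_mul (H : Hyp Q) (u z z' : ι → F) (hu : Q u = 0) (huz : polar ⇑Q u z = 0)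
    (huz' : polar ⇑Q u z' = 0) :
    eo H u z hu huz * eo H u z' hu huz' =
      eo H u (z + z') hu (by rw [polar_add_right, huz, huz', add_zero]) :=
  Subtype.ext (eich_mul Q u z z' hu huz huz')

theorem eo_inv (H : Hyp Q) (u z : ι → F) (hu : Q u = 0) (huz : polar ⇑Q u z = 0) :
    (eo H u z hu huz)⁻¹ = eo H u (-z) hu (by rw [polar_neg_right, huz, neg_zero]) :=
  Subtype.ext (eich_inv Q u z hu huz)

theorem eo_smul_self (H : Hyp Q) (u : ι → F) (hu : Q u = 0) (t : F) :
    eo H u (t • u) hu (by rw [polar_smul_right, polar_self_of_sing Q u hu, smul_zero]) = 1 :=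
  Subtype.ext (eich_smul_self Q u hu t)

theorem eo_eq_one_iff (H : Hyp Q) (u z : ι → F) (hu : Q u = 0) (huz : polar ⇑Q u z = 0)
    (hu0 : u ≠ 0) : eo H u z hu huz = 1 ↔ ∃ t : F, z = t • u := by
  rw [← eich_eq_one_iff Q H.nondeg u z hu huz hu0]
  constructor
  · intro h; exact congrArg Subtype.val h
  · intro h; exact Subtype.ext h

theorem eo_eq_eo_iff (H : Hyp Q) (u z z' : ι → F) (hu : Q u = 0) (huz : polar ⇑Q u z = 0)
    (huz' : polar ⇑Q u z' = 0) (hu0 : u ≠ 0) :
    eo H u z hu huz = eo H u z' hu huz' ↔ ∃ t : F, z = z' + t • u := by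
  rw [← eich_eq_eich_iff Q H.nondeg u z z' hu huz huz' hu0]
  constructor
  · intro h; exact congrArg Subtype.val h
  · intro h; exact Subtype.ext h

theorem act_eo_fix (H : Hyp Q) (w y u : ι → F) (hw : Q w = 0) (hwy : polar ⇑Q w y = 0)
    (huw : polar ⇑Q u w = 0) (huy : polar ⇑Q u y = 0) :
    act Q (eo H w y hw hwy).1 u = u := by
  rw [eo_val, act_eich_perp Q w y hw hwy u (by rw [polar_comm]; exact huw),
    polar_comm (⇑Q) y u, huy]
  simp

/-- the normal closure of a non-trivial element of an Eichler group under the Eichler elements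
fixing `u` is the whole Eichler group -/
theorem eichSub_le_of_normal (H : Hyp Q) (h7 : 7 ≤ Fintype.card ι) (u : ι → F) (hu0 : u ≠ 0)
    (hu : Q u = 0) (K : Subgroup ↥(Omega F ⇑Q)) (z₀ : ι → F) (huz₀ : polar ⇑Q u z₀ = 0)
    (hz₀ : ¬ ∃ t : F, z₀ = t • u) (hK0 : eo H u z₀ hu huz₀ ∈ K)
    (hK : ∀ (w y : ι → F) (hw : Q w = 0) (hwy : polar ⇑Q w y = 0), polar ⇑Q u w = 0 →
      polar ⇑Q u y = 0 → ∀ k ∈ K, eo H w y hw hwy * k * (eo H w y hw hwy)⁻¹ ∈ K) :
    eichSub Q u hu ≤ K := by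
  let S : AddSubgroup (ι → F) :=
    { carrier := {z | ∃ huz : polar ⇑Q u z = 0, eo H u z hu huz ∈ K}
      zero_mem' := by
        have h0 : polar ⇑Q u 0 = 0 := by simp [polar]
        refine ⟨h0, ?_⟩
        have : eo H u 0 hu h0 = 1 := by
          rw [eo_congr H rfl (zero_smul F u).symm hu h0 hu
            (by rw [polar_smul_right, polar_self_of_sing Q u hu, smul_zero])]
          exact eo_smul_self H u hu 0
        rw [this]
        exact one_mem K
      add_mem' := by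
        rintro a b ⟨ha, hKa⟩ ⟨hb, hKb⟩
        refine ⟨by rw [polar_add_right, ha, hb, add_zero], ?_⟩
        rw [← eo_mul H u a b hu ha hb]
        exact mul_mem hKa hKb
      neg_mem' := by
        rintro a ⟨ha, hKa⟩
        refine ⟨by rw [polar_neg_right, ha, neg_zero], ?_⟩
        rw [← eo_inv H u a hu ha]
        exact inv_mem hKa }
  have hSmem : ∀ z, z ∈ S ↔ ∃ huz : polar ⇑Q u z = 0, eo H u z hu huz ∈ K := fun z => Iff.rfl
  have hSu : ∀ t : F, t • u ∈ S := by
    intro t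
    rw [hSmem]
    refine ⟨by rw [polar_smul_right, polar_self_of_sing Q u hu, smul_zero], ?_⟩
    rw [eo_smul_self H u hu t]
    exact one_mem K
  have hinv : ∀ w y : ι → F, Q w = 0 → polar ⇑Q w y = 0 → polar ⇑Q u w = 0 →
      polar ⇑Q u y = 0 → ∀ z ∈ S, eichlerMap Q w y z ∈ S := by
    intro w y hw hwy huw huy z hz
    rw [hSmem] at hz ⊢
    obtain ⟨huz, hKz⟩ := hz
    have h1 := hK w y hw hwy huw huy _ hKz
    rw [conj_eo] at h1
    have hfix := act_eo_fix H w y u hw hwy huw huy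
    have hz' : act Q (eo H w y hw hwy).1 z = eichlerMap Q w y z := act_eich Q w y hw hwy z
    have hp : polar ⇑Q u (eichlerMap Q w y z) = 0 := by
      rw [← hz']
      have := polar_act Q (eo H w y hw hwy).1 u z
      rw [hfix] at this
      rw [this, huz]
    refine ⟨hp, ?_⟩
    rw [← eo_congr H hfix hz' _ _ hu hp]
    exact h1
  have hall := irr_main Q H.nondeg h7 u hu0 hu S hSu hinv z₀ ((hSmem z₀).mpr ⟨huz₀, hK0⟩)
    huz₀ hz₀
  intro g hg
  obtain ⟨z, huz, rfl⟩ := exists_eo_of_mem H u hu g hg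
  obtain ⟨h', h⟩ := (hSmem z).mp (hall z huz)
  exact h

end grp
end Cfsg.Agent.Lib.Helper9.AOR
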