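import Mathlib
import Cfsg.Prelude
import Cfsg.Agent.Lib.Helper5.OmegaSimple
import Cfsg.Agent.Lib.Helper5.MaxTS
import Cfsg.Agent.Lib.Helper9.AOR4

set_option autoImplicit false
set_option linter.unusedSectionVars false
set_option linter.unusedVariables false
open Cfsg

namespace Cfsg.Agent.Lib.Helper9.AOR

open Matrix QuadraticMap Cfsg.Agent.Lib.Helper5.CartanDieudonne Cfsg.Agent.Lib.Helper5.Refl
  Cfsg.Agent.Lib.Helper5.OrthCard Cfsg.Agent.Lib.Helper5.Siegel Cfsg.Agent.Lib.Helper5.QuadIsom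
  Cfsg.Agent.Lib.Helper5.ReflGen Cfsg.Agent.Lib.Helper5.Eichler Cfsg.Agent.Lib.Helper5.SingGeom
  Cfsg.Agent.Lib.Helper5.OmegaGen Cfsg.Agent.Lib.Helper5.OmegaSimple

variable {ι : Type} [Fintype ι] [DecidableEq ι] {F : Type*} [Field F] [Fintype F]
  (Q : QuadraticForm F (ι → F))

/-! Intersections of Eichler groups; a fixed-point lemma for `p`-groups. -/

section generic

/-- a `p`-group normalising a non-trivial `p`-group centralises a non-trivial element of it -/
theorem exists_commuting_of_pgroups {G : Type*} [Group G] (p : ℕ) [Fact p.Prime]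
    (A B : Subgroup G) [Finite ↥B] (hA : IsPGroup p ↥A) (hB : IsPGroup p ↥B) (hB1 : B ≠ ⊥)
    (h : ∀ a ∈ A, ∀ k ∈ B, a * k * a⁻¹ ∈ B) :
    ∃ x ∈ B, x ≠ 1 ∧ ∀ a ∈ A, a * x = x * a := by
  letI act : MulAction ↥A ↥B :=
    { smul := fun a k => ⟨a.1 * k.1 * a.1⁻¹, h a.1 a.2 k.1 k.2⟩
      one_smul := fun k => by
        apply Subtype.ext
        show (1 : G) * k.1 * (1 : G)⁻¹ = k.1
        group
      mul_smul := fun a a' k => by
        apply Subtype.ext
        show (a.1 * a'.1) * k.1 * (a.1 * a'.1)⁻¹ = a.1 * (a'.1 * k.1 * a'.1⁻¹) * a.1⁻¹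
        group }
  have hsmul : ∀ (a : ↥A) (k : ↥B), ((a • k : ↥B) : G) = a.1 * k.1 * a.1⁻¹ := fun a k => rfl
  have hdvd : p ∣ Nat.card ↥B := by
    obtain ⟨n, hn⟩ := IsPGroup.iff_card.mp hB
    rw [hn]
    have hn0 : n ≠ 0 := by
      rintro rfl
      rw [pow_zero] at hn
      exact hB1 (Subgroup.card_eq_one.mp hn)
    exact dvd_pow_self p hn0
  have h1 : (1 : ↥B) ∈ MulAction.fixedPoints ↥A ↥B := by
    intro a
    apply Subtype.ext
    rw [hsmul]
    simp
  obtain ⟨x, hx, hx1⟩ := hA.exists_fixed_point_of_prime_dvd_card_of_fixed_point ↥B hdvd h1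
  refine ⟨x.1, x.2, ?_, ?_⟩
  · intro h
    exact hx1 (Subtype.ext h.symm)
  · intro a ha
    have := congrArg Subtype.val (hx ⟨a, ha⟩)
    rw [hsmul] at this
    calc a * x.1 = a * x.1 * a⁻¹ * a := by group
      _ = x.1 * a := by rw [this]

end generic

section inter
variable {Q}

/-- a long root element belongs to two Eichler groups -/
theorem eo_swap (H : Hyp Q) (u u' : ι → F) (hu : Q u = 0) (hu' : Q u' = 0)
    (huu' : polar ⇑Q u u' = 0) (t : F) :
    eo H u (t • u') hu (by rw [polar_smul_right, huu', smul_zero]) =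
      eo H u' ((-t) • u) hu' (by rw [polar_smul_right, polar_comm, huu', smul_zero]) := by
  apply Subtype.ext
  apply ext_act
  intro x
  rw [eo_val, eo_val, act_eich', act_eich', QuadraticMap.map_smul, QuadraticMap.map_smul, hu, hu']
  simp only [polar_smul_left, polar_neg_left, smul_eq_mul, mul_zero, zero_mul, add_zero, neg_smul,
    smul_smul]
  module

/-- elements common to two different Eichler groups are long root elements -/
theorem eichSub_inf (H : Hyp Q) (u u' : ι → F) (hu0 : u ≠ 0) (hu0' : u' ≠ 0) (hu : Q u = 0)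
    (hu' : Q u' = 0) (hne : ¬ ∃ t : F, u' = t • u) (g : ↥(Omega F ⇑Q))
    (hg : g ∈ eichSub Q u hu) (hg' : g ∈ eichSub Q u' hu') :
    g = 1 ∨ (polar ⇑Q u u' = 0 ∧ ∃ (t : F) (h : polar ⇑Q u (t • u') = 0),
      g = eo H u (t • u') hu h) := by
  obtain ⟨z, huz, rfl⟩ := exists_eo_of_mem H u hu g hg
  obtain ⟨z', huz', hzz'⟩ := exists_eo_of_mem H u' hu' _ hg'
  by_cases hz : ∃ t : F, z = t • u
  · left
    exact (eo_eq_one_iff H u z hu huz hu0).mpr hz
  · right
    have hne' : ¬ ∃ t : F, u = t • u' := by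
      rintro ⟨t, ht⟩
      have ht0 : t ≠ 0 := by
        rintro rfl
        rw [zero_smul] at ht
        exact hu0 ht
      exact hne ⟨t⁻¹, by rw [ht, smul_smul, inv_mul_cancel₀ ht0, one_smul]⟩
    have hz' : ¬ ∃ t : F, z' = t • u' := by
      intro h
      have h1 := (eo_eq_one_iff H u' z' hu' huz' hu0').mpr h
      rw [← hzz'] at h1
      exact hz ((eo_eq_one_iff H u z hu huz hu0).mp h1)
    have hfix' : act Q (eich Q u z hu huz) u' = (1 : F) • u' := by
      have := congrArg (fun k : ↥(Omega F ⇑Q) => act Q k.1 u') hzz'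
      simp only [eo_val] at this
      rw [this, one_smul]
      exact act_eich_self u' z' hu' huz'
    have hfix : act Q (eich Q u' z' hu' huz') u = (1 : F) • u := by
      have := congrArg (fun k : ↥(Omega F ⇑Q) => act Q k.1 u) hzz'
      simp only [eo_val] at this
      rw [← this, one_smul]
      exact act_eich_self u z hu huz
    obtain ⟨h1, h2⟩ := eich_fix_imp Q u z hu huz hu0 hz u' 1 hfix'
    obtain ⟨h1', h2'⟩ := eich_fix_imp Q u' z' hu' huz' hu0' hz' u 1 hfix
    have hzu' : polar ⇑Q z u' = 0 := h2.resolve_left hne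
    have hz'u : polar ⇑Q z' u = 0 := h2'.resolve_left hne'
    refine ⟨h1, ?_⟩
    have hli : LinearIndependent F ![u, u'] := by
      rw [LinearIndependent.pair_iff' hu0]
      intro a ha
      exact hne ⟨a, ha.symm⟩
    obtain ⟨x, hx⟩ := exists_polar_eq Q H.nondeg ![u, u'] hli ![1, 0]
    have hx0 : polar ⇑Q u x = 1 := hx 0
    have hx1 : polar ⇑Q u' x = 0 := hx 1
    have h3 := congrArg (fun k : ↥(Omega F ⇑Q) => act Q k.1 x) hzz'
    simp only [eo_val] at h3
    rw [act_eich', act_eich_perp Q u' z' hu' huz' x hx1, hx0] at h3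
    have h4 : z = (polar ⇑Q z x + Q z) • u + (-(polar ⇑Q z' x)) • u' := by
      linear_combination (norm := module) h3
    refine ⟨-(polar ⇑Q z' x), by rw [polar_smul_right, h1, smul_zero], ?_⟩
    rw [eo_eq_eo_iff H u z _ hu huz _ hu0]
    exact ⟨polar ⇑Q z x + Q z, h4.trans (by abel)⟩

theorem card_inf_le (H : Hyp Q) (u u' : ι → F) (hu0 : u ≠ 0) (hu0' : u' ≠ 0) (hu : Q u = 0)
    (hu' : Q u' = 0) (hne : ¬ ∃ t : F, u' = t • u) :
    Nat.card ↥(eichSub Q u hu ⊓ eichSub Q u' hu') ≤ Fintype.card F := by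
  classical
  have hex : ∀ g : ↥(eichSub Q u hu ⊓ eichSub Q u' hu'), ∃ t : F,
      ∀ h : polar ⇑Q u (t • u') = 0, g.1 = eo H u (t • u') hu h := by
    intro g
    rcases eichSub_inf H u u' hu0 hu0' hu hu' hne g.1 g.2.1 g.2.2 with h | ⟨h1, t, h, hg⟩
    · refine ⟨0, fun h' => ?_⟩
      rw [h]
      symm
      rw [eo_eq_one_iff H u _ hu h' hu0]
      exact ⟨0, by simp⟩
    · exact ⟨t, fun _ => hg⟩
  choose φ hφ using hex
  rw [← Nat.card_eq_fintype_card]
  apply Nat.card_le_card_of_injective φ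
  intro g g' hgg
  have h0 : ∀ t : F, polar ⇑Q u (t • u') = 0 → polar ⇑Q u (t • u') = 0 := fun t h => h
  by_cases hp : polar ⇑Q u u' = 0
  · have h1 := hφ g (by rw [polar_smul_right, hp, smul_zero])
    have h2 := hφ g' (by rw [polar_smul_right, hp, smul_zero])
    apply Subtype.ext
    rw [h1, h2]
    exact eo_congr H rfl (by rw [hgg]) _ _ _ _
  · have h1 : ∀ k : ↥(eichSub Q u hu ⊓ eichSub Q u' hu'), k.1 = 1 := by
      intro k
      rcases eichSub_inf H u u' hu0 hu0' hu hu' hne k.1 k.2.1 k.2.2 with h | ⟨h1, -⟩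
      · exact h
      · exact absurd h1 hp
    apply Subtype.ext
    rw [h1 g, h1 g']

end inter
end Cfsg.Agent.Lib.Helper9.AOR
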