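import Mathlib
import Cfsg.Prelude
import Cfsg.Agent.Lib.Helper5.OmegaSimple
import Cfsg.Agent.Lib.Helper5.MaxTS
import Cfsg.Agent.Lib.Helper9.AOR5

set_option autoImplicit false
set_option linter.unusedSectionVars false
set_option linter.unusedVariables false
open Cfsg

namespace Cfsg.Agent.Lib.Helper9.AOR

open Matrix QuadraticMap Cfsg.Agent.Lib.Helper5.CartanDieudonne Cfsg.Agent.Lib.Helper5.Refl
  Cfsg.Agent.Lib.Helper5.OrthCard Cfsg.Agent.Lib.Helper5.Siegel Cfsg.Agent.Lib.Helper5.QuadIsom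
  Cfsg.Agent.Lib.Helper5.ReflGen Cfsg.Agent.Lib.Helper5.Eichler Cfsg.Agent.Lib.Helper5.SingGeom
  Cfsg.Agent.Lib.Helper5.OmegaGen Cfsg.Agent.Lib.Helper5.OmegaSimple

variable {ι : Type} [Fintype ι] [DecidableEq ι] {F : Type*} [Field F] [Fintype F]
  (Q : QuadraticForm F (ι → F))

/-! Characterisation of the Eichler groups inside `Ω`. -/

section chr
open scoped LinearAlgebra.Projectivization Pointwise
open Cfsg.Agent.Lib.Helper5.MaxTS Module
attribute [local instance 2000] omSMul omAction omSMulComm singSMul singAction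

variable {Q}

theorem eo_pow_char (p : ℕ) [CharP F p] (H : Hyp Q) (u z : ι → F) (hu : Q u = 0)
    (huz : polar ⇑Q u z = 0) : (eo H u z hu huz) ^ p = 1 := by
  apply Subtype.ext
  rw [SubmonoidClass.coe_pow]
  exact eich_pow_char Q p u z hu huz

instance finiteOmega : Finite ↥(Omega F ⇑Q) := inferInstance

theorem exists_central_eo (p : ℕ) [Fact p.Prime] [CharP F p] (H : Hyp Q)
    (A : Subgroup ↥(Omega F ⇑Q)) (hA : IsPGroup p ↥A) (b : ι → F) (hb0 : b ≠ 0) (hb : Q b = 0)
    (hfix : ∀ a ∈ A, act Q a.1 b = b) :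
    ∃ (z : ι → F) (hbz : polar ⇑Q b z = 0), (¬ ∃ t : F, z = t • b) ∧
      ∀ a ∈ A, a * eo H b z hb hbz = eo H b z hb hbz * a := by
  have hB1 : eichSub Q b hb ≠ ⊥ := by
    obtain ⟨z0, h1, -, h3⟩ := exists_not_smul H b hb
    intro hbot
    have := eo_mem H b z0 hb h1
    rw [hbot, Subgroup.mem_bot, eo_eq_one_iff H b z0 hb h1 hb0] at this
    exact h3 this
  obtain ⟨x, hxB, hx1, hxc⟩ := exists_commuting_of_pgroups p A (eichSub Q b hb) hA
    (isPGroup_eichSub Q p b hb) hB1 (by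
      intro a ha k hk
      obtain ⟨z, hz, rfl⟩ := exists_eo_of_mem H b hb k hk
      rw [conj_eo]
      have hp : polar ⇑Q b (act Q a.1 z) = 0 := by
        have := polar_act Q a.1 b z
        rw [hfix a ha] at this
        rw [this, hz]
      rw [eo_congr H (hfix a ha) rfl _ _ hb hp]
      exact eo_mem H b _ hb hp)
  obtain ⟨z, hz, rfl⟩ := exists_eo_of_mem H b hb x hxB
  refine ⟨z, hz, ?_, hxc⟩
  intro h
  exact hx1 ((eo_eq_one_iff H b z hb hz hb0).mpr h)

theorem fixed_perp (p : ℕ) [Fact p.Prime] [CharP F p] (H : Hyp Q)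
    (A : Subgroup ↥(Omega F ⇑Q)) (hA : IsPGroup p ↥A)
    (hC : ∀ g : ↥(Omega F ⇑Q), (∀ a ∈ A, a * g = g * a) → g ^ p = 1 → g ∈ A)
    (b b' : ι → F) (hb0 : b ≠ 0) (hb0' : b' ≠ 0) (hb : Q b = 0) (hb' : Q b' = 0)
    (hfix : ∀ a ∈ A, act Q a.1 b = b) (hfix' : ∀ a ∈ A, act Q a.1 b' = b') :
    polar ⇑Q b b' = 0 := by
  obtain ⟨z, hbz, hz, hc⟩ := exists_central_eo p H A hA b hb0 hb hfix
  have hmem := hC _ hc (eo_pow_char p H b z hb hbz)
  have h1 := hfix' _ hmem
  rw [eo_val] at h1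
  exact (eich_fix_imp Q b z hb hbz hb0 hz b' 1 (by rw [h1, one_smul])).1

/-- the span of the singular vectors fixed by `A` -/
def fixSp (A : Subgroup ↥(Omega F ⇑Q)) : Submodule F (ι → F) :=
  Submodule.span F {v | Q v = 0 ∧ ∀ a ∈ A, act Q a.1 v = v}

theorem fixSp_fixed (A : Subgroup ↥(Omega F ⇑Q)) (y : ι → F) (hy : y ∈ fixSp A)
    (a : ↥(Omega F ⇑Q)) (ha : a ∈ A) : act Q a.1 y = y := by
  unfold fixSp at hy
  induction hy using Submodule.span_induction with
  | mem v hv => exact hv.2 a ha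
  | zero => exact mulVec_zero _
  | add x y _ _ hx hy => rw [act_add, hx, hy]
  | smul c x _ hx => rw [act_smul, hx]

theorem polar_zero_left' (x : ι → F) : polar ⇑Q 0 x = 0 := by simp [polar]

theorem polar_zero_right' (x : ι → F) : polar ⇑Q x 0 = 0 := by simp [polar]

theorem fixSp_polar (A : Subgroup ↥(Omega F ⇑Q))
    (hperp : ∀ b b' : ι → F, b ≠ 0 → b' ≠ 0 → Q b = 0 → Q b' = 0 →
      (∀ a ∈ A, act Q a.1 b = b) → (∀ a ∈ A, act Q a.1 b' = b') → polar ⇑Q b b' = 0)
    (y y' : ι → F) (hy : y ∈ fixSp A) (hy' : y' ∈ fixSp A) : polar ⇑Q y y' = 0 := by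
  have hgen : ∀ v : ι → F, Q v = 0 → (∀ a ∈ A, act Q a.1 v = v) → ∀ y' ∈ fixSp A,
      polar ⇑Q v y' = 0 := by
    intro v hv hvf y' hy'
    unfold fixSp at hy'
    induction hy' using Submodule.span_induction with
    | mem v' hv' =>
      by_cases h0 : v = 0
      · rw [h0, polar_zero_left']
      by_cases h0' : v' = 0
      · rw [h0', polar_zero_right']
      exact hperp v v' h0 h0' hv hv'.1 hvf hv'.2
    | zero => exact polar_zero_right' v
    | add x y _ _ hx hy => rw [polar_add_right, hx, hy, add_zero]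
    | smul c x _ hx => rw [polar_smul_right, hx, smul_zero]
  unfold fixSp at hy
  induction hy using Submodule.span_induction with
  | mem v hv => exact hgen v hv.1 hv.2 y' hy'
  | zero => exact polar_zero_left' y'
  | add x y _ _ hx hy => rw [polar_add_left, hx, hy, add_zero]
  | smul c x _ hx => rw [polar_smul_left, hx, smul_zero]

theorem fixSp_sing (A : Subgroup ↥(Omega F ⇑Q))
    (hpol : ∀ y y' : ι → F, y ∈ fixSp A → y' ∈ fixSp A → polar ⇑Q y y' = 0)
    (y : ι → F) (hy : y ∈ fixSp A) : Q y = 0 := by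
  have hy2 := hy
  unfold fixSp at hy
  induction hy using Submodule.span_induction with
  | mem v hv => exact hv.1
  | zero => exact map_zero Q
  | add x y hx' hy' hx hy =>
    rw [quad_add', hx hx', hy hy', hpol x y hx' hy']
    simp
  | smul c x hx' hx => rw [QuadraticMap.map_smul, hx hx', smul_zero]

theorem fix_of_normalizer (A : Subgroup ↥(Omega F ⇑Q)) (g : ↥(Omega F ⇑Q))
    (hg : g ∈ Subgroup.normalizer (A : Set ↥(Omega F ⇑Q))) (v : ι → F) (hv : ∀ a ∈ A, act Q a.1 v = v) :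
    ∀ a ∈ A, act Q a.1 (act Q g.1 v) = act Q g.1 v := by
  intro a ha
  have h1 : g⁻¹ * a * g ∈ A := by
    rw [Subgroup.mem_normalizer_iff] at hg
    rw [hg (g⁻¹ * a * g)]
    have : g * (g⁻¹ * a * g) * g⁻¹ = a := by group
    rw [this]
    exact ha
  have h2 := hv _ h1
  have h3 : a.1 * g.1 = g.1 * (g⁻¹ * a * g : ↥(Omega F ⇑Q)).1 := by
    have h4 : a * g = g * (g⁻¹ * a * g) := by group
    have h5 := congrArg Subtype.val h4
    rwa [Subgroup.coe_mul, Subgroup.coe_mul] at h5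
  rw [← act_mul, h3, act_mul, h2]

theorem fixSp_normalizer (A : Subgroup ↥(Omega F ⇑Q)) (g : ↥(Omega F ⇑Q))
    (hg : g ∈ Subgroup.normalizer (A : Set ↥(Omega F ⇑Q))) (y : ι → F) (hy : y ∈ fixSp A) : act Q g.1 y ∈ fixSp A := by
  have hy2 := hy
  unfold fixSp at hy
  induction hy using Submodule.span_induction with
  | mem v hv =>
    exact Submodule.subset_span ⟨by rw [quad_act]; exact hv.1, fix_of_normalizer A g hg v hv.2⟩
  | zero =>
    have : act Q g.1 0 = 0 := mulVec_zero _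
    rw [this]
    exact Submodule.zero_mem _
  | add x y hx' hy' hx hy =>
    rw [act_add]
    exact Submodule.add_mem _ (hx hx') (hy hy')
  | smul c x hx' hx =>
    rw [act_smul]
    exact Submodule.smul_mem _ c (hx hx')

end chr
end Cfsg.Agent.Lib.Helper9.AOR
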