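import Mathlib
import Cfsg.Prelude
import Cfsg.Agent.Lib.Helper5.OmegaSimple
import Cfsg.Agent.Lib.Helper5.MaxTS
import Cfsg.Agent.Lib.Helper9.AOR6

set_option autoImplicit false
set_option linter.unusedSectionVars false
set_option linter.unusedVariables false
open Cfsg

namespace Cfsg.Agent.Lib.Helper9.AOR

open Matrix QuadraticMap Cfsg.Agent.Lib.Helper5.CartanDieudonne Cfsg.Agent.Lib.Helper5.Refl
  Cfsg.Agent.Lib.Helper5.OrthCard Cfsg.Agent.Lib.Helper5.Siegel Cfsg.Agent.Lib.Helper5.QuadIsom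
  Cfsg.Agent.Lib.Helper5.ReflGen Cfsg.Agent.Lib.Helper5.Eichler Cfsg.Agent.Lib.Helper5.SingGeom
  Cfsg.Agent.Lib.Helper5.OmegaGen Cfsg.Agent.Lib.Helper5.OmegaSimple

variable {ι : Type} [Fintype ι] [DecidableEq ι] {F : Type*} [Field F] [Fintype F]
  (Q : QuadraticForm F (ι → F))

/-! Characterisation of the Eichler groups inside `Ω`: main theorem. -/

section chr
open scoped LinearAlgebra.Projectivization Pointwise
open Cfsg.Agent.Lib.Helper5.MaxTS Module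
attribute [local instance 2000] omSMul omAction omSMulComm singSMul singAction

variable {Q}

theorem commute_of_conj {G : Type*} [Group G] (a e : G) (h : a * e * a⁻¹ = e) : a * e = e * a := by
  calc a * e = a * e * a⁻¹ * a := by group
    _ = e * a := by rw [h]

theorem char_case_one (p : ℕ) [Fact p.Prime] [CharP F p] (H : Hyp Q)
    (A : Subgroup ↥(Omega F ⇑Q)) (hA : IsPGroup p ↥A)
    (hcard : ∀ (u : ι → F) (hu : Q u = 0), u ≠ 0 → Nat.card ↥(eichSub Q u hu) ≤ Nat.card ↥A)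
    (hC : ∀ g : ↥(Omega F ⇑Q), (∀ a ∈ A, a * g = g * a) → g ^ p = 1 → g ∈ A)
    (hN : ∀ x ∈ A, x ≠ 1 → ∀ K : Subgroup ↥(Omega F ⇑Q), x ∈ K →
      (∀ g ∈ Subgroup.normalizer (A : Set ↥(Omega F ⇑Q)), ∀ k ∈ K, g * k * g⁻¹ ∈ K) → A ≤ K)
    (b : ι → F) (hb0 : b ≠ 0) (hb : Q b = 0) (hfixb : ∀ a ∈ A, act Q a.1 b = b)
    (hcase : ∀ v : ι → F, Q v = 0 → (∀ a ∈ A, act Q a.1 v = v) → ∃ t : F, v = t • b) :
    A = eichSub Q b hb := by
  obtain ⟨z, hbz, hz, hc⟩ := exists_central_eo p H A hA b hb0 hb hfixb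
  have hxA := hC _ hc (eo_pow_char p H b z hb hbz)
  have hx1 : eo H b z hb hbz ≠ 1 := fun h => hz ((eo_eq_one_iff H b z hb hbz hb0).mp h)
  have hle : A ≤ eichSub Q b hb := by
    apply hN _ hxA hx1 _ (eo_mem H b z hb hbz)
    intro g hg k hk
    have hgb : Q (act Q g.1 b) = 0 := by rw [quad_act]; exact hb
    obtain ⟨t, ht⟩ := hcase _ hgb (fix_of_normalizer A g hg b hfixb)
    have ht0 : t ≠ 0 := by
      rintro rfl
      rw [zero_smul] at ht
      exact (smul_ne_zero_iff_ne g).mpr hb0 ht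
    obtain ⟨z', hz', rfl⟩ := exists_eo_of_mem H b hb k hk
    rw [conj_eo]
    have hmem := eo_mem H (act Q g.1 b) (act Q g.1 z') hgb (by rw [polar_act]; exact hz')
    have hQtb : Q (t • b) = 0 := by rw [QuadraticMap.map_smul, hb, smul_zero]
    rw [eichSub_congr Q ht hgb hQtb, eichSub_smul Q t ht0 b hb] at hmem
    exact hmem
  exact Subgroup.eq_of_le_of_card_ge hle (hcard b hb hb0)

theorem char_case_two (p : ℕ) [Fact p.Prime] [CharP F p] (H : Hyp Q) (h7 : 7 ≤ Fintype.card ι)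
    (hLag : ∀ Y : Submodule F (ι → F), (∀ y ∈ Y, Q y = 0) → orth Q Y ≤ Y → 10 ≤ Fintype.card ι)
    (A : Subgroup ↥(Omega F ⇑Q)) (hA : IsPGroup p ↥A)
    (hC : ∀ g : ↥(Omega F ⇑Q), (∀ a ∈ A, a * g = g * a) → g ^ p = 1 → g ∈ A)
    (hN : ∀ x ∈ A, x ≠ 1 → ∀ K : Subgroup ↥(Omega F ⇑Q), x ∈ K →
      (∀ g ∈ Subgroup.normalizer (A : Set ↥(Omega F ⇑Q)), ∀ k ∈ K, g * k * g⁻¹ ∈ K) → A ≤ K)
    (hI : ∀ g : ↥(Omega F ⇑Q), g ∈ Subgroup.normalizer (A : Set ↥(Omega F ⇑Q)) ∨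
      Nat.card ↥(A ⊓ MulAut.conj g • A) ≤ Fintype.card F)
    (b b' : ι → F) (hb0 : b ≠ 0) (hb : Q b = 0) (hb' : Q b' = 0)
    (hfixb : ∀ a ∈ A, act Q a.1 b = b) (hfixb' : ∀ a ∈ A, act Q a.1 b' = b')
    (hnb' : ¬ ∃ t : F, b' = t • b) : False := by
  have hb0' : b' ≠ 0 := by
    rintro rfl
    exact hnb' ⟨0, by simp⟩
  have hperp := fun b b' h1 h2 h3 h4 h5 h6 => fixed_perp p H A hA hC b b' h1 h2 h3 h4 h5 h6
  have hbb' : polar ⇑Q b b' = 0 := hperp b b' hb0 hb0' hb hb' hfixb hfixb'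
  obtain ⟨Y, hYdef⟩ : ∃ Y : Submodule F (ι → F), Y = fixSp A := ⟨_, rfl⟩
  have hbY : b ∈ Y := by rw [hYdef]; exact Submodule.subset_span ⟨hb, hfixb⟩
  have hb'Y : b' ∈ Y := by rw [hYdef]; exact Submodule.subset_span ⟨hb', hfixb'⟩
  have hYpolar : ∀ y y' : ι → F, y ∈ Y → y' ∈ Y → polar ⇑Q y y' = 0 := by
    intro y y' hy hy'
    rw [hYdef] at hy hy'
    exact fixSp_polar A hperp y y' hy hy'
  have hYsing : ∀ y ∈ Y, Q y = 0 := by
    intro y hy
    rw [hYdef] at hy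
    exact fixSp_sing A (fun y y' h h' => fixSp_polar A hperp y y' h h') y hy
  have hYfix : ∀ y ∈ Y, ∀ a ∈ A, act Q a.1 y = y := by
    intro y hy a ha
    rw [hYdef] at hy
    exact fixSp_fixed A y hy a ha
  have hYnorm : ∀ g ∈ Subgroup.normalizer (A : Set ↥(Omega F ⇑Q)), ∀ y ∈ Y,
      act Q g.1 y ∈ Y := by
    intro g hg y hy
    rw [hYdef] at hy ⊢
    exact fixSp_normalizer A g hg y hy
  have hinvact : ∀ (g : ↥(Omega F ⇑Q)) (y : ι → F),
      act Q g.1 (act Q (g⁻¹ : ↥(Omega F ⇑Q)).1 y) = y := by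
    intro g y
    rw [← act_mul, ← Subgroup.coe_mul, mul_inv_cancel]
    exact act_one' Q y
  have horthnorm : ∀ g ∈ Subgroup.normalizer (A : Set ↥(Omega F ⇑Q)), ∀ y ∈ orth Q Y,
      act Q g.1 y ∈ orth Q Y := by
    intro g hg y hy
    rw [mem_orth] at hy ⊢
    intro w hw
    have h1 := hYnorm g⁻¹ (inv_mem hg) w hw
    have h2 := hy _ h1
    have h3 := polar_act Q g.1 (act Q (g⁻¹ : ↥(Omega F ⇑Q)).1 w) y
    rw [h2, hinvact g w] at h3
    exact h3
  let K : Subgroup ↥(Omega F ⇑Q) :=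
    { carrier := {g | ∀ y ∈ orth Q Y, act Q g.1 y = y}
      one_mem' := fun y _ => act_one' Q y
      mul_mem' := by
        intro g h hg hh y hy
        show act Q (g * h).1 y = y
        rw [Subgroup.coe_mul, act_mul, hh y hy, hg y hy]
      inv_mem' := by
        intro g hg y hy
        show act Q (g⁻¹ : ↥(Omega F ⇑Q)).1 y = y
        have h1 := hg y hy
        have h2 := hinvact g⁻¹ y
        rw [inv_inv, h1] at h2
        exact h2 }
  have hKmem : ∀ g, g ∈ K ↔ ∀ y ∈ orth Q Y, act Q g.1 y = y := fun g => Iff.rfl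
  have hxc : ∀ a ∈ A, a * eo H b b' hb hbb' = eo H b b' hb hbb' * a := by
    intro a ha
    apply commute_of_conj
    rw [conj_eo]
    exact eo_congr H (hfixb a ha) (hfixb' a ha) _ _ _ _
  have hxA := hC _ hxc (eo_pow_char p H b b' hb hbb')
  have hx1 : eo H b b' hb hbb' ≠ 1 := fun h => hnb' ((eo_eq_one_iff H b b' hb hbb' hb0).mp h)
  have hxK : eo H b b' hb hbb' ∈ K := by
    rw [hKmem]
    intro y hy
    rw [mem_orth] at hy
    rw [eo_val, act_eich_perp Q b b' hb hbb' y (hy b hbY), hy b' hb'Y]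
    simp
  have hKnorm : ∀ g ∈ Subgroup.normalizer (A : Set ↥(Omega F ⇑Q)), ∀ k ∈ K,
      g * k * g⁻¹ ∈ K := by
    intro g hg k hk
    rw [hKmem] at hk ⊢
    intro y hy
    have h1 := horthnorm g⁻¹ (inv_mem hg) y hy
    have h2 := hk _ h1
    rw [Subgroup.coe_mul, Subgroup.coe_mul, act_mul, act_mul, h2]
    exact hinvact g y
  have hAK : A ≤ K := hN _ hxA hx1 K hxK hKnorm
  have hcz : ∀ (c z : ι → F) (hc : Q c = 0) (hcz : polar ⇑Q c z = 0), c ∈ Y → z ∈ orth Q Y →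
      eo H c z hc hcz ∈ A := by
    intro c z hc hcz hcY hzY
    apply hC _ _ (eo_pow_char p H c z hc hcz)
    intro a ha
    apply commute_of_conj
    rw [conj_eo]
    exact eo_congr H (hYfix c hcY a ha) ((hKmem a).mp (hAK ha) z hzY) _ _ _ _
  have hoo : ∀ z ∈ orth Q Y, ∀ y ∈ orth Q Y, polar ⇑Q z y = 0 := by
    intro z hz y hy
    have hbz : polar ⇑Q b z = 0 := (mem_orth Q Y z).mp hz b hbY
    have hby : polar ⇑Q b y = 0 := (mem_orth Q Y y).mp hy b hbY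
    have hmem := (hKmem _).mp (hAK (hcz b z hb hbz hbY hz)) y hy
    rw [eo_val, act_eich_perp Q b z hb hbz y hby] at hmem
    have h1 : polar ⇑Q z y • b = 0 := by linear_combination (norm := module) -hmem
    rcases smul_eq_zero.mp h1 with h | h
    · exact h
    · exact absurd h hb0
  have hYle : Y ≤ orth Q Y := le_orth_of_ts Q Y hYsing
  have hfr1 := finrank_orth Q H.nondeg Y
  have hfr2 := finrank_orth Q H.nondeg (orth Q Y)
  have hoole : orth Q Y ≤ orth Q (orth Q Y) := by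
    intro z hz
    rw [mem_orth]
    intro w hw
    exact hoo w hw z hz
  have hn : finrank F (ι → F) = Fintype.card ι := Module.finrank_fintype_fun_eq_card F
  have h4 := Submodule.finrank_le Y
  have hYeq : Y = orth Q Y := by
    apply Submodule.eq_of_le_of_finrank_le hYle
    have h3 := Submodule.finrank_mono hoole
    omega
  have h10 := hLag Y hYsing (le_of_eq hYeq.symm)
  have hfrY : finrank F ↥(orth Q Y) = finrank F ↥Y := by rw [← hYeq]
  have hk5 : 5 ≤ finrank F ↥Y := by omega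
  obtain ⟨w, hw, hbw⟩ := exists_partner Q H.nondeg b hb0 hb
  obtain ⟨z, hz, hwz, hbz⟩ := exists_aniso_perp2 Q H.nondeg H.finrank5 w b
  have hwb : polar ⇑Q w b = 1 := by rw [polar_comm]; exact hbw
  have hzb : polar ⇑Q z b = 0 := by rw [polar_comm]; exact hbz
  have hgN : eo H w z hw hwz ∉ Subgroup.normalizer (A : Set ↥(Omega F ⇑Q)) := by
    intro hg
    have h1 : act Q (eo H w z hw hwz).1 b ∈ Y := hYnorm _ hg b hbY
    have h2 := hYpolar b _ hbY h1
    rw [eo_val, act_eich', hwb, hzb, polar_add_right, polar_add_right, polar_smul_right,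
      polar_smul_right, polar_self_of_sing Q b hb, hbz, hbw] at h2
    simp at h2
    exact hz h2
  have hY2 : 3 ≤ finrank F ↥(Y ⊓ perp2 Q w z) := by
    have h1 := Submodule.finrank_sup_add_finrank_inf_eq Y (perp2 Q w z)
    have h2 := finrank_perp2 Q w z
    have h3 := Submodule.finrank_le (Y ⊔ perp2 Q w z)
    omega
  obtain ⟨c, hcli⟩ := exists_linearIndependent_of_le_finrank hY2
  have hcY : ∀ i, (c i).1 ∈ Y := fun i => (c i).2.1
  have hcP : ∀ i, polar ⇑Q w (c i).1 = 0 ∧ polar ⇑Q z (c i).1 = 0 :=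
    fun i => (mem_perp2 Q w z _).mp (c i).2.2
  have hli : LinearIndependent F (fun i => ((c i : ↥(Y ⊓ perp2 Q w z)) : ι → F)) :=
    hcli.map' (Submodule.subtype _) (Submodule.ker_subtype _)
  obtain ⟨c0, hc0⟩ : ∃ c0 : ι → F, c0 = (c 0).1 := ⟨_, rfl⟩
  obtain ⟨c1, hc1⟩ : ∃ c1 : ι → F, c1 = (c 1).1 := ⟨_, rfl⟩
  obtain ⟨c2, hc2⟩ : ∃ c2 : ι → F, c2 = (c 2).1 := ⟨_, rfl⟩
  have hc0Y : c0 ∈ Y := by rw [hc0]; exact hcY 0
  have hc1Y : c1 ∈ Y := by rw [hc1]; exact hcY 1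
  have hc2Y : c2 ∈ Y := by rw [hc2]; exact hcY 2
  have hQc0 : Q c0 = 0 := hYsing c0 hc0Y
  have hc00 : c0 ≠ 0 := by
    rw [hc0]
    exact hli.ne_zero 0
  have hvY : ∀ s t : F, s • c1 + t • c2 ∈ Y := fun s t =>
    Y.add_mem (Y.smul_mem s hc1Y) (Y.smul_mem t hc2Y)
  have hpol : ∀ s t : F, polar ⇑Q c0 (s • c1 + t • c2) = 0 := fun s t =>
    hYpolar c0 _ hc0Y (hvY s t)
  have hfixg : ∀ x : ι → F, polar ⇑Q w x = 0 → polar ⇑Q z x = 0 →
      act Q (eo H w z hw hwz).1 x = x := by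
    intro x h1 h2
    rw [eo_val, act_eich', h1, h2]
    simp
  have hgc0 : act Q (eo H w z hw hwz).1 c0 = c0 := by
    rw [hc0]; exact hfixg _ (hcP 0).1 (hcP 0).2
  have hgv : ∀ s t : F, act Q (eo H w z hw hwz).1 (s • c1 + t • c2) = s • c1 + t • c2 := by
    intro s t
    apply hfixg
    · rw [polar_add_right, polar_smul_right, polar_smul_right, hc1, hc2, (hcP 1).1, (hcP 2).1]
      simp
    · rw [polar_add_right, polar_smul_right, polar_smul_right, hc1, hc2, (hcP 1).2, (hcP 2).2]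
      simp
  have hmem : ∀ s t : F, eo H c0 (s • c1 + t • c2) hQc0 (hpol s t) ∈
      A ⊓ MulAut.conj (eo H w z hw hwz) • A := by
    intro s t
    have hE := hcz c0 (s • c1 + t • c2) hQc0 (hpol s t) hc0Y (hYle (hvY s t))
    refine Subgroup.mem_inf.mpr ⟨hE, ?_⟩
    rw [Subgroup.mem_smul_pointwise_iff_exists]
    refine ⟨_, hE, ?_⟩
    rw [MulAut.smul_def, MulAut.conj_apply, conj_eo]
    exact eo_congr H hgc0 (hgv s t) _ _ _ _
  let f : F × F → ↥(A ⊓ MulAut.conj (eo H w z hw hwz) • A) :=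
    fun st => ⟨eo H c0 (st.1 • c1 + st.2 • c2) hQc0 (hpol st.1 st.2), hmem st.1 st.2⟩
  have hf : Function.Injective f := by
    rintro ⟨s, t⟩ ⟨s', t'⟩ hst
    have h1 : eo H c0 (s • c1 + t • c2) hQc0 (hpol s t) =
        eo H c0 (s' • c1 + t' • c2) hQc0 (hpol s' t') := congrArg Subtype.val hst
    rw [eo_eq_eo_iff H c0 _ _ hQc0 _ _ hc00] at h1
    obtain ⟨r, hr⟩ := h1
    rw [Fintype.linearIndependent_iff] at hli
    have h2 := hli ![-r, s - s', t - t'] (by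
      rw [Fin.sum_univ_three]
      simp only [Matrix.cons_val_zero, Matrix.cons_val_one, Matrix.cons_val_two,
        Matrix.head_cons, Matrix.tail_cons]
      rw [← hc0, ← hc1, ← hc2]
      linear_combination (norm := module) hr)
    have h3 := h2 1
    have h4 := h2 2
    simp only [Matrix.cons_val_one, Matrix.cons_val_two, Matrix.head_cons, Matrix.tail_cons] at h3 h4
    rw [sub_eq_zero.mp h3, sub_eq_zero.mp h4]
  have hcard := Nat.card_le_card_of_injective f hf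
  rw [Nat.card_prod, Nat.card_eq_fintype_card] at hcard
  rcases hI (eo H w z hw hwz) with h | h
  · exact hgN h
  · have hq : 1 < Fintype.card F := Fintype.one_lt_card
    have : Fintype.card F * Fintype.card F ≤ Fintype.card F := hcard.trans h
    nlinarith

/-- **Characterisation of the Eichler groups.** -/
theorem char_main (p : ℕ) [Fact p.Prime] [CharP F p] (H : Hyp Q) (h7 : 7 ≤ Fintype.card ι)
    (hLag : ∀ Y : Submodule F (ι → F), (∀ y ∈ Y, Q y = 0) → orth Q Y ≤ Y → 10 ≤ Fintype.card ι)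
    (A : Subgroup ↥(Omega F ⇑Q)) (hA : IsPGroup p ↥A)
    (hcard : ∀ (u : ι → F) (hu : Q u = 0), u ≠ 0 → Nat.card ↥(eichSub Q u hu) ≤ Nat.card ↥A)
    (hC : ∀ g : ↥(Omega F ⇑Q), (∀ a ∈ A, a * g = g * a) → g ^ p = 1 → g ∈ A)
    (hN : ∀ x ∈ A, x ≠ 1 → ∀ K : Subgroup ↥(Omega F ⇑Q), x ∈ K →
      (∀ g ∈ Subgroup.normalizer (A : Set ↥(Omega F ⇑Q)), ∀ k ∈ K, g * k * g⁻¹ ∈ K) → A ≤ K)
    (hI : ∀ g : ↥(Omega F ⇑Q), g ∈ Subgroup.normalizer (A : Set ↥(Omega F ⇑Q)) ∨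
      Nat.card ↥(A ⊓ MulAut.conj g • A) ≤ Fintype.card F) :
    ∃ (b : ι → F) (hb0 : b ≠ 0) (hb : Q b = 0), A = eichSub Q b hb := by
  obtain ⟨x₀, hx₀⟩ := exists_fixed_pt p H A hA
  obtain ⟨b, hb0, hb, hfix⟩ : ∃ (b : ι → F) (hb0 : b ≠ 0) (hb : Q b = 0),
      ∀ a ∈ A, a • pt Q b hb0 hb = pt Q b hb0 hb := by
    revert hx₀
    induction x₀ using pt_ind with
    | h v hv hQv =>
      intro h
      exact ⟨v, hv, hQv, h⟩
  have hfixb : ∀ a ∈ A, act Q a.1 b = b := by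
    intro a ha
    obtain ⟨l, hl⟩ := (smul_pt_iff a b hb0 hb).mp (hfix a ha)
    obtain ⟨k, hk⟩ := hA ⟨a, ha⟩
    have hk' : a.1 ^ (p ^ k) = 1 := by
      have h1 := congrArg (fun x : ↥A => ((x : ↥(Omega F ⇑Q)) : ↥(isometryGroup F ⇑Q))) hk
      simpa using h1
    rw [hl, eigen_one_of_pow p a.1 k hk' b hb0 l hl, one_smul]
  by_cases hcase : ∀ v : ι → F, Q v = 0 → (∀ a ∈ A, act Q a.1 v = v) → ∃ t : F, v = t • b
  · exact ⟨b, hb0, hb, char_case_one p H A hA hcard hC hN b hb0 hb hfixb hcase⟩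
  · push Not at hcase
    obtain ⟨b', hb', hfixb', hnb'⟩ := hcase
    exact (char_case_two p H h7 hLag A hA hC hN hI b b' hb0 hb hb' hfixb hfixb'
      (by push Not; exact hnb')).elim

end chr
end Cfsg.Agent.Lib.Helper9.AOR
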