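import Mathlib

set_option autoImplicit false
set_option linter.unusedSectionVars false
set_option linter.unusedVariables false

/-! Generic group theory: an automorphism-invariant property of subgroups. -/

namespace Cfsg.Agent.Lib.Helper9.AOR

open scoped Pointwise

/-- the defining property of the images of the Eichler groups -/
structure PP (p N q : ℕ) {X : Type*} [Group X] (A : Subgroup X) : Prop where
  pgroup : IsPGroup p ↥A
  card : Nat.card ↥A = N
  cent : Subgroup.centralizer (A : Set X) ≤ A
  ncl : ∀ x ∈ A, x ≠ 1 → ∀ K : Subgroup X, x ∈ K →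
      (∀ g ∈ Subgroup.normalizer (A : Set X), ∀ k ∈ K, g * k * g⁻¹ ∈ K) → A ≤ K
  inter : ∀ g : X, g ∈ Subgroup.normalizer (A : Set X) ∨
      Nat.card ↥(A ⊓ MulAut.conj g • A) ≤ q

section inv
variable {X : Type*} [Group X]

theorem mem_conj_smul_iff (g x : X) (A : Subgroup X) :
    x ∈ MulAut.conj g • A ↔ g⁻¹ * x * g ∈ A := by
  rw [Subgroup.mem_smul_pointwise_iff_exists]
  constructor
  · rintro ⟨s, hs, rfl⟩
    rw [MulAut.smul_def, MulAut.conj_apply]
    have : g⁻¹ * (g * s * g⁻¹) * g = s := by group
    rw [this]
    exact hs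
  · intro h
    refine ⟨_, h, ?_⟩
    rw [MulAut.smul_def, MulAut.conj_apply]
    group

theorem mem_normalizer_comap (γ : X ≃* X) (A : Subgroup X) (g : X) :
    g ∈ Subgroup.normalizer ((A.comap γ.toMonoidHom : Subgroup X) : Set X) ↔
      γ g ∈ Subgroup.normalizer (A : Set X) := by
  rw [Subgroup.mem_normalizer_iff, Subgroup.mem_normalizer_iff]
  constructor
  · intro h a
    have h1 := h (γ.symm a)
    simp only [Subgroup.mem_comap, MulEquiv.coe_toMonoidHom, MulEquiv.apply_symm_apply, map_mul,
      map_inv] at h1
    exact h1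
  · intro h a
    have h1 := h (γ a)
    simp only [Subgroup.mem_comap, MulEquiv.coe_toMonoidHom, map_mul, map_inv]
    exact h1

theorem card_comap_equiv (γ : X ≃* X) (A : Subgroup X) :
    Nat.card ↥(A.comap γ.toMonoidHom) = Nat.card ↥A := by
  apply Nat.card_congr
  exact
    { toFun := fun y => ⟨γ y.1, y.2⟩
      invFun := fun a => ⟨γ.symm a.1, by
        rw [Subgroup.mem_comap]
        simp only [MulEquiv.coe_toMonoidHom, MulEquiv.apply_symm_apply]
        exact a.2⟩
      left_inv := fun y => by
        apply Subtype.ext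
        simp
      right_inv := fun a => by
        apply Subtype.ext
        simp }

theorem conj_smul_comap (γ : X ≃* X) (A : Subgroup X) (g : X) :
    MulAut.conj g • (A.comap γ.toMonoidHom) = (MulAut.conj (γ g) • A).comap γ.toMonoidHom := by
  ext x
  rw [mem_conj_smul_iff, Subgroup.mem_comap, Subgroup.mem_comap, mem_conj_smul_iff]
  simp only [MulEquiv.coe_toMonoidHom, map_mul, map_inv]

theorem PP.comap {p N q : ℕ} {A : Subgroup X} (h : PP p N q A) (γ : X ≃* X) :
    PP p N q (A.comap γ.toMonoidHom) where
  pgroup := h.pgroup.comap_of_injective γ.toMonoidHom γ.injective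
  card := by rw [card_comap_equiv, h.card]
  cent := by
    intro y hy
    rw [Subgroup.mem_comap]
    apply h.cent
    rw [Subgroup.mem_centralizer_iff] at hy ⊢
    intro a ha
    have h1 := hy (γ.symm a) (by
      show γ.symm a ∈ A.comap γ.toMonoidHom
      rw [Subgroup.mem_comap]
      simp only [MulEquiv.coe_toMonoidHom, MulEquiv.apply_symm_apply]
      exact ha)
    have h2 := congrArg γ h1
    simp only [map_mul, MulEquiv.apply_symm_apply] at h2
    exact h2
  ncl := by
    intro x hx hx1 K hxK hK
    rw [Subgroup.mem_comap] at hx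
    have hx1' : γ x ≠ 1 := by
      intro h0
      apply hx1
      have := congrArg γ.symm h0
      simpa using this
    have h1 := h.ncl (γ x) hx hx1' (K.comap γ.symm.toMonoidHom) (by
      rw [Subgroup.mem_comap]
      simp only [MulEquiv.coe_toMonoidHom, MulEquiv.symm_apply_apply]
      exact hxK) (by
      intro g hg k hk
      rw [Subgroup.mem_comap] at hk ⊢
      simp only [MulEquiv.coe_toMonoidHom, map_mul, map_inv] at hk ⊢
      apply hK _ _ _ hk
      rw [mem_normalizer_comap]
      simp only [MulEquiv.apply_symm_apply]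
      exact hg)
    intro y hy
    rw [Subgroup.mem_comap] at hy
    have h2 := h1 hy
    rw [Subgroup.mem_comap] at h2
    simp only [MulEquiv.coe_toMonoidHom, MulEquiv.symm_apply_apply] at h2
    exact h2
  inter := by
    intro g
    rcases h.inter (γ g) with h1 | h1
    · left
      rw [mem_normalizer_comap]
      exact h1
    · right
      rw [conj_smul_comap, ← Subgroup.comap_inf, card_comap_equiv]
      exact h1

end inv

end Cfsg.Agent.Lib.Helper9.AOR
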