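import Mathlib
import Cfsg.Agent.Lib.Helper9.AOR8

set_option autoImplicit false
set_option linter.unusedSectionVars false
set_option linter.unusedVariables false

/-! Generic group theory: `p`-subgroups of `G` and of `G / Z(G)` when `Z(G)` is a `p'`-group. -/

namespace Cfsg.Agent.Lib.Helper9.AOR

open scoped Pointwise

section lift
variable {G : Type*} [Group G] (p : ℕ) [Fact p.Prime]
  (hZ : ∀ z ∈ Subgroup.center G, ∀ k : ℕ, z ^ (p ^ k) = 1 → z = 1)

local notation "π" => QuotientGroup.mk' (Subgroup.center G)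

theorem mk_eq_one_iff' (g : G) : (π g : G ⧸ Subgroup.center G) = 1 ↔ g ∈ Subgroup.center G := by
  rw [QuotientGroup.mk'_apply, QuotientGroup.eq_one_iff]

theorem mk_eq_mk_iff' (g h : G) : (π g : G ⧸ Subgroup.center G) = π h ↔
    ∃ z ∈ Subgroup.center G, g = h * z := by
  rw [QuotientGroup.mk'_apply, QuotientGroup.mk'_apply, QuotientGroup.eq]
  constructor
  · intro h1
    exact ⟨h⁻¹ * g, by
      have := inv_mem h1
      simpa using this, by group⟩
  · rintro ⟨z, hz, rfl⟩
    have : (h * z)⁻¹ * h = z⁻¹ := by group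
    rw [this]
    exact inv_mem hz

include hZ in
/-- T0: the quotient map is injective on `p`-elements commuting appropriately -/
theorem eq_of_mk_eq_of_pow (a b : G) (ka kb : ℕ) (ha : a ^ (p ^ ka) = 1) (hb : b ^ (p ^ kb) = 1)
    (h : (π a : G ⧸ Subgroup.center G) = π b) : a = b := by
  obtain ⟨z, hz, rfl⟩ := (mk_eq_mk_iff' a b).mp h
  have hcomm : Commute b z := Subgroup.mem_center_iff.mp hz b
  have h1 : (b * z) ^ (p ^ (ka + kb)) = 1 := by
    rw [pow_add, pow_mul, ha, one_pow]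
  rw [hcomm.mul_pow] at h1
  have h2 : b ^ (p ^ (ka + kb)) = 1 := by
    rw [add_comm, pow_add, pow_mul, hb, one_pow]
  rw [h2, one_mul] at h1
  rw [hZ z hz _ h1, mul_one]

include hZ in
theorem mk_injOn_pgroup (A : Subgroup G) (hA : IsPGroup p ↥A) (a b : G) (ha : a ∈ A)
    (hb : b ∈ A) (h : (π a : G ⧸ Subgroup.center G) = π b) : a = b := by
  obtain ⟨ka, hka⟩ := hA ⟨a, ha⟩
  obtain ⟨kb, hkb⟩ := hA ⟨b, hb⟩
  have hka' : a ^ (p ^ ka) = 1 := by
    have := congrArg Subtype.val hka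
    simpa using this
  have hkb' : b ^ (p ^ kb) = 1 := by
    have := congrArg Subtype.val hkb
    simpa using this
  exact eq_of_mk_eq_of_pow p hZ a b ka kb hka' hkb' h

include hZ in
theorem card_map_mk (A : Subgroup G) (hA : IsPGroup p ↥A) :
    Nat.card ↥(A.map π) = Nat.card ↥A := by
  symm
  apply Nat.card_congr
  apply Equiv.ofBijective (fun a : ↥A => (⟨π a.1, Subgroup.mem_map_of_mem _ a.2⟩ : ↥(A.map π)))
  constructor
  · intro a b hab
    apply Subtype.ext
    exact mk_injOn_pgroup p hZ A hA a.1 b.1 a.2 b.2 (congrArg Subtype.val hab)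
  · rintro ⟨y, hy⟩
    obtain ⟨a, ha, rfl⟩ := Subgroup.mem_map.mp hy
    exact ⟨⟨a, ha⟩, rfl⟩

include hZ in
/-- T2 -/
theorem mem_centralizer_of_mk (A : Subgroup G) (hA : IsPGroup p ↥A) (g : G)
    (hg : (π g : G ⧸ Subgroup.center G) ∈ Subgroup.centralizer ((A.map π : Subgroup _) : Set _)) :
    g ∈ Subgroup.centralizer (A : Set G) := by
  rw [Subgroup.mem_centralizer_iff] at hg ⊢
  intro a ha
  have h1 := hg (π a) (Subgroup.mem_map_of_mem _ ha)
  rw [← map_mul, ← map_mul] at h1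
  -- a * g = g * a * z
  have h2 : (π (g⁻¹ * a * g) : G ⧸ Subgroup.center G) = π a := by
    rw [map_mul, map_mul, map_inv]
    rw [map_mul, map_mul] at h1
    rw [mul_assoc, h1]
    group
  obtain ⟨k, hk⟩ := hA ⟨a, ha⟩
  have hk' : a ^ (p ^ k) = 1 := by
    have := congrArg Subtype.val hk
    simpa using this
  have hk'' : (g⁻¹ * a * g) ^ (p ^ k) = 1 := by
    have : g⁻¹ * a * g = MulAut.conj g⁻¹ a := by rw [MulAut.conj_apply, inv_inv]
    rw [this, ← map_pow, hk', map_one]
  have h3 := eq_of_mk_eq_of_pow p hZ _ _ k k hk'' hk' h2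
  calc a * g = g * (g⁻¹ * a * g) := by group
    _ = g * a := by rw [h3]

include hZ in
/-- T3, one inclusion -/
theorem conj_mem_of_mk_normalizer (A : Subgroup G) (hA : IsPGroup p ↥A) (g : G)
    (hg : (π g : G ⧸ Subgroup.center G) ∈ Subgroup.normalizer ((A.map π : Subgroup _) : Set _))
    (a : G) (ha : a ∈ A) : g * a * g⁻¹ ∈ A := by
  rw [Subgroup.mem_normalizer_iff] at hg
  have h1 := (hg (π a)).mp (Subgroup.mem_map_of_mem _ ha)
  rw [← map_inv, ← map_mul, ← map_mul] at h1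
  obtain ⟨a', ha', h2⟩ := Subgroup.mem_map.mp h1
  obtain ⟨k, hk⟩ := hA ⟨a, ha⟩
  have hk' : a ^ (p ^ k) = 1 := by
    have := congrArg Subtype.val hk
    simpa using this
  obtain ⟨k', hk2⟩ := hA ⟨a', ha'⟩
  have hk2' : a' ^ (p ^ k') = 1 := by
    have := congrArg Subtype.val hk2
    simpa using this
  have hk'' : (g * a * g⁻¹) ^ (p ^ k) = 1 := by
    have : g * a * g⁻¹ = MulAut.conj g a := by rw [MulAut.conj_apply]
    rw [this, ← map_pow, hk', map_one]
  have h3 := eq_of_mk_eq_of_pow p hZ _ _ k' k hk2' hk'' h2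
  rw [← h3]
  exact ha'

include hZ in
/-- T3 -/
theorem mem_normalizer_of_mk (A : Subgroup G) (hA : IsPGroup p ↥A) (g : G)
    (hg : (π g : G ⧸ Subgroup.center G) ∈ Subgroup.normalizer ((A.map π : Subgroup _) : Set _)) :
    g ∈ Subgroup.normalizer (A : Set G) := by
  rw [Subgroup.mem_normalizer_iff]
  intro a
  constructor
  · exact conj_mem_of_mk_normalizer p hZ A hA g hg a
  · intro h
    have hg' : (π g⁻¹ : G ⧸ Subgroup.center G) ∈
        Subgroup.normalizer ((A.map π : Subgroup _) : Set _) := by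
      rw [map_inv]
      exact inv_mem hg
    have := conj_mem_of_mk_normalizer p hZ A hA g⁻¹ hg' _ h
    have h2 : g⁻¹ * (g * a * g⁻¹) * g⁻¹⁻¹ = a := by group
    rwa [h2] at this

/-- T3, converse -/
theorem mk_mem_normalizer (A : Subgroup G) (g : G)
    (hg : g ∈ Subgroup.normalizer (A : Set G)) :
    (π g : G ⧸ Subgroup.center G) ∈ Subgroup.normalizer ((A.map π : Subgroup _) : Set _) := by
  rw [Subgroup.mem_normalizer_iff] at hg ⊢
  intro y
  constructor
  · intro hy
    obtain ⟨a, ha, rfl⟩ := Subgroup.mem_map.mp hy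
    rw [← map_inv, ← map_mul, ← map_mul]
    exact Subgroup.mem_map_of_mem _ ((hg a).mp ha)
  · intro hy
    obtain ⟨a, ha, h1⟩ := Subgroup.mem_map.mp hy
    have h2 : y = π (g⁻¹ * a * g) := by
      rw [map_mul, map_mul, h1, map_inv]
      group
    rw [h2]
    apply Subgroup.mem_map_of_mem
    rw [hg]
    have : g * (g⁻¹ * a * g) * g⁻¹ = a := by group
    rw [this]
    exact ha

include hZ in
/-- T4 -/
theorem map_mk_inf (A B : Subgroup G) (hA : IsPGroup p ↥A) (hB : IsPGroup p ↥B) :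
    (A ⊓ B).map π = A.map π ⊓ B.map π := by
  apply le_antisymm (Subgroup.map_inf_le _ _ _)
  rintro y ⟨hyA, hyB⟩
  obtain ⟨a, ha, rfl⟩ := Subgroup.mem_map.mp hyA
  obtain ⟨b, hb, h1⟩ := Subgroup.mem_map.mp hyB
  obtain ⟨k, hk⟩ := hA ⟨a, ha⟩
  have hk' : a ^ (p ^ k) = 1 := by
    have := congrArg Subtype.val hk
    simpa using this
  obtain ⟨k', hk2⟩ := hB ⟨b, hb⟩
  have hk2' : b ^ (p ^ k') = 1 := by
    have := congrArg Subtype.val hk2
    simpa using this
  have h3 := eq_of_mk_eq_of_pow p hZ _ _ k' k hk2' hk' h1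
  exact Subgroup.mem_map_of_mem _ ⟨ha, h3 ▸ hb⟩

/-- T5 -/
theorem conj_smul_map_mk (A : Subgroup G) (g : G) :
    MulAut.conj (π g : G ⧸ Subgroup.center G) • A.map π = (MulAut.conj g • A).map π := by
  ext y
  rw [mem_conj_smul_iff]
  constructor
  · intro h
    obtain ⟨a, ha, h1⟩ := Subgroup.mem_map.mp h
    have h2 : y = π (g * a * g⁻¹) := by
      rw [map_mul, map_mul, h1, map_inv]
      group
    rw [h2]
    apply Subgroup.mem_map_of_mem
    rw [mem_conj_smul_iff]
    have : g⁻¹ * (g * a * g⁻¹) * g = a := by group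
    rw [this]
    exact ha
  · intro h
    obtain ⟨x, hx, rfl⟩ := Subgroup.mem_map.mp h
    rw [mem_conj_smul_iff] at hx
    rw [← map_inv, ← map_mul, ← map_mul]
    exact Subgroup.mem_map_of_mem _ hx

theorem isPGroup_conj_smul (A : Subgroup G) (hA : IsPGroup p ↥A) (g : G) :
    IsPGroup p ↥(MulAut.conj g • A) := by
  rintro ⟨x, hx⟩
  rw [mem_conj_smul_iff] at hx
  obtain ⟨k, hk⟩ := hA ⟨_, hx⟩
  refine ⟨k, ?_⟩
  have hk' : (g⁻¹ * x * g) ^ (p ^ k) = 1 := by
    have := congrArg Subtype.val hk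
    simpa using this
  apply Subtype.ext
  show x ^ (p ^ k) = 1
  have h1 : x = MulAut.conj g (g⁻¹ * x * g) := by
    rw [MulAut.conj_apply]
    group
  rw [h1, ← map_pow, hk', map_one]

include hZ in
/-- T1: a `p`-subgroup of the central quotient lifts to a `p`-subgroup -/
theorem exists_lift [Finite G] (B : Subgroup (G ⧸ Subgroup.center G)) (hB : IsPGroup p ↥B) :
    ∃ A : Subgroup G, IsPGroup p ↥A ∧ A.map π = B := by
  obtain ⟨P⟩ : Nonempty (Sylow p ↥(B.comap π)) := inferInstance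
  have hA : IsPGroup p ↥((P : Subgroup ↥(B.comap π)).map (B.comap π).subtype) :=
    P.isPGroup'.map (B.comap π).subtype
  have hle : ((P : Subgroup ↥(B.comap π)).map (B.comap π).subtype).map π ≤ B := by
    rintro y hy
    obtain ⟨a, ha, rfl⟩ := Subgroup.mem_map.mp hy
    obtain ⟨x, hx, rfl⟩ := Subgroup.mem_map.mp ha
    exact x.2
  refine ⟨_, hA, ?_⟩
  apply Subgroup.eq_of_le_of_card_ge hle
  rw [card_map_mk p hZ _ hA, Subgroup.card_map_of_injective (Subgroup.subtype_injective _)]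
  obtain ⟨n, hn⟩ := IsPGroup.iff_card.mp hB
  have hsurj := MonoidHom.subgroupComap_surjective_of_surjective π B
    (QuotientGroup.mk'_surjective _)
  have hdvd := Subgroup.card_dvd_of_surjective _ hsurj
  rw [hn] at hdvd ⊢
  exact Nat.le_of_dvd Nat.card_pos (P.pow_dvd_card_of_pow_dvd_card hdvd)

end lift

end Cfsg.Agent.Lib.Helper9.AOR
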