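import Mathlib
import Cfsg.Prelude
import Cfsg.Agent.Lib.Helper5.OmegaSimple
import Cfsg.Agent.Lib.Helper5.MaxTS
import Cfsg.Agent.Lib.Helper9.AOR7
import Cfsg.Agent.Lib.Helper9.AOR9

set_option autoImplicit false
set_option linter.unusedSectionVars false
set_option linter.unusedVariables false
open Cfsg

namespace Cfsg.Agent.Lib.Helper9.AOR

open Matrix QuadraticMap Cfsg.Agent.Lib.Helper5.CartanDieudonne Cfsg.Agent.Lib.Helper5.Refl
  Cfsg.Agent.Lib.Helper5.OrthCard Cfsg.Agent.Lib.Helper5.Siegel Cfsg.Agent.Lib.Helper5.QuadIsom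
  Cfsg.Agent.Lib.Helper5.ReflGen Cfsg.Agent.Lib.Helper5.Eichler Cfsg.Agent.Lib.Helper5.SingGeom
  Cfsg.Agent.Lib.Helper5.OmegaGen Cfsg.Agent.Lib.Helper5.OmegaSimple

variable {ι : Type} [Fintype ι] [DecidableEq ι] {F : Type*} [Field F] [Fintype F]
  (Q : QuadraticForm F (ι → F))

/-! The images of the Eichler groups in `PΩ` are characterised by the property `PP`. -/

section qb
open scoped LinearAlgebra.Projectivization Pointwise
open Cfsg.Agent.Lib.Helper5.MaxTS Module
attribute [local instance 2000] omSMul omAction omSMulComm singSMul singAction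

variable {Q}

theorem hZ_Omega (p : ℕ) [Fact p.Prime] [CharP F p] (H : Hyp Q) :
    ∀ z ∈ Subgroup.center ↥(Omega F ⇑Q), ∀ k : ℕ, z ^ (p ^ k) = 1 → z = 1 :=
  fun z hz k hk => center_pow_eq_one p H z hz k hk

theorem conj_mem_eichSub (H : Hyp Q) (g : ↥(Omega F ⇑Q)) (u : ι → F) (hu : Q u = 0) (t : F)
    (ht : t ≠ 0) (hg : act Q g.1 u = t • u) (h : ↥(Omega F ⇑Q)) (hh : h ∈ eichSub Q u hu) :
    g * h * g⁻¹ ∈ eichSub Q u hu := by
  obtain ⟨z, hz, rfl⟩ := exists_eo_of_mem H u hu h hh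
  rw [conj_eo]
  have hgu : Q (act Q g.1 u) = 0 := by rw [quad_act]; exact hu
  have hmem := eo_mem H (act Q g.1 u) (act Q g.1 z) hgu (by rw [polar_act]; exact hz)
  have hQtu : Q (t • u) = 0 := by rw [QuadraticMap.map_smul, hu, smul_zero]
  rw [eichSub_congr Q hg hgu hQtu, eichSub_smul Q t ht u hu] at hmem
  exact hmem

theorem mem_normalizer_eichSub (H : Hyp Q) (g : ↥(Omega F ⇑Q)) (u : ι → F) (hu : Q u = 0)
    (t : F) (ht : t ≠ 0) (hg : act Q g.1 u = t • u) :
    g ∈ Subgroup.normalizer ((eichSub Q u hu : Subgroup ↥(Omega F ⇑Q)) : Set ↥(Omega F ⇑Q)) := by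
  rw [Subgroup.mem_normalizer_iff]
  intro h
  constructor
  · exact conj_mem_eichSub H g u hu t ht hg h
  · intro hh
    have hg' : act Q (g⁻¹ : ↥(Omega F ⇑Q)).1 u = t⁻¹ • u := by
      have h1 : act Q (g⁻¹ : ↥(Omega F ⇑Q)).1 (act Q g.1 u) = u := by
        rw [← act_mul, ← Subgroup.coe_mul, inv_mul_cancel]
        exact act_one' Q u
      rw [hg, act_smul] at h1
      calc act Q (g⁻¹ : ↥(Omega F ⇑Q)).1 u
          = t⁻¹ • (t • act Q (g⁻¹ : ↥(Omega F ⇑Q)).1 u) := by
            rw [smul_smul, inv_mul_cancel₀ ht, one_smul]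
        _ = t⁻¹ • u := by rw [h1]
    have := conj_mem_eichSub H g⁻¹ u hu t⁻¹ (inv_ne_zero ht) hg' _ hh
    have h2 : g⁻¹ * (g * h * g⁻¹) * g⁻¹⁻¹ = h := by group
    rwa [h2] at this

theorem card_eichSub_eq (H : Hyp Q) (u u' : ι → F) (hu0 : u ≠ 0) (hu0' : u' ≠ 0) (hu : Q u = 0)
    (hu' : Q u' = 0) : Nat.card ↥(eichSub Q u hu) = Nat.card ↥(eichSub Q u' hu') := by
  obtain ⟨g, hg, a, ha, hga⟩ := move H u u' hu0 hu0' hu hu'
  have hgu : Q (act Q g u) = 0 := by rw [quad_act]; exact hu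
  have h1 := eichSub_conj Q ⟨g, hg⟩ u hu hgu
  have hQau : Q (a • u') = 0 := by rw [QuadraticMap.map_smul, hu', smul_zero]
  have h2 : eichSub Q (act Q g u) hgu = eichSub Q u' hu' := by
    rw [eichSub_congr Q hga hgu hQau, eichSub_smul Q a ha u' hu']
  rw [← h2, h1]
  exact Nat.card_congr (Subgroup.equivSMul (MulAut.conj (⟨g, hg⟩ : ↥(Omega F ⇑Q)))
    (eichSub Q u hu)).toEquiv

/-- the image of an Eichler group in `PΩ` -/
def QB (u : ι → F) (hu : Q u = 0) : Subgroup (POmega F ⇑Q) :=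
  (eichSub Q u hu).map (QuotientGroup.mk' (Subgroup.center ↥(Omega F ⇑Q)))

theorem QB_congr {u u' : ι → F} (h : u = u') (hu : Q u = 0) (hu' : Q u' = 0) :
    QB u hu = QB u' hu' := by
  subst h; rfl

/-- the images of the Eichler groups have property `PP` -/
theorem PP_QB (p : ℕ) [Fact p.Prime] [CharP F p] (H : Hyp Q) (h7 : 7 ≤ Fintype.card ι)
    (u₀ : ι → F) (hu₀0 : u₀ ≠ 0) (hu₀ : Q u₀ = 0) (u : ι → F) (hu0 : u ≠ 0) (hu : Q u = 0) :
    PP p (Nat.card ↥(eichSub Q u₀ hu₀)) (Fintype.card F) (QB u hu) where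
  pgroup := (isPGroup_eichSub Q p u hu).map _
  card := by
    unfold QB
    rw [card_map_mk p (hZ_Omega p H) _ (isPGroup_eichSub Q p u hu)]
    exact card_eichSub_eq H u u₀ hu0 hu₀0 hu hu₀
  cent := by
    intro y hy
    obtain ⟨g, rfl⟩ := QuotientGroup.mk'_surjective (Subgroup.center ↥(Omega F ⇑Q)) y
    have h1 := mem_centralizer_of_mk p (hZ_Omega p H) _ (isPGroup_eichSub Q p u hu) g hy
    rw [Subgroup.mem_centralizer_iff] at h1
    obtain ⟨k, hk, c, hc, hgkc⟩ := centralizer_eichSub H u hu0 hu g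
      (fun k hk => (h1 k hk).symm)
    have h2 : QuotientGroup.mk' (Subgroup.center ↥(Omega F ⇑Q)) g =
        QuotientGroup.mk' (Subgroup.center ↥(Omega F ⇑Q)) k := by
      rw [mk_eq_mk_iff']
      exact ⟨c, hc, hgkc⟩
    rw [h2]
    exact Subgroup.mem_map_of_mem _ hk
  ncl := by
    intro x hx hx1 K hxK hK
    obtain ⟨x', hx', rfl⟩ := Subgroup.mem_map.mp hx
    obtain ⟨z₀, huz₀, rfl⟩ := exists_eo_of_mem H u hu x' hx'
    have hz₀ : ¬ ∃ t : F, z₀ = t • u := by
      intro h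
      apply hx1
      rw [(eo_eq_one_iff H u z₀ hu huz₀ hu0).mpr h, map_one]
    unfold QB
    rw [Subgroup.map_le_iff_le_comap]
    apply eichSub_le_of_normal H h7 u hu0 hu _ z₀ huz₀ hz₀ hxK
    intro w y hw hwy huw huy k hk
    rw [Subgroup.mem_comap] at hk ⊢
    rw [map_mul, map_mul, map_inv]
    apply hK _ _ _ hk
    apply mk_mem_normalizer
    apply mem_normalizer_eichSub H _ u hu 1 one_ne_zero
    rw [one_smul]
    exact act_eo_fix H w y u hw hwy huw huy
  inter := by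
    intro y
    obtain ⟨g, rfl⟩ := QuotientGroup.mk'_surjective (Subgroup.center ↥(Omega F ⇑Q)) y
    by_cases hcase : ∃ t : F, act Q g.1 u = t • u
    · left
      obtain ⟨t, ht⟩ := hcase
      have ht0 : t ≠ 0 := by
        rintro rfl
        rw [zero_smul] at ht
        exact (smul_ne_zero_iff_ne g).mpr hu0 ht
      exact mk_mem_normalizer _ g (mem_normalizer_eichSub H g u hu t ht0 ht)
    · right
      have hgu : Q (act Q g.1 u) = 0 := by rw [quad_act]; exact hu
      have hgu0 : act Q g.1 u ≠ 0 := (smul_ne_zero_iff_ne g).mpr hu0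
      unfold QB
      rw [conj_smul_map_mk, ← eichSub_conj Q g u hu hgu,
        ← map_mk_inf p (hZ_Omega p H) _ _ (isPGroup_eichSub Q p u hu)
          (isPGroup_eichSub Q p _ hgu),
        card_map_mk p (hZ_Omega p H) _ ((isPGroup_eichSub Q p u hu).to_le inf_le_left)]
      exact card_inf_le H u (act Q g.1 u) hu0 hgu0 hu hgu hcase

/-- a subgroup of `PΩ` with property `PP` is the image of an Eichler group -/
theorem eq_QB_of_PP (p : ℕ) [Fact p.Prime] [CharP F p] (H : Hyp Q) (h7 : 7 ≤ Fintype.card ι)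
    (hLag : ∀ Y : Submodule F (ι → F), (∀ y ∈ Y, Q y = 0) → orth Q Y ≤ Y → 10 ≤ Fintype.card ι)
    (u₀ : ι → F) (hu₀0 : u₀ ≠ 0) (hu₀ : Q u₀ = 0) (B : Subgroup (POmega F ⇑Q))
    (hB : PP p (Nat.card ↥(eichSub Q u₀ hu₀)) (Fintype.card F) B) :
    ∃ (b : ι → F) (hb0 : b ≠ 0) (hb : Q b = 0), B = QB b hb := by
  obtain ⟨A, hA, rfl⟩ := exists_lift p (hZ_Omega p H) B hB.pgroup
  have hcardA : Nat.card ↥A = Nat.card ↥(eichSub Q u₀ hu₀) := by
    rw [← card_map_mk p (hZ_Omega p H) A hA]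
    exact hB.card
  obtain ⟨b, hb0, hb, hAb⟩ := char_main p H h7 hLag A hA
    (by
      intro u hu hu0
      rw [hcardA, card_eichSub_eq H u u₀ hu0 hu₀0 hu hu₀])
    (by
      intro g hg hgp
      have h1 : QuotientGroup.mk' (Subgroup.center ↥(Omega F ⇑Q)) g ∈
          Subgroup.centralizer ((A.map (QuotientGroup.mk' (Subgroup.center ↥(Omega F ⇑Q))) :
            Subgroup _) : Set _) := by
        rw [Subgroup.mem_centralizer_iff]
        intro y hy
        obtain ⟨a, ha, rfl⟩ := Subgroup.mem_map.mp hy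
        rw [← map_mul, ← map_mul, hg a ha]
      obtain ⟨a, ha, h2⟩ := Subgroup.mem_map.mp (hB.cent h1)
      obtain ⟨k, hk⟩ := hA ⟨a, ha⟩
      have hk' : a ^ (p ^ k) = 1 := by
        have := congrArg Subtype.val hk
        simpa using this
      have h3 := eq_of_mk_eq_of_pow p (hZ_Omega p H) a g k 1 hk' (by rw [pow_one]; exact hgp) h2
      rw [← h3]
      exact ha)
    (by
      intro x hx hx1 K hxK hK
      have hx1' : QuotientGroup.mk' (Subgroup.center ↥(Omega F ⇑Q)) x ≠ 1 := by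
        intro h0
        apply hx1
        exact mk_injOn_pgroup p (hZ_Omega p H) A hA x 1 hx (one_mem A) (by rw [h0, map_one])
      have h1 := hB.ncl _ (Subgroup.mem_map_of_mem _ hx) hx1'
        ((K ⊓ A).map (QuotientGroup.mk' (Subgroup.center ↥(Omega F ⇑Q))))
        (Subgroup.mem_map_of_mem _ ⟨hxK, hx⟩)
        (by
          intro y hy k hk
          obtain ⟨g, rfl⟩ := QuotientGroup.mk'_surjective (Subgroup.center ↥(Omega F ⇑Q)) y
          obtain ⟨k', hk', rfl⟩ := Subgroup.mem_map.mp hk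
          have hgN := mem_normalizer_of_mk p (hZ_Omega p H) A hA g hy
          rw [← map_inv, ← map_mul, ← map_mul]
          apply Subgroup.mem_map_of_mem
          refine ⟨hK g hgN k' hk'.1, ?_⟩
          rw [Subgroup.mem_normalizer_iff] at hgN
          exact (hgN k').mp hk'.2)
      intro a ha
      obtain ⟨k, hk, h2⟩ := Subgroup.mem_map.mp (h1 (Subgroup.mem_map_of_mem _ ha))
      have h3 := mk_injOn_pgroup p (hZ_Omega p H) A hA k a hk.2 ha h2
      rw [← h3]
      exact hk.1)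
    (by
      intro g
      rcases hB.inter (QuotientGroup.mk' (Subgroup.center ↥(Omega F ⇑Q)) g) with h | h
      · left
        exact mem_normalizer_of_mk p (hZ_Omega p H) A hA g h
      · right
        rw [conj_smul_map_mk, ← map_mk_inf p (hZ_Omega p H) _ _ hA
          (isPGroup_conj_smul p A hA g),
          card_map_mk p (hZ_Omega p H) _ (hA.to_le inf_le_left)] at h
        exact h)
  refine ⟨b, hb0, hb, ?_⟩
  rw [hAb]
  rfl

end qb
end Cfsg.Agent.Lib.Helper9.AOR
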