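import Mathlib
import Cfsg.Prelude
import Cfsg.Agent.Lib.Helper5.OmegaSimple
import Cfsg.Agent.Lib.Helper5.MaxTS
import Cfsg.Agent.Lib.Helper9.AOR10

set_option autoImplicit false
set_option linter.unusedSectionVars false
set_option linter.unusedVariables false
open Cfsg

namespace Cfsg.Agent.Lib.Helper9.AOR

open Matrix QuadraticMap Cfsg.Agent.Lib.Helper5.CartanDieudonne Cfsg.Agent.Lib.Helper5.Refl
  Cfsg.Agent.Lib.Helper5.OrthCard Cfsg.Agent.Lib.Helper5.Siegel Cfsg.Agent.Lib.Helper5.QuadIsom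
  Cfsg.Agent.Lib.Helper5.ReflGen Cfsg.Agent.Lib.Helper5.Eichler Cfsg.Agent.Lib.Helper5.SingGeom
  Cfsg.Agent.Lib.Helper5.OmegaGen Cfsg.Agent.Lib.Helper5.OmegaSimple

variable {ι : Type} [Fintype ι] [DecidableEq ι] {F : Type*} [Field F] [Fintype F]
  (Q : QuadraticForm F (ι → F))

/-! Total versions of the Eichler elements and groups in `PΩ`; the relation `Bm`. -/

section tot
open scoped LinearAlgebra.Projectivization Pointwise
open Cfsg.Agent.Lib.Helper5.MaxTS Module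
attribute [local instance 2000] omSMul omAction omSMulComm singSMul singAction

variable {Q}

/-- total version of `eo` -/
noncomputable def eoT (H : Hyp Q) (u z : ι → F) : ↥(Omega F ⇑Q) :=
  open Classical in if h : Q u = 0 ∧ polar ⇑Q u z = 0 then eo H u z h.1 h.2 else 1

theorem eoT_eq (H : Hyp Q) (u z : ι → F) (hu : Q u = 0) (huz : polar ⇑Q u z = 0) :
    eoT H u z = eo H u z hu huz := dif_pos ⟨hu, huz⟩

/-- total version of `QB` -/
noncomputable def QBT (Q : QuadraticForm F (ι → F)) (u : ι → F) : Subgroup (POmega F ⇑Q) :=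
  open Classical in if h : Q u = 0 then QB u h else ⊥

theorem QBT_eq (u : ι → F) (hu : Q u = 0) : QBT Q u = QB u hu := dif_pos hu

/-- the projection to `PΩ` -/
noncomputable def pr (Q : QuadraticForm F (ι → F)) : ↥(Omega F ⇑Q) →* POmega F ⇑Q :=
  QuotientGroup.mk' (Subgroup.center ↥(Omega F ⇑Q))

theorem pr_surjective : Function.Surjective (pr Q) :=
  QuotientGroup.mk'_surjective _

/-- Eichler elements in `PΩ` -/
noncomputable def pe (H : Hyp Q) (u z : ι → F) : POmega F ⇑Q := pr Q (eoT H u z)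

theorem mem_QBT_iff (H : Hyp Q) (u : ι → F) (hu : Q u = 0) (x : POmega F ⇑Q) :
    x ∈ QBT Q u ↔ ∃ z : ι → F, polar ⇑Q u z = 0 ∧ x = pe H u z := by
  rw [QBT_eq u hu]
  unfold QB
  rw [Subgroup.mem_map]
  constructor
  · rintro ⟨g, hg, rfl⟩
    obtain ⟨z, huz, rfl⟩ := exists_eo_of_mem H u hu g hg
    exact ⟨z, huz, by unfold pe; rw [eoT_eq H u z hu huz]; rfl⟩
  · rintro ⟨z, huz, rfl⟩
    exact ⟨eo H u z hu huz, eo_mem H u z hu huz, by unfold pe; rw [eoT_eq H u z hu huz]; rfl⟩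

theorem pe_mem (H : Hyp Q) (u z : ι → F) (hu : Q u = 0) (huz : polar ⇑Q u z = 0) :
    pe H u z ∈ QBT Q u := (mem_QBT_iff H u hu _).mpr ⟨z, huz, rfl⟩

theorem pe_mul (H : Hyp Q) (u z z' : ι → F) (hu : Q u = 0) (huz : polar ⇑Q u z = 0)
    (huz' : polar ⇑Q u z' = 0) : pe H u z * pe H u z' = pe H u (z + z') := by
  unfold pe
  rw [eoT_eq H u z hu huz, eoT_eq H u z' hu huz',
    eoT_eq H u (z + z') hu (by rw [polar_add_right, huz, huz', add_zero]), ← map_mul, eo_mul]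

theorem pr_eq_one_of_pow (p : ℕ) [Fact p.Prime] [CharP F p] (H : Hyp Q) (g : ↥(Omega F ⇑Q))
    (hg : g ^ p = 1) (h : pr Q g = 1) : g = 1 := by
  have h1 : (pr Q g : POmega F ⇑Q) = pr Q 1 := by rw [h, map_one]
  exact eq_of_mk_eq_of_pow p (hZ_Omega p H) g 1 1 0 (by rw [pow_one]; exact hg) (by simp) h1

theorem pr_eq_of_pow (p : ℕ) [Fact p.Prime] [CharP F p] (H : Hyp Q) (g g' : ↥(Omega F ⇑Q))
    (hg : g ^ p = 1) (hg' : g' ^ p = 1) (h : pr Q g = pr Q g') : g = g' :=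
  eq_of_mk_eq_of_pow p (hZ_Omega p H) g g' 1 1 (by rw [pow_one]; exact hg)
    (by rw [pow_one]; exact hg') h

theorem pe_eq_one_iff (p : ℕ) [Fact p.Prime] [CharP F p] (H : Hyp Q) (u z : ι → F)
    (hu0 : u ≠ 0) (hu : Q u = 0) (huz : polar ⇑Q u z = 0) :
    pe H u z = 1 ↔ ∃ t : F, z = t • u := by
  unfold pe
  rw [eoT_eq H u z hu huz, ← eo_eq_one_iff H u z hu huz hu0]
  constructor
  · intro h
    exact pr_eq_one_of_pow p H _ (eo_pow_char p H u z hu huz) h
  · intro h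
    rw [h, map_one]

theorem pe_eq_pe_iff (p : ℕ) [Fact p.Prime] [CharP F p] (H : Hyp Q) (u z z' : ι → F)
    (hu0 : u ≠ 0) (hu : Q u = 0) (huz : polar ⇑Q u z = 0) (huz' : polar ⇑Q u z' = 0) :
    pe H u z = pe H u z' ↔ ∃ t : F, z = z' + t • u := by
  unfold pe
  rw [eoT_eq H u z hu huz, eoT_eq H u z' hu huz', ← eo_eq_eo_iff H u z z' hu huz huz' hu0]
  constructor
  · intro h
    exact pr_eq_of_pow p H _ _ (eo_pow_char p H u z hu huz) (eo_pow_char p H u z' hu huz') h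
  · intro h
    rw [h]

theorem conj_pe (H : Hyp Q) (g : ↥(Omega F ⇑Q)) (u z : ι → F) (hu : Q u = 0)
    (huz : polar ⇑Q u z = 0) :
    pr Q g * pe H u z * (pr Q g)⁻¹ = pe H (act Q g.1 u) (act Q g.1 z) := by
  unfold pe
  rw [eoT_eq H u z hu huz, eoT_eq H (act Q g.1 u) (act Q g.1 z) (by rw [quad_act]; exact hu)
    (by rw [polar_act]; exact huz), ← map_inv, ← map_mul, ← map_mul, conj_eo]

theorem QBT_smul (u : ι → F) (hu : Q u = 0) (t : F) (ht : t ≠ 0) : QBT Q (t • u) = QBT Q u := by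
  have hQtu : Q (t • u) = 0 := by rw [QuadraticMap.map_smul, hu, smul_zero]
  rw [QBT_eq u hu, QBT_eq (t • u) hQtu]
  unfold QB
  rw [eichSub_smul Q t ht u hu]

theorem conj_QBT (g : ↥(Omega F ⇑Q)) (u : ι → F) (hu : Q u = 0) :
    MulAut.conj (pr Q g) • QBT Q u = QBT Q (act Q g.1 u) := by
  have hgu : Q (act Q g.1 u) = 0 := by rw [quad_act]; exact hu
  rw [QBT_eq u hu, QBT_eq _ hgu]
  unfold QB pr
  rw [conj_smul_map_mk, ← eichSub_conj Q g u hu hgu]

/-- `QBT Q u = QBT Q v` iff same point -/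
theorem QBT_eq_iff (p : ℕ) [Fact p.Prime] [CharP F p] (H : Hyp Q) (u v : ι → F) (hu0 : u ≠ 0)
    (hv0 : v ≠ 0) (hu : Q u = 0) (hv : Q v = 0) :
    (QBT Q u : Subgroup (POmega F ⇑Q)) = QBT Q v ↔ ∃ t : F, v = t • u := by
  constructor
  · intro h
    apply fixed_of_eichSub H u hu0 hu v hv0 hv
    intro g hg
    obtain ⟨z, huz, rfl⟩ := exists_eo_of_mem H u hu g hg
    have h1 : pe H u z ∈ QBT Q v := by rw [← h]; exact pe_mem H u z hu huz
    obtain ⟨z', hvz', h2⟩ := (mem_QBT_iff H v hv _).mp h1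
    unfold pe at h2
    rw [eoT_eq H u z hu huz, eoT_eq H v z' hv hvz'] at h2
    rw [pr_eq_of_pow p H _ _ (eo_pow_char p H u z hu huz) (eo_pow_char p H v z' hv hvz') h2]
    exact eo_smul_pt_self H v z' hv0 hv hvz'
  · rintro ⟨t, rfl⟩
    have ht : t ≠ 0 := by
      rintro rfl
      rw [zero_smul] at hv0
      exact hv0 rfl
    rw [QBT_smul u hu t ht]

/-- distinct points are orthogonal iff their groups meet non-trivially -/
theorem QBT_inf_iff (p : ℕ) [Fact p.Prime] [CharP F p] (H : Hyp Q) (u v : ι → F) (hu0 : u ≠ 0)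
    (hv0 : v ≠ 0) (hu : Q u = 0) (hv : Q v = 0) (hne : ¬ ∃ t : F, v = t • u) :
    (QBT Q u ⊓ QBT Q v : Subgroup (POmega F ⇑Q)) ≠ ⊥ ↔ polar ⇑Q u v = 0 := by
  constructor
  · intro h
    rw [Ne, Subgroup.eq_bot_iff_forall] at h
    push Not at h
    obtain ⟨x, hx, hx1⟩ := h
    obtain ⟨z, huz, rfl⟩ := (mem_QBT_iff H u hu _).mp hx.1
    obtain ⟨z', hvz', h2⟩ := (mem_QBT_iff H v hv _).mp hx.2
    have h3 := h2
    unfold pe at h3
    rw [eoT_eq H u z hu huz, eoT_eq H v z' hv hvz'] at h3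
    have h4 := pr_eq_of_pow p H _ _ (eo_pow_char p H u z hu huz)
      (eo_pow_char p H v z' hv hvz') h3
    rcases eichSub_inf H u v hu0 hv0 hu hv hne (eo H u z hu huz) (eo_mem H u z hu huz)
      (by rw [h4]; exact eo_mem H v z' hv hvz') with h5 | ⟨h5, -⟩
    · exfalso
      apply hx1
      unfold pe
      rw [eoT_eq H u z hu huz, h5, map_one]
    · exact h5
  · intro h
    rw [Ne, Subgroup.eq_bot_iff_forall]
    push Not
    refine ⟨pe H u v, ⟨pe_mem H u v hu h, ?_⟩, ?_⟩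
    · have h1 := eo_swap H u v hu hv h 1
      have h2 : pe H u v = pe H v ((-1 : F) • u) := by
        unfold pe
        rw [eoT_eq H u v hu h, eoT_eq H v ((-1 : F) • u) hv
          (by rw [polar_smul_right, polar_comm, h, smul_zero])]
        have h3 : eo H u v hu h = eo H u ((1 : F) • v) hu
            (by rw [polar_smul_right, h, smul_zero]) := eo_congr H rfl (one_smul F v).symm _ _ _ _
        rw [h3, h1]
      rw [h2]
      exact pe_mem H v _ hv (by rw [polar_smul_right, polar_comm, h, smul_zero])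
    · rw [Ne, pe_eq_one_iff p H u v hu0 hu h]
      exact hne

end tot
end Cfsg.Agent.Lib.Helper9.AOR
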