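import Mathlib
import Cfsg.Prelude
import Cfsg.Agent.Lib.Helper5.OmegaSimple
import Cfsg.Agent.Lib.Helper5.MaxTS
import Cfsg.Agent.Lib.Helper9.AOR11

set_option autoImplicit false
set_option linter.unusedSectionVars false
set_option linter.unusedVariables false
open Cfsg

namespace Cfsg.Agent.Lib.Helper9.AOR

open Matrix QuadraticMap Cfsg.Agent.Lib.Helper5.CartanDieudonne Cfsg.Agent.Lib.Helper5.Refl
  Cfsg.Agent.Lib.Helper5.OrthCard Cfsg.Agent.Lib.Helper5.Siegel Cfsg.Agent.Lib.Helper5.QuadIsom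
  Cfsg.Agent.Lib.Helper5.ReflGen Cfsg.Agent.Lib.Helper5.Eichler Cfsg.Agent.Lib.Helper5.SingGeom
  Cfsg.Agent.Lib.Helper5.OmegaGen Cfsg.Agent.Lib.Helper5.OmegaSimple

variable {ι : Type} [Fintype ι] [DecidableEq ι] {F : Type*} [Field F] [Fintype F]
  (Q : QuadraticForm F (ι → F))

/-! The relation `Bm`: an automorphism maps Eichler groups to Eichler groups. -/

section bm
open scoped LinearAlgebra.Projectivization Pointwise
open Cfsg.Agent.Lib.Helper5.MaxTS Module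
attribute [local instance 2000] omSMul omAction omSMulComm singSMul singAction

/-- `β` maps the group of `u` onto the group of `u'` -/
def Bm (β : POmega F ⇑Q ≃* POmega F ⇑Q) (u u' : ι → F) : Prop :=
  ∀ x, x ∈ QBT Q u ↔ β x ∈ QBT Q u'

variable {Q}

theorem exists_Bm (p : ℕ) [Fact p.Prime] [CharP F p] (H : Hyp Q) (h7 : 7 ≤ Fintype.card ι)
    (hLag : ∀ Y : Submodule F (ι → F), (∀ y ∈ Y, Q y = 0) → orth Q Y ≤ Y → 10 ≤ Fintype.card ι)
    (β : POmega F ⇑Q ≃* POmega F ⇑Q) (u : ι → F) (hu0 : u ≠ 0) (hu : Q u = 0) :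
    ∃ u' : ι → F, u' ≠ 0 ∧ Q u' = 0 ∧ Bm Q β u u' := by
  have h1 := (PP_QB p H h7 u hu0 hu u hu0 hu).comap β.symm
  obtain ⟨b, hb0, hb, hB⟩ := eq_QB_of_PP p H h7 hLag u hu0 hu _ h1
  refine ⟨b, hb0, hb, fun x => ?_⟩
  rw [QBT_eq u hu, QBT_eq b hb, ← hB, Subgroup.mem_comap]
  simp

theorem Bm_mem_symm {β : POmega F ⇑Q ≃* POmega F ⇑Q} {u u' : ι → F} (h : Bm Q β u u')
    (x : POmega F ⇑Q) : x ∈ QBT Q u' ↔ β.symm x ∈ QBT Q u := by
  rw [h (β.symm x), MulEquiv.apply_symm_apply]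

theorem Bm_QBT_eq {β : POmega F ⇑Q ≃* POmega F ⇑Q} {u u' v v' : ι → F} (h : Bm Q β u u')
    (h' : Bm Q β v v') : QBT Q u = QBT Q v ↔ QBT Q u' = QBT Q v' := by
  constructor
  · intro he
    ext x
    rw [Bm_mem_symm h, Bm_mem_symm h', he]
  · intro he
    ext x
    rw [h x, h' x, he]

theorem Bm_inf {β : POmega F ⇑Q ≃* POmega F ⇑Q} {u u' v v' : ι → F} (h : Bm Q β u u')
    (h' : Bm Q β v v') : QBT Q u ⊓ QBT Q v ≠ ⊥ ↔ QBT Q u' ⊓ QBT Q v' ≠ ⊥ := by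
  rw [Ne, Ne, Subgroup.eq_bot_iff_forall, Subgroup.eq_bot_iff_forall]
  constructor
  · intro hne hall
    apply hne
    intro x hx
    have h1 := hall (β x) ⟨(h x).mp hx.1, (h' x).mp hx.2⟩
    have h2 : β x = β 1 := by rw [h1, map_one]
    exact β.injective h2
  · intro hne hall
    apply hne
    intro x hx
    have h1 := hall (β.symm x) ⟨(Bm_mem_symm h x).mp hx.1, (Bm_mem_symm h' x).mp hx.2⟩
    have h2 : β.symm x = β.symm 1 := by rw [h1, map_one]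
    exact β.symm.injective h2

/-- the point map preserves distinctness and orthogonality -/
theorem Bm_perp (p : ℕ) [Fact p.Prime] [CharP F p] (H : Hyp Q)
    {β : POmega F ⇑Q ≃* POmega F ⇑Q} {u u' v v' : ι → F}
    (hu0 : u ≠ 0) (hv0 : v ≠ 0) (hu : Q u = 0) (hv : Q v = 0)
    (hu0' : u' ≠ 0) (hv0' : v' ≠ 0) (hu' : Q u' = 0) (hv' : Q v' = 0)
    (h : Bm Q β u u') (h' : Bm Q β v v') :
    ((∃ t : F, v = t • u) ↔ ∃ t : F, v' = t • u') ∧
      ((¬ ∃ t : F, v = t • u) → (polar ⇑Q u v = 0 ↔ polar ⇑Q u' v' = 0)) := by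
  have h1 : (∃ t : F, v = t • u) ↔ ∃ t : F, v' = t • u' := by
    rw [← QBT_eq_iff p H u v hu0 hv0 hu hv, ← QBT_eq_iff p H u' v' hu0' hv0' hu' hv']
    exact Bm_QBT_eq h h'
  refine ⟨h1, fun hne => ?_⟩
  have hne' : ¬ ∃ t : F, v' = t • u' := fun hc => hne (h1.mpr hc)
  rw [← QBT_inf_iff p H u v hu0 hv0 hu hv hne, ← QBT_inf_iff p H u' v' hu0' hv0' hu' hv' hne']
  exact Bm_inf h h'

theorem Bm_mul {β γ : POmega F ⇑Q ≃* POmega F ⇑Q} {u u' u'' : ι → F} (h : Bm Q β u u')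
    (h' : Bm Q γ u' u'') : Bm Q (β.trans γ) u u'' := by
  intro x
  rw [h x, h' (β x)]
  rfl

theorem Bm_symm {β : POmega F ⇑Q ≃* POmega F ⇑Q} {u u' : ι → F} (h : Bm Q β u u') :
    Bm Q β.symm u' u := by
  intro x
  exact Bm_mem_symm h x

theorem Bm_conj (g : ↥(Omega F ⇑Q)) (u : ι → F) (hu : Q u = 0) :
    Bm Q (MulAut.conj (pr Q g)) u (act Q g.1 u) := by
  intro x
  rw [← conj_QBT g u hu, mem_conj_smul_iff, MulAut.conj_apply]
  have : (pr Q g)⁻¹ * (pr Q g * x * (pr Q g)⁻¹) * pr Q g = x := by group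
  rw [this]

theorem Bm_smul_right {β : POmega F ⇑Q ≃* POmega F ⇑Q} {u u' : ι → F} (hu' : Q u' = 0) (t : F)
    (ht : t ≠ 0) (h : Bm Q β u (t • u')) : Bm Q β u u' := by
  intro x
  rw [h x, QBT_smul u' hu' t ht]

theorem Bm_smul_left {β : POmega F ⇑Q ≃* POmega F ⇑Q} {u u' : ι → F} (hu : Q u = 0) (t : F)
    (ht : t ≠ 0) (h : Bm Q β u u') : Bm Q β (t • u) u' := by
  intro x
  rw [QBT_smul u hu t ht, h x]

/-- normalisation: after an inner automorphism, `β` fixes the groups of `e` and `f` -/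
theorem exists_normalise (p : ℕ) [Fact p.Prime] [CharP F p] (H : Hyp Q)
    (h7 : 7 ≤ Fintype.card ι)
    (hLag : ∀ Y : Submodule F (ι → F), (∀ y ∈ Y, Q y = 0) → orth Q Y ≤ Y → 10 ≤ Fintype.card ι)
    (β : POmega F ⇑Q ≃* POmega F ⇑Q) (e f : ι → F) (he : Q e = 0) (hf : Q f = 0)
    (hef : polar ⇑Q e f = 1) :
    ∃ g : ↥(Omega F ⇑Q), Bm Q (β.trans (MulAut.conj (pr Q g))) e e ∧
      Bm Q (β.trans (MulAut.conj (pr Q g))) f f := by
  have he0 : e ≠ 0 := by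
    rintro rfl
    simp [polar] at hef
  have hf0 : f ≠ 0 := ne_zero_of_polar_ne (by rw [hef]; exact one_ne_zero)
  obtain ⟨e', he0', he', hBe⟩ := exists_Bm p H h7 hLag β e he0 he
  obtain ⟨f', hf0', hf', hBf⟩ := exists_Bm p H h7 hLag β f hf0 hf
  have hnef : ¬ ∃ t : F, f = t • e := by
    rintro ⟨t, rfl⟩
    rw [polar_smul_right, polar_self_of_sing Q e he, smul_zero] at hef
    exact zero_ne_one hef
  obtain ⟨h1, h2⟩ := Bm_perp p H he0 hf0 he hf he0' hf0' he' hf' hBe hBf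
  have hne' : polar ⇑Q e' f' ≠ 0 := by
    intro hc
    have := (h2 hnef).mpr hc
    rw [hef] at this
    exact one_ne_zero this
  obtain ⟨g1, hg1, a, ha, hg1e⟩ := move H e' e he0' he0 he' he
  have hf'' : Q (act Q g1 f') = 0 := by rw [quad_act]; exact hf'
  have hpol : polar ⇑Q e (act Q g1 f') ≠ 0 := by
    have h3 := polar_act Q g1 e' f'
    rw [hg1e, polar_smul_left, smul_eq_mul] at h3
    intro hc
    rw [hc, mul_zero] at h3
    exact hne' h3.symm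
  obtain ⟨g2, hg2, hg2e, a', ha', hg2f⟩ := move_nonorth_stab H e (act Q g1 f') f he hf'' hf hpol
    (by rw [hef]; exact one_ne_zero)
  refine ⟨⟨g2 * g1, mul_mem hg2 hg1⟩, ?_, ?_⟩
  · have h3 := Bm_conj (⟨g2 * g1, mul_mem hg2 hg1⟩ : ↥(Omega F ⇑Q)) e' he'
    have h4 : act Q (g2 * g1) e' = a • e := by
      rw [act_mul, hg1e, act_smul, hg2e]
    have h5 : Bm Q (MulAut.conj (pr Q ⟨g2 * g1, mul_mem hg2 hg1⟩)) e' (a • e) := by
      rw [← h4]; exact h3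
    exact Bm_mul hBe (Bm_smul_right he a ha h5)
  · have h3 := Bm_conj (⟨g2 * g1, mul_mem hg2 hg1⟩ : ↥(Omega F ⇑Q)) f' hf'
    have h4 : act Q (g2 * g1) f' = a' • f := by
      rw [act_mul, hg2f]
    have h5 : Bm Q (MulAut.conj (pr Q ⟨g2 * g1, mul_mem hg2 hg1⟩)) f' (a' • f) := by
      rw [← h4]; exact h3
    exact Bm_mul hBf (Bm_smul_right hf a' ha' h5)

end bm
end Cfsg.Agent.Lib.Helper9.AOR
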