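import Mathlib
import Cfsg.Prelude
import Cfsg.Agent.Lib.Helper5.OmegaSimple
import Cfsg.Agent.Lib.Helper5.MaxTS
import Cfsg.Agent.Lib.Helper9.AOR12

set_option autoImplicit false
set_option linter.unusedSectionVars false
set_option linter.unusedVariables false
open Cfsg

namespace Cfsg.Agent.Lib.Helper9.AOR

open Matrix QuadraticMap Cfsg.Agent.Lib.Helper5.CartanDieudonne Cfsg.Agent.Lib.Helper5.Refl
  Cfsg.Agent.Lib.Helper5.OrthCard Cfsg.Agent.Lib.Helper5.Siegel Cfsg.Agent.Lib.Helper5.QuadIsom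
  Cfsg.Agent.Lib.Helper5.ReflGen Cfsg.Agent.Lib.Helper5.Eichler Cfsg.Agent.Lib.Helper5.SingGeom
  Cfsg.Agent.Lib.Helper5.OmegaGen Cfsg.Agent.Lib.Helper5.OmegaSimple

variable {ι : Type} [Fintype ι] [DecidableEq ι] {F : Type*} [Field F] [Fintype F]
  (Q : QuadraticForm F (ι → F))

/-! The additive map `ψ` on `⟨e,f⟩^⊥` induced by a normalised automorphism. -/

section psi
open scoped LinearAlgebra.Projectivization Pointwise
open Cfsg.Agent.Lib.Helper5.MaxTS Module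
attribute [local instance 2000] omSMul omAction omSMulComm singSMul singAction

/-- normalised automorphism: fixes the groups of a hyperbolic pair -/
structure Norm (β : POmega F ⇑Q ≃* POmega F ⇑Q) (e f : ι → F) : Prop where
  he : Q e = 0
  hf : Q f = 0
  hef : polar ⇑Q e f = 1
  be : Bm Q β e e
  bf : Bm Q β f f

variable {Q}

theorem Norm.he0 {β : POmega F ⇑Q ≃* POmega F ⇑Q} {e f : ι → F} (N : Norm Q β e f) : e ≠ 0 := by
  rintro rfl
  have := N.hef
  simp [polar] at this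

theorem Norm.hf0 {β : POmega F ⇑Q ≃* POmega F ⇑Q} {e f : ι → F} (N : Norm Q β e f) : f ≠ 0 :=
  ne_zero_of_polar_ne (by rw [N.hef]; exact one_ne_zero)

theorem Norm.hfe {β : POmega F ⇑Q ≃* POmega F ⇑Q} {e f : ι → F} (N : Norm Q β e f) :
    polar ⇑Q f e = 1 := by rw [polar_comm]; exact N.hef

theorem Norm.hee {β : POmega F ⇑Q ≃* POmega F ⇑Q} {e f : ι → F} (N : Norm Q β e f) :
    polar ⇑Q e e = 0 := polar_self_of_sing Q e N.he

theorem Norm.hff {β : POmega F ⇑Q ≃* POmega F ⇑Q} {e f : ι → F} (N : Norm Q β e f) :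
    polar ⇑Q f f = 0 := polar_self_of_sing Q f N.hf

theorem exists_psi (H : Hyp Q) {β : POmega F ⇑Q ≃* POmega F ⇑Q} {e f : ι → F}
    (N : Norm Q β e f) (z : ι → F) :
    ∃ z' : ι → F, polar ⇑Q e z = 0 →
      (polar ⇑Q e z' = 0 ∧ polar ⇑Q f z' = 0 ∧ β (pe H e z) = pe H e z') := by
  by_cases hz : polar ⇑Q e z = 0
  · have h1 := (N.be (pe H e z)).mp (pe_mem H e z N.he hz)
    obtain ⟨z₁, hz₁, h2⟩ := (mem_QBT_iff H e N.he _).mp h1
    refine ⟨z₁ + (-(polar ⇑Q f z₁)) • e, fun _ => ⟨?_, ?_, ?_⟩⟩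
    · rw [polar_add_right, polar_smul_right, hz₁, N.hee]; simp
    · rw [polar_add_right, polar_smul_right, N.hfe]; simp
    · rw [h2]
      unfold pe
      rw [eoT_eq H e z₁ N.he hz₁, eoT_eq H e (z₁ + (-(polar ⇑Q f z₁)) • e) N.he
        (by rw [polar_add_right, polar_smul_right, hz₁, N.hee]; simp)]
      congr 1
      symm
      rw [eo_eq_eo_iff H e _ _ N.he _ hz₁ N.he0]
      exact ⟨-(polar ⇑Q f z₁), rfl⟩
  · exact ⟨0, fun h => absurd h hz⟩

/-- the map `ψ` -/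
noncomputable def psi (H : Hyp Q) {β : POmega F ⇑Q ≃* POmega F ⇑Q} {e f : ι → F}
    (N : Norm Q β e f) (z : ι → F) : ι → F := Classical.choose (exists_psi H N z)

theorem psi_spec (H : Hyp Q) {β : POmega F ⇑Q ≃* POmega F ⇑Q} {e f : ι → F}
    (N : Norm Q β e f) (z : ι → F) (hz : polar ⇑Q e z = 0) :
    polar ⇑Q e (psi H N z) = 0 ∧ polar ⇑Q f (psi H N z) = 0 ∧
      β (pe H e z) = pe H e (psi H N z) := Classical.choose_spec (exists_psi H N z) hz

theorem psi_unique (p : ℕ) [Fact p.Prime] [CharP F p] (H : Hyp Q)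
    {β : POmega F ⇑Q ≃* POmega F ⇑Q} {e f : ι → F} (N : Norm Q β e f) (z w : ι → F)
    (hz : polar ⇑Q e z = 0) (hew : polar ⇑Q e w = 0) (hfw : polar ⇑Q f w = 0)
    (h : β (pe H e z) = pe H e w) : psi H N z = w := by
  obtain ⟨h1, h2, h3⟩ := psi_spec H N z hz
  rw [h] at h3
  obtain ⟨t, ht⟩ := (pe_eq_pe_iff p H e w (psi H N z) N.he0 N.he hew h1).mp h3
  have h4 : polar ⇑Q f w = polar ⇑Q f (psi H N z + t • e) := by rw [ht]
  rw [polar_add_right, polar_smul_right, hfw, h2, N.hfe] at h4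
  have ht0 : t = 0 := by simpa using h4.symm
  rw [ht, ht0]
  simp

theorem pe_zero (H : Hyp Q) (u : ι → F) (hu : Q u = 0) : pe H u 0 = 1 := by
  unfold pe
  have h0 : polar ⇑Q u 0 = 0 := polar_zero_right' u
  rw [eoT_eq H u 0 hu h0]
  have : eo H u 0 hu h0 = 1 := by
    rw [eo_congr H rfl (zero_smul F u).symm hu h0 hu
      (by rw [polar_smul_right, polar_self_of_sing Q u hu, smul_zero])]
    exact eo_smul_self H u hu 0
  rw [this, map_one]

theorem psi_add (p : ℕ) [Fact p.Prime] [CharP F p] (H : Hyp Q)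
    {β : POmega F ⇑Q ≃* POmega F ⇑Q} {e f : ι → F} (N : Norm Q β e f) (z z' : ι → F)
    (hz : polar ⇑Q e z = 0) (hz' : polar ⇑Q e z' = 0) :
    psi H N (z + z') = psi H N z + psi H N z' := by
  obtain ⟨h1, h2, h3⟩ := psi_spec H N z hz
  obtain ⟨h1', h2', h3'⟩ := psi_spec H N z' hz'
  apply psi_unique p H N
  · rw [polar_add_right, hz, hz', add_zero]
  · rw [polar_add_right, h1, h1', add_zero]
  · rw [polar_add_right, h2, h2', add_zero]
  · rw [← pe_mul H e z z' N.he hz hz', map_mul, h3, h3', pe_mul H e _ _ N.he h1 h1']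

theorem psi_smul_e (p : ℕ) [Fact p.Prime] [CharP F p] (H : Hyp Q)
    {β : POmega F ⇑Q ≃* POmega F ⇑Q} {e f : ι → F} (N : Norm Q β e f) (t : F) :
    psi H N (t • e) = 0 := by
  have h0 : polar ⇑Q e (t • e) = 0 := by rw [polar_smul_right, N.hee, smul_zero]
  apply psi_unique p H N _ _ h0 (polar_zero_right' e) (polar_zero_right' f)
  rw [pe_zero H e N.he, (pe_eq_one_iff p H e (t • e) N.he0 N.he h0).mpr ⟨t, rfl⟩, map_one]

theorem psi_zero (p : ℕ) [Fact p.Prime] [CharP F p] (H : Hyp Q)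
    {β : POmega F ⇑Q ≃* POmega F ⇑Q} {e f : ι → F} (N : Norm Q β e f) : psi H N 0 = 0 := by
  have := psi_smul_e p H N 0
  rwa [zero_smul] at this

theorem psi_neg (p : ℕ) [Fact p.Prime] [CharP F p] (H : Hyp Q)
    {β : POmega F ⇑Q ≃* POmega F ⇑Q} {e f : ι → F} (N : Norm Q β e f) (z : ι → F)
    (hz : polar ⇑Q e z = 0) : psi H N (-z) = -psi H N z := by
  have h1 := psi_add p H N z (-z) hz (by rw [polar_neg_right, hz, neg_zero])
  rw [add_neg_cancel, psi_zero p H N] at h1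
  exact eq_neg_of_add_eq_zero_right h1.symm

theorem psi_sub (p : ℕ) [Fact p.Prime] [CharP F p] (H : Hyp Q)
    {β : POmega F ⇑Q ≃* POmega F ⇑Q} {e f : ι → F} (N : Norm Q β e f) (z z' : ι → F)
    (hz : polar ⇑Q e z = 0) (hz' : polar ⇑Q e z' = 0) :
    psi H N (z - z') = psi H N z - psi H N z' := by
  rw [sub_eq_add_neg, psi_add p H N z (-z') hz (by rw [polar_neg_right, hz', neg_zero]),
    psi_neg p H N z' hz', sub_eq_add_neg]

theorem psi_eq_zero (p : ℕ) [Fact p.Prime] [CharP F p] (H : Hyp Q)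
    {β : POmega F ⇑Q ≃* POmega F ⇑Q} {e f : ι → F} (N : Norm Q β e f) (z : ι → F)
    (hz : polar ⇑Q e z = 0) (hfz : polar ⇑Q f z = 0) (h : psi H N z = 0) : z = 0 := by
  obtain ⟨h1, h2, h3⟩ := psi_spec H N z hz
  rw [h, pe_zero H e N.he] at h3
  have h4 : pe H e z = 1 := by
    apply β.injective
    rw [h3, map_one]
  obtain ⟨t, ht⟩ := (pe_eq_one_iff p H e z N.he0 N.he hz).mp h4
  rw [ht, polar_smul_right, N.hfe, smul_eq_mul, mul_one] at hfz
  rw [ht, hfz, zero_smul]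

theorem psi_injective (p : ℕ) [Fact p.Prime] [CharP F p] (H : Hyp Q)
    {β : POmega F ⇑Q ≃* POmega F ⇑Q} {e f : ι → F} (N : Norm Q β e f) (z z' : ι → F)
    (hz : polar ⇑Q e z = 0) (hfz : polar ⇑Q f z = 0) (hz' : polar ⇑Q e z' = 0)
    (hfz' : polar ⇑Q f z' = 0) (h : psi H N z = psi H N z') : z = z' := by
  have h1 := psi_sub p H N z z' hz hz'
  rw [h, sub_self] at h1
  have := psi_eq_zero p H N (z - z') (by rw [polar_sub_right, hz, hz', sub_zero])
    (by rw [polar_sub_right, hfz, hfz', sub_zero]) h1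
  exact sub_eq_zero.mp this

end psi
end Cfsg.Agent.Lib.Helper9.AOR
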