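import Mathlib
import Cfsg.Prelude
import Cfsg.Agent.Lib.Helper5.OmegaSimple
import Cfsg.Agent.Lib.Helper5.MaxTS
import Cfsg.Agent.Lib.Helper9.AOR13

set_option autoImplicit false
set_option linter.unusedSectionVars false
set_option linter.unusedVariables false
open Cfsg

namespace Cfsg.Agent.Lib.Helper9.AOR

open Matrix QuadraticMap Cfsg.Agent.Lib.Helper5.CartanDieudonne Cfsg.Agent.Lib.Helper5.Refl
  Cfsg.Agent.Lib.Helper5.OrthCard Cfsg.Agent.Lib.Helper5.Siegel Cfsg.Agent.Lib.Helper5.QuadIsom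
  Cfsg.Agent.Lib.Helper5.ReflGen Cfsg.Agent.Lib.Helper5.Eichler Cfsg.Agent.Lib.Helper5.SingGeom
  Cfsg.Agent.Lib.Helper5.OmegaGen Cfsg.Agent.Lib.Helper5.OmegaSimple

variable {ι : Type} [Fintype ι] [DecidableEq ι] {F : Type*} [Field F] [Fintype F]
  (Q : QuadraticForm F (ι → F))

/-! Points not orthogonal to `e`; `ψ` preserves singular vectors and orthogonality. -/

section xv
open scoped LinearAlgebra.Projectivization Pointwise
open Cfsg.Agent.Lib.Helper5.MaxTS Module
attribute [local instance 2000] omSMul omAction omSMulComm singSMul singAction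

/-- the singular vector `f + z - Q z • e` -/
def xv (e f z : ι → F) : ι → F := f + z - Q z • e

variable {Q}

theorem xv_zero (e f : ι → F) : xv Q e f 0 = f := by
  unfold xv
  rw [map_zero, zero_smul, add_zero, sub_zero]

section
variable {β : POmega F ⇑Q ≃* POmega F ⇑Q} {e f : ι → F} (N : Norm Q β e f)
include N

theorem polar_e_xv (z : ι → F) (hz : polar ⇑Q e z = 0) : polar ⇑Q e (xv Q e f z) = 1 := by
  unfold xv
  rw [polar_sub_right, polar_add_right, polar_smul_right, N.hef, hz, N.hee]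
  simp

theorem quad_xv (z : ι → F) (hz : polar ⇑Q e z = 0) (hfz : polar ⇑Q f z = 0) :
    Q (xv Q e f z) = 0 := by
  unfold xv
  rw [quad_sub', quad_add', QuadraticMap.map_smul, N.he, N.hf, polar_add_left, polar_smul_right,
    polar_smul_right, N.hfe, polar_comm (⇑Q) z e, hz, hfz]
  simp

theorem xv_ne_zero (z : ι → F) (hz : polar ⇑Q e z = 0) : xv Q e f z ≠ 0 := by
  intro h
  have := polar_e_xv N z hz
  rw [h, polar_zero_right'] at this
  exact zero_ne_one this

theorem act_eo_f (H : Hyp Q) (z : ι → F) (hz : polar ⇑Q e z = 0) (hfz : polar ⇑Q f z = 0) :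
    act Q (eo H e z N.he hz).1 f = xv Q e f z := by
  rw [eo_val, act_eich', N.hef, polar_comm (⇑Q) z f, hfz]
  unfold xv
  simp only [one_smul, zero_add, mul_one, neg_smul]
  abel

theorem polar_xv_xv (z z' : ι → F) (hz : polar ⇑Q e z = 0) (hfz : polar ⇑Q f z = 0)
    (hz' : polar ⇑Q e z' = 0) (hfz' : polar ⇑Q f z' = 0) :
    polar ⇑Q (xv Q e f z) (xv Q e f z') = -Q (z - z') := by
  have hze : polar ⇑Q z e = 0 := by rw [polar_comm]; exact hz
  have hzf : polar ⇑Q z f = 0 := by rw [polar_comm]; exact hfz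
  unfold xv
  simp only [polar_sub_left, polar_sub_right, polar_add_left, polar_add_right, polar_smul_left,
    polar_smul_right, N.hef, N.hfe, N.hee, N.hff, hz, hfz, hz', hfz', hze, hzf, smul_eq_mul]
  rw [quad_sub']
  ring

theorem polar_xv_perp (z w : ι → F) (hw : polar ⇑Q e w = 0) (hfw : polar ⇑Q f w = 0) :
    polar ⇑Q w (xv Q e f z) = polar ⇑Q w z := by
  have hwe : polar ⇑Q w e = 0 := by rw [polar_comm]; exact hw
  have hwf : polar ⇑Q w f = 0 := by rw [polar_comm]; exact hfw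
  unfold xv
  rw [polar_sub_right, polar_add_right, polar_smul_right, hwe, hwf]
  simp

theorem xv_not_smul (z z' : ι → F) (hz : polar ⇑Q e z = 0) (hfz : polar ⇑Q f z = 0)
    (hz' : polar ⇑Q e z' = 0) (hfz' : polar ⇑Q f z' = 0) (hne : z ≠ z') :
    ¬ ∃ t : F, xv Q e f z' = t • xv Q e f z := by
  rintro ⟨t, ht⟩
  have h1 : polar ⇑Q e (xv Q e f z') = polar ⇑Q e (t • xv Q e f z) := by rw [ht]
  rw [polar_smul_right, polar_e_xv N z hz, polar_e_xv N z' hz', smul_eq_mul, mul_one] at h1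
  rw [← h1, one_smul] at ht
  have h2 : polar ⇑Q f (xv Q e f z') = polar ⇑Q f (xv Q e f z) := by rw [ht]
  unfold xv at h2 ht
  rw [polar_sub_right, polar_add_right, polar_smul_right, polar_sub_right, polar_add_right,
    polar_smul_right, N.hff, N.hfe, hfz, hfz'] at h2
  simp only [zero_add, smul_eq_mul, mul_one, zero_sub, neg_inj] at h2
  apply hne
  rw [h2] at ht
  have h3 : z' = z := by linear_combination (norm := module) ht
  exact h3.symm

theorem Bm_xv (p : ℕ) [Fact p.Prime] [CharP F p] (H : Hyp Q) (z : ι → F)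
    (hz : polar ⇑Q e z = 0) (hfz : polar ⇑Q f z = 0) :
    Bm Q β (xv Q e f z) (xv Q e f (psi H N z)) := by
  obtain ⟨h1, h2, h3⟩ := psi_spec H N z hz
  have key : ∀ (w : ι → F) (hw : polar ⇑Q e w = 0) (hfw : polar ⇑Q f w = 0) (x : POmega F ⇑Q),
      x ∈ QBT Q (xv Q e f w) ↔ (pe H e w)⁻¹ * x * pe H e w ∈ QBT Q f := by
    intro w hw hfw x
    have h4 := conj_QBT (eo H e w N.he hw) f N.hf
    rw [act_eo_f N H w hw hfw] at h4
    rw [← h4, mem_conj_smul_iff]
    unfold pe
    rw [eoT_eq H e w N.he hw]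
  intro x
  rw [key z hz hfz x, key _ h1 h2 (β x), N.bf _, map_mul, map_mul, map_inv, h3]

theorem psi_sing_iff (p : ℕ) [Fact p.Prime] [CharP F p] (H : Hyp Q) (z : ι → F)
    (hz : polar ⇑Q e z = 0) (hfz : polar ⇑Q f z = 0) : Q z = 0 ↔ Q (psi H N z) = 0 := by
  by_cases hz0 : z = 0
  · rw [hz0, psi_zero p H N, map_zero]
  obtain ⟨h1, h2, h3⟩ := psi_spec H N z hz
  have hpz0 : psi H N z ≠ 0 := fun h => hz0 (psi_eq_zero p H N z hz hfz h)
  have e0 := polar_zero_right' (Q := Q) e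
  have f0 := polar_zero_right' (Q := Q) f
  have hB0 := Bm_xv N p H 0 e0 f0
  rw [psi_zero p H N] at hB0
  have hBz := Bm_xv N p H z hz hfz
  have h4 := (Bm_perp p H (xv_ne_zero N 0 e0) (xv_ne_zero N z hz)
    (quad_xv N 0 e0 f0) (quad_xv N z hz hfz) (xv_ne_zero N 0 e0) (xv_ne_zero N _ h1)
    (quad_xv N 0 e0 f0) (quad_xv N _ h1 h2) hB0 hBz).2
    (xv_not_smul N 0 z e0 f0 hz hfz (Ne.symm hz0))
  rw [polar_xv_xv N 0 z e0 f0 hz hfz, polar_xv_xv N 0 _ e0 f0 h1 h2, zero_sub, zero_sub,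
    neg_eq_zero, neg_eq_zero, QuadraticMap.map_neg, QuadraticMap.map_neg] at h4
  exact h4

end

end xv
end Cfsg.Agent.Lib.Helper9.AOR
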