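import Mathlib
import Cfsg.Prelude
import Cfsg.Agent.Lib.Helper5.OmegaSimple
import Cfsg.Agent.Lib.Helper5.MaxTS
import Cfsg.Agent.Lib.Helper9.AOR15

set_option autoImplicit false
set_option linter.unusedSectionVars false
set_option linter.unusedVariables false
open Cfsg

namespace Cfsg.Agent.Lib.Helper9.AOR

open Matrix QuadraticMap Cfsg.Agent.Lib.Helper5.CartanDieudonne Cfsg.Agent.Lib.Helper5.Refl
  Cfsg.Agent.Lib.Helper5.OrthCard Cfsg.Agent.Lib.Helper5.Siegel Cfsg.Agent.Lib.Helper5.QuadIsom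
  Cfsg.Agent.Lib.Helper5.ReflGen Cfsg.Agent.Lib.Helper5.Eichler Cfsg.Agent.Lib.Helper5.SingGeom
  Cfsg.Agent.Lib.Helper5.OmegaGen Cfsg.Agent.Lib.Helper5.OmegaSimple

variable {ι : Type} [Fintype ι] [DecidableEq ι] {F : Type*} [Field F] [Fintype F]
  (Q : QuadraticForm F (ι → F))

/-! The field automorphism `σ` attached to a normalised automorphism. -/

section sigma
open scoped LinearAlgebra.Projectivization Pointwise
open Cfsg.Agent.Lib.Helper5.MaxTS Module
attribute [local instance 2000] omSMul omAction omSMulComm singSMul singAction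

variable {Q}

section
variable {β : POmega F ⇑Q ≃* POmega F ⇑Q} {e f : ι → F} (N : Norm Q β e f)
  (p : ℕ) [Fact p.Prime] [CharP F p] (H : Hyp Q) (h7 : 7 ≤ Fintype.card ι)
  (hLag : ∀ Y : Submodule F (ι → F), (∀ y ∈ Y, Q y = 0) → orth Q Y ≤ Y → 10 ≤ Fintype.card ι)
include N h7 hLag p

/-- `ψ` maps the line of a singular vector into the line of its image -/
theorem exists_scalar (z : ι → F) (hz : polar ⇑Q e z = 0) (hfz : polar ⇑Q f z = 0) (hz0 : z ≠ 0)
    (hQz : Q z = 0) (t : F) : ∃ s : F, psi H N (t • z) = s • psi H N z := by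
  by_cases ht : t = 0
  · exact ⟨0, by rw [ht, zero_smul, zero_smul, psi_zero p H N]⟩
  have hz' : polar ⇑Q e (t • z) = 0 := by rw [polar_smul_right, hz, smul_zero]
  have hfz' : polar ⇑Q f (t • z) = 0 := by rw [polar_smul_right, hfz, smul_zero]
  have htz0 : t • z ≠ 0 := smul_ne_zero ht hz0
  have hQtz : Q (t • z) = 0 := by rw [QuadraticMap.map_smul, hQz, smul_zero]
  have hB := Bm_psi N p H h7 hLag z hz hfz hz0 hQz
  have hB' := Bm_psi N p H h7 hLag (t • z) hz' hfz' htz0 hQtz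
  have h1 := (Bm_QBT_eq hB hB').mp (QBT_smul z hQz t ht).symm
  have hpz0 : psi H N z ≠ 0 := fun h => hz0 (psi_eq_zero p H N z hz hfz h)
  have hptz0 : psi H N (t • z) ≠ 0 := fun h => htz0 (psi_eq_zero p H N _ hz' hfz' h)
  exact (QBT_eq_iff p H _ _ hpz0 hptz0 ((psi_sing_iff N p H z hz hfz).mp hQz)
    ((psi_sing_iff N p H _ hz' hfz').mp hQtz)).mp h1

/-- images of non-proportional singular vectors are non-proportional -/
theorem psi_not_smul (z z' : ι → F) (hz : polar ⇑Q e z = 0) (hfz : polar ⇑Q f z = 0)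
    (hz0 : z ≠ 0) (hQz : Q z = 0) (hz' : polar ⇑Q e z' = 0) (hfz' : polar ⇑Q f z' = 0)
    (hz0' : z' ≠ 0) (hQz' : Q z' = 0) (hne : ¬ ∃ t : F, z' = t • z) :
    ¬ ∃ t : F, psi H N z' = t • psi H N z := by
  intro hc
  apply hne
  have hB := Bm_psi N p H h7 hLag z hz hfz hz0 hQz
  have hB' := Bm_psi N p H h7 hLag z' hz' hfz' hz0' hQz'
  have hpz0 : psi H N z ≠ 0 := fun h => hz0 (psi_eq_zero p H N z hz hfz h)
  have hpz0' : psi H N z' ≠ 0 := fun h => hz0' (psi_eq_zero p H N z' hz' hfz' h)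
  have h1 := (QBT_eq_iff p H _ _ hpz0 hpz0' ((psi_sing_iff N p H z hz hfz).mp hQz)
    ((psi_sing_iff N p H z' hz' hfz').mp hQz')).mpr hc
  exact (QBT_eq_iff p H z z' hz0 hz0' hQz hQz').mp ((Bm_QBT_eq hB hB').mpr h1)

theorem scalar_eq_of_perp (z z' : ι → F) (hz : polar ⇑Q e z = 0) (hfz : polar ⇑Q f z = 0)
    (hz0 : z ≠ 0) (hQz : Q z = 0) (hz' : polar ⇑Q e z' = 0) (hfz' : polar ⇑Q f z' = 0)
    (hz0' : z' ≠ 0) (hQz' : Q z' = 0) (hne : ¬ ∃ t : F, z' = t • z) (hzz' : polar ⇑Q z z' = 0)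
    (t s s' : F) (hs : psi H N (t • z) = s • psi H N z)
    (hs' : psi H N (t • z') = s' • psi H N z') : s = s' := by
  have hsum0 : z + z' ≠ 0 := by
    intro h
    apply hne
    exact ⟨-1, by rw [neg_smul, one_smul]; exact (eq_neg_of_add_eq_zero_right h)⟩
  have hQsum : Q (z + z') = 0 := by rw [quad_add', hQz, hQz', hzz']; simp
  have hesum : polar ⇑Q e (z + z') = 0 := by rw [polar_add_right, hz, hz', add_zero]
  have hfsum : polar ⇑Q f (z + z') = 0 := by rw [polar_add_right, hfz, hfz', add_zero]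
  obtain ⟨s'', hs''⟩ := exists_scalar N p H h7 hLag (z + z') hesum hfsum hsum0 hQsum t
  rw [smul_add, psi_add p H N _ _ (by rw [polar_smul_right, hz, smul_zero])
    (by rw [polar_smul_right, hz', smul_zero]), psi_add p H N z z' hz hz', hs, hs',
    smul_add] at hs''
  have hpz0 : psi H N z ≠ 0 := fun h => hz0 (psi_eq_zero p H N z hz hfz h)
  have hnp := psi_not_smul N p H h7 hLag z z' hz hfz hz0 hQz hz' hfz' hz0' hQz' hne
  have hli : LinearIndependent F ![psi H N z, psi H N z'] := by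
    rw [LinearIndependent.pair_iff' hpz0]
    intro a ha
    exact hnp ⟨a, ha.symm⟩
  rw [LinearIndependent.pair_iff] at hli
  have h1 := hli (s - s'') (s' - s'') (by
    rw [sub_smul, sub_smul]
    linear_combination (norm := module) hs'')
  rw [sub_eq_zero.mp h1.1, sub_eq_zero.mp h1.2]

theorem scalar_eq_of_not_perp (z z' : ι → F) (hz : polar ⇑Q e z = 0) (hfz : polar ⇑Q f z = 0)
    (hz0 : z ≠ 0) (hQz : Q z = 0) (hz' : polar ⇑Q e z' = 0) (hfz' : polar ⇑Q f z' = 0)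
    (hz0' : z' ≠ 0) (hQz' : Q z' = 0) (hzz' : polar ⇑Q z z' ≠ 0)
    (t s s' : F) (hs : psi H N (t • z) = s • psi H N z)
    (hs' : psi H N (t • z') = s' • psi H N z') : s = s' := by
  obtain ⟨w, hw0, hQw, hperp⟩ := exists_singular_perpN Q ![e, f, z, z'] (by omega)
  have hew : polar ⇑Q e w = 0 := hperp 0
  have hfw : polar ⇑Q f w = 0 := hperp 1
  have hzw : polar ⇑Q z w = 0 := hperp 2
  have hz'w : polar ⇑Q z' w = 0 := hperp 3
  obtain ⟨sw, hsw⟩ := exists_scalar N p H h7 hLag w hew hfw hw0 hQw t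
  have hne1 : ¬ ∃ a : F, w = a • z := by
    rintro ⟨a, rfl⟩
    rw [polar_smul_right, polar_comm, smul_eq_mul] at hz'w
    rcases mul_eq_zero.mp hz'w with h | h
    · rw [h, zero_smul] at hw0
      exact hw0 rfl
    · exact hzz' h
  have hne2 : ¬ ∃ a : F, w = a • z' := by
    rintro ⟨a, rfl⟩
    rw [polar_smul_right, smul_eq_mul] at hzw
    rcases mul_eq_zero.mp hzw with h | h
    · rw [h, zero_smul] at hw0
      exact hw0 rfl
    · exact hzz' h
  have e1 := scalar_eq_of_perp N p H h7 hLag z w hz hfz hz0 hQz hew hfw hw0 hQw hne1 hzw t s sw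
    hs hsw
  have e2 := scalar_eq_of_perp N p H h7 hLag z' w hz' hfz' hz0' hQz' hew hfw hw0 hQw hne2 hz'w
    t s' sw hs' hsw
  rw [e1, e2]

theorem scalar_eq (z z' : ι → F) (hz : polar ⇑Q e z = 0) (hfz : polar ⇑Q f z = 0)
    (hz0 : z ≠ 0) (hQz : Q z = 0) (hz' : polar ⇑Q e z' = 0) (hfz' : polar ⇑Q f z' = 0)
    (hz0' : z' ≠ 0) (hQz' : Q z' = 0)
    (t s s' : F) (hs : psi H N (t • z) = s • psi H N z)
    (hs' : psi H N (t • z') = s' • psi H N z') : s = s' := by
  by_cases hzz' : polar ⇑Q z z' = 0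
  · by_cases hne : ∃ a : F, z' = a • z
    · obtain ⟨a, ha⟩ := hne
      have ha0 : a ≠ 0 := by
        rintro rfl
        rw [zero_smul] at ha
        exact hz0' ha
      obtain ⟨w, hQw, hwz, hew, hfw⟩ := exists_partner_in Q H.nondeg e f z N.he N.hf N.hef hz0 hQz
        hz hfz
      have hw0 : w ≠ 0 := by
        rintro rfl
        rw [polar_zero_left'] at hwz
        exact zero_ne_one hwz
      obtain ⟨sw, hsw⟩ := exists_scalar N p H h7 hLag w hew hfw hw0 hQw t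
      have hzw : polar ⇑Q z w ≠ 0 := by
        rw [polar_comm, hwz]
        exact one_ne_zero
      have hz'w : polar ⇑Q z' w ≠ 0 := by
        rw [ha, polar_smul_left, smul_eq_mul]
        exact mul_ne_zero ha0 hzw
      have e1 := scalar_eq_of_not_perp N p H h7 hLag z w hz hfz hz0 hQz hew hfw hw0 hQw hzw t s sw
        hs hsw
      have e2 := scalar_eq_of_not_perp N p H h7 hLag z' w hz' hfz' hz0' hQz' hew hfw hw0 hQw hz'w
        t s' sw hs' hsw
      rw [e1, e2]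
    · exact scalar_eq_of_perp N p H h7 hLag z z' hz hfz hz0 hQz hz' hfz' hz0' hQz' hne hzz' t s s'
        hs hs'
  · exact scalar_eq_of_not_perp N p H h7 hLag z z' hz hfz hz0 hQz hz' hfz' hz0' hQz' hzz' t s s'
      hs hs'

theorem exists_sgm (t : F) : ∃ s : F, ∀ z : ι → F, polar ⇑Q e z = 0 → polar ⇑Q f z = 0 →
    z ≠ 0 → Q z = 0 → psi H N (t • z) = s • psi H N z := by
  obtain ⟨z₀, hz₀0, hQz₀, hperp⟩ := exists_singular_perpN Q ![e, f] (by omega)
  have hez₀ : polar ⇑Q e z₀ = 0 := hperp 0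
  have hfz₀ : polar ⇑Q f z₀ = 0 := hperp 1
  obtain ⟨s, hs⟩ := exists_scalar N p H h7 hLag z₀ hez₀ hfz₀ hz₀0 hQz₀ t
  refine ⟨s, fun z hz hfz hz0 hQz => ?_⟩
  obtain ⟨s', hs'⟩ := exists_scalar N p H h7 hLag z hz hfz hz0 hQz t
  rw [hs', scalar_eq N p H h7 hLag z z₀ hz hfz hz0 hQz hez₀ hfz₀ hz₀0 hQz₀ t s' s hs' hs]

end

end sigma
end Cfsg.Agent.Lib.Helper9.AOR
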