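import Mathlib
import Cfsg.Prelude
import Cfsg.Agent.Lib.Helper5.OmegaSimple
import Cfsg.Agent.Lib.Helper5.MaxTS
import Cfsg.Agent.Lib.Helper9.AOR16

set_option autoImplicit false
set_option linter.unusedSectionVars false
set_option linter.unusedVariables false
open Cfsg

namespace Cfsg.Agent.Lib.Helper9.AOR

open Matrix QuadraticMap Cfsg.Agent.Lib.Helper5.CartanDieudonne Cfsg.Agent.Lib.Helper5.Refl
  Cfsg.Agent.Lib.Helper5.OrthCard Cfsg.Agent.Lib.Helper5.Siegel Cfsg.Agent.Lib.Helper5.QuadIsom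
  Cfsg.Agent.Lib.Helper5.ReflGen Cfsg.Agent.Lib.Helper5.Eichler Cfsg.Agent.Lib.Helper5.SingGeom
  Cfsg.Agent.Lib.Helper5.OmegaGen Cfsg.Agent.Lib.Helper5.OmegaSimple

variable {ι : Type} [Fintype ι] [DecidableEq ι] {F : Type*} [Field F] [Fintype F]
  (Q : QuadraticForm F (ι → F))

/-! `σ` is a field automorphism and `ψ` is `σ`-semilinear on `⟨e,f⟩^⊥`. -/

section sigma2
open scoped LinearAlgebra.Projectivization Pointwise
open Cfsg.Agent.Lib.Helper5.MaxTS Module
attribute [local instance 2000] omSMul omAction omSMulComm singSMul singAction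

variable {Q}

section
variable {β : POmega F ⇑Q ≃* POmega F ⇑Q} {e f : ι → F} (N : Norm Q β e f)
  (p : ℕ) [Fact p.Prime] [CharP F p] (H : Hyp Q) (h7 : 7 ≤ Fintype.card ι)
  (hLag : ∀ Y : Submodule F (ι → F), (∀ y ∈ Y, Q y = 0) → orth Q Y ≤ Y → 10 ≤ Fintype.card ι)

/-- the map `σ` -/
noncomputable def sgm (t : F) : F := Classical.choose (exists_sgm N p H h7 hLag t)

theorem sgm_spec (t : F) (z : ι → F) (hz : polar ⇑Q e z = 0) (hfz : polar ⇑Q f z = 0)
    (hz0 : z ≠ 0) (hQz : Q z = 0) :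
    psi H N (t • z) = sgm N p H h7 hLag t • psi H N z :=
  Classical.choose_spec (exists_sgm N p H h7 hLag t) z hz hfz hz0 hQz

include N h7 in
theorem exists_base : ∃ z₀ : ι → F, polar ⇑Q e z₀ = 0 ∧ polar ⇑Q f z₀ = 0 ∧ z₀ ≠ 0 ∧ Q z₀ = 0 := by
  obtain ⟨z₀, hz₀0, hQz₀, hperp⟩ := exists_singular_perpN Q ![e, f] (by omega)
  exact ⟨z₀, hperp 0, hperp 1, hz₀0, hQz₀⟩

theorem sgm_unique (t s : F) (z : ι → F) (hz : polar ⇑Q e z = 0) (hfz : polar ⇑Q f z = 0)
    (hz0 : z ≠ 0) (hQz : Q z = 0) (h : psi H N (t • z) = s • psi H N z) :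
    sgm N p H h7 hLag t = s := by
  have h1 := sgm_spec N p H h7 hLag t z hz hfz hz0 hQz
  rw [h] at h1
  have hpz0 : psi H N z ≠ 0 := fun h => hz0 (psi_eq_zero p H N z hz hfz h)
  have h2 : (s - sgm N p H h7 hLag t) • psi H N z = 0 := by rw [sub_smul, h1, sub_self]
  rcases smul_eq_zero.mp h2 with h3 | h3
  · exact (sub_eq_zero.mp h3).symm
  · exact absurd h3 hpz0

theorem sgm_one : sgm N p H h7 hLag 1 = 1 := by
  obtain ⟨z₀, hz, hfz, hz0, hQz⟩ := exists_base N h7
  exact sgm_unique N p H h7 hLag 1 1 z₀ hz hfz hz0 hQz (by rw [one_smul, one_smul])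

theorem sgm_zero : sgm N p H h7 hLag 0 = 0 := by
  obtain ⟨z₀, hz, hfz, hz0, hQz⟩ := exists_base N h7
  exact sgm_unique N p H h7 hLag 0 0 z₀ hz hfz hz0 hQz
    (by rw [zero_smul, zero_smul, psi_zero p H N])

theorem sgm_add (s t : F) :
    sgm N p H h7 hLag (s + t) = sgm N p H h7 hLag s + sgm N p H h7 hLag t := by
  obtain ⟨z₀, hz, hfz, hz0, hQz⟩ := exists_base N h7
  apply sgm_unique N p H h7 hLag _ _ z₀ hz hfz hz0 hQz
  rw [add_smul, psi_add p H N _ _ (by rw [polar_smul_right, hz, smul_zero])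
    (by rw [polar_smul_right, hz, smul_zero]), sgm_spec N p H h7 hLag s z₀ hz hfz hz0 hQz,
    sgm_spec N p H h7 hLag t z₀ hz hfz hz0 hQz, add_smul]

theorem sgm_mul (s t : F) :
    sgm N p H h7 hLag (s * t) = sgm N p H h7 hLag s * sgm N p H h7 hLag t := by
  obtain ⟨z₀, hz, hfz, hz0, hQz⟩ := exists_base N h7
  by_cases ht : t = 0
  · rw [ht, mul_zero, sgm_zero, mul_zero]
  apply sgm_unique N p H h7 hLag _ _ z₀ hz hfz hz0 hQz
  rw [← smul_smul, sgm_spec N p H h7 hLag s (t • z₀) (by rw [polar_smul_right, hz, smul_zero])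
    (by rw [polar_smul_right, hfz, smul_zero]) (smul_ne_zero ht hz0)
    (by rw [QuadraticMap.map_smul, hQz, smul_zero]),
    sgm_spec N p H h7 hLag t z₀ hz hfz hz0 hQz, smul_smul]

/-- `σ` as a ring homomorphism -/
noncomputable def sgmHom : F →+* F where
  toFun := sgm N p H h7 hLag
  map_one' := sgm_one N p H h7 hLag
  map_mul' := sgm_mul N p H h7 hLag
  map_zero' := sgm_zero N p H h7 hLag
  map_add' := sgm_add N p H h7 hLag

/-- `σ` as a field automorphism -/
noncomputable def sgmEquiv : F ≃+* F :=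
  RingEquiv.ofBijective (sgmHom N p H h7 hLag)
    ⟨(sgmHom N p H h7 hLag).injective,
      Finite.injective_iff_surjective.mp (sgmHom N p H h7 hLag).injective⟩

theorem sgmEquiv_apply (t : F) : sgmEquiv N p H h7 hLag t = sgm N p H h7 hLag t := rfl

theorem psi_smul_sing (t : F) (z : ι → F) (hz : polar ⇑Q e z = 0) (hfz : polar ⇑Q f z = 0)
    (hQz : Q z = 0) : psi H N (t • z) = sgm N p H h7 hLag t • psi H N z := by
  by_cases hz0 : z = 0
  · rw [hz0, smul_zero, psi_zero p H N, smul_zero]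
  · exact sgm_spec N p H h7 hLag t z hz hfz hz0 hQz

/-- `ψ` is `σ`-semilinear on `⟨e,f⟩^⊥` -/
theorem psi_smul (t : F) (w : ι → F) (hw : polar ⇑Q e w = 0) (hfw : polar ⇑Q f w = 0) :
    psi H N (t • w) = sgm N p H h7 hLag t • psi H N w := by
  obtain ⟨z₀, hz, hfz, hz0, hQz⟩ := exists_base N h7
  obtain ⟨f₂, hQf₂, hf₂z, hef₂, hff₂⟩ := exists_partner_in Q H.nondeg e f z₀ N.he N.hf N.hef hz0 hQz
    hz hfz
  have hzf₂ : polar ⇑Q z₀ f₂ = 1 := by rw [polar_comm]; exact hf₂z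
  obtain ⟨s, a, b, hQs, hdec⟩ := sing_decomp z₀ f₂ hQz hQf₂ hzf₂ w
  have hs : s = w - a • z₀ - b • f₂ := by rw [hdec]; abel
  have hes : polar ⇑Q e s = 0 := by
    rw [hs, polar_sub_right, polar_sub_right, polar_smul_right, polar_smul_right, hw, hz, hef₂]
    simp
  have hfs : polar ⇑Q f s = 0 := by
    rw [hs, polar_sub_right, polar_sub_right, polar_smul_right, polar_smul_right, hfw, hfz, hff₂]
    simp
  have hea : polar ⇑Q e (a • z₀) = 0 := by rw [polar_smul_right, hz, smul_zero]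
  have heb : polar ⇑Q e (b • f₂) = 0 := by rw [polar_smul_right, hef₂, smul_zero]
  have hfa : polar ⇑Q f (a • z₀) = 0 := by rw [polar_smul_right, hfz, smul_zero]
  have hfb : polar ⇑Q f (b • f₂) = 0 := by rw [polar_smul_right, hff₂, smul_zero]
  have hQa : Q (a • z₀) = 0 := by rw [QuadraticMap.map_smul, hQz, smul_zero]
  have hQb : Q (b • f₂) = 0 := by rw [QuadraticMap.map_smul, hQf₂, smul_zero]
  have hesa : polar ⇑Q e (s + a • z₀) = 0 := by rw [polar_add_right, hes, hea, add_zero]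
  rw [hdec, smul_add, smul_add,
    psi_add p H N _ _ (by rw [← smul_add, polar_smul_right, hesa, smul_zero])
      (by rw [polar_smul_right, heb, smul_zero]),
    psi_add p H N _ _ (by rw [polar_smul_right, hes, smul_zero])
      (by rw [polar_smul_right, hea, smul_zero]),
    psi_add p H N _ _ hesa heb, psi_add p H N _ _ hes hea,
    psi_smul_sing N p H h7 hLag t s hes hfs hQs,
    psi_smul_sing N p H h7 hLag t (a • z₀) hea hfa hQa,
    psi_smul_sing N p H h7 hLag t (b • f₂) heb hfb hQb, smul_add, smul_add]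

end

end sigma2
end Cfsg.Agent.Lib.Helper9.AOR
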