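import Mathlib
import Cfsg.Prelude
import Cfsg.Agent.Lib.Helper5.OmegaSimple
import Cfsg.Agent.Lib.Helper5.MaxTS
import Cfsg.Agent.Lib.Helper9.AOR19
import Cfsg.Agent.Lib.Helper5.OAut.Sim

set_option autoImplicit false
set_option linter.unusedSectionVars false
set_option linter.unusedVariables false
open Cfsg

namespace Cfsg.Agent.Lib.Helper9.AOR

open Matrix QuadraticMap Cfsg.Agent.Lib.Helper5.CartanDieudonne Cfsg.Agent.Lib.Helper5.Refl
  Cfsg.Agent.Lib.Helper5.OrthCard Cfsg.Agent.Lib.Helper5.Siegel Cfsg.Agent.Lib.Helper5.QuadIsom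
  Cfsg.Agent.Lib.Helper5.ReflGen Cfsg.Agent.Lib.Helper5.Eichler Cfsg.Agent.Lib.Helper5.SingGeom
  Cfsg.Agent.Lib.Helper5.OmegaGen Cfsg.Agent.Lib.Helper5.OmegaSimple

variable {ι : Type} [Fintype ι] [DecidableEq ι] {F : Type*} [Field F] [Fintype F]
  (Q : QuadraticForm F (ι → F))

/-! The automorphism of `PΩ` induced by a semisimilarity. -/

section semiaut
open scoped LinearAlgebra.Projectivization Pointwise
open Cfsg.Agent.Lib.Helper5.MaxTS Module Cfsg.Agent.Lib.Helper5.OAut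
attribute [local instance 2000] omSMul omAction omSMulComm singSMul singAction

/-- the semilinear map `v ↦ g σ(v)` -/
def sm (g : Matrix.GeneralLinearGroup ι F) (σ : F ≃+* F) (v : ι → F) : ι → F :=
  (g : Matrix ι ι F) *ᵥ vm σ v

omit [Fintype F] in
theorem vm_mulVec (σ : F ≃+* F) (M : Matrix ι ι F) (v : ι → F) :
    vm σ (M *ᵥ v) = M.map σ *ᵥ vm σ v := by
  ext i
  simp [vm, Matrix.mulVec, dotProduct, map_sum, map_mul]

omit [Fintype F] in
theorem sm_add (g : Matrix.GeneralLinearGroup ι F) (σ : F ≃+* F) (u v : ι → F) :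
    sm g σ (u + v) = sm g σ u + sm g σ v := by
  unfold sm
  rw [vm_add, Matrix.mulVec_add]

omit [Fintype F] in
theorem sm_smul (g : Matrix.GeneralLinearGroup ι F) (σ : F ≃+* F) (a : F) (v : ι → F) :
    sm g σ (a • v) = σ a • sm g σ v := by
  unfold sm
  rw [vm_smul, Matrix.mulVec_smul]

omit [Fintype F] in
theorem sm_surj (g : Matrix.GeneralLinearGroup ι F) (σ : F ≃+* F) (x : ι → F) :
    ∃ v, sm g σ v = x := by
  refine ⟨vm σ.symm (((g⁻¹ : Matrix.GeneralLinearGroup ι F) : Matrix ι ι F) *ᵥ x), ?_⟩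
  unfold sm
  rw [vm_symm', Matrix.mulVec_mulVec]
  have : (g : Matrix ι ι F) * ((g⁻¹ : Matrix.GeneralLinearGroup ι F) : Matrix ι ι F) = 1 := by
    rw [← Matrix.GeneralLinearGroup.coe_mul, mul_inv_cancel]
    rfl
  rw [this, Matrix.one_mulVec]

variable {Q}

/-- conjugating an isometry by a semisimilarity -/
theorem semi_conj_mem (g : Matrix.GeneralLinearGroup ι F) (σ : F ≃+* F) (c : F)
    (hg : ∀ v, Q (sm g σ v) = c * σ (Q v)) (s : Matrix.GeneralLinearGroup ι F)
    (hs : s ∈ isometryGroup F ⇑Q) :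
    g * Matrix.GeneralLinearGroup.map (σ : F →+* F) s * g⁻¹ ∈ isometryGroup F ⇑Q := by
  rw [mem_isometryGroup_iff] at hs ⊢
  intro x
  obtain ⟨v, rfl⟩ := sm_surj g σ x
  have h1 : ((g * Matrix.GeneralLinearGroup.map (σ : F →+* F) s * g⁻¹ :
      Matrix.GeneralLinearGroup ι F) : Matrix ι ι F) *ᵥ sm g σ v =
      sm g σ ((s : Matrix ι ι F) *ᵥ v) := by
    unfold sm
    rw [vm_mulVec, Matrix.mulVec_mulVec, Matrix.mulVec_mulVec]
    congr 1
    rw [Matrix.GeneralLinearGroup.coe_mul, Matrix.GeneralLinearGroup.coe_mul, mul_assoc, mul_assoc]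
    have : ((g⁻¹ : Matrix.GeneralLinearGroup ι F) : Matrix ι ι F) * (g : Matrix ι ι F) = 1 := by
      rw [← Matrix.GeneralLinearGroup.coe_mul, inv_mul_cancel]
      rfl
    rw [this, mul_one]
    rfl
  rw [h1, hg, hg, hs]

/-- conjugation by a semisimilarity on the isometry group -/
noncomputable def semiHom (g : Matrix.GeneralLinearGroup ι F) (σ : F ≃+* F) (c : F)
    (hg : ∀ v, Q (sm g σ v) = c * σ (Q v)) :
    ↥(isometryGroup F ⇑Q) →* ↥(isometryGroup F ⇑Q) where
  toFun s := ⟨g * Matrix.GeneralLinearGroup.map (σ : F →+* F) s.1 * g⁻¹,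
    semi_conj_mem g σ c hg s.1 s.2⟩
  map_one' := by
    apply Subtype.ext
    show g * Matrix.GeneralLinearGroup.map (σ : F →+* F) 1 * g⁻¹ = 1
    rw [map_one, mul_one, mul_inv_cancel]
  map_mul' := by
    intro a b
    apply Subtype.ext
    show g * Matrix.GeneralLinearGroup.map (σ : F →+* F) (a.1 * b.1) * g⁻¹ =
      (g * Matrix.GeneralLinearGroup.map (σ : F →+* F) a.1 * g⁻¹) *
        (g * Matrix.GeneralLinearGroup.map (σ : F →+* F) b.1 * g⁻¹)
    rw [map_mul]
    group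

theorem semiHom_injective (g : Matrix.GeneralLinearGroup ι F) (σ : F ≃+* F) (c : F)
    (hg : ∀ v, Q (sm g σ v) = c * σ (Q v)) : Function.Injective (semiHom g σ c hg) := by
  intro a b hab
  have h1 : g * Matrix.GeneralLinearGroup.map (σ : F →+* F) a.1 * g⁻¹ =
      g * Matrix.GeneralLinearGroup.map (σ : F →+* F) b.1 * g⁻¹ := congrArg Subtype.val hab
  have h2 : Matrix.GeneralLinearGroup.map (σ : F →+* F) a.1 =
      Matrix.GeneralLinearGroup.map (σ : F →+* F) b.1 := by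
    have := mul_left_cancel (mul_right_cancel h1)
    exact this
  apply Subtype.ext
  apply Units.ext
  ext i j
  have h3 := congrArg (fun m : Matrix.GeneralLinearGroup ι F => (m : Matrix ι ι F) i j) h2
  simp only [Matrix.GeneralLinearGroup.map_apply] at h3
  exact σ.injective h3

/-- the automorphism of the isometry group -/
noncomputable def semiAutO (g : Matrix.GeneralLinearGroup ι F) (σ : F ≃+* F) (c : F)
    (hg : ∀ v, Q (sm g σ v) = c * σ (Q v)) : MulAut ↥(isometryGroup F ⇑Q) :=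
  MulEquiv.ofBijective (semiHom g σ c hg)
    ⟨semiHom_injective g σ c hg,
      Finite.injective_iff_surjective.mp (semiHom_injective g σ c hg)⟩

theorem semiAutO_coe (g : Matrix.GeneralLinearGroup ι F) (σ : F ≃+* F) (c : F)
    (hg : ∀ v, Q (sm g σ v) = c * σ (Q v)) (s : ↥(isometryGroup F ⇑Q)) :
    ((semiAutO g σ c hg s : ↥(isometryGroup F ⇑Q)) : Matrix.GeneralLinearGroup ι F) =
      g * Matrix.GeneralLinearGroup.map (σ : F →+* F) s.1 * g⁻¹ := rfl

/-- action of the conjugate on vectors -/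
theorem act_semiAutO (g : Matrix.GeneralLinearGroup ι F) (σ : F ≃+* F) (c : F)
    (hg : ∀ v, Q (sm g σ v) = c * σ (Q v)) (s : ↥(isometryGroup F ⇑Q)) (v : ι → F) :
    act Q (semiAutO g σ c hg s) (sm g σ v) = sm g σ (act Q s v) := by
  show ((g * Matrix.GeneralLinearGroup.map (σ : F →+* F) s.1 * g⁻¹ :
      Matrix.GeneralLinearGroup ι F) : Matrix ι ι F) *ᵥ sm g σ v = _
  unfold sm act
  rw [vm_mulVec, Matrix.mulVec_mulVec, Matrix.mulVec_mulVec]
  congr 1
  rw [Matrix.GeneralLinearGroup.coe_mul, Matrix.GeneralLinearGroup.coe_mul, mul_assoc, mul_assoc]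
  have : ((g⁻¹ : Matrix.GeneralLinearGroup ι F) : Matrix ι ι F) * (g : Matrix ι ι F) = 1 := by
    rw [← Matrix.GeneralLinearGroup.coe_mul, inv_mul_cancel]
    rfl
  rw [this, mul_one]
  rfl

/-- the automorphism of `PΩ` induced by a semisimilarity -/
noncomputable def semiAut (g : Matrix.GeneralLinearGroup ι F) (σ : F ≃+* F) (c : F)
    (hg : ∀ v, Q (sm g σ v) = c * σ (Q v)) : MulAut (POmega F ⇑Q) :=
  quotCenter ↥(Omega F ⇑Q) (restrictChar (Omega F ⇑Q) (semiAutO g σ c hg))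

theorem semiAut_pr (g : Matrix.GeneralLinearGroup ι F) (σ : F ≃+* F) (c : F)
    (hg : ∀ v, Q (sm g σ v) = c * σ (Q v)) (s : ↥(Omega F ⇑Q)) :
    semiAut g σ c hg (pr Q s) = pr Q (restrictChar (Omega F ⇑Q) (semiAutO g σ c hg) s) := rfl

theorem semiAut_induced (g : Matrix.GeneralLinearGroup ι F) (σ : F ≃+* F) (c : F)
    (hg : ∀ v, Q (sm g σ v) = c * σ (Q v)) :
    IsInducedBySemilinearPOmega (⇑Q) g σ (semiAut g σ c hg) := by
  intro s s' hs
  have h1 : restrictChar (Omega F ⇑Q) (semiAutO g σ c hg) s = s' := by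
    apply Subtype.ext
    apply Subtype.ext
    apply Units.ext
    rw [hs]
    rfl
  show semiAut g σ c hg (pr Q s) = pr Q s'
  rw [semiAut_pr, h1]

theorem semi_pair (g : Matrix.GeneralLinearGroup ι F) (σ : F ≃+* F) (c : F) (hc : c ≠ 0)
    (hg : ∀ v, Q (sm g σ v) = c * σ (Q v)) : IsSemisimilarityPair (⇑Q) g σ :=
  ⟨Units.mk0 c hc, fun v => hg v⟩

end semiaut
end Cfsg.Agent.Lib.Helper9.AOR
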