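import Mathlib
import Cfsg.Prelude
import Cfsg.Agent.Lib.Helper5.OmegaSimple
import Cfsg.Agent.Lib.Helper5.MaxTS
import Cfsg.Agent.Lib.Helper9.AOR20

set_option autoImplicit false
set_option linter.unusedSectionVars false
set_option linter.unusedVariables false
open Cfsg

namespace Cfsg.Agent.Lib.Helper9.AOR

open Matrix QuadraticMap Cfsg.Agent.Lib.Helper5.CartanDieudonne Cfsg.Agent.Lib.Helper5.Refl
  Cfsg.Agent.Lib.Helper5.OrthCard Cfsg.Agent.Lib.Helper5.Siegel Cfsg.Agent.Lib.Helper5.QuadIsom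
  Cfsg.Agent.Lib.Helper5.ReflGen Cfsg.Agent.Lib.Helper5.Eichler Cfsg.Agent.Lib.Helper5.SingGeom
  Cfsg.Agent.Lib.Helper5.OmegaGen Cfsg.Agent.Lib.Helper5.OmegaSimple

variable {ι : Type} [Fintype ι] [DecidableEq ι] {F : Type*} [Field F] [Fintype F]
  (Q : QuadraticForm F (ι → F))

/-! The induced automorphism on Eichler elements; automorphisms fixing all Eichler groups. -/

section semiaut2
open scoped LinearAlgebra.Projectivization Pointwise
open Cfsg.Agent.Lib.Helper5.MaxTS Module Cfsg.Agent.Lib.Helper5.OAut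
attribute [local instance 2000] omSMul omAction omSMulComm singSMul singAction

variable {Q}

section
variable (g : Matrix.GeneralLinearGroup ι F) (σ : F ≃+* F) (c : F)
  (hg : ∀ v, Q (sm g σ v) = c * σ (Q v))

include hg in
theorem polar_sm (x y : ι → F) :
    polar ⇑Q (sm g σ x) (sm g σ y) = c * σ (polar ⇑Q x y) := by
  unfold polar
  rw [← sm_add, hg, hg, hg, map_sub, map_sub]
  ring

theorem semiAutO_eich (hc : c ≠ 0) (u z : ι → F) (hu : Q u = 0) (huz : polar ⇑Q u z = 0) :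
    semiAutO g σ c hg (eich Q u z hu huz) =
      eich Q (sm g σ u) (c⁻¹ • sm g σ z) (by rw [hg, hu, map_zero, mul_zero])
        (by rw [polar_smul_right, polar_sm g σ c hg, huz, map_zero, mul_zero, smul_zero]) := by
  apply ext_act
  intro x
  obtain ⟨v, rfl⟩ := sm_surj g σ x
  rw [act_semiAutO, act_eich', act_eich', sm_add, sm_add, sm_smul, sm_smul, polar_smul_left,
    polar_sm g σ c hg, polar_sm g σ c hg, QuadraticMap.map_smul, hg]
  simp only [smul_eq_mul, map_neg, map_add, map_mul, smul_smul]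
  congr 1
  · congr 1
    rw [mul_comm (c * σ (polar ⇑Q u v)) c⁻¹, ← mul_assoc, inv_mul_cancel₀ hc, one_mul]
  · congr 1
    field_simp

end

theorem pe_smul_left (H : Hyp Q) (u z : ι → F) (hu : Q u = 0) (huz : polar ⇑Q u z = 0) (c : F) :
    pe H (c • u) z = pe H u (c • z) := by
  unfold pe
  rw [eoT_eq H (c • u) z (by rw [QuadraticMap.map_smul, hu, smul_zero])
    (by rw [polar_smul_left, huz, smul_zero]),
    eoT_eq H u (c • z) hu (by rw [polar_smul_right, huz, smul_zero])]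
  congr 1
  apply Subtype.ext
  exact eich_smul_left Q u z hu huz c

section
variable (g : Matrix.GeneralLinearGroup ι F) (σ : F ≃+* F) (c : F)
  (hg : ∀ v, Q (sm g σ v) = c * σ (Q v))

theorem semiAut_pe (H : Hyp Q) (hc : c ≠ 0) (u z : ι → F) (hu : Q u = 0)
    (huz : polar ⇑Q u z = 0) :
    semiAut g σ c hg (pe H u z) = pe H (sm g σ u) (c⁻¹ • sm g σ z) := by
  have hu' : Q (sm g σ u) = 0 := by rw [hg, hu, map_zero, mul_zero]
  have huz' : polar ⇑Q (sm g σ u) (c⁻¹ • sm g σ z) = 0 := by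
    rw [polar_smul_right, polar_sm g σ c hg, huz, map_zero, mul_zero, smul_zero]
  unfold pe
  rw [eoT_eq H u z hu huz, eoT_eq H _ _ hu' huz', semiAut_pr]
  congr 1
  apply Subtype.ext
  exact semiAutO_eich g σ c hg hc u z hu huz

theorem Bm_semiAut (H : Hyp Q) (hc : c ≠ 0) (u : ι → F) (hu : Q u = 0) :
    Bm Q (semiAut g σ c hg) u (sm g σ u) := by
  have hu' : Q (sm g σ u) = 0 := by rw [hg, hu, map_zero, mul_zero]
  intro x
  rw [mem_QBT_iff H u hu, mem_QBT_iff H _ hu']
  constructor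
  · rintro ⟨z, huz, rfl⟩
    refine ⟨c⁻¹ • sm g σ z, ?_, semiAut_pe g σ c hg H hc u z hu huz⟩
    rw [polar_smul_right, polar_sm g σ c hg, huz, map_zero, mul_zero, smul_zero]
  · rintro ⟨z', huz', hx⟩
    obtain ⟨z, hz⟩ := sm_surj g σ (c • z')
    have huz : polar ⇑Q u z = 0 := by
      have h1 := polar_sm g σ c hg u z
      rw [hz, polar_smul_right, huz', smul_zero] at h1
      rcases mul_eq_zero.mp h1.symm with h2 | h2
      · exact absurd h2 hc
      · exact (map_eq_zero σ).mp h2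
    refine ⟨z, huz, ?_⟩
    apply (semiAut g σ c hg).injective
    rw [hx, semiAut_pe g σ c hg H hc u z hu huz, hz, smul_smul, inv_mul_cancel₀ hc, one_smul]

end

/-- an automorphism fixing every Eichler group is trivial -/
theorem eq_id_of_Bm_self (p : ℕ) [Fact p.Prime] [CharP F p] (H : Hyp Q)
    (β : POmega F ⇑Q ≃* POmega F ⇑Q)
    (h : ∀ u : ι → F, u ≠ 0 → Q u = 0 → Bm Q β u u) (x : POmega F ⇑Q) : β x = x := by
  obtain ⟨g, rfl⟩ := pr_surjective (Q := Q) x
  obtain ⟨g', hg'⟩ := pr_surjective (Q := Q) (β (pr Q g))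
  have hfix : ∀ p : ↥(singPts Q), (g⁻¹ * g') • p = p := by
    intro pt0
    induction pt0 using pt_ind with
    | h u hu0 hu =>
      have hgu0 : act Q g.1 u ≠ 0 := (smul_ne_zero_iff_ne g).mpr hu0
      have hgu : Q (act Q g.1 u) = 0 := by rw [quad_act]; exact hu
      have hgu0' : act Q g'.1 u ≠ 0 := (smul_ne_zero_iff_ne g').mpr hu0
      have hgu' : Q (act Q g'.1 u) = 0 := by rw [quad_act]; exact hu
      have heq : QBT Q (act Q g.1 u) = QBT Q (act Q g'.1 u) := by
        ext y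
        obtain ⟨w, rfl⟩ := β.surjective y
        rw [← h _ hgu0 hgu w, ← conj_QBT g u hu, ← conj_QBT g' u hu, mem_conj_smul_iff,
          mem_conj_smul_iff, h u hu0 hu, map_mul, map_mul, map_inv, hg']
      obtain ⟨t, ht⟩ := (QBT_eq_iff p H _ _ hgu0 hgu0' hgu hgu').mp heq
      rw [smul_pt_iff]
      refine ⟨t, ?_⟩
      rw [Subgroup.coe_mul, act_mul, ht, act_smul]
      congr 1
      rw [← act_mul, ← Subgroup.coe_mul, inv_mul_cancel]
      exact act_one' Q u
  have hcen := mem_center_of_fix H _ hfix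
  rw [← hg']
  symm
  show (pr Q g : POmega F ⇑Q) = pr Q g'
  unfold pr
  rw [mk_eq_mk_iff']
  exact ⟨(g⁻¹ * g')⁻¹, inv_mem hcen, by group⟩

end semiaut2
end Cfsg.Agent.Lib.Helper9.AOR
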