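import Mathlib
import Cfsg.Prelude
import Cfsg.Agent.Lib.Helper5.OmegaSimple
import Cfsg.Agent.Lib.Helper5.MaxTS
import Cfsg.Agent.Lib.Helper9.AOR22

set_option autoImplicit false
set_option linter.unusedSectionVars false
set_option linter.unusedVariables false
open Cfsg

namespace Cfsg.Agent.Lib.Helper9.AOR

open Matrix QuadraticMap Cfsg.Agent.Lib.Helper5.CartanDieudonne Cfsg.Agent.Lib.Helper5.Refl
  Cfsg.Agent.Lib.Helper5.OrthCard Cfsg.Agent.Lib.Helper5.Siegel Cfsg.Agent.Lib.Helper5.QuadIsom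
  Cfsg.Agent.Lib.Helper5.ReflGen Cfsg.Agent.Lib.Helper5.Eichler Cfsg.Agent.Lib.Helper5.SingGeom
  Cfsg.Agent.Lib.Helper5.OmegaGen Cfsg.Agent.Lib.Helper5.OmegaSimple

variable {ι : Type} [Fintype ι] [DecidableEq ι] {F : Type*} [Field F] [Fintype F]
  (Q : QuadraticForm F (ι → F))

/-! Every automorphism of `PΩ(Q)` is induced by a semisimilarity. -/

section final
open scoped LinearAlgebra.Projectivization Pointwise
open Cfsg.Agent.Lib.Helper5.MaxTS Module Cfsg.Agent.Lib.Helper5.OAut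
attribute [local instance 2000] omSMul omAction omSMulComm singSMul singAction

variable {Q}

theorem conj_gen (g : ↥(Omega F ⇑Q)) :
    ∃ (g' : Matrix.GeneralLinearGroup ι F) (σ : F ≃+* F), IsSemisimilarityPair (⇑Q) g' σ ∧
      IsInducedBySemilinearPOmega (⇑Q) g' σ (MulAut.conj (pr Q g)) := by
  refine ⟨(g.1.1 : Matrix.GeneralLinearGroup ι F), RingEquiv.refl F, ⟨1, fun v => ?_⟩, ?_⟩
  · have h1 := (mem_isometryGroup_iff (⇑Q) g.1.1).mp g.1.2 v
    simp only [RingEquiv.refl_apply, Units.val_one, one_mul]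
    exact h1
  · intro s s' hs
    rw [MulAut.conj_apply]
    show pr Q g * pr Q s * (pr Q g)⁻¹ = pr Q s'
    rw [← map_inv, ← map_mul, ← map_mul]
    congr 1
    apply Subtype.ext
    apply Subtype.ext
    apply Units.ext
    rw [hs, Cfsg.Agent.Lib.Helper5.OAut.map_refl]
    rfl

/-- **Main theorem**: every automorphism of `PΩ(Q)` lies in the group generated by the
automorphisms induced by semisimilarities. -/
theorem aut_mem_gamma (p : ℕ) [Fact p.Prime] [CharP F p] (H : Hyp Q) (h7 : 7 ≤ Fintype.card ι)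
    (hLag : ∀ Y : Submodule F (ι → F), (∀ y ∈ Y, Q y = 0) → orth Q Y ≤ Y → 10 ≤ Fintype.card ι)
    (β : MulAut (POmega F ⇑Q)) : β ∈ gammaPOmega F ⇑Q := by
  obtain ⟨e, f, he, hf, hef⟩ := exists_hyp_pair H
  obtain ⟨g₀, hBe, hBf⟩ := exists_normalise p H h7 hLag β e f he hf hef
  obtain ⟨β₁, hβ₁⟩ : ∃ β₁ : POmega F ⇑Q ≃* POmega F ⇑Q,
      β₁ = β.trans (MulAut.conj (pr Q g₀)) := ⟨_, rfl⟩
  rw [← hβ₁] at hBe hBf
  have N : Norm Q β₁ e f := ⟨he, hf, hef, hBe, hBf⟩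
  obtain ⟨c, hc0, hc⟩ := exists_factor N p H h7 hLag
  obtain ⟨M, hM⟩ := exists_GL N p H h7 hLag c hc0 hc
  obtain ⟨σ, hσ⟩ : ∃ σ : F ≃+* F, σ = sgmEquiv N p H h7 hLag := ⟨_, rfl⟩
  rw [← hσ] at hM
  have hsm : ∀ v, sm M σ v = gmap N p H h7 hLag c v := fun v => hM v
  have hg : ∀ v, Q (sm M σ v) = c * σ (Q v) := by
    intro v
    rw [hsm, quad_gmap N p H h7 hLag c hc, hσ]
    rfl
  obtain ⟨γ, hγ⟩ : ∃ γ : POmega F ⇑Q ≃* POmega F ⇑Q, γ = semiAut M σ c hg := ⟨_, rfl⟩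
  have hsme : sm M σ e = c • e := by rw [hsm, gmap_e]
  have hsmf : sm M σ f = f := by rw [hsm, gmap_f]
  have hγe : Bm Q γ e e := by
    have h1 := Bm_semiAut M σ c hg H hc0 e he
    rw [hsme, ← hγ] at h1
    exact Bm_smul_right he c hc0 h1
  have hγf : Bm Q γ f f := by
    have h1 := Bm_semiAut M σ c hg H hc0 f hf
    rw [hsmf, ← hγ] at h1
    exact h1
  have N' : Norm Q (β₁.trans γ.symm) e f :=
    ⟨he, hf, hef, Bm_mul N.be (Bm_symm hγe), Bm_mul N.bf (Bm_symm hγf)⟩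
  have hψ' : ∀ z : ι → F, polar ⇑Q e z = 0 → polar ⇑Q f z = 0 → psi H N' z = z := by
    intro z hz hfz
    apply psi_unique p H N' z z hz hz hfz
    obtain ⟨h1, h2, h3⟩ := psi_spec H N z hz
    rw [MulEquiv.trans_apply, h3]
    apply γ.injective
    rw [MulEquiv.apply_symm_apply, hγ, semiAut_pe M σ c hg H hc0 e z he hz, hsme,
      hsm z, gmap_of_mem N p H h7 hLag c z hz hfz,
      pe_smul_left H e _ he (by rw [polar_smul_right, h1, smul_zero]) c, smul_smul,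
      mul_inv_cancel₀ hc0, one_smul]
  have hall := Bm_self_of_psi_id N' p H h7 hLag hψ'
  have hid := eq_id_of_Bm_self p H (β₁.trans γ.symm) hall
  have hβγ : ∀ x, β₁ x = γ x := by
    intro x
    have h1 := hid x
    rw [MulEquiv.trans_apply] at h1
    have h2 := congrArg γ h1
    rwa [MulEquiv.apply_symm_apply] at h2
  have hβ : β = MulAut.conj (pr Q g₀⁻¹) * γ := by
    apply MulEquiv.ext
    intro x
    have h1 := hβγ x
    rw [hβ₁, MulEquiv.trans_apply, MulAut.conj_apply] at h1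
    rw [MulAut.mul_apply, MulAut.conj_apply, ← h1, map_inv]
    group
  rw [hβ]
  unfold gammaPOmega autSubgroupOf
  apply Subgroup.mul_mem
  · exact Subgroup.subset_closure (conj_gen g₀⁻¹)
  · apply Subgroup.subset_closure
    rw [hγ]
    exact ⟨M, σ, semi_pair M σ c hc0 hg, semiAut_induced M σ c hg⟩

theorem gamma_eq_top (p : ℕ) [Fact p.Prime] [CharP F p] (H : Hyp Q) (h7 : 7 ≤ Fintype.card ι)
    (hLag : ∀ Y : Submodule F (ι → F), (∀ y ∈ Y, Q y = 0) → orth Q Y ≤ Y → 10 ≤ Fintype.card ι) :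
    gammaPOmega F ⇑Q = ⊤ := by
  rw [eq_top_iff]
  intro β _
  exact aut_mem_gamma p H h7 hLag β

end final
end Cfsg.Agent.Lib.Helper9.AOR
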