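import Mathlib
import Cfsg.Prelude
import Cfsg.Agent.Lib.Helper5.OmegaSimple
import Cfsg.Agent.Lib.Helper5.MaxTS
import Cfsg.Agent.Lib.Helper9.AOR23

set_option autoImplicit false
set_option linter.unusedSectionVars false
set_option linter.unusedVariables false
open Cfsg

namespace Cfsg.Agent.Lib.Helper9.AOR

open Matrix QuadraticMap Cfsg.Agent.Lib.Helper5.CartanDieudonne Cfsg.Agent.Lib.Helper5.Refl
  Cfsg.Agent.Lib.Helper5.OrthCard Cfsg.Agent.Lib.Helper5.Siegel Cfsg.Agent.Lib.Helper5.QuadIsom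
  Cfsg.Agent.Lib.Helper5.ReflGen Cfsg.Agent.Lib.Helper5.Eichler Cfsg.Agent.Lib.Helper5.SingGeom
  Cfsg.Agent.Lib.Helper5.OmegaGen Cfsg.Agent.Lib.Helper5.OmegaSimple

variable {ι : Type} [Fintype ι] [DecidableEq ι] {F : Type*} [Field F] [Fintype F]
  (Q : QuadraticForm F (ι → F))

/-! Composition of semisimilarities; the field automorphism of an automorphism of `PΩ`. -/

section semicomp
open scoped LinearAlgebra.Projectivization Pointwise
open Cfsg.Agent.Lib.Helper5.MaxTS Module Cfsg.Agent.Lib.Helper5.OAut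
attribute [local instance 2000] omSMul omAction omSMulComm singSMul singAction

variable {Q}

omit [Fintype F] in
theorem sm_comp (g g' : Matrix.GeneralLinearGroup ι F) (σ σ' : F ≃+* F) (v : ι → F) :
    sm (g * Matrix.GeneralLinearGroup.map (σ : F →+* F) g') (σ'.trans σ) v =
      sm g σ (sm g' σ' v) := by
  unfold sm
  rw [vm_mulVec, Matrix.mulVec_mulVec, Matrix.GeneralLinearGroup.coe_mul]
  rfl

omit [Fintype F] in
theorem sm_injective (g : Matrix.GeneralLinearGroup ι F) (σ : F ≃+* F) :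
    Function.Injective (sm g σ) := by
  intro v w h
  unfold sm at h
  have h1 : vm σ v = vm σ w := by
    have h2 := congrArg (fun x => ((g⁻¹ : Matrix.GeneralLinearGroup ι F) : Matrix ι ι F) *ᵥ x) h
    simp only [Matrix.mulVec_mulVec] at h2
    have h3 : ((g⁻¹ : Matrix.GeneralLinearGroup ι F) : Matrix ι ι F) * (g : Matrix ι ι F) = 1 := by
      rw [← Matrix.GeneralLinearGroup.coe_mul, inv_mul_cancel]
      rfl
    rw [h3, Matrix.one_mulVec, Matrix.one_mulVec] at h2
    exact h2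
  ext i
  have h4 := congrFun h1 i
  exact σ.injective h4

section
variable (g g' : Matrix.GeneralLinearGroup ι F) (σ σ' : F ≃+* F) (c c' : F)
  (hg : ∀ v, Q (sm g σ v) = c * σ (Q v)) (hg' : ∀ v, Q (sm g' σ' v) = c' * σ' (Q v))

include hg hg' in
theorem quad_sm_comp (v : ι → F) :
    Q (sm (g * Matrix.GeneralLinearGroup.map (σ : F →+* F) g') (σ'.trans σ) v) =
      (c * σ c') * (σ'.trans σ) (Q v) := by
  rw [sm_comp, hg, hg', map_mul, RingEquiv.trans_apply, mul_assoc]

theorem semiAutO_comp (hg'' : ∀ v,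
      Q (sm (g * Matrix.GeneralLinearGroup.map (σ : F →+* F) g') (σ'.trans σ) v) =
        (c * σ c') * (σ'.trans σ) (Q v)) (s : ↥(isometryGroup F ⇑Q)) :
    semiAutO (g * Matrix.GeneralLinearGroup.map (σ : F →+* F) g') (σ'.trans σ) (c * σ c') hg'' s =
      semiAutO g σ c hg (semiAutO g' σ' c' hg' s) := by
  apply ext_act
  intro x
  obtain ⟨v, rfl⟩ := sm_surj (g * Matrix.GeneralLinearGroup.map (σ : F →+* F) g') (σ'.trans σ) x
  rw [act_semiAutO, sm_comp, sm_comp, act_semiAutO, act_semiAutO]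

theorem semiAutO_mul :
    semiAutO g σ c hg * semiAutO g' σ' c' hg' =
      semiAutO (g * Matrix.GeneralLinearGroup.map (σ : F →+* F) g') (σ'.trans σ) (c * σ c')
        (quad_sm_comp g g' σ σ' c c' hg hg') := by
  apply MulEquiv.ext
  intro s
  rw [MulAut.mul_apply]
  exact (semiAutO_comp g g' σ σ' c c' hg hg' _ s).symm

theorem semiAut_mul :
    semiAut g σ c hg * semiAut g' σ' c' hg' =
      semiAut (g * Matrix.GeneralLinearGroup.map (σ : F →+* F) g') (σ'.trans σ) (c * σ c')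
        (quad_sm_comp g g' σ σ' c c' hg hg') := by
  unfold semiAut
  rw [← map_mul, ← map_mul, semiAutO_mul]

end

theorem eq_semiAut_of_induced (g : Matrix.GeneralLinearGroup ι F) (σ : F ≃+* F) (c : F)
    (hg : ∀ v, Q (sm g σ v) = c * σ (Q v)) (β : MulAut (POmega F ⇑Q))
    (h : IsInducedBySemilinearPOmega (⇑Q) g σ β) : β = semiAut g σ c hg := by
  apply MulEquiv.ext
  intro x
  obtain ⟨s, rfl⟩ := pr_surjective (Q := Q) x
  rw [semiAut_pr]
  exact h s _ rfl

variable (Q) in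
/-- `β` is induced by a semisimilarity with field automorphism `σ` -/
def SR (β : MulAut (POmega F ⇑Q)) (σ : F ≃+* F) : Prop :=
  ∃ (g : Matrix.GeneralLinearGroup ι F) (c : F) (_ : c ≠ 0)
    (hg : ∀ v, Q (sm g σ v) = c * σ (Q v)), β = semiAut g σ c hg

theorem SR_of_induced (g : Matrix.GeneralLinearGroup ι F) (σ : F ≃+* F)
    (hp : IsSemisimilarityPair (⇑Q) g σ) (β : MulAut (POmega F ⇑Q))
    (h : IsInducedBySemilinearPOmega (⇑Q) g σ β) : SR Q β σ := by
  obtain ⟨c, hc⟩ := hp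
  exact ⟨g, (c : F), c.ne_zero, fun v => hc v, eq_semiAut_of_induced g σ c (fun v => hc v) β h⟩

theorem SR_one : SR Q (1 : MulAut (POmega F ⇑Q)) (RingEquiv.refl F) := by
  have hg : ∀ v, Q (sm (1 : Matrix.GeneralLinearGroup ι F) (RingEquiv.refl F) v) =
      1 * (RingEquiv.refl F) (Q v) := by
    intro v
    unfold sm
    rw [one_mul]
    simp only [Units.val_one, Matrix.one_mulVec, RingEquiv.refl_apply]
    rfl
  refine ⟨1, 1, one_ne_zero, hg, ?_⟩
  apply eq_semiAut_of_induced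
  intro s s' hs
  rw [MulAut.one_apply]
  congr 1
  apply Subtype.ext
  apply Subtype.ext
  apply Units.ext
  rw [hs, Cfsg.Agent.Lib.Helper5.OAut.map_refl]
  simp

theorem SR_mul {β β' : MulAut (POmega F ⇑Q)} {σ σ' : F ≃+* F} (h : SR Q β σ) (h' : SR Q β' σ') :
    SR Q (β * β') (σ'.trans σ) := by
  obtain ⟨g, c, hc, hg, rfl⟩ := h
  obtain ⟨g', c', hc', hg', rfl⟩ := h'
  refine ⟨_, c * σ c', mul_ne_zero hc ((map_ne_zero σ).mpr hc'), quad_sm_comp g g' σ σ' c c' hg hg',
    semiAut_mul g g' σ σ' c c' hg hg'⟩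

theorem SR_pow {β : MulAut (POmega F ⇑Q)} {σ : F ≃+* F} (h : SR Q β σ) (k : ℕ) :
    ∃ τ : F ≃+* F, SR Q (β ^ k) τ := by
  induction k with
  | zero => exact ⟨_, by rw [pow_zero]; exact SR_one⟩
  | succ k ih =>
    obtain ⟨τ, hτ⟩ := ih
    exact ⟨_, by rw [pow_succ]; exact SR_mul hτ h⟩

theorem SR_inv {β : MulAut (POmega F ⇑Q)} {σ : F ≃+* F} (h : SR Q β σ) :
    ∃ τ : F ≃+* F, SR Q β⁻¹ τ := by
  haveI : Finite (MulAut (POmega F ⇑Q)) := inferInstance
  have h1 : β ^ (orderOf β - 1) = β⁻¹ := by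
    apply eq_inv_of_mul_eq_one_left
    rw [← pow_succ, Nat.sub_add_cancel (orderOf_pos β), pow_orderOf_eq_one]
  rw [← h1]
  exact SR_pow h _

end semicomp
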