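import Mathlib
import Cfsg.Prelude
import Cfsg.Agent.Lib.Helper5.OmegaSimple
import Cfsg.Agent.Lib.Helper5.MaxTS
import Cfsg.Agent.Lib.Helper9.AOR25

set_option autoImplicit false
set_option linter.unusedSectionVars false
set_option linter.unusedVariables false
open Cfsg

namespace Cfsg.Agent.Lib.Helper9.AOR

open Matrix QuadraticMap Cfsg.Agent.Lib.Helper5.CartanDieudonne Cfsg.Agent.Lib.Helper5.Refl
  Cfsg.Agent.Lib.Helper5.OrthCard Cfsg.Agent.Lib.Helper5.Siegel Cfsg.Agent.Lib.Helper5.QuadIsom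
  Cfsg.Agent.Lib.Helper5.ReflGen Cfsg.Agent.Lib.Helper5.Eichler Cfsg.Agent.Lib.Helper5.SingGeom
  Cfsg.Agent.Lib.Helper5.OmegaGen Cfsg.Agent.Lib.Helper5.OmegaSimple

variable {ι : Type} [Fintype ι] [DecidableEq ι] {F : Type*} [Field F] [Fintype F]
  (Q : QuadraticForm F (ι → F))

/-! The field automorphism attached to an automorphism of `PΩ`. -/

section tau
open scoped LinearAlgebra.Projectivization Pointwise
open Cfsg.Agent.Lib.Helper5.MaxTS Module Cfsg.Agent.Lib.Helper5.OAut
attribute [local instance 2000] omSMul omAction omSMulComm singSMul singAction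

variable {Q}

/-- a semisimilarity inducing the identity fixes every singular point -/
theorem sm_eigen_of_trivial (p : ℕ) [Fact p.Prime] [CharP F p] (H : Hyp Q)
    (g : Matrix.GeneralLinearGroup ι F) (σ : F ≃+* F) (c : F) (hc : c ≠ 0)
    (hg : ∀ v, Q (sm g σ v) = c * σ (Q v)) (h1 : semiAut g σ c hg = 1)
    (u : ι → F) (hu0 : u ≠ 0) (hu : Q u = 0) : ∃ t : F, sm g σ u = t • u := by
  have hB := Bm_semiAut g σ c hg H hc u hu
  rw [h1] at hB
  have hu' : Q (sm g σ u) = 0 := by rw [hg, hu, map_zero, mul_zero]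
  have hu0' : sm g σ u ≠ 0 := by
    intro h
    apply hu0
    apply sm_injective g σ
    rw [h]
    unfold sm
    have : vm σ (0 : ι → F) = 0 := by ext i; simp [vm]
    rw [this, Matrix.mulVec_zero]
  have heq : (QBT Q u : Subgroup (POmega F ⇑Q)) = QBT Q (sm g σ u) := by
    ext x
    exact hB x
  exact (QBT_eq_iff p H u (sm g σ u) hu0 hu0' hu hu').mp heq

/-- a semisimilarity inducing the identity has trivial field automorphism -/
theorem sigma_eq_of_trivial (p : ℕ) [Fact p.Prime] [CharP F p] (H : Hyp Q)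
    (g : Matrix.GeneralLinearGroup ι F) (σ : F ≃+* F) (c : F) (hc : c ≠ 0)
    (hg : ∀ v, Q (sm g σ v) = c * σ (Q v)) (h1 : semiAut g σ c hg = 1) :
    σ = RingEquiv.refl F := by
  obtain ⟨e, f, he, hf, hef⟩ := exists_hyp_pair H
  have h5 := H.card5
  obtain ⟨e', he'0, he', hperp⟩ := exists_singular_perpN Q ![e, f] (by omega)
  have hee' : polar ⇑Q e e' = 0 := hperp 0
  have hfe' : polar ⇑Q f e' = 0 := hperp 1
  have hfe : polar ⇑Q f e = 1 := by rw [polar_comm]; exact hef
  have he0 : e ≠ 0 := by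
    intro h
    rw [h] at hef
    simp at hef
  obtain ⟨l, hl⟩ := sm_eigen_of_trivial p H g σ c hc hg h1 e he0 he
  obtain ⟨l', hl'⟩ := sm_eigen_of_trivial p H g σ c hc hg h1 e' he'0 he'
  have key : ∀ a : F, l * a = σ a * l' := by
    intro a
    have hua : Q (e + a • e') = 0 := by
      have h0 := QuadraticMap.map_add Q e (a • e')
      rw [h0, he, QuadraticMap.map_smul, he', polar_smul_right, hee']
      simp
    have hua0 : e + a • e' ≠ 0 := by
      intro h
      have h2 := congrArg (fun x => polar ⇑Q f x) h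
      simp only [polar_add_right, polar_smul_right, hfe, hfe', smul_zero, add_zero] at h2
      have h3 : polar ⇑Q f 0 = 0 := by simp [polar]
      rw [h3] at h2
      exact one_ne_zero h2
    obtain ⟨μ, hμ⟩ := sm_eigen_of_trivial p H g σ c hc hg h1 (e + a • e') hua0 hua
    rw [sm_add, sm_smul, hl, hl'] at hμ
    have h2 := congrArg (fun x => polar ⇑Q f x) hμ
    simp only [polar_add_right, polar_smul_right, hfe, hfe', smul_zero, add_zero, smul_eq_mul,
      mul_one, mul_zero] at h2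
    rw [← h2] at hμ
    have h3 : (σ a * l' - l * a) • e' = 0 := by
      have h4 : (σ a * l' - l * a) • e' = (l • e + σ a • l' • e') - l • (e + a • e') := by
        rw [smul_add, smul_smul, smul_smul, sub_smul]
        abel
      rw [h4, hμ, sub_self]
    rcases smul_eq_zero.mp h3 with h4 | h4
    · exact (sub_eq_zero.mp h4).symm
    · exact absurd h4 he'0
  have h1' := key 1
  rw [map_one, mul_one, one_mul] at h1'
  have hl0 : l ≠ 0 := by
    intro h
    rw [h, zero_smul] at hl
    apply he0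
    apply sm_injective g σ
    rw [hl]
    unfold sm
    have : vm σ (0 : ι → F) = 0 := by ext i; simp [vm]
    rw [this, Matrix.mulVec_zero]
  ext a
  have h2 := key a
  rw [← h1', mul_comm] at h2
  exact (mul_right_cancel₀ hl0 h2).symm

theorem SR_one_imp (p : ℕ) [Fact p.Prime] [CharP F p] (H : Hyp Q) {τ : F ≃+* F}
    (h : SR Q (1 : MulAut (POmega F ⇑Q)) τ) : τ = RingEquiv.refl F := by
  obtain ⟨g, c, hc, hg, h1⟩ := h
  exact sigma_eq_of_trivial p H g τ c hc hg h1.symm

theorem SR_unique (p : ℕ) [Fact p.Prime] [CharP F p] (H : Hyp Q) {β : MulAut (POmega F ⇑Q)}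
    {σ σ' : F ≃+* F} (h : SR Q β σ) (h' : SR Q β σ') : σ = σ' := by
  obtain ⟨ρ, hρ⟩ := SR_inv h
  have h1 := SR_one_imp p H (by have := SR_mul h hρ; rwa [mul_inv_cancel] at this)
  have h2 := SR_one_imp p H (by have := SR_mul h' hρ; rwa [mul_inv_cancel] at this)
  ext a
  have h3 := RingEquiv.congr_fun h1 (ρ.symm a)
  have h4 := RingEquiv.congr_fun h2 (ρ.symm a)
  simp only [RingEquiv.trans_apply, RingEquiv.apply_symm_apply, RingEquiv.refl_apply] at h3 h4
  rw [h3, h4]

theorem SR_total (hγ : gammaPOmega F ⇑Q = ⊤) (β : MulAut (POmega F ⇑Q)) :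
    ∃ σ : F ≃+* F, SR Q β σ := by
  have hβ : β ∈ gammaPOmega F ⇑Q := by rw [hγ]; exact Subgroup.mem_top _
  unfold gammaPOmega autSubgroupOf at hβ
  induction hβ using Subgroup.closure_induction with
  | mem x hx =>
    obtain ⟨g, σ, hp, hi⟩ := hx
    exact ⟨σ, SR_of_induced g σ hp x hi⟩
  | one => exact ⟨_, SR_one⟩
  | mul x y _ _ hx hy =>
    obtain ⟨σ, hσ⟩ := hx
    obtain ⟨σ', hσ'⟩ := hy
    exact ⟨_, SR_mul hσ hσ'⟩
  | inv x _ hx =>
    obtain ⟨σ, hσ⟩ := hx
    exact SR_inv hσ

/-- the field automorphism of an automorphism of `PΩ` -/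
noncomputable def tauO (p : ℕ) [Fact p.Prime] [CharP F p] (H : Hyp Q)
    (hγ : gammaPOmega F ⇑Q = ⊤) : MulAut (POmega F ⇑Q) →* RingAut F where
  toFun β := Classical.choose (SR_total hγ β)
  map_one' := SR_unique p H (Classical.choose_spec (SR_total hγ 1)) SR_one
  map_mul' β β' := SR_unique p H (Classical.choose_spec (SR_total hγ (β * β')))
    (SR_mul (Classical.choose_spec (SR_total hγ β)) (Classical.choose_spec (SR_total hγ β')))

theorem tauO_spec (p : ℕ) [Fact p.Prime] [CharP F p] (H : Hyp Q)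
    (hγ : gammaPOmega F ⇑Q = ⊤) (β : MulAut (POmega F ⇑Q)) : SR Q β (tauO p H hγ β) :=
  Classical.choose_spec (SR_total hγ β)

theorem tauO_eq (p : ℕ) [Fact p.Prime] [CharP F p] (H : Hyp Q)
    (hγ : gammaPOmega F ⇑Q = ⊤) {β : MulAut (POmega F ⇑Q)} {σ : F ≃+* F} (h : SR Q β σ) :
    tauO p H hγ β = σ :=
  SR_unique p H (tauO_spec p H hγ β) h

end tau
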