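import Mathlib
import Cfsg.Prelude
import Cfsg.Agent.Lib.Helper5.OmegaSimple
import Cfsg.Agent.Lib.Helper5.MaxTS
import Cfsg.Agent.Lib.Helper9.AOR26
import Cfsg.Agent.Lib.Helper5.OAut.SimMain
import Cfsg.Agent.Lib.Helper5.OAut.PscCrit

set_option autoImplicit false
set_option linter.unusedSectionVars false
set_option linter.unusedVariables false
open Cfsg

namespace Cfsg.Agent.Lib.Helper9.AOR

open Matrix QuadraticMap Cfsg.Agent.Lib.Helper5.CartanDieudonne Cfsg.Agent.Lib.Helper5.Refl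
  Cfsg.Agent.Lib.Helper5.OrthCard Cfsg.Agent.Lib.Helper5.Siegel Cfsg.Agent.Lib.Helper5.QuadIsom
  Cfsg.Agent.Lib.Helper5.ReflGen Cfsg.Agent.Lib.Helper5.Eichler Cfsg.Agent.Lib.Helper5.SingGeom
  Cfsg.Agent.Lib.Helper5.OmegaGen Cfsg.Agent.Lib.Helper5.OmegaSimple

variable {ι : Type} [Fintype ι] [DecidableEq ι] {F : Type*} [Field F] [Fintype F]
  (Q : QuadraticForm F (ι → F))

/-! Counting the automorphism group of `PΩ`. -/

section count
open scoped LinearAlgebra.Projectivization Pointwise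
open Cfsg.Agent.Lib.Helper5.MaxTS Module Cfsg.Agent.Lib.Helper5.OAut
attribute [local instance 2000] omSMul omAction omSMulComm singSMul singAction

variable {Q}

theorem card_of_surj {A B : Type*} [Group A] [Group B] (Φ : A →* B)
    (hs : Function.Surjective Φ) : Nat.card A = Nat.card Φ.ker * Nat.card B := by
  rw [← Subgroup.card_mul_index Φ.ker, Subgroup.index_ker, MonoidHom.range_eq_top.mpr hs,
    Subgroup.card_top]

theorem card_ker_mul_range {A B : Type*} [Group A] [Group B] (Φ : A →* B) :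
    Nat.card A = Nat.card Φ.ker * Nat.card Φ.range := by
  rw [← Subgroup.card_mul_index Φ.ker, Subgroup.index_ker]

omit [Fintype F] in
theorem conjGO_induced (g : ↥(Geo.quadSimilarityGroup (F := F) ⇑Q)) :
    IsInducedBySemilinearPOmega (⇑Q) (g : GL ι F) (RingEquiv.refl F) (conjGO Q g) := by
  intro s s' hs
  rw [conjGO_mk]
  congr 1
  apply Subtype.ext
  apply Subtype.ext
  apply Units.ext
  rw [hs, Cfsg.Agent.Lib.Helper5.OAut.map_refl]
  rfl

theorem SR_conjGO (g : ↥(Geo.quadSimilarityGroup (F := F) ⇑Q)) :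
    SR Q (conjGO Q g) (RingEquiv.refl F) := by
  obtain ⟨c, hc⟩ := g.2
  have hg : ∀ v, Q (sm (g : GL ι F) (RingEquiv.refl F) v) = (c : F) * (RingEquiv.refl F) (Q v) :=
    fun v => hc v
  exact ⟨g, c, c.ne_zero, hg, eq_semiAut_of_induced _ _ _ hg _ (conjGO_induced g)⟩

theorem tauO_ker (p : ℕ) [Fact p.Prime] [CharP F p] (H : Hyp Q) (hγ : gammaPOmega F ⇑Q = ⊤) :
    (tauO p H hγ).ker = (conjGO Q).range := by
  ext β
  rw [MonoidHom.mem_ker, MonoidHom.mem_range]
  constructor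
  · intro h
    have h1 := tauO_spec p H hγ β
    rw [h] at h1
    obtain ⟨g, c, hc, hg, rfl⟩ := h1
    have hmem : g ∈ Geo.quadSimilarityGroup (F := F) ⇑Q := ⟨Units.mk0 c hc, fun v => hg v⟩
    refine ⟨⟨g, hmem⟩, ?_⟩
    exact eq_semiAut_of_induced _ _ _ hg _ (conjGO_induced ⟨g, hmem⟩)
  · rintro ⟨g, rfl⟩
    exact tauO_eq p H hγ (SR_conjGO g)

theorem tauO_semiAut (p : ℕ) [Fact p.Prime] [CharP F p] (H : Hyp Q) (hγ : gammaPOmega F ⇑Q = ⊤)
    (g : Matrix.GeneralLinearGroup ι F) (σ : F ≃+* F) (c : F) (hc : c ≠ 0)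
    (hg : ∀ v, Q (sm g σ v) = c * σ (Q v)) : tauO p H hγ (semiAut g σ c hg) = σ :=
  tauO_eq p H hγ ⟨g, c, hc, hg, rfl⟩

theorem tauO_surjective (p : ℕ) [Fact p.Prime] [CharP F p] (H : Hyp Q)
    (hγ : gammaPOmega F ⇑Q = ⊤)
    (hfield : ∀ σ : F ≃+* F, ∃ (g : Matrix.GeneralLinearGroup ι F) (c : F), c ≠ 0 ∧
      ∀ v, Q (sm g σ v) = c * σ (Q v)) : Function.Surjective (tauO p H hγ) := by
  intro σ
  obtain ⟨g, c, hc, hg⟩ := hfield σ
  exact ⟨semiAut g σ c hg, tauO_semiAut p H hγ g σ c hc hg⟩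

theorem card_aut_eq (p : ℕ) [Fact p.Prime] [CharP F p] (H : Hyp Q) (hγ : gammaPOmega F ⇑Q = ⊤)
    (hfield : ∀ σ : F ≃+* F, ∃ (g : Matrix.GeneralLinearGroup ι F) (c : F), c ≠ 0 ∧
      ∀ v, Q (sm g σ v) = c * σ (Q v)) :
    Nat.card (MulAut (POmega F ⇑Q)) = Nat.card ↥(conjGO Q).range * Nat.card (RingAut F) := by
  rw [card_of_surj _ (tauO_surjective p H hγ hfield), tauO_ker]

/-- the multiplier homomorphism -/
noncomputable def multHomO {w₀ : ι → F} (hw₀ : Q w₀ = 1) :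
    ↥(Geo.quadSimilarityGroup (F := F) ⇑Q) →* Fˣ where
  toFun g := Units.mk0 (mult Q w₀ (g : GL ι F)) (mult_ne_zero hw₀ g.2)
  map_one' := by
    apply Units.ext
    show mult Q w₀ ((1 : GL ι F)) = 1
    unfold mult
    rw [Units.val_one, Matrix.one_mulVec, hw₀]
  map_mul' g h := by
    apply Units.ext
    exact mult_mul hw₀ g.2

omit [Fintype F] in
theorem multHomO_coe {w₀ : ι → F} (hw₀ : Q w₀ = 1) (g : ↥(Geo.quadSimilarityGroup (F := F) ⇑Q)) :
    ((multHomO hw₀ g : Fˣ) : F) = mult Q w₀ (g : GL ι F) := rfl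

theorem card_ker_multHomO {w₀ : ι → F} (hw₀ : Q w₀ = 1) :
    Nat.card ↥(multHomO hw₀).ker = Nat.card ↥(isometryGroup F ⇑Q) := by
  apply Nat.card_congr
  refine ⟨fun g => ⟨(g.1 : GL ι F), mem_isometryGroup_of_mult Q hw₀ g.1.2 ?_⟩,
    fun s => ⟨inclO Q s, ?_⟩, fun g => rfl, fun s => rfl⟩
  · have h1 := g.2
    rw [MonoidHom.mem_ker] at h1
    have h2 := congrArg (fun u : Fˣ => (u : F)) h1
    exact h2
  · rw [MonoidHom.mem_ker]
    apply Units.ext
    exact mult_of_isometry hw₀ s.2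

theorem card_ker_conjGO [Nonempty ι]
    (hker : ∀ g ∈ (conjGO Q).ker, ∃ a : F, ((g : GL ι F) : Matrix ι ι F) = a • 1) :
    Nat.card ↥(conjGO Q).ker = Fintype.card F - 1 := by
  classical
  have e : Fˣ ≃ ↥(conjGO Q).ker := Equiv.ofBijective
    (fun a => ⟨⟨scalarGL ι (a : F) a.ne_zero, scalarGL_mem (Q := Q) (a : F) a.ne_zero⟩,
      mem_ker_conjGO_of_scalar _ (a : F) rfl⟩) ⟨?_, ?_⟩
  · rw [← Nat.card_congr e, Nat.card_eq_fintype_card, Fintype.card_units]
  · intro a b h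
    have h1 := congrArg (fun g : ↥(conjGO Q).ker => (((g.1 : GL ι F) : Matrix ι ι F))) h
    have h2 : (a : F) • (1 : Matrix ι ι F) = (b : F) • 1 := h1
    obtain ⟨i⟩ := (inferInstance : Nonempty ι)
    have h3 := congrFun (congrFun h2 i) i
    simp only [Matrix.smul_apply, Matrix.one_apply_eq, smul_eq_mul, mul_one] at h3
    exact Units.ext h3
  · intro g
    obtain ⟨a, ha⟩ := hker g g.2
    have ha0 : a ≠ 0 := by
      intro h0
      rw [h0, zero_smul] at ha
      have h1 : ((g.1 : GL ι F) : Matrix ι ι F) * (((g.1 : GL ι F)⁻¹ : GL ι F) : Matrix ι ι F) = 1 := by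
        rw [← Units.val_mul, mul_inv_cancel]
        rfl
      rw [ha, Matrix.zero_mul] at h1
      obtain ⟨i⟩ := (inferInstance : Nonempty ι)
      have h3 := congrFun (congrFun h1 i) i
      simp at h3
    refine ⟨Units.mk0 a ha0, ?_⟩
    apply Subtype.ext
    apply Subtype.ext
    apply Units.ext
    exact ha.symm

theorem card_range_conjGO_mul [Nonempty ι] {w₀ : ι → F} (hw₀ : Q w₀ = 1)
    (hker : ∀ g ∈ (conjGO Q).ker, ∃ a : F, ((g : GL ι F) : Matrix ι ι F) = a • 1) :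
    Nat.card ↥(conjGO Q).range * (Fintype.card F - 1) =
      Nat.card ↥(isometryGroup F ⇑Q) * Nat.card ↥(multHomO hw₀).range := by
  have h1 := card_ker_mul_range (conjGO Q)
  have h2 := card_ker_mul_range (multHomO hw₀)
  rw [card_ker_conjGO hker] at h1
  rw [card_ker_multHomO hw₀] at h2
  rw [← h2, h1, mul_comm]

end count
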