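import Mathlib
import Cfsg.Prelude
import Cfsg.Agent.Lib.Helper5.OmegaSimple
import Cfsg.Agent.Lib.Helper5.MaxTS
import Cfsg.Agent.Lib.Helper9.AOR27

set_option autoImplicit false
set_option linter.unusedSectionVars false
set_option linter.unusedVariables false
open Cfsg

namespace Cfsg.Agent.Lib.Helper9.AOR

open Matrix QuadraticMap Cfsg.Agent.Lib.Helper5.CartanDieudonne Cfsg.Agent.Lib.Helper5.Refl
  Cfsg.Agent.Lib.Helper5.OrthCard Cfsg.Agent.Lib.Helper5.Siegel Cfsg.Agent.Lib.Helper5.QuadIsom
  Cfsg.Agent.Lib.Helper5.ReflGen Cfsg.Agent.Lib.Helper5.Eichler Cfsg.Agent.Lib.Helper5.SingGeom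
  Cfsg.Agent.Lib.Helper5.OmegaGen Cfsg.Agent.Lib.Helper5.OmegaSimple

variable {ι : Type} [Fintype ι] [DecidableEq ι] {F : Type*} [Field F] [Fintype F]
  (Q : QuadraticForm F (ι → F))

/-! Field automorphisms of a finite field are Frobenius powers; semilinear maps as matrices. -/

section frob
open Cfsg.Agent.Lib.Helper5.OAut

omit [Fintype ι] [DecidableEq ι] in
/-- every automorphism of a finite field is a power of the Frobenius -/
theorem exists_frob_pow (p : ℕ) [Fact p.Prime] [CharP F p] (σ : F ≃+* F) :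
    ∃ k : ℕ, ∀ x : F, σ x = x ^ p ^ k := by
  let _ := ZMod.algebra F p
  obtain ⟨σ', hσ'⟩ : ∃ σ' : F ≃ₐ[ZMod p] F, ∀ x, σ' x = σ x :=
    ⟨AlgEquiv.ofRingEquiv (f := σ) (fun r =>
        RingHom.congr_fun (Subsingleton.elim ((σ : F →+* F).comp (algebraMap (ZMod p) F))
          (algebraMap (ZMod p) F)) r), fun x => rfl⟩
  obtain ⟨n, hn⟩ := (FiniteField.bijective_frobeniusAlgEquivOfAlgebraic_pow (ZMod p) F).2 σ'
  refine ⟨n.1, fun x => ?_⟩
  rw [← hσ' x, ← hn]
  simp only [AlgEquiv.coe_pow, FiniteField.coe_frobeniusAlgEquivOfAlgebraic_iterate, ZMod.card]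

omit [Fintype F] in
/-- an injective semilinear map is given by a matrix -/
theorem exists_GL_of_semilinear [Finite F] (σ : F ≃+* F) (T : (ι → F) → (ι → F))
    (hadd : ∀ u v, T (u + v) = T u + T v) (hsmul : ∀ (a : F) v, T (a • v) = σ a • T v)
    (hinj : ∀ v, T v = 0 → v = 0) :
    ∃ g : Matrix.GeneralLinearGroup ι F, ∀ v, sm g σ v = T v := by
  let L : (ι → F) →ₗ[F] (ι → F) :=
    { toFun := fun x => T (vm σ.symm x)
      map_add' := by
        intro u v
        rw [vm_add, hadd]
      map_smul' := by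
        intro a v
        rw [vm_smul, hsmul, RingEquiv.apply_symm_apply, RingHom.id_apply] }
  have hL : ∀ x, L x = T (vm σ.symm x) := fun x => rfl
  have hinjL : Function.Injective L := by
    rw [← LinearMap.ker_eq_bot, LinearMap.ker_eq_bot']
    intro u hu
    rw [hL] at hu
    have h1 := hinj _ hu
    have := congrArg (vm σ) h1
    rw [vm_symm'] at this
    rw [this]
    ext i
    simp [vm]
  obtain ⟨Le, hLe⟩ : ∃ Le : (ι → F) ≃ₗ[F] (ι → F), ∀ v, Le v = L v :=
    ⟨LinearEquiv.ofInjectiveEndo L hinjL, fun v => rfl⟩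
  have hcomp1 : (Le : (ι → F) →ₗ[F] (ι → F)) ∘ₗ (Le.symm : (ι → F) →ₗ[F] (ι → F)) =
      LinearMap.id := by
    ext v; simp
  have hcomp2 : (Le.symm : (ι → F) →ₗ[F] (ι → F)) ∘ₗ (Le : (ι → F) →ₗ[F] (ι → F)) =
      LinearMap.id := by
    ext v; simp
  refine ⟨⟨LinearMap.toMatrix' (Le : (ι → F) →ₗ[F] (ι → F)),
    LinearMap.toMatrix' (Le.symm : (ι → F) →ₗ[F] (ι → F)),
    by rw [← LinearMap.toMatrix'_comp, hcomp1, LinearMap.toMatrix'_id],
    by rw [← LinearMap.toMatrix'_comp, hcomp2, LinearMap.toMatrix'_id]⟩, fun v => ?_⟩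
  show LinearMap.toMatrix' (Le : (ι → F) →ₗ[F] (ι → F)) *ᵥ _ = _
  rw [LinearMap.toMatrix'_mulVec]
  show Le _ = _
  rw [hLe, hL, vm_symm]

omit [Fintype ι] [DecidableEq ι] in
/-- the squares in the unit group of a finite field of odd characteristic -/
theorem card_range_sq (h2 : (2 : F) ≠ 0) :
    2 * Nat.card ↥(powMonoidHom 2 : Fˣ →* Fˣ).range = Fintype.card F - 1 := by
  classical
  have h1 := card_ker_mul_range (powMonoidHom 2 : Fˣ →* Fˣ)
  have hk : Nat.card ↥(powMonoidHom 2 : Fˣ →* Fˣ).ker = 2 := by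
    have hset : ((powMonoidHom 2 : Fˣ →* Fˣ).ker : Set Fˣ) = {1, -1} := by
      ext u
      simp only [SetLike.mem_coe, MonoidHom.mem_ker, powMonoidHom_apply, Set.mem_insert_iff,
        Set.mem_singleton_iff]
      constructor
      · intro h
        have h3 : ((u : F) - 1) * ((u : F) + 1) = 0 := by
          have h4 := congrArg (fun w : Fˣ => (w : F)) h
          simp only [Units.val_pow_eq_pow_val, Units.val_one] at h4
          linear_combination h4
        rcases mul_eq_zero.mp h3 with h4 | h4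
        · left
          apply Units.ext
          rw [Units.val_one]
          linear_combination h4
        · right
          apply Units.ext
          rw [Units.val_neg, Units.val_one]
          linear_combination h4
      · rintro (rfl | rfl)
        · simp
        · simp
    have hne : (1 : Fˣ) ≠ -1 := by
      intro h
      apply h2
      have h4 := congrArg (fun w : Fˣ => (w : F)) h
      simp only [Units.val_neg, Units.val_one] at h4
      linear_combination h4
    have h5 : Nat.card ↥((powMonoidHom 2 : Fˣ →* Fˣ).ker : Set Fˣ) = 2 := by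
      rw [hset, Nat.card_coe_set_eq, Set.ncard_pair hne]
    exact h5
  rw [hk, Nat.card_eq_fintype_card, Fintype.card_units] at h1
  exact h1.symm

end frob
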