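import Mathlib
import Cfsg.Prelude
import Cfsg.Agent.Lib.Helper5.OmegaSimple
import Cfsg.Agent.Lib.Helper5.MaxTS
import Cfsg.Agent.Lib.Helper9.AOR28
import Cfsg.Agent.Lib.Helper5.SpinorHyp2

set_option autoImplicit false
set_option linter.unusedSectionVars false
set_option linter.unusedVariables false
open Cfsg

namespace Cfsg.Agent.Lib.Helper9.AOR

open Matrix QuadraticMap Cfsg.Agent.Lib.Helper5.CartanDieudonne Cfsg.Agent.Lib.Helper5.Refl
  Cfsg.Agent.Lib.Helper5.OrthCard Cfsg.Agent.Lib.Helper5.Siegel Cfsg.Agent.Lib.Helper5.QuadIsom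
  Cfsg.Agent.Lib.Helper5.ReflGen Cfsg.Agent.Lib.Helper5.Eichler Cfsg.Agent.Lib.Helper5.SingGeom
  Cfsg.Agent.Lib.Helper5.OmegaGen Cfsg.Agent.Lib.Helper5.OmegaSimple

variable {ι : Type} [Fintype ι] [DecidableEq ι] {F : Type*} [Field F] [Fintype F]
  (Q : QuadraticForm F (ι → F))

/-! The order of `Aut(PΩ_{2m+1}(q))`. -/

section oddinst
open Cfsg.Agent.Lib.Helper5.SpinorHyp Cfsg.Agent.Lib.Helper5.SpinorHyp2
  Cfsg.Agent.Lib.Helper5.OAut Cfsg.Agent.Lib.Helper5.SpinorNorm Cfsg.Agent.Lib.Helper5.POmegaCard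

omit [Fintype ι] [DecidableEq ι] in
theorem charP_of_card' (p f : ℕ) [hp : Fact p.Prime]
    (hF : Fintype.card F = p ^ f) : CharP F p := by
  obtain ⟨p', hp'⟩ := CharP.exists F
  have hzero : ((p ^ f : ℕ) : F) = 0 := by
    rw [← hF]
    exact Nat.cast_card_eq_zero F
  rw [Nat.cast_pow] at hzero
  have hp0 : ((p : ℕ) : F) = 0 := (pow_eq_zero_iff'.1 hzero).1
  have hdvd : p' ∣ p := (CharP.cast_eq_zero_iff F p' p).1 hp0
  rcases (Nat.dvd_prime hp.1).1 hdvd with h | h
  · exfalso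
    subst h
    exact CharP.char_ne_one F 1 rfl
  · subst h
    exact hp'

omit [Fintype ι] [DecidableEq ι] in
/-- The automorphism group of a field with `p ^ f` elements is cyclic of order `f`. -/
theorem ringAut_card_cyclic (p f : ℕ) [Fact p.Prime] [CharP F p]
    (hF : Fintype.card F = p ^ f) : IsCyclic (RingAut F) ∧ Nat.card (RingAut F) = f := by
  let _ := ZMod.algebra F p
  let e : RingAut F ≃* (F ≃ₐ[ZMod p] F) :=
    { toFun := fun σ => AlgEquiv.ofRingEquiv (f := σ) (fun r =>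
        RingHom.congr_fun (Subsingleton.elim ((σ : F →+* F).comp (algebraMap (ZMod p) F))
          (algebraMap (ZMod p) F)) r)
      invFun := fun τ => τ.toRingEquiv
      left_inv := fun σ => by ext x; rfl
      right_inv := fun τ => by ext x; rfl
      map_mul' := fun σ τ => by ext x; rfl }
  have hcyc : IsCyclic (F ≃ₐ[ZMod p] F) := inferInstance
  have hcard : Nat.card (F ≃ₐ[ZMod p] F) = Module.finrank (ZMod p) F := by
    rw [← Nat.card_eq_of_bijective _
      (FiniteField.bijective_frobeniusAlgEquivOfAlgebraic_pow (ZMod p) F), Nat.card_fin]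
  have hrank : Module.finrank (ZMod p) F = f := by
    have h1 := Module.card_eq_pow_finrank (K := ZMod p) (V := F)
    rw [ZMod.card, hF] at h1
    exact (Nat.pow_right_injective (Fact.out : p.Prime).two_le h1).symm
  constructor
  · exact isCyclic_of_surjective e.symm e.symm.surjective
  · rw [Nat.card_congr e.toEquiv, hcard, hrank]

/-- the distinguished anisotropic vector -/
def w0odd (F : Type*) [Field F] (m : ℕ) : Unit ⊕ (Fin m ⊕ Fin m) → F := Pi.single (Sum.inl ()) 1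

omit [Fintype F] in
theorem oddForm_w0 (m : ℕ) : oddForm m F (w0odd F m) = 1 := by
  rw [oddForm_apply]
  simp [Cfsg.quadFormOdd, w0odd]

omit [Fintype F] in
theorem oddForm_field (m : ℕ) (σ : F ≃+* F) (v : Unit ⊕ (Fin m ⊕ Fin m) → F) :
    oddForm m F (sm 1 σ v) = 1 * σ (oddForm m F v) := by
  unfold sm
  rw [Units.val_one, Matrix.one_mulVec, one_mul, oddForm_apply, oddForm_apply]
  simp [Cfsg.quadFormOdd, vm, map_sum]

omit [Fintype F] in
theorem mult_scalarGL {Q : QuadraticForm F (ι → F)} {w₀ : ι → F} (hw₀ : Q w₀ = 1) (x : F)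
    (hx : x ≠ 0) : mult Q w₀ (scalarGL ι x hx) = x * x := by
  show Q ((x • (1 : Matrix ι ι F)) *ᵥ w₀) = _
  rw [Matrix.smul_mulVec, Matrix.one_mulVec, QuadraticMap.map_smul, hw₀, smul_eq_mul, mul_one]

theorem multHomO_range_odd (h2 : (2 : F) ≠ 0) (m : ℕ) :
    (multHomO (oddForm_w0 (F := F) m)).range = (powMonoidHom 2 : Fˣ →* Fˣ).range := by
  have hQ := oddForm_nondegenerate h2 m
  have hcard : Fintype.card (Unit ⊕ (Fin m ⊕ Fin m)) = 2 * m + 1 := by
    simp; ring
  ext u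
  constructor
  · rintro ⟨g, rfl⟩
    have h1 := det_sq_of_sim hQ (oddForm_w0 m) g.2
    rw [hcard] at h1
    have hμ : mult (oddForm m F) (w0odd F m) (g : GL _ F) ≠ 0 := mult_ne_zero (oddForm_w0 m) g.2
    obtain ⟨μ, hμdef⟩ : ∃ μ : F, μ = mult (oddForm m F) (w0odd F m) (g : GL _ F) := ⟨_, rfl⟩
    rw [← hμdef] at h1 hμ
    have hd : ((g : GL (Unit ⊕ (Fin m ⊕ Fin m)) F) : Matrix (Unit ⊕ (Fin m ⊕ Fin m)) (Unit ⊕ (Fin m ⊕ Fin m)) F).det / μ ^ m ≠ 0 := by
      apply div_ne_zero _ (pow_ne_zero _ hμ)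
      intro h0
      rw [h0] at h1
      exact pow_ne_zero _ hμ (by rw [← h1]; ring)
    refine ⟨Units.mk0 _ hd, ?_⟩
    apply Units.ext
    rw [powMonoidHom_apply, Units.val_pow_eq_pow_val, Units.val_mk0, multHomO_coe, ← hμdef,
      div_pow, h1]
    field_simp
    ring
  · rintro ⟨x, rfl⟩
    refine ⟨⟨scalarGL _ (x : F) x.ne_zero, scalarGL_mem (Q := oddForm m F) (x : F) x.ne_zero⟩, ?_⟩
    apply Units.ext
    rw [multHomO_coe, powMonoidHom_apply, Units.val_pow_eq_pow_val]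
    show mult (oddForm m F) (w0odd F m) (scalarGL _ (x : F) x.ne_zero) = _
    rw [mult_scalarGL (oddForm_w0 m), pow_two]

end oddinst
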