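import Mathlib
import Cfsg.Prelude
import Cfsg.Agent.Lib.Helper5.OmegaSimple
import Cfsg.Agent.Lib.Helper5.MaxTS
import Cfsg.Agent.Lib.Helper9.AOR28
import Cfsg.Agent.Lib.Helper5.OrthPlane

set_option autoImplicit false
set_option linter.unusedSectionVars false
set_option linter.unusedVariables false
open Cfsg

namespace Cfsg.Agent.Lib.Helper9.AOR

open Matrix QuadraticMap Cfsg.Agent.Lib.Helper5.CartanDieudonne Cfsg.Agent.Lib.Helper5.Refl
  Cfsg.Agent.Lib.Helper5.OrthCard Cfsg.Agent.Lib.Helper5.Siegel Cfsg.Agent.Lib.Helper5.QuadIsom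
  Cfsg.Agent.Lib.Helper5.ReflGen Cfsg.Agent.Lib.Helper5.Eichler Cfsg.Agent.Lib.Helper5.SingGeom
  Cfsg.Agent.Lib.Helper5.OmegaGen Cfsg.Agent.Lib.Helper5.OmegaSimple

variable {ι : Type} [Fintype ι] [DecidableEq ι] {F : Type*} [Field F] [Fintype F]
  (Q : QuadraticForm F (ι → F))

/-! The Frobenius semisimilarities of the minus type form. -/

section minusfrob
open Cfsg.Agent.Lib.Helper5.OrthCard Cfsg.Agent.Lib.Helper5.OrthPlane

variable (a b : F)

/-- the quadratic algebra with norm form `x² + a x y + b y²` -/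
abbrev KK : Type _ := QuadraticAlgebra F (-b) a

/-- vectors to the quadratic algebra -/
def toK (z : Fin 2 → F) : KK a b := ⟨z 0, z 1⟩

/-- the quadratic algebra to vectors -/
def ofK (x : KK a b) : Fin 2 → F := ![x.re, x.im]

omit [Fintype F] in
theorem ofK_toK (z : Fin 2 → F) : ofK a b (toK a b z) = z := by
  ext i
  fin_cases i <;> rfl

omit [Fintype F] in
theorem toK_ofK (x : KK a b) : toK a b (ofK a b x) = x := by
  ext <;> rfl

omit [Fintype F] in
theorem toK_add (u v : Fin 2 → F) : toK a b (u + v) = toK a b u + toK a b v := by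
  ext <;> rfl

omit [Fintype F] in
theorem toK_smul (c : F) (v : Fin 2 → F) : toK a b (c • v) = c • toK a b v := by
  ext <;> rfl

omit [Fintype F] in
theorem ofK_add (x y : KK a b) : ofK a b (x + y) = ofK a b x + ofK a b y := by
  ext i
  fin_cases i <;> rfl

omit [Fintype F] in
theorem ofK_smul (c : F) (x : KK a b) : ofK a b (c • x) = c • ofK a b x := by
  ext i
  fin_cases i <;> rfl

omit [Fintype F] in
theorem ofK_eq_zero (x : KK a b) (h : ofK a b x = 0) : x = 0 := by
  rw [← toK_ofK a b x, h]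
  ext <;> rfl

omit [Fintype F] in
theorem binForm_ofK (x : KK a b) : binForm a b (ofK a b x) = QuadraticAlgebra.norm x := by
  rw [binForm_apply, QuadraticAlgebra.norm_def]
  simp only [ofK, Matrix.cons_val_zero, Matrix.cons_val_one]
  ring

omit [Fintype F] in
theorem norm_toK (z : Fin 2 → F) : QuadraticAlgebra.norm (toK a b z) = binForm a b z := by
  rw [← binForm_ofK, ofK_toK]

/-- the Frobenius power on the binary part -/
def TK (n : ℕ) (z : Fin 2 → F) : Fin 2 → F := ofK a b ((toK a b z) ^ n)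

omit [Fintype F] in
theorem binForm_TK (n : ℕ) (z : Fin 2 → F) : binForm a b (TK a b n z) = (binForm a b z) ^ n := by
  unfold TK
  rw [binForm_ofK, map_pow, norm_toK]

omit [Fintype F] in
theorem TK_smul (n : ℕ) (c : F) (z : Fin 2 → F) : TK a b n (c • z) = c ^ n • TK a b n z := by
  unfold TK
  rw [toK_smul, smul_pow, ofK_smul]

omit [Fintype F] in
theorem TK_add (p : ℕ) [Fact p.Prime] [CharP F p] (k : ℕ) (u v : Fin 2 → F) :
    TK a b (p ^ k) (u + v) = TK a b (p ^ k) u + TK a b (p ^ k) v := by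
  haveI : CharP (KK a b) p :=
    charP_of_injective_algebraMap (QuadraticAlgebra.algebraMap_injective) p
  unfold TK
  rw [toK_add, add_pow_char_pow, ofK_add]

omit [Fintype F] in
theorem TK_eq_zero (han : ∀ v : Fin 2 → F, binForm a b v = 0 → v = 0) (n : ℕ) (z : Fin 2 → F)
    (h : TK a b n z = 0) : z = 0 := by
  apply han
  have h1 := binForm_TK a b n z
  rw [h] at h1
  have h2 : binForm a b (0 : Fin 2 → F) = 0 := by simp
  rw [h2] at h1
  exact (pow_eq_zero_iff' .. |>.mp h1.symm).1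

variable (m : ℕ)

/-- the semilinear map on the whole space -/
def Tminus (σ : F ≃+* F) (n : ℕ) (v : (Fin m ⊕ Fin m) ⊕ Fin 2 → F) : (Fin m ⊕ Fin m) ⊕ Fin 2 → F :=
  Sum.elim (fun j => σ (v (Sum.inl j))) (TK a b n (fun t => v (Sum.inr t)))

omit [Fintype F] in
theorem genForm_Tminus (σ : F ≃+* F) (n : ℕ) (hσ : ∀ x, σ x = x ^ n)
    (v : (Fin m ⊕ Fin m) ⊕ Fin 2 → F) :
    genForm (binForm a b) m (Tminus a b m σ n v) = σ (genForm (binForm a b) m v) := by
  rw [genForm_apply, genForm_apply, map_add, map_sum]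
  congr 1
  · apply Finset.sum_congr rfl
    intro i _
    rw [map_mul]
    rfl
  · rw [hσ, ← binForm_TK]
    rfl

omit [Fintype F] in
theorem Tminus_add (p : ℕ) [Fact p.Prime] [CharP F p] (σ : F ≃+* F) (k : ℕ)
    (u v : (Fin m ⊕ Fin m) ⊕ Fin 2 → F) :
    Tminus a b m σ (p ^ k) (u + v) = Tminus a b m σ (p ^ k) u + Tminus a b m σ (p ^ k) v := by
  ext j
  rcases j with j | j
  · simp [Tminus]
  · simp only [Tminus, Sum.elim_inr, Pi.add_apply]
    have h1 : (fun t => u (Sum.inr t) + v (Sum.inr t)) =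
        (fun t => u (Sum.inr t)) + (fun t => v (Sum.inr t)) := rfl
    rw [h1, TK_add]
    rfl

omit [Fintype F] in
theorem Tminus_smul (σ : F ≃+* F) (n : ℕ) (hσ : ∀ x, σ x = x ^ n) (c : F)
    (v : (Fin m ⊕ Fin m) ⊕ Fin 2 → F) :
    Tminus a b m σ n (c • v) = σ c • Tminus a b m σ n v := by
  ext j
  rcases j with j | j
  · simp [Tminus]
  · simp only [Tminus, Sum.elim_inr, Pi.smul_apply]
    have h1 : (fun t => c • v (Sum.inr t)) = c • (fun t => v (Sum.inr t)) := rfl
    rw [h1, TK_smul, hσ]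
    rfl

omit [Fintype F] in
theorem Tminus_eq_zero (han : ∀ v : Fin 2 → F, binForm a b v = 0 → v = 0) (σ : F ≃+* F) (n : ℕ)
    (v : (Fin m ⊕ Fin m) ⊕ Fin 2 → F) (h : Tminus a b m σ n v = 0) : v = 0 := by
  ext j
  rcases j with j | j
  · have h1 := congrFun h (Sum.inl j)
    simp only [Tminus, Sum.elim_inl, Pi.zero_apply] at h1
    exact (map_eq_zero σ).mp h1
  · have h1 : TK a b n (fun t => v (Sum.inr t)) = 0 := by
      ext t
      have h2 := congrFun h (Sum.inr t)
      simpa [Tminus] using h2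
    have h3 := TK_eq_zero a b han n _ h1
    exact congrFun h3 j

/-- the matrix of the Frobenius semisimilarity -/
theorem exists_minus_frob (p : ℕ) [Fact p.Prime] [CharP F p]
    (han : ∀ v : Fin 2 → F, binForm a b v = 0 → v = 0) (σ : F ≃+* F) (k : ℕ)
    (hσ : ∀ x, σ x = x ^ p ^ k) :
    ∃ g : Matrix.GeneralLinearGroup ((Fin m ⊕ Fin m) ⊕ Fin 2) F,
      ∀ v, sm g σ v = Tminus a b m σ (p ^ k) v :=
  exists_GL_of_semilinear σ (Tminus a b m σ (p ^ k)) (Tminus_add a b m p σ k)
    (Tminus_smul a b m σ (p ^ k) hσ) (Tminus_eq_zero a b m han σ (p ^ k))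

theorem minus_field (p : ℕ) [Fact p.Prime] [CharP F p]
    (han : ∀ v : Fin 2 → F, binForm a b v = 0 → v = 0) (σ : F ≃+* F) :
    ∃ (g : Matrix.GeneralLinearGroup ((Fin m ⊕ Fin m) ⊕ Fin 2) F) (c : F), c ≠ 0 ∧
      ∀ v, genForm (binForm a b) m (sm g σ v) = c * σ (genForm (binForm a b) m v) := by
  obtain ⟨k, hk⟩ := exists_frob_pow p σ
  obtain ⟨g, hg⟩ := exists_minus_frob a b m p han σ k hk
  refine ⟨g, 1, one_ne_zero, fun v => ?_⟩
  rw [hg, genForm_Tminus a b m σ (p ^ k) hk, one_mul]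

end minusfrob
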