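import Mathlib
import Cfsg.Prelude
import Cfsg.Agent.Lib.Helper5.OmegaSimple
import Cfsg.Agent.Lib.Helper5.MaxTS
import Cfsg.Agent.Lib.Helper9.AOR31
import Cfsg.Agent.Lib.Helper9.AOR29
import Cfsg.Agent.Lib.Helper9.AOR24
import Cfsg.Agent.S0294
import Cfsg.Agent.Lib.Helper5.OAut.SimInst
import Cfsg.Agent.Lib.Helper5.OAut.Arith

set_option autoImplicit false
set_option linter.unusedSectionVars false
set_option linter.unusedVariables false
open Cfsg

namespace Cfsg.Agent.Lib.Helper9.AOR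

open Matrix QuadraticMap Cfsg.Agent.Lib.Helper5.CartanDieudonne Cfsg.Agent.Lib.Helper5.Refl
  Cfsg.Agent.Lib.Helper5.OrthCard Cfsg.Agent.Lib.Helper5.Siegel Cfsg.Agent.Lib.Helper5.QuadIsom
  Cfsg.Agent.Lib.Helper5.ReflGen Cfsg.Agent.Lib.Helper5.Eichler Cfsg.Agent.Lib.Helper5.SingGeom
  Cfsg.Agent.Lib.Helper5.OmegaGen Cfsg.Agent.Lib.Helper5.OmegaSimple

variable {ι : Type} [Fintype ι] [DecidableEq ι] {F : Type*} [Field F] [Fintype F]
  (Q : QuadraticForm F (ι → F))

/-! The order of `Aut(PΩ⁻_{2m}(q))`. -/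

section minusmain
open Cfsg.Agent.Lib.Helper5.SpinorHyp Cfsg.Agent.Lib.Helper5.SpinorHyp2
  Cfsg.Agent.Lib.Helper5.OAut Cfsg.Agent.Lib.Helper5.SpinorNorm Cfsg.Agent.Lib.Helper5.POmegaCard
  Cfsg.Agent.Lib.Helper5.OrthPlane

variable (a b : F) (m : ℕ)

theorem multHomO_surj_minus (han : ∀ v : Fin 2 → F, binForm a b v = 0 → v = 0) :
    Function.Surjective (multHomO (Cfsg.Agent.S0294.quad_xvec a b m)) := by
  intro ν
  obtain ⟨v, hv⟩ := exists_binForm_eq a b han (ν : F) ν.ne_zero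
  rw [binForm_apply] at hv
  obtain ⟨g, hg⟩ := exists_sim_minus m a b (v 0) (v 1) (by rw [hv]; exact ν.ne_zero)
  rw [hv] at hg
  refine ⟨⟨g, ⟨ν, fun w => hg w⟩⟩, ?_⟩
  apply Units.ext
  rw [multHomO_coe]
  show genForm (binForm a b) m _ = _
  rw [hg, Cfsg.Agent.S0294.quad_xvec, mul_one]

theorem card_aut_minus (p f : ℕ) [Fact p.Prime] (hF : Fintype.card F = p ^ f) (hm : 3 ≤ m)
    (han : ∀ v : Fin 2 → F, binForm a b v = 0 → v = 0) :
    Nat.card (MulAut (POmega F ⇑(genForm (binForm a b) m))) =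
      f * Nat.card ↥(isometryGroup F ⇑(genForm (binForm a b) m)) := by
  haveI := charP_of_card' p f hF
  have hQ := genForm_nondegenerate _ (binForm_nondegenerate a b han) m
  have hfam := genForm_hypFamily (binForm a b) (le_refl m)
  have hn : Fintype.card ((Fin m ⊕ Fin m) ⊕ Fin 2) = 2 * m + 2 := by
    simp only [Fintype.card_sum, Fintype.card_fin]; omega
  have H := Hyp.of_hypFamily hQ hfam hm (by omega)
  have hγ : gammaPOmega F ⇑(genForm (binForm a b) m) = ⊤ := by
    refine gamma_eq_top p H (by omega) ?_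
    intro Y hY hle
    exact (no_lagrangian_genForm _ han m hQ Y hY hle).elim
  have hA := card_aut_eq p H hγ (minus_field a b m p han)
  rw [(ringAut_card_cyclic p f hF).2] at hA
  have hker : ∀ g ∈ (conjGO (genForm (binForm a b) m)).ker, ∃ c : F,
      ((g : GL ((Fin m ⊕ Fin m) ⊕ Fin 2) F) :
        Matrix ((Fin m ⊕ Fin m) ⊕ Fin 2) ((Fin m ⊕ Fin m) ⊕ Fin 2) F) = c • 1 := by
    intro g hg
    obtain ⟨c, _, hc⟩ := scalar_of_mem_ker_conjGO hQ hfam hm (by omega)
      (Cfsg.Agent.S0294.quad_xvec a b m) g hg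
    exact ⟨c, hc⟩
  haveI : Nonempty ((Fin m ⊕ Fin m) ⊕ Fin 2) := ⟨Sum.inr 0⟩
  have hR := card_range_conjGO_mul (Cfsg.Agent.S0294.quad_xvec a b m) hker
  have hU : Nat.card Fˣ = Fintype.card F - 1 := by
    classical
    rw [Nat.card_eq_fintype_card, Fintype.card_units]
  rw [MonoidHom.range_eq_top.mpr (multHomO_surj_minus a b m han), Subgroup.card_top, hU] at hR
  have hq : 0 < Fintype.card F - 1 := by
    have := Fintype.one_lt_card (α := F)
    omega
  have h5 := Nat.eq_of_mul_eq_mul_right hq hR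
  rw [hA, h5, mul_comm]

theorem parity_aux (q m : ℕ) (hq : Odd q) :
    ¬ Even (m * (q - 1) / 2) ↔ (Odd m ∧ q % 4 = 3) := by
  obtain ⟨t, ht⟩ := hq
  have h1 : m * (q - 1) / 2 = m * t := by
    rw [ht, Nat.add_sub_cancel, mul_left_comm, Nat.mul_div_cancel_left _ (by norm_num : 0 < 2)]
  rw [h1, Nat.even_mul, not_or, Nat.not_even_iff_odd, Nat.not_even_iff_odd]
  constructor
  · rintro ⟨hm, ⟨s, hs⟩⟩
    refine ⟨hm, ?_⟩
    omega
  · rintro ⟨hm, h3⟩
    refine ⟨hm, ?_⟩
    rw [Nat.odd_iff]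
    omega

/-- the order of the automorphism group of the minus type group -/
theorem card_aut_minus' (p f : ℕ) [Fact p.Prime] (hF : Fintype.card F = p ^ f) (hm : 4 ≤ m)
    (han : ∀ v : Fin 2 → F, binForm a b v = 0 → v = 0) :
    Nat.card (MulAut (POmega F ⇑(genForm (binForm a b) (m - 1)))) =
      (if p = 2 then 2 else (if Even (m * (p ^ f - 1) / 2) then 4 else 8)) * f *
        Nat.card (POmega F ⇑(genForm (binForm a b) (m - 1))) := by
  haveI := charP_of_card' p f hF
  have hA := card_aut_minus a b (m - 1) p f hF (by omega) han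
  have hQ := genForm_nondegenerate _ (binForm_nondegenerate a b han) (m - 1)
  have hfam := genForm_hypFamily (binForm a b) (le_refl (m - 1))
  have hn : Fintype.card ((Fin (m - 1) ⊕ Fin (m - 1)) ⊕ Fin 2) = 2 * (m - 1) + 2 := by
    simp only [Fintype.card_sum, Fintype.card_fin]; omega
  haveI : Nonempty ((Fin (m - 1) ⊕ Fin (m - 1)) ⊕ Fin 2) := ⟨Sum.inr 0⟩
  have hm1 : m - 1 + 1 = m := by omega
  by_cases hp2 : p = 2
  · rw [if_pos hp2]
    subst hp2
    have h2 : (2 : F) = 0 := by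
      have := CharP.cast_eq_zero F 2
      exact_mod_cast this
    have h1 := card_of_char_two h2 hQ hfam (by omega) (by rw [hn]; omega)
    rw [hA, ← h1]
    ring
  · rw [if_neg hp2]
    have hpodd : Odd p := (Fact.out : p.Prime).odd_of_ne_two hp2
    have hqodd : Odd (p ^ f) := hpodd.pow
    have h2 : (2 : F) ≠ 0 := Cfsg.Agent.Lib.Helper5.two_ne_zero_of_odd_card (by rw [hF]; exact hqodd)
    have hiff := Cfsg.Agent.S0294.negOne_mem_iff a b (m - 1) hF hqodd han
    rw [hm1, pow_mod_four_eq_three_iff _ _ hqodd, ← parity_aux _ _ hqodd] at hiff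
    by_cases hev : Even (m * (p ^ f - 1) / 2)
    · rw [if_pos hev]
      have hneg : Cfsg.Agent.Lib.Helper5.SpinorDiag.negOne (genForm (binForm a b) (m - 1)) ∉
          Omega F ⇑(genForm (binForm a b) (m - 1)) := by
        rw [hiff]
        exact not_not.mpr hev
      have h1 := card_of_not_mem h2 hQ hfam (by omega) (by rw [hn]; omega) hneg
      rw [hA, ← h1]
      ring
    · rw [if_neg hev]
      have hneg := hiff.mpr hev
      have h1 := card_of_mem h2 hQ hfam (by omega) (by rw [hn]; omega) hneg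
      rw [hA, ← h1]
      ring

end minusmain
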