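import Mathlib
import Cfsg.Prelude
import Cfsg.Agent.Lib.Helper5.OmegaSimple
import Cfsg.Agent.Lib.Helper5.MaxTS
import Cfsg.Agent.Lib.Helper9.AOR29
import Cfsg.Agent.S2694
import Cfsg.Agent.S0292

set_option autoImplicit false
set_option linter.unusedSectionVars false
set_option linter.unusedVariables false
open Cfsg

namespace Cfsg.Agent.Lib.Helper9.AOR

open Matrix QuadraticMap Cfsg.Agent.Lib.Helper5.CartanDieudonne Cfsg.Agent.Lib.Helper5.Refl
  Cfsg.Agent.Lib.Helper5.OrthCard Cfsg.Agent.Lib.Helper5.Siegel Cfsg.Agent.Lib.Helper5.QuadIsom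
  Cfsg.Agent.Lib.Helper5.ReflGen Cfsg.Agent.Lib.Helper5.Eichler Cfsg.Agent.Lib.Helper5.SingGeom
  Cfsg.Agent.Lib.Helper5.OmegaGen Cfsg.Agent.Lib.Helper5.OmegaSimple

variable {ι : Type} [Fintype ι] [DecidableEq ι] {F : Type*} [Field F] [Fintype F]
  (Q : QuadraticForm F (ι → F))

/-! The order of `Aut(PΩ_{2m+1}(q))`: main theorem. -/

section oddmain
open Cfsg.Agent.Lib.Helper5.SpinorHyp Cfsg.Agent.Lib.Helper5.SpinorHyp2
  Cfsg.Agent.Lib.Helper5.OAut Cfsg.Agent.Lib.Helper5.SpinorNorm Cfsg.Agent.Lib.Helper5.POmegaCard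

theorem card_aut_odd (p f : ℕ) [Fact p.Prime] (hF : Fintype.card F = p ^ f) (hodd : Odd p)
    (m : ℕ) (hm : 3 ≤ m) :
    Nat.card (MulAut (POmega F ⇑(oddForm m F))) =
      2 * f * Nat.card (POmega F ⇑(oddForm m F)) := by
  haveI := charP_of_card' p f hF
  have hoddF : Odd (Fintype.card F) := by rw [hF]; exact hodd.pow
  have h2 : (2 : F) ≠ 0 := Cfsg.Agent.Lib.Helper5.two_ne_zero_of_odd_card hoddF
  have hQ := oddForm_nondegenerate h2 m
  have hfam := oddForm_hypFamily (F := F) (le_refl m)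
  have hn : Fintype.card (Unit ⊕ (Fin m ⊕ Fin m)) = 2 * m + 1 := by
    simp only [Fintype.card_sum, Fintype.card_fin, Fintype.card_unit]; omega
  have H := Hyp.of_hypFamily hQ hfam hm (by omega)
  have hγ : gammaPOmega F ⇑(oddForm m F) = ⊤ := by
    rw [coe_oddForm]
    exact Cfsg.Agent.S2694.result hoddF hm
  have hfield : ∀ σ : F ≃+* F, ∃ (g : Matrix.GeneralLinearGroup (Unit ⊕ (Fin m ⊕ Fin m)) F)
      (c : F), c ≠ 0 ∧ ∀ v, oddForm m F (sm g σ v) = c * σ (oddForm m F v) :=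
    fun σ => ⟨1, 1, one_ne_zero, oddForm_field m σ⟩
  have hA := card_aut_eq p H hγ hfield
  rw [(ringAut_card_cyclic p f hF).2] at hA
  have hker : ∀ g ∈ (conjGO (oddForm m F)).ker, ∃ a : F,
      ((g : GL (Unit ⊕ (Fin m ⊕ Fin m)) F) : Matrix (Unit ⊕ (Fin m ⊕ Fin m)) (Unit ⊕ (Fin m ⊕ Fin m)) F) = a • 1 := by
    intro g hg
    obtain ⟨a, _, ha⟩ := scalar_of_mem_ker_conjGO hQ hfam hm (by omega) (oddForm_w0 m) g hg
    exact ⟨a, ha⟩
  haveI : Nonempty (Unit ⊕ (Fin m ⊕ Fin m)) := ⟨Sum.inl ()⟩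
  have hR := card_range_conjGO_mul (oddForm_w0 (F := F) m) hker
  rw [multHomO_range_odd h2 m, ← card_range_sq h2] at hR
  have hidx := index_commutator (oddForm m F) h2 hQ (by omega)
  have hc : Nat.card (Subgroup.center ↥(Cfsg.Omega F ⇑(oddForm m F))) = 1 := by
    rw [Cfsg.Agent.S0292.center_eq_bot h2 m (by omega)]; exact Subgroup.card_bot
  have hO := card_eq_mul 4 hidx 1 hc
  rw [← hO] at hR
  have hr : 0 < Nat.card ↥(powMonoidHom 2 : Fˣ →* Fˣ).range := Nat.card_pos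
  have h5 : Nat.card ↥(conjGO (oddForm m F)).range =
      2 * Nat.card (POmega F ⇑(oddForm m F)) := by
    have h6 : Nat.card ↥(powMonoidHom 2 : Fˣ →* Fˣ).range *
        (2 * Nat.card ↥(conjGO (oddForm m F)).range) =
        Nat.card ↥(powMonoidHom 2 : Fˣ →* Fˣ).range *
          (4 * Nat.card (POmega F ⇑(oddForm m F))) := by
      have h7 : Nat.card ↥(conjGO (oddForm m F)).range *
          (2 * Nat.card ↥(powMonoidHom 2 : Fˣ →* Fˣ).range) =
          4 * 1 * Nat.card (POmega F ⇑(oddForm m F)) *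
            Nat.card ↥(powMonoidHom 2 : Fˣ →* Fˣ).range := hR
      nlinarith [h7]
    have h8 := Nat.eq_of_mul_eq_mul_left hr h6
    omega
  rw [hA, h5]
  ring

end oddmain
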