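import Mathlib
import Cfsg.Prelude
import Cfsg.Agent.Lib.Helper5.OmegaSimple
import Cfsg.Agent.Lib.Helper5.MaxTS
import Cfsg.Agent.Lib.Helper9.AOR27

set_option autoImplicit false
set_option linter.unusedSectionVars false
set_option linter.unusedVariables false
open Cfsg

namespace Cfsg.Agent.Lib.Helper9.AOR

open Matrix QuadraticMap Cfsg.Agent.Lib.Helper5.CartanDieudonne Cfsg.Agent.Lib.Helper5.Refl
  Cfsg.Agent.Lib.Helper5.OrthCard Cfsg.Agent.Lib.Helper5.Siegel Cfsg.Agent.Lib.Helper5.QuadIsom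
  Cfsg.Agent.Lib.Helper5.ReflGen Cfsg.Agent.Lib.Helper5.Eichler Cfsg.Agent.Lib.Helper5.SingGeom
  Cfsg.Agent.Lib.Helper5.OmegaGen Cfsg.Agent.Lib.Helper5.OmegaSimple

variable {ι : Type} [Fintype ι] [DecidableEq ι] {F : Type*} [Field F] [Fintype F]
  (Q : QuadraticForm F (ι → F))

/-! The outer automorphism group of `PΩ`: generalities. -/

section outgen
open scoped LinearAlgebra.Projectivization Pointwise
open Cfsg.Agent.Lib.Helper5.MaxTS Module Cfsg.Agent.Lib.Helper5.OAut
attribute [local instance 2000] omSMul omAction omSMulComm singSMul singAction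

/-- the central quotient of a perfect group has trivial centre -/
theorem center_quot_eq_bot {K : Type*} [Group K] (hK : commutator K = ⊤) :
    Subgroup.center (K ⧸ Subgroup.center K) = ⊥ := by
  rw [Subgroup.eq_bot_iff_forall]
  intro z hz
  obtain ⟨x, rfl⟩ := QuotientGroup.mk_surjective z
  have he : ∀ s : K, s⁻¹ * (MulAut.conj x) s ∈ Subgroup.center K := by
    intro s
    rw [MulAut.conj_apply, ← QuotientGroup.eq_one_iff]
    have h1 := Subgroup.mem_center_iff.mp hz (QuotientGroup.mk s)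
    have h2 : ((s⁻¹ * (x * s * x⁻¹) : K) : K ⧸ Subgroup.center K) =
        (QuotientGroup.mk s)⁻¹ * (QuotientGroup.mk x * QuotientGroup.mk s) *
          (QuotientGroup.mk x)⁻¹ := by
      simp only [QuotientGroup.mk_mul, QuotientGroup.mk_inv]
      group
    rw [h2, ← h1]
    group
  have hfix := eq_of_perfect_of_central hK (MulAut.conj x) he
  rw [QuotientGroup.eq_one_iff, Subgroup.mem_center_iff]
  intro s
  have h3 := hfix s
  rw [MulAut.conj_apply] at h3
  calc s * x = (x * s * x⁻¹) * x := by rw [h3]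
    _ = x * s := by group

variable {Q}

theorem center_POmega_eq_bot (H : Hyp Q) : Subgroup.center (POmega F ⇑Q) = ⊥ :=
  center_quot_eq_bot (perfect H)

theorem card_inn_POmega (H : Hyp Q) : Nat.card ↥(Inn (POmega F ⇑Q)) = Nat.card (POmega F ⇑Q) := by
  have hinj : Function.Injective (MulAut.conj : POmega F ⇑Q →* MulAut (POmega F ⇑Q)) := by
    rw [← MonoidHom.ker_eq_bot_iff, eq_bot_iff]
    intro x hx
    rw [MonoidHom.mem_ker] at hx
    have hc : x ∈ Subgroup.center (POmega F ⇑Q) := by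
      rw [Subgroup.mem_center_iff]
      intro y
      have h1 := congrArg (fun e : MulAut (POmega F ⇑Q) => e y) hx
      simp only [MulAut.conj_apply, MulAut.one_apply] at h1
      calc y * x = (x * y * x⁻¹) * x := by rw [h1]
        _ = x * y := by group
    rw [center_POmega_eq_bot H] at hc
    exact hc
  exact (Nat.card_congr (MonoidHom.ofInjective hinj).toEquiv).symm

theorem inn_le_ker_tauO (p : ℕ) [Fact p.Prime] [CharP F p] (H : Hyp Q)
    (hγ : gammaPOmega F ⇑Q = ⊤) : Inn (POmega F ⇑Q) ≤ (tauO p H hγ).ker := by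
  rintro _ ⟨x, rfl⟩
  obtain ⟨g, rfl⟩ := pr_surjective (Q := Q) x
  obtain ⟨g', σ, hp, hi⟩ := conj_gen g
  rw [MonoidHom.mem_ker]
  have h1 := SR_of_induced g' σ hp _ hi
  have h2 : SR Q (MulAut.conj (pr Q g)) (RingEquiv.refl F) := by
    refine SR_of_induced (g.1.1 : Matrix.GeneralLinearGroup ι F) (RingEquiv.refl F) ?_ _ ?_
    · refine ⟨1, fun v => ?_⟩
      have h1 := (mem_isometryGroup_iff (⇑Q) g.1.1).mp g.1.2 v
      simp only [RingEquiv.refl_apply, Units.val_one, one_mul]
      exact h1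
    · intro s s' hs
      rw [MulAut.conj_apply]
      show pr Q g * pr Q s * (pr Q g)⁻¹ = pr Q s'
      rw [← map_inv, ← map_mul, ← map_mul]
      congr 1
      apply Subtype.ext
      apply Subtype.ext
      apply Units.ext
      rw [hs, Cfsg.Agent.Lib.Helper5.OAut.map_refl]
      rfl
  exact tauO_eq p H hγ h2

/-- the field automorphism of an outer automorphism -/
noncomputable def tauBar (p : ℕ) [Fact p.Prime] [CharP F p] (H : Hyp Q)
    (hγ : gammaPOmega F ⇑Q = ⊤) : Out (POmega F ⇑Q) →* RingAut F :=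
  QuotientGroup.lift (Inn (POmega F ⇑Q)) (tauO p H hγ) (inn_le_ker_tauO p H hγ)

theorem tauBar_mk (p : ℕ) [Fact p.Prime] [CharP F p] (H : Hyp Q)
    (hγ : gammaPOmega F ⇑Q = ⊤) (β : MulAut (POmega F ⇑Q)) :
    tauBar p H hγ (QuotientGroup.mk β) = tauO p H hγ β := rfl

theorem card_ker_tauBar (p : ℕ) [Fact p.Prime] [CharP F p] (H : Hyp Q)
    (hγ : gammaPOmega F ⇑Q = ⊤) :
    Nat.card ↥(tauBar p H hγ).ker * Nat.card (POmega F ⇑Q) = Nat.card ↥(conjGO Q).range := by
  rw [← tauO_ker p H hγ, ← card_inn_POmega H]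
  have hker : (tauBar p H hγ).ker =
      (tauO p H hγ).ker.map (QuotientGroup.mk' (Inn (POmega F ⇑Q))) := by
    ext x
    obtain ⟨β, rfl⟩ := QuotientGroup.mk_surjective x
    rw [MonoidHom.mem_ker, tauBar_mk, Subgroup.mem_map]
    constructor
    · intro h
      exact ⟨β, h, rfl⟩
    · rintro ⟨β', hβ', hβ⟩
      have h1 : β'⁻¹ * β ∈ Inn (POmega F ⇑Q) := QuotientGroup.eq.mp hβ
      have h2 := inn_le_ker_tauO p H hγ h1
      rw [MonoidHom.mem_ker, map_mul, map_inv, MonoidHom.mem_ker.mp hβ', inv_one, one_mul] at h2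
      exact h2
  rw [hker]
  have h3 := card_ker_mul_range
    ((QuotientGroup.mk' (Inn (POmega F ⇑Q))).comp (tauO p H hγ).ker.subtype)
  have hr : ((QuotientGroup.mk' (Inn (POmega F ⇑Q))).comp (tauO p H hγ).ker.subtype).range =
      (tauO p H hγ).ker.map (QuotientGroup.mk' (Inn (POmega F ⇑Q))) := by
    rw [MonoidHom.range_comp, Subgroup.range_subtype]
  have hk : Nat.card ↥((QuotientGroup.mk' (Inn (POmega F ⇑Q))).comp
      (tauO p H hγ).ker.subtype).ker = Nat.card ↥(Inn (POmega F ⇑Q)) := by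
    apply Nat.card_congr
    refine ⟨fun x => ⟨x.1.1, ?_⟩, fun y => ⟨⟨y.1, inn_le_ker_tauO p H hγ y.2⟩, ?_⟩,
      fun x => rfl, fun y => rfl⟩
    · have h4 := x.2
      rw [MonoidHom.mem_ker, MonoidHom.comp_apply] at h4
      exact (QuotientGroup.eq_one_iff _).mp h4
    · rw [MonoidHom.mem_ker, MonoidHom.comp_apply]
      exact (QuotientGroup.eq_one_iff _).mpr y.2
  rw [hr, hk] at h3
  rw [h3, mul_comm]

/-- a split extension of a cyclic group of order `f` by a group of order two -/
theorem exists_equiv_two_cyclic {G R : Type*} [Group G] [Group R] (f : ℕ) (τ : G →* R)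
    (s : R →* G) (hs : ∀ r, τ (s r) = r) (hk : Nat.card ↥τ.ker = 2)
    (hR : IsCyclic R) (hRc : Nat.card R = f) :
    Nonempty (G ≃* Multiplicative (ZMod 2 × ZMod f)) := by
  haveI : Fact (Nat.Prime 2) := ⟨Nat.prime_two⟩
  have hKcyc : IsCyclic ↥τ.ker := isCyclic_of_prime_card hk
  obtain ⟨eK⟩ : Nonempty (↥τ.ker ≃* Multiplicative (ZMod 2)) := by
    have := (zmodCyclicMulEquiv hKcyc).symm
    rw [hk] at this
    exact ⟨this⟩
  obtain ⟨eR⟩ : Nonempty (R ≃* Multiplicative (ZMod f)) := by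
    have := (zmodCyclicMulEquiv hR).symm
    rw [hRc] at this
    exact ⟨this⟩
  -- the kernel is central
  have hcen : ∀ (k : ↥τ.ker) (r : R), Commute ((τ.ker.subtype) k) (s r) := by
    intro k r
    show (k : G) * s r = s r * k
    by_cases hk1 : k = 1
    · rw [hk1]; simp
    · have hmem : s r * k * (s r)⁻¹ ∈ τ.ker := by
        rw [MonoidHom.mem_ker, map_mul, map_mul, MonoidHom.mem_ker.mp k.2, mul_one, map_inv,
          mul_inv_cancel]
      obtain ⟨y, -, hy⟩ := (Nat.card_eq_two_iff' (1 : ↥τ.ker)).mp hk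
      have h1 := hy k hk1
      have h2 := hy ⟨_, hmem⟩ (by
        intro h
        apply hk1
        have h3 := congrArg (fun z : ↥τ.ker => (z : G)) h
        simp only [Subgroup.coe_one] at h3
        apply Subtype.ext
        rw [Subgroup.coe_one]
        calc (k : G) = (s r)⁻¹ * (s r * k * (s r)⁻¹) * s r := by group
          _ = 1 := by rw [h3]; group)
      have h3 : s r * k * (s r)⁻¹ = k := by
        have := congrArg (fun z : ↥τ.ker => (z : G)) (h2.trans h1.symm)
        exact this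
      calc (k : G) * s r = (s r * k * (s r)⁻¹) * s r := by rw [h3]
        _ = s r * k := by group
  obtain ⟨Φ, hΦ⟩ : ∃ Φ : ↥τ.ker × R →* G, ∀ k r, Φ (k, r) = (k : G) * s r :=
    ⟨MonoidHom.noncommCoprod τ.ker.subtype s hcen, fun k r => by
      rw [MonoidHom.noncommCoprod_apply]; rfl⟩
  have hinj : Function.Injective Φ := by
    rw [injective_iff_map_eq_one]
    rintro ⟨k, r⟩ h
    rw [hΦ] at h
    have h1 := congrArg τ h
    rw [map_mul, MonoidHom.mem_ker.mp k.2, one_mul, hs, map_one] at h1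
    rw [h1, map_one, mul_one] at h
    have hk1 : k = 1 := by
      apply Subtype.ext
      rw [h]; rfl
    rw [hk1, h1]
    rfl
  have hsurj : Function.Surjective Φ := by
    intro g
    have hmem : g * (s (τ g))⁻¹ ∈ τ.ker := by
      rw [MonoidHom.mem_ker, map_mul, map_inv, hs, mul_inv_cancel]
    refine ⟨(⟨_, hmem⟩, τ g), ?_⟩
    rw [hΦ]
    show g * (s (τ g))⁻¹ * s (τ g) = g
    group
  exact ⟨((MulEquiv.ofBijective Φ ⟨hinj, hsurj⟩).symm.trans (MulEquiv.prodCongr eK eR)).trans
    (MulEquiv.prodMultiplicative (ZMod 2) (ZMod f)).symm⟩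

end outgen
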