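import Mathlib
import Cfsg.Prelude
import Cfsg.Agent.Lib.Helper5.OmegaSimple
import Cfsg.Agent.Lib.Helper5.MaxTS
import Cfsg.Agent.Lib.Helper9.AOR33
import Cfsg.Agent.Lib.Helper9.AOR30

set_option autoImplicit false
set_option linter.unusedSectionVars false
set_option linter.unusedVariables false
open Cfsg

namespace Cfsg.Agent.Lib.Helper9.AOR

open Matrix QuadraticMap Cfsg.Agent.Lib.Helper5.CartanDieudonne Cfsg.Agent.Lib.Helper5.Refl
  Cfsg.Agent.Lib.Helper5.OrthCard Cfsg.Agent.Lib.Helper5.Siegel Cfsg.Agent.Lib.Helper5.QuadIsom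
  Cfsg.Agent.Lib.Helper5.ReflGen Cfsg.Agent.Lib.Helper5.Eichler Cfsg.Agent.Lib.Helper5.SingGeom
  Cfsg.Agent.Lib.Helper5.OmegaGen Cfsg.Agent.Lib.Helper5.OmegaSimple

variable {ι : Type} [Fintype ι] [DecidableEq ι] {F : Type*} [Field F] [Fintype F]
  (Q : QuadraticForm F (ι → F))

/-! The outer automorphism group of `PΩ_{2m+1}(q)`. -/

section oddout
open Cfsg.Agent.Lib.Helper5.SpinorHyp Cfsg.Agent.Lib.Helper5.SpinorHyp2
  Cfsg.Agent.Lib.Helper5.OAut Cfsg.Agent.Lib.Helper5.SpinorNorm Cfsg.Agent.Lib.Helper5.POmegaCard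

theorem semiAut_congr {Q : QuadraticForm F (ι → F)} {g g' : Matrix.GeneralLinearGroup ι F}
    {σ σ' : F ≃+* F} {c c' : F} (h1 : g = g') (h2 : σ = σ') (h3 : c = c')
    (hg : ∀ v, Q (sm g σ v) = c * σ (Q v)) (hg' : ∀ v, Q (sm g' σ' v) = c' * σ' (Q v)) :
    semiAut g σ c hg = semiAut g' σ' c' hg' := by
  subst h1 h2 h3
  rfl

theorem semiAut_one {Q : QuadraticForm F (ι → F)}
    (hg : ∀ v, Q (sm (1 : Matrix.GeneralLinearGroup ι F) (RingEquiv.refl F) v) =
      1 * (RingEquiv.refl F) (Q v)) :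
    semiAut 1 (RingEquiv.refl F) 1 hg = 1 := by
  symm
  apply eq_semiAut_of_induced
  intro s s' hs
  rw [MulAut.one_apply]
  congr 1
  apply Subtype.ext
  apply Subtype.ext
  apply Units.ext
  rw [hs, Cfsg.Agent.Lib.Helper5.OAut.map_refl]
  simp

/-- the field automorphisms of `PΩ_{2m+1}(q)` -/
noncomputable def fOdd (m : ℕ) : RingAut F →* MulAut (POmega F ⇑(oddForm m F)) where
  toFun σ := semiAut 1 σ 1 (oddForm_field m σ)
  map_one' := semiAut_one _
  map_mul' σ τ := by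
    rw [semiAut_mul]
    apply semiAut_congr
    · rw [map_one, mul_one]
    · rfl
    · rw [map_one, mul_one]

theorem out_odd (p f : ℕ) [Fact p.Prime] (hF : Fintype.card F = p ^ f) (hf : 1 ≤ f)
    (hodd : Odd p) (m : ℕ) (hm : 3 ≤ m) :
    Nonempty (Out (POmega F ⇑(oddForm m F)) ≃* Multiplicative (ZMod 2 × ZMod f)) := by
  haveI := charP_of_card' p f hF
  have hoddF : Odd (Fintype.card F) := by rw [hF]; exact hodd.pow
  have h2 : (2 : F) ≠ 0 := Cfsg.Agent.Lib.Helper5.two_ne_zero_of_odd_card hoddF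
  have hQ := oddForm_nondegenerate h2 m
  have hfam := oddForm_hypFamily (F := F) (le_refl m)
  have hn : Fintype.card (Unit ⊕ (Fin m ⊕ Fin m)) = 2 * m + 1 := by
    simp only [Fintype.card_sum, Fintype.card_fin, Fintype.card_unit]; omega
  have H := Hyp.of_hypFamily hQ hfam hm (by omega)
  have hγ : gammaPOmega F ⇑(oddForm m F) = ⊤ := by
    rw [coe_oddForm]
    exact Cfsg.Agent.S2694.result hoddF hm
  have hfield : ∀ σ : F ≃+* F, ∃ (g : Matrix.GeneralLinearGroup (Unit ⊕ (Fin m ⊕ Fin m)) F)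
      (c : F), c ≠ 0 ∧ ∀ v, oddForm m F (sm g σ v) = c * σ (oddForm m F v) :=
    fun σ => ⟨1, 1, one_ne_zero, oddForm_field m σ⟩
  have hA := card_aut_eq p H hγ hfield
  obtain ⟨hcyc, hcard⟩ := ringAut_card_cyclic p f hF
  rw [hcard, card_aut_odd p f hF hodd m hm] at hA
  have hP : 0 < Nat.card (POmega F ⇑(oddForm m F)) := Nat.card_pos
  have hrange : Nat.card ↥(conjGO (oddForm m F)).range =
      2 * Nat.card (POmega F ⇑(oddForm m F)) := by
    have h6 : f * (2 * Nat.card (POmega F ⇑(oddForm m F))) =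
        f * Nat.card ↥(conjGO (oddForm m F)).range := by
      rw [mul_comm f (Nat.card ↥(conjGO (oddForm m F)).range), ← hA]; ring
    exact (Nat.eq_of_mul_eq_mul_left (by omega) h6).symm
  have hk : Nat.card ↥(tauBar p H hγ).ker = 2 := by
    have h7 := card_ker_tauBar p H hγ
    rw [hrange] at h7
    exact Nat.eq_of_mul_eq_mul_right hP h7
  refine exists_equiv_two_cyclic f (tauBar p H hγ)
    ((QuotientGroup.mk' (Inn (POmega F ⇑(oddForm m F)))).comp (fOdd m)) ?_ hk hcyc hcard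
  intro r
  show tauBar p H hγ (QuotientGroup.mk (fOdd m r)) = r
  rw [tauBar_mk]
  exact tauO_semiAut p H hγ 1 r 1 one_ne_zero (oddForm_field m r)

end oddout
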