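import Mathlib
import Cfsg.Prelude
import Cfsg.Agent.Lib.Helper5.OmegaSimple
import Cfsg.Agent.Lib.Helper5.MaxTS
import Cfsg.Agent.Lib.Helper9.AOR31

set_option autoImplicit false
set_option linter.unusedSectionVars false
set_option linter.unusedVariables false
open Cfsg

namespace Cfsg.Agent.Lib.Helper9.AOR

open Matrix QuadraticMap Cfsg.Agent.Lib.Helper5.CartanDieudonne Cfsg.Agent.Lib.Helper5.Refl
  Cfsg.Agent.Lib.Helper5.OrthCard Cfsg.Agent.Lib.Helper5.Siegel Cfsg.Agent.Lib.Helper5.QuadIsom
  Cfsg.Agent.Lib.Helper5.ReflGen Cfsg.Agent.Lib.Helper5.Eichler Cfsg.Agent.Lib.Helper5.SingGeom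
  Cfsg.Agent.Lib.Helper5.OmegaGen Cfsg.Agent.Lib.Helper5.OmegaSimple

variable {ι : Type} [Fintype ι] [DecidableEq ι] {F : Type*} [Field F] [Fintype F]
  (Q : QuadraticForm F (ι → F))

/-! In the quadratic extension, the `q`-th power is the conjugation. -/

section kfield
open Cfsg.Agent.Lib.Helper5.OrthCard Cfsg.Agent.Lib.Helper5.OrthPlane Polynomial

variable (a b : F)

omit [Fintype F] in
theorem fact_of_aniso (han : ∀ v : Fin 2 → F, binForm a b v = 0 → v = 0) :
    Fact (∀ r : F, r ^ 2 ≠ -b + a * r) := by
  refine ⟨fun r h => ?_⟩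
  have h1 := han ![r, -1] (by
    rw [binForm_apply]
    simp only [Matrix.cons_val_zero, Matrix.cons_val_one]
    linear_combination h)
  have h2 := congrFun h1 1
  simp at h2

theorem pow_card_eq_star (p : ℕ) [Fact p.Prime] [CharP F p]
    (han : ∀ v : Fin 2 → F, binForm a b v = 0 → v = 0) (x : KK a b) :
    x ^ Fintype.card F = star x := by
  classical
  haveI := fact_of_aniso a b han
  haveI : CharP (KK a b) p :=
    charP_of_injective_algebraMap (QuadraticAlgebra.algebraMap_injective) p
  obtain ⟨n, -, hn⟩ := FiniteField.card F p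
  obtain ⟨q, hq⟩ : ∃ q : ℕ, q = Fintype.card F := ⟨_, rfl⟩
  rw [← hq]
  have hqp : q = p ^ (n : ℕ) := by rw [hq, hn]
  have hadd : ∀ u v : KK a b, (u + v) ^ q = u ^ q + v ^ q := by
    intro u v
    rw [hqp]
    exact add_pow_char_pow u v p n
  have hsub : ∀ u v : KK a b, (u - v) ^ q = u ^ q - v ^ q := by
    intro u v
    rw [hqp]
    exact sub_pow_char_pow u v n
  have hF : ∀ c : F, (algebraMap F (KK a b) c) ^ q = algebraMap F (KK a b) c := by
    intro c
    rw [← map_pow, hq, FiniteField.pow_card]
  -- `y = x ^ q` is a root of the characteristic polynomial of `x`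
  have hroot : (x ^ q - x) * (x ^ q - star x) = 0 := by
    have h1 := QuadraticAlgebra.sq_sub_trace_smul_add_norm_eq_zero (z := x)
    have h2 : (x ^ 2 - QuadraticAlgebra.trace x • x +
        algebraMap F (KK a b) (QuadraticAlgebra.norm x)) ^ q = (0 : KK a b) ^ q := by rw [h1]
    rw [hadd, hsub, Algebra.smul_def, mul_pow, hF, hF, ← pow_mul, mul_comm 2 q, pow_mul,
      zero_pow (by rw [hqp]; exact pow_ne_zero _ (Fact.out : p.Prime).ne_zero)] at h2
    have h3 : (x ^ q - x) * (x ^ q - star x) =
        (x ^ q) ^ 2 - (x + star x) * x ^ q + x * star x := by ring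
    rw [h3, ← QuadraticAlgebra.algebraMap_trace_eq_add_star,
      ← QuadraticAlgebra.algebraMap_norm_eq_mul_star]
    exact h2
  rcases mul_eq_zero.mp hroot with h1 | h1
  · -- `x ^ q = x` forces `x` to be a scalar
    have hxq : x ^ q = x := sub_eq_zero.mp h1
    by_cases him : x.im = 0
    · rw [hxq]
      ext
      · simp [him]
      · simp [him]
    · exfalso
      haveI : Finite (KK a b) := Finite.of_equiv (F × F) (QuadraticAlgebra.equivProd (-b) a).symm
      haveI : Fintype (KK a b) := Fintype.ofFinite _
      have hq1 : 1 < q := by rw [hq]; exact Fintype.one_lt_card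
      have hP : (X ^ q - X : (KK a b)[X]) ≠ 0 := FiniteField.X_pow_card_sub_X_ne_zero _ hq1
      apply hP
      have hinj : Function.Injective (algebraMap F (KK a b)) :=
        QuadraticAlgebra.algebraMap_injective
      apply Polynomial.eq_zero_of_natDegree_lt_card_of_eval_eq_zero' _
        (insert x (Finset.univ.image (algebraMap F (KK a b))))
      · intro z hz
        rw [Finset.mem_insert] at hz
        simp only [eval_sub, eval_pow, eval_X]
        rcases hz with rfl | hz
        · rw [hxq, sub_self]
        · obtain ⟨c, -, rfl⟩ := Finset.mem_image.mp hz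
          rw [hF, sub_self]
      · rw [FiniteField.X_pow_card_sub_X_natDegree_eq _ hq1, Finset.card_insert_of_notMem,
          Finset.card_image_of_injective _ hinj, Finset.card_univ, hq]
        · omega
        · intro hmem
          obtain ⟨c, -, hc⟩ := Finset.mem_image.mp hmem
          apply him
          rw [← hc]
          rfl
  · exact sub_eq_zero.mp h1

end kfield
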