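import Mathlib
import Cfsg.Prelude
import Cfsg.Agent.Lib.Helper5.OmegaSimple
import Cfsg.Agent.Lib.Helper5.MaxTS
import Cfsg.Agent.Lib.Helper9.AOR35
import Cfsg.Agent.Lib.Helper9.AOR34

set_option autoImplicit false
set_option linter.unusedSectionVars false
set_option linter.unusedVariables false
open Cfsg

namespace Cfsg.Agent.Lib.Helper9.AOR

open Matrix QuadraticMap Cfsg.Agent.Lib.Helper5.CartanDieudonne Cfsg.Agent.Lib.Helper5.Refl
  Cfsg.Agent.Lib.Helper5.OrthCard Cfsg.Agent.Lib.Helper5.Siegel Cfsg.Agent.Lib.Helper5.QuadIsom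
  Cfsg.Agent.Lib.Helper5.ReflGen Cfsg.Agent.Lib.Helper5.Eichler Cfsg.Agent.Lib.Helper5.SingGeom
  Cfsg.Agent.Lib.Helper5.OmegaGen Cfsg.Agent.Lib.Helper5.OmegaSimple

variable {ι : Type} [Fintype ι] [DecidableEq ι] {F : Type*} [Field F] [Fintype F]
  (Q : QuadraticForm F (ι → F))

/-! The tower of Frobenius automorphisms of the minus type group. -/

section tower
open Cfsg.Agent.Lib.Helper5.OrthCard Cfsg.Agent.Lib.Helper5.OrthPlane
  Cfsg.Agent.Lib.Helper5.OAut

omit [Fintype ι] [DecidableEq ι] [Fintype F] in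
theorem GL_eq_of_sm_eq [Fintype ι] [DecidableEq ι] (g g' : Matrix.GeneralLinearGroup ι F)
    (σ : F ≃+* F) (h : ∀ v, sm g σ v = sm g' σ v) : g = g' := by
  apply Units.ext
  apply Matrix.toLin'.injective
  apply LinearMap.ext
  intro w
  have h1 := h (vm σ.symm w)
  unfold sm at h1
  rw [vm_symm'] at h1
  simpa [Matrix.toLin'_apply] using h1

variable (a b : F) (m : ℕ)

omit [Fintype F] in
theorem TK_comp (n n' : ℕ) (z : Fin 2 → F) : TK a b n (TK a b n' z) = TK a b (n' * n) z := by
  unfold TK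
  rw [toK_ofK, ← pow_mul]

omit [Fintype F] in
theorem TK_one (z : Fin 2 → F) : TK a b 1 z = z := by
  unfold TK
  rw [pow_one, ofK_toK]

omit [Fintype F] in
theorem Tminus_comp (σ σ' : F ≃+* F) (n n' : ℕ) (v : (Fin m ⊕ Fin m) ⊕ Fin 2 → F) :
    Tminus a b m σ n (Tminus a b m σ' n' v) = Tminus a b m (σ'.trans σ) (n' * n) v := by
  ext j
  rcases j with j | j
  · rfl
  · show TK a b n (fun t => Tminus a b m σ' n' v (Sum.inr t)) j = TK a b (n' * n) _ j
    have h1 : (fun t => Tminus a b m σ' n' v (Sum.inr t)) = TK a b n' (fun t => v (Sum.inr t)) := by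
      ext t
      rfl
    rw [h1, TK_comp]

variable (p : ℕ) [Fact p.Prime] [CharP F p]

/-- the Frobenius powers -/
noncomputable def phiK (k : ℕ) : F ≃+* F := iterateFrobeniusEquiv F p k

theorem phiK_apply (k : ℕ) (x : F) : phiK p k x = x ^ p ^ k := rfl

theorem phiK_add (k l : ℕ) : phiK (F := F) p (k + l) = (phiK p l).trans (phiK p k) :=
  iterateFrobeniusEquiv_add F p k l

theorem phiK_zero : phiK (F := F) p 0 = RingEquiv.refl F := iterateFrobeniusEquiv_zero F p

theorem phiK_card (f : ℕ) (hF : Fintype.card F = p ^ f) : phiK (F := F) p f = RingEquiv.refl F := by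
  ext x
  rw [phiK_apply, ← hF, FiniteField.pow_card]
  rfl

variable (han : ∀ v : Fin 2 → F, binForm a b v = 0 → v = 0)

/-- the matrix of the `k`-th Frobenius semisimilarity -/
noncomputable def gM (k : ℕ) : Matrix.GeneralLinearGroup ((Fin m ⊕ Fin m) ⊕ Fin 2) F :=
  Classical.choose (exists_minus_frob a b m p han (phiK p k) k (fun x => rfl))

theorem gM_spec (k : ℕ) (v : (Fin m ⊕ Fin m) ⊕ Fin 2 → F) :
    sm (gM a b m p han k) (phiK p k) v = Tminus a b m (phiK p k) (p ^ k) v :=
  Classical.choose_spec (exists_minus_frob a b m p han (phiK p k) k (fun x => rfl)) v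

theorem gM_quad (k : ℕ) (v : (Fin m ⊕ Fin m) ⊕ Fin 2 → F) :
    genForm (binForm a b) m (sm (gM a b m p han k) (phiK p k) v) =
      1 * (phiK p k) (genForm (binForm a b) m v) := by
  rw [gM_spec, genForm_Tminus a b m (phiK p k) (p ^ k) (fun x => rfl), one_mul]

/-- the `k`-th Frobenius automorphism of `PΩ⁻` -/
noncomputable def frobM (k : ℕ) : MulAut (POmega F ⇑(genForm (binForm a b) m)) :=
  semiAut (gM a b m p han k) (phiK p k) 1 (gM_quad a b m p han k)

theorem gM_add (k l : ℕ) :
    gM a b m p han (k + l) =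
      gM a b m p han k * Matrix.GeneralLinearGroup.map ((phiK p k : F ≃+* F) : F →+* F)
        (gM a b m p han l) := by
  apply GL_eq_of_sm_eq _ _ (phiK p (k + l))
  intro v
  rw [gM_spec]
  have h1 : sm (gM a b m p han k * Matrix.GeneralLinearGroup.map ((phiK p k : F ≃+* F) : F →+* F)
      (gM a b m p han l)) (phiK p (k + l)) v =
      sm (gM a b m p han k * Matrix.GeneralLinearGroup.map ((phiK p k : F ≃+* F) : F →+* F)
      (gM a b m p han l)) ((phiK p l).trans (phiK p k)) v := by rw [phiK_add]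
  rw [h1, sm_comp, gM_spec, gM_spec, Tminus_comp, ← phiK_add, ← pow_add, add_comm l k]

theorem frobM_add (k l : ℕ) :
    frobM a b m p han (k + l) = frobM a b m p han k * frobM a b m p han l := by
  unfold frobM
  rw [semiAut_mul]
  apply semiAut_congr
  · exact gM_add a b m p han k l
  · exact phiK_add p k l
  · rw [map_one, mul_one]

theorem frobM_zero : frobM a b m p han 0 = 1 := by
  have h1 : gM a b m p han 0 = 1 := by
    apply GL_eq_of_sm_eq _ _ (phiK p 0)
    intro v
    rw [gM_spec]
    unfold sm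
    rw [Units.val_one, Matrix.one_mulVec, phiK_zero, pow_zero]
    ext j
    rcases j with j | j
    · rfl
    · show TK a b 1 (fun t => v (Sum.inr t)) j = _
      rw [TK_one]
      rfl
  unfold frobM
  rw [← semiAut_one (Q := genForm (binForm a b) m) (by
    intro v
    unfold sm
    rw [Units.val_one, Matrix.one_mulVec, one_mul]
    rfl)]
  apply semiAut_congr
  · exact h1
  · exact phiK_zero p
  · rfl

theorem frobM_pow (k : ℕ) : frobM a b m p han 1 ^ k = frobM a b m p han k := by
  induction k with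
  | zero => rw [pow_zero, frobM_zero]
  | succ k ih => rw [pow_succ, ih, ← frobM_add]

end tower
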