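import Mathlib
import Cfsg.Prelude
import Cfsg.Agent.Lib.Helper5.OmegaSimple
import Cfsg.Agent.Lib.Helper5.MaxTS
import Cfsg.Agent.Lib.Helper9.AOR36
import Cfsg.Agent.S0294
import Cfsg.Agent.Lib.Helper5.OAut.SimMain

set_option autoImplicit false
set_option linter.unusedSectionVars false
set_option linter.unusedVariables false
open Cfsg

namespace Cfsg.Agent.Lib.Helper9.AOR

open Matrix QuadraticMap Cfsg.Agent.Lib.Helper5.CartanDieudonne Cfsg.Agent.Lib.Helper5.Refl
  Cfsg.Agent.Lib.Helper5.OrthCard Cfsg.Agent.Lib.Helper5.Siegel Cfsg.Agent.Lib.Helper5.QuadIsom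
  Cfsg.Agent.Lib.Helper5.ReflGen Cfsg.Agent.Lib.Helper5.Eichler Cfsg.Agent.Lib.Helper5.SingGeom
  Cfsg.Agent.Lib.Helper5.OmegaGen Cfsg.Agent.Lib.Helper5.OmegaSimple

variable {ι : Type} [Fintype ι] [DecidableEq ι] {F : Type*} [Field F] [Fintype F]
  (Q : QuadraticForm F (ι → F))

/-! The `f`-th Frobenius automorphism of the minus type group is induced by a reflection. -/

section frobcard
open Cfsg.Agent.Lib.Helper5.OrthCard Cfsg.Agent.Lib.Helper5.OrthPlane
  Cfsg.Agent.Lib.Helper5.OAut Cfsg.Agent.Lib.Helper5.SpinorHyp Cfsg.Agent.Lib.Helper5.SpinorHyp2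
  Cfsg.Agent.Lib.Helper5.POmegaCard Cfsg.Agent.S0294

variable (a b : F) (m : ℕ)

theorem disc_ne (han : ∀ v : Fin 2 → F, binForm a b v = 0 → v = 0) : 4 * b - a * a ≠ 0 := by
  by_cases h2 : (2 : F) = 0
  · have ha := a_ne_zero a b han h2
    have h4 : (4 : F) = 0 := by linear_combination 2 * h2
    rw [h4, zero_mul, zero_sub]
    exact neg_ne_zero.mpr (mul_ne_zero ha ha)
  · exact disc_ne_zero a b han h2

theorem quad_yvec_ne (han : ∀ v : Fin 2 → F, binForm a b v = 0 → v = 0) :
    genForm (binForm a b) m (yvec a m) ≠ 0 := by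
  rw [quad_yvec]
  exact disc_ne a b han

/-- the conjugation reflection -/
noncomputable def conjR (han : ∀ v : Fin 2 → F, binForm a b v = 0 → v = 0) :
    ↥(isometryGroup F ⇑(genForm (binForm a b) m)) :=
  reflection (genForm (binForm a b) m) (yvec a m) (quad_yvec_ne a b m han)

variable (p : ℕ) [Fact p.Prime] [CharP F p]
  (han : ∀ v : Fin 2 → F, binForm a b v = 0 → v = 0)

theorem gM_card (f : ℕ) (hF : Fintype.card F = p ^ f) :
    gM a b m p han f = ((conjR a b m han : ↥(isometryGroup F ⇑(genForm (binForm a b) m))) :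
      Matrix.GeneralLinearGroup ((Fin m ⊕ Fin m) ⊕ Fin 2) F) := by
  apply GL_eq_of_sm_eq _ _ (phiK p f)
  intro v
  rw [gM_spec]
  have h1 : sm ((conjR a b m han : ↥(isometryGroup F ⇑(genForm (binForm a b) m))) :
      Matrix.GeneralLinearGroup ((Fin m ⊕ Fin m) ⊕ Fin 2) F) (phiK p f) v =
      v - v (Sum.inr 1) • yvec a m := by
    unfold sm
    rw [phiK_card p f hF]
    have hv : vm (RingEquiv.refl F) v = v := rfl
    rw [hv]
    show reflectionMatrix ⇑(genForm (binForm a b) m) (yvec a m) *ᵥ v = _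
    rw [reflectionMatrix_mulVec, polar_yvec, quad_yvec, ← mul_assoc,
      inv_mul_cancel₀ (disc_ne a b han), one_mul]
  rw [h1, ← hF]
  ext j
  rcases j with (j | j) | j
  · show (phiK p f) (v (Sum.inl (Sum.inl j))) = _
    rw [phiK_card p f hF]
    simp [yvec]
  · show (phiK p f) (v (Sum.inl (Sum.inr j))) = _
    rw [phiK_card p f hF]
    simp [yvec]
  · show TK a b (Fintype.card F) (fun t => v (Sum.inr t)) j = _
    unfold TK
    rw [pow_card_eq_star a b p han]
    fin_cases j
    · simp [ofK, toK, yvec]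
      ring
    · simp [ofK, toK, yvec]
      ring

theorem conjR_sim :
    ((conjR a b m han : ↥(isometryGroup F ⇑(genForm (binForm a b) m))) :
      Matrix.GeneralLinearGroup ((Fin m ⊕ Fin m) ⊕ Fin 2) F) ∈
      Geo.quadSimilarityGroup (F := F) ⇑(genForm (binForm a b) m) :=
  isometryGroup_le_sim _ (conjR a b m han).2

theorem frobM_card (f : ℕ) (hF : Fintype.card F = p ^ f) :
    frobM a b m p han f = conjO (genForm (binForm a b) m) (conjR a b m han) := by
  have hR : ∀ v, genForm (binForm a b) m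
      (sm ((conjR a b m han : ↥(isometryGroup F ⇑(genForm (binForm a b) m))) :
      Matrix.GeneralLinearGroup ((Fin m ⊕ Fin m) ⊕ Fin 2) F) (RingEquiv.refl F) v) =
      1 * (RingEquiv.refl F) (genForm (binForm a b) m v) := by
    intro v
    rw [one_mul]
    exact (mem_isometryGroup_iff _ _).mp (conjR a b m han).2 v
  have h1 : frobM a b m p han f = semiAut _ (RingEquiv.refl F) 1 hR := by
    unfold frobM
    exact semiAut_congr (gM_card a b m p han f hF) (phiK_card p f hF) rfl _ _
  have h2 := eq_semiAut_of_induced _ _ _ hR _ (conjGO_induced ⟨_, conjR_sim a b m han⟩)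
  rw [h1, ← h2, ← conjGO_comp_inclO]
  rfl

end frobcard
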