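import Mathlib
import Cfsg.Prelude
import Cfsg.Agent.Lib.Helper5.OmegaSimple
import Cfsg.Agent.Lib.Helper5.MaxTS
import Cfsg.Agent.Lib.Helper9.AOR37
import Cfsg.Agent.Lib.Helper9.AOR32
import Cfsg.Agent.S0789
import Cfsg.Agent.Lib.Helper5.OAut.PgoInn

set_option autoImplicit false
set_option linter.unusedSectionVars false
set_option linter.unusedVariables false
open Cfsg

namespace Cfsg.Agent.Lib.Helper9.AOR

open Matrix QuadraticMap Cfsg.Agent.Lib.Helper5.CartanDieudonne Cfsg.Agent.Lib.Helper5.Refl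
  Cfsg.Agent.Lib.Helper5.OrthCard Cfsg.Agent.Lib.Helper5.Siegel Cfsg.Agent.Lib.Helper5.QuadIsom
  Cfsg.Agent.Lib.Helper5.ReflGen Cfsg.Agent.Lib.Helper5.Eichler Cfsg.Agent.Lib.Helper5.SingGeom
  Cfsg.Agent.Lib.Helper5.OmegaGen Cfsg.Agent.Lib.Helper5.OmegaSimple

variable {ι : Type} [Fintype ι] [DecidableEq ι] {F : Type*} [Field F] [Fintype F]
  (Q : QuadraticForm F (ι → F))

/-! The outer automorphism group of `PΩ⁻_{2m}(2^f)` is cyclic of order `2f`. -/

section minustwo
open Cfsg.Agent.Lib.Helper5.OrthCard Cfsg.Agent.Lib.Helper5.OrthPlane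
  Cfsg.Agent.Lib.Helper5.OAut Cfsg.Agent.Lib.Helper5.SpinorHyp Cfsg.Agent.Lib.Helper5.SpinorHyp2
  Cfsg.Agent.Lib.Helper5.POmegaCard Cfsg.Agent.S0294 Cfsg.Agent.Lib.Helper5.SpinorDiag

variable (a b : F) (m : ℕ)

theorem card_range_conjGO_minus (p f : ℕ) [Fact p.Prime] (hF : Fintype.card F = p ^ f)
    (hf : 1 ≤ f) (hm : 3 ≤ m) (han : ∀ v : Fin 2 → F, binForm a b v = 0 → v = 0) :
    Nat.card ↥(conjGO (genForm (binForm a b) m)).range =
      Nat.card ↥(isometryGroup F ⇑(genForm (binForm a b) m)) := by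
  haveI := charP_of_card' p f hF
  have hQ := genForm_nondegenerate _ (binForm_nondegenerate a b han) m
  have hfam := genForm_hypFamily (binForm a b) (le_refl m)
  have hn : Fintype.card ((Fin m ⊕ Fin m) ⊕ Fin 2) = 2 * m + 2 := by
    simp only [Fintype.card_sum, Fintype.card_fin]; omega
  have H := Hyp.of_hypFamily hQ hfam hm (by omega)
  have hγ : gammaPOmega F ⇑(genForm (binForm a b) m) = ⊤ := by
    refine gamma_eq_top p H (by omega) ?_
    intro Y hY hle
    exact (no_lagrangian_genForm _ han m hQ Y hY hle).elim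
  have hA := card_aut_eq p H hγ (minus_field a b m p han)
  rw [(ringAut_card_cyclic p f hF).2, card_aut_minus a b m p f hF hm han, mul_comm] at hA
  exact (Nat.eq_of_mul_eq_mul_right (by omega) hA).symm

theorem out_minus_two (f : ℕ) (hF : Fintype.card F = 2 ^ f) (hf : 1 ≤ f) (hm : 3 ≤ m)
    (han : ∀ v : Fin 2 → F, binForm a b v = 0 → v = 0) :
    IsCyclic (Out (POmega F ⇑(genForm (binForm a b) m))) ∧
      Nat.card (Out (POmega F ⇑(genForm (binForm a b) m))) = 2 * f := by
  haveI : Fact (Nat.Prime 2) := ⟨Nat.prime_two⟩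
  haveI := charP_of_card' 2 f hF
  have h2 : (2 : F) = 0 := by
    have := CharP.cast_eq_zero F 2
    exact_mod_cast this
  have hQ := genForm_nondegenerate _ (binForm_nondegenerate a b han) m
  have hfam := genForm_hypFamily (binForm a b) (le_refl m)
  have hn : Fintype.card ((Fin m ⊕ Fin m) ⊕ Fin 2) = 2 * m + 2 := by
    simp only [Fintype.card_sum, Fintype.card_fin]; omega
  haveI : Nonempty ((Fin m ⊕ Fin m) ⊕ Fin 2) := ⟨Sum.inr 0⟩
  have H := Hyp.of_hypFamily hQ hfam hm (by omega)
  have hγ : gammaPOmega F ⇑(genForm (binForm a b) m) = ⊤ := by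
    refine gamma_eq_top 2 H (by omega) ?_
    intro Y hY hle
    exact (no_lagrangian_genForm _ han m hQ Y hY hle).elim
  have hO := card_of_char_two h2 hQ hfam hm (by rw [hn]; omega)
  have hP : 0 < Nat.card (POmega F ⇑(genForm (binForm a b) m)) := Nat.card_pos
  -- the order
  have hcardOut : Nat.card (Out (POmega F ⇑(genForm (binForm a b) m))) = 2 * f := by
    have h1 := Subgroup.card_eq_card_quotient_mul_card_subgroup
      (Inn (POmega F ⇑(genForm (binForm a b) m)))
    rw [card_aut_minus a b m 2 f hF hm han, card_inn_POmega H, ← hO] at h1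
    have h3 : (2 * f) * Nat.card (POmega F ⇑(genForm (binForm a b) m)) =
        Nat.card (Out (POmega F ⇑(genForm (binForm a b) m))) *
          Nat.card (POmega F ⇑(genForm (binForm a b) m)) := by
      rw [← h1]; ring
    exact (Nat.eq_of_mul_eq_mul_right hP h3).symm
  refine ⟨?_, hcardOut⟩
  -- the kernel of the field automorphism map has order two
  have hk : Nat.card ↥(tauBar 2 H hγ).ker = 2 := by
    have h7 := card_ker_tauBar 2 H hγ
    rw [card_range_conjGO_minus a b m 2 f hF hf hm han, ← hO] at h7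
    exact Nat.eq_of_mul_eq_mul_right hP h7
  -- the generator
  obtain ⟨x, hx⟩ : ∃ x : Out (POmega F ⇑(genForm (binForm a b) m)),
      x = QuotientGroup.mk (frobM a b m 2 han 1) := ⟨_, rfl⟩
  have hxpow : ∀ k : ℕ, x ^ k = QuotientGroup.mk (frobM a b m 2 han k) := by
    intro k
    rw [hx, ← QuotientGroup.mk_pow, frobM_pow]
  have htx : ∀ k : ℕ, tauBar 2 H hγ (x ^ k) = phiK 2 k := by
    intro k
    rw [hxpow, tauBar_mk]
    exact tauO_semiAut 2 H hγ _ _ 1 one_ne_zero _
  have hxf_mem : x ^ f ∈ (tauBar 2 H hγ).ker := by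
    rw [MonoidHom.mem_ker, htx, phiK_card 2 f hF]
    rfl
  have hxf_ne : x ^ f ≠ 1 := by
    intro h1
    rw [hxpow, frobM_card a b m 2 han f hF, QuotientGroup.eq_one_iff] at h1
    have hneg : negOne (genForm (binForm a b) m) ∈ Omega F ⇑(genForm (binForm a b) m) := by
      have : negOne (genForm (binForm a b) m) = 1 := by
        apply Subtype.ext
        apply Units.ext
        rw [negOne_coe]
        have h4 : (-1 : F) = 1 := by linear_combination -h2
        ext i j
        simp only [Matrix.neg_apply, Matrix.one_apply]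
        show -(if i = j then (1 : F) else 0) = if i = j then 1 else 0
        split_ifs
        · exact h4
        · simp
      rw [this]
      exact Subgroup.one_mem _
    have h3 := mem_Omega_of_conjO_mem_inn hQ hfam hm (by omega) hneg _ h1
    have hex : Fintype.card ((Fin m ⊕ Fin m) ⊕ Fin 2) = 4 → ∃ c : F, c ≠ 0 ∧ c ≠ 1 := by
      intro h; omega
    have hchar : ringChar F = 2 := ringChar.eq F 2
    have h5 : conjR a b m han ∈ (Cfsg.Agent.Lib.Helper5.Dickson.par
        (genForm (binForm a b) m) hQ hex).ker := by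
      rw [Cfsg.Agent.S0789.ker_par _ hchar hQ hex]
      exact h3
    rw [MonoidHom.mem_ker] at h5
    have h6 := Cfsg.Agent.Lib.Helper5.Dickson.par_reflection (genForm (binForm a b) m) hQ hex
      (yvec a m) (quad_yvec_ne a b m han)
    unfold conjR at h5
    rw [h6] at h5
    exact absurd h5 (by decide)
  -- every element is a power of `x`
  refine ⟨⟨x, fun y => ?_⟩⟩
  obtain ⟨k, hk'⟩ := exists_frob_pow 2 ((tauBar 2 H hγ y : RingAut F) : F ≃+* F)
  have hty : tauBar 2 H hγ y = phiK 2 k := by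
    ext z
    rw [phiK_apply]
    exact hk' z
  have hmem : y * (x ^ k)⁻¹ ∈ (tauBar 2 H hγ).ker := by
    rw [MonoidHom.mem_ker, map_mul, map_inv, htx, hty, mul_inv_cancel]
  obtain ⟨w, -, hw⟩ := (Nat.card_eq_two_iff' (1 : ↥(tauBar 2 H hγ).ker)).mp hk
  by_cases h1 : y * (x ^ k)⁻¹ = 1
  · refine ⟨(k : ℤ), ?_⟩
    show x ^ (k : ℤ) = y
    rw [zpow_natCast]
    exact (mul_inv_eq_one.mp h1).symm
  · have e1 := hw ⟨_, hmem⟩ (by
      intro h
      apply h1
      exact congrArg Subtype.val h)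
    have e2 := hw ⟨_, hxf_mem⟩ (by
      intro h
      apply hxf_ne
      exact congrArg Subtype.val h)
    have e3 : y * (x ^ k)⁻¹ = x ^ f := congrArg Subtype.val (e1.trans e2.symm)
    refine ⟨((f + k : ℕ) : ℤ), ?_⟩
    show x ^ ((f + k : ℕ) : ℤ) = y
    rw [zpow_natCast, pow_add, ← e3]
    group

end minustwo
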