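import Mathlib
import Cfsg.Prelude
import Cfsg.Agent.Lib.Helper5.OmegaSimple
import Cfsg.Agent.Lib.Helper5.MaxTS
import Cfsg.Agent.Lib.Helper9.AOR38

set_option autoImplicit false
set_option linter.unusedSectionVars false
set_option linter.unusedVariables false
open Cfsg

namespace Cfsg.Agent.Lib.Helper9.AOR

open Matrix QuadraticMap Cfsg.Agent.Lib.Helper5.CartanDieudonne Cfsg.Agent.Lib.Helper5.Refl
  Cfsg.Agent.Lib.Helper5.OrthCard Cfsg.Agent.Lib.Helper5.Siegel Cfsg.Agent.Lib.Helper5.QuadIsom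
  Cfsg.Agent.Lib.Helper5.ReflGen Cfsg.Agent.Lib.Helper5.Eichler Cfsg.Agent.Lib.Helper5.SingGeom
  Cfsg.Agent.Lib.Helper5.OmegaGen Cfsg.Agent.Lib.Helper5.OmegaSimple

variable {ι : Type} [Fintype ι] [DecidableEq ι] {F : Type*} [Field F] [Fintype F]
  (Q : QuadraticForm F (ι → F))

/-! Conjugating similarities by semisimilarities; invariance of the Klein four character. -/

section chiconj
open scoped LinearAlgebra.Projectivization Pointwise
open Cfsg.Agent.Lib.Helper5.MaxTS Module Cfsg.Agent.Lib.Helper5.OAut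
  Cfsg.Agent.Lib.Helper5.SpinorNorm
attribute [local instance 2000] omSMul omAction omSMulComm singSMul singAction

variable {Q}

omit [Fintype F] in
theorem map_refl_GL (g : Matrix.GeneralLinearGroup ι F) :
    Matrix.GeneralLinearGroup.map ((RingEquiv.refl F : F ≃+* F) : F →+* F) g = g := by
  apply Units.ext
  ext i j
  rfl

section
variable (g₁ : Matrix.GeneralLinearGroup ι F) (σ : F ≃+* F) (c₁ : F)
  (hg₁ : ∀ v, Q (sm g₁ σ v) = c₁ * σ (Q v))
  (g : Matrix.GeneralLinearGroup ι F) (c : F) (hg : ∀ v, Q ((g : Matrix ι ι F) *ᵥ v) = c * Q v)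

omit [Fintype F] in
theorem conj_sm (u : ι → F) :
    ((g₁ * Matrix.GeneralLinearGroup.map (σ : F →+* F) g * g₁⁻¹ :
      Matrix.GeneralLinearGroup ι F) : Matrix ι ι F) *ᵥ sm g₁ σ u =
      sm g₁ σ ((g : Matrix ι ι F) *ᵥ u) := by
  unfold sm
  rw [vm_mulVec, Matrix.mulVec_mulVec, Matrix.mulVec_mulVec]
  congr 1
  rw [Matrix.GeneralLinearGroup.coe_mul, Matrix.GeneralLinearGroup.coe_mul, mul_assoc, mul_assoc]
  have : ((g₁⁻¹ : Matrix.GeneralLinearGroup ι F) : Matrix ι ι F) * (g₁ : Matrix ι ι F) = 1 := by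
    rw [← Matrix.GeneralLinearGroup.coe_mul, inv_mul_cancel]
    rfl
  rw [this, mul_one]
  rfl

include hg₁ hg in
omit [Fintype F] in
theorem conj_sim (hc₁ : c₁ ≠ 0) (v : ι → F) :
    Q (((g₁ * Matrix.GeneralLinearGroup.map (σ : F →+* F) g * g₁⁻¹ :
      Matrix.GeneralLinearGroup ι F) : Matrix ι ι F) *ᵥ v) = σ c * Q v := by
  obtain ⟨u, rfl⟩ := sm_surj g₁ σ v
  rw [conj_sm, hg₁, hg, hg₁, map_mul]
  ring

theorem conj_semiAut (hc₁ : c₁ ≠ 0)
    (hg' : ∀ v, Q (sm g (RingEquiv.refl F) v) = c * (RingEquiv.refl F) (Q v))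
    (hg'' : ∀ v, Q (sm (g₁ * Matrix.GeneralLinearGroup.map (σ : F →+* F) g * g₁⁻¹)
      (RingEquiv.refl F) v) = σ c * (RingEquiv.refl F) (Q v)) :
    semiAut g₁ σ c₁ hg₁ * semiAut g (RingEquiv.refl F) c hg' =
      semiAut (g₁ * Matrix.GeneralLinearGroup.map (σ : F →+* F) g * g₁⁻¹) (RingEquiv.refl F)
        (σ c) hg'' * semiAut g₁ σ c₁ hg₁ := by
  rw [semiAut_mul, semiAut_mul]
  apply semiAut_congr
  · rw [map_refl_GL]
    group
  · ext x
    rfl
  · show c₁ * σ c = σ c * c₁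
    ring

end

omit [Fintype F] in
theorem isSquare_map_iff (σ : F ≃+* F) (x : F) : IsSquare (σ x) ↔ IsSquare x := by
  constructor
  · rintro ⟨y, hy⟩
    refine ⟨σ.symm y, ?_⟩
    rw [← map_mul, ← hy, RingEquiv.symm_apply_apply]
  · rintro ⟨y, hy⟩
    exact ⟨σ y, by rw [hy, map_mul]⟩

omit [Fintype F] in
theorem sgn_map (σ : F ≃+* F) (x : F) : sgn (σ x) = sgn x := by
  by_cases h : IsSquare x
  · rw [sgn_of_isSquare h, sgn_of_isSquare ((isSquare_map_iff σ x).mpr h)]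
  · rw [sgn_of_not_isSquare h, sgn_of_not_isSquare (fun h' => h ((isSquare_map_iff σ x).mp h'))]

omit [Fintype F] in
theorem signOf_map (σ : F ≃+* F) (x : F) : signOf (σ x) = signOf x := by
  have h : σ x = 1 ↔ x = 1 := by
    constructor
    · intro h
      apply σ.injective
      rw [h, map_one]
    · intro h
      rw [h, map_one]
  by_cases hx : x = 1
  · rw [(signOf_eq_one_iff x).mpr hx, (signOf_eq_one_iff (σ x)).mpr (h.mpr hx)]
  · have h1 : signOf x ≠ 1 := fun h' => hx ((signOf_eq_one_iff x).mp h')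
    have h2 : signOf (σ x) ≠ 1 := fun h' => hx (h.mp ((signOf_eq_one_iff (σ x)).mp h'))
    rcases Int.units_eq_one_or (signOf x) with h3 | h3
    · exact absurd h3 h1
    · rcases Int.units_eq_one_or (signOf (σ x)) with h4 | h4
      · exact absurd h4 h2
      · rw [h3, h4]

end chiconj
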