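import Mathlib
import Cfsg.Prelude
import Cfsg.Agent.Lib.Helper5.OmegaSimple
import Cfsg.Agent.Lib.Helper5.MaxTS
import Cfsg.Agent.Lib.Helper9.AOR40
import Cfsg.Agent.Lib.Helper5.OAut.PgoInn

set_option autoImplicit false
set_option linter.unusedSectionVars false
set_option linter.unusedVariables false
open Cfsg

namespace Cfsg.Agent.Lib.Helper9.AOR

open Matrix QuadraticMap Cfsg.Agent.Lib.Helper5.CartanDieudonne Cfsg.Agent.Lib.Helper5.Refl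
  Cfsg.Agent.Lib.Helper5.OrthCard Cfsg.Agent.Lib.Helper5.Siegel Cfsg.Agent.Lib.Helper5.QuadIsom
  Cfsg.Agent.Lib.Helper5.ReflGen Cfsg.Agent.Lib.Helper5.Eichler Cfsg.Agent.Lib.Helper5.SingGeom
  Cfsg.Agent.Lib.Helper5.OmegaGen Cfsg.Agent.Lib.Helper5.OmegaSimple

variable {ι : Type} [Fintype ι] [DecidableEq ι] {F : Type*} [Field F] [Fintype F]
  (Q : QuadraticForm F (ι → F))

/-! The Klein four character is invariant under conjugation by semisimilarities. -/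

section chiconj2
open scoped LinearAlgebra.Projectivization Pointwise
open Cfsg.Agent.Lib.Helper5.MaxTS Module Cfsg.Agent.Lib.Helper5.OAut
  Cfsg.Agent.Lib.Helper5.SpinorNorm Cfsg.Agent.Lib.Helper5.SpinorHyp
  Cfsg.Agent.Lib.Helper5.SpinorDiag
attribute [local instance 2000] omSMul omAction omSMulComm singSMul singAction

variable {Q} {i : ℕ} {α β : Fin i → ι}

/-- the conjugate of a similarity by a semisimilarity -/
noncomputable def conjSim (g₁ : Matrix.GeneralLinearGroup ι F) (σ : F ≃+* F) (c₁ : F) (hc₁ : c₁ ≠ 0)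
    (hg₁ : ∀ v, Q (sm g₁ σ v) = c₁ * σ (Q v)) {w₀ : ι → F} (hw₀ : Q w₀ = 1)
    (g : ↥(Geo.quadSimilarityGroup (F := F) ⇑Q)) : ↥(Geo.quadSimilarityGroup (F := F) ⇑Q) :=
  ⟨g₁ * Matrix.GeneralLinearGroup.map (σ : F →+* F) (g : GL ι F) * g₁⁻¹,
    ⟨Units.mk0 (σ (mult Q w₀ (g : GL ι F))) ((map_ne_zero σ).mpr (mult_ne_zero hw₀ g.2)),
      fun v => conj_sim g₁ σ c₁ hg₁ (g : GL ι F) _ (mult_spec hw₀ g.2) hc₁ v⟩⟩

section
variable (g₁ : Matrix.GeneralLinearGroup ι F) (σ : F ≃+* F) (c₁ : F) (hc₁ : c₁ ≠ 0)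
  (hg₁ : ∀ v, Q (sm g₁ σ v) = c₁ * σ (Q v)) {w₀ : ι → F} (hw₀ : Q w₀ = 1)
  (g : ↥(Geo.quadSimilarityGroup (F := F) ⇑Q))

theorem conjSim_coe :
    ((conjSim g₁ σ c₁ hc₁ hg₁ hw₀ g : ↥(Geo.quadSimilarityGroup (F := F) ⇑Q)) : GL ι F) =
      g₁ * Matrix.GeneralLinearGroup.map (σ : F →+* F) (g : GL ι F) * g₁⁻¹ := rfl

theorem mult_conjSim :
    mult Q w₀ ((conjSim g₁ σ c₁ hc₁ hg₁ hw₀ g : ↥(Geo.quadSimilarityGroup (F := F) ⇑Q)) : GL ι F) =
      σ (mult Q w₀ (g : GL ι F)) := by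
  have h1 := conj_sim g₁ σ c₁ hg₁ (g : GL ι F) _ (mult_spec hw₀ g.2) hc₁ w₀
  rw [hw₀, mul_one] at h1
  exact h1

theorem det_conjSim :
    (((conjSim g₁ σ c₁ hc₁ hg₁ hw₀ g : ↥(Geo.quadSimilarityGroup (F := F) ⇑Q)) : GL ι F) :
      Matrix ι ι F).det = σ (((g : GL ι F) : Matrix ι ι F).det) := by
  rw [← Matrix.GeneralLinearGroup.val_det_apply, conjSim_coe, map_mul, map_mul, map_inv,
    mul_comm, ← mul_assoc, inv_mul_cancel, one_mul, Matrix.GeneralLinearGroup.map_det]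
  rfl

theorem chi_conjSim (h2 : (2 : F) ≠ 0) (hQ : (polarBilin Q).Nondegenerate) (m : ℕ)
    (hcard : Fintype.card ι = 2 * m) :
    chi h2 hQ w₀ hw₀ m hcard (conjSim g₁ σ c₁ hc₁ hg₁ hw₀ g) = chi h2 hQ w₀ hw₀ m hcard g := by
  rw [chi_apply, chi_apply, mult_conjSim]
  unfold detRatio
  rw [mult_conjSim, det_conjSim, ← map_inv₀, ← map_pow, ← map_mul, sgn_map, signOf_map]

theorem conjSim_semiAut :
    semiAut g₁ σ c₁ hg₁ * conjGO Q g =
      conjGO Q (conjSim g₁ σ c₁ hc₁ hg₁ hw₀ g) * semiAut g₁ σ c₁ hg₁ := by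
  have hg' : ∀ v, Q (sm (g : GL ι F) (RingEquiv.refl F) v) =
      mult Q w₀ (g : GL ι F) * (RingEquiv.refl F) (Q v) := fun v => mult_spec hw₀ g.2 v
  have hg'' : ∀ v, Q (sm (g₁ * Matrix.GeneralLinearGroup.map (σ : F →+* F) (g : GL ι F) * g₁⁻¹)
      (RingEquiv.refl F) v) = σ (mult Q w₀ (g : GL ι F)) * (RingEquiv.refl F) (Q v) :=
    fun v => conj_sim g₁ σ c₁ hg₁ (g : GL ι F) _ (mult_spec hw₀ g.2) hc₁ v
  have e1 : conjGO Q g = semiAut (g : GL ι F) (RingEquiv.refl F) _ hg' :=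
    eq_semiAut_of_induced _ _ _ hg' _ (conjGO_induced g)
  have e2 : conjGO Q (conjSim g₁ σ c₁ hc₁ hg₁ hw₀ g) = semiAut _ (RingEquiv.refl F) _ hg'' :=
    eq_semiAut_of_induced _ _ _ hg'' _ (conjGO_induced (conjSim g₁ σ c₁ hc₁ hg₁ hw₀ g))
  rw [e1, e2]
  exact conj_semiAut g₁ σ c₁ hg₁ (g : GL ι F) _ hc₁ hg' hg''

end

/-- if the special orthogonal group induces only inner automorphisms, similarities with the same
character induce the same outer automorphism -/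
theorem mk_conjGO_eq_of_chi (h2 : (2 : F) ≠ 0) (hQ : (polarBilin Q).Nondegenerate)
    (hfam : IsHypFamily Q α β) (hi : 3 ≤ i) (h5 : 5 ≤ Fintype.card ι) {w₀ : ι → F}
    (hw₀ : Q w₀ = 1) (m : ℕ) (hcard : Fintype.card ι = 2 * m)
    (hneg : negOne Q ∉ Omega F ⇑Q) (g g' : ↥(Geo.quadSimilarityGroup (F := F) ⇑Q))
    (h : chi h2 hQ w₀ hw₀ m hcard g = chi h2 hQ w₀ hw₀ m hcard g') :
    (QuotientGroup.mk (conjGO Q g) : Out (POmega F ⇑Q)) = QuotientGroup.mk (conjGO Q g') := by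
  rw [QuotientGroup.eq, ← map_inv, ← map_mul]
  have hk : g⁻¹ * g' ∈ (chi h2 hQ w₀ hw₀ m hcard).ker := by
    rw [MonoidHom.mem_ker, map_mul, map_inv, h, inv_mul_cancel]
  rw [ker_chi h2 hQ hfam hi h5 w₀ hw₀ m hcard] at hk
  have heven : Even (Fintype.card ι) := ⟨m, by rw [hcard]; ring⟩
  rw [← psoAut_eq_inn h2 hQ hfam hi h5 heven hneg, psoAut_eq']
  have h3 := Subgroup.mem_map_of_mem (conjGO Q) hk
  rw [Subgroup.map_sup, (Subgroup.map_eq_bot_iff _).mpr (le_refl _), sup_bot_eq] at h3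
  exact h3

end chiconj2
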