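import Mathlib
import Cfsg.Prelude
import Cfsg.Agent.Lib.Helper9.APSL22

/-! Semilinear descent (Hilbert 90 for `GL`, cyclic case) over an arbitrary finite index type. -/

set_option autoImplicit false
open Cfsg

namespace Cfsg.Agent.Lib.Helper9.ASP

open Matrix
open Cfsg.Agent.Lib.Helper9.APSL (dedekind_pow)

variable {F : Type*} [Field F] {ι : Type*} [Fintype ι] [DecidableEq ι]

/-- a field automorphism applied to the entries, on `GL` over any index type -/
noncomputable def sGI (σ : RingAut F) : GL ι F →* GL ι F :=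
  Matrix.GeneralLinearGroup.map (σ : F ≃+* F).toRingHom

theorem sGI_coe (σ : RingAut F) (g : GL ι F) :
    ((sGI σ g : GL ι F) : Matrix ι ι F) = (g : Matrix ι ι F).map σ := by
  ext i j
  rfl

/-- the twisted norm `g σ(g) ⋯ σ^{k-1}(g)` -/
noncomputable def NkI (σ : RingAut F) (g : GL ι F) : ℕ → GL ι F
  | 0 => 1
  | k + 1 => g * sGI σ (NkI σ g k)

theorem NkI_zero (σ : RingAut F) (g : GL ι F) : NkI σ g 0 = 1 := rfl

theorem NkI_succ (σ : RingAut F) (g : GL ι F) (k : ℕ) :
    NkI σ g (k + 1) = g * sGI σ (NkI σ g k) := rfl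

/-- a field automorphism applied to the coordinates -/
def svI (σ : RingAut F) (v : ι → F) : ι → F := fun i => σ (v i)

theorem svI_one (v : ι → F) : svI (1 : RingAut F) v = v := rfl

theorem svI_mul (σ τ : RingAut F) (v : ι → F) : svI (σ * τ) v = svI σ (svI τ v) := rfl

theorem svI_add (σ : RingAut F) (v w : ι → F) : svI σ (v + w) = svI σ v + svI σ w := by
  ext i
  simp [svI]

theorem svI_zero (σ : RingAut F) : svI σ (0 : ι → F) = 0 := by
  ext i
  simp [svI]

theorem svI_smul (σ : RingAut F) (c : F) (v : ι → F) : svI σ (c • v) = σ c • svI σ v := by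
  ext i
  simp [svI]

theorem svI_mulVec (σ : RingAut F) (M : Matrix ι ι F) (v : ι → F) :
    svI σ (M *ᵥ v) = (M.map σ) *ᵥ svI σ v := by
  ext i
  simp [svI, mulVec, dotProduct, map_sum]

/-- the semilinear map `v ↦ g σ(v)` -/
def TslI (σ : RingAut F) (g : GL ι F) (v : ι → F) : ι → F := (g : Matrix ι ι F) *ᵥ svI σ v

theorem TslI_add (σ : RingAut F) (g : GL ι F) (v w : ι → F) :
    TslI σ g (v + w) = TslI σ g v + TslI σ g w := by
  unfold TslI
  rw [svI_add, mulVec_add]

theorem TslI_zero (σ : RingAut F) (g : GL ι F) : TslI σ g 0 = 0 := by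
  unfold TslI
  rw [svI_zero, mulVec_zero]

theorem TslI_smul (σ : RingAut F) (g : GL ι F) (c : F) (v : ι → F) :
    TslI σ g (c • v) = σ c • TslI σ g v := by
  unfold TslI
  rw [svI_smul, mulVec_smul]

theorem TslI_sum (σ : RingAut F) (g : GL ι F) {κ : Type*} (s : Finset κ) (f : κ → ι → F) :
    TslI σ g (∑ i ∈ s, f i) = ∑ i ∈ s, TslI σ g (f i) := by
  classical
  induction s using Finset.induction_on with
  | empty => simp [TslI_zero]
  | insert a s ha ih => rw [Finset.sum_insert ha, Finset.sum_insert ha, TslI_add, ih]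

theorem TslI_iterate (σ : RingAut F) (g : GL ι F) (k : ℕ) (v : ι → F) :
    (TslI σ g)^[k] v = ((NkI σ g k : GL ι F) : Matrix ι ι F) *ᵥ svI (σ ^ k) v := by
  induction k with
  | zero => rw [Function.iterate_zero, id, NkI_zero, pow_zero, svI_one, Units.val_one, one_mulVec]
  | succ k ih =>
    rw [Function.iterate_succ_apply', ih, NkI_succ, pow_succ', svI_mul, Units.val_mul, sGI_coe]
    unfold TslI
    rw [svI_mulVec, mulVec_mulVec]

theorem TslI_iterate_smul (σ : RingAut F) (g : GL ι F) (k : ℕ) (c : F) (v : ι → F) :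
    (TslI σ g)^[k] (c • v) = (σ ^ k) c • (TslI σ g)^[k] v := by
  rw [TslI_iterate, TslI_iterate, svI_smul, mulVec_smul]

/-- **Hilbert 90 for `GL`**, cyclic case, by semilinear descent. -/
theorem exists_descentI (σ : RingAut F) (r : ℕ) (hr : 0 < r)
    (hinj : ∀ i j, i < r → j < r → σ ^ i = σ ^ j → i = j) (hσ : σ ^ r = 1) (g : GL ι F)
    (hN : NkI σ g r = 1) : ∃ h : GL ι F, g * sGI σ h = h := by
  have hTr : ∀ v, (TslI σ g)^[r] v = v := by
    intro v
    rw [TslI_iterate, hN, hσ, svI_one, Units.val_one, one_mulVec]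
  have hP : ∀ v, TslI σ g (∑ i ∈ Finset.range r, (TslI σ g)^[i] v)
      = ∑ i ∈ Finset.range r, (TslI σ g)^[i] v := by
    intro v
    rw [TslI_sum]
    have h1 : ∑ i ∈ Finset.range r, TslI σ g ((TslI σ g)^[i] v)
        = ∑ i ∈ Finset.range r, (TslI σ g)^[i + 1] v := by
      apply Finset.sum_congr rfl
      intro i _
      rw [Function.iterate_succ_apply']
    rw [h1]
    have h2 := Finset.sum_range_succ (fun i => (TslI σ g)^[i] v) r
    have h3 := Finset.sum_range_succ' (fun i => (TslI σ g)^[i] v) r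
    rw [h2] at h3
    simp only [Function.iterate_zero, id] at h3
    rw [hTr] at h3
    exact (add_right_cancel h3).symm
  obtain ⟨V₀, hV₀⟩ : ∃ V₀ : Set (ι → F), V₀ = {v | TslI σ g v = v} := ⟨_, rfl⟩
  have hW : Submodule.span F V₀ = ⊤ := by
    by_contra hW
    have hlt : Submodule.span F V₀ < ⊤ := lt_top_iff_ne_top.mpr hW
    obtain ⟨ℓ, hℓ0, hℓ⟩ := Submodule.exists_dual_map_eq_bot_of_lt_top hlt inferInstance
    have hker : ∀ w ∈ Submodule.span F V₀, ℓ w = 0 := by
      intro w hw
      have : ℓ w ∈ (Submodule.span F V₀).map ℓ := Submodule.mem_map_of_mem hw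
      rw [hℓ] at this
      exact (Submodule.mem_bot F).mp this
    apply hℓ0
    apply LinearMap.ext
    intro v
    have hsum : ∀ c : F, ∑ i ∈ Finset.range r, ℓ ((TslI σ g)^[i] v) * (σ ^ i) c = 0 := by
      intro c
      have h1 : (∑ i ∈ Finset.range r, (TslI σ g)^[i] (c • v)) ∈ Submodule.span F V₀ := by
        apply Submodule.subset_span
        rw [hV₀]
        exact hP (c • v)
      have h2 := hker _ h1
      rw [map_sum] at h2
      rw [← h2]
      apply Finset.sum_congr rfl
      intro i _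
      rw [TslI_iterate_smul, map_smul, smul_eq_mul, mul_comm]
    have := dedekind_pow σ r hinj (fun i => ℓ ((TslI σ g)^[i] v)) hsum 0 hr
    simpa using this
  have hV₀mem : ∀ v, v ∈ V₀ → TslI σ g v = v := by
    intro v hv
    rw [hV₀] at hv
    exact hv
  obtain ⟨b, hb_mem, -, hb_li⟩ := Submodule.exists_fun_fin_finrank_span_eq F V₀
  have hfin : Module.finrank F (Submodule.span F V₀) = Fintype.card ι := by
    rw [hW, finrank_top, Module.finrank_fintype_fun_eq_card]
  obtain ⟨eqv⟩ : Nonempty (ι ≃ Fin (Module.finrank F (Submodule.span F V₀))) :=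
    ⟨Fintype.equivFinOfCardEq hfin.symm⟩
  obtain ⟨b', hb'⟩ : ∃ b' : ι → ι → F, b' = b ∘ eqv := ⟨_, rfl⟩
  have hb'li : LinearIndependent F b' := by
    rw [hb']
    exact hb_li.comp _ eqv.injective
  have hb'fix : ∀ j, TslI σ g (b' j) = b' j := by
    intro j
    rw [hb']
    exact hV₀mem _ (hb_mem _)
  obtain ⟨B, hB⟩ : ∃ B : Matrix ι ι F, B = Matrix.of (fun i j => b' j i) := ⟨_, rfl⟩
  have hcol : B.col = b' := by
    funext j i
    rw [hB]
    rfl
  have hBu : IsUnit B := by
    rw [← Matrix.linearIndependent_cols_iff_isUnit, hcol]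
    exact hb'li
  have hfix : (g : Matrix ι ι F) * B.map σ = B := by
    ext i j
    have h2 := congrFun (hb'fix j) i
    rw [hB]
    show ((g : Matrix ι ι F) * (Matrix.of (fun i j => b' j i)).map σ) i j = b' j i
    rw [← h2]
    simp [TslI, svI, mulVec, dotProduct, Matrix.mul_apply]
  obtain ⟨h, hh⟩ := hBu
  refine ⟨h, ?_⟩
  apply Units.ext
  rw [Units.val_mul, sGI_coe, hh]
  exact hfix

end Cfsg.Agent.Lib.Helper9.ASP
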