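import Mathlib
import Cfsg.Prelude
import Cfsg.Agent.Lib.Helper5.OmegaSimple
import Cfsg.Agent.Lib.Helper5.MaxTS
import Cfsg.Agent.Lib.Helper9.AOR41
import Cfsg.Agent.Lib.Helper9.ASP14
import Cfsg.Agent.Lib.Helper9.APSL27

set_option autoImplicit false
set_option linter.unusedSectionVars false
set_option linter.unusedVariables false
open Cfsg

namespace Cfsg.Agent.Lib.Helper9.AOF

open Matrix QuadraticMap Cfsg.Agent.Lib.Helper5.CartanDieudonne Cfsg.Agent.Lib.Helper5.Refl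
  Cfsg.Agent.Lib.Helper5.OrthCard Cfsg.Agent.Lib.Helper5.Siegel Cfsg.Agent.Lib.Helper5.QuadIsom
  Cfsg.Agent.Lib.Helper5.ReflGen Cfsg.Agent.Lib.Helper5.Eichler Cfsg.Agent.Lib.Helper5.SingGeom
  Cfsg.Agent.Lib.Helper5.OmegaGen Cfsg.Agent.Lib.Helper5.OmegaSimple
  Cfsg.Agent.Lib.Helper9.AOR

variable {ι : Type} [Fintype ι] [DecidableEq ι] {F : Type*} [Field F] [Fintype F]
  (Q : QuadraticForm F (ι → F))

/-! Field automorphisms of `PΩ(Q)`: generalities. -/

section glgen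
open Cfsg.Agent.Lib.Helper9.ASP Cfsg.Agent.Lib.Helper5.OAut
open Cfsg.Agent.Lib.Helper9.APSL (uA uA_coe uA_one uA_mul nrm nrm_zero nrm_succ)

omit [Fintype F] in
/-- scalar matrix from a unit -/
noncomputable def scU (u : Fˣ) : Matrix.GeneralLinearGroup ι F := scalarGL ι (u : F) u.ne_zero

omit [Fintype F] in
theorem scU_coe (u : Fˣ) :
    ((scU u : Matrix.GeneralLinearGroup ι F) : Matrix ι ι F) = (u : F) • 1 := rfl

omit [Fintype F] in
theorem scU_comm (u : Fˣ) (g : Matrix.GeneralLinearGroup ι F) : scU u * g = g * scU u := by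
  apply Units.ext
  rw [Units.val_mul, Units.val_mul, scU_coe, Matrix.smul_mul, Matrix.mul_smul, Matrix.one_mul,
    Matrix.mul_one]

omit [Fintype F] in
theorem scU_mul (u v : Fˣ) :
    (scU (u * v) : Matrix.GeneralLinearGroup ι F) = scU u * scU v := by
  apply Units.ext
  rw [Units.val_mul, scU_coe, scU_coe, scU_coe, Matrix.smul_mul, Matrix.one_mul, smul_smul,
    Units.val_mul]

omit [Fintype F] in
theorem scU_one : (scU (1 : Fˣ) : Matrix.GeneralLinearGroup ι F) = 1 := by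
  apply Units.ext
  rw [scU_coe, Units.val_one, one_smul, Units.val_one]

omit [Fintype F] in
theorem sGI_scU (σ : RingAut F) (u : Fˣ) :
    sGI σ (scU u : Matrix.GeneralLinearGroup ι F) = scU (uA σ u) := by
  apply Units.ext
  rw [sGI_coe, scU_coe, scU_coe, uA_coe]
  ext i j
  rw [Matrix.map_apply, Matrix.smul_apply, Matrix.smul_apply, Matrix.one_apply]
  split_ifs
  · rw [smul_eq_mul, smul_eq_mul, mul_one, mul_one]
  · rw [smul_eq_mul, smul_eq_mul, mul_zero, mul_zero, map_zero]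

omit [Fintype F] in
theorem NkI_scU_mul (σ : RingAut F) (u : Fˣ) (g : Matrix.GeneralLinearGroup ι F) (k : ℕ) :
    NkI σ (scU u * g) k = scU (nrm σ k u) * NkI σ g k := by
  induction k with
  | zero => rw [NkI_zero, NkI_zero, nrm_zero, scU_one, one_mul]
  | succ k ih =>
    rw [NkI_succ, ih, NkI_succ, nrm_succ, map_mul, sGI_scU, scU_mul]
    calc scU u * g * (scU (uA σ (nrm σ k u)) * sGI σ (NkI σ g k))
        = scU u * (g * scU (uA σ (nrm σ k u))) * sGI σ (NkI σ g k) := by simp only [mul_assoc]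
      _ = scU u * (scU (uA σ (nrm σ k u)) * g) * sGI σ (NkI σ g k) := by
          rw [← scU_comm (uA σ (nrm σ k u)) g]
      _ = _ := by simp only [mul_assoc]

omit [Fintype F] in
theorem sGI_one (g : Matrix.GeneralLinearGroup ι F) : sGI (1 : RingAut F) g = g := by
  apply Units.ext
  rw [sGI_coe]
  ext i j
  rfl

omit [Fintype F] in
theorem sGI_mul (σ τ : RingAut F) (g : Matrix.GeneralLinearGroup ι F) :
    sGI (σ * τ) g = sGI σ (sGI τ g) := by
  apply Units.ext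
  rw [sGI_coe, sGI_coe, sGI_coe]
  ext i j
  rfl

omit [Fintype F] in
theorem NkI_comm (σ : RingAut F) (g : Matrix.GeneralLinearGroup ι F) (k : ℕ) :
    g * sGI σ (NkI σ g k) = NkI σ g k * sGI (σ ^ k) g := by
  induction k with
  | zero => rw [NkI_zero, map_one, mul_one, one_mul, pow_zero, sGI_one]
  | succ k ih =>
    rw [NkI_succ]
    conv_lhs => rw [ih]
    rw [map_mul, pow_succ', sGI_mul, mul_assoc]

omit [Fintype F] in
/-- the scalar value of a twisted norm is fixed by the field automorphism -/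
theorem scalar_norm_fixed [Nonempty ι] (σ : RingAut F) (g : Matrix.GeneralLinearGroup ι F) (r : ℕ)
    (hσ : σ ^ r = 1) (u : Fˣ) (hu : NkI σ g r = scU u) : uA σ u = u := by
  have h1 := NkI_comm σ g r
  rw [hσ, sGI_one, hu, sGI_scU, ← scU_comm] at h1
  have h2 : (scU (uA σ u) : Matrix.GeneralLinearGroup ι F) = scU u := mul_right_cancel h1
  have h3 := congrArg (fun k : Matrix.GeneralLinearGroup ι F => (k : Matrix ι ι F)) h2
  simp only [scU_coe] at h3
  obtain ⟨i⟩ := (inferInstance : Nonempty ι)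
  have h4 := congrFun (congrFun h3 i) i
  rw [Matrix.smul_apply, Matrix.smul_apply, Matrix.one_apply_eq, smul_eq_mul, smul_eq_mul,
    mul_one, mul_one] at h4
  exact Units.ext h4

end glgen

section semi
open Cfsg.Agent.Lib.Helper9.ASP Cfsg.Agent.Lib.Helper5.OAut
  Cfsg.Agent.Lib.Helper5.SpinorHyp
open Cfsg.Agent.Lib.Helper9.APSL (uA uA_coe nrm nrm_zero nrm_succ norm_surjective)

variable {Q}

/-- the standard field automorphism of `PΩ(Q)`, for a form commuting with `σ` -/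
noncomputable def fO (σ : RingAut F) (hσ : ∀ v, Q (vm σ v) = σ (Q v)) : MulAut (POmega F ⇑Q) :=
  semiAut 1 σ 1 (fun v => by
    unfold sm
    rw [Units.val_one, Matrix.one_mulVec, one_mul]
    exact hσ v)

theorem eq_fO_of_stdField (σ : RingAut F) (hσ : ∀ v, Q (vm σ v) = σ (Q v))
    {φ : MulAut (POmega F ⇑Q)} (h : IsFieldAutPOmegaOf ⇑Q σ φ) : φ = fO σ hσ := by
  apply eq_semiAut_of_induced
  intro s s' hs
  apply h
  rw [hs, Units.val_one, inv_one, Units.val_one, Matrix.one_mul, Matrix.mul_one]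

/-- `β` is induced by the semisimilarity `(g, σ)` -/
def SRg (β : MulAut (POmega F ⇑Q)) (g : Matrix.GeneralLinearGroup ι F) (σ : RingAut F) : Prop :=
  ∃ (c : F) (_ : c ≠ 0) (hg : ∀ v, Q (sm g σ v) = c * σ (Q v)), β = semiAut g σ c hg

theorem SRg_mul {β β' : MulAut (POmega F ⇑Q)} {g g' : Matrix.GeneralLinearGroup ι F}
    {σ σ' : RingAut F} (h : SRg β g σ) (h' : SRg β' g' σ') :
    SRg (β * β') (g * sGI σ g') (σ * σ') := by
  obtain ⟨c, hc, hg, rfl⟩ := h
  obtain ⟨c', hc', hg', rfl⟩ := h'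
  exact ⟨c * σ c', mul_ne_zero hc ((map_ne_zero σ).mpr hc'), quad_sm_comp g g' σ σ' c c' hg hg',
    semiAut_mul g g' σ σ' c c' hg hg'⟩

theorem SRg_one : SRg (1 : MulAut (POmega F ⇑Q)) 1 1 := by
  have hg : ∀ v, Q (sm (1 : Matrix.GeneralLinearGroup ι F) (RingEquiv.refl F) v) =
      1 * (RingEquiv.refl F) (Q v) := by
    intro v
    unfold sm
    rw [Units.val_one, Matrix.one_mulVec, one_mul]
    rfl
  exact ⟨1, one_ne_zero, hg, (semiAut_one hg).symm⟩

theorem SRg_pow {β : MulAut (POmega F ⇑Q)} {g : Matrix.GeneralLinearGroup ι F}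
    {σ : RingAut F} (h : SRg β g σ) (k : ℕ) : SRg (β ^ k) (NkI σ g k) (σ ^ k) := by
  induction k with
  | zero =>
    rw [pow_zero, pow_zero, NkI_zero]
    exact SRg_one
  | succ k ih =>
    rw [pow_succ', pow_succ', NkI_succ]
    exact SRg_mul h ih

theorem SRg_conjGO (G : ↥(Geo.quadSimilarityGroup (F := F) ⇑Q)) :
    SRg (conjGO Q G) (G : Matrix.GeneralLinearGroup ι F) 1 := by
  obtain ⟨c, hc⟩ := G.2
  have hg : ∀ v, Q (sm (G : Matrix.GeneralLinearGroup ι F) (RingEquiv.refl F) v) =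
      (c : F) * (RingEquiv.refl F) (Q v) := fun v => hc v
  exact ⟨c, c.ne_zero, hg, eq_semiAut_of_induced _ _ _ hg _ (conjGO_induced G)⟩

theorem SRg_fO (σ : RingAut F) (hσ : ∀ v, Q (vm σ v) = σ (Q v)) : SRg (fO σ hσ) 1 σ :=
  ⟨1, one_ne_zero, _, rfl⟩

theorem SRg_scU (u : Fˣ) {β : MulAut (POmega F ⇑Q)} {g : Matrix.GeneralLinearGroup ι F}
    {σ : RingAut F} (h : SRg β g σ) : SRg β (scU u * g) σ := by
  have h1 := SRg_conjGO (Q := Q) ⟨scU u, scalarGL_mem (u : F) u.ne_zero⟩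
  have h2 : conjGO Q ⟨scU u, scalarGL_mem (u : F) u.ne_zero⟩ = 1 :=
    mem_ker_conjGO_of_scalar _ (u : F) rfl
  rw [h2] at h1
  have h3 := SRg_mul h1 h
  rw [one_mul, one_mul, sGI_one] at h3
  exact h3

theorem SRg_unique_left {w₀ : ι → F} (hw₀ : Q w₀ = 1) {β β' : MulAut (POmega F ⇑Q)}
    {g : Matrix.GeneralLinearGroup ι F} {σ : RingAut F} (h : SRg β g σ) (h' : SRg β' g σ) :
    β = β' := by
  obtain ⟨c, hc, hg, rfl⟩ := h
  obtain ⟨c', hc', hg', rfl⟩ := h'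
  apply semiAut_congr rfl rfl
  have h1 := hg w₀
  rw [hg' w₀, hw₀, map_one, mul_one, mul_one] at h1
  exact h1.symm

variable {i : ℕ} {α β : Fin i → ι}

theorem scalar_of_SRg_one (hQ : (polarBilin Q).Nondegenerate) (hfam : IsHypFamily Q α β)
    (hi : 3 ≤ i) (h5 : 5 ≤ Fintype.card ι) {w₀ : ι → F} (hw₀ : Q w₀ = 1)
    {G : Matrix.GeneralLinearGroup ι F} (h : SRg (1 : MulAut (POmega F ⇑Q)) G 1) :
    ∃ u : Fˣ, G = scU u := by
  obtain ⟨c, hc, hg, he⟩ := h
  have hmem : G ∈ Geo.quadSimilarityGroup (F := F) ⇑Q := ⟨Units.mk0 c hc, fun v => hg v⟩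
  have h1 := SRg_conjGO (Q := Q) ⟨G, hmem⟩
  have h2 : conjGO Q ⟨G, hmem⟩ = 1 :=
    SRg_unique_left hw₀ h1 ⟨c, hc, hg, he⟩
  obtain ⟨a, ha, hGa⟩ := scalar_of_mem_ker_conjGO hQ hfam hi h5 hw₀ ⟨G, hmem⟩ h2
  have ha0 : a ≠ 0 := by
    rintro rfl
    rw [mul_zero] at ha
    exact mult_ne_zero hw₀ hmem ha.symm
  refine ⟨Units.mk0 a ha0, ?_⟩
  apply Units.ext
  rw [scU_coe]
  exact hGa

/-- a semisimilarity `(g, σ)` with `g σ(k) = k` for a similarity `k` induces the conjugate of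
the field automorphism by `k` -/
theorem SRg_conj {w₀ : ι → F} (hw₀ : Q w₀ = 1) (σ : RingAut F)
    (hσ : ∀ v, Q (vm σ v) = σ (Q v)) {β₀ : MulAut (POmega F ⇑Q)}
    {g : Matrix.GeneralLinearGroup ι F} (h : SRg β₀ g σ)
    (k : ↥(Geo.quadSimilarityGroup (F := F) ⇑Q))
    (hk : g * sGI σ (k : Matrix.GeneralLinearGroup ι F) = k) :
    β₀ = conjGO Q k * fO σ hσ * (conjGO Q k)⁻¹ := by
  have h1 := SRg_mul h (SRg_conjGO k)
  have h2 := SRg_mul (SRg_conjGO k) (SRg_fO σ hσ)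
  rw [hk, mul_one] at h1
  rw [map_one, mul_one, one_mul] at h2
  have h3 := SRg_unique_left hw₀ h1 h2
  rw [← h3]
  group

/-- **conjugacy in the coset of a field automorphism**, given Hilbert 90 for the similarity
group -/
theorem conj_field_gen [Nonempty ι] (hQ : (polarBilin Q).Nondegenerate)
    (hfam : IsHypFamily Q α β) (hi : 3 ≤ i) (h5 : 5 ≤ Fintype.card ι) {w₀ : ι → F}
    (hw₀ : Q w₀ = 1) (σ : RingAut F) (hσQ : ∀ v, Q (vm σ v) = σ (Q v)) (r : ℕ) (hr : 0 < r)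
    (hord : orderOf σ = r)
    (hdesc : ∀ g : Matrix.GeneralLinearGroup ι F,
      (∃ c : F, c ≠ 0 ∧ ∀ v, Q (sm g σ v) = c * σ (Q v)) → NkI σ g r = 1 →
      ∃ k : ↥(Geo.quadSimilarityGroup (F := F) ⇑Q),
        g * sGI σ (k : Matrix.GeneralLinearGroup ι F) = k)
    (β₀ : MulAut (POmega F ⇑Q)) (g : Matrix.GeneralLinearGroup ι F) (hβ : SRg β₀ g σ)
    (hpow : β₀ ^ r = 1) :
    ∃ k : ↥(Geo.quadSimilarityGroup (F := F) ⇑Q),
      β₀ = conjGO Q k * fO σ hσQ * (conjGO Q k)⁻¹ := by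
  have hσ : σ ^ r = 1 := hord ▸ pow_orderOf_eq_one σ
  have hinj : ∀ i j, i < r → j < r → σ ^ i = σ ^ j → i = j := by
    intro i j hi hj e
    exact pow_injOn_Iio_orderOf (by rw [hord]; exact hi) (by rw [hord]; exact hj) e
  have h1 := SRg_pow hβ r
  rw [hpow, hσ] at h1
  obtain ⟨a, ha⟩ := scalar_of_SRg_one hQ hfam hi h5 hw₀ h1
  have hfix := scalar_norm_fixed σ g r hσ a ha
  obtain ⟨ν, hν⟩ := norm_surjective σ r hr hinj hσ a⁻¹ (by rw [map_inv, hfix])
  have hN : NkI σ (scU ν * g) r = 1 := by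
    rw [NkI_scU_mul, hν, ha, ← scU_mul, inv_mul_cancel, scU_one]
  have hβ' := SRg_scU ν hβ
  obtain ⟨k, hk⟩ := hdesc (scU ν * g) (by
    obtain ⟨c, hc, hg, -⟩ := hβ'
    exact ⟨c, hc, hg⟩) hN
  exact ⟨k, SRg_conj hw₀ σ hσQ hβ' k hk⟩

end semi

end Cfsg.Agent.Lib.Helper9.AOF
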