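import Mathlib
import Cfsg.Prelude
import Cfsg.Agent.Lib.Helper5.OmegaSimple
import Cfsg.Agent.Lib.Helper5.MaxTS
import Cfsg.Agent.Lib.Helper9.AOF1
import Cfsg.Agent.S2619

set_option autoImplicit false
set_option linter.unusedSectionVars false
set_option linter.unusedVariables false
open Cfsg

namespace Cfsg.Agent.Lib.Helper9.AOF

open Matrix QuadraticMap Cfsg.Agent.Lib.Helper5.CartanDieudonne Cfsg.Agent.Lib.Helper5.Refl
  Cfsg.Agent.Lib.Helper5.OrthCard Cfsg.Agent.Lib.Helper5.Siegel Cfsg.Agent.Lib.Helper5.QuadIsom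
  Cfsg.Agent.Lib.Helper5.ReflGen Cfsg.Agent.Lib.Helper5.Eichler Cfsg.Agent.Lib.Helper5.SingGeom
  Cfsg.Agent.Lib.Helper5.OmegaGen Cfsg.Agent.Lib.Helper5.OmegaSimple
  Cfsg.Agent.Lib.Helper9.AOR

variable {ι : Type} [Fintype ι] [DecidableEq ι] {F : Type*} [Field F] [Fintype F]
  (Q : QuadraticForm F (ι → F))

/-! Descent of quadratic forms to the fixed field of a field automorphism. -/

section descend
open Cfsg.Agent.Lib.Helper9.ASP Cfsg.Agent.Lib.Helper5.OAut

variable {F₀ : Type*} [Field F₀] (j : F₀ →+* F)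

omit [Fintype ι] [DecidableEq ι] [Fintype F] in
theorem nondeg_of_key (B : QuadraticForm F (ι → F))
    (key : ∀ u : ι → F, (∀ v, polar B u v = 0) → u = 0) : (polarBilin B).Nondegenerate := by
  constructor
  · intro u hu
    exact key u (fun v => by simpa using hu v)
  · intro u hu
    apply key u
    intro v
    rw [polar_comm]
    simpa using hu v

omit [Fintype ι] [DecidableEq ι] [Fintype F] in
theorem key_of_nondeg (B : QuadraticForm F (ι → F)) (h : (polarBilin B).Nondegenerate)
    (u : ι → F) (hu : ∀ v, polar B u v = 0) : u = 0 :=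
  h.1 u (fun v => by simpa using hu v)

/-- extension of scalars on coordinate vectors -/
def hm (v : ι → F₀) : ι → F := fun i => j (v i)

omit [Fintype ι] [DecidableEq ι] [Fintype F] in
theorem hm_add (u v : ι → F₀) : hm j (u + v) = hm j u + hm j v := by
  ext i
  exact map_add j _ _

omit [Fintype ι] [DecidableEq ι] [Fintype F] in
theorem hm_smul (a : F₀) (v : ι → F₀) : hm j (a • v) = j a • hm j v := by
  ext i
  exact map_mul j _ _

omit [Fintype ι] [DecidableEq ι] [Fintype F] in
theorem hm_zero : hm j (0 : ι → F₀) = 0 := by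
  ext i
  exact map_zero j

omit [Fintype ι] [Fintype F] in
theorem hm_single (a : ι) : hm j (Pi.single a 1) = Pi.single a 1 := by
  ext i
  unfold hm
  by_cases h : i = a
  · subst h
    rw [Pi.single_eq_same, Pi.single_eq_same, map_one]
  · rw [Pi.single_eq_of_ne h, Pi.single_eq_of_ne h, map_zero]

omit [Fintype ι] [DecidableEq ι] [Fintype F] in
theorem hm_injective : Function.Injective (hm (ι := ι) j) := by
  intro u v h
  ext i
  exact j.injective (congrFun h i)

omit [DecidableEq ι] [Fintype F] in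
theorem hm_mulVec (M : Matrix ι ι F₀) (v : ι → F₀) :
    hm j (M *ᵥ v) = M.map j *ᵥ hm j v := by
  ext i
  simp [hm, Matrix.mulVec, dotProduct, map_sum, map_mul]

omit [Fintype ι] [DecidableEq ι] [Fintype F] in
theorem vm_hm (σ : RingAut F) (hj : ∀ t : F₀, σ (j t) = j t) (v : ι → F₀) :
    vm σ (hm j v) = hm j v := by
  ext i
  exact hj _

omit [Fintype ι] [DecidableEq ι] [Fintype F] in
/-- a quadratic form over `F` commuting with `σ` comes from the fixed field -/
theorem exists_descendForm (σ : RingAut F) (hι : ∀ a : F, σ a = a → a ∈ Set.range j)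
    (hι' : ∀ t : F₀, σ (j t) = j t) (B : QuadraticForm F (ι → F))
    (hB : ∀ v, B (vm σ v) = σ (B v)) :
    ∃ Q₀ : QuadraticForm F₀ (ι → F₀), ∀ v₀, j (Q₀ v₀) = B (hm j v₀) := by
  have hfix : ∀ v₀ : ι → F₀, σ (B (hm j v₀)) = B (hm j v₀) := by
    intro v₀
    rw [← hB, vm_hm j σ hι']
  choose q hq using fun v₀ => hι _ (hfix v₀)
  have hjp : ∀ x y : ι → F₀, j (polar q x y) = polar B (hm j x) (hm j y) := by
    intro x y
    unfold polar
    rw [map_sub, map_sub, hq, hq, hq, hm_add]
  have hsmul : ∀ (a : F₀) (x : ι → F₀), q (a • x) = (a * a) • q x := by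
    intro a x
    apply j.injective
    rw [hq, hm_smul, QuadraticMap.map_smul, smul_eq_mul, smul_eq_mul, map_mul, map_mul, hq]
  have hadd : ∀ x x' y : ι → F₀, polar q (x + x') y = polar q x y + polar q x' y := by
    intro x x' y
    apply j.injective
    rw [map_add, hjp, hjp, hjp, hm_add, polar_add_left]
  have hsm : ∀ (a : F₀) (x y : ι → F₀), polar q (a • x) y = a • polar q x y := by
    intro a x y
    apply j.injective
    rw [hjp, hm_smul, polar_smul_left, smul_eq_mul, smul_eq_mul, map_mul, hjp]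
  exact ⟨QuadraticMap.ofPolar q hsmul hadd hsm, fun v₀ => hq v₀⟩

omit [Fintype F] in
/-- two quadratic forms over `F` agreeing on the rational vectors are equal -/
theorem quad_ext_rational (Q₁ Q₂ : QuadraticForm F (ι → F))
    (h : ∀ v₀ : ι → F₀, Q₁ (hm j v₀) = Q₂ (hm j v₀)) : Q₁ = Q₂ := by
  have hs : ∀ a : ι, Q₁ (Pi.single a 1) = Q₂ (Pi.single a 1) := by
    intro a
    have := h (Pi.single a 1)
    rw [hm_single] at this
    exact this
  have hp : ∀ a b : ι, Q₁ (Pi.single a 1 + Pi.single b 1) = Q₂ (Pi.single a 1 + Pi.single b 1) := by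
    intro a b
    have := h (Pi.single a 1 + Pi.single b 1)
    rw [hm_add, hm_single, hm_single] at this
    exact this
  apply Cfsg.Agent.S2619.unique_aux (Pi.basisFun F ι)
  · apply LinearMap.ext_basis (Pi.basisFun F ι) (Pi.basisFun F ι)
    intro a b
    rw [Pi.basisFun_apply, Pi.basisFun_apply, polarBilin_apply_apply, polarBilin_apply_apply]
    unfold polar
    rw [hp, hs, hs]
  · intro a
    rw [Pi.basisFun_apply]
    exact hs a

omit [Fintype F] in
/-- a quadratic form vanishing on the rational vectors has zero polar form -/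
theorem polar_eq_zero_of_rational (B : QuadraticForm F (ι → F)) (u : ι → F)
    (h : ∀ b : ι, polar B u (Pi.single b 1) = 0) (v : ι → F) : polar B u v = 0 := by
  have hℓ : polarBilin B u = 0 := by
    apply (Pi.basisFun F ι).ext
    intro b
    rw [Pi.basisFun_apply, polarBilin_apply_apply, LinearMap.zero_apply]
    exact h b
  have h1 : polarBilin B u v = 0 := by rw [hℓ]; rfl
  rw [polarBilin_apply_apply] at h1
  exact h1

/-- **semilinear descent of a quadratic form** -/
theorem descent_form [Nonempty ι] (σ : RingAut F) (r : ℕ) (hr : 0 < r)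
    (hinj : ∀ i j, i < r → j < r → σ ^ i = σ ^ j → i = j) (hσ : σ ^ r = 1)
    (hι : ∀ a : F, σ a = a → a ∈ Set.range j) (hι' : ∀ t : F₀, σ (j t) = j t)
    (hQ : (polarBilin Q).Nondegenerate) (g : Matrix.GeneralLinearGroup ι F) (c : F) (hc : c ≠ 0)
    (hg : ∀ v, Q (sm g σ v) = c * σ (Q v)) (hN : NkI σ g r = 1) :
    ∃ (h : Matrix.GeneralLinearGroup ι F) (d : F) (Q₀ : QuadraticForm F₀ (ι → F₀)), d ≠ 0 ∧
      g * sGI σ h = h ∧ (polarBilin Q₀).Nondegenerate ∧
      ∀ v₀, Q ((h : Matrix ι ι F) *ᵥ hm j v₀) = d * j (Q₀ v₀) := by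
  obtain ⟨h, hh⟩ := exists_descentI σ r hr hinj hσ g hN
  obtain ⟨B, hB⟩ : ∃ B : QuadraticForm F (ι → F), ∀ v, B v = Q ((h : Matrix ι ι F) *ᵥ v) :=
    ⟨Q.comp (Matrix.toLin' (h : Matrix ι ι F)), fun v => by
      rw [QuadraticMap.comp_apply, Matrix.toLin'_apply]⟩
  have hBσ : ∀ v, B (vm σ v) = c * σ (B v) := by
    intro v
    rw [hB, hB]
    have h1 : (h : Matrix ι ι F) *ᵥ vm σ v = sm g σ ((h : Matrix ι ι F) *ᵥ v) := by
      unfold sm
      rw [vm_mulVec, Matrix.mulVec_mulVec, ← sGI_coe, ← Units.val_mul, hh]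
    rw [h1, hg]
  have hpol : ∀ u v, polar B u v = polar Q ((h : Matrix ι ι F) *ᵥ u) ((h : Matrix ι ι F) *ᵥ v) := by
    intro u v
    unfold polar
    rw [hB, hB, hB, Matrix.mulVec_add]
  have hBnd : ∀ u : ι → F, (∀ v, polar B u v = 0) → u = 0 := by
    intro u hu
    have h1 : (h : Matrix ι ι F) *ᵥ u = 0 := by
      apply key_of_nondeg Q hQ
      intro w
      have h2 := hu (((h⁻¹ : Matrix.GeneralLinearGroup ι F) : Matrix ι ι F) *ᵥ w)
      rw [hpol, Matrix.mulVec_mulVec, ← Units.val_mul, mul_inv_cancel, Units.val_one,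
        Matrix.one_mulVec] at h2
      exact h2
    have h3 := congrArg (fun x => ((h⁻¹ : Matrix.GeneralLinearGroup ι F) : Matrix ι ι F) *ᵥ x) h1
    simp only [Matrix.mulVec_mulVec, Matrix.mulVec_zero] at h3
    rw [← Units.val_mul, inv_mul_cancel, Units.val_one, Matrix.one_mulVec] at h3
    exact h3
  -- a rational vector at which `B` does not vanish
  obtain ⟨v₁, hv₁⟩ : ∃ v₁ : ι → F₀, B (hm j v₁) ≠ 0 := by
    by_contra hall
    push Not at hall
    obtain ⟨a⟩ := (inferInstance : Nonempty ι)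
    have h0 : (Pi.single a 1 : ι → F) = 0 := by
      apply hBnd
      apply polar_eq_zero_of_rational
      intro b
      unfold polar
      have e1 := hall (Pi.single a 1 + Pi.single b 1)
      have e2 := hall (Pi.single a 1)
      have e3 := hall (Pi.single b 1)
      rw [hm_add, hm_single, hm_single] at e1
      rw [hm_single] at e2 e3
      rw [e1, e2, e3, sub_zero, sub_zero]
    have h1 := congrFun h0 a
    rw [Pi.single_eq_same, Pi.zero_apply] at h1
    exact one_ne_zero h1
  obtain ⟨d, hd⟩ : ∃ d : F, d = B (hm j v₁) := ⟨_, rfl⟩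
  rw [← hd] at hv₁
  have hdσ : d = c * σ d := by
    rw [hd, ← hBσ, vm_hm j σ hι']
  have hσd : σ d = c⁻¹ * d := by
    rw [eq_inv_mul_iff_mul_eq₀ hc]
    exact hdσ.symm
  obtain ⟨B', hB'⟩ : ∃ B' : QuadraticForm F (ι → F), ∀ v, B' v = d⁻¹ * B v :=
    ⟨d⁻¹ • B, fun v => by rw [QuadraticMap.smul_apply, smul_eq_mul]⟩
  have hB'σ : ∀ v, B' (vm σ v) = σ (B' v) := by
    intro v
    rw [hB', hB', hBσ, map_mul, map_inv₀, hσd]
    field_simp
  obtain ⟨Q₀, hQ₀⟩ := exists_descendForm j σ hι hι' B' hB'σ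
  refine ⟨h, d, Q₀, hv₁, hh, ?_, ?_⟩
  · apply nondeg_of_key
    intro u₀ hu₀
    apply hm_injective j
    rw [hm_zero]
    apply hBnd
    apply polar_eq_zero_of_rational
    intro b
    have h1 : j (polar Q₀ u₀ (Pi.single b 1)) = d⁻¹ * polar B (hm j u₀) (Pi.single b 1) := by
      unfold polar
      rw [map_sub, map_sub, hQ₀, hQ₀, hQ₀, hB', hB', hB', hm_add, hm_single]
      ring
    rw [hu₀, map_zero] at h1
    rcases mul_eq_zero.mp h1.symm with h2 | h2
    · exact absurd h2 (inv_ne_zero hv₁)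
    · exact h2
  · intro v₀
    rw [← hB, hQ₀, hB', ← mul_assoc, mul_inv_cancel₀ hv₁, one_mul]

end descend

end Cfsg.Agent.Lib.Helper9.AOF
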