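import Mathlib
import Cfsg.Prelude
import Cfsg.Agent.Lib.Helper5.SympPrimitive

/-! Automorphisms of `PSp_{2m}(F)`, part 1: the action on vectors, Eichler elements. -/

set_option autoImplicit false
open Cfsg

namespace Cfsg.Agent.Lib.Helper9.ASP

open Matrix Cfsg.Agent.Lib.Helper5.SympTv Cfsg.Agent.Lib.Helper5.SympGen
  Cfsg.Agent.Lib.Helper5.SympPerfect Cfsg.Agent.Lib.Helper5.SympBridge
  Cfsg.Agent.Lib.Helper5.SympPrimitive

attribute [local instance 2000] spAction spSMulComm

variable {F : Type*} [Field F] (m : ℕ)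

set_option quotPrecheck false
local notation "Vm" => (Fin m ⊕ Fin m → F)
local notation "Mm" => Matrix (Fin m ⊕ Fin m) (Fin m ⊕ Fin m) F
local notation "Spm" => ↥(Matrix.symplecticGroup (Fin m) F)
local notation "PSpm" => Cfsg.PSp m F
local notation "BB" => sympForm m F

theorem BB_smul (A : Spm) (u v : Vm) : BB (A • u) (A • v) = BB u v := sympForm_mulVec m A.2 u v

theorem sp_ext {A B : Spm} (h : ∀ v : Vm, A • v = B • v) : A = B := by
  apply Subtype.ext
  rw [ext_iff_mulVec]
  exact h

theorem BB_zero_left (v : Vm) : BB 0 v = 0 := by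
  have := sympForm_smul_left m (0 : F) (0 : Vm) v
  rw [zero_smul, zero_mul] at this
  exact this

theorem BB_zero_right (v : Vm) : BB v 0 = 0 := by
  rw [sympForm_swap, BB_zero_left, neg_zero]

theorem BB_neg_left (u v : Vm) : BB (-u) v = - BB u v := by
  have := sympForm_smul_left m (-1 : F) u v
  rw [neg_one_smul, neg_one_mul] at this
  exact this

theorem BB_neg_right (u v : Vm) : BB u (-v) = - BB u v := by
  have := sympForm_smul_right m (-1 : F) u v
  rw [neg_one_smul, neg_one_mul] at this
  exact this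

theorem sp_smul_smul (A : Spm) (a : F) (v : Vm) : A • (a • v) = a • (A • v) := smul_comm A a v

theorem BB_inv_smul (A : Spm) (u v : Vm) : BB (A⁻¹ • u) v = BB u (A • v) := by
  rw [← BB_smul m A, smul_inv_smul]

/-- matrix of the Eichler element `v ↦ v + B(v,x) w + B(v,w) x + b B(v,x) x` -/
def Emat (x w : Vm) (b : F) : Mm :=
  1 + vecMulVec w (J (Fin m) F *ᵥ x) + vecMulVec x (J (Fin m) F *ᵥ w)
    + b • vecMulVec x (J (Fin m) F *ᵥ x)

theorem Emat_mulVec (x w : Vm) (b : F) (v : Vm) :
    Emat m x w b *ᵥ v = v + BB v x • w + BB v w • x + (b * BB v x) • x := by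
  unfold Emat sympForm
  rw [add_mulVec, add_mulVec, add_mulVec, one_mulVec, smul_mulVec, vecMulVec_mulVec,
    vecMulVec_mulVec, vecMulVec_mulVec, dotProduct_comm _ v, dotProduct_comm _ v]
  ext i
  simp [mul_comm, mul_left_comm]

theorem Emat_mem (x w : Vm) (b : F) (h : BB x w = 0) :
    Emat m x w b ∈ Matrix.symplecticGroup (Fin m) F := by
  rw [mem_symplectic_iff]
  intro u v
  have h' : BB w x = 0 := by rw [sympForm_swap, h, neg_zero]
  rw [Emat_mulVec, Emat_mulVec]
  simp only [sympForm_add_left, sympForm_add_right, sympForm_smul_left, sympForm_smul_right,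
    sympForm_self, h, h']
  rw [sympForm_swap m x v, sympForm_swap m w v]
  ring

open scoped Classical in
/-- the Eichler element of `Sp` -/
noncomputable def EE (x w : Vm) (b : F) : Spm :=
  if h : BB x w = 0 then ⟨Emat m x w b, Emat_mem m x w b h⟩ else 1

theorem EE_smul {x w : Vm} (h : BB x w = 0) (b : F) (v : Vm) :
    EE m x w b • v = v + BB v x • w + BB v w • x + (b * BB v x) • x := by
  unfold EE
  rw [dif_pos h]
  exact Emat_mulVec m x w b v

theorem EE_congr {x x' w w' : Vm} {b b' : F} (hx : x = x') (hw : w = w') (hb : b = b') :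
    EE m x w b = EE m x' w' b' := by rw [hx, hw, hb]

theorem BB_symm_zero {x w : Vm} (h : BB x w = 0) : BB w x = 0 := by
  rw [sympForm_swap, h, neg_zero]

theorem EE_mul {x w w' : Vm} (h : BB x w = 0) (h' : BB x w' = 0) (b b' : F) :
    EE m x w b * EE m x w' b' = EE m x (w + w') (b + b' + BB w' w) := by
  have h2 : BB x (w + w') = 0 := by rw [sympForm_add_right, h, h', add_zero]
  apply sp_ext
  intro v
  rw [mul_smul, EE_smul m h', EE_smul m h, EE_smul m h2]
  simp only [sympForm_add_left, sympForm_add_right, sympForm_smul_left, sympForm_self, h,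
    BB_symm_zero m h']
  module

theorem EE_zero (x : Vm) : EE m x 0 0 = 1 := by
  apply sp_ext
  intro v
  rw [EE_smul m (BB_zero_right m x), one_smul, BB_zero_right]
  module

theorem EE_inv {x w : Vm} (h : BB x w = 0) (b : F) : (EE m x w b)⁻¹ = EE m x (-w) (-b) := by
  have h' : BB x (-w) = 0 := by rw [BB_neg_right, h, neg_zero]
  apply inv_eq_of_mul_eq_one_right
  rw [EE_mul m h h']
  rw [← EE_zero m x]
  apply EE_congr m rfl
  · rw [add_neg_cancel]
  · rw [BB_neg_left, sympForm_self]
    ring

theorem EE_conj (A : Spm) {x w : Vm} (h : BB x w = 0) (b : F) :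
    A * EE m x w b * A⁻¹ = EE m (A • x) (A • w) b := by
  have h' : BB (A • x) (A • w) = 0 := by rw [BB_smul, h]
  apply sp_ext
  intro v
  rw [mul_smul, mul_smul, EE_smul m h, EE_smul m h']
  simp only [smul_add, sp_smul_smul, smul_inv_smul, BB_inv_smul]

theorem EE_smul_centre (a : F) {x w : Vm} (h : BB x w = 0) (b : F) :
    EE m (a • x) w b = EE m x (a • w) (a * a * b) := by
  have h1 : BB (a • x) w = 0 := by rw [sympForm_smul_left, h, mul_zero]
  have h2 : BB x (a • w) = 0 := by rw [sympForm_smul_right, h, mul_zero]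
  apply sp_ext
  intro v
  rw [EE_smul m h1, EE_smul m h2]
  simp only [sympForm_smul_right]
  module

theorem EE_shift {x w : Vm} (h : BB x w = 0) (b l : F) :
    EE m x (w + l • x) b = EE m x w (b + 2 * l) := by
  have h1 : BB x (w + l • x) = 0 := by
    rw [sympForm_add_right, sympForm_smul_right, sympForm_self, h, mul_zero, add_zero]
  apply sp_ext
  intro v
  rw [EE_smul m h1, EE_smul m h]
  simp only [sympForm_add_right, sympForm_smul_right]
  module

theorem EE_eq_tv (x : Vm) (b : F) : EE m x 0 b = tv m x b := by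
  apply sp_ext
  intro v
  rw [EE_smul m (BB_zero_right m x)]
  show _ = sympTransvection m x b *ᵥ v
  rw [sympTransvection_mulVec, BB_zero_right]
  module

end Cfsg.Agent.Lib.Helper9.ASP
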