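import Mathlib
import Cfsg.Prelude
import Cfsg.Agent.Lib.Helper9.ASP1

/-! Automorphisms of `PSp_{2m}(F)`, part 2: the unipotent radical `Q_x`, the centre, the quotient
map. -/

set_option autoImplicit false
open Cfsg

namespace Cfsg.Agent.Lib.Helper9.ASP

open Matrix Cfsg.Agent.Lib.Helper5.SympTv Cfsg.Agent.Lib.Helper5.SympGen
  Cfsg.Agent.Lib.Helper5.SympPerfect Cfsg.Agent.Lib.Helper5.SympBridge
  Cfsg.Agent.Lib.Helper5.SympPrimitive

attribute [local instance 2000] spAction spSMulComm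

variable {F : Type*} [Field F] (m : ℕ)

set_option quotPrecheck false
local notation "Vm" => (Fin m ⊕ Fin m → F)
local notation "Mm" => Matrix (Fin m ⊕ Fin m) (Fin m ⊕ Fin m) F
local notation "Spm" => ↥(Matrix.symplecticGroup (Fin m) F)
local notation "PSpm" => Cfsg.PSp m F
local notation "BB" => sympForm m F

/-- the unipotent radical of the stabiliser of the point of `x` -/
def QS (x : Vm) : Subgroup Spm where
  carrier := {A | A • x = x ∧ ∀ v : Vm, BB v x = 0 → ∃ l : F, A • v = v + l • x}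
  one_mem' := ⟨one_smul _ x, fun v _ => ⟨0, by rw [one_smul, zero_smul, add_zero]⟩⟩
  mul_mem' := by
    rintro A B ⟨hA, hA'⟩ ⟨hB, hB'⟩
    refine ⟨by rw [mul_smul, hB, hA], fun v hv => ?_⟩
    obtain ⟨l, hl⟩ := hB' v hv
    obtain ⟨l', hl'⟩ := hA' v hv
    refine ⟨l' + l, ?_⟩
    rw [mul_smul, hl, smul_add, sp_smul_smul, hA, hl']
    module
  inv_mem' := by
    rintro A ⟨hA, hA'⟩
    have hAi : A⁻¹ • x = x := by
      nth_rewrite 1 [← hA]
      rw [inv_smul_smul]
    refine ⟨hAi, fun v hv => ?_⟩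
    have h1 : BB (A⁻¹ • v) x = 0 := by
      rw [← BB_smul m A, smul_inv_smul, hA, hv]
    obtain ⟨l, hl⟩ := hA' _ h1
    rw [smul_inv_smul] at hl
    refine ⟨-l, ?_⟩
    rw [neg_smul]
    nth_rewrite 2 [hl]
    abel

theorem mem_QS (x : Vm) (A : Spm) :
    A ∈ QS m x ↔ A • x = x ∧ ∀ v : Vm, BB v x = 0 → ∃ l : F, A • v = v + l • x := Iff.rfl

theorem EE_mem_QS {x w : Vm} (h : BB x w = 0) (b : F) : EE m x w b ∈ QS m x := by
  refine ⟨?_, fun v hv => ?_⟩
  · rw [EE_smul m h, sympForm_self, h]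
    module
  · refine ⟨BB v w, ?_⟩
    rw [EE_smul m h, hv]
    module

theorem conj_mem_QS (A : Spm) {x : Vm} {u : Spm} (hu : u ∈ QS m x) :
    A * u * A⁻¹ ∈ QS m (A • x) := by
  refine ⟨?_, fun v hv => ?_⟩
  · rw [mul_smul, mul_smul, inv_smul_smul, hu.1]
  · have h1 : BB (A⁻¹ • v) x = 0 := by
      rw [← BB_smul m A, smul_inv_smul, hv]
    obtain ⟨l, hl⟩ := hu.2 _ h1
    refine ⟨l, ?_⟩
    rw [mul_smul, mul_smul, hl, smul_add, smul_inv_smul, sp_smul_smul]

theorem QS_smul {a : F} (ha : a ≠ 0) (x : Vm) : (QS m (a • x) : Subgroup Spm) = QS m x := by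
  ext A
  rw [mem_QS, mem_QS]
  constructor
  · rintro ⟨h1, h2⟩
    refine ⟨?_, fun v hv => ?_⟩
    · rw [sp_smul_smul] at h1
      exact smul_right_injective _ ha h1
    · obtain ⟨l, hl⟩ := h2 v (by rw [sympForm_smul_right, hv, mul_zero])
      exact ⟨l * a, by rw [hl, smul_smul]⟩
  · rintro ⟨h1, h2⟩
    refine ⟨by rw [sp_smul_smul, h1], fun v hv => ?_⟩
    have hv' : BB v x = 0 := by
      rw [sympForm_smul_right] at hv
      rcases mul_eq_zero.mp hv with h | h
      · exact absurd h ha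
      · exact h
    obtain ⟨l, hl⟩ := h2 v hv'
    refine ⟨l * a⁻¹, ?_⟩
    rw [hl, smul_smul, mul_assoc, inv_mul_cancel₀ ha, mul_one]

/-- elements of `Q_x` are Eichler elements -/
theorem exists_EE_of_mem_QS {x f : Vm} (hxf : BB x f = 1) (A : Spm) (hA : A ∈ QS m x) :
    ∃ (w : Vm) (b : F), BB x w = 0 ∧ BB w f = 0 ∧ A = EE m x w b := by
  have hfx : BB f x = -1 := by rw [sympForm_swap, hxf]
  obtain ⟨y, hy⟩ : ∃ y : Vm, y = A • f - f := ⟨_, rfl⟩
  have hAf : A • f = f + y := by rw [hy]; abel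
  have hyx : BB y x = 0 := by
    rw [hy, sympForm_sub_left, hfx]
    nth_rewrite 1 [← hA.1]
    rw [BB_smul, hfx, sub_self]
  have hxy : BB x y = 0 := BB_symm_zero m hyx
  obtain ⟨b, hb⟩ : ∃ b : F, b = - BB y f := ⟨_, rfl⟩
  obtain ⟨w, hw⟩ : ∃ w : Vm, w = -y - b • x := ⟨_, rfl⟩
  have hxw : BB x w = 0 := by
    rw [hw, sympForm_sub_right, BB_neg_right, sympForm_smul_right, sympForm_self, hxy]
    ring
  have hwf : BB w f = 0 := by
    rw [hw, sympForm_sub_left, BB_neg_left, sympForm_smul_left, hxf, hb]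
    ring
  refine ⟨w, b, hxw, hwf, ?_⟩
  have hfw : BB f w = 0 := BB_symm_zero m hwf
  have hEf : EE m x w b • f = A • f := by
    rw [EE_smul m hxw, hfx, hfw, hAf, hw]
    module
  have hE0 : ∀ v₀ : Vm, BB v₀ x = 0 → EE m x w b • v₀ = A • v₀ := by
    intro v₀ hv₀
    obtain ⟨l, hl⟩ := hA.2 v₀ hv₀
    have h1 : BB (A • v₀) (A • f) = BB v₀ f := BB_smul m A v₀ f
    rw [hl, hAf] at h1
    simp only [sympForm_add_left, sympForm_add_right, sympForm_smul_left, hxf, hxy] at h1
    have h2 : BB v₀ w = l := by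
      rw [hw, sympForm_sub_right, BB_neg_right, sympForm_smul_right, hv₀]
      linear_combination (-1 : F) * h1
    rw [EE_smul m hxw, hv₀, hl, h2]
    module
  apply sp_ext
  intro v
  obtain ⟨v₀, hv₀⟩ : ∃ v₀ : Vm, v₀ = v - BB x v • f := ⟨_, rfl⟩
  have hv : v = v₀ + BB x v • f := by rw [hv₀]; abel
  have h0 : BB v₀ x = 0 := by
    rw [hv₀, sympForm_sub_left, sympForm_smul_left, hfx, sympForm_swap m v x]
    ring
  rw [hv, smul_add, smul_add, sp_smul_smul, sp_smul_smul, hEf, hE0 _ h0]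

/-- the quotient map -/
def mkS : Spm →* PSpm := QuotientGroup.mk' (Subgroup.center Spm)

theorem mkS_surjective : Function.Surjective (mkS m : Spm → PSpm) :=
  QuotientGroup.mk'_surjective _

theorem tv_smul_vec (x : Vm) (c : F) (v : Vm) : tv m x c • v = v + (c * BB v x) • x :=
  sympTransvection_mulVec m x c v

theorem exists_ne_zero (hm : 1 ≤ m) : ∃ v : Vm, v ≠ 0 :=
  ⟨Pi.single (Sum.inl ⟨0, hm⟩) 1, single_inl_ne_zero m _⟩

theorem mem_center_iff (A : Spm) :
    A ∈ Subgroup.center Spm ↔ ∃ a : F, ∀ v : Vm, A • v = a • v := by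
  constructor
  · intro hA
    rw [Subgroup.mem_center_iff] at hA
    have key : ∀ v : Vm, v ≠ 0 → ∃ a : F, A.1 *ᵥ v = a • v := by
      intro v hv
      obtain ⟨w, hw⟩ := exists_partner m v hv
      have hwv : BB w v = -1 := by rw [sympForm_swap, hw]
      have h1 : A * tv m v 1 * A⁻¹ = tv m v 1 := by
        rw [← hA (tv m v 1)]
        group
      rw [conj_tv] at h1
      have h2 : tv m (A.1 *ᵥ v) 1 • w = tv m v 1 • w := by rw [h1]
      rw [tv_smul_vec, tv_smul_vec, hwv, one_mul, one_mul] at h2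
      have h3 : BB w (A.1 *ᵥ v) • (A.1 *ᵥ v) = (-1 : F) • v := add_left_cancel h2
      have h4 : BB w (A.1 *ᵥ v) ≠ 0 := by
        intro h0
        rw [h0, zero_smul] at h3
        apply hv
        have := congrArg (fun z : Vm => (-1 : F) • z) h3
        simpa using this.symm
      refine ⟨-(BB w (A.1 *ᵥ v))⁻¹, ?_⟩
      have := congrArg (fun z : Vm => (BB w (A.1 *ᵥ v))⁻¹ • z) h3
      simp only [smul_smul, inv_mul_cancel₀ h4, one_smul] at this
      refine this.trans ?_
      congr 1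
      ring
    obtain ⟨a, ha⟩ := scalar_of_forall_eigen A.1 key
    refine ⟨a, fun v => ?_⟩
    show A.1 *ᵥ v = a • v
    rw [ha, smul_mulVec, one_mulVec]
  · rintro ⟨a, ha⟩
    have hmat : A.1 = a • (1 : Mm) := by
      rw [ext_iff_mulVec]
      intro x
      rw [smul_mulVec, one_mulVec]
      exact ha x
    rw [Subgroup.mem_center_iff]
    intro B
    apply Subtype.ext
    show B.1 * A.1 = A.1 * B.1
    rw [hmat]
    simp

theorem mkS_eq_iff (A B : Spm) :
    mkS m A = mkS m B ↔ ∃ a : F, ∀ v : Vm, B • v = a • (A • v) := by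
  unfold mkS
  rw [QuotientGroup.mk'_apply, QuotientGroup.mk'_apply, QuotientGroup.eq, mem_center_iff]
  constructor
  · rintro ⟨a, ha⟩
    refine ⟨a, fun v => ?_⟩
    have := ha v
    rw [mul_smul] at this
    have h2 : B • v = A • (A⁻¹ • B • v) := (smul_inv_smul A (B • v)).symm
    rw [h2, this, sp_smul_smul]
  · rintro ⟨a, ha⟩
    refine ⟨a, fun v => ?_⟩
    rw [mul_smul, ha, ← sp_smul_smul, inv_smul_smul]

/-- a scalar in `Sp` is `±1` -/
theorem scalar_sq (hm : 1 ≤ m) (A : Spm) (a : F) (h : ∀ v : Vm, A • v = a • v) : a * a = 1 := by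
  obtain ⟨v, hv⟩ := exists_ne_zero (F := F) m hm
  obtain ⟨w, hw⟩ := exists_partner m v hv
  have h1 := BB_smul m A v w
  rw [h v, h w, sympForm_smul_left, sympForm_smul_right, hw, mul_one] at h1
  exact h1

theorem mkS_eq_one_iff (hm : 1 ≤ m) (A : Spm) :
    mkS m A = 1 ↔ ∃ a : F, ∀ v : Vm, A • v = a • v := by
  rw [← map_one (mkS m), mkS_eq_iff]
  constructor
  · rintro ⟨a, ha⟩
    refine ⟨a, fun v => ?_⟩
    have h1 := ha v
    rw [one_smul] at h1
    have h2 : a * a = 1 := by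
      obtain ⟨v₁, hv₁⟩ := exists_ne_zero (F := F) m hm
      obtain ⟨w, hw⟩ := exists_partner m v₁ hv₁
      have e1 := ha v₁
      have e2 := ha w
      rw [one_smul] at e1 e2
      have h3 := BB_smul m A v₁ w
      have h4 : BB v₁ w = a * a * BB (A • v₁) (A • w) := by
        nth_rewrite 1 [e1, e2]
        rw [sympForm_smul_left, sympForm_smul_right]
        ring
      rw [h3, hw, mul_one] at h4
      exact h4.symm
    calc A • v = (a * a) • (A • v) := by rw [h2, one_smul]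
      _ = a • (a • (A • v)) := by rw [mul_smul]
      _ = a • v := by rw [← h1]
  · rintro ⟨a, ha⟩
    have h2 := scalar_sq m hm A a ha
    refine ⟨a, fun v => ?_⟩
    rw [one_smul, ha, smul_smul, h2, one_smul]

end Cfsg.Agent.Lib.Helper9.ASP
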