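import Mathlib
import Cfsg.Prelude
import Cfsg.Agent.Lib.Helper9.ASP2

/-! Automorphisms of `PSp_{2m}(F)`, part 3: centralisers of `Q_x` and of root elements. -/

set_option autoImplicit false
open Cfsg

namespace Cfsg.Agent.Lib.Helper9.ASP

open Matrix Cfsg.Agent.Lib.Helper5.SympTv Cfsg.Agent.Lib.Helper5.SympGen
  Cfsg.Agent.Lib.Helper5.SympPerfect Cfsg.Agent.Lib.Helper5.SympBridge
  Cfsg.Agent.Lib.Helper5.SympPrimitive

attribute [local instance 2000] spAction spSMulComm

variable {F : Type*} [Field F] (m : ℕ)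

set_option quotPrecheck false
local notation "Vm" => (Fin m ⊕ Fin m → F)
local notation "Mm" => Matrix (Fin m ⊕ Fin m) (Fin m ⊕ Fin m) F
local notation "Spm" => ↥(Matrix.symplecticGroup (Fin m) F)
local notation "PSpm" => Cfsg.PSp m F
local notation "BB" => sympForm m F

/-- Eichler elements have no eigenvalue other than `1` -/
theorem EE_eigen {x w : Vm} (h : BB x w = 0) (b : F) (v : Vm) (hv : v ≠ 0) (c : F)
    (hc : EE m x w b • v = c • v) : c = 1 := by
  have hwx : BB w x = 0 := BB_symm_zero m h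
  rw [EE_smul m h] at hc
  by_cases h1 : BB v x = 0
  · rw [h1] at hc
    by_cases h2 : BB v w = 0
    · rw [h2] at hc
      have h3 : (c - 1) • v = 0 := by
        rw [sub_smul, one_smul, ← hc]
        module
      rcases smul_eq_zero.mp h3 with h4 | h4
      · exact sub_eq_zero.mp h4
      · exact absurd h4 hv
    · have h3 := congrArg (fun z : Vm => BB z w) hc
      simp only [sympForm_add_left, sympForm_smul_left, h, sympForm_self, hwx] at h3
      have h4 : (c - 1) * BB v w = 0 := by linear_combination -h3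
      rcases mul_eq_zero.mp h4 with h5 | h5
      · exact sub_eq_zero.mp h5
      · exact absurd h5 h2
  · have h3 := congrArg (fun z : Vm => BB z x) hc
    simp only [sympForm_add_left, sympForm_smul_left, sympForm_self, hwx] at h3
    have h4 : (c - 1) * BB v x = 0 := by linear_combination -h3
    rcases mul_eq_zero.mp h4 with h5 | h5
    · exact sub_eq_zero.mp h5
    · exact absurd h5 h1

/-- commuting modulo the centre with an element of `Q_x` means commuting -/
theorem commute_of_mkS_QS {x : Vm} (hx0 : x ≠ 0) (A u : Spm) (hu : u ∈ QS m x)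
    (hA : mkS m (A * u) = mkS m (u * A)) : A * u = u * A := by
  obtain ⟨f, hxf⟩ := exists_partner m x hx0
  obtain ⟨w, b, hxw, -, rfl⟩ := exists_EE_of_mem_QS m hxf u hu
  have h1 : mkS m (A * EE m x w b * A⁻¹) = mkS m (EE m x w b) := by
    rw [map_mul, hA, map_mul, map_inv, mul_assoc, mul_inv_cancel, mul_one]
  obtain ⟨a, ha⟩ := (mkS_eq_iff m _ _).mp h1
  have hAx0 : A • x ≠ 0 := (smul_ne_zero_iff_ne A).mpr hx0
  have h2 : (A * EE m x w b * A⁻¹) • (A • x) = A • x := by
    rw [mul_smul, mul_smul, inv_smul_smul, (EE_mem_QS m hxw b).1]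
  have h3 := ha (A • x)
  rw [h2] at h3
  have ha1' : a = 1 := EE_eigen m hxw b _ hAx0 a h3
  have h4 : A * EE m x w b * A⁻¹ = EE m x w b := by
    apply sp_ext
    intro v
    have := ha v
    rw [ha1', one_smul] at this
    exact this.symm
  calc A * EE m x w b = (A * EE m x w b * A⁻¹) * A := by group
    _ = EE m x w b * A := by rw [h4]

/-- an element commuting with a nontrivial root element stabilises its centre up to sign -/
theorem stab_of_commute_root {x : Vm} (hx0 : x ≠ 0) (A : Spm) {c : F} (hc0 : c ≠ 0)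
    (hA : A * tv m x c = tv m x c * A) : ∃ a : F, a * a = 1 ∧ A • x = a • x := by
  obtain ⟨f, hxf⟩ := exists_partner m x hx0
  have hfx : BB f x = -1 := by rw [sympForm_swap, hxf]
  have h1 : A * tv m x c * A⁻¹ = tv m x c := by rw [hA]; group
  rw [conj_tv] at h1
  have h2 : tv m (A • x) c • f = tv m x c • f := by
    show tv m (A.1 *ᵥ x) c • f = _
    rw [h1]
  rw [tv_smul_vec, tv_smul_vec, hfx] at h2
  obtain ⟨μ, hμ⟩ : ∃ μ : F, μ = BB f (A • x) := ⟨_, rfl⟩
  rw [← hμ] at h2
  have h3 : (c * μ) • (A • x) = (c * -1) • x := add_left_cancel h2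
  have h4 : μ • (A • x) = (-1 : F) • x := by
    have := congrArg (fun z : Vm => c⁻¹ • z) h3
    simp only [smul_smul, ← mul_assoc, inv_mul_cancel₀ hc0, one_mul] at this
    exact this
  have hμ0 : μ ≠ 0 := by
    rintro rfl
    rw [zero_smul] at h4
    apply hx0
    have := congrArg (fun z : Vm => (-1 : F) • z) h4
    simpa using this.symm
  have h5 : A • x = (-μ⁻¹) • x := by
    have := congrArg (fun z : Vm => μ⁻¹ • z) h4
    simp only [smul_smul, inv_mul_cancel₀ hμ0, one_smul] at this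
    refine this.trans ?_
    congr 1
    ring
  refine ⟨-μ⁻¹, ?_, h5⟩
  have h6 : μ = μ⁻¹ := by
    have h7 : BB f (A • x) = μ⁻¹ := by
      rw [h5, sympForm_smul_right, hfx]
      ring
    exact hμ.trans h7
  have : μ * μ = 1 := by
    nth_rewrite 2 [h6]
    exact mul_inv_cancel₀ hμ0
  have h8 : μ⁻¹ * μ⁻¹ = 1 := by rw [← mul_inv, this, inv_one]
  linear_combination h8

/-- the scalars `±1` in `Sp` -/
noncomputable def scS (a : F) (ha : a * a = 1) : Spm :=
  ⟨a • (1 : Mm), by
    rw [mem_symplectic_iff]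
    intro u v
    rw [smul_mulVec, smul_mulVec, one_mulVec, one_mulVec, sympForm_smul_left,
      sympForm_smul_right, ← mul_assoc, ha, one_mul]⟩

theorem scS_smul (a : F) (ha : a * a = 1) (v : Vm) : scS m a ha • v = a • v := by
  show (a • (1 : Mm)) *ᵥ v = a • v
  rw [smul_mulVec, one_mulVec]

theorem mkS_scS_mul (a : F) (ha : a * a = 1) (A : Spm) : mkS m (scS m a ha * A) = mkS m A := by
  apply ((mkS_eq_iff m _ _).mpr ⟨a, fun v => ?_⟩).symm
  rw [mul_smul, scS_smul]

theorem scS_comm (a : F) (ha : a * a = 1) (A : Spm) : scS m a ha * A = A * scS m a ha := by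
  apply sp_ext
  intro v
  rw [mul_smul, mul_smul, scS_smul, scS_smul, sp_smul_smul]

/-- value of an Eichler element at a partner of `x` -/
theorem EE_partner {x w f : Vm} (h : BB x w = 0) (b : F) (hfx : BB f x = -1) :
    EE m x w b • f = f - w + (BB f w - b) • x := by
  rw [EE_smul m h, hfx]
  module

/-- an element centralising `Q_x` modulo the centre lies in `± Q_x` -/
theorem cent_QS_mem {x : Vm} (hx0 : x ≠ 0) (A : Spm)
    (hA : ∀ u ∈ QS m x, mkS m (A * u) = mkS m (u * A)) :
    ∃ u₀ ∈ QS m x, mkS m A = mkS m u₀ ∧ ∀ u ∈ QS m x, u₀ * u = u * u₀ := by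
  obtain ⟨f, hxf⟩ := exists_partner m x hx0
  have hfx : BB f x = -1 := by rw [sympForm_swap, hxf]
  have hcomm : ∀ u ∈ QS m x, A * u = u * A :=
    fun u hu => commute_of_mkS_QS m hx0 A u hu (hA u hu)
  have h1 : (1 : F) ≠ 0 := one_ne_zero
  obtain ⟨a, ha, hAx⟩ := stab_of_commute_root m hx0 A h1 (by
    rw [← EE_eq_tv]
    exact hcomm _ (EE_mem_QS m (BB_zero_right m x) 1))
  obtain ⟨A', hA'⟩ : ∃ A' : Spm, A' = scS m a ha * A := ⟨_, rfl⟩
  have hA'x : A' • x = x := by
    rw [hA', mul_smul, hAx, scS_smul, smul_smul, ha, one_smul]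
  have hA'c : ∀ u ∈ QS m x, A' * u = u * A' := by
    intro u hu
    calc A' * u = scS m a ha * (A * u) := by rw [hA', mul_assoc]
      _ = (scS m a ha * u) * A := by rw [hcomm u hu, mul_assoc]
      _ = u * (scS m a ha * A) := by rw [scS_comm, mul_assoc]
      _ = u * A' := by rw [hA']
  refine ⟨A', ⟨hA'x, fun w hw => ?_⟩, ?_, hA'c⟩
  · have hxw : BB x w = 0 := BB_symm_zero m hw
    have h2 : A' * EE m x w 0 * A'⁻¹ = EE m x w 0 := by
      rw [hA'c _ (EE_mem_QS m hxw 0)]
      group
    rw [EE_conj m A' hxw, hA'x] at h2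
    have hxw' : BB x (A' • w) = 0 := by
      rw [← hA'x, BB_smul, hxw]
    have h3 : EE m x (A' • w) 0 • f = EE m x w 0 • f := by rw [h2]
    rw [EE_partner m hxw' 0 hfx, EE_partner m hxw 0 hfx] at h3
    obtain ⟨y, hy⟩ : ∃ y : Vm, y = A' • w := ⟨_, rfl⟩
    rw [← hy] at h3 ⊢
    refine ⟨BB f y - 0 - (BB f w - 0), ?_⟩
    linear_combination (norm := module) (-1 : F) • h3
  · rw [hA', mkS_scS_mul]

/-- for `2 ≠ 0` the centre of `Q_x` is the root group -/
theorem cent_QS_odd (h2 : (2 : F) ≠ 0) {x : Vm} (hx0 : x ≠ 0) (u₀ : Spm) (hu₀ : u₀ ∈ QS m x)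
    (hc : ∀ u ∈ QS m x, u₀ * u = u * u₀) : ∃ b : F, u₀ = tv m x b := by
  obtain ⟨f, hxf⟩ := exists_partner m x hx0
  have hfx : BB f x = -1 := by rw [sympForm_swap, hxf]
  obtain ⟨w₀, b₀, hxw₀, hw₀f, rfl⟩ := exists_EE_of_mem_QS m hxf u₀ hu₀
  have hperp : ∀ w : Vm, BB x w = 0 → BB w₀ w = 0 := by
    intro w hxw
    have h1 := hc _ (EE_mem_QS m hxw 0)
    rw [EE_mul m hxw₀ hxw, EE_mul m hxw hxw₀] at h1
    have hs1 : BB x (w₀ + w) = 0 := by rw [sympForm_add_right, hxw₀, hxw, add_zero]
    have hs2 : BB x (w + w₀) = 0 := by rw [sympForm_add_right, hxw₀, hxw, add_zero]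
    have h3 : EE m x (w₀ + w) (b₀ + 0 + BB w w₀) • f = EE m x (w + w₀) (0 + b₀ + BB w₀ w) • f := by
      rw [h1]
    rw [EE_partner m hs1 _ hfx, EE_partner m hs2 _ hfx, add_comm w w₀] at h3
    have h4 : ((BB f (w₀ + w) - (b₀ + 0 + BB w w₀)) - (BB f (w₀ + w) - (0 + b₀ + BB w₀ w))) • x
        = 0 := by
      linear_combination (norm := module) h3
    rcases smul_eq_zero.mp h4 with h | h
    · have h5 : 2 * BB w₀ w = 0 := by
        rw [sympForm_swap m w w₀] at h
        linear_combination h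
      rcases mul_eq_zero.mp h5 with h6 | h6
      · exact absurd h6 h2
      · exact h6
    · exact absurd h hx0
  have hw₀ : w₀ = 0 := by
    by_contra hne
    have hli : LinearIndependent F ![w₀, x] := by
      rw [LinearIndependent.pair_iff]
      intro s t hst
      have h3 := congrArg (fun z : Vm => BB z f) hst
      simp only [sympForm_add_left, sympForm_smul_left, hw₀f, hxf, BB_zero_left] at h3
      have ht : t = 0 := by linear_combination h3
      rw [ht, zero_smul, add_zero] at hst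
      rcases smul_eq_zero.mp hst with h | h
      · exact ⟨h, ht⟩
      · exact absurd h hne
    obtain ⟨z, hz1, hz2⟩ := exists_perp_cross m w₀ x hli
    exact hz2 (hperp z hz1)
  exact ⟨b₀, by rw [hw₀, EE_eq_tv]⟩

/-- an element of `Q_x` commuting with the transvections of the stabiliser of `x` is a root
element -/
theorem cent_stab {x : Vm} (hx0 : x ≠ 0) (u₀ : Spm) (hu₀ : u₀ ∈ QS m x)
    (hc : ∀ w : Vm, BB x w = 0 → u₀ * tv m w 1 = tv m w 1 * u₀) : ∃ b : F, u₀ = tv m x b := by
  obtain ⟨f, hxf⟩ := exists_partner m x hx0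
  have hfx : BB f x = -1 := by rw [sympForm_swap, hxf]
  obtain ⟨w₀, b₀, hxw₀, hw₀f, rfl⟩ := exists_EE_of_mem_QS m hxf u₀ hu₀
  have hw₀ : w₀ = 0 := by
    by_contra hne
    have hli : LinearIndependent F ![w₀, x] := by
      rw [LinearIndependent.pair_iff]
      intro s t hst
      have h3 := congrArg (fun z : Vm => BB z f) hst
      simp only [sympForm_add_left, sympForm_smul_left, hw₀f, hxf, BB_zero_left] at h3
      have ht : t = 0 := by linear_combination h3
      rw [ht, zero_smul, add_zero] at hst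
      rcases smul_eq_zero.mp hst with h | h
      · exact ⟨h, ht⟩
      · exact absurd h hne
    obtain ⟨w, hxw, hw₀w⟩ := exists_perp_cross m w₀ x hli
    have h1 := hc w hxw
    have h2 : tv m w 1 * EE m x w₀ b₀ * (tv m w 1)⁻¹ = EE m x w₀ b₀ := by
      rw [← h1]
      group
    rw [EE_conj m _ hxw₀, tv_smul_vec, tv_smul_vec, hxw, mul_zero, zero_smul, add_zero, one_mul]
      at h2
    have hs : BB x (w₀ + BB w₀ w • w) = 0 := by
      rw [sympForm_add_right, sympForm_smul_right, hxw₀, hxw, mul_zero, add_zero]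
    have h3 : EE m x (w₀ + BB w₀ w • w) b₀ • f = EE m x w₀ b₀ • f := by rw [h2]
    rw [EE_partner m hs _ hfx, EE_partner m hxw₀ _ hfx] at h3
    obtain ⟨l, hl⟩ : ∃ l : F, BB w₀ w • w = l • x := by
      refine ⟨(BB f (w₀ + BB w₀ w • w) - b₀) - (BB f w₀ - b₀), ?_⟩
      linear_combination (norm := module) (-1 : F) • h3
    have h4 : w = ((BB w₀ w)⁻¹ * l) • x := by
      have := congrArg (fun z : Vm => (BB w₀ w)⁻¹ • z) hl
      simp only [smul_smul, inv_mul_cancel₀ hw₀w, one_smul] at this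
      exact this
    apply hw₀w
    rw [h4, sympForm_smul_right, BB_symm_zero m hxw₀, mul_zero]
  exact ⟨b₀, by rw [hw₀, EE_eq_tv]⟩

end Cfsg.Agent.Lib.Helper9.ASP
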