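import Mathlib
import Cfsg.Prelude
import Cfsg.Agent.Lib.Helper9.ASP3
import Cfsg.Agent.Lib.Helper9.APSL5

/-! Automorphisms of `PSp_{2m}(F)`, part 4: root groups as double centralisers; odd
characteristic: automorphisms permute the root groups. -/

set_option autoImplicit false
open Cfsg

namespace Cfsg.Agent.Lib.Helper9.ASP

open Matrix Cfsg.Agent.Lib.Helper5.SympTv Cfsg.Agent.Lib.Helper5.SympGen
  Cfsg.Agent.Lib.Helper5.SympPerfect Cfsg.Agent.Lib.Helper5.SympBridge
  Cfsg.Agent.Lib.Helper5.SympPrimitive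

attribute [local instance 2000] spAction spSMulComm

variable {F : Type*} [Field F] (m : ℕ)

set_option quotPrecheck false
local notation "Vm" => (Fin m ⊕ Fin m → F)
local notation "Mm" => Matrix (Fin m ⊕ Fin m) (Fin m ⊕ Fin m) F
local notation "Spm" => ↥(Matrix.symplecticGroup (Fin m) F)
local notation "PSpm" => Cfsg.PSp m F
local notation "BB" => sympForm m F

instance finite_Sp [Finite F] : Finite Spm := Subtype.finite

instance finite_PSp [Finite F] : Finite PSpm := Quotient.finite _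

theorem sp_smul_eq (A : Spm) (v : Vm) : A • v = A.1 *ᵥ v := rfl

theorem tv_mem_QS (x : Vm) (c : F) : tv m x c ∈ QS m x := by
  rw [← EE_eq_tv]
  exact EE_mem_QS m (BB_zero_right m x) c

theorem conj_tv' (A : Spm) (x : Vm) (c : F) : A * tv m x c * A⁻¹ = tv m (A • x) c :=
  conj_tv m A x c

/-- root elements are central in `Q_x` -/
theorem root_comm_QS {x : Vm} (c : F) {u : Spm} (hu : u ∈ QS m x) :
    u * tv m x c = tv m x c * u := by
  have h1 : u * tv m x c * u⁻¹ = tv m x c := by rw [conj_tv', hu.1]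
  calc u * tv m x c = (u * tv m x c * u⁻¹) * u := by group
    _ = tv m x c * u := by rw [h1]

theorem root_comm_of_orth {x y : Vm} (hxy : BB x y = 0) (c c' : F) :
    tv m x c * tv m y c' = tv m y c' * tv m x c := by
  have h1 : tv m x c * tv m y c' * (tv m x c)⁻¹ = tv m y c' := by
    rw [conj_tv', tv_smul_vec, BB_symm_zero m hxy, mul_zero, zero_smul, add_zero]
  calc tv m x c * tv m y c' = (tv m x c * tv m y c' * (tv m x c)⁻¹) * tv m x c := by group
    _ = tv m y c' * tv m x c := by rw [h1]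

theorem EE_pow {x w : Vm} (h : BB x w = 0) (b : F) (k : ℕ) :
    (EE m x w b) ^ k = EE m x (k • w) (k * b) := by
  induction k with
  | zero => rw [pow_zero, zero_smul, Nat.cast_zero, zero_mul, EE_zero]
  | succ k ih =>
    have hk : BB x (k • w) = 0 := by
      rw [← Nat.cast_smul_eq_nsmul F, sympForm_smul_right, h, mul_zero]
    rw [pow_succ, ih, EE_mul m hk h]
    apply EE_congr m rfl (succ_nsmul w k).symm
    rw [← Nat.cast_smul_eq_nsmul F, sympForm_smul_right, sympForm_self]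
    push_cast
    ring

theorem isPGroup_QS (p : ℕ) [Fact p.Prime] [CharP F p] {x : Vm} (hx0 : x ≠ 0) :
    IsPGroup p ↥(QS m x) := by
  obtain ⟨f, hxf⟩ := exists_partner m x hx0
  rintro ⟨A, hA⟩
  obtain ⟨w, b, hxw, -, rfl⟩ := exists_EE_of_mem_QS m hxf A hA
  refine ⟨1, ?_⟩
  apply Subtype.ext
  show (EE m x w b) ^ (p ^ 1) = 1
  rw [pow_one, EE_pow m hxw, ← EE_zero m x]
  apply EE_congr m rfl
  · rw [← Nat.cast_smul_eq_nsmul F, CharP.cast_eq_zero, zero_smul]
  · rw [CharP.cast_eq_zero, zero_mul]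

/-- the image of the root group in `PSp` -/
def RSb (x : Vm) : Subgroup PSpm := (tvSubgroup m x).map (mkS m)

/-- the image of `Q_x` in `PSp` -/
def QSb (x : Vm) : Subgroup PSpm := (QS m x).map (mkS m)

theorem mem_RSb_iff (x : Vm) (z : PSpm) : z ∈ RSb m x ↔ ∃ c : F, z = mkS m (tv m x c) := by
  unfold RSb
  rw [Subgroup.mem_map]
  constructor
  · rintro ⟨A, hA, rfl⟩
    obtain ⟨c, rfl⟩ := (mem_tvSubgroup m x A).mp hA
    exact ⟨c, rfl⟩
  · rintro ⟨c, rfl⟩
    exact ⟨_, (mem_tvSubgroup m x _).mpr ⟨c, rfl⟩, rfl⟩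

theorem mkS_tv_ne_one (hm : 1 ≤ m) {x : Vm} (hx0 : x ≠ 0) {c : F} (hc0 : c ≠ 0) :
    mkS m (tv m x c) ≠ 1 := by
  intro h
  obtain ⟨a, ha⟩ := (mkS_eq_one_iff m hm _).mp h
  have ha1 : a = 1 := by
    apply EE_eigen m (BB_zero_right m x) c x hx0 a
    rw [EE_eq_tv]
    exact ha x
  obtain ⟨f, hxf⟩ := exists_partner m x hx0
  have hfx : BB f x = -1 := by rw [sympForm_swap, hxf]
  have h1 := ha f
  rw [tv_smul_vec, ha1, one_smul, hfx] at h1
  have h2 : c • x = 0 := by linear_combination (norm := module) (-1 : F) • h1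
  rcases smul_eq_zero.mp h2 with h3 | h3
  · exact hc0 h3
  · exact hx0 h3

/-- the root group is the double centraliser of any of its nontrivial elements -/
theorem mem_RSb_iff_double {x : Vm} (hx0 : x ≠ 0) {c : F} (hc0 : c ≠ 0) (z : PSpm) :
    z ∈ RSb m x ↔
      ∀ g : PSpm, g * mkS m (tv m x c) = mkS m (tv m x c) * g → g * z = z * g := by
  constructor
  · intro hz g hg
    obtain ⟨c', rfl⟩ := (mem_RSb_iff m x z).mp hz
    obtain ⟨A, rfl⟩ := mkS_surjective m g
    rw [← map_mul, ← map_mul] at hg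
    have h1 := commute_of_mkS_QS m hx0 A _ (tv_mem_QS m x c) hg
    obtain ⟨a, haa, hAx⟩ := stab_of_commute_root m hx0 A hc0 h1
    have h2 : A * tv m x c' * A⁻¹ = tv m x c' := by
      rw [conj_tv', hAx, tv_smul, haa, one_mul]
    rw [← map_mul, ← map_mul]
    congr 1
    calc A * tv m x c' = (A * tv m x c' * A⁻¹) * A := by group
      _ = tv m x c' * A := by rw [h2]
  · intro hz
    obtain ⟨A, rfl⟩ := mkS_surjective m z
    have hA : ∀ u ∈ QS m x, mkS m (A * u) = mkS m (u * A) := by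
      intro u hu
      have h1 := hz (mkS m u) (by
        rw [← map_mul, ← map_mul]
        congr 1
        exact root_comm_QS m c hu)
      rw [map_mul, map_mul]
      exact h1.symm
    obtain ⟨u₀, hu₀, hAu₀, -⟩ := cent_QS_mem m hx0 A hA
    obtain ⟨b, hb⟩ := cent_stab m hx0 u₀ hu₀ (fun w hxw => by
      have h1 := hz (mkS m (tv m w 1)) (by
        rw [← map_mul, ← map_mul]
        congr 1
        exact (root_comm_of_orth m hxw c 1).symm)
      rw [hAu₀, ← map_mul, ← map_mul] at h1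
      exact (commute_of_mkS_QS m hx0 (tv m w 1) u₀ hu₀ h1).symm)
    rw [hAu₀, hb]
    exact (mem_RSb_iff m x _).mpr ⟨b, rfl⟩

theorem two_ne_zero_of_char (p : ℕ) [Fact p.Prime] [CharP F p] (hp : p ≠ 2) : (2 : F) ≠ 0 := by
  intro h
  have h1 : ((2 : ℕ) : F) = 0 := by exact_mod_cast h
  rw [CharP.cast_eq_zero_iff F p] at h1
  have := (Nat.prime_dvd_prime_iff_eq (Fact.out : p.Prime) Nat.prime_two).mp h1
  exact hp this

/-- some nontrivial root element goes to a root element (odd characteristic) -/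
theorem exists_root_to_root_odd [Finite F] (p : ℕ) [Fact p.Prime] [CharP F p] (hp : p ≠ 2)
    (hm : 1 ≤ m) (β : MulAut PSpm) {x : Vm} (hx0 : x ≠ 0) :
    ∃ c : F, c ≠ 0 ∧ ∃ (y : Vm) (c' : F), y ≠ 0 ∧
      β (mkS m (tv m x c)) = mkS m (tv m y c') := by
  have h2 : (2 : F) ≠ 0 := two_ne_zero_of_char p hp
  have hR : IsPGroup p ↥(QSb m x) := (isPGroup_QS m p hx0).map _
  obtain ⟨P, hP⟩ := hR.exists_le_sylow
  have hQP : ∀ u ∈ QS m x, mkS m u ∈ (P : Subgroup PSpm) :=
    fun u hu => hP (Subgroup.mem_map_of_mem _ hu)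
  have hx1 : mkS m (tv m x 1) ∈ (P : Subgroup PSpm) := hQP _ (tv_mem_QS m x 1)
  have : Nontrivial (P : Subgroup PSpm) :=
    ⟨⟨⟨_, hx1⟩, 1, fun h1 => mkS_tv_ne_one m hm hx0 one_ne_zero (congrArg Subtype.val h1)⟩⟩
  have hnt : Nontrivial (Subgroup.center (P : Subgroup PSpm)) := P.isPGroup'.center_nontrivial
  obtain ⟨z, hz⟩ := exists_ne (1 : Subgroup.center (P : Subgroup PSpm))
  have hzP : ((z : (P : Subgroup PSpm)) : PSpm) ∈ (P : Subgroup PSpm) := (z : (P : Subgroup PSpm)).2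
  have hzc : ∀ y ∈ (P : Subgroup PSpm), y * ((z : (P : Subgroup PSpm)) : PSpm)
      = ((z : (P : Subgroup PSpm)) : PSpm) * y := by
    intro y hy
    have := Subgroup.mem_center_iff.mp z.2 ⟨y, hy⟩
    exact congrArg Subtype.val this
  have hz1 : ((z : (P : Subgroup PSpm)) : PSpm) ≠ 1 := by
    intro h1
    apply hz
    apply Subtype.ext
    apply Subtype.ext
    exact h1
  obtain ⟨z0, hz0⟩ : ∃ z0 : PSpm, z0 = ((z : (P : Subgroup PSpm)) : PSpm) := ⟨_, rfl⟩
  rw [← hz0] at hzP hzc hz1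
  have key : ∀ z1 : PSpm, (∀ y ∈ (P : Subgroup PSpm), y * z1 = z1 * y) →
      ∃ c : F, z1 = mkS m (tv m x c) := by
    intro z1 h1
    obtain ⟨A, rfl⟩ := mkS_surjective m z1
    obtain ⟨u₀, hu₀, hAu₀, hcu₀⟩ := cent_QS_mem m hx0 A (fun u hu => by
      rw [map_mul, map_mul]
      exact (h1 _ (hQP u hu)).symm)
    obtain ⟨b, hb⟩ := cent_QS_odd m h2 hx0 u₀ hu₀ hcu₀
    exact ⟨b, by rw [hAu₀, hb]⟩
  obtain ⟨c, hzc'⟩ := key z0 hzc
  have hc0 : c ≠ 0 := by
    rintro rfl
    apply hz1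
    rw [hzc', tv_zero, map_one]
  obtain ⟨h0, hh1, hh2⟩ := Cfsg.Agent.Lib.Helper9.APSL.sylow_center_aut β P z0 hzP hzc
  obtain ⟨c', hz1'⟩ := key _ hh2
  obtain ⟨B, rfl⟩ := mkS_surjective m h0
  refine ⟨c, hc0, B • x, c', (smul_ne_zero_iff_ne B).mpr hx0, ?_⟩
  rw [← hzc']
  have h3 : β z0 = mkS m B * ((mkS m B)⁻¹ * β z0 * mkS m B) * (mkS m B)⁻¹ := by group
  rw [h3, hz1', ← map_inv, ← map_mul, ← map_mul, conj_tv']

/-- an automorphism sending a nontrivial root element to a root element sends the root group to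
the root group -/
theorem map_RSb (hm : 1 ≤ m) (β : MulAut PSpm) {x y : Vm} (hx0 : x ≠ 0) (hy0 : y ≠ 0) {c c' : F}
    (hc0 : c ≠ 0) (h : β (mkS m (tv m x c)) = mkS m (tv m y c')) :
    (RSb m x).map (β : PSpm ≃* PSpm).toMonoidHom = RSb m y := by
  have hc'0 : c' ≠ 0 := by
    rintro rfl
    rw [tv_zero, map_one] at h
    have : mkS m (tv m x c) = 1 := by
      have := congrArg β.symm h
      simpa using this
    exact mkS_tv_ne_one m hm hx0 hc0 this
  ext z
  rw [Subgroup.mem_map_equiv, mem_RSb_iff_double m hx0 hc0, mem_RSb_iff_double m hy0 hc'0, ← h]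
  constructor
  · intro h1 g hg
    have h2 := h1 ((β : PSpm ≃* PSpm).symm g) (by
      have := congrArg (β : PSpm ≃* PSpm).symm hg
      rw [map_mul, map_mul] at this
      simpa using this)
    have h3 := congrArg β h2
    rw [map_mul, map_mul] at h3
    simpa using h3
  · intro h1 g hg
    have h2 := h1 (β g) (by rw [← map_mul, ← map_mul, hg])
    have h3 := congrArg (β : PSpm ≃* PSpm).symm h2
    rw [map_mul, map_mul] at h3
    simpa using h3

end Cfsg.Agent.Lib.Helper9.ASP
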