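import Mathlib
import Cfsg.Prelude
import Cfsg.Agent.Lib.Helper9.ASP4

/-! Automorphisms of `PSp_{2m}(F)`, part 5: characteristic two: automorphisms permute the root
groups (`m ≥ 3`). -/

set_option autoImplicit false
open Cfsg

namespace Cfsg.Agent.Lib.Helper9.ASP

open Matrix Cfsg.Agent.Lib.Helper5.SympTv Cfsg.Agent.Lib.Helper5.SympGen
  Cfsg.Agent.Lib.Helper5.SympPerfect Cfsg.Agent.Lib.Helper5.SympBridge
  Cfsg.Agent.Lib.Helper5.SympPrimitive

attribute [local instance 2000] spAction spSMulComm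

variable {F : Type*} [Field F] (m : ℕ)

set_option quotPrecheck false
local notation "Vm" => (Fin m ⊕ Fin m → F)
local notation "Mm" => Matrix (Fin m ⊕ Fin m) (Fin m ⊕ Fin m) F
local notation "Spm" => ↥(Matrix.symplecticGroup (Fin m) F)
local notation "PSpm" => Cfsg.PSp m F
local notation "BB" => sympForm m F

/-- a vector fixed by `Q_x` is a multiple of `x` -/
theorem fixed_by_QS {x y : Vm} (hx0 : x ≠ 0) (h : ∀ u ∈ QS m x, u • y = y) :
    ∃ l : F, y = l • x := by
  have h1 := h _ (tv_mem_QS m x 1)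
  rw [tv_smul_vec, one_mul] at h1
  have hyx : BB y x = 0 := by
    have h2 : BB y x • x = 0 := by linear_combination (norm := module) h1
    rcases smul_eq_zero.mp h2 with h3 | h3
    · exact h3
    · exact absurd h3 hx0
  have hperp : ∀ w : Vm, BB x w = 0 → BB y w = 0 := by
    intro w hxw
    have h2 := h _ (EE_mem_QS m hxw 0)
    rw [EE_smul m hxw, hyx] at h2
    have h3 : BB y w • x = 0 := by linear_combination (norm := module) h2
    rcases smul_eq_zero.mp h3 with h4 | h4
    · exact h4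
    · exact absurd h4 hx0
  by_contra hcon
  push Not at hcon
  have hli : LinearIndependent F ![y, x] := by
    rw [LinearIndependent.pair_iff]
    intro s t hst
    have hs : s = 0 := by
      by_contra hs
      apply hcon (-(s⁻¹ * t))
      have := congrArg (fun z : Vm => s⁻¹ • z) hst
      simp only [smul_add, smul_smul, inv_mul_cancel₀ hs, one_smul, smul_zero] at this
      linear_combination (norm := module) this
    rw [hs, zero_smul, zero_add] at hst
    rcases smul_eq_zero.mp hst with h3 | h3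
    · exact ⟨hs, h3⟩
    · exact absurd h3 hx0
  obtain ⟨z, hz1, hz2⟩ := exists_perp_cross m y x hli
  exact hz2 (hperp z hz1)

/-- dependent on a nonzero vector -/
theorem exists_smul_of_not_li {x w : Vm} (hx0 : x ≠ 0) (h : ¬ LinearIndependent F ![x, w]) :
    ∃ l : F, w = l • x := by
  by_contra hcon
  push Not at hcon
  apply h
  rw [LinearIndependent.pair_iff]
  intro s t hst
  have ht : t = 0 := by
    by_contra ht
    apply hcon (-(t⁻¹ * s))
    have := congrArg (fun z : Vm => t⁻¹ • z) hst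
    simp only [smul_add, smul_smul, inv_mul_cancel₀ ht, one_smul, smul_zero] at this
    linear_combination (norm := module) this
  rw [ht, zero_smul, add_zero] at hst
  rcases smul_eq_zero.mp hst with h3 | h3
  · exact ⟨h3, ht⟩
  · exact absurd h3 hx0

section even
variable [CharP F 2]

theorem char_two : (2 : F) = 0 := by
  have := CharP.cast_eq_zero F 2
  exact_mod_cast this

theorem vec_add_self (v : Vm) : v + v = 0 := by
  have : v + v = (2 : F) • v := by module
  rw [this, char_two, zero_smul]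

theorem sq_one_char_two {a : F} (ha : a * a = 1) : a = 1 := by
  have h2 : (2 : F) = 0 := char_two
  have : (a - 1) * (a - 1) = 0 := by linear_combination ha - (a - 1) * h2
  rcases mul_eq_zero.mp this with h | h <;> exact sub_eq_zero.mp h

theorem center_eq_bot (hm : 1 ≤ m) : Subgroup.center Spm = ⊥ := by
  rw [eq_bot_iff]
  intro A hA
  obtain ⟨a, ha⟩ := (mem_center_iff m A).mp hA
  have ha1 : a = 1 := sq_one_char_two (scalar_sq m hm A a ha)
  rw [Subgroup.mem_bot]
  apply sp_ext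
  intro v
  rw [ha v, ha1, one_smul, one_smul]

theorem mkS_injective (hm : 1 ≤ m) : Function.Injective (mkS m : Spm → PSpm) := by
  rw [← MonoidHom.ker_eq_bot_iff]
  unfold mkS
  rw [QuotientGroup.ker_mk', center_eq_bot m hm]

/-- transvections are not squares in characteristic two -/
theorem tv_not_square {x : Vm} (hx0 : x ≠ 0) {c : F} (hc0 : c ≠ 0) (g : Spm) :
    g * g ≠ tv m x c := by
  intro h
  have h2 : (2 : F) = 0 := char_two
  have hcomm : g * tv m x c = tv m x c * g := by rw [← h, mul_assoc]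
  obtain ⟨a, haa, hgx⟩ := stab_of_commute_root m hx0 g hc0 hcomm
  rw [sq_one_char_two haa, one_smul] at hgx
  obtain ⟨f, hxf⟩ := exists_partner m x hx0
  have hfx : BB f x = -1 := by rw [sympForm_swap, hxf]
  have h3 : BB (g • f) (g • (g • f)) = BB f (g • f) := BB_smul m g f (g • f)
  have h4 : g • (g • f) = f + (c * BB f x) • x := by
    rw [← mul_smul, h, tv_smul_vec]
  have h5 : BB (g • f) x = BB f x := by
    nth_rewrite 1 [← hgx]
    exact BB_smul m g f x
  rw [h4, sympForm_add_right, sympForm_smul_right, h5, hfx, sympForm_swap m f (g • f)] at h3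
  apply hc0
  linear_combination h3 - BB (g • f) f * h2

theorem EE_sq_one {x u : Vm} (h : BB x u = 0) : EE m x u 0 * EE m x u 0 = 1 := by
  rw [EE_mul m h h, ← EE_zero m x]
  apply EE_congr m rfl (vec_add_self m u)
  rw [sympForm_self]
  ring

theorem tv_sq_one (w : Vm) (d : F) : tv m w d * tv m w d = 1 := by
  have : d + d = 0 := by linear_combination d * (char_two : (2 : F) = 0)
  rw [tv_mul, this, tv_zero]

theorem EE_symm {x w : Vm} (h : BB x w = 0) : EE m w x 0 = EE m x w 0 := by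
  apply sp_ext
  intro v
  rw [EE_smul m h, EE_smul m (BB_symm_zero m h)]
  module

/-- the elements of `Q_x` of type `c_2` are squares -/
theorem EE_square_c {x w w' : Vm} (hxw : BB x w = 0) (hxw' : BB x w' = 0) (hww' : BB w w' = 1)
    {b : F} (hb : b ≠ 0) : ∃ g : Spm, g * g = EE m x w b := by
  have h2 : (2 : F) = 0 := char_two
  have hxu : BB x (b • w') = 0 := by rw [sympForm_smul_right, hxw', mul_zero]
  refine ⟨EE m x (b • w') 0 * tv m w b⁻¹, ?_⟩
  have h1 : EE m x (b • w') 0 * tv m w b⁻¹ * (EE m x (b • w') 0 * tv m w b⁻¹) =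
      (EE m x (b • w') 0 * tv m w b⁻¹ * (EE m x (b • w') 0)⁻¹) *
        ((EE m x (b • w') 0 * EE m x (b • w') 0) * tv m w b⁻¹) := by group
  rw [h1, EE_sq_one m hxu, one_mul, conj_tv', EE_smul m hxu, BB_symm_zero m hxw,
    sympForm_smul_right, hww']
  apply sp_ext
  intro v
  have hdb : b⁻¹ * b = 1 := inv_mul_cancel₀ hb
  rw [mul_smul, tv_smul_vec, tv_smul_vec, EE_smul m hxw]
  simp only [sympForm_add_left, sympForm_add_right, sympForm_smul_left, sympForm_smul_right,
    sympForm_self, hxw, BB_symm_zero m hxw, zero_smul, mul_zero, add_zero, zero_mul, mul_one]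
  linear_combination (norm := module) (BB v x * hdb) • w + ((BB v w + b * BB v x) * hdb) • x +
    (b⁻¹ * BB v w * h2) • w

/-- the elements of `Q_x` of type `a_2` are squares when there is room -/
theorem EE_square_a {x w u u' : Vm} (hxw : BB x w = 0) (hxu : BB x u = 0) (hxu' : BB x u' = 0)
    (hwu : BB w u = 0) (hwu' : BB w u' = 0) (huu' : BB u u' = 1) :
    ∃ g : Spm, g * g = EE m x w 0 := by
  refine ⟨EE m x u' 0 * EE m w u 0, ?_⟩
  have h1 : EE m x u' 0 * EE m w u 0 * (EE m x u' 0 * EE m w u 0) =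
      (EE m x u' 0 * EE m w u 0 * (EE m x u' 0)⁻¹) *
        ((EE m x u' 0 * EE m x u' 0) * EE m w u 0) := by group
  have h3 : EE m x u' 0 • w = w := by
    rw [EE_smul m hxu', BB_symm_zero m hxw, hwu']
    module
  have h4 : EE m x u' 0 • u = u + x := by
    rw [EE_smul m hxu', BB_symm_zero m hxu, huu']
    module
  have h5 : BB w (u + x) = 0 := by
    rw [sympForm_add_right, hwu, BB_symm_zero m hxw, add_zero]
  rw [h1, EE_sq_one m hxu', one_mul, EE_conj m _ hwu, h3, h4, EE_mul m h5 hwu,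
    ← EE_symm m hxw]
  apply EE_congr m rfl
  · have := vec_add_self m u
    linear_combination (norm := module) this
  · rw [sympForm_add_right, sympForm_self, BB_symm_zero m hxu]
    ring

omit [CharP F 2] in
theorem BB_fI_eI (i : Fin m) :
    BB (Pi.single (Sum.inr i) 1) (Pi.single (Sum.inl i) 1) = 1 := by
  rw [sympForm_single_inl]
  simp

omit [CharP F 2] in
theorem BB_eI_fI_ne {i j : Fin m} (h : i ≠ j) :
    BB (Pi.single (Sum.inl i) 1) (Pi.single (Sum.inr j) 1) = 0 := by
  rw [sympForm_single_inr, Pi.single_apply]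
  simp [h.symm]

omit [CharP F 2] in
theorem BB_eI_eI_ne (i j : Fin m) :
    BB (Pi.single (Sum.inl i) 1) (Pi.single (Sum.inl j) 1) = 0 := sympForm_inl_inl m i j

omit [CharP F 2] in
/-- an orthogonal independent pair is the image of the first two basis vectors -/
theorem exists_move_orth_pair {i0 i1 : Fin m} (h01 : i0 ≠ i1) {x w : Vm} (hxw : BB x w = 0)
    (hli : LinearIndependent F ![x, w]) :
    ∃ A : Spm, A • (Pi.single (Sum.inl i0) 1 : Vm) = x ∧
      A • (Pi.single (Sum.inl i1) 1 : Vm) = w := by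
  have hx0 : x ≠ 0 := hli.ne_zero 0
  obtain ⟨A₁, hA₁⟩ := exists_move m (Pi.single (Sum.inl i0) 1 : Vm) x (single_inl_ne_zero m i0) hx0
  have hA₁' : A₁ • (Pi.single (Sum.inl i0) 1 : Vm) = x := hA₁
  obtain ⟨w₁, hw₁⟩ : ∃ w₁ : Vm, w₁ = A₁⁻¹ • w := ⟨_, rfl⟩
  have hAw₁ : A₁ • w₁ = w := by rw [hw₁, smul_inv_smul]
  have h1 : BB (Pi.single (Sum.inl i0) 1) w₁ = 0 := by
    rw [← BB_smul m A₁, hA₁', hAw₁, hxw]
  have hli1 : LinearIndependent F ![(Pi.single (Sum.inl i0) 1 : Vm), Pi.single (Sum.inl i1) 1] := by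
    rw [LinearIndependent.pair_iff]
    intro s t hst
    have e0 := congrFun hst (Sum.inl i0)
    have e1 := congrFun hst (Sum.inl i1)
    simp [Pi.single_apply, h01, h01.symm] at e0 e1
    exact ⟨e0, e1⟩
  have hli2 : LinearIndependent F ![(Pi.single (Sum.inl i0) 1 : Vm), w₁] := by
    rw [LinearIndependent.pair_iff]
    intro s t hst
    have := congrArg (fun z : Vm => A₁ • z) hst
    simp only [smul_add, sp_smul_smul, hA₁', hAw₁, smul_zero] at this
    exact (LinearIndependent.pair_iff.mp hli) s t this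
  obtain ⟨A₂, hA₂, hA₂'⟩ := stab_move_orth m (Pi.single (Sum.inl i0) 1 : Vm)
    (Pi.single (Sum.inl i1) 1) w₁ (BB_eI_eI_ne m i0 i1) h1 hli1 hli2
  refine ⟨A₁ * A₂, ?_, ?_⟩
  · rw [mul_smul]
    show A₁ • (A₂.1 *ᵥ _) = x
    rw [hA₂]
    exact hA₁'
  · rw [mul_smul]
    show A₁ • (A₂.1 *ᵥ _) = w
    rw [hA₂']
    exact hAw₁

/-- the elements of `Q_x` that are not transvections are squares for `m ≥ 3` -/
theorem exists_square_of_indep (hm : 3 ≤ m) {x w : Vm} (hxw : BB x w = 0)
    (hli : LinearIndependent F ![x, w]) (b : F) : ∃ g : Spm, g * g = EE m x w b := by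
  by_cases hb : b = 0
  · obtain ⟨i0, i1, i2, h01, h02, h12⟩ : ∃ i0 i1 i2 : Fin m, i0 ≠ i1 ∧ i0 ≠ i2 ∧ i1 ≠ i2 :=
      ⟨⟨0, by omega⟩, ⟨1, by omega⟩, ⟨2, by omega⟩, by simp [Fin.ext_iff], by simp [Fin.ext_iff],
        by simp [Fin.ext_iff]⟩
    obtain ⟨A, hAx, hAw⟩ := exists_move_orth_pair m h01 hxw hli
    rw [hb]
    apply EE_square_a m hxw (u := A • (Pi.single (Sum.inr i2) 1 : Vm))
      (u' := A • (Pi.single (Sum.inl i2) 1 : Vm))
    · rw [← hAx, BB_smul, BB_eI_fI_ne m h02]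
    · rw [← hAx, BB_smul, BB_eI_eI_ne]
    · rw [← hAw, BB_smul, BB_eI_fI_ne m h12]
    · rw [← hAw, BB_smul, BB_eI_eI_ne]
    · rw [BB_smul, BB_fI_eI]
  · have hli' : LinearIndependent F ![w, x] := by
      rw [LinearIndependent.pair_iff] at hli ⊢
      intro s t hst
      have := hli t s (by rw [add_comm]; exact hst)
      exact ⟨this.2, this.1⟩
    obtain ⟨z, hz1, hz2⟩ := exists_perp_cross m w x hli'
    apply EE_square_c m hxw (w' := (BB w z)⁻¹ • z) _ _ hb
    · rw [sympForm_smul_right, hz1, mul_zero]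
    · rw [sympForm_smul_right, inv_mul_cancel₀ hz2]

/-- some nontrivial root element goes to a root element (characteristic two, `m ≥ 3`) -/
theorem exists_root_to_root_even [Finite F] (hm : 3 ≤ m) (β : MulAut PSpm) {x : Vm}
    (hx0 : x ≠ 0) :
    ∃ c : F, c ≠ 0 ∧ ∃ (y : Vm) (c' : F), y ≠ 0 ∧
      β (mkS m (tv m x c)) = mkS m (tv m y c') := by
  haveI : Fact (Nat.Prime 2) := ⟨Nat.prime_two⟩
  have hm1 : 1 ≤ m := by omega
  have hR : IsPGroup 2 ↥(QSb m x) := (isPGroup_QS m 2 hx0).map _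
  obtain ⟨P, hP⟩ := hR.exists_le_sylow
  have hQP : ∀ u ∈ QS m x, mkS m u ∈ (P : Subgroup PSpm) :=
    fun u hu => hP (Subgroup.mem_map_of_mem _ hu)
  obtain ⟨Pt, hPt⟩ : ∃ Pt : Subgroup Spm, Pt = (P : Subgroup PSpm).comap (mkS m) := ⟨_, rfl⟩
  have hPtmem : ∀ g : Spm, g ∈ Pt ↔ mkS m g ∈ (P : Subgroup PSpm) := by
    intro g; rw [hPt]; rfl
  have hPtp : IsPGroup 2 ↥Pt := by
    rw [hPt]
    exact P.isPGroup'.comap_of_injective (mkS m) (mkS_injective m hm1)
  -- a fixed nonzero vector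
  obtain ⟨v1, hv1⟩ := exists_ne_zero (F := F) m hm1
  have hcard : 2 ∣ Nat.card Vm := by
    have hp : 2 • v1 = 0 := by
      rw [two_smul]; exact vec_add_self m v1
    have h1 : addOrderOf v1 = 2 := addOrderOf_eq_prime hp hv1
    rw [← h1]
    exact addOrderOf_dvd_natCard _
  have h0fix : (0 : Vm) ∈ MulAction.fixedPoints ↥Pt Vm := by
    intro g
    show (g : Spm) • (0 : Vm) = 0
    rw [smul_zero]
  obtain ⟨y', hy'fix, hy'0⟩ := hPtp.exists_fixed_point_of_prime_dvd_card_of_fixed_point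
    Vm hcard h0fix
  have hfix : ∀ g : Spm, mkS m g ∈ (P : Subgroup PSpm) → g • y' = y' :=
    fun g hg => hy'fix ⟨g, (hPtmem g).mpr hg⟩
  obtain ⟨l, hl⟩ := fixed_by_QS m hx0 (fun u hu => hfix u (hQP u hu))
  have hl0 : l ≠ 0 := by
    rintro rfl
    rw [zero_smul] at hl
    exact hy'0 hl.symm
  have hPx : ∀ g : Spm, mkS m g ∈ (P : Subgroup PSpm) → g • x = x := by
    intro g hg
    have h1 := hfix g hg
    rw [hl, sp_smul_smul] at h1
    have := congrArg (fun z : Vm => l⁻¹ • z) h1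
    simpa only [smul_smul, inv_mul_cancel₀ hl0, one_smul] using this
  obtain ⟨z0, hz0⟩ : ∃ z0 : PSpm, z0 = mkS m (tv m x 1) := ⟨_, rfl⟩
  have hzP : z0 ∈ (P : Subgroup PSpm) := by rw [hz0]; exact hQP _ (tv_mem_QS m x 1)
  have hzc : ∀ y ∈ (P : Subgroup PSpm), y * z0 = z0 * y := by
    intro y hy
    obtain ⟨g, rfl⟩ := mkS_surjective m y
    rw [hz0, ← map_mul, ← map_mul]
    congr 1
    have h1 : g * tv m x 1 * g⁻¹ = tv m x 1 := by rw [conj_tv', hPx g hy]
    calc g * tv m x 1 = (g * tv m x 1 * g⁻¹) * g := by group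
      _ = tv m x 1 * g := by rw [h1]
  obtain ⟨h0, hh1, hh2⟩ := Cfsg.Agent.Lib.Helper9.APSL.sylow_center_aut β P z0 hzP hzc
  obtain ⟨A₁, hA₁⟩ := mkS_surjective m (h0⁻¹ * β z0 * h0)
  obtain ⟨u₀, hu₀, hAu₀, -⟩ := cent_QS_mem m hx0 A₁ (fun u hu => by
    rw [map_mul, map_mul, hA₁]
    exact (hh2 _ (hQP u hu)).symm)
  obtain ⟨f, hxf⟩ := exists_partner m x hx0
  obtain ⟨w, b, hxw, -, hu₀E⟩ := exists_EE_of_mem_QS m hxf u₀ hu₀
  obtain ⟨B, rfl⟩ := mkS_surjective m h0
  have hβ : β z0 = mkS m B * mkS m (EE m x w b) * (mkS m B)⁻¹ := by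
    rw [← hu₀E, ← hAu₀, hA₁]
    group
  by_cases hli : LinearIndependent F ![x, w]
  · exfalso
    obtain ⟨g, hg⟩ := exists_square_of_indep m hm hxw hli b
    obtain ⟨k, hk⟩ := mkS_surjective m (β⁻¹ (mkS m B * mkS m g * (mkS m B)⁻¹))
    have h1 : mkS m (k * k) = z0 := by
      rw [map_mul, hk, ← map_mul]
      apply (β : PSpm ≃* PSpm).injective
      show β (β⁻¹ _) = β z0
      rw [MulAut.apply_inv_self, hβ, ← hg, map_mul]
      group
    rw [hz0] at h1
    exact tv_not_square m hx0 one_ne_zero k (mkS_injective m hm1 h1)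
  · obtain ⟨l', hl'⟩ := exists_smul_of_not_li m hx0 hli
    have h1 : EE m x w b = tv m x (b + 2 * l') := by
      have := EE_shift m (BB_zero_right m x) b l'
      rw [zero_add] at this
      rw [hl', this, EE_eq_tv]
    refine ⟨1, one_ne_zero, B • x, b + 2 * l', (smul_ne_zero_iff_ne B).mpr hx0, ?_⟩
    rw [← hz0, hβ, h1, ← map_inv, ← map_mul, ← map_mul, conj_tv']

end even

end Cfsg.Agent.Lib.Helper9.ASP
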