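import Mathlib
import Cfsg.Prelude
import Cfsg.Agent.Lib.Helper9.ASP5

/-! Automorphisms of `PSp_{2m}(F)`, part 6: the permutation of points induced by an automorphism:
orthogonality, lines, normalisation on a hyperbolic pair. -/

set_option autoImplicit false
open Cfsg

namespace Cfsg.Agent.Lib.Helper9.ASP

open Matrix Cfsg.Agent.Lib.Helper5.SympTv Cfsg.Agent.Lib.Helper5.SympGen
  Cfsg.Agent.Lib.Helper5.SympPerfect Cfsg.Agent.Lib.Helper5.SympBridge
  Cfsg.Agent.Lib.Helper5.SympPrimitive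

attribute [local instance 2000] spAction spSMulComm

variable {F : Type*} [Field F] (m : ℕ)

set_option quotPrecheck false
local notation "Vm" => (Fin m ⊕ Fin m → F)
local notation "Mm" => Matrix (Fin m ⊕ Fin m) (Fin m ⊕ Fin m) F
local notation "Spm" => ↥(Matrix.symplecticGroup (Fin m) F)
local notation "PSpm" => Cfsg.PSp m F
local notation "BB" => sympForm m F

/-- automorphisms permute the root groups -/
theorem aut_RSb [Finite F] (p : ℕ) [Fact p.Prime] [CharP F p] (hm : 2 ≤ m) (h4 : m = 2 → p ≠ 2)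
    (β : MulAut PSpm) {x : Vm} (hx0 : x ≠ 0) :
    ∃ y : Vm, y ≠ 0 ∧ (RSb m x).map (β : PSpm ≃* PSpm).toMonoidHom = RSb m y := by
  by_cases hp : p = 2
  · subst hp
    have hm3 : 3 ≤ m := by
      by_contra h
      have : m = 2 := by omega
      exact h4 this rfl
    obtain ⟨c, hc0, y, c', hy0, h⟩ := exists_root_to_root_even m hm3 β hx0
    exact ⟨y, hy0, map_RSb m (by omega) β hx0 hy0 hc0 h⟩
  · obtain ⟨c, hc0, y, c', hy0, h⟩ := exists_root_to_root_odd m p hp (by omega) β hx0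
    exact ⟨y, hy0, map_RSb m (by omega) β hx0 hy0 hc0 h⟩

theorem RSb_conj (A : Spm) (x : Vm) :
    (RSb m x).map (MulAut.conj (mkS m A) : PSpm ≃* PSpm).toMonoidHom = RSb m (A • x) := by
  ext z
  rw [Subgroup.mem_map, mem_RSb_iff]
  constructor
  · rintro ⟨t, ht, rfl⟩
    obtain ⟨c, rfl⟩ := (mem_RSb_iff m x t).mp ht
    refine ⟨c, ?_⟩
    show mkS m A * mkS m (tv m x c) * (mkS m A)⁻¹ = _
    rw [← map_inv, ← map_mul, ← map_mul, conj_tv']
  · rintro ⟨c, rfl⟩
    refine ⟨mkS m (tv m x c), (mem_RSb_iff m x _).mpr ⟨c, rfl⟩, ?_⟩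
    show mkS m A * mkS m (tv m x c) * (mkS m A)⁻¹ = _
    rw [← map_inv, ← map_mul, ← map_mul, conj_tv']

theorem RSb_smul {a : F} (ha : a ≠ 0) (x : Vm) : RSb m (a • x) = RSb m x := by
  unfold RSb
  rw [tvSubgroup_smul m a ha x]

theorem RSb_eq_imp (hm : 1 ≤ m) {x y : Vm} (hx0 : x ≠ 0) (hy0 : y ≠ 0)
    (h : RSb m x = RSb m y) : ∃ a : F, a ≠ 0 ∧ y = a • x := by
  have h1 : mkS m (tv m y 1) ∈ RSb m x := by
    rw [h]; exact (mem_RSb_iff m y _).mpr ⟨1, rfl⟩
  obtain ⟨c, hc⟩ := (mem_RSb_iff m x _).mp h1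
  obtain ⟨a, ha⟩ := (mkS_eq_iff m _ _).mp hc
  have hy : tv m y 1 • y = y := by
    rw [tv_smul_vec, sympForm_self, mul_zero, zero_smul, add_zero]
  have ha1 : a = 1 := by
    apply EE_eigen m (BB_zero_right m x) c y hy0 a
    rw [EE_eq_tv]
    have := ha y
    rw [hy] at this
    exact this
  obtain ⟨g, hyg⟩ := exists_partner m y hy0
  have hgy : BB g y = -1 := by rw [sympForm_swap, hyg]
  have h2 := ha g
  rw [ha1, one_smul, tv_smul_vec, tv_smul_vec, hgy] at h2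
  have h3 : y = (-(c * BB g x)) • x := by linear_combination (norm := module) h2
  refine ⟨-(c * BB g x), ?_, h3⟩
  intro h0
  rw [h0, zero_smul] at h3
  exact hy0 h3

theorem comm_of_orth {x y : Vm} (hxy : BB x y = 0) :
    ∀ s ∈ RSb m x, ∀ t ∈ RSb m y, s * t = t * s := by
  intro s hs t ht
  obtain ⟨c, rfl⟩ := (mem_RSb_iff m x s).mp hs
  obtain ⟨c', rfl⟩ := (mem_RSb_iff m y t).mp ht
  rw [← map_mul, ← map_mul, root_comm_of_orth m hxy]

theorem orth_of_root_comm {x y : Vm} (hx0 : x ≠ 0) (hy0 : y ≠ 0)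
    (h : ∀ s ∈ RSb m x, ∀ t ∈ RSb m y, s * t = t * s) : BB x y = 0 := by
  have h1 := h _ ((mem_RSb_iff m x _).mpr ⟨1, rfl⟩) _ ((mem_RSb_iff m y _).mpr ⟨1, rfl⟩)
  rw [← map_mul, ← map_mul] at h1
  have h2 := commute_of_mkS_QS m hy0 (tv m x 1) (tv m y 1) (tv_mem_QS m y 1) h1
  obtain ⟨a, haa, hay⟩ := stab_of_commute_root m hy0 (tv m x 1) one_ne_zero h2
  have ha1 : a = 1 := by
    apply EE_eigen m (BB_zero_right m x) 1 y hy0 a
    rw [EE_eq_tv]
    exact hay
  rw [ha1, one_smul, tv_smul_vec, one_mul] at hay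
  have h3 : BB y x • x = 0 := by linear_combination (norm := module) hay
  rcases smul_eq_zero.mp h3 with h4 | h4
  · rw [sympForm_swap, h4, neg_zero]
  · exact absurd h4 hx0

/-- the point `x` goes to the point `y` under `β` -/
def Pt (β : MulAut PSpm) (x y : Vm) : Prop :=
  (RSb m x).map (β : PSpm ≃* PSpm).toMonoidHom = RSb m y

theorem map_mul_aut (K : Subgroup PSpm) (γ β : MulAut PSpm) :
    K.map ((γ * β : MulAut PSpm) : PSpm ≃* PSpm).toMonoidHom =
      (K.map (β : PSpm ≃* PSpm).toMonoidHom).map (γ : PSpm ≃* PSpm).toMonoidHom := by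
  rw [Subgroup.map_map]
  rfl

theorem Pt_one (x : Vm) : Pt m 1 x x := by
  unfold Pt
  ext z
  rw [Subgroup.mem_map]
  constructor
  · rintro ⟨t, ht, rfl⟩
    exact ht
  · intro hz
    exact ⟨z, hz, rfl⟩

theorem Pt.mul {β γ : MulAut PSpm} {x y z : Vm} (h : Pt m β x y) (h' : Pt m γ y z) :
    Pt m (γ * β) x z := by
  unfold Pt at h h' ⊢
  rw [map_mul_aut, h, h']

theorem Pt.inv {β : MulAut PSpm} {x y : Vm} (h : Pt m β x y) : Pt m β⁻¹ y x := by
  unfold Pt at h ⊢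
  rw [← h, ← map_mul_aut, inv_mul_cancel]
  exact Pt_one m x

theorem Pt_conj (A : Spm) (x : Vm) : Pt m (MulAut.conj (mkS m A)) x (A • x) := RSb_conj m A x

theorem Pt.smul_right {β : MulAut PSpm} {x y : Vm} (h : Pt m β x y) {a : F} (ha : a ≠ 0) :
    Pt m β x (a • y) := by
  unfold Pt at h ⊢
  rw [h, RSb_smul m ha]

theorem Pt.smul_left {β : MulAut PSpm} {x y : Vm} (h : Pt m β x y) {a : F} (ha : a ≠ 0) :
    Pt m β (a • x) y := by
  unfold Pt at h ⊢
  rw [RSb_smul m ha, h]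

theorem Pt.unique (hm : 1 ≤ m) {β : MulAut PSpm} {x y y' : Vm} (h : Pt m β x y)
    (h' : Pt m β x y') (hy0 : y ≠ 0) (hy'0 : y' ≠ 0) : ∃ a : F, a ≠ 0 ∧ y' = a • y := by
  unfold Pt at h h'
  exact RSb_eq_imp m hm hy0 hy'0 (h.symm.trans h')

theorem Pt.orth {β : MulAut PSpm} {x y x' y' : Vm} (hx : Pt m β x x') (hy : Pt m β y y')
    (hx'0 : x' ≠ 0) (hy'0 : y' ≠ 0) (hxy : BB x y = 0) : BB x' y' = 0 := by
  apply orth_of_root_comm m hx'0 hy'0
  intro s hs t ht
  unfold Pt at hx hy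
  rw [← hx] at hs
  rw [← hy] at ht
  obtain ⟨s0, hs0, rfl⟩ := Subgroup.mem_map.mp hs
  obtain ⟨t0, ht0, rfl⟩ := Subgroup.mem_map.mp ht
  have := comm_of_orth m hxy s0 hs0 t0 ht0
  show β s0 * β t0 = β t0 * β s0
  rw [← map_mul, ← map_mul, this]

theorem Pt.orth_iff {β : MulAut PSpm} {x y x' y' : Vm} (hx : Pt m β x x') (hy : Pt m β y y')
    (hx0 : x ≠ 0) (hy0 : y ≠ 0) (hx'0 : x' ≠ 0) (hy'0 : y' ≠ 0) :
    BB x y = 0 ↔ BB x' y' = 0 :=
  ⟨fun h => Pt.orth m hx hy hx'0 hy'0 h, fun h => Pt.orth m hx.inv hy.inv hx0 hy0 h⟩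

/-- equivariance of the permutation of points -/
theorem Pt.equivariant {β : MulAut PSpm} {x y : Vm} (h : Pt m β x y) {A A' : Spm}
    (hA : β (mkS m A) = mkS m A') : Pt m β (A • x) (A' • y) := by
  have h1 : Pt m (MulAut.conj (mkS m A') * β * (MulAut.conj (mkS m A))⁻¹) (A • x) (A' • y) := by
    have h2 := ((Pt_conj m A x).inv.mul m h).mul m (Pt_conj m A' y)
    rw [← mul_assoc] at h2
    exact h2
  have h3 : MulAut.conj (mkS m A') * β * (MulAut.conj (mkS m A))⁻¹ = β := by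
    apply MulEquiv.ext
    intro z
    rw [MulAut.mul_apply, MulAut.mul_apply, MulAut.conj_apply, MulAut.conj_inv_apply, map_mul,
      map_mul, map_inv, hA]
    group
  rw [h3] at h1
  exact h1

/-- every automorphism permutes the points -/
def AllPt : Prop := ∀ (γ : MulAut PSpm) (x : Vm), x ≠ 0 → ∃ y : Vm, y ≠ 0 ∧ Pt m γ x y

theorem allPt [Finite F] (p : ℕ) [Fact p.Prime] [CharP F p] (hm : 2 ≤ m) (h4 : m = 2 → p ≠ 2) :
    AllPt (F := F) m := fun γ _ hx0 => aut_RSb m p hm h4 γ hx0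

/-- double orthogonal of a pair -/
theorem mem_span_pair_of_perp {x y z : Vm}
    (h : ∀ v : Vm, BB v x = 0 → BB v y = 0 → BB v z = 0) : ∃ a b : F, z = a • x + b • y := by
  have hrefl : (sympBilin F m).IsRefl := (sympBilin_isAlt m).isRefl
  have h1 : z ∈ (sympBilin F m).orthogonal ((sympBilin F m).orthogonal
      (Submodule.span F {x, y})) := by
    rw [LinearMap.BilinForm.mem_orthogonal_iff]
    intro n hn
    rw [LinearMap.BilinForm.mem_orthogonal_iff] at hn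
    have hx := hn x (Submodule.subset_span (by simp))
    have hy := hn y (Submodule.subset_span (by simp))
    rw [sympBilin_apply] at hx hy ⊢
    exact h n (BB_symm_zero m hx) (BB_symm_zero m hy)
  rw [LinearMap.BilinForm.orthogonal_orthogonal (sympBilin_nondegenerate m) hrefl] at h1
  obtain ⟨a, b, hab⟩ := Submodule.mem_span_pair.mp h1
  exact ⟨a, b, hab.symm⟩

/-- the permutation of points preserves lines -/
theorem Pt.line (hall : AllPt (F := F) m) {β : MulAut PSpm} {x y z x' y' z' : Vm}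
    (hx : Pt m β x x') (hy : Pt m β y y') (hz : Pt m β z z')
    (hx0 : x ≠ 0) (hy0 : y ≠ 0) (hz0 : z ≠ 0) (hx'0 : x' ≠ 0) (hy'0 : y' ≠ 0) (hz'0 : z' ≠ 0)
    {a b : F} (hzab : z = a • x + b • y) : ∃ a' b' : F, z' = a' • x' + b' • y' := by
  apply mem_span_pair_of_perp m
  intro v' hv'x hv'y
  by_cases hv'0 : v' = 0
  · rw [hv'0, BB_zero_left]
  obtain ⟨v, hv0, hv⟩ := hall β⁻¹ v' hv'0
  have hv' : Pt m β v v' := by
    have := hv.inv
    rwa [inv_inv] at this
  have h1 : BB v x = 0 := (Pt.orth_iff m hv' hx hv0 hx0 hv'0 hx'0).mpr hv'x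
  have h2 : BB v y = 0 := (Pt.orth_iff m hv' hy hv0 hy0 hv'0 hy'0).mpr hv'y
  have h3 : BB v z = 0 := by
    rw [hzab, sympForm_add_right, sympForm_smul_right, sympForm_smul_right, h1, h2]
    ring
  exact (Pt.orth_iff m hv' hz hv0 hz0 hv'0 hz'0).mp h3

theorem ne_zero_of_BB_ne {x y : Vm} (h : BB x y ≠ 0) : x ≠ 0 ∧ y ≠ 0 := by
  constructor
  · rintro rfl
    exact h (BB_zero_left m y)
  · rintro rfl
    exact h (BB_zero_right m x)

/-- normalisation: up to an inner automorphism the points of a hyperbolic pair are fixed -/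
theorem exists_conj_fix (hall : AllPt (F := F) m) (β : MulAut PSpm) {e f : Vm}
    (hef : BB e f = 1) :
    ∃ A : Spm, Pt m (MulAut.conj (mkS m A) * β) e e ∧ Pt m (MulAut.conj (mkS m A) * β) f f := by
  obtain ⟨he0, hf0⟩ := ne_zero_of_BB_ne m (by rw [hef]; exact one_ne_zero)
  obtain ⟨e', he'0, he'⟩ := hall β e he0
  obtain ⟨f', hf'0, hf'⟩ := hall β f hf0
  have h1 : BB e' f' ≠ 0 := by
    intro h
    have := (Pt.orth_iff m he' hf' he0 hf0 he'0 hf'0).mpr h
    rw [hef] at this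
    exact one_ne_zero this
  have h2 : BB e' ((BB e' f')⁻¹ • f') = 1 := by
    rw [sympForm_smul_right, inv_mul_cancel₀ h1]
  obtain ⟨A, -, hAe, hAf, -⟩ := move_pair m e' ((BB e' f')⁻¹ • f') e f h2 hef
  refine ⟨A, ?_, ?_⟩
  · have := he'.mul m (Pt_conj m A e')
    have hAe' : A • e' = e := hAe
    rwa [hAe'] at this
  · have := (hf'.smul_right m (inv_ne_zero h1)).mul m (Pt_conj m A _)
    have hAf' : A • ((BB e' f')⁻¹ • f') = f := hAf
    rwa [hAf'] at this

end Cfsg.Agent.Lib.Helper9.ASP
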