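import Mathlib
import Cfsg.Prelude
import Cfsg.Agent.Lib.Helper9.ASP6

/-! Automorphisms of `PSp_{2m}(F)`, part 7: an automorphism fixing the point `e` normalises the
image of `Q_e`. -/

set_option autoImplicit false
open Cfsg

namespace Cfsg.Agent.Lib.Helper9.ASP

open Matrix Cfsg.Agent.Lib.Helper5.SympTv Cfsg.Agent.Lib.Helper5.SympGen
  Cfsg.Agent.Lib.Helper5.SympPerfect Cfsg.Agent.Lib.Helper5.SympBridge
  Cfsg.Agent.Lib.Helper5.SympPrimitive

attribute [local instance 2000] spAction spSMulComm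

variable {F : Type*} [Field F] (m : ℕ)

set_option quotPrecheck false
local notation "Vm" => (Fin m ⊕ Fin m → F)
local notation "Mm" => Matrix (Fin m ⊕ Fin m) (Fin m ⊕ Fin m) F
local notation "Spm" => ↥(Matrix.symplecticGroup (Fin m) F)
local notation "PSpm" => Cfsg.PSp m F
local notation "BB" => sympForm m F

/-- projection to the complement of a hyperbolic pair -/
def prW (e f v : Fin m ⊕ Fin m → F) : Fin m ⊕ Fin m → F :=
  v - sympForm m F v f • e + sympForm m F v e • f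

theorem pow_char_pow_inj (p : ℕ) [Fact p.Prime] [CharP F p] (x y : F) (k : ℕ)
    (h : x ^ (p ^ k) = y ^ (p ^ k)) : x = y := by
  have h1 : (x - y) ^ (p ^ k) = 0 := by
    rw [sub_pow_char_pow, h, sub_self]
  exact sub_eq_zero.mp (pow_eq_zero_iff (pow_ne_zero _ (Fact.out : p.Prime).ne_zero) |>.mp h1)

theorem pow_smul_eigen (A : Spm) {x : Vm} {a : F} (h : A • x = a • x) (k : ℕ) :
    (A ^ k) • x = a ^ k • x := by
  induction k with
  | zero => rw [pow_zero, pow_zero, one_smul, one_smul]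
  | succ k ih => rw [pow_succ, mul_smul, h, sp_smul_smul, ih, smul_smul, pow_succ, mul_comm]

section pair
variable {e f : Fin m ⊕ Fin m → F} (hef : sympForm m F e f = 1)

include hef in
theorem BB_fe : BB f e = -1 := by rw [sympForm_swap, hef]

include hef in
theorem prW_e (v : Vm) : BB (prW m e f v) e = 0 := by
  unfold prW
  rw [sympForm_add_left, sympForm_sub_left, sympForm_smul_left, sympForm_smul_left, sympForm_self,
    BB_fe m hef]
  ring

include hef in
theorem prW_f (v : Vm) : BB (prW m e f v) f = 0 := by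
  unfold prW
  rw [sympForm_add_left, sympForm_sub_left, sympForm_smul_left, sympForm_smul_left, sympForm_self,
    hef]
  ring

theorem prW_decomp (v : Vm) : v = prW m e f v + BB v f • e - BB v e • f := by
  unfold prW
  module

theorem prW_of_mem {w : Vm} (hwe : BB w e = 0) (hwf : BB w f = 0) : prW m e f w = w := by
  unfold prW
  rw [hwe, hwf]
  module

theorem BB_prW_right {w : Vm} (hwe : BB w e = 0) (hwf : BB w f = 0) (v : Vm) :
    BB w (prW m e f v) = BB w v := by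
  unfold prW
  rw [sympForm_add_right, sympForm_sub_right, sympForm_smul_right, sympForm_smul_right, hwe, hwf]
  ring

include hef in
theorem exists_W_ne_zero (hm : 2 ≤ m) : ∃ w : Vm, w ≠ 0 ∧ BB w e = 0 ∧ BB w f = 0 := by
  obtain ⟨i0, i1, h01⟩ : ∃ i0 i1 : Fin m, i0 ≠ i1 :=
    ⟨⟨0, by omega⟩, ⟨1, by omega⟩, by simp [Fin.ext_iff]⟩
  have h1 : BB (-(Pi.single (Sum.inr i0) 1 : Vm)) (Pi.single (Sum.inl i0) 1) = -1 := by
    rw [BB_neg_left, BB_fI_eI]
  have hfe := BB_fe m hef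
  have h2 : BB f ((-1 : F) • e) = 1 := by rw [sympForm_smul_right, hfe]; ring
  have h3 : BB (Pi.single (Sum.inr i0) 1 : Vm) (Pi.single (Sum.inl i0) 1) = 1 := BB_fI_eI m i0
  obtain ⟨A, -, hA1, hA2, -⟩ := move_pair m (Pi.single (Sum.inr i0) 1 : Vm)
    (Pi.single (Sum.inl i0) 1) f ((-1 : F) • e) h3 h2
  have hA1' : A • (Pi.single (Sum.inr i0) 1 : Vm) = f := hA1
  have hA2' : A • (Pi.single (Sum.inl i0) 1 : Vm) = (-1 : F) • e := hA2
  refine ⟨A • (Pi.single (Sum.inl i1) 1 : Vm), (smul_ne_zero_iff_ne A).mpr (single_inl_ne_zero m i1),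
    ?_, ?_⟩
  · have : BB (A • (Pi.single (Sum.inl i1) 1 : Vm)) ((-1 : F) • e) = 0 := by
      rw [← hA2', BB_smul, BB_eI_eI_ne]
    rw [sympForm_smul_right] at this
    linear_combination -this
  · rw [← hA1', BB_smul, BB_eI_fI_ne m h01.symm]

include hef in
theorem exists_W_partner {w : Vm} (hw0 : w ≠ 0) (hwe : BB w e = 0) (hwf : BB w f = 0) :
    ∃ w' : Vm, BB w' e = 0 ∧ BB w' f = 0 ∧ BB w w' = 1 := by
  obtain ⟨g, hg⟩ := exists_partner m w hw0
  exact ⟨prW m e f g, prW_e m hef g, prW_f m hef g, by rw [BB_prW_right m hwe hwf, hg]⟩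

include hef in
/-- an element mapping every vector of `e^⊥` into the plane through `e`: a common eigenvalue
modulo `e` -/
theorem eigen_on_W (hm : 2 ≤ m) (A : Spm)
    (hA : ∀ y : Vm, y ≠ 0 → BB y e = 0 → ∃ a b : F, A • y = a • e + b • y) :
    ∃ μ : F, ∀ w : Vm, BB w e = 0 → BB w f = 0 → ∃ a : F, A • w = a • e + μ • w := by
  obtain ⟨w₁, hw₁0, hw₁e, hw₁f⟩ := exists_W_ne_zero m hef hm
  obtain ⟨a₁, μ, h₁⟩ := hA w₁ hw₁0 hw₁e
  refine ⟨μ, fun w hwe hwf => ?_⟩
  by_cases hw0 : w = 0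
  · exact ⟨0, by rw [hw0, smul_zero, smul_zero, zero_smul, add_zero]⟩
  by_cases hli : LinearIndependent F ![w₁, w]
  · obtain ⟨a, b, hab⟩ := hA w hw0 hwe
    have hne : w₁ + w ≠ 0 := by
      intro h
      have := (LinearIndependent.pair_iff.mp hli) 1 1 (by rw [one_smul, one_smul]; exact h)
      exact one_ne_zero this.1
    obtain ⟨a', b', hab'⟩ := hA (w₁ + w) hne (by rw [sympForm_add_left, hw₁e, hwe, add_zero])
    rw [smul_add, h₁, hab] at hab'
    have h2 : (b' - μ) • w₁ + (b' - b) • w = (a₁ + a - a') • e := by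
      linear_combination (norm := module) (-1 : F) • hab'
    have h3 := congrArg (fun z : Vm => BB z f) h2
    simp only [sympForm_add_left, sympForm_smul_left, hw₁f, hwf, hef] at h3
    have h4 : a₁ + a - a' = 0 := by linear_combination -h3
    rw [h4, zero_smul] at h2
    have h5 := (LinearIndependent.pair_iff.mp hli) _ _ h2
    have hb : b = μ := by linear_combination h5.1 - h5.2
    exact ⟨a, by rw [hab, hb]⟩
  · obtain ⟨c, hc⟩ := exists_smul_of_not_li m hw₁0 hli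
    refine ⟨c * a₁, ?_⟩
    rw [hc, sp_smul_smul, h₁]
    module

theorem pow_smul_W (A : Spm) {l : F} (hAe : A • e = l • e) {w : Vm} {a μ : F}
    (hAw : A • w = a • e + μ • w) (k : ℕ) : ∃ a' : F, (A ^ k) • w = a' • e + μ ^ k • w := by
  induction k with
  | zero => exact ⟨0, by rw [pow_zero, pow_zero, one_smul, one_smul, zero_smul, zero_add]⟩
  | succ k ih =>
    obtain ⟨a', ha'⟩ := ih
    refine ⟨a * l ^ k + μ * a', ?_⟩
    rw [pow_succ, mul_smul, hAw, smul_add, sp_smul_smul, sp_smul_smul, ha', pow_smul_eigen m A hAe]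
    module

/-- the group-theoretic description of the image of `Q_e` -/
def InQ (p : ℕ) (e : Fin m ⊕ Fin m → F) (z : Cfsg.PSp m F) : Prop :=
  (∃ k : ℕ, z ^ (p ^ k) = 1) ∧ Pt m (MulAut.conj z) e e ∧
    ∀ y : Fin m ⊕ Fin m → F, y ≠ 0 → sympForm m F y e = 0 →
      ∃ y' : Fin m ⊕ Fin m → F, y' ≠ 0 ∧ Pt m (MulAut.conj z) y y' ∧ ∃ a b : F, y' = a • e + b • y

theorem InQ_of_mem (p : ℕ) [Fact p.Prime] [CharP F p] (he0 : e ≠ 0) {z : PSpm}
    (hz : z ∈ QSb m e) : InQ m p e z := by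
  obtain ⟨u, hu, rfl⟩ := Subgroup.mem_map.mp hz
  refine ⟨⟨1, ?_⟩, ?_, ?_⟩
  · have := isPGroup_QS m p he0 ⟨u, hu⟩
    obtain ⟨f', hxf⟩ := exists_partner m e he0
    obtain ⟨w, b, hxw, -, rfl⟩ := exists_EE_of_mem_QS m hxf u hu
    rw [pow_one, ← map_pow, EE_pow m hxw, ← map_one (mkS m), ← EE_zero m e]
    congr 1
    apply EE_congr m rfl
    · rw [← Nat.cast_smul_eq_nsmul F, CharP.cast_eq_zero, zero_smul]
    · rw [CharP.cast_eq_zero, zero_mul]
  · have := Pt_conj m u e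
    rwa [hu.1] at this
  · intro y hy0 hye
    obtain ⟨l, hl⟩ := hu.2 y hye
    refine ⟨u • y, (smul_ne_zero_iff_ne u).mpr hy0, Pt_conj m u y, l, 1, ?_⟩
    rw [hl]
    module

include hef in
theorem mem_QSb_of_InQ (p : ℕ) [Fact p.Prime] [CharP F p] (hm : 2 ≤ m) {z : PSpm}
    (hz : InQ m p e z) : z ∈ QSb m e := by
  obtain ⟨he0, hf0⟩ := ne_zero_of_BB_ne m (by rw [hef]; exact one_ne_zero)
  have hm1 : 1 ≤ m := by omega
  obtain ⟨A, rfl⟩ := mkS_surjective m z
  obtain ⟨⟨k, hk⟩, hze, hzy⟩ := hz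
  have hAe0 : A • e ≠ 0 := (smul_ne_zero_iff_ne A).mpr he0
  obtain ⟨l, hl0, hl⟩ := Pt.unique m hm1 hze (Pt_conj m A e) he0 hAe0
  have hA : ∀ y : Vm, y ≠ 0 → BB y e = 0 → ∃ a b : F, A • y = a • e + b • y := by
    intro y hy0 hye
    obtain ⟨y', hy'0, hy', a, b, hab⟩ := hzy y hy0 hye
    obtain ⟨c, -, hc⟩ := Pt.unique m hm1 hy' (Pt_conj m A y) hy'0
      ((smul_ne_zero_iff_ne A).mpr hy0)
    refine ⟨c * a, c * b, ?_⟩
    rw [hc, hab]
    module
  obtain ⟨μ, hμ⟩ := eigen_on_W m hef hm A hA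
  obtain ⟨w₁, hw₁0, hw₁e, hw₁f⟩ := exists_W_ne_zero m hef hm
  obtain ⟨w₁', hw₁'e, hw₁'f, hw₁w₁'⟩ := exists_W_partner m hef hw₁0 hw₁e hw₁f
  obtain ⟨a₁, ha₁⟩ := hμ w₁ hw₁e hw₁f
  obtain ⟨a₁', ha₁'⟩ := hμ w₁' hw₁'e hw₁'f
  -- the eigenvalue squares to one
  have hμμ : μ * μ = 1 := by
    have h1 := BB_smul m A w₁ w₁'
    rw [ha₁, ha₁', hw₁w₁'] at h1
    simp only [sympForm_add_left, sympForm_add_right, sympForm_smul_left, sympForm_smul_right,
      sympForm_self, hw₁e, BB_symm_zero m hw₁'e, hw₁w₁'] at h1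
    linear_combination h1
  -- the power
  rw [← map_pow] at hk
  obtain ⟨ε, hε⟩ := (mkS_eq_one_iff m hm1 _).mp hk
  have h1 : l ^ (p ^ k) = ε := by
    have h2 := hε e
    rw [pow_smul_eigen m A hl] at h2
    have h3 : (l ^ (p ^ k) - ε) • e = 0 := by rw [sub_smul, h2, sub_self]
    rcases smul_eq_zero.mp h3 with h4 | h4
    · exact sub_eq_zero.mp h4
    · exact absurd h4 he0
  have h2 : μ ^ (p ^ k) = ε := by
    obtain ⟨a', ha'⟩ := pow_smul_W m A hl ha₁ (p ^ k)
    rw [hε w₁] at ha'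
    have h3 := congrArg (fun z : Vm => BB z w₁') ha'
    simp only [sympForm_add_left, sympForm_smul_left, hw₁w₁', BB_symm_zero m hw₁'e] at h3
    linear_combination -h3
  have hlμ : l = μ := pow_char_pow_inj p l μ k (h1.trans h2.symm)
  -- the corrected element
  have hmem : scS m μ hμμ * A ∈ QS m e := by
    refine ⟨?_, fun v hv => ?_⟩
    · rw [mul_smul, hl, scS_smul, smul_smul, hlμ, hμμ, one_smul]
    · obtain ⟨a, ha⟩ := hμ (prW m e f v) (prW_e m hef v) (prW_f m hef v)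
      have h3 := prW_decomp m (e := e) (f := f) v
      rw [hv, zero_smul, sub_zero] at h3
      obtain ⟨P, hP⟩ : ∃ P : Vm, P = prW m e f v := ⟨_, rfl⟩
      rw [← hP] at ha h3
      obtain ⟨c, hc⟩ : ∃ c : F, c = BB v f := ⟨_, rfl⟩
      rw [← hc] at h3
      refine ⟨μ * a, ?_⟩
      rw [mul_smul, scS_smul, h3, smul_add, sp_smul_smul, ha, hl, hlμ]
      linear_combination (norm := module) (hμμ * c) • e + hμμ • P
  have := Subgroup.mem_map_of_mem (mkS m) hmem
  rw [mkS_scS_mul] at this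
  exact this

theorem conj_aut' (β : MulAut PSpm) (g : PSpm) :
    (MulAut.conj (β g) : MulAut PSpm) = β * MulAut.conj g * β⁻¹ := by
  apply MulEquiv.ext
  intro z
  simp [MulAut.mul_apply, MulAut.conj_apply]

/-- the description is invariant under automorphisms fixing the point `e` -/
theorem InQ_map (hall : AllPt (F := F) m) (p : ℕ) (he0 : e ≠ 0) {β : MulAut PSpm}
    (hβ : Pt m β e e) {z : PSpm} (hz : InQ m p e z) : InQ m p e (β z) := by
  obtain ⟨⟨k, hk⟩, hze, hzy⟩ := hz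
  refine ⟨⟨k, by rw [← map_pow, hk, map_one]⟩, ?_, ?_⟩
  · rw [conj_aut']
    exact (hβ.inv.mul m hze).mul m hβ
  · intro y' hy'0 hy'e
    obtain ⟨y, hy0, hy⟩ := hall β⁻¹ y' hy'0
    have hy' : Pt m β y y' := by
      have := hy.inv
      rwa [inv_inv] at this
    have hye : BB y e = 0 := (Pt.orth_iff m hy' hβ hy0 he0 hy'0 he0).mpr hy'e
    obtain ⟨y₁, hy₁0, hy₁, a, b, hab⟩ := hzy y hy0 hye
    obtain ⟨y₁', hy₁'0, hy₁'⟩ := hall β y₁ hy₁0
    refine ⟨y₁', hy₁'0, ?_, ?_⟩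
    · rw [conj_aut']
      exact (hy.mul m hy₁).mul m hy₁'
    · exact Pt.line m hall hβ hy' hy₁' he0 hy0 hy₁0 he0 hy'0 hy₁'0 hab

include hef in
/-- an automorphism fixing the point `e` normalises the image of `Q_e` -/
theorem map_QSb (hall : AllPt (F := F) m) (p : ℕ) [Fact p.Prime] [CharP F p] (hm : 2 ≤ m)
    {β : MulAut PSpm} (hβ : Pt m β e e) :
    (QSb m e).map (β : PSpm ≃* PSpm).toMonoidHom = QSb m e := by
  obtain ⟨he0, hf0⟩ := ne_zero_of_BB_ne m (by rw [hef]; exact one_ne_zero)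
  apply le_antisymm
  · rintro z hz
    obtain ⟨z0, hz0, rfl⟩ := Subgroup.mem_map.mp hz
    exact mem_QSb_of_InQ m hef p hm (InQ_map m hall p he0 hβ (InQ_of_mem m p he0 hz0))
  · intro z hz
    have h1 := mem_QSb_of_InQ m hef p hm (InQ_map m hall p he0 hβ.inv (InQ_of_mem m p he0 hz))
    refine Subgroup.mem_map.mpr ⟨β⁻¹ z, h1, ?_⟩
    show β (β⁻¹ z) = z
    rw [MulAut.apply_inv_self]

end pair

end Cfsg.Agent.Lib.Helper9.ASP
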