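import Mathlib
import Cfsg.Prelude
import Cfsg.Agent.Lib.Helper9.ASP7

/-! Automorphisms of `PSp_{2m}(F)`, part 8: coordinates on the image of `Q_e`: the maps induced
by an automorphism fixing the points of a hyperbolic pair. -/

set_option autoImplicit false
open Cfsg

namespace Cfsg.Agent.Lib.Helper9.ASP

open Matrix Cfsg.Agent.Lib.Helper5.SympTv Cfsg.Agent.Lib.Helper5.SympGen
  Cfsg.Agent.Lib.Helper5.SympPerfect Cfsg.Agent.Lib.Helper5.SympBridge
  Cfsg.Agent.Lib.Helper5.SympPrimitive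

attribute [local instance 2000] spAction spSMulComm

variable {F : Type*} [Field F] (m : ℕ)

set_option quotPrecheck false
local notation "Vm" => (Fin m ⊕ Fin m → F)
local notation "Mm" => Matrix (Fin m ⊕ Fin m) (Fin m ⊕ Fin m) F
local notation "Spm" => ↥(Matrix.symplecticGroup (Fin m) F)
local notation "PSpm" => Cfsg.PSp m F
local notation "BB" => sympForm m F

/-- the maps induced on the coordinates of `Q_e` -/
structure QData (e f : Fin m ⊕ Fin m → F) (β : MulAut (Cfsg.PSp m F))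
    (ψ : (Fin m ⊕ Fin m → F) → (Fin m ⊕ Fin m → F)) (ρ : F → F) : Prop where
  memW : ∀ w, sympForm m F w e = 0 → sympForm m F w f = 0 →
    sympForm m F (ψ w) e = 0 ∧ sympForm m F (ψ w) f = 0
  map : ∀ w, sympForm m F w e = 0 → sympForm m F w f = 0 → ∀ b : F,
    β (mkS m (EE m e w b)) = mkS m (EE m e (ψ w) (ρ b))

section pair
variable {e f : Fin m ⊕ Fin m → F} (hef : sympForm m F e f = 1)

include hef in
theorem EE_f {w : Vm} (hwe : BB w e = 0) (hwf : BB w f = 0) (b : F) :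
    EE m e w b • f = f - w - b • e := by
  rw [EE_partner m (BB_symm_zero m hwe) b (BB_fe m hef), BB_symm_zero m hwf]
  module

include hef in
theorem BB_EE_f {w : Vm} (hwe : BB w e = 0) (hwf : BB w f = 0) (b : F) :
    BB (EE m e w b • f) f = -b := by
  rw [EE_f m hef hwe hwf, sympForm_sub_left, sympForm_sub_left, sympForm_smul_left, sympForm_self,
    hwf, hef]
  ring

include hef in
/-- the coordinates on the image of `Q_e` are well defined -/
theorem EE_inj (hm : 1 ≤ m) {w w' : Vm} (hwe : BB w e = 0) (hwf : BB w f = 0) (hw'e : BB w' e = 0)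
    (hw'f : BB w' f = 0) {b b' : F} (h : mkS m (EE m e w b) = mkS m (EE m e w' b')) :
    w = w' ∧ b = b' := by
  obtain ⟨he0, hf0⟩ := ne_zero_of_BB_ne m (by rw [hef]; exact one_ne_zero)
  obtain ⟨a, ha⟩ := (mkS_eq_iff m _ _).mp h
  have ha1 : a = 1 := by
    have h1 := ha e
    rw [(EE_mem_QS m (BB_symm_zero m hwe) b).1, (EE_mem_QS m (BB_symm_zero m hw'e) b').1] at h1
    have h2 : (a - 1) • e = 0 := by rw [sub_smul, one_smul, ← h1, sub_self]
    rcases smul_eq_zero.mp h2 with h3 | h3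
    · exact sub_eq_zero.mp h3
    · exact absurd h3 he0
  have h1 := ha f
  rw [ha1, one_smul, EE_f m hef hwe hwf, EE_f m hef hw'e hw'f] at h1
  have h2 := congrArg (fun z : Vm => BB z f) h1
  simp only [sympForm_sub_left, sympForm_smul_left, sympForm_self, hwf, hw'f, hef] at h2
  have hb : b = b' := by linear_combination h2
  refine ⟨?_, hb⟩
  rw [hb] at h1
  linear_combination (norm := module) h1

include hef in
/-- existence of the coordinate maps -/
theorem exists_QData (hall : AllPt (F := F) m) (p : ℕ) [Fact p.Prime] [CharP F p] (hm : 2 ≤ m)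
    {β : MulAut PSpm} (hβe : Pt m β e e) (hβf : Pt m β f f) :
    ∃ (ψ : Vm → Vm) (ρ : F → F), QData m e f β ψ ρ := by
  obtain ⟨he0, hf0⟩ := ne_zero_of_BB_ne m (by rw [hef]; exact one_ne_zero)
  have hm1 : 1 ≤ m := by omega
  have hQ := map_QSb m hef hall p hm hβe
  have s1 : ∀ (w : Vm) (b : F), BB w e = 0 → BB w f = 0 → ∃ (w' : Vm) (b' : F),
      (BB w' e = 0 ∧ BB w' f = 0) ∧ β (mkS m (EE m e w b)) = mkS m (EE m e w' b') := by
    intro w b hwe hwf
    have h1 : β (mkS m (EE m e w b)) ∈ QSb m e := by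
      rw [← hQ]
      exact Subgroup.mem_map.mpr ⟨_, Subgroup.mem_map_of_mem _
        (EE_mem_QS m (BB_symm_zero m hwe) b), rfl⟩
    obtain ⟨u', hu', hu'eq⟩ := Subgroup.mem_map.mp h1
    obtain ⟨w', b', hew', hw'f, rfl⟩ := exists_EE_of_mem_QS m hef u' hu'
    exact ⟨w', b', ⟨BB_symm_zero m hew', hw'f⟩, hu'eq.symm⟩
  have s2 : ∀ w : Vm, BB w e = 0 → BB w f = 0 → ∃ w' : Vm,
      (BB w' e = 0 ∧ BB w' f = 0) ∧ β (mkS m (EE m e w 0)) = mkS m (EE m e w' 0) := by
    intro w hwe hwf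
    obtain ⟨w', b', hw', h⟩ := s1 w 0 hwe hwf
    have h1 := hβf.equivariant m h
    have h2 := Pt.orth_iff m h1 hβf ((smul_ne_zero_iff_ne _).mpr hf0) hf0
      ((smul_ne_zero_iff_ne _).mpr hf0) hf0
    rw [BB_EE_f m hef hwe hwf, BB_EE_f m hef hw'.1 hw'.2] at h2
    have hb' : b' = 0 := by
      have := h2.mp (by ring)
      linear_combination -this
    rw [hb'] at h
    exact ⟨w', hw', h⟩
  have s3 : ∀ b : F, ∃ b' : F, β (mkS m (EE m e 0 b)) = mkS m (EE m e 0 b') := by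
    intro b
    obtain ⟨w', b', hw', h⟩ := s1 0 b (BB_zero_left m e) (BB_zero_left m f)
    have h1 : β (mkS m (EE m e 0 b)) ∈ RSb m e := by
      unfold Pt at hβe
      rw [← hβe, EE_eq_tv]
      exact Subgroup.mem_map.mpr ⟨_, (mem_RSb_iff m e _).mpr ⟨b, rfl⟩, rfl⟩
    obtain ⟨c, hc⟩ := (mem_RSb_iff m e _).mp h1
    rw [← EE_eq_tv] at hc
    obtain ⟨h2, -⟩ := EE_inj m hef hm1 hw'.1 hw'.2 (BB_zero_left m e) (BB_zero_left m f)
      (h.symm.trans hc)
    rw [h2] at h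
    exact ⟨b', h⟩
  choose! ψ hψ using s2
  choose ρ hρ using s3
  refine ⟨ψ, ρ, fun w hwe hwf => (hψ w hwe hwf).1, fun w hwe hwf b => ?_⟩
  have hew : BB e w = 0 := BB_symm_zero m hwe
  have h1 : EE m e w b = EE m e w 0 * EE m e 0 b := by
    rw [EE_mul m hew (BB_zero_right m e)]
    apply EE_congr m rfl
    · rw [add_zero]
    · rw [BB_zero_left]; ring
  have h2 : EE m e (ψ w) (ρ b) = EE m e (ψ w) 0 * EE m e 0 (ρ b) := by
    rw [EE_mul m (BB_symm_zero m (hψ w hwe hwf).1.1) (BB_zero_right m e)]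
    apply EE_congr m rfl
    · rw [add_zero]
    · rw [BB_zero_left]; ring
  rw [h1, h2, map_mul, map_mul, map_mul, (hψ w hwe hwf).2, hρ b]

end pair

namespace QData

variable {m}
variable {e f : Fin m ⊕ Fin m → F} {β : MulAut (Cfsg.PSp m F)}
  {ψ : (Fin m ⊕ Fin m → F) → (Fin m ⊕ Fin m → F)} {ρ : F → F}

theorem add_form (D : QData m e f β ψ ρ) (hef : sympForm m F e f = 1) (hm : 1 ≤ m) {w₁ w₂ : Vm}
    (h₁e : BB w₁ e = 0) (h₁f : BB w₁ f = 0) (h₂e : BB w₂ e = 0) (h₂f : BB w₂ f = 0) :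
    ψ (w₁ + w₂) = ψ w₁ + ψ w₂ ∧ ρ (BB w₂ w₁) = BB (ψ w₂) (ψ w₁) := by
  have hse : BB (w₁ + w₂) e = 0 := by rw [sympForm_add_left, h₁e, h₂e, add_zero]
  have hsf : BB (w₁ + w₂) f = 0 := by rw [sympForm_add_left, h₁f, h₂f, add_zero]
  obtain ⟨k₁e, k₁f⟩ := D.memW w₁ h₁e h₁f
  obtain ⟨k₂e, k₂f⟩ := D.memW w₂ h₂e h₂f
  obtain ⟨kse, ksf⟩ := D.memW _ hse hsf
  have h1 : EE m e w₁ 0 * EE m e w₂ 0 = EE m e (w₁ + w₂) (BB w₂ w₁) := by
    rw [EE_mul m (BB_symm_zero m h₁e) (BB_symm_zero m h₂e)]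
    apply EE_congr m rfl rfl
    ring
  have h2 : EE m e (ψ w₁) (ρ 0) * EE m e (ψ w₂) (ρ 0) =
      EE m e (ψ w₁ + ψ w₂) (ρ 0 + ρ 0 + BB (ψ w₂) (ψ w₁)) :=
    EE_mul m (BB_symm_zero m k₁e) (BB_symm_zero m k₂e) _ _
  have h0 : ρ 0 = 0 := by
    have h3 : mkS m (EE m e 0 0) = mkS m (EE m e (ψ 0) (ρ 0)) := by
      rw [← D.map 0 (BB_zero_left m e) (BB_zero_left m f) 0, EE_zero, map_one, map_one]
    obtain ⟨k0e, k0f⟩ := D.memW 0 (BB_zero_left m e) (BB_zero_left m f)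
    exact ((EE_inj m hef hm (BB_zero_left m e) (BB_zero_left m f) k0e k0f h3).2).symm
  have h3 := D.map _ hse hsf (BB w₂ w₁)
  rw [← h1, map_mul, map_mul, D.map w₁ h₁e h₁f, D.map w₂ h₂e h₂f, ← map_mul, h2, h0] at h3
  have hse' : BB (ψ w₁ + ψ w₂) e = 0 := by rw [sympForm_add_left, k₁e, k₂e, add_zero]
  have hsf' : BB (ψ w₁ + ψ w₂) f = 0 := by rw [sympForm_add_left, k₁f, k₂f, add_zero]
  obtain ⟨h4, h5⟩ := EE_inj m hef hm hse' hsf' kse ksf h3
  exact ⟨h4.symm, by rw [← h5]; ring⟩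

theorem rho_zero (D : QData m e f β ψ ρ) (hef : sympForm m F e f = 1) (hm : 1 ≤ m) : ρ 0 = 0 := by
  have h3 : mkS m (EE m e 0 0) = mkS m (EE m e (ψ 0) (ρ 0)) := by
    rw [← D.map 0 (BB_zero_left m e) (BB_zero_left m f) 0, EE_zero, map_one, map_one]
  obtain ⟨k0e, k0f⟩ := D.memW 0 (BB_zero_left m e) (BB_zero_left m f)
  exact ((EE_inj m hef hm (BB_zero_left m e) (BB_zero_left m f) k0e k0f h3).2).symm

theorem psi_zero (D : QData m e f β ψ ρ) (hef : sympForm m F e f = 1) (hm : 1 ≤ m) : ψ 0 = 0 := by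
  have h3 : mkS m (EE m e 0 0) = mkS m (EE m e (ψ 0) (ρ 0)) := by
    rw [← D.map 0 (BB_zero_left m e) (BB_zero_left m f) 0, EE_zero, map_one, map_one]
  obtain ⟨k0e, k0f⟩ := D.memW 0 (BB_zero_left m e) (BB_zero_left m f)
  exact ((EE_inj m hef hm (BB_zero_left m e) (BB_zero_left m f) k0e k0f h3).1).symm

theorem rho_add (D : QData m e f β ψ ρ) (hef : sympForm m F e f = 1) (hm : 1 ≤ m) (b b' : F) :
    ρ (b + b') = ρ b + ρ b' := by
  have z0 := D.psi_zero hef hm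
  have hze := BB_zero_left m e
  have hzf := BB_zero_left m f
  have h1 : EE m e 0 b * EE m e 0 b' = EE m e 0 (b + b') := by
    rw [EE_mul m (BB_zero_right m e) (BB_zero_right m e)]
    apply EE_congr m rfl (add_zero 0)
    rw [BB_zero_left]; ring
  have h2 : EE m e 0 (ρ b) * EE m e 0 (ρ b') = EE m e 0 (ρ b + ρ b') := by
    rw [EE_mul m (BB_zero_right m e) (BB_zero_right m e)]
    apply EE_congr m rfl (add_zero 0)
    rw [BB_zero_left]; ring
  have h3 := D.map 0 hze hzf (b + b')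
  rw [← h1, map_mul, map_mul, D.map 0 hze hzf, D.map 0 hze hzf, z0, ← map_mul, h2] at h3
  exact ((EE_inj m hef hm hze hzf hze hzf h3).2).symm

theorem rho_neg (D : QData m e f β ψ ρ) (hef : sympForm m F e f = 1) (hm : 1 ≤ m) (b : F) :
    ρ (-b) = -ρ b := by
  have := D.rho_add hef hm b (-b)
  rw [add_neg_cancel, D.rho_zero hef hm] at this
  linear_combination -this

theorem psi_neg (D : QData m e f β ψ ρ) (hef : sympForm m F e f = 1) (hm : 1 ≤ m) {w : Vm}
    (hwe : BB w e = 0) (hwf : BB w f = 0) : ψ (-w) = -ψ w := by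
  have h1 := (D.add_form hef hm hwe hwf (w₂ := -w) (by rw [BB_neg_left, hwe, neg_zero])
    (by rw [BB_neg_left, hwf, neg_zero])).1
  rw [add_neg_cancel, D.psi_zero hef hm] at h1
  linear_combination (norm := module) (-1 : F) • h1

theorem psi_inj (D : QData m e f β ψ ρ) (hef : sympForm m F e f = 1) (hm : 1 ≤ m) {w : Vm}
    (hwe : BB w e = 0) (hwf : BB w f = 0) (h : ψ w = 0) : w = 0 := by
  have h1 : β (mkS m (EE m e w 0)) = β (mkS m (EE m e 0 0)) := by
    rw [D.map w hwe hwf 0, h, D.rho_zero hef hm, EE_zero, map_one, map_one]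
  have h2 := (β : PSpm ≃* PSpm).injective h1
  exact (EE_inj m hef hm hwe hwf (BB_zero_left m e) (BB_zero_left m f) h2).1

theorem rho_inj (D : QData m e f β ψ ρ) (hef : sympForm m F e f = 1) (hm : 1 ≤ m) {b : F}
    (h : ρ b = 0) : b = 0 := by
  have h1 : β (mkS m (EE m e 0 b)) = β (mkS m (EE m e 0 0)) := by
    rw [D.map 0 (BB_zero_left m e) (BB_zero_left m f) b, h, D.psi_zero hef hm, EE_zero, map_one,
      map_one]
  have h2 := (β : PSpm ≃* PSpm).injective h1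
  exact (EE_inj m hef hm (BB_zero_left m e) (BB_zero_left m f) (BB_zero_left m e)
    (BB_zero_left m f) h2).2

/-- the points off the hyperplane of `e` -/
theorem point (D : QData m e f β ψ ρ) (hef : sympForm m F e f = 1) (hm : 1 ≤ m)
    (hβf : Pt m β f f) {w : Vm} (hwe : BB w e = 0) (hwf : BB w f = 0) (b : F) :
    Pt m β (f + w + b • e) (f + ψ w + ρ b • e) := by
  have hne : BB (-w) e = 0 := by rw [BB_neg_left, hwe, neg_zero]
  have hnf : BB (-w) f = 0 := by rw [BB_neg_left, hwf, neg_zero]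
  have h1 := hβf.equivariant m (D.map (-w) hne hnf (-b))
  obtain ⟨k1, k2⟩ := D.memW _ hne hnf
  rw [EE_f m hef hne hnf, EE_f m hef k1 k2, D.psi_neg hef hm hwe hwf, D.rho_neg hef hm] at h1
  have e1 : f - -w - -b • e = f + w + b • e := by module
  have e2 : f - -ψ w - -ρ b • e = f + ψ w + ρ b • e := by module
  rw [e1, e2] at h1
  exact h1

end QData

end Cfsg.Agent.Lib.Helper9.ASP
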