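import Mathlib
import Cfsg.Prelude
import Cfsg.Agent.Lib.Helper9.ASP8

/-! Automorphisms of `PSp_{2m}(F)`, part 9: the coordinate maps are semilinear. -/

set_option autoImplicit false
open Cfsg

namespace Cfsg.Agent.Lib.Helper9.ASP

open Matrix Cfsg.Agent.Lib.Helper5.SympTv Cfsg.Agent.Lib.Helper5.SympGen
  Cfsg.Agent.Lib.Helper5.SympPerfect Cfsg.Agent.Lib.Helper5.SympBridge
  Cfsg.Agent.Lib.Helper5.SympPrimitive

attribute [local instance 2000] spAction spSMulComm

variable {F : Type*} [Field F] {m : ℕ}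

set_option quotPrecheck false
local notation "Vm" => (Fin m ⊕ Fin m → F)
local notation "Mm" => Matrix (Fin m ⊕ Fin m) (Fin m ⊕ Fin m) F
local notation "Spm" => ↥(Matrix.symplecticGroup (Fin m) F)
local notation "PSpm" => Cfsg.PSp m F
local notation "BB" => sympForm m F

namespace QData

variable {e f : Fin m ⊕ Fin m → F} {β : MulAut (Cfsg.PSp m F)}
  {ψ : (Fin m ⊕ Fin m → F) → (Fin m ⊕ Fin m → F)} {ρ : F → F}

/-- the images of the points of a line through `f` -/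
theorem line (D : QData m e f β ψ ρ) (hef : sympForm m F e f = 1) (hm : 1 ≤ m)
    (hall : AllPt (F := F) m) (hβe : Pt m β e e) (hβf : Pt m β f f) {w₀ : Vm}
    (hwe : BB w₀ e = 0) (hwf : BB w₀ f = 0) (b₀ t : F) :
    ∃ τ : F, ψ (t • w₀) = τ • ψ w₀ ∧ ρ (t * b₀) = τ * ρ b₀ := by
  obtain ⟨he0, hf0⟩ := ne_zero_of_BB_ne m (by rw [hef]; exact one_ne_zero)
  have hfe := BB_fe m hef
  by_cases hz : w₀ = 0 ∧ b₀ = 0
  · obtain ⟨rfl, rfl⟩ := hz
    exact ⟨0, by rw [smul_zero, zero_smul, D.psi_zero hef hm],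
      by rw [mul_zero, zero_mul, D.rho_zero hef hm]⟩
  obtain ⟨z, hzdef⟩ : ∃ z : Vm, z = w₀ + b₀ • e := ⟨_, rfl⟩
  have hz0 : z ≠ 0 := by
    intro h
    apply hz
    rw [hzdef] at h
    have h1 := congrArg (fun v : Vm => BB v f) h
    simp only [sympForm_add_left, sympForm_smul_left, hwf, hef, BB_zero_left] at h1
    have hb : b₀ = 0 := by linear_combination h1
    rw [hb, zero_smul, add_zero] at h
    exact ⟨h, hb⟩
  obtain ⟨z', hz'0, hz'⟩ := hall β z hz0
  have hze : BB z e = 0 := by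
    rw [hzdef, sympForm_add_left, sympForm_smul_left, hwe, sympForm_self]; ring
  have hz'e : BB z' e = 0 := Pt.orth m hz' hβe hz'0 he0 hze
  obtain ⟨k0e, k0f⟩ := D.memW w₀ hwe hwf
  have key : ∀ s : F, ∃ c : F, ψ (s • w₀) + ρ (s * b₀) • e = c • z' := by
    intro s
    have hse : BB (s • w₀) e = 0 := by rw [sympForm_smul_left, hwe, mul_zero]
    have hsf : BB (s • w₀) f = 0 := by rw [sympForm_smul_left, hwf, mul_zero]
    obtain ⟨kse, ksf⟩ := D.memW _ hse hsf
    have P := D.point hef hm hβf hse hsf (s * b₀)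
    have hne1 : f + s • w₀ + (s * b₀) • e ≠ 0 := by
      apply (ne_zero_of_BB_ne m (y := e) _).1
      have : BB (f + s • w₀ + (s * b₀) • e) e = -1 := by
        simp only [sympForm_add_left, sympForm_smul_left, hwe, sympForm_self, hfe]
        ring
      rw [this]
      exact neg_ne_zero.mpr one_ne_zero
    have hne2 : f + ψ (s • w₀) + ρ (s * b₀) • e ≠ 0 := by
      apply (ne_zero_of_BB_ne m (y := e) _).1
      have : BB (f + ψ (s • w₀) + ρ (s * b₀) • e) e = -1 := by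
        simp only [sympForm_add_left, sympForm_smul_left, kse, sympForm_self, hfe]
        ring
      rw [this]
      exact neg_ne_zero.mpr one_ne_zero
    have hzab : f + s • w₀ + (s * b₀) • e = (1 : F) • f + s • z := by
      rw [hzdef]; module
    obtain ⟨a', b', hline⟩ := Pt.line m hall hβf hz' P hf0 hz0 hne1 hf0 hz'0 hne2 hzab
    have h1 := congrArg (fun v : Vm => BB v e) hline
    simp only [sympForm_add_left, sympForm_smul_left, kse, sympForm_self, hfe, hz'e] at h1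
    have ha' : a' = 1 := by linear_combination h1
    rw [ha', one_smul] at hline
    exact ⟨b', by linear_combination (norm := module) hline⟩
  obtain ⟨c₁, hc₁⟩ := key 1
  rw [one_smul, one_mul] at hc₁
  have hc₁0 : c₁ ≠ 0 := by
    rintro rfl
    rw [zero_smul] at hc₁
    have h1 := congrArg (fun v : Vm => BB v f) hc₁
    simp only [sympForm_add_left, sympForm_smul_left, k0f, hef, BB_zero_left] at h1
    have hb : ρ b₀ = 0 := by linear_combination h1
    rw [hb, zero_smul, add_zero] at hc₁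
    exact hz ⟨D.psi_inj hef hm hwe hwf hc₁, D.rho_inj hef hm hb⟩
  obtain ⟨ct, hct⟩ := key t
  have hte : BB (t • w₀) e = 0 := by rw [sympForm_smul_left, hwe, mul_zero]
  have htf : BB (t • w₀) f = 0 := by rw [sympForm_smul_left, hwf, mul_zero]
  obtain ⟨kte, ktf⟩ := D.memW _ hte htf
  have h : ψ (t • w₀) + ρ (t * b₀) • e = (ct * c₁⁻¹) • ψ w₀ + (ct * c₁⁻¹ * ρ b₀) • e := by
    have e1 : z' = c₁⁻¹ • (ψ w₀ + ρ b₀ • e) := by
      rw [hc₁, smul_smul, inv_mul_cancel₀ hc₁0, one_smul]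
    rw [hct]
    nth_rewrite 1 [e1]
    module
  have h1 := congrArg (fun v : Vm => BB v f) h
  simp only [sympForm_add_left, sympForm_smul_left, ktf, k0f, hef] at h1
  have h2 : ρ (t * b₀) = ct * c₁⁻¹ * ρ b₀ := by linear_combination h1
  refine ⟨ct * c₁⁻¹, ?_, h2⟩
  rw [h2] at h
  exact add_right_cancel h

/-- the scalars along two non-orthogonal vectors agree -/
theorem tau_eq (D : QData m e f β ψ ρ) (hef : sympForm m F e f = 1) (hm : 1 ≤ m) {w w' : Vm}
    (hwe : BB w e = 0) (hwf : BB w f = 0) (hw'e : BB w' e = 0) (hw'f : BB w' f = 0)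
    (hne : BB w w' ≠ 0) {t τ τ' τ₃ : F} (h : ψ (t • w) = τ • ψ w) (h' : ψ (t • w') = τ' • ψ w')
    (h3 : ψ (t • (w + w')) = τ₃ • ψ (w + w')) : τ = τ' := by
  have hte : BB (t • w) e = 0 := by rw [sympForm_smul_left, hwe, mul_zero]
  have htf : BB (t • w) f = 0 := by rw [sympForm_smul_left, hwf, mul_zero]
  have ht'e : BB (t • w') e = 0 := by rw [sympForm_smul_left, hw'e, mul_zero]
  have ht'f : BB (t • w') f = 0 := by rw [sympForm_smul_left, hw'f, mul_zero]
  have h4 := (D.add_form hef hm hte htf ht'e ht'f).1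
  obtain ⟨h5, h6⟩ := D.add_form hef hm hw'e hw'f hwe hwf
  have hform : BB (ψ w) (ψ w') ≠ 0 := by
    rw [← h6]
    intro h0
    exact hne (D.rho_inj hef hm h0)
  rw [smul_add, h4, h, h', add_comm w w', h5] at h3
  have h7 : (τ₃ - τ) • ψ w + (τ₃ - τ') • ψ w' = 0 := by
    linear_combination (norm := module) (-1 : F) • h3
  have e1 := congrArg (fun v : Vm => BB v (ψ w')) h7
  have e2 := congrArg (fun v : Vm => BB (ψ w) v) h7
  simp only [sympForm_add_left, sympForm_add_right, sympForm_smul_left, sympForm_smul_right,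
    sympForm_self, BB_zero_left, BB_zero_right, mul_zero, add_zero, zero_add] at e1 e2
  have r1 : τ₃ - τ = 0 := (mul_eq_zero.mp e1).resolve_right hform
  have r2 : τ₃ - τ' = 0 := (mul_eq_zero.mp e2).resolve_right hform
  linear_combination r2 - r1

/-- the coordinate maps are semilinear with respect to a map of the field -/
theorem exists_sigma_fun (D : QData m e f β ψ ρ) (hef : sympForm m F e f = 1) (hm : 2 ≤ m)
    (hall : AllPt (F := F) m) (hβe : Pt m β e e) (hβf : Pt m β f f) :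
    ∃ σ : F → F, (∀ (t : F) (w : Vm), BB w e = 0 → BB w f = 0 → ψ (t • w) = σ t • ψ w) ∧
      ∀ t b : F, ρ (t * b) = σ t * ρ b := by
  have hm1 : 1 ≤ m := by omega
  obtain ⟨w₁, hw₁0, hw₁e, hw₁f⟩ := exists_W_ne_zero m hef hm
  have hψw₁ : ψ w₁ ≠ 0 := fun h => hw₁0 (D.psi_inj hef hm1 hw₁e hw₁f h)
  have s1 : ∀ t : F, ∃ τ : F, ψ (t • w₁) = τ • ψ w₁ := by
    intro t
    obtain ⟨τ, hτ, -⟩ := D.line hef hm1 hall hβe hβf hw₁e hw₁f 0 t
    exact ⟨τ, hτ⟩
  choose σ hσ using s1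
  refine ⟨σ, ?_, ?_⟩
  · intro t w hwe hwf
    by_cases hw0 : w = 0
    · rw [hw0, smul_zero, D.psi_zero hef hm1, smul_zero]
    obtain ⟨v, hv1, hv2⟩ := exists_cross m w w₁ hw0 hw₁0
    obtain ⟨w'', hw''⟩ : ∃ w'' : Vm, w'' = prW m e f v := ⟨_, rfl⟩
    have hw''e : BB w'' e = 0 := by rw [hw'']; exact prW_e m hef v
    have hw''f : BB w'' f = 0 := by rw [hw'']; exact prW_f m hef v
    have h1 : BB w w'' ≠ 0 := by rw [hw'', BB_prW_right m hwe hwf]; exact hv1
    have h2 : BB w₁ w'' ≠ 0 := by rw [hw'', BB_prW_right m hw₁e hw₁f]; exact hv2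
    obtain ⟨τ, hτ, -⟩ := D.line hef hm1 hall hβe hβf hwe hwf 0 t
    obtain ⟨τ'', hτ'', -⟩ := D.line hef hm1 hall hβe hβf hw''e hw''f 0 t
    obtain ⟨τ₃, hτ₃, -⟩ := D.line hef hm1 hall hβe hβf (w₀ := w + w'')
      (by rw [sympForm_add_left, hwe, hw''e, add_zero])
      (by rw [sympForm_add_left, hwf, hw''f, add_zero]) 0 t
    obtain ⟨τ₄, hτ₄, -⟩ := D.line hef hm1 hall hβe hβf (w₀ := w₁ + w'')
      (by rw [sympForm_add_left, hw₁e, hw''e, add_zero])
      (by rw [sympForm_add_left, hw₁f, hw''f, add_zero]) 0 t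
    have r1 : τ = τ'' := D.tau_eq hef hm1 hwe hwf hw''e hw''f h1 hτ hτ'' hτ₃
    have r2 : σ t = τ'' := D.tau_eq hef hm1 hw₁e hw₁f hw''e hw''f h2 (hσ t) hτ'' hτ₄
    rw [hτ, r1, r2]
  · intro t b
    obtain ⟨τ, hτ, hτ'⟩ := D.line hef hm1 hall hβe hβf hw₁e hw₁f b t
    have h1 : (τ - σ t) • ψ w₁ = 0 := by rw [sub_smul, ← hτ, ← hσ t, sub_self]
    rcases smul_eq_zero.mp h1 with h2 | h2
    · rw [hτ', sub_eq_zero.mp h2]
    · exact absurd h2 hψw₁

/-- the field map is a field automorphism -/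
theorem exists_sigma [Finite F] (D : QData m e f β ψ ρ) (hef : sympForm m F e f = 1) (hm : 2 ≤ m)
    (hall : AllPt (F := F) m) (hβe : Pt m β e e) (hβf : Pt m β f f) :
    ∃ σ : F ≃+* F, (∀ (t : F) (w : Vm), BB w e = 0 → BB w f = 0 → ψ (t • w) = σ t • ψ w) ∧
      ∀ t b : F, ρ (t * b) = σ t * ρ b := by
  have hm1 : 1 ≤ m := by omega
  obtain ⟨σ, hσ, hσρ⟩ := D.exists_sigma_fun hef hm hall hβe hβf
  obtain ⟨w₁, hw₁0, hw₁e, hw₁f⟩ := exists_W_ne_zero m hef hm
  have hψw₁ : ψ w₁ ≠ 0 := fun h => hw₁0 (D.psi_inj hef hm1 hw₁e hw₁f h)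
  have cancel : ∀ a b : F, a • ψ w₁ = b • ψ w₁ → a = b := by
    intro a b h
    have h1 : (a - b) • ψ w₁ = 0 := by rw [sub_smul, h, sub_self]
    rcases smul_eq_zero.mp h1 with h2 | h2
    · exact sub_eq_zero.mp h2
    · exact absurd h2 hψw₁
  have h1 : σ 1 = 1 := by
    apply cancel
    rw [← hσ 1 w₁ hw₁e hw₁f, one_smul, one_smul]
  have hadd : ∀ s t : F, σ (s + t) = σ s + σ t := by
    intro s t
    apply cancel
    have hse : BB (s • w₁) e = 0 := by rw [sympForm_smul_left, hw₁e, mul_zero]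
    have hsf : BB (s • w₁) f = 0 := by rw [sympForm_smul_left, hw₁f, mul_zero]
    have hte : BB (t • w₁) e = 0 := by rw [sympForm_smul_left, hw₁e, mul_zero]
    have htf : BB (t • w₁) f = 0 := by rw [sympForm_smul_left, hw₁f, mul_zero]
    rw [← hσ _ w₁ hw₁e hw₁f, add_smul, (D.add_form hef hm1 hse hsf hte htf).1, hσ s w₁ hw₁e hw₁f,
      hσ t w₁ hw₁e hw₁f, add_smul]
  have hmul : ∀ s t : F, σ (s * t) = σ s * σ t := by
    intro s t
    apply cancel
    have hte : BB (t • w₁) e = 0 := by rw [sympForm_smul_left, hw₁e, mul_zero]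
    have htf : BB (t • w₁) f = 0 := by rw [sympForm_smul_left, hw₁f, mul_zero]
    rw [← hσ _ w₁ hw₁e hw₁f, mul_smul, hσ s _ hte htf, hσ t w₁ hw₁e hw₁f, smul_smul]
  have h0 : σ 0 = 0 := by
    have := hadd 0 0
    rw [add_zero] at this
    linear_combination -this
  let σ₀ : F →+* F :=
    { toFun := σ
      map_one' := h1
      map_mul' := hmul
      map_zero' := h0
      map_add' := hadd }
  have hbij : Function.Bijective σ₀ := Finite.injective_iff_bijective.mp σ₀.injective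
  exact ⟨RingEquiv.ofBijective σ₀ hbij, hσ, hσρ⟩

end QData

section pair
variable {e f : Fin m ⊕ Fin m → F} (hef : sympForm m F e f = 1)

include hef in
/-- the semilinear data attached to an automorphism fixing the points of a hyperbolic pair -/
theorem exists_semilinear_data [Finite F] (hall : AllPt (F := F) m) (p : ℕ) [Fact p.Prime]
    [CharP F p] (hm : 2 ≤ m) {β : MulAut PSpm} (hβe : Pt m β e e) (hβf : Pt m β f f) :
    ∃ (σ : F ≃+* F) (κ : F) (ψ : Vm → Vm), κ ≠ 0 ∧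
      (∀ w : Vm, BB w e = 0 → BB w f = 0 → BB (ψ w) e = 0 ∧ BB (ψ w) f = 0) ∧
      (∀ w w' : Vm, BB w e = 0 → BB w f = 0 → BB w' e = 0 → BB w' f = 0 →
        ψ (w + w') = ψ w + ψ w') ∧
      (∀ (t : F) (w : Vm), BB w e = 0 → BB w f = 0 → ψ (t • w) = σ t • ψ w) ∧
      (∀ w w' : Vm, BB w e = 0 → BB w f = 0 → BB w' e = 0 → BB w' f = 0 →
        BB (ψ w) (ψ w') = κ * σ (BB w w')) ∧
      ∀ w : Vm, BB w e = 0 → BB w f = 0 → ∀ b : F,
        β (mkS m (EE m e w b)) = mkS m (EE m e (ψ w) (κ * σ b)) := by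
  have hm1 : 1 ≤ m := by omega
  obtain ⟨ψ, ρ, D⟩ := exists_QData m hef hall p hm hβe hβf
  obtain ⟨σ, hσ, hσρ⟩ := D.exists_sigma hef hm hall hβe hβf
  have hρ : ∀ b : F, ρ b = ρ 1 * σ b := by
    intro b
    have := hσρ b 1
    rw [mul_one] at this
    rw [this, mul_comm]
  refine ⟨σ, ρ 1, ψ, ?_, D.memW, ?_, hσ, ?_, ?_⟩
  · intro h
    exact one_ne_zero (D.rho_inj hef hm1 h)
  · intro w w' hwe hwf hw'e hw'f
    exact (D.add_form hef hm1 hwe hwf hw'e hw'f).1
  · intro w w' hwe hwf hw'e hw'f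
    rw [← (D.add_form hef hm1 hw'e hw'f hwe hwf).2, hρ]
  · intro w hwe hwf b
    rw [D.map w hwe hwf b, hρ]

end pair

end Cfsg.Agent.Lib.Helper9.ASP
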