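import Mathlib
import Cfsg.Prelude
import Cfsg.Agent.Lib.Helper9.ASP9

/-! Automorphisms of `PSp_{2m}(F)`, part 10: the standard automorphisms (conformal symplectic
conjugations and field automorphisms). -/

set_option autoImplicit false
open Cfsg

namespace Cfsg.Agent.Lib.Helper9.ASP

open Matrix Cfsg.Agent.Lib.Helper5.SympTv Cfsg.Agent.Lib.Helper5.SympGen
  Cfsg.Agent.Lib.Helper5.SympPerfect Cfsg.Agent.Lib.Helper5.SympBridge
  Cfsg.Agent.Lib.Helper5.SympPrimitive

attribute [local instance 2000] spAction spSMulComm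

variable {F : Type*} [Field F] (m : ℕ)

set_option quotPrecheck false
local notation "Vm" => (Fin m ⊕ Fin m → F)
local notation "Mm" => Matrix (Fin m ⊕ Fin m) (Fin m ⊕ Fin m) F
local notation "Spm" => ↥(Matrix.symplecticGroup (Fin m) F)
local notation "PSpm" => Cfsg.PSp m F
local notation "BB" => sympForm m F
local notation "GLm" => GL (Fin m ⊕ Fin m) F
local notation "GSpm" => ↥(Cfsg.GSp m F)

/-- a field automorphism applied to the coordinates -/
def vmap (σ : F ≃+* F) (v : Fin m ⊕ Fin m → F) : Fin m ⊕ Fin m → F := fun i => σ (v i)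

theorem vmap_add (σ : F ≃+* F) (u v : Vm) : vmap m σ (u + v) = vmap m σ u + vmap m σ v := by
  ext i; simp [vmap]

theorem vmap_smul (σ : F ≃+* F) (a : F) (v : Vm) : vmap m σ (a • v) = σ a • vmap m σ v := by
  ext i; simp [vmap]

theorem vmap_zero (σ : F ≃+* F) : vmap m σ (0 : Vm) = 0 := by
  ext i; simp [vmap]

theorem vmap_symm (σ : F ≃+* F) (v : Vm) : vmap m σ (vmap m σ.symm v) = v := by
  ext i; simp [vmap]

theorem vmap_symm' (σ : F ≃+* F) (v : Vm) : vmap m σ.symm (vmap m σ v) = v := by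
  ext i; simp [vmap]

theorem vmap_refl (v : Vm) : vmap m (RingEquiv.refl F) v = v := rfl

theorem vmap_mulVec (σ : F ≃+* F) (M : Mm) (v : Vm) :
    (M.map σ) *ᵥ vmap m σ v = vmap m σ (M *ᵥ v) := by
  ext i
  simp only [Matrix.mulVec, dotProduct, vmap, Matrix.map_apply, map_sum, map_mul]

theorem J_map (σ : F ≃+* F) : (Matrix.J (Fin m) F).map σ = Matrix.J (Fin m) F := by
  ext i j
  rcases i with i | i <;> rcases j with j | j <;>
    simp [Matrix.J, Matrix.one_apply, apply_ite]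

theorem BB_vmap (σ : F ≃+* F) (u v : Vm) : BB (vmap m σ u) (vmap m σ v) = σ (BB u v) := by
  unfold sympForm
  rw [← J_map m σ, vmap_mulVec, J_map]
  simp only [dotProduct, vmap, map_sum, map_mul]

/-- the action of an invertible matrix -/
def gact (g : GL (Fin m ⊕ Fin m) F) (v : Fin m ⊕ Fin m → F) : Fin m ⊕ Fin m → F :=
  (g : Matrix (Fin m ⊕ Fin m) (Fin m ⊕ Fin m) F) *ᵥ v

theorem gact_mul (g h : GLm) (v : Vm) : gact m (g * h) v = gact m g (gact m h v) := by
  unfold gact
  rw [Units.val_mul, Matrix.mulVec_mulVec]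

theorem gact_one (v : Vm) : gact m (1 : GLm) v = v := by
  unfold gact
  rw [Units.val_one, Matrix.one_mulVec]

theorem gact_gact_inv (g : GLm) (v : Vm) : gact m g (gact m g⁻¹ v) = v := by
  rw [← gact_mul, mul_inv_cancel, gact_one]

theorem gact_inv_gact (g : GLm) (v : Vm) : gact m g⁻¹ (gact m g v) = v := by
  rw [← gact_mul, inv_mul_cancel, gact_one]

theorem gact_add (g : GLm) (u v : Vm) : gact m g (u + v) = gact m g u + gact m g v :=
  Matrix.mulVec_add _ u v

theorem gact_smul (g : GLm) (a : F) (v : Vm) : gact m g (a • v) = a • gact m g v :=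
  Matrix.mulVec_smul _ a v

theorem mem_GSp_iff (g : GLm) :
    g ∈ Cfsg.GSp m F ↔ ∃ c : Fˣ, ∀ u v : Vm, BB (gact m g u) (gact m g v) = (c : F) * BB u v :=
  Iff.rfl

/-- the multiplier of a conformal symplectic matrix -/
noncomputable def mult (g : ↥(Cfsg.GSp m F)) : Fˣ := Classical.choose g.2

theorem mult_spec (g : GSpm) (u v : Vm) :
    BB (gact m (g : GLm) u) (gact m (g : GLm) v) = (mult m g : F) * BB u v :=
  Classical.choose_spec g.2 u v

theorem mult_inv_spec (g : GSpm) (u v : Vm) :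
    BB (gact m ((g : GLm)⁻¹) u) (gact m ((g : GLm)⁻¹) v) = ((mult m g : F))⁻¹ * BB u v := by
  have h := mult_spec m g (gact m ((g : GLm)⁻¹) u) (gact m ((g : GLm)⁻¹) v)
  rw [gact_gact_inv, gact_gact_inv] at h
  rw [h, ← mul_assoc, inv_mul_cancel₀ (mult m g).ne_zero, one_mul]

/-- lifting an automorphism of `Sp` to `PSp` -/
noncomputable def liftS (e : ↥(Matrix.symplecticGroup (Fin m) F) ≃* ↥(Matrix.symplecticGroup (Fin m) F)) :
    MulAut (Cfsg.PSp m F) :=
  QuotientGroup.congr (Subgroup.center ↥(Matrix.symplecticGroup (Fin m) F))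
    (Subgroup.center ↥(Matrix.symplecticGroup (Fin m) F)) e
    (Subgroup.characteristic_iff_map_eq.mp Subgroup.centerCharacteristic e)

theorem liftS_mkS (e : Spm ≃* Spm) (s : Spm) : liftS m e (mkS m s) = mkS m (e s) :=
  QuotientGroup.congr_mk _ _ e _ s

theorem mem_Sp_field (σ : F ≃+* F) (s : Spm) :
    (s : Mm).map σ ∈ Matrix.symplecticGroup (Fin m) F := by
  rw [mem_symplectic_iff]
  intro u v
  have h1 : ∀ x : Vm, (s : Mm).map σ *ᵥ x = vmap m σ (s • vmap m σ.symm x) := by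
    intro x
    rw [sp_smul_eq, ← vmap_mulVec, vmap_symm]
  rw [h1, h1, BB_vmap, BB_smul, ← BB_vmap, vmap_symm, vmap_symm]

/-- a field automorphism applied to the entries, on `Sp` -/
def fieldSp (σ : F ≃+* F) :
    ↥(Matrix.symplecticGroup (Fin m) F) ≃* ↥(Matrix.symplecticGroup (Fin m) F) where
  toFun s := ⟨(s : Mm).map σ, mem_Sp_field m σ s⟩
  invFun s := ⟨(s : Mm).map σ.symm, mem_Sp_field m σ.symm s⟩
  left_inv s := by
    apply Subtype.ext
    ext i j
    simp
  right_inv s := by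
    apply Subtype.ext
    ext i j
    simp
  map_mul' s t := by
    apply Subtype.ext
    show ((s * t : Spm) : Mm).map σ = (s : Mm).map σ * (t : Mm).map σ
    rw [Submonoid.coe_mul, Matrix.map_mul]

theorem fieldSp_coe (σ : F ≃+* F) (s : Spm) : ((fieldSp m σ s : Spm) : Mm) = (s : Mm).map σ := rfl

theorem fieldSp_smul (σ : F ≃+* F) (s : Spm) (v : Vm) :
    fieldSp m σ s • vmap m σ v = vmap m σ (s • v) := by
  rw [sp_smul_eq, sp_smul_eq, fieldSp_coe, vmap_mulVec]

theorem mem_Sp_conj (g : GSpm) (s : Spm) :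
    ((g : GLm) : Mm) * (s : Mm) * (((g : GLm)⁻¹ : GLm) : Mm) ∈
      Matrix.symplecticGroup (Fin m) F := by
  rw [mem_symplectic_iff]
  intro u v
  have h1 : ∀ x : Vm, (((g : GLm) : Mm) * (s : Mm) * (((g : GLm)⁻¹ : GLm) : Mm)) *ᵥ x =
      gact m (g : GLm) (s • gact m ((g : GLm)⁻¹) x) := by
    intro x
    rw [sp_smul_eq]
    unfold gact
    rw [Matrix.mulVec_mulVec, Matrix.mulVec_mulVec]
  rw [h1, h1, mult_spec, BB_smul, mult_inv_spec, ← mul_assoc,
    mul_inv_cancel₀ (mult m g).ne_zero, one_mul]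

/-- conjugation by a conformal symplectic matrix, on `Sp` -/
def conjSp (g : ↥(Cfsg.GSp m F)) :
    ↥(Matrix.symplecticGroup (Fin m) F) ≃* ↥(Matrix.symplecticGroup (Fin m) F) where
  toFun s := ⟨((g : GLm) : Mm) * (s : Mm) * (((g : GLm)⁻¹ : GLm) : Mm), mem_Sp_conj m g s⟩
  invFun s := ⟨(((g : GLm)⁻¹ : GLm) : Mm) * (s : Mm) * ((g : GLm) : Mm), by
    have := mem_Sp_conj m g⁻¹ s
    simpa using this⟩
  left_inv s := by
    apply Subtype.ext
    show (((g : GLm)⁻¹ : GLm) : Mm) * (((g : GLm) : Mm) * (s : Mm) * (((g : GLm)⁻¹ : GLm) : Mm)) *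
      ((g : GLm) : Mm) = (s : Mm)
    rw [← mul_assoc, ← mul_assoc, ← Units.val_mul, inv_mul_cancel, Units.val_one, one_mul, mul_assoc,
      ← Units.val_mul, inv_mul_cancel, Units.val_one, mul_one]
  right_inv s := by
    apply Subtype.ext
    show ((g : GLm) : Mm) * ((((g : GLm)⁻¹ : GLm) : Mm) * (s : Mm) * ((g : GLm) : Mm)) *
      (((g : GLm)⁻¹ : GLm) : Mm) = (s : Mm)
    rw [← mul_assoc, ← mul_assoc, ← Units.val_mul, mul_inv_cancel, Units.val_one, one_mul, mul_assoc,
      ← Units.val_mul, mul_inv_cancel, Units.val_one, mul_one]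
  map_mul' s t := by
    apply Subtype.ext
    show ((g : GLm) : Mm) * ((s * t : Spm) : Mm) * (((g : GLm)⁻¹ : GLm) : Mm) =
      (((g : GLm) : Mm) * (s : Mm) * (((g : GLm)⁻¹ : GLm) : Mm)) *
        (((g : GLm) : Mm) * (t : Mm) * (((g : GLm)⁻¹ : GLm) : Mm))
    rw [Submonoid.coe_mul]
    have : (((g : GLm)⁻¹ : GLm) : Mm) * ((g : GLm) : Mm) = 1 := by
      rw [← Units.val_mul, inv_mul_cancel, Units.val_one]
    calc ((g : GLm) : Mm) * ((s : Mm) * (t : Mm)) * (((g : GLm)⁻¹ : GLm) : Mm)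
        = ((g : GLm) : Mm) * (s : Mm) * (1 : Mm) * ((t : Mm) * (((g : GLm)⁻¹ : GLm) : Mm)) := by
          rw [mul_one]; simp only [mul_assoc]
      _ = _ := by rw [← this]; simp only [mul_assoc]

theorem conjSp_coe (g : GSpm) (s : Spm) :
    ((conjSp m g s : Spm) : Mm) = ((g : GLm) : Mm) * (s : Mm) * (((g : GLm)⁻¹ : GLm) : Mm) := rfl

theorem conjSp_smul (g : GSpm) (s : Spm) (v : Vm) :
    conjSp m g s • gact m (g : GLm) v = gact m (g : GLm) (s • v) := by
  rw [sp_smul_eq, sp_smul_eq, conjSp_coe]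
  unfold gact
  rw [Matrix.mulVec_mulVec, Matrix.mul_assoc, ← Units.val_mul, inv_mul_cancel, Units.val_one,
    Matrix.mul_one, Matrix.mulVec_mulVec]

/-- `GSp → Aut PSp` -/
noncomputable def cS : ↥(Cfsg.GSp m F) →* MulAut (Cfsg.PSp m F) where
  toFun g := liftS m (conjSp m g)
  map_one' := by
    apply MulEquiv.ext
    intro x
    obtain ⟨s, rfl⟩ := mkS_surjective m x
    rw [liftS_mkS]
    show mkS m _ = mkS m s
    congr 1
    apply sp_ext
    intro v
    have := conjSp_smul m (1 : GSpm) s v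
    rw [Subgroup.coe_one, gact_one, gact_one] at this
    exact this
  map_mul' g h := by
    apply MulEquiv.ext
    intro x
    obtain ⟨s, rfl⟩ := mkS_surjective m x
    rw [MulAut.mul_apply, liftS_mkS, liftS_mkS, liftS_mkS]
    congr 1
    apply sp_ext
    intro v
    have h1 := conjSp_smul m (g * h) s (gact m ((g * h : GSpm) : GLm)⁻¹ v)
    rw [gact_gact_inv] at h1
    have h2 := conjSp_smul m g (conjSp m h s) (gact m ((g : GLm)⁻¹) v)
    rw [gact_gact_inv] at h2
    have h3 := conjSp_smul m h s (gact m ((h : GLm)⁻¹) (gact m ((g : GLm)⁻¹) v))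
    rw [gact_gact_inv] at h3
    rw [h1, h2, h3, Subgroup.coe_mul, gact_mul, _root_.mul_inv_rev, gact_mul]

theorem cS_mkS (g : GSpm) (s : Spm) : cS m g (mkS m s) = mkS m (conjSp m g s) := liftS_mkS m _ s

/-- `Aut F → Aut PSp` -/
noncomputable def fS : RingAut F →* MulAut (Cfsg.PSp m F) where
  toFun σ := liftS m (fieldSp m σ)
  map_one' := by
    apply MulEquiv.ext
    intro x
    obtain ⟨s, rfl⟩ := mkS_surjective m x
    rw [liftS_mkS]
    show mkS m _ = mkS m s
    congr 1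
  map_mul' σ τ := by
    apply MulEquiv.ext
    intro x
    obtain ⟨s, rfl⟩ := mkS_surjective m x
    rw [MulAut.mul_apply, liftS_mkS, liftS_mkS, liftS_mkS]
    congr 1

theorem fS_mkS (σ : RingAut F) (s : Spm) : fS m σ (mkS m s) = mkS m (fieldSp m σ s) :=
  liftS_mkS m _ s

/-- the standard field automorphisms of the prelude -/
theorem isStdField_fS (σ : F ≃+* F) : IsStdFieldAutPSp σ (fS m σ : PSpm ≃* PSpm) := by
  intro s s' hss'
  show fS m σ (mkS m s) = mkS m s'
  rw [fS_mkS]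
  congr 1
  apply Subtype.ext
  rw [fieldSp_coe, hss']

/-- the products of the standard automorphisms are induced by semilinear maps -/
theorem isInduced_std (g : GSpm) (σ : F ≃+* F) :
    IsInducedBySemilinearPSp (g : GLm) σ ((cS m g * fS m σ : MulAut PSpm) : PSpm ≃* PSpm) := by
  intro s s' hss'
  show (cS m g * fS m σ) (mkS m s) = mkS m s'
  rw [MulAut.mul_apply, fS_mkS, cS_mkS]
  congr 1
  apply Subtype.ext
  rw [conjSp_coe, fieldSp_coe, hss']

/-- the inner-diagonal automorphisms of the prelude -/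
theorem isInnerDiagonal_cS (g : GSpm) : IsInnerDiagonalAutPSp (cS m g : PSpm ≃* PSpm) := by
  refine ⟨(g : GLm), g.2, ?_⟩
  intro s s' hss'
  show cS m g (mkS m s) = mkS m s'
  rw [cS_mkS]
  congr 1
  apply Subtype.ext
  rw [conjSp_coe, hss']
  rfl

/-- the action form of the standard automorphisms -/
theorem std_apply (g : GSpm) (σ : F ≃+* F) (s T : Spm)
    (h : ∀ v : Vm, T • gact m (g : GLm) (vmap m σ v) = gact m (g : GLm) (vmap m σ (s • v))) :
    (cS m g * fS m σ) (mkS m s) = mkS m T := by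
  rw [MulAut.mul_apply, fS_mkS, cS_mkS]
  congr 1
  apply sp_ext
  intro v
  have h1 : v = gact m (g : GLm) (vmap m σ (vmap m σ.symm (gact m ((g : GLm)⁻¹) v))) := by
    rw [vmap_symm, gact_gact_inv]
  rw [h1, h, conjSp_smul, fieldSp_smul]

/-- symplectic matrices are conformal symplectic -/
def toGSp : ↥(Matrix.symplecticGroup (Fin m) F) →* ↥(Cfsg.GSp m F) where
  toFun A := ⟨⟨(A : Mm), ((A⁻¹ : Spm) : Mm), by
      rw [← Submonoid.coe_mul, mul_inv_cancel]; rfl, by
      rw [← Submonoid.coe_mul, inv_mul_cancel]; rfl⟩, by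
    refine ⟨1, fun u v => ?_⟩
    rw [Units.val_one, one_mul]
    exact BB_smul m A u v⟩
  map_one' := by
    apply Subtype.ext
    apply Units.ext
    rfl
  map_mul' A B := by
    apply Subtype.ext
    apply Units.ext
    rfl

theorem gact_toGSp (A : Spm) (v : Vm) : gact m ((toGSp m A : GSpm) : GLm) v = A • v := rfl

theorem cS_toGSp (A : Spm) : cS m (toGSp m A) = MulAut.conj (mkS m A) := by
  apply MulEquiv.ext
  intro x
  obtain ⟨s, rfl⟩ := mkS_surjective m x
  rw [cS_mkS, MulAut.conj_apply, ← map_inv, ← map_mul, ← map_mul]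
  congr 1

end Cfsg.Agent.Lib.Helper9.ASP
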