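import Mathlib
import Cfsg.Prelude
import Cfsg.Agent.Lib.Helper9.ASP10

/-! Automorphisms of `PSp_{2m}(F)`, part 11: every automorphism is a product of a conformal
symplectic conjugation and a field automorphism. -/

set_option autoImplicit false
open Cfsg

namespace Cfsg.Agent.Lib.Helper9.ASP

open Matrix Cfsg.Agent.Lib.Helper5.SympTv Cfsg.Agent.Lib.Helper5.SympGen
  Cfsg.Agent.Lib.Helper5.SympPerfect Cfsg.Agent.Lib.Helper5.SympBridge
  Cfsg.Agent.Lib.Helper5.SympPrimitive

attribute [local instance 2000] spAction spSMulComm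

variable {F : Type*} [Field F] (m : ℕ)

set_option quotPrecheck false
local notation "Vm" => (Fin m ⊕ Fin m → F)
local notation "Mm" => Matrix (Fin m ⊕ Fin m) (Fin m ⊕ Fin m) F
local notation "Spm" => ↥(Matrix.symplecticGroup (Fin m) F)
local notation "PSpm" => Cfsg.PSp m F
local notation "BB" => sympForm m F
local notation "GLm" => GL (Fin m ⊕ Fin m) F
local notation "GSpm" => ↥(Cfsg.GSp m F)

/-- the semilinear form of a standard pair -/
theorem BB_std (g : GSpm) (σ : F ≃+* F) (u v : Vm) :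
    BB (gact m (g : GLm) (vmap m σ u)) (gact m (g : GLm) (vmap m σ v)) =
      (mult m g : F) * σ (BB u v) := by
  rw [mult_spec, BB_vmap]

/-- the standard automorphisms on transvections -/
theorem std_tv (g : GSpm) (σ : F ≃+* F) (x : Vm) (c : F) :
    (cS m g * fS m σ) (mkS m (tv m x c)) =
      mkS m (tv m (gact m (g : GLm) (vmap m σ x)) (((mult m g : F))⁻¹ * σ c)) := by
  apply std_apply
  intro v
  rw [tv_smul_vec, tv_smul_vec, BB_std, vmap_add, vmap_smul, gact_add, gact_smul, map_mul]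
  congr 2
  have := (mult m g).ne_zero
  field_simp

/-- the standard automorphisms on points -/
theorem Pt_std (g : GSpm) (σ : F ≃+* F) (x : Vm) :
    Pt m (cS m g * fS m σ) x (gact m (g : GLm) (vmap m σ x)) := by
  unfold Pt
  ext z
  rw [Subgroup.mem_map, mem_RSb_iff]
  constructor
  · rintro ⟨t, ht, rfl⟩
    obtain ⟨c, rfl⟩ := (mem_RSb_iff m x t).mp ht
    exact ⟨_, std_tv m g σ x c⟩
  · rintro ⟨c', rfl⟩
    refine ⟨mkS m (tv m x (σ.symm ((mult m g : F) * c'))), (mem_RSb_iff m x _).mpr ⟨_, rfl⟩, ?_⟩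
    show (cS m g * fS m σ) _ = _
    rw [std_tv, RingEquiv.apply_symm_apply, ← mul_assoc, inv_mul_cancel₀ (mult m g).ne_zero,
      one_mul]

/-- an automorphism fixing all points is trivial -/
theorem eq_one_of_fix_all (hm : 1 ≤ m) (γ : MulAut PSpm)
    (h : ∀ x : Vm, x ≠ 0 → Pt m γ x x) : γ = 1 := by
  apply MulEquiv.ext
  intro z
  obtain ⟨A, rfl⟩ := mkS_surjective m z
  obtain ⟨A', hA'⟩ := mkS_surjective m (γ (mkS m A))
  show γ (mkS m A) = mkS m A
  rw [← hA']
  symm
  rw [mkS_eq_iff]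
  have key : ∀ x : Vm, x ≠ 0 → ∃ a : F, (A⁻¹ * A').1 *ᵥ x = a • x := by
    intro x hx0
    have h1 := (h x hx0).equivariant m hA'.symm
    have hAx0 : A • x ≠ 0 := (smul_ne_zero_iff_ne A).mpr hx0
    obtain ⟨a, -, ha⟩ := Pt.unique m hm (h _ hAx0) h1 hAx0 ((smul_ne_zero_iff_ne A').mpr hx0)
    refine ⟨a, ?_⟩
    show (A⁻¹ * A') • x = a • x
    rw [mul_smul, ha, sp_smul_smul, inv_smul_smul]
  obtain ⟨a, ha⟩ := scalar_of_forall_eigen _ key
  refine ⟨a, fun v => ?_⟩
  have h1 : (A⁻¹ * A') • v = a • v := by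
    show (A⁻¹ * A').1 *ᵥ v = a • v
    rw [ha, smul_mulVec, one_mulVec]
  rw [mul_smul] at h1
  calc A' • v = A • (A⁻¹ • A' • v) := (smul_inv_smul A (A' • v)).symm
    _ = A • (a • v) := by rw [h1]
    _ = a • A • v := sp_smul_smul m A a v

section pair
variable {e f : Fin m ⊕ Fin m → F} (hef : sympForm m F e f = 1)

theorem prW_add (u v : Vm) : prW m e f (u + v) = prW m e f u + prW m e f v := by
  unfold prW
  rw [sympForm_add_left, sympForm_add_left]
  module

theorem prW_smul (a : F) (v : Vm) : prW m e f (a • v) = a • prW m e f v := by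
  unfold prW
  rw [sympForm_smul_left, sympForm_smul_left]
  module

include hef in
theorem BB_decomp (u v : Vm) :
    BB u v = BB (prW m e f u) (prW m e f v) - BB u f * BB v e + BB u e * BB v f := by
  have hfe := BB_fe m hef
  have h1 := prW_decomp m (e := e) (f := f) u
  have h2 := prW_decomp m (e := e) (f := f) v
  obtain ⟨P, hP⟩ : ∃ P : Vm, P = prW m e f u := ⟨_, rfl⟩
  obtain ⟨Q, hQ⟩ : ∃ Q : Vm, Q = prW m e f v := ⟨_, rfl⟩
  have hPe : BB P e = 0 := by rw [hP]; exact prW_e m hef u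
  have hPf : BB P f = 0 := by rw [hP]; exact prW_f m hef u
  have hQe : BB Q e = 0 := by rw [hQ]; exact prW_e m hef v
  have hQf : BB Q f = 0 := by rw [hQ]; exact prW_f m hef v
  obtain ⟨a, ha⟩ : ∃ a : F, a = BB u f := ⟨_, rfl⟩
  obtain ⟨b, hb⟩ : ∃ b : F, b = BB u e := ⟨_, rfl⟩
  obtain ⟨c, hc⟩ : ∃ c : F, c = BB v f := ⟨_, rfl⟩
  obtain ⟨d, hd⟩ : ∃ d : F, d = BB v e := ⟨_, rfl⟩
  rw [← hP, ← ha, ← hb] at h1
  rw [← hQ, ← hc, ← hd] at h2
  rw [← hP, ← hQ, ← ha, ← hb, ← hc, ← hd]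
  rw [h1, h2]
  simp only [sympForm_add_left, sympForm_sub_left, sympForm_add_right, sympForm_sub_right,
    sympForm_smul_left, sympForm_smul_right, sympForm_self, hPe, hPf, BB_symm_zero m hQe,
    BB_symm_zero m hQf, hef, hfe]
  ring

/-- the semilinear map attached to the data on `Q_e` -/
def Phi (e f : Fin m ⊕ Fin m → F) (σ : F ≃+* F) (κ : F)
    (ψ : (Fin m ⊕ Fin m → F) → (Fin m ⊕ Fin m → F)) (v : Fin m ⊕ Fin m → F) : Fin m ⊕ Fin m → F :=
  ψ (prW m e f v) + (κ * σ (sympForm m F v f)) • e - σ (sympForm m F v e) • f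

variable {σ : F ≃+* F} {κ : F} {ψ : (Fin m ⊕ Fin m → F) → (Fin m ⊕ Fin m → F)}
  (hψW : ∀ w : Fin m ⊕ Fin m → F, sympForm m F w e = 0 → sympForm m F w f = 0 →
    sympForm m F (ψ w) e = 0 ∧ sympForm m F (ψ w) f = 0)
  (hψadd : ∀ w w' : Fin m ⊕ Fin m → F, sympForm m F w e = 0 → sympForm m F w f = 0 →
    sympForm m F w' e = 0 → sympForm m F w' f = 0 → ψ (w + w') = ψ w + ψ w')
  (hψsmul : ∀ (t : F) (w : Fin m ⊕ Fin m → F), sympForm m F w e = 0 → sympForm m F w f = 0 →
    ψ (t • w) = σ t • ψ w)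
  (hψform : ∀ w w' : Fin m ⊕ Fin m → F, sympForm m F w e = 0 → sympForm m F w f = 0 →
    sympForm m F w' e = 0 → sympForm m F w' f = 0 →
    sympForm m F (ψ w) (ψ w') = κ * σ (sympForm m F w w'))

include hef hψadd in
theorem Phi_add (u v : Vm) :
    Phi m e f σ κ ψ (u + v) = Phi m e f σ κ ψ u + Phi m e f σ κ ψ v := by
  unfold Phi
  rw [prW_add, hψadd _ _ (prW_e m hef u) (prW_f m hef u) (prW_e m hef v) (prW_f m hef v),
    sympForm_add_left, sympForm_add_left, map_add, map_add]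
  module

include hef hψsmul in
theorem Phi_smul (t : F) (v : Vm) : Phi m e f σ κ ψ (t • v) = σ t • Phi m e f σ κ ψ v := by
  unfold Phi
  rw [prW_smul, hψsmul _ _ (prW_e m hef v) (prW_f m hef v), sympForm_smul_left,
    sympForm_smul_left, map_mul, map_mul]
  module

include hef hψW hψform in
theorem Phi_form (u v : Vm) :
    BB (Phi m e f σ κ ψ u) (Phi m e f σ κ ψ v) = κ * σ (BB u v) := by
  have hfe := BB_fe m hef
  obtain ⟨h1, h2⟩ := hψW _ (prW_e m hef u) (prW_f m hef u)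
  obtain ⟨h3, h4⟩ := hψW _ (prW_e m hef v) (prW_f m hef v)
  have h5 := hψform _ _ (prW_e m hef u) (prW_f m hef u) (prW_e m hef v) (prW_f m hef v)
  rw [BB_decomp m hef u v]
  unfold Phi
  simp only [sympForm_add_left, sympForm_sub_left, sympForm_add_right, sympForm_sub_right,
    sympForm_smul_left, sympForm_smul_right, sympForm_self, h1, h2, BB_symm_zero m h3,
    BB_symm_zero m h4, hef, hfe, h5, map_add, map_sub, map_mul]
  ring

include hψadd in
theorem psi_zero_of_add : ψ 0 = 0 := by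
  have := hψadd 0 0 (BB_zero_left m e) (BB_zero_left m f) (BB_zero_left m e) (BB_zero_left m f)
  rw [add_zero] at this
  have h2 : ψ 0 + 0 = ψ 0 + ψ 0 := by rw [add_zero]; exact this
  exact (add_left_cancel h2).symm

include hef hψadd in
theorem Phi_e : Phi m e f σ κ ψ e = κ • e := by
  have h1 : prW m e f e = 0 := by
    unfold prW
    rw [hef, sympForm_self]
    module
  unfold Phi
  rw [h1, psi_zero_of_add m hψadd, hef, sympForm_self, map_one, map_zero]
  module

include hef hψadd in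
theorem Phi_f : Phi m e f σ κ ψ f = f := by
  have hfe := BB_fe m hef
  have h1 : prW m e f f = 0 := by
    unfold prW
    rw [hfe, sympForm_self]
    module
  unfold Phi
  rw [h1, psi_zero_of_add m hψadd, hfe, sympForm_self, map_neg, map_one, map_zero]
  module

theorem Phi_W {w : Vm} (hwe : BB w e = 0) (hwf : BB w f = 0) : Phi m e f σ κ ψ w = ψ w := by
  unfold Phi
  rw [prW_of_mem m hwe hwf, hwe, hwf, map_zero]
  module

include hef hψW hψadd hψsmul hψform in
/-- the conformal symplectic matrix attached to the data -/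
theorem exists_GSp_of_data (hκ : κ ≠ 0) :
    ∃ g : GSpm, ∀ v : Vm, gact m (g : GLm) (vmap m σ v) = Phi m e f σ κ ψ v := by
  let L : Vm →ₗ[F] Vm :=
    { toFun := fun x => Phi m e f σ κ ψ (vmap m σ.symm x)
      map_add' := by
        intro u v
        rw [vmap_add, Phi_add m hef hψadd]
      map_smul' := by
        intro c v
        rw [vmap_smul, Phi_smul m hef hψsmul, RingEquiv.apply_symm_apply, RingHom.id_apply] }
  have hL : ∀ x, L x = Phi m e f σ κ ψ (vmap m σ.symm x) := fun x => rfl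
  have hform : ∀ x y, BB (L x) (L y) = κ * BB x y := by
    intro x y
    rw [hL, hL, Phi_form m hef hψW hψform, BB_vmap, RingEquiv.apply_symm_apply]
  have hinj : Function.Injective L := by
    intro u v huv
    have h1 : u - v = 0 := by
      apply eq_zero_of_sympForm_right m
      intro y
      have h2 := hform (u - v) y
      rw [map_sub, huv, sub_self, BB_zero_left] at h2
      rcases mul_eq_zero.mp h2.symm with h3 | h3
      · exact absurd h3 hκ
      · exact h3
    exact sub_eq_zero.mp h1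
  obtain ⟨Le, hLe⟩ : ∃ Le : Vm ≃ₗ[F] Vm, ∀ v, Le v = L v :=
    ⟨LinearEquiv.ofInjectiveEndo L hinj, fun v => rfl⟩
  have hcomp1 : (Le : Vm →ₗ[F] Vm) ∘ₗ (Le.symm : Vm →ₗ[F] Vm) = LinearMap.id := by
    ext v; simp
  have hcomp2 : (Le.symm : Vm →ₗ[F] Vm) ∘ₗ (Le : Vm →ₗ[F] Vm) = LinearMap.id := by
    ext v; simp
  let g0 : GLm :=
    ⟨LinearMap.toMatrix' (Le : Vm →ₗ[F] Vm), LinearMap.toMatrix' (Le.symm : Vm →ₗ[F] Vm),
      by rw [← LinearMap.toMatrix'_comp, hcomp1, LinearMap.toMatrix'_id],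
      by rw [← LinearMap.toMatrix'_comp, hcomp2, LinearMap.toMatrix'_id]⟩
  have hg0 : ∀ x : Vm, gact m g0 x = L x := by
    intro x
    show LinearMap.toMatrix' (Le : Vm →ₗ[F] Vm) *ᵥ x = L x
    rw [LinearMap.toMatrix'_mulVec]
    exact hLe x
  have hmem : g0 ∈ Cfsg.GSp m F := by
    rw [mem_GSp_iff]
    refine ⟨Units.mk0 κ hκ, fun u v => ?_⟩
    rw [hg0, hg0, hform]
    rfl
  refine ⟨⟨g0, hmem⟩, fun v => ?_⟩
  show gact m g0 (vmap m σ v) = _
  rw [hg0, hL, vmap_symm']

end pair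

end Cfsg.Agent.Lib.Helper9.ASP
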