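import Mathlib
import Cfsg.Prelude
import Cfsg.Agent.Lib.Helper9.ASP11

/-! Automorphisms of `PSp_{2m}(F)`, part 12: every automorphism is standard. -/

set_option autoImplicit false
open Cfsg

namespace Cfsg.Agent.Lib.Helper9.ASP

open Matrix Cfsg.Agent.Lib.Helper5.SympTv Cfsg.Agent.Lib.Helper5.SympGen
  Cfsg.Agent.Lib.Helper5.SympPerfect Cfsg.Agent.Lib.Helper5.SympBridge
  Cfsg.Agent.Lib.Helper5.SympPrimitive

attribute [local instance 2000] spAction spSMulComm

variable {F : Type*} [Field F] (m : ℕ)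

set_option quotPrecheck false
local notation "Vm" => (Fin m ⊕ Fin m → F)
local notation "Mm" => Matrix (Fin m ⊕ Fin m) (Fin m ⊕ Fin m) F
local notation "Spm" => ↥(Matrix.symplecticGroup (Fin m) F)
local notation "PSpm" => Cfsg.PSp m F
local notation "BB" => sympForm m F
local notation "GLm" => GL (Fin m ⊕ Fin m) F
local notation "GSpm" => ↥(Cfsg.GSp m F)

section pair
variable {e f : Fin m ⊕ Fin m → F} (hef : sympForm m F e f = 1)

include hef in
/-- an automorphism fixing the points `e`, `f` and the image of `Q_e` elementwise fixes all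
points -/
theorem fix_all_of_fix_Q (hall : AllPt (F := F) m) {γ : MulAut PSpm} (hγe : Pt m γ e e)
    (hγf : Pt m γ f f)
    (hfix : ∀ w : Vm, BB w e = 0 → BB w f = 0 → ∀ b : F,
      γ (mkS m (EE m e w b)) = mkS m (EE m e w b)) :
    ∀ x : Vm, x ≠ 0 → Pt m γ x x := by
  obtain ⟨he0, hf0⟩ := ne_zero_of_BB_ne m (by rw [hef]; exact one_ne_zero)
  have step1 : ∀ x : Vm, BB x e ≠ 0 → Pt m γ x x := by
    intro x hxe
    obtain ⟨t, ht⟩ : ∃ t : F, t = BB x e := ⟨_, rfl⟩
    have ht0 : t ≠ 0 := by rw [ht]; exact hxe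
    obtain ⟨P, hP⟩ : ∃ P : Vm, P = prW m e f x := ⟨_, rfl⟩
    have hPe : BB P e = 0 := by rw [hP]; exact prW_e m hef x
    have hPf : BB P f = 0 := by rw [hP]; exact prW_f m hef x
    have hwe : BB (t⁻¹ • P) e = 0 := by rw [sympForm_smul_left, hPe, mul_zero]
    have hwf : BB (t⁻¹ • P) f = 0 := by rw [sympForm_smul_left, hPf, mul_zero]
    have h1 := hγf.equivariant m (hfix _ hwe hwf (t⁻¹ * BB x f))
    have h2 : EE m e (t⁻¹ • P) (t⁻¹ * BB x f) • f = (-t⁻¹) • x := by
      rw [EE_f m hef hwe hwf]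
      have h3 := prW_decomp m (e := e) (f := f) x
      rw [← hP, ← ht] at h3
      nth_rewrite 2 [h3]
      have : t⁻¹ * t = 1 := inv_mul_cancel₀ ht0
      linear_combination (norm := module) (-this) • f
    rw [h2] at h1
    have hc0 : (-t⁻¹) ≠ 0 := neg_ne_zero.mpr (inv_ne_zero ht0)
    have h3 := (h1.smul_left m (inv_ne_zero hc0)).smul_right m (inv_ne_zero hc0)
    rwa [smul_smul, inv_mul_cancel₀ hc0, one_smul] at h3
  intro x hx0
  by_cases hli : LinearIndependent F ![e, x]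
  · obtain ⟨x', hx'0, hx'⟩ := hall γ x hx0
    obtain ⟨f', hf'1, hf'2⟩ := exists_perp_cross m e x hli
    have hf'e : BB f' e ≠ 0 := by
      intro h
      apply hf'2
      rw [sympForm_swap, h, neg_zero]
    have hf'x : BB f' x = 0 := BB_symm_zero m hf'1
    have key : ∀ v : Vm, BB v e ≠ 0 → BB v x = 0 → BB v x' = 0 := by
      intro v hve hvx
      have hv0 : v ≠ 0 := (ne_zero_of_BB_ne m hve).1
      exact Pt.orth m (step1 v hve) hx' hv0 hx'0 hvx
    have hf'x' : BB f' x' = 0 := key f' hf'e hf'x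
    obtain ⟨a, b, hab⟩ := mem_span_pair_of_perp m (x := x) (y := x) (z := x') (by
      intro v hvx _
      by_cases hve : BB v e = 0
      · have h1 := key (v + f') (by rw [sympForm_add_left, hve, zero_add]; exact hf'e)
          (by rw [sympForm_add_left, hvx, hf'x, add_zero])
        rw [sympForm_add_left, hf'x', add_zero] at h1
        exact h1
      · exact key v hve hvx)
    have hab' : x' = (a + b) • x := by rw [hab]; module
    have hab0 : a + b ≠ 0 := by
      intro h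
      rw [h, zero_smul] at hab'
      exact hx'0 hab'
    have h1 := hx'.smul_right m (inv_ne_zero hab0)
    rwa [hab', smul_smul, inv_mul_cancel₀ hab0, one_smul] at h1
  · obtain ⟨l, hl⟩ := exists_smul_of_not_li m he0 hli
    have hl0 : l ≠ 0 := by
      rintro rfl
      rw [zero_smul] at hl
      exact hx0 hl
    rw [hl]
    exact (hγe.smul_left m hl0).smul_right m hl0

end pair

/-- **every automorphism of `PSp_{2m}(F)` is the product of a conformal symplectic conjugation and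
a field automorphism** -/
theorem aut_eq_std [Finite F] (p : ℕ) [Fact p.Prime] [CharP F p] (hm : 2 ≤ m)
    (h4 : m = 2 → p ≠ 2) (β : MulAut PSpm) :
    ∃ (g : GSpm) (σ : F ≃+* F), β = cS m g * fS m σ := by
  have hall : AllPt (F := F) m := allPt m p hm h4
  have hm1 : 1 ≤ m := by omega
  obtain ⟨e, f, hef⟩ : ∃ e f : Vm, BB e f = 1 :=
    ⟨Pi.single (Sum.inr ⟨0, by omega⟩) 1, Pi.single (Sum.inl ⟨0, by omega⟩) 1, BB_fI_eI m _⟩
  obtain ⟨he0, hf0⟩ := ne_zero_of_BB_ne m (by rw [hef]; exact one_ne_zero)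
  obtain ⟨A, hAe, hAf⟩ := exists_conj_fix m hall β hef
  obtain ⟨σ, κ, ψ, hκ, hψW, hψadd, hψsmul, hψform, hψmap⟩ :=
    exists_semilinear_data hef hall p hm hAe hAf
  obtain ⟨g, hg⟩ := exists_GSp_of_data m hef hψW hψadd hψsmul hψform hκ
  -- the standard automorphism agrees on the image of `Q_e`
  have hstd : ∀ w : Vm, BB w e = 0 → BB w f = 0 → ∀ b : F,
      (cS m g * fS m σ) (mkS m (EE m e w b)) = mkS m (EE m e (ψ w) (κ * σ b)) := by
    intro w hwe hwf b
    apply std_apply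
    intro v
    obtain ⟨k1, k2⟩ := hψW w hwe hwf
    have hew : BB e w = 0 := BB_symm_zero m hwe
    have h1 : BB (Phi m e f σ κ ψ v) e = σ (BB v e) := by
      have h2 := Phi_form m hef hψW hψform v e
      rw [Phi_e m hef hψadd, sympForm_smul_right] at h2
      exact mul_left_cancel₀ hκ h2
    have h3 : BB (Phi m e f σ κ ψ v) (ψ w) = κ * σ (BB v w) := by
      rw [← Phi_W m hwe hwf (σ := σ) (κ := κ) (ψ := ψ), Phi_form m hef hψW hψform]
    rw [hg, hg, EE_smul m hew, EE_smul m (BB_symm_zero m k1), h1, h3, Phi_add m hef hψadd,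
      Phi_add m hef hψadd, Phi_add m hef hψadd, Phi_smul m hef hψsmul, Phi_smul m hef hψsmul,
      Phi_smul m hef hψsmul, Phi_e m hef hψadd, Phi_W m hwe hwf, map_mul]
    module
  obtain ⟨γ₀, hγ₀⟩ : ∃ γ₀ : MulAut PSpm, γ₀ = cS m g * fS m σ := ⟨_, rfl⟩
  have hγ₀e : Pt m γ₀ e e := by
    have h1 := Pt_std m g σ e
    rw [hg, Phi_e m hef hψadd, ← hγ₀] at h1
    have h2 := h1.smul_right m (inv_ne_zero hκ)
    rwa [smul_smul, inv_mul_cancel₀ hκ, one_smul] at h2
  have hγ₀f : Pt m γ₀ f f := by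
    have h1 := Pt_std m g σ f
    rwa [hg, Phi_f m hef hψadd, ← hγ₀] at h1
  have hfix : ∀ w : Vm, BB w e = 0 → BB w f = 0 → ∀ b : F,
      (γ₀⁻¹ * (MulAut.conj (mkS m A) * β)) (mkS m (EE m e w b)) = mkS m (EE m e w b) := by
    intro w hwe hwf b
    rw [MulAut.mul_apply, hψmap w hwe hwf b, ← hstd w hwe hwf b, ← hγ₀, MulAut.inv_apply_self]
  have hall' := fix_all_of_fix_Q m hef hall (hAe.mul m hγ₀e.inv) (hAf.mul m hγ₀f.inv) hfix
  have h1 := eq_one_of_fix_all m hm1 _ hall'
  have h2 : MulAut.conj (mkS m A) * β = γ₀ := by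
    have := congrArg (fun z => γ₀ * z) h1
    simpa using this
  refine ⟨(toGSp m A)⁻¹ * g, σ, ?_⟩
  rw [map_mul, map_inv, cS_toGSp, mul_assoc, ← hγ₀, ← h2]
  group

end Cfsg.Agent.Lib.Helper9.ASP
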