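import Mathlib
import Cfsg.Prelude
import Cfsg.Agent.Lib.Helper9.ASP12

/-! Automorphisms of `PSp_{2m}(F)`, part 13: commutation rules of the standard automorphisms, the
kernel of `GSp → Aut PSp`, the inner-diagonal group. -/

set_option autoImplicit false
open Cfsg

namespace Cfsg.Agent.Lib.Helper9.ASP

open Matrix Cfsg.Agent.Lib.Helper5.SympTv Cfsg.Agent.Lib.Helper5.SympGen
  Cfsg.Agent.Lib.Helper5.SympPerfect Cfsg.Agent.Lib.Helper5.SympBridge
  Cfsg.Agent.Lib.Helper5.SympPrimitive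

attribute [local instance 2000] spAction spSMulComm

variable {F : Type*} [Field F] (m : ℕ)

set_option quotPrecheck false
local notation "Vm" => (Fin m ⊕ Fin m → F)
local notation "Mm" => Matrix (Fin m ⊕ Fin m) (Fin m ⊕ Fin m) F
local notation "Spm" => ↥(Matrix.symplecticGroup (Fin m) F)
local notation "PSpm" => Cfsg.PSp m F
local notation "BB" => sympForm m F
local notation "GLm" => GL (Fin m ⊕ Fin m) F
local notation "GSpm" => ↥(Cfsg.GSp m F)

/-- a field automorphism applied to the entries, on `GL` -/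
noncomputable def sS (σ : RingAut F) : GL (Fin m ⊕ Fin m) F →* GL (Fin m ⊕ Fin m) F :=
  Matrix.GeneralLinearGroup.map (σ : F ≃+* F).toRingHom

theorem sS_coe (σ : RingAut F) (g : GLm) : ((sS m σ g : GLm) : Mm) = (g : Mm).map σ := by
  ext i j
  rfl

theorem sS_one (g : GLm) : sS m (1 : RingAut F) g = g := by
  apply Units.ext
  rw [sS_coe]
  ext i j
  rfl

theorem sS_mul (σ τ : RingAut F) (g : GLm) : sS m (σ * τ) g = sS m σ (sS m τ g) := by
  apply Units.ext
  rw [sS_coe, sS_coe, sS_coe]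
  ext i j
  rfl

theorem gact_sS (σ : RingAut F) (g : GLm) (v : Vm) :
    gact m (sS m σ g) (vmap m σ v) = vmap m σ (gact m g v) := by
  unfold gact
  rw [sS_coe, vmap_mulVec]

theorem mem_GSp_sS (σ : RingAut F) (g : GSpm) : sS m σ (g : GLm) ∈ Cfsg.GSp m F := by
  rw [mem_GSp_iff]
  refine ⟨Units.map ((σ : F ≃+* F).toRingHom.toMonoidHom) (mult m g), fun u v => ?_⟩
  have h1 : ∀ x : Vm, gact m (sS m σ (g : GLm)) x =
      vmap m σ (gact m (g : GLm) (vmap m (σ : F ≃+* F).symm x)) := by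
    intro x
    rw [← gact_sS, vmap_symm]
  rw [h1, h1, BB_vmap, mult_spec, map_mul, ← BB_vmap, vmap_symm, vmap_symm]
  rfl

/-- a field automorphism applied to the entries, on `GSp` -/
noncomputable def fieldGSp (σ : RingAut F) : ↥(Cfsg.GSp m F) →* ↥(Cfsg.GSp m F) where
  toFun g := ⟨sS m σ (g : GLm), mem_GSp_sS m σ g⟩
  map_one' := by
    apply Subtype.ext
    show sS m σ ((1 : GSpm) : GLm) = 1
    rw [Subgroup.coe_one, map_one]
  map_mul' g h := by
    apply Subtype.ext
    show sS m σ ((g * h : GSpm) : GLm) = sS m σ (g : GLm) * sS m σ (h : GLm)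
    rw [Subgroup.coe_mul, map_mul]

theorem fieldGSp_coe (σ : RingAut F) (g : GSpm) :
    ((fieldGSp m σ g : GSpm) : GLm) = sS m σ (g : GLm) := rfl

theorem fieldGSp_one (g : GSpm) : fieldGSp m (1 : RingAut F) g = g := by
  apply Subtype.ext
  rw [fieldGSp_coe, sS_one]

theorem fieldGSp_mul (σ τ : RingAut F) (g : GSpm) :
    fieldGSp m (σ * τ) g = fieldGSp m σ (fieldGSp m τ g) := by
  apply Subtype.ext
  rw [fieldGSp_coe, fieldGSp_coe, fieldGSp_coe, sS_mul]

/-- commutation rule of field automorphisms and conformal conjugations -/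
theorem fS_mul_cS (σ : RingAut F) (g : GSpm) :
    fS m σ * cS m g = cS m (fieldGSp m σ g) * fS m σ := by
  apply MulEquiv.ext
  intro x
  obtain ⟨s, rfl⟩ := mkS_surjective m x
  rw [MulAut.mul_apply, MulAut.mul_apply, cS_mkS, fS_mkS, fS_mkS, cS_mkS]
  congr 1
  apply sp_ext
  intro v
  have h2 : ∀ w : Vm, gact m ((fieldGSp m σ g : GSpm) : GLm) (vmap m σ w) =
      vmap m σ (gact m (g : GLm) w) := fun w => gact_sS m σ (g : GLm) w
  obtain ⟨w, hw⟩ : ∃ w : Vm, w = gact m ((g : GLm)⁻¹) (vmap m (σ : F ≃+* F).symm v) := ⟨_, rfl⟩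
  have hv1 : vmap m σ (gact m (g : GLm) w) = v := by
    rw [hw, gact_gact_inv, vmap_symm]
  have hv2 : gact m ((fieldGSp m σ g : GSpm) : GLm) (vmap m σ w) = v := (h2 w).trans hv1
  calc fieldSp m σ (conjSp m g s) • v
      = fieldSp m σ (conjSp m g s) • vmap m σ (gact m (g : GLm) w) := by rw [hv1]
    _ = vmap m σ (gact m (g : GLm) (s • w)) := by rw [fieldSp_smul, conjSp_smul]
    _ = gact m ((fieldGSp m σ g : GSpm) : GLm) (vmap m σ (s • w)) := (h2 _).symm
    _ = conjSp m (fieldGSp m σ g) (fieldSp m σ s) •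
          gact m ((fieldGSp m σ g : GSpm) : GLm) (vmap m σ w) := by
        rw [conjSp_smul, fieldSp_smul]
    _ = _ := by rw [hv2]

/-- the twisted norm in `GSp` -/
noncomputable def NkS (σ : RingAut F) (g : ↥(Cfsg.GSp m F)) : ℕ → ↥(Cfsg.GSp m F)
  | 0 => 1
  | k + 1 => g * fieldGSp m σ (NkS σ g k)

theorem NkS_zero (σ : RingAut F) (g : GSpm) : NkS m σ g 0 = 1 := rfl

theorem NkS_succ (σ : RingAut F) (g : GSpm) (k : ℕ) :
    NkS m σ g (k + 1) = g * fieldGSp m σ (NkS m σ g k) := rfl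

theorem pow_cS_fS (σ : RingAut F) (g : GSpm) (k : ℕ) :
    (cS m g * fS m σ) ^ k = cS m (NkS m σ g k) * fS m (σ ^ k) := by
  induction k with
  | zero => rw [pow_zero, pow_zero, NkS_zero, map_one, map_one, one_mul]
  | succ k ih =>
    rw [pow_succ', ih, NkS_succ, pow_succ', map_mul, map_mul]
    calc cS m g * fS m σ * (cS m (NkS m σ g k) * fS m (σ ^ k))
        = cS m g * (fS m σ * cS m (NkS m σ g k)) * fS m (σ ^ k) := by simp only [mul_assoc]
      _ = cS m g * (cS m (fieldGSp m σ (NkS m σ g k)) * fS m σ) * fS m (σ ^ k) := by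
          rw [fS_mul_cS]
      _ = _ := by simp only [mul_assoc]

theorem vmap_one' (v : Vm) : vmap m ((1 : RingAut F) : F ≃+* F) v = v := rfl

/-- the kernel of `GSp → Aut PSp` consists of the scalars -/
theorem mem_ker_cS (hm : 1 ≤ m) (g : GSpm) :
    cS m g = 1 ↔ ∃ a : F, ∀ v : Vm, gact m (g : GLm) v = a • v := by
  constructor
  · intro h
    have key : ∀ x : Vm, x ≠ 0 → ∃ a : F, ((g : GLm) : Mm) *ᵥ x = a • x := by
      intro x hx0
      have h1 := Pt_std m g (1 : RingAut F) x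
      rw [map_one, mul_one, h, vmap_one'] at h1
      have hgx0 : gact m (g : GLm) x ≠ 0 := by
        intro h0
        apply hx0
        have := congrArg (gact m ((g : GLm)⁻¹)) h0
        rw [gact_inv_gact] at this
        rw [this]
        unfold gact
        rw [mulVec_zero]
      obtain ⟨a, -, ha⟩ := Pt.unique m hm (Pt_one m x) h1 hx0 hgx0
      exact ⟨a, ha⟩
    obtain ⟨a, ha⟩ := scalar_of_forall_eigen _ key
    refine ⟨a, fun v => ?_⟩
    unfold gact
    rw [ha, smul_mulVec, one_mulVec]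
  · rintro ⟨a, ha⟩
    have ha0 : a ≠ 0 := by
      rintro rfl
      obtain ⟨v, hv⟩ := exists_ne_zero (F := F) m hm
      apply hv
      have h1 := ha (gact m ((g : GLm)⁻¹) v)
      rw [gact_gact_inv, zero_smul] at h1
      exact h1
    apply MulEquiv.ext
    intro x
    obtain ⟨s, rfl⟩ := mkS_surjective m x
    rw [cS_mkS]
    show mkS m _ = mkS m s
    congr 1
    apply sp_ext
    intro v
    have h1 := conjSp_smul m g s v
    rw [ha, ha, sp_smul_smul] at h1
    have := congrArg (fun z : Vm => a⁻¹ • z) h1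
    simpa only [smul_smul, inv_mul_cancel₀ ha0, one_smul] using this

theorem eq_cS_of_innerDiagonal {β : PSpm ≃* PSpm} (h : IsInnerDiagonalAutPSp β) :
    ∃ g : GSpm, β = cS m g := by
  obtain ⟨g, hg, hβ⟩ := h
  refine ⟨⟨g, hg⟩, ?_⟩
  apply MulEquiv.ext
  intro x
  obtain ⟨s, rfl⟩ := mkS_surjective m x
  rw [cS_mkS]
  exact hβ s (conjSp m ⟨g, hg⟩ s) (conjSp_coe m ⟨g, hg⟩ s)

theorem eq_fS_of_stdField {σ : F ≃+* F} {β : PSpm ≃* PSpm} (h : IsStdFieldAutPSp σ β) :
    β = fS m σ := by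
  apply MulEquiv.ext
  intro x
  obtain ⟨s, rfl⟩ := mkS_surjective m x
  rw [fS_mkS]
  exact h s (fieldSp m σ s) (fieldSp_coe m σ s)

theorem inndiagPSp_eq : Cfsg.inndiagPSp m F = (cS (F := F) m).range := by
  unfold Cfsg.inndiagPSp Cfsg.autSubgroupOf
  apply le_antisymm
  · rw [Subgroup.closure_le]
    intro β hβ
    obtain ⟨g, rfl⟩ := eq_cS_of_innerDiagonal m hβ
    exact ⟨g, rfl⟩
  · rintro _ ⟨g, rfl⟩
    exact Subgroup.subset_closure (isInnerDiagonal_cS m g)

/-- field automorphisms act faithfully -/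
theorem fS_injective (hm : 1 ≤ m) : Function.Injective (fS (F := F) m) := by
  rw [injective_iff_map_eq_one]
  intro σ h
  apply RingEquiv.ext
  intro c
  obtain ⟨x, hx⟩ : ∃ x : Vm, x = Pi.single (Sum.inl ⟨0, hm⟩) 1 := ⟨_, rfl⟩
  have hx0 : x ≠ 0 := by rw [hx]; exact single_inl_ne_zero m _
  have hσx : vmap m (σ : F ≃+* F) x = x := by
    rw [hx]
    ext i
    unfold vmap
    rw [Pi.single_apply]
    split_ifs <;> simp
  have h1 := std_tv m (1 : GSpm) σ x c
  rw [map_one, one_mul, h, Subgroup.coe_one, gact_one, hσx] at h1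
  have h2 : mkS m (tv m x c) = mkS m (tv m x (((mult m (1 : GSpm) : F))⁻¹ * σ c)) := h1
  have hmult : (mult m (1 : GSpm) : F) = 1 := by
    obtain ⟨f, hxf⟩ := exists_partner m x hx0
    have := mult_spec m (1 : GSpm) x f
    rw [Subgroup.coe_one, gact_one, gact_one, hxf, mul_one] at this
    exact this.symm
  rw [hmult, inv_one, one_mul] at h2
  obtain ⟨a, ha⟩ := (mkS_eq_iff m _ _).mp h2
  have ha1 : a = 1 := by
    have h3 := ha x
    rw [tv_smul_vec, tv_smul_vec, sympForm_self, mul_zero, mul_zero, zero_smul, add_zero] at h3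
    have h4 : (a - 1) • x = 0 := by rw [sub_smul, one_smul, ← h3, sub_self]
    rcases smul_eq_zero.mp h4 with h5 | h5
    · exact sub_eq_zero.mp h5
    · exact absurd h5 hx0
  obtain ⟨f, hxf⟩ := exists_partner m x hx0
  have hfx : BB f x = -1 := by rw [sympForm_swap, hxf]
  have h3 := ha f
  rw [ha1, one_smul, tv_smul_vec, tv_smul_vec, hfx] at h3
  have h4 : (σ c - c) • x = 0 := by linear_combination (norm := module) (-1 : F) • h3
  rcases smul_eq_zero.mp h4 with h5 | h5
  · exact sub_eq_zero.mp h5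
  · exact absurd h5 hx0

end Cfsg.Agent.Lib.Helper9.ASP
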