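import Mathlib
import Cfsg.Prelude
import Cfsg.Agent.Lib.Helper9.ASP13
import Cfsg.Agent.Lib.Helper9.ASP14

/-! Automorphisms of `PSp_{2m}(F)`, part 15: scalars, twisted norms, normality of the
inner-diagonal group. -/

set_option autoImplicit false
open Cfsg

namespace Cfsg.Agent.Lib.Helper9.ASP

open Matrix Cfsg.Agent.Lib.Helper5.SympTv Cfsg.Agent.Lib.Helper5.SympGen
  Cfsg.Agent.Lib.Helper5.SympPerfect Cfsg.Agent.Lib.Helper5.SympBridge
  Cfsg.Agent.Lib.Helper5.SympPrimitive

open Cfsg.Agent.Lib.Helper9.APSL (uA uA_coe nrm nrm_zero nrm_succ)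

attribute [local instance 2000] spAction spSMulComm

variable {F : Type*} [Field F] (m : ℕ)

set_option quotPrecheck false
local notation "Vm" => (Fin m ⊕ Fin m → F)
local notation "Mm" => Matrix (Fin m ⊕ Fin m) (Fin m ⊕ Fin m) F
local notation "Spm" => ↥(Matrix.symplecticGroup (Fin m) F)
local notation "PSpm" => Cfsg.PSp m F
local notation "BB" => sympForm m F
local notation "GLm" => GL (Fin m ⊕ Fin m) F
local notation "GSpm" => ↥(Cfsg.GSp m F)

theorem sS_eq_sGI (σ : RingAut F) (g : GLm) : sS m σ g = sGI σ g := rfl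

theorem gl_ext {g h : GLm} (H : ∀ v : Vm, gact m g v = gact m h v) : g = h := by
  apply Units.ext
  rw [ext_iff_mulVec]
  exact H

theorem gsp_ext {g h : GSpm} (H : ∀ v : Vm, gact m (g : GLm) v = gact m (h : GLm) v) : g = h :=
  Subtype.ext (gl_ext m H)

theorem gact_ne_zero (g : GLm) {v : Vm} (hv : v ≠ 0) : gact m g v ≠ 0 := by
  intro h0
  apply hv
  have := congrArg (gact m g⁻¹) h0
  rw [gact_inv_gact] at this
  rw [this]
  unfold gact
  rw [mulVec_zero]

theorem gact_scalar (u : Fˣ) (v : Vm) :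
    gact m (Matrix.GeneralLinearGroup.scalar (Fin m ⊕ Fin m) u) v = (u : F) • v := by
  unfold gact
  rw [Matrix.GeneralLinearGroup.coe_scalar]
  ext x
  rw [Matrix.scalar_apply, mulVec_diagonal]
  rfl

/-- the scalar elements of `GSp` -/
noncomputable def scG : Fˣ →* ↥(Cfsg.GSp m F) where
  toFun u := ⟨Matrix.GeneralLinearGroup.scalar (Fin m ⊕ Fin m) u, by
    rw [mem_GSp_iff]
    refine ⟨u * u, fun x y => ?_⟩
    rw [gact_scalar, gact_scalar, sympForm_smul_left, sympForm_smul_right, Units.val_mul]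
    ring⟩
  map_one' := by
    apply Subtype.ext
    exact map_one _
  map_mul' u v := by
    apply Subtype.ext
    exact map_mul _ u v

theorem gact_scG (u : Fˣ) (v : Vm) : gact m ((scG m u : GSpm) : GLm) v = (u : F) • v :=
  gact_scalar m u v

theorem cS_scG (hm : 1 ≤ m) (u : Fˣ) : cS m (scG m u) = 1 :=
  (mem_ker_cS m hm _).mpr ⟨(u : F), fun v => gact_scG m u v⟩

theorem gact_fieldGSp (σ : RingAut F) (g : GSpm) (v : Vm) :
    gact m ((fieldGSp m σ g : GSpm) : GLm) (vmap m σ v) = vmap m σ (gact m (g : GLm) v) :=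
  gact_sS m σ (g : GLm) v

theorem gact_fieldGSp' (σ : RingAut F) (g : GSpm) (v : Vm) :
    gact m ((fieldGSp m σ g : GSpm) : GLm) v =
      vmap m σ (gact m (g : GLm) (vmap m (σ : F ≃+* F).symm v)) := by
  rw [← gact_fieldGSp, vmap_symm]

theorem fieldGSp_scG (σ : RingAut F) (u : Fˣ) : fieldGSp m σ (scG m u) = scG m (uA σ u) := by
  apply gsp_ext
  intro v
  rw [gact_fieldGSp', gact_scG, gact_scG, vmap_smul, vmap_symm, uA_coe]

theorem scG_comm (u : Fˣ) (g : GSpm) : scG m u * g = g * scG m u := by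
  apply gsp_ext
  intro v
  rw [Subgroup.coe_mul, Subgroup.coe_mul, gact_mul, gact_mul, gact_scG, gact_scG, gact_smul]

theorem NkS_coe (σ : RingAut F) (g : GSpm) (k : ℕ) :
    ((NkS m σ g k : GSpm) : GLm) = NkI σ (g : GLm) k := by
  induction k with
  | zero => rfl
  | succ k ih =>
    rw [NkS_succ, NkI_succ, Subgroup.coe_mul, fieldGSp_coe, ih]
    rfl

theorem NkS_scG_mul (σ : RingAut F) (u : Fˣ) (g : GSpm) (k : ℕ) :
    NkS m σ (scG m u * g) k = scG m (nrm σ k u) * NkS m σ g k := by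
  induction k with
  | zero => rw [NkS_zero, NkS_zero, nrm_zero, map_one, one_mul]
  | succ k ih =>
    rw [NkS_succ, ih, NkS_succ, nrm_succ, map_mul, map_mul, fieldGSp_scG]
    calc scG m u * g * (scG m (uA σ (nrm σ k u)) * fieldGSp m σ (NkS m σ g k))
        = scG m u * (g * scG m (uA σ (nrm σ k u))) * fieldGSp m σ (NkS m σ g k) := by
          simp only [mul_assoc]
      _ = scG m u * (scG m (uA σ (nrm σ k u)) * g) * fieldGSp m σ (NkS m σ g k) := by
          rw [← scG_comm m (uA σ (nrm σ k u)) g]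
      _ = _ := by simp only [mul_assoc]

theorem NkS_comm (σ : RingAut F) (g : GSpm) (k : ℕ) :
    g * fieldGSp m σ (NkS m σ g k) = NkS m σ g k * fieldGSp m (σ ^ k) g := by
  induction k with
  | zero => rw [NkS_zero, map_one, mul_one, one_mul, pow_zero, fieldGSp_one]
  | succ k ih =>
    rw [NkS_succ]
    conv_lhs => rw [ih]
    rw [map_mul, pow_succ', fieldGSp_mul, mul_assoc]

/-- the scalar value of a twisted norm is fixed by the field automorphism -/
theorem scalar_norm_fixed (hm : 1 ≤ m) (σ : RingAut F) (g : GSpm) (r : ℕ) (hσ : σ ^ r = 1) (a : F)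
    (ha : ∀ v : Vm, gact m ((NkS m σ g r : GSpm) : GLm) v = a • v) : σ a = a ∧ a ≠ 0 := by
  obtain ⟨x, hx0⟩ := exists_ne_zero (F := F) m hm
  constructor
  · have h1 := NkS_comm m σ g r
    rw [hσ] at h1
    have h2 : fieldGSp m (1 : RingAut F) g = g := fieldGSp_one m g
    rw [h2] at h1
    have h3 := congrArg (fun k : GSpm => gact m (k : GLm) (vmap m σ (vmap m (σ : F ≃+* F).symm x))) h1
    simp only [Subgroup.coe_mul, gact_mul] at h3
    rw [gact_fieldGSp, ha, ha, vmap_smul, gact_smul, vmap_symm] at h3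
    have h4 : (σ a - a) • gact m (g : GLm) x = 0 := by rw [sub_smul, h3, sub_self]
    rcases smul_eq_zero.mp h4 with h5 | h5
    · exact sub_eq_zero.mp h5
    · exact absurd h5 (gact_ne_zero m _ hx0)
  · rintro rfl
    have := ha x
    rw [zero_smul] at this
    exact gact_ne_zero m _ hx0 this

section normal
variable [Finite F]

theorem cS_range_eq_inn [CharP F 2] (hm : 1 ≤ m) : (cS (F := F) m).range = Cfsg.Inn PSpm := by
  apply le_antisymm
  · rintro _ ⟨g, rfl⟩
    obtain ⟨ν, hν⟩ := FiniteField.isSquare_of_char_two (ringChar.eq F 2) (mult m g : F)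
    have hν0 : ν ≠ 0 := by
      rintro rfl
      rw [mul_zero] at hν
      exact (mult m g).ne_zero hν
    have hmem : ν⁻¹ • ((g : GLm) : Mm) ∈ Matrix.symplecticGroup (Fin m) F := by
      rw [mem_symplectic_iff]
      intro u v
      rw [smul_mulVec, smul_mulVec, sympForm_smul_left, sympForm_smul_right]
      have := mult_spec m g u v
      unfold gact at this
      rw [this, hν]
      field_simp
    have hg : g = scG m (Units.mk0 ν hν0) * toGSp m ⟨_, hmem⟩ := by
      apply gsp_ext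
      intro v
      rw [Subgroup.coe_mul, gact_mul, gact_scG, gact_toGSp, Units.val_mk0]
      show gact m (g : GLm) v = ν • ((ν⁻¹ • ((g : GLm) : Mm)) *ᵥ v)
      rw [smul_mulVec, smul_smul, mul_inv_cancel₀ hν0, one_smul]
      rfl
    rw [hg, map_mul, cS_scG m hm, one_mul, cS_toGSp]
    exact ⟨_, rfl⟩
  · rintro _ ⟨z, rfl⟩
    obtain ⟨A, rfl⟩ := mkS_surjective m z
    exact ⟨toGSp m A, cS_toGSp m A⟩

theorem cS_range_normal (p : ℕ) [Fact p.Prime] [CharP F p] (hm : 2 ≤ m) :
    (cS (F := F) m).range.Normal := by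
  by_cases hp : p = 2
  · subst hp
    rw [cS_range_eq_inn m (by omega)]
    infer_instance
  · constructor
    rintro _ ⟨h, rfl⟩ β
    obtain ⟨g₀, σ, rfl⟩ := aut_eq_std m p hm (fun _ => hp) β
    refine ⟨g₀ * fieldGSp m σ h * g₀⁻¹, ?_⟩
    rw [map_mul, map_mul, map_inv, _root_.mul_inv_rev]
    calc cS m g₀ * cS m (fieldGSp m σ h) * (cS m g₀)⁻¹
        = cS m g₀ * (cS m (fieldGSp m σ h) * fS m σ) * (fS m σ)⁻¹ * (cS m g₀)⁻¹ := by group
      _ = cS m g₀ * (fS m σ * cS m h) * (fS m σ)⁻¹ * (cS m g₀)⁻¹ := by rw [fS_mul_cS]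
      _ = _ := by group

end normal

end Cfsg.Agent.Lib.Helper9.ASP
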