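import Mathlib
import Cfsg.Prelude
import Cfsg.Agent.Lib.Helper9.ASP15
import Cfsg.Agent.Lib.Helper5.AltRep

/-! Automorphisms of `PSp_{2m}(F)`, part 16: Hilbert 90 for the conformal symplectic group
(semilinear descent of the symplectic form to the fixed field). -/

set_option autoImplicit false
open Cfsg

namespace Cfsg.Agent.Lib.Helper9.ASP

open Matrix Cfsg.Agent.Lib.Helper5.SympTv Cfsg.Agent.Lib.Helper5.SympGen
  Cfsg.Agent.Lib.Helper5.SympPerfect Cfsg.Agent.Lib.Helper5.SympBridge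
  Cfsg.Agent.Lib.Helper5.SympPrimitive

attribute [local instance 2000] spAction spSMulComm

variable {F : Type*} [Field F] (m : ℕ)

set_option quotPrecheck false
local notation "Vm" => (Fin m ⊕ Fin m → F)
local notation "Mm" => Matrix (Fin m ⊕ Fin m) (Fin m ⊕ Fin m) F
local notation "Spm" => ↥(Matrix.symplecticGroup (Fin m) F)
local notation "PSpm" => Cfsg.PSp m F
local notation "BB" => sympForm m F
local notation "GLm" => GL (Fin m ⊕ Fin m) F
local notation "GSpm" => ↥(Cfsg.GSp m F)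

/-- the bilinear form `(u, v) ↦ ⟨A u, A v⟩` -/
noncomputable def formG (A : Mm) : LinearMap.BilinForm F Vm :=
  (sympBilin F m).compl₁₂ (Matrix.toLin' A) (Matrix.toLin' A)

theorem formG_apply (A : Mm) (u v : Vm) : formG m A u v = BB (A *ᵥ u) (A *ᵥ v) := rfl

theorem form_ext_basis {Φ₁ Φ₂ : LinearMap.BilinForm F Vm}
    (H : ∀ a b : Fin m ⊕ Fin m, Φ₁ (Pi.single a 1) (Pi.single b 1) = Φ₂ (Pi.single a 1) (Pi.single b 1)) :
    Φ₁ = Φ₂ := by
  apply LinearMap.BilinForm.ext_basis (Pi.basisFun F (Fin m ⊕ Fin m))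
  intro i j
  rw [Pi.basisFun_apply, Pi.basisFun_apply]
  exact H i j

theorem vmap_single (σ : F ≃+* F) (a : Fin m ⊕ Fin m) :
    vmap m σ (Pi.single a 1) = Pi.single a 1 := by
  ext i
  unfold vmap
  by_cases h : i = a
  · subst h
    rw [Pi.single_eq_same, map_one]
  · rw [Pi.single_eq_of_ne h, map_zero]

section sub
variable {F₀ : Type*} [Field F₀] (ι : F₀ →+* F)

/-- extension of scalars on coordinate vectors -/
def hmap (v : Fin m ⊕ Fin m → F₀) : Fin m ⊕ Fin m → F := fun i => ι (v i)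

theorem hmap_single (a : Fin m ⊕ Fin m) : hmap m ι (Pi.single a 1) = Pi.single a 1 := by
  ext i
  unfold hmap
  by_cases h : i = a
  · subst h
    rw [Pi.single_eq_same, Pi.single_eq_same, map_one]
  · rw [Pi.single_eq_of_ne h, Pi.single_eq_of_ne h, map_zero]

theorem hmap_mulVec (M : Matrix (Fin m ⊕ Fin m) (Fin m ⊕ Fin m) F₀) (v : Fin m ⊕ Fin m → F₀) :
    hmap m ι (M *ᵥ v) = (M.map ι) *ᵥ hmap m ι v := by
  ext i
  exact RingHom.map_mulVec ι M v i

theorem hmap_dot (u v : Fin m ⊕ Fin m → F₀) : ι (u ⬝ᵥ v) = hmap m ι u ⬝ᵥ hmap m ι v :=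
  RingHom.map_dotProduct ι u v

theorem hmap_injective : Function.Injective (hmap (F := F) m ι) := by
  intro u v h
  ext i
  exact ι.injective (congrFun h i)

theorem J_hmap : (Matrix.J (Fin m) F₀).map ι = Matrix.J (Fin m) F := by
  ext i j
  rcases i with i | i <;> rcases j with j | j <;>
    simp [Matrix.J, Matrix.one_apply, apply_ite]

theorem BB_hmap (u v : Fin m ⊕ Fin m → F₀) :
    BB (hmap m ι u) (hmap m ι v) = ι (sympForm m F₀ u v) := by
  unfold sympForm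
  rw [hmap_dot, hmap_mulVec, J_hmap]

end sub

section descent
variable {F₀ : Type*} [Field F₀] (ι : F₀ →+* F)

/-- **Hilbert 90 for `GSp`** (cyclic case): a conformal symplectic matrix of trivial twisted
norm is a twisted coboundary. -/
theorem exists_symplectic_descent (hm : 1 ≤ m) (σ : RingAut F) (r : ℕ) (hr : 0 < r)
    (hinj : ∀ i j, i < r → j < r → σ ^ i = σ ^ j → i = j) (hσ : σ ^ r = 1)
    (hι : ∀ a : F, σ a = a → a ∈ Set.range ι) (hι' : ∀ t : F₀, σ (ι t) = ι t)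
    (g : GSpm) (hN : NkS m σ g r = 1) : ∃ k : GSpm, g * fieldGSp m σ k = k := by
  have hN' : NkI σ (g : GLm) r = 1 := by
    rw [← NkS_coe, hN]
    rfl
  obtain ⟨h, hh⟩ := exists_descentI σ r hr hinj hσ (g : GLm) hN'
  have hh' : (g : GLm) * sS m σ h = h := hh
  have hsh : ∀ v : Vm, gact m h (vmap m σ v) = gact m (g : GLm) (vmap m σ (gact m h v)) := by
    intro v
    rw [← gact_sS, ← gact_mul, hh']
  have htw : ∀ u v : Vm, BB (gact m h (vmap m σ u)) (gact m h (vmap m σ v))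
      = (mult m g : F) * σ (BB (gact m h u) (gact m h v)) := by
    intro u v
    rw [hsh, hsh, mult_spec, BB_vmap]
  have hμ0 : (mult m g : F) ≠ 0 := (mult m g).ne_zero
  -- a non-zero entry of the Gram matrix
  obtain ⟨i₀, j₀, hc0⟩ : ∃ i j : Fin m ⊕ Fin m,
      BB (gact m h (Pi.single i 1)) (gact m h (Pi.single j 1)) ≠ 0 := by
    by_contra hall
    push Not at hall
    have hz : formG m (h : Mm) = 0 := by
      apply form_ext_basis
      intro a b
      rw [formG_apply]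
      exact hall a b
    obtain ⟨x, hx0⟩ := exists_ne_zero (F := F) m hm
    apply gact_ne_zero m h hx0
    apply eq_zero_of_sympForm_right m
    intro w
    have h1 : formG m (h : Mm) x (gact m h⁻¹ w) = 0 := by rw [hz]; rfl
    rw [formG_apply] at h1
    have h2 : (h : Mm) *ᵥ gact m h⁻¹ w = w := gact_gact_inv m h w
    rw [h2] at h1
    exact h1
  obtain ⟨c, hc⟩ : ∃ c : F, c = BB (gact m h (Pi.single i₀ 1)) (gact m h (Pi.single j₀ 1)) :=
    ⟨_, rfl⟩
  rw [← hc] at hc0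
  have hcσ : c = (mult m g : F) * σ c := by
    have := htw (Pi.single i₀ 1) (Pi.single j₀ 1)
    rw [vmap_single, vmap_single, ← hc] at this
    exact this
  have hfix : ∀ a b : Fin m ⊕ Fin m,
      σ (c⁻¹ * BB (gact m h (Pi.single a 1)) (gact m h (Pi.single b 1)))
        = c⁻¹ * BB (gact m h (Pi.single a 1)) (gact m h (Pi.single b 1)) := by
    intro a b
    have h1 := htw (Pi.single a 1) (Pi.single b 1)
    rw [vmap_single, vmap_single] at h1
    obtain ⟨d, hd⟩ : ∃ d : F, d = BB (gact m h (Pi.single a 1)) (gact m h (Pi.single b 1)) :=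
      ⟨_, rfl⟩
    rw [← hd] at h1 ⊢
    have hσc0 : σ c ≠ 0 := by
      intro h0
      rw [h0, mul_zero] at hcσ
      exact hc0 hcσ
    rw [map_mul, map_inv₀]
    have e1 : σ c = (mult m g : F)⁻¹ * c := by
      rw [eq_inv_mul_iff_mul_eq₀ hμ0]
      exact hcσ.symm
    have e2 : σ d = (mult m g : F)⁻¹ * d := by
      rw [eq_inv_mul_iff_mul_eq₀ hμ0]
      exact h1.symm
    rw [e1, e2]
    field_simp
  have hex : ∀ a b : Fin m ⊕ Fin m, ∃ t : F₀,
      ι t = c⁻¹ * BB (gact m h (Pi.single a 1)) (gact m h (Pi.single b 1)) :=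
    fun a b => hι _ (hfix a b)
  choose M₀f hM₀ using hex
  have hΦ : Matrix.toBilin' ((Matrix.of M₀f).map ι) = c⁻¹ • formG m (h : Mm) := by
    apply form_ext_basis
    intro a b
    rw [Matrix.toBilin'_single, Matrix.map_apply, Matrix.of_apply, hM₀, LinearMap.smul_apply,
      LinearMap.smul_apply, formG_apply, smul_eq_mul]
    rfl
  have hkey : ∀ u₀ v₀ : Fin m ⊕ Fin m → F₀, ι (Matrix.toBilin' (Matrix.of M₀f) u₀ v₀)
      = c⁻¹ * BB (gact m h (hmap m ι u₀)) (gact m h (hmap m ι v₀)) := by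
    intro u₀ v₀
    rw [Matrix.toBilin'_apply', hmap_dot, hmap_mulVec, ← Matrix.toBilin'_apply', hΦ]
    rfl
  obtain ⟨B₀, hB₀⟩ : ∃ B₀ : LinearMap.BilinForm F₀ (Fin m ⊕ Fin m → F₀),
      B₀ = Matrix.toBilin' (Matrix.of M₀f) := ⟨_, rfl⟩
  rw [← hB₀] at hkey
  have hAlt : B₀.IsAlt := by
    intro u₀
    apply ι.injective
    rw [hkey, sympForm_self, mul_zero, map_zero]
  have hc0' : c⁻¹ ≠ 0 := inv_ne_zero hc0
  have hnd : ∀ u₀ : Fin m ⊕ Fin m → F₀, (∀ v₀, B₀ u₀ v₀ = 0) → u₀ = 0 := by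
    intro u₀ H
    apply hmap_injective m ι
    have hz : hmap m ι (0 : Fin m ⊕ Fin m → F₀) = 0 := by
      ext i
      exact map_zero ι
    rw [hz]
    by_contra hne
    apply gact_ne_zero m h hne
    apply eq_zero_of_sympForm_right m
    intro w
    have hb : ∀ b : Fin m ⊕ Fin m, formG m (h : Mm) (hmap m ι u₀) (Pi.single b 1) = 0 := by
      intro b
      have h1 := hkey u₀ (Pi.single b 1)
      rw [H, map_zero, hmap_single] at h1
      rcases mul_eq_zero.mp h1.symm with h2 | h2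
      · exact absurd h2 hc0'
      · exact h2
    have hℓ : formG m (h : Mm) (hmap m ι u₀) = 0 := by
      apply (Pi.basisFun F (Fin m ⊕ Fin m)).ext
      intro b
      rw [Pi.basisFun_apply, hb]
      rfl
    have h1 : formG m (h : Mm) (hmap m ι u₀) (gact m h⁻¹ w) = 0 := by rw [hℓ]; rfl
    rw [formG_apply] at h1
    have h2 : (h : Mm) *ᵥ gact m h⁻¹ w = w := gact_gact_inv m h w
    rw [h2] at h1
    exact h1
  obtain ⟨m', k', b, h1, h2, h3, h4, hdim, hker⟩ :=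
    Cfsg.Agent.Lib.Helper5.AltForm.exists_darboux_basis B₀ hAlt
  have hkerbot : LinearMap.ker B₀ = ⊥ := by
    rw [LinearMap.ker_eq_bot']
    intro u₀ hu
    apply hnd
    intro v₀
    rw [hu]
    rfl
  rw [hkerbot, finrank_bot] at hker
  rw [Module.finrank_fintype_fun_eq_card, Fintype.card_sum, Fintype.card_fin] at hdim
  obtain rfl : m' = m := by omega
  obtain ⟨P, hP⟩ : ∃ P : (Fin m' ⊕ Fin m' → F₀) →ₗ[F₀] (Fin m' ⊕ Fin m' → F₀),
      P = Cfsg.Agent.Lib.Helper5.AltRep.hyp b := ⟨_, rfl⟩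
  have hform : ∀ u v, B₀ u v = - sympForm m' F₀ (P u) (P v) := by
    intro u v
    rw [hP]
    exact Cfsg.Agent.Lib.Helper5.AltRep.form_eq b B₀ h1 h2 h3 h4 hAlt u v
  have hPinj : Function.Injective P := by
    intro u v huv
    have h5 : u - v = 0 := by
      apply hnd
      intro w
      rw [hform, map_sub, huv, sub_self, BB_zero_left, neg_zero]
    exact sub_eq_zero.mp h5
  obtain ⟨Pe, hPe⟩ : ∃ Pe : (Fin m' ⊕ Fin m' → F₀) ≃ₗ[F₀] (Fin m' ⊕ Fin m' → F₀), ∀ v, Pe v = P v :=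
    ⟨LinearEquiv.ofInjectiveEndo P hPinj, fun v => rfl⟩
  have hcomp1 : (Pe : (Fin m' ⊕ Fin m' → F₀) →ₗ[F₀] (Fin m' ⊕ Fin m' → F₀)) ∘ₗ
      (Pe.symm : (Fin m' ⊕ Fin m' → F₀) →ₗ[F₀] (Fin m' ⊕ Fin m' → F₀)) = LinearMap.id := by
    ext v; simp
  have hcomp2 : (Pe.symm : (Fin m' ⊕ Fin m' → F₀) →ₗ[F₀] (Fin m' ⊕ Fin m' → F₀)) ∘ₗ
      (Pe : (Fin m' ⊕ Fin m' → F₀) →ₗ[F₀] (Fin m' ⊕ Fin m' → F₀)) = LinearMap.id := by
    ext v; simp
  let e₀ : GL (Fin m' ⊕ Fin m') F₀ :=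
    ⟨LinearMap.toMatrix' (Pe : (Fin m' ⊕ Fin m' → F₀) →ₗ[F₀] (Fin m' ⊕ Fin m' → F₀)),
      LinearMap.toMatrix' (Pe.symm : (Fin m' ⊕ Fin m' → F₀) →ₗ[F₀] (Fin m' ⊕ Fin m' → F₀)),
      by rw [← LinearMap.toMatrix'_comp, hcomp1, LinearMap.toMatrix'_id],
      by rw [← LinearMap.toMatrix'_comp, hcomp2, LinearMap.toMatrix'_id]⟩
  have he₀ : ∀ x : Fin m' ⊕ Fin m' → F₀,
      ((e₀ : GL (Fin m' ⊕ Fin m') F₀) : Matrix (Fin m' ⊕ Fin m') (Fin m' ⊕ Fin m') F₀) *ᵥ x = P x := by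
    intro x
    show LinearMap.toMatrix' (Pe : (Fin m' ⊕ Fin m' → F₀) →ₗ[F₀] (Fin m' ⊕ Fin m' → F₀)) *ᵥ x = P x
    rw [LinearMap.toMatrix'_mulVec]
    exact hPe x
  obtain ⟨ε, hε⟩ : ∃ ε : GL (Fin m' ⊕ Fin m') F, ε = Matrix.GeneralLinearGroup.map ι e₀ := ⟨_, rfl⟩
  have hεc : (ε : Matrix (Fin m' ⊕ Fin m') (Fin m' ⊕ Fin m') F)
      = ((e₀ : GL (Fin m' ⊕ Fin m') F₀) : Matrix (Fin m' ⊕ Fin m') (Fin m' ⊕ Fin m') F₀).map ι := by
    rw [hε]
    ext i j
    rfl
  have hεa : ∀ u₀ : Fin m' ⊕ Fin m' → F₀, gact m' ε (hmap m' ι u₀) = hmap m' ι (P u₀) := by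
    intro u₀
    unfold gact
    rw [hεc, ← hmap_mulVec, he₀]
  have hforms : c⁻¹ • formG m' (h : Matrix (Fin m' ⊕ Fin m') (Fin m' ⊕ Fin m') F)
      = - formG m' (ε : Matrix (Fin m' ⊕ Fin m') (Fin m' ⊕ Fin m') F) := by
    apply form_ext_basis
    intro a b
    have h5 := hkey (Pi.single a 1) (Pi.single b 1)
    rw [hform, map_neg, ← BB_hmap, ← hεa, ← hεa, hmap_single, hmap_single] at h5
    rw [LinearMap.smul_apply, LinearMap.smul_apply, LinearMap.neg_apply, LinearMap.neg_apply,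
      formG_apply, formG_apply, smul_eq_mul]
    exact h5.symm
  have hall : ∀ u v : Fin m' ⊕ Fin m' → F,
      sympForm m' F (gact m' h u) (gact m' h v) = - c * sympForm m' F (gact m' ε u) (gact m' ε v) := by
    intro u v
    have h5 := congrArg (fun Φ : LinearMap.BilinForm F (Fin m' ⊕ Fin m' → F) => Φ u v) hforms
    simp only [LinearMap.smul_apply, LinearMap.neg_apply, formG_apply, smul_eq_mul] at h5
    have h6 : sympForm m' F (gact m' h u) (gact m' h v)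
        = c * (c⁻¹ * sympForm m' F (gact m' h u) (gact m' h v)) := by
      rw [← mul_assoc, mul_inv_cancel₀ hc0, one_mul]
    rw [h6]
    unfold gact
    rw [h5]
    ring
  have hmem : h * ε⁻¹ ∈ Cfsg.GSp m' F := by
    rw [mem_GSp_iff]
    refine ⟨Units.mk0 (-c) (neg_ne_zero.mpr hc0), fun u v => ?_⟩
    rw [gact_mul, gact_mul, hall, gact_gact_inv, gact_gact_inv]
    rfl
  have hεσ : sS m' σ ε = ε := by
    apply Units.ext
    rw [sS_coe, hεc]
    ext i j
    exact hι' _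
  refine ⟨⟨h * ε⁻¹, hmem⟩, ?_⟩
  apply Subtype.ext
  rw [Subgroup.coe_mul, fieldGSp_coe]
  show (g : GL (Fin m' ⊕ Fin m') F) * sS m' σ (h * ε⁻¹) = h * ε⁻¹
  rw [map_mul, map_inv, hεσ, ← mul_assoc, hh']

end descent

end Cfsg.Agent.Lib.Helper9.ASP
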