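import Mathlib
import Cfsg.Prelude
import Cfsg.Agent.Lib.Helper9.ASP16
import Cfsg.Agent.Lib.Helper9.APSL27

/-! Automorphisms of `PSp_{2m}(F)`, part 17: elements of prime order in the coset of a field
automorphism are conjugate under the inner-diagonal group. -/

set_option autoImplicit false
open Cfsg

namespace Cfsg.Agent.Lib.Helper9.ASP

open Matrix Cfsg.Agent.Lib.Helper5.SympTv Cfsg.Agent.Lib.Helper5.SympGen
  Cfsg.Agent.Lib.Helper5.SympPerfect Cfsg.Agent.Lib.Helper5.SympBridge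
  Cfsg.Agent.Lib.Helper5.SympPrimitive

open Cfsg.Agent.Lib.Helper9.APSL (uA uA_coe nrm nrm_zero nrm_succ norm_surjective
  conjUnder_of_conj orderOf_conj' mem_fixed_subfield)

attribute [local instance 2000] spAction spSMulComm

variable {F : Type*} [Field F] (m : ℕ)

set_option quotPrecheck false
local notation "Vm" => (Fin m ⊕ Fin m → F)
local notation "Mm" => Matrix (Fin m ⊕ Fin m) (Fin m ⊕ Fin m) F
local notation "Spm" => ↥(Matrix.symplecticGroup (Fin m) F)
local notation "PSpm" => Cfsg.PSp m F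
local notation "BB" => sympForm m F
local notation "GLm" => GL (Fin m ⊕ Fin m) F
local notation "GSpm" => ↥(Cfsg.GSp m F)

/-- **Case A for `PSp`**: a field automorphism times an inner-diagonal one, of the same order,
is conjugate to it under the inner-diagonal group. -/
theorem conj_field_S [Finite F] (hm : 1 ≤ m) (σ : RingAut F) (r : ℕ) (hr : 0 < r)
    (hord : orderOf σ = r) (g : GSpm) (h : (cS m g * fS m σ) ^ r = 1) :
    ∃ k : GSpm, cS m g * fS m σ = cS m k * fS m σ * (cS m k)⁻¹ := by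
  have hσ : σ ^ r = 1 := hord ▸ pow_orderOf_eq_one σ
  have hinj : ∀ i j, i < r → j < r → σ ^ i = σ ^ j → i = j := by
    intro i j hi hj e
    exact pow_injOn_Iio_orderOf (by rw [hord]; exact hi) (by rw [hord]; exact hj) e
  rw [pow_cS_fS, hσ, map_one, mul_one] at h
  obtain ⟨a, ha⟩ := (mem_ker_cS m hm _).mp h
  obtain ⟨hafix, ha0⟩ := scalar_norm_fixed m hm σ g r hσ a ha
  have hfix' : uA σ (Units.mk0 a ha0)⁻¹ = (Units.mk0 a ha0)⁻¹ := by
    rw [map_inv]
    congr 1
    apply Units.ext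
    rw [uA_coe]
    exact hafix
  obtain ⟨ν, hν⟩ := norm_surjective σ r hr hinj hσ (Units.mk0 a ha0)⁻¹ hfix'
  have hN : NkS m σ (scG m ν * g) r = 1 := by
    rw [NkS_scG_mul, hν]
    apply gsp_ext
    intro v
    rw [Subgroup.coe_mul, gact_mul, ha, gact_scG, Units.val_inv_eq_inv_val, Units.val_mk0,
      smul_smul, inv_mul_cancel₀ ha0, one_smul]
    exact (gact_one m v).symm
  obtain ⟨k, hk⟩ := exists_symplectic_descent m
    (FixedPoints.subfield (Subgroup.zpowers σ) F).subtype hm σ r hr hinj hσ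
    (fun a ha => ⟨⟨a, (mem_fixed_subfield σ a).mpr ha⟩, rfl⟩)
    (fun t => (mem_fixed_subfield σ t.1).mp t.2) (scG m ν * g) hN
  refine ⟨k, ?_⟩
  have hg : g = (scG m ν)⁻¹ * k * (fieldGSp m σ k)⁻¹ := by
    calc g = (scG m ν)⁻¹ * (scG m ν * g * fieldGSp m σ k) * (fieldGSp m σ k)⁻¹ := by group
      _ = _ := by rw [hk]
  calc cS m g * fS m σ = cS m ((scG m ν)⁻¹ * k * (fieldGSp m σ k)⁻¹) * fS m σ := by rw [← hg]
    _ = cS m k * (cS m (fieldGSp m σ k⁻¹) * fS m σ) := by
        rw [map_mul, map_mul, map_inv, cS_scG m hm, inv_one, one_mul, map_inv (fieldGSp m σ),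
          mul_assoc]
    _ = cS m k * (fS m σ * cS m k⁻¹) := by rw [fS_mul_cS]
    _ = _ := by rw [map_inv, mul_assoc]

/-- **S2713 in general form** -/
theorem field_conj_S [Finite F] (p : ℕ) [Fact p.Prime] [CharP F p] (hm : 2 ≤ m)
    (x δ : MulAut PSpm) (hx : Cfsg.IsFieldAutClassPSp x) {r : ℕ} (hr : r.Prime)
    (hxr : orderOf x = r) (hδ : δ ∈ Cfsg.inndiagPSp m F) :
    orderOf (δ * x) = r ↔ Cfsg.IsConjUnder (Cfsg.inndiagPSp m F) x (δ * x) := by
  rw [inndiagPSp_eq] at hδ ⊢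
  haveI hD := cS_range_normal (F := F) m p hm
  constructor
  · intro hord
    have hpow : (δ * x) ^ r = 1 := by
      rw [← hord]
      exact pow_orderOf_eq_one _
    obtain ⟨α, σ, hσ1, hφ⟩ := hx
    have e1 : α * x * α⁻¹ = fS m σ := eq_fS_of_stdField m hφ
    apply conjUnder_of_conj _ α
    obtain ⟨g, hg⟩ := hD.conj_mem δ hδ α
    have e2 : α * (δ * x) * α⁻¹ = cS m g * fS m σ := by
      rw [hg, ← e1]
      group
    rw [e1, e2]
    have hordσ : orderOf (σ : RingAut F) = r := by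
      rw [← hxr, ← orderOf_injective (fS m) (fS_injective m (by omega)) σ, ← e1, orderOf_conj']
    have hpow' : (cS m g * fS m σ) ^ r = 1 := by
      rw [← e2, conj_pow, hpow, mul_one, mul_inv_cancel]
    obtain ⟨k, hk⟩ := conj_field_S m (by omega) σ r hr.pos hordσ g hpow'
    exact ⟨cS m k, ⟨k, rfl⟩, hk⟩
  · rintro ⟨k, _, e⟩
    rw [e, orderOf_conj', hxr]

end Cfsg.Agent.Lib.Helper9.ASP
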