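import Mathlib
import Cfsg.Prelude
import Cfsg.Agent.Lib.Helper9.ASP17
import Cfsg.Agent.Lib.Helper9.APSL29

/-! Automorphisms of `PSp_{2m}(F)`, part 18: the centraliser of a field automorphism in the
inner-diagonal group. -/

set_option autoImplicit false
open Cfsg

namespace Cfsg.Agent.Lib.Helper9.ASP

open Matrix Cfsg.Agent.Lib.Helper5.SympTv Cfsg.Agent.Lib.Helper5.SympGen
  Cfsg.Agent.Lib.Helper5.SympPerfect Cfsg.Agent.Lib.Helper5.SympBridge
  Cfsg.Agent.Lib.Helper5.SympPrimitive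

open Cfsg.Agent.Lib.Helper9.APSL (uA uA_coe nrm nrm_zero nrm_succ norm_surjective
  conjUnder_of_conj orderOf_conj' mem_fixed_subfield mem_cent_single exists_field_h90)

attribute [local instance 2000] spAction spSMulComm

section glgen
variable {F F₀ : Type*} [Field F] [Field F₀] {κ : Type*} [Fintype κ] [DecidableEq κ]

theorem glmapI_coe (ι : F₀ →+* F) (g₀ : GL κ F₀) :
    ((Matrix.GeneralLinearGroup.map ι g₀ : GL κ F) : Matrix κ κ F)
      = (g₀ : Matrix κ κ F₀).map ι := rfl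

theorem sGI_glmap (σ : RingAut F) (ι : F₀ →+* F) (hι : ∀ b, σ (ι b) = ι b) (g₀ : GL κ F₀) :
    sGI σ (Matrix.GeneralLinearGroup.map ι g₀) = Matrix.GeneralLinearGroup.map ι g₀ := by
  apply Units.ext
  rw [sGI_coe, glmapI_coe]
  ext i j
  simp [hι]

theorem exists_glmapI_eq (σ : RingAut F) (ι : F₀ →+* F)
    (hι : ∀ a : F, σ a = a ↔ a ∈ Set.range ι) (g : GL κ F) (hg : sGI σ g = g) :
    ∃ g₀ : GL κ F₀, Matrix.GeneralLinearGroup.map ι g₀ = g := by
  have hfix : ∀ i j, σ ((g : Matrix κ κ F) i j) = (g : Matrix κ κ F) i j := by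
    intro i j
    have := congrArg Units.val hg
    rw [sGI_coe] at this
    exact congrFun (congrFun this i) j
  choose c hc using fun i j => (hι _).mp (hfix i j)
  have hM : (Matrix.of c).map ι = (g : Matrix κ κ F) := by
    ext i j
    exact hc i j
  have hdet : (Matrix.of c).det ≠ 0 := by
    intro h0
    have h1 : ι ((Matrix.of c).det) = (g : Matrix κ κ F).det := by
      rw [RingHom.map_det, RingHom.mapMatrix_apply, hM]
    rw [h0, map_zero] at h1
    have h2 : IsUnit (g : Matrix κ κ F).det := by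
      rw [← Matrix.isUnit_iff_isUnit_det]
      exact g.isUnit
    exact h2.ne_zero h1.symm
  refine ⟨Matrix.GeneralLinearGroup.mkOfDetNeZero (Matrix.of c) hdet, ?_⟩
  apply Units.ext
  rw [glmapI_coe]
  exact hM

theorem glmapI_mem_center_iff (i₀ : κ) (ι : F₀ →+* F) (g₀ : GL κ F₀) :
    Matrix.GeneralLinearGroup.map ι g₀ ∈ Subgroup.center (GL κ F)
      ↔ g₀ ∈ Subgroup.center (GL κ F₀) := by
  rw [Matrix.GeneralLinearGroup.mem_center_iff_val_mem_range_scalar,
    Matrix.GeneralLinearGroup.mem_center_iff_val_mem_range_scalar]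
  constructor
  · rintro ⟨b, hb⟩
    refine ⟨(g₀ : Matrix κ κ F₀) i₀ i₀, ?_⟩
    have h1 : ∀ i j, ι ((g₀ : Matrix κ κ F₀) i j) = if i = j then b else 0 := by
      intro i j
      have := congrFun (congrFun hb i) j
      rw [Matrix.scalar_apply, Matrix.diagonal_apply] at this
      exact this.symm
    ext i j
    rw [Matrix.scalar_apply, Matrix.diagonal_apply]
    by_cases hij : i = j
    · rw [if_pos hij]
      apply ι.injective
      rw [h1, h1, if_pos rfl, if_pos hij]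
    · rw [if_neg hij]
      apply ι.injective
      rw [h1, if_neg hij, map_zero]
  · rintro ⟨a, ha⟩
    refine ⟨ι a, ?_⟩
    rw [glmapI_coe, ← ha, Matrix.scalar_apply, Matrix.scalar_apply, Matrix.diagonal_map (map_zero _)]

end glgen

variable {F : Type*} [Field F] (m : ℕ)

set_option quotPrecheck false
local notation "Vm" => (Fin m ⊕ Fin m → F)
local notation "Mm" => Matrix (Fin m ⊕ Fin m) (Fin m ⊕ Fin m) F
local notation "Spm" => ↥(Matrix.symplecticGroup (Fin m) F)
local notation "PSpm" => Cfsg.PSp m F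
local notation "BB" => sympForm m F
local notation "GLm" => GL (Fin m ⊕ Fin m) F
local notation "GSpm" => ↥(Cfsg.GSp m F)

theorem scG_injective (hm : 1 ≤ m) : Function.Injective (scG (F := F) m) := by
  rw [injective_iff_map_eq_one]
  intro u hu
  obtain ⟨x, hx0⟩ := exists_ne_zero (F := F) m hm
  have h1 := gact_scG m u x
  rw [hu] at h1
  have h2 : gact m ((1 : GSpm) : GLm) x = x := gact_one m x
  rw [h2] at h1
  have h3 : ((1 : F) - u) • x = 0 := by rw [sub_smul, one_smul, ← h1, sub_self]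
  rcases smul_eq_zero.mp h3 with h4 | h4
  · apply Units.ext
    exact (sub_eq_zero.mp h4).symm
  · exact absurd h4 hx0

theorem exists_scG_of_mem_ker (hm : 1 ≤ m) {Z : GSpm} (h : cS m Z = 1) :
    ∃ u : Fˣ, Z = scG m u := by
  obtain ⟨a, ha⟩ := (mem_ker_cS m hm Z).mp h
  have ha0 : a ≠ 0 := by
    rintro rfl
    obtain ⟨v, hv⟩ := exists_ne_zero (F := F) m hm
    apply gact_ne_zero m (Z : GLm) hv
    rw [ha, zero_smul]
  refine ⟨Units.mk0 a ha0, ?_⟩
  apply gsp_ext
  intro v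
  rw [ha, gact_scG, Units.val_mk0]

theorem fieldGSp_pow_of_scalar (σ : RingAut F) (g : GSpm) (lam : Fˣ)
    (h : fieldGSp m σ g = scG m lam * g) (k : ℕ) :
    fieldGSp m (σ ^ k) g = scG m (nrm σ k lam) * g := by
  induction k with
  | zero => rw [pow_zero, fieldGSp_one, nrm_zero, map_one, one_mul]
  | succ k ih =>
    rw [pow_succ', fieldGSp_mul, ih, map_mul, fieldGSp_scG, h, nrm_succ, ← mul_assoc, ← map_mul,
      mul_comm (uA σ (nrm σ k lam)) lam]

/-- an inner-diagonal automorphism commuting with a field automorphism comes from a fixed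
conformal symplectic matrix -/
theorem cent_fS_iff (hm : 1 ≤ m) (σ : RingAut F) (r : ℕ) (hr : 0 < r) (hord : orderOf σ = r)
    (β : MulAut PSpm) :
    β ∈ (cS (F := F) m).range ⊓ Subgroup.centralizer {fS m σ}
      ↔ ∃ g : GSpm, fieldGSp m σ g = g ∧ β = cS m g := by
  have hσ : σ ^ r = 1 := hord ▸ pow_orderOf_eq_one σ
  have hinj : ∀ i j, i < r → j < r → σ ^ i = σ ^ j → i = j := by
    intro i j hi hj e
    exact pow_injOn_Iio_orderOf (by rw [hord]; exact hi) (by rw [hord]; exact hj) e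
  rw [Subgroup.mem_inf, mem_cent_single]
  constructor
  · rintro ⟨⟨g, rfl⟩, hcomm⟩
    rw [fS_mul_cS] at hcomm
    have h1 : cS m (fieldGSp m σ g) = cS m g := mul_right_cancel hcomm
    have h2 : cS m (fieldGSp m σ g * g⁻¹) = 1 := by
      rw [map_mul, map_inv, h1, mul_inv_cancel]
    obtain ⟨lam, hlam⟩ := exists_scG_of_mem_ker m hm h2
    have h3 : fieldGSp m σ g = scG m lam * g := by rw [← hlam, inv_mul_cancel_right]
    have h4 := fieldGSp_pow_of_scalar m σ g lam h3 r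
    rw [hσ, fieldGSp_one] at h4
    have h5 : scG m (nrm σ r lam) = 1 := by
      have : scG m (nrm σ r lam) * g = 1 * g := by
        rw [one_mul]
        exact h4.symm
      exact mul_right_cancel this
    have h6 : nrm σ r lam = 1 := scG_injective m hm (by rw [h5, map_one])
    obtain ⟨ν, hν⟩ := exists_field_h90 σ r hr hinj hσ lam h6
    refine ⟨scG m ν * g, ?_, ?_⟩
    · rw [map_mul, fieldGSp_scG, h3, ← mul_assoc, ← map_mul, mul_comm (uA σ ν), hν]
    · rw [map_mul, cS_scG m hm, one_mul]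
  · rintro ⟨g, hg, rfl⟩
    exact ⟨⟨g, rfl⟩, by rw [fS_mul_cS, hg]⟩

section sub
variable {F₀ : Type*} [Field F₀] (ι : F₀ →+* F)

theorem gact_glmap (h₀ : GL (Fin m ⊕ Fin m) F₀) (u₀ : Fin m ⊕ Fin m → F₀) :
    gact m (Matrix.GeneralLinearGroup.map ι h₀) (hmap m ι u₀) = hmap m ι (gact m h₀ u₀) := by
  unfold gact
  rw [glmapI_coe, hmap_mulVec]

theorem glmap_mem_GSp_iff (hm : 1 ≤ m) (h₀ : GL (Fin m ⊕ Fin m) F₀) :
    h₀ ∈ Cfsg.GSp m F₀ ↔ Matrix.GeneralLinearGroup.map ι h₀ ∈ Cfsg.GSp m F := by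
  rw [mem_GSp_iff, mem_GSp_iff]
  constructor
  · rintro ⟨c₀, hc₀⟩
    refine ⟨Units.map ι.toMonoidHom c₀, ?_⟩
    have hforms : formG m ((Matrix.GeneralLinearGroup.map ι h₀ : GLm) : Mm)
        = (ι (c₀ : F₀)) • sympBilin F m := by
      apply form_ext_basis
      intro a b
      rw [formG_apply, LinearMap.smul_apply, LinearMap.smul_apply, sympBilin_apply, smul_eq_mul]
      have h1 := gact_glmap m ι h₀ (Pi.single a 1)
      have h2 := gact_glmap m ι h₀ (Pi.single b 1)
      rw [hmap_single] at h1 h2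
      unfold gact at h1 h2
      rw [h1, h2, BB_hmap]
      have h3 := hc₀ (Pi.single a 1) (Pi.single b 1)
      unfold gact at h3
      rw [h3, map_mul, ← BB_hmap, hmap_single, hmap_single]
    intro u v
    have := congrArg (fun Φ : LinearMap.BilinForm F Vm => Φ u v) hforms
    simp only [formG_apply, LinearMap.smul_apply, sympBilin_apply, smul_eq_mul] at this
    exact this
  · rintro ⟨c, hc⟩
    obtain ⟨i₀⟩ : Nonempty (Fin m) := ⟨⟨0, hm⟩⟩
    obtain ⟨c₀, hc₀⟩ : ∃ c₀ : F₀, c₀ = sympForm m F₀ (gact m h₀ (Pi.single (Sum.inr i₀) 1))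
        (gact m h₀ (Pi.single (Sum.inl i₀) 1)) := ⟨_, rfl⟩
    have hcc : ι c₀ = (c : F) := by
      rw [hc₀, ← BB_hmap, ← gact_glmap, ← gact_glmap, hmap_single, hmap_single, hc, BB_fI_eI,
        mul_one]
    have hc₀0 : c₀ ≠ 0 := by
      intro h0
      rw [h0, map_zero] at hcc
      exact c.ne_zero hcc.symm
    refine ⟨Units.mk0 c₀ hc₀0, fun u₀ v₀ => ?_⟩
    apply ι.injective
    rw [← BB_hmap, ← gact_glmap, ← gact_glmap, hc, Units.val_mk0, map_mul, hcc, BB_hmap]

end sub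

/-- **the centraliser of a field automorphism in the inner-diagonal group** -/
theorem exists_cent_fS_equiv (hm : 1 ≤ m) (σ : RingAut F) (r : ℕ) (hr : 0 < r)
    (hord : orderOf σ = r) {F₀ : Type*} [Field F₀] (ι : F₀ →+* F)
    (hι : ∀ a : F, σ a = a ↔ a ∈ Set.range ι) :
    Nonempty (↥((cS (F := F) m).range ⊓ Subgroup.centralizer {fS m σ}) ≃* Cfsg.PGSp m F₀) := by
  have hι' : ∀ b, σ (ι b) = ι b := fun b => (hι _).mpr ⟨b, rfl⟩
  obtain ⟨M, hM⟩ : ∃ M : ↥(Cfsg.GSp m F₀) →* GSpm,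
      ∀ h₀, ((M h₀ : GSpm) : GLm)
        = Matrix.GeneralLinearGroup.map ι (h₀ : GL (Fin m ⊕ Fin m) F₀) :=
    ⟨((Matrix.GeneralLinearGroup.map ι).comp (Cfsg.GSp m F₀).subtype).codRestrict _
      (fun h₀ => (glmap_mem_GSp_iff m ι hm h₀.1).mp h₀.2), fun _ => rfl⟩
  have hMfix : ∀ h₀, fieldGSp m σ (M h₀) = M h₀ := by
    intro h₀
    apply Subtype.ext
    rw [fieldGSp_coe, hM]
    exact sGI_glmap σ ι hι' _
  obtain ⟨Ψ, hΨ⟩ : ∃ Ψ : ↥(Cfsg.GSp m F₀) →*
      ↥((cS (F := F) m).range ⊓ Subgroup.centralizer {fS m σ}),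
      ∀ h₀, (Ψ h₀ : MulAut PSpm) = cS m (M h₀) :=
    ⟨((cS m).comp M).codRestrict _ (fun h₀ =>
      (cent_fS_iff m hm σ r hr hord _).mpr ⟨M h₀, hMfix h₀, rfl⟩), fun _ => rfl⟩
  have hsurj : Function.Surjective Ψ := by
    intro β
    obtain ⟨g, hg, e⟩ := (cent_fS_iff m hm σ r hr hord _).mp β.2
    have hg' : sGI σ (g : GLm) = g := by
      have := congrArg Subtype.val hg
      rwa [fieldGSp_coe] at this
    obtain ⟨g₀, hg₀⟩ := exists_glmapI_eq σ ι hι (g : GLm) hg'
    have hg₀m : g₀ ∈ Cfsg.GSp m F₀ := (glmap_mem_GSp_iff m ι hm g₀).mpr (by rw [hg₀]; exact g.2)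
    refine ⟨⟨g₀, hg₀m⟩, ?_⟩
    apply Subtype.ext
    rw [hΨ, e]
    congr 1
    apply Subtype.ext
    rw [hM]
    exact hg₀
  have hker : Ψ.ker = (Cfsg.Geo.scalars (Fin m ⊕ Fin m) F₀).subgroupOf (Cfsg.GSp m F₀) := by
    ext h₀
    rw [MonoidHom.mem_ker, Subgroup.mem_subgroupOf]
    have h1 : Cfsg.Geo.scalars (Fin m ⊕ Fin m) F₀
        = Subgroup.center (GL (Fin m ⊕ Fin m) F₀) := by
      rw [Matrix.GeneralLinearGroup.center_eq_range_scalar]
      rfl
    rw [h1, ← glmapI_mem_center_iff (Sum.inl ⟨0, hm⟩) ι,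
      Matrix.GeneralLinearGroup.center_eq_range_scalar]
    constructor
    · intro h
      have h2 : cS m (M h₀) = 1 := by
        rw [← hΨ, h]
        rfl
      obtain ⟨u, hu⟩ := exists_scG_of_mem_ker m hm h2
      refine ⟨u, ?_⟩
      rw [← hM, hu]
      rfl
    · rintro ⟨u, hu⟩
      apply Subtype.ext
      rw [hΨ]
      have hMu : M h₀ = scG m u := by
        apply Subtype.ext
        rw [hM, ← hu]
        rfl
      rw [hMu]
      exact cS_scG m hm u
  exact ⟨(QuotientGroup.quotientKerEquivOfSurjective Ψ hsurj).symm.trans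
    (QuotientGroup.quotientMulEquivOfEq hker)⟩

end Cfsg.Agent.Lib.Helper9.ASP
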