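import Mathlib
import Cfsg.Prelude
import Cfsg.Agent.Lib.Helper5.OmegaSimple
import Cfsg.Agent.Lib.Helper5.MaxTS
import Cfsg.Agent.Lib.Helper9.AOF2
import Cfsg.Agent.Lib.Helper9.ASP18
import Cfsg.Agent.Lib.Helper5.PslGraph.OddDim
import Cfsg.Agent.S2618
import Cfsg.Agent.Lib.Helper9.AOR34

set_option autoImplicit false
set_option linter.unusedSectionVars false
set_option linter.unusedVariables false
open Cfsg

namespace Cfsg.Agent.Lib.Helper9.AOF

open Matrix QuadraticMap Cfsg.Agent.Lib.Helper5.CartanDieudonne Cfsg.Agent.Lib.Helper5.Refl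
  Cfsg.Agent.Lib.Helper5.OrthCard Cfsg.Agent.Lib.Helper5.Siegel Cfsg.Agent.Lib.Helper5.QuadIsom
  Cfsg.Agent.Lib.Helper5.ReflGen Cfsg.Agent.Lib.Helper5.Eichler Cfsg.Agent.Lib.Helper5.SingGeom
  Cfsg.Agent.Lib.Helper5.OmegaGen Cfsg.Agent.Lib.Helper5.OmegaSimple
  Cfsg.Agent.Lib.Helper9.AOR

variable {ι : Type} [Fintype ι] [DecidableEq ι] {F : Type*} [Field F] [Fintype F]
  (Q : QuadraticForm F (ι → F))

/-! Field automorphisms of `Ω_{2m+1}(q)`: conjugacy in the coset. -/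

section oddclass
open Cfsg.Agent.Lib.Helper9.ASP Cfsg.Agent.Lib.Helper5.OAut Cfsg.Agent.Lib.Helper5.SpinorHyp2
  Cfsg.Agent.Lib.Helper5.PslGraph Cfsg.Agent.Lib.Helper5.SpinorHyp
open Cfsg.Agent.Lib.Helper9.APSL (conjUnder_of_conj orderOf_conj' mem_fixed_subfield)

/-- the matrix of a linear automorphism of a coordinate space -/
theorem exists_GL_of_linearEquiv {K : Type*} [Field K] {κ : Type*} [Fintype κ] [DecidableEq κ]
    (Pe : (κ → K) ≃ₗ[K] (κ → K)) :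
    ∃ e₀ : Matrix.GeneralLinearGroup κ K, ∀ x : κ → K, (e₀ : Matrix κ κ K) *ᵥ x = Pe x := by
  have hcomp1 : (Pe : (κ → K) →ₗ[K] (κ → K)) ∘ₗ (Pe.symm : (κ → K) →ₗ[K] (κ → K)) =
      LinearMap.id := by
    ext v; simp
  have hcomp2 : (Pe.symm : (κ → K) →ₗ[K] (κ → K)) ∘ₗ (Pe : (κ → K) →ₗ[K] (κ → K)) =
      LinearMap.id := by
    ext v; simp
  refine ⟨⟨LinearMap.toMatrix' (Pe : (κ → K) →ₗ[K] (κ → K)),
      LinearMap.toMatrix' (Pe.symm : (κ → K) →ₗ[K] (κ → K)),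
      by rw [← LinearMap.toMatrix'_comp, hcomp1, LinearMap.toMatrix'_id],
      by rw [← LinearMap.toMatrix'_comp, hcomp2, LinearMap.toMatrix'_id]⟩, ?_⟩
  intro x
  show LinearMap.toMatrix' (Pe : (κ → K) →ₗ[K] (κ → K)) *ᵥ x = Pe x
  rw [LinearMap.toMatrix'_mulVec]
  rfl

/-- similarity classification of quadratic forms in odd dimension over a finite field -/
theorem exists_sim_odd {F₀ : Type*} [Field F₀] [Finite F₀] (m : ℕ)
    (Q₀ : QuadraticForm F₀ (Unit ⊕ (Fin m ⊕ Fin m) → F₀))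
    (hQ₀ : (polarBilin Q₀).Nondegenerate) :
    ∃ (k₀ : Matrix.GeneralLinearGroup (Unit ⊕ (Fin m ⊕ Fin m)) F₀) (κ : F₀), κ ≠ 0 ∧
      ∀ w, Q₀ ((k₀ : Matrix (Unit ⊕ (Fin m ⊕ Fin m)) (Unit ⊕ (Fin m ⊕ Fin m)) F₀) *ᵥ w) =
        κ * oddForm m F₀ w := by
  have hV : Module.finrank F₀ (Unit ⊕ (Fin m ⊕ Fin m) → F₀) = 2 * m + 1 := by
    rw [Module.finrank_fintype_fun_eq_card]
    simp only [Fintype.card_sum, Fintype.card_fin, Fintype.card_unit]
    omega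
  obtain ⟨b, hd, g0, g1, g2, g3⟩ := Cfsg.Agent.S2618.result hV Q₀ hQ₀
  have hQb := eq_oddFormD_of_basis Q₀ b g0 g1 g2 g3
  obtain ⟨d, hdd⟩ : ∃ d, d = Q₀ (b (Sum.inl ())) := ⟨_, rfl⟩
  rw [← hdd] at hQb hd
  obtain ⟨L, hL⟩ : ∃ L : (Unit ⊕ (Fin m ⊕ Fin m) → F₀) →ₗ[F₀] (Unit ⊕ (Fin m ⊕ Fin m) → F₀),
      L = (scaleMap m d⁻¹) ∘ₗ b.equivFun.toLinearMap := ⟨_, rfl⟩
  have hLQ : ∀ v, oddForm m F₀ (L v) = d⁻¹ * Q₀ v := by
    intro v
    rw [hL, LinearMap.comp_apply, oddForm_scaleMap m d hd, hQb v]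
    rfl
  have hLQ' : ∀ v, Q₀ v = d * oddForm m F₀ (L v) := by
    intro v
    rw [hLQ, ← mul_assoc, mul_inv_cancel₀ hd, one_mul]
  have hLinj : Function.Injective L := by
    intro u v huv
    have h5 : u - v = 0 := by
      apply key_of_nondeg Q₀ hQ₀
      intro w
      unfold polar
      rw [hLQ', hLQ' (u - v), hLQ' w, map_add, map_sub, huv, sub_self, zero_add]
      rw [QuadraticMap.map_zero]
      ring
    exact sub_eq_zero.mp h5
  obtain ⟨k₀, hk₀⟩ := exists_GL_of_linearEquiv (LinearEquiv.ofInjectiveEndo L hLinj).symm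
  refine ⟨k₀, d, hd, fun w => ?_⟩
  rw [hk₀, hLQ']
  congr 2
  exact (LinearEquiv.ofInjectiveEndo L hLinj).apply_symm_apply w

omit [Fintype F] in
/-- base change of the odd-dimensional standard form -/
theorem oddForm_hm {F₀ : Type*} [Field F₀] (j : F₀ →+* F) (m : ℕ)
    (v₀ : Unit ⊕ (Fin m ⊕ Fin m) → F₀) : oddForm m F (hm j v₀) = j (oddForm m F₀ v₀) := by
  rw [oddForm_apply, oddForm_apply]
  simp [Cfsg.quadFormOdd, hm, map_sum]

omit [Fintype F] in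
theorem oddForm_vm (m : ℕ) (σ : RingAut F) (v : Unit ⊕ (Fin m ⊕ Fin m) → F) :
    oddForm m F (vm σ v) = σ (oddForm m F v) := by
  have := oddForm_field m σ v
  unfold sm at this
  rw [Units.val_one, Matrix.one_mulVec, one_mul] at this
  exact this

/-- **Hilbert 90 for the conformal orthogonal group in odd dimension** -/
theorem exists_orth_descent_odd (h2 : (2 : F) ≠ 0) (m : ℕ) (σ : RingAut F) (r : ℕ) (hr : 0 < r)
    (hord : orderOf σ = r) (g : Matrix.GeneralLinearGroup (Unit ⊕ (Fin m ⊕ Fin m)) F)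
    (hg : ∃ c : F, c ≠ 0 ∧ ∀ v, oddForm m F (sm g σ v) = c * σ (oddForm m F v))
    (hN : NkI σ g r = 1) :
    ∃ k : ↥(Geo.quadSimilarityGroup (F := F) ⇑(oddForm m F)),
      g * sGI σ (k : Matrix.GeneralLinearGroup (Unit ⊕ (Fin m ⊕ Fin m)) F) = k := by
  have hσ : σ ^ r = 1 := hord ▸ pow_orderOf_eq_one σ
  have hinj : ∀ i j, i < r → j < r → σ ^ i = σ ^ j → i = j := by
    intro i j hi hj e
    exact pow_injOn_Iio_orderOf (by rw [hord]; exact hi) (by rw [hord]; exact hj) e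
  obtain ⟨c, hc, hgc⟩ := hg
  obtain ⟨j, hj⟩ : ∃ j : ↥(FixedPoints.subfield (Subgroup.zpowers σ) F) →+* F,
      j = (FixedPoints.subfield (Subgroup.zpowers σ) F).subtype := ⟨_, rfl⟩
  have hι : ∀ a : F, σ a = a → a ∈ Set.range j := by
    intro a ha
    rw [hj]
    exact ⟨⟨a, (mem_fixed_subfield σ a).mpr ha⟩, rfl⟩
  have hι' : ∀ t : ↥(FixedPoints.subfield (Subgroup.zpowers σ) F), σ (j t) = j t := by
    intro t
    rw [hj]
    exact (mem_fixed_subfield σ t.1).mp t.2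
  haveI : Finite ↥(FixedPoints.subfield (Subgroup.zpowers σ) F) :=
    Finite.of_injective (fun x => (x : F)) Subtype.val_injective
  obtain ⟨h, d, Q₀, hd, hh, hQ₀nd, hQ₀⟩ := descent_form (oddForm m F) j σ r hr hinj hσ hι hι'
    (oddForm_nondegenerate h2 m) g c hc hgc hN
  obtain ⟨k₀, κ, hκ, hk₀⟩ := exists_sim_odd m Q₀ hQ₀nd
  obtain ⟨k, hk⟩ : ∃ k : Matrix.GeneralLinearGroup (Unit ⊕ (Fin m ⊕ Fin m)) F,
      k = h * Matrix.GeneralLinearGroup.map j k₀ := ⟨_, rfl⟩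
  have hdκ : d * j κ ≠ 0 := mul_ne_zero hd ((map_ne_zero j).mpr hκ)
  have hrat : ∀ v₀, oddForm m F ((k : Matrix (Unit ⊕ (Fin m ⊕ Fin m))
      (Unit ⊕ (Fin m ⊕ Fin m)) F) *ᵥ hm j v₀) = (d * j κ) * oddForm m F (hm j v₀) := by
    intro v₀
    rw [hk, Units.val_mul, ← Matrix.mulVec_mulVec, glmapI_coe, ← hm_mulVec, hQ₀, hk₀, map_mul,
      oddForm_hm, mul_assoc]
  have hsim : ∀ v, oddForm m F ((k : Matrix (Unit ⊕ (Fin m ⊕ Fin m))
      (Unit ⊕ (Fin m ⊕ Fin m)) F) *ᵥ v) = (d * j κ) * oddForm m F v := by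
    have e := quad_ext_rational j
      ((oddForm m F).comp (Matrix.toLin' (k : Matrix (Unit ⊕ (Fin m ⊕ Fin m))
        (Unit ⊕ (Fin m ⊕ Fin m)) F)))
      ((d * j κ) • oddForm m F) (by
        intro v₀
        rw [QuadraticMap.comp_apply, Matrix.toLin'_apply, hrat]
        rfl)
    intro v
    have e1 := congrArg (fun B : QuadraticForm F (Unit ⊕ (Fin m ⊕ Fin m) → F) => B v) e
    simp only [QuadraticMap.comp_apply, Matrix.toLin'_apply] at e1
    rw [e1]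
    rfl
  refine ⟨⟨k, ⟨Units.mk0 (d * j κ) hdκ, hsim⟩⟩, ?_⟩
  show g * sGI σ k = k
  rw [hk, map_mul, sGI_glmap σ j hι', ← mul_assoc, hh]

end oddclass

section fieldconj
open Cfsg.Agent.Lib.Helper9.ASP Cfsg.Agent.Lib.Helper5.OAut Cfsg.Agent.Lib.Helper5.SpinorHyp2
  Cfsg.Agent.Lib.Helper5.SpinorHyp
open Cfsg.Agent.Lib.Helper9.APSL (conjUnder_of_conj orderOf_conj' mem_fixed_subfield)

theorem conjGO_range_normal (p : ℕ) [Fact p.Prime] [CharP F p] {Q : QuadraticForm F (ι → F)}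
    (H : Hyp Q) (hγ : gammaPOmega F ⇑Q = ⊤) : ((conjGO Q).range).Normal := by
  rw [← tauO_ker p H hγ]
  exact MonoidHom.normal_ker _

/-- the field automorphism of `F` attached to a standard field automorphism of `PΩ` has the
same prime order -/
theorem orderOf_of_fO (p : ℕ) [Fact p.Prime] [CharP F p] {Q : QuadraticForm F (ι → F)}
    (H : Hyp Q) (hγ : gammaPOmega F ⇑Q = ⊤) (σ : RingAut F) (hσQ : ∀ v, Q (vm σ v) = σ (Q v))
    (hσ1 : σ ≠ RingEquiv.refl F) {r : ℕ} (hr : r.Prime) (h : (fO σ hσQ) ^ r = 1) :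
    orderOf σ = r := by
  have hτ : tauO p H hγ (fO σ hσQ) = σ := tauO_semiAut p H hγ 1 σ 1 one_ne_zero _
  have h3 : σ ^ r = 1 := by
    rw [← hτ, ← map_pow, h, map_one]
  rcases (Nat.dvd_prime hr).mp (orderOf_dvd_of_pow_eq_one h3) with h4 | h4
  · exfalso
    apply hσ1
    exact orderOf_eq_one_iff.mp h4
  · exact h4

/-- **S2735 in general form** -/
theorem field_conj_odd (p : ℕ) [Fact p.Prime] [CharP F p] (hodd : Odd (Fintype.card F)) (m : ℕ)
    (hm : 3 ≤ m) (x δ : MulAut (POmega F ⇑(oddForm m F)))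
    (hx : IsFieldAutClassPOmega ⇑(oddForm m F) x) {r : ℕ} (hr : r.Prime)
    (hxr : orderOf x = r) (hδ : δ ∈ (conjGO (oddForm m F)).range) :
    orderOf (δ * x) = r ↔ IsConjUnder (conjGO (oddForm m F)).range x (δ * x) := by
  have h2 : (2 : F) ≠ 0 := Cfsg.Agent.Lib.Helper5.two_ne_zero_of_odd_card hodd
  have hQ := oddForm_nondegenerate h2 m
  have hfam := oddForm_hypFamily (F := F) (le_refl m)
  have hn : Fintype.card (Unit ⊕ (Fin m ⊕ Fin m)) = 2 * m + 1 := by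
    simp only [Fintype.card_sum, Fintype.card_fin, Fintype.card_unit]; omega
  have h5 : 5 ≤ Fintype.card (Unit ⊕ (Fin m ⊕ Fin m)) := by rw [hn]; omega
  have H := Hyp.of_hypFamily hQ hfam hm h5
  have hγ : gammaPOmega F ⇑(oddForm m F) = ⊤ := by
    rw [coe_oddForm]
    exact Cfsg.Agent.S2694.result hodd hm
  haveI hD := conjGO_range_normal p H hγ
  haveI : Nonempty (Unit ⊕ (Fin m ⊕ Fin m)) := ⟨Sum.inl ()⟩
  constructor
  · intro hord
    have hpow : (δ * x) ^ r = 1 := by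
      rw [← hord]
      exact pow_orderOf_eq_one _
    obtain ⟨α, φ, σ, hσ1, hφ, e1⟩ := hx
    have e1' : α * x * α⁻¹ = fO σ (oddForm_vm m σ) := by
      rw [e1]
      exact eq_fO_of_stdField σ _ hφ
    apply conjUnder_of_conj _ α
    obtain ⟨g, hg⟩ := hD.conj_mem δ hδ α
    have e2 : α * (δ * x) * α⁻¹ = conjGO (oddForm m F) g * fO σ (oddForm_vm m σ) := by
      rw [hg, ← e1']
      group
    rw [e1', e2]
    have hxpow : (fO σ (oddForm_vm m σ)) ^ r = 1 := by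
      rw [← e1', conj_pow, ← hxr, pow_orderOf_eq_one, mul_one, mul_inv_cancel]
    have hordσ : orderOf (σ : RingAut F) = r :=
      orderOf_of_fO p H hγ σ (oddForm_vm m σ) hσ1 hr hxpow
    have hpow' : (conjGO (oddForm m F) g * fO σ (oddForm_vm m σ)) ^ r = 1 := by
      rw [← e2, conj_pow, hpow, mul_one, mul_inv_cancel]
    have hSR : SRg (conjGO (oddForm m F) g * fO σ (oddForm_vm m σ))
        (g : Matrix.GeneralLinearGroup (Unit ⊕ (Fin m ⊕ Fin m)) F) σ := by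
      have h3 := SRg_mul (SRg_conjGO g) (SRg_fO σ (oddForm_vm m σ))
      rw [map_one, mul_one, one_mul] at h3
      exact h3
    obtain ⟨k, hk⟩ := conj_field_gen hQ hfam hm h5 (oddForm_w0 m) σ (oddForm_vm m σ) r hr.pos
      hordσ (fun g' hg' hN => exists_orth_descent_odd h2 m σ r hr.pos hordσ g' hg' hN) _ _ hSR
      hpow'
    exact ⟨conjGO (oddForm m F) k, ⟨k, rfl⟩, hk⟩
  · rintro ⟨k, _, e⟩
    rw [e, orderOf_conj', hxr]

end fieldconj

section fieldconj'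
open Cfsg.Agent.Lib.Helper5.OAut Cfsg.Agent.Lib.Helper5.SpinorHyp2

theorem field_conj_odd' (p : ℕ) [Fact p.Prime] [CharP F p] (hodd : Odd (Fintype.card F)) (m : ℕ)
    (hm : 3 ≤ m) (x δ : MulAut (POmega F ⇑(oddForm m F)))
    (hx : IsFieldAutClassPOmega ⇑(oddForm m F) x) {r : ℕ} (hr : r.Prime)
    (hxr : orderOf x = r) (hδ : δ ∈ pgoAut F ⇑(oddForm m F)) :
    orderOf (δ * x) = r ↔ IsConjUnder (pgoAut F ⇑(oddForm m F)) x (δ * x) := by
  rw [pgoAut_eq] at hδ ⊢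
  exact field_conj_odd p hodd m hm x δ hx hr hxr hδ

end fieldconj'

end Cfsg.Agent.Lib.Helper9.AOF
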