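import Mathlib
import Cfsg.Prelude
import Cfsg.Agent.Lib.Helper5.OmegaSimple
import Cfsg.Agent.Lib.Helper5.MaxTS
import Cfsg.Agent.Lib.Helper9.AOF3

set_option autoImplicit false
set_option linter.unusedSectionVars false
set_option linter.unusedVariables false
open Cfsg

namespace Cfsg.Agent.Lib.Helper9.AOF

open Matrix QuadraticMap Cfsg.Agent.Lib.Helper5.CartanDieudonne Cfsg.Agent.Lib.Helper5.Refl
  Cfsg.Agent.Lib.Helper5.OrthCard Cfsg.Agent.Lib.Helper5.Siegel Cfsg.Agent.Lib.Helper5.QuadIsom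
  Cfsg.Agent.Lib.Helper5.ReflGen Cfsg.Agent.Lib.Helper5.Eichler Cfsg.Agent.Lib.Helper5.SingGeom
  Cfsg.Agent.Lib.Helper5.OmegaGen Cfsg.Agent.Lib.Helper5.OmegaSimple
  Cfsg.Agent.Lib.Helper9.AOR

variable {ι : Type} [Fintype ι] [DecidableEq ι] {F : Type*} [Field F] [Fintype F]
  (Q : QuadraticForm F (ι → F))

/-! The centraliser of a field automorphism in the image of the conformal orthogonal group. -/

section cent
open Cfsg.Agent.Lib.Helper9.ASP Cfsg.Agent.Lib.Helper5.OAut Cfsg.Agent.Lib.Helper5.SpinorHyp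
open Cfsg.Agent.Lib.Helper9.APSL (uA uA_coe nrm nrm_zero nrm_succ mem_cent_single exists_field_h90)

variable {Q} {i : ℕ} {α β : Fin i → ι}

omit [Fintype F] in
theorem scU_injective [Nonempty ι] :
    Function.Injective (scU : Fˣ → Matrix.GeneralLinearGroup ι F) := by
  intro u v h
  have h3 := congrArg (fun k : Matrix.GeneralLinearGroup ι F => (k : Matrix ι ι F)) h
  simp only [scU_coe] at h3
  obtain ⟨i⟩ := (inferInstance : Nonempty ι)
  have h4 := congrFun (congrFun h3 i) i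
  rw [Matrix.smul_apply, Matrix.smul_apply, Matrix.one_apply_eq, smul_eq_mul, smul_eq_mul,
    mul_one, mul_one] at h4
  exact Units.ext h4

omit [Fintype F] in
theorem sGI_pow_of_scalar (σ : RingAut F) (g : Matrix.GeneralLinearGroup ι F) (lam : Fˣ)
    (h : sGI σ g = scU lam * g) (k : ℕ) : sGI (σ ^ k) g = scU (nrm σ k lam) * g := by
  induction k with
  | zero => rw [pow_zero, sGI_one, nrm_zero, scU_one, one_mul]
  | succ k ih =>
    rw [pow_succ', sGI_mul, ih, map_mul, sGI_scU, h, nrm_succ, ← mul_assoc, ← scU_mul,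
      mul_comm (uA σ (nrm σ k lam)) lam]

omit [Fintype F] in
theorem sGI_mem (σ : RingAut F) (hσQ : ∀ v, Q (vm σ v) = σ (Q v))
    (G : ↥(Geo.quadSimilarityGroup (F := F) ⇑Q)) :
    sGI σ (G : Matrix.GeneralLinearGroup ι F) ∈ Geo.quadSimilarityGroup (F := F) ⇑Q := by
  obtain ⟨c, hc⟩ := G.2
  refine ⟨Units.mk0 (σ (c : F)) ((map_ne_zero σ).mpr c.ne_zero), fun v => ?_⟩
  have h1 : ((sGI σ (G : Matrix.GeneralLinearGroup ι F) : Matrix.GeneralLinearGroup ι F) :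
      Matrix ι ι F) *ᵥ v = vm σ (((G : Matrix.GeneralLinearGroup ι F) : Matrix ι ι F) *ᵥ
        vm (σ : F ≃+* F).symm v) := by
    rw [vm_mulVec, vm_symm', sGI_coe]
  rw [h1, hσQ, hc, map_mul, ← hσQ, vm_symm']
  rfl

/-- the image of a similarity under a field automorphism -/
noncomputable def sGO (σ : RingAut F) (hσQ : ∀ v, Q (vm σ v) = σ (Q v))
    (G : ↥(Geo.quadSimilarityGroup (F := F) ⇑Q)) : ↥(Geo.quadSimilarityGroup (F := F) ⇑Q) :=
  ⟨sGI σ (G : Matrix.GeneralLinearGroup ι F), sGI_mem σ hσQ G⟩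

theorem fO_mul_conjGO {w₀ : ι → F} (hw₀ : Q w₀ = 1) (σ : RingAut F)
    (hσQ : ∀ v, Q (vm σ v) = σ (Q v)) (G : ↥(Geo.quadSimilarityGroup (F := F) ⇑Q)) :
    fO σ hσQ * conjGO Q G = conjGO Q (sGO σ hσQ G) * fO σ hσQ := by
  have h1 := SRg_mul (SRg_fO σ hσQ) (SRg_conjGO G)
  have h2 := SRg_mul (SRg_conjGO (sGO σ hσQ G)) (SRg_fO σ hσQ)
  rw [one_mul, mul_one] at h1
  rw [map_one, mul_one, one_mul] at h2
  exact SRg_unique_left hw₀ h1 h2

/-- an element of the image of the conformal group commuting with a field automorphism comes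
from a fixed similarity -/
theorem cent_fO_iff [Nonempty ι] (hQ : (polarBilin Q).Nondegenerate)
    (hfam : IsHypFamily Q α β) (hi : 3 ≤ i) (h5 : 5 ≤ Fintype.card ι) {w₀ : ι → F}
    (hw₀ : Q w₀ = 1) (σ : RingAut F) (hσQ : ∀ v, Q (vm σ v) = σ (Q v)) (r : ℕ) (hr : 0 < r)
    (hord : orderOf σ = r) (β₀ : MulAut (POmega F ⇑Q)) :
    β₀ ∈ (conjGO Q).range ⊓ Subgroup.centralizer {fO σ hσQ} ↔
      ∃ g : ↥(Geo.quadSimilarityGroup (F := F) ⇑Q),
        sGI σ (g : Matrix.GeneralLinearGroup ι F) = g ∧ β₀ = conjGO Q g := by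
  have hσ : σ ^ r = 1 := hord ▸ pow_orderOf_eq_one σ
  have hinj : ∀ i j, i < r → j < r → σ ^ i = σ ^ j → i = j := by
    intro i j hi hj e
    exact pow_injOn_Iio_orderOf (by rw [hord]; exact hi) (by rw [hord]; exact hj) e
  rw [Subgroup.mem_inf, mem_cent_single]
  constructor
  · rintro ⟨⟨G, rfl⟩, hcomm⟩
    rw [fO_mul_conjGO hw₀] at hcomm
    have h1 : conjGO Q (sGO σ hσQ G) = conjGO Q G := mul_right_cancel hcomm
    have h2 : sGO σ hσQ G * G⁻¹ ∈ (conjGO Q).ker := by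
      rw [MonoidHom.mem_ker, map_mul, map_inv, h1, mul_inv_cancel]
    obtain ⟨a, ha, hGa⟩ := scalar_of_mem_ker_conjGO hQ hfam hi h5 hw₀ _ h2
    have ha0 : a ≠ 0 := by
      rintro rfl
      rw [mul_zero] at ha
      exact mult_ne_zero hw₀ (sGO σ hσQ G * G⁻¹).2 ha.symm
    obtain ⟨lam, hlam⟩ : ∃ lam : Fˣ, lam = Units.mk0 a ha0 := ⟨_, rfl⟩
    have h3 : sGI σ (G : Matrix.GeneralLinearGroup ι F) =
        scU lam * (G : Matrix.GeneralLinearGroup ι F) := by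
      have e1 : sGI σ (G : Matrix.GeneralLinearGroup ι F) * (G : Matrix.GeneralLinearGroup ι F)⁻¹ =
          scU lam := by
        apply Units.ext
        rw [scU_coe, hlam, Units.val_mk0, ← hGa]
        rfl
      rw [← e1, inv_mul_cancel_right]
    have h4 := sGI_pow_of_scalar σ (G : Matrix.GeneralLinearGroup ι F) lam h3 r
    rw [hσ, sGI_one] at h4
    have h5' : (scU (nrm σ r lam) : Matrix.GeneralLinearGroup ι F) = scU 1 := by
      rw [scU_one]
      have : scU (nrm σ r lam) * (G : Matrix.GeneralLinearGroup ι F) =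
          1 * (G : Matrix.GeneralLinearGroup ι F) := by
        rw [one_mul]
        exact h4.symm
      exact mul_right_cancel this
    have h6 : nrm σ r lam = 1 := scU_injective h5'
    obtain ⟨ν, hν⟩ := exists_field_h90 σ r hr hinj hσ lam h6
    refine ⟨⟨scU ν, scalarGL_mem (ν : F) ν.ne_zero⟩ * G, ?_, ?_⟩
    · show sGI σ (scU ν * (G : Matrix.GeneralLinearGroup ι F)) =
        scU ν * (G : Matrix.GeneralLinearGroup ι F)
      rw [map_mul, sGI_scU, h3, ← mul_assoc, ← scU_mul, mul_comm (uA σ ν), hν]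
    · rw [map_mul]
      have h7 : conjGO Q ⟨scU ν, scalarGL_mem (ν : F) ν.ne_zero⟩ = 1 :=
        mem_ker_conjGO_of_scalar _ (ν : F) rfl
      rw [h7, one_mul]
  · rintro ⟨g, hg, rfl⟩
    refine ⟨⟨g, rfl⟩, ?_⟩
    rw [fO_mul_conjGO hw₀]
    have h1 : sGO σ hσQ g = g := Subtype.ext hg
    rw [h1]

section sub
variable {F₀ : Type*} [Field F₀] (j : F₀ →+* F) (Q₀ : QuadraticForm F₀ (ι → F₀))

omit [Fintype F] in
theorem glmap_mem_GO_iff (hbc : ∀ v₀, Q (hm j v₀) = j (Q₀ v₀)) {w₀' : ι → F₀}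
    (hw₀' : Q₀ w₀' = 1) (h₀ : Matrix.GeneralLinearGroup ι F₀) :
    h₀ ∈ Geo.quadSimilarityGroup (F := F₀) ⇑Q₀ ↔
      Matrix.GeneralLinearGroup.map j h₀ ∈ Geo.quadSimilarityGroup (F := F) ⇑Q := by
  constructor
  · rintro ⟨c₀, hc₀⟩
    refine ⟨Units.map j.toMonoidHom c₀, ?_⟩
    have e := quad_ext_rational j
      (Q.comp (Matrix.toLin' ((Matrix.GeneralLinearGroup.map j h₀ :
        Matrix.GeneralLinearGroup ι F) : Matrix ι ι F)))
      ((j (c₀ : F₀)) • Q) (by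
        intro v₀
        rw [QuadraticMap.comp_apply, Matrix.toLin'_apply, glmapI_coe, ← hm_mulVec, hbc, hc₀,
          map_mul, ← hbc]
        rfl)
    intro v
    have e1 := congrArg (fun B : QuadraticForm F (ι → F) => B v) e
    simp only [QuadraticMap.comp_apply, Matrix.toLin'_apply] at e1
    rw [e1]
    rfl
  · rintro ⟨c, hc⟩
    obtain ⟨c₀, hc₀⟩ : ∃ c₀ : F₀, c₀ = Q₀ ((h₀ : Matrix ι ι F₀) *ᵥ w₀') := ⟨_, rfl⟩
    have hcc : j c₀ = (c : F) := by
      rw [hc₀, ← hbc, hm_mulVec, ← glmapI_coe, hc, hbc, hw₀', map_one, mul_one]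
    have hc₀0 : c₀ ≠ 0 := by
      intro h0
      rw [h0, map_zero] at hcc
      exact c.ne_zero hcc.symm
    refine ⟨Units.mk0 c₀ hc₀0, fun v₀ => ?_⟩
    apply j.injective
    rw [← hbc, hm_mulVec, ← glmapI_coe, hc, Units.val_mk0, map_mul, hcc, hbc]

omit [Fintype F] [Fintype ι] in
theorem map_scalar_iff [Nonempty ι] (M₀ : Matrix ι ι F₀) :
    (∃ a : F, M₀.map j = a • 1) ↔ ∃ a₀ : F₀, M₀ = a₀ • 1 := by
  constructor
  · rintro ⟨a, ha⟩
    obtain ⟨i₀⟩ := (inferInstance : Nonempty ι)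
    refine ⟨M₀ i₀ i₀, ?_⟩
    have h1 : ∀ i k, j (M₀ i k) = if i = k then a else 0 := by
      intro i k
      have := congrFun (congrFun ha i) k
      rw [Matrix.map_apply, Matrix.smul_apply, Matrix.one_apply, smul_eq_mul] at this
      rw [this]
      split_ifs
      · rw [mul_one]
      · rw [mul_zero]
    ext i k
    rw [Matrix.smul_apply, Matrix.one_apply, smul_eq_mul]
    by_cases hik : i = k
    · rw [if_pos hik, mul_one]
      apply j.injective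
      rw [h1, h1, if_pos rfl, if_pos hik]
    · rw [if_neg hik, mul_zero]
      apply j.injective
      rw [h1, if_neg hik, map_zero]
  · rintro ⟨a₀, ha₀⟩
    refine ⟨j a₀, ?_⟩
    rw [ha₀]
    ext i k
    rw [Matrix.map_apply, Matrix.smul_apply, Matrix.smul_apply, Matrix.one_apply,
      Matrix.one_apply, smul_eq_mul, smul_eq_mul]
    split_ifs
    · rw [mul_one, mul_one]
    · rw [mul_zero, mul_zero, map_zero]

variable {i₀ : ℕ} {α₀ β₀ : Fin i₀ → ι}

/-- **the centraliser of a field automorphism in the image of the conformal orthogonal group** -/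
theorem exists_cent_fO_equiv [Nonempty ι] [Fintype F₀] (hQ : (polarBilin Q).Nondegenerate)
    (hfam : IsHypFamily Q α β) (hi : 3 ≤ i) (h5 : 5 ≤ Fintype.card ι) {w₀ : ι → F}
    (hw₀ : Q w₀ = 1) (hQ₀ : (polarBilin Q₀).Nondegenerate) (hfam₀ : IsHypFamily Q₀ α₀ β₀)
    (hi₀ : 3 ≤ i₀) {w₀' : ι → F₀} (hw₀' : Q₀ w₀' = 1)
    (hbc : ∀ v₀, Q (hm j v₀) = j (Q₀ v₀))
    (σ : RingAut F) (hσQ : ∀ v, Q (vm σ v) = σ (Q v)) (r : ℕ) (hr : 0 < r)
    (hord : orderOf σ = r) (hι : ∀ a : F, σ a = a ↔ a ∈ Set.range j) :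
    Nonempty (↥((conjGO Q).range ⊓ Subgroup.centralizer {fO σ hσQ}) ≃* ↥(conjGO Q₀).range) := by
  have hι' : ∀ b, σ (j b) = j b := fun b => (hι _).mpr ⟨b, rfl⟩
  obtain ⟨M, hM⟩ : ∃ M : ↥(Geo.quadSimilarityGroup (F := F₀) ⇑Q₀) →*
      ↥(Geo.quadSimilarityGroup (F := F) ⇑Q),
      ∀ h₀, ((M h₀ : ↥(Geo.quadSimilarityGroup (F := F) ⇑Q)) : Matrix.GeneralLinearGroup ι F)
        = Matrix.GeneralLinearGroup.map j (h₀ : Matrix.GeneralLinearGroup ι F₀) :=
    ⟨((Matrix.GeneralLinearGroup.map j).comp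
      (Geo.quadSimilarityGroup (F := F₀) ⇑Q₀).subtype).codRestrict _
      (fun h₀ => (glmap_mem_GO_iff j Q₀ hbc hw₀' h₀.1).mp h₀.2), fun _ => rfl⟩
  have hMfix : ∀ h₀, sGI σ ((M h₀ : ↥(Geo.quadSimilarityGroup (F := F) ⇑Q)) :
      Matrix.GeneralLinearGroup ι F) = M h₀ := by
    intro h₀
    rw [hM]
    exact sGI_glmap σ j hι' _
  obtain ⟨Ψ, hΨ⟩ : ∃ Ψ : ↥(Geo.quadSimilarityGroup (F := F₀) ⇑Q₀) →*
      ↥((conjGO Q).range ⊓ Subgroup.centralizer {fO σ hσQ}),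
      ∀ h₀, (Ψ h₀ : MulAut (POmega F ⇑Q)) = conjGO Q (M h₀) :=
    ⟨((conjGO Q).comp M).codRestrict _ (fun h₀ =>
      (cent_fO_iff hQ hfam hi h5 hw₀ σ hσQ r hr hord _).mpr ⟨M h₀, hMfix h₀, rfl⟩), fun _ => rfl⟩
  have hsurj : Function.Surjective Ψ := by
    intro β₁
    obtain ⟨g, hg, e⟩ := (cent_fO_iff hQ hfam hi h5 hw₀ σ hσQ r hr hord _).mp β₁.2
    obtain ⟨g₀, hg₀⟩ := exists_glmapI_eq σ j hι (g : Matrix.GeneralLinearGroup ι F) hg
    have hg₀m : g₀ ∈ Geo.quadSimilarityGroup (F := F₀) ⇑Q₀ :=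
      (glmap_mem_GO_iff j Q₀ hbc hw₀' g₀).mpr (by rw [hg₀]; exact g.2)
    refine ⟨⟨g₀, hg₀m⟩, ?_⟩
    apply Subtype.ext
    rw [hΨ, e]
    congr 1
    apply Subtype.ext
    rw [hM]
    exact hg₀
  have h5₀ : 5 ≤ Fintype.card ι := h5
  have hker : Ψ.ker = (conjGO Q₀).ker := by
    ext h₀
    rw [MonoidHom.mem_ker, MonoidHom.mem_ker]
    constructor
    · intro h
      have h2 : M h₀ ∈ (conjGO Q).ker := by
        rw [MonoidHom.mem_ker, ← hΨ, h]
        rfl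
      obtain ⟨a, -, hGa⟩ := scalar_of_mem_ker_conjGO hQ hfam hi h5 hw₀ _ h2
      rw [hM, glmapI_coe] at hGa
      obtain ⟨a₀, ha₀⟩ := (map_scalar_iff j _).mp ⟨a, hGa⟩
      exact mem_ker_conjGO_of_scalar h₀ a₀ ha₀
    · intro h
      obtain ⟨a₀, -, hGa⟩ := scalar_of_mem_ker_conjGO hQ₀ hfam₀ hi₀ h5₀ hw₀' h₀ h
      obtain ⟨a, ha⟩ := (map_scalar_iff j _).mpr ⟨a₀, hGa⟩
      apply Subtype.ext
      rw [hΨ]
      have h3 : M h₀ ∈ (conjGO Q).ker := by
        apply mem_ker_conjGO_of_scalar (M h₀) a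
        rw [hM, glmapI_coe]
        exact ha
      exact h3
  exact ⟨(QuotientGroup.quotientKerEquivOfSurjective Ψ hsurj).symm.trans
    ((QuotientGroup.quotientMulEquivOfEq hker).trans
      (QuotientGroup.quotientKerEquivRange (conjGO Q₀)))⟩

end sub

end cent

end Cfsg.Agent.Lib.Helper9.AOF
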