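import Mathlib
import Cfsg.Prelude
import Cfsg.Agent.Lib.Helper5.OmegaSimple
import Cfsg.Agent.Lib.Helper5.MaxTS
import Cfsg.Agent.Lib.Helper9.AOF4

set_option autoImplicit false
set_option linter.unusedSectionVars false
set_option linter.unusedVariables false
open Cfsg

namespace Cfsg.Agent.Lib.Helper9.AOF

open Matrix QuadraticMap Cfsg.Agent.Lib.Helper5.CartanDieudonne Cfsg.Agent.Lib.Helper5.Refl
  Cfsg.Agent.Lib.Helper5.OrthCard Cfsg.Agent.Lib.Helper5.Siegel Cfsg.Agent.Lib.Helper5.QuadIsom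
  Cfsg.Agent.Lib.Helper5.ReflGen Cfsg.Agent.Lib.Helper5.Eichler Cfsg.Agent.Lib.Helper5.SingGeom
  Cfsg.Agent.Lib.Helper5.OmegaGen Cfsg.Agent.Lib.Helper5.OmegaSimple
  Cfsg.Agent.Lib.Helper9.AOR

variable {ι : Type} [Fintype ι] [DecidableEq ι] {F : Type*} [Field F] [Fintype F]
  (Q : QuadraticForm F (ι → F))

/-! Class splitting for field automorphisms of `Ω_{2m+1}(q)`: auxiliary results. -/

section grp

/-- the relative index of `C ⊔ K` in `D` when `K` has index two in `D` -/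
theorem relIndex_sup_cases {X : Type*} [Group X] (D K C : Subgroup X) [hK : K.Normal]
    (hKD : K ≤ D) (h2 : K.relIndex D = 2) :
    ((∃ c ∈ C ⊓ D, c ∉ K) → (C ⊔ K).relIndex D = 1) ∧
      (C ⊓ D ≤ K → (C ⊔ K).relIndex D = 2) := by
  have hKM : K ≤ (C ⊔ K) ⊓ D := le_inf le_sup_right hKD
  constructor
  · rintro ⟨c, hc, hcK⟩
    have hcM : c ∈ (C ⊔ K) ⊓ D := ⟨(le_sup_left : C ≤ C ⊔ K) hc.1, hc.2⟩
    have h3 := Subgroup.relIndex_mul_relIndex K ((C ⊔ K) ⊓ D) D hKM inf_le_right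
    rw [h2] at h3
    have h4 : K.relIndex ((C ⊔ K) ⊓ D) ≠ 1 := by
      intro h
      rw [Subgroup.relIndex_eq_one] at h
      exact hcK (h hcM)
    have h5 : K.relIndex ((C ⊔ K) ⊓ D) ∣ 2 := ⟨_, h3.symm⟩
    rcases (Nat.dvd_prime Nat.prime_two).mp h5 with h6 | h6
    · exact absurd h6 h4
    · rw [h6] at h3
      rw [← Subgroup.inf_relIndex_right]
      omega
  · intro hle
    have hM : (C ⊔ K) ⊓ D = K := by
      apply le_antisymm _ hKM
      rintro x ⟨hx1', hx2'⟩
      have hx1 : x ∈ C ⊔ K := hx1'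
      have hx2 : x ∈ D := hx2'
      rw [Subgroup.mem_sup_of_normal_right] at hx1
      obtain ⟨c, hc, k, hk, rfl⟩ := hx1
      have hcD : c ∈ D := by
        have : c = c * k * k⁻¹ := by group
        rw [this]
        exact D.mul_mem hx2 (D.inv_mem (hKD hk))
      exact K.mul_mem (hle ⟨hc, hcD⟩) hk
    rw [← Subgroup.inf_relIndex_right, hM, h2]

end grp

section fld
open Cfsg.Agent.Lib.Helper9.ASP

variable {F₀ : Type*} [Field F₀] (j : F₀ →+* F)

omit [Fintype F] in
/-- a nonsquare of the fixed field of an automorphism of odd order stays a nonsquare -/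
theorem not_isSquare_map_of_odd (h2 : (2 : F) ≠ 0) (σ : RingAut F) (r : ℕ) (hσ : σ ^ r = 1)
    (hr : Odd r) (hι : ∀ a : F, σ a = a → a ∈ Set.range j) (hι' : ∀ t : F₀, σ (j t) = j t)
    (ε : F₀) (hε : ¬ IsSquare ε) : ¬ IsSquare (j ε) := by
  rintro ⟨y, hy⟩
  have hε0 : ε ≠ 0 := by
    rintro rfl
    exact hε ⟨0, by rw [mul_zero]⟩
  have hy0 : y ≠ 0 := by
    rintro rfl
    rw [mul_zero] at hy
    exact hε0 ((map_eq_zero j).mp hy)
  have hsq : σ y * σ y = y * y := by rw [← map_mul, ← hy, hι']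
  have hcases : σ y = y ∨ σ y = -y := by
    have h0 : (σ y - y) * (σ y + y) = 0 := by linear_combination hsq
    rcases mul_eq_zero.mp h0 with h | h
    · left
      exact sub_eq_zero.mp h
    · right
      exact eq_neg_of_add_eq_zero_left h
  rcases hcases with hfix | hneg
  · obtain ⟨t, ht⟩ := hι y hfix
    apply hε
    refine ⟨t, ?_⟩
    apply j.injective
    rw [hy, map_mul, ht]
  · have hpow : ∀ k : ℕ, (σ ^ k) y = (-1) ^ k * y := by
      intro k
      induction k with
      | zero => simp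
      | succ k ih =>
        rw [pow_succ', RingAut.mul_apply, ih, map_mul, map_pow, map_neg, map_one, hneg, pow_succ]
        ring
    have h3 := hpow r
    rw [hσ, RingAut.one_apply, hr.neg_one_pow] at h3
    have h4 : (2 : F) * y = 0 := by linear_combination h3
    rcases mul_eq_zero.mp h4 with h | h
    · exact h2 h
    · exact hy0 h

/-- every element of the subfield of index two is a square -/
theorem isSquare_map_of_card_sq [Fintype F₀] (h2 : (2 : F) ≠ 0)
    (hcard : Fintype.card F = Fintype.card F₀ ^ 2) (t : F₀) : IsSquare (j t) := by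
  by_cases ht : t = 0
  · rw [ht, map_zero]
    exact ⟨0, by rw [mul_zero]⟩
  have hchar : ringChar F ≠ 2 := by
    intro h
    apply h2
    haveI : CharP F 2 := ringChar.of_eq h
    have := CharP.cast_eq_zero F 2
    exact_mod_cast this
  have h2' : (2 : F₀) ≠ 0 := by
    intro h
    apply h2
    have := congrArg j h
    rwa [map_ofNat, map_zero] at this
  have hchar₀ : ringChar F₀ ≠ 2 := by
    intro h
    apply h2'
    haveI : CharP F₀ 2 := ringChar.of_eq h
    have := CharP.cast_eq_zero F₀ 2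
    exact_mod_cast this
  have hodd := FiniteField.odd_card_of_char_ne_two hchar₀
  rw [FiniteField.isSquare_iff hchar ((map_ne_zero j).mpr ht), hcard]
  have h1 : t ^ (Fintype.card F₀ - 1) = 1 := FiniteField.pow_card_sub_one_eq_one t ht
  obtain ⟨a, ha⟩ : ∃ a, Fintype.card F₀ = 2 * a + 1 := ⟨Fintype.card F₀ / 2, by omega⟩
  have h3 : Fintype.card F₀ ^ 2 / 2 = (Fintype.card F₀ - 1) * (a + 1) := by
    rw [ha]
    have : (2 * a + 1) ^ 2 = 2 * (2 * a * (a + 1)) + 1 := by ring
    rw [this]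
    have h5 : 2 * a + 1 - 1 = 2 * a := by omega
    rw [h5]
    omega
  rw [h3, pow_mul, ← map_pow, h1, map_one, one_pow]

end fld

section refl
open Cfsg.Agent.Lib.Helper9.ASP Cfsg.Agent.Lib.Helper5.OAut Cfsg.Agent.Lib.Helper5.SpinorNorm

variable {Q} {F₀ : Type*} [Field F₀] (j : F₀ →+* F) (Q₀ : QuadraticForm F₀ (ι → F₀))

omit [Fintype ι] [DecidableEq ι] [Fintype F] in
theorem polar_hm (hbc : ∀ v₀, Q (hm j v₀) = j (Q₀ v₀)) (x y : ι → F₀) :
    polar Q (hm j x) (hm j y) = j (polar Q₀ x y) := by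
  unfold polar
  rw [← hm_add, hbc, hbc, hbc, map_sub, map_sub]

omit [Fintype F] in
theorem matrix_ext_rational (M N : Matrix ι ι F)
    (h : ∀ v₀ : ι → F₀, M *ᵥ hm j v₀ = N *ᵥ hm j v₀) : M = N := by
  ext i k
  have h1 := congrFun (h (Pi.single k 1)) i
  rw [hm_single, Matrix.mulVec_single_one, Matrix.mulVec_single_one] at h1
  exact h1

omit [Fintype F] in
theorem reflectionMatrix_hm (hbc : ∀ v₀, Q (hm j v₀) = j (Q₀ v₀)) (v₀ : ι → F₀) :
    reflectionMatrix ⇑Q (hm j v₀) = (reflectionMatrix ⇑Q₀ v₀).map j := by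
  apply matrix_ext_rational j
  intro x₀
  rw [reflectionMatrix_mulVec, ← hm_mulVec, reflectionMatrix_mulVec, polar_hm j Q₀ hbc, hbc]
  ext i
  simp [hm, map_sub, map_mul, map_inv₀]

omit [Fintype F] in
theorem rprod_hm (hbc : ∀ v₀, Q (hm j v₀) = j (Q₀ v₀)) (vs₀ : List (ι → F₀)) :
    rprod Q (vs₀.map (hm j)) = (rprod Q₀ vs₀).map j := by
  induction vs₀ with
  | nil =>
    rw [List.map_nil, rprod_nil, rprod_nil, Matrix.map_one j (map_zero j) (map_one j)]
  | cons v vs ih =>
    rw [List.map_cons, rprod_cons, rprod_cons, ih, reflectionMatrix_hm j Q₀ hbc, Matrix.map_mul]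

omit [Fintype ι] [DecidableEq ι] [Fintype F] in
theorem prodQ_hm (hbc : ∀ v₀, Q (hm j v₀) = j (Q₀ v₀)) (vs₀ : List (ι → F₀)) :
    ((vs₀.map (hm j)).map Q).prod = j ((vs₀.map Q₀).prod) := by
  induction vs₀ with
  | nil => simp
  | cons v vs ih =>
    rw [List.map_cons, List.map_cons, List.prod_cons, ih, List.map_cons, List.prod_cons, map_mul,
      hbc]

end refl

end Cfsg.Agent.Lib.Helper9.AOF
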