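import Mathlib
import Cfsg.Prelude
import Cfsg.Agent.Lib.Helper5.OmegaSimple
import Cfsg.Agent.Lib.Helper5.MaxTS
import Cfsg.Agent.Lib.Helper9.AOF5

set_option autoImplicit false
set_option linter.unusedSectionVars false
set_option linter.unusedVariables false
open Cfsg

namespace Cfsg.Agent.Lib.Helper9.AOF

open Matrix QuadraticMap Cfsg.Agent.Lib.Helper5.CartanDieudonne Cfsg.Agent.Lib.Helper5.Refl
  Cfsg.Agent.Lib.Helper5.OrthCard Cfsg.Agent.Lib.Helper5.Siegel Cfsg.Agent.Lib.Helper5.QuadIsom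
  Cfsg.Agent.Lib.Helper5.ReflGen Cfsg.Agent.Lib.Helper5.Eichler Cfsg.Agent.Lib.Helper5.SingGeom
  Cfsg.Agent.Lib.Helper5.OmegaGen Cfsg.Agent.Lib.Helper5.OmegaSimple
  Cfsg.Agent.Lib.Helper9.AOR

variable {ι : Type} [Fintype ι] [DecidableEq ι] {F : Type*} [Field F] [Fintype F]
  (Q : QuadraticForm F (ι → F))

/-! Class splitting and centralisers for field automorphisms of `Ω_{2m+1}(q)`. -/

section oddsplit
open Cfsg.Agent.Lib.Helper9.ASP Cfsg.Agent.Lib.Helper5.OAut Cfsg.Agent.Lib.Helper5.SpinorHyp2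
  Cfsg.Agent.Lib.Helper5.SpinorHyp Cfsg.Agent.Lib.Helper5.SpinorNorm
  Cfsg.Agent.Lib.Helper5.SpinorDiag
open Cfsg.Agent.Lib.Helper9.APSL (splitClassCount_range splitClassCount_conj centInfConjEquiv
  exists_fixed_embedding mem_cent_single orderOf_conj')

section gen
variable {Q} {i : ℕ} {α β : Fin i → ι}

/-- an isometry of determinant one inducing an inner automorphism lies in `Ω`, in odd
dimension -/
theorem mem_Omega_of_conjO_mem_inn_det (h2 : (2 : F) ≠ 0) (hQ : (polarBilin Q).Nondegenerate)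
    (hfam : IsHypFamily Q α β) (hi : 3 ≤ i) (h5 : 5 ≤ Fintype.card ι)
    (hcard : Odd (Fintype.card ι)) (s : ↥(isometryGroup F ⇑Q))
    (hdet : ((s : Matrix.GeneralLinearGroup ι F) : Matrix ι ι F).det = 1)
    (h : conjO Q s ∈ Inn (POmega F ⇑Q)) : s ∈ Omega F ⇑Q := by
  rw [inn_eq] at h
  obtain ⟨t, ht, hts⟩ := h
  have hker : t⁻¹ * s ∈ (conjO Q).ker := by
    rw [MonoidHom.mem_ker, map_mul, map_inv, hts, inv_mul_cancel]
  have hdt := Cfsg.Agent.Lib.Helper5.OmegaCenter.det_eq_one_of_mem_commutator t ht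
  rcases ker_conjO_le hQ hfam hi h5 _ hker with h1 | h1
  · have h3 : s = t := by
      calc s = t * (t⁻¹ * s) := by group
        _ = t := by rw [h1, mul_one]
    rw [h3]
    exact ht
  · exfalso
    have h3 : s = t * negOne Q := by
      calc s = t * (t⁻¹ * s) := by group
        _ = t * negOne Q := by rw [h1]
    rw [h3] at hdet
    have h4 : (((t * negOne Q : ↥(isometryGroup F ⇑Q)) : Matrix.GeneralLinearGroup ι F) :
        Matrix ι ι F) = ((t : Matrix.GeneralLinearGroup ι F) : Matrix ι ι F) * (-1) := rfl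
    rw [h4, Matrix.det_mul, hdt, Matrix.det_neg, Matrix.det_one, hcard.neg_one_pow, mul_one,
      one_mul] at hdet
    apply h2
    linear_combination -hdet

end gen

variable (m : ℕ)

theorem relIndex_inn_range_odd (p f : ℕ) [Fact p.Prime] (hF : Fintype.card F = p ^ f)
    (hf : 1 ≤ f) (hodd : Odd p) (hm : 3 ≤ m) :
    (Inn (POmega F ⇑(oddForm m F))).relIndex (conjGO (oddForm m F)).range = 2 ∧
      Inn (POmega F ⇑(oddForm m F)) ≤ (conjGO (oddForm m F)).range := by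
  haveI := charP_of_card' p f hF
  have hoddF : Odd (Fintype.card F) := by rw [hF]; exact hodd.pow
  have h2 : (2 : F) ≠ 0 := Cfsg.Agent.Lib.Helper5.two_ne_zero_of_odd_card hoddF
  have hQ := oddForm_nondegenerate h2 m
  have hfam := oddForm_hypFamily (F := F) (le_refl m)
  have hn : Fintype.card (Unit ⊕ (Fin m ⊕ Fin m)) = 2 * m + 1 := by
    simp only [Fintype.card_sum, Fintype.card_fin, Fintype.card_unit]; omega
  have H := Hyp.of_hypFamily hQ hfam hm (by omega)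
  have hγ : gammaPOmega F ⇑(oddForm m F) = ⊤ := by
    rw [coe_oddForm]
    exact Cfsg.Agent.S2694.result hoddF hm
  have hfield : ∀ σ : F ≃+* F, ∃ (g : Matrix.GeneralLinearGroup (Unit ⊕ (Fin m ⊕ Fin m)) F)
      (c : F), c ≠ 0 ∧ ∀ v, oddForm m F (sm g σ v) = c * σ (oddForm m F v) :=
    fun σ => ⟨1, 1, one_ne_zero, oddForm_field m σ⟩
  have hA := card_aut_eq p H hγ hfield
  obtain ⟨hcyc, hcard⟩ := ringAut_card_cyclic p f hF
  rw [hcard, card_aut_odd p f hF hodd m hm] at hA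
  have hP : 0 < Nat.card (POmega F ⇑(oddForm m F)) := Nat.card_pos
  have hrange : Nat.card ↥(conjGO (oddForm m F)).range =
      2 * Nat.card (POmega F ⇑(oddForm m F)) := by
    have h6 : f * (2 * Nat.card (POmega F ⇑(oddForm m F))) =
        f * Nat.card ↥(conjGO (oddForm m F)).range := by
      rw [mul_comm f (Nat.card ↥(conjGO (oddForm m F)).range), ← hA]; ring
    exact (Nat.eq_of_mul_eq_mul_left (by omega) h6).symm
  have hKD : Inn (POmega F ⇑(oddForm m F)) ≤ (conjGO (oddForm m F)).range := by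
    rw [← pgoAut_eq]
    exact (inn_le_psoAut h2 hQ).trans psoAut_le_pgoAut
  refine ⟨?_, hKD⟩
  have h3 := Subgroup.relIndex_mul_relIndex ⊥ (Inn (POmega F ⇑(oddForm m F)))
    (conjGO (oddForm m F)).range bot_le hKD
  rw [Subgroup.relIndex_bot_left, Subgroup.relIndex_bot_left, card_inn_POmega H, hrange] at h3
  have h4 : Nat.card (POmega F ⇑(oddForm m F)) *
      (Inn (POmega F ⇑(oddForm m F))).relIndex (conjGO (oddForm m F)).range =
      Nat.card (POmega F ⇑(oddForm m F)) * 2 := by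
    rw [h3, mul_comm]
  exact Nat.eq_of_mul_eq_mul_left hP h4

section core
variable {F₀ : Type*} [Field F₀] [Fintype F₀] (j : F₀ →+* F)

/-- if every element of the subfield is a square, rational similarities induce inner
automorphisms (odd dimension) -/
theorem conjGO_glmap_mem_inn (hm1 : 1 ≤ m) (h2 : (2 : F) ≠ 0) (hsq : ∀ t : F₀, IsSquare (j t))
    (g₀ : Matrix.GeneralLinearGroup (Unit ⊕ (Fin m ⊕ Fin m)) F₀)
    (hg₀m : g₀ ∈ Geo.quadSimilarityGroup (F := F₀) ⇑(oddForm m F₀))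
    (g : ↥(Geo.quadSimilarityGroup (F := F) ⇑(oddForm m F)))
    (hg : (g : Matrix.GeneralLinearGroup (Unit ⊕ (Fin m ⊕ Fin m)) F) =
      Matrix.GeneralLinearGroup.map j g₀) :
    conjGO (oddForm m F) g ∈ Inn (POmega F ⇑(oddForm m F)) := by
  have h2₀ : (2 : F₀) ≠ 0 := by
    intro h
    apply h2
    have := congrArg j h
    rwa [map_ofNat, map_zero] at this
  have hQ := oddForm_nondegenerate h2 m
  have hQ₀ := oddForm_nondegenerate h2₀ m
  have hn : Fintype.card (Unit ⊕ (Fin m ⊕ Fin m)) = 2 * m + 1 := by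
    simp only [Fintype.card_sum, Fintype.card_fin, Fintype.card_unit]; omega
  have hbc : ∀ v₀, oddForm m F (hm j v₀) = j (oddForm m F₀ v₀) := oddForm_hm j m
  obtain ⟨μ₀, hμ₀⟩ : ∃ μ₀ : F₀, μ₀ = mult (oddForm m F₀) (w0odd F₀ m) g₀ := ⟨_, rfl⟩
  have hμ : ∀ v, oddForm m F₀ ((g₀ : Matrix (Unit ⊕ (Fin m ⊕ Fin m)) (Unit ⊕ (Fin m ⊕ Fin m)) F₀)
      *ᵥ v) = μ₀ * oddForm m F₀ v := by
    intro v
    rw [hμ₀]
    exact mult_spec (oddForm_w0 m) hg₀m v
  have hμ0 : μ₀ ≠ 0 := by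
    rw [hμ₀]
    exact mult_ne_zero (oddForm_w0 m) hg₀m
  have hdsq := det_sq_of_sim hQ₀ (oddForm_w0 m) hg₀m
  rw [hn, ← hμ₀] at hdsq
  obtain ⟨d, hd⟩ : ∃ d : F₀, d = (g₀ : Matrix (Unit ⊕ (Fin m ⊕ Fin m))
      (Unit ⊕ (Fin m ⊕ Fin m)) F₀).det := ⟨_, rfl⟩
  rw [← hd] at hdsq
  obtain ⟨c₀, hc₀⟩ : ∃ c₀ : F₀, c₀ = d * (μ₀ ^ m)⁻¹ := ⟨_, rfl⟩
  have hμm0 : μ₀ ^ m ≠ 0 := pow_ne_zero _ hμ0
  have hc₀sq : c₀ * c₀ = μ₀ := by
    rw [hc₀]
    field_simp
    rw [hdsq]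
    ring
  have hc₀0 : c₀ ≠ 0 := by
    rintro h0
    rw [h0, mul_zero] at hc₀sq
    exact hμ0 hc₀sq.symm
  have hc₀pow : c₀ ^ (2 * m + 1) = d := by
    have h1 : c₀ ^ (2 * m + 1) = (c₀ * c₀) ^ m * c₀ := by ring
    rw [h1, hc₀sq, hc₀]
    field_simp
  -- the isometry part
  obtain ⟨s₀, hs₀⟩ : ∃ s₀ : Matrix.GeneralLinearGroup (Unit ⊕ (Fin m ⊕ Fin m)) F₀,
      s₀ = (scalarGL (Unit ⊕ (Fin m ⊕ Fin m)) c₀ hc₀0)⁻¹ * g₀ := ⟨_, rfl⟩
  have hs₀c : (s₀ : Matrix (Unit ⊕ (Fin m ⊕ Fin m)) (Unit ⊕ (Fin m ⊕ Fin m)) F₀) =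
      c₀⁻¹ • (g₀ : Matrix (Unit ⊕ (Fin m ⊕ Fin m)) (Unit ⊕ (Fin m ⊕ Fin m)) F₀) := by
    rw [hs₀, Units.val_mul]
    show (c₀⁻¹ • (1 : Matrix (Unit ⊕ (Fin m ⊕ Fin m)) (Unit ⊕ (Fin m ⊕ Fin m)) F₀)) * _ = _
    rw [Matrix.smul_mul, Matrix.one_mul]
  have hs₀iso : s₀ ∈ isometryGroup F₀ ⇑(oddForm m F₀) := by
    rw [mem_isometryGroup_iff]
    intro v
    rw [hs₀c, Matrix.smul_mulVec, QuadraticMap.map_smul, hμ, smul_eq_mul, ← hc₀sq]
    field_simp
  have hs₀det : (s₀ : Matrix (Unit ⊕ (Fin m ⊕ Fin m)) (Unit ⊕ (Fin m ⊕ Fin m)) F₀).det = 1 := by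
    rw [hs₀c, Matrix.det_smul, hn, ← hd, inv_pow, hc₀pow, inv_mul_cancel₀]
    rw [hd]
    have h3 : IsUnit (g₀ : Matrix (Unit ⊕ (Fin m ⊕ Fin m)) (Unit ⊕ (Fin m ⊕ Fin m)) F₀).det := by
      rw [← Matrix.isUnit_iff_isUnit_det]
      exact g₀.isUnit
    exact h3.ne_zero
  obtain ⟨vs₀, hvs₀⟩ := exists_rep (oddForm m F₀) h2₀ hQ₀ ⟨s₀, hs₀iso⟩
  have heven : Even vs₀.length := by
    have h3 := rprod_det (oddForm m F₀) vs₀ hvs₀.1
    rw [← hvs₀.2] at h3
    have h4 : (-1 : F₀) ^ vs₀.length = 1 := by rw [← h3]; exact hs₀det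
    by_contra hodd
    rw [Nat.not_even_iff_odd] at hodd
    rw [hodd.neg_one_pow] at h4
    apply h2₀
    linear_combination -h4
  -- the image over `F`
  have hne : ∀ v ∈ vs₀.map (hm j), oddForm m F v ≠ 0 := by
    intro v hv
    obtain ⟨v₀, hv₀, rfl⟩ := List.mem_map.mp hv
    rw [hbc]
    exact (map_ne_zero j).mpr (hvs₀.1 v₀ hv₀)
  obtain ⟨s, hs⟩ : ∃ s : ↥(isometryGroup F ⇑(oddForm m F)),
      s = ((vs₀.map (hm j)).map (reflE (oddForm m F))).prod := ⟨_, rfl⟩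
  have hrep : IsRep (oddForm m F) s (vs₀.map (hm j)) := by
    refine ⟨hne, ?_⟩
    rw [hs]
    exact coe_prod_reflE (oddForm m F) _ hne
  have hsΩ : s ∈ Omega F ⇑(oddForm m F) := by
    have hcardι : 2 ≤ Fintype.card (Unit ⊕ (Fin m ⊕ Fin m)) := by
      rw [hn]
      omega
    show s ∈ commutator ↥(isometryGroup F ⇑(oddForm m F))
    rw [mem_commutator_iff (oddForm m F) h2 hQ hcardι s _ hrep, List.length_map,
      prodQ_hm j (oddForm m F₀) hbc]
    exact ⟨heven, hsq _⟩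
  have hsmat : ((s : Matrix.GeneralLinearGroup (Unit ⊕ (Fin m ⊕ Fin m)) F) :
      Matrix (Unit ⊕ (Fin m ⊕ Fin m)) (Unit ⊕ (Fin m ⊕ Fin m)) F) =
      (s₀ : Matrix (Unit ⊕ (Fin m ⊕ Fin m)) (Unit ⊕ (Fin m ⊕ Fin m)) F₀).map j := by
    rw [hrep.2, rprod_hm j (oddForm m F₀) hbc, ← hvs₀.2]
  have hjc0 : j c₀ ≠ 0 := (map_ne_zero j).mpr hc₀0
  have hgdec : g = ⟨scalarGL (Unit ⊕ (Fin m ⊕ Fin m)) (j c₀) hjc0, scalarGL_mem (j c₀) hjc0⟩ *
      inclO (oddForm m F) s := by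
    apply Subtype.ext
    apply Units.ext
    rw [hg, glmapI_coe]
    show _ = ((j c₀) • (1 : Matrix (Unit ⊕ (Fin m ⊕ Fin m)) (Unit ⊕ (Fin m ⊕ Fin m)) F)) *
      ((s : Matrix.GeneralLinearGroup (Unit ⊕ (Fin m ⊕ Fin m)) F) :
      Matrix (Unit ⊕ (Fin m ⊕ Fin m)) (Unit ⊕ (Fin m ⊕ Fin m)) F)
    rw [hsmat, hs₀c, Matrix.smul_mul, Matrix.one_mul]
    ext a b
    rw [Matrix.map_apply, Matrix.smul_apply, Matrix.map_apply, Matrix.smul_apply, smul_eq_mul,
      smul_eq_mul, map_mul, map_inv₀, ← mul_assoc, mul_inv_cancel₀ hjc0, one_mul]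
  rw [hgdec, map_mul]
  have h7 : conjGO (oddForm m F)
      ⟨scalarGL (Unit ⊕ (Fin m ⊕ Fin m)) (j c₀) hjc0, scalarGL_mem (j c₀) hjc0⟩ = 1 :=
    mem_ker_conjGO_of_scalar _ (j c₀) rfl
  rw [h7, one_mul, inn_eq]
  refine ⟨s, hsΩ, ?_⟩
  rw [← conjGO_comp_inclO]
  rfl

/-- **the number of classes** into which the class of a field automorphism of `Ω_{2m+1}(q)`
splits -/
theorem split_odd (p f : ℕ) [Fact p.Prime] (hF : Fintype.card F = p ^ f) (hf : 1 ≤ f)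
    (hodd : Odd p) (hm3 : 3 ≤ m) (σ : RingAut F) (r : ℕ) (hr : 0 < r) (hord : orderOf σ = r)
    (hι : ∀ a : F, σ a = a ↔ a ∈ Set.range j)
    (hcard2 : r = 2 → Fintype.card F = Fintype.card F₀ ^ 2) :
    (Odd r → Cfsg.splitClassCount (conjGO (oddForm m F)).range
        (Inn (POmega F ⇑(oddForm m F))) (fO σ (oddForm_vm m σ)) = 1) ∧
      (r = 2 → Cfsg.splitClassCount (conjGO (oddForm m F)).range
        (Inn (POmega F ⇑(oddForm m F))) (fO σ (oddForm_vm m σ)) = 2) := by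
  have hoddF : Odd (Fintype.card F) := by rw [hF]; exact hodd.pow
  have h2 : (2 : F) ≠ 0 := Cfsg.Agent.Lib.Helper5.two_ne_zero_of_odd_card hoddF
  have h2₀ : (2 : F₀) ≠ 0 := by
    intro h
    apply h2
    have := congrArg j h
    rwa [map_ofNat, map_zero] at this
  have hQ := oddForm_nondegenerate h2 m
  have hQ₀ := oddForm_nondegenerate h2₀ m
  have hfam := oddForm_hypFamily (F := F) (le_refl m)
  have hn : Fintype.card (Unit ⊕ (Fin m ⊕ Fin m)) = 2 * m + 1 := by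
    simp only [Fintype.card_sum, Fintype.card_fin, Fintype.card_unit]; omega
  have h5 : 5 ≤ Fintype.card (Unit ⊕ (Fin m ⊕ Fin m)) := by rw [hn]; omega
  have hcardι : 2 ≤ Fintype.card (Unit ⊕ (Fin m ⊕ Fin m)) := by omega
  haveI : Nonempty (Unit ⊕ (Fin m ⊕ Fin m)) := ⟨Sum.inl ()⟩
  have hι' : ∀ t : F₀, σ (j t) = j t := fun t => (hι _).mpr ⟨t, rfl⟩
  have hσ : σ ^ r = 1 := hord ▸ pow_orderOf_eq_one σ
  have hbc : ∀ v₀, oddForm m F (hm j v₀) = j (oddForm m F₀ v₀) := oddForm_hm j m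
  obtain ⟨hrel, hKD⟩ := relIndex_inn_range_odd m p f hF hf hodd hm3
  rw [splitClassCount_range, Subgroup.index_comap]
  obtain ⟨hA, hB⟩ := relIndex_sup_cases (conjGO (oddForm m F)).range
    (Inn (POmega F ⇑(oddForm m F))) (Subgroup.centralizer {fO σ (oddForm_vm m σ)}) hKD hrel
  constructor
  · intro hrodd
    apply hA
    obtain ⟨ε, hε0, hεns⟩ := exists_nonsquare (F := F₀) h2₀
    obtain ⟨u₀, hu₀⟩ := exists_quad_eq (oddForm m F₀) hQ₀ hcardι 1 one_ne_zero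
    obtain ⟨v₀, hv₀⟩ := exists_quad_eq (oddForm m F₀) hQ₀ hcardι ε hε0
    have hu : oddForm m F (hm j u₀) ≠ 0 := by
      rw [hbc, hu₀, map_one]
      exact one_ne_zero
    have hv : oddForm m F (hm j v₀) ≠ 0 := by
      rw [hbc, hv₀]
      exact (map_ne_zero j).mpr hε0
    obtain ⟨s, hs⟩ : ∃ s : ↥(isometryGroup F ⇑(oddForm m F)),
        s = reflection (oddForm m F) (hm j u₀) hu * reflection (oddForm m F) (hm j v₀) hv :=
      ⟨_, rfl⟩
    have hrep : IsRep (oddForm m F) s [hm j u₀, hm j v₀] := by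
      rw [hs]
      exact isRep_mul (oddForm m F) (isRep_reflection (oddForm m F) _ hu)
        (isRep_reflection (oddForm m F) _ hv)
    have hsΩ : s ∉ Omega F ⇑(oddForm m F) := by
      show s ∉ commutator ↥(isometryGroup F ⇑(oddForm m F))
      rw [mem_commutator_iff (oddForm m F) h2 hQ hcardι s _ hrep]
      rintro ⟨-, hsq⟩
      simp only [List.map_cons, List.map_nil, List.prod_cons, List.prod_nil, mul_one] at hsq
      rw [hbc, hbc, hu₀, hv₀, map_one, one_mul] at hsq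
      exact not_isSquare_map_of_odd j h2 σ r hσ hrodd (fun a ha => (hι a).mp ha) hι' ε hεns hsq
    have hdet : ((s : Matrix.GeneralLinearGroup (Unit ⊕ (Fin m ⊕ Fin m)) F) :
        Matrix (Unit ⊕ (Fin m ⊕ Fin m)) (Unit ⊕ (Fin m ⊕ Fin m)) F).det = 1 := by
      rw [hrep.2, rprod_det (oddForm m F) _ hrep.1]
      simp
    have hsfix : sGI σ (s : Matrix.GeneralLinearGroup (Unit ⊕ (Fin m ⊕ Fin m)) F) = s := by
      apply Units.ext
      rw [sGI_coe, hrep.2, rprod_cons, rprod_cons, rprod_nil, mul_one,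
        reflectionMatrix_hm j (oddForm m F₀) hbc, reflectionMatrix_hm j (oddForm m F₀) hbc,
        ← Matrix.map_mul, Matrix.map_map]
      ext a b
      rw [Matrix.map_apply, Matrix.map_apply, Function.comp_apply, hι']
    have hconj : conjGO (oddForm m F) (inclO (oddForm m F) s) = conjO (oddForm m F) s := by
      rw [← conjGO_comp_inclO]
      rfl
    refine ⟨conjO (oddForm m F) s, ⟨?_, ?_⟩, ?_⟩
    · have h3 := (cent_fO_iff hQ hfam hm3 h5 (oddForm_w0 m) σ (oddForm_vm m σ) r hr hord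
        (conjGO (oddForm m F) (inclO (oddForm m F) s))).mpr ⟨inclO (oddForm m F) s, hsfix, rfl⟩
      rw [hconj] at h3
      exact h3.2
    · rw [← hconj]
      exact ⟨inclO (oddForm m F) s, rfl⟩
    · intro hK
      exact hsΩ (mem_Omega_of_conjO_mem_inn_det h2 hQ hfam hm3 h5 ⟨m, hn⟩ s hdet hK)
  · intro hr2
    apply hB
    intro β₁ hβ₁
    have hβ₁' : β₁ ∈ (conjGO (oddForm m F)).range ⊓
        Subgroup.centralizer {fO σ (oddForm_vm m σ)} := ⟨hβ₁.2, hβ₁.1⟩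
    obtain ⟨g, hg, rfl⟩ := (cent_fO_iff hQ hfam hm3 h5 (oddForm_w0 m) σ (oddForm_vm m σ) r hr
      hord β₁).mp hβ₁'
    obtain ⟨g₀, hg₀⟩ := exists_glmapI_eq σ j hι
      (g : Matrix.GeneralLinearGroup (Unit ⊕ (Fin m ⊕ Fin m)) F) hg
    have hg₀m : g₀ ∈ Geo.quadSimilarityGroup (F := F₀) ⇑(oddForm m F₀) :=
      (glmap_mem_GO_iff j (oddForm m F₀) hbc (oddForm_w0 m) g₀).mpr (by rw [hg₀]; exact g.2)
    exact conjGO_glmap_mem_inn m j (by omega) h2
      (isSquare_map_of_card_sq j h2 (hcard2 hr2)) g₀ hg₀m g hg₀.symm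

end core

/-- **S2714 in general form** -/
theorem field_aut_centralizer_and_split_odd (p f : ℕ) [Fact p.Prime]
    (hF : Fintype.card F = p ^ f) (hf : 1 ≤ f) (hodd : Odd (Fintype.card F)) (hm3 : 3 ≤ m)
    (x : MulAut (POmega F ⇑(oddForm m F))) (hx : IsFieldAutClassPOmega ⇑(oddForm m F) x)
    {r : ℕ} (hr : r.Prime) (hxr : orderOf x = r) (F₀ : Type*) [Field F₀] [Fintype F₀]
    (hF₀ : Fintype.card F₀ = p ^ (f / r)) :
    r ∣ f ∧
      Nonempty (↥(pgoAut F ⇑(oddForm m F) ⊓ Subgroup.centralizer {x}) ≃*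
        ↥(pgoAut F₀ ⇑(oddForm m F₀))) ∧
      (Odd r → Cfsg.splitClassCount (pgoAut F ⇑(oddForm m F))
        (Inn (POmega F ⇑(oddForm m F))) x = 1) ∧
      (r = 2 → Cfsg.splitClassCount (pgoAut F ⇑(oddForm m F))
        (Inn (POmega F ⇑(oddForm m F))) x = 2) := by
  haveI := charP_of_card' p f hF
  have hpodd : Odd p := by
    rw [hF] at hodd
    by_contra hnp
    rw [Nat.not_odd_iff_even] at hnp
    have h9 : Even (p ^ f) := (Nat.even_pow' (by omega)).mpr hnp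
    exact (Nat.not_odd_iff_even.mpr h9) hodd
  have h2 : (2 : F) ≠ 0 := Cfsg.Agent.Lib.Helper5.two_ne_zero_of_odd_card hodd
  have hQ := oddForm_nondegenerate h2 m
  have hfam := oddForm_hypFamily (F := F) (le_refl m)
  have hfam₀ := oddForm_hypFamily (F := F₀) (le_refl m)
  have hn : Fintype.card (Unit ⊕ (Fin m ⊕ Fin m)) = 2 * m + 1 := by
    simp only [Fintype.card_sum, Fintype.card_fin, Fintype.card_unit]; omega
  have h5 : 5 ≤ Fintype.card (Unit ⊕ (Fin m ⊕ Fin m)) := by rw [hn]; omega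
  have H := Hyp.of_hypFamily hQ hfam hm3 h5
  have hγ : gammaPOmega F ⇑(oddForm m F) = ⊤ := by
    rw [coe_oddForm]
    exact Cfsg.Agent.S2694.result hodd hm3
  haveI hD := conjGO_range_normal p H hγ
  haveI : Nonempty (Unit ⊕ (Fin m ⊕ Fin m)) := ⟨Sum.inl ()⟩
  obtain ⟨α, φ, σ, hσ1, hφ, e1⟩ := hx
  have e1' : α * x * α⁻¹ = fO σ (oddForm_vm m σ) := by
    rw [e1]
    exact eq_fO_of_stdField σ _ hφ
  have hxpow : (fO σ (oddForm_vm m σ)) ^ r = 1 := by
    rw [← e1', conj_pow, ← hxr, pow_orderOf_eq_one, mul_one, mul_inv_cancel]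
  have hordσ : orderOf (σ : RingAut F) = r :=
    orderOf_of_fO p H hγ σ (oddForm_vm m σ) hσ1 hr hxpow
  obtain ⟨hdiv, j, hι⟩ := exists_fixed_embedding p f hF σ r hr.pos hordσ F₀ hF₀
  have h2₀ : (2 : F₀) ≠ 0 := by
    intro h
    apply h2
    have := congrArg j h
    rwa [map_ofNat, map_zero] at this
  have hQ₀ := oddForm_nondegenerate h2₀ m
  have hbc : ∀ v₀, oddForm m F (hm j v₀) = j (oddForm m F₀ v₀) := oddForm_hm j m
  have hcard2 : r = 2 → Fintype.card F = Fintype.card F₀ ^ 2 := by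
    intro hr2
    rw [hF, hF₀, ← pow_mul]
    congr 1
    rw [hr2] at hdiv ⊢
    omega
  have hsplit := split_odd m j p f hF hf hpodd hm3 σ r hr.pos hordσ hι hcard2
  rw [pgoAut_eq, pgoAut_eq]
  refine ⟨hdiv, ?_, ?_, ?_⟩
  · obtain ⟨E⟩ := exists_cent_fO_equiv j (oddForm m F₀) hQ hfam hm3 h5 (oddForm_w0 m) hQ₀
      hfam₀ hm3 (oddForm_w0 m) hbc σ (oddForm_vm m σ) r hr.pos hordσ hι
    exact ⟨(centInfConjEquiv (conjGO (oddForm m F)).range α x).trans
      ((MulEquiv.subgroupCongr (by rw [e1'])).trans E)⟩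
  · intro hrodd
    rw [← splitClassCount_conj _ _ α x, e1']
    exact hsplit.1 hrodd
  · intro hr2
    rw [← splitClassCount_conj _ _ α x, e1']
    exact hsplit.2 hr2

end oddsplit

end Cfsg.Agent.Lib.Helper9.AOF
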