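import Mathlib
import Cfsg.Prelude
import Cfsg.Agent.Lib.Helper5.HermSimple
import Cfsg.Agent.Lib.Helper5.HermCenter
import Cfsg.Agent.Lib.Helper5.HermParabolicDet

/-! Automorphisms of `PSU_n(q)`, part 1: elements of `SU`, the quotient map, Eichler elements. -/

set_option autoImplicit false
open Cfsg

namespace Cfsg.Agent.Lib.Helper9.APSU

open Matrix Cfsg.Agent.Lib.Helper5.Herm Cfsg.Agent.Lib.Helper5.HermBlock
  Cfsg.Agent.Lib.Helper5.HermTv Cfsg.Agent.Lib.Helper5.HermEich Cfsg.Agent.Lib.Helper5.HermSU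
  Cfsg.Agent.Lib.Helper5.HermSimple

attribute [local instance 2000] suSMul suAction suSMulComm

variable {F : Type*} [Field F] [Fintype F] {q : ℕ} (hF : Fintype.card F = q ^ 2) (n : ℕ)

set_option quotPrecheck false
local notation "Vn" => (Fin n → F)
local notation "GUn" => ↥(Cfsg.GU n F q)
local notation "SUn" => ↥(Cfsg.SU n F q)
local notation "PSUn" => Cfsg.PSU n F q
local notation "hh" => hermForm n F q

/-- determinant of an element of `GU` -/
abbrev gdet (g : GUn) : F := ((g : Matrix.GeneralLinearGroup (Fin n) F) : Matrix (Fin n) (Fin n) F).det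

omit [Fintype F] in
theorem gdet_mul (g h : GUn) : gdet n (g * h) = gdet n g * gdet n h := by
  unfold gdet
  rw [← Matrix.det_mul]
  rfl

omit [Fintype F] in
theorem gdet_one : gdet n (1 : GUn) = 1 := by
  unfold gdet
  exact Matrix.det_one

/-- the element of `SU` of an element of `GU` of determinant one -/
noncomputable def ofGU (g : GUn) (hg : gdet n g = 1) : SUn := Classical.choose (exists_toGU_eq n g hg)

omit [Fintype F] in
theorem toGU_ofGU (g : GUn) (hg : gdet n g = 1) : toGU n (ofGU n g hg) = g :=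
  Classical.choose_spec (exists_toGU_eq n g hg)

omit [Fintype F] in
theorem ofGU_smul (g : GUn) (hg : gdet n g = 1) (v : Vn) : ofGU n g hg • v = gact n g v := by
  rw [su_smul_def, toGU_ofGU]

omit [Fintype F] in
theorem su_ext {A B : SUn} (h : ∀ v : Vn, A • v = B • v) : A = B := by
  apply toGU_injective n
  apply ext_gact
  intro v
  exact h v

omit [Fintype F] in
theorem ofGU_toGU (A : SUn) : ofGU n (toGU n A) (det_toGU n A) = A := by
  apply su_ext
  intro v
  rw [ofGU_smul, su_smul_def]

omit [Fintype F] in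
theorem su_smul_smul (A : SUn) (a : F) (v : Vn) : A • (a • v) = a • (A • v) := smul_comm A a v

/-- the quotient map -/
def mkU : SUn →* PSUn := QuotientGroup.mk' (Subgroup.center SUn)

omit [Fintype F] in
theorem mkU_surjective : Function.Surjective (mkU n : SUn → PSUn) := QuotientGroup.mk'_surjective _

include hF in
theorem mem_center_iff (hn : 1 ≤ n) (A : SUn) :
    A ∈ Subgroup.center SUn ↔ ∃ a : F, ∀ v : Vn, A • v = a • v := by
  constructor
  · intro hA
    obtain ⟨l, hl⟩ := Cfsg.Agent.Lib.Helper5.HermCenter.toCenterSU_surjective hF n hn ⟨A, hA⟩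
    refine ⟨((l.1 : Fˣ) : F), fun v => ?_⟩
    have h1 : ((A : Matrix.SpecialLinearGroup (Fin n) F) : Matrix (Fin n) (Fin n) F) =
        Matrix.diagonal (fun _ : Fin n => ((l.1 : Fˣ) : F)) := by
      have := congrArg (fun x : ↥(Subgroup.center SUn) =>
        ((x.1.1 : Matrix.SpecialLinearGroup (Fin n) F) : Matrix (Fin n) (Fin n) F)) hl
      exact this.symm
    show ((A : Matrix.SpecialLinearGroup (Fin n) F) : Matrix (Fin n) (Fin n) F) *ᵥ v = _
    rw [h1]
    funext i
    rw [Matrix.mulVec_diagonal]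
    rfl
  · rintro ⟨a, ha⟩
    have hmat : ((A : Matrix.SpecialLinearGroup (Fin n) F) : Matrix (Fin n) (Fin n) F) = a • 1 := by
      rw [ext_iff_mulVec]
      intro x
      rw [smul_mulVec, one_mulVec]
      exact ha x
    rw [Subgroup.mem_center_iff]
    intro B
    apply Subtype.ext
    apply Subtype.ext
    show ((B : Matrix.SpecialLinearGroup (Fin n) F) : Matrix (Fin n) (Fin n) F) *
        ((A : Matrix.SpecialLinearGroup (Fin n) F) : Matrix (Fin n) (Fin n) F) =
      ((A : Matrix.SpecialLinearGroup (Fin n) F) : Matrix (Fin n) (Fin n) F) *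
        ((B : Matrix.SpecialLinearGroup (Fin n) F) : Matrix (Fin n) (Fin n) F)
    rw [hmat]
    simp

include hF in
theorem mkU_eq_iff (hn : 1 ≤ n) (A B : SUn) :
    mkU n A = mkU n B ↔ ∃ a : F, ∀ v : Vn, B • v = a • (A • v) := by
  unfold mkU
  rw [QuotientGroup.mk'_apply, QuotientGroup.mk'_apply, QuotientGroup.eq, mem_center_iff hF n hn]
  constructor
  · rintro ⟨a, ha⟩
    refine ⟨a, fun v => ?_⟩
    have := ha v
    rw [mul_smul] at this
    have h2 : B • v = A • (A⁻¹ • B • v) := (smul_inv_smul A (B • v)).symm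
    rw [h2, this, su_smul_smul]
  · rintro ⟨a, ha⟩
    refine ⟨a, fun v => ?_⟩
    rw [mul_smul, ha, ← su_smul_smul, inv_smul_smul]

include hF in
theorem mkU_eq_one_iff (hn : 1 ≤ n) (A : SUn) :
    mkU n A = 1 ↔ ∃ a : F, ∀ v : Vn, A • v = a • v := by
  rw [← map_one (mkU n), mkU_eq_iff hF n hn]
  constructor
  · rintro ⟨a, ha⟩
    have h1 : a ≠ 0 := by
      intro h0
      obtain ⟨i⟩ : Nonempty (Fin n) := ⟨⟨0, hn⟩⟩
      have := ha (Pi.single i 1)
      rw [h0, zero_smul, one_smul] at this
      have h2 := congrFun this i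
      simp at h2
    refine ⟨a⁻¹, fun v => ?_⟩
    have := ha v
    rw [one_smul] at this
    calc A • v = a⁻¹ • (a • A • v) := by rw [smul_smul, inv_mul_cancel₀ h1, one_smul]
      _ = a⁻¹ • v := by rw [← this]
  · rintro ⟨a, ha⟩
    have h1 : a ≠ 0 := by
      intro h0
      obtain ⟨i⟩ : Nonempty (Fin n) := ⟨⟨0, hn⟩⟩
      have := ha (A⁻¹ • Pi.single i 1)
      rw [h0, zero_smul, smul_inv_smul] at this
      have h2 := congrFun this i
      simp at h2
    refine ⟨a⁻¹, fun v => ?_⟩
    rw [ha, one_smul, smul_smul, inv_mul_cancel₀ h1, one_smul]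

end Cfsg.Agent.Lib.Helper9.APSU
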