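import Mathlib
import Cfsg.Prelude
import Cfsg.Agent.Lib.Helper9.APSU1

/-! Automorphisms of `PSU_n(q)`, part 2: algebra of Eichler elements. -/

set_option autoImplicit false
open Cfsg

namespace Cfsg.Agent.Lib.Helper9.APSU

open Matrix Cfsg.Agent.Lib.Helper5.Herm Cfsg.Agent.Lib.Helper5.HermBlock
  Cfsg.Agent.Lib.Helper5.HermTv Cfsg.Agent.Lib.Helper5.HermEich Cfsg.Agent.Lib.Helper5.HermSU
  Cfsg.Agent.Lib.Helper5.HermSimple

attribute [local instance 2000] suSMul suAction suSMulComm

variable {F : Type*} [Field F] [Fintype F] {q : ℕ} (hF : Fintype.card F = q ^ 2) (n : ℕ)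

set_option quotPrecheck false
local notation "Vn" => (Fin n → F)
local notation "GUn" => ↥(Cfsg.GU n F q)
local notation "SUn" => ↥(Cfsg.SU n F q)
local notation "PSUn" => Cfsg.PSU n F q
local notation "hh" => hermForm n F q

open scoped Classical in
/-- Eichler element, with value `1` when the hypotheses fail -/
noncomputable def EE (x w : Vn) (b : F) : GUn :=
  if H : EHyp n q x w b then eich hF n x w b H else 1

theorem EE_eq {x w : Vn} {b : F} (H : EHyp n q x w b) : EE hF n x w b = eich hF n x w b H :=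
  dif_pos H

theorem gact_EE {x w : Vn} {b : F} (H : EHyp n q x w b) (v : Vn) :
    gact n (EE hF n x w b) v = v + hh v x • w + (b * hh v x - hh v w) • x := by
  rw [EE_eq hF n H, gact_eich]

theorem gdet_EE (x w : Vn) (b : F) : gdet n (EE hF n x w b) = 1 := by
  unfold EE
  split_ifs with H
  · exact det_eich hF n x w b H
  · exact gdet_one n

theorem EE_congr {x x' w w' : Vn} {b b' : F} (hx : x = x') (hw : w = w') (hb : b = b') :
    EE hF n x w b = EE hF n x' w' b' := by
  subst hx; subst hw; subst hb; rfl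

include hF in
theorem EHyp_add {x w w' : Vn} {b b' : F} (H : EHyp n q x w b) (H' : EHyp n q x w' b') :
    EHyp n q x (w + w') (b + b' - hh w' w) where
  hx := H.hx
  hwx := by rw [hermForm_add_left, H.hwx, H'.hwx, add_zero]
  hb := by
    have h1 : (hh w' w) ^ q = hh w w' := hermForm_conj hF n w' w
    rw [pow_q_sub hF, pow_q_add hF, h1]
    simp only [hermForm_add_left, hermForm_add_right hF]
    linear_combination H.hb + H'.hb

theorem EE_mul {x w w' : Vn} {b b' : F} (H : EHyp n q x w b) (H' : EHyp n q x w' b') :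
    EE hF n x w b * EE hF n x w' b' = EE hF n x (w + w') (b + b' - hh w' w) := by
  apply ext_gact
  intro v
  rw [gact_mul, gact_EE hF n H', gact_EE hF n H, gact_EE hF n (EHyp_add hF n H H')]
  simp only [hermForm_add_left, hermForm_add_right hF, hermForm_smul_left, H.hx, H.hxw hF,
    H'.hwx]
  module

include hF in
theorem EHyp_zero {x : Vn} (hx : hh x x = 0) : EHyp n q x 0 0 where
  hx := hx
  hwx := by rw [hermForm_zero_left]
  hb := by rw [zero_pow (q_ne_zero hF), hermForm_zero_left]; ring

theorem EE_zero {x : Vn} (hx : hh x x = 0) : EE hF n x 0 0 = 1 := by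
  apply ext_gact
  intro v
  rw [gact_EE hF n (EHyp_zero hF n hx), gact_one, hermForm_zero_right hF]
  simp

theorem EE_inv {x w : Vn} {b : F} (H : EHyp n q x w b) :
    (EE hF n x w b)⁻¹ = EE hF n x (-w) (b ^ q) := by
  apply inv_eq_of_mul_eq_one_right
  rw [EE_mul hF n H (H.inv hF n), ← EE_zero hF n H.hx]
  apply EE_congr hF n rfl
  · exact add_neg_cancel w
  · rw [hermForm_neg_left]
    linear_combination H.hb

omit [Fintype F] in
theorem EHyp_conj (g : GUn) {x w : Vn} {b : F} (H : EHyp n q x w b) :
    EHyp n q (gact n g x) (gact n g w) b where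
  hx := by rw [herm_gact]; exact H.hx
  hwx := by rw [herm_gact]; exact H.hwx
  hb := by rw [herm_gact]; exact H.hb

theorem EE_conj (g : GUn) {x w : Vn} {b : F} (H : EHyp n q x w b) :
    g * EE hF n x w b * g⁻¹ = EE hF n (gact n g x) (gact n g w) b := by
  apply ext_gact
  intro v
  rw [gact_mul, gact_mul, gact_EE hF n H, gact_EE hF n (EHyp_conj n g H)]
  simp only [gact_add, gact_smul, gact_gact_inv, herm_gact_inv_left]

include hF in
theorem norm_pow_q (a : F) : (a ^ (q + 1)) ^ q = a ^ (q + 1) := norm_fixed hF a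

include hF in
theorem EHyp_smul {a : F} (ha : a ≠ 0) {x w : Vn} {b : F} (H : EHyp n q (a • x) w b) :
    EHyp n q x (a ^ q • w) (a ^ (q + 1) * b) where
  hx := by
    have := H.hx
    rw [hermForm_smul_left, hermForm_smul_right] at this
    rcases mul_eq_zero.mp this with h | h
    · exact absurd h ha
    · rcases mul_eq_zero.mp h with h' | h'
      · exact absurd h' (pow_ne_zero _ ha)
      · exact h'
  hwx := by
    have := H.hwx
    rw [hermForm_smul_right] at this
    rw [hermForm_smul_left]
    rcases mul_eq_zero.mp this with h | h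
    · exact absurd h (pow_ne_zero _ ha)
    · rw [h, mul_zero]
  hb := by
    rw [mul_pow, norm_pow_q hF, hermForm_smul_left, hermForm_smul_right, pow_q_pow_q hF]
    have := H.hb
    linear_combination a ^ (q + 1) * this

theorem EE_smul {a : F} (ha : a ≠ 0) {x w : Vn} {b : F} (H : EHyp n q (a • x) w b) :
    EE hF n (a • x) w b = EE hF n x (a ^ q • w) (a ^ (q + 1) * b) := by
  apply ext_gact
  intro v
  rw [gact_EE hF n H, gact_EE hF n (EHyp_smul hF n ha H)]
  simp only [hermForm_smul_right, pow_q_pow_q hF]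
  rw [pow_succ]
  module

include hF in
theorem EHyp_shift {x w : Vn} {b : F} (H : EHyp n q x w b) (l : F) :
    EHyp n q x (w + l • x) (b - l + l ^ q) where
  hx := H.hx
  hwx := by rw [hermForm_add_left, hermForm_smul_left, H.hwx, H.hx]; ring
  hb := by
    rw [pow_q_add hF, pow_q_sub hF, pow_q_pow_q hF]
    simp only [hermForm_add_left, hermForm_add_right hF, hermForm_smul_left, hermForm_smul_right,
      H.hx, H.hwx, H.hxw hF]
    linear_combination H.hb

theorem EE_shift {x w : Vn} {b : F} (H : EHyp n q x w b) (l : F) :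
    EE hF n x (w + l • x) (b - l + l ^ q) = EE hF n x w b := by
  apply ext_gact
  intro v
  rw [gact_EE hF n H, gact_EE hF n (EHyp_shift hF n H l)]
  simp only [hermForm_add_right hF, hermForm_smul_right]
  module

/-- an Eichler element has no eigenvalue other than one -/
theorem EE_eigen {x w : Vn} {b : F} (H : EHyp n q x w b) (v : Vn) (hv : v ≠ 0) (a : F)
    (hva : gact n (EE hF n x w b) v = a • v) : a = 1 := by
  by_contra ha
  have ha' : a - 1 ≠ 0 := sub_ne_zero.mpr ha
  rw [gact_EE hF n H] at hva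
  have e1 : (a - 1) • v = hh v x • w + (b * hh v x - hh v w) • x := by
    rw [sub_smul, one_smul, ← hva]; abel
  have e2 : hh v x = 0 := by
    have := congrArg (fun z => hh z x) e1
    simp only [hermForm_add_left, hermForm_smul_left, H.hx, H.hwx] at this
    have h3 : (a - 1) * hh v x = 0 := by linear_combination this
    rcases mul_eq_zero.mp h3 with h | h
    · exact absurd h ha'
    · exact h
  rw [e2] at e1
  have e3 : hh v w = 0 := by
    have := congrArg (fun z => hh z w) e1
    simp only [hermForm_add_left, hermForm_smul_left, H.hxw hF] at this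
    have h3 : (a - 1) * hh v w = 0 := by linear_combination this
    rcases mul_eq_zero.mp h3 with h | h
    · exact absurd h ha'
    · exact h
  rw [e3] at e1
  have e4 : (a - 1) • v = 0 := by rw [e1]; simp
  rcases smul_eq_zero.mp e4 with h | h
  · exact ha' h
  · exact hv h

open scoped Classical in
/-- quasi-transvection, with value `1` when the condition fails -/
noncomputable def TT (x : Vn) (c : F) : GUn := if hc : QCond n q x c then qtv hF n x c hc else 1

theorem TT_eq {x : Vn} {c : F} (hc : QCond n q x c) : TT hF n x c = qtv hF n x c hc := dif_pos hc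

theorem gact_TT {x : Vn} {c : F} (hc : QCond n q x c) (v : Vn) :
    gact n (TT hF n x c) v = v + (c * hh v x) • x := by
  rw [TT_eq hF n hc, gact_qtv]

omit [Fintype F] in
theorem EHyp_of_iso {x : Vn} (hx : hh x x = 0) {c : F} (hc : c ^ q = -c) : EHyp n q x 0 c where
  hx := hx
  hwx := by rw [hermForm_zero_left]
  hb := by rw [hc, hermForm_zero_left]; ring

theorem TT_eq_EE {x : Vn} (hx : hh x x = 0) {c : F} (hc : c ^ q = -c) :
    TT hF n x c = EE hF n x 0 c := by
  apply ext_gact
  intro v
  rw [gact_TT hF n ((qcond_iso n hx c).mpr hc), gact_EE hF n (EHyp_of_iso n hx hc)]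
  simp only [hermForm_zero_right hF, smul_zero, add_zero, sub_zero]

/-- scalar element of `GU` -/
noncomputable def sc (a : F) (ha : a ^ (q + 1) = 1) : GUn :=
  ⟨Matrix.GeneralLinearGroup.mkOfDetNeZero (Matrix.diagonal (fun _ : Fin n => a)) (by
      rw [Cfsg.Agent.Lib.Helper5.HermCenter.det_scalar]
      apply pow_ne_zero
      rintro rfl
      rw [zero_pow (Nat.succ_ne_zero q)] at ha
      exact zero_ne_one ha), by
    rw [Cfsg.Agent.Lib.Helper5.HermCenter.mem_GU_iff' hF]
    apply Cfsg.Agent.Lib.Helper5.HermCenter.isU_diagonal hF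
    intro i
    exact ha⟩

theorem gact_sc (a : F) (ha : a ^ (q + 1) = 1) (v : Vn) : gact n (sc hF n a ha) v = a • v := by
  show Matrix.diagonal (fun _ : Fin n => a) *ᵥ v = a • v
  funext i
  rw [Matrix.mulVec_diagonal]
  rfl

/-- an element of `GU` fixing the isotropic vector `x` and acting trivially on `x^⊥/x` is an
Eichler element -/
theorem exists_EE_of_fix {x f : Vn} (hx : hh x x = 0) (hf : hh f f = 0) (hxf : hh x f = 1)
    (g : GUn) (hgx : gact n g x = x)
    (hg : ∀ v : Vn, hh v x = 0 → ∃ l : F, gact n g v = v + l • x) :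
    ∃ (w : Vn) (b : F), EHyp n q x w b ∧ hh w f = 0 ∧ g = EE hF n x w b := by
  have hfx : hh f x = 1 := herm_fe hF hxf
  obtain ⟨u, hu⟩ : ∃ u : Vn, u = gact n g f := ⟨_, rfl⟩
  have hux : hh u x = 1 := by
    rw [hu]
    have h1 : hh (gact n g f) (gact n g x) = 1 := by rw [herm_gact, hfx]
    rwa [hgx] at h1
  have huu : hh u u = 0 := by rw [hu, herm_gact, hf]
  obtain ⟨b, hb⟩ : ∃ b : F, b = hh u f := ⟨_, rfl⟩
  obtain ⟨w, hw⟩ : ∃ w : Vn, w = u + (-1 : F) • f + (-b) • x := ⟨_, rfl⟩
  have hwx : hh w x = 0 := by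
    rw [hw]
    simp only [hermForm_add_left, hermForm_smul_left, hux, hfx, hx]
    ring
  have hwf : hh w f = 0 := by
    rw [hw]
    simp only [hermForm_add_left, hermForm_smul_left, hf, hxf, ← hb]
    ring
  have hxw : hh x w = 0 := herm_symm_zero hF n hwx
  have hfw : hh f w = 0 := herm_symm_zero hF n hwf
  have huw : u = f + w + b • x := by rw [hw]; module
  have H : EHyp n q x w b := by
    refine ⟨hx, hwx, ?_⟩
    have := huu
    rw [huw] at this
    simp only [hermForm_add_left, hermForm_add_right hF, hermForm_smul_left, hermForm_smul_right,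
      hx, hf, hxf, hfx, hwx, hwf, hxw, hfw] at this
    linear_combination this
  refine ⟨w, b, H, hwf, ?_⟩
  apply ext_gact
  intro v
  rw [gact_EE hF n H]
  obtain ⟨v', hv'⟩ : ∃ v' : Vn, v' = v + (-(hh v x)) • f := ⟨_, rfl⟩
  have hv'x : hh v' x = 0 := by
    rw [hv']
    simp only [hermForm_add_left, hermForm_smul_left, hfx]
    ring
  obtain ⟨l, hl⟩ := hg v' hv'x
  have hxu : hh x u = 1 := by
    rw [← hermForm_conj hF, hux, one_pow]
  have key := herm_gact n g v' f
  rw [hl, ← hu, huw] at key
  simp only [hermForm_add_left, hermForm_add_right hF, hermForm_smul_left, hermForm_smul_right,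
    hx, hxf, hxw, hv'x] at key
  have hl' : l = - hh v' w := by linear_combination key
  have hv'w : hh v' w = hh v w := by
    rw [hv']
    simp only [hermForm_add_left, hermForm_smul_left, hfw]
    ring
  have hv : v = v' + hh v x • f := by rw [hv']; module
  have : gact n g v = gact n g v' + hh v x • gact n g f := by
    nth_rewrite 1 [hv]
    rw [gact_add, gact_smul]
  rw [this, hl, ← hu, huw, hl', hv'w, hv']
  module

/-- Eichler element of `SU` -/
noncomputable def Es (x w : Vn) (b : F) : SUn := ofGU n (EE hF n x w b) (gdet_EE hF n x w b)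

theorem toGU_Es (x w : Vn) (b : F) : toGU n (Es hF n x w b) = EE hF n x w b := toGU_ofGU n _ _

theorem Es_smul {x w : Vn} {b : F} (H : EHyp n q x w b) (v : Vn) :
    Es hF n x w b • v = v + hh v x • w + (b * hh v x - hh v w) • x := by
  unfold Es
  rw [ofGU_smul, gact_EE hF n H]

theorem Es_congr {x x' w w' : Vn} {b b' : F} (hx : x = x') (hw : w = w') (hb : b = b') :
    Es hF n x w b = Es hF n x' w' b' := by
  subst hx; subst hw; subst hb; rfl

theorem Es_mul {x w w' : Vn} {b b' : F} (H : EHyp n q x w b) (H' : EHyp n q x w' b') :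
    Es hF n x w b * Es hF n x w' b' = Es hF n x (w + w') (b + b' - hh w' w) := by
  apply toGU_injective n
  rw [map_mul, toGU_Es, toGU_Es, toGU_Es, EE_mul hF n H H']

theorem Es_zero {x : Vn} (hx : hh x x = 0) : Es hF n x 0 0 = 1 := by
  apply toGU_injective n
  rw [toGU_Es, EE_zero hF n hx, map_one]

theorem Es_inv {x w : Vn} {b : F} (H : EHyp n q x w b) :
    (Es hF n x w b)⁻¹ = Es hF n x (-w) (b ^ q) := by
  apply toGU_injective n
  rw [map_inv, toGU_Es, toGU_Es, EE_inv hF n H]

theorem Es_conj (A : SUn) {x w : Vn} {b : F} (H : EHyp n q x w b) :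
    A * Es hF n x w b * A⁻¹ = Es hF n (A • x) (A • w) b := by
  apply toGU_injective n
  rw [map_mul, map_mul, map_inv, toGU_Es, toGU_Es, EE_conj hF n _ H]
  rfl

theorem Es_smul_centre {a : F} (ha : a ≠ 0) {x w : Vn} {b : F} (H : EHyp n q (a • x) w b) :
    Es hF n (a • x) w b = Es hF n x (a ^ q • w) (a ^ (q + 1) * b) := by
  apply toGU_injective n
  rw [toGU_Es, toGU_Es, EE_smul hF n ha H]

theorem Es_shift {x w : Vn} {b : F} (H : EHyp n q x w b) (l : F) :
    Es hF n x (w + l • x) (b - l + l ^ q) = Es hF n x w b := by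
  apply toGU_injective n
  rw [toGU_Es, toGU_Es, EE_shift hF n H l]

theorem Es_eigen {x w : Vn} {b : F} (H : EHyp n q x w b) (v : Vn) (hv : v ≠ 0) (a : F)
    (hva : Es hF n x w b • v = a • v) : a = 1 := by
  apply EE_eigen hF n H v hv a
  rw [← hva, su_smul_def, toGU_Es]

theorem mem_rootSub_iff {x : Vn} (hx : hh x x = 0) (A : SUn) :
    A ∈ rootSub hF n x hx ↔ ∃ c : F, c ^ q = -c ∧ A = Es hF n x 0 c := by
  rw [mem_rootSub]
  constructor
  · rintro ⟨c, hc, hA⟩
    have hc' := (qcond_iso n hx c).mp hc
    refine ⟨c, hc', ?_⟩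
    apply toGU_injective n
    rw [hA, toGU_Es, ← TT_eq_EE hF n hx hc', TT_eq hF n hc]
  · rintro ⟨c, hc, rfl⟩
    have hc' := (qcond_iso n hx c).mpr hc
    refine ⟨c, hc', ?_⟩
    rw [toGU_Es, ← TT_eq_EE hF n hx hc, TT_eq hF n hc']

end Cfsg.Agent.Lib.Helper9.APSU
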