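import Mathlib
import Cfsg.Prelude
import Cfsg.Agent.Lib.Helper9.APSU2

/-! Automorphisms of `PSU_n(q)`, part 3: the unipotent radical `Q_x` and its centraliser. -/

set_option autoImplicit false
open Cfsg

namespace Cfsg.Agent.Lib.Helper9.APSU

open Matrix Cfsg.Agent.Lib.Helper5.Herm Cfsg.Agent.Lib.Helper5.HermBlock
  Cfsg.Agent.Lib.Helper5.HermTv Cfsg.Agent.Lib.Helper5.HermEich Cfsg.Agent.Lib.Helper5.HermSU
  Cfsg.Agent.Lib.Helper5.HermSimple

attribute [local instance 2000] suSMul suAction suSMulComm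

variable {F : Type*} [Field F] [Fintype F] {q : ℕ} (hF : Fintype.card F = q ^ 2) (n : ℕ)

set_option quotPrecheck false
local notation "Vn" => (Fin n → F)
local notation "GUn" => ↥(Cfsg.GU n F q)
local notation "SUn" => ↥(Cfsg.SU n F q)
local notation "PSUn" => Cfsg.PSU n F q
local notation "hh" => hermForm n F q

/-- the unipotent radical of the stabiliser of the isotropic point of `x` -/
def QS (x : Vn) : Subgroup SUn where
  carrier := {A | A • x = x ∧ ∀ v : Vn, hh v x = 0 → ∃ l : F, A • v = v + l • x}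
  one_mem' := ⟨one_smul _ x, fun v _ => ⟨0, by rw [one_smul, zero_smul, add_zero]⟩⟩
  mul_mem' := by
    rintro A B ⟨hA, hA'⟩ ⟨hB, hB'⟩
    refine ⟨by rw [mul_smul, hB, hA], fun v hv => ?_⟩
    obtain ⟨l, hl⟩ := hB' v hv
    obtain ⟨l', hl'⟩ := hA' v hv
    refine ⟨l' + l, ?_⟩
    rw [mul_smul, hl, smul_add, su_smul_smul, hA, hl']
    module
  inv_mem' := by
    rintro A ⟨hA, hA'⟩
    have hAi : A⁻¹ • x = x := by
      nth_rewrite 1 [← hA]
      rw [inv_smul_smul]
    refine ⟨hAi, fun v hv => ?_⟩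
    have h1 : hh (A⁻¹ • v) x = 0 := by
      rw [← herm_smul n A, smul_inv_smul, hA, hv]
    obtain ⟨l, hl⟩ := hA' _ h1
    rw [smul_inv_smul] at hl
    refine ⟨-l, ?_⟩
    rw [neg_smul]
    nth_rewrite 2 [hl]
    abel

omit [Fintype F] in
theorem mem_QS (x : Vn) (A : SUn) :
    A ∈ QS n x ↔ A • x = x ∧ ∀ v : Vn, hh v x = 0 → ∃ l : F, A • v = v + l • x := Iff.rfl

theorem Es_mem_QS {x w : Vn} {b : F} (H : EHyp n q x w b) : Es hF n x w b ∈ QS n x := by
  refine ⟨?_, fun v hv => ?_⟩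
  · rw [Es_smul hF n H, H.hx, H.hxw hF]
    simp
  · refine ⟨- hh v w, ?_⟩
    rw [Es_smul hF n H, hv]
    simp

theorem exists_Es_of_mem_QS {x f : Vn} (hx : hh x x = 0) (hf : hh f f = 0) (hxf : hh x f = 1)
    (A : SUn) (hA : A ∈ QS n x) :
    ∃ (w : Vn) (b : F), EHyp n q x w b ∧ hh w f = 0 ∧ A = Es hF n x w b := by
  obtain ⟨w, b, H, hwf, hg⟩ := exists_EE_of_fix hF n hx hf hxf (toGU n A) hA.1 hA.2
  refine ⟨w, b, H, hwf, ?_⟩
  apply toGU_injective n
  rw [hg, toGU_Es]

theorem rootSub_le_QS {x : Vn} (hx : hh x x = 0) : rootSub hF n x hx ≤ QS n x := by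
  intro A hA
  obtain ⟨c, hc, rfl⟩ := (mem_rootSub_iff hF n hx A).mp hA
  exact Es_mem_QS hF n (EHyp_of_iso n hx hc)

omit [Fintype F] in
theorem conj_mem_QS (A : SUn) {x : Vn} {u : SUn} (hu : u ∈ QS n x) :
    A * u * A⁻¹ ∈ QS n (A • x) := by
  refine ⟨?_, fun v hv => ?_⟩
  · rw [mul_smul, mul_smul, inv_smul_smul, hu.1]
  · have h1 : hh (A⁻¹ • v) x = 0 := by
      rw [← herm_smul n A, smul_inv_smul, hv]
    obtain ⟨l, hl⟩ := hu.2 _ h1
    refine ⟨l, ?_⟩
    rw [mul_smul, mul_smul, hl, smul_add, smul_inv_smul, su_smul_smul]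

omit [Fintype F] in
theorem QS_smul {a : F} (ha : a ≠ 0) (x : Vn) :
    (QS n (a • x) : Subgroup SUn) = QS n x := by
  ext A
  rw [mem_QS, mem_QS]
  constructor
  · rintro ⟨h1, h2⟩
    refine ⟨?_, fun v hv => ?_⟩
    · rw [su_smul_smul] at h1
      exact smul_right_injective _ ha h1
    · obtain ⟨l, hl⟩ := h2 v (by rw [hermForm_smul_right, hv, mul_zero])
      exact ⟨l * a, by rw [hl, smul_smul]⟩
  · rintro ⟨h1, h2⟩
    refine ⟨by rw [su_smul_smul, h1], fun v hv => ?_⟩
    have hv' : hh v x = 0 := by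
      rw [hermForm_smul_right] at hv
      rcases mul_eq_zero.mp hv with h | h
      · exact absurd h (pow_ne_zero _ ha)
      · exact h
    obtain ⟨l, hl⟩ := h2 v hv'
    refine ⟨l * a⁻¹, ?_⟩
    rw [hl, smul_smul, mul_assoc, inv_mul_cancel₀ ha, mul_one]

include hF in
theorem exists_not_fixed : ∃ l : F, l ^ q ≠ l := by
  by_contra hcon
  push Not at hcon
  apply Cfsg.Agent.Lib.Helper5.HermBridge.sigma_ne_id hF
  ext a
  exact hcon a

include hF in
theorem exists_EHyp {x w : Vn} (hx : hh x x = 0) (hwx : hh w x = 0) : ∃ b : F, EHyp n q x w b := by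
  obtain ⟨b, hb⟩ := exists_trace_eq hF (-(hh w w)) (by rw [pow_q_neg hF, herm_self_fixed hF])
  exact ⟨b, hx, hwx, by linear_combination hb⟩

/-- root elements are central in `Q_x` -/
theorem root_comm_QS {x : Vn} (hx0 : x ≠ 0) (hx : hh x x = 0) {t u : SUn}
    (ht : t ∈ rootSub hF n x hx) (hu : u ∈ QS n x) : t * u = u * t := by
  obtain ⟨f, hf, hxf⟩ := exists_partner hF n x hx0 hx
  obtain ⟨c, hc, rfl⟩ := (mem_rootSub_iff hF n hx t).mp ht
  obtain ⟨w, b, H, -, rfl⟩ := exists_Es_of_mem_QS hF n hx hf hxf u hu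
  rw [Es_mul hF n (EHyp_of_iso n hx hc) H, Es_mul hF n H (EHyp_of_iso n hx hc)]
  apply Es_congr hF n rfl
  · rw [add_comm]
  · rw [hermForm_zero_left, hermForm_zero_right hF]; ring

include hF in
/-- commuting modulo the centre with an element of `Q_x` means commuting -/
theorem commute_of_mkU_QS (hn : 1 ≤ n) {x : Vn} (hx0 : x ≠ 0) (hx : hh x x = 0) (A u : SUn)
    (hu : u ∈ QS n x) (hA : mkU n (A * u) = mkU n (u * A)) : A * u = u * A := by
  obtain ⟨f, hf, hxf⟩ := exists_partner hF n x hx0 hx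
  obtain ⟨w, b, H, -, rfl⟩ := exists_Es_of_mem_QS hF n hx hf hxf u hu
  have h1 : mkU n (A * Es hF n x w b * A⁻¹) = mkU n (Es hF n x w b) := by
    rw [map_mul, hA, map_mul, map_inv, mul_assoc, mul_inv_cancel, mul_one]
  obtain ⟨a, ha⟩ := (mkU_eq_iff hF n hn _ _).mp h1
  have hAx0 : A • x ≠ 0 := (smul_ne_zero_iff_ne A).mpr hx0
  have h2 : (A * Es hF n x w b * A⁻¹) • (A • x) = A • x := by
    rw [mul_smul, mul_smul, inv_smul_smul, (Es_mem_QS hF n H).1]
  have h3 := ha (A • x)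
  rw [h2] at h3
  have ha1 : a = 1 := Es_eigen hF n H _ hAx0 a h3
  have h4 : A * Es hF n x w b * A⁻¹ = Es hF n x w b := by
    apply su_ext
    intro v
    rw [ha v, ha1, one_smul]
  calc A * Es hF n x w b = (A * Es hF n x w b * A⁻¹) * A := by group
    _ = Es hF n x w b * A := by rw [h4]

/-- an element commuting with a nontrivial root element stabilises its centre, with a scalar of
norm one -/
theorem stab_of_commute_root {x : Vn} (hx0 : x ≠ 0) (hx : hh x x = 0) (A : SUn) {c : F}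
    (hc0 : c ≠ 0) (hc : c ^ q = -c) (hA : A * Es hF n x 0 c = Es hF n x 0 c * A) :
    ∃ a : F, a ^ (q + 1) = 1 ∧ A • x = a • x := by
  obtain ⟨f, hf, hxf⟩ := exists_partner hF n x hx0 hx
  have hfx : hh f x = 1 := herm_fe hF hxf
  have H := EHyp_of_iso n hx hc
  have h1 : A * Es hF n x 0 c * A⁻¹ = Es hF n x 0 c := by
    rw [hA]; group
  rw [Es_conj hF n A H] at h1
  have h2 : Es hF n (A • x) (A • (0 : Vn)) c • f = Es hF n x 0 c • f := by rw [h1]
  rw [Es_smul hF n (by
    have := EHyp_conj n (toGU n A) H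
    exact this), Es_smul hF n H, smul_zero, hfx] at h2
  simp only [hermForm_zero_right hF, smul_zero, add_zero, sub_zero, mul_one] at h2
  have h3 : (c * hh f (A • x)) • (A • x) = c • x := add_left_cancel h2
  obtain ⟨m, hm⟩ : ∃ m : F, m = hh f (A • x) := ⟨_, rfl⟩
  rw [← hm] at h3
  have h4 : m • (A • x) = x := by
    have := congrArg (fun z => c⁻¹ • z) h3
    simp only [smul_smul] at this
    rwa [← mul_assoc, inv_mul_cancel₀ hc0, one_mul, one_smul] at this
  have hm0 : m ≠ 0 := by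
    rintro rfl
    rw [zero_smul] at h4
    exact hx0 h4.symm
  have h5 : A • x = m⁻¹ • x := by
    have := congrArg (fun z => m⁻¹ • z) h4
    simp only [smul_smul, inv_mul_cancel₀ hm0, one_smul] at this
    exact this
  refine ⟨m⁻¹, ?_, h5⟩
  have h6 : m = (m⁻¹) ^ q := by
    have h7 : hh f (A • x) = (m⁻¹) ^ q := by rw [h5, hermForm_smul_right, hfx, mul_one]
    exact hm.trans h7
  have : m⁻¹ ^ (q + 1) = m⁻¹ ^ q * m⁻¹ := pow_succ _ _
  rw [this, ← h6, mul_inv_cancel₀ hm0]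

/-- value of an Eichler element at a partner of `x` -/
theorem Es_partner {x w f : Vn} {b : F} (H : EHyp n q x w b) (hfx : hh f x = 1) :
    Es hF n x w b • f = f + w + (b - hh f w) • x := by
  rw [Es_smul hF n H, hfx, one_smul, mul_one]

/-- the centraliser of `Q_x` modulo the centre is the root group -/
theorem cent_QS (hn : 1 ≤ n) {x : Vn} (hx0 : x ≠ 0) (hx : hh x x = 0) (A : SUn)
    (hA : ∀ u ∈ QS n x, mkU n (A * u) = mkU n (u * A)) :
    ∃ t ∈ rootSub hF n x hx, mkU n A = mkU n t := by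
  obtain ⟨f, hf, hxf⟩ := exists_partner hF n x hx0 hx
  have hfx : hh f x = 1 := herm_fe hF hxf
  have hcomm : ∀ u ∈ QS n x, A * u = u * A :=
    fun u hu => commute_of_mkU_QS hF n hn hx0 hx A u hu (hA u hu)
  obtain ⟨c, hc0, hc⟩ := exists_trace_zero hF
  obtain ⟨a, haN, hAx⟩ := stab_of_commute_root hF n hx0 hx A hc0 hc
    (hcomm _ (Es_mem_QS hF n (EHyp_of_iso n hx hc)))
  have ha0 : a ≠ 0 := by
    rintro rfl
    rw [zero_pow (Nat.succ_ne_zero q)] at haN
    exact zero_ne_one haN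
  have haq : a ^ q * a = 1 := by rw [← pow_succ]; exact haN
  have hainv : a⁻¹ ^ (q + 1) = 1 := by rw [inv_pow, haN, inv_one]
  -- action on the perp of x
  have hAw : ∀ w : Vn, hh w x = 0 → ∃ l : F, A • w = a • w + l • x := by
    intro w hwx
    obtain ⟨b, H⟩ := exists_EHyp hF n hx hwx
    have h1 := hcomm _ (Es_mem_QS hF n H)
    have h2 : A * Es hF n x w b * A⁻¹ = Es hF n x w b := by rw [h1]; group
    have H2 : EHyp n q (a • x) (A • w) b := by
      rw [← hAx]; exact EHyp_conj n (toGU n A) H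
    rw [Es_conj hF n A H, hAx, Es_smul_centre hF n ha0 H2] at h2
    have H3 := EHyp_smul hF n ha0 H2
    have h3 : Es hF n x (a ^ q • A • w) (a ^ (q + 1) * b) • f = Es hF n x w b • f := by rw [h2]
    rw [Es_partner hF n H3 hfx, Es_partner hF n H hfx] at h3
    obtain ⟨c1, hc1⟩ : ∃ c1 : F, c1 = a ^ (q + 1) * b - hh f (a ^ q • A • w) := ⟨_, rfl⟩
    obtain ⟨c2, hc2⟩ : ∃ c2 : F, c2 = b - hh f w := ⟨_, rfl⟩
    rw [← hc1, ← hc2] at h3
    obtain ⟨y, hy⟩ : ∃ y : Vn, y = A • w := ⟨_, rfl⟩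
    rw [← hy] at h3 ⊢
    have h4 : a ^ q • y = w + (c2 - c1) • x := by linear_combination (norm := module) h3
    refine ⟨a * (c2 - c1), ?_⟩
    have h5 : y = a • (a ^ q • y) := by
      rw [smul_smul a (a ^ q), mul_comm, haq, one_smul]
    rw [h5, h4, smul_add, smul_smul]
  -- the element a⁻¹ A of GU
  obtain ⟨g, hg⟩ : ∃ g : GUn, g = sc hF n a⁻¹ hainv * toGU n A := ⟨_, rfl⟩
  have hgv : ∀ v : Vn, gact n g v = a⁻¹ • (A • v) := by
    intro v
    rw [hg, gact_mul, gact_sc]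
    rfl
  have hgx : gact n g x = x := by
    rw [hgv, hAx, smul_smul, inv_mul_cancel₀ ha0, one_smul]
  have hgw : ∀ v : Vn, hh v x = 0 → ∃ l : F, gact n g v = v + l • x := by
    intro v hv
    obtain ⟨l, hl⟩ := hAw v hv
    refine ⟨a⁻¹ * l, ?_⟩
    rw [hgv, hl, smul_add, smul_smul, smul_smul, inv_mul_cancel₀ ha0, one_smul]
  obtain ⟨w0, b0, H0, hw0f, hgE⟩ := exists_EE_of_fix hF n hx hf hxf g hgx hgw
  -- g commutes with all Eichler elements
  have hgc : ∀ (w : Vn) (b : F), EHyp n q x w b →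
      g * EE hF n x w b = EE hF n x w b * g := by
    intro w b H
    have h1 := hcomm _ (Es_mem_QS hF n H)
    apply ext_gact
    intro v
    rw [gact_mul, gact_mul, hgv, hgv]
    have h2 : A • gact n (EE hF n x w b) v = (A * Es hF n x w b) • v := by
      rw [mul_smul, su_smul_def n (Es hF n x w b), toGU_Es]
    rw [h2, h1, mul_smul, gact_smul, su_smul_def n (Es hF n x w b), toGU_Es]
  have hsym : ∀ w : Vn, hh w x = 0 → hh w w0 = hh w0 w := by
    intro w hwx
    obtain ⟨b, H⟩ := exists_EHyp hF n hx hwx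
    have h1 := hgc w b H
    rw [hgE, EE_mul hF n H0 H, EE_mul hF n H H0] at h1
    have h2 : gact n (EE hF n x (w0 + w) (b0 + b - hh w w0)) f =
        gact n (EE hF n x (w + w0) (b + b0 - hh w0 w)) f := by rw [h1]
    rw [gact_EE hF n (EHyp_add hF n H0 H), gact_EE hF n (EHyp_add hF n H H0), hfx,
      add_comm w w0] at h2
    have h3 : ((b0 + b - hh w w0) - (b + b0 - hh w0 w)) • x = 0 := by
      linear_combination (norm := module) h2
    rcases smul_eq_zero.mp h3 with h | h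
    · linear_combination -h
    · exact absurd h hx0
  have hperp : ∀ w : Vn, hh w x = 0 → hh w0 w = 0 := by
    intro w hwx
    obtain ⟨l, hl⟩ := exists_not_fixed hF
    have h1 := hsym w hwx
    have h2 := hsym (l • w) (by rw [hermForm_smul_left, hwx, mul_zero])
    rw [hermForm_smul_left, hermForm_smul_right, h1] at h2
    have h3 : (l - l ^ q) * hh w0 w = 0 := by linear_combination h2
    rcases mul_eq_zero.mp h3 with h | h
    · exact absurd (sub_eq_zero.mp h).symm hl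
    · exact h
  have hw0 : w0 = 0 := by
    by_cases hsp : w0 ∈ Submodule.span F {x}
    · obtain ⟨m, hm⟩ := Submodule.mem_span_singleton.mp hsp
      rw [← hm, hermForm_smul_left, hxf, mul_one] at hw0f
      rw [← hm, hw0f, zero_smul]
    · exfalso
      obtain ⟨v, hxv, hw0v⟩ := exists_perp_not_perp hF n w0 x hx0 hsp
      exact hw0v (hperp v (herm_symm_zero hF n hxv))
  have hb0 : b0 ^ q = -b0 := by
    have := H0.hb
    rw [hw0, hermForm_zero_left] at this
    linear_combination this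
  refine ⟨Es hF n x 0 b0, (mem_rootSub_iff hF n hx _).mpr ⟨b0, hb0, rfl⟩, ?_⟩
  apply ((mkU_eq_iff hF n hn _ _).mpr ⟨a, fun v => ?_⟩).symm
  rw [su_smul_def n (Es hF n x 0 b0), toGU_Es, ← hw0, ← hgE, hgv, smul_smul, mul_inv_cancel₀ ha0,
    one_smul]

end Cfsg.Agent.Lib.Helper9.APSU
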