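import Mathlib
import Cfsg.Prelude
import Cfsg.Agent.Lib.Helper9.APSU3
import Cfsg.Agent.Lib.Helper9.APSL5

/-! Automorphisms of `PSU_n(q)`, part 4: automorphisms permute the root groups. -/

set_option autoImplicit false
open Cfsg

namespace Cfsg.Agent.Lib.Helper9.APSU

open Matrix Cfsg.Agent.Lib.Helper5.Herm Cfsg.Agent.Lib.Helper5.HermBlock
  Cfsg.Agent.Lib.Helper5.HermTv Cfsg.Agent.Lib.Helper5.HermEich Cfsg.Agent.Lib.Helper5.HermSU
  Cfsg.Agent.Lib.Helper5.HermSimple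

attribute [local instance 2000] suSMul suAction suSMulComm

variable {F : Type*} [Field F] [Fintype F] {q : ℕ} (hF : Fintype.card F = q ^ 2) (n : ℕ)

set_option quotPrecheck false
local notation "Vn" => (Fin n → F)
local notation "GUn" => ↥(Cfsg.GU n F q)
local notation "SUn" => ↥(Cfsg.SU n F q)
local notation "PSUn" => Cfsg.PSU n F q
local notation "hh" => hermForm n F q

instance finite_SU : Finite SUn := by
  have : Finite (Matrix.SpecialLinearGroup (Fin n) F) := by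
    apply Finite.of_injective (fun A : Matrix.SpecialLinearGroup (Fin n) F =>
      (A : Matrix (Fin n) (Fin n) F))
    intro A B h
    exact Subtype.ext h
  exact Subtype.finite

instance finite_PSU : Finite PSUn := Quotient.finite _

theorem Es_pow {x w : Vn} {b : F} (H : EHyp n q x w b) (m : ℕ) :
    ∃ b' : F, EHyp n q x (m • w) b' ∧ (Es hF n x w b) ^ m = Es hF n x (m • w) b' := by
  induction m with
  | zero =>
    refine ⟨0, ?_, ?_⟩
    · rw [zero_smul]; exact EHyp_zero hF n H.hx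
    · rw [pow_zero, zero_smul, Es_zero hF n H.hx]
  | succ m ih =>
    obtain ⟨b', H', h1⟩ := ih
    refine ⟨b' + b - hh w (m • w), ?_, ?_⟩
    · rw [succ_nsmul]; exact EHyp_add hF n H' H
    · rw [pow_succ, h1, Es_mul hF n H' H]
      apply Es_congr hF n rfl (succ_nsmul w m).symm rfl

theorem Es_root_pow {x : Vn} (hx : hh x x = 0) {c : F} (hc : c ^ q = -c) (m : ℕ) :
    (Es hF n x 0 c) ^ m = Es hF n x 0 (m • c) := by
  induction m with
  | zero => rw [pow_zero, zero_smul, Es_zero hF n hx]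
  | succ m ih =>
    have hmc : (m • c) ^ q = -(m • c) := by
      rw [nsmul_eq_mul, mul_pow, hc]
      have : ((m : F)) ^ q = (m : F) :=
        calc ((m : F)) ^ q = Cfsg.Agent.Lib.Helper5.HermBridge.sigma hF (m : F) := rfl
          _ = (m : F) := map_natCast _ m
      rw [this]; ring
    rw [pow_succ, ih, Es_mul hF n (EHyp_of_iso n hx hmc) (EHyp_of_iso n hx hc)]
    apply Es_congr hF n rfl (add_zero 0)
    rw [hermForm_zero_left, succ_nsmul]; ring

include hF in
theorem isPGroup_QS (p : ℕ) [Fact p.Prime] [CharP F p] {x : Vn} (hx0 : x ≠ 0) (hx : hh x x = 0) :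
    IsPGroup p ↥(QS (q := q) n x) := by
  obtain ⟨f, hf, hxf⟩ := exists_partner hF n x hx0 hx
  rintro ⟨A, hA⟩
  obtain ⟨w, b, H, -, rfl⟩ := exists_Es_of_mem_QS hF n hx hf hxf A hA
  refine ⟨2, ?_⟩
  apply Subtype.ext
  show (Es hF n x w b) ^ (p ^ 2) = 1
  obtain ⟨b', H', h1⟩ := Es_pow hF n H p
  have hp0 : p • w = 0 := by
    rw [← Nat.cast_smul_eq_nsmul F, CharP.cast_eq_zero, zero_smul]
  rw [hp0] at H' h1
  have hb' : b' ^ q = -b' := by
    have := H'.hb
    rw [hermForm_zero_left] at this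
    linear_combination this
  rw [pow_two, pow_mul, h1, Es_root_pow hF n hx hb']
  have : p • b' = 0 := by rw [nsmul_eq_mul, CharP.cast_eq_zero, zero_mul]
  rw [this, Es_zero hF n hx]

/-- the image of the root group in `PSU` -/
def RSb (x : Vn) (hx : hh x x = 0) : Subgroup PSUn := (rootSub hF n x hx).map (mkU n)

/-- the image of `Q_x` in `PSU` -/
def QSb (x : Vn) : Subgroup PSUn := (QS (q := q) n x).map (mkU n)

theorem mem_RSb_iff {x : Vn} (hx : hh x x = 0) (z : PSUn) :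
    z ∈ RSb hF n x hx ↔ ∃ c : F, c ^ q = -c ∧ z = mkU n (Es hF n x 0 c) := by
  unfold RSb
  rw [Subgroup.mem_map]
  constructor
  · rintro ⟨A, hA, rfl⟩
    obtain ⟨c, hc, rfl⟩ := (mem_rootSub_iff hF n hx A).mp hA
    exact ⟨c, hc, rfl⟩
  · rintro ⟨c, hc, rfl⟩
    exact ⟨_, (mem_rootSub_iff hF n hx _).mpr ⟨c, hc, rfl⟩, rfl⟩

theorem mkU_Es_ne_one (hn : 1 ≤ n) {x : Vn} (hx0 : x ≠ 0) (hx : hh x x = 0) {c : F} (hc0 : c ≠ 0)
    (hc : c ^ q = -c) : mkU n (Es hF n x 0 c) ≠ 1 := by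
  intro h
  obtain ⟨a, ha⟩ := (mkU_eq_one_iff hF n hn _).mp h
  have H := EHyp_of_iso n hx hc
  have ha1 : a = 1 := Es_eigen hF n H x hx0 a (ha x)
  obtain ⟨f, hf, hxf⟩ := exists_partner hF n x hx0 hx
  have hfx : hh f x = 1 := herm_fe hF hxf
  have h1 := ha f
  rw [Es_partner hF n H hfx, ha1, one_smul, hermForm_zero_right hF, sub_zero, add_zero] at h1
  have h2 : c • x = 0 := by linear_combination (norm := module) h1
  rcases smul_eq_zero.mp h2 with h3 | h3
  · exact hc0 h3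
  · exact hx0 h3

/-- the root group is the double centraliser of any of its nontrivial elements -/
theorem mem_RSb_iff_double (hn : 1 ≤ n) {x : Vn} (hx0 : x ≠ 0) (hx : hh x x = 0) {c : F}
    (hc0 : c ≠ 0) (hc : c ^ q = -c) (z : PSUn) :
    z ∈ RSb hF n x hx ↔
      ∀ g : PSUn, g * mkU n (Es hF n x 0 c) = mkU n (Es hF n x 0 c) * g → g * z = z * g := by
  have H := EHyp_of_iso n hx hc
  constructor
  · intro hz g hg
    obtain ⟨c', hc', rfl⟩ := (mem_RSb_iff hF n hx z).mp hz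
    obtain ⟨A, rfl⟩ := mkU_surjective n g
    rw [← map_mul, ← map_mul] at hg
    have h1 := commute_of_mkU_QS hF n hn hx0 hx A _ (Es_mem_QS hF n H) hg
    obtain ⟨a, haN, hAx⟩ := stab_of_commute_root hF n hx0 hx A hc0 hc h1
    have ha0 : a ≠ 0 := by
      rintro rfl
      rw [zero_pow (Nat.succ_ne_zero q)] at haN
      exact zero_ne_one haN
    have H' := EHyp_of_iso n hx hc'
    have h2 : A * Es hF n x 0 c' * A⁻¹ = Es hF n x 0 c' := by
      have H2 : EHyp n q (a • x) (A • (0 : Vn)) c' := by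
        rw [← hAx]; exact EHyp_conj n (toGU n A) H'
      rw [Es_conj hF n A H', hAx, Es_smul_centre hF n ha0 H2, haN, one_mul]
      apply Es_congr hF n rfl _ rfl
      rw [smul_zero, smul_zero]
    rw [← map_mul, ← map_mul]
    congr 1
    calc A * Es hF n x 0 c' = (A * Es hF n x 0 c' * A⁻¹) * A := by group
      _ = Es hF n x 0 c' * A := by rw [h2]
  · intro hz
    obtain ⟨A, rfl⟩ := mkU_surjective n z
    have hA : ∀ u ∈ QS n x, mkU n (A * u) = mkU n (u * A) := by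
      intro u hu
      have h1 := hz (mkU n u) (by
        rw [← map_mul, ← map_mul]
        congr 1
        exact (root_comm_QS hF n hx0 hx ((mem_rootSub_iff hF n hx _).mpr ⟨c, hc, rfl⟩) hu).symm)
      rw [map_mul, map_mul]
      exact h1.symm
    obtain ⟨t, ht, hAt⟩ := cent_QS hF n hn hx0 hx A hA
    rw [hAt]
    exact Subgroup.mem_map_of_mem _ ht

theorem Es_smul_zero (A : SUn) (x : Vn) (c : F) :
    Es hF n (A • x) (A • (0 : Vn)) c = Es hF n (A • x) 0 c :=
  Es_congr hF n rfl (smul_zero A) rfl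

/-- some nontrivial root element goes to a root element -/
theorem exists_root_to_root (p : ℕ) [Fact p.Prime] [CharP F p] (hn : 1 ≤ n) (β : MulAut PSUn)
    {x : Vn} (hx0 : x ≠ 0) (hx : hh x x = 0) :
    ∃ c : F, c ≠ 0 ∧ c ^ q = -c ∧ ∃ (y : Vn) (c' : F), y ≠ 0 ∧ hh y y = 0 ∧ c' ^ q = -c' ∧
      β (mkU n (Es hF n x 0 c)) = mkU n (Es hF n y 0 c') := by
  have hR : IsPGroup p ↥(QSb (q := q) n x) := (isPGroup_QS hF n p hx0 hx).map _
  obtain ⟨P, hP⟩ := hR.exists_le_sylow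
  obtain ⟨c₁, hc₁0, hc₁⟩ := exists_trace_zero hF
  have hQP : ∀ u ∈ QS n x, mkU n u ∈ (P : Subgroup PSUn) :=
    fun u hu => hP (Subgroup.mem_map_of_mem _ hu)
  have hx1 : mkU n (Es hF n x 0 c₁) ∈ (P : Subgroup PSUn) :=
    hQP _ (Es_mem_QS hF n (EHyp_of_iso n hx hc₁))
  have : Nontrivial (P : Subgroup PSUn) :=
    ⟨⟨⟨_, hx1⟩, 1, fun h1 => mkU_Es_ne_one hF n hn hx0 hx hc₁0 hc₁ (congrArg Subtype.val h1)⟩⟩
  have hnt : Nontrivial (Subgroup.center (P : Subgroup PSUn)) := P.isPGroup'.center_nontrivial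
  obtain ⟨z, hz⟩ := exists_ne (1 : Subgroup.center (P : Subgroup PSUn))
  have hzP : ((z : (P : Subgroup PSUn)) : PSUn) ∈ (P : Subgroup PSUn) := (z : (P : Subgroup PSUn)).2
  have hzc : ∀ y ∈ (P : Subgroup PSUn), y * ((z : (P : Subgroup PSUn)) : PSUn)
      = ((z : (P : Subgroup PSUn)) : PSUn) * y := by
    intro y hy
    have := Subgroup.mem_center_iff.mp z.2 ⟨y, hy⟩
    exact congrArg Subtype.val this
  have hz1 : ((z : (P : Subgroup PSUn)) : PSUn) ≠ 1 := by
    intro h1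
    apply hz
    apply Subtype.ext
    apply Subtype.ext
    exact h1
  obtain ⟨z0, hz0⟩ : ∃ z0 : PSUn, z0 = ((z : (P : Subgroup PSUn)) : PSUn) := ⟨_, rfl⟩
  rw [← hz0] at hzP hzc hz1
  -- elements of `P` centralising `P` are root elements
  have key : ∀ z1 : PSUn, (∀ y ∈ (P : Subgroup PSUn), y * z1 = z1 * y) →
      ∃ c : F, c ^ q = -c ∧ z1 = mkU n (Es hF n x 0 c) := by
    intro z1 h1
    obtain ⟨A, rfl⟩ := mkU_surjective n z1
    obtain ⟨t, ht, hAt⟩ := cent_QS hF n hn hx0 hx A (fun u hu => by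
      rw [map_mul, map_mul]
      exact (h1 _ (hQP u hu)).symm)
    obtain ⟨c, hc, rfl⟩ := (mem_rootSub_iff hF n hx t).mp ht
    exact ⟨c, hc, hAt⟩
  obtain ⟨c, hc, hzc'⟩ := key z0 hzc
  have hc0 : c ≠ 0 := by
    rintro rfl
    apply hz1
    rw [hzc', Es_zero hF n hx, map_one]
  obtain ⟨h0, hh1, hh2⟩ := Cfsg.Agent.Lib.Helper9.APSL.sylow_center_aut β P z0 hzP hzc
  obtain ⟨c', hc', hz1'⟩ := key _ hh2
  obtain ⟨B, rfl⟩ := mkU_surjective n h0
  refine ⟨c, hc0, hc, B • x, c', (smul_ne_zero_iff_ne B).mpr hx0, by rw [herm_smul]; exact hx,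
    hc', ?_⟩
  rw [← hzc']
  have h3 : β z0 = mkU n B * ((mkU n B)⁻¹ * β z0 * mkU n B) * (mkU n B)⁻¹ := by group
  rw [h3, hz1', ← map_inv, ← map_mul, ← map_mul, Es_conj hF n B (EHyp_of_iso n hx hc'),
    Es_smul_zero]

/-- an automorphism sending a nontrivial root element to a root element sends the root group to
the root group -/
theorem map_RSb (hn : 1 ≤ n) (β : MulAut PSUn) {x y : Vn} (hx0 : x ≠ 0) (hx : hh x x = 0)
    (hy0 : y ≠ 0) (hy : hh y y = 0) {c c' : F} (hc0 : c ≠ 0) (hc : c ^ q = -c)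
    (hc' : c' ^ q = -c') (h : β (mkU n (Es hF n x 0 c)) = mkU n (Es hF n y 0 c')) :
    (RSb hF n x hx).map (β : PSUn ≃* PSUn).toMonoidHom = RSb hF n y hy := by
  have hc'0 : c' ≠ 0 := by
    rintro rfl
    rw [Es_zero hF n hy, map_one] at h
    have : mkU n (Es hF n x 0 c) = 1 := by
      have := congrArg β.symm h
      simpa using this
    exact mkU_Es_ne_one hF n hn hx0 hx hc0 hc this
  ext z
  rw [Subgroup.mem_map_equiv, mem_RSb_iff_double hF n hn hx0 hx hc0 hc,
    mem_RSb_iff_double hF n hn hy0 hy hc'0 hc', ← h]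
  constructor
  · intro h1 g hg
    have h2 := h1 ((β : PSUn ≃* PSUn).symm g) (by
      have := congrArg (β : PSUn ≃* PSUn).symm hg
      rw [map_mul, map_mul] at this
      simpa using this)
    have h3 := congrArg β h2
    rw [map_mul, map_mul] at h3
    simpa using h3
  · intro h1 g hg
    have h2 := h1 (β g) (by rw [← map_mul, ← map_mul, hg])
    have h3 := congrArg (β : PSUn ≃* PSUn).symm h2
    rw [map_mul, map_mul] at h3
    simpa using h3

/-- automorphisms permute the root groups -/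
theorem aut_RSb (p : ℕ) [Fact p.Prime] [CharP F p] (hn : 1 ≤ n) (β : MulAut PSUn)
    {x : Vn} (hx0 : x ≠ 0) (hx : hh x x = 0) :
    ∃ (y : Vn) (hy : hh y y = 0), y ≠ 0 ∧
      (RSb hF n x hx).map (β : PSUn ≃* PSUn).toMonoidHom = RSb hF n y hy := by
  obtain ⟨c, hc0, hc, y, c', hy0, hy, hc', h⟩ := exists_root_to_root hF n p hn β hx0 hx
  exact ⟨y, hy, hy0, map_RSb hF n hn β hx0 hx hy0 hy hc0 hc hc' h⟩

end Cfsg.Agent.Lib.Helper9.APSU
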