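import Mathlib
import Cfsg.Prelude
import Cfsg.Agent.Lib.Helper9.APSU4

/-! Automorphisms of `PSU_n(q)`, part 5: root groups and points, orthogonality, reduction to
automorphisms fixing a hyperbolic pair of root groups. -/

set_option autoImplicit false
open Cfsg

namespace Cfsg.Agent.Lib.Helper9.APSU

open Matrix Cfsg.Agent.Lib.Helper5.Herm Cfsg.Agent.Lib.Helper5.HermBlock
  Cfsg.Agent.Lib.Helper5.HermTv Cfsg.Agent.Lib.Helper5.HermEich Cfsg.Agent.Lib.Helper5.HermSU
  Cfsg.Agent.Lib.Helper5.HermSimple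

attribute [local instance 2000] suSMul suAction suSMulComm

variable {F : Type*} [Field F] [Fintype F] {q : ℕ} (hF : Fintype.card F = q ^ 2) (n : ℕ)

set_option quotPrecheck false
local notation "Vn" => (Fin n → F)
local notation "GUn" => ↥(Cfsg.GU n F q)
local notation "SUn" => ↥(Cfsg.SU n F q)
local notation "PSUn" => Cfsg.PSU n F q
local notation "hh" => hermForm n F q

theorem RSb_conj (A : SUn) {x : Vn} (hx : hh x x = 0) (hAx : hh (A • x) (A • x) = 0) :
    (RSb hF n x hx).map (MulAut.conj (mkU n A) : PSUn ≃* PSUn).toMonoidHom =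
      RSb hF n (A • x) hAx := by
  ext z
  rw [Subgroup.mem_map_equiv, mem_RSb_iff, mem_RSb_iff]
  constructor
  · rintro ⟨c, hc, h⟩
    refine ⟨c, hc, ?_⟩
    have h1 := congrArg (MulAut.conj (mkU n A)) h
    rw [MulEquiv.apply_symm_apply, MulAut.conj_apply, ← map_inv, ← map_mul, ← map_mul,
      Es_conj hF n A (EHyp_of_iso n hx hc), Es_smul_zero] at h1
    exact h1
  · rintro ⟨c, hc, rfl⟩
    refine ⟨c, hc, ?_⟩
    rw [MulEquiv.symm_apply_eq, MulAut.conj_apply, ← map_inv, ← map_mul, ← map_mul,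
      Es_conj hF n A (EHyp_of_iso n hx hc), Es_smul_zero]

theorem RSb_smul {a : F} (ha : a ≠ 0) {x : Vn} (hx : hh x x = 0) (hax : hh (a • x) (a • x) = 0) :
    RSb hF n (a • x) hax = RSb hF n x hx := by
  unfold RSb
  rw [rootSub_smul hF n a ha x hx hax]

theorem RSb_congr {x y : Vn} (h : x = y) (hx : hh x x = 0) (hy : hh y y = 0) :
    RSb hF n x hx = RSb hF n y hy := by
  subst h; rfl

/-- equal root groups have proportional centres -/
theorem RSb_eq_imp (hn : 1 ≤ n) {x y : Vn} (hx0 : x ≠ 0) (hx : hh x x = 0) (hy0 : y ≠ 0)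
    (hy : hh y y = 0) (h : RSb hF n x hx = RSb hF n y hy) : ∃ a : F, a ≠ 0 ∧ y = a • x := by
  obtain ⟨c, hc0, hc⟩ := exists_trace_zero hF
  have h1 : mkU n (Es hF n x 0 c) ∈ RSb hF n y hy := by
    rw [← h]; exact (mem_RSb_iff hF n hx _).mpr ⟨c, hc, rfl⟩
  obtain ⟨c', hc', h2⟩ := (mem_RSb_iff hF n hy _).mp h1
  obtain ⟨a, ha⟩ := (mkU_eq_iff hF n hn _ _).mp h2
  have H := EHyp_of_iso n hx hc
  have H' := EHyp_of_iso n hy hc'
  have hxfix : Es hF n x 0 c • x = x := (Es_mem_QS hF n H).1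
  have h3 := ha x
  rw [hxfix] at h3
  have ha1 : a = 1 := Es_eigen hF n H' x hx0 a h3
  obtain ⟨f, hf, hxf⟩ := exists_partner hF n x hx0 hx
  have hfx : hh f x = 1 := herm_fe hF hxf
  have h4 := ha f
  rw [ha1, one_smul, Es_smul hF n H, Es_smul hF n H', hfx] at h4
  simp only [smul_zero, add_zero, hermForm_zero_right hF, sub_zero, mul_one] at h4
  have h5 : (c' * hh f y) • y = c • x := by linear_combination (norm := module) h4
  have hm0 : c' * hh f y ≠ 0 := by
    intro h0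
    rw [h0, zero_smul] at h5
    rcases smul_eq_zero.mp h5.symm with h6 | h6
    · exact hc0 h6
    · exact hx0 h6
  refine ⟨(c' * hh f y)⁻¹ * c, mul_ne_zero (inv_ne_zero hm0) hc0, ?_⟩
  rw [← smul_smul, ← h5, smul_smul, inv_mul_cancel₀ hm0, one_smul]

/-- root groups with orthogonal centres commute -/
theorem root_comm_of_orth {x y : Vn} (hx : hh x x = 0) (hy : hh y y = 0) (hxy : hh x y = 0)
    {c c' : F} (hc : c ^ q = -c) (hc' : c' ^ q = -c') :
    Es hF n x 0 c * Es hF n y 0 c' = Es hF n y 0 c' * Es hF n x 0 c := by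
  have hyx : hh y x = 0 := herm_symm_zero hF n hxy
  apply su_ext
  intro v
  rw [mul_smul, mul_smul, Es_smul hF n (EHyp_of_iso n hy hc'), Es_smul hF n (EHyp_of_iso n hx hc),
    Es_smul hF n (EHyp_of_iso n hy hc'), Es_smul hF n (EHyp_of_iso n hx hc)]
  simp only [smul_zero, add_zero, hermForm_zero_right hF, sub_zero, hermForm_add_left,
    hermForm_smul_left, hxy, hyx, mul_zero]
  module

/-- root groups commuting modulo the centre have orthogonal centres -/
theorem orth_of_root_comm (hn : 1 ≤ n) {x y : Vn} (hx0 : x ≠ 0) (hx : hh x x = 0)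
    (hy : hh y y = 0)
    (h : ∀ s ∈ RSb hF n x hx, ∀ t ∈ RSb hF n y hy, s * t = t * s) : hh x y = 0 := by
  by_contra hxy
  obtain ⟨c, hc0, hc⟩ := exists_trace_zero hF
  have h1 := h _ ((mem_RSb_iff hF n hx _).mpr ⟨c, hc, rfl⟩) _
    ((mem_RSb_iff hF n hy _).mpr ⟨c, hc, rfl⟩)
  rw [← map_mul, ← map_mul] at h1
  have h2 := commute_of_mkU_QS hF n hn hx0 hx (Es hF n y 0 c) _
    (Es_mem_QS hF n (EHyp_of_iso n hx hc)) h1.symm
  obtain ⟨a, -, ha⟩ := stab_of_commute_root hF n hx0 hx _ hc0 hc h2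
  rw [Es_smul hF n (EHyp_of_iso n hy hc)] at ha
  simp only [smul_zero, add_zero, hermForm_zero_right hF, sub_zero] at ha
  have h3 : (c * hh x y) • y = (a - 1) • x := by linear_combination (norm := module) ha
  have hm0 : c * hh x y ≠ 0 := mul_ne_zero hc0 hxy
  have h4 : y = ((c * hh x y)⁻¹ * (a - 1)) • x := by
    rw [← smul_smul, ← h3, smul_smul, inv_mul_cancel₀ hm0, one_smul]
  apply hxy
  rw [h4, hermForm_smul_right, hx, mul_zero]

omit [Fintype F] in
theorem map_mul_aut (K : Subgroup PSUn) (γ β : MulAut PSUn) :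
    K.map ((γ * β : MulAut PSUn) : PSUn ≃* PSUn).toMonoidHom =
      (K.map (β : PSUn ≃* PSUn).toMonoidHom).map (γ : PSUn ≃* PSUn).toMonoidHom := by
  rw [Subgroup.map_map]
  rfl

/-- after composing with an inner automorphism, an automorphism fixes the two root groups of a
hyperbolic pair -/
theorem exists_conj_fix (p : ℕ) [Fact p.Prime] [CharP F p] (hn : 1 ≤ n) (β : MulAut PSUn)
    {e f : Vn} (he : hh e e = 0) (hf : hh f f = 0) (hef : hh e f = 1) :
    ∃ B : SUn,
      (RSb hF n e he).map ((MulAut.conj (mkU n B) * β : MulAut PSUn) : PSUn ≃* PSUn).toMonoidHom =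
        RSb hF n e he ∧
      (RSb hF n f hf).map ((MulAut.conj (mkU n B) * β : MulAut PSUn) : PSUn ≃* PSUn).toMonoidHom =
        RSb hF n f hf := by
  have he0 : e ≠ 0 := by
    rintro rfl
    rw [hermForm_zero_left] at hef
    exact zero_ne_one hef
  have hf0 : f ≠ 0 := ne_zero_of_herm_ne hF n (by rw [hef]; exact one_ne_zero)
  obtain ⟨e', he', he'0, hβe⟩ := aut_RSb hF n p hn β he0 he
  obtain ⟨f', hf', hf'0, hβf⟩ := aut_RSb hF n p hn β hf0 hf
  have hne : hh e' f' ≠ 0 := by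
    intro h0
    have hefz : hh e f = 0 := orth_of_root_comm hF n hn he0 he hf (fun s hs t ht => by
      have hs' : β s ∈ RSb hF n e' he' := by
        rw [← hβe]; exact Subgroup.mem_map_of_mem _ hs
      have ht' : β t ∈ RSb hF n f' hf' := by
        rw [← hβf]; exact Subgroup.mem_map_of_mem _ ht
      obtain ⟨c, hc, h1⟩ := (mem_RSb_iff hF n he' _).mp hs'
      obtain ⟨c', hc', h2⟩ := (mem_RSb_iff hF n hf' _).mp ht'
      apply β.injective
      rw [map_mul, map_mul, h1, h2, ← map_mul, ← map_mul, root_comm_of_orth hF n he' hf' h0 hc hc'])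
    rw [hef] at hefz
    exact one_ne_zero hefz
  obtain ⟨t1, ht1, a1, ha1, h1⟩ := move hF n e' e he'0 he0 he' he
  obtain ⟨B1, -, hB1⟩ := exists_SU_of_Tv n t1 ht1
  have hB1e : B1 • e' = a1 • e := by rw [hB1, h1]
  have hf''iso : hh (B1 • f') (B1 • f') = 0 := by rw [herm_smul]; exact hf'
  have hef'' : hh e (B1 • f') ≠ 0 := by
    intro h0
    apply hne
    rw [← herm_smul n B1, hB1e, hermForm_smul_left, h0, mul_zero]
  obtain ⟨g, hg, hge, a2, ha2, hgf⟩ := stab_move hF n e (B1 • f') f he hf''iso hf hef''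
    (by rw [hef]; exact one_ne_zero)
  obtain ⟨B2, -, hB2⟩ := exists_SU_of_det n g hg
  have hBe : (B2 * B1) • e' = a1 • e := by
    rw [mul_smul, hB1e, su_smul_smul, hB2, hge]
  have hBf : (B2 * B1) • f' = a2 • f := by
    rw [mul_smul, hB2, hgf]
  refine ⟨B2 * B1, ?_, ?_⟩
  · rw [map_mul_aut, hβe, RSb_conj hF n (B2 * B1) he' (by rw [herm_smul]; exact he'),
      RSb_congr hF n hBe _ (by rw [← hBe, herm_smul]; exact he'), RSb_smul hF n ha1 he]
  · rw [map_mul_aut, hβf, RSb_conj hF n (B2 * B1) hf' (by rw [herm_smul]; exact hf'),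
      RSb_congr hF n hBf _ (by rw [← hBf, herm_smul]; exact hf'), RSb_smul hF n ha2 hf]

end Cfsg.Agent.Lib.Helper9.APSU
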