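import Mathlib
import Cfsg.Prelude
import Cfsg.Agent.Lib.Helper9.APSU5

/-! Automorphisms of `PSU_n(q)`, part 6: the decomposition along a hyperbolic pair, torus elements,
stabilisers of isotropic points. -/

set_option autoImplicit false
open Cfsg

namespace Cfsg.Agent.Lib.Helper9.APSU

open Matrix Cfsg.Agent.Lib.Helper5.Herm Cfsg.Agent.Lib.Helper5.HermBlock
  Cfsg.Agent.Lib.Helper5.HermTv Cfsg.Agent.Lib.Helper5.HermEich Cfsg.Agent.Lib.Helper5.HermSU
  Cfsg.Agent.Lib.Helper5.HermSimple

attribute [local instance 2000] suSMul suAction suSMulComm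

variable {F : Type*} [Field F] [Fintype F] {q : ℕ} (hF : Fintype.card F = q ^ 2) (n : ℕ)

set_option quotPrecheck false
local notation "Vn" => (Fin n → F)
local notation "GUn" => ↥(Cfsg.GU n F q)
local notation "SUn" => ↥(Cfsg.SU n F q)
local notation "PSUn" => Cfsg.PSU n F q
local notation "hh" => hermForm n F q

/-- projection onto the orthogonal complement of the hyperbolic pair `e, f` -/
def prW (q : ℕ) (e f v : Vn) : Vn :=
  v + (-(hermForm n F q v f)) • e + (-(hermForm n F q v e)) • f

section pair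
variable {e f : Fin n → F} (he : hermForm n F q e e = 0) (hf : hermForm n F q f f = 0)
  (hef : hermForm n F q e f = 1)

include hF he hef in
theorem prW_e (v : Vn) : hh (prW n q e f v) e = 0 := by
  have hfe : hh f e = 1 := herm_fe hF hef
  unfold prW
  simp only [hermForm_add_left, hermForm_smul_left, he, hfe]
  ring

include hf hef in
omit [Fintype F] in
theorem prW_f (v : Vn) : hh (prW n q e f v) f = 0 := by
  unfold prW
  simp only [hermForm_add_left, hermForm_smul_left, hf, hef]
  ring

omit [Fintype F] in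
theorem prW_decomp (v : Vn) : v = prW n q e f v + hh v f • e + hh v e • f := by
  unfold prW; module

omit [Fintype F] in
theorem prW_of_mem {w : Vn} (hwe : hh w e = 0) (hwf : hh w f = 0) : prW n q e f w = w := by
  unfold prW
  rw [hwe, hwf]
  simp

omit [Fintype F] in
theorem prW_add (v w : Vn) : prW n q e f (v + w) = prW n q e f v + prW n q e f w := by
  unfold prW
  simp only [hermForm_add_left]
  module

omit [Fintype F] in
theorem prW_smul (a : F) (v : Vn) : prW n q e f (a • v) = a • prW n q e f v := by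
  unfold prW
  simp only [hermForm_smul_left]
  module

include he hef in
omit [Fintype F] in
theorem prW_self_e : prW n q e f e = 0 := by
  unfold prW
  rw [he, hef]
  simp

include hF hf hef in
theorem prW_self_f : prW n q e f f = 0 := by
  have hfe : hh f e = 1 := herm_fe hF hef
  unfold prW
  rw [hf, hfe]
  simp

include hef in
omit [Fintype F] in
theorem e_ne_zero : e ≠ 0 := by
  rintro rfl
  rw [hermForm_zero_left] at hef
  exact zero_ne_one hef

include hF hef in
theorem f_ne_zero : f ≠ 0 := ne_zero_of_herm_ne hF n (by rw [hef]; exact one_ne_zero)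

include hF in
/-- the form on a vector of the complement and an arbitrary vector -/
theorem herm_prW_right {w : Vn} (hwe : hh w e = 0) (hwf : hh w f = 0) (v : Vn) :
    hh w (prW n q e f v) = hh w v := by
  unfold prW
  simp only [hermForm_add_right hF, hermForm_smul_right, hwe, hwf]
  ring

end pair

include hF in
/-- every vector is the centre of a nontrivial quasi-transvection -/
theorem exists_qcond (w : Vn) : ∃ c : F, c ≠ 0 ∧ QCond n q w c := by
  by_cases hd : hh w w = 0
  · obtain ⟨c, hc0, hc⟩ := exists_trace_zero hF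
    exact ⟨c, hc0, (qcond_iso n hd c).mpr hc⟩
  · obtain ⟨z, hz1, hz2⟩ := Cfsg.Agent.Lib.Helper5.HermCenter.exists_norm_one_sq_ne hF
    have hz : z ≠ 1 := by
      rintro rfl
      exact hz2 (one_pow 2)
    have hdq : (hh w w) ^ q = hh w w := herm_self_fixed hF n w
    refine ⟨(z - 1) / hh w w, div_ne_zero (sub_ne_zero.mpr hz) hd, ?_⟩
    unfold QCond
    rw [div_pow, hdq, pow_q_sub hF, one_pow]
    have h1 : z ^ q * z = 1 := by rw [← pow_succ]; exact hz1
    field_simp
    linear_combination h1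

/-- determinant of a quasi-transvection -/
theorem gdet_TT {w : Vn} {c : F} (hc : QCond n q w c) :
    gdet n (TT hF n w c) = 1 + c * hh w w := by
  rw [TT_eq hF n hc]
  show (unitaryTransvection n q w c).det = _
  exact Cfsg.Agent.Lib.Helper5.HermGen.det_tv n w c

/-- the torus element of a hyperbolic pair -/
noncomputable def HH (e f : Vn) (μ ν : F) (he : hh e e = 0) (hf : hh f f = 0) (hef : hh e f = 1)
    (hμν : μ * ν ^ q = 1) : GUn :=
  ⟨Matrix.GeneralLinearGroup.mkOfDetNeZero (Cfsg.Agent.Lib.Helper5.HermParabolicDet.hyp n q e f μ ν)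
      (by
        rw [Cfsg.Agent.Lib.Helper5.HermParabolicDet.det_hyp n q e f μ ν hef (herm_fe hF hef)]
        intro h0
        rcases mul_eq_zero.mp h0 with h | h
        · rw [h, zero_mul] at hμν; exact zero_ne_one hμν
        · rw [h, zero_pow (q_ne_zero hF), mul_zero] at hμν; exact zero_ne_one hμν), by
    intro u v
    exact Cfsg.Agent.Lib.Helper5.HermParabolicDet.hyp_isometry hF n e f μ ν he hf hef hμν u v⟩

theorem gact_HH {e f : Vn} {μ ν : F} (he : hh e e = 0) (hf : hh f f = 0) (hef : hh e f = 1)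
    (hμν : μ * ν ^ q = 1) (v : Vn) :
    gact n (HH hF n e f μ ν he hf hef hμν) v =
      v + ((μ - 1) * hh v f) • e + ((ν - 1) * hh v e) • f :=
  Cfsg.Agent.Lib.Helper5.HermParabolicDet.hyp_mulVec n q e f μ ν hf v

theorem gdet_HH {e f : Vn} {μ ν : F} (he : hh e e = 0) (hf : hh f f = 0) (hef : hh e f = 1)
    (hμν : μ * ν ^ q = 1) : gdet n (HH hF n e f μ ν he hf hef hμν) = μ * ν :=
  Cfsg.Agent.Lib.Helper5.HermParabolicDet.det_hyp n q e f μ ν hef (herm_fe hF hef)

theorem gdet_sc (a : F) (ha : a ^ (q + 1) = 1) : gdet n (sc hF n a ha) = a ^ n :=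
  Cfsg.Agent.Lib.Helper5.HermCenter.det_scalar n a

/-- scalar element of `SU` -/
noncomputable def scS (a : F) (ha : a ^ (q + 1) = 1) (han : a ^ n = 1) : SUn :=
  ofGU n (sc hF n a ha) (by rw [gdet_sc, han])

theorem scS_smul (a : F) (ha : a ^ (q + 1) = 1) (han : a ^ n = 1) (v : Vn) :
    scS hF n a ha han • v = a • v := by
  unfold scS
  rw [ofGU_smul, gact_sc]

theorem mkU_scS (hn : 1 ≤ n) (a : F) (ha : a ^ (q + 1) = 1) (han : a ^ n = 1) :
    mkU n (scS hF n a ha han) = 1 :=
  (mkU_eq_one_iff hF n hn _).mpr ⟨a, fun v => scS_smul hF n a ha han v⟩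

section pair
variable {e f : Fin n → F} (he : hermForm n F q e e = 0) (hf : hermForm n F q f f = 0)
  (hef : hermForm n F q e f = 1)

include hF he hf hef in
/-- an element of the stabiliser of the two points acting on the complement as a given
quasi-transvection -/
theorem exists_lW {w : Vn} (hwe : hh w e = 0) (hwf : hh w f = 0) {c : F} (hc : QCond n q w c) :
    ∃ (l : SUn) (μ ν : F), μ ≠ 0 ∧ μ * ν ^ q = 1 ∧ l • e = μ • e ∧ l • f = ν • f ∧
      ∀ v : Vn, hh v e = 0 → hh v f = 0 → l • v = v + (c * hh v w) • w := by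
  have hfe : hh f e = 1 := herm_fe hF hef
  have hew : hh e w = 0 := herm_symm_zero hF n hwe
  have hfw : hh f w = 0 := herm_symm_zero hF n hwf
  obtain ⟨δ, hδ⟩ : ∃ δ : F, δ = 1 + c * hh w w := ⟨_, rfl⟩
  have hdq : (hh w w) ^ q = hh w w := herm_self_fixed hF n w
  have hN : δ * δ ^ q = 1 := by
    rw [hδ, pow_q_add hF, one_pow, mul_pow, hdq]
    unfold QCond at hc
    linear_combination (hh w w) * hc
  have hδ0 : δ ≠ 0 := by
    rintro h0
    rw [h0, zero_mul] at hN
    exact zero_ne_one hN
  have hN' : δ⁻¹ * δ⁻¹ ^ q = 1 := by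
    rw [inv_pow, ← mul_inv, hN, inv_one]
  obtain ⟨ν, hν0, hν⟩ := Cfsg.Agent.Lib.Helper5.HermParabolicDet.exists_div_pow_eq hF δ⁻¹ hN'
  have hνq0 : ν ^ q ≠ 0 := pow_ne_zero _ hν0
  have hμν : (ν ^ q)⁻¹ * ν ^ q = 1 := inv_mul_cancel₀ hνq0
  have hdet : gdet n (HH hF n e f (ν ^ q)⁻¹ ν he hf hef hμν * TT hF n w c) = 1 := by
    rw [gdet_mul, gdet_HH, gdet_TT hF n hc, ← hδ]
    have : ν = δ⁻¹ * ν ^ q := hν.symm
    field_simp
    field_simp at this
    linear_combination this
  refine ⟨ofGU n _ hdet, (ν ^ q)⁻¹, ν, inv_ne_zero hνq0, hμν, ?_, ?_, ?_⟩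
  · rw [ofGU_smul, gact_mul, gact_TT hF n hc, hew, mul_zero, zero_smul, add_zero, gact_HH, hef, he]
    module
  · rw [ofGU_smul, gact_mul, gact_TT hF n hc, hfw, mul_zero, zero_smul, add_zero, gact_HH, hfe, hf]
    module
  · intro v hve hvf
    rw [ofGU_smul, gact_mul, gact_TT hF n hc, gact_HH]
    simp only [hermForm_add_left, hermForm_smul_left, hve, hvf, hwe, hwf]
    module

end pair

/-- conjugation by an element of `SU` fixes a root group iff the element stabilises its point -/
theorem conj_RSb_iff (hn : 1 ≤ n) {x : Vn} (hx0 : x ≠ 0) (hx : hh x x = 0) (A : SUn) :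
    (RSb hF n x hx).map (MulAut.conj (mkU n A) : PSUn ≃* PSUn).toMonoidHom = RSb hF n x hx ↔
      ∃ a : F, a ≠ 0 ∧ A • x = a • x := by
  have hAx : hh (A • x) (A • x) = 0 := by rw [herm_smul]; exact hx
  rw [RSb_conj hF n A hx hAx]
  constructor
  · intro h
    exact RSb_eq_imp hF n hn hx0 hx ((smul_ne_zero_iff_ne A).mpr hx0) hAx h.symm
  · rintro ⟨a, ha, h⟩
    rw [RSb_congr hF n h hAx (by rw [← h]; exact hAx), RSb_smul hF n ha hx]

end Cfsg.Agent.Lib.Helper9.APSU
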