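import Mathlib
import Cfsg.Prelude
import Cfsg.Agent.Lib.Helper9.APSU6

/-! Automorphisms of `PSU_n(q)`, part 7: `Q_e` is the largest normal `p`-subgroup of the
stabiliser of the point of `e`. -/

set_option autoImplicit false
open Cfsg

namespace Cfsg.Agent.Lib.Helper9.APSU

open Matrix Cfsg.Agent.Lib.Helper5.Herm Cfsg.Agent.Lib.Helper5.HermBlock
  Cfsg.Agent.Lib.Helper5.HermTv Cfsg.Agent.Lib.Helper5.HermEich Cfsg.Agent.Lib.Helper5.HermSU
  Cfsg.Agent.Lib.Helper5.HermSimple

attribute [local instance 2000] suSMul suAction suSMulComm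

variable {F : Type*} [Field F] [Fintype F] {q : ℕ} (hF : Fintype.card F = q ^ 2) (n : ℕ)

set_option quotPrecheck false
local notation "Vn" => (Fin n → F)
local notation "GUn" => ↥(Cfsg.GU n F q)
local notation "SUn" => ↥(Cfsg.SU n F q)
local notation "PSUn" => Cfsg.PSU n F q
local notation "hh" => hermForm n F q

/-- the orthogonal complement of the hyperbolic pair, as a submodule -/
def Wsub (q : ℕ) (e f : Vn) : Submodule F Vn where
  carrier := {w | hermForm n F q w e = 0 ∧ hermForm n F q w f = 0}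
  add_mem' := by
    rintro a b ⟨h1, h2⟩ ⟨h3, h4⟩
    exact ⟨by rw [hermForm_add_left, h1, h3, add_zero], by rw [hermForm_add_left, h2, h4, add_zero]⟩
  zero_mem' := ⟨by rw [hermForm_zero_left], by rw [hermForm_zero_left]⟩
  smul_mem' := by
    rintro c a ⟨h1, h2⟩
    exact ⟨by rw [hermForm_smul_left, h1, mul_zero], by rw [hermForm_smul_left, h2, mul_zero]⟩

omit [Fintype F] in
theorem mem_Wsub {e f w : Vn} : w ∈ Wsub n q e f ↔ hh w e = 0 ∧ hh w f = 0 := Iff.rfl

/-- lifts of the elements of a subgroup of `PSU` that fix the vector `e` -/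
def liftK (K : Subgroup PSUn) (e : Vn) : Subgroup SUn where
  carrier := {A | mkU n A ∈ K ∧ A • e = e}
  one_mem' := ⟨by rw [map_one]; exact K.one_mem, one_smul _ e⟩
  mul_mem' := by
    rintro A B ⟨h1, h2⟩ ⟨h3, h4⟩
    exact ⟨by rw [map_mul]; exact K.mul_mem h1 h3, by rw [mul_smul, h4, h2]⟩
  inv_mem' := by
    rintro A ⟨h1, h2⟩
    refine ⟨by rw [map_inv]; exact K.inv_mem h1, ?_⟩
    nth_rewrite 1 [← h2]
    rw [inv_smul_smul]

section pair
variable {e f : Fin n → F} (he : hermForm n F q e e = 0) (hf : hermForm n F q f f = 0)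
  (hef : hermForm n F q e f = 1)

include hF in
theorem isPGroup_liftK (hn : 1 ≤ n) (p : ℕ) (he0 : e ≠ 0) (K : Subgroup PSUn) (hK : IsPGroup p K) :
    IsPGroup p ↥(liftK n K e) := by
  let φ : ↥(liftK n K e) →* ↥K :=
    { toFun := fun A => ⟨mkU n A.1, A.2.1⟩
      map_one' := Subtype.ext (map_one _)
      map_mul' := fun A B => Subtype.ext (map_mul _ _ _) }
  apply hK.of_injective φ
  intro A B hAB
  have h1 : mkU n A.1 = mkU n B.1 := congrArg Subtype.val hAB
  obtain ⟨a, ha⟩ := (mkU_eq_iff hF n hn _ _).mp h1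
  have h2 := ha e
  rw [A.2.2, B.2.2] at h2
  have ha1 : a = 1 := by
    have h3 : (a - 1) • e = 0 := by rw [sub_smul, one_smul, ← h2, sub_self]
    rcases smul_eq_zero.mp h3 with h | h
    · exact sub_eq_zero.mp h
    · exact absurd h he0
  apply Subtype.ext
  apply su_ext
  intro v
  rw [ha v, ha1, one_smul]

include hF he hf hef in
/-- the action on the complement modulo `e` of a group of elements fixing `e` -/
@[reducible] def actW (H : Subgroup SUn) (hH : ∀ A ∈ H, A • e = e) :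
    MulAction ↥H ↥(Wsub n q e f) where
  smul A w := ⟨prW n q e f (A.1 • w.1), prW_e hF n he hef _, prW_f n hf hef _⟩
  one_smul w := by
    apply Subtype.ext
    show prW n q e f ((1 : SUn) • w.1) = w.1
    rw [one_smul, prW_of_mem n w.2.1 w.2.2]
  mul_smul A B w := by
    apply Subtype.ext
    show prW n q e f ((A.1 * B.1) • w.1) = prW n q e f (A.1 • prW n q e f (B.1 • w.1))
    have h1 : hh (B.1 • w.1) e = 0 := by
      have := herm_smul n B.1 w.1 e
      rw [hH B.1 B.2] at this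
      rw [this, w.2.1]
    have h2 : prW n q e f (B.1 • w.1) = B.1 • w.1 + (-(hh (B.1 • w.1) f)) • e := by
      unfold prW
      rw [h1]
      simp
    rw [h2, smul_add, su_smul_smul, hH A.1 A.2, prW_add, prW_smul, prW_self_e n he hef, smul_zero,
      add_zero, mul_smul]

include hF he hf hef in
theorem exists_W_ne_zero (hn : 3 ≤ n) : ∃ w : Vn, w ≠ 0 ∧ hh w e = 0 ∧ hh w f = 0 := by
  classical
  by_contra hcon
  push Not at hcon
  have h1 : ∀ v : Vn, v ∈ Submodule.span F ((({e, f} : Finset Vn) : Set Vn)) := by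
    intro v
    have h0 : prW n q e f v = 0 := by
      by_contra h
      exact hcon _ h (prW_e hF n he hef v) (prW_f n hf hef v)
    have h2 := prW_decomp n (e := e) (f := f) (q := q) v
    rw [h0, zero_add] at h2
    rw [h2]
    apply Submodule.add_mem
    · apply Submodule.smul_mem
      apply Submodule.subset_span
      simp
    · apply Submodule.smul_mem
      apply Submodule.subset_span
      simp
  have h3 : Submodule.span F ((({e, f} : Finset Vn) : Set Vn)) = ⊤ :=
    Submodule.eq_top_iff'.mpr h1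
  have h4 := finrank_span_finset_le_card (R := F) ({e, f} : Finset Vn)
  rw [Set.finrank, h3, finrank_top, Module.finrank_fin_fun] at h4
  have h5 : ({e, f} : Finset Vn).card ≤ 2 := Finset.card_le_two
  omega

include hF he hf hef in
/-- a normal `p`-subgroup of the stabiliser of the point of `e` lifts into `Q_e` -/
theorem liftK_le_QS (hn : 3 ≤ n) (p : ℕ) [Fact p.Prime] [CharP F p] (K : Subgroup PSUn)
    (hK : IsPGroup p K)
    (hNK : ∀ A : SUn, (∃ a : F, a ≠ 0 ∧ A • e = a • e) →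
      ∀ k ∈ K, mkU n A * k * (mkU n A)⁻¹ ∈ K) :
    liftK n K e ≤ QS n e := by
  have he0 : e ≠ 0 := e_ne_zero n hef
  have hfe : hh f e = 1 := herm_fe hF hef
  obtain ⟨H, hHdef⟩ : ∃ H : Subgroup SUn, H = liftK n K e := ⟨_, rfl⟩
  have hH : ∀ A ∈ H, A • e = e := fun A hA => by rw [hHdef] at hA; exact hA.2
  have hG : IsPGroup p ↥H := by rw [hHdef]; exact isPGroup_liftK hF n (by omega) p he0 K hK
  let _ := actW hF n he hf hef H hH
  have hsm : ∀ (A : ↥H) (w : ↥(Wsub n q e f)), ((A • w : ↥(Wsub n q e f)) : Vn) =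
      prW n q e f (A.1 • w.1) := fun A w => rfl
  obtain ⟨w1, hw10, hw1e, hw1f⟩ := exists_W_ne_zero hF n he hf hef hn
  have hcard : p ∣ Nat.card ↥(Wsub n q e f) := by
    have hp : p • (⟨w1, hw1e, hw1f⟩ : ↥(Wsub n q e f)) = 0 := by
      apply Subtype.ext
      show p • w1 = 0
      rw [← Nat.cast_smul_eq_nsmul F, CharP.cast_eq_zero, zero_smul]
    have h1 : addOrderOf (⟨w1, hw1e, hw1f⟩ : ↥(Wsub n q e f)) = p :=
      addOrderOf_eq_prime hp (fun h => hw10 (congrArg Subtype.val h))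
    rw [← h1]
    exact addOrderOf_dvd_natCard _
  have h0fix : (0 : ↥(Wsub n q e f)) ∈ MulAction.fixedPoints ↥H ↥(Wsub n q e f) := by
    intro A
    apply Subtype.ext
    rw [hsm]
    show prW n q e f (A.1 • (0 : Vn)) = 0
    rw [smul_zero]
    unfold prW
    simp [hermForm_zero_left]
  obtain ⟨b, hb, hb0⟩ := hG.exists_fixed_point_of_prime_dvd_card_of_fixed_point
    ↥(Wsub n q e f) hcard h0fix
  obtain ⟨w0, hw0⟩ : ∃ w0 : Vn, w0 = b.1 := ⟨_, rfl⟩
  have hw0e : hh w0 e = 0 := by rw [hw0]; exact b.2.1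
  have hw0f : hh w0 f = 0 := by rw [hw0]; exact b.2.2
  have hw00 : w0 ≠ 0 := by
    intro h
    apply hb0
    apply Subtype.ext
    rw [← hw0, h]
    rfl
  have hw0fix : ∀ A ∈ H, prW n q e f (A • w0) = w0 := by
    intro A hA
    have := hb ⟨A, hA⟩
    have h2 := congrArg Subtype.val this
    rw [hsm] at h2
    rw [hw0]
    exact h2
  -- the fixed space
  obtain ⟨U, hU⟩ : ∃ U : Set Vn, U = {w | hh w e = 0 ∧ hh w f = 0 ∧
      ∀ A ∈ H, prW n q e f (A • w) = w} := ⟨_, rfl⟩
  have hUmem : ∀ w, w ∈ U ↔ hh w e = 0 ∧ hh w f = 0 ∧ ∀ A ∈ H, prW n q e f (A • w) = w := by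
    intro w; rw [hU]; rfl
  have hUadd : ∀ w w', w ∈ U → w' ∈ U → w + w' ∈ U := by
    intro w w' h1 h2
    rw [hUmem] at h1 h2 ⊢
    refine ⟨by rw [hermForm_add_left, h1.1, h2.1, add_zero],
      by rw [hermForm_add_left, h1.2.1, h2.2.1, add_zero], fun A hA => ?_⟩
    rw [smul_add, prW_add, h1.2.2 A hA, h2.2.2 A hA]
  have hUsmul : ∀ (a : F) w, w ∈ U → a • w ∈ U := by
    intro a w h1
    rw [hUmem] at h1 ⊢
    refine ⟨by rw [hermForm_smul_left, h1.1, mul_zero],
      by rw [hermForm_smul_left, h1.2.1, mul_zero], fun A hA => ?_⟩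
    rw [su_smul_smul, prW_smul, h1.2.2 A hA]
  have hw0U : w0 ∈ U := (hUmem w0).mpr ⟨hw0e, hw0f, hw0fix⟩
  -- elements of the complement not orthogonal to w0 lie in U
  have hU1 : ∀ w : Vn, hh w e = 0 → hh w f = 0 → hh w0 w ≠ 0 → w ∈ U := by
    intro w hwe hwf hw0w
    obtain ⟨c, hc0, hc⟩ := exists_qcond hF n w
    obtain ⟨l, μ, ν, hμ0, hμν, hle, hlf, hlW⟩ := exists_lW hF n he hf hef hwe hwf hc
    have hlw0 : l • w0 = w0 + (c * hh w0 w) • w := hlW w0 hw0e hw0f
    have hlie : l⁻¹ • e = μ⁻¹ • e := by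
      have : l⁻¹ • (μ • e) = e := by rw [← hle, inv_smul_smul]
      rw [su_smul_smul] at this
      calc l⁻¹ • e = μ⁻¹ • (μ • (l⁻¹ • e)) := by rw [smul_smul, inv_mul_cancel₀ hμ0, one_smul]
        _ = μ⁻¹ • e := by rw [this]
    have hlw0U : l • w0 ∈ U := by
      rw [hUmem]
      have h1 : hh (l • w0) e = 0 := by
        rw [hlw0, hermForm_add_left, hermForm_smul_left, hw0e, hwe]; ring
      have h2 : hh (l • w0) f = 0 := by
        rw [hlw0, hermForm_add_left, hermForm_smul_left, hw0f, hwf]; ring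
      refine ⟨h1, h2, fun A hA => ?_⟩
      have hA' : l⁻¹ * A * l ∈ H := by
        rw [hHdef] at hA ⊢
        refine ⟨?_, ?_⟩
        · have := hNK l⁻¹ ⟨μ⁻¹, inv_ne_zero hμ0, hlie⟩ _ hA.1
          rw [map_mul, map_mul]
          rw [map_inv, inv_inv] at this
          rw [map_inv]
          exact this
        · rw [mul_smul, mul_smul, hle, su_smul_smul, hA.2, su_smul_smul, hlie, smul_smul,
            mul_inv_cancel₀ hμ0, one_smul]
      have h3 : A • (l • w0) = l • ((l⁻¹ * A * l) • w0) := by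
        rw [← mul_smul, ← mul_smul]
        congr 1
        group
      have h4 := hw0fix _ hA'
      have h5 : hh ((l⁻¹ * A * l) • w0) e = 0 := by
        have := herm_smul n (l⁻¹ * A * l) w0 e
        rw [hH _ hA'] at this
        rw [this, hw0e]
      have h6 : (l⁻¹ * A * l) • w0 = w0 + hh ((l⁻¹ * A * l) • w0) f • e := by
        have := prW_decomp n (e := e) (f := f) (q := q) ((l⁻¹ * A * l) • w0)
        rw [h4, h5, zero_smul, add_zero] at this
        exact this
      rw [h3, h6, smul_add, su_smul_smul, hle, prW_add, prW_smul, prW_smul, prW_self_e n he hef,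
        smul_zero, smul_zero, add_zero, prW_of_mem n h1 h2]
    have h7 : (c * hh w0 w) • w ∈ U := by
      have : (c * hh w0 w) • w = l • w0 + (-1 : F) • w0 := by rw [hlw0]; module
      rw [this]
      exact hUadd _ _ hlw0U (hUsmul _ _ hw0U)
    have h8 : c * hh w0 w ≠ 0 := mul_ne_zero hc0 hw0w
    have := hUsmul (c * hh w0 w)⁻¹ _ h7
    rwa [smul_smul, inv_mul_cancel₀ h8, one_smul] at this
  -- a vector of the complement not orthogonal to w0
  obtain ⟨w2, hw2e, hw2f, hw2⟩ : ∃ w2 : Vn, hh w2 e = 0 ∧ hh w2 f = 0 ∧ hh w0 w2 ≠ 0 := by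
    obtain ⟨v, hv⟩ : ∃ v, hh w0 v ≠ 0 := by
      by_contra hcon
      push Not at hcon
      apply hw00
      apply (Cfsg.Agent.Lib.Helper5.HermBridge.hermSesq_nondegenerate hF n).2 w0
      intro y
      rw [Cfsg.Agent.Lib.Helper5.HermBridge.hermSesq_apply]
      exact hcon y
    exact ⟨prW n q e f v, prW_e hF n he hef v, prW_f n hf hef v, by
      rw [herm_prW_right hF n hw0e hw0f]; exact hv⟩
  have hU2 : ∀ w : Vn, hh w e = 0 → hh w f = 0 → w ∈ U := by
    intro w hwe hwf
    by_cases h : hh w0 w = 0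
    · have h1 : w + w2 ∈ U := hU1 _ (by rw [hermForm_add_left, hwe, hw2e, add_zero])
        (by rw [hermForm_add_left, hwf, hw2f, add_zero])
        (by rw [hermForm_add_right hF, h, zero_add]; exact hw2)
      have h2 : w2 ∈ U := hU1 _ hw2e hw2f hw2
      have : w = (w + w2) + (-1 : F) • w2 := by module
      rw [this]
      exact hUadd _ _ h1 (hUsmul _ _ h2)
    · exact hU1 w hwe hwf h
  -- conclusion
  rw [← hHdef]
  intro A hA
  refine ⟨hH A hA, fun v hv => ?_⟩
  have h1 := (hUmem _).mp (hU2 (prW n q e f v) (prW_e hF n he hef v) (prW_f n hf hef v))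
  have h2 := h1.2.2 A hA
  have h3 : hh (A • prW n q e f v) e = 0 := by
    have := herm_smul n A (prW n q e f v) e
    rw [hH A hA] at this
    rw [this, prW_e hF n he hef]
  have h4 := prW_decomp n (e := e) (f := f) (q := q) (A • prW n q e f v)
  rw [h2, h3, zero_smul, add_zero] at h4
  have h5 := prW_decomp n (e := e) (f := f) (q := q) v
  rw [hv, zero_smul, add_zero] at h5
  obtain ⟨P, hP⟩ : ∃ P : Vn, P = prW n q e f v := ⟨_, rfl⟩
  obtain ⟨a, ha⟩ : ∃ a : F, a = hh v f := ⟨_, rfl⟩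
  rw [← hP] at h4 h5
  rw [← ha] at h5
  obtain ⟨b, hb'⟩ : ∃ b : F, b = hh (A • P) f := ⟨_, rfl⟩
  rw [← hb'] at h4
  refine ⟨b, ?_⟩
  calc A • v = A • (P + a • e) := congrArg _ h5
    _ = (P + b • e) + a • e := by rw [smul_add, su_smul_smul, hH A hA, h4]
    _ = v + b • e := by rw [h5]; abel

end pair

end Cfsg.Agent.Lib.Helper9.APSU
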