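import Mathlib
import Cfsg.Prelude
import Cfsg.Agent.Lib.Helper9.APSU7

/-! Automorphisms of `PSU_n(q)`, part 8: an automorphism fixing the root group of `e` fixes the
image of `Q_e`. -/

set_option autoImplicit false
open Cfsg

namespace Cfsg.Agent.Lib.Helper9.APSU

open Matrix Cfsg.Agent.Lib.Helper5.Herm Cfsg.Agent.Lib.Helper5.HermBlock
  Cfsg.Agent.Lib.Helper5.HermTv Cfsg.Agent.Lib.Helper5.HermEich Cfsg.Agent.Lib.Helper5.HermSU
  Cfsg.Agent.Lib.Helper5.HermSimple

attribute [local instance 2000] suSMul suAction suSMulComm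

variable {F : Type*} [Field F] [Fintype F] {q : ℕ} (hF : Fintype.card F = q ^ 2) (n : ℕ)

set_option quotPrecheck false
local notation "Vn" => (Fin n → F)
local notation "GUn" => ↥(Cfsg.GU n F q)
local notation "SUn" => ↥(Cfsg.SU n F q)
local notation "PSUn" => Cfsg.PSU n F q
local notation "hh" => hermForm n F q

theorem pow_char_pow_eq_one (p : ℕ) [Fact p.Prime] [CharP F p] (x : F) (m : ℕ)
    (h : x ^ (p ^ m) = 1) : x = 1 := by
  have h1 : (x - 1) ^ (p ^ m) = 0 := by
    rw [sub_pow_char_pow, h, one_pow, sub_self]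
  exact sub_eq_zero.mp (pow_eq_zero_iff (pow_ne_zero _ (Fact.out : p.Prime).ne_zero) |>.mp h1)

omit [Fintype F] in
theorem pow_smul_eigen (A : SUn) {x : Vn} {a : F} (h : A • x = a • x) (k : ℕ) :
    (A ^ k) • x = a ^ k • x := by
  induction k with
  | zero => rw [pow_zero, pow_zero, one_smul, one_smul]
  | succ k ih => rw [pow_succ, mul_smul, h, su_smul_smul, ih, smul_smul, pow_succ, mul_comm]

section pair
variable {e f : Fin n → F} (he : hermForm n F q e e = 0) (hf : hermForm n F q f f = 0)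
  (hef : hermForm n F q e f = 1)

include hF hef in
/-- the scalar of a scalar element of `SU` -/
theorem scalar_props (A : SUn) (z : F) (hA : ∀ v : Vn, A • v = z • v) :
    z ^ n = 1 ∧ z ^ (q + 1) = 1 := by
  constructor
  · have hmat : ((A : Matrix.SpecialLinearGroup (Fin n) F) : Matrix (Fin n) (Fin n) F) =
        z • (1 : Matrix (Fin n) (Fin n) F) := by
      rw [ext_iff_mulVec]
      intro x
      rw [smul_mulVec, one_mulVec]
      exact hA x
    have h1 : ((A : Matrix.SpecialLinearGroup (Fin n) F) : Matrix (Fin n) (Fin n) F).det = 1 :=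
      A.1.2
    rw [hmat, Matrix.det_smul, Matrix.det_one, mul_one, Fintype.card_fin] at h1
    exact h1
  · have h1 := herm_smul n A e f
    rw [hA, hA, hermForm_smul_left, hermForm_smul_right, hef, mul_one] at h1
    rw [pow_succ, mul_comm]
    exact h1

omit [Fintype F] in
theorem conj_aut (β : MulAut PSUn) (g : PSUn) :
    (MulAut.conj (β⁻¹ g) : MulAut PSUn) = β⁻¹ * MulAut.conj g * β := by
  ext z
  simp [MulAut.mul_apply, MulAut.conj_apply]

include hF he hf hef in
theorem map_QSb_le (hn : 3 ≤ n) (p : ℕ) [Fact p.Prime] [CharP F p] (β : MulAut PSUn)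
    (hβ : (RSb hF n e he).map (β : PSUn ≃* PSUn).toMonoidHom = RSb hF n e he) :
    (QSb (q := q) n e).map (β : PSUn ≃* PSUn).toMonoidHom ≤ QSb (q := q) n e := by
  have hn1 : 1 ≤ n := by omega
  have he0 : e ≠ 0 := e_ne_zero n hef
  have hβi : (RSb hF n e he).map ((β⁻¹ : MulAut PSUn) : PSUn ≃* PSUn).toMonoidHom =
      RSb hF n e he := by
    nth_rewrite 1 [← hβ]
    rw [← map_mul_aut, inv_mul_cancel]
    exact Subgroup.map_id _
  obtain ⟨K, hKdef⟩ : ∃ K : Subgroup PSUn,
    K = (QSb (q := q) n e).map (β : PSUn ≃* PSUn).toMonoidHom := ⟨_, rfl⟩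
  have hK : IsPGroup p K := by
    rw [hKdef]
    exact ((isPGroup_QS hF n p he0 he).map _).map _
  -- K normalises the root group
  have hKR : ∀ k ∈ K, (RSb hF n e he).map (MulAut.conj k : PSUn ≃* PSUn).toMonoidHom =
      RSb hF n e he := by
    intro k hk
    rw [hKdef] at hk
    obtain ⟨k0, hk0, rfl⟩ := hk
    obtain ⟨u0, hu0, rfl⟩ := hk0
    have h1 : (RSb hF n e he).map (MulAut.conj (mkU n u0) : PSUn ≃* PSUn).toMonoidHom =
        RSb hF n e he :=
      (conj_RSb_iff hF n hn1 he0 he u0).mpr ⟨1, one_ne_zero, by rw [hu0.1, one_smul]⟩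
    have h2 := conj_aut n β⁻¹ (mkU n u0)
    rw [inv_inv] at h2
    show (RSb hF n e he).map (MulAut.conj (β (mkU n u0)) : PSUn ≃* PSUn).toMonoidHom = _
    rw [h2, map_mul_aut, map_mul_aut, hβi, h1, hβ]
  -- the normaliser of the root group normalises K
  have hNK : ∀ A : SUn, (∃ a : F, a ≠ 0 ∧ A • e = a • e) →
      ∀ k ∈ K, mkU n A * k * (mkU n A)⁻¹ ∈ K := by
    intro A hA k hk
    rw [hKdef] at hk ⊢
    obtain ⟨k0, hk0, rfl⟩ := hk
    obtain ⟨u0, hu0, rfl⟩ := hk0
    have h1 := (conj_RSb_iff hF n hn1 he0 he A).mpr hA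
    obtain ⟨A', hA'⟩ := mkU_surjective n (β⁻¹ (mkU n A))
    have h2 : (RSb hF n e he).map (MulAut.conj (mkU n A') : PSUn ≃* PSUn).toMonoidHom =
        RSb hF n e he := by
      rw [hA', conj_aut, map_mul_aut, map_mul_aut, hβ, h1, hβi]
    obtain ⟨a', ha'0, ha'⟩ := (conj_RSb_iff hF n hn1 he0 he A').mp h2
    have h3 : A' * u0 * A'⁻¹ ∈ QS n e := by
      have := conj_mem_QS n A' hu0
      rw [ha', QS_smul n ha'0] at this
      exact this
    refine ⟨mkU n (A' * u0 * A'⁻¹), Subgroup.mem_map_of_mem _ h3, ?_⟩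
    show β (mkU n (A' * u0 * A'⁻¹)) = mkU n A * β (mkU n u0) * (mkU n A)⁻¹
    rw [map_mul, map_mul, map_inv, map_mul, map_mul, map_inv, hA']
    simp
  have hlift := liftK_le_QS hF n he hf hef hn p K hK hNK
  rw [← hKdef]
  intro k hk
  obtain ⟨A, rfl⟩ := mkU_surjective n k
  obtain ⟨a, ha0, hAe⟩ := (conj_RSb_iff hF n hn1 he0 he A).mp (hKR _ hk)
  obtain ⟨m, hm⟩ := (isPGroup_iff_pow_pow_eq_one.mp hK) ⟨mkU n A, hk⟩
  have hm' : mkU n (A ^ (p ^ m)) = 1 := by
    rw [map_pow]
    exact congrArg Subtype.val hm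
  obtain ⟨z, hz⟩ := (mkU_eq_one_iff hF n hn1 _).mp hm'
  obtain ⟨hzn, hzN⟩ := scalar_props hF n hef _ z hz
  have hza : z = a ^ (p ^ m) := by
    have h1 := hz e
    rw [pow_smul_eigen n A hAe] at h1
    have h2 : (a ^ (p ^ m) - z) • e = 0 := by rw [sub_smul, h1, sub_self]
    rcases smul_eq_zero.mp h2 with h | h
    · exact (sub_eq_zero.mp h).symm
    · exact absurd h he0
  have han : a ^ n = 1 := by
    apply pow_char_pow_eq_one p _ m
    rw [← pow_mul, mul_comm, pow_mul, ← hza, hzn]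
  have haN : a ^ (q + 1) = 1 := by
    apply pow_char_pow_eq_one p _ m
    rw [← pow_mul, mul_comm, pow_mul, ← hza, hzN]
  have hain : a⁻¹ ^ n = 1 := by rw [inv_pow, han, inv_one]
  have haiN : a⁻¹ ^ (q + 1) = 1 := by rw [inv_pow, haN, inv_one]
  have h4 : scS hF n a⁻¹ haiN hain * A ∈ liftK n K e := by
    refine ⟨?_, ?_⟩
    · rw [map_mul, mkU_scS hF n hn1, one_mul]; exact hk
    · rw [mul_smul, hAe, scS_smul, smul_smul, inv_mul_cancel₀ ha0, one_smul]
  have h5 := hlift h4
  have h6 : mkU n A = mkU n (scS hF n a⁻¹ haiN hain * A) := by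
    rw [map_mul, mkU_scS hF n hn1, one_mul]
  rw [h6]
  exact Subgroup.mem_map_of_mem _ h5

include hF he hf hef in
/-- an automorphism fixing the root group of `e` fixes the image of `Q_e` -/
theorem map_QSb_eq (hn : 3 ≤ n) (p : ℕ) [Fact p.Prime] [CharP F p] (β : MulAut PSUn)
    (hβ : (RSb hF n e he).map (β : PSUn ≃* PSUn).toMonoidHom = RSb hF n e he) :
    (QSb (q := q) n e).map (β : PSUn ≃* PSUn).toMonoidHom = QSb (q := q) n e := by
  apply le_antisymm (map_QSb_le hF n he hf hef hn p β hβ)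
  have hβi : (RSb hF n e he).map ((β⁻¹ : MulAut PSUn) : PSUn ≃* PSUn).toMonoidHom =
      RSb hF n e he := by
    nth_rewrite 1 [← hβ]
    rw [← map_mul_aut, inv_mul_cancel]
    exact Subgroup.map_id _
  have h1 := map_QSb_le hF n he hf hef hn p β⁻¹ hβi
  have h2 := Subgroup.map_mono (f := (β : PSUn ≃* PSUn).toMonoidHom) h1
  rw [← map_mul_aut, mul_inv_cancel] at h2
  have h3 : (QSb (q := q) n e).map ((1 : MulAut PSUn) : PSUn ≃* PSUn).toMonoidHom =
      QSb (q := q) n e := Subgroup.map_id _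
  rw [h3] at h2
  exact h2

end pair

end Cfsg.Agent.Lib.Helper9.APSU
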