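import Mathlib
import Cfsg.Prelude
import Cfsg.Agent.Lib.Helper9.APSU8

/-! Automorphisms of `PSU_n(q)`, part 9: geometry of the complement of a hyperbolic pair. -/

set_option autoImplicit false
open Cfsg

namespace Cfsg.Agent.Lib.Helper9.APSU

open Matrix Cfsg.Agent.Lib.Helper5.Herm Cfsg.Agent.Lib.Helper5.HermBlock
  Cfsg.Agent.Lib.Helper5.HermTv Cfsg.Agent.Lib.Helper5.HermEich Cfsg.Agent.Lib.Helper5.HermSU
  Cfsg.Agent.Lib.Helper5.HermSimple

attribute [local instance 2000] suSMul suAction suSMulComm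

variable {F : Type*} [Field F] [Fintype F] {q : ℕ} (hF : Fintype.card F = q ^ 2) (n : ℕ)

set_option quotPrecheck false
local notation "Vn" => (Fin n → F)
local notation "GUn" => ↥(Cfsg.GU n F q)
local notation "SUn" => ↥(Cfsg.SU n F q)
local notation "PSUn" => Cfsg.PSU n F q
local notation "hh" => hermForm n F q

include hF in
/-- the field is spanned over the fixed field by `1` and any non-fixed element -/
theorem exists_decomp_fixed (r : F) (hr : r ^ q ≠ r) (m : F) :
    ∃ a b : F, a ^ q = a ∧ b ^ q = b ∧ m = a + b * r := by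
  have hd : r - r ^ q ≠ 0 := fun h => hr (sub_eq_zero.mp h).symm
  have hdq : (r - r ^ q) ^ q = -(r - r ^ q) := by
    rw [pow_q_sub hF, pow_q_pow_q hF]; ring
  refine ⟨m - (m - m ^ q) / (r - r ^ q) * r, (m - m ^ q) / (r - r ^ q), ?_, ?_, by ring⟩
  · rw [pow_q_sub hF, mul_pow, div_pow, pow_q_sub hF, pow_q_pow_q hF, hdq]
    field_simp
    ring
  · rw [div_pow, pow_q_sub hF, pow_q_pow_q hF, hdq]
    field_simp
    ring

section pair
variable {e f : Fin n → F} (he : hermForm n F q e e = 0) (hf : hermForm n F q f f = 0)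
  (hef : hermForm n F q e f = 1)

include hF he hf hef in
/-- a hyperbolic partner inside the complement -/
theorem exists_partner_W {y : Vn} (hy0 : y ≠ 0) (hy : hh y y = 0) (hye : hh y e = 0)
    (hyf : hh y f = 0) :
    ∃ y' : Vn, hh y' y' = 0 ∧ hh y y' = 1 ∧ hh y' e = 0 ∧ hh y' f = 0 := by
  obtain ⟨f1, -, hyf1⟩ := exists_partner hF n y hy0 hy
  have h1 : hh y (prW n q e f f1) = 1 := by rw [herm_prW_right hF n hye hyf, hyf1]
  obtain ⟨μ, h2, h3⟩ := exists_iso_add hF n y (prW n q e f f1) hy h1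
  refine ⟨_, h2, h3, ?_, ?_⟩
  · rw [hermForm_add_left, hermForm_smul_left, prW_e hF n he hef, hye]; ring
  · rw [hermForm_add_left, hermForm_smul_left, prW_f n hf hef, hyf]; ring

include hF he hf hef in
/-- for `n ≥ 4` the complement contains a nonzero isotropic vector -/
theorem exists_iso_W (hn : 4 ≤ n) :
    ∃ y : Vn, y ≠ 0 ∧ hh y y = 0 ∧ hh y e = 0 ∧ hh y f = 0 := by
  classical
  obtain ⟨w1, hw10, hw1e, hw1f⟩ := exists_W_ne_zero hF n he hf hef (by omega)
  by_cases hd1 : hh w1 w1 = 0
  · exact ⟨w1, hw10, hd1, hw1e, hw1f⟩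
  -- a second vector orthogonal to the first
  obtain ⟨w2, hw20, hw2e, hw2f, hw21⟩ : ∃ w2 : Vn, w2 ≠ 0 ∧ hh w2 e = 0 ∧ hh w2 f = 0 ∧
      hh w2 w1 = 0 := by
    by_contra hcon
    push Not at hcon
    have h1 : ∀ v : Vn, v ∈ Submodule.span F ((({e, f, w1} : Finset Vn) : Set Vn)) := by
      intro v
      obtain ⟨P, hP⟩ : ∃ P : Vn, P = prW n q e f v := ⟨_, rfl⟩
      have hPe : hh P e = 0 := by rw [hP]; exact prW_e hF n he hef v
      have hPf : hh P f = 0 := by rw [hP]; exact prW_f n hf hef v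
      obtain ⟨t, ht⟩ : ∃ t : F, t = hh P w1 / hh w1 w1 := ⟨_, rfl⟩
      obtain ⟨u, hu⟩ : ∃ u : Vn, u = P + (-t) • w1 := ⟨_, rfl⟩
      have hue : hh u e = 0 := by
        rw [hu, hermForm_add_left, hermForm_smul_left, hPe, hw1e]; ring
      have huf : hh u f = 0 := by
        rw [hu, hermForm_add_left, hermForm_smul_left, hPf, hw1f]; ring
      have hu1 : hh u w1 = 0 := by
        rw [hu, hermForm_add_left, hermForm_smul_left, ht]
        field_simp
        ring
      have hu0 : u = 0 := by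
        by_contra h
        exact hcon u h hue huf hu1
      have h2 := prW_decomp n (e := e) (f := f) (q := q) v
      rw [← hP] at h2
      have h3 : P = t • w1 := by
        have : P = u + t • w1 := by
          rw [hu]; module
        rw [this, hu0, zero_add]
      rw [h2, h3]
      apply Submodule.add_mem
      · apply Submodule.add_mem
        · apply Submodule.smul_mem
          apply Submodule.subset_span
          simp
        · apply Submodule.smul_mem
          apply Submodule.subset_span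
          simp
      · apply Submodule.smul_mem
        apply Submodule.subset_span
        simp
    have h3 : Submodule.span F ((({e, f, w1} : Finset Vn) : Set Vn)) = ⊤ :=
      Submodule.eq_top_iff'.mpr h1
    have h4 := finrank_span_finset_le_card (R := F) ({e, f, w1} : Finset Vn)
    rw [Set.finrank, h3, finrank_top, Module.finrank_fin_fun] at h4
    have h5 : ({e, f, w1} : Finset Vn).card ≤ 3 := Finset.card_le_three
    omega
  by_cases hd2 : hh w2 w2 = 0
  · exact ⟨w2, hw20, hd2, hw2e, hw2f⟩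
  have hd1q : (hh w1 w1) ^ q = hh w1 w1 := herm_self_fixed hF n w1
  have hd2q : (hh w2 w2) ^ q = hh w2 w2 := herm_self_fixed hF n w2
  obtain ⟨l, hl⟩ := Cfsg.Agent.Lib.Helper5.HermCount.exists_norm_eq hF (-(hh w1 w1) / hh w2 w2)
    (div_ne_zero (neg_ne_zero.mpr hd1) hd2) (by rw [div_pow, pow_q_neg hF, hd1q, hd2q])
  have hw12 : hh w1 w2 = 0 := herm_symm_zero hF n hw21
  refine ⟨w1 + l • w2, ?_, ?_, ?_, ?_⟩
  · intro h0
    have := congrArg (fun z => hh z w1) h0
    simp only [hermForm_add_left, hermForm_smul_left, hw21, hermForm_zero_left] at this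
    apply hd1
    linear_combination this
  · simp only [hermForm_add_left, hermForm_add_right hF, hermForm_smul_left, hermForm_smul_right,
      hw12, hw21]
    have : l * l ^ q = -(hh w1 w1) / hh w2 w2 := by rw [← hl, pow_succ, mul_comm]
    field_simp at this
    linear_combination this
  · rw [hermForm_add_left, hermForm_smul_left, hw1e, hw2e]; ring
  · rw [hermForm_add_left, hermForm_smul_left, hw1f, hw2f]; ring

include hF he hf hef in
/-- an isotropic vector of the complement not orthogonal to either of two given orthogonal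
isotropic vectors of the complement -/
theorem exists_cross_W {y z : Vn} (hy0 : y ≠ 0) (hz0 : z ≠ 0) (hy : hh y y = 0) (hz : hh z z = 0)
    (hye : hh y e = 0) (hyf : hh y f = 0) (hze : hh z e = 0) (hzf : hh z f = 0)
    (hyz : hh y z = 0) :
    ∃ w : Vn, hh w w = 0 ∧ hh w e = 0 ∧ hh w f = 0 ∧ hh y w ≠ 0 ∧ hh z w ≠ 0 := by
  have hzy : hh z y = 0 := herm_symm_zero hF n hyz
  obtain ⟨f1, -, hf1, hf1e, hf1f⟩ := exists_partner_W hF n he hf hef hy0 hy hye hyf
  obtain ⟨f2, -, hf2, hf2e, hf2f⟩ := exists_partner_W hF n he hf hef hz0 hz hze hzf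
  obtain ⟨v, hve, hvf, hv1, hv2⟩ : ∃ v : Vn, hh v e = 0 ∧ hh v f = 0 ∧ hh y v ≠ 0 ∧
      hh z v ≠ 0 := by
    by_cases h1 : hh z f1 = 0
    · by_cases h2 : hh y f2 = 0
      · refine ⟨f1 + f2, ?_, ?_, ?_, ?_⟩
        · rw [hermForm_add_left, hf1e, hf2e, add_zero]
        · rw [hermForm_add_left, hf1f, hf2f, add_zero]
        · rw [hermForm_add_right hF, hf1, h2, add_zero]; exact one_ne_zero
        · rw [hermForm_add_right hF, hf2, h1, zero_add]; exact one_ne_zero
      · exact ⟨f2, hf2e, hf2f, h2, by rw [hf2]; exact one_ne_zero⟩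
    · exact ⟨f1, hf1e, hf1f, by rw [hf1]; exact one_ne_zero, h1⟩
  obtain ⟨κ, μ, hκ0, hw, hyw⟩ := exists_iso_comb hF n y v hy hv1
  refine ⟨κ • v + μ • y, hw, ?_, ?_, by rw [hyw]; exact one_ne_zero, ?_⟩
  · rw [hermForm_add_left, hermForm_smul_left, hermForm_smul_left, hve, hye]; ring
  · rw [hermForm_add_left, hermForm_smul_left, hermForm_smul_left, hvf, hyf]; ring
  · rw [hermForm_add_right hF, hermForm_smul_right, hermForm_smul_right, hzy, mul_zero, add_zero]
    exact mul_ne_zero (pow_ne_zero _ hκ0) hv2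

include hF he hf hef in
/-- for `n ≥ 4` every vector of the complement is a sum of three isotropic vectors of the
complement -/
theorem W_iso_sum (hn : 4 ≤ n) {w : Vn} (hwe : hh w e = 0) (hwf : hh w f = 0) :
    ∃ s1 s2 s3 : Vn, w = s1 + s2 + s3 ∧
      (hh s1 s1 = 0 ∧ hh s1 e = 0 ∧ hh s1 f = 0) ∧ (hh s2 s2 = 0 ∧ hh s2 e = 0 ∧ hh s2 f = 0) ∧
      (hh s3 s3 = 0 ∧ hh s3 e = 0 ∧ hh s3 f = 0) := by
  obtain ⟨y, hy0, hy, hye, hyf⟩ := exists_iso_W hF n he hf hef hn
  obtain ⟨y', hy', hyy', hy'e, hy'f⟩ := exists_partner_W hF n he hf hef hy0 hy hye hyf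
  obtain ⟨s, a, b, hs, hw⟩ := iso_decomp hF n y y' hy hy' hyy' w
  have hs' : s = w + (-a) • y + (-b) • y' := by rw [hw]; module
  refine ⟨s, a • y, b • y', hw, ⟨hs, ?_, ?_⟩, ⟨?_, ?_, ?_⟩, ⟨?_, ?_, ?_⟩⟩
  · rw [hs']
    simp only [hermForm_add_left, hermForm_smul_left, hwe, hye, hy'e]; ring
  · rw [hs']
    simp only [hermForm_add_left, hermForm_smul_left, hwf, hyf, hy'f]; ring
  · rw [hermForm_smul_left, hermForm_smul_right, hy]; ring
  · rw [hermForm_smul_left, hye, mul_zero]
  · rw [hermForm_smul_left, hyf, mul_zero]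
  · rw [hermForm_smul_left, hermForm_smul_right, hy']; ring
  · rw [hermForm_smul_left, hy'e, mul_zero]
  · rw [hermForm_smul_left, hy'f, mul_zero]

include hF he hf hef in
/-- for `n = 3` the complement is a line -/
theorem W_line (hn : n = 3) {w0 w : Vn} (hw00 : w0 ≠ 0) (hw0e : hh w0 e = 0) (hw0f : hh w0 f = 0)
    (hwe : hh w e = 0) (hwf : hh w f = 0) : ∃ m : F, w = m • w0 := by
  have hfe : hh f e = 1 := herm_fe hF hef
  have hnli : ¬ LinearIndependent F ![e, f, w0, w] := by
    intro hli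
    have := hli.fintype_card_le_finrank
    rw [Fintype.card_fin, Module.finrank_fin_fun] at this
    omega
  rw [Fintype.not_linearIndependent_iff] at hnli
  obtain ⟨g, hg, i, hi⟩ := hnli
  rw [Fin.sum_univ_four] at hg
  have hg' : g 0 • e + g 1 • f + g 2 • w0 + g 3 • w = 0 := hg
  have h0 : g 0 = 0 := by
    have := congrArg (fun z => hh z f) hg'
    simp only [hermForm_add_left, hermForm_smul_left, hef, hf, hw0f, hwf, hermForm_zero_left] at this
    linear_combination this
  have h1 : g 1 = 0 := by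
    have := congrArg (fun z => hh z e) hg'
    simp only [hermForm_add_left, hermForm_smul_left, hfe, he, hw0e, hwe, hermForm_zero_left] at this
    linear_combination this
  rw [h0, h1, zero_smul, zero_smul, zero_add, zero_add] at hg'
  have h3 : g 3 ≠ 0 := by
    intro h3
    rw [h3, zero_smul, add_zero] at hg'
    have h2 : g 2 = 0 := by
      rcases smul_eq_zero.mp hg' with h | h
      · exact h
      · exact absurd h hw00
    fin_cases i
    · exact hi h0
    · exact hi h1
    · exact hi h2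
    · exact hi h3
  refine ⟨-(g 2 / g 3), ?_⟩
  have : g 3 • w = -(g 2 • w0) := eq_neg_of_add_eq_zero_right hg'
  have h4 : w = (g 3)⁻¹ • (g 3 • w) := by rw [smul_smul, inv_mul_cancel₀ h3, one_smul]
  rw [h4, this, smul_neg, smul_smul, neg_smul, div_eq_inv_mul]

end pair

end Cfsg.Agent.Lib.Helper9.APSU
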