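import Mathlib
import Cfsg.Prelude
import Cfsg.Agent.Lib.Helper9.APSU9

/-! Automorphisms of `PSU_n(q)`, part 10: the Levi factor of a hyperbolic pair and its action on the
complement. -/

set_option autoImplicit false
open Cfsg

namespace Cfsg.Agent.Lib.Helper9.APSU

open Matrix Cfsg.Agent.Lib.Helper5.Herm Cfsg.Agent.Lib.Helper5.HermBlock
  Cfsg.Agent.Lib.Helper5.HermTv Cfsg.Agent.Lib.Helper5.HermEich Cfsg.Agent.Lib.Helper5.HermSU
  Cfsg.Agent.Lib.Helper5.HermSimple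

attribute [local instance 2000] suSMul suAction suSMulComm

variable {F : Type*} [Field F] [Fintype F] {q : ℕ} (hF : Fintype.card F = q ^ 2) (n : ℕ)

set_option quotPrecheck false
local notation "Vn" => (Fin n → F)
local notation "GUn" => ↥(Cfsg.GU n F q)
local notation "SUn" => ↥(Cfsg.SU n F q)
local notation "PSUn" => Cfsg.PSU n F q
local notation "hh" => hermForm n F q

/-- the stabiliser in `SU` of the two points of a hyperbolic pair -/
def LS (q : ℕ) (e f : Vn) : Subgroup ↥(Cfsg.SU n F q) where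
  carrier := {l | (∃ a : F, a ≠ 0 ∧ l • e = a • e) ∧ (∃ a : F, a ≠ 0 ∧ l • f = a • f)}
  one_mem' := ⟨⟨1, one_ne_zero, by rw [one_smul, one_smul]⟩, ⟨1, one_ne_zero, by rw [one_smul, one_smul]⟩⟩
  mul_mem' := by
    rintro l l' ⟨⟨a, ha0, ha⟩, ⟨b, hb0, hb⟩⟩ ⟨⟨a', ha'0, ha'⟩, ⟨b', hb'0, hb'⟩⟩
    refine ⟨⟨a' * a, mul_ne_zero ha'0 ha0, ?_⟩, ⟨b' * b, mul_ne_zero hb'0 hb0, ?_⟩⟩
    · rw [mul_smul, ha', su_smul_smul, ha, smul_smul]
    · rw [mul_smul, hb', su_smul_smul, hb, smul_smul]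
  inv_mem' := by
    rintro l ⟨⟨a, ha0, ha⟩, ⟨b, hb0, hb⟩⟩
    refine ⟨⟨a⁻¹, inv_ne_zero ha0, ?_⟩, ⟨b⁻¹, inv_ne_zero hb0, ?_⟩⟩
    · have h1 : l⁻¹ • (a • e) = e := by rw [← ha, inv_smul_smul]
      rw [su_smul_smul] at h1
      calc l⁻¹ • e = a⁻¹ • (a • (l⁻¹ • e)) := by rw [smul_smul, inv_mul_cancel₀ ha0, one_smul]
        _ = a⁻¹ • e := by rw [h1]
    · have h1 : l⁻¹ • (b • f) = f := by rw [← hb, inv_smul_smul]
      rw [su_smul_smul] at h1
      calc l⁻¹ • f = b⁻¹ • (b • (l⁻¹ • f)) := by rw [smul_smul, inv_mul_cancel₀ hb0, one_smul]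
        _ = b⁻¹ • f := by rw [h1]

/-- the action of the Levi factor on the complement, read off from conjugation on `Q_e / R_e` -/
def Lam (q : ℕ) (e f : Vn) (l : SUn) (w : Vn) : Vn := (hermForm n F q (l • e) f) ^ q • (l • w)

section pair
variable {e f : Fin n → F} (he : hermForm n F q e e = 0) (hf : hermForm n F q f f = 0)
  (hef : hermForm n F q e f = 1)

include hF hef in
theorem LS_norm {l : SUn} {a b : F} (ha : l • e = a • e) (hb : l • f = b • f) : a * b ^ q = 1 := by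
  have := herm_smul n l e f
  rw [ha, hb, hermForm_smul_left, hermForm_smul_right, hef, mul_one] at this
  exact this

include hF hef in
theorem Lam_eq {l : SUn} {a : F} (ha : l • e = a • e) (w : Vn) :
    Lam n q e f l w = a ^ q • (l • w) := by
  unfold Lam
  rw [ha, hermForm_smul_left, hef, mul_one]

include hF hef in
/-- the Levi factor preserves the complement -/
theorem LS_mem_W {l : SUn} (hl : l ∈ LS n q e f) {w : Vn} (hw : w ∈ Wsub n q e f) :
    l • w ∈ Wsub n q e f := by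
  obtain ⟨⟨a, ha0, ha⟩, ⟨b, hb0, hb⟩⟩ := hl
  constructor
  · have h1 := herm_smul n l w e
    rw [ha, hermForm_smul_right, hw.1] at h1
    rcases mul_eq_zero.mp h1 with h | h
    · exact absurd h (pow_ne_zero _ ha0)
    · exact h
  · have h1 := herm_smul n l w f
    rw [hb, hermForm_smul_right, hw.2] at h1
    rcases mul_eq_zero.mp h1 with h | h
    · exact absurd h (pow_ne_zero _ hb0)
    · exact h

include hF hef in
theorem Lam_mem_W {l : SUn} (hl : l ∈ LS n q e f) {w : Vn} (hw : w ∈ Wsub n q e f) :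
    Lam n q e f l w ∈ Wsub n q e f :=
  (Wsub n q e f).smul_mem _ (LS_mem_W hF n hef hl hw)

include hF he hf hef in
/-- scalars of the fixed field come from the Levi factor -/
theorem exists_L_fixed {a : F} (ha0 : a ≠ 0) (ha : a ^ q = a) :
    ∃ l ∈ LS n q e f, ∀ w ∈ Wsub n q e f, Lam n q e f l w = a • w := by
  have hfe : hh f e = 1 := herm_fe hF hef
  have hμν : a * a⁻¹ ^ q = 1 := by rw [inv_pow, ha, mul_inv_cancel₀ ha0]
  have hdet : gdet n (HH hF n e f a a⁻¹ he hf hef hμν) = 1 := by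
    rw [gdet_HH, mul_inv_cancel₀ ha0]
  have h1 : ofGU n _ hdet • e = a • e := by
    rw [ofGU_smul, gact_HH, hef, he]; module
  have h2 : ofGU n _ hdet • f = a⁻¹ • f := by
    rw [ofGU_smul, gact_HH, hfe, hf]; module
  refine ⟨ofGU n _ hdet, ⟨⟨a, ha0, h1⟩, ⟨a⁻¹, inv_ne_zero ha0, h2⟩⟩, fun w hw => ?_⟩
  rw [Lam_eq hF n hef h1, ha, ofGU_smul, gact_HH, hw.1, hw.2]
  module

include hF he hf hef in
/-- root elements of the complement lie in the Levi factor -/
theorem exists_L_root {y : Vn} (hy : hh y y = 0) (hy' : y ∈ Wsub n q e f) {c : F}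
    (hc : c ^ q = -c) :
    ∃ l ∈ LS n q e f, (l • e = e) ∧ ∀ w : Vn, Lam n q e f l w = w + (c * hh w y) • y := by
  have hey : hh e y = 0 := herm_symm_zero hF n hy'.1
  have hfy : hh f y = 0 := herm_symm_zero hF n hy'.2
  have H := EHyp_of_iso n hy hc
  have h1 : Es hF n y 0 c • e = e := by
    rw [Es_smul hF n H, hey, hermForm_zero_right hF]; simp
  have h2 : Es hF n y 0 c • f = f := by
    rw [Es_smul hF n H, hfy, hermForm_zero_right hF]; simp
  refine ⟨Es hF n y 0 c, ⟨⟨1, one_ne_zero, by rw [h1, one_smul]⟩,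
    ⟨1, one_ne_zero, by rw [h2, one_smul]⟩⟩, h1, fun w => ?_⟩
  rw [Lam_eq hF n hef (a := 1) (by rw [h1, one_smul]), one_pow, one_smul, Es_smul hF n H]
  simp [hermForm_zero_right hF]

include hF he hf hef in
/-- torus elements of a hyperbolic pair of the complement -/
theorem exists_L_torus {y y' : Vn} (hy : hh y y = 0) (hy' : hh y' y' = 0) (hyy' : hh y y' = 1)
    (hyW : y ∈ Wsub n q e f) (hy'W : y' ∈ Wsub n q e f) {s : F} (hs : s ≠ 0) :
    ∃ l ∈ LS n q e f, ∀ m : F, Lam n q e f l (m • y) = (s / s ^ q * m) • y := by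
  have hfe : hh f e = 1 := herm_fe hF hef
  have hy'y : hh y' y = 1 := herm_fe hF hyy'
  have hey : hh e y = 0 := herm_symm_zero hF n hyW.1
  have hfy : hh f y = 0 := herm_symm_zero hF n hyW.2
  have hey' : hh e y' = 0 := herm_symm_zero hF n hy'W.1
  have hfy' : hh f y' = 0 := herm_symm_zero hF n hy'W.2
  have hsq : s ^ q ≠ 0 := pow_ne_zero _ hs
  have h1 : s⁻¹ * (s ^ q) ^ q = 1 := by rw [pow_q_pow_q hF, inv_mul_cancel₀ hs]
  have h2 : s * ((s ^ q)⁻¹) ^ q = 1 := by rw [inv_pow, pow_q_pow_q hF, mul_inv_cancel₀ hs]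
  have hdet : gdet n (HH hF n e f s⁻¹ (s ^ q) he hf hef h1 *
      HH hF n y y' s (s ^ q)⁻¹ hy hy' hyy' h2) = 1 := by
    rw [gdet_mul, gdet_HH, gdet_HH]
    field_simp
  have hine : gact n (HH hF n y y' s (s ^ q)⁻¹ hy hy' hyy' h2) e = e := by
    rw [gact_HH, hey, hey']; simp
  have hinf : gact n (HH hF n y y' s (s ^ q)⁻¹ hy hy' hyy' h2) f = f := by
    rw [gact_HH, hfy, hfy']; simp
  have hle : ofGU n _ hdet • e = s⁻¹ • e := by
    rw [ofGU_smul, gact_mul, hine, gact_HH, hef, he]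
    module
  have hlf : ofGU n _ hdet • f = s ^ q • f := by
    rw [ofGU_smul, gact_mul, hinf, gact_HH, hfe, hf]
    module
  refine ⟨ofGU n _ hdet, ⟨⟨s⁻¹, inv_ne_zero hs, hle⟩, ⟨s ^ q, hsq, hlf⟩⟩, fun m => ?_⟩
  rw [Lam_eq hF n hef hle, ofGU_smul, gact_mul, gact_HH, gact_HH]
  simp only [hermForm_add_left, hermForm_smul_left, hy, hyy', hyW.1, hyW.2, hy'W.1, hy'W.2]
  rw [inv_pow]
  have : s / s ^ q * m = (s ^ q)⁻¹ * (m * s) := by field_simp
  rw [this]
  module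

include hF he hf hef in
/-- elements of the Levi factor scaling `e` by an arbitrary scalar and acting on the line of an
anisotropic vector of the complement -/
theorem exists_L_line {w0 : Vn} (hw0W : w0 ∈ Wsub n q e f) (hd : hh w0 w0 ≠ 0) {a : F}
    (ha : a ≠ 0) :
    ∃ l ∈ LS n q e f, l • e = a • e ∧
      ∀ m : F, Lam n q e f l (m • w0) = (a ^ q * (a ^ q / a) * m) • w0 := by
  have hfe : hh f e = 1 := herm_fe hF hef
  have hew : hh e w0 = 0 := herm_symm_zero hF n hw0W.1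
  have hfw : hh f w0 = 0 := herm_symm_zero hF n hw0W.2
  have haq : a ^ q ≠ 0 := pow_ne_zero _ ha
  have hdq : (hh w0 w0) ^ q = hh w0 w0 := herm_self_fixed hF n w0
  obtain ⟨δ, hδ⟩ : ∃ δ : F, δ = a ^ q / a := ⟨_, rfl⟩
  have hδN : δ * δ ^ q = 1 := by
    rw [hδ, div_pow, pow_q_pow_q hF]
    field_simp
  obtain ⟨c, hcdef⟩ : ∃ c : F, c = (δ - 1) / hh w0 w0 := ⟨_, rfl⟩
  have hcd : 1 + c * hh w0 w0 = δ := by rw [hcdef]; field_simp; ring
  have hc : QCond n q w0 c := by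
    unfold QCond
    rw [hcdef, div_pow, hdq, pow_q_sub hF, one_pow]
    field_simp
    linear_combination hδN
  have hμν : a * ((a ^ q)⁻¹) ^ q = 1 := by rw [inv_pow, pow_q_pow_q hF, mul_inv_cancel₀ ha]
  have hdet : gdet n (HH hF n e f a (a ^ q)⁻¹ he hf hef hμν * TT hF n w0 c) = 1 := by
    rw [gdet_mul, gdet_HH, gdet_TT hF n hc, hcd, hδ]
    field_simp
  have hle : ofGU n _ hdet • e = a • e := by
    rw [ofGU_smul, gact_mul, gact_TT hF n hc, hew, mul_zero, zero_smul, add_zero, gact_HH, hef, he]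
    module
  have hlf : ofGU n _ hdet • f = (a ^ q)⁻¹ • f := by
    rw [ofGU_smul, gact_mul, gact_TT hF n hc, hfw, mul_zero, zero_smul, add_zero, gact_HH, hfe, hf]
    module
  refine ⟨ofGU n _ hdet, ⟨⟨a, ha, hle⟩, ⟨(a ^ q)⁻¹, inv_ne_zero haq, hlf⟩⟩, hle, fun m => ?_⟩
  rw [Lam_eq hF n hef hle, ofGU_smul, gact_mul, gact_TT hF n hc, gact_HH]
  simp only [hermForm_add_left, hermForm_smul_left, hw0W.1, hw0W.2]
  have h1 : a ^ q * (a ^ q / a) * m = a ^ q * (m * (1 + c * hh w0 w0)) := by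
    rw [hcd, hδ]; ring
  rw [h1]
  module

end pair

end Cfsg.Agent.Lib.Helper9.APSU
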