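import Mathlib
import Cfsg.Prelude
import Cfsg.Agent.Lib.Helper9.APSU10

/-! Automorphisms of `PSU_n(q)`, part 11: additive maps of the complement commuting with the Levi
factor are scalars. -/

set_option autoImplicit false
open Cfsg

namespace Cfsg.Agent.Lib.Helper9.APSU

open Matrix Cfsg.Agent.Lib.Helper5.Herm Cfsg.Agent.Lib.Helper5.HermBlock
  Cfsg.Agent.Lib.Helper5.HermTv Cfsg.Agent.Lib.Helper5.HermEich Cfsg.Agent.Lib.Helper5.HermSU
  Cfsg.Agent.Lib.Helper5.HermSimple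

attribute [local instance 2000] suSMul suAction suSMulComm

variable {F : Type*} [Field F] [Fintype F] {q : ℕ} (hF : Fintype.card F = q ^ 2) (n : ℕ)

set_option quotPrecheck false
local notation "Vn" => (Fin n → F)
local notation "GUn" => ↥(Cfsg.GU n F q)
local notation "SUn" => ↥(Cfsg.SU n F q)
local notation "PSUn" => Cfsg.PSU n F q
local notation "hh" => hermForm n F q

/-- an additive map of the complement commuting with the action of the Levi factor -/
structure Comm (q : ℕ) (e f : Vn) (φ : Vn → Vn) : Prop where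
  mem : ∀ w ∈ Wsub n q e f, φ w ∈ Wsub n q e f
  add : ∀ w ∈ Wsub n q e f, ∀ w' ∈ Wsub n q e f, φ (w + w') = φ w + φ w'
  comm : ∀ l ∈ LS n q e f, ∀ w ∈ Wsub n q e f, φ (Lam n q e f l w) = Lam n q e f l (φ w)

section pair
variable {e f : Fin n → F} (he : hermForm n F q e e = 0) (hf : hermForm n F q f f = 0)
  (hef : hermForm n F q e f = 1) {φ : (Fin n → F) → (Fin n → F)}

omit [Fintype F] in
theorem Comm.zero (hφ : Comm n q e f φ) : φ 0 = 0 := by
  have h := hφ.add 0 (Wsub n q e f).zero_mem 0 (Wsub n q e f).zero_mem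
  rw [add_zero] at h
  have : φ 0 + φ 0 = φ 0 + 0 := by rw [← h, add_zero]
  exact add_left_cancel this

include hF he hf hef in
theorem Comm.fixed (hφ : Comm n q e f φ) {a : F} (ha : a ^ q = a) {w : Vn}
    (hw : w ∈ Wsub n q e f) : φ (a • w) = a • φ w := by
  by_cases ha0 : a = 0
  · rw [ha0, zero_smul, zero_smul, hφ.zero]
  · obtain ⟨l, hl, hlw⟩ := exists_L_fixed hF n he hf hef ha0 ha
    have := hφ.comm l hl w hw
    rw [hlw w hw, hlw _ (hφ.mem w hw)] at this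
    exact this

include hF he hf hef in
/-- on the line of an isotropic vector of the complement the map is a scalar -/
theorem Comm.iso_line (hφ : Comm n q e f φ) {y : Vn} (hy0 : y ≠ 0) (hy : hh y y = 0)
    (hyW : y ∈ Wsub n q e f) : ∃ κ : F, ∀ m : F, φ (m • y) = (κ * m) • y := by
  obtain ⟨y', hy', hyy', hy'e, hy'f⟩ := exists_partner_W hF n he hf hef hy0 hy hyW.1 hyW.2
  have hy'W : y' ∈ Wsub n q e f := ⟨hy'e, hy'f⟩
  have hy'y : hh y' y = 1 := herm_fe hF hyy'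
  obtain ⟨c, hc0, hc⟩ := exists_trace_zero hF
  -- the line is preserved
  have h1 : ∀ m : F, ∃ r : F, φ (m • y) = r • y := by
    intro m
    obtain ⟨l, hl, -, hlw⟩ := exists_L_root hF n he hf hef hy hyW hc
    have hwW : (m / c) • y' ∈ Wsub n q e f := (Wsub n q e f).smul_mem _ hy'W
    have h2 := hφ.comm l hl _ hwW
    rw [hlw, hlw, hermForm_smul_left, hy'y, mul_one, mul_div_cancel₀ _ hc0,
      hφ.add _ hwW _ ((Wsub n q e f).smul_mem _ hyW)] at h2
    exact ⟨_, add_left_cancel h2⟩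
  -- compatibility with the norm-one scalars
  have h2 : ∀ z : F, z * z ^ q = 1 → ∀ m : F, φ ((z * m) • y) = z • φ (m • y) := by
    intro z hz m
    obtain ⟨s, hs0, hs⟩ := Cfsg.Agent.Lib.Helper5.HermParabolicDet.exists_div_pow_eq hF z hz
    have hzs : s / s ^ q = z := by
      have : s ^ q ≠ 0 := pow_ne_zero _ hs0
      rw [div_eq_iff this]
      exact hs.symm
    obtain ⟨l, hl, hlw⟩ := exists_L_torus hF n he hf hef hy hy' hyy' hyW hy'W hs0
    obtain ⟨r, hr⟩ := h1 m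
    have h3 := hφ.comm l hl _ ((Wsub n q e f).smul_mem m hyW)
    rw [hlw, hr, hlw, hzs] at h3
    rw [h3, hr, smul_smul]
  obtain ⟨z0, hz0N, hz0⟩ := Cfsg.Agent.Lib.Helper5.HermCenter.exists_norm_one_sq_ne hF
  have hz0N' : z0 * z0 ^ q = 1 := by rw [← pow_succ']; exact hz0N
  have hz00 : z0 ≠ 0 := by
    rintro rfl
    rw [zero_mul] at hz0N'
    exact zero_ne_one hz0N'
  have hz0q : z0 ^ q ≠ z0 := by
    intro h
    apply hz0
    rw [sq]
    nth_rewrite 2 [← h]
    exact hz0N'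
  obtain ⟨κ, hκ⟩ := h1 1
  rw [one_smul] at hκ
  refine ⟨κ, fun m => ?_⟩
  obtain ⟨a, b, ha, hb, hm⟩ := exists_decomp_fixed hF z0 hz0q m
  have e1 : m • y = a • y + b • (z0 • y) := by rw [hm]; module
  have e2 := h2 z0 hz0N' 1
  rw [mul_one, one_smul] at e2
  rw [e1, hφ.add _ ((Wsub n q e f).smul_mem _ hyW) _
    ((Wsub n q e f).smul_mem _ ((Wsub n q e f).smul_mem _ hyW)),
    hφ.fixed hF n he hf hef ha hyW, hφ.fixed hF n he hf hef hb ((Wsub n q e f).smul_mem _ hyW), e2,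
    hκ, hm]
  module

include hF he hf hef in
/-- the scalars on two non-orthogonal isotropic lines agree -/
theorem Comm.kappa_eq_of_nonorth (hφ : Comm n q e f φ) {y z : Vn} (hy : hh y y = 0)
    (hz : hh z z = 0) (hyW : y ∈ Wsub n q e f) (hzW : z ∈ Wsub n q e f) (hyz : hh y z ≠ 0)
    {κ κ' : F} (hκ : ∀ m : F, φ (m • y) = (κ * m) • y) (hκ' : ∀ m : F, φ (m • z) = (κ' * m) • z) :
    κ = κ' := by
  obtain ⟨c, hc0, hc⟩ := exists_trace_zero hF
  obtain ⟨θ, hθ⟩ : ∃ θ : F, θ = hh y z := ⟨_, rfl⟩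
  have hzy : hh z y = θ ^ q := by rw [hθ, hermForm_conj hF]
  have hθ0 : θ ≠ 0 := by rw [hθ]; exact hyz
  have hθq : θ ^ q ≠ 0 := pow_ne_zero _ hθ0
  obtain ⟨c', hc'⟩ : ∃ c' : F, c' = c / θ ^ q := ⟨_, rfl⟩
  have hc'q : c' ^ q = -c / θ := by rw [hc', div_pow, pow_q_pow_q hF, hc]
  have hc'0 : c' ≠ 0 := by rw [hc']; exact div_ne_zero hc0 hθq
  obtain ⟨p, hp⟩ : ∃ p : Vn, p = y + c' • z := ⟨_, rfl⟩
  have hpp : hh p p = 0 := by
    simp only [hp, hermForm_add_left, hermForm_add_right hF, hermForm_smul_left,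
      hermForm_smul_right, hy, hz, hzy, ← hθ, hc'q]
    rw [hc']
    field_simp
    ring
  have hpW : p ∈ Wsub n q e f := by
    rw [hp]; exact (Wsub n q e f).add_mem hyW ((Wsub n q e f).smul_mem _ hzW)
  have hp0 : p ≠ 0 := by
    intro h
    have := congrArg (fun v => hh v z) h
    simp only [hp, hermForm_add_left, hermForm_smul_left, hz, ← hθ, hermForm_zero_left] at this
    apply hθ0
    linear_combination this
  obtain ⟨κ'', hκ''⟩ := hφ.iso_line hF n he hf hef hp0 hpp hpW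
  have e1 := hκ'' 1
  rw [one_smul, mul_one] at e1
  have e2 : φ p = κ • y + (κ' * c') • z := by
    rw [hp, hφ.add _ hyW _ ((Wsub n q e f).smul_mem _ hzW), hκ', ← one_smul F y, hκ, mul_one,
      one_smul]
  rw [e2, hp] at e1
  have e3 := congrArg (fun v => hh v z) e1
  have e4 := congrArg (fun v => hh v y) e1
  simp only [hermForm_add_left, hermForm_smul_left, hy, hz, hzy, ← hθ] at e3 e4
  have h1 : κ = κ'' := by
    have : (κ - κ'') * θ = 0 := by linear_combination e3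
    rcases mul_eq_zero.mp this with h | h
    · exact sub_eq_zero.mp h
    · exact absurd h hθ0
  have h2 : κ' = κ'' := by
    have : (κ' - κ'') * (c' * θ ^ q) = 0 := by linear_combination e4
    rcases mul_eq_zero.mp this with h | h
    · exact sub_eq_zero.mp h
    · exact absurd h (mul_ne_zero hc'0 hθq)
  rw [h1, h2]

include hF he hf hef in
/-- for `n ≥ 4` the commutant of the Levi factor consists of scalars -/
theorem Comm.scalar_ge4 (hn : 4 ≤ n) (hφ : Comm n q e f φ) :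
    ∃ κ : F, ∀ w ∈ Wsub n q e f, φ w = κ • w := by
  obtain ⟨y, hy0, hy, hye, hyf⟩ := exists_iso_W hF n he hf hef hn
  have hyW : y ∈ Wsub n q e f := ⟨hye, hyf⟩
  obtain ⟨κ, hκ⟩ := hφ.iso_line hF n he hf hef hy0 hy hyW
  have hiso : ∀ s : Vn, hh s s = 0 → s ∈ Wsub n q e f → φ s = κ • s := by
    intro s hs hsW
    by_cases hs0 : s = 0
    · rw [hs0, hφ.zero, smul_zero]
    obtain ⟨κ', hκ'⟩ := hφ.iso_line hF n he hf hef hs0 hs hsW
    have hkk : κ = κ' := by
      by_cases hys : hh y s = 0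
      · obtain ⟨w, hw, hwe, hwf, hyw, hsw⟩ := exists_cross_W hF n he hf hef hy0 hs0 hy hs hye hyf
          hsW.1 hsW.2 hys
        have hw0 : w ≠ 0 := ne_zero_of_herm_ne hF n hyw
        obtain ⟨κ'', hκ''⟩ := hφ.iso_line hF n he hf hef hw0 hw ⟨hwe, hwf⟩
        rw [hφ.kappa_eq_of_nonorth hF n he hf hef hy hw hyW ⟨hwe, hwf⟩ hyw hκ hκ'',
          hφ.kappa_eq_of_nonorth hF n he hf hef hs hw hsW ⟨hwe, hwf⟩ hsw hκ' hκ'']
      · exact hφ.kappa_eq_of_nonorth hF n he hf hef hy hs hyW hsW hys hκ hκ'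
    have := hκ' 1
    rw [one_smul, mul_one] at this
    rw [this, hkk]
  refine ⟨κ, fun w hw => ?_⟩
  obtain ⟨s1, s2, s3, hws, ⟨h1, h1e, h1f⟩, ⟨h2, h2e, h2f⟩, ⟨h3, h3e, h3f⟩⟩ :=
    W_iso_sum hF n he hf hef hn hw.1 hw.2
  have hs1W : s1 ∈ Wsub n q e f := ⟨h1e, h1f⟩
  have hs2W : s2 ∈ Wsub n q e f := ⟨h2e, h2f⟩
  have hs3W : s3 ∈ Wsub n q e f := ⟨h3e, h3f⟩
  rw [hws, hφ.add _ ((Wsub n q e f).add_mem hs1W hs2W) _ hs3W, hφ.add _ hs1W _ hs2W,
    hiso s1 h1 hs1W, hiso s2 h2 hs2W, hiso s3 h3 hs3W]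
  module

include hF in
/-- for `q ≠ 2` some element `a ^ q * (a ^ q / a)` is not fixed by the `q`-th power map -/
theorem exists_rho (hq2 : q ≠ 2) :
    ∃ a : F, a ≠ 0 ∧ (a ^ q * (a ^ q / a)) ^ q ≠ a ^ q * (a ^ q / a) := by
  classical
  have hq := two_le_q hF
  obtain ⟨g, hg⟩ := IsCyclic.exists_generator (α := Fˣ)
  have hord : orderOf g = q ^ 2 - 1 := by
    rw [orderOf_eq_card_of_forall_mem_zpowers hg, Nat.card_eq_fintype_card, Fintype.card_units, hF]
  refine ⟨(g : F), g.ne_zero, ?_⟩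
  intro h
  have hg0 : (g : F) ≠ 0 := g.ne_zero
  have h1 : ((g : F)) ^ ((2 * q - 1) * (q - 1)) = 1 := by
    have e1 : (g : F) ^ q * ((g : F) ^ q / (g : F)) = (g : F) ^ (2 * q - 1) := by
      have : (g : F) ^ (2 * q - 1) * (g : F) = (g : F) ^ q * (g : F) ^ q := by
        rw [← pow_succ, ← pow_add]
        congr 1
        omega
      field_simp
      linear_combination -this
    rw [e1] at h
    have e2 : ((g : F) ^ (2 * q - 1)) ^ (q - 1) * (g : F) ^ (2 * q - 1) =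
        1 * (g : F) ^ (2 * q - 1) := by
      rw [← pow_succ, Nat.sub_add_cancel (by omega), h, one_mul]
    rw [pow_mul]
    exact mul_right_cancel₀ (pow_ne_zero _ hg0) e2
  have h2 : g ^ ((2 * q - 1) * (q - 1)) = 1 := by
    apply Units.ext
    rw [Units.val_pow_eq_pow_val, h1, Units.val_one]
  have h3 := orderOf_dvd_of_pow_eq_one h2
  rw [hord] at h3
  have h4 : q ^ 2 - 1 = (q + 1) * (q - 1) := by
    have : q ^ 2 = (q + 1) * (q - 1) + 1 := by
      obtain ⟨k, rfl⟩ : ∃ k, q = k + 2 := ⟨q - 2, by omega⟩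
      have : k + 2 - 1 = k + 1 := by omega
      rw [this]
      ring
    omega
  rw [h4] at h3
  have h5 : (q + 1) ∣ (2 * q - 1) := Nat.dvd_of_mul_dvd_mul_right (by omega) h3
  have h6 : (q + 1) ∣ 3 := by
    have : 2 * (q + 1) = (2 * q - 1) + 3 := by omega
    have h7 : (q + 1) ∣ 2 * (q + 1) := Dvd.intro_left 2 rfl
    rw [this] at h7
    exact (Nat.dvd_add_right h5).mp h7
  have h8 := Nat.le_of_dvd (by omega) h6
  omega

include hF he hf hef in
/-- for `n = 3` and `q ≠ 2` the commutant of the Levi factor consists of scalars -/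
theorem Comm.scalar_eq3 (hn : n = 3) (hq2 : q ≠ 2) (hφ : Comm n q e f φ) :
    ∃ κ : F, ∀ w ∈ Wsub n q e f, φ w = κ • w := by
  obtain ⟨w0, hw00, hw0e, hw0f⟩ := exists_W_ne_zero hF n he hf hef (by omega)
  have hw0W : w0 ∈ Wsub n q e f := ⟨hw0e, hw0f⟩
  have hline : ∀ w ∈ Wsub n q e f, ∃ m : F, w = m • w0 :=
    fun w hw => W_line hF n he hf hef hn hw00 hw0e hw0f hw.1 hw.2
  have hd : hh w0 w0 ≠ 0 := by
    intro h0
    apply hw00
    apply (Cfsg.Agent.Lib.Helper5.HermBridge.hermSesq_nondegenerate hF n).2 w0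
    intro v
    rw [Cfsg.Agent.Lib.Helper5.HermBridge.hermSesq_apply, ← herm_prW_right hF n hw0e hw0f (e := e)
      (f := f)]
    obtain ⟨m, hm⟩ := hline _ ⟨prW_e hF n he hef v, prW_f n hf hef v⟩
    rw [hm, hermForm_smul_right, h0, mul_zero]
  obtain ⟨a, ha0, ha⟩ := exists_rho hF hq2
  obtain ⟨l, hl, -, hlw⟩ := exists_L_line hF n he hf hef hw0W hd ha0
  obtain ⟨r, hr⟩ : ∃ r : F, r = a ^ q * (a ^ q / a) := ⟨_, rfl⟩
  rw [← hr] at ha hlw
  have hLam : ∀ w ∈ Wsub n q e f, Lam n q e f l w = r • w := by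
    intro w hw
    obtain ⟨m, rfl⟩ := hline w hw
    rw [hlw, smul_smul]
  have hr1 : ∀ w ∈ Wsub n q e f, φ (r • w) = r • φ w := by
    intro w hw
    have := hφ.comm l hl w hw
    rw [hLam w hw, hLam _ (hφ.mem w hw)] at this
    exact this
  obtain ⟨κ, hκ⟩ := hline _ (hφ.mem w0 hw0W)
  refine ⟨κ, fun w hw => ?_⟩
  obtain ⟨m, rfl⟩ := hline w hw
  obtain ⟨c, b, hc, hb, hm⟩ := exists_decomp_fixed hF r ha m
  have e1 : m • w0 = c • w0 + b • (r • w0) := by rw [hm]; module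
  rw [e1, hφ.add _ ((Wsub n q e f).smul_mem _ hw0W) _
    ((Wsub n q e f).smul_mem _ ((Wsub n q e f).smul_mem _ hw0W)),
    hφ.fixed hF n he hf hef hc hw0W, hφ.fixed hF n he hf hef hb ((Wsub n q e f).smul_mem _ hw0W),
    hr1 w0 hw0W, hκ]
  module

include hF he hf hef in
/-- the commutant of the Levi factor consists of scalars -/
theorem Comm.scalar (hn : 3 ≤ n) (h32 : ¬ (n = 3 ∧ q = 2)) (hφ : Comm n q e f φ) :
    ∃ κ : F, ∀ w ∈ Wsub n q e f, φ w = κ • w := by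
  by_cases h4 : 4 ≤ n
  · exact hφ.scalar_ge4 hF n he hf hef h4
  · have hn3 : n = 3 := by omega
    exact hφ.scalar_eq3 hF n he hf hef hn3 (fun h => h32 ⟨hn3, h⟩)

end pair

end Cfsg.Agent.Lib.Helper9.APSU
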