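import Mathlib
import Cfsg.Prelude
import Cfsg.Agent.Lib.Helper9.APSU11

/-! Automorphisms of `PSU_n(q)`, part 12: coordinates on `Q_e` and the lift of an automorphism
to `Q_e`. -/

set_option autoImplicit false
open Cfsg

namespace Cfsg.Agent.Lib.Helper9.APSU

open Matrix Cfsg.Agent.Lib.Helper5.Herm Cfsg.Agent.Lib.Helper5.HermBlock
  Cfsg.Agent.Lib.Helper5.HermTv Cfsg.Agent.Lib.Helper5.HermEich Cfsg.Agent.Lib.Helper5.HermSU
  Cfsg.Agent.Lib.Helper5.HermSimple

attribute [local instance 2000] suSMul suAction suSMulComm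

variable {F : Type*} [Field F] [Fintype F] {q : ℕ} (hF : Fintype.card F = q ^ 2) (n : ℕ)

set_option quotPrecheck false
local notation "Vn" => (Fin n → F)
local notation "GUn" => ↥(Cfsg.GU n F q)
local notation "SUn" => ↥(Cfsg.SU n F q)
local notation "PSUn" => Cfsg.PSU n F q
local notation "hh" => hermForm n F q

/-- the component in the complement of an element of `Q_e` -/
def om (e f : Fin n → F) (u : ↥(Cfsg.SU n F q)) : Fin n → F := prW n q e f (u • f)

/-- the central coordinate of an element of `Q_e` -/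
def bb (f : Fin n → F) (u : ↥(Cfsg.SU n F q)) : F := hermForm n F q (u • f) f

section pair
variable {e f : Fin n → F} (he : hermForm n F q e e = 0) (hf : hermForm n F q f f = 0)
  (hef : hermForm n F q e f = 1)

include hF he hf hef in
theorem om_Es {w : Vn} {b : F} (H : EHyp n q e w b) (hwf : hh w f = 0) :
    om n e f (Es hF n e w b) = w := by
  have hfe : hh f e = 1 := herm_fe hF hef
  have hfw : hh f w = 0 := herm_symm_zero hF n hwf
  unfold om
  rw [Es_partner hF n H hfe, hfw, sub_zero, prW_add, prW_add, prW_smul, prW_self_e n he hef,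
    prW_self_f hF n hf hef, prW_of_mem n H.hwx hwf]
  simp

include hF he hf hef in
theorem bb_Es {w : Vn} {b : F} (H : EHyp n q e w b) (hwf : hh w f = 0) :
    bb n f (Es hF n e w b) = b := by
  have hfe : hh f e = 1 := herm_fe hF hef
  have hfw : hh f w = 0 := herm_symm_zero hF n hwf
  unfold bb
  rw [Es_partner hF n H hfe, hfw, sub_zero]
  simp only [hermForm_add_left, hermForm_smul_left, hf, hwf, hef]
  ring

include hF he hf hef in
/-- normal form of the elements of `Q_e` -/
theorem QS_eq_Es {u : SUn} (hu : u ∈ QS (q := q) n e) :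
    EHyp n q e (om n e f u) (bb n f u) ∧ hh (om n e f u) f = 0 ∧
      u = Es hF n e (om n e f u) (bb n f u) := by
  obtain ⟨w, b, H, hwf, rfl⟩ := exists_Es_of_mem_QS hF n he hf hef u hu
  rw [om_Es hF n he hf hef H hwf, bb_Es hF n he hf hef H hwf]
  exact ⟨H, hwf, rfl⟩

include hF he hf hef in
theorem Es_inj {w w' : Vn} {b b' : F} (H : EHyp n q e w b) (hwf : hh w f = 0)
    (H' : EHyp n q e w' b') (hwf' : hh w' f = 0) (h : Es hF n e w b = Es hF n e w' b') :
    w = w' ∧ b = b' := by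
  constructor
  · rw [← om_Es hF n he hf hef H hwf, h, om_Es hF n he hf hef H' hwf']
  · rw [← bb_Es hF n he hf hef H hwf, h, bb_Es hF n he hf hef H' hwf']

include hF he hf hef in
theorem om_mul {u v : SUn} (hu : u ∈ QS (q := q) n e) (hv : v ∈ QS (q := q) n e) :
    om n e f (u * v) = om n e f u + om n e f v := by
  obtain ⟨H, hwf, hu'⟩ := QS_eq_Es hF n he hf hef hu
  obtain ⟨H', hwf', hv'⟩ := QS_eq_Es hF n he hf hef hv
  have h1 : u * v = Es hF n e (om n e f u + om n e f v)
      (bb n f u + bb n f v - hh (om n e f v) (om n e f u)) := by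
    conv_lhs => rw [hu', hv']
    exact Es_mul hF n H H'
  rw [h1]
  exact om_Es hF n he hf hef (EHyp_add hF n H H') (by rw [hermForm_add_left, hwf, hwf', add_zero])

include hF he hf hef in
theorem om_root {c : F} (hc : c ^ q = -c) : om n e f (Es hF n e 0 c) = 0 :=
  om_Es hF n he hf hef (EHyp_of_iso n he hc) (hermForm_zero_left n q f)

include hF hef in
/-- the restriction of the quotient map to `Q_e` is injective -/
theorem QS_mkU_inj (hn : 1 ≤ n) {u v : SUn} (hu : u ∈ QS (q := q) n e) (hv : v ∈ QS (q := q) n e)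
    (h : mkU n u = mkU n v) : u = v := by
  obtain ⟨a, ha⟩ := (mkU_eq_iff hF n hn u v).mp h
  have he0 : e ≠ 0 := e_ne_zero n hef
  have h1 := ha e
  rw [hu.1, hv.1] at h1
  have ha1 : a = 1 := by
    have h2 : (1 - a) • e = 0 := by rw [sub_smul, one_smul, ← h1, sub_self]
    rcases smul_eq_zero.mp h2 with h3 | h3
    · exact (sub_eq_zero.mp h3).symm
    · exact absurd h3 he0
  apply su_ext
  intro x
  rw [ha x, ha1, one_smul]

end pair

/-- a subgroup fixed by an automorphism is fixed by its inverse -/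
theorem map_inv_aut {G : Type*} [Group G] (K : Subgroup G) (β : MulAut G)
    (h : K.map (β : G ≃* G).toMonoidHom = K) : K.map ((β⁻¹ : MulAut G) : G ≃* G).toMonoidHom = K := by
  ext z
  constructor
  · rintro ⟨y, hy, rfl⟩
    rw [← h] at hy
    obtain ⟨x, hx, rfl⟩ := hy
    simpa using hx
  · intro hz
    refine ⟨β z, ?_, by simp⟩
    rw [← h]
    exact ⟨z, hz, rfl⟩

open scoped Classical in
/-- the lift to `Q_e` of the action of an automorphism on the image of `Q_e` -/
noncomputable def lam (e : Fin n → F) (β : MulAut (Cfsg.PSU n F q)) (u : ↥(Cfsg.SU n F q)) :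
    ↥(Cfsg.SU n F q) :=
  if h : ∃ u' : ↥(Cfsg.SU n F q), u' ∈ QS (q := q) n e ∧ mkU n u' = β (mkU n u) then
    Classical.choose h else 1

section pair
variable {e f : Fin n → F} (he : hermForm n F q e e = 0) (hf : hermForm n F q f f = 0)
  (hef : hermForm n F q e f = 1)

theorem lam_spec {β : MulAut PSUn}
    (hβ : (QSb (q := q) n e).map (β : PSUn ≃* PSUn).toMonoidHom = QSb (q := q) n e) {u : SUn}
    (hu : u ∈ QS (q := q) n e) :
    lam n e β u ∈ QS (q := q) n e ∧ mkU n (lam n e β u) = β (mkU n u) := by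
  have h : ∃ u' : SUn, u' ∈ QS (q := q) n e ∧ mkU n u' = β (mkU n u) := by
    have h1 : β (mkU n u) ∈ QSb (q := q) n e := by
      rw [← hβ]
      exact ⟨mkU n u, ⟨u, hu, rfl⟩, rfl⟩
    obtain ⟨u', hu', h2⟩ := h1
    exact ⟨u', hu', h2⟩
  unfold lam
  rw [dif_pos h]
  exact Classical.choose_spec h

include hF he hf hef in
theorem lam_unique (hn : 1 ≤ n) {β : MulAut PSUn}
    (hβ : (QSb (q := q) n e).map (β : PSUn ≃* PSUn).toMonoidHom = QSb (q := q) n e) {u u' : SUn}
    (hu : u ∈ QS (q := q) n e) (hu' : u' ∈ QS (q := q) n e) (h : mkU n u' = β (mkU n u)) :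
    lam n e β u = u' := by
  obtain ⟨h1, h2⟩ := lam_spec n hβ hu
  exact QS_mkU_inj hF n hef hn h1 hu' (by rw [h2, h])

include hF he hf hef in
theorem lam_mul (hn : 1 ≤ n) {β : MulAut PSUn}
    (hβ : (QSb (q := q) n e).map (β : PSUn ≃* PSUn).toMonoidHom = QSb (q := q) n e) {u v : SUn}
    (hu : u ∈ QS (q := q) n e) (hv : v ∈ QS (q := q) n e) :
    lam n e β (u * v) = lam n e β u * lam n e β v := by
  obtain ⟨h1, h2⟩ := lam_spec n hβ hu
  obtain ⟨h3, h4⟩ := lam_spec n hβ hv
  apply lam_unique hF n he hf hef hn hβ (mul_mem hu hv) (mul_mem h1 h3)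
  rw [map_mul, map_mul, map_mul, h2, h4]

include hF he hf hef in
theorem lam_one (hn : 1 ≤ n) {β : MulAut PSUn}
    (hβ : (QSb (q := q) n e).map (β : PSUn ≃* PSUn).toMonoidHom = QSb (q := q) n e) :
    lam n e β 1 = 1 := by
  apply lam_unique hF n he hf hef hn hβ (one_mem _) (one_mem _)
  rw [map_one, map_one]

include hF he hf hef in
theorem lam_inv (hn : 1 ≤ n) {β : MulAut PSUn}
    (hβ : (QSb (q := q) n e).map (β : PSUn ≃* PSUn).toMonoidHom = QSb (q := q) n e) {u : SUn}
    (hu : u ∈ QS (q := q) n e) :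
    lam n e β u⁻¹ = (lam n e β u)⁻¹ := by
  obtain ⟨h1, h2⟩ := lam_spec n hβ hu
  apply lam_unique hF n he hf hef hn hβ (inv_mem hu) (inv_mem h1)
  rw [map_inv, map_inv, map_inv, h2]

include hF he hf hef in
/-- the lifts of an automorphism and of its inverse are inverse to one another -/
theorem lam_lam_inv (hn : 1 ≤ n) {β : MulAut PSUn}
    (hβ : (QSb (q := q) n e).map (β : PSUn ≃* PSUn).toMonoidHom = QSb (q := q) n e) {u : SUn}
    (hu : u ∈ QS (q := q) n e) :
    lam n e β⁻¹ (lam n e β u) = u := by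
  obtain ⟨h1, h2⟩ := lam_spec n hβ hu
  apply lam_unique hF n he hf hef hn (map_inv_aut _ β hβ) h1 hu
  rw [h2]
  simp

include hF he hf hef in
/-- the lift of a product of automorphisms -/
theorem lam_comp (hn : 1 ≤ n) {β γ : MulAut PSUn}
    (hβ : (QSb (q := q) n e).map (β : PSUn ≃* PSUn).toMonoidHom = QSb (q := q) n e)
    (hγ : (QSb (q := q) n e).map (γ : PSUn ≃* PSUn).toMonoidHom = QSb (q := q) n e) {u : SUn}
    (hu : u ∈ QS (q := q) n e) :
    lam n e (γ * β) u = lam n e γ (lam n e β u) := by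
  obtain ⟨h1, h2⟩ := lam_spec n hβ hu
  obtain ⟨h3, h4⟩ := lam_spec n hγ h1
  have hγβ : (QSb (q := q) n e).map ((γ * β : MulAut PSUn) : PSUn ≃* PSUn).toMonoidHom =
      QSb (q := q) n e := by
    rw [map_mul_aut, hβ, hγ]
  apply lam_unique hF n he hf hef hn hγβ hu h3
  rw [h4, h2, MulAut.mul_apply]

include hF he hf hef in
/-- the lift of an inner automorphism normalising `Q_e` -/
theorem lam_conj (hn : 1 ≤ n) {A : SUn} {a : F} (ha0 : a ≠ 0) (hA : A • e = a • e) {u : SUn}
    (hu : u ∈ QS (q := q) n e) :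
    (QSb (q := q) n e).map ((MulAut.conj (mkU n A) : MulAut PSUn) : PSUn ≃* PSUn).toMonoidHom =
      QSb (q := q) n e ∧ lam n e (MulAut.conj (mkU n A)) u = A * u * A⁻¹ := by
  have hmem : ∀ {v : SUn} {B : SUn} {c : F}, c ≠ 0 → B • e = c • e → v ∈ QS (q := q) n e →
      B * v * B⁻¹ ∈ QS (q := q) n e := by
    intro v B c hc0 hB hv
    have h1 := conj_mem_QS n B hv
    rw [hB, QS_smul n hc0] at h1
    exact h1
  have hQ : (QSb (q := q) n e).map
      ((MulAut.conj (mkU n A) : MulAut PSUn) : PSUn ≃* PSUn).toMonoidHom = QSb (q := q) n e := by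
    ext z
    constructor
    · rintro ⟨y, ⟨v, hv, rfl⟩, rfl⟩
      refine ⟨A * v * A⁻¹, hmem ha0 hA hv, ?_⟩
      simp [MulAut.conj_apply]
    · rintro ⟨v, hv, rfl⟩
      have hA' : A⁻¹ • e = a⁻¹ • e := by
        have h1 : A⁻¹ • (a • e) = e := by rw [← hA, inv_smul_smul]
        rw [su_smul_smul] at h1
        calc A⁻¹ • e = a⁻¹ • (a • (A⁻¹ • e)) := by rw [smul_smul, inv_mul_cancel₀ ha0, one_smul]
          _ = a⁻¹ • e := by rw [h1]
      refine ⟨mkU n (A⁻¹ * v * A⁻¹⁻¹), ⟨_, hmem (inv_ne_zero ha0) hA' hv, rfl⟩, ?_⟩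
      simp [MulAut.conj_apply, mul_assoc]
  refine ⟨hQ, ?_⟩
  apply lam_unique hF n he hf hef hn hQ hu (hmem ha0 hA hu)
  simp [MulAut.conj_apply]

end pair

end Cfsg.Agent.Lib.Helper9.APSU
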