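import Mathlib
import Cfsg.Prelude
import Cfsg.Agent.Lib.Helper9.APSU12

/-! Automorphisms of `PSU_n(q)`, part 13: the map induced on the complement by an automorphism
fixing the two root groups of a hyperbolic pair. -/

set_option autoImplicit false
open Cfsg

namespace Cfsg.Agent.Lib.Helper9.APSU

open Matrix Cfsg.Agent.Lib.Helper5.Herm Cfsg.Agent.Lib.Helper5.HermBlock
  Cfsg.Agent.Lib.Helper5.HermTv Cfsg.Agent.Lib.Helper5.HermEich Cfsg.Agent.Lib.Helper5.HermSU
  Cfsg.Agent.Lib.Helper5.HermSimple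

attribute [local instance 2000] suSMul suAction suSMulComm

variable {F : Type*} [Field F] [Fintype F] {q : ℕ} (hF : Fintype.card F = q ^ 2) (n : ℕ)

set_option quotPrecheck false
local notation "Vn" => (Fin n → F)
local notation "GUn" => ↥(Cfsg.GU n F q)
local notation "SUn" => ↥(Cfsg.SU n F q)
local notation "PSUn" => Cfsg.PSU n F q
local notation "hh" => hermForm n F q

open scoped Classical in
/-- a chosen central coordinate for a vector orthogonal to `e` -/
noncomputable def bE (q : ℕ) (e w : Fin n → F) : F :=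
  if h : ∃ b : F, EHyp n q e w b then Classical.choose h else 0

/-- a chosen element of `Q_e` above a vector of the complement -/
noncomputable def Ee (e w : Fin n → F) : ↥(Cfsg.SU n F q) := Es hF n e w (bE n q e w)

/-- the map induced on the complement -/
noncomputable def bt (e f : Fin n → F) (β : MulAut (Cfsg.PSU n F q)) (w : Fin n → F) : Fin n → F :=
  om n e f (lam n e β (Ee hF n e w))

section pair
variable {e f : Fin n → F} (he : hermForm n F q e e = 0) (hf : hermForm n F q f f = 0)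
  (hef : hermForm n F q e f = 1)

/-- automorphisms fixing the root groups of both vectors of the hyperbolic pair -/
structure Fix2 (β : MulAut (Cfsg.PSU n F q)) : Prop where
  re : (RSb hF n e he).map (β : Cfsg.PSU n F q ≃* Cfsg.PSU n F q).toMonoidHom = RSb hF n e he
  rf : (RSb hF n f hf).map (β : Cfsg.PSU n F q ≃* Cfsg.PSU n F q).toMonoidHom = RSb hF n f hf

theorem Fix2.inv {β : MulAut PSUn} (h : Fix2 hF n he hf β) : Fix2 hF n he hf β⁻¹ :=
  ⟨map_inv_aut _ β h.re, map_inv_aut _ β h.rf⟩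

theorem Fix2.mul {β γ : MulAut PSUn} (h : Fix2 hF n he hf β) (h' : Fix2 hF n he hf γ) :
    Fix2 hF n he hf (γ * β) :=
  ⟨by rw [map_mul_aut, h.re, h'.re], by rw [map_mul_aut, h.rf, h'.rf]⟩

include hef in
theorem Fix2.qe (hn : 3 ≤ n) (p : ℕ) [Fact p.Prime] [CharP F p] {β : MulAut PSUn}
    (h : Fix2 hF n he hf β) :
    (QSb (q := q) n e).map (β : PSUn ≃* PSUn).toMonoidHom = QSb (q := q) n e :=
  map_QSb_eq hF n he hf hef hn p β h.re

include hF he in
theorem bE_spec {w : Vn} (hwe : hh w e = 0) : EHyp n q e w (bE n q e w) := by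
  have h : ∃ b : F, EHyp n q e w b := exists_EHyp hF n he hwe
  unfold bE
  rw [dif_pos h]
  exact Classical.choose_spec h

include he in
theorem Ee_mem {w : Vn} (hwe : hh w e = 0) : Ee hF n e w ∈ QS (q := q) n e :=
  Es_mem_QS hF n (bE_spec hF n he hwe)

include he hf hef in
theorem om_Ee {w : Vn} (hw : w ∈ Wsub n q e f) : om n e f (Ee hF n e w) = w :=
  om_Es hF n he hf hef (bE_spec hF n he hw.1) hw.2

include hF he hf hef in
theorem om_mem_W (u : SUn) : om n e f u ∈ Wsub n q e f :=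
  ⟨prW_e hF n he hef _, prW_f n hf hef _⟩

include he hf hef in
theorem bt_mem_W (β : MulAut PSUn) (w : Vn) : bt hF n e f β w ∈ Wsub n q e f :=
  om_mem_W hF n he hf hef _

section aut
variable (hn : 3 ≤ n) (p : ℕ) [Fact p.Prime] [CharP F p] {β : MulAut (Cfsg.PSU n F q)}
  (hβ : Fix2 hF n he hf β)

include hef hn hβ p in
/-- root elements go to root elements -/
theorem lam_root {c : F} (hc : c ^ q = -c) :
    ∃ c' : F, c' ^ q = -c' ∧ lam n e β (Es hF n e 0 c) = Es hF n e 0 c' := by
  have hn1 : 1 ≤ n := by omega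
  have hQ := hβ.qe hF n he hf hef hn p
  have h1 : β (mkU n (Es hF n e 0 c)) ∈ RSb hF n e he := by
    rw [← hβ.re]
    exact ⟨_, (mem_RSb_iff hF n he _).mpr ⟨c, hc, rfl⟩, rfl⟩
  obtain ⟨c', hc', h2⟩ := (mem_RSb_iff hF n he _).mp h1
  refine ⟨c', hc', ?_⟩
  exact lam_unique hF n he hf hef hn1 hQ (Es_mem_QS hF n (EHyp_of_iso n he hc))
    (Es_mem_QS hF n (EHyp_of_iso n he hc')) h2.symm

include hef hn hβ p in
/-- naturality of the induced map -/
theorem om_lam {u : SUn} (hu : u ∈ QS (q := q) n e) :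
    om n e f (lam n e β u) = bt hF n e f β (om n e f u) := by
  have hn1 : 1 ≤ n := by omega
  have hQ := hβ.qe hF n he hf hef hn p
  obtain ⟨H, hwf, hu'⟩ := QS_eq_Es hF n he hf hef hu
  have H0 := bE_spec hF n he (w := om n e f u) H.hwx
  obtain ⟨t, ht⟩ : ∃ t : F, t = bb n f u - bE n q e (om n e f u) := ⟨_, rfl⟩
  have htq : t ^ q = -t := by
    rw [ht, pow_q_sub hF]
    linear_combination H.hb - H0.hb
  have Ht := EHyp_of_iso n he htq
  have h1 : u = Ee hF n e (om n e f u) * Es hF n e 0 t := by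
    conv_lhs => rw [hu']
    unfold Ee
    rw [Es_mul hF n H0 Ht]
    apply Es_congr hF n rfl (by rw [add_zero])
    rw [ht, hermForm_zero_left]
    ring
  obtain ⟨t', ht', h2⟩ := lam_root hF n he hf hef hn p hβ htq
  have h3 : lam n e β u = lam n e β (Ee hF n e (om n e f u)) * Es hF n e 0 t' := by
    conv_lhs => rw [h1]
    rw [lam_mul hF n he hf hef hn1 hQ (Ee_mem hF n he H.hwx) (Es_mem_QS hF n Ht), h2]
  rw [h3, om_mul hF n he hf hef (lam_spec n hQ (Ee_mem hF n he H.hwx)).1
    (Es_mem_QS hF n (EHyp_of_iso n he ht')), om_root hF n he hf hef ht', add_zero]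
  rfl

include hef hn hβ p in
/-- the image of an element of `Q_e` in normal form -/
theorem lam_Es {w : Vn} {b : F} (H : EHyp n q e w b) (hwf : hh w f = 0) :
    ∃ b' : F, EHyp n q e (bt hF n e f β w) b' ∧
      lam n e β (Es hF n e w b) = Es hF n e (bt hF n e f β w) b' := by
  have hQ := hβ.qe hF n he hf hef hn p
  have hu := Es_mem_QS hF n H
  obtain ⟨H', -, h1⟩ := QS_eq_Es hF n he hf hef (lam_spec n hQ hu).1
  rw [om_lam hF n he hf hef hn p hβ hu, om_Es hF n he hf hef H hwf] at H' h1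
  exact ⟨_, H', h1⟩

include hef hn hβ p in
theorem bt_add {w w' : Vn} (hw : w ∈ Wsub n q e f) (hw' : w' ∈ Wsub n q e f) :
    bt hF n e f β (w + w') = bt hF n e f β w + bt hF n e f β w' := by
  have hn1 : 1 ≤ n := by omega
  have hQ := hβ.qe hF n he hf hef hn p
  have hu := Ee_mem hF n he hw.1
  have hv := Ee_mem hF n he hw'.1
  have h1 := om_lam hF n he hf hef hn p hβ (mul_mem hu hv)
  rw [om_mul hF n he hf hef hu hv, om_Ee hF n he hf hef hw, om_Ee hF n he hf hef hw',
    lam_mul hF n he hf hef hn1 hQ hu hv,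
    om_mul hF n he hf hef (lam_spec n hQ hu).1 (lam_spec n hQ hv).1] at h1
  exact h1.symm

include hef hn hβ p in
theorem bt_zero : bt hF n e f β 0 = 0 := by
  have h := bt_add hF n he hf hef hn p hβ (Wsub n q e f).zero_mem (Wsub n q e f).zero_mem
  rw [add_zero] at h
  have : bt hF n e f β 0 + bt hF n e f β 0 = bt hF n e f β 0 + 0 := by rw [← h, add_zero]
  exact add_left_cancel this

include hef hn hβ p in
theorem bt_neg {w : Vn} (hw : w ∈ Wsub n q e f) :
    bt hF n e f β (-w) = -bt hF n e f β w := by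
  have h := bt_add hF n he hf hef hn p hβ hw ((Wsub n q e f).neg_mem hw)
  rw [add_neg_cancel, bt_zero hF n he hf hef hn p hβ] at h
  exact (neg_eq_of_add_eq_zero_right h.symm).symm

include hef hn hβ p in
theorem bt_sub {w w' : Vn} (hw : w ∈ Wsub n q e f) (hw' : w' ∈ Wsub n q e f) :
    bt hF n e f β (w - w') = bt hF n e f β w - bt hF n e f β w' := by
  rw [sub_eq_add_neg, bt_add hF n he hf hef hn p hβ hw ((Wsub n q e f).neg_mem hw'),
    bt_neg hF n he hf hef hn p hβ hw', sub_eq_add_neg]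

include hef hn hβ p in
/-- the maps induced by an automorphism and its inverse are inverse to one another -/
theorem bt_inv {w : Vn} (hw : w ∈ Wsub n q e f) :
    bt hF n e f β⁻¹ (bt hF n e f β w) = w := by
  have hn1 : 1 ≤ n := by omega
  have hQ := hβ.qe hF n he hf hef hn p
  have hu := Ee_mem hF n he hw.1
  have h1 := om_lam hF n he hf hef hn p (hβ.inv hF n he hf) (lam_spec n hQ hu).1
  rw [lam_lam_inv hF n he hf hef hn1 hQ hu, om_Ee hF n he hf hef hw] at h1
  exact h1.symm

end aut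

omit [Fintype F] in
theorem EHyp_su (A : SUn) {x w : Vn} {b : F} (H : EHyp n q x w b) :
    EHyp n q (A • x) (A • w) b :=
  ⟨by rw [herm_smul]; exact H.hx, by rw [herm_smul]; exact H.hwx, by rw [herm_smul]; exact H.hb⟩

include hF he hf hef in
/-- conjugation by the Levi factor in the coordinates of `Q_e` -/
theorem conj_Es {l : SUn} (hl : l ∈ LS n q e f) {a : F} (ha0 : a ≠ 0) (ha : l • e = a • e)
    {w : Vn} {b : F} (H : EHyp n q e w b) (hwf : hh w f = 0) :
    EHyp n q e (Lam n q e f l w) (a ^ (q + 1) * b) ∧ hh (Lam n q e f l w) f = 0 ∧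
      l * Es hF n e w b * l⁻¹ = Es hF n e (Lam n q e f l w) (a ^ (q + 1) * b) := by
  have H1 : EHyp n q (a • e) (l • w) b := by
    have := EHyp_su n l H
    rw [ha] at this
    exact this
  have hLW := Lam_mem_W hF n hef hl (w := w) ⟨H.hwx, hwf⟩
  rw [Lam_eq hF n hef ha]
  refine ⟨EHyp_smul hF n ha0 H1, ?_, ?_⟩
  · rw [← Lam_eq hF n hef ha]
    exact hLW.2
  · rw [Es_conj hF n l H]
    rw [← Es_smul_centre hF n ha0 H1]
    exact Es_congr hF n ha rfl rfl

include hF he hf hef in
theorem om_conj {l : SUn} (hl : l ∈ LS n q e f) {u : SUn} (hu : u ∈ QS (q := q) n e) :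
    l * u * l⁻¹ ∈ QS (q := q) n e ∧ om n e f (l * u * l⁻¹) = Lam n q e f l (om n e f u) := by
  obtain ⟨⟨a, ha0, ha⟩, -⟩ := id hl
  obtain ⟨H, hwf, hu'⟩ := QS_eq_Es hF n he hf hef hu
  obtain ⟨H', hwf', h1⟩ := conj_Es hF n he hf hef hl ha0 ha H hwf
  have h2 : l * u * l⁻¹ = Es hF n e (Lam n q e f l (om n e f u)) (a ^ (q + 1) * bb n f u) := by
    conv_lhs => rw [hu']
    exact h1
  rw [h2]
  exact ⟨Es_mem_QS hF n H', om_Es hF n he hf hef H' hwf'⟩

section aut
variable (hn : 3 ≤ n) (p : ℕ) [Fact p.Prime] [CharP F p] {β : MulAut (Cfsg.PSU n F q)}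
  (hβ : Fix2 hF n he hf β)

include hF he hf hef hn hβ in
/-- an automorphism fixing both root groups permutes the cosets of the Levi factor -/
theorem lift_mem_LS {l l' : SUn} (hl : l ∈ LS n q e f) (hll' : β (mkU n l) = mkU n l') :
    l' ∈ LS n q e f := by
  have hn1 : 1 ≤ n := by omega
  have he0 : e ≠ 0 := e_ne_zero n hef
  have hf0 : f ≠ 0 := f_ne_zero hF n hef
  have hconj : (MulAut.conj (mkU n l') : MulAut PSUn) = β * MulAut.conj (mkU n l) * β⁻¹ := by
    ext z
    simp [MulAut.mul_apply, MulAut.conj_apply, hll']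
  have hβi := hβ.inv hF n he hf
  constructor
  · apply (conj_RSb_iff hF n hn1 he0 he l').mp
    rw [hconj, map_mul_aut, map_mul_aut, hβi.re, (conj_RSb_iff hF n hn1 he0 he l).mpr hl.1, hβ.re]
  · apply (conj_RSb_iff hF n hn1 hf0 hf l').mp
    rw [hconj, map_mul_aut, map_mul_aut, hβi.rf, (conj_RSb_iff hF n hn1 hf0 hf l).mpr hl.2, hβ.rf]

include hF he hf hef hn hβ p in
/-- the lift of a conjugate -/
theorem lam_conj_LS {l l' : SUn} (hl : l ∈ LS n q e f) (hll' : β (mkU n l) = mkU n l')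
    {u : SUn} (hu : u ∈ QS (q := q) n e) :
    lam n e β (l * u * l⁻¹) = l' * lam n e β u * l'⁻¹ := by
  have hn1 : 1 ≤ n := by omega
  have hQ := hβ.qe hF n he hf hef hn p
  have hl' := lift_mem_LS hF n he hf hef hn hβ hl hll'
  obtain ⟨h1, h2⟩ := lam_spec n hQ hu
  apply lam_unique hF n he hf hef hn1 hQ (om_conj hF n he hf hef hl hu).1
    (om_conj hF n he hf hef hl' h1).1
  rw [map_mul, map_mul, map_inv, h2, map_mul, map_mul, map_inv, map_mul, map_mul, map_inv, hll']

include hF he hf hef hn hβ p in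
/-- equivariance of the induced map -/
theorem bt_Lam {l l' : SUn} (hl : l ∈ LS n q e f) (hll' : β (mkU n l) = mkU n l')
    {w : Vn} (hw : w ∈ Wsub n q e f) :
    bt hF n e f β (Lam n q e f l w) = Lam n q e f l' (bt hF n e f β w) := by
  have hQ := hβ.qe hF n he hf hef hn p
  have hl' := lift_mem_LS hF n he hf hef hn hβ hl hll'
  have hu := Ee_mem hF n he hw.1
  obtain ⟨h1, h2⟩ := om_conj hF n he hf hef hl hu
  have h3 := om_lam hF n he hf hef hn p hβ h1
  rw [h2, om_Ee hF n he hf hef hw, lam_conj_LS hF n he hf hef hn p hβ hl hll' hu,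
    (om_conj hF n he hf hef hl' (lam_spec n hQ hu).1).2] at h3
  exact h3.symm

end aut

end pair

end Cfsg.Agent.Lib.Helper9.APSU
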