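import Mathlib
import Cfsg.Prelude
import Cfsg.Agent.Lib.Helper9.APSU13

/-! Automorphisms of `PSU_n(q)`, part 14: the induced map on the complement is semilinear. -/

set_option autoImplicit false
open Cfsg

namespace Cfsg.Agent.Lib.Helper9.APSU

open Matrix Cfsg.Agent.Lib.Helper5.Herm Cfsg.Agent.Lib.Helper5.HermBlock
  Cfsg.Agent.Lib.Helper5.HermTv Cfsg.Agent.Lib.Helper5.HermEich Cfsg.Agent.Lib.Helper5.HermSU
  Cfsg.Agent.Lib.Helper5.HermSimple

attribute [local instance 2000] suSMul suAction suSMulComm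

variable {F : Type*} [Field F] [Fintype F] {q : ℕ} (hF : Fintype.card F = q ^ 2) (n : ℕ)

set_option quotPrecheck false
local notation "Vn" => (Fin n → F)
local notation "GUn" => ↥(Cfsg.GU n F q)
local notation "SUn" => ↥(Cfsg.SU n F q)
local notation "PSUn" => Cfsg.PSU n F q
local notation "hh" => hermForm n F q

section pair
variable {e f : Fin n → F} (he : hermForm n F q e e = 0) (hf : hermForm n F q f f = 0)
  (hef : hermForm n F q e f = 1)

omit [Fintype F] in
theorem Lam_smul (l : SUn) (c : F) (w : Vn) :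
    Lam n q e f l (c • w) = c • Lam n q e f l w := by
  unfold Lam
  rw [su_smul_smul, smul_comm]

section aut
variable (hn : 3 ≤ n) (p : ℕ) [Fact p.Prime] [CharP F p] {β : MulAut (Cfsg.PSU n F q)}
  (hβ : Fix2 hF n he hf β)

include hF he hf hef hn hβ p in
/-- the twisted scalar multiplication commutes with the Levi factor -/
theorem comm_phi (c : F) :
    Comm n q e f (fun w => bt hF n e f β (c • bt hF n e f β⁻¹ w)) := by
  have hβi := hβ.inv hF n he hf
  constructor
  · intro w _
    exact bt_mem_W hF n he hf hef β _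
  · intro w hw w' hw'
    show bt hF n e f β (c • bt hF n e f β⁻¹ (w + w')) = _
    rw [bt_add hF n he hf hef hn p hβi hw hw', smul_add,
      bt_add hF n he hf hef hn p hβ
        ((Wsub n q e f).smul_mem c (bt_mem_W hF n he hf hef β⁻¹ w))
        ((Wsub n q e f).smul_mem c (bt_mem_W hF n he hf hef β⁻¹ w'))]
  · intro l hl w hw
    show bt hF n e f β (c • bt hF n e f β⁻¹ (Lam n q e f l w)) =
      Lam n q e f l (bt hF n e f β (c • bt hF n e f β⁻¹ w))
    obtain ⟨l'', hl''⟩ := mkU_surjective n (β⁻¹ (mkU n l))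
    have h1 : β⁻¹ (mkU n l) = mkU n l'' := hl''.symm
    have hl''L := lift_mem_LS hF n he hf hef hn hβi hl h1
    have h2 : β (mkU n l'') = mkU n l := by rw [← h1]; simp
    rw [bt_Lam hF n he hf hef hn p hβi hl h1 hw, ← Lam_smul,
      bt_Lam hF n he hf hef hn p hβ hl''L h2
        ((Wsub n q e f).smul_mem c (bt_mem_W hF n he hf hef β⁻¹ w))]

include hF he hf hef hn hβ p in
theorem exists_semi (h32 : ¬ (n = 3 ∧ q = 2)) (c : F) :
    ∃ c' : F, ∀ x ∈ Wsub n q e f, bt hF n e f β (c • x) = c' • bt hF n e f β x := by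
  obtain ⟨κ, hκ⟩ := (comm_phi hF n he hf hef hn p hβ c).scalar hF n he hf hef hn h32
  refine ⟨κ, fun x hx => ?_⟩
  have h1 : bt hF n e f β (c • bt hF n e f β⁻¹ (bt hF n e f β x)) = κ • bt hF n e f β x :=
    hκ (bt hF n e f β x) (bt_mem_W hF n he hf hef β x)
  rw [bt_inv hF n he hf hef hn p hβ hx] at h1
  exact h1

include hF he hf hef hn hβ p in
theorem bt_ne_zero {w : Vn} (hw : w ∈ Wsub n q e f) (hw0 : w ≠ 0) : bt hF n e f β w ≠ 0 := by
  intro h
  have h1 := bt_inv hF n he hf hef hn p hβ hw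
  rw [h, bt_zero hF n he hf hef hn p (hβ.inv hF n he hf)] at h1
  exact hw0 h1.symm

include hF he hf hef hn hβ p in
/-- the induced map on the complement is semilinear -/
theorem exists_sigma (h32 : ¬ (n = 3 ∧ q = 2)) :
    ∃ σ : F ≃+* F, ∀ (c : F), ∀ x ∈ Wsub n q e f, bt hF n e f β (c • x) = σ c • bt hF n e f β x := by
  choose σ₀ hσ₀ using exists_semi hF n he hf hef hn p hβ h32
  obtain ⟨w₀, hw₀0, hw₀e, hw₀f⟩ := exists_W_ne_zero hF n he hf hef hn
  have hw₀ : w₀ ∈ Wsub n q e f := ⟨hw₀e, hw₀f⟩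
  have hy₀ := bt_ne_zero hF n he hf hef hn p hβ hw₀ hw₀0
  have huniq : ∀ a b : F, a • bt hF n e f β w₀ = b • bt hF n e f β w₀ → a = b := by
    intro a b hab
    have h1 : (a - b) • bt hF n e f β w₀ = 0 := by rw [sub_smul, hab, sub_self]
    rcases smul_eq_zero.mp h1 with h2 | h2
    · exact sub_eq_zero.mp h2
    · exact absurd h2 hy₀
  let σ₁ : F →+* F :=
    { toFun := σ₀
      map_one' := by
        apply huniq
        rw [← hσ₀ 1 w₀ hw₀, one_smul, one_smul]
      map_mul' := by
        intro a b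
        apply huniq
        rw [← hσ₀ (a * b) w₀ hw₀, mul_smul, hσ₀ a _ ((Wsub n q e f).smul_mem b hw₀),
          hσ₀ b w₀ hw₀, mul_smul]
      map_zero' := by
        apply huniq
        rw [← hσ₀ 0 w₀ hw₀, zero_smul, zero_smul, bt_zero hF n he hf hef hn p hβ]
      map_add' := by
        intro a b
        apply huniq
        rw [← hσ₀ (a + b) w₀ hw₀, add_smul,
          bt_add hF n he hf hef hn p hβ ((Wsub n q e f).smul_mem a hw₀)
            ((Wsub n q e f).smul_mem b hw₀), hσ₀ a w₀ hw₀, hσ₀ b w₀ hw₀, add_smul] }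
  have hinj : Function.Injective σ₁ := σ₁.injective
  have hbij : Function.Bijective σ₁ := ⟨hinj, Finite.injective_iff_surjective.mp hinj⟩
  refine ⟨RingEquiv.ofBijective σ₁ hbij, fun c x hx => ?_⟩
  rw [RingEquiv.ofBijective_apply]
  exact hσ₀ c x hx

end aut

end pair

end Cfsg.Agent.Lib.Helper9.APSU
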