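import Mathlib
import Cfsg.Prelude
import Cfsg.Agent.Lib.Helper9.APSU14

/-! Automorphisms of `PSU_n(q)`, part 15: the induced map on the complement is a similitude, and
the action on the root group. -/

set_option autoImplicit false
open Cfsg

namespace Cfsg.Agent.Lib.Helper9.APSU

open Matrix Cfsg.Agent.Lib.Helper5.Herm Cfsg.Agent.Lib.Helper5.HermBlock
  Cfsg.Agent.Lib.Helper5.HermTv Cfsg.Agent.Lib.Helper5.HermEich Cfsg.Agent.Lib.Helper5.HermSU
  Cfsg.Agent.Lib.Helper5.HermSimple

attribute [local instance 2000] suSMul suAction suSMulComm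

variable {F : Type*} [Field F] [Fintype F] {q : ℕ} (hF : Fintype.card F = q ^ 2) (n : ℕ)

set_option quotPrecheck false
local notation "Vn" => (Fin n → F)
local notation "GUn" => ↥(Cfsg.GU n F q)
local notation "SUn" => ↥(Cfsg.SU n F q)
local notation "PSUn" => Cfsg.PSU n F q
local notation "hh" => hermForm n F q

include hF in
/-- elements of trace zero are of the form `m - m ^ q` -/
theorem exists_sub_pow {t : F} (ht : t ^ q = -t) : ∃ m : F, m - m ^ q = t := by
  obtain ⟨r, hr0, hr⟩ := exists_trace_zero hF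
  have hd : (t / r) ^ q = t / r := by
    rw [div_pow, ht, hr, neg_div_neg_eq]
  obtain ⟨μ, hμ⟩ := exists_trace_eq hF (t / r) hd
  refine ⟨r * μ, ?_⟩
  rw [mul_pow, hr]
  have : t = r * (t / r) := by field_simp
  rw [this, ← hμ]
  ring

/-- the action of an automorphism on the parameters of the root group -/
noncomputable def rho (e f : Fin n → F) (β : MulAut (Cfsg.PSU n F q)) (t : F) : F :=
  bb n f (lam n e β (Es hF n e 0 t))

section pair
variable {e f : Fin n → F} (he : hermForm n F q e e = 0) (hf : hermForm n F q f f = 0)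
  (hef : hermForm n F q e f = 1)

section aut
variable (hn : 3 ≤ n) (p : ℕ) [Fact p.Prime] [CharP F p] {β : MulAut (Cfsg.PSU n F q)}
  (hβ : Fix2 hF n he hf β)

include hF he hf hef hn hβ p in
theorem lam_root' {t : F} (ht : t ^ q = -t) :
    (rho hF n e f β t) ^ q = -rho hF n e f β t ∧
      lam n e β (Es hF n e 0 t) = Es hF n e 0 (rho hF n e f β t) := by
  obtain ⟨c', hc', h⟩ := lam_root hF n he hf hef hn p hβ ht
  have h1 : rho hF n e f β t = c' := by
    unfold rho
    rw [h]
    exact bb_Es hF n he hf hef (EHyp_of_iso n he hc') (hermForm_zero_left n q f)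
  rw [h1]
  exact ⟨hc', h⟩

include hF he hf hef hn hβ p in
theorem rho_zero : rho hF n e f β 0 = 0 := by
  have hn1 : 1 ≤ n := by omega
  have hQ := hβ.qe hF n he hf hef hn p
  unfold rho
  rw [Es_zero hF n he, lam_one hF n he hf hef hn1 hQ]
  unfold bb
  rw [one_smul, hf]

include hF he hf hef hn hβ p in
/-- the commutator relation in `Q_e`, transported by the automorphism -/
theorem comm_rel {w w' : Vn} (hw : w ∈ Wsub n q e f) (hw' : w' ∈ Wsub n q e f) :
    hh (bt hF n e f β w) (bt hF n e f β w') - hh (bt hF n e f β w') (bt hF n e f β w) =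
      rho hF n e f β (hh w w' - hh w' w) := by
  have hn1 : 1 ≤ n := by omega
  have hQ := hβ.qe hF n he hf hef hn p
  have H := bE_spec hF n he hw.1
  have H' := bE_spec hF n he hw'.1
  obtain ⟨b, hb⟩ : ∃ b : F, b = bE n q e w := ⟨_, rfl⟩
  obtain ⟨b', hb'⟩ : ∃ b : F, b = bE n q e w' := ⟨_, rfl⟩
  rw [← hb] at H
  rw [← hb'] at H'
  obtain ⟨t, ht⟩ : ∃ t : F, t = hh w w' - hh w' w := ⟨_, rfl⟩
  have htq : t ^ q = -t := by
    rw [ht, pow_q_sub hF, hermForm_conj hF, hermForm_conj hF]
    ring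
  have Ht := EHyp_of_iso n he htq
  have hu := Es_mem_QS hF n H
  have hv := Es_mem_QS hF n H'
  have ht' := Es_mem_QS hF n Ht
  have h1 : Es hF n e w b * Es hF n e w' b' =
      Es hF n e w' b' * Es hF n e w b * Es hF n e 0 t := by
    rw [Es_mul hF n H H', Es_mul hF n H' H, Es_mul hF n (EHyp_add hF n H' H) Ht]
    apply Es_congr hF n rfl
    · abel
    · rw [ht, hermForm_zero_left]
      ring
  obtain ⟨b₁, H₁, h₁⟩ := lam_Es hF n he hf hef hn p hβ H hw.2
  obtain ⟨b₂, H₂, h₂⟩ := lam_Es hF n he hf hef hn p hβ H' hw'.2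
  obtain ⟨hρ, h₃⟩ := lam_root' hF n he hf hef hn p hβ htq
  have Hρ := EHyp_of_iso n he hρ
  have h2 := congrArg (lam n e β) h1
  rw [lam_mul hF n he hf hef hn1 hQ hu hv, lam_mul hF n he hf hef hn1 hQ (mul_mem hv hu) ht',
    lam_mul hF n he hf hef hn1 hQ hv hu, h₁, h₂, h₃, Es_mul hF n H₁ H₂, Es_mul hF n H₂ H₁,
    Es_mul hF n (EHyp_add hF n H₂ H₁) Hρ] at h2
  have hW := bt_mem_W hF n he hf hef β w
  have hW' := bt_mem_W hF n he hf hef β w'
  have h3 := (Es_inj hF n he hf hef (EHyp_add hF n H₁ H₂)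
    (by rw [hermForm_add_left, hW.2, hW'.2, add_zero])
    (EHyp_add hF n (EHyp_add hF n H₂ H₁) Hρ)
    (by rw [hermForm_add_left, hermForm_add_left, hW.2, hW'.2, hermForm_zero_left, add_zero,
      add_zero]) h2).2
  rw [hermForm_zero_left] at h3
  rw [← ht]
  linear_combination h3


include hF he hf hef in
/-- a pair of vectors of the complement with product one -/
theorem exists_W_pair (hn : 3 ≤ n) :
    ∃ w w' : Vn, w ∈ Wsub n q e f ∧ w' ∈ Wsub n q e f ∧ hh w w' = 1 := by
  obtain ⟨w, hw0, hwe, hwf⟩ := exists_W_ne_zero hF n he hf hef hn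
  obtain ⟨v, hv⟩ : ∃ v : Vn, hh w v ≠ 0 := by
    by_contra hcon
    push Not at hcon
    apply hw0
    have := (Cfsg.Agent.Lib.Helper5.HermBridge.hermSesq_nondegenerate hF n).2 w (fun v => by
      rw [Cfsg.Agent.Lib.Helper5.HermBridge.hermSesq_apply]; exact hcon v)
    exact this
  have h1 : hh w (prW n q e f v) ≠ 0 := by rw [herm_prW_right hF n hwe hwf]; exact hv
  obtain ⟨κ, -, hκ⟩ := exists_scale hF n w _ h1
  exact ⟨w, κ • prW n q e f v, ⟨hwe, hwf⟩,
    (Wsub n q e f).smul_mem κ ⟨prW_e hF n he hef v, prW_f n hf hef v⟩, hκ⟩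

include hF he hf hef hn hβ p in
/-- the induced map is a similitude and the action on the root group is its multiplier -/
theorem bt_form {σ : F ≃+* F}
    (hσ : ∀ (c : F), ∀ x ∈ Wsub n q e f, bt hF n e f β (c • x) = σ c • bt hF n e f β x) :
    ∃ κ : F, κ ≠ 0 ∧ κ ^ q = κ ∧
      (∀ t : F, t ^ q = -t → lam n e β (Es hF n e 0 t) = Es hF n e 0 (κ * σ t)) ∧
      ∀ w ∈ Wsub n q e f, ∀ w' ∈ Wsub n q e f,
        hh (bt hF n e f β w) (bt hF n e f β w') = κ * σ (hh w w') := by
  have hn1 : 1 ≤ n := by omega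
  have hQ := hβ.qe hF n he hf hef hn p
  obtain ⟨w₁, w₁', hw₁, hw₁', h11⟩ := exists_W_pair hF n he hf hef hn
  have h11' : hh w₁' w₁ = 1 := herm_fe hF h11
  obtain ⟨κ, hκ⟩ : ∃ κ : F, κ = hh (bt hF n e f β w₁) (bt hF n e f β w₁') := ⟨_, rfl⟩
  -- the basic relation
  have hE : ∀ m : F, σ m * κ - (σ m * κ) ^ q = rho hF n e f β (m - m ^ q) := by
    intro m
    have h1 := comm_rel hF n he hf hef hn p hβ ((Wsub n q e f).smul_mem m hw₁) hw₁'
    rw [hσ m w₁ hw₁, hermForm_smul_left, ← hκ, ← hermForm_conj hF n (σ m • bt hF n e f β w₁),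
      hermForm_smul_left, ← hκ, hermForm_smul_left, h11, mul_one, hermForm_smul_right, h11',
      mul_one] at h1
    exact h1
  have hκq : κ ^ q = κ := by
    have h1 := hE 1
    rw [map_one, one_mul, one_pow, sub_self, rho_zero hF n he hf hef hn p hβ] at h1
    exact (sub_eq_zero.mp h1).symm
  have hρ : ∀ t : F, t ^ q = -t → rho hF n e f β t = κ * σ t := by
    intro t ht
    obtain ⟨m, rfl⟩ := exists_sub_pow hF ht
    rw [← hE m, mul_pow, hκq, map_sub, map_pow]
    ring
  have hκ0 : κ ≠ 0 := by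
    intro h0
    obtain ⟨t, ht0, ht⟩ := exists_trace_zero hF
    have h1 := (lam_root' hF n he hf hef hn p hβ ht).2
    rw [hρ t ht, h0, zero_mul, Es_zero hF n he] at h1
    have h2 := lam_lam_inv hF n he hf hef hn1 hQ (Es_mem_QS hF n (EHyp_of_iso n he ht))
    rw [h1, lam_one hF n he hf hef hn1 (map_inv_aut _ β hQ)] at h2
    have h3 := (Es_inj hF n he hf hef (EHyp_zero hF n he) (hermForm_zero_left n q f)
      (EHyp_of_iso n he ht) (hermForm_zero_left n q f) (by rw [Es_zero hF n he]; exact h2)).2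
    exact ht0 h3.symm
  refine ⟨κ, hκ0, hκq, fun t ht => ?_, ?_⟩
  · rw [(lam_root' hF n he hf hef hn p hβ ht).2, hρ t ht]
  · -- the defect is fixed by the involution
    have hD : ∀ w ∈ Wsub n q e f, ∀ w' ∈ Wsub n q e f,
        (hh (bt hF n e f β w) (bt hF n e f β w') - κ * σ (hh w w')) ^ q =
          hh (bt hF n e f β w) (bt hF n e f β w') - κ * σ (hh w w') := by
      intro w hw w' hw'
      have h1 := comm_rel hF n he hf hef hn p hβ hw hw'
      have htq : (hh w w' - hh w' w) ^ q = -(hh w w' - hh w' w) := by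
        rw [pow_q_sub hF, hermForm_conj hF, hermForm_conj hF]
        ring
      rw [hρ _ htq, map_sub, ← hermForm_conj hF n (bt hF n e f β w) (bt hF n e f β w'),
        ← hermForm_conj hF n w w', map_pow] at h1
      rw [pow_q_sub hF, mul_pow, hκq]
      linear_combination -h1
    intro w hw w' hw'
    obtain ⟨r, hr⟩ := exists_not_fixed hF
    have h1 := hD (σ.symm r • w) ((Wsub n q e f).smul_mem _ hw) w' hw'
    rw [hσ _ w hw, hermForm_smul_left, hermForm_smul_left, map_mul, RingEquiv.apply_symm_apply] at h1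
    have h2 := hD w hw w' hw'
    obtain ⟨D, hD'⟩ : ∃ D : F, D = hh (bt hF n e f β w) (bt hF n e f β w') - κ * σ (hh w w') :=
      ⟨_, rfl⟩
    have h3 : (r * D) ^ q = r * D := by
      rw [hD']
      have e1 : r * (hh (bt hF n e f β w) (bt hF n e f β w') - κ * σ (hh w w')) =
          r * hh (bt hF n e f β w) (bt hF n e f β w') - κ * (r * σ (hh w w')) := by ring
      rw [e1]
      exact h1
    rw [← hD'] at h2
    rw [mul_pow, h2] at h3
    have h4 : (r ^ q - r) * D = 0 := by linear_combination h3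
    rcases mul_eq_zero.mp h4 with h5 | h5
    · exact absurd (sub_eq_zero.mp h5) hr
    · rw [hD'] at h5
      exact sub_eq_zero.mp h5

end aut

end pair

end Cfsg.Agent.Lib.Helper9.APSU
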