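import Mathlib
import Cfsg.Prelude
import Cfsg.Agent.Lib.Helper9.APSU15

/-! Automorphisms of `PSU_n(q)`, part 16: the exact action of the automorphism on `Q_e`. -/

set_option autoImplicit false
open Cfsg

namespace Cfsg.Agent.Lib.Helper9.APSU

open Matrix Cfsg.Agent.Lib.Helper5.Herm Cfsg.Agent.Lib.Helper5.HermBlock
  Cfsg.Agent.Lib.Helper5.HermTv Cfsg.Agent.Lib.Helper5.HermEich Cfsg.Agent.Lib.Helper5.HermSU
  Cfsg.Agent.Lib.Helper5.HermSimple

attribute [local instance 2000] suSMul suAction suSMulComm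

variable {F : Type*} [Field F] [Fintype F] {q : ℕ} (hF : Fintype.card F = q ^ 2) (n : ℕ)

set_option quotPrecheck false
local notation "Vn" => (Fin n → F)
local notation "GUn" => ↥(Cfsg.GU n F q)
local notation "SUn" => ↥(Cfsg.SU n F q)
local notation "PSUn" => Cfsg.PSU n F q
local notation "hh" => hermForm n F q

/-- the data of the semilinear similitude induced on the complement -/
structure SimData (e f : Fin n → F) (β : MulAut (Cfsg.PSU n F q)) (σ : F ≃+* F) (κ : F) : Prop where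
  semi : ∀ (c : F), ∀ x ∈ Wsub n q e f, bt hF n e f β (c • x) = σ c • bt hF n e f β x
  k0 : κ ≠ 0
  kq : κ ^ q = κ
  root : ∀ t : F, t ^ q = -t → lam n e β (Es hF n e 0 t) = Es hF n e 0 (κ * σ t)
  form : ∀ w ∈ Wsub n q e f, ∀ w' ∈ Wsub n q e f,
    hermForm n F q (bt hF n e f β w) (bt hF n e f β w') = κ * σ (hermForm n F q w w')

/-- the defect of the central coordinate -/
noncomputable def th (e f : Fin n → F) (β : MulAut (Cfsg.PSU n F q)) (σ : F ≃+* F) (κ : F)
    (w : Fin n → F) : F :=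
  bb n f (lam n e β (Ee hF n e w)) - κ * σ (bE n q e w)

include hF in
/-- an element of norm one whose associated ratio is not one -/
theorem exists_norm_one_rho (hq2 : q ≠ 2) :
    ∃ a : F, a ≠ 0 ∧ a ^ (q + 1) = 1 ∧ a ^ q * (a ^ q / a) ≠ 1 := by
  classical
  have hq := two_le_q hF
  obtain ⟨g, hg⟩ := IsCyclic.exists_generator (α := Fˣ)
  have hord : orderOf g = q ^ 2 - 1 := by
    rw [orderOf_eq_card_of_forall_mem_zpowers hg, Nat.card_eq_fintype_card, Fintype.card_units, hF]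
  have h4 : q ^ 2 - 1 = (q + 1) * (q - 1) := by
    have : q ^ 2 = (q + 1) * (q - 1) + 1 := by
      obtain ⟨k, rfl⟩ : ∃ k, q = k + 2 := ⟨q - 2, by omega⟩
      have : k + 2 - 1 = k + 1 := by omega
      rw [this]
      ring
    omega
  have hg0 : (g : F) ≠ 0 := g.ne_zero
  have ha0 : (g : F) ^ (q - 1) ≠ 0 := pow_ne_zero _ hg0
  refine ⟨(g : F) ^ (q - 1), ha0, ?_, ?_⟩
  · rw [← pow_mul, mul_comm, ← h4, ← hF, FiniteField.pow_card_sub_one_eq_one _ hg0]
  · intro h
    have e1 : ((g : F) ^ (q - 1)) ^ q * (((g : F) ^ (q - 1)) ^ q / (g : F) ^ (q - 1)) =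
        ((g : F) ^ (q - 1)) ^ (2 * q - 1) := by
      have : ((g : F) ^ (q - 1)) ^ (2 * q - 1) * (g : F) ^ (q - 1) =
          ((g : F) ^ (q - 1)) ^ q * ((g : F) ^ (q - 1)) ^ q := by
        rw [← pow_succ, ← pow_add]
        congr 1
        omega
      field_simp
      linear_combination -this
    rw [e1, ← pow_mul] at h
    have h2 : g ^ ((q - 1) * (2 * q - 1)) = 1 := by
      apply Units.ext
      rw [Units.val_pow_eq_pow_val, h, Units.val_one]
    have h3 := orderOf_dvd_of_pow_eq_one h2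
    rw [hord, h4, mul_comm (q + 1)] at h3
    have h5 : (q + 1) ∣ (2 * q - 1) := Nat.dvd_of_mul_dvd_mul_left (by omega) h3
    have h6 : (q + 1) ∣ 3 := by
      have : 2 * (q + 1) = (2 * q - 1) + 3 := by omega
      have h7 : (q + 1) ∣ 2 * (q + 1) := Dvd.intro_left 2 rfl
      rw [this] at h7
      exact (Nat.dvd_add_right h5).mp h7
    have h8 := Nat.le_of_dvd (by omega) h6
    omega

section pair
variable {e f : Fin n → F} (he : hermForm n F q e e = 0) (hf : hermForm n F q f f = 0)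
  (hef : hermForm n F q e f = 1)

section aut
variable (hn : 3 ≤ n) (p : ℕ) [Fact p.Prime] [CharP F p] {β : MulAut (Cfsg.PSU n F q)}
  (hβ : Fix2 hF n he hf β) {σ : F ≃+* F} {κ : F} (hS : SimData hF n e f β σ κ)

include hF he hf hef hS in
/-- the image of admissible parameters is admissible -/
theorem EHyp_img {w : Vn} (hw : w ∈ Wsub n q e f) {b : F} (H : EHyp n q e w b) (t : F)
    (ht : t ^ q = -t) :
    EHyp n q e (bt hF n e f β w) (κ * σ b + t) := by
  refine ⟨he, ?_, ?_⟩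
  · exact (bt_mem_W hF n he hf hef β w).1
  · rw [hS.form w hw w hw, pow_q_add hF, mul_pow, hS.kq, ht, ← map_pow]
    have h1 := congrArg (fun x => κ * σ x) H.hb
    simp only [map_add, map_zero, mul_zero] at h1
    linear_combination h1


omit [Fintype F] in
theorem Lam_zero (l : SUn) : Lam n q e f l 0 = 0 := by
  unfold Lam
  rw [smul_zero, smul_zero]

include hF he hf hef hn hβ p hS in
/-- the action on `Q_e`, up to the defect -/
theorem lam_Es_th {w : Vn} (hw : w ∈ Wsub n q e f) {b : F} (H : EHyp n q e w b) :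
    (th hF n e f β σ κ w) ^ q = -th hF n e f β σ κ w ∧
      lam n e β (Es hF n e w b) =
        Es hF n e (bt hF n e f β w) (κ * σ b + th hF n e f β σ κ w) := by
  have hn1 : 1 ≤ n := by omega
  have hQ := hβ.qe hF n he hf hef hn p
  have H0 := bE_spec hF n he hw.1
  obtain ⟨b₁, H₁, h₁⟩ := lam_Es hF n he hf hef hn p hβ H0 hw.2
  have hbtW := bt_mem_W hF n he hf hef β w
  have hth : th hF n e f β σ κ w = b₁ - κ * σ (bE n q e w) := by
    unfold th Ee
    rw [h₁, bb_Es hF n he hf hef H₁ hbtW.2]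
  have hthq : (th hF n e f β σ κ w) ^ q = -th hF n e f β σ κ w := by
    rw [hth, pow_q_sub hF, mul_pow, hS.kq, ← map_pow]
    have h1 := congrArg (fun x => κ * σ x) H0.hb
    simp only [map_add, map_zero, mul_zero] at h1
    have h2 := H₁.hb
    rw [hS.form w hw w hw] at h2
    linear_combination h2 - h1
  refine ⟨hthq, ?_⟩
  obtain ⟨t, ht⟩ : ∃ t : F, t = b - bE n q e w := ⟨_, rfl⟩
  have htq : t ^ q = -t := by
    rw [ht, pow_q_sub hF]
    linear_combination H.hb - H0.hb
  have Ht := EHyp_of_iso n he htq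
  have h1 : Es hF n e w b = Es hF n e w (bE n q e w) * Es hF n e 0 t := by
    rw [Es_mul hF n H0 Ht]
    apply Es_congr hF n rfl (by rw [add_zero])
    rw [ht, hermForm_zero_left]
    ring
  have hκt : (κ * σ t) ^ q = -(κ * σ t) := by
    rw [mul_pow, hS.kq, ← map_pow, htq, map_neg, mul_neg]
  rw [h1, lam_mul hF n he hf hef hn1 hQ (Es_mem_QS hF n H0) (Es_mem_QS hF n Ht), h₁, hS.root t htq,
    Es_mul hF n H₁ (EHyp_of_iso n he hκt)]
  apply Es_congr hF n rfl (by rw [add_zero])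
  rw [hth, ht, hermForm_zero_left, map_sub]
  ring

include hF he hf hef hn hβ p hS in
theorem th_add {w w' : Vn} (hw : w ∈ Wsub n q e f) (hw' : w' ∈ Wsub n q e f) :
    th hF n e f β σ κ (w + w') = th hF n e f β σ κ w + th hF n e f β σ κ w' := by
  have hn1 : 1 ≤ n := by omega
  have hQ := hβ.qe hF n he hf hef hn p
  have H := bE_spec hF n he hw.1
  have H' := bE_spec hF n he hw'.1
  obtain ⟨b, hb⟩ : ∃ b : F, b = bE n q e w := ⟨_, rfl⟩
  obtain ⟨b', hb'⟩ : ∃ b : F, b = bE n q e w' := ⟨_, rfl⟩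
  rw [← hb] at H
  rw [← hb'] at H'
  have hww' := (Wsub n q e f).add_mem hw hw'
  have H'' := EHyp_add hF n H H'
  obtain ⟨hq1, h1⟩ := lam_Es_th hF n he hf hef hn p hβ hS hw H
  obtain ⟨hq2, h2⟩ := lam_Es_th hF n he hf hef hn p hβ hS hw' H'
  obtain ⟨hq3, h3⟩ := lam_Es_th hF n he hf hef hn p hβ hS hww' H''
  have G1 := EHyp_img hF n he hf hef hS hw H _ hq1
  have G2 := EHyp_img hF n he hf hef hS hw' H' _ hq2
  have G3 := EHyp_img hF n he hf hef hS hww' H'' _ hq3
  have h4 := congrArg (lam n e β) (Es_mul hF n H H')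
  rw [lam_mul hF n he hf hef hn1 hQ (Es_mem_QS hF n H) (Es_mem_QS hF n H'), h1, h2, h3,
    Es_mul hF n G1 G2] at h4
  have hW := bt_mem_W hF n he hf hef β w
  have hW' := bt_mem_W hF n he hf hef β w'
  have hW'' := bt_mem_W hF n he hf hef β (w + w')
  have h5 := (Es_inj hF n he hf hef (EHyp_add hF n G1 G2)
    (by rw [hermForm_add_left, hW.2, hW'.2, add_zero]) G3 hW''.2 h4).2
  rw [hS.form w' hw' w hw, map_sub, map_add] at h5
  linear_combination -h5

include hF he hf hef hn hβ p hS in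
theorem th_zero_vec : th hF n e f β σ κ 0 = 0 := by
  have h := th_add hF n he hf hef hn p hβ hS (Wsub n q e f).zero_mem (Wsub n q e f).zero_mem
  rw [add_zero] at h
  have : th hF n e f β σ κ 0 + th hF n e f β σ κ 0 = th hF n e f β σ κ 0 + 0 := by
    rw [← h, add_zero]
  exact add_left_cancel this

include hF he hf hef hn hβ p hS in
/-- the defect is invariant under the part of the Levi factor centralising the root group -/
theorem th_Lam {l : SUn} (hl : l ∈ LS n q e f) {a : F} (ha : l • e = a • e)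
    (ha1 : a ^ (q + 1) = 1) {w : Vn} (hw : w ∈ Wsub n q e f) :
    th hF n e f β σ κ (Lam n q e f l w) = th hF n e f β σ κ w := by
  have hn1 : 1 ≤ n := by omega
  have hQ := hβ.qe hF n he hf hef hn p
  have ha0 : a ≠ 0 := by
    rintro rfl
    rw [zero_pow (by omega)] at ha1
    exact zero_ne_one ha1
  obtain ⟨l', hl'⟩ := mkU_surjective n (β (mkU n l))
  have hll' : β (mkU n l) = mkU n l' := hl'.symm
  have hl'L := lift_mem_LS hF n he hf hef hn hβ hl hll'
  obtain ⟨⟨a', ha'0, ha'⟩, -⟩ := id hl'L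
  -- the lift also centralises the root group
  have ha'1 : a' ^ (q + 1) = 1 := by
    obtain ⟨t, ht0, ht⟩ := exists_trace_zero hF
    have Ht := EHyp_of_iso n he ht
    have hκt : (κ * σ t) ^ q = -(κ * σ t) := by
      rw [mul_pow, hS.kq, ← map_pow, ht, map_neg, mul_neg]
    have Hκt := EHyp_of_iso n he hκt
    obtain ⟨-, -, h1⟩ := conj_Es hF n he hf hef hl ha0 ha Ht (hermForm_zero_left n q f)
    obtain ⟨G2, -, h2⟩ := conj_Es hF n he hf hef hl'L ha'0 ha' Hκt (hermForm_zero_left n q f)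
    rw [Lam_zero, ha1, one_mul] at h1
    rw [Lam_zero] at h2 G2
    have h3 := lam_conj_LS hF n he hf hef hn p hβ hl hll' (Es_mem_QS hF n Ht)
    rw [h1, hS.root t ht, h2] at h3
    have h4 := (Es_inj hF n he hf hef Hκt (hermForm_zero_left n q f) G2
      (hermForm_zero_left n q f) h3).2
    have h5 : κ * σ t ≠ 0 :=
      mul_ne_zero hS.k0 (by rw [Ne, map_eq_zero_iff σ σ.injective]; exact ht0)
    have h6 : (a' ^ (q + 1) - 1) * (κ * σ t) = 0 := by linear_combination -h4
    rcases mul_eq_zero.mp h6 with h7 | h7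
    · exact sub_eq_zero.mp h7
    · exact absurd h7 h5
  have H := bE_spec hF n he hw.1
  obtain ⟨b, hb⟩ : ∃ b : F, b = bE n q e w := ⟨_, rfl⟩
  rw [← hb] at H
  obtain ⟨G1, hG1f, h1⟩ := conj_Es hF n he hf hef hl ha0 ha H hw.2
  rw [ha1, one_mul] at G1 h1
  have hLW := Lam_mem_W hF n hef hl hw
  obtain ⟨hq1, h2⟩ := lam_Es_th hF n he hf hef hn p hβ hS hLW G1
  obtain ⟨hq0, h3⟩ := lam_Es_th hF n he hf hef hn p hβ hS hw H
  have G3 := EHyp_img hF n he hf hef hS hw H _ hq0
  have hW := bt_mem_W hF n he hf hef β w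
  obtain ⟨G4, hG4f, h4⟩ := conj_Es hF n he hf hef hl'L ha'0 ha' G3 hW.2
  rw [ha'1, one_mul] at G4 h4
  have h5 := lam_conj_LS hF n he hf hef hn p hβ hl hll' (Es_mem_QS hF n H)
  rw [h1, h2, h3, h4, bt_Lam hF n he hf hef hn p hβ hl hll' hw] at h5
  have G5 := EHyp_img hF n he hf hef hS hLW G1 _ hq1
  rw [bt_Lam hF n he hf hef hn p hβ hl hll' hw] at G5
  have h6 := (Es_inj hF n he hf hef G5 hG4f G4 hG4f h5).2
  linear_combination h6


include hF he hf hef hn hβ p hS in
theorem th_neg {w : Vn} (hw : w ∈ Wsub n q e f) :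
    th hF n e f β σ κ (-w) = -th hF n e f β σ κ w := by
  have h := th_add hF n he hf hef hn p hβ hS hw ((Wsub n q e f).neg_mem hw)
  rw [add_neg_cancel, th_zero_vec hF n he hf hef hn p hβ hS] at h
  exact (neg_eq_of_add_eq_zero_right h.symm).symm

include hF he hf hef hn hβ p hS in
/-- the defect vanishes on the differences `Lam l w - w` -/
theorem th_Lam_sub {l : SUn} (hl : l ∈ LS n q e f) {a : F} (ha : l • e = a • e)
    (ha1 : a ^ (q + 1) = 1) {w : Vn} (hw : w ∈ Wsub n q e f) :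
    th hF n e f β σ κ (Lam n q e f l w - w) = 0 := by
  rw [sub_eq_add_neg, th_add hF n he hf hef hn p hβ hS (Lam_mem_W hF n hef hl hw)
    ((Wsub n q e f).neg_mem hw), th_neg hF n he hf hef hn p hβ hS hw,
    th_Lam hF n he hf hef hn p hβ hS hl ha ha1 hw, add_neg_cancel]

include hF he hf hef hn hβ p hS in
/-- the defect vanishes -/
theorem th_zero (h32 : ¬ (n = 3 ∧ q = 2)) {w : Vn} (hw : w ∈ Wsub n q e f) :
    th hF n e f β σ κ w = 0 := by
  by_cases h4 : 4 ≤ n
  · -- isotropic vectors of the complement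
    have hiso : ∀ y : Vn, hh y y = 0 → y ∈ Wsub n q e f → th hF n e f β σ κ y = 0 := by
      intro y hy hyW
      by_cases hy0 : y = 0
      · rw [hy0]
        exact th_zero_vec hF n he hf hef hn p hβ hS
      obtain ⟨y', hy', hyy', hy'e, hy'f⟩ := exists_partner_W hF n he hf hef hy0 hy hyW.1 hyW.2
      have hy'W : y' ∈ Wsub n q e f := ⟨hy'e, hy'f⟩
      have hy'y : hh y' y = 1 := herm_fe hF hyy'
      obtain ⟨c, hc0, hc⟩ := exists_trace_zero hF
      obtain ⟨l, hl, hle, hlw⟩ := exists_L_root hF n he hf hef hy hyW hc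
      have h1 := th_Lam_sub hF n he hf hef hn p hβ hS hl (a := 1) (by rw [hle, one_smul])
        (one_pow _) ((Wsub n q e f).smul_mem c⁻¹ hy'W)
      rw [hlw, hermForm_smul_left, hy'y, mul_one, mul_inv_cancel₀ hc0, one_smul,
        add_sub_cancel_left] at h1
      exact h1
    obtain ⟨s1, s2, s3, hws, ⟨h1, h1e, h1f⟩, ⟨h2, h2e, h2f⟩, ⟨h3, h3e, h3f⟩⟩ :=
      W_iso_sum hF n he hf hef h4 hw.1 hw.2
    have hs1W : s1 ∈ Wsub n q e f := ⟨h1e, h1f⟩
    have hs2W : s2 ∈ Wsub n q e f := ⟨h2e, h2f⟩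
    have hs3W : s3 ∈ Wsub n q e f := ⟨h3e, h3f⟩
    rw [hws, th_add hF n he hf hef hn p hβ hS ((Wsub n q e f).add_mem hs1W hs2W) hs3W,
      th_add hF n he hf hef hn p hβ hS hs1W hs2W, hiso s1 h1 hs1W, hiso s2 h2 hs2W,
      hiso s3 h3 hs3W]
    ring
  · have hn3 : n = 3 := by omega
    have hq2 : q ≠ 2 := fun h => h32 ⟨hn3, h⟩
    obtain ⟨w0, hw00, hw0e, hw0f⟩ := exists_W_ne_zero hF n he hf hef (by omega)
    have hw0W : w0 ∈ Wsub n q e f := ⟨hw0e, hw0f⟩
    have hline : ∀ w ∈ Wsub n q e f, ∃ m : F, w = m • w0 :=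
      fun w hw => W_line hF n he hf hef hn3 hw00 hw0e hw0f hw.1 hw.2
    have hd : hh w0 w0 ≠ 0 := by
      intro h0
      apply hw00
      apply (Cfsg.Agent.Lib.Helper5.HermBridge.hermSesq_nondegenerate hF n).2 w0
      intro v
      rw [Cfsg.Agent.Lib.Helper5.HermBridge.hermSesq_apply,
        ← herm_prW_right hF n hw0e hw0f (e := e) (f := f)]
      obtain ⟨m, hm⟩ := hline _ ⟨prW_e hF n he hef v, prW_f n hf hef v⟩
      rw [hm, hermForm_smul_right, h0, mul_zero]
    obtain ⟨a, ha0, ha1, har⟩ := exists_norm_one_rho hF hq2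
    obtain ⟨l, hl, hle, hlw⟩ := exists_L_line hF n he hf hef hw0W hd ha0
    obtain ⟨r, hr⟩ : ∃ r : F, r = a ^ q * (a ^ q / a) := ⟨_, rfl⟩
    rw [← hr] at har hlw
    obtain ⟨m, rfl⟩ := hline w hw
    have hr1 : r - 1 ≠ 0 := sub_ne_zero.mpr har
    have h1 := th_Lam_sub hF n he hf hef hn p hβ hS hl hle ha1
      ((Wsub n q e f).smul_mem (m / (r - 1)) hw0W)
    rw [hlw] at h1
    have e1 : (r * (m / (r - 1))) • w0 - (m / (r - 1)) • w0 = m • w0 := by
      rw [← sub_smul]
      congr 1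
      field_simp
    rw [e1] at h1
    exact h1

include hF he hf hef hn hβ p hS in
/-- the exact action of the automorphism on `Q_e` -/
theorem lam_exact (h32 : ¬ (n = 3 ∧ q = 2)) {w : Vn} (hw : w ∈ Wsub n q e f) {b : F}
    (H : EHyp n q e w b) :
    lam n e β (Es hF n e w b) = Es hF n e (bt hF n e f β w) (κ * σ b) := by
  rw [(lam_Es_th hF n he hf hef hn p hβ hS hw H).2, th_zero hF n he hf hef hn p hβ hS h32 hw,
    add_zero]

end aut

end pair

end Cfsg.Agent.Lib.Helper9.APSU
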