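import Mathlib
import Cfsg.Prelude
import Cfsg.Agent.Lib.Helper9.APSU16

/-! Automorphisms of `PSU_n(q)`, part 17: the semilinear similitude attached to an automorphism
fixing two opposite root groups. -/

set_option autoImplicit false
open Cfsg

namespace Cfsg.Agent.Lib.Helper9.APSU

open Matrix Cfsg.Agent.Lib.Helper5.Herm Cfsg.Agent.Lib.Helper5.HermBlock
  Cfsg.Agent.Lib.Helper5.HermTv Cfsg.Agent.Lib.Helper5.HermEich Cfsg.Agent.Lib.Helper5.HermSU
  Cfsg.Agent.Lib.Helper5.HermSimple

attribute [local instance 2000] suSMul suAction suSMulComm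

variable {F : Type*} [Field F] [Fintype F] {q : ℕ} (hF : Fintype.card F = q ^ 2) (n : ℕ)

set_option quotPrecheck false
local notation "Vn" => (Fin n → F)
local notation "GUn" => ↥(Cfsg.GU n F q)
local notation "SUn" => ↥(Cfsg.SU n F q)
local notation "PSUn" => Cfsg.PSU n F q
local notation "hh" => hermForm n F q

/-- the semilinear similitude assembled from the data -/
noncomputable def gam (e f : Fin n → F) (β : MulAut (Cfsg.PSU n F q)) (σ : F ≃+* F) (κ : F)
    (v : Fin n → F) : Fin n → F :=
  (κ * σ (hermForm n F q v f)) • e + σ (hermForm n F q v e) • f +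
    bt hF n e f β (prW n q e f v)

/-- the elements of `SU` on which the automorphism is conjugation by the map `γ` -/
def PhiS (γ : (Fin n → F) → (Fin n → F)) (β : MulAut (Cfsg.PSU n F q)) :
    Subgroup ↥(Cfsg.SU n F q) where
  carrier := {s | ∃ s' : ↥(Cfsg.SU n F q), (∀ v, s' • γ v = γ (s • v)) ∧ β (mkU n s) = mkU n s'}
  one_mem' := ⟨1, fun v => by rw [one_smul, one_smul], by simp⟩
  mul_mem' := by
    rintro s t ⟨s', hs, hs'⟩ ⟨t', ht, ht'⟩
    refine ⟨s' * t', fun v => ?_, by rw [map_mul, map_mul, map_mul, hs', ht']⟩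
    rw [mul_smul, ht, hs, mul_smul]
  inv_mem' := by
    rintro s ⟨s', hs, hs'⟩
    refine ⟨s'⁻¹, fun v => ?_, by rw [map_inv, map_inv, map_inv, hs']⟩
    have h1 := hs (s⁻¹ • v)
    rw [smul_inv_smul] at h1
    rw [← h1, inv_smul_smul]

section pair
variable {e f : Fin n → F} (he : hermForm n F q e e = 0) (hf : hermForm n F q f f = 0)
  (hef : hermForm n F q e f = 1)

section aut
variable (hn : 3 ≤ n) (p : ℕ) [Fact p.Prime] [CharP F p] {β : MulAut (Cfsg.PSU n F q)}
  (hβ : Fix2 hF n he hf β) {σ : F ≃+* F} {κ : F} (hS : SimData hF n e f β σ κ)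

include hF he hf hef hn hβ p in
theorem gam_add (u v : Vn) :
    gam hF n e f β σ κ (u + v) = gam hF n e f β σ κ u + gam hF n e f β σ κ v := by
  unfold gam
  rw [hermForm_add_left, hermForm_add_left, map_add, map_add, prW_add,
    bt_add hF n he hf hef hn p hβ ⟨prW_e hF n he hef u, prW_f n hf hef u⟩
      ⟨prW_e hF n he hef v, prW_f n hf hef v⟩]
  module

include hF he hf hef hS in
theorem gam_smul (c : F) (v : Vn) :
    gam hF n e f β σ κ (c • v) = σ c • gam hF n e f β σ κ v := by
  unfold gam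
  rw [hermForm_smul_left, hermForm_smul_left, map_mul, map_mul, prW_smul,
    hS.semi c _ ⟨prW_e hF n he hef v, prW_f n hf hef v⟩]
  module

include hF he hf hef hS in
theorem gam_form (u v : Vn) :
    hh (gam hF n e f β σ κ u) (gam hF n e f β σ κ v) = κ * σ (hh u v) := by
  have hfe : hh f e = 1 := herm_fe hF hef
  have hWu : prW n q e f u ∈ Wsub n q e f := ⟨prW_e hF n he hef u, prW_f n hf hef u⟩
  have hWv : prW n q e f v ∈ Wsub n q e f := ⟨prW_e hF n he hef v, prW_f n hf hef v⟩
  have hbu := bt_mem_W hF n he hf hef β (prW n q e f u)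
  have hbv := bt_mem_W hF n he hf hef β (prW n q e f v)
  have h1 : hh e (bt hF n e f β (prW n q e f v)) = 0 := herm_symm_zero hF n hbv.1
  have h2 : hh f (bt hF n e f β (prW n q e f v)) = 0 := herm_symm_zero hF n hbv.2
  have h3 : hh u v = hh (prW n q e f u) (prW n q e f v) + hh u f * (hh v e) ^ q +
      hh u e * (hh v f) ^ q := by
    conv_lhs => rw [prW_decomp n u (q := q) (e := e) (f := f), prW_decomp n v (q := q) (e := e) (f := f)]
    have g1 : hh e (prW n q e f v) = 0 := herm_symm_zero hF n hWv.1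
    have g2 : hh f (prW n q e f v) = 0 := herm_symm_zero hF n hWv.2
    simp only [hermForm_add_left, hermForm_add_right hF, hermForm_smul_left, hermForm_smul_right,
      he, hf, hef, hfe, hWu.1, hWu.2, g1, g2]
    ring
  unfold gam
  simp only [hermForm_add_left, hermForm_add_right hF, hermForm_smul_left, hermForm_smul_right,
    he, hf, hef, hfe, hbu.1, hbu.2, h1, h2, hS.form _ hWu _ hWv]
  rw [h3, map_add, map_add, map_mul, map_mul, map_pow, map_pow, mul_pow, hS.kq]
  ring

include hF he hf hef hn hβ p in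
theorem gam_e : gam hF n e f β σ κ e = κ • e := by
  unfold gam
  rw [hef, he, prW_self_e n he hef, bt_zero hF n he hf hef hn p hβ, map_one, map_zero]
  module

include hF he hf hef hn hβ p in
theorem gam_f : gam hF n e f β σ κ f = f := by
  unfold gam
  rw [hf, herm_fe hF hef, prW_self_f hF n hf hef, bt_zero hF n he hf hef hn p hβ, map_one, map_zero]
  module

theorem gam_W {w : Vn} (hw : w ∈ Wsub n q e f) :
    gam hF n e f β σ κ w = bt hF n e f β w := by
  unfold gam
  rw [hw.1, hw.2, prW_of_mem n hw.1 hw.2, map_zero]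
  module

include hF he hf hef hn hβ p in
theorem gam_zero : gam hF n e f β σ κ 0 = 0 := by
  have h := gam_add hF n he hf hef hn p hβ (σ := σ) (κ := κ) 0 0
  rw [add_zero] at h
  have : gam hF n e f β σ κ 0 + gam hF n e f β σ κ 0 = gam hF n e f β σ κ 0 + 0 := by
    rw [← h, add_zero]
  exact add_left_cancel this

include hF he hf hef hn hβ p hS in
theorem gam_bijective : Function.Bijective (gam hF n e f β σ κ) := by
  have hinj : Function.Injective (gam hF n e f β σ κ) := by
    intro u v huv
    have h1 : ∀ x : Vn, hh (u - v) x = 0 := by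
      intro x
      have h2 := gam_form hF n he hf hef hS (u - v) x
      have h3 : gam hF n e f β σ κ (u - v) = 0 := by
        have h4 := gam_add hF n he hf hef hn p hβ (σ := σ) (κ := κ) (u - v) v
        rw [sub_add_cancel, huv] at h4
        have : 0 + gam hF n e f β σ κ v = gam hF n e f β σ κ (u - v) + gam hF n e f β σ κ v := by
          rw [zero_add]; exact h4
        exact (add_right_cancel this).symm
      rw [h3, hermForm_zero_left] at h2
      rcases mul_eq_zero.mp h2.symm with h5 | h5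
      · exact absurd h5 hS.k0
      · exact (map_eq_zero_iff σ σ.injective).mp h5
    have h6 : u - v = 0 := by
      apply (Cfsg.Agent.Lib.Helper5.HermBridge.hermSesq_nondegenerate hF n).2 (u - v)
      intro x
      rw [Cfsg.Agent.Lib.Helper5.HermBridge.hermSesq_apply]
      exact h1 x
    exact sub_eq_zero.mp h6
  exact ⟨hinj, Finite.injective_iff_surjective.mp hinj⟩

include hF he hf hef hn hβ p hS in
/-- conjugation of an Eichler element by the similitude -/
theorem gam_Es {x w : Vn} {b : F} (H : EHyp n q x w b) :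
    EHyp n q (gam hF n e f β σ κ x) (κ⁻¹ • gam hF n e f β σ κ w) (κ⁻¹ * σ b) ∧
    ∀ v : Vn, Es hF n (gam hF n e f β σ κ x) (κ⁻¹ • gam hF n e f β σ κ w) (κ⁻¹ * σ b) •
      gam hF n e f β σ κ v = gam hF n e f β σ κ (Es hF n x w b • v) := by
  have hk0 := hS.k0
  have hkiq : (κ⁻¹) ^ q = κ⁻¹ := by rw [inv_pow, hS.kq]
  have H' : EHyp n q (gam hF n e f β σ κ x) (κ⁻¹ • gam hF n e f β σ κ w) (κ⁻¹ * σ b) := by
    refine ⟨?_, ?_, ?_⟩
    · rw [gam_form hF n he hf hef hS, H.hx, map_zero, mul_zero]
    · rw [hermForm_smul_left, gam_form hF n he hf hef hS, H.hwx, map_zero, mul_zero, mul_zero]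
    · rw [hermForm_smul_left, hermForm_smul_right, gam_form hF n he hf hef hS, mul_pow, hkiq,
        ← map_pow]
      have h1 := congrArg (fun x => κ⁻¹ * σ x) H.hb
      simp only [map_add, map_zero, mul_zero] at h1
      field_simp
      field_simp at h1
      linear_combination h1
  refine ⟨H', fun v => ?_⟩
  rw [Es_smul hF n H', Es_smul hF n H, gam_add hF n he hf hef hn p hβ,
    gam_add hF n he hf hef hn p hβ, gam_smul hF n he hf hef hS, gam_smul hF n he hf hef hS,
    hermForm_smul_right, gam_form hF n he hf hef hS, gam_form hF n he hf hef hS, hkiq, map_sub,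
    map_mul]
  obtain ⟨X, hX⟩ : ∃ X : Vn, X = gam hF n e f β σ κ x := ⟨_, rfl⟩
  obtain ⟨W, hW⟩ : ∃ W : Vn, W = gam hF n e f β σ κ w := ⟨_, rfl⟩
  obtain ⟨V, hV⟩ : ∃ V : Vn, V = gam hF n e f β σ κ v := ⟨_, rfl⟩
  rw [← hX, ← hW, ← hV]
  have e1 : κ * σ (hh v x) * κ⁻¹ = σ (hh v x) := by field_simp
  have e2 : κ⁻¹ * σ b * (κ * σ (hh v x)) - κ⁻¹ * (κ * σ (hh v w)) =
      σ b * σ (hh v x) - σ (hh v w) := by field_simp
  rw [smul_smul, e1, e2]

end aut

end pair

end Cfsg.Agent.Lib.Helper9.APSU
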