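import Mathlib
import Cfsg.Prelude
import Cfsg.Agent.Lib.Helper9.APSU17

/-! Automorphisms of `PSU_n(q)`, part 18: an automorphism fixing two opposite root groups is
conjugation by a semilinear similitude. -/

set_option autoImplicit false
open Cfsg

namespace Cfsg.Agent.Lib.Helper9.APSU

open Matrix Cfsg.Agent.Lib.Helper5.Herm Cfsg.Agent.Lib.Helper5.HermBlock
  Cfsg.Agent.Lib.Helper5.HermTv Cfsg.Agent.Lib.Helper5.HermEich Cfsg.Agent.Lib.Helper5.HermSU
  Cfsg.Agent.Lib.Helper5.HermSimple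

attribute [local instance 2000] suSMul suAction suSMulComm

variable {F : Type*} [Field F] [Fintype F] {q : ℕ} (hF : Fintype.card F = q ^ 2) (n : ℕ)

set_option quotPrecheck false
local notation "Vn" => (Fin n → F)
local notation "GUn" => ↥(Cfsg.GU n F q)
local notation "SUn" => ↥(Cfsg.SU n F q)
local notation "PSUn" => Cfsg.PSU n F q
local notation "hh" => hermForm n F q

/-- transport of a conjugate subgroup by an automorphism -/
theorem map_conj_aut {G : Type*} [Group G] (K : Subgroup G) (β : MulAut G) (g : G) :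
    (K.map ((MulAut.conj g : MulAut G) : G ≃* G).toMonoidHom).map (β : G ≃* G).toMonoidHom =
      (K.map (β : G ≃* G).toMonoidHom).map ((MulAut.conj (β g) : MulAut G) : G ≃* G).toMonoidHom := by
  ext z
  constructor
  · rintro ⟨y, ⟨x, hx, rfl⟩, rfl⟩
    exact ⟨β x, ⟨x, hx, rfl⟩, by simp [MulAut.conj_apply]⟩
  · rintro ⟨y, ⟨x, hx, rfl⟩, rfl⟩
    exact ⟨MulAut.conj g x, ⟨x, hx, rfl⟩, by simp [MulAut.conj_apply]⟩

section pair
variable {e f : Fin n → F} (he : hermForm n F q e e = 0) (hf : hermForm n F q f f = 0)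
  (hef : hermForm n F q e f = 1)

section aut
variable (hn : 3 ≤ n) (p : ℕ) [Fact p.Prime] [CharP F p] {β : MulAut (Cfsg.PSU n F q)}
  (hβ : Fix2 hF n he hf β) {σ : F ≃+* F} {κ : F} (hS : SimData hF n e f β σ κ)

include hF he hf hef hn hβ p hS in
theorem QS_le_PhiS (h32 : ¬ (n = 3 ∧ q = 2)) :
    QS (q := q) n e ≤ PhiS n (gam hF n e f β σ κ) β := by
  intro u hu
  have hn1 : 1 ≤ n := by omega
  have hQ := hβ.qe hF n he hf hef hn p
  obtain ⟨H, hwf, hu'⟩ := QS_eq_Es hF n he hf hef hu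
  obtain ⟨w, hw⟩ : ∃ w : Vn, w = om n e f u := ⟨_, rfl⟩
  obtain ⟨b, hb⟩ : ∃ b : F, b = bb n f u := ⟨_, rfl⟩
  rw [← hw, ← hb] at H hu'
  rw [← hw] at hwf
  have hwW : w ∈ Wsub n q e f := ⟨H.hwx, hwf⟩
  obtain ⟨H', hsim⟩ := gam_Es hF n he hf hef hn p hβ hS H
  rw [gam_e hF n he hf hef hn p hβ, gam_W hF n hwW] at H' hsim
  have h1 := Es_smul_centre hF n hS.k0 H'
  have h2 : Es hF n e (κ ^ q • κ⁻¹ • bt hF n e f β w) (κ ^ (q + 1) * (κ⁻¹ * σ b)) =
      Es hF n e (bt hF n e f β w) (κ * σ b) := by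
    apply Es_congr hF n rfl
    · rw [hS.kq, smul_smul, mul_inv_cancel₀ hS.k0, one_smul]
    · rw [pow_succ, hS.kq]
      have := hS.k0
      field_simp
  refine ⟨Es hF n e (bt hF n e f β w) (κ * σ b), fun v => ?_, ?_⟩
  · rw [← h2, ← h1, hu']
    exact hsim v
  · rw [hu', ← lam_exact hF n he hf hef hn p hβ hS h32 hwW H]
    exact ((lam_spec n hQ (Es_mem_QS hF n H)).2).symm

include hF he hf hef hn hβ p hS in
theorem rootf_le_PhiS : rootSub hF n f hf ≤ PhiS n (gam hF n e f β σ κ) β := by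
  intro t ht
  have hn1 : 1 ≤ n := by omega
  have hQ := hβ.qe hF n he hf hef hn p
  have hfe : hh f e = 1 := herm_fe hF hef
  have he0 : e ≠ 0 := e_ne_zero n hef
  have hf0 : f ≠ 0 := f_ne_zero hF n hef
  obtain ⟨c, hc, rfl⟩ := (mem_rootSub_iff hF n hf t).mp ht
  by_cases hc0 : c = 0
  · rw [hc0, Es_zero hF n hf]
    exact one_mem _
  have Hc := EHyp_of_iso n hf hc
  obtain ⟨H', hsim⟩ := gam_Es hF n he hf hef hn p hβ hS Hc
  rw [gam_f hF n he hf hef hn p hβ, gam_zero hF n he hf hef hn p hβ, smul_zero] at H' hsim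
  have h1 : β (mkU n (Es hF n f 0 c)) ∈ RSb hF n f hf := by
    rw [← hβ.rf]
    exact ⟨_, (mem_RSb_iff hF n hf _).mpr ⟨c, hc, rfl⟩, rfl⟩
  obtain ⟨c', hc', h2⟩ := (mem_RSb_iff hF n hf _).mp h1
  refine ⟨Es hF n f 0 (κ⁻¹ * σ c), hsim, ?_⟩
  rw [h2]
  have Hc' := EHyp_of_iso n hf hc'
  -- the companion element of the root group of `e`
  have hci : (c⁻¹) ^ q = -c⁻¹ := by rw [inv_pow, hc, inv_neg]
  have Hu := EHyp_of_iso n he hci
  have hκc : (κ * σ c⁻¹) ^ q = -(κ * σ c⁻¹) := by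
    rw [mul_pow, hS.kq, ← map_pow, hci, map_neg, mul_neg]
  have Hu' := EHyp_of_iso n he hκc
  have hte : Es hF n f 0 c • e = e + c • f := by
    rw [Es_smul hF n Hc, hef, hermForm_zero_right hF]
    simp
  have huf : Es hF n e 0 c⁻¹ • f = f + c⁻¹ • e := by
    rw [Es_smul hF n Hu, hfe, hermForm_zero_right hF]
    simp
  have hte' : Es hF n f 0 c' • e = e + c' • f := by
    rw [Es_smul hF n Hc', hef, hermForm_zero_right hF]
    simp
  have huf' : Es hF n e 0 (κ * σ c⁻¹) • f = f + (κ * σ c⁻¹) • e := by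
    rw [Es_smul hF n Hu', hfe, hermForm_zero_right hF]
    simp
  have key : Es hF n f 0 c • e = c • (Es hF n e 0 c⁻¹ • f) := by
    rw [hte, huf, smul_add, smul_smul, mul_inv_cancel₀ hc0, one_smul, add_comm]
  have i1 : hh (Es hF n f 0 c • e) (Es hF n f 0 c • e) = 0 := by rw [herm_smul]; exact he
  have i2 : hh (Es hF n e 0 c⁻¹ • f) (Es hF n e 0 c⁻¹ • f) = 0 := by rw [herm_smul]; exact hf
  have i3 : hh (c • (Es hF n e 0 c⁻¹ • f)) (c • (Es hF n e 0 c⁻¹ • f)) = 0 := by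
    rw [← key]; exact i1
  have i4 : hh (Es hF n f 0 c' • e) (Es hF n f 0 c' • e) = 0 := by rw [herm_smul]; exact he
  have i5 : hh (Es hF n e 0 (κ * σ c⁻¹) • f) (Es hF n e 0 (κ * σ c⁻¹) • f) = 0 := by
    rw [herm_smul]; exact hf
  have hAB : (RSb hF n e he).map
      ((MulAut.conj (mkU n (Es hF n f 0 c)) : MulAut PSUn) : PSUn ≃* PSUn).toMonoidHom =
      (RSb hF n f hf).map
        ((MulAut.conj (mkU n (Es hF n e 0 c⁻¹)) : MulAut PSUn) : PSUn ≃* PSUn).toMonoidHom := by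
    rw [RSb_conj hF n _ he i1, RSb_conj hF n _ hf i2, RSb_congr hF n key i1 i3,
      RSb_smul hF n hc0 i2 i3]
  have hAB' : ((RSb hF n e he).map
      ((MulAut.conj (mkU n (Es hF n f 0 c)) : MulAut PSUn) : PSUn ≃* PSUn).toMonoidHom).map
        (β : PSUn ≃* PSUn).toMonoidHom =
      ((RSb hF n f hf).map
        ((MulAut.conj (mkU n (Es hF n e 0 c⁻¹)) : MulAut PSUn) : PSUn ≃* PSUn).toMonoidHom).map
        (β : PSUn ≃* PSUn).toMonoidHom := by rw [hAB]
  rw [map_conj_aut, map_conj_aut, hβ.re, hβ.rf, h2,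
    ← (lam_spec n hQ (Es_mem_QS hF n Hu)).2, hS.root _ hci, RSb_conj hF n _ he i4,
    RSb_conj hF n _ hf i5] at hAB'
  have hne : Es hF n f 0 c' • e ≠ 0 := by
    intro h0
    have := herm_smul n (Es hF n f 0 c') e f
    rw [h0, hermForm_zero_left, hef] at this
    exact zero_ne_one this
  have hne' : Es hF n e 0 (κ * σ c⁻¹) • f ≠ 0 := by
    intro h0
    have := herm_smul n (Es hF n e 0 (κ * σ c⁻¹)) f e
    rw [h0, hermForm_zero_left, hfe] at this
    exact zero_ne_one this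
  obtain ⟨a, ha0, ha⟩ := RSb_eq_imp hF n hn1 hne i4 hne' i5 hAB'
  rw [hte', huf'] at ha
  have g1 := congrArg (fun v => hh v f) ha
  have g2 := congrArg (fun v => hh v e) ha
  simp only [hermForm_add_left, hermForm_smul_left, he, hf, hef, hfe] at g1 g2
  have hσc : σ c⁻¹ = (σ c)⁻¹ := map_inv₀ σ c
  have hσc0 : σ c ≠ 0 := by rw [Ne, map_eq_zero_iff σ σ.injective]; exact hc0
  have hc'eq : c' = κ⁻¹ * σ c := by
    have hk0 := hS.k0
    rw [hσc] at g1
    have g3 : a * c' = 1 := by linear_combination -g2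
    have g4 : a = κ * (σ c)⁻¹ := by linear_combination -g1
    rw [g4] at g3
    field_simp
    field_simp at g3
    linear_combination g3
  rw [hc'eq]

end aut

end pair

end Cfsg.Agent.Lib.Helper9.APSU
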