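import Mathlib
import Cfsg.Prelude
import Cfsg.Agent.Lib.Helper9.APSU18

/-! Automorphisms of `PSU_n(q)`, part 19: all root groups; the automorphism is conjugation by a
semilinear similitude on the whole group. -/

set_option autoImplicit false
open Cfsg

namespace Cfsg.Agent.Lib.Helper9.APSU

open Matrix Cfsg.Agent.Lib.Helper5.Herm Cfsg.Agent.Lib.Helper5.HermBlock
  Cfsg.Agent.Lib.Helper5.HermTv Cfsg.Agent.Lib.Helper5.HermEich Cfsg.Agent.Lib.Helper5.HermSU
  Cfsg.Agent.Lib.Helper5.HermSimple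

attribute [local instance 2000] suSMul suAction suSMulComm

variable {F : Type*} [Field F] [Fintype F] {q : ℕ} (hF : Fintype.card F = q ^ 2) (n : ℕ)

set_option quotPrecheck false
local notation "Vn" => (Fin n → F)
local notation "GUn" => ↥(Cfsg.GU n F q)
local notation "SUn" => ↥(Cfsg.SU n F q)
local notation "PSUn" => Cfsg.PSU n F q
local notation "hh" => hermForm n F q

section pair
variable {e f : Fin n → F} (he : hermForm n F q e e = 0) (hf : hermForm n F q f f = 0)
  (hef : hermForm n F q e f = 1)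

/-- a subgroup containing `A` and the root group of `x` contains the root group of `A • x` -/
theorem rootSub_conj_le_of (K : Subgroup SUn) (A : SUn) (hA : A ∈ K) {x : Vn} (hx : hh x x = 0)
    (hAx : hh (A • x) (A • x) = 0) (hK : rootSub hF n x hx ≤ K) :
    rootSub hF n (A • x) hAx ≤ K := by
  intro s hs
  rw [rootSub_conj hF n A x hx hAx, Subgroup.mem_smul_pointwise_iff_exists] at hs
  obtain ⟨s₀, hs₀, rfl⟩ := hs
  rw [MulAut.smul_def, MulAut.conj_apply]
  exact K.mul_mem (K.mul_mem hA (hK hs₀)) (K.inv_mem hA)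

section aut
variable (hn : 3 ≤ n) (p : ℕ) [Fact p.Prime] [CharP F p] {β : MulAut (Cfsg.PSU n F q)}
  (hβ : Fix2 hF n he hf β) {σ : F ≃+* F} {κ : F} (hS : SimData hF n e f β σ κ)

include hF he hf hef hn hβ p hS in
/-- root groups of the points not orthogonal to `e` -/
theorem root_le_PhiS_nonorth (h32 : ¬ (n = 3 ∧ q = 2)) {y : Vn} (hy : hh y y = 0)
    (hye : hh y e ≠ 0) : rootSub hF n y hy ≤ PhiS n (gam hF n e f β σ κ) β := by
  have hfe : hh f e = 1 := herm_fe hF hef
  obtain ⟨a, ha⟩ : ∃ a : F, a = hh y e := ⟨_, rfl⟩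
  have ha0 : a ≠ 0 := by rw [ha]; exact hye
  obtain ⟨y₁, hy₁⟩ : ∃ y₁ : Vn, y₁ = a⁻¹ • y := ⟨_, rfl⟩
  have hy₁e : hh y₁ e = 1 := by rw [hy₁, hermForm_smul_left, ← ha, inv_mul_cancel₀ ha0]
  have hy₁y₁ : hh y₁ y₁ = 0 := by
    rw [hy₁, hermForm_smul_left, hermForm_smul_right, hy, mul_zero, mul_zero]
  obtain ⟨w, hw⟩ : ∃ w : Vn, w = prW n q e f y₁ := ⟨_, rfl⟩
  obtain ⟨b, hb⟩ : ∃ b : F, b = hh y₁ f := ⟨_, rfl⟩
  have hwe : hh w e = 0 := by rw [hw]; exact prW_e hF n he hef y₁
  have hwf : hh w f = 0 := by rw [hw]; exact prW_f n hf hef y₁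
  have hew : hh e w = 0 := herm_symm_zero hF n hwe
  have hfw : hh f w = 0 := herm_symm_zero hF n hwf
  have hdec : y₁ = w + b • e + f := by
    have := prW_decomp n y₁ (q := q) (e := e) (f := f)
    rw [hy₁e, one_smul, ← hw, ← hb] at this
    exact this
  have H : EHyp n q e w b := by
    refine ⟨he, hwe, ?_⟩
    have h1 := hy₁y₁
    rw [hdec] at h1
    simp only [hermForm_add_left, hermForm_add_right hF, hermForm_smul_left, hermForm_smul_right,
      he, hf, hef, hfe, hwe, hwf, hew, hfw] at h1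
    linear_combination h1
  have huf : Es hF n e w b • f = y₁ := by
    rw [Es_partner hF n H hfe, hfw, sub_zero, hdec]
    abel
  have hy' : y = a • (Es hF n e w b • f) := by
    rw [huf, hy₁, smul_smul, mul_inv_cancel₀ ha0, one_smul]
  have i1 : hh (Es hF n e w b • f) (Es hF n e w b • f) = 0 := by rw [herm_smul]; exact hf
  have i2 : hh (a • (Es hF n e w b • f)) (a • (Es hF n e w b • f)) = 0 := by
    rw [← hy']; exact hy
  rw [rootSub_congr hF n hy' hy i2, rootSub_smul hF n a ha0 _ i1 i2]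
  exact rootSub_conj_le_of hF n _ _
    (QS_le_PhiS hF n he hf hef hn p hβ hS h32 (Es_mem_QS hF n H)) hf i1
    (rootf_le_PhiS hF n he hf hef hn p hβ hS)

include hF he hf hef hn hβ p hS in
/-- all root groups -/
theorem root_le_PhiS (h32 : ¬ (n = 3 ∧ q = 2)) {y : Vn} (hy0 : y ≠ 0) (hy : hh y y = 0) :
    rootSub hF n y hy ≤ PhiS n (gam hF n e f β σ κ) β := by
  by_cases hye : hh y e = 0
  · have he0 : e ≠ 0 := e_ne_zero n hef
    obtain ⟨z, hz, hyz, hez⟩ := exists_cross hF n y e hy0 he0 hy he hye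
    have hze : hh z e ≠ 0 := fun h => hez (herm_symm_zero hF n h)
    obtain ⟨c, hc0, hc⟩ := exists_trace_zero hF
    have Hc := EHyp_of_iso n hz hc
    have hs₁ : Es hF n z 0 c ∈ PhiS n (gam hF n e f β σ κ) β :=
      root_le_PhiS_nonorth hF n he hf hef hn p hβ hS h32 hz hze
        ((mem_rootSub_iff hF n hz _).mpr ⟨c, hc, rfl⟩)
    have hsy : Es hF n z 0 c • y = y + (c * hh y z) • z := by
      rw [Es_smul hF n Hc, hermForm_zero_right hF]
      simp
    have i1 : hh (Es hF n z 0 c • y) (Es hF n z 0 c • y) = 0 := by rw [herm_smul]; exact hy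
    have hne : hh (Es hF n z 0 c • y) e ≠ 0 := by
      rw [hsy, hermForm_add_left, hermForm_smul_left, hye, zero_add]
      exact mul_ne_zero (mul_ne_zero hc0 hyz) hze
    have h1 := root_le_PhiS_nonorth hF n he hf hef hn p hβ hS h32 i1 hne
    have hback : (Es hF n z 0 c)⁻¹ • (Es hF n z 0 c • y) = y := inv_smul_smul _ _
    have i2 : hh ((Es hF n z 0 c)⁻¹ • (Es hF n z 0 c • y))
        ((Es hF n z 0 c)⁻¹ • (Es hF n z 0 c • y)) = 0 := by rw [hback]; exact hy
    rw [rootSub_congr hF n hback.symm hy i2]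
    exact rootSub_conj_le_of hF n _ _ (inv_mem hs₁) i1 i2 h1
  · exact root_le_PhiS_nonorth hF n he hf hef hn p hβ hS h32 hy hye

include hF he hf hef hn hβ p hS in
/-- the automorphism is conjugation by the similitude on all of `SU` -/
theorem PhiS_top (h32 : ¬ (n = 3 ∧ q = 2)) : PhiS n (gam hF n e f β σ κ) β = ⊤ := by
  rw [eq_top_iff, ← iSup_rootSub hF n hn h32]
  apply iSup_le
  intro pt
  apply root_le_PhiS hF n he hf hef hn p hβ hS h32
  exact Projectivization.rep_nonzero _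

include hF he hf hef hn hβ p in
/-- existence of the data of the similitude -/
theorem exists_SimData (h32 : ¬ (n = 3 ∧ q = 2)) :
    ∃ (σ : F ≃+* F) (κ : F), SimData hF n e f β σ κ := by
  obtain ⟨σ, hσ⟩ := exists_sigma hF n he hf hef hn p hβ h32
  obtain ⟨κ, hκ0, hκq, hroot, hform⟩ := bt_form hF n he hf hef hn p hβ hσ
  exact ⟨σ, κ, hσ, hκ0, hκq, hroot, hform⟩

end aut

end pair

end Cfsg.Agent.Lib.Helper9.APSU
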