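import Mathlib
import Cfsg.Prelude
import Cfsg.Agent.Lib.Helper9.APSU19

/-! Automorphisms of `PSU_n(q)`, part 20: every automorphism is induced by a semilinear unitary
map. -/

set_option autoImplicit false
open Cfsg

namespace Cfsg.Agent.Lib.Helper9.APSU

open Matrix Cfsg.Agent.Lib.Helper5.Herm Cfsg.Agent.Lib.Helper5.HermBlock
  Cfsg.Agent.Lib.Helper5.HermTv Cfsg.Agent.Lib.Helper5.HermEich Cfsg.Agent.Lib.Helper5.HermSU
  Cfsg.Agent.Lib.Helper5.HermSimple

attribute [local instance 2000] suSMul suAction suSMulComm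

variable {F : Type*} [Field F] [Fintype F] {q : ℕ} (hF : Fintype.card F = q ^ 2) (n : ℕ)

set_option quotPrecheck false
local notation "Vn" => (Fin n → F)
local notation "GUn" => ↥(Cfsg.GU n F q)
local notation "SUn" => ↥(Cfsg.SU n F q)
local notation "PSUn" => Cfsg.PSU n F q
local notation "hh" => hermForm n F q

/-- entrywise application of a field automorphism to a vector -/
def vmap (σ : F ≃+* F) (v : Fin n → F) : Fin n → F := fun i => σ (v i)

omit [Fintype F] in
theorem vmap_add (σ : F ≃+* F) (u v : Vn) : vmap n σ (u + v) = vmap n σ u + vmap n σ v := by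
  ext i; simp [vmap]

omit [Fintype F] in
theorem vmap_smul (σ : F ≃+* F) (c : F) (v : Vn) : vmap n σ (c • v) = σ c • vmap n σ v := by
  ext i; simp [vmap]

omit [Fintype F] in
theorem vmap_symm (σ : F ≃+* F) (v : Vn) : vmap n σ (vmap n σ.symm v) = v := by
  ext i; simp [vmap]

omit [Fintype F] in
theorem vmap_symm' (σ : F ≃+* F) (v : Vn) : vmap n σ.symm (vmap n σ v) = v := by
  ext i; simp [vmap]

omit [Fintype F] in
theorem herm_vmap (σ : F ≃+* F) (u v : Vn) : hh (vmap n σ u) (vmap n σ v) = σ (hh u v) := by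
  unfold hermForm vmap
  rw [map_sum]
  exact Finset.sum_congr rfl fun i _ => by rw [map_mul, map_pow]

omit [Fintype F] in
theorem vmap_mulVec (σ : F ≃+* F) (M : Matrix (Fin n) (Fin n) F) (v : Vn) :
    vmap n σ (M *ᵥ v) = M.map σ *ᵥ vmap n σ v := by
  ext i
  exact RingHom.map_mulVec (σ : F →+* F) M v i

/-- `β` is induced by the semilinear map `v ↦ g σ(v)`, in terms of the action on vectors -/
def IndAct (g : ↥(Cfsg.GU n F q)) (σ : F ≃+* F) (β : MulAut (Cfsg.PSU n F q)) : Prop :=
  ∀ s s' : ↥(Cfsg.SU n F q),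
    (∀ v : Fin n → F, s' • gact n g (vmap n σ v) = gact n g (vmap n σ (s • v))) →
      β (mkU n s) = mkU n s'

omit [Fintype F] in
theorem su_smul_eq (s : SUn) (v : Vn) :
    s • v = ((s : Matrix.SpecialLinearGroup (Fin n) F) : Matrix (Fin n) (Fin n) F) *ᵥ v := rfl

omit [Fintype F] in
/-- the action form implies the matrix form of the prelude -/
theorem isInduced_of_IndAct {g : GUn} {σ : F ≃+* F} {β : MulAut PSUn} (h : IndAct n g σ β) :
    IsInducedBySemilinearPSU (g : GL (Fin n) F) σ β := by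
  intro s s' hss'
  apply h s s'
  intro v
  have h1 : ((s' : Matrix.SpecialLinearGroup (Fin n) F) : Matrix (Fin n) (Fin n) F) *
      ((g : GL (Fin n) F) : Matrix (Fin n) (Fin n) F) =
      ((g : GL (Fin n) F) : Matrix (Fin n) (Fin n) F) *
        (((s : Matrix.SpecialLinearGroup (Fin n) F) : Matrix (Fin n) (Fin n) F)).map σ := by
    rw [hss', Matrix.mul_assoc]
    have : (((g : GL (Fin n) F)⁻¹ : GL (Fin n) F) : Matrix (Fin n) (Fin n) F) *
        ((g : GL (Fin n) F) : Matrix (Fin n) (Fin n) F) = 1 := by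
      rw [← Units.val_mul, inv_mul_cancel, Units.val_one]
    rw [this, Matrix.mul_one]
  rw [su_smul_eq, su_smul_eq, vmap_mulVec]
  unfold gact
  rw [Matrix.mulVec_mulVec, h1, Matrix.mulVec_mulVec]

section pair
variable {e f : Fin n → F} (he : hermForm n F q e e = 0) (hf : hermForm n F q f f = 0)
  (hef : hermForm n F q e f = 1)

section aut
variable (hn : 3 ≤ n) (p : ℕ) [Fact p.Prime] [CharP F p] {β : MulAut (Cfsg.PSU n F q)}
  (hβ : Fix2 hF n he hf β)

include hF he hf hef hn hβ p in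
/-- an automorphism fixing two opposite root groups is induced by a semilinear unitary map -/
theorem induced_of_fix2 (h32 : ¬ (n = 3 ∧ q = 2)) :
    ∃ (g : GUn) (σ : F ≃+* F), IndAct n g σ β := by
  obtain ⟨σ, κ, hS⟩ := exists_SimData hF n he hf hef hn p hβ h32
  obtain ⟨μ, hμ⟩ := Cfsg.Agent.Lib.Helper5.HermCount.exists_norm_eq hF κ hS.k0 hS.kq
  have hμ0 : μ ≠ 0 := by
    rintro rfl
    rw [zero_pow (by omega)] at hμ
    exact hS.k0 hμ.symm
  let L : Vn →ₗ[F] Vn :=
    { toFun := fun v => μ⁻¹ • gam hF n e f β σ κ (vmap n σ.symm v)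
      map_add' := by
        intro u v
        rw [vmap_add, gam_add hF n he hf hef hn p hβ, smul_add]
      map_smul' := by
        intro c v
        rw [vmap_smul, gam_smul hF n he hf hef hS, RingEquiv.apply_symm_apply, RingHom.id_apply,
          smul_comm] }
  have hL : ∀ v, L v = μ⁻¹ • gam hF n e f β σ κ (vmap n σ.symm v) := fun v => rfl
  have hiso : ∀ u v, hh (L u) (L v) = hh u v := by
    intro u v
    rw [hL, hL, hermForm_smul_left, hermForm_smul_right, gam_form hF n he hf hef hS, herm_vmap,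
      RingEquiv.apply_symm_apply, ← hμ, inv_pow]
    have : μ ^ (q + 1) = μ ^ q * μ := pow_succ μ q
    rw [this]
    have hμq : μ ^ q ≠ 0 := pow_ne_zero _ hμ0
    field_simp
  have hinj : Function.Injective L := by
    intro u v huv
    have h1 : u - v = 0 := by
      apply (Cfsg.Agent.Lib.Helper5.HermBridge.hermSesq_nondegenerate hF n).2 (u - v)
      intro x
      rw [Cfsg.Agent.Lib.Helper5.HermBridge.hermSesq_apply, ← hiso, map_sub, huv, sub_self,
        hermForm_zero_left]
    exact sub_eq_zero.mp h1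
  have hLe : ∀ v, (LinearEquiv.ofInjectiveEndo L hinj) v = L v := fun v => rfl
  obtain ⟨A, hA⟩ := Cfsg.Agent.Lib.Helper5.HermBridge.exists_GU_of_isometry (q := q) n
    (LinearEquiv.ofInjectiveEndo L hinj) (fun u v => by
      rw [hLe, hLe]; exact hiso u v)
  have hA' : ∀ v, gact n A v = μ⁻¹ • gam hF n e f β σ κ (vmap n σ.symm v) := by
    intro v
    have := hA v
    rw [hLe] at this
    exact this
  have hgam : ∀ y, gam hF n e f β σ κ y = μ • gact n A (vmap n σ y) := by
    intro y
    rw [hA', vmap_symm', smul_smul, mul_inv_cancel₀ hμ0, one_smul]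
  refine ⟨A, σ, ?_⟩
  intro s s' hss'
  have htop := PhiS_top hF n he hf hef hn p hβ hS h32
  have hs : s ∈ PhiS n (gam hF n e f β σ κ) β := by rw [htop]; trivial
  obtain ⟨s'', hsim, hβs⟩ := hs
  have heq : s' = s'' := by
    apply su_ext
    intro v
    obtain ⟨v₀, rfl⟩ := (gam_bijective hF n he hf hef hn p hβ hS).2 v
    rw [hsim v₀, hgam, hgam, su_smul_smul, hss']
  rw [heq]
  exact hβs

end aut

end pair


theorem charP_of_card_sq (p f : ℕ) [hp : Fact p.Prime] (hq : q = p ^ f)
    (hF : Fintype.card F = q ^ 2) : CharP F p := by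
  obtain ⟨p', hp'⟩ := CharP.exists F
  have hzero : ((q ^ 2 : ℕ) : F) = 0 := by
    rw [← hF]
    exact Nat.cast_card_eq_zero F
  rw [hq, ← pow_mul, Nat.cast_pow] at hzero
  have hp0 : ((p : ℕ) : F) = 0 := (pow_eq_zero_iff'.1 hzero).1
  have hdvd : p' ∣ p := (CharP.cast_eq_zero_iff F p' p).1 hp0
  rcases (Nat.dvd_prime hp.1).1 hdvd with h | h
  · exfalso
    subst h
    exact CharP.char_ne_one F 1 rfl
  · subst h
    exact hp'

include hF in
/-- **every automorphism of `PSU_n(q)` is induced by a semilinear unitary map** -/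
theorem exists_IndAct (hn : 3 ≤ n) (h32 : ¬ (n = 3 ∧ q = 2)) (p : ℕ) [Fact p.Prime] [CharP F p]
    (β : MulAut PSUn) : ∃ (g : GUn) (σ : F ≃+* F), IndAct n g σ β := by
  obtain ⟨e, f, he, hf, hef⟩ := exists_hyp_pair hF n (by omega)
  obtain ⟨B, hBe, hBf⟩ := exists_conj_fix hF n p (by omega) β he hf hef
  have hβ₁ : Fix2 hF n he hf (MulAut.conj (mkU n B) * β) := ⟨hBe, hBf⟩
  obtain ⟨g₁, σ, h₁⟩ := induced_of_fix2 hF n he hf hef hn p hβ₁ h32
  refine ⟨(toGU n B)⁻¹ * g₁, σ, ?_⟩
  intro s s' hss'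
  have h4 : ∀ x : Vn, B⁻¹ • x = gact n (toGU n B)⁻¹ x := by
    intro x
    rw [su_smul_def, map_inv]
  have h2 := h₁ s (B * s' * B⁻¹) (fun v => by
    have h3 := hss' v
    rw [gact_mul, gact_mul] at h3
    rw [mul_smul, mul_smul, h4, h3, ← h4, smul_inv_smul])
  rw [MulAut.mul_apply, MulAut.conj_apply, map_mul, map_mul, map_inv] at h2
  exact mul_left_cancel (mul_right_cancel h2)

end Cfsg.Agent.Lib.Helper9.APSU
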