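import Mathlib
import Cfsg.Prelude
import Cfsg.Agent.Lib.Helper9.APSU20
import Cfsg.Agent.Lib.Helper9.APSL8

/-! Automorphisms of `PSU_n(q)`, part 21: the standard automorphisms and the factorisation of an
arbitrary automorphism. -/

set_option autoImplicit false
open Cfsg

namespace Cfsg.Agent.Lib.Helper9.APSU

open Matrix Cfsg.Agent.Lib.Helper5.Herm Cfsg.Agent.Lib.Helper5.HermBlock
  Cfsg.Agent.Lib.Helper5.HermTv Cfsg.Agent.Lib.Helper5.HermEich Cfsg.Agent.Lib.Helper5.HermSU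
  Cfsg.Agent.Lib.Helper5.HermSimple

attribute [local instance 2000] suSMul suAction suSMulComm

variable {F : Type*} [Field F] {q : ℕ} (n : ℕ)

set_option quotPrecheck false
local notation "Vn" => (Fin n → F)
local notation "Mn" => Matrix (Fin n) (Fin n) F
local notation "GUn" => ↥(Cfsg.GU n F q)
local notation "SUn" => ↥(Cfsg.SU n F q)
local notation "PSUn" => Cfsg.PSU n F q
local notation "hh" => hermForm n F q

/-- lifting an automorphism of `SU` to `PSU` -/
noncomputable def liftU (e : ↥(Cfsg.SU n F q) ≃* ↥(Cfsg.SU n F q)) : MulAut (Cfsg.PSU n F q) :=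
  QuotientGroup.congr (Subgroup.center ↥(Cfsg.SU n F q)) (Subgroup.center ↥(Cfsg.SU n F q)) e
    (Subgroup.characteristic_iff_map_eq.mp Subgroup.centerCharacteristic e)

theorem liftU_mkU (e : SUn ≃* SUn) (s : SUn) : liftU n e (mkU n s) = mkU n (e s) :=
  QuotientGroup.congr_mk _ _ e _ s

theorem liftU_mul (e e' : SUn ≃* SUn) : liftU n e * liftU n e' = liftU n (e'.trans e) := by
  apply MulEquiv.ext
  intro x
  obtain ⟨s, rfl⟩ := mkU_surjective n x
  rw [MulAut.mul_apply, liftU_mkU, liftU_mkU, liftU_mkU]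
  rfl

theorem liftU_refl : liftU n (MulEquiv.refl SUn) = 1 := by
  apply MulEquiv.ext
  intro x
  obtain ⟨s, rfl⟩ := mkU_surjective n x
  rw [liftU_mkU]
  rfl

theorem liftU_inv (e : SUn ≃* SUn) : (liftU n e)⁻¹ = liftU n e.symm := by
  apply inv_eq_of_mul_eq_one_left
  rw [liftU_mul]
  have : e.trans e.symm = MulEquiv.refl SUn := by
    ext s
    simp
  rw [this, liftU_refl]

theorem mem_SU_field (σ : F ≃+* F) (s : SUn) :
    Cfsg.Agent.Lib.Helper9.APSL.fieldSL σ s.1 ∈ Cfsg.SU n F q := by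
  intro u v
  have h1 : ∀ x : Vn, Cfsg.slToMat n F (Cfsg.Agent.Lib.Helper9.APSL.fieldSL σ s.1) *ᵥ x =
      vmap n σ (s • vmap n σ.symm x) := by
    intro x
    rw [su_smul_eq, vmap_mulVec, vmap_symm]
    show ((Cfsg.Agent.Lib.Helper9.APSL.fieldSL σ s.1 : Matrix.SpecialLinearGroup (Fin n) F) : Mn) *ᵥ x = _
    rw [Cfsg.Agent.Lib.Helper9.APSL.fieldSL_coe]
  rw [h1, h1, herm_vmap, herm_smul, ← herm_vmap, vmap_symm, vmap_symm]

/-- a field automorphism applied to the entries, on `SU` -/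
def fieldSU (σ : F ≃+* F) : ↥(Cfsg.SU n F q) ≃* ↥(Cfsg.SU n F q) where
  toFun s := ⟨Cfsg.Agent.Lib.Helper9.APSL.fieldSL σ s.1, mem_SU_field n σ s⟩
  invFun s := ⟨Cfsg.Agent.Lib.Helper9.APSL.fieldSL σ.symm s.1, mem_SU_field n σ.symm s⟩
  left_inv s := by
    apply Subtype.ext
    apply Subtype.ext
    ext i j
    simp [Cfsg.Agent.Lib.Helper9.APSL.fieldSL_coe]
  right_inv s := by
    apply Subtype.ext
    apply Subtype.ext
    ext i j
    simp [Cfsg.Agent.Lib.Helper9.APSL.fieldSL_coe]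
  map_mul' s t := by
    apply Subtype.ext
    exact map_mul (Cfsg.Agent.Lib.Helper9.APSL.fieldSL σ) s.1 t.1

theorem fieldSU_coe (σ : F ≃+* F) (s : SUn) :
    ((fieldSU n σ s : Matrix.SpecialLinearGroup (Fin n) F) : Mn) =
      ((s : Matrix.SpecialLinearGroup (Fin n) F) : Mn).map σ :=
  Cfsg.Agent.Lib.Helper9.APSL.fieldSL_coe σ s.1

theorem fieldSU_smul (σ : F ≃+* F) (s : SUn) (v : Vn) :
    fieldSU n σ s • vmap n σ v = vmap n σ (s • v) := by
  rw [su_smul_eq, su_smul_eq, vmap_mulVec, fieldSU_coe]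

theorem fieldSU_symm (σ : F ≃+* F) : (fieldSU (q := q) n σ).symm = fieldSU n σ.symm := rfl

theorem mem_SU_conj (g : GUn) (s : SUn) :
    Cfsg.Agent.Lib.Helper9.APSL.conjSL (g : GL (Fin n) F) s.1 ∈ Cfsg.SU n F q := by
  intro u v
  have h1 : ∀ x : Vn, Cfsg.slToMat n F (Cfsg.Agent.Lib.Helper9.APSL.conjSL (g : GL (Fin n) F) s.1) *ᵥ x =
      gact n g (s • gact n g⁻¹ x) := by
    intro x
    show ((Cfsg.Agent.Lib.Helper9.APSL.conjSL (g : GL (Fin n) F) s.1 :
      Matrix.SpecialLinearGroup (Fin n) F) : Mn) *ᵥ x = _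
    rw [Cfsg.Agent.Lib.Helper9.APSL.conjSL_coe, su_smul_eq]
    unfold gact
    rw [Matrix.mulVec_mulVec, Matrix.mulVec_mulVec]
    rfl
  rw [h1, h1, herm_gact, herm_smul, herm_gact]

/-- conjugation by an element of `GU`, on `SU` -/
def conjSU (g : ↥(Cfsg.GU n F q)) : ↥(Cfsg.SU n F q) ≃* ↥(Cfsg.SU n F q) where
  toFun s := ⟨Cfsg.Agent.Lib.Helper9.APSL.conjSL (g : GL (Fin n) F) s.1, mem_SU_conj n g s⟩
  invFun s := ⟨(Cfsg.Agent.Lib.Helper9.APSL.conjSL (g : GL (Fin n) F)).symm s.1, by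
    have := mem_SU_conj n g⁻¹ s
    exact this⟩
  left_inv s := by
    apply Subtype.ext
    exact (Cfsg.Agent.Lib.Helper9.APSL.conjSL (g : GL (Fin n) F)).symm_apply_apply s.1
  right_inv s := by
    apply Subtype.ext
    exact (Cfsg.Agent.Lib.Helper9.APSL.conjSL (g : GL (Fin n) F)).apply_symm_apply s.1
  map_mul' s t := by
    apply Subtype.ext
    exact map_mul (Cfsg.Agent.Lib.Helper9.APSL.conjSL (g : GL (Fin n) F)) s.1 t.1

theorem conjSU_coe (g : GUn) (s : SUn) :
    ((conjSU n g s : Matrix.SpecialLinearGroup (Fin n) F) : Mn) =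
      ((g : GL (Fin n) F) : Mn) * ((s : Matrix.SpecialLinearGroup (Fin n) F) : Mn) *
        (((g : GL (Fin n) F)⁻¹ : GL (Fin n) F) : Mn) := rfl

theorem conjSU_smul (g : GUn) (s : SUn) (v : Vn) :
    conjSU n g s • gact n g v = gact n g (s • v) := by
  rw [su_smul_eq, su_smul_eq, conjSU_coe]
  unfold gact
  rw [Matrix.mulVec_mulVec, Matrix.mul_assoc, ← Units.val_mul, inv_mul_cancel, Units.val_one,
    Matrix.mul_one, Matrix.mulVec_mulVec]

/-- `GU_n → Aut PSU_n` -/
noncomputable def cU : ↥(Cfsg.GU n F q) →* MulAut (Cfsg.PSU n F q) where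
  toFun g := liftU n (conjSU n g)
  map_one' := by
    apply MulEquiv.ext
    intro x
    obtain ⟨s, rfl⟩ := mkU_surjective n x
    rw [liftU_mkU]
    show mkU n _ = mkU n s
    congr 1
    apply su_ext
    intro v
    have := conjSU_smul n (1 : GUn) s v
    rw [gact_one, gact_one] at this
    exact this
  map_mul' g h := by
    apply MulEquiv.ext
    intro x
    obtain ⟨s, rfl⟩ := mkU_surjective n x
    rw [MulAut.mul_apply, liftU_mkU, liftU_mkU, liftU_mkU]
    congr 1
    apply su_ext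
    intro v
    have h1 := conjSU_smul n (g * h) s (gact n (g * h)⁻¹ v)
    rw [gact_gact_inv] at h1
    have h2 := conjSU_smul n g (conjSU n h s) (gact n g⁻¹ v)
    rw [gact_gact_inv] at h2
    have h3 := conjSU_smul n h s (gact n h⁻¹ (gact n g⁻¹ v))
    rw [gact_gact_inv] at h3
    rw [h1, h2, h3, gact_mul, _root_.mul_inv_rev, gact_mul]

theorem cU_mkU (g : GUn) (s : SUn) : cU n g (mkU n s) = mkU n (conjSU n g s) := liftU_mkU n _ s

/-- `Aut F → Aut PSU_n` -/
noncomputable def fU : RingAut F →* MulAut (Cfsg.PSU n F q) where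
  toFun σ := liftU n (fieldSU n σ)
  map_one' := by
    apply MulEquiv.ext
    intro x
    obtain ⟨s, rfl⟩ := mkU_surjective n x
    rw [liftU_mkU]
    show mkU n _ = mkU n s
    congr 1
  map_mul' σ τ := by
    apply MulEquiv.ext
    intro x
    obtain ⟨s, rfl⟩ := mkU_surjective n x
    rw [MulAut.mul_apply, liftU_mkU, liftU_mkU, liftU_mkU]
    congr 1

theorem fU_mkU (σ : RingAut F) (s : SUn) : fU n σ (mkU n s) = mkU n (fieldSU n σ s) :=
  liftU_mkU n _ s

/-- the field automorphisms of the prelude -/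
theorem isFieldAut_fU (σ : F ≃+* F) : IsFieldAutPSUOf σ (fU (q := q) n σ : PSUn ≃* PSUn) := by
  intro s s' hss'
  show fU n σ (mkU n s) = mkU n s'
  rw [fU_mkU]
  congr 1
  apply Subtype.ext
  apply Subtype.ext
  rw [fieldSU_coe, hss']

/-- the inner-diagonal automorphisms of the prelude -/
theorem isInnerDiagonal_cU (g : GUn) : IsInnerDiagonalAutPSU (cU n g : PSUn ≃* PSUn) := by
  refine ⟨(g : GL (Fin n) F), g.2, ?_⟩
  intro s s' hss'
  show cU n g (mkU n s) = mkU n s'
  rw [cU_mkU]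
  congr 1
  apply Subtype.ext
  apply Subtype.ext
  rw [conjSU_coe, hss']

/-- the action form of the standard automorphisms -/
theorem indAct_iff (g : GUn) (σ : F ≃+* F) (β : MulAut PSUn) :
    IndAct n g σ β ↔ β = cU n g * fU n σ := by
  constructor
  · intro h
    apply MulEquiv.ext
    intro x
    obtain ⟨s, rfl⟩ := mkU_surjective n x
    rw [MulAut.mul_apply, fU_mkU, cU_mkU]
    apply h
    intro v
    rw [conjSU_smul, fieldSU_smul]
  · rintro rfl s s' hss'
    rw [MulAut.mul_apply, fU_mkU, cU_mkU]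
    congr 1
    apply su_ext
    intro v
    have h1 : v = gact n g (vmap n σ (vmap n σ.symm (gact n g⁻¹ v))) := by
      rw [vmap_symm, gact_gact_inv]
    rw [h1, hss', conjSU_smul, fieldSU_smul]

end Cfsg.Agent.Lib.Helper9.APSU
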