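import Mathlib
import Cfsg.Prelude
import Cfsg.Agent.Lib.Helper9.APSU21

/-! Automorphisms of `PSU_n(q)`, part 22: the field automorphism attached to an automorphism is
unique. -/

set_option autoImplicit false
open Cfsg

namespace Cfsg.Agent.Lib.Helper9.APSU

open Matrix Cfsg.Agent.Lib.Helper5.Herm Cfsg.Agent.Lib.Helper5.HermBlock
  Cfsg.Agent.Lib.Helper5.HermTv Cfsg.Agent.Lib.Helper5.HermEich Cfsg.Agent.Lib.Helper5.HermSU
  Cfsg.Agent.Lib.Helper5.HermSimple

attribute [local instance 2000] suSMul suAction suSMulComm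

variable {F : Type*} [Field F] [Fintype F] {q : ℕ} (hF : Fintype.card F = q ^ 2) (n : ℕ)

set_option quotPrecheck false
local notation "Vn" => (Fin n → F)
local notation "Mn" => Matrix (Fin n) (Fin n) F
local notation "GUn" => ↥(Cfsg.GU n F q)
local notation "SUn" => ↥(Cfsg.SU n F q)
local notation "PSUn" => Cfsg.PSU n F q
local notation "hh" => hermForm n F q

omit [Fintype F] in
theorem mem_GU_field (σ : F ≃+* F) (g : GUn) :
    Matrix.GeneralLinearGroup.map (σ : F →+* F) (g : GL (Fin n) F) ∈ Cfsg.GU n F q := by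
  intro u v
  have h1 : ∀ x : Vn, Units.coeHom Mn (Matrix.GeneralLinearGroup.map (σ : F →+* F) (g : GL (Fin n) F)) *ᵥ x =
      vmap n σ (gact n g (vmap n σ.symm x)) := by
    intro x
    unfold gact
    rw [vmap_mulVec, vmap_symm]
    rfl
  rw [h1, h1, herm_vmap, herm_gact, ← herm_vmap, vmap_symm, vmap_symm]

/-- a field automorphism applied to the entries, on `GU` -/
noncomputable def fieldGU (σ : F ≃+* F) : ↥(Cfsg.GU n F q) →* ↥(Cfsg.GU n F q) where
  toFun g := ⟨Matrix.GeneralLinearGroup.map (σ : F →+* F) (g : GL (Fin n) F), mem_GU_field n σ g⟩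
  map_one' := by
    apply Subtype.ext
    exact map_one _
  map_mul' g h := by
    apply Subtype.ext
    exact map_mul _ _ _

omit [Fintype F] in
theorem gact_fieldGU (σ : F ≃+* F) (g : GUn) (v : Vn) :
    gact n (fieldGU n σ g) (vmap n σ v) = vmap n σ (gact n g v) := by
  unfold gact
  rw [vmap_mulVec]
  rfl

omit [Fintype F] in
/-- the commutation rule of the standard automorphisms -/
theorem fU_mul_cU (σ : RingAut F) (g : GUn) :
    fU n σ * cU n g = cU n (fieldGU n σ g) * fU n σ := by
  apply MulEquiv.ext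
  intro x
  obtain ⟨s, rfl⟩ := mkU_surjective n x
  rw [MulAut.mul_apply, MulAut.mul_apply, cU_mkU, fU_mkU, fU_mkU, cU_mkU]
  congr 1
  apply su_ext
  intro v
  obtain ⟨v₀, rfl⟩ : ∃ v₀ : Vn, v = vmap n σ (gact n g v₀) :=
    ⟨gact n g⁻¹ (vmap n σ.symm v), by rw [gact_gact_inv, vmap_symm]⟩
  calc fieldSU n σ (conjSU n g s) • vmap n σ (gact n g v₀)
      = vmap n σ (gact n g (s • v₀)) := by rw [fieldSU_smul, conjSU_smul]
    _ = gact n (fieldGU n σ g) (fieldSU n σ s • vmap n σ v₀) := by
        rw [fieldSU_smul, gact_fieldGU]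
    _ = conjSU n (fieldGU n σ g) (fieldSU n σ s) • gact n (fieldGU n σ g) (vmap n σ v₀) := by
        rw [conjSU_smul]
    _ = _ := by rw [gact_fieldGU]

omit [Fintype F] in
theorem EHyp_vmap (σ : F ≃+* F) {x w : Vn} {b : F} (H : EHyp n q x w b) :
    EHyp n q (vmap n σ x) (vmap n σ w) (σ b) := by
  refine ⟨?_, ?_, ?_⟩
  · rw [herm_vmap, H.hx, map_zero]
  · rw [herm_vmap, H.hwx, map_zero]
  · rw [herm_vmap, ← map_pow, ← map_add, ← map_add, H.hb, map_zero]

/-- a field automorphism applied to an Eichler element -/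
theorem fieldSU_Es (σ : F ≃+* F) {x w : Vn} {b : F} (H : EHyp n q x w b) :
    fieldSU n σ (Es hF n x w b) = Es hF n (vmap n σ x) (vmap n σ w) (σ b) := by
  apply su_ext
  intro v
  obtain ⟨v₀, rfl⟩ : ∃ v₀ : Vn, v = vmap n σ v₀ := ⟨vmap n σ.symm v, (vmap_symm n σ v).symm⟩
  rw [fieldSU_smul, Es_smul hF n H, Es_smul hF n (EHyp_vmap n σ H), vmap_add, vmap_add,
    vmap_smul, vmap_smul, herm_vmap, herm_vmap, map_sub, map_mul]

/-- conjugation of an Eichler element by a unitary matrix -/
theorem conjSU_Es (g : GUn) {x w : Vn} {b : F} (H : EHyp n q x w b) :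
    conjSU n g (Es hF n x w b) = Es hF n (gact n g x) (gact n g w) b := by
  apply su_ext
  intro v
  obtain ⟨v₀, rfl⟩ : ∃ v₀ : Vn, v = gact n g v₀ := ⟨gact n g⁻¹ v, (gact_gact_inv n g v).symm⟩
  rw [conjSU_smul, Es_smul hF n H, Es_smul hF n (EHyp_conj n g H), gact_add, gact_add,
    gact_smul, gact_smul, herm_gact, herm_gact]

include hF in
/-- two Eichler elements with the same image in `PSU` are equal -/
theorem Es_mkU_inj (hn : 1 ≤ n) {x w x' w' : Vn} {b b' : F} (H : EHyp n q x w b)
    (H' : EHyp n q x' w' b') (h : mkU n (Es hF n x w b) = mkU n (Es hF n x' w' b')) :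
    Es hF n x w b = Es hF n x' w' b' := by
  obtain ⟨a, ha⟩ := (mkU_eq_iff hF n hn _ _).mp h
  obtain ⟨v₀, hv₀, hfix⟩ : ∃ v₀ : Vn, v₀ ≠ 0 ∧ Es hF n x w b • v₀ = v₀ := by
    by_cases hx0 : x = 0
    · refine ⟨Pi.single ⟨0, by omega⟩ 1, ?_, ?_⟩
      · intro h0
        have := congrFun h0 ⟨0, by omega⟩
        simp at this
      · rw [Es_smul hF n H, hx0, hermForm_zero_right hF]
        simp
    · exact ⟨x, hx0, by rw [Es_smul hF n H, H.hx, H.hxw hF]; simp⟩
  have h1 := ha v₀
  rw [hfix] at h1
  have ha1 := Es_eigen hF n H' v₀ hv₀ a h1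
  apply su_ext
  intro v
  rw [ha v, ha1, one_smul]

include hF in
/-- the centre of a nontrivial root element is determined up to a scalar -/
theorem root_centre_unique {y y' : Vn} (hy0 : y ≠ 0) (hy : hh y y = 0) (hy' : hh y' y' = 0) {c c' : F}
    (hc0 : c ≠ 0) (hc : c ^ q = -c) (hc' : c' ^ q = -c')
    (h : Es hF n y 0 c = Es hF n y' 0 c') : ∃ a : F, y = a • y' := by
  obtain ⟨f₁, -, hyf⟩ := exists_partner hF n y hy0 hy
  have hfy : hh f₁ y = 1 := herm_fe hF hyf
  have h1 : Es hF n y 0 c • f₁ = Es hF n y' 0 c' • f₁ := by rw [h]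
  rw [Es_smul hF n (EHyp_of_iso n hy hc), Es_smul hF n (EHyp_of_iso n hy' hc'), hfy,
    hermForm_zero_right hF] at h1
  simp only [smul_zero, add_zero, mul_one, sub_zero] at h1
  have h2 : c • y = (c' * hh f₁ y') • y' := add_left_cancel h1
  refine ⟨c⁻¹ * (c' * hh f₁ y'), ?_⟩
  rw [mul_smul, ← h2, smul_smul, inv_mul_cancel₀ hc0, one_smul]


section pair
variable {e f : Fin n → F} (he : hermForm n F q e e = 0) (hf : hermForm n F q f f = 0)
  (hef : hermForm n F q e f = 1)

include hF he hf hef in
/-- an anisotropic vector of the complement -/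
theorem exists_W_aniso (hn : 3 ≤ n) : ∃ w : Vn, w ∈ Wsub n q e f ∧ hh w w ≠ 0 := by
  obtain ⟨w, w', hw, hw', h1⟩ := exists_W_pair hF n he hf hef hn
  have h1' : hh w' w = 1 := herm_fe hF h1
  by_cases h2 : hh w w = 0
  · by_cases h3 : hh w' w' = 0
    · obtain ⟨t, ht⟩ := exists_trace_eq hF (1 : F) (one_pow q)
      refine ⟨w + t • w', (Wsub n q e f).add_mem hw ((Wsub n q e f).smul_mem t hw'), ?_⟩
      simp only [hermForm_add_left, hermForm_add_right hF, hermForm_smul_left, hermForm_smul_right,
        h1, h1', h2, h3]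
      intro h
      have : (1 : F) = 0 := by
        rw [← ht]
        linear_combination h
      exact one_ne_zero this
    · exact ⟨w', hw', h3⟩
  · exact ⟨w, hw, h2⟩

end pair

include hF in
/-- a semilinear bijection fixing all isotropic points is linear -/
theorem semi_fix_iso (hn : 3 ≤ n) (σ : F ≃+* F) (δ : Vn → Vn)
    (hadd : ∀ u v, δ (u + v) = δ u + δ v) (hsmul : ∀ (c : F) (v : Vn), δ (c • v) = σ c • δ v)
    (hinj : ∀ v, δ v = 0 → v = 0)
    (hiso : ∀ x : Vn, x ≠ 0 → hh x x = 0 → ∃ a : F, δ x = a • x) (b : F) : σ b = b := by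
  obtain ⟨e, f, he, hf, hef⟩ := exists_hyp_pair hF n (by omega)
  have hfe : hh f e = 1 := herm_fe hF hef
  have he0 : e ≠ 0 := e_ne_zero n hef
  have hf0 : f ≠ 0 := f_ne_zero hF n hef
  obtain ⟨ae, hae⟩ := hiso e he0 he
  obtain ⟨af, haf⟩ := hiso f hf0 hf
  have hae0 : ae ≠ 0 := by
    rintro rfl
    rw [zero_smul] at hae
    exact he0 (hinj e hae)
  -- the relation on the hyperbolic line
  have hstar : ∀ c : F, c ^ q = -c → σ c * af = ae * c := by
    intro c hc
    have hx : hh (e + c • f) (e + c • f) = 0 := by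
      simp only [hermForm_add_left, hermForm_add_right hF, hermForm_smul_left, hermForm_smul_right,
        he, hf, hef, hfe, hc]
      ring
    have hx0 : e + c • f ≠ 0 := by
      intro h0
      have := congrArg (fun v => hh v f) h0
      simp only [hermForm_add_left, hermForm_smul_left, hef, hf, hermForm_zero_left] at this
      simp at this
    obtain ⟨a, ha⟩ := hiso _ hx0 hx
    rw [hadd, hsmul, hae, haf] at ha
    have g1 := congrArg (fun v => hh v f) ha
    have g2 := congrArg (fun v => hh v e) ha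
    simp only [hermForm_add_left, hermForm_smul_left, he, hf, hef, hfe] at g1 g2
    have : a = ae := by linear_combination -g1
    rw [this] at g2
    linear_combination g2
  -- the key computation
  have hkey : ∀ w : Vn, w ∈ Wsub n q e f → w ≠ 0 → ∀ b : F, b + b ^ q + hh w w = 0 → σ b = b := by
    intro w hw hw0 b hb
    have hew : hh e w = 0 := herm_symm_zero hF n hw.1
    have hfw : hh f w = 0 := herm_symm_zero hF n hw.2
    -- the vectors `e + w + b f`
    have hxt : ∀ b' : F, b' + b' ^ q + hh w w = 0 → ∃ a : F,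
        hh (δ w) f = a - ae ∧ hh (δ w) e = a * b' - σ b' * af ∧ prW n q e f (δ w) = a • w := by
      intro b' hb'
      have hx : hh (e + w + b' • f) (e + w + b' • f) = 0 := by
        simp only [hermForm_add_left, hermForm_add_right hF, hermForm_smul_left,
          hermForm_smul_right, he, hf, hef, hfe, hw.1, hw.2, hew, hfw]
        linear_combination hb'
      have hx0 : e + w + b' • f ≠ 0 := by
        intro h0
        have := congrArg (fun v => hh v f) h0
        simp only [hermForm_add_left, hermForm_smul_left, hef, hf, hw.2, hermForm_zero_left] at this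
        simp at this
      obtain ⟨a, ha⟩ := hiso _ hx0 hx
      rw [hadd, hadd, hsmul, hae, haf] at ha
      have hδw : δ w = (a - ae) • e + a • w + (a * b' - σ b' * af) • f := by
        have : δ w = a • (e + w + b' • f) - ae • e - σ b' • af • f := by
          rw [← ha]; abel
        rw [this]
        module
      refine ⟨a, ?_, ?_, ?_⟩
      · rw [hδw]
        simp only [hermForm_add_left, hermForm_smul_left, he, hf, hef, hfe, hw.1, hw.2]
        ring
      · rw [hδw]
        simp only [hermForm_add_left, hermForm_smul_left, he, hf, hef, hfe, hw.1, hw.2]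
        ring
      · rw [hδw, prW_add, prW_add, prW_smul, prW_smul, prW_smul, prW_self_e n he hef,
          prW_self_f hF n hf hef, prW_of_mem n hw.1 hw.2]
        simp
    obtain ⟨c, hc0, hc⟩ := exists_trace_zero hF
    have hbc : (b + c) + (b + c) ^ q + hh w w = 0 := by
      rw [pow_q_add hF, hc]
      linear_combination hb
    obtain ⟨A, hA1, hA2, hA3⟩ := hxt b hb
    obtain ⟨A', hA1', hA2', -⟩ := hxt (b + c) hbc
    have hAA' : A' = A := by linear_combination hA1 - hA1'
    rw [hAA', map_add] at hA2'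
    have hAe : A = ae := by
      have h1 : A * c = σ c * af := by linear_combination hA2 - hA2'
      rw [hstar c hc] at h1
      exact mul_right_cancel₀ hc0 h1
    -- the vector `b e + w + f`
    have hy : hh (b • e + w + f) (b • e + w + f) = 0 := by
      simp only [hermForm_add_left, hermForm_add_right hF, hermForm_smul_left,
        hermForm_smul_right, he, hf, hef, hfe, hw.1, hw.2, hew, hfw]
      linear_combination hb
    have hy0 : b • e + w + f ≠ 0 := by
      intro h0
      have := congrArg (fun v => hh v e) h0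
      simp only [hermForm_add_left, hermForm_smul_left, hfe, he, hw.1, hermForm_zero_left] at this
      simp at this
    obtain ⟨a, ha⟩ := hiso _ hy0 hy
    rw [hadd, hadd, hsmul, hae, haf] at ha
    have hδw : δ w = (a * b - σ b * ae) • e + a • w + (a - af) • f := by
      have : δ w = a • (b • e + w + f) - σ b • ae • e - af • f := by
        rw [← ha]; abel
      rw [this]
      module
    have h2 : prW n q e f (δ w) = a • w := by
      rw [hδw, prW_add, prW_add, prW_smul, prW_smul, prW_smul, prW_self_e n he hef,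
        prW_self_f hF n hf hef, prW_of_mem n hw.1 hw.2]
      simp
    have haA : a = A := by
      have h3 : (a - A) • w = 0 := by rw [sub_smul, ← h2, ← hA3, sub_self]
      rcases smul_eq_zero.mp h3 with h4 | h4
      · exact sub_eq_zero.mp h4
      · exact absurd h4 hw0
    have h4 : hh (δ w) f = a * b - σ b * ae := by
      rw [hδw]
      simp only [hermForm_add_left, hermForm_smul_left, he, hf, hef, hfe, hw.1, hw.2]
      ring
    rw [hA1, haA, hAe] at h4
    have h5 : ae * (σ b - b) = 0 := by linear_combination h4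
    rcases mul_eq_zero.mp h5 with h6 | h6
    · exact absurd h6 hae0
    · exact sub_eq_zero.mp h6
  -- elements of nonzero trace
  obtain ⟨w₁, hw₁, hd⟩ := exists_W_aniso hF n he hf hef hn
  have hdq : (hh w₁ w₁) ^ q = hh w₁ w₁ := herm_self_fixed hF n w₁
  have htr : ∀ b : F, b + b ^ q ≠ 0 → σ b = b := by
    intro b hb
    have ht0 : -(b + b ^ q) / hh w₁ w₁ ≠ 0 := div_ne_zero (neg_ne_zero.mpr hb) hd
    have htq : (-(b + b ^ q) / hh w₁ w₁) ^ q = -(b + b ^ q) / hh w₁ w₁ := by
      rw [div_pow, hdq, pow_q_neg hF, pow_q_add hF, pow_q_pow_q hF]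
      ring
    obtain ⟨μ, hμ⟩ := Cfsg.Agent.Lib.Helper5.HermCount.exists_norm_eq hF _ ht0 htq
    have hμ0 : μ ≠ 0 := by
      rintro rfl
      rw [zero_pow (by omega)] at hμ
      exact ht0 hμ.symm
    apply hkey (μ • w₁) ((Wsub n q e f).smul_mem μ hw₁)
    · intro h0
      rcases smul_eq_zero.mp h0 with h1 | h1
      · exact hμ0 h1
      · rw [h1, hermForm_zero_left] at hd
        exact hd rfl
    · rw [hermForm_smul_left, hermForm_smul_right]
      have : μ * (μ ^ q * hh w₁ w₁) = μ ^ (q + 1) * hh w₁ w₁ := by ring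
      rw [this, hμ]
      field_simp
      ring
  by_cases hb : b + b ^ q = 0
  · obtain ⟨r, hr⟩ := exists_trace_eq hF (1 : F) (one_pow q)
    have h1 : σ r = r := htr r (by rw [hr]; exact one_ne_zero)
    have h2 : σ (b + r) = b + r := by
      apply htr
      rw [pow_q_add hF]
      have : b + r + (b ^ q + r ^ q) = (b + b ^ q) + (r + r ^ q) := by ring
      rw [this, hb, hr, zero_add]
      exact one_ne_zero
    rw [map_add, h1] at h2
    exact add_right_cancel h2
  · exact htr b hb

end Cfsg.Agent.Lib.Helper9.APSU
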