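import Mathlib
import Cfsg.Prelude
import Cfsg.Agent.Lib.Helper9.APSU22

/-! Automorphisms of `PSU_n(q)`, part 23: the homomorphism onto the automorphism group of the
field. -/

set_option autoImplicit false
open Cfsg

namespace Cfsg.Agent.Lib.Helper9.APSU

open Matrix Cfsg.Agent.Lib.Helper5.Herm Cfsg.Agent.Lib.Helper5.HermBlock
  Cfsg.Agent.Lib.Helper5.HermTv Cfsg.Agent.Lib.Helper5.HermEich Cfsg.Agent.Lib.Helper5.HermSU
  Cfsg.Agent.Lib.Helper5.HermSimple

attribute [local instance 2000] suSMul suAction suSMulComm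

variable {F : Type*} [Field F] [Fintype F] {q : ℕ} (hF : Fintype.card F = q ^ 2) (n : ℕ)

set_option quotPrecheck false
local notation "Vn" => (Fin n → F)
local notation "Mn" => Matrix (Fin n) (Fin n) F
local notation "GUn" => ↥(Cfsg.GU n F q)
local notation "SUn" => ↥(Cfsg.SU n F q)
local notation "PSUn" => Cfsg.PSU n F q
local notation "hh" => hermForm n F q

omit [Fintype F] in
theorem vmap_zero (σ : F ≃+* F) : vmap n σ (0 : Vn) = 0 := by
  ext i; simp [vmap]

omit [Fintype F] in
theorem gact_zero (g : GUn) : gact n g (0 : Vn) = 0 := Matrix.mulVec_zero _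

include hF in
/-- a field automorphism which is inner-diagonal is trivial -/
theorem sigma_eq_one (hn : 3 ≤ n) (σ : RingAut F) (g : GUn) (h : fU n σ = cU n g) : σ = 1 := by
  have hn1 : 1 ≤ n := by omega
  apply RingEquiv.ext
  intro b
  apply semi_fix_iso hF n hn σ (fun v => gact n g⁻¹ (vmap n σ v))
  · intro u v
    rw [vmap_add, gact_add]
  · intro c v
    rw [vmap_smul, gact_smul]
  · intro v hv
    have h1 := congrArg (gact n g) hv
    rw [gact_gact_inv, gact_zero] at h1
    have h2 := congrArg (vmap n σ.symm) h1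
    rw [vmap_symm', vmap_zero] at h2
    exact h2
  · intro x hx0 hx
    obtain ⟨c, hc0, hc⟩ := exists_trace_zero hF
    have H := EHyp_of_iso n hx hc
    have h1 : fU n σ (mkU n (Es hF n x 0 c)) = cU n g (mkU n (Es hF n x 0 c)) := by rw [h]
    rw [fU_mkU, cU_mkU, fieldSU_Es hF n σ H, conjSU_Es hF n g H] at h1
    have h2 := Es_mkU_inj hF n hn1 (EHyp_vmap n σ H) (EHyp_conj n g H) h1
    rw [vmap_zero, gact_zero] at h2
    have hσx0 : vmap n σ x ≠ 0 := by
      intro h0
      have := congrArg (vmap n σ.symm) h0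
      rw [vmap_symm', vmap_zero] at this
      exact hx0 this
    have hσc0 : σ c ≠ 0 := by rw [Ne, map_eq_zero_iff σ σ.injective]; exact hc0
    have hσc : (σ c) ^ q = -σ c := by rw [← map_pow, hc, map_neg]
    obtain ⟨a, ha⟩ := root_centre_unique hF n hσx0 (EHyp_vmap n σ H).hx (EHyp_conj n g H).hx
      hσc0 hσc hc h2
    exact ⟨a, by rw [ha, gact_smul, gact_inv_gact]⟩

section tau
variable (hn : 3 ≤ n) (h32 : ¬ (n = 3 ∧ q = 2)) (p : ℕ) [Fact p.Prime] [CharP F p]

include hF hn h32 p in
theorem exists_std (β : MulAut PSUn) : ∃ (σ : RingAut F) (g : GUn), β = cU n g * fU n σ := by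
  obtain ⟨g, σ, h⟩ := exists_IndAct hF n hn h32 p β
  exact ⟨σ, g, (indAct_iff n g σ β).mp h⟩

include hF hn in
theorem std_unique {g g' : GUn} {σ σ' : RingAut F} (h : cU n g * fU n σ = cU n g' * fU n σ') :
    σ = σ' := by
  have h1 : fU (q := q) n (σ * σ'⁻¹) = cU n (g⁻¹ * g') := by
    rw [map_mul, map_mul, map_inv, map_inv]
    have h2 : fU (q := q) n σ = (cU n g)⁻¹ * (cU n g' * fU n σ') := by
      rw [← h, inv_mul_cancel_left]
    rw [h2]
    group
  have h3 := sigma_eq_one hF n hn _ _ h1
  exact mul_inv_eq_one.mp h3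

/-- the field automorphism attached to an automorphism of `PSU_n(q)` -/
noncomputable def tauU : MulAut (Cfsg.PSU n F q) →* RingAut F where
  toFun β := Classical.choose (exists_std hF n hn h32 p β)
  map_one' := by
    obtain ⟨g, hg⟩ := Classical.choose_spec (exists_std hF n hn h32 p (1 : MulAut PSUn))
    apply std_unique hF n hn (g := g) (g' := 1)
    rw [← hg, map_one, map_one, one_mul]
  map_mul' β β' := by
    obtain ⟨g, hg⟩ := Classical.choose_spec (exists_std hF n hn h32 p β)
    obtain ⟨g', hg'⟩ := Classical.choose_spec (exists_std hF n hn h32 p β')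
    obtain ⟨g'', hg''⟩ := Classical.choose_spec (exists_std hF n hn h32 p (β * β'))
    apply std_unique hF n hn (g := g'')
      (g' := g * fieldGU n (Classical.choose (exists_std hF n hn h32 p β)) g')
    rw [← hg'']
    conv_lhs => rw [hg, hg']
    rw [map_mul, map_mul]
    have := fU_mul_cU (q := q) n (Classical.choose (exists_std hF n hn h32 p β)) g'
    calc cU n g * fU n (Classical.choose (exists_std hF n hn h32 p β)) *
          (cU n g' * fU n (Classical.choose (exists_std hF n hn h32 p β')))
        = cU n g * (fU n (Classical.choose (exists_std hF n hn h32 p β)) * cU n g') *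
            fU n (Classical.choose (exists_std hF n hn h32 p β')) := by group
      _ = _ := by rw [this]; group

theorem tauU_eq {β : MulAut PSUn} {g : GUn} {σ : RingAut F} (h : β = cU n g * fU n σ) :
    tauU hF n hn h32 p β = σ := by
  obtain ⟨g', hg'⟩ := Classical.choose_spec (exists_std hF n hn h32 p β)
  apply std_unique hF n hn (g := g') (g' := g)
  rw [← h]
  exact hg'.symm

theorem tauU_cU (g : GUn) : tauU hF n hn h32 p (cU n g) = 1 :=
  tauU_eq hF n hn h32 p (g := g) (by rw [map_one, mul_one])

theorem tauU_fU (σ : RingAut F) : tauU hF n hn h32 p (fU n σ) = σ :=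
  tauU_eq hF n hn h32 p (g := 1) (by rw [map_one, one_mul])

theorem tauU_surjective : Function.Surjective (tauU hF n hn h32 p) :=
  fun σ => ⟨fU n σ, tauU_fU hF n hn h32 p σ⟩

theorem tauU_ker : (tauU hF n hn h32 p).ker = (cU (F := F) (q := q) n).range := by
  ext β
  rw [MonoidHom.mem_ker]
  constructor
  · intro h
    obtain ⟨σ, g, hg⟩ := exists_std hF n hn h32 p β
    have h1 := tauU_eq hF n hn h32 p hg
    rw [h] at h1
    rw [← h1, map_one, mul_one] at hg
    exact ⟨g, hg.symm⟩
  · rintro ⟨g, rfl⟩
    exact tauU_cU hF n hn h32 p g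

end tau

end Cfsg.Agent.Lib.Helper9.APSU
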