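import Mathlib
import Cfsg.Prelude
import Cfsg.Agent.Lib.Helper9.APSU23
import Cfsg.Agent.Lib.Helper9.APSL19

/-! Automorphisms of `PSU_n(q)`, part 24: the kernel of `GU → Aut PSU` and the order of the
automorphism group. -/

set_option autoImplicit false
open Cfsg

namespace Cfsg.Agent.Lib.Helper9.APSU

open Matrix Cfsg.Agent.Lib.Helper5.Herm Cfsg.Agent.Lib.Helper5.HermBlock
  Cfsg.Agent.Lib.Helper5.HermTv Cfsg.Agent.Lib.Helper5.HermEich Cfsg.Agent.Lib.Helper5.HermSU
  Cfsg.Agent.Lib.Helper5.HermSimple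

attribute [local instance 2000] suSMul suAction suSMulComm

variable {F : Type*} [Field F] [Fintype F] {q : ℕ} (hF : Fintype.card F = q ^ 2) (n : ℕ)

set_option quotPrecheck false
local notation "Vn" => (Fin n → F)
local notation "Mn" => Matrix (Fin n) (Fin n) F
local notation "GUn" => ↥(Cfsg.GU n F q)
local notation "SUn" => ↥(Cfsg.SU n F q)
local notation "PSUn" => Cfsg.PSU n F q
local notation "hh" => hermForm n F q

include hF in
/-- the kernel of `GU → Aut PSU` consists of the scalars -/
theorem mem_ker_cU (hn : 3 ≤ n) (g : GUn) :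
    g ∈ (cU (F := F) (q := q) n).ker ↔ ∃ a : F, ∀ v : Vn, gact n g v = a • v := by
  have hn1 : 1 ≤ n := by omega
  rw [MonoidHom.mem_ker]
  constructor
  · intro h
    apply scalar_of_fix hF n (by omega) g
    intro x hx0 hx
    obtain ⟨c, hc0, hc⟩ := exists_trace_zero hF
    have H := EHyp_of_iso n hx hc
    have h1 : cU n g (mkU n (Es hF n x 0 c)) = mkU n (Es hF n x 0 c) := by rw [h]; rfl
    rw [cU_mkU, conjSU_Es hF n g H] at h1
    have h2 := Es_mkU_inj hF n hn1 (EHyp_conj n g H) H h1
    rw [gact_zero] at h2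
    have hgx0 : gact n g x ≠ 0 := by
      intro h0
      have := congrArg (gact n g⁻¹) h0
      rw [gact_inv_gact, gact_zero] at this
      exact hx0 this
    exact root_centre_unique hF n hgx0 (EHyp_conj n g H).hx hx hc0 hc hc h2
  · rintro ⟨a, ha⟩
    have ha0 : a ≠ 0 := by
      rintro rfl
      obtain ⟨e, f, he, hf, hef⟩ := exists_hyp_pair hF n (by omega)
      have := herm_gact n g e f
      rw [ha e, zero_smul, hermForm_zero_left, hef] at this
      exact zero_ne_one this
    apply MulEquiv.ext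
    intro x
    obtain ⟨s, rfl⟩ := mkU_surjective n x
    rw [cU_mkU]
    show mkU n _ = mkU n s
    congr 1
    apply su_ext
    intro v
    have h1 := conjSU_smul n g s v
    rw [ha, ha, su_smul_smul] at h1
    exact smul_right_injective _ ha0 h1

include hF in
/-- the number of scalars of `GU` -/
theorem card_ker_cU (hn : 3 ≤ n) : Nat.card ↥(cU (F := F) (q := q) n).ker = q + 1 := by
  rw [← Cfsg.Agent.Lib.Helper5.HermCount.card_norm_one hF]
  obtain ⟨e, f, he, hf, hef⟩ := exists_hyp_pair hF n (by omega)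
  have he0 : e ≠ 0 := e_ne_zero n hef
  symm
  apply Nat.card_congr
  refine Equiv.ofBijective (fun a : {x : F // x ^ (q + 1) = 1} =>
    (⟨sc hF n a.1 a.2, (mem_ker_cU hF n hn _).mpr ⟨a.1, gact_sc hF n a.1 a.2⟩⟩ :
      ↥(cU (F := F) (q := q) n).ker)) ⟨?_, ?_⟩
  · intro a a' haa'
    have h1 : sc hF n a.1 a.2 = sc hF n a'.1 a'.2 := congrArg Subtype.val haa'
    have h2 : gact n (sc hF n a.1 a.2) e = gact n (sc hF n a'.1 a'.2) e := by rw [h1]
    rw [gact_sc, gact_sc] at h2
    apply Subtype.ext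
    have h3 : (a.1 - a'.1) • e = 0 := by rw [sub_smul, h2, sub_self]
    rcases smul_eq_zero.mp h3 with h4 | h4
    · exact sub_eq_zero.mp h4
    · exact absurd h4 he0
  · rintro ⟨g, hg⟩
    obtain ⟨a, ha⟩ := (mem_ker_cU hF n hn g).mp hg
    have ha1 : a ^ (q + 1) = 1 := by
      have := herm_gact n g e f
      rw [ha, ha, hermForm_smul_left, hermForm_smul_right, hef] at this
      rw [pow_succ, mul_comm]
      linear_combination this
    refine ⟨⟨a, ha1⟩, ?_⟩
    apply Subtype.ext
    apply ext_gact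
    intro v
    rw [gact_sc, ha]

section card
variable (hn : 3 ≤ n) (h32 : ¬ (n = 3 ∧ q = 2))

include hF hn in
theorem card_range_cU : Nat.card ↥(cU (F := F) (q := q) n).range = Nat.card SUn := by
  have h1 := Subgroup.card_mul_index (cU (F := F) (q := q) n).ker
  rw [Subgroup.index_ker, card_ker_cU hF n hn,
    ← Cfsg.Agent.Lib.Helper5.HermCard.card_SU hF n (by omega)] at h1
  exact Nat.eq_of_mul_eq_mul_left (by omega) h1

include hF hn in
theorem card_SU_eq : Nat.card SUn = Nat.gcd n (q + 1) * Nat.card PSUn := by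
  rw [← Subgroup.card_mul_index (Subgroup.center SUn),
    Cfsg.Agent.Lib.Helper5.HermCenter.card_center_SU hF n (by omega)]
  rfl

include hF hn h32 in
/-- **the order of `Aut(PSU_n(q))`** -/
theorem card_aut_PSU (p f : ℕ) [Fact p.Prime] (hq : q = p ^ f) :
    Nat.card (MulAut PSUn) = Nat.gcd n (q + 1) * (2 * f) * Nat.card PSUn := by
  have : CharP F p := charP_of_card_sq p f hq hF
  have hF' : Nat.card F = p ^ (2 * f) := by
    rw [Nat.card_eq_fintype_card, hF, hq, ← pow_mul, mul_comm]
  obtain ⟨-, hcard⟩ := Cfsg.Agent.Lib.Helper9.APSL.ringAut_cyclic_card' (F := F) p (2 * f) hF'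
  rw [Cfsg.Agent.Lib.Helper9.APSL.card_of_surjective_hom _ (tauU_surjective hF n hn h32 p),
    tauU_ker, card_range_cU hF n hn, card_SU_eq hF n hn, hcard]
  ring

end card

end Cfsg.Agent.Lib.Helper9.APSU
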