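import Mathlib
import Cfsg.Prelude
import Cfsg.Agent.Lib.Helper9.APSU24
import Cfsg.Agent.S0783

/-! Automorphisms of `PSU_n(q)`, part 25: the structure of the outer automorphism group. -/

set_option autoImplicit false
open Cfsg

namespace Cfsg.Agent.Lib.Helper9.APSU

open Matrix Cfsg.Agent.Lib.Helper5.Herm Cfsg.Agent.Lib.Helper5.HermBlock
  Cfsg.Agent.Lib.Helper5.HermTv Cfsg.Agent.Lib.Helper5.HermEich Cfsg.Agent.Lib.Helper5.HermSU
  Cfsg.Agent.Lib.Helper5.HermSimple

attribute [local instance 2000] suSMul suAction suSMulComm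

variable {F : Type*} [Field F] [Fintype F] {q : ℕ} (hF : Fintype.card F = q ^ 2) (n : ℕ)

set_option quotPrecheck false
local notation "Vn" => (Fin n → F)
local notation "Mn" => Matrix (Fin n) (Fin n) F
local notation "GUn" => ↥(Cfsg.GU n F q)
local notation "SUn" => ↥(Cfsg.SU n F q)
local notation "PSUn" => Cfsg.PSU n F q
local notation "hh" => hermForm n F q

omit [Fintype F] in
/-- conjugation by an element of `SU` is inner -/
theorem cU_toGU (s : SUn) : cU n (toGU n s) = MulAut.conj (mkU n s) := by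
  apply MulEquiv.ext
  intro x
  obtain ⟨s', rfl⟩ := mkU_surjective n x
  rw [cU_mkU, MulAut.conj_apply, ← map_inv, ← map_mul, ← map_mul]
  congr 1

/-- `GU_n → Out PSU_n` -/
noncomputable def psiU : ↥(Cfsg.GU n F q) →* Cfsg.Out (Cfsg.PSU n F q) :=
  (QuotientGroup.mk' (Cfsg.Inn (Cfsg.PSU n F q))).comp (cU n)

omit [Fintype F] in
theorem inn_le_range_cU : Cfsg.Inn PSUn ≤ (cU (F := F) (q := q) n).range := by
  rintro _ ⟨x, rfl⟩
  obtain ⟨s, rfl⟩ := mkU_surjective n x
  exact ⟨toGU n s, cU_toGU n s⟩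

include hF in
theorem psiU_ker (hn : 3 ≤ n) : (psiU (F := F) (q := q) n).ker =
    (Matrix.GeneralLinearGroup.det : Matrix.GeneralLinearGroup (Fin n) F →* Fˣ).ker.subgroupOf
      (Cfsg.GU n F q) ⊔ Subgroup.center GUn := by
  have hcomap : (psiU (F := F) (q := q) n).ker = (Cfsg.Inn PSUn).comap (cU n) := by
    ext g
    rw [MonoidHom.mem_ker, Subgroup.mem_comap]
    unfold psiU
    rw [MonoidHom.comp_apply, QuotientGroup.mk'_apply, QuotientGroup.eq_one_iff]
  rw [hcomap]
  apply le_antisymm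
  · intro g hg
    rw [Subgroup.mem_comap] at hg
    obtain ⟨x, hx⟩ := hg
    obtain ⟨s, rfl⟩ := mkU_surjective n x
    rw [← cU_toGU] at hx
    have h1 : (toGU n s)⁻¹ * g ∈ (cU (F := F) (q := q) n).ker := by
      rw [MonoidHom.mem_ker, map_mul, map_inv, hx, inv_mul_cancel]
    obtain ⟨a, ha⟩ := (mem_ker_cU hF n hn _).mp h1
    have h2 : g = toGU n s * ((toGU n s)⁻¹ * g) := by rw [mul_inv_cancel_left]
    rw [h2]
    apply Subgroup.mul_mem_sup
    · rw [Subgroup.mem_subgroupOf, MonoidHom.mem_ker]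
      apply Units.ext
      exact det_toGU n s
    · rw [Subgroup.mem_center_iff]
      intro h
      apply ext_gact
      intro v
      rw [gact_mul, ha, gact_mul, ha, gact_smul]
  · apply sup_le
    · intro g hg
      rw [Subgroup.mem_subgroupOf, MonoidHom.mem_ker] at hg
      have hdet : gdet n g = 1 := by
        have := congrArg Units.val hg
        exact this
      rw [Subgroup.mem_comap, ← toGU_ofGU n g hdet, cU_toGU]
      exact ⟨_, rfl⟩
    · intro g hg
      rw [Subgroup.mem_center_iff] at hg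
      rw [Subgroup.mem_comap]
      have h1 : cU n g = 1 := by
        apply MulEquiv.ext
        intro x
        obtain ⟨s, rfl⟩ := mkU_surjective n x
        rw [cU_mkU]
        show mkU n _ = mkU n s
        congr 1
        apply su_ext
        intro v
        obtain ⟨v₀, rfl⟩ : ∃ v₀ : Vn, v = gact n g v₀ :=
          ⟨gact n g⁻¹ v, (gact_gact_inv n _ v).symm⟩
        rw [conjSU_smul, su_smul_def, su_smul_def, ← gact_mul, ← gact_mul, hg]
      rw [h1]
      exact one_mem _

section out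
variable (hn : 3 ≤ n) (h32 : ¬ (n = 3 ∧ q = 2))

include hF hn h32 in
/-- **the structure of `Out(PSU_n(q))`** -/
theorem out_PSU_struct (p f : ℕ) [Fact p.Prime] (hf : 1 ≤ f) (hq : q = p ^ f) :
    ∃ φ : Cfsg.Out PSUn →* Multiplicative (ZMod (2 * f)),
      Function.Surjective φ ∧ IsCyclic φ.ker ∧ Nat.card φ.ker = Nat.gcd n (q + 1) := by
  have : CharP F p := charP_of_card_sq p f hq hF
  have hF' : Nat.card F = p ^ (2 * f) := by
    rw [Nat.card_eq_fintype_card, hF, hq, ← pow_mul, mul_comm]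
  obtain ⟨hcyc, hcard⟩ := Cfsg.Agent.Lib.Helper9.APSL.ringAut_cyclic_card' (F := F) p (2 * f) hF'
  obtain ⟨e⟩ : Nonempty (RingAut F ≃* Multiplicative (ZMod (2 * f))) := by
    have h2f : Nat.card (RingAut F) = 2 * f := hcard
    rw [← h2f]
    exact ⟨(zmodCyclicMulEquiv hcyc).symm⟩
  have hle : Cfsg.Inn PSUn ≤ (tauU hF n hn h32 p).ker := by
    rw [tauU_ker]
    exact inn_le_range_cU n
  obtain ⟨L, hL⟩ : ∃ L : Cfsg.Out PSUn →* RingAut F,
      ∀ β : MulAut PSUn, L (QuotientGroup.mk β) = tauU hF n hn h32 p β :=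
    ⟨QuotientGroup.lift (Cfsg.Inn PSUn) (tauU hF n hn h32 p) hle, fun β => rfl⟩
  have hLsurj : Function.Surjective L := by
    intro y
    obtain ⟨β, rfl⟩ := tauU_surjective hF n hn h32 p y
    exact ⟨_, hL β⟩
  have hker : (e.toMonoidHom.comp L).ker = (psiU (F := F) (q := q) n).range := by
    ext x
    rw [MonoidHom.mem_ker, MonoidHom.comp_apply]
    have : e.toMonoidHom (L x) = 1 ↔ L x = 1 := e.map_eq_one_iff
    rw [this]
    obtain ⟨β, rfl⟩ := QuotientGroup.mk_surjective x
    rw [hL, ← MonoidHom.mem_ker, tauU_ker]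
    constructor
    · rintro ⟨g, rfl⟩
      exact ⟨g, rfl⟩
    · rintro ⟨g, hg⟩
      have h1 : (cU n g)⁻¹ * β ∈ Cfsg.Inn PSUn := by
        rw [← QuotientGroup.eq]
        exact hg
      obtain ⟨g', hg'⟩ := inn_le_range_cU n h1
      refine ⟨g * g', ?_⟩
      rw [map_mul, hg', mul_inv_cancel_left]
  obtain ⟨φ₀, hφ₀s, hφ₀k⟩ := Cfsg.Agent.S0783.result hF n (by omega)
  have hkk : (psiU (F := F) (q := q) n).ker = φ₀.ker := by rw [psiU_ker hF n hn, hφ₀k]
  obtain ⟨E⟩ : Nonempty (↥(psiU (F := F) (q := q) n).range ≃*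
      Multiplicative (ZMod (Nat.gcd n (q + 1)))) :=
    ⟨(QuotientGroup.quotientKerEquivRange (psiU (F := F) (q := q) n)).symm.trans
      ((QuotientGroup.quotientMulEquivOfEq hkk).trans
        (QuotientGroup.quotientKerEquivOfSurjective φ₀ hφ₀s))⟩
  have hgpos : 0 < Nat.gcd n (q + 1) := Nat.gcd_pos_of_pos_left _ (by omega)
  have : NeZero (Nat.gcd n (q + 1)) := ⟨by omega⟩
  refine ⟨e.toMonoidHom.comp L, e.surjective.comp hLsurj, ?_, ?_⟩
  · rw [hker]
    exact isCyclic_of_surjective E.symm E.symm.surjective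
  · rw [hker, Nat.card_congr E.toEquiv]
    exact (Nat.card_congr Multiplicative.toAdd).trans (Nat.card_zmod _)

end out

end Cfsg.Agent.Lib.Helper9.APSU
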