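import Mathlib
import Cfsg.Prelude
import Cfsg.Agent.Lib.Helper9.APSU25
import Cfsg.Agent.Lib.Helper9.APSL32

/-! Automorphisms of `PSU_n(q)`, part 26: twisted norms in `GU`, restriction of the involution to
a fixed field, and elements of a fixed field moved by the involution. -/

set_option autoImplicit false
open Cfsg

namespace Cfsg.Agent.Lib.Helper9.APSU

open Matrix Cfsg.Agent.Lib.Helper5.Herm Cfsg.Agent.Lib.Helper5.HermBlock
  Cfsg.Agent.Lib.Helper5.HermTv Cfsg.Agent.Lib.Helper5.HermEich Cfsg.Agent.Lib.Helper5.HermSU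
  Cfsg.Agent.Lib.Helper5.HermSimple

open Cfsg.Agent.Lib.Helper9.APSL (sG sG_coe Nk Nk_zero Nk_succ mem_fixed_subfield fixed_card
  ringAut_comm)

attribute [local instance 2000] suSMul suAction suSMulComm

variable {F : Type*} [Field F] [Fintype F] {q : ℕ} (hF : Fintype.card F = q ^ 2) (n : ℕ)

set_option quotPrecheck false
local notation "Vn" => (Fin n → F)
local notation "Mn" => Matrix (Fin n) (Fin n) F
local notation "GLn" => GL (Fin n) F
local notation "GUn" => ↥(Cfsg.GU n F q)
local notation "SUn" => ↥(Cfsg.SU n F q)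
local notation "PSUn" => Cfsg.PSU n F q
local notation "hh" => hermForm n F q

omit [Fintype F] in
theorem fieldGU_coe (σ : RingAut F) (g : GUn) :
    ((fieldGU n σ g : GUn) : GLn) = sG σ (g : GLn) := rfl

/-- the twisted norm `g σ(g) ⋯ σ^{k-1}(g)` in `GU` -/
noncomputable def NkU (σ : RingAut F) (g : ↥(Cfsg.GU n F q)) : ℕ → ↥(Cfsg.GU n F q)
  | 0 => 1
  | k + 1 => g * fieldGU n σ (NkU σ g k)

omit [Fintype F] in
theorem NkU_coe (σ : RingAut F) (g : GUn) (k : ℕ) :
    ((NkU n σ g k : GUn) : GLn) = Nk σ (g : GLn) k := by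
  induction k with
  | zero => rfl
  | succ k ih =>
    show ((g * fieldGU n σ (NkU n σ g k) : GUn) : GLn) = (g : GLn) * sG σ (Nk σ (g : GLn) k)
    rw [← ih]
    rfl

omit [Fintype F] in
theorem pow_cU_fU (σ : RingAut F) (g : GUn) (k : ℕ) :
    (cU n g * fU n σ) ^ k = cU n (NkU n σ g k) * fU n (σ ^ k) := by
  induction k with
  | zero =>
    show _ = cU n 1 * fU n (σ ^ 0)
    rw [pow_zero, pow_zero, map_one, map_one, one_mul]
  | succ k ih =>
    show _ = cU n (g * fieldGU n σ (NkU n σ g k)) * fU n (σ ^ (k + 1))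
    rw [pow_succ', ih, pow_succ', map_mul, map_mul]
    calc cU n g * fU n σ * (cU n (NkU n σ g k) * fU n (σ ^ k))
        = cU n g * (fU n σ * cU n (NkU n σ g k)) * fU n (σ ^ k) := by simp only [mul_assoc]
      _ = cU n g * (cU n (fieldGU n σ (NkU n σ g k)) * fU n σ) * fU n (σ ^ k) := by
          rw [fU_mul_cU]
      _ = _ := by simp only [mul_assoc]

omit [Fintype F] in
/-- the restriction of a commuting automorphism to a fixed field -/
theorem exists_restrict {F₀ : Type*} [Field F₀] (ι : F₀ →+* F) (σ τ : RingAut F)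
    (hι : ∀ a : F, σ a = a ↔ a ∈ Set.range ι) (hcomm : σ * τ = τ * σ) :
    ∃ τ₀ : RingAut F₀, ∀ x : F₀, ι (τ₀ x) = τ (ι x) := by
  have hinj : Function.Injective ι := ι.injective
  have hfix : ∀ (ρ : RingAut F), σ * ρ = ρ * σ → ∀ x : F₀, ρ (ι x) ∈ Set.range ι := by
    intro ρ hρ x
    rw [← hι]
    have h1 : σ (ρ (ι x)) = (σ * ρ) (ι x) := rfl
    rw [h1, hρ]
    show ρ (σ (ι x)) = ρ (ι x)
    rw [(hι (ι x)).mpr ⟨x, rfl⟩]
  have hcomm' : σ * τ⁻¹ = τ⁻¹ * σ := by
    have : τ⁻¹ * (σ * τ) * τ⁻¹ = τ⁻¹ * (τ * σ) * τ⁻¹ := by rw [hcomm]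
    have h2 : τ⁻¹ * σ = σ * τ⁻¹ := by simpa [mul_assoc] using this
    exact h2.symm
  choose f₁ hf₁ using hfix τ hcomm
  choose f₂ hf₂ using hfix τ⁻¹ hcomm'
  refine ⟨{ toFun := f₁
            invFun := f₂
            left_inv := fun x => hinj (by rw [hf₂, hf₁]; simp)
            right_inv := fun x => hinj (by rw [hf₁, hf₂]; simp)
            map_mul' := fun x y => hinj (by rw [hf₁, map_mul, map_mul, map_mul, hf₁, hf₁])
            map_add' := fun x y => hinj (by rw [hf₁, map_add, map_add, map_add, hf₁, hf₁]) },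
    fun x => hf₁ x⟩

/-- an automorphism of odd order fixes an element moved by the involution -/
theorem exists_moved (p f' : ℕ) [hp : Fact p.Prime] [CharP F p] (hf' : 1 ≤ f')
    (hF' : Fintype.card F = p ^ f') (σ τ : RingAut F) (hτ : orderOf τ = 2)
    (hσ : Odd (orderOf σ)) : ∃ t : F, σ t = t ∧ τ t ≠ t := by
  by_contra hcon
  push Not at hcon
  have hcomm : Commute σ τ := ringAut_comm p f' hF' σ τ
  obtain ⟨r, hr⟩ : ∃ r, r = orderOf σ := ⟨_, rfl⟩
  rw [← hr] at hσ
  have hrpos : 0 < r := hσ.pos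
  have hcop : Nat.Coprime (orderOf σ) (orderOf τ) := by
    rw [← hr, hτ]
    exact Nat.Coprime.symm (Nat.coprime_two_left.mpr hσ)
  have hρ : orderOf (σ * τ) = r * 2 := by
    rw [hcomm.orderOf_mul_eq_mul_orderOf_of_coprime hcop, ← hr, hτ]
  have hτ2 : τ * τ = 1 := by
    have := pow_orderOf_eq_one τ
    rw [hτ, pow_two] at this
    exact this
  have hsub : FixedPoints.subfield (Subgroup.zpowers σ) F =
      FixedPoints.subfield (Subgroup.zpowers (σ * τ)) F := by
    ext t
    rw [mem_fixed_subfield, mem_fixed_subfield]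
    constructor
    · intro h
      show σ (τ t) = t
      rw [hcon t h, h]
    · intro h
      have h2 : (σ * τ) ((σ * τ) t) = t := by rw [h, h]
      have h3 : (σ * σ) t = t := by
        have e : (σ * τ) * (σ * τ) = σ * σ := by
          calc (σ * τ) * (σ * τ) = σ * (τ * σ) * τ := by simp only [mul_assoc]
            _ = σ * (σ * τ) * τ := by rw [hcomm.eq]
            _ = σ * σ * (τ * τ) := by simp only [mul_assoc]
            _ = σ * σ := by rw [hτ2, mul_one]
        rw [← e]
        exact h2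
      obtain ⟨m, hm⟩ := hσ
      have h4 : ∀ j : ℕ, ((σ * σ) ^ j) t = t := by
        intro j
        induction j with
        | zero => rfl
        | succ j ih =>
          rw [pow_succ]
          show ((σ * σ) ^ j) ((σ * σ) t) = t
          rw [h3, ih]
      have h5 : (σ * σ) ^ (m + 1) = σ := by
        rw [← pow_two, ← pow_mul]
        have : 2 * (m + 1) = r + 1 := by omega
        rw [this, pow_succ, hr, pow_orderOf_eq_one, one_mul]
      have := h4 (m + 1)
      rw [h5] at this
      exact this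
  obtain ⟨e, he, hc⟩ := fixed_card p f' hF' σ r hrpos hr.symm
  obtain ⟨e', he', hc'⟩ := fixed_card p f' hF' (σ * τ) (r * 2) (by omega) hρ
  rw [hsub, hc'] at hc
  have hee' : e' = e := Nat.pow_right_injective hp.out.two_le hc
  rw [hee'] at he'
  have : e * r = 0 := by
    have h1 : e * (r * 2) = e * r := by rw [he', he]
    nlinarith
  omega

end Cfsg.Agent.Lib.Helper9.APSU
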