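import Mathlib
import Cfsg.Prelude
import Cfsg.Agent.Lib.Helper9.APSU26

/-! Automorphisms of `PSU_n(q)`, part 27: Hilbert 90 for the unitary group, cyclic case of odd
order, by descent of the Gram matrix to the fixed field. -/

set_option autoImplicit false
open Cfsg

namespace Cfsg.Agent.Lib.Helper9.APSU

open Matrix

open Cfsg.Agent.Lib.Helper9.APSL (sG sG_coe sG_one sG_mul tI tI_coe tI_inv_coe tI_tI sG_tI Nk
  Nk_zero Nk_succ mem_fixed_subfield uA uA_coe uA_one uA_mul nrm nrm_apply nrm_two sG_scalar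
  Nk_scalar_mul exists_field_h90 norm_surjective ct ct_apply sG_tI_inv_coe exists_hermitian_sqrt
  exists_descent mem_GU_iff glmap_coe sG_glmap exists_glmap_eq scalar_eq_one hinj_two)

section gl

variable {F : Type*} [Field F] {n : ℕ}

local notation "Mn" => Matrix (Fin n) (Fin n) F
local notation "GLn" => GL (Fin n) F
local notation "scl" => Matrix.GeneralLinearGroup.scalar (Fin n)

/-- `h ↦ (h^*)⁻¹` on `GL` -/
noncomputable def thG (τ : RingAut F) : GLn →* GLn := (sG τ).comp tI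

theorem thG_apply (τ : RingAut F) (h : GLn) : thG τ h = sG τ (tI h) := rfl

theorem thG_inv_coe (τ : RingAut F) (h : GLn) : (((thG τ h)⁻¹ : GLn) : Mn) = ct τ (h : Mn) :=
  sG_tI_inv_coe τ h

theorem thG_thG (τ : RingAut F) (hτ2 : τ * τ = 1) (h : GLn) : thG τ (thG τ h) = h := by
  rw [thG_apply, thG_apply, ← sG_tI, tI_tI, ← sG_mul, hτ2, sG_one]

theorem thG_sG (σ τ : RingAut F) (hc : σ * τ = τ * σ) (h : GLn) :
    thG τ (sG σ h) = sG σ (thG τ h) := by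
  rw [thG_apply, thG_apply, ← sG_tI, ← sG_mul, ← sG_mul, hc]

theorem tI_scalar (u : Fˣ) : tI (scl u : GLn) = scl u⁻¹ := by
  apply Units.ext
  rw [tI_coe, ← map_inv, Matrix.GeneralLinearGroup.coe_scalar, Matrix.scalar_apply,
    Matrix.diagonal_transpose]

theorem thG_scalar (τ : RingAut F) (u : Fˣ) : thG τ (scl u : GLn) = scl (uA τ u)⁻¹ := by
  rw [thG_apply, tI_scalar, sG_scalar, map_inv]

theorem mem_GU_iff_thG (τ : RingAut F) (q : ℕ) (hq : ∀ x : F, τ x = x ^ q) (h : GLn) :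
    h ∈ Cfsg.GU n F q ↔ thG τ h = h := by
  rw [mem_GU_iff τ q hq, ← thG_inv_coe, ← Units.val_mul, ← Units.val_one, Units.val_inj,
    mul_inv_eq_one]
  exact eq_comm

theorem scalar_inj (hn : 0 < n) {u v : Fˣ} (h : (scl u : GLn) = scl v) : u = v := by
  have : (scl (u * v⁻¹) : GLn) = 1 := by rw [map_mul, h, ← map_mul, mul_inv_cancel, map_one]
  exact mul_inv_eq_one.mp (scalar_eq_one hn this)

theorem sc_comm (u : Fˣ) (h : GLn) : h * scl u = scl u * h :=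
  (Matrix.GeneralLinearGroup.scalar_commute u h).symm

theorem nrm_uA_comm (σ τ : RingAut F) (hc : σ * τ = τ * σ) (k : ℕ) (u : Fˣ) :
    nrm σ k (uA τ u) = uA τ (nrm σ k u) := by
  rw [nrm_apply, nrm_apply, map_prod]
  apply Finset.prod_congr rfl
  intro i _
  rw [← uA_mul, ← uA_mul]
  have : σ ^ i * τ = τ * σ ^ i := ((Commute.pow_left (show Commute σ τ from hc) i)).eq
  rw [this]

theorem thG_Nk (σ τ : RingAut F) (hc : σ * τ = τ * σ) (g : GLn) (hg : thG τ g = g) (k : ℕ) :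
    thG τ (Nk σ g k) = Nk σ g k := by
  induction k with
  | zero => rw [Nk_zero, map_one]
  | succ k ih => rw [Nk_succ, map_mul, hg, thG_sG σ τ hc, ih]

/-- a Hermitian matrix fixed by `σ` is `h h^*` with `h` fixed by `σ` -/
theorem exists_fixed_sqrt [Finite F] {F₀ : Type*} [Field F₀] (ι : F₀ →+* F) (σ τ : RingAut F)
    (hτ2 : τ * τ = 1) (hc : σ * τ = τ * σ) (hι : ∀ a : F, σ a = a ↔ a ∈ Set.range ι)
    (hmoved : ∃ t : F, σ t = t ∧ τ t ≠ t) (B' : GLn) (hsB' : sG σ B' = B')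
    (hB'θ : thG τ B' = B'⁻¹) : ∃ hm : GLn, sG σ hm = hm ∧ hm * (thG τ hm)⁻¹ = B' := by
  have : Finite F₀ := Finite.of_injective ι ι.injective
  obtain ⟨τ₀, hτ₀⟩ := exists_restrict ι σ τ hι hc
  have hτ₀2 : τ₀ * τ₀ = 1 := by
    apply RingEquiv.ext
    intro x
    apply ι.injective
    show ι (τ₀ (τ₀ x)) = ι x
    rw [hτ₀, hτ₀]
    exact DFunLike.congr_fun hτ2 (ι x)
  have hτ₀1 : τ₀ ≠ 1 := by
    intro h
    obtain ⟨t, ht, htτ⟩ := hmoved
    obtain ⟨t₀, rfl⟩ := (hι t).mp ht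
    apply htτ
    rw [← hτ₀, h]
    rfl
  obtain ⟨g₀, hg₀⟩ := exists_glmap_eq σ ι hι B' hsB'
  have hct : ct τ (B' : Mn) = B' := by
    rw [← thG_inv_coe, hB'θ, inv_inv]
  have hg₀h : ct τ₀ (g₀ : Matrix (Fin n) (Fin n) F₀) = g₀ := by
    ext i j
    apply ι.injective
    rw [ct_apply, hτ₀]
    have h1 := congrFun (congrFun hct i) j
    rw [ct_apply, ← hg₀, glmap_coe] at h1
    exact h1
  obtain ⟨h₀, hh₀⟩ := exists_hermitian_sqrt τ₀ hτ₀2 hτ₀1 g₀ hg₀h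
  refine ⟨Matrix.GeneralLinearGroup.map ι h₀,
    sG_glmap σ ι (fun b => (hι _).mpr ⟨b, rfl⟩) h₀, ?_⟩
  apply Units.ext
  rw [Units.val_mul, thG_inv_coe, ← hg₀, glmap_coe, glmap_coe, ← hh₀, Matrix.map_mul]
  congr 1
  ext i j
  simp [ct_apply, hτ₀]

/-- **Hilbert 90 for the unitary group**, up to scalars: cyclic case of odd order. -/
theorem exists_unitary_descent [Finite F] (hn : 0 < n) (σ τ : RingAut F) (hτ2 : τ * τ = 1)
    (hτ1 : τ ≠ 1) (hc : σ * τ = τ * σ) (r : ℕ) (hr : 0 < r)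
    (hinj : ∀ i j, i < r → j < r → σ ^ i = σ ^ j → i = j) (hσ : σ ^ r = 1)
    (hmoved : ∃ t : F, σ t = t ∧ τ t ≠ t) (g : GLn) (hg : thG τ g = g) (lam : Fˣ)
    (hlam : Nk σ g r = scl lam) (hfix : uA σ lam = lam) :
    ∃ (k : GLn) (z : Fˣ), thG τ k = k ∧ g * sG σ k = scl z * k := by
  have hlamτ : lam * uA τ lam = 1 := by
    have h1 := thG_Nk σ τ hc g hg r
    rw [hlam, thG_scalar] at h1
    have h2 : (uA τ lam)⁻¹ = lam := scalar_inj hn h1
    calc lam * uA τ lam = (uA τ lam)⁻¹ * uA τ lam := by rw [h2]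
      _ = 1 := inv_mul_cancel _
  obtain ⟨ν, hν⟩ : ∃ ν : Fˣ, nrm σ r ν = lam⁻¹ := by
    obtain ⟨μ, hμ⟩ := norm_surjective σ r hr hinj hσ lam hfix
    exact ⟨μ⁻¹, by rw [map_inv, hμ]⟩
  obtain ⟨g', hg'⟩ : ∃ g' : GLn, g' = scl ν * g := ⟨_, rfl⟩
  have hN' : Nk σ g' r = 1 := by
    rw [hg', Nk_scalar_mul, hlam, hν, ← map_mul, inv_mul_cancel, map_one]
  obtain ⟨h₁, hh₁⟩ := exists_descent σ r hr hinj hσ g' hN'
  obtain ⟨cv, hcv⟩ : ∃ cv : Fˣ, cv = ν * uA τ ν := ⟨_, rfl⟩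
  have hcvτ : uA τ cv = cv := by
    rw [hcv, map_mul, ← uA_mul, hτ2, uA_one, mul_comm]
  have hcvN : nrm σ r cv = 1 := by
    rw [hcv, map_mul, nrm_uA_comm σ τ hc, hν, map_inv, ← mul_inv, hlamτ, inv_one]
  obtain ⟨w, hw⟩ := exists_field_h90 σ r hr hinj hσ cv hcvN
  obtain ⟨δ, hδτ, hδσ⟩ : ∃ δ : Fˣ, uA τ δ = δ ∧ cv * uA σ δ = δ := by
    have h1 : (cv : F) * σ (w : F) = w := by
      have := congrArg Units.val hw
      rwa [Units.val_mul, uA_coe] at this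
    have h3 : τ (cv : F) = cv := by
      have := congrArg Units.val hcvτ
      rwa [uA_coe] at this
    have key : ∀ t : F, σ t = t → t * (w : F) + τ (t * (w : F)) ≠ 0 →
        ∃ δ : Fˣ, uA τ δ = δ ∧ cv * uA σ δ = δ := by
      intro t ht hne
      refine ⟨Units.mk0 _ hne, ?_, ?_⟩
      · apply Units.ext
        rw [uA_coe, Units.val_mk0, map_add]
        have : τ (τ (t * (w : F))) = t * (w : F) := DFunLike.congr_fun hτ2 _
        rw [this, add_comm]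
      · apply Units.ext
        rw [Units.val_mul, uA_coe, Units.val_mk0, map_add, mul_add]
        have h2 : σ (τ (t * (w : F))) = τ (σ (t * (w : F))) := DFunLike.congr_fun hc _
        rw [h2, map_mul σ, ht]
        have h4 : (cv : F) * τ (t * σ (w : F)) = τ (t * (w : F)) := by
          calc (cv : F) * τ (t * σ (w : F)) = τ (cv : F) * τ (t * σ (w : F)) := by rw [h3]
            _ = τ (t * ((cv : F) * σ (w : F))) := by
                rw [← map_mul]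
                congr 1
                ring
            _ = τ (t * (w : F)) := by rw [h1]
        have h5 : (cv : F) * (t * σ (w : F)) = t * (w : F) := by
          calc (cv : F) * (t * σ (w : F)) = t * ((cv : F) * σ (w : F)) := by ring
            _ = t * (w : F) := by rw [h1]
        rw [h4, h5]
    by_cases h0 : (1 : F) * (w : F) + τ (1 * (w : F)) ≠ 0
    · exact key 1 (map_one σ) h0
    · push Not at h0
      obtain ⟨t, ht, htτ⟩ := hmoved
      apply key t ht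
      rw [one_mul] at h0
      have h6 : τ (w : F) = - (w : F) := by linear_combination h0
      rw [map_mul, h6]
      intro h7
      have h8 : (t - τ t) * (w : F) = 0 := by linear_combination h7
      rcases mul_eq_zero.mp h8 with h | h
      · exact htτ (sub_eq_zero.mp h).symm
      · exact w.ne_zero h
  obtain ⟨B, hB⟩ : ∃ B : GLn, B = (thG τ h₁)⁻¹ * h₁ := ⟨_, rfl⟩
  have hBθ : thG τ B = B⁻¹ := by
    rw [hB, map_mul, map_inv, thG_thG τ hτ2, _root_.mul_inv_rev, inv_inv]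
  have hg'θ : thG τ g' = scl cv⁻¹ * g' := by
    rw [hg', map_mul, thG_scalar, hg, ← mul_assoc, ← map_mul, hcv]
    congr 2
    rw [mul_inv, mul_comm ν⁻¹, mul_assoc, inv_mul_cancel, mul_one]
  have hsB : sG σ B = scl cv⁻¹ * B := by
    have h2 : sG σ h₁ = g'⁻¹ * h₁ := by
      rw [eq_inv_mul_iff_mul_eq]
      exact hh₁
    rw [hB, map_mul, map_inv, ← thG_sG σ τ hc, h2, map_mul, map_inv, hg'θ, _root_.mul_inv_rev,
      inv_inv]
    calc (thG τ h₁)⁻¹ * (scl cv⁻¹ * g') * (g'⁻¹ * h₁)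
        = ((thG τ h₁)⁻¹ * scl cv⁻¹) * h₁ := by group
      _ = scl cv⁻¹ * (thG τ h₁)⁻¹ * h₁ := by rw [sc_comm]
      _ = _ := mul_assoc _ _ _
  obtain ⟨B', hB'⟩ : ∃ B' : GLn, B' = scl δ⁻¹ * B := ⟨_, rfl⟩
  have hsB' : sG σ B' = B' := by
    rw [hB', map_mul, sG_scalar, hsB, ← mul_assoc, ← map_mul]
    congr 2
    rw [map_inv, ← mul_inv, mul_comm, hδσ]
  have hB'θ : thG τ B' = B'⁻¹ := by
    have h1 : uA τ δ⁻¹ = δ⁻¹ := by rw [map_inv, hδτ]
    rw [hB', map_mul, thG_scalar, hBθ, h1, inv_inv, _root_.mul_inv_rev,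
      ← map_inv (Matrix.GeneralLinearGroup.scalar (Fin n)), inv_inv]
    exact (sc_comm _ _).symm
  obtain ⟨ι, hι⟩ : ∃ ι : ↥(FixedPoints.subfield (Subgroup.zpowers σ) F) →+* F,
      ∀ a : F, σ a = a ↔ a ∈ Set.range ι :=
    ⟨(FixedPoints.subfield (Subgroup.zpowers σ) F).subtype, fun a => by
      rw [← mem_fixed_subfield]
      constructor
      · intro ha
        exact ⟨⟨a, ha⟩, rfl⟩
      · rintro ⟨b, rfl⟩
        exact b.2⟩
  obtain ⟨hm, hsm, hmB⟩ := exists_fixed_sqrt ι σ τ hτ2 hc hι hmoved B' hsB' hB'θ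
  obtain ⟨e, he⟩ : ∃ e : GLn, e = (thG τ hm)⁻¹ := ⟨_, rfl⟩
  have heθ : thG τ e = hm⁻¹ := by rw [he, map_inv, thG_thG τ hτ2]
  have hse : sG σ e = e := by rw [he, map_inv, ← thG_sG σ τ hc, hsm]
  have hB'e : B' = (thG τ e)⁻¹ * e := by
    rw [heθ, inv_inv, he]
    exact hmB.symm
  obtain ⟨k, hk⟩ : ∃ k : GLn, k = h₁ * e⁻¹ := ⟨_, rfl⟩
  have hk1 : g' * sG σ k = k := by rw [hk, map_mul, map_inv, hse, ← mul_assoc, hh₁]
  have hBB' : B = scl δ * B' := by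
    rw [hB', ← mul_assoc, ← map_mul, mul_inv_cancel, map_one, one_mul]
  have hk2 : (thG τ k)⁻¹ * k = scl δ := by
    rw [hk, map_mul, map_inv, _root_.mul_inv_rev, inv_inv]
    calc thG τ e * (thG τ h₁)⁻¹ * (h₁ * e⁻¹)
        = thG τ e * ((thG τ h₁)⁻¹ * h₁) * e⁻¹ := by group
      _ = thG τ e * (scl δ * ((thG τ e)⁻¹ * e)) * e⁻¹ := by rw [← hB, hBB', hB'e]
      _ = thG τ e * scl δ * (thG τ e)⁻¹ := by group
      _ = scl δ := by rw [sc_comm, mul_inv_cancel_right]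
  have hτ : τ ^ 2 = 1 := by rw [pow_two, hτ2]
  obtain ⟨ρ, hρ⟩ := norm_surjective τ 2 (by norm_num) (hinj_two τ hτ1) hτ δ⁻¹
    (by rw [map_inv, hδτ])
  rw [nrm_two] at hρ
  obtain ⟨k₂, hk₂⟩ : ∃ k₂ : GLn, k₂ = scl ρ * k := ⟨_, rfl⟩
  refine ⟨k₂, ν⁻¹ * uA σ ρ * ρ⁻¹, ?_, ?_⟩
  · rw [← inv_mul_eq_one, hk₂, map_mul, thG_scalar, _root_.mul_inv_rev,
      ← map_inv (Matrix.GeneralLinearGroup.scalar (Fin n)), inv_inv]
    calc (thG τ k)⁻¹ * scl (uA τ ρ) * (scl ρ * k)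
        = (thG τ k)⁻¹ * (scl (uA τ ρ) * scl ρ) * k := by group
      _ = (thG τ k)⁻¹ * scl δ⁻¹ * k := by rw [← map_mul, mul_comm, hρ]
      _ = scl δ⁻¹ * ((thG τ k)⁻¹ * k) := by rw [sc_comm, mul_assoc]
      _ = 1 := by rw [hk2, ← map_mul, inv_mul_cancel, map_one]
  · have hgg' : g = scl ν⁻¹ * g' := by
      rw [hg', ← mul_assoc, ← map_mul, inv_mul_cancel, map_one, one_mul]
    rw [hgg', hk₂, map_mul, sG_scalar]
    calc scl ν⁻¹ * g' * (scl (uA σ ρ) * sG σ k)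
        = scl ν⁻¹ * (g' * scl (uA σ ρ)) * sG σ k := by group
      _ = scl ν⁻¹ * (scl (uA σ ρ) * g') * sG σ k := by rw [sc_comm]
      _ = scl ν⁻¹ * scl (uA σ ρ) * (g' * sG σ k) := by group
      _ = scl ν⁻¹ * scl (uA σ ρ) * k := by rw [hk1]
      _ = scl (ν⁻¹ * uA σ ρ * ρ⁻¹) * (scl ρ * k) := by
          rw [← mul_assoc, ← map_mul, ← map_mul, inv_mul_cancel_right]

end gl

end Cfsg.Agent.Lib.Helper9.APSU
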