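import Mathlib
import Cfsg.Prelude
import Cfsg.Agent.Lib.Helper9.APSU27

/-! Automorphisms of `PSU_n(q)`, part 28: elements of prime order in the coset of a field
automorphism of odd order are conjugate under the inner-diagonal group. -/

set_option autoImplicit false
open Cfsg

namespace Cfsg.Agent.Lib.Helper9.APSU

open Matrix Cfsg.Agent.Lib.Helper5.Herm Cfsg.Agent.Lib.Helper5.HermBlock
  Cfsg.Agent.Lib.Helper5.HermTv Cfsg.Agent.Lib.Helper5.HermEich Cfsg.Agent.Lib.Helper5.HermSU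
  Cfsg.Agent.Lib.Helper5.HermSimple

open Cfsg.Agent.Lib.Helper9.APSL (sG sG_coe Nk Nk_zero Nk_succ uA uA_coe ringAut_comm
  orderOf_involution GL_mulVec_ne_zero scalar_mulVec Tsl Tsl_iterate Tsl_smul sv sv_one
  exists_Tsl_ne_zero conjUnder_of_conj orderOf_conj' single_one_ne_zero)

attribute [local instance 2000] suSMul suAction suSMulComm

variable {F : Type*} [Field F] [Fintype F] {q : ℕ} (hF : Fintype.card F = q ^ 2) (n : ℕ)

set_option quotPrecheck false
local notation "Vn" => (Fin n → F)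
local notation "Mn" => Matrix (Fin n) (Fin n) F
local notation "GLn" => GL (Fin n) F
local notation "GUn" => ↥(Cfsg.GU n F q)
local notation "SUn" => ↥(Cfsg.SU n F q)
local notation "PSUn" => Cfsg.PSU n F q
local notation "hh" => hermForm n F q

include hF in
/-- the involution `x ↦ x ^ q` as a ring automorphism -/
theorem exists_tau : ∃ τ : RingAut F, (∀ x : F, τ x = x ^ q) ∧ τ * τ = 1 ∧ τ ≠ 1 := by
  have hinv : Function.Involutive (Cfsg.Agent.Lib.Helper5.HermBridge.sigma hF) :=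
    Cfsg.Agent.Lib.Helper5.HermBridge.sigma_sigma hF
  refine ⟨RingEquiv.ofBijective (Cfsg.Agent.Lib.Helper5.HermBridge.sigma hF) hinv.bijective,
    fun x => rfl, ?_, ?_⟩
  · apply RingEquiv.ext
    intro x
    exact hinv x
  · intro h
    apply Cfsg.Agent.Lib.Helper5.HermBridge.sigma_ne_id hF
    ext x
    exact DFunLike.congr_fun h x

include hF in
/-- **Case A for `PSU`**: a field automorphism of odd order times an inner-diagonal one, of the
same order, is conjugate to it under the inner-diagonal group. -/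
theorem conj_field_U (hn : 3 ≤ n) (p f' : ℕ) [Fact p.Prime] [CharP F p] (hf' : 1 ≤ f')
    (hF' : Fintype.card F = p ^ f') (σ : RingAut F) (r : ℕ) (hr : Odd r) (hord : orderOf σ = r)
    (g : GUn) (h : (cU n g * fU n σ) ^ r = 1) :
    ∃ k : GUn, cU n g * fU n σ = cU n k * fU n σ * (cU n k)⁻¹ := by
  obtain ⟨τ, hτq, hτ2, hτ1⟩ := exists_tau hF
  have hr0 : 0 < r := hr.pos
  have hn0 : 0 < n := by omega
  have hσ : σ ^ r = 1 := hord ▸ pow_orderOf_eq_one σ
  have hinj : ∀ i j, i < r → j < r → σ ^ i = σ ^ j → i = j := by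
    intro i j hi hj e
    exact pow_injOn_Iio_orderOf (by rw [hord]; exact hi) (by rw [hord]; exact hj) e
  have hc : σ * τ = τ * σ := ringAut_comm p f' hF' σ τ
  have hmoved := exists_moved p f' hf' hF' σ τ (orderOf_involution hτ1 hτ2) (hord ▸ hr)
  rw [pow_cU_fU, hσ, map_one, mul_one] at h
  obtain ⟨a, ha⟩ := (mem_ker_cU hF n hn _).mp (MonoidHom.mem_ker.mpr h)
  have ha' : ∀ v : Vn, ((Nk σ (g : GLn) r : GLn) : Mn) *ᵥ v = a • v := by
    intro v
    rw [← NkU_coe]
    exact ha v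
  have ha0 : a ≠ 0 := by
    intro h0
    have h1 := ha' (Pi.single ⟨0, hn0⟩ 1)
    rw [h0, zero_smul] at h1
    exact GL_mulVec_ne_zero _ (single_one_ne_zero _) h1
  have hlam : Nk σ (g : GLn) r = Matrix.GeneralLinearGroup.scalar (Fin n) (Units.mk0 a ha0) := by
    apply Units.ext
    rw [Matrix.GeneralLinearGroup.coe_scalar]
    ext i j
    have h1 := congrFun (ha' (Pi.single j 1)) i
    rw [mulVec_single_one] at h1
    rw [Matrix.scalar_apply, Matrix.diagonal_apply]
    rw [Matrix.col_apply] at h1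
    rw [h1, Pi.smul_apply, Pi.single_apply, Units.val_mk0]
    by_cases hij : i = j
    · rw [if_pos hij, if_pos hij, smul_eq_mul, mul_one]
    · rw [if_neg hij, if_neg hij, smul_zero]
  have hfix : uA σ (Units.mk0 a ha0) = Units.mk0 a ha0 := by
    obtain ⟨v, hv⟩ := exists_Tsl_ne_zero hn0 σ (g : GLn)
    have hT : ∀ w, (Tsl σ (g : GLn))^[r] w = a • w := by
      intro w
      rw [Tsl_iterate, hσ, sv_one]
      exact ha' w
    have h1 : (Tsl σ (g : GLn))^[r + 1] v = a • Tsl σ (g : GLn) v := by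
      rw [Function.iterate_succ_apply, hT]
    have h2 : (Tsl σ (g : GLn))^[r + 1] v = σ a • Tsl σ (g : GLn) v := by
      rw [Function.iterate_succ_apply', hT, Tsl_smul]
    rw [h1] at h2
    have h3 : (a - σ a) • Tsl σ (g : GLn) v = 0 := by
      rw [sub_smul, h2, sub_self]
    rcases smul_eq_zero.mp h3 with h4 | h4
    · apply Units.ext
      rw [uA_coe]
      exact (sub_eq_zero.mp h4).symm
    · exact absurd h4 hv
  have hgθ : thG τ (g : GLn) = g := (mem_GU_iff_thG τ q hτq _).mp g.2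
  obtain ⟨k, z, hkθ, hkz⟩ := exists_unitary_descent hn0 σ τ hτ2 hτ1 hc r hr0 hinj hσ hmoved
    (g : GLn) hgθ _ hlam hfix
  obtain ⟨K, hK⟩ : ∃ K : GUn, (K : GLn) = k :=
    ⟨⟨k, (mem_GU_iff_thG τ q hτq k).mpr hkθ⟩, rfl⟩
  refine ⟨K, ?_⟩
  obtain ⟨Z, hZ⟩ : ∃ Z : GUn, Z = g * fieldGU n σ K * K⁻¹ := ⟨_, rfl⟩
  have hZc : cU n Z = 1 := by
    rw [← MonoidHom.mem_ker, mem_ker_cU hF n hn]
    refine ⟨(z : F), fun v => ?_⟩
    have h1 : (Z : GLn) = Matrix.GeneralLinearGroup.scalar (Fin n) z := by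
      rw [hZ]
      show (g : GLn) * sG σ (K : GLn) * (K : GLn)⁻¹ = _
      rw [hK, hkz, mul_inv_cancel_right]
    show ((Z : GLn) : Mn) *ᵥ v = _
    rw [h1, Matrix.GeneralLinearGroup.coe_scalar, scalar_mulVec]
  have hgZ : g = Z * K * (fieldGU n σ K)⁻¹ := by
    rw [hZ]
    group
  calc cU n g * fU n σ = cU n (Z * K * (fieldGU n σ K)⁻¹) * fU n σ := by rw [← hgZ]
    _ = cU n K * (cU n (fieldGU n σ K⁻¹) * fU n σ) := by
        rw [map_mul, map_mul, hZc, one_mul, map_inv (fieldGU n σ), mul_assoc]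
    _ = cU n K * (fU n σ * cU n K⁻¹) := by rw [fU_mul_cU]
    _ = _ := by rw [map_inv, mul_assoc]

omit [Fintype F] in
theorem eq_cU_of_innerDiagonal {β : PSUn ≃* PSUn} (h : IsInnerDiagonalAutPSU β) :
    ∃ g : GUn, β = cU n g := by
  obtain ⟨g, hg, hβ⟩ := h
  refine ⟨⟨g, hg⟩, ?_⟩
  apply MulEquiv.ext
  intro x
  obtain ⟨s, rfl⟩ := mkU_surjective n x
  rw [cU_mkU]
  exact hβ s (conjSU n ⟨g, hg⟩ s) (conjSU_coe n ⟨g, hg⟩ s)

omit [Fintype F] in
theorem eq_fU_of_fieldAut {σ : F ≃+* F} {β : PSUn ≃* PSUn} (h : IsFieldAutPSUOf σ β) :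
    β = fU n σ := by
  apply MulEquiv.ext
  intro x
  obtain ⟨s, rfl⟩ := mkU_surjective n x
  rw [fU_mkU]
  exact h s (fieldSU n σ s) (fieldSU_coe n σ s)

omit [Fintype F] in
theorem inndiagPSU_eq : Cfsg.inndiagPSU n F q = (cU (F := F) (q := q) n).range := by
  unfold Cfsg.inndiagPSU Cfsg.autSubgroupOf
  apply le_antisymm
  · rw [Subgroup.closure_le]
    intro β hβ
    obtain ⟨g, rfl⟩ := eq_cU_of_innerDiagonal n hβ
    exact ⟨g, rfl⟩
  · rintro _ ⟨g, rfl⟩
    exact Subgroup.subset_closure (isInnerDiagonal_cU n g)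

section main
variable (hn : 3 ≤ n) (h32 : ¬ (n = 3 ∧ q = 2)) (p : ℕ) [Fact p.Prime] [CharP F p]

include hF hn h32 p in
theorem cU_range_normal : (cU (F := F) (q := q) n).range.Normal := by
  rw [← tauU_ker hF n hn h32 p]
  infer_instance

include hF hn h32 p in
theorem fU_injective : Function.Injective (fU (F := F) (q := q) n) := by
  intro σ σ' h
  have := congrArg (tauU hF n hn h32 p) h
  rwa [tauU_fU, tauU_fU] at this

include hF hn h32 p in
/-- **S2711 in general form** -/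
theorem field_conj_U (f' : ℕ) (hf' : 1 ≤ f') (hF' : Fintype.card F = p ^ f')
    (x δ : MulAut PSUn) (hx : Cfsg.IsFieldAutClassPSU x) {r : ℕ} (hr : r.Prime)
    (hxr : orderOf x = r) (hδ : δ ∈ Cfsg.inndiagPSU n F q) :
    orderOf (δ * x) = r ↔ Cfsg.IsConjUnder (Cfsg.inndiagPSU n F q) x (δ * x) := by
  rw [inndiagPSU_eq] at hδ ⊢
  haveI hD := cU_range_normal hF n hn h32 p
  constructor
  · intro hord
    have hpow : (δ * x) ^ r = 1 := by
      rw [← hord]
      exact pow_orderOf_eq_one _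
    obtain ⟨α, φ, σ, hσ1, hσodd, hφ, e⟩ := hx
    have e1 : α * x * α⁻¹ = fU n σ := by
      rw [e]
      exact eq_fU_of_fieldAut n hφ
    apply conjUnder_of_conj _ α
    obtain ⟨g, hg⟩ := hD.conj_mem δ hδ α
    have e2 : α * (δ * x) * α⁻¹ = cU n g * fU n σ := by
      rw [hg, ← e1]
      group
    rw [e1, e2]
    have hordσ : orderOf (σ : RingAut F) = r := by
      rw [← hxr, ← orderOf_injective (fU (q := q) n) (fU_injective hF n hn h32 p) σ, ← e1,
        orderOf_conj']
    have hpow' : (cU n g * fU n σ) ^ r = 1 := by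
      rw [← e2, conj_pow, hpow, mul_one, mul_inv_cancel]
    have hodd : Odd r := by
      rw [← hordσ]
      exact hσodd
    obtain ⟨k, hk⟩ := conj_field_U hF n hn p f' hf' hF' σ r hodd hordσ g hpow'
    exact ⟨cU n k, ⟨k, rfl⟩, hk⟩
  · rintro ⟨k, _, e⟩
    rw [e, orderOf_conj', hxr]

end main

end Cfsg.Agent.Lib.Helper9.APSU
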