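import Mathlib
import Cfsg.Prelude
import Cfsg.Agent.Lib.Helper9.APSU28

/-! Automorphisms of `PSU_n(q)`, part 29: the centraliser of a field automorphism of odd order in
the inner-diagonal group. -/

set_option autoImplicit false
open Cfsg

namespace Cfsg.Agent.Lib.Helper9.APSU

open Matrix

open Cfsg.Agent.Lib.Helper9.APSL (sG sG_coe sG_one sG_mul Nk uA uA_coe uA_one uA_mul nrm
  nrm_apply nrm_two sG_scalar exists_field_h90 norm_surjective ct ct_apply mem_GU_iff glmap_coe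
  sG_glmap exists_glmap_eq scalar_eq_one hinj_two glmap_mem_center_iff sG_pow_of_scalar
  mem_cent_single scalar_mulVec GL_mulVec_ne_zero single_one_ne_zero ringAut_comm
  orderOf_involution)

section gl

variable {F : Type*} [Field F] {n : ℕ}

local notation "Mn" => Matrix (Fin n) (Fin n) F
local notation "GLn" => GL (Fin n) F
local notation "scl" => Matrix.GeneralLinearGroup.scalar (Fin n)

/-- the restriction of the involution to the fixed field of `σ` is an involution -/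
theorem exists_restrict_invol {F₀ : Type*} [Field F₀] (ι : F₀ →+* F) (σ τ : RingAut F)
    (hτ2 : τ * τ = 1) (hc : σ * τ = τ * σ) (hι : ∀ a : F, σ a = a ↔ a ∈ Set.range ι)
    (hmoved : ∃ t : F, σ t = t ∧ τ t ≠ t) :
    ∃ τ₀ : RingAut F₀, (∀ x : F₀, ι (τ₀ x) = τ (ι x)) ∧ τ₀ * τ₀ = 1 ∧ τ₀ ≠ 1 := by
  obtain ⟨τ₀, hτ₀⟩ := exists_restrict ι σ τ hι hc
  refine ⟨τ₀, hτ₀, ?_, ?_⟩
  · apply RingEquiv.ext
    intro x
    apply ι.injective
    show ι (τ₀ (τ₀ x)) = ι x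
    rw [hτ₀, hτ₀]
    exact DFunLike.congr_fun hτ2 (ι x)
  · intro h
    obtain ⟨t, ht, htτ⟩ := hmoved
    obtain ⟨t₀, rfl⟩ := (hι t).mp ht
    apply htτ
    rw [← hτ₀, h]
    rfl

theorem ct_map_iota {F₀ : Type*} [Field F₀] (ι : F₀ →+* F) (τ : RingAut F) (τ₀ : RingAut F₀)
    (hτ₀ : ∀ x : F₀, ι (τ₀ x) = τ (ι x)) (A : Matrix (Fin n) (Fin n) F₀) :
    (ct τ₀ A).map ι = ct τ (A.map ι) := by
  ext i j
  simp [ct_apply, hτ₀]

/-- **Hilbert 90 for the group of norm-one elements** -/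
theorem unitary_scalar_h90 [Finite F] {F₀ : Type*} [Field F₀] (ι : F₀ →+* F) (σ τ : RingAut F)
    (hτ2 : τ * τ = 1) (hc : σ * τ = τ * σ) (hι : ∀ a : F, σ a = a ↔ a ∈ Set.range ι)
    (hmoved : ∃ t : F, σ t = t ∧ τ t ≠ t) (r : ℕ) (hr : 0 < r)
    (hinj : ∀ i j, i < r → j < r → σ ^ i = σ ^ j → i = j) (hσ : σ ^ r = 1) (lam : Fˣ)
    (h1 : lam * uA τ lam = 1) (h2 : nrm σ r lam = 1) :
    ∃ ν : Fˣ, ν * uA τ ν = 1 ∧ lam * uA σ ν = ν := by
  have : Finite F₀ := Finite.of_injective ι ι.injective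
  obtain ⟨w, hw⟩ := exists_field_h90 σ r hr hinj hσ lam h2
  obtain ⟨c, hcdef⟩ : ∃ c : Fˣ, c = w * uA τ w := ⟨_, rfl⟩
  have hcσ : uA σ c = c := by
    have h3 : uA σ w = lam⁻¹ * w := eq_inv_mul_iff_mul_eq.mpr hw
    have h4 : uA σ (uA τ w) = uA τ (uA σ w) := by rw [← uA_mul, ← uA_mul, hc]
    have h5 : lam⁻¹ * (uA τ lam)⁻¹ = 1 := by rw [← mul_inv, h1, inv_one]
    rw [hcdef, map_mul, h4, h3, map_mul, map_inv, mul_mul_mul_comm, h5, one_mul]
  have hcτ : uA τ c = c := by rw [hcdef, map_mul, ← uA_mul, hτ2, uA_one, mul_comm]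
  obtain ⟨τ₀, hτ₀, hτ₀2, hτ₀1⟩ := exists_restrict_invol ι σ τ hτ2 hc hι hmoved
  obtain ⟨c₀, hc₀⟩ : ∃ c₀ : F₀, ι c₀ = (c : F) := (hι _).mp (by rw [← uA_coe, hcσ])
  have hc₀0 : c₀ ≠ 0 := by
    intro h
    rw [h, map_zero] at hc₀
    exact c.ne_zero hc₀.symm
  have hc₀τ : τ₀ c₀ = c₀ := by
    apply ι.injective
    rw [hτ₀, hc₀, ← uA_coe, hcτ]
  obtain ⟨t₀, ht₀⟩ := norm_surjective τ₀ 2 (by norm_num) (hinj_two τ₀ hτ₀1)
    (by rw [pow_two, hτ₀2]) (Units.mk0 c₀ hc₀0)⁻¹ (by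
      rw [map_inv]
      congr 1
      apply Units.ext
      rw [uA_coe, Units.val_mk0, hc₀τ])
  rw [nrm_two] at ht₀
  obtain ⟨t, ht⟩ : ∃ t : Fˣ, (t : F) = ι (t₀ : F₀) := ⟨Units.map ι.toMonoidHom t₀, rfl⟩
  have htσ : uA σ t = t := by
    apply Units.ext
    rw [uA_coe, ht]
    exact (hι _).mpr ⟨_, rfl⟩
  have htτ : t * uA τ t = c⁻¹ := by
    apply Units.ext
    rw [Units.val_mul, uA_coe, ht, ← hτ₀, ← map_mul]
    have h6 : (t₀ : F₀) * τ₀ (t₀ : F₀) = c₀⁻¹ := by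
      have := congrArg Units.val ht₀
      rwa [Units.val_mul, uA_coe, Units.val_inv_eq_inv_val, Units.val_mk0] at this
    rw [h6, map_inv₀, hc₀, Units.val_inv_eq_inv_val]
  refine ⟨t * w, ?_, ?_⟩
  · rw [map_mul, mul_mul_mul_comm, htτ, ← hcdef, inv_mul_cancel]
  · rw [map_mul, htσ, mul_left_comm, hw]

theorem scl_mem_GU (τ : RingAut F) (q : ℕ) (hq : ∀ x : F, τ x = x ^ q) (u : Fˣ)
    (h : u * uA τ u = 1) : (scl u : GLn) ∈ Cfsg.GU n F q := by
  rw [mem_GU_iff_thG τ q hq, thG_scalar]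
  congr 1
  exact inv_eq_of_mul_eq_one_left h

theorem nrm_of_scl_mem_GU (hn : 0 < n) (τ : RingAut F) (q : ℕ) (hq : ∀ x : F, τ x = x ^ q)
    (u : Fˣ) (h : (scl u : GLn) ∈ Cfsg.GU n F q) : u * uA τ u = 1 := by
  rw [mem_GU_iff_thG τ q hq, thG_scalar] at h
  have h2 : (uA τ u)⁻¹ = u := scalar_inj hn h
  calc u * uA τ u = (uA τ u)⁻¹ * uA τ u := by rw [h2]
    _ = 1 := inv_mul_cancel _

theorem exists_fixed_iota (σ : RingAut F) :
    ∃ ι : ↥(FixedPoints.subfield (Subgroup.zpowers σ) F) →+* F,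
      ∀ a : F, σ a = a ↔ a ∈ Set.range ι :=
  ⟨(FixedPoints.subfield (Subgroup.zpowers σ) F).subtype, fun a => by
    rw [← Cfsg.Agent.Lib.Helper9.APSL.mem_fixed_subfield]
    constructor
    · intro ha
      exact ⟨⟨a, ha⟩, rfl⟩
    · rintro ⟨b, rfl⟩
      exact b.2⟩

end gl

section gu

open Cfsg.Agent.Lib.Helper5.Herm Cfsg.Agent.Lib.Helper5.HermBlock
  Cfsg.Agent.Lib.Helper5.HermTv Cfsg.Agent.Lib.Helper5.HermEich Cfsg.Agent.Lib.Helper5.HermSU
  Cfsg.Agent.Lib.Helper5.HermSimple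

attribute [local instance 2000] suSMul suAction suSMulComm

variable {F : Type*} [Field F] [Fintype F] {q : ℕ} (hF : Fintype.card F = q ^ 2) (n : ℕ)

set_option quotPrecheck false
local notation "Vn" => (Fin n → F)
local notation "Mn" => Matrix (Fin n) (Fin n) F
local notation "GLn" => GL (Fin n) F
local notation "GUn" => ↥(Cfsg.GU n F q)
local notation "SUn" => ↥(Cfsg.SU n F q)
local notation "PSUn" => Cfsg.PSU n F q
local notation "scl" => Matrix.GeneralLinearGroup.scalar (Fin n)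

include hF in
theorem exists_scalar_of_mem_ker (hn : 3 ≤ n) {Z : GUn} (h : Z ∈ (cU (F := F) (q := q) n).ker) :
    ∃ u : Fˣ, (Z : GLn) = scl u := by
  obtain ⟨a, ha⟩ := (mem_ker_cU hF n hn _).mp h
  have hn0 : 0 < n := by omega
  have ha' : ∀ v : Vn, ((Z : GLn) : Mn) *ᵥ v = a • v := ha
  have ha0 : a ≠ 0 := by
    intro h0
    have h1 := ha' (Pi.single ⟨0, hn0⟩ 1)
    rw [h0, zero_smul] at h1
    exact GL_mulVec_ne_zero _ (single_one_ne_zero _) h1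
  refine ⟨Units.mk0 a ha0, ?_⟩
  apply Units.ext
  rw [Matrix.GeneralLinearGroup.coe_scalar]
  ext i j
  have h1 := congrFun (ha' (Pi.single j 1)) i
  rw [mulVec_single_one] at h1
  rw [Matrix.scalar_apply, Matrix.diagonal_apply]
  rw [Matrix.col_apply] at h1
  rw [h1, Pi.smul_apply, Pi.single_apply, Units.val_mk0]
  by_cases hij : i = j
  · rw [if_pos hij, if_pos hij, smul_eq_mul, mul_one]
  · rw [if_neg hij, if_neg hij, smul_zero]

include hF in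
theorem cU_of_scalar (hn : 3 ≤ n) (Z : GUn) (u : Fˣ) (hZ : (Z : GLn) = scl u) :
    cU n Z = 1 := by
  rw [← MonoidHom.mem_ker, mem_ker_cU hF n hn]
  refine ⟨(u : F), fun v => ?_⟩
  show ((Z : GLn) : Mn) *ᵥ v = _
  rw [hZ, Matrix.GeneralLinearGroup.coe_scalar, scalar_mulVec]

include hF in
/-- an inner-diagonal automorphism commuting with a field automorphism of odd order comes from a
fixed unitary matrix -/
theorem cent_fU_iff (hn : 3 ≤ n) (p f' : ℕ) [Fact p.Prime] [CharP F p] (hf' : 1 ≤ f')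
    (hF' : Fintype.card F = p ^ f') (σ : RingAut F) (r : ℕ) (hr : Odd r) (hord : orderOf σ = r)
    (β : MulAut PSUn) :
    β ∈ (cU (F := F) (q := q) n).range ⊓ Subgroup.centralizer {fU n σ}
      ↔ ∃ g : GUn, fieldGU n σ g = g ∧ β = cU n g := by
  obtain ⟨τ, hτq, hτ2, hτ1⟩ := exists_tau hF
  have hr0 : 0 < r := hr.pos
  have hn0 : 0 < n := by omega
  have hσ : σ ^ r = 1 := hord ▸ pow_orderOf_eq_one σ
  have hinj : ∀ i j, i < r → j < r → σ ^ i = σ ^ j → i = j := by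
    intro i j hi hj e
    exact pow_injOn_Iio_orderOf (by rw [hord]; exact hi) (by rw [hord]; exact hj) e
  have hc : σ * τ = τ * σ := ringAut_comm p f' hF' σ τ
  have hmoved := exists_moved p f' hf' hF' σ τ (orderOf_involution hτ1 hτ2) (hord ▸ hr)
  rw [Subgroup.mem_inf, mem_cent_single]
  constructor
  · rintro ⟨⟨g, rfl⟩, hcomm⟩
    rw [fU_mul_cU] at hcomm
    have h1 : cU n (fieldGU n σ g) = cU n g := mul_right_cancel hcomm
    have h2 : fieldGU n σ g * g⁻¹ ∈ (cU (F := F) (q := q) n).ker := by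
      rw [MonoidHom.mem_ker, map_mul, map_inv, h1, mul_inv_cancel]
    obtain ⟨lam, hlam⟩ := exists_scalar_of_mem_ker hF n hn h2
    have hlam' : sG σ (g : GLn) * (g : GLn)⁻¹ = scl lam := hlam
    have h3 : sG σ (g : GLn) = scl lam * g := by rw [← hlam', inv_mul_cancel_right]
    have h4 := sG_pow_of_scalar σ (g : GLn) lam h3 r
    rw [hσ, sG_one] at h4
    have h5 : (scl (nrm σ r lam) : GLn) = 1 := by
      have : (scl (nrm σ r lam) : GLn) * g = 1 * g := by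
        rw [one_mul]
        exact h4.symm
      exact mul_right_cancel this
    have h6 := scalar_eq_one hn0 h5
    have h7 : lam * uA τ lam = 1 := nrm_of_scl_mem_GU hn0 τ q hτq lam (by
      rw [← hlam]
      exact (fieldGU n σ g * g⁻¹).2)
    obtain ⟨ι, hι⟩ := exists_fixed_iota σ
    obtain ⟨ν, hν1, hν2⟩ := unitary_scalar_h90 ι σ τ hτ2 hc hι hmoved r hr0 hinj hσ lam h7 h6
    obtain ⟨Zν, hZν⟩ : ∃ Z : GUn, (Z : GLn) = scl ν :=
      ⟨⟨scl ν, scl_mem_GU τ q hτq ν hν1⟩, rfl⟩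
    refine ⟨Zν * g, ?_, ?_⟩
    · apply Subtype.ext
      show sG σ ((Zν : GLn) * (g : GLn)) = (Zν : GLn) * (g : GLn)
      rw [hZν, map_mul, sG_scalar, h3, ← mul_assoc, ← map_mul, mul_comm (uA σ ν), hν2]
    · rw [map_mul, cU_of_scalar hF n hn Zν ν hZν, one_mul]
  · rintro ⟨g, hg, rfl⟩
    exact ⟨⟨g, rfl⟩, by rw [fU_mul_cU, hg]⟩

include hF in
/-- **the centraliser of a field automorphism of odd order in the inner-diagonal group** -/
theorem exists_cent_fU_equiv (hn : 3 ≤ n) (p f' : ℕ) [Fact p.Prime] [CharP F p] (hf' : 1 ≤ f')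
    (hF' : Fintype.card F = p ^ f') (σ : RingAut F) (r : ℕ) (hr : Odd r) (hord : orderOf σ = r)
    {F₀ : Type*} [Field F₀] (ι : F₀ →+* F) (hι : ∀ a : F, σ a = a ↔ a ∈ Set.range ι) (q₀ : ℕ)
    (hq₀ : ∀ x : F₀, (ι x) ^ q = ι (x ^ q₀)) :
    Nonempty (↥((cU (F := F) (q := q) n).range ⊓ Subgroup.centralizer {fU n σ})
      ≃* Cfsg.PGU n F₀ q₀) := by
  obtain ⟨τ, hτq, hτ2, hτ1⟩ := exists_tau hF
  have hn0 : 0 < n := by omega
  have hc : σ * τ = τ * σ := ringAut_comm p f' hF' σ τ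
  have hmoved := exists_moved p f' hf' hF' σ τ (orderOf_involution hτ1 hτ2) (hord ▸ hr)
  obtain ⟨τ₀, hτ₀, hτ₀2, hτ₀1⟩ := exists_restrict_invol ι σ τ hτ2 hc hι hmoved
  have hτ₀q : ∀ x : F₀, τ₀ x = x ^ q₀ := by
    intro x
    apply ι.injective
    rw [hτ₀, hτq, hq₀]
  have hι' : ∀ b, σ (ι b) = ι b := fun b => (hι _).mpr ⟨b, rfl⟩
  have hmem : ∀ h₀ : GL (Fin n) F₀, h₀ ∈ Cfsg.GU n F₀ q₀ ↔
      Matrix.GeneralLinearGroup.map ι h₀ ∈ Cfsg.GU n F q := by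
    intro h₀
    rw [mem_GU_iff τ₀ q₀ hτ₀q, mem_GU_iff τ q hτq, glmap_coe, ← ct_map_iota ι τ τ₀ hτ₀,
      ← Matrix.map_mul]
    constructor
    · intro h
      rw [h]
      simp
    · intro h
      apply Matrix.map_injective ι.injective
      beta_reduce
      rw [h]
      simp
  obtain ⟨M, hM⟩ : ∃ M : ↥(Cfsg.GU n F₀ q₀) →* GUn,
      ∀ h₀, ((M h₀ : GUn) : GLn) = Matrix.GeneralLinearGroup.map ι (h₀ : GL (Fin n) F₀) :=
    ⟨((Matrix.GeneralLinearGroup.map ι).comp (Cfsg.GU n F₀ q₀).subtype).codRestrict _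
      (fun h₀ => (hmem h₀.1).mp h₀.2), fun _ => rfl⟩
  have hMfix : ∀ h₀, fieldGU n σ (M h₀) = M h₀ := by
    intro h₀
    apply Subtype.ext
    show sG σ ((M h₀ : GUn) : GLn) = _
    rw [hM]
    exact sG_glmap σ ι hι' _
  obtain ⟨Ψ, hΨ⟩ : ∃ Ψ : ↥(Cfsg.GU n F₀ q₀) →*
      ↥((cU (F := F) (q := q) n).range ⊓ Subgroup.centralizer {fU n σ}),
      ∀ h₀, (Ψ h₀ : MulAut PSUn) = cU n (M h₀) :=
    ⟨((cU n).comp M).codRestrict _ (fun h₀ =>
      (cent_fU_iff hF n hn p f' hf' hF' σ r hr hord _).mpr ⟨M h₀, hMfix h₀, rfl⟩),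
      fun _ => rfl⟩
  have hsurj : Function.Surjective Ψ := by
    intro β
    obtain ⟨g, hg, e⟩ := (cent_fU_iff hF n hn p f' hf' hF' σ r hr hord _).mp β.2
    have hg' : sG σ (g : GLn) = g := congrArg Subtype.val hg
    obtain ⟨g₀, hg₀⟩ := exists_glmap_eq σ ι hι (g : GLn) hg'
    have hg₀m : g₀ ∈ Cfsg.GU n F₀ q₀ := (hmem g₀).mpr (by rw [hg₀]; exact g.2)
    refine ⟨⟨g₀, hg₀m⟩, ?_⟩
    apply Subtype.ext
    rw [hΨ, e]
    congr 1
    apply Subtype.ext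
    rw [hM]
    exact hg₀
  have hker : Ψ.ker = (Cfsg.Geo.scalars (Fin n) F₀).subgroupOf (Cfsg.GU n F₀ q₀) := by
    ext h₀
    rw [MonoidHom.mem_ker, Subgroup.mem_subgroupOf]
    have h1 : Cfsg.Geo.scalars (Fin n) F₀ = Subgroup.center (GL (Fin n) F₀) := by
      rw [Matrix.GeneralLinearGroup.center_eq_range_scalar]
      rfl
    rw [h1, ← glmap_mem_center_iff hn0 ι, Matrix.GeneralLinearGroup.center_eq_range_scalar]
    constructor
    · intro h
      have h2 : cU n (M h₀) = 1 := by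
        rw [← hΨ, h]
        rfl
      obtain ⟨u, hu⟩ := exists_scalar_of_mem_ker hF n hn (MonoidHom.mem_ker.mpr h2)
      rw [hM] at hu
      exact ⟨u, hu.symm⟩
    · rintro ⟨u, hu⟩
      apply Subtype.ext
      rw [hΨ]
      exact cU_of_scalar hF n hn (M h₀) u (by rw [hM]; exact hu.symm)
  exact ⟨(QuotientGroup.quotientKerEquivOfSurjective Ψ hsurj).symm.trans
    (QuotientGroup.quotientMulEquivOfEq hker)⟩

end gu

end Cfsg.Agent.Lib.Helper9.APSU
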