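import Mathlib
import Cfsg.Prelude
import Cfsg.Agent.Lib.Helper9.APSU29

/-! Automorphisms of `PSU_n(q)`, part 30: the number of classes into which the inner-diagonal
class of a field automorphism of odd order splits. -/

set_option autoImplicit false
open Cfsg

namespace Cfsg.Agent.Lib.Helper9.APSU

open Matrix

open Cfsg.Agent.Lib.Helper9.APSL (sG sG_coe sG_one sG_mul Nk uA uA_coe uA_one uA_mul nrm
  nrm_apply nrm_two sG_scalar ct ct_apply mem_GU_iff glmap_coe
  sG_glmap exists_glmap_eq scalar_eq_one hinj_two mem_cent_single scalar_mulVec ringAut_comm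
  orderOf_involution fixU mem_fixU det_mem_fixU nrmOne mem_nrmOne det_mem_nrmOne diagGL
  diagGL_coe det_diagGL ct_diagonal index_sup_pow splitClassCount_range)

section gl

variable {F : Type*} [Field F] {n : ℕ}

local notation "Mn" => Matrix (Fin n) (Fin n) F
local notation "GLn" => GL (Fin n) F
local notation "scl" => Matrix.GeneralLinearGroup.scalar (Fin n)

theorem sG_diagGL (σ : RingAut F) (d : Fin n → Fˣ) :
    sG σ (diagGL d) = diagGL (fun i => uA σ (d i)) := by
  apply Units.ext
  rw [sG_coe, diagGL_coe, diagGL_coe, Matrix.diagonal_map (map_zero _)]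
  rfl

theorem exists_unitary_diag_fixed (hn : 0 < n) (τ : RingAut F) (a : Fˣ) (ha : a ∈ nrmOne τ) :
    ∃ h : GLn, Matrix.GeneralLinearGroup.det h = a ∧ (h : Mn) * ct τ (h : Mn) = 1 ∧
      ∀ σ : RingAut F, uA σ a = a → sG σ h = h := by
  classical
  rw [mem_nrmOne] at ha
  refine ⟨diagGL (Function.update (fun _ => (1 : Fˣ)) ⟨0, hn⟩ a), ?_, ?_, ?_⟩
  · rw [det_diagGL, Finset.prod_update_of_mem (Finset.mem_univ _)]
    simp
  · rw [diagGL_coe, ct_diagonal, Matrix.diagonal_mul_diagonal, ← Matrix.diagonal_one]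
    congr 1
    funext i
    by_cases hi : i = ⟨0, hn⟩
    · rw [hi, Function.update_self, ← uA_coe, ← Units.val_mul, ha, Units.val_one]
    · rw [Function.update_of_ne hi, Units.val_one, map_one, mul_one]
  · intro σ hσa
    rw [sG_diagGL]
    congr 1
    funext i
    by_cases hi : i = ⟨0, hn⟩
    · rw [hi, Function.update_self, hσa]
    · rw [Function.update_of_ne hi, map_one]

end gl

section gu

open Cfsg.Agent.Lib.Helper5.Herm Cfsg.Agent.Lib.Helper5.HermBlock
  Cfsg.Agent.Lib.Helper5.HermTv Cfsg.Agent.Lib.Helper5.HermEich Cfsg.Agent.Lib.Helper5.HermSU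
  Cfsg.Agent.Lib.Helper5.HermSimple

attribute [local instance 2000] suSMul suAction suSMulComm

variable {F : Type*} [Field F] [Fintype F] {q : ℕ} (hF : Fintype.card F = q ^ 2) (n : ℕ)

set_option quotPrecheck false
local notation "Vn" => (Fin n → F)
local notation "Mn" => Matrix (Fin n) (Fin n) F
local notation "GLn" => GL (Fin n) F
local notation "GUn" => ↥(Cfsg.GU n F q)
local notation "SUn" => ↥(Cfsg.SU n F q)
local notation "PSUn" => Cfsg.PSU n F q
local notation "scl" => Matrix.GeneralLinearGroup.scalar (Fin n)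

omit [Fintype F] in
/-- the centre of `GU` acts trivially on `PSU` -/
theorem center_le_ker_cU : Subgroup.center GUn ≤ (cU (F := F) (q := q) n).ker := by
  intro g hg
  rw [Subgroup.mem_center_iff] at hg
  rw [MonoidHom.mem_ker]
  apply MulEquiv.ext
  intro x
  obtain ⟨s, rfl⟩ := mkU_surjective n x
  rw [cU_mkU]
  show mkU n _ = mkU n s
  congr 1
  apply su_ext
  intro v
  obtain ⟨v₀, rfl⟩ : ∃ v₀ : Vn, v = gact n g v₀ :=
    ⟨gact n g⁻¹ v, (gact_gact_inv n _ v).symm⟩
  rw [conjSU_smul, su_smul_def, su_smul_def, ← gact_mul, ← gact_mul, hg]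

section tau
variable (τ : RingAut F) (hτq : ∀ x : F, τ x = x ^ q)

/-- the determinant on `GU`, with values in the norm-one group -/
noncomputable def detU : ↥(Cfsg.GU n F q) →* ↥(nrmOne τ) :=
  (Matrix.GeneralLinearGroup.det.comp (Cfsg.GU n F q).subtype).codRestrict (nrmOne τ)
    (fun g => det_mem_nrmOne τ g.1 ((mem_GU_iff τ q hτq g.1).mp g.2))

omit [Fintype F] in
theorem detU_coe (g : GUn) :
    ((detU n τ hτq g : ↥(nrmOne τ)) : Fˣ) = Matrix.GeneralLinearGroup.det (g : GLn) := rfl

omit [Fintype F] in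
theorem detU_surjective (hn : 0 < n) : Function.Surjective (detU n τ hτq) := by
  rintro ⟨a, ha⟩
  obtain ⟨h, hdet, hh, -⟩ := exists_unitary_diag_fixed hn τ a ha
  exact ⟨⟨h, (mem_GU_iff τ q hτq h).mpr hh⟩, Subtype.ext hdet⟩

include hF in
/-- the subgroup of `GU_n` in the definition of the number of classes, for a field automorphism
of odd order -/
theorem comap_cent_fU (hn : 3 ≤ n) (p f' : ℕ) [Fact p.Prime] [CharP F p] (hf' : 1 ≤ f')
    (hF' : Fintype.card F = p ^ f') (σ : RingAut F) (r : ℕ) (hr : Odd r) (hord : orderOf σ = r) :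
    (Subgroup.centralizer {fU (q := q) n σ} ⊔ Cfsg.Inn PSUn).comap (cU n)
      = ((fixU σ).subgroupOf (nrmOne τ) ⊔
          (powMonoidHom n : ↥(nrmOne τ) →* ↥(nrmOne τ)).range).comap (detU n τ hτq) := by
  have hn0 : 0 < n := by omega
  ext g
  rw [Subgroup.mem_comap, Subgroup.mem_comap, Subgroup.mem_sup_of_normal_right]
  constructor
  · rintro ⟨c, hc, k, hk, e⟩
    have hcr : c ∈ (cU (F := F) (q := q) n).range := by
      have : c = cU n g * k⁻¹ := by rw [← e, mul_inv_cancel_right]
      rw [this]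
      exact Subgroup.mul_mem _ ⟨g, rfl⟩ (Subgroup.inv_mem _ (inn_le_range_cU n hk))
    obtain ⟨h, hh, rfl⟩ := (cent_fU_iff hF n hn p f' hf' hF' σ r hr hord c).mp ⟨hcr, hc⟩
    have hk' : cU n (h⁻¹ * g) ∈ Cfsg.Inn PSUn := by
      have : cU n (h⁻¹ * g) = k := by rw [map_mul, map_inv, ← e, inv_mul_cancel_left]
      rw [this]
      exact hk
    have h1 : h⁻¹ * g ∈ (psiU (F := F) (q := q) n).ker := by
      rw [MonoidHom.mem_ker]
      unfold psiU
      rw [MonoidHom.comp_apply, QuotientGroup.mk'_apply, QuotientGroup.eq_one_iff]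
      exact hk'
    rw [psiU_ker hF n hn] at h1
    have hle : (Matrix.GeneralLinearGroup.det : GLn →* Fˣ).ker.subgroupOf (Cfsg.GU n F q)
        ⊔ Subgroup.center GUn ≤
        ((powMonoidHom n : ↥(nrmOne τ) →* ↥(nrmOne τ)).range).comap (detU n τ hτq) := by
      apply sup_le
      · intro s hs
        rw [Subgroup.mem_subgroupOf, MonoidHom.mem_ker] at hs
        rw [Subgroup.mem_comap]
        have : detU n τ hτq s = 1 := Subtype.ext hs
        rw [this]
        exact one_mem _
      · intro z hz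
        obtain ⟨u, hu⟩ := exists_scalar_of_mem_ker hF n hn (center_le_ker_cU n hz)
        have hu1 : u ∈ nrmOne τ := (mem_nrmOne τ u).mpr
          (nrm_of_scl_mem_GU hn0 τ q hτq u (by rw [← hu]; exact z.2))
        rw [Subgroup.mem_comap]
        refine ⟨⟨u, hu1⟩, ?_⟩
        apply Subtype.ext
        rw [powMonoidHom_apply, detU_coe, hu, Matrix.GeneralLinearGroup.det_scalar,
          Fintype.card_fin]
        rfl
    have h2 : detU n τ hτq g = detU n τ hτq h * detU n τ hτq (h⁻¹ * g) := by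
      rw [← map_mul, mul_inv_cancel_left]
    rw [h2]
    refine Subgroup.mul_mem_sup ?_ (hle h1)
    rw [Subgroup.mem_subgroupOf, detU_coe]
    exact det_mem_fixU σ (h : GLn) (congrArg Subtype.val hh)
  · intro hg
    obtain ⟨a, ha, b, hb, e⟩ := Subgroup.mem_sup.mp hg
    obtain ⟨c, rfl⟩ := hb
    rw [Subgroup.mem_subgroupOf, mem_fixU] at ha
    obtain ⟨h, hdet, hh, hfix⟩ := exists_unitary_diag_fixed hn0 τ (a : Fˣ) a.2
    have hhσ : sG σ h = h := hfix σ ha
    obtain ⟨H, hH⟩ : ∃ H : GUn, (H : GLn) = h := ⟨⟨h, (mem_GU_iff τ q hτq h).mpr hh⟩, rfl⟩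
    refine ⟨cU n H, ?_, cU n (H⁻¹ * g), ?_, ?_⟩
    · refine ((cent_fU_iff hF n hn p f' hf' hF' σ r hr hord (cU n H)).mpr ⟨H, ?_, rfl⟩).2
      apply Subtype.ext
      show sG σ (H : GLn) = H
      rw [hH]
      exact hhσ
    · have h1 : H⁻¹ * g ∈ (psiU (F := F) (q := q) n).ker := by
        rw [psiU_ker hF n hn]
        obtain ⟨Z, hZ⟩ : ∃ Z : GUn, (Z : GLn) = scl (c : Fˣ) :=
          ⟨⟨scl (c : Fˣ), scl_mem_GU τ q hτq c ((mem_nrmOne τ c).mp c.2)⟩, rfl⟩
        have hZc : Z ∈ Subgroup.center GUn := by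
          rw [Subgroup.mem_center_iff]
          intro x
          apply Subtype.ext
          show (x : GLn) * (Z : GLn) = (Z : GLn) * (x : GLn)
          rw [hZ]
          exact sc_comm _ _
        have h3 : H⁻¹ * g = (H⁻¹ * g * Z⁻¹) * Z := by group
        rw [h3]
        refine Subgroup.mul_mem_sup ?_ hZc
        rw [Subgroup.mem_subgroupOf, MonoidHom.mem_ker]
        show Matrix.GeneralLinearGroup.det ((H : GLn)⁻¹ * (g : GLn) * (Z : GLn)⁻¹) = 1
        have hdg : Matrix.GeneralLinearGroup.det (g : GLn) = (a : Fˣ) * (c : Fˣ) ^ n := by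
          have h4 := congrArg Subtype.val e
          rw [detU_coe] at h4
          rw [← h4]
          rfl
        rw [map_mul, map_mul, map_inv, map_inv, hH, hdet, hdg, hZ,
          Matrix.GeneralLinearGroup.det_scalar, Fintype.card_fin, inv_mul_cancel_left,
          mul_inv_cancel]
      rw [MonoidHom.mem_ker] at h1
      unfold psiU at h1
      rw [MonoidHom.comp_apply, QuotientGroup.mk'_apply, QuotientGroup.eq_one_iff] at h1
      exact h1
    · rw [← map_mul, mul_inv_cancel_left]

end tau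

end gu

end Cfsg.Agent.Lib.Helper9.APSU
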