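import Mathlib
import Cfsg.Prelude
import Cfsg.Agent.Lib.Helper9.APSU30

/-! Automorphisms of `PSU_n(q)`, part 31: field automorphisms of odd prime order: centraliser in
the inner-diagonal group and number of classes. -/

set_option autoImplicit false
open Cfsg

namespace Cfsg.Agent.Lib.Helper9.APSU

open Matrix

open Cfsg.Agent.Lib.Helper9.APSL (sG sG_coe uA uA_coe nrm ct mem_GU_iff ringAut_comm
  orderOf_involution fixU mem_fixU nrmOne mem_nrmOne index_sup_pow splitClassCount_range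
  splitClassCount_conj centInfConjEquiv fixed_card exists_fixed_embedding orderOf_conj')

section gu

open Cfsg.Agent.Lib.Helper5.Herm Cfsg.Agent.Lib.Helper5.HermBlock
  Cfsg.Agent.Lib.Helper5.HermTv Cfsg.Agent.Lib.Helper5.HermEich Cfsg.Agent.Lib.Helper5.HermSU
  Cfsg.Agent.Lib.Helper5.HermSimple

attribute [local instance 2000] suSMul suAction suSMulComm

variable {F : Type*} [Field F] [Fintype F] {q : ℕ} (hF : Fintype.card F = q ^ 2) (n : ℕ)

set_option quotPrecheck false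
local notation "Vn" => (Fin n → F)
local notation "Mn" => Matrix (Fin n) (Fin n) F
local notation "GLn" => GL (Fin n) F
local notation "GUn" => ↥(Cfsg.GU n F q)
local notation "SUn" => ↥(Cfsg.SU n F q)
local notation "PSUn" => Cfsg.PSU n F q
local notation "scl" => Matrix.GeneralLinearGroup.scalar (Fin n)

section tau
variable (τ : RingAut F) (hτq : ∀ x : F, τ x = x ^ q)

include hF hτq in
theorem card_nrmOne_tau : Nat.card ↥(nrmOne τ) = q + 1 := by
  rw [← Cfsg.Agent.Lib.Helper5.HermCount.card_norm_one hF]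
  apply Nat.card_congr
  have h1 : ∀ u : ↥(nrmOne τ), (((u : Fˣ) : F)) ^ (q + 1) = 1 := by
    intro u
    have h2 := (mem_nrmOne τ u).mp u.2
    have h3 := congrArg Units.val h2
    rw [Units.val_mul, uA_coe, hτq, Units.val_one] at h3
    rw [pow_succ']
    exact h3
  refine Equiv.ofBijective (fun u => ⟨((u : Fˣ) : F), h1 u⟩) ⟨?_, ?_⟩
  · intro u v huv
    have h2 : ((u : Fˣ) : F) = ((v : Fˣ) : F) := congrArg Subtype.val huv
    exact Subtype.ext (Units.ext h2)
  · rintro ⟨x, hx⟩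
    have hx0 : x ≠ 0 := by
      intro h0
      rw [h0, zero_pow (by omega)] at hx
      exact zero_ne_one hx
    refine ⟨⟨Units.mk0 x hx0, ?_⟩, rfl⟩
    rw [mem_nrmOne]
    apply Units.ext
    rw [Units.val_mul, uA_coe, Units.val_mk0, hτq, Units.val_one, ← pow_succ']
    exact hx

include hτq in
omit [Fintype F] in
theorem card_fix_nrmOne (σ : RingAut F) {F₀ : Type*} [Field F₀] [Fintype F₀] (ι : F₀ →+* F)
    (hι : ∀ a : F, σ a = a ↔ a ∈ Set.range ι) (q₀ : ℕ) (hF₀ : Fintype.card F₀ = q₀ ^ 2)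
    (hq₀ : ∀ x : F₀, (ι x) ^ q = ι (x ^ q₀)) :
    Nat.card ↥((fixU σ).subgroupOf (nrmOne τ)) = q₀ + 1 := by
  rw [← Cfsg.Agent.Lib.Helper5.HermCount.card_norm_one hF₀]
  symm
  apply Nat.card_congr
  have hx0 : ∀ x : {x : F₀ // x ^ (q₀ + 1) = 1}, ι x.1 ≠ 0 := by
    intro x h
    have h1 : x.1 = 0 := by
      apply ι.injective
      rw [h, map_zero]
    have h2 := x.2
    rw [h1, zero_pow (by omega)] at h2
    exact zero_ne_one h2
  have hx1 : ∀ x : {x : F₀ // x ^ (q₀ + 1) = 1}, Units.mk0 (ι x.1) (hx0 x) ∈ nrmOne τ := by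
    intro x
    rw [mem_nrmOne]
    apply Units.ext
    rw [Units.val_mul, uA_coe, Units.val_mk0, Units.val_one, hτq, hq₀, ← map_mul, ← pow_succ',
      x.2, map_one]
  have hx2 : ∀ x : {x : F₀ // x ^ (q₀ + 1) = 1},
      (⟨_, hx1 x⟩ : ↥(nrmOne τ)) ∈ (fixU σ).subgroupOf (nrmOne τ) := by
    intro x
    rw [Subgroup.mem_subgroupOf, mem_fixU]
    apply Units.ext
    rw [uA_coe, Units.val_mk0]
    exact (hι _).mpr ⟨_, rfl⟩
  refine Equiv.ofBijective (fun x => ⟨⟨Units.mk0 (ι x.1) (hx0 x), hx1 x⟩, hx2 x⟩) ⟨?_, ?_⟩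
  · intro x y hxy
    have h := congrArg (fun b : ↥((fixU σ).subgroupOf (nrmOne τ)) =>
      (((b : ↥(nrmOne τ)) : Fˣ) : F)) hxy
    exact Subtype.ext (ι.injective h)
  · rintro ⟨⟨u, hu1⟩, hu2⟩
    rw [Subgroup.mem_subgroupOf, mem_fixU] at hu2
    have h1 : σ (u : F) = u := by
      have := congrArg Units.val hu2
      exact this
    obtain ⟨x₀, hx₀⟩ := (hι _).mp h1
    have hx₀1 : x₀ ^ (q₀ + 1) = 1 := by
      apply ι.injective
      have h2 := congrArg Units.val ((mem_nrmOne τ u).mp hu1)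
      rw [Units.val_mul, uA_coe, hτq, Units.val_one, ← hx₀, hq₀, ← map_mul, ← pow_succ'] at h2
      rw [h2, map_one]
    refine ⟨⟨x₀, hx₀1⟩, ?_⟩
    apply Subtype.ext
    apply Subtype.ext
    apply Units.ext
    exact hx₀

end tau

include hF in
/-- **the number of classes** into which the inner-diagonal class of a field automorphism of odd
order splits under the inner automorphisms -/
theorem splitClassCount_fU (hn : 3 ≤ n) (p f' : ℕ) [Fact p.Prime] [CharP F p] (hf' : 1 ≤ f')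
    (hF' : Fintype.card F = p ^ f') (σ : RingAut F) (r : ℕ) (hr : Odd r) (hord : orderOf σ = r)
    {F₀ : Type*} [Field F₀] [Fintype F₀] (ι : F₀ →+* F)
    (hι : ∀ a : F, σ a = a ↔ a ∈ Set.range ι) (q₀ : ℕ) (hF₀ : Fintype.card F₀ = q₀ ^ 2)
    (hq₀ : ∀ x : F₀, (ι x) ^ q = ι (x ^ q₀)) :
    Cfsg.splitClassCount (cU (F := F) (q := q) n).range (Cfsg.Inn PSUn) (fU n σ)
      = Nat.gcd n ((q + 1) / (q₀ + 1)) := by
  obtain ⟨τ, hτq, hτ2, hτ1⟩ := exists_tau hF
  rw [splitClassCount_range, comap_cent_fU hF n τ hτq hn p f' hf' hF' σ r hr hord,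
    Subgroup.index_comap_of_surjective _ (detU_surjective n τ hτq (by omega)),
    index_sup_pow, card_nrmOne_tau hF τ hτq, card_fix_nrmOne τ hτq σ ι hι q₀ hF₀ hq₀]

section main
variable (hn : 3 ≤ n) (h32 : ¬ (n = 3 ∧ q = 2)) (p : ℕ) [Fact p.Prime] [CharP F p]

include hF hn h32 p in
/-- **S2705 in general form** -/
theorem field_aut_centralizer_and_split_U (f : ℕ) (hf : 1 ≤ f) (hq : q = p ^ f)
    (x : MulAut PSUn) (hx : Cfsg.IsFieldAutClassPSU x) {r : ℕ} (hr : r.Prime) (hro : Odd r)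
    (hxr : orderOf x = r) (F₀ : Type*) [Field F₀] [Fintype F₀]
    (hF₀ : Fintype.card F₀ = p ^ (2 * (f / r))) :
    r ∣ f ∧ Nonempty (↥(Cfsg.inndiagPSU n F q ⊓ Subgroup.centralizer {x})
      ≃* Cfsg.PGU n F₀ (p ^ (f / r))) ∧
      Cfsg.splitClassCount (Cfsg.inndiagPSU n F q) (Cfsg.Inn PSUn) x
        = Nat.gcd n ((q + 1) / (p ^ (f / r) + 1)) := by
  have hF' : Fintype.card F = p ^ (2 * f) := by rw [hF, hq, ← pow_mul, mul_comm]
  obtain ⟨α, φ, σ, hσ1, hσodd, hφ, e⟩ := hx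
  have e1 : α * x * α⁻¹ = fU n σ := by
    rw [e]
    exact eq_fU_of_fieldAut n hφ
  have hordσ : orderOf (σ : RingAut F) = r := by
    rw [← hxr, ← orderOf_injective (fU (q := q) n) (fU_injective hF n hn h32 p) σ, ← e1,
      orderOf_conj']
  obtain ⟨e', he', -⟩ := fixed_card p (2 * f) hF' σ r hr.pos hordσ
  have hdiv : r ∣ f := by
    have h1 : r ∣ 2 * f := ⟨e', by rw [← he', mul_comm]⟩
    have hcop : Nat.Coprime r 2 := (Nat.coprime_two_left.mpr hro).symm
    exact hcop.dvd_of_dvd_mul_left h1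
  obtain ⟨m, hm⟩ := hdiv
  have hfr : f / r = m := by rw [hm, Nat.mul_div_cancel_left _ hr.pos]
  have h2fr : 2 * f / r = 2 * m := by
    rw [hm, ← mul_assoc, mul_comm 2 r, mul_assoc, Nat.mul_div_cancel_left _ hr.pos]
  rw [hfr] at hF₀ ⊢
  have hF₀' : Fintype.card F₀ = p ^ (2 * f / r) := by
    rw [h2fr]
    exact hF₀
  obtain ⟨-, ι, hι⟩ := exists_fixed_embedding p (2 * f) hF' σ r hr.pos hordσ F₀ hF₀'
  have hF₀2 : Fintype.card F₀ = (p ^ m) ^ 2 := by rw [hF₀, ← pow_mul, mul_comm]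
  have hq₀ : ∀ x₀ : F₀, (ι x₀) ^ q = ι (x₀ ^ (p ^ m)) := by
    intro x₀
    rw [← map_pow]
    congr 1
    obtain ⟨j, hj⟩ := hro
    have h1 : q = (p ^ (2 * m)) ^ j * p ^ m := by
      rw [hq, hm, hj, ← pow_mul, ← pow_add]
      congr 1
      ring
    rw [h1, pow_mul, ← hF₀, FiniteField.pow_card_pow]
  rw [inndiagPSU_eq]
  haveI hD := cU_range_normal hF n hn h32 p
  refine ⟨⟨m, hm⟩, ?_, ?_⟩
  · obtain ⟨E⟩ := exists_cent_fU_equiv hF n hn p (2 * f) (by omega) hF' σ r hro hordσ ι hι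
      (p ^ m) hq₀
    exact ⟨(centInfConjEquiv (cU (F := F) (q := q) n).range α x).trans
      ((MulEquiv.subgroupCongr (by rw [e1])).trans E)⟩
  · rw [← splitClassCount_conj _ _ α x, e1]
    exact splitClassCount_fU hF n hn p (2 * f) (by omega) hF' σ r hro hordσ ι hι (p ^ m) hF₀2
      hq₀

end main

end gu

end Cfsg.Agent.Lib.Helper9.APSU
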