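import Mathlib
import Cfsg.Agent.Lib.Helper2.LevDefs
import Cfsg.Agent.Lib.Helper6.LevCover

/-! S2522 piece P10 (LevChoosePhi): choice of the functional `φ`. -/

set_option autoImplicit false
set_option linter.unusedVariables false
set_option linter.unusedSectionVars false
set_option linter.style.longLine false

namespace Cfsg.Agent.Lib.Helper2.Lev

open Module

universe u v

variable {K : Type v} [Field K] {V : Type u} [AddCommGroup V] [Module K V]

theorem choose_phi (hK : 4 ≤ Cardinal.mk K) {e d : V} (hed : e ∉ Submodule.span K {d})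
    (T : Finset (Submodule K (Module.Dual K V))) (hT : T.card ≤ 3)
    (hTd : ∀ t ∈ T, ∃ φ : Module.Dual K V, φ d = 0 ∧ φ ∉ t) :
    ∃ φ : Module.Dual K V, φ e = 1 ∧ φ d = 0 ∧ ∀ t ∈ T, φ ∉ t := by
  classical
  -- a functional killing `d` but not `e`
  obtain ⟨ψ, hψe, hψd⟩ : ∃ ψ : Module.Dual K V, ψ e ≠ 0 ∧ ψ d = 0 := by
    obtain ⟨f, hf1, hf2⟩ := Submodule.exists_le_ker_of_notMem hed
    exact ⟨f, hf1, LinearMap.mem_ker.mp (hf2 (Submodule.mem_span_singleton_self d))⟩
  let A : Submodule K (Module.Dual K V) := LinearMap.ker (Module.Dual.eval K V d)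
  have hA : ∀ φ : Module.Dual K V, φ ∈ A ↔ φ d = 0 := fun φ => by
    simp [A, LinearMap.mem_ker, Module.Dual.eval_apply]
  let A0 : Submodule K (Module.Dual K V) := LinearMap.ker (Module.Dual.eval K V e)
  have hA0 : ∀ φ : Module.Dual K V, φ ∈ A0 ↔ φ e = 0 := fun φ => by
    simp [A0, LinearMap.mem_ker, Module.Dual.eval_apply]
  let S : Finset (Submodule K A) :=
    insert (A0.comap A.subtype) (T.image (fun t => t.comap A.subtype))
  have hS : ∀ s ∈ S, s ≠ ⊤ := by
    intro s hs
    rcases Finset.mem_insert.mp hs with rfl | hs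
    · intro htop
      have h1 : (⟨ψ, (hA ψ).mpr hψd⟩ : A) ∈ (A0.comap A.subtype) := by
        rw [htop]; trivial
      rw [Submodule.mem_comap] at h1
      exact hψe ((hA0 ψ).mp h1)
    · obtain ⟨t, ht, rfl⟩ := Finset.mem_image.mp hs
      obtain ⟨φ, hφd, hφt⟩ := hTd t ht
      intro htop
      have h1 : (⟨φ, (hA φ).mpr hφd⟩ : A) ∈ (t.comap A.subtype) := by
        rw [htop]; trivial
      rw [Submodule.mem_comap] at h1
      exact hφt h1
  have hcard : (S.card : Cardinal) ≤ Cardinal.mk K := by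
    have h1 : S.card ≤ 4 := by
      calc S.card ≤ (T.image (fun t => t.comap A.subtype)).card + 1 := Finset.card_insert_le _ _
        _ ≤ T.card + 1 := Nat.add_le_add_right Finset.card_image_le 1
        _ ≤ 4 := by omega
    calc (S.card : Cardinal) ≤ ((4 : ℕ) : Cardinal) := by exact_mod_cast h1
      _ ≤ Cardinal.mk K := by exact_mod_cast hK
  obtain ⟨φh, hφh⟩ := exists_not_mem_of_card_le (K := K) (V := A) S hS hcard
  have h0 : (φh : Module.Dual K V) e ≠ 0 := by
    intro h
    apply hφh _ (Finset.mem_insert_self _ _)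
    rw [Submodule.mem_comap]
    exact (hA0 _).mpr h
  refine ⟨((φh : Module.Dual K V) e)⁻¹ • (φh : Module.Dual K V), ?_, ?_, ?_⟩
  · rw [LinearMap.smul_apply, smul_eq_mul, inv_mul_cancel₀ h0]
  · have h1 := (hA _).mp φh.2
    rw [LinearMap.smul_apply, h1, smul_zero]
  · intro t ht hmem
    apply hφh _ (Finset.mem_insert_of_mem (Finset.mem_image_of_mem _ ht))
    rw [Submodule.mem_comap]
    have h1 := t.smul_mem ((φh : Module.Dual K V) e) hmem
    rwa [smul_smul, mul_inv_cancel₀ h0, one_smul] at h1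

end Cfsg.Agent.Lib.Helper2.Lev
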