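import Mathlib
import Cfsg.Agent.Lib.Helper2.LevDefs

/-! S2522 piece P8 (LevDet3): the determinant argument in dimension three. -/

set_option autoImplicit false
set_option linter.unusedVariables false
set_option linter.unusedSectionVars false
set_option linter.style.longLine false

namespace Cfsg.Agent.Lib.Helper2.Lev

open Module

universe u v

variable {K : Type v} [Field K] {V : Type u} [AddCommGroup V] [Module K V]

theorem u_not_mem_span [FiniteDimensional K V] {g : Module.End K V} (h3 : Module.finrank K V = 3)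
    (hdet : LinearMap.det g = 1) (hD : Function.Injective (g - 1 : Module.End K V)) {e : V} (hind : ∀ s : K, g e ≠ s • e)
    {u : V} (hu : (g - 1) u = g e) : u ∉ Submodule.span K {(g - 1) e} := by
  classical
  intro hmem
  obtain ⟨s, hs⟩ := Submodule.mem_span_singleton.mp hmem
  obtain ⟨De, hDe⟩ : ∃ De : V, De = (g - 1) e := ⟨_, rfl⟩
  rw [← hDe] at hs
  have hgeDe : g e = e + De := by
    rw [hDe, LinearMap.sub_apply, Module.End.one_apply]; abel
  have he0 : e ≠ 0 := by
    intro h0
    apply hind 0
    rw [h0, map_zero, smul_zero]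
  have hge0 : g e ≠ 0 := by
    intro h0
    apply hind 0
    rw [h0, zero_smul]
  have hs0 : s ≠ 0 := by
    rintro rfl
    rw [zero_smul] at hs
    rw [← hs, map_zero] at hu
    exact hge0 hu.symm
  have hDDe : (g - 1) De = s⁻¹ • (e + De) := by
    have h1 : s • (g - 1) De = g e := by
      rw [← map_smul, hs]; exact hu
    rw [← hgeDe, ← h1, smul_smul, inv_mul_cancel₀ hs0, one_smul]
  have hgDe : g De = s⁻¹ • e + (1 + s⁻¹) • De := by
    have h1 : g De = De + (g - 1) De := by
      rw [LinearMap.sub_apply, Module.End.one_apply]; abel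
    rw [h1, hDDe, smul_add, add_smul, one_smul]; abel
  have hDe0 : De ≠ 0 := by
    intro h0
    apply hind 1
    rw [hgeDe, h0, add_zero, one_smul]
  have hli2 : LinearIndependent K ![e, De] := by
    rw [LinearIndependent.pair_iff]
    intro a c hac
    by_cases hc : c = 0
    · rw [hc, zero_smul, add_zero] at hac
      rcases smul_eq_zero.mp hac with h | h
      · exact ⟨h, hc⟩
      · exact absurd h he0
    · exfalso
      -- De = -(c⁻¹ a) • e
      have h1 : De = (-(c⁻¹ * a)) • e := by
        have h2 : c • De = -(a • e) := eq_neg_of_add_eq_zero_right hac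
        calc De = c⁻¹ • (c • De) := by rw [smul_smul, inv_mul_cancel₀ hc, one_smul]
          _ = c⁻¹ • (-(a • e)) := by rw [h2]
          _ = (-(c⁻¹ * a)) • e := by rw [smul_neg, smul_smul, neg_smul]
      apply hind (1 + -(c⁻¹ * a))
      rw [hgeDe, h1, add_smul, one_smul]
  -- a vector outside `Z = span {e, De}`
  have hZne : ∃ w, w ∉ Submodule.span K (Set.range ![e, De]) := by
    by_contra hcon
    push Not at hcon
    have htop : Submodule.span K (Set.range ![e, De]) = ⊤ := eq_top_iff.mpr (fun v _ => hcon v)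
    have h1 : Module.finrank K (Submodule.span K (Set.range ![e, De])) ≤ 2 := by
      have := finrank_range_le_card (R := K) ![e, De]
      simpa [Set.finrank] using this
    rw [htop, finrank_top, h3] at h1
    omega
  obtain ⟨w, hw⟩ := hZne
  have heZ : e ∈ Submodule.span K (Set.range ![e, De]) := Submodule.subset_span ⟨0, rfl⟩
  have hDeZ : De ∈ Submodule.span K (Set.range ![e, De]) := Submodule.subset_span ⟨1, rfl⟩
  have hli3 : LinearIndependent K ![w, e, De] :=
    (linearIndependent_finCons (v := ![e, De]) (x := w)).mpr ⟨hli2, hw⟩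
  let b : Module.Basis (Fin 3) K V :=
    basisOfLinearIndependentOfCardEqFinrank hli3 (by simp [h3])
  have hb : ⇑b = ![w, e, De] := coe_basisOfLinearIndependentOfCardEqFinrank hli3 _
  have hb0 : b 0 = w := by rw [hb]; rfl
  have hb1 : b 1 = e := by rw [hb]; rfl
  have hb2 : b 2 = De := by rw [hb]; rfl
  have hg1 : g (b 1) = b 1 + b 2 := by rw [hb1, hb2]; exact hgeDe
  have hg2 : g (b 2) = s⁻¹ • b 1 + (1 + s⁻¹) • b 2 := by rw [hb1, hb2]; exact hgDe
  have hdetM : (LinearMap.toMatrix b b g).det = 1 := by
    rw [LinearMap.det_toMatrix]; exact hdet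
  have m01 : LinearMap.toMatrix b b g 0 1 = 0 := by
    rw [LinearMap.toMatrix_apply, hg1]; simp
  have m11 : LinearMap.toMatrix b b g 1 1 = 1 := by
    rw [LinearMap.toMatrix_apply, hg1]; simp
  have m21 : LinearMap.toMatrix b b g 2 1 = 1 := by
    rw [LinearMap.toMatrix_apply, hg1]; simp
  have m02 : LinearMap.toMatrix b b g 0 2 = 0 := by
    rw [LinearMap.toMatrix_apply, hg2]; simp
  have m12 : LinearMap.toMatrix b b g 1 2 = s⁻¹ := by
    rw [LinearMap.toMatrix_apply, hg2]; simp
  have m22 : LinearMap.toMatrix b b g 2 2 = 1 + s⁻¹ := by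
    rw [LinearMap.toMatrix_apply, hg2]; simp
  have m00 : LinearMap.toMatrix b b g 0 0 = 1 := by
    rw [Matrix.det_fin_three, m01, m11, m21, m02, m12, m22] at hdetM
    linear_combination hdetM
  have hgw : g w = (LinearMap.toMatrix b b g 0 0) • w + (LinearMap.toMatrix b b g 1 0) • e
      + (LinearMap.toMatrix b b g 2 0) • De := by
    have h1 := (b.sum_repr (g w)).symm
    rw [Fin.sum_univ_three, hb0, hb1, hb2] at h1
    simp only [LinearMap.toMatrix_apply, hb0]
    exact h1
  have hDw : (g - 1) w ∈ Submodule.span K (Set.range ![e, De]) := by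
    have h1 : (g - 1) w = (LinearMap.toMatrix b b g 1 0) • e
        + (LinearMap.toMatrix b b g 2 0) • De := by
      rw [LinearMap.sub_apply, Module.End.one_apply, hgw, m00, one_smul]; abel
    rw [h1]
    exact Submodule.add_mem _ (Submodule.smul_mem _ _ heZ) (Submodule.smul_mem _ _ hDeZ)
  have hDDeZ : (g - 1) De ∈ Submodule.span K (Set.range ![e, De]) := by
    rw [hDDe]
    exact Submodule.smul_mem _ _ (Submodule.add_mem _ heZ hDeZ)
  have hall : ∀ x, (g - 1) x ∈ Submodule.span K (Set.range ![e, De]) := by
    have htop : (⊤ : Submodule K V) ≤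
        (Submodule.span K (Set.range ![e, De])).comap (g - 1 : Module.End K V) := by
      rw [← b.span_eq, Submodule.span_le]
      rintro _ ⟨i, rfl⟩
      rw [SetLike.mem_coe, Submodule.mem_comap]
      fin_cases i
      · show (g - 1) (b 0) ∈ _
        rw [hb0]; exact hDw
      · show (g - 1) (b 1) ∈ _
        rw [hb1, ← hDe]; exact hDeZ
      · show (g - 1) (b 2) ∈ _
        rw [hb2]; exact hDDeZ
    intro x
    exact htop Submodule.mem_top
  obtain ⟨x, hx⟩ := (LinearMap.injective_iff_surjective.mp hD) w
  exact hw (hx ▸ hall x)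

end Cfsg.Agent.Lib.Helper2.Lev
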