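import Cfsg.Agent.Lib.Helper9.SylowConj2

set_option autoImplicit false

namespace Cfsg.Agent.Lib.Helper9

variable {G : Type*} [Group G]

/-- Fusion in `G ⧸ N` of subgroups of a Sylow `p`-subgroup `S` lifts to `G`. -/
theorem exists_lift_quotient_fusion [Finite G] {p : ℕ} [Fact p.Prime] (N : Subgroup G) [N.Normal]
    (S : Sylow p G) (P : Subgroup G) (hP : P ≤ (S : Subgroup G)) (γ : G ⧸ N)
    (hγ : ∀ x ∈ P, γ * QuotientGroup.mk x * γ⁻¹ ∈ ((S : Subgroup G).map (QuotientGroup.mk' N))) :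
    ∃ g : G, ∀ x ∈ P, g * x * g⁻¹ ∈ S ∧
      (QuotientGroup.mk (g * x * g⁻¹) : G ⧸ N) = γ * QuotientGroup.mk x * γ⁻¹ := by
  obtain ⟨g₀, rfl⟩ := QuotientGroup.mk_surjective γ
  have hPp : IsPGroup p P := S.isPGroup'.to_le hP
  have hU : P.map (MulAut.conj g₀).toMonoidHom ≤ (S : Subgroup G) ⊔ N := by
    rintro _ ⟨x, hx, rfl⟩
    obtain ⟨s, hs, hsx⟩ := hγ x hx
    have h1 : (QuotientGroup.mk s : G ⧸ N) = QuotientGroup.mk (g₀ * x * g₀⁻¹) := by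
      rw [QuotientGroup.mk_mul, QuotientGroup.mk_mul, QuotientGroup.mk_inv]
      exact hsx
    have h2 : s⁻¹ * (g₀ * x * g₀⁻¹) ∈ N := QuotientGroup.eq.mp h1
    have h3 : g₀ * x * g₀⁻¹ = s * (s⁻¹ * (g₀ * x * g₀⁻¹)) := by group
    show g₀ * x * g₀⁻¹ ∈ (S : Subgroup G) ⊔ N
    rw [h3]
    exact Subgroup.mul_mem_sup hs h2
  have hUp : IsPGroup p (P.map (MulAut.conj g₀).toMonoidHom) := hPp.map _
  have hSK : (S : Subgroup G) ≤ (S : Subgroup G) ⊔ N := le_sup_left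
  obtain ⟨R, hR⟩ : ∃ R : Sylow p ((S : Subgroup G) ⊔ N : Subgroup G),
      (R : Subgroup ((S : Subgroup G) ⊔ N : Subgroup G)) =
        (S : Subgroup G).subgroupOf ((S : Subgroup G) ⊔ N) := by
    apply sylowIn_of_card_le hSK S.isPGroup'
    intro U _ _ hUp
    obtain ⟨g, hg⟩ := exists_cj_le_sylow S hUp
    calc Nat.card U = Nat.card (U.map (MulAut.conj g).toMonoidHom) := (card_cj g U).symm
      _ ≤ Nat.card (S : Subgroup G) := Subgroup.card_le_of_le hg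
  obtain ⟨k, hk, hkU⟩ := exists_cj_le_of_sylowIn R hR hU hUp
  have hSN : (S : Subgroup G) ≤ Subgroup.normalizer ((N : Subgroup G) : Set G) := by
    rw [Subgroup.normalizer_eq_top]
    exact le_top
  obtain ⟨s, hs, n, hn, rfl⟩ := exists_mul_of_mem_sup hSN hk
  refine ⟨n * g₀, fun x hx => ?_⟩
  have h1 : (s * n) * (g₀ * x * g₀⁻¹) * (s * n)⁻¹ ∈ (S : Subgroup G) :=
    hkU ⟨g₀ * x * g₀⁻¹, ⟨x, hx, rfl⟩, rfl⟩
  constructor
  · have h2 : n * g₀ * x * (n * g₀)⁻¹ = s⁻¹ * ((s * n) * (g₀ * x * g₀⁻¹) * (s * n)⁻¹) * s := by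
      group
    rw [h2]
    exact (S : Subgroup G).mul_mem ((S : Subgroup G).mul_mem ((S : Subgroup G).inv_mem hs) h1) hs
  · have h3 : (QuotientGroup.mk n : G ⧸ N) = 1 := (QuotientGroup.eq_one_iff n).mpr hn
    simp only [QuotientGroup.mk_mul, QuotientGroup.mk_inv, h3, one_mul]

end Cfsg.Agent.Lib.Helper9
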