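import Cfsg.Agent.Lib.Helper9.SubgroupSystem2

set_option autoImplicit false

namespace Cfsg.Agent.Lib.Helper9

open Cfsg Cfsg.FusionSystem

variable {G : Type*} [Group G]

/-- key lemma for the extension condition: an element `h ∈ N_H(T)`, `T = S ∩ H`, can be corrected
by an element of `C_H(T)` so as to normalize `C_S(T)` -/
theorem exists_mul_mem_normalizer_centralizerIn [Finite G] (p : ℕ) [Fact p.Prime] (S : Sylow p G)
    (H : Subgroup G) [hH : H.Normal] {h : G} (hhH : h ∈ H)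
    (hhN : h ∈ Subgroup.normalizer ((((S : Subgroup G) ⊓ H : Subgroup G)) : Set G)) :
    ∃ y ∈ H ⊓ Subgroup.centralizer ((((S : Subgroup G) ⊓ H : Subgroup G)) : Set G),
      y * h ∈ Subgroup.normalizer
        ((centralizerIn (S : Subgroup G) ((S : Subgroup G) ⊓ H) : Subgroup G) : Set G) := by
  obtain ⟨R, hR⟩ := Cfsg.Agent.Lib.Helper2.exists_sylow_eq_inf_normal S H
  set T : Subgroup G := (S : Subgroup G) ⊓ H with hTdef
  set K : Subgroup G := Subgroup.centralizer (T : Set G) with hKdef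
  have hCdef : centralizerIn (S : Subgroup G) T = (S : Subgroup G) ⊓ K := rfl
  set C : Subgroup G := centralizerIn (S : Subgroup G) T with hCdef'
  set A : Subgroup G := H ⊓ K with hAdef
  have hTp : IsPGroup p T := S.isPGroup'.to_le inf_le_left
  have hCp : IsPGroup p C := S.isPGroup'.to_le inf_le_left
  have hCK : C ≤ K := inf_le_right
  have hAK : A ≤ K := inf_le_right
  have hAH : A ≤ H := inf_le_left
  -- `C` normalizes `A`
  have hCA : C ≤ Subgroup.normalizer ((A : Subgroup G) : Set G) := by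
    intro c hc
    have key : ∀ d ∈ C, ∀ a ∈ A, d * a * d⁻¹ ∈ A := by
      intro d hd a ha
      exact ⟨hH.conj_mem a ha.1 d, K.mul_mem (K.mul_mem (hCK hd) ha.2) (K.inv_mem (hCK hd))⟩
    rw [Subgroup.mem_normalizer_iff]
    intro a
    constructor
    · exact key c hc a
    · intro ha
      have := key c⁻¹ (C.inv_mem hc) _ ha
      have h1 : c⁻¹ * (c * a * c⁻¹) * c⁻¹⁻¹ = a := by group
      rwa [h1] at this
  -- `h C h⁻¹ ≤ C A`
  have hKn : h ∈ Subgroup.normalizer ((K : Subgroup G) : Set G) :=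
    normalizer_le_normalizer_centralizer T hhN
  have hC'M : C.map (MulAut.conj h).toMonoidHom ≤ C ⊔ A := by
    rintro _ ⟨c, hc, rfl⟩
    show h * c * h⁻¹ ∈ C ⊔ A
    have h1 : h * c * h⁻¹ = (h * c * h⁻¹ * c⁻¹) * c := by group
    rw [h1]
    refine Subgroup.mul_mem _ (Subgroup.mem_sup_right ⟨?_, ?_⟩) (Subgroup.mem_sup_left hc)
    · have h2 : h * c * h⁻¹ * c⁻¹ = h * (c * h⁻¹ * c⁻¹) := by group
      rw [h2]
      exact H.mul_mem hhH (hH.conj_mem _ (H.inv_mem hhH) c)
    · exact K.mul_mem (conj_mem_of_mem_normalizer hKn (hCK hc)) (K.inv_mem (hCK hc))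
  -- `C` is a Sylow subgroup of `C A`
  have hsyl : ∃ R' : Sylow p (C ⊔ A : Subgroup G), (R' : Subgroup (C ⊔ A : Subgroup G)) =
      C.subgroupOf (C ⊔ A) := by
    apply sylowIn_of_card_le le_sup_left hCp
    intro U hCU hUM hUp
    have hUC : U ≤ C := by
      intro u hu
      obtain ⟨c, hc, a, ha, rfl⟩ := exists_mul_of_mem_sup hCA (hUM hu)
      have haU : a ∈ U := by
        have h1 : a = c⁻¹ * (c * a) := by group
        rw [h1]
        exact U.mul_mem (U.inv_mem (hCU hc)) hu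
      -- `(U ∩ A) T` is a `p`-subgroup of `H` containing `T`
      have hVp : IsPGroup p ((U ⊓ A) ⊔ T : Subgroup G) := by
        apply IsPGroup.to_sup_of_normal_right' (hUp.to_le inf_le_left) hTp
        intro v hv
        exact Subgroup.centralizer_le_normalizer _ (hAK hv.2)
      have hVH : (U ⊓ A) ⊔ T ≤ H := sup_le (inf_le_right.trans hAH) inf_le_right
      have hcard := card_le_of_sylowIn (inf_le_right : T ≤ H) R hR hVH hVp
      have hVT : (U ⊓ A) ⊔ T = T := by
        symm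
        apply Subgroup.eq_of_le_of_card_ge le_sup_right hcard
      have haT : a ∈ T := by
        rw [← hVT]
        exact Subgroup.mem_sup_left ⟨haU, ha⟩
      exact C.mul_mem hc ⟨haT.1, ha.2⟩
    exact Nat.card_le_card_of_injective (Subgroup.inclusion hUC) (Subgroup.inclusion_injective hUC)
  obtain ⟨R', hR'⟩ := hsyl
  obtain ⟨m, hmM, hle⟩ := exists_cj_le_of_sylowIn R' hR' hC'M (isPGroup_cj h hCp)
  rw [cj_cj] at hle
  obtain ⟨c, hc, a, ha, rfl⟩ := exists_mul_of_mem_sup hCA hmM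
  refine ⟨a, ha, ?_⟩
  apply mem_normalizer_of_cj_le'
  rintro _ ⟨x, hx, rfl⟩
  show (a * h) * x * (a * h)⁻¹ ∈ C
  have h1 : (a * h) * x * (a * h)⁻¹ = c⁻¹ * ((c * a * h) * x * (c * a * h)⁻¹) * c := by group
  rw [h1]
  have h2 : (c * a * h) * x * (c * a * h)⁻¹ ∈ C := hle ⟨x, hx, rfl⟩
  exact C.mul_mem (C.mul_mem (C.inv_mem hc) h2) hc

/-- S5118: the fusion system of a normal subgroup `H` on `S ∩ H` is normal in `F_S(G)` -/
theorem fusionSystemOfSubgroup_normal [Finite G] (p : ℕ) [Fact p.Prime] (S : Sylow p G)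
    (H : Subgroup G) [hH : H.Normal] :
    (fusionSystemOfSubgroup H ((S : Subgroup G) ⊓ H) inf_le_right).IsNormalIn
      (groupFusionSystem (S : Subgroup G)) p := by
  obtain ⟨R, hR⟩ := Cfsg.Agent.Lib.Helper2.exists_sylow_eq_inf_normal S H
  refine ⟨⟨fusionSystemOfSubgroup_saturated p H _ inf_le_right R hR, groupFusion_saturated S,
    fusionSystemOfSubgroup_invariant p S H⟩, ?_⟩
  intro α hα
  have hTS : (S : Subgroup G) ⊓ H ≤ (S : Subgroup G) ⊓ H := le_rfl
  have h1 := hom_of_mem_autGroup _ hTS hα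
  obtain ⟨-, -, h, hhH, hh⟩ := h1
  have hh' : ∀ t : ((S : Subgroup G) ⊓ H : Subgroup G),
      ((α t : ((S : Subgroup G) ⊓ H : Subgroup G)) : G) = h * (t : G) * h⁻¹ := hh
  have hhN := mem_normalizer_of_induces α hh'
  obtain ⟨y, hy, hyh⟩ := exists_mul_mem_normalizer_centralizerIn p S H hhH hhN
  have hyT : y ∈ Subgroup.normalizer ((((S : Subgroup G) ⊓ H : Subgroup G)) : Set G) :=
    Subgroup.centralizer_le_normalizer _ hy.2
  have hgT : y * h ∈ Subgroup.normalizer ((((S : Subgroup G) ⊓ H : Subgroup G)) : Set G) :=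
    Subgroup.mul_mem _ hyT hhN
  have hgN : y * h ∈ Subgroup.normalizer
      (((((S : Subgroup G) ⊓ H) ⊔ centralizerIn (S : Subgroup G) ((S : Subgroup G) ⊓ H) :
        Subgroup G)) : Set G) := by
    have key : ∀ n : G, n ∈ Subgroup.normalizer ((((S : Subgroup G) ⊓ H : Subgroup G)) : Set G) →
        n ∈ Subgroup.normalizer
          ((centralizerIn (S : Subgroup G) ((S : Subgroup G) ⊓ H) : Subgroup G) : Set G) →
        ∀ x ∈ ((S : Subgroup G) ⊓ H) ⊔ centralizerIn (S : Subgroup G) ((S : Subgroup G) ⊓ H),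
          n * x * n⁻¹ ∈ ((S : Subgroup G) ⊓ H) ⊔
            centralizerIn (S : Subgroup G) ((S : Subgroup G) ⊓ H) := by
      intro n hn1 hn2 x hx
      have h3 : ((S : Subgroup G) ⊓ H) ⊔ centralizerIn (S : Subgroup G) ((S : Subgroup G) ⊓ H) ≤
          (((S : Subgroup G) ⊓ H) ⊔
            centralizerIn (S : Subgroup G) ((S : Subgroup G) ⊓ H)).comap
              (MulAut.conj n).toMonoidHom := by
        apply sup_le
        · intro t ht
          exact Subgroup.mem_sup_left (conj_mem_of_mem_normalizer hn1 ht)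
        · intro c hc
          exact Subgroup.mem_sup_right (conj_mem_of_mem_normalizer hn2 hc)
      exact h3 hx
    rw [Subgroup.mem_normalizer_iff]
    intro x
    constructor
    · exact key _ hgT hyh x
    · intro hx
      have := key _ (Subgroup.inv_mem _ hgT) (Subgroup.inv_mem _ hyh) _ hx
      have h2 : (y * h)⁻¹ * ((y * h) * x * (y * h)⁻¹) * (y * h)⁻¹⁻¹ = x := by group
      rwa [h2] at this
  have hDS : ((S : Subgroup G) ⊓ H) ⊔ centralizerIn (S : Subgroup G) ((S : Subgroup G) ⊓ H) ≤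
      (S : Subgroup G) := sup_le inf_le_left inf_le_left
  refine ⟨conjAut _ ⟨y * h, hgN⟩, ?_, ?_, ?_⟩
  · rw [groupFusion_autGroup_eq hDS, mem_autInducedBy_iff]
    exact ⟨y * h, Subgroup.mem_top _, fun x => rfl⟩
  · intro x
    rw [conjAut_apply, hh']
    show (y * h) * (x : G) * (y * h)⁻¹ = h * (x : G) * h⁻¹
    have h2 : h * (x : G) * h⁻¹ ∈ (S : Subgroup G) ⊓ H := by
      rw [← hh']
      exact (α x).2
    have h3 := hy.2 _ h2
    -- `h3 : (h x h⁻¹) * y = y * (h x h⁻¹)`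
    calc (y * h) * (x : G) * (y * h)⁻¹ = (y * (h * (x : G) * h⁻¹)) * y⁻¹ := by group
      _ = ((h * (x : G) * h⁻¹) * y) * y⁻¹ := by rw [h3]
      _ = h * (x : G) * h⁻¹ := by group
  · intro c hc
    rw [conjAut_apply]
    show (c : G)⁻¹ * ((y * h) * (c : G) * (y * h)⁻¹) ∈ _
    have hgc : (y * h) * (c : G) * (y * h)⁻¹ ∈
        centralizerIn (S : Subgroup G) ((S : Subgroup G) ⊓ H) :=
      conj_mem_of_mem_normalizer hyh hc
    have hgH : y * h ∈ H := H.mul_mem hy.1 hhH
    refine ⟨⟨(S : Subgroup G).mul_mem ((S : Subgroup G).inv_mem hc.1) hgc.1, ?_⟩, ?_⟩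
    · have h2 : (c : G)⁻¹ * ((y * h) * (c : G) * (y * h)⁻¹) =
          ((c : G)⁻¹ * (y * h) * (c : G)⁻¹⁻¹) * (y * h)⁻¹ := by group
      rw [h2]
      exact H.mul_mem (hH.conj_mem _ hgH _) (H.inv_mem hgH)
    · exact Subgroup.mul_mem _ (Subgroup.inv_mem _ hc.2) hgc.2

end Cfsg.Agent.Lib.Helper9
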