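import Mathlib

set_option autoImplicit false
set_option linter.unusedSectionVars false
set_option linter.unusedVariables false
set_option linter.style.longLine false
set_option linter.unusedSimpArgs false

set_option maxHeartbeats 1600000
namespace Cfsg.Agent.Lib.Helper9.Art
open Subgroup
open scoped Pointwise

/-- the standing hypotheses on the element `z` of prime order `p` -/
structure Hyp (G : Type*) [Group G] (p : ℕ) (z : G) : Prop where
  hz : orderOf z = p
  hC : Subgroup.centralizer ({z} : Set G) = Subgroup.zpowers z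

section

variable {G : Type*} [Group G] {p : ℕ} [hp : Fact p.Prime] {z : G}

theorem Hyp.card_P [Finite G] (h : Hyp G p z) : Nat.card (zpowers z) = p := by
  rw [Nat.card_zpowers, h.hz]

theorem Hyp.z_ne_one (h : Hyp G p z) : z ≠ 1 := by
  intro h1
  have := h.hz
  rw [h1, orderOf_one] at this
  exact hp.out.one_lt.ne this

theorem Hyp.pow_p_eq_one (h : Hyp G p z) {x : G} (hx : x ∈ zpowers z) : x ^ p = 1 := by
  obtain ⟨k, rfl⟩ := hx
  rw [← zpow_natCast, ← zpow_mul, mul_comm, zpow_mul, zpow_natCast, ← h.hz, pow_orderOf_eq_one,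
    one_zpow]

theorem Hyp.orderOf_of_mem (h : Hyp G p z) {x : G} (hx : x ∈ zpowers z) (hx1 : x ≠ 1) :
    orderOf x = p := by
  have h1 : orderOf x ∣ p := orderOf_dvd_of_pow_eq_one (h.pow_p_eq_one hx)
  rcases (Nat.dvd_prime hp.out).mp h1 with h2 | h2
  · exact absurd (orderOf_eq_one_iff.mp h2) hx1
  · exact h2

theorem Hyp.zpowers_eq [Finite G] (h : Hyp G p z) {x : G} (hx : x ∈ zpowers z) (hx1 : x ≠ 1) :
    zpowers x = zpowers z := by
  apply Subgroup.eq_of_le_of_card_ge
  · rw [zpowers_le]; exact hx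
  · rw [Nat.card_zpowers, Nat.card_zpowers, h.orderOf_of_mem hx hx1, h.hz]

theorem Hyp.centralizer_eq [Finite G] (h : Hyp G p z) {x : G} (hx : x ∈ zpowers z) (hx1 : x ≠ 1) :
    centralizer ({x} : Set G) = zpowers z := by
  have hzx : z ∈ zpowers x := by rw [h.zpowers_eq hx hx1]; exact mem_zpowers z
  ext y
  constructor
  · intro hy
    rw [← h.hC]
    rw [mem_centralizer_singleton_iff] at hy ⊢
    obtain ⟨k, hk⟩ := hzx
    rw [← hk]
    exact ((Commute.zpow_right (show Commute y x from hy) k)).eq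
  · intro hy
    rw [mem_centralizer_singleton_iff]
    obtain ⟨a, rfl⟩ := hy
    obtain ⟨b, rfl⟩ := hx
    exact ((Commute.refl z).zpow_zpow a b).eq

theorem Hyp.centralizer_P (h : Hyp G p z) :
    centralizer ((zpowers z : Subgroup G) : Set G) = zpowers z := by
  ext y
  constructor
  · intro hy
    rw [← h.hC, mem_centralizer_singleton_iff]
    exact (hy z (mem_zpowers z)).symm
  · intro hy x hx
    obtain ⟨a, rfl⟩ := hy
    obtain ⟨b, rfl⟩ := hx
    exact ((Commute.refl z).zpow_zpow b a).eq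

theorem Hyp.isPGroup [Finite G] (h : Hyp G p z) : IsPGroup p (zpowers z) :=
  IsPGroup.of_card (n := 1) (by rw [h.card_P, pow_one])

/-- `⟨z⟩` is a Sylow `p`-subgroup -/
theorem Hyp.exists_sylow [Finite G] (h : Hyp G p z) : ∃ S : Sylow p G, (S : Subgroup G) = zpowers z := by
  obtain ⟨S, hS⟩ := h.isPGroup.exists_le_sylow
  refine ⟨S, le_antisymm ?_ hS⟩
  have hzS : z ∈ (S : Subgroup G) := hS (mem_zpowers z)
  haveI : Nontrivial (S : Subgroup G) := ⟨⟨⟨z, hzS⟩, 1, fun h1 => h.z_ne_one (by simpa using congrArg Subtype.val h1)⟩⟩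
  haveI := S.isPGroup'.center_nontrivial
  obtain ⟨c, hc⟩ := exists_ne (1 : center (S : Subgroup G))
  have hc1 : ((c : (S : Subgroup G)) : G) ≠ 1 := by
    intro h1
    apply hc
    ext
    simpa using h1
  have hcz : ((c : (S : Subgroup G)) : G) ∈ zpowers z := by
    rw [← h.hC, mem_centralizer_singleton_iff]
    have := (mem_center_iff.mp c.2) ⟨z, hzS⟩
    have := congrArg Subtype.val this
    simpa using this.symm
  intro s hs
  rw [← h.centralizer_eq hcz hc1, mem_centralizer_singleton_iff]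
  have := (mem_center_iff.mp c.2) ⟨s, hs⟩
  have := congrArg Subtype.val this
  simpa using this

/-- every `p`-singular element is conjugate into `⟨z⟩` -/
theorem Hyp.exists_conj_mem [Finite G] (h : Hyp G p z) {g : G} (hg : p ∣ orderOf g) :
    ∃ a : G, a * g * a⁻¹ ∈ zpowers z := by
  obtain ⟨S₀, hS₀⟩ := h.exists_sylow
  obtain ⟨m, hm⟩ := hg
  have hpos : 0 < orderOf g := orderOf_pos g
  have hm0 : m ≠ 0 := by
    rintro rfl
    rw [mul_zero] at hm
    exact hpos.ne' hm
  obtain ⟨x, hx⟩ : ∃ x : G, x = g ^ m := ⟨_, rfl⟩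
  have hox : orderOf x = p := by
    rw [hx, orderOf_pow' g hm0, hm, Nat.gcd_eq_right (dvd_mul_left m p)]
    exact Nat.mul_div_cancel _ (Nat.pos_of_ne_zero hm0)
  have hxp : IsPGroup p (zpowers x) :=
    IsPGroup.of_card (n := 1) (by rw [Nat.card_zpowers, hox, pow_one])
  obtain ⟨S', hS'⟩ := hxp.exists_le_sylow
  obtain ⟨a, ha⟩ := MulAction.exists_smul_eq G S' S₀
  have hax : a * x * a⁻¹ ∈ zpowers z := by
    rw [← hS₀, ← ha]
    have h2 : ((a • S' : Sylow p G) : Subgroup G) = MulAut.conj a • (S' : Subgroup G) :=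
      Sylow.pointwise_smul_def
    rw [h2]
    exact (Subgroup.mem_smul_pointwise_iff_exists _ _ _).mpr ⟨x, hS' (mem_zpowers x), rfl⟩
  have hax1 : a * x * a⁻¹ ≠ 1 := by
    intro h1
    have : x = 1 := by
      have := congrArg (fun y => a⁻¹ * y * a) h1
      simpa [mul_assoc] using this
    rw [this, orderOf_one] at hox
    exact hp.out.one_lt.ne hox
  refine ⟨a, ?_⟩
  rw [← h.centralizer_eq hax hax1, mem_centralizer_singleton_iff, hx]
  have hc : Commute g (g ^ m) := (Commute.refl g).pow_right m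
  have := hc.eq
  calc a * g * a⁻¹ * (a * g ^ m * a⁻¹) = a * (g * g ^ m) * a⁻¹ := by group
    _ = a * (g ^ m * g) * a⁻¹ := by rw [this]
    _ = a * g ^ m * a⁻¹ * (a * g * a⁻¹) := by group

end

section

variable {G : Type*} [Group G] {p : ℕ} [hp : Fact p.Prime] {z : G}

/-- the normalizer of `⟨z⟩` -/
abbrev NN (z : G) : Subgroup G := normalizer ((zpowers z : Subgroup G) : Set G)

/-- `⟨z⟩` inside its normalizer -/
abbrev KK (z : G) : Subgroup (NN z) := (zpowers z).subgroupOf (NN z)

theorem P_le_N (z : G) : zpowers z ≤ NN z := le_normalizer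

theorem Hyp.ker_eq (h : Hyp G p z) : (zpowers z).normalizerMonoidHom.ker = KK z := by
  rw [normalizerMonoidHom_ker, h.centralizer_P]

theorem Hyp.card_KK [Finite G] (h : Hyp G p z) : Nat.card (KK z) = p := by
  rw [KK, Nat.card_congr (subgroupOfEquivOfLe (P_le_N z)).toEquiv, h.card_P]

theorem Hyp.isCyclic_mulAut [Finite G] (h : Hyp G p z) : IsCyclic (MulAut (zpowers z)) := by
  haveI : Fact (Nat.card (zpowers z)).Prime := ⟨by rw [h.card_P]; exact hp.out⟩
  haveI : IsCyclic (zpowers z) := isCyclic_of_prime_card (p := Nat.card (zpowers z)) rfl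
  exact isCyclic_of_injective (IsCyclic.mulAutMulEquiv (zpowers z)).toMonoidHom
    (IsCyclic.mulAutMulEquiv (zpowers z)).injective

theorem exists_quot_inj {N A : Type*} [Group N] [Group A] (φ : N →* A) (K : Subgroup N)
    [K.Normal] (hK : φ.ker = K) : ∃ ψ : N ⧸ K →* A, Function.Injective ψ := by
  subst hK
  exact ⟨QuotientGroup.kerLift φ, QuotientGroup.kerLift_injective φ⟩

theorem Hyp.isCyclic_quot [Finite G] (h : Hyp G p z) : IsCyclic (NN z ⧸ KK z) := by
  haveI := h.isCyclic_mulAut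
  obtain ⟨ψ, hψ⟩ := exists_quot_inj (zpowers z).normalizerMonoidHom (KK z) h.ker_eq
  exact isCyclic_of_injective ψ hψ

theorem Hyp.card_quot_dvd [Finite G] (h : Hyp G p z) : Nat.card (NN z ⧸ KK z) ∣ p - 1 := by
  obtain ⟨ψ, hψ⟩ := exists_quot_inj (zpowers z).normalizerMonoidHom (KK z) h.ker_eq
  have key := card_dvd_of_injective ψ hψ
  haveI : Fact (Nat.card (zpowers z)).Prime := ⟨by rw [h.card_P]; exact hp.out⟩
  haveI : IsCyclic (zpowers z) := isCyclic_of_prime_card (p := Nat.card (zpowers z)) rfl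
  rw [IsCyclic.card_mulAut, h.card_P, Nat.totient_prime hp.out] at key
  exact key

theorem Hyp.card_quot_eq (h : Hyp G p z) :
    Nat.card (NN z ⧸ KK z) = (centralizer ((zpowers z : Subgroup G) : Set G)).relIndex (NN z) := by
  have h1 : (centralizer ((zpowers z : Subgroup G) : Set G)).relIndex (NN z)
      = (zpowers z).relIndex (NN z) := by rw [h.centralizer_P]
  rw [h1, relIndex, index_eq_card]

theorem Hyp.card_N [Finite G] (h : Hyp G p z) : Nat.card (NN z) = p * Nat.card (NN z ⧸ KK z) := by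
  have h1 := (KK z).card_eq_card_quotient_mul_card_subgroup
  rw [h.card_KK] at h1
  rw [h1, mul_comm]

/-- a `p`-element of the normalizer lies in `⟨z⟩` -/
theorem Hyp.mem_of_pow_p [Finite G] (h : Hyp G p z) {x : G} (hx : x ∈ NN z) (hxp : orderOf x = p) :
    x ∈ zpowers z := by
  obtain ⟨S₀, hS₀⟩ := h.exists_sylow
  have hxg : IsPGroup p (zpowers x) :=
    IsPGroup.of_card (n := 1) (by rw [Nat.card_zpowers, hxp, pow_one])
  have hle : zpowers x ≤ normalizer ((S₀ : Subgroup G) : Set G) := by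
    rw [zpowers_le, hS₀]; exact hx
  have hsup : IsPGroup p ((zpowers x ⊔ (S₀ : Subgroup G) : Subgroup G)) :=
    IsPGroup.to_sup_of_normal_right' hxg S₀.isPGroup' hle
  have := S₀.is_maximal' hsup le_sup_right
  rw [← hS₀, ← this]
  exact le_sup_left (a := zpowers x) (mem_zpowers x)

theorem Hyp.not_dvd_orderOf [Finite G] (h : Hyp G p z) {k : G} (hk : k ∈ NN z) (hkP : k ∉ zpowers z) :
    ¬ p ∣ orderOf k := by
  rintro ⟨m, hm⟩
  have hpos : 0 < orderOf k := orderOf_pos k
  have hm0 : m ≠ 0 := by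
    rintro rfl
    rw [mul_zero] at hm
    exact hpos.ne' hm
  have hox : orderOf (k ^ m) = p := by
    rw [orderOf_pow' k hm0, hm, Nat.gcd_eq_right (dvd_mul_left m p)]
    exact Nat.mul_div_cancel _ (Nat.pos_of_ne_zero hm0)
  have hxN : k ^ m ∈ NN z := pow_mem hk m
  have hxP := h.mem_of_pow_p hxN hox
  have hx1 : k ^ m ≠ 1 := by
    intro h1
    rw [h1, orderOf_one] at hox
    exact hp.out.one_lt.ne hox
  apply hkP
  rw [← h.centralizer_eq hxP hx1, mem_centralizer_singleton_iff]
  exact ((Commute.refl k).pow_right m).eq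

theorem Hyp.not_commute [Finite G] (h : Hyp G p z) {k x : G} (hkP : k ∉ zpowers z)
    (hx : x ∈ zpowers z) (hx1 : x ≠ 1) : ¬ Commute k x := by
  intro hc
  apply hkP
  rw [← h.centralizer_eq hx hx1, mem_centralizer_singleton_iff]
  exact hc.eq

/-- for `k ∈ N \ P` the coset `k P` is a single `P`-orbit under conjugation -/
theorem Hyp.exists_conj_of_coset [Finite G] (h : Hyp G p z) {k k' : G} (hk : k ∈ NN z)
    (hkP : k ∉ zpowers z) (hk' : k' * k⁻¹ ∈ zpowers z) :
    ∃ y ∈ zpowers z, y * k * y⁻¹ = k' := by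
  have hmem : ∀ y : zpowers z, (y : G) * (k * (y : G)⁻¹ * k⁻¹) ∈ zpowers z := by
    intro y
    apply mul_mem y.2
    have := (mem_normalizer_iff.mp hk ((y : G)⁻¹)).mp (inv_mem y.2)
    exact this
  let f : zpowers z → zpowers z := fun y => ⟨(y : G) * (k * (y : G)⁻¹ * k⁻¹), hmem y⟩
  have hinj : Function.Injective f := by
    intro y y' hyy
    have h1 : (y : G) * (k * (y : G)⁻¹ * k⁻¹) = (y' : G) * (k * (y' : G)⁻¹ * k⁻¹) :=
      congrArg Subtype.val hyy
    by_contra hne
    have hne' : ((y' : G)⁻¹ * (y : G)) ≠ 1 := by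
      intro h2
      apply hne
      ext
      have := congrArg (fun w => (y' : G) * w) h2
      simpa using this
    apply h.not_commute hkP (mul_mem (inv_mem y'.2) y.2) hne'
    have h3 : (y' : G)⁻¹ * (y : G) * k = k * ((y' : G)⁻¹ * (y : G)) := by
      have := congrArg (fun w => (y' : G)⁻¹ * w * k * (y:G)) h1
      simp only [mul_assoc] at this
      simpa [mul_assoc] using this
    exact h3.symm
  have hsurj : Function.Surjective f := Finite.surjective_of_injective hinj
  obtain ⟨y, hy⟩ := hsurj ⟨k' * k⁻¹, hk'⟩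
  refine ⟨y, y.2, ?_⟩
  have := congrArg Subtype.val hy
  simp only [f] at this
  have h4 := congrArg (fun w => w * k) this
  simpa [mul_assoc] using h4

/-- the homomorphism onto `ZMod e` with kernel `⟨z⟩` -/
theorem Hyp.exists_kappa [Finite G] (h : Hyp G p z) (e : ℕ) (he : Nat.card (NN z ⧸ KK z) = e) :
    ∃ κ : NN z →* Multiplicative (ZMod e), Function.Surjective κ ∧ κ.ker = KK z := by
  subst he
  have hc := h.isCyclic_quot
  refine ⟨(zmodCyclicMulEquiv hc).symm.toMonoidHom.comp (QuotientGroup.mk' (KK z)), ?_, ?_⟩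
  · exact (zmodCyclicMulEquiv hc).symm.surjective.comp (QuotientGroup.mk'_surjective _)
  · ext x
    rw [MonoidHom.mem_ker, MonoidHom.comp_apply]
    simp only [MulEquiv.coe_toMonoidHom, MulEquiv.map_eq_one_iff, QuotientGroup.mk'_apply,
      QuotientGroup.eq_one_iff]

end

end Cfsg.Agent.Lib.Helper9.Art
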