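import Mathlib
import Cfsg.Agent.Lib.Helper9.ArtA

set_option autoImplicit false
set_option linter.unusedSectionVars false
set_option linter.unusedVariables false
set_option linter.style.longLine false
set_option linter.unusedSimpArgs false

set_option maxHeartbeats 1600000
namespace Cfsg.Agent.Lib.Helper9.Art
open Subgroup
open scoped Pointwise

section

variable {G : Type*} [Group G] [Finite G] {p : ℕ} [hp : Fact p.Prime] {z : G}

theorem commutator_le_ker_of_comm {A : Type*} [Group A] (f : G →* A)
    (hA : ∀ a b : A, a * b = b * a) : commutator G ≤ f.ker := by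
  rw [commutator_eq_closure, closure_le]
  rintro x ⟨a, b, rfl⟩
  simp only [SetLike.mem_coe, MonoidHom.mem_ker, commutatorElement_def, map_mul, map_inv]
  rw [hA (f a) (f b)]
  group

theorem Hyp.card_sylow (h : Hyp G p z) : Nat.card (Sylow p G) = (NN z).index := by
  obtain ⟨S₀, hS₀⟩ := h.exists_sylow
  rw [S₀.card_eq_index_normalizer]
  show (normalizer ((S₀ : Subgroup G) : Set G)).index = _
  rw [hS₀]

theorem Hyp.card_G (h : Hyp G p z) :
    Nat.card G = p * Nat.card (NN z ⧸ KK z) * Nat.card (Sylow p G) := by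
  rw [h.card_sylow, ← h.card_N, mul_comm]
  exact ((NN z).index_mul_card).symm

theorem Hyp.exists_n (h : Hyp G p z) : ∃ n : ℕ, Nat.card (Sylow p G) = 1 + n * p := by
  have h1 : Nat.card (Sylow p G) ≡ 1 [MOD p] := card_sylow_modEq_one p G
  have hpos : 0 < Nat.card (Sylow p G) := Nat.card_pos
  have h2 := (Nat.modEq_iff_dvd' hpos).mp h1.symm
  obtain ⟨n, hn⟩ := h2
  exact ⟨n, by rw [mul_comm]; omega⟩

theorem Hyp.two_le_e (h : Hyp G p z) (hperf : commutator G = ⊤) :
    2 ≤ Nat.card (NN z ⧸ KK z) := by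
  by_contra hlt
  have hpos : 0 < Nat.card (NN z ⧸ KK z) := Nat.card_pos
  have h1 : Nat.card (NN z ⧸ KK z) = 1 := by omega
  obtain ⟨S₀, hS₀⟩ := h.exists_sylow
  have hNP : NN z ≤ zpowers z := by
    intro x hx
    have h2 : ((⟨x, hx⟩ : NN z) : NN z ⧸ KK z) = 1 := by
      haveI := (Nat.card_eq_one_iff_unique.mp h1).1
      exact Subsingleton.elim _ _
    rw [QuotientGroup.eq_one_iff] at h2
    exact h2
  have hle : normalizer ((S₀ : Subgroup G) : Set G) ≤ centralizer ((S₀ : Subgroup G) : Set G) := by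
    rw [hS₀, h.centralizer_P]
    exact hNP
  have hcomp := MonoidHom.ker_transferSylow_isComplement' S₀ hle
  have hcomm : ∀ a b : (S₀ : Subgroup G), a * b = b * a := by
    intro a b
    apply Subtype.ext
    have ha : (a : G) ∈ zpowers z := hS₀ ▸ a.2
    have hb : (b : G) ∈ zpowers z := hS₀ ▸ b.2
    obtain ⟨i, hi⟩ := ha
    obtain ⟨j, hj⟩ := hb
    show (a : G) * (b : G) = (b : G) * (a : G)
    rw [← hi, ← hj]
    exact ((Commute.refl z).zpow_zpow i j).eq
  have hker : (MonoidHom.transferSylow S₀ hle).ker = ⊤ := by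
    apply top_le_iff.mp
    rw [← hperf]
    exact commutator_le_ker_of_comm _ hcomm
  have hcard := hcomp.card_mul_card
  rw [hker, card_top] at hcard
  have hG : 0 < Nat.card G := Nat.card_pos
  have hS1 : Nat.card (S₀ : Subgroup G) = 1 := by
    have : Nat.card G * Nat.card (S₀ : Subgroup G) = Nat.card G * 1 := by rw [hcard, mul_one]
    exact Nat.eq_of_mul_eq_mul_left hG this
  rw [hS₀, h.card_P] at hS1
  exact hp.out.one_lt.ne' hS1

theorem Hyp.sylow_ne_one (h : Hyp G p z) (hperf : commutator G = ⊤) :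
    Nat.card (Sylow p G) ≠ 1 := by
  intro h1
  rw [h.card_sylow, index_eq_one] at h1
  haveI := h.isCyclic_mulAut
  have hcomm : ∀ a b : MulAut (zpowers z), a * b = b * a :=
    fun a b => (IsCyclic.commGroup (α := MulAut (zpowers z))).mul_comm a b
  have hall : ∀ g : G, g ∈ zpowers z := by
    intro g
    have hg : g ∈ NN z := by rw [h1]; trivial
    let φ : G →* MulAut (zpowers z) :=
      (zpowers z).normalizerMonoidHom.comp
        ((MonoidHom.id G).codRestrict (NN z) (fun x => by rw [h1]; trivial))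
    have hk := commutator_le_ker_of_comm φ hcomm
    rw [hperf] at hk
    have hgk : g ∈ φ.ker := hk trivial
    rw [MonoidHom.mem_ker, MonoidHom.comp_apply, ← MonoidHom.mem_ker, h.ker_eq] at hgk
    exact hgk
  have hab : commutator G = ⊥ := by
    rw [commutator_eq_closure, closure_eq_bot_iff]
    rintro x ⟨a, b, rfl⟩
    obtain ⟨i, hi⟩ := hall a
    obtain ⟨j, hj⟩ := hall b
    rw [Set.mem_singleton_iff, commutatorElement_def, ← hi, ← hj]
    have := ((Commute.refl z).zpow_zpow i j).eq
    rw [this]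
    group
  rw [hperf] at hab
  have : z ∈ (⊥ : Subgroup G) := by rw [← hab]; trivial
  exact h.z_ne_one (mem_bot.mp this)

end

end Cfsg.Agent.Lib.Helper9.Art
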