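import Mathlib
import Cfsg.Agent.Lib.Helper9.ArtB
import Cfsg.Prelude.Def_Characters

set_option autoImplicit false
set_option linter.unusedSectionVars false
set_option linter.unusedVariables false
set_option linter.style.longLine false
set_option linter.unusedSimpArgs false

set_option maxHeartbeats 1600000
namespace Cfsg.Agent.Lib.Helper9.Art
open Subgroup
open scoped Pointwise

section

variable {G : Type*} [Group G] [Fintype G] {p : ℕ} [hp : Fact p.Prime] {z : G}

theorem Hyp.card_sylow_sub (h : Hyp G p z) (Q : Sylow p G) : Nat.card (Q : Subgroup G) = p := by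
  obtain ⟨S₀, hS₀⟩ := h.exists_sylow
  rw [Q.card_eq_multiplicity, ← S₀.card_eq_multiplicity, hS₀, h.card_P]

theorem Hyp.orderOf_of_mem_sylow (h : Hyp G p z) (Q : Sylow p G) {g : G} (hg : g ∈ Q)
    (hg1 : g ≠ 1) : orderOf g = p := by
  have h1 : orderOf g ∣ p := by
    have := Subgroup.orderOf_dvd_natCard (Q : Subgroup G) hg
    rwa [h.card_sylow_sub Q] at this
  rcases (Nat.dvd_prime hp.out).mp h1 with h2 | h2
  · exact absurd (orderOf_eq_one_iff.mp h2) hg1
  · exact h2

theorem Hyp.sylow_eq_zpowers (h : Hyp G p z) (Q : Sylow p G) {g : G} (hg : g ∈ Q)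
    (hg1 : g ≠ 1) : (Q : Subgroup G) = zpowers g := by
  symm
  apply Subgroup.eq_of_le_of_card_ge
  · rw [zpowers_le]; exact hg
  · rw [Nat.card_zpowers, h.orderOf_of_mem_sylow Q hg hg1, h.card_sylow_sub Q]

/-- number of Sylow subgroups through a non-identity element: `1` or `0` -/
theorem Hyp.card_sylow_through (h : Hyp G p z) [Fintype (Sylow p G)] [DecidableEq G]
    [∀ (Q : Sylow p G) (g : G), Decidable (g ∈ Q)] (g : G) :
    (Finset.univ.filter (fun Q : Sylow p G => g ∈ Q ∧ g ≠ 1)).card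
      = if p ∣ orderOf g then 1 else 0 := by
  split_ifs with hg
  · obtain ⟨S₀, hS₀⟩ := h.exists_sylow
    obtain ⟨a, ha⟩ := h.exists_conj_mem hg
    have hg1 : g ≠ 1 := by
      rintro rfl
      rw [orderOf_one] at hg
      exact hp.out.one_lt.ne' (Nat.dvd_one.mp hg)
    rw [Finset.card_eq_one]
    refine ⟨a⁻¹ • S₀, ?_⟩
    ext Q
    simp only [Finset.mem_filter, Finset.mem_univ, true_and, Finset.mem_singleton]
    constructor
    · rintro ⟨hQ, -⟩
      apply Sylow.ext
      rw [h.sylow_eq_zpowers Q hQ hg1]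
      symm
      apply h.sylow_eq_zpowers (a⁻¹ • S₀) _ hg1
      have h2 : ((a⁻¹ • S₀ : Sylow p G) : Subgroup G) = MulAut.conj a⁻¹ • (S₀ : Subgroup G) :=
        Sylow.pointwise_smul_def
      show g ∈ ((a⁻¹ • S₀ : Sylow p G) : Subgroup G)
      rw [h2, hS₀]
      refine (Subgroup.mem_smul_pointwise_iff_exists _ _ _).mpr ⟨a * g * a⁻¹, ha, ?_⟩
      simp [MulAut.smul_def, mul_assoc]
    · rintro rfl
      refine ⟨?_, hg1⟩
      have h2 : ((a⁻¹ • S₀ : Sylow p G) : Subgroup G) = MulAut.conj a⁻¹ • (S₀ : Subgroup G) :=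
        Sylow.pointwise_smul_def
      show g ∈ ((a⁻¹ • S₀ : Sylow p G) : Subgroup G)
      rw [h2, hS₀]
      refine (Subgroup.mem_smul_pointwise_iff_exists _ _ _).mpr ⟨a * g * a⁻¹, ha, ?_⟩
      simp [MulAut.smul_def, mul_assoc]
  · rw [Finset.card_eq_zero, Finset.filter_eq_empty_iff]
    rintro Q - ⟨hQ, hg1⟩
    apply hg
    rw [h.orderOf_of_mem_sylow Q hQ hg1]

/-- summing a class function over the `p`-singular elements -/
theorem Hyp.sum_singular (h : Hyp G p z) [DecidableEq G] (f : G → ℂ)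
    (hf : Cfsg.IsClassFunction G f) :
    ∑ g : G, (if p ∣ orderOf g then f g else 0)
      = (Nat.card (Sylow p G) : ℂ) * ∑ x : G, (if x ∈ zpowers z ∧ x ≠ 1 then f x else 0) := by
  classical
  haveI : Fintype (Sylow p G) := Fintype.ofFinite _
  obtain ⟨S₀, hS₀⟩ := h.exists_sylow
  have h1 : ∀ g : G, (if p ∣ orderOf g then f g else 0)
      = ∑ Q : Sylow p G, (if g ∈ Q ∧ g ≠ 1 then f g else 0) := by
    intro g
    rw [← Finset.sum_filter, Finset.sum_const, h.card_sylow_through g]
    split_ifs <;> simp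
  rw [Finset.sum_congr rfl (fun g _ => h1 g), Finset.sum_comm]
  have h2 : ∀ Q : Sylow p G, ∑ g : G, (if g ∈ Q ∧ g ≠ 1 then f g else 0)
      = ∑ x : G, (if x ∈ zpowers z ∧ x ≠ 1 then f x else 0) := by
    intro Q
    obtain ⟨a, ha⟩ := MulAction.exists_smul_eq G S₀ Q
    have h3 : ((a • S₀ : Sylow p G) : Subgroup G) = MulAut.conj a • (S₀ : Subgroup G) :=
      Sylow.pointwise_smul_def
    apply (Fintype.sum_equiv (MulAut.conj a).toEquiv _ _ _).symm
    intro x
    have hmem : (MulAut.conj a x ∈ Q) ↔ x ∈ zpowers z := by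
      rw [← ha]
      show MulAut.conj a x ∈ ((a • S₀ : Sylow p G) : Subgroup G) ↔ _
      rw [h3, ← hS₀]
      exact Subgroup.smul_mem_pointwise_smul_iff
    have hne : (MulAut.conj a x ≠ 1) ↔ x ≠ 1 := by
      simp
    simp only [MulEquiv.toEquiv_eq_coe, MulEquiv.coe_toEquiv]
    have hfx : f (MulAut.conj a x) = f x := by
      rw [MulAut.conj_apply]; exact hf x a
    rw [hfx]
    exact (if_congr (and_congr hmem hne) rfl rfl).symm
  rw [Finset.sum_congr rfl (fun Q _ => h2 Q), Finset.sum_const, Finset.card_univ, nsmul_eq_mul,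
    Nat.card_eq_fintype_card]

end

section

variable {G : Type*} [Group G] [Finite G] {p : ℕ} [hp : Fact p.Prime] {z : G}

theorem Hyp.card_commute_one (h : Hyp G p z) :
    Nat.card {b : NN z // Commute (1 : NN z) b} = p * Nat.card (NN z ⧸ KK z) := by
  rw [← h.card_N]
  exact Nat.card_congr (Equiv.subtypeUnivEquiv (fun b => Commute.one_left b))

theorem Hyp.card_commute_K (h : Hyp G p z) {a : NN z} (ha : a ∈ KK z) (ha1 : a ≠ 1) :
    Nat.card {b : NN z // Commute a b} = p := by
  rw [← h.card_KK]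
  apply Nat.card_congr
  refine Equiv.subtypeEquivRight ?_
  intro b
  have haP : (a : G) ∈ zpowers z := ha
  have ha1' : (a : G) ≠ 1 := by
    intro h1; apply ha1; ext; simpa using h1
  show Commute a b ↔ (b : G) ∈ zpowers z
  rw [← h.centralizer_eq haP ha1', mem_centralizer_singleton_iff]
  constructor
  · intro hc
    have := congrArg Subtype.val hc.eq
    simpa using this.symm
  · intro hc
    apply Subtype.ext
    simpa using hc.symm

theorem Hyp.card_commute_out (h : Hyp G p z) {a : NN z} (ha : a ∉ KK z) :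
    Nat.card {b : NN z // Commute a b} = Nat.card (NN z ⧸ KK z) := by
  obtain ⟨κ, hκs, hκk⟩ := h.exists_kappa _ rfl
  have hpos : 0 < Nat.card (NN z ⧸ KK z) := Nat.card_pos
  haveI : NeZero (Nat.card (NN z ⧸ KK z)) := ⟨hpos.ne'⟩
  have hcard : Nat.card (Multiplicative (ZMod (Nat.card (NN z ⧸ KK z)))) = Nat.card (NN z ⧸ KK z) := by
    rw [Nat.card_congr Multiplicative.toAdd, Nat.card_zmod]
  rw [← hcard]
  have haP : (a : G) ∉ zpowers z := ha
  apply Nat.card_eq_of_bijective (fun b : {b : NN z // Commute a b} => κ b.1)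
  constructor
  · rintro ⟨b, hb⟩ ⟨b', hb'⟩ hbb
    simp only at hbb
    apply Subtype.ext
    simp only
    by_contra hne
    have hk : b'⁻¹ * b ∈ KK z := by
      rw [← hκk, MonoidHom.mem_ker, map_mul, map_inv, hbb, inv_mul_cancel]
    have hne1 : ((b'⁻¹ * b : NN z) : G) ≠ 1 := by
      intro h1
      apply hne
      have : b'⁻¹ * b = 1 := by ext; simpa using h1
      calc b = b' * (b'⁻¹ * b) := by group
        _ = b' := by rw [this, mul_one]
    apply h.not_commute haP hk hne1
    have hc : Commute a (b'⁻¹ * b) := (hb'.inv_right).mul_right hb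
    exact hc.map (NN z).subtype
  · intro r
    obtain ⟨b₀, hb₀⟩ := hκs r
    have hcoset : ((b₀ * a * b₀⁻¹ : NN z) : G) * (a : G)⁻¹ ∈ zpowers z := by
      have : b₀ * a * b₀⁻¹ * a⁻¹ ∈ KK z := by
        rw [← hκk, MonoidHom.mem_ker]
        simp only [map_mul, map_inv]
        rw [mul_comm (κ b₀) (κ a)]
        group
      exact this
    obtain ⟨y, hy, hya⟩ := h.exists_conj_of_coset a.2 haP hcoset
    have hyN : y ∈ NN z := P_le_N z hy
    refine ⟨⟨⟨y, hyN⟩⁻¹ * b₀, ?_⟩, ?_⟩
    · have h1 : (⟨y, hyN⟩ : NN z) * a * (⟨y, hyN⟩ : NN z)⁻¹ = b₀ * a * b₀⁻¹ := by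
        ext; simpa using hya
      show a * (⟨y, hyN⟩⁻¹ * b₀) = ⟨y, hyN⟩⁻¹ * b₀ * a
      calc a * (⟨y, hyN⟩⁻¹ * b₀) = ⟨y, hyN⟩⁻¹ * (⟨y, hyN⟩ * a * ⟨y, hyN⟩⁻¹) * b₀ := by group
        _ = ⟨y, hyN⟩⁻¹ * (b₀ * a * b₀⁻¹) * b₀ := by rw [h1]
        _ = ⟨y, hyN⟩⁻¹ * b₀ * a := by group
    · simp only [map_mul, map_inv]
      have hyk : (⟨y, hyN⟩ : NN z) ∈ κ.ker := by rw [hκk]; exact hy
      rw [MonoidHom.mem_ker.mp hyk, inv_one, one_mul, hb₀]

theorem Hyp.card_conjClasses_N (h : Hyp G p z) :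
    Nat.card (ConjClasses (NN z)) * Nat.card (NN z ⧸ KK z)
      = Nat.card (NN z ⧸ KK z) * Nat.card (NN z ⧸ KK z) + (p - 1) := by
  classical
  haveI : Fintype (NN z) := Fintype.ofFinite _
  obtain ⟨e, he⟩ : ∃ e, e = Nat.card (NN z ⧸ KK z) := ⟨_, rfl⟩
  have hepos : 0 < e := he ▸ Nat.card_pos
  have hedvd : e ∣ p - 1 := he ▸ h.card_quot_dvd
  have hele : e ≤ p := le_trans (Nat.le_of_dvd (Nat.sub_pos_of_lt hp.out.one_lt) hedvd) (Nat.sub_le _ _)
  have hppos := hp.out.pos
  rw [← he]
  have key := card_comm_eq_card_conjClasses_mul_card (NN z)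
  have hsig : Nat.card {q : NN z × NN z // Commute q.1 q.2}
      = ∑ a : NN z, Nat.card {b : NN z // Commute a b} := by
    rw [Nat.card_congr (Equiv.subtypeProdEquivSigmaSubtype (fun a b : NN z => Commute a b)),
      Nat.card_sigma]
  have hc : ∀ a : NN z, Nat.card {b : NN z // Commute a b}
      = e + (if a ∈ KK z then (p - e) else 0) + (if a = 1 then p * e - p else 0) := by
    intro a
    by_cases ha1 : a = 1
    · subst ha1
      rw [h.card_commute_one, ← he, if_pos (one_mem _), if_pos rfl]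
      have : p ≤ p * e := Nat.le_mul_of_pos_right _ hepos
      omega
    · by_cases haK : a ∈ KK z
      · rw [h.card_commute_K haK ha1, if_pos haK, if_neg ha1]
        omega
      · rw [h.card_commute_out haK, ← he, if_neg haK, if_neg ha1]
        omega
  rw [hsig, Finset.sum_congr rfl (fun a _ => hc a), Finset.sum_add_distrib, Finset.sum_add_distrib,
    Finset.sum_const, Finset.card_univ, ← Finset.sum_filter, Finset.sum_const,
    Finset.sum_ite_eq' Finset.univ (1 : NN z), if_pos (Finset.mem_univ _)] at key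
  have hN : Fintype.card (NN z) = p * e := by
    rw [← Nat.card_eq_fintype_card, h.card_N, he]
  have hK : (Finset.univ.filter (fun a : NN z => a ∈ KK z)).card = p := by
    rw [← h.card_KK, Nat.card_eq_fintype_card, Fintype.card_subtype]
  rw [hN, hK, h.card_N, ← he] at key
  simp only [smul_eq_mul] at key
  -- key : p*e*e + p*(p-e) + (p*e-p) = k * (p*e)
  have hpe : p ≤ p * e := Nat.le_mul_of_pos_right _ hepos
  have h3 : p * (Nat.card (ConjClasses (NN z)) * e) = p * (e * e + (p - 1)) := by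
    obtain ⟨A, hA⟩ := Nat.exists_eq_add_of_le hele
    obtain ⟨B, hB⟩ := Nat.exists_eq_add_of_le hpe
    obtain ⟨C, hC⟩ := Nat.exists_eq_add_of_le hp.out.one_lt.le
    have hA' : p - e = A := by omega
    have hB' : p * e - p = B := by omega
    have hC' : p - 1 = C := by omega
    rw [hA', hB'] at key
    rw [hC']
    have hpA : p * A + p * e = p * p := by rw [← mul_add, add_comm A e, ← hA]
    have hpC : p * C + p = p * p := by
      have : p * (C + 1) = p * p := by rw [add_comm C 1, ← hC]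
      linarith
    nlinarith [key, hpA, hpC, hB]
  exact Nat.eq_of_mul_eq_mul_left hppos h3

end

end Cfsg.Agent.Lib.Helper9.Art
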