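import Mathlib
import Cfsg.Agent.Lib.Helper9.ArtC
import Cfsg.Agent.Lib.Helper7.Bt5
import Cfsg.Agent.S4502
import Cfsg.Agent.Lib.Helper6.BlkVanish

set_option autoImplicit false
set_option linter.unusedSectionVars false
set_option linter.unusedVariables false
set_option linter.style.longLine false
set_option linter.unusedSimpArgs false

set_option maxHeartbeats 1600000
namespace Cfsg.Agent.Lib.Helper9.Art
open Subgroup Cfsg Cfsg.Agent.Lib.Helper6 Cfsg.Agent.Lib.Helper7.Bt
open scoped ComplexConjugate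

/-- the character-theoretic data of the principal `p`-block, `C(P) = P` -/
structure CPre (G : Type*) [Group G] [Fintype G] (p e t n : ℕ) (z : G)
    (X Y : Finset (IrrCharacter G)) (εX : IrrCharacter G → ℤ) (ε : ℤ) : Prop where
  hyp : Hyp G p z
  hperf : commutator G = ⊤
  hp2 : p ≠ 2
  he : Nat.card (NN z ⧸ KK z) = e
  het : e * t = p - 1
  he2 : 2 ≤ e
  hsyl : Nat.card (Sylow p G) = 1 + n * p
  hn1 : 1 ≤ n
  harith : ∀ u : ℕ, 1 ≤ u → (1 + u * p) ∣ (p - 1) * (1 + n * p) → u = n
  disj : ∀ χ : IrrCharacter G, χ ∈ X → χ ∈ Y → False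
  cardX : X.card = e
  cardY : Y.card = t
  signX : ∀ χ ∈ X, εX χ = 1 ∨ εX χ = -1
  degX : ∀ χ ∈ X, (deg χ : ℤ) ≡ εX χ [ZMOD p]
  valX : ∀ χ ∈ X, ∀ x : G, x ∈ zpowers z → x ≠ 1 → (χ : G → ℂ) x = (εX χ : ℂ)
  sign : ε = 1 ∨ ε = -1
  degY : ∀ θ ∈ Y, (deg θ : ℤ) ≡ ε * (e : ℤ) [ZMOD p]
  agree : ∀ θ ∈ Y, ∀ θ' ∈ Y, ∀ g : G, ¬ p ∣ orderOf g → (θ : G → ℂ) g = (θ' : G → ℂ) g
  rel : ∀ θ ∈ Y, ∀ g : G, ¬ p ∣ orderOf g →
    (ε : ℂ) * (θ : G → ℂ) g = ∑ χ ∈ X, (εX χ : ℂ) * (χ : G → ℂ) g
  vanish : ∀ χ : IrrCharacter G, χ ∉ X → χ ∉ Y → ∀ x : G, p ∣ orderOf x → (χ : G → ℂ) x = 0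
  dvdZ : ∀ χ : IrrCharacter G, χ ∉ X → χ ∉ Y → p ∣ deg χ

/-- the data, with the trivial character among the non-exceptional ones -/
structure CData (G : Type*) [Group G] [Fintype G] (p e t n : ℕ) (z : G)
    (X Y : Finset (IrrCharacter G)) (εX : IrrCharacter G → ℤ) (ε : ℤ) : Prop
    extends CPre G p e t n z X Y εX ε where
  one_mem : oneIrr G ∈ X

section

variable {G : Type*} [Group G] [Fintype G] {p : ℕ} [hp : Fact p.Prime] {z : G}

theorem Hyp.not_sq_dvd (h : Hyp G p z) : ¬ p ^ 2 ∣ Nat.card G := by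
  obtain ⟨n, hn⟩ := h.exists_n
  have hdvd := h.card_quot_dvd
  have hpos : 0 < Nat.card (NN z ⧸ KK z) := Nat.card_pos
  have hle : Nat.card (NN z ⧸ KK z) ≤ p - 1 :=
    Nat.le_of_dvd (Nat.sub_pos_of_lt hp.out.one_lt) hdvd
  rw [h.card_G, hn, pow_two, mul_assoc]
  intro hd
  have h2 : p ∣ Nat.card (NN z ⧸ KK z) * (1 + n * p) := Nat.dvd_of_mul_dvd_mul_left hp.out.pos hd
  rcases (Nat.Prime.dvd_mul hp.out).mp h2 with h3 | h3
  · have := Nat.le_of_dvd hpos h3
    have := hp.out.one_lt
    omega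
  · have h4 : p ∣ 1 := by
      have h5 : p ∣ n * p := dvd_mul_left p n
      exact (Nat.dvd_add_left h5).mp h3
    exact hp.out.one_lt.ne' (Nat.dvd_one.mp h4)

theorem Hyp.p_dvd_card (h : Hyp G p z) : p ∣ Nat.card G := by
  rw [h.card_G, mul_assoc]
  exact dvd_mul_right _ _

theorem Hyp.vanish_of_dvd [DecidableEq G] (h : Hyp G p z) (χ : IrrCharacter G) (hd : p ∣ deg χ)
    (x : G) (hx : p ∣ orderOf x) : (χ : G → ℂ) x = 0 :=
  IsIrrCharacter.eq_zero_of_defect_zero χ.2 p 1 hp.out (by rw [pow_one]; exact h.p_dvd_card)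
    h.not_sq_dvd (by rw [pow_one]; exact hd) x hx

end

section

variable {G : Type*} [Group G] [Fintype G] {p : ℕ} [hp : Fact p.Prime] {z : G}

theorem exists_cpre' (h : Hyp G p z) (hperf : commutator G = ⊤) (hp2 : p ≠ 2)
    (harith : ∀ n : ℕ, Nat.card (Sylow p G) = 1 + n * p →
      ∀ u : ℕ, 1 ≤ u → (1 + u * p) ∣ (p - 1) * (1 + n * p) → u = n) :
    ∃ (e t n : ℕ) (X Y : Finset (IrrCharacter G)) (εX : IrrCharacter G → ℤ) (ε : ℤ),
      CPre G p e t n z X Y εX ε := by
  classical
  haveI : Fintype (IrrCharacter G) := Fintype.ofFinite _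
  obtain ⟨M, hM⟩ := exists_isPModular p
  obtain ⟨S₀, hS₀⟩ := h.exists_sylow
  have hS : Nat.card S₀ = p := by
    show Nat.card (S₀ : Subgroup G) = p
    rw [hS₀, h.card_P]
  obtain ⟨X, Y, εX, ε, D⟩ := exists_pdata p hp2 M hM S₀ hS
  obtain ⟨e, he⟩ : ∃ e, Nat.card (NN z ⧸ KK z) = e := ⟨_, rfl⟩
  have heq : (Subgroup.centralizer ((S₀ : Subgroup G) : Set G)).relIndex
      (Subgroup.normalizer ((S₀ : Subgroup G) : Set G)) = e := by
    rw [hS₀, ← h.card_quot_eq, he]
  rw [heq] at D
  have hedvd : e ∣ p - 1 := he ▸ h.card_quot_dvd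
  have hepos : 0 < e := he ▸ Nat.card_pos
  have het : e * ((p - 1) / e) = p - 1 := Nat.mul_div_cancel' hedvd
  obtain ⟨n, hsyl⟩ := h.exists_n
  have hn1 : 1 ≤ n := by
    rcases Nat.eq_zero_or_pos n with h0 | h0
    · exfalso
      apply h.sylow_ne_one hperf
      rw [hsyl, h0]; simp
    · exact h0
  -- the characters of degree prime to p
  have hsub : X ∪ Y ⊆ Finset.univ.filter (fun χ : IrrCharacter G => ¬ p ∣ deg χ) := by
    intro χ hχ
    rw [Finset.mem_filter]
    refine ⟨Finset.mem_univ _, ?_⟩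
    rcases Finset.mem_union.mp hχ with h1 | h1
    · exact D.not_dvd_X hp.out χ h1
    · exact D.not_dvd_Y hp.out hedvd hepos χ h1
  have hdisj : Disjoint X Y := by
    rw [Finset.disjoint_left]
    intro χ h1 h2
    exact D.disj χ h1 h2
  have hcardXY : (X ∪ Y).card = e + (p - 1) / e := by
    rw [Finset.card_union_of_disjoint hdisj, D.cardX, D.cardY]
  have hkN : Nat.card (ConjClasses (NN z)) = e + (p - 1) / e := by
    have h1 := h.card_conjClasses_N
    rw [he] at h1
    have h2 : Nat.card (ConjClasses (NN z)) * e = (e + (p - 1) / e) * e := by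
      rw [h1, add_mul, mul_comm ((p - 1) / e) e, het]
    exact Nat.eq_of_mul_eq_mul_right hepos h2
  have hcardA : (Finset.univ.filter (fun χ : IrrCharacter G => ¬ p ∣ deg χ)).card
      = e + (p - 1) / e := by
    have h1 := Cfsg.Agent.S4502.result p h.p_dvd_card h.not_sq_dvd S₀
    rw [Nat.card_eq_fintype_card, Fintype.card_subtype] at h1
    rw [h1]
    have h2 : Subgroup.normalizer ((S₀ : Subgroup G) : Set G) = NN z := by rw [hS₀]
    rw [h2, hkN]
  have hEq : X ∪ Y = Finset.univ.filter (fun χ : IrrCharacter G => ¬ p ∣ deg χ) :=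
    Finset.eq_of_subset_of_card_le hsub (by rw [hcardA, hcardXY])
  have hdvdZ : ∀ χ : IrrCharacter G, χ ∉ X → χ ∉ Y → p ∣ deg χ := by
    intro χ h1 h2
    by_contra h3
    have : χ ∈ X ∪ Y := by rw [hEq, Finset.mem_filter]; exact ⟨Finset.mem_univ _, h3⟩
    rcases Finset.mem_union.mp this with h4 | h4
    · exact h1 h4
    · exact h2 h4
  refine ⟨e, (p - 1) / e, n, X, Y, εX, ε, ?_⟩
  exact
    { hyp := h
      hperf := hperf
      hp2 := hp2
      he := he
      het := het
      he2 := he ▸ h.two_le_e hperf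
      hsyl := hsyl
      hn1 := hn1
      harith := harith n hsyl
      disj := D.disj
      cardX := D.cardX
      cardY := D.cardY
      signX := D.signX
      degX := D.degX
      valX := fun χ hχ x hx hx1 => D.valX χ hχ x (h.orderOf_of_mem hx hx1)
      sign := D.sign
      degY := D.degY
      agree := D.agree
      rel := D.rel
      vanish := fun χ h1 h2 x hx => h.vanish_of_dvd χ (hdvdZ χ h1 h2) x hx
      dvdZ := hdvdZ }

end

section

variable {G : Type*} [Group G] [Fintype G] {p e t n : ℕ} [hp : Fact p.Prime] {z : G}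
  {X Y : Finset (IrrCharacter G)} {εX : IrrCharacter G → ℤ} {ε : ℤ}

theorem oneIrr_apply (g : G) : ((oneIrr G : IrrCharacter G) : G → ℂ) g = 1 := rfl

theorem CPre.one_mem_XY (D : CPre G p e t n z X Y εX ε) : oneIrr G ∈ X ∨ oneIrr G ∈ Y := by
  by_contra hc
  push Not at hc
  have := D.dvdZ (oneIrr G) hc.1 hc.2
  rw [deg_oneIrr] at this
  exact hp.out.one_lt.ne' (Nat.dvd_one.mp this)

theorem CPre.exists_cdata (D : CPre G p e t n z X Y εX ε) :
    ∃ (X' Y' : Finset (IrrCharacter G)) (εX' : IrrCharacter G → ℤ) (ε' : ℤ),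
      CData G p e t n z X' Y' εX' ε' := by
  classical
  rcases D.one_mem_XY with h1 | h1
  · exact ⟨X, Y, εX, ε, { toCPre := D, one_mem := h1 }⟩
  -- the trivial character is exceptional
  have hp1 := hp.out.one_lt
  have hnotX : oneIrr G ∉ X := fun hx => D.disj _ hx h1
  by_cases ht : 2 ≤ t
  · exfalso
    have hY2 : 1 < Y.card := by rw [D.cardY]; exact ht
    obtain ⟨θ', hθ', hne⟩ := Finset.exists_mem_ne hY2 (oneIrr G)
    have hag := D.agree θ' hθ' (oneIrr G) h1 1 (by rw [orderOf_one]; exact hp.out.not_dvd_one)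
    rw [oneIrr_apply, apply_one] at hag
    have hd : deg θ' = 1 := by exact_mod_cast hag
    exact hne (eq_oneIrr_of_deg_one D.hperf θ' hd)
  have htpos : 0 < t := by
    rcases Nat.eq_zero_or_pos t with h0 | h0
    · have := D.cardY; rw [h0, Finset.card_eq_zero] at this
      rw [this] at h1; exact absurd h1 (Finset.notMem_empty _)
    · exact h0
  have ht1 : t = 1 := by omega
  have hep : e = p - 1 := by have := D.het; rw [ht1, mul_one] at this; exact this
  have hY : Y = {oneIrr G} := by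
    have hc := D.cardY
    rw [ht1, Finset.card_eq_one] at hc
    obtain ⟨a, ha⟩ := hc
    rw [ha] at h1 ⊢
    rw [Finset.mem_singleton.mp h1]
  -- ε = -1
  have hε : ε = -1 := by
    rcases D.sign with h2 | h2
    · exfalso
      have h3 := D.degY (oneIrr G) h1
      rw [deg_oneIrr, h2, one_mul, hep] at h3
      have h4 : (p : ℤ) ∣ ((p - 1 : ℕ) : ℤ) - ((1 : ℕ) : ℤ) := Int.ModEq.dvd h3
      rw [Nat.cast_sub hp1.le] at h4
      have h5 : (p : ℤ) ∣ 2 := by
        have h6 : ((p : ℤ) - ((1 : ℕ) : ℤ) - ((1 : ℕ) : ℤ)) = (p : ℤ) - 2 := by push_cast; ring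
        rw [h6] at h4
        have := dvd_sub (dvd_refl (p : ℤ)) h4
        rwa [sub_sub_cancel] at this
      have h7 : p ∣ 2 := by exact_mod_cast h5
      exact D.hp2 ((Nat.prime_dvd_prime_iff_eq hp.out Nat.prime_two).1 h7)
    · exact h2
  have hXne : X.Nonempty := by
    rw [← Finset.card_pos, D.cardX]; have := D.he2; omega
  obtain ⟨χ0, hχ0⟩ := hXne
  have hχ01 : χ0 ≠ oneIrr G := fun h => hnotX (h ▸ hχ0)
  refine ⟨insert (oneIrr G) (X.erase χ0), {χ0},
    fun χ => if χ = oneIrr G then 1 else εX χ, -εX χ0, ?_⟩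
  have hrelold : ∀ g : G, ¬ p ∣ orderOf g →
      ∑ χ ∈ X, (εX χ : ℂ) * (χ : G → ℂ) g = -1 := by
    intro g hg
    rw [← D.rel (oneIrr G) h1 g hg, hε, oneIrr_apply]
    push_cast; ring
  have houtside : ∀ χ : IrrCharacter G, χ ∉ insert (oneIrr G) (X.erase χ0) → χ ∉ ({χ0} : Finset _) →
      χ ∉ X ∧ χ ∉ Y := by
    intro χ h2 h3
    rw [Finset.mem_insert, Finset.mem_erase] at h2
    rw [Finset.mem_singleton] at h3
    push Not at h2
    refine ⟨fun hx => h2.2 h3 hx, ?_⟩
    rw [hY, Finset.mem_singleton]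
    exact h2.1
  exact
    { hyp := D.hyp
      hperf := D.hperf
      hp2 := D.hp2
      he := D.he
      het := D.het
      he2 := D.he2
      hsyl := D.hsyl
      hn1 := D.hn1
      harith := D.harith
      disj := by
        intro χ h2 h3
        rw [Finset.mem_singleton] at h3
        rw [Finset.mem_insert, Finset.mem_erase] at h2
        rcases h2 with h2 | h2
        · exact hχ01 (h3 ▸ h2)
        · exact h2.1 h3
      cardX := by
        rw [Finset.card_insert_of_notMem (fun h => hnotX (Finset.mem_of_mem_erase h)),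
          Finset.card_erase_of_mem hχ0, D.cardX]
        have := D.he2; omega
      cardY := by rw [Finset.card_singleton, ht1]
      signX := by
        intro χ hχ
        by_cases h2 : χ = oneIrr G
        · left; simp [h2]
        · rw [Finset.mem_insert, Finset.mem_erase] at hχ
          rcases hχ with h3 | h3
          · exact absurd h3 h2
          · simp only [h2, if_false]; exact D.signX χ h3.2
      degX := by
        intro χ hχ
        by_cases h2 : χ = oneIrr G
        · subst h2; simp [deg_oneIrr]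
        · rw [Finset.mem_insert, Finset.mem_erase] at hχ
          rcases hχ with h3 | h3
          · exact absurd h3 h2
          · simp only [h2, if_false]; exact D.degX χ h3.2
      valX := by
        intro χ hχ x hx hx1
        by_cases h2 : χ = oneIrr G
        · subst h2; simp [oneIrr_apply]
        · rw [Finset.mem_insert, Finset.mem_erase] at hχ
          rcases hχ with h3 | h3
          · exact absurd h3 h2
          · simp only [h2, if_false]; exact D.valX χ h3.2 x hx hx1
      sign := by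
        rcases D.signX χ0 hχ0 with h2 | h2
        · right; rw [h2]
        · left; rw [h2]; norm_num
      degY := by
        intro θ hθ
        rw [Finset.mem_singleton] at hθ
        subst hθ
        have h2 := D.degX θ hχ0
        have h3 : (-εX θ * (e : ℤ)) ≡ εX θ [ZMOD p] := by
          rw [hep, Nat.cast_sub hp1.le]
          apply Int.modEq_iff_dvd.mpr
          refine ⟨εX θ, ?_⟩
          push_cast; ring
        exact h2.trans h3.symm
      agree := by
        intro θ hθ θ' hθ' g hg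
        rw [Finset.mem_singleton] at hθ hθ'
        rw [hθ, hθ']
      rel := by
        intro θ hθ g hg
        rw [Finset.mem_singleton] at hθ
        subst hθ
        rw [Finset.sum_insert (fun h => hnotX (Finset.mem_of_mem_erase h))]
        have h2 : ∑ χ ∈ X.erase θ, (((if χ = oneIrr G then 1 else εX χ : ℤ)) : ℂ) * (χ : G → ℂ) g
            = ∑ χ ∈ X.erase θ, (εX χ : ℂ) * (χ : G → ℂ) g := by
          apply Finset.sum_congr rfl
          intro χ hχ
          have : χ ≠ oneIrr G := fun h => hnotX (h ▸ Finset.mem_of_mem_erase hχ)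
          simp only [this, if_false]
        rw [h2]
        have h3 := Finset.add_sum_erase X (fun χ => (εX χ : ℂ) * (χ : G → ℂ) g) hχ0
        rw [hrelold g hg] at h3
        simp only [if_true, oneIrr_apply]
        push_cast
        linear_combination -h3
      vanish := fun χ h2 h3 x hx => D.vanish χ (houtside χ h2 h3).1 (houtside χ h2 h3).2 x hx
      dvdZ := fun χ h2 h3 => D.dvdZ χ (houtside χ h2 h3).1 (houtside χ h2 h3).2
      one_mem := Finset.mem_insert_self _ _ }

end

end Cfsg.Agent.Lib.Helper9.Art
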