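import Mathlib
import Cfsg.Agent.Lib.Helper9.ArtE

set_option autoImplicit false
set_option linter.unusedSectionVars false
set_option linter.unusedVariables false
set_option linter.style.longLine false
set_option linter.unusedSimpArgs false

set_option maxHeartbeats 1600000
namespace Cfsg.Agent.Lib.Helper9.Art
open Subgroup Cfsg Cfsg.Agent.Lib.Helper6 Cfsg.Agent.Lib.Helper7.Bt
open scoped ComplexConjugate

/-- the key arithmetic lemma: a divisor `1 + u p` of `(p-1)(1+np)` with `n < (p+3)/2` has `u = n` -/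
theorem key_arith {p u n : ℕ} (hp : 2 ≤ p) (hu : 1 ≤ u) (hn1 : 1 ≤ n) (hn : 2 * n < p + 3)
    (hd : (1 + u * p) ∣ (p - 1) * (1 + n * p)) : u = n := by
  obtain ⟨q, hq⟩ : ∃ q, p = q + 1 := ⟨p - 1, by omega⟩
  subst hq
  have hd' : ((1 + u * (q + 1) : ℕ) : ℤ) ∣ (((q + 1 - 1) * (1 + n * (q + 1)) : ℕ) : ℤ) :=
    Int.natCast_dvd_natCast.mpr hd
  simp only [Nat.add_sub_cancel] at hd'
  push_cast at hd'
  rcases Nat.lt_trichotomy u n with h | h | h
  · exfalso
    -- x ∣ (u+1)(n-u)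
    have h1 : ((1 : ℤ) + u * (q + 1)) ∣ ((u : ℤ) + 1) * ((n : ℤ) - u) := by
      have e1 : ((u : ℤ) + 1) * ((n : ℤ) - u)
          = (u : ℤ) ^ 2 * ((q : ℤ) * (1 + n * (q + 1)))
            - (1 + u * (q + 1)) * (n * u * (q + 1) - n + u - u * n) := by ring
      rw [e1]
      exact dvd_sub (dvd_mul_of_dvd_right hd' _) (dvd_mul_right _ _)
    obtain ⟨d, hd2⟩ : ∃ d, n = u + d + 1 := ⟨n - u - 1, by omega⟩
    subst hd2
    have h2 : ((1 : ℤ) + u * (q + 1)) ≤ ((u : ℤ) + 1) * (((u + d + 1 : ℕ) : ℤ) - u) := by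
      apply Int.le_of_dvd _ h1
      push_cast
      have e2 : ((u : ℤ) + 1) * ((u : ℤ) + d + 1 - u) = ((u : ℤ) + 1) * (d + 1) := by ring
      rw [e2]
      positivity
    push_cast at h2
    have h3 : (2 : ℤ) * ((u : ℤ) + d + 1) < (q : ℤ) + 1 + 3 := by exact_mod_cast hn
    have hu' : (1 : ℤ) ≤ u := by exact_mod_cast hu
    have hq0 : (0 : ℤ) ≤ q := by positivity
    have hd0 : (0 : ℤ) ≤ d := by positivity
    nlinarith
  · exact h
  · exfalso
    have h1 : ((1 : ℤ) + u * (q + 1)) ∣ (q : ℤ) * ((u : ℤ) - n) := by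
      have e1 : (q : ℤ) * ((u : ℤ) - n)
          = (u : ℤ) * ((q : ℤ) * (1 + n * (q + 1))) - (1 + u * (q + 1)) * (q * n) := by ring
      rw [e1]
      exact dvd_sub (dvd_mul_of_dvd_right hd' _) (dvd_mul_right _ _)
    have hq1 : 1 ≤ q := by omega
    obtain ⟨d, hd2⟩ : ∃ d, u = n + d + 1 := ⟨u - n - 1, by omega⟩
    subst hd2
    have h2 : ((1 : ℤ) + ((n + d + 1 : ℕ) : ℤ) * (q + 1)) ≤ (q : ℤ) * ((((n + d + 1 : ℕ) : ℤ)) - n) := by
      apply Int.le_of_dvd _ h1
      push_cast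
      have hq1' : (1 : ℤ) ≤ q := by exact_mod_cast hq1
      have hd0 : (0 : ℤ) ≤ d := by positivity
      nlinarith
    push_cast at h2
    have hq0 : (0 : ℤ) ≤ q := by positivity
    have hd0 : (0 : ℤ) ≤ d := by positivity
    have hn0 : (1 : ℤ) ≤ n := by exact_mod_cast hn1
    nlinarith

section

variable {G : Type*} [Group G] [Fintype G] [DecidableEq G] {p e t n : ℕ} [hp : Fact p.Prime] {z : G}
  {X Y : Finset (IrrCharacter G)} {εX : IrrCharacter G → ℤ} {ε : ℤ}

theorem CPre.e_dvd (D : CPre G p e t n z X Y εX ε) : e ∣ p - 1 := ⟨t, D.het.symm⟩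

/-- a degree prime to `p` divides `(p-1)(1+np)` -/
theorem CPre.deg_dvd_of_coprime (D : CPre G p e t n z X Y εX ε) (χ : IrrCharacter G)
    (hχ : ¬ p ∣ deg χ) : deg χ ∣ e * (1 + n * p) := by
  have h1 : deg χ ∣ p * (e * (1 + n * p)) := by
    have := deg_dvd χ
    rw [D.card_G, mul_assoc] at this
    exact this
  have hc : Nat.Coprime (deg χ) p := by
    rw [Nat.coprime_comm]
    exact (Nat.Prime.coprime_iff_not_dvd hp.out).mpr hχ
  exact hc.dvd_of_dvd_mul_left h1

/-- the non-exceptional characters of sign `+`, other than the trivial one, have degree `1+np` -/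
theorem CData.deg_plus (D : CData G p e t n z X Y εX ε) {χ : IrrCharacter G} (hχ : χ ∈ X)
    (hs : εX χ = 1) (h1 : χ ≠ oneIrr G) : deg χ = 1 + n * p := by
  have hp1 := hp.out.one_lt
  have hmod := D.degX χ hχ
  rw [hs] at hmod
  have hdvd : (p : ℤ) ∣ (deg χ : ℤ) - 1 := by
    have := Int.ModEq.dvd hmod.symm
    simpa using this
  have hpos := deg_pos χ
  obtain ⟨u, hu⟩ : ∃ u : ℕ, deg χ = 1 + u * p := by
    have h2 : p ∣ deg χ - 1 := by
      have : ((p : ℕ) : ℤ) ∣ ((deg χ - 1 : ℕ) : ℤ) := by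
        rw [Nat.cast_sub hpos]; exact_mod_cast hdvd
      exact_mod_cast this
    obtain ⟨u, hu⟩ := h2
    exact ⟨u, by rw [mul_comm]; omega⟩
  have hu1 : 1 ≤ u := by
    rcases Nat.eq_zero_or_pos u with h0 | h0
    · exfalso
      apply h1
      apply eq_oneIrr_of_deg_one D.hperf
      rw [hu, h0]; simp
    · exact h0
  have hnd : ¬ p ∣ deg χ := by
    rw [hu]
    intro hd
    have : p ∣ 1 := (Nat.dvd_add_left (dvd_mul_left p u)).mp hd
    exact hp1.ne' (Nat.dvd_one.mp this)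
  have h3 := D.toCPre.deg_dvd_of_coprime χ hnd
  have h4 : deg χ ∣ (p - 1) * (1 + n * p) := h3.trans (Nat.mul_dvd_mul_right D.toCPre.e_dvd _)
  rw [hu] at h4
  have := D.harith u hu1 h4
  rw [hu, this]

/-- if `ε = -1`, the exceptional characters together have degree `1+np` -/
theorem CData.deg_theta (D : CData G p e t n z X Y εX ε) (hε : ε = -1) {y : ℕ}
    (hy : ∀ θ ∈ Y, deg θ = y) : t * y = 1 + n * p := by
  have hp1 := hp.out.one_lt
  have hY : Y.Nonempty := by rw [← Finset.card_pos, D.cardY]; exact D.toCPre.t_pos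
  obtain ⟨θ₀, hθ₀⟩ := hY
  have hmod := D.degY θ₀ hθ₀
  rw [hy θ₀ hθ₀, hε] at hmod
  -- t*y ≡ 1 mod p
  have hdvd : (p : ℤ) ∣ (t : ℤ) * (y : ℤ) - 1 := by
    have h1 : (p : ℤ) ∣ (y : ℤ) + (e : ℤ) := by
      have := Int.ModEq.dvd hmod
      have e1 : (-1 * (e : ℤ) - (y : ℤ)) = -((y : ℤ) + e) := by ring
      rw [e1] at this
      exact (dvd_neg).mp this
    have h2 : (t : ℤ) * (y : ℤ) - 1 = (t : ℤ) * ((y : ℤ) + e) - (p : ℤ) := by
      have h3 : ((e * t : ℕ) : ℤ) = ((p - 1 : ℕ) : ℤ) := by rw [D.het]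
      rw [Nat.cast_sub hp1.le] at h3
      push_cast at h3
      linear_combination -h3
    rw [h2]
    exact dvd_sub (dvd_mul_of_dvd_right h1 _) (dvd_refl _)
  have hypos : 0 < y := by rw [← hy θ₀ hθ₀]; exact deg_pos θ₀
  have htpos := D.toCPre.t_pos
  have htypos : 0 < t * y := Nat.mul_pos htpos hypos
  obtain ⟨U, hU⟩ : ∃ U : ℕ, t * y = 1 + U * p := by
    have h2 : p ∣ t * y - 1 := by
      have : ((p : ℕ) : ℤ) ∣ ((t * y - 1 : ℕ) : ℤ) := by
        rw [Nat.cast_sub htypos]; exact_mod_cast hdvd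
      exact_mod_cast this
    obtain ⟨U, hU⟩ := h2
    exact ⟨U, by rw [mul_comm U p]; omega⟩
  have hU1 : 1 ≤ U := by
    rcases Nat.eq_zero_or_pos U with h0 | h0
    · exfalso
      rw [h0, zero_mul, add_zero] at hU
      have hy1 : y = 1 := Nat.eq_one_of_mul_eq_one_left hU
      have := eq_oneIrr_of_deg_one D.hperf θ₀ (by rw [hy θ₀ hθ₀, hy1])
      exact D.disj _ D.one_mem (this ▸ hθ₀)
    · exact h0
  have hnd : ¬ p ∣ deg θ₀ := by
    intro hd
    rw [hy θ₀ hθ₀] at hd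
    have h5 : p ∣ t * y := dvd_mul_of_dvd_right hd t
    rw [hU] at h5
    have : p ∣ 1 := (Nat.dvd_add_left (dvd_mul_left p U)).mp h5
    exact hp1.ne' (Nat.dvd_one.mp this)
  have h3 := D.toCPre.deg_dvd_of_coprime θ₀ hnd
  rw [hy θ₀ hθ₀] at h3
  have h4 : t * y ∣ (p - 1) * (1 + n * p) := by
    rw [← D.het, mul_comm e t, mul_assoc]
    exact Nat.mul_dvd_mul_left t h3
  rw [hU] at h4
  have := D.harith U hU1 h4
  rw [hU, this]

end

section

variable {G : Type*} [Group G] [Fintype G] {p : ℕ} [hp : Fact p.Prime] {z : G}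

/-- the data under Brauer's bound on the number of Sylow subgroups -/
theorem exists_cpre (h : Hyp G p z) (hperf : commutator G = ⊤) (hp2 : p ≠ 2)
    (hn : 2 * Nat.card (Sylow p G) < (p + 1) * (p + 2)) :
    ∃ (e t n : ℕ) (X Y : Finset (IrrCharacter G)) (εX : IrrCharacter G → ℤ) (ε : ℤ),
      CPre G p e t n z X Y εX ε := by
  apply exists_cpre' h hperf hp2
  intro n hsyl u hu hdvd
  have hn1 : 1 ≤ n := by
    rcases Nat.eq_zero_or_pos n with h0 | h0
    · exfalso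
      apply h.sylow_ne_one hperf
      rw [hsyl, h0]; simp
    · exact h0
  have hn2 : 2 * n < p + 3 := by
    rw [hsyl] at hn
    have hpp := hp.out.pos
    by_contra hc
    push Not at hc
    have : (p + 3) * p ≤ 2 * n * p := Nat.mul_le_mul_right p hc
    nlinarith
  exact key_arith hp.out.two_le hu hn1 hn2 hdvd

end

end Cfsg.Agent.Lib.Helper9.Art
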