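import Mathlib
import Cfsg.Agent.Lib.Helper9.ArtF
import Cfsg.Agent.Lib.Helper6.IndFunMore
import Cfsg.Agent.Lib.Helper6.IndFunTI
import Cfsg.Agent.Lib.Helper6.Mult
import Cfsg.Agent.Lib.Helper6.CharOps

set_option autoImplicit false
set_option linter.unusedSectionVars false
set_option linter.unusedVariables false
set_option linter.style.longLine false
set_option linter.unusedSimpArgs false

set_option maxHeartbeats 1600000
namespace Cfsg.Agent.Lib.Helper9.Art
open Subgroup Cfsg Cfsg.Agent.Lib.Helper6 Cfsg.Agent.Lib.Helper7.Bt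
open scoped ComplexConjugate

section lam

variable {G : Type*} [Group G] {z : G} {e : ℕ} [NeZero e]

/-- the linear character of `N` attached to `j : ZMod e` -/
noncomputable def lam (κ : NN z →* Multiplicative (ZMod e)) (j : ZMod e) : NN z → ℂ :=
  fun h => ZMod.stdAddChar (j * Multiplicative.toAdd (κ h))

variable (κ : NN z →* Multiplicative (ZMod e))

theorem lam_mul (j : ZMod e) (h h' : NN z) : lam κ j (h * h') = lam κ j h * lam κ j h' := by
  unfold lam
  rw [show κ (h * h') = κ h * κ h' from map_mul κ h h', toAdd_mul, mul_add,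
    AddChar.map_add_eq_mul]

theorem lam_one (j : ZMod e) : lam κ j 1 = 1 := by
  unfold lam
  rw [show κ 1 = 1 from map_one κ, toAdd_one, mul_zero, AddChar.map_zero_eq_one]

theorem lam_of_mem_ker (j : ZMod e) {h : NN z} (hh : h ∈ κ.ker) : lam κ j h = 1 := by
  unfold lam
  rw [MonoidHom.mem_ker.mp hh, toAdd_one, mul_zero, AddChar.map_zero_eq_one]

theorem lam_zero (h : NN z) : lam κ 0 h = 1 := by
  unfold lam
  rw [zero_mul, AddChar.map_zero_eq_one]

theorem lam_conj (j : ZMod e) (h : NN z) : conj (lam κ j h) = lam κ (-j) h := by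
  unfold lam
  rw [← AddChar.map_neg_eq_conj, neg_mul]

theorem lam_mul_conj (j : ZMod e) (h : NN z) : lam κ j h * conj (lam κ j h) = 1 := by
  rw [lam_conj]
  unfold lam
  rw [← AddChar.map_add_eq_mul, neg_mul, add_neg_cancel, AddChar.map_zero_eq_one]

theorem lam_ne_zero (j : ZMod e) (h : NN z) : lam κ j h ≠ 0 := by
  intro h0
  have := lam_mul_conj κ j h
  rw [h0, zero_mul] at this
  exact zero_ne_one this

/-- `lam κ j` as a homomorphism to the units -/
noncomputable def lamHom (j : ZMod e) : NN z →* ℂˣ :=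
  MonoidHom.toHomUnits
    { toFun := lam κ j
      map_one' := lam_one κ j
      map_mul' := lam_mul κ j }

theorem lamHom_apply (j : ZMod e) (h : NN z) : ((lamHom κ j h : ℂˣ) : ℂ) = lam κ j h := rfl

theorem lam_isIrr (j : ZMod e) : IsIrrCharacter (NN z) (lam κ j) := by
  have := isIrrCharacter_of_hom (lamHom κ j)
  exact this

theorem lam_isCharacter (j : ZMod e) : IsCharacter (NN z) (lam κ j) :=
  IsIrrCharacter.isCharacter (lam_isIrr κ j)

/-- orthogonality over `j` -/
theorem sum_lam_mul_conj (h k : NN z) :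
    ∑ j : ZMod e, lam κ j h * conj (lam κ j k) = if κ h = κ k then (e : ℂ) else 0 := by
  classical
  have h1 : ∀ j : ZMod e, lam κ j h * conj (lam κ j k)
      = ZMod.stdAddChar (j * (Multiplicative.toAdd (κ h) - Multiplicative.toAdd (κ k))) := by
    intro j
    rw [lam_conj]
    unfold lam
    rw [← AddChar.map_add_eq_mul]
    congr 1
    ring
  rw [Finset.sum_congr rfl (fun j _ => h1 j),
    AddChar.sum_mulShift _ (ZMod.isPrimitive_stdAddChar e), ZMod.card]
  have h2 : (Multiplicative.toAdd (κ h) - Multiplicative.toAdd (κ k) = 0) ↔ κ h = κ k := by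
    rw [sub_eq_zero]
    exact Multiplicative.toAdd.injective.eq_iff
  simp only [h2]
  split_ifs <;> simp

end lam

section ind

variable {G : Type*} [Group G] [Fintype G] [DecidableEq G] {p : ℕ} [hp : Fact p.Prime] {z : G}
  {e : ℕ} [NeZero e]

/-- the induced character `Ind_N^G λ_j` -/
noncomputable def piChar (κ : NN z →* Multiplicative (ZMod e)) (j : ZMod e) : G → ℂ :=
  indFun (NN z) (lam κ j)

variable (κ : NN z →* Multiplicative (ZMod e))

theorem piChar_isCharacter (j : ZMod e) : IsCharacter G (piChar κ j) :=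
  IsCharacter.indFun (NN z) (lam_isCharacter κ j)

theorem piChar_isClassFunction (j : ZMod e) : IsClassFunction G (piChar κ j) :=
  indFun_isClassFunction (NN z) (lam κ j)

theorem piChar_one (j : ZMod e) : piChar κ j 1 = ((NN z).index : ℂ) := by
  unfold piChar
  rw [indFun_one, lam_one, mul_one]

/-- Frobenius reciprocity for `piChar` -/
theorem classInner_piChar [Fintype (NN z)] (j : ZMod e) (χ : G → ℂ) (hχ : IsClassFunction G χ) :
    classInner (piChar κ j) χ
      = (Nat.card (NN z) : ℂ)⁻¹ * ∑ h : NN z, lam κ j h * conj (χ h) := by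
  unfold piChar
  rw [IndFunMore.classInner_indFun (NN z) (lam κ j) χ hχ]

theorem Hyp.mem_N_of_conj_mem (h : Hyp G p z) {a x : G} (hx : x ∈ zpowers z) (hx1 : x ≠ 1)
    (hax : a * x * a⁻¹ ∈ zpowers z) : a ∈ NN z := by
  apply mem_normalizer_fintype
  intro w hw
  have hzx : zpowers x = zpowers z := h.zpowers_eq hx hx1
  have hw' : w ∈ zpowers x := by rw [hzx]; exact hw
  obtain ⟨k, rfl⟩ := hw'
  rw [← conj_zpow]
  exact zpow_mem hax k

/-- the value of `piChar` on the non-identity elements of `P` -/
theorem Hyp.piChar_apply_P (h : Hyp G p z) (hκ : κ.ker = KK z) (j : ZMod e) {x : G}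
    (hx : x ∈ zpowers z) (hx1 : x ≠ 1) : piChar κ j x = 1 := by
  unfold piChar indFun
  have h1 : ∀ g : G, extendByZero (NN z) (lam κ j) (g⁻¹ * x * g)
      = extendByZero (NN z) (fun _ => (1 : ℂ)) g := by
    intro g
    by_cases hg : g ∈ NN z
    · have hgx : g⁻¹ * x * g ∈ zpowers z := by
        have := (mem_normalizer_iff.mp (inv_mem hg) x).mp hx
        simpa using this
      have hgN : g⁻¹ * x * g ∈ NN z := P_le_N z hgx
      rw [extendByZero_of_mem _ _ hgN, extendByZero_of_mem _ _ hg]
      apply lam_of_mem_ker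
      rw [hκ]
      exact hgx
    · rw [extendByZero_of_not_mem _ _ hg]
      apply extendByZero_of_not_mem
      intro hgN
      apply hg
      have hord : orderOf (g⁻¹ * x * g) = p := by
        have e1 : g⁻¹ * x * g = MulAut.conj g⁻¹ x := by simp [MulAut.conj_apply]
        rw [e1, MulEquiv.orderOf_eq, h.orderOf_of_mem hx hx1]
      have hgx := h.mem_of_pow_p hgN hord
      have hinv : g⁻¹ ∈ NN z := by
        apply h.mem_N_of_conj_mem hx hx1
        rw [inv_inv]; exact hgx
      have := inv_mem hinv
      simpa using this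
  rw [Finset.sum_congr rfl (fun g _ => h1 g), IndFunMore.sum_extendByZero_const]
  have := card_ne_zero_complex (NN z)
  field_simp

end ind

end Cfsg.Agent.Lib.Helper9.Art
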