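import Mathlib
import Cfsg.Agent.Lib.Helper9.ArtG

set_option autoImplicit false
set_option linter.unusedSectionVars false
set_option linter.unusedVariables false
set_option linter.style.longLine false
set_option linter.unusedSimpArgs false

set_option maxHeartbeats 1600000
namespace Cfsg.Agent.Lib.Helper9.Art
open Subgroup Cfsg Cfsg.Agent.Lib.Helper6 Cfsg.Agent.Lib.Helper7.Bt
open scoped ComplexConjugate

section

variable {G : Type*} [Group G] [Fintype G] [DecidableEq G] {p : ℕ} [hp : Fact p.Prime] {z : G}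
  {e : ℕ} [NeZero e] [Fintype (NN z)]

variable (κ : NN z →* Multiplicative (ZMod e))

theorem Hyp.card_fiber (h : Hyp G p z) (hκ : κ.ker = KK z) (k₀ : NN z) :
    (Finset.univ.filter (fun k : NN z => κ k = κ k₀)).card = p := by
  classical
  have h1 : Finset.univ.filter (fun k : NN z => κ k = κ k₀)
      = (Finset.univ.filter (fun k : NN z => k ∈ KK z)).map (Equiv.mulRight k₀).toEmbedding := by
    ext k
    simp only [Finset.mem_filter, Finset.mem_univ, true_and, Finset.mem_map,
      Equiv.coe_toEmbedding, Equiv.coe_mulRight]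
    constructor
    · intro hk
      refine ⟨k * k₀⁻¹, ?_, by group⟩
      rw [← hκ, MonoidHom.mem_ker, map_mul, map_inv, hk, mul_inv_cancel]
    · rintro ⟨a, ha, rfl⟩
      rw [← hκ, MonoidHom.mem_ker] at ha
      rw [map_mul, ha, one_mul]
  rw [h1, Finset.card_map, ← Fintype.card_subtype, ← Nat.card_eq_fintype_card]
  exact h.card_KK

/-- sum over the fibre `κ = 1`, i.e. over `P` -/
theorem Hyp.sum_fiber_one (h : Hyp G p z) (hκ : κ.ker = KK z) (ψ : G → ℂ) :
    ∑ k : NN z, (if κ k = 1 then ψ k else 0) = ψ 1 + sumP z ψ := by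
  classical
  have h1 : ∑ k : NN z, (if κ k = 1 then ψ k else 0)
      = ∑ g : G, extendByZero (NN z) (fun k : NN z => if κ k = 1 then ψ k else 0) g :=
    (sum_extendByZero (NN z) _).symm
  have h2 : ∀ g : G, extendByZero (NN z) (fun k : NN z => if κ k = 1 then ψ k else 0) g
      = (if g = 1 then ψ 1 else 0) + (if g ∈ zpowers z ∧ g ≠ 1 then ψ g else 0) := by
    intro g
    by_cases hg : g ∈ NN z
    · rw [extendByZero_of_mem _ _ hg]
      have hk : (κ ⟨g, hg⟩ = 1) ↔ g ∈ zpowers z := by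
        rw [← MonoidHom.mem_ker, hκ]
        rfl
      by_cases hgP : g ∈ zpowers z
      · rw [if_pos (hk.mpr hgP)]
        by_cases hg1 : g = 1
        · subst hg1; simp
        · simp [hg1, hgP]
      · rw [if_neg (fun hc => hgP (hk.mp hc))]
        have hg1 : g ≠ 1 := fun hc => hgP (hc ▸ one_mem _)
        simp [hg1, hgP]
    · rw [extendByZero_of_not_mem _ _ hg]
      have hgP : g ∉ zpowers z := fun hc => hg (P_le_N z hc)
      have hg1 : g ≠ 1 := fun hc => hgP (hc ▸ one_mem _)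
      simp [hg1, hgP]
  rw [h1, Finset.sum_congr rfl (fun g _ => h2 g), Finset.sum_add_distrib,
    Finset.sum_ite_eq' Finset.univ (1 : G), if_pos (Finset.mem_univ _)]
  rfl

/-- sum of a class function over a fibre of `κ` outside `P` -/
theorem Hyp.sum_fiber (h : Hyp G p z) (hκ : κ.ker = KK z) (ψ : G → ℂ)
    (hψ : IsClassFunction G ψ) {k₀ : NN z} (hk₀ : k₀ ∉ KK z) :
    ∑ k : NN z, (if κ k = κ k₀ then ψ k else 0) = (p : ℂ) * ψ k₀ := by
  classical
  have h1 : ∀ k : NN z, (if κ k = κ k₀ then ψ k else 0) = (if κ k = κ k₀ then ψ k₀ else 0) := by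
    intro k
    split_ifs with hk
    · have hmem : (k : G) * (k₀ : G)⁻¹ ∈ zpowers z := by
        have : k * k₀⁻¹ ∈ KK z := by
          rw [← hκ, MonoidHom.mem_ker, map_mul, map_inv, hk, mul_inv_cancel]
        exact this
      obtain ⟨y, hy, hyk⟩ := h.exists_conj_of_coset k₀.2 hk₀ hmem
      rw [← hyk]
      exact hψ _ _
    · rfl
  rw [Finset.sum_congr rfl (fun k _ => h1 k), ← Finset.sum_filter, Finset.sum_const,
    h.card_fiber κ hκ k₀, nsmul_eq_mul]

/-- LEMMA L: values on `N \\ P` through the inner products with the `piChar` -/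
theorem Hyp.lemma_L (h : Hyp G p z) (hκ : κ.ker = KK z) (he : Nat.card (NN z ⧸ KK z) = e)
    (ψ : G → ℂ) (hψ : IsClassFunction G ψ) {k₀ : NN z} (hk₀ : k₀ ∉ KK z) :
    ψ k₀ = ∑ j : ZMod e, conj (classInner (piChar κ j) ψ) * lam κ j k₀ := by
  have hN : (Nat.card (NN z) : ℂ) = (p : ℂ) * (e : ℂ) := by
    rw [h.card_N, he]; push_cast; ring
  have hp0 : (p : ℂ) ≠ 0 := by exact_mod_cast hp.out.pos.ne'
  have he0 : (e : ℂ) ≠ 0 := by exact_mod_cast (NeZero.ne e)
  have h1 : ∀ j : ZMod e, conj (classInner (piChar κ j) ψ) * lam κ j k₀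
      = ((p : ℂ) * (e : ℂ))⁻¹ * ∑ k : NN z, ψ k * (lam κ j k₀ * conj (lam κ j k)) := by
    intro j
    rw [classInner_piChar κ j ψ hψ, hN, map_mul, map_inv₀, map_mul, map_sum, mul_assoc,
      Finset.sum_mul]
    simp only [Complex.conj_natCast]
    congr 1
    apply Finset.sum_congr rfl
    intro k _
    rw [map_mul, Complex.conj_conj]
    ring
  rw [Finset.sum_congr rfl (fun j _ => h1 j), ← Finset.mul_sum, Finset.sum_comm]
  have h2 : ∀ k : NN z, ∑ j : ZMod e, ψ k * (lam κ j k₀ * conj (lam κ j k))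
      = (e : ℂ) * (if κ k = κ k₀ then ψ k else 0) := by
    intro k
    rw [← Finset.mul_sum, sum_lam_mul_conj κ k₀ k]
    by_cases hk : κ k = κ k₀
    · rw [if_pos hk, if_pos hk.symm]; ring
    · rw [if_neg hk, if_neg (fun hc => hk hc.symm)]; ring
  rw [Finset.sum_congr rfl (fun k _ => h2 k), ← Finset.mul_sum, h.sum_fiber κ hκ ψ hψ hk₀]
  field_simp

/-- the number of linear constituents of the restriction to `N` -/
theorem Hyp.sum_classInner_piChar (h : Hyp G p z) (hκ : κ.ker = KK z)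
    (he : Nat.card (NN z ⧸ KK z) = e) (ψ : G → ℂ) (hψ : IsClassFunction G ψ) :
    ∑ j : ZMod e, classInner (piChar κ j) ψ = (p : ℂ)⁻¹ * conj (ψ 1 + sumP z ψ) := by
  have hN : (Nat.card (NN z) : ℂ) = (p : ℂ) * (e : ℂ) := by
    rw [h.card_N, he]; push_cast; ring
  have hp0 : (p : ℂ) ≠ 0 := by exact_mod_cast hp.out.pos.ne'
  have he0 : (e : ℂ) ≠ 0 := by exact_mod_cast (NeZero.ne e)
  have h1 : ∀ j : ZMod e, classInner (piChar κ j) ψ
      = ((p : ℂ) * (e : ℂ))⁻¹ * ∑ k : NN z, conj (ψ k) * (lam κ j k * conj (lam κ j 1)) := by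
    intro j
    rw [classInner_piChar κ j ψ hψ, hN]
    congr 1
    apply Finset.sum_congr rfl
    intro k _
    rw [lam_one, map_one, mul_one, mul_comm]
  rw [Finset.sum_congr rfl (fun j _ => h1 j), ← Finset.mul_sum, Finset.sum_comm]
  have h2 : ∀ k : NN z, ∑ j : ZMod e, conj (ψ k) * (lam κ j k * conj (lam κ j 1))
      = (e : ℂ) * (if κ k = 1 then conj (ψ k) else 0) := by
    intro k
    rw [← Finset.mul_sum, sum_lam_mul_conj κ k 1, map_one]
    split_ifs <;> ring
  rw [Finset.sum_congr rfl (fun k _ => h2 k), ← Finset.mul_sum]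
  have h3 := h.sum_fiber_one κ hκ (fun g => conj (ψ g))
  rw [h3]
  have h4 : sumP z (fun g => conj (ψ g)) = conj (sumP z ψ) := by
    unfold sumP
    rw [map_sum]
    apply Finset.sum_congr rfl
    intro x _
    split_ifs <;> simp
  rw [h4, map_add]
  field_simp

end

end Cfsg.Agent.Lib.Helper9.Art
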