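import Mathlib
import Cfsg.Agent.Lib.Helper9.ArtH

set_option autoImplicit false
set_option linter.unusedSectionVars false
set_option linter.unusedVariables false
set_option linter.style.longLine false
set_option linter.unusedSimpArgs false

set_option maxHeartbeats 1600000
namespace Cfsg.Agent.Lib.Helper9.Art
open Subgroup Cfsg Cfsg.Agent.Lib.Helper6 Cfsg.Agent.Lib.Helper7.Bt
open scoped ComplexConjugate

section

variable {G : Type*} [Group G] [Fintype G] [DecidableEq G] {p e t n : ℕ} [hp : Fact p.Prime] {z : G}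
  {X Y : Finset (IrrCharacter G)} {εX : IrrCharacter G → ℤ} {ε : ℤ}
  [NeZero e] [Fintype (NN z)]

variable (κ : NN z →* Multiplicative (ZMod e))

theorem lam_ne_of_ne (hκs : Function.Surjective κ) {j : ZMod e} (hj : j ≠ 0) :
    lam κ j ≠ lam κ 0 := by
  intro hc
  obtain ⟨k, hk⟩ := hκs (Multiplicative.ofAdd 1)
  have h1 := congrFun hc k
  rw [lam_zero] at h1
  unfold lam at h1
  rw [hk, toAdd_ofAdd, mul_one, ← AddChar.map_zero_eq_one (ZMod.stdAddChar (N := e))] at h1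
  exact hj (ZMod.injective_stdAddChar h1)

theorem sum_lam_eq (hκs : Function.Surjective κ) (j : ZMod e) :
    ∑ k : NN z, lam κ j k = if j = 0 then (Nat.card (NN z) : ℂ) else 0 := by
  split_ifs with hj
  · subst hj
    simp only [lam_zero]
    rw [Finset.sum_const, Finset.card_univ, Nat.card_eq_fintype_card]
    simp
  · have h1 := classInner_isIrrCharacter (lam_isIrr κ j) (lam_isIrr κ 0)
    rw [if_neg (lam_ne_of_ne κ hκs hj)] at h1
    unfold classInner at h1
    have h2 : ∑ k : NN z, lam κ j k * conj (lam κ 0 k) = ∑ k : NN z, lam κ j k := by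
      apply Finset.sum_congr rfl
      intro k _
      rw [lam_zero, map_one, mul_one]
    rw [h2] at h1
    rcases mul_eq_zero.mp h1 with h3 | h3
    · exact absurd (inv_eq_zero.mp h3) (card_ne_zero_complex (NN z))
    · exact h3

/-- the multiplicity of the trivial character in `piChar κ j` -/
theorem classInner_piChar_one (hκs : Function.Surjective κ) (j : ZMod e) :
    classInner (piChar κ j) (oneIrr G : G → ℂ) = if j = 0 then 1 else 0 := by
  rw [classInner_piChar κ j _ (IsIrrCharacter.isClassFunction (oneIrr G).2)]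
  have h1 : ∑ k : NN z, lam κ j k * conj ((oneIrr G : G → ℂ) k) = ∑ k : NN z, lam κ j k := by
    apply Finset.sum_congr rfl
    intro k _
    rw [oneIrr_apply, map_one, mul_one]
  rw [h1, sum_lam_eq κ hκs j]
  have := card_ne_zero_complex (NN z)
  split_ifs
  · field_simp
  · simp

/-- the multiplicity of an exceptional character in `piChar κ j` does not depend on it -/
theorem CData.classInner_piChar_Y (D : CData G p e t n z X Y εX ε) (hκk : κ.ker = KK z)
    (j : ZMod e) {θ θ' : IrrCharacter G} (hθ : θ ∈ Y) (hθ' : θ' ∈ Y) :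
    classInner (piChar κ j) (θ : G → ℂ) = classInner (piChar κ j) (θ' : G → ℂ) := by
  rw [classInner_piChar κ j _ (IsIrrCharacter.isClassFunction θ.2),
    classInner_piChar κ j _ (IsIrrCharacter.isClassFunction θ'.2)]
  congr 1
  have hsplit : ∀ F : NN z → ℂ, ∑ k : NN z, F k
      = ∑ k : NN z, (if κ k = 1 then F k else 0) + ∑ k : NN z, (if κ k = 1 then 0 else F k) := by
    intro F
    rw [← Finset.sum_add_distrib]
    apply Finset.sum_congr rfl
    intro k _
    split_ifs <;> simp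
  rw [hsplit (fun k => lam κ j k * conj ((θ : G → ℂ) k)),
    hsplit (fun k => lam κ j k * conj ((θ' : G → ℂ) k))]
  have hA : ∀ ϑ : IrrCharacter G, ∑ k : NN z, (if κ k = 1 then lam κ j k * conj ((ϑ : G → ℂ) k) else 0)
      = conj ((ϑ : G → ℂ) 1) + conj (sumP z (ϑ : G → ℂ)) := by
    intro ϑ
    have h1 : ∀ k : NN z, (if κ k = 1 then lam κ j k * conj ((ϑ : G → ℂ) k) else 0)
        = (if κ k = 1 then (fun g => conj ((ϑ : G → ℂ) g)) k else 0) := by
      intro k
      split_ifs with hk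
      · rw [lam_of_mem_ker κ j (MonoidHom.mem_ker.mpr hk), one_mul]
      · rfl
    rw [Finset.sum_congr rfl (fun k _ => h1 k),
      D.hyp.sum_fiber_one κ hκk (fun g => conj ((ϑ : G → ℂ) g))]
    congr 1
    unfold sumP
    rw [map_sum]
    apply Finset.sum_congr rfl
    intro x _
    split_ifs <;> simp
  rw [hA θ, hA θ', D.sumP_theta hθ, D.sumP_theta hθ']
  have hdeg : (θ : G → ℂ) 1 = (θ' : G → ℂ) 1 :=
    D.agree θ hθ θ' hθ' 1 (by rw [orderOf_one]; exact hp.out.not_dvd_one)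
  rw [hdeg]
  congr 1
  apply Finset.sum_congr rfl
  intro k _
  split_ifs with hk
  · rfl
  · have hkK : k ∉ KK z := by
      rw [← hκk, MonoidHom.mem_ker]; exact hk
    have hreg : ¬ p ∣ orderOf (k : G) := D.hyp.not_dvd_orderOf k.2 hkK
    rw [D.agree θ hθ θ' hθ' k hreg]

end

theorem sum_le_split {ι : Type*} [Fintype ι] [DecidableEq ι] (f : ι → ℕ) (S : ℕ)
    (hS : ∑ i, f i = S) (T : Finset ι) (h : S ≤ ∑ i ∈ T, f i) :
    ∑ i ∈ T, f i = S ∧ ∀ i, i ∉ T → f i = 0 := by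
  have h1 : ∑ i ∈ T, f i + ∑ i ∈ Tᶜ, f i = S := by
    rw [Finset.sum_add_sum_compl, hS]
  have h2 : ∑ i ∈ Tᶜ, f i = 0 := by omega
  refine ⟨by omega, ?_⟩
  intro i hi
  exact (Finset.sum_eq_zero_iff.mp h2) i (Finset.mem_compl.mpr hi)

section

variable {G : Type*} [Group G] [Fintype G] [DecidableEq G] {p e t n : ℕ} [hp : Fact p.Prime] {z : G}
  {X Y : Finset (IrrCharacter G)} {εX : IrrCharacter G → ℤ} {ε : ℤ}

theorem CData.sign_one (D : CData G p e t n z X Y εX ε) : εX (oneIrr G) = 1 := by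
  rcases D.signX _ D.one_mem with h1 | h1
  · exact h1
  · exfalso
    have h2 := D.degX _ D.one_mem
    rw [deg_oneIrr, h1] at h2
    have h3 : (p : ℤ) ∣ -1 - ((1 : ℕ) : ℤ) := Int.ModEq.dvd h2
    have h4 : (p : ℤ) ∣ 2 := by
      have : (-1 - ((1 : ℕ) : ℤ)) = -2 := by norm_num
      rw [this] at h3; exact (dvd_neg).1 h3
    have h5 : p ∣ 2 := by exact_mod_cast h4
    exact D.hp2 ((Nat.prime_dvd_prime_iff_eq hp.out Nat.prime_two).1 h5)

/-- value of a character on `P#` through its multiplicities -/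
theorem CData.eval_P [Fintype (IrrCharacter G)] (D : CData G p e t n z X Y εX ε) {ψ : G → ℂ}
    {m : IrrCharacter G → ℕ} (hm : ψ = ∑ θ, m θ • (θ : G → ℂ)) (c : ℕ)
    (hc : ∀ θ ∈ Y, m θ = c) {x : G} (hx : x ∈ zpowers z) (hx1 : x ≠ 1) :
    ψ x = (((∑ χ ∈ X, (m χ : ℤ) * εX χ) - ε * (c : ℤ) : ℤ) : ℂ) := by
  rw [apply_eq_sum_mult hm x, D.toCPre.sum_split]
  have hZ : ∑ χ ∈ Finset.univ.filter (fun χ => χ ∉ X ∧ χ ∉ Y), (m χ : ℂ) * (χ : G → ℂ) x = 0 := by
    apply Finset.sum_eq_zero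
    intro χ hχ
    rw [Finset.mem_filter] at hχ
    rw [D.vanish χ hχ.2.1 hχ.2.2 x (D.toCPre.orderOf_P hx hx1), mul_zero]
  have hX : ∑ χ ∈ X, (m χ : ℂ) * (χ : G → ℂ) x = ((∑ χ ∈ X, (m χ : ℤ) * εX χ : ℤ) : ℂ) := by
    push_cast
    apply Finset.sum_congr rfl
    intro χ hχ
    rw [D.valX χ hχ x hx hx1]
  have hY : ∑ θ ∈ Y, (m θ : ℂ) * (θ : G → ℂ) x = -((ε : ℂ) * (c : ℂ)) := by
    have h1 : ∀ θ ∈ Y, (m θ : ℂ) * (θ : G → ℂ) x = (c : ℂ) * (θ : G → ℂ) x := by
      intro θ hθ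
      rw [hc θ hθ]
    rw [Finset.sum_congr rfl h1, ← Finset.mul_sum, D.toCPre.sum_Y_apply hx hx1]
    ring
  rw [hZ, hX, hY, add_zero]
  push_cast
  ring

/-- degree of a character through its multiplicities -/
theorem eval_one [Fintype (IrrCharacter G)] {ψ : G → ℂ}
    {m : IrrCharacter G → ℕ} (hm : ψ = ∑ θ, m θ • (θ : G → ℂ)) :
    ψ 1 = ((∑ θ, m θ * deg θ : ℕ) : ℂ) := by
  rw [apply_eq_sum_mult hm 1]
  push_cast
  apply Finset.sum_congr rfl
  intro θ _
  rw [apply_one]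

variable [NeZero e] [Fintype (NN z)] (κ : NN z →* Multiplicative (ZMod e))

/-- FACT 1 for `j ≠ 0` -/
theorem CData.fact1_ne (D : CData G p e t n z X Y εX ε) (hκs : Function.Surjective κ)
    (hκk : κ.ker = KK z) {j : ZMod e} (hj : j ≠ 0) :
    (∃ χ ∈ X, εX χ = 1 ∧ χ ≠ oneIrr G ∧ ∀ χ' : IrrCharacter G,
        classInner (piChar κ j) (χ' : G → ℂ) = if χ' = χ then 1 else 0) ∨
    (ε = -1 ∧ ∀ χ' : IrrCharacter G,
        classInner (piChar κ j) (χ' : G → ℂ) = if χ' ∈ Y then 1 else 0) := by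
  classical
  haveI : Fintype (IrrCharacter G) := Fintype.ofFinite _
  obtain ⟨m, hm, hmi⟩ := IsCharacter.exists_mult (piChar_isCharacter κ j)
  have hY : Y.Nonempty := by rw [← Finset.card_pos, D.cardY]; exact D.toCPre.t_pos
  obtain ⟨θ₀, hθ₀⟩ := hY
  obtain ⟨y, hypos, hy⟩ := D.toCPre.exists_y
  have hc : ∀ θ ∈ Y, m θ = m θ₀ := by
    intro θ hθ
    have := D.classInner_piChar_Y κ hκk j hθ hθ₀
    rw [hmi, hmi] at this
    exact_mod_cast this
  have hm1 : m (oneIrr G) = 0 := by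
    have := classInner_piChar_one κ hκs j
    rw [hmi, if_neg hj] at this
    exact_mod_cast this
  obtain ⟨x, hx, hx1⟩ : ∃ x : G, x ∈ zpowers z ∧ x ≠ 1 := ⟨z, mem_zpowers z, D.hyp.z_ne_one⟩
  have hev := D.eval_P hm (m θ₀) hc hx hx1
  rw [D.hyp.piChar_apply_P κ hκk j hx hx1] at hev
  have hevZ : (1 : ℤ) = (∑ χ ∈ X, (m χ : ℤ) * εX χ) - ε * (m θ₀ : ℤ) := by exact_mod_cast hev
  have hdeg : ∑ θ, m θ * deg θ = 1 + n * p := by
    have h1 := eval_one hm
    rw [piChar_one, ← D.hyp.card_sylow, D.hsyl] at h1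
    exact_mod_cast h1.symm
  by_cases hA : ∃ χ₁ ∈ X, εX χ₁ = 1 ∧ 1 ≤ m χ₁
  · left
    obtain ⟨χ₁, hχ₁, hs₁, hm₁⟩ := hA
    have hne : χ₁ ≠ oneIrr G := by
      rintro rfl
      omega
    have hd₁ := D.deg_plus hχ₁ hs₁ hne
    have h2 := sum_le_split (fun θ => m θ * deg θ) _ hdeg {χ₁} (by
      rw [Finset.sum_singleton, hd₁]
      exact Nat.le_mul_of_pos_left _ hm₁)
    rw [Finset.sum_singleton, hd₁] at h2
    have hm1' : m χ₁ = 1 := by
      have : m χ₁ * (1 + n * p) = 1 * (1 + n * p) := by rw [h2.1, one_mul]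
      exact Nat.eq_of_mul_eq_mul_right (by omega) this
    refine ⟨χ₁, hχ₁, hs₁, hne, ?_⟩
    intro χ'
    rw [hmi]
    by_cases h3 : χ' = χ₁
    · rw [if_pos h3, h3, hm1']; simp
    · rw [if_neg h3]
      have := h2.2 χ' (by rw [Finset.mem_singleton]; exact h3)
      have hdpos := deg_pos χ'
      have : m χ' = 0 := by
        rcases Nat.eq_zero_or_pos (m χ') with h4 | h4
        · exact h4
        · exfalso
          have := Nat.mul_pos h4 hdpos
          omega
      rw [this]; simp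
  · right
    push Not at hA
    have hA' : ∀ χ ∈ X, εX χ = 1 → m χ = 0 := by
      intro χ hχ hs
      have := hA χ hχ hs
      omega
    have hsum : ∑ χ ∈ X, (m χ : ℤ) * εX χ = -∑ χ ∈ X, (m χ : ℤ) := by
      rw [← Finset.sum_neg_distrib]
      apply Finset.sum_congr rfl
      intro χ hχ
      rcases D.signX χ hχ with h3 | h3
      · rw [hA' χ hχ h3]; simp
      · rw [h3]; ring
    rw [hsum] at hevZ
    have hnn : (0 : ℤ) ≤ ∑ χ ∈ X, (m χ : ℤ) := Finset.sum_nonneg (fun χ _ => by positivity)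
    have hε : ε = -1 := by
      rcases D.sign with h3 | h3
      · exfalso
        rw [h3] at hevZ
        have : (0 : ℤ) ≤ (m θ₀ : ℤ) := by positivity
        omega
      · exact h3
    rw [hε] at hevZ
    have hc1 : 1 ≤ m θ₀ := by
      have : (1 : ℤ) ≤ (m θ₀ : ℤ) := by omega
      exact_mod_cast this
    have hty := D.deg_theta hε hy
    have hYsum : ∑ θ ∈ Y, m θ * deg θ = m θ₀ * (1 + n * p) := by
      have h4 : ∀ θ ∈ Y, m θ * deg θ = m θ₀ * y := by
        intro θ hθ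
        rw [hc θ hθ, hy θ hθ]
      rw [Finset.sum_congr rfl h4, Finset.sum_const, D.cardY, smul_eq_mul, ← hty]
      ring
    have h2 := sum_le_split (fun θ => m θ * deg θ) _ hdeg Y (by
      rw [hYsum]
      exact Nat.le_mul_of_pos_left _ hc1)
    rw [hYsum] at h2
    have hm0' : m θ₀ = 1 := by
      have : m θ₀ * (1 + n * p) = 1 * (1 + n * p) := by rw [h2.1, one_mul]
      exact Nat.eq_of_mul_eq_mul_right (by omega) this
    refine ⟨hε, ?_⟩
    intro χ'
    rw [hmi]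
    by_cases h3 : χ' ∈ Y
    · rw [if_pos h3, hc χ' h3, hm0']; simp
    · rw [if_neg h3]
      have := h2.2 χ' h3
      have hdpos := deg_pos χ'
      have : m χ' = 0 := by
        rcases Nat.eq_zero_or_pos (m χ') with h4 | h4
        · exact h4
        · exfalso
          have := Nat.mul_pos h4 hdpos
          omega
      rw [this]; simp

end

section

variable {G : Type*} [Group G] [Fintype G] [DecidableEq G] {p e t n : ℕ} [hp : Fact p.Prime] {z : G}
  {X Y : Finset (IrrCharacter G)} {εX : IrrCharacter G → ℤ} {ε : ℤ}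
  [NeZero e] [Fintype (NN z)] (κ : NN z →* Multiplicative (ZMod e))

/-- FACT 1 for `j = 0`: the permutation character on the Sylow subgroups is `1` plus
defect-zero characters -/
theorem CData.fact1_zero (D : CData G p e t n z X Y εX ε) (hκs : Function.Surjective κ)
    (hκk : κ.ker = KK z) (χ' : IrrCharacter G) (hχ' : χ' ∈ X ∨ χ' ∈ Y) :
    classInner (piChar κ 0) (χ' : G → ℂ) = if χ' = oneIrr G then 1 else 0 := by
  classical
  haveI : Fintype (IrrCharacter G) := Fintype.ofFinite _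
  obtain ⟨m, hm, hmi⟩ := IsCharacter.exists_mult (piChar_isCharacter κ 0)
  have hY : Y.Nonempty := by rw [← Finset.card_pos, D.cardY]; exact D.toCPre.t_pos
  obtain ⟨θ₀, hθ₀⟩ := hY
  obtain ⟨y, hypos, hy⟩ := D.toCPre.exists_y
  have hc : ∀ θ ∈ Y, m θ = m θ₀ := by
    intro θ hθ
    have := D.classInner_piChar_Y κ hκk 0 hθ hθ₀
    rw [hmi, hmi] at this
    exact_mod_cast this
  have hm1 : m (oneIrr G) = 1 := by
    have := classInner_piChar_one κ hκs 0
    rw [hmi, if_pos rfl] at this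
    exact_mod_cast this
  obtain ⟨x, hx, hx1⟩ : ∃ x : G, x ∈ zpowers z ∧ x ≠ 1 := ⟨z, mem_zpowers z, D.hyp.z_ne_one⟩
  have hev := D.eval_P hm (m θ₀) hc hx hx1
  rw [D.hyp.piChar_apply_P κ hκk 0 hx hx1] at hev
  have hevZ : (1 : ℤ) = (∑ χ ∈ X, (m χ : ℤ) * εX χ) - ε * (m θ₀ : ℤ) := by exact_mod_cast hev
  have hdeg : ∑ θ, m θ * deg θ = 1 + n * p := by
    have h1 := eval_one hm
    rw [piChar_one, ← D.hyp.card_sylow, D.hsyl] at h1
    exact_mod_cast h1.symm
  have hnotY : oneIrr G ∉ Y := fun h => D.disj _ D.one_mem h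
  -- Step A
  have hA : ∀ χ₁ ∈ X, εX χ₁ = 1 → χ₁ ≠ oneIrr G → m χ₁ = 0 := by
    intro χ₁ hχ₁ hs hne
    by_contra hpos
    have hm₁ : 1 ≤ m χ₁ := Nat.pos_of_ne_zero hpos
    have hd₁ := D.deg_plus hχ₁ hs hne
    have hle : ∑ θ ∈ ({oneIrr G, χ₁} : Finset (IrrCharacter G)), m θ * deg θ
        ≤ ∑ θ, m θ * deg θ := Finset.sum_le_sum_of_subset (Finset.subset_univ _)
    rw [Finset.sum_pair (Ne.symm hne), hm1, deg_oneIrr, hd₁, hdeg] at hle
    have : 1 * (1 + n * p) ≤ m χ₁ * (1 + n * p) := Nat.mul_le_mul_right _ hm₁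
    omega
  -- Step B
  have hB : ε = -1 → m θ₀ = 0 := by
    intro hε
    by_contra hpos
    have hc1 : 1 ≤ m θ₀ := Nat.pos_of_ne_zero hpos
    have hty := D.deg_theta hε hy
    have hYsum : ∑ θ ∈ Y, m θ * deg θ = m θ₀ * (1 + n * p) := by
      have h4 : ∀ θ ∈ Y, m θ * deg θ = m θ₀ * y := by
        intro θ hθ
        rw [hc θ hθ, hy θ hθ]
      rw [Finset.sum_congr rfl h4, Finset.sum_const, D.cardY, smul_eq_mul, ← hty]
      ring
    have hle : ∑ θ ∈ insert (oneIrr G) Y, m θ * deg θ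
        ≤ ∑ θ, m θ * deg θ := Finset.sum_le_sum_of_subset (Finset.subset_univ _)
    rw [Finset.sum_insert hnotY, hm1, deg_oneIrr, hYsum, hdeg] at hle
    have : 1 * (1 + n * p) ≤ m θ₀ * (1 + n * p) := Nat.mul_le_mul_right _ hc1
    omega
  -- Step C
  have hsum : ∑ χ ∈ X, (m χ : ℤ) * εX χ = 1 - ∑ χ ∈ X.erase (oneIrr G), (m χ : ℤ) := by
    rw [← Finset.add_sum_erase X _ D.one_mem, hm1, D.sign_one]
    have : ∑ χ ∈ X.erase (oneIrr G), (m χ : ℤ) * εX χ
        = -∑ χ ∈ X.erase (oneIrr G), (m χ : ℤ) := by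
      rw [← Finset.sum_neg_distrib]
      apply Finset.sum_congr rfl
      intro χ hχ
      rw [Finset.mem_erase] at hχ
      rcases D.signX χ hχ.2 with h3 | h3
      · rw [hA χ hχ.2 h3 hχ.1]; simp
      · rw [h3]; ring
    rw [this]
    push_cast
    ring
  rw [hsum] at hevZ
  have hnn : (0 : ℤ) ≤ ∑ χ ∈ X.erase (oneIrr G), (m χ : ℤ) :=
    Finset.sum_nonneg (fun χ _ => by positivity)
  have hcnn : (0 : ℤ) ≤ (m θ₀ : ℤ) := by positivity
  have hboth : (∑ χ ∈ X.erase (oneIrr G), (m χ : ℤ)) = 0 ∧ m θ₀ = 0 := by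
    rcases D.sign with h3 | h3
    · rw [h3] at hevZ
      constructor
      · omega
      · have : (m θ₀ : ℤ) = 0 := by omega
        exact_mod_cast this
    · have h4 := hB h3
      rw [h3, h4] at hevZ
      refine ⟨by push_cast at hevZ; omega, h4⟩
  rw [hmi]
  rcases hχ' with h5 | h5
  · by_cases h6 : χ' = oneIrr G
    · rw [if_pos h6, h6, hm1]; simp
    · rw [if_neg h6]
      have h7 := (Finset.sum_eq_zero_iff_of_nonneg (fun χ _ => by positivity)).mp hboth.1 χ'
        (Finset.mem_erase.mpr ⟨h6, h5⟩)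
      have : m χ' = 0 := by exact_mod_cast h7
      rw [this]; simp
  · have h6 : χ' ≠ oneIrr G := fun h => hnotY (h ▸ h5)
    rw [if_neg h6, hc χ' h5, hboth.2]; simp

end

end Cfsg.Agent.Lib.Helper9.Art
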