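import Mathlib
import Cfsg.Agent.Lib.Helper9.ArtI

set_option autoImplicit false
set_option linter.unusedSectionVars false
set_option linter.unusedVariables false
set_option linter.style.longLine false
set_option linter.unusedSimpArgs false

set_option maxHeartbeats 1600000
namespace Cfsg.Agent.Lib.Helper9.Art
open Subgroup Cfsg Cfsg.Agent.Lib.Helper6 Cfsg.Agent.Lib.Helper7.Bt
open scoped ComplexConjugate

section

variable {G : Type*} [Group G] [Fintype G] [DecidableEq G] {p e t n : ℕ} [hp : Fact p.Prime] {z : G}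
  {X Y : Finset (IrrCharacter G)} {εX : IrrCharacter G → ℤ} {ε : ℤ}
  [NeZero e] [Fintype (NN z)] (κ : NN z →* Multiplicative (ZMod e))

/-- all multiplicities of members of the principal block in the `piChar` are `0` or `1` -/
theorem CData.inner_01 (D : CData G p e t n z X Y εX ε) (hκs : Function.Surjective κ)
    (hκk : κ.ker = KK z) (j : ZMod e) (χ' : IrrCharacter G) (hχ' : χ' ∈ X ∨ χ' ∈ Y) :
    classInner (piChar κ j) (χ' : G → ℂ) = 0 ∨ classInner (piChar κ j) (χ' : G → ℂ) = 1 := by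
  by_cases hj : j = 0
  · subst hj
    rw [D.fact1_zero κ hκs hκk χ' hχ']
    split_ifs
    · right; rfl
    · left; rfl
  · rcases D.fact1_ne κ hκs hκk hj with ⟨χ, _, _, _, h⟩ | ⟨_, h⟩
    · rw [h χ']
      split_ifs
      · right; rfl
      · left; rfl
    · rw [h χ']
      split_ifs
      · right; rfl
      · left; rfl

/-- the minus-type characters are not constituents of any `piChar` -/
theorem CData.inner_minus (D : CData G p e t n z X Y εX ε) (hκs : Function.Surjective κ)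
    (hκk : κ.ker = KK z) {χ : IrrCharacter G} (hχ : χ ∈ X) (hs : εX χ = -1) (j : ZMod e) :
    classInner (piChar κ j) (χ : G → ℂ) = 0 := by
  have hne1 : χ ≠ oneIrr G := by
    rintro rfl
    rw [D.sign_one] at hs
    norm_num at hs
  by_cases hj : j = 0
  · subst hj
    rw [D.fact1_zero κ hκs hκk χ (Or.inl hχ), if_neg hne1]
  · rcases D.fact1_ne κ hκs hκk hj with ⟨χ₁, _, hs₁, _, h⟩ | ⟨_, h⟩
    · rw [h χ, if_neg]
      rintro rfl
      rw [hs₁] at hs
      norm_num at hs
    · rw [h χ, if_neg (fun hY => D.disj χ hχ hY)]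

/-- for `ε = 1` the exceptional characters are not constituents of any `piChar` -/
theorem CData.inner_Y_plus (D : CData G p e t n z X Y εX ε) (hκs : Function.Surjective κ)
    (hκk : κ.ker = KK z) (hε : ε = 1) {θ : IrrCharacter G} (hθ : θ ∈ Y) (j : ZMod e) :
    classInner (piChar κ j) (θ : G → ℂ) = 0 := by
  have hne1 : θ ≠ oneIrr G := fun h => D.disj _ D.one_mem (h ▸ hθ)
  by_cases hj : j = 0
  · subst hj
    rw [D.fact1_zero κ hκs hκk θ (Or.inr hθ), if_neg hne1]
  · rcases D.fact1_ne κ hκs hκk hj with ⟨χ₁, hχ₁, _, _, h⟩ | ⟨hε', _⟩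
    · rw [h θ, if_neg]
      rintro rfl
      exact D.disj _ hχ₁ hθ
    · rw [hε] at hε'
      norm_num at hε'

/-- characters of defect zero are not constituents of `piChar κ j`, `j ≠ 0` -/
theorem CData.inner_Z (D : CData G p e t n z X Y εX ε) (hκs : Function.Surjective κ)
    (hκk : κ.ker = KK z) {χ : IrrCharacter G} (hX : χ ∉ X) (hY : χ ∉ Y) {j : ZMod e}
    (hj : j ≠ 0) : classInner (piChar κ j) (χ : G → ℂ) = 0 := by
  rcases D.fact1_ne κ hκs hκk hj with ⟨χ₁, hχ₁, _, _, h⟩ | ⟨_, h⟩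
  · rw [h χ, if_neg]
    rintro rfl
    exact hX hχ₁
  · rw [h χ, if_neg hY]

/-- a class function all of whose inner products with the `piChar` vanish is zero on `N \\ P` -/
theorem CData.vanish_of_inner (D : CData G p e t n z X Y εX ε) (hκk : κ.ker = KK z)
    (ψ : G → ℂ) (hψ : IsClassFunction G ψ)
    (h0 : ∀ j : ZMod e, classInner (piChar κ j) ψ = 0) {k : G} (hk : k ∈ NN z)
    (hkP : k ∉ zpowers z) : ψ k = 0 := by
  have := D.hyp.lemma_L κ hκk D.he ψ hψ (k₀ := ⟨k, hk⟩) hkP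
  rw [this]
  apply Finset.sum_eq_zero
  intro j _
  rw [h0 j, map_zero, zero_mul]

theorem CData.sumP_X (D : CData G p e t n z X Y εX ε) {χ : IrrCharacter G} (hχ : χ ∈ X) :
    sumP z (χ : G → ℂ) = ((p : ℂ) - 1) * (εX χ : ℂ) := by
  rw [← sumP_const D.hyp]
  apply sumP_congr
  intro x hx hx1
  exact D.valX χ hχ x hx hx1

/-- minus-type characters have degree `p - 1` -/
theorem CData.deg_minus (D : CData G p e t n z X Y εX ε) (hκs : Function.Surjective κ)
    (hκk : κ.ker = KK z) {χ : IrrCharacter G} (hχ : χ ∈ X) (hs : εX χ = -1) :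
    deg χ = p - 1 := by
  have h1 := D.hyp.sum_classInner_piChar κ hκk D.he (χ : G → ℂ)
    (IsIrrCharacter.isClassFunction χ.2)
  rw [Finset.sum_eq_zero (fun j _ => D.inner_minus κ hκs hκk hχ hs j), D.sumP_X hχ, hs,
    apply_one] at h1
  have hp0 : (p : ℂ) ≠ 0 := by exact_mod_cast hp.out.pos.ne'
  have h2 : conj ((deg χ : ℂ) + ((p : ℂ) - 1) * ((-1 : ℤ) : ℂ)) = 0 := by
    rcases mul_eq_zero.mp h1.symm with h3 | h3
    · exact absurd (inv_eq_zero.mp h3) hp0
    · exact h3
  have h3 : (deg χ : ℂ) + ((p : ℂ) - 1) * ((-1 : ℤ) : ℂ) = 0 := by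
    have := congrArg conj h2
    simpa using this
  have h4 : (deg χ : ℂ) = ((p - 1 : ℕ) : ℂ) := by
    rw [Nat.cast_sub hp.out.one_lt.le]
    push_cast at h3 ⊢
    linear_combination h3
  exact_mod_cast h4

/-- for `ε = 1` the exceptional characters have degree `e` -/
theorem CData.deg_Y_plus (D : CData G p e t n z X Y εX ε) (hκs : Function.Surjective κ)
    (hκk : κ.ker = KK z) (hε : ε = 1) {θ : IrrCharacter G} (hθ : θ ∈ Y) : deg θ = e := by
  have h1 := D.hyp.sum_classInner_piChar κ hκk D.he (θ : G → ℂ)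
    (IsIrrCharacter.isClassFunction θ.2)
  rw [Finset.sum_eq_zero (fun j _ => D.inner_Y_plus κ hκs hκk hε hθ j), D.sumP_theta hθ, hε,
    apply_one] at h1
  have hp0 : (p : ℂ) ≠ 0 := by exact_mod_cast hp.out.pos.ne'
  have h2 : conj ((deg θ : ℂ) + -((1 : ℤ) : ℂ) * (e : ℂ)) = 0 := by
    rcases mul_eq_zero.mp h1.symm with h3 | h3
    · exact absurd (inv_eq_zero.mp h3) hp0
    · exact h3
  have h3 : (deg θ : ℂ) + -((1 : ℤ) : ℂ) * (e : ℂ) = 0 := by
    have := congrArg conj h2
    simpa using this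
  have h4 : (deg θ : ℂ) = (e : ℂ) := by
    push_cast at h3
    linear_combination h3
  exact_mod_cast h4

end

section

variable {G : Type*} [Group G] [Fintype G] [DecidableEq G] {p e t n : ℕ} [hp : Fact p.Prime] {z : G}
  {X Y : Finset (IrrCharacter G)} {εX : IrrCharacter G → ℤ} {ε : ℤ}
  [NeZero e] [Fintype (NN z)] (κ : NN z →* Multiplicative (ZMod e))

open Classical in
/-- the set of `j` with `⟨π_j, χ⟩ = 1` -/
noncomputable def Jset (χ : G → ℂ) : Finset (ZMod e) :=
  Finset.univ.filter (fun j => classInner (piChar κ j) χ = 1)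

theorem mem_Jset (χ : G → ℂ) (j : ZMod e) : j ∈ Jset κ χ ↔ classInner (piChar κ j) χ = 1 := by
  unfold Jset
  simp

/-- values on `N \\ P` of a member of the principal block -/
theorem CData.apply_eq_sum_Jset (D : CData G p e t n z X Y εX ε) (hκs : Function.Surjective κ)
    (hκk : κ.ker = KK z) (χ' : IrrCharacter G) (hχ' : χ' ∈ X ∨ χ' ∈ Y) {k : G} (hk : k ∈ NN z)
    (hkP : k ∉ zpowers z) :
    (χ' : G → ℂ) k = ∑ j ∈ Jset κ (χ' : G → ℂ), lam κ j ⟨k, hk⟩ := by
  classical
  have h1 := D.hyp.lemma_L κ hκk D.he (χ' : G → ℂ) (IsIrrCharacter.isClassFunction χ'.2)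
    (k₀ := ⟨k, hk⟩) hkP
  rw [h1, Jset, Finset.sum_filter]
  apply Finset.sum_congr rfl
  intro j _
  rcases D.inner_01 κ hκs hκk j χ' hχ' with h2 | h2
  · rw [h2, if_neg (by norm_num)]; simp
  · rw [h2, if_pos rfl]; simp

/-- the number of linear constituents -/
theorem CData.card_Jset (D : CData G p e t n z X Y εX ε) (hκs : Function.Surjective κ)
    (hκk : κ.ker = KK z) (χ' : IrrCharacter G) (hχ' : χ' ∈ X ∨ χ' ∈ Y) :
    ((Jset κ (χ' : G → ℂ)).card : ℂ)
      = (p : ℂ)⁻¹ * conj ((χ' : G → ℂ) 1 + sumP z (χ' : G → ℂ)) := by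
  classical
  rw [← D.hyp.sum_classInner_piChar κ hκk D.he (χ' : G → ℂ)
    (IsIrrCharacter.isClassFunction χ'.2), Jset, Finset.card_filter]
  push_cast
  apply Finset.sum_congr rfl
  intro j _
  rcases D.inner_01 κ hκs hκk j χ' hχ' with h2 | h2
  · rw [h2, if_neg (by norm_num)]
  · rw [h2, if_pos rfl]

theorem CData.zero_notMem_Jset (D : CData G p e t n z X Y εX ε) (hκs : Function.Surjective κ)
    (hκk : κ.ker = KK z) (χ' : IrrCharacter G) (hχ' : χ' ∈ X ∨ χ' ∈ Y) (hne : χ' ≠ oneIrr G) :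
    (0 : ZMod e) ∉ Jset κ (χ' : G → ℂ) := by
  rw [mem_Jset, D.fact1_zero κ hκs hκk χ' hχ', if_neg hne]
  norm_num

/-- plus-type characters have `n + 1` linear constituents on `N` -/
theorem CData.card_Jset_plus (D : CData G p e t n z X Y εX ε) (hκs : Function.Surjective κ)
    (hκk : κ.ker = KK z) {χ : IrrCharacter G} (hχ : χ ∈ X) (hs : εX χ = 1)
    (hne : χ ≠ oneIrr G) : (Jset κ (χ : G → ℂ)).card = n + 1 := by
  have h1 := D.card_Jset κ hκs hκk χ (Or.inl hχ)
  rw [D.sumP_X hχ, hs, apply_one, D.deg_plus hχ hs hne] at h1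
  have hp0 : (p : ℂ) ≠ 0 := by exact_mod_cast hp.out.pos.ne'
  have h2 : ((Jset κ (χ : G → ℂ)).card : ℂ) = ((n + 1 : ℕ) : ℂ) := by
    rw [h1]
    push_cast
    simp only [map_add, map_mul, map_sub, map_one, Complex.conj_natCast]
    field_simp
    ring
  exact_mod_cast h2

/-- for `ε = -1`: `y + e = p v`, `v` the number of linear constituents of `θ` on `N` -/
theorem CData.card_Jset_Y (D : CData G p e t n z X Y εX ε) (hκs : Function.Surjective κ)
    (hκk : κ.ker = KK z) (hε : ε = -1) {θ : IrrCharacter G} (hθ : θ ∈ Y) :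
    deg θ + e = p * (Jset κ (θ : G → ℂ)).card := by
  have h1 := D.card_Jset κ hκs hκk θ (Or.inr hθ)
  rw [D.sumP_theta hθ, hε, apply_one] at h1
  have hp0 : (p : ℂ) ≠ 0 := by exact_mod_cast hp.out.pos.ne'
  have h2 : ((deg θ + e : ℕ) : ℂ) = ((p * (Jset κ (θ : G → ℂ)).card : ℕ) : ℂ) := by
    push_cast
    rw [h1]
    simp only [map_add, map_mul, map_neg, map_one, Complex.conj_natCast, Int.cast_neg,
      Int.cast_one, neg_neg, one_mul]
    field_simp
  exact_mod_cast h2

/-- the `Jset` of an exceptional character does not depend on it -/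
theorem CData.Jset_Y_eq (D : CData G p e t n z X Y εX ε) (hκk : κ.ker = KK z)
    {θ θ' : IrrCharacter G} (hθ : θ ∈ Y) (hθ' : θ' ∈ Y) :
    Jset κ (θ : G → ℂ) = Jset κ (θ' : G → ℂ) := by
  ext j
  rw [mem_Jset, mem_Jset, D.classInner_piChar_Y κ hκk j hθ hθ']

end

end Cfsg.Agent.Lib.Helper9.Art
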