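import Mathlib
import Cfsg.Agent.Lib.Helper9.ArtJ

set_option autoImplicit false
set_option linter.unusedSectionVars false
set_option linter.unusedVariables false
set_option linter.style.longLine false
set_option linter.unusedSimpArgs false

set_option maxHeartbeats 1600000
namespace Cfsg.Agent.Lib.Helper9.Art
open Subgroup Cfsg Cfsg.Agent.Lib.Helper6 Cfsg.Agent.Lib.Helper7.Bt
open scoped ComplexConjugate

section

variable {G : Type*} [Group G] [Fintype G] [DecidableEq G] {p e t n : ℕ} [hp : Fact p.Prime] {z : G}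
  {X Y : Finset (IrrCharacter G)} {εX : IrrCharacter G → ℤ} {ε : ℤ}
  [NeZero e] [Fintype (NN z)] (κ : NN z →* Multiplicative (ZMod e))

theorem CData.sumP_Z (D : CData G p e t n z X Y εX ε) {χ : IrrCharacter G} (hX : χ ∉ X)
    (hY : χ ∉ Y) : sumP z (χ : G → ℂ) = 0 := by
  have h1 : sumP z (χ : G → ℂ) = sumP z (fun _ => (0 : ℂ)) := by
    apply sumP_congr
    intro x hx hx1
    exact D.vanish χ hX hY x (D.toCPre.orderOf_P hx hx1)
  rw [h1, sumP_const D.hyp, mul_zero]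

/-- defect zero characters: `p * ⟨π_0, χ⟩ = deg χ` -/
theorem CData.inner_zero_Z (D : CData G p e t n z X Y εX ε) (hκs : Function.Surjective κ)
    (hκk : κ.ker = KK z) {χ : IrrCharacter G} (hX : χ ∉ X) (hY : χ ∉ Y) :
    (p : ℂ) * classInner (piChar κ 0) (χ : G → ℂ) = (deg χ : ℂ) := by
  have h1 := D.hyp.sum_classInner_piChar κ hκk D.he (χ : G → ℂ)
    (IsIrrCharacter.isClassFunction χ.2)
  have h2 : ∑ j : ZMod e, classInner (piChar κ j) (χ : G → ℂ)
      = classInner (piChar κ 0) (χ : G → ℂ) := by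
    rw [Finset.sum_eq_single (0 : ZMod e)]
    · intro j _ hj
      exact D.inner_Z κ hκs hκk hX hY hj
    · intro h
      exact absurd (Finset.mem_univ _) h
  have hp0 : (p : ℂ) ≠ 0 := by exact_mod_cast hp.out.pos.ne'
  rw [h2, D.sumP_Z hX hY, add_zero, apply_one] at h1
  rw [h1, Complex.conj_natCast]
  field_simp

/-- defect zero characters: the value on `N \\ P` is `deg χ / p` -/
theorem CData.apply_Z (D : CData G p e t n z X Y εX ε) (hκs : Function.Surjective κ)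
    (hκk : κ.ker = KK z) {χ : IrrCharacter G} (hX : χ ∉ X) (hY : χ ∉ Y) {k : G}
    (hk : k ∈ NN z) (hkP : k ∉ zpowers z) : (χ : G → ℂ) k = (deg χ : ℂ) / (p : ℂ) := by
  have h1 := D.hyp.lemma_L κ hκk D.he (χ : G → ℂ) (IsIrrCharacter.isClassFunction χ.2)
    (k₀ := ⟨k, hk⟩) hkP
  have h2 : ∑ j : ZMod e, conj (classInner (piChar κ j) (χ : G → ℂ)) * lam κ j ⟨k, hk⟩
      = conj (classInner (piChar κ 0) (χ : G → ℂ)) := by
    rw [Finset.sum_eq_single (0 : ZMod e)]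
    · rw [lam_zero, mul_one]
    · intro j _ hj
      rw [D.inner_Z κ hκs hκk hX hY hj, map_zero, zero_mul]
    · intro h
      exact absurd (Finset.mem_univ _) h
  have hp0 : (p : ℂ) ≠ 0 := by exact_mod_cast hp.out.pos.ne'
  have h3 : classInner (piChar κ 0) (χ : G → ℂ) = (deg χ : ℂ) / (p : ℂ) := by
    rw [← D.inner_zero_Z κ hκs hκk hX hY]
    field_simp
  have h4 : (χ : G → ℂ) k = conj (classInner (piChar κ 0) (χ : G → ℂ)) := by
    rw [← h2]; exact h1
  rw [h4, h3, map_div₀, Complex.conj_natCast, Complex.conj_natCast]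

/-- the squares of the `deg χ / p` over the defect zero characters add up to `n` -/
theorem CData.sum_Z_deg_sq [Fintype (IrrCharacter G)] (D : CData G p e t n z X Y εX ε)
    (hκs : Function.Surjective κ) (hκk : κ.ker = KK z) :
    ∑ χ ∈ Finset.univ.filter (fun χ : IrrCharacter G => χ ∉ X ∧ χ ∉ Y),
      ((deg χ : ℂ) / (p : ℂ)) * ((deg χ : ℂ) / (p : ℂ)) = (n : ℂ) := by
  classical
  obtain ⟨m, hm, hmi⟩ := IsCharacter.exists_mult (piChar_isCharacter κ 0)
  have hp0 : (p : ℂ) ≠ 0 := by exact_mod_cast hp.out.pos.ne'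
  have h1 := apply_eq_sum_mult hm 1
  rw [piChar_one, ← D.hyp.card_sylow, D.hsyl, D.toCPre.sum_split] at h1
  have hX : ∑ χ ∈ X, (m χ : ℂ) * (χ : G → ℂ) 1 = 1 := by
    rw [Finset.sum_eq_single_of_mem (oneIrr G) D.one_mem]
    · rw [← hmi, D.fact1_zero κ hκs hκk _ (Or.inl D.one_mem), if_pos rfl, oneIrr_apply, mul_one]
    · intro χ hχ hne
      rw [← hmi, D.fact1_zero κ hκs hκk _ (Or.inl hχ), if_neg hne, zero_mul]
  have hY : ∑ χ ∈ Y, (m χ : ℂ) * (χ : G → ℂ) 1 = 0 := by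
    apply Finset.sum_eq_zero
    intro χ hχ
    have hne : χ ≠ oneIrr G := fun h => D.disj _ D.one_mem (h ▸ hχ)
    rw [← hmi, D.fact1_zero κ hκs hκk _ (Or.inr hχ), if_neg hne, zero_mul]
  have hZ : ∑ χ ∈ Finset.univ.filter (fun χ : IrrCharacter G => χ ∉ X ∧ χ ∉ Y),
      (m χ : ℂ) * (χ : G → ℂ) 1
      = (p : ℂ) * ∑ χ ∈ Finset.univ.filter (fun χ : IrrCharacter G => χ ∉ X ∧ χ ∉ Y),
        ((deg χ : ℂ) / (p : ℂ)) * ((deg χ : ℂ) / (p : ℂ)) := by
    rw [Finset.mul_sum]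
    apply Finset.sum_congr rfl
    intro χ hχ
    rw [Finset.mem_filter] at hχ
    rw [← hmi, apply_one, ← D.inner_zero_Z κ hκs hκk hχ.2.1 hχ.2.2]
    field_simp
  rw [hX, hY, hZ, add_zero] at h1
  have h2 : (p : ℂ) * (n : ℂ) = (p : ℂ) * ∑ χ ∈ Finset.univ.filter
      (fun χ : IrrCharacter G => χ ∉ X ∧ χ ∉ Y),
        ((deg χ : ℂ) / (p : ℂ)) * ((deg χ : ℂ) / (p : ℂ)) := by
    push_cast at h1
    linear_combination h1
  exact (mul_left_cancel₀ hp0 h2).symm

/-- the defect zero part of the column orthogonality on `N \\ P` -/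
theorem CData.sum_Z_mul_conj [Fintype (IrrCharacter G)] (D : CData G p e t n z X Y εX ε)
    (hκs : Function.Surjective κ) (hκk : κ.ker = KK z) {k k' : G}
    (hk : k ∈ NN z) (hkP : k ∉ zpowers z) (hk' : k' ∈ NN z) (hkP' : k' ∉ zpowers z) :
    ∑ χ ∈ Finset.univ.filter (fun χ : IrrCharacter G => χ ∉ X ∧ χ ∉ Y),
      (χ : G → ℂ) k * conj ((χ : G → ℂ) k') = (n : ℂ) := by
  rw [← D.sum_Z_deg_sq κ hκs hκk]
  apply Finset.sum_congr rfl
  intro χ hχ
  rw [Finset.mem_filter] at hχ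
  rw [D.apply_Z κ hκs hκk hχ.2.1 hχ.2.2 hk hkP, D.apply_Z κ hκs hκk hχ.2.1 hχ.2.2 hk' hkP',
    map_div₀, Complex.conj_natCast, Complex.conj_natCast]

/-- the permutation character on the Sylow subgroups takes the value `n + 1` on `N \\ P` -/
theorem CData.piChar_zero_apply (D : CData G p e t n z X Y εX ε) (hκs : Function.Surjective κ)
    (hκk : κ.ker = KK z) {k : G} (hk : k ∈ NN z) (hkP : k ∉ zpowers z) :
    piChar κ 0 k = (n : ℂ) + 1 := by
  classical
  haveI : Fintype (IrrCharacter G) := Fintype.ofFinite _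
  obtain ⟨m, hm, hmi⟩ := IsCharacter.exists_mult (piChar_isCharacter κ 0)
  have hp0 : (p : ℂ) ≠ 0 := by exact_mod_cast hp.out.pos.ne'
  rw [apply_eq_sum_mult hm k, D.toCPre.sum_split]
  have hX : ∑ χ ∈ X, (m χ : ℂ) * (χ : G → ℂ) k = 1 := by
    rw [Finset.sum_eq_single_of_mem (oneIrr G) D.one_mem]
    · rw [← hmi, D.fact1_zero κ hκs hκk _ (Or.inl D.one_mem), if_pos rfl, oneIrr_apply, mul_one]
    · intro χ hχ hne
      rw [← hmi, D.fact1_zero κ hκs hκk _ (Or.inl hχ), if_neg hne, zero_mul]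
  have hY : ∑ χ ∈ Y, (m χ : ℂ) * (χ : G → ℂ) k = 0 := by
    apply Finset.sum_eq_zero
    intro χ hχ
    have hne : χ ≠ oneIrr G := fun h => D.disj _ D.one_mem (h ▸ hχ)
    rw [← hmi, D.fact1_zero κ hκs hκk _ (Or.inr hχ), if_neg hne, zero_mul]
  have hZ : ∑ χ ∈ Finset.univ.filter (fun χ : IrrCharacter G => χ ∉ X ∧ χ ∉ Y),
      (m χ : ℂ) * (χ : G → ℂ) k = (n : ℂ) := by
    rw [← D.sum_Z_deg_sq κ hκs hκk]
    apply Finset.sum_congr rfl
    intro χ hχ
    rw [Finset.mem_filter] at hχ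
    rw [D.apply_Z κ hκs hκk hχ.2.1 hχ.2.2 hk hkP, ← hmi,
      ← D.inner_zero_Z κ hκs hκk hχ.2.1 hχ.2.2]
    field_simp
  rw [hX, hY, hZ]
  ring

end

section

variable {G : Type*} [Group G] [Fintype G] [DecidableEq G] {p e t n : ℕ} [hp : Fact p.Prime] {z : G}
  {X Y : Finset (IrrCharacter G)} {εX : IrrCharacter G → ℤ} {ε : ℤ}
  [NeZero e] [Fintype (NN z)] (κ : NN z →* Multiplicative (ZMod e))

open Classical in
/-- the plus-type characters other than the trivial one -/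
noncomputable def Aset (X : Finset (IrrCharacter G)) (εX : IrrCharacter G → ℤ) :
    Finset (IrrCharacter G) :=
  X.filter (fun χ => εX χ = 1 ∧ χ ≠ oneIrr G)

omit [DecidableEq G] in
theorem mem_Aset {χ : IrrCharacter G} : χ ∈ Aset X εX ↔ χ ∈ X ∧ εX χ = 1 ∧ χ ≠ oneIrr G := by
  unfold Aset
  simp

theorem sum_erase_ite_mem (S : Finset (ZMod e)) (h0 : (0 : ZMod e) ∉ S) :
    ∑ j ∈ Finset.univ.erase (0 : ZMod e), (if j ∈ S then 1 else 0) = S.card := by
  classical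
  rw [Finset.sum_ite_mem, Finset.sum_const, smul_eq_mul, mul_one]
  congr 1
  ext j
  simp only [Finset.mem_inter, Finset.mem_erase, Finset.mem_univ, and_true]
  constructor
  · exact fun h => h.2
  · intro h
    exact ⟨fun hj => h0 (hj ▸ h), h⟩

/-- counting the `j ≠ 0` through FACT 1 -/
theorem CData.count (D : CData G p e t n z X Y εX ε) (hκs : Function.Surjective κ)
    (hκk : κ.ker = KK z) {θ₀ : IrrCharacter G} (hθ₀ : θ₀ ∈ Y) :
    e - 1 = (Aset X εX).card * (n + 1) + (Jset κ (θ₀ : G → ℂ)).card := by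
  classical
  have h1 : ∀ j ∈ Finset.univ.erase (0 : ZMod e),
      (∑ χ ∈ Aset X εX, (if j ∈ Jset κ (χ : G → ℂ) then 1 else 0))
        + (if j ∈ Jset κ (θ₀ : G → ℂ) then 1 else 0) = 1 := by
    intro j hj
    have hj0 : j ≠ 0 := Finset.ne_of_mem_erase hj
    rcases D.fact1_ne κ hκs hκk hj0 with ⟨χ₁, hχ₁, hs₁, hne₁, h⟩ | ⟨hε, h⟩
    · have hmem : χ₁ ∈ Aset X εX := mem_Aset.mpr ⟨hχ₁, hs₁, hne₁⟩
      have hA : ∑ χ ∈ Aset X εX, (if j ∈ Jset κ (χ : G → ℂ) then 1 else 0) = 1 := by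
        rw [Finset.sum_eq_single_of_mem χ₁ hmem, if_pos]
        · rw [mem_Jset, h χ₁, if_pos rfl]
        · intro χ _ hne
          rw [if_neg]
          rw [mem_Jset, h χ, if_neg hne]
          norm_num
      have hB : (if j ∈ Jset κ (θ₀ : G → ℂ) then 1 else 0) = 0 := by
        rw [if_neg]
        rw [mem_Jset, h θ₀, if_neg]
        · norm_num
        · rintro rfl
          exact D.disj _ hχ₁ hθ₀
      rw [hA, hB]
    · have hA : ∑ χ ∈ Aset X εX, (if j ∈ Jset κ (χ : G → ℂ) then 1 else 0) = 0 := by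
        apply Finset.sum_eq_zero
        intro χ hχ
        rw [if_neg]
        rw [mem_Jset, h χ, if_neg]
        · norm_num
        · intro hY
          exact D.disj χ (mem_Aset.mp hχ).1 hY
      have hB : (if j ∈ Jset κ (θ₀ : G → ℂ) then 1 else 0) = 1 := by
        rw [if_pos]
        rw [mem_Jset, h θ₀, if_pos hθ₀]
      rw [hA, hB]
  have h2 := Finset.sum_congr rfl h1
  rw [Finset.sum_add_distrib, Finset.sum_comm, Finset.sum_const, smul_eq_mul, mul_one,
    Finset.card_erase_of_mem (Finset.mem_univ _), Finset.card_univ, ZMod.card] at h2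
  have hθne : θ₀ ≠ oneIrr G := fun h => D.disj _ D.one_mem (h ▸ hθ₀)
  rw [sum_erase_ite_mem _ (D.zero_notMem_Jset κ hκs hκk θ₀ (Or.inr hθ₀) hθne)] at h2
  have h3 : ∑ χ ∈ Aset X εX, ∑ j ∈ Finset.univ.erase (0 : ZMod e),
      (if j ∈ Jset κ (χ : G → ℂ) then 1 else 0) = (Aset X εX).card * (n + 1) := by
    rw [← smul_eq_mul, ← Finset.sum_const]
    apply Finset.sum_congr rfl
    intro χ hχ
    obtain ⟨hχX, hs, hne⟩ := mem_Aset.mp hχ
    rw [sum_erase_ite_mem _ (D.zero_notMem_Jset κ hκs hκk χ (Or.inl hχX) hne),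
      D.card_Jset_plus κ hκs hκk hχX hs hne]
  rw [h3] at h2
  exact h2.symm

theorem CData.card_Jset_Y_plus (D : CData G p e t n z X Y εX ε) (hκs : Function.Surjective κ)
    (hκk : κ.ker = KK z) (hε : ε = 1) {θ₀ : IrrCharacter G} (hθ₀ : θ₀ ∈ Y) :
    (Jset κ (θ₀ : G → ℂ)).card = 0 := by
  rw [Finset.card_eq_zero, Finset.eq_empty_iff_forall_notMem]
  intro j hj
  rw [mem_Jset, D.inner_Y_plus κ hκs hκk hε hθ₀ j] at hj
  norm_num at hj

end

end Cfsg.Agent.Lib.Helper9.Art
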