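import Mathlib
import Cfsg.Agent.Lib.Helper9.ArtK

set_option autoImplicit false
set_option linter.unusedSectionVars false
set_option linter.unusedVariables false
set_option linter.style.longLine false
set_option linter.unusedSimpArgs false

set_option maxHeartbeats 1600000
namespace Cfsg.Agent.Lib.Helper9.Art
open Subgroup Cfsg Cfsg.Agent.Lib.Helper6 Cfsg.Agent.Lib.Helper7.Bt
open scoped ComplexConjugate

section

variable {G : Type*} [Group G] [Fintype G] [DecidableEq G] {p e t n : ℕ} [hp : Fact p.Prime] {z : G}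
  {X Y : Finset (IrrCharacter G)} {εX : IrrCharacter G → ℤ} {ε : ℤ}
  [NeZero e] [Fintype (NN z)] (κ : NN z →* Multiplicative (ZMod e))

/-- for `ε = 1` the exceptional characters vanish on `N \\ P` -/
theorem CData.Y_vanish_plus (D : CData G p e t n z X Y εX ε) (hκs : Function.Surjective κ)
    (hκk : κ.ker = KK z) (hε : ε = 1) {θ : IrrCharacter G} (hθ : θ ∈ Y) {k : G} (hk : k ∈ NN z)
    (hkP : k ∉ zpowers z) : (θ : G → ℂ) k = 0 :=
  D.vanish_of_inner κ hκk (θ : G → ℂ) (IsIrrCharacter.isClassFunction θ.2)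
    (fun j => D.inner_Y_plus κ hκs hκk hε hθ j) hk hkP

/-- minus-type characters vanish on `N \\ P` -/
theorem CData.minus_vanish (D : CData G p e t n z X Y εX ε) (hκs : Function.Surjective κ)
    (hκk : κ.ker = KK z) {χ : IrrCharacter G} (hχ : χ ∈ X) (hs : εX χ = -1) {k : G}
    (hk : k ∈ NN z) (hkP : k ∉ zpowers z) : (χ : G → ℂ) k = 0 :=
  D.vanish_of_inner κ hκk (χ : G → ℂ) (IsIrrCharacter.isClassFunction χ.2)
    (fun j => D.inner_minus κ hκs hκk hχ hs j) hk hkP

/-- `ε = 1`: all the `piChar` have inner product `1` with `θ θ̄` -/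
theorem CData.inner_theta_sq (D : CData G p e t n z X Y εX ε) (hκs : Function.Surjective κ)
    (hκk : κ.ker = KK z) (hε : ε = 1) {θ : IrrCharacter G} (hθ : θ ∈ Y) (j : ZMod e) :
    classInner (piChar κ j) (fun g => (θ : G → ℂ) g * conj ((θ : G → ℂ) g)) = 1 := by
  have hcl : IsClassFunction G (fun g => (θ : G → ℂ) g * conj ((θ : G → ℂ) g)) := by
    have h1 := IsIrrCharacter.isClassFunction θ.2
    intro g k
    show (θ : G → ℂ) (k * g * k⁻¹) * conj ((θ : G → ℂ) (k * g * k⁻¹)) = _
    rw [h1 g k]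
  rw [classInner_piChar κ j _ hcl]
  have hsplit : ∀ F : NN z → ℂ, ∑ k : NN z, F k
      = ∑ k : NN z, (if κ k = 1 then F k else 0) + ∑ k : NN z, (if κ k = 1 then 0 else F k) := by
    intro F
    rw [← Finset.sum_add_distrib]
    apply Finset.sum_congr rfl
    intro k _
    split_ifs <;> simp
  rw [hsplit]
  have hB : ∑ k : NN z, (if κ k = 1 then 0
      else lam κ j k * conj ((θ : G → ℂ) k * conj ((θ : G → ℂ) k))) = 0 := by
    apply Finset.sum_eq_zero
    intro k _
    split_ifs with hk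
    · rfl
    · have hkK : (k : G) ∉ zpowers z := by
        have : k ∉ KK z := by rw [← hκk, MonoidHom.mem_ker]; exact hk
        exact this
      rw [D.Y_vanish_plus κ hκs hκk hε hθ k.2 hkK]
      simp
  have hA : ∑ k : NN z, (if κ k = 1
      then lam κ j k * conj ((θ : G → ℂ) k * conj ((θ : G → ℂ) k)) else 0)
      = (e : ℂ) * (e : ℂ) + (e : ℂ) * ((p : ℂ) - (e : ℂ)) := by
    have h1 : ∀ k : NN z, (if κ k = 1
        then lam κ j k * conj ((θ : G → ℂ) k * conj ((θ : G → ℂ) k)) else 0)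
        = (if κ k = 1 then (fun g => (θ : G → ℂ) g * conj ((θ : G → ℂ) g)) k else 0) := by
      intro k
      split_ifs with hk
      · rw [lam_of_mem_ker κ j (MonoidHom.mem_ker.mpr hk), one_mul, map_mul, Complex.conj_conj,
          mul_comm]
      · rfl
    rw [Finset.sum_congr rfl (fun k _ => h1 k),
      D.hyp.sum_fiber_one κ hκk (fun g => (θ : G → ℂ) g * conj ((θ : G → ℂ) g)),
      D.toCPre.sumP_normSq hθ, apply_one, D.deg_Y_plus κ hκs hκk hε hθ, Complex.conj_natCast]
  rw [hA, hB, add_zero, D.hyp.card_N, D.he]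
  have hp0 : (p : ℂ) ≠ 0 := by exact_mod_cast hp.out.pos.ne'
  have he0 : (e : ℂ) ≠ 0 := by exact_mod_cast (NeZero.ne e)
  push_cast
  field_simp
  ring

/-- Step 5: for `ε = 1`, `e² ≥ 1 + a (1 + n p)` -/
theorem CData.step5 (D : CData G p e t n z X Y εX ε) (hκs : Function.Surjective κ)
    (hκk : κ.ker = KK z) (hε : ε = 1) :
    1 + (Aset X εX).card * (1 + n * p) ≤ e * e := by
  classical
  haveI : Fintype (IrrCharacter G) := Fintype.ofFinite _
  have hY : Y.Nonempty := by rw [← Finset.card_pos, D.cardY]; exact D.toCPre.t_pos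
  obtain ⟨θ, hθ⟩ := hY
  have hψ : IsCharacter G (fun g => (θ : G → ℂ) g * conj ((θ : G → ℂ) g)) :=
    IsCharacter.mul (IsIrrCharacter.isCharacter θ.2)
      (IsCharacter.conj (IsIrrCharacter.isCharacter θ.2))
  obtain ⟨m, hm, hmi⟩ := IsCharacter.exists_mult hψ
  -- multiplicity of the trivial character
  have hm1 : m (oneIrr G) = 1 := by
    have h1 := hmi (oneIrr G)
    have h2 : classInner (fun g => (θ : G → ℂ) g * conj ((θ : G → ℂ) g)) (oneIrr G : G → ℂ)
        = classInner (θ : G → ℂ) (θ : G → ℂ) := by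
      unfold classInner
      congr 1
      apply Finset.sum_congr rfl
      intro g _
      rw [oneIrr_apply, map_one, mul_one]
    rw [h2, classInner_irrCharacter, if_pos rfl] at h1
    exact_mod_cast h1.symm
  -- multiplicity of the members of `Aset`
  have hmA : ∀ χ ∈ Aset X εX, m χ = 1 := by
    intro χ hχ
    obtain ⟨hχX, hs, hne⟩ := mem_Aset.mp hχ
    have hcard := D.card_Jset_plus κ hκs hκk hχX hs hne
    have hne' : (Jset κ (χ : G → ℂ)).Nonempty := by
      rw [← Finset.card_pos, hcard]; omega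
    obtain ⟨j, hj⟩ := hne'
    have hj0 : j ≠ 0 := by
      rintro rfl
      exact D.zero_notMem_Jset κ hκs hκk χ (Or.inl hχX) hne hj
    rw [mem_Jset] at hj
    obtain ⟨m', hm', hmi'⟩ := IsCharacter.exists_mult (piChar_isCharacter κ j)
    have h1 := D.inner_theta_sq κ hκs hκk hε hθ j
    have hm'' : ∀ χ' : IrrCharacter G, m' χ' = if χ' = χ then 1 else 0 := by
      intro χ'
      rcases D.fact1_ne κ hκs hκk hj0 with ⟨χ₁, _, _, _, h⟩ | ⟨hε', _⟩
      · have h2 := h χ
        rw [hj] at h2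
        have h3 : χ = χ₁ := by
          by_contra hc
          rw [if_neg hc] at h2
          norm_num at h2
        have h4 := hmi' χ'
        rw [h χ', ← h3] at h4
        split_ifs at h4 ⊢ with h5
        · exact_mod_cast h4.symm
        · exact_mod_cast h4.symm
      · rw [hε] at hε'
        norm_num at hε'
    have h2 : classInner (piChar κ j) (fun g => (θ : G → ℂ) g * conj ((θ : G → ℂ) g))
        = ((∑ χ', m' χ' * m χ' : ℕ) : ℂ) := by
      conv_lhs => rw [hm', hm]
      exact classInner_sum_irr m' m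
    rw [h1] at h2
    have h3 : ∑ χ', m' χ' * m χ' = m χ := by
      rw [Finset.sum_eq_single χ]
      · rw [hm'' χ, if_pos rfl, one_mul]
      · intro χ' _ hne'
        rw [hm'' χ', if_neg hne', zero_mul]
      · intro h
        exact absurd (Finset.mem_univ _) h
    rw [h3] at h2
    exact_mod_cast h2.symm
  -- degrees
  have hdeg : (e * e : ℕ) = ∑ χ, m χ * deg χ := by
    have h1 := eval_one hm
    rw [apply_one, D.deg_Y_plus κ hκs hκk hε hθ, Complex.conj_natCast] at h1
    exact_mod_cast h1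
  rw [hdeg]
  have hnot : oneIrr G ∉ Aset X εX := fun h => (mem_Aset.mp h).2.2 rfl
  have hsub : insert (oneIrr G) (Aset X εX) ⊆ Finset.univ := Finset.subset_univ _
  refine le_trans ?_ (Finset.sum_le_sum_of_subset hsub)
  rw [Finset.sum_insert hnot, hm1, deg_oneIrr]
  have h4 : ∑ χ ∈ Aset X εX, m χ * deg χ = (Aset X εX).card * (1 + n * p) := by
    rw [← smul_eq_mul, ← Finset.sum_const]
    apply Finset.sum_congr rfl
    intro χ hχ
    obtain ⟨hχX, hs, hne⟩ := mem_Aset.mp hχ
    rw [hmA χ hχ, one_mul, D.deg_plus hχX hs hne]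
  rw [h4]

end

/-- the arithmetic of Step 5 -/
theorem step5_arith {p e t n a : ℕ} (he : 2 ≤ e) (het : e * t = p - 1) (hp : 1 ≤ p)
    (hcount : e - 1 = a * (n + 1)) (h : 1 + a * (1 + n * p) ≤ e * e) : n * t ≤ n + 1 := by
  obtain ⟨E, rfl⟩ : ∃ E, e = E + 1 := ⟨e - 1, by omega⟩
  have hE : 1 ≤ E := by omega
  have hc : E = a * (n + 1) := by omega
  have hp' : p = (E + 1) * t + 1 := by omega
  -- multiply by (n+1)
  have h1 : (n + 1) * (1 + a * (1 + n * p)) ≤ (n + 1) * ((E + 1) * (E + 1)) :=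
    Nat.mul_le_mul_left _ h
  have h2 : (n + 1) * (1 + a * (1 + n * p)) = (n + 1) + E * (1 + n * p) := by
    rw [hc]; ring
  have h3 : (n + 1) * ((E + 1) * (E + 1)) = (n + 1) + E * ((E + 2) * (n + 1)) := by ring
  rw [h2, h3] at h1
  have h4 : E * (1 + n * p) ≤ E * ((E + 2) * (n + 1)) := by omega
  have h5 : 1 + n * p ≤ (E + 2) * (n + 1) := Nat.le_of_mul_le_mul_left h4 hE
  rw [hp'] at h5
  have h6 : (E + 1) * (n * t) ≤ (E + 1) * (n + 1) := by nlinarith
  exact Nat.le_of_mul_le_mul_left h6 (by omega)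

end Cfsg.Agent.Lib.Helper9.Art
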