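import Mathlib
import Cfsg.Agent.Lib.Helper9.ArtL
import Cfsg.Agent.Lib.Helper6.ClassMult

set_option autoImplicit false
set_option linter.unusedSectionVars false
set_option linter.unusedVariables false
set_option linter.style.longLine false
set_option linter.unusedSimpArgs false

set_option maxHeartbeats 1600000
namespace Cfsg.Agent.Lib.Helper9.Art
open Subgroup Cfsg Cfsg.Agent.Lib.Helper6 Cfsg.Agent.Lib.Helper7.Bt
open scoped ComplexConjugate

section

variable {G : Type*} [Group G] [Fintype G] [DecidableEq G] {p e t n : ℕ} [hp : Fact p.Prime] {z : G}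
  {X Y : Finset (IrrCharacter G)} {εX : IrrCharacter G → ℤ} {ε : ℤ}
  [NeZero e] [Fintype (NN z)] (κ : NN z →* Multiplicative (ZMod e))

omit [DecidableEq G] hp in
/-- splitting a sum over `X` when the minus-type terms vanish -/
theorem CData.sum_X_split (D : CData G p e t n z X Y εX ε) (f : IrrCharacter G → ℂ)
    (h0 : ∀ χ ∈ X, εX χ = -1 → f χ = 0) :
    ∑ χ ∈ X, f χ = f (oneIrr G) + ∑ χ ∈ Aset X εX, f χ := by
  classical
  rw [← Finset.sum_filter_add_sum_filter_not X (fun χ => εX χ = 1 ∧ χ ≠ oneIrr G) f]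
  have h1 : X.filter (fun χ => εX χ = 1 ∧ χ ≠ oneIrr G) = Aset X εX := by
    ext χ
    rw [mem_Aset]
    simp
  have h2 : ∑ χ ∈ X.filter (fun χ => ¬ (εX χ = 1 ∧ χ ≠ oneIrr G)), f χ = f (oneIrr G) := by
    apply Finset.sum_eq_single_of_mem
    · simp [D.one_mem]
    · intro χ hχ hne
      rw [Finset.mem_filter] at hχ
      apply h0 χ hχ.1
      rcases D.signX χ hχ.1 with h | h
      · exact absurd ⟨h, hne⟩ hχ.2
      · exact h
  rw [h1, h2, add_comm]

/-- column orthogonality on `N \\ P` -/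
theorem CData.card_centralizer_eq (D : CData G p e t n z X Y εX ε) (hκs : Function.Surjective κ)
    (hκk : κ.ker = KK z) {k : G} (hk : k ∈ NN z) (hkP : k ∉ zpowers z) :
    (Nat.card (centralizer ({k} : Set G)) : ℂ)
      = 1 + (n : ℂ) + ∑ χ ∈ Aset X εX, (χ : G → ℂ) k * conj ((χ : G → ℂ) k)
        + ∑ θ ∈ Y, (θ : G → ℂ) k * conj ((θ : G → ℂ) k) := by
  classical
  haveI : Fintype (IrrCharacter G) := Fintype.ofFinite _
  have h1 := (sum_irr_mul_conj k k).1 (IsConj.refl k)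
  rw [D.toCPre.sum_split, D.sum_Z_mul_conj κ hκs hκk hk hkP hk hkP,
    D.sum_X_split (fun χ => (χ : G → ℂ) k * conj ((χ : G → ℂ) k))] at h1
  · rw [← h1, oneIrr_apply, map_one, mul_one]
    ring
  · intro χ hχ hs
    show (χ : G → ℂ) k * conj ((χ : G → ℂ) k) = 0
    rw [D.minus_vanish κ hκs hκk hχ hs hk hkP, zero_mul]

omit [DecidableEq G] [Fintype G] hp in
theorem conj_apply_of_involution [Finite G] (χ : IrrCharacter G) {τ : G} (hτ : orderOf τ = 2) :
    conj ((χ : G → ℂ) τ) = (χ : G → ℂ) τ := by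
  have h1 : τ⁻¹ = τ := by
    have h2 : τ ^ 2 = 1 := by rw [← hτ]; exact pow_orderOf_eq_one τ
    rw [inv_eq_iff_mul_eq_one, ← sq, h2]
  rw [← IsCharacter.apply_inv (IsIrrCharacter.isCharacter χ.2), h1]

theorem CData.involution_notMem (D : CData G p e t n z X Y εX ε) {τ : G} (hτ : orderOf τ = 2) :
    τ ∉ zpowers z := by
  intro hmem
  have h1 : τ ≠ 1 := by
    rintro rfl
    rw [orderOf_one] at hτ
    omega
  have := D.hyp.orderOf_of_mem hmem h1
  rw [hτ] at this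
  exact D.hp2 this.symm

/-- the character sum of the class multiplication coefficient for `(τ, τ, z)` -/
theorem CData.classmult_sum [Fintype (IrrCharacter G)] (D : CData G p e t n z X Y εX ε)
    (hκs : Function.Surjective κ) (hκk : κ.ker = KK z) {τ : G} (hτN : τ ∈ NN z)
    (hτ : orderOf τ = 2) :
    ∑ χ : IrrCharacter G,
        (χ : G → ℂ) τ * (χ : G → ℂ) τ * conj ((χ : G → ℂ) z) / (χ : G → ℂ) 1
      = 1 + (∑ χ ∈ Aset X εX, (χ : G → ℂ) τ * conj ((χ : G → ℂ) τ)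
          + ∑ θ ∈ Y, (θ : G → ℂ) τ * conj ((θ : G → ℂ) τ)) / ((1 + n * p : ℕ) : ℂ) := by
  classical
  have hτP := D.involution_notMem hτ
  have hzP : z ∈ zpowers z := mem_zpowers z
  have hz1 : z ≠ 1 := D.hyp.z_ne_one
  have hsyl := D.toCPre.syl_ne
  rw [D.toCPre.sum_split]
  -- the defect zero part
  have hZ : ∑ χ ∈ Finset.univ.filter (fun χ : IrrCharacter G => χ ∉ X ∧ χ ∉ Y),
      (χ : G → ℂ) τ * (χ : G → ℂ) τ * conj ((χ : G → ℂ) z) / (χ : G → ℂ) 1 = 0 := by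
    apply Finset.sum_eq_zero
    intro χ hχ
    rw [Finset.mem_filter] at hχ
    rw [D.vanish χ hχ.2.1 hχ.2.2 z (D.toCPre.orderOf_P hzP hz1), map_zero, mul_zero, zero_div]
  -- the X part
  have hX : ∑ χ ∈ X, (χ : G → ℂ) τ * (χ : G → ℂ) τ * conj ((χ : G → ℂ) z) / (χ : G → ℂ) 1
      = 1 + (∑ χ ∈ Aset X εX, (χ : G → ℂ) τ * conj ((χ : G → ℂ) τ)) / ((1 + n * p : ℕ) : ℂ) := by
    rw [D.sum_X_split (fun χ => (χ : G → ℂ) τ * (χ : G → ℂ) τ * conj ((χ : G → ℂ) z)
      / (χ : G → ℂ) 1)]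
    · congr 1
      · simp only [oneIrr_apply, map_one, mul_one, div_one]
      · rw [Finset.sum_div]
        apply Finset.sum_congr rfl
        intro χ hχ
        obtain ⟨hχX, hs, hne⟩ := mem_Aset.mp hχ
        rw [D.valX χ hχX z hzP hz1, hs, apply_one, D.deg_plus hχX hs hne,
          conj_apply_of_involution χ hτ]
        simp
    · intro χ hχ hs
      show (χ : G → ℂ) τ * (χ : G → ℂ) τ * conj ((χ : G → ℂ) z) / (χ : G → ℂ) 1 = 0
      rw [D.minus_vanish κ hκs hκk hχ hs hτN hτP, zero_mul, zero_mul, zero_div]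
  -- the Y part
  have hY : ∑ θ ∈ Y, (θ : G → ℂ) τ * (θ : G → ℂ) τ * conj ((θ : G → ℂ) z) / (θ : G → ℂ) 1
      = (∑ θ ∈ Y, (θ : G → ℂ) τ * conj ((θ : G → ℂ) τ)) / ((1 + n * p : ℕ) : ℂ) := by
    rcases D.sign with hε | hε
    · rw [Finset.sum_eq_zero, Finset.sum_eq_zero, zero_div]
      · intro θ hθ
        rw [D.Y_vanish_plus κ hκs hκk hε hθ hτN hτP, zero_mul]
      · intro θ hθ
        rw [D.Y_vanish_plus κ hκs hκk hε hθ hτN hτP, zero_mul, zero_mul, zero_div]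
    · have hYne : Y.Nonempty := by rw [← Finset.card_pos, D.cardY]; exact D.toCPre.t_pos
      obtain ⟨θ₀, hθ₀⟩ := hYne
      obtain ⟨y, hypos, hy⟩ := D.toCPre.exists_y
      have hty := D.deg_theta hε hy
      have hreg : ¬ p ∣ orderOf τ := D.hyp.not_dvd_orderOf hτN hτP
      have hy0 : (y : ℂ) ≠ 0 := by exact_mod_cast hypos.ne'
      have h1 : ∀ θ ∈ Y, (θ : G → ℂ) τ * (θ : G → ℂ) τ * conj ((θ : G → ℂ) z) / (θ : G → ℂ) 1
          = (θ₀ : G → ℂ) τ * (θ₀ : G → ℂ) τ / (y : ℂ) * conj ((θ : G → ℂ) z) := by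
        intro θ hθ
        rw [D.agree θ hθ θ₀ hθ₀ τ hreg, apply_one, hy θ hθ]
        field_simp
      have h2 : ∀ θ ∈ Y, (θ : G → ℂ) τ * conj ((θ : G → ℂ) τ)
          = (θ₀ : G → ℂ) τ * (θ₀ : G → ℂ) τ := by
        intro θ hθ
        rw [D.agree θ hθ θ₀ hθ₀ τ hreg, conj_apply_of_involution θ₀ hτ]
      rw [Finset.sum_congr rfl h1, Finset.sum_congr rfl h2, ← Finset.mul_sum, ← map_sum,
        D.toCPre.sum_Y_apply hzP hz1, hε, Finset.sum_const, D.cardY, nsmul_eq_mul, ← hty]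
      have ht0 : (t : ℂ) ≠ 0 := by exact_mod_cast D.toCPre.t_pos.ne'
      push_cast
      simp only [map_neg, map_one, neg_neg, mul_one]
      field_simp
  rw [hX, hY, hZ, add_zero, add_div, add_assoc]

end

/-- the arithmetic of Step 6 -/
theorem step6_arith {p e t n : ℕ} (he : 1 ≤ e) (hp : 1 ≤ p) (hn : 1 ≤ n) (het : e * t = p - 1)
    (h : (e * (n + 1)) * (e * (n + 1)) * p + p * e * (1 + n)
      = p * e * ((1 + n * p) + e * (n + 1))) : t = n + 1 := by
  have hp' : p = e * t + 1 := by omega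
  have h1 : p * e * (e * (n + 1) * (n + 1) + (1 + n)) = p * e * ((1 + n * p) + e * (n + 1)) := by
    rw [← h]; ring
  have hpe : 0 < p * e := Nat.mul_pos hp he
  have h2 : e * (n + 1) * (n + 1) + (1 + n) = (1 + n * p) + e * (n + 1) :=
    Nat.eq_of_mul_eq_mul_left hpe h1
  rw [hp'] at h2
  have h3 : e * ((n + 1) * (n + 1)) = e * (n * t + (n + 1)) := by nlinarith
  have h4 : (n + 1) * (n + 1) = n * t + (n + 1) := Nat.eq_of_mul_eq_mul_left he h3
  have h5 : n * (n + 1) = n * t := by nlinarith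
  exact (Nat.eq_of_mul_eq_mul_left hn h5).symm

section

variable {G : Type*} [Group G] [Fintype G] [DecidableEq G] {p e t n : ℕ} [hp : Fact p.Prime] {z : G}
  {X Y : Finset (IrrCharacter G)} {εX : IrrCharacter G → ℤ} {ε : ℤ}
  [NeZero e] [Fintype (NN z)] (κ : NN z →* Multiplicative (ZMod e))

/-- Step 6: an involution of `N` forces `t = n + 1` -/
theorem CData.step6 (D : CData G p e t n z X Y εX ε) (hκs : Function.Surjective κ)
    (hκk : κ.ker = KK z) {τ : G} (hτN : τ ∈ NN z) (hτ : orderOf τ = 2)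
    (hc : Nat.card (centralizer ({τ} : Set G)) = e * (n + 1))
    (hpairs : Nat.card {q : G × G // IsConj τ q.1 ∧ IsConj τ q.2 ∧ q.1 * q.2 = z} = p) :
    t = n + 1 := by
  classical
  haveI : Fintype (IrrCharacter G) := Fintype.ofFinite _
  have hτP := D.involution_notMem hτ
  have h1 := card_conj_mul_conj_eq τ τ z
  have h2 := card_conj_pairs τ τ z
  rw [hpairs, hc] at h2
  rw [h2, D.classmult_sum κ hκs hκk hτN hτ, D.toCPre.card_G] at h1
  have h3 := D.card_centralizer_eq κ hκs hκk hτN hτP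
  rw [hc] at h3
  have hsyl := D.toCPre.syl_ne
  obtain ⟨S, hS⟩ : ∃ S : ℂ, S = ∑ χ ∈ Aset X εX, (χ : G → ℂ) τ * conj ((χ : G → ℂ) τ)
      + ∑ θ ∈ Y, (θ : G → ℂ) τ * conj ((θ : G → ℂ) τ) := ⟨_, rfl⟩
  rw [← hS] at h1
  rw [add_assoc, ← hS] at h3
  have h4 : (((e * (n + 1)) * (e * (n + 1)) * p + p * e * (1 + n) : ℕ) : ℂ)
      = ((p * e * ((1 + n * p) + e * (n + 1)) : ℕ) : ℂ) := by
    have h5 : (((p * e * (1 + n * p) : ℕ) : ℂ)) * (1 + S / ((1 + n * p : ℕ) : ℂ))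
        = ((p * e : ℕ) : ℂ) * (((1 + n * p : ℕ) : ℂ) + S) := by
      have h7 : ((p * e * (1 + n * p) : ℕ) : ℂ) = ((p * e : ℕ) : ℂ) * ((1 + n * p : ℕ) : ℂ) := by
        push_cast; ring
      rw [h7]
      generalize ((1 + n * p : ℕ) : ℂ) = Yc at hsyl ⊢
      field_simp
    rw [h5] at h1
    push_cast at h1 h3 ⊢
    linear_combination h1 - (p : ℂ) * (e : ℂ) * h3
  have h6 : (e * (n + 1)) * (e * (n + 1)) * p + p * e * (1 + n)
      = p * e * ((1 + n * p) + e * (n + 1)) := by exact_mod_cast h4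
  have he1 : 1 ≤ e := by have := D.he2; omega
  exact step6_arith he1 hp.out.pos D.hn1 D.het h6

end

end Cfsg.Agent.Lib.Helper9.Art
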