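import Mathlib
import Cfsg.Agent.Lib.Helper9.ArtM
import Cfsg.Agent.Lib.Helper4.ConjClass

set_option autoImplicit false
set_option linter.unusedSectionVars false
set_option linter.unusedVariables false
set_option linter.style.longLine false
set_option linter.unusedSimpArgs false

set_option maxHeartbeats 1600000
namespace Cfsg.Agent.Lib.Helper9.Art
open Subgroup Cfsg Cfsg.Agent.Lib.Helper6 Cfsg.Agent.Lib.Helper7.Bt
open scoped ComplexConjugate

section

variable {G : Type*} [Group G] [Fintype G] [DecidableEq G] {p e t n : ℕ} [hp : Fact p.Prime] {z : G}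
  {X Y : Finset (IrrCharacter G)} {εX : IrrCharacter G → ℤ} {ε : ℤ}
  [NeZero e] [Fintype (NN z)] (κ : NN z →* Multiplicative (ZMod e))

/-- orthogonality of the `lam` over `N` -/
theorem sum_lam_mul_conj_row (hκs : Function.Surjective κ) (j j' : ZMod e) :
    ∑ k : NN z, lam κ j k * conj (lam κ j' k)
      = if j = j' then (Nat.card (NN z) : ℂ) else 0 := by
  have h1 : ∀ k : NN z, lam κ j k * conj (lam κ j' k) = lam κ (j - j') k := by
    intro k
    rw [lam_conj]
    unfold lam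
    rw [← AddChar.map_add_eq_mul]
    congr 1
    ring
  rw [Finset.sum_congr rfl (fun k _ => h1 k), sum_lam_eq κ hκs (j - j')]
  simp only [sub_eq_zero]

/-- the norm of a sum of `lam` over `N` -/
theorem sum_N_Jsum (hκs : Function.Surjective κ) (J : Finset (ZMod e)) :
    ∑ k : NN z, (∑ j ∈ J, lam κ j k) * conj (∑ j ∈ J, lam κ j k)
      = (Nat.card (NN z) : ℂ) * (J.card : ℂ) := by
  classical
  have h1 : ∀ k : NN z, (∑ j ∈ J, lam κ j k) * conj (∑ j ∈ J, lam κ j k)
      = ∑ j ∈ J, ∑ j' ∈ J, lam κ j k * conj (lam κ j' k) := by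
    intro k
    rw [map_sum, Finset.sum_mul_sum]
  rw [Finset.sum_congr rfl (fun k _ => h1 k), Finset.sum_comm]
  have h2 : ∀ j ∈ J, ∑ k : NN z, ∑ j' ∈ J, lam κ j k * conj (lam κ j' k)
      = (Nat.card (NN z) : ℂ) := by
    intro j hj
    rw [Finset.sum_comm]
    rw [Finset.sum_congr rfl (fun j' _ => sum_lam_mul_conj_row κ hκs j j')]
    rw [Finset.sum_ite_eq J j, if_pos hj]
  rw [Finset.sum_congr rfl h2, Finset.sum_const, nsmul_eq_mul, mul_comm]

/-- the same sum over `N \\ P` -/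
theorem Hyp.sum_out_Jsum (h : Hyp G p z) (hκs : Function.Surjective κ) (hκk : κ.ker = KK z)
    (J : Finset (ZMod e)) :
    ∑ k : NN z, (if κ k = 1 then 0 else (∑ j ∈ J, lam κ j k) * conj (∑ j ∈ J, lam κ j k))
      + (p : ℂ) * ((J.card : ℂ) * (J.card : ℂ)) = (Nat.card (NN z) : ℂ) * (J.card : ℂ) := by
  classical
  rw [← sum_N_Jsum κ hκs J]
  have hsplit : ∀ F : NN z → ℂ, ∑ k : NN z, F k
      = ∑ k : NN z, (if κ k = 1 then F k else 0) + ∑ k : NN z, (if κ k = 1 then 0 else F k) := by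
    intro F
    rw [← Finset.sum_add_distrib]
    apply Finset.sum_congr rfl
    intro k _
    split_ifs <;> simp
  rw [hsplit (fun k => (∑ j ∈ J, lam κ j k) * conj (∑ j ∈ J, lam κ j k)), add_comm]
  congr 1
  have h1 : ∀ k : NN z, (if κ k = 1 then (∑ j ∈ J, lam κ j k) * conj (∑ j ∈ J, lam κ j k) else 0)
      = (if κ k = κ 1 then (J.card : ℂ) * (J.card : ℂ) else 0) := by
    intro k
    rw [map_one]
    split_ifs with hk
    · have h2 : ∑ j ∈ J, lam κ j k = (J.card : ℂ) := by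
        rw [Finset.sum_congr rfl (fun j _ => lam_of_mem_ker κ j (MonoidHom.mem_ker.mpr hk))]
        simp
      rw [h2, Complex.conj_natCast]
    · rfl
  rw [Finset.sum_congr rfl (fun k _ => h1 k), ← Finset.sum_filter, Finset.sum_const,
    h.card_fiber κ hκk 1, nsmul_eq_mul]

end

section

variable {G : Type*} [Group G] [Fintype G] [DecidableEq G] {p e t n : ℕ} [hp : Fact p.Prime] {z : G}
  {X Y : Finset (IrrCharacter G)} {εX : IrrCharacter G → ℤ} {ε : ℤ}
  [NeZero e] [Fintype (NN z)] (κ : NN z →* Multiplicative (ZMod e))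

theorem Hyp.sum_out_const (h : Hyp G p z) (hκk : κ.ker = KK z) (c : ℂ) :
    ∑ k : NN z, (if κ k = 1 then 0 else c) + (p : ℂ) * c = (Nat.card (NN z) : ℂ) * c := by
  classical
  have h1 : ∑ k : NN z, (if κ k = 1 then 0 else c) + ∑ k : NN z, (if κ k = κ 1 then c else 0)
      = ∑ _k : NN z, c := by
    rw [← Finset.sum_add_distrib]
    apply Finset.sum_congr rfl
    intro k _
    rw [map_one]
    split_ifs <;> simp
  rw [← Finset.sum_filter, Finset.sum_const, h.card_fiber κ hκk 1, nsmul_eq_mul,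
    Finset.sum_const, Finset.card_univ, nsmul_eq_mul, ← Nat.card_eq_fintype_card] at h1
  exact h1

/-- the sum of the `|χ(k)|²` over `N \\ P`, for `χ` in the principal block -/
theorem CData.sum_out_normSq (D : CData G p e t n z X Y εX ε) (hκs : Function.Surjective κ)
    (hκk : κ.ker = KK z) (χ' : IrrCharacter G) (hχ' : χ' ∈ X ∨ χ' ∈ Y) :
    ∑ k : NN z, (if κ k = 1 then 0 else (χ' : G → ℂ) k * conj ((χ' : G → ℂ) k))
      + (p : ℂ) * (((Jset κ (χ' : G → ℂ)).card : ℂ) * ((Jset κ (χ' : G → ℂ)).card : ℂ))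
      = (Nat.card (NN z) : ℂ) * ((Jset κ (χ' : G → ℂ)).card : ℂ) := by
  rw [← D.hyp.sum_out_Jsum κ hκs hκk (Jset κ (χ' : G → ℂ))]
  congr 1
  apply Finset.sum_congr rfl
  intro k _
  split_ifs with hk
  · rfl
  · have hkK : (k : G) ∉ zpowers z := by
      have : k ∉ KK z := by rw [← hκk, MonoidHom.mem_ker]; exact hk
      exact this
    rw [D.apply_eq_sum_Jset κ hκs hκk χ' hχ' k.2 hkK]

/-- the sum of the centralizer orders over `N \\ P` -/
theorem CData.sum_card_centralizer (D : CData G p e t n z X Y εX ε) (hκs : Function.Surjective κ)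
    (hκk : κ.ker = KK z) {θ₀ : IrrCharacter G} (hθ₀ : θ₀ ∈ Y) :
    ∑ k : NN z, (if κ k = 1 then 0 else (Nat.card (centralizer ({(k : G)} : Set G)) : ℂ))
      + (p : ℂ) * (1 + (n : ℂ))
      + ((Aset X εX).card : ℂ) * ((p : ℂ) * (((n : ℂ) + 1) * ((n : ℂ) + 1)))
      + (t : ℂ) * ((p : ℂ) * (((Jset κ (θ₀ : G → ℂ)).card : ℂ) * ((Jset κ (θ₀ : G → ℂ)).card : ℂ)))
      = (Nat.card (NN z) : ℂ) * (1 + (n : ℂ))
        + ((Aset X εX).card : ℂ) * ((Nat.card (NN z) : ℂ) * ((n : ℂ) + 1))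
        + (t : ℂ) * ((Nat.card (NN z) : ℂ) * ((Jset κ (θ₀ : G → ℂ)).card : ℂ)) := by
  classical
  have h1 : ∀ k : NN z, (if κ k = 1 then 0
        else (Nat.card (centralizer ({(k : G)} : Set G)) : ℂ))
      = (if κ k = 1 then 0 else (1 + (n : ℂ)))
        + ∑ χ ∈ Aset X εX, (if κ k = 1 then 0 else (χ : G → ℂ) k * conj ((χ : G → ℂ) k))
        + ∑ θ ∈ Y, (if κ k = 1 then 0 else (θ : G → ℂ) k * conj ((θ : G → ℂ) k)) := by
    intro k
    split_ifs with hk
    · simp
    · have hkK : (k : G) ∉ zpowers z := by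
        have : k ∉ KK z := by rw [← hκk, MonoidHom.mem_ker]; exact hk
        exact this
      exact D.card_centralizer_eq κ hκs hκk k.2 hkK
  rw [Finset.sum_congr rfl (fun k _ => h1 k), Finset.sum_add_distrib, Finset.sum_add_distrib,
    Finset.sum_comm, Finset.sum_comm (s := Finset.univ) (t := Y)]
  have hc := D.hyp.sum_out_const κ hκk (1 + (n : ℂ))
  have hA : ∑ χ ∈ Aset X εX, ∑ k : NN z,
      (if κ k = 1 then 0 else (χ : G → ℂ) k * conj ((χ : G → ℂ) k))
      + ((Aset X εX).card : ℂ) * ((p : ℂ) * (((n : ℂ) + 1) * ((n : ℂ) + 1)))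
      = ((Aset X εX).card : ℂ) * ((Nat.card (NN z) : ℂ) * ((n : ℂ) + 1)) := by
    have h2 : ∀ χ ∈ Aset X εX, ∑ k : NN z,
        (if κ k = 1 then 0 else (χ : G → ℂ) k * conj ((χ : G → ℂ) k))
        + (p : ℂ) * (((n : ℂ) + 1) * ((n : ℂ) + 1))
        = (Nat.card (NN z) : ℂ) * ((n : ℂ) + 1) := by
      intro χ hχ
      obtain ⟨hχX, hs, hne⟩ := mem_Aset.mp hχ
      have h3 := D.sum_out_normSq κ hκs hκk χ (Or.inl hχX)
      rw [D.card_Jset_plus κ hκs hκk hχX hs hne] at h3
      push_cast at h3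
      exact h3
    have h4 := Finset.sum_congr rfl h2
    rw [Finset.sum_add_distrib, Finset.sum_const, Finset.sum_const, nsmul_eq_mul,
      nsmul_eq_mul] at h4
    exact h4
  have hYs : ∑ θ ∈ Y, ∑ k : NN z,
      (if κ k = 1 then 0 else (θ : G → ℂ) k * conj ((θ : G → ℂ) k))
      + (t : ℂ) * ((p : ℂ) * (((Jset κ (θ₀ : G → ℂ)).card : ℂ)
          * ((Jset κ (θ₀ : G → ℂ)).card : ℂ)))
      = (t : ℂ) * ((Nat.card (NN z) : ℂ) * ((Jset κ (θ₀ : G → ℂ)).card : ℂ)) := by
    have h2 : ∀ θ ∈ Y, ∑ k : NN z,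
        (if κ k = 1 then 0 else (θ : G → ℂ) k * conj ((θ : G → ℂ) k))
        + (p : ℂ) * (((Jset κ (θ₀ : G → ℂ)).card : ℂ) * ((Jset κ (θ₀ : G → ℂ)).card : ℂ))
        = (Nat.card (NN z) : ℂ) * ((Jset κ (θ₀ : G → ℂ)).card : ℂ) := by
      intro θ hθ
      have h3 := D.sum_out_normSq κ hκs hκk θ (Or.inr hθ)
      rw [D.Jset_Y_eq κ hκk hθ hθ₀] at h3
      exact h3
    have h4 := Finset.sum_congr rfl h2
    rw [Finset.sum_add_distrib, Finset.sum_const, Finset.sum_const, nsmul_eq_mul,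
      nsmul_eq_mul, D.cardY] at h4
    exact h4
  linear_combination hc + hA + hYs

end

/-- family `F`: `v = 1` -/
theorem F_arith_v {p e t n y v : ℕ} (hp : 2 ≤ p) (het : e * t = p - 1) (ht0 : 0 < t)
    (hty : t * y = 1 + n * p) (htn : t = n + 1) (hv : y + e = p * v) : v = 1 := by
  obtain ⟨q, rfl⟩ : ∃ q, p = q + 1 := ⟨p - 1, by omega⟩
  have het' : e * t = q := by omega
  have h1 : t * (y + e) = t * ((q + 1) * v) := by rw [hv]
  have h2 : t * (y + e) = (q + 1) * t := by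
    have : t * (y + e) = t * y + e * t := by ring
    rw [this, hty, het', htn]; ring
  rw [h2] at h1
  have h3 : (q + 1) * t * 1 = (q + 1) * t * v := by
    calc (q + 1) * t * 1 = (q + 1) * t := mul_one _
      _ = t * ((q + 1) * v) := h1
      _ = (q + 1) * t * v := by ring
  have hpos : 0 < (q + 1) * t := Nat.mul_pos (by omega) ht0
  exact (Nat.eq_of_mul_eq_mul_left hpos h3).symm

/-- family `F`: the sum over the remaining fibres -/
theorem F_arith_sum {p e t a S R : ℕ} (he : e = 2 + a * t)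
    (h1 : S + p * e * t + p * t + a * (p * (t * t)) + t * p
      = p * e * t + a * (p * e * t) + t * (p * e))
    (hR : R + 2 * p = p * e) : S = R * e := by
  subst he
  have h2 : R = p * (a * t) := by nlinarith
  subst h2
  nlinarith

section

variable {G : Type*} [Group G] [Fintype G] [DecidableEq G] {p e t n : ℕ} [hp : Fact p.Prime] {z : G}
  {X Y : Finset (IrrCharacter G)} {εX : IrrCharacter G → ℤ} {ε : ℤ}
  [NeZero e] [Fintype (NN z)] (κ : NN z →* Multiplicative (ZMod e))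

omit [DecidableEq G] [Fintype (NN z)] in
theorem Hyp.le_card_centralizer (h : Hyp G p z) {k : NN z} (hk : k ∉ KK z) :
    Nat.card (NN z ⧸ KK z) ≤ Nat.card (centralizer ({(k : G)} : Set G)) := by
  rw [← h.card_commute_out hk]
  have hmem : ∀ b : {b : NN z // Commute k b}, ((b : NN z) : G) ∈ centralizer ({(k : G)} : Set G) := by
    intro b
    rw [Subgroup.mem_centralizer_singleton_iff]
    have := b.2.eq
    exact (congrArg Subtype.val this).symm
  apply Nat.card_le_card_of_injective (fun b : {b : NN z // Commute k b} =>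
    (⟨((b : NN z) : G), hmem b⟩ : centralizer ({(k : G)} : Set G)))
  intro b b' hbb
  have h1 : ((b : NN z) : G) = ((b' : NN z) : G) := by
    have := congrArg Subtype.val hbb
    exact this
  exact Subtype.ext (Subtype.ext h1)

end

section

variable {G : Type*} [Group G] [Fintype G] [DecidableEq G] {p e t n : ℕ} [hp : Fact p.Prime] {z : G}
  {X Y : Finset (IrrCharacter G)} {εX : IrrCharacter G → ℤ} {ε : ℤ}
  [NeZero e] [Fintype (NN z)] (κ : NN z →* Multiplicative (ZMod e))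

/-- family `F`: the numerical consequences `v = 1`, `e = 2 + a t` -/
theorem CData.F_numbers (D : CData G p e t n z X Y εX ε) (hκs : Function.Surjective κ)
    (hκk : κ.ker = KK z) (hε : ε = -1) (ht : t = n + 1) {θ₀ : IrrCharacter G} (hθ₀ : θ₀ ∈ Y) :
    (Jset κ (θ₀ : G → ℂ)).card = 1 ∧ e = 2 + (Aset X εX).card * t ∧ deg θ₀ + e = p := by
  obtain ⟨y, hypos, hy⟩ := D.toCPre.exists_y
  have hty := D.deg_theta hε hy
  have hv := D.card_Jset_Y κ hκs hκk hε hθ₀
  have hcount := D.count κ hκs hκk hθ₀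
  have hv1 : (Jset κ (θ₀ : G → ℂ)).card = 1 := by
    rw [hy θ₀ hθ₀] at hv
    exact F_arith_v hp.out.two_le D.het D.toCPre.t_pos hty ht hv
  rw [hv1] at hcount hv
  have he2 := D.he2
  refine ⟨hv1, ?_, by rw [hv, mul_one]⟩
  rw [ht]
  omega

/-- family `F`: the elements of `N \\ P` outside the fibre of the involution have centralizer of
order `e` -/
theorem CData.card_centralizer_F (D : CData G p e t n z X Y εX ε) (hκs : Function.Surjective κ)
    (hκk : κ.ker = KK z) (hε : ε = -1) (ht : t = n + 1) {τ : G} (hτN : τ ∈ NN z)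
    (hτ : orderOf τ = 2) (hc : Nat.card (centralizer ({τ} : Set G)) = e * (n + 1))
    {k₀ : NN z} (hk1 : κ k₀ ≠ 1) (hkτ : κ k₀ ≠ κ ⟨τ, hτN⟩) :
    Nat.card (centralizer ({(k₀ : G)} : Set G)) = e := by
  classical
  have hY : Y.Nonempty := by rw [← Finset.card_pos, D.cardY]; exact D.toCPre.t_pos
  obtain ⟨θ₀, hθ₀⟩ := hY
  obtain ⟨hv1, hea, _⟩ := D.F_numbers κ hκs hκk hε ht hθ₀
  have hτP := D.involution_notMem hτ
  have hτ1 : κ ⟨τ, hτN⟩ ≠ 1 := by
    intro h1
    have : (⟨τ, hτN⟩ : NN z) ∈ KK z := by rw [← hκk, MonoidHom.mem_ker]; exact h1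
    exact hτP this
  obtain ⟨a, hadef⟩ : ∃ a, a = (Aset X εX).card := ⟨_, rfl⟩
  rw [← hadef] at hea
  -- the sum identity in `ℕ`
  have hsumC := D.sum_card_centralizer κ hκs hκk hθ₀
  rw [hv1, ← hadef, D.hyp.card_N, D.he] at hsumC
  have hsumN : ∑ k : NN z, (if κ k = 1 then 0 else Nat.card (centralizer ({(k : G)} : Set G)))
      + p * (1 + n) + a * (p * ((n + 1) * (n + 1))) + t * (p * (1 * 1))
      = p * e * (1 + n) + a * (p * e * (n + 1)) + t * (p * e * 1) := by
    exact_mod_cast hsumC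
  -- splitting off the fibre of `τ`
  have hsplit : ∑ k : NN z, (if κ k = 1 then 0 else Nat.card (centralizer ({(k : G)} : Set G)))
      = ∑ k : NN z, (if κ k = κ ⟨τ, hτN⟩ then Nat.card (centralizer ({(k : G)} : Set G)) else 0)
        + ∑ k ∈ Finset.univ.filter (fun k : NN z => κ k ≠ 1 ∧ κ k ≠ κ ⟨τ, hτN⟩),
            Nat.card (centralizer ({(k : G)} : Set G)) := by
    rw [Finset.sum_filter, ← Finset.sum_add_distrib]
    apply Finset.sum_congr rfl
    intro k _
    by_cases h1 : κ k = 1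
    · rw [if_pos h1, if_neg (fun h : κ k = κ ⟨τ, hτN⟩ => hτ1 (h.symm.trans h1)),
        if_neg (fun h : κ k ≠ 1 ∧ κ k ≠ κ ⟨τ, hτN⟩ => h.1 h1), add_zero]
    · by_cases h2 : κ k = κ ⟨τ, hτN⟩
      · rw [if_neg h1, if_pos h2,
          if_neg (fun h : κ k ≠ 1 ∧ κ k ≠ κ ⟨τ, hτN⟩ => h.2 h2), add_zero]
      · rw [if_neg h1, if_neg h2, if_pos ⟨h1, h2⟩, zero_add]
  have hfib : ∑ k : NN z,
      (if κ k = κ ⟨τ, hτN⟩ then Nat.card (centralizer ({(k : G)} : Set G)) else 0)
      = p * (e * (n + 1)) := by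
    have h1 : ∀ k : NN z,
        (if κ k = κ ⟨τ, hτN⟩ then Nat.card (centralizer ({(k : G)} : Set G)) else 0)
        = (if κ k = κ ⟨τ, hτN⟩ then e * (n + 1) else 0) := by
      intro k
      split_ifs with hk
      · have hmem : k * (⟨τ, hτN⟩ : NN z)⁻¹ ∈ KK z := by
          rw [← hκk, MonoidHom.mem_ker, map_mul, map_inv, hk, mul_inv_cancel]
        have hmem' : (k : G) * τ⁻¹ ∈ zpowers z := hmem
        obtain ⟨y, _, hy⟩ := D.hyp.exists_conj_of_coset hτN hτP hmem'
        rw [← hc]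
        exact (Cfsg.Agent.Lib.Helper4.card_centralizer_eq_of_isConj
          (isConj_iff.mpr ⟨y, hy⟩)).symm
      · rfl
    rw [Finset.sum_congr rfl (fun k _ => h1 k), ← Finset.sum_filter, Finset.sum_const,
      D.hyp.card_fiber κ hκk ⟨τ, hτN⟩, smul_eq_mul]
  -- the number of remaining elements
  have hR : (Finset.univ.filter (fun k : NN z => κ k ≠ 1 ∧ κ k ≠ κ ⟨τ, hτN⟩)).card + 2 * p
      = p * e := by
    have h1 : (Finset.univ.filter (fun k : NN z => κ k ≠ 1 ∧ κ k ≠ κ ⟨τ, hτN⟩)).card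
        + ((Finset.univ.filter (fun k : NN z => κ k = κ (1 : NN z))).card
          + (Finset.univ.filter (fun k : NN z => κ k = κ ⟨τ, hτN⟩)).card)
        = (Finset.univ : Finset (NN z)).card := by
      rw [Finset.card_filter, Finset.card_filter, Finset.card_filter, ← Finset.sum_add_distrib,
        ← Finset.sum_add_distrib, Finset.card_eq_sum_ones]
      apply Finset.sum_congr rfl
      intro k _
      rw [map_one]
      by_cases h1 : κ k = 1
      · rw [if_pos h1, if_neg (fun h : κ k = κ ⟨τ, hτN⟩ => hτ1 (h.symm.trans h1)),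
          if_neg (fun h : κ k ≠ 1 ∧ κ k ≠ κ ⟨τ, hτN⟩ => h.1 h1)]
        rfl
      · by_cases h2 : κ k = κ ⟨τ, hτN⟩
        · rw [if_neg h1, if_pos h2,
            if_neg (fun h : κ k ≠ 1 ∧ κ k ≠ κ ⟨τ, hτN⟩ => h.2 h2)]
          rfl
        · rw [if_neg h1, if_neg h2, if_pos ⟨h1, h2⟩]
          rfl
    rw [D.hyp.card_fiber κ hκk 1, D.hyp.card_fiber κ hκk ⟨τ, hτN⟩, Finset.card_univ,
      ← Nat.card_eq_fintype_card, D.hyp.card_N, D.he] at h1
    omega
  -- conclusion
  rw [hsplit, hfib] at hsumN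
  have hSR : ∑ k ∈ Finset.univ.filter (fun k : NN z => κ k ≠ 1 ∧ κ k ≠ κ ⟨τ, hτN⟩),
      Nat.card (centralizer ({(k : G)} : Set G))
      = (Finset.univ.filter (fun k : NN z => κ k ≠ 1 ∧ κ k ≠ κ ⟨τ, hτN⟩)).card * e := by
    apply F_arith_sum (p := p) (t := t) (a := a) hea _ hR
    rw [← ht] at hsumN
    have h1 : 1 + n = t := by omega
    rw [h1] at hsumN
    linarith
  have hle : ∀ k ∈ Finset.univ.filter (fun k : NN z => κ k ≠ 1 ∧ κ k ≠ κ ⟨τ, hτN⟩),
      e ≤ Nat.card (centralizer ({(k : G)} : Set G)) := by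
    intro k hk
    rw [Finset.mem_filter] at hk
    have hkK : k ∉ KK z := by rw [← hκk, MonoidHom.mem_ker]; exact hk.2.1
    have := D.hyp.le_card_centralizer hkK
    rw [D.he] at this
    exact this
  have hconst : ∑ _k ∈ Finset.univ.filter (fun k : NN z => κ k ≠ 1 ∧ κ k ≠ κ ⟨τ, hτN⟩), e
      = ∑ k ∈ Finset.univ.filter (fun k : NN z => κ k ≠ 1 ∧ κ k ≠ κ ⟨τ, hτN⟩),
        Nat.card (centralizer ({(k : G)} : Set G)) := by
    rw [hSR, Finset.sum_const, smul_eq_mul]
  have hall := (Finset.sum_eq_sum_iff_of_le hle).mp hconst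
  exact (hall k₀ (Finset.mem_filter.mpr ⟨Finset.mem_univ _, hk1, hkτ⟩)).symm

end

end Cfsg.Agent.Lib.Helper9.Art
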