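import Mathlib
import Cfsg.Agent.Lib.Helper9.ArtN
import Cfsg.Agent.Lib.Helper8.ArtW
import Cfsg.Agent.Lib.Helper7.BReyI

set_option autoImplicit false
set_option linter.unusedSectionVars false
set_option linter.unusedVariables false
set_option linter.style.longLine false
set_option linter.unusedSimpArgs false

set_option maxHeartbeats 1600000
namespace Cfsg.Agent.Lib.Helper9.Art
open Subgroup Cfsg Cfsg.Agent.Lib.Helper6 Cfsg.Agent.Lib.Helper7.Bt
open scoped ComplexConjugate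

section

variable {G : Type*} [Group G] [Fintype G] [DecidableEq G] {p e t n : ℕ} [hp : Fact p.Prime] {z : G}
  {X Y : Finset (IrrCharacter G)} {εX : IrrCharacter G → ℤ} {ε : ℤ}
  [NeZero e] [Fintype (NN z)] (κ : NN z →* Multiplicative (ZMod e))

/-- the number of Sylow subgroups fixed by an element of `N \\ P` -/
theorem CData.fixedBy_card (D : CData G p e t n z X Y εX ε) (hκs : Function.Surjective κ)
    (hκk : κ.ker = KK z) {k : G} (hk : k ∈ NN z) (hkP : k ∉ zpowers z) :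
    (MulAction.fixedBy (Sylow p G) k).ncard = n + 1 := by
  obtain ⟨S₀, hS₀⟩ := D.hyp.exists_sylow
  have h1 := Cfsg.Agent.Lib.Helper8.ArtV.indFun_one_normalizer_eq_fixedBy p S₀ k
  rw [hS₀] at h1
  have h2 := D.piChar_zero_apply κ hκs hκk hk hkP
  have h3 : piChar κ 0 = indFun (NN z) (fun _ => (1 : ℂ)) := by
    unfold piChar
    congr 1
    funext h
    exact lam_zero κ h
  rw [h3, h1] at h2
  exact_mod_cast h2

/-- the centralizer of an involution of `N` -/
theorem CData.card_centralizer_involution (D : CData G p e t n z X Y εX ε)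
    (hκs : Function.Surjective κ) (hκk : κ.ker = KK z) {τ : G} (hτN : τ ∈ NN z)
    (hτ : orderOf τ = 2) : Nat.card (centralizer ({τ} : Set G)) = e * (n + 1) := by
  have hN : Nat.card (NN z) = p * e := by rw [D.hyp.card_N, D.he]
  rw [Cfsg.Agent.Lib.Helper7.BReyI.card_centralizer_involution p D.hyp.hz D.hyp.hC D.hp2 e hN τ hτ
    hτN, D.fixedBy_card κ hκs hκk hτN (D.involution_notMem hτ)]

omit [DecidableEq G] [Fintype (NN z)] in
/-- if the centralizer in `G` of `k ∈ N \\ P` is as small as its centralizer in `N`, it lies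
in `N` -/
theorem Hyp.mem_N_of_commute (h : Hyp G p z) {k : NN z} (hk : k ∉ KK z)
    (hcard : Nat.card (centralizer ({(k : G)} : Set G)) = Nat.card (NN z ⧸ KK z)) {g : G}
    (hg : g * (k : G) = (k : G) * g) : g ∈ NN z := by
  have hmem : ∀ b : {b : NN z // Commute k b}, ((b : NN z) : G) ∈ centralizer ({(k : G)} : Set G) := by
    intro b
    rw [Subgroup.mem_centralizer_singleton_iff]
    have := b.2.eq
    exact (congrArg Subtype.val this).symm
  have hinj : Function.Injective (fun b : {b : NN z // Commute k b} =>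
      (⟨((b : NN z) : G), hmem b⟩ : centralizer ({(k : G)} : Set G))) := by
    intro b b' hbb
    have h1 : ((b : NN z) : G) = ((b' : NN z) : G) := by
      have := congrArg Subtype.val hbb
      exact this
    exact Subtype.ext (Subtype.ext h1)
  have hbij := hinj.bijective_of_nat_card_le (by rw [hcard, h.card_commute_out hk])
  have hgC : g ∈ centralizer ({(k : G)} : Set G) := by
    rw [Subgroup.mem_centralizer_singleton_iff]; exact hg
  obtain ⟨b, hb⟩ := hbij.2 ⟨g, hgC⟩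
  have h2 : ((b : NN z) : G) = g := congrArg Subtype.val hb
  rw [← h2]
  exact (b : NN z).2

/-- family `F`: the hypothesis `hE` of the Fermat end -/
theorem CData.hE (D : CData G p e t n z X Y εX ε) (hκs : Function.Surjective κ)
    (hκk : κ.ker = KK z) (hε : ε = -1) (ht : t = n + 1) {τ : G} (hτN : τ ∈ NN z)
    (hτ : orderOf τ = 2) :
    ∀ h : G, h ∈ centralizer ({τ} : Set G) → h ∈ NN z → h ≠ 1 → h ≠ τ →
      ∀ g : G, g * h = h * g → g ∈ centralizer ({τ} : Set G) ∧ g ∈ NN z := by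
  intro h hCτ hN h1 hτne g hg
  have hc := D.card_centralizer_involution κ hκs hκk hτN hτ
  have hτP := D.involution_notMem hτ
  have hcomm : h * τ = τ * h := Subgroup.mem_centralizer_singleton_iff.mp hCτ
  -- `h ∉ P`
  have hhP : h ∉ zpowers z := by
    intro hmem
    exact D.hyp.not_commute hτP hmem h1 hcomm.symm
  have hk1 : κ ⟨h, hN⟩ ≠ 1 := by
    intro hk
    have : (⟨h, hN⟩ : NN z) ∈ KK z := by rw [← hκk, MonoidHom.mem_ker]; exact hk
    exact hhP this
  have hkτ : κ ⟨h, hN⟩ ≠ κ ⟨τ, hτN⟩ := by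
    intro hk
    have hmem : (⟨h, hN⟩ : NN z) * (⟨τ, hτN⟩ : NN z)⁻¹ ∈ KK z := by
      rw [← hκk, MonoidHom.mem_ker, map_mul, map_inv, hk, mul_inv_cancel]
    have hmem' : h * τ⁻¹ ∈ zpowers z := hmem
    by_cases hx1 : h * τ⁻¹ = 1
    · exact hτne (mul_inv_eq_one.mp hx1)
    · apply D.hyp.not_commute hτP hmem' hx1
      show τ * (h * τ⁻¹) = h * τ⁻¹ * τ
      rw [← mul_assoc, ← hcomm]
      group
  have hcard := D.card_centralizer_F κ hκs hκk hε ht hτN hτ hc hk1 hkτ
  have hkK : (⟨h, hN⟩ : NN z) ∉ KK z := by rw [← hκk, MonoidHom.mem_ker]; exact hk1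
  have hgN : g ∈ NN z := D.hyp.mem_N_of_commute hkK (by rw [D.he]; exact hcard) hg
  refine ⟨?_, hgN⟩
  -- `g` commutes with `τ`
  rw [Subgroup.mem_centralizer_singleton_iff]
  have hcK : (⟨g, hgN⟩ : NN z) * ⟨τ, hτN⟩ * (⟨g, hgN⟩ : NN z)⁻¹ * (⟨τ, hτN⟩ : NN z)⁻¹ ∈ KK z := by
    rw [← hκk, MonoidHom.mem_ker, map_mul, map_mul, map_mul, map_inv, map_inv]
    rw [mul_comm (κ ⟨g, hgN⟩), mul_assoc (κ ⟨τ, hτN⟩), mul_inv_cancel, mul_one, mul_inv_cancel]
  have hcP : g * τ * g⁻¹ * τ⁻¹ ∈ zpowers z := hcK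
  by_cases hc1 : g * τ * g⁻¹ * τ⁻¹ = 1
  · have : g * τ * g⁻¹ = τ := by
      rw [mul_inv_eq_one] at hc1; exact hc1
    calc g * τ = g * τ * g⁻¹ * g := by group
      _ = τ * g := by rw [this]
  · exfalso
    apply D.hyp.not_commute hhP hcP hc1
    show h * (g * τ * g⁻¹ * τ⁻¹) = g * τ * g⁻¹ * τ⁻¹ * h
    have e1 : h * g = g * h := hg.symm
    have e2 : h * g⁻¹ = g⁻¹ * h := by
      rw [eq_inv_mul_iff_mul_eq, ← mul_assoc, hg, mul_assoc, mul_inv_cancel, mul_one]
    have e3 : h * τ⁻¹ = τ⁻¹ * h := by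
      rw [eq_inv_mul_iff_mul_eq, ← mul_assoc, ← hcomm, mul_assoc, mul_inv_cancel, mul_one]
    calc h * (g * τ * g⁻¹ * τ⁻¹) = (h * g) * τ * g⁻¹ * τ⁻¹ := by group
      _ = g * (h * τ) * g⁻¹ * τ⁻¹ := by rw [e1]; group
      _ = g * τ * (h * g⁻¹) * τ⁻¹ := by rw [hcomm]; group
      _ = g * τ * g⁻¹ * (h * τ⁻¹) := by rw [e2]; group
      _ = g * τ * g⁻¹ * τ⁻¹ * h := by rw [e3]; group

end

end Cfsg.Agent.Lib.Helper9.Art
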