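import Mathlib
import Cfsg.Agent.Lib.Helper9.ArtO

set_option autoImplicit false
set_option linter.unusedSectionVars false
set_option linter.unusedVariables false
set_option linter.style.longLine false
set_option linter.unusedSimpArgs false

set_option maxHeartbeats 1600000
namespace Cfsg.Agent.Lib.Helper9.Art
open Subgroup Cfsg Cfsg.Agent.Lib.Helper6 Cfsg.Agent.Lib.Helper7.Bt
open scoped ComplexConjugate

section

variable {G : Type*} [Group G] [Fintype G] [DecidableEq G] {p e t n : ℕ} [hp : Fact p.Prime] {z : G}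
  {X Y : Finset (IrrCharacter G)} {εX : IrrCharacter G → ℤ} {ε : ℤ}
  [NeZero e] [Fintype (NN z)] (κ : NN z →* Multiplicative (ZMod e))

/-- `ε = -1`: the exceptional characters vanish at the `p`-regular elements which are not
conjugate into `N` -/
theorem CData.Y_vanish_off (D : CData G p e t n z X Y εX ε) (hκs : Function.Surjective κ)
    (hκk : κ.ker = KK z) (hε : ε = -1) {θ : IrrCharacter G} (hθ : θ ∈ Y) {g : G}
    (hreg : ¬ p ∣ orderOf g) (hnc : ∀ b : G, b * g * b⁻¹ ∉ NN z) : (θ : G → ℂ) g = 0 := by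
  classical
  haveI : Fintype (IrrCharacter G) := Fintype.ofFinite _
  have hv := D.card_Jset_Y κ hκs hκk hε hθ
  have hne : (Jset κ (θ : G → ℂ)).Nonempty := by
    rw [← Finset.card_pos]
    by_contra h0
    have h1 : (Jset κ (θ : G → ℂ)).card = 0 := by omega
    rw [h1, mul_zero] at hv
    have := D.he2
    omega
  obtain ⟨j, hj⟩ := hne
  have hθne : θ ≠ oneIrr G := fun h => D.disj _ D.one_mem (h ▸ hθ)
  have hj0 : j ≠ 0 := by
    rintro rfl
    exact D.zero_notMem_Jset κ hκs hκk θ (Or.inr hθ) hθne hj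
  rw [mem_Jset] at hj
  rcases D.fact1_ne κ hκs hκk hj0 with ⟨χ₁, hχ₁, _, _, h⟩ | ⟨_, h⟩
  · exfalso
    have h2 := h θ
    rw [hj] at h2
    have h3 : θ = χ₁ := by
      by_contra hc
      rw [if_neg hc] at h2
      norm_num at h2
    exact D.disj _ (h3 ▸ hχ₁) hθ
  · obtain ⟨m, hm, hmi⟩ := IsCharacter.exists_mult (piChar_isCharacter κ j)
    have h0 : piChar κ j g = 0 := by
      unfold piChar
      apply IndFunMore.indFun_eq_zero_of_not_conj
      intro x
      have := hnc x⁻¹
      rwa [inv_inv] at this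
    rw [apply_eq_sum_mult hm g] at h0
    have h1 : ∑ θ' : IrrCharacter G, (m θ' : ℂ) * (θ' : G → ℂ) g = (t : ℂ) * (θ : G → ℂ) g := by
      have h2 : ∀ θ' : IrrCharacter G, (m θ' : ℂ) * (θ' : G → ℂ) g
          = if θ' ∈ Y then (θ : G → ℂ) g else 0 := by
        intro θ'
        rw [← hmi θ', h θ']
        split_ifs with hY
        · rw [one_mul, D.agree θ' hY θ hθ g hreg]
        · rw [zero_mul]
      rw [Finset.sum_congr rfl (fun θ' _ => h2 θ'), ← Finset.sum_filter, Finset.sum_const,
        nsmul_eq_mul]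
      congr 2
      rw [Finset.filter_mem_eq_inter, Finset.univ_inter, D.cardY]
    rw [h1] at h0
    have ht0 : (t : ℂ) ≠ 0 := by exact_mod_cast D.toCPre.t_pos.ne'
    exact (mul_eq_zero.mp h0).resolve_left ht0

/-- the hypothesis `hD` of the Fermat end -/
theorem CData.hD (D : CData G p e t n z X Y εX ε) (hκs : Function.Surjective κ)
    (hκk : κ.ker = KK z) (hε : ε = -1) {y : ℕ} (hy : ∀ θ ∈ Y, deg θ = y) (m : G) (r k : ℕ)
    (hr : r.Prime) (hm : orderOf m = r ^ k) (hnc : ∀ b : G, b * m * b⁻¹ ∉ NN z) : r ∣ y := by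
  have hY : Y.Nonempty := by rw [← Finset.card_pos, D.cardY]; exact D.toCPre.t_pos
  obtain ⟨θ, hθ⟩ := hY
  -- `k ≠ 0`
  have hk0 : k ≠ 0 := by
    rintro rfl
    rw [pow_zero, orderOf_eq_one_iff] at hm
    have h0 := hnc 1
    rw [hm] at h0
    have h1 : (1 : G) * 1 * 1⁻¹ = 1 := by group
    rw [h1] at h0
    exact h0 (Subgroup.one_mem _)
  -- `r ≠ p`
  have hrp : r ≠ p := by
    rintro rfl
    have hdvd : r ∣ orderOf m := by rw [hm]; exact dvd_pow_self r hk0
    obtain ⟨a, ha⟩ := D.hyp.exists_conj_mem hdvd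
    exact hnc a (P_le_N z ha)
  have hdvd : r ∣ orderOf m := by rw [hm]; exact dvd_pow_self r hk0
  have hvan : ∀ i : ℕ, ¬ r ∣ i → (θ : G → ℂ) (m ^ i) = 0 := by
    intro i hi
    have hcop : Nat.Coprime i (orderOf m) := by
      rw [hm]
      apply Nat.Coprime.pow_right
      rw [Nat.coprime_comm]
      exact (Nat.Prime.coprime_iff_not_dvd hr).mpr hi
    apply D.Y_vanish_off κ hκs hκk hε hθ
    · -- `p`-regular
      intro hp'
      have h1 : orderOf (m ^ i) ∣ r ^ k := by
        rw [← hm]; exact orderOf_pow_dvd i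
      have h2 : p ∣ r ^ k := dvd_trans hp' h1
      have h3 : p ∣ r := hp.out.dvd_of_dvd_pow h2
      exact hrp ((Nat.prime_dvd_prime_iff_eq hp.out hr).mp h3).symm
    · -- not conjugate into `N`
      intro b hb
      apply hnc b
      -- `m` is a power of `m ^ i`
      have hgt : 1 < orderOf m := by
        rw [hm]
        exact Nat.one_lt_pow hk0 hr.one_lt
      obtain ⟨u, _, hu⟩ := Nat.exists_mul_mod_eq_one_of_coprime hcop hgt
      have hpow : (m ^ i) ^ u = m := by
        rw [← pow_mul, ← pow_mod_orderOf, hu, pow_one]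
      rw [← hpow, ← conj_pow]
      exact pow_mem hb u
  have h1 := Cfsg.Agent.Lib.Helper8.ArtV.dvd_degree_of_vanish (θ : G → ℂ)
    (IsIrrCharacter.isCharacter θ.2) m r hr hdvd hvan
  have h2 : Cfsg.charDegree (θ : G → ℂ) = y := by
    have h3 := IsCharacter.apply_one_eq_charDegree (IsIrrCharacter.isCharacter θ.2)
    rw [apply_one, hy θ hθ] at h3
    exact_mod_cast h3.symm
  rw [h2] at h1
  exact h1

end

section

variable {G : Type*} [Group G] [Fintype G] [DecidableEq G] {p e t n : ℕ} [hp : Fact p.Prime] {z : G}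
  {X Y : Finset (IrrCharacter G)} {εX : IrrCharacter G → ℤ} {ε : ℤ}
  [NeZero e] [Fintype (NN z)] (κ : NN z →* Multiplicative (ZMod e))

/-- Step 7: `ε = -1` and `e` odd is impossible -/
theorem CData.step7 (D : CData G p e t n z X Y εX ε) (hκs : Function.Surjective κ)
    (hκk : κ.ker = KK z) (hε : ε = -1) (he : ¬ Even e) : False := by
  classical
  have hY : Y.Nonempty := by rw [← Finset.card_pos, D.cardY]; exact D.toCPre.t_pos
  obtain ⟨θ₀, hθ₀⟩ := hY
  obtain ⟨y, hypos, hy⟩ := D.toCPre.exists_y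
  have hty := D.deg_theta hε hy
  have het := D.het
  have hpne : ¬ Even p := by
    rw [Nat.not_even_iff_odd]
    exact hp.out.odd_of_ne_two D.hp2
  -- `t` is even
  have hteven : Even t := by
    have h1 : Even (e * t) := by
      rw [het]
      exact hp.out.even_sub_one D.hp2
    exact (Nat.even_mul.mp h1).resolve_left he
  -- an involution
  have hG : 2 ∣ Nat.card G := by
    rw [D.toCPre.card_G, ← hty]
    exact Dvd.dvd.mul_left (Dvd.dvd.mul_right hteven.two_dvd y) _
  haveI : Fact (Nat.Prime 2) := ⟨Nat.prime_two⟩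
  obtain ⟨τ, hτ⟩ := exists_prime_orderOf_dvd_card' 2 hG
  have hnc : ∀ b : G, b * τ * b⁻¹ ∉ NN z := by
    intro b hb
    have h1 : orderOf (b * τ * b⁻¹) = 2 := by
      have := (MulAut.conj b).orderOf_eq τ
      rw [MulAut.conj_apply] at this
      rw [this, hτ]
    have h2 : 2 ∣ Nat.card (NN z) := by
      rw [← h1]
      exact Subgroup.orderOf_dvd_natCard _ hb
    rw [D.hyp.card_N, D.he] at h2
    have h3 : Even (p * e) := even_iff_two_dvd.mpr h2
    rcases Nat.even_mul.mp h3 with h4 | h4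
    · exact hpne h4
    · exact he h4
  have h2y : 2 ∣ y :=
    D.hD κ hκs hκk hε hy τ 2 1 Nat.prime_two (by rw [hτ, pow_one]) hnc
  have hyeven : Even y := even_iff_two_dvd.mpr h2y
  -- parities
  have hv := D.card_Jset_Y κ hκs hκk hε hθ₀
  rw [hy θ₀ hθ₀] at hv
  have hcount := D.count κ hκs hκk hθ₀
  obtain ⟨v, hvdef⟩ : ∃ v, v = (Jset κ (θ₀ : G → ℂ)).card := ⟨_, rfl⟩
  rw [← hvdef] at hv hcount
  have hvne : ¬ Even v := by
    intro hveven
    have h1 : Even (p * v) := Nat.even_mul.mpr (Or.inr hveven)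
    rw [← hv, Nat.even_add] at h1
    exact he (h1.mp hyeven)
  have hnne : ¬ Even n := by
    intro hneven
    have h1 : Even (t * y) := Nat.even_mul.mpr (Or.inl hteven)
    rw [hty, Nat.even_add] at h1
    have h2 : Even (n * p) := Nat.even_mul.mpr (Or.inl hneven)
    have h3 : Even 1 := h1.mpr h2
    exact Nat.not_even_one h3
  have hn1even : Even (n + 1) := Nat.even_add_one.mpr hnne
  have he1even : Even (e - 1) := by
    have h1 : Odd e := Nat.not_even_iff_odd.mp he
    obtain ⟨q, hq⟩ := h1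
    exact ⟨q, by omega⟩
  rw [hcount, Nat.even_add] at he1even
  have h5 : Even ((Aset X εX).card * (n + 1)) := Nat.even_mul.mpr (Or.inr hn1even)
  exact hvne (he1even.mp h5)

end

end Cfsg.Agent.Lib.Helper9.Art
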