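import Mathlib
import Cfsg.Agent.Lib.Helper9.ArtP
import Cfsg.Agent.Lib.Helper7.BReyC
import Cfsg.Agent.Lib.Helper7.BReyF

set_option autoImplicit false
set_option linter.unusedSectionVars false
set_option linter.unusedVariables false
set_option linter.style.longLine false
set_option linter.unusedSimpArgs false

set_option maxHeartbeats 1600000
namespace Cfsg.Agent.Lib.Helper9.Art
open Subgroup Cfsg Cfsg.Agent.Lib.Helper6 Cfsg.Agent.Lib.Helper7.Bt
open scoped ComplexConjugate

section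

variable {G : Type*} [Group G] [Fintype G] [DecidableEq G] {p e t n : ℕ} [hp : Fact p.Prime] {z : G}
  {X Y : Finset (IrrCharacter G)} {εX : IrrCharacter G → ℤ} {ε : ℤ}
  [NeZero e] [Fintype (NN z)] (κ : NN z →* Multiplicative (ZMod e))

omit [DecidableEq G] [NeZero e] [Fintype (NN z)] in
/-- an involution in `N` when `e` is even -/
theorem CData.exists_involution (D : CData G p e t n z X Y εX ε) (he : Even e) :
    ∃ τ : G, τ ∈ NN z ∧ orderOf τ = 2 := by
  have h2 : 2 ∣ Nat.card (NN z) := by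
    rw [D.hyp.card_N, D.he]
    exact Dvd.dvd.mul_left he.two_dvd p
  haveI : Fact (Nat.Prime 2) := ⟨Nat.prime_two⟩
  obtain ⟨τ, hτ⟩ := exists_prime_orderOf_dvd_card' 2 h2
  refine ⟨(τ : G), τ.2, ?_⟩
  rw [Subgroup.orderOf_coe, hτ]

/-- an involution in `N` forces `t = n + 1` -/
theorem CData.t_eq_of_involution (D : CData G p e t n z X Y εX ε) (hκs : Function.Surjective κ)
    (hκk : κ.ker = KK z) {τ : G} (hτN : τ ∈ NN z) (hτ : orderOf τ = 2) : t = n + 1 := by
  have hc := D.card_centralizer_involution κ hκs hκk hτN hτ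
  have hpairs := Cfsg.Agent.Lib.Helper7.BReyI.card_involution_pairs p D.hyp.hz D.hyp.hC D.hp2 τ hτ
    hτN
  exact D.step6 κ hκs hκk hτN hτ hc hpairs

/-- the case `ε = 1` with `n ≥ 2` is impossible -/
theorem CData.plus_false (D : CData G p e t n z X Y εX ε) (hκs : Function.Surjective κ)
    (hκk : κ.ker = KK z) (hε : ε = 1) (hn2 : 2 ≤ n) : False := by
  have hY : Y.Nonempty := by rw [← Finset.card_pos, D.cardY]; exact D.toCPre.t_pos
  obtain ⟨θ₀, hθ₀⟩ := hY
  have hcount := D.count κ hκs hκk hθ₀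
  rw [D.card_Jset_Y_plus κ hκs hκk hε hθ₀, add_zero] at hcount
  have h5 := D.step5 κ hκs hκk hε
  have hnt := step5_arith D.he2 D.het hp.out.pos hcount h5
  have htpos := D.toCPre.t_pos
  have ht1 : t = 1 := by
    by_contra hne
    have ht2 : 2 ≤ t := by omega
    have : n * 2 ≤ n * t := Nat.mul_le_mul_left n ht2
    omega
  -- `e = p - 1` is even
  have het := D.het
  rw [ht1, mul_one] at het
  have heven : Even e := by
    rw [het]
    exact hp.out.even_sub_one D.hp2
  obtain ⟨τ, hτN, hτ⟩ := D.exists_involution heven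
  have := D.t_eq_of_involution κ hκs hκk hτN hτ
  omega

end

/-- the main theorem, under the arithmetical hypothesis on the number of Sylow subgroups -/
theorem brauer_of_arith {G : Type*} [Group G] [Finite G] (hperf : commutator G = ⊤) (p : ℕ)
    [hp : Fact p.Prime] (z : G) (hz : orderOf z = p)
    (hC : Subgroup.centralizer ({z} : Set G) = Subgroup.zpowers z)
    (harith : ∀ n : ℕ, Nat.card (Sylow p G) = 1 + n * p →
      ∀ u : ℕ, 1 ≤ u → (1 + u * p) ∣ (p - 1) * (1 + n * p) → u = n) :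
    (∃ (F : Type) (_ : Field F) (_ : Fintype F), Fintype.card F = p ∧ 3 < p ∧
      Nonempty (G ≃* Matrix.ProjectiveSpecialLinearGroup (Fin 2) F)) ∨
    (∃ (m : ℕ) (F : Type) (_ : Field F) (_ : Fintype F), Fintype.card F = 2 ^ m ∧ p = 2 ^ m + 1 ∧
      3 < p ∧ Nonempty (G ≃* Matrix.ProjectiveSpecialLinearGroup (Fin 2) F)) := by
  classical
  haveI : Fintype G := Fintype.ofFinite G
  have h : Hyp G p z := ⟨hz, hC⟩
  -- `p ≠ 2`
  have hp2 : p ≠ 2 := by
    intro h2
    have h1 := h.two_le_e hperf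
    have h3 := h.card_quot_dvd
    rw [h2] at h3
    have := Nat.le_of_dvd (by norm_num) h3
    omega
  obtain ⟨e, t, n, X₀, Y₀, εX₀, ε₀, D₀⟩ := exists_cpre' h hperf hp2 harith
  obtain ⟨X, Y, εX, ε, D⟩ := D₀.exists_cdata
  haveI : NeZero e := ⟨by have := D.he2; omega⟩
  haveI : Fintype (NN z) := Fintype.ofFinite _
  obtain ⟨κ, hκs, hκk⟩ := h.exists_kappa e D.he
  by_cases hn1 : n = 1
  · left
    apply Cfsg.Agent.Lib.Helper7.BReyC.psl2_of_sylow_succ hperf p z hz hC
    rw [D.hsyl, hn1]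
    ring
  have hn2 : 2 ≤ n := by have := D.hn1; omega
  rcases D.sign with hε | hε
  · exact absurd (D.plus_false κ hκs hκk hε hn2) id
  by_cases heven : Even e
  swap
  · exact absurd (D.step7 κ hκs hκk hε heven) id
  -- the family `F`
  right
  obtain ⟨τ, hτN, hτ⟩ := D.exists_involution heven
  have ht := D.t_eq_of_involution κ hκs hκk hτN hτ
  have hY : Y.Nonempty := by rw [← Finset.card_pos, D.cardY]; exact D.toCPre.t_pos
  obtain ⟨θ₀, hθ₀⟩ := hY
  obtain ⟨_, hea, hye⟩ := D.F_numbers κ hκs hκk hε ht hθ₀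
  obtain ⟨y, hypos, hy⟩ := D.toCPre.exists_y
  rw [hy θ₀ hθ₀] at hye
  have hty := D.deg_theta hε hy
  have het := D.het
  have hp1 := hp.out.one_lt
  have hyeq : y = p - e := by omega
  have hcardG : Nat.card G = p * (p - 1) * (p - e) := by
    rw [D.toCPre.card_G, ← hty, ← hyeq, ← het]
    ring
  apply Cfsg.Agent.Lib.Helper7.BReyF.fermat_end hperf p z hz hC e t (Aset X εX).card
    (by rw [h.card_N, D.he]) (by omega) (by omega) hea hcardG τ hτ hτN
    (by rw [D.card_centralizer_involution κ hκs hκk hτN hτ, ht])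
    (D.hE κ hκs hκk hε ht hτN hτ)
  · intro k hk hkP
    rw [D.fixedBy_card κ hκs hκk hk hkP, ht]
  · intro m r k hr hm hnc
    rw [← hyeq]
    exact D.hD κ hκs hκk hε hy m r k hr hm hnc

/-- the main theorem -/
theorem brauer_few_sylow {G : Type*} [Group G] [Finite G] (hperf : commutator G = ⊤) (p : ℕ)
    [hp : Fact p.Prime] (z : G) (hz : orderOf z = p)
    (hC : Subgroup.centralizer ({z} : Set G) = Subgroup.zpowers z)
    (hn : 2 * Nat.card (Sylow p G) < (p + 1) * (p + 2)) :
    (∃ (F : Type) (_ : Field F) (_ : Fintype F), Fintype.card F = p ∧ 3 < p ∧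
      Nonempty (G ≃* Matrix.ProjectiveSpecialLinearGroup (Fin 2) F)) ∨
    (∃ (m : ℕ) (F : Type) (_ : Field F) (_ : Fintype F), Fintype.card F = 2 ^ m ∧ p = 2 ^ m + 1 ∧
      3 < p ∧ Nonempty (G ≃* Matrix.ProjectiveSpecialLinearGroup (Fin 2) F)) := by
  have h : Hyp G p z := ⟨hz, hC⟩
  apply brauer_of_arith hperf p z hz hC
  intro n hsyl u hu hdvd
  have hn1 : 1 ≤ n := by
    rcases Nat.eq_zero_or_pos n with h0 | h0
    · exfalso
      apply h.sylow_ne_one hperf
      rw [hsyl, h0]; simp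
    · exact h0
  have hn2 : 2 * n < p + 3 := by
    rw [hsyl] at hn
    have hpp := hp.out.pos
    by_contra hc
    push Not at hc
    have : (p + 3) * p ≤ 2 * n * p := Nat.mul_le_mul_right p hc
    nlinarith
  exact key_arith hp.out.two_le hu hn1 hn2 hdvd

end Cfsg.Agent.Lib.Helper9.Art
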