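import Mathlib
import Cfsg.Prelude
import Cfsg.Agent.Lib.Helper5.QuadSign.Std

set_option autoImplicit false
set_option linter.unusedSectionVars false
set_option linter.unusedVariables false
set_option linter.style.longLine false
set_option linter.unusedSimpArgs false
open Cfsg

set_option maxHeartbeats 1600000
namespace Cfsg.Agent.Lib.Helper9.OE12

open QuadraticMap Module
open Cfsg.Agent.Lib.Helper5.QuadTwo Cfsg.Agent.Lib.Helper5.QuadSign

universe u

section abs
variable {F : Type u} [Field F] [Fintype F] {V : Type u} [AddCommGroup V] [Module F V]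
  [FiniteDimensional F V]

theorem nd_smul (Q : QuadraticForm F V) (hQ : Nd Q) {c : F} (hc : c ≠ 0) : Nd (c • Q) := by
  intro v hv
  apply hQ
  intro w
  have h1 := hv w
  have h2 : polar (⇑(c • Q)) w v = c * polar (⇑Q) w v := by
    simp only [polar, smul_apply, smul_eq_mul]
    ring
  rw [h2] at h1
  rcases mul_eq_zero.1 h1 with h | h
  · exact absurd h hc
  · exact h

theorem zeros_smul (Q : QuadraticForm F V) {c : F} (hc : c ≠ 0) : zeros (⇑Q) = zeros (⇑(c • Q)) := by
  unfold zeros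
  apply Nat.card_congr
  apply Equiv.subtypeEquivRight
  intro x
  simp only [smul_apply, smul_eq_mul, mul_eq_zero, hc, false_or]

/-- a nondegenerate quadratic form in even dimension is similar to all its nonzero multiples -/
theorem exists_similitude (Q : QuadraticForm F V) (hQ : Nd Q) (k : ℕ) (hk : finrank F V = 2 * k)
    {c : F} (hc : c ≠ 0) : ∃ φ : V ≃ₗ[F] V, ∀ x, c * Q (φ x) = Q x := by
  obtain ⟨φ, hφ⟩ := (geo_all (F := F)).iso_of_zeros_eq_aux k V V Q (c • Q) hQ (nd_smul Q hQ hc) hk hk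
    (zeros_smul Q hc)
  exact ⟨φ, fun x => by rw [← hφ x]; rfl⟩

/-- all nonzero values of a nondegenerate quadratic form in even dimension are taken equally often -/
theorem balanced [Fintype V] (Q : QuadraticForm F V) (hQ : Nd Q) (k : ℕ) (hk : finrank F V = 2 * k)
    (c : F) (hc : c ≠ 0) : cnt Q c = cnt Q 1 := by
  obtain ⟨φ, hφ⟩ := exists_similitude Q hQ k hk hc
  have h0 : (⇑Q : V → F) = fun y => c * Q (φ y) := funext (fun y => (hφ y).symm)
  have h1 : cnt (⇑Q) c = cnt (fun y => c * Q (φ y)) c := by rw [← h0]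
  have h2 := cnt_congr_equiv φ.toEquiv (fun y => c * Q (φ y)) (fun z => c * Q z) (fun a => rfl) c
  have h3 := cnt_mul_left (fun y => Q y) hc 1
  rw [mul_one] at h3
  rw [h1, h2]
  exact h3

/-- the number of singular vectors of an orthogonal sum, first summand nondegenerate of even dimension -/
theorem zeros_sum {B W : Type*} [Finite B] (QA : QuadraticForm F V) (hA : Nd QA) (a : ℕ)
    (hdA : finrank F V = 2 * a) (QB : B → F) (Q : W → F) (e : V × B ≃ W)
    (he : ∀ p, Q (e p) = QA p.1 + QB p.2) :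
    ∃ n : ℕ, Nat.card V = zeros QA + (Fintype.card F - 1) * n ∧
      zeros Q = zeros QA * zeros QB + n * (Nat.card B - zeros QB) := by
  classical
  have : Finite V := Module.finite_of_finite F
  have : Fintype V := Fintype.ofFinite V
  have : Fintype B := Fintype.ofFinite B
  have : Fintype W := Fintype.ofEquiv _ e
  refine ⟨cnt QA 1, ?_, ?_⟩
  · rw [Nat.card_eq_fintype_card, zeros_eq_cnt]
    exact card_eq_of_balanced QA _ (fun c hc => balanced QA hA a hdA c hc)
  · rw [zeros_eq_cnt, zeros_eq_cnt, zeros_eq_cnt, Nat.card_eq_fintype_card,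
      ← cnt_add_of_balanced QA QB _ _ rfl (fun c hc => balanced QA hA a hdA c hc)]
    symm
    exact cnt_congr_equiv e _ _ he 0

/-- signs multiply in orthogonal sums -/
theorem hasSign_sum {B W : Type*} [Finite B] (QA : QuadraticForm F V) (hA : Nd QA) (a : ℕ)
    (hdA : finrank F V = 2 * a) (QB : B → F) (Q : W → F) (e : V × B ≃ W)
    (he : ∀ p, Q (e p) = QA p.1 + QB p.2) (b : ℕ) (hdB : Nat.card B = Fintype.card F ^ (2 * b))
    (s t : ℤ) (hsA : HasSign QA a s) (hsB : HasSign QB b t) : HasSign Q (a + b) (s * t) := by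
  obtain ⟨n, h1, h2⟩ := zeros_sum QA hA a hdA QB Q e he
  have hcA : Nat.card V = Fintype.card F ^ (2 * a) := by
    rw [Module.natCard_eq_pow_finrank (K := F) (V := V), hdA, Nat.card_eq_fintype_card]
  have hle : zeros QB ≤ Nat.card B := zeros_le_card QB
  have hq1 : 1 ≤ Fintype.card F := Fintype.card_pos
  unfold HasSign at *
  obtain ⟨q, hq⟩ : ∃ q : ℤ, q = (Fintype.card F : ℤ) := ⟨_, rfl⟩
  obtain ⟨X, hX⟩ : ∃ X : ℤ, X = q ^ a := ⟨_, rfl⟩
  obtain ⟨Y, hY⟩ : ∃ Y : ℤ, Y = q ^ b := ⟨_, rfl⟩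
  have E1 : X ^ 2 = (zeros QA : ℤ) + (q - 1) * n := by
    rw [hcA] at h1
    have : ((Fintype.card F ^ (2 * a) : ℕ) : ℤ) = ((zeros QA + (Fintype.card F - 1) * n : ℕ) : ℤ) := by
      rw [h1]
    push_cast [hq1] at this
    rw [hX, hq, ← this]
    ring
  have E2 : (zeros Q : ℤ) = zeros QA * zeros QB + n * (Y ^ 2 - zeros QB) := by
    rw [hdB] at h2 hle
    have : ((zeros Q : ℕ) : ℤ) = ((zeros QA * zeros QB + n * (Fintype.card F ^ (2 * b) - zeros QB) : ℕ) : ℤ) := by
      rw [h2]
    push_cast [hle] at this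
    rw [this, hY, hq]
    ring
  have E3 : q * (zeros QA : ℤ) = X ^ 2 + s * (q - 1) * X := by
    rw [hX, hq, hsA]; ring
  have E4 : q * (zeros QB : ℤ) = Y ^ 2 + t * (q - 1) * Y := by
    rw [hY, hq, hsB]; ring
  have hq0 : q - 1 ≠ 0 := by
    have := card_sub_one_pos (F := F)
    rw [hq]; omega
  have H : (zeros QA : ℤ) - n = s * X := by
    apply mul_left_cancel₀ hq0
    linear_combination E3 + E1
  rw [← hq]
  have e1 : q ^ (2 * (a + b)) = X ^ 2 * Y ^ 2 := by rw [hX, hY]; ring
  have e2 : q ^ (a + b) = X * Y := by rw [hX, hY]; ring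
  rw [e1, e2]
  linear_combination q * E2 + ((zeros QA : ℤ) - n) * E4 - Y ^ 2 * E1 + t * (q - 1) * Y * H

/-- sign `+` gives a totally singular subspace of half the dimension -/
theorem ts_of_hasSign_one (Q : QuadraticForm F V) (hQ : Nd Q) (k : ℕ) (hk : finrank F V = 2 * k)
    (h : HasSign Q k 1) : ∃ L : Submodule F V, (∀ x ∈ L, Q x = 0) ∧ finrank F L = k := by
  obtain ⟨φ, hφ⟩ := (geo_all (F := F)).iso_of_hasSign (qPlus (F := F) k) Q (nd_qPlus k) hQ k
    (finrank_plus k) hk 1 (hasSign_qPlus k) h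
  refine ⟨(plusL (F := F) k).map (φ : (Fin k ⊕ Fin k → F) →ₗ[F] V), ?_, ?_⟩
  · intro x hx
    obtain ⟨y, hy, rfl⟩ := Submodule.mem_map.1 hx
    show Q (φ y) = 0
    rw [hφ, qPlus_apply]
    rw [mem_plusL] at hy
    apply Finset.sum_eq_zero
    intro i _
    rw [hy i, mul_zero]
  · rw [LinearEquiv.finrank_map_eq, finrank_plusL]

theorem hasSign_one_iff (Q : QuadraticForm F V) (hQ : Nd Q) (k : ℕ) (hk : finrank F V = 2 * k) :
    HasSign Q k 1 ↔ ∃ L : Submodule F V, (∀ x ∈ L, Q x = 0) ∧ finrank F L = k := by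
  constructor
  · exact ts_of_hasSign_one Q hQ k hk
  · rintro ⟨L, hL, hLd⟩
    exact hasSign_of_ts k V Q hQ hk L hL hLd.ge

theorem hasSign_neg_iff (Q : QuadraticForm F V) (hQ : Nd Q) (k : ℕ) (hk : finrank F V = 2 * k) :
    HasSign Q k (-1) ↔ ¬ ∃ L : Submodule F V, (∀ x ∈ L, Q x = 0) ∧ finrank F L = k := by
  constructor
  · intro h hL
    have h1 := (hasSign_one_iff Q hQ k hk).2 hL
    have := HasSign.unique h h1
    omega
  · intro hL
    rcases (geo_all (F := F)).hasSign Q hQ k hk with h | h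
    · exact absurd ((hasSign_one_iff Q hQ k hk).1 h) hL
    · exact h

end abs

end Cfsg.Agent.Lib.Helper9.OE12
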