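import Mathlib
import Cfsg.Prelude
import Cfsg.Agent.Lib.Helper9.OE12a

set_option autoImplicit false
set_option linter.unusedSectionVars false
set_option linter.unusedVariables false
set_option linter.style.longLine false
set_option linter.unusedSimpArgs false
open Cfsg

set_option maxHeartbeats 1600000
namespace Cfsg.Agent.Lib.Helper9.OE12

open QuadraticMap Module Matrix
open Cfsg.Geo
open Cfsg.Agent.Lib.Helper5 Cfsg.Agent.Lib.Helper5.QuadTwo Cfsg.Agent.Lib.Helper5.QuadSign

universe u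

section conc
variable {F : Type u} [Field F] [Fintype F] {ι : Type} [Fintype ι] [DecidableEq ι]
  (Q : QuadraticForm F (ι → F))

theorem nd_res_of_nondegOn {W : Submodule F (ι → F)} (hW : IsNondegenerateOn (polar ⇑Q) W) :
    Nd (res Q W) := by
  intro v hv
  by_contra hne
  have hv0 : (v : ι → F) ≠ 0 := fun h => hne (Subtype.ext h)
  obtain ⟨⟨x, hxW, hx⟩, _⟩ := hW v v.2 hv0
  exact hx (hv ⟨x, hxW⟩)

theorem nondegOn_of_nd_res {W : Submodule F (ι → F)} (h : Nd (res Q W)) :
    IsNondegenerateOn (polar ⇑Q) W := by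
  intro w hw hw0
  have hex : ∃ x ∈ W, polar ⇑Q x w ≠ 0 := by
    by_contra hcon
    push Not at hcon
    apply hw0
    have := h ⟨w, hw⟩ (fun x => hcon x x.2)
    exact congrArg Subtype.val this
  obtain ⟨x, hx, hxw⟩ := hex
  exact ⟨⟨x, hx, hxw⟩, ⟨x, hx, by rwa [polar_comm]⟩⟩

theorem plus_iff_hasSign {W : Submodule F (ι → F)} (hW : Nd (res Q W)) (k : ℕ)
    (hk : finrank F W = 2 * k) : IsPlusTypeOn ⇑Q W ↔ HasSign (res Q W) k 1 := by
  rw [hasSign_one_iff (res Q W) hW k hk]
  constructor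
  · rintro ⟨U, hUW, hU, hUd⟩
    refine ⟨U.comap W.subtype, ?_, ?_⟩
    · intro x hx
      exact hU _ hx
    · rw [LinearEquiv.finrank_eq (Submodule.comapSubtypeEquivOfLe hUW)]
      omega
  · rintro ⟨L, hL, hLd⟩
    refine ⟨L.map W.subtype, ?_, ?_, ?_⟩
    · intro x hx
      obtain ⟨y, _, rfl⟩ := Submodule.mem_map.1 hx
      exact y.2
    · intro x hx
      obtain ⟨y, hy, rfl⟩ := Submodule.mem_map.1 hx
      exact hL y hy
    · rw [Submodule.finrank_map_subtype_eq, hLd, hk]

theorem not_plus_iff_hasSign {W : Submodule F (ι → F)} (hW : Nd (res Q W)) (k : ℕ)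
    (hk : finrank F W = 2 * k) : ¬ IsPlusTypeOn ⇑Q W ↔ HasSign (res Q W) k (-1) := by
  rw [plus_iff_hasSign Q hW k hk]
  constructor
  · intro h
    rcases (geo_all (F := F)).hasSign (res Q W) hW k hk with h1 | h1
    · exact absurd h1 h
    · exact h1
  · intro h h1
    have := HasSign.unique h h1
    omega

theorem hasSign_cases {W : Submodule F (ι → F)} (hW : Nd (res Q W)) (k : ℕ)
    (hk : finrank F W = 2 * k) : HasSign (res Q W) k 1 ∨ HasSign (res Q W) k (-1) :=
  (geo_all (F := F)).hasSign (res Q W) hW k hk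

theorem isometric_of_hasSign {W W' : Submodule F (ι → F)} (hW : Nd (res Q W)) (hW' : Nd (res Q W'))
    (k : ℕ) (hk : finrank F W = 2 * k) (hk' : finrank F W' = 2 * k) (s : ℤ)
    (hs : HasSign (res Q W) k s) (hs' : HasSign (res Q W') k s) : AreIsometricFor ⇑Q W W' := by
  obtain ⟨φ, hφ⟩ := (geo_all (F := F)).iso_of_hasSign (res Q W) (res Q W') hW hW' k hk hk' s hs hs'
  exact ⟨φ, fun w => hφ w⟩

theorem hasSign_of_isometric {W W' : Submodule F (ι → F)} (h : AreIsometricFor ⇑Q W W') (k : ℕ) (s : ℤ)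
    (hs : HasSign (res Q W) k s) : HasSign (res Q W') k s := by
  obtain ⟨e, he⟩ := h
  exact (hasSign_congr e.toEquiv (res Q W) (res Q W') (fun x => he x) k s).1 hs

theorem disjoint_of_orth {A B : Submodule F (ι → F)} (hA : Nd (res Q A))
    (horth : ∀ u ∈ A, ∀ v ∈ B, polar ⇑Q u v = 0) : A ⊓ B = ⊥ := by
  rw [eq_bot_iff]
  intro v hv
  rw [Submodule.mem_inf] at hv
  have := hA ⟨v, hv.1⟩ (fun w => horth w w.2 v hv.2)
  rw [Submodule.mem_bot]
  exact congrArg Subtype.val this

theorem exists_sumEquiv {A B : Submodule F (ι → F)} (h : A ⊓ B = ⊥) :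
    ∃ e : A × B ≃ ↥(A ⊔ B), ∀ p, ((e p : ↥(A ⊔ B)) : ι → F) = (p.1 : ι → F) + (p.2 : ι → F) := by
  refine ⟨Equiv.ofBijective
    (fun p => ⟨(p.1 : ι → F) + (p.2 : ι → F), Submodule.add_mem_sup p.1.2 p.2.2⟩) ⟨?_, ?_⟩,
    fun p => rfl⟩
  · rintro ⟨x, y⟩ ⟨x', y'⟩ hxy
    have h1 : (x : ι → F) + y = x' + y' := congrArg Subtype.val hxy
    have h2 : (x : ι → F) - x' ∈ A ⊓ B := by
      refine Submodule.mem_inf.2 ⟨A.sub_mem x.2 x'.2, ?_⟩
      have : (x : ι → F) - x' = y' - y := by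
        rw [sub_eq_sub_iff_add_eq_add, h1, add_comm]
      rw [this]
      exact B.sub_mem y'.2 y.2
    rw [h, Submodule.mem_bot, sub_eq_zero] at h2
    have h3 : (y : ι → F) = y' := by
      rw [h2] at h1
      exact add_left_cancel h1
    exact Prod.ext (Subtype.ext h2) (Subtype.ext h3)
  · rintro ⟨v, hv⟩
    obtain ⟨x, hx, y, hy, rfl⟩ := Submodule.mem_sup.1 hv
    exact ⟨(⟨x, hx⟩, ⟨y, hy⟩), rfl⟩

/-- orthogonal sum of two nondegenerate even-dimensional subspaces: nondegenerate, dimensions add, signs multiply -/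
theorem sum_data {A B : Submodule F (ι → F)} (hA : Nd (res Q A)) (hB : Nd (res Q B)) (a b : ℕ)
    (hdA : finrank F A = 2 * a) (hdB : finrank F B = 2 * b)
    (horth : ∀ u ∈ A, ∀ v ∈ B, polar ⇑Q u v = 0) (s t : ℤ) (hsA : HasSign (res Q A) a s)
    (hsB : HasSign (res Q B) b t) :
    Nd (res Q (A ⊔ B)) ∧ finrank F ↥(A ⊔ B) = 2 * (a + b) ∧ HasSign (res Q (A ⊔ B)) (a + b) (s * t) := by
  have hdisj := disjoint_of_orth Q hA horth
  refine ⟨?_, ?_, ?_⟩
  · rintro ⟨v, hv⟩ hvv
    obtain ⟨x, hx, y, hy, rfl⟩ := Submodule.mem_sup.1 hv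
    have hx0 : (⟨x, hx⟩ : A) = 0 := by
      apply hA
      intro w
      have h1 := hvv ⟨w, Submodule.mem_sup_left w.2⟩
      rw [polar_res] at h1 ⊢
      simp only at h1 ⊢
      rw [polar_add_right, horth w w.2 y hy, add_zero] at h1
      exact h1
    have hy0 : (⟨y, hy⟩ : B) = 0 := by
      apply hB
      intro w
      have h1 := hvv ⟨w, Submodule.mem_sup_right w.2⟩
      rw [polar_res] at h1 ⊢
      simp only at h1 ⊢
      rw [polar_add_right, polar_comm (⇑Q) (w : ι → F) x, horth x hx w w.2, zero_add] at h1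
      exact h1
    apply Subtype.ext
    have h1 : x = 0 := congrArg Subtype.val hx0
    have h2 : y = 0 := congrArg Subtype.val hy0
    simp [h1, h2]
  · have := Submodule.finrank_sup_add_finrank_inf_eq A B
    rw [hdisj, finrank_bot] at this
    omega
  · obtain ⟨e, he⟩ := exists_sumEquiv hdisj
    refine hasSign_sum (res Q A) hA a hdA (res Q B) (res Q (A ⊔ B)) e ?_ b ?_ s t hsA hsB
    · intro p
      rw [res_apply, res_apply, res_apply, he, q_add, horth _ p.1.2 _ p.2.2, add_zero]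
    · rw [Module.natCard_eq_pow_finrank (K := F) (V := B), hdB, Nat.card_eq_fintype_card]

theorem iSup_fin_succ' {t : ℕ} (D : Fin (t + 1) → Submodule F (ι → F)) :
    (⨆ i, D i) = D 0 ⊔ ⨆ i : Fin t, D i.succ := by
  apply le_antisymm
  · apply iSup_le
    intro i
    refine Fin.cases ?_ (fun j => ?_) i
    · exact le_sup_left
    · exact le_trans (le_iSup (fun j : Fin t => D j.succ) j) le_sup_right
  · exact sup_le (le_iSup D 0) (iSup_le (fun i => le_iSup D i.succ))

/-- orthogonal sum of `t` nondegenerate subspaces of dimension `2a`, all of sign `s` -/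
theorem iSup_data : ∀ (t : ℕ) (D : Fin t → Submodule F (ι → F)) (a : ℕ) (s : ℤ),
    (∀ i, Nd (res Q (D i))) → (∀ i, finrank F (D i) = 2 * a) →
    (∀ i j, i ≠ j → ∀ u ∈ D i, ∀ v ∈ D j, polar ⇑Q u v = 0) →
    (∀ i, HasSign (res Q (D i)) a s) →
    Nd (res Q (⨆ i, D i)) ∧ finrank F ↥(⨆ i, D i) = 2 * (t * a) ∧
      HasSign (res Q (⨆ i, D i)) (t * a) (s ^ t) := by
  intro t
  induction t with
  | zero =>
    intro D a s _ _ _ _
    have h0 : (⨆ i, D i) = ⊥ := by
      rw [eq_bot_iff]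
      exact iSup_le (fun i => i.elim0)
    rw [h0]
    have hf : finrank F ↥(⊥ : Submodule F (ι → F)) = 0 := finrank_bot F (ι → F)
    refine ⟨?_, by rw [hf]; ring, ?_⟩
    · intro v _
      have : Subsingleton ↥(⊥ : Submodule F (ι → F)) := Module.finrank_zero_iff.1 hf
      exact Subsingleton.elim _ _
    · simpa using hasSign_of_finrank_zero (res Q (⊥ : Submodule F (ι → F))) hf
  | succ t ih =>
    intro D a s hnd hdim horth hsgn
    obtain ⟨h1, h2, h3⟩ := ih (fun i => D i.succ) a s (fun i => hnd _) (fun i => hdim _)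
      (fun i j hij => horth _ _ (fun h => hij (Fin.succ_injective _ h))) (fun i => hsgn _)
    have horth0 : ∀ u ∈ D 0, ∀ v ∈ ⨆ i : Fin t, D i.succ, polar ⇑Q u v = 0 := by
      intro u hu v hv
      refine Submodule.iSup_induction (fun i : Fin t => D i.succ)
        (motive := fun v => polar ⇑Q u v = 0) hv ?_ ?_ ?_
      · intro i x hx
        exact horth 0 i.succ (Fin.succ_ne_zero i).symm u hu x hx
      · exact polar_zero_right _ _
      · intro x y hx hy
        rw [polar_add_right, hx, hy, add_zero]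
    obtain ⟨g1, g2, g3⟩ := sum_data Q (hnd 0) h1 a (t * a) (hdim 0) h2 horth0 s (s ^ t) (hsgn 0) h3
    rw [iSup_fin_succ']
    have e1 : (t + 1) * a = a + t * a := by ring
    have e2 : s ^ (t + 1) = s * s ^ t := pow_succ' s t
    rw [e1, e2]
    exact ⟨g1, g2, g3⟩

end conc

end Cfsg.Agent.Lib.Helper9.OE12
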