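import Mathlib
import Cfsg.Prelude
import Cfsg.Agent.Lib.Helper9.OE12b
import Cfsg.Agent.Lib.Helper5.MaxTS
import Cfsg.Agent.Lib.Helper5.QuadIsom
import Cfsg.Agent.Lib.Helper5.QuadTwo.QMat2

set_option autoImplicit false
set_option linter.unusedSectionVars false
set_option linter.unusedVariables false
set_option linter.style.longLine false
set_option linter.unusedSimpArgs false
open Cfsg

set_option maxHeartbeats 1600000
namespace Cfsg.Agent.Lib.Helper9.OE12

open QuadraticMap Module Matrix
open Cfsg.Geo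
open Cfsg.Agent.Lib.Helper5 Cfsg.Agent.Lib.Helper5.QuadTwo Cfsg.Agent.Lib.Helper5.QuadSign

universe u

section conc
variable {F : Type u} [Field F] [Fintype F] {ι : Type} [Fintype ι] [DecidableEq ι]
  (Q : QuadraticForm F (ι → F))

theorem sign_sq_cases {s s' : ℤ} (hs : s = 1 ∨ s = -1) (hs' : s' = 1 ∨ s' = -1) (h : s * s' = 1) :
    s = s' := by
  rcases hs with rfl | rfl <;> rcases hs' with rfl | rfl <;> omega

/-- two orthogonal nondegenerate subspaces of the same even dimension with sum of plus type are isometric -/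
theorem isometric_of_plus_sum {W W' : Submodule F (ι → F)} (hW : IsNondegenerateOn (polar ⇑Q) W)
    (hW' : IsNondegenerateOn (polar ⇑Q) W') (k : ℕ) (hd : finrank F W = 2 * k)
    (hd' : finrank F W' = 2 * k) (horth : AreOrthogonalFor (polar ⇑Q) W W')
    (hplus : IsPlusTypeOn ⇑Q (W ⊔ W')) : AreIsometricFor ⇑Q W W' := by
  have hA := nd_res_of_nondegOn Q hW
  have hB := nd_res_of_nondegOn Q hW'
  obtain ⟨s, hs, hsA⟩ : ∃ s : ℤ, (s = 1 ∨ s = -1) ∧ HasSign (res Q W) k s := by
    rcases hasSign_cases Q hA k hd with h | h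
    · exact ⟨1, Or.inl rfl, h⟩
    · exact ⟨-1, Or.inr rfl, h⟩
  obtain ⟨s', hs', hsB⟩ : ∃ s : ℤ, (s = 1 ∨ s = -1) ∧ HasSign (res Q W') k s := by
    rcases hasSign_cases Q hB k hd' with h | h
    · exact ⟨1, Or.inl rfl, h⟩
    · exact ⟨-1, Or.inr rfl, h⟩
  obtain ⟨g1, g2, g3⟩ := sum_data Q hA hB k k hd hd' horth s s' hsA hsB
  have h1 := (plus_iff_hasSign Q g1 (k + k) g2).1 hplus
  have h2 := HasSign.unique g3 h1
  have h3 := sign_sq_cases hs hs' h2
  rw [← h3] at hsB
  exact isometric_of_hasSign Q hA hB k hd hd' s hsA hsB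

theorem isometric_refl (W : Submodule F (ι → F)) : AreIsometricFor ⇑Q W W :=
  ⟨LinearEquiv.refl F W, fun _ => rfl⟩

theorem isometric_symm {W W' : Submodule F (ι → F)} (h : AreIsometricFor ⇑Q W W') :
    AreIsometricFor ⇑Q W' W := by
  obtain ⟨e, he⟩ := h
  refine ⟨e.symm, fun w => ?_⟩
  have := he (e.symm w)
  rw [LinearEquiv.apply_symm_apply] at this
  exact this.symm

theorem map_eq_of_stab (X : Submodule F (ι → F)) (g : GL ι F)
    (h1 : ∀ v ∈ X, (g : Matrix ι ι F) *ᵥ v ∈ X)
    (h2 : ∀ v ∈ X, ((g⁻¹ : GL ι F) : Matrix ι ι F) *ᵥ v ∈ X) :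
    X.map (Matrix.toLin' (g : Matrix ι ι F)) = X := by
  apply le_antisymm
  · rintro _ ⟨v, hv, rfl⟩
    rw [Matrix.toLin'_apply]
    exact h1 v hv
  · intro w hw
    refine ⟨((g⁻¹ : GL ι F) : Matrix ι ι F) *ᵥ w, h2 w hw, ?_⟩
    rw [Matrix.toLin'_apply, Matrix.mulVec_mulVec, ← Units.val_mul, mul_inv_cancel, Units.val_one,
      Matrix.one_mulVec]

/-- the perp of a nondegenerate subspace `W` of half the dimension in a plus type space: `{W, W^⊥}`
is an isometric decomposition, stabilised by the isometries stabilising `W` -/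
theorem half_decomp_gen (hQ : (polarBilin Q).Nondegenerate) (k : ℕ) (hk : 1 ≤ k)
    (hcard : Fintype.card ι = 4 * k) (hplus : IsPlusTypeOn ⇑Q ⊤) (W : Submodule F (ι → F))
    (hnd : IsNondegenerateOn (polar ⇑Q) W) (hdim : finrank F W = 2 * k) :
    IsOrthogonalMDecomposition ⇑Q (2 * k) ![W, MaxTS.orth Q W] ∧
      ∀ g : GL ι F, g ∈ subspaceStabilizer W → g ∈ Cfsg.isometryGroup F ⇑Q →
        g ∈ decompositionStabilizer ![W, MaxTS.orth Q W] := by
  obtain ⟨W', hW'def⟩ : ∃ W', W' = MaxTS.orth Q W := ⟨_, rfl⟩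
  rw [← hW'def]
  have hV : finrank F (ι → F) = 4 * k := by rw [Module.finrank_fintype_fun_eq_card, hcard]
  have hd' : finrank F W' = 2 * k := by
    rw [hW'def, MaxTS.finrank_orth Q hQ, hV, hdim]; omega
  have horth : AreOrthogonalFor (polar ⇑Q) W W' := by
    intro u hu v hv
    rw [hW'def, MaxTS.mem_orth] at hv
    exact hv u hu
  have hdisj : W ⊓ W' = ⊥ := disjoint_of_orth Q (nd_res_of_nondegOn Q hnd) horth
  have htop : W ⊔ W' = ⊤ := by
    apply Submodule.eq_top_of_finrank_eq
    have := Submodule.finrank_sup_add_finrank_inf_eq W W'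
    rw [hdisj, finrank_bot] at this
    omega
  have hnd' : IsNondegenerateOn (polar ⇑Q) W' := by
    apply nondegOn_of_nd_res
    intro v hv
    apply Subtype.ext
    have hv0 : ∀ z : ι → F, polar ⇑Q z (v : ι → F) = 0 := by
      intro z
      have hz : z ∈ W ⊔ W' := by rw [htop]; exact Submodule.mem_top
      obtain ⟨x, hx, y, hy, rfl⟩ := Submodule.mem_sup.1 hz
      rw [polar_add_left, horth x hx v v.2, zero_add]
      exact hv ⟨y, hy⟩
    have h1 : (polarBilin Q) (v : ι → F) = 0 := by
      apply LinearMap.ext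
      intro z
      rw [polarBilin_apply_apply, polar_comm, LinearMap.zero_apply]
      exact hv0 z
    have := (LinearMap.separatingLeft_iff_ker_eq_bot.1 hQ.1)
    have h2 : (v : ι → F) ∈ LinearMap.ker (polarBilin Q) := LinearMap.mem_ker.2 h1
    rw [this, Submodule.mem_bot] at h2
    exact h2
  have hiso : AreIsometricFor ⇑Q W W' :=
    isometric_of_plus_sum Q hnd hnd' k hdim hd' horth (by rw [htop]; exact hplus)
  refine ⟨⟨⟨⟨le_rfl, by omega, ?_, ?_, ?_⟩, ?_, ?_⟩, ?_⟩, ?_⟩
  · intro i
    refine Fin.cases ?_ (fun j => ?_) i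
    · exact hdim
    · have : j = 0 := Subsingleton.elim _ _
      subst this
      exact hd'
  · rw [iSupIndep_pair (i := (0 : Fin 2)) (j := 1) (by decide) (by decide)]
    exact disjoint_iff.2 hdisj
  · rw [iSup_fin_succ']
    have : (⨆ i : Fin 1, (![W, W'] : Fin 2 → Submodule F (ι → F)) i.succ) = W' := by
      apply le_antisymm
      · apply iSup_le
        intro i
        have : i = 0 := Subsingleton.elim _ _
        subst this
        exact le_rfl
      · exact le_iSup (fun i : Fin 1 => (![W, W'] : Fin 2 → Submodule F (ι → F)) i.succ) 0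
    rw [this]
    exact htop
  · intro i
    refine Fin.cases ?_ (fun j => ?_) i
    · exact hnd
    · have : j = 0 := Subsingleton.elim _ _
      subst this
      exact hnd'
  · intro i j
    have horth' : AreOrthogonalFor (polar ⇑Q) W' W := by
      intro u hu v hv
      rw [polar_comm]
      exact horth v hv u hu
    refine Fin.cases ?_ (fun i' => ?_) i <;> refine Fin.cases ?_ (fun j' => ?_) j
    · intro h; exact absurd rfl h
    · intro _
      have : j' = 0 := Subsingleton.elim _ _
      subst this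
      exact horth
    · intro _
      have : i' = 0 := Subsingleton.elim _ _
      subst this
      exact horth'
    · intro h
      have h1 : i' = 0 := Subsingleton.elim _ _
      have h2 : j' = 0 := Subsingleton.elim _ _
      subst h1 h2
      exact absurd rfl h
  · intro i j
    refine Fin.cases ?_ (fun i' => ?_) i <;> refine Fin.cases ?_ (fun j' => ?_) j
    · exact isometric_refl Q W
    · have : j' = 0 := Subsingleton.elim _ _
      subst this
      exact hiso
    · have : i' = 0 := Subsingleton.elim _ _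
      subst this
      exact isometric_symm Q hiso
    · have h1 : i' = 0 := Subsingleton.elim _ _
      have h2 : j' = 0 := Subsingleton.elim _ _
      subst h1 h2
      exact isometric_refl Q W'
  · intro g hgW hgI
    have hW1 : ∀ g : GL ι F, g ∈ subspaceStabilizer W → ∀ v ∈ W, (g : Matrix ι ι F) *ᵥ v ∈ W :=
      fun g hg v hv => (hg v).1 hv
    have hW2 : ∀ g : GL ι F, g ∈ subspaceStabilizer W → g ∈ Cfsg.isometryGroup F ⇑Q →
        ∀ v ∈ W', (g : Matrix ι ι F) *ᵥ v ∈ W' := by
      intro g hg hI v hv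
      rw [hW'def, MaxTS.mem_orth] at hv ⊢
      intro w hw
      have hw' : ((g⁻¹ : GL ι F) : Matrix ι ι F) *ᵥ w ∈ W :=
        hW1 g⁻¹ ((subspaceStabilizer W).inv_mem hg) w hw
      have h1 := hv _ hw'
      have hI' := (mem_iso_iff ⇑Q g).1 hI
      have h2 := QuadIsom.polar_of_isom Q (Matrix.toLin' (g : Matrix ι ι F))
        (fun x => by rw [Matrix.toLin'_apply]; exact hI' x) (((g⁻¹ : GL ι F) : Matrix ι ι F) *ᵥ w) v
      rw [Matrix.toLin'_apply, Matrix.toLin'_apply, Matrix.mulVec_mulVec, ← Units.val_mul,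
        mul_inv_cancel, Units.val_one, Matrix.one_mulVec] at h2
      rw [h2]
      exact h1
    have hginv := (subspaceStabilizer W).inv_mem hgW
    have hginvI := (Cfsg.isometryGroup F ⇑Q).inv_mem hgI
    refine ⟨1, fun i => ?_⟩
    refine Fin.cases ?_ (fun j => ?_) i
    · exact map_eq_of_stab W g (hW1 g hgW) (hW1 g⁻¹ hginv)
    · have : j = 0 := Subsingleton.elim _ _
      subst this
      exact map_eq_of_stab W' g (hW2 g hgW hgI) (hW2 g⁻¹ hginv hginvI)

/-- the form requested for `Ω₁₂⁺` -/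
theorem half_decomp {F : Type u} [Field F] [Fintype F] (Q : QuadraticForm F (Fin 12 → F))
    (hQ : (polarBilin Q).Nondegenerate) (hplus : IsPlusTypeOn ⇑Q ⊤)
    (W : Submodule F (Fin 12 → F)) (hnd : IsNondegenerateOn (polar ⇑Q) W) (hdim : finrank F W = 6) :
    ∃ D : Fin 2 → Submodule F (Fin 12 → F), IsOrthogonalMDecomposition ⇑Q 6 D ∧
      ∀ g : GL (Fin 12) F, g ∈ subspaceStabilizer W → g ∈ Cfsg.isometryGroup F ⇑Q →
        g ∈ decompositionStabilizer D :=
  ⟨![W, MaxTS.orth Q W], half_decomp_gen Q hQ 3 (by norm_num) (by simp) hplus W hnd hdim⟩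

end conc

end Cfsg.Agent.Lib.Helper9.OE12
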