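import Mathlib
import Cfsg.Prelude
import Cfsg.Agent.Lib.Helper9.OE12c

set_option autoImplicit false
set_option linter.unusedSectionVars false
set_option linter.unusedVariables false
set_option linter.style.longLine false
set_option linter.unusedSimpArgs false
open Cfsg

set_option maxHeartbeats 1600000
namespace Cfsg.Agent.Lib.Helper9.OE12

open QuadraticMap Module Matrix
open Cfsg.Geo
open Cfsg.Agent.Lib.Helper5 Cfsg.Agent.Lib.Helper5.QuadTwo Cfsg.Agent.Lib.Helper5.QuadSign

universe u

section conc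
variable {F : Type u} [Field F] [Fintype F] {ι : Type} [Fintype ι] [DecidableEq ι]
  (Q : QuadraticForm F (ι → F))

/-- transport of the sign data along an equality of subspaces -/
theorem data_of_eq {X Y : Submodule F (ι → F)} (h : X = Y) (k : ℕ) (s : ℤ)
    (hX : Nd (res Q X) ∧ finrank F ↥X = 2 * k ∧ HasSign (res Q X) k s) :
    Nd (res Q Y) ∧ finrank F ↥Y = 2 * k ∧ HasSign (res Q Y) k s := by
  subst h
  exact hX

/-- the sign of the whole space from an isometric orthogonal decomposition -/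
theorem decomp_sign {t a : ℕ} (D : Fin t → Submodule F (ι → F))
    (hD : IsOrthogonalMDecomposition ⇑Q (2 * a) D) (i₀ : Fin t) (s : ℤ)
    (hs : HasSign (res Q (D i₀)) a s) :
    Nd (res Q (⊤ : Submodule F (ι → F))) ∧ finrank F ↥(⊤ : Submodule F (ι → F)) = 2 * (t * a) ∧
      HasSign (res Q (⊤ : Submodule F (ι → F))) (t * a) (s ^ t) := by
  have h := iSup_data Q t D a s (fun i => nd_res_of_nondegOn Q (hD.decomp.nondegenerate i))
    (fun i => hD.decomp.decomp.finrank_eq i) (fun i j hij => hD.decomp.orthogonal i j hij)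
    (fun i => hasSign_of_isometric Q (hD.isometric i₀ i) a s hs)
  exact data_of_eq Q hD.decomp.decomp.iSup_eq_top (t * a) (s ^ t) h

/-- a decomposition into blocks of plus type: the whole space is of plus type -/
theorem plus_of_plus_blocks {t a : ℕ} (D : Fin t → Submodule F (ι → F))
    (hD : IsOrthogonalMDecomposition ⇑Q (2 * a) D) (i₀ : Fin t) (h : IsPlusTypeOn ⇑Q (D i₀)) :
    IsPlusTypeOn ⇑Q ⊤ := by
  have hs := (plus_iff_hasSign Q (nd_res_of_nondegOn Q (hD.decomp.nondegenerate i₀)) a
    (hD.decomp.decomp.finrank_eq i₀)).1 h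
  obtain ⟨g1, g2, g3⟩ := decomp_sign Q D hD i₀ 1 hs
  rw [one_pow] at g3
  exact (plus_iff_hasSign Q g1 (t * a) g2).2 g3

/-- a decomposition into an even number of blocks not of plus type: the whole space is of plus type -/
theorem plus_of_even_minus_blocks {t a : ℕ} (D : Fin t → Submodule F (ι → F))
    (hD : IsOrthogonalMDecomposition ⇑Q (2 * a) D) (i₀ : Fin t) (h : ¬ IsPlusTypeOn ⇑Q (D i₀))
    (ht : Even t) : IsPlusTypeOn ⇑Q ⊤ := by
  have hs := (not_plus_iff_hasSign Q (nd_res_of_nondegOn Q (hD.decomp.nondegenerate i₀)) a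
    (hD.decomp.decomp.finrank_eq i₀)).1 h
  obtain ⟨g1, g2, g3⟩ := decomp_sign Q D hD i₀ (-1) hs
  rw [ht.neg_one_pow] at g3
  exact (plus_iff_hasSign Q g1 (t * a) g2).2 g3

/-- a decomposition into an odd number of blocks not of plus type: the whole space is not of plus type -/
theorem not_plus_of_odd_minus_blocks {t a : ℕ} (D : Fin t → Submodule F (ι → F))
    (hD : IsOrthogonalMDecomposition ⇑Q (2 * a) D) (i₀ : Fin t) (h : ¬ IsPlusTypeOn ⇑Q (D i₀))
    (ht : Odd t) : ¬ IsPlusTypeOn ⇑Q ⊤ := by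
  have hs := (not_plus_iff_hasSign Q (nd_res_of_nondegOn Q (hD.decomp.nondegenerate i₀)) a
    (hD.decomp.decomp.finrank_eq i₀)).1 h
  obtain ⟨g1, g2, g3⟩ := decomp_sign Q D hD i₀ (-1) hs
  rw [ht.neg_one_pow] at g3
  exact (not_plus_iff_hasSign Q g1 (t * a) g2).2 g3

/-- in a space of plus type, an odd number of isometric blocks: the blocks are of plus type -/
theorem plus_blocks_of_odd {t a : ℕ} (D : Fin t → Submodule F (ι → F))
    (hD : IsOrthogonalMDecomposition ⇑Q (2 * a) D) (ht : Odd t) (hplus : IsPlusTypeOn ⇑Q ⊤)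
    (i : Fin t) : IsPlusTypeOn ⇑Q (D i) := by
  by_contra h
  exact not_plus_of_odd_minus_blocks Q D hD i h ht hplus

/-- in a space not of plus type, the blocks of an isometric decomposition are not of plus type and their
number is odd -/
theorem minus_blocks_of_minus {t a : ℕ} (D : Fin t → Submodule F (ι → F))
    (hD : IsOrthogonalMDecomposition ⇑Q (2 * a) D) (hminus : ¬ IsPlusTypeOn ⇑Q ⊤) (i : Fin t) :
    ¬ IsPlusTypeOn ⇑Q (D i) ∧ Odd t := by
  have h1 : ¬ IsPlusTypeOn ⇑Q (D i) := fun h => hminus (plus_of_plus_blocks Q D hD i h)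
  refine ⟨h1, ?_⟩
  by_contra hodd
  exact hminus (plus_of_even_minus_blocks Q D hD i h1 (Nat.not_odd_iff_even.1 hodd))

end conc

end Cfsg.Agent.Lib.Helper9.OE12
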