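import Mathlib
import Cfsg.Prelude
import Cfsg.Agent.Lib.Helper8.Asch20
import Cfsg.Agent.Lib.Helper8.Asch17

set_option autoImplicit false
set_option linter.unusedSectionVars false
set_option linter.unusedVariables false
set_option linter.style.longLine false
set_option linter.unusedSimpArgs false
open Cfsg

namespace Cfsg.Agent.Lib.Helper9.OE8

open Module Matrix
open scoped commutatorElement
open Cfsg.Geo Cfsg.Agent.Lib.Helper8.Asch

variable {ι : Type} [Fintype ι] [DecidableEq ι] {F : Type*} [Field F]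

/-- a scalar isometry is `±1` -/
theorem sq_eq_one_of_scalar_isom {G : Matrix ι ι F} (hG : G.det ≠ 0) [Nonempty ι] {c : F}
    (h : (c • (1 : Matrix ι ι F))ᵀ * G * (c • (1 : Matrix ι ι F)) = G) : c = 1 ∨ c = -1 := by
  rw [Matrix.transpose_smul, Matrix.transpose_one, Matrix.smul_mul, Matrix.one_mul,
    Matrix.mul_smul, Matrix.mul_one, smul_smul] at h
  have hG0 : G ≠ 0 := by
    intro h0
    rw [h0, Matrix.det_zero] at hG
    exact hG rfl
  have h1 : (c * c - 1) • G = 0 := by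
    rw [sub_smul, h, one_smul, sub_self]
  rcases smul_eq_zero.mp h1 with h2 | h2
  · have : (c - 1) * (c + 1) = 0 := by linear_combination h2
    rcases mul_eq_zero.mp this with h3 | h3
    · left; exact sub_eq_zero.mp h3
    · right; exact eq_neg_of_add_eq_zero_left h3
  · exact absurd h2 hG0

section caseA
variable {G : Matrix ι ι F} (hG : G.det ≠ 0) (h2 : (2 : F) ≠ 0) [Nonempty ι]
  {N : Subgroup (GL ι F)}
  (hisom : ∀ x ∈ N, (x : Matrix ι ι F)ᵀ * G * (x : Matrix ι ι F) = G)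
  (hspan : Submodule.span F (mset N) = ⊤) (hc : ⁅N, N⁆ ≤ Zs ι F)

include hG hisom hc in
theorem comm_or_anticomm {a b : GL ι F} (ha : a ∈ N) (hb : b ∈ N) :
    (a : Matrix ι ι F) * (b : Matrix ι ι F) = (b : Matrix ι ι F) * (a : Matrix ι ι F) ∨
    (a : Matrix ι ι F) * (b : Matrix ι ι F) = -((b : Matrix ι ι F) * (a : Matrix ι ι F)) := by
  have h1 : ⁅a, b⁆ ∈ ⁅N, N⁆ := Subgroup.commutator_mem_commutator ha hb
  obtain ⟨c, hcc⟩ := mem_Zs.mp (hc h1)
  have h3 : ⁅a, b⁆ ∈ N := (Subgroup.commutator_le_self N) h1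
  have h4 := hisom _ h3
  rw [hcc] at h4
  have h5 : ⁅a, b⁆ * (b * a) = a * b := by
    rw [commutatorElement_def]
    group
  have h6 : ((⁅a, b⁆ : GL ι F) : Matrix ι ι F) * ((b : Matrix ι ι F) * (a : Matrix ι ι F)) =
      (a : Matrix ι ι F) * (b : Matrix ι ι F) := by
    rw [← Units.val_mul, ← Units.val_mul, h5, Units.val_mul]
  rw [hcc, Matrix.smul_mul, Matrix.one_mul] at h6
  rcases sq_eq_one_of_scalar_isom hG h4 with h7 | h7
  · left
    rw [← h6, h7, one_smul]
  · right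
    rw [← h6, h7, neg_smul, one_smul]

include hG hisom hc hspan in
theorem sq_scalar {x : GL ι F} (hx : x ∈ N) :
    (x : Matrix ι ι F) * (x : Matrix ι ι F) = 1 ∨ (x : Matrix ι ι F) * (x : Matrix ι ι F) = -1 := by
  have hcomm : ∀ X ∈ mset N, ((x : Matrix ι ι F) * (x : Matrix ι ι F)) * X =
      X * ((x : Matrix ι ι F) * (x : Matrix ι ι F)) := by
    rintro X ⟨b, hb, rfl⟩
    show (x : Matrix ι ι F) * (x : Matrix ι ι F) * (b : Matrix ι ι F) =
      (b : Matrix ι ι F) * ((x : Matrix ι ι F) * (x : Matrix ι ι F))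
    rcases comm_or_anticomm hG hisom hc hx hb with h | h
    · rw [Matrix.mul_assoc, h, ← Matrix.mul_assoc, h, Matrix.mul_assoc]
    · rw [Matrix.mul_assoc, h, Matrix.mul_neg, ← Matrix.mul_assoc, h, Matrix.neg_mul, neg_neg,
        Matrix.mul_assoc]
  obtain ⟨c, hcc⟩ := scalar_of_commute_span hspan hcomm
  have h4 := hisom _ (N.mul_mem hx hx)
  rw [Units.val_mul, hcc] at h4
  rcases sq_eq_one_of_scalar_isom hG h4 with h7 | h7
  · left; rw [hcc, h7, one_smul]
  · right; rw [hcc, h7, neg_smul, one_smul]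

include h2 in
/-- an element anticommuting with an invertible one is not a scalar -/
theorem not_scalar_of_anticomm {z v : GL ι F}
    (h : (v : Matrix ι ι F) * (z : Matrix ι ι F) = -((z : Matrix ι ι F) * (v : Matrix ι ι F))) :
    ¬ ∃ c : F, (z : Matrix ι ι F) = c • (1 : Matrix ι ι F) := by
  rintro ⟨c, hcz⟩
  rw [hcz, Matrix.mul_smul, Matrix.mul_one, Matrix.smul_mul, Matrix.one_mul] at h
  have h1 : (2 * c) • (v : Matrix ι ι F) = 0 := by
    rw [mul_smul, two_smul]
    nth_rewrite 1 [h]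
    exact neg_add_cancel _
  have hv0 : (v : Matrix ι ι F) ≠ 0 := by
    intro h0
    have := congrArg Matrix.det h0
    rw [Matrix.det_zero] at this
    exact (Matrix.GeneralLinearGroup.det_ne_zero v) this
  rcases smul_eq_zero.mp h1 with h3 | h3
  · rcases mul_eq_zero.mp h3 with h4 | h4
    · exact h2 h4
    · have h5 : (z : Matrix ι ι F) = 0 := by rw [hcz, h4, zero_smul]
      have := congrArg Matrix.det h5
      rw [Matrix.det_zero] at this
      exact (Matrix.GeneralLinearGroup.det_ne_zero z) this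
  · exact hv0 h3

include hG hisom hc hspan in
/-- a non-scalar involution has an anticommuting partner -/
theorem exists_partner {z : GL ι F} (hz : z ∈ N)
    (hns : ¬ ∃ c : F, (z : Matrix ι ι F) = c • (1 : Matrix ι ι F)) :
    ∃ v ∈ N, (v : Matrix ι ι F) * (z : Matrix ι ι F) = -((z : Matrix ι ι F) * (v : Matrix ι ι F)) := by
  by_contra hcon
  push Not at hcon
  apply hns
  apply scalar_of_commute_span hspan
  rintro X ⟨b, hb, rfl⟩
  rcases comm_or_anticomm hG hisom hc hb hz with h | h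
  · exact h.symm
  · exact absurd h (hcon b hb)

end caseA
theorem exists_not_mem_small {N : Subgroup (GL ι F)} (hspan : Submodule.span F (mset N) = ⊤)
    (A : Submodule F (Matrix ι ι F)) (hA : finrank F A < Fintype.card ι * Fintype.card ι) :
    ∃ w ∈ N, (w : Matrix ι ι F) ∉ A := by
  by_contra hcon
  push Not at hcon
  have h1 : Submodule.span F (mset N) ≤ A := by
    rw [Submodule.span_le]
    rintro X ⟨w, hw, rfl⟩
    exact hcon w hw
  rw [hspan] at h1
  have h2 : A = ⊤ := top_le_iff.mp h1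
  rw [h2, finrank_top, Module.finrank_matrix] at hA
  simp at hA

section caseA
variable {G : Matrix ι ι F} (hG : G.det ≠ 0) (h2 : (2 : F) ≠ 0) [Nonempty ι]
  {N : Subgroup (GL ι F)}
  (hisom : ∀ x ∈ N, (x : Matrix ι ι F)ᵀ * G * (x : Matrix ι ι F) = G)
  (hspan : Submodule.span F (mset N) = ⊤) (hc : ⁅N, N⁆ ≤ Zs ι F)

include hG hisom hc hspan in
theorem exists_anticomm_pair (hn : 2 ≤ Fintype.card ι) : ∃ x ∈ N, ∃ y ∈ N,
    (x : Matrix ι ι F) * (y : Matrix ι ι F) = -((y : Matrix ι ι F) * (x : Matrix ι ι F)) := by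
  by_contra hcon
  push Not at hcon
  have hall : ∀ x ∈ N, (x : Matrix ι ι F) ∈ Submodule.span F {(1 : Matrix ι ι F)} := by
    intro x hx
    have : ∃ c : F, (x : Matrix ι ι F) = c • (1 : Matrix ι ι F) := by
      apply scalar_of_commute_span hspan
      rintro X ⟨b, hb, rfl⟩
      rcases comm_or_anticomm hG hisom hc hx hb with h | h
      · exact h
      · exact absurd h (hcon x hx b hb)
    obtain ⟨c, hcx⟩ := this
    rw [hcx]
    exact Submodule.smul_mem _ _ (Submodule.mem_span_singleton_self _)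
  have hfr : finrank F (Submodule.span F {(1 : Matrix ι ι F)}) < Fintype.card ι * Fintype.card ι := by
    have h1 : finrank F (Submodule.span F {(1 : Matrix ι ι F)}) ≤ 1 := by
      have := finrank_span_le_card (R := F) ({(1 : Matrix ι ι F)} : Set (Matrix ι ι F))
      simpa using this
    nlinarith
  obtain ⟨w, hw, hwA⟩ := exists_not_mem_small hspan _ hfr
  exact hwA (hall w hw)

end caseA

section caseA2
variable {G : Matrix ι ι F} (hG : G.det ≠ 0) (h2 : (2 : F) ≠ 0) [Nonempty ι]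
  {N : Subgroup (GL ι F)}
  (hisom : ∀ x ∈ N, (x : Matrix ι ι F)ᵀ * G * (x : Matrix ι ι F) = G)
  (hspan : Submodule.span F (mset N) = ⊤) (hc : ⁅N, N⁆ ≤ Zs ι F)

/-- the span of `1, X, Y, XY` is closed under right multiplication by `Y` when `Y² = -1` -/
theorem quat_span_mul_right {S : Set (Matrix ι ι F)} {Z : Matrix ι ι F} (hZ : ∀ g ∈ S,
    g * Z ∈ Submodule.span F S) :
    ∀ a ∈ Submodule.span F S, a * Z ∈ Submodule.span F S := by
  intro a ha
  induction ha using Submodule.span_induction with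
  | mem g hg => exact hZ g hg
  | zero => rw [Matrix.zero_mul]; exact Submodule.zero_mem _
  | add a b _ _ ha hb => rw [Matrix.add_mul]; exact Submodule.add_mem _ ha hb
  | smul c a _ ha => rw [Matrix.smul_mul]; exact Submodule.smul_mem _ _ ha

include hG h2 hisom hc hspan in
theorem exists_involution (hn : 3 ≤ Fintype.card ι) : ∃ z ∈ N,
    (z : Matrix ι ι F) * (z : Matrix ι ι F) = 1 ∧ ¬ ∃ c : F, (z : Matrix ι ι F) = c • (1 : Matrix ι ι F) := by
  obtain ⟨x, hx, y, hy, hxy⟩ := exists_anticomm_pair hG hisom hspan hc (by omega)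
  have hyx : (y : Matrix ι ι F) * (x : Matrix ι ι F) = -((x : Matrix ι ι F) * (y : Matrix ι ι F)) := by
    rw [hxy, neg_neg]
  rcases sq_scalar hG hisom hspan hc hx with hx1 | hx1
  · exact ⟨x, hx, hx1, not_scalar_of_anticomm h2 hyx⟩
  rcases sq_scalar hG hisom hspan hc hy with hy1 | hy1
  · exact ⟨y, hy, hy1, not_scalar_of_anticomm h2 hxy⟩
  set X : Matrix ι ι F := (x : Matrix ι ι F) with hX
  set Y : Matrix ι ι F := (y : Matrix ι ι F) with hY
  set A : Submodule F (Matrix ι ι F) :=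
    Submodule.span F (Set.range (![1, X, Y, X * Y] : Fin 4 → Matrix ι ι F)) with hA
  have m1 : (1 : Matrix ι ι F) ∈ A := Submodule.subset_span ⟨0, rfl⟩
  have mX : X ∈ A := Submodule.subset_span ⟨1, rfl⟩
  have mY : Y ∈ A := Submodule.subset_span ⟨2, rfl⟩
  have mXY : X * Y ∈ A := Submodule.subset_span ⟨3, rfl⟩
  have hAY : ∀ a ∈ A, a * Y ∈ A := by
    apply quat_span_mul_right
    rintro g ⟨i, rfl⟩
    fin_cases i
    · show 1 * Y ∈ A
      rw [Matrix.one_mul]; exact mY
    · show X * Y ∈ A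
      exact mXY
    · show Y * Y ∈ A
      rw [hy1]; exact Submodule.neg_mem _ m1
    · show X * Y * Y ∈ A
      rw [Matrix.mul_assoc, hy1, Matrix.mul_neg, Matrix.mul_one]; exact Submodule.neg_mem _ mX
  have hAX : ∀ a ∈ A, a * X ∈ A := by
    apply quat_span_mul_right
    rintro g ⟨i, rfl⟩
    fin_cases i
    · show 1 * X ∈ A
      rw [Matrix.one_mul]; exact mX
    · show X * X ∈ A
      rw [hx1]; exact Submodule.neg_mem _ m1
    · show Y * X ∈ A
      rw [hyx]; exact Submodule.neg_mem _ mXY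
    · show X * Y * X ∈ A
      rw [Matrix.mul_assoc, hyx, Matrix.mul_neg, ← Matrix.mul_assoc, hx1, Matrix.neg_mul,
        Matrix.one_mul, neg_neg]
      exact mY
  have hfr : finrank F A < Fintype.card ι * Fintype.card ι := by
    have h1 : finrank F A ≤ 4 := by
      have := finrank_range_le_card (R := F) (![1, X, Y, X * Y] : Fin 4 → Matrix ι ι F)
      rw [Fintype.card_fin] at this
      exact this
    nlinarith
  obtain ⟨w, hw, hwA⟩ := exists_not_mem_small hspan A hfr
  -- make `w` commute with `x`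
  obtain ⟨w1, hw1, hw1A, hw1X⟩ : ∃ w1 ∈ N, (w1 : Matrix ι ι F) ∉ A ∧
      (w1 : Matrix ι ι F) * X = X * (w1 : Matrix ι ι F) := by
    rcases comm_or_anticomm hG hisom hc hw hx with h | h
    · exact ⟨w, hw, hwA, h⟩
    · refine ⟨w * y, N.mul_mem hw hy, ?_, ?_⟩
      · intro hmem
        have h3 := hAY _ hmem
        rw [Units.val_mul, Matrix.mul_assoc, hy1, Matrix.mul_neg, Matrix.mul_one] at h3
        apply hwA
        have := Submodule.neg_mem _ h3
        rwa [neg_neg] at this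
      · rw [Units.val_mul, Matrix.mul_assoc, hyx, Matrix.mul_neg, ← Matrix.mul_assoc, h,
          Matrix.neg_mul, neg_neg, Matrix.mul_assoc]
  obtain ⟨w2, hw2, hw2A, hw2X, hw2Y⟩ : ∃ w2 ∈ N, (w2 : Matrix ι ι F) ∉ A ∧
      (w2 : Matrix ι ι F) * X = X * (w2 : Matrix ι ι F) ∧
      (w2 : Matrix ι ι F) * Y = Y * (w2 : Matrix ι ι F) := by
    rcases comm_or_anticomm hG hisom hc hw1 hy with h | h
    · exact ⟨w1, hw1, hw1A, hw1X, h⟩
    · refine ⟨w1 * x, N.mul_mem hw1 hx, ?_, ?_, ?_⟩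
      · intro hmem
        have h3 := hAX _ hmem
        rw [Units.val_mul, Matrix.mul_assoc, hx1, Matrix.mul_neg, Matrix.mul_one] at h3
        apply hw1A
        have := Submodule.neg_mem _ h3
        rwa [neg_neg] at this
      · rw [Units.val_mul, hw1X, Matrix.mul_assoc, hw1X]
      · rw [Units.val_mul, Matrix.mul_assoc, hxy, Matrix.mul_neg, ← Matrix.mul_assoc, h,
          Matrix.neg_mul, neg_neg, Matrix.mul_assoc]
  rcases sq_scalar hG hisom hspan hc hw2 with h | h
  · refine ⟨w2, hw2, h, ?_⟩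
    rintro ⟨c, hcw⟩
    apply hw2A
    rw [hcw]
    exact Submodule.smul_mem _ _ m1
  · refine ⟨x * w2, N.mul_mem hx hw2, ?_, ?_⟩
    · rw [Units.val_mul]
      calc X * (w2 : Matrix ι ι F) * (X * (w2 : Matrix ι ι F))
          = X * ((w2 : Matrix ι ι F) * X) * (w2 : Matrix ι ι F) := by simp only [Matrix.mul_assoc]
        _ = X * X * ((w2 : Matrix ι ι F) * (w2 : Matrix ι ι F)) := by
            rw [hw2X]; simp only [Matrix.mul_assoc]
        _ = 1 := by rw [hx1, h, neg_mul_neg, Matrix.one_mul]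
    · apply not_scalar_of_anticomm h2 (v := y)
      rw [Units.val_mul]
      calc Y * (X * (w2 : Matrix ι ι F)) = (Y * X) * (w2 : Matrix ι ι F) := by
            rw [Matrix.mul_assoc]
        _ = -(X * (Y * (w2 : Matrix ι ι F))) := by
            rw [hyx, Matrix.neg_mul, Matrix.mul_assoc]
        _ = -(X * (w2 : Matrix ι ι F) * Y) := by
            rw [← hw2Y, Matrix.mul_assoc]

include hG h2 hisom hc hspan in
/-- Case A in an orthogonal group: an involution and an anticommuting isometry -/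
theorem exists_anticomm_involution (hn : 3 ≤ Fintype.card ι) : ∃ z ∈ N, ∃ v ∈ N,
    (z : Matrix ι ι F) * (z : Matrix ι ι F) = 1 ∧
    (v : Matrix ι ι F) * (z : Matrix ι ι F) = -((z : Matrix ι ι F) * (v : Matrix ι ι F)) := by
  obtain ⟨z, hz, hz1, hns⟩ := exists_involution hG h2 hisom hspan hc hn
  obtain ⟨v, hv, hvz⟩ := exists_partner hG hisom hspan hc hz hns
  exact ⟨z, hz, v, hv, hz1, hvz⟩

end caseA2

section halves
open QuadraticMap

variable (Q : QuadraticForm F (ι → F)) (h2 : (2 : F) ≠ 0)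
  (hnd : ∀ w : ι → F, w ≠ 0 → ∃ x, polar Q x w ≠ 0)
  (z v : GL ι F)
  (hz : ∀ u, Q ((z : Matrix ι ι F) *ᵥ u) = Q u) (hv : ∀ u, Q ((v : Matrix ι ι F) *ᵥ u) = Q u)
  (hzz : (z : Matrix ι ι F) * (z : Matrix ι ι F) = 1)
  (hvz : (v : Matrix ι ι F) * (z : Matrix ι ι F) = -((z : Matrix ι ι F) * (v : Matrix ι ι F)))

/-- the `ε`-eigenspace of `z` -/
def eig (z : GL ι F) (ε : F) : Submodule F (ι → F) where
  carrier := {u | (z : Matrix ι ι F) *ᵥ u = ε • u}
  add_mem' := by
    intro a b ha hb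
    show (z : Matrix ι ι F) *ᵥ (a + b) = ε • (a + b)
    rw [Matrix.mulVec_add, ha, hb, smul_add]
  zero_mem' := by
    show (z : Matrix ι ι F) *ᵥ 0 = ε • (0 : ι → F)
    rw [Matrix.mulVec_zero, smul_zero]
  smul_mem' := by
    intro c a ha
    show (z : Matrix ι ι F) *ᵥ (c • a) = ε • (c • a)
    rw [Matrix.mulVec_smul, ha, smul_comm]

theorem mem_eig {z : GL ι F} {ε : F} {u : ι → F} :
    u ∈ eig z ε ↔ (z : Matrix ι ι F) *ᵥ u = ε • u := Iff.rfl

include hz in
theorem polar_z (a b : ι → F) :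
    polar Q ((z : Matrix ι ι F) *ᵥ a) ((z : Matrix ι ι F) *ᵥ b) = polar Q a b := by
  unfold polar
  rw [← Matrix.mulVec_add, hz, hz, hz]

include hz h2 in
theorem eig_orth {a b : ι → F} (ha : a ∈ eig z 1) (hb : b ∈ eig z (-1)) : polar Q a b = 0 := by
  have h := polar_z Q z hz a b
  rw [mem_eig.mp ha, mem_eig.mp hb, one_smul, neg_smul, one_smul, polar_neg_right] at h
  have h3 : (2 : F) * polar Q a b = 0 := by linear_combination -h
  rcases mul_eq_zero.mp h3 with h4 | h4
  · exact absurd h4 h2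
  · exact h4

include hzz in
theorem split_mem (u : ι → F) : u + (z : Matrix ι ι F) *ᵥ u ∈ eig z 1 ∧
    u - (z : Matrix ι ι F) *ᵥ u ∈ eig z (-1) := by
  constructor
  · show (z : Matrix ι ι F) *ᵥ (u + (z : Matrix ι ι F) *ᵥ u) = (1 : F) • (u + (z : Matrix ι ι F) *ᵥ u)
    rw [Matrix.mulVec_add, Matrix.mulVec_mulVec, hzz, Matrix.one_mulVec, one_smul, add_comm]
  · show (z : Matrix ι ι F) *ᵥ (u - (z : Matrix ι ι F) *ᵥ u) = (-1 : F) • (u - (z : Matrix ι ι F) *ᵥ u)
    rw [Matrix.mulVec_sub, Matrix.mulVec_mulVec, hzz, Matrix.one_mulVec, neg_smul, one_smul, neg_sub]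

include hzz h2 in
theorem eig_sup : eig z 1 ⊔ eig z (-1) = ⊤ := by
  rw [eq_top_iff]
  intro u _
  have h := split_mem z hzz u
  have hu : u = (2 : F)⁻¹ • (u + (z : Matrix ι ι F) *ᵥ u) + (2 : F)⁻¹ • (u - (z : Matrix ι ι F) *ᵥ u) := by
    rw [← smul_add, add_add_sub_cancel, ← two_smul F u, smul_smul, inv_mul_cancel₀ h2, one_smul]
  rw [hu]
  exact Submodule.add_mem _ (Submodule.mem_sup_left (Submodule.smul_mem _ _ h.1))
    (Submodule.mem_sup_right (Submodule.smul_mem _ _ h.2))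

include h2 in
theorem eig_disjoint : Disjoint (eig z 1) (eig z (-1)) := by
  rw [Submodule.disjoint_def]
  intro u h1 h3
  have h4 : (1 : F) • u = (-1 : F) • u := by rw [← mem_eig.mp h1, ← mem_eig.mp h3]
  rw [one_smul, neg_smul, one_smul] at h4
  have h5 : (2 : F) • u = 0 := by
    rw [two_smul]
    nth_rewrite 1 [h4]
    exact neg_add_cancel u
  rcases smul_eq_zero.mp h5 with h6 | h6
  · exact absurd h6 h2
  · exact h6

include hvz in
theorem v_maps {ε : F} {u : ι → F} (hu : u ∈ eig z ε) : (v : Matrix ι ι F) *ᵥ u ∈ eig z (-ε) := by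
  show (z : Matrix ι ι F) *ᵥ ((v : Matrix ι ι F) *ᵥ u) = (-ε) • ((v : Matrix ι ι F) *ᵥ u)
  have h1 : (z : Matrix ι ι F) * (v : Matrix ι ι F) = -((v : Matrix ι ι F) * (z : Matrix ι ι F)) := by
    rw [hvz, neg_neg]
  rw [Matrix.mulVec_mulVec, h1, Matrix.neg_mulVec, ← Matrix.mulVec_mulVec, mem_eig.mp hu,
    Matrix.mulVec_smul, neg_smul]

/-- the isomorphism between eigenspaces induced by `v` -/
noncomputable def eigEquiv (ε : F) : eig z ε ≃ₗ[F] eig z (-ε) where
  toFun u := ⟨(v : Matrix ι ι F) *ᵥ (u : ι → F), v_maps z v hvz u.2⟩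
  map_add' a b := by
    apply Subtype.ext
    show (v : Matrix ι ι F) *ᵥ ((a : ι → F) + (b : ι → F)) = _
    rw [Matrix.mulVec_add]
    rfl
  map_smul' c a := by
    apply Subtype.ext
    show (v : Matrix ι ι F) *ᵥ (c • (a : ι → F)) = _
    rw [Matrix.mulVec_smul]
    rfl
  invFun u := ⟨((v⁻¹ : GL ι F) : Matrix ι ι F) *ᵥ (u : ι → F), by
    have hu := u.2
    show (z : Matrix ι ι F) *ᵥ (((v⁻¹ : GL ι F) : Matrix ι ι F) *ᵥ (u : ι → F)) =
      ε • (((v⁻¹ : GL ι F) : Matrix ι ι F) *ᵥ (u : ι → F))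
    have h1 : (z : Matrix ι ι F) * ((v⁻¹ : GL ι F) : Matrix ι ι F) =
        -(((v⁻¹ : GL ι F) : Matrix ι ι F) * (z : Matrix ι ι F)) := by
      have h3 : ((v⁻¹ : GL ι F) : Matrix ι ι F) * (v : Matrix ι ι F) = 1 := by
        rw [← Units.val_mul, inv_mul_cancel, Units.val_one]
      have h4 : (v : Matrix ι ι F) * ((v⁻¹ : GL ι F) : Matrix ι ι F) = 1 := by
        rw [← Units.val_mul, mul_inv_cancel, Units.val_one]
      calc (z : Matrix ι ι F) * ((v⁻¹ : GL ι F) : Matrix ι ι F)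
          = ((v⁻¹ : GL ι F) : Matrix ι ι F) * ((v : Matrix ι ι F) * (z : Matrix ι ι F)) *
              ((v⁻¹ : GL ι F) : Matrix ι ι F) := by
            rw [← Matrix.mul_assoc, h3, Matrix.one_mul]
        _ = -(((v⁻¹ : GL ι F) : Matrix ι ι F) * (z : Matrix ι ι F)) := by
            rw [hvz, Matrix.mul_neg, Matrix.neg_mul, Matrix.mul_assoc, Matrix.mul_assoc, h4,
              Matrix.mul_one]
    rw [Matrix.mulVec_mulVec, h1, Matrix.neg_mulVec, ← Matrix.mulVec_mulVec, mem_eig.mp hu,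
      Matrix.mulVec_smul, neg_smul, neg_neg]⟩
  left_inv u := by
    apply Subtype.ext
    show ((v⁻¹ : GL ι F) : Matrix ι ι F) *ᵥ ((v : Matrix ι ι F) *ᵥ (u : ι → F)) = u
    rw [Matrix.mulVec_mulVec, ← Units.val_mul, inv_mul_cancel, Units.val_one, Matrix.one_mulVec]
  right_inv u := by
    apply Subtype.ext
    show (v : Matrix ι ι F) *ᵥ (((v⁻¹ : GL ι F) : Matrix ι ι F) *ᵥ (u : ι → F)) = u
    rw [Matrix.mulVec_mulVec, ← Units.val_mul, mul_inv_cancel, Units.val_one, Matrix.one_mulVec]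

theorem eigEquiv_apply (ε : F) (u : eig z ε) :
    ((eigEquiv z v hvz ε u : eig z (-ε)) : ι → F) = (v : Matrix ι ι F) *ᵥ (u : ι → F) := rfl

end halves

section halves2
open QuadraticMap

variable (Q : QuadraticForm F (ι → F)) (h2 : (2 : F) ≠ 0)
  (hnd : ∀ w : ι → F, w ≠ 0 → ∃ x, polar Q x w ≠ 0)
  (z v : GL ι F)
  (hz : ∀ u, Q ((z : Matrix ι ι F) *ᵥ u) = Q u) (hv : ∀ u, Q ((v : Matrix ι ι F) *ᵥ u) = Q u)
  (hzz : (z : Matrix ι ι F) * (z : Matrix ι ι F) = 1)
  (hvz : (v : Matrix ι ι F) * (z : Matrix ι ι F) = -((z : Matrix ι ι F) * (v : Matrix ι ι F)))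

include h2 hnd hz hzz in
theorem eig_nondeg_pos : IsNondegenerateOn (polar ⇑Q) (eig z 1) := by
  have key : ∀ w ∈ eig z 1, w ≠ 0 → ∃ x ∈ eig z 1, polar Q x w ≠ 0 := by
    intro w hw hw0
    obtain ⟨x, hx⟩ := hnd w hw0
    have hs := split_mem z hzz x
    refine ⟨_, hs.1, ?_⟩
    have h0 : polar Q (x - (z : Matrix ι ι F) *ᵥ x) w = 0 := by
      rw [polar_comm]
      exact eig_orth Q h2 z hz hw hs.2
    have h1 : polar Q (x + (z : Matrix ι ι F) *ᵥ x) w + polar Q (x - (z : Matrix ι ι F) *ᵥ x) w =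
        2 * polar Q x w := by
      rw [← polar_add_left, add_add_sub_cancel, ← two_smul F x, polar_smul_left, smul_eq_mul]
    rw [h0, add_zero] at h1
    rw [h1]
    exact mul_ne_zero h2 hx
  intro w hw hw0
  obtain ⟨x, hx, hxw⟩ := key w hw hw0
  exact ⟨⟨x, hx, hxw⟩, ⟨x, hx, by rw [polar_comm]; exact hxw⟩⟩

include h2 hnd hz hzz in
theorem eig_nondeg_neg : IsNondegenerateOn (polar ⇑Q) (eig z (-1)) := by
  have key : ∀ w ∈ eig z (-1), w ≠ 0 → ∃ x ∈ eig z (-1), polar Q x w ≠ 0 := by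
    intro w hw hw0
    obtain ⟨x, hx⟩ := hnd w hw0
    have hs := split_mem z hzz x
    refine ⟨_, hs.2, ?_⟩
    have h0 : polar Q (x + (z : Matrix ι ι F) *ᵥ x) w = 0 := eig_orth Q h2 z hz hs.1 hw
    have h1 : polar Q (x + (z : Matrix ι ι F) *ᵥ x) w + polar Q (x - (z : Matrix ι ι F) *ᵥ x) w =
        2 * polar Q x w := by
      rw [← polar_add_left, add_add_sub_cancel, ← two_smul F x, polar_smul_left, smul_eq_mul]
    rw [h0, zero_add] at h1
    rw [h1]
    exact mul_ne_zero h2 hx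
  intro w hw hw0
  obtain ⟨x, hx, hxw⟩ := key w hw hw0
  exact ⟨⟨x, hx, hxw⟩, ⟨x, hx, by rw [polar_comm]; exact hxw⟩⟩

include h2 hzz hvz in
theorem two_mul_finrank_eig [Nonempty ι] : 2 * finrank F (eig z 1) = Fintype.card ι := by
  have h1 := Submodule.finrank_sup_add_finrank_inf_eq (eig z 1) (eig z (-1))
  rw [eig_sup h2 z hzz, disjoint_iff.mp (eig_disjoint h2 z), finrank_top, finrank_bot,
    Module.finrank_fintype_fun_eq_card, add_zero,
    ← LinearEquiv.finrank_eq (eigEquiv z v hvz 1)] at h1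
  omega

include hv hvz in
theorem eig_iso01 : AreIsometricFor (⇑Q) (eig z 1) (eig z (-1)) := by
  refine ⟨eigEquiv z v hvz 1, fun w => ?_⟩
  rw [eigEquiv_apply]
  exact hv _

include hv hvz in
theorem eig_iso10 : AreIsometricFor (⇑Q) (eig z (-1)) (eig z 1) := by
  refine ⟨(eigEquiv z v hvz 1).symm, fun w => ?_⟩
  have h := hv (((eigEquiv z v hvz 1).symm w : eig z 1) : ι → F)
  rw [← eigEquiv_apply z v hvz 1, LinearEquiv.apply_symm_apply] at h
  exact h.symm

include h2 hnd hz hv hzz hvz in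
/-- an involution with an anticommuting isometry splits the space into two isometric halves -/
theorem orthDecomp_of_anticomm [Nonempty ι] : ∃ (m : ℕ) (D : Fin 2 → Submodule F (ι → F)),
    2 * m = Fintype.card ι ∧ IsOrthogonalMDecomposition (⇑Q) m D := by
  refine ⟨finrank F (eig z 1), ![eig z 1, eig z (-1)], two_mul_finrank_eig h2 z v hzz hvz, ?_⟩
  have hm := two_mul_finrank_eig h2 z v hzz hvz
  have hcard : 0 < Fintype.card ι := Fintype.card_pos
  refine ⟨⟨⟨le_rfl, by omega, ?_, ?_, ?_⟩, ?_, ?_⟩, ?_⟩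
  · intro i
    fin_cases i
    · rfl
    · exact (LinearEquiv.finrank_eq (eigEquiv z v hvz 1)).symm
  · rw [iSupIndep_pair (i := (0 : Fin 2)) (j := 1) (by decide) (by
      intro k; fin_cases k
      · left; rfl
      · right; rfl)]
    exact eig_disjoint h2 z
  · rw [eq_top_iff, ← eig_sup h2 z hzz]
    apply sup_le
    · exact le_iSup (![eig z 1, eig z (-1)]) 0
    · exact le_iSup (![eig z 1, eig z (-1)]) 1
  · intro i
    fin_cases i
    · exact eig_nondeg_pos Q h2 hnd z hz hzz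
    · exact eig_nondeg_neg Q h2 hnd z hz hzz
  · intro i j hij
    fin_cases i <;> fin_cases j
    · exact absurd rfl hij
    · intro a ha b hb
      exact eig_orth Q h2 z hz ha hb
    · intro a ha b hb
      show polar Q a b = 0
      rw [polar_comm]
      exact eig_orth Q h2 z hz hb ha
    · exact absurd rfl hij
  · intro i j
    fin_cases i <;> fin_cases j
    · exact ⟨LinearEquiv.refl F _, fun w => rfl⟩
    · exact eig_iso01 Q z v hv hvz
    · exact eig_iso10 Q z v hv hvz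
    · exact ⟨LinearEquiv.refl F _, fun w => rfl⟩

end halves2

end Cfsg.Agent.Lib.Helper9.OE8
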