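import Mathlib
import Cfsg.Prelude
import Cfsg.Agent.Lib.Helper9.OE8a

set_option autoImplicit false
set_option linter.unusedSectionVars false
set_option linter.unusedVariables false
set_option linter.style.longLine false
set_option linter.unusedSimpArgs false
open Cfsg

namespace Cfsg.Agent.Lib.Helper9.OE8

open Module Matrix QuadraticMap
open Cfsg.Geo

variable {ι : Type} [Fintype ι] [DecidableEq ι] {F : Type*} [Field F]

theorem exists_sq_add_sq [Fintype F] (hodd : Odd (Fintype.card F)) (c : F) : ∃ s t : F, s ^ 2 + t ^ 2 = c := by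
  open Polynomial in
  let f : F[X] := X ^ 2
  open Polynomial in
  let g : F[X] := X ^ 2 - C c
  obtain ⟨a, b, hab⟩ : ∃ a b, f.eval a + g.eval b = 0 :=
    @FiniteField.exists_root_sum_quadratic _ _ _ _ f g (Polynomial.degree_X_pow 2)
      (Polynomial.degree_X_pow_sub_C (by decide) _) (Nat.odd_iff.mp hodd)
  refine ⟨a, b, ?_⟩
  rw [← sub_eq_zero]
  simpa only [f, g, Polynomial.eval_C, Polynomial.eval_X, Polynomial.eval_pow, Polynomial.eval_sub,
    ← add_sub_assoc] using hab

/-- an orthogonal basis of a subspace for the polar form -/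
theorem exists_orth_basis (Q : QuadraticForm F (ι → F)) (h2 : (2 : F) ≠ 0)
    (W : Submodule F (ι → F)) {d : ℕ} (hW : finrank F W = d) :
    ∃ w : Fin d → (ι → F), (∀ i, w i ∈ W) ∧ (∀ i, w i ≠ 0) ∧
      (∀ i j, i ≠ j → polar Q (w i) (w j) = 0) ∧
      (∀ x ∈ W, ∃ c : Fin d → F, x = ∑ i, c i • w i) := by
  subst hW
  haveI : Invertible (2 : F) := invertibleOfNonzero h2
  let B : LinearMap.BilinForm F W := (polarBilin Q).domRestrict₁₂ W W
  have hB : LinearMap.IsSymm B := by
    rw [LinearMap.isSymm_def]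
    intro x y
    show polar Q _ _ = polar Q _ _
    exact polar_comm Q _ _
  obtain ⟨v, hv⟩ := LinearMap.BilinForm.exists_orthogonal_basis hB
  refine ⟨fun i => (v i : ι → F), fun i => (v i).2, ?_, ?_, ?_⟩
  · intro i h
    exact v.ne_zero i (Subtype.ext h)
  · intro i j hij
    exact hv hij
  · intro x hx
    refine ⟨fun i => v.repr ⟨x, hx⟩ i, ?_⟩
    have h1 := v.sum_repr ⟨x, hx⟩
    have h3 := congrArg (fun y : W => (y : ι → F)) h1
    simp only [Submodule.coe_sum, Submodule.coe_smul] at h3
    exact h3.symm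

section plus
variable (Q : QuadraticForm F (ι → F)) (h2 : (2 : F) ≠ 0)

/-- linear combinations of two families -/
def lin2 {I : Type} [Fintype I] (w w' : I → (ι → F)) (c c' : I → F) : ι → F :=
  ∑ i, c i • w i + ∑ i, c' i • w' i

theorem polar_lin2 {I : Type} [Fintype I] [DecidableEq I] (w w' : I → (ι → F)) (a : I → F)
    (hww : ∀ i j, polar Q (w i) (w j) = if i = j then 2 * a i else 0)
    (hww' : ∀ i j, polar Q (w i) (w' j) = 0)
    (hw'w' : ∀ i j, polar Q (w' i) (w' j) = if i = j then 2 * a i else 0)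
    (c c' e e' : I → F) :
    polar Q (lin2 w w' c c') (lin2 w w' e e') = ∑ i, 2 * a i * (c i * e i + c' i * e' i) := by
  have hw'w : ∀ i j, polar Q (w' i) (w j) = 0 := fun i j => by rw [polar_comm]; exact hww' j i
  have key : ∀ x y : ι → F, polar Q x y = polarBilin Q x y := fun x y => rfl
  rw [key]
  unfold lin2
  simp only [map_add, map_sum, map_smul, LinearMap.add_apply, LinearMap.sum_apply,
    LinearMap.smul_apply, smul_eq_mul]
  simp only [← key, hww, hww', hw'w, hw'w', mul_zero, Finset.sum_const_zero, add_zero, zero_add,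
    mul_ite, Finset.sum_ite_eq', Finset.sum_ite_eq, Finset.mem_univ, if_true]
  rw [← Finset.sum_add_distrib]
  apply Finset.sum_congr rfl
  intro i _
  ring

theorem lin2_single_left {I : Type} [Fintype I] [DecidableEq I] (w w' : I → (ι → F)) (j : I) :
    lin2 w w' (Pi.single j 1) 0 = w j := by
  unfold lin2
  simp [Pi.single_apply, ite_smul]

theorem lin2_single_right {I : Type} [Fintype I] [DecidableEq I] (w w' : I → (ι → F)) (j : I) :
    lin2 w w' 0 (Pi.single j 1) = w' j := by
  unfold lin2
  simp [Pi.single_apply, ite_smul]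

/-- the linear map underlying `lin2` -/
def lin2L {I : Type} [Fintype I] (w w' : I → (ι → F)) : ((I → F) × (I → F)) →ₗ[F] (ι → F) :=
  (Fintype.linearCombination F w).coprod (Fintype.linearCombination F w')

theorem lin2L_apply {I : Type} [Fintype I] (w w' : I → (ι → F)) (p : (I → F) × (I → F)) :
    lin2L w w' p = lin2 w w' p.1 p.2 := by
  unfold lin2L lin2
  rw [LinearMap.coprod_apply, Fintype.linearCombination_apply, Fintype.linearCombination_apply]

/-- the coefficient map of the totally singular subspace -/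
def coefL {κ : Type} [Fintype κ] (s t : κ → F) :
    ((κ → F) × (κ → F)) →ₗ[F] ((κ × Fin 2 → F) × (κ × Fin 2 → F)) where
  toFun p := (fun i => if i.2 = 0 then s i.1 * p.1 i.1 - t i.1 * p.2 i.1 else p.1 i.1,
    fun i => if i.2 = 0 then t i.1 * p.1 i.1 + s i.1 * p.2 i.1 else p.2 i.1)
  map_add' p q := by
    ext i
    · simp only [Prod.fst_add, Prod.snd_add, Pi.add_apply]
      split_ifs <;> ring
    · simp only [Prod.fst_add, Prod.snd_add, Pi.add_apply]
      split_ifs <;> ring
  map_smul' r p := by
    ext i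
    · simp only [Prod.smul_fst, Prod.smul_snd, Pi.smul_apply, smul_eq_mul, RingHom.id_apply]
      split_ifs <;> ring
    · simp only [Prod.smul_fst, Prod.smul_snd, Pi.smul_apply, smul_eq_mul, RingHom.id_apply]
      split_ifs <;> ring

end plus

section plus2
variable (Q : QuadraticForm F (ι → F)) (h2 : (2 : F) ≠ 0)

include h2 in
/-- a paired orthogonal basis (`Q (w' i) = Q (w i)`, index set of pairs) gives plus type -/
theorem plus_of_paired [Fintype F] (hodd : Odd (Fintype.card F)) {κ : Type} [Fintype κ]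
    [DecidableEq κ] (w w' : κ × Fin 2 → (ι → F))
    (hne : ∀ i, Q (w i) ≠ 0) (hQ : ∀ i, Q (w' i) = Q (w i))
    (hw : ∀ i j, i ≠ j → polar Q (w i) (w j) = 0)
    (hww' : ∀ i j, polar Q (w i) (w' j) = 0)
    (hw' : ∀ i j, i ≠ j → polar Q (w' i) (w' j) = 0)
    (hcard : Fintype.card ι = 4 * Fintype.card κ) :
    IsPlusTypeOn (⇑Q) ⊤ := by
  classical
  have hself : ∀ x : ι → F, polar Q x x = 2 * Q x := fun x => by
    rw [polar_self]; simp [two_mul]
  set a : κ × Fin 2 → F := fun i => Q (w i) with ha
  have hwt : ∀ i j, polar Q (w i) (w j) = if i = j then 2 * a i else 0 := by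
    intro i j
    split_ifs with h
    · subst h; exact hself _
    · exact hw i j h
  have hwt' : ∀ i j, polar Q (w' i) (w' j) = if i = j then 2 * a i else 0 := by
    intro i j
    split_ifs with h
    · subst h; rw [hself, hQ]
    · exact hw' i j h
  have hst : ∀ k : κ, ∃ s t : F, a (k, 0) * (s ^ 2 + t ^ 2) = - a (k, 1) := by
    intro k
    obtain ⟨s, t, h⟩ := exists_sq_add_sq hodd (- a (k, 1) / a (k, 0))
    refine ⟨s, t, ?_⟩
    rw [h]
    have h0 : a (k, 0) ≠ 0 := hne (k, 0)
    field_simp
  choose s t hst using hst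
  set ψ : ((κ → F) × (κ → F)) →ₗ[F] (ι → F) := (lin2L w w').comp (coefL s t) with hψ
  have hψa : ∀ p, ψ p = lin2 w w' (coefL s t p).1 (coefL s t p).2 := fun p => by
    rw [hψ, LinearMap.comp_apply, lin2L_apply]
  have hpol : ∀ p q, polar Q (ψ p) (ψ q) = ∑ i, 2 * a i *
      ((coefL s t p).1 i * (coefL s t q).1 i + (coefL s t p).2 i * (coefL s t q).2 i) := by
    intro p q
    rw [hψa, hψa]
    exact polar_lin2 Q w w' a hwt hww' hwt' _ _ _ _
  have hinj : Function.Injective ψ := by
    rw [← LinearMap.ker_eq_bot, LinearMap.ker_eq_bot']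
    intro p hp
    have h1 : ∀ k, p.1 k = 0 := by
      intro k
      have h := polar_lin2 Q w w' a hwt hww' hwt' (coefL s t p).1 (coefL s t p).2
        (Pi.single (k, 1) 1) 0
      rw [← hψa, hp, lin2_single_left] at h
      simp only [polar_zero_left, Pi.zero_apply, mul_zero, add_zero, Pi.single_apply, mul_ite,
        mul_one, Finset.sum_ite_eq', Finset.mem_univ, if_true] at h
      have h3 : (coefL s t p).1 (k, 1) = p.1 k := by
        simp [coefL]
      rw [h3] at h
      rcases mul_eq_zero.mp h.symm with h4 | h4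
      · rcases mul_eq_zero.mp h4 with h5 | h5
        · exact absurd h5 h2
        · exact absurd h5 (hne _)
      · exact h4
    have h1' : ∀ k, p.2 k = 0 := by
      intro k
      have h := polar_lin2 Q w w' a hwt hww' hwt' (coefL s t p).1 (coefL s t p).2
        0 (Pi.single (k, 1) 1)
      rw [← hψa, hp, lin2_single_right] at h
      simp only [polar_zero_left, Pi.zero_apply, mul_zero, zero_add, Pi.single_apply, mul_ite,
        mul_one, Finset.sum_ite_eq', Finset.mem_univ, if_true] at h
      have h3 : (coefL s t p).2 (k, 1) = p.2 k := by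
        simp [coefL]
      rw [h3] at h
      rcases mul_eq_zero.mp h.symm with h4 | h4
      · rcases mul_eq_zero.mp h4 with h5 | h5
        · exact absurd h5 h2
        · exact absurd h5 (hne _)
      · exact h4
    ext k
    · exact h1 k
    · exact h1' k
  refine ⟨LinearMap.range ψ, le_top, ?_, ?_⟩
  · rintro _ ⟨p, rfl⟩
    have h := hpol p p
    rw [hself, Fintype.sum_prod_type] at h
    simp only [Fin.sum_univ_two] at h
    have h3 : ∀ k : κ, 2 * a (k, 0) * ((coefL s t p).1 (k, 0) * (coefL s t p).1 (k, 0) +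
        (coefL s t p).2 (k, 0) * (coefL s t p).2 (k, 0)) +
        2 * a (k, 1) * ((coefL s t p).1 (k, 1) * (coefL s t p).1 (k, 1) +
        (coefL s t p).2 (k, 1) * (coefL s t p).2 (k, 1)) = 0 := by
      intro k
      have e1 : (coefL s t p).1 (k, 0) = s k * p.1 k - t k * p.2 k := by simp [coefL]
      have e2 : (coefL s t p).2 (k, 0) = t k * p.1 k + s k * p.2 k := by simp [coefL]
      have e3 : (coefL s t p).1 (k, 1) = p.1 k := by simp [coefL]
      have e4 : (coefL s t p).2 (k, 1) = p.2 k := by simp [coefL]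
      rw [e1, e2, e3, e4]
      linear_combination (2 * (p.1 k ^ 2 + p.2 k ^ 2)) * hst k
    rw [Finset.sum_congr rfl (fun k _ => h3 k), Finset.sum_const_zero] at h
    rcases mul_eq_zero.mp h with h4 | h4
    · exact absurd h4 h2
    · exact h4
  · rw [LinearMap.finrank_range_of_inj hinj, finrank_top, Module.finrank_prod,
      Module.finrank_fintype_fun_eq_card, Module.finrank_fintype_fun_eq_card, hcard]
    ring

end plus2

section halves2
variable (Q : QuadraticForm F (ι → F)) (h2 : (2 : F) ≠ 0)

theorem polar_isometry {W₁ W₂ : Submodule F (ι → F)} (e : W₁ ≃ₗ[F] W₂)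
    (he : ∀ x : W₁, Q ((e x : W₂) : ι → F) = Q (x : ι → F)) (x y : W₁) :
    polar Q ((e x : W₂) : ι → F) ((e y : W₂) : ι → F) = polar Q (x : ι → F) (y : ι → F) := by
  unfold polar
  rw [← Submodule.coe_add, ← map_add, he, he, he, Submodule.coe_add]

include h2 in
/-- two orthogonal isometric nondegenerate halves of even dimension: plus type -/
theorem plus_of_isometric_halves [Fintype F] (hodd : Odd (Fintype.card F)) {k : ℕ}
    (W₁ W₂ : Submodule F (ι → F)) (hdim : finrank F W₁ = k * 2)
    (hcard : Fintype.card ι = 4 * k)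
    (hnd : IsNondegenerateOn (polar ⇑Q) W₁) (horth : AreOrthogonalFor (polar ⇑Q) W₁ W₂)
    (hiso : AreIsometricFor (⇑Q) W₁ W₂) : IsPlusTypeOn (⇑Q) ⊤ := by
  classical
  obtain ⟨w₀, hmem, hne0, horth0, hspan⟩ := exists_orth_basis Q h2 W₁ hdim
  obtain ⟨e, he⟩ := hiso
  have hself : ∀ x : ι → F, polar Q x x = 2 * Q x := fun x => by
    rw [polar_self]; simp [two_mul]
  have hne : ∀ i, Q (w₀ i) ≠ 0 := by
    intro i h
    obtain ⟨⟨x, hx, hpol⟩, -⟩ := hnd (w₀ i) (hmem i) (hne0 i)
    apply hpol
    obtain ⟨c, rfl⟩ := hspan x hx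
    have key : ∀ x y : ι → F, polar Q x y = polarBilin Q x y := fun x y => rfl
    rw [key]
    simp only [map_sum, map_smul, LinearMap.sum_apply, LinearMap.smul_apply, smul_eq_mul]
    apply Finset.sum_eq_zero
    intro j _
    rw [← key]
    by_cases hji : j = i
    · subst hji
      rw [hself, h, mul_zero, mul_zero]
    · rw [horth0 j i hji, mul_zero]
  refine plus_of_paired Q h2 hodd (κ := Fin k) (fun i => w₀ (finProdFinEquiv i))
    (fun i => ((e ⟨w₀ (finProdFinEquiv i), hmem _⟩ : W₂) : ι → F)) (fun i => hne _)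
    (fun i => he _) ?_ ?_ ?_ (by simpa using hcard)
  · intro i j hij
    exact horth0 _ _ (fun h => hij (finProdFinEquiv.injective h))
  · intro i j
    exact horth _ (hmem _) _ (e _).2
  · intro i j hij
    rw [polar_isometry Q e he]
    exact horth0 _ _ (fun h => hij (finProdFinEquiv.injective h))

include h2 in
/-- an isometric orthogonal decomposition into two halves of even dimension: plus type -/
theorem plus_of_orthDecomp [Fintype F] (hodd : Odd (Fintype.card F)) {k : ℕ}
    (D : Fin 2 → Submodule F (ι → F)) (hD : IsOrthogonalMDecomposition (⇑Q) (k * 2) D)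
    (hcard : Fintype.card ι = 4 * k) : IsPlusTypeOn (⇑Q) ⊤ :=
  plus_of_isometric_halves Q h2 hodd (D 0) (D 1) (hD.decomp.decomp.finrank_eq 0) hcard
    (hD.decomp.nondegenerate 0) (hD.decomp.orthogonal 0 1 (by decide)) (hD.isometric 0 1)

end halves2

end Cfsg.Agent.Lib.Helper9.OE8
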