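import Mathlib
import Cfsg.Prelude
import Cfsg.Agent.Lib.Helper9.OE8b
import Cfsg.Agent.Lib.Helper5.AschO.Basic
import Cfsg.Agent.Lib.Helper8.SpK7

set_option autoImplicit false
set_option linter.unusedSectionVars false
set_option linter.unusedVariables false
set_option linter.style.longLine false
set_option linter.unusedSimpArgs false
open Cfsg

namespace Cfsg.Agent.Lib.Helper9.OE8

open Module Matrix QuadraticMap
open scoped commutatorElement
open Cfsg.Geo Cfsg.Agent.Lib.Helper8.Asch Cfsg.Agent.Lib.Helper5.AschO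

variable {ι : Type} [Fintype ι] [DecidableEq ι] {F : Type*} [Field F]

theorem nondeg_of_gramQ_det (Q : QuadraticForm F (ι → F)) (hGdet : (gramQ Q).det ≠ 0) :
    ∀ w : ι → F, w ≠ 0 → ∃ x, polar Q x w ≠ 0 := by
  intro w hw
  by_contra hcon
  push Not at hcon
  exact hw (bf_eq_zero_of_det hGdet (fun u => by rw [← polar_eq_bf]; exact hcon u))

/-- Case A (`⁅N, N⁆` scalar, `N` spanning) in an orthogonal group of dimension `4k`, `q` odd:
the form is of plus type -/
theorem caseA_plus [Fintype F] [Nonempty ι] (Q : QuadraticForm F (ι → F)) (h2 : (2 : F) ≠ 0)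
    (hodd : Odd (Fintype.card F)) (hGdet : (gramQ Q).det ≠ 0) {k : ℕ}
    (hcard : Fintype.card ι = 4 * k) (hk : 1 ≤ k) {N : Subgroup (GL ι F)}
    (hisom : ∀ x ∈ N, (x : Matrix ι ι F)ᵀ * gramQ Q * (x : Matrix ι ι F) = gramQ Q)
    (hspan : Submodule.span F (mset N) = ⊤) (hc : ⁅N, N⁆ ≤ Zs ι F) : IsPlusTypeOn (⇑Q) ⊤ := by
  obtain ⟨z, hz, v, hv, hzz, hvz⟩ :=
    exists_anticomm_involution hGdet h2 hisom hspan hc (by omega)
  obtain ⟨m, D, hm, hD⟩ := orthDecomp_of_anticomm Q h2 (nondeg_of_gramQ_det Q hGdet) z v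
    ((isom_iff_gram Q h2 _).mpr (hisom z hz)) ((isom_iff_gram Q h2 _).mpr (hisom v hv)) hzz hvz
  have hm2 : m = k * 2 := by omega
  subst hm2
  exact plus_of_orthDecomp Q h2 hodd D hD hcard

section diag
open Cfsg.Agent.Lib.Helper8.Asch

/-- an orthogonal family of vectors with non-zero norms for a symmetric invertible matrix -/
theorem exists_diag_vectors (h2 : (2 : F) ≠ 0) {mm : ℕ} (G₀ : Matrix (Fin mm) (Fin mm) F)
    (hs : G₀ᵀ = G₀) (hd : G₀.det ≠ 0) :
    ∃ v : Fin mm → (Fin mm → F), (∀ p q, p ≠ q → v p ⬝ᵥ G₀ *ᵥ v q = 0) ∧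
      (∀ p, v p ⬝ᵥ G₀ *ᵥ v p ≠ 0) := by
  haveI : Invertible (2 : F) := invertibleOfNonzero h2
  have hB : (Matrix.toBilin' G₀).IsSymm := Matrix.isSymm_toBilin'_iff_isSymm.mpr hs
  have hnd : (Matrix.toBilin' G₀).Nondegenerate :=
    LinearMap.BilinForm.nondegenerate_toBilin'_of_det_ne_zero' G₀ hd
  have hB' : LinearMap.IsSymm (Matrix.toBilin' G₀) := by
    rw [LinearMap.isSymm_def]
    intro x y
    exact hB.eq x y
  obtain ⟨v, hv⟩ := LinearMap.BilinForm.exists_orthogonal_basis hB'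
  have hfr : finrank F (Fin mm → F) = mm := Module.finrank_fin_fun F
  refine ⟨fun p => v (Fin.cast hfr.symm p), ?_, ?_⟩
  · intro p q hpq
    have h := hv (i := Fin.cast hfr.symm p) (j := Fin.cast hfr.symm q) (by
      intro h
      apply hpq
      have := congrArg Fin.val h
      exact Fin.ext (by simpa using this))
    have h' : Matrix.toBilin' G₀ (v (Fin.cast hfr.symm p)) (v (Fin.cast hfr.symm q)) = 0 := h
    rw [Matrix.toBilin'_apply'] at h'
    exact h'
  · intro p h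
    have h3 := LinearMap.BilinForm.iIsOrtho.not_isOrtho_basis_self_of_nondegenerate hv hnd
      (Fin.cast hfr.symm p)
    apply h3
    show Matrix.toBilin' G₀ (v (Fin.cast hfr.symm p)) (v (Fin.cast hfr.symm p)) = 0
    rw [Matrix.toBilin'_apply']
    exact h

end diag

section tens
open Cfsg.Agent.Lib.Helper8.Asch

/-- the form on pure tensors of a tensor basis whose Gram matrix is a pure tensor -/
theorem tensor_bilin {k mm : ℕ} (B : LinearMap.BilinForm F (ι → F))
    (b : Basis (Fin k → Fin mm) F (ι → F)) (G₀ : Matrix (Fin mm) (Fin mm) F) (Λ : F)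
    (hG : LinearMap.BilinForm.toMatrix b B = Λ • ptM (fun _ : Fin k => G₀))
    (ws ws' : Fin k → Fin mm → F) :
    B (b.equivFun.symm (ptV ws)) (b.equivFun.symm (ptV ws')) =
      Λ * ∏ i, ws i ⬝ᵥ G₀ *ᵥ ws' i := by
  have hr : ∀ x : (Fin k → Fin mm) → F, ⇑(b.repr (b.equivFun.symm x)) = x := fun x => by
    have h := b.equivFun.apply_symm_apply x
    rw [Basis.equivFun_apply] at h
    exact h
  rw [LinearMap.BilinForm.apply_eq_dotProduct_toMatrix_mulVec b, hG, hr, hr, Matrix.smul_mulVec,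
    ptM_mulVec_ptV, dotProduct_smul, ptV_dotProduct, smul_eq_mul]

end tens

section cube
open Cfsg.Agent.Lib.Helper8.Asch

/-- index table for the first family -/
def cubeX (i : Fin 2 × Fin 2) : Fin 3 → Fin 2 :=
  (![![![0, 0, 0], ![0, 1, 1]], ![![1, 1, 1], ![1, 0, 0]]] : Fin 2 → Fin 2 → Fin 3 → Fin 2) i.1 i.2

/-- index table for the second family -/
def cubeX' (i : Fin 2 × Fin 2) : Fin 3 → Fin 2 :=
  (![![![1, 0, 1], ![1, 1, 0]], ![![0, 1, 0], ![0, 0, 1]]] : Fin 2 → Fin 2 → Fin 3 → Fin 2) i.1 i.2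

theorem cubeX_inj : ∀ i j : Fin 2 × Fin 2, i ≠ j → cubeX i ≠ cubeX j := by decide

theorem cubeX'_inj : ∀ i j : Fin 2 × Fin 2, i ≠ j → cubeX' i ≠ cubeX' j := by decide

theorem cubeX_ne : ∀ i j : Fin 2 × Fin 2, cubeX i ≠ cubeX' j := by decide

/-- a threefold tensor power of a symmetric form on a plane is of plus type (`q` odd) -/
theorem plus_of_tensor_cube [Fintype F] (Q : QuadraticForm F (ι → F)) (h2 : (2 : F) ≠ 0)
    (hodd : Odd (Fintype.card F)) (B : LinearMap.BilinForm F (ι → F))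
    (hB : ∀ u v, B u v = polar Q u v)
    (b : Basis (Fin 3 → Fin 2) F (ι → F)) (G₀ : Matrix (Fin 2) (Fin 2) F) (hs : G₀ᵀ = G₀)
    (hd : G₀.det ≠ 0) (Λ : F) (hΛ : Λ ≠ 0)
    (hG : LinearMap.BilinForm.toMatrix b B = Λ • ptM (fun _ : Fin 3 => G₀))
    (hcard : Fintype.card ι = 8) : IsPlusTypeOn (⇑Q) ⊤ := by
  classical
  obtain ⟨v, hvo, hvn⟩ := exists_diag_vectors h2 G₀ hs hd
  have hself : ∀ x : ι → F, polar Q x x = 2 * Q x := fun x => by
    rw [polar_self]; simp [two_mul]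
  set a : Fin 2 → F := fun p => v p ⬝ᵥ G₀ *ᵥ v p with ha
  have ha0 : a 0 ≠ 0 := hvn 0
  have ha1 : a 1 ≠ 0 := hvn 1
  set Wt : (Fin 3 → Fin 2) → (ι → F) := fun x => b.equivFun.symm (ptV (fun i => v (x i))) with hWt
  have hpol : ∀ x y, polar Q (Wt x) (Wt y) = if x = y then Λ * ∏ i, a (x i) else 0 := by
    intro x y
    rw [← hB, hWt, tensor_bilin B b G₀ Λ hG]
    split_ifs with h
    · subst h; rfl
    · obtain ⟨i, hi⟩ := Function.ne_iff.mp h
      rw [Finset.prod_eq_zero (Finset.mem_univ i) (hvo _ _ hi), mul_zero]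
  have hQW : ∀ x, 2 * Q (Wt x) = Λ * (a (x 0) * a (x 1) * a (x 2)) := by
    intro x
    rw [← hself, hpol, if_pos rfl, Fin.prod_univ_three]
  set c : Fin 2 × Fin 2 → F := fun i =>
    (![![a 1 / a 0, 1], ![a 0 / a 1, 1]] : Fin 2 → Fin 2 → F) i.1 i.2 with hc
  have hc0 : ∀ i, c i ≠ 0 := by
    rintro ⟨i1, i2⟩
    fin_cases i1 <;> fin_cases i2 <;> simp [hc, ha0, ha1]
  have hQc : ∀ (r : F) (u : ι → F), Q (r • u) = r * r * Q u := fun r u => by
    rw [QuadraticMap.map_smul, smul_eq_mul]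
  refine plus_of_paired Q h2 hodd (κ := Fin 2) (fun i => c i • Wt (cubeX i))
    (fun i => Wt (cubeX' i)) ?_ ?_ ?_ ?_ ?_ (by simpa using hcard)
  · intro i h
    rw [hQc] at h
    have h3 : 2 * Q (Wt (cubeX i)) ≠ 0 := by
      rw [hQW]
      refine mul_ne_zero hΛ (mul_ne_zero (mul_ne_zero (hvn _) (hvn _)) (hvn _))
    apply h3
    rcases mul_eq_zero.mp h with h4 | h4
    · exact absurd (mul_self_eq_zero.mp h4) (hc0 i)
    · rw [h4, mul_zero]
  · intro i
    have h3 : 2 * Q (Wt (cubeX' i)) = 2 * Q (c i • Wt (cubeX i)) := by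
      rw [hQc, hQW]
      have : 2 * (c i * c i * Q (Wt (cubeX i))) = c i * c i * (2 * Q (Wt (cubeX i))) := by ring
      rw [this, hQW]
      have key : a (cubeX' i 0) * a (cubeX' i 1) * a (cubeX' i 2) =
          c i * c i * (a (cubeX i 0) * a (cubeX i 1) * a (cubeX i 2)) := by
        rcases i with ⟨i1, i2⟩
        fin_cases i1 <;> fin_cases i2
        · show a 1 * a 0 * a 1 = a 1 / a 0 * (a 1 / a 0) * (a 0 * a 0 * a 0)
          field_simp
        · show a 1 * a 1 * a 0 = 1 * 1 * (a 0 * a 1 * a 1)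
          ring
        · show a 0 * a 1 * a 0 = a 0 / a 1 * (a 0 / a 1) * (a 1 * a 1 * a 1)
          field_simp
        · show a 0 * a 0 * a 1 = 1 * 1 * (a 1 * a 0 * a 0)
          ring
      rw [key]
      ring
    exact mul_left_cancel₀ h2 h3
  · intro i j hij
    rw [polar_smul_left, polar_smul_right, hpol, if_neg (cubeX_inj i j hij), smul_zero, smul_zero]
  · intro i j
    rw [polar_smul_left, hpol, if_neg (cubeX_ne i j), smul_zero]
  · intro i j hij
    rw [hpol, if_neg (cubeX'_inj i j hij)]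

end cube

section glue
open Cfsg.Agent.Lib.Helper8.Asch

theorem isBilinearForm_polar (Q : QuadraticForm F (ι → F)) : IsBilinearForm (polar ⇑Q) where
  add_left := fun x y v => polar_add_left Q x y v
  smul_left := fun c x v => by rw [polar_smul_left, smul_eq_mul]
  add_right := fun v x y => polar_add_right Q v x y
  smul_right := fun c v x => by rw [polar_smul_right, smul_eq_mul]

theorem pow_eq_eight {mm k : ℕ} (hk : 2 ≤ k) (h : mm ^ k = 8) : mm = 2 ∧ k = 3 := by
  have h1 : mm ^ 2 ≤ 8 := by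
    rw [← h]
    rcases Nat.eq_zero_or_pos mm with h0 | h0
    · subst h0
      rw [zero_pow (by omega)] at h
      omega
    · exact Nat.pow_le_pow_right h0 hk
  have h2 : mm ≤ 2 := by
    by_contra hc
    push Not at hc
    have : 3 ^ 2 ≤ mm ^ 2 := Nat.pow_le_pow_left hc 2
    omega
  interval_cases mm
  · rw [zero_pow (by omega)] at h
    omega
  · rw [one_pow] at h
    omega
  · refine ⟨rfl, ?_⟩
    have : (2 : ℕ) ^ k = 2 ^ 3 := by rw [h]; norm_num
    exact Nat.pow_right_injective (le_refl 2) this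

/-- the wreath case of the structure theorem in an orthogonal group of dimension `8`, `q` odd:
the form is of plus type -/
theorem wreath_plus8 [Fintype F] [Nonempty ι] (Q : QuadraticForm F (ι → F)) (h2 : (2 : F) ≠ 0)
    (hodd : Odd (Fintype.card F)) (hGdet : (gramQ Q).det ≠ 0) (hcard : Fintype.card ι = 8)
    (H N : Subgroup (GL ι F))
    (hHi : ∀ h ∈ H, ∀ u, Q ((h : Matrix ι ι F) *ᵥ u) = Q u) (hNH : N ≤ H)
    (hspan : Submodule.span F (mset N) = ⊤)
    (k : ℕ) (P : Fin k → Subgroup (GL ι F)) (hk : 2 ≤ k)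
    (hPinj : Function.Injective P) (hPN : ∀ i, P i ≤ N)
    (hcomm : ∀ i j, i ≠ j → ∀ x ∈ P i, ∀ y ∈ P j, x * y = y * x)
    (hgen : Subgroup.closure (⋃ i, (P i : Set (GL ι F))) = N)
    (hperm : ∀ h ∈ H, ∃ σ : Equiv.Perm (Fin k), ∀ i, cj h (P i) = P (σ i))
    (htrans : ∀ i j, ∃ h ∈ H, cj h (P i) = P j) : IsPlusTypeOn (⇑Q) ⊤ := by
  have hf := isBilinearForm_polar Q
  have hnd0 := nondeg_of_gramQ_det Q hGdet
  have hnd : IsNondegenerateForm (polar ⇑Q) := by
    intro v hv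
    obtain ⟨x, hx⟩ := hnd0 v hv
    exact ⟨⟨x, hx⟩, ⟨x, by rw [polar_comm]; exact hx⟩⟩
  have hIsom : Isom (polar ⇑Q) H := by
    intro h hh u v
    exact polar_z Q h (hHi h hh) u v
  obtain ⟨mm, b, Gs, hmm, hG, hwr, hpos⟩ := wreath_data hf hnd H N hIsom hNH hspan k P hk hPN
    hcomm hgen htrans
  haveI : Nonempty (Fin mm) := ⟨⟨0, hmm⟩⟩
  set i₀ : Fin k := ⟨0, by omega⟩ with hi₀
  have htr : ∀ i, ∃ x : Module.End F (ι → F),
      (∀ u v, toBilin hf (x u) (x v) = toBilin hf u v) ∧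
      ∃ σ : Equiv.Perm (Fin k), σ i₀ = i ∧ IsWr b x σ := by
    intro i
    obtain ⟨h, hh, hhi⟩ := htrans i₀ i
    obtain ⟨σ, hσ⟩ := hperm h hh
    refine ⟨Matrix.toLin' (h : Matrix ι ι F), ?_, σ, ?_, hwr h hh σ hσ⟩
    · intro u v
      rw [Matrix.toLin'_apply, Matrix.toLin'_apply, Cfsg.Agent.Lib.Helper8.Asch.toBilin_apply, Cfsg.Agent.Lib.Helper8.Asch.toBilin_apply]
      exact hIsom h hh u v
    · apply hPinj
      rw [← hσ i₀, hhi]
  obtain ⟨b', Λ, hΛ, hG', -⟩ := wreath_normalize (toBilin hf) b i₀ Gs hG htr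
  have hc8 : mm ^ k = 8 := by
    have h1 := Module.finrank_eq_card_basis b
    rw [Module.finrank_fintype_fun_eq_card, Fintype.card_fun, Fintype.card_fin,
      Fintype.card_fin, hcard] at h1
    exact h1.symm
  obtain ⟨hmm2, hk3⟩ := pow_eq_eight hk hc8
  subst hmm2 hk3
  have hEps : EpsForm (toBilin hf) 1 := by
    refine ⟨toBilin_nondegenerate hf hnd, ?_, one_mul 1⟩
    intro x y
    rw [one_mul, Cfsg.Agent.Lib.Helper8.Asch.toBilin_apply, Cfsg.Agent.Lib.Helper8.Asch.toBilin_apply, polar_comm]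
  have ht := gram_transpose hEps b'
  rw [hG'] at ht
  obtain ⟨c, hc, hck, hcc⟩ := const_factor_symm (by norm_num : 0 < 3)
    ((Gs i₀ : GL (Fin 2) F) : Matrix (Fin 2) (Fin 2) F) (gl_ne_zero (Gs i₀)) Λ 1 hΛ one_ne_zero ht
  have hc1 : c = 1 := by linear_combination hck - c * hcc
  subst hc1
  rw [one_smul] at hc
  exact plus_of_tensor_cube Q h2 hodd (toBilin hf) (fun u v => rfl) b' _ hc
    (Matrix.isUnits_det_units (Gs i₀)).ne_zero Λ hΛ hG' hcard

end glue

end Cfsg.Agent.Lib.Helper9.OE8
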