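import Mathlib
import Cfsg.Prelude
import Cfsg.Agent.Lib.Helper9.OE12d
import Cfsg.Agent.Lib.Helper5.TensorFormSub
import Cfsg.Agent.Lib.Helper9.OE8c

set_option autoImplicit false
set_option linter.unusedSectionVars false
set_option linter.unusedVariables false
set_option linter.style.longLine false
set_option linter.unusedSimpArgs false
open Cfsg

set_option maxHeartbeats 1600000
namespace Cfsg.Agent.Lib.Helper9.OE12

open QuadraticMap Module Matrix Kronecker
open Cfsg.Geo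
open Cfsg.Agent.Lib.Helper5 Cfsg.Agent.Lib.Helper5.QuadTwo Cfsg.Agent.Lib.Helper5.QuadSign
open Cfsg.Agent.Lib.Helper5.TensorFormSub

universe u

section tens
variable {F : Type u} [Field F] [Fintype F] {ι : Type} [Fintype ι] [DecidableEq ι]
  (Q : QuadraticForm F (ι → F))

theorem dot_eq_form {κ : Type} [Fintype κ] [DecidableEq κ] (f : (κ → F) → (κ → F) → F)
    (hf : IsBilinearForm f) (x y : κ → F) : x ⬝ᵥ (gramMatrix f) *ᵥ y = f x y := by
  rw [← formOfGram_gram hf x y]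
  unfold formOfGram
  simp only [dotProduct, mulVec, Finset.mul_sum, id, mul_assoc]

/-- diagonalising a nondegenerate symmetric bilinear form in odd characteristic -/
theorem exists_diag_form (h2 : (2 : F) ≠ 0) {n : ℕ} (f : (Fin n → F) → (Fin n → F) → F)
    (hf : IsSymmetricForm f) :
    ∃ v : Fin n → (Fin n → F), (∀ p q, p ≠ q → f (v p) (v q) = 0) ∧ (∀ p, f (v p) (v p) ≠ 0) := by
  have hs : (gramMatrix f)ᵀ = gramMatrix f := by
    ext a b
    rw [Matrix.transpose_apply]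
    exact hf.symm _ _
  have hd : (gramMatrix f).det ≠ 0 := by
    intro h0
    obtain ⟨w, hw0, hw⟩ := Matrix.exists_mulVec_eq_zero_iff.2 h0
    obtain ⟨⟨x, hx⟩, _⟩ := hf.nondegenerate w hw0
    apply hx
    rw [← dot_eq_form f hf.bilinear, hw, dotProduct_zero]
  obtain ⟨v, hv1, hv2⟩ := Cfsg.Agent.Lib.Helper9.OE8.exists_diag_vectors h2 (gramMatrix f) hs hd
  refine ⟨v, fun p q hpq => ?_, fun p => ?_⟩
  · rw [← dot_eq_form f hf.bilinear]
    exact hv1 p q hpq
  · rw [← dot_eq_form f hf.bilinear]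
    exact hv2 p

/-- the quadratic form `y ↦ f y y` of a bilinear form -/
theorem exists_quadForm {n : ℕ} (f : (Fin n → F) → (Fin n → F) → F) (hf : IsBilinearForm f) :
    ∃ q : QuadraticForm F (Fin n → F), ∀ y, q y = f y y := by
  refine ⟨LinearMap.BilinMap.toQuadraticMap (LinearMap.mk₂ F f hf.add_left
    (fun c x y => by rw [hf.smul_left, smul_eq_mul]) hf.add_right
    (fun c x y => by rw [hf.smul_right, smul_eq_mul])), fun y => ?_⟩
  rw [LinearMap.BilinMap.toQuadraticMap_apply]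
  rfl

theorem nd_quadForm (h2 : (2 : F) ≠ 0) {n : ℕ} (f : (Fin n → F) → (Fin n → F) → F)
    (hf : IsSymmetricForm f) (q : QuadraticForm F (Fin n → F)) (hq : ∀ y, q y = f y y) : Nd q := by
  intro y hy
  by_contra hy0
  obtain ⟨⟨x, hx⟩, _⟩ := hf.nondegenerate y hy0
  apply hx
  have h1 := hy x
  simp only [polar, hq] at h1
  rw [hf.bilinear.add_left, hf.bilinear.add_right, hf.bilinear.add_right, hf.symm y x] at h1
  have h3 : (2 : F) * f x y = 0 := by linear_combination h1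
  rcases mul_eq_zero.1 h3 with h | h
  · exact absurd h h2
  · exact h

theorem hasSign_smul {V : Type u} [AddCommGroup V] [Module F V] [FiniteDimensional F V]
    (q : QuadraticForm F V) {c : F} (hc : c ≠ 0) (k : ℕ) (s : ℤ) (h : HasSign q k s) :
    HasSign (c • q) k s := by
  unfold HasSign at h ⊢
  rw [← zeros_smul q hc]
  exact h

/-- the sign of a tensor product form `f₁ ⊗ f₂` with `f₂` of even dimension `2b` and sign `s`:
sign `s ^ n₁` -/
theorem tensor_sign (h2 : (2 : F) ≠ 0) {n₁ n₂ : ℕ} (e : ι ≃ Fin n₁ × Fin n₂) (P : GL ι F)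
    (f₁ : (Fin n₁ → F) → (Fin n₁ → F) → F) (f₂ : (Fin n₂ → F) → (Fin n₂ → F) → F)
    (hf₁ : IsSymmetricForm f₁) (hf₂ : IsSymmetricForm f₂)
    (hT : IsTensorFormStructure id (polar ⇑Q) f₁ f₂ e P)
    (q₂ : QuadraticForm F (Fin n₂ → F)) (hq₂ : ∀ y, q₂ y = f₂ y y) (b : ℕ) (hb : n₂ = 2 * b) (s : ℤ)
    (hs : HasSign q₂ b s) :
    Nd (res Q (⊤ : Submodule F (ι → F))) ∧
      finrank F ↥(⊤ : Submodule F (ι → F)) = 2 * (n₁ * b) ∧
      HasSign (res Q (⊤ : Submodule F (ι → F))) (n₁ * b) (s ^ n₁) := by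
  obtain ⟨c, hc0, hc⟩ := hT
  obtain ⟨v, hv1, hv2⟩ := exists_diag_form h2 f₁ hf₁
  obtain ⟨T, hTdef⟩ : ∃ T : Fin n₁ → (Fin n₂ → F) →ₗ[F] (ι → F),
      ∀ p y, T p y = (P : Matrix ι ι F) *ᵥ (pt (v p) y ∘ e) := by
    refine ⟨fun p => { toFun := fun y => (P : Matrix ι ι F) *ᵥ (pt (v p) y ∘ e),
                       map_add' := ?_, map_smul' := ?_ }, fun p y => rfl⟩
    · intro y y'
      rw [pt_add_right, ← Matrix.mulVec_add]
      rfl
    · intro a y
      rw [pt_smul_right, RingHom.id_apply, ← Matrix.mulVec_smul]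
      rfl
  have hpol : ∀ p p' y y', polar ⇑Q (T p y) (T p' y') = c * (f₁ (v p) (v p') * f₂ y y') := by
    intro p p' y y'
    rw [hTdef, hTdef, hc (pt (v p) y) (pt (v p') y'), formOfGram_kron_pt,
      formOfGram_gram hf₁.bilinear, formOfGram_gram hf₂.bilinear]
  have hQT : ∀ p y, Q (T p y) = (c * f₁ (v p) (v p) / 2) * q₂ y := by
    intro p y
    have h1 : (2 : F) * Q (T p y) = c * (f₁ (v p) (v p) * f₂ y y) := by
      rw [← hpol p p y y, polar_self, two_smul, two_mul]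
    rw [hq₂]
    field_simp
    linear_combination h1
  have hlam : ∀ p, c * f₁ (v p) (v p) / 2 ≠ 0 := fun p =>
    div_ne_zero (mul_ne_zero hc0 (hv2 p)) h2
  have hinj : ∀ p, Function.Injective (T p) := by
    intro p
    rw [← LinearMap.ker_eq_bot, LinearMap.ker_eq_bot']
    intro y hy
    by_contra hy0
    obtain ⟨_, ⟨x, hx⟩⟩ := hf₂.nondegenerate y hy0
    apply hx
    have h1 := hpol p p y x
    rw [hy, polar_zero_left] at h1
    rcases mul_eq_zero.1 h1.symm with h | h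
    · exact absurd h hc0
    · rcases mul_eq_zero.1 h with h' | h'
      · exact absurd h' (hv2 p)
      · exact h'
  obtain ⟨D, hD⟩ : ∃ D : Fin n₁ → Submodule F (ι → F), ∀ p, D p = LinearMap.range (T p) :=
    ⟨fun p => LinearMap.range (T p), fun p => rfl⟩
  have hnd : ∀ p, Nd (res Q (D p)) := by
    intro p x hx
    obtain ⟨x, hxD⟩ := x
    have hxD' := hxD
    rw [hD] at hxD'
    obtain ⟨y, rfl⟩ := hxD'
    have hy : y = 0 := by
      by_contra hy0
      obtain ⟨⟨z, hz⟩, _⟩ := hf₂.nondegenerate y hy0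
      apply hz
      have h1 := hx ⟨T p z, by rw [hD]; exact ⟨z, rfl⟩⟩
      rw [polar_res] at h1
      simp only at h1
      rw [hpol] at h1
      rcases mul_eq_zero.1 h1 with h | h
      · exact absurd h hc0
      · rcases mul_eq_zero.1 h with h' | h'
        · exact absurd h' (hv2 p)
        · exact h'
    apply Subtype.ext
    simp [hy]
  have hdim : ∀ p, finrank F (D p) = 2 * b := by
    intro p
    rw [hD, ← LinearEquiv.finrank_eq (LinearEquiv.ofInjective (T p) (hinj p)),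
      Module.finrank_fintype_fun_eq_card, Fintype.card_fin, hb]
  have horth : ∀ p p', p ≠ p' → ∀ x ∈ D p, ∀ x' ∈ D p', polar ⇑Q x x' = 0 := by
    intro p p' hpp x hx x' hx'
    rw [hD] at hx hx'
    obtain ⟨y, rfl⟩ := hx
    obtain ⟨y', rfl⟩ := hx'
    rw [hpol, hv1 p p' hpp, zero_mul, mul_zero]
  have hsgn : ∀ p, HasSign (res Q (D p)) b s := by
    intro p
    have h1 := hasSign_smul q₂ (hlam p) b s hs
    obtain ⟨E, hE⟩ : ∃ E : (Fin n₂ → F) ≃ ↥(D p), ∀ y, ((E y : ↥(D p)) : ι → F) = T p y := by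
      refine ⟨Equiv.ofBijective (fun y => ⟨T p y, by rw [hD]; exact ⟨y, rfl⟩⟩) ⟨?_, ?_⟩,
        fun y => rfl⟩
      · intro y y' hyy
        exact hinj p (congrArg Subtype.val hyy)
      · rintro ⟨x, hx⟩
        have hx' := hx
        rw [hD] at hx'
        obtain ⟨y, rfl⟩ := hx'
        exact ⟨y, rfl⟩
    refine (hasSign_congr E (⇑((c * f₁ (v p) (v p) / 2) • q₂)) (res Q (D p)) ?_ b s).1 h1
    intro y
    rw [res_apply, hE, hQT]
    rfl
  have h := iSup_data Q n₁ D b s hnd hdim horth hsgn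
  have htop : (⨆ p, D p) = ⊤ := by
    apply Submodule.eq_top_of_finrank_eq
    rw [h.2.1, Module.finrank_fintype_fun_eq_card, Fintype.card_congr e, Fintype.card_prod,
      Fintype.card_fin, Fintype.card_fin, hb]
    ring
  exact data_of_eq Q htop (n₁ * b) (s ^ n₁) h

/-- tensor product `f₁ ⊗ f₂` of plus type with `n₁` odd and `n₂ = 2b`: the factor `f₂` has a totally
isotropic subspace of dimension `b` -/
theorem tensor_odd_plus (h2 : (2 : F) ≠ 0) {n₁ n₂ : ℕ} (e : ι ≃ Fin n₁ × Fin n₂) (P : GL ι F)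
    (f₁ : (Fin n₁ → F) → (Fin n₁ → F) → F) (f₂ : (Fin n₂ → F) → (Fin n₂ → F) → F)
    (hf₁ : IsSymmetricForm f₁) (hf₂ : IsSymmetricForm f₂)
    (hT : IsTensorFormStructure id (polar ⇑Q) f₁ f₂ e P) (b : ℕ) (hb : n₂ = 2 * b)
    (hn₁ : Odd n₁) (hplus : IsPlusTypeOn ⇑Q ⊤) :
    ∃ U : Submodule F (Fin n₂ → F), finrank F U = b ∧ ∀ u ∈ U, ∀ w ∈ U, f₂ u w = 0 := by
  obtain ⟨q₂, hq₂⟩ := exists_quadForm f₂ hf₂.bilinear
  have hndq := nd_quadForm h2 f₂ hf₂ q₂ hq₂
  have hdq : finrank F (Fin n₂ → F) = 2 * b := by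
    rw [Module.finrank_fintype_fun_eq_card, Fintype.card_fin, hb]
  have hplus_q : HasSign q₂ b 1 := by
    rcases (geo_all (F := F)).hasSign q₂ hndq b hdq with h | h
    · exact h
    · exfalso
      obtain ⟨g1, g2, g3⟩ := tensor_sign Q h2 e P f₁ f₂ hf₁ hf₂ hT q₂ hq₂ b hb (-1) h
      rw [hn₁.neg_one_pow] at g3
      exact (not_plus_iff_hasSign Q g1 (n₁ * b) g2).2 g3 hplus
  obtain ⟨L, hL, hLd⟩ := (hasSign_one_iff q₂ hndq b hdq).1 hplus_q
  refine ⟨L, hLd, fun u hu w hw => ?_⟩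
  have h1 := hL (u + w) (L.add_mem hu hw)
  rw [hq₂, hf₂.bilinear.add_left, hf₂.bilinear.add_right, hf₂.bilinear.add_right, ← hq₂ u, ← hq₂ w,
    hL u hu, hL w hw, hf₂.symm w u] at h1
  have h3 : (2 : F) * f₂ u w = 0 := by linear_combination h1
  rcases mul_eq_zero.1 h3 with h | h
  · exact absurd h h2
  · exact h

end tens

end Cfsg.Agent.Lib.Helper9.OE12
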