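import Mathlib
import Cfsg.Agent.Lib.Helper6.CharOps
import Cfsg.Agent.Lib.Helper6.Mult
import Cfsg.Agent.Lib.Helper6.Auto

set_option autoImplicit false
set_option linter.unusedSectionVars false
set_option linter.unusedVariables false
set_option linter.style.longLine false
set_option linter.unusedSimpArgs false

set_option maxHeartbeats 1600000
namespace Cfsg.Agent.Lib.Helper9.Bm

open Cfsg Cfsg.Agent.Lib.Helper6
open scoped ComplexConjugate

section sums

variable {G : Type*} [Group G] [Fintype G]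

/-- sums over a cyclic subgroup -/
theorem sum_zpowers (g : G) (F : G → ℂ) [Fintype ↥(Subgroup.zpowers g)] :
    ∑ h : ↥(Subgroup.zpowers g), F h = ∑ i ∈ Finset.range (orderOf g), F (g ^ i) := by
  have hfin : IsOfFinOrder g := isOfFinOrder_of_finite g
  rw [← Fin.sum_univ_eq_sum_range (fun i => F (g ^ i)) (orderOf g)]
  symm
  apply Fintype.sum_equiv (finEquivZPowers hfin)
  intro i
  rw [finEquivZPowers_apply]

/-- integrality of the two inner products of a restricted character -/
theorem sub_nat {γ : G → ℂ} (hγ : IsCharacter G γ) (H : Subgroup G) [Fintype H] :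
    ∃ n1 n2 : ℕ, ∑ h : H, γ h = (Nat.card H : ℂ) * n1 ∧
      ∑ h : H, γ h * conj (γ h) = (Nat.card H : ℂ) * n2 := by
  have hr : IsCharacter H (fun h : H => γ h) := IsCharacter.restrict H hγ
  obtain ⟨n1, hn1⟩ := IsCharacter.classInner_nat hr (isCharacter_one (G := H))
  obtain ⟨n2, hn2⟩ := IsCharacter.classInner_nat hr hr
  have hne : (Nat.card H : ℂ) ≠ 0 := by
    have : 0 < Nat.card H := Nat.card_pos
    exact_mod_cast this.ne'
  refine ⟨n1, n2, ?_, ?_⟩
  · unfold classInner at hn1
    simp only [map_one, mul_one] at hn1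
    rw [← hn1]
    field_simp
  · unfold classInner at hn2
    rw [← hn2]
    field_simp

theorem cyc_nat {γ : G → ℂ} (hγ : IsCharacter G γ) (g : G) :
    ∃ n1 n2 : ℕ, ∑ i ∈ Finset.range (orderOf g), γ (g ^ i) = (orderOf g : ℂ) * n1 ∧
      ∑ i ∈ Finset.range (orderOf g), γ (g ^ i) * conj (γ (g ^ i)) = (orderOf g : ℂ) * n2 := by
  classical
  haveI : Fintype ↥(Subgroup.zpowers g) := Fintype.ofFinite _
  obtain ⟨n1, n2, h1, h2⟩ := sub_nat hγ (Subgroup.zpowers g)
  rw [Nat.card_zpowers] at h1 h2
  refine ⟨n1, n2, ?_, ?_⟩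
  · rw [← h1, sum_zpowers g γ]
  · rw [← h2, sum_zpowers g (fun x => γ x * conj (γ x))]

end sums

section optionR

variable {G : Type*} [Group G] [Fintype G]
variable {γ : G → ℂ}

/-- the data of Option R -/
structure RatFour (γ : G → ℂ) : Prop where
  char : IsCharacter G γ
  one : γ 1 = 4
  ker : ∀ g, γ g = 4 → g = 1
  gal : ∀ k : ℕ, k.Coprime 4320 → ∀ g, γ (g ^ k) = γ g
  bd : ∀ g, ‖γ g‖ ≤ 4

theorem RatFour.real (h : RatFour γ) (g : G) (hg : g ^ 27 = 1) : conj (γ g) = γ g := by
  have h1 : g ^ 53 = g⁻¹ := by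
    apply eq_inv_of_mul_eq_one_left
    rw [← pow_succ]
    have : g ^ (53 + 1) = (g ^ 27) ^ 2 := by rw [← pow_mul]
    rw [this, hg, one_pow]
  have h2 := h.gal 53 (by norm_num) g
  rw [h1, IsCharacter.apply_inv h.char] at h2
  exact h2

theorem RatFour.re_le (h : RatFour γ) (g : G) : (γ g).re ≤ 4 :=
  le_trans (Complex.re_le_norm _) (h.bd g)

theorem RatFour.eq_re (h : RatFour γ) (g : G) (hg : g ^ 27 = 1) : γ g = ((γ g).re : ℂ) :=
  (Complex.conj_eq_iff_re.mp (h.real g hg)).symm

/-- values on elements of order three -/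
theorem RatFour.order_three (h : RatFour γ) (g : G) (hg1 : g ≠ 1) (hg3 : g ^ 3 = 1) :
    γ g = 1 ∨ γ g = -2 := by
  have ho : orderOf g = 3 := orderOf_eq_prime hg3 hg1
  have hg27 : g ^ 27 = 1 := by
    have : g ^ 27 = (g ^ 3) ^ 9 := by rw [← pow_mul]
    rw [this, hg3, one_pow]
  obtain ⟨n1, n2, h1, h2⟩ := cyc_nat h.char g
  rw [ho] at h1 h2
  simp only [Finset.sum_range_succ, Finset.sum_range_zero, pow_zero, pow_one, zero_add] at h1 h2
  have hsq : g ^ 2 = g⁻¹ := by
    apply eq_inv_of_mul_eq_one_left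
    rw [← pow_succ]; exact hg3
  rw [hsq, IsCharacter.apply_inv h.char, h.real g hg27] at h1 h2
  rw [h.one] at h1 h2
  have hre := h.eq_re g hg27
  obtain ⟨r, hr⟩ : ∃ r : ℝ, r = (γ g).re := ⟨_, rfl⟩
  rw [← hr] at hre
  have hr4 : r ≤ 4 := hr ▸ h.re_le g
  rw [hre] at h1 h2
  rw [Complex.conj_ofReal] at h2
  have e1 : (4 : ℝ) + r + r = 3 * n1 := by
    have := congrArg Complex.re h1
    simpa using this
  have e2 : (4 : ℝ) * 4 + r * r + r * r = 3 * n2 := by
    have := congrArg Complex.re h2
    simpa using this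
  have hn1 : n1 ≤ 4 := by
    have : (n1 : ℝ) ≤ 4 := by linarith
    exact_mod_cast this
  rw [hre]
  interval_cases n1 <;> push_cast at e1
  · right
    have : r = -2 := by linarith
    rw [this]; norm_num
  · exfalso
    have hr' : r = -1/2 := by linarith
    rw [hr'] at e2
    have : (n2 : ℝ) * 6 = 33 := by linarith
    have : n2 * 6 = 33 := by exact_mod_cast this
    omega
  · left
    have : r = 1 := by linarith
    rw [this]; norm_num
  · exfalso
    have hr' : r = 5/2 := by linarith
    rw [hr'] at e2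
    have : (n2 : ℝ) * 6 = 57 := by linarith
    have : n2 * 6 = 57 := by exact_mod_cast this
    omega
  · exfalso
    have hr' : r = 4 := by linarith
    apply hg1
    apply h.ker
    rw [hre, hr']; norm_num

theorem pow_of_mod {g : G} (ho : orderOf g = 9) (k i : ℕ) (hk : k % 9 = i) : g ^ k = g ^ i := by
  rw [← pow_mod_orderOf, ho, hk]

/-- no elements of order nine -/
theorem RatFour.no_nine (h : RatFour γ) (w : G) (ho : orderOf w = 9) : False := by
  have hw9 : w ^ 9 = 1 := by rw [← ho]; exact pow_orderOf_eq_one w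
  have hw27 : w ^ 27 = 1 := by
    have : w ^ 27 = (w ^ 9) ^ 3 := by rw [← pow_mul]
    rw [this, hw9, one_pow]
  -- the six primitive powers
  have g2 : γ (w ^ 2) = γ w := by
    rw [← pow_of_mod ho 11 2 (by norm_num)]; exact h.gal 11 (by norm_num) w
  have g4 : γ (w ^ 4) = γ w := by
    rw [← pow_of_mod ho 13 4 (by norm_num)]; exact h.gal 13 (by norm_num) w
  have g5 : γ (w ^ 5) = γ w := by
    rw [← pow_of_mod ho 23 5 (by norm_num)]; exact h.gal 23 (by norm_num) w
  have g7 : γ (w ^ 7) = γ w := h.gal 7 (by norm_num) w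
  have g8 : γ (w ^ 8) = γ w := by
    rw [← pow_of_mod ho 17 8 (by norm_num)]; exact h.gal 17 (by norm_num) w
  -- the cube
  have ht1 : w ^ 3 ≠ 1 := by
    intro h3
    have := orderOf_dvd_of_pow_eq_one h3
    rw [ho] at this
    omega
  have ht3 : (w ^ 3) ^ 3 = 1 := by rw [← pow_mul]; exact hw9
  have ht27 : (w ^ 3) ^ 27 = 1 := by
    have : (w ^ 3) ^ 27 = ((w ^ 3) ^ 3) ^ 9 := by rw [← pow_mul (w ^ 3)]
    rw [this, ht3, one_pow]
  have g6 : γ (w ^ 6) = γ (w ^ 3) := by
    have h6 : w ^ 6 = (w ^ 3)⁻¹ := by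
      apply eq_inv_of_mul_eq_one_left
      rw [← pow_add]; exact hw9
    rw [h6, IsCharacter.apply_inv h.char, h.real _ ht27]
  obtain ⟨n1, n2, h1, h2⟩ := cyc_nat h.char w
  rw [ho] at h1 h2
  simp only [Finset.sum_range_succ, Finset.sum_range_zero, pow_zero, pow_one, zero_add] at h1 h2
  rw [g2, g4, g5, g6, g7, g8, h.one] at h1 h2
  have hre := h.eq_re w hw27
  obtain ⟨r, hr⟩ : ∃ r : ℝ, r = (γ w).re := ⟨_, rfl⟩
  rw [← hr] at hre
  have hr4 : r ≤ 4 := hr ▸ h.re_le w
  rw [hre] at h1 h2
  rw [Complex.conj_ofReal] at h2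
  rcases h.order_three (w ^ 3) ht1 ht3 with h3 | h3
  · rw [h3] at h1 h2
    have e1 : (4 : ℝ) + r + r + 1 + r + r + 1 + r + r = 9 * n1 := by
      have := congrArg Complex.re h1
      simpa using this
    have e2 : (4 : ℝ) * 4 + r * r + r * r + 1 + r * r + r * r + 1 + r * r + r * r = 9 * n2 := by
      have := congrArg Complex.re h2
      simpa using this
    have hn1 : n1 ≤ 3 := by
      have : (n1 : ℝ) ≤ 3 + 1/3 := by linarith
      have : (n1 : ℝ) < 4 := by linarith
      have : n1 < 4 := by exact_mod_cast this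
      omega
    interval_cases n1 <;> push_cast at e1
    · have hr' : r = -1 := by linarith
      rw [hr'] at e2
      have : (n2 : ℝ) * 9 = 24 := by linarith
      have : n2 * 9 = 24 := by exact_mod_cast this
      omega
    · have hr' : r = 1/2 := by linarith
      rw [hr'] at e2
      have : (n2 : ℝ) * 18 = 39 := by linarith
      have : n2 * 18 = 39 := by exact_mod_cast this
      omega
    · have hr' : r = 2 := by linarith
      rw [hr'] at e2
      have : (n2 : ℝ) * 9 = 42 := by linarith
      have : n2 * 9 = 42 := by exact_mod_cast this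
      omega
    · have hr' : r = 7/2 := by linarith
      rw [hr'] at e2
      have : (n2 : ℝ) * 18 = 183 := by linarith
      have : n2 * 18 = 183 := by exact_mod_cast this
      omega
  · rw [h3] at h1 h2
    have e1 : (4 : ℝ) + r + r + (-2) + r + r + (-2) + r + r = 9 * n1 := by
      have := congrArg Complex.re h1
      simpa using this
    have e2 : (4 : ℝ) * 4 + r * r + r * r + (-2) * (-2) + r * r + r * r + (-2) * (-2) + r * r + r * r = 9 * n2 := by
      have := congrArg Complex.re h2
      simpa using this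
    have hn1 : n1 ≤ 2 := by
      have : (n1 : ℝ) < 3 := by linarith
      have : n1 < 3 := by exact_mod_cast this
      omega
    interval_cases n1 <;> push_cast at e1
    · have hr' : r = 0 := by linarith
      rw [hr'] at e2
      have : (n2 : ℝ) * 9 = 24 := by linarith
      have : n2 * 9 = 24 := by exact_mod_cast this
      omega
    · have hr' : r = 3/2 := by linarith
      rw [hr'] at e2
      have : (n2 : ℝ) * 18 = 75 := by linarith
      have : n2 * 18 = 75 := by exact_mod_cast this
      omega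
    · have hr' : r = 3 := by linarith
      rw [hr'] at e2
      have : (n2 : ℝ) * 9 = 78 := by linarith
      have : n2 * 9 = 78 := by exact_mod_cast this
      omega

theorem RatFour.cube (h : RatFour γ) (g : G) (hg : g ^ 27 = 1) : g ^ 3 = 1 := by
  have hd : orderOf g ∣ 3 ^ 3 := by
    have := orderOf_dvd_of_pow_eq_one hg
    norm_num at this ⊢
    exact this
  obtain ⟨j, hj, hoj⟩ := (Nat.dvd_prime_pow Nat.prime_three).mp hd
  interval_cases j
  · rw [pow_zero] at hoj
    rw [orderOf_eq_one_iff.mp hoj, one_pow]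
  · rw [pow_one] at hoj
    rw [← hoj]; exact pow_orderOf_eq_one g
  · exfalso
    exact h.no_nine g (by rw [hoj]; norm_num)
  · exfalso
    apply h.no_nine (g ^ 3)
    rw [orderOf_pow' g (by norm_num : (3:ℕ) ≠ 0), hoj]
    norm_num

theorem factorization_4320_three : (4320 : ℕ).factorization 3 = 3 := by
  have h : (4320 : ℕ) = 3 ^ 3 * 160 := by norm_num
  rw [h, Nat.factorization_mul (by norm_num) (by norm_num),
    Nat.Prime.factorization_pow Nat.prime_three]
  have : (160 : ℕ).factorization 3 = 0 :=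
    Nat.factorization_eq_zero_of_not_dvd (by norm_num)
  simp [this]

/-- Option R: a simple group of order 4320 has no Galois stable faithful character of degree 4 -/
theorem RatFour.false (h : RatFour γ) (hcard : Nat.card G = 4320) : False := by
  classical
  haveI : Fact (Nat.Prime 3) := ⟨Nat.prime_three⟩
  obtain ⟨T⟩ : Nonempty (Sylow 3 G) := inferInstance
  have hT : Nat.card (T : Subgroup G) = 27 := by
    rw [Sylow.card_eq_multiplicity, hcard, factorization_4320_three]; norm_num
  haveI : Fintype (T : Subgroup G) := Fintype.ofFinite _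
  have h27 : ∀ t : (T : Subgroup G), (t : G) ^ 27 = 1 := by
    intro t
    have := pow_card_eq_one' (G := (T : Subgroup G)) (x := t)
    rw [hT] at this
    have h2 := congrArg (Subtype.val) this
    simpa using h2
  have hval : ∀ t : (T : Subgroup G), t ≠ 1 → γ t = 1 ∨ γ t = -2 := by
    intro t ht
    apply h.order_three (t : G) _ (h.cube _ (h27 t))
    intro h1
    apply ht
    exact Subtype.ext h1
  obtain ⟨n1, n2, h1, h2⟩ := sub_nat h.char (T : Subgroup G)
  rw [hT] at h1 h2
  -- split the sums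
  obtain ⟨b, hb⟩ : ∃ b : ℕ, b = (Finset.univ.filter
    (fun t : (T : Subgroup G) => t ≠ 1 ∧ γ t = -2)).card := ⟨_, rfl⟩
  have hcardT : (Finset.univ : Finset (T : Subgroup G)).card = 27 := by
    rw [Finset.card_univ, ← Nat.card_eq_fintype_card, hT]
  have key1 : ∀ t : (T : Subgroup G), γ t =
      (if t = 1 then (3 : ℂ) else 0) + 1 - 3 * (if (t ≠ 1 ∧ γ t = -2) then (1 : ℂ) else 0) := by
    intro t
    by_cases ht : t = 1
    · subst ht
      simp [h.one]; norm_num
    · rcases hval t ht with hv | hv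
      · have : ¬ (t ≠ 1 ∧ γ t = -2) := by
          rintro ⟨_, h2'⟩
          rw [hv] at h2'; norm_num at h2'
        rw [if_neg ht, if_neg this, hv]; norm_num
      · rw [if_neg ht, if_pos ⟨ht, hv⟩, hv]; norm_num
  have key2 : ∀ t : (T : Subgroup G), γ t * conj (γ t) =
      (if t = 1 then (15 : ℂ) else 0) + 1 + 3 * (if (t ≠ 1 ∧ γ t = -2) then (1 : ℂ) else 0) := by
    intro t
    by_cases ht : t = 1
    · subst ht
      simp only [if_true, OneMemClass.coe_one, h.one, Complex.conj_ofNat]
      have : ¬ ((1 : (T : Subgroup G)) ≠ 1 ∧ (4 : ℂ) = -2) := by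
        rintro ⟨h0, _⟩; exact h0 rfl
      rw [if_neg this]; norm_num
    · rcases hval t ht with hv | hv
      · have : ¬ (t ≠ 1 ∧ γ t = -2) := by
          rintro ⟨_, h2'⟩
          rw [hv] at h2'; norm_num at h2'
        rw [if_neg ht, if_neg this, hv]; simp
      · rw [if_neg ht, if_pos ⟨ht, hv⟩, hv, map_neg, Complex.conj_ofNat]; norm_num
  have s1 : ∑ t : (T : Subgroup G), γ t = 3 + 27 - 3 * (b : ℂ) := by
    rw [Finset.sum_congr rfl (fun t _ => key1 t)]
    rw [Finset.sum_sub_distrib, Finset.sum_add_distrib, ← Finset.mul_sum, Finset.sum_boole,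
      Finset.sum_ite_eq' Finset.univ (1 : (T : Subgroup G))]
    simp [hcardT, hb]
  have s2 : ∑ t : (T : Subgroup G), γ t * conj (γ t) = 15 + 27 + 3 * (b : ℂ) := by
    rw [Finset.sum_congr rfl (fun t _ => key2 t)]
    rw [Finset.sum_add_distrib, Finset.sum_add_distrib, ← Finset.mul_sum, Finset.sum_boole,
      Finset.sum_ite_eq' Finset.univ (1 : (T : Subgroup G))]
    simp [hcardT, hb]
  rw [s1] at h1
  rw [s2] at h2
  push_cast at h1 h2
  have e1 : (30 : ℤ) - 3 * b = 27 * n1 := by
    have : ((30 - 3 * b : ℤ) : ℂ) = ((27 * n1 : ℤ) : ℂ) := by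
      push_cast
      linear_combination h1
    exact_mod_cast this
  have e2 : (42 : ℤ) + 3 * b = 27 * n2 := by
    have : ((42 + 3 * b : ℤ) : ℂ) = ((27 * n2 : ℤ) : ℂ) := by
      push_cast
      linear_combination h2
    exact_mod_cast this
  omega

end optionR

end Cfsg.Agent.Lib.Helper9.Bm
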