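import Mathlib
import Cfsg.Agent.S4441
import Cfsg.Agent.S0907
import Cfsg.Agent.S0913
import Cfsg.Agent.S0910
import Cfsg.Agent.Lib.Helper6.PB13
import Cfsg.Agent.Lib.Helper6.BrPrin
import Cfsg.Agent.Lib.Helper6.BlkLocal
import Cfsg.Agent.Lib.Helper6.SecondOrth
import Cfsg.Agent.Lib.Helper6.BlkPrincipal
import Cfsg.Agent.Lib.Helper9.BmA

set_option autoImplicit false
set_option linter.unusedSectionVars false
set_option linter.unusedVariables false
set_option linter.style.longLine false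
set_option linter.unusedSimpArgs false

set_option maxHeartbeats 1600000
namespace Cfsg.Agent.Lib.Helper9.Bm

open Cfsg Cfsg.Agent.Lib.Helper6
open scoped ComplexConjugate

section brauer

variable {G : Type*} [Group G] [Fintype G]

/-- Brauer's theorem for a self-normalising... Sylow `p`-subgroup of order `p` with `|N:C| = p-1`:
all `p` characters of the principal block have a sign. -/
theorem brauer_full (p : ℕ) [hp : Fact p.Prime] (M : Ideal Cfsg.AlgInt) (hM : Cfsg.IsPModular p M)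
    (hodd : p ≠ 2) (P : Sylow p G) (hP : Nat.card P = p)
    (he : (Subgroup.centralizer ((P : Subgroup G) : Set G)).relIndex
      (Subgroup.normalizer ((P : Subgroup G) : Set G)) = p - 1) :
    ∃ δ : Cfsg.IrrCharacter G → ℤ,
      Nat.card (Cfsg.principalBlock M G) = p ∧
      (∀ χ ∈ Cfsg.principalBlock M G, (δ χ = 1 ∨ δ χ = -1) ∧
        (Cfsg.charDegree (χ : G → ℂ) : ℤ) ≡ δ χ [ZMOD p] ∧
        ∀ x : G, x ∈ (P : Subgroup G) → x ≠ 1 → (χ : G → ℂ) x = (δ χ : ℂ)) ∧
      ∑ᶠ χ ∈ Cfsg.principalBlock M G, δ χ * (Cfsg.charDegree (χ : G → ℂ) : ℤ) = 0 := by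
  classical
  have hp1 : 0 < p - 1 := by have := hp.out.two_le; omega
  obtain ⟨X, Y, hXY, hdisj, hX, hY, εX, ε, hXprop, hε, hYdeg, hYagree, hYrel⟩ :=
    Cfsg.Agent.S4441.result p M hM hodd P hP (p - 1) he
  rw [Nat.div_self hp1] at hY
  haveI : Finite (Cfsg.IrrCharacter G) := inferInstance
  have hXfin : X.Finite := Set.toFinite X
  have hYfin : Y.Finite := Set.toFinite Y
  -- Y is a singleton
  obtain ⟨θ, hθY⟩ : ∃ θ, Y = {θ} := by
    have : Y.ncard = 1 := by rw [← Nat.card_coe_set_eq]; exact hY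
    exact Set.ncard_eq_one.mp this
  have hθ : θ ∈ Y := by rw [hθY]; exact Set.mem_singleton θ
  have hθX : θ ∉ X := fun h => (Set.disjoint_left.mp hdisj h) hθ
  -- degrees as casts
  have hdeg : ∀ χ : Cfsg.IrrCharacter G, (χ : G → ℂ) 1 = (Cfsg.charDegree (χ : G → ℂ) : ℂ) :=
    fun χ => IsCharacter.apply_one_eq_charDegree (IsIrrCharacter.isCharacter χ.2)
  have hθ1 : (θ : G → ℂ) 1 ≠ 0 := by
    rw [hdeg]
    have := PB.charDegree_ne_zero θ
    exact_mod_cast this
  have hreg1 : ¬ p ∣ orderOf (1 : G) := by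
    rw [orderOf_one]; exact hp.out.one_lt.ne' ∘ Nat.dvd_one.mp
  have hrel1 := hYrel θ hθ 1 hreg1
  -- the value of θ on P
  have hθval : ∀ x : G, x ∈ (P : Subgroup G) → x ≠ 1 → (θ : G → ℂ) x = ((-ε : ℤ) : ℂ) := by
    intro x hx hx1
    have hsing : p ∣ orderOf x := by
      rw [PB.orderOf_eq_of_mem P hP hx hx1]
    have h0 := Cfsg.Agent.S0907.result p M hM (Cfsg.principalBlock M G)
      isPBlock_principalBlock 1 x hreg1 hsing
    rw [hXY, finsum_mem_union hdisj hXfin hYfin, hθY, finsum_mem_singleton] at h0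
    have hXsum : ∑ᶠ χ ∈ X, (χ : G → ℂ) 1 * conj ((χ : G → ℂ) x)
        = ∑ᶠ χ ∈ X, (εX χ : ℂ) * (χ : G → ℂ) 1 := by
      apply finsum_mem_congr rfl
      intro χ hχ
      have h1 := (hXprop χ hχ).2.2 x hx hx1 1 (one_mem _) hreg1
      rw [mul_one] at h1
      rw [h1, map_intCast, mul_comm]
    rw [hXsum, ← hrel1] at h0
    have h2 : (ε : ℂ) + conj ((θ : G → ℂ) x) = 0 := by
      have : (θ : G → ℂ) 1 * ((ε : ℂ) + conj ((θ : G → ℂ) x)) = 0 := by
        rw [← h0]; ring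
      rcases mul_eq_zero.mp this with h | h
      · exact absurd h hθ1
      · exact h
    have h3 : conj ((θ : G → ℂ) x) = ((-ε : ℤ) : ℂ) := by
      push_cast
      linear_combination h2
    have h4 := congrArg conj h3
    rw [Complex.conj_conj, map_intCast] at h4
    exact h4
  refine ⟨fun χ => if χ ∈ X then εX χ else -ε, ?_, ?_, ?_⟩
  · rw [hXY, Nat.card_coe_set_eq, Set.ncard_union_eq hdisj hXfin hYfin,
      ← Nat.card_coe_set_eq, ← Nat.card_coe_set_eq, hX, hY]
    omega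
  · intro χ hχ
    rw [hXY] at hχ
    rcases hχ with hχ | hχ
    · simp only [if_pos hχ]
      refine ⟨(hXprop χ hχ).1, (hXprop χ hχ).2.1, ?_⟩
      intro x hx hx1
      have h1 := (hXprop χ hχ).2.2 x hx hx1 1 (one_mem _) hreg1
      rw [mul_one] at h1
      exact h1
    · rw [hθY, Set.mem_singleton_iff] at hχ
      subst hχ
      simp only [if_neg hθX]
      refine ⟨?_, ?_, hθval⟩
      · rcases hε with h | h
        · right; rw [h]
        · left; rw [h]; norm_num
      · have h1 := hYdeg χ hθ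
        have h2 : ((p - 1 : ℕ) : ℤ) = (p : ℤ) - 1 := by
          rw [Nat.cast_sub hp.out.one_le]; norm_num
        rw [h2] at h1
        have h3 : ε * ((p : ℤ) - 1) ≡ -ε [ZMOD p] := by
          rw [Int.modEq_iff_dvd]
          exact ⟨-ε, by ring⟩
        exact h1.trans h3
  · rw [hXY, finsum_mem_union hdisj hXfin hYfin, hθY, finsum_mem_singleton]
    simp only [if_neg hθX]
    have h1 : ∑ᶠ χ ∈ X, (if χ ∈ X then εX χ else -ε) * (Cfsg.charDegree (χ : G → ℂ) : ℤ)
        = ∑ᶠ χ ∈ X, εX χ * (Cfsg.charDegree (χ : G → ℂ) : ℤ) := by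
      apply finsum_mem_congr rfl
      intro χ hχ
      rw [if_pos hχ]
    rw [h1]
    have h2 : ((∑ᶠ χ ∈ X, εX χ * (Cfsg.charDegree (χ : G → ℂ) : ℤ) : ℤ) : ℂ)
        = ∑ᶠ χ ∈ X, (εX χ : ℂ) * (χ : G → ℂ) 1 := by
      have h0 := (Int.castAddHom ℂ).map_finsum_mem
        (fun χ : Cfsg.IrrCharacter G => εX χ * (Cfsg.charDegree (χ : G → ℂ) : ℤ)) hXfin
      simp only [Int.coe_castAddHom] at h0
      rw [h0]
      apply finsum_mem_congr rfl
      intro χ _
      rw [hdeg]; simp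
    have h3 : ((∑ᶠ χ ∈ X, εX χ * (Cfsg.charDegree (χ : G → ℂ) : ℤ)
        + -ε * (Cfsg.charDegree (θ : G → ℂ) : ℤ) : ℤ) : ℂ) = 0 := by
      push_cast at h2 ⊢
      rw [h2, ← hrel1, hdeg]; ring
    exact_mod_cast h3

end brauer

section localint

variable {p : ℕ} {M : Ideal Cfsg.AlgInt}

/-- a rational number `s / (p^k m)` with `p ∤ m` that is a local integer has `p^k ∣ s` -/
theorem dvd_of_memLocalRing (hM : Cfsg.IsPModular p M) (m : ℕ) (hm : m ≠ 0) :
    ∀ (k : ℕ) (s : ℤ), Cfsg.MemLocalRing M ((s : ℂ) / ((p : ℂ) ^ k * (m : ℂ))) → (p : ℤ) ^ k ∣ s := by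
  have hp : p.Prime := hM.1
  have hp0 : (p : ℂ) ≠ 0 := by exact_mod_cast hp.ne_zero
  have hm0 : (m : ℂ) ≠ 0 := by exact_mod_cast hm
  intro k
  induction k with
  | zero => intro s _; simp
  | succ k ih =>
    intro s hs
    have h1 : Cfsg.MemLocalIdeal M (s : ℂ) := by
      have h2 : (s : ℂ) = ((s : ℂ) / ((p : ℂ) ^ (k + 1) * (m : ℂ))) * (((p ^ k * m : ℕ) : ℂ) * (p : ℂ)) := by
        push_cast
        field_simp
        ring
      rw [h2]
      apply MemLocalIdeal.mul_left hM hs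
      exact MemLocalIdeal.mul_left hM (memLocalRing_natCast hM _) (memLocalIdeal_prime hM)
    obtain ⟨s', rfl⟩ := (memLocalIdeal_intCast_iff hM s).mp h1
    have h3 : Cfsg.MemLocalRing M ((s' : ℂ) / ((p : ℂ) ^ k * (m : ℂ))) := by
      have : (s' : ℂ) / ((p : ℂ) ^ k * (m : ℂ))
          = (((p : ℤ) * s' : ℤ) : ℂ) / ((p : ℂ) ^ (k + 1) * (m : ℂ)) := by
        push_cast
        field_simp
        ring
      rw [this]; exact hs
    obtain ⟨t, ht⟩ := ih s' h3
    exact ⟨t, by rw [ht]; ring⟩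

end localint

section data

variable {G : Type*} [Group G] [Fintype G]

/-- the output of Brauer's theorem together with `C(P) = P` -/
structure BData (p : ℕ) (M : Ideal Cfsg.AlgInt) (P : Sylow p G) (δ : Cfsg.IrrCharacter G → ℤ) :
    Prop where
  hP : Nat.card P = p
  hC : Subgroup.centralizer ((P : Subgroup G) : Set G) = (P : Subgroup G)
  card : Nat.card (Cfsg.principalBlock M G) = p
  sign : ∀ χ ∈ Cfsg.principalBlock M G, δ χ = 1 ∨ δ χ = -1
  deg : ∀ χ ∈ Cfsg.principalBlock M G, (Cfsg.charDegree (χ : G → ℂ) : ℤ) ≡ δ χ [ZMOD p]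
  val : ∀ χ ∈ Cfsg.principalBlock M G, ∀ x : G, x ∈ (P : Subgroup G) → x ≠ 1 →
    (χ : G → ℂ) x = (δ χ : ℂ)
  sum : ∑ᶠ χ ∈ Cfsg.principalBlock M G, δ χ * (Cfsg.charDegree (χ : G → ℂ) : ℤ) = 0

variable {p : ℕ} [hp : Fact p.Prime] {M : Ideal Cfsg.AlgInt} {P : Sylow p G}
  {δ : Cfsg.IrrCharacter G → ℤ}

theorem BData.vanish (D : BData p M P δ) (χ : Cfsg.IrrCharacter G)
    (hχ : χ ∉ Cfsg.principalBlock M G) (x : G) (hx : x ∈ (P : Subgroup G)) (hx1 : x ≠ 1) :
    (χ : G → ℂ) x = 0 := by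
  classical
  haveI : Fintype (Cfsg.IrrCharacter G) := Fintype.ofFinite _
  have h := (sum_irr_mul_conj x x).1 (IsConj.refl x)
  have hc : Nat.card (Subgroup.centralizer ({x} : Set G)) = p := by
    rw [PB.centralizer_singleton_eq P D.hP hx hx1, D.hC, D.hP]
  rw [hc] at h
  have h' : ∑ ψ : Cfsg.IrrCharacter G, Complex.normSq ((ψ : G → ℂ) x) = (p : ℝ) := by
    have : ((∑ ψ : Cfsg.IrrCharacter G, Complex.normSq ((ψ : G → ℂ) x) : ℝ) : ℂ) = ((p : ℝ) : ℂ) := by
      push_cast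
      rw [← h]
      apply Finset.sum_congr rfl
      intro ψ _
      rw [Complex.mul_conj]
    exact_mod_cast this
  rw [← Finset.sum_filter_add_sum_filter_not Finset.univ
    (fun ψ : Cfsg.IrrCharacter G => ψ ∈ Cfsg.principalBlock M G)] at h'
  have h1 : ∑ ψ ∈ Finset.univ.filter (fun ψ : Cfsg.IrrCharacter G => ψ ∈ Cfsg.principalBlock M G),
      Complex.normSq ((ψ : G → ℂ) x) = (p : ℝ) := by
    have : ∀ ψ ∈ Finset.univ.filter (fun ψ : Cfsg.IrrCharacter G => ψ ∈ Cfsg.principalBlock M G),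
        Complex.normSq ((ψ : G → ℂ) x) = 1 := by
      intro ψ hψ
      rw [Finset.mem_filter] at hψ
      rw [D.val ψ hψ.2 x hx hx1]
      rcases D.sign ψ hψ.2 with h | h <;> rw [h] <;> simp
    rw [Finset.sum_congr rfl this, Finset.sum_const, nsmul_eq_mul, mul_one]
    congr 1
    rw [← D.card, Nat.card_eq_fintype_card, Fintype.card_subtype]
  rw [h1] at h'
  have h2 : ∑ ψ ∈ Finset.univ.filter (fun ψ : Cfsg.IrrCharacter G => ¬ ψ ∈ Cfsg.principalBlock M G),
      Complex.normSq ((ψ : G → ℂ) x) = 0 := by linarith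
  have h3 := (Finset.sum_eq_zero_iff_of_nonneg (fun ψ _ => Complex.normSq_nonneg _)).mp h2 χ
    (by rw [Finset.mem_filter]; exact ⟨Finset.mem_univ _, hχ⟩)
  exact Complex.normSq_eq_zero.mp h3

theorem BData.dvd_deg (D : BData p M P δ) (χ : Cfsg.IrrCharacter G)
    (hχ : χ ∉ Cfsg.principalBlock M G) : p ∣ Cfsg.charDegree (χ : G → ℂ) := by
  classical
  haveI : Fintype (P : Subgroup G) := Fintype.ofFinite _
  obtain ⟨n1, _, h1, _⟩ := sub_nat (IsIrrCharacter.isCharacter χ.2) (P : Subgroup G)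
  rw [D.hP] at h1
  rw [Finset.sum_eq_single (1 : (P : Subgroup G))] at h1
  · have hd := IsCharacter.apply_one_eq_charDegree (IsIrrCharacter.isCharacter χ.2)
    simp only [OneMemClass.coe_one] at h1
    rw [hd] at h1
    have : Cfsg.charDegree (χ : G → ℂ) = p * n1 := by exact_mod_cast h1
    exact ⟨n1, this⟩
  · intro b _ hb
    apply D.vanish χ hχ b b.2
    intro h
    apply hb
    exact Subtype.ext h
  · intro h; exact absurd (Finset.mem_univ _) h

theorem BData.not_dvd_deg (D : BData p M P δ) (χ : Cfsg.IrrCharacter G)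
    (hχ : χ ∈ Cfsg.principalBlock M G) (hp2 : 2 < p) : ¬ p ∣ Cfsg.charDegree (χ : G → ℂ) := by
  intro h
  have h1 := D.deg χ hχ
  have h2 : (p : ℤ) ∣ (Cfsg.charDegree (χ : G → ℂ) : ℤ) := by exact_mod_cast h
  have h3 : (p : ℤ) ∣ δ χ := (Int.ModEq.dvd_iff h1).mp h2
  rcases D.sign χ hχ with hs | hs
  · rw [hs] at h3
    have := Int.le_of_dvd (by norm_num) h3
    omega
  · rw [hs] at h3
    have h4 : (p : ℤ) ∣ 1 := by
      have := (dvd_neg (a := (p : ℤ)) (b := 1)).mp h3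
      exact this
    have := Int.le_of_dvd (by norm_num) h4
    omega

/-- block splitting: the signed degrees of the members of the principal `p`-block lying in a
fixed `q`-block add up to a multiple of the `q`-part of the group order -/
theorem BData.split (D : BData p M P δ) (q : ℕ) [hq : Fact q.Prime] (Mq : Ideal Cfsg.AlgInt)
    (hMq : Cfsg.IsPModular q Mq) (b : Set (Cfsg.IrrCharacter G)) (hb : Cfsg.IsPBlock Mq b)
    (k m : ℕ) (hG : Nat.card G = q ^ k * m) (hm : m ≠ 0) :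
    (q : ℤ) ^ k ∣ ∑ᶠ χ ∈ b ∩ Cfsg.principalBlock M G, δ χ * (Cfsg.charDegree (χ : G → ℂ) : ℤ) := by
  classical
  obtain ⟨x, hxP, hxo⟩ := PB.exists_gen P D.hP
  have hx : x ∈ (P : Subgroup G) := by rw [hxP]; exact Subgroup.mem_zpowers x
  have hx1 : x ≠ 1 := by
    intro h
    rw [h, orderOf_one] at hxo
    exact hp.out.one_lt.ne hxo
  have hloc := Cfsg.Agent.S0913.result q Mq hMq b hb x
  unfold Cfsg.blockCoeff at hloc
  haveI : Finite (Cfsg.IrrCharacter G) := inferInstance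
  have hfin : (b ∩ Cfsg.principalBlock M G).Finite := Set.toFinite _
  have h1 : ∑ᶠ χ ∈ b, (χ : G → ℂ) 1 * conj ((χ : G → ℂ) x)
      = ∑ᶠ χ ∈ b ∩ Cfsg.principalBlock M G, (χ : G → ℂ) 1 * conj ((χ : G → ℂ) x) := by
    apply finsum_mem_inter_support_eq
    ext χ
    simp only [Set.mem_inter_iff, Function.mem_support]
    constructor
    · rintro ⟨hb', hne⟩
      refine ⟨⟨hb', ?_⟩, hne⟩
      by_contra hχ
      apply hne
      rw [D.vanish χ hχ x hx hx1, map_zero, mul_zero]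
    · rintro ⟨⟨hb', _⟩, hne⟩
      exact ⟨hb', hne⟩
  have h2 : ∑ᶠ χ ∈ b ∩ Cfsg.principalBlock M G, (χ : G → ℂ) 1 * conj ((χ : G → ℂ) x)
      = ((∑ᶠ χ ∈ b ∩ Cfsg.principalBlock M G,
          δ χ * (Cfsg.charDegree (χ : G → ℂ) : ℤ) : ℤ) : ℂ) := by
    have h0 := (Int.castAddHom ℂ).map_finsum_mem
      (fun χ : Cfsg.IrrCharacter G => δ χ * (Cfsg.charDegree (χ : G → ℂ) : ℤ)) hfin
    simp only [Int.coe_castAddHom] at h0
    rw [h0]
    apply finsum_mem_congr rfl
    intro χ hχ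
    rw [D.val χ hχ.2 x hx hx1, map_intCast,
      IsCharacter.apply_one_eq_charDegree (IsIrrCharacter.isCharacter χ.2)]
    push_cast; ring
  rw [h1, h2, hG] at hloc
  apply dvd_of_memLocalRing hMq m hm k
  convert hloc using 1
  push_cast
  rw [div_eq_inv_mul]

end data

section simple

variable {G : Type*} [Group G] [Fintype G]

/-- in a nonabelian simple group the `q`-block of a character of degree `q^k > 1` does not contain
the principal character -/
theorem one_notMem_blockOf [IsSimpleGroup G] (hna : ∃ a b : G, a * b ≠ b * a) (q : ℕ)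
    [hq : Fact q.Prime] (Mq : Ideal Cfsg.AlgInt) (hMq : Cfsg.IsPModular q Mq)
    (χ : Cfsg.IrrCharacter G) (k : ℕ) (hk : 1 ≤ k)
    (hdeg : Cfsg.charDegree (χ : G → ℂ) = q ^ k) :
    oneIrr G ∉ Cfsg.blockOf Mq (χ : G → ℂ) := by
  intro h
  have h1 : Cfsg.SameBlock Mq (χ : G → ℂ) ((oneIrr G : Cfsg.IrrCharacter G) : G → ℂ) := h
  have h2 : χ ∈ Cfsg.principalBlock Mq G := SameBlock.symm' h1
  have hd : (χ : G → ℂ) 1 = (q : ℂ) ^ k := by
    rw [IsCharacter.apply_one_eq_charDegree (IsIrrCharacter.isCharacter χ.2), hdeg]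
    push_cast; rfl
  have h3 := Cfsg.Agent.S0910.result q Mq hMq hna χ h2 k hd
  have h4 : (χ : G → ℂ) 1 = 1 := by rw [h3]
  rw [hd] at h4
  have h5 : q ^ k = 1 := by exact_mod_cast h4
  have := Nat.one_lt_pow (by omega : k ≠ 0) hq.out.one_lt
  omega

end simple

end Cfsg.Agent.Lib.Helper9.Bm
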