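import Mathlib
import Cfsg.Agent.Lib.Helper9.BmB
import Cfsg.Agent.S0904
import Cfsg.Agent.Lib.Helper6.BlkVanish
import Cfsg.Agent.Lib.Lead.SmallSimple2
import Cfsg.Agent.Lib.Helper6.Regular
import Cfsg.Agent.Lib.Helper6.Multiplicity
import Cfsg.Agent.Lib.Helper6.BlkKer
import Cfsg.Agent.Lib.Helper6.GaloisPerm
import Cfsg.Agent.Lib.Helper3.BL6
import Cfsg.Agent.Lib.Helper6.Orthogonality

set_option autoImplicit false
set_option linter.unusedSectionVars false
set_option linter.unusedVariables false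
set_option linter.style.longLine false
set_option linter.unusedSimpArgs false

set_option maxHeartbeats 1600000
namespace Cfsg.Agent.Lib.Helper9.Bm

open Cfsg Cfsg.Agent.Lib.Helper6
open scoped ComplexConjugate

theorem deg_cases (d : ℕ) (h1 : d ∣ 4320) (h2 : d * d ≤ 4320) (h3 : d % 5 = 1 ∨ d % 5 = 4) :
    d = 1 ∨ d = 4 ∨ d = 6 ∨ d = 9 ∨ d = 16 ∨ d = 24 ∨ d = 36 ∨ d = 54 := by
  have h4 : d ≤ 65 := by nlinarith
  interval_cases d <;> first | omega | (exfalso; revert h1; norm_num)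

theorem pat (n1 n4 n6 n9 n16 n24 n36 n54 : ℕ) (h1 : n1 = 1)
    (hs : n1 + n4 + n6 + n9 + n16 + n24 + n36 + n54 = 5)
    (he : (n1 : ℤ) - 4 * n4 + 6 * n6 - 9 * n9 + 16 * n16 - 24 * n24 + 36 * n36 - 54 * n54 = 0) :
    (n4 = 1 ∧ n6 = 2 ∧ n9 = 1 ∧ n16 = 0 ∧ n24 = 0 ∧ n36 = 0 ∧ n54 = 0) ∨
    (n4 = 0 ∧ n6 = 0 ∧ n9 = 1 ∧ n16 = 2 ∧ n24 = 1 ∧ n36 = 0 ∧ n54 = 0) ∨
    (n4 = 2 ∧ n6 = 0 ∧ n9 = 1 ∧ n16 = 1 ∧ n24 = 0 ∧ n36 = 0 ∧ n54 = 0) ∨
    (n4 = 1 ∧ n6 = 0 ∧ n9 = 1 ∧ n16 = 0 ∧ n24 = 1 ∧ n36 = 1 ∧ n54 = 0) := by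
  have b54 : n54 ≤ 4 := by omega
  have b36 : n36 ≤ 4 := by omega
  have b24 : n24 ≤ 4 := by omega
  have b16 : n16 ≤ 4 := by omega
  interval_cases n54 <;> interval_cases n36 <;> interval_cases n24 <;> interval_cases n16 <;> omega

theorem num2 (n1 n4 n6 n9 n16 n24 n36 n54 m4 m6 m16 m24 m36 m54 : ℕ) (h1 : n1 = 1)
    (hs : n1 + n4 + n6 + n9 + n16 + n24 + n36 + n54 = 5)
    (he : (n1 : ℤ) - 4 * n4 + 6 * n6 - 9 * n9 + 16 * n16 - 24 * n24 + 36 * n36 - 54 * n54 = 0)
    (l4 : m4 ≤ n4) (l6 : m6 ≤ n6) (l16 : m16 ≤ n16) (l24 : m24 ≤ n24) (l36 : m36 ≤ n36)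
    (l54 : m54 ≤ n54)
    (hd : (27 : ℤ) ∣ - 4 * m4 + 6 * m6 - 9 + 16 * m16 - 24 * m24 + 36 * m36 - 54 * m54) :
    n4 = 1 := by
  rcases pat n1 n4 n6 n9 n16 n24 n36 n54 h1 hs he with h | h | h | h
  · exact h.1
  · exfalso
    obtain ⟨h4, h6, h9, h16, h24, h36, h54⟩ := h
    subst h4 h6 h16 h24 h36 h54
    interval_cases m4 <;> interval_cases m6 <;> interval_cases m16 <;> interval_cases m24 <;>
      interval_cases m36 <;> interval_cases m54 <;> omega
  · exfalso
    obtain ⟨h4, h6, h9, h16, h24, h36, h54⟩ := h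
    subst h4 h6 h16 h24 h36 h54
    interval_cases m4 <;> interval_cases m6 <;> interval_cases m16 <;> interval_cases m24 <;>
      interval_cases m36 <;> interval_cases m54 <;> omega
  · exact h.1

/-- the signed value attached to a degree -/
def sv (d : ℕ) : ℤ := if d % 5 = 1 then (d : ℤ) else -(d : ℤ)

/-- sums over a finite set according to the value of `d` in the list of eight degrees -/
theorem fiber_sum {α : Type*} [DecidableEq α] (S : Finset α) (d : α → ℕ)
    (hD : ∀ a ∈ S, d a = 1 ∨ d a = 4 ∨ d a = 6 ∨ d a = 9 ∨ d a = 16 ∨ d a = 24 ∨ d a = 36 ∨ d a = 54)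
    (f : ℕ → ℤ) :
    ∑ a ∈ S, f (d a) =
      ((S.filter (fun a => d a = 1)).card : ℤ) * f 1 + ((S.filter (fun a => d a = 4)).card : ℤ) * f 4
      + ((S.filter (fun a => d a = 6)).card : ℤ) * f 6 + ((S.filter (fun a => d a = 9)).card : ℤ) * f 9
      + ((S.filter (fun a => d a = 16)).card : ℤ) * f 16
      + ((S.filter (fun a => d a = 24)).card : ℤ) * f 24
      + ((S.filter (fun a => d a = 36)).card : ℤ) * f 36
      + ((S.filter (fun a => d a = 54)).card : ℤ) * f 54 := by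
  have hmaps : ∀ a ∈ S, d a ∈ ({1, 4, 6, 9, 16, 24, 36, 54} : Finset ℕ) := by
    intro a ha
    simp only [Finset.mem_insert, Finset.mem_singleton]
    exact hD a ha
  rw [← Finset.sum_fiberwise_of_maps_to hmaps (fun a => f (d a))]
  have hin : ∀ j : ℕ, ∑ a ∈ S.filter (fun a => d a = j), f (d a)
      = ((S.filter (fun a => d a = j)).card : ℤ) * f j := by
    intro j
    rw [Finset.sum_congr rfl (fun a ha => by rw [(Finset.mem_filter.mp ha).2]),
      Finset.sum_const, nsmul_eq_mul]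
  simp only [hin]
  rw [Finset.sum_insert (by decide), Finset.sum_insert (by decide), Finset.sum_insert (by decide),
    Finset.sum_insert (by decide), Finset.sum_insert (by decide), Finset.sum_insert (by decide),
    Finset.sum_insert (by decide), Finset.sum_singleton]
  ring

section main

variable {G : Type*} [Group G] [Fintype G]

theorem factorization_4320_five : (4320 : ℕ).factorization 5 = 1 := by
  have h : (4320 : ℕ) = 5 ^ 1 * 864 := by norm_num
  rw [h, Nat.factorization_mul (by norm_num) (by norm_num),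
    Nat.Prime.factorization_pow (by norm_num : Nat.Prime 5)]
  have : (864 : ℕ).factorization 5 = 0 :=
    Nat.factorization_eq_zero_of_not_dvd (by norm_num)
  simp [this]

theorem relIndex_eq_four [Fact (Nat.Prime 5)] (hG : Nat.card G = 4320) (P : Sylow 5 G)
    (hP : Nat.card (P : Subgroup G) = 5)
    (hC : Subgroup.centralizer ((P : Subgroup G) : Set G) = (P : Subgroup G))
    (M : Ideal Cfsg.AlgInt) (hM : Cfsg.IsPModular 5 M) :
    (Subgroup.centralizer ((P : Subgroup G) : Set G)).relIndex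
      (Subgroup.normalizer ((P : Subgroup G) : Set G)) = 4 := by
  classical
  haveI : Fintype ↥(Subgroup.centralizer ((P : Subgroup G) : Set G)) := Fintype.ofFinite _
  haveI : Fintype ↥(Subgroup.normalizer ((P : Subgroup G) : Set G)) := Fintype.ofFinite _
  obtain ⟨e, he⟩ : ∃ e, e = (Subgroup.centralizer ((P : Subgroup G) : Set G)).relIndex
      (Subgroup.normalizer ((P : Subgroup G) : Set G)) := ⟨_, rfl⟩
  rw [← he]
  have h1 : e ∣ 4 := by
    have hJe := (PB.prin P hM).card_J_mul_e hP hM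
    rw [PB.prin_e, ← he] at hJe
    exact Dvd.intro_left _ hJe
  have h2 : e * (Subgroup.normalizer ((P : Subgroup G) : Set G)).index
      = (Subgroup.centralizer ((P : Subgroup G) : Set G)).index := by
    rw [he]
    exact Subgroup.relIndex_mul_index (Subgroup.centralizer_le_normalizer _)
  have h3 : (Subgroup.centralizer ((P : Subgroup G) : Set G)).index = 864 := by
    have := Subgroup.card_mul_index (Subgroup.centralizer ((P : Subgroup G) : Set G))
    rw [hC, hP, hG] at this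
    rw [hC]
    omega
  have h4 : (Subgroup.normalizer ((P : Subgroup G) : Set G)).index = Nat.card (Sylow 5 G) :=
    (Sylow.card_eq_index_normalizer P).symm
  have h5 : Nat.card (Sylow 5 G) ≡ 1 [MOD 5] := card_sylow_modEq_one 5 G
  rw [h3, h4] at h2
  unfold Nat.ModEq at h5
  have h6 : e ≤ 4 := Nat.le_of_dvd (by norm_num) h1
  interval_cases e <;> omega

theorem sv_vals : sv 1 = 1 ∧ sv 4 = -4 ∧ sv 6 = 6 ∧ sv 9 = -9 ∧ sv 16 = 16 ∧ sv 24 = -24 ∧
    sv 36 = 36 ∧ sv 54 = -54 := by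
  refine ⟨?_, ?_, ?_, ?_, ?_, ?_, ?_, ?_⟩ <;> simp [sv]

theorem main_aux [IsSimpleGroup G] (hG : Nat.card G = 4320) : False := by
  classical
  haveI : Fact (Nat.Prime 5) := ⟨by norm_num⟩
  haveI : Fact (Nat.Prime 3) := ⟨Nat.prime_three⟩
  have hna : ∃ a b : G, a * b ≠ b * a := by
    by_contra hcomm
    push Not at hcomm
    have hc : IsMulCommutative G := ⟨⟨hcomm⟩⟩
    exact Cfsg.Agent.Lib.Lead.SmallSimple2.not_comm_of_not_prime (by rw [hG]; norm_num) hc
  obtain ⟨P⟩ : Nonempty (Sylow 5 G) := inferInstance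
  have hP : Nat.card (P : Subgroup G) = 5 := by
    rw [Sylow.card_eq_multiplicity, hG, factorization_4320_five]; norm_num
  have hC : Subgroup.centralizer ((P : Subgroup G) : Set G) = (P : Subgroup G) :=
    Cfsg.Agent.S0904.result 2 3 5 5 3 Nat.prime_two Nat.prime_three (by norm_num) (by norm_num)
      (by norm_num) (by rw [hG]; norm_num) P
  obtain ⟨M5, hM5⟩ := exists_isPModular 5
  obtain ⟨M3, hM3⟩ := exists_isPModular 3
  have he := relIndex_eq_four hG P hP hC M5 hM5
  obtain ⟨δ, hcard, hprops, hsum⟩ := brauer_full 5 M5 hM5 (by norm_num) P hP (by rw [he])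
  have D : BData 5 M5 P δ := ⟨hP, hC, hcard, fun χ h => (hprops χ h).1,
    fun χ h => (hprops χ h).2.1, fun χ h => (hprops χ h).2.2, hsum⟩
  haveI : Fintype (Cfsg.IrrCharacter G) := Fintype.ofFinite _
  obtain ⟨S, hSdef⟩ : ∃ S : Finset (Cfsg.IrrCharacter G),
      S = Finset.univ.filter (fun χ => χ ∈ Cfsg.principalBlock M5 G) := ⟨_, rfl⟩
  have hS : ∀ χ, χ ∈ S ↔ χ ∈ Cfsg.principalBlock M5 G := by
    intro χ; rw [hSdef]; simp
  have hSB : (S : Set (Cfsg.IrrCharacter G)) = Cfsg.principalBlock M5 G := by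
    ext χ; exact hS χ
  obtain ⟨d, hd⟩ : ∃ d : Cfsg.IrrCharacter G → ℕ,
      d = fun χ : Cfsg.IrrCharacter G => Cfsg.charDegree (χ : G → ℂ) := ⟨_, rfl⟩
  have hd' : ∀ χ : Cfsg.IrrCharacter G, Cfsg.charDegree (χ : G → ℂ) = d χ := by
    intro χ; rw [hd]
  have hone : ∀ χ : Cfsg.IrrCharacter G, (χ : G → ℂ) 1 = (d χ : ℂ) := by
    intro χ
    rw [← hd']
    exact IsCharacter.apply_one_eq_charDegree (IsIrrCharacter.isCharacter χ.2)
  -- squares of degrees
  have hsq : ∀ χ : Cfsg.IrrCharacter G, d χ * d χ ≤ 4320 := by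
    intro χ
    have h1 := sum_sq_degree (G := G)
    rw [hG] at h1
    push_cast at h1
    have h2 : ∑ ψ : Cfsg.IrrCharacter G, d ψ ^ 2 = 4320 := by
      have : ((∑ ψ : Cfsg.IrrCharacter G, d ψ ^ 2 : ℕ) : ℂ) = ((4320 : ℕ) : ℂ) := by
        push_cast
        rw [← h1]
        apply Finset.sum_congr rfl
        intro ψ _
        rw [hone]
      exact_mod_cast this
    have h3 := Finset.single_le_sum (f := fun ψ : Cfsg.IrrCharacter G => d ψ ^ 2)
      (fun _ _ => Nat.zero_le _) (Finset.mem_univ χ)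
    rw [h2, pow_two] at h3
    exact h3
  -- the residues
  have hmod : ∀ χ ∈ S, (δ χ = 1 ∧ d χ % 5 = 1) ∨ (δ χ = -1 ∧ d χ % 5 = 4) := by
    intro χ hχ
    have h1 := D.deg χ ((hS χ).mp hχ)
    rw [hd'] at h1
    unfold Int.ModEq at h1
    rcases D.sign χ ((hS χ).mp hχ) with h | h
    · left; refine ⟨h, ?_⟩; rw [h] at h1; omega
    · right; refine ⟨h, ?_⟩; rw [h] at h1; omega
  have hDs : ∀ χ ∈ S, d χ = 1 ∨ d χ = 4 ∨ d χ = 6 ∨ d χ = 9 ∨ d χ = 16 ∨ d χ = 24 ∨ d χ = 36
      ∨ d χ = 54 := by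
    intro χ hχ
    apply deg_cases
    · rw [← hd', ← hG]
      exact IsIrrCharacter.charDegree_dvd_card χ.2
    · exact hsq χ
    · rcases hmod χ hχ with h | h
      · left; exact h.2
      · right; exact h.2
  have hsv : ∀ χ ∈ S, δ χ * (Cfsg.charDegree (χ : G → ℂ) : ℤ) = sv (d χ) := by
    intro χ hχ
    rw [hd']
    unfold sv
    rcases hmod χ hχ with h | h
    · rw [if_pos h.2, h.1, one_mul]
    · rw [if_neg (by omega), h.1]; ring
  -- the two equations
  have hsum' : ∑ χ ∈ S, sv (d χ) = 0 := by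
    rw [← hSB, finsum_mem_coe_finset] at hsum
    rw [← hsum]
    exact (Finset.sum_congr rfl hsv).symm
  have hcardS : S.card = 5 := by
    rw [← hcard, Nat.card_eq_fintype_card, Fintype.card_subtype, hSdef]
  obtain ⟨sv1, sv4, sv6, sv9, sv16, sv24, sv36, sv54⟩ := sv_vals
  have e1 := fiber_sum S d hDs sv
  rw [hsum', sv1, sv4, sv6, sv9, sv16, sv24, sv36, sv54] at e1
  have e2 := fiber_sum S d hDs (fun _ => 1)
  rw [Finset.sum_const, hcardS, nsmul_eq_mul, mul_one] at e2
  push_cast at e2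
  -- the principal character
  have h1S : oneIrr G ∈ S := (hS _).mpr (oneIrr_mem_principalBlock hM5)
  have hd1 : d (oneIrr G) = 1 := by
    have := hone (oneIrr G)
    have h2 : ((oneIrr G : Cfsg.IrrCharacter G) : G → ℂ) 1 = 1 := rfl
    rw [h2] at this
    exact_mod_cast this.symm
  have huniq1 : ∀ χ ∈ S, d χ = 1 → χ = oneIrr G := by
    intro χ hχ h1
    have h2 : (χ : G → ℂ) 1 = ((5 : ℕ) : ℂ) ^ 0 := by rw [hone, h1]; simp
    have h3 := Cfsg.Agent.S0910.result 5 M5 hM5 hna χ ((hS χ).mp hχ) 0 h2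
    exact Subtype.ext h3
  have hn1 : (S.filter (fun χ => d χ = 1)).card = 1 := by
    rw [Finset.card_eq_one]
    refine ⟨oneIrr G, ?_⟩
    ext χ
    simp only [Finset.mem_filter, Finset.mem_singleton]
    constructor
    · rintro ⟨h1, h2⟩; exact huniq1 χ h1 h2
    · rintro rfl; exact ⟨h1S, hd1⟩
  -- the character of degree nine
  have hs5 : (S.filter (fun χ => d χ = 1)).card + (S.filter (fun χ => d χ = 4)).card
      + (S.filter (fun χ => d χ = 6)).card + (S.filter (fun χ => d χ = 9)).card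
      + (S.filter (fun χ => d χ = 16)).card + (S.filter (fun χ => d χ = 24)).card
      + (S.filter (fun χ => d χ = 36)).card + (S.filter (fun χ => d χ = 54)).card = 5 := by
    omega
  have he0 : ((S.filter (fun χ => d χ = 1)).card : ℤ) - 4 * (S.filter (fun χ => d χ = 4)).card
      + 6 * (S.filter (fun χ => d χ = 6)).card - 9 * (S.filter (fun χ => d χ = 9)).card
      + 16 * (S.filter (fun χ => d χ = 16)).card - 24 * (S.filter (fun χ => d χ = 24)).card
      + 36 * (S.filter (fun χ => d χ = 36)).card - 54 * (S.filter (fun χ => d χ = 54)).card = 0 := by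
    omega
  have hn9 : (S.filter (fun χ => d χ = 9)).card = 1 := by
    rcases pat _ _ _ _ _ _ _ _ hn1 hs5 he0 with h | h | h | h <;> exact h.2.2.1
  obtain ⟨χ9, hχ9⟩ := Finset.card_eq_one.mp hn9
  have hχ9m : χ9 ∈ S.filter (fun χ => d χ = 9) := by rw [hχ9]; exact Finset.mem_singleton_self _
  rw [Finset.mem_filter] at hχ9m
  -- its 3-block
  obtain ⟨b, hbdef⟩ : ∃ b, b = Cfsg.blockOf M3 (χ9 : G → ℂ) := ⟨_, rfl⟩
  have hb : Cfsg.IsPBlock M3 b := ⟨χ9, hbdef⟩
  have hsplit := D.split 3 M3 hM3 b hb 3 160 (by rw [hG]; norm_num) (by norm_num)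
  obtain ⟨Sb, hSbdef⟩ : ∃ Sb : Finset (Cfsg.IrrCharacter G), Sb = S.filter (fun χ => χ ∈ b) :=
    ⟨_, rfl⟩
  have hSb : ∀ χ, χ ∈ Sb ↔ χ ∈ S ∧ χ ∈ b := by
    intro χ; rw [hSbdef, Finset.mem_filter]
  have hSbB : (Sb : Set (Cfsg.IrrCharacter G)) = b ∩ Cfsg.principalBlock M5 G := by
    ext χ
    simp only [Finset.mem_coe, Set.mem_inter_iff]
    rw [hSb, hS]
    exact and_comm
  rw [← hSbB, finsum_mem_coe_finset] at hsplit
  have hsumb : ∑ χ ∈ Sb, δ χ * (Cfsg.charDegree (χ : G → ℂ) : ℤ) = ∑ χ ∈ Sb, sv (d χ) :=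
    Finset.sum_congr rfl (fun χ hχ => hsv χ ((hSb χ).mp hχ).1)
  rw [hsumb] at hsplit
  have e3 := fiber_sum Sb d (fun χ hχ => hDs χ ((hSb χ).mp hχ).1) sv
  rw [sv1, sv4, sv6, sv9, sv16, sv24, sv36, sv54] at e3
  rw [e3] at hsplit
  have hle : ∀ j : ℕ, (Sb.filter (fun χ => d χ = j)).card ≤ (S.filter (fun χ => d χ = j)).card := by
    intro j
    apply Finset.card_le_card
    intro χ hχ
    rw [Finset.mem_filter] at hχ ⊢
    exact ⟨((hSb χ).mp hχ.1).1, hχ.2⟩
  have hone_b : oneIrr G ∉ b := by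
    rw [hbdef]
    exact one_notMem_blockOf hna 3 M3 hM3 χ9 2 (by norm_num) (by rw [hd', hχ9m.2]; norm_num)
  have hm1 : (Sb.filter (fun χ => d χ = 1)).card = 0 := by
    rw [Finset.card_eq_zero, Finset.filter_eq_empty_iff]
    intro χ hχ h1
    have := huniq1 χ ((hSb χ).mp hχ).1 h1
    rw [this] at hχ
    exact hone_b ((hSb _).mp hχ).2
  have hm9 : (Sb.filter (fun χ => d χ = 9)).card = 1 := by
    apply le_antisymm
    · rw [← hn9]; exact hle 9
    · rw [Nat.succ_le_iff, Finset.card_pos]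
      refine ⟨χ9, ?_⟩
      rw [Finset.mem_filter, hSb]
      refine ⟨⟨hχ9m.1, ?_⟩, hχ9m.2⟩
      rw [hbdef]
      exact sameBlock_refl hM3 _
  rw [hm1, hm9] at hsplit
  have hn4 : (S.filter (fun χ => d χ = 4)).card = 1 := by
    have hd27 : (27 : ℤ) ∣ - 4 * (Sb.filter (fun χ => d χ = 4)).card
        + 6 * (Sb.filter (fun χ => d χ = 6)).card - 9
        + 16 * (Sb.filter (fun χ => d χ = 16)).card - 24 * (Sb.filter (fun χ => d χ = 24)).card
        + 36 * (Sb.filter (fun χ => d χ = 36)).card - 54 * (Sb.filter (fun χ => d χ = 54)).card := by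
      convert hsplit using 1
      push_cast
      ring
    exact num2 _ _ _ _ _ _ _ _ _ _ _ _ _ _ hn1 hs5 he0 (hle 4) (hle 6) (hle 16)
      (hle 24) (hle 36) (hle 54) hd27
  -- the character of degree four
  obtain ⟨γ, hγ⟩ := Finset.card_eq_one.mp hn4
  have hγm : γ ∈ S.filter (fun χ => d χ = 4) := by rw [hγ]; exact Finset.mem_singleton_self _
  rw [Finset.mem_filter] at hγm
  have hγuniq : ∀ ψ : Cfsg.IrrCharacter G, d ψ = 4 → ψ = γ := by
    intro ψ hψ
    have hψS : ψ ∈ S := by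
      rw [hS]
      by_contra hne
      have := D.dvd_deg ψ hne
      rw [hd', hψ] at this
      omega
    have : ψ ∈ S.filter (fun χ => d χ = 4) := Finset.mem_filter.mpr ⟨hψS, hψ⟩
    rw [hγ, Finset.mem_singleton] at this
    exact this
  have hγchar : IsCharacter G (γ : G → ℂ) := IsIrrCharacter.isCharacter γ.2
  have hγ1 : (γ : G → ℂ) 1 = 4 := by rw [hone, hγm.2]; norm_num
  have R : RatFour (γ : G → ℂ) := by
    refine ⟨hγchar, hγ1, ?_, ?_, ?_⟩
    · -- kernel
      intro g hg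
      rcases (charKer_normal hγchar).eq_bot_or_eq_top with h | h
      · have : g ∈ charKer hγchar := by rw [mem_charKer, hg, hγ1]
        rw [h, Subgroup.mem_bot] at this
        exact this
      · exfalso
        have hall : ∀ x : G, (γ : G → ℂ) x = 4 := by
          intro x
          have : x ∈ charKer hγchar := by rw [h]; exact Subgroup.mem_top x
          rw [mem_charKer, hγ1] at this
          exact this
        have h1 := classInner_irrCharacter γ γ
        rw [if_pos rfl] at h1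
        unfold Cfsg.classInner at h1
        simp only [hall, Complex.conj_ofNat] at h1
        rw [Finset.sum_const, Finset.card_univ, ← Nat.card_eq_fintype_card, hG] at h1
        norm_num at h1
    · -- Galois
      intro k hk g
      have hk' : Nat.Coprime k (Nat.card G) := by rw [hG]; exact hk
      have h1 : d (powIrr k hk' γ) = 4 := by
        have h2 := hone (powIrr k hk' γ)
        rw [powIrr_apply, one_pow, hγ1] at h2
        exact_mod_cast h2.symm
      have h3 := hγuniq _ h1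
      have h4 := powIrr_apply k hk' γ g
      rw [h3] at h4
      exact h4.symm
    · intro g
      have := Cfsg.Agent.Lib.Helper3.BL.norm_apply_le hγchar g
      rw [hd', hγm.2] at this
      exact_mod_cast this
  exact R.false hG

end main

end Cfsg.Agent.Lib.Helper9.Bm
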