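import Mathlib

set_option autoImplicit false
set_option linter.unusedSectionVars false
set_option linter.unusedVariables false
set_option linter.style.longLine false
set_option linter.unusedSimpArgs false

set_option maxHeartbeats 1600000
namespace Cfsg.Agent.Lib.Helper9.Zfc

section basics

variable {F : Type*} [Field F] {V : Type*} [AddCommGroup V] [Module F V]
  {G : Type*} [Group G] (ρ : G →* Module.End F V)

/-- a free linear action: no nonidentity element fixes a nonzero vector -/
def IsFree : Prop := ∀ g : G, g ≠ 1 → ∀ v : V, ρ g v = v → v = 0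

variable {ρ}

theorem IsFree.eq_one [Nontrivial V] (h : IsFree ρ) {g : G} (hg : ρ g = 1) : g = 1 := by
  by_contra hne
  obtain ⟨v, hv⟩ := exists_ne (0 : V)
  exact hv (h g hne v (by rw [hg]; rfl))

theorem IsFree.injective [Nontrivial V] (h : IsFree ρ) : Function.Injective ρ := by
  intro a b hab
  have h1 : ρ (a * b⁻¹) = 1 := by rw [map_mul, hab, ← map_mul, mul_inv_cancel, map_one]
  exact mul_inv_eq_one.mp (h.eq_one h1)

/-- left cancellation of `ρ g - 1` -/
theorem IsFree.cancel (h : IsFree ρ) {g : G} (hg : g ≠ 1) {T : Module.End F V}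
    (hT : (ρ g - 1) * T = 0) : T = 0 := by
  ext v
  have h1 : (ρ g) (T v) = T v := by
    have h2 := LinearMap.congr_fun hT v
    simp only [Module.End.mul_apply, LinearMap.sub_apply, Module.End.one_apply,
      LinearMap.zero_apply] at h2
    exact sub_eq_zero.mp h2
  exact h g hg _ h1

theorem IsFree.neg_one_of_sq (h : IsFree ρ) {g : G} (hg : g ≠ 1) (hgg : g * g = 1) :
    ρ g = -1 := by
  have h1 : (ρ g - 1) * (ρ g + 1) = 0 := by
    have : ρ g * ρ g = 1 := by rw [← map_mul, hgg, map_one]
    calc (ρ g - 1) * (ρ g + 1) = ρ g * ρ g - 1 := by noncomm_ring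
      _ = 0 := by rw [this, sub_self]
  exact eq_neg_of_add_eq_zero_left (h.cancel hg h1)

theorem IsFree.quad_of_order_three (h : IsFree ρ) {x : G} (hx : orderOf x = 3) :
    ρ x * ρ x + ρ x + 1 = 0 := by
  have hx1 : x ≠ 1 := by
    intro h1; rw [h1, orderOf_one] at hx; omega
  have hx3 : x * x * x = 1 := by
    have := pow_orderOf_eq_one x
    rw [hx] at this
    rw [← this, pow_succ, pow_two]
  have h1 : (ρ x - 1) * (ρ x * ρ x + ρ x + 1) = 0 := by
    have : ρ x * ρ x * ρ x = 1 := by rw [← map_mul, ← map_mul, hx3, map_one]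
    calc (ρ x - 1) * (ρ x * ρ x + ρ x + 1) = ρ x * ρ x * ρ x - 1 := by noncomm_ring
      _ = 0 := by rw [this, sub_self]
  exact h.cancel hx1 h1

theorem IsFree.sq_of_order_four (h : IsFree ρ) {u : G} (hu : orderOf u = 4) :
    ρ u * ρ u = -1 := by
  have h1 : u * u ≠ 1 := by
    intro h1
    have : orderOf u ∣ 2 := orderOf_dvd_of_pow_eq_one (by rw [pow_two]; exact h1)
    rw [hu] at this
    omega
  have h2 : (u * u) * (u * u) = 1 := by
    have := pow_orderOf_eq_one u
    rw [hu] at this
    rw [← this, show (4 : ℕ) = 2 + 2 from rfl, pow_add, pow_two]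
  rw [← map_mul]
  exact h.neg_one_of_sq h1 h2

theorem IsFree.unique_invol [Nontrivial V] (h : IsFree ρ) {g k : G} (hg : g ≠ 1) (hgg : g * g = 1)
    (hk : k ≠ 1) (hkk : k * k = 1) : g = k :=
  h.injective (by rw [h.neg_one_of_sq hg hgg, h.neg_one_of_sq hk hkk])

theorem IsFree.invol_central [Nontrivial V] (h : IsFree ρ) {t : G} (ht : t ≠ 1) (htt : t * t = 1)
    (g : G) : g * t = t * g := by
  apply h.injective
  rw [map_mul, map_mul, h.neg_one_of_sq ht htt]
  noncomm_ring

/-- an element whose square is trivial is `1` or the involution -/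
theorem IsFree.eq_of_sq [Nontrivial V] (h : IsFree ρ) {t : G} (ht : t ≠ 1) (htt : t * t = 1)
    {s : G} (hs : s * s = 1) : s = 1 ∨ s = t := by
  by_cases h1 : s = 1
  · exact Or.inl h1
  · exact Or.inr (h.unique_invol h1 hs ht htt)

end basics

end Cfsg.Agent.Lib.Helper9.Zfc
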