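import Mathlib
import Cfsg.Agent.Lib.Helper9.ZfcA

set_option autoImplicit false
set_option linter.unusedSectionVars false
set_option linter.unusedVariables false
set_option linter.style.longLine false
set_option linter.unusedSimpArgs false

set_option maxHeartbeats 1600000
namespace Cfsg.Agent.Lib.Helper9.Zfc

open Matrix

section plane

variable {F : Type*} [Field F] {V : Type*} [AddCommGroup V] [Module F V]
  {G : Type*} [Group G] {ρ : G →* Module.End F V}

/-- `M` is the matrix of `T` on the family `b` -/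
def IsMat (b : Fin 2 → V) (T : Module.End F V) (M : Matrix (Fin 2) (Fin 2) F) : Prop :=
  ∀ j, T (b j) = ∑ i, M i j • b i

theorem IsMat.one (b : Fin 2 → V) : IsMat b (1 : Module.End F V) 1 := by
  intro j
  simp [Matrix.one_apply, Finset.sum_ite_eq']

theorem IsMat.mul {b : Fin 2 → V} {T T' : Module.End F V} {M M' : Matrix (Fin 2) (Fin 2) F}
    (h : IsMat b T M) (h' : IsMat b T' M') : IsMat b (T * T') (M * M') := by
  intro j
  rw [Module.End.mul_apply, h' j, map_sum]
  simp only [map_smul, h _, Finset.smul_sum, smul_smul, Matrix.mul_apply, Finset.sum_smul]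
  rw [Finset.sum_comm]
  refine Finset.sum_congr rfl fun i _ => Finset.sum_congr rfl fun k _ => ?_
  rw [mul_comm]

theorem isMat_of {b : Fin 2 → V} {T : Module.End F V} {p q r s : F}
    (h0 : T (b 0) = p • b 0 + r • b 1) (h1 : T (b 1) = q • b 0 + s • b 1) :
    IsMat b T !![p, q; r, s] := by
  intro j
  fin_cases j
  · simpa [Fin.sum_univ_two] using h0
  · simpa [Fin.sum_univ_two] using h1

theorem IsMat.unique {b : Fin 2 → V} (hb : LinearIndependent F b) {T : Module.End F V}
    {M M' : Matrix (Fin 2) (Fin 2) F} (h : IsMat b T M) (h' : IsMat b T M') : M = M' := by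
  ext i j
  have h1 : ∑ i, (M i j - M' i j) • b i = 0 := by
    simp only [sub_smul, Finset.sum_sub_distrib]
    rw [← h j, ← h' j, sub_self]
  have := (Fintype.linearIndependent_iff.mp hb) (fun i => M i j - M' i j) h1 i
  exact sub_eq_zero.mp this

/-- Embedding from an invariant plane: if the generators act on the plane spanned by `b`
through matrices of determinant one then the generated subgroup embeds in `SL₂`. -/
theorem emb_of_plane [Finite G] (h : IsFree ρ) (S : Set G) (b : Fin 2 → V)
    (hb : LinearIndependent F b)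
    (hS : ∀ s ∈ S, ∃ M : Matrix (Fin 2) (Fin 2) F, IsMat b (ρ s) M ∧ M.det = 1) :
    ∃ φ : ↥(Subgroup.closure S) →* Matrix.SpecialLinearGroup (Fin 2) F, Function.Injective φ := by
  have hP : ∀ g : G, g ∈ Subgroup.closure S →
      ∃ M : Matrix.SpecialLinearGroup (Fin 2) F, IsMat b (ρ g) (M : Matrix (Fin 2) (Fin 2) F) := by
    intro g hg
    induction hg using Subgroup.closure_induction with
    | mem x hx =>
      obtain ⟨M, hM, hdet⟩ := hS x hx
      exact ⟨⟨M, hdet⟩, hM⟩
    | one => exact ⟨1, by rw [map_one]; exact IsMat.one b⟩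
    | mul x y _ _ hx hy =>
      obtain ⟨M, hM⟩ := hx
      obtain ⟨M', hM'⟩ := hy
      exact ⟨M * M', by rw [map_mul, Matrix.SpecialLinearGroup.coe_mul]; exact hM.mul hM'⟩
    | inv x _ hx =>
      obtain ⟨M, hM⟩ := hx
      have hpow : ∀ n : ℕ, IsMat b (ρ (x ^ n)) ((M ^ n : Matrix.SpecialLinearGroup (Fin 2) F) : Matrix (Fin 2) (Fin 2) F) := by
        intro n
        induction n with
        | zero => rw [pow_zero, pow_zero, map_one]; exact IsMat.one b
        | succ n ih =>
          rw [pow_succ, pow_succ, map_mul, Matrix.SpecialLinearGroup.coe_mul]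
          exact ih.mul hM
      have hinv : x⁻¹ = x ^ (orderOf x - 1) := by
        apply inv_eq_of_mul_eq_one_right
        rw [← pow_succ', Nat.sub_add_cancel (orderOf_pos x), pow_orderOf_eq_one]
      rw [hinv]
      exact ⟨_, hpow _⟩
  choose! Φ hΦ using hP
  have hmul : ∀ g k : ↥(Subgroup.closure S), Φ (g * k : G) = Φ g * Φ k := by
    intro g k
    apply Subtype.ext
    apply IsMat.unique hb (hΦ _ (g * k).2)
    rw [Subgroup.coe_mul, map_mul, Matrix.SpecialLinearGroup.coe_mul]
    exact (hΦ _ g.2).mul (hΦ _ k.2)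
  refine ⟨MonoidHom.mk' (fun g => Φ g) (fun g k => hmul g k), ?_⟩
  rw [← MonoidHom.ker_eq_bot_iff, Subgroup.eq_bot_iff_forall]
  intro g hg
  have h1 : Φ (g : G) = 1 := hg
  have h2 := hΦ _ g.2
  rw [h1] at h2
  have h3 : ρ (g : G) (b 0) = b 0 := by
    rw [h2 0]
    simp [Matrix.one_apply, Finset.sum_ite_eq']
  by_contra hne
  have hne' : (g : G) ≠ 1 := fun h' => hne (Subtype.ext h')
  exact hb.ne_zero 0 (h _ hne' _ h3)

end plane

end Cfsg.Agent.Lib.Helper9.Zfc
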