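import Mathlib
import Cfsg.Agent.Lib.Helper9.ZfcB

set_option autoImplicit false
set_option linter.unusedSectionVars false
set_option linter.unusedVariables false
set_option linter.style.longLine false
set_option linter.unusedSimpArgs false

set_option maxHeartbeats 1600000
namespace Cfsg.Agent.Lib.Helper9.Zfc

open Matrix

section lemmaM

variable {F : Type*} [Field F] [IsAlgClosed F] {V : Type*} [AddCommGroup V] [Module F V]
  [FiniteDimensional F V] [Nontrivial V]
  {G : Type*} [Group G] [Finite G] {ρ : G →* Module.End F V}

/-- a common eigenvector of two commuting endomorphisms -/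
theorem exists_common_eigenvector (X c : Module.End F V) (hc : X * c = c * X) :
    ∃ (μ γ : F) (v : V), v ≠ 0 ∧ X v = μ • v ∧ c v = γ • v := by
  obtain ⟨μ, hμ⟩ := Module.End.exists_eigenvalue X
  set W := Module.End.eigenspace X μ with hW
  have hWne : W ≠ ⊥ := hμ
  have hmap : ∀ w ∈ W, c w ∈ W := by
    intro w hw
    rw [hW, Module.End.mem_eigenspace_iff] at hw ⊢
    have h1 : X (c w) = c (X w) := by
      have := LinearMap.congr_fun hc w
      simpa only [Module.End.mul_apply] using this
    rw [h1, hw, map_smul]
  have : Nontrivial ↥W := Submodule.nontrivial_iff_ne_bot.mpr hWne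
  obtain ⟨γ, hγ⟩ := Module.End.exists_eigenvalue (c.restrict hmap)
  obtain ⟨w, hw⟩ := hγ.exists_hasEigenvector
  refine ⟨μ, γ, (w : V), ?_, ?_, ?_⟩
  · intro h0
    exact hw.2 (Subtype.ext h0)
  · exact Module.End.mem_eigenspace_iff.mp w.2
  · have h1 := hw.apply_eq_smul
    have h2 := congrArg (Subtype.val) h1
    simpa using h2

/-- Lemma M: two elements of order three generating different subgroups generate a subgroup
of `SL₂`. -/
theorem emb_three (h : IsFree ρ) {x y : G} (hx : orderOf x = 3) (hy : orderOf y = 3)
    (hxy : Subgroup.zpowers x ≠ Subgroup.zpowers y) :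
    ∃ φ : ↥(Subgroup.closure ({x, y} : Set G)) →* Matrix.SpecialLinearGroup (Fin 2) F,
      Function.Injective φ := by
  set X := ρ x with hXdef
  set Y := ρ y with hYdef
  have hX : X * X + X + 1 = 0 := h.quad_of_order_three hx
  have hY : Y * Y + Y + 1 = 0 := h.quad_of_order_three hy
  have eX : X * X + X = -1 := by
    rw [← sub_eq_zero, ← hX]; abel
  set c := X * Y + Y * X + X + Y + 1 with hcdef
  have hc : X * c = c * X := by
    rw [← sub_eq_zero]
    have : X * c - c * X = (X * X + X) * Y - Y * (X * X + X) := by
      rw [hcdef]; noncomm_ring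
    rw [this, eX]; noncomm_ring
  obtain ⟨μ, γ, v, hv0, hXv, hcv⟩ := exists_common_eigenvector X c hc
  -- μ is a primitive cube root of unity
  have hμ : μ * μ + μ + 1 = 0 := by
    have h1 := LinearMap.congr_fun hX v
    simp only [LinearMap.add_apply, Module.End.mul_apply, Module.End.one_apply, hXv, map_smul,
      LinearMap.zero_apply] at h1
    have h2 : (μ * μ + μ + 1) • v = 0 := by
      rw [add_smul, add_smul, one_smul, mul_smul]; exact h1
    rcases smul_eq_zero.mp h2 with h3 | h3
    · exact h3
    · exact absurd h3 hv0
  have hYYv : Y (Y v) = -(Y v) - v := by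
    have h1 := LinearMap.congr_fun hY v
    simp only [LinearMap.add_apply, Module.End.mul_apply, Module.End.one_apply,
      LinearMap.zero_apply] at h1
    rw [← sub_eq_zero, ← h1]; abel
  have hXYv : X (Y v) = (γ - μ - 1) • v + (-(μ + 1)) • Y v := by
    have h1 : c v = γ • v := hcv
    rw [hcdef] at h1
    simp only [LinearMap.add_apply, Module.End.mul_apply, Module.End.one_apply, hXv,
      map_smul] at h1
    rw [← sub_eq_zero]
    have : X (Y v) - ((γ - μ - 1) • v + (-(μ + 1)) • Y v)
        = (X (Y v) + μ • Y v + μ • v + Y v + v) - γ • v := by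
      simp only [sub_smul, add_smul, neg_smul, one_smul]; abel
    rw [this, h1, sub_self]
  -- linear independence
  have hli : LinearIndependent F ![v, Y v] := by
    rw [LinearIndependent.pair_iff]
    intro s t hst
    by_cases ht : t = 0
    · subst ht
      rw [zero_smul, add_zero] at hst
      rcases smul_eq_zero.mp hst with h3 | h3
      · exact ⟨h3, rfl⟩
      · exact absurd h3 hv0
    · exfalso
      set ν := -s / t with hν
      have hYv : Y v = ν • v := by
        have h1 : t • Y v = -(s • v) := eq_neg_of_add_eq_zero_right hst
        have h2 : Y v = t⁻¹ • (t • Y v) := by rw [smul_smul, inv_mul_cancel₀ ht, one_smul]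
        rw [h2, h1, smul_neg, ← neg_smul, smul_smul, hν]
        congr 1
        field_simp
      have hνq : ν * ν + ν + 1 = 0 := by
        have h1 := hYYv
        rw [hYv, map_smul, hYv] at h1
        have h2 : (ν * ν + ν + 1) • v = 0 := by
          rw [add_smul, add_smul, one_smul, mul_smul, h1]; abel
        rcases smul_eq_zero.mp h2 with h3 | h3
        · exact h3
        · exact absurd h3 hv0
      have hcases : ν = μ ∨ ν = -1 - μ := by
        have h1 : (ν - μ) * (ν - (-1 - μ)) = 0 := by linear_combination hνq - hμ
        rcases mul_eq_zero.mp h1 with h2 | h2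
        · exact Or.inl (sub_eq_zero.mp h2)
        · exact Or.inr (sub_eq_zero.mp h2)
      rcases hcases with h1 | h1
      · -- x * x * y fixes v
        have hfix : ρ (x * x * y) v = v := by
          rw [map_mul, map_mul]
          show X (X (Y v)) = v
          rw [hYv, map_smul, map_smul, hXv, map_smul, hXv, smul_smul, smul_smul, h1]
          have : μ * μ * μ = 1 := by linear_combination (μ - 1) * hμ
          rw [this, one_smul]
        have h2 : x * x * y = 1 := by
          by_contra hne
          exact hv0 (h _ hne v hfix)
        apply hxy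
        have hx3 : x * x * x = 1 := by
          have := pow_orderOf_eq_one x
          rw [hx] at this
          rw [← this, pow_succ, pow_two]
        have : y = x := by
          have h3 : x * x * y = x * x * x := by rw [h2, hx3]
          exact mul_left_cancel h3
        rw [this]
      · -- x * y fixes v
        have hfix : ρ (x * y) v = v := by
          rw [map_mul]
          show X (Y v) = v
          rw [hYv, map_smul, hXv, smul_smul, h1]
          have : (-1 - μ) * μ = 1 := by linear_combination (-1 : F) * hμ
          rw [this, one_smul]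
        have h2 : x * y = 1 := by
          by_contra hne
          exact hv0 (h _ hne v hfix)
        apply hxy
        have : y = x⁻¹ := (inv_eq_of_mul_eq_one_right h2).symm
        rw [this, Subgroup.zpowers_inv]
  apply emb_of_plane h _ ![v, Y v] hli
  intro s hs
  rcases hs with rfl | hs
  · refine ⟨!![μ, γ - μ - 1; 0, -(μ + 1)], ?_, ?_⟩
    · refine isMat_of (b := ![v, Y v]) ?_ ?_
      · show X v = μ • v + (0 : F) • Y v
        rw [zero_smul, add_zero]; exact hXv
      · exact hXYv
    · rw [Matrix.det_fin_two_of]
      linear_combination (-1 : F) * hμ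
  · rw [Set.mem_singleton_iff] at hs
    subst hs
    refine ⟨!![0, -1; 1, -1], ?_, ?_⟩
    · refine isMat_of (b := ![v, Y v]) ?_ ?_
      · show Y v = (0 : F) • v + (1 : F) • Y v
        rw [zero_smul, zero_add, one_smul]
      · show Y (Y v) = (-1 : F) • v + (-1 : F) • Y v
        rw [hYYv, neg_smul, neg_smul, one_smul, one_smul]; abel
    · rw [Matrix.det_fin_two_of]
      norm_num

end lemmaM

end Cfsg.Agent.Lib.Helper9.Zfc
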