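import Mathlib
import Cfsg.Agent.Lib.Helper9.ZfcC

set_option autoImplicit false
set_option linter.unusedSectionVars false
set_option linter.unusedVariables false
set_option linter.style.longLine false
set_option linter.unusedSimpArgs false

set_option maxHeartbeats 1600000
namespace Cfsg.Agent.Lib.Helper9.Zfc

section hurwitz

variable {F : Type*} [Field F] {R : Type*} [Ring R] [Algebra F R]

/-- the quaternion relations -/
structure QRel (U W : R) : Prop where
  hU : U * U = -1
  hW : W * W = -1
  hUW : U * W = -(W * U)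

namespace QRel

variable {U W : R} (q : QRel U W)

include q

theorem hU2 (z : R) : U * (U * z) = -z := by rw [← mul_assoc, q.hU, neg_mul, one_mul]
theorem hW2 (z : R) : W * (W * z) = -z := by rw [← mul_assoc, q.hW, neg_mul, one_mul]
theorem hUW2 (z : R) : U * (W * z) = -(W * (U * z)) := by
  rw [← mul_assoc, q.hUW, neg_mul, mul_assoc]

/-- the scalar-free Hurwitz element `2a` -/
def hz (_q : QRel U W) : R := -1 + U + W + W * U

theorem hz_U : q.hz * U = W * q.hz := by
  unfold hz
  simp only [mul_add, add_mul, mul_neg, neg_mul, mul_one, one_mul, mul_assoc, q.hU, q.hW, q.hUW,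
    q.hU2, q.hW2, q.hUW2, neg_neg]
  abel

theorem hz_W : q.hz * W = W * U * q.hz := by
  unfold hz
  simp only [mul_add, add_mul, mul_neg, neg_mul, mul_one, one_mul, mul_assoc, q.hU, q.hW, q.hUW,
    q.hU2, q.hW2, q.hUW2, neg_neg]
  abel

theorem hz_sq : q.hz * q.hz = -(q.hz + q.hz) - (1 + 1 + 1 + 1) := by
  unfold hz
  simp only [mul_add, add_mul, mul_neg, neg_mul, mul_one, one_mul, mul_assoc, q.hU, q.hW, q.hUW,
    q.hU2, q.hW2, q.hUW2, neg_neg]
  abel

theorem U_hz_U : U * q.hz * U = 1 - U + W + W * U := by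
  unfold hz
  simp only [mul_add, add_mul, mul_neg, neg_mul, mul_one, one_mul, mul_assoc, q.hU, q.hW, q.hUW,
    q.hU2, q.hW2, q.hUW2, neg_neg]
  abel

theorem D_sq : (W + W * U) * (W + W * U) = -(1 + 1) := by
  simp only [mul_add, add_mul, mul_neg, neg_mul, mul_one, one_mul, mul_assoc, q.hU, q.hW, q.hUW,
    q.hU2, q.hW2, q.hUW2, neg_neg]
  abel

end QRel

end hurwitz

end Cfsg.Agent.Lib.Helper9.Zfc
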