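import Mathlib
import Cfsg.Agent.Lib.Helper9.ZfcD

set_option autoImplicit false
set_option linter.unusedSectionVars false
set_option linter.unusedVariables false
set_option linter.style.longLine false
set_option linter.unusedSimpArgs false

set_option maxHeartbeats 1600000
namespace Cfsg.Agent.Lib.Helper9.Zfc

section hurwitz2

variable {F : Type*} [Field F] {R : Type*} [Ring R] [Algebra F R]

/-- Lemma H in ring form: an element of order three inducing the standard automorphism of the
quaternion relations, and such that `X - 1` is left cancellable, is the Hurwitz unit. -/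
theorem eq_hurwitz {U W X : R} (q : QRel U W) (h2 : (2 : F) ≠ 0) (h3 : (3 : F) ≠ 0) (ω : F)
    (hω : ω * ω + ω + 1 = 0) (hX3 : X * X * X = 1) (hXU : X * U = W * X)
    (hXW : X * W = W * U * X) (hcancel : ∀ T : R, (X - 1) * T = 0 → T = 0) :
    X = (2⁻¹ : F) • q.hz := by
  obtain ⟨h, hh⟩ : ∃ h : F, h = 2⁻¹ := ⟨_, rfl⟩
  obtain ⟨A, hA⟩ : ∃ A : R, A = q.hz := ⟨_, rfl⟩
  obtain ⟨a, ha⟩ : ∃ a : R, a = h • A := ⟨_, rfl⟩
  have hAU : A * U = W * A := by rw [hA]; exact q.hz_U
  have hAW : A * W = W * U * A := by rw [hA]; exact q.hz_W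
  have hAA : A * A = -(A + A) - (1 + 1 + 1 + 1) := by rw [hA]; exact q.hz_sq
  have hUAU : U * A * U = 1 - U + W + W * U := by rw [hA]; exact q.U_hz_U
  have haU : a * U = W * a := by rw [ha, smul_mul_assoc, hAU, mul_smul_comm]
  have haW : a * W = W * U * a := by rw [ha, smul_mul_assoc, hAW, mul_smul_comm]
  have ha2 : a * a + a + 1 = 0 := by
    rw [ha, smul_mul_smul_comm, hAA]
    have e1 : h * h * 2 = h := by rw [hh]; field_simp
    have e2 : h * h * (2 * 2) = 1 := by rw [hh]; field_simp
    have e3 : A + A = (2 : F) • A := (two_smul F A).symm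
    have e4 : (1 + 1 + 1 + 1 : R) = ((2 : F) * 2) • (1 : R) := by
      rw [mul_smul, two_smul, two_smul]; abel
    rw [e3, e4, smul_sub, smul_neg, smul_smul, smul_smul, e1, e2, one_smul]
    abel
  have haa : a * a = -a - 1 := by rw [← sub_eq_zero, ← ha2]; abel
  have haa' : a * (-1 - a) = 1 := by
    have : a * (-1 - a) = -(a * a + a + 1) + 1 := by noncomm_ring
    rw [this, ha2, neg_zero, zero_add]
  have ha'a : (-1 - a) * a = 1 := by
    have : (-1 - a) * a = -(a * a + a + 1) + 1 := by noncomm_ring
    rw [this, ha2, neg_zero, zero_add]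
  obtain ⟨a', ha'⟩ : ∃ a' : R, a' = -1 - a := ⟨_, rfl⟩
  rw [← ha'] at haa' ha'a
  obtain ⟨c, hc⟩ : ∃ c : R, c = a' * X := ⟨_, rfl⟩
  have hXac : a * c = X := by rw [hc, ← mul_assoc, haa', one_mul]
  have hUa' : U * a' = a' * W := by
    calc U * a' = (a' * a) * U * a' := by rw [ha'a, one_mul]
      _ = a' * (a * U) * a' := by noncomm_ring
      _ = a' * (W * a) * a' := by rw [haU]
      _ = a' * W * (a * a') := by noncomm_ring
      _ = a' * W := by rw [haa', mul_one]
  have hWa' : W * a' = a' * (W * U) := by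
    calc W * a' = (a' * a) * W * a' := by rw [ha'a, one_mul]
      _ = a' * (a * W) * a' := by noncomm_ring
      _ = a' * (W * U * a) * a' := by rw [haW]
      _ = a' * (W * U) * (a * a') := by noncomm_ring
      _ = a' * (W * U) := by rw [haa', mul_one]
  have hcU : c * U = U * c := by
    rw [hc, mul_assoc, hXU, ← mul_assoc, ← hUa', mul_assoc]
  have hcW : c * W = W * c := by
    rw [hc, mul_assoc, hXW, ← mul_assoc, ← hWa', mul_assoc]
  have hcA : c * A = A * c := by
    have hcWU : c * (W * U) = W * U * c := by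
      rw [← mul_assoc, hcW, mul_assoc, hcU, ← mul_assoc]
    rw [hA]
    unfold QRel.hz
    simp only [mul_add, add_mul, mul_neg, neg_mul, mul_one, one_mul, hcU, hcW, hcWU]
  have hca : c * a = a * c := by rw [ha, mul_smul_comm, smul_mul_assoc, hcA]
  have ha3 : a * a * a = 1 := by
    have : a * a * a = (a - 1) * (a * a + a + 1) + 1 := by noncomm_ring
    rw [this, ha2, mul_zero, zero_add]
  have hc3 : c * c * c = 1 := by
    have : X * X * X = (a * a * a) * (c * c * c) := by
      rw [← hXac]
      calc a * c * (a * c) * (a * c) = a * (c * a) * (c * a) * c := by noncomm_ring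
        _ = a * (a * c) * (a * c) * c := by rw [hca]
        _ = a * a * (c * a) * c * c := by noncomm_ring
        _ = a * a * (a * c) * c * c := by rw [hca]
        _ = a * a * a * (c * c * c) := by noncomm_ring
    rw [hX3, ha3, one_mul] at this
    exact this.symm
  have hccU : c * c * U = U * (c * c) := by
    rw [mul_assoc, hcU, ← mul_assoc, hcU, mul_assoc]
  have hcca : c * c * a = a * (c * c) := by
    rw [mul_assoc, hca, ← mul_assoc, hca, mul_assoc]
  -- (iv)
  have hD : a + U * a * U = W + W * U := by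
    rw [ha, mul_smul_comm, smul_mul_assoc, hUAU, ← smul_add, hA]
    unfold QRel.hz
    have : (-1 + U + W + W * U + (1 - U + W + W * U) : R) = (2 : F) • (W + W * U) := by
      rw [two_smul]; abel
    rw [this, smul_smul, hh, inv_mul_cancel₀ h2, one_smul]
  -- the key lemma
  have key : ∀ ζ : F, ζ * ζ + ζ + 1 = 0 → (1 : R) + (ζ * ζ) • c + ζ • (c * c) = 0 := by
    intro ζ hζ
    have hζ3 : ζ * (ζ * ζ) = 1 := by linear_combination (ζ - 1) * hζ
    obtain ⟨E, hE⟩ : ∃ E : R, E = 1 + (ζ * ζ) • c + ζ • (c * c) := ⟨_, rfl⟩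
    rw [← hE]
    have hcE : c * E = ζ • E := by
      rw [hE]
      simp only [mul_add, mul_one, mul_smul_comm, smul_add, smul_smul]
      rw [← mul_assoc c c c, hc3, hζ3, one_smul]
      abel
    have hEU : E * U = U * E := by
      rw [hE]
      simp only [add_mul, mul_add, one_mul, mul_one, smul_mul_assoc, mul_smul_comm, hcU, hccU]
    have hfix : X * ((a - ζ • 1) * E) = (a - ζ • 1) * E := by
      rw [← hXac]
      have e0 : c * (a - ζ • (1 : R)) = (a - ζ • 1) * c := by
        rw [mul_sub, sub_mul, hca, mul_smul_comm, smul_mul_assoc, mul_one, one_mul]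
      have e1 : a * c * ((a - ζ • 1) * E) = a * (a - ζ • 1) * (c * E) := by
        calc a * c * ((a - ζ • 1) * E) = a * (c * (a - ζ • 1)) * E := by noncomm_ring
          _ = a * ((a - ζ • 1) * c) * E := by rw [e0]
          _ = a * (a - ζ • 1) * (c * E) := by noncomm_ring
      have hζ' : -ζ - ζ * ζ = 1 := by linear_combination -hζ
      have e2 : ζ • (a * (a - ζ • (1 : R))) = a - ζ • 1 := by
        rw [mul_sub, haa, mul_smul_comm, mul_one]
        calc ζ • (-a - 1 - ζ • a) = (-ζ - ζ * ζ) • a - ζ • (1 : R) := by module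
          _ = a - ζ • 1 := by rw [hζ', one_smul]
      rw [e1, hcE, mul_smul_comm, ← smul_mul_assoc, e2]
    have hzero : (a - ζ • 1) * E = 0 := by
      apply hcancel
      rw [sub_mul, one_mul, hfix, sub_self]
    have haE : a * E = ζ • E := by
      have := hzero
      rw [sub_mul, smul_mul_assoc, one_mul, sub_eq_zero] at this
      exact this
    have hUaUE : U * a * U * E = -(ζ • E) := by
      calc U * a * U * E = U * a * (U * E) := by noncomm_ring
        _ = U * a * (E * U) := by rw [hEU]
        _ = U * (a * E) * U := by noncomm_ring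
        _ = ζ • (U * (E * U)) := by rw [haE, mul_smul_comm, smul_mul_assoc, mul_assoc]
        _ = ζ • (U * (U * E)) := by rw [hEU]
        _ = -(ζ • E) := by rw [q.hU2, smul_neg]
    have hDE : (W + W * U) * E = 0 := by
      rw [← hD, add_mul, haE, hUaUE, add_neg_cancel]
    have h2E : (W + W * U) * ((W + W * U) * E) = 0 := by rw [hDE, mul_zero]
    rw [← mul_assoc, q.D_sq, neg_mul, neg_eq_zero, add_mul, one_mul, ← two_smul F E] at h2E
    rcases smul_eq_zero.mp h2E with h5 | h5
    · exact absurd h5 h2
    · exact h5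
  have k1 := key ω hω
  have k2 := key (ω * ω) (by linear_combination (ω * ω - ω + 1) * hω)
  have hω4 : ω * ω * (ω * ω) = ω := by linear_combination (ω * ω - ω) * hω
  rw [hω4] at k2
  have hsum : c * c + c = (2 : F) • (1 : R) := by
    have h5 : (1 : R) + (ω * ω) • c + ω • (c * c) + (1 + ω • c + (ω * ω) • (c * c)) = 0 := by
      rw [k1, k2, add_zero]
    have hω' : ω * ω + ω = -1 := by linear_combination hω
    have h6 : (1 : R) + (ω * ω) • c + ω • (c * c) + (1 + ω • c + (ω * ω) • (c * c))
        = (2 : F) • (1 : R) + (ω * ω + ω) • c + (ω * ω + ω) • (c * c) := by module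
    rw [h6, hω', neg_smul, neg_smul, one_smul, one_smul] at h5
    rw [eq_comm, ← sub_eq_zero, ← h5]; abel
  have hc1 : c = 1 := by
    have h7 : c * (c * c + c) = (2 : F) • c := by rw [hsum, mul_smul_comm, mul_one]
    have h8 : c * (c * c + c) = 1 + c * c := by
      rw [mul_add, ← mul_assoc, hc3]
    have hcc : c * c = (2 : F) • c - 1 := by
      rw [← h7, h8]; abel
    have h9 : (3 : F) • (c - 1) = 0 := by
      have : (3 : F) • (c - 1) = ((2 : F) • c - 1) + c - (2 : F) • (1 : R) := by module
      rw [this, ← hcc, hsum, sub_self]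
    rcases smul_eq_zero.mp h9 with h5 | h5
    · exact absurd h5 h3
    · exact sub_eq_zero.mp h5
  rw [← hXac, hc1, mul_one, ha, hh, hA]

end hurwitz2

end Cfsg.Agent.Lib.Helper9.Zfc
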