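import Mathlib
import Cfsg.Agent.Lib.Helper9.ZfcE

set_option autoImplicit false
set_option linter.unusedSectionVars false
set_option linter.unusedVariables false
set_option linter.style.longLine false
set_option linter.unusedSimpArgs false

set_option maxHeartbeats 1600000
namespace Cfsg.Agent.Lib.Helper9.Zfc

section triple

variable {R : Type*} [Ring R]

/-- three pairwise anticommuting square roots of `-1`: their product squares to one -/
theorem triple_sq {U W Z : R} (q1 : QRel U W) (hZ : Z * Z = -1) (hWZ : W * Z = -(Z * W))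
    (hUZ : U * Z = -(Z * U)) : (U * W * Z) * (U * W * Z) = 1 := by
  have hZ2 : ∀ z : R, Z * (Z * z) = -z := fun z => by rw [← mul_assoc, hZ, neg_mul, one_mul]
  have hWZ2 : ∀ z : R, W * (Z * z) = -(Z * (W * z)) := fun z => by
    rw [← mul_assoc, hWZ, neg_mul, mul_assoc]
  have hUZ2 : ∀ z : R, U * (Z * z) = -(Z * (U * z)) := fun z => by
    rw [← mul_assoc, hUZ, neg_mul, mul_assoc]
  simp only [mul_neg, neg_mul, mul_assoc, q1.hU, q1.hW, q1.hUW, q1.hU2, q1.hW2, q1.hUW2, hZ, hZ2,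
    hWZ, hWZ2, hUZ, hUZ2, neg_neg, mul_one]

/-- conjugation by an invertible element -/
def cj (X Xi T : R) : R := X * T * Xi

theorem cj_mul {X Xi : R} (hXiX : Xi * X = 1) (S T : R) :
    cj X Xi (S * T) = cj X Xi S * cj X Xi T := by
  unfold cj
  calc X * (S * T) * Xi = X * S * (1 * (T * Xi)) := by simp only [mul_assoc, one_mul]
    _ = X * S * (Xi * X * (T * Xi)) := by rw [hXiX]
    _ = X * S * Xi * (X * T * Xi) := by simp only [mul_assoc]

theorem cj_neg (X Xi T : R) : cj X Xi (-T) = -cj X Xi T := by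
  unfold cj
  rw [mul_neg, neg_mul]

theorem cj_one {X Xi : R} (hXXi : X * Xi = 1) : cj X Xi 1 = 1 := by
  unfold cj
  rw [mul_one, hXXi]

theorem cj_mul_right {X Xi : R} (hXiX : Xi * X = 1) (T : R) : cj X Xi T * X = X * T := by
  unfold cj
  rw [mul_assoc, hXiX, mul_one]

theorem QRel.UWU {U W : R} (q : QRel U W) : U * W * U = W := by
  rw [q.hUW, neg_mul, mul_assoc, q.hU, mul_neg, mul_one, neg_neg]

theorem QRel.WU {U W : R} (q : QRel U W) : W * U = -(U * W) := by rw [q.hUW, neg_neg]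

/-- the relations for the pair `(U, U W)` -/
theorem QRel.shift {U W : R} (q : QRel U W) : QRel U (U * W) := by
  refine ⟨q.hU, ?_, ?_⟩
  · calc U * W * (U * W) = (U * W * U) * W := by simp only [mul_assoc]
      _ = -1 := by rw [q.UWU, q.hW]
  · calc U * (U * W) = U * U * W := (mul_assoc _ _ _).symm
      _ = -(U * W * U) := by rw [q.hU, q.UWU, neg_mul, one_mul]

theorem QRel.D2_sq {U W : R} (q : QRel U W) : (U * W + W) * (U * W + W) = -(1 + 1) := by
  have h1 : U * W * (U * W) = -1 := q.shift.hW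
  have h2 : U * W * W = -U := by rw [mul_assoc, q.hW, mul_neg, mul_one]
  have h3 : W * (U * W) = U := by
    rw [← mul_assoc, q.WU, neg_mul, mul_assoc, q.hW, mul_neg, mul_one, neg_neg]
  rw [mul_add, add_mul, add_mul, h1, h2, h3, q.hW]
  abel

end triple

section hform

variable {F : Type*} [Field F] {V : Type*} [AddCommGroup V] [Module F V] [Nontrivial V]
  {G : Type*} [Group G] {ρ : G →* Module.End F V}

theorem rho_inv_eq (g : G) {T : Module.End F V} (hT : ρ g * T = 1) : ρ g⁻¹ = T := by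
  calc ρ g⁻¹ = ρ g⁻¹ * (ρ g * T) := by rw [hT, mul_one]
    _ = (ρ g⁻¹ * ρ g) * T := by rw [mul_assoc]
    _ = T := by rw [← map_mul, inv_mul_cancel, map_one, one_mul]

theorem half_form (c : F) (hc : c + c = 1) (T : Module.End F V) :
    -1 - c • (-1 + T) = (-c) • (1 : Module.End F V) + (-c) • T := by
  calc (-1 : Module.End F V) - c • (-1 + T)
      = -((c + c) • (1 : Module.End F V)) - c • (-(1 : Module.End F V) + T) := by
        rw [hc, one_smul]
    _ = (-c) • (1 : Module.End F V) + (-c) • T := by module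

/-- Lemma H for the group: an element `x` of order three such that `v = x u x⁻¹` inverts the
element `u` of order four is, as an operator, `-1/2 + β U + M` with `β = ± 1/2`, `M`
anticommuting with `U` and `M² = -1/2`. -/
theorem hform_of_qpair (h : IsFree ρ) (h2 : (2 : F) ≠ 0) (h3 : (3 : F) ≠ 0) (ω : F)
    (hω : ω * ω + ω + 1 = 0) {u x : G} (hu : orderOf u = 4) (hx : orderOf x = 3)
    (hq : (x * u * x⁻¹) * u * (x * u * x⁻¹)⁻¹ = u⁻¹) :
    ∃ (β : F) (M : Module.End F V), β * β = (4 : F)⁻¹ ∧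
      ρ x = (-(2 : F)⁻¹) • (1 : Module.End F V) + β • ρ u + M ∧
      M * ρ u = -(ρ u * M) ∧ M * M = (-(2 : F)⁻¹) • (1 : Module.End F V) := by
  have hx1 : x ≠ 1 := by
    intro h1; rw [h1, orderOf_one] at hx; omega
  have hxi1 : x⁻¹ ≠ 1 := fun h1 => hx1 (inv_eq_one.mp h1)
  have hx3 : x * x * x = 1 := by
    have := pow_orderOf_eq_one x
    rw [hx] at this
    rw [← this, pow_succ, pow_two]
  obtain ⟨U, hUdef⟩ : ∃ U : Module.End F V, U = ρ u := ⟨_, rfl⟩
  obtain ⟨X, hXdef⟩ : ∃ X : Module.End F V, X = ρ x := ⟨_, rfl⟩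
  obtain ⟨Xi, hXidef⟩ : ∃ Xi : Module.End F V, Xi = ρ x⁻¹ := ⟨_, rfl⟩
  have hXXi : X * Xi = 1 := by rw [hXdef, hXidef, ← map_mul, mul_inv_cancel, map_one]
  have hXiX : Xi * X = 1 := by rw [hXdef, hXidef, ← map_mul, inv_mul_cancel, map_one]
  have hX3 : X * X * X = 1 := by rw [hXdef, ← map_mul, ← map_mul, hx3, map_one]
  have hXi3 : Xi * Xi * Xi = 1 := by
    have : x⁻¹ * x⁻¹ * x⁻¹ = 1 := by
      rw [← mul_inv_rev, ← mul_inv_rev, ← mul_assoc, hx3, inv_one]
    rw [hXidef, ← map_mul, ← map_mul, this, map_one]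
  have hUU : U * U = -1 := by rw [hUdef]; exact h.sq_of_order_four hu
  obtain ⟨W, hWdef⟩ : ∃ W : Module.End F V, W = cj X Xi U := ⟨_, rfl⟩
  obtain ⟨Z, hZdef⟩ : ∃ Z : Module.End F V, Z = cj X Xi W := ⟨_, rfl⟩
  have hUcj : U = cj X Xi Z := by
    rw [hZdef, hWdef]
    unfold cj
    calc U = (X * X * X) * U * (Xi * Xi * Xi) := by rw [hX3, hXi3, one_mul, mul_one]
      _ = X * (X * (X * U * Xi) * Xi) * Xi := by simp only [mul_assoc]
  have hWrho : W = ρ (x * u * x⁻¹) := by
    rw [hWdef, hXdef, hUdef, hXidef, map_mul, map_mul]; rfl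
  have hWW : W * W = -1 := by
    rw [hWdef, ← cj_mul hXiX, hUU, cj_neg, cj_one hXXi]
  have hZZ : Z * Z = -1 := by
    rw [hZdef, ← cj_mul hXiX, hWW, cj_neg, cj_one hXXi]
  have hUi : ρ u⁻¹ = -U := rho_inv_eq u (by rw [← hUdef, mul_neg, hUU, neg_neg])
  have hWi : ρ (x * u * x⁻¹)⁻¹ = -W := rho_inv_eq _ (by rw [← hWrho, mul_neg, hWW, neg_neg])
  have hUW : U * W = -(W * U) := by
    have h1 := congrArg ρ hq
    rw [map_mul, map_mul, hWi, hUi, ← hWrho, ← hUdef, mul_neg] at h1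
    have h4 : W * U * W = U := neg_injective h1
    calc U * W = (W * U * W) * W := by rw [h4]
      _ = W * U * (W * W) := by simp only [mul_assoc]
      _ = -(W * U) := by rw [hWW, mul_neg, mul_one]
  have q : QRel U W := ⟨hUU, hWW, hUW⟩
  have hWZ : W * Z = -(Z * W) := by
    have := congrArg (cj X Xi) hUW
    rwa [cj_mul hXiX, cj_neg, cj_mul hXiX, ← hWdef, ← hZdef] at this
  have hUZ : U * Z = -(Z * U) := by
    have := congrArg (cj X Xi) hWZ
    rw [cj_mul hXiX, cj_neg, cj_mul hXiX, ← hZdef, ← hUcj] at this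
    rw [this, neg_neg]
  have hXU : X * U = W * X := by rw [hWdef, cj_mul_right hXiX]
  have hXW : X * W = Z * X := by rw [hZdef, cj_mul_right hXiX]
  have hXZ : X * Z = U * X := by rw [hUcj, cj_mul_right hXiX]
  have hP := triple_sq q hZZ hWZ hUZ
  have hZrho : Z = ρ (x * (x * u * x⁻¹) * x⁻¹) := by
    rw [hZdef, hWrho, hXdef, hXidef, map_mul (f := ρ) (x * (x * u * x⁻¹)), map_mul (f := ρ) x]
    rfl
  have ht1 : u * u ≠ 1 := by
    intro h1
    have : orderOf u ∣ 2 := orderOf_dvd_of_pow_eq_one (by rw [pow_two]; exact h1)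
    rw [hu] at this
    omega
  have htt : (u * u) * (u * u) = 1 := by
    have := pow_orderOf_eq_one u
    rw [hu] at this
    rw [← this, show (4 : ℕ) = 2 + 2 from rfl, pow_add, pow_two]
  have hrt : ρ (u * u) = -1 := h.neg_one_of_sq ht1 htt
  obtain ⟨v, hv⟩ : ∃ v : G, v = x * u * x⁻¹ := ⟨_, rfl⟩
  obtain ⟨w, hw⟩ : ∃ w : G, w = x * v * x⁻¹ := ⟨_, rfl⟩
  rw [← hv] at hWrho hZrho
  rw [← hw] at hZrho
  have hUWsq : U * W * (U * W) = -1 := q.shift.hW
  have huvi : ρ (u * v)⁻¹ = -(U * W) := rho_inv_eq _ (by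
    rw [map_mul, ← hUdef, ← hWrho, mul_neg, hUWsq, neg_neg])
  have hs : ρ ((u * v)⁻¹ * w) = -(U * W * Z) := by
    rw [map_mul, huvi, ← hZrho, neg_mul]
  have hss : ((u * v)⁻¹ * w) * ((u * v)⁻¹ * w) = 1 := by
    apply h.eq_one
    rw [map_mul, hs, neg_mul_neg]
    exact hP
  have h4inv : (2 : F)⁻¹ * (2 : F)⁻¹ = (4 : F)⁻¹ := by
    rw [← mul_inv]; norm_num
  have hhalf : (2 : F)⁻¹ + (2 : F)⁻¹ = 1 := by
    rw [← two_mul, mul_inv_cancel₀ h2]
  have h42 : (4 : F)⁻¹ * 2 = (2 : F)⁻¹ := by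
    rw [show (4 : F) = 2 * 2 by norm_num, mul_inv, mul_assoc, inv_mul_cancel₀ h2, mul_one]
  rcases h.eq_of_sq ht1 htt hss with hs1 | hs1
  · -- case w = u v : Z = U W; use x⁻¹
    have hZ' : Z = U * W := by
      have : w = u * v := (inv_mul_eq_one.mp hs1).symm
      rw [hZrho, this, map_mul, ← hUdef, ← hWrho]
    have q2 : QRel U (U * W) := q.shift
    have hXiU : Xi * U = U * W * Xi := by
      rw [← hZ']
      calc Xi * U = Xi * (U * X) * Xi := by rw [mul_assoc, mul_assoc, hXXi, mul_one]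
        _ = Xi * (X * Z) * Xi := by rw [hXZ]
        _ = (Xi * X) * Z * Xi := by simp only [mul_assoc]
        _ = Z * Xi := by rw [hXiX, one_mul]
    have hXiW2 : Xi * (U * W) = U * W * U * Xi := by
      rw [q.UWU, ← hZ']
      calc Xi * Z = Xi * (Z * X) * Xi := by rw [mul_assoc, mul_assoc, hXXi, mul_one]
        _ = Xi * (X * W) * Xi := by rw [hXW]
        _ = (Xi * X) * W * Xi := by simp only [mul_assoc]
        _ = W * Xi := by rw [hXiX, one_mul]
    have hcan : ∀ T : Module.End F V, (Xi - 1) * T = 0 → T = 0 := by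
      intro T hT
      rw [hXidef] at hT
      exact h.cancel hxi1 hT
    have hXi := eq_hurwitz (F := F) q2 h2 h3 ω hω hXi3 hXiU hXiW2 hcan
    have hquad : Xi * Xi + Xi + 1 = 0 := by
      rw [hXidef]
      exact h.quad_of_order_three (by rw [orderOf_inv]; exact hx)
    have hXeq : X = -1 - Xi := by
      have h5 : X = Xi * Xi := by
        calc X = X * (Xi * Xi * Xi) := by rw [hXi3, mul_one]
          _ = (X * Xi) * Xi * Xi := by simp only [mul_assoc]
          _ = Xi * Xi := by rw [hXXi, one_mul]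
      rw [h5, ← sub_eq_zero, ← hquad]; abel
    refine ⟨-(2 : F)⁻¹, (-(2 : F)⁻¹) • (U * W + W), ?_, ?_, ?_, ?_⟩
    · rw [neg_mul_neg, h4inv]
    · rw [← hXdef, ← hUdef, hXeq, hXi]
      unfold QRel.hz
      rw [q.UWU, add_assoc (-1 : Module.End F V), add_assoc (-1 : Module.End F V),
        half_form _ hhalf]
      module
    · rw [← hUdef, smul_mul_assoc, mul_smul_comm, ← smul_neg]
      congr 1
      rw [add_mul, mul_add, q.UWU, ← mul_assoc, q.hU, neg_mul, one_mul, q.WU]
      abel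
    · rw [smul_mul_smul_comm, neg_mul_neg, h4inv, q.D2_sq, ← two_smul F (1 : Module.End F V),
        smul_neg, smul_smul, h42, neg_smul]
  · -- case w = u v t : Z = W U
    have hZ' : Z = W * U := by
      have : w = u * v * (u * u) := inv_mul_eq_iff_eq_mul.mp hs1
      rw [hZrho, this, map_mul, map_mul, hrt, ← hUdef, ← hWrho, hUW, mul_neg, mul_one, neg_neg]
    have hXW' : X * W = W * U * X := by rw [← hZ', hXW]
    have hcan : ∀ T : Module.End F V, (X - 1) * T = 0 → T = 0 := by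
      intro T hT
      rw [hXdef] at hT
      exact h.cancel hx1 hT
    have hXe := eq_hurwitz (F := F) q h2 h3 ω hω hX3 hXU hXW' hcan
    refine ⟨(2 : F)⁻¹, ((2 : F)⁻¹) • (W + W * U), ?_, ?_, ?_, ?_⟩
    · exact h4inv
    · rw [← hXdef, ← hUdef, hXe]
      unfold QRel.hz
      module
    · rw [← hUdef, smul_mul_assoc, mul_smul_comm, ← smul_neg]
      congr 1
      rw [add_mul, mul_add, mul_assoc, q.hU, mul_neg, mul_one, ← mul_assoc, q.UWU, q.WU]
      abel
    · rw [smul_mul_smul_comm, h4inv, q.D_sq, ← two_smul F (1 : Module.End F V),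
        smul_neg, smul_smul, h42, neg_smul]

end hform

end Cfsg.Agent.Lib.Helper9.Zfc
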