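import Mathlib
import Cfsg.Agent.Lib.Helper9.ZfcF

set_option autoImplicit false
set_option linter.unusedSectionVars false
set_option linter.unusedVariables false
set_option linter.style.longLine false
set_option linter.unusedSimpArgs false

set_option maxHeartbeats 1600000
namespace Cfsg.Agent.Lib.Helper9.Zfc

open Matrix

section lemmaMplus

variable {F : Type*} [Field F] [IsAlgClosed F] {V : Type*} [AddCommGroup V] [Module F V]
  [FiniteDimensional F V] [Nontrivial V]
  {G : Type*} [Group G] [Finite G] {ρ : G →* Module.End F V}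

/-- a primitive cube root of unity from an element of order three -/
theorem exists_omega (h : IsFree ρ) {x : G} (hx : orderOf x = 3) :
    ∃ ω : F, ω * ω + ω + 1 = 0 := by
  obtain ⟨μ, hμ⟩ := Module.End.exists_eigenvalue (ρ x)
  obtain ⟨v, hv⟩ := hμ.exists_hasEigenvector
  refine ⟨μ, ?_⟩
  have hX := h.quad_of_order_three hx
  have h1 := LinearMap.congr_fun hX v
  have hXv : ρ x v = μ • v := hv.apply_eq_smul
  simp only [LinearMap.add_apply, Module.End.mul_apply, Module.End.one_apply, hXv, map_smul,
    LinearMap.zero_apply] at h1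
  have h2 : (μ * μ + μ + 1) • v = 0 := by
    rw [add_smul, add_smul, one_smul, mul_smul]; exact h1
  rcases smul_eq_zero.mp h2 with h3 | h3
  · exact h3
  · exact absurd h3 hv.2

/-- Lemma M+ : an element of order four and two elements of order three, each generating with
it a group `SL₂(3)`, generate a subgroup of `SL₂`. -/
theorem emb_qpair (h : IsFree ρ) (h2 : (2 : F) ≠ 0) (h3 : (3 : F) ≠ 0) {u x x' : G}
    (hu : orderOf u = 4) (hx : orderOf x = 3) (hx' : orderOf x' = 3)
    (hq : (x * u * x⁻¹) * u * (x * u * x⁻¹)⁻¹ = u⁻¹)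
    (hq' : (x' * u * x'⁻¹) * u * (x' * u * x'⁻¹)⁻¹ = u⁻¹) :
    ∃ φ : ↥(Subgroup.closure ({u, x, x'} : Set G)) →* Matrix.SpecialLinearGroup (Fin 2) F,
      Function.Injective φ := by
  obtain ⟨ω, hω⟩ := exists_omega h hx
  obtain ⟨β, M, hβ, hX, hMU, hMM⟩ := hform_of_qpair h h2 h3 ω hω hu hx hq
  obtain ⟨β', M', hβ', hX', hMU', hMM'⟩ := hform_of_qpair h h2 h3 ω hω hu hx' hq'
  obtain ⟨U, hUdef⟩ : ∃ U : Module.End F V, U = ρ u := ⟨_, rfl⟩
  rw [← hUdef] at hX hMU hX' hMU'
  have hUU : U * U = -1 := by rw [hUdef]; exact h.sq_of_order_four hu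
  obtain ⟨σ, hσ⟩ : ∃ σ : F, σ = -(2 : F)⁻¹ := ⟨_, rfl⟩
  rw [← hσ] at hX hMM hX' hMM'
  have hσ0 : σ ≠ 0 := by rw [hσ]; exact neg_ne_zero.mpr (inv_ne_zero h2)
  have hUM : U * M = -(M * U) := by rw [hMU, neg_neg]
  have hUM' : U * M' = -(M' * U) := by rw [hMU', neg_neg]
  have hcomm : U * (M * M') = (M * M') * U := by
    calc U * (M * M') = (U * M) * M' := (mul_assoc _ _ _).symm
      _ = -(M * (U * M')) := by rw [hUM, neg_mul, mul_assoc]
      _ = M * (M' * U) := by rw [hUM', mul_neg, neg_neg]
      _ = (M * M') * U := (mul_assoc _ _ _).symm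
  obtain ⟨l, τ, e, he0, hUe, hTe⟩ := exists_common_eigenvector U (M * M') hcomm
  have hTe' : M (M' e) = τ • e := hTe
  have hMMe : ∀ z : V, M (M z) = σ • z := by
    intro z
    have := LinearMap.congr_fun hMM z
    simpa only [Module.End.mul_apply, LinearMap.smul_apply, Module.End.one_apply] using this
  have hMMe' : ∀ z : V, M' (M' z) = σ • z := by
    intro z
    have := LinearMap.congr_fun hMM' z
    simpa only [Module.End.mul_apply, LinearMap.smul_apply, Module.End.one_apply] using this
  have hMUz : ∀ z : V, M (U z) = -(U (M z)) := by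
    intro z
    have := LinearMap.congr_fun hMU z
    simpa only [Module.End.mul_apply, LinearMap.neg_apply] using this
  have hll : l * l = -1 := by
    have h1 := LinearMap.congr_fun hUU e
    simp only [Module.End.mul_apply, hUe, map_smul, LinearMap.neg_apply,
      Module.End.one_apply] at h1
    have h4 : (l * l + 1) • e = 0 := by
      rw [add_smul, one_smul, mul_smul, h1, neg_add_cancel]
    rcases smul_eq_zero.mp h4 with h5 | h5
    · exact eq_neg_of_add_eq_zero_left h5
    · exact absurd h5 he0
  have hl0 : l ≠ 0 := by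
    intro h0; rw [h0, mul_zero] at hll
    exact one_ne_zero (neg_eq_zero.mp hll.symm)
  -- τ ≠ 0
  have hτ0 : τ ≠ 0 := by
    intro h0
    rw [h0, zero_smul] at hTe'
    have h4 : σ • M' e = 0 := by rw [← hMMe, hTe', map_zero]
    have h5 : M' e = 0 := (smul_eq_zero.mp h4).resolve_left hσ0
    have h6 : σ • e = 0 := by rw [← hMMe', h5, map_zero]
    exact he0 ((smul_eq_zero.mp h6).resolve_left hσ0)
  obtain ⟨f, hf⟩ : ∃ f : V, f = M e := ⟨_, rfl⟩
  have hMf : M f = σ • e := by rw [hf, hMMe]
  have hUf : U f = (-l) • f := by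
    rw [hf, neg_smul, ← map_smul, ← hUe, hMUz, neg_neg]
  have hM'e : M' e = (τ / σ) • f := by
    have h4 : σ • M' e = τ • f := by rw [← hMMe, hTe', map_smul, hf]
    calc M' e = σ⁻¹ • (σ • M' e) := by rw [smul_smul, inv_mul_cancel₀ hσ0, one_smul]
      _ = (τ / σ) • f := by rw [h4, smul_smul]; congr 1; field_simp
  have hM'f : M' f = (σ * σ / τ) • e := by
    have h4 : f = (σ / τ) • M' e := by
      rw [hM'e, smul_smul]
      have : σ / τ * (τ / σ) = 1 := by field_simp
      rw [this, one_smul]
    rw [h4, map_smul, hMMe', smul_smul]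
    congr 1
    field_simp
  have hf0 : f ≠ 0 := by
    intro h0
    have : σ • e = 0 := by rw [← hMf, h0, map_zero]
    exact he0 ((smul_eq_zero.mp this).resolve_left hσ0)
  have hli : LinearIndependent F ![f, e] := by
    rw [LinearIndependent.pair_iff]
    intro s t hst
    have h4 := congrArg U hst
    rw [map_add, map_smul, map_smul, hUf, hUe, map_zero, smul_smul, smul_smul] at h4
    -- s(-l) f + t l e = 0 and s f + t e = 0
    have h5 : (l * s) • f + (l * t) • e = 0 := by
      rw [mul_smul, mul_smul, ← smul_add, hst, smul_zero]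
    have h6 : ((2 : F) * l * t) • e = 0 := by
      have : ((2 : F) * l * t) • e = ((s * -l) • f + (t * l) • e) + ((l * s) • f + (l * t) • e) := by
        module
      rw [this, h4, h5, add_zero]
    have ht : t = 0 := by
      rcases smul_eq_zero.mp h6 with h7 | h7
      · rcases mul_eq_zero.mp h7 with h8 | h8
        · rcases mul_eq_zero.mp h8 with h9 | h9
          · exact absurd h9 h2
          · exact absurd h9 hl0
        · exact h8
      · exact absurd h7 he0
    rw [ht, zero_smul, add_zero] at hst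
    exact ⟨(smul_eq_zero.mp hst).resolve_right hf0, ht⟩
  have hσβ : ∀ b : F, b * b = (4 : F)⁻¹ → (σ - b * l) * (σ + b * l) - σ = 1 := by
    intro b hb
    have h44 : (4 : F)⁻¹ + (4 : F)⁻¹ = (2 : F)⁻¹ := by
      rw [show (4 : F) = 2 * 2 by norm_num, mul_inv, ← mul_add]
      rw [← two_mul, mul_inv_cancel₀ h2, mul_one]
    have hσσ : σ * σ = (4 : F)⁻¹ := by
      rw [hσ, neg_mul_neg, ← mul_inv]; norm_num
    have hhalf : (2 : F)⁻¹ + (2 : F)⁻¹ = 1 := by rw [← two_mul, mul_inv_cancel₀ h2]
    calc (σ - b * l) * (σ + b * l) - σ = σ * σ - (b * b) * (l * l) - σ := by ring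
      _ = (4 : F)⁻¹ + (4 : F)⁻¹ + (2 : F)⁻¹ := by rw [hσσ, hb, hll, hσ]; ring
      _ = 1 := by rw [h44, hhalf]
  apply emb_of_plane h _ ![f, e] hli
  intro s hs
  rcases hs with rfl | rfl | hs
  · -- u
    refine ⟨!![-l, 0; 0, l], ?_, ?_⟩
    · refine isMat_of (b := ![f, e]) ?_ ?_
      · show ρ s f = (-l) • f + (0 : F) • e
        rw [zero_smul, add_zero, ← hUdef, hUf]
      · show ρ s e = (0 : F) • f + l • e
        rw [zero_smul, zero_add, ← hUdef, hUe]
    · rw [Matrix.det_fin_two_of]
      linear_combination (-1 : F) * hll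
  · -- x
    refine ⟨!![σ - β * l, 1; σ, σ + β * l], ?_, ?_⟩
    · refine isMat_of (b := ![f, e]) ?_ ?_
      · show ρ s f = (σ - β * l) • f + σ • e
        rw [hX]
        simp only [LinearMap.add_apply, LinearMap.smul_apply, Module.End.one_apply, hUf, hMf]
        module
      · show ρ s e = (1 : F) • f + (σ + β * l) • e
        rw [hX]
        simp only [LinearMap.add_apply, LinearMap.smul_apply, Module.End.one_apply, hUe, ← hf]
        module
    · rw [Matrix.det_fin_two_of]
      linear_combination hσβ β hβ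
  · rw [Set.mem_singleton_iff] at hs
    subst hs
    refine ⟨!![σ - β' * l, τ / σ; σ * σ / τ, σ + β' * l], ?_, ?_⟩
    · refine isMat_of (b := ![f, e]) ?_ ?_
      · show ρ s f = (σ - β' * l) • f + (σ * σ / τ) • e
        rw [hX']
        simp only [LinearMap.add_apply, LinearMap.smul_apply, Module.End.one_apply, hUf, hM'f]
        module
      · show ρ s e = (τ / σ) • f + (σ + β' * l) • e
        rw [hX']
        simp only [LinearMap.add_apply, LinearMap.smul_apply, Module.End.one_apply, hUe, hM'e]
        module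
    · rw [Matrix.det_fin_two_of]
      have : τ / σ * (σ * σ / τ) = σ := by field_simp
      linear_combination hσβ β' hβ' - this

end lemmaMplus

end Cfsg.Agent.Lib.Helper9.Zfc
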