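import Mathlib
import Cfsg.Agent.Lib.Helper5.MobA5
import Cfsg.Agent.Lib.Helper5.MobPoly
import Cfsg.Agent.Lib.Helper5.MobWild1

set_option autoImplicit false
set_option linter.unusedSectionVars false
set_option linter.unusedVariables false
set_option linter.style.longLine false
set_option linter.unusedSimpArgs false

set_option maxHeartbeats 1600000
namespace Cfsg.Agent.Lib.Helper9.Zfc

open Cfsg.Agent.Lib.Helper5.Mob Cfsg.Agent.Lib.Helper5.MobWild
open scoped MatrixGroups LinearAlgebra.Projectivization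

/-- in a Moebius-like action of a group of order prime to `p`, all stabilisers are tame -/
theorem qq_eq_one_of_not_dvd {G X A : Type*} [Group G] [MulAction G X] [CommGroup A] {p : ℕ}
    [Fact p.Prime] (M : IsMob G X A p) [Finite G] (hp : ¬ p ∣ Nat.card G) (x : X) :
    M.qq x = 1 := by
  show Nat.card (M.Q x) = 1
  rw [Subgroup.card_eq_one, Subgroup.eq_bot_iff_forall]
  intro g hg
  have hs : g ∈ MulAction.stabilizer G x := M.Q_le x hg
  have hk : M.chi x ⟨g, hs⟩ = 1 := by
    rw [M.chi_eq_one_iff]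
    rcases (M.mem_Q x g).mp hg with h | h
    · left; exact Subtype.ext h
    · right; exact h
  have hpow := M.pow_eq_one_of_chi x ⟨g, hs⟩ hk
  have hgp : g ^ p = 1 := by simpa using congrArg Subtype.val hpow
  have h1 : orderOf g ∣ p := orderOf_dvd_of_pow_eq_one hgp
  have h2 : orderOf g ∣ Nat.card G := orderOf_dvd_natCard g
  have hcop : Nat.Coprime p (Nat.card G) :=
    (Nat.Prime.coprime_iff_not_dvd (Fact.out : p.Prime)).mpr hp
  have h3 : orderOf g = 1 := Nat.eq_one_of_dvd_coprimes hcop h1 h2
  exact orderOf_eq_one_iff.mp h3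

/-- **Dickson, tame case**: a finite subgroup of `PGL₂(E)`, `E` algebraically closed of
characteristic `p`, of order prime to `p`, is cyclic, dihedral, `A₄`, `S₄` or `A₅`. -/
theorem tame_pgl {E : Type*} [Field E] [IsAlgClosed E] (p : ℕ) [Fact p.Prime] [CharP E p]
    (H : Subgroup PGL(Fin 2, E)) [Finite H] (hp : ¬ p ∣ Nat.card H) :
    IsCyclic H ∨ (∃ k : ℕ, Nonempty (H ≃* DihedralGroup k)) ∨
      Nonempty (H ≃* alternatingGroup (Fin 4)) ∨ Nonempty (H ≃* Equiv.Perm (Fin 4)) ∨
      Nonempty (H ≃* alternatingGroup (Fin 5)) := by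
  have M := subMob H p
  by_cases h2 : 2 ≤ Nat.card H
  · rcases M.cases h2 with ⟨x, hx⟩ | ⟨x, hn, hq⟩ | h | h | h | h | h
    · left
      have hq := qq_eq_one_of_not_dvd M hp x
      have hc := M.isCyclic_stabilizer x hq
      have htop : MulAction.stabilizer H x = ⊤ := eq_top_iff.mpr (fun g _ => hx g)
      have e : MulAction.stabilizer H x ≃* H :=
        (MulEquiv.subgroupCongr htop).trans Subgroup.topEquiv
      exact isCyclic_of_surjective e.toMonoidHom e.surjective
    · right; left
      obtain ⟨n, a, -, -, e⟩ := M.dihedral x hn hq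
      exact ⟨n, e⟩
    · right; right; left; exact M.tetrahedral h
    · right; right; right; left; exact M.octahedral h
    · right; right; right; right; exact M.icosahedral_tame h
    · exfalso
      obtain ⟨x0, x1, h3, -⟩ := h
      have := qq_eq_one_of_not_dvd M hp x0
      omega
    · exfalso
      obtain ⟨x0, x1, -, h3, -⟩ := h
      have := qq_eq_one_of_not_dvd M hp x0
      omega
  · left
    have h1 : Nat.card H = 1 := by
      have := Nat.card_pos (α := H)
      omega
    have : Subsingleton H := (Nat.card_eq_one_iff_unique.mp h1).1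
    infer_instance

/-- the centre of `SL₂(F)` is `{1, -1}` -/
theorem mem_center_SL2_iff {F : Type*} [Field F] (A : Matrix.SpecialLinearGroup (Fin 2) F) :
    A ∈ Subgroup.center (Matrix.SpecialLinearGroup (Fin 2) F) ↔ A = 1 ∨ A = -1 := by
  rw [Matrix.SpecialLinearGroup.mem_center_iff]
  constructor
  · rintro ⟨r, hr, h⟩
    rw [Fintype.card_fin, pow_two] at hr
    rcases mul_self_eq_one_iff.mp hr with h1 | h1
    · left
      apply Subtype.ext
      rw [← h, h1]
      simp
    · right
      apply Subtype.ext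
      rw [← h, h1]
      ext i j
      fin_cases i <;> fin_cases j <;> simp
  · rintro (h | h)
    · exact ⟨1, by simp, by rw [h]; simp⟩
    · refine ⟨-1, by simp, ?_⟩
      rw [h]
      ext i j
      fin_cases i <;> fin_cases j <;> simp

/-- **Dickson, tame case, for `SL₂`**: if `J` embeds in `SL₂(F)`, `F` algebraically closed of
characteristic `r ∤ |J|`, and `q : J → Jb` is a surjection whose kernel is the preimage of `{±1}`,
then `Jb` is cyclic, dihedral, `A₄`, `S₄` or `A₅`. -/
theorem tame_dickson' {F : Type*} [Field F] [IsAlgClosed F] {J Jb : Type*} [Group J] [Finite J]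
    [Group Jb] (r : ℕ) [Fact r.Prime] [CharP F r] (hr : ¬ r ∣ Nat.card J)
    (f : J →* Matrix.SpecialLinearGroup (Fin 2) F) (hf : Function.Injective f)
    (q : J →* Jb) (hq : Function.Surjective q)
    (hker : ∀ g, q g = 1 ↔ (f g = 1 ∨ f g = -1)) :
    IsCyclic Jb ∨ (∃ k : ℕ, Nonempty (Jb ≃* DihedralGroup k)) ∨
      Nonempty (Jb ≃* alternatingGroup (Fin 4)) ∨ Nonempty (Jb ≃* Equiv.Perm (Fin 4)) ∨
      Nonempty (Jb ≃* alternatingGroup (Fin 5)) := by
  set π : J →* PGL(Fin 2, F) := Matrix.SpecialLinearGroup.toPGL.comp f with hπ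
  have hkk : q.ker = π.ker := by
    ext g
    have h1 : π g = 1 ↔ f g ∈ (Matrix.SpecialLinearGroup.toPGL (n := Fin 2) (R := F)).ker := by
      rw [MonoidHom.mem_ker]; rfl
    rw [MonoidHom.mem_ker, MonoidHom.mem_ker, hker, h1,
      Matrix.SpecialLinearGroup.toPGL_ker, mem_center_SL2_iff]
  have e : Jb ≃* π.range :=
    (QuotientGroup.quotientKerEquivOfSurjective q hq).symm.trans
      ((QuotientGroup.quotientMulEquivOfEq hkk).trans (QuotientGroup.quotientKerEquivRange π))
  have : Finite π.range := Finite.of_surjective π.rangeRestrict π.rangeRestrict_surjective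
  have hcard : Nat.card π.range ∣ Nat.card J := by
    have := Subgroup.card_range_dvd π
    exact this
  have hr' : ¬ r ∣ Nat.card π.range := fun h => hr (h.trans hcard)
  rcases tame_pgl r π.range hr' with h | ⟨k, ⟨e'⟩⟩ | h | h | h
  · left
    exact isCyclic_of_surjective e.symm.toMonoidHom e.symm.surjective
  · right; left; exact ⟨k, ⟨e.trans e'⟩⟩
  · right; right; left; obtain ⟨e'⟩ := h; exact ⟨e.trans e'⟩
  · right; right; right; left; obtain ⟨e'⟩ := h; exact ⟨e.trans e'⟩
  · right; right; right; right; obtain ⟨e'⟩ := h; exact ⟨e.trans e'⟩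

/-- the same with the canonical quotient -/
theorem tame_dickson {F : Type*} [Field F] [IsAlgClosed F] {J : Type*} [Group J] [Finite J]
    (r : ℕ) [Fact r.Prime] [CharP F r] (hr : ¬ r ∣ Nat.card J)
    (f : J →* Matrix.SpecialLinearGroup (Fin 2) F) (hf : Function.Injective f)
    (N : Subgroup J) [N.Normal] (hN : ∀ g, g ∈ N ↔ (f g = 1 ∨ f g = -1)) :
    IsCyclic (J ⧸ N) ∨ (∃ k : ℕ, Nonempty (J ⧸ N ≃* DihedralGroup k)) ∨
      Nonempty (J ⧸ N ≃* alternatingGroup (Fin 4)) ∨ Nonempty (J ⧸ N ≃* Equiv.Perm (Fin 4)) ∨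
      Nonempty (J ⧸ N ≃* alternatingGroup (Fin 5)) :=
  tame_dickson' r hr f hf (QuotientGroup.mk' N) (QuotientGroup.mk'_surjective N)
    (fun g => by rw [← hN]; exact QuotientGroup.eq_one_iff g)

end Cfsg.Agent.Lib.Helper9.Zfc
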