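import Mathlib
import Cfsg.Agent.Lib.Helper2.P3TDefs

/-!
# S2459 pieces A5b, A5c: triangular matrices with eigenvalues `1, l, l⁻¹` are `SL_3`-conjugate to `Dm l`
-/

set_option autoImplicit false
set_option linter.unusedVariables false
set_option linter.unusedSectionVars false
set_option linter.style.longLine false
set_option linter.style.haveILetI false

namespace Cfsg.Agent.Lib.Helper2.P3T

open Matrix Module

universe u v

section partA
variable {K : Type v} [Field K]

/-- A5b -/
theorem lower_conj (l : K) (hl0 : l ≠ 0) (hl : l ^ 2 ≠ 1) (a b c : K) :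
    ∃ N : Matrix.SpecialLinearGroup (Fin 3) K,
      (!![1, 0, 0; a, 1, 0; b, c, 1] * Dm l) * (N : Matrix (Fin 3) (Fin 3) K) = (N : Matrix (Fin 3) (Fin 3) K) * Dm l := by
  have h1 : (1 : K) - l ≠ 0 := by
    intro h
    apply hl
    have : l = 1 := by linear_combination -h
    rw [this]; ring
  have h2 : (1 : K) - l⁻¹ ≠ 0 := by
    intro h
    apply h1
    have h3 : l⁻¹ = 1 := by linear_combination -h
    have h4 : l = 1 := by
      have := congrArg (fun t => t * l) h3
      simp only [inv_mul_cancel₀ hl0, one_mul] at this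
      exact this.symm
    rw [h4]; ring
  have h3 : l - l⁻¹ ≠ 0 := by
    intro h
    apply hl
    have h4 : l = l⁻¹ := by linear_combination h
    calc l ^ 2 = l * l := by ring
      _ = l * l⁻¹ := by rw [← h4]
      _ = 1 := mul_inv_cancel₀ hl0
  set n1 : K := a / (1 - l) with hn1
  set n3 : K := c * l / (l - l⁻¹) with hn3
  set n2 : K := (b + c * l * n1) / (1 - l⁻¹) with hn2
  have e1 : n1 * (1 - l) = a := by rw [hn1, div_mul_cancel₀ _ h1]
  have e3 : n3 * (l - l⁻¹) = c * l := by rw [hn3, div_mul_cancel₀ _ h3]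
  have e2 : n2 * (1 - l⁻¹) = b + c * l * n1 := by rw [hn2, div_mul_cancel₀ _ h2]
  have hdet : (!![1, 0, 0; n1, 1, 0; n2, n3, 1] : Matrix (Fin 3) (Fin 3) K).det = 1 := by
    simp [Matrix.det_fin_three]
  refine ⟨⟨!![1, 0, 0; n1, 1, 0; n2, n3, 1], hdet⟩, ?_⟩
  show (!![1, 0, 0; a, 1, 0; b, c, 1] * Dm l) * !![1, 0, 0; n1, 1, 0; n2, n3, 1] =
    !![1, 0, 0; n1, 1, 0; n2, n3, 1] * Dm l
  unfold Dm
  ext i j
  fin_cases i <;> fin_cases j <;>
    simp [Matrix.mul_apply, Fin.sum_univ_three]
  · linear_combination -e1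
  · linear_combination -e2
  · linear_combination -e3

/-- A5c -/
theorem upper_conj (l : K) (hl0 : l ≠ 0) (hl : l ^ 2 ≠ 1) (a b c : K) :
    ∃ N : Matrix.SpecialLinearGroup (Fin 3) K,
      (!![1, 0, 0; 0, l⁻¹, 0; 0, 0, l] * !![1, a, b; 0, 1, c; 0, 0, 1]) * (N : Matrix (Fin 3) (Fin 3) K) =
        (N : Matrix (Fin 3) (Fin 3) K) * Dm l := by
  have h1 : l - 1 ≠ 0 := by
    intro h
    apply hl
    have : l = 1 := by linear_combination h
    rw [this]; ring
  have h2 : l⁻¹ - 1 ≠ 0 := by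
    intro h
    apply h1
    have h3 : l⁻¹ = 1 := by linear_combination h
    have h4 : l = 1 := by
      have := congrArg (fun t => t * l) h3
      simp only [inv_mul_cancel₀ hl0, one_mul] at this
      exact this.symm
    rw [h4]; ring
  have h3 : l - l⁻¹ ≠ 0 := by
    intro h
    apply hl
    have h4 : l = l⁻¹ := by linear_combination h
    calc l ^ 2 = l * l := by ring
      _ = l * l⁻¹ := by rw [← h4]
      _ = 1 := mul_inv_cancel₀ hl0
  set m : K := l⁻¹ with hm
  set q : K := m * c / (l - m) with hq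
  set p : K := (a * q + b) / (l - 1) with hp
  set r : K := a / (m - 1) with hr
  have eq : q * (l - m) = m * c := by rw [hq, div_mul_cancel₀ _ h3]
  have ep : p * (l - 1) = a * q + b := by rw [hp, div_mul_cancel₀ _ h1]
  have er : r * (m - 1) = a := by rw [hr, div_mul_cancel₀ _ h2]
  have hdet : (!![1, -p, r; 0, -q, 1; 0, -1, 0] : Matrix (Fin 3) (Fin 3) K).det = 1 := by
    simp [Matrix.det_fin_three]
  refine ⟨⟨!![1, -p, r; 0, -q, 1; 0, -1, 0], hdet⟩, ?_⟩
  show (!![1, 0, 0; 0, m, 0; 0, 0, l] * !![1, a, b; 0, 1, c; 0, 0, 1]) * !![1, -p, r; 0, -q, 1; 0, -1, 0] =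
    !![1, -p, r; 0, -q, 1; 0, -1, 0] * Dm l
  unfold Dm
  ext i j
  fin_cases i <;> fin_cases j <;>
    simp [Matrix.mul_apply, Fin.sum_univ_three]
  · linear_combination ep
  · rw [← hm]; linear_combination -er
  · linear_combination eq
  · exact hm

end partA

end Cfsg.Agent.Lib.Helper2.P3T
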