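import Mathlib
import Cfsg.Agent.Lib.Helper2.P3TDefs

/-!
# S2459 pieces S1b, S1 (canonical copy; Helper4.P3TCyclic has h4dup_ names): a non-scalar endomorphism of a 3-dimensional space has a cyclic vector
or is a scalar plus a rank-one map
-/

set_option autoImplicit false
set_option linter.unusedVariables false
set_option linter.unusedSectionVars false
set_option linter.style.longLine false
set_option linter.style.haveILetI false

namespace Cfsg.Agent.Lib.Helper2.P3T

open Matrix Module

universe u v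

section partB
variable {K : Type v} [Field K] {V : Type u} [AddCommGroup V] [Module K V]

/-- S1b -/
theorem scalar_of_three_eig (g : Module.End K V) (u0 l : V) (c : K) (hc0 : c ≠ 0) (hc1 : c ≠ 1)
    (hli : LinearIndependent K ![u0, l]) (μ0 μ1 μc : K) (h0 : g u0 = μ0 • u0)
    (h1 : g (u0 + l) = μ1 • (u0 + l)) (hc : g (u0 + c • l) = μc • (u0 + c • l)) :
    g u0 = μ1 • u0 ∧ g l = μ1 • l := by
  rw [map_add, h0] at h1
  rw [map_add, map_smul, h0] at hc
  -- `g l = (μ1 - μ0) • u0 + μ1 • l`
  have hgl : g l = (μ1 - μ0) • u0 + μ1 • l := by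
    have : g l = μ1 • (u0 + l) - μ0 • u0 := by rw [← h1]; abel
    rw [this]; module
  rw [hgl] at hc
  have hrel : (c * (μ1 - μ0) - (μc - μ0)) • u0 + (c * μ1 - c * μc) • l = 0 := by
    have : (c * (μ1 - μ0) - (μc - μ0)) • u0 + (c * μ1 - c * μc) • l =
        (μ0 • u0 + c • ((μ1 - μ0) • u0 + μ1 • l)) - μc • (u0 + c • l) := by module
    rw [this, hc, sub_self]
  obtain ⟨e1, e2⟩ := LinearIndependent.pair_iff.mp hli _ _ hrel
  have hμ : μ1 = μc := by
    have : c * (μ1 - μc) = 0 := by linear_combination e2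
    rcases mul_eq_zero.mp this with h | h
    · exact absurd h hc0
    · linear_combination h
  have hμ0 : μ1 = μ0 := by
    have : (c - 1) * (μ1 - μ0) = 0 := by rw [← hμ] at e1; linear_combination e1
    rcases mul_eq_zero.mp this with h | h
    · exact absurd (by linear_combination h) hc1
    · linear_combination h
  refine ⟨by rw [h0, hμ0], ?_⟩
  rw [hgl, hμ0, sub_self, zero_smul, zero_add]

theorem h9_pair_of_not_li_three (a b c : V) (h2 : LinearIndependent K ![a, b])
    (h3 : ¬ LinearIndependent K ![a, b, c]) : ∃ s t : K, c = s • a + t • b := by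
  by_contra hne
  push Not at hne
  apply h3
  rw [Fintype.linearIndependent_iff]
  intro cf hcf
  rw [Fin.sum_univ_three] at hcf
  simp only [Matrix.cons_val_zero, Matrix.cons_val_one, Matrix.cons_val_two, Matrix.head_cons,
    Matrix.tail_cons] at hcf
  have hc2 : cf 2 = 0 := by
    by_contra hz
    apply hne (-(cf 0) / cf 2) (-(cf 1) / cf 2)
    have h1 : cf 2 • c = -(cf 0 • a + cf 1 • b) := by
      rw [eq_neg_iff_add_eq_zero, ← hcf]; abel
    have h2' : c = (cf 2)⁻¹ • (cf 2 • c) := by rw [smul_smul, inv_mul_cancel₀ hz, one_smul]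
    rw [h2', h1]; module
  rw [hc2, zero_smul, add_zero] at hcf
  obtain ⟨e0, e1⟩ := LinearIndependent.pair_iff.mp h2 (cf 0) (cf 1) hcf
  intro i
  fin_cases i
  · exact e0
  · exact e1
  · exact hc2

theorem h9_mem_pair_of_finrank_two [FiniteDimensional K V] (U : Submodule K V)
    (hU : Module.finrank K U = 2) (a b : V) (ha : a ∈ U) (hb : b ∈ U)
    (hli : LinearIndependent K ![a, b]) (x : V) (hx : x ∈ U) :
    ∃ s t : K, x = s • a + t • b := by
  have hspan : Submodule.span K (Set.range ![a, b]) = U := by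
    apply Submodule.eq_of_le_of_finrank_eq
    · rw [Submodule.span_le]
      rintro _ ⟨i, rfl⟩
      fin_cases i
      · exact ha
      · exact hb
    · rw [finrank_span_eq_card hli, hU]; simp
  rw [← hspan] at hx
  have hr : Set.range ![a, b] = {a, b} := by
    ext y; simp [Matrix.range_cons, eq_comm, or_comm]
  rw [hr, Submodule.mem_span_pair] at hx
  obtain ⟨s, t, rfl⟩ := hx
  exact ⟨s, t, rfl⟩

theorem h9_dep_of_noncyclic (g : Module.End K V) (ω : Module.Dual K V) (α0 : K)
    (hω : ∀ v, ω (g v) = α0 * ω v) (v : V) (hv : ω v ≠ 0)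
    (hnc : ¬ LinearIndependent K ![v, g v, g (g v)]) :
    ¬ LinearIndependent K ![g v - α0 • v, g (g v - α0 • v)] := by
  intro hli
  apply hnc
  obtain ⟨u, hu⟩ : ∃ u, u = g v - α0 • v := ⟨_, rfl⟩
  rw [← hu] at hli
  have hgv : g v = α0 • v + u := by rw [hu]; abel
  have hωu : ω u = 0 := by rw [hu, map_sub, map_smul, hω, smul_eq_mul, sub_self]
  have hωgu : ω (g u) = 0 := by rw [hω, hωu, mul_zero]
  have hggv : g (g v) = α0 • (α0 • v + u) + g u := by
    have : g (g v) = g (α0 • v + u) := by rw [← hgv]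
    rw [this, map_add, map_smul, hgv]
  rw [Fintype.linearIndependent_iff]
  intro cf hcf
  rw [Fin.sum_univ_three] at hcf
  simp only [Matrix.cons_val_zero, Matrix.cons_val_one, Matrix.cons_val_two, Matrix.head_cons,
    Matrix.tail_cons] at hcf
  have key : cf 0 • v + cf 1 • g v + cf 2 • g (g v) =
      (cf 0 + cf 1 * α0 + cf 2 * α0 ^ 2) • v + ((cf 1 + cf 2 * α0) • u + cf 2 • g u) := by
    rw [hggv, hgv]; module
  rw [key] at hcf
  have hA : cf 0 + cf 1 * α0 + cf 2 * α0 ^ 2 = 0 := by
    have h1 := congrArg ω hcf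
    rw [map_add, map_add, map_smul, map_smul, map_smul, hωu, hωgu, map_zero] at h1
    simp only [smul_eq_mul, mul_zero, add_zero] at h1
    rcases mul_eq_zero.mp h1 with h | h
    · exact h
    · exact absurd h hv
  rw [hA, zero_smul, zero_add] at hcf
  obtain ⟨e1, e2⟩ := LinearIndependent.pair_iff.mp hli _ _ hcf
  have hc1 : cf 1 = 0 := by rw [e2] at e1; linear_combination e1
  have hc0 : cf 0 = 0 := by rw [hc1, e2] at hA; linear_combination hA
  intro i
  fin_cases i
  · exact hc0
  · exact hc1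
  · exact e2

/-- S1 -/
theorem cyclic_or_rank_one [FiniteDimensional K V] (h3 : Module.finrank K V = 3)
    (hK : ∃ c : K, c ≠ 0 ∧ c ≠ 1) (g : Module.End K V) (hg : ∀ a : K, g ≠ a • (1 : Module.End K V)) :
    (∃ e : V, LinearIndependent K ![e, g e, g (g e)]) ∨
      ∃ (a : K) (α : Module.Dual K V) (x : V), g = a • (1 : Module.End K V) + LinearMap.smulRight α x := by
  by_contra hcon
  push Not at hcon
  obtain ⟨hNC, hNR⟩ := hcon
  obtain ⟨c, hc0, hc1⟩ := hK
  -- Step 1: a vector `e1` with `(e1, g e1)` independent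
  obtain ⟨e1, he1⟩ : ∃ e1, LinearIndependent K ![e1, g e1] := by
    by_contra h
    push Not at h
    obtain ⟨a, ha⟩ := LinearMap.exists_eq_smul_id_of_forall_notLinearIndependent h
    exact hg a ha
  obtain ⟨e2, he2⟩ : ∃ e2, e2 = g e1 := ⟨_, rfl⟩
  rw [← he2] at he1
  obtain ⟨s0, t0, hge2⟩ : ∃ s t : K, g e2 = s • e1 + t • e2 := by
    have := hNC e1
    rw [← he2] at this
    exact h9_pair_of_not_li_three e1 e2 (g e2) he1 this
  -- the plane `W` and the functional `ω`
  have hWfin : Module.finrank K (Submodule.span K (Set.range ![e1, e2])) = 2 := by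
    rw [finrank_span_eq_card he1]; simp
  have hWlt : Submodule.span K (Set.range ![e1, e2]) < ⊤ := by
    rw [lt_top_iff_ne_top]
    intro h
    rw [h, finrank_top, h3] at hWfin
    omega
  obtain ⟨ω, hω0, hWω⟩ := Submodule.exists_le_ker_of_lt_top _ hWlt
  have hωe1 : ω e1 = 0 := by
    have : e1 ∈ LinearMap.ker ω := hWω (Submodule.subset_span ⟨0, rfl⟩)
    exact this
  have hωe2 : ω e2 = 0 := by
    have : e2 ∈ LinearMap.ker ω := hWω (Submodule.subset_span ⟨1, rfl⟩)
    exact this
  have hkerfin : Module.finrank K (LinearMap.ker ω) = 2 := by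
    have := Module.Dual.finrank_ker_add_one_of_ne_zero hω0
    omega
  -- every element of `ker ω` is a combination of `e1, e2`
  have hker12 : ∀ x, ω x = 0 → ∃ s t : K, x = s • e1 + t • e2 := fun x hx =>
    h9_mem_pair_of_finrank_two (LinearMap.ker ω) hkerfin e1 e2 hωe1 hωe2 he1 x hx
  have hinv : ∀ x, ω x = 0 → ω (g x) = 0 := by
    intro x hx
    obtain ⟨s, t, rfl⟩ := hker12 x hx
    rw [map_add, map_smul, map_smul, ← he2, hge2]
    simp [hωe1, hωe2]
  -- a vector `w` with `ω w = 1`
  obtain ⟨w, hw⟩ : ∃ w, ω w = 1 := by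
    have : ∃ w0, ω w0 ≠ 0 := by
      by_contra h
      push Not at h
      apply hω0
      ext v
      simpa using h v
    obtain ⟨w0, hw0⟩ := this
    refine ⟨(ω w0)⁻¹ • w0, ?_⟩
    rw [map_smul, smul_eq_mul, inv_mul_cancel₀ hw0]
  obtain ⟨α0, hα0⟩ : ∃ α0, α0 = ω (g w) := ⟨_, rfl⟩
  have hωg : ∀ v, ω (g v) = α0 * ω v := by
    intro v
    have h1 : ω (v - ω v • w) = 0 := by rw [map_sub, map_smul, hw, smul_eq_mul, mul_one, sub_self]
    have h2 := hinv _ h1
    rw [map_sub, map_smul, map_sub, map_smul, ← hα0, smul_eq_mul] at h2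
    linear_combination h2
  -- the map `N = g - α0`
  obtain ⟨N, hN⟩ : ∃ N : Module.End K V, ∀ v, N v = g v - α0 • v :=
    ⟨g - α0 • (1 : Module.End K V), fun v => by simp⟩
  have hωN : ∀ v, ω (N v) = 0 := by
    intro v
    rw [hN, map_sub, map_smul, hωg, smul_eq_mul, sub_self]
  have hP : ∀ v, ω v ≠ 0 → ¬ LinearIndependent K ![N v, g (N v)] := by
    intro v hv
    rw [hN]
    exact h9_dep_of_noncyclic g ω α0 hωg v hv (hNC v)
  have hNe1 : N e1 ≠ 0 := by
    intro h
    rw [hN, ← he2] at h
    have h1 : (-α0) • e1 + (1 : K) • e2 = 0 := by rw [← h]; module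
    have := (LinearIndependent.pair_iff.mp he1 _ _ h1).2
    exact one_ne_zero this
  by_cases hB : ∃ k, ω k = 0 ∧ k ≠ 0 ∧ N k = 0
  · -- Case B
    obtain ⟨k, hωk, hk0, hNk⟩ := hB
    obtain ⟨s1, t1, hk⟩ := hker12 k hωk
    have ht1 : t1 ≠ 0 := by
      intro ht
      rw [ht, zero_smul, add_zero] at hk
      rw [hk, map_smul] at hNk
      rcases smul_eq_zero.mp hNk with h | h
      · apply hk0; rw [hk, h, zero_smul]
      · exact hNe1 h
    obtain ⟨l, hl⟩ : ∃ l, l = N e1 := ⟨_, rfl⟩
    have hl0 : l ≠ 0 := by rw [hl]; exact hNe1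
    have hωl : ω l = 0 := by rw [hl]; exact hωN e1
    have hNe2 : N e2 = (-(s1 / t1)) • l := by
      rw [hk, map_add, map_smul, map_smul, ← hl] at hNk
      have h1 : t1 • N e2 = -(s1 • l) := by
        rw [eq_neg_iff_add_eq_zero, ← hNk]; abel
      have h2 : N e2 = t1⁻¹ • (t1 • N e2) := by rw [smul_smul, inv_mul_cancel₀ ht1, one_smul]
      rw [h2, h1]; module
    have hkerN : ∀ x, ω x = 0 → ∃ r : K, N x = r • l := by
      intro x hx
      obtain ⟨a, b, rfl⟩ := hker12 x hx
      refine ⟨a + b * (-(s1 / t1)), ?_⟩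
      rw [map_add, map_smul, map_smul, ← hl, hNe2]; module
    by_cases hB1 : ∃ r : K, N w = r • l
    · -- B1 : rank-one form
      obtain ⟨r0, hr0⟩ := hB1
      have hall : ∀ v, ∃ r : K, N v = r • l := by
        intro v
        have h1 : ω (v - ω v • w) = 0 := by rw [map_sub, map_smul, hw, smul_eq_mul, mul_one, sub_self]
        obtain ⟨r, hr⟩ := hkerN _ h1
        refine ⟨r + ω v * r0, ?_⟩
        have : N v = N (v - ω v • w) + ω v • N w := by rw [map_sub, map_smul]; abel
        rw [this, hr, hr0]; module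
      obtain ⟨φ, hφ⟩ : ∃ φ : Module.Dual K V, φ l ≠ 0 := by
        by_contra h
        push Not at h
        exact hl0 ((Module.forall_dual_apply_eq_zero_iff K l).mp h)
      apply hNR α0 ((φ l)⁻¹ • (φ ∘ₗ N)) l
      ext v
      obtain ⟨r, hr⟩ := hall v
      have h1 : (φ l)⁻¹ • (φ ∘ₗ N) v = r := by
        simp only [LinearMap.comp_apply, hr, map_smul, smul_eq_mul]
        field_simp
      simp only [LinearMap.add_apply, LinearMap.smul_apply, Module.End.one_apply,
        LinearMap.smulRight_apply]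
      rw [h1, ← hr, hN]; abel
    · -- B2
      push Not at hB1
      obtain ⟨w0, hw0⟩ : ∃ w0, w0 = N w := ⟨_, rfl⟩
      rw [← hw0] at hB1
      have hωw0 : ω w0 = 0 := by rw [hw0]; exact hωN w
      have hli : LinearIndependent K ![w0, l] := by
        rw [LinearIndependent.pair_iff]
        intro s t hst
        have hs : s = 0 := by
          by_contra hs
          apply hB1 (-(t / s))
          have h1 : s • w0 = -(t • l) := by rw [eq_neg_iff_add_eq_zero, ← hst]
          have h2 : w0 = s⁻¹ • (s • w0) := by rw [smul_smul, inv_mul_cancel₀ hs, one_smul]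
          rw [h2, h1]; module
        refine ⟨hs, ?_⟩
        rw [hs, zero_smul, zero_add] at hst
        rcases smul_eq_zero.mp hst with h | h
        · exact h
        · exact absurd h hl0
      have heig : ∀ t : K, ∃ μ : K, g (w0 + t • l) = μ • (w0 + t • l) := by
        intro t
        have hv : ω (w + t • e1) ≠ 0 := by
          rw [map_add, map_smul, hw, hωe1, smul_zero, add_zero]; exact one_ne_zero
        have hNv : N (w + t • e1) = w0 + t • l := by rw [map_add, map_smul, ← hw0, ← hl]
        have h1 := hP _ hv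
        rw [hNv] at h1
        have hne : w0 + t • l ≠ 0 := by
          intro h
          have := (LinearIndependent.pair_iff.mp hli 1 t (by rw [one_smul]; exact h)).1
          exact one_ne_zero this
        rw [LinearIndependent.pair_iff' hne] at h1
        push Not at h1
        obtain ⟨μ, hμ⟩ := h1
        exact ⟨μ, hμ.symm⟩
      obtain ⟨μ0, h0⟩ := heig 0
      obtain ⟨μ1, h1⟩ := heig 1
      obtain ⟨μc, hc⟩ := heig c
      rw [zero_smul, add_zero] at h0
      rw [one_smul] at h1
      obtain ⟨hgw0, hgl⟩   := scalar_of_three_eig g w0 l c hc0 hc1 hli μ0 μ1 μc h0 h1 hc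
      obtain ⟨a, b, hab⟩ := h9_mem_pair_of_finrank_two (LinearMap.ker ω) hkerfin w0 l hωw0 hωl hli e1 hωe1
      have hge1 : e2 = μ1 • e1 := by
        rw [he2, hab, map_add, map_smul, map_smul, hgw0, hgl]; module
      have h2 : (-μ1) • e1 + (1 : K) • e2 = 0 := by rw [hge1]; module
      have := (LinearIndependent.pair_iff.mp he1 _ _ h2).2
      exact one_ne_zero this
  · -- Case A
    push Not at hB
    have hωNe1 : ω (N e1) = 0 := hωN e1
    have hωNe2 : ω (N e2) = 0 := hωN e2
    have hliN : LinearIndependent K ![N e1, N e2] := by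
      rw [LinearIndependent.pair_iff]
      intro s t hst
      have h1 : N (s • e1 + t • e2) = 0 := by rw [map_add, map_smul, map_smul]; exact hst
      have h2 : ω (s • e1 + t • e2) = 0 := by
        rw [map_add, map_smul, map_smul, hωe1, hωe2]; simp
      have h3' : s • e1 + t • e2 = 0 := by
        by_contra hne
        exact hB _ h2 hne h1
      exact LinearIndependent.pair_iff.mp he1 s t h3'
    have hω' : ω (e1 - N w) = 0 := by rw [map_sub, hωe1, hωN, sub_zero]
    obtain ⟨a, b, hab⟩ := h9_mem_pair_of_finrank_two (LinearMap.ker ω) hkerfin (N e1) (N e2)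
      hωNe1 hωNe2 hliN (e1 - N w) hω'
    have hv : ω (w + (a • e1 + b • e2)) ≠ 0 := by
      rw [map_add, map_add, map_smul, map_smul, hw, hωe1, hωe2]; simp
    have hNv : N (w + (a • e1 + b • e2)) = e1 := by
      rw [map_add, map_add, map_smul, map_smul, ← hab]; abel
    have h1 := hP _ hv
    rw [hNv, ← he2] at h1
    exact h1 he1

end partB

end Cfsg.Agent.Lib.Helper2.P3T
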