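import Cfsg.Agent.Lib.Helper9.Hyperfocal3

set_option autoImplicit false

namespace Cfsg.Agent.Lib.Helper9

open Cfsg Cfsg.FusionSystem

variable {Ω : Type*} [Group Ω] {S : Subgroup Ω}

/-- conjugation by `x` on `T` lies in `O^p(Aut_F(T)) Inn(T)` -/
def ActsInResidual (F : FusionSystem S) (p : ℕ) (T : Subgroup Ω) (x : Ω) : Prop :=
  ∃ α ∈ ((pResidual p (F.autGroup T)).map (F.autGroup T).subtype ⊔ Inn T : Subgroup (MulAut T)),
    ∀ t : T, ((α t : T) : Ω) = x * (t : Ω) * x⁻¹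

theorem actsInResidual_one (F : FusionSystem S) (p : ℕ) (T : Subgroup Ω) :
    ActsInResidual F p T 1 :=
  ⟨1, Subgroup.one_mem _, fun t => by simp⟩

theorem actsInResidual_mul (F : FusionSystem S) (p : ℕ) (T : Subgroup Ω) {x y : Ω}
    (hx : ActsInResidual F p T x) (hy : ActsInResidual F p T y) :
    ActsInResidual F p T (x * y) := by
  obtain ⟨α, hα, hαx⟩ := hx
  obtain ⟨β, hβ, hβy⟩ := hy
  refine ⟨α * β, Subgroup.mul_mem _ hα hβ, fun t => ?_⟩
  rw [MulAut.mul_apply, hαx, hβy]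
  group

theorem inv_apply_of_conj {T : Subgroup Ω} {α : MulAut T} {x : Ω}
    (h : ∀ t : T, ((α t : T) : Ω) = x * (t : Ω) * x⁻¹) (t : T) :
    ((α⁻¹ t : T) : Ω) = x⁻¹ * (t : Ω) * x := by
  have h1 := h (α⁻¹ t)
  rw [MulAut.apply_inv_self] at h1
  rw [h1]
  group

theorem actsInResidual_inv (F : FusionSystem S) (p : ℕ) (T : Subgroup Ω) {x : Ω}
    (hx : ActsInResidual F p T x) : ActsInResidual F p T x⁻¹ := by
  obtain ⟨α, hα, hαx⟩ := hx
  refine ⟨α⁻¹, Subgroup.inv_mem _ hα, fun t => ?_⟩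
  rw [inv_apply_of_conj hαx, inv_inv]

/-- conjugation by an element of `S` as an element of `Aut_F(T)` -/
theorem exists_conj_aut [Finite S] (F : FusionSystem S) {T : Subgroup Ω} (hT : F.StronglyClosed T)
    {s : Ω} (hs : s ∈ S) :
    ∃ c ∈ F.autGroup T, ∀ t : T, ((c t : T) : Ω) = s * (t : Ω) * s⁻¹ := by
  have h1 : conjHom T s ∈ F.Hom T := F.conj_mem hT.1 hs
  have h2 : ∀ t, conjHom T s t ∈ T := fun t => conj_mem_of_stronglyClosed F hT hs t.2
  obtain ⟨c, hc, hceq⟩ := exists_aut_of_hom F h1 (range_eq_of_forall_mem F h1 h2)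
  exact ⟨c, hc, fun t => hceq t⟩

theorem actsInResidual_gen [Finite S] {p : ℕ} [Fact p.Prime] (hS : IsPGroup p S)
    (F : FusionSystem S) (hF : F.IsSaturated p) {T : Subgroup Ω} (hT : F.StronglyClosed T)
    {P : Subgroup Ω} (hP : P ≤ S) (a : F.autGroup P) (ha : Nat.Coprime (orderOf a) p) (x : P) :
    ActsInResidual F p T ((x : Ω)⁻¹ * (((a : MulAut P) x : P) : Ω)) := by
  obtain ⟨β, hβ, hβa⟩ := exists_aut_sup_extendsMod hS F hF hT hP a.2
  have hRS : P ⊔ T ≤ S := sup_le hP hT.1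
  have hfinR : Finite (P ⊔ T : Subgroup Ω) := finite_of_le hRS
  obtain ⟨k, hk1, hkc⟩ := exists_pow_pPrime p (⟨β, hβ⟩ : F.autGroup (P ⊔ T)) (orderOf a) ha
  have hak : (a : MulAut P) ^ k = a := by
    have h1 : a ^ k = a ^ 1 := pow_eq_pow_iff_modEq.mpr hk1
    rw [pow_one] at h1
    have h2 := congrArg Subtype.val h1
    rwa [Subgroup.coe_pow] at h2
  have hpow := pow_extendsMod F hT hP (a : MulAut P) hβ hβa k x
  rw [hak] at hpow
  have hβk : β ^ k ∈ F.autGroup (P ⊔ T) := pow_mem hβ k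
  have hgk : (⟨β, hβ⟩ : F.autGroup (P ⊔ T)) ^ k = ⟨β ^ k, hβk⟩ := Subtype.ext (Subgroup.coe_pow _ _ _)
  rw [hgk] at hkc
  have hγ : resAutF F hT le_sup_right hRS ⟨β ^ k, hβk⟩ ∈ pResidual p (F.autGroup T) := by
    apply Subgroup.subset_closure
    show Nat.Coprime (orderOf (resAutF F hT le_sup_right hRS ⟨β ^ k, hβk⟩)) p
    exact Nat.Coprime.coprime_dvd_left (orderOf_map_dvd _ _) hkc
  obtain ⟨cx, hcx, hcxeq⟩ := exists_conj_aut F hT (hP x.2)
  have hn := pResidual_normal p (F.autGroup T)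
  have hmem : (⟨cx, hcx⟩ : F.autGroup T)⁻¹ * resAutF F hT le_sup_right hRS ⟨β ^ k, hβk⟩ *
      (⟨cx, hcx⟩ : F.autGroup T)⁻¹⁻¹ * (resAutF F hT le_sup_right hRS ⟨β ^ k, hβk⟩)⁻¹ ∈
      pResidual p (F.autGroup T) :=
    Subgroup.mul_mem _ (hn.conj_mem _ hγ _) (Subgroup.inv_mem _ hγ)
  rw [inv_inv] at hmem
  refine ⟨(cx⁻¹ * (resAutF F hT le_sup_right hRS ⟨β ^ k, hβk⟩ : MulAut T) * cx *
      (resAutF F hT le_sup_right hRS ⟨β ^ k, hβk⟩ : MulAut T)⁻¹) *
      MulAut.conj (⟨_, hpow⟩ : T)⁻¹, ?_, ?_⟩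
  · apply Subgroup.mul_mem_sup
    · exact ⟨_, hmem, rfl⟩
    · exact ⟨_, rfl⟩
  · intro t
    rw [MulAut.mul_apply, MulAut.mul_apply, MulAut.mul_apply, MulAut.mul_apply,
      inv_apply_of_conj hcxeq, resAutF_apply, ]
    -- inner part
    set t1 : T := MulAut.conj (⟨_, hpow⟩ : T)⁻¹ t with ht1
    set t2 : T := (resAutF F hT le_sup_right hRS ⟨β ^ k, hβk⟩ : MulAut T)⁻¹ t1 with ht2
    have h21 : (resAutF F hT le_sup_right hRS ⟨β ^ k, hβk⟩ : MulAut T) t2 = t1 := by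
      rw [ht2, MulAut.apply_inv_self]
    have h21' : (((β ^ k) ⟨t2, le_sup_right (a := P) t2.2⟩ : (P ⊔ T : Subgroup Ω)) : Ω) = t1 := by
      rw [← h21]
      rfl
    have h3 : (⟨((cx t2 : T) : Ω), le_sup_right (a := P) (cx t2).2⟩ : (P ⊔ T : Subgroup Ω)) =
        Subgroup.inclusion le_sup_left x * ⟨t2, le_sup_right (a := P) t2.2⟩ *
          (Subgroup.inclusion le_sup_left x)⁻¹ := by
      apply Subtype.ext
      rw [hcxeq]
      rfl
    show (x : Ω)⁻¹ * (((β ^ k) ⟨((cx t2 : T) : Ω), _⟩ : (P ⊔ T : Subgroup Ω)) : Ω) * (x : Ω) = _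
    rw [h3, map_mul, map_mul, map_inv, Subgroup.coe_mul, Subgroup.coe_mul, Subgroup.coe_inv, h21']
    have h4 : (t1 : Ω) = ((⟨_, hpow⟩ : T)⁻¹ : T) * (t : Ω) * (((⟨_, hpow⟩ : T)⁻¹ : T) : Ω)⁻¹ := by
      rw [ht1]
      rfl
    rw [h4]
    simp only [Subgroup.coe_inv]
    group

/-- S5198 -/
theorem hyperfocal_actsInResidual [Finite S] (p : ℕ) [Fact p.Prime] (hS : IsPGroup p S)
    (F : FusionSystem S) (hF : F.IsSaturated p) (T : Subgroup Ω) (hT : F.StronglyClosed T) :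
    ∀ x ∈ F.hyperfocalSubgroup p, ActsInResidual F p T x := by
  intro x hx
  unfold hyperfocalSubgroup at hx
  induction hx using Subgroup.closure_induction with
  | mem y hy =>
    obtain ⟨P, α, x, hPS, hα, rfl⟩ := hy
    revert x
    unfold pResidual at hα
    induction hα using Subgroup.closure_induction with
    | mem a ha =>
      intro x
      exact actsInResidual_gen hS F hF hT hPS a ha x
    | one =>
      intro x
      have : (x : Ω)⁻¹ * ((((1 : F.autGroup P) : MulAut P) x : P) : Ω) = 1 := by simp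
      rw [this]
      exact actsInResidual_one F p T
    | mul a b _ _ iha ihb =>
      intro x
      have : (x : Ω)⁻¹ * ((((a * b : F.autGroup P) : MulAut P) x : P) : Ω) =
          ((x : Ω)⁻¹ * (((b : MulAut P) x : P) : Ω)) *
            ((((b : MulAut P) x : P) : Ω)⁻¹ *
              (((a : MulAut P) ((b : MulAut P) x) : P) : Ω)) := by
        rw [Subgroup.coe_mul, MulAut.mul_apply]
        group
      rw [this]
      exact actsInResidual_mul F p T (ihb x) (iha _)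
    | inv a _ iha =>
      intro x
      have : (x : Ω)⁻¹ * ((((a⁻¹ : F.autGroup P) : MulAut P) x : P) : Ω) =
          (((((a : MulAut P)⁻¹ x : P) : Ω))⁻¹ *
            (((a : MulAut P) ((a : MulAut P)⁻¹ x) : P) : Ω))⁻¹ := by
        rw [Subgroup.coe_inv, MulAut.apply_inv_self]
        group
      rw [this]
      exact actsInResidual_inv F p T (iha _)
  | one => exact actsInResidual_one F p T
  | mul a b _ _ iha ihb => exact actsInResidual_mul F p T iha ihb
  | inv a _ iha => exact actsInResidual_inv F p T iha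

end Cfsg.Agent.Lib.Helper9
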