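import Cfsg.Agent.Lib.Helper9.PPowerIndex1

set_option autoImplicit false

namespace Cfsg.Agent.Lib.Helper9

open Cfsg Cfsg.FusionSystem

variable {Ω : Type*} [Group Ω] {S : Subgroup Ω}

/-- the full subsystem of `F` on a subgroup `T` of `S` -/
def fullSubsystemOn (F : FusionSystem S) (T : Subgroup Ω) (hT : T ≤ S) : FusionSystem T where
  Hom P := {φ | φ ∈ F.Hom P ∧ P ≤ T ∧ ∀ x : P, φ x ∈ T}
  le_of_mem h := h.2
  injective_of_mem h := F.injective_of_mem h.1
  conj_mem := by
    intro P g hP hg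
    refine ⟨F.conj_mem (hP.trans hT) (hT hg), hP, fun x => ?_⟩
    show g * (x : Ω) * g⁻¹ ∈ T
    exact T.mul_mem (T.mul_mem hg (hP x.2)) (T.inv_mem hg)
  comp_mem := by
    rintro P Q φ ψ ⟨hφ, hP, hφT⟩ ⟨hψ, hQ, hψT⟩ h
    exact ⟨F.comp_mem hφ hψ h, hP, fun x => hψT _⟩
  inv_mem := by
    rintro P φ ⟨hφ, hP, hφT⟩
    obtain ⟨ψ, hψ, hψφ⟩ := F.inv_mem hφ
    refine ⟨ψ, ⟨hψ, ?_, ?_⟩, hψφ⟩
    · rintro _ ⟨x, rfl⟩
      exact hφT x
    · rintro ⟨_, x, rfl⟩
      rw [hψφ x]
      exact hP x.2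

/-- a saturated subsystem of `F` over `T` lies in every subsystem of `p`-power index over a subgroup
containing `T` -/
theorem isSubsystemOf_of_hasPPowerIndexIn [Finite S] (p : ℕ) [Fact p.Prime] (hS : IsPGroup p S)
    (F : FusionSystem S) {T U : Subgroup Ω} (E : FusionSystem T) (F₀ : FusionSystem U)
    (hEs : E.IsSaturated p) (hEF : E.IsSubsystemOf F) (hTU : T ≤ U)
    (hF₀ : F₀.HasPPowerIndexIn F p) : E.IsSubsystemOf F₀ := by
  have hTS : T ≤ S := le_of_isSubsystemOf E F hEF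
  have hfinT : Finite T := finite_of_le hTS
  have hTp : IsPGroup p T := isPGroup_of_le hS hTS
  have key : E ≤ fullSubsystemOn F₀ T hTU := by
    apply alperin p hTp E hEs
    intro P hP
    have hfn : E.IsFullyNormalized P := by
      rcases hP with rfl | hess
      · exact fullyNormalized_top E
      · exact hess.2.1
    have hPT : P ≤ T := hfn.1
    have hfinP : Finite P := finite_of_le hPT
    obtain ⟨-, R, hR⟩ := fullyAutomized_of_fullyNormalized hTp E hEs hfn
    intro α hα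
    obtain ⟨t, ht, r, hr, h⟩ := exists_sylow_mul_pResidual R ⟨α, hα⟩
    have hα' : α = (t : MulAut P) * (r : MulAut P) := congrArg Subtype.val h
    rw [hα']
    apply Subgroup.mul_mem
    · rw [hR] at ht
      exact autInducedBy_le_autGroup _ hPT (Subgroup.mem_subgroupOf.mp ht)
    · have hle : E.autGroup P ≤ F.autGroup P := Subgroup.closure_mono (fun a ha => hEF P ha)
      have h1 : Subgroup.inclusion hle r ∈ pResidual p (F.autGroup P) :=
        map_pResidual_le p (Subgroup.inclusion hle) (Subgroup.inclusion_injective hle) ⟨r, hr, rfl⟩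
      have h2 : (r : MulAut P) ∈ F₀.autGroup P :=
        hF₀.2.2 P (hPT.trans hTU) ⟨Subgroup.inclusion hle r, h1, rfl⟩
      rw [mem_autGroup_iff _ hPT]
      rw [mem_autGroup_iff _ (hPT.trans hTU)] at h2
      exact ⟨h2, hPT, fun x => hPT ((r : MulAut P) x).2⟩
  intro P φ hφ
  exact (key P hφ).1

end Cfsg.Agent.Lib.Helper9
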