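import Mathlib
import Cfsg.Agent.Lib.Helper2.SLkDefs

/-! S2479 piece C4a: the torus twist `tw`. -/

set_option autoImplicit false
set_option linter.unusedVariables false
set_option linter.unusedSectionVars false
set_option linter.style.longLine false
set_option linter.style.haveILetI false

namespace Cfsg.Agent.Lib.Helper2.GLk

open Polynomial

universe u v

variable {F : Type u} [Field F]

theorem h9_tw_of_eq_one {n : ℕ} (c : Fin n → Fˣ) (f : Fin n → F[X]) (j : Fin n) (h : f j = 1) :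
    tw c f j = 1 := by
  unfold tw
  rw [if_pos h]

theorem h9_tw_of_ne_one {n : ℕ} (c : Fin n → Fˣ) (f : Fin n → F[X]) (j : Fin n) (h : f j ≠ 1) :
    tw c f j = f j + C (((c j : F) - 1) * (f j).coeff 0) := by
  unfold tw
  rw [if_neg h]

theorem h9_natDegree_pos_of_monic_ne_one {g : F[X]} (hg : g.Monic) (h1 : g ≠ 1) :
    1 ≤ g.natDegree := by
  rcases Nat.eq_zero_or_pos g.natDegree with h0 | h0
  · exact absurd (eq_one_of_monic_natDegree_zero hg h0) h1
  · exact h0

theorem h9_tw_monic {n : ℕ} (c : Fin n → Fˣ) (f : Fin n → F[X]) (j : Fin n) (hm : (f j).Monic) :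
    (tw c f j).Monic := by
  by_cases h : f j = 1
  · rw [h9_tw_of_eq_one c f j h]; exact monic_one
  · rw [h9_tw_of_ne_one c f j h]
    apply Polynomial.Monic.add_of_left hm
    have h1 := h9_natDegree_pos_of_monic_ne_one hm h
    calc (C (((c j : F) - 1) * (f j).coeff 0)).degree ≤ 0 := degree_C_le
      _ < (f j).degree := by
        rw [degree_eq_natDegree hm.ne_zero]
        exact_mod_cast h1

theorem h9_tw_natDegree {n : ℕ} (c : Fin n → Fˣ) (f : Fin n → F[X]) (j : Fin n) :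
    (tw c f j).natDegree = (f j).natDegree := by
  by_cases h : f j = 1
  · rw [h9_tw_of_eq_one c f j h, h]
  · rw [h9_tw_of_ne_one c f j h, natDegree_add_C]

theorem h9_tw_coeff_zero {n : ℕ} (c : Fin n → Fˣ) (f : Fin n → F[X]) (j : Fin n) (h : f j ≠ 1) :
    (tw c f j).coeff 0 = (c j : F) * (f j).coeff 0 := by
  rw [h9_tw_of_ne_one c f j h, coeff_add, coeff_C_zero]
  ring

/-- C4a -/
theorem tw_mem {n : ℕ} (c : Fin n → Fˣ) (f : Fin n → F[X]) (hf : f ∈ T F n n) :
    tw c f ∈ T F n n := by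
  obtain ⟨h1, h2⟩ := hf
  refine ⟨fun j => ⟨h9_tw_monic c f j (h1 j).1, ?_⟩, ?_⟩
  · by_cases h : f j = 1
    · rw [h9_tw_of_eq_one c f j h]; simp
    · rw [h9_tw_coeff_zero c f j h]
      exact mul_ne_zero (Units.ne_zero _) (h1 j).2
  · have h3 : ∑ j : Fin n, (j.val + 1) * (tw c f j).natDegree =
        ∑ j : Fin n, (j.val + 1) * (f j).natDegree := by
      refine Finset.sum_congr rfl (fun j _ => ?_)
      rw [h9_tw_natDegree]
    exact h3.trans h2

theorem tw_eq_one_iff {n : ℕ} (c : Fin n → Fˣ) (f : Fin n → F[X]) (hf : f ∈ T F n n) (j : Fin n) :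
    tw c f j = 1 ↔ f j = 1 := by
  constructor
  · intro h
    by_contra hne
    have h1 := h9_natDegree_pos_of_monic_ne_one (hf.1 j).1 hne
    have h2 := h9_tw_natDegree c f j
    rw [h, natDegree_one] at h2
    omega
  · intro h
    exact h9_tw_of_eq_one c f j h

theorem tw_inv {n : ℕ} (c : Fin n → Fˣ) (f : Fin n → F[X]) (hf : f ∈ T F n n) :
    tw c⁻¹ (tw c f) = f := by
  funext j
  by_cases h : f j = 1
  · have h1 : tw c f j = 1 := h9_tw_of_eq_one c f j h
    rw [h9_tw_of_eq_one c⁻¹ (tw c f) j h1, h]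
  · have h1 : tw c f j ≠ 1 := fun h' => h ((tw_eq_one_iff c f hf j).mp h')
    rw [h9_tw_of_ne_one c⁻¹ (tw c f) j h1, h9_tw_coeff_zero c f j h, h9_tw_of_ne_one c f j h,
      add_assoc, ← C_add]
    have : ((c j : F) - 1) * (f j).coeff 0 + ((((c⁻¹ : Fin n → Fˣ) j : Fˣ) : F) - 1) * ((c j : F) * (f j).coeff 0) = 0 := by
      have hc : (((c⁻¹ : Fin n → Fˣ) j : Fˣ) : F) * (c j : F) = 1 := by
        rw [Pi.inv_apply, ← Units.val_mul, inv_mul_cancel, Units.val_one]
      calc ((c j : F) - 1) * (f j).coeff 0 + ((((c⁻¹ : Fin n → Fˣ) j : Fˣ) : F) - 1) * ((c j : F) * (f j).coeff 0)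
          = ((c j : F) - 1 + ((((c⁻¹ : Fin n → Fˣ) j : Fˣ) : F) * (c j : F) - (c j : F))) * (f j).coeff 0 := by ring
        _ = 0 := by rw [hc]; ring
    rw [this, C_0, add_zero]

theorem gsz_tw {n : ℕ} (c : Fin n → Fˣ) (f : Fin n → F[X]) (hf : f ∈ T F n n) :
    gsz (tw c f) = gsz f := by
  classical
  unfold gsz
  congr 1
  ext j
  simp only [Finset.mem_filter, Finset.mem_univ, true_and, ne_eq]
  rw [tw_eq_one_iff c f hf j]

open Classical in
theorem ddet_tw {n : ℕ} (c : Fin n → Fˣ) (f : Fin n → F[X]) (hf : f ∈ T F n n) :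
    ddet (tw c f) =
      (∏ j ∈ Finset.univ.filter (fun j : Fin n => f j ≠ 1), ((c j : Fˣ) : F) ^ (j.val + 1)) * ddet f := by
  unfold ddet
  rw [Finset.prod_filter, ← Finset.prod_mul_distrib]
  refine Finset.prod_congr rfl (fun j _ => ?_)
  by_cases h : f j = 1
  · rw [if_neg (not_not.mpr h), one_mul, h9_tw_of_eq_one c f j h, h]
  · rw [if_pos h, h9_tw_natDegree, h9_tw_coeff_zero c f j h, ← mul_pow]
    congr 1
    ring

theorem ddet_ne_zero {n : ℕ} (f : Fin n → F[X]) (hf : f ∈ T F n n) : ddet f ≠ 0 := by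
  unfold ddet
  rw [Finset.prod_ne_zero_iff]
  intro j _
  apply pow_ne_zero
  exact mul_ne_zero (pow_ne_zero _ (by norm_num)) (hf.1 j).2

end Cfsg.Agent.Lib.Helper2.GLk
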