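import Mathlib
import Cfsg.Agent.Lib.Helper2.SLkDefs

/-! S2479 piece G2c: transfer of `F[X]`-endomorphisms of `Mod A` to matrices commuting with `A`. -/

set_option autoImplicit false
set_option linter.unusedVariables false
set_option linter.unusedSectionVars false
set_option linter.style.longLine false
set_option linter.style.haveILetI false

namespace Cfsg.Agent.Lib.Helper2.GLk

open Polynomial

universe u v

variable {F : Type u} [Field F]

/-- G2c -/
theorem exists_commuting_of_end {n : ℕ} (A : Matrix (Fin n) (Fin n) F)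
    (ψ : Mod A →ₗ[F[X]] Mod A) (hψ : LinearMap.det (ψ.restrictScalars F) ≠ 0) :
    ∃ c : GL (Fin n) F, (c : Matrix (Fin n) (Fin n) F) * A = A * (c : Matrix (Fin n) (Fin n) F) ∧
      (c : Matrix (Fin n) (Fin n) F).det = LinearMap.det (ψ.restrictScalars F) := by
  obtain ⟨a, ha⟩ : ∃ a : (Fin n → F) →ₗ[F] (Fin n → F), a = Matrix.toLin' A := ⟨_, rfl⟩
  let e : Mod A ≃ₗ[F] (Fin n → F) := (Module.AEval'.of (Matrix.toLin' A)).symm
  let ψ' : (Fin n → F) →ₗ[F] (Fin n → F) :=
    (e : Mod A →ₗ[F] (Fin n → F)) ∘ₗ (ψ.restrictScalars F) ∘ₗ (e.symm : (Fin n → F) →ₗ[F] Mod A)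
  have hdet : LinearMap.det ψ' = LinearMap.det (ψ.restrictScalars F) :=
    LinearMap.det_conj (ψ.restrictScalars F) e
  have hψ' : ∀ v, ψ' (a v) = a (ψ' v) := by
    intro v
    rw [ha]
    show (Module.AEval'.of (Matrix.toLin' A)).symm (ψ (Module.AEval'.of (Matrix.toLin' A) (Matrix.toLin' A v))) =
      Matrix.toLin' A ((Module.AEval'.of (Matrix.toLin' A)).symm (ψ (Module.AEval'.of (Matrix.toLin' A) v)))
    rw [← Module.AEval'.X_smul_of, map_smul, Module.AEval'.of_symm_X_smul]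
  have hcomp : ψ' ∘ₗ a = a ∘ₗ ψ' := by
    apply LinearMap.ext
    intro v
    exact hψ' v
  set P : Matrix (Fin n) (Fin n) F := LinearMap.toMatrix' ψ' with hP
  have hPA : P * A = A * P := by
    have := congrArg LinearMap.toMatrix' hcomp
    rw [LinearMap.toMatrix'_comp, LinearMap.toMatrix'_comp, ha, LinearMap.toMatrix'_toLin'] at this
    exact this
  have hPdet : P.det = LinearMap.det (ψ.restrictScalars F) := by
    rw [hP, LinearMap.det_toMatrix', hdet]
  have hP0 : P.det ≠ 0 := by rw [hPdet]; exact hψ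
  refine ⟨Matrix.GeneralLinearGroup.mkOfDetNeZero P hP0, ?_, ?_⟩
  · simpa using hPA
  · simpa using hPdet

/-- G2d -/
theorem det_eq_det_smulEnd_X {n : ℕ} (A : Matrix (Fin n) (Fin n) F) :
    A.det = LinearMap.det (smulEnd (Mod A) X) := by
  obtain ⟨a, ha⟩ : ∃ a : (Fin n → F) →ₗ[F] (Fin n → F), a = Matrix.toLin' A := ⟨_, rfl⟩
  let e : Mod A ≃ₗ[F] (Fin n → F) := (Module.AEval'.of (Matrix.toLin' A)).symm
  have h1 : (e : Mod A →ₗ[F] (Fin n → F)) ∘ₗ (smulEnd (Mod A) X) ∘ₗ
      (e.symm : (Fin n → F) →ₗ[F] Mod A) = a := by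
    apply LinearMap.ext
    intro v
    rw [ha]
    show (Module.AEval'.of (Matrix.toLin' A)).symm ((X : F[X]) • (Module.AEval'.of (Matrix.toLin' A) v)) = Matrix.toLin' A v
    rw [Module.AEval'.X_smul_of, LinearEquiv.symm_apply_apply]
  have h2 := LinearMap.det_conj (smulEnd (Mod A) X) e
  rw [h1, ha, LinearMap.det_toLin'] at h2
  exact h2

end Cfsg.Agent.Lib.Helper2.GLk
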