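import Mathlib
import Cfsg.Agent.Lib.Helper2.SLkDefs
import Cfsg.Agent.Lib.Helper9.SLkG2c
import Cfsg.Agent.Lib.Helper4.SLkDetLmap
import Cfsg.Agent.Lib.Helper5.SLkNorm

/-! S2479 piece G4asm: the determinant of `A` from a primary decomposition of `Mod A`. -/

set_option autoImplicit false
set_option linter.unusedVariables false
set_option linter.unusedSectionVars false
set_option linter.style.longLine false
set_option linter.style.haveILetI false

namespace Cfsg.Agent.Lib.Helper2.GLk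

open Polynomial

universe u v

variable {F : Type u} [Field F]

/-- G4asm -/
theorem det_eq_prod {n k : ℕ} (A : Matrix (Fin n) (Fin n) F)
    (p : Fin k → F[X]) (e : Fin k → ℕ)
    (hp : ∀ i, (p i).Monic ∧ Irreducible (p i) ∧ (p i).coeff 0 ≠ 0 ∧ 1 ≤ e i)
    (Φ : Mod A ≃ₗ[F[X]] DirectSum (Fin k) (fun i => F[X] ⧸ Submodule.span F[X] {p i ^ e i})) :
    A.det = ∏ i, ((-1) ^ (p i).natDegree * (p i).coeff 0) ^ e i := by
  classical
  have hfin : ∀ i : Fin k, Module.Finite F (Qm (p i ^ e i)) := by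
    intro i
    have hm : (p i ^ e i).Monic := (hp i).1.pow (e i)
    exact (AdjoinRoot.powerBasis' hm).finite
  rw [det_eq_det_smulEnd_X A]
  let ΦF : Mod A ≃ₗ[F] DirectSum (Fin k) (fun i => Qm (p i ^ e i)) := Φ.restrictScalars F
  have h1 : (ΦF : Mod A →ₗ[F] _) ∘ₗ (smulEnd (Mod A) X) ∘ₗ (ΦF.symm : _ →ₗ[F] Mod A) =
      DirectSum.lmap (fun i => mulBy (p i ^ e i) X) := by
    apply LinearMap.ext
    intro x
    show Φ ((X : F[X]) • Φ.symm x) = _
    rw [map_smul, LinearEquiv.apply_symm_apply]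
    apply DFinsupp.ext
    intro i
    rfl
  have h2 := LinearMap.det_conj (N := DirectSum (Fin k) (fun i => Qm (p i ^ e i))) (smulEnd (Mod A) X) ΦF
  rw [h1] at h2
  rw [← h2, det_lmap]
  refine Finset.prod_congr rfl (fun i _ => ?_)
  have hm : (p i ^ e i).Monic := (hp i).1.pow (e i)
  rw [det_mulBy_X _ hm, (hp i).1.natDegree_pow, Polynomial.coeff_zero_eq_eval_zero,
    Polynomial.eval_pow, ← Polynomial.coeff_zero_eq_eval_zero, mul_pow, ← pow_mul, mul_comm (e i)]

end Cfsg.Agent.Lib.Helper2.GLk
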