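import Mathlib
import Cfsg.Agent.Lib.Helper2.SLkDefs
import Cfsg.Agent.Lib.Helper2.GLkUpper

/-! S2479 piece G4c: the product of the block determinants is `ddet (seqOf n p e)`. -/

set_option autoImplicit false
set_option linter.unusedVariables false
set_option linter.unusedSectionVars false
set_option linter.style.longLine false
set_option linter.style.haveILetI false

namespace Cfsg.Agent.Lib.Helper2.GLk

open Polynomial

universe u v

variable {F : Type u} [Field F]

/-- G4c -/
theorem prod_eq_ddet {n k : ℕ} (p : Fin k → F[X]) (e : Fin k → ℕ)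
    (hp : ∀ i, (p i).Monic ∧ Irreducible (p i) ∧ (p i).coeff 0 ≠ 0 ∧ 1 ≤ e i)
    (hsum : ∑ i, e i * (p i).natDegree = n) :
    ∏ i, ((-1) ^ (p i).natDegree * (p i).coeff 0) ^ e i = ddet (seqOf n p e) := by
  classical
  have hle := h2_e_le p e hp hsum
  have hdeg : ∀ j : Fin n, (seqOf n p e j).natDegree =
      ∑ i ∈ Finset.univ.filter (fun i => e i = j.val + 1), (p i).natDegree := by
    intro j
    unfold seqOf
    exact Polynomial.natDegree_prod_of_monic _ _ (fun i _ => (hp i).1)
  have hcoeff : ∀ j : Fin n, (seqOf n p e j).coeff 0 =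
      ∏ i ∈ Finset.univ.filter (fun i => e i = j.val + 1), (p i).coeff 0 := by
    intro j
    unfold seqOf
    rw [Polynomial.coeff_zero_eq_eval_zero, Polynomial.eval_prod]
    refine Finset.prod_congr rfl (fun i _ => ?_)
    rw [Polynomial.coeff_zero_eq_eval_zero]
  let φ : Fin k → Fin n := fun i => ⟨e i - 1, by have := hle i; have := (hp i).2.2.2; omega⟩
  have hφ : ∀ (i : Fin k) (j : Fin n), e i = j.val + 1 ↔ φ i = j := by
    intro i j
    have := (hp i).2.2.2
    constructor
    · intro h; apply Fin.ext; simp only [φ]; omega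
    · intro h; have := congrArg Fin.val h; simp only [φ] at this; omega
  unfold ddet
  symm
  calc ∏ j : Fin n, ((-1) ^ (seqOf n p e j).natDegree * (seqOf n p e j).coeff 0) ^ (j.val + 1)
      = ∏ j : Fin n, ∏ i ∈ Finset.univ.filter (fun i => φ i = j),
          ((-1) ^ (p i).natDegree * (p i).coeff 0) ^ e i := by
        refine Finset.prod_congr rfl (fun j _ => ?_)
        rw [hdeg j, hcoeff j, ← Finset.prod_pow_eq_pow_sum, ← Finset.prod_mul_distrib,
          ← Finset.prod_pow]
        have hfil : Finset.univ.filter (fun i => e i = j.val + 1) =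
            Finset.univ.filter (fun i => φ i = j) := by
          ext i; simp [hφ i j]
        rw [hfil]
        refine Finset.prod_congr rfl (fun i hi => ?_)
        have : φ i = j := (Finset.mem_filter.1 hi).2
        rw [((hφ i j).2 this)]
    _ = ∏ i, ((-1) ^ (p i).natDegree * (p i).coeff 0) ^ e i := Finset.prod_fiberwise _ _ _

end Cfsg.Agent.Lib.Helper2.GLk
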