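import Mathlib
import Cfsg.Agent.Lib.Helper2.SLkDefs
import Cfsg.Agent.Lib.Helper2.GLkLower

/-! S2479 pieces LA1-LA4: the lower bound `q^(n-1) < k(SL_n(q))`. -/

set_option autoImplicit false
set_option maxHeartbeats 1000000
set_option linter.unusedVariables false
set_option linter.unusedSectionVars false
set_option linter.style.longLine false
set_option linter.style.haveILetI false

namespace Cfsg.Agent.Lib.Helper2.GLk

open Polynomial

universe u v

variable {F : Type u} [Field F]

/-- LA1 -/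
theorem exists_sl_charpoly_eq {n : ℕ} (g : F[X]) (hmon : g.Monic) (hdeg : g.natDegree = n)
    (h0 : g.coeff 0 = (-1) ^ n) :
    ∃ A : Matrix.SpecialLinearGroup (Fin n) F, (A : Matrix (Fin n) (Fin n) F).charpoly = g := by
  classical
  have hne : g ≠ 0 := hmon.ne_zero
  let pb := AdjoinRoot.powerBasis hne
  have hdim : pb.dim = n := by simp [pb, hdeg]
  let M0 : Matrix (Fin pb.dim) (Fin pb.dim) F := Algebra.leftMulMatrix pb.basis pb.gen
  have hM0 : M0.charpoly = g := by
    rw [_root_.charpoly_leftMulMatrix pb]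
    exact AdjoinRoot.minpoly_powerBasis_gen_of_monic hmon hne
  let ε : Fin pb.dim ≃ Fin n := finCongr hdim
  let M : Matrix (Fin n) (Fin n) F := Matrix.reindex ε ε M0
  have hM : M.charpoly = g := by
    rw [Matrix.charpoly_reindex, hM0]
  have hdet : M.det = 1 := by
    rw [Matrix.det_eq_sign_charpoly_coeff, hM, h0, Fintype.card_fin, ← mul_pow]
    simp
  exact ⟨⟨M, hdet⟩, hM⟩

/-- the tail of the coefficient vector -/
noncomputable def h9_tailMap (k : ℕ) (b : F) :
    {g : F[X] // g.Monic ∧ g.natDegree = k + 1 ∧ g.coeff 0 = b} → (Fin k → F) :=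
  fun g i => h7_E (k + 1) ⟨g.1, g.2.1, g.2.2.1⟩ i.succ

theorem h9_tailMap_bijective (k : ℕ) (b : F) : Function.Bijective (h9_tailMap (F := F) k b) := by
  constructor
  · intro g1 g2 h
    have h1 : h7_E (k + 1) ⟨g1.1, g1.2.1, g1.2.2.1⟩ = h7_E (k + 1) ⟨g2.1, g2.2.1, g2.2.2.1⟩ := by
      funext i
      refine Fin.cases ?_ (fun j => ?_) i
      · rw [h7_E_zero, h7_E_zero]
        show g1.1.coeff 0 = g2.1.coeff 0
        rw [g1.2.2.2, g2.2.2.2]
      · exact congrFun h j
    have h2 := (h7_E (k + 1)).injective h1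
    apply Subtype.ext
    exact congrArg (fun q : {p : F[X] // p.Monic ∧ p.natDegree = k + 1} => q.1) h2
  · intro w
    set v : Fin (k + 1) → F := Fin.cons b w with hv
    set p := (h7_E (F := F) (k + 1)).symm v with hp
    have hpv : h7_E (k + 1) p = v := by rw [hp]; exact Equiv.apply_symm_apply _ _
    have hc : p.1.coeff 0 = b := by
      rw [← h7_E_zero, hpv, hv]
      simp
    refine ⟨⟨p.1, p.2.1, p.2.2, hc⟩, ?_⟩
    funext i
    show h7_E (k + 1) ⟨p.1, p.2.1, p.2.2⟩ i.succ = w i
    have : h7_E (k + 1) ⟨p.1, p.2.1, p.2.2⟩ = v := hpv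
    rw [this, hv]
    simp

/-- LA2 -/
theorem card_monic_coeff_zero [Fintype F] (n : ℕ) (hn : 1 ≤ n) (b : F) :
    Nat.card {g : F[X] // g.Monic ∧ g.natDegree = n ∧ g.coeff 0 = b} = Fintype.card F ^ (n - 1) := by
  classical
  obtain ⟨k, rfl⟩ : ∃ k, n = k + 1 := ⟨n - 1, by omega⟩
  rw [Nat.card_eq_of_bijective _ (h9_tailMap_bijective (F := F) k b), Nat.card_eq_fintype_card,
    Fintype.card_pi_const, Nat.add_sub_cancel]

/-- LA3 -/
theorem exists_sl_unipotent {n : ℕ} (hn : 2 ≤ n) :
    ∃ A : Matrix.SpecialLinearGroup (Fin n) F, A ≠ 1 ∧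
      (A : Matrix (Fin n) (Fin n) F).charpoly = (X - C 1) ^ n := by
  classical
  let i0 : Fin n := ⟨0, by omega⟩
  let i1 : Fin n := ⟨1, by omega⟩
  have h01 : i0 ≠ i1 := by
    intro h
    have := congrArg Fin.val h
    simp [i0, i1] at this
  let M : Matrix (Fin n) (Fin n) F := Matrix.transvection i0 i1 1
  have hdet : M.det = 1 := Matrix.det_transvection_of_ne i0 i1 h01 1
  have hentry : ∀ i j : Fin n, M i j = (if i = j then 1 else 0) + (if i = i0 ∧ j = i1 then 1 else 0) := by
    intro i j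
    simp only [M, Matrix.transvection, Matrix.add_apply, Matrix.one_apply, Matrix.single_apply]
    congr 1
    by_cases h : i0 = i ∧ i1 = j
    · rw [if_pos h, if_pos ⟨h.1.symm, h.2.symm⟩]
    · rw [if_neg h, if_neg (fun h' => h ⟨h'.1.symm, h'.2.symm⟩)]
  have hup : M.IsUpperTriangular := by
    intro i j hij
    rw [hentry]
    have hij' : j < i := hij
    have h1 : i ≠ j := ne_of_gt hij'
    have h2 : ¬ (i = i0 ∧ j = i1) := by
      rintro ⟨rfl, rfl⟩
      have : (1 : ℕ) < 0 := hij'
      omega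
    rw [if_neg h1, if_neg h2, add_zero]
  have hdiag : ∀ i : Fin n, M i i = 1 := by
    intro i
    rw [hentry]
    have h2 : ¬ (i = i0 ∧ i = i1) := by
      rintro ⟨h, h'⟩
      exact h01 (h.symm.trans h')
    rw [if_pos rfl, if_neg h2, add_zero]
  refine ⟨⟨M, hdet⟩, ?_, ?_⟩
  · intro h
    have h1 : M i0 i1 = (1 : Matrix (Fin n) (Fin n) F) i0 i1 := by
      have := congrArg (fun A : Matrix.SpecialLinearGroup (Fin n) F => (A : Matrix (Fin n) (Fin n) F) i0 i1) h
      simpa using this
    rw [hentry, Matrix.one_apply, if_neg h01, if_pos ⟨rfl, rfl⟩] at h1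
    simp at h1
  · show M.charpoly = (X - C 1) ^ n
    rw [Matrix.charpoly_of_isUpperTriangular M hup]
    simp only [hdiag]
    rw [Finset.prod_const, Finset.card_univ, Fintype.card_fin]

/-- conjugate elements of `SL` have the same characteristic polynomial -/
theorem h9_sl_charpoly_conj {n : ℕ} {A B : Matrix.SpecialLinearGroup (Fin n) F} (h : IsConj A B) :
    (B : Matrix (Fin n) (Fin n) F).charpoly = (A : Matrix (Fin n) (Fin n) F).charpoly := by
  obtain ⟨P, hP⟩ := isConj_iff.1 h
  have h1 : (B : Matrix (Fin n) (Fin n) F) =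
      (P : Matrix (Fin n) (Fin n) F) * (A : Matrix (Fin n) (Fin n) F) *
        ((P⁻¹ : Matrix.SpecialLinearGroup (Fin n) F) : Matrix (Fin n) (Fin n) F) := by
    rw [← hP, Matrix.SpecialLinearGroup.coe_mul, Matrix.SpecialLinearGroup.coe_mul]
  have h2 : ((P⁻¹ : Matrix.SpecialLinearGroup (Fin n) F) : Matrix (Fin n) (Fin n) F) *
      (P : Matrix (Fin n) (Fin n) F) = 1 := by
    rw [← Matrix.SpecialLinearGroup.coe_mul, inv_mul_cancel, Matrix.SpecialLinearGroup.coe_one]
  rw [h1, Matrix.charpoly_mul_comm, ← Matrix.mul_assoc, h2, Matrix.one_mul]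

/-- LA4 -/
theorem sl_lower [Fintype F] (n : ℕ) (hn : 2 ≤ n) :
    Fintype.card F ^ (n - 1) < Nat.card (ConjClasses (Matrix.SpecialLinearGroup (Fin n) F)) := by
  classical
  let S := {g : F[X] // g.Monic ∧ g.natDegree = n ∧ g.coeff 0 = (-1) ^ n}
  have hcard : Nat.card S = Fintype.card F ^ (n - 1) := card_monic_coeff_zero n (by omega) _
  have hpos : 0 < Fintype.card F ^ (n - 1) := pow_pos Fintype.card_pos _
  have hfin : Finite S := Nat.finite_of_card_ne_zero (by rw [hcard]; exact hpos.ne')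
  have hex : ∀ g : S, ∃ A : Matrix.SpecialLinearGroup (Fin n) F,
      (A : Matrix (Fin n) (Fin n) F).charpoly = g.1 :=
    fun g => exists_sl_charpoly_eq g.1 g.2.1 g.2.2.1 g.2.2.2
  choose A hA using hex
  obtain ⟨U, hU1, hUc⟩ := exists_sl_unipotent (F := F) hn
  -- the polynomial `(X - 1)^n`
  have hg0 : ((X - C 1 : F[X]) ^ n).Monic ∧ ((X - C 1 : F[X]) ^ n).natDegree = n ∧
      ((X - C 1 : F[X]) ^ n).coeff 0 = (-1) ^ n := by
    refine ⟨(monic_X_sub_C 1).pow n, ?_, ?_⟩
    · rw [(monic_X_sub_C (1 : F)).natDegree_pow, natDegree_X_sub_C, mul_one]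
    · rw [Polynomial.coeff_zero_eq_eval_zero, Polynomial.eval_pow]
      simp
  let g0 : S := ⟨(X - C 1 : F[X]) ^ n, hg0⟩
  have hone : ((1 : Matrix.SpecialLinearGroup (Fin n) F) : Matrix (Fin n) (Fin n) F).charpoly = g0.1 := by
    rw [Matrix.SpecialLinearGroup.coe_one, Matrix.charpoly_one, Fintype.card_fin]
    show (X - 1 : F[X]) ^ n = (X - C 1) ^ n
    rw [map_one]
  have hUne : ConjClasses.mk U ≠ ConjClasses.mk (1 : Matrix.SpecialLinearGroup (Fin n) F) := by
    intro h
    have hconj : IsConj U 1 := ConjClasses.mk_eq_mk_iff_isConj.1 h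
    exact hU1 (isConj_one_left.mp hconj)
  let Ψ : Option S → ConjClasses (Matrix.SpecialLinearGroup (Fin n) F) := fun o =>
    match o with
    | some g => ConjClasses.mk (A g)
    | none => if ConjClasses.mk (A g0) = ConjClasses.mk 1 then ConjClasses.mk U else ConjClasses.mk 1
  have hsome : ∀ g g' : S, ConjClasses.mk (A g) = ConjClasses.mk (A g') → g = g' := by
    intro g g' h
    have hconj : IsConj (A g) (A g') := ConjClasses.mk_eq_mk_iff_isConj.1 h
    have h2 := h9_sl_charpoly_conj hconj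
    apply Subtype.ext
    rw [← hA g, ← hA g', h2]
  have hnone : ∀ g : S, ConjClasses.mk (A g) ≠ Ψ none := by
    intro g h
    by_cases hc : ConjClasses.mk (A g0) = ConjClasses.mk (1 : Matrix.SpecialLinearGroup (Fin n) F)
    · have hΨ : Ψ none = ConjClasses.mk U := if_pos hc
      rw [hΨ] at h
      have hconj : IsConj (A g) U := ConjClasses.mk_eq_mk_iff_isConj.1 h
      have h2 := h9_sl_charpoly_conj hconj
      have hg : g = g0 := by
        apply Subtype.ext
        rw [← hA g, ← h2, hUc]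
      rw [hg, hc] at h
      exact hUne h.symm
    · have hΨ : Ψ none = ConjClasses.mk 1 := if_neg hc
      rw [hΨ] at h
      have hconj : IsConj (A g) 1 := ConjClasses.mk_eq_mk_iff_isConj.1 h
      have h2 := h9_sl_charpoly_conj hconj
      have hg : g = g0 := by
        apply Subtype.ext
        rw [← hA g, ← h2, hone]
      rw [hg] at h
      exact hc h
  have hΨ : Function.Injective Ψ := by
    intro o o' h
    cases o with
    | none =>
      cases o' with
      | none => rfl
      | some g' => exact absurd h.symm (hnone g')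
    | some g =>
      cases o' with
      | none => exact absurd h (hnone g)
      | some g' => rw [hsome g g' h]
  have h1 : Nat.card (Option S) ≤ Nat.card (ConjClasses (Matrix.SpecialLinearGroup (Fin n) F)) :=
    Nat.card_le_card_of_injective Ψ hΨ
  have h2 : Nat.card (Option S) = Nat.card S + 1 := Finite.card_option
  omega

end Cfsg.Agent.Lib.Helper2.GLk
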