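import Mathlib
import Cfsg.Agent.Lib.Helper2.PSLkDefs

/-!
# S2480 piece U1: kernel dimensions are isomorphism invariants; conjugate matrices give
isomorphic `F[X]`-modules
-/

set_option autoImplicit false
set_option linter.unusedVariables false
set_option linter.unusedSectionVars false
set_option linter.style.longLine false
set_option linter.style.haveILetI false

namespace Cfsg.Agent.Lib.Helper2.GLk

open Polynomial

universe u v

variable {F : Type u} [Field F]

/-- U1 -/
theorem kd_congr {M N : Type v} [AddCommGroup M] [Module F M] [Module F[X] M] [IsScalarTower F F[X] M]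
    [AddCommGroup N] [Module F N] [Module F[X] N] [IsScalarTower F F[X] N]
    (E : M ≃ₗ[F[X]] N) (g : F[X]) : kd M g = kd N g := by
  unfold kd
  have h : LinearMap.ker (smulEnd M g) =
      (LinearMap.ker (smulEnd N g)).comap ((E.restrictScalars F : M ≃ₗ[F] N) : M →ₗ[F] N) := by
    ext x
    simp only [LinearMap.mem_ker, Submodule.mem_comap, smulEnd_apply]
    show g • x = 0 ↔ g • E x = 0
    rw [← map_smul, EmbeddingLike.map_eq_zero_iff]
  rw [h]
  exact (LinearEquiv.ofSubmodule' (E.restrictScalars F : M ≃ₗ[F] N) _).finrank_eq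

/-- U1' -/
theorem equiv_of_isConj {n : ℕ} (A B : GL (Fin n) F) (h : IsConj A B) :
    Nonempty (Mod (A : Matrix (Fin n) (Fin n) F) ≃ₗ[F[X]] Mod (B : Matrix (Fin n) (Fin n) F)) := by
  rw [isConj_iff] at h
  obtain ⟨c, hc⟩ := h
  -- `c * A = B * c`
  have hcA : (c : Matrix (Fin n) (Fin n) F) * (A : Matrix (Fin n) (Fin n) F) =
      (B : Matrix (Fin n) (Fin n) F) * (c : Matrix (Fin n) (Fin n) F) := by
    have h1 : c * A = B * c := by rw [← hc]; group
    have h2 := congrArg (fun g : GL (Fin n) F => (g : Matrix (Fin n) (Fin n) F)) h1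
    simpa using h2
  set a : (Fin n → F) →ₗ[F] (Fin n → F) := Matrix.toLin' (A : Matrix (Fin n) (Fin n) F) with ha
  set b : (Fin n → F) →ₗ[F] (Fin n → F) := Matrix.toLin' (B : Matrix (Fin n) (Fin n) F) with hb
  have hinv1 : ((c⁻¹ : GL (Fin n) F) : Matrix (Fin n) (Fin n) F) * (c : Matrix (Fin n) (Fin n) F) = 1 := by
    rw [← Matrix.GeneralLinearGroup.coe_mul, inv_mul_cancel]; rfl
  have hinv2 : (c : Matrix (Fin n) (Fin n) F) * ((c⁻¹ : GL (Fin n) F) : Matrix (Fin n) (Fin n) F) = 1 := by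
    rw [← Matrix.GeneralLinearGroup.coe_mul, mul_inv_cancel]; rfl
  let ψ : (Fin n → F) ≃ₗ[F] (Fin n → F) := Matrix.toLin'OfInv hinv1 hinv2
  have hψ : ∀ v, ψ v = Matrix.toLin' (c : Matrix (Fin n) (Fin n) F) v := fun v => rfl
  have hψa : ∀ v, ψ (a v) = b (ψ v) := by
    intro v
    rw [hψ, hψ, ha, hb, ← Matrix.toLin'_mul_apply, ← Matrix.toLin'_mul_apply, hcA]
  refine ⟨LinearEquiv.ofAEval a (ψ.trans (Module.AEval'.of b)) ?_⟩
  intro m
  show Module.AEval'.of b (ψ (a m)) = (X : F[X]) • Module.AEval'.of b (ψ m)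
  rw [Module.AEval'.X_smul_of, hψa]

end Cfsg.Agent.Lib.Helper2.GLk
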