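import Mathlib
import Cfsg.Agent.Lib.Helper2.PSLkDefs

/-!
# S2480 piece U5: kernel dimensions under root scaling
-/

set_option autoImplicit false
set_option linter.unusedVariables false
set_option linter.unusedSectionVars false
set_option linter.style.longLine false
set_option linter.style.haveILetI false

namespace Cfsg.Agent.Lib.Helper2.GLk

open Polynomial

universe u v

variable {F : Type u} [Field F]

theorem h9_aeval_scl {V : Type v} [AddCommGroup V] [Module F V] (a : Module.End F V) (ζ : Fˣ)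
    (g : F[X]) :
    aeval ((ζ : F) • a) (scl ζ g) = ((ζ : F) ^ g.natDegree) • aeval a g := by
  unfold scl
  rw [map_mul, aeval_C, aeval_comp, map_mul, aeval_C, aeval_X]
  have h1 : (algebraMap F (Module.End F V)) ((ζ⁻¹ : Fˣ) : F) * ((ζ : F) • a) = a := by
    rw [Algebra.algebraMap_eq_smul_one, smul_mul_assoc, one_mul, smul_smul]
    simp
  rw [h1, Algebra.algebraMap_eq_smul_one, smul_mul_assoc, one_mul]

/-- U5 -/
theorem kd_scl {n : ℕ} (A : Matrix (Fin n) (Fin n) F) (ζ : Fˣ) (g : F[X]) :
    kd (Mod ((ζ : F) • A)) (scl ζ g) = kd (Mod A) g := by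
  unfold kd
  set a : Module.End F (Fin n → F) := Matrix.toLin' A with ha
  have ha' : Matrix.toLin' ((ζ : F) • A) = (ζ : F) • a := by rw [map_smul]
  let e : Mod ((ζ : F) • A) ≃ₗ[F] Mod A :=
    (Module.AEval'.of (Matrix.toLin' ((ζ : F) • A))).symm.trans (Module.AEval'.of a)
  have h : LinearMap.ker (smulEnd (Mod ((ζ : F) • A)) (scl ζ g)) =
      (LinearMap.ker (smulEnd (Mod A) g)).comap (e : Mod ((ζ : F) • A) →ₗ[F] Mod A) := by
    ext x
    simp only [LinearMap.mem_ker, Submodule.mem_comap, smulEnd_apply]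
    obtain ⟨v, rfl⟩ := (Module.AEval'.of (Matrix.toLin' ((ζ : F) • A))).surjective x
    have h1 : (e : Mod ((ζ : F) • A) →ₗ[F] Mod A) (Module.AEval'.of _ v) = Module.AEval'.of a v := by
      simp [e]
    rw [h1]
    have h2 : scl ζ g • Module.AEval'.of (Matrix.toLin' ((ζ : F) • A)) v =
        Module.AEval'.of (Matrix.toLin' ((ζ : F) • A))
          ((aeval (Matrix.toLin' ((ζ : F) • A)) (scl ζ g)) v) := rfl
    have h3 : g • Module.AEval'.of a v = Module.AEval'.of a ((aeval a g) v) := rfl
    rw [h2, h3, LinearEquiv.map_eq_zero_iff (Module.AEval'.of (Matrix.toLin' ((ζ : F) • A))),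
      LinearEquiv.map_eq_zero_iff (Module.AEval'.of a), ha', h9_aeval_scl,
      LinearMap.smul_apply, smul_eq_zero]
    constructor
    · rintro (h4 | h4)
      · exact absurd h4 (pow_ne_zero _ ζ.ne_zero)
      · exact h4
    · intro h4
      exact Or.inr h4
  rw [h]
  exact (LinearEquiv.ofSubmodule' e _).finrank_eq

end Cfsg.Agent.Lib.Helper2.GLk
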