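import Mathlib
import Cfsg.Agent.Lib.Helper2.PSLkDefs
import Cfsg.Agent.Lib.Helper2.PSLkUniq
import Cfsg.Agent.Lib.Helper9.PSLkU1
import Cfsg.Agent.Lib.Helper9.PSLkU5
import Cfsg.Agent.Lib.Helper5.PSLkScl
import Cfsg.Agent.Lib.Helper2.PSLkKdDecomp

/-!
# S2480 piece U7: the primary-decomposition data of a matrix conjugate to its `ζ`-multiple is
invariant under root scaling
-/

set_option autoImplicit false
set_option linter.unusedVariables false
set_option linter.unusedSectionVars false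
set_option linter.style.longLine false
set_option linter.style.haveILetI false

namespace Cfsg.Agent.Lib.Helper2.GLk

open Polynomial

universe u v

variable {F : Type u} [Field F]

theorem h9_scl_scl_inv (ζ : Fˣ) (g : F[X]) : scl ζ (scl ζ⁻¹ g) = g := by
  have h := scl_inv_scl ζ⁻¹ g
  rwa [inv_inv] at h

/-- U7 -/
theorem data_scl_invariant {n k : ℕ} (A B : GL (Fin n) F) (ζ : Fˣ)
    (hB : (B : Matrix (Fin n) (Fin n) F) = (ζ : F) • (A : Matrix (Fin n) (Fin n) F))
    (hconj : IsConj A B)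
    (p : Fin k → F[X]) (e : Fin k → ℕ)
    (hp : ∀ i, (p i).Monic ∧ Irreducible (p i) ∧ (p i).coeff 0 ≠ 0 ∧ 1 ≤ e i)
    (Φ : Mod (A : Matrix (Fin n) (Fin n) F) ≃ₗ[F[X]]
      DirectSum (Fin k) (fun i => F[X] ⧸ Submodule.span F[X] {p i ^ e i})) :
    ∀ j : ℕ, 1 ≤ j → scl ζ (∏ i ∈ Finset.univ.filter (fun i => e i = j), p i) =
      ∏ i ∈ Finset.univ.filter (fun i => e i = j), p i := by
  classical
  intro j hj
  rw [scl_prod]
  symm
  refine prod_filter_eq_of_kd p e (fun i => scl ζ (p i)) e (fun i => ⟨(hp i).1, (hp i).2.1⟩)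
    (fun i => ⟨scl_monic ζ _ (hp i).1, scl_irreducible ζ _ (hp i).2.1⟩) ?_ j hj
  intro π hπ hπi j
  -- the left side is `kd (Mod A) (π ^ j)`
  have hL := kd_of_decomp (A : Matrix (Fin n) (Fin n) F) p e hp Φ π hπ hπi j
  -- the right side is `kd (Mod A) ((scl ζ⁻¹ π) ^ j)`
  have hR := kd_of_decomp (A : Matrix (Fin n) (Fin n) F) p e hp Φ (scl ζ⁻¹ π) (scl_monic _ _ hπ)
    (scl_irreducible _ _ hπi) j
  -- compare
  have h1 : kd (Mod (A : Matrix (Fin n) (Fin n) F)) ((scl ζ⁻¹ π) ^ j) =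
      kd (Mod (A : Matrix (Fin n) (Fin n) F)) (π ^ j) := by
    have h2 := kd_scl (A : Matrix (Fin n) (Fin n) F) ζ ((scl ζ⁻¹ π) ^ j)
    rw [scl_pow, h9_scl_scl_inv, ← hB] at h2
    rw [← h2]
    obtain ⟨E⟩ := equiv_of_isConj A B hconj
    exact (kd_congr E (π ^ j)).symm
  have h3 : ∑ i, (if π = scl ζ (p i) then (scl ζ (p i)).natDegree * min j (e i) else 0) =
      ∑ i, (if scl ζ⁻¹ π = p i then (p i).natDegree * min j (e i) else 0) := by
    refine Finset.sum_congr rfl (fun i _ => ?_)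
    have hiff : π = scl ζ (p i) ↔ scl ζ⁻¹ π = p i := by
      constructor
      · intro h
        rw [h, scl_inv_scl]
      · intro h
        rw [← h, h9_scl_scl_inv]
    by_cases hc : π = scl ζ (p i)
    · rw [if_pos hc, if_pos (hiff.mp hc), scl_natDegree]
    · rw [if_neg hc, if_neg (fun h => hc (hiff.mpr h))]
  convert (hL.symm.trans (h1.symm.trans hR)).trans h3.symm using 2

end Cfsg.Agent.Lib.Helper2.GLk
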