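import Mathlib
import Cfsg.Prelude

set_option autoImplicit false
set_option linter.style.haveILetI false

namespace Cfsg.Agent.Lib.Helper9.J2D

theorem klein_of {W : Type*} [Group W] (hc : Nat.card W = 4) (hs : ∀ v : W, v * v = 1) :
    IsKleinFour W := by
  refine ⟨hc, ?_⟩
  have hd : Monoid.exponent W ∣ 2 := Monoid.exponent_dvd_of_forall_pow_eq_one
    (fun v => by rw [pow_two]; exact hs v)
  have hne : Monoid.exponent W ≠ 1 := by
    intro h
    have : Subsingleton W := Monoid.exp_eq_one_iff.mp h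
    have h1 : Nat.card W = 1 := Nat.card_unique
    omega
  rcases (Nat.dvd_prime Nat.prime_two).mp hd with h | h
  · exact absurd h hne
  · exact h

/-- a group of order 4 and exponent 2 is the Klein four-group -/
theorem klein_iso {V : Type*} [Group V] (h4 : Nat.card V = 4) (h2 : ∀ v : V, v * v = 1) :
    Nonempty (V ≃* Multiplicative (ZMod 2) × Multiplicative (ZMod 2)) := by
  haveI : IsKleinFour V := klein_of h4 h2
  haveI : IsKleinFour (Multiplicative (ZMod 2) × Multiplicative (ZMod 2)) := by
    apply klein_of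
    · rw [Nat.card_prod]; simp
    · decide
  exact IsKleinFour.nonempty_mulEquiv

/-- an internal direct product is isomorphic to the external one -/
theorem idp_iso {G : Type*} [Group G] (A B S : Subgroup G)
    (h : Cfsg.IsInternalDirectProduct A B S) : Nonempty (↥S ≃* ↥A × ↥B) := by
  obtain ⟨hA, hB, hcomm, hinf, hsup⟩ := h
  let f : ↥A × ↥B →* G := MonoidHom.noncommCoprod A.subtype B.subtype
    (fun a b => hcomm a.1 a.2 b.1 b.2)
  have hf : ∀ p : ↥A × ↥B, f p = p.1.1 * p.2.1 := fun p => rfl
  have hinj : Function.Injective f := by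
    rw [injective_iff_map_eq_one]
    intro p hp
    rw [hf] at hp
    have h1 : (p.1 : G) = (p.2 : G)⁻¹ := eq_inv_of_mul_eq_one_left hp
    have h2 : (p.1 : G) ∈ A ⊓ B := Subgroup.mem_inf.mpr ⟨p.1.2, by rw [h1]; exact B.inv_mem p.2.2⟩
    rw [hinf, Subgroup.mem_bot] at h2
    have h3 : (p.2 : G) = 1 := by rw [h2, one_mul] at hp; exact hp
    exact Prod.ext (Subtype.ext h2) (Subtype.ext h3)
  have hrange : f.range = S := by
    rw [← hsup]
    apply le_antisymm
    · rintro x ⟨p, rfl⟩
      rw [hf]
      exact Subgroup.mul_mem _ (Subgroup.mem_sup_left p.1.2) (Subgroup.mem_sup_right p.2.2)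
    · apply sup_le
      · intro a ha
        exact ⟨(⟨a, ha⟩, 1), by rw [hf]; simp⟩
      · intro b hb
        exact ⟨(1, ⟨b, hb⟩), by rw [hf]; simp⟩
  have e1 : (↥A × ↥B) ≃* f.range := MonoidHom.ofInjective hinj
  exact ⟨(e1.trans (MulEquiv.subgroupCongr hrange)).symm⟩

/-- elements of an internal direct product decompose -/
theorem idp_decomp {G : Type*} [Group G] (A B S : Subgroup G)
    (h : Cfsg.IsInternalDirectProduct A B S) (x : G) (hx : x ∈ S) :
    ∃ a ∈ A, ∃ b ∈ B, x = a * b := by
  obtain ⟨hA, hB, hcomm, hinf, hsup⟩ := h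
  rw [← hsup] at hx
  have hle : A ≤ Subgroup.normalizer (B : Set G) := by
    intro a ha
    rw [Subgroup.mem_normalizer_iff]
    intro b
    constructor
    · intro hb
      have : a * b * a⁻¹ = b := by rw [hcomm a ha b hb]; group
      rw [this]; exact hb
    · intro hb
      have h1 := hcomm a⁻¹ (A.inv_mem ha) _ hb
      have : b = a * b * a⁻¹ := by
        calc b = a⁻¹ * (a * b * a⁻¹) * a := by group
          _ = (a * b * a⁻¹) * a⁻¹ * a := by rw [h1]
          _ = a * b * a⁻¹ := by group
      rw [this]; exact hb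
  have hx' : x ∈ ((A ⊔ B : Subgroup G) : Set G) := hx
  rw [Subgroup.coe_mul_of_left_le_normalizer_right _ _ hle] at hx'
  obtain ⟨a, ha, b, hb, hab⟩ := Set.mem_mul.mp hx'
  exact ⟨a, ha, b, hb, hab.symm⟩

theorem idp_card {G : Type*} [Group G] (A B S : Subgroup G)
    (h : Cfsg.IsInternalDirectProduct A B S) : Nat.card S = Nat.card A * Nat.card B := by
  obtain ⟨e⟩ := idp_iso A B S h
  rw [Nat.card_congr e.toEquiv, Nat.card_prod]

end Cfsg.Agent.Lib.Helper9.J2D
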