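import Cfsg.Agent.Lib.Helper9.Steiner4

set_option autoImplicit false
set_option linter.unusedSectionVars false

namespace Cfsg.Agent.Lib.Helper9.Steiner5

open Finset Cfsg.Agent.Lib.Helper9.Steiner4

variable {α : Type*} [Fintype α] [DecidableEq α]

theorem exists_finset (B : Set (Finset α)) : ∃ Bf : Finset (Finset α), (Bf : Set (Finset α)) = B := by
  classical
  exact ⟨univ.filter (· ∈ B), by ext; simp⟩

theorem block_inter (hα : Fintype.card α = 24) {B : Set (Finset α)}
    (hB : Cfsg.IsSteinerSystem 5 8 B) {b c : Finset α} (hb : b ∈ B) (hc : c ∈ B) (hbc : b ≠ c) :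
    (b ∩ c).card = 0 ∨ (b ∩ c).card = 2 ∨ (b ∩ c).card = 4 := by
  obtain ⟨Bf, rfl⟩ := exists_finset B
  rw [mem_coe] at hb hc
  obtain ⟨-, h1, -, h3, -⟩ := inter_distribution hα Bf hB c hc
  have hlt : (b ∩ c).card < 5 := by
    by_contra h
    exact hbc (block_eq_of_five Bf hB b c hb hc (by omega))
  have hn1 : (b ∩ c).card ≠ 1 := by
    intro h
    have : b ∈ Bf.filter (fun x => (x ∩ c).card = 1) := mem_filter.mpr ⟨hb, h⟩
    rw [card_eq_zero.mp h1] at this
    exact notMem_empty _ this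
  have hn3 : (b ∩ c).card ≠ 3 := by
    intro h
    have : b ∈ Bf.filter (fun x => (x ∩ c).card = 3) := mem_filter.mpr ⟨hb, h⟩
    rw [card_eq_zero.mp h3] at this
    exact notMem_empty _ this
  omega

theorem card_disjoint_blocks (hα : Fintype.card α = 24) {B : Set (Finset α)}
    (hB : Cfsg.IsSteinerSystem 5 8 B) {b : Finset α} (hb : b ∈ B) :
    {c : Finset α | c ∈ B ∧ Disjoint b c}.ncard = 30 := by
  obtain ⟨Bf, rfl⟩ := exists_finset B
  rw [mem_coe] at hb
  obtain ⟨h0, -⟩ := inter_distribution hα Bf hB b hb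
  rw [← h0, ← Set.ncard_coe_finset]
  congr 1
  ext c
  simp only [Set.mem_ofPred_eq, mem_coe, mem_filter, card_eq_zero]
  rw [disjoint_comm, disjoint_iff_inter_eq_empty]

end Cfsg.Agent.Lib.Helper9.Steiner5
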