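import Cfsg.Agent.Lib.Helper9.Steiner1

set_option autoImplicit false
set_option linter.unusedSectionVars false

namespace Cfsg.Agent.Lib.Helper9.Steiner3

open Finset Cfsg.Agent.Lib.Helper9.Steiner1

variable {α : Type*} [Fintype α] [DecidableEq α]

/-- double counting: binomial moments of the intersection sizes with a fixed set -/
theorem sum_choose_inter_eq (Bf : Finset (Finset α)) (Y : Finset α) (j : ℕ) :
    ∑ b ∈ Bf, ((b ∩ Y).card).choose j
      = ∑ Z ∈ powersetCard j Y, (Bf.filter (fun b => Z ⊆ b)).card := by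
  have h := sum_card_bipartiteAbove_eq_sum_card_bipartiteBelow
    (fun (Z b : Finset α) => Z ⊆ b) (s := powersetCard j Y) (t := Bf)
  have h2 : (∑ Z ∈ powersetCard j Y, (Bf.filter (fun b => Z ⊆ b)).card)
      = ∑ Z ∈ powersetCard j Y, (Bf.bipartiteAbove (fun (Z b : Finset α) => Z ⊆ b) Z).card := rfl
  rw [h2, h]
  refine sum_congr rfl fun b _ => ?_
  rw [← card_powersetCard]
  congr 1
  ext Z
  simp only [mem_powersetCard, subset_inter_iff, mem_bipartiteBelow]
  tauto

/-- regrouping a sum of a function of the intersection size -/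
theorem sum_fiber_inter (Bf : Finset (Finset α)) (Y : Finset α) (n : ℕ) (hn : Y.card ≤ n)
    (g : ℕ → ℕ) :
    ∑ b ∈ Bf, g (b ∩ Y).card
      = ∑ k ∈ range (n + 1), (Bf.filter (fun b => (b ∩ Y).card = k)).card * g k := by
  rw [← sum_fiberwise_of_maps_to (s := Bf) (t := range (n + 1)) (g := fun b => (b ∩ Y).card)]
  · refine sum_congr rfl fun k _ => ?_
    rw [sum_congr rfl (g := fun _ => g k), sum_const, smul_eq_mul]
    intro b hb
    rw [(mem_filter.mp hb).2]
  · intro b _
    have : (b ∩ Y).card ≤ Y.card := card_le_card inter_subset_right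
    simp only [mem_range]
    omega

/-- the numbers of blocks through an `i`-set in a Steiner system S(5,8,24) -/
theorem lambda_5_8_24 (hα : Fintype.card α = 24) (Bf : Finset (Finset α))
    (hB : Cfsg.IsSteinerSystem 5 8 (Bf : Set (Finset α))) (Z : Finset α) :
    (Z.card = 0 → (Bf.filter (fun b => Z ⊆ b)).card = 759) ∧
    (Z.card = 1 → (Bf.filter (fun b => Z ⊆ b)).card = 253) ∧
    (Z.card = 2 → (Bf.filter (fun b => Z ⊆ b)).card = 77) ∧
    (Z.card = 3 → (Bf.filter (fun b => Z ⊆ b)).card = 21) ∧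
    (Z.card = 4 → (Bf.filter (fun b => Z ⊆ b)).card = 5) ∧
    (Z.card = 5 → (Bf.filter (fun b => Z ⊆ b)).card = 1) := by
  have hN : Z.card ≤ 5 →
      (Bf.filter (fun b => Z ⊆ b)).card * (8 - Z.card).choose (5 - Z.card)
        = (24 - Z.card).choose (5 - Z.card) := by
    intro hZ
    have := card_blocks_through 5 8 Bf hB Z hZ
    rwa [hα] at this
  have c24 : Nat.choose 24 5 = 42504 := by decide
  have c23 : Nat.choose 23 4 = 8855 := by decide
  have c22 : Nat.choose 22 3 = 1540 := by decide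
  have c21 : Nat.choose 21 2 = 210 := by decide
  have c20 : Nat.choose 20 1 = 20 := by decide
  have c8 : Nat.choose 8 5 = 56 := by decide
  have c7 : Nat.choose 7 4 = 35 := by decide
  have c6 : Nat.choose 6 3 = 20 := by decide
  have c5 : Nat.choose 5 2 = 10 := by decide
  have c4 : Nat.choose 4 1 = 4 := by decide
  refine ⟨?_, ?_, ?_, ?_, ?_, ?_⟩
  · intro hZ
    have := hN (by omega)
    rw [hZ] at this
    simp only [Nat.sub_zero, c24, c8] at this
    omega
  · intro hZ
    have := hN (by omega)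
    rw [hZ] at this
    norm_num [c23, c7] at this
    omega
  · intro hZ
    have := hN (by omega)
    rw [hZ] at this
    norm_num [c22, c6] at this
    omega
  · intro hZ
    have := hN (by omega)
    rw [hZ] at this
    norm_num [c21, c5] at this
    omega
  · intro hZ
    have := hN (by omega)
    rw [hZ] at this
    norm_num [c20, c4] at this
    omega
  · intro hZ
    have := hN (by omega)
    rw [hZ] at this
    norm_num at this
    omega

/-- binomial moments in an S(5,8,24) -/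
theorem moments_5_8_24 (hα : Fintype.card α = 24) (Bf : Finset (Finset α))
    (hB : Cfsg.IsSteinerSystem 5 8 (Bf : Set (Finset α))) (Y : Finset α) :
    ∑ b ∈ Bf, ((b ∩ Y).card).choose 0 = 759 ∧
    ∑ b ∈ Bf, ((b ∩ Y).card).choose 1 = Y.card.choose 1 * 253 ∧
    ∑ b ∈ Bf, ((b ∩ Y).card).choose 2 = Y.card.choose 2 * 77 ∧
    ∑ b ∈ Bf, ((b ∩ Y).card).choose 3 = Y.card.choose 3 * 21 ∧
    ∑ b ∈ Bf, ((b ∩ Y).card).choose 4 = Y.card.choose 4 * 5 ∧
    ∑ b ∈ Bf, ((b ∩ Y).card).choose 5 = Y.card.choose 5 * 1 := by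
  have hR : ∀ j (lam : ℕ),
      (∀ Z : Finset α, Z.card = j → (Bf.filter (fun b => Z ⊆ b)).card = lam) →
      ∑ b ∈ Bf, ((b ∩ Y).card).choose j = (Y.card.choose j) * lam := by
    intro j lam h
    rw [sum_choose_inter_eq, sum_congr rfl (g := fun _ => lam), sum_const, smul_eq_mul,
      card_powersetCard]
    intro Z hZ
    exact h Z (mem_powersetCard.mp hZ).2
  refine ⟨?_, hR 1 253 fun Z hZ => (lambda_5_8_24 hα Bf hB Z).2.1 hZ,
    hR 2 77 fun Z hZ => (lambda_5_8_24 hα Bf hB Z).2.2.1 hZ,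
    hR 3 21 fun Z hZ => (lambda_5_8_24 hα Bf hB Z).2.2.2.1 hZ,
    hR 4 5 fun Z hZ => (lambda_5_8_24 hα Bf hB Z).2.2.2.2.1 hZ,
    hR 5 1 fun Z hZ => (lambda_5_8_24 hα Bf hB Z).2.2.2.2.2 hZ⟩
  have := hR 0 759 fun Z hZ => (lambda_5_8_24 hα Bf hB Z).1 hZ
  rw [this, Nat.choose_zero_right, one_mul]

end Cfsg.Agent.Lib.Helper9.Steiner3
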