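import Cfsg.Agent.Lib.Helper9.GolayQR4
import Cfsg.Agent.Lib.Helper9.GolayG4

set_option autoImplicit false

namespace Cfsg.Agent.Lib.Helper9.GolayQR5

open Cfsg Finset Cfsg.Agent.Lib.Helper9.Golay1 Cfsg.Agent.Lib.Helper9.GolayQR4
  Cfsg.Agent.Lib.Helper9.GolayG2

theorem card_golayPt : Fintype.card GolayPt = 24 := by decide

theorem octads_isSteiner : IsSteinerSystem 5 8 octads :=
  (Cfsg.Agent.Lib.Helper9.GolayG3.octads_steiner card_golayPt golayCode finrank_golayCode
    min_weight).2

theorem coset_reps (w : GolayPt → ZMod 2) :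
    ({v : GolayPt → ZMod 2 | hammingNorm v ≤ 4 ∧ w - v ∈ golayCode}.ncard = 1 ∧
      ∃ v : GolayPt → ZMod 2, hammingNorm v ≤ 3 ∧ w - v ∈ golayCode) ∨
    ({v : GolayPt → ZMod 2 | hammingNorm v ≤ 4 ∧ w - v ∈ golayCode}.ncard = 6 ∧
      ∀ v : GolayPt → ZMod 2, w - v ∈ golayCode → hammingNorm v ≤ 4 → hammingNorm v = 4) := by
  have hset : {v : GolayPt → ZMod 2 | hammingNorm v ≤ 4 ∧ w - v ∈ golayCode}
      = (fib golayCode w : Set _) := by
    ext v
    simp only [Set.mem_ofPred_eq, mem_coe, mem_fib]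
    constructor
    · rintro ⟨h1, h2⟩
      refine ⟨?_, h1⟩
      have := golayCode.neg_mem h2
      simpa using this
    · rintro ⟨h1, h2⟩
      refine ⟨h2, ?_⟩
      have := golayCode.neg_mem h1
      simpa using this
  rw [hset, Set.ncard_coe_finset]
  rcases fib_cases card_golayPt golayCode finrank_golayCode min_weight w with
    ⟨u, hu, h3⟩ | ⟨h6, h⟩
  · left
    refine ⟨by rw [hu, card_singleton], u, h3, ?_⟩
    have hmem : u ∈ fib golayCode w := by rw [hu]; exact mem_singleton_self u
    have := golayCode.neg_mem ((mem_fib golayCode w u).mp hmem).1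
    simpa using this
  · right
    refine ⟨h6, fun v hv hv4 => ?_⟩
    have hmem : v ∈ fib golayCode w := by
      rw [mem_fib]
      refine ⟨?_, hv4⟩
      have := golayCode.neg_mem hv
      simpa using this
    exact (h v hmem).1

end Cfsg.Agent.Lib.Helper9.GolayQR5
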