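import Cfsg.Agent.Lib.Helper9.FusionBasic
import Cfsg.Prelude.Def_FusionComponents

set_option autoImplicit false

namespace Cfsg.Agent.Lib.Helper9

open Cfsg Cfsg.FusionSystem

variable {Ω₁ Ω₂ : Type*} [Group Ω₁] [Group Ω₂] {S₁ : Subgroup Ω₁} {S₂ : Subgroup Ω₂}

/-- the defining property of the maps of the product system -/
def IsProdMap (F₁ : FusionSystem S₁) (F₂ : FusionSystem S₂) (P : Subgroup (Ω₁ × Ω₂))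
    (φ : P →* Ω₁ × Ω₂) : Prop :=
  P ≤ S₁.prod S₂ ∧
    ∃ φ₁ ∈ F₁.Hom (P.map (MonoidHom.fst Ω₁ Ω₂)), ∃ φ₂ ∈ F₂.Hom (P.map (MonoidHom.snd Ω₁ Ω₂)),
      ∀ (x : P) (h₁ : (x : Ω₁ × Ω₂).1 ∈ P.map (MonoidHom.fst Ω₁ Ω₂))
        (h₂ : (x : Ω₁ × Ω₂).2 ∈ P.map (MonoidHom.snd Ω₁ Ω₂)),
        φ x = (φ₁ ⟨(x : Ω₁ × Ω₂).1, h₁⟩, φ₂ ⟨(x : Ω₁ × Ω₂).2, h₂⟩)

theorem fst_mem_map (P : Subgroup (Ω₁ × Ω₂)) (x : P) :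
    (x : Ω₁ × Ω₂).1 ∈ P.map (MonoidHom.fst Ω₁ Ω₂) := ⟨x, x.2, rfl⟩

theorem snd_mem_map (P : Subgroup (Ω₁ × Ω₂)) (x : P) :
    (x : Ω₁ × Ω₂).2 ∈ P.map (MonoidHom.snd Ω₁ Ω₂) := ⟨x, x.2, rfl⟩

/-- the direct product of two fusion systems -/
def prodSystem (F₁ : FusionSystem S₁) (F₂ : FusionSystem S₂) : FusionSystem (S₁.prod S₂) where
  Hom P := {φ | IsProdMap F₁ F₂ P φ}
  le_of_mem := by
    rintro P φ ⟨hP, φ₁, hφ₁, φ₂, hφ₂, h⟩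
    refine ⟨hP, fun x => ?_⟩
    rw [h x (fst_mem_map P x) (snd_mem_map P x)]
    exact ⟨(F₁.le_of_mem hφ₁).2 _, (F₂.le_of_mem hφ₂).2 _⟩
  injective_of_mem := by
    rintro P φ ⟨hP, φ₁, hφ₁, φ₂, hφ₂, h⟩ x y hxy
    rw [h x (fst_mem_map P x) (snd_mem_map P x), h y (fst_mem_map P y) (snd_mem_map P y)] at hxy
    have h1 := F₁.injective_of_mem hφ₁ (congrArg Prod.fst hxy)
    have h2 := F₂.injective_of_mem hφ₂ (congrArg Prod.snd hxy)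
    apply Subtype.ext
    exact Prod.ext (congrArg Subtype.val h1) (congrArg Subtype.val h2)
  conj_mem := by
    intro P g hP hg
    have hP₁ : P.map (MonoidHom.fst Ω₁ Ω₂) ≤ S₁ := by
      rintro _ ⟨x, hx, rfl⟩
      exact (hP hx).1
    have hP₂ : P.map (MonoidHom.snd Ω₁ Ω₂) ≤ S₂ := by
      rintro _ ⟨x, hx, rfl⟩
      exact (hP hx).2
    refine ⟨hP, conjHom _ g.1, F₁.conj_mem hP₁ hg.1, conjHom _ g.2, F₂.conj_mem hP₂ hg.2, ?_⟩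
    intro x h₁ h₂
    rfl
  comp_mem := by
    rintro P Q φ ψ ⟨hP, φ₁, hφ₁, φ₂, hφ₂, hφ⟩ ⟨hQ, ψ₁, hψ₁, ψ₂, hψ₂, hψ⟩ hPQ
    have h1 : ∀ x : P.map (MonoidHom.fst Ω₁ Ω₂), φ₁ x ∈ Q.map (MonoidHom.fst Ω₁ Ω₂) := by
      rintro ⟨_, x, hx, rfl⟩
      refine ⟨φ ⟨x, hx⟩, hPQ ⟨x, hx⟩, ?_⟩
      rw [hφ ⟨x, hx⟩ (fst_mem_map P ⟨x, hx⟩) (snd_mem_map P ⟨x, hx⟩)]
      rfl
    have h2 : ∀ x : P.map (MonoidHom.snd Ω₁ Ω₂), φ₂ x ∈ Q.map (MonoidHom.snd Ω₁ Ω₂) := by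
      rintro ⟨_, x, hx, rfl⟩
      refine ⟨φ ⟨x, hx⟩, hPQ ⟨x, hx⟩, ?_⟩
      rw [hφ ⟨x, hx⟩ (fst_mem_map P ⟨x, hx⟩) (snd_mem_map P ⟨x, hx⟩)]
      rfl
    refine ⟨hP, _, F₁.comp_mem hφ₁ hψ₁ h1, _, F₂.comp_mem hφ₂ hψ₂ h2, ?_⟩
    intro x h₁ h₂
    show ψ ⟨φ x, hPQ x⟩ = _
    rw [hψ ⟨φ x, hPQ x⟩ (fst_mem_map Q _) (snd_mem_map Q _)]
    have e := hφ x h₁ h₂
    apply Prod.ext
    · show ψ₁ ⟨(φ x).1, _⟩ = ψ₁ ⟨φ₁ ⟨(x : Ω₁ × Ω₂).1, h₁⟩, _⟩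
      congr 2
      exact congrArg Prod.fst e
    · show ψ₂ ⟨(φ x).2, _⟩ = ψ₂ ⟨φ₂ ⟨(x : Ω₁ × Ω₂).2, h₂⟩, _⟩
      congr 2
      exact congrArg Prod.snd e
  inv_mem := by
    rintro P φ ⟨hP, φ₁, hφ₁, φ₂, hφ₂, hφ⟩
    obtain ⟨ψ₁, hψ₁, hψ₁φ⟩ := F₁.inv_mem hφ₁
    obtain ⟨ψ₂, hψ₂, hψ₂φ⟩ := F₂.inv_mem hφ₂
    have hle₁ : φ.range.map (MonoidHom.fst Ω₁ Ω₂) ≤ φ₁.range := by
      rintro _ ⟨_, ⟨x, rfl⟩, rfl⟩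
      refine ⟨⟨(x : Ω₁ × Ω₂).1, fst_mem_map P x⟩, ?_⟩
      rw [hφ x (fst_mem_map P x) (snd_mem_map P x)]
      rfl
    have hle₂ : φ.range.map (MonoidHom.snd Ω₁ Ω₂) ≤ φ₂.range := by
      rintro _ ⟨_, ⟨x, rfl⟩, rfl⟩
      refine ⟨⟨(x : Ω₁ × Ω₂).2, snd_mem_map P x⟩, ?_⟩
      rw [hφ x (fst_mem_map P x) (snd_mem_map P x)]
      rfl
    have hψ₁' := restrict_mem F₁ hψ₁ hle₁
    have hψ₂' := restrict_mem F₂ hψ₂ hle₂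
    have hrS : φ.range ≤ S₁.prod S₂ := by
      rintro _ ⟨x, rfl⟩
      rw [hφ x (fst_mem_map P x) (snd_mem_map P x)]
      exact ⟨(F₁.le_of_mem hφ₁).2 _, (F₂.le_of_mem hφ₂).2 _⟩
    let ψ : φ.range →* Ω₁ × Ω₂ :=
      { toFun := fun y => (ψ₁ (Subgroup.inclusion hle₁ ⟨(y : Ω₁ × Ω₂).1, fst_mem_map _ y⟩),
          ψ₂ (Subgroup.inclusion hle₂ ⟨(y : Ω₁ × Ω₂).2, snd_mem_map _ y⟩))
        map_one' := by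
          apply Prod.ext
          · exact map_one ψ₁
          · exact map_one ψ₂
        map_mul' := by
          intro a b
          apply Prod.ext
          · show ψ₁ _ = ψ₁ _ * ψ₁ _
            rw [← map_mul]
            rfl
          · show ψ₂ _ = ψ₂ _ * ψ₂ _
            rw [← map_mul]
            rfl }
    refine ⟨ψ, ⟨hrS, _, hψ₁', _, hψ₂', fun y h₁ h₂ => rfl⟩, ?_⟩
    intro x
    have e := hφ x (fst_mem_map P x) (snd_mem_map P x)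
    apply Prod.ext
    · show ψ₁ ⟨(φ x).1, _⟩ = (x : Ω₁ × Ω₂).1
      have := hψ₁φ ⟨(x : Ω₁ × Ω₂).1, fst_mem_map P x⟩
      refine Eq.trans ?_ this
      congr 2
      exact congrArg Prod.fst e
    · show ψ₂ ⟨(φ x).2, _⟩ = (x : Ω₁ × Ω₂).2
      have := hψ₂φ ⟨(x : Ω₁ × Ω₂).2, snd_mem_map P x⟩
      refine Eq.trans ?_ this
      congr 2
      exact congrArg Prod.snd e

theorem prodSystem_isProductSystem (F₁ : FusionSystem S₁) (F₂ : FusionSystem S₂) :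
    IsProductSystem F₁ F₂ (prodSystem F₁ F₂) :=
  fun _ _ => Iff.rfl

end Cfsg.Agent.Lib.Helper9
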