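import Cfsg.Agent.Lib.Helper7.R4C1a
import Cfsg.Agent.Lib.Helper7.R4C2a
import Cfsg.Agent.Lib.Helper7.R4C2b
import Cfsg.Agent.Lib.Helper5.R4C2c
import Cfsg.Agent.Lib.Helper1.R4A10

/-! S3814 farm, units C2d (`CaseI.exists_big`) and C2e (`CaseI.exists_Ib`). -/

set_option autoImplicit false

namespace Cfsg.Agent.Lib.Helper2.R4

variable {G : Type*} [Group G]

/-- (I.6) -/
theorem CaseI.exists_big [Finite G] {σ : Finset ℕ} {a : ℕ} {V H : Subgroup G} (h : CaseI σ a V H) :
    ∃ u ∈ σ, u ≠ a ∧ ∃ Q : Subgroup G, Q ≤ H ∧ H ≤ Subgroup.normalizer (Q : Set G) ∧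
      IsPGroup u Q ∧ E2 u Q ∧ ¬ u ∣ Q.relIndex H := by
  have mc := h.mc
  by_contra hno
  -- every core of `H` lacks `E2`
  have hnoE : ∀ p : ℕ, p.Prime → ¬ E2 p ((Cfsg.pCore p H).map H.subtype) := by
    intro p hp hE
    have hcore := h1_r4_isCoreIn_map hp H
    have hdvd : p ∣ Nat.card H := by
      have h1 : p ^ 2 ∣ Nat.card ((Cfsg.pCore p H).map H.subtype) := hE.sq_dvd_card
      have h2 : Nat.card ((Cfsg.pCore p H).map H.subtype) ∣ Nat.card H :=
        Subgroup.card_dvd_of_le hcore.1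
      exact (dvd_pow_self p two_ne_zero).trans (h1.trans h2)
    obtain ⟨hpσ, hpa⟩ := h.prime_mem hp hdvd
    exact hno ⟨p, hpσ, hpa, _, hcore.1, hcore.2.1, hcore.2.2.1, hE,
      h.sylow_of_E2 hpσ hpa hcore.1 hcore.2.1 hcore.2.2.1 hE⟩
  have hcyc : ∀ p : ℕ, p.Prime → IsCyclic (Cfsg.pCore p H) := by
    intro p hp
    have hcore := h1_r4_isCoreIn_map hp H
    have hc : IsCyclic ((Cfsg.pCore p H).map H.subtype) :=
      (h.small_core hp hcore.1 hcore.2.1 hcore.2.2.1 (hnoE p hp)).1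
    have e := Subgroup.equivMapOfInjective (Cfsg.pCore p H) H.subtype H.subtype_injective
    exact isCyclic_of_surjective e.symm e.symm.surjective
  have hsolv := mc.solv
  have hHsol : Group.IsSolvable H := inferInstance
  have hτ : ∀ p ∈ σ.erase a, p.Prime := fun p hp => mc.prime p (Finset.mem_of_mem_erase hp)
  have hE : ∀ p ∈ σ.erase a, E2 p (⊤ : Subgroup H) := by
    intro p hp
    rw [E2_top_subtype_iff]
    exact h.E2H (Finset.mem_of_mem_erase hp) (Finset.ne_of_mem_erase hp)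
  obtain ⟨g, hg⟩ := exists_prod_dvd_orderOf_of_cyclic_cores hHsol (σ.erase a) hτ hE hcyc
  have hcard : (σ.erase a).card = 3 := by
    rw [Finset.card_erase_of_mem h.ha, mc.card4]
  obtain ⟨x, y, z, hxy, hxz, hyz, heq⟩ := Finset.card_eq_three.mp hcard
  have hx : x ∈ σ := Finset.mem_of_mem_erase (by rw [heq]; simp)
  have hy : y ∈ σ := Finset.mem_of_mem_erase (by rw [heq]; simp)
  have hz : z ∈ σ := Finset.mem_of_mem_erase (by rw [heq]; simp)
  have hprod : ∏ p ∈ σ.erase a, p = x * y * z := by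
    rw [heq, Finset.prod_insert (by simp [hxy, hxz]), Finset.prod_insert (by simp [hyz]),
      Finset.prod_singleton, mul_assoc]
  refine mc.notri (g : G) ⟨x, hx, y, hy, z, hz, hxy, hxz, hyz, ?_⟩
  rw [Subgroup.orderOf_coe, ← hprod]
  exact hg

/-- (I.7) `L` := a Hall `u'`-subgroup of `H`. -/
theorem CaseI.exists_Ib [Finite G] {σ : Finset ℕ} {a : ℕ} {V H : Subgroup G} (h : CaseI σ a V H) :
    ∃ (u : ℕ) (Q L : Subgroup G), CaseIb σ a u V H Q L := by
  obtain ⟨u, hu, hua, Q, hQH, hHQ, hQu, hQE, hind⟩ := h.exists_big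
  have hup : u.Prime := h.mc.prime u hu
  have huF : Fact u.Prime := ⟨hup⟩
  have hn : (Q.subgroupOf H).Normal := (Subgroup.normal_subgroupOf_iff_le_normalizer hQH).mpr hHQ
  have hcop : Nat.Coprime (Nat.card (Q.subgroupOf H)) (Q.subgroupOf H).index := by
    have h1 : IsPGroup u (Q.subgroupOf H) := by
      apply IsPGroup.of_injective hQu (Subgroup.subgroupOfEquivOfLe hQH).toMonoidHom
      exact (Subgroup.subgroupOfEquivOfLe hQH).injective
    obtain ⟨n, hn'⟩ := IsPGroup.iff_card.mp h1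
    rw [hn']
    apply Nat.Coprime.pow_left
    rw [Nat.Prime.coprime_iff_not_dvd hup]
    exact hind
  obtain ⟨K, hK⟩ := Subgroup.exists_right_complement'_of_coprime hcop
  refine ⟨u, Q, K.map H.subtype, h, hu, hua, hQH, Subgroup.map_subtype_le K, hHQ, hQu, hQE, ?_, ?_⟩
  · -- `|L| = |H : Q|` is coprime to `u`
    have h1 : Nat.card (K.map H.subtype) = Nat.card K :=
      Subgroup.card_map_of_injective H.subtype_injective
    have h2 : (Q.subgroupOf H).index = Nat.card K := hK.symm.index_eq_card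
    rw [h1, ← h2]
    apply Nat.Coprime.symm
    rw [Nat.Prime.coprime_iff_not_dvd hup]
    exact hind
  · have h1 : (Q.subgroupOf H ⊔ K).map H.subtype = H := by
      rw [hK.sup_eq_top, ← MonoidHom.range_eq_map, Subgroup.range_subtype]
    rw [Subgroup.map_sup, Subgroup.map_subgroupOf_eq_of_le hQH] at h1
    exact h1

end Cfsg.Agent.Lib.Helper2.R4
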