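import Cfsg.Agent.Lib.Helper9.R4C3g
import Cfsg.Agent.Lib.Helper2.R4C3f
import Cfsg.Agent.Lib.Helper9.R4C2d

/-! S3814 farm, unit C3h: `CaseIb.false`, `CaseI.false`. -/

set_option autoImplicit false

namespace Cfsg.Agent.Lib.Helper2.R4

variable {G : Type*} [Group G]

theorem CaseIb.false [Finite G] {σ : Finset ℕ} {a u : ℕ} {V H Q L : Subgroup G}
    (h : CaseIb σ a u V H Q L) : False := by
  have mc := h.c1.mc
  obtain ⟨v, hv, w, hw, hvw, hva, hvu, hwa, hwu, -⟩ :=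
    mc.exists_two_others h.c1.ha h.hu (Ne.symm h.hua)
  have hvp : v.Prime := mc.prime v hv
  have hwp : w.Prime := mc.prime w hw
  obtain ⟨Pv, hPv⟩ := exists_isCoreIn hvp L
  obtain ⟨Pw, hPw⟩ := exists_isCoreIn hwp L
  by_cases hEv : E2 v Pv
  · exact h.caseA_false hv hw hva hvu hwa hwu hvw hPv.1 hPv.2.1 hPv.2.2.1 hEv
  by_cases hEw : E2 w Pw
  · exact h.caseA_false hw hv hwa hwu hva hvu (Ne.symm hvw) hPw.1 hPw.2.1 hPw.2.2.1 hEw
  exact h.caseE_false hv hw hva hvu hwa hwu hvw hPv hPw hEv hEw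

theorem CaseI.false [Finite G] {σ : Finset ℕ} {a : ℕ} {V H : Subgroup G} (h : CaseI σ a V H) :
    False := by
  obtain ⟨u, Q, L, hIb⟩ := h.exists_Ib
  exact hIb.false

end Cfsg.Agent.Lib.Helper2.R4
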