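import Cfsg.Agent.Lib.Helper9.M24H5
import Cfsg.Prelude.Def_Spor_Mathieu

set_option autoImplicit false

namespace Cfsg.Agent.Lib.Helper9.M24L1

open Cfsg Finset Cfsg.Agent.Lib.Helper9.GolayQR1 Cfsg.Agent.Lib.Helper9.GolayQR5
  Cfsg.Agent.Lib.Helper9.M24T1 Cfsg.Agent.Lib.Helper9.M24U1 Cfsg.Agent.Lib.Helper9.M24Y1
  Cfsg.Agent.Lib.Helper9.M24H5
open scoped Pointwise

theorem mem_M22 (x : Equiv.Perm GolayPt) :
    x ∈ Cfsg.Spor.M22 ↔ x ∈ M24 ∧ x none = none ∧ x (some 0) = some 0 := by
  unfold Cfsg.Spor.M22 Cfsg.Spor.M23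
  constructor
  · rintro ⟨⟨h1, h2⟩, h3⟩
    exact ⟨h1, h2, h3⟩
  · rintro ⟨h1, h2, h3⟩
    exact ⟨⟨h1, h2⟩, h3⟩

/-- the pointwise stabilizer of three points moves every other point -/
theorem exists_moving (a y : GolayPt) (ha : a ≠ none) (ha' : a ≠ some 0) (hy : y ≠ none)
    (hy' : y ≠ some 0) (hya : y ≠ a) :
    ∃ x ∈ Cfsg.Spor.M22, x a = a ∧ x y ≠ y := by
  have hcard : (univ \ ({none, some 0, a, y} : Finset GolayPt)).Nonempty := by
    apply card_pos.mp
    have h := card_le_card_sdiff_add_card (s := (univ : Finset GolayPt))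
      (t := {none, some 0, a, y})
    have h2 : ({none, some 0, a, y} : Finset GolayPt).card ≤ 4 := card_le_four
    rw [card_univ, card_golayPt] at h
    omega
  obtain ⟨y', hy''⟩ := hcard
  simp only [mem_sdiff, mem_univ, mem_insert, mem_singleton, not_or, true_and] at hy''
  obtain ⟨h1, h2, h3, h4⟩ := hy''
  have hnd : ([none, some 0, a, y] : List GolayPt).Nodup := by
    simp only [List.nodup_cons, List.mem_cons, List.not_mem_nil, or_false, not_or,
      List.nodup_nil, and_true, not_false_eq_true]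
    exact ⟨⟨by decide, ha.symm, hy.symm⟩, ⟨ha'.symm, hy'.symm⟩, hya.symm⟩
  have hnd' : ([none, some 0, a, y'] : List GolayPt).Nodup := by
    simp only [List.nodup_cons, List.mem_cons, List.not_mem_nil, or_false, not_or,
      List.nodup_nil, and_true, not_false_eq_true]
    exact ⟨⟨by decide, ha.symm, fun h => h1 h.symm⟩, ⟨ha'.symm, fun h => h2 h.symm⟩,
      fun h => h3 h.symm⟩
  obtain ⟨x, hx, hmap⟩ := exists_map_list _ _ hnd hnd' rfl (by simp)
  simp only [List.map_cons, List.map_nil, List.cons.injEq, and_true] at hmap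
  obtain ⟨e1, e2, e3, e4⟩ := hmap
  exact ⟨x, (mem_M22 x).mpr ⟨hx, e1, e2⟩, e3, by rw [e4]; exact h4⟩

theorem m22_outer (g : Equiv.Perm Cfsg.GolayPt) (hg : g ∈ Cfsg.M24) (h₁ : g none = some 0)
    (h₂ : g (some 0) = none) :
    Cfsg.Spor.M22.relIndex (Cfsg.M24 ⊓ MulAction.stabilizer (Equiv.Perm Cfsg.GolayPt)
      ({none, some 0} : Finset Cfsg.GolayPt)) = 2 ∧
    (∀ x ∈ Cfsg.Spor.M22, g * x * g⁻¹ ∈ Cfsg.Spor.M22) ∧
    ¬ ∃ h ∈ Cfsg.Spor.M22, ∀ x ∈ Cfsg.Spor.M22, g * x * g⁻¹ = h * x * h⁻¹ := by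
  have hgi0 : g⁻¹ none = some 0 := by rw [← h₂]; exact g.symm_apply_apply _
  have hgi1 : g⁻¹ (some 0) = none := by rw [← h₁]; exact g.symm_apply_apply _
  refine ⟨?_, ?_, ?_⟩
  · unfold Subgroup.relIndex
    rw [Subgroup.index_eq_two_iff]
    have hgK : g ∈ M24 ⊓ MulAction.stabilizer (Equiv.Perm GolayPt)
        ({none, some 0} : Finset GolayPt) := by
      refine ⟨hg, ?_⟩
      change g • ({none, some 0} : Finset GolayPt) = {none, some 0}
      rw [smul_pair, h₁, h₂, pair_comm]
    refine ⟨⟨g, hgK⟩, ?_⟩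
    rintro ⟨b, hb⟩
    have hbM : b ∈ M24 := hb.1
    have hb2 : b • ({none, some 0} : Finset GolayPt) = {none, some 0} :=
      MulAction.mem_stabilizer_iff.mp hb.2
    rw [smul_pair] at hb2
    have hb0 : b none = none ∨ b none = some 0 := by
      have : b none ∈ ({b none, b (some 0)} : Finset GolayPt) := by simp
      rw [hb2] at this
      simpa using this
    rw [Subgroup.mem_subgroupOf, Subgroup.mem_subgroupOf]
    change Xor' (b * g ∈ Cfsg.Spor.M22) (b ∈ Cfsg.Spor.M22)
    rw [mem_M22, mem_M22, Equiv.Perm.mul_apply, Equiv.Perm.mul_apply, h₁, h₂]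
    rcases hb0 with h0 | h0
    · -- `b` fixes both points
      have h1 : b (some 0) = some 0 := by
        have : b (some 0) ∈ ({b none, b (some 0)} : Finset GolayPt) := by simp
        rw [hb2] at this
        simp only [mem_insert, mem_singleton] at this
        rcases this with h | h
        · exact absurd (b.injective (h.trans h0.symm)) (by decide)
        · exact h
      right
      refine ⟨⟨hbM, h0, h1⟩, ?_⟩
      rintro ⟨-, h, -⟩
      exact absurd (h1.symm.trans h) (by decide)
    · have h1 : b (some 0) = none := by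
        have : b (some 0) ∈ ({b none, b (some 0)} : Finset GolayPt) := by simp
        rw [hb2] at this
        simp only [mem_insert, mem_singleton] at this
        rcases this with h | h
        · exact h
        · exact absurd (b.injective (h.trans h0.symm)) (by decide)
      left
      refine ⟨⟨M24.mul_mem hbM hg, h1, h0⟩, ?_⟩
      rintro ⟨-, h, -⟩
      exact absurd (h0.symm.trans h) (by decide)
  · intro x hx
    rw [mem_M22] at hx ⊢
    refine ⟨M24.mul_mem (M24.mul_mem hg hx.1) (M24.inv_mem hg), ?_, ?_⟩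
    · rw [Equiv.Perm.mul_apply, Equiv.Perm.mul_apply, hgi0, hx.2.2, h₂]
    · rw [Equiv.Perm.mul_apply, Equiv.Perm.mul_apply, hgi1, hx.2.1, h₁]
  · rintro ⟨h, hh, hall⟩
    have hh' := (mem_M22 h).mp hh
    have hhi0 : h⁻¹ none = none := by
      conv_lhs => rw [← hh'.2.1]
      exact h.symm_apply_apply _
    have hhi1 : h⁻¹ (some 0) = some 0 := by
      conv_lhs => rw [← hh'.2.2]
      exact h.symm_apply_apply _
    -- `c` centralizes `M22` and swaps the two points
    have hcM : h⁻¹ * g ∈ M24 := M24.mul_mem (M24.inv_mem hh'.1) hg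
    have hc0 : (h⁻¹ * g) none = some 0 := by rw [Equiv.Perm.mul_apply, h₁, hhi1]
    have hc1 : (h⁻¹ * g) (some 0) = none := by rw [Equiv.Perm.mul_apply, h₂, hhi0]
    have hcomm : ∀ x ∈ Cfsg.Spor.M22, (h⁻¹ * g) * x = x * (h⁻¹ * g) := by
      intro x hx
      have e := hall x hx
      have : h⁻¹ * g * x = h⁻¹ * (g * x * g⁻¹) * g := by group
      rw [this, e]
      group
    have hfix : ∀ a : GolayPt, a ≠ none → a ≠ some 0 → (h⁻¹ * g) a = a := by
      intro a ha ha'
      by_contra hne
      have hy0 : (h⁻¹ * g) a ≠ none := by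
        intro e
        rw [← hc1] at e
        exact ha' ((h⁻¹ * g).injective e)
      have hy1 : (h⁻¹ * g) a ≠ some 0 := by
        intro e
        rw [← hc0] at e
        exact ha ((h⁻¹ * g).injective e)
      obtain ⟨x, hx, hxa, hxy⟩ := exists_moving a ((h⁻¹ * g) a) ha ha' hy0 hy1 hne
      apply hxy
      have := congrArg (fun f : Equiv.Perm GolayPt => f a) (hcomm x hx)
      simp only [Equiv.Perm.mul_apply] at this
      rw [hxa] at this
      exact this.symm
    have hcc : (h⁻¹ * g) * (h⁻¹ * g) = 1 := by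
      apply Equiv.ext
      intro p
      rw [Equiv.Perm.mul_apply, Equiv.Perm.one_apply]
      by_cases hp : p = none
      · rw [hp, hc0, hc1]
      · by_cases hp' : p = some 0
        · rw [hp', hc1, hc0]
        · rw [hfix p hp hp', hfix p hp hp']
    have hc1' : (h⁻¹ * g) ≠ 1 := by
      intro e
      rw [e, Equiv.Perm.one_apply] at hc0
      exact absurd hc0 (by decide)
    have hord : orderOf (h⁻¹ * g) = 2 := orderOf_eq_prime (by rw [pow_two]; exact hcc) hc1'
    have hsub : (univ \ ({none, some 0} : Finset GolayPt)) ⊆ Fix (h⁻¹ * g) := by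
      intro p hp
      simp only [mem_sdiff, mem_univ, mem_insert, mem_singleton, not_or, true_and] at hp
      rw [mem_Fix]
      exact hfix p hp.1 hp.2
    have hc22 : 22 ≤ (Fix (h⁻¹ * g)).card := by
      refine le_trans ?_ (card_le_card hsub)
      decide
    rcases invol_cases _ hcM hord with ⟨-, -, -, -, h8⟩ | ⟨-, -, -, he⟩
    · omega
    · rw [he] at hc22
      simp at hc22

end Cfsg.Agent.Lib.Helper9.M24L1
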