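import Cfsg.Agent.Lib.Helper9.M24P7
import Cfsg.Agent.Lib.Helper9.M24P6

set_option autoImplicit false

namespace Cfsg.Agent.Lib.Helper9.M24P9

open Cfsg Finset Cfsg.Agent.Lib.Helper9.Golay1 Cfsg.Agent.Lib.Helper9.GolayQR1
  Cfsg.Agent.Lib.Helper9.GolayQR5 Cfsg.Agent.Lib.Helper9.GolayQR6
  Cfsg.Agent.Lib.Helper9.M24T1 Cfsg.Agent.Lib.Helper9.M24T6 Cfsg.Agent.Lib.Helper9.M24T9
  Cfsg.Agent.Lib.Helper9.M24T10 Cfsg.Agent.Lib.Helper9.M24T11 Cfsg.Agent.Lib.Helper9.M24U1
  Cfsg.Agent.Lib.Helper9.M24X1 Cfsg.Agent.Lib.Helper9.M24Y4 Cfsg.Agent.Lib.Helper9.M24F7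
  Cfsg.Agent.Lib.Helper9.M24P1 Cfsg.Agent.Lib.Helper9.M24P6 Cfsg.Agent.Lib.Helper9.M24P7
open scoped Pointwise

/-- an element of order four of `M12` fixing four points of the dodecad of squares and no point
outside it -/
def hq : Equiv.Perm GolayPt :=
  tperm [2, 12, 1, 18, 8, 15, 6, 23, 3, 9, 11, 7, 0, 13, 21, 5, 16, 19, 4, 22, 17, 14, 20, 10]
    [12, 2, 0, 8, 18, 15, 6, 11, 4, 9, 23, 10, 1, 13, 21, 5, 16, 20, 3, 17, 22, 14, 19, 7]
    (by decide +kernel) (by decide +kernel)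

theorem hq_mem : hq ∈ M24 := tperm_mem _ _ _ _ (by decide +kernel) (by decide +kernel)

def Lsq : List GolayPt := [some 0, some 1, some 2, some 3, some 4, some 6, some 8, some 9,
  some 12, some 13, some 16, some 18]

theorem mem_sq : ∀ p : GolayPt, p ∈ Spor.squareDodecad ↔ p ∈ Lsq := by decide +kernel

theorem hq_iff : ∀ x : GolayPt, hq x ∈ Lsq ↔ x ∈ Lsq := by decide +kernel

theorem hq_fix : hq (some 6) = some 6 := by decide +kernel

theorem hq_nofix : ∀ x : GolayPt, x ∉ Lsq → hq x ≠ x := by decide +kernel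

theorem hq_stab : hq ∈ stabF Spor.squareDodecad := by
  rw [mem_stabF, stab_iff]
  refine ⟨hq_mem, fun x => ?_⟩
  rw [mem_sq, mem_sq]
  exact hq_iff x

theorem mem_conj_smul (g x : Equiv.Perm GolayPt) (H : Subgroup (Equiv.Perm GolayPt)) :
    x ∈ MulAut.conj g • H ↔ g⁻¹ * x * g ∈ H := by
  rw [Subgroup.mem_pointwise_smul_iff_inv_smul_mem]
  simp [MulAut.smul_def]

/-- conjugating the stabilizer of a set and a point -/
theorem conj_stab (g : Equiv.Perm GolayPt) (hg : g ∈ M24) (d : Finset GolayPt) (a : GolayPt) :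
    MulAut.conj g • (stabF d ⊓ MulAction.stabilizer (Equiv.Perm GolayPt) a) =
      stabF (g • d) ⊓ MulAction.stabilizer (Equiv.Perm GolayPt) (g a) := by
  ext x
  rw [mem_conj_smul, Subgroup.mem_inf, Subgroup.mem_inf, mem_stabF, mem_stabF,
    MulAction.mem_stabilizer_iff, MulAction.mem_stabilizer_iff]
  constructor
  · rintro ⟨⟨h1, h2⟩, h3⟩
    refine ⟨⟨?_, ?_⟩, ?_⟩
    · have := M24.mul_mem (M24.mul_mem hg h1) (M24.inv_mem hg)
      have e : g * (g⁻¹ * x * g) * g⁻¹ = x := by group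
      rwa [e] at this
    · rw [mul_smul, mul_smul] at h2
      have := congrArg (fun s => g • s) h2
      simp only [smul_inv_smul] at this
      exact this
    · change (g⁻¹ * x * g) a = a at h3
      rw [Equiv.Perm.mul_apply, Equiv.Perm.mul_apply] at h3
      have := congrArg g h3
      rw [app_inv] at this
      exact this
  · rintro ⟨⟨h1, h2⟩, h3⟩
    refine ⟨⟨M24.mul_mem (M24.mul_mem (M24.inv_mem hg) h1) hg, ?_⟩, ?_⟩
    · rw [mul_smul, mul_smul, h2, inv_smul_smul]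
    · change (g⁻¹ * x * g) a = a
      rw [Equiv.Perm.mul_apply, Equiv.Perm.mul_apply]
      change x (g a) = g a at h3
      rw [h3, inv_app]

theorem none_notMem : (none : GolayPt) ∉ Spor.squareDodecad := by
  rw [mem_sq]
  decide

theorem M12_eq : Spor.M12 = stabF Spor.squareDodecad := rfl

/-- an element of `M24` swapping the dodecad of squares with its complement and mapping `0`
to the extra point -/
theorem exists_swap : ∃ g ∈ M24, g • Spor.squareDodecad = (Spor.squareDodecad)ᶜ ∧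
    g (some 0) = none := by
  have hd := sq_mem
  have hd' := compl_mem_dodecads _ hd
  obtain ⟨g₁, hg₁, h1⟩ := dodecad_transitive _ _ hd hd'
  have hm : g₁ (some 0) ∈ (Spor.squareDodecad)ᶜ := by
    rw [← h1]
    exact (smul_mem_iff g₁ _ _).mpr zero_mem_sq
  obtain ⟨h, hh, hh0⟩ := transitive_on_dodecad _ hd' (g₁ (some 0)) none hm
    (mem_compl.mpr none_notMem)
  have hh' := (mem_stabF _ h).mp hh
  refine ⟨h * g₁, M24.mul_mem hh'.1 hg₁, ?_, ?_⟩
  · rw [mul_smul, h1, hh'.2]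
  · rw [Equiv.Perm.mul_apply, hh0]

theorem conj_eq (g : Equiv.Perm GolayPt) (hg : g ∈ M24)
    (h1 : g • Spor.squareDodecad = (Spor.squareDodecad)ᶜ) (h2 : g (some 0) = none) :
    MulAut.conj g • Spor.M11 =
      Spor.M12 ⊓ MulAction.stabilizer (Equiv.Perm GolayPt) (none : GolayPt) := by
  rw [M11_eq, conj_stab g hg, h1, h2, stabF_compl, M12_eq]

theorem not_conj : ¬ ∃ k ∈ Spor.M12, MulAut.conj k • Spor.M11 =
    Spor.M12 ⊓ MulAction.stabilizer (Equiv.Perm GolayPt) (none : GolayPt) := by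
  rintro ⟨k, hk, he⟩
  rw [M12_eq] at hk he
  have hk' := (mem_stabF _ k).mp hk
  rw [M11_eq, conj_stab k hk'.1, hk'.2] at he
  have hx : k (some 0) ∈ Spor.squareDodecad := by
    have := (smul_mem_iff k (some 0) Spor.squareDodecad).mpr zero_mem_sq
    rwa [hk'.2] at this
  have h6 : (some 6 : GolayPt) ∈ Spor.squareDodecad := by
    rw [mem_sq]; decide
  obtain ⟨m, hm, hm6⟩ := transitive_on_dodecad _ sq_mem (some 6) (k (some 0)) h6 hx
  have hm' := (mem_stabF _ m).mp hm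
  have hmem : m * hq * m⁻¹ ∈ stabF Spor.squareDodecad ⊓
      MulAction.stabilizer (Equiv.Perm GolayPt) (k (some 0)) := by
    rw [Subgroup.mem_inf, MulAction.mem_stabilizer_iff]
    refine ⟨(stabF _).mul_mem ((stabF _).mul_mem hm hq_stab) ((stabF _).inv_mem hm), ?_⟩
    change (m * hq * m⁻¹) (k (some 0)) = k (some 0)
    rw [Equiv.Perm.mul_apply, Equiv.Perm.mul_apply, ← hm6, inv_app, hq_fix]
  rw [he, Subgroup.mem_inf, MulAction.mem_stabilizer_iff] at hmem
  have h3 : (m * hq * m⁻¹) none = none := hmem.2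
  rw [Equiv.Perm.mul_apply, Equiv.Perm.mul_apply] at h3
  have h4 : hq (m⁻¹ none) = m⁻¹ none := by
    have := congrArg (fun y => m⁻¹ y) h3
    simp only [inv_app] at this
    exact this
  have h5 : m⁻¹ none ∉ Spor.squareDodecad := by
    intro hin
    have := (smul_mem_iff m (m⁻¹ none) Spor.squareDodecad).mpr hin
    rw [hm'.2, app_inv] at this
    exact none_notMem this
  rw [mem_sq] at h5
  exact hq_nofix _ h5 h4

theorem main :
    Nonempty (↥(Spor.M12 ⊓ MulAction.stabilizer (Equiv.Perm GolayPt) (none : GolayPt)) ≃*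
      ↥Spor.M11) ∧
    (¬ ∃ k ∈ Spor.M12, MulAut.conj k • Spor.M11 =
      Spor.M12 ⊓ MulAction.stabilizer (Equiv.Perm GolayPt) (none : GolayPt)) ∧
    ∃ g ∈ M24, g • Spor.squareDodecad = Finset.univ \ Spor.squareDodecad ∧
      MulAut.conj g • Spor.M11 =
        Spor.M12 ⊓ MulAction.stabilizer (Equiv.Perm GolayPt) (none : GolayPt) := by
  obtain ⟨g, hg, h1, h2⟩ := exists_swap
  have he := conj_eq g hg h1 h2
  refine ⟨?_, not_conj, g, hg, ?_, he⟩
  · have e1 := Subgroup.equivSMul (MulAut.conj g) Spor.M11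
    have e2 := MulEquiv.subgroupCongr he
    exact ⟨(e1.trans e2).symm⟩
  · rw [h1, Finset.compl_eq_univ_sdiff]

end Cfsg.Agent.Lib.Helper9.M24P9
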