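import Cfsg.Agent.Lib.Helper9.M24T9

set_option autoImplicit false

namespace Cfsg.Agent.Lib.Helper9.M24T10

open Cfsg Finset Cfsg.Agent.Lib.Helper9.Golay1 Cfsg.Agent.Lib.Helper9.GolayQR1
  Cfsg.Agent.Lib.Helper9.GolayQR3 Cfsg.Agent.Lib.Helper9.GolayQR5 Cfsg.Agent.Lib.Helper9.GolayQR6
  Cfsg.Agent.Lib.Helper9.GolayQR7
  Cfsg.Agent.Lib.Helper9.M24T1 Cfsg.Agent.Lib.Helper9.M24T2 Cfsg.Agent.Lib.Helper9.M24T3
  Cfsg.Agent.Lib.Helper9.M24T4 Cfsg.Agent.Lib.Helper9.M24T5 Cfsg.Agent.Lib.Helper9.M24T6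
  Cfsg.Agent.Lib.Helper9.M24T7 Cfsg.Agent.Lib.Helper9.M24T8 Cfsg.Agent.Lib.Helper9.M24T9
  Cfsg.Agent.Lib.Helper9.Chain1 Cfsg.Agent.Lib.Helper9.Chain2
open scoped Pointwise

/-- the stabilizer of a set in `↥M24` has the same size as `stabF` -/
theorem card_stabilizer_finset (d : Finset GolayPt) :
    Nat.card (MulAction.stabilizer M24 d) = Nat.card (stabF d) := by
  apply Nat.card_congr
  exact
    { toFun := fun x => ⟨x.1.1, (mem_stabF d _).mpr ⟨x.1.2, MulAction.mem_stabilizer_iff.mp x.2⟩⟩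
      invFun := fun y => ⟨⟨y.1, ((mem_stabF d _).mp y.2).1⟩,
        MulAction.mem_stabilizer_iff.mpr ((mem_stabF d _).mp y.2).2⟩
      left_inv := fun x => rfl
      right_inv := fun y => rfl }

theorem orbit_subset (d : Finset GolayPt) (hd : d ∈ dodecads) :
    MulAction.orbit M24 d ⊆ dodecads := by
  rintro _ ⟨g, rfl⟩
  exact smul_dodecad_mem g.1 g.2 d hd

theorem orbit_stab (d : Finset GolayPt) :
    Nat.card (MulAction.orbit M24 d) * Nat.card (stabF d) = 244823040 := by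
  rw [← card_stabilizer_finset, ← Nat.card_prod,
    Nat.card_congr (MulAction.orbitProdStabilizerEquivGroup M24 d), card_M24]

theorem card_orbit_le (d : Finset GolayPt) (hd : d ∈ dodecads) :
    Nat.card (MulAction.orbit M24 d) ≤ 2576 := by
  rw [Nat.card_coe_set_eq, ← card_dodecads]
  exact Set.ncard_le_ncard (orbit_subset d hd) (Set.toFinite _)

theorem card_stabF_D12 : Nat.card (stabF D12) = 95040 ∧
    Nat.card (MulAction.orbit M24 D12) = 2576 := by
  have h1 := orbit_stab D12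
  have h2 := card_orbit_le D12 D12_mem
  have h3 := card_stabF_le
  generalize Nat.card (MulAction.orbit M24 D12) = a at h1 h2 ⊢
  generalize Nat.card (stabF D12) = b at h1 h3 ⊢
  have h4 : a * b ≤ 2576 * b := Nat.mul_le_mul_right _ h2
  have h5 : 95040 ≤ b := by
    by_contra hlt
    have : 2576 * b ≤ 2576 * 95039 := Nat.mul_le_mul_left _ (by omega)
    omega
  have h6 : b = 95040 := le_antisymm h3 h5
  subst h6
  exact ⟨rfl, by omega⟩

theorem orbit_D12 : MulAction.orbit M24 D12 = dodecads := by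
  apply Set.eq_of_subset_of_ncard_le (orbit_subset D12 D12_mem) ?_ (Set.toFinite _)
  rw [card_dodecads, ← Nat.card_coe_set_eq, card_stabF_D12.2]

/-- every dodecad is an image of the standard one -/
theorem exists_smul_D12 (d : Finset GolayPt) (hd : d ∈ dodecads) : ∃ g ∈ M24, g • D12 = d := by
  rw [← orbit_D12] at hd
  obtain ⟨g, rfl⟩ := hd
  exact ⟨g.1, g.2, rfl⟩

theorem dodecad_transitive (d d' : Finset GolayPt) (hd : d ∈ dodecads) (hd' : d' ∈ dodecads) :
    ∃ g ∈ M24, g • d = d' := by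
  obtain ⟨g, hg, rfl⟩ := exists_smul_D12 d hd
  obtain ⟨g', hg', rfl⟩ := exists_smul_D12 d' hd'
  refine ⟨g' * g⁻¹, M24.mul_mem hg' (M24.inv_mem hg), ?_⟩
  rw [mul_smul, inv_smul_smul]

theorem card_stabF (d : Finset GolayPt) (hd : d ∈ dodecads) : Nat.card (stabF d) = 95040 := by
  have h1 := orbit_stab d
  have h2 : MulAction.orbit M24 d = MulAction.orbit M24 D12 := by
    rw [MulAction.orbit_eq_iff, orbit_D12]
    exact hd
  rw [h2, card_stabF_D12.2] at h1
  generalize Nat.card (stabF d) = b at h1 ⊢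
  omega

end Cfsg.Agent.Lib.Helper9.M24T10
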