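import Cfsg.Agent.Lib.Helper9.Steiner5

set_option autoImplicit false
set_option linter.unusedSectionVars false

namespace Cfsg.Agent.Lib.Helper9.Steiner6

open Finset Cfsg.Agent.Lib.Helper9.Steiner1 Cfsg.Agent.Lib.Helper9.Steiner3
  Cfsg.Agent.Lib.Helper9.Steiner5

variable {α : Type*} [Fintype α] [DecidableEq α]

/-- general binomial moment identity in a Steiner system -/
theorem moment (t k : ℕ) (Bf : Finset (Finset α))
    (hB : Cfsg.IsSteinerSystem t k (Bf : Set (Finset α))) (Y : Finset α) (j : ℕ) (hj : j ≤ t)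
    (lam : ℕ) (hlam : lam * (k - j).choose (t - j) = (Fintype.card α - j).choose (t - j))
    (hpos : 0 < (k - j).choose (t - j)) :
    ∑ b ∈ Bf, ((b ∩ Y).card).choose j = Y.card.choose j * lam := by
  rw [sum_choose_inter_eq, sum_congr rfl (g := fun _ => lam), sum_const, smul_eq_mul,
    card_powersetCard]
  intro Z hZ
  have hZj : Z.card = j := (mem_powersetCard.mp hZ).2
  have := card_blocks_through t k Bf hB Z (by omega)
  rw [hZj, ← hlam] at this
  exact Nat.eq_of_mul_eq_mul_right hpos this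

/-- two blocks of a Steiner system with at least `t` common points coincide -/
theorem block_eq_of_ge (t k : ℕ) (Bf : Finset (Finset α))
    (hB : Cfsg.IsSteinerSystem t k (Bf : Set (Finset α))) (b c : Finset α) (hb : b ∈ Bf)
    (hc : c ∈ Bf) (h5 : t ≤ (b ∩ c).card) : b = c := by
  obtain ⟨s, hs, hst⟩ := exists_subset_card_eq h5
  obtain ⟨x, -, hx⟩ := hB.2 s hst
  have h1 := hx b ⟨mem_coe.mpr hb, hs.trans inter_subset_left⟩
  have h2 := hx c ⟨mem_coe.mpr hc, hs.trans inter_subset_right⟩
  rw [h1, h2]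

theorem filter_self_card (t k : ℕ) (ht : t ≤ k) (Bf : Finset (Finset α))
    (hB : Cfsg.IsSteinerSystem t k (Bf : Set (Finset α))) (b : Finset α) (hb : b ∈ Bf) :
    (Bf.filter (fun c => (c ∩ b).card = k)).card = 1 := by
  have hbk : b.card = k := hB.1 b (mem_coe.mpr hb)
  rw [card_eq_one]
  refine ⟨b, ?_⟩
  ext c
  rw [mem_filter, mem_singleton]
  constructor
  · rintro ⟨hc, hck⟩
    exact block_eq_of_ge t k Bf hB c b hc hb (by omega)
  · rintro rfl
    exact ⟨hb, by rw [inter_self, hbk]⟩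

theorem filter_mid_card (t k : ℕ) (Bf : Finset (Finset α))
    (hB : Cfsg.IsSteinerSystem t k (Bf : Set (Finset α))) (b : Finset α) (hb : b ∈ Bf)
    (i : ℕ) (hi : t ≤ i) (hik : i ≠ k) :
    (Bf.filter (fun c => (c ∩ b).card = i)).card = 0 := by
  have hbk : b.card = k := hB.1 b (mem_coe.mpr hb)
  rw [card_eq_zero, filter_eq_empty_iff]
  intro c hc hck
  have := block_eq_of_ge t k Bf hB c b hc hb (by omega)
  rw [this, inter_self, hbk] at hck
  exact hik hck.symm

/-- S(4,7,23): distinct blocks meet in 1 or 3 points -/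
theorem block_inter_4_7_23 (hα : Fintype.card α = 23) {B : Set (Finset α)}
    (hB : Cfsg.IsSteinerSystem 4 7 B) {b c : Finset α} (hb : b ∈ B) (hc : c ∈ B) (hbc : b ≠ c) :
    (b ∩ c).card = 1 ∨ (b ∩ c).card = 3 := by
  obtain ⟨Bf, rfl⟩ := exists_finset B
  rw [mem_coe] at hb hc
  have hc7 : c.card = 7 := hB.1 c (mem_coe.mpr hc)
  have m0 := moment 4 7 Bf hB c 0 (by omega) 253 (by rw [hα]; decide) (by decide)
  have m1 := moment 4 7 Bf hB c 1 (by omega) 77 (by rw [hα]; decide) (by decide)
  have m2 := moment 4 7 Bf hB c 2 (by omega) 21 (by rw [hα]; decide) (by decide)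
  have m3 := moment 4 7 Bf hB c 3 (by omega) 5 (by rw [hα]; decide) (by decide)
  rw [sum_fiber_inter Bf c 7 (by omega) (fun k => k.choose 0)] at m0
  rw [sum_fiber_inter Bf c 7 (by omega) (fun k => k.choose 1)] at m1
  rw [sum_fiber_inter Bf c 7 (by omega) (fun k => k.choose 2)] at m2
  rw [sum_fiber_inter Bf c 7 (by omega) (fun k => k.choose 3)] at m3
  simp only [sum_range_succ, sum_range_zero] at m0 m1 m2 m3
  rw [filter_mid_card 4 7 Bf hB c hc 4 (by omega) (by omega),
    filter_mid_card 4 7 Bf hB c hc 5 (by omega) (by omega),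
    filter_mid_card 4 7 Bf hB c hc 6 (by omega) (by omega),
    filter_self_card 4 7 (by omega) Bf hB c hc, hc7] at m0 m1 m2 m3
  have hlt : (b ∩ c).card < 4 := by
    by_contra h
    exact hbc (block_eq_of_ge 4 7 Bf hB b c hb hc (by omega))
  have hmem : ∀ i, (b ∩ c).card = i → 0 < (Bf.filter (fun x => (x ∩ c).card = i)).card := by
    intro i hi
    exact card_pos.mpr ⟨b, mem_filter.mpr ⟨hb, hi⟩⟩
  have h0 := hmem 0
  have h2 := hmem 2
  generalize (Bf.filter (fun x => (x ∩ c).card = 0)).card = c0 at *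
  generalize (Bf.filter (fun x => (x ∩ c).card = 1)).card = c1 at *
  generalize (Bf.filter (fun x => (x ∩ c).card = 2)).card = c2 at *
  generalize (Bf.filter (fun x => (x ∩ c).card = 3)).card = c3 at *
  norm_num [Nat.choose] at m0 m1 m2 m3
  have e0 : c0 = 0 := by omega
  have e2 : c2 = 0 := by omega
  by_contra hcon
  push Not at hcon
  have : (b ∩ c).card = 0 ∨ (b ∩ c).card = 2 := by omega
  rcases this with h | h
  · have := h0 h; omega
  · have := h2 h; omega

end Cfsg.Agent.Lib.Helper9.Steiner6
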