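import Cfsg.Agent.Lib.Helper9.Steiner5

set_option autoImplicit false
set_option linter.unusedSectionVars false

/-! In an `S(5,8,24)`, the symmetric difference of two blocks meeting in four points is a block. -/

namespace Cfsg.Agent.Lib.Helper9.Steiner9

open Finset Cfsg.Agent.Lib.Helper9.Steiner5

variable {α : Type*} [Fintype α] [DecidableEq α]

theorem eq_of_five {B : Set (Finset α)} (hB : Cfsg.IsSteinerSystem 5 8 B) {O O' : Finset α}
    (hO : O ∈ B) (hO' : O' ∈ B) (h : 5 ≤ (O ∩ O').card) : O = O' := by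
  obtain ⟨s, hs, hs5⟩ := exists_subset_card_eq h
  obtain ⟨x, -, hx⟩ := hB.2 s hs5
  rw [hx O ⟨hO, hs.trans inter_subset_left⟩, hx O' ⟨hO', hs.trans inter_subset_right⟩]

theorem card_inter_split (O b c : Finset α) :
    (O ∩ b).card = (O ∩ (b \ c)).card + (O ∩ (b ∩ c)).card := by
  have := card_sdiff_add_card_inter (O ∩ b) c
  rw [inter_sdiff_assoc, inter_assoc] at this
  exact this.symm

theorem symm_block (hα : Fintype.card α = 24) {B : Set (Finset α)}
    (hB : Cfsg.IsSteinerSystem 5 8 B) {b c : Finset α} (hb : b ∈ B) (hc : c ∈ B)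
    (h4 : (b ∩ c).card = 4) : symmDiff b c ∈ B := by
  by_contra hne
  have hb8 : b.card = 8 := hB.1 b hb
  have hc8 : c.card = 8 := hB.1 c hc
  have hU : (b \ c).card = 4 := by
    have := card_sdiff_add_card_inter b c
    omega
  have hV : (c \ b).card = 4 := by
    have := card_sdiff_add_card_inter c b
    rw [inter_comm] at this
    omega
  have hsd : symmDiff b c = (b \ c) ∪ (c \ b) := rfl
  have hUV : Disjoint (b \ c) (c \ b) := by
    rw [disjoint_left]
    intro x hx hx'
    exact (mem_sdiff.mp hx').2 (mem_sdiff.mp hx).1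
  have hUVcard : ((b \ c) ∪ (c \ b)).card = 8 := by
    rw [card_union_of_disjoint hUV, hU, hV]
  -- Lemma A
  have lemA : ∀ i ∈ c \ b, ∀ O ∈ B, b \ c ⊆ O → i ∈ O →
      (O ∩ (c \ b)).card = 2 ∧ O ∩ (b ∩ c) = ∅ := by
    intro i hi O hO hUO hiO
    have hOb : O ≠ b := by
      intro h
      rw [h] at hiO
      exact (mem_sdiff.mp hi).2 hiO
    have hge : 4 ≤ (O ∩ b).card := by
      rw [← hU]
      exact card_le_card (subset_inter hUO sdiff_subset)
    have hOb4 : (O ∩ b).card = 4 := by
      rcases block_inter hα hB hO hb hOb with h | h | h <;> omega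
    have hOU : O ∩ (b \ c) = b \ c := inter_eq_right.mpr hUO
    have hOT : O ∩ (b ∩ c) = ∅ := by
      have := card_inter_split O b c
      rw [hOU, hU, hOb4] at this
      exact card_eq_zero.mp (by omega)
    refine ⟨?_, hOT⟩
    have hOc : O ≠ c := by
      intro h
      have hne' : (b \ c).Nonempty := card_pos.mp (by omega)
      obtain ⟨x, hx⟩ := hne'
      have := hUO hx
      rw [h] at this
      exact (mem_sdiff.mp hx).2 this
    have hsplit := card_inter_split O c b
    rw [inter_comm c b, hOT, card_empty, add_zero] at hsplit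
    have hpos : 0 < (O ∩ (c \ b)).card := card_pos.mpr ⟨i, mem_inter.mpr ⟨hiO, hi⟩⟩
    rcases block_inter hα hB hO hc hOc with h | h | h
    · omega
    · omega
    · exfalso
      rw [hsplit] at h
      have hVO : c \ b ⊆ O := by
        have : O ∩ (c \ b) = c \ b :=
          eq_of_subset_of_card_le inter_subset_right (by rw [h, hV])
        exact inter_eq_right.mp this
      have hsub : (b \ c) ∪ (c \ b) ⊆ O := union_subset hUO hVO
      have : (b \ c) ∪ (c \ b) = O :=
        eq_of_subset_of_card_le hsub (by rw [hUVcard, hB.1 O hO])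
      apply hne
      rw [hsd, this]
      exact hO
  -- blocks through 5-sets
  have blk : ∀ s : Finset α, s.card = 5 → ∃ O ∈ B, s ⊆ O := by
    intro s hs
    obtain ⟨O, hO, -⟩ := hB.2 s hs
    exact ⟨O, hO.1, hO.2⟩
  -- choose i
  obtain ⟨i, hi⟩ : (c \ b).Nonempty := card_pos.mp (by omega)
  have hiU : i ∉ b \ c := fun h => disjoint_left.mp hUV h hi
  obtain ⟨O3, hO3, hsO3⟩ := blk (insert i (b \ c)) (by rw [card_insert_of_notMem hiU, hU])
  have hUO3 : b \ c ⊆ O3 := (subset_insert _ _).trans hsO3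
  have hiO3 : i ∈ O3 := hsO3 (mem_insert_self _ _)
  obtain ⟨h3V, h3T⟩ := lemA i hi O3 hO3 hUO3 hiO3
  -- choose k
  obtain ⟨k, hk⟩ : ((c \ b) \ O3).Nonempty := by
    apply card_pos.mp
    have := card_sdiff_add_card_inter (c \ b) O3
    rw [inter_comm, h3V, hV] at this
    omega
  have hkV : k ∈ c \ b := (mem_sdiff.mp hk).1
  have hkO3 : k ∉ O3 := (mem_sdiff.mp hk).2
  have hkU : k ∉ b \ c := fun h => disjoint_left.mp hUV h hkV
  obtain ⟨O4, hO4, hsO4⟩ := blk (insert k (b \ c)) (by rw [card_insert_of_notMem hkU, hU])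
  have hUO4 : b \ c ⊆ O4 := (subset_insert _ _).trans hsO4
  have hkO4 : k ∈ O4 := hsO4 (mem_insert_self _ _)
  obtain ⟨h4V, h4T⟩ := lemA k hkV O4 hO4 hUO4 hkO4
  have hO34 : O3 ≠ O4 := by
    intro h
    rw [h] at hkO3
    exact hkO3 hkO4
  -- O3 ∩ V and O4 ∩ V are disjoint
  have hdisj : Disjoint (O3 ∩ (c \ b)) (O4 ∩ (c \ b)) := by
    rw [disjoint_left]
    intro x hx3 hx4
    apply hO34
    apply eq_of_five hB hO3 hO4
    have hxU : x ∉ b \ c := fun h => disjoint_left.mp hUV h (mem_inter.mp hx3).2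
    have hsub : insert x (b \ c) ⊆ O3 ∩ O4 := by
      intro y hy
      rcases mem_insert.mp hy with rfl | hy
      · exact mem_inter.mpr ⟨(mem_inter.mp hx3).1, (mem_inter.mp hx4).1⟩
      · exact mem_inter.mpr ⟨hUO3 hy, hUO4 hy⟩
    calc 5 = (insert x (b \ c)).card := by rw [card_insert_of_notMem hxU, hU]
      _ ≤ _ := card_le_card hsub
  have hcover : (O3 ∩ (c \ b)) ∪ (O4 ∩ (c \ b)) = c \ b := by
    apply eq_of_subset_of_card_le (union_subset inter_subset_right inter_subset_right)
    rw [card_union_of_disjoint hdisj, h3V, h4V, hV]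
  have hiO4 : i ∉ O4 := by
    intro h
    exact disjoint_left.mp hdisj (mem_inter.mpr ⟨hiO3, hi⟩) (mem_inter.mpr ⟨h, hi⟩)
  -- choose U' of size 3 in U
  obtain ⟨U', hU'sub, hU'card⟩ := exists_subset_card_eq (show 3 ≤ (b \ c).card by omega)
  have hik : i ≠ k := fun h => hkO3 (h ▸ hiO3)
  have hiU' : i ∉ U' := fun h => hiU (hU'sub h)
  have hkU' : k ∉ U' := fun h => hkU (hU'sub h)
  obtain ⟨O5, hO5, hsO5⟩ := blk (insert i (insert k U')) (by
    rw [card_insert_of_notMem (by
      intro h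
      rcases mem_insert.mp h with h | h
      · exact hik h
      · exact hiU' h), card_insert_of_notMem hkU', hU'card])
  have hiO5 : i ∈ O5 := hsO5 (mem_insert_self _ _)
  have hkO5 : k ∈ O5 := hsO5 (mem_insert_of_mem (mem_insert_self _ _))
  have hU'O5 : U' ⊆ O5 := fun x hx => hsO5 (mem_insert_of_mem (mem_insert_of_mem hx))
  have hO5b : O5 ≠ b := by
    intro h
    rw [h] at hiO5
    exact (mem_sdiff.mp hi).2 hiO5
  have hO5b4 : (O5 ∩ b).card = 4 := by
    have hge : 3 ≤ (O5 ∩ b).card := by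
      rw [← hU'card]
      exact card_le_card (subset_inter hU'O5 (hU'sub.trans sdiff_subset))
    rcases block_inter hα hB hO5 hb hO5b with h | h | h <;> omega
  -- O5 ≠ O3, O5 ≠ O4
  have hO53 : O5 ≠ O3 := fun h => hkO3 (h ▸ hkO5)
  have hO54 : O5 ≠ O4 := fun h => hiO4 (h ▸ hiO5)
  -- O5 ∩ U = U'
  have hO5U : (O5 ∩ (b \ c)).card = 3 := by
    have hle : (O5 ∩ (b \ c)).card ≤ 4 := by
      rw [← hU]; exact card_le_card inter_subset_right
    have hge : 3 ≤ (O5 ∩ (b \ c)).card := by
      rw [← hU'card]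
      exact card_le_card (subset_inter hU'O5 hU'sub)
    by_contra hcon
    have h4' : (O5 ∩ (b \ c)).card = 4 := by omega
    have hUO5 : b \ c ⊆ O5 := by
      have : O5 ∩ (b \ c) = b \ c :=
        eq_of_subset_of_card_le inter_subset_right (by rw [h4', hU])
      exact inter_eq_right.mp this
    apply hO53
    apply eq_of_five hB hO5 hO3
    have hsub : insert i (b \ c) ⊆ O5 ∩ O3 := by
      intro y hy
      rcases mem_insert.mp hy with rfl | hy
      · exact mem_inter.mpr ⟨hiO5, hiO3⟩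
      · exact mem_inter.mpr ⟨hUO5 hy, hUO3 hy⟩
    calc 5 = (insert i (b \ c)).card := by rw [card_insert_of_notMem hiU, hU]
      _ ≤ _ := card_le_card hsub
  have hO5T : (O5 ∩ (b ∩ c)).card = 1 := by
    have := card_inter_split O5 b c
    omega
  have hO5c : O5 ≠ c := by
    intro h
    have hne' : U'.Nonempty := card_pos.mp (by omega)
    obtain ⟨x, hx⟩ := hne'
    have := hU'O5 hx
    rw [h] at this
    exact (mem_sdiff.mp (hU'sub hx)).2 this
  have hO5V : (O5 ∩ (c \ b)).card = 3 := by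
    have hsplit := card_inter_split O5 c b
    rw [inter_comm c b, hO5T] at hsplit
    have hge : 2 ≤ (O5 ∩ (c \ b)).card := by
      have : ({i, k} : Finset α) ⊆ O5 ∩ (c \ b) := by
        intro y hy
        rcases mem_insert.mp hy with rfl | hy
        · exact mem_inter.mpr ⟨hiO5, hi⟩
        · rw [mem_singleton] at hy
          rw [hy]
          exact mem_inter.mpr ⟨hkO5, hkV⟩
      calc 2 = ({i, k} : Finset α).card := (card_pair hik).symm
        _ ≤ _ := card_le_card this
    rcases block_inter hα hB hO5 hc hO5c with h | h | h <;> omega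
  -- split O5 ∩ V along the cover
  have hsum : (O5 ∩ (O3 ∩ (c \ b))).card + (O5 ∩ (O4 ∩ (c \ b))).card = 3 := by
    rw [← hO5V, ← card_union_of_disjoint (by
      rw [disjoint_left]
      intro x hx hx'
      exact disjoint_left.mp hdisj (mem_inter.mp hx).2 (mem_inter.mp hx').2),
      ← inter_union_distrib_left, hcover]
  have hle3 : (O5 ∩ (O3 ∩ (c \ b))).card ≤ 2 := by
    rw [← h3V]; exact card_le_card inter_subset_right
  have hle4 : (O5 ∩ (O4 ∩ (c \ b))).card ≤ 2 := by
    rw [← h4V]; exact card_le_card inter_subset_right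
  have key : ∀ O ∈ B, U' ⊆ O → (O5 ∩ (O ∩ (c \ b))).card = 2 → O5 = O := by
    intro O hO hU'O h2
    apply eq_of_five hB hO5 hO
    have hsub : U' ∪ (O5 ∩ (O ∩ (c \ b))) ⊆ O5 ∩ O := by
      intro y hy
      rcases mem_union.mp hy with hy | hy
      · exact mem_inter.mpr ⟨hU'O5 hy, hU'O hy⟩
      · exact mem_inter.mpr ⟨(mem_inter.mp hy).1, (mem_inter.mp (mem_inter.mp hy).2).1⟩
    have hd : Disjoint U' (O5 ∩ (O ∩ (c \ b))) := by
      rw [disjoint_left]
      intro y hy hy'
      exact disjoint_left.mp hUV (hU'sub hy) (mem_inter.mp (mem_inter.mp hy').2).2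
    calc 5 = (U' ∪ (O5 ∩ (O ∩ (c \ b)))).card := by
          rw [card_union_of_disjoint hd, hU'card, h2]
      _ ≤ _ := card_le_card hsub
  have hcases : (O5 ∩ (O3 ∩ (c \ b))).card = 2 ∨ (O5 ∩ (O4 ∩ (c \ b))).card = 2 := by omega
  rcases hcases with h | h
  · exact hO53 (key O3 hO3 (hU'sub.trans hUO3) h)
  · exact hO54 (key O4 hO4 (hU'sub.trans hUO4) h)

end Cfsg.Agent.Lib.Helper9.Steiner9
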