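import Mathlib
import Cfsg.Agent.Lib.Helper1.ThreeSolvable
import Cfsg.Agent.Lib.Helper1.PCore
import Cfsg.Agent.Lib.Helper7.PGroupAux

set_option autoImplicit false
set_option linter.style.haveILetI false

namespace Cfsg.Agent.Lib.Helper9.T97

open Cfsg

/-- elements of the preimage of `O_r(X/K)` lie in `P·K` for every Sylow `r`-subgroup `P` of `X`. -/
theorem mem_sylow_mul {X : Type*} [Group X] [Finite X] (K : Subgroup X) [K.Normal] (r : ℕ)
    [Fact r.Prime] (P : Sylow r X) (n : X)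
    (hn : (QuotientGroup.mk' K) n ∈ pCore r (X ⧸ K)) : ∃ x ∈ (P : Subgroup X), x⁻¹ * n ∈ K := by
  have hsurj : Function.Surjective (QuotientGroup.mk' K) := QuotientGroup.mk'_surjective _
  have h1 : (QuotientGroup.mk' K) n ∈ ((P.mapSurjective hsurj : Sylow r (X ⧸ K)) : Subgroup (X ⧸ K)) :=
    Cfsg.Agent.Lib.Helper1.pCore_le_sylow r (P.mapSurjective hsurj) hn
  rw [Sylow.coe_mapSurjective] at h1
  obtain ⟨x, hx, hxn⟩ := h1
  refine ⟨x, hx, ?_⟩
  rw [← QuotientGroup.eq_one_iff]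
  have : ((x⁻¹ * n : X) : X ⧸ K) = ((QuotientGroup.mk' K) x)⁻¹ * (QuotientGroup.mk' K) n := by
    simp
  rw [this, hxn, inv_mul_cancel]

theorem index_cent_odd {X : Type*} [Group X] [Finite X] (hsol : Group.IsSolvable X)
    (Z0 : Subgroup X) [Z0.Normal]
    (hZ02 : ∀ z ∈ Z0, z ^ 2 = 1)
    (hinv : ∀ x : X, x ≠ 1 → x ^ 2 = 1 → x ∈ Z0)
    (hconj : ∀ x y : X, x ≠ 1 → x ^ 2 = 1 → y ≠ 1 → y ^ 2 = 1 → ∃ g : X, g * x * g⁻¹ = y) :
    Odd (Subgroup.centralizer (Z0 : Set X)).index := by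
  classical
  haveI : Fact (Nat.Prime 2) := ⟨Nat.prime_two⟩
  set K := Subgroup.centralizer (Z0 : Set X) with hKdef
  haveI hKn : K.Normal := Subgroup.normal_centralizer
  have hmemK : ∀ g : X, g ∈ K ↔ ∀ v ∈ Z0, v * g = g * v := fun g => Subgroup.mem_centralizer_iff
  by_contra hodd
  have h2idx : 2 ∣ K.index := by
    rcases Nat.even_or_odd K.index with h | h
    · exact even_iff_two_dvd.mp h
    · exact absurd h hodd
  -- an involution exists
  have h2X : 2 ∣ Nat.card X := h2idx.trans (Subgroup.index_dvd_card K)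
  obtain ⟨t0, ht0⟩ := exists_prime_orderOf_dvd_card' 2 h2X
  have ht01 : t0 ≠ 1 := by
    intro h; rw [h, orderOf_one] at ht0; norm_num at ht0
  have ht02 : t0 ^ 2 = 1 := by rw [← ht0]; exact pow_orderOf_eq_one t0
  have ht0Z : t0 ∈ Z0 := hinv t0 ht01 ht02
  -- the quotient
  haveI : Nontrivial (X ⧸ K) := by
    rw [← Finite.one_lt_card_iff_nontrivial, ← Subgroup.index_eq_card]
    have : K.index ≠ 0 := Subgroup.index_ne_zero_of_finite
    have := Nat.le_of_dvd (Nat.pos_of_ne_zero this) h2idx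
    omega
  haveI : Group.IsSolvable (X ⧸ K) := inferInstance
  obtain ⟨r, hr, hcore⟩ := Cfsg.Agent.Lib.Helper1.exists_pCore_ne_bot_of_solvable (X ⧸ K)
  haveI : Fact r.Prime := ⟨hr⟩
  set N0 := (pCore r (X ⧸ K)).comap (QuotientGroup.mk' K) with hN0def
  haveI hcn : (pCore r (X ⧸ K)).Normal := Cfsg.Agent.Lib.Helper1.pCore_normal r
  haveI hN0n : N0.Normal := by rw [hN0def]; infer_instance
  have hKN0 : K ≤ N0 := by
    intro k hk
    rw [hN0def, Subgroup.mem_comap]
    have : (QuotientGroup.mk' K) k = 1 := (QuotientGroup.eq_one_iff k).mpr hk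
    rw [this]; exact Subgroup.one_mem _
  obtain ⟨n1, hn1N, hn1K⟩ : ∃ n ∈ N0, n ∉ K := by
    obtain ⟨⟨qb, hqb⟩, hqb1'⟩ := Subgroup.ne_bot_iff_exists_ne_one.mp hcore
    have hqb1 : qb ≠ 1 := fun h => hqb1' (Subtype.ext h)
    obtain ⟨n, rfl⟩ := QuotientGroup.mk'_surjective K qb
    refine ⟨n, hqb, ?_⟩
    intro h
    exact hqb1 ((QuotientGroup.eq_one_iff n).mpr h)
  -- key claim
  have hkey : ∀ z : X, z ≠ 1 → z ^ 2 = 1 → (∀ n ∈ N0, n * z = z * n) → False := by
    intro z hz1 hz2 hcz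
    apply hn1K
    rw [hmemK]
    intro v hv
    by_cases hv1 : v = 1
    · rw [hv1, one_mul, mul_one]
    obtain ⟨g, hg⟩ := hconj z v hz1 hz2 hv1 (hZ02 v hv)
    have h1 : g⁻¹ * n1 * g ∈ N0 := by
      have := hN0n.conj_mem n1 hn1N g⁻¹
      rwa [inv_inv] at this
    have h2 := hcz _ h1
    rw [← hg]
    calc g * z * g⁻¹ * n1 = g * (z * (g⁻¹ * n1 * g)) * g⁻¹ := by group
      _ = g * ((g⁻¹ * n1 * g) * z) * g⁻¹ := by rw [h2]
      _ = n1 * (g * z * g⁻¹) := by group
  by_cases hr2 : r = 2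
  · -- case r = 2
    subst hr2
    obtain ⟨T⟩ : Nonempty (Sylow 2 X) := inferInstance
    have hZ0p : IsPGroup 2 Z0 := by
      intro g
      refine ⟨1, ?_⟩
      apply Subtype.ext
      rw [pow_one]
      exact hZ02 g.1 g.2
    have hZ0T : Z0 ≤ (T : Subgroup X) := hZ0p.le_sylow_of_normal T
    have hDne : Z0.subgroupOf (T : Subgroup X) ≠ ⊥ := by
      intro h
      have : (⟨t0, hZ0T ht0Z⟩ : (T : Subgroup X)) ∈ Z0.subgroupOf (T : Subgroup X) := by
        rw [Subgroup.mem_subgroupOf]; exact ht0Z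
      rw [h, Subgroup.mem_bot] at this
      exact ht01 (congrArg Subtype.val this)
    obtain ⟨b, hbD, hb1, hbc⟩ :=
      Cfsg.Agent.Lib.Helper7.exists_mem_center_of_normal_ne_bot T.2
        (Z0.subgroupOf (T : Subgroup X)) hDne
    have hbZ : (b : X) ∈ Z0 := Subgroup.mem_subgroupOf.mp hbD
    have hb1' : (b : X) ≠ 1 := fun h => hb1 (Subtype.ext h)
    apply hkey (b : X) hb1' (hZ02 _ hbZ)
    intro n hn
    obtain ⟨x, hxT, hxn⟩ := mem_sylow_mul K 2 T n hn
    have h1 : (b : X) * (x⁻¹ * n) = (x⁻¹ * n) * (b : X) := (hmemK _).mp hxn _ hbZ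
    have h2 : x * (b : X) = (b : X) * x := by
      have := Subgroup.mem_center_iff.mp hbc ⟨x, hxT⟩
      exact congrArg Subtype.val this
    calc n * (b : X) = x * ((x⁻¹ * n) * (b : X)) := by group
      _ = x * ((b : X) * (x⁻¹ * n)) := by rw [h1]
      _ = (x * (b : X)) * (x⁻¹ * n) := by group
      _ = ((b : X) * x) * (x⁻¹ * n) := by rw [h2]
      _ = (b : X) * n := by group
  · -- case r odd
    obtain ⟨P⟩ : Nonempty (Sylow r N0) := inferInstance
    set R := (P : Subgroup N0).map N0.subtype with hRdef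
    have hRN0 : R ≤ N0 := Subgroup.map_subtype_le _
    have hRp : IsPGroup r R := P.2.map _
    obtain ⟨PX, hRPX⟩ := hRp.exists_le_sylow
    -- R = PX ⊓ N0
    have hReq : ((PX : Subgroup X) ⊓ N0).subgroupOf N0 = (P : Subgroup N0) := by
      apply P.is_maximal'
      · have h1 : IsPGroup r ((PX : Subgroup X) ⊓ N0 : Subgroup X) := PX.2.to_le inf_le_left
        exact h1.comap_subtype
      · intro x hx
        rw [Subgroup.mem_subgroupOf]
        refine ⟨hRPX ?_, x.2⟩
        exact ⟨x, hx, rfl⟩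
    have hN0R : ∀ n ∈ N0, ∃ x ∈ R, x⁻¹ * n ∈ K := by
      intro n hn
      obtain ⟨x, hxP, hxn⟩ := mem_sylow_mul K r PX n hn
      have hxN0 : x ∈ N0 := by
        have h1 : x⁻¹ * n ∈ N0 := hKN0 hxn
        have h2 : x = n * (x⁻¹ * n)⁻¹ := by group
        rw [h2]
        exact N0.mul_mem hn (N0.inv_mem h1)
      refine ⟨x, ?_, hxn⟩
      have h3 : (⟨x, hxN0⟩ : N0) ∈ ((PX : Subgroup X) ⊓ N0).subgroupOf N0 := by
        rw [Subgroup.mem_subgroupOf]; exact ⟨hxP, hxN0⟩
      rw [hReq] at h3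
      exact ⟨⟨x, hxN0⟩, h3, rfl⟩
    set M := Subgroup.normalizer (R : Set X) with hMdef
    have hfrat : M ⊔ N0 = ⊤ := Sylow.normalizer_sup_eq_top P
    -- M has no involution
    have hMnoinv : ∀ t ∈ M, t ≠ 1 → t ^ 2 = 1 → False := by
      intro t htM ht1 ht2
      have htZ : t ∈ Z0 := hinv t ht1 ht2
      have htinv : t⁻¹ = t := by
        rw [inv_eq_iff_mul_eq_one, ← pow_two]; exact ht2
      apply hkey t ht1 ht2
      have hRt : ∀ x ∈ R, x * t = t * x := by
        intro x hx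
        have h1 : t * x * t⁻¹ ∈ R := (Subgroup.mem_normalizer_iff.mp htM x).mp hx
        have h2 : t * x * t⁻¹ * x⁻¹ ∈ R := R.mul_mem h1 (R.inv_mem hx)
        have h3 : t * x * t⁻¹ * x⁻¹ ∈ Z0 := by
          have : x * t⁻¹ * x⁻¹ ∈ Z0 := ‹Z0.Normal›.conj_mem _ (Z0.inv_mem htZ) x
          have h4 := Z0.mul_mem htZ this
          have h5 : t * (x * t⁻¹ * x⁻¹) = t * x * t⁻¹ * x⁻¹ := by group
          rwa [h5] at h4
        -- R ⊓ Z0 = 1
        have h4 : t * x * t⁻¹ * x⁻¹ = 1 := by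
          set c := t * x * t⁻¹ * x⁻¹ with hc
          obtain ⟨k, hk⟩ := hRp ⟨c, h2⟩
          have hk' : c ^ (r ^ k) = 1 := congrArg Subtype.val hk
          have hc2 : c ^ 2 = 1 := hZ02 c h3
          have hcop : Nat.Coprime (r ^ k) 2 := by
            apply Nat.Coprime.pow_left
            rw [Nat.coprime_primes hr Nat.prime_two]
            exact hr2
          have := Nat.Coprime.gcd_eq_one hcop
          have h6 : orderOf c ∣ Nat.gcd (r ^ k) 2 :=
            Nat.dvd_gcd (orderOf_dvd_of_pow_eq_one hk') (orderOf_dvd_of_pow_eq_one hc2)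
          rw [this, Nat.dvd_one] at h6
          exact orderOf_eq_one_iff.mp h6
        calc x * t = (t * x * t⁻¹ * x⁻¹)⁻¹ * (t * x) := by group
          _ = t * x := by rw [h4]; group
      intro n hn
      obtain ⟨x, hxR, hxn⟩ := hN0R n hn
      have h1 : t * (x⁻¹ * n) = (x⁻¹ * n) * t := (hmemK _).mp hxn _ htZ
      have h2 := hRt x hxR
      calc n * t = x * ((x⁻¹ * n) * t) := by group
        _ = x * (t * (x⁻¹ * n)) := by rw [h1]
        _ = (x * t) * (x⁻¹ * n) := by group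
        _ = (t * x) * (x⁻¹ * n) := by rw [h2]
        _ = t * n := by group
    have hModd : ¬ 2 ∣ Nat.card M := by
      intro h
      obtain ⟨t, ht⟩ := exists_prime_orderOf_dvd_card' 2 h
      have ht' : orderOf (t : X) = 2 := by rw [Subgroup.orderOf_coe]; exact ht
      have ht1 : (t : X) ≠ 1 := by
        intro h; rw [h, orderOf_one] at ht'; norm_num at ht'
      have ht2 : (t : X) ^ 2 = 1 := by rw [← ht']; exact pow_orderOf_eq_one _
      exact hMnoinv t t.2 ht1 ht2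
    -- X = M K
    have hMK : M ⊔ K = ⊤ := by
      rw [eq_top_iff, ← hfrat]
      apply sup_le le_sup_left
      intro n hn
      obtain ⟨x, hxR, hxn⟩ := hN0R n hn
      have h2 : n = x * (x⁻¹ * n) := by group
      rw [h2]
      exact Subgroup.mul_mem_sup (Subgroup.le_normalizer hxR) hxn
    have hidx : K.index ∣ Nat.card M := by
      have h1 : K.relIndex (M ⊔ K) = K.relIndex M := Subgroup.relIndex_sup_right M K
      rw [hMK, Subgroup.relIndex_top_right] at h1
      rw [h1]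
      exact Subgroup.relIndex_dvd_card K M
    exact hModd (h2idx.trans hidx)

end Cfsg.Agent.Lib.Helper9.T97
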