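import Mathlib

/-!
# S3396 (T), Part B in abstract permutation-group form.
-/

set_option autoImplicit false

namespace Cfsg.Agent.Lib.Helper9.TIZB

open MulAction

/-- **(T) Part B.**  `G` acts on `Ω`; all two-point stabilisers `D(P,Q)` have the same odd order
`i ≥ 2`, there are exactly `i` involutions swapping `P` and `Q`, each inverting `D(P,Q)`, and
`D(P,Q)` is self-normalising in the stabiliser of `P`.  Then `D(P,Q)` fixes only `P` and `Q`. -/
theorem partB {G Ω : Type*} [Group G] [Finite G] [MulAction G Ω] [Finite Ω] (i : ℕ)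
    (hi : 2 ≤ i) (hiodd : Odd i)
    (hD : ∀ P Q : Ω, P ≠ Q → Nat.card ↥(stabilizer G P ⊓ stabilizer G Q) = i)
    (hswap : ∀ P Q : Ω, P ≠ Q → Nat.card {w : G // orderOf w = 2 ∧ w • P = Q} = i)
    (hinv : ∀ P Q : Ω, P ≠ Q → ∀ w : G, orderOf w = 2 → w • P = Q →
      ∀ d ∈ stabilizer G P ⊓ stabilizer G Q, w * d * w⁻¹ = d⁻¹)
    (hnorm : ∀ P Q : Ω, P ≠ Q → ∀ x : G, x • P = P →
      (∀ d ∈ stabilizer G P ⊓ stabilizer G Q,
        x * d * x⁻¹ ∈ stabilizer G P ⊓ stabilizer G Q) → x • Q = Q) :
    ∀ P Q R : Ω, P ≠ Q → (∀ d : G, d • P = P → d • Q = Q → d • R = R) → R = P ∨ R = Q := by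
  intro P Q R₀ hPQ hR₀
  by_contra hcon
  rw [not_or] at hcon
  obtain ⟨hR₀P, hR₀Q⟩ := hcon
  classical
  obtain ⟨K, hKdef⟩ : ∃ K : Subgroup G, K = stabilizer G P ⊓ stabilizer G Q := ⟨_, rfl⟩
  have hKcard : Nat.card K = i := by rw [hKdef]; exact hD P Q hPQ
  have hmemK : ∀ d : G, d ∈ K ↔ d • P = P ∧ d • Q = Q := by
    intro d
    rw [hKdef, Subgroup.mem_inf, mem_stabilizer_iff, mem_stabilizer_iff]
  have hi0 : 0 < i := by omega
  -- the fixed points of `K`
  let L : Ω → Prop := fun R => ∀ d ∈ K, d • R = R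
  have hLQ : L Q := fun d hd => ((hmemK d).1 hd).2
  have hLR₀ : L R₀ := fun d hd => hR₀ d ((hmemK d).1 hd).1 ((hmemK d).1 hd).2
  -- L14
  have h14 : ∀ R, L R → R ≠ P → stabilizer G P ⊓ stabilizer G R = K := by
    intro R hR hRP
    symm
    apply Subgroup.eq_of_le_of_card_ge
    · intro d hd
      rw [Subgroup.mem_inf, mem_stabilizer_iff, mem_stabilizer_iff]
      exact ⟨((hmemK d).1 hd).1, hR d hd⟩
    · rw [hD P R hRP.symm, hKcard]
  -- swaps invert `K`
  have hinvK : ∀ R, L R → R ≠ P → ∀ w : G, orderOf w = 2 → w • P = R →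
      ∀ d ∈ K, w * d * w⁻¹ = d⁻¹ := by
    intro R hR hRP w hw hwP d hd
    exact hinv P R hRP.symm w hw hwP d (by rw [h14 R hR hRP]; exact hd)
  -- an element inverting `K` normalises `K`
  have hnormalizes : ∀ w : G, (∀ d ∈ K, w * d * w⁻¹ = d⁻¹) →
      w ∈ Subgroup.normalizer (K : Set G) := by
    intro w hw
    rw [Subgroup.mem_normalizer_iff]
    intro h
    constructor
    · intro hh
      rw [hw h hh]
      exact K.inv_mem hh
    · intro hh
      have h1 := hw _ (K.inv_mem hh)
      have h2 : (w * h * w⁻¹)⁻¹ = h := by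
        have := congrArg (fun t => w⁻¹ * t * w) h1
        simpa [mul_assoc] using this
      rw [← h2]
      exact K.inv_mem hh
  -- a swap `w₀` of `P` and `Q`
  have hne : Nonempty {w : G // orderOf w = 2 ∧ w • P = Q} := by
    have := hswap P Q hPQ
    have hpos : 0 < Nat.card {w : G // orderOf w = 2 ∧ w • P = Q} := by omega
    exact (Nat.card_pos_iff.1 hpos).1
  obtain ⟨⟨w₀, hw₀2, hw₀P⟩⟩ := hne
  have hw₀inv : ∀ d ∈ K, w₀ * d * w₀⁻¹ = d⁻¹ := hinvK Q hLQ hPQ.symm w₀ hw₀2 hw₀P
  have hw₀N : w₀ ∈ Subgroup.normalizer (K : Set G) := hnormalizes w₀ hw₀inv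
  -- `w₀` does not centralise `K`
  have hw₀A : w₀ ∉ Subgroup.centralizer (K : Set G) := by
    intro hcen
    have hall : ∀ d ∈ K, d = 1 := by
      intro d hd
      have h1 := hw₀inv d hd
      have h2 : d * w₀ = w₀ * d := (Subgroup.mem_centralizer_iff.1 hcen) d hd
      have h3 : d = d⁻¹ := by
        rw [← h1, ← h2]
        group
      have h4 : d ^ 2 = 1 := by
        rw [pow_two]
        nth_rewrite 2 [h3]
        exact mul_inv_cancel d
      have h5 : orderOf d ∣ 2 := orderOf_dvd_of_pow_eq_one h4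
      have h6 : orderOf d ∣ i := by
        rw [← hKcard]
        have := orderOf_dvd_natCard (⟨d, hd⟩ : K)
        rwa [Subgroup.orderOf_mk] at this
      have h7 : orderOf d ∣ Nat.gcd 2 i := Nat.dvd_gcd h5 h6
      have h8 : Nat.gcd 2 i = 1 := Nat.coprime_two_left.2 hiodd
      rw [h8, Nat.dvd_one] at h7
      exact orderOf_eq_one_iff.1 h7
    have hbot : K = ⊥ := by
      rw [Subgroup.eq_bot_iff_forall]
      exact hall
    rw [hbot, Subgroup.card_bot] at hKcard
    omega
  -- the index type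
  let T := {R : Ω // L R ∧ R ≠ P}
  have hT2 : 2 ≤ Nat.card T := by
    have hinj : Function.Injective (fun b : Bool =>
        if b then (⟨Q, hLQ, hPQ.symm⟩ : T) else ⟨R₀, hLR₀, hR₀P⟩) := by
      intro b1 b2 h
      cases b1 <;> cases b2 <;> simp at h ⊢
      · exact hR₀Q h
      · exact hR₀Q h.symm
    have := Nat.card_le_card_of_injective _ hinj
    simpa using this
  -- lower bound for the centraliser
  have hA : Nat.card T * i ≤ Nat.card (Subgroup.centralizer (K : Set G)) := by
    have : Fintype T := Fintype.ofFinite _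
    have hcardS : Nat.card (Σ R : T, {w : G // orderOf w = 2 ∧ w • P = R.1}) = Nat.card T * i := by
      rw [Nat.card_sigma]
      have : ∀ R : T, Nat.card {w : G // orderOf w = 2 ∧ w • P = R.1} = i :=
        fun R => hswap P R.1 R.2.2.symm
      simp only [this, Finset.sum_const, Finset.card_univ, smul_eq_mul, Nat.card_eq_fintype_card]
    rw [← hcardS]
    let f : (Σ R : T, {w : G // orderOf w = 2 ∧ w • P = R.1}) →
        Subgroup.centralizer (K : Set G) := fun x =>
      ⟨x.2.1 * w₀⁻¹, by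
        rw [Subgroup.mem_centralizer_iff]
        intro d hd
        have h1 := hinvK x.1.1 x.1.2.1 x.1.2.2 x.2.1 x.2.2.1 x.2.2.2
        have h2 := hw₀inv d hd
        have h3 := h1 d⁻¹ (K.inv_mem hd)
        rw [inv_inv] at h3
        have h4 : w₀⁻¹ * d * w₀ = d⁻¹ := by
          have h5 := hw₀inv d⁻¹ (K.inv_mem hd)
          rw [inv_inv] at h5
          calc w₀⁻¹ * d * w₀ = w₀⁻¹ * (w₀ * d⁻¹ * w₀⁻¹) * w₀ := by rw [h5]
            _ = d⁻¹ := by group
        have hx4 : (x.2.1)⁻¹ * d * x.2.1 = d⁻¹ := by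
          calc (x.2.1)⁻¹ * d * x.2.1 = (x.2.1)⁻¹ * (x.2.1 * d⁻¹ * (x.2.1)⁻¹) * x.2.1 := by rw [h3]
            _ = d⁻¹ := by group
        calc d * (x.2.1 * w₀⁻¹) = x.2.1 * ((x.2.1)⁻¹ * d * x.2.1) * w₀⁻¹ := by group
          _ = x.2.1 * (w₀⁻¹ * d * w₀) * w₀⁻¹ := by rw [hx4, h4]
          _ = x.2.1 * w₀⁻¹ * d := by group⟩
    have hf : Function.Injective f := by
      rintro ⟨R1, w1, hw1⟩ ⟨R2, w2, hw2⟩ h
      have h1 : w1 * w₀⁻¹ = w2 * w₀⁻¹ := congrArg Subtype.val h
      have h2 : w1 = w2 := mul_right_cancel h1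
      subst h2
      have h3 : R1 = R2 := Subtype.ext (hw1.2.symm.trans hw2.2)
      subst h3
      rfl
    exact Nat.card_le_card_of_injective f hf
  -- the normaliser of `K`
  obtain ⟨Nk, hNk⟩ : ∃ Nk : Subgroup G, Nk = Subgroup.normalizer (K : Set G) := ⟨_, rfl⟩
  have hLorb : ∀ R ∈ orbit Nk P, L R := by
    intro R hR d hd
    obtain ⟨n, rfl⟩ := hR
    have hn : (n : G) ∈ Subgroup.normalizer (K : Set G) := hNk ▸ n.2
    have hn' : (n : G)⁻¹ ∈ Subgroup.normalizer (K : Set G) := Subgroup.inv_mem _ hn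
    have h1 : (n : G)⁻¹ * d * ((n : G)⁻¹)⁻¹ ∈ K := (Subgroup.mem_normalizer_iff.1 hn' d).1 hd
    have h2 := ((hmemK _).1 h1).1
    change d • ((n : G) • P) = (n : G) • P
    calc d • ((n : G) • P) = (n : G) • (((n : G)⁻¹ * d * ((n : G)⁻¹)⁻¹) • P) := by
          rw [← mul_smul, ← mul_smul]
          congr 1
          group
      _ = (n : G) • P := by rw [h2]
  have hNcard : Nat.card Nk ≤ i * (Nat.card T + 1) := by
    have h1 : Nat.card (stabilizer Nk P) * (stabilizer Nk P).index = Nat.card Nk :=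
      (stabilizer Nk P).card_mul_index
    rw [MulAction.index_stabilizer] at h1
    have hstab : Nat.card (stabilizer Nk P) ≤ i := by
      rw [← hKcard]
      let g : stabilizer Nk P → K := fun n => ⟨((n : Nk) : G), by
        have hnP : ((n : Nk) : G) • P = P := n.2
        have hnN : ((n : Nk) : G) ∈ Subgroup.normalizer (K : Set G) := hNk ▸ (n : Nk).2
        rw [hmemK]
        refine ⟨hnP, hnorm P Q hPQ _ hnP ?_⟩
        intro d hd
        rw [← hKdef] at hd ⊢
        exact (Subgroup.mem_normalizer_iff.1 hnN d).1 hd⟩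
      have hg : Function.Injective g := by
        intro n1 n2 h
        apply Subtype.ext
        apply Subtype.ext
        exact congrArg (fun t : K => (t : G)) h
      exact Nat.card_le_card_of_injective g hg
    have horb : (orbit Nk P).ncard ≤ Nat.card T + 1 := by
      rw [← Finite.card_option, ← Nat.card_coe_set_eq]
      let g : orbit Nk P → Option T := fun R =>
        if h : (R : Ω) = P then none else some ⟨R, hLorb R R.2, h⟩
      have hg : Function.Injective g := by
        intro R1 R2 h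
        by_cases h1 : (R1 : Ω) = P
        · by_cases h2 : (R2 : Ω) = P
          · exact Subtype.ext (h1.trans h2.symm)
          · simp only [g, dif_pos h1, dif_neg h2] at h
            exact absurd h (by simp)
        · by_cases h2 : (R2 : Ω) = P
          · simp only [g, dif_neg h1, dif_pos h2] at h
            exact absurd h (by simp)
          · simp only [g, dif_neg h1, dif_neg h2, Option.some.injEq] at h
            exact Subtype.ext (congrArg (fun t : T => (t : Ω)) h)
      exact Nat.card_le_card_of_injective g hg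
    calc Nat.card Nk = _ := h1.symm
      _ ≤ i * (Nat.card T + 1) := Nat.mul_le_mul hstab horb
  -- the centraliser is a proper subgroup of the normaliser
  have hAN : 2 * Nat.card (Subgroup.centralizer (K : Set G)) ≤ Nat.card Nk := by
    have hle : Subgroup.centralizer (K : Set G) ≤ Nk :=
      hNk ▸ Subgroup.centralizer_le_normalizer (K : Set G)
    let g : (Subgroup.centralizer (K : Set G)) ⊕ (Subgroup.centralizer (K : Set G)) → Nk :=
      fun x =>
        match x with
        | Sum.inl a => ⟨a, hle a.2⟩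
        | Sum.inr a => ⟨w₀ * a, Nk.mul_mem (hNk ▸ hw₀N) (hle a.2)⟩
    have hg : Function.Injective g := by
      intro x1 x2 h
      have h' : ((g x1 : Nk) : G) = ((g x2 : Nk) : G) := congrArg Subtype.val h
      cases x1 with
      | inl a1 =>
        cases x2 with
        | inl a2 => exact congrArg Sum.inl (Subtype.ext h')
        | inr a2 =>
          exfalso
          apply hw₀A
          have : w₀ = (a1 : G) * (a2 : G)⁻¹ := by
            change (a1 : G) = w₀ * (a2 : G) at h'
            rw [h']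
            group
          rw [this]
          exact Subgroup.mul_mem _ a1.2 (Subgroup.inv_mem _ a2.2)
      | inr a1 =>
        cases x2 with
        | inl a2 =>
          exfalso
          apply hw₀A
          have : w₀ = (a2 : G) * (a1 : G)⁻¹ := by
            change w₀ * (a1 : G) = (a2 : G) at h'
            rw [← h']
            group
          rw [this]
          exact Subgroup.mul_mem _ a2.2 (Subgroup.inv_mem _ a1.2)
        | inr a2 =>
          change w₀ * (a1 : G) = w₀ * (a2 : G) at h'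
          exact congrArg Sum.inr (Subtype.ext (mul_left_cancel h'))
    have := Nat.card_le_card_of_injective g hg
    rw [Nat.card_sum] at this
    omega
  -- arithmetic
  have hfin : 2 * (Nat.card T * i) ≤ i * (Nat.card T + 1) :=
    (Nat.mul_le_mul_left 2 hA).trans (hAN.trans hNcard)
  have : 2 * Nat.card T ≤ Nat.card T + 1 := by
    have h1 : i * (2 * Nat.card T) ≤ i * (Nat.card T + 1) := by
      calc i * (2 * Nat.card T) = 2 * (Nat.card T * i) := by ring
        _ ≤ _ := hfin
    exact Nat.le_of_mul_le_mul_left h1 hi0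
  omega

/-- consequences (L18): the stabiliser of `P` is transitive on the other points, and three-point
stabilisers are trivial. -/
theorem partB' {G Ω : Type*} [Group G] [Finite G] [MulAction G Ω] [Finite Ω] (i : ℕ)
    (hi : 2 ≤ i) (hiodd : Odd i)
    (hD : ∀ P Q : Ω, P ≠ Q → Nat.card ↥(stabilizer G P ⊓ stabilizer G Q) = i)
    (hswap : ∀ P Q : Ω, P ≠ Q → Nat.card {w : G // orderOf w = 2 ∧ w • P = Q} = i)
    (hinv : ∀ P Q : Ω, P ≠ Q → ∀ w : G, orderOf w = 2 → w • P = Q →
      ∀ d ∈ stabilizer G P ⊓ stabilizer G Q, w * d * w⁻¹ = d⁻¹)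
    (hnorm : ∀ P Q : Ω, P ≠ Q → ∀ x : G, x • P = P →
      (∀ d ∈ stabilizer G P ⊓ stabilizer G Q,
        x * d * x⁻¹ ∈ stabilizer G P ⊓ stabilizer G Q) → x • Q = Q)
    (h12 : ∀ P Q R : Ω, P ≠ Q → P ≠ R → ∀ g : G, g ≠ 1 → g • P = P → g • Q = Q → g • R = R →
      ∀ d : G, d • P = P → d • Q = Q → d • R = R)
    (h13 : ∀ P Q R : Ω, P ≠ Q → P ≠ R → ∃ m : G, m • P = P ∧
      ∀ d : G, d • P = P → d • Q = Q → d • (m • R) = m • R) :
    (∀ P Q R : Ω, P ≠ Q → P ≠ R → ∃ m : G, m • P = P ∧ m • R = Q) ∧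
    (∀ g : G, ∀ a b c : Ω, a ≠ b → b ≠ c → a ≠ c → g • a = a → g • b = b → g • c = c → g = 1) := by
  have hB := partB i hi hiodd hD hswap hinv hnorm
  constructor
  · intro P Q R hPQ hPR
    obtain ⟨m, hmP, hm⟩ := h13 P Q R hPQ hPR
    refine ⟨m, hmP, ?_⟩
    rcases hB P Q (m • R) hPQ hm with h | h
    · exfalso
      apply hPR
      have : m • R = m • P := by rw [h, hmP]
      exact (smul_left_cancel m this).symm
    · exact h
  · intro g a b c hab hbc hac hga hgb hgc
    by_contra hg
    have := h12 a b c hab hac g hg hga hgb hgc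
    rcases hB a b c hab this with h | h
    · exact hac h.symm
    · exact hbc h.symm

end Cfsg.Agent.Lib.Helper9.TIZB
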