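import Mathlib
import Cfsg.Agent.Lib.Helper1.FrobeniusConj2

/-!
# S3396 (T) piece TIZ-F: the two-point stabilisers inside a point stabiliser are conjugate
(Frobenius complements), abstract form of L13.
-/

set_option autoImplicit false

namespace Cfsg.Agent.Lib.Helper9.TIZ

open scoped Pointwise

open MulAction in
theorem exists_conj_of_frobenius {G Ω : Type*} [Group G] [Finite G] [MulAction G Ω] (P : Ω)
    (hne : ∀ Q : Ω, P ≠ Q → ∃ d : G, d ≠ 1 ∧ d • P = P ∧ d • Q = Q)
    (hprop : ∀ Q : Ω, P ≠ Q → ∃ s : G, s • P = P ∧ s • Q ≠ Q)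
    (hnorm : ∀ Q : Ω, P ≠ Q → ∀ x : G, x • P = P →
      (∀ d ∈ stabilizer G P ⊓ stabilizer G Q,
        x * d * x⁻¹ ∈ stabilizer G P ⊓ stabilizer G Q) → x • Q = Q)
    (h12 : ∀ Q R : Ω, P ≠ Q → P ≠ R → ∀ g : G, g ≠ 1 → g • P = P → g • Q = Q → g • R = R →
      ∀ d : G, d • P = P → d • Q = Q → d • R = R) :
    ∀ Q R : Ω, P ≠ Q → P ≠ R → ∃ m : G, m • P = P ∧
      ∀ d : G, d • P = P → d • Q = Q → d • (m • R) = m • R := by
  -- the two-point stabilisers as subgroups of the point stabiliser
  have hmemK : ∀ (Q : Ω) (x : stabilizer G P),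
      x ∈ (stabilizer G Q).subgroupOf (stabilizer G P) ↔ (x : G) • Q = Q := by
    intro Q x
    rw [Subgroup.mem_subgroupOf, mem_stabilizer_iff]
  have hfixP : ∀ x : stabilizer G P, (x : G) • P = P := fun x => x.2
  have hfrob : ∀ Q : Ω, P ≠ Q →
      Cfsg.IsFrobeniusComplement ((stabilizer G Q).subgroupOf (stabilizer G P)) := by
    intro Q hPQ
    refine ⟨?_, ?_, ?_⟩
    · obtain ⟨d, hd1, hdP, hdQ⟩ := hne Q hPQ
      intro hbot
      have hmem : (⟨d, hdP⟩ : stabilizer G P) ∈ (stabilizer G Q).subgroupOf (stabilizer G P) :=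
        (hmemK Q _).2 hdQ
      rw [hbot, Subgroup.mem_bot] at hmem
      exact hd1 (congrArg Subtype.val hmem)
    · obtain ⟨s, hsP, hsQ⟩ := hprop Q hPQ
      intro htop
      have hmem : (⟨s, hsP⟩ : stabilizer G P) ∈ (stabilizer G Q).subgroupOf (stabilizer G P) := by
        rw [htop]; exact Subgroup.mem_top _
      exact hsQ ((hmemK Q _).1 hmem)
    · intro g hg
      rw [Subgroup.eq_bot_iff_forall]
      intro x hx
      by_contra hx1
      obtain ⟨hxQ, hxg⟩ := Subgroup.mem_inf.1 hx
      have hxQ' : (x : G) • Q = Q := (hmemK Q x).1 hxQ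
      rw [Subgroup.mem_pointwise_smul_iff_inv_smul_mem] at hxg
      have hxg' : ((g : G)⁻¹ * (x : G) * (g : G)) • Q = Q := by
        have := (hmemK Q _).1 hxg
        simpa [MulAut.smul_def, MulAut.conj_apply, mul_assoc] using this
      have hgQ : (g : G) • Q ≠ Q := fun h => hg ((hmemK Q g).2 h)
      have hxR' : (x : G) • ((g : G) • Q) = (g : G) • Q := by
        have := congrArg (fun w => (g : G) • w) hxg'
        simp only [← mul_smul] at this ⊢
        have e : (g : G) * ((g : G)⁻¹ * (x : G) * (g : G)) = (x : G) * (g : G) := by group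
        rw [e] at this
        exact this
      have hPR' : P ≠ (g : G) • Q := by
        intro h
        apply hPQ
        have : (g : G) • P = (g : G) • Q := by rw [hfixP g]; exact h
        exact smul_left_cancel _ this
      have hx1' : (x : G) ≠ 1 := fun h => hx1 (Subtype.ext h)
      have hA := h12 Q ((g : G) • Q) hPQ hPR' (x : G) hx1' (hfixP x) hxQ' hxR'
      have hB := h12 ((g : G) • Q) Q hPR' hPQ (x : G) hx1' (hfixP x) hxR' hxQ'
      apply hgQ
      refine hnorm Q hPQ (g : G) (hfixP g) ?_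
      intro d hd
      rw [Subgroup.mem_inf, mem_stabilizer_iff, mem_stabilizer_iff] at hd ⊢
      obtain ⟨hdP, hdQ⟩ := hd
      have h1 : ((g : G) * d * (g : G)⁻¹) • P = P := by
        rw [mul_smul, mul_smul]
        have : (g : G)⁻¹ • P = P := by
          have := congrArg (fun w => (g : G)⁻¹ • w) (hfixP g)
          simp only [inv_smul_smul] at this
          exact this.symm
        rw [this, hdP, hfixP g]
      refine ⟨h1, hB _ h1 ?_⟩
      rw [mul_smul, mul_smul, inv_smul_smul, hdQ]
  intro Q R hPQ hPR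
  obtain ⟨n, hn⟩ := Cfsg.Agent.Lib.Helper1.frobenius_complements_conj
    ((stabilizer G Q).subgroupOf (stabilizer G P)) ((stabilizer G R).subgroupOf (stabilizer G P))
    (hfrob Q hPQ) (hfrob R hPR)
  refine ⟨(n : G), hfixP n, ?_⟩
  intro d hdP hdQ
  have hmem : (⟨d, hdP⟩ : stabilizer G P) ∈ (stabilizer G Q).subgroupOf (stabilizer G P) :=
    (hmemK Q _).2 hdQ
  rw [← hn, Subgroup.mem_pointwise_smul_iff_inv_smul_mem] at hmem
  have h1 : ((n : G)⁻¹ * d * (n : G)) • R = R := by
    have := (hmemK R _).1 hmem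
    simpa [MulAut.smul_def, MulAut.conj_apply, mul_assoc] using this
  have := congrArg (fun w => (n : G) • w) h1
  simp only [← mul_smul] at this ⊢
  have e : (n : G) * ((n : G)⁻¹ * d * (n : G)) = d * (n : G) := by group
  rw [e] at this
  exact this

end Cfsg.Agent.Lib.Helper9.TIZ
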