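import Cfsg.Agent.Lib.Helper9.FusionSat2
import Cfsg.Agent.Lib.Helper9.FusionSat1

set_option autoImplicit false

namespace Cfsg.Agent.Lib.Helper9

open Cfsg Cfsg.FusionSystem

variable {Ω : Type*} [Group Ω] {S : Subgroup Ω}

theorem inner_autGroup_eq {P : Subgroup Ω} (hP : P ≤ S) :
    (innerFusionSystem S).autGroup P = autInducedBy S P := by
  ext α
  rw [mem_autGroup_iff _ hP, mem_autInducedBy_iff]
  constructor
  · rintro ⟨-, g, hg, h⟩
    exact ⟨g, hg, h⟩
  · rintro ⟨g, hg, h⟩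
    exact ⟨hP, g, hg, h⟩

theorem inner_fullyAutomized {p : ℕ} [Fact p.Prime] (hS : IsPGroup p S) {P : Subgroup Ω}
    (hP : P ≤ S) : (innerFusionSystem S).IsFullyAutomized p P := by
  refine ⟨hP, ?_⟩
  have htop : (autInducedBy S P).subgroupOf ((innerFusionSystem S).autGroup P) = ⊤ := by
    rw [Subgroup.subgroupOf_eq_top, inner_autGroup_eq hP]
  have hpg : IsPGroup p (⊤ : Subgroup ((innerFusionSystem S).autGroup P)) := by
    rw [← htop]
    exact (isPGroup_autInducedBy hS P).comap_subtype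
  refine ⟨⟨⊤, hpg, fun _ h => top_le_iff.mp h⟩, ?_⟩
  exact htop.symm

theorem inner_receptive (Q : Subgroup Ω) (hQ : Q ≤ S) : (innerFusionSystem S).IsReceptive Q := by
  refine ⟨hQ, ?_⟩
  rintro P φ ⟨hP, g, hg, hφ⟩ -
  have hle : extender S P φ ≤ S := (extender_le_normalizerIn P φ).trans inf_le_left
  refine ⟨conjHom _ g, (innerFusionSystem S).conj_mem hle hg, ?_⟩
  intro x hxP hxN
  rw [hφ]
  rfl

theorem inner_saturated {p : ℕ} [Fact p.Prime] (hS : IsPGroup p S) :
    (innerFusionSystem S).IsSaturated p := by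
  intro P hP
  exact ⟨P, isConj_refl _ hP, inner_fullyAutomized hS hP, inner_receptive P hP⟩

end Cfsg.Agent.Lib.Helper9
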