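import Cfsg.Agent.Lib.Helper9.InnerWeaklyNormal

set_option autoImplicit false

namespace Cfsg.Agent.Lib.Helper9

open Cfsg Cfsg.FusionSystem
open scoped commutatorElement

variable {Ω : Type*} [Group Ω] {S : Subgroup Ω}

/-- for an abelian subgroup `T`, a normal-in-`F` subgroup `T` gives a normal subsystem (the
inner system of `T`) -/
theorem inner_isNormalIn_of_abelian [Finite S] (p : ℕ) [Fact p.Prime] (hS : IsPGroup p S)
    (F : FusionSystem S) (hF : F.IsSaturated p) {T : Subgroup Ω} (hTS : T ≤ S)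
    (hab : ∀ x ∈ T, ∀ y ∈ T, x * y = y * x) (hT : F.IsNormal T) :
    (innerFusionSystem T).IsNormalIn F p := by
  refine ⟨(normal_iff_inner_weaklyNormal p hS F hF T hTS).mp hT, ?_⟩
  intro α hα
  rw [inner_autGroup_eq le_rfl, mem_autInducedBy_iff] at hα
  obtain ⟨g, hg, hgα⟩ := hα
  have hα1 : ∀ x : T, ((α x : T) : Ω) = x := by
    intro x
    rw [hgα, hab g hg x x.2]
    group
  refine ⟨1, Subgroup.one_mem _, fun x => (hα1 x).symm, fun c _ => ?_⟩
  show (c : Ω)⁻¹ * (c : Ω) ∈ _
  rw [inv_mul_cancel]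
  exact Subgroup.one_mem _

theorem commutator_le_bot_of_forall_comm {T : Subgroup Ω}
    (hab : ∀ x ∈ T, ∀ y ∈ T, x * y = y * x) : ⁅T, T⁆ ≤ ⊥ := by
  rw [Subgroup.commutator_le]
  intro a ha b hb
  rw [Subgroup.mem_bot, commutatorElement_eq_one_iff_mul_comm]
  exact hab a ha b hb

/-- S5337 -/
theorem simple_abelian_iff [Finite S] (p : ℕ) [Fact p.Prime] (hS : IsPGroup p S)
    (F : FusionSystem S) (hF : F.IsSaturated p) (hab : ∀ x ∈ S, ∀ y ∈ S, x * y = y * x) :
    F.IsSimple p ↔ (Nat.card S = p ∧ ∀ P : Subgroup Ω, F.Hom P = (innerFusionSystem S).Hom P) := by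
  constructor
  · rintro ⟨-, hne, hsimple⟩
    have hSn : F.IsNormal S := normal_of_abelian_stronglyClosed p hS F hF S
      (commutator_le_bot_of_forall_comm hab) (stronglyClosed_top F)
    have hinner := inner_isNormalIn_of_abelian p hS F hF le_rfl hab hSn
    have hHom : ∀ P : Subgroup Ω, F.Hom P = (innerFusionSystem S).Hom P := by
      rcases hsimple S _ hinner with h | ⟨-, h⟩
      · exact absurd h hne
      · exact fun P => (h P).symm
    refine ⟨?_, hHom⟩
    -- every subgroup is normal in `F`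
    have hincl : ∀ (P : Subgroup Ω) (φ : P →* Ω), φ ∈ F.Hom P → φ = P.subtype := by
      intro P φ hφ
      rw [hHom] at hφ
      obtain ⟨hP, g, hg, h⟩ := hφ
      ext x
      rw [h, hab g hg x (hP x.2)]
      simp
    have hTn : ∀ T : Subgroup Ω, T ≤ S → F.IsNormal T := by
      intro T hT
      refine ⟨hT, fun P φ hφ => ?_⟩
      have hPS := hom_le F hφ
      refine ⟨(P ⊔ T).subtype, subtype_mem F (sup_le hPS hT), fun x => ?_, ?_⟩
      · rw [hincl P φ hφ]
        rfl
      · ext y
        constructor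
        · rintro ⟨x, hx, rfl⟩
          exact hx
        · intro hy
          exact ⟨⟨y, le_sup_right (a := P) hy⟩, hy, rfl⟩
    have hnt : Nontrivial S := (Subgroup.nontrivial_iff_ne_bot S).mpr hne
    obtain ⟨n, hn, hcard⟩ := (IsPGroup.nontrivial_iff_card hS).mp hnt
    have hdvd : p ∣ Nat.card S := by
      rw [hcard]
      exact dvd_pow_self p hn.ne'
    obtain ⟨x, hx⟩ := exists_prime_orderOf_dvd_card' p hdvd
    have hxo : orderOf ((x : S) : Ω) = p := by rw [← hx, Subgroup.orderOf_coe]
    have hZS : Subgroup.zpowers ((x : S) : Ω) ≤ S := by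
      rw [Subgroup.zpowers_le]
      exact x.2
    have hZn := hTn _ hZS
    have hZinner := inner_isNormalIn_of_abelian p hS F hF hZS
      (fun a ha b hb => hab a (hZS ha) b (hZS hb)) hZn
    rcases hsimple _ _ hZinner with h | ⟨h, -⟩
    · exfalso
      have h1 : ((x : S) : Ω) ∈ Subgroup.zpowers ((x : S) : Ω) := Subgroup.mem_zpowers _
      rw [h, Subgroup.mem_bot] at h1
      rw [h1, orderOf_one] at hxo
      exact (Fact.out : p.Prime).one_lt.ne hxo
    · rw [← h, Nat.card_zpowers, hxo]
  · rintro ⟨hcard, hHom⟩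
    have hne : S ≠ ⊥ := by
      intro h
      rw [h, Subgroup.card_bot] at hcard
      exact (Fact.out : p.Prime).one_lt.ne hcard
    refine ⟨hF, hne, ?_⟩
    intro T E hE
    have hTS : T ≤ S := hE.1.2.2.2.1.1
    have hdvd : Nat.card T ∣ p := hcard ▸ Subgroup.card_dvd_of_le hTS
    rcases (Nat.dvd_prime (Fact.out : p.Prime)).mp hdvd with h1 | h1
    · left
      exact Subgroup.card_eq_one.mp h1
    · right
      have hTeq : T = S := Subgroup.eq_of_le_of_card_ge hTS (by rw [h1, hcard])
      subst hTeq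
      refine ⟨rfl, fun P => Set.Subset.antisymm (hE.1.2.2.1 P) ?_⟩
      rw [hHom]
      intro φ hφ
      obtain ⟨hP, g, hg, h⟩ := hφ
      have : φ = conjHom P g := by
        ext x
        exact h x
      rw [this]
      exact E.conj_mem hP hg

end Cfsg.Agent.Lib.Helper9
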