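import Cfsg.Agent.Lib.Helper9.FusionBasic

set_option autoImplicit false

namespace Cfsg.Agent.Lib.Helper9

open Cfsg Cfsg.FusionSystem

variable {Ω : Type*} [Group Ω] {S : Subgroup Ω}

theorem isCentral_bot (F : FusionSystem S) : F.IsCentral ⊥ := by
  refine ⟨bot_le, fun P φ hφ => ?_⟩
  have hle : P ⊔ ⊥ ≤ P := sup_le le_rfl bot_le
  refine ⟨φ.comp (Subgroup.inclusion hle), restrict_mem F hφ hle, fun x => ?_, ?_⟩
  · show φ (Subgroup.inclusion hle (Subgroup.inclusion le_sup_left x)) = φ x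
    congr 1
  · rintro ⟨x, hx⟩
    rw [Subgroup.mem_bot] at hx
    subst hx
    have : (Subgroup.inclusion le_sup_right (⟨1, Subgroup.one_mem _⟩ : (⊥ : Subgroup Ω)) :
        (P ⊔ ⊥ : Subgroup Ω)) = 1 := Subtype.ext rfl
    rw [this, map_one]

/-- a map fixing `Q₁` and `Q₂` pointwise fixes `Q₁ ⊔ Q₂` pointwise -/
theorem fix_sup_of_fix {D Q₁ Q₂ : Subgroup Ω} (ψ : D →* Ω)
    (h₁ : ∀ z : D, (z : Ω) ∈ Q₁ → ψ z = z) (h₂ : ∀ z : D, (z : Ω) ∈ Q₂ → ψ z = z)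
    (hQ₁ : Q₁ ≤ D) (hQ₂ : Q₂ ≤ D) : ∀ z : D, (z : Ω) ∈ Q₁ ⊔ Q₂ → ψ z = z := by
  have hle : Q₁ ⊔ Q₂ ≤ (ψ.eqLocus D.subtype).map D.subtype := by
    apply sup_le
    · intro x hx
      exact ⟨⟨x, hQ₁ hx⟩, h₁ _ hx, rfl⟩
    · intro x hx
      exact ⟨⟨x, hQ₂ hx⟩, h₂ _ hx, rfl⟩
  intro z hz
  obtain ⟨w, hw, hwz⟩ := hle hz
  have : w = z := Subtype.ext hwz
  rw [← this]
  exact hw

theorem isCentral_sup (F : FusionSystem S) {Q₁ Q₂ : Subgroup Ω} (h₁ : F.IsCentral Q₁)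
    (h₂ : F.IsCentral Q₂) : F.IsCentral (Q₁ ⊔ Q₂) := by
  refine ⟨sup_le h₁.1 h₂.1, fun P φ hφ => ?_⟩
  obtain ⟨ψ₁, hψ₁, hψ₁φ, hψ₁Q⟩ := h₁.2 P φ hφ
  obtain ⟨ψ₂, hψ₂, hψ₂ψ₁, hψ₂Q⟩ := h₂.2 _ ψ₁ hψ₁
  have hle : P ⊔ (Q₁ ⊔ Q₂) ≤ (P ⊔ Q₁) ⊔ Q₂ := by
    rw [sup_assoc]
  refine ⟨ψ₂.comp (Subgroup.inclusion hle), restrict_mem F hψ₂ hle, fun x => ?_, ?_⟩
  · rw [← hψ₁φ x, ← hψ₂ψ₁]
    rfl
  · have hfix₁ : ∀ z : ((P ⊔ Q₁) ⊔ Q₂ : Subgroup Ω), (z : Ω) ∈ Q₁ → ψ₂ z = z := by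
      intro z hz
      have h3 := hψ₂ψ₁ (Subgroup.inclusion le_sup_right ⟨z, hz⟩)
      have h4 := hψ₁Q ⟨z, hz⟩
      have h5 : (Subgroup.inclusion le_sup_left (Subgroup.inclusion (le_sup_right : Q₁ ≤ P ⊔ Q₁)
          ⟨z, hz⟩) : ((P ⊔ Q₁) ⊔ Q₂ : Subgroup Ω)) = z := Subtype.ext rfl
      rw [h5, h4] at h3
      exact h3
    have hfix₂ : ∀ z : ((P ⊔ Q₁) ⊔ Q₂ : Subgroup Ω), (z : Ω) ∈ Q₂ → ψ₂ z = z := by
      intro z hz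
      have h4 := hψ₂Q ⟨z, hz⟩
      have h5 : (Subgroup.inclusion le_sup_right (⟨z, hz⟩ : Q₂) :
          ((P ⊔ Q₁) ⊔ Q₂ : Subgroup Ω)) = z := Subtype.ext rfl
      rw [h5] at h4
      exact h4
    have hfix := fix_sup_of_fix ψ₂ hfix₁ hfix₂ (le_sup_right.trans le_sup_left) le_sup_right
    intro x
    exact hfix _ x.2

theorem isCentral_center [Finite S] (F : FusionSystem S) : F.IsCentral F.center :=
  sSup_induction_of_finite S (fun Q => F.IsCentral Q) (fun _ h => h.1) (isCentral_bot F)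
    (fun _ _ h₁ h₂ => isCentral_sup F h₁ h₂)

theorem map_eq_of_isCentral (F : FusionSystem S) {Z : Subgroup Ω} (hZ : F.IsCentral Z)
    {P : Subgroup Ω} {φ : P →* Ω} (hφ : φ ∈ F.Hom P) (x : P) (hx : (x : Ω) ∈ Z) : φ x = x := by
  obtain ⟨ψ, -, hψφ, hψZ⟩ := hZ.2 P φ hφ
  have h1 := hψφ x
  have h2 := hψZ ⟨(x : Ω), hx⟩
  have h3 : (Subgroup.inclusion le_sup_left x : (P ⊔ Z : Subgroup Ω)) =
      Subgroup.inclusion le_sup_right (⟨(x : Ω), hx⟩ : Z) := Subtype.ext rfl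
  rw [← h1, h3, h2]

theorem stronglyClosed_of_isCentral (F : FusionSystem S) {Z : Subgroup Ω} (hZ : F.IsCentral Z) :
    F.StronglyClosed Z := by
  refine ⟨hZ.1, fun R hR φ hφ x => ?_⟩
  rw [map_eq_of_isCentral F hZ hφ x (hR x.2)]
  exact hR x.2

theorem center_stronglyClosed [Finite S] (F : FusionSystem S) : F.StronglyClosed F.center :=
  stronglyClosed_of_isCentral F (isCentral_center F)

end Cfsg.Agent.Lib.Helper9
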