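import Cfsg.Agent.Lib.Helper9.FactorSys7
import Cfsg.Agent.Lib.Helper9.FusionCenter
import Cfsg.Agent.Lib.Helper9.AbelianSimple

set_option autoImplicit false

namespace Cfsg.Agent.Lib.Helper9

open Cfsg Cfsg.FusionSystem

theorem pResidual_eq_bot_of_isPGroup {G : Type*} [Group G] {p : ℕ}
    (hG : IsPGroup p G) : pResidual p G = ⊥ := by
  rw [pResidual, Subgroup.closure_eq_bot_iff]
  intro g hg
  rw [Set.mem_singleton_iff]
  obtain ⟨k, hk⟩ := hG g
  have h1 : orderOf g ∣ p ^ k := orderOf_dvd_of_pow_eq_one hk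
  have h2 : (orderOf g).Coprime (p ^ k) := Nat.Coprime.pow_right k hg
  have h3 : orderOf g = 1 := Nat.Coprime.eq_one_of_dvd h2 h1
  exact orderOf_eq_one_iff.mp h3

variable {Ω : Type*} [Group Ω] {S : Subgroup Ω}

/-- the three-term chain `1 ≤ Z ∩ P ≤ P` -/
def centerChain (Z P : Subgroup Ω) : ℕ → Subgroup P :=
  fun j => if j = 0 then ⊥ else if j = 1 then Z.subgroupOf P else ⊤

/-- if all maps act trivially on a central subgroup `Z` and modulo `Z`, all `Aut_F(P)` are
`p`-groups -/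
theorem autGroup_isPGroup_of_trivial_mod_central [Finite S] {p : ℕ} [Fact p.Prime]
    (hS : IsPGroup p S) (F : FusionSystem S) {Z : Subgroup Ω} (hZ : F.IsCentral Z)
    (hmod : ∀ (P : Subgroup Ω) (φ : P →* Ω), φ ∈ F.Hom P → ∀ x : P, (x : Ω)⁻¹ * φ x ∈ Z)
    {P : Subgroup Ω} (hP : P ≤ S) : IsPGroup p (F.autGroup P) := by
  have hfinP : Finite P := finite_of_le hP
  have hPp : IsPGroup p P := isPGroup_of_le hS hP
  have hfix : ∀ α ∈ F.autGroup P, ∀ x : P, (x : Ω) ∈ Z → α x = x := by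
    intro α hα x hx
    apply Subtype.ext
    exact map_eq_of_isCentral F hZ (hom_of_mem_autGroup F hP hα) x hx
  have hinv : ∀ α ∈ F.autGroup P, ∀ j, ∀ x ∈ centerChain Z P j, α x ∈ centerChain Z P j := by
    intro α hα j x hx
    unfold centerChain at hx ⊢
    split_ifs with h0 h1
    · rw [if_pos h0, Subgroup.mem_bot] at hx
      rw [hx, map_one]
      exact Subgroup.one_mem _
    · rw [if_neg h0, if_pos h1] at hx
      rw [hfix α hα x hx]
      exact hx
    · trivial
  have hstab : ∀ α ∈ F.autGroup P, ∀ j, ∀ x ∈ centerChain Z P (j + 1),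
      x⁻¹ * α x ∈ centerChain Z P j := by
    intro α hα j x hx
    unfold centerChain at hx ⊢
    split_ifs with h0 h1
    · subst h0
      rw [if_neg (by norm_num), if_pos (by norm_num)] at hx
      rw [hfix α hα x hx, inv_mul_cancel]
      exact Subgroup.one_mem _
    · exact hmod P _ (hom_of_mem_autGroup F hP hα) x
    · trivial
  have h0 : centerChain Z P 0 = ⊥ := by unfold centerChain; rw [if_pos rfl]
  have h2 : centerChain Z P 2 = ⊤ := by
    unfold centerChain
    rw [if_neg (by norm_num), if_neg (by norm_num)]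
  have h1 := stabChain_isPGroup hPp (F.autGroup P) (centerChain Z P) hinv h0 2 h2
  have h3 : stabChain (F.autGroup P) (centerChain Z P) hinv = F.autGroup P := by
    apply le_antisymm (stabChain_le _ _ _)
    intro α hα
    exact ⟨hα, hstab α hα⟩
  rw [h3] at h1
  exact h1

theorem hyperfocal_eq_bot_of_autGroups_pGroups {p : ℕ} [Fact p.Prime] (F : FusionSystem S)
    (h : ∀ P : Subgroup Ω, P ≤ S → IsPGroup p (F.autGroup P)) : F.hyperfocalSubgroup p = ⊥ := by
  rw [hyperfocalSubgroup, Subgroup.closure_eq_bot_iff]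
  rintro y ⟨P, α, x, hP, hα, rfl⟩
  rw [pResidual_eq_bot_of_isPGroup (h P hP), Subgroup.mem_bot] at hα
  rw [Set.mem_singleton_iff, hα]
  show (x : Ω)⁻¹ * (((1 : MulAut P) x : P) : Ω) = 1
  rw [MulAut.one_apply, inv_mul_cancel]

/-- S5148 -/
theorem quasisimple_nonabelian [Finite S] (p : ℕ) [Fact p.Prime] (hS : IsPGroup p S)
    (F : FusionSystem S) (hq : F.Quasisimple p) : ¬ IsMulCommutative S := by
  obtain ⟨hF, hhyp, hquot⟩ := hq
  intro hab
  have hZc := isCentral_center F
  have hZsc := center_stronglyClosed F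
  obtain ⟨E, hE⟩ := exists_factorSystem_quotient F F.center hZsc
  have hEs := hquot E hE
  have hfin' : Finite (⊤ : Subgroup (S ⧸ (F.center).subgroupOf S)) :=
    finite_of_range_eq _ hE.2.2.1
  have hp' : IsPGroup p (⊤ : Subgroup (S ⧸ (F.center).subgroupOf S)) :=
    isPGroup_of_range_eq hS _ hE.2.2.1
  have hab' : ∀ x ∈ (⊤ : Subgroup (S ⧸ (F.center).subgroupOf S)), ∀ y ∈
      (⊤ : Subgroup (S ⧸ (F.center).subgroupOf S)), x * y = y * x := by
    intro x _ y _
    obtain ⟨a, rfl⟩ := QuotientGroup.mk_surjective x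
    obtain ⟨b, rfl⟩ := QuotientGroup.mk_surjective y
    rw [← QuotientGroup.mk_mul, ← QuotientGroup.mk_mul, hab.is_comm.comm a b]
  obtain ⟨hcard, hinner⟩ := (simple_abelian_iff p hp' E hEs.1 hab').mp hEs
  have hmor := factor_isSurjectiveMorphism p hS F hF F.center hZsc _ E hE
  obtain ⟨hS₀S, hker, hrange, hHom⟩ := hE
  have hmod : ∀ (P : Subgroup Ω) (φ : P →* Ω), φ ∈ F.Hom P →
      ∀ x : P, (x : Ω)⁻¹ * φ x ∈ F.center := by
    intro P φ hφ x
    obtain ⟨φ', hφ', hP, hφS, hPP', hind⟩ := hmor.1.2 P φ hφ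
    rw [hinner] at hφ'
    obtain ⟨-, g, -, hg⟩ := hφ'
    have h1 := hind x
    rw [hg] at h1
    have h2 : g * ((⟨(QuotientGroup.mk' ((F.center).subgroupOf S)) ⟨x, hP x.2⟩, hPP' x⟩ :
        imageAlong (QuotientGroup.mk' ((F.center).subgroupOf S)) P) :
          S ⧸ (F.center).subgroupOf S) * g⁻¹ =
        (QuotientGroup.mk' ((F.center).subgroupOf S)) ⟨x, hP x.2⟩ := by
      rw [hab' g trivial _ trivial, mul_inv_cancel_right]
    rw [h2] at h1
    have h3 : (QuotientGroup.mk' ((F.center).subgroupOf S))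
        ((⟨x, hP x.2⟩ : S)⁻¹ * ⟨φ x, hφS x⟩) = 1 := by
      rw [map_mul, map_inv, h1, inv_mul_cancel]
    exact (hker _).mp h3
  have hAutp := fun P hP => autGroup_isPGroup_of_trivial_mod_central hS F hZc hmod (P := P) hP
  have hhyp' := hyperfocal_eq_bot_of_autGroups_pGroups F hAutp
  rw [hhyp] at hhyp'
  have hsub : Subsingleton S := by
    rw [hhyp']
    infer_instance
  have hsub' : Subsingleton (⊤ : Subgroup (S ⧸ (F.center).subgroupOf S)) := by
    constructor
    rintro ⟨a, -⟩ ⟨b, -⟩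
    obtain ⟨a, rfl⟩ := QuotientGroup.mk_surjective a
    obtain ⟨b, rfl⟩ := QuotientGroup.mk_surjective b
    rw [Subsingleton.elim a b]
  have hc1 : Nat.card (⊤ : Subgroup (S ⧸ (F.center).subgroupOf S)) = 1 :=
    Nat.card_unique
  rw [hcard] at hc1
  exact (Fact.out : p.Prime).ne_one hc1

end Cfsg.Agent.Lib.Helper9
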