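import Cfsg.Agent.Lib.Helper9.FusionSat4
import Cfsg.Agent.Lib.Helper9.NormalSeries5

set_option autoImplicit false

namespace Cfsg.Agent.Lib.Helper9

open Cfsg Cfsg.FusionSystem

variable {Ω : Type*} [Group Ω] {S : Subgroup Ω}

theorem weaklyClosed_of_stronglyClosed [Finite S] (F : FusionSystem S) {P : Subgroup Ω}
    (hP : F.StronglyClosed P) : F.WeaklyClosed P :=
  ⟨hP.1, fun φ hφ => eq_of_isConj_of_stronglyClosed F hP ⟨φ, hφ, rfl⟩⟩

/-- a weakly closed subgroup that is central in a strongly closed subgroup is strongly closed -/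
theorem stronglyClosed_of_weaklyClosed_central [Finite S] {p : ℕ} [Fact p.Prime]
    (hS : IsPGroup p S) (F : FusionSystem S) (hF : F.IsSaturated p) {Q W : Subgroup Ω}
    (hQ : F.StronglyClosed Q) (hWQ : W ≤ Q) (hcomm : ∀ w ∈ W, ∀ q ∈ Q, w * q = q * w)
    (hW : F.WeaklyClosed W) : F.StronglyClosed W := by
  refine ⟨hW.1, ?_⟩
  intro R hR φ hφ x
  have hXR : Subgroup.zpowers (x : Ω) ≤ R := Subgroup.zpowers_le.mpr x.2
  have hXW : Subgroup.zpowers (x : Ω) ≤ W := hXR.trans hR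
  have hXS : Subgroup.zpowers (x : Ω) ≤ S := hXW.trans hW.1
  have hφX := restrict_mem F hφ hXR
  have hxX : (x : Ω) ∈ Subgroup.zpowers (x : Ω) := Subgroup.mem_zpowers _
  obtain ⟨Z, hXZ, hZn⟩ := exists_isConj_fullyNormalized F hXS
  obtain ⟨χ, hχ, hχr⟩ := hXZ
  have hZrec := receptive_of_fullyCentralized hS F hF
    (fullyCentralized_of_fullyNormalized hS F hF hZn)
  obtain ⟨χ', hχ', hχ'χ⟩ := hZrec.2 _ χ hχ hχr
  have hWC : W ≤ centralizerIn S (Subgroup.zpowers (x : Ω)) := by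
    intro w hw
    refine ⟨hW.1 hw, ?_⟩
    show w ∈ Subgroup.centralizer ((Subgroup.zpowers (x : Ω) : Subgroup Ω) : Set Ω)
    rw [Subgroup.mem_centralizer_iff]
    intro y hy
    exact (hcomm w hw y (hWQ (hXW hy))).symm
  have hWE : W ≤ extender S (Subgroup.zpowers (x : Ω)) χ :=
    hWC.trans (centralizerIn_le_extender _ χ)
  have hrW := hW.2 _ (restrict_mem F hχ' hWE)
  have hZW : Z ≤ W := by
    rw [← hχr]
    rintro _ ⟨u, rfl⟩
    rw [← hχ'χ u u.2 (hWE (hXW u.2)), ← hrW]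
    exact ⟨⟨u, hXW u.2⟩, rfl⟩
  -- the inverse of `φ` on `X`, followed by `χ`
  obtain ⟨θ₀, hθ₀, hθ₀φ, hθ₀r, -⟩ := inv_hom F hφX rfl
  have hθ₀X : ∀ y, θ₀ y ∈ Subgroup.zpowers (x : Ω) := fun y => hθ₀r.le ⟨y, rfl⟩
  obtain ⟨θ, hθ, hθeq⟩ := comp_hom F hθ₀ hχ hθ₀X
  have hθr : θ.range = Z := by
    apply le_antisymm
    · rintro _ ⟨y, rfl⟩
      rw [hθeq, ← hχr]
      exact ⟨_, rfl⟩
    · rw [← hχr]
      rintro _ ⟨u, rfl⟩
      refine ⟨⟨(φ.comp (Subgroup.inclusion hXR)) u, ⟨u, rfl⟩⟩, ?_⟩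
      rw [hθeq]
      congr 1
      exact Subtype.ext (hθ₀φ u ⟨u, rfl⟩)
  obtain ⟨θ', hθ', hθ'θ⟩ := hZrec.2 _ θ hθ hθr
  have hYQ : (φ.comp (Subgroup.inclusion hXR)).range ≤ Q := by
    rintro _ ⟨u, rfl⟩
    exact hQ.2 _ (hXW.trans hWQ) _ hφX u
  have hYS : (φ.comp (Subgroup.inclusion hXR)).range ≤ S := hYQ.trans hQ.1
  have hWC' : W ≤ centralizerIn S (φ.comp (Subgroup.inclusion hXR)).range := by
    intro w hw
    refine ⟨hW.1 hw, ?_⟩
    show w ∈ Subgroup.centralizer (((φ.comp (Subgroup.inclusion hXR)).range : Subgroup Ω) : Set Ω)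
    rw [Subgroup.mem_centralizer_iff]
    intro y hy
    exact (hcomm w hw y (hYQ hy)).symm
  have hWE' : W ≤ extender S (φ.comp (Subgroup.inclusion hXR)).range θ :=
    hWC'.trans (centralizerIn_le_extender _ θ)
  have hYE' : (φ.comp (Subgroup.inclusion hXR)).range ≤
      extender S (φ.comp (Subgroup.inclusion hXR)).range θ :=
    le_extender hYS θ (fun y => hom_mem F hθ y)
  have hrW' := hW.2 _ (restrict_mem F hθ' hWE')
  -- `y = φ x`
  have hyY : φ x ∈ (φ.comp (Subgroup.inclusion hXR)).range := ⟨⟨x, hxX⟩, rfl⟩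
  have h1 : θ' ⟨φ x, hYE' hyY⟩ ∈ W := by
    rw [hθ'θ (φ x) hyY (hYE' hyY)]
    apply hZW
    rw [← hθr]
    exact ⟨_, rfl⟩
  rw [← hrW'] at h1
  obtain ⟨w, hw⟩ := h1
  have h2 : (Subgroup.inclusion hWE' w) = ⟨φ x, hYE' hyY⟩ := F.injective_of_mem hθ' hw
  have h3 : (w : Ω) = φ x := congrArg (fun z : extender S _ θ => (z : Ω)) h2
  rw [← h3]
  exact w.2

end Cfsg.Agent.Lib.Helper9
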