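import Mathlib
import Cfsg.Prelude.Def_Involutions
import Cfsg.Agent.Lib.Lead.SEElem

set_option autoImplicit false

/-!
# Groups in which every involution has an abelian centralizer (S2202): base library

`Hyp T`: `T` a Sylow 2-subgroup, neither cyclic nor normal, all involution centralizers abelian.
`Concl T`: the structure proved by induction (see `AbCw`).
-/

namespace Cfsg.Agent.Lib.Helper9.AbC

open Cfsg Cfsg.Agent.Lib.Lead Cfsg.Agent.Lib.Lead.SE

variable {G : Type*} [Group G] [Finite G]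

/-- hypotheses: the Sylow 2-subgroup `T` is neither cyclic nor normal, and the centralizer of
every involution is abelian (elementwise form) -/
structure Hyp (T : Sylow 2 G) : Prop where
  nc : ¬ IsCyclic (T : Subgroup G)
  nn : ¬ (T : Subgroup G).Normal
  ab : ∀ t : G, orderOf t = 2 → ∀ a b : G, a * t = t * a → b * t = t * b → a * b = b * a

/-- the conclusion proved by induction on `|G|`: `T` is elementary abelian; odd elements of
`C_G(T)` lie in the core `N` of `N_G(T)`; `T` is regular on the points other than the base point;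
three point stabilizers are `N`; two point stabilizers are cyclic modulo `N`. -/
structure Concl (T : Sylow 2 G) : Prop where
  elem : ∀ t ∈ T, t ^ 2 = 1
  core : ∀ c : G, (∀ t ∈ T, c * t = t * c) → Odd (orderOf c) →
    c ∈ (Subgroup.normalizer ((T : Subgroup G) : Set G)).normalCore
  reg : ∀ y z : G ⧸ Subgroup.normalizer ((T : Subgroup G) : Set G),
    y ≠ ((1 : G) : G ⧸ Subgroup.normalizer ((T : Subgroup G) : Set G)) →
    z ≠ ((1 : G) : G ⧸ Subgroup.normalizer ((T : Subgroup G) : Set G)) →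
    ∃! t : G, t ∈ T ∧ t • y = z
  three : ∀ (g : G) (x y z : G ⧸ Subgroup.normalizer ((T : Subgroup G) : Set G)),
    x ≠ y → x ≠ z → y ≠ z → g • x = x → g • y = y → g • z = z →
    g ∈ (Subgroup.normalizer ((T : Subgroup G) : Set G)).normalCore
  gen2 : ∀ x y : G ⧸ Subgroup.normalizer ((T : Subgroup G) : Set G), x ≠ y →
    ∃ d₀ : G, d₀ • x = x ∧ d₀ • y = y ∧ ∀ d : G, d • x = x → d • y = y →
      ∃ k : ℕ, ∃ n ∈ (Subgroup.normalizer ((T : Subgroup G) : Set G)).normalCore, d = d₀ ^ k * n

section General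

omit [Finite G] in
/-- a nontrivial element of 2-power order has a power of order 2 -/
theorem exists_pow_invol {s : G} {k : ℕ} (hk : orderOf s = 2 ^ k) (hs1 : s ≠ 1) :
    ∃ j : ℕ, orderOf (s ^ j) = 2 := by
  rcases Nat.eq_zero_or_pos k with h0 | h0
  · exfalso
    rw [h0, pow_zero, orderOf_eq_one_iff] at hk
    exact hs1 hk
  · refine ⟨2 ^ (k - 1), ?_⟩
    have h2 : (2 : ℕ) ^ k = 2 ^ (k - 1) * 2 := by
      rw [← pow_succ]; congr 1; omega
    rw [orderOf_pow' s (by positivity), hk, Nat.gcd_eq_right (Dvd.intro _ h2.symm), h2]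
    exact Nat.mul_div_cancel_left 2 (by positivity)

omit [Finite G] in
/-- an element of odd order conjugate to its inverse by an element `e` whose square commutes
with it... : in a group where `e` has odd order, `e c e⁻¹ = c⁻¹` forces `c ^ 2 = 1` -/
theorem sq_eq_one_of_inverted_odd {e c : G} (he : Odd (orderOf e)) (h : e * c * e⁻¹ = c⁻¹) :
    c ^ 2 = 1 := by
  -- conjugating twice gives back c, so e^2 commutes with c; e is a power of e^2
  have h2 : ∀ n : ℕ, e ^ (2 * n) * c * (e ^ (2 * n))⁻¹ = c := by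
    intro n
    induction n with
    | zero => simp
    | succ n ih =>
      have e1 : e ^ (2 * (n + 1)) = e * (e * e ^ (2 * n)) := by
        rw [show 2 * (n + 1) = 2 * n + 1 + 1 by ring, pow_succ', pow_succ']
      rw [e1]
      have : e * (e * e ^ (2 * n)) * c * (e * (e * e ^ (2 * n)))⁻¹ =
          e * (e * (e ^ (2 * n) * c * (e ^ (2 * n))⁻¹) * e⁻¹) * e⁻¹ := by group
      rw [this, ih, h]
      have : e * c⁻¹ * e⁻¹ = (e * c * e⁻¹)⁻¹ := by group
      rw [this, h, inv_inv]
  obtain ⟨m, hm⟩ := he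
  have h3 : e ^ (2 * (m + 1)) = e := by
    have : e ^ (2 * (m + 1)) = e ^ (2 * m + 1) * e := by
      rw [show 2 * (m + 1) = 2 * m + 1 + 1 by ring, pow_succ]
    rw [this, ← hm, pow_orderOf_eq_one, one_mul]
  have h4 := h2 (m + 1)
  rw [h3, h] at h4
  rw [pow_two]
  calc c * c = c * c⁻¹ := by rw [h4]
    _ = 1 := mul_inv_cancel c

end General

namespace Hyp

variable {T : Sylow 2 G} (h : Hyp T)
include h

local notation "HH" => Subgroup.normalizer ((T : Subgroup G) : Set G)

theorem ne_bot : (T : Subgroup G) ≠ ⊥ := by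
  intro hb
  apply h.nc
  rw [hb]
  infer_instance

theorem exists_invol_mem : ∃ s : G, s ∈ T ∧ orderOf s = 2 := by
  haveI : Fact (Nat.Prime 2) := ⟨Nat.prime_two⟩
  apply exists_invol_of_even
  rcases T.2.card_eq_or_dvd with h1 | h1
  · exact absurd (Subgroup.card_eq_one.mp h1) h.ne_bot
  · exact even_iff_two_dvd.mpr h1

/-- `T` is abelian -/
theorem comm {a b : G} (ha : a ∈ T) (hb : b ∈ T) : a * b = b * a := by
  haveI : Fact (Nat.Prime 2) := ⟨Nat.prime_two⟩
  haveI : Nontrivial (T : Subgroup G) := (Subgroup.nontrivial_iff_ne_bot _).mpr h.ne_bot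
  have hcen : Nontrivial (Subgroup.center (T : Subgroup G)) := T.2.center_nontrivial
  have hcen2 : 2 ∣ Nat.card (Subgroup.center (T : Subgroup G)) := by
    rcases (T.2.to_subgroup (Subgroup.center (T : Subgroup G))).card_eq_or_dvd with h1 | h1
    · exfalso
      have := (Subgroup.nontrivial_iff_ne_bot _).mp hcen
      exact this (Subgroup.card_eq_one.mp h1)
    · exact h1
  obtain ⟨z, hz⟩ := exists_prime_orderOf_dvd_card' 2 hcen2
  have hzG : orderOf ((z : (T : Subgroup G)) : G) = 2 := by
    rw [Subgroup.orderOf_coe, Subgroup.orderOf_coe]; exact hz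
  have hz' : ∀ x : G, x ∈ T → x * ((z : (T : Subgroup G)) : G) = ((z : (T : Subgroup G)) : G) * x := by
    intro x hx
    have e := congrArg Subtype.val ((Subgroup.mem_center_iff.mp z.2) ⟨x, hx⟩)
    simpa using e
  exact h.ab _ hzG a b (hz' a ha) (hz' b hb)

/-- elements of `T` have 2-power order -/
theorem orderOf_mem {s : G} (hs : s ∈ T) : ∃ k : ℕ, orderOf s = 2 ^ k := by
  haveI : Fact (Nat.Prime 2) := ⟨Nat.prime_two⟩
  obtain ⟨k, hk⟩ := (IsPGroup.iff_orderOf.mp T.2) ⟨s, hs⟩
  exact ⟨k, by rw [Subgroup.orderOf_mk] at hk; exact hk⟩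

/-- anything commuting with a nontrivial element of `T` commutes with all of `T` -/
theorem cent_of_comm {s : G} (hs : s ∈ T) (hs1 : s ≠ 1) {c : G} (hc : c * s = s * c) {t : G}
    (ht : t ∈ T) : c * t = t * c := by
  obtain ⟨k, hk⟩ := h.orderOf_mem hs
  obtain ⟨j, hj⟩ := exists_pow_invol hk hs1
  have hsj : s ^ j ∈ T := Subgroup.pow_mem _ hs j
  have hcz : c * s ^ j = s ^ j * c := ((Commute.pow_right (show Commute c s from hc) j)).eq
  exact h.ab _ hj c t hcz (h.comm ht hsj)

/-- the centralizer of a nontrivial element of `T` is abelian -/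
theorem cent_comm {s : G} (hs : s ∈ T) (hs1 : s ≠ 1) {a b : G} (ha : a * s = s * a)
    (hb : b * s = s * b) : a * b = b * a := by
  obtain ⟨k, hk⟩ := h.orderOf_mem hs
  obtain ⟨j, hj⟩ := exists_pow_invol hk hs1
  exact h.ab _ hj a b ((Commute.pow_right (show Commute a s from ha) j)).eq
    ((Commute.pow_right (show Commute b s from hb) j)).eq

/-- a 2-element centralizing `T` lies in `T` -/
theorem two_elt_mem {c : G} (hc : ∀ t ∈ T, c * t = t * c) {k : ℕ} (hk : orderOf c = 2 ^ k) :
    c ∈ T := by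
  apply KleinSylow.mem_of_two_elt_normalizer T c _ k hk
  rw [Subgroup.mem_normalizer_iff]
  intro n
  constructor
  · intro hnT
    have : c * n * c⁻¹ = n := by rw [hc n hnT]; group
    rw [this]; exact hnT
  · intro hnT
    have h1 : c * (c * n * c⁻¹) = (c * n * c⁻¹) * c := hc _ hnT
    have h2 : c * n = n * c := by
      have : c * (c * n * c⁻¹) * c⁻¹ * c = c * (c * n) * c⁻¹ := by group
      have h3 : c * (c * n) * c⁻¹ = c * n * c⁻¹ * c := by
        rw [← this, h1]; group
      have h4 : c * n * c⁻¹ * c = c * n := by group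
      have h5 : c * (c * n) * c⁻¹ = c * n := h3.trans h4
      have h6 : c * (c * n) = c * n * c := by
        calc c * (c * n) = c * (c * n) * c⁻¹ * c := by group
          _ = c * n * c := by rw [h5]
      have h7 : c * (c * n) = c * (n * c) := by rw [h6]; group
      exact mul_left_cancel h7
    have : c * n * c⁻¹ = n := by rw [h2]; group
    rw [this] at hnT; exact hnT

omit h in
theorem aux_conj_mem (h : Hyp T) {g s : G} (hs : s ∈ T) (hs1 : s ≠ 1) (hg : g * s * g⁻¹ ∈ T)
    {t : G} (ht : t ∈ T) : g * t * g⁻¹ ∈ T := by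
  have hs1' : g * s * g⁻¹ ≠ 1 := by
    intro h1
    apply hs1
    have : s = g⁻¹ * (g * s * g⁻¹) * g := by group
    rw [this, h1]; group
  have hcomm : (g * t * g⁻¹) * (g * s * g⁻¹) = (g * s * g⁻¹) * (g * t * g⁻¹) := by
    have e1 : (g * t * g⁻¹) * (g * s * g⁻¹) = g * (t * s) * g⁻¹ := by group
    have e2 : (g * s * g⁻¹) * (g * t * g⁻¹) = g * (s * t) * g⁻¹ := by group
    rw [e1, e2, h.comm ht hs]
  obtain ⟨k, hk⟩ := h.orderOf_mem ht
  apply h.two_elt_mem (fun t' ht' => h.cent_of_comm hg hs1' hcomm ht') (k := k)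
  rw [orderOf_conj_eq, hk]

/-- `T` is a TI subgroup: if a conjugate by `g` of a nontrivial element of `T` lies in `T`,
then `g` normalizes `T` -/
theorem ti {g s : G} (hs : s ∈ T) (hs1 : s ≠ 1) (hg : g * s * g⁻¹ ∈ T) : g ∈ HH := by
  rw [Subgroup.mem_normalizer_iff]
  intro n
  constructor
  · intro hn
    exact aux_conj_mem h hs hs1 hg hn
  · intro hn
    have hs1' : g * s * g⁻¹ ≠ 1 := by
      intro h1
      apply hs1
      have : s = g⁻¹ * (g * s * g⁻¹) * g := by group
      rw [this, h1]; group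
    have hg' : g⁻¹ * (g * s * g⁻¹) * g⁻¹⁻¹ ∈ T := by
      have : g⁻¹ * (g * s * g⁻¹) * g⁻¹⁻¹ = s := by group
      rw [this]; exact hs
    have := aux_conj_mem h hg hs1' hg' hn
    have e : g⁻¹ * (g * n * g⁻¹) * g⁻¹⁻¹ = n := by group
    rw [e] at this
    exact this

/-- involutions of `N_G(T)` lie in `T` -/
theorem invol_mem {t : G} (ht : orderOf t = 2) (htH : t ∈ HH) : t ∈ T :=
  KleinSylow.mem_of_two_elt_normalizer T t htH 1 (by rw [ht]; norm_num)

/-- `N_G(T)` is strongly embedded -/
theorem se : IsStronglyEmbedded HH := by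
  have hne : HH ≠ ⊤ := by
    intro htop
    apply h.nn
    exact Subgroup.normalizer_eq_top_iff.mp htop
  obtain ⟨s0, hs0T, hs0⟩ := h.exists_invol_mem
  have heven : Even (Nat.card HH) :=
    even_card_of_invol_mem _ s0 hs0 (Subgroup.le_normalizer hs0T)
  rw [stronglyEmbedded_iff _ hne heven]
  intro g hg s hs hsH hconj
  apply hg
  have hsT := h.invol_mem hs hsH
  have h2 : orderOf (g⁻¹ * s * g) = 2 := by rw [orderOf_conj_eq', hs]
  have hcT := h.invol_mem h2 hconj
  have h3 : g⁻¹ * s * g⁻¹⁻¹ ∈ T := by rw [inv_inv]; exact hcT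
  have := h.ti hsT (invol_ne_one hs) h3
  exact (Subgroup.inv_mem_iff _).mp this

end Hyp

end Cfsg.Agent.Lib.Helper9.AbC
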