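import Mathlib
import Cfsg.Prelude.Def_Involutions
import Cfsg.Agent.Lib.Lead.SEElem
import Cfsg.Agent.Lib.Helper9.AbCa
import Cfsg.Agent.S0016

set_option autoImplicit false

/-!
# S2202 base library, part 2: involutory automorphisms of odd order groups, the core, points
-/

namespace Cfsg.Agent.Lib.Helper9.AbC

open Cfsg Cfsg.Agent.Lib.Lead Cfsg.Agent.Lib.Lead.SE

section OddAut

variable {G : Type*} [Group G]

/-- an element of odd order with trivial square is trivial -/
theorem eq_one_of_odd_of_sq {c : G} (ho : Odd (orderOf c)) (h2 : c ^ 2 = 1) : c = 1 := by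
  have hd : orderOf c ∣ 2 := orderOf_dvd_of_pow_eq_one h2
  have h1 : orderOf c = 1 := by
    rcases (Nat.dvd_prime Nat.prime_two).mp hd with h | h
    · exact h
    · rw [h] at ho; exact absurd ho (by decide)
  exact orderOf_eq_one_iff.mp h1

/-- `u` an involution, `b` inverted by `u` of odd order, `c` fixed by `u`, `b c` inverted: `c = 1` -/
theorem fix_eq_one_of_inv_mul {u b c : G} (hu : orderOf u = 2) (hbo : Odd (orderOf b))
    (hco : Odd (orderOf c)) (hb : u * b * u⁻¹ = b⁻¹) (hc : u * c * u⁻¹ = c)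
    (hbc : u * (b * c) * u⁻¹ = (b * c)⁻¹) : c = 1 := by
  have h1 : u * (b * c) * u⁻¹ = (u * b * u⁻¹) * (u * c * u⁻¹) := by group
  rw [h1, hb, hc, mul_inv_rev] at hbc
  -- b⁻¹ c = c⁻¹ b⁻¹
  have h2 : b⁻¹ * c * b⁻¹⁻¹ = c⁻¹ := by
    rw [hbc]; group
  have hbo' : Odd (orderOf b⁻¹) := by rw [orderOf_inv]; exact hbo
  exact eq_one_of_odd_of_sq hco (sq_eq_one_of_inverted_odd hbo' h2)

/-- decomposition of an element `d` of odd order group normalized by the involution `u` as a
product of an inverted and a fixed element (both in the subgroup generated by `d` and `u d u⁻¹`,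
here stated inside a subgroup `D`) -/
theorem exists_inv_mul_fix (D : Subgroup G) {u : G} (hu : orderOf u = 2)
    (hn : ∀ d ∈ D, u * d * u⁻¹ ∈ D) (hodd : ∀ d ∈ D, Odd (orderOf d)) {d : G} (hd : d ∈ D) :
    ∃ b ∈ D, ∃ c ∈ D, u * b * u⁻¹ = b⁻¹ ∧ u * c * u⁻¹ = c ∧ d = b * c := by
  have huu : u * u = 1 := invol_mul_self hu
  have hui : u⁻¹ = u := invol_inv hu
  set a := d * (u * d * u⁻¹)⁻¹ with ha
  have haD : a ∈ D := D.mul_mem hd (D.inv_mem (hn d hd))
  have hau : u * a * u⁻¹ = a⁻¹ := by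
    have e1 : u * a * u⁻¹ = u * d * u * d⁻¹ * (u * u)⁻¹ := by rw [ha]; group
    have e2 : a⁻¹ = u * d * u⁻¹ * d⁻¹ := by rw [ha]; group
    rw [e1, e2, huu, inv_one, mul_one, hui]
  obtain ⟨m, hm⟩ := hodd a haD
  set b := a ^ (m + 1) with hb
  have hbD : b ∈ D := D.pow_mem haD _
  have hbb : b * b = a := by
    rw [hb, ← pow_add]
    have : m + 1 + (m + 1) = (2 * m + 1) + 1 := by ring
    rw [this, pow_succ, ← hm, pow_orderOf_eq_one, one_mul]
  have hbu : u * b * u⁻¹ = b⁻¹ := by
    rw [hb]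
    have : u * a ^ (m + 1) * u⁻¹ = (u * a * u⁻¹) ^ (m + 1) := by
      rw [conj_pow]
    rw [this, hau, inv_pow]
  refine ⟨b, hbD, b⁻¹ * d, D.mul_mem (D.inv_mem hbD) hd, hbu, ?_, by group⟩
  have e1 : u * (b⁻¹ * d) * u⁻¹ = (u * b * u⁻¹)⁻¹ * (u * d * u⁻¹) := by group
  rw [e1, hbu, inv_inv]
  -- b * (u d u⁻¹) = b⁻¹ * d  ⟸  b b (u d u⁻¹) = d
  have e2 : a * (u * d * u⁻¹) = d := by rw [ha]; group
  calc b * (u * d * u⁻¹) = b⁻¹ * (b * b * (u * d * u⁻¹)) := by group
    _ = b⁻¹ * d := by rw [hbb, e2]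

/-- `|D| = |Inv| * |Fix|` for an involution `u` normalizing the odd order group `D` -/
theorem card_inv_mul_card_fix [Finite G] (D : Subgroup G) {u : G} (hu : orderOf u = 2)
    (hn : ∀ d ∈ D, u * d * u⁻¹ ∈ D) (hodd : ∀ d ∈ D, Odd (orderOf d)) :
    Nat.card {d : G // d ∈ D ∧ u * d * u⁻¹ = d⁻¹} * Nat.card {d : G // d ∈ D ∧ u * d * u⁻¹ = d} =
      Nat.card D := by
  rw [← Nat.card_prod]
  apply Nat.card_congr
  refine Equiv.ofBijective
    (fun p => (⟨p.1.1 * p.2.1, D.mul_mem p.1.2.1 p.2.2.1⟩ : D)) ⟨?_, ?_⟩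
  · rintro ⟨⟨b, hbD, hb⟩, ⟨c, hcD, hc⟩⟩ ⟨⟨b', hb'D, hb'⟩, ⟨c', hc'D, hc'⟩⟩ heq
    have heq' : b * c = b' * c' := congrArg Subtype.val heq
    -- b' = b * (c * c'⁻¹)
    have h1 : b' = b * (c * c'⁻¹) := by
      have : b' = (b' * c') * c'⁻¹ := by group
      rw [this, ← heq']; group
    have hfix : u * (c * c'⁻¹) * u⁻¹ = c * c'⁻¹ := by
      have : u * (c * c'⁻¹) * u⁻¹ = (u * c * u⁻¹) * (u * c' * u⁻¹)⁻¹ := by group
      rw [this, hc, hc']
    have hcc : c * c'⁻¹ = 1 := by
      apply fix_eq_one_of_inv_mul hu (hodd b hbD) (hodd _ (D.mul_mem hcD (D.inv_mem hc'D))) hb hfix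
      rw [← h1]; exact hb'
    have hc_eq : c = c' := by
      have := mul_inv_eq_one.mp hcc
      exact this
    have hb_eq : b = b' := by
      rw [h1, hcc, mul_one]
    subst hc_eq hb_eq
    rfl
  · rintro ⟨d, hd⟩
    obtain ⟨b, hbD, c, hcD, hb, hc, hdbc⟩ := exists_inv_mul_fix D hu hn hodd hd
    exact ⟨⟨⟨b, hbD, hb⟩, ⟨c, hcD, hc⟩⟩, Subtype.ext hdbc.symm⟩

end OddAut

variable {G : Type*} [Group G] [Finite G]

namespace Hyp

variable {T : Sylow 2 G} (h : Hyp T)
include h

local notation "HH" => Subgroup.normalizer ((T : Subgroup G) : Set G)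

/-- there are two distinct involutions in `T` -/
theorem exists_two_invol : ∃ s t : G, s ∈ T ∧ t ∈ T ∧ orderOf s = 2 ∧ orderOf t = 2 ∧ s ≠ t := by
  haveI : Fact (Nat.Prime 2) := ⟨Nat.prime_two⟩
  by_contra hcon
  push_neg at hcon
  apply h.nc
  have huniq : ∀ H K : Subgroup (T : Subgroup G), Nat.card H = 2 → Nat.card K = 2 → H = K := by
    intro H K hH hK
    obtain ⟨a, ha⟩ := exists_prime_orderOf_dvd_card' (G := H) 2 (by rw [hH])
    obtain ⟨b, hb⟩ := exists_prime_orderOf_dvd_card' (G := K) 2 (by rw [hK])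
    have ha' : orderOf ((a : (T : Subgroup G)) : G) = 2 := by
      rw [Subgroup.orderOf_coe, Subgroup.orderOf_coe]; exact ha
    have hb' : orderOf ((b : (T : Subgroup G)) : G) = 2 := by
      rw [Subgroup.orderOf_coe, Subgroup.orderOf_coe]; exact hb
    have hab : ((a : (T : Subgroup G)) : G) = ((b : (T : Subgroup G)) : G) :=
      hcon _ _ (a : (T : Subgroup G)).2 (b : (T : Subgroup G)).2 ha' hb'
    have hab' : (a : (T : Subgroup G)) = (b : (T : Subgroup G)) := Subtype.ext hab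
    have hH' : Subgroup.zpowers (a : (T : Subgroup G)) = H := by
      apply Subgroup.eq_of_le_of_card_ge
      · rw [Subgroup.zpowers_le]; exact a.2
      · rw [Nat.card_zpowers, Subgroup.orderOf_coe, ha, hH]
    have hK' : Subgroup.zpowers (b : (T : Subgroup G)) = K := by
      apply Subgroup.eq_of_le_of_card_ge
      · rw [Subgroup.zpowers_le]; exact b.2
      · rw [Nat.card_zpowers, Subgroup.orderOf_coe, hb, hK]
    rw [← hH', ← hK', hab']
  rcases Cfsg.Agent.S0016.result 2 T.2 huniq with h1 | ⟨-, n, ⟨e⟩⟩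
  · exact h1
  · exfalso
    -- a generalized quaternion group is not abelian, but T is
    have hcomm : ∀ x y : QuaternionGroup (2 ^ n), x * y = y * x := by
      intro x y
      have := h.comm (e.symm x).2 (e.symm y).2
      have h2 : e.symm x * e.symm y = e.symm y * e.symm x := Subtype.ext this
      have h3 := congrArg e h2
      simpa using h3
    have h4 := hcomm (QuaternionGroup.a 1) (QuaternionGroup.xa 0)
    simp only [QuaternionGroup.a_mul_xa, QuaternionGroup.xa_mul_a] at h4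
    have h5 : (0 : ZMod (2 * 2 ^ n)) - 1 = 0 + 1 := by
      injection h4
    have h6 : (2 : ZMod (2 * 2 ^ n)) = 0 := by
      have : (2 : ZMod (2 * 2 ^ n)) = (0 + 1) - (0 - 1) := by ring
      rw [this, h5]; ring
    have h7 : ((2 : ℕ) : ZMod (2 * 2 ^ n)) = 0 := by exact_mod_cast h6
    rw [ZMod.natCast_eq_zero_iff] at h7
    have h8 : 2 * 2 ^ n ≤ 2 := Nat.le_of_dvd (by norm_num) h7
    have h9 : 1 ≤ 2 ^ n := Nat.one_le_two_pow
    have h10 : 2 ^ n = 1 := by omega
    -- then T has 4 elements ... the quaternion group of order 4 is cyclic; T ≃ it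
    -- QuaternionGroup 1 is cyclic of order 4: element xa 0 has order 4
    have hord : orderOf (QuaternionGroup.xa (0 : ZMod (2 * 2 ^ n))) = 4 :=
      QuaternionGroup.orderOf_xa _
    have hcyc : IsCyclic (QuaternionGroup (2 ^ n)) := by
      apply isCyclic_of_orderOf_eq_card (QuaternionGroup.xa (0 : ZMod (2 * 2 ^ n)))
      rw [hord, Nat.card_eq_fintype_card, QuaternionGroup.card, h10]
    exact h.nc (isCyclic_of_surjective e.symm e.symm.surjective)

/-- the core of `N_G(T)` meets `T` trivially -/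
theorem core_inf {r : G} (hr : r ∈ (HH).normalCore) (hrT : r ∈ T) : r = 1 := by
  by_contra hr1
  apply h.nn
  rw [← Subgroup.normalizer_eq_top_iff, eq_top_iff]
  intro g _
  have h1 : g * r * g⁻¹ ∈ (HH).normalCore :=
    (Subgroup.normalCore_normal _).conj_mem r hr g
  have h2 : g * r * g⁻¹ ∈ HH := Subgroup.normalCore_le _ h1
  obtain ⟨k, hk⟩ := h.orderOf_mem hrT
  have h3 : g * r * g⁻¹ ∈ T :=
    KleinSylow.mem_of_two_elt_normalizer T _ h2 k (by rw [orderOf_conj_eq, hk])
  exact h.ti hrT hr1 h3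

/-- the core of `N_G(T)` centralizes `T` -/
theorem core_cent {n : G} (hn : n ∈ (HH).normalCore) {t : G} (ht : t ∈ T) : n * t = t * n := by
  have hnH : n ∈ HH := Subgroup.normalCore_le _ hn
  have h1 : n * t * n⁻¹ ∈ T := (Subgroup.mem_normalizer_iff.mp hnH t).mp ht
  have h2 : n * t * n⁻¹ * t⁻¹ ∈ T := T.1.mul_mem h1 (T.1.inv_mem ht)
  have h3 : n * t * n⁻¹ * t⁻¹ ∈ (HH).normalCore := by
    have : n * t * n⁻¹ * t⁻¹ = n * (t * n⁻¹ * t⁻¹) := by group
    rw [this]
    exact Subgroup.mul_mem _ hn ((Subgroup.normalCore_normal _).conj_mem _ (Subgroup.inv_mem _ hn) t)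
  have h4 := h.core_inf h3 h2
  have : n * t = (n * t * n⁻¹ * t⁻¹) * (t * n) := by group
  rw [this, h4, one_mul]

/-- the core of `N_G(T)` centralizes every involution -/
theorem core_cent_invol {n : G} (hn : n ∈ (HH).normalCore) {t : G} (ht : orderOf t = 2) :
    n * t = t * n := by
  obtain ⟨g, hg⟩ := KleinSylow.conj_mem_sylow T t ht
  have h1 : g * n * g⁻¹ ∈ (HH).normalCore := (Subgroup.normalCore_normal _).conj_mem n hn g
  have h2 := h.core_cent h1 hg
  have e1 : (g * n * g⁻¹) * (g * t * g⁻¹) = g * (n * t) * g⁻¹ := by group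
  have e2 : (g * t * g⁻¹) * (g * n * g⁻¹) = g * (t * n) * g⁻¹ := by group
  rw [e1, e2] at h2
  exact mul_left_cancel (mul_right_cancel h2)

/-- elements of the core have odd order -/
theorem core_odd {n : G} (hn : n ∈ (HH).normalCore) : Odd (orderOf n) := by
  rw [← Nat.not_even_iff_odd]
  rintro ⟨k, hk⟩
  have hpos := orderOf_pos n
  have hw2 : (n ^ k) * (n ^ k) = 1 := by rw [← pow_add, ← hk, pow_orderOf_eq_one]
  have hw1 : n ^ k ≠ 1 := by
    intro h1
    have := orderOf_dvd_of_pow_eq_one h1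
    have := Nat.le_of_dvd (by omega) this
    omega
  have hw : orderOf (n ^ k) = 2 := invol_of_mul_self hw1 hw2
  have hwN : n ^ k ∈ (HH).normalCore := Subgroup.pow_mem _ hn k
  have hwT : n ^ k ∈ T := h.invol_mem hw (Subgroup.normalCore_le _ hwN)
  exact hw1 (h.core_inf hwN hwT)

local notation "x₀" => ((1 : G) : G ⧸ Subgroup.normalizer ((T : Subgroup G) : Set G))

omit h in
/-- the stabilizer of the base point -/
theorem smul_base_iff (g : G) : g • (x₀) = x₀ ↔ g ∈ HH := by
  rw [smul_mk_eq_iff]; simp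

/-- two involutions fixing the same point commute -/
theorem invol_commute_of_fix {s t : G} (hs : orderOf s = 2) (ht : orderOf t = 2) {x : G ⧸ HH}
    (hsx : s • x = x) (htx : t • x = x) : s * t = t * s := by
  induction x using QuotientGroup.induction_on with
  | H g =>
  rw [smul_mk_eq_iff] at hsx htx
  have hsT := h.invol_mem (by rw [orderOf_conj_eq', hs]) hsx
  have htT := h.invol_mem (by rw [orderOf_conj_eq', ht]) htx
  have := h.comm hsT htT
  have e1 : g⁻¹ * s * g * (g⁻¹ * t * g) = g⁻¹ * (s * t) * g := by group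
  have e2 : g⁻¹ * t * g * (g⁻¹ * s * g) = g⁻¹ * (t * s) * g := by group
  rw [e1, e2] at this
  exact mul_left_cancel (mul_right_cancel this)

/-- the centralizers of two involutions fixing the same point coincide -/
theorem cent_iff_of_fix {s t : G} (hs : orderOf s = 2) (ht : orderOf t = 2) {x : G ⧸ HH}
    (hsx : s • x = x) (htx : t • x = x) (c : G) : c * s = s * c ↔ c * t = t * c := by
  have hst := h.invol_commute_of_fix hs ht hsx htx
  constructor
  · intro hc
    exact h.ab s hs c t hc hst.symm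
  · intro hc
    exact h.ab t ht c s hc hst

/-- the centralizer of an involution fixing `x` is normalized by the stabilizer of `x` -/
theorem conj_cent {s : G} (hs : orderOf s = 2) {x : G ⧸ HH} (hsx : s • x = x) {g : G}
    (hg : g • x = x) {c : G} (hc : c * s = s * c) : (g * c * g⁻¹) * s = s * (g * c * g⁻¹) := by
  have hs' : orderOf (g * s * g⁻¹) = 2 := by rw [orderOf_conj_eq, hs]
  have hs'x : (g * s * g⁻¹) • x = x := by
    rw [mul_smul, mul_smul]
    have : g⁻¹ • x = x := by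
      conv_lhs => rw [← hg]
      rw [← mul_smul]; simp
    rw [this, hsx, hg]
  have h1 : (g * c * g⁻¹) * (g * s * g⁻¹) = (g * s * g⁻¹) * (g * c * g⁻¹) := by
    have e1 : (g * c * g⁻¹) * (g * s * g⁻¹) = g * (c * s) * g⁻¹ := by group
    have e2 : (g * s * g⁻¹) * (g * c * g⁻¹) = g * (s * c) * g⁻¹ := by group
    rw [e1, e2, hc]
  exact (h.cent_iff_of_fix hs' hs hs'x hsx _).mp h1

/-- order of a two point stabilizer -/
theorem card_two_point {x y : G ⧸ HH} (hxy : x ≠ y) {s : G} (hs : orderOf s = 2)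
    (hsx : s • x = x) :
    Nat.card {t : G // orderOf t = 2 ∧ t ∈ HH} *
      Nat.card (Subgroup.centralizer ({s} : Set G) ⊓
        (MulAction.stabilizer G y ⊓ MulAction.stabilizer G x) : Subgroup G) =
      Nat.card (MulAction.stabilizer G y ⊓ MulAction.stabilizer G x : Subgroup G) := by
  have h1 := card_conjOrbit_mul
    (MulAction.stabilizer G y ⊓ MulAction.stabilizer G x : Subgroup G) s
  rw [card_orbit_eq h.se hxy hs hsx] at h1
  exact h1

end Hyp

end Cfsg.Agent.Lib.Helper9.AbC
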