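import Mathlib

/-! S3921, piece ARITH: odd prime powers of the form `2^j ± 1`. -/

set_option autoImplicit false

namespace Cfsg.Agent.Lib.Helper9.NCyc

open Finset

/-- for odd `x` and odd `a`, `x ^ a - y ^ a = c * (x - y)` with `c` odd (`y = ±1`) -/
theorem odd_cofactor {x y : ℤ} (hx : ¬ (2 : ℤ) ∣ x) (hxy : (2 : ℤ) ∣ x - y) {a : ℕ} (ha : Odd a) :
    ∃ c : ℤ, c * (x - y) = x ^ a - y ^ a ∧ ¬ (2 : ℤ) ∣ c := by
  refine ⟨∑ i ∈ range a, x ^ i * y ^ (a - 1 - i), geom_sum₂_mul x y a, ?_⟩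
  have h2 : Prime (2 : ℤ) := Int.prime_two
  have hn : ¬ (2 : ℤ) ∣ (a : ℤ) := by
    intro h
    have : (2 : ℕ) ∣ a := by exact_mod_cast h
    exact (Nat.not_even_iff_odd.2 ha) (even_iff_two_dvd.2 this)
  exact not_dvd_geom_sum₂ h2 hxy hx hn

/-- an odd integer dividing a power of two is `±1` -/
theorem eq_one_of_odd_dvd_two_pow {c : ℤ} (hc : ¬ (2 : ℤ) ∣ c) {j : ℕ} (hd : c ∣ 2 ^ j) :
    c = 1 ∨ c = -1 := by
  have h1 : IsCoprime (2 : ℤ) c := (Irreducible.coprime_iff_not_dvd Int.prime_two.irreducible).2 hc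
  have h2 : IsCoprime c ((2 : ℤ) ^ j) := (h1.pow_left (m := j)).symm
  exact Int.isUnit_iff.1 (h2.isUnit_of_dvd' dvd_rfl hd)

theorem arith {p a j : ℕ} (hp : p.Prime) (hp2 : p ≠ 2) (ha : a ≠ 0)
    (h : p ^ a = 2 ^ j + 1 ∨ p ^ a = 2 ^ j - 1) : a = 1 ∨ p ^ a = 9 := by
  have hp3 : 3 ≤ p := by
    have := hp.two_le
    omega
  have hpodd : Odd p := hp.odd_of_ne_two hp2
  have hx : ¬ (2 : ℤ) ∣ (p : ℤ) := by
    intro h
    have : (2 : ℕ) ∣ p := by exact_mod_cast h
    exact (Nat.not_even_iff_odd.2 hpodd) (even_iff_two_dvd.2 this)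
  have hpa : p ≤ p ^ a := Nat.le_self_pow ha p
  -- a key consequence: `p ^ a = p` forces `a = 1`
  have hone : p ^ a = p → a = 1 := by
    intro he
    have : p ^ a = p ^ 1 := by rw [he, pow_one]
    exact Nat.pow_right_injective hp.two_le this
  rcases Nat.even_or_odd a with hev | hodd
  · -- `a = 2 b`
    obtain ⟨b, rfl⟩ := hev
    have hb : b ≠ 0 := by rintro rfl; exact ha rfl
    have hsq : p ^ (b + b) = (p ^ b) ^ 2 := by rw [← two_mul, pow_mul']
    set m := p ^ b with hm
    have hm3 : 3 ≤ m := le_trans hp3 (Nat.le_self_pow hb p)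
    have hmodd : Odd m := hpodd.pow
    rcases h with h | h
    · -- (m-1)(m+1) = 2^j
      right
      rw [hsq] at h ⊢
      have h1 : (m - 1) * (m + 1) = 2 ^ j := by
        obtain ⟨k, hk⟩ : ∃ k, m = k + 1 := ⟨m - 1, by omega⟩
        rw [hk] at h ⊢
        simp only [Nat.add_sub_cancel]
        nlinarith
      have hd1 : m - 1 ∣ 2 ^ j := Dvd.intro _ h1
      have hd2 : m + 1 ∣ 2 ^ j := Dvd.intro_left _ h1
      obtain ⟨u, -, hu⟩ := (Nat.dvd_prime_pow Nat.prime_two).1 hd1
      obtain ⟨v, -, hv⟩ := (Nat.dvd_prime_pow Nat.prime_two).1 hd2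
      -- 2^v = 2^u + 2
      have huv : 2 ^ v = 2 ^ u + 2 := by omega
      have hu1 : u = 1 := by
        rcases Nat.lt_or_ge u 2 with hlt | hge
        · interval_cases u
          · exfalso
            have : 2 ^ v = 3 := by omega
            have h2 : 2 ∣ 2 ^ v := dvd_pow_self 2 (by rintro rfl; omega)
            omega
          · rfl
        · exfalso
          obtain ⟨u', rfl⟩ : ∃ u', u = u' + 2 := ⟨u - 2, by omega⟩
          have hv2 : 2 ≤ v := by
            by_contra hv2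
            push Not at hv2
            have : 2 ^ v ≤ 2 ^ 1 := Nat.pow_le_pow_right (by norm_num) (by omega)
            have : 0 < 2 ^ (u' + 2) := by positivity
            omega
          obtain ⟨v', rfl⟩ : ∃ v', v = v' + 2 := ⟨v - 2, by omega⟩
          rw [pow_add, pow_add] at huv
          omega
      rw [hu1] at hu
      have : m = 3 := by omega
      rw [this]
      norm_num
    · -- squares are `1 mod 4`
      exfalso
      rw [hsq] at h
      obtain ⟨k, hk⟩ := hmodd
      have h1 : m ^ 2 % 4 = 1 := by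
        rw [hk]; ring_nf; omega
      have hj2 : 2 ≤ j := by
        by_contra hj
        push Not at hj
        have h2 : 2 ^ j ≤ 2 ^ 1 := Nat.pow_le_pow_right (by norm_num) (by omega)
        have h3 : 9 ≤ m ^ 2 := by nlinarith
        norm_num at h2
        omega
      obtain ⟨j', rfl⟩ : ∃ j', j = j' + 2 := ⟨j - 2, by omega⟩
      rw [pow_add] at h
      omega
  · left
    apply hone
    rcases h with h | h
    · -- p^a - 1 = 2^j
      obtain ⟨c, hc, hc2⟩ := odd_cofactor (x := (p : ℤ)) (y := 1) hx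
        (by
          have : Odd ((p : ℤ)) := by exact_mod_cast hpodd
          obtain ⟨k, hk⟩ := this
          exact ⟨k, by rw [hk]; ring⟩) hodd
      rw [one_pow] at hc
      have hpj : ((p : ℤ)) ^ a - 1 = 2 ^ j := by
        have : ((p ^ a : ℕ) : ℤ) = ((2 ^ j + 1 : ℕ) : ℤ) := by rw [h]
        push_cast at this
        linarith
      have hd : c ∣ 2 ^ j := ⟨(p : ℤ) - 1, by rw [hc, hpj]⟩
      have hp1 : (0 : ℤ) < (p : ℤ) - 1 := by
        have : (3 : ℤ) ≤ p := by exact_mod_cast hp3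
        linarith
      rcases eq_one_of_odd_dvd_two_pow hc2 hd with rfl | rfl
      · have : ((p : ℤ)) ^ a = p := by linarith
        exact_mod_cast this
      · exfalso
        have : (0 : ℤ) < 2 ^ j := by positivity
        linarith
    · -- p^a + 1 = 2^j
      obtain ⟨c, hc, hc2⟩ := odd_cofactor (x := (p : ℤ)) (y := -1) hx
        (by
          have : Odd ((p : ℤ)) := by exact_mod_cast hpodd
          obtain ⟨k, hk⟩ := this
          exact ⟨k + 1, by rw [hk]; ring⟩) hodd
      rw [Odd.neg_one_pow hodd] at hc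
      have hj1 : 1 ≤ 2 ^ j := Nat.one_le_two_pow
      have hpj : ((p : ℤ)) ^ a + 1 = 2 ^ j := by
        have : ((p ^ a : ℕ) : ℤ) = ((2 ^ j - 1 : ℕ) : ℤ) := by rw [h]
        rw [Nat.cast_sub hj1] at this
        push_cast at this
        linarith
      have hd : c ∣ 2 ^ j := ⟨(p : ℤ) + 1, by rw [← hpj]; linarith⟩
      rcases eq_one_of_odd_dvd_two_pow hc2 hd with rfl | rfl
      · have : ((p : ℤ)) ^ a = p := by linarith
        exact_mod_cast this
      · exfalso
        have h1 : (0 : ℤ) < 2 ^ j := by positivity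
        have h2 : (0 : ℤ) < (p : ℤ) := by exact_mod_cast hp.pos
        linarith

theorem field_arith {F : Type*} [Field F] [Fintype F] (hodd : Odd (Fintype.card F)) {j : ℕ}
    (h : Fintype.card F = 2 ^ j + 1 ∨ Fintype.card F = 2 ^ j - 1) :
    Fintype.card F = 9 ∨ ((Fintype.card F).Prime ∧
      ∃ k : ℕ, Fintype.card F = 2 ^ k + 1 ∨ Fintype.card F = 2 ^ k - 1) := by
  obtain ⟨p, -, n, hp, hcard⟩ := FiniteField.card' F
  have hp2 : p ≠ 2 := by
    rintro rfl
    rw [hcard] at hodd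
    have : Even (2 ^ (n : ℕ)) := (Nat.even_pow.2 ⟨even_two, n.ne_zero⟩)
    exact (Nat.not_even_iff_odd.2 hodd) this
  rw [hcard] at h ⊢
  rcases arith hp hp2 n.ne_zero h with h1 | h9
  · right
    rw [h1, pow_one] at h ⊢
    exact ⟨hp, j, h⟩
  · left; exact h9

end Cfsg.Agent.Lib.Helper9.NCyc
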