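import Mathlib
import Cfsg.Agent.Lib.Helper5.TICE0

/-! S4064 Part E, piece A1 (arithmetic). -/

set_option autoImplicit false

namespace Cfsg.Agent.Lib.Helper9.TICE

open Cfsg.Agent.Lib.Helper5.TICE

theorem not_five_dvd {n : ℕ} (hn : Odd n) :
    ¬ 5 ∣ ((2 ^ n) ^ 3 + 1) * (2 ^ n) ^ 3 * (2 ^ n - 1) := by
  obtain ⟨k, rfl⟩ := hn
  have h4 : ∀ k : ℕ, 4 ^ k % 5 = 1 ∨ 4 ^ k % 5 = 4 := by
    intro k
    induction k with
    | zero => left; rfl
    | succ k ih =>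
      rw [pow_succ, Nat.mul_mod]
      rcases ih with h | h <;> rw [h] <;> simp
  have hq : 2 ^ (2 * k + 1) % 5 = 2 ∨ 2 ^ (2 * k + 1) % 5 = 3 := by
    have e : 2 ^ (2 * k + 1) = 4 ^ k * 2 := by rw [pow_succ, pow_mul]; norm_num
    rw [e, Nat.mul_mod]
    rcases h4 k with h | h <;> rw [h] <;> simp
  set q := 2 ^ (2 * k + 1) with hqdef
  have hq1 : 1 ≤ q := Nat.one_le_two_pow
  have hc : q ^ 3 % 5 = (q % 5) ^ 3 % 5 := Nat.pow_mod q 3 5
  intro hdvd
  have h5 : Nat.Prime 5 := by norm_num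
  rcases (Nat.Prime.dvd_mul h5).1 hdvd with h | h
  · rcases (Nat.Prime.dvd_mul h5).1 h with h | h
    · rcases hq with h' | h' <;> rw [h'] at hc <;> norm_num at hc <;> omega
    · rcases hq with h' | h' <;> rw [h'] at hc <;> norm_num at hc <;> omega
  · omega

theorem three_dvd_of_even {n : ℕ} (hn : Even n) : 3 ∣ 2 ^ n - 1 := by
  obtain ⟨k, rfl⟩ := hn
  have e : 2 ^ (k + k) = 4 ^ k := by rw [← two_mul, pow_mul]; norm_num
  rw [e]
  have h : ∀ j : ℕ, 4 ^ j % 3 = 1 := by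
    intro j
    induction j with
    | zero => rfl
    | succ j ih => rw [pow_succ, Nat.mul_mod, ih]
  have h := h k
  have h1 : 1 ≤ 4 ^ k := Nat.one_le_pow _ _ (by norm_num)
  omega

end Cfsg.Agent.Lib.Helper9.TICE
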