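import Mathlib
import Cfsg.Agent.Lib.Helper5.TICE0

/-! S4064 Part E, piece A2 (arithmetic). -/

set_option autoImplicit false

namespace Cfsg.Agent.Lib.Helper9.TICE

open Cfsg.Agent.Lib.Helper5.TICE

theorem card_eq_of_bounds {n q M E : ℕ} (hn : 2 ≤ n) (hq : q = 2 ^ n) (hM : 0 < M)
    (h1 : q + 1 ∣ M) (hodd : Odd M) (hE : E = 2 ∨ E = 4 ∨ E = 8) (hdvd : E ∣ M - 1)
    (hle : 2 * (M - 1) ≤ q * E) : M = q + 1 := by
  obtain ⟨j, rfl⟩ : ∃ j, n = j + 2 := ⟨n - 2, by omega⟩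
  have hq4 : ∃ r, q = 4 * r ∧ 1 ≤ r := by
    refine ⟨2 ^ j, ?_, Nat.one_le_two_pow⟩
    rw [hq, pow_add]; ring
  obtain ⟨r, hr, hr1⟩ := hq4
  obtain ⟨k, rfl⟩ := h1
  have hk0 : 0 < k := by
    rcases Nat.eq_zero_or_pos k with h | h
    · subst h; simp at hM
    · exact h
  have hkodd : Odd k := by
    rcases Nat.even_or_odd k with h | h
    · exfalso
      have : Even ((q + 1) * k) := h.mul_left _
      exact (Nat.not_even_iff_odd.2 hodd) this
    · exact h
  have hEle : E ≤ 8 := by rcases hE with h | h | h <;> omega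
  have hk4 : k < 4 := by
    by_contra hk
    push Not at hk
    have h2 : q * E ≤ q * 8 := Nat.mul_le_mul_left _ hEle
    have h3 : (q + 1) * 4 ≤ (q + 1) * k := Nat.mul_le_mul_left _ hk
    omega
  obtain ⟨c, hc⟩ := hkodd
  have hk13 : k = 1 ∨ k = 3 := by omega
  rcases hk13 with rfl | rfl
  · ring
  · exfalso
    rcases hE with rfl | rfl | rfl
    · omega
    · omega
    · obtain ⟨d, hd⟩ := hdvd
      omega

end Cfsg.Agent.Lib.Helper9.TICE
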