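import Mathlib
import Cfsg.Agent.Lib.Helper5.TICE0
import Cfsg.Agent.Lib.Helper4.TICE_C4
import Cfsg.Agent.Lib.Helper4.TICE_C2
import Cfsg.Agent.Lib.Helper4.TICE_C3

/-! S4064 Part E, pieces C5 and C6: comparison of the two counts. -/

set_option autoImplicit false
set_option linter.style.haveILetI false

namespace Cfsg.Agent.Lib.Helper9.TICE

open Cfsg.Agent.Lib.Helper5.TICE

variable {Y : Type*} [Group Y] {Λ : Type*} [MulAction Y Λ] {m e i : ℕ}

/-- the number of pairs of involutions with fixed-point-free product, as a sum -/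
theorem card_pairs_eq_sum [Finite Y] [Finite Λ] (hi : ZSInv Y Λ i)
    [Fintype {x : Y // Fpf Λ x}] :
    Nat.card {p : Y × Y // IsInv p.1 ∧ IsInv p.2 ∧ Fpf Λ (p.1 * p.2)}
      = ∑ x : {x : Y // Fpf Λ x}, Nat.card {a : Y // a ∈ invSet x.1} := by
  rw [Cfsg.Agent.Lib.Helper4.TICE.ZS.card_pairs_eq_sigma hi, Nat.card_sigma]

-- C5
theorem ZS.card_invSet_eq [Finite Y] [Finite Λ] {q : ℕ} (hq : 2 ≤ q)
    (h : ZS Y Λ q (q - 1)) (hi : ZSInv Y Λ (q - 1))
    (hle : ∀ x : Y, Fpf Λ x → Nat.card {a : Y // a ∈ invSet x} ≤ q + 1) :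
    ∀ x : Y, Fpf Λ x → Nat.card {a : Y // a ∈ invSet x} = q + 1 := by
  classical
  haveI : Fintype {x : Y // Fpf Λ x} := Fintype.ofFinite _
  have h2 := Cfsg.Agent.Lib.Helper4.TICE.ZS.card_fpf h (by omega) (by omega)
  have h3 := Cfsg.Agent.Lib.Helper4.TICE.ZS.card_pairs h (by omega) (by omega) hi
  rw [card_pairs_eq_sum hi] at h3
  set F := Nat.card {g : Y // Fpf Λ g} with hF
  set P := ∑ x : {x : Y // Fpf Λ x}, Nat.card {a : Y // a ∈ invSet x.1} with hP
  have hPF : P = (q + 1) * F := by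
    obtain ⟨r, rfl⟩ : ∃ r, q = r + 2 := ⟨q - 2, by omega⟩
    have e1 : r + 2 - 1 = r + 1 := by omega
    have e2 : r + 1 - 1 = r := by omega
    rw [e1, e2] at h2 h3
    have hF2 : 2 * F = (r + 2) ^ 2 * (r + 1) := by
      have : 2 * F + (2 + 2 * ((r + 2 + 1) * (r + 1)) + (r + 2 + 1) * (r + 2) * r)
          = (r + 2) ^ 2 * (r + 1) + (2 + 2 * ((r + 2 + 1) * (r + 1)) + (r + 2 + 1) * (r + 2) * r) := by
        rw [← add_assoc, ← add_assoc, h2]; ring
      omega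
    have hP2 : 2 * P = (r + 2 + 1) * ((r + 2) ^ 2 * (r + 1)) := by
      have : 2 * P + (r + 2 + 1) * (r + 2) * (r * (r + 1))
          = (r + 2 + 1) * ((r + 2) ^ 2 * (r + 1)) + (r + 2 + 1) * (r + 2) * (r * (r + 1)) := by
        rw [h3]; ring
      omega
    rw [← hF2] at hP2
    have : 2 * P = 2 * ((r + 2 + 1) * F) := by rw [hP2]; ring
    omega
  have hFc : F = Fintype.card {x : Y // Fpf Λ x} := Nat.card_eq_fintype_card
  have hsum : ∑ x : {x : Y // Fpf Λ x}, Nat.card {a : Y // a ∈ invSet x.1}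
      = ∑ _x : {x : Y // Fpf Λ x}, (q + 1) := by
    rw [← hP, hPF, Finset.sum_const, smul_eq_mul, Finset.card_univ, hFc, mul_comm]
  have := (Finset.sum_eq_sum_iff_of_le (s := Finset.univ)
    (f := fun x : {x : Y // Fpf Λ x} => Nat.card {a : Y // a ∈ invSet x.1})
    (g := fun _ => q + 1) (fun x _ => hle x.1 x.2)).1 hsum
  intro x hx
  exact this ⟨x, hx⟩ (Finset.mem_univ _)

end Cfsg.Agent.Lib.Helper9.TICE
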