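import Mathlib
import Cfsg.Agent.Lib.Helper9.TICE_C5

/-! S4064 Part E, piece C6. -/

set_option autoImplicit false
set_option linter.style.haveILetI false

namespace Cfsg.Agent.Lib.Helper9.TICE

open Cfsg.Agent.Lib.Helper5.TICE

variable {Y : Type*} [Group Y] {Λ : Type*} [MulAction Y Λ] {m e i : ℕ}

-- C6
theorem ZS.false_of_invSet_le [Finite Y] [Finite Λ] {q : ℕ} (hq : 4 ≤ q)
    (h : ZS Y Λ (q ^ 3) (q - 1)) (hi : ZSInv Y Λ (q - 1))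
    (hle : ∀ x : Y, Fpf Λ x → Nat.card {a : Y // a ∈ invSet x} ≤ q + 1) : False := by
  classical
  haveI : Fintype {x : Y // Fpf Λ x} := Fintype.ofFinite _
  have hm1 : 1 ≤ q ^ 3 := Nat.one_le_pow _ _ (by omega)
  have h2 := Cfsg.Agent.Lib.Helper4.TICE.ZS.card_fpf h hm1 (by omega)
  have h3 := Cfsg.Agent.Lib.Helper4.TICE.ZS.card_pairs h hm1 (by omega) hi
  rw [card_pairs_eq_sum hi] at h3
  set F := Nat.card {g : Y // Fpf Λ g} with hF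
  set P := ∑ x : {x : Y // Fpf Λ x}, Nat.card {a : Y // a ∈ invSet x.1} with hP
  have hFc : F = Fintype.card {x : Y // Fpf Λ x} := Nat.card_eq_fintype_card
  have hPle : P ≤ (q + 1) * F := by
    calc P ≤ ∑ _x : {x : Y // Fpf Λ x}, (q + 1) :=
          Finset.sum_le_sum (fun x _ => hle x.1 x.2)
      _ = (q + 1) * F := by
          rw [Finset.sum_const, smul_eq_mul, Finset.card_univ, hFc, mul_comm]
  obtain ⟨r, rfl⟩ : ∃ r, q = r + 2 := ⟨q - 2, by omega⟩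
  have e1 : r + 2 - 1 = r + 1 := by omega
  have e2 : r + 1 - 1 = r := by omega
  have e3 : (r + 2) ^ 3 - 1 = r ^ 3 + 6 * r ^ 2 + 12 * r + 7 := by
    have : (r + 2) ^ 3 = r ^ 3 + 6 * r ^ 2 + 12 * r + 7 + 1 := by ring
    omega
  rw [e1, e2, e3] at h2
  rw [e1, e2] at h3
  -- 2F = q^4 (q^3 - 2 q^2 + 1),  2P = q^4 (q^3+1)(q-1)
  have hF2 : 2 * F + 2 * (r + 2) ^ 6 = (r + 2) ^ 4 * ((r + 2) ^ 3 + 1) := by
    have : 2 * F + 2 * (r + 2) ^ 6 + (2 + 2 * (((r + 2) ^ 3 + 1) * (r ^ 3 + 6 * r ^ 2 + 12 * r + 7))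
          + ((r + 2) ^ 3 + 1) * (r + 2) ^ 3 * r)
        = (r + 2) ^ 4 * ((r + 2) ^ 3 + 1) + (2 + 2 * (((r + 2) ^ 3 + 1) * (r ^ 3 + 6 * r ^ 2 + 12 * r + 7))
          + ((r + 2) ^ 3 + 1) * (r + 2) ^ 3 * r) := by
      have h2' : 2 * F + (2 + 2 * (((r + 2) ^ 3 + 1) * (r ^ 3 + 6 * r ^ 2 + 12 * r + 7))
          + ((r + 2) ^ 3 + 1) * (r + 2) ^ 3 * r) = 2 * (((r + 2) ^ 3 + 1) * (r + 2) ^ 3 * (r + 1)) := by
        rw [← h2]; ring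
      calc _ = (2 * F + (2 + 2 * (((r + 2) ^ 3 + 1) * (r ^ 3 + 6 * r ^ 2 + 12 * r + 7))
          + ((r + 2) ^ 3 + 1) * (r + 2) ^ 3 * r)) + 2 * (r + 2) ^ 6 := by ring
        _ = _ := by rw [h2']; ring
    omega
  have hP2 : 2 * P = (r + 2) ^ 4 * (((r + 2) ^ 3 + 1) * (r + 1)) := by
    have : 2 * P + ((r + 2) ^ 3 + 1) * (r + 2) ^ 3 * (r * (r + 1))
        = (r + 2) ^ 4 * (((r + 2) ^ 3 + 1) * (r + 1)) + ((r + 2) ^ 3 + 1) * (r + 2) ^ 3 * (r * (r + 1)) := by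
      rw [h3]; ring
    omega
  -- (q+1) * 2F < 2P
  have hlt : (r + 2 + 1) * (2 * F) < 2 * P := by
    have h4 : (r + 2 + 1) * (2 * F) + (r + 2 + 1) * (2 * (r + 2) ^ 6)
        = (r + 2 + 1) * ((r + 2) ^ 4 * ((r + 2) ^ 3 + 1)) := by
      rw [← mul_add, hF2]
    have h5 : (r + 2 + 1) * ((r + 2) ^ 4 * ((r + 2) ^ 3 + 1)) + 2 * (r + 2) ^ 4 * ((r + 2) ^ 2 - 1)
        = 2 * P + (r + 2 + 1) * (2 * (r + 2) ^ 6) := by
      have e4 : (r + 2) ^ 2 - 1 = r ^ 2 + 4 * r + 3 := by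
        have : (r + 2) ^ 2 = r ^ 2 + 4 * r + 3 + 1 := by ring
        omega
      rw [hP2, e4]; ring
    have h6 : 0 < 2 * (r + 2) ^ 4 * ((r + 2) ^ 2 - 1) := by
      have e4 : (r + 2) ^ 2 - 1 = r ^ 2 + 4 * r + 3 := by
        have : (r + 2) ^ 2 = r ^ 2 + 4 * r + 3 + 1 := by ring
        omega
      rw [e4]; positivity
    omega
  have : 2 * P ≤ (r + 2 + 1) * (2 * F) := by
    calc 2 * P ≤ 2 * ((r + 2 + 1) * F) := Nat.mul_le_mul_left _ hPle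
      _ = (r + 2 + 1) * (2 * F) := by ring
  omega

end Cfsg.Agent.Lib.Helper9.TICE
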