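import Mathlib
import Cfsg.Agent.Lib.Helper5.TICE0

/-! S4064 Part E, piece C1: order of a Zassenhaus-type group. -/

set_option autoImplicit false

namespace Cfsg.Agent.Lib.Helper9.TICE

open Cfsg.Agent.Lib.Helper5.TICE

variable {Y : Type*} [Group Y] {Λ : Type*} [MulAction Y Λ] {m e i : ℕ}

theorem ZS.card_group [Finite Y] [Finite Λ] (h : ZS Y Λ m e) (hm : 1 ≤ m) :
    Nat.card Y = (m + 1) * m * e := by
  classical
  have hc2 : 2 ≤ Nat.card Λ := by rw [h.card_pts]; omega
  have : Nontrivial Λ := (Finite.one_lt_card_iff_nontrivial).1 (by omega)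
  obtain ⟨α, β, hαβ⟩ := exists_pair_ne Λ
  -- Y transitive
  have horb : MulAction.orbit Y α = Set.univ := by
    ext γ
    simp only [Set.mem_univ, iff_true]
    obtain ⟨δ, hδ⟩ := exists_ne γ
    obtain ⟨g, hg, -⟩ := h.two_trans α β γ δ hαβ hδ.symm
    exact ⟨g, hg⟩
  have h1 : Nat.card Y = (m + 1) * Nat.card (MulAction.stabilizer Y α) := by
    rw [Subgroup.card_eq_card_quotient_mul_card_subgroup (MulAction.stabilizer Y α),
      ← Nat.card_congr (MulAction.orbitEquivQuotientStabilizer Y α), horb,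
      Nat.card_congr (Equiv.Set.univ Λ), h.card_pts]
  -- the stabilizer is transitive on the other points
  set H := MulAction.stabilizer Y α with hH
  have horb2 : MulAction.orbit H β = {γ | γ ≠ α} := by
    ext γ
    constructor
    · rintro ⟨⟨g, hg⟩, rfl⟩
      show g • β ≠ α
      intro hgb
      have hga : g • α = α := hg
      apply hαβ
      have : g • β = g • α := by rw [hgb, hga]
      exact (smul_left_cancel g this).symm
    · intro hγ
      obtain ⟨g, hg1, hg2⟩ := h.two_trans α β α γ hαβ (Ne.symm hγ)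
      exact ⟨⟨g, hg1⟩, hg2⟩
  have hcard2 : Nat.card {γ : Λ | γ ≠ α} = m := by
    have := Nat.card_congr (Equiv.Set.sumCompl {γ : Λ | γ = α})
    rw [Nat.card_sum, h.card_pts] at this
    have h3 : Nat.card {γ : Λ | γ = α} = 1 := by
      rw [Nat.card_eq_one_iff_unique]
      exact ⟨⟨fun a b => Subtype.ext (a.2.trans b.2.symm)⟩, ⟨⟨α, rfl⟩⟩⟩
    have h4 : ({γ : Λ | γ = α}ᶜ : Set Λ) = {γ : Λ | γ ≠ α} := by
      ext γ; simp
    rw [h3, h4] at this
    omega
  have h2 : Nat.card H = m * e := by
    rw [Subgroup.card_eq_card_quotient_mul_card_subgroup (MulAction.stabilizer H β),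
      ← Nat.card_congr (MulAction.orbitEquivQuotientStabilizer H β), horb2, hcard2]
    congr 1
    rw [← h.card_D α β hαβ]
    apply Nat.card_congr
    exact
      { toFun := fun g => ⟨g.1.1, g.1.2, g.2⟩
        invFun := fun g => ⟨⟨g.1, g.2.1⟩, g.2.2⟩
        left_inv := fun g => rfl
        right_inv := fun g => rfl }
  rw [h1, h2, mul_assoc]

end Cfsg.Agent.Lib.Helper9.TICE
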