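import Mathlib
import Cfsg.Agent.Lib.Helper5.TICE0
import Cfsg.Agent.Lib.Helper9.TICE_C1
import Cfsg.Agent.Lib.Helper4.TICE_C4
import Cfsg.Agent.Lib.Helper4.TICE_C3

/-! S4064 Part E, piece C7: the TI bound `2 (|M| - 1) ≤ q E`. -/

set_option autoImplicit false
set_option linter.style.haveILetI false

namespace Cfsg.Agent.Lib.Helper9.TICE

open Cfsg.Agent.Lib.Helper5.TICE

variable {Y : Type*} [Group Y] {Λ : Type*} [MulAction Y Λ] {m e i : ℕ}

theorem fpf_conj {g c : Y} (hc : Fpf Λ c) : Fpf Λ (g * c * g⁻¹) := by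
  intro α hα
  apply hc (g⁻¹ • α)
  calc c • g⁻¹ • α = g⁻¹ • ((g * c * g⁻¹) • α) := by
        rw [smul_smul, smul_smul]; congr 1; group
    _ = g⁻¹ • α := by rw [hα]

theorem card_invSet_conj_le [Finite Y] (g c : Y) :
    Nat.card {a : Y // a ∈ invSet c} ≤ Nat.card {a : Y // a ∈ invSet (g * c * g⁻¹)} := by
  refine Nat.card_le_card_of_injective
    (fun a => ⟨g * a.1 * g⁻¹, ?_⟩) ?_
  · obtain ⟨a, ⟨ha1, ha2⟩, ha3⟩ := a
    refine ⟨⟨?_, ?_⟩, ?_⟩
    · show g * a * g⁻¹ * (g * a * g⁻¹) = 1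
      calc g * a * g⁻¹ * (g * a * g⁻¹) = g * (a * a) * g⁻¹ := by group
        _ = 1 := by rw [ha1]; group
    · show g * a * g⁻¹ ≠ 1
      intro h
      apply ha2
      have e : a = g⁻¹ * (g * a * g⁻¹) * g := by group
      rw [e, h]; group
    · show g * a * g⁻¹ * (g * c * g⁻¹) * (g * a * g⁻¹)⁻¹ = (g * c * g⁻¹)⁻¹
      calc g * a * g⁻¹ * (g * c * g⁻¹) * (g * a * g⁻¹)⁻¹ = g * (a * c * a⁻¹) * g⁻¹ := by group
        _ = (g * c * g⁻¹)⁻¹ := by rw [ha3]; group
  · intro a b hab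
    have h1 : g * a.1 * g⁻¹ = g * b.1 * g⁻¹ := congrArg Subtype.val hab
    apply Subtype.ext
    have := mul_right_cancel h1
    exact mul_left_cancel this

-- C7
theorem ZS.bound_of_TI [Finite Y] [Finite Λ] {q : ℕ} (hq : 4 ≤ q)
    (h : ZS Y Λ (q ^ 3) (q - 1)) (hi : ZSInv Y Λ (q - 1))
    (M N : Subgroup Y) (E : ℕ) (hN : Nat.card N = Nat.card M * E)
    (hfpf : ∀ c ∈ M, c ≠ 1 → Fpf Λ c)
    (hinv : ∀ c ∈ M, c ≠ 1 → Nat.card M ≤ Nat.card {a : Y // a ∈ invSet c})
    (hTI : ∀ g : Y, ∀ c ∈ M, c ≠ 1 → g * c * g⁻¹ ∈ M → g ∈ N) :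
    2 * (Nat.card M - 1) ≤ q * E := by
  classical
  haveI : Fintype Y := Fintype.ofFinite Y
  have hm1 : 1 ≤ q ^ 3 := Nat.one_le_pow _ _ (by omega)
  have hY : Nat.card Y = (q ^ 3 + 1) * q ^ 3 * (q - 1) := ZS.card_group h hm1
  have hYpos : 0 < Nat.card Y := Nat.card_pos
  set P := Nat.card {p : Y × Y // IsInv p.1 ∧ IsInv p.2 ∧ Fpf Λ (p.1 * p.2)} with hP
  have h3 := Cfsg.Agent.Lib.Helper4.TICE.ZS.card_pairs h hm1 (by omega) hi
  have h2P : 2 * P = Nat.card Y * q := by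
    rw [hY]
    obtain ⟨r, rfl⟩ : ∃ r, q = r + 2 := ⟨q - 2, by omega⟩
    have e1 : r + 2 - 1 = r + 1 := by omega
    have e2 : r + 1 - 1 = r := by omega
    rw [e1, e2] at h3
    rw [e1]
    set A := ((r + 2) ^ 3 + 1) * (r + 2) ^ 3 with hA
    have h4 : 2 * P + A * (r * (r + 1)) = A * (r + 1) * (r + 2) + A * (r * (r + 1)) := by
      rw [h3]; ring
    omega
  -- the set of conjugates of `M#`
  set Ms : Finset Y := Finset.univ.filter (fun c => c ∈ M ∧ c ≠ 1) with hMs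
  set s : Finset (Y × Y) := Finset.univ ×ˢ Ms with hs
  set f : Y × Y → Y := fun p => p.1 * p.2 * p.1⁻¹ with hf
  set Xs : Finset Y := s.image f with hXs
  have hcardM : Ms.card + 1 = Nat.card M := by
    have h1 : Nat.card M = (Finset.univ.filter (fun c : Y => c ∈ M)).card := by
      rw [Nat.card_eq_fintype_card, Fintype.card_subtype]
    have h2 : Ms = (Finset.univ.filter (fun c : Y => c ∈ M)).erase 1 := by
      ext c
      simp only [hMs, Finset.mem_filter, Finset.mem_univ, true_and, Finset.mem_erase]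
      tauto
    rw [h1, h2, Finset.card_erase_of_mem (by simp [M.one_mem])]
    have : 0 < (Finset.univ.filter (fun c : Y => c ∈ M)).card :=
      Finset.card_pos.2 ⟨1, by simp [M.one_mem]⟩
    omega
  have hcardN : Nat.card N = (Finset.univ.filter (fun c : Y => c ∈ N)).card := by
    rw [Nat.card_eq_fintype_card, Fintype.card_subtype]
  have hscard : s.card = Nat.card Y * Ms.card := by
    rw [hs, Finset.card_product, Finset.card_univ, Nat.card_eq_fintype_card]
  -- fibres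
  have hfib : s.card ≤ Nat.card N * Xs.card := by
    apply Finset.card_le_mul_card_image
    intro x hx
    obtain ⟨⟨g0, c0⟩, hp0, hfx⟩ := Finset.mem_image.1 hx
    have hc0 : c0 ∈ M ∧ c0 ≠ 1 := by
      have := (Finset.mem_product.1 hp0).2
      simpa [hMs] using this
    rw [hcardN]
    apply Finset.card_le_card_of_injOn (fun p => g0⁻¹ * p.1)
    · intro p hp
      have hp' := Finset.mem_filter.1 hp
      have hc : p.2 ∈ M ∧ p.2 ≠ 1 := by
        have := (Finset.mem_product.1 hp'.1).2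
        simpa [hMs] using this
      simp only [Finset.coe_filter, Finset.mem_univ, true_and, Set.mem_ofPred_eq]
      apply hTI (g0⁻¹ * p.1) p.2 hc.1 hc.2
      have e1 : p.1 * p.2 * p.1⁻¹ = x := hp'.2
      have e2 : g0 * c0 * g0⁻¹ = x := hfx
      have : g0⁻¹ * p.1 * p.2 * (g0⁻¹ * p.1)⁻¹ = g0⁻¹ * (p.1 * p.2 * p.1⁻¹) * g0 := by group
      rw [this, e1, ← e2]
      have : g0⁻¹ * (g0 * c0 * g0⁻¹) * g0 = c0 := by group
      rw [this]
      exact hc0.1
    · intro p hp p' hp' hpp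
      have hp1 := (Finset.mem_filter.1 hp).2
      have hp1' := (Finset.mem_filter.1 hp').2
      have e1 : p.1 = p'.1 := mul_left_cancel hpp
      have e2 : p.1 * p.2 * p.1⁻¹ = p'.1 * p'.2 * p'.1⁻¹ := hp1.trans hp1'.symm
      rw [← e1] at e2
      have e3 : p.2 = p'.2 := mul_left_cancel (mul_right_cancel e2)
      exact Prod.ext e1 e3
  -- every element of `Xs` is fpf with a large `invSet`
  have hX1 : ∀ x ∈ Xs, Fpf Λ x ∧ Nat.card M ≤ Nat.card {a : Y // a ∈ invSet x} := by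
    intro x hx
    obtain ⟨⟨g0, c0⟩, hp0, hfx⟩ := Finset.mem_image.1 hx
    have hc0 : c0 ∈ M ∧ c0 ≠ 1 := by
      have := (Finset.mem_product.1 hp0).2
      simpa [hMs] using this
    have e2 : g0 * c0 * g0⁻¹ = x := hfx
    rw [← e2]
    exact ⟨fpf_conj (hfpf c0 hc0.1 hc0.2),
      (hinv c0 hc0.1 hc0.2).trans (card_invSet_conj_le g0 c0)⟩
  -- lower bound for `P`
  have hPge : Xs.card * Nat.card M ≤ P := by
    rw [hP, Cfsg.Agent.Lib.Helper4.TICE.ZS.card_pairs_eq_sigma hi]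
    haveI : Fintype {x : Y // Fpf Λ x} := Fintype.ofFinite _
    rw [Nat.card_sigma]
    rw [← Finset.sum_subtype (Finset.univ.filter (fun x : Y => Fpf Λ x))
      (fun x => by simp) (fun x => Nat.card {a : Y // a ∈ invSet x})]
    have hsub : Xs ⊆ Finset.univ.filter (fun x : Y => Fpf Λ x) := by
      intro x hx
      simp only [Finset.mem_filter, Finset.mem_univ, true_and]
      exact (hX1 x hx).1
    calc Xs.card * Nat.card M = ∑ _x ∈ Xs, Nat.card M := by
          rw [Finset.sum_const, smul_eq_mul]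
      _ ≤ ∑ x ∈ Xs, Nat.card {a : Y // a ∈ invSet x} :=
          Finset.sum_le_sum (fun x hx => (hX1 x hx).2)
      _ ≤ _ := Finset.sum_le_sum_of_subset hsub
  -- combine
  have hMpos : 0 < Nat.card M := Nat.card_pos
  have key : Nat.card Y * (2 * (Nat.card M - 1)) ≤ Nat.card Y * (q * E) := by
    have e1 : Nat.card M - 1 = Ms.card := by omega
    rw [e1]
    calc Nat.card Y * (2 * Ms.card) = 2 * s.card := by rw [hscard]; ring
      _ ≤ 2 * (Nat.card N * Xs.card) := Nat.mul_le_mul_left _ hfib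
      _ = E * (2 * (Xs.card * Nat.card M)) := by rw [hN]; ring
      _ ≤ E * (2 * P) := Nat.mul_le_mul_left _ (Nat.mul_le_mul_left _ hPge)
      _ = Nat.card Y * (q * E) := by rw [h2P]; ring
  exact Nat.le_of_mul_le_mul_left key hYpos

end Cfsg.Agent.Lib.Helper9.TICE
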