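import Mathlib

/-!
# CUB farm (S4415), unit I.4-orders

A finite group acting faithfully on an `𝔽₃`-space of dimension at most `4` (resp. `3`), of order
prime to `3`, has order dividing `2^9 * 5 * 13` (resp. `2^5 * 13`).
-/

namespace Cfsg.Agent.Lib.Helper9.CUB

theorem card_GL_three_zero : Nat.card (Matrix.GeneralLinearGroup (Fin 0) (ZMod 3)) = 1 := by
  rw [Matrix.card_GL_field]; simp

theorem card_GL_three_one : Nat.card (Matrix.GeneralLinearGroup (Fin 1) (ZMod 3)) = 2 := by
  rw [Matrix.card_GL_field]; simp [ZMod.card]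

theorem card_GL_three_two : Nat.card (Matrix.GeneralLinearGroup (Fin 2) (ZMod 3)) = 3 * 2 ^ 4 := by
  rw [Matrix.card_GL_field]; simp [ZMod.card, Fin.prod_univ_succ]

theorem card_GL_three_three :
    Nat.card (Matrix.GeneralLinearGroup (Fin 3) (ZMod 3)) = 3 ^ 3 * (2 ^ 5 * 13) := by
  rw [Matrix.card_GL_field]; simp [ZMod.card, Fin.prod_univ_succ]

theorem card_GL_three_four :
    Nat.card (Matrix.GeneralLinearGroup (Fin 4) (ZMod 3)) = 3 ^ 6 * (2 ^ 9 * 5 * 13) := by
  rw [Matrix.card_GL_field]; simp [ZMod.card, Fin.prod_univ_succ]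

/-- A group with an injective monoid hom into `End(W)` has order dividing `|GL_d(3)|`,
`d = finrank W`. -/
theorem card_dvd_card_GL {R W : Type*} [Group R] [Finite R] [AddCommGroup W] [Module (ZMod 3) W]
    [Finite W] (f : R →* (W →ₗ[ZMod 3] W)) (hinj : Function.Injective f) :
    Nat.card R ∣ Nat.card (Matrix.GeneralLinearGroup (Fin (Module.finrank (ZMod 3) W)) (ZMod 3)) := by
  classical
  have : Module.Finite (ZMod 3) W := Module.Finite.of_finite
  let bas := Module.finBasis (ZMod 3) W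
  let e : (W →ₗ[ZMod 3] W) ≃ₐ[ZMod 3] Matrix (Fin (Module.finrank (ZMod 3) W))
      (Fin (Module.finrank (ZMod 3) W)) (ZMod 3) := LinearMap.toMatrixAlgEquiv bas
  let g : R →* (Matrix (Fin (Module.finrank (ZMod 3) W))
      (Fin (Module.finrank (ZMod 3) W)) (ZMod 3))ˣ :=
    ((e : (W →ₗ[ZMod 3] W) →* _).comp f).toHomUnits
  have hg : Function.Injective g := by
    intro x y hxy
    apply hinj
    have h1 : ((g x).val : Matrix _ _ (ZMod 3)) = (g y).val := by rw [hxy]
    simp only [g, MonoidHom.coe_toHomUnits, MonoidHom.coe_comp, Function.comp_apply] at h1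
    exact e.injective h1
  exact Subgroup.card_dvd_of_injective g hg

theorem coprime_three_pow {n : ℕ} (h3 : ¬ 3 ∣ n) (k : ℕ) : Nat.Coprime n (3 ^ k) :=
  Nat.Coprime.pow_right k ((Nat.Prime.coprime_iff_not_dvd Nat.prime_three).2 h3).symm

theorem card_dvd_of_finrank {R W : Type*} [Group R] [Finite R] [AddCommGroup W]
    [Module (ZMod 3) W] [Finite W] (f : R →* (W →ₗ[ZMod 3] W)) (hinj : Function.Injective f)
    (h3 : ¬ 3 ∣ Nat.card R) :
    (Module.finrank (ZMod 3) W = 0 → Nat.card R ∣ 1) ∧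
    (Module.finrank (ZMod 3) W = 1 → Nat.card R ∣ 2) ∧
    (Module.finrank (ZMod 3) W = 2 → Nat.card R ∣ 2 ^ 4) ∧
    (Module.finrank (ZMod 3) W = 3 → Nat.card R ∣ 2 ^ 5 * 13) ∧
    (Module.finrank (ZMod 3) W = 4 → Nat.card R ∣ 2 ^ 9 * 5 * 13) := by
  have h := card_dvd_card_GL f hinj
  refine ⟨fun hd => ?_, fun hd => ?_, fun hd => ?_, fun hd => ?_, fun hd => ?_⟩
  · rw [hd, card_GL_three_zero] at h; exact h
  · rw [hd, card_GL_three_one] at h; exact h
  · rw [hd, card_GL_three_two] at h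
    have := coprime_three_pow h3 1
    rw [pow_one] at this
    exact this.dvd_of_dvd_mul_left h
  · rw [hd, card_GL_three_three] at h
    exact (coprime_three_pow h3 3).dvd_of_dvd_mul_left h
  · rw [hd, card_GL_three_four] at h
    exact (coprime_three_pow h3 6).dvd_of_dvd_mul_left h

/-- dimension at most `4`: the order divides `2^9 * 5 * 13`. -/
theorem card_dvd_of_faithful {R W : Type*} [Group R] [Finite R] [AddCommGroup W]
    [Module (ZMod 3) W] [Finite W] (f : R →* (W →ₗ[ZMod 3] W)) (hinj : Function.Injective f)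
    (hdim : Module.finrank (ZMod 3) W ≤ 4) (h3 : ¬ 3 ∣ Nat.card R) :
    Nat.card R ∣ 2 ^ 9 * 5 * 13 := by
  obtain ⟨h0, h1, h2, h3', h4⟩ := card_dvd_of_finrank f hinj h3
  have : Module.finrank (ZMod 3) W = 0 ∨ Module.finrank (ZMod 3) W = 1 ∨
      Module.finrank (ZMod 3) W = 2 ∨ Module.finrank (ZMod 3) W = 3 ∨
      Module.finrank (ZMod 3) W = 4 := by omega
  rcases this with hd | hd | hd | hd | hd
  · exact (h0 hd).trans (by norm_num)
  · exact (h1 hd).trans (by norm_num)
  · exact (h2 hd).trans (by norm_num)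
  · exact (h3' hd).trans (by norm_num)
  · exact h4 hd

/-- dimension at most `3`: the order divides `2^5 * 13`. -/
theorem card_dvd_of_faithful_three {R W : Type*} [Group R] [Finite R] [AddCommGroup W]
    [Module (ZMod 3) W] [Finite W] (f : R →* (W →ₗ[ZMod 3] W)) (hinj : Function.Injective f)
    (hdim : Module.finrank (ZMod 3) W ≤ 3) (h3 : ¬ 3 ∣ Nat.card R) :
    Nat.card R ∣ 2 ^ 5 * 13 := by
  obtain ⟨h0, h1, h2, h3', -⟩ := card_dvd_of_finrank f hinj h3
  have : Module.finrank (ZMod 3) W = 0 ∨ Module.finrank (ZMod 3) W = 1 ∨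
      Module.finrank (ZMod 3) W = 2 ∨ Module.finrank (ZMod 3) W = 3 := by omega
  rcases this with hd | hd | hd | hd
  · exact (h0 hd).trans (by norm_num)
  · exact (h1 hd).trans (by norm_num)
  · exact (h2 hd).trans (by norm_num)
  · exact h3' hd

/-- Version for a representation restricted to a subgroup `R` acting faithfully on an
invariant subspace `W`. -/
theorem card_dvd_of_faithful_on {S E : Type*} [Group S] [AddCommGroup E] [Module (ZMod 3) E]
    [Finite E] (ρ : Representation (ZMod 3) S E) (R : Subgroup S) [Finite R]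
    (W : Submodule (ZMod 3) E) (hinv : ∀ r ∈ R, ∀ v ∈ W, ρ r v ∈ W)
    (hfaith : ∀ r ∈ R, (∀ v ∈ W, ρ r v = v) → r = 1)
    (hdim : Module.finrank (ZMod 3) W ≤ 4) (h3 : ¬ 3 ∣ Nat.card R) :
    Nat.card R ∣ 2 ^ 9 * 5 * 13 := by
  let f : R →* (W →ₗ[ZMod 3] W) :=
    { toFun := fun r => (ρ r.1).restrict (hinv r.1 r.2)
      map_one' := by
        ext v; simp
      map_mul' := by
        intro x y; ext v; simp }
  have hinj : Function.Injective f := by
    rw [injective_iff_map_eq_one]
    intro r hr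
    have := hfaith r.1 r.2 (fun v hv => by
      have h1 : f r ⟨v, hv⟩ = ⟨v, hv⟩ := by rw [hr]; rfl
      exact congrArg Subtype.val h1)
    exact Subtype.ext this
  exact card_dvd_of_faithful f hinj hdim h3

/-- Same, dimension at most `3`. -/
theorem card_dvd_of_faithful_on_three {S E : Type*} [Group S] [AddCommGroup E]
    [Module (ZMod 3) E] [Finite E] (ρ : Representation (ZMod 3) S E) (R : Subgroup S) [Finite R]
    (W : Submodule (ZMod 3) E) (hinv : ∀ r ∈ R, ∀ v ∈ W, ρ r v ∈ W)
    (hfaith : ∀ r ∈ R, (∀ v ∈ W, ρ r v = v) → r = 1)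
    (hdim : Module.finrank (ZMod 3) W ≤ 3) (h3 : ¬ 3 ∣ Nat.card R) :
    Nat.card R ∣ 2 ^ 5 * 13 := by
  let f : R →* (W →ₗ[ZMod 3] W) :=
    { toFun := fun r => (ρ r.1).restrict (hinv r.1 r.2)
      map_one' := by
        ext v; simp
      map_mul' := by
        intro x y; ext v; simp }
  have hinj : Function.Injective f := by
    rw [injective_iff_map_eq_one]
    intro r hr
    have := hfaith r.1 r.2 (fun v hv => by
      have h1 : f r ⟨v, hv⟩ = ⟨v, hv⟩ := by rw [hr]; rfl
      exact congrArg Subtype.val h1)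
    exact Subtype.ext this
  exact card_dvd_of_faithful_three f hinj hdim h3

end Cfsg.Agent.Lib.Helper9.CUB
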