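import Mathlib
import Cfsg.Agent.Lib.Helper3.CUBDefs
import Cfsg.Agent.Lib.Helper3.CUBT1
import Cfsg.Agent.Lib.Helper5.CUBT8

/-!
# CUB farm (S4415): tools for the FIN2 units (four-groups, `VV`, centrality)
-/

set_option autoImplicit false

open scoped commutatorElement

namespace Cfsg.Agent.Lib.Helper9.CUB

open Cfsg.Agent.Lib.Helper3.CUB

universe u v

section Four

variable {G : Type u} [Group G]

/-- The four-group `{1, a, b, a*b}` generated by two commuting involutions. -/
def fourSub (a b : G) (ha : a * a = 1) (hb : b * b = 1) (hab : a * b = b * a) : Subgroup G where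
  carrier := {g | g = 1 ∨ g = a ∨ g = b ∨ g = a * b}
  mul_mem' := by
    have haa : ∀ t, a * (a * t) = t := fun t => by rw [← mul_assoc, ha, one_mul]
    have hbb : ∀ t, b * (b * t) = t := fun t => by rw [← mul_assoc, hb, one_mul]
    have hba : ∀ t, b * (a * t) = a * (b * t) := fun t => by
      rw [← mul_assoc, ← mul_assoc, hab]
    rintro x y (rfl | rfl | rfl | rfl) (rfl | rfl | rfl | rfl) <;>
      simp [mul_assoc, haa, hbb, hba, hab.symm, ha, hb]
  one_mem' := Or.inl rfl
  inv_mem' := by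
    have ia : a⁻¹ = a := inv_eq_of_mul_eq_one_right ha
    have ib : b⁻¹ = b := inv_eq_of_mul_eq_one_right hb
    rintro x (rfl | rfl | rfl | rfl)
    · left; simp
    · right; left; exact ia
    · right; right; left; exact ib
    · right; right; right; rw [mul_inv_rev, ia, ib, hab]

theorem mem_fourSub {a b : G} {ha : a * a = 1} {hb : b * b = 1} {hab : a * b = b * a} {g : G} :
    g ∈ fourSub a b ha hb hab ↔ g = 1 ∨ g = a ∨ g = b ∨ g = a * b := Iff.rfl

theorem fourSub_sq {a b : G} {ha : a * a = 1} {hb : b * b = 1} {hab : a * b = b * a} {g : G}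
    (hg : g ∈ fourSub a b ha hb hab) : g ^ 2 = 1 := by
  rw [pow_two]
  rcases hg with rfl | rfl | rfl | rfl
  · simp
  · exact ha
  · exact hb
  · rw [mul_assoc, ← mul_assoc b a b, ← hab, mul_assoc, hb, mul_one, ha]

theorem card_fourSub {a b : G} {ha : a * a = 1} {hb : b * b = 1} {hab : a * b = b * a}
    (ha1 : a ≠ 1) (hb1 : b ≠ 1) (hne : a ≠ b) : Nat.card (fourSub a b ha hb hab) = 4 := by
  classical
  have hab1 : a * b ≠ 1 := by
    intro h
    apply hne
    have : b = a⁻¹ := by rw [eq_inv_iff_mul_eq_one, ← hab]; exact h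
    rw [this, inv_eq_of_mul_eq_one_right ha]
  have haba : a * b ≠ a := fun h => hb1 (mul_eq_left.1 h)
  have habb : a * b ≠ b := fun h => ha1 (mul_eq_right.1 h)
  have hset : ((fourSub a b ha hb hab : Subgroup G) : Set G)
      = (({1, a, b, a * b} : Finset G) : Set G) := by
    ext g
    simp only [Finset.coe_insert, Finset.coe_singleton, Set.mem_insert_iff,
      Set.mem_singleton_iff]
    exact Iff.rfl
  have hcard : ({1, a, b, a * b} : Finset G).card = 4 := by
    rw [Finset.card_insert_of_notMem, Finset.card_insert_of_notMem,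
      Finset.card_insert_of_notMem, Finset.card_singleton]
    · simp only [Finset.mem_singleton]; exact fun h => habb h.symm
    · simp only [Finset.mem_insert, Finset.mem_singleton, not_or]
      exact ⟨hne, fun h => haba h.symm⟩
    · simp only [Finset.mem_insert, Finset.mem_singleton, not_or]
      exact ⟨fun h => ha1 h.symm, fun h => hb1 h.symm, fun h => hab1 h.symm⟩
  have : Nat.card (fourSub a b ha hb hab) = ((fourSub a b ha hb hab : Subgroup G) : Set G).ncard :=
    Nat.card_coe_set_eq _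
  rw [this, hset, Set.ncard_coe_finset, hcard]

/-- pure group theory: a `b`-orbit `x, x₂, x₃` of commuting involutions. -/
theorem tri_facts {b x x₂ x₃ : G} (hx : x * x = 1) (h2 : x₂ * x₂ = 1) (h3 : x₃ * x₃ = 1)
    (c12 : x * x₂ = x₂ * x) (c23 : x₂ * x₃ = x₃ * x₂) (c31 : x₃ * x = x * x₃)
    (cj1 : b * x * b⁻¹ = x₂) (cj2 : b * x₂ * b⁻¹ = x₃) (cj3 : b * x₃ * b⁻¹ = x) (hne : x₂ ≠ x) :
    (x * x₂) * (x * x₂) = 1 ∧ (x₂ * x₃) * (x₂ * x₃) = 1 ∧
    (x * x₂) * (x₂ * x₃) = (x₂ * x₃) * (x * x₂) ∧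
    x * x₂ ≠ 1 ∧ x₂ * x₃ ≠ 1 ∧ x * x₂ ≠ x₂ * x₃ ∧
    b * (x * x₂) * b⁻¹ = x₂ * x₃ ∧ b * (x₂ * x₃) * b⁻¹ = (x * x₂) * (x₂ * x₃) ∧
    b * ((x * x₂) * (x₂ * x₃)) * b⁻¹ = x * x₂ := by
  have hxx : ∀ t, x * (x * t) = t := fun t => by rw [← mul_assoc, hx, one_mul]
  have h22 : ∀ t, x₂ * (x₂ * t) = t := fun t => by rw [← mul_assoc, h2, one_mul]
  have h33 : ∀ t, x₃ * (x₃ * t) = t := fun t => by rw [← mul_assoc, h3, one_mul]
  have s21 : ∀ t, x₂ * (x * t) = x * (x₂ * t) := fun t => by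
    rw [← mul_assoc, ← mul_assoc, c12]
  have s32 : ∀ t, x₃ * (x₂ * t) = x₂ * (x₃ * t) := fun t => by
    rw [← mul_assoc, ← mul_assoc, c23]
  have s31 : ∀ t, x₃ * (x * t) = x * (x₃ * t) := fun t => by
    rw [← mul_assoc, ← mul_assoc, c31]
  have e1 : (x * x₂) * (x₂ * x₃) = x * x₃ := by
    simp [mul_assoc, h22]
  have conj_mul : ∀ u w : G, b * (u * w) * b⁻¹ = (b * u * b⁻¹) * (b * w * b⁻¹) := fun u w => by
    group
  refine ⟨?_, ?_, ?_, ?_, ?_, ?_, ?_, ?_, ?_⟩
  · simp [mul_assoc, s21, hxx, h2, hx]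
  · simp [mul_assoc, s32, h22, h3, h2]
  · simp [mul_assoc, s21, s32, s31, hxx, h22, h33, c12.symm, c23.symm, c31, hx, h2, h3]
  · intro h
    apply hne
    have : x₂ = x⁻¹ := by rw [eq_inv_iff_mul_eq_one, ← c12]; exact h
    rw [this, inv_eq_of_mul_eq_one_right hx]
  · intro h
    apply hne
    have h32 : x₃ = x₂ := by
      have : x₃ = x₂⁻¹ := by rw [eq_inv_iff_mul_eq_one, ← c23]; exact h
      rw [this, inv_eq_of_mul_eq_one_right h2]
    have : b * x₂ * b⁻¹ = b * x * b⁻¹ := by rw [cj2, cj1, h32]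
    exact mul_left_cancel (mul_right_cancel this)
  · intro h
    apply hne
    rw [c23] at h
    have h13 : x = x₃ := mul_right_cancel h
    calc x₂ = b * x * b⁻¹ := cj1.symm
      _ = b * x₃ * b⁻¹ := by rw [← h13]
      _ = x := cj3
  · rw [conj_mul, cj1, cj2]
  · rw [conj_mul, cj2, cj3, e1, c31]
  · rw [e1, conj_mul, cj1, cj3, c12]

end Four

section Cfg

variable {G : Type u} [Group G] [Finite G] {E : Type v} [AddCommGroup E] [Module (ZMod 3) E]
  [Finite E] {ρ : Representation (ZMod 3) G E} {R : Subgroup G} {b : G} {Q : Subgroup G}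

theorem b_cube (c : Cfg ρ R b Q) : b ^ 3 = 1 := by
  rw [← c.b3]; exact pow_orderOf_eq_one b

theorem conj_cube (c : Cfg ρ R b Q) (x : G) : b * (b * (b * x * b⁻¹) * b⁻¹) * b⁻¹ = x := by
  have h3 : b * b * b = 1 := by rw [← pow_three']; exact b_cube c
  have : b * (b * (b * x * b⁻¹) * b⁻¹) * b⁻¹ = (b * b * b) * x * (b * b * b)⁻¹ := by group
  rw [this, h3]; group

/-- an element commuting with `R` and `b` is central -/
theorem central_of (c : Cfg ρ R b Q) (x : G) (hR : ∀ r ∈ R, x * r = r * x)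
    (hb : x * b = b * x) : ∀ g : G, x * g = g * x := by
  have h1 : R ≤ Subgroup.centralizer {x} := fun r hr => by
    rw [Subgroup.mem_centralizer_iff]
    intro h hh
    rw [Set.mem_singleton_iff.1 hh]; exact hR r hr
  have h2 : Subgroup.zpowers b ≤ Subgroup.centralizer {x} := by
    rw [Subgroup.zpowers_le, Subgroup.mem_centralizer_iff]
    intro h hh
    rw [Set.mem_singleton_iff.1 hh]; exact hb
  have h3 : (⊤ : Subgroup G) ≤ Subgroup.centralizer {x} := by
    rw [← c.top]; exact sup_le h1 h2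
  intro g
  have := h3 (Subgroup.mem_top g)
  rw [Subgroup.mem_centralizer_iff] at this
  exact this x rfl

/-- every element of `G` is `r * k` with `r ∈ R`, `k ∈ ⟨b⟩`. -/
theorem exists_mul (c : Cfg ρ R b Q) (g : G) :
    ∃ r ∈ R, ∃ k ∈ Subgroup.zpowers b, g = r * k := by
  have hg : g ∈ R ⊔ Subgroup.zpowers b := by rw [c.top]; trivial
  haveI := c.normal
  rw [← SetLike.mem_coe, Subgroup.normal_mul] at hg
  obtain ⟨r, hr, k, hk, rfl⟩ := Set.mem_mul.1 hg
  exact ⟨r, hr, k, hk, rfl⟩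

theorem conj_mem_R (c : Cfg ρ R b Q) {x : G} (hx : x ∈ R) (g : G) : g * x * g⁻¹ ∈ R :=
  c.normal.conj_mem x hx g

/-- A `b`-orbit of commuting involutions in `R` gives a four-group with `Cfg`. -/
theorem cfg_of_involution (c : Cfg ρ R b Q) (x : G) (hxR : x ∈ R) (hx2 : x * x = 1)
    (h12 : x * (b * x * b⁻¹) = (b * x * b⁻¹) * x) (hne : b * x * b⁻¹ ≠ x) :
    ∃ Q' : Subgroup G, Cfg ρ R b Q' ∧
      (∀ e, e ∈ Q' ↔ e = 1 ∨ e = x * (b * x * b⁻¹) ∨
        e = (b * x * b⁻¹) * (b * (b * x * b⁻¹) * b⁻¹) ∨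
        e = (x * (b * x * b⁻¹)) * ((b * x * b⁻¹) * (b * (b * x * b⁻¹) * b⁻¹))) := by
  have cj3 := conj_cube c x
  have hxR2 : b * x * b⁻¹ ∈ R := conj_mem_R c hxR b
  have hxR3 : b * (b * x * b⁻¹) * b⁻¹ ∈ R := conj_mem_R c hxR2 b
  generalize hx₂ : b * x * b⁻¹ = x₂ at *
  generalize hx₃ : b * x₂ * b⁻¹ = x₃ at *
  have conj_mul : ∀ u w : G, b * (u * w) * b⁻¹ = (b * u * b⁻¹) * (b * w * b⁻¹) := fun u w => by
    group
  have h2 : x₂ * x₂ = 1 := by
    rw [← hx₂, ← conj_mul, hx2]; group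
  have h3 : x₃ * x₃ = 1 := by
    rw [← hx₃, ← conj_mul, h2]; group
  have c23 : x₂ * x₃ = x₃ * x₂ := by
    have := congrArg (fun t => b * t * b⁻¹) h12
    simp only [conj_mul, hx₂, hx₃] at this
    exact this
  have c31 : x₃ * x = x * x₃ := by
    have := congrArg (fun t => b * t * b⁻¹) c23
    simp only [conj_mul, hx₃, cj3] at this
    exact this
  obtain ⟨f1, f2, f3, f4, f5, f6, f7, f8, f9⟩ :=
    tri_facts hx2 h2 h3 h12 c23 c31 hx₂ hx₃ cj3 hne
  refine ⟨fourSub (x * x₂) (x₂ * x₃) f1 f2 f3, ?_, fun e => Iff.rfl⟩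
  have hnorm : ∀ h, h ∈ fourSub (x * x₂) (x₂ * x₃) f1 f2 f3 →
      b * h * b⁻¹ ∈ fourSub (x * x₂) (x₂ * x₃) f1 f2 f3 := by
    rintro h (rfl | rfl | rfl | rfl)
    · left; group
    · right; right; left; exact f7
    · right; right; right; exact f8
    · right; left; exact f9
  exact
    { solv := c.solv
      faith := c.faith
      normal := c.normal
      cop := c.cop
      b3 := c.b3
      top := c.top
      comm := c.comm
      QR := by
        rintro h (rfl | rfl | rfl | rfl)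
        · exact R.one_mem
        · exact R.mul_mem hxR hxR2
        · exact R.mul_mem hxR2 hxR3
        · exact R.mul_mem (R.mul_mem hxR hxR2) (R.mul_mem hxR2 hxR3)
      Q4 := card_fourSub f4 f5 f6
      Q2 := fun q hq => fourSub_sq hq
      bQ := by
        rw [Subgroup.mem_normalizer_iff]
        intro h
        refine ⟨hnorm h, fun hh => ?_⟩
        have := hnorm _ (hnorm _ hh)
        rw [conj_cube c h] at this
        exact this
      bQ' := by
        intro hcen
        rw [Subgroup.mem_centralizer_iff] at hcen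
        have h1 := hcen (x * x₂) (Or.inr (Or.inl rfl))
        apply f6
        rw [← f7, ← h1]; group
      rank := c.rank
      cubic := c.cubic }

end Cfg

section VVsec

open Cfsg.Agent.Lib.Helper5.CUB (QP1 isScal_cases negOne_unique negOne_props)

variable {G : Type u} [Group G] [Finite G] {E : Type v} [AddCommGroup E] [Module (ZMod 3) E]
  [Finite E] {ρ : Representation (ZMod 3) G E} {R : Subgroup G} {b : G} {Q : Subgroup G}

/-- the basic properties of `z = -1`. -/
structure ZData (R : Subgroup G) (z : G) : Prop where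
  mem : z ∈ R
  sq : z * z = 1
  ne : z ≠ 1
  cen : ∀ g : G, z * g = g * z

theorem zdata (c : Cfg ρ R b Q) (z : G) (hz : NegOne ρ R z) : ZData R z := by
  obtain ⟨h1, h2, h3, h4⟩ := negOne_props c z hz
  exact ⟨h1, by rw [← pow_two]; exact h2, h3, h4⟩

/-- `u ∈ {1, z}` -/
def InZ (z u : G) : Prop := u = 1 ∨ u = z

namespace ZData

variable {z : G}

theorem inv_eq (zd : ZData R z) : z⁻¹ = z := inv_eq_of_mul_eq_one_right zd.sq

theorem conj_z (zd : ZData R z) (g : G) : g * z * g⁻¹ = z := by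
  rw [← zd.cen g, mul_assoc, mul_inv_cancel, mul_one]

theorem inZ_mul (zd : ZData R z) {u w : G} (hu : InZ z u) (hw : InZ z w) : InZ z (u * w) := by
  rcases hu with rfl | rfl <;> rcases hw with rfl | rfl
  · left; simp
  · right; simp
  · right; simp
  · left; exact zd.sq

theorem inZ_inv (zd : ZData R z) {u : G} (hu : InZ z u) : InZ z u⁻¹ := by
  rcases hu with rfl | rfl
  · left; simp
  · right; exact zd.inv_eq

theorem inZ_conj (zd : ZData R z) {u : G} (hu : InZ z u) (g : G) : g * u * g⁻¹ = u := by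
  rcases hu with rfl | rfl
  · simp
  · exact zd.conj_z g

theorem inZ_comm (zd : ZData R z) {u : G} (hu : InZ z u) (g : G) : u * g = g * u := by
  rcases hu with rfl | rfl
  · simp
  · exact zd.cen g

theorem inZ_mem (zd : ZData R z) {u : G} (hu : InZ z u) : u ∈ R := by
  rcases hu with rfl | rfl
  · exact R.one_mem
  · exact zd.mem

theorem one_mem_VV (zd : ZData R z) : (1 : G) ∈ VV R z :=
  ⟨R.one_mem, fun r _ => Or.inl (by simp), Or.inl (by simp)⟩

theorem z_mem_VV (zd : ZData R z) : z ∈ VV R z := by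
  refine ⟨zd.mem, fun r _ => Or.inl ?_, Or.inl (by rw [pow_two]; exact zd.sq)⟩
  rw [commutatorElement_def, zd.cen r, mul_assoc, mul_assoc, mul_inv_cancel_left,
    mul_inv_cancel]

theorem VV_mul (zd : ZData R z) {x y : G} (hx : x ∈ VV R z) (hy : y ∈ VV R z) :
    x * y ∈ VV R z := by
  obtain ⟨hxR, hxc, hx2⟩ := hx
  obtain ⟨hyR, hyc, hy2⟩ := hy
  refine ⟨R.mul_mem hxR hyR, fun r hr => ?_, ?_⟩
  · have h1 : ⁅x * y, r⁆ = (x * ⁅y, r⁆ * x⁻¹) * ⁅x, r⁆ := by
      simp only [commutatorElement_def]; group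
    rw [h1, zd.inZ_conj (hyc r hr) x]
    exact zd.inZ_mul (hyc r hr) (hxc r hr)
  · have h1 : (x * y) ^ 2 = (x * ⁅y, x⁆ * x⁻¹) * x ^ 2 * y ^ 2 := by
      simp only [commutatorElement_def, pow_two]; group
    rw [h1, zd.inZ_conj (hyc x hxR) x]
    exact zd.inZ_mul (zd.inZ_mul (hyc x hxR) hx2) hy2

theorem VV_conj (zd : ZData R z) (hn : R.Normal) {x : G} (hx : x ∈ VV R z) (g : G) :
    g * x * g⁻¹ ∈ VV R z := by
  obtain ⟨hxR, hxc, hx2⟩ := hx
  refine ⟨hn.conj_mem x hxR g, fun r hr => ?_, ?_⟩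
  · have hr' : g⁻¹ * r * g ∈ R := by
      have := hn.conj_mem r hr g⁻¹
      rwa [inv_inv] at this
    have h1 : ⁅g * x * g⁻¹, r⁆ = g * ⁅x, g⁻¹ * r * g⁆ * g⁻¹ := by
      simp only [commutatorElement_def]; group
    rw [h1, zd.inZ_conj (hxc _ hr') g]
    exact hxc _ hr'
  · have h1 : (g * x * g⁻¹) ^ 2 = g * x ^ 2 * g⁻¹ := by
      simp only [pow_two]; group
    rw [h1, zd.inZ_conj hx2 g]
    exact hx2

/-- conjugation by `r ∈ R` moves `x ∈ V` inside `x Z`. -/
theorem conj_eq (zd : ZData R z) {x : G} (hx : x ∈ VV R z) {r : G} (hr : r ∈ R) :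
    r * x * r⁻¹ = x ∨ r * x * r⁻¹ = z * x := by
  have h1 : r * x * r⁻¹ = (⁅x, r⁆)⁻¹ * x := by
    simp only [commutatorElement_def]; group
  rw [h1]
  rcases zd.inZ_inv (hx.2.1 r hr) with h | h
  · left; rw [h, one_mul]
  · right; rw [h]

end ZData

/-- FPF: `b` acts fixed-point-freely on `V / Z`. -/
theorem fpf (c : Cfg ρ R b Q) (z : G) (hz : NegOne ρ R z) {v : G} (hv : v ∈ VV R z)
    (h : b * v * b⁻¹ = v ∨ b * v * b⁻¹ = z * v) : v = 1 ∨ v = z := by
  have zd := zdata c z hz
  -- `b` centralizes `v`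
  have hbv : b * v * b⁻¹ = v := by
    rcases h with h | h
    · exact h
    · exfalso
      apply zd.ne
      have h3 := conj_cube c v
      have hz1 : ∀ t, b * (z * t) * b⁻¹ = z * (b * t * b⁻¹) := fun t => by
        rw [← mul_assoc, ← zd.cen b]; group
      rw [h, hz1, h, hz1, hz1, h, ← mul_assoc z z, zd.sq, one_mul] at h3
      exact mul_eq_right.1 h3
  -- every element of `G` moves `v` inside `vZ`
  have hall : ∀ g : G, g * v * g⁻¹ = v ∨ g * v * g⁻¹ = z * v := by
    intro g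
    obtain ⟨r, hr, k, hk, rfl⟩ := exists_mul c g
    have hkv : k * v * k⁻¹ = v := by
      have hle : Subgroup.zpowers b ≤ Subgroup.centralizer {v} := by
        rw [Subgroup.zpowers_le, Subgroup.mem_centralizer_iff]
        intro h hh
        rw [Set.mem_singleton_iff.1 hh]
        calc v * b = (b * v * b⁻¹) * b := by rw [hbv]
          _ = b * v := by group
      have := hle hk
      rw [Subgroup.mem_centralizer_iff] at this
      have h2 := this v rfl
      calc k * v * k⁻¹ = (v * k) * k⁻¹ := by rw [h2]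
        _ = v := by group
    have : r * k * v * (r * k)⁻¹ = r * (k * v * k⁻¹) * r⁻¹ := by group
    rw [this, hkv]
    exact zd.conj_eq hv hr
  -- all conjugates of `b` centralize `v`
  have hconj : ∀ g : G, (g * b * g⁻¹) * v = v * (g * b * g⁻¹) := by
    intro g
    have h1 := hall g⁻¹
    rw [inv_inv] at h1
    have key : ∀ ε : G, InZ z ε → g⁻¹ * v * g = ε * v → (g * b * g⁻¹) * v = v * (g * b * g⁻¹) := by
      intro ε hε he
      have hv' : v = g * (ε * v) * g⁻¹ := by rw [← he]; group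
      have hεb : b * (ε * v) * b⁻¹ = ε * v := by
        have : b * (ε * v) * b⁻¹ = (b * ε * b⁻¹) * (b * v * b⁻¹) := by group
        rw [this, zd.inZ_conj hε b, hbv]
      calc (g * b * g⁻¹) * v = g * b * (g⁻¹ * v * g) * g⁻¹ := by group
        _ = g * (b * (ε * v) * b⁻¹) * b * g⁻¹ := by rw [he]; group
        _ = g * (ε * v) * b * g⁻¹ := by rw [hεb]
        _ = (g * (ε * v) * g⁻¹) * (g * b * g⁻¹) := by group
        _ = v * (g * b * g⁻¹) := by rw [← hv']
    rcases h1 with h1 | h1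
    · exact key 1 (Or.inl rfl) (by rw [h1, one_mul])
    · exact key z (Or.inr rfl) h1
  have hcen : ∀ g : G, v * g = g * v := by
    have hle : Subgroup.closure {x : G | ∃ g : G, x = g * b * g⁻¹} ≤ Subgroup.centralizer {v} := by
      rw [Subgroup.closure_le]
      rintro x ⟨g, rfl⟩
      rw [SetLike.mem_coe, Subgroup.mem_centralizer_iff]
      intro h hh
      rw [Set.mem_singleton_iff.1 hh]
      exact (hconj g).symm
    rw [P0a c] at hle
    intro g
    have := hle (Subgroup.mem_top g)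
    rw [Subgroup.mem_centralizer_iff] at this
    exact this v rfl
  rcases isScal_cases c v (QP1 c v hcen) with h1 | h1
  · left; exact h1
  · right; exact negOne_unique c v z h1 hz

end VVsec

end Cfsg.Agent.Lib.Helper9.CUB
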