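import Mathlib
import Cfsg.Agent.Lib.Helper3.CUBDefs
import Cfsg.Agent.Lib.Helper3.CUBT1
import Cfsg.Agent.Lib.Helper5.CUBP5
import Cfsg.Agent.Lib.Helper9.CUBFin2Tools

/-!
# CUB farm (S4415): unit FIN2a' (a normal four-group forces `R = Q`)
-/

set_option autoImplicit false

open scoped commutatorElement

namespace Cfsg.Agent.Lib.Helper9.CUB

open Cfsg.Agent.Lib.Helper3.CUB
open Cfsg.Agent.Lib.Helper5.CUB (P5)

universe u v

variable {G : Type u} [Group G] [Finite G] {E : Type v} [AddCommGroup E] [Module (ZMod 3) E]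
  [Finite E] {ρ : Representation (ZMod 3) G E} {R : Subgroup G} {b : G} {Q : Subgroup G}

/-- conjugation -/
def cj (s q : G) : G := s * q * s⁻¹

theorem cj_mul_left (s t q : G) : cj (s * t) q = cj s (cj t q) := by
  simp only [cj]; group

theorem cj_mul_right (s q q' : G) : cj s (q * q') = cj s q * cj s q' := by
  simp only [cj]; group

theorem cj_inj {s q q' : G} (h : cj s q = cj s q') : q = q' := by
  simp only [cj] at h
  exact mul_left_cancel (mul_right_cancel h)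

theorem cj_inv_cj (s q : G) : cj s⁻¹ (cj s q) = q := by
  simp only [cj]; group

theorem cj_cj_inv (s q : G) : cj s (cj s⁻¹ q) = q := by
  simp only [cj]; group

theorem cj_one (s : G) : cj s 1 = 1 := by
  simp only [cj]; group

/-- An element of `R` whose cube centralizes `q` centralizes `q`. -/
theorem cj_of_cube (c : Cfg ρ R b Q) {t : G} (ht : t ∈ R) (q : G)
    (h3 : cj t (cj t (cj t q)) = q) : cj t q = q := by
  have hcop : (3 : ℕ).Coprime (orderOf t) := by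
    have hdvd : orderOf t ∣ Nat.card R := by
      have := orderOf_dvd_natCard (⟨t, ht⟩ : R)
      rwa [Subgroup.orderOf_mk] at this
    exact (Nat.Coprime.coprime_dvd_left hdvd c.cop).symm
  obtain ⟨m, hm⟩ := exists_pow_eq_self_of_coprime hcop
  have hcen : t ^ 3 ∈ Subgroup.centralizer {q} := by
    rw [Subgroup.mem_centralizer_iff]
    intro h hh
    rw [Set.mem_singleton_iff.1 hh]
    have : cj (t ^ 3) q = q := by
      rw [pow_three, cj_mul_left, cj_mul_left]; exact h3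
    simp only [cj] at this
    calc q * t ^ 3 = (t ^ 3 * q * (t ^ 3)⁻¹) * t ^ 3 := by rw [this]
      _ = t ^ 3 * q := by group
  have hcen' : t ∈ Subgroup.centralizer {q} := by
    rw [← hm]; exact Subgroup.pow_mem _ hcen m
  rw [Subgroup.mem_centralizer_iff] at hcen'
  have := hcen' q rfl
  simp only [cj]
  rw [← this]; group

/-- the multiplication table of the frame -/
structure Tab (q₁ q₂ q₃ : G) : Prop where
  m12 : q₁ * q₂ = q₃
  m21 : q₂ * q₁ = q₃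
  m23 : q₂ * q₃ = q₁
  m32 : q₃ * q₂ = q₁
  m31 : q₃ * q₁ = q₂
  m13 : q₁ * q₃ = q₂
  s1 : q₁ * q₁ = 1
  s2 : q₂ * q₂ = 1
  s3 : q₃ * q₃ = 1
  n1 : q₁ ≠ 1
  n2 : q₂ ≠ 1
  n3 : q₃ ≠ 1
  d12 : q₁ ≠ q₂
  d13 : q₁ ≠ q₃
  d23 : q₂ ≠ q₃

theorem tab_of_frame (c : Cfg ρ R b Q) {q₁ q₂ q₃ : G} {e₁ e₂ e₃ : E}
    (fr : QFrame ρ b Q q₁ q₂ q₃ e₁ e₂ e₃) : Tab q₁ q₂ q₃ := by
  have s1 : q₁ * q₁ = 1 := by rw [← pow_two]; exact c.Q2 _ fr.mem₁
  have s2 : q₂ * q₂ = 1 := by rw [← pow_two]; exact c.Q2 _ fr.mem₂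
  have s3 : q₃ * q₃ = 1 := by rw [← pow_two]; exact c.Q2 _ fr.mem₃
  have i1 : q₁⁻¹ = q₁ := inv_eq_of_mul_eq_one_right s1
  have i2 : q₂⁻¹ = q₂ := inv_eq_of_mul_eq_one_right s2
  have i3 : q₃⁻¹ = q₃ := inv_eq_of_mul_eq_one_right s3
  have m12 := fr.mul
  have m21 : q₂ * q₁ = q₃ := by
    have : (q₁ * q₂)⁻¹ = q₃⁻¹ := by rw [m12]
    rwa [mul_inv_rev, i1, i2, i3] at this
  have m23 : q₂ * q₃ = q₁ := by rw [← m21, ← mul_assoc, s2, one_mul]
  have m32 : q₃ * q₂ = q₁ := by rw [← m12, mul_assoc, s2, mul_one]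
  have m31 : q₃ * q₁ = q₂ := by rw [← m21, mul_assoc, s1, mul_one]
  have m13 : q₁ * q₃ = q₂ := by rw [← m12, ← mul_assoc, s1, one_mul]
  have n1 := fr.ne₁
  have d12 : q₁ ≠ q₂ := by
    intro h
    -- then `q₃ = q₁ q₁ = 1`, and `q₁ = b⁻¹ ...`
    have h3 : q₃ = 1 := by rw [← m12, ← h, s1]
    have : b * q₃ * b⁻¹ = 1 := by rw [h3]; group
    rw [fr.conj₃] at this
    exact n1 this
  have n2 : q₂ ≠ 1 := by
    intro h
    have : b * q₁ * b⁻¹ = 1 := by rw [fr.conj₁, h]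
    apply n1
    have h' : q₁ = b⁻¹ * (b * q₁ * b⁻¹) * b := by group
    rw [h', this]; group
  have n3 : q₃ ≠ 1 := by
    intro h
    have : b * q₃ * b⁻¹ = 1 := by rw [h]; group
    rw [fr.conj₃] at this
    exact n1 this
  have d13 : q₁ ≠ q₃ := by
    intro h
    apply n2
    rw [← m13, ← h, s1]
  have d23 : q₂ ≠ q₃ := by
    intro h
    apply n1
    rw [← m23, ← h, s2]
  exact ⟨m12, m21, m23, m32, m31, m13, s1, s2, s3, n1, n2, n3, d12, d13, d23⟩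

/-- Step 1: a normal four-group `Q` is centralized by `R`. -/
theorem R_centralizes (c : Cfg ρ R b Q) (hQn : Q.Normal) {q₁ q₂ q₃ : G} {e₁ e₂ e₃ : E}
    (fr : QFrame ρ b Q q₁ q₂ q₃ e₁ e₂ e₃) :
    ∀ s ∈ R, cj s q₁ = q₁ ∧ cj s q₂ = q₂ := by
  have tb := tab_of_frame c fr
  have b1 : cj b q₁ = q₂ := fr.conj₁
  have b2 : cj b q₂ = q₃ := fr.conj₂
  have b3 : cj b q₃ = q₁ := fr.conj₃
  have bi1 : cj b⁻¹ q₁ = q₃ := by rw [← b3, cj_inv_cj]
  have bi2 : cj b⁻¹ q₂ = q₁ := by rw [← b1, cj_inv_cj]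
  have bi3 : cj b⁻¹ q₃ = q₂ := by rw [← b2, cj_inv_cj]
  -- each conjugate of `q_i` is some `q_j`
  have tri : ∀ s : G, ∀ q ∈ Q, q ≠ 1 → cj s q = q₁ ∨ cj s q = q₂ ∨ cj s q = q₃ := by
    intro s q hq hq1
    have hmem : cj s q ∈ Q := hQn.conj_mem q hq s
    rcases fr.all _ hmem with h | h | h | h
    · exfalso
      apply hq1
      have : cj s q = cj s 1 := by rw [h, cj_one]
      exact cj_inj this
    · exact Or.inl h
    · exact Or.inr (Or.inl h)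
    · exact Or.inr (Or.inr h)
  -- transposition fixing `q₁` is impossible
  have transp : ∀ s ∈ R, cj s q₁ = q₁ → cj s q₂ = q₃ → False := by
    intro s hs h1 h2
    have h3 : cj s q₃ = q₂ := by rw [← tb.m12, cj_mul_right, h1, h2, tb.m13]
    have hbs : b * s * b⁻¹ ∈ R := conj_mem_R c hs b
    have ht : s * (b * s * b⁻¹) ∈ R := R.mul_mem hs hbs
    have e1 : cj (s * (b * s * b⁻¹)) q₁ = q₂ := by
      rw [cj_mul_left, mul_assoc, cj_mul_left, cj_mul_left, bi1, h3, b2, h3]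
    have e2 : cj (s * (b * s * b⁻¹)) q₂ = q₃ := by
      rw [cj_mul_left, mul_assoc, cj_mul_left, cj_mul_left, bi2, h1, b1, h2]
    have e3 : cj (s * (b * s * b⁻¹)) q₃ = q₁ := by
      rw [cj_mul_left, mul_assoc, cj_mul_left, cj_mul_left, bi3, h2, b3, h1]
    have := cj_of_cube c ht q₁ (by rw [e1, e2, e3])
    rw [e1] at this
    exact tb.d12 this.symm
  intro s hs
  rcases tri s q₁ fr.mem₁ tb.n1 with h1 | h1 | h1
  · -- `s` fixes `q₁`
    refine ⟨h1, ?_⟩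
    rcases tri s q₂ fr.mem₂ tb.n2 with h2 | h2 | h2
    · exfalso
      exact tb.d12 (cj_inj (h1.trans h2.symm))
    · exact h2
    · exact (transp s hs h1 h2).elim
  · -- `s q₁ = q₂`
    exfalso
    rcases tri s q₂ fr.mem₂ tb.n2 with h2 | h2 | h2
    · -- transposition `(12)`: conjugate by `b`
      have h3 : cj s q₃ = q₃ := by
        have : cj s (q₁ * q₂) = q₃ := by rw [cj_mul_right, h1, h2, tb.m21]
        rwa [tb.m12] at this
      have hbs : b * s * b⁻¹ ∈ R := conj_mem_R c hs b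
      have e1 : cj (b * s * b⁻¹) q₁ = q₁ := by
        rw [mul_assoc, cj_mul_left, cj_mul_left, bi1, h3, b3]
      have e2 : cj (b * s * b⁻¹) q₂ = q₃ := by
        rw [mul_assoc, cj_mul_left, cj_mul_left, bi2, h1, b2]
      exact transp _ hbs e1 e2
    · exact tb.d12 (cj_inj (h1.trans h2.symm))
    · -- 3-cycle
      have h3 : cj s q₃ = q₁ := by rw [← tb.m12, cj_mul_right, h1, h2, tb.m23]
      have := cj_of_cube c hs q₁ (by rw [h1, h2, h3])
      rw [h1] at this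
      exact tb.d12 this.symm
  · -- `s q₁ = q₃`
    exfalso
    rcases tri s q₂ fr.mem₂ tb.n2 with h2 | h2 | h2
    · -- 3-cycle
      have h3 : cj s q₃ = q₂ := by rw [← tb.m12, cj_mul_right, h1, h2, tb.m31]
      have := cj_of_cube c hs q₁ (by rw [h1, h3, h2])
      rw [h1] at this
      exact tb.d13 this.symm
    · -- transposition `(13)`: conjugate by `b⁻¹`
      have h3 : cj s q₃ = q₁ := by rw [← tb.m12, cj_mul_right, h1, h2, tb.m32]
      have hbs : b⁻¹ * s * b ∈ R := by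
        have := conj_mem_R c hs b⁻¹
        rwa [inv_inv] at this
      have e1 : cj (b⁻¹ * s * b) q₁ = q₁ := by
        rw [mul_assoc, cj_mul_left, cj_mul_left, b1, h2, bi2]
      have e2 : cj (b⁻¹ * s * b) q₂ = q₃ := by
        rw [mul_assoc, cj_mul_left, cj_mul_left, b2, h3, bi1]
      exact transp _ hbs e1 e2
    · exact tb.d12 (cj_inj (h1.trans h2.symm))

theorem rmul (ρ : Representation (ZMod 3) G E) (g h : G) (v : E) :
    ρ (g * h) v = ρ g (ρ h v) := by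
  rw [map_mul]; rfl

theorem rone (ρ : Representation (ZMod 3) G E) (v : E) : ρ 1 v = v := by
  rw [map_one]; rfl

theorem rinv_self (ρ : Representation (ZMod 3) G E) (g : G) (v : E) : ρ g⁻¹ (ρ g v) = v := by
  rw [← rmul, inv_mul_cancel, rone]

theorem rself_inv (ρ : Representation (ZMod 3) G E) (g : G) (v : E) : ρ g (ρ g⁻¹ v) = v := by
  rw [← rmul, mul_inv_cancel, rone]

theorem conj_act (ρ : Representation (ZMod 3) G E) (b q : G) (v : E) :
    ρ (b * q * b⁻¹) (ρ b v) = ρ b (ρ q v) := by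
  rw [← rmul, ← rmul]
  congr 2
  group

/-- the action of the frame elements on the frame vectors -/
structure Act (ρ : Representation (ZMod 3) G E) (q₁ q₂ q₃ : G) (e₁ e₂ e₃ : E) : Prop where
  a11 : ρ q₁ e₁ = e₁
  a12 : ρ q₁ e₂ = -e₂
  a13 : ρ q₁ e₃ = -e₃
  a21 : ρ q₂ e₁ = -e₁
  a22 : ρ q₂ e₂ = e₂
  a23 : ρ q₂ e₃ = -e₃
  a31 : ρ q₃ e₁ = -e₁
  a32 : ρ q₃ e₂ = -e₂
  a33 : ρ q₃ e₃ = e₃

theorem act_of_frame {q₁ q₂ q₃ : G} {e₁ e₂ e₃ : E}
    (fr : QFrame ρ b Q q₁ q₂ q₃ e₁ e₂ e₃) : Act ρ q₁ q₂ q₃ e₁ e₂ e₃ := by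
  have a11 := fr.q₁e₁
  have a21 := fr.q₂e₁
  have a31 : ρ q₃ e₁ = -e₁ := by rw [← fr.mul, rmul, a21, map_neg, a11]
  have a22 : ρ q₂ e₂ = e₂ := by rw [← fr.conj₁, ← fr.be₁, conj_act, a11]
  have a32 : ρ q₃ e₂ = -e₂ := by rw [← fr.conj₂, ← fr.be₁, conj_act, a21, map_neg]
  have a12 : ρ q₁ e₂ = -e₂ := by rw [← fr.conj₃, ← fr.be₁, conj_act, a31, map_neg]
  have a33 : ρ q₃ e₃ = e₃ := by rw [← fr.conj₂, ← fr.be₂, conj_act, a22]
  have a13 : ρ q₁ e₃ = -e₃ := by rw [← fr.conj₃, ← fr.be₂, conj_act, a32, map_neg]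
  have a23 : ρ q₂ e₃ = -e₃ := by rw [← fr.conj₁, ← fr.be₂, conj_act, a12, map_neg]
  exact ⟨a11, a12, a13, a21, a22, a23, a31, a32, a33⟩

theorem zmod3_sq : ∀ s : ZMod 3, s * s = 1 → s = 1 ∨ s = -1 := by decide

theorem zmod3_sq' : ∀ s : ZMod 3, s ≠ 0 → s * s = 1 := by decide

/-- Step 4: an element acting on the frame with signs of product `1` lies in `Q`. -/
theorem mem_Q_of_signs (c : Cfg ρ R b Q) {q₁ q₂ q₃ : G} {e₁ e₂ e₃ : E}
    (fr : QFrame ρ b Q q₁ q₂ q₃ e₁ e₂ e₃) (g : G) (hfix : ∀ w ∈ fixSub ρ Q, ρ g w = w)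
    (s₁ s₂ s₃ : ZMod 3) (h1 : ρ g e₁ = s₁ • e₁) (h2 : ρ g e₂ = s₂ • e₂) (h3 : ρ g e₃ = s₃ • e₃)
    (hs1 : s₁ * s₁ = 1) (hs2 : s₂ * s₂ = 1) (hs3 : s₃ * s₃ = 1) (hprod : s₁ * s₂ * s₃ = 1) :
    g ∈ Q := by
  have act := act_of_frame fr
  have key : ∀ q ∈ Q, ρ q e₁ = s₁ • e₁ → ρ q e₂ = s₂ • e₂ → ρ q e₃ = s₃ • e₃ → g ∈ Q := by
    intro q hq k1 k2 k3
    have : g = q := by
      apply c.faith
      ext v
      obtain ⟨w, hw, a₁, a₂, a₃, rfl⟩ := fr.decomp v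
      simp only [map_add, map_smul, h1, h2, h3, k1, k2, k3, hfix w hw, hw q hq]
    rw [this]; exact hq
  rcases zmod3_sq s₁ hs1 with rfl | rfl <;> rcases zmod3_sq s₂ hs2 with rfl | rfl <;>
    rcases zmod3_sq s₃ hs3 with rfl | rfl
  · exact key 1 Q.one_mem (by rw [rone, one_smul]) (by rw [rone, one_smul])
      (by rw [rone, one_smul])
  · exact absurd hprod (by decide)
  · exact absurd hprod (by decide)
  · exact key q₁ fr.mem₁ (by rw [act.a11, one_smul]) (by rw [act.a12, neg_smul, one_smul])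
      (by rw [act.a13, neg_smul, one_smul])
  · exact absurd hprod (by decide)
  · exact key q₂ fr.mem₂ (by rw [act.a21, neg_smul, one_smul]) (by rw [act.a22, one_smul])
      (by rw [act.a23, neg_smul, one_smul])
  · exact key q₃ fr.mem₃ (by rw [act.a31, neg_smul, one_smul])
      (by rw [act.a32, neg_smul, one_smul]) (by rw [act.a33, one_smul])
  · exact absurd hprod (by decide)

/-- Step 3: elements of `R` (centralizing `Q`) act by signs on the frame. -/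
theorem signs_of_R (c : Cfg ρ R b Q) {q₁ q₂ q₃ : G} {e₁ e₂ e₃ : E}
    (fr : QFrame ρ b Q q₁ q₂ q₃ e₁ e₂ e₃)
    (hcen : ∀ s ∈ R, cj s q₁ = q₁ ∧ cj s q₂ = q₂) :
    ∀ r ∈ R, ∃ a₁ a₂ a₃ : ZMod 3, a₁ * a₁ = 1 ∧ a₂ * a₂ = 1 ∧ a₃ * a₃ = 1 ∧
      ρ r e₁ = a₁ • e₁ ∧ ρ r e₂ = a₂ • e₂ ∧ ρ r e₃ = a₃ • e₃ := by
  have sign1 : ∀ r ∈ R, ∃ a : ZMod 3, a * a = 1 ∧ ρ r e₁ = a • e₁ := by
    intro r hr
    obtain ⟨c1, c2⟩ := hcen r hr
    have hq1 : q₁ * r = r * q₁ := by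
      simp only [cj] at c1
      calc q₁ * r = (r * q₁ * r⁻¹) * r := by rw [c1]
        _ = r * q₁ := by group
    have hq2 : q₂ * r = r * q₂ := by
      simp only [cj] at c2
      calc q₂ * r = (r * q₂ * r⁻¹) * r := by rw [c2]
        _ = r * q₂ := by group
    have k1 : ρ q₁ (ρ r e₁) = ρ r e₁ := by rw [← rmul, hq1, rmul, fr.q₁e₁]
    have k2 : ρ q₂ (ρ r e₁) = -ρ r e₁ := by rw [← rmul, hq2, rmul, fr.q₂e₁, map_neg]
    obtain ⟨a, ha⟩ := fr.mult_one _ k1 k2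
    have ha0 : a ≠ 0 := by
      intro h0
      rw [h0, zero_smul] at ha
      apply fr.e_ne
      rw [← rinv_self ρ r e₁, ha, map_zero]
    exact ⟨a, zmod3_sq' a ha0, ha⟩
  intro r hr
  have hr2 : b⁻¹ * r * b ∈ R := by
    have := conj_mem_R c hr b⁻¹
    rwa [inv_inv] at this
  have hr3 : b⁻¹ * (b⁻¹ * r * b) * b ∈ R := by
    have := conj_mem_R c hr2 b⁻¹
    rwa [inv_inv] at this
  obtain ⟨a₁, ha₁, h1⟩ := sign1 r hr
  obtain ⟨a₂, ha₂, h2⟩ := sign1 _ hr2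
  obtain ⟨a₃, ha₃, h3⟩ := sign1 _ hr3
  have e2 : ρ r e₂ = a₂ • e₂ := by
    have : ρ r (ρ b e₁) = ρ b (ρ (b⁻¹ * r * b) e₁) := by
      rw [← rmul, ← rmul]; congr 2; group
    rw [← fr.be₁, this, h2, map_smul]
  have e3 : ρ r e₃ = a₃ • e₃ := by
    have : ρ r (ρ b (ρ b e₁)) = ρ b (ρ b (ρ (b⁻¹ * (b⁻¹ * r * b) * b) e₁)) := by
      rw [← rmul, ← rmul, ← rmul, ← rmul]; congr 2; group
    rw [← fr.be₂, ← fr.be₁, this, h3, map_smul, map_smul]
  exact ⟨a₁, a₂, a₃, ha₁, ha₂, ha₃, h1, e2, e3⟩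

/-- FIN2-a': a normal four-group forces `R = Q`. -/
theorem FIN2a' (c : Cfg ρ R b Q) (hQn : Q.Normal) :
    Cfsg.IsElementaryAbelian 2 R ∧ Nat.card R = 4 := by
  obtain ⟨q₁, q₂, q₃, e₁, e₂, e₃, fr⟩ := P5 c
  have hcen := R_centralizes c hQn fr
  -- Step 2: `R` is trivial on `C_E(Q)`
  have hinvQ : ∀ g : G, Inv ρ g (fixSub ρ Q) := by
    intro g v hv q hq
    have hq' : g⁻¹ * q * g ∈ Q := by
      have := hQn.conj_mem q hq g⁻¹
      rwa [inv_inv] at this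
    have : ρ q (ρ g v) = ρ g (ρ (g⁻¹ * q * g) v) := by
      rw [← rmul, ← rmul]; congr 2; group
    rw [this, hv _ hq']
  have hRfix : ∀ r ∈ R, ∀ w ∈ fixSub ρ Q, ρ r w = w := by
    intro r hr w hw
    have := P0b c (fixSub ρ Q) ⊥ hinvQ
      (fun g v hv => by rw [(Submodule.mem_bot _).1 hv, map_zero]; exact Submodule.zero_mem _)
      (fun v hv => by rw [fr.fixb v hv, sub_self]; exact Submodule.zero_mem _) r hr w hw
    exact sub_eq_zero.1 ((Submodule.mem_bot _).1 this)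
  -- Step 5: commutators `[r, b]` lie in `Q`
  have hcomm : ∀ r ∈ R, ⁅r, b⁆ ∈ Q := by
    intro r hr
    obtain ⟨a₁, a₂, a₃, ha₁, ha₂, ha₃, h1, h2, h3⟩ := signs_of_R c fr hcen r hr
    have inv_sign : ∀ (a : ZMod 3) (e : E), a * a = 1 → ρ r e = a • e → ρ r⁻¹ e = a • e := by
      intro a e ha he
      have : ρ r⁻¹ (ρ r e) = e := rinv_self ρ r e
      rw [he, map_smul] at this
      calc ρ r⁻¹ e = (a * a) • ρ r⁻¹ e := by rw [ha, one_smul]
        _ = a • (a • ρ r⁻¹ e) := by rw [smul_smul]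
        _ = a • e := by rw [this]
    have i1 := inv_sign a₁ e₁ ha₁ h1
    have i2 := inv_sign a₂ e₂ ha₂ h2
    have i3 := inv_sign a₃ e₃ ha₃ h3
    have bi1 : ρ b⁻¹ e₁ = e₃ := by rw [← fr.be₃, rinv_self]
    have bi2 : ρ b⁻¹ e₂ = e₁ := by rw [← fr.be₁, rinv_self]
    have bi3 : ρ b⁻¹ e₃ = e₂ := by rw [← fr.be₂, rinv_self]
    have g1 : ρ ⁅r, b⁆ e₁ = (a₃ * a₁) • e₁ := by
      rw [commutatorElement_def, rmul, rmul, rmul, bi1, i3, map_smul, fr.be₃, map_smul, h1,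
        smul_smul]
    have g2 : ρ ⁅r, b⁆ e₂ = (a₁ * a₂) • e₂ := by
      rw [commutatorElement_def, rmul, rmul, rmul, bi2, i1, map_smul, fr.be₁, map_smul, h2,
        smul_smul]
    have g3 : ρ ⁅r, b⁆ e₃ = (a₂ * a₃) • e₃ := by
      rw [commutatorElement_def, rmul, rmul, rmul, bi3, i2, map_smul, fr.be₂, map_smul, h3,
        smul_smul]
    have hfix : ∀ w ∈ fixSub ρ Q, ρ ⁅r, b⁆ w = w := by
      intro w hw
      have hb1 : ρ b⁻¹ w = w := by
        have := rinv_self ρ b w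
        rwa [fr.fixb w hw] at this
      rw [commutatorElement_def, rmul, rmul, rmul, hb1, hRfix _ (R.inv_mem hr) w hw,
        fr.fixb w hw, hRfix r hr w hw]
    refine mem_Q_of_signs c fr _ hfix _ _ _ g1 g2 g3 ?_ ?_ ?_ ?_
    · calc a₃ * a₁ * (a₃ * a₁) = (a₃ * a₃) * (a₁ * a₁) := by ring
        _ = 1 := by rw [ha₃, ha₁, one_mul]
    · calc a₁ * a₂ * (a₁ * a₂) = (a₁ * a₁) * (a₂ * a₂) := by ring
        _ = 1 := by rw [ha₁, ha₂, one_mul]
    · calc a₂ * a₃ * (a₂ * a₃) = (a₂ * a₂) * (a₃ * a₃) := by ring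
        _ = 1 := by rw [ha₂, ha₃, one_mul]
    · calc a₃ * a₁ * (a₁ * a₂) * (a₂ * a₃) = (a₁ * a₁) * (a₂ * a₂) * (a₃ * a₃) := by ring
        _ = 1 := by rw [ha₁, ha₂, ha₃, one_mul, one_mul]
  -- the subgroup of `g` with `[R, g] ⊆ Q`
  let T : Subgroup G :=
    { carrier := {g | ∀ r ∈ R, ⁅r, g⁆ ∈ Q}
      mul_mem' := by
        intro g h hg hh r hr
        have : ⁅r, g * h⁆ = ⁅r, g⁆ * (g * ⁅r, h⁆ * g⁻¹) := by
          simp only [commutatorElement_def]; group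
        rw [this]
        exact Q.mul_mem (hg r hr) (hQn.conj_mem _ (hh r hr) g)
      one_mem' := by
        intro r _
        rw [commutatorElement_def]
        simp
      inv_mem' := by
        intro g hg r hr
        have : ⁅r, g⁻¹⁆ = g⁻¹ * (⁅r, g⁆)⁻¹ * g⁻¹⁻¹ := by
          simp only [commutatorElement_def]; group
        rw [this]
        exact hQn.conj_mem _ (Q.inv_mem (hg r hr)) g⁻¹ }
  have hbT : b ∈ T := hcomm
  have hT : Subgroup.zpowers b ≤ T := Subgroup.zpowers_le.2 hbT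
  have hRQ : R ≤ Q := by
    have : ⁅R, Subgroup.zpowers b⁆ ≤ Q :=
      Subgroup.commutator_le.2 (fun r hr g hg => hT hg r hr)
    rwa [c.comm] at this
  have hRQ' : R = Q := le_antisymm hRQ c.QR
  refine ⟨⟨?_, ?_⟩, by rw [hRQ']; exact c.Q4⟩
  · rw [isMulCommutative_iff]
    intro x y
    have hx2 : (x : G) * x = 1 := by rw [← pow_two]; exact c.Q2 _ (hRQ x.2)
    have hy2 : (y : G) * y = 1 := by rw [← pow_two]; exact c.Q2 _ (hRQ y.2)
    have hxy2 : ((x : G) * y) * (x * y) = 1 := by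
      rw [← pow_two]; exact c.Q2 _ (hRQ (R.mul_mem x.2 y.2))
    apply Subtype.ext
    show (x : G) * y = y * x
    have ix : (x : G)⁻¹ = x := inv_eq_of_mul_eq_one_right hx2
    have iy : (y : G)⁻¹ = y := inv_eq_of_mul_eq_one_right hy2
    have ixy : ((x : G) * y)⁻¹ = x * y := inv_eq_of_mul_eq_one_right hxy2
    calc (x : G) * y = ((x : G) * y)⁻¹ := ixy.symm
      _ = (y : G)⁻¹ * (x : G)⁻¹ := mul_inv_rev _ _
      _ = y * x := by rw [ix, iy]
  · intro a ha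
    exact c.Q2 a (hRQ ha)

end Cfsg.Agent.Lib.Helper9.CUB
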