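import Mathlib
import Cfsg.Agent.Lib.Helper3.CUBDefs
import Cfsg.Agent.Lib.Helper3.CUBT1
import Cfsg.Agent.Lib.Helper5.CUBT8
import Cfsg.Agent.Lib.Helper1.Nilpotent
import Cfsg.Agent.Lib.Helper9.CUBFin2Tools

/-!
# CUB farm (S4415): units FIN2a and FIN2b0
-/

set_option autoImplicit false

open scoped commutatorElement

namespace Cfsg.Agent.Lib.Helper9.CUB

open Cfsg.Agent.Lib.Helper3.CUB
open Cfsg.Agent.Lib.Helper5.CUB (QP1 isScal_cases negOne_unique negOne_props)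

universe u v

variable {G : Type u} [Group G] [Finite G] {E : Type v} [AddCommGroup E] [Module (ZMod 3) E]
  [Finite E] {ρ : Representation (ZMod 3) G E} {R : Subgroup G} {b : G} {Q : Subgroup G}

/-- FIN2-b0: an involution in `V \ Z` gives a four-group `Q'` with `[R, Q'] ≤ Z`. -/
theorem FIN2b0 (c : Cfg ρ R b Q) (z : G) (hz : NegOne ρ R z) (x : G) (hx : x ∈ VV R z)
    (hx1 : x ≠ 1) (hxz : x ≠ z) (hx2 : x ^ 2 = 1) :
    ∃ Q' : Subgroup G, Cfg ρ R b Q' ∧
      ∀ r ∈ R, ∀ e ∈ Q', r * e * r⁻¹ = e ∨ r * e * r⁻¹ = z * e := by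
  have zd := zdata c z hz
  have hn := c.normal
  have hxx : x * x = 1 := by rw [← pow_two]; exact hx2
  have hx₂V : b * x * b⁻¹ ∈ VV R z := zd.VV_conj hn hx b
  have hx₃V : b * (b * x * b⁻¹) * b⁻¹ ∈ VV R z := zd.VV_conj hn hx₂V b
  have cj3 := conj_cube c x
  have hne : b * x * b⁻¹ ≠ x := by
    intro h
    rcases fpf c z hz hx (Or.inl h) with h1 | h1
    · exact hx1 h1
    · exact hxz h1
  have h12 : x * (b * x * b⁻¹) = (b * x * b⁻¹) * x := by
    generalize hx₂ : b * x * b⁻¹ = x₂ at *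
    generalize hx₃ : b * x₂ * b⁻¹ = x₃ at *
    have conj_mul : ∀ u w : G, b * (u * w) * b⁻¹ = (b * u * b⁻¹) * (b * w * b⁻¹) :=
      fun u w => by group
    have h22 : x₂ * x₂ = 1 := by rw [← hx₂, ← conj_mul, hxx]; group
    have h33 : x₃ * x₃ = 1 := by rw [← hx₃, ← conj_mul, h22]; group
    have ix : x⁻¹ = x := inv_eq_of_mul_eq_one_right hxx
    have ix₂ : x₂⁻¹ = x₂ := inv_eq_of_mul_eq_one_right h22
    have hcomm_el : ⁅x, x₂⁆ = (x * x₂) * (x * x₂) := by
      rw [commutatorElement_def, ix, ix₂]; group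
    rcases hx.2.1 x₂ hx₂V.1 with h | h
    · -- commutator trivial
      rw [commutatorElement_def] at h
      calc x * x₂ = (x * x₂ * x⁻¹ * x₂⁻¹) * x₂ * x := by group
        _ = x₂ * x := by rw [h, one_mul]
    · exfalso
      -- `w = x x₂ x₃` is `b`-fixed modulo `Z`
      have hwV : x * x₂ * x₃ ∈ VV R z := zd.VV_mul (zd.VV_mul hx hx₂V) hx₃V
      have hbw : b * (x * x₂ * x₃) * b⁻¹ = x⁻¹ * (x * x₂ * x₃) * x⁻¹⁻¹ := by
        rw [conj_mul, conj_mul, hx₂, hx₃, cj3]; group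
      have hw : InZ z (x * x₂ * x₃) := by
        apply fpf c z hz hwV
        rw [hbw]
        exact zd.conj_eq hwV (R.inv_mem hx.1)
      have hx₃eq : x₃ = (x * x₂)⁻¹ * (x * x₂ * x₃) := by group
      have hww : (x * x₂ * x₃) * (x * x₂ * x₃) = 1 := by
        rcases hw with h1 | h1
        · rw [h1, one_mul]
        · rw [h1]; exact zd.sq
      have h4 : x₃ * x₃ = ((x * x₂) * (x * x₂))⁻¹ := by
        nth_rewrite 1 [hx₃eq]
        nth_rewrite 2 [hx₃eq]
        have := zd.inZ_comm hw (x * x₂)⁻¹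
        calc (x * x₂)⁻¹ * (x * x₂ * x₃) * ((x * x₂)⁻¹ * (x * x₂ * x₃))
            = (x * x₂)⁻¹ * ((x * x₂ * x₃) * (x * x₂)⁻¹) * (x * x₂ * x₃) := by group
          _ = (x * x₂)⁻¹ * ((x * x₂)⁻¹ * (x * x₂ * x₃)) * (x * x₂ * x₃) := by rw [this]
          _ = (x * x₂)⁻¹ * (x * x₂)⁻¹ * ((x * x₂ * x₃) * (x * x₂ * x₃)) := by group
          _ = ((x * x₂) * (x * x₂))⁻¹ := by rw [hww]; group
      rw [h33, ← hcomm_el, h, zd.inv_eq] at h4
      exact zd.ne h4.symm
  obtain ⟨Q', hc', hmem⟩ := cfg_of_involution c x hx.1 hxx h12 hne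
  refine ⟨Q', hc', fun r hr e he => ?_⟩
  have heV : e ∈ VV R z := by
    rcases (hmem e).1 he with rfl | rfl | rfl | rfl
    · exact zd.one_mem_VV
    · exact zd.VV_mul hx hx₂V
    · exact zd.VV_mul hx₂V hx₃V
    · exact zd.VV_mul (zd.VV_mul hx hx₂V) (zd.VV_mul hx₂V hx₃V)
  exact zd.conj_eq heV hr

/-- a nontrivial normal subgroup of `G` inside the 2-group `R` contains an involution central
in `R`. -/
theorem exists_central_involution (h2 : IsPGroup 2 R) (N : Subgroup G)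
    (hN : N.Normal) (hNR : N ≤ R) (hN1 : N ≠ ⊥) :
    ∃ x ∈ N, x ≠ 1 ∧ (∀ r ∈ R, x * r = r * x) ∧ x * x = 1 := by
  haveI : Fact (Nat.Prime 2) := ⟨Nat.prime_two⟩
  haveI : Group.IsNilpotent R := h2.isNilpotent
  have hN' : N.subgroupOf R ≠ ⊥ := by
    intro h
    apply hN1
    rw [Subgroup.subgroupOf_eq_bot] at h
    rw [eq_bot_iff]
    intro g hg
    exact h.le_bot ⟨hg, hNR hg⟩
  have hM := Cfsg.Agent.Lib.Helper1.normal_inf_center_ne_bot (N.subgroupOf R) hN'
  set M : Subgroup R := N.subgroupOf R ⊓ Subgroup.center R with hMdef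
  have hMp : IsPGroup 2 M := h2.to_subgroup M
  obtain ⟨k, hk⟩ := hMp.exists_card_eq
  have hk0 : k ≠ 0 := by
    intro h0
    rw [h0, pow_zero] at hk
    exact hM (Subgroup.card_eq_one.1 hk)
  have hdvd : 2 ∣ Nat.card M := by
    rw [hk]; exact dvd_pow_self 2 hk0
  obtain ⟨y, hy⟩ := exists_prime_orderOf_dvd_card' 2 hdvd
  have hyM : (y : R) ∈ N.subgroupOf R ⊓ Subgroup.center R := y.2
  rw [Subgroup.mem_inf] at hyM
  obtain ⟨hyN, hyZ⟩ := hyM
  refine ⟨((y : R) : G), ?_, ?_, ?_, ?_⟩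
  · exact Subgroup.mem_subgroupOf.1 hyN
  · intro h1
    have : y = 1 := by
      apply Subtype.ext; apply Subtype.ext; exact h1
    rw [this, orderOf_one] at hy
    norm_num at hy
  · intro r hr
    rw [Subgroup.mem_center_iff] at hyZ
    have := hyZ ⟨r, hr⟩
    have h3 := congrArg Subtype.val this
    simpa using h3.symm
  · have h3 : y ^ 2 = 1 := by rw [← hy]; exact pow_orderOf_eq_one y
    have h4 := congrArg (fun t : M => ((t : R) : G)) h3
    simpa [pow_two] using h4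

/-- FIN2-a: a normal four-group, or `Z = ⟨z⟩` is the unique minimal normal subgroup. -/
theorem FIN2a (c : Cfg ρ R b Q) (h2 : IsPGroup 2 R) :
    (∃ Z₁ : Subgroup G, Z₁.Normal ∧ Cfg ρ R b Z₁) ∨
    (∃ z : G, NegOne ρ R z ∧ ∀ N : Subgroup G, N.Normal → N ≤ R → N ≠ ⊥ → z ∈ N) := by
  by_cases hI : ∃ x ∈ R, (∀ r ∈ R, x * r = r * x) ∧ x * x = 1 ∧ b * x * b⁻¹ ≠ x
  · left
    obtain ⟨x, hxR, hxc, hxx, hne⟩ := hI
    have hx₂R : b * x * b⁻¹ ∈ R := conj_mem_R c hxR b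
    have hx₃R : b * (b * x * b⁻¹) * b⁻¹ ∈ R := conj_mem_R c hx₂R b
    -- conjugates of `R`-central elements are `R`-central
    have hcc : ∀ y : G, (∀ r ∈ R, y * r = r * y) → ∀ r ∈ R, (b * y * b⁻¹) * r = r * (b * y * b⁻¹) := by
      intro y hy r hr
      have hr' : b⁻¹ * r * b ∈ R := by
        have := c.normal.conj_mem r hr b⁻¹
        rwa [inv_inv] at this
      calc (b * y * b⁻¹) * r = b * (y * (b⁻¹ * r * b)) * b⁻¹ := by group
        _ = b * ((b⁻¹ * r * b) * y) * b⁻¹ := by rw [hy _ hr']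
        _ = r * (b * y * b⁻¹) := by group
    have hx₂c := hcc x hxc
    have hx₃c := hcc _ hx₂c
    obtain ⟨Q', hc', hmem⟩ := cfg_of_involution c x hxR hxx (hxc _ hx₂R) hne
    refine ⟨Q', ?_, hc'⟩
    have hmulc : ∀ u w : G, (∀ r ∈ R, u * r = r * u) → (∀ r ∈ R, w * r = r * w) →
        ∀ r ∈ R, (u * w) * r = r * (u * w) := by
      intro u w hu hw r hr
      rw [mul_assoc, hw r hr, ← mul_assoc, hu r hr, mul_assoc]
    have hQc : ∀ e ∈ Q', ∀ r ∈ R, e * r = r * e := by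
      intro e he
      rcases (hmem e).1 he with rfl | rfl | rfl | rfl
      · intro r _; simp
      · exact hmulc _ _ hxc hx₂c
      · exact hmulc _ _ hx₂c hx₃c
      · exact hmulc _ _ (hmulc _ _ hxc hx₂c) (hmulc _ _ hx₂c hx₃c)
    constructor
    intro n hn g
    obtain ⟨r, hr, k, hk, rfl⟩ := exists_mul c g
    have hk' : k ∈ Subgroup.normalizer (Q' : Set G) :=
      (Subgroup.zpowers_le.2 hc'.bQ) hk
    have h1 : k * n * k⁻¹ ∈ Q' := (Subgroup.mem_normalizer_iff.1 hk' n).1 hn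
    have h2' : r * k * n * (r * k)⁻¹ = r * (k * n * k⁻¹) * r⁻¹ := by group
    rw [h2', ← hQc _ h1 r hr, mul_assoc, mul_inv_cancel, mul_one]
    exact h1
  · right
    have hII : ∀ x ∈ R, (∀ r ∈ R, x * r = r * x) → x * x = 1 → b * x * b⁻¹ = x := by
      intro x hxR hxc hxx
      by_contra hne
      exact hI ⟨x, hxR, hxc, hxx, hne⟩
    have key : ∀ N : Subgroup G, N.Normal → N ≤ R → N ≠ ⊥ → ∃ x ∈ N, NegOne ρ R x := by
      intro N hN hNR hN1
      obtain ⟨x, hxN, hx1, hxc, hxx⟩ := exists_central_involution h2 N hN hNR hN1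
      have hbx := hII x (hNR hxN) hxc hxx
      have hxb : x * b = b * x := by
        calc x * b = (b * x * b⁻¹) * b := by rw [hbx]
          _ = b * x := by group
      have hcen := central_of c x hxc hxb
      rcases isScal_cases c x (QP1 c x hcen) with h1 | h1
      · exact absurd h1 hx1
      · exact ⟨x, hxN, h1⟩
    have hR1 : R ≠ ⊥ := by
      intro h
      have hQ : Q = ⊥ := by rw [eq_bot_iff, ← h]; exact c.QR
      have := c.Q4
      rw [hQ, Subgroup.card_bot] at this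
      norm_num at this
    obtain ⟨z, -, hz⟩ := key R c.normal le_rfl hR1
    refine ⟨z, hz, fun N hN hNR hN1 => ?_⟩
    obtain ⟨x, hxN, hx⟩ := key N hN hNR hN1
    rw [negOne_unique c z x hz hx]
    exact hxN

end Cfsg.Agent.Lib.Helper9.CUB
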