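import Mathlib
import Cfsg.Agent.Lib.Helper3.CUBDefs
import Cfsg.Agent.Lib.Helper1.Nilpotent
import Cfsg.Agent.Lib.Helper9.CUBFin2Tools
import Cfsg.Agent.Lib.Helper9.CUBFin2ap

/-!
# CUB farm (S4415): unit FIN2b1 (`V` cannot be anisotropic)
-/

set_option autoImplicit false

open scoped commutatorElement

namespace Cfsg.Agent.Lib.Helper9.CUB

open Cfsg.Agent.Lib.Helper3.CUB

universe u v

variable {G : Type u} [Group G] [Finite G] {R : Subgroup G}

/-- the two-element subgroup `{1, z}` of `R`. -/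
def zSub {z : G} (zd : ZData R z) : Subgroup R where
  carrier := {w | w = 1 ∨ w = ⟨z, zd.mem⟩}
  mul_mem' := by
    rintro a b (rfl | rfl) (rfl | rfl)
    · left; simp
    · right; simp
    · right; simp
    · left
      apply Subtype.ext
      exact zd.sq
  one_mem' := Or.inl rfl
  inv_mem' := by
    rintro a (rfl | rfl)
    · left; simp
    · right
      apply Subtype.ext
      exact zd.inv_eq

theorem mem_zSub {z : G} (zd : ZData R z) (w : R) :
    w ∈ zSub zd ↔ (w : G) = 1 ∨ (w : G) = z := by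
  constructor
  · rintro (rfl | rfl)
    · left; rfl
    · right; rfl
  · rintro (h | h)
    · left; exact Subtype.ext h
    · right; exact Subtype.ext h

instance zSub_normal {z : G} (zd : ZData R z) : (zSub zd).Normal := by
  constructor
  rintro n (rfl | rfl) g
  · left; simp
  · right
    apply Subtype.ext
    exact zd.conj_z g

/-- VVex: an `R`-invariant subgroup `N ≤ R` strictly containing `Z` meets `V \ Z`. -/
theorem VVex (h2 : IsPGroup 2 R) {z : G} (zd : ZData R z) (N : Subgroup G) (hNR : N ≤ R)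
    (hNinv : ∀ n ∈ N, ∀ r ∈ R, r * n * r⁻¹ ∈ N) (n₀ : G) (hn₀ : n₀ ∈ N)
    (h1 : n₀ ≠ 1) (hz' : n₀ ≠ z) :
    ∃ x ∈ N, x ∈ VV R z ∧ x ≠ 1 ∧ x ≠ z := by
  haveI : Fact (Nat.Prime 2) := ⟨Nat.prime_two⟩
  let π := QuotientGroup.mk' (zSub zd)
  have hπ : Function.Surjective π := QuotientGroup.mk'_surjective _
  have hker : ∀ w : R, π w = 1 ↔ (w : G) = 1 ∨ (w : G) = z := by
    intro w
    rw [← mem_zSub zd w]
    exact QuotientGroup.eq_one_iff w
  have hN' : (N.subgroupOf R).Normal := by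
    constructor
    intro n hn g
    rw [Subgroup.mem_subgroupOf] at hn ⊢
    exact hNinv _ hn g g.2
  have hNq : ((N.subgroupOf R).map π).Normal := hN'.map π hπ
  have hNq1 : (N.subgroupOf R).map π ≠ ⊥ := by
    intro h
    have hmem : π ⟨n₀, hNR hn₀⟩ ∈ (N.subgroupOf R).map π :=
      Subgroup.mem_map_of_mem π (Subgroup.mem_subgroupOf.2 hn₀)
    rw [h, Subgroup.mem_bot, hker] at hmem
    rcases hmem with h' | h'
    · exact h1 h'
    · exact hz' h'
  have hpq : IsPGroup 2 (R ⧸ zSub zd) := h2.to_quotient (zSub zd)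
  haveI : Group.IsNilpotent (R ⧸ zSub zd) := hpq.isNilpotent
  have hM := Cfsg.Agent.Lib.Helper1.normal_inf_center_ne_bot ((N.subgroupOf R).map π) hNq1
  have hMp : IsPGroup 2 ↥((N.subgroupOf R).map π ⊓ Subgroup.center (R ⧸ zSub zd)) :=
    hpq.to_subgroup _
  obtain ⟨k, hk⟩ := hMp.exists_card_eq
  have hk0 : k ≠ 0 := by
    intro h0
    rw [h0, pow_zero] at hk
    exact hM (Subgroup.card_eq_one.1 hk)
  have hdvd : 2 ∣ Nat.card ↥((N.subgroupOf R).map π ⊓ Subgroup.center (R ⧸ zSub zd)) := by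
    rw [hk]; exact dvd_pow_self 2 hk0
  obtain ⟨yb, hyb⟩ := exists_prime_orderOf_dvd_card' 2 hdvd
  have hybM : (yb : R ⧸ zSub zd) ∈ (N.subgroupOf R).map π ⊓ Subgroup.center (R ⧸ zSub zd) :=
    yb.2
  rw [Subgroup.mem_inf] at hybM
  obtain ⟨hybN, hybZ⟩ := hybM
  obtain ⟨y, hyN, hy⟩ := Subgroup.mem_map.1 hybN
  have hyb1 : (yb : R ⧸ zSub zd) ≠ 1 := by
    intro h
    have : yb = 1 := Subtype.ext h
    rw [this, orderOf_one] at hyb
    norm_num at hyb
  have hyb2 : (yb : R ⧸ zSub zd) ^ 2 = 1 := by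
    have h3 : yb ^ 2 = 1 := by rw [← hyb]; exact pow_orderOf_eq_one yb
    have := congrArg Subtype.val h3
    simpa using this
  refine ⟨(y : G), Subgroup.mem_subgroupOf.1 hyN, ⟨y.2, ?_, ?_⟩, ?_, ?_⟩
  · intro r hr
    have hc : π ⁅y, ⟨r, hr⟩⁆ = 1 := by
      rw [map_commutatorElement, hy, commutatorElement_def]
      rw [Subgroup.mem_center_iff] at hybZ
      rw [← hybZ (π ⟨r, hr⟩)]
      group
    have := (hker _).1 hc
    simpa [commutatorElement_def] using this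
  · have hc : π (y ^ 2) = 1 := by rw [map_pow, hy, hyb2]
    have := (hker _).1 hc
    simpa using this
  · intro h
    apply hyb1
    rw [← hy, hker]
    exact Or.inl h
  · intro h
    apply hyb1
    rw [← hy, hker]
    exact Or.inr h

section Main

open Cfsg.Agent.Lib.Helper5.CUB (P5)

variable {E : Type v} [AddCommGroup E] [Module (ZMod 3) E]
  [Finite E] {ρ : Representation (ZMod 3) G E} {b : G} {Q : Subgroup G}

theorem sq_mul_VV {z : G} (zd : ZData R z) {u w : G} (hu : u ∈ VV R z) (hw : w ∈ VV R z) :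
    (u * w) ^ 2 = ⁅w, u⁆ * u ^ 2 * w ^ 2 := by
  have h1 : (u * w) ^ 2 = (u * ⁅w, u⁆ * u⁻¹) * u ^ 2 * w ^ 2 := by
    simp only [commutatorElement_def, pow_two]; group
  rw [h1, zd.inZ_conj (hw.2.1 u hu.1) u]

theorem comm_mul_VV {z : G} (zd : ZData R z) {u w t : G} (hw : w ∈ VV R z) (ht : t ∈ R) :
    ⁅u * w, t⁆ = ⁅w, t⁆ * ⁅u, t⁆ := by
  have h1 : ⁅u * w, t⁆ = (u * ⁅w, t⁆ * u⁻¹) * ⁅u, t⁆ := by
    simp only [commutatorElement_def]; group
  rw [h1, zd.inZ_conj (hw.2.1 t ht) u]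

/-- FIN2-b1: `V` cannot be anisotropic (else `R = Q₈`, which has no four-group). -/
theorem FIN2b1_aux (c : Cfg ρ R b Q) (h2 : IsPGroup 2 R) (z : G) (hz : NegOne ρ R z)
    (hmin : ∀ N : Subgroup G, N.Normal → N ≤ R → N ≠ ⊥ → z ∈ N)
    (han : ∀ x ∈ VV R z, x ≠ 1 → x ≠ z → x ^ 2 = z) : False := by
  have zd := zdata c z hz
  have hn := c.normal
  -- an involution `q ∈ Q` outside `Z`
  obtain ⟨q, hqQ, hq1, hqz⟩ : ∃ q ∈ Q, q ≠ 1 ∧ q ≠ z := by
    obtain ⟨q₁, q₂, q₃, e₁, e₂, e₃, fr⟩ := P5 c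
    have tb := tab_of_frame c fr
    by_cases h : q₁ = z
    · exact ⟨q₂, fr.mem₂, tb.n2, fun h' => tb.d12 (h.trans h'.symm)⟩
    · exact ⟨q₁, fr.mem₁, tb.n1, h⟩
  have hqR : q ∈ R := c.QR hqQ
  have hqq : q * q = 1 := by rw [← pow_two]; exact c.Q2 q hqQ
  -- an element `x ∈ V \ Z`
  obtain ⟨x, -, hxV, hx1, hxz⟩ :=
    VVex h2 zd R le_rfl (fun n hn' r _ => hn.conj_mem n hn' r) q hqR hq1 hqz
  have hxZ : ¬ InZ z x := fun h => h.elim hx1 hxz
  have sqz : ∀ u ∈ VV R z, ¬ InZ z u → u ^ 2 = z := fun u hu hZ =>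
    han u hu (fun h => hZ (Or.inl h)) (fun h => hZ (Or.inr h))
  have hxx : x ^ 2 = z := sqz x hxV hxZ
  have anti : ∀ u ∈ VV R z, ∀ w ∈ VV R z, ¬ InZ z u → ¬ InZ z w → ¬ InZ z (u * w) →
      ⁅w, u⁆ = z := by
    intro u hu w hw hu' hw' huw
    have h1 := sq_mul_VV zd hu hw
    rw [sqz _ (zd.VV_mul hu hw) huw, sqz u hu hu', sqz w hw hw', mul_assoc, zd.sq,
      mul_one] at h1
    exact h1.symm
  obtain ⟨x₂, hx₂def⟩ : ∃ x₂, x₂ = b * x * b⁻¹ := ⟨_, rfl⟩
  have hx₂V : x₂ ∈ VV R z := by rw [hx₂def]; exact zd.VV_conj hn hxV b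
  have hxinv : x⁻¹ = z * x := by
    apply inv_eq_of_mul_eq_one_right
    calc x * (z * x) = z * (x * x) := by rw [← mul_assoc, ← zd.cen x, mul_assoc]
      _ = 1 := by rw [← pow_two, hxx, zd.sq]
  have hx₂Z : ¬ InZ z x₂ := by
    rintro (h | h)
    · apply hx1
      have : x = b⁻¹ * x₂ * b := by rw [hx₂def]; group
      rw [this, h]; group
    · apply hxz
      have : x = b⁻¹ * x₂ * b := by rw [hx₂def]; group
      rw [this, h]
      have := zd.conj_z b⁻¹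
      rwa [inv_inv] at this
  have hyZ : ¬ InZ z (x * x₂) := by
    rintro (h | h)
    · -- `x₂ = x⁻¹ = z x`
      have h' : b * x * b⁻¹ = z * x := by
        rw [← hx₂def, ← hxinv]
        exact (inv_eq_of_mul_eq_one_right h).symm
      exact hxZ (fpf c z hz hxV (Or.inr h'))
    · have h' : b * x * b⁻¹ = x := by
        rw [← hx₂def]
        calc x₂ = x⁻¹ * (x * x₂) := by group
          _ = x⁻¹ * z := by rw [h]
          _ = z * x * z := by rw [hxinv]
          _ = x := by rw [mul_assoc, ← zd.cen x, ← mul_assoc, zd.sq, one_mul]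
      exact hxZ (fpf c z hz hxV (Or.inl h'))
  have hyV : x * x₂ ∈ VV R z := zd.VV_mul hxV hx₂V
  have hanti : ⁅x₂, x⁆ = z := anti x hxV x₂ hx₂V hxZ hx₂Z hyZ
  have hz1 : z ≠ 1 := zd.ne
  -- `x` and `x₂` do not commute
  have hnc : x₂ * x ≠ x * x₂ := by
    intro h
    apply hz1
    rw [← hanti, commutatorElement_def, h]; group
  -- (D) `V = V₀`
  have hD : ∀ w ∈ VV R z, InZ z w ∨ InZ z (w * x) ∨ InZ z (w * x₂) ∨ InZ z (w * (x * x₂)) := by
    intro w hw
    by_contra hcon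
    have n0 : ¬ InZ z w := fun h => hcon (Or.inl h)
    have n1 : ¬ InZ z (w * x) := fun h => hcon (Or.inr (Or.inl h))
    have n2 : ¬ InZ z (w * x₂) := fun h => hcon (Or.inr (Or.inr (Or.inl h)))
    have n3 : ¬ InZ z (w * (x * x₂)) := fun h => hcon (Or.inr (Or.inr (Or.inr h)))
    have a1 : ⁅x, w⁆ = z := anti w hw x hxV n0 hxZ n1
    have a2 : ⁅x₂, w⁆ = z := anti w hw x₂ hx₂V n0 hx₂Z n2
    have a3 : ⁅x * x₂, w⁆ = z := anti w hw (x * x₂) hyV n0 hyZ n3
    rw [comm_mul_VV zd hx₂V hw.1, a1, a2, zd.sq] at a3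
    exact hz1 a3.symm
  -- conjugation formulas
  have A1 : x₂ * x * x₂⁻¹ = z * x := by
    rw [← hanti, commutatorElement_def]; group
  have A2 : x * x₂ * x⁻¹ = z * x₂ := by
    have : ⁅x, x₂⁆ = z := by rw [← commutatorElement_inv, hanti, zd.inv_eq]
    rw [← this, commutatorElement_def]; group
  have A3 : (x * x₂) * x * (x * x₂)⁻¹ = z * x := by
    have : (x * x₂) * x * (x * x₂)⁻¹ = x * (x₂ * x * x₂⁻¹) * x⁻¹ := by group
    rw [this, A1]
    calc x * (z * x) * x⁻¹ = (x * z * x⁻¹) * x := by group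
      _ = z * x := by rw [zd.conj_z]
  have A4 : (x * x₂) * x₂ * (x * x₂)⁻¹ = z * x₂ := by
    have : (x * x₂) * x₂ * (x * x₂)⁻¹ = x * x₂ * x⁻¹ := by group
    rw [this, A2]
  -- (E) `q = u c'` with `c'` centralizing `x, x₂`
  obtain ⟨u, hu, hu1, hu2⟩ : ∃ u, (u = 1 ∨ u = x₂ ∨ u = x ∨ u = x * x₂) ∧
      u * x * u⁻¹ = q * x * q⁻¹ ∧ u * x₂ * u⁻¹ = q * x₂ * q⁻¹ := by
    rcases zd.conj_eq hxV hqR with h1 | h1 <;> rcases zd.conj_eq hx₂V hqR with h2' | h2'
    · exact ⟨1, Or.inl rfl, by rw [h1]; group, by rw [h2']; group⟩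
    · exact ⟨x, Or.inr (Or.inr (Or.inl rfl)), by rw [h1]; group, by rw [h2', A2]⟩
    · exact ⟨x₂, Or.inr (Or.inl rfl), by rw [h1, A1], by rw [h2']; group⟩
    · exact ⟨x * x₂, Or.inr (Or.inr (Or.inr rfl)), by rw [h1, A3], by rw [h2', A4]⟩
  have huR : u ∈ R := by
    rcases hu with rfl | rfl | rfl | rfl
    · exact R.one_mem
    · exact hx₂V.1
    · exact hxV.1
    · exact hyV.1
  have hc'R : u⁻¹ * q ∈ R := R.mul_mem (R.inv_mem huR) hqR
  have hc'x : (u⁻¹ * q) * x = x * (u⁻¹ * q) := by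
    have : (u⁻¹ * q) * x = u⁻¹ * (q * x * q⁻¹) * q := by group
    rw [this, ← hu1]; group
  have hc'x₂ : (u⁻¹ * q) * x₂ = x₂ * (u⁻¹ * q) := by
    have : (u⁻¹ * q) * x₂ = u⁻¹ * (q * x₂ * q⁻¹) * q := by group
    rw [this, ← hu2]; group
  -- (F) the centralizer of `x, x₂` in `R` is `Z`
  have hF : ∀ c' ∈ R, c' * x = x * c' → c' * x₂ = x₂ * c' → InZ z c' := by
    intro c' hc'R hcx hcx₂
    by_contra hcZ
    let C : Subgroup G := R ⊓ Subgroup.centralizer {x, x₂}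
    have hmemC : ∀ g, g ∈ C ↔ g ∈ R ∧ x * g = g * x ∧ x₂ * g = g * x₂ := by
      intro g
      simp only [C, Subgroup.mem_inf, Subgroup.mem_centralizer_iff, Set.mem_insert_iff,
        Set.mem_singleton_iff, forall_eq_or_imp, forall_eq]
    have hCinv : ∀ n ∈ C, ∀ r ∈ R, r * n * r⁻¹ ∈ C := by
      intro n hnC r hr
      obtain ⟨hnR, hnx, hnx₂⟩ := (hmemC n).1 hnC
      have hri : r⁻¹ ∈ R := R.inv_mem hr
      have key : ∀ t ∈ VV R z, t * n = n * t → t * (r * n * r⁻¹) = (r * n * r⁻¹) * t := by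
        intro t ht htn
        have hε : InZ z (r⁻¹ * t * r⁻¹⁻¹ * t⁻¹) := by
          rcases zd.conj_eq ht hri with h | h
          · left; rw [h, mul_inv_cancel]
          · right; rw [h, mul_assoc, mul_inv_cancel, mul_one]
        -- `r⁻¹ t r = ε t`
        obtain ⟨ε, hεZ, hεt⟩ : ∃ ε, InZ z ε ∧ r⁻¹ * t * r = ε * t :=
          ⟨r⁻¹ * t * r⁻¹⁻¹ * t⁻¹, hε, by group⟩
        have hεc := zd.inZ_comm hεZ
        have h1 : t = r * (ε * t) * r⁻¹ := by rw [← hεt]; group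
        calc t * (r * n * r⁻¹) = r * ((r⁻¹ * t * r) * n) * r⁻¹ := by group
          _ = r * (ε * (t * n)) * r⁻¹ := by rw [hεt]; group
          _ = r * (ε * (n * t)) * r⁻¹ := by rw [htn]
          _ = r * (n * (ε * t)) * r⁻¹ := by
              have h5 : ε * (n * t) = n * (ε * t) := by rw [← mul_assoc, hεc n, mul_assoc]
              rw [h5]
          _ = (r * n * r⁻¹) * (r * (ε * t) * r⁻¹) := by group
          _ = (r * n * r⁻¹) * t := by rw [← h1]
      exact (hmemC _).2 ⟨hn.conj_mem n hnR r, key x hxV hnx, key x₂ hx₂V hnx₂⟩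
    have hc'C : c' ∈ C := (hmemC c').2 ⟨hc'R, hcx.symm, hcx₂.symm⟩
    obtain ⟨y', hy'C, hy'V, hy'1, hy'z⟩ := VVex h2 zd C inf_le_left hCinv c' hc'C
      (fun h => hcZ (Or.inl h)) (fun h => hcZ (Or.inr h))
    obtain ⟨-, hy'x, hy'x₂⟩ := (hmemC y').1 hy'C
    -- centralizer memberships
    have cen_x : ∀ ε, InZ z ε → ∀ t, y' * t = ε → x * t = t * x := by
      intro ε hε t ht
      have ht' : t = y'⁻¹ * ε := by rw [← ht]; group
      have hεx := zd.inZ_comm hε x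
      have hy'i : x * y'⁻¹ = y'⁻¹ * x := by
        calc x * y'⁻¹ = y'⁻¹ * (y' * x) * y'⁻¹ := by group
          _ = y'⁻¹ * (x * y') * y'⁻¹ := by rw [hy'x]
          _ = y'⁻¹ * x := by group
      rw [ht', ← mul_assoc, hy'i, mul_assoc, ← hεx, mul_assoc]
    have cen_x₂ : ∀ ε, InZ z ε → ∀ t, y' * t = ε → x₂ * t = t * x₂ := by
      intro ε hε t ht
      have ht' : t = y'⁻¹ * ε := by rw [← ht]; group
      have hεx := zd.inZ_comm hε x₂
      have hy'i : x₂ * y'⁻¹ = y'⁻¹ * x₂ := by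
        calc x₂ * y'⁻¹ = y'⁻¹ * (y' * x₂) * y'⁻¹ := by group
          _ = y'⁻¹ * (x₂ * y') * y'⁻¹ := by rw [hy'x₂]
          _ = y'⁻¹ * x₂ := by group
      rw [ht', ← mul_assoc, hy'i, mul_assoc, ← hεx, mul_assoc]
    rcases hD y' hy'V with h | h | h | h
    · exact h.elim hy'1 hy'z
    · -- `x` commutes with `x₂`
      exact hnc (cen_x₂ _ h x rfl)
    · exact hnc (cen_x _ h x₂ rfl).symm
    · have := cen_x _ h (x * x₂) rfl
      apply hnc
      have h3 : x * (x * x₂) = x * (x₂ * x) := by rw [this, mul_assoc]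
      exact (mul_left_cancel h3).symm
  have hc'Z : InZ z (u⁻¹ * q) := hF _ hc'R hc'x hc'x₂
  -- (G) `q = u c'` is not an involution
  have hq : q = u * (u⁻¹ * q) := by group
  have hcc : (u⁻¹ * q) * (u⁻¹ * q) = 1 := by
    rcases hc'Z with h | h
    · rw [h, one_mul]
    · rw [h]; exact zd.sq
  have hqq' : q * q = u * u := by
    nth_rewrite 1 [hq]
    nth_rewrite 2 [hq]
    have hcomm := zd.inZ_comm hc'Z u
    calc u * (u⁻¹ * q) * (u * (u⁻¹ * q)) = u * ((u⁻¹ * q) * u) * (u⁻¹ * q) := by group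
      _ = u * (u * (u⁻¹ * q)) * (u⁻¹ * q) := by rw [hcomm]
      _ = u * u * ((u⁻¹ * q) * (u⁻¹ * q)) := by group
      _ = u * u := by rw [hcc, mul_one]
  rw [hqq] at hqq'
  rcases hu with rfl | rfl | rfl | rfl
  · -- `u = 1`: `q ∈ Z`
    rw [inv_one, one_mul] at hc'Z
    exact hc'Z.elim hq1 hqz
  · apply hz1
    rw [← sqz _ hx₂V hx₂Z, pow_two]; exact hqq'.symm
  · apply hz1
    rw [← hxx, pow_two]; exact hqq'.symm
  · apply hz1
    rw [← sqz _ hyV hyZ, pow_two]; exact hqq'.symm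

end Main

/-- FIN2-b1, with the binder order of the blueprint. -/
theorem FIN2b1 {G : Type u} [Group G] [Finite G] {E : Type v} [AddCommGroup E]
    [Module (ZMod 3) E] [Finite E] {ρ : Representation (ZMod 3) G E} {R : Subgroup G} {b : G}
    {Q : Subgroup G} (c : Cfg ρ R b Q) (h2 : IsPGroup 2 R) (z : G) (hz : NegOne ρ R z)
    (hmin : ∀ N : Subgroup G, N.Normal → N ≤ R → N ≠ ⊥ → z ∈ N)
    (han : ∀ x ∈ VV R z, x ≠ 1 → x ≠ z → x ^ 2 = z) : False :=
  FIN2b1_aux c h2 z hz hmin han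

end Cfsg.Agent.Lib.Helper9.CUB
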