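import Mathlib

/-!
# CUB farm (S4415), unit FOUR

`b` of order `3` acting on an `𝔽₃`-space with `rank (b-1) ≤ 2`, `rank (b-1)^2 ≤ 1`; a four-group
`{1,e1,e2,e3}` cyclically permuted by `b`.  Then the three nontrivial weight spaces are lines
`⟨l1⟩, ⟨l2⟩, ⟨l3⟩` permuted by `b`, `E = C_E(Q) ⊕ ⟨l1⟩ ⊕ ⟨l2⟩ ⊕ ⟨l3⟩`, and `b` is trivial on
`C_E(Q)`.
-/

namespace Cfsg.Agent.Lib.Helper9.CUB

variable {S E : Type*} [Group S] [AddCommGroup E] [Module (ZMod 3) E]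

theorem add_add_self_eq_zero (v : E) : v + v + v = 0 := by
  have h : (3 : ZMod 3) = 0 := by decide
  calc v + v + v = (3 : ZMod 3) • v := by
        rw [show (3 : ZMod 3) = 1 + 1 + 1 by norm_num, add_smul, add_smul, one_smul]
    _ = 0 := by rw [h, zero_smul]

theorem eq_zero_of_add_self (v : E) (h : v + v = 0) : v = 0 := by
  have := add_add_self_eq_zero v
  rw [h, zero_add] at this; exact this

theorem rho_mul_apply (ρ : Representation (ZMod 3) S E) (g h : S) (v : E) :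
    ρ (g * h) v = ρ g (ρ h v) := by
  rw [map_mul]; rfl

theorem rho_one_apply (ρ : Representation (ZMod 3) S E) (v : E) : ρ 1 v = v := by
  rw [map_one]; rfl

/-- The nilpotent part `ρ b - 1`. -/
def nn (ρ : Representation (ZMod 3) S E) (b : S) : E →ₗ[ZMod 3] E := ρ b - 1

@[simp] theorem nn_apply (ρ : Representation (ZMod 3) S E) (b : S) (v : E) :
    nn ρ b v = ρ b v - v := by simp [nn]

theorem nn_nn_apply (ρ : Representation (ZMod 3) S E) (b : S) (v : E) :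
    nn ρ b (nn ρ b v) = v + ρ b v + ρ b (ρ b v) := by
  simp only [nn_apply, map_sub]
  have := add_add_self_eq_zero (ρ b v)
  have h2 : ρ b (ρ b v) - ρ b v - (ρ b v - v)
      = v + ρ b v + ρ b (ρ b v) - (ρ b v + ρ b v + ρ b v) := by abel
  rw [h2, this, sub_zero]

/-- A subspace `X` on which `1 + b + b^2` is injective is at most a line, when the range of
`(b-1)^2` is inside a line. -/
theorem line_of_cyclic (ρ : Representation (ZMod 3) S E) (b : S) (w0 : E)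
    (hn2 : ∀ v, ∃ c : ZMod 3, nn ρ b (nn ρ b v) = c • w0)
    (X : Submodule (ZMod 3) E)
    (hind : ∀ x ∈ X, x + ρ b x + ρ b (ρ b x) = 0 → x = 0)
    (x : E) (hx : x ∈ X) (hx0 : x ≠ 0) (y : E) (hy : y ∈ X) : ∃ c : ZMod 3, y = c • x := by
  obtain ⟨c1, h1⟩ := hn2 x
  obtain ⟨c2, h2⟩ := hn2 y
  have hc1 : c1 ≠ 0 := by
    intro h0
    rw [h0, zero_smul, nn_nn_apply] at h1
    exact hx0 (hind x hx h1)
  refine ⟨c2 * c1⁻¹, ?_⟩
  have hz : y - (c2 * c1⁻¹) • x ∈ X := X.sub_mem hy (X.smul_mem _ hx)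
  have h3 : nn ρ b (nn ρ b (y - (c2 * c1⁻¹) • x)) = 0 := by
    rw [map_sub, map_sub, map_smul, map_smul, h1, h2, smul_smul, mul_assoc,
      inv_mul_cancel₀ hc1, mul_one, sub_self]
  rw [nn_nn_apply] at h3
  exact sub_eq_zero.1 (hind _ hz h3)

/-- The data of a four-group `{1,e1,e2,e3}` cyclically permuted by `b` of order `3`. -/
structure FourData (ρ : Representation (ZMod 3) S E) (b e1 e2 e3 : S) : Prop where
  b3 : b ^ 3 = 1
  e1sq : e1 * e1 = 1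
  e2sq : e2 * e2 = 1
  e12 : e1 * e2 = e3
  e21 : e2 * e1 = e3
  c1 : b * e1 * b⁻¹ = e2
  c2 : b * e2 * b⁻¹ = e3
  ne : ∃ v, ρ e1 v ≠ v

namespace FourData

variable {ρ : Representation (ZMod 3) S E} {b e1 e2 e3 : S}

theorem a11 (h : FourData ρ b e1 e2 e3) (v : E) : ρ e1 (ρ e1 v) = v := by
  rw [← rho_mul_apply, h.e1sq, rho_one_apply]

theorem a22 (h : FourData ρ b e1 e2 e3) (v : E) : ρ e2 (ρ e2 v) = v := by
  rw [← rho_mul_apply, h.e2sq, rho_one_apply]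

theorem a12 (h : FourData ρ b e1 e2 e3) (v : E) : ρ e1 (ρ e2 v) = ρ e3 v := by
  rw [← rho_mul_apply, h.e12]

theorem a21 (h : FourData ρ b e1 e2 e3) (v : E) : ρ e2 (ρ e1 v) = ρ e3 v := by
  rw [← rho_mul_apply, h.e21]

theorem a13 (h : FourData ρ b e1 e2 e3) (v : E) : ρ e1 (ρ e3 v) = ρ e2 v := by
  rw [← h.a12, h.a11]

theorem a23 (h : FourData ρ b e1 e2 e3) (v : E) : ρ e2 (ρ e3 v) = ρ e1 v := by
  rw [← h.a21, h.a22]

theorem a31 (h : FourData ρ b e1 e2 e3) (v : E) : ρ e3 (ρ e1 v) = ρ e2 v := by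
  rw [← h.a21, h.a11]

theorem a32 (h : FourData ρ b e1 e2 e3) (v : E) : ρ e3 (ρ e2 v) = ρ e1 v := by
  rw [← h.a12, h.a22]

theorem a33 (h : FourData ρ b e1 e2 e3) (v : E) : ρ e3 (ρ e3 v) = v := by
  rw [← h.a12 (ρ e3 v), h.a23, h.a11]

theorem bbb (h : FourData ρ b e1 e2 e3) (v : E) : ρ b (ρ b (ρ b v)) = v := by
  rw [← rho_mul_apply, ← rho_mul_apply, ← pow_three', h.b3, rho_one_apply]

theorem b1 (h : FourData ρ b e1 e2 e3) (v : E) : ρ b (ρ e1 v) = ρ e2 (ρ b v) := by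
  rw [← rho_mul_apply, ← rho_mul_apply]
  congr 2
  rw [← h.c1]; group

theorem b2 (h : FourData ρ b e1 e2 e3) (v : E) : ρ b (ρ e2 v) = ρ e3 (ρ b v) := by
  rw [← rho_mul_apply, ← rho_mul_apply]
  congr 2
  rw [← h.c2]; group

theorem c3 (h : FourData ρ b e1 e2 e3) : b * e3 * b⁻¹ = e1 := by
  have : b * e3 * b⁻¹ = (b * e2 * b⁻¹) * (b * e1 * b⁻¹) := by rw [← h.e21]; group
  rw [this, h.c1, h.c2, ← h.e21]
  have h12 : e2 * e1 = e1 * e2 := by rw [h.e12, h.e21]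
  rw [h12, mul_assoc, h.e2sq, mul_one]

theorem b3' (h : FourData ρ b e1 e2 e3) (v : E) : ρ b (ρ e3 v) = ρ e1 (ρ b v) := by
  rw [← rho_mul_apply, ← rho_mul_apply]
  congr 2
  rw [← h.c3]; group

end FourData

/-- `C_E(Q)`: the vectors fixed by `e1` and `e2`. -/
def L0 (ρ : Representation (ZMod 3) S E) (e1 e2 : S) : Submodule (ZMod 3) E where
  carrier := {v | ρ e1 v = v ∧ ρ e2 v = v}
  add_mem' := by
    rintro x y ⟨hx1, hx2⟩ ⟨hy1, hy2⟩
    exact ⟨by rw [map_add, hx1, hy1], by rw [map_add, hx2, hy2]⟩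
  zero_mem' := ⟨by simp, by simp⟩
  smul_mem' := by
    rintro c x ⟨hx1, hx2⟩
    exact ⟨by rw [map_smul, hx1], by rw [map_smul, hx2]⟩

/-- weight space `(+,-)`. -/
def L1 (ρ : Representation (ZMod 3) S E) (e1 e2 : S) : Submodule (ZMod 3) E where
  carrier := {v | ρ e1 v = v ∧ ρ e2 v = -v}
  add_mem' := by
    rintro x y ⟨hx1, hx2⟩ ⟨hy1, hy2⟩
    exact ⟨by rw [map_add, hx1, hy1], by rw [map_add, hx2, hy2, neg_add]⟩
  zero_mem' := ⟨by simp, by simp⟩
  smul_mem' := by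
    rintro c x ⟨hx1, hx2⟩
    exact ⟨by rw [map_smul, hx1], by rw [map_smul, hx2, smul_neg]⟩

/-- weight space `(-,+)`. -/
def L2 (ρ : Representation (ZMod 3) S E) (e1 e2 : S) : Submodule (ZMod 3) E where
  carrier := {v | ρ e1 v = -v ∧ ρ e2 v = v}
  add_mem' := by
    rintro x y ⟨hx1, hx2⟩ ⟨hy1, hy2⟩
    exact ⟨by rw [map_add, hx1, hy1, neg_add], by rw [map_add, hx2, hy2]⟩
  zero_mem' := ⟨by simp, by simp⟩
  smul_mem' := by
    rintro c x ⟨hx1, hx2⟩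
    exact ⟨by rw [map_smul, hx1, smul_neg], by rw [map_smul, hx2]⟩

/-- weight space `(-,-)`. -/
def L3 (ρ : Representation (ZMod 3) S E) (e1 e2 : S) : Submodule (ZMod 3) E where
  carrier := {v | ρ e1 v = -v ∧ ρ e2 v = -v}
  add_mem' := by
    rintro x y ⟨hx1, hx2⟩ ⟨hy1, hy2⟩
    exact ⟨by rw [map_add, hx1, hy1, neg_add], by rw [map_add, hx2, hy2, neg_add]⟩
  zero_mem' := ⟨by simp, by simp⟩
  smul_mem' := by
    rintro c x ⟨hx1, hx2⟩
    exact ⟨by rw [map_smul, hx1, smul_neg], by rw [map_smul, hx2, smul_neg]⟩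

theorem mem_L0 {ρ : Representation (ZMod 3) S E} {e1 e2 : S} {v : E} :
    v ∈ L0 ρ e1 e2 ↔ ρ e1 v = v ∧ ρ e2 v = v := Iff.rfl

theorem mem_L1 {ρ : Representation (ZMod 3) S E} {e1 e2 : S} {v : E} :
    v ∈ L1 ρ e1 e2 ↔ ρ e1 v = v ∧ ρ e2 v = -v := Iff.rfl

theorem mem_L2 {ρ : Representation (ZMod 3) S E} {e1 e2 : S} {v : E} :
    v ∈ L2 ρ e1 e2 ↔ ρ e1 v = -v ∧ ρ e2 v = v := Iff.rfl

theorem mem_L3 {ρ : Representation (ZMod 3) S E} {e1 e2 : S} {v : E} :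
    v ∈ L3 ρ e1 e2 ↔ ρ e1 v = -v ∧ ρ e2 v = -v := Iff.rfl

namespace FourData

variable {ρ : Representation (ZMod 3) S E} {b e1 e2 e3 : S}

theorem e3_L0 (h : FourData ρ b e1 e2 e3) {v : E} (hv : v ∈ L0 ρ e1 e2) : ρ e3 v = v := by
  rw [← h.a12, hv.2, hv.1]

theorem e3_L1 (h : FourData ρ b e1 e2 e3) {v : E} (hv : v ∈ L1 ρ e1 e2) : ρ e3 v = -v := by
  rw [← h.a12, hv.2, map_neg, hv.1]

theorem e3_L2 (h : FourData ρ b e1 e2 e3) {v : E} (hv : v ∈ L2 ρ e1 e2) : ρ e3 v = -v := by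
  rw [← h.a12, hv.2, hv.1]

theorem e3_L3 (h : FourData ρ b e1 e2 e3) {v : E} (hv : v ∈ L3 ρ e1 e2) : ρ e3 v = v := by
  rw [← h.a12, hv.2, map_neg, hv.1, neg_neg]

theorem b_L0 (h : FourData ρ b e1 e2 e3) {v : E} (hv : v ∈ L0 ρ e1 e2) :
    ρ b v ∈ L0 ρ e1 e2 :=
  ⟨by rw [← h.b3', h.e3_L0 hv], by rw [← h.b1, hv.1]⟩

theorem b_L1 (h : FourData ρ b e1 e2 e3) {v : E} (hv : v ∈ L1 ρ e1 e2) :
    ρ b v ∈ L2 ρ e1 e2 :=
  ⟨by rw [← h.b3', h.e3_L1 hv, map_neg], by rw [← h.b1, hv.1]⟩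

theorem b_L2 (h : FourData ρ b e1 e2 e3) {v : E} (hv : v ∈ L2 ρ e1 e2) :
    ρ b v ∈ L3 ρ e1 e2 :=
  ⟨by rw [← h.b3', h.e3_L2 hv, map_neg], by rw [← h.b1, hv.1, map_neg]⟩

theorem b_L3 (h : FourData ρ b e1 e2 e3) {v : E} (hv : v ∈ L3 ρ e1 e2) :
    ρ b v ∈ L1 ρ e1 e2 :=
  ⟨by rw [← h.b3', h.e3_L3 hv], by rw [← h.b1, hv.1, map_neg]⟩

theorem b_injective (h : FourData ρ b e1 e2 e3) {v : E} (hv : ρ b v = 0) : v = 0 := by
  rw [← h.bbb v, hv, map_zero, map_zero]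

/-- The four projections. -/
theorem p0_mem (h : FourData ρ b e1 e2 e3) (v : E) :
    v + ρ e1 v + ρ e2 v + ρ e3 v ∈ L0 ρ e1 e2 := by
  constructor
  · simp only [map_add, h.a11, h.a12, h.a13]; abel
  · simp only [map_add, h.a21, h.a22, h.a23]; abel

theorem p1_mem (h : FourData ρ b e1 e2 e3) (v : E) :
    v + ρ e1 v - ρ e2 v - ρ e3 v ∈ L1 ρ e1 e2 := by
  constructor
  · simp only [map_add, map_sub, h.a11, h.a12, h.a13]; abel
  · simp only [map_add, map_sub, h.a21, h.a22, h.a23]; abel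

theorem p2_mem (h : FourData ρ b e1 e2 e3) (v : E) :
    v - ρ e1 v + ρ e2 v - ρ e3 v ∈ L2 ρ e1 e2 := by
  constructor
  · simp only [map_add, map_sub, h.a11, h.a12, h.a13]; abel
  · simp only [map_add, map_sub, h.a21, h.a22, h.a23]; abel

theorem p3_mem (h : FourData ρ b e1 e2 e3) (v : E) :
    v - ρ e1 v - ρ e2 v + ρ e3 v ∈ L3 ρ e1 e2 := by
  constructor
  · simp only [map_add, map_sub, h.a11, h.a12, h.a13]; abel
  · simp only [map_add, map_sub, h.a21, h.a22, h.a23]; abel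

theorem sum_proj (v a b' c : E) :
    v = (v + a + b' + c) + (v + a - b' - c) + (v - a + b' - c) + (v - a - b' + c) := by
  have := add_add_self_eq_zero v
  linear_combination (norm := abel) (-1 : ℤ) • this

/-- Independence of the four weight spaces. -/
theorem indep (h : FourData ρ b e1 e2 e3) {u0 u1 u2 u3 : E} (h0 : u0 ∈ L0 ρ e1 e2)
    (h1 : u1 ∈ L1 ρ e1 e2) (h2 : u2 ∈ L2 ρ e1 e2) (h3 : u3 ∈ L3 ρ e1 e2)
    (hs : u0 + u1 + u2 + u3 = 0) : u0 = 0 ∧ u1 = 0 ∧ u2 = 0 ∧ u3 = 0 := by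
  have k1 : u0 + u1 - u2 - u3 = 0 := by
    have := congrArg (ρ e1) hs
    simp only [map_add, map_zero, h0.1, h1.1, h2.1, h3.1] at this
    linear_combination (norm := abel) this
  have k2 : u0 - u1 + u2 - u3 = 0 := by
    have := congrArg (ρ e2) hs
    simp only [map_add, map_zero, h0.2, h1.2, h2.2, h3.2] at this
    linear_combination (norm := abel) this
  have k3 : u0 - u1 - u2 + u3 = 0 := by
    have := congrArg (ρ e3) hs
    simp only [map_add, map_zero, h.e3_L0 h0, h.e3_L1 h1, h.e3_L2 h2, h.e3_L3 h3] at this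
    linear_combination (norm := abel) this
  have t0 := add_add_self_eq_zero u0
  have t1 := add_add_self_eq_zero u1
  have t2 := add_add_self_eq_zero u2
  have t3 := add_add_self_eq_zero u3
  refine ⟨?_, ?_, ?_, ?_⟩
  · linear_combination (norm := abel) hs + k1 + k2 + k3 - t0
  · linear_combination (norm := abel) hs + k1 - k2 - k3 - t1
  · linear_combination (norm := abel) hs - k1 + k2 - k3 - t2
  · linear_combination (norm := abel) hs - k1 - k2 + k3 - t3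

/-- `1 + b + b^2` is injective on `L1`. -/
theorem cyc_L1 (h : FourData ρ b e1 e2 e3) {v : E} (hv : v ∈ L1 ρ e1 e2)
    (hs : v + ρ b v + ρ b (ρ b v) = 0) : v = 0 := by
  have h2 := h.b_L1 hv
  have h3 := h.b_L2 h2
  exact (h.indep (Submodule.zero_mem _) hv h2 h3 (by rw [zero_add]; exact hs)).2.1

theorem exists_L1_ne_zero (h : FourData ρ b e1 e2 e3) : ∃ l ∈ L1 ρ e1 e2, l ≠ 0 := by
  obtain ⟨v, hv⟩ := h.ne
  by_cases h2 : v - ρ e1 v + ρ e2 v - ρ e3 v = 0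
  · by_cases h3 : v - ρ e1 v - ρ e2 v + ρ e3 v = 0
    · exfalso; apply hv
      have hsum := sum_proj v (ρ e1 v) (ρ e2 v) (ρ e3 v)
      rw [h2, h3, add_zero, add_zero] at hsum
      have h01 : ρ e1 ((v + ρ e1 v + ρ e2 v + ρ e3 v) + (v + ρ e1 v - ρ e2 v - ρ e3 v))
          = ((v + ρ e1 v + ρ e2 v + ρ e3 v) + (v + ρ e1 v - ρ e2 v - ρ e3 v)) := by
        rw [map_add, (h.p0_mem v).1, (h.p1_mem v).1]
      rw [← hsum] at h01; exact h01
    · exact ⟨ρ b _, h.b_L3 (h.p3_mem v), fun h0 => h3 (h.b_injective h0)⟩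
  · exact ⟨ρ b (ρ b _), h.b_L3 (h.b_L2 (h.p2_mem v)),
      fun h0 => h2 (h.b_injective (h.b_injective h0))⟩

/-- LEMMA FOUR, lines: the three nontrivial weight spaces are lines `⟨l1⟩`, `⟨b l1⟩`,
`⟨b b l1⟩`. -/
theorem lines (h : FourData ρ b e1 e2 e3) (w0 : E)
    (hn2 : ∀ v, ∃ c : ZMod 3, nn ρ b (nn ρ b v) = c • w0) :
    ∃ l1 : E, l1 ≠ 0 ∧ l1 ∈ L1 ρ e1 e2 ∧
      (∀ v ∈ L1 ρ e1 e2, ∃ c : ZMod 3, v = c • l1) ∧
      (∀ v ∈ L2 ρ e1 e2, ∃ c : ZMod 3, v = c • ρ b l1) ∧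
      (∀ v ∈ L3 ρ e1 e2, ∃ c : ZMod 3, v = c • ρ b (ρ b l1)) := by
  obtain ⟨l1, hl1, hl0⟩ := h.exists_L1_ne_zero
  have key : ∀ v ∈ L1 ρ e1 e2, ∃ c : ZMod 3, v = c • l1 := fun v hv =>
    line_of_cyclic ρ b w0 hn2 (L1 ρ e1 e2) (fun x hx hs => h.cyc_L1 hx hs) l1 hl1 hl0 v hv
  refine ⟨l1, hl0, hl1, key, ?_, ?_⟩
  · intro v hv
    obtain ⟨c, hc⟩ := key _ (h.b_L3 (h.b_L2 hv))
    refine ⟨c, ?_⟩
    rw [← h.bbb v, hc, map_smul]
  · intro v hv
    obtain ⟨c, hc⟩ := key _ (h.b_L3 hv)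
    refine ⟨c, ?_⟩
    rw [← h.bbb v, hc, map_smul, map_smul]

/-- Decomposition of an arbitrary vector. -/
theorem decomp (h : FourData ρ b e1 e2 e3) (l1 : E)
    (k1 : ∀ v ∈ L1 ρ e1 e2, ∃ c : ZMod 3, v = c • l1)
    (k2 : ∀ v ∈ L2 ρ e1 e2, ∃ c : ZMod 3, v = c • ρ b l1)
    (k3 : ∀ v ∈ L3 ρ e1 e2, ∃ c : ZMod 3, v = c • ρ b (ρ b l1)) (v : E) :
    ∃ u0 ∈ L0 ρ e1 e2, ∃ x y z : ZMod 3,
      v = u0 + x • l1 + y • ρ b l1 + z • ρ b (ρ b l1) := by
  obtain ⟨x, hx⟩ := k1 _ (h.p1_mem v)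
  obtain ⟨y, hy⟩ := k2 _ (h.p2_mem v)
  obtain ⟨z, hz⟩ := k3 _ (h.p3_mem v)
  refine ⟨_, h.p0_mem v, x, y, z, ?_⟩
  rw [← hx, ← hy, ← hz]
  exact sum_proj v _ _ _

/-- Uniqueness of the decomposition. -/
theorem decomp_unique (h : FourData ρ b e1 e2 e3) {l1 : E} (hl0 : l1 ≠ 0)
    (hl1 : l1 ∈ L1 ρ e1 e2) {u0 : E} (hu0 : u0 ∈ L0 ρ e1 e2) {x y z : ZMod 3}
    (hs : u0 + x • l1 + y • ρ b l1 + z • ρ b (ρ b l1) = 0) :
    u0 = 0 ∧ x = 0 ∧ y = 0 ∧ z = 0 := by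
  have hl2 := h.b_L1 hl1
  have hl3 := h.b_L2 hl2
  obtain ⟨a0, a1, a2, a3⟩ := h.indep hu0 (Submodule.smul_mem _ x hl1)
    (Submodule.smul_mem _ y hl2) (Submodule.smul_mem _ z hl3) hs
  have hl2' : ρ b l1 ≠ 0 := fun h0 => hl0 (h.b_injective h0)
  have hl3' : ρ b (ρ b l1) ≠ 0 := fun h0 => hl2' (h.b_injective h0)
  exact ⟨a0, (smul_eq_zero.1 a1).resolve_right hl0, (smul_eq_zero.1 a2).resolve_right hl2',
    (smul_eq_zero.1 a3).resolve_right hl3'⟩

/-- LEMMA FOUR, (d): `b` is trivial on `C_E(Q)`, when `rank (b - 1) ≤ 2`. -/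
theorem b_fix_L0 [Finite E] (h : FourData ρ b e1 e2 e3)
    (hrk : Nat.card (LinearMap.range (nn ρ b)) ≤ 9) {u : E} (hu : u ∈ L0 ρ e1 e2) :
    ρ b u = u := by
  obtain ⟨l1, hl1, hl0⟩ := h.exists_L1_ne_zero
  have hl2 := h.b_L1 hl1
  have hl3 := h.b_L2 hl2
  let f : ZMod 3 × ZMod 3 → LinearMap.range (nn ρ b) := fun p =>
    ⟨nn ρ b (p.1 • l1 + p.2 • ρ b l1), LinearMap.mem_range_self _ _⟩
  have hf : ∀ p : ZMod 3 × ZMod 3, (f p : E) =
      (-p.1) • l1 + (p.1 - p.2) • ρ b l1 + p.2 • ρ b (ρ b l1) := by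
    intro p
    simp only [f, nn_apply, map_add, map_smul]
    module
  have hinj : Function.Injective f := by
    intro p q hpq
    have h1 : (f p : E) = f q := by rw [hpq]
    rw [hf, hf] at h1
    have h2 : (0 : E) + (-p.1 + q.1) • l1 + ((p.1 - p.2) - (q.1 - q.2)) • ρ b l1
        + (p.2 - q.2) • ρ b (ρ b l1) = 0 := by
      linear_combination (norm := module) h1
    obtain ⟨-, a1, -, a3⟩ := h.decomp_unique hl0 hl1 (Submodule.zero_mem _) h2
    ext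
    · linear_combination (-1 : ZMod 3) * a1
    · linear_combination a3
  have hbij : Function.Bijective f := by
    apply hinj.bijective_of_nat_card_le
    have h9 : Nat.card (ZMod 3 × ZMod 3) = 9 := by rw [Nat.card_prod, Nat.card_zmod]
    rw [h9]
    exact hrk
  obtain ⟨p, hp⟩ := hbij.2 ⟨nn ρ b u, LinearMap.mem_range_self _ _⟩
  have h1 : (f p : E) = nn ρ b u := by rw [hp]
  rw [hf, nn_apply] at h1
  have hu' : ρ b u - u ∈ L0 ρ e1 e2 := Submodule.sub_mem _ (h.b_L0 hu) hu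
  have h2 : (ρ b u - u) + (p.1) • l1 + (-(p.1 - p.2)) • ρ b l1
      + (-p.2) • ρ b (ρ b l1) = 0 := by
    linear_combination (norm := module) (-1 : ZMod 3) • h1
  obtain ⟨a0, -, -, -⟩ := h.decomp_unique hl0 hl1 hu' h2
  exact sub_eq_zero.1 a0

/-- (e): `C_E(e1) = C_E(Q) + L1`. -/
theorem fix_e1 (h : FourData ρ b e1 e2 e3) {v : E} (hv : ρ e1 v = v) :
    ∃ u0 ∈ L0 ρ e1 e2, ∃ u1 ∈ L1 ρ e1 e2, v = u0 + u1 := by
  refine ⟨-(v + ρ e2 v), ?_, -(v - ρ e2 v), ?_, ?_⟩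
  · refine ⟨?_, ?_⟩
    · rw [map_neg, map_add, h.a12, ← h.a21, hv]
    · rw [map_neg, map_add, h.a22, add_comm]
  · refine ⟨?_, ?_⟩
    · rw [map_neg, map_sub, h.a12, ← h.a21, hv]
    · rw [map_neg, map_sub, h.a22]; abel
  · have := add_add_self_eq_zero v
    linear_combination (norm := abel) this

/-- (e): `C_E(e2) = C_E(Q) + L2`. -/
theorem fix_e2 (h : FourData ρ b e1 e2 e3) {v : E} (hv : ρ e2 v = v) :
    ∃ u0 ∈ L0 ρ e1 e2, ∃ u2 ∈ L2 ρ e1 e2, v = u0 + u2 := by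
  refine ⟨-(v + ρ e1 v), ?_, -(v - ρ e1 v), ?_, ?_⟩
  · refine ⟨?_, ?_⟩
    · rw [map_neg, map_add, h.a11, add_comm]
    · rw [map_neg, map_add, h.a21, ← h.a12, hv]
  · refine ⟨?_, ?_⟩
    · rw [map_neg, map_sub, h.a11]; abel
    · rw [map_neg, map_sub, h.a21, ← h.a12, hv]
  · have := add_add_self_eq_zero v
    linear_combination (norm := abel) this

/-- (e): `C_E(e3) = C_E(Q) + L3`. -/
theorem fix_e3 (h : FourData ρ b e1 e2 e3) {v : E} (hv : ρ e3 v = v) :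
    ∃ u0 ∈ L0 ρ e1 e2, ∃ u3 ∈ L3 ρ e1 e2, v = u0 + u3 := by
  have h12 : ρ e1 v = ρ e2 v := by rw [← h.a13, hv]
  refine ⟨-(v + ρ e1 v), ?_, -(v - ρ e1 v), ?_, ?_⟩
  · refine ⟨?_, ?_⟩
    · rw [map_neg, map_add, h.a11, add_comm]
    · rw [map_neg, map_add, h.a21, hv, h12, add_comm]
  · refine ⟨?_, ?_⟩
    · rw [map_neg, map_sub, h.a11]; abel
    · rw [map_neg, map_sub, h.a21, hv, h12]; abel
  · have := add_add_self_eq_zero v
    linear_combination (norm := abel) this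

end FourData

/-- `(b-1)^3 = 0` when `b^3 = 1`. -/
theorem nn_cube (ρ : Representation (ZMod 3) S E) (b : S) (hb3 : b ^ 3 = 1) (v : E) :
    nn ρ b (nn ρ b (nn ρ b v)) = 0 := by
  have hbbb : ρ b (ρ b (ρ b v)) = v := by
    rw [← rho_mul_apply, ← rho_mul_apply, ← pow_three', hb3, rho_one_apply]
  rw [nn_nn_apply, nn_apply]
  simp only [map_sub, hbbb]
  abel

/-- The Jordan data of `b` extracted from the hypotheses of S4415. -/
theorem jordan_data [Finite E] (ρ : Representation (ZMod 3) S E) (b : S) (hb3 : b ^ 3 = 1)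
    (E₀ E₁ : Submodule (ZMod 3) E) (hE01' : E₀ ⊔ E₁ = ⊤)
    (hE1 : ∀ v ∈ E₁, ρ b v = v) (hE0inv : ∀ v ∈ E₀, ρ b v ∈ E₀) (hE0 : Nat.card ↥E₀ = 27)
    (hind : ∃ v ∈ E₀, ρ b (ρ b v - v) - (ρ b v - v) ≠ 0) :
    ∃ v0 : E, v0 ∈ E₀ ∧ nn ρ b (nn ρ b v0) ≠ 0 ∧
      (∀ v, ∃ c : ZMod 3, nn ρ b (nn ρ b v) = c • nn ρ b (nn ρ b v0)) ∧
      (∀ v, ∃ x y : ZMod 3, nn ρ b v = x • nn ρ b v0 + y • nn ρ b (nn ρ b v0)) ∧
      Nat.card (LinearMap.range (nn ρ b)) ≤ 9 := by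
  obtain ⟨v0, hv0, hne⟩ := hind
  have hne' : nn ρ b (nn ρ b v0) ≠ 0 := by
    simpa only [nn_apply] using hne
  have hninv : ∀ v ∈ E₀, nn ρ b v ∈ E₀ := fun v hv => by
    rw [nn_apply]; exact E₀.sub_mem (hE0inv v hv) hv
  have h3 := nn_cube ρ b hb3
  set n := nn ρ b with hn
  let g : ZMod 3 × ZMod 3 × ZMod 3 → E₀ := fun p =>
    ⟨p.1 • v0 + p.2.1 • n v0 + p.2.2 • n (n v0),
      E₀.add_mem (E₀.add_mem (E₀.smul_mem _ hv0) (E₀.smul_mem _ (hninv _ hv0)))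
        (E₀.smul_mem _ (hninv _ (hninv _ hv0)))⟩
  have hg : Function.Injective g := by
    intro p q hpq
    have h1 : ((g p : E₀) : E) = g q := by rw [hpq]
    simp only [g] at h1
    have h2 : (p.1 - q.1) • v0 + (p.2.1 - q.2.1) • n v0 + (p.2.2 - q.2.2) • n (n v0) = 0 := by
      linear_combination (norm := module) h1
    have e1 : (p.1 - q.1) • n (n v0) = 0 := by
      have := congrArg (fun x => n (n x)) h2
      simpa only [map_add, map_smul, h3, smul_zero, add_zero, map_zero] using this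
    have x1 : p.1 - q.1 = 0 := (smul_eq_zero.1 e1).resolve_right hne'
    rw [x1, zero_smul, zero_add] at h2
    have e2 : (p.2.1 - q.2.1) • n (n v0) = 0 := by
      have := congrArg (fun x => n x) h2
      simpa only [map_add, map_smul, h3, smul_zero, add_zero, map_zero] using this
    have x2 : p.2.1 - q.2.1 = 0 := (smul_eq_zero.1 e2).resolve_right hne'
    rw [x2, zero_smul, zero_add] at h2
    have x3 : p.2.2 - q.2.2 = 0 := (smul_eq_zero.1 h2).resolve_right hne'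
    ext
    · exact sub_eq_zero.1 x1
    · exact sub_eq_zero.1 x2
    · exact sub_eq_zero.1 x3
  have hbij : Function.Bijective g := by
    apply hg.bijective_of_nat_card_le
    have h27 : Nat.card (ZMod 3 × ZMod 3 × ZMod 3) = 27 := by
      rw [Nat.card_prod, Nat.card_prod, Nat.card_zmod]
    rw [h27, hE0]
  have hnE1 : ∀ v ∈ E₁, n v = 0 := fun v hv => by
    rw [hn, nn_apply, hE1 v hv, sub_self]
  have hform : ∀ v, ∃ x y : ZMod 3, n v = x • n v0 + y • n (n v0) := by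
    intro v
    have hv : v ∈ E₀ ⊔ E₁ := by rw [hE01']; trivial
    obtain ⟨u, hu, u1, hu1, rfl⟩ := Submodule.mem_sup.1 hv
    obtain ⟨p, hp⟩ := hbij.2 ⟨u, hu⟩
    have hp' : u = p.1 • v0 + p.2.1 • n v0 + p.2.2 • n (n v0) := by
      have := congrArg Subtype.val hp
      simpa only [g] using this.symm
    refine ⟨p.1, p.2.1, ?_⟩
    rw [map_add, hnE1 u1 hu1, add_zero, hp']
    simp only [map_add, map_smul, h3, smul_zero, add_zero]
  refine ⟨v0, hv0, hne', ?_, hform, ?_⟩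
  · intro v
    obtain ⟨x, y, hxy⟩ := hform v
    refine ⟨x, ?_⟩
    rw [hxy]
    simp only [map_add, map_smul, h3, smul_zero, add_zero]
  · let k : ZMod 3 × ZMod 3 → LinearMap.range n := fun p =>
      ⟨n (p.1 • v0 + p.2 • n v0), LinearMap.mem_range_self _ _⟩
    have hk : Function.Surjective k := by
      rintro ⟨w, v, rfl⟩
      obtain ⟨x, y, hxy⟩ := hform v
      refine ⟨(x, y), ?_⟩
      apply Subtype.ext
      simp only [k, map_add, map_smul]
      exact hxy.symm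
    have h9 : Nat.card (ZMod 3 × ZMod 3) = 9 := by rw [Nat.card_prod, Nat.card_zmod]
    rw [← h9]
    exact Nat.card_le_card_of_surjective k hk

/-- A four-group normalized but not centralized by `b` of order `3` yields `FourData`. -/
theorem exists_fourData (ρ : Representation (ZMod 3) S E) (hfaith : Function.Injective ρ)
    (b : S) (hb3 : b ^ 3 = 1) (Q : Subgroup S) (hcomm : ∀ x ∈ Q, ∀ y ∈ Q, x * y = y * x)
    (hsq : ∀ x ∈ Q, x * x = 1) (hQ4 : Nat.card Q = 4)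
    (hnorm : ∀ x ∈ Q, b * x * b⁻¹ ∈ Q) (hncent : ∃ x ∈ Q, b * x * b⁻¹ ≠ x) :
    ∃ e1 e2 e3 : S, e1 ∈ Q ∧ e2 ∈ Q ∧ e3 ∈ Q ∧ FourData ρ b e1 e2 e3 ∧
      (∀ x ∈ Q, x = 1 ∨ x = e1 ∨ x = e2 ∨ x = e3) := by
  classical
  obtain ⟨e1, he1, hne⟩ := hncent
  have he2 : b * e1 * b⁻¹ ∈ Q := hnorm e1 he1
  set e2 := b * e1 * b⁻¹ with he2def
  have he3 : e1 * e2 ∈ Q := Q.mul_mem he1 he2
  have h1 : e1 ≠ 1 := by
    intro h; apply hne; rw [he2def, h]; group
  have h2 : e2 ≠ 1 := by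
    intro h; apply h1
    have : e1 = b⁻¹ * e2 * b := by rw [he2def]; group
    rw [this, h]; group
  have h21 : e2 ≠ e1 := hne
  have h31 : e1 * e2 ≠ 1 := by
    intro h; apply h21
    have : e2 = e1⁻¹ := by rw [eq_inv_iff_mul_eq_one, ← hcomm e1 he1 e2 he2]; exact h
    rw [this, inv_eq_iff_mul_eq_one.2 (hsq e1 he1)] 
  have h3e1 : e1 * e2 ≠ e1 := by
    intro h; apply h2; exact mul_eq_left.1 h
  have h3e2 : e1 * e2 ≠ e2 := by
    intro h; apply h1; exact mul_eq_right.1 h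
  have hall : ∀ x ∈ Q, x = 1 ∨ x = e1 ∨ x = e2 ∨ x = e1 * e2 := by
    have hfin : (Q : Set S).Finite := by
      have : Finite Q := Nat.finite_of_card_ne_zero (by rw [hQ4]; norm_num)
      exact Set.toFinite _
    have hsub : (({1, e1, e2, e1 * e2} : Finset S) : Set S) ⊆ (Q : Set S) := by
      intro x hx
      simp only [Finset.coe_insert, Finset.coe_singleton, Set.mem_insert_iff,
        Set.mem_singleton_iff] at hx
      rcases hx with rfl | rfl | rfl | rfl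
      · exact Q.one_mem
      · exact he1
      · exact he2
      · exact he3
    have hcard : (Q : Set S).ncard ≤ (({1, e1, e2, e1 * e2} : Finset S) : Set S).ncard := by
      rw [Set.ncard_coe_finset, ← Nat.card_coe_set_eq]
      have : ({1, e1, e2, e1 * e2} : Finset S).card = 4 := by
        rw [Finset.card_insert_of_notMem, Finset.card_insert_of_notMem,
          Finset.card_insert_of_notMem, Finset.card_singleton]
        · simp only [Finset.mem_singleton]; exact fun h => h3e2 h.symm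
        · simp only [Finset.mem_insert, Finset.mem_singleton, not_or]
          exact ⟨fun h => h21 h.symm, fun h => h3e1 h.symm⟩
        · simp only [Finset.mem_insert, Finset.mem_singleton, not_or]
          exact ⟨fun h => h1 h.symm, fun h => h2 h.symm, fun h => h31 h.symm⟩
      rw [this]
      exact hQ4.le
    have heq := Set.eq_of_subset_of_ncard_le hsub hcard hfin
    intro x hx
    have : x ∈ (({1, e1, e2, e1 * e2} : Finset S) : Set S) := by rw [heq]; exact hx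
    simpa only [Finset.coe_insert, Finset.coe_singleton, Set.mem_insert_iff,
      Set.mem_singleton_iff] using this
  have hc2 : b * e2 * b⁻¹ = e1 * e2 := by
    rcases hall _ (hnorm e2 he2) with h | h | h | h
    · exfalso; apply h2
      have : e2 = b⁻¹ * (b * e2 * b⁻¹) * b := by group
      rw [this, h]; group
    · exfalso; apply hne
      have h4 : e2 = (b * b * b) * e1 * (b * b * b)⁻¹ := by
        have h5 : (b * b * b) * e1 * (b * b * b)⁻¹ = b * (b * (b * e1 * b⁻¹) * b⁻¹) * b⁻¹ := by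
          group
        rw [h5, ← he2def, h]
      rw [h4, ← pow_three', hb3]; group
    · exfalso; apply h21
      have : e2 = b⁻¹ * (b * e2 * b⁻¹) * b := by group
      rw [this, h, he2def]; group
    · exact h
  have hneρ : ∃ v, ρ e1 v ≠ v := by
    by_contra hcon
    apply h1
    apply hfaith
    rw [map_one]
    ext v
    by_contra h'
    exact hcon ⟨v, h'⟩
  refine ⟨e1, e2, e1 * e2, he1, he2, he3, ?_, hall⟩
  exact
    { b3 := hb3
      e1sq := hsq e1 he1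
      e2sq := hsq e2 he2
      e12 := rfl
      e21 := hcomm e2 he2 e1 he1
      c1 := rfl
      c2 := hc2
      ne := hneρ }

/-- FOUR (d) for a four-subgroup: `b` fixes `C_E(Q)` pointwise. -/
theorem four_fix [Finite E] (ρ : Representation (ZMod 3) S E) (hfaith : Function.Injective ρ)
    (b : S) (hb3 : b ^ 3 = 1) (Q : Subgroup S) (hcomm : ∀ x ∈ Q, ∀ y ∈ Q, x * y = y * x)
    (hsq : ∀ x ∈ Q, x * x = 1) (hQ4 : Nat.card Q = 4)
    (hnorm : ∀ x ∈ Q, b * x * b⁻¹ ∈ Q) (hncent : ∃ x ∈ Q, b * x * b⁻¹ ≠ x)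
    (hrk : Nat.card (LinearMap.range (nn ρ b)) ≤ 9) :
    ∀ v, (∀ q ∈ Q, ρ q v = v) → ρ b v = v := by
  obtain ⟨e1, e2, e3, he1, he2, -, hF, -⟩ :=
    exists_fourData ρ hfaith b hb3 Q hcomm hsq hQ4 hnorm hncent
  intro v hv
  exact hF.b_fix_L0 hrk ⟨hv e1 he1, hv e2 he2⟩

/-- FOUR, `Q`-dichotomy: a `Q`- and `b`-invariant subspace is inside `C_E(Q)` or contains
`[E,Q]`. -/
theorem four_dich (ρ : Representation (ZMod 3) S E) (hfaith : Function.Injective ρ)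
    (b : S) (hb3 : b ^ 3 = 1) (Q : Subgroup S) (hcomm : ∀ x ∈ Q, ∀ y ∈ Q, x * y = y * x)
    (hsq : ∀ x ∈ Q, x * x = 1) (hQ4 : Nat.card Q = 4)
    (hnorm : ∀ x ∈ Q, b * x * b⁻¹ ∈ Q) (hncent : ∃ x ∈ Q, b * x * b⁻¹ ≠ x)
    (w0 : E) (hn2 : ∀ v, ∃ c : ZMod 3, nn ρ b (nn ρ b v) = c • w0) :
    ∀ N : Submodule (ZMod 3) E, (∀ q ∈ Q, ∀ v ∈ N, ρ q v ∈ N) → (∀ v ∈ N, ρ b v ∈ N) →
      (∀ v ∈ N, ∀ q ∈ Q, ρ q v = v) ∨ (∀ v : E, ∀ q ∈ Q, ρ q v - v ∈ N) := by
  obtain ⟨e1, e2, e3, he1, he2, he3, hF, hall⟩ :=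
    exists_fourData ρ hfaith b hb3 Q hcomm hsq hQ4 hnorm hncent
  obtain ⟨l1, hl0, hl1, k1, k2, k3⟩ := hF.lines w0 hn2
  have hl2 := hF.b_L1 hl1
  have hl3 := hF.b_L2 hl2
  intro N hNQ hNb
  by_cases hcase : ∀ v ∈ N, v ∈ L0 ρ e1 e2
  · left
    intro v hv q hq
    have hv0 := hcase v hv
    rcases hall q hq with rfl | rfl | rfl | rfl
    · exact rho_one_apply ρ v
    · exact hv0.1
    · exact hv0.2
    · exact hF.e3_L0 hv0
  · right
    -- some `v ∈ N` is not in `L0`: then `l1 ∈ N`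
    have hl1N : l1 ∈ N := by
      by_contra hcon
      apply hcase
      intro v hv
      have a1 := hNQ e1 he1 v hv
      have a2 := hNQ e2 he2 v hv
      have a3 := hNQ e3 he3 v hv
      -- the three projections vanish
      have z1 : v + ρ e1 v - ρ e2 v - ρ e3 v = 0 := by
        by_contra hne
        obtain ⟨c, hc⟩ := k1 _ (hF.p1_mem v)
        have hc0 : c ≠ 0 := by
          intro h0; rw [h0, zero_smul] at hc; exact hne hc
        apply hcon
        have : l1 = c⁻¹ • (v + ρ e1 v - ρ e2 v - ρ e3 v) := by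
          rw [hc, smul_smul, inv_mul_cancel₀ hc0, one_smul]
        rw [this]
        exact N.smul_mem _ (N.sub_mem (N.sub_mem (N.add_mem hv a1) a2) a3)
      have z2 : v - ρ e1 v + ρ e2 v - ρ e3 v = 0 := by
        by_contra hne
        obtain ⟨c, hc⟩ := k2 _ (hF.p2_mem v)
        have hc0 : c ≠ 0 := by
          intro h0; rw [h0, zero_smul] at hc; exact hne hc
        apply hcon
        have h2N : ρ b l1 ∈ N := by
          have : ρ b l1 = c⁻¹ • (v - ρ e1 v + ρ e2 v - ρ e3 v) := by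
            rw [hc, smul_smul, inv_mul_cancel₀ hc0, one_smul]
          rw [this]
          exact N.smul_mem _ (N.sub_mem (N.add_mem (N.sub_mem hv a1) a2) a3)
        rw [← hF.bbb l1]
        exact hNb _ (hNb _ h2N)
      have z3 : v - ρ e1 v - ρ e2 v + ρ e3 v = 0 := by
        by_contra hne
        obtain ⟨c, hc⟩ := k3 _ (hF.p3_mem v)
        have hc0 : c ≠ 0 := by
          intro h0; rw [h0, zero_smul] at hc; exact hne hc
        apply hcon
        have h3N : ρ b (ρ b l1) ∈ N := by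
          have : ρ b (ρ b l1) = c⁻¹ • (v - ρ e1 v - ρ e2 v + ρ e3 v) := by
            rw [hc, smul_smul, inv_mul_cancel₀ hc0, one_smul]
          rw [this]
          exact N.smul_mem _ (N.add_mem (N.sub_mem (N.sub_mem hv a1) a2) a3)
        rw [← hF.bbb l1]
        exact hNb _ h3N
      have hsum := FourData.sum_proj v (ρ e1 v) (ρ e2 v) (ρ e3 v)
      rw [z1, z2, z3, add_zero, add_zero, add_zero] at hsum
      rw [hsum]
      exact hF.p0_mem v
    have hl2N : ρ b l1 ∈ N := hNb _ hl1N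
    have hl3N : ρ b (ρ b l1) ∈ N := hNb _ hl2N
    have hspan : ∀ x y z : ZMod 3, x • l1 + y • ρ b l1 + z • ρ b (ρ b l1) ∈ N := fun x y z =>
      N.add_mem (N.add_mem (N.smul_mem _ hl1N) (N.smul_mem _ hl2N)) (N.smul_mem _ hl3N)
    intro v q hq
    obtain ⟨u0, hu0, x, y, z, rfl⟩ := hF.decomp l1 k1 k2 k3 v
    rcases hall q hq with rfl | rfl | rfl | rfl
    · rw [rho_one_apply, sub_self]; exact N.zero_mem
    · have : ρ q (u0 + x • l1 + y • ρ b l1 + z • ρ b (ρ b l1))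
          - (u0 + x • l1 + y • ρ b l1 + z • ρ b (ρ b l1))
          = (0 : ZMod 3) • l1 + y • ρ b l1 + z • ρ b (ρ b l1) := by
        simp only [map_add, map_smul, hu0.1, hl1.1, hl2.1, hl3.1]
        have t2 := add_add_self_eq_zero (y • ρ b l1)
        have t3 := add_add_self_eq_zero (z • ρ b (ρ b l1))
        linear_combination (norm := module) (-1 : ZMod 3) • t2 + (-1 : ZMod 3) • t3
      rw [this]; exact hspan _ _ _
    · have : ρ q (u0 + x • l1 + y • ρ b l1 + z • ρ b (ρ b l1))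
          - (u0 + x • l1 + y • ρ b l1 + z • ρ b (ρ b l1))
          = x • l1 + (0 : ZMod 3) • ρ b l1 + z • ρ b (ρ b l1) := by
        simp only [map_add, map_smul, hu0.2, hl1.2, hl2.2, hl3.2]
        have t1 := add_add_self_eq_zero (x • l1)
        have t3 := add_add_self_eq_zero (z • ρ b (ρ b l1))
        linear_combination (norm := module) (-1 : ZMod 3) • t1 + (-1 : ZMod 3) • t3
      rw [this]; exact hspan _ _ _
    · have : ρ q (u0 + x • l1 + y • ρ b l1 + z • ρ b (ρ b l1))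
          - (u0 + x • l1 + y • ρ b l1 + z • ρ b (ρ b l1))
          = x • l1 + y • ρ b l1 + (0 : ZMod 3) • ρ b (ρ b l1) := by
        simp only [map_add, map_smul, hF.e3_L0 hu0, hF.e3_L1 hl1, hF.e3_L2 hl2, hF.e3_L3 hl3]
        have t1 := add_add_self_eq_zero (x • l1)
        have t2 := add_add_self_eq_zero (y • ρ b l1)
        linear_combination (norm := module) (-1 : ZMod 3) • t1 + (-1 : ZMod 3) • t2
      rw [this]; exact hspan _ _ _

/-- The group-theoretic data on `b` and a four-group `Q` in the S4415 shape. -/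
theorem b_data (B : Subgroup S) (hB : Nat.card B = 3) (b : S) (hb : Subgroup.zpowers b = B)
    (Q : Subgroup S) (hBQ : B ≤ Subgroup.normalizer (Q : Set S))
    (hBQ' : ¬ B ≤ Subgroup.centralizer (Q : Set S)) :
    b ^ 3 = 1 ∧ (∀ x ∈ Q, b * x * b⁻¹ ∈ Q) ∧ (∃ x ∈ Q, b * x * b⁻¹ ≠ x) := by
  have hbB : b ∈ B := by rw [← hb]; exact Subgroup.mem_zpowers b
  have ho : orderOf b = 3 := by rw [← Nat.card_zpowers, hb, hB]
  refine ⟨by rw [← ho]; exact pow_orderOf_eq_one b, ?_, ?_⟩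
  · intro x hx
    exact (Subgroup.mem_normalizer_iff.1 (hBQ hbB) x).1 hx
  · by_contra hcon
    apply hBQ'
    have hbc : b ∈ Subgroup.centralizer (Q : Set S) := by
      rw [Subgroup.mem_centralizer_iff]
      intro x hx
      by_contra hne
      apply hcon
      refine ⟨x, hx, fun h => hne ?_⟩
      have : b * x = x * b := by
        calc b * x = (b * x * b⁻¹) * b := by group
          _ = x * b := by rw [h]
      exact this.symm
    rw [← hb, Subgroup.zpowers_le]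
    exact hbc

/-- FOUR in the S4415 shape (for any four-group `Q` normalized, not centralized by `B`):
`(d)` and the dichotomy. -/
theorem four_of_hyps [Finite E] (ρ : Representation (ZMod 3) S E)
    (hfaith : Function.Injective ρ) (B : Subgroup S) (hB : Nat.card B = 3) (b : S)
    (hb : Subgroup.zpowers b = B) (E₀ E₁ : Submodule (ZMod 3) E) (hE01' : E₀ ⊔ E₁ = ⊤)
    (hE1 : ∀ v ∈ E₁, ρ b v = v) (hE0inv : ∀ v ∈ E₀, ρ b v ∈ E₀) (hE0 : Nat.card ↥E₀ = 27)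
    (hind : ∃ v ∈ E₀, ρ b (ρ b v - v) - (ρ b v - v) ≠ 0)
    (Q : Subgroup S) (hcomm : ∀ x ∈ Q, ∀ y ∈ Q, x * y = y * x) (hsq : ∀ x ∈ Q, x * x = 1)
    (hQ4 : Nat.card Q = 4) (hBQ : B ≤ Subgroup.normalizer (Q : Set S))
    (hBQ' : ¬ B ≤ Subgroup.centralizer (Q : Set S)) :
    (∀ v, (∀ q ∈ Q, ρ q v = v) → ρ b v = v) ∧
    (∀ N : Submodule (ZMod 3) E, (∀ q ∈ Q, ∀ v ∈ N, ρ q v ∈ N) → (∀ v ∈ N, ρ b v ∈ N) →
      (∀ v ∈ N, ∀ q ∈ Q, ρ q v = v) ∨ (∀ v : E, ∀ q ∈ Q, ρ q v - v ∈ N)) := by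
  obtain ⟨hb3, hnorm, hncent⟩ := b_data B hB b hb Q hBQ hBQ'
  obtain ⟨v0, -, -, hn2, -, hrk⟩ := jordan_data ρ b hb3 E₀ E₁ hE01' hE1 hE0inv hE0 hind
  exact ⟨four_fix ρ hfaith b hb3 Q hcomm hsq hQ4 hnorm hncent hrk,
    four_dich ρ hfaith b hb3 Q hcomm hsq hQ4 hnorm hncent _ hn2⟩

end Cfsg.Agent.Lib.Helper9.CUB
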