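import Mathlib
import Cfsg.Prelude.Def_Transfer
import Cfsg.Agent.Lib.Helper8.CUBFour
import Cfsg.Agent.Lib.Helper9.CUBFour

/-!
# CUB farm (S4415): bridge from the verbatim S4415 hypotheses to `Helper8.CUB.FourData`
-/

namespace Cfsg.Agent.Lib.Helper9.CUB

variable {S E : Type*} [Group S] [AddCommGroup E] [Module (ZMod 3) E]

/-- `finrank ≤ k` from `card ≤ 3^k`. -/
theorem finrank_le_of_card_le [Finite E] (W : Submodule (ZMod 3) E) (k : ℕ)
    (h : Nat.card W ≤ 3 ^ k) : Module.finrank (ZMod 3) W ≤ k := by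
  have : Module.Finite (ZMod 3) W := Module.Finite.of_finite
  rw [Module.natCard_eq_pow_finrank (K := ZMod 3) (V := W), Nat.card_zmod] at h
  exact (Nat.pow_le_pow_iff_right (by norm_num)).1 h

/-- The rank bounds on `ρ b - 1` from the S4415 hypotheses. -/
theorem rank_bounds [Finite E] (ρ : Representation (ZMod 3) S E) (b : S) (hb3 : b ^ 3 = 1)
    (E₀ E₁ : Submodule (ZMod 3) E) (hE01' : E₀ ⊔ E₁ = ⊤)
    (hE1 : ∀ v ∈ E₁, ρ b v = v) (hE0inv : ∀ v ∈ E₀, ρ b v ∈ E₀) (hE0 : Nat.card ↥E₀ = 27)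
    (hind : ∃ v ∈ E₀, ρ b (ρ b v - v) - (ρ b v - v) ≠ 0) :
    Module.finrank (ZMod 3) (LinearMap.range (ρ b - 1)) ≤ 2 ∧
    Module.finrank (ZMod 3) (LinearMap.range ((ρ b - 1) * (ρ b - 1))) ≤ 1 := by
  obtain ⟨v0, -, -, hn2, -, hrk⟩ := jordan_data ρ b hb3 E₀ E₁ hE01' hE1 hE0inv hE0 hind
  refine ⟨?_, ?_⟩
  · exact finrank_le_of_card_le (LinearMap.range (nn ρ b)) 2 (by norm_num; exact hrk)
  · have hle : LinearMap.range ((ρ b - 1) * (ρ b - 1)) ≤
        Submodule.span (ZMod 3) {nn ρ b (nn ρ b v0)} := by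
      rintro w ⟨v, rfl⟩
      obtain ⟨c, hc⟩ := hn2 v
      have : ((ρ b - 1) * (ρ b - 1)) v = nn ρ b (nn ρ b v) := rfl
      rw [this, hc]
      exact Submodule.smul_mem _ _ (Submodule.subset_span rfl)
    refine (Submodule.finrank_mono hle).trans ?_
    have := finrank_span_finset_le_card (R := ZMod 3) ({nn ρ b (nn ρ b v0)} : Finset E)
    rw [Finset.coe_singleton, Finset.card_singleton] at this
    exact this

/-- `Helper8.CUB.FourData` from the verbatim S4415 hypotheses (for any four-group `Q`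
normalized but not centralized by `B`). -/
theorem fourData_of_hyps [Finite E] (ρ : Representation (ZMod 3) S E)
    (hfaith : Function.Injective ρ) (B : Subgroup S) (hB : Nat.card B = 3) (b : S)
    (hb : Subgroup.zpowers b = B) (E₀ E₁ : Submodule (ZMod 3) E) (hE01' : E₀ ⊔ E₁ = ⊤)
    (hE1 : ∀ v ∈ E₁, ρ b v = v) (hE0inv : ∀ v ∈ E₀, ρ b v ∈ E₀) (hE0 : Nat.card ↥E₀ = 27)
    (hind : ∃ v ∈ E₀, ρ b (ρ b v - v) - (ρ b v - v) ≠ 0)
    (Q : Subgroup S) (hQ : Cfsg.IsElementaryAbelian 2 Q) (hQ4 : Nat.card Q = 4)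
    (hBQ : B ≤ Subgroup.normalizer (Q : Set S))
    (hBQ' : ¬ B ≤ Subgroup.centralizer (Q : Set S)) :
    Cfsg.Agent.Lib.Helper8.CUB.FourData ρ b Q := by
  have hbB : b ∈ B := by rw [← hb]; exact Subgroup.mem_zpowers b
  have ho : orderOf b = 3 := by rw [← Nat.card_zpowers, hb, hB]
  have hb3 : b ^ 3 = 1 := by rw [← ho]; exact pow_orderOf_eq_one b
  obtain ⟨r2, r1⟩ := rank_bounds ρ b hb3 E₀ E₁ hE01' hE1 hE0inv hE0 hind
  exact
    { faith := hfaith
      b3 := hb3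
      rk2 := r2
      rk1 := r1
      elem := hQ
      card := hQ4
      norm := hBQ hbB
      ncent := fun hc => hBQ' (by rw [← hb, Subgroup.zpowers_le]; exact hc) }

end Cfsg.Agent.Lib.Helper9.CUB
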