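import Cfsg.Agent.Lib.Helper9.FactorSys2
import Cfsg.Agent.Lib.Helper9.QuotFusionLift

set_option autoImplicit false

namespace Cfsg.Agent.Lib.Helper9

open Cfsg Cfsg.FusionSystem

variable {G : Type*} [Group G]

/-- S5135 -/
theorem groupFusion_isFactorSystem [Finite G] (p : ℕ) [Fact p.Prime] (S : Sylow p G)
    (H : Subgroup G) [H.Normal] :
    (groupFusionSystem (S : Subgroup G)).IsFactorSystem ((S : Subgroup G) ⊓ H)
      ((QuotientGroup.mk' H).comp (S : Subgroup G).subtype)
      (groupFusionSystem ((S : Subgroup G).map (QuotientGroup.mk' H))) := by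
  set θ : (S : Subgroup G) →* G ⧸ H := (QuotientGroup.mk' H).comp (S : Subgroup G).subtype with hθ
  have hθapp : ∀ s : (S : Subgroup G), θ s = QuotientGroup.mk (s : G) := fun s => rfl
  have hrange : θ.range = (S : Subgroup G).map (QuotientGroup.mk' H) := by
    rw [hθ, MonoidHom.range_comp, Subgroup.range_subtype]
  refine ⟨inf_le_left, ?_, hrange, ?_⟩
  · intro s
    rw [hθapp, QuotientGroup.eq_one_iff]
    exact ⟨fun h => ⟨s.2, h⟩, fun h => h.2⟩
  · intro P' φ'
    constructor
    · rintro ⟨hP', hφ'S, γ, hγ⟩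
      refine ⟨hP', ?_⟩
      have hPS : preimageAlong θ P' ≤ (S : Subgroup G) := preimageAlong_le θ P'
      have hγ' : ∀ x ∈ preimageAlong θ P', γ * QuotientGroup.mk x * γ⁻¹ ∈
          (S : Subgroup G).map (QuotientGroup.mk' H) := by
        intro x hx
        have h1 : (QuotientGroup.mk x : G ⧸ H) ∈ P' :=
          map_mem_of_mem_preimageAlong θ P' ⟨x, hx⟩
        have h2 := hφ'S ⟨_, h1⟩
        rw [hγ] at h2
        exact h2
      obtain ⟨g, hg⟩ := exists_lift_quotient_fusion H S (preimageAlong θ P') hPS γ hγ'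
      refine ⟨conjHom _ g, ⟨hPS, fun x => (hg x x.2).1, g, fun x => rfl⟩, hPS,
        fun x => (hg x x.2).1, map_mem_of_mem_preimageAlong θ P', fun x => ?_⟩
      rw [hγ]
      exact ((hg x x.2).2).symm
    · rintro ⟨hP', φ, ⟨hP, hφS, g, hg⟩, hD, hφS', hDP', hind⟩
      refine ⟨hP', fun y => ?_, QuotientGroup.mk g, fun y => ?_⟩
      · obtain ⟨d, hd⟩ := exists_preimage_of_mem_range θ hrange hP' y
        have hy : y = ⟨θ ⟨d, hD d.2⟩, hDP' d⟩ := Subtype.ext hd.symm
        rw [hy, hind, ← hrange]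
        exact ⟨_, rfl⟩
      · obtain ⟨d, hd⟩ := exists_preimage_of_mem_range θ hrange hP' y
        have hy : y = ⟨θ ⟨d, hD d.2⟩, hDP' d⟩ := Subtype.ext hd.symm
        rw [hy, hind, hθapp]
        show QuotientGroup.mk (φ d) = QuotientGroup.mk g * QuotientGroup.mk (d : G) *
          (QuotientGroup.mk g)⁻¹
        rw [hg]
        rfl

end Cfsg.Agent.Lib.Helper9
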