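import Cfsg.Agent.Lib.Helper9.TransportConstrained
import Cfsg.Agent.Lib.Helper9.SubgroupSystem3

set_option autoImplicit false

namespace Cfsg.Agent.Lib.Helper9

open Cfsg Cfsg.FusionSystem

variable {G : Type*} [Group G]

/-- if `S ∩ K` is Sylow in `K` and `H` is normalized by `K`, `H ≤ K`, then `S ∩ H` is Sylow in `H` -/
theorem sylowIn_inf_of_normal [Finite G] {p : ℕ} [Fact p.Prime] (S : Sylow p G) {H K : Subgroup G}
    (hHK : H ≤ K) (hN : (H.subgroupOf K).Normal)
    (R : Sylow p K) (hR : (R : Subgroup K) = ((S : Subgroup G) ⊓ K).subgroupOf K) :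
    ∃ R' : Sylow p H, (R' : Subgroup H) = ((S : Subgroup G) ⊓ H).subgroupOf H := by
  have hTp : IsPGroup p ((S : Subgroup G) ⊓ H : Subgroup G) := S.isPGroup'.to_le inf_le_left
  apply sylowIn_of_card_le inf_le_right hTp
  intro U hTU hUH hUp
  obtain ⟨k, hk, hle⟩ := exists_cj_le_of_sylowIn R hR (hUH.trans hHK) hUp
  have hle' : U.map (MulAut.conj k).toMonoidHom ≤ (S : Subgroup G) ⊓ H := by
    rintro _ ⟨u, hu, rfl⟩
    refine ⟨(hle ⟨u, hu, rfl⟩).1, ?_⟩
    have h1 := hN.conj_mem ⟨u, hHK (hUH hu)⟩ (Subgroup.mem_subgroupOf.mpr (hUH hu)) ⟨k, hk⟩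
    exact Subgroup.mem_subgroupOf.mp h1
  rw [← card_cj k U]
  exact Nat.card_le_card_of_injective (Subgroup.inclusion hle') (Subgroup.inclusion_injective hle')

/-- S5115, inside `G` -/
theorem fusionSystemOfSubgroup_constrained_of_subnormal [Finite G] (p : ℕ) [Fact p.Prime]
    (S : Sylow p G) (hF : (groupFusionSystem (S : Subgroup G)).IsConstrained p)
    (H : Subgroup G) (hH : H.IsSubnormal) :
    (fusionSystemOfSubgroup H ((S : Subgroup G) ⊓ H) inf_le_right).IsConstrained p ∧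
      ∃ R : Sylow p H, (R : Subgroup H) = ((S : Subgroup G) ⊓ H).subgroupOf H := by
  induction hH with
  | top =>
    obtain ⟨R, hR⟩ := Cfsg.Agent.Lib.Helper2.exists_sylow_eq_inf_normal S (⊤ : Subgroup G)
    refine ⟨?_, R, hR⟩
    exact constrained_of_sub_stronglyClosed p S.isPGroup' _ hF
      (inf_normal_stronglyClosed (S : Subgroup G) ⊤) _
      (fusionSystemOfSubgroup_saturated p ⊤ _ inf_le_right R hR)
      (fusionSystemOfSubgroup_isSubsystemOf (S : Subgroup G) ⊤)
  | step H K hHK _ hN ih =>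
    obtain ⟨hKc, RK, hRK⟩ := ih
    obtain ⟨R, hR⟩ := sylowIn_inf_of_normal S hHK hN RK hRK
    refine ⟨?_, R, hR⟩
    have hfinK : Finite ((S : Subgroup G) ⊓ K : Subgroup G) := inferInstance
    have hpK : IsPGroup p ((S : Subgroup G) ⊓ K : Subgroup G) := S.isPGroup'.to_le inf_le_left
    refine constrained_of_sub_stronglyClosed p hpK _ hKc ?_ _
      (fusionSystemOfSubgroup_saturated p H _ inf_le_right R hR) ?_
    · refine ⟨inf_le_inf_left _ hHK, ?_⟩
      rintro Q hQ φ ⟨-, hφT, k, hk, hφ⟩ x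
      refine ⟨(hφT x).1, ?_⟩
      rw [hφ]
      have h1 := hN.conj_mem ⟨x, hHK (hQ x.2).2⟩ (Subgroup.mem_subgroupOf.mpr (hQ x.2).2) ⟨k, hk⟩
      exact Subgroup.mem_subgroupOf.mp h1
    · rintro P φ ⟨hP, hφT, g, hg, hφ⟩
      exact ⟨hP.trans (inf_le_inf_left _ hHK), fun x => ⟨(hφT x).1, hHK (hφT x).2⟩, g, hHK hg, hφ⟩

/-- S5115 -/
theorem groupFusion_subgroupOf_constrained_of_subnormal [Finite G] (p : ℕ) [Fact p.Prime]
    (S : Sylow p G) (hF : (groupFusionSystem (S : Subgroup G)).IsConstrained p)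
    (H : Subgroup G) (hH : H.IsSubnormal) :
    (groupFusionSystem ((S : Subgroup G).subgroupOf H)).IsConstrained p := by
  obtain ⟨hc, R, hR⟩ := fusionSystemOfSubgroup_constrained_of_subnormal p S hF H hH
  rw [← Subgroup.inf_subgroupOf_right]
  have hsat : (groupFusionSystem (((S : Subgroup G) ⊓ H).subgroupOf H)).IsSaturated p := by
    rw [← hR]
    exact groupFusion_saturated R
  have hp : IsPGroup p (((S : Subgroup G) ⊓ H).subgroupOf H) := by
    rw [← hR]
    exact R.isPGroup'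
  exact constrained_preimage p hp _ hsat _ _
    (isFactorSystem_fusionSystemOfSubgroup H _ inf_le_right) hc

end Cfsg.Agent.Lib.Helper9
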