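import Cfsg.Agent.Lib.Helper9.TransportConstrained
import Cfsg.Agent.Lib.Helper9.Solvable5
import Cfsg.Agent.Lib.Helper9.GroupFactor
import Cfsg.Agent.Lib.Helper9.SubnormalConstrained

set_option autoImplicit false

namespace Cfsg.Agent.Lib.Helper9

open Cfsg Cfsg.FusionSystem
open scoped commutatorElement

variable {Ω : Type*} [Group Ω] {S : Subgroup Ω} {Ω' : Type*} [Group Ω']

/-- the image of a subgroup normal in the system is normal in a factor system -/
theorem imageAlong_normal [Finite S] (p : ℕ) [Fact p.Prime] (hS : IsPGroup p S)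
    (F : FusionSystem S) (hF : F.IsSaturated p) {S₀ : Subgroup Ω} (hS₀ : F.StronglyClosed S₀)
    {S' : Subgroup Ω'} (θ : S →* Ω') (E : FusionSystem S') (hE : F.IsFactorSystem S₀ θ E)
    {Q : Subgroup Ω} (hQ : F.IsNormal Q) : E.IsNormal (imageAlong θ Q) := by
  have hEsat := factorSystem_saturated p hS F hF hS₀ θ E hE
  have hE' := hE
  obtain ⟨-, hker, hrange, hHom⟩ := hE'
  have hfin' : Finite S' := finite_of_range_eq θ hrange
  have hS' : IsPGroup p S' := isPGroup_of_range_eq hS θ hrange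
  have hfinQ : Finite Q := finite_of_le hQ.1
  have hnil : Group.IsNilpotent Q := (isPGroup_of_le hS hQ.1).isNilpotent
  obtain ⟨m, hm⟩ := hnil.nilpotent'
  have hZm : (Subgroup.upperCentralSeries Q m).map Q.subtype = Q := by
    rw [hm, ← MonoidHom.range_eq_map, Subgroup.range_subtype]
  apply normal_of_series p hS' E hEsat (imageAlong θ Q)
    (fun j => if j = 0 then ⊥ else if j ≤ m then imageAlong θ ((Subgroup.upperCentralSeries Q j).map
      Q.subtype) else S') m
  · show (if 0 = 0 then ⊥ else if 0 ≤ m then imageAlong θ ((Subgroup.upperCentralSeries Q 0).map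
      Q.subtype) else S') = ⊥
    rw [if_pos rfl]
  · show (if m = 0 then ⊥ else if m ≤ m then imageAlong θ ((Subgroup.upperCentralSeries Q m).map
      Q.subtype) else S') = imageAlong θ Q
    by_cases hm0 : m = 0
    · rw [if_pos hm0]
      subst hm0
      rw [← hZm, Subgroup.upperCentralSeries_zero, Subgroup.map_bot, imageAlong_bot]
    · rw [if_neg hm0, if_pos le_rfl, hZm]
  · intro j
    show E.StronglyClosed (if j = 0 then ⊥ else if j ≤ m then
      imageAlong θ ((Subgroup.upperCentralSeries Q j).map Q.subtype) else S')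
    split_ifs
    · exact stronglyClosed_bot E
    · have hsc := stronglyClosed_of_normal F (upperCentralSeries_map_normal F hQ j)
      rw [← imageAlong_sup_ker F hS₀ θ hker hsc.1]
      exact imageAlong_stronglyClosed F θ E hE (stronglyClosed_sup hS F hF hsc hS₀) le_sup_right
    · exact stronglyClosed_top E
  · intro j hj
    show ⁅imageAlong θ Q, (if j + 1 = 0 then ⊥ else if j + 1 ≤ m then imageAlong θ
      ((Subgroup.upperCentralSeries Q (j + 1)).map Q.subtype) else S')⁆ ≤
      (if j = 0 then ⊥ else if j ≤ m then imageAlong θ ((Subgroup.upperCentralSeries Q j).map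
      Q.subtype) else S')
    rw [if_neg (by omega), if_pos (by omega), Subgroup.commutator_le]
    intro a ha b hb
    obtain ⟨x, hxS, hx, rfl⟩ := (mem_imageAlong θ _ a).mp ha
    obtain ⟨y, hyS, hy, rfl⟩ := (mem_imageAlong θ _ b).mp hb
    rw [← map_commutatorElement]
    have hxy : ⁅x, y⁆ ∈ S := by
      rw [commutatorElement_def]
      exact S.mul_mem (S.mul_mem (S.mul_mem hxS hyS) (S.inv_mem hxS)) (S.inv_mem hyS)
    have hmem := commutator_upperCentralSeries_map_le Q j (Subgroup.commutator_mem_commutator hx hy)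
    by_cases hj0 : j = 0
    · rw [if_pos hj0]
      subst hj0
      rw [Subgroup.upperCentralSeries_zero, Subgroup.map_bot, Subgroup.mem_bot] at hmem
      rw [Subgroup.mem_bot]
      have h1 : (⟨⁅x, y⁆, hxy⟩ : S) = 1 := Subtype.ext hmem
      have h2 : (⁅(⟨x, hxS⟩ : S), ⟨y, hyS⟩⁆ : S) = ⟨⁅x, y⁆, hxy⟩ := by
        apply Subtype.ext
        simp [commutatorElement_def]
      rw [h2, h1, map_one]
    · rw [if_neg hj0, if_pos (by omega)]
      refine (mem_imageAlong θ _ _).mpr ⟨⁅x, y⁆, hxy, hmem, ?_⟩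
      congr 1
  · intro j hj
    show (if j = 0 then ⊥ else if j ≤ m then imageAlong θ ((Subgroup.upperCentralSeries Q j).map
      Q.subtype) else S') = S'
    rw [if_neg (by omega), if_neg (by omega)]

/-- the factor system of a constrained system by a strongly closed subgroup central in `S` is
constrained -/
theorem constrained_central_factor [Finite S] (p : ℕ) [Fact p.Prime] (hS : IsPGroup p S)
    (F : FusionSystem S) (hF : F.IsConstrained p) {Z : Subgroup Ω} (hZ : F.StronglyClosed Z)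
    (hZc : ∀ z ∈ Z, ∀ s ∈ S, s * z = z * s)
    {S' : Subgroup Ω'} (θ : S →* Ω') (E : FusionSystem S') (hE : F.IsFactorSystem Z θ E) :
    E.IsConstrained p := by
  have hFsat := hF.1
  have hEsat := factorSystem_saturated p hS F hFsat hZ θ E hE
  have hE' := hE
  obtain ⟨-, hker, hrange, hHom⟩ := hE'
  have hfin' : Finite S' := finite_of_range_eq θ hrange
  have hS' : IsPGroup p S' := isPGroup_of_range_eq hS θ hrange
  have hQ : F.IsNormal F.core := Cfsg.Agent.S5145.result F
  have hCQ := centralizerIn_core_le_of_constrained p F hF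
  set Q := F.core with hQdef
  have hQ' : E.IsNormal (imageAlong θ Q) := imageAlong_normal p hS F hFsat hZ θ E hE hQ
  have hCsc : E.StronglyClosed (centralizerIn S' (imageAlong θ Q)) :=
    centralizerIn_stronglyClosed_of_normal E hQ'
  set C := preimageAlong θ (centralizerIn S' (imageAlong θ Q)) with hCdef
  have hCS : C ≤ S := preimageAlong_le θ _
  -- `[C, Q] ≤ Z`
  have hCQZ : ⁅C, Q⁆ ≤ Z := by
    rw [Subgroup.commutator_le]
    intro c hc q hq
    obtain ⟨hcS, hc'⟩ := (mem_preimageAlong θ _ c).mp hc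
    have hqS : q ∈ S := hQ.1 hq
    have hcq : ⁅c, q⁆ ∈ S := by
      rw [commutatorElement_def]
      exact S.mul_mem (S.mul_mem (S.mul_mem hcS hqS) (S.inv_mem hcS)) (S.inv_mem hqS)
    apply (hker ⟨⁅c, q⁆, hcq⟩).mp
    have h2 : (⟨⁅c, q⁆, hcq⟩ : S) = ⁅(⟨c, hcS⟩ : S), ⟨q, hqS⟩⁆ := by
      apply Subtype.ext
      simp [commutatorElement_def]
    rw [h2, map_commutatorElement, commutatorElement_eq_one_iff_mul_comm]
    have h3 : θ ⟨c, hcS⟩ ∈ Subgroup.centralizer ((imageAlong θ Q : Subgroup Ω') : Set Ω') := hc'.2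
    rw [Subgroup.mem_centralizer_iff] at h3
    exact (h3 _ ((mem_imageAlong θ _ _).mpr ⟨q, hqS, hq, rfl⟩)).symm
  have hZC : ⁅Z, C⁆ = ⊥ := by
    rw [Subgroup.commutator_eq_bot_iff_le_centralizer]
    intro z hz
    show z ∈ Subgroup.centralizer (C : Set Ω)
    rw [Subgroup.mem_centralizer_iff]
    intro c hc
    exact hZc z hz c (hCS hc)
  have h1 : ⁅⁅C, Q⁆, C⁆ = ⊥ :=
    le_bot_iff.mp ((Subgroup.commutator_mono hCQZ le_rfl).trans hZC.le)
  have h2 : ⁅⁅Q, C⁆, C⁆ = ⊥ := by
    rw [Subgroup.commutator_comm Q C]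
    exact h1
  have h3 : ⁅⁅C, C⁆, Q⁆ = ⊥ := Subgroup.commutator_commutator_eq_bot_of_rotate h1 h2
  have hCCQ : ⁅C, C⁆ ≤ Q := by
    apply le_trans _ hCQ
    apply le_inf
    · exact (Subgroup.commutator_mono hCS hCS).trans (Subgroup.commutator_le_self S)
    · exact Subgroup.commutator_eq_bot_iff_le_centralizer.mp h3
  -- downstairs
  have hWW : ⁅centralizerIn S' (imageAlong θ Q), centralizerIn S' (imageAlong θ Q)⁆ ≤
      imageAlong θ Q := by
    rw [Subgroup.commutator_le]
    intro a ha b hb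
    have har : a ∈ θ.range := by rw [hrange]; exact ha.1
    have hbr : b ∈ θ.range := by rw [hrange]; exact hb.1
    obtain ⟨x, rfl⟩ := har
    obtain ⟨y, rfl⟩ := hbr
    have hxC : (x : Ω) ∈ C := (mem_preimageAlong θ _ _).mpr ⟨x.2, ha⟩
    have hyC : (y : Ω) ∈ C := (mem_preimageAlong θ _ _).mpr ⟨y.2, hb⟩
    rw [← map_commutatorElement]
    refine (mem_imageAlong θ _ _).mpr ⟨((⁅x, y⁆ : S) : Ω), (⁅x, y⁆ : S).2, ?_, rfl⟩
    have h4 : ((⁅x, y⁆ : S) : Ω) = ⁅(x : Ω), (y : Ω)⁆ := by simp [commutatorElement_def]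
    rw [h4]
    exact hCCQ (Subgroup.commutator_mem_commutator hxC hyC)
  have hnorm : E.IsNormal (centralizerIn S' (imageAlong θ Q) ⊔ imageAlong θ Q) :=
    normal_sup_of_centralizing p hS' E hEsat hQ' hCsc le_rfl hWW
  refine ⟨hEsat, _, hnorm, hnorm.1, fun R' hR' => ?_⟩
  have hEq := eq_of_isConj_of_stronglyClosed E (stronglyClosed_of_normal E hnorm) hR'
  rw [hEq]
  intro y hy
  apply le_sup_left (a := centralizerIn S' (imageAlong θ Q))
  refine ⟨hy.1, ?_⟩
  have h5 : y ∈ Subgroup.centralizer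
    ((centralizerIn S' (imageAlong θ Q) ⊔ imageAlong θ Q : Subgroup Ω') : Set Ω') := hy.2
  exact Subgroup.centralizer_le (by exact_mod_cast (le_sup_right : imageAlong θ Q ≤ _)) h5

end Cfsg.Agent.Lib.Helper9
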