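import Cfsg.Agent.Lib.Helper9.Constrained1

set_option autoImplicit false

namespace Cfsg.Agent.Lib.Helper9

open Cfsg Cfsg.FusionSystem
open scoped commutatorElement

variable {Ω : Type*} [Group Ω] {S : Subgroup Ω} {Ω' : Type*} [Group Ω']

theorem injective_of_ker_bot (θ : S →* Ω') (hker : ∀ s : S, θ s = 1 ↔ (s : Ω) ∈ (⊥ : Subgroup Ω)) :
    Function.Injective θ := by
  rw [injective_iff_map_eq_one]
  intro s hs
  have h1 := (hker s).mp hs
  rw [Subgroup.mem_bot] at h1
  exact Subtype.ext h1

theorem imageAlong_bot (θ : S →* Ω') : imageAlong θ (⊥ : Subgroup Ω) = ⊥ := by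
  unfold imageAlong
  rw [Subgroup.bot_subgroupOf, Subgroup.map_bot]

theorem imageAlong_top' (θ : S →* Ω') {S' : Subgroup Ω'} (hrange : θ.range = S') :
    imageAlong θ S = S' := by
  rw [← hrange]
  unfold imageAlong
  rw [Subgroup.subgroupOf_self, ← MonoidHom.range_eq_map]

/-- a constrained system has constrained isomorphic images -/
theorem constrained_image [Finite S] (p : ℕ) [Fact p.Prime] (hS : IsPGroup p S)
    (F : FusionSystem S) (hF : F.IsConstrained p) {S' : Subgroup Ω'} (θ : S →* Ω')
    (E : FusionSystem S') (hE : F.IsFactorSystem ⊥ θ E) : E.IsConstrained p := by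
  have hFsat := hF.1
  have hEsat := factorSystem_saturated p hS F hFsat (stronglyClosed_bot F) θ E hE
  have hE' := hE
  obtain ⟨-, hker, hrange, hHom⟩ := hE'
  have hinj := injective_of_ker_bot θ hker
  have hfin' : Finite S' := finite_of_range_eq θ hrange
  have hS' : IsPGroup p S' := isPGroup_of_range_eq hS θ hrange
  have hQ : F.IsNormal F.core := Cfsg.Agent.S5145.result F
  have hCQ := centralizerIn_core_le_of_constrained p F hF
  have hfinQ : Finite F.core := finite_of_le hQ.1
  have hnil : Group.IsNilpotent F.core := (isPGroup_of_le hS hQ.1).isNilpotent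
  obtain ⟨m, hm⟩ := hnil.nilpotent'
  have hZm : (Subgroup.upperCentralSeries F.core m).map F.core.subtype = F.core := by
    rw [hm, ← MonoidHom.range_eq_map, Subgroup.range_subtype]
  have hnorm : E.IsNormal (imageAlong θ F.core) := by
    apply normal_of_series p hS' E hEsat (imageAlong θ F.core)
      (fun j => if j ≤ m then imageAlong θ ((Subgroup.upperCentralSeries F.core j).map
        F.core.subtype) else S') m
    · show (if 0 ≤ m then imageAlong θ ((Subgroup.upperCentralSeries F.core 0).map
        F.core.subtype) else S') = ⊥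
      rw [if_pos (Nat.zero_le m), Subgroup.upperCentralSeries_zero, Subgroup.map_bot,
        imageAlong_bot]
    · show (if m ≤ m then imageAlong θ ((Subgroup.upperCentralSeries F.core m).map
        F.core.subtype) else S') = imageAlong θ F.core
      rw [if_pos le_rfl, hZm]
    · intro j
      show E.StronglyClosed (if j ≤ m then imageAlong θ ((Subgroup.upperCentralSeries F.core j).map
        F.core.subtype) else S')
      split_ifs
      · exact imageAlong_stronglyClosed F θ E hE
          (stronglyClosed_of_normal F (upperCentralSeries_map_normal F hQ j)) bot_le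
      · exact stronglyClosed_top E
    · intro j hj
      show ⁅imageAlong θ F.core, (if j + 1 ≤ m then imageAlong θ
        ((Subgroup.upperCentralSeries F.core (j + 1)).map F.core.subtype) else S')⁆ ≤
        (if j ≤ m then imageAlong θ ((Subgroup.upperCentralSeries F.core j).map
        F.core.subtype) else S')
      rw [if_pos (by omega), if_pos (by omega), Subgroup.commutator_le]
      intro a ha b hb
      obtain ⟨x, hxS, hx, rfl⟩ := (mem_imageAlong θ _ a).mp ha
      obtain ⟨y, hyS, hy, rfl⟩ := (mem_imageAlong θ _ b).mp hb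
      rw [← map_commutatorElement]
      have hxy : ⁅x, y⁆ ∈ S := by
        rw [commutatorElement_def]
        exact S.mul_mem (S.mul_mem (S.mul_mem hxS hyS) (S.inv_mem hxS)) (S.inv_mem hyS)
      refine (mem_imageAlong θ _ _).mpr ⟨⁅x, y⁆, hxy, ?_, rfl⟩
      exact commutator_upperCentralSeries_map_le F.core j (Subgroup.commutator_mem_commutator hx hy)
    · intro j hj
      show (if j ≤ m then imageAlong θ ((Subgroup.upperCentralSeries F.core j).map
        F.core.subtype) else S') = S'
      rw [if_neg (by omega)]
  refine ⟨hEsat, imageAlong θ F.core, hnorm, hnorm.1, fun R' hR' => ?_⟩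
  have hEq := eq_of_isConj_of_stronglyClosed E (stronglyClosed_of_normal E hnorm) hR'
  rw [hEq]
  intro y hy
  have hyr : y ∈ θ.range := by
    rw [hrange]
    exact hy.1
  obtain ⟨x, rfl⟩ := hyr
  refine (mem_imageAlong θ _ _).mpr ⟨x, x.2, ?_, rfl⟩
  apply hCQ
  refine ⟨x.2, ?_⟩
  show (x : Ω) ∈ Subgroup.centralizer (F.core : Set Ω)
  rw [Subgroup.mem_centralizer_iff]
  intro q hq
  have h1 : θ ⟨q, hQ.1 hq⟩ ∈ imageAlong θ F.core := (mem_imageAlong θ _ _).mpr ⟨q, hQ.1 hq, hq, rfl⟩
  have h2 : θ x ∈ Subgroup.centralizer ((imageAlong θ F.core : Subgroup Ω') : Set Ω') := hy.2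
  rw [Subgroup.mem_centralizer_iff] at h2
  have h3 := h2 _ h1
  rw [← map_mul, ← map_mul] at h3
  exact congrArg Subtype.val (hinj h3)

/-- a saturated system with a constrained isomorphic image is constrained -/
theorem constrained_preimage [Finite S] (p : ℕ) [Fact p.Prime] (hS : IsPGroup p S)
    (F : FusionSystem S) (hF : F.IsSaturated p) {S' : Subgroup Ω'} (θ : S →* Ω')
    (E : FusionSystem S') (hE : F.IsFactorSystem ⊥ θ E) (hEc : E.IsConstrained p) :
    F.IsConstrained p := by
  have hE' := hE
  obtain ⟨-, hker, hrange, hHom⟩ := hE'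
  have hinj := injective_of_ker_bot θ hker
  have hfin' : Finite S' := finite_of_range_eq θ hrange
  have hS' : IsPGroup p S' := isPGroup_of_range_eq hS θ hrange
  have hQ : E.IsNormal E.core := Cfsg.Agent.S5145.result E
  have hCQ := centralizerIn_core_le_of_constrained p E hEc
  have hfinQ : Finite E.core := finite_of_le hQ.1
  have hnil : Group.IsNilpotent E.core := (isPGroup_of_le hS' hQ.1).isNilpotent
  obtain ⟨m, hm⟩ := hnil.nilpotent'
  have hZm : (Subgroup.upperCentralSeries E.core m).map E.core.subtype = E.core := by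
    rw [hm, ← MonoidHom.range_eq_map, Subgroup.range_subtype]
  have hnorm : F.IsNormal (preimageAlong θ E.core) := by
    apply normal_of_series p hS F hF (preimageAlong θ E.core)
      (fun j => if j ≤ m then preimageAlong θ ((Subgroup.upperCentralSeries E.core j).map
        E.core.subtype) else S) m
    · show (if 0 ≤ m then preimageAlong θ ((Subgroup.upperCentralSeries E.core 0).map
        E.core.subtype) else S) = ⊥
      rw [if_pos (Nat.zero_le m), Subgroup.upperCentralSeries_zero, Subgroup.map_bot]
      rw [eq_bot_iff]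
      intro x hx
      obtain ⟨hxS, hx'⟩ := (mem_preimageAlong θ _ x).mp hx
      rw [Subgroup.mem_bot] at hx'
      exact (hker _).mp hx'
    · show (if m ≤ m then preimageAlong θ ((Subgroup.upperCentralSeries E.core m).map
        E.core.subtype) else S) = preimageAlong θ E.core
      rw [if_pos le_rfl, hZm]
    · intro j
      show F.StronglyClosed (if j ≤ m then preimageAlong θ
        ((Subgroup.upperCentralSeries E.core j).map E.core.subtype) else S)
      split_ifs
      · exact preimageAlong_stronglyClosed p hS F hF (stronglyClosed_bot F) θ E hE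
          (stronglyClosed_of_normal E (upperCentralSeries_map_normal E hQ j))
      · exact stronglyClosed_top F
    · intro j hj
      show ⁅preimageAlong θ E.core, (if j + 1 ≤ m then preimageAlong θ
        ((Subgroup.upperCentralSeries E.core (j + 1)).map E.core.subtype) else S)⁆ ≤
        (if j ≤ m then preimageAlong θ ((Subgroup.upperCentralSeries E.core j).map
        E.core.subtype) else S)
      rw [if_pos (by omega), if_pos (by omega), Subgroup.commutator_le]
      intro a ha b hb
      obtain ⟨haS, ha'⟩ := (mem_preimageAlong θ _ a).mp ha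
      obtain ⟨hbS, hb'⟩ := (mem_preimageAlong θ _ b).mp hb
      rw [mem_preimageAlong]
      have hab : ⁅a, b⁆ ∈ S := by
        rw [commutatorElement_def]
        exact S.mul_mem (S.mul_mem (S.mul_mem haS hbS) (S.inv_mem haS)) (S.inv_mem hbS)
      refine ⟨hab, ?_⟩
      have h1 : (⟨⁅a, b⁆, hab⟩ : S) = ⁅(⟨a, haS⟩ : S), ⟨b, hbS⟩⁆ := by
        apply Subtype.ext
        simp [commutatorElement_def]
      rw [h1, map_commutatorElement]
      exact commutator_upperCentralSeries_map_le E.core j
        (Subgroup.commutator_mem_commutator ha' hb')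
    · intro j hj
      show (if j ≤ m then preimageAlong θ ((Subgroup.upperCentralSeries E.core j).map
        E.core.subtype) else S) = S
      rw [if_neg (by omega)]
  refine ⟨hF, preimageAlong θ E.core, hnorm, hnorm.1, fun R hR => ?_⟩
  have hEq := eq_of_isConj_of_stronglyClosed F (stronglyClosed_of_normal F hnorm) hR
  rw [hEq]
  intro x hx
  rw [mem_preimageAlong]
  refine ⟨hx.1, ?_⟩
  apply hCQ
  have hθS' : ∀ s : S, θ s ∈ S' := fun s => hrange ▸ ⟨s, rfl⟩
  refine ⟨hθS' _, ?_⟩
  show θ ⟨x, hx.1⟩ ∈ Subgroup.centralizer (E.core : Set Ω')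
  rw [Subgroup.mem_centralizer_iff]
  intro q' hq'
  have hq'r : q' ∈ θ.range := by
    rw [hrange]
    exact hQ.1 hq'
  obtain ⟨q, rfl⟩ := hq'r
  have hqpre : (q : Ω) ∈ preimageAlong θ E.core := (mem_preimageAlong θ _ _).mpr ⟨q.2, hq'⟩
  have h2 : x ∈ Subgroup.centralizer ((preimageAlong θ E.core : Subgroup Ω) : Set Ω) := hx.2
  rw [Subgroup.mem_centralizer_iff] at h2
  have h3 := h2 _ hqpre
  rw [← map_mul, ← map_mul]
  congr 1
  exact Subtype.ext h3

end Cfsg.Agent.Lib.Helper9
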