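import Cfsg.Agent.Lib.Helper9.Solvable6
import Cfsg.Agent.Lib.Helper9.Hyperfocal3
import Cfsg.Agent.S5145

set_option autoImplicit false

namespace Cfsg.Agent.Lib.Helper9

open Cfsg Cfsg.FusionSystem
open scoped commutatorElement

variable {Ω : Type*} [Group Ω] {S : Subgroup Ω}

theorem commutator_mapAut_le {T : Subgroup Ω} (α : MulAut T) {A B C : Subgroup Ω}
    (h : ⁅A, B⁆ ≤ C) : ⁅mapAut α A, mapAut α B⁆ ≤ mapAut α C := by
  rw [Subgroup.commutator_le]
  intro a ha b hb
  obtain ⟨s, hs, rfl⟩ := (mem_mapAut α A a).mp ha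
  obtain ⟨t, ht, rfl⟩ := (mem_mapAut α B b).mp hb
  rw [mem_mapAut]
  refine ⟨⁅s, t⁆, ?_, ?_⟩
  · have : ((⁅s, t⁆ : T) : Ω) = ⁅(s : Ω), (t : Ω)⁆ := by simp [commutatorElement_def]
    rw [this]
    exact h (Subgroup.commutator_mem_commutator hs ht)
  · rw [map_commutatorElement]
    simp [commutatorElement_def]

theorem mapAut_bot {T : Subgroup Ω} (α : MulAut T) : mapAut α (⊥ : Subgroup Ω) = ⊥ := by
  apply le_bot_iff.mp
  intro y hy
  obtain ⟨t, ht, rfl⟩ := (mem_mapAut α ⊥ y).mp hy
  rw [Subgroup.mem_bot] at ht ⊢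
  have : t = 1 := Subtype.ext ht
  rw [this, map_one]
  rfl

theorem mapAut_le {T : Subgroup Ω} (α : MulAut T) (X : Subgroup Ω) : mapAut α X ≤ T := by
  intro y hy
  obtain ⟨t, -, rfl⟩ := (mem_mapAut α X y).mp hy
  exact (α t).2

/-- the image of a subgroup normal in an invariant subsystem under an `F`-automorphism of `T` is normal -/
theorem normal_mapAut {T : Subgroup Ω} [Finite T] (p : ℕ) [Fact p.Prime] (hT : IsPGroup p T)
    (E : FusionSystem T) (hE : E.IsSaturated p) (F : FusionSystem S)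
    (hinv : E.IsInvariantIn F) {R : Subgroup Ω} (hR : E.IsNormal R) {α : MulAut T}
    (hα : α ∈ F.autGroup T) : E.IsNormal (mapAut α R) := by
  have hfinR : Finite R := finite_of_le hR.1
  have hnil : Group.IsNilpotent R := (isPGroup_of_le hT hR.1).isNilpotent
  obtain ⟨n, hn⟩ := hnil.nilpotent'
  refine normal_of_series p hT E hE (mapAut α R)
    (fun j => if j ≤ n then mapAut α ((Subgroup.upperCentralSeries R j).map R.subtype) else T)
    n ?_ ?_ ?_ ?_ ?_
  · show (if 0 ≤ n then mapAut α ((Subgroup.upperCentralSeries R 0).map R.subtype) else T) = ⊥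
    rw [if_pos (Nat.zero_le n), Subgroup.upperCentralSeries_zero, Subgroup.map_bot, mapAut_bot]
  · show (if n ≤ n then mapAut α ((Subgroup.upperCentralSeries R n).map R.subtype) else T) = _
    rw [if_pos le_rfl, hn, ← MonoidHom.range_eq_map, Subgroup.range_subtype]
  · intro j
    show E.StronglyClosed
      (if j ≤ n then mapAut α ((Subgroup.upperCentralSeries R j).map R.subtype) else T)
    by_cases hj : j ≤ n
    · rw [if_pos hj]
      exact stronglyClosed_mapAut E F hinv
        (stronglyClosed_of_normal E (upperCentralSeries_map_normal E hR j)) hα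
    · rw [if_neg hj]
      exact stronglyClosed_top E
  · intro j hj
    show ⁅mapAut α R,
      (if j + 1 ≤ n then mapAut α ((Subgroup.upperCentralSeries R (j + 1)).map R.subtype) else T)⁆
      ≤ (if j ≤ n then mapAut α ((Subgroup.upperCentralSeries R j).map R.subtype) else T)
    rw [if_pos (Nat.succ_le_of_lt hj), if_pos hj.le]
    exact commutator_mapAut_le α (commutator_upperCentralSeries_map_le R j)
  · intro j hj
    show (if j ≤ n then mapAut α ((Subgroup.upperCentralSeries R j).map R.subtype) else T) = T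
    rw [if_neg (not_le_of_gt hj)]

/-- the subgroup generated by the `Aut_F(T)`-images of `R` -/
def autClosure (F : FusionSystem S) (T R : Subgroup Ω) : Subgroup Ω :=
  sSup {Q | ∃ α ∈ F.autGroup T, Q = mapAut α R}

theorem mapAut_le_autClosure (F : FusionSystem S) (T R : Subgroup Ω) {α : MulAut T}
    (hα : α ∈ F.autGroup T) : mapAut α R ≤ autClosure F T R :=
  le_sSup ⟨α, hα, rfl⟩

theorem autClosure_le (F : FusionSystem S) (T R : Subgroup Ω) : autClosure F T R ≤ T :=
  sSup_le (by rintro _ ⟨α, -, rfl⟩; exact mapAut_le α R)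

theorem autClosure_inv (F : FusionSystem S) (T R : Subgroup Ω) :
    ∀ β ∈ F.autGroup T, ∀ y : T, (y : Ω) ∈ autClosure F T R →
      ((β y : T) : Ω) ∈ autClosure F T R := by
  intro β hβ y hy
  have hle : autClosure F T R ≤ mapAut β⁻¹ (autClosure F T R) := by
    apply sSup_le
    rintro _ ⟨α, hα, rfl⟩
    intro z hz
    obtain ⟨t, ht, rfl⟩ := (mem_mapAut α R z).mp hz
    rw [mem_mapAut]
    refine ⟨β (α t), ?_, by simp⟩
    apply mapAut_le_autClosure F T R (mul_mem hβ hα)
    rw [mem_mapAut]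
    exact ⟨t, ht, rfl⟩
  obtain ⟨t, ht, hte⟩ := (mem_mapAut β⁻¹ _ _).mp (hle hy)
  have h4 : β⁻¹ t = y := Subtype.ext hte
  rw [← h4]
  simpa using ht

theorem autClosure_normal {T : Subgroup Ω} [Finite T] (p : ℕ) [Fact p.Prime] (hT : IsPGroup p T)
    (E : FusionSystem T) (hE : E.IsSaturated p) (F : FusionSystem S)
    (hinv : E.IsInvariantIn F) {R : Subgroup Ω} (hR : E.IsNormal R) :
    E.IsNormal (autClosure F T R) := by
  have h1 := sSup_induction_of_finite T (fun Q => E.IsNormal Q ∧ Q ≤ autClosure F T R)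
    (fun Q hQ => hQ.1.1) ⟨Cfsg.Agent.S5145.isNormal_bot E, bot_le⟩
    (fun Q₁ Q₂ h₁ h₂ => ⟨Cfsg.Agent.S5145.isNormal_sup E Q₁ Q₂ h₁.1 h₂.1, sup_le h₁.2 h₂.2⟩)
  have h2 : sSup {Q | E.IsNormal Q ∧ Q ≤ autClosure F T R} = autClosure F T R := by
    apply le_antisymm
    · exact sSup_le (fun Q hQ => hQ.2)
    · apply sSup_le
      rintro _ ⟨α, hα, rfl⟩
      exact le_sSup ⟨normal_mapAut p hT E hE F hinv hR hα, mapAut_le_autClosure F T R hα⟩
  rw [h2] at h1
  exact h1.1

theorem autClosure_stronglyClosed {T : Subgroup Ω} [Finite T] (p : ℕ) [Fact p.Prime]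
    (hT : IsPGroup p T)
    (E : FusionSystem T) (hE : E.IsSaturated p) (F : FusionSystem S)
    (hinv : E.IsInvariantIn F) {R : Subgroup Ω} (hR : E.IsNormal R) :
    F.StronglyClosed (autClosure F T R) :=
  stronglyClosed_of_inv E F hinv
    (stronglyClosed_of_normal E (autClosure_normal p hT E hE F hinv hR)) (autClosure_inv F T R)

/-- the `F`-closure of a subgroup normal in a weakly normal subsystem is normal in `F` -/
theorem autClosure_normal_in [Finite S] (p : ℕ) [Fact p.Prime] (hS : IsPGroup p S)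
    (F : FusionSystem S) (hF : F.IsSaturated p) {T : Subgroup Ω} (E : FusionSystem T)
    (hE : E.IsSaturated p) (hinv : E.IsInvariantIn F) {R : Subgroup Ω} (hR : E.IsNormal R) :
    F.IsNormal (autClosure F T R) := by
  have hTS : T ≤ S := hinv.2.1.1
  have hTfin : Finite T := finite_of_le hTS
  have hTp : IsPGroup p T := isPGroup_of_le hS hTS
  set R₁ := autClosure F T R with hR₁def
  have hR₁n : E.IsNormal R₁ := autClosure_normal p hTp E hE F hinv hR
  have hR₁sc : F.StronglyClosed R₁ := autClosure_stronglyClosed p hTp E hE F hinv hR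
  have hR₁T : R₁ ≤ T := autClosure_le F T R
  have hfinR : Finite R₁ := finite_of_le hR₁sc.1
  have hnil : Group.IsNilpotent R₁ := (isPGroup_of_le hS hR₁sc.1).isNilpotent
  obtain ⟨n, hn⟩ := hnil.nilpotent'
  have hZsc : ∀ j, F.StronglyClosed ((Subgroup.upperCentralSeries R₁ j).map R₁.subtype) := by
    intro j
    apply stronglyClosed_of_inv E F hinv
      (stronglyClosed_of_normal E (upperCentralSeries_map_normal E hR₁n j))
    intro β hβ y hy
    obtain ⟨z, hz, hzy⟩ := hy
    let β' : MulAut R₁ := (resAutF F hR₁sc hR₁T hTS ⟨β, hβ⟩ : F.autGroup R₁)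
    have hchar : (Subgroup.upperCentralSeries R₁ j).Characteristic := inferInstance
    have h1 : β' z ∈ Subgroup.upperCentralSeries R₁ j := by
      have := hchar.fixed β'
      have h2 : z ∈ (Subgroup.upperCentralSeries R₁ j).comap β'.toMonoidHom := by
        rw [this]; exact hz
      exact h2
    refine ⟨β' z, h1, ?_⟩
    show ((β' z : R₁) : Ω) = ((β y : T) : Ω)
    have h3 : ((β' z : R₁) : Ω) = ((β ⟨z, hR₁T z.2⟩ : T) : Ω) :=
      resAutF_apply F hR₁sc hR₁T hTS ⟨β, hβ⟩ z
    rw [h3]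
    congr 2
    exact Subtype.ext hzy
  refine normal_of_series p hS F hF R₁
    (fun j => if j ≤ n then (Subgroup.upperCentralSeries R₁ j).map R₁.subtype else S)
    n ?_ ?_ ?_ ?_ ?_
  · show (if 0 ≤ n then (Subgroup.upperCentralSeries R₁ 0).map R₁.subtype else S) = ⊥
    rw [if_pos (Nat.zero_le n), Subgroup.upperCentralSeries_zero, Subgroup.map_bot]
  · show (if n ≤ n then (Subgroup.upperCentralSeries R₁ n).map R₁.subtype else S) = _
    rw [if_pos le_rfl, hn, ← MonoidHom.range_eq_map, Subgroup.range_subtype]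
  · intro j
    show F.StronglyClosed
      (if j ≤ n then (Subgroup.upperCentralSeries R₁ j).map R₁.subtype else S)
    by_cases hj : j ≤ n
    · rw [if_pos hj]
      exact hZsc j
    · rw [if_neg hj]
      exact stronglyClosed_top F
  · intro j hj
    show ⁅R₁,
      (if j + 1 ≤ n then (Subgroup.upperCentralSeries R₁ (j + 1)).map R₁.subtype else S)⁆
      ≤ (if j ≤ n then (Subgroup.upperCentralSeries R₁ j).map R₁.subtype else S)
    rw [if_pos (Nat.succ_le_of_lt hj), if_pos hj.le]
    exact commutator_upperCentralSeries_map_le R₁ j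
  · intro j hj
    show (if j ≤ n then (Subgroup.upperCentralSeries R₁ j).map R₁.subtype else S) = S
    rw [if_neg (not_le_of_gt hj)]

/-- the closure of all `F`-images of `R` is the `Aut_F(T)`-closure of `R` -/
theorem closure_images_eq_autClosure (F : FusionSystem S) {T : Subgroup Ω} (E : FusionSystem T)
    (hinv : E.IsInvariantIn F) {R : Subgroup Ω} (hR : E.IsNormal R) :
    Subgroup.closure {x : Ω | ∃ φ ∈ F.Hom R, ∃ r : R, x = φ r} = autClosure F T R := by
  have hRT : R ≤ T := hR.1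
  have hTS : T ≤ S := hinv.2.1.1
  have hRsc := stronglyClosed_of_normal E hR
  apply le_antisymm
  · rw [Subgroup.closure_le]
    rintro x ⟨φ, hφ, r, rfl⟩
    obtain ⟨α, hα, φ₀, hφ₀, h⟩ := hinv.2.2.2 R hRT φ hφ
    have h0 : φ₀ r ∈ T := (E.le_of_mem hφ₀).2 r
    apply mapAut_le_autClosure F T R hα
    rw [mem_mapAut]
    exact ⟨⟨φ₀ r, h0⟩, hRsc.2 R le_rfl φ₀ hφ₀ r, (h r h0).symm⟩
  · apply sSup_le
    rintro _ ⟨α, hα, rfl⟩
    intro y hy
    obtain ⟨t, ht, rfl⟩ := (mem_mapAut α R y).mp hy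
    apply Subgroup.subset_closure
    have hφ := restrict_mem F (hom_of_mem_autGroup F hTS hα) hRT
    exact ⟨_, hφ, ⟨t, ht⟩, rfl⟩

end Cfsg.Agent.Lib.Helper9
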