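import Cfsg.Agent.Lib.Helper9.RS1
import Cfsg.Agent.Lib.Helper9.Alperin3
import Cfsg.Agent.Lib.Helper9.AlperinCor

set_option autoImplicit false

namespace Cfsg.Agent.Lib.Helper9

open Cfsg Cfsg.FusionSystem

/-- a suitable power prime to `p` of an element of a finite group is a `p`-element -/
theorem exists_pow_pElement {G : Type*} [Group G] [Finite G] (p : ℕ) [hp : Fact p.Prime] (g : G) :
    ∃ m : ℕ, p.Coprime m ∧ ∃ k : ℕ, (g ^ m) ^ (p ^ k) = 1 := by
  obtain ⟨e, m, hpm, hn⟩ :=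
    Nat.exists_eq_pow_mul_and_not_dvd (orderOf_pos g).ne' p hp.out.ne_one
  refine ⟨m, (hp.out.coprime_iff_not_dvd).mpr hpm, e, ?_⟩
  rw [← pow_mul, mul_comm, ← hn, pow_orderOf_eq_one]

theorem mem_of_pow_mem_of_coprime {G : Type*} [Group G] {p : ℕ} {a : G}
    (ha : ∃ k : ℕ, a ^ (p ^ k) = 1) {m : ℕ} (hm : p.Coprime m) (H : Subgroup G)
    (h : a ^ m ∈ H) : a ∈ H := by
  obtain ⟨k, hk⟩ := ha
  have hc : (p ^ k).Coprime m := Nat.Coprime.pow_left k hm
  have h1 := Nat.gcd_eq_gcd_ab (p ^ k) m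
  rw [hc] at h1
  have h2 : a = (a ^ m) ^ ((p ^ k).gcdB m) := by
    calc a = a ^ ((1 : ℕ) : ℤ) := by simp
      _ = a ^ (((p ^ k : ℕ) : ℤ) * (p ^ k).gcdA m + (m : ℤ) * (p ^ k).gcdB m) := by rw [h1]
      _ = (a ^ m) ^ ((p ^ k).gcdB m) := by
        rw [zpow_add, zpow_mul, zpow_mul, zpow_natCast, zpow_natCast, hk, one_zpow, one_mul]
  rw [h2]
  exact H.zpow_mem h _

theorem isPGroup_zpowers_of_pow_eq_one {G : Type*} [Group G] {p : ℕ} {b : G} {k : ℕ}
    (hk : b ^ (p ^ k) = 1) : IsPGroup p (Subgroup.zpowers b) := by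
  rintro ⟨g, hg⟩
  obtain ⟨z, rfl⟩ := Subgroup.mem_zpowers_iff.mp hg
  refine ⟨k, Subtype.ext ?_⟩
  show (b ^ z) ^ (p ^ k) = 1
  rw [← zpow_natCast, ← zpow_mul, mul_comm, zpow_mul, zpow_natCast, hk, one_zpow]

variable {Ω : Type*} [Group Ω] {S : Subgroup Ω}

theorem pow_lift_apply {Q N : Subgroup Ω} (hQN : Q ≤ N) (a : MulAut Q) (b : MulAut N)
    (h : ∀ x : Q, ((b ⟨x, hQN x.2⟩ : N) : Ω) = ((a x : Q) : Ω)) (j : ℕ) :
    ∀ x : Q, (((b ^ j) ⟨x, hQN x.2⟩ : N) : Ω) = (((a ^ j) x : Q) : Ω) := by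
  induction j with
  | zero => intro x; simp
  | succ j ih =>
    intro x
    rw [pow_succ, pow_succ, MulAut.mul_apply, MulAut.mul_apply]
    have h1 : b ⟨x, hQN x.2⟩ = ⟨(a x : Q), hQN (a x).2⟩ := Subtype.ext (h x)
    rw [h1]
    exact ih (a x)

/-- the inductive step of the Roberts--Shpectorov argument -/
theorem fullyAutomized_step [Finite S] {p : ℕ} [Fact p.Prime] (hS : IsPGroup p S)
    (F : FusionSystem S) (hSa : F.IsFullyAutomized p S)
    (hrec : ∀ P : Subgroup Ω, F.IsFullyNormalized P → F.IsReceptive P)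
    {Q : Subgroup Ω} (hQn : F.IsFullyNormalized Q)
    (ih : ∀ Q' : Subgroup Ω, F.IsFullyNormalized Q' → Nat.card Q < Nat.card Q' →
      F.IsFullyAutomized p Q') :
    F.IsFullyAutomized p Q := by
  by_cases hQS : Q = S
  · rw [hQS]; exact hSa
  have hQle := hQn.1
  have hQlt : Q < S := lt_of_le_of_ne hQle hQS
  have hfinQ : Finite Q := finite_of_le hQle
  have hASp : IsPGroup p ((autInducedBy S Q).subgroupOf (F.autGroup Q)) :=
    (isPGroup_autInducedBy hS Q).comap_subtype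
  obtain ⟨R, hR⟩ := hASp.exists_le_sylow
  by_contra hna
  have hne : (R : Subgroup (F.autGroup Q)) ≠ (autInducedBy S Q).subgroupOf (F.autGroup Q) :=
    fun h => hna ⟨hQle, R, h⟩
  have hlt : (autInducedBy S Q).subgroupOf (F.autGroup Q) < (R : Subgroup (F.autGroup Q)) :=
    lt_of_le_of_ne hR (Ne.symm hne)
  have hRp : IsPGroup p (R : Subgroup (F.autGroup Q)) := R.isPGroup'
  obtain ⟨r, hrN, hrAS⟩ := exists_mem_normalizerIn_not_mem (S := (R : Subgroup (F.autGroup Q)))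
    hRp hlt
  have hrR : r ∈ (R : Subgroup (F.autGroup Q)) := hrN.1
  have hrnorm : r ∈ Subgroup.normalizer
    (((autInducedBy S Q).subgroupOf (F.autGroup Q) : Subgroup (F.autGroup Q)) :
      Set (F.autGroup Q)) := hrN.2
  have haA : (r : MulAut Q) ∈ F.autGroup Q := r.2
  have haAS : (r : MulAut Q) ∉ autInducedBy S Q := fun h => hrAS h
  have hnorm : ∀ α ∈ autInducedBy S Q,
      (r : MulAut Q) * α * (r : MulAut Q)⁻¹ ∈ autInducedBy S Q := by
    intro α hα
    have hαA : α ∈ F.autGroup Q := autInducedBy_le_autGroup F hQle hα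
    have := (Subgroup.mem_normalizer_iff.mp hrnorm ⟨α, hαA⟩).mp hα
    exact this
  obtain ⟨â, hâ, hâe⟩ := exists_lift_normalizerIn F (hrec Q hQn) haA hnorm
  have hfinN : Finite (normalizerIn S Q) := finite_normalizerIn Q
  have hQN : Q ≤ normalizerIn S Q := self_le_normalizerIn' hQle
  obtain ⟨m, hm, k, hk⟩ := exists_pow_pElement p â
  have hbA : â ^ m ∈ F.autGroup (normalizerIn S Q) := Subgroup.pow_mem _ hâ m
  have hbe := pow_lift_apply hQN (r : MulAut Q) â hâe m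
  have ha_p : ∃ l : ℕ, (r : MulAut Q) ^ (p ^ l) = 1 := by
    obtain ⟨l, hl⟩ := hRp ⟨r, hrR⟩
    refine ⟨l, ?_⟩
    have h1 : r ^ (p ^ l) = 1 := by
      have := congrArg Subtype.val hl
      exact this
    have h2 := congrArg Subtype.val h1
    exact h2
  have hamAS : (r : MulAut Q) ^ m ∉ autInducedBy S Q :=
    fun h => haAS (mem_of_pow_mem_of_coprime ha_p hm _ h)
  have hBA : Subgroup.zpowers (â ^ m) ≤ F.autGroup (normalizerIn S Q) := by
    rw [Subgroup.zpowers_le]; exact hbA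
  have hBp : IsPGroup p (Subgroup.zpowers (â ^ m)) := isPGroup_zpowers_of_pow_eq_one hk
  have hNS : normalizerIn S Q ≤ S := inf_le_left
  obtain ⟨N', hNN', hN'n⟩ := exists_isConj_fullyNormalized F hNS
  have hcardN' : Nat.card (normalizerIn S Q) = Nat.card N' := card_eq_of_isConj F hNN'
  obtain ⟨ψ, hψ, hψr⟩ := hNN'
  obtain ⟨x0, hx0N, hx0Q⟩ := exists_mem_normalizerIn_not_mem hS hQlt
  have hQltN : Q < normalizerIn S Q := by
    refine lt_of_le_of_ne hQN ?_
    intro h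
    apply hx0Q
    rw [h]
    exact hx0N
  have hcardlt : Nat.card Q < Nat.card N' := by
    rw [← hcardN']; exact card_lt_of_lt' hQltN
  have hN'a := ih N' hN'n hcardlt
  obtain ⟨χ, hχ, hχr, hχB⟩ :=
    exists_hom_conj_pSubgroup_of_fullyAutomized F hN'a hψ hψr _ hBA hBp
  obtain ⟨g, hgS, hg⟩ := hχB (â ^ m) (Subgroup.mem_zpowers _)
  have hQQ' : F.IsConj Q ((Q.subgroupOf (normalizerIn S Q)).map χ) :=
    ⟨χ.comp (Subgroup.inclusion hQN), restrict_mem F hχ hQN, range_comp_inclusion hQN χ⟩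
  have hcard1 := hQn.2 _ hQQ'
  have hfinQ' : Finite (((Q.subgroupOf (normalizerIn S Q)).map χ : Subgroup Ω) : Set Ω) := by
    have hle : (Q.subgroupOf (normalizerIn S Q)).map χ ≤ S := isConj_le_right F hQQ'
    exact finite_of_le hle
  have hN'le : N' ≤ normalizerIn S ((Q.subgroupOf (normalizerIn S Q)).map χ) := by
    intro n' hn'
    refine ⟨hN'n.1 hn', ?_⟩
    obtain ⟨n, rfl⟩ := hχr.ge hn'
    apply Subgroup.mem_normalizer_fintype
    rintro _ ⟨x, hx, rfl⟩
    rw [← map_inv, ← map_mul, ← map_mul]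
    refine ⟨n * x * n⁻¹, ?_, rfl⟩
    show (n : Ω) * x * (n : Ω)⁻¹ ∈ Q
    exact conj_mem_of_mem_normalizer n.2.2 hx
  have hN'eq : N' = normalizerIn S ((Q.subgroupOf (normalizerIn S Q)).map χ) := by
    have hfin' : Finite (normalizerIn S ((Q.subgroupOf (normalizerIn S Q)).map χ)) :=
      finite_normalizerIn _
    apply Subgroup.eq_of_le_of_card_ge hN'le
    rw [← hcardN']
    exact hcard1
  have hgN' : g ∈ N' := by
    rw [hN'eq]
    refine ⟨hgS, ?_⟩
    apply Subgroup.mem_normalizer_fintype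
    rintro _ ⟨x, hx, rfl⟩
    rw [← hg x]
    refine ⟨(â ^ m) x, ?_, rfl⟩
    have h1 := hbe ⟨x, hx⟩
    show (((â ^ m) x : normalizerIn S Q) : Ω) ∈ Q
    have h2 : (⟨((⟨x, hx⟩ : Q) : Ω), hQN hx⟩ : normalizerIn S Q) = x := Subtype.ext rfl
    rw [h2] at h1
    rw [h1]
    exact (((r : MulAut Q) ^ m) ⟨x, hx⟩).2
  obtain ⟨h, hh⟩ := hχr.ge hgN'
  have hbh : ∀ y : normalizerIn S Q, (((â ^ m) y : normalizerIn S Q) : Ω) = h * y * (h : Ω)⁻¹ := by
    intro y
    have h1 := hg y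
    rw [← hh, ← map_inv, ← map_mul, ← map_mul] at h1
    have h2 := F.injective_of_mem hχ h1
    rw [h2]
    rfl
  apply hamAS
  rw [mem_autInducedBy_iff]
  refine ⟨h, hNS h.2, fun x => ?_⟩
  rw [← hbe x, hbh]

/-- Roberts--Shpectorov: if `S` is fully automized and all fully normalized subgroups are
receptive, then all fully normalized subgroups are fully automized. -/
theorem fullyAutomized_of_receptive [Finite S] {p : ℕ} [Fact p.Prime] (hS : IsPGroup p S)
    (F : FusionSystem S) (hSa : F.IsFullyAutomized p S)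
    (hrec : ∀ P : Subgroup Ω, F.IsFullyNormalized P → F.IsReceptive P) :
    ∀ (n : ℕ) (Q : Subgroup Ω), F.IsFullyNormalized Q → Nat.card S - Nat.card Q ≤ n →
      F.IsFullyAutomized p Q := by
  intro n
  induction n with
  | zero =>
    intro Q hQn hcard
    apply fullyAutomized_step hS F hSa hrec hQn
    intro Q' hQ'n hlt
    exfalso
    have h1 : Nat.card Q' ≤ Nat.card S := Subgroup.card_le_of_le hQ'n.1
    omega
  | succ n ih =>
    intro Q hQn hcard
    apply fullyAutomized_step hS F hSa hrec hQn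
    intro Q' hQ'n hlt
    apply ih Q' hQ'n
    have h1 : Nat.card Q' ≤ Nat.card S := Subgroup.card_le_of_le hQ'n.1
    omega

theorem saturated_iff_roberts_shpectorov [Finite S] {p : ℕ} [Fact p.Prime] (hS : IsPGroup p S)
    (F : FusionSystem S) :
    F.IsSaturated p ↔ (F.IsFullyAutomized p S ∧
      ∀ P : Subgroup Ω, F.IsFullyNormalized P → F.IsReceptive P) := by
  constructor
  · intro hF
    refine ⟨fullyAutomized_of_fullyNormalized hS F hF (fullyNormalized_top F), ?_⟩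
    intro P hP
    exact receptive_of_fullyCentralized hS F hF (fullyCentralized_of_fullyNormalized hS F hF hP)
  · rintro ⟨hSa, hrec⟩ P hP
    obtain ⟨Q, hPQ, hQn⟩ := exists_isConj_fullyNormalized F hP
    exact ⟨Q, hPQ, fullyAutomized_of_receptive hS F hSa hrec _ Q hQn le_rfl, hrec Q hQn⟩

end Cfsg.Agent.Lib.Helper9
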