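import Cfsg.Agent.Lib.Helper9.FactorSys6
import Cfsg.Agent.Lib.Helper9.RS2

set_option autoImplicit false

namespace Cfsg.Agent.Lib.Helper9

open Cfsg Cfsg.FusionSystem

variable {Ω : Type*} [Group Ω] {S : Subgroup Ω} {Ω' : Type*} [Group Ω']

/-- a factor system of a saturated fusion system is saturated -/
theorem factorSystem_saturated [Finite S] (p : ℕ) [Fact p.Prime] (hS : IsPGroup p S)
    (F : FusionSystem S) (hF : F.IsSaturated p) {S₀ : Subgroup Ω} (hS₀ : F.StronglyClosed S₀)
    {S' : Subgroup Ω'} (θ : S →* Ω') (E : FusionSystem S') (hE : F.IsFactorSystem S₀ θ E) :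
    E.IsSaturated p := by
  have hfin : Finite S' := finite_of_range_eq θ hE.2.2.1
  have hS'p := isPGroup_of_range_eq hS θ hE.2.2.1
  rw [saturated_iff_roberts_shpectorov hS'p E]
  exact ⟨factorSystem_fullyAutomized_top p hS F hF hS₀ θ E hE,
    fun P' hP' => factorSystem_receptive p hS F hF hS₀ θ E hE hP'⟩

theorem mem_kerSub (α : S →* Ω') (s : S) : α s = 1 ↔ (s : Ω) ∈ (α.ker).map S.subtype := by
  constructor
  · intro h
    exact ⟨s, h, rfl⟩
  · rintro ⟨t, ht, hts⟩
    have : t = s := Subtype.ext hts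
    rw [← this]
    exact ht

theorem kerSub_stronglyClosed (F : FusionSystem S) {S' : Subgroup Ω'} (F' : FusionSystem S')
    (α : S →* Ω') (hα : F.IsMorphism F' α) : F.StronglyClosed ((α.ker).map S.subtype) := by
  refine ⟨Subgroup.map_subtype_le _, ?_⟩
  intro R hR φ hφ x
  obtain ⟨φ', -, hRS, hφS, hRP', hind⟩ := hα.2 R φ hφ
  have h1 : α ⟨x, hRS x.2⟩ = 1 := (mem_kerSub α _).mpr (hR x.2)
  have h2 := hind x
  have h3 : (⟨α ⟨x, hRS x.2⟩, hRP' x⟩ : imageAlong α R) = 1 := Subtype.ext h1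
  rw [h3, map_one] at h2
  exact (mem_kerSub α ⟨φ x, hφS x⟩).mp h2.symm

theorem isFactorSystem_of_isSurjectiveMorphism (F : FusionSystem S) {S' : Subgroup Ω'}
    (F' : FusionSystem S') (α : S →* Ω') (hα : F.IsSurjectiveMorphism F' α) :
    F.IsFactorSystem ((α.ker).map S.subtype) α F' := by
  obtain ⟨hmor, hrange, hsurj⟩ := hα
  refine ⟨Subgroup.map_subtype_le _, mem_kerSub α, hrange, ?_⟩
  intro P' φ'
  constructor
  · intro hφ'
    have hP' : P' ≤ S' := (F'.le_of_mem hφ').1
    exact ⟨hP', hsurj P' hP' φ' hφ'⟩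
  · rintro ⟨hP', φ, hφ, hD, hφS, hDP', hind⟩
    obtain ⟨φ'', hφ'', hD2, hφS2, hDP'2, hind2⟩ := hmor.2 _ φ hφ
    have hle : P' ≤ imageAlong α (preimageAlong α P') :=
      (imageAlong_preimageAlong α hrange hP').ge
    have h1 := restrict_mem F' hφ'' hle
    have h2 : φ''.comp (Subgroup.inclusion hle) = φ' := by
      ext y
      obtain ⟨d, hd⟩ := exists_preimage_of_mem_range α hrange hP' y
      have hy : y = ⟨α ⟨d, hD d.2⟩, hDP' d⟩ := Subtype.ext hd.symm
      rw [hy, hind d]
      have := hind2 d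
      exact this
    rw [← h2]
    exact h1

/-- S5133: the image of a saturated fusion system under a surjective morphism is saturated -/
theorem saturated_of_isSurjectiveMorphism [Finite S] (p : ℕ) [Fact p.Prime] (hS : IsPGroup p S)
    (F : FusionSystem S) (hF : F.IsSaturated p) {S' : Subgroup Ω'} (F' : FusionSystem S')
    (α : S →* Ω') (hα : F.IsSurjectiveMorphism F' α) : F'.IsSaturated p :=
  factorSystem_saturated p hS F hF (kerSub_stronglyClosed F F' α hα.1) α F'
    (isFactorSystem_of_isSurjectiveMorphism F F' α hα)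

end Cfsg.Agent.Lib.Helper9
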