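import Mathlib
import Cfsg.Agent.Lib.Helper9.JRDefs
import Cfsg.Agent.Lib.Helper5.PSL2KleinClasses
import Cfsg.Agent.Lib.Helper5.AutPSL2.Main
import Cfsg.Agent.Lib.Helper6.JRP3
import Cfsg.Agent.Lib.Helper7.JRklein

set_option autoImplicit false

/-! Farm JR (S3206), unit P2, part c: reduction of `P2` to
`P2a` (a 2-power-order automorphism of `PSL₂(F)` is `cG A`) and
`P2b` (`cG A` fixing the standard pair is conjugation by an element of the standard four-group). -/

namespace Cfsg.Agent.Lib.Helper9.JRP2c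

open Cfsg.Agent.Lib.Helper9.JRDefs Cfsg.Agent.Lib.Helper5.PairOrbits
  Cfsg.Agent.Lib.Helper5.PSL2KleinClasses Cfsg.Agent.Lib.Helper5.SL2Quat
  Cfsg.Agent.Lib.Helper5.SumTwoSq Cfsg.Agent.Lib.Helper5.AutPSL2

section psl
variable {F : Type*} [Field F] [Fintype F]

/-- the statement of `P2a` -/
def P2aStatement (F : Type*) [Field F] : Prop :=
  ∀ (α : MulAut (Matrix.ProjectiveSpecialLinearGroup (Fin 2) F)) (k : ℕ), α ^ (2 ^ k) = 1 →
    ∃ A : GL (Fin 2) F, cG F A = α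

/-- the statement of `P2b` -/
def P2bStatement (F : Type*) [Field F] : Prop :=
  ∀ (h2 : (2 : F) ≠ 0) (p r : F) (hpr : p ^ 2 + r ^ 2 = -1) (A : GL (Fin 2) F),
    cG F A (QuotientGroup.mk (qi F)) = QuotientGroup.mk (qi F) →
    cG F A (QuotientGroup.mk (qj p r hpr)) = QuotientGroup.mk (qj p r hpr) →
    ∃ v ∈ kvP (Pw p r hpr) (Pw_mem h2 p r hpr), ∀ x, cG F A x = v * x * v⁻¹

/-- `P2` for `PSL₂(F)` itself, from `P2a` and `P2b` -/
theorem P2_psl (hq : Fintype.card F % 8 = 3 ∨ Fintype.card F % 8 = 5)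
    (ha : P2aStatement F) (hb : P2bStatement F)
    (W : Sylow 2 (PSL2 F)) (α : MulAut (PSL2 F)) (k : ℕ) (hα : α ^ (2 ^ k) = 1)
    (hfix : ∀ w ∈ W, α w = w) : ∃ v ∈ W, ∀ x : PSL2 F, α x = v * x * v⁻¹ := by
  have hodd : Fintype.card F % 2 = 1 := by omega
  have h2 : (2 : F) ≠ 0 := two_ne_zero_of_odd hodd
  have hK : IsKleinFour ↥(W : Subgroup (PSL2 F)) :=
    Cfsg.Agent.Lib.Helper5.PSL2Klein.isKleinFour_sylow hq W
  obtain ⟨x, y, hxW, hyW, hP, hall⟩ := Cfsg.Agent.Lib.Helper6.JRP3.exists_pair (W : Subgroup (PSL2 F))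
  obtain ⟨p, r, hpr, g, hg⟩ := exists_rel_Pw hodd (x, y) hP
  have e1 : g * x * g⁻¹ = QuotientGroup.mk (qi F) := congrArg Prod.fst hg
  have e2 : g * y * g⁻¹ = QuotientGroup.mk (qj p r hpr) := congrArg Prod.snd hg
  -- the conjugated automorphism
  obtain ⟨α', hα'⟩ : ∃ α' : MulAut (PSL2 F), α' = MulAut.conj g * α * (MulAut.conj g)⁻¹ := ⟨_, rfl⟩
  have hα'k : α' ^ (2 ^ k) = 1 := by
    rw [hα', conj_pow, hα, mul_one, mul_inv_cancel]
  have hα'fix : ∀ w ∈ W, α' (g * w * g⁻¹) = g * w * g⁻¹ := by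
    intro w hw
    rw [hα']
    simp only [MulAut.mul_apply, MulAut.conj_inv_apply, MulAut.conj_apply]
    have : g⁻¹ * (g * w * g⁻¹) * g = w := by group
    rw [this, hfix w hw]
  obtain ⟨A, hA⟩ := ha α' k hα'k
  have f1 : cG F A (QuotientGroup.mk (qi F)) = QuotientGroup.mk (qi F) := by
    rw [hA, ← e1]; exact hα'fix x hxW
  have f2 : cG F A (QuotientGroup.mk (qj p r hpr)) = QuotientGroup.mk (qj p r hpr) := by
    rw [hA, ← e2]; exact hα'fix y hyW
  obtain ⟨v', hv', hconj⟩ := hb h2 p r hpr A f1 f2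
  rw [hA] at hconj
  refine ⟨g⁻¹ * v' * g, ?_, ?_⟩
  · -- membership
    rw [mem_kvP] at hv'
    have hW1 : (1 : PSL2 F) ∈ W := one_mem (W : Subgroup (PSL2 F))
    have hxy : x * y ∈ W := mul_mem (s := (W : Subgroup (PSL2 F))) hxW hyW
    rcases hv' with h | h | h | h
    · rw [h]; simpa using hW1
    · have : g⁻¹ * v' * g = x := by
        rw [h]; show g⁻¹ * (QuotientGroup.mk (qi F)) * g = x
        rw [← e1]; group
      rw [this]; exact hxW
    · have : g⁻¹ * v' * g = y := by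
        rw [h]; show g⁻¹ * (QuotientGroup.mk (qj p r hpr)) * g = y
        rw [← e2]; group
      rw [this]; exact hyW
    · have : g⁻¹ * v' * g = x * y := by
        rw [h]; show g⁻¹ * ((QuotientGroup.mk (qi F)) * (QuotientGroup.mk (qj p r hpr))) * g = x * y
        rw [← e1, ← e2]; group
      rw [this]; exact hxy
  · intro z
    have h1 : α = (MulAut.conj g)⁻¹ * α' * MulAut.conj g := by rw [hα']; group
    rw [h1]
    simp only [MulAut.mul_apply, MulAut.conj_inv_apply, MulAut.conj_apply]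
    rw [hconj]
    group

end psl

section transport
variable {F : Type*} [Field F] [Fintype F] {N : Type*} [Group N]

/-- `P2` from `P2a` and `P2b` -/
theorem P2_of (hq : Fintype.card F % 8 = 3 ∨ Fintype.card F % 8 = 5)
    (ha : P2aStatement F) (hb : P2bStatement F) (e : N ≃* PSL2 F)
    (V : Sylow 2 N) (α : N ≃* N) (k : ℕ) (hα : α ^ (2 ^ k) = 1) (hfix : ∀ v ∈ V, α v = v) :
    ∃ v ∈ V, ∀ x : N, α x = v * x * v⁻¹ := by
  -- transported automorphism
  let α0 : MulAut (PSL2 F) := (e.symm.trans α).trans e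
  have hα0 : ∀ z, α0 z = e (α (e.symm z)) := fun z => rfl
  have hpow : ∀ n : ℕ, ∀ z, (α0 ^ n) z = e ((α ^ n) (e.symm z)) := by
    intro n
    induction n with
    | zero => intro z; simp
    | succ n ih =>
      intro z
      rw [pow_succ, pow_succ, MulAut.mul_apply, MulAut.mul_apply, ih, hα0, MulEquiv.symm_apply_apply]
  have hα0k : α0 ^ (2 ^ k) = 1 := by
    ext z
    rw [hpow, hα]
    simp
  let W : Sylow 2 (PSL2 F) := Cfsg.Agent.Lib.Helper7.JRklein.transportSylow e V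
  have hW : ∀ z, z ∈ W ↔ e.symm z ∈ V := fun z => Iff.rfl
  have hfix0 : ∀ w ∈ W, α0 w = w := by
    intro w hw
    rw [hα0, hfix _ ((hW w).1 hw), MulEquiv.apply_symm_apply]
  obtain ⟨v0, hv0, hconj⟩ := P2_psl hq ha hb W α0 k hα0k hfix0
  refine ⟨e.symm v0, (hW v0).1 hv0, fun x => ?_⟩
  have := hconj (e x)
  rw [hα0, MulEquiv.symm_apply_apply] at this
  apply e.injective
  rw [this, map_mul, map_mul, map_inv, MulEquiv.apply_symm_apply]

end transport

end Cfsg.Agent.Lib.Helper9.JRP2c
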