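import Mathlib
import Cfsg.Agent.Lib.Helper3.MSDefs
import Cfsg.Agent.Lib.Helper8.MSB2

/-! S4125 MS farm, piece G3: `orbit_faithful`, `orbit_sum_zero`. -/

set_option autoImplicit false
set_option linter.unusedVariables false
set_option linter.unusedSectionVars false
set_option linter.style.longLine false

namespace Cfsg.Agent.Lib.Helper3.MS

universe u v

variable {p q : ℕ} {H : Type u} [Group H] {V : Type v} [AddCommGroup V] [DistribMulAction H V]

theorem MinCE.orbit_faithful (h : MinCE p q H V) (v0 : V) (hv0 : v0 ≠ 0) (x : H)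
    (hx : ∀ y : H, x • (y • v0) = y • v0) : x = 1 := by
  set W : AddSubgroup V := AddSubgroup.closure (MulAction.orbit H v0) with hW
  have hinv : ∀ y : H, ∀ w ∈ W, y • w ∈ W := by
    intro y w hw
    induction hw using AddSubgroup.closure_induction with
    | mem w hw =>
      obtain ⟨z, rfl⟩ := hw
      exact AddSubgroup.subset_closure ⟨y * z, mul_smul y z v0⟩
    | zero => rw [smul_zero]; exact W.zero_mem
    | add a b _ _ ha hb => rw [smul_add]; exact W.add_mem ha hb
    | neg a _ ha => rw [smul_neg]; exact W.neg_mem ha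
  have hv0W : v0 ∈ W := AddSubgroup.subset_closure ⟨1, one_smul _ _⟩
  have htop : W = ⊤ := by
    rcases h.irred W hinv with hbot | htop
    · exfalso
      rw [hbot] at hv0W
      exact hv0 (AddSubgroup.mem_bot.mp hv0W)
    · exact htop
  have hle : W ≤ fixedPts (V := V) x := by
    rw [hW, AddSubgroup.closure_le]
    rintro _ ⟨y, rfl⟩
    exact hx y
  apply h.faithful
  intro v
  have : v ∈ W := by rw [htop]; exact AddSubgroup.mem_top v
  exact hle this

theorem MinCE.orbit_sum_zero (h : MinCE p q H V) [Finite V] (v0 : V) : ∑ u ∈ orb H v0, u = 0 := by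
  apply h.fixed_all_zero
  intro x
  rw [Finset.smul_sum]
  refine Finset.sum_nbij' (fun u => x • u) (fun u => x⁻¹ • u) ?_ ?_ ?_ ?_ ?_
  · intro u hu
    obtain ⟨y, rfl⟩ := mem_orb.mp hu
    exact mem_orb.mpr ⟨x * y, mul_smul x y v0⟩
  · intro u hu
    obtain ⟨y, rfl⟩ := mem_orb.mp hu
    exact mem_orb.mpr ⟨x⁻¹ * y, mul_smul x⁻¹ y v0⟩
  · intro u _
    exact inv_smul_smul x u
  · intro u _
    exact smul_inv_smul x u
  · intro u _
    rfl

end Cfsg.Agent.Lib.Helper3.MS
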