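import Mathlib
import Cfsg.Agent.Lib.Helper3.MSDefs
import Cfsg.Agent.Lib.Helper8.MSG5
import Cfsg.Agent.Lib.Helper5.MSG6a
import Cfsg.Agent.Lib.Helper9.MSG3

/-! S4125 MS farm, piece G6b: `cyc_two_trans`. -/

set_option autoImplicit false
set_option linter.unusedVariables false
set_option linter.unusedSectionVars false
set_option linter.style.longLine false

namespace Cfsg.Agent.Lib.Helper3.MS

universe u v

variable {p q : ℕ} {H : Type u} [Group H] {V : Type v} [AddCommGroup V] [DistribMulAction H V]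

/-- in a minimal counterexample the Sylow `p`-subgroup is not trivial -/
theorem MinCE.h9_sylow_card (h : MinCE p q H V) [Fact p.Prime] (P : Sylow p H) :
    ∃ k : ℕ, 1 ≤ k ∧ Nat.card ↥(P : Subgroup H) = p ^ k := by
  have hfinH : Finite H := h.finH
  have hp : p.Prime := h.hp
  obtain ⟨k, hk⟩ := IsPGroup.iff_card.mp P.isPGroup'
  refine ⟨k, ?_, hk⟩
  by_contra hk0
  have hk0' : k = 0 := by omega
  have hcardP : Nat.card ↥(P : Subgroup H) = 1 := by rw [hk, hk0', pow_zero]
  have hPbot : (P : Subgroup H) = ⊥ := Subgroup.card_eq_one.mp hcardP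
  have hnd : ¬ p ∣ Nat.card H := fun hd => P.ne_bot_of_dvd_card hd hPbot
  have hcop : (Nat.card (⊤ : Subgroup H)).Coprime p := by
    rw [Subgroup.card_top]
    exact ((Nat.Prime.coprime_iff_not_dvd hp).mpr hnd).symm
  have := h.normal_coprime_trivial ⊤ inferInstance hcop
  exact h.notSolv (Group.isSolvable_of_top_eq_bot H this)

theorem MinCE.cyc_two_trans (h : MinCE p q H V) [Fact p.Prime] (P : Sylow p H)
    (hcyc : IsCyclic ↥(P : Subgroup H)) (v0 : V) (hv0 : v0 ≠ 0) (u1 u2 u1' u2' : V)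
    (h1 : u1 ∈ MulAction.orbit H v0) (h2 : u2 ∈ MulAction.orbit H v0)
    (h1' : u1' ∈ MulAction.orbit H v0) (h2' : u2' ∈ MulAction.orbit H v0)
    (hne : u1 ≠ u2) (hne' : u1' ≠ u2') : ∃ x : H, x • u1 = u1' ∧ x • u2 = u2' := by
  classical
  have hfinH : Finite H := h.finH
  have hfinV : Finite V := h.finV
  have hp : p.Prime := h.hp
  set Ω := ↥(MulAction.orbit H v0) with hΩ
  have hcardΩ : Nat.card Ω = Nat.card ↥(P : Subgroup H) := by
    rw [← h.cyc_index P hcyc v0 hv0, MulAction.index_stabilizer]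
    exact Nat.card_coe_set_eq _
  obtain ⟨k, hk1, hk⟩ := h.h9_sylow_card P
  have hfaith : ∀ x : H, (∀ ω : Ω, x • ω = ω) → x = 1 := by
    intro x hx
    apply h.orbit_faithful v0 hv0 x
    intro y
    exact congrArg Subtype.val (hx ⟨y • v0, MulAction.mem_orbit v0 y⟩)
  have hcard2 : 1 < Nat.card Ω := by
    rw [hcardΩ, hk]
    exact Nat.one_lt_pow (by omega) hp.one_lt
  have hnt : Nontrivial Ω := Finite.one_lt_card_iff_nontrivial.mp hcard2
  have hstab : MulAction.stabilizer H (⟨v0, MulAction.mem_orbit_self v0⟩ : Ω) =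
      MulAction.stabilizer H v0 := by
    ext x
    rw [MulAction.mem_stabilizer_iff, MulAction.mem_stabilizer_iff, Subtype.ext_iff]
    rfl
  have hcoatom : IsCoatom (MulAction.stabilizer H (⟨v0, MulAction.mem_orbit_self v0⟩ : Ω)) := by
    rw [hstab]
    refine ⟨?_, fun M hM => h.cyc_stab_maximal P hcyc v0 hv0 M hM⟩
    intro htop
    have hidx := h.cyc_index P hcyc v0 hv0
    rw [htop, Subgroup.index_top, hk] at hidx
    have : 1 < p ^ k := Nat.one_lt_pow (by omega) hp.one_lt
    omega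
  have hprim : MulAction.IsPreprimitive H Ω :=
    (MulAction.isCoatom_stabilizer_iff_preprimitive (G := H) (X := Ω) _).mp hcoatom
  obtain ⟨g0, hg0⟩ := hcyc.exists_generator
  have hg : orderOf (g0 : H) = p ^ k := by
    rw [Subgroup.orderOf_coe, orderOf_eq_card_of_forall_mem_zpowers hg0, hk]
  have h2t := two_pretransitive_of_regular_cyclic (H := H) (Ω := Ω) p k hp hk1 (hcardΩ.trans hk)
    hfaith hprim (g0 : H) hg h.notSolv
  have h2t' : ∀ (a b c d : Ω), a ≠ b → c ≠ d → ∃ g : H, g • a = c ∧ g • b = d :=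
    fun a b c d hab hcd => MulAction.is_two_pretransitive_iff.mp h2t hab hcd
  obtain ⟨x, hx1, hx2⟩ := h2t' (⟨u1, h1⟩ : Ω) ⟨u2, h2⟩ ⟨u1', h1'⟩ ⟨u2', h2'⟩
    (fun he => hne (congrArg Subtype.val he)) (fun he => hne' (congrArg Subtype.val he))
  exact ⟨x, congrArg Subtype.val hx1, congrArg Subtype.val hx2⟩

end Cfsg.Agent.Lib.Helper3.MS
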