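import Mathlib
import Cfsg.Agent.Lib.Helper3.MSDefs
import Cfsg.Agent.Lib.Helper9.MSG6b

/-! S4125 MS farm, piece G8: `relations_const`. -/

set_option autoImplicit false
set_option linter.unusedVariables false
set_option linter.unusedSectionVars false
set_option linter.style.longLine false

namespace Cfsg.Agent.Lib.Helper3.MS

universe u v

variable {p q : ℕ} {H : Type u} [Group H] {V : Type v} [AddCommGroup V] [DistribMulAction H V]

/-- averaging a relation over a point stabilizer that is transitive on the other points -/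
theorem h9_ms_rel_key [Finite H] (O : Finset V) (ustar : V) (hustar : ustar ∈ O) (C : Subgroup H)
    (hC : ∀ x ∈ C, x • ustar = ustar)
    (htr : ∀ u ∈ O, u ≠ ustar → ∀ w ∈ O, w ≠ ustar → ∃ y ∈ C, y • u = w)
    (hsum : ∑ u ∈ O, u = 0) (c : V → ℤ) (hc : ∑ u ∈ O, c u • u = 0) :
    ((Nat.card C : ℤ) * ((O.card : ℤ) * c ustar - ∑ u ∈ O, c u)) • ustar = 0 := by
  classical
  have : Fintype ↥C := Fintype.ofFinite _
  set F : V → V := fun u => ∑ x : ↥C, (x : H) • u with hF
  have hFstar : F ustar = (Nat.card C : ℤ) • ustar := by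
    simp only [hF]
    rw [Finset.sum_congr rfl (fun (x : ↥C) _ => hC (x : H) x.2), Finset.sum_const, Finset.card_univ,
      Nat.card_eq_fintype_card]
    exact (natCast_zsmul _ _).symm
  have hFinv : ∀ y ∈ C, ∀ u, F (y • u) = F u := by
    intro y hy u
    simp only [hF]
    calc ∑ x : ↥C, (x : H) • y • u
        = ∑ x : ↥C, (((Equiv.mulRight (⟨y, hy⟩ : ↥C)) x : ↥C) : H) • u := by
          apply Finset.sum_congr rfl
          intro x _
          rw [← mul_smul]
          rfl
      _ = ∑ x : ↥C, (x : H) • u :=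
          Equiv.sum_comp (Equiv.mulRight (⟨y, hy⟩ : ↥C)) (fun x : ↥C => (x : H) • u)
  have hFeq : ∀ u ∈ O, u ≠ ustar → ∀ w ∈ O, w ≠ ustar → F w = F u := by
    intro u hu hune w hw hwne
    obtain ⟨y, hy, rfl⟩ := htr u hu hune w hw hwne
    exact hFinv y hy u
  have hd : ∑ u ∈ O, F u = 0 := by
    simp only [hF]
    rw [Finset.sum_comm]
    apply Finset.sum_eq_zero
    intro x _
    rw [← Finset.smul_sum, hsum, smul_zero]
  have he : ∑ u ∈ O, c u • F u = 0 := by
    simp only [hF]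
    have : ∀ u ∈ O, c u • ∑ x : ↥C, (x : H) • u = ∑ x : ↥C, (x : H) • (c u • u) := by
      intro u _
      rw [Finset.smul_sum]
      apply Finset.sum_congr rfl
      intro x _
      exact (smul_comm _ _ _)
    rw [Finset.sum_congr rfl this, Finset.sum_comm]
    apply Finset.sum_eq_zero
    intro x _
    rw [← Finset.smul_sum, hc, smul_zero]
  -- the common value on `O.erase ustar`
  set E := O.erase ustar with hE
  obtain ⟨F1, hF1⟩ : ∃ F1 : V, ∀ u ∈ E, F u = F1 := by
    by_cases hne : E.Nonempty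
    · obtain ⟨w0, hw0⟩ := hne
      refine ⟨F w0, fun u hu => ?_⟩
      exact hFeq w0 (Finset.mem_of_mem_erase hw0) (Finset.ne_of_mem_erase hw0) u
        (Finset.mem_of_mem_erase hu) (Finset.ne_of_mem_erase hu)
    · rw [Finset.not_nonempty_iff_eq_empty] at hne
      exact ⟨0, fun u hu => by rw [hne] at hu; simp at hu⟩
  have h1 : (Nat.card C : ℤ) • ustar + (E.card : ℤ) • F1 = 0 := by
    rw [← Finset.add_sum_erase O F hustar, hFstar, Finset.sum_congr rfl hF1, Finset.sum_const] at hd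
    rw [← natCast_zsmul] at hd
    exact hd
  have h2 : (c ustar * (Nat.card C : ℤ)) • ustar + (∑ u ∈ E, c u) • F1 = 0 := by
    rw [← Finset.add_sum_erase O (fun u => c u • F u) hustar] at he
    rw [hFstar, Finset.sum_congr rfl (fun u hu => by rw [hF1 u hu]), ← Finset.sum_smul, smul_smul] at he
    exact he
  have hcard : (O.card : ℤ) = (E.card : ℤ) + 1 := by
    rw [hE, Finset.card_erase_of_mem hustar]
    have : 1 ≤ O.card := Finset.card_pos.mpr ⟨ustar, hustar⟩
    push_cast [Nat.cast_sub this]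
    ring
  have hS : ∑ u ∈ O, c u = c ustar + ∑ u ∈ E, c u := (Finset.add_sum_erase O c hustar).symm
  rw [hcard, hS]
  have : ((Nat.card C : ℤ) * (((E.card : ℤ) + 1) * c ustar - (c ustar + ∑ u ∈ E, c u))) • ustar
      = (E.card : ℤ) • ((c ustar * (Nat.card C : ℤ)) • ustar + (∑ u ∈ E, c u) • F1)
        - (∑ u ∈ E, c u) • ((Nat.card C : ℤ) • ustar + (E.card : ℤ) • F1) := by
    module
  rw [this, h1, h2, smul_zero, smul_zero, sub_zero]

theorem h9_ms_orb_card [Finite H] [Finite V] (v0 : V) :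
    (orb H v0).card = (MulAction.stabilizer H v0).index := by
  rw [MulAction.index_stabilizer]
  unfold orb
  exact (Set.ncard_eq_toFinset_card _ _).symm

theorem h9_ms_mem_orbit_of_mem_orb [Finite V] {v0 u : V} (hu : u ∈ orb H v0) :
    u ∈ MulAction.orbit H v0 := by
  obtain ⟨x, hx⟩ := mem_orb.mp hu
  exact ⟨x, hx⟩

/-- the key divisibility, for one point of the orbit -/
theorem h9_ms_rel_dvd (h : MinCE p q H V) [Fact p.Prime] [Finite V] (P : Sylow p H)
    (hcyc : IsCyclic ↥(P : Subgroup H)) (v0 : V) (hv0 : v0 ≠ 0) (c : V → ℤ)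
    (hc : ∑ u ∈ orb H v0, c u • u = 0) (ustar : V) (hu : ustar ∈ orb H v0) :
    (q : ℤ) ∣ ((orb H v0).card : ℤ) * c ustar - ∑ u ∈ orb H v0, c u := by
  have hfin : Finite H := h.finH
  have hq : q.Prime := h.hq
  set C : Subgroup H := MulAction.stabilizer H ustar with hCdef
  have hkey := h9_ms_rel_key (orb H v0) ustar hu C
    (fun x hx => MulAction.mem_stabilizer_iff.mp hx)
    (fun u1 hu1 hne1 w hw hnew => by
      obtain ⟨x, hx1, hx2⟩ := h.cyc_two_trans P hcyc v0 hv0 ustar u1 ustar w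
        (h9_ms_mem_orbit_of_mem_orb hu) (h9_ms_mem_orbit_of_mem_orb hu1)
        (h9_ms_mem_orbit_of_mem_orb hu) (h9_ms_mem_orbit_of_mem_orb hw) (Ne.symm hne1) (Ne.symm hnew)
      exact ⟨x, MulAction.mem_stabilizer_iff.mpr hx1, hx2⟩)
    (h.orbit_sum_zero v0) c hc
  -- ustar has additive order q
  have hne0 : ustar ≠ 0 := by
    obtain ⟨x, rfl⟩ := mem_orb.mp hu
    exact (smul_ne_zero_iff_ne x).mpr hv0
  have hord : addOrderOf ustar = q := by
    haveI : Fact q.Prime := ⟨hq⟩
    exact addOrderOf_eq_prime (h.nsmul_q ustar) hne0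
  have hdvd : (q : ℤ) ∣ (Nat.card C : ℤ) * (((orb H v0).card : ℤ) * c ustar - ∑ u ∈ orb H v0, c u) := by
    rw [← hord]
    exact addOrderOf_dvd_iff_zsmul_eq_zero.mpr hkey
  have hcop : IsCoprime (q : ℤ) (Nat.card C : ℤ) := by
    rw [Nat.isCoprime_iff_coprime]
    exact (Nat.Coprime.coprime_dvd_left (Subgroup.card_subgroup_dvd_card C) h.cop).symm
  exact hcop.dvd_of_dvd_mul_left hdvd

theorem MinCE.relations_const (h : MinCE p q H V) [Fact p.Prime] [Finite V] (P : Sylow p H)
    (hcyc : IsCyclic ↥(P : Subgroup H)) (v0 : V) (hv0 : v0 ≠ 0) (c : V → ℤ)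
    (hc : ∑ u ∈ orb H v0, c u • u = 0) (u u' : V) (hu : u ∈ orb H v0) (hu' : u' ∈ orb H v0) :
    (q : ℤ) ∣ c u - c u' := by
  have hfin : Finite H := h.finH
  have h1 := h9_ms_rel_dvd h P hcyc v0 hv0 c hc u hu
  have h2 := h9_ms_rel_dvd h P hcyc v0 hv0 c hc u' hu'
  have h3 : (q : ℤ) ∣ ((orb H v0).card : ℤ) * (c u - c u') := by
    have := dvd_sub h1 h2
    have e : ((orb H v0).card : ℤ) * c u - ∑ u ∈ orb H v0, c u -
        (((orb H v0).card : ℤ) * c u' - ∑ u ∈ orb H v0, c u) = ((orb H v0).card : ℤ) * (c u - c u') := by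
      ring
    rwa [e] at this
  have hcop : IsCoprime (q : ℤ) ((orb H v0).card : ℤ) := by
    rw [Nat.isCoprime_iff_coprime, h9_ms_orb_card]
    exact (Nat.Coprime.coprime_dvd_left (Subgroup.index_dvd_card _) h.cop).symm
  exact hcop.dvd_of_dvd_mul_left h3

end Cfsg.Agent.Lib.Helper3.MS
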