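import Mathlib
import Cfsg.Agent.Lib.Helper3.MSDefs
import Cfsg.Agent.Lib.Helper9.MSG8

/-! S4125 MS farm, piece G9: `stab_diff`. -/

set_option autoImplicit false
set_option linter.unusedVariables false
set_option linter.unusedSectionVars false
set_option linter.style.longLine false

namespace Cfsg.Agent.Lib.Helper3.MS

universe u v

variable {p q : ℕ} {H : Type u} [Group H] {V : Type v} [AddCommGroup V] [DistribMulAction H V]

theorem h9_ms_sum_ind_smul (O : Finset V) (a : V) (ha : a ∈ O) [DecidableEq V] :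
    ∑ u ∈ O, (if u = a then (1 : ℤ) else 0) • u = a := by
  simp [ite_smul, Finset.sum_ite_eq', ha]

theorem h9_ms_sum_ind (O : Finset V) (a : V) (ha : a ∈ O) [DecidableEq V] :
    ∑ u ∈ O, (if u = a then (1 : ℤ) else 0) = 1 := by
  simp [Finset.sum_ite_eq', ha]

theorem h9_ms_smul_mem_orb [Finite V] {v0 u : V} (hu : u ∈ orb H v0) (x : H) : x • u ∈ orb H v0 := by
  obtain ⟨y, rfl⟩ := mem_orb.mp hu
  exact mem_orb.mpr ⟨x * y, mul_smul x y v0⟩

theorem MinCE.stab_diff (h : MinCE p q H V) [Fact p.Prime] [Finite V] (P : Sylow p H)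
    (hcyc : IsCyclic ↥(P : Subgroup H)) (v0 : V) (hv0 : v0 ≠ 0) (u1 u2 : V)
    (h1 : u1 ∈ orb H v0) (h2 : u2 ∈ orb H v0) (hne : u1 ≠ u2) (x : H)
    (hx : x • (u1 - u2) = u1 - u2) :
    (x • u1 = u1 ∧ x • u2 = u2) ∨ (x • u1 = u2 ∧ x • u2 = u1) := by
  classical
  have hfin : Finite H := h.finH
  have hq : q.Prime := h.hq
  have hx1 : x • u1 ∈ orb H v0 := h9_ms_smul_mem_orb h1 x
  have hx2 : x • u2 ∈ orb H v0 := h9_ms_smul_mem_orb h2 x
  set c : V → ℤ := fun u => (if u = x • u1 then (1 : ℤ) else 0) - (if u = x • u2 then (1 : ℤ) else 0)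
    - (if u = u1 then (1 : ℤ) else 0) + (if u = u2 then (1 : ℤ) else 0) with hc
  have hrel : ∑ u ∈ orb H v0, c u • u = 0 := by
    simp only [hc, add_smul, sub_smul, Finset.sum_add_distrib, Finset.sum_sub_distrib]
    rw [h9_ms_sum_ind_smul _ _ hx1, h9_ms_sum_ind_smul _ _ hx2, h9_ms_sum_ind_smul _ _ h1,
      h9_ms_sum_ind_smul _ _ h2]
    rw [smul_sub] at hx
    rw [hx]; abel
  have hsum : ∑ u ∈ orb H v0, c u = 0 := by
    simp only [hc, Finset.sum_add_distrib, Finset.sum_sub_distrib]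
    rw [h9_ms_sum_ind _ _ hx1, h9_ms_sum_ind _ _ hx2, h9_ms_sum_ind _ _ h1, h9_ms_sum_ind _ _ h2]
    ring
  have hcop : IsCoprime (q : ℤ) ((orb H v0).card : ℤ) := by
    rw [Nat.isCoprime_iff_coprime, h9_ms_orb_card]
    exact (Nat.Coprime.coprime_dvd_left (Subgroup.index_dvd_card _) h.cop).symm
  have hdvd : ∀ u ∈ orb H v0, (q : ℤ) ∣ c u := by
    intro u hu
    have := h9_ms_rel_dvd h P hcyc v0 hv0 c hrel u hu
    rw [hsum, sub_zero] at this
    exact hcop.dvd_of_dvd_mul_left this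
  have hq2 : (2 : ℤ) ≤ q := by exact_mod_cast hq.two_le
  have hnot1 : ¬ (q : ℤ) ∣ 1 := by
    intro hd
    have := Int.le_of_dvd one_pos hd
    omega
  have hnotm1 : ¬ (q : ℤ) ∣ -1 := by
    intro hd
    exact hnot1 ((dvd_neg).mp hd)
  have hinj : x • u1 ≠ x • u2 := fun he => hne (smul_left_cancel x he)
  have d1 := hdvd u1 h1
  have d2 := hdvd u2 h2
  simp only [hc] at d1 d2
  rw [if_pos trivial, if_neg hne] at d1
  rw [if_pos trivial, if_neg (Ne.symm hne)] at d2
  by_cases hA : x • u1 = u1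
  · left
    refine ⟨hA, ?_⟩
    by_contra hB
    have e1 : u2 ≠ x • u1 := by rw [hA]; exact Ne.symm hne
    rw [if_neg e1, if_neg (Ne.symm hB)] at d2
    norm_num at d2
    exact hnot1 d2
  · right
    by_cases hB : x • u2 = u1
    · refine ⟨?_, hB⟩
      by_contra hA'
      have e2 : u2 ≠ x • u2 := by rw [hB]; exact Ne.symm hne
      rw [if_neg (Ne.symm hA'), if_neg e2] at d2
      norm_num at d2
      exact hnot1 d2
    · exfalso
      rw [if_neg (Ne.symm hA), if_neg (Ne.symm hB)] at d1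
      norm_num at d1
      exact hnot1 d1

end Cfsg.Agent.Lib.Helper3.MS
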