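import Mathlib
import Cfsg.Agent.Lib.Helper3.MSDefs
import Cfsg.Agent.Lib.Helper9.MSD2c
import Cfsg.Agent.Lib.Helper9.MSG9

/-! S4125 MS farm, piece G10: `cyc_card_le`. -/

set_option autoImplicit false
set_option linter.unusedVariables false
set_option linter.unusedSectionVars false
set_option linter.style.longLine false

namespace Cfsg.Agent.Lib.Helper3.MS

universe u v

variable {p q : ℕ} {H : Type u} [Group H] {V : Type v} [AddCommGroup V] [DistribMulAction H V]

theorem h9_ms_choose_two_dvd (N : ℕ) (hd : N.choose 2 ∣ N) : N ≤ 3 := by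
  by_contra hlt
  push Not at hlt
  obtain ⟨n, rfl⟩ : ∃ n, N = n + 1 := ⟨N - 1, by omega⟩
  have h1 : (n + 1) * n = (n + 1).choose 2 * 2 := by
    have := Nat.add_one_mul_choose_eq n 1
    rw [Nat.choose_one_right] at this
    exact this
  have hpos : 0 < n + 1 := Nat.succ_pos n
  have hle : (n + 1).choose 2 ≤ n + 1 := Nat.le_of_dvd hpos hd
  have : (n + 1) * n ≤ (n + 1) * 2 := by
    rw [h1]
    exact Nat.mul_le_mul_right 2 hle
  have : n ≤ 2 := Nat.le_of_mul_le_mul_left this hpos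
  omega

theorem MinCE.cyc_card_le (h : MinCE p q H V) [Fact p.Prime] (P : Sylow p H)
    (hcyc : IsCyclic ↥(P : Subgroup H)) : Nat.card ↥(P : Subgroup H) ≤ 3 := by
  classical
  have hfinH : Finite H := h.finH
  have hfinV : Finite V := h.finV
  obtain ⟨v0, hv0⟩ := h.nontrivialV
  by_contra hlt
  push Not at hlt
  -- the orbit has card P elements
  have hN : (orb H v0).card = Nat.card ↥(P : Subgroup H) := by
    rw [h9_ms_orb_card, h.cyc_index P hcyc v0 hv0]
  have hv0mem : v0 ∈ orb H v0 := mem_orb.mpr ⟨1, one_smul _ _⟩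
  -- a second point
  obtain ⟨u2, hu2, hne⟩ : ∃ u2 ∈ orb H v0, v0 ≠ u2 := by
    have : 1 < (orb H v0).card := by rw [hN]; omega
    obtain ⟨a, ha, b, hb, hab⟩ := Finset.one_lt_card.mp this
    by_cases hav : a = v0
    · exact ⟨b, hb, by rw [← hav]; exact hab⟩
    · exact ⟨a, ha, Ne.symm hav⟩
  set Ω := ↥(MulAction.orbit H v0) with hΩ
  have : Fintype Ω := Fintype.ofFinite _
  let φ : H →* Equiv.Perm Ω := MulAction.toPermHom H Ω
  have hφ : ∀ (x : H) (ω : Ω), ((φ x ω : Ω) : V) = x • (ω : V) := fun x ω => rfl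
  have h2 : ∀ i i' j j' : Ω, i ≠ i' → j ≠ j' → ∃ x : H, φ x i = j ∧ φ x i' = j' := by
    intro i i' j j' hii hjj
    obtain ⟨x, hx1, hx2⟩ := h.cyc_two_trans P hcyc v0 hv0 i.1 i'.1 j.1 j'.1 i.2 i'.2 j.2 j'.2
      (fun he => hii (Subtype.ext he)) (fun he => hjj (Subtype.ext he))
    exact ⟨x, Subtype.ext (by rw [hφ]; exact hx1), Subtype.ext (by rw [hφ]; exact hx2)⟩
  set S : Subgroup H := MulAction.stabilizer H (v0 - u2) with hS
  have hdiff : v0 - u2 ≠ 0 := sub_ne_zero.mpr hne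
  have hSidx : S.index = Nat.card ↥(P : Subgroup H) := h.cyc_index P hcyc (v0 - u2) hdiff
  have hcard : Fintype.card Ω = Nat.card ↥(P : Subgroup H) := by
    rw [← Nat.card_eq_fintype_card, hΩ, ← hN, h9_ms_orb_card, MulAction.index_stabilizer]
    exact Nat.card_coe_set_eq _
  have hd := pair_index_dvd φ h2 S ⟨v0, h9_ms_mem_orbit_of_mem_orb hv0mem⟩
    ⟨u2, h9_ms_mem_orbit_of_mem_orb hu2⟩ (fun he => hne (congrArg Subtype.val he))
    (fun x hx => by
      have hx' : x • (v0 - u2) = v0 - u2 := MulAction.mem_stabilizer_iff.mp hx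
      rcases h.stab_diff P hcyc v0 hv0 v0 u2 hv0mem hu2 hne x hx' with ⟨e1, e2⟩ | ⟨e1, e2⟩
      · left
        exact ⟨Subtype.ext (by rw [hφ]; exact e1), Subtype.ext (by rw [hφ]; exact e2)⟩
      · right
        exact ⟨Subtype.ext (by rw [hφ]; exact e1), Subtype.ext (by rw [hφ]; exact e2)⟩)
  rw [hcard, hSidx] at hd
  have := h9_ms_choose_two_dvd _ hd
  omega

end Cfsg.Agent.Lib.Helper3.MS
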