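import Mathlib
import Cfsg.Agent.Lib.Helper3.MSDefs
import Cfsg.Agent.Lib.Helper1.Dv8
import Cfsg.Agent.Lib.Helper9.MSG10

/-! S4125 MS farm, piece G11: `cyclic_false`. -/

set_option autoImplicit false
set_option linter.unusedVariables false
set_option linter.unusedSectionVars false
set_option linter.style.longLine false

namespace Cfsg.Agent.Lib.Helper3.MS

universe u v

variable {p q : ℕ} {H : Type u} [Group H] {V : Type v} [AddCommGroup V] [DistribMulAction H V]

theorem MinCE.cyclic_false (h : MinCE p q H V) [Fact p.Prime] (P : Sylow p H)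
    (hcyc : IsCyclic ↥(P : Subgroup H)) : False := by
  classical
  have hfinH : Finite H := h.finH
  have hfinV : Finite V := h.finV
  obtain ⟨v0, hv0⟩ := h.nontrivialV
  set Ω := ↥(MulAction.orbit H v0) with hΩ
  have : Fintype Ω := Fintype.ofFinite _
  have hcardΩ : Fintype.card Ω ≤ 4 := by
    rw [← Nat.card_eq_fintype_card]
    have : Nat.card Ω = Nat.card ↥(P : Subgroup H) := by
      rw [← h.cyc_index P hcyc v0 hv0, MulAction.index_stabilizer]
      exact Nat.card_coe_set_eq _
    rw [this]
    have := h.cyc_card_le P hcyc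
    omega
  have hsolv : Group.IsSolvable (Equiv.Perm Ω) :=
    Cfsg.Agent.Lib.Helper1.Dv.perm_solvable_le_four hcardΩ
  have hinj : Function.Injective (MulAction.toPermHom H Ω) := by
    rw [injective_iff_map_eq_one]
    intro x hx
    apply h.orbit_faithful v0 hv0 x
    intro y
    have := congrArg (fun σ : Equiv.Perm Ω => ((σ ⟨y • v0, MulAction.mem_orbit v0 y⟩ : Ω) : V)) hx
    exact this
  exact h.notSolv (Group.isSolvable_of_isSolvable_injective hinj)

end Cfsg.Agent.Lib.Helper3.MS
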