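import Mathlib
import Cfsg.Agent.Lib.Helper3.MinDegDefs
set_option autoImplicit false
set_option linter.unusedVariables false
set_option linter.unusedSectionVars false
set_option linter.style.longLine false
open Matrix

namespace Cfsg.Agent.Lib.Helper9.MinDeg

open Cfsg.Agent.Lib.Helper3.MinDeg

variable {F : Type*} [Field F] {k : ℕ}

/-- `qel r * levS A = levS A * qel (r A)` -/
theorem qel_mul_levS (r : Fin k → F) (A : Matrix.SpecialLinearGroup (Fin k) F) :
    qel r * levS A = levS A * qel (r ᵥ* (A : Matrix (Fin k) (Fin k) F)) := by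
  apply sl_ext
  rw [Matrix.SpecialLinearGroup.coe_mul, Matrix.SpecialLinearGroup.coe_mul, qel_coe, qel_coe,
    levS_coe, fromBlocks_multiply, fromBlocks_multiply]
  congr 1
  · simp
  · simp
    ext i j
    simp [Matrix.mul_apply, Matrix.vecMul, dotProduct]
  · simp
  · simp

/-- `qel r * lev B = lev B * qel (det B • r B)` -/
theorem qel_mul_lev (r : Fin k → F) {B : Matrix (Fin k) (Fin k) F} (hB : B.det ≠ 0) :
    qel r * lev B = lev B * qel (B.det • (r ᵥ* B)) := by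
  apply sl_ext
  rw [Matrix.SpecialLinearGroup.coe_mul, Matrix.SpecialLinearGroup.coe_mul, qel_coe, qel_coe,
    lev_coe hB, fromBlocks_multiply, fromBlocks_multiply]
  congr 1
  · simp
  · simp
    ext i j
    simp [Matrix.mul_apply, Matrix.vecMul, dotProduct, Finset.mul_sum, hB]
  · simp
  · simp

/-- `levS` is multiplicative -/
theorem levS_mul' (A B : Matrix.SpecialLinearGroup (Fin k) F) :
    (levS (A * B) : Matrix.SpecialLinearGroup (Idx k) F) = levS A * levS B := by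
  apply sl_ext
  rw [Matrix.SpecialLinearGroup.coe_mul, levS_coe, levS_coe, levS_coe, fromBlocks_multiply,
    Matrix.SpecialLinearGroup.coe_mul]
  simp

/-- `qel r` is the transvection `tv e0 (ext0 r)` -/
theorem ext0_dot_e0 (r : Fin k → F) : (ext0 r : Idx k → F) ⬝ᵥ e0 = 0 := by
  simp [ext0, e0, dotProduct, Fintype.sum_sum_type]

theorem qel_eq_tv' (r : Fin k → F) :
    (qel r : Matrix.SpecialLinearGroup (Idx k) F) = tv e0 (ext0 r) := by
  apply sl_ext
  rw [qel_coe, tv_coe (ext0_dot_e0 r)]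
  ext i j
  rcases i with i | i <;> rcases j with j | j <;>
    simp [Matrix.one_apply, vecMulVec_apply, e0, ext0, fromBlocks]

/-! ### transvections of `SL_k` -/

section tvk
variable {ι : Type*} [DecidableEq ι] [Fintype ι]

theorem vecMul_tv {w ψ : ι → F} (h : ψ ⬝ᵥ w = 0) (r : ι → F) :
    r ᵥ* ((tv w ψ : Matrix.SpecialLinearGroup ι F) : Matrix ι ι F) = r + (r ⬝ᵥ w) • ψ := by
  rw [tv_coe h, Matrix.vecMul_add, Matrix.vecMul_one, Matrix.vecMul_vecMulVec]

theorem tv_mul_comm {w ψ w' ψ' : ι → F} (h : ψ ⬝ᵥ w = 0) (h' : ψ' ⬝ᵥ w' = 0)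
    (h1 : ψ ⬝ᵥ w' = 0) (h2 : ψ' ⬝ᵥ w = 0) :
    (tv w ψ * tv w' ψ' : Matrix.SpecialLinearGroup ι F) = tv w' ψ' * tv w ψ := by
  apply sl_ext
  rw [Matrix.SpecialLinearGroup.coe_mul, Matrix.SpecialLinearGroup.coe_mul, tv_coe h, tv_coe h']
  simp only [Matrix.add_mul, Matrix.mul_add, Matrix.one_mul, Matrix.mul_one,
    Matrix.vecMulVec_mul_vecMulVec, h1, h2, zero_smul]
  have hz : ∀ u : ι → F, vecMulVec u (0 : ι → F) = 0 := by
    intro u; ext i j; simp [vecMulVec_apply]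
  rw [hz, hz]
  abel

end tvk

/-! ### the complement `H` of `Q` -/

section beta

variable (H : Subgroup (Matrix.SpecialLinearGroup (Idx k) F))

/-- uniqueness of the `Q`-part on the right -/
theorem right_unique
    (h2 : ∀ u φ : Idx k → F, φ ⬝ᵥ u = 0 → tv u φ ∈ H → tv u φ = 1)
    (g : Matrix.SpecialLinearGroup (Idx k) F) (x y : Fin k → F)
    (hx : g * qel x ∈ H) (hy : g * qel y ∈ H) : x = y := by
  have hm : (qel (y - x) : Matrix.SpecialLinearGroup (Idx k) F) ∈ H := by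
    have e : (qel (y - x) : Matrix.SpecialLinearGroup (Idx k) F) = (g * qel x)⁻¹ * (g * qel y) := by
      rw [sub_eq_add_neg, add_comm, qel_add, qel_neg]
      group
    rw [e]
    exact H.mul_mem (H.inv_mem hx) hy
  rw [qel_eq_tv'] at hm
  have h := h2 _ _ (ext0_dot_e0 _) hm
  rw [← qel_eq_tv', ← qel_zero] at h
  have := qel_injective h
  exact (sub_eq_zero.1 this).symm

theorem exists_right_levS
    (h1 : ∀ g : Matrix.SpecialLinearGroup (Idx k) F, ∃ r : Fin k → F, qel r * g ∈ H)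
    (A : Matrix.SpecialLinearGroup (Fin k) F) : ∃ a : Fin k → F, levS A * qel a ∈ H := by
  obtain ⟨r, hr⟩ := h1 (levS A)
  rw [qel_mul_levS] at hr
  exact ⟨_, hr⟩

theorem exists_right_lev
    (h1 : ∀ g : Matrix.SpecialLinearGroup (Idx k) F, ∃ r : Fin k → F, qel r * g ∈ H)
    {B : Matrix (Fin k) (Fin k) F} (hB : B.det ≠ 0) : ∃ s : Fin k → F, lev B * qel s ∈ H := by
  obtain ⟨r, hr⟩ := h1 (lev B)
  rw [qel_mul_lev r hB] at hr
  exact ⟨_, hr⟩

/-- cocycle identity `ρ(AB) = ρ(A) B + ρ(B)` -/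
theorem right_mul (A B : Matrix.SpecialLinearGroup (Fin k) F) (a b : Fin k → F)
    (ha : levS A * qel a ∈ H) (hb : levS B * qel b ∈ H) :
    levS (A * B) * qel (a ᵥ* (B : Matrix (Fin k) (Fin k) F) + b) ∈ H := by
  have e : levS (A * B) * qel (a ᵥ* (B : Matrix (Fin k) (Fin k) F) + b)
      = (levS A * qel a) * (levS B * qel b) := by
    rw [levS_mul', qel_add, mul_assoc (levS A) (qel a), ← mul_assoc (qel a), qel_mul_levS]
    group
  rw [e]
  exact H.mul_mem ha hb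

/-- two commuting transvections of `SL_k` -/
theorem comm_rel
    (h2 : ∀ u φ : Idx k → F, φ ⬝ᵥ u = 0 → tv u φ ∈ H → tv u φ = 1)
    {w ψ w' ψ' : Fin k → F} (h : ψ ⬝ᵥ w = 0) (h' : ψ' ⬝ᵥ w' = 0)
    (hc1 : ψ ⬝ᵥ w' = 0) (hc2 : ψ' ⬝ᵥ w = 0) (a b : Fin k → F)
    (ha : levS (tv w ψ) * qel a ∈ H) (hb : levS (tv w' ψ') * qel b ∈ H) :
    (a ⬝ᵥ w') • ψ' = (b ⬝ᵥ w) • ψ := by
  have m1 := right_mul H _ _ a b ha hb
  have m2 := right_mul H _ _ b a hb ha
  rw [tv_mul_comm h h' hc1 hc2] at m1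
  have e := right_unique H h2 _ _ _ m1 m2
  rw [vecMul_tv h', vecMul_tv h] at e
  have : a + (a ⬝ᵥ w') • ψ' + b = a + b + (a ⬝ᵥ w') • ψ' := by abel
  rw [this] at e
  have : b + (b ⬝ᵥ w) • ψ + a = a + b + (b ⬝ᵥ w) • ψ := by abel
  rw [this] at e
  exact add_left_cancel e

/-- `[[1, cψ],[0, 1 + wψᵀ]]` is a transvection -/
theorem levS_tv_mul_qel {w ψ : Fin k → F} (h : ψ ⬝ᵥ w = 0) (c : F) :
    (ext0 ψ : Idx k → F) ⬝ᵥ (c • e0 + ext0 w) = 0 ∧
    levS (tv w ψ) * qel (c • ψ) = tv (c • e0 + ext0 w) (ext0 ψ) := by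
  have h0 : (ext0 ψ : Idx k → F) ⬝ᵥ (c • e0 + ext0 w) = 0 := by
    simp [ext0, e0, dotProduct, Fintype.sum_sum_type] 
    exact h
  refine ⟨h0, ?_⟩
  apply sl_ext
  rw [Matrix.SpecialLinearGroup.coe_mul, levS_coe, qel_coe, tv_coe h0, tv_coe h,
    fromBlocks_multiply]
  ext i j
  rcases i with i | i <;> rcases j with j | j <;>
    simp [Matrix.one_apply, vecMulVec_apply, e0, ext0, fromBlocks]

/-- `H` contains no element `[[1, cψ],[0, 1 + wψᵀ]]` with `w, ψ ≠ 0` -/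
theorem no_tv
    (h2 : ∀ u φ : Idx k → F, φ ⬝ᵥ u = 0 → tv u φ ∈ H → tv u φ = 1)
    {w ψ : Fin k → F} (h : ψ ⬝ᵥ w = 0) (c : F) (hm : levS (tv w ψ) * qel (c • ψ) ∈ H) :
    (tv w ψ : Matrix.SpecialLinearGroup (Fin k) F) = 1 := by
  obtain ⟨h0, e⟩ := levS_tv_mul_qel h c
  rw [e] at hm
  have h3 := h2 _ _ h0 hm
  rw [← e] at h3
  -- compare the lower right blocks
  have h4 := congrArg (fun g : Matrix.SpecialLinearGroup (Idx k) F =>
    (g : Matrix (Idx k) (Idx k) F).toBlocks₂₂) h3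
  simp only [Matrix.SpecialLinearGroup.coe_mul, levS_coe, qel_coe, fromBlocks_multiply,
    toBlocks_fromBlocks₂₂] at h4
  apply sl_ext
  simpa [← fromBlocks_one] using h4

end beta

end Cfsg.Agent.Lib.Helper9.MinDeg
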