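import Mathlib
import Cfsg.Agent.Lib.Helper9.MinDegUb1
set_option autoImplicit false
set_option linter.unusedVariables false
set_option linter.unusedSectionVars false
set_option linter.style.longLine false
open Matrix

namespace Cfsg.Agent.Lib.Helper9.MinDeg

open Cfsg.Agent.Lib.Helper3.MinDeg

variable {F : Type*} [Field F] {k : ℕ}

theorem single_dot_single {n : ℕ} (i j : Fin n) (hij : i ≠ j) :
    (Pi.single i (1 : F) : Fin n → F) ⬝ᵥ Pi.single j 1 = 0 := by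
  rw [single_dotProduct, one_mul, Pi.single_eq_of_ne hij]

theorem dot_single {n : ℕ} (a : Fin n → F) (i : Fin n) :
    a ⬝ᵥ (Pi.single i (1 : F) : Fin n → F) = a i := by
  rw [dotProduct_single, mul_one]

/-- case (β) is impossible for `k ≥ 4` -/
theorem beta_false_ge_four (hk : 4 ≤ k) (H : Subgroup (Matrix.SpecialLinearGroup (Idx k) F))
    (h1 : ∀ g : Matrix.SpecialLinearGroup (Idx k) F, ∃ r : Fin k → F, qel r * g ∈ H)
    (h2 : ∀ u φ : Idx k → F, φ ⬝ᵥ u = 0 → tv u φ ∈ H → tv u φ = 1) : False := by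
  obtain ⟨m, rfl⟩ : ∃ m, k = m + 4 := ⟨k - 4, by omega⟩
  obtain ⟨i0, hi0⟩ : ∃ i : Fin (m + 4), i.val = 0 := ⟨⟨0, by omega⟩, rfl⟩
  obtain ⟨i1, hi1⟩ : ∃ i : Fin (m + 4), i.val = 1 := ⟨⟨1, by omega⟩, rfl⟩
  obtain ⟨i2, hi2⟩ : ∃ i : Fin (m + 4), i.val = 2 := ⟨⟨2, by omega⟩, rfl⟩
  obtain ⟨i3, hi3⟩ : ∃ i : Fin (m + 4), i.val = 3 := ⟨⟨3, by omega⟩, rfl⟩
  have h01 : i0 ≠ i1 := fun e => by rw [e] at hi0; omega
  obtain ⟨w, hw⟩ : ∃ w : Fin (m + 4) → F, w = Pi.single i0 1 := ⟨_, rfl⟩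
  obtain ⟨ψ, hψ⟩ : ∃ ψ : Fin (m + 4) → F, ψ = Pi.single i1 1 := ⟨_, rfl⟩
  have hψw : ψ ⬝ᵥ w = 0 := by rw [hw, hψ]; exact single_dot_single i1 i0 h01.symm
  obtain ⟨a, ha⟩ := exists_right_levS H h1 (tv w ψ)
  have key : ∀ i : Fin (m + 4), i ≠ i1 → a i = 0 := by
    intro i hi
    obtain ⟨j, hj0, hj1, hji⟩ : ∃ j : Fin (m + 4), j ≠ i0 ∧ j ≠ i1 ∧ j ≠ i := by
      by_cases h : i = i2
      · refine ⟨i3, ?_, ?_, ?_⟩
        · intro e; rw [e] at hi3; omega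
        · intro e; rw [e] at hi3; omega
        · intro e; rw [h] at e; rw [e] at hi3; omega
      · refine ⟨i2, ?_, ?_, fun e => h e.symm⟩
        · intro e; rw [e] at hi2; omega
        · intro e; rw [e] at hi2; omega
    obtain ⟨w', hw'⟩ : ∃ w' : Fin (m + 4) → F, w' = Pi.single i 1 := ⟨_, rfl⟩
    obtain ⟨ψ', hψ'⟩ : ∃ ψ' : Fin (m + 4) → F, ψ' = Pi.single j 1 := ⟨_, rfl⟩
    obtain ⟨b, hb⟩ := exists_right_levS H h1 (tv w' ψ')
    have e := comm_rel H h2 hψw (by rw [hw', hψ']; exact single_dot_single j i hji)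
      (by rw [hw', hψ]; exact single_dot_single i1 i hi.symm)
      (by rw [hw, hψ']; exact single_dot_single j i0 hj0) a b ha hb
    have e' := congrFun e j
    rw [Pi.smul_apply, Pi.smul_apply, hw', hw, dot_single, dot_single, hψ', hψ, Pi.single_eq_same,
      Pi.single_eq_of_ne hj1, smul_eq_mul, smul_eq_mul, mul_one, mul_zero] at e'
    exact e'
  have ha' : a = a i1 • ψ := by
    funext i
    by_cases hi : i = i1
    · rw [hi, Pi.smul_apply, hψ, Pi.single_eq_same, smul_eq_mul, mul_one]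
    · rw [key i hi, Pi.smul_apply, hψ, Pi.single_eq_of_ne hi, smul_zero]
  rw [ha'] at ha
  have h3 := no_tv H h2 hψw _ ha
  have h5 : ((tv w ψ : Matrix.SpecialLinearGroup (Fin (m + 4)) F) :
      Matrix (Fin (m + 4)) (Fin (m + 4)) F) i0 i1 = 1 := by
    rw [tv_coe hψw, Matrix.add_apply, Matrix.one_apply_ne h01, vecMulVec_apply, hw, hψ,
      Pi.single_eq_same, Pi.single_eq_same, zero_add, mul_one]
  rw [h3, Matrix.SpecialLinearGroup.coe_one, Matrix.one_apply_ne h01] at h5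
  exact zero_ne_one h5

end Cfsg.Agent.Lib.Helper9.MinDeg
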