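import Mathlib
import Cfsg.Agent.Lib.Helper9.MinDegUb1
set_option autoImplicit false
set_option linter.unusedVariables false
set_option linter.unusedSectionVars false
set_option linter.style.longLine false
open Matrix

namespace Cfsg.Agent.Lib.Helper9.MinDeg

open Cfsg.Agent.Lib.Helper3.MinDeg

variable {F : Type*} [Field F] {k : ℕ}

theorem levS_one' : (levS (1 : Matrix.SpecialLinearGroup (Fin k) F) : Matrix.SpecialLinearGroup (Idx k) F) = 1 := by
  apply sl_ext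
  rw [levS_coe, Matrix.SpecialLinearGroup.coe_one, Matrix.SpecialLinearGroup.coe_one, fromBlocks_one]

/-- `lev B * levS A = levS C * lev B` when `C B = B A` -/
theorem lev_mul_levS {B : Matrix (Fin k) (Fin k) F} (hB : B.det ≠ 0)
    (A C : Matrix.SpecialLinearGroup (Fin k) F)
    (hCB : (C : Matrix (Fin k) (Fin k) F) * B = B * (A : Matrix (Fin k) (Fin k) F)) :
    lev B * levS A = levS C * lev B := by
  apply sl_ext
  rw [Matrix.SpecialLinearGroup.coe_mul, Matrix.SpecialLinearGroup.coe_mul, lev_coe hB, levS_coe,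
    levS_coe, fromBlocks_multiply, fromBlocks_multiply]
  simp [hCB]

section beta

variable (H : Subgroup (Matrix.SpecialLinearGroup (Idx k) F))

/-- if `A C = 1` then `ρ(A) C + ρ(C) = 0` -/
theorem inv_rel
    (h2 : ∀ u φ : Idx k → F, φ ⬝ᵥ u = 0 → tv u φ ∈ H → tv u φ = 1)
    (A C : Matrix.SpecialLinearGroup (Fin k) F) (hAC : A * C = 1) (a c : Fin k → F)
    (ha : levS A * qel a ∈ H) (hc : levS C * qel c ∈ H) :
    a ᵥ* (C : Matrix (Fin k) (Fin k) F) + c = 0 := by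
  have m := right_mul H A C a c ha hc
  rw [hAC] at m
  have m0 : levS (1 : Matrix.SpecialLinearGroup (Fin k) F) * qel (0 : Fin k → F) ∈ H := by
    rw [qel_zero, mul_one, levS_one']
    exact H.one_mem
  exact right_unique H h2 _ _ _ m m0

/-- conjugation by the element of `H` over `lev B` -/
theorem conj_rel
    (h2 : ∀ u φ : Idx k → F, φ ⬝ᵥ u = 0 → tv u φ ∈ H → tv u φ = 1)
    {B : Matrix (Fin k) (Fin k) F} (hB : B.det ≠ 0)
    (A C : Matrix.SpecialLinearGroup (Fin k) F)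
    (hCB : (C : Matrix (Fin k) (Fin k) F) * B = B * (A : Matrix (Fin k) (Fin k) F))
    (s a c : Fin k → F) (hs : lev B * qel s ∈ H) (ha : levS A * qel a ∈ H)
    (hc : levS C * qel c ∈ H) :
    B.det • (c ᵥ* B) + s = s ᵥ* (A : Matrix (Fin k) (Fin k) F) + a := by
  have m1 : (lev B * levS A) * qel (s ᵥ* (A : Matrix (Fin k) (Fin k) F) + a) ∈ H := by
    have e : (lev B * levS A) * qel (s ᵥ* (A : Matrix (Fin k) (Fin k) F) + a)
        = (lev B * qel s) * (levS A * qel a) := by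
      rw [qel_add, mul_assoc (lev B) (qel s), ← mul_assoc (qel s), qel_mul_levS]
      group
    rw [e]
    exact H.mul_mem hs ha
  have m2 : (lev B * levS A) * qel (B.det • (c ᵥ* B) + s) ∈ H := by
    have e : (lev B * levS A) * qel (B.det • (c ᵥ* B) + s)
        = (levS C * qel c) * (lev B * qel s) := by
      rw [lev_mul_levS hB A C hCB, qel_add, mul_assoc (levS C) (qel c), ← mul_assoc (qel c),
        qel_mul_lev c hB]
      group
    rw [e]
    exact H.mul_mem hc hs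
  exact right_unique H h2 _ _ _ m2 m1

/-- `β(Bw, Bx) = det(B)⁻¹ β(w, x)` -/
theorem beta_rel
    (h2 : ∀ u φ : Idx k → F, φ ⬝ᵥ u = 0 → tv u φ ∈ H → tv u φ = 1)
    {B : Matrix (Fin k) (Fin k) F} (hB : B.det ≠ 0) {w ψ : Fin k → F} (hψw : ψ ⬝ᵥ w = 0)
    (hψB : ψ ᵥ* B = ψ) (s a c : Fin k → F) (hs : lev B * qel s ∈ H)
    (ha : levS (tv w ψ) * qel a ∈ H) (hc : levS (tv (B *ᵥ w) ψ) * qel c ∈ H)
    (x : Fin k → F) (hx : ψ ⬝ᵥ x = 0) :
    B.det * (c ⬝ᵥ (B *ᵥ x)) = a ⬝ᵥ x := by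
  have hψBw : ψ ⬝ᵥ (B *ᵥ w) = 0 := by
    rw [Matrix.dotProduct_mulVec, hψB, hψw]
  have hCB : ((tv (B *ᵥ w) ψ : Matrix.SpecialLinearGroup (Fin k) F) : Matrix (Fin k) (Fin k) F) * B
      = B * ((tv w ψ : Matrix.SpecialLinearGroup (Fin k) F) : Matrix (Fin k) (Fin k) F) := by
    rw [tv_coe hψBw, tv_coe hψw, Matrix.add_mul, Matrix.mul_add, Matrix.one_mul, Matrix.mul_one,
      Matrix.vecMulVec_mul, hψB, Matrix.mul_vecMulVec]
  have e := conj_rel H h2 hB _ _ hCB s a c hs ha hc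
  rw [vecMul_tv hψw] at e
  have e2 : B.det • (c ᵥ* B) = a + (s ⬝ᵥ w) • ψ := by
    have : B.det • (c ᵥ* B) + s = (a + (s ⬝ᵥ w) • ψ) + s := by rw [e]; abel
    exact add_right_cancel this
  have e3 := congrArg (fun v : Fin k → F => v ⬝ᵥ x) e2
  simp only [smul_dotProduct, add_dotProduct, hx, smul_eq_mul, mul_zero, add_zero] at e3
  rw [Matrix.dotProduct_mulVec]
  exact e3

/-- `β` is symmetric -/
theorem beta_symm
    (h2 : ∀ u φ : Idx k → F, φ ⬝ᵥ u = 0 → tv u φ ∈ H → tv u φ = 1)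
    {w w' ψ : Fin k → F} (hψ : ψ ≠ 0) (h : ψ ⬝ᵥ w = 0) (h' : ψ ⬝ᵥ w' = 0) (a b : Fin k → F)
    (ha : levS (tv w ψ) * qel a ∈ H) (hb : levS (tv w' ψ) * qel b ∈ H) :
    a ⬝ᵥ w' = b ⬝ᵥ w := by
  have e := comm_rel H h2 h h' h' h a b ha hb
  obtain ⟨i, hi⟩ : ∃ i, ψ i ≠ 0 := by
    by_contra hcon
    push Not at hcon
    exact hψ (funext hcon)
  have e' := congrFun e i
  rw [Pi.smul_apply, Pi.smul_apply, smul_eq_mul, smul_eq_mul] at e'
  exact mul_right_cancel₀ hi e'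

/-- `β(μ w, y) = μ β(w, y)` -/
theorem beta_smul
    (h2 : ∀ u φ : Idx k → F, φ ⬝ᵥ u = 0 → tv u φ ∈ H → tv u φ = 1)
    (h1 : ∀ g : Matrix.SpecialLinearGroup (Idx k) F, ∃ r : Fin k → F, qel r * g ∈ H)
    {w y ψ : Fin k → F} (hψ : ψ ≠ 0) (h : ψ ⬝ᵥ w = 0) (hy : ψ ⬝ᵥ y = 0) (μ : F)
    (a c : Fin k → F)
    (ha : levS (tv w ψ) * qel a ∈ H) (hc : levS (tv (μ • w) ψ) * qel c ∈ H) :
    c ⬝ᵥ y = μ * (a ⬝ᵥ y) := by
  obtain ⟨b, hb⟩ := exists_right_levS H h1 (tv y ψ)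
  have hμ : ψ ⬝ᵥ (μ • w) = 0 := by rw [dotProduct_smul, h, smul_zero]
  have s1 := beta_symm H h2 hψ hμ hy c b hc hb
  have s2 := beta_symm H h2 hψ h hy a b ha hb
  rw [s1, dotProduct_smul, smul_eq_mul, s2]

/-- `β(w, w) = 0` in characteristic `≠ 2` when some `B` of determinant `-1` negates `w` -/
theorem beta_diag_zero
    (h2 : ∀ u φ : Idx k → F, φ ⬝ᵥ u = 0 → tv u φ ∈ H → tv u φ = 1)
    (h1 : ∀ g : Matrix.SpecialLinearGroup (Idx k) F, ∃ r : Fin k → F, qel r * g ∈ H)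
    (hne : (2 : F) ≠ 0) {B : Matrix (Fin k) (Fin k) F} (hB : B.det = -1) {w ψ : Fin k → F}
    (hψ : ψ ≠ 0) (hψw : ψ ⬝ᵥ w = 0) (hψB : ψ ᵥ* B = ψ) (hBw : B *ᵥ w = (-1 : F) • w)
    (a : Fin k → F) (ha : levS (tv w ψ) * qel a ∈ H) : a ⬝ᵥ w = 0 := by
  have hB0 : B.det ≠ 0 := by rw [hB]; exact neg_ne_zero.2 one_ne_zero
  obtain ⟨s, hs⟩ := exists_right_lev H h1 hB0
  obtain ⟨c, hc⟩ := exists_right_levS H h1 (tv ((-1 : F) • w) ψ)
  have hc' : levS (tv (B *ᵥ w) ψ) * qel c ∈ H := by rw [hBw]; exact hc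
  have r1 := beta_rel H h2 hB0 hψw hψB s a c hs ha hc' w hψw
  have r2 := beta_smul H h2 h1 hψ hψw hψw (-1) a c ha hc
  rw [hBw, dotProduct_smul, r2, hB, smul_eq_mul] at r1
  have : (2 : F) * (a ⬝ᵥ w) = 0 := by linear_combination -r1
  rcases mul_eq_zero.1 this with h | h
  · exact absurd h hne
  · exact h

end beta

/-! ### the case `k = 2` -/

theorem tv_mul_self {ι : Type*} [DecidableEq ι] [Fintype ι] {w ψ : ι → F} (h : ψ ⬝ᵥ w = 0)
    (h2 : (2 : F) = 0) : (tv w ψ * tv w ψ : Matrix.SpecialLinearGroup ι F) = 1 := by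
  apply sl_ext
  rw [Matrix.SpecialLinearGroup.coe_mul, tv_coe h, Matrix.SpecialLinearGroup.coe_one]
  simp only [Matrix.add_mul, Matrix.mul_add, Matrix.one_mul, Matrix.mul_one,
    Matrix.vecMulVec_mul_vecMulVec, h, zero_smul]
  have hz : vecMulVec w (0 : ι → F) = 0 := by
    ext i j; simp [vecMulVec_apply]
  rw [hz, add_zero]
  have : vecMulVec w ψ + vecMulVec w ψ = (2 : F) • vecMulVec w ψ := by rw [two_smul]
  rw [add_assoc, this, h2, zero_smul, add_zero]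

theorem beta_false_two (H : Subgroup (Matrix.SpecialLinearGroup (Idx 2) F))
    (h1 : ∀ g : Matrix.SpecialLinearGroup (Idx 2) F, ∃ r : Fin 2 → F, qel r * g ∈ H)
    (h2 : ∀ u φ : Idx 2 → F, φ ⬝ᵥ u = 0 → tv u φ ∈ H → tv u φ = 1) : False := by
  obtain ⟨w, hw⟩ : ∃ w : Fin 2 → F, w = ![1, 0] := ⟨_, rfl⟩
  obtain ⟨ψ, hψ⟩ : ∃ ψ : Fin 2 → F, ψ = ![0, 1] := ⟨_, rfl⟩
  have hψw : ψ ⬝ᵥ w = 0 := by rw [hw, hψ]; simp [dotProduct, Fin.sum_univ_two]
  have hψ0 : ψ ≠ 0 := by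
    intro e
    have := congrFun e 1
    rw [hψ] at this
    simp at this
  obtain ⟨a, ha⟩ := exists_right_levS H h1 (tv w ψ)
  have haw : a ⬝ᵥ w = a 0 := by rw [hw]; simp [dotProduct, Fin.sum_univ_two]
  have key : a 0 = 0 := by
    by_cases h : (2 : F) = 0
    · have e := inv_rel H h2 _ _ (tv_mul_self hψw h) a a ha ha
      rw [vecMul_tv hψw, haw] at e
      have e1 := congrFun e 1
      rw [hψ] at e1
      simp only [Pi.add_apply, Pi.smul_apply, smul_eq_mul, Matrix.cons_val_one,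
        Matrix.cons_val_zero, Pi.zero_apply, mul_one] at e1
      have : (2 : F) * a 1 + a 0 = 0 := by linear_combination e1
      rw [h, zero_mul, zero_add] at this
      exact this
    · rw [← haw]
      refine beta_diag_zero H h2 h1 h (B := Matrix.diagonal ![-1, 1]) ?_ hψ0 hψw ?_ ?_ a ha
      · rw [Matrix.det_diagonal]; simp [Fin.prod_univ_two]
      · rw [hψ]; ext j; fin_cases j <;> simp [Matrix.vecMul_diagonal]
      · rw [hw]; ext j; fin_cases j <;> simp [Matrix.mulVec_diagonal]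
  have ha' : a = a 1 • ψ := by
    funext i
    fin_cases i
    · rw [hψ]; simp [key]
    · rw [hψ]; simp
  rw [ha'] at ha
  have h3 := no_tv H h2 hψw _ ha
  have h5 : ((tv w ψ : Matrix.SpecialLinearGroup (Fin 2) F) : Matrix (Fin 2) (Fin 2) F) 0 1 = 1 := by
    rw [tv_coe hψw, hw, hψ]
    simp [vecMulVec_apply]
  rw [h3] at h5
  simp at h5

end Cfsg.Agent.Lib.Helper9.MinDeg
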