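import Mathlib
import Cfsg.Agent.Lib.Helper9.MinDegUb3
set_option autoImplicit false
set_option linter.unusedVariables false
set_option linter.unusedSectionVars false
set_option linter.style.longLine false
open Matrix

namespace Cfsg.Agent.Lib.Helper9.MinDeg

open Cfsg.Agent.Lib.Helper3.MinDeg

variable {F : Type*} [Field F] {k : ℕ}

/-- if `B` scales `w` by `μ = det B`, fixes `x`, and `μ² ≠ 1`, then `β(w, x) = 0` -/
theorem beta_scale_zero (H : Subgroup (Matrix.SpecialLinearGroup (Idx k) F))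
    (h2 : ∀ u φ : Idx k → F, φ ⬝ᵥ u = 0 → tv u φ ∈ H → tv u φ = 1)
    (h1 : ∀ g : Matrix.SpecialLinearGroup (Idx k) F, ∃ r : Fin k → F, qel r * g ∈ H)
    (μ : F) (hμ0 : μ ≠ 0) (hμ : μ * μ ≠ 1) {B : Matrix (Fin k) (Fin k) F} (hB : B.det = μ)
    {w ψ x : Fin k → F} (hψ : ψ ≠ 0) (hψw : ψ ⬝ᵥ w = 0) (hψx : ψ ⬝ᵥ x = 0)
    (hψB : ψ ᵥ* B = ψ) (hBw : B *ᵥ w = μ • w) (hBx : B *ᵥ x = x)
    (a : Fin k → F) (ha : levS (tv w ψ) * qel a ∈ H) : a ⬝ᵥ x = 0 := by
  have hB0 : B.det ≠ 0 := by rw [hB]; exact hμ0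
  obtain ⟨s, hs⟩ := exists_right_lev H h1 hB0
  obtain ⟨c, hc⟩ := exists_right_levS H h1 (tv (μ • w) ψ)
  have hc' : levS (tv (B *ᵥ w) ψ) * qel c ∈ H := by rw [hBw]; exact hc
  have r1 := beta_rel H h2 hB0 hψw hψB s a c hs ha hc' x hψx
  have r2 := beta_smul H h2 h1 hψ hψw hψx μ a c ha hc
  rw [hBx, r2, hB] at r1
  have : (μ * μ - 1) * (a ⬝ᵥ x) = 0 := by linear_combination r1
  rcases mul_eq_zero.1 this with h | h
  · exact absurd (sub_eq_zero.1 h) hμ
  · exact h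

theorem exists_ne_zero_one [Fintype F] (hq : 3 ≤ Fintype.card F) : ∃ μ : F, μ ≠ 0 ∧ μ ≠ 1 := by
  classical
  by_contra hcon
  push Not at hcon
  have hsub : (Finset.univ : Finset F) ⊆ {0, 1} := by
    intro x _
    by_cases hx : x = 0
    · simp [hx]
    · simp [hcon x hx]
  have := Finset.card_le_card hsub
  rw [Finset.card_univ] at this
  have h2 : ({0, 1} : Finset F).card ≤ 2 := Finset.card_le_two
  omega

theorem beta_false_three [Fintype F] (hq : 3 ≤ Fintype.card F)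
    (H : Subgroup (Matrix.SpecialLinearGroup (Idx 3) F))
    (h1 : ∀ g : Matrix.SpecialLinearGroup (Idx 3) F, ∃ r : Fin 3 → F, qel r * g ∈ H)
    (h2 : ∀ u φ : Idx 3 → F, φ ⬝ᵥ u = 0 → tv u φ ∈ H → tv u φ = 1) : False := by
  obtain ⟨w, hw⟩ : ∃ w : Fin 3 → F, w = ![1, 0, 0] := ⟨_, rfl⟩
  obtain ⟨v, hv⟩ : ∃ v : Fin 3 → F, v = ![0, 1, 0] := ⟨_, rfl⟩
  obtain ⟨ψ, hψ⟩ : ∃ ψ : Fin 3 → F, ψ = ![0, 0, 1] := ⟨_, rfl⟩
  have hψw : ψ ⬝ᵥ w = 0 := by rw [hw, hψ]; simp [dotProduct, Fin.sum_univ_three]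
  have hψv : ψ ⬝ᵥ v = 0 := by rw [hv, hψ]; simp [dotProduct, Fin.sum_univ_three]
  have hψwv : ψ ⬝ᵥ (w + v) = 0 := by rw [dotProduct_add, hψw, hψv, add_zero]
  have hψ0 : ψ ≠ 0 := by
    intro e
    have := congrFun e 2
    rw [hψ] at this
    simp at this
  obtain ⟨a, ha⟩ := exists_right_levS H h1 (tv w ψ)
  have haw : a ⬝ᵥ w = a 0 := by rw [hw]; simp [dotProduct, Fin.sum_univ_three]
  have hav : a ⬝ᵥ v = a 1 := by rw [hv]; simp [dotProduct, Fin.sum_univ_three]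
  obtain ⟨μ, hμ0, hμ1⟩ := exists_ne_zero_one hq
  have key : a 0 = 0 ∧ a 1 = 0 := by
    by_cases hμ : μ * μ = 1
    · -- `μ = -1`, characteristic `≠ 2`
      have hne : (2 : F) ≠ 0 := by
        intro h
        apply hμ1
        have : (μ - 1) * (μ - 1) = 0 := by linear_combination hμ + (1 - μ) * h
        have := mul_self_eq_zero.1 this
        exact sub_eq_zero.1 this
      have k0 : a ⬝ᵥ w = 0 := by
        refine beta_diag_zero H h2 h1 hne (B := Matrix.diagonal ![-1, 1, 1]) ?_ hψ0 hψw ?_ ?_ a ha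
        · rw [Matrix.det_diagonal]; simp [Fin.prod_univ_three]
        · rw [hψ]; ext j; fin_cases j <;> simp [Matrix.vecMul_diagonal]
        · rw [hw]; ext j; fin_cases j <;> simp [Matrix.mulVec_diagonal]
      have k1 : a ⬝ᵥ v = 0 := by
        obtain ⟨B, hBdef⟩ : ∃ B : Matrix (Fin 3) (Fin 3) F, B = !![0, 1, 0; 1, 0, 0; 0, 0, 1] :=
          ⟨_, rfl⟩
        have hB : B.det = -1 := by rw [hBdef, Matrix.det_fin_three]; simp
        have hB0 : B.det ≠ 0 := by rw [hB]; exact neg_ne_zero.2 one_ne_zero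
        have hψB : ψ ᵥ* B = ψ := by
          rw [hψ, hBdef]; ext j; fin_cases j <;> simp [Matrix.vecMul, dotProduct, Fin.sum_univ_three]
        have hBw : B *ᵥ w = v := by
          rw [hw, hv, hBdef]; ext j; fin_cases j <;> simp [Matrix.mulVec, dotProduct, Fin.sum_univ_three]
        have hBv : B *ᵥ v = w := by
          rw [hw, hv, hBdef]; ext j; fin_cases j <;> simp [Matrix.mulVec, dotProduct, Fin.sum_univ_three]
        obtain ⟨s, hs⟩ := exists_right_lev H h1 hB0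
        obtain ⟨c, hc⟩ := exists_right_levS H h1 (tv v ψ)
        have hc' : levS (tv (B *ᵥ w) ψ) * qel c ∈ H := by rw [hBw]; exact hc
        have r1 := beta_rel H h2 hB0 hψw hψB s a c hs ha hc' v hψv
        have r2 := beta_symm H h2 hψ0 hψw hψv a c ha hc
        rw [hBv, ← r2, hB] at r1
        have : (2 : F) * (a ⬝ᵥ v) = 0 := by linear_combination -r1
        rcases mul_eq_zero.1 this with h | h
        · exact absurd h hne
        · exact h
      exact ⟨by rw [← haw]; exact k0, by rw [← hav]; exact k1⟩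
    · -- `μ² ≠ 1`
      have k1 : a ⬝ᵥ v = 0 := by
        refine beta_scale_zero H h2 h1 μ hμ0 hμ (B := Matrix.diagonal ![μ, 1, 1]) ?_ hψ0 hψw hψv
          ?_ ?_ ?_ a ha
        · rw [Matrix.det_diagonal]; simp [Fin.prod_univ_three]
        · rw [hψ]; ext j; fin_cases j <;> simp [Matrix.vecMul_diagonal]
        · rw [hw]; ext j; fin_cases j <;> simp [Matrix.mulVec_diagonal]
        · rw [hv]; ext j; fin_cases j <;> simp [Matrix.mulVec_diagonal]
      have k2 : a ⬝ᵥ (w + v) = 0 := by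
        refine beta_scale_zero H h2 h1 μ hμ0 hμ (B := !![μ, 1 - μ, 0; 0, 1, 0; 0, 0, 1]) ?_ hψ0 hψw
          hψwv ?_ ?_ ?_ a ha
        · rw [Matrix.det_fin_three]; simp
        · rw [hψ]; ext j; fin_cases j <;> simp [Matrix.vecMul, dotProduct, Fin.sum_univ_three]
        · rw [hw]; ext j; fin_cases j <;> simp [Matrix.mulVec, dotProduct, Fin.sum_univ_three]
        · rw [hw, hv]; ext j; fin_cases j <;> simp [Matrix.mulVec, dotProduct, Fin.sum_univ_three]
      rw [dotProduct_add, k1, add_zero, haw] at k2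
      exact ⟨k2, by rw [← hav]; exact k1⟩
  have ha' : a = a 2 • ψ := by
    funext i
    fin_cases i
    · rw [hψ]; simp [key.1]
    · rw [hψ]; simp [key.2]
    · rw [hψ]; simp
  rw [ha'] at ha
  have h3 := no_tv H h2 hψw _ ha
  have h5 : ((tv w ψ : Matrix.SpecialLinearGroup (Fin 3) F) : Matrix (Fin 3) (Fin 3) F) 0 2 = 1 := by
    rw [tv_coe hψw, hw, hψ]
    simp
  rw [h3] at h5
  simp at h5

end Cfsg.Agent.Lib.Helper9.MinDeg
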