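import Mathlib
import Cfsg.Agent.Lib.Helper3.NCSDefs

set_option autoImplicit false
set_option maxHeartbeats 4000000
set_option maxRecDepth 100000
set_option linter.unusedVariables false
set_option linter.unusedSectionVars false
set_option linter.style.longLine false

namespace Cfsg.Agent.Lib.Helper3.NCS

open Cfsg.Agent.Lib.Helper7.TC

variable {G : Type*} [Group G] [Finite G]

/-- A subgroup of index prime to `r` contains a conjugate of every Sylow `r`-subgroup. -/
theorem h9_sylow_conj_le {r : ℕ} [Fact r.Prime] (H : Subgroup G) (R : Sylow r G)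
    (hH : ¬ r ∣ H.index) : ∃ g : G, ∀ x ∈ (R : Subgroup G), g⁻¹ * x * g ∈ H := by
  classical
  have hR : IsPGroup r (R : Subgroup G) := R.isPGroup'
  have hcard : ¬ r ∣ Nat.card (G ⧸ H) := by
    rw [← Subgroup.index_eq_card]; exact hH
  obtain ⟨q, hq⟩ := hR.nonempty_fixed_point_of_prime_not_dvd_card (G ⧸ H) hcard
  obtain ⟨g, rfl⟩ := QuotientGroup.mk_surjective q
  refine ⟨g, fun x hx => ?_⟩
  have h1 := hq ⟨x, hx⟩
  have h2 : ((x * g : G) : G ⧸ H) = (g : G ⧸ H) := h1
  have h3 := (QuotientGroup.eq (s := H)).mp h2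
  have h4 := H.inv_mem h3
  have e : ((x * g)⁻¹ * g)⁻¹ = g⁻¹ * x * g := by group
  rwa [e] at h4

/-- For `N` normal, `|N : N ∩ D|` divides `|G : D|`. -/
theorem h9_relIndex_dvd_index_of_normal_right {G : Type*} [Group G] [Finite G]
    (D N : Subgroup G) [N.Normal] :
    D.relIndex N ∣ D.index := by
  have h1 : (D ⊓ N).relIndex N * N.index = (D ⊓ N).index :=
    Subgroup.relIndex_mul_index inf_le_right
  have h2 : (D ⊓ N).relIndex D * D.index = (D ⊓ N).index :=
    Subgroup.relIndex_mul_index inf_le_left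
  rw [Subgroup.inf_relIndex_right] at h1
  rw [Subgroup.inf_relIndex_left] at h2
  have h3 : N.relIndex (N ⊔ D) * (N ⊔ D).index = N.index :=
    Subgroup.relIndex_mul_index le_sup_left
  rw [Subgroup.relIndex_sup_left] at h3
  have hpos : 0 < N.relIndex D :=
    Nat.pos_of_ne_zero (Subgroup.index_ne_zero_of_finite (H := N.subgroupOf D))
  refine ⟨(N ⊔ D).index, ?_⟩
  apply Nat.eq_of_mul_eq_mul_left hpos
  rw [h2, ← h1, ← h3]; ring

theorem comm_of_not_dvd {N : Subgroup G} {m r : ℕ} [Fact r.Prime] (h : Hyp N m) (R : Sylow r G)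
    (hRN : (R : Subgroup G) ≤ N) (hR : ¬ (R : Subgroup G) ≤ Subgroup.center G) (hrm : ¬ r ∣ m) :
    ∀ x ∈ N, ∀ y ∈ N, x * y = y * x := by
  classical
  have hr : r.Prime := Fact.out
  have hN : N.Normal := h.normal
  -- Step A: every element of `N` commutes with every element of `R`.
  have hA : ∀ n ∈ N, ∀ t ∈ (R : Subgroup G), n * t = t * n := by
    have hT : (Subgroup.centralizer ((R : Subgroup G) : Set G)).subgroupOf N = ⊤ := by
      apply Cfsg.Agent.Lib.Helper3.eq_top_of_conj_cover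
      intro y
      -- the centralizer of `y` in `N` has index prime to `r` in `N`
      have hidx : ¬ r ∣ ((cent (y : G)).subgroupOf N).index := by
        intro hd
        have h1 : (cent (y : G)).relIndex N ∣ (cent (y : G)).index :=
          haveI := hN; h9_relIndex_dvd_index_of_normal_right _ N
        have h2 : r ∣ (cent (y : G)).index := hd.trans h1
        rcases h.size y y.2 with h3 | h3
        · rw [h3] at h2; exact hr.one_lt.ne' (Nat.dvd_one.mp h2)
        · rw [h3] at h2; exact hrm h2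
      obtain ⟨n, hn⟩ := h9_sylow_conj_le ((cent (y : G)).subgroupOf N) (R.subtype hRN) hidx
      refine ⟨n⁻¹, ?_⟩
      rw [Subgroup.mem_subgroupOf, Subgroup.mem_centralizer_iff]
      intro t ht
      have htN : t ∈ N := hRN ht
      have h1 := hn ⟨t, htN⟩ (by
        rw [Sylow.coe_subtype]
        exact Subgroup.mem_subgroupOf.mpr ht)
      have h2 := Subgroup.mem_subgroupOf.mp h1
      rw [mem_cent] at h2
      simp only [Subgroup.coe_mul, Subgroup.coe_inv, inv_inv] at h2 ⊢
      -- h2 : n⁻¹ * t * n * y = y * (n⁻¹ * t * n)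
      have h3 : (n : G)⁻¹ * t * n * y = y * ((n : G)⁻¹ * t * n) := h2
      calc t * ((n : G) * y * (n : G)⁻¹)
          = n * ((n : G)⁻¹ * t * n * y) * (n : G)⁻¹ := by group
        _ = n * (y * ((n : G)⁻¹ * t * n)) * (n : G)⁻¹ := by rw [h3]
        _ = (n : G) * y * (n : G)⁻¹ * t := by group
    intro n hn t ht
    have h1 : (⟨n, hn⟩ : N) ∈ (Subgroup.centralizer ((R : Subgroup G) : Set G)).subgroupOf N := by
      rw [hT]; exact Subgroup.mem_top _
    rw [Subgroup.mem_subgroupOf, Subgroup.mem_centralizer_iff] at h1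
    exact (h1 t ht).symm
  -- Step B: `r'`-elements of `N` are central in `N`.
  obtain ⟨w, hwR, hwZ⟩ := SetLike.not_le_iff_exists.mp hR
  have hwN : w ∈ N := hRN hwR
  obtain ⟨kw, hkw⟩ := Cfsg.Agent.Lib.Helper7.IT.orderOf_of_mem_sylow R hwR
  have hB : ∀ y ∈ N, (orderOf y).Coprime r → ∀ n ∈ N, n * y = y * n := by
    intro y hy hco n hn
    have hwy : Commute w y := (hA y hy w hwR).symm
    have hle : cent w ≤ cent y := by
      apply cent_le_of_coprime h hwN hwZ hy hwy
      rw [hkw]
      exact Nat.Coprime.pow_left _ hco.symm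
    have : n ∈ cent w := mem_cent.mpr (hA n hn w hwR)
    exact mem_cent.mp (hle this)
  -- Step C: `r`-elements of `N` are central in `N`.
  have hC : ∀ x ∈ N, (∃ k : ℕ, orderOf x = r ^ k) → ∀ n ∈ N, n * x = x * n := by
    intro x hx ⟨k, hk⟩ n hn
    have hzp : IsPGroup r (Subgroup.zpowers x) := by
      apply IsPGroup.of_card (n := k)
      rw [Nat.card_zpowers, hk]
    obtain ⟨Q, hQ⟩ := hzp.exists_le_sylow
    obtain ⟨g, hg⟩ := MulAction.exists_smul_eq G R Q
    have hxQ : x ∈ (Q : Subgroup G) := hQ (Subgroup.mem_zpowers x)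
    rw [← hg, Sylow.coe_subgroup_smul, Subgroup.mem_pointwise_smul_iff_inv_smul_mem] at hxQ
    -- hxQ : g⁻¹ • x ∈ R  (conjugation action)
    have h1 : g⁻¹ * x * g ∈ (R : Subgroup G) := by
      have := hxQ
      simp only [MulAut.smul_def, MulAut.inv_apply, MulAut.conj_symm_apply] at this
      exact this
    have h2 : g⁻¹ * n * g ∈ N := by
      have := hN.conj_mem n hn g⁻¹
      rwa [inv_inv] at this
    have h3 := hA _ h2 _ h1
    calc n * x = g * (g⁻¹ * n * g * (g⁻¹ * x * g)) * g⁻¹ := by group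
      _ = g * (g⁻¹ * x * g * (g⁻¹ * n * g)) * g⁻¹ := by rw [h3]
      _ = x * n := by group
  -- Step D: general elements.
  intro x hx y hy
  obtain ⟨e, m', hm', hem⟩ := Nat.exists_eq_pow_mul_and_not_dvd (orderOf_pos y).ne' r hr.ne_one
  have hm0 : 0 < m' := by
    rcases Nat.eq_zero_or_pos m' with h0 | h0
    · rw [h0, mul_zero] at hem; exact absurd hem (orderOf_pos y).ne'
    · exact h0
  have hre0 : 0 < r ^ e := pow_pos hr.pos e
  have hd1 : r ^ e ∣ orderOf y := by rw [hem]; exact dvd_mul_right _ _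
  have hd2 : m' ∣ orderOf y := by rw [hem]; exact dvd_mul_left _ _
  have ho1 : orderOf (y ^ (r ^ e)) = m' := by
    rw [orderOf_pow_of_dvd hre0.ne' hd1, hem, Nat.mul_div_cancel_left _ hre0]
  have ho2 : orderOf (y ^ m') = r ^ e := by
    rw [orderOf_pow_of_dvd hm0.ne' hd2, hem, Nat.mul_div_cancel _ hm0]
  have hrm' : Nat.Coprime r m' := (Nat.Prime.coprime_iff_not_dvd hr).mpr hm'
  have c1 : Commute x (y ^ (r ^ e)) :=
    hB _ (N.pow_mem hy _) (by rw [ho1]; exact hrm'.symm) x hx
  have c2 : Commute x (y ^ m') := hC _ (N.pow_mem hy _) ⟨e, ho2⟩ x hx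
  exact (Cfsg.Agent.Lib.Helper7.IT.commute_of_coprime_pows (Nat.Coprime.pow_left e hrm') c1 c2).eq

end Cfsg.Agent.Lib.Helper3.NCS
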