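import Mathlib
import Cfsg.Agent.Lib.Helper3.NCSDefs
import Cfsg.Agent.Lib.Helper3.NCSP4a
import Cfsg.Agent.Lib.Helper8.NCSComp

/-! S4135 piece P7: a Sylow `s`-subgroup of `G` acts semiregularly on the noncentral elements of
the Sylow `r`-subgroup of a suitable component. -/

set_option autoImplicit false
set_option maxHeartbeats 4000000
set_option maxRecDepth 100000
set_option linter.unusedVariables false
set_option linter.unusedSectionVars false
set_option linter.style.longLine false

namespace Cfsg.Agent.Lib.Helper3.NCS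

open Cfsg.Agent.Lib.Helper7.TC

variable {G : Type*} [Group G] [Finite G]

/-- class formula with constant stabilizer size: `|H| / s` divides `|X|` -/
theorem h9_dvd_card_of_card_stabilizer {H X : Type*} [Group H] [Finite H] [MulAction H X] [Finite X]
    (s : ℕ) (hs : ∀ x : X, Nat.card (MulAction.stabilizer H x) = s) :
    Nat.card H / s ∣ Nat.card X := by
  classical
  let _ : Fintype (MulAction.orbitRel.Quotient H X) := Fintype.ofFinite _
  have e := MulAction.selfEquivSigmaOrbitsQuotientStabilizer H X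
  rw [Nat.card_congr e, Nat.card_sigma]
  apply Finset.dvd_sum
  intro ω _
  have h1 : Nat.card (H ⧸ MulAction.stabilizer H ω.out) = Nat.card H / s := by
    rw [← Subgroup.index_eq_card, ← hs ω.out]
    have h2 := Subgroup.card_mul_index (MulAction.stabilizer H ω.out)
    have hpos : 0 < Nat.card (MulAction.stabilizer H ω.out) := Nat.card_pos
    rw [← h2, Nat.mul_div_cancel_left _ hpos]
  rw [h1]

/-- In a finite `s`-group, a normal subgroup `T` not contained in `Z'` has an element outside
`Z'` all of whose commutators lie in `Z'`, provided ... (we intersect with `T` automatically). -/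
theorem h9_exists_central_mod_normal {S : Type*} [Group S] [Finite S] {s : ℕ} [Fact s.Prime]
    (hS : IsPGroup s S) (T Z' : Subgroup S) [T.Normal] (hne : ¬ T ≤ Z') :
    ∃ z ∈ T, z ∉ Z' ∧ ∀ g : S, z * g * z⁻¹ * g⁻¹ ∈ Z' := by
  classical
  have hnil : Group.IsNilpotent S := hS.isNilpotent
  obtain ⟨n, hn⟩ := Group.IsNilpotent.nilpotent (G := S)
  have hex : ∃ n, ¬ (Subgroup.upperCentralSeries S n ⊓ T ≤ Z') := ⟨n, by rw [hn, top_inf_eq]; exact hne⟩
  have hspec := Nat.find_spec hex
  rcases hk : Nat.find hex with _ | j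
  · rw [hk] at hspec
    exfalso
    apply hspec
    rw [Subgroup.upperCentralSeries_zero, bot_inf_eq]
    exact bot_le
  · rw [hk] at hspec
    have hj : Subgroup.upperCentralSeries S j ⊓ T ≤ Z' := by
      by_contra hcon
      exact Nat.find_min hex (m := j) (by rw [hk]; exact Nat.lt_succ_self j) hcon
    obtain ⟨z, hz, hzZ⟩ := SetLike.not_le_iff_exists.mp hspec
    obtain ⟨hz1, hz2⟩ := Subgroup.mem_inf.mp hz
    refine ⟨z, hz2, hzZ, fun g => hj (Subgroup.mem_inf.mpr ⟨?_, ?_⟩)⟩
    · exact Subgroup.mem_upperCentralSeries_succ_iff.mp hz1 g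
    · have h1 : g * z⁻¹ * g⁻¹ ∈ T := ‹T.Normal›.conj_mem _ (inv_mem hz2) g
      have h2 := T.mul_mem hz2 h1
      have e : z * g * z⁻¹ * g⁻¹ = z * (g * z⁻¹ * g⁻¹) := by group
      rw [e]; exact h2

theorem s_part_dvd {N : Subgroup G} {m r : ℕ} [Fact r.Prime] (hS : Setup N m r) {s : ℕ}
    (hs : s.Prime) (hsr : s ≠ r) {u : G} (hu : u ∈ N) (huZ : u ∉ Subgroup.center G)
    (hus : ∃ k : ℕ, orderOf u = s ^ k) :
    s ^ m.factorization s ∣ bcard G r m / zcard G r - 1 := by
  classical
  have hsf : Fact s.Prime := ⟨hs⟩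
  have hr : r.Prime := Fact.out
  obtain ⟨k, hk⟩ := hus
  have hN : N.Normal := hS.hyp.normal
  have hzp : IsPGroup s (Subgroup.zpowers u) := by
    apply IsPGroup.of_card (n := k)
    rw [Nat.card_zpowers, hk]
  obtain ⟨S, hSle⟩ := hzp.exists_le_sylow
  have huS : u ∈ (S : Subgroup G) := hSle (Subgroup.mem_zpowers u)
  have hSp : IsPGroup s (S : Subgroup G) := S.isPGroup'
  have hTn : (N.subgroupOf (S : Subgroup G)).Normal := hN.subgroupOf _
  have hne : ¬ N.subgroupOf (S : Subgroup G) ≤ (Subgroup.center G).subgroupOf (S : Subgroup G) := by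
    intro hle
    apply huZ
    have h1 : (⟨u, huS⟩ : (S : Subgroup G)) ∈ N.subgroupOf (S : Subgroup G) :=
      Subgroup.mem_subgroupOf.mpr hu
    exact Subgroup.mem_subgroupOf.mp (hle h1)
  obtain ⟨z, hzT, hzZ, hzc⟩ := h9_exists_central_mod_normal hSp
    (N.subgroupOf (S : Subgroup G)) ((Subgroup.center G).subgroupOf (S : Subgroup G)) hne
  obtain ⟨u', hu'S⟩ := z
  have hu'N : u' ∈ N := Subgroup.mem_subgroupOf.mp hzT
  have hu'Z : u' ∉ Subgroup.center G := fun h => hzZ (Subgroup.mem_subgroupOf.mpr h)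
  have hcomm : ∀ g ∈ (S : Subgroup G), u' * g * u'⁻¹ * g⁻¹ ∈ Subgroup.center G := by
    intro g hg
    have := Subgroup.mem_subgroupOf.mp (hzc ⟨g, hg⟩)
    simpa using this
  obtain ⟨k', hk'⟩ := Cfsg.Agent.Lib.Helper7.IT.orderOf_of_mem_sylow S hu'S
  have hcop : Nat.Coprime s r := (Nat.coprime_primes hs hr).mpr hsr
  have hcomp : IsComp N r u' := ⟨hu'N, hu'Z, by rw [hk']; exact Nat.Coprime.pow_left _ hcop⟩
  -- `S` normalizes `cent u'`
  have hconj : ∀ g ∈ (S : Subgroup G), cent (g * u' * g⁻¹) = cent u' := by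
    intro g hg
    have hζ := hcomm g hg
    have hζ' : (u' * g * u'⁻¹ * g⁻¹)⁻¹ ∈ Subgroup.center G := inv_mem hζ
    have e : g * u' * g⁻¹ = u' * (u' * g * u'⁻¹ * g⁻¹)⁻¹ := by
      rw [Subgroup.mem_center_iff.mp hζ' u']
      group
    rw [e, cent_mul_central u' hζ']
  have hnorm : ∀ g ∈ (S : Subgroup G), ∀ c ∈ cent u', g * c * g⁻¹ ∈ cent u' := by
    intro g hg c hc
    have := Cfsg.Agent.Lib.Helper7.IT.conj_mem_cent_conj g hc
    rwa [hconj g hg] at this
  obtain ⟨B', hB'⟩ := exists_rPart hS hcomp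
  have hB'N := rPart_le hS hcomp hB'
  have hB'card := rPart_card hS hcomp hB'
  have hB'Z := rPart_center_card hS hcomp hB'
  -- the set of noncentral elements of `B'`
  have hΩ : ∀ g ∈ (S : Subgroup G), ∀ b : G, (b ∈ B' ∧ b ∉ Subgroup.center G) →
      (g * b * g⁻¹ ∈ B' ∧ g * b * g⁻¹ ∉ Subgroup.center G) := by
    intro g hg b hb
    refine ⟨?_, ?_⟩
    · rw [hB']
      obtain ⟨hb1, j, hj⟩ := (hB' b).mp hb.1
      refine ⟨hnorm g hg b hb1, j, ?_⟩
      rw [conj_pow, hj, mul_one, mul_inv_cancel]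
    · intro hz
      apply hb.2
      have := (Subgroup.center G).normal_of_characteristic.conj_mem _ hz g⁻¹
      have e : g⁻¹ * (g * b * g⁻¹) * g⁻¹⁻¹ = b := by group
      rwa [e] at this
  let act : MulAction (S : Subgroup G) {b : G // b ∈ B' ∧ b ∉ Subgroup.center G} :=
    { smul := fun g b => ⟨(g : G) * b.1 * (g : G)⁻¹, hΩ g g.2 b.1 b.2⟩
      one_smul := fun b => by
        apply Subtype.ext
        show ((1 : (S : Subgroup G)) : G) * b.1 * ((1 : (S : Subgroup G)) : G)⁻¹ = b.1
        simp
      mul_smul := fun g g' b => by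
        apply Subtype.ext
        show ((g * g' : (S : Subgroup G)) : G) * b.1 * ((g * g' : (S : Subgroup G)) : G)⁻¹
          = (g : G) * ((g' : G) * b.1 * (g' : G)⁻¹) * (g : G)⁻¹
        simp [mul_assoc] }
  have hstab : ∀ b : {b : G // b ∈ B' ∧ b ∉ Subgroup.center G},
      MulAction.stabilizer (S : Subgroup G) b = (cent u').subgroupOf (S : Subgroup G) := by
    intro b
    have hbc : cent b.1 = cent u' :=
      comp_cent_eq hS hcomp b.1 (hB'N b.2.1) ((hB' b.1).mp b.2.1).1 b.2.2
    ext g
    rw [MulAction.mem_stabilizer_iff, Subgroup.mem_subgroupOf, ← hbc, mem_cent]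
    constructor
    · intro h
      have h1 : (g : G) * b.1 * (g : G)⁻¹ = b.1 := congrArg Subtype.val h
      calc (g : G) * b.1 = (g : G) * b.1 * (g : G)⁻¹ * g := by group
        _ = b.1 * g := by rw [h1]
    · intro h
      apply Subtype.ext
      show (g : G) * b.1 * (g : G)⁻¹ = b.1
      rw [h]; group
  have hdvd := h9_dvd_card_of_card_stabilizer (H := (S : Subgroup G))
    (X := {b : G // b ∈ B' ∧ b ∉ Subgroup.center G})
    (Nat.card ((cent u').subgroupOf (S : Subgroup G))) (fun b => by rw [hstab b])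
  -- arithmetic: the orbit length
  have hcardS : Nat.card (S : Subgroup G) = s ^ (Nat.card G).factorization s :=
    S.card_eq_multiplicity
  have hDp : IsPGroup s ((cent u').subgroupOf (S : Subgroup G)) := hSp.to_subgroup _
  obtain ⟨j, hj⟩ := IsPGroup.iff_card.mp hDp
  have hinj : Nat.card ((cent u').subgroupOf (S : Subgroup G)) ∣ Nat.card (cent u') := by
    let f : (cent u').subgroupOf (S : Subgroup G) →* cent u' :=
      { toFun := fun d => ⟨(d.1 : G), Subgroup.mem_subgroupOf.mp d.2⟩
        map_one' := rfl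
        map_mul' := fun _ _ => rfl }
    apply Subgroup.card_dvd_of_injective f
    intro a b hab
    apply Subtype.ext
    apply Subtype.ext
    exact congrArg (fun x : cent u' => (x : G)) hab
  have hidx : (cent u').index = m := index_eq hS.hyp hu'N hu'Z
  have hmul : Nat.card (cent u') * m = Nat.card G := by
    rw [← hidx]; exact Subgroup.card_mul_index _
  have hm0 : m ≠ 0 := by
    rw [← hidx]; exact Subgroup.index_ne_zero_of_finite
  have hc0 : Nat.card (cent u') ≠ 0 := Nat.card_pos.ne'
  have hfac : (Nat.card G).factorization s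
      = (Nat.card (cent u')).factorization s + m.factorization s := by
    rw [← hmul, Nat.factorization_mul hc0 hm0]; rfl
  have hjle : j ≤ (Nat.card (cent u')).factorization s := by
    rw [hj] at hinj
    exact (hs.pow_dvd_iff_le_factorization hc0).mp hinj
  have horb : s ^ m.factorization s ∣
      Nat.card (S : Subgroup G) / Nat.card ((cent u').subgroupOf (S : Subgroup G)) := by
    rw [hcardS, hj, Nat.pow_div (by omega) hs.pos]
    apply pow_dvd_pow
    omega
  have h1 : s ^ m.factorization s ∣ Nat.card {b : G // b ∈ B' ∧ b ∉ Subgroup.center G} :=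
    horb.trans hdvd
  -- the cardinality of the set
  have hcardΩ : Nat.card {b : G // b ∈ B' ∧ b ∉ Subgroup.center G}
      = bcard G r m - zcard G r := by
    have e1 : {b : G | b ∈ B' ∧ b ∉ Subgroup.center G}
        = (B' : Set G) \ ((B' ⊓ Subgroup.center G : Subgroup G) : Set G) := by
      ext b
      simp only [Set.mem_ofPred_eq, Set.mem_sdiff, SetLike.mem_coe, Subgroup.mem_inf]
      tauto
    have e2 : Nat.card {b : G // b ∈ B' ∧ b ∉ Subgroup.center G}
        = Set.ncard {b : G | b ∈ B' ∧ b ∉ Subgroup.center G} := by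
      rw [← _root_.Nat.card_coe_set_eq]; rfl
    rw [e2, e1, Set.ncard_sdiff (by
      intro x hx
      exact (Subgroup.mem_inf.mp hx).1) (Set.toFinite _)]
    rw [← hB'card, ← hB'Z, ← _root_.Nat.card_coe_set_eq, ← _root_.Nat.card_coe_set_eq]
    rfl
  rw [hcardΩ] at h1
  have hzb : zcard G r ∣ bcard G r m := by
    rw [← hB'card, ← hB'Z]
    exact Subgroup.card_dvd_of_le inf_le_left
  have hzpos : 0 < zcard G r := by
    unfold zcard; exact pow_pos hr.pos _
  have e3 : bcard G r m - zcard G r = (bcard G r m / zcard G r - 1) * zcard G r := by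
    obtain ⟨q, hq⟩ := hzb
    rw [hq, Nat.mul_div_cancel_left _ hzpos, Nat.sub_mul, one_mul, mul_comm]
  rw [e3] at h1
  have hcop2 : Nat.Coprime (s ^ m.factorization s) (zcard G r) := by
    unfold zcard
    exact Nat.Coprime.pow _ _ hcop
  exact hcop2.dvd_of_dvd_mul_right h1

end Cfsg.Agent.Lib.Helper3.NCS
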