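import Cfsg.Agent.Lib.Helper9.FactorSys1

set_option autoImplicit false

namespace Cfsg.Agent.Lib.Helper9

open Cfsg Cfsg.FusionSystem

variable {Ω : Type*} [Group Ω] {S : Subgroup Ω} {Ω' : Type*} [Group Ω']

theorem exists_preimage_of_mem_range (θ : S →* Ω') {S' : Subgroup Ω'} (hrange : θ.range = S')
    {P' : Subgroup Ω'} (hP' : P' ≤ S') (y : P') :
    ∃ d : (preimageAlong θ P' : Subgroup Ω), θ ⟨d, preimageAlong_le θ P' d.2⟩ = y := by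
  have h1 : (y : Ω') ∈ θ.range := hrange ▸ hP' y.2
  obtain ⟨s, hs⟩ := h1
  refine ⟨⟨s, (mem_preimageAlong θ P' s).mpr ⟨s.2, ?_⟩⟩, hs⟩
  have : (⟨(s : Ω), s.2⟩ : S) = s := rfl
  rw [this, hs]
  exact y.2

/-- the kernel of a map of the system restricted along a strongly closed subgroup -/
theorem mem_of_map_mem_stronglyClosed (F : FusionSystem S) {T : Subgroup Ω}
    (hT : F.StronglyClosed T) {D : Subgroup Ω} {φ : D →* Ω} (hφ : φ ∈ F.Hom D) (d : D)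
    (h : φ d ∈ T) : (d : Ω) ∈ T := by
  obtain ⟨ψ, hψ, hψφ⟩ := F.inv_mem hφ
  have h1 := map_mem_of_stronglyClosed F hT hψ ⟨φ d, ⟨d, rfl⟩⟩ h
  rw [hψφ] at h1
  exact h1

/-- the factor system of `F` modulo the strongly closed subgroup `S₀`, read through `θ` -/
noncomputable def factorSystem [Finite S] (F : FusionSystem S) (S₀ : Subgroup Ω)
    (hS₀ : F.StronglyClosed S₀) (θ : S →* Ω') (hker : ∀ s : S, θ s = 1 ↔ (s : Ω) ∈ S₀)
    (S' : Subgroup Ω') (hrange : θ.range = S') : FusionSystem S' where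
  Hom P' := {φ' | P' ≤ S' ∧ ∃ φ ∈ F.Hom (preimageAlong θ P'), InducedAlong θ φ φ'}
  le_of_mem := by
    rintro P' φ' ⟨hP', φ, hφ, hD, hφS, hDP', hind⟩
    refine ⟨hP', fun y => ?_⟩
    obtain ⟨d, hd⟩ := exists_preimage_of_mem_range θ hrange hP' y
    have h1 : y = ⟨θ ⟨d, hD d.2⟩, hDP' d⟩ := Subtype.ext hd.symm
    rw [h1, hind, ← hrange]
    exact ⟨_, rfl⟩
  injective_of_mem := by
    rintro P' φ' ⟨hP', φ, hφ, hD, hφS, hDP', hind⟩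
    rw [injective_iff_map_eq_one]
    intro y hy
    obtain ⟨d, hd⟩ := exists_preimage_of_mem_range θ hrange hP' y
    have h1 : y = ⟨θ ⟨d, hD d.2⟩, hDP' d⟩ := Subtype.ext hd.symm
    rw [h1, hind] at hy
    have h2 : φ d ∈ S₀ := (hker _).mp hy
    have h3 : (d : Ω) ∈ S₀ := mem_of_map_mem_stronglyClosed F hS₀ hφ d h2
    have h4 : θ ⟨d, hD d.2⟩ = 1 := (hker _).mpr h3
    rw [h1]
    exact Subtype.ext h4
  conj_mem := by
    intro P' g' hP' hg'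
    refine ⟨hP', ?_⟩
    rw [← hrange] at hg'
    obtain ⟨g, rfl⟩ := hg'
    have hD : preimageAlong θ P' ≤ S := preimageAlong_le θ P'
    refine ⟨conjHom _ g, F.conj_mem hD g.2, hD, ?_, map_mem_of_mem_preimageAlong θ P', ?_⟩
    · intro x
      exact S.mul_mem (S.mul_mem g.2 (hD x.2)) (S.inv_mem g.2)
    · intro x
      show θ g * θ ⟨x, hD x.2⟩ * (θ g)⁻¹ = θ ⟨(g : Ω) * x * (g : Ω)⁻¹, _⟩
      rw [← map_inv, ← map_mul, ← map_mul]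
      rfl
  comp_mem := by
    rintro P' Q' φ₁' φ₂' ⟨hP', φ₁, hφ₁, hD₁, hφ₁S, hD₁P', hind₁⟩ ⟨hQ', φ₂, hφ₂, hD₂, hφ₂S, hD₂Q', hind₂⟩ h
    refine ⟨hP', ?_⟩
    have hmem : ∀ d : (preimageAlong θ P' : Subgroup Ω), φ₁ d ∈ preimageAlong θ Q' := by
      intro d
      rw [mem_preimageAlong]
      refine ⟨hφ₁S d, ?_⟩
      rw [← hind₁ d]
      exact h _
    refine ⟨φ₂.comp (φ₁.codRestrict _ hmem), F.comp_mem hφ₁ hφ₂ hmem, hD₁,
      fun x => hφ₂S _, hD₁P', fun d => ?_⟩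
    show φ₂' ⟨φ₁' ⟨θ ⟨d, hD₁ d.2⟩, hD₁P' d⟩, h _⟩ = θ ⟨φ₂ ⟨φ₁ d, hmem d⟩, _⟩
    have h1 : (⟨φ₁' ⟨θ ⟨d, hD₁ d.2⟩, hD₁P' d⟩, h _⟩ : Q') =
        ⟨θ ⟨(⟨φ₁ d, hmem d⟩ : (preimageAlong θ Q' : Subgroup Ω)), hD₂ (hmem d)⟩,
          hD₂Q' ⟨φ₁ d, hmem d⟩⟩ := Subtype.ext (hind₁ d)
    rw [h1, hind₂]
  inv_mem := by
    rintro P' φ' ⟨hP', φ, hφ, hD, hφS, hDP', hind⟩
    obtain ⟨ψ, hψ, hψφ⟩ := F.inv_mem hφ
    have hS₀D : S₀ ≤ preimageAlong θ P' := ker_le_preimageAlong θ hS₀.1 hker P'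
    have hle : preimageAlong θ φ'.range ≤ φ.range := by
      intro y hy
      obtain ⟨hyS, hy'⟩ := (mem_preimageAlong θ _ y).mp hy
      obtain ⟨x', hx'⟩ := hy'
      obtain ⟨d, hd⟩ := exists_preimage_of_mem_range θ hrange hP' x'
      have h1 : x' = ⟨θ ⟨d, hD d.2⟩, hDP' d⟩ := Subtype.ext hd.symm
      rw [h1, hind] at hx'
      have h2 : θ (⟨φ d, hφS d⟩⁻¹ * ⟨y, hyS⟩) = 1 := by
        rw [map_mul, map_inv, hx', inv_mul_cancel]
      have h3 : (φ d)⁻¹ * y ∈ S₀ := (hker _).mp h2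
      obtain ⟨z, -, hz⟩ := exists_preimage_of_stronglyClosed F hS₀ hS₀D hφ _ h3
      refine ⟨d * z, ?_⟩
      rw [map_mul, hz]
      group
    have hψ₀ := restrict_mem F hψ hle
    set ψ₀ := ψ.comp (Subgroup.inclusion hle) with hψ₀def
    have hD' : preimageAlong θ φ'.range ≤ S := preimageAlong_le θ _
    have hψ₀S : ∀ x, ψ₀ x ∈ S := fun x => hom_mem F hψ₀ x
    have hD'P' := map_mem_of_mem_preimageAlong θ φ'.range
    have hφd : ∀ d : (preimageAlong θ P' : Subgroup Ω), φ d ∈ preimageAlong θ φ'.range := by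
      intro d
      rw [mem_preimageAlong]
      refine ⟨hφS d, ?_⟩
      rw [← hind d]
      exact ⟨_, rfl⟩
    have hsurj : ∀ y ∈ φ'.range, ∃ x : (preimageAlong θ φ'.range : Subgroup Ω),
        θ ⟨x, hD' x.2⟩ = y := by
      rintro _ ⟨x', rfl⟩
      obtain ⟨d, hd⟩ := exists_preimage_of_mem_range θ hrange hP' x'
      have h1 : x' = ⟨θ ⟨d, hD d.2⟩, hDP' d⟩ := Subtype.ext hd.symm
      refine ⟨⟨φ d, hφd d⟩, ?_⟩
      rw [h1, hind]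
    have hker' : ∀ x : (preimageAlong θ φ'.range : Subgroup Ω),
        θ ⟨x, hD' x.2⟩ = 1 → θ ⟨ψ₀ x, hψ₀S x⟩ = 1 := by
      intro x hx
      have h1 : (x : Ω) ∈ S₀ := (hker _).mp hx
      exact (hker _).mpr (map_mem_of_stronglyClosed F hS₀ hψ₀ x h1)
    have hrangeS' : φ'.range ≤ S' := by
      rintro _ ⟨x', rfl⟩
      obtain ⟨d, hd⟩ := exists_preimage_of_mem_range θ hrange hP' x'
      have h1 : x' = ⟨θ ⟨d, hD d.2⟩, hDP' d⟩ := Subtype.ext hd.symm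
      rw [h1, hind, ← hrange]
      exact ⟨_, rfl⟩
    refine ⟨inducedHom θ hD' ψ₀ hψ₀S φ'.range hD'P' hsurj hker',
      ⟨hrangeS', ψ₀, hψ₀, inducedAlong_inducedHom θ hD' ψ₀ hψ₀S φ'.range hD'P' hsurj hker'⟩, ?_⟩
    intro x'
    obtain ⟨d, hd⟩ := exists_preimage_of_mem_range θ hrange hP' x'
    have h1 : x' = ⟨θ ⟨d, hD d.2⟩, hDP' d⟩ := Subtype.ext hd.symm
    have h2 : (⟨φ' x', ⟨x', rfl⟩⟩ : φ'.range) =
        ⟨θ ⟨(⟨φ d, hφd d⟩ : (preimageAlong θ φ'.range : Subgroup Ω)), hD' (hφd d)⟩,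
          hD'P' ⟨φ d, hφd d⟩⟩ := by
      apply Subtype.ext
      show φ' x' = θ ⟨φ d, _⟩
      rw [h1, hind]
    rw [h2, inducedHom_apply]
    have h3 : ψ₀ ⟨φ d, hφd d⟩ = (d : Ω) := hψφ d
    rw [h1]
    show θ ⟨ψ₀ ⟨φ d, hφd d⟩, _⟩ = θ ⟨d, hD d.2⟩
    congr 1
    exact Subtype.ext h3

theorem factorSystem_isFactorSystem [Finite S] (F : FusionSystem S) (S₀ : Subgroup Ω)
    (hS₀ : F.StronglyClosed S₀) (θ : S →* Ω') (hker : ∀ s : S, θ s = 1 ↔ (s : Ω) ∈ S₀)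
    (S' : Subgroup Ω') (hrange : θ.range = S') :
    F.IsFactorSystem S₀ θ (factorSystem F S₀ hS₀ θ hker S' hrange) :=
  ⟨hS₀.1, hker, hrange, fun _ _ => Iff.rfl⟩

/-- S5132 -/
theorem exists_factorSystem_quotient [Finite S] (F : FusionSystem S) (S₀ : Subgroup Ω)
    (hS₀ : F.StronglyClosed S₀) [(S₀.subgroupOf S).Normal] :
    ∃ E : FusionSystem (⊤ : Subgroup (S ⧸ S₀.subgroupOf S)),
      F.IsFactorSystem S₀ (QuotientGroup.mk' (S₀.subgroupOf S)) E := by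
  have hker : ∀ s : S, (QuotientGroup.mk' (S₀.subgroupOf S)) s = 1 ↔ (s : Ω) ∈ S₀ := by
    intro s
    rw [QuotientGroup.mk'_apply, QuotientGroup.eq_one_iff]
    exact Subgroup.mem_subgroupOf
  have hrange : (QuotientGroup.mk' (S₀.subgroupOf S)).range = ⊤ :=
    MonoidHom.range_eq_top.mpr (QuotientGroup.mk'_surjective _)
  exact ⟨factorSystem F S₀ hS₀ _ hker ⊤ hrange, factorSystem_isFactorSystem F S₀ hS₀ _ hker ⊤ hrange⟩

end Cfsg.Agent.Lib.Helper9
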