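import Mathlib
import Cfsg.Agent.Lib.Helper3.NMDefs
import Cfsg.Agent.Lib.Helper9.NMBasic
import Cfsg.Agent.Lib.Helper8.CSGAsym
import Cfsg.Agent.Lib.Helper4.NML

/-! S4146 piece P14: scenario CC is impossible. -/

set_option autoImplicit false
set_option maxHeartbeats 4000000
set_option linter.unusedVariables false
set_option linter.unusedSectionVars false
set_option linter.style.longLine false
set_option linter.style.haveILetI false

namespace Cfsg.Agent.Lib.Helper3.NM

open Cfsg.Agent.Lib.Helper8.CSG Cfsg.Agent.Lib.Helper1.PSG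

variable {G : Type*} [Group G] [Finite G]

/-- private copy of P13 -/
theorem h9_le_of_sylow_order {q : ℕ} [Fact q.Prime] (D T N : Subgroup G) [N.Normal] (hTD : T ≤ D)
    (hND : N ≤ D) (hT : IsPGroup q T) (hN : IsPGroup q N)
    (hcard : ¬ q ∣ Nat.card D / Nat.card T) : N ≤ T := by
  have hq : q.Prime := Fact.out
  have hNT : IsPGroup q (N ⊔ T : Subgroup G) := IsPGroup.to_sup_of_normal_left hN hT
  have hle : N ⊔ T ≤ D := sup_le hND hTD
  have hTle : T ≤ N ⊔ T := le_sup_right
  obtain ⟨a, ha⟩ := IsPGroup.iff_card.mp hNT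
  obtain ⟨b, hb⟩ := IsPGroup.iff_card.mp hT
  have h1 : Nat.card T ∣ Nat.card (N ⊔ T : Subgroup G) := Subgroup.card_dvd_of_le hTle
  have h2 : Nat.card (N ⊔ T : Subgroup G) ∣ Nat.card D := Subgroup.card_dvd_of_le hle
  have hba : b ≤ a := by
    rw [ha, hb] at h1
    exact (Nat.pow_dvd_pow_iff_le_right hq.one_lt).mp h1
  have hab : a = b := by
    by_contra hne
    have hlt : b < a := lt_of_le_of_ne hba (Ne.symm hne)
    apply hcard
    have hTpos : 0 < Nat.card T := Nat.card_pos
    -- q * card T ∣ card (N ⊔ T) ∣ card D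
    have h3 : q * Nat.card T ∣ Nat.card D := by
      refine dvd_trans ?_ h2
      rw [ha, hb, ← pow_succ']
      exact pow_dvd_pow q hlt
    obtain ⟨c, hc⟩ := h3
    have h4 : Nat.card D / Nat.card T = q * c := by
      rw [hc]
      have : q * Nat.card T * c = Nat.card T * (q * c) := by ring
      rw [this, Nat.mul_div_cancel_left _ hTpos]
    rw [h4]
    exact dvd_mul_right q c
  have hcardeq : Nat.card T = Nat.card (N ⊔ T : Subgroup G) := by rw [ha, hb, hab]
  have heq : T = N ⊔ T := by
    apply Subgroup.eq_of_le_of_card_ge hTle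
    rw [hcardeq]
  rw [heq]
  exact le_sup_left

/-- the `q`-elements of an abelian subgroup -/
def h9_qpart (L : Subgroup G) (hab : ∀ a ∈ L, ∀ b ∈ L, a * b = b * a) (q : ℕ) : Subgroup G where
  carrier := {l | l ∈ L ∧ PElt q l}
  one_mem' := ⟨L.one_mem, ⟨0, by simp⟩⟩
  mul_mem' := by
    rintro a b ⟨ha, hqa⟩ ⟨hb, hqb⟩
    exact ⟨L.mul_mem ha hb, pelt_mul hqa hqb (hab a ha b hb)⟩
  inv_mem' := by
    rintro a ⟨ha, k, hk⟩
    exact ⟨L.inv_mem ha, ⟨k, by rw [inv_pow, hk, inv_one]⟩⟩

/-- P14: scenario CC is impossible -/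
theorem cc_false {n m : ℕ} (h : Hyp G n m) (hlt : n < m) (hc : CC G n m)
    (L : Subgroup G) [L.Normal] (hL : IsL L n)
    (hcomm : ∀ x y : G, idx x = n → idx y = m → x * y = y * x) : False := by
  have hn := h.hn
  have hm := h.hm
  have hLab := L_comm h hc L hL
  -- the element `y`
  obtain ⟨y0, hy0⟩ := h.ex2
  have hy0Z : y0 ∉ Subgroup.center G := by
    intro hz
    have := h8_idx_eq_one_of_mem_center hz
    omega
  obtain ⟨r, y, hr, hy, hyz, hyZ⟩ := exists_primary_noncentral hy0Z
  have hym : idx y = m := by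
    have hd : idx y ∣ m := by rw [← hy0]; exact idx_dvd_of_mem_zpowers hyz
    rcases idx_of_dvd_right h hd with h1 | h1
    · exact absurd (h8_mem_center_of_idx_eq_one h1) hyZ
    · exact h1
  have hrm : ¬ r ∣ m := hc.c2 r y hr hy hym
  have hrn : r ∣ n := by
    by_contra hrn
    exact hyZ (mem_center_of_pelt h hr hrn hrm hy)
  -- the element `x`
  obtain ⟨x0, hx0⟩ := h.ex1
  have hx0Z : x0 ∉ Subgroup.center G := by
    intro hz
    have := h8_idx_eq_one_of_mem_center hz
    omega
  obtain ⟨q, x, hq, hx, hxz, hxZ⟩ := exists_primary_noncentral hx0Z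
  have hxn : idx x = n := by
    have hd : idx x ∣ n := by rw [← hx0]; exact idx_dvd_of_mem_zpowers hxz
    rcases idx_of_dvd_left h hd with h1 | h1
    · exact absurd (h8_mem_center_of_idx_eq_one h1) hxZ
    · exact h1
  have hqn : ¬ q ∣ n := hc.c1 q x hq hx hxn
  have hqr : q ≠ r := by
    intro e
    rw [e] at hqn
    exact hqn hrn
  haveI : Fact r.Prime := ⟨hr⟩
  haveI : Fact q.Prime := ⟨hq⟩
  -- an `r`-element outside `C(x)`
  obtain ⟨R⟩ : Nonempty (Sylow r G) := inferInstance
  have hRx : ¬ (R : Subgroup G) ≤ Subgroup.centralizer ({x} : Set G) := by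
    intro hle
    have h1 : idx x ∣ (R : Subgroup G).index := Subgroup.index_dvd_of_le hle
    rw [hxn] at h1
    exact R.not_dvd_index (hrn.trans h1)
  obtain ⟨g, hgR, hgx⟩ := SetLike.not_le_iff_exists.mp hRx
  have hgr : PElt r g := pelt_of_mem_sylow R hgR
  have hgx' : ¬ Commute g x := by
    intro hcm
    apply hgx
    rw [Subgroup.mem_centralizer_singleton_iff]
    exact hcm.eq
  have hxL : x ∈ L := (hL x).mpr (Or.inr hxn)
  have hgnm : idx g = n * m := by
    rcases h.mem g with h1 | h1 | h1 | h1
    · exfalso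
      have hz := h8_mem_center_of_idx_eq_one h1
      exact hgx' ((Subgroup.mem_center_iff.mp hz x).symm)
    · exfalso
      have hgL : g ∈ L := (hL g).mpr (Or.inr h1)
      exact hgx' (hLab g hgL x hxL)
    · exfalso
      exact hgx' (hcomm x g hxn h1).symm
    · exact h1
  -- a conjugate of `g` commuting with `y`
  obtain ⟨a, ha⟩ := exists_conj_commute (p := r) (u := y) (v := g) (by rw [hym]; exact hrm) hgr
  set g' := a * g * a⁻¹ with hg'
  set x' := a * x * a⁻¹ with hx'
  have hg'r : PElt r g' := pelt_conj hgr a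
  have hg'nm : idx g' = n * m := by rw [hg', idx_conj]; exact hgnm
  have hx'n : idx x' = n := by rw [hx', idx_conj]; exact hxn
  have hx'q : PElt q x' := pelt_conj hx a
  have hx'L : x' ∈ L := (hL x').mpr (Or.inr hx'n)
  have hg'x' : ¬ Commute g' x' := by
    intro hcm
    apply hgx'
    have h1 : g' * x' = x' * g' := hcm.eq
    have h2 : a * (g * x) * a⁻¹ = a * (x * g) * a⁻¹ := by
      have e1 : g' * x' = a * (g * x) * a⁻¹ := by rw [hg', hx']; group
      have e2 : x' * g' = a * (x * g) * a⁻¹ := by rw [hg', hx']; group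
      rw [← e1, ← e2, h1]
    have h3 : g * x = x * g := by
      have h4 := mul_right_cancel h2
      exact mul_left_cancel h4
    exact h3
  -- the subgroups
  set D : Subgroup G := Subgroup.centralizer ({y} : Set G) with hD
  set K : Subgroup G := Subgroup.centralizer ({g'} : Set G) with hK
  have hLD : L ≤ D := by
    intro l hl
    rw [hD, Subgroup.mem_centralizer_singleton_iff]
    rcases (hL l).mp hl with h1 | h1
    · have hz := h8_mem_center_of_idx_eq_one h1
      exact (Subgroup.mem_center_iff.mp hz y).symm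
    · exact hcomm l y h1 hym
  obtain ⟨Q⟩ : Nonempty (Sylow q K) := inferInstance
  set T : Subgroup G := (Q : Subgroup K).map K.subtype with hT
  have hTq : IsPGroup q T := Q.isPGroup'.map K.subtype
  have hTK : T ≤ K := by
    rw [hT]
    intro t ht
    obtain ⟨t0, _, rfl⟩ := Subgroup.mem_map.mp ht
    exact t0.2
  have hTD : T ≤ D := by
    intro t ht
    have htK : t ∈ K := hTK ht
    have hcm : Commute g' t := by
      rw [hK, Subgroup.mem_centralizer_singleton_iff] at htK
      exact (htK : t * g' = g' * t).symm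
    have hto : ¬ r ∣ orderOf t := by
      obtain ⟨k, hk⟩ := (IsPGroup.iff_orderOf.mp hTq) ⟨t, ht⟩
      rw [Subgroup.orderOf_mk] at hk
      rw [hk]
      intro hd
      have := (Nat.prime_dvd_prime_iff_eq hr hq).mp (hr.dvd_of_dvd_pow hd)
      exact hqr this.symm
    have hle := cent_le_of_max h hr hg'r hg'nm hcm hto
    have hyK : y ∈ Subgroup.centralizer ({g'} : Set G) := by
      rw [Subgroup.mem_centralizer_singleton_iff]
      exact ha.eq
    have := hle hyK
    rw [Subgroup.mem_centralizer_singleton_iff] at this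
    rw [hD, Subgroup.mem_centralizer_singleton_iff]
    exact this.symm
  -- cardinalities
  have hcardT : Nat.card T = Nat.card (Q : Subgroup K) := by
    rw [hT]
    exact Subgroup.card_map_of_injective K.subtype_injective
  have hcardD : Nat.card D = n * Nat.card K := by
    have h1 : D.index * Nat.card D = Nat.card G := Subgroup.index_mul_card D
    have h2 : K.index * Nat.card K = Nat.card G := Subgroup.index_mul_card K
    have h3 : D.index = m := hym
    have h4 : K.index = n * m := hg'nm
    rw [h3] at h1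
    rw [h4] at h2
    have h5 : m * Nat.card D = m * (n * Nat.card K) := by rw [h1, ← h2]; ring
    exact Nat.eq_of_mul_eq_mul_left (by omega) h5
  have hcardK : Nat.card K = Nat.card (Q : Subgroup K) * (Q : Subgroup K).index := by
    rw [mul_comm]; exact (Subgroup.index_mul_card (Q : Subgroup K)).symm
  have hcard : ¬ q ∣ Nat.card D / Nat.card T := by
    have hTpos : 0 < Nat.card T := Nat.card_pos
    have h1 : Nat.card D / Nat.card T = n * (Q : Subgroup K).index := by
      rw [hcardD, hcardK, hcardT]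
      have : n * (Nat.card (Q : Subgroup K) * (Q : Subgroup K).index) =
          Nat.card (Q : Subgroup K) * (n * (Q : Subgroup K).index) := by ring
      rw [this, Nat.mul_div_cancel_left _ (by rw [← hcardT]; exact hTpos)]
    rw [h1]
    intro hd
    rcases (Nat.Prime.dvd_mul hq).mp hd with h2 | h2
    · exact hqn h2
    · exact Q.not_dvd_index h2
  -- the normal closure of `x'`
  set Lq : Subgroup G := h9_qpart L hLab q with hLq
  set N : Subgroup G := Subgroup.normalClosure ({x'} : Set G) with hN
  haveI : N.Normal := Subgroup.normalClosure_normal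
  have hNLq : N ≤ Lq := by
    rw [hN]
    unfold Subgroup.normalClosure
    rw [Subgroup.closure_le]
    intro c hc'
    rw [Group.mem_conjugatesOfSet_iff] at hc'
    obtain ⟨c', hc'1, hconj⟩ := hc'
    rw [Set.mem_singleton_iff] at hc'1
    subst hc'1
    obtain ⟨b, hb⟩ := isConj_iff.mp hconj
    rw [← hb]
    show b * x' * b⁻¹ ∈ L ∧ PElt q (b * x' * b⁻¹)
    exact ⟨(inferInstance : L.Normal).conj_mem x' hx'L b, pelt_conj hx'q b⟩
  have hNq : IsPGroup q N := by
    intro c
    obtain ⟨k, hk⟩ := (hNLq c.2).2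
    exact ⟨k, Subtype.ext hk⟩
  have hND : N ≤ D := fun c hc' => hLD (hNLq hc').1
  have hNT : N ≤ T := h9_le_of_sylow_order D T N hTD hND hTq hNq hcard
  have hx'N : x' ∈ N := Subgroup.subset_normalClosure (Set.mem_singleton x')
  have hx'K : x' ∈ K := hTK (hNT hx'N)
  rw [hK, Subgroup.mem_centralizer_singleton_iff] at hx'K
  exact hg'x' (hx'K : x' * g' = g' * x').symm

end Cfsg.Agent.Lib.Helper3.NM
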