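import Mathlib
import Cfsg.Agent.Lib.Helper5.OS.Defs
import Cfsg.Agent.Lib.Helper5.OS.Basic
import Cfsg.Agent.Lib.Helper3.CPPairB
import Cfsg.Agent.S3225

set_option autoImplicit false
set_option linter.unusedSectionVars false
set_option linter.unusedVariables false
set_option linter.unusedSimpArgs false
set_option linter.style.haveILetI false
set_option linter.style.longLine false
set_option maxHeartbeats 1000000

/-! # S3421 piece P6a: an involution of `T` outside `A0` -/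

open Cfsg.Agent.Lib.Helper5.OS

namespace Cfsg.Agent.Lib.Helper9.OS

variable {G : Type*} [Group G] [Finite G] {p q n m : ℕ}

/-- an element of `⟨a0⟩` which is `≠ 1` and squares to `1` is `t` -/
theorem eq_t_of_sq {n : ℕ} {t a0 : G} {T : Sylow 2 G} (hC : CData G n t a0 T) {s : G}
    (hs : s ∈ Subgroup.zpowers a0) (hs1 : s ≠ 1) (hs2 : s ^ 2 = 1) : s = t := by
  have ht1 : t ≠ 1 := by
    intro h0
    have := hC.ht
    rw [h0, orderOf_one] at this; omega
  have ht2 : t ^ 2 = 1 := by rw [← hC.ht, pow_orderOf_eq_one]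
  have := Cfsg.Agent.Lib.Helper3.CP.cyclic_unique_involution
    (C := ↥(Subgroup.zpowers a0)) (a := ⟨s, hs⟩) (b := ⟨t, hC.tA⟩)
    (fun h0 => hs1 (congrArg Subtype.val h0)) (fun h0 => ht1 (congrArg Subtype.val h0))
    (Subtype.ext (by simpa using hs2)) (Subtype.ext (by simpa using ht2))
  exact congrArg Subtype.val this

/-- the key trick: if `y` has order `2^k` (`k ≥ 1`), `y ^ 2^(k-1) ∈ A0`, `g y g⁻¹ ∈ A0`,
then `y ∈ A0` -/
theorem mem_of_conj_mem (h : Hyp G p q n m) {t a0 : G} {T : Sylow 2 G} (hC : CData G n t a0 T)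
    {y g : G} {k : ℕ} (hk : 1 ≤ k) (hyo : orderOf y = 2 ^ k)
    (hpow : y ^ 2 ^ (k - 1) ∈ Subgroup.zpowers a0)
    (hconj : g * y * g⁻¹ ∈ Subgroup.zpowers a0) : y ∈ Subgroup.zpowers a0 := by
  have hk' : 2 ^ k = 2 ^ (k - 1) * 2 := by
    rw [← pow_succ]; congr 1; omega
  -- `y ^ 2^(k-1)` is an involution
  have h1 : y ^ 2 ^ (k - 1) ≠ 1 := by
    intro h0
    have := orderOf_dvd_of_pow_eq_one h0
    rw [hyo] at this
    have := Nat.le_of_dvd (by positivity) this
    have : 2 ^ (k - 1) < 2 ^ k := Nat.pow_lt_pow_right (by norm_num) (by omega)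
    omega
  have h2 : (y ^ 2 ^ (k - 1)) ^ 2 = 1 := by
    rw [← pow_mul, ← hk', ← hyo, pow_orderOf_eq_one]
  have e1 := eq_t_of_sq hC hpow h1 h2
  -- same for the conjugate
  have hc : (g * y * g⁻¹) ^ 2 ^ (k - 1) = g * (y ^ 2 ^ (k - 1)) * g⁻¹ := by
    rw [conj_pow]
  have h3 : (g * y * g⁻¹) ^ 2 ^ (k - 1) ≠ 1 := by
    rw [hc]
    intro h0
    apply h1
    calc y ^ 2 ^ (k - 1) = g⁻¹ * (g * (y ^ 2 ^ (k - 1)) * g⁻¹) * g := by group
      _ = 1 := by rw [h0]; group
  have h4 : ((g * y * g⁻¹) ^ 2 ^ (k - 1)) ^ 2 = 1 := by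
    rw [hc, conj_pow, h2]; group
  have e2 := eq_t_of_sq hC (Subgroup.pow_mem _ hconj _) h3 h4
  -- `g` centralizes `t`
  have hgt : g * t * g⁻¹ = t := by
    rw [← e1, ← hc]
    rw [e2, e1]
  have hgC : g⁻¹ ∈ Subgroup.centralizer ({t} : Set G) := by
    rw [Subgroup.mem_centralizer_singleton_iff]
    calc g⁻¹ * t = g⁻¹ * (g * t * g⁻¹) := by rw [hgt]
      _ = t * g⁻¹ := by group
  have := hC.conj_mem h hgC hconj
  have e3 : g⁻¹ * (g * y * g⁻¹) * g⁻¹⁻¹ = y := by group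
  rwa [e3] at this

theorem exists_invol_outside (h : Hyp G p q n m) (h2 : ∀ H : Subgroup G, H.index ≠ 2)
    {t a0 : G} {T : Sylow 2 G} (hC : CData G n t a0 T) :
    ∃ u : G, u ∈ (T : Subgroup G) ∧ u ∉ Subgroup.zpowers a0 ∧ orderOf u = 2 := by
  classical
  by_contra hcon
  push Not at hcon
  set T0 : Subgroup G := (T : Subgroup G) ⊓ Subgroup.zpowers a0 with hT0
  have hT0pos : 0 < Nat.card T0 := Nat.card_pos
  have hrel : T0.relIndex (T : Subgroup G) = 2 := by
    have h1 := card_mul_relIndex_of_le T0 (T : Subgroup G) inf_le_left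
    have h3 := hC.TA
    have : Nat.card T0 * T0.relIndex (T : Subgroup G) = Nat.card T0 * 2 := by rw [h1, h3]
    exact Nat.eq_of_mul_eq_mul_left hT0pos this
  -- an element of `T` outside `A0`
  have hex : ∃ k : ℕ, ∃ y ∈ (T : Subgroup G), y ∉ Subgroup.zpowers a0 ∧ orderOf y = k := by
    by_contra hno
    push Not at hno
    have hle : (T : Subgroup G) ≤ T0 := by
      intro y hy
      refine ⟨hy, ?_⟩
      by_contra hyA
      exact hno (orderOf y) y hy hyA rfl
    have heq : T0 = (T : Subgroup G) := le_antisymm inf_le_left hle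
    have h3 := hC.TA
    rw [← hT0, heq] at h3
    have : 0 < Nat.card (T : Subgroup G) := Nat.card_pos
    omega
  obtain ⟨y, hyT, hyA, hyo⟩ := Nat.find_spec hex
  have hmin : ∀ y' ∈ (T : Subgroup G), y' ∉ Subgroup.zpowers a0 → Nat.find hex ≤ orderOf y' :=
    fun y' hy' hyA' => Nat.find_min' hex ⟨y', hy', hyA', rfl⟩
  -- `y` has order `2^k`, `k ≥ 2`
  obtain ⟨j, hj⟩ := T.isPGroup' ⟨y, hyT⟩
  have hj' : y ^ 2 ^ j = 1 := by simpa using congrArg Subtype.val hj
  obtain ⟨k, -, hk⟩ := (Nat.dvd_prime_pow Nat.prime_two).1 (orderOf_dvd_of_pow_eq_one hj')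
  have hk0 : k ≠ 0 := by
    rintro rfl
    rw [pow_zero, orderOf_eq_one_iff] at hk
    exact hyA (hk ▸ Subgroup.one_mem _)
  have hk1 : k ≠ 1 := by
    rintro rfl
    rw [pow_one] at hk
    exact hcon y hyT hyA hk
  have hk2 : 2 ≤ k := by omega
  have hev : Even (Nat.card G) := by
    rw [h.card]
    exact ⟨q * n * m, by ring⟩
  have hord : ∀ y' ∈ (T : Subgroup G), y' ∉ T0 → 2 ^ (k - 1) < orderOf y' := by
    intro y' hy' hy'0
    have hy'A : y' ∉ Subgroup.zpowers a0 := fun h0 => hy'0 ⟨hy', h0⟩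
    have h1 := hmin y' hy' hy'A
    rw [← hyo, hk] at h1
    have : 2 ^ (k - 1) < 2 ^ k := Nat.pow_lt_pow_right (by norm_num) (by omega)
    omega
  obtain ⟨g, hg⟩ := Cfsg.Agent.S3225.result hev h2 T T0 inf_le_left hrel k (by omega) hord y hyT hk
  -- `y^2 ∈ T0`
  have hsq : y ^ 2 ∈ T0 := by
    have hidx : (T0.subgroupOf (T : Subgroup G)).index = 2 := hrel
    haveI := Subgroup.normal_of_index_eq_two hidx
    have h5 := Subgroup.pow_index_mem (T0.subgroupOf (T : Subgroup G)) (⟨y, hyT⟩ : ↥(T : Subgroup G))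
    rw [hidx, Subgroup.mem_subgroupOf] at h5
    simpa using h5
  have hpow : y ^ 2 ^ (k - 1) ∈ Subgroup.zpowers a0 := by
    have e : 2 ^ (k - 1) = 2 * 2 ^ (k - 2) := by
      rw [← pow_succ']; congr 1; omega
    rw [e, pow_mul]
    exact Subgroup.pow_mem _ hsq.2 _
  exact hyA (mem_of_conj_mem h hC (by omega) hk hpow hg.2)

end Cfsg.Agent.Lib.Helper9.OS
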