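import Mathlib
import Cfsg.Agent.Lib.Helper5.OS.Defs
import Cfsg.Agent.Lib.Helper5.OS.Basic
import Cfsg.Agent.Lib.Helper9.OSP6a
import Cfsg.Agent.Lib.Helper9.OSP1

set_option autoImplicit false
set_option linter.unusedSectionVars false
set_option linter.unusedVariables false
set_option linter.unusedSimpArgs false
set_option linter.style.haveILetI false
set_option linter.style.longLine false
set_option maxHeartbeats 2000000

/-! # S3421 piece P7c, Q3: `|N(C(t))| = 6n` in the abelian special case -/

open Cfsg.Agent.Lib.Helper5.OS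

namespace Cfsg.Agent.Lib.Helper9.OS

variable {G : Type*} [Group G] [Finite G] {p q n m : ℕ}

theorem card_normalizer_centralizer (h : Hyp G p q n m) [IsSimpleGroup G]
    {t a0 : G} {T : Sylow 2 G} (hC : CData G n t a0 T) {u : G} (huT : u ∈ (T : Subgroup G))
    (huA : u ∉ Subgroup.zpowers a0) (hu : orderOf u = 2)
    (hT2 : Nat.card ↥((T : Subgroup G) ⊓ Subgroup.zpowers a0) = 2)
    (hcomm : ∀ x ∈ Subgroup.centralizer ({t} : Set G), ∀ y ∈ Subgroup.centralizer ({t} : Set G), x * y = y * x) :
    Nat.card ↥(Subgroup.normalizer ((Subgroup.centralizer ({t} : Set G) : Subgroup G) : Set G)) = 6 * n := by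
  classical
  haveI : Fact (Nat.Prime 2) := ⟨Nat.prime_two⟩
  set A0 : Subgroup G := Subgroup.zpowers a0 with hA0
  set T0 : Subgroup G := (T : Subgroup G) ⊓ A0 with hT0
  set C : Subgroup G := Subgroup.centralizer ({t} : Set G) with hCdef
  have hn2 := h.n_ge
  have hm3 := h.m_ge
  have hq5 := h.q5
  have hu2 : u * u = 1 := by
    have := pow_orderOf_eq_one u
    rwa [hu, pow_two] at this
  have huC : u ∈ C := hC.TC huT
  have ht1 : t ≠ 1 := by
    intro h0
    have := hC.ht
    rw [h0, orderOf_one] at this; omega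
  have htt : t * t = 1 := by
    have := pow_orderOf_eq_one t
    rwa [hC.ht, pow_two] at this
  have htT : t ∈ (T : Subgroup G) := hC.t_mem
  have htC : t ∈ C := hC.TC htT
  have hTC : (T : Subgroup G) ≤ C := hC.TC
  have hTcard : Nat.card (T : Subgroup G) = 4 := by
    have := hC.TA
    rw [hT2] at this
    omega
  obtain ⟨n', hn'⟩ := h.neven
  have hn'odd : Odd n' := by
    rw [← Nat.not_even_iff_odd]
    rintro ⟨k, hk⟩
    have h8 : 2 ^ 3 ∣ Nat.card G := by
      rw [h.card, hn', hk]
      exact ⟨q * k * m, by ring⟩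
    have := T.pow_dvd_card_of_pow_dvd_card h8
    rw [hTcard] at this
    norm_num at this
  have hn2n' : n = 2 * n' := by omega
  have hCcard : Nat.card C = 2 * n := hC.cardC
  -- elements of `C`
  have hCsplit : ∀ c ∈ C, c ∈ A0 ∨ c * u ∈ A0 := by
    intro c hc
    by_cases hcA : c ∈ A0
    · exact Or.inl hcA
    · right
      have hidx : (A0.subgroupOf C).index = 2 := hC.relIndex_zpowers h
      have := (Subgroup.mul_mem_iff_of_index_two hidx
        (a := (⟨c, hc⟩ : ↥C)) (b := (⟨u, huC⟩ : ↥C)))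
      rw [Subgroup.mem_subgroupOf, Subgroup.mem_subgroupOf, Subgroup.mem_subgroupOf] at this
      exact this.2 ⟨fun h0 => absurd h0 hcA, fun h0 => absurd h0 huA⟩
  have hT0two : ∀ s ∈ T0, s = 1 ∨ s = t := by
    intro s hs
    by_cases hs1 : s = 1
    · exact Or.inl hs1
    · right
      apply eq_t_of_sq hC hs.2 hs1
      have := Subgroup.orderOf_dvd_natCard T0 hs
      rw [hT2] at this
      exact orderOf_dvd_iff_pow_eq_one.1 this
  have hsqT : ∀ c ∈ C, c ^ 2 = 1 → c ∈ (T : Subgroup G) := by
    intro c hc hc2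
    rcases hCsplit c hc with h1 | h1
    · by_cases hc1 : c = 1
      · rw [hc1]; exact Subgroup.one_mem _
      · rw [eq_t_of_sq hC h1 hc1 hc2]; exact htT
    · have h3 : (c * u) ^ 2 = 1 := by
        have c1 : Commute c u := hcomm c hc u huC
        rw [c1.mul_pow, hc2, pow_two, hu2, one_mul]
      have e1 : c = (c * u) * u := by rw [mul_assoc, hu2, mul_one]
      rw [e1]
      by_cases hc1 : c * u = 1
      · rw [hc1, one_mul]; exact huT
      · rw [eq_t_of_sq hC h1 hc1 h3]; exact (T : Subgroup G).mul_mem htT huT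
  have hTsq : ∀ s ∈ (T : Subgroup G), s ^ 2 = 1 := by
    intro s hs
    rcases hCsplit s (hTC hs) with h8 | h8
    · rcases hT0two s ⟨hs, h8⟩ with h9 | h9
      · rw [h9, one_pow]
      · rw [h9, pow_two, htt]
    · have e1 : s = (s * u) * u := by rw [mul_assoc, hu2, mul_one]
      rcases hT0two (s * u) ⟨(T : Subgroup G).mul_mem hs huT, h8⟩ with h9 | h9
      · rw [h9, one_mul] at e1
        rw [e1, pow_two, hu2]
      · rw [h9] at e1
        have c1 : Commute t u := hcomm t htC u huC
        rw [e1, c1.mul_pow, pow_two, htt, pow_two, hu2, one_mul]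
  -- normalizers
  set NT : Subgroup G := Subgroup.normalizer ((T : Subgroup G) : Set G) with hNT
  set NC : Subgroup G := Subgroup.normalizer ((C : Subgroup G) : Set G) with hNC
  have hconj_sq : ∀ g s : G, s ^ 2 = 1 → (g * s * g⁻¹) ^ 2 = 1 := by
    intro g s hs
    rw [conj_pow, hs]; group
  have hNC_NT : NC ≤ NT := by
    have key : ∀ g ∈ NC, ∀ s ∈ (T : Subgroup G), g * s * g⁻¹ ∈ (T : Subgroup G) := by
      intro g hg s hs
      apply hsqT
      · exact (Subgroup.mem_normalizer_iff.1 hg s).1 (hTC hs)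
      · exact hconj_sq g s (hTsq s hs)
    intro g hg
    rw [hNT, Subgroup.mem_normalizer_iff]
    intro s
    constructor
    · exact key g hg s
    · intro h1
      have := key g⁻¹ (NC.inv_mem hg) _ h1
      have e1 : g⁻¹ * (g * s * g⁻¹) * g⁻¹⁻¹ = s := by group
      rwa [e1] at this
  have hNT_NC : NT ≤ NC := by
    have key : ∀ g ∈ NT, ∀ c ∈ C, g * c * g⁻¹ ∈ C := by
      intro g hg c hc
      rw [hCdef, Subgroup.mem_centralizer_singleton_iff]
      -- `s := g⁻¹ t g ∈ T`
      have hs : g⁻¹ * t * g⁻¹⁻¹ ∈ (T : Subgroup G) :=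
        (Subgroup.mem_normalizer_iff.1 (NT.inv_mem hg) t).1 htT
      have hcs := hcomm c hc _ (hTC hs)
      calc g * c * g⁻¹ * t = g * (c * (g⁻¹ * t * g⁻¹⁻¹)) * g⁻¹ := by group
        _ = g * ((g⁻¹ * t * g⁻¹⁻¹) * c) * g⁻¹ := by rw [hcs]
        _ = t * (g * c * g⁻¹) := by group
    intro g hg
    rw [hNC, Subgroup.mem_normalizer_iff]
    intro c
    constructor
    · exact key g hg c
    · intro h1
      have := key g⁻¹ (NT.inv_mem hg) _ h1
      have e1 : g⁻¹ * (g * c * g⁻¹) * g⁻¹⁻¹ = c := by group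
      rwa [e1] at this
  have hNeq : NC = NT := le_antisymm hNC_NT hNT_NC
  have hCNT : C ≤ NT := by
    rw [← hNeq]; exact Subgroup.le_normalizer
  have hconjT : ∀ g ∈ NT, ∀ s ∈ (T : Subgroup G), g * s * g⁻¹ ∈ (T : Subgroup G) :=
    fun g hg s hs => (Subgroup.mem_normalizer_iff.1 hg s).1 hs
  -- action of `NT` on `T ∖ 1`
  let X := {s : ↥(T : Subgroup G) // s ≠ 1}
  letI : MulAction ↥NT X :=
    { smul := fun g y => ⟨⟨(g : G) * (y.1 : G) * (g : G)⁻¹, hconjT g g.2 y.1 y.1.2⟩, by
        intro h0
        apply y.2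
        have h1 : (g : G) * (y.1 : G) * (g : G)⁻¹ = 1 := congrArg Subtype.val h0
        apply Subtype.ext
        calc (y.1 : G) = (g : G)⁻¹ * ((g : G) * (y.1 : G) * (g : G)⁻¹) * (g : G) := by group
          _ = 1 := by rw [h1]; group⟩
      one_smul := by
        intro y
        apply Subtype.ext; apply Subtype.ext
        show ((1 : ↥NT) : G) * (y.1 : G) * ((1 : ↥NT) : G)⁻¹ = (y.1 : G)
        simp
      mul_smul := by
        intro g g' y
        apply Subtype.ext; apply Subtype.ext
        show ((g * g' : ↥NT) : G) * (y.1 : G) * ((g * g' : ↥NT) : G)⁻¹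
          = (g : G) * ((g' : G) * (y.1 : G) * (g' : G)⁻¹) * (g : G)⁻¹
        rw [Subgroup.coe_mul]; group }
  have hsm : ∀ (g : ↥NT) (y : X), ((g • y).1 : G) = (g : G) * (y.1 : G) * (g : G)⁻¹ :=
    fun _ _ => rfl
  let t0 : X := ⟨⟨t, htT⟩, fun h0 => ht1 (congrArg Subtype.val h0)⟩
  have hstab : MulAction.stabilizer ↥NT t0 = C.subgroupOf NT := by
    ext g
    rw [MulAction.mem_stabilizer_iff, Subgroup.mem_subgroupOf, hCdef,
      Subgroup.mem_centralizer_singleton_iff]
    constructor
    · intro h0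
      have h1 : (g : G) * t * (g : G)⁻¹ = t := by
        have := hsm g t0
        rw [h0] at this
        exact this.symm
      calc (g : G) * t = ((g : G) * t * (g : G)⁻¹) * (g : G) := by group
        _ = t * (g : G) := by rw [h1]
    · intro h0
      apply Subtype.ext; apply Subtype.ext
      rw [hsm]
      show (g : G) * t * (g : G)⁻¹ = t
      rw [h0]; group
  have hstabcard : Nat.card (MulAction.stabilizer ↥NT t0) = 2 * n := by
    rw [hstab, Nat.card_congr (Subgroup.subgroupOfEquivOfLe hCNT).toEquiv, hCcard]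
  have horb : Nat.card (MulAction.orbit ↥NT t0) * (2 * n) = Nat.card NT := by
    rw [Nat.card_congr (MulAction.orbitEquivQuotientStabilizer ↥NT t0), ← Subgroup.index_eq_card,
      ← hstabcard, mul_comm, Subgroup.card_mul_index]
  have hXcard : Nat.card X = 3 := by
    have h0 : Nat.card {s : ↥(T : Subgroup G) // s ≠ 1} + 1 = Nat.card ↥(T : Subgroup G) :=
      card_ne_add_one (1 : ↥(T : Subgroup G))
    rw [hTcard] at h0
    show Nat.card {s : ↥(T : Subgroup G) // s ≠ 1} = 3
    omega
  have hle : Nat.card (MulAction.orbit ↥NT t0) ≤ 3 := by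
    rw [← hXcard]
    exact Nat.card_le_card_of_injective (fun x => x.1) Subtype.val_injective
  have hpos : 0 < Nat.card (MulAction.orbit ↥NT t0) := by
    haveI : Nonempty (MulAction.orbit ↥NT t0) := ⟨⟨t0, MulAction.mem_orbit_self t0⟩⟩
    exact Nat.card_pos
  have hNTdvd : Nat.card NT ∣ Nat.card G := Subgroup.card_subgroup_dvd_card NT
  rw [hNeq]
  have hcases : Nat.card (MulAction.orbit ↥NT t0) = 1 ∨ Nat.card (MulAction.orbit ↥NT t0) = 2 ∨
      Nat.card (MulAction.orbit ↥NT t0) = 3 := by omega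
  rcases hcases with h1 | h1 | h1
  · -- Burnside
    exfalso
    rw [h1, one_mul] at horb
    have hNTC : NT = C := by
      symm
      apply Subgroup.eq_of_le_of_card_ge hCNT
      rw [← horb, hCcard]
    have hcent : Subgroup.normalizer ((T : Subgroup G) : Set G) ≤
        Subgroup.centralizer ((T : Subgroup G) : Set G) := by
      intro g hg
      have hgC : g ∈ C := by rw [← hNTC]; exact hg
      rw [Subgroup.mem_centralizer_iff]
      intro s hs
      exact hcomm s (hTC hs) g hgC
    have hcompl := MonoidHom.ker_transferSylow_isComplement' T hcent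
    have hK := hcompl.card_mul_card
    rw [hTcard] at hK
    have hG60 : 60 ≤ Nat.card G := by
      rw [h.card]
      calc 60 = 5 * (2 * 2) * 3 := by norm_num
        _ ≤ q * (2 * n) * m := by gcongr
    rcases (MonoidHom.transferSylow T hcent).normal_ker.eq_bot_or_eq_top with h3 | h3
    · rw [h3, Subgroup.card_bot] at hK; omega
    · rw [h3, Subgroup.card_top] at hK; omega
  · exfalso
    rw [h1] at horb
    have h8 : 2 ^ 3 ∣ Nat.card G := by
      refine dvd_trans ?_ hNTdvd
      rw [← horb, hn2n']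
      exact ⟨n', by ring⟩
    have := T.pow_dvd_card_of_pow_dvd_card h8
    rw [hTcard] at this
    norm_num at this
  · rw [← horb, h1]; ring

end Cfsg.Agent.Lib.Helper9.OS
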