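import Mathlib
import Cfsg.Agent.Lib.Helper5.OS.Defs
import Cfsg.Agent.Lib.Helper9.OSP1

set_option autoImplicit false
set_option linter.unusedSectionVars false
set_option linter.unusedVariables false
set_option linter.unusedSimpArgs false
set_option linter.style.haveILetI false
set_option linter.style.longLine false
set_option maxHeartbeats 1000000

/-! # S3421 piece P7c, counting part: a TI subgroup `A1` of odd order dividing `n` whose
normalizer has order `6n` is trivial -/

open Cfsg.Agent.Lib.Helper5.OS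

namespace Cfsg.Agent.Lib.Helper9.OS

variable {G : Type*} [Group G] [Finite G] {p q n m : ℕ}

/-- a subgroup `A` acting freely (by left multiplication) on the nontrivial cosets of `N ≥ A`:
`|A|` divides `|G : N| - 1` -/
theorem card_dvd_index_sub_one (A N : Subgroup G) (hAN : A ≤ N)
    (hfree : ∀ y ∈ A, y ≠ 1 → ∀ g : G, g⁻¹ * y * g ∈ N → g ∈ N) :
    Nat.card A ∣ N.index - 1 := by
  classical
  let X2 := {c : G ⧸ N // c ≠ ((1 : G) : G ⧸ N)}
  letI : MulAction ↥A X2 :=
    { smul := fun x c => ⟨(x : G) • c.1, by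
        intro h0
        apply c.2
        have h1 : c.1 = (x : G)⁻¹ • ((x : G) • c.1) := by
          rw [smul_smul, inv_mul_cancel, one_smul]
        have h2 : (c.1 : G ⧸ N) = (x : G)⁻¹ • (((1 : G) : G ⧸ N)) := by
          rw [h1, h0]
        rw [h2]
        show (((x : G)⁻¹ * 1 : G) : G ⧸ N) = ((1 : G) : G ⧸ N)
        rw [QuotientGroup.eq]
        simp only [mul_one, inv_inv]
        exact hAN x.2⟩
      one_smul := by
        intro c
        apply Subtype.ext
        show ((1 : ↥A) : G) • c.1 = c.1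
        simp
      mul_smul := by
        intro x x' c
        apply Subtype.ext
        show ((x * x' : ↥A) : G) • c.1 = (x : G) • ((x' : G) • c.1)
        rw [Subgroup.coe_mul, mul_smul] }
  have hsm : ∀ (x : ↥A) (c : X2), ((x • c).1 : G ⧸ N) = (x : G) • c.1 := fun _ _ => rfl
  have hstab : ∀ c : X2, Nat.card (MulAction.stabilizer ↥A c) = 1 := by
    intro c
    rw [Subgroup.card_eq_one, eq_bot_iff]
    intro x hx
    rw [Subgroup.mem_bot]
    by_contra hx1
    rw [MulAction.mem_stabilizer_iff] at hx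
    obtain ⟨g, hg⟩ := QuotientGroup.mk_surjective c.1
    have h1 : (x : G) • c.1 = c.1 := by rw [← hsm, hx]
    rw [← hg] at h1
    have h2 : (((x : G) * g : G) : G ⧸ N) = (g : G ⧸ N) := h1
    rw [QuotientGroup.eq] at h2
    have hy'N : g⁻¹ * (x : G) * g ∈ N := by
      have := N.inv_mem h2
      have e : (((x : G) * g)⁻¹ * g)⁻¹ = g⁻¹ * (x : G) * g := by group
      rwa [e] at this
    have hxG1 : (x : G) ≠ 1 := fun h0 => hx1 (Subtype.ext h0)
    have hgN := hfree x x.2 hxG1 g hy'N
    apply c.2
    rw [← hg]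
    show (g : G ⧸ N) = ((1 : G) : G ⧸ N)
    rw [QuotientGroup.eq]
    simpa using N.inv_mem hgN
  have hd := dvd_card_of_card_stabilizer (N := ↥A) (X := X2) 1 hstab
  rw [Nat.div_one] at hd
  have hc1 : Nat.card X2 + 1 = N.index := by
    rw [card_ne_add_one, Subgroup.index_eq_card]
  have hX2 : Nat.card X2 = N.index - 1 := by omega
  rw [hX2] at hd
  exact hd

/-- counting part of Step 7(ii) -/
theorem card_eq_one_of_ti (h : Hyp G p q n m) (A1 N1 : Subgroup G) (hA1N : A1 ≤ N1)
    (hA1n : Nat.card A1 ∣ n) (hodd : Odd (Nat.card A1)) (hN1 : Nat.card N1 = 6 * n)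
    (hTI : ∀ y ∈ A1, y ≠ 1 → ∀ g : G, g⁻¹ * y * g ∈ N1 → g ∈ N1) : Nat.card A1 = 1 := by
  have hd := card_dvd_index_sub_one A1 N1 hA1N hTI
  have hn2 := h.n_ge
  have hidx : 3 * N1.index = q * m := by
    have h1 := Subgroup.card_mul_index N1
    rw [hN1, h.card] at h1
    have : (2 * n) * (3 * N1.index) = (2 * n) * (q * m) := by
      calc (2 * n) * (3 * N1.index) = 6 * n * N1.index := by ring
        _ = q * (2 * n) * m := h1
        _ = (2 * n) * (q * m) := by ring
    exact Nat.eq_of_mul_eq_mul_left (by omega) this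
  have hipos : 0 < N1.index := Nat.pos_of_ne_zero (Subgroup.index_ne_zero_of_finite)
  -- `|A1|` divides `qm - 3`
  have hd1 : Nat.card A1 ∣ q * m - 3 := by
    have : q * m - 3 = 3 * (N1.index - 1) := by omega
    rw [this]; exact Dvd.dvd.mul_left hd 3
  -- `|A1|` divides `qm - 1`
  have hd2 : Nat.card A1 ∣ q * m - 1 := by
    have h1 := h.q_m_modEq
    have h2 : n ∣ q * m - 1 := by
      have hpos : 0 < q * m := by
        have := h.m_ge; have := h.q5; positivity
      exact (Nat.modEq_iff_dvd' hpos).1 h1.symm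
    exact hA1n.trans h2
  have hqm3 : 3 ≤ q * m := by omega
  have hd3 : Nat.card A1 ∣ 2 := by
    have : q * m - 1 - (q * m - 3) = 2 := by omega
    rw [← this]
    exact Nat.dvd_sub hd2 hd1
  have hle : Nat.card A1 ≤ 2 := Nat.le_of_dvd (by norm_num) hd3
  have hpos : 0 < Nat.card A1 := Nat.card_pos
  obtain ⟨k, hk⟩ := hodd
  omega

end Cfsg.Agent.Lib.Helper9.OS
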