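import Mathlib
import Cfsg.Agent.Lib.Helper5.OS.Basic
import Cfsg.Agent.Lib.Helper9.OSP7x

set_option autoImplicit false

/-! # S3421 piece P7c, Q5 (verbatim form of `card_dvd_index_sub_one`) -/

open Cfsg.Agent.Lib.Helper5.OS

namespace Cfsg.Agent.Lib.Helper9.OS

variable {G : Type*} [Group G] [Finite G] {p q n m : ℕ}

theorem card_dvd_index_sub_one' (A H : Subgroup G) (hAH : A ≤ H)
    (hTI : ∀ g : G, ∀ y ∈ A, y ≠ 1 → g⁻¹ * y * g ∈ H → g ∈ H) :
    Nat.card A ∣ H.index - 1 :=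
  card_dvd_index_sub_one A H hAH (fun y hy hy1 g hg => hTI g y hy hy1 hg)

end Cfsg.Agent.Lib.Helper9.OS
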