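import Mathlib
import Cfsg.Prelude
import Cfsg.Agent.Lib.Helper9.ASP18

/-! Automorphisms of `PSp_{2m}(F)`, part 19: the multiplier homomorphism and the number of classes
into which the inner-diagonal class of a field automorphism splits. -/

set_option autoImplicit false
open Cfsg

namespace Cfsg.Agent.Lib.Helper9.ASP

open Matrix Cfsg.Agent.Lib.Helper5.SympTv Cfsg.Agent.Lib.Helper5.SympGen
  Cfsg.Agent.Lib.Helper5.SympPerfect Cfsg.Agent.Lib.Helper5.SympBridge
  Cfsg.Agent.Lib.Helper5.SympPrimitive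

open Cfsg.Agent.Lib.Helper9.APSL (uA uA_coe nrm nrm_zero nrm_succ norm_surjective
  conjUnder_of_conj orderOf_conj' mem_fixed_subfield mem_cent_single exists_field_h90
  fixU mem_fixU card_fixU index_sup_pow splitClassCount_range)

attribute [local instance 2000] spAction spSMulComm

variable {F : Type*} [Field F] (m : ℕ)

set_option quotPrecheck false
local notation "Vm" => (Fin m ⊕ Fin m → F)
local notation "Mm" => Matrix (Fin m ⊕ Fin m) (Fin m ⊕ Fin m) F
local notation "Spm" => ↥(Matrix.symplecticGroup (Fin m) F)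
local notation "PSpm" => Cfsg.PSp m F
local notation "BB" => sympForm m F
local notation "GLm" => GL (Fin m ⊕ Fin m) F
local notation "GSpm" => ↥(Cfsg.GSp m F)

theorem mult_unique (hm : 1 ≤ m) (g : GSpm) (c : F)
    (hc : ∀ u v : Vm, BB (gact m (g : GLm) u) (gact m (g : GLm) v) = c * BB u v) :
    (mult m g : F) = c := by
  have h1 := mult_spec m g (Pi.single (Sum.inr ⟨0, hm⟩) 1) (Pi.single (Sum.inl ⟨0, hm⟩) 1)
  rw [hc, BB_fI_eI, mul_one, mul_one] at h1
  exact h1.symm

/-- the multiplier as a homomorphism -/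
noncomputable def multHom (hm : 1 ≤ m) : ↥(Cfsg.GSp m F) →* Fˣ where
  toFun := mult m
  map_one' := by
    apply Units.ext
    apply mult_unique m hm
    intro u v
    rw [Units.val_one, one_mul]
    have : ((1 : GSpm) : GLm) = 1 := rfl
    rw [this, gact_one, gact_one]
  map_mul' g h := by
    apply Units.ext
    apply mult_unique m hm
    intro u v
    rw [Subgroup.coe_mul, gact_mul, gact_mul, mult_spec, mult_spec, Units.val_mul, mul_assoc]

theorem multHom_apply (hm : 1 ≤ m) (g : GSpm) : multHom m hm g = mult m g := rfl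

theorem mult_scG (hm : 1 ≤ m) (u : Fˣ) : mult m (scG m u) = u * u := by
  apply Units.ext
  apply mult_unique m hm
  intro x y
  rw [gact_scG, gact_scG, sympForm_smul_left, sympForm_smul_right, Units.val_mul, mul_assoc]

theorem mult_toGSp (hm : 1 ≤ m) (A : Spm) : mult m (toGSp m A) = 1 := by
  apply Units.ext
  apply mult_unique m hm
  intro x y
  rw [gact_toGSp, gact_toGSp, Units.val_one, one_mul]
  exact (mem_symplectic_iff m A.1).mp A.2 x y

theorem mult_fieldGSp (hm : 1 ≤ m) (σ : RingAut F) (g : GSpm) :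
    mult m (fieldGSp m σ g) = uA σ (mult m g) := by
  apply Units.ext
  apply mult_unique m hm
  intro x y
  rw [gact_fieldGSp', gact_fieldGSp', BB_vmap, mult_spec, map_mul, ← BB_vmap, vmap_symm, vmap_symm,
    uA_coe]

theorem mult_mem_fixU (hm : 1 ≤ m) (σ : RingAut F) (g : GSpm) (hg : fieldGSp m σ g = g) :
    mult m g ∈ fixU σ := by
  rw [mem_fixU, ← mult_fieldGSp m hm, hg]

/-- a conformal symplectic matrix whose multiplier is a square is a scalar times a symplectic one -/
theorem exists_sp_of_mult_sq (g : GSpm) (ν : Fˣ) (h : mult m g = ν * ν) :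
    ∃ A : Spm, g = scG m ν * toGSp m A := by
  have hν : (mult m g : F) = (ν : F) * ν := by rw [h, Units.val_mul]
  have hν0 : (ν : F) ≠ 0 := ν.ne_zero
  have hmem : (ν : F)⁻¹ • ((g : GLm) : Mm) ∈ Matrix.symplecticGroup (Fin m) F := by
    rw [mem_symplectic_iff]
    intro u v
    rw [smul_mulVec, smul_mulVec, sympForm_smul_left, sympForm_smul_right]
    have := mult_spec m g u v
    unfold gact at this
    rw [this, hν]
    field_simp
  refine ⟨⟨_, hmem⟩, ?_⟩
  apply gsp_ext
  intro v
  rw [Subgroup.coe_mul, gact_mul, gact_scG, gact_toGSp]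
  show gact m (g : GLm) v = (ν : F) • (((ν : F)⁻¹ • ((g : GLm) : Mm)) *ᵥ v)
  rw [smul_mulVec, smul_smul, mul_inv_cancel₀ hν0, one_smul]
  rfl

theorem inn_le_range_cS : Cfsg.Inn PSpm ≤ (cS (F := F) m).range := by
  rintro _ ⟨z, rfl⟩
  obtain ⟨A, rfl⟩ := mkS_surjective m z
  exact ⟨toGSp m A, cS_toGSp m A⟩

/-- the inner automorphisms among the inner-diagonal ones: those with square multiplier -/
theorem cS_mem_inn_iff (hm : 1 ≤ m) (g : GSpm) :
    cS m g ∈ Cfsg.Inn PSpm ↔ multHom m hm g ∈ (powMonoidHom 2 : Fˣ →* Fˣ).range := by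
  constructor
  · rintro ⟨z, hz⟩
    obtain ⟨A, rfl⟩ := mkS_surjective m z
    rw [← cS_toGSp] at hz
    have h2 : cS m (g * (toGSp m A)⁻¹) = 1 := by
      rw [map_mul, map_inv, hz, mul_inv_cancel]
    obtain ⟨u, hu⟩ := exists_scG_of_mem_ker m hm h2
    have hg : g = scG m u * toGSp m A := by rw [← hu, inv_mul_cancel_right]
    refine ⟨u, ?_⟩
    rw [powMonoidHom_apply, hg, map_mul, multHom_apply, multHom_apply, mult_scG m hm,
      mult_toGSp m hm, mul_one, pow_two]
  · rintro ⟨ν, hν⟩
    rw [powMonoidHom_apply, pow_two, multHom_apply] at hν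
    obtain ⟨A, hA⟩ := exists_sp_of_mult_sq m g ν hν.symm
    rw [hA, map_mul, cS_scG m hm, one_mul, cS_toGSp]
    exact ⟨_, rfl⟩

/-- the entries of the diagonal matrix `diag(a, …, a, 1, …, 1)` -/
def dvec (a : F) : Fin m ⊕ Fin m → F := Sum.elim (fun _ => a) (fun _ => 1)

theorem dvec_form (a : F) (u v : Vm) :
    BB (Matrix.diagonal (dvec m a) *ᵥ u) (Matrix.diagonal (dvec m a) *ᵥ v) = a * BB u v := by
  have hs : ∀ (x : Fin m ⊕ Fin m) (c : F), (Pi.single x c : Vm) = c • Pi.single x 1 := by
    intro x c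
    ext k
    simp [Pi.single_apply]
  have hforms : formG m (Matrix.diagonal (dvec m a)) = a • sympBilin F m := by
    apply form_ext_basis
    intro x y
    rw [formG_apply, LinearMap.smul_apply, LinearMap.smul_apply, sympBilin_apply, smul_eq_mul,
      Matrix.diagonal_mulVec_single, Matrix.diagonal_mulVec_single, mul_one, mul_one,
      hs x, hs y, sympForm_smul_left, sympForm_smul_right]
    rcases x with i | i <;> rcases y with j | j
    · rw [sympForm_inl_inl, mul_zero, mul_zero, mul_zero]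
    · rw [sympForm_single_inr]
      simp [dvec]
    · rw [sympForm_single_inl]
      simp [dvec]
    · rw [sympForm_single_inr]
      simp [dvec]
  have := congrArg (fun Φ : LinearMap.BilinForm F Vm => Φ u v) hforms
  simp only [formG_apply, LinearMap.smul_apply, sympBilin_apply, smul_eq_mul] at this
  exact this

theorem dvec_mul_inv (a : Fˣ) (i : Fin m ⊕ Fin m) :
    dvec m (a : F) i * dvec m ((a⁻¹ : Fˣ) : F) i = 1 := by
  rcases i with i | i
  · show (a : F) * ((a⁻¹ : Fˣ) : F) = 1
    rw [← Units.val_mul, mul_inv_cancel, Units.val_one]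
  · show (1 : F) * 1 = 1
    rw [mul_one]

/-- the diagonal conformal symplectic matrix of multiplier `a` -/
noncomputable def dG (a : Fˣ) : ↥(Cfsg.GSp m F) :=
  ⟨⟨Matrix.diagonal (dvec m (a : F)), Matrix.diagonal (dvec m ((a⁻¹ : Fˣ) : F)), by
      rw [Matrix.diagonal_mul_diagonal, ← Matrix.diagonal_one]
      congr 1
      funext i
      exact dvec_mul_inv m a i, by
      rw [Matrix.diagonal_mul_diagonal, ← Matrix.diagonal_one]
      congr 1
      funext i
      rw [mul_comm]
      exact dvec_mul_inv m a i⟩, by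
    rw [mem_GSp_iff]
    exact ⟨a, fun u v => dvec_form m (a : F) u v⟩⟩

theorem mult_dG (hm : 1 ≤ m) (a : Fˣ) : mult m (dG m a) = a := by
  apply Units.ext
  apply mult_unique m hm
  intro u v
  exact dvec_form m (a : F) u v

theorem fieldGSp_dG (σ : RingAut F) (a : Fˣ) (ha : uA σ a = a) : fieldGSp m σ (dG m a) = dG m a := by
  apply Subtype.ext
  rw [fieldGSp_coe]
  apply Units.ext
  rw [sS_coe]
  show (Matrix.diagonal (dvec m (a : F))).map σ = Matrix.diagonal (dvec m (a : F))
  rw [Matrix.diagonal_map (map_zero _)]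
  congr 1
  funext i
  rcases i with i | i
  · show σ (a : F) = a
    rw [← uA_coe, ha]
  · show σ (1 : F) = 1
    exact map_one σ

theorem multHom_surjective (hm : 1 ≤ m) : Function.Surjective (multHom (F := F) m hm) :=
  fun a => ⟨dG m a, mult_dG m hm a⟩

/-- the subgroup of `GSp` in the definition of the number of classes, for a field automorphism -/
theorem comap_cent_fS (hm : 1 ≤ m) (σ : RingAut F) (r : ℕ) (hr : 0 < r) (hord : orderOf σ = r) :
    (Subgroup.centralizer {fS m σ} ⊔ Cfsg.Inn PSpm).comap (cS m)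
      = (fixU σ ⊔ (powMonoidHom 2 : Fˣ →* Fˣ).range).comap (multHom m hm) := by
  ext g
  rw [Subgroup.mem_comap, Subgroup.mem_comap, Subgroup.mem_sup_of_normal_right]
  constructor
  · rintro ⟨c, hc, k, hk, e⟩
    have hcr : c ∈ (cS (F := F) m).range := by
      have : c = cS m g * k⁻¹ := by rw [← e, mul_inv_cancel_right]
      rw [this]
      exact Subgroup.mul_mem _ ⟨g, rfl⟩ (Subgroup.inv_mem _ (inn_le_range_cS m hk))
    obtain ⟨h, hh, rfl⟩ := (cent_fS_iff m hm σ r hr hord c).mp ⟨hcr, hc⟩
    have hk' : cS m (h⁻¹ * g) ∈ Cfsg.Inn PSpm := by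
      have : cS m (h⁻¹ * g) = k := by rw [map_mul, map_inv, ← e, inv_mul_cancel_left]
      rw [this]
      exact hk
    have h1 := (cS_mem_inn_iff m hm _).mp hk'
    have h2 : multHom m hm g = multHom m hm h * multHom m hm (h⁻¹ * g) := by
      rw [← map_mul, mul_inv_cancel_left]
    rw [h2]
    exact Subgroup.mul_mem_sup (mult_mem_fixU m hm σ h hh) h1
  · intro hg
    obtain ⟨a, ha, b, hb, e⟩ := Subgroup.mem_sup.mp hg
    have hh : fieldGSp m σ (dG m a) = dG m a := fieldGSp_dG m σ a ((mem_fixU σ a).mp ha)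
    refine ⟨cS m (dG m a), ?_, cS m ((dG m a)⁻¹ * g), ?_, ?_⟩
    · exact ((cent_fS_iff m hm σ r hr hord (cS m (dG m a))).mpr ⟨dG m a, hh, rfl⟩).2
    · rw [cS_mem_inn_iff m hm, map_mul, map_inv, multHom_apply, mult_dG m hm, ← e,
        inv_mul_cancel_left]
      exact hb
    · rw [← map_mul, mul_inv_cancel_left]

/-- **the number of classes** into which the inner-diagonal class of a field automorphism
splits under the inner automorphisms -/
theorem splitClassCount_fS [Fintype F] (p f : ℕ) [Fact p.Prime] (hF : Fintype.card F = p ^ f)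
    (hm : 1 ≤ m) (σ : RingAut F) (r : ℕ) (hr : 0 < r) (hord : orderOf σ = r)
    {F₀ : Type*} [Field F₀] [Fintype F₀] (hF₀ : Fintype.card F₀ = p ^ (f / r))
    (ι : F₀ →+* F) (hι : ∀ a : F, σ a = a ↔ a ∈ Set.range ι) :
    Cfsg.splitClassCount (cS (F := F) m).range (Cfsg.Inn PSpm) (fS m σ)
      = Nat.gcd 2 ((p ^ f - 1) / (p ^ (f / r) - 1)) := by
  rw [splitClassCount_range, comap_cent_fS m hm σ r hr hord,
    Subgroup.index_comap_of_surjective _ (multHom_surjective m hm),
    index_sup_pow, card_fixU σ ι hι, Nat.card_units, Nat.card_eq_fintype_card,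
    Nat.card_eq_fintype_card, hF, hF₀]

end Cfsg.Agent.Lib.Helper9.ASP
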