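import Mathlib
import Cfsg.Prelude
import Cfsg.Agent.Lib.Helper9.ASP19

/-! Automorphisms of `PSp_{2m}(F)`, part 20: centraliser and class splitting of a field
automorphism of prime order (S2712 in general form). -/

set_option autoImplicit false
open Cfsg

namespace Cfsg.Agent.Lib.Helper9.ASP

open Matrix Cfsg.Agent.Lib.Helper5.SympTv Cfsg.Agent.Lib.Helper5.SympGen
  Cfsg.Agent.Lib.Helper5.SympPerfect Cfsg.Agent.Lib.Helper5.SympBridge
  Cfsg.Agent.Lib.Helper5.SympPrimitive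

open Cfsg.Agent.Lib.Helper9.APSL (uA uA_coe nrm orderOf_conj' exists_fixed_embedding
  centInfConjEquiv splitClassCount_conj charP_of_card)

attribute [local instance 2000] spAction spSMulComm

theorem geom_mod_two_even (q r : ℕ) (hq : q % 2 = 0) (hr : 0 < r) :
    (∑ i ∈ Finset.range r, q ^ i) % 2 = 1 := by
  obtain ⟨r', rfl⟩ : ∃ r', r = r' + 1 := ⟨r - 1, by omega⟩
  rw [Finset.sum_range_succ', pow_zero]
  have h : (∑ i ∈ Finset.range r', q ^ (i + 1)) % 2 = 0 := by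
    apply Nat.mod_eq_zero_of_dvd
    apply Finset.dvd_sum
    intro i _
    rw [pow_succ]
    exact Dvd.dvd.mul_left (Nat.dvd_of_mod_eq_zero hq) _
  omega

theorem geom_mod_two_odd (q r : ℕ) (hq : q % 2 = 1) :
    (∑ i ∈ Finset.range r, q ^ i) % 2 = r % 2 := by
  induction r with
  | zero => simp
  | succ r ih =>
    rw [Finset.sum_range_succ]
    have h : q ^ r % 2 = 1 := by
      rw [Nat.pow_mod, hq, one_pow, Nat.one_mod]
    omega

theorem gcd_two_geom (p f r : ℕ) (hp : p.Prime) (hf : 1 ≤ f) (hr : 0 < r) (hdiv : r ∣ f) :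
    Nat.gcd 2 ((p ^ f - 1) / (p ^ (f / r) - 1)) = Nat.gcd (Nat.gcd 2 (p ^ f - 1)) r := by
  obtain ⟨e, rfl⟩ := hdiv
  have he : 1 ≤ e := by
    rcases e with _ | e
    · simp at hf
    · omega
  rw [Nat.mul_div_cancel_left e hr, mul_comm r e, pow_mul]
  obtain ⟨q₀, hq₀⟩ : ∃ q₀, q₀ = p ^ e := ⟨_, rfl⟩
  rw [← hq₀]
  have h2 : 2 ≤ q₀ := by
    rw [hq₀]
    calc 2 ≤ p := hp.two_le
      _ = p ^ 1 := (pow_one p).symm
      _ ≤ p ^ e := Nat.pow_le_pow_right hp.pos he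
  rw [← Nat.geomSum_eq h2 r]
  have hg : ∀ n : ℕ, Nat.gcd 2 n = Nat.gcd (n % 2) 2 := fun n => Nat.gcd_rec 2 n
  have hpos : 1 ≤ q₀ ^ r := Nat.one_le_pow _ _ (by omega)
  rcases Nat.mod_two_eq_zero_or_one q₀ with h0 | h1
  · have hs := geom_mod_two_even q₀ r h0 hr
    have hpw : (q₀ ^ r) % 2 = 0 := by
      obtain ⟨r', rfl⟩ : ∃ r', r = r' + 1 := ⟨r - 1, by omega⟩
      rw [pow_succ, Nat.mul_mod, h0, mul_zero, Nat.zero_mod]
    have h3 : (q₀ ^ r - 1) % 2 = 1 := by omega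
    rw [hg, hs, hg (q₀ ^ r - 1), h3]
    simp
  · have hs := geom_mod_two_odd q₀ r h1
    have hpw : (q₀ ^ r) % 2 = 1 := by
      rw [Nat.pow_mod, h1, one_pow, Nat.one_mod]
    have h3 : (q₀ ^ r - 1) % 2 = 0 := by omega
    rw [hg, hs, hg (q₀ ^ r - 1), h3, ← hg]
    simp

variable {F : Type*} [Field F] (m : ℕ)

set_option quotPrecheck false
local notation "PSpm" => Cfsg.PSp m F

/-- **S2712 in general form** -/
theorem field_aut_centralizer_and_split_S [Fintype F] (p f : ℕ) [Fact p.Prime]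
    (hF : Fintype.card F = p ^ f) (hf : 1 ≤ f) (hm : 2 ≤ m) (x : MulAut PSpm)
    (hx : Cfsg.IsFieldAutClassPSp x) {r : ℕ} (hr : r.Prime) (hxr : orderOf x = r)
    {F₀ : Type*} [Field F₀] [Fintype F₀] (hF₀ : Fintype.card F₀ = p ^ (f / r)) :
    r ∣ f ∧ Nonempty (↥(Cfsg.inndiagPSp m F ⊓ Subgroup.centralizer {x}) ≃* Cfsg.PGSp m F₀) ∧
      Cfsg.splitClassCount (Cfsg.inndiagPSp m F) (Cfsg.Inn PSpm) x
        = Nat.gcd (Nat.gcd 2 (p ^ f - 1)) r := by
  haveI : CharP F p := charP_of_card p f hF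
  have hm1 : 1 ≤ m := by omega
  obtain ⟨α, σ, hσ, hstd⟩ := hx
  have e1 : α * x * α⁻¹ = fS m σ := eq_fS_of_stdField m hstd
  have hordσ : orderOf (σ : RingAut F) = r := by
    rw [← hxr, ← orderOf_injective (fS m) (fS_injective m hm1) σ, ← e1, orderOf_conj']
  obtain ⟨hdiv, ι, hι⟩ := exists_fixed_embedding p f hF σ r hr.pos hordσ F₀ hF₀
  rw [inndiagPSp_eq]
  haveI hD := cS_range_normal (F := F) m p hm
  refine ⟨hdiv, ?_, ?_⟩
  · obtain ⟨E⟩ := exists_cent_fS_equiv m hm1 σ r hr.pos hordσ ι hι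
    exact ⟨(centInfConjEquiv (cS (F := F) m).range α x).trans
      ((MulEquiv.subgroupCongr (by rw [e1])).trans E)⟩
  · rw [← splitClassCount_conj _ _ α x, e1,
      splitClassCount_fS m p f hF hm1 σ r hr.pos hordσ hF₀ ι hι]
    exact gcd_two_geom p f r (Fact.out) hf hr.pos hdiv

end Cfsg.Agent.Lib.Helper9.ASP
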