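import Mathlib
import Cfsg.Prelude.Def_ClassicalGeometry

set_option autoImplicit false

namespace Cfsg.Agent.Lib.Helper9

open Cfsg Matrix

variable {F : Type*} [Field F] {n : ℕ}

theorem polarVec_dotProduct (Q : QuadraticForm F (Fin n → F)) (u x : Fin n → F) :
    polarVec (⇑Q) u ⬝ᵥ x = QuadraticMap.polar (⇑Q) u x := by
  have hx : x = ∑ j, x j • (Pi.single j (1 : F) : Fin n → F) := by
    ext i
    simp [Finset.sum_apply, Pi.single_apply]
  have h1 : QuadraticMap.polar (⇑Q) u x = QuadraticMap.polarBilin Q u x := rfl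
  rw [h1]
  conv_rhs => rw [hx]
  rw [map_sum]
  unfold dotProduct polarVec
  apply Finset.sum_congr rfl
  intro j _
  rw [map_smul]
  show _ = x j * QuadraticMap.polar (⇑Q) u (Pi.single j 1)
  ring

theorem vecMulVec_polarVec_mulVec (Q : QuadraticForm F (Fin n → F)) (u v x : Fin n → F) :
    vecMulVec u (polarVec (⇑Q) v) *ᵥ x = QuadraticMap.polar (⇑Q) v x • u := by
  rw [vecMulVec_mulVec, polarVec_dotProduct]
  ext i
  simp [mul_comm]

/-- S5358 (over any field in which `2 ≠ 0`) -/
theorem reflection_commute_iff (Q : QuadraticForm F (Fin n → F)) (h2 : (2 : F) ≠ 0)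
    (u v : Fin n → F) (hu : Q u ≠ 0) (huv : Q u = Q v) (h1 : v ≠ u) (h2' : v ≠ -u) :
    Commute (reflectionMatrix (⇑Q) u) (reflectionMatrix (⇑Q) v) ↔
      QuadraticMap.polar (⇑Q) u v = 0 := by
  have hv : Q v ≠ 0 := huv ▸ hu
  set c := (Q u)⁻¹ with hc
  have hc0 : c ≠ 0 := inv_ne_zero hu
  set A := vecMulVec u (polarVec (⇑Q) u) with hA
  set B := vecMulVec v (polarVec (⇑Q) v) with hB
  have hRu : reflectionMatrix (⇑Q) u = 1 - c • A := rfl
  have hRv : reflectionMatrix (⇑Q) v = 1 - c • B := by
    show 1 - (Q v)⁻¹ • B = 1 - c • B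
    rw [hc, huv]
  have hAB : A * B = QuadraticMap.polar (⇑Q) u v • vecMulVec u (polarVec (⇑Q) v) := by
    rw [hA, hB, vecMulVec_mul_vecMulVec, polarVec_dotProduct]
    ext i j
    simp [vecMulVec_apply]
    ring
  have hBA : B * A = QuadraticMap.polar (⇑Q) u v • vecMulVec v (polarVec (⇑Q) u) := by
    rw [hA, hB, vecMulVec_mul_vecMulVec, polarVec_dotProduct, QuadraticMap.polar_comm]
    ext i j
    simp [vecMulVec_apply]
    ring
  have hcomm : Commute (reflectionMatrix (⇑Q) u) (reflectionMatrix (⇑Q) v) ↔ A * B = B * A := by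
    rw [hRu, hRv]
    show (1 - c • A) * (1 - c • B) = (1 - c • B) * (1 - c • A) ↔ _
    have e1 : (1 - c • A) * (1 - c • B) = 1 - c • A - c • B + (c * c) • (A * B) := by
      rw [sub_mul, mul_sub, mul_sub, one_mul, mul_one, one_mul, smul_mul_smul_comm]
      abel
    have e2 : (1 - c • B) * (1 - c • A) = 1 - c • A - c • B + (c * c) • (B * A) := by
      rw [sub_mul, mul_sub, mul_sub, one_mul, mul_one, one_mul, smul_mul_smul_comm]
      abel
    rw [e1, e2]
    constructor
    · intro h
      have h3 := add_left_cancel h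
      have hcc : c * c ≠ 0 := mul_ne_zero hc0 hc0
      have := congrArg (fun M => (c * c)⁻¹ • M) h3
      simp only [smul_smul, inv_mul_cancel₀ hcc, one_smul] at this
      exact this
    · intro h
      rw [h]
  rw [hcomm, hAB, hBA]
  constructor
  · intro h
    by_contra hne
    have h3 : vecMulVec u (polarVec (⇑Q) v) = vecMulVec v (polarVec (⇑Q) u) := by
      have := congrArg (fun M => (QuadraticMap.polar (⇑Q) u v)⁻¹ • M) h
      simpa [smul_smul, inv_mul_cancel₀ hne] using this
    have h4 := congrArg (fun M => M *ᵥ v) h3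
    simp only [vecMulVec_polarVec_mulVec] at h4
    rw [QuadraticMap.polar_self] at h4
    -- `2 Q v • u = f(u,v) • v`
    have h5 : (2 * Q v) ≠ 0 := mul_ne_zero h2 hv
    set l := (2 * Q v)⁻¹ * QuadraticMap.polar (⇑Q) u v with hl
    have h6 : u = l • v := by
      have := congrArg (fun w => (2 * Q v)⁻¹ • w) h4
      simp only [smul_smul] at this
      rw [show (2 * Q v)⁻¹ * (2 • Q v) = 1 by
        rw [two_smul, ← two_mul]; exact inv_mul_cancel₀ h5, one_smul] at this
      exact this
    have h7 : Q u = (l * l) * Q v := by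
      rw [h6, QuadraticMap.map_smul]
      rfl
    have h8 : l * l = 1 := by
      have : (l * l) * Q v = 1 * Q v := by rw [← h7, huv, one_mul]
      exact mul_right_cancel₀ hv this
    rcases mul_self_eq_one_iff.mp h8 with h9 | h9
    · apply h1
      rw [h6, h9, one_smul]
    · apply h2'
      rw [h6, h9]
      have : ((-1 : F) • v) = -v := by simp
      rw [this, neg_neg]
  · intro h
    rw [h, zero_smul, zero_smul]

end Cfsg.Agent.Lib.Helper9
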