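import Mathlib
import Cfsg.Agent.Lib.Helper3.RIBasic
import Cfsg.Agent.Lib.Helper3.RIG1

set_option autoImplicit false
set_option maxHeartbeats 4000000
set_option maxRecDepth 100000
set_option linter.unusedVariables false
set_option linter.unusedSectionVars false
set_option linter.style.longLine false
set_option linter.style.haveILetI false
set_option linter.unusedSimpArgs false
set_option linter.unnecessarySimpa false

/-! Root involutions: the lemma K1 (piece P3 of S5046, helper9). -/

namespace Cfsg.Agent.Lib.Helper3.RootInv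

open Cfsg

universe u

variable {G : Type u} [Group G] {D : Set G}

/-- an element of odd order killed by a power of two is trivial -/
theorem k1_aux_odd {x : G} (hodd : Odd (orderOf x)) {m : ℕ} (h : x ^ (2 ^ m) = 1) : x = 1 := by
  have h1 : orderOf x ∣ 2 ^ m := orderOf_dvd_of_pow_eq_one h
  have h2 : Nat.Coprime (orderOf x) (2 ^ m) := Nat.Coprime.pow_right m hodd.coprime_two_right
  have h3 : orderOf x = 1 := Nat.Coprime.eq_one_of_dvd h2 h1
  exact orderOf_eq_one_iff.1 h3

/-- for involutions `z, f`: if `(z f)^2 = (f z)^2 * w` with `w^2 = 1`, then `(z f)^8 = 1` -/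
theorem k1_aux_w {z f w : G} (zz : z * z = 1) (ff : f * f = 1)
    (h : z * f * (z * f) = f * z * (f * z) * w) (ww : w * w = 1) : (z * f) ^ (2 ^ 3) = 1 := by
  have h2 : z * f * (f * z) = 1 := by
    simp only [mul_assoc]; rw [← mul_assoc f f, ff, one_mul, zz]
  have h3 : z * f * (z * f) * (f * z * (f * z)) = 1 := by
    calc z * f * (z * f) * (f * z * (f * z)) = z * f * ((z * f) * (f * z)) * (f * z) := by
          simp only [mul_assoc]
      _ = 1 := by rw [h2, mul_one, h2]
  have h4 : z * f * (z * f) * (z * f * (z * f)) = w := by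
    calc z * f * (z * f) * (z * f * (z * f)) = z * f * (z * f) * (f * z * (f * z) * w) := by rw [← h]
      _ = (z * f * (z * f) * (f * z * (f * z))) * w := by simp only [mul_assoc]
      _ = w := by rw [h3, one_mul]
  calc (z * f) ^ (2 ^ 3) = (z * f * (z * f) * (z * f * (z * f))) * (z * f * (z * f) * (z * f * (z * f))) := by
        norm_num [pow_succ, mul_assoc]
    _ = 1 := by rw [h4, ww]

/-- K1: for commuting `e, f ∈ D` with `e f ∈ D`, a member `z` with `z e` and `z (e f)` of order 4 is not an
odd partner of `f`. -/
theorem k1 (hD : IsRootInvolutionSet D) {e f z : G} (he : e ∈ D) (hf : f ∈ D) (hef : e * f = f * e)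
    (hp : e * f ∈ D) (hz : z ∈ D) (h1 : orderOf (z * e) = 4) (h2 : orderOf (z * (e * f)) = 4) :
    ¬ OddAdj D z f := by
  intro hodd
  obtain ⟨_, _, hne, ho⟩ := hodd
  have ee := sq_one hD he
  have ff := sq_one hD hf
  have zz := sq_one hD hz
  have gg := sq_one hD hp
  -- it suffices to show (z f)^(2^m) = 1
  have key : ∀ m : ℕ, (z * f) ^ (2 ^ m) ≠ 1 := by
    intro m hm
    have := k1_aux_odd ho hm
    apply hne
    have h3 : z * f * f = f := by rw [this, one_mul]
    rw [mul_assoc, ff, mul_one] at h3
    exact h3
  obtain ⟨hu, huz, hue, _, hzez, _, _⟩ := four_facts hD hz he h1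
  obtain ⟨hu', hu'z, hu'g, _, hzgz, _, _⟩ := four_facts hD hz hp h2
  generalize hu_def : (z * e) ^ 2 = u at *
  generalize hu'_def : (z * (e * f)) ^ 2 = u' at *
  have uu := sq_one hD hu
  have uu' := sq_one hD hu'
  -- z f z = u f u'
  have hzfz : z * f * z = u * f * u' := by
    calc z * f * z = (z * e * z) * (z * (e * f) * z) := by
          simp only [mul_assoc]
          rw [← mul_assoc z z, zz, one_mul, ← mul_assoc e e, ee, one_mul]
      _ = (e * u) * ((e * f) * u') := by rw [hzez, hzgz]
      _ = u * f * u' := by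
          rw [← hue]; simp only [mul_assoc]; rw [← mul_assoc e e, ee, one_mul]
  -- x x = f u f u'
  have hxx : f * z * (f * z) = f * u * f * u' := by
    calc f * z * (f * z) = f * (z * f * z) := by simp only [mul_assoc]
      _ = f * (u * f * u') := by rw [hzfz]
      _ = f * u * f * u' := by simp only [mul_assoc]
  -- y y = z (x x) z
  have hyy : z * f * (z * f) = z * (f * z * (f * z)) * z := by
    simp only [mul_assoc]; rw [zz, mul_one]
  have huz' : ∀ w, u * (z * w) = z * (u * w) := fun w => by rw [← mul_assoc, huz, mul_assoc]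
  have hu'z' : ∀ w, u' * (z * w) = z * (u' * w) := fun w => by rw [← mul_assoc, hu'z, mul_assoc]
  by_cases hfu : f * u = u * f
  · -- case A
    have hx : f * z * (f * z) = u * u' := by
      rw [hxx, hfu]; simp only [mul_assoc]; rw [← mul_assoc f f, ff, one_mul]
    refine key 3 (k1_aux_w zz ff (w := 1) ?_ (one_mul 1))
    rw [hyy, hx, mul_one]
    simp only [mul_assoc]
    rw [hu'z, huz', ← mul_assoc z z, zz, one_mul]
  by_cases hfu' : f * u' = u' * f
  · -- case B
    have hy : z * f * (z * f) = u * u' := by
      calc z * f * (z * f) = f * (f * z * (f * z)) * f := by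
            simp only [mul_assoc]; rw [← mul_assoc f f, ff, one_mul]
        _ = f * (f * u * f * u') * f := by rw [hxx]
        _ = u * u' := by
            simp only [mul_assoc]
            rw [← hfu', ← mul_assoc f f, ff, one_mul]
            rw [← mul_assoc f f, ff, one_mul]
    have hx : f * z * (f * z) = u * u' := by
      calc f * z * (f * z) = z * (z * f * (z * f)) * z := by
            simp only [mul_assoc]; rw [← mul_assoc z z, zz, one_mul]
        _ = z * (u * u') * z := by rw [hy]
        _ = u * u' := by
            simp only [mul_assoc]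
            rw [hu'z, huz', ← mul_assoc z z, zz, one_mul]
    refine key 3 (k1_aux_w zz ff (w := 1) ?_ (one_mul 1))
    rw [hy, hx, mul_one]
  -- case C
  have hnuf : ¬ OddAdj D u f := g1 hD he hf hef hp hu hue
  have h4 : orderOf (f * u) = 4 := by
    rcases tri hD hf hu with h | h | h
    · exact absurd h hfu
    · exact absurd (oddAdj_symm h) hnuf
    · exact h
  obtain ⟨hkk, hkkf, hkku, _, hfuf, _, _⟩ := four_facts hD hf hu h4
  generalize hkk_def : (f * u) ^ 2 = kk at *
  have hx : f * z * (f * z) = u * kk * u' := by rw [hxx, hfuf]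
  have hukkD : u * kk ∈ D := by rw [← hfuf]; exact conj_inv_mem hD hu hf
  have hnzkk : ¬ OddAdj D z kk := g1 hD hu hkk hkku.symm hukkD hz huz.symm
  rcases tri hD hz hkk with h | h | h
  · -- C1
    refine key 3 (k1_aux_w zz ff (w := 1) ?_ (one_mul 1))
    rw [hyy, hx, mul_one]
    simp only [mul_assoc]
    rw [hu'z, ← mul_assoc kk z, ← h]
    simp only [mul_assoc]
    rw [huz', ← mul_assoc z z, zz, one_mul]
  · exact hnzkk h
  · -- C2
    obtain ⟨hl, hlz, hlkk, _, hzkkz, _, _⟩ := four_facts hD hz hkk h
    generalize hl_def : (z * kk) ^ 2 = l at *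
    have ll := sq_one hD hl
    refine key 3 (k1_aux_w zz ff (w := u' * l * u') ?_ ?_)
    · rw [hyy, hx]
      calc z * (u * kk * u') * z = u * (z * kk * z) * u' := by
            simp only [mul_assoc]
            rw [hu'z, huz']
        _ = u * kk * u' * (u' * l * u') := by
            rw [hzkkz]; simp only [mul_assoc]; rw [← mul_assoc u' u', uu', one_mul]
    · simp only [mul_assoc]; rw [← mul_assoc u' u', uu', one_mul, ← mul_assoc l l, ll, one_mul, uu']

end Cfsg.Agent.Lib.Helper3.RootInv
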