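import Mathlib
import Cfsg.Agent.Lib.Helper9.RK3HDefs
import Cfsg.Agent.Lib.Helper1.CoprimeAbelian

/-! Farm RK3 (S4404), LEMMA HHc: basic lemmas (unit `B`). -/

set_option autoImplicit false

open scoped commutatorElement

namespace Cfsg.Agent.Lib.Helper9.RK3

universe u

variable {G : Type u} [Group G]

/-- TS: three subgroups remark. -/
theorem ts {M2 R : Subgroup G} {x : G} (hRM2 : R ≤ Subgroup.normalizer (M2 : Set G))
    (hx : ∀ m ∈ M2, x * m = m * x) (hRx : ⁅R, Subgroup.zpowers x⁆ = R) :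
    R ≤ Subgroup.centralizer (M2 : Set G) := by
  have hQ : Subgroup.zpowers x ≤ Subgroup.centralizer (M2 : Set G) := by
    rw [Subgroup.zpowers_le]
    rw [Subgroup.mem_centralizer_iff]
    intro m hm
    exact (hx m hm).symm
  have h0 : ⁅Subgroup.zpowers x, M2⁆ = ⊥ := Subgroup.commutator_eq_bot_iff_le_centralizer.mpr hQ
  have h1 : ⁅⁅Subgroup.zpowers x, M2⁆, R⁆ = ⊥ := by
    rw [h0, Subgroup.commutator_bot_left]
  have h2 : ⁅⁅M2, R⁆, Subgroup.zpowers x⁆ = ⊥ := by
    rw [eq_bot_iff]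
    have hle : ⁅M2, R⁆ ≤ M2 := Subgroup.le_normalizer_iff_commutator_le_left.mp hRM2
    calc ⁅⁅M2, R⁆, Subgroup.zpowers x⁆ ≤ ⁅M2, Subgroup.zpowers x⁆ :=
          Subgroup.commutator_mono hle le_rfl
      _ = ⊥ := by rw [Subgroup.commutator_comm]; exact h0
  have h3 := Subgroup.commutator_commutator_eq_bot_of_rotate h1 h2
  rw [hRx] at h3
  exact Subgroup.commutator_eq_bot_iff_le_centralizer.mp h3

/-- An `r`-group, `r ≥ 5`, normalizing a subgroup of order at most `4` centralizes it. -/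
theorem centralizes_of_card_le_four [Finite G] {r : ℕ} (hr : r.Prime) (hr5 : 5 ≤ r)
    {A N : Subgroup G} (hA : IsPGroup r A) (hAN : A ≤ Subgroup.normalizer (N : Set G))
    (hN : Nat.card N ≤ 4) : A ≤ Subgroup.centralizer (N : Set G) := by
  letI := Cfsg.Agent.Lib.Helper1.conjActOfLeNormalizer A N hAN
  haveI : Fact r.Prime := ⟨hr⟩
  intro a ha
  rw [Subgroup.mem_centralizer_iff]
  intro n hn
  obtain ⟨k, hk⟩ := hA.card_orbit (⟨n, hn⟩ : N)
  have hle : Nat.card (MulAction.orbit A (⟨n, hn⟩ : N)) ≤ 4 :=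
    le_trans (Nat.card_le_card_of_injective _ Subtype.val_injective) hN
  have hk0 : k = 0 := by
    by_contra hk0
    have h5 : 5 ≤ r ^ k := le_trans hr5 (Nat.le_self_pow hk0 r)
    omega
  rw [hk0, pow_zero] at hk
  have hsub : Subsingleton (MulAction.orbit A (⟨n, hn⟩ : N)) :=
    (Nat.card_eq_one_iff_unique.mp hk).1
  have h1 : (⟨(⟨a, ha⟩ : A) • (⟨n, hn⟩ : N), MulAction.mem_orbit _ _⟩ :
      MulAction.orbit A (⟨n, hn⟩ : N)) = ⟨⟨n, hn⟩, MulAction.mem_orbit_self _⟩ :=
    Subsingleton.elim _ _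
  have h2 : ((⟨a, ha⟩ : A) • (⟨n, hn⟩ : N) : N) = ⟨n, hn⟩ := congrArg Subtype.val h1
  have h3 : a * n * a⁻¹ = n := congrArg Subtype.val h2
  calc n * a = a * n * a⁻¹ * a := by rw [h3]
    _ = a * n := by group

/-- An element of prime order `r` acting freely on `N` forces `|N| ≡ 1 mod r`. -/
theorem card_modEq_one_of_free [Finite G] {r : ℕ} (hr : r.Prime) (N : Subgroup G) (a : G)
    (haN : a ∈ Subgroup.normalizer (N : Set G)) (har : a ^ r = 1)
    (hfree : ∀ n ∈ N, a * n = n * a → n = 1) : Nat.card N ≡ 1 [MOD r] := by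
  haveI : Fact r.Prime := ⟨hr⟩
  have hAN : Subgroup.zpowers a ≤ Subgroup.normalizer (N : Set G) := by
    rw [Subgroup.zpowers_le]; exact haN
  letI := Cfsg.Agent.Lib.Helper1.conjActOfLeNormalizer (Subgroup.zpowers a) N hAN
  have hA : IsPGroup r (Subgroup.zpowers a) := by
    intro g
    refine ⟨1, ?_⟩
    obtain ⟨g, hg⟩ := g
    obtain ⟨k, rfl⟩ := Subgroup.mem_zpowers_iff.mp hg
    apply Subtype.ext
    show (a ^ k) ^ (r ^ 1) = 1
    rw [pow_one, ← zpow_natCast, ← zpow_mul, mul_comm, zpow_mul, zpow_natCast, har, one_zpow]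
  have h1 := hA.card_modEq_card_fixedPoints N
  have h2 : Nat.card (MulAction.fixedPoints (Subgroup.zpowers a) N) = 1 := by
    rw [Nat.card_eq_one_iff_unique]
    refine ⟨⟨?_⟩, ⟨⟨1, ?_⟩⟩⟩
    · rintro ⟨n, hn⟩ ⟨m, hm⟩
      have e1 : n = 1 := by
        apply Subtype.ext
        apply hfree n n.2
        have h3 := hn ⟨a, Subgroup.mem_zpowers a⟩
        have h4 : a * (n : G) * a⁻¹ = n := congrArg Subtype.val h3
        calc a * (n : G) = a * n * a⁻¹ * a := by group
          _ = n * a := by rw [h4]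
      have e2 : m = 1 := by
        apply Subtype.ext
        apply hfree m m.2
        have h3 := hm ⟨a, Subgroup.mem_zpowers a⟩
        have h4 : a * (m : G) * a⁻¹ = m := congrArg Subtype.val h3
        calc a * (m : G) = a * m * a⁻¹ * a := by group
          _ = m * a := by rw [h4]
      apply Subtype.ext
      show n = m
      rw [e1, e2]
    · intro g
      exact smul_one g
  rw [h2] at h1
  exact h1

theorem isElementaryAbelian_of_le {p : ℕ} {N M : Subgroup G}
    (hM : Cfsg.IsElementaryAbelian p M) (h : N ≤ M) : Cfsg.IsElementaryAbelian p N := by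
  obtain ⟨hc, he⟩ := hM
  refine ⟨⟨⟨?_⟩⟩, fun a ha => he a (h ha)⟩
  rintro ⟨a, ha⟩ ⟨b, hb⟩
  have := hc.is_comm.comm ⟨a, h ha⟩ ⟨b, h hb⟩
  apply Subtype.ext
  show a * b = b * a
  exact congrArg Subtype.val this

theorem isPGroup_of_isElementaryAbelian {p : ℕ} {M : Subgroup G}
    (hM : Cfsg.IsElementaryAbelian p M) : IsPGroup p M := by
  intro g
  refine ⟨1, ?_⟩
  apply Subtype.ext
  show (g : G) ^ (p ^ 1) = 1
  rw [pow_one]
  exact hM.2 g g.2

theorem comm_of_isElementaryAbelian {p : ℕ} {M : Subgroup G}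
    (hM : Cfsg.IsElementaryAbelian p M) {a b : G} (ha : a ∈ M) (hb : b ∈ M) :
    a * b = b * a := by
  have := hM.1.is_comm.comm ⟨a, ha⟩ ⟨b, hb⟩
  exact congrArg Subtype.val this

/-- `|⟨x⟩|` divides `3` when `x ^ 3 = 1`. -/
theorem card_zpowers_dvd_three {x : G} (hx3 : x ^ 3 = 1) :
    Nat.card (Subgroup.zpowers x) ∣ 3 := by
  rw [Nat.card_zpowers]
  exact orderOf_dvd_of_pow_eq_one hx3

theorem coprime_zpowers_two_group [Finite G] {N : Subgroup G} {x : G} (hx3 : x ^ 3 = 1)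
    (hN : IsPGroup 2 N) : (Nat.card (Subgroup.zpowers x)).Coprime (Nat.card N) := by
  obtain ⟨k, hk⟩ := IsPGroup.iff_card.mp hN
  rw [hk]
  apply Nat.Coprime.pow_right
  exact Nat.Coprime.coprime_dvd_left (card_zpowers_dvd_three hx3) (by decide)

/-- For an `x`-invariant subgroup `N` of an elementary abelian 2-group (x^3 = 1),
`[N, ⟨x⟩]` has no nontrivial `x`-fixed point. -/
theorem comm_inf_centralizer_eq_bot [Finite G] {N : Subgroup G} {x : G}
    (hN : Cfsg.IsElementaryAbelian 2 N) (hxN : x ∈ Subgroup.normalizer (N : Set G))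
    (hx3 : x ^ 3 = 1) :
    ⁅N, Subgroup.zpowers x⁆ ⊓ Subgroup.centralizer {x} = ⊥ := by
  haveI := hN.1
  have hAN : Subgroup.zpowers x ≤ Subgroup.normalizer (N : Set G) := by
    rw [Subgroup.zpowers_le]; exact hxN
  have hcop := coprime_zpowers_two_group hx3 (isPGroup_of_isElementaryAbelian hN)
  have h1 := Cfsg.Agent.Lib.Helper1.coprime_abelian_centralizer_inf_commutator
    (Subgroup.zpowers x) N hAN hcop
  have hle : ⁅N, Subgroup.zpowers x⁆ ≤ N := Subgroup.le_normalizer_iff_commutator_le_left.mp hAN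
  rw [eq_bot_iff]
  intro g hg
  obtain ⟨hg1, hg2⟩ := Subgroup.mem_inf.mp hg
  rw [← h1]
  refine Subgroup.mem_inf.mpr ⟨Subgroup.mem_inf.mpr ⟨hle hg1, ?_⟩, hg1⟩
  rw [Subgroup.mem_centralizer_iff]
  intro y hy
  obtain ⟨k, rfl⟩ := Subgroup.mem_zpowers_iff.mp hy
  have hc : Commute x g := by
    have := Subgroup.mem_centralizer_iff.mp hg2 x (Set.mem_singleton x)
    exact this
  exact (hc.zpow_left k).eq

theorem card_comm_ne_two [Finite G] {N : Subgroup G} {x : G}
    (hN : Cfsg.IsElementaryAbelian 2 N) (hxN : x ∈ Subgroup.normalizer (N : Set G))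
    (hx3 : x ^ 3 = 1) :
    Nat.card (⁅N, Subgroup.zpowers x⁆ : Subgroup G) ≠ 2 := by
  intro h2
  have hAN : Subgroup.zpowers x ≤ Subgroup.normalizer (N : Set G) := by
    rw [Subgroup.zpowers_le]; exact hxN
  -- x normalizes [N, <x>]
  have hxV : x ∈ Subgroup.normalizer ((⁅N, Subgroup.zpowers x⁆ : Subgroup G) : Set G) :=
    Subgroup.normalizer_commutator_ge_right N (Subgroup.zpowers x) (Subgroup.mem_zpowers x)
  -- <x> (a 3-group) normalizing a group of order 2 centralizes it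
  have hcent : Subgroup.zpowers x ≤
      Subgroup.centralizer ((⁅N, Subgroup.zpowers x⁆ : Subgroup G) : Set G) := by
    letI := Cfsg.Agent.Lib.Helper1.conjActOfLeNormalizer (Subgroup.zpowers x)
      (⁅N, Subgroup.zpowers x⁆ : Subgroup G) (by rw [Subgroup.zpowers_le]; exact hxV)
    haveI : Fact (Nat.Prime 3) := ⟨by decide⟩
    have hA : IsPGroup 3 (Subgroup.zpowers x) := by
      intro g
      refine ⟨1, ?_⟩
      obtain ⟨g, hg⟩ := g
      obtain ⟨k, rfl⟩ := Subgroup.mem_zpowers_iff.mp hg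
      apply Subtype.ext
      show (x ^ k) ^ (3 ^ 1) = 1
      rw [pow_one, ← zpow_natCast, ← zpow_mul, mul_comm, zpow_mul, zpow_natCast, hx3, one_zpow]
    intro a ha
    rw [Subgroup.mem_centralizer_iff]
    intro n hn
    obtain ⟨k, hk⟩ := hA.card_orbit (⟨n, hn⟩ : (⁅N, Subgroup.zpowers x⁆ : Subgroup G))
    have hle : Nat.card (MulAction.orbit (Subgroup.zpowers x)
        (⟨n, hn⟩ : (⁅N, Subgroup.zpowers x⁆ : Subgroup G))) ≤ 2 :=
      le_trans (Nat.card_le_card_of_injective _ Subtype.val_injective) (le_of_eq h2)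
    have hk0 : k = 0 := by
      by_contra hk0
      have h5 : 3 ≤ 3 ^ k := Nat.le_self_pow hk0 3
      omega
    rw [hk0, pow_zero] at hk
    have hsub : Subsingleton (MulAction.orbit (Subgroup.zpowers x)
        (⟨n, hn⟩ : (⁅N, Subgroup.zpowers x⁆ : Subgroup G))) :=
      (Nat.card_eq_one_iff_unique.mp hk).1
    have h1 : (⟨(⟨a, ha⟩ : Subgroup.zpowers x) •
        (⟨n, hn⟩ : (⁅N, Subgroup.zpowers x⁆ : Subgroup G)), MulAction.mem_orbit _ _⟩ :
        MulAction.orbit (Subgroup.zpowers x)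
          (⟨n, hn⟩ : (⁅N, Subgroup.zpowers x⁆ : Subgroup G))) =
        ⟨⟨n, hn⟩, MulAction.mem_orbit_self _⟩ :=
      Subsingleton.elim _ _
    have h2' := congrArg Subtype.val h1
    have h3 : a * n * a⁻¹ = n := congrArg Subtype.val h2'
    calc n * a = a * n * a⁻¹ * a := by rw [h3]
      _ = a * n := by group
  have hbot := comm_inf_centralizer_eq_bot hN hxN hx3
  have hle : ⁅N, Subgroup.zpowers x⁆ ≤ Subgroup.centralizer {x} := by
    intro g hg
    rw [Subgroup.mem_centralizer_iff]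
    intro y hy
    rw [Set.mem_singleton_iff] at hy
    subst hy
    have := Subgroup.mem_centralizer_iff.mp (hcent (Subgroup.mem_zpowers y)) g hg
    exact this.symm
  have : (⁅N, Subgroup.zpowers x⁆ : Subgroup G) = ⊥ := by
    rw [← hbot]; exact (inf_eq_left.mpr hle).symm
  rw [this, Subgroup.card_bot] at h2
  omega

/-- sub-configuration -/
theorem Cfg.sub [Finite G] {M R : Subgroup G} {x : G} {r : ℕ} (c : Cfg M R x r) {M' : Subgroup G}
    (hM' : M' ≤ M) (hRM' : R ≤ Subgroup.normalizer (M' : Set G))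
    (hxM' : x ∈ Subgroup.normalizer (M' : Set G))
    (hfaith : R ⊓ Subgroup.centralizer (M' : Set G) = ⊥) : Cfg M' R x r where
  hr := c.hr
  hr5 := c.hr5
  hM := isElementaryAbelian_of_le c.hM hM'
  hR := c.hR
  hRM := hRM'
  hxM := hxM'
  hxR := c.hxR
  hx3 := c.hx3
  hV := by
    exact le_trans (Subgroup.card_le_of_le (Subgroup.commutator_mono hM' le_rfl)) c.hV
  faith := hfaith

end Cfsg.Agent.Lib.Helper9.RK3
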