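import Mathlib
import Cfsg.Agent.Lib.Helper3.RuSylDefs

/-!
Farm RU (S3174), unit E: `core_bound`, `exists_max`, `exists_w0`
(the core of a maximal subgroup `M` of `W`, intersected over its at most `|T:W|` conjugates).
-/

set_option autoImplicit false

namespace Cfsg.Agent.Lib.Helper9.RuSylE

open Cfsg.Agent.Lib.Helper3.RuSyl

variable {T : Type*} [Group T]

/-! ### local copies of the unit-A facts -/

theorem le_of_double [Finite T] {A B N : Subgroup T} (hAB : A ≤ B) (hc : Nat.card B = 2 * Nat.card A)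
    (hAN : A ≤ N) {y : T} (hyB : y ∈ B) (hyA : y ∉ A) (hyN : y ∈ N) : B ≤ N := by
  have hC : A ⊔ Subgroup.zpowers y ≤ B :=
    sup_le hAB ((Subgroup.zpowers_le).mpr hyB)
  have hA_C : A ≤ A ⊔ Subgroup.zpowers y := le_sup_left
  have hy_C : y ∈ A ⊔ Subgroup.zpowers y := (le_sup_right : _ ≤ A ⊔ _) (Subgroup.mem_zpowers y)
  have hd1 : Nat.card A ∣ Nat.card ↥(A ⊔ Subgroup.zpowers y) := Subgroup.card_dvd_of_le hA_C
  have hd2 : Nat.card ↥(A ⊔ Subgroup.zpowers y) ∣ Nat.card B := Subgroup.card_dvd_of_le hC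
  have hApos : 0 < Nat.card A := Nat.card_pos
  have hne : Nat.card ↥(A ⊔ Subgroup.zpowers y) ≠ Nat.card A := by
    intro h
    have : A = A ⊔ Subgroup.zpowers y := Subgroup.eq_of_le_of_card_ge hA_C (le_of_eq h)
    exact hyA (this ▸ hy_C)
  obtain ⟨k, hk⟩ := hd1
  rw [hc, hk] at hd2
  have hk2 : k ∣ 2 := by
    rw [mul_comm 2 (Nat.card A)] at hd2
    exact (Nat.mul_dvd_mul_iff_left hApos).mp hd2
  have hk' : k = 1 ∨ k = 2 := by
    have := Nat.le_of_dvd (by norm_num) hk2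
    interval_cases k
    · simp at hk2
    · left; rfl
    · right; rfl
  rcases hk' with rfl | rfl
  · exact absurd (by rw [hk, mul_one]) hne
  · have hCB : A ⊔ Subgroup.zpowers y = B :=
      Subgroup.eq_of_le_of_card_ge hC (by rw [hc, hk, mul_comm])
    rw [← hCB]
    exact sup_le hAN ((Subgroup.zpowers_le).mpr hyN)

section chain

variable [Finite T] {Z1 Z2 Z3 Z4 : Subgroup T}

theorem up0' (C : Chain Z1 Z2 Z3 Z4) (N : Subgroup T) (hN : N.Normal) (hne : N ≠ ⊥) : Z1 ≤ N := by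
  obtain ⟨y, hyN, hyZ, hy1⟩ := C.key0 N hN hne
  have h := le_of_double (A := (⊥ : Subgroup T)) (B := Z1) (N := N) bot_le
    (by rw [C.c1, Subgroup.card_bot]) bot_le hyZ (by rwa [Subgroup.mem_bot]) hyN
  exact h

theorem up1' (C : Chain Z1 Z2 Z3 Z4) (N : Subgroup T) (hN : N.Normal) (hle : Z1 ≤ N) (hne : N ≠ Z1) :
    Z2 ≤ N := by
  have hnot : ¬ N ≤ Z1 := fun h => hne (le_antisymm h hle)
  obtain ⟨y, hyN, hyZ, hy1⟩ := C.key1 N hN hnot
  exact le_of_double C.le12 (by rw [C.c2, C.c1]) hle hyZ hy1 hyN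

theorem up2' (C : Chain Z1 Z2 Z3 Z4) (N : Subgroup T) (hN : N.Normal) (hle : Z2 ≤ N) (hne : N ≠ Z2) :
    Z3 ≤ N := by
  have hnot : ¬ N ≤ Z2 := fun h => hne (le_antisymm h hle)
  obtain ⟨y, hyN, hyZ, hy1⟩ := C.key2 N hN hnot
  exact le_of_double C.le23 (by rw [C.c3, C.c2]) hle hyZ hy1 hyN

theorem up3' (C : Chain Z1 Z2 Z3 Z4) (N : Subgroup T) (hN : N.Normal) (hle : Z3 ≤ N) (hne : N ≠ Z3) :
    Z4 ≤ N := by
  have hnot : ¬ N ≤ Z3 := fun h => hne (le_antisymm h hle)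
  obtain ⟨y, hyN, hyZ, hy1⟩ := C.key3 N hN hnot
  exact le_of_double C.le34 (by rw [C.c4, C.c3]) hle hyZ hy1 hyN

theorem le_Z3_of_card' (C : Chain Z1 Z2 Z3 Z4) (N : Subgroup T) (hN : N.Normal)
    (hc : Nat.card N ≤ 8) : N ≤ Z3 := by
  by_contra hnot
  have h0 : N ≠ ⊥ := by rintro rfl; exact hnot bot_le
  have h1 := up0' C N hN h0
  have h1' : N ≠ Z1 := by rintro rfl; exact hnot (C.le12.trans C.le23)
  have h2 := up1' C N hN h1 h1'
  have h2' : N ≠ Z2 := by rintro rfl; exact hnot C.le23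
  have h3 := up2' C N hN h2 h2'
  have h3' : N ≠ Z3 := by rintro rfl; exact hnot le_rfl
  have hlt : Z3 < N := lt_of_le_of_ne h3 (Ne.symm h3')
  have : Nat.card Z3 < Nat.card N := by
    have hle : Nat.card Z3 ≤ Nat.card N := Subgroup.card_le_of_le h3
    rcases hle.lt_or_eq with h | h
    · exact h
    · exact absurd (Subgroup.eq_of_le_of_card_ge h3 (le_of_eq h.symm)) (Ne.symm h3')
  rw [C.c3] at this
  omega

end chain

/-! ### conjugates of a subgroup of index 2 of a normal subgroup -/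

section conj

variable {W M : Subgroup T}

/-- the conjugate `g M g⁻¹` -/
def cj (M : Subgroup T) (g : T) : Subgroup T := M.map (MulAut.conj g).toMonoidHom

theorem mem_cj {M : Subgroup T} {g x : T} : x ∈ cj M g ↔ ∃ m ∈ M, g * m * g⁻¹ = x := by
  unfold cj
  rw [Subgroup.mem_map]
  simp [MulAut.conj_apply]

theorem normal_in (hMW : M ≤ W) (hM2 : M.relIndex W = 2) {w m : T} (hw : w ∈ W) (hm : m ∈ M) :
    w * m * w⁻¹ ∈ M := by
  have hi : (M.subgroupOf W).index = 2 := hM2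
  have hn : (M.subgroupOf W).Normal := Subgroup.normal_of_index_eq_two hi
  have h := hn.conj_mem ⟨m, hMW hm⟩ (by rw [Subgroup.mem_subgroupOf]; exact hm) ⟨w, hw⟩
  rw [Subgroup.mem_subgroupOf] at h
  simpa using h

theorem cj_le [hW : W.Normal] (hMW : M ≤ W) (g : T) : cj M g ≤ W := by
  intro x hx
  obtain ⟨m, hm, rfl⟩ := mem_cj.mp hx
  exact hW.conj_mem m (hMW hm) g

theorem map_conj_eq [hW : W.Normal] (g : T) : W.map (MulAut.conj g).toMonoidHom = W := by
  apply le_antisymm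
  · intro x hx
    obtain ⟨w, hw, rfl⟩ := Subgroup.mem_map.mp hx
    simpa [MulAut.conj_apply] using hW.conj_mem w hw g
  · intro x hx
    refine Subgroup.mem_map.mpr ⟨g⁻¹ * x * g, ?_, ?_⟩
    · have := hW.conj_mem x hx g⁻¹
      simpa using this
    · simp [MulAut.conj_apply, mul_assoc]

theorem cj_relIndex [hW : W.Normal] (hM2 : M.relIndex W = 2) (g : T) : (cj M g).relIndex W = 2 := by
  have h := Subgroup.relIndex_map_map_of_injective (f := (MulAut.conj g).toMonoidHom) M W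
    (MulAut.conj g).injective
  rw [map_conj_eq (W := W) g] at h
  unfold cj
  rw [h, hM2]

/-- if `t * g ∈ W` then conjugation by `t` maps `g M g⁻¹` into `M` -/
theorem conj_mem_of_cj (hMW : M ≤ W) (hM2 : M.relIndex W = 2) {t g x : T} (htg : t * g ∈ W)
    (hx : x ∈ cj M g) : t * x * t⁻¹ ∈ M := by
  obtain ⟨m, hm, rfl⟩ := mem_cj.mp hx
  have h := normal_in hMW hM2 htg hm
  have e : t * (g * m * g⁻¹) * t⁻¹ = (t * g) * m * (t * g)⁻¹ := by group
  rw [e]; exact h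

/-- the representative attached to `t`: `t * out (t⁻¹ W) ∈ W` -/
theorem mul_out_mem (W : Subgroup T) (t : T) : t * ((t⁻¹ : T) : T ⧸ W).out ∈ W := by
  obtain ⟨h, hh⟩ := QuotientGroup.mk_out_eq_mul W t⁻¹
  rw [hh]
  have : t * (t⁻¹ * (h : T)) = h := by group
  rw [this]; exact h.2

theorem iInf_relIndex_le [Finite T] [hW : W.Normal] (hM2 : M.relIndex W = 2) {ι : Type*} [Fintype ι]
    (r : ι → T) : (⨅ i, cj M (r i)).relIndex W ≤ 2 ^ Fintype.card ι := by
  refine (Subgroup.relIndex_iInf_le (L := W) (fun i => cj M (r i))).trans ?_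
  simp only [cj_relIndex hM2, Finset.prod_const, Finset.card_univ, le_refl]

theorem card_eq_relIndex_mul [Finite T] {K W : Subgroup T} (h : K ≤ W) :
    Nat.card W = K.relIndex W * Nat.card K := by
  have h1 : Nat.card (K.subgroupOf W) = Nat.card K :=
    Nat.card_congr (Subgroup.subgroupOfEquivOfLe h).toEquiv
  have h2 := (K.subgroupOf W).index_mul_card
  rw [h1] at h2
  exact h2.symm

end conj

/-! ### core of `M` and the bound -/

theorem core_index_bound [Finite T] {W M : Subgroup T} [hW : W.Normal] (hMW : M ≤ W)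
    (hM2 : M.relIndex W = 2) : M.normalCore.relIndex W ≤ 2 ^ W.index := by
  classical
  haveI : Fintype (T ⧸ W) := Fintype.ofFinite _
  have hle : (⨅ q : T ⧸ W, cj M q.out) ≤ M.normalCore := by
    intro x hx t
    rw [Subgroup.mem_iInf] at hx
    exact conj_mem_of_cj hMW hM2 (mul_out_mem W t) (hx ((t⁻¹ : T) : T ⧸ W))
  have hb := iInf_relIndex_le (W := W) (M := M) hM2 (fun q : T ⧸ W => q.out)
  have hne : (⨅ q : T ⧸ W, cj M q.out).relIndex W ≠ 0 :=
    Subgroup.index_ne_zero_of_finite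
  have h1 := Subgroup.relIndex_le_of_le_left (L := W) hle hne
  have hcard : Fintype.card (T ⧸ W) = W.index := by
    rw [Subgroup.index, Nat.card_eq_fintype_card]
  rw [hcard] at hb
  exact h1.trans hb

/-- the subgroup following `Φ` in the chain -/
theorem exists_next [Finite T] {Z1 Z2 Z3 Z4 : Subgroup T} (C : Chain Z1 Z2 Z3 Z4) (Φ : Subgroup T)
    (hΦn : Φ.Normal) (hΦc : Nat.card Φ ≤ 8) :
    ∃ N : Subgroup T, ¬ N ≤ Φ ∧ ∀ K : Subgroup T, K.Normal → Φ ≤ K → K ≠ Φ → N ≤ K := by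
  have hcard_lt : ∀ {A B : Subgroup T}, Nat.card A < Nat.card B → ¬ B ≤ A := by
    intro A B h hle
    exact absurd (Subgroup.card_le_of_le hle) (not_le.mpr h)
  by_cases h0 : Φ = ⊥
  · refine ⟨Z1, ?_, fun K hK _ hne => up0' C K hK (by rw [h0] at hne; exact hne)⟩
    rw [h0]; apply hcard_lt; rw [C.c1, Subgroup.card_bot]; norm_num
  have l1 := up0' C Φ hΦn h0
  by_cases h1 : Φ = Z1
  · refine ⟨Z2, ?_, fun K hK hle hne => up1' C K hK (h1 ▸ hle) (by rw [h1] at hne; exact hne)⟩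
    rw [h1]; apply hcard_lt; rw [C.c1, C.c2]; norm_num
  have l2 := up1' C Φ hΦn l1 h1
  by_cases h2 : Φ = Z2
  · refine ⟨Z3, ?_, fun K hK hle hne => up2' C K hK (h2 ▸ hle) (by rw [h2] at hne; exact hne)⟩
    rw [h2]; apply hcard_lt; rw [C.c2, C.c3]; norm_num
  have l3 := up2' C Φ hΦn l2 h2
  have h3 : Φ = Z3 := le_antisymm (le_Z3_of_card' C Φ hΦn hΦc) l3
  refine ⟨Z4, ?_, fun K hK hle hne => up3' C K hK (h3 ▸ hle) (by rw [h3] at hne; exact hne)⟩
  rw [h3]; apply hcard_lt; rw [C.c3, C.c4]; norm_num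

theorem normalW' {Z3 W : Subgroup T} (hn3 : Z3.Normal)
    (hW : W = Subgroup.centralizer (Z3 : Set T)) : W.Normal := by
  rw [hW]
  exact Subgroup.normal_centralizer (H := Z3)

/-- **Unit E, part 1.** -/
theorem core_bound [Finite T] {Z1 Z2 Z3 Z4 W Φ : Subgroup T} (S : Setting Z1 Z2 Z3 Z4 W Φ) :
    Nat.card W ≤ Nat.card Φ * 2 ^ W.index := by
  have C := S.chain
  haveI hWn : W.Normal := normalW' C.n3 S.hW
  haveI hΦn : Φ.Normal := S.frat.normal
  by_cases hWΦ : W = Φ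
  · have hpos : 0 < 2 ^ W.index := pow_pos (by norm_num) _
    calc Nat.card W = Nat.card Φ := by rw [← hWΦ]
      _ ≤ Nat.card Φ * 2 ^ W.index := Nat.le_mul_of_pos_right _ hpos
  obtain ⟨N, hNΦ, hNext⟩ := exists_next C Φ hΦn S.cardΦ
  have hNW : N ≤ W := hNext W hWn S.frat.le hWΦ
  obtain ⟨M, hMW, hM2, hΦM, hNM⟩ := S.frat.max N hNW hNΦ
  have hΦK : Φ ≤ M.normalCore := Subgroup.normal_le_normalCore.mpr hΦM
  have hK : M.normalCore = Φ := by
    by_contra hne
    exact hNM ((hNext M.normalCore inferInstance hΦK hne).trans M.normalCore_le)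
  have hb := core_index_bound hMW hM2
  rw [hK] at hb
  rw [card_eq_relIndex_mul S.frat.le, mul_comm]
  exact Nat.mul_le_mul_left _ hb

/-- **Unit E, part 2.** -/
theorem exists_max [Finite T] {Z1 Z2 Z3 Z4 W Φ : Subgroup T} (S : Setting Z1 Z2 Z3 Z4 W Φ)
    (hΦ : Φ = Z3) (hW11 : Nat.card W = 2 ^ 11) :
    ∃ M : Subgroup T, M ≤ W ∧ M.relIndex W = 2 ∧ Z3 ≤ M ∧ ¬ Z4 ≤ M ∧
      ∀ x ∈ W, (∀ t : T, t * x * t⁻¹ ∈ M) → x ∈ Z3 := by
  have C := S.chain
  haveI hWn : W.Normal := normalW' C.n3 S.hW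
  have hZ3W : Z3 ≤ W := hΦ ▸ S.frat.le
  have hWne : W ≠ Z3 := by
    intro h
    have : Nat.card W = 8 := by rw [h, C.c3]
    rw [hW11] at this
    norm_num at this
  have hZ4W : Z4 ≤ W := up3' C W hWn hZ3W hWne
  have hZ4Φ : ¬ Z4 ≤ Φ := by
    rw [hΦ]
    intro hle
    have := Subgroup.card_le_of_le hle
    rw [C.c3, C.c4] at this
    norm_num at this
  obtain ⟨M, hMW, hM2, hΦM, hNM⟩ := S.frat.max Z4 hZ4W hZ4Φ
  refine ⟨M, hMW, hM2, hΦ ▸ hΦM, hNM, ?_⟩
  intro x _ hx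
  have hxK : x ∈ M.normalCore := hx
  haveI : Z3.Normal := C.n3
  have hZK : Z3 ≤ M.normalCore := Subgroup.normal_le_normalCore.mpr (hΦ ▸ hΦM)
  have hK : M.normalCore = Z3 := by
    by_contra hne
    exact hNM ((up3' C M.normalCore inferInstance hZK hne).trans M.normalCore_le)
  rw [← hK]; exact hxK

/-- **Unit E, part 3.** -/
theorem exists_w0 [Finite T] (W M Z : Subgroup T) [W.Normal] (hMW : M ≤ W) (hM2 : M.relIndex W = 2)
    (h8 : W.index = 8) (hZ : Nat.card Z = 8) (hW11 : Nat.card W = 2 ^ 11)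
    (hcore : ∀ x ∈ W, (∀ t : T, t * x * t⁻¹ ∈ M) → x ∈ Z) :
    ∃ w0 ∈ W, w0 ∉ M ∧ ∀ g : T, g ∉ W → g * w0 * g⁻¹ ∈ M := by
  classical
  haveI : Fintype (T ⧸ W) := Fintype.ofFinite _
  -- A = W ⊓ (intersection of the conjugates for the non-identity cosets)
  set ι := {q : T ⧸ W // q ≠ ((1 : T) : T ⧸ W)} with hι
  set A : Subgroup T := (⨅ q : ι, cj M q.1.out) ⊓ W with hA
  have hAW : A ≤ W := inf_le_right
  have hcardι : Fintype.card ι = 7 := by
    have h1 : Fintype.card (T ⧸ W) = 8 := by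
      rw [← Nat.card_eq_fintype_card]; exact h8
    rw [Fintype.card_subtype_compl, Fintype.card_subtype_eq, h1]
  have hrel : A.relIndex W ≤ 2 ^ 7 := by
    rw [hA, Subgroup.inf_relIndex_right]
    have := iInf_relIndex_le (W := W) (M := M) hM2 (fun q : ι => q.1.out)
    rwa [hcardι] at this
  have hApos : 0 < Nat.card A := Nat.card_pos
  have hcardA : 16 ≤ Nat.card A := by
    have h := card_eq_relIndex_mul hAW
    rw [hW11] at h
    by_contra hlt
    push Not at hlt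
    have : A.relIndex W * Nat.card A < 2 ^ 7 * 16 := by
      calc A.relIndex W * Nat.card A ≤ 2 ^ 7 * Nat.card A := Nat.mul_le_mul_right _ hrel
        _ < 2 ^ 7 * 16 := Nat.mul_lt_mul_of_pos_left hlt (by norm_num)
    rw [← h] at this
    norm_num at this
  -- conjugates of elements of A
  have hconj : ∀ x ∈ A, ∀ t : T, t ∉ W → t * x * t⁻¹ ∈ M := by
    intro x hx t ht
    have hq : ((t⁻¹ : T) : T ⧸ W) ≠ ((1 : T) : T ⧸ W) := by
      intro h
      rw [QuotientGroup.eq] at h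
      apply ht
      have : (t⁻¹)⁻¹ * 1 = t := by group
      rw [this] at h
      exact h
    have hx1 : x ∈ ⨅ q : ι, cj M q.1.out := hx.1
    rw [Subgroup.mem_iInf] at hx1
    exact conj_mem_of_cj hMW hM2 (mul_out_mem W t) (hx1 ⟨_, hq⟩)
  -- A ⊓ M ≤ Z
  have hAMZ : A ⊓ M ≤ Z := by
    intro x hx
    apply hcore x (hAW hx.1)
    intro t
    by_cases ht : t ∈ W
    · exact normal_in hMW hM2 ht hx.2
    · exact hconj x hx.1 t ht
  have hnot : ¬ A ≤ M := by
    intro hle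
    have hAZ : A ≤ Z := fun x hx => hAMZ ⟨hx, hle hx⟩
    have := Subgroup.card_le_of_le hAZ
    rw [hZ] at this
    omega
  obtain ⟨w0, hw0A, hw0M⟩ := SetLike.not_le_iff_exists.mp hnot
  exact ⟨w0, hAW hw0A, hw0M, fun g hg => hconj w0 hw0A g hg⟩

end Cfsg.Agent.Lib.Helper9.RuSylE
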