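import Mathlib
import Cfsg.Agent.Lib.Helper3.RuSylDefs
import Cfsg.Agent.Lib.Helper3.RuSylA
import Cfsg.Agent.Lib.Helper9.RuSylE

/-!
Farm RU (S3174), unit F: Lemma L (`exists_index_two_avoiding`), `commutator_eq`, `Z3_sq`.
-/

set_option autoImplicit false

namespace Cfsg.Agent.Lib.Helper9.RuSylF

open Cfsg.Agent.Lib.Helper3.RuSyl
open Cfsg.Agent.Lib.Helper3
open scoped commutatorElement

variable {T : Type*} [Group T]

/-- index two from "two elements outside differ by an element inside" -/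
theorem relIndex_eq_two_of {A B : Subgroup T} {a : T} (haB : a ∈ B) (haA : a ∉ A)
    (h : ∀ x ∈ B, ∀ y ∈ B, x ∉ A → y ∉ A → x * y⁻¹ ∈ A) : A.relIndex B = 2 := by
  rw [Subgroup.relIndex_eq_two_iff]
  refine ⟨a⁻¹, B.inv_mem haB, fun b hb => ?_⟩
  by_cases hbA : b ∈ A
  · refine Or.inr ⟨hbA, fun hba => haA ?_⟩
    have e : a = (b * a⁻¹)⁻¹ * b := by group
    rw [e]; exact A.mul_mem (A.inv_mem hba) hbA
  · exact Or.inl ⟨h b hb a haB hbA haA, hbA⟩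

/-- Lemma L: `X/Y2` elementary abelian, `Y2 < Y ≤ X` with `|Y:Y2| = 2`: a subgroup of index 2 of `X` over `Y2`
missing `Y`. -/
theorem exists_index_two_avoiding [Finite T] (X Y Y2 : Subgroup T) (hY2 : Y2 ≤ Y) (hYX : Y ≤ X)
    (hidx : Y2.relIndex Y = 2) (hsq : ∀ x ∈ X, x ^ 2 ∈ Y2)
    (hcomm : ∀ x ∈ X, ∀ y ∈ X, x * y * x⁻¹ * y⁻¹ ∈ Y2) :
    ∃ U : Subgroup T, Y2 ≤ U ∧ U ≤ X ∧ U.relIndex X = 2 ∧ ¬ Y ≤ U := by
  classical
  have hYnle : ¬ Y ≤ Y2 := by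
    intro h
    have := Subgroup.relIndex_eq_one.mpr h
    omega
  let P : Set (Subgroup T) := {U | Y2 ≤ U ∧ U ≤ X ∧ ¬ Y ≤ U}
  have hPfin : P.Finite := Set.toFinite P
  have hY2P : Y2 ∈ P := ⟨le_refl _, hY2.trans hYX, hYnle⟩
  obtain ⟨U, -, hUmax⟩ := hPfin.exists_le_maximal hY2P
  obtain ⟨hY2U, hUX, hYU⟩ := hUmax.prop
  refine ⟨U, hY2U, hUX, ?_, hYU⟩
  obtain ⟨y0, hy0Y, hy0U⟩ := SetLike.not_le_iff_exists.mp hYU
  have hN : ∀ g ∈ X, ∀ u ∈ U, g * u * g⁻¹ ∈ U := by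
    intro g hg u hu
    have h1 := hcomm g hg u (hUX hu)
    have e : g * u * g⁻¹ = (g * u * g⁻¹ * u⁻¹) * u := by group
    rw [e]; exact U.mul_mem (hY2U h1) hu
  have hstar : ∀ x ∈ X, x ∉ U → y0 * x⁻¹ ∈ U := by
    intro x hxX hxU
    let U' : Subgroup T :=
      { carrier := {g | g ∈ U ∨ g * x⁻¹ ∈ U}
        one_mem' := Or.inl U.one_mem
        mul_mem' := by
          rintro a b (ha | ha) (hb | hb)
          · exact Or.inl (U.mul_mem ha hb)
          · right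
            have e : a * b * x⁻¹ = a * (b * x⁻¹) := by group
            show a * b * x⁻¹ ∈ U
            rw [e]; exact U.mul_mem ha hb
          · right
            have e : a * b * x⁻¹ = (a * x⁻¹) * (x * b * x⁻¹) := by group
            show a * b * x⁻¹ ∈ U
            rw [e]; exact U.mul_mem ha (hN x hxX b hb)
          · left
            have e : a * b = (a * x⁻¹) * (x * (b * x⁻¹) * x⁻¹) * x ^ 2 := by group
            show a * b ∈ U
            rw [e]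
            exact U.mul_mem (U.mul_mem ha (hN x hxX _ hb)) (hY2U (hsq x hxX))
        inv_mem' := by
          rintro a (ha | ha)
          · exact Or.inl (U.inv_mem ha)
          · right
            have e : a⁻¹ * x⁻¹ = (x⁻¹ * (a * x⁻¹)⁻¹ * x⁻¹⁻¹) * (x ^ 2)⁻¹ := by group
            show a⁻¹ * x⁻¹ ∈ U
            rw [e]
            exact U.mul_mem (hN x⁻¹ (X.inv_mem hxX) _ (U.inv_mem ha))
              (U.inv_mem (hY2U (hsq x hxX))) }
    have hUU' : U ≤ U' := fun g hg => Or.inl hg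
    have hxU' : x ∈ U' := Or.inr (by rw [mul_inv_cancel]; exact U.one_mem)
    have hU'X : U' ≤ X := by
      rintro g (hg | hg)
      · exact hUX hg
      · have e : g = (g * x⁻¹) * x := by group
        rw [e]; exact X.mul_mem (hUX hg) hxX
    have hYU' : Y ≤ U' := by
      by_contra hcon
      have hU'P : U' ∈ P := ⟨hY2U.trans hUU', hU'X, hcon⟩
      have := hUmax.le_of_ge hU'P hUU'
      exact hxU (this hxU')
    rcases hYU' hy0Y with h | h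
    · exact absurd h hy0U
    · exact h
  have hy0X : y0 ∈ X := hYX hy0Y
  refine relIndex_eq_two_of hy0X hy0U (fun x hx y hy hxU hyU => ?_)
  have h1 := hstar x hx hxU
  have h2 := hstar y hy hyU
  have e : x * y⁻¹ = (y0 * x⁻¹)⁻¹ * (y0 * y⁻¹) := by group
  rw [e]; exact U.mul_mem (U.inv_mem h1) h2

theorem commutator_eq [Finite T] {Z1 Z2 Z3 Z4 W Φ : Subgroup T} (S : Setting Z1 Z2 Z3 Z4 W Φ)
    (hΦ : Φ = Z3) (hW11 : Nat.card W = 2 ^ 11) : ⁅W, W⁆ = Z3 := by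
  have C := S.chain
  haveI hWn : W.Normal := RuSylE.normalW' C.n3 S.hW
  have hZ3W : Z3 ≤ W := by rw [← hΦ]; exact S.frat.le
  have hle : ⁅W, W⁆ ≤ Z3 := by
    rw [Subgroup.commutator_le]
    intro x hx y hy
    rw [commutatorElement_def, ← hΦ]
    exact S.frat.comm x hx y hy
  by_contra hne
  have hlt : ⁅W, W⁆ < Z3 := lt_of_le_of_ne hle hne
  have hcard : Nat.card ↥⁅W, W⁆ ≤ 4 := by
    have := RuSylA.two_mul_card_le hlt
    rw [C.c3] at this; omega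
  have hWZ2 : ⁅W, W⁆ ≤ Z2 := RuSylA.le_Z2_of_card C _ inferInstance hcard
  have hc2 : ∀ x ∈ W, ∀ y ∈ W, x * y * x⁻¹ * y⁻¹ ∈ Z2 := fun x hx y hy =>
    hWZ2 (by rw [← commutatorElement_def]; exact Subgroup.commutator_mem_commutator hx hy)
  let X : Subgroup T :=
    { carrier := {x | x ∈ W ∧ x ^ 2 ∈ Z2}
      one_mem' := ⟨W.one_mem, by rw [one_pow]; exact Z2.one_mem⟩
      mul_mem' := by
        rintro a b ⟨ha, ha2⟩ ⟨hb, hb2⟩
        refine ⟨W.mul_mem ha hb, ?_⟩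
        have e : (a * b) ^ 2 = a ^ 2 * (a⁻¹ * b * a⁻¹⁻¹ * b⁻¹) * b ^ 2 := by
          simp only [pow_two]; group
        rw [e]
        exact Z2.mul_mem (Z2.mul_mem ha2 (hc2 _ (W.inv_mem ha) _ hb)) hb2
      inv_mem' := by
        rintro a ⟨ha, ha2⟩
        refine ⟨W.inv_mem ha, ?_⟩
        rw [inv_pow]; exact Z2.inv_mem ha2 }
  have hXW : X ≤ W := fun x hx => hx.1
  have hc32 : Nat.card Z3 = 2 * Nat.card Z2 := by rw [C.c3, C.c2]
  have hZ3sq : ∀ z ∈ Z3, z ^ 2 ∈ Z2 := by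
    intro z hz
    by_cases hz2 : z ∈ Z2
    · exact Z2.pow_mem hz2 2
    · have := RuSylA.mul_inv_mem_of_index_two C.le23 hc32 hz (Z3.inv_mem hz) hz2
        (by rwa [Subgroup.inv_mem_iff])
      simpa [pow_two] using this
  have hZ3X : Z3 ≤ X := fun z hz => ⟨hZ3W hz, hZ3sq z hz⟩
  have hXidx : X.relIndex W ≤ 2 := by
    by_cases hXW' : W ≤ X
    · rw [Subgroup.relIndex_eq_one.mpr hXW']; norm_num
    · obtain ⟨a, haW, haX⟩ := SetLike.not_le_iff_exists.mp hXW'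
      refine le_of_eq (relIndex_eq_two_of haW haX ?_)
      intro x hx y hy hxX hyX
      have hx2 : x ^ 2 ∈ Z3 := by rw [← hΦ]; exact S.frat.sq x hx
      have hy2 : y ^ 2 ∈ Z3 := by rw [← hΦ]; exact S.frat.sq y hy
      have hx2' : x ^ 2 ∉ Z2 := fun h => hxX ⟨hx, h⟩
      have hy2' : y ^ 2 ∉ Z2 := fun h => hyX ⟨hy, h⟩
      have hxy := RuSylA.mul_inv_mem_of_index_two C.le23 hc32 hx2 hy2 hx2' hy2'
      refine ⟨W.mul_mem hx (W.inv_mem hy), ?_⟩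
      have e : (x * y⁻¹) ^ 2 =
          (x ^ 2 * (x⁻¹ * y⁻¹ * x⁻¹⁻¹ * y⁻¹⁻¹) * (x ^ 2)⁻¹) * (x ^ 2 * (y ^ 2)⁻¹) := by
        simp only [pow_two]; group
      rw [e]
      exact Z2.mul_mem (C.n2.conj_mem _ (hc2 _ (W.inv_mem hx) _ (W.inv_mem hy)) _) hxy
  have hidx : Z2.relIndex Z3 = 2 := by
    have := RuSylE.card_eq_relIndex_mul C.le23
    rw [C.c3, C.c2] at this; omega
  obtain ⟨U, hZ2U, hUX, hUidx, hZ3U⟩ := exists_index_two_avoiding X Z3 Z2 C.le23 hZ3X hidx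
    (fun x hx => hx.2) (fun x hx y hy => hc2 x hx.1 y hy.1)
  have hUW : U ≤ W := hUX.trans hXW
  have hmul := Subgroup.relIndex_mul_relIndex U X W hUX hXW
  have hU16 : U.relIndex W ≤ 16 := by
    rw [← hmul, hUidx]; omega
  have := S.frat.small U hUW hU16
  rw [hΦ] at this
  exact hZ3U this

theorem Z3_sq [Finite T] {Z1 Z2 Z3 Z4 W Φ : Subgroup T} (S : Setting Z1 Z2 Z3 Z4 W Φ)
    (hΦ : Φ = Z3) (hW11 : Nat.card W = 2 ^ 11) : ∀ z ∈ Z3, z ^ 2 = 1 := by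
  have C := S.chain
  have hZ3W : Z3 ≤ W := by rw [← hΦ]; exact S.frat.le
  have hcen : ∀ w ∈ W, ∀ z ∈ Z3, z * w = w * z := by
    intro w hw z hz
    rw [S.hW] at hw
    exact Subgroup.mem_centralizer_iff.mp hw z hz
  let E : Subgroup T :=
    { carrier := {z | z ∈ Z3 ∧ z ^ 2 = 1}
      one_mem' := ⟨Z3.one_mem, one_pow 2⟩
      mul_mem' := by
        rintro a b ⟨ha, ha2⟩ ⟨hb, hb2⟩
        refine ⟨Z3.mul_mem ha hb, ?_⟩
        have hab : Commute a b := hcen b (hZ3W hb) a ha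
        rw [hab.mul_pow 2, ha2, hb2, one_mul]
      inv_mem' := by
        rintro a ⟨ha, ha2⟩
        exact ⟨Z3.inv_mem ha, by rw [inv_pow, ha2, inv_one]⟩ }
  have hWW : ⁅W, W⁆ ≤ E := by
    rw [Subgroup.commutator_le]
    intro x hx y hy
    have hcZ : ⁅x, y⁆ ∈ Z3 := by
      rw [commutatorElement_def, ← hΦ]; exact S.frat.comm x hx y hy
    refine ⟨hcZ, ?_⟩
    have hx2 : x ^ 2 ∈ Z3 := by rw [← hΦ]; exact S.frat.sq x hx
    have h1 : x ^ 2 * y = y * x ^ 2 := hcen y hy _ hx2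
    have h2 : ⁅x, y⁆ * x = x * ⁅x, y⁆ := hcen x hx _ hcZ
    have e : ⁅x, y⁆ ^ 2 = (x * ⁅x, y⁆ * x⁻¹) * ⁅x, y⁆ := by
      have e' : x * ⁅x, y⁆ * x⁻¹ = ⁅x, y⁆ := by rw [← h2]; group
      rw [e', pow_two]
    rw [e, commutatorElement_def]
    have e2 : x * (x * y * x⁻¹ * y⁻¹) * x⁻¹ * (x * y * x⁻¹ * y⁻¹) =
        (x ^ 2 * y) * (x ^ 2)⁻¹ * y⁻¹ := by
      simp only [pow_two]; group
    rw [e2, h1]; group
  rw [commutator_eq S hΦ hW11] at hWW
  exact fun z hz => (hWW hz).2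

end Cfsg.Agent.Lib.Helper9.RuSylF
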