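import Mathlib
import Cfsg.Agent.Lib.Helper1.ThreeSubgroups

/-! Farm TCL (S1775), unit U6: three subgroups lemma modulo `N` for a perfect `J`. -/
set_option autoImplicit false

namespace Cfsg.Agent.Lib.Helper9.TCL

/-- U6: three subgroups lemma modulo `N`, for a perfect `J`. -/
theorem U6 {X : Type*} [Group X] (J E R N : Subgroup X) (hperf : ⁅J, J⁆ = J)
    (h1 : ⁅J, E⁆ ≤ R) (h2 : ⁅J, R⁆ ≤ N) (hJN : J ≤ Subgroup.normalizer (N : Set X))
    (hEN : E ≤ Subgroup.normalizer (N : Set X)) : ⁅J, E⁆ ≤ N := by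
  have hA : ⁅⁅J, E⁆, J⁆ ≤ N := by
    rw [Subgroup.commutator_comm]
    exact (Subgroup.commutator_mono le_rfl h1).trans h2
  have hB : ⁅⁅E, J⁆, J⁆ ≤ N := by
    rw [Subgroup.commutator_comm E J]
    exact hA
  have key := Cfsg.Agent.Lib.Helper1.commutator_commutator_le_of_rotate N J E J hJN hEN hJN hA hB
  rw [hperf] at key
  exact key

end Cfsg.Agent.Lib.Helper9.TCL
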