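import Mathlib

set_option autoImplicit false

/-! Farm TGS (S3161), core of unit U1: a finite elementary abelian 2-group `C` on whose
non-identity elements the powers of an automorphism `r` act transitively is the additive group of
a finite field on which `r` acts as multiplication by a generator. -/

namespace Cfsg.Agent.Lib.Helper9.TGSField

universe u

section core

variable {C : Type u} [CommGroup C]

/-- the endomorphism ring of `C` written additively -/
abbrev R (C : Type u) [CommGroup C] := AddMonoid.End (Additive C)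

/-- `r` as an element of the endomorphism ring -/
def rr (r : MulAut C) : R C := MonoidHom.toAdditive r.toMonoidHom

theorem rr_apply (r : MulAut C) (x : Additive C) : rr r x = Additive.ofMul (r (Additive.toMul x)) := rfl

theorem rr_pow_apply (r : MulAut C) (k : ℕ) (x : Additive C) :
    (rr r ^ k) x = Additive.ofMul ((r ^ k) (Additive.toMul x)) := by
  induction k generalizing x with
  | zero => simp
  | succ k ih =>
    rw [pow_succ, pow_succ]
    show (rr r ^ k) (rr r x) = _
    rw [ih, rr_apply]
    rfl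

variable (hexp : ∀ x : C, x * x = 1)

include hexp in
theorem add_self (f : R C) : f + f = 0 := by
  refine DFunLike.ext _ _ (fun x => ?_)
  show f x + f x = 0
  have := hexp (Additive.toMul (f x))
  exact congrArg Additive.ofMul this

include hexp in
theorem neg_eq (f : R C) : -f = f := by
  have h := add_self hexp f
  exact neg_eq_of_add_eq_zero_left h

variable (r : MulAut C) (e : C) (he : e ≠ 1)
  (htr : ∀ x y : C, x ≠ 1 → y ≠ 1 → ∃ k : ℕ, (r ^ k) x = y)

include he htr in
/-- two endomorphisms commuting with `r` that agree at `e` are equal -/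
theorem eq_of_apply_e (f g : R C) (hf : Commute f (rr r)) (hg : Commute g (rr r))
    (h : f (Additive.ofMul e) = g (Additive.ofMul e)) : f = g := by
  refine DFunLike.ext _ _ (fun x => ?_)
  by_cases hx : Additive.toMul x = 1
  · have : x = 0 := hx
    rw [this, map_zero, map_zero]
  · obtain ⟨k, hk⟩ := htr e (Additive.toMul x) he hx
    have hxe : x = (rr r ^ k) (Additive.ofMul e) := by
      rw [rr_pow_apply]
      show x = Additive.ofMul ((r ^ k) e)
      rw [hk]; rfl
    have h1 : f ((rr r ^ k) (Additive.ofMul e)) = (rr r ^ k) (f (Additive.ofMul e)) := by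
      have := (hf.pow_right k).eq
      exact congrArg (fun (φ : R C) => φ (Additive.ofMul e)) this
    have h2 : g ((rr r ^ k) (Additive.ofMul e)) = (rr r ^ k) (g (Additive.ofMul e)) := by
      have := (hg.pow_right k).eq
      exact congrArg (fun (φ : R C) => φ (Additive.ofMul e)) this
    rw [hxe, h1, h2, h]

/-- the carrier of the field: `0` and the powers of `r` -/
def T (r : MulAut C) : Set (R C) := {f | f = 0 ∨ ∃ k : ℕ, f = rr r ^ k}

theorem commute_of_mem_T {f : R C} (hf : f ∈ T r) : Commute f (rr r) := by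
  rcases hf with rfl | ⟨k, rfl⟩
  · exact Commute.zero_left _
  · exact (Commute.refl _).pow_left k

theorem commute_T {f g : R C} (hf : f ∈ T r) (hg : g ∈ T r) : f * g = g * f := by
  rcases hf with rfl | ⟨k, rfl⟩
  · simp
  · rcases hg with rfl | ⟨l, rfl⟩
    · simp
    · rw [← pow_add, ← pow_add, add_comm]

include he in
theorem pow_apply_e_ne (k : ℕ) : (rr r ^ k) (Additive.ofMul e) ≠ 0 := by
  rw [rr_pow_apply]
  intro h
  have h1 : (r ^ k) e = 1 := h
  have h2 : (r ^ k) e = (r ^ k) 1 := by rw [h1, map_one]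
  exact he ((r ^ k).injective h2)

include he in
theorem pow_ne_zero' (k : ℕ) : rr r ^ k ≠ 0 := by
  intro h
  apply pow_apply_e_ne r e he k
  rw [h]; rfl

include hexp he htr in
theorem add_mem_T {f g : R C} (hf : f ∈ T r) (hg : g ∈ T r) : f + g ∈ T r := by
  by_cases h0 : (f + g) (Additive.ofMul e) = 0
  · left
    apply eq_of_apply_e r e he htr
    · exact (commute_of_mem_T r hf).add_left (commute_of_mem_T r hg)
    · exact Commute.zero_left _
    · rw [h0]; rfl
  · right
    have hne : Additive.toMul ((f + g) (Additive.ofMul e)) ≠ 1 := h0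
    obtain ⟨k, hk⟩ := htr e _ he hne
    refine ⟨k, ?_⟩
    apply eq_of_apply_e r e he htr
    · exact (commute_of_mem_T r hf).add_left (commute_of_mem_T r hg)
    · exact (Commute.refl _).pow_left k
    · rw [rr_pow_apply]
      show _ = Additive.ofMul ((r ^ k) e)
      rw [hk]; rfl

/-- the subring `{0} ∪ {r^k}` -/
def S : Subring (R C) where
  carrier := T r
  mul_mem' := by
    intro f g hf hg
    rcases hf with rfl | ⟨k, rfl⟩
    · left; simp
    · rcases hg with rfl | ⟨l, rfl⟩
      · left; simp
      · right; exact ⟨k + l, (pow_add _ _ _).symm⟩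
  one_mem' := Or.inr ⟨0, (pow_zero _).symm⟩
  add_mem' := fun hf hg => add_mem_T hexp r e he htr hf hg
  zero_mem' := Or.inl rfl
  neg_mem' := by
    intro f hf
    rw [neg_eq hexp f]; exact hf

end core

section main

variable {C : Type u} [CommGroup C] [Finite C]

/-- first form: `r` acts as multiplication by a generator `μ`. -/
theorem exists_field_of_transitive' (n : ℕ) (hn : 1 ≤ n) (hcard : Nat.card C = 2 ^ n)
    (hexp : ∀ x : C, x * x = 1) (r : MulAut C)
    (htr : ∀ x y : C, x ≠ 1 → y ≠ 1 → ∃ k : ℕ, (r ^ k) x = y) :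
    ∃ (F : Type) (_ : Field F) (_ : Fintype F) (_ : CharP F 2) (μ : F) (ι : F → C),
      Fintype.card F = 2 ^ n ∧ (∀ x : F, x ≠ 0 → ∃ k : ℕ, x = μ ^ k) ∧ Function.Bijective ι ∧
      (∀ a b, ι (a + b) = ι a * ι b) ∧ (∀ a, r (ι a) = ι (μ * a)) := by
  classical
  -- a non-identity element
  have hC2 : 2 ≤ Nat.card C := by
    rw [hcard]
    calc 2 = 2 ^ 1 := rfl
      _ ≤ 2 ^ n := Nat.pow_le_pow_right (by norm_num) hn
  obtain ⟨e, he⟩ : ∃ e : C, e ≠ 1 := by
    by_contra hcon
    have hcon : ∀ e : C, e = 1 := fun e => by_contra (fun h => hcon ⟨e, h⟩)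
    have : Subsingleton C := ⟨fun a b => by rw [hcon a, hcon b]⟩
    have : Nat.card C = 1 := Nat.card_unique
    omega
  set SS : Subring (R C) := S hexp r e he htr with hSS
  have hmemT : ∀ f : SS, f.1 ∈ T r := fun f => f.2
  letI instCR : CommRing SS :=
    { (inferInstance : Ring SS) with
      mul_comm := fun a b => Subtype.ext (commute_T r (hmemT a) (hmemT b)) }
  -- evaluation at `e`
  let ev : SS → Additive C := fun f => f.1 (Additive.ofMul e)
  have hev_inj : Function.Injective ev := by
    intro f g h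
    apply Subtype.ext
    exact eq_of_apply_e r e he htr f.1 g.1 (commute_of_mem_T r (hmemT f))
      (commute_of_mem_T r (hmemT g)) h
  have hev_surj : Function.Surjective ev := by
    intro x
    by_cases hx : Additive.toMul x = 1
    · refine ⟨0, ?_⟩
      have : x = 0 := hx
      rw [this]; rfl
    · obtain ⟨k, hk⟩ := htr e (Additive.toMul x) he hx
      refine ⟨⟨rr r ^ k, Or.inr ⟨k, rfl⟩⟩, ?_⟩
      show (rr r ^ k) (Additive.ofMul e) = x
      rw [rr_pow_apply]
      show Additive.ofMul ((r ^ k) e) = x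
      rw [hk]; rfl
  have hev_add : ∀ f g : SS, ev (f + g) = ev f + ev g := fun f g => rfl
  haveI : Finite SS := Finite.of_injective ev hev_inj
  letI : Fintype SS := Fintype.ofFinite SS
  have hcardS : Fintype.card SS = 2 ^ n := by
    rw [← Nat.card_eq_fintype_card, Nat.card_congr (Equiv.ofBijective ev ⟨hev_inj, hev_surj⟩),
      ← hcard]
    exact Nat.card_congr Additive.toMul
  haveI : Nontrivial SS := by
    refine ⟨⟨0, 1, ?_⟩⟩
    intro h
    have h1 : ev 0 = ev 1 := by rw [h]
    have h2 : ev 1 = Additive.ofMul e := rfl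
    have h3 : ev 0 = 0 := rfl
    rw [h2, h3] at h1
    exact he h1.symm
  haveI : NoZeroDivisors SS := by
    refine ⟨?_⟩
    intro a b hab
    rcases hmemT a with ha | ⟨k, ha⟩
    · left; exact Subtype.ext ha
    · rcases hmemT b with hb | ⟨l, hb⟩
      · right; exact Subtype.ext hb
      · exfalso
        have h1 : a.1 * b.1 = 0 := congrArg Subtype.val hab
        rw [ha, hb, ← pow_add] at h1
        exact pow_ne_zero' r e he _ h1
  haveI : IsDomain SS := NoZeroDivisors.to_isDomain SS
  letI instF : Field SS := Fintype.fieldOfDomain SS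
  -- the target field in universe 0
  haveI : Fact (Nat.Prime 2) := ⟨Nat.prime_two⟩
  letI : Fintype (GaloisField 2 n) := Fintype.ofFinite _
  have hcardK : Fintype.card (GaloisField 2 n) = 2 ^ n := by
    rw [← Nat.card_eq_fintype_card]
    exact GaloisField.card 2 n (by omega)
  let e₀ : SS ≃+* GaloisField 2 n :=
    FiniteField.ringEquivOfCardEq (K := SS) (K' := GaloisField 2 n) (by rw [hcardS, hcardK])
  let ρS : SS := ⟨rr r, Or.inr ⟨1, (pow_one _).symm⟩⟩
  refine ⟨GaloisField 2 n, inferInstance, inferInstance, inferInstance, e₀ ρS,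
    fun a => Additive.toMul (ev (e₀.symm a)), hcardK, ?_, ?_, ?_, ?_⟩
  · intro x hx
    have hx' : e₀.symm x ≠ 0 := by
      intro h
      apply hx
      have := congrArg e₀ h
      rwa [e₀.apply_symm_apply, map_zero] at this
    rcases hmemT (e₀.symm x) with h0 | ⟨k, hk⟩
    · exact absurd (Subtype.ext h0) hx'
    · refine ⟨k, ?_⟩
      have h1 : e₀.symm x = ρS ^ k := Subtype.ext (by rw [hk]; rfl)
      have := congrArg e₀ h1
      rwa [e₀.apply_symm_apply, map_pow] at this
  · refine Function.Bijective.comp (Additive.toMul.bijective)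
      (Function.Bijective.comp ⟨hev_inj, hev_surj⟩ e₀.symm.bijective)
  · intro a b
    show Additive.toMul (ev (e₀.symm (a + b))) = _
    rw [map_add, hev_add]
    rfl
  · intro a
    show r (Additive.toMul (ev (e₀.symm a))) = Additive.toMul (ev (e₀.symm (e₀ ρS * a)))
    rw [map_mul, e₀.symm_apply_apply]
    rfl

/-- second form: `r` acts as multiplication by `μ ^ 2`, `μ` a generator. -/
theorem exists_field_of_transitive (n : ℕ) (hn : 1 ≤ n) (hcard : Nat.card C = 2 ^ n)
    (hexp : ∀ x : C, x * x = 1) (r : MulAut C)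
    (htr : ∀ x y : C, x ≠ 1 → y ≠ 1 → ∃ k : ℕ, (r ^ k) x = y) :
    ∃ (F : Type) (_ : Field F) (_ : Fintype F) (_ : CharP F 2) (μ : F) (ι : F → C),
      Fintype.card F = 2 ^ n ∧ (∀ x : F, x ≠ 0 → ∃ k : ℕ, x = μ ^ k) ∧ Function.Bijective ι ∧
      (∀ a b, ι (a + b) = ι a * ι b) ∧ (∀ a, r (ι a) = ι (μ ^ 2 * a)) := by
  obtain ⟨F, iF, iFt, iC, μ, ι, h1, h2, h3, h4, h5⟩ :=
    exists_field_of_transitive' n hn hcard hexp r htr
  have hinj : Function.Injective (fun x : F => x ^ 2) := by
    intro x y hxy
    have h : (x - y) ^ 2 = 0 := by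
      have e1 : (x - y) ^ 2 = x ^ 2 - y ^ 2 := by
        have h2 : (2 : F) = 0 := CharTwo.two_eq_zero
        have : (x - y) ^ 2 = x ^ 2 - y ^ 2 - 2 * (x * y) + 2 * y ^ 2 := by ring
        rw [this, h2]; ring
      rw [e1]
      exact sub_eq_zero.mpr hxy
    exact sub_eq_zero.mp ((pow_eq_zero_iff (two_ne_zero)).mp h)
  have hsurj : Function.Surjective (fun x : F => x ^ 2) := Finite.injective_iff_surjective.mp hinj
  obtain ⟨ν, hν⟩ := hsurj μ
  refine ⟨F, iF, iFt, iC, ν, ι, h1, ?_, h3, h4, ?_⟩
  · intro x hx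
    obtain ⟨k, hk⟩ := h2 x hx
    refine ⟨2 * k, ?_⟩
    rw [hk, pow_mul]
    exact congrArg (· ^ k) hν.symm
  · intro a
    rw [h5 a]
    exact congrArg (fun t => ι (t * a)) hν.symm

end main

end Cfsg.Agent.Lib.Helper9.TGSField
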