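import Mathlib
import Cfsg.Prelude.Def_Transfer
import Cfsg.Agent.Lib.Helper3.TGSDefs
import Cfsg.Agent.Lib.Helper9.TGSField

set_option autoImplicit false

/-! Farm TGS (S3161), unit U1: the field from `ρ`. -/

namespace Cfsg.Agent.Lib.Helper9.TGSU1

open Cfsg.Agent.Lib.Helper3.TGSDefs

theorem U1_field {Q : Type*} [Group Q] [Finite Q] (n : ℕ) (hn : 2 ≤ n)
    (α ρ : MulAut Q) (hα : orderOf α = 2) (hρ : orderOf ρ = 2 ^ n - 1) (hc : Commute α ρ)
    (C : Subgroup Q) (hC : ∀ x : Q, x ∈ C ↔ α x = x)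
    (hCE : Cfsg.IsElementaryAbelian 2 C ∧ Nat.card ↥C = 2 ^ n)
    (htr : ∀ x y : Q, x ∈ C → y ∈ C → x ≠ 1 → y ≠ 1 → ∃ k : ℕ, (ρ ^ k) x = y) :
    ∃ (F : Type) (_ : Field F) (_ : Fintype F) (_ : CharP F 2) (mu : F) (ι : F → Q),
      Fintype.card F = 2 ^ n ∧ (∀ x : F, x ≠ 0 → ∃ k : ℕ, x = mu ^ k) ∧ Hyp mu α ρ ι := by
  classical
  have hcomm : ∀ x, α (ρ x) = ρ (α x) := by
    intro x
    have := congrArg (fun (f : MulAut Q) => f x) hc.eq
    simpa [MulAut.mul_apply] using this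
  have hcomm' : ∀ x, α (ρ⁻¹ x) = ρ⁻¹ (α x) := by
    intro x
    have h1 := hcomm (ρ⁻¹ x)
    rw [MulAut.apply_inv_self] at h1
    rw [h1, MulAut.inv_apply_self]
  have hρC : ∀ x, x ∈ C → ρ x ∈ C := by
    intro x hx
    rw [hC] at hx ⊢
    rw [hcomm, hx]
  have hρC' : ∀ x, x ∈ C → ρ⁻¹ x ∈ C := by
    intro x hx
    rw [hC] at hx ⊢
    rw [hcomm', hx]
  letI instCG : CommGroup ↥C :=
    { (inferInstance : Group ↥C) with
      mul_comm := fun a b => hCE.1.1.is_comm.comm a b }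
  let r : MulAut ↥C :=
    { toFun := fun x => ⟨ρ x.1, hρC x.1 x.2⟩
      invFun := fun x => ⟨ρ⁻¹ x.1, hρC' x.1 x.2⟩
      left_inv := fun x => Subtype.ext (MulAut.inv_apply_self _ _ _)
      right_inv := fun x => Subtype.ext (MulAut.apply_inv_self _ _ _)
      map_mul' := fun x y => Subtype.ext (map_mul ρ x.1 y.1) }
  have hr_apply : ∀ x : ↥C, ((r x : ↥C) : Q) = ρ x.1 := fun x => rfl
  have hr_pow : ∀ (k : ℕ) (x : ↥C), (((r ^ k) x : ↥C) : Q) = (ρ ^ k) x.1 := by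
    intro k
    induction k with
    | zero => intro x; simp
    | succ k ih =>
      intro x
      rw [pow_succ, pow_succ, MulAut.mul_apply, MulAut.mul_apply, ih, hr_apply]
  have hexp : ∀ x : ↥C, x * x = 1 := by
    intro x
    apply Subtype.ext
    have := hCE.1.2 x.1 x.2
    rw [pow_two] at this
    exact this
  have htr' : ∀ x y : ↥C, x ≠ 1 → y ≠ 1 → ∃ k : ℕ, (r ^ k) x = y := by
    intro x y hx hy
    have hx' : x.1 ≠ 1 := fun h => hx (Subtype.ext h)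
    have hy' : y.1 ≠ 1 := fun h => hy (Subtype.ext h)
    obtain ⟨k, hk⟩ := htr x.1 y.1 x.2 y.2 hx' hy'
    exact ⟨k, Subtype.ext (by rw [hr_pow, hk])⟩
  obtain ⟨F, iF, iFt, iC, mu, ι₀, h1, h2, h3, h4, h5⟩ :=
    Cfsg.Agent.Lib.Helper9.TGSField.exists_field_of_transitive (C := ↥C) n (by omega) hCE.2 hexp r
      htr'
  refine ⟨F, iF, iFt, iC, mu, fun a => (ι₀ a : Q), h1, h2, ?_⟩
  refine
    { alpha_sq := ?_
      comm := hcomm
      rho_pow := ?_
      iota_add := ?_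
      iota_inj := ?_
      iota_fix := ?_
      iota_rho := ?_ }
  · intro x
    have h := pow_orderOf_eq_one α
    rw [hα] at h
    have := congrArg (fun (f : MulAut Q) => f x) h
    simpa [pow_two, MulAut.mul_apply] using this
  · intro x
    have h := pow_orderOf_eq_one ρ
    rw [hρ] at h
    rw [h1, h]
    rfl
  · intro a b
    show ((ι₀ (a + b) : ↥C) : Q) = _
    rw [h4]
    rfl
  · intro a b hab
    exact h3.1 (Subtype.ext hab)
  · intro x
    constructor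
    · intro hx
      have hxC : x ∈ C := (hC x).mpr hx
      obtain ⟨a, ha⟩ := h3.2 ⟨x, hxC⟩
      exact ⟨a, by show ((ι₀ a : ↥C) : Q) = x; rw [ha]⟩
    · rintro ⟨a, rfl⟩
      exact (hC _).mp (ι₀ a).2
  · intro a
    show ρ ((ι₀ a : ↥C) : Q) = ((ι₀ (mu ^ 2 * a) : ↥C) : Q)
    rw [← h5 a]
    rfl



end Cfsg.Agent.Lib.Helper9.TGSU1
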