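import Mathlib
import Cfsg.Agent.Lib.Helper3.TGSDefs

set_option autoImplicit false

/-! Farm TGS (S3161), unit U3a: `Fix α` is central; plus the fixed-point lemma for an involutory
automorphism of a 2-group. -/

namespace Cfsg.Agent.Lib.Helper9.TGSU3a

open Cfsg.Agent.Lib.Helper3.TGSDefs

/-- an involutory automorphism of a finite 2-group fixes a non-identity element of every
non-trivial invariant subgroup. -/
theorem exists_fixed_ne_one_of_subgroup {G : Type*} [Group G] [Finite G] (h2 : IsPGroup 2 G)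
    (σ : MulAut G) (hσ : ∀ x, σ (σ x) = x) (H : Subgroup G) (hH : ∀ x ∈ H, σ x ∈ H)
    (hne : H ≠ ⊥) : ∃ x ∈ H, σ x = x ∧ x ≠ 1 := by
  classical
  letI : Fintype ↥H := Fintype.ofFinite _
  haveI : Fact (Nat.Prime 2) := ⟨Nat.prime_two⟩
  let τ : Equiv.Perm ↥H :=
    { toFun := fun z => ⟨σ z.1, hH z.1 z.2⟩
      invFun := fun z => ⟨σ z.1, hH z.1 z.2⟩
      left_inv := fun z => Subtype.ext (hσ z.1)
      right_inv := fun z => Subtype.ext (hσ z.1) }
  have hτ : τ ^ 2 ^ 1 = 1 := by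
    ext z
    show ((τ ^ 2 ^ 1) z : G) = z
    rw [pow_one, pow_two, Equiv.Perm.mul_apply]
    exact hσ z.1
  have hHp : IsPGroup 2 ↥H := h2.to_subgroup H
  have hdvd : 2 ∣ Fintype.card ↥H := by
    rw [← Nat.card_eq_fintype_card]
    rcases hHp.card_eq_or_dvd with h1 | h1
    · exfalso
      apply hne
      exact (Subgroup.card_eq_one).mp h1
    · exact h1
  have h1 : τ (1 : ↥H) = 1 := Subtype.ext (map_one σ)
  obtain ⟨b, hb1, hb2⟩ := Equiv.Perm.exists_fixed_point_of_prime' hdvd hτ h1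
  refine ⟨b.1, b.2, congrArg Subtype.val hb1, ?_⟩
  intro h
  exact hb2 (Subtype.ext h)

/-- the version for the whole group -/
theorem exists_fixed_ne_one {G : Type*} [Group G] [Finite G] (h2 : IsPGroup 2 G)
    (σ : MulAut G) (hσ : ∀ x, σ (σ x) = x) (hne : ∃ g : G, g ≠ 1) : ∃ x : G, σ x = x ∧ x ≠ 1 := by
  obtain ⟨x, -, hx⟩ := exists_fixed_ne_one_of_subgroup h2 σ hσ ⊤ (fun _ _ => Subgroup.mem_top _)
    (by
      intro h
      obtain ⟨g, hg⟩ := hne
      have : g ∈ (⊥ : Subgroup G) := h ▸ Subgroup.mem_top g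
      exact hg (Subgroup.mem_bot.mp this))
  exact ⟨x, hx⟩

section

variable {F : Type} [Field F] [Fintype F] [CharP F 2] {mu : F}

omit [Fintype F] [CharP F 2] in
theorem iota_zero {G : Type*} [Group G] {ι : F → G} (hadd : ∀ a b, ι (a + b) = ι a * ι b) :
    ι 0 = 1 := by
  have h := hadd 0 0
  rw [add_zero] at h
  exact mul_left_cancel (a := ι 0) (by rw [mul_one]; exact h.symm)

omit [Fintype F] [CharP F 2] in
theorem rho_pow_iota {G : Type*} [Group G] {ρ : MulAut G} {ι : F → G}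
    (hρ : ∀ a, ρ (ι a) = ι (mu ^ 2 * a)) (k : ℕ) (a : F) :
    (ρ ^ k) (ι a) = ι ((mu ^ 2) ^ k * a) := by
  induction k generalizing a with
  | zero => simp
  | succ k ih =>
    rw [pow_succ, MulAut.mul_apply, hρ, ih, pow_succ]
    congr 1
    ring

/-- U3a: `Fix α` is central. -/
theorem U3a_central (hmu : ∀ x : F, x ≠ 0 → ∃ k : ℕ, x = mu ^ k)
    {G : Type*} [Group G] [Finite G] (h2 : IsPGroup 2 G)
    {α ρ : MulAut G} {ι : F → G} (h : Hyp mu α ρ ι) : ∀ a g, ι a * g = g * ι a := by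
  have hι0 : ι 0 = 1 := iota_zero h.iota_add
  have hι1 : ι 1 ≠ 1 := by
    intro h1
    rw [← hι0] at h1
    exact one_ne_zero (h.iota_inj h1)
  haveI : Nontrivial G := ⟨⟨ι 1, 1, hι1⟩⟩
  have hZ : Subgroup.center G ≠ ⊥ := by
    have := IsPGroup.center_nontrivial h2
    intro hbot
    obtain ⟨x, y, hxy⟩ := this
    apply hxy
    have hx : x.1 ∈ (⊥ : Subgroup G) := hbot ▸ x.2
    have hy : y.1 ∈ (⊥ : Subgroup G) := hbot ▸ y.2
    exact Subtype.ext ((Subgroup.mem_bot.mp hx).trans (Subgroup.mem_bot.mp hy).symm)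
  have hinv : ∀ x ∈ Subgroup.center G, α x ∈ Subgroup.center G := by
    intro x hx
    rw [Subgroup.mem_center_iff] at hx ⊢
    intro g
    have h1 := hx (α⁻¹ g)
    have h2 := congrArg α h1
    rw [map_mul, map_mul, MulAut.apply_inv_self] at h2
    exact h2
  obtain ⟨z, hzZ, hzfix, hz1⟩ :=
    exists_fixed_ne_one_of_subgroup h2 α h.alpha_sq (Subgroup.center G) hinv hZ
  obtain ⟨a₀, ha₀⟩ := (h.iota_fix z).mp hzfix
  have ha₀ne : a₀ ≠ 0 := by
    rintro rfl
    exact hz1 (ha₀.symm.trans hι0)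
  have hgen := gen_sq hmu
  intro a g
  by_cases ha : a = 0
  · rw [ha, hι0, one_mul, mul_one]
  · have hq : a / a₀ ≠ 0 := div_ne_zero ha ha₀ne
    obtain ⟨k, hk⟩ := hgen _ hq
    have hak : a = (mu ^ 2) ^ k * a₀ := by
      rw [← hk]; field_simp
    have hιa : ι a = (ρ ^ k) z := by
      rw [← ha₀, rho_pow_iota h.iota_rho, ← hak]
    rw [hιa]
    rw [Subgroup.mem_center_iff] at hzZ
    have h1 := hzZ ((ρ ^ k)⁻¹ g)
    have h2 := congrArg (ρ ^ k) h1
    rw [map_mul, map_mul, MulAut.apply_inv_self] at h2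
    exact h2.symm

end

end Cfsg.Agent.Lib.Helper9.TGSU3a
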