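import Mathlib
import Cfsg.Agent.Lib.Helper3.TGSDefs
import Cfsg.Agent.Lib.Helper1.TGSU2b

set_option autoImplicit false

/-! Farm TGS (S3161), unit U7a: in (S7), `Z₃ = {z | β₂ (p z) = 0}` is abelian. -/

namespace Cfsg.Agent.Lib.Helper9.TGSU7a

open Cfsg.Agent.Lib.Helper3.TGSDefs

section

variable {F : Type} [Field F] [Fintype F] [CharP F 2] {mu : F}

omit [Fintype F] [CharP F 2] in
theorem iota_zero' {G : Type*} [Group G] {ι : F → G} (hadd : ∀ a b, ι (a + b) = ι a * ι b) :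
    ι 0 = 1 := by
  have h := hadd 0 0
  rw [add_zero] at h
  exact mul_left_cancel (a := ι 0) (by rw [mul_one]; exact h.symm)

omit [Fintype F] in
/-- in a group with `Ext3 (sig τ)`, elements with `β₂ = 0` commute. -/
theorem ext3_comm {B : Type*} [Group B] {ι' : F → B} {β₁ β₂ : B → F} {τ : F}
    (hE : Ext3 (sig τ) ι' β₁ β₂) (b b' : B) (h2 : β₂ b = 0) (h2' : β₂ b' = 0) :
    b * b' = b' * b := by
  -- k = b' b b'⁻¹ b⁻¹ is in the kernel
  have hk1 : β₁ (b' * b * b'⁻¹ * b⁻¹) = 0 := by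
    have e1 : β₁ (b'⁻¹) = - β₁ b' := by
      have := hE.b1_mul b' b'⁻¹
      rw [mul_inv_cancel] at this
      have h1 : β₁ (1 : B) = 0 := by
        have := hE.b1_mul 1 1
        rw [mul_one] at this
        exact left_eq_add.mp this
      rw [h1] at this
      exact (neg_eq_of_add_eq_zero_right this.symm).symm
    have e2 : β₁ (b⁻¹) = - β₁ b := by
      have := hE.b1_mul b b⁻¹
      rw [mul_inv_cancel] at this
      have h1 : β₁ (1 : B) = 0 := by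
        have := hE.b1_mul 1 1
        rw [mul_one] at this
        exact left_eq_add.mp this
      rw [h1] at this
      exact (neg_eq_of_add_eq_zero_right this.symm).symm
    rw [hE.b1_mul, hE.b1_mul, hE.b1_mul, e1, e2]; ring
  have hk2 : β₂ (b' * b * b'⁻¹ * b⁻¹) = 0 := by
    have e1 : β₂ (b'⁻¹) = - β₂ b' := by
      have := hE.b2_mul b' b'⁻¹
      rw [mul_inv_cancel] at this
      have h1 : β₂ (1 : B) = 0 := by
        have := hE.b2_mul 1 1
        rw [mul_one] at this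
        exact left_eq_add.mp this
      rw [h1] at this
      exact (neg_eq_of_add_eq_zero_right this.symm).symm
    have e2 : β₂ (b⁻¹) = - β₂ b := by
      have := hE.b2_mul b b⁻¹
      rw [mul_inv_cancel] at this
      have h1 : β₂ (1 : B) = 0 := by
        have := hE.b2_mul 1 1
        rw [mul_one] at this
        exact left_eq_add.mp this
      rw [h1] at this
      exact (neg_eq_of_add_eq_zero_right this.symm).symm
    rw [hE.b2_mul, hE.b2_mul, hE.b2_mul, e1, e2]; ring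
  obtain ⟨c, hc⟩ := (hE.ker _).mp ⟨hk1, hk2⟩
  -- b' b = ι' c * (b b')
  have hbb : b' * b = ι' c * (b * b') := by
    rw [hc]; group
  -- (b b')² = ι' c * b² * b'²
  have hsq : (b * b') ^ 2 = ι' c * b ^ 2 * b' ^ 2 := by
    have : (b * b') ^ 2 = b * (b' * b) * b' := by rw [pow_two]; group
    rw [this, hbb]
    have hcen := hE.central c b
    calc b * (ι' c * (b * b')) * b' = (b * ι' c) * b * b' * b' := by group
      _ = (ι' c * b) * b * b' * b' := by rw [hcen]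
      _ = ι' c * b ^ 2 * b' ^ 2 := by rw [pow_two, pow_two]; group
  rw [hE.sq, hE.sq, hE.sq, ← hE.iota_add, ← hE.iota_add, hE.b1_mul, hE.b2_mul, h2, h2'] at hsq
  have hc0 := hE.iota_inj hsq
  have hc0' : c = 0 := by
    unfold sig at hc0
    have h2F : (2 : F) = 0 := CharTwo.two_eq_zero
    have : c = (β₁ b + β₁ b') ^ 2 + (β₁ b + β₁ b') * (0 + 0) + τ * (0 + 0) ^ 2
        - (β₁ b ^ 2 + β₁ b * 0 + τ * 0 ^ 2) - (β₁ b' ^ 2 + β₁ b' * 0 + τ * 0 ^ 2) := by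
      rw [hc0]; ring
    rw [this]
    have : (β₁ b + β₁ b') ^ 2 = β₁ b ^ 2 + β₁ b' ^ 2 + 2 * (β₁ b * β₁ b') := by ring
    rw [this, h2F]; ring
  rw [hc0', iota_zero' hE.iota_add, one_mul] at hbb
  exact hbb.symm

/-- U7a: in (S7), `Z₃ = {z | β₂ (p z) = 0}` is abelian. -/
theorem U7a_Z3_abelian (hmu : ∀ x : F, x ≠ 0 → ∃ k : ℕ, x = mu ^ k)
    {G : Type*} {B : Type*} [Group G] [Group B]
    {α ρ : MulAut G} {ι : F → G} (h : Hyp mu α ρ ι) (hcen : ∀ a g, ι a * g = g * ι a)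
    {α' ρ' : MulAut B} {p : G →* B} (hq : Quo α ρ α' ρ' p)
    {ι' : F → B} (h' : Hyp mu α' ρ' ι')
    {β₁ β₂ : B → F} {τ : F} (hE : Ext3 (sig τ) ι' β₁ β₂)
    (hρ1 : ∀ g, β₁ (ρ' g) = mu * β₁ g) (hρ2 : ∀ g, β₂ (ρ' g) = mu * β₂ g) :
    ∀ z z' : G, β₂ (p z) = 0 → β₂ (p z') = 0 → z * z' = z' * z := by
  classical
  have hι0 : ι 0 = 1 := iota_zero' h.iota_add
  have hιι : ∀ c, ι c * ι c = 1 := by
    intro c
    rw [← h.iota_add, CharTwo.add_self_eq_zero, hι0]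
  have hb1_one : β₁ (1 : B) = 0 := by
    have := hE.b1_mul 1 1
    rw [mul_one] at this
    exact left_eq_add.mp this
  have hb2_one : β₂ (1 : B) = 0 := by
    have := hE.b2_mul 1 1
    rw [mul_one] at this
    exact left_eq_add.mp this
  have hb1_inv : ∀ b, β₁ b⁻¹ = - β₁ b := by
    intro b
    have := hE.b1_mul b b⁻¹
    rw [mul_inv_cancel, hb1_one] at this
    exact (neg_eq_of_add_eq_zero_right this.symm).symm
  have hb2_inv : ∀ b, β₂ b⁻¹ = - β₂ b := by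
    intro b
    have := hE.b2_mul b b⁻¹
    rw [mul_inv_cancel, hb2_one] at this
    exact (neg_eq_of_add_eq_zero_right this.symm).symm
  have hZ3mul : ∀ z w : G, β₂ (p z) = 0 → β₂ (p w) = 0 → β₂ (p (z * w)) = 0 := by
    intro z w hz hw
    rw [map_mul, hE.b2_mul, hz, hw, add_zero]
  have hZ3inv : ∀ z : G, β₂ (p z) = 0 → β₂ (p z⁻¹) = 0 := by
    intro z hz
    rw [map_inv, hb2_inv, hz, neg_zero]
  have hpι : ∀ e, p (ι e) = 1 := by
    intro e
    exact (hq.ker _).mpr ((h.iota_fix _).mpr ⟨e, rfl⟩)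
  have hZ3ι : ∀ e, β₂ (p (ι e)) = 0 := by
    intro e
    rw [hpι, hb2_one]
  -- commutators of `Z₃` lie in `range ι`
  have hcomm : ∀ z z' : G, β₂ (p z) = 0 → β₂ (p z') = 0 →
      ∃ c, ι c = z * z' * z⁻¹ * z'⁻¹ := by
    intro z z' hz hz'
    have hp : p (z * z' * z⁻¹ * z'⁻¹) = 1 := by
      rw [map_mul, map_mul, map_mul, map_inv, map_inv, ext3_comm hE (p z) (p z') hz hz']
      group
    exact (h.iota_fix _).mp ((hq.ker _).mp hp)
  choose! γ hγ using hcomm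
  have hswap : ∀ z z' : G, β₂ (p z) = 0 → β₂ (p z') = 0 → z * z' = ι (γ z z') * (z' * z) := by
    intro z z' hz hz'
    rw [hγ z z' hz hz']
    group
  have hγl : ∀ z w z' : G, β₂ (p z) = 0 → β₂ (p w) = 0 → β₂ (p z') = 0 →
      γ (z * w) z' = γ z z' + γ w z' := by
    intro z w z' hz hw hz'
    apply h.iota_inj
    rw [h.iota_add, hγ _ _ (hZ3mul z w hz hw) hz', hγ z z' hz hz']
    calc z * w * z' * (z * w)⁻¹ * z'⁻¹
        = z * (w * z' * w⁻¹ * z'⁻¹) * z' * z⁻¹ * z'⁻¹ := by group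
      _ = z * ι (γ w z') * z' * z⁻¹ * z'⁻¹ := by rw [hγ w z' hw hz']
      _ = (ι (γ w z') * z) * z' * z⁻¹ * z'⁻¹ := by rw [hcen (γ w z') z]
      _ = ι (γ w z') * (z * z' * z⁻¹ * z'⁻¹) := by group
      _ = z * z' * z⁻¹ * z'⁻¹ * ι (γ w z') := hcen _ _
  have hγr : ∀ z z' w' : G, β₂ (p z) = 0 → β₂ (p z') = 0 → β₂ (p w') = 0 →
      γ z (z' * w') = γ z z' + γ z w' := by
    intro z z' w' hz hz' hw'
    apply h.iota_inj
    rw [h.iota_add, hγ _ _ hz (hZ3mul z' w' hz' hw'), hγ z z' hz hz']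
    calc z * (z' * w') * z⁻¹ * (z' * w')⁻¹
        = z * z' * z⁻¹ * (z * w' * z⁻¹ * w'⁻¹) * z'⁻¹ := by group
      _ = z * z' * z⁻¹ * ι (γ z w') * z'⁻¹ := by rw [hγ z w' hz hw']
      _ = z * z' * z⁻¹ * (ι (γ z w') * z'⁻¹) := by group
      _ = z * z' * z⁻¹ * (z'⁻¹ * ι (γ z w')) := by rw [hcen (γ z w') z'⁻¹]
      _ = z * z' * z⁻¹ * z'⁻¹ * ι (γ z w') := by group
  have hγalt : ∀ z : G, β₂ (p z) = 0 → γ z z = 0 := by
    intro z hz
    apply h.iota_inj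
    rw [hγ z z hz hz, hι0]
    group
  have hγsymm : ∀ z z' : G, β₂ (p z) = 0 → β₂ (p z') = 0 → γ z z' = γ z' z := by
    intro z z' hz hz'
    apply h.iota_inj
    have h1 : ι (γ z z') * ι (γ z' z) = 1 := by
      rw [hγ z z' hz hz', hγ z' z hz' hz]
      group
    have h2 := hιι (γ z' z)
    exact mul_right_cancel (h1.trans h2.symm)
  -- `ι e` pairs trivially
  have hγι : ∀ (e : F) (z' : G), β₂ (p z') = 0 → γ (ι e) z' = 0 := by
    intro e z' hz'
    apply h.iota_inj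
    rw [hγ _ _ (hZ3ι e) hz', hι0, hcen e z']
    group
  -- `Z₂` pairs trivially with `Z₃`
  have hZ2 : ∀ y z' : G, β₁ (p y) = 0 → β₂ (p y) = 0 → β₂ (p z') = 0 → γ y z' = 0 := by
    intro y z' hy1 hy2 hz'
    obtain ⟨t, ht⟩ := (hE.ker (p y)).mp ⟨hy1, hy2⟩
    obtain ⟨s, hs⟩ := exists_sq t
    obtain ⟨b, hb1, hb2⟩ := hE.surj s 0
    obtain ⟨z, hz⟩ := hq.surj b
    have hzZ : β₂ (p z) = 0 := by rw [hz, hb2]
    have hpz2 : p (z ^ 2) = p y := by
      rw [map_pow, hz, hE.sq, hb1, hb2, ← ht]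
      congr 1
      unfold sig
      rw [hs]; ring
    have hker : p (y * (z ^ 2)⁻¹) = 1 := by
      rw [map_mul, map_inv, hpz2, mul_inv_cancel]
    obtain ⟨e, he⟩ := (h.iota_fix _).mp ((hq.ker _).mp hker)
    have hy : y = ι e * (z * z) := by
      rw [he, pow_two]; group
    rw [hy, hγl _ _ _ (hZ3ι e) (hZ3mul z z hzZ hzZ) hz', hγι e z' hz',
      hγl z z z' hzZ hzZ hz', CharTwo.add_self_eq_zero, add_zero]
  -- dependence on the `β₁`-values only
  have ha_mul : ∀ z w : G, β₁ (p (z * w)) = β₁ (p z) + β₁ (p w) := by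
    intro z w
    rw [map_mul, hE.b1_mul]
  have hdep1 : ∀ z w z' : G, β₂ (p z) = 0 → β₂ (p w) = 0 → β₂ (p z') = 0 →
      β₁ (p z) = β₁ (p w) → γ z z' = γ w z' := by
    intro z w z' hz hw hz' hzw
    have hyZ : β₂ (p (z⁻¹ * w)) = 0 := hZ3mul _ _ (hZ3inv z hz) hw
    have hy1 : β₁ (p (z⁻¹ * w)) = 0 := by
      rw [ha_mul, map_inv, hb1_inv, hzw]; ring
    have hw' : w = z * (z⁻¹ * w) := by group
    rw [hw', hγl z _ z' hz hyZ hz', hZ2 _ z' hy1 hyZ hz', add_zero]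
  have hdep : ∀ z w z' w' : G, β₂ (p z) = 0 → β₂ (p w) = 0 → β₂ (p z') = 0 → β₂ (p w') = 0 →
      β₁ (p z) = β₁ (p w) → β₁ (p z') = β₁ (p w') → γ z z' = γ w w' := by
    intro z w z' w' hz hw hz' hw' h1 h2
    rw [hdep1 z w z' hz hw hz' h1, hγsymm w z' hw hz', hdep1 z' w' w hz' hw' hw h2,
      hγsymm w' w hw' hw]
  -- lifts
  have hlift : ∀ x : F, ∃ z : G, β₂ (p z) = 0 ∧ β₁ (p z) = x := by
    intro x
    obtain ⟨b, hb1, hb2⟩ := hE.surj x 0
    obtain ⟨z, hz⟩ := hq.surj b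
    exact ⟨z, by rw [hz, hb2], by rw [hz, hb1]⟩
  choose L hLZ hLa using hlift
  have hρZ : ∀ z : G, β₂ (p z) = 0 → β₂ (p (ρ z)) = 0 := by
    intro z hz
    rw [← hq.rho, hρ2, hz, mul_zero]
  have hρa : ∀ z : G, β₁ (p (ρ z)) = mu * β₁ (p z) := by
    intro z
    rw [← hq.rho, hρ1]
  have hγρ : ∀ z z' : G, β₂ (p z) = 0 → β₂ (p z') = 0 → γ (ρ z) (ρ z') = mu ^ 2 * γ z z' := by
    intro z z' hz hz'
    apply h.iota_inj
    rw [hγ _ _ (hρZ z hz) (hρZ z' hz'), ← h.iota_rho, hγ z z' hz hz']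
    simp only [map_mul, map_inv]
  have hΓ0 := Cfsg.Agent.Lib.Helper1.TGSU2b.alternating_sq_equivariant_zero mu hmu
    (fun x y => γ (L x) (L y))
    (by
      intro x x2 y
      show γ (L (x + x2)) (L y) = γ (L x) (L y) + γ (L x2) (L y)
      rw [← hγl _ _ _ (hLZ x) (hLZ x2) (hLZ y)]
      apply hdep1 _ _ _ (hLZ _) (hZ3mul _ _ (hLZ x) (hLZ x2)) (hLZ y)
      rw [ha_mul, hLa, hLa, hLa])
    (by
      intro x y y2
      show γ (L x) (L (y + y2)) = γ (L x) (L y) + γ (L x) (L y2)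
      rw [← hγr _ _ _ (hLZ x) (hLZ y) (hLZ y2)]
      apply hdep _ _ _ _ (hLZ _) (hLZ _) (hLZ _) (hZ3mul _ _ (hLZ y) (hLZ y2)) rfl
      rw [ha_mul, hLa, hLa, hLa])
    (by
      intro x y
      show γ (L (mu * x)) (L (mu * y)) = mu ^ 2 * γ (L x) (L y)
      rw [← hγρ _ _ (hLZ x) (hLZ y)]
      apply hdep _ _ _ _ (hLZ _) (hρZ _ (hLZ x)) (hLZ _) (hρZ _ (hLZ y))
      · rw [hρa, hLa, hLa]
      · rw [hρa, hLa, hLa])
    (by
      intro x
      exact hγalt _ (hLZ x))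
  intro z z' hz hz'
  have h0 : γ z z' = 0 := by
    rw [hdep z (L (β₁ (p z))) z' (L (β₁ (p z'))) hz (hLZ _) hz' (hLZ _) (hLa _).symm
      (hLa _).symm]
    exact hΓ0 _ _
  have := hswap z z' hz hz'
  rw [h0, hι0, one_mul] at this
  exact this

end

end Cfsg.Agent.Lib.Helper9.TGSU7a
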