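import Mathlib
import Cfsg.Prelude.Def_OddOrderLocal
import Cfsg.Agent.Lib.Helper2.TICAb
import Cfsg.Agent.Lib.Lead.NilpotentCoprime

/-!
# S4064 Part B: components of a TI-centralizer group

`Comp M`: `M` is a nilpotent Hall TI-subgroup containing the centralizers of its nonidentity
elements.  For `S` a nontrivial Sylow subgroup and `1 ≠ z ∈ Z(S)`, `C(z)` is such a component.
-/

set_option autoImplicit false
set_option linter.unusedSectionVars false
set_option linter.style.haveILetI false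

namespace Cfsg.Agent.Lib.Helper9.TIC

open Cfsg.Agent.Lib.Helper2.TIC
open scoped Pointwise

variable {G : Type*} [Group G]

/-- A component: nilpotent Hall TI-subgroup containing the centralizers of its nonidentity
elements. -/
structure Comp (M : Subgroup G) : Prop where
  ne_bot : M ≠ ⊥
  nilpotent : Group.IsNilpotent M
  hall : Nat.Coprime (Nat.card M) M.index
  ti : Cfsg.IsTISubset (M : Set G)
  cent : ∀ y ∈ M, y ≠ 1 → Subgroup.centralizer ({y} : Set G) ≤ M

theorem commute_of_pows {a c : G} {i j : ℕ} (hij : Nat.Coprime i j)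
    (hi : Commute c (a ^ i)) (hj : Commute c (a ^ j)) : Commute c a := by
  have hg : (1 : ℤ) = i * Nat.gcdA i j + j * Nat.gcdB i j := by
    have := Nat.gcd_eq_gcd_ab i j
    rw [show Nat.gcd i j = 1 from hij] at this
    exact_mod_cast this
  have key : a = (a ^ i) ^ (Nat.gcdA i j) * (a ^ j) ^ (Nat.gcdB i j) := by
    calc a = a ^ (1 : ℤ) := (zpow_one a).symm
      _ = a ^ ((i : ℤ) * Nat.gcdA i j + j * Nat.gcdB i j) := by rw [← hg]
      _ = (a ^ i) ^ (Nat.gcdA i j) * (a ^ j) ^ (Nat.gcdB i j) := by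
        rw [zpow_add, zpow_mul, zpow_mul, zpow_natCast, zpow_natCast]
  rw [key]
  exact (hi.zpow_right _).mul_right (hj.zpow_right _)

theorem mem_cent {x y : G} : y ∈ Subgroup.centralizer ({x} : Set G) ↔ y * x = x * y :=
  Subgroup.mem_centralizer_singleton_iff

theorem mem_cent_comm {x y : G} :
    y ∈ Subgroup.centralizer ({x} : Set G) ↔ x ∈ Subgroup.centralizer ({y} : Set G) := by
  rw [mem_cent, mem_cent]; exact eq_comm

theorem self_mem_cent (x : G) : x ∈ Subgroup.centralizer ({x} : Set G) := mem_cent.2 rfl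

/-- `p`-part / `p'`-part decomposition of an element by powers. -/
theorem exists_pows [Finite G] (p : ℕ) [hp : Fact p.Prime] (c : G) :
    ∃ i j : ℕ, Nat.Coprime i j ∧ (∃ k, orderOf (c ^ i) = p ^ k) ∧ (orderOf (c ^ j)).Coprime p := by
  have hn : orderOf c ≠ 0 := (orderOf_pos c).ne'
  obtain ⟨k, m, hm, hkm⟩ := Nat.exists_eq_pow_mul_and_not_dvd hn p hp.out.ne_one
  have hm0 : m ≠ 0 := by
    rintro rfl; rw [mul_zero] at hkm; exact hn hkm
  have hpk0 : p ^ k ≠ 0 := pow_ne_zero _ hp.out.ne_zero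
  have hcop : Nat.Coprime m (p ^ k) :=
    Nat.Coprime.pow_right _ ((Nat.Prime.coprime_iff_not_dvd hp.out).2 hm).symm
  refine ⟨m, p ^ k, hcop, ⟨k, ?_⟩, ?_⟩
  · rw [orderOf_pow_of_dvd hm0 ⟨p ^ k, by rw [hkm, mul_comm]⟩, hkm,
      Nat.mul_div_cancel _ (Nat.pos_of_ne_zero hm0)]
  · rw [orderOf_pow_of_dvd hpk0 ⟨m, hkm⟩, hkm, Nat.mul_div_cancel_left _ (Nat.pos_of_ne_zero hpk0)]
    exact ((Nat.Prime.coprime_iff_not_dvd hp.out).2 hm).symm

/-- Two `p`-elements of a nilpotent subgroup lie in a common Sylow `p`-subgroup of `G`. -/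
theorem exists_sylow_of_nilpotent [Finite G] {H : Subgroup G} (hH : Group.IsNilpotent H)
    {p : ℕ} [Fact p.Prime] {a b : G} (ha : a ∈ H) (hb : b ∈ H)
    (hpa : ∃ k, orderOf a = p ^ k) (hpb : ∃ k, orderOf b = p ^ k) :
    ∃ P : Sylow p G, a ∈ P ∧ b ∈ P := by
  haveI := hH
  have hnorm : ∀ Q : Sylow p H, (Q : Subgroup H).Normal := by
    have := (Group.isNilpotent_of_finite_tfae (G := H)).out 0 3
    exact fun Q => (this.1 hH) p inferInstance Q
  obtain ⟨Q0⟩ : Nonempty (Sylow p H) := inferInstance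
  haveI : Subsingleton (Sylow p H) := (Sylow.unique_of_normal Q0 (hnorm Q0)).instSubsingleton
  have key : ∀ c : G, ∀ hc : c ∈ H, (∃ k, orderOf c = p ^ k) → (⟨c, hc⟩ : H) ∈ Q0 := by
    intro c hc ⟨k, hk⟩
    have hpg : IsPGroup p (Subgroup.zpowers (⟨c, hc⟩ : H)) := by
      rw [IsPGroup.iff_card]
      exact ⟨k, by rw [Nat.card_zpowers, Subgroup.orderOf_mk, hk]⟩
    obtain ⟨Q, hQ⟩ := hpg.exists_le_sylow
    rw [Subsingleton.elim Q0 Q]
    exact hQ (Subgroup.mem_zpowers _)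
  have hpg : IsPGroup p ((Q0 : Subgroup H).map H.subtype) := Q0.2.map _
  obtain ⟨P, hP⟩ := hpg.exists_le_sylow
  exact ⟨P, hP ⟨⟨a, ha⟩, key a ha hpa, rfl⟩, hP ⟨⟨b, hb⟩, key b hb hpb, rfl⟩⟩

section TI

variable [Finite G]
  (hTI : ∀ x : G, Cfsg.IsTISubset (Subgroup.centralizer ({x} : Set G) : Set G))

include hTI

/-- elements of coprime orders in `C(x)`, `x ≠ 1`, commute -/
theorem commute_of_coprime {x a b : G} (hx : x ≠ 1)
    (ha : a ∈ Subgroup.centralizer ({x} : Set G)) (hb : b ∈ Subgroup.centralizer ({x} : Set G))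
    (hab : (orderOf a).Coprime (orderOf b)) : a * b = b * a :=
  Cfsg.Agent.Lib.Lead.NilpotentCoprime.commute_of_coprime_of_mem _
    (nilpotent_centralizer hTI hx) ha hb hab

variable {p : ℕ} [hp : Fact p.Prime] (S : Sylow p G) {z : G} (hzS : z ∈ S) (hz1 : z ≠ 1)
  (hzc : ∀ s ∈ S, s * z = z * s)

include hzS hz1 hzc

/-- (T1) every Sylow `p`-subgroup containing `z` lies in `C(z)`. -/
theorem sylow_le_cent (P : Sylow p G) (hzP : z ∈ P) :
    (P : Subgroup G) ≤ Subgroup.centralizer ({z} : Set G) := by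
  obtain ⟨g, hg⟩ := MulAction.exists_smul_eq G S P
  have hmem : ∀ x : G, x ∈ P ↔ g⁻¹ * x * g ∈ S := by
    intro x
    have h1 : (P : Subgroup G) = MulAut.conj g • (S : Subgroup G) := by
      rw [← hg]; rfl
    show x ∈ (P : Subgroup G) ↔ _
    rw [h1, Subgroup.mem_pointwise_smul_iff_inv_smul_mem, MulAut.smul_def, ← map_inv,
      MulAut.conj_apply, inv_inv]
    rfl
  -- `g z g⁻¹ ∈ Z(P)`
  have h2 : g * z * g⁻¹ ∈ Subgroup.centralizer ({z} : Set G) := by
    rw [mem_cent]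
    have h3 := hzc _ ((hmem z).1 hzP)
    -- (g⁻¹ z g) z = z (g⁻¹ z g)
    have : g * (g⁻¹ * z * g * z) * g⁻¹ = g * (z * (g⁻¹ * z * g)) * g⁻¹ := by rw [h3]
    calc g * z * g⁻¹ * z = g * (z * (g⁻¹ * z * g)) * g⁻¹ := by group
      _ = g * (g⁻¹ * z * g * z) * g⁻¹ := this.symm
      _ = z * (g * z * g⁻¹) := by group
  have hn := mem_normalizer_of_ti hTI (self_mem_cent z) hz1 h2
  intro x hx
  have hx' := (hmem x).1 hx
  have h4 : g⁻¹ * x * g ∈ Subgroup.centralizer ({z} : Set G) := mem_cent.2 (hzc _ hx')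
  have h5 := ((Subgroup.mem_normalizer_iff.1 hn) (g⁻¹ * x * g)).1 h4
  have : g * (g⁻¹ * x * g) * g⁻¹ = x := by group
  rwa [this] at h5

/-- (cent) `C(y) ≤ C(z)` for `1 ≠ y ∈ C(z)`. -/
theorem cent_le_cent {y : G} (hy : y ∈ Subgroup.centralizer ({z} : Set G)) (hy1 : y ≠ 1) :
    Subgroup.centralizer ({y} : Set G) ≤ Subgroup.centralizer ({z} : Set G) := by
  intro c hc
  have hzy : z ∈ Subgroup.centralizer ({y} : Set G) := mem_cent_comm.1 hy
  obtain ⟨i, j, hij, ⟨k, hk⟩, hj⟩ := exists_pows p c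
  have hzo : ∃ l, orderOf z = p ^ l := by
    obtain ⟨l, hl⟩ := (IsPGroup.iff_orderOf.1 S.2) ⟨z, hzS⟩
    exact ⟨l, by rw [← hl, Subgroup.orderOf_mk]⟩
  have hci : c ^ i ∈ Subgroup.centralizer ({y} : Set G) := Subgroup.pow_mem _ hc _
  have hcj : c ^ j ∈ Subgroup.centralizer ({y} : Set G) := Subgroup.pow_mem _ hc _
  -- p'-part
  have e1 : Commute z (c ^ j) := by
    obtain ⟨l, hl⟩ := hzo
    apply commute_of_coprime hTI hy1 hzy hcj
    rw [hl]
    exact (Nat.Coprime.pow_left _ hj.symm)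
  -- p-part
  have e2 : Commute z (c ^ i) := by
    obtain ⟨P, hP1, hP2⟩ := exists_sylow_of_nilpotent (nilpotent_centralizer hTI hy1) hci hzy
      ⟨k, hk⟩ hzo
    have := sylow_le_cent hTI S hzS hz1 hzc P hP2 hP1
    exact (mem_cent.1 this).symm
  exact mem_cent.2 (commute_of_pows hij e2 e1).symm

/-- (Hall) a Sylow subgroup of `G` meeting `C(z)` nontrivially lies in `C(z)`. -/
theorem sylow_le_of_mem {q : ℕ} [Fact q.Prime] (T : Sylow q G) {y : G} (hyT : y ∈ T)
    (hy : y ∈ Subgroup.centralizer ({z} : Set G)) (hy1 : y ≠ 1) :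
    (T : Subgroup G) ≤ Subgroup.centralizer ({z} : Set G) := by
  haveI : Nontrivial (T : Subgroup G) :=
    ⟨⟨⟨y, hyT⟩, 1, fun h => hy1 (congrArg Subtype.val h)⟩⟩
  haveI := T.2.center_nontrivial
  obtain ⟨⟨t, ht⟩, ht1⟩ := exists_ne (1 : Subgroup.center (T : Subgroup G))
  have ht1' : (t : G) ≠ 1 := by
    intro h
    apply ht1
    apply Subtype.ext
    apply Subtype.ext
    exact h
  have htc : ∀ s : G, s ∈ T → s * (t : G) = (t : G) * s := by
    intro s hs
    have := Subgroup.mem_center_iff.1 ht ⟨s, hs⟩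
    exact congrArg Subtype.val this
  have h1 : (t : G) ∈ Subgroup.centralizer ({z} : Set G) :=
    cent_le_cent hTI S hzS hz1 hzc hy hy1 (mem_cent_comm.1 (mem_cent.2 (htc y hyT)))
  intro s hs
  exact cent_le_cent hTI S hzS hz1 hzc h1 ht1' (mem_cent.2 (htc s hs))

/-- `C(z)` is a component. -/
theorem comp_of_sylow : Comp (Subgroup.centralizer ({z} : Set G)) where
  ne_bot := by
    intro h
    have := self_mem_cent z
    rw [h, Subgroup.mem_bot] at this
    exact hz1 this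
  nilpotent := nilpotent_centralizer hTI hz1
  hall := by
    apply Nat.coprime_of_dvd
    intro q hq hqM hqi
    haveI : Fact q.Prime := ⟨hq⟩
    obtain ⟨⟨y, hyM⟩, hy⟩ := exists_prime_orderOf_dvd_card' q hqM
    have hyo : orderOf y = q := by rw [← hy, Subgroup.orderOf_mk]
    have hy1 : y ≠ 1 := by
      rintro rfl
      rw [orderOf_one] at hyo
      exact hq.ne_one hyo.symm
    have hpg : IsPGroup q (Subgroup.zpowers y) := by
      rw [IsPGroup.iff_card]
      exact ⟨1, by rw [Nat.card_zpowers, hyo, pow_one]⟩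
    obtain ⟨T, hT⟩ := hpg.exists_le_sylow
    have hTM := sylow_le_of_mem hTI S hzS hz1 hzc T (hT (Subgroup.mem_zpowers y)) hyM hy1
    exact T.not_dvd_index (hqi.trans (Subgroup.index_dvd_of_le hTM))
  ti := hTI z
  cent := fun y hy hy1 => cent_le_cent hTI S hzS hz1 hzc hy hy1

end TI

end Cfsg.Agent.Lib.Helper9.TIC
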