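import Mathlib
import Cfsg.Agent.Lib.Helper9.TICB1

/-!
# S4064 Part B: API for components (`Comp M`)
-/

set_option autoImplicit false
set_option linter.unusedSectionVars false
set_option linter.style.haveILetI false

namespace Cfsg.Agent.Lib.Helper9.TIC

open Cfsg.Agent.Lib.Helper2.TIC
open scoped Pointwise

variable {G : Type*} [Group G]

theorem mem_conj_smul {g x : G} {M : Subgroup G} :
    x ∈ MulAut.conj g • M ↔ g⁻¹ * x * g ∈ M := by
  rw [Subgroup.mem_pointwise_smul_iff_inv_smul_mem, MulAut.smul_def, ← map_inv,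
    MulAut.conj_apply, inv_inv]

theorem conj_mem_conj_smul {g x : G} {M : Subgroup G} :
    g * x * g⁻¹ ∈ MulAut.conj g • M ↔ x ∈ M := by
  rw [mem_conj_smul]
  have : g⁻¹ * (g * x * g⁻¹) * g = x := by group
  rw [this]

theorem mem_normalizer_iff_smul {g : G} {M : Subgroup G} [Finite G] :
    g ∈ Subgroup.normalizer (M : Set G) ↔ MulAut.conj g • M = M := by
  constructor
  · intro hg
    ext x
    rw [mem_conj_smul]
    have := (Subgroup.mem_normalizer_iff.1 (Subgroup.inv_mem _ hg)) x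
    rw [inv_inv] at this
    exact this.symm
  · intro h
    rw [Subgroup.mem_normalizer_iff]
    intro x
    rw [← h, conj_mem_conj_smul, h]

namespace Comp

variable {M M' : Subgroup G}

/-- Frobenius property: an element commuting with a nonidentity element of `M` lies in `M`. -/
theorem frob (hM : Comp M) {n m : G} (hm : m ∈ M) (hm1 : m ≠ 1) (hnm : n * m = m * n) :
    n ∈ M :=
  hM.cent m hm hm1 (mem_cent.2 hnm)

/-- usable form of TI -/
theorem mem_normalizer (hM : Comp M) {g x : G} (hx : x ∈ M) (hx1 : x ≠ 1)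
    (hgx : g * x * g⁻¹ ∈ M) : g ∈ Subgroup.normalizer (M : Set G) := by
  by_contra h
  exact hx1 (hM.ti g h x hx hgx)

theorem exists_center (hM : Comp M) : ∃ u, u ∈ M ∧ u ≠ 1 ∧ ∀ m ∈ M, m * u = u * m := by
  haveI := hM.nilpotent
  haveI : Nontrivial M := (Subgroup.nontrivial_iff_ne_bot M).2 hM.ne_bot
  have h := Group.IsNilpotent.center_ne_bot (G := M)
  obtain ⟨⟨⟨u, huM⟩, hu⟩, hu1⟩ := (Subgroup.ne_bot_iff_exists_ne_one).1 h
  refine ⟨u, huM, ?_, ?_⟩
  · intro h1
    apply hu1
    apply Subtype.ext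
    apply Subtype.ext
    exact h1
  · intro m hm
    have := Subgroup.mem_center_iff.1 hu ⟨m, hm⟩
    exact congrArg Subtype.val this

theorem cent_eq (hM : Comp M) {u : G} (hu : u ∈ M) (hu1 : u ≠ 1)
    (huc : ∀ m ∈ M, m * u = u * m) : Subgroup.centralizer ({u} : Set G) = M :=
  le_antisymm (hM.cent u hu hu1) (fun m hm => mem_cent.2 (huc m hm))

theorem exists_cent_eq (hM : Comp M) : ∃ u, u ∈ M ∧ u ≠ 1 ∧ Subgroup.centralizer ({u} : Set G) = M := by
  obtain ⟨u, hu, hu1, huc⟩ := hM.exists_center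
  exact ⟨u, hu, hu1, hM.cent_eq hu hu1 huc⟩

/-- two components sharing a nonidentity element are equal -/
theorem le_of_mem (hM : Comp M) (hM' : Comp M') {y : G} (hy : y ∈ M) (hy' : y ∈ M')
    (hy1 : y ≠ 1) : M ≤ M' := by
  obtain ⟨u, hu, hu1, huc⟩ := hM.exists_center
  have h1 : u ∈ M' := hM'.cent y hy' hy1 (mem_cent_comm.1 (mem_cent.2 (huc y hy)))
  intro m hm
  exact hM'.cent u h1 hu1 (mem_cent.2 (huc m hm))

theorem eq_of_mem (hM : Comp M) (hM' : Comp M') {y : G} (hy : y ∈ M) (hy' : y ∈ M')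
    (hy1 : y ≠ 1) : M = M' :=
  le_antisymm (hM.le_of_mem hM' hy hy' hy1) (hM'.le_of_mem hM hy' hy hy1)

theorem conj (hM : Comp M) (g : G) : Comp (MulAut.conj g • M) where
  ne_bot := by
    intro h
    apply hM.ne_bot
    rw [eq_bot_iff]
    intro x hx
    have : g * x * g⁻¹ ∈ MulAut.conj g • M := conj_mem_conj_smul.2 hx
    rw [h, Subgroup.mem_bot] at this
    rw [Subgroup.mem_bot]
    have e : x = g⁻¹ * (g * x * g⁻¹) * g := by group
    rw [e, this]; group
  nilpotent := by
    haveI := hM.nilpotent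
    exact (Group.isNilpotent_congr (Subgroup.equivSMul (MulAut.conj g) M)).1 hM.nilpotent
  hall := by
    have h1 : Nat.card (MulAut.conj g • M : Subgroup G) = Nat.card M :=
      (Nat.card_congr (Subgroup.equivSMul (MulAut.conj g) M).toEquiv).symm
    have h2 : (MulAut.conj g • M).index = M.index := by
      have : MulAut.conj g • M = M.map ((MulAut.conj g : G ≃* G) : G →* G) := rfl
      rw [this, Subgroup.index_map_equiv]
    rw [h1, h2]
    exact hM.hall
  ti := by
    intro k hk x hx hkx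
    rw [SetLike.mem_coe, mem_conj_smul] at hx hkx
    by_contra hx1
    have hx1' : g⁻¹ * x * g ≠ 1 := by
      intro h
      apply hx1
      have e : x = g * (g⁻¹ * x * g) * g⁻¹ := by group
      rw [e, h]; group
    have e : g⁻¹ * (k * x * k⁻¹) * g = (g⁻¹ * k * g) * (g⁻¹ * x * g) * (g⁻¹ * k * g)⁻¹ := by group
    rw [e] at hkx
    have hn := hM.mem_normalizer hx hx1' hkx
    apply hk
    rw [Subgroup.mem_normalizer_iff] at hn ⊢
    intro y
    rw [mem_conj_smul, mem_conj_smul]
    have := hn (g⁻¹ * y * g)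
    rw [this]
    have e2 : g⁻¹ * k * g * (g⁻¹ * y * g) * (g⁻¹ * k * g)⁻¹ = g⁻¹ * (k * y * k⁻¹) * g := by group
    rw [e2]
  cent := by
    intro y hy hy1 c hc
    rw [mem_conj_smul] at hy ⊢
    have hy1' : g⁻¹ * y * g ≠ 1 := by
      intro h
      apply hy1
      have e : y = g * (g⁻¹ * y * g) * g⁻¹ := by group
      rw [e, h]; group
    apply hM.cent _ hy hy1'
    rw [mem_cent] at hc ⊢
    calc g⁻¹ * c * g * (g⁻¹ * y * g) = g⁻¹ * (c * y) * g := by group
      _ = g⁻¹ * (y * c) * g := by rw [hc]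
      _ = g⁻¹ * y * g * (g⁻¹ * c * g) := by group

/-- (Hall) a Sylow subgroup of `G` meeting `M` nontrivially lies in `M`. -/
theorem sylow_le [Finite G] (hM : Comp M) {q : ℕ} [Fact q.Prime] (T : Sylow q G) {y : G}
    (hyT : y ∈ T) (hy : y ∈ M) (hy1 : y ≠ 1) : (T : Subgroup G) ≤ M := by
  haveI : Nontrivial (T : Subgroup G) :=
    ⟨⟨⟨y, hyT⟩, 1, fun h => hy1 (congrArg Subtype.val h)⟩⟩
  haveI := T.2.center_nontrivial
  obtain ⟨⟨t, ht⟩, ht1⟩ := exists_ne (1 : Subgroup.center (T : Subgroup G))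
  have ht1' : (t : G) ≠ 1 := by
    intro h
    apply ht1
    apply Subtype.ext
    apply Subtype.ext
    exact h
  have htc : ∀ s : G, s ∈ T → s * (t : G) = (t : G) * s := by
    intro s hs
    have := Subgroup.mem_center_iff.1 ht ⟨s, hs⟩
    exact congrArg Subtype.val this
  have h1 : (t : G) ∈ M := hM.cent y hy hy1 (mem_cent_comm.1 (mem_cent.2 (htc y hyT)))
  intro s hs
  exact hM.cent _ h1 ht1' (mem_cent.2 (htc s hs))

theorem exists_sylow_le [Finite G] (hM : Comp M) {q : ℕ} [Fact q.Prime] (hq : q ∣ Nat.card M) :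
    ∃ T : Sylow q G, (T : Subgroup G) ≤ M := by
  obtain ⟨⟨y, hyM⟩, hy⟩ := exists_prime_orderOf_dvd_card' q hq
  have hyo : orderOf y = q := by rw [← hy, Subgroup.orderOf_mk]
  have hy1 : y ≠ 1 := by
    rintro rfl
    rw [orderOf_one] at hyo
    exact (Fact.out : q.Prime).ne_one hyo.symm
  have hpg : IsPGroup q (Subgroup.zpowers y) := by
    rw [IsPGroup.iff_card]
    exact ⟨1, by rw [Nat.card_zpowers, hyo, pow_one]⟩
  obtain ⟨T, hT⟩ := hpg.exists_le_sylow
  exact ⟨T, hM.sylow_le T (hT (Subgroup.mem_zpowers y)) hyM hy1⟩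

/-- components whose orders are not coprime are conjugate -/
theorem conj_of_not_coprime [Finite G] (hM : Comp M) (hM' : Comp M')
    (h : ¬ Nat.Coprime (Nat.card M) (Nat.card M')) : ∃ g : G, M' = MulAut.conj g • M := by
  obtain ⟨q, hq, hq1, hq2⟩ := Nat.Prime.not_coprime_iff_dvd.1 h
  haveI : Fact q.Prime := ⟨hq⟩
  obtain ⟨T, hT⟩ := hM.exists_sylow_le hq1
  obtain ⟨T', hT'⟩ := hM'.exists_sylow_le hq2
  obtain ⟨g, hg⟩ := MulAction.exists_smul_eq G T T'
  refine ⟨g, ?_⟩
  -- a nonidentity element of T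
  have hTne : (T : Subgroup G) ≠ ⊥ := by
    intro hb
    have h1 : Nat.card (T : Subgroup G) = 1 := by rw [hb]; exact Subgroup.card_bot
    have h2 := T.not_dvd_index
    have h3 : (T : Subgroup G).index = Nat.card G := by
      rw [← Subgroup.card_mul_index (T : Subgroup G), h1, one_mul]
    rw [h3] at h2
    exact h2 (hq1.trans (Subgroup.card_subgroup_dvd_card M))
  obtain ⟨⟨y, hy⟩, hy1⟩ := Subgroup.ne_bot_iff_exists_ne_one.1 hTne
  have hy1' : y ≠ 1 := fun h => hy1 (Subtype.ext h)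
  have hgy : g * y * g⁻¹ ∈ T' := by
    rw [← hg]
    show g * y * g⁻¹ ∈ MulAut.conj g • (T : Subgroup G)
    exact conj_mem_conj_smul.2 hy
  have hgy1 : g * y * g⁻¹ ≠ 1 := by
    intro h
    apply hy1'
    have e : y = g⁻¹ * (g * y * g⁻¹) * g := by group
    rw [e, h]; group
  exact (hM'.eq_of_mem (hM.conj g) (hT' hgy) (conj_mem_conj_smul.2 (hT hy)) hgy1)

/-- an element of `N(M)` of order prime to `|G : M|` lies in `M` -/
theorem mem_of_coprime_index [Finite G] (_hM : Comp M) {x : G}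
    (hx : x ∈ Subgroup.normalizer (M : Set G)) (hco : (orderOf x).Coprime M.index) : x ∈ M := by
  haveI : (M.subgroupOf (Subgroup.normalizer (M : Set G))).Normal := Subgroup.normal_in_normalizer
  set N := Subgroup.normalizer (M : Set G) with hN
  let x' : N := ⟨x, hx⟩
  have h1 : orderOf (QuotientGroup.mk' (M.subgroupOf N) x') ∣ orderOf x := by
    have := orderOf_map_dvd (QuotientGroup.mk' (M.subgroupOf N)) x'
    rwa [Subgroup.orderOf_mk] at this
  have h2 : orderOf (QuotientGroup.mk' (M.subgroupOf N) x') ∣ M.index := by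
    have := orderOf_dvd_natCard (QuotientGroup.mk' (M.subgroupOf N) x')
    rw [← Subgroup.index_eq_card] at this
    exact this.trans (Dvd.intro _ (Subgroup.relIndex_mul_index Subgroup.le_normalizer))
  have h3 : orderOf (QuotientGroup.mk' (M.subgroupOf N) x') = 1 := by
    have := Nat.dvd_gcd h1 h2
    rw [Nat.Coprime.gcd_eq_one hco] at this
    exact Nat.dvd_one.1 this
  rw [orderOf_eq_one_iff] at h3
  have h4 : x' ∈ M.subgroupOf N := (QuotientGroup.eq_one_iff x').1 h3
  exact Subgroup.mem_subgroupOf.1 h4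

end Comp

section TI

variable [Finite G]
  (hTI : ∀ x : G, Cfsg.IsTISubset (Subgroup.centralizer ({x} : Set G) : Set G))

include hTI

/-- every nontrivial Sylow subgroup lies in a component `C(z)`, `z ∈ Z(S)` of order `p`. -/
theorem exists_comp_sylow {p : ℕ} [hp : Fact p.Prime] (S : Sylow p G) (hS : (S : Subgroup G) ≠ ⊥) :
    ∃ z : G, z ∈ S ∧ orderOf z = p ∧ (∀ s ∈ S, s * z = z * s) ∧
      Comp (Subgroup.centralizer ({z} : Set G)) ∧
      (S : Subgroup G) ≤ Subgroup.centralizer ({z} : Set G) := by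
  haveI : Nontrivial (S : Subgroup G) := (Subgroup.nontrivial_iff_ne_bot _).2 hS
  haveI := S.2.center_nontrivial
  have hpz : IsPGroup p (Subgroup.center (S : Subgroup G)) := S.2.to_subgroup _
  have hdvd : p ∣ Nat.card (Subgroup.center (S : Subgroup G)) := by
    rcases hpz.card_eq_or_dvd with h | h
    · exfalso
      have := Finite.one_lt_card (α := Subgroup.center (S : Subgroup G))
      omega
    · exact h
  obtain ⟨⟨⟨z, hzS⟩, hzc⟩, hzo⟩ := exists_prime_orderOf_dvd_card' p hdvd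
  have hzo' : orderOf z = p := by
    rw [← hzo, Subgroup.orderOf_mk, Subgroup.orderOf_mk]
  have hz1 : z ≠ 1 := by
    rintro rfl
    rw [orderOf_one] at hzo'
    exact hp.out.ne_one hzo'.symm
  have hzc' : ∀ s ∈ S, s * z = z * s := by
    intro s hs
    have := Subgroup.mem_center_iff.1 hzc ⟨s, hs⟩
    exact congrArg Subtype.val this
  exact ⟨z, hzS, hzo', hzc', comp_of_sylow hTI S hzS hz1 hzc', fun s hs => mem_cent.2 (hzc' s hs)⟩

/-- every nonidentity element lies in a component -/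
theorem exists_comp {g : G} (hg : g ≠ 1) : ∃ M : Subgroup G, Comp M ∧ g ∈ M := by
  have hog : orderOf g ≠ 1 := fun h => hg (orderOf_eq_one_iff.1 h)
  obtain ⟨p, hp, hpg⟩ := Nat.exists_prime_and_dvd hog
  haveI : Fact p.Prime := ⟨hp⟩
  set w := g ^ (orderOf g / p) with hw
  have hwo : orderOf w = p := orderOf_pow_orderOf_div (orderOf_pos g).ne' hpg
  have hw1 : w ≠ 1 := by
    intro h
    rw [h, orderOf_one] at hwo
    exact hp.ne_one hwo.symm
  have hpgp : IsPGroup p (Subgroup.zpowers w) := by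
    rw [IsPGroup.iff_card]
    exact ⟨1, by rw [Nat.card_zpowers, hwo, pow_one]⟩
  obtain ⟨S, hS⟩ := hpgp.exists_le_sylow
  have hwS : w ∈ S := hS (Subgroup.mem_zpowers w)
  have hSne : (S : Subgroup G) ≠ ⊥ := by
    intro h
    have hwS' : w ∈ (S : Subgroup G) := hwS
    rw [h, Subgroup.mem_bot] at hwS'
    exact hw1 hwS'
  obtain ⟨z, -, -, -, hC, hSz⟩ := exists_comp_sylow hTI S hSne
  refine ⟨_, hC, hC.cent w (hSz hwS) hw1 ?_⟩
  rw [mem_cent, hw]
  exact ((Commute.refl g).pow_right _).eq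

/-- for `1 ≠ y ∈ M`, `N_G(C(y)) = N_G(M)`; in particular `C(y)` is normal in `N_G(M)`. -/
theorem Comp.normalizer_cent {M : Subgroup G} (hM : Comp M) {y : G} (hy : y ∈ M) (hy1 : y ≠ 1) :
    Subgroup.normalizer (Subgroup.centralizer ({y} : Set G) : Set G) =
      Subgroup.normalizer (M : Set G) := by
  apply le_antisymm
  · intro g hg
    have h1 := ((Subgroup.mem_normalizer_iff.1 hg) y).1 (self_mem_cent y)
    exact hM.mem_normalizer hy hy1 (hM.cent y hy hy1 h1)
  · intro n hn
    obtain ⟨u, hu, hu1, huc⟩ := hM.exists_center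
    have h1 : u ∈ Subgroup.centralizer ({y} : Set G) := mem_cent.2 (huc y hy).symm
    have h2 : n * u * n⁻¹ ∈ Subgroup.centralizer ({y} : Set G) := by
      rw [mem_cent]
      have hy' : n⁻¹ * y * n ∈ M := by
        have := ((Subgroup.mem_normalizer_iff.1 (Subgroup.inv_mem _ hn)) y).1 hy
        rwa [inv_inv] at this
      have h3 := huc _ hy'
      calc n * u * n⁻¹ * y = n * (u * (n⁻¹ * y * n)) * n⁻¹ := by group
        _ = n * (n⁻¹ * y * n * u) * n⁻¹ := by rw [h3]
        _ = y * (n * u * n⁻¹) := by group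
    exact mem_normalizer_of_ti hTI h1 hu1 h2

end TI

end Cfsg.Agent.Lib.Helper9.TIC
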