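import Mathlib
import Cfsg.Prelude.Def_Involutions
import Cfsg.Agent.Lib.Helper9.TICB2

/-!
# S4064 Part B: representatives of the conjugacy classes of components; strongly embedded
-/

set_option autoImplicit false
set_option linter.unusedSectionVars false
set_option linter.style.haveILetI false

namespace Cfsg.Agent.Lib.Helper9.TIC

open Cfsg.Agent.Lib.Helper2.TIC
open scoped Pointwise

universe u

variable {G : Type u} [Group G]

/-- conjugacy of subgroups -/
def conjSetoid (G : Type u) [Group G] : Setoid (Subgroup G) where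
  r A B := ∃ g : G, MulAut.conj g • A = B
  iseqv := by
    refine ⟨fun A => ⟨1, by rw [map_one, one_smul]⟩, ?_, ?_⟩
    · rintro A B ⟨g, rfl⟩
      exact ⟨g⁻¹, by rw [map_inv, inv_smul_smul]⟩
    · rintro A B C ⟨g, rfl⟩ ⟨h, rfl⟩
      exact ⟨h * g, by rw [map_mul, mul_smul]⟩

/-- chosen representative of the conjugacy class of a subgroup -/
noncomputable def rep (A : Subgroup G) : Subgroup G :=
  (Quotient.mk (conjSetoid G) A).out

theorem rep_conj (A : Subgroup G) : ∃ g : G, MulAut.conj g • rep A = A :=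
  Quotient.exact (Quotient.out_eq (Quotient.mk (conjSetoid G) A))

theorem rep_eq_of_conj {A B : Subgroup G} (g : G) (h : MulAut.conj g • A = B) : rep A = rep B := by
  unfold rep
  rw [Quotient.sound (s := conjSetoid G) (a := A) (b := B) ⟨g, h⟩]

theorem rep_rep (A : Subgroup G) : rep (rep A) = rep A := by
  obtain ⟨g, hg⟩ := rep_conj A
  exact rep_eq_of_conj g hg

/-- the type of representatives of the conjugacy classes of components -/
def Rep (G : Type u) [Group G] : Type u := {M : Subgroup G // Comp M ∧ rep M = M}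

instance [Finite G] : Finite (Rep G) := by
  unfold Rep
  infer_instance

noncomputable instance [Finite G] : Fintype (Rep G) := Fintype.ofFinite _

noncomputable instance : DecidableEq (Rep G) := Classical.decEq _

/-- the component indexed by `i` -/
def Rep.sub (i : Rep G) : Subgroup G := i.1

theorem Rep.comp (i : Rep G) : Comp i.sub := i.2.1

theorem Rep.ext' {i j : Rep G} (h : i.sub = j.sub) : i = j := Subtype.ext h

theorem Rep.eq_of_conj {i j : Rep G} (g : G) (h : MulAut.conj g • i.sub = j.sub) : i = j := by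
  apply Rep.ext'
  have := rep_eq_of_conj g h
  have hi : rep i.sub = i.sub := i.2.2
  have hj : rep j.sub = j.sub := j.2.2
  rw [hi, hj] at this
  exact this

theorem Rep.coprime [Finite G] {i j : Rep G} (hij : i ≠ j) :
    Nat.Coprime (Nat.card i.sub) (Nat.card j.sub) := by
  by_contra h
  obtain ⟨g, hg⟩ := i.comp.conj_of_not_coprime j.comp h
  exact hij (Rep.eq_of_conj g hg.symm)

/-- helper4's `Part.uniq` / TI across the family -/
theorem Rep.uniq [Finite G] (i j : Rep G) (x g : G) (hg1 : g ≠ 1) (hgi : g ∈ i.sub)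
    (hxg : x * g * x⁻¹ ∈ j.sub) : i = j ∧ x ∈ Subgroup.normalizer (i.sub : Set G) := by
  have hx1 : x * g * x⁻¹ ≠ 1 := by
    intro h
    apply hg1
    have e : g = x⁻¹ * (x * g * x⁻¹) * x := by group
    rw [e, h]; group
  have h1 : MulAut.conj x • i.sub = j.sub :=
    (i.comp.conj x).eq_of_mem j.comp (conj_mem_conj_smul.2 hgi) hxg hx1
  have hij : i = j := Rep.eq_of_conj x h1
  refine ⟨hij, ?_⟩
  rw [mem_normalizer_iff_smul, h1, hij]

namespace Comp

variable {M : Subgroup G}

/-- `q`-elements of `N(M)` lie in `M` when `q ∣ |M|` -/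
theorem mem_of_prime_pow [Finite G] (hM : Comp M) {q : ℕ} (hq : q.Prime) (hqM : q ∣ Nat.card M)
    {x : G} (hx : x ∈ Subgroup.normalizer (M : Set G)) {k : ℕ} (hxo : orderOf x = q ^ k) :
    x ∈ M := by
  apply hM.mem_of_coprime_index hx
  rw [hxo]
  apply Nat.Coprime.pow_left
  rw [Nat.Prime.coprime_iff_not_dvd hq]
  intro h
  have := Nat.dvd_gcd hqM h
  rw [Nat.Coprime.gcd_eq_one hM.hall] at this
  exact hq.one_lt.ne' (Nat.dvd_one.1 this)

/-- the normalizer of a nontrivial subgroup of `M` lies in `N(M)` -/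
theorem normalizer_le (hM : Comp M) {S : Subgroup G} (hS : S ≤ M) (hne : S ≠ ⊥) :
    Subgroup.normalizer (S : Set G) ≤ Subgroup.normalizer (M : Set G) := by
  intro g hg
  obtain ⟨⟨s, hs⟩, hs1⟩ := Subgroup.ne_bot_iff_exists_ne_one.1 hne
  have hs1' : s ≠ 1 := fun h => hs1 (Subtype.ext h)
  exact hM.mem_normalizer (hS hs) hs1' (hS (((Subgroup.mem_normalizer_iff.1 hg) s).1 hs))

/-- `N_G(M)` is strongly embedded when `|M|` is even and `N_G(M) ≠ G`. -/
theorem stronglyEmbedded [Finite G] (hM : Comp M) (h2 : 2 ∣ Nat.card M)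
    (hN : Subgroup.normalizer (M : Set G) ≠ ⊤) :
    Cfsg.IsStronglyEmbedded (Subgroup.normalizer (M : Set G)) := by
  refine ⟨hN, ?_, ?_⟩
  · exact even_iff_two_dvd.2 (h2.trans (Subgroup.card_dvd_of_le Subgroup.le_normalizer))
  · intro g hg
    rw [← Nat.not_even_iff_odd]
    intro hev
    haveI : Fact (Nat.Prime 2) := ⟨Nat.prime_two⟩
    obtain ⟨⟨t, ht⟩, hto⟩ := exists_prime_orderOf_dvd_card' 2 (even_iff_two_dvd.1 hev)
    have hto' : orderOf t = 2 ^ 1 := by rw [← hto, Subgroup.orderOf_mk, pow_one]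
    obtain ⟨ht1, ht2⟩ := Subgroup.mem_inf.1 ht
    have htM : t ∈ M := hM.mem_of_prime_pow Nat.prime_two h2 ht1 hto'
    obtain ⟨n, hn, hnt⟩ := Subgroup.mem_map.1 ht2
    have hnt' : g * n * g⁻¹ = t := hnt
    have hno : orderOf n = 2 ^ 1 := by
      rw [← hto', ← hnt']
      exact (MulEquiv.orderOf_eq (MulAut.conj g) n).symm
    have hnM : n ∈ M := hM.mem_of_prime_pow Nat.prime_two h2 hn hno
    have hn1 : n ≠ 1 := by
      rintro rfl
      rw [orderOf_one] at hno
      norm_num at hno
    apply hg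
    apply hM.mem_normalizer hnM hn1
    rw [hnt']
    exact htM

end Comp

section TI

variable [Finite G]
  (hTI : ∀ x : G, Cfsg.IsTISubset (Subgroup.centralizer ({x} : Set G) : Set G))

include hTI

/-- the representative of a component -/
theorem exists_rep {M : Subgroup G} (hM : Comp M) : ∃ i : Rep G, ∃ x : G, MulAut.conj x • M = i.sub := by
  obtain ⟨g, hg⟩ := rep_conj M
  have h1 : MulAut.conj g⁻¹ • M = rep M := by
    rw [map_inv]
    exact inv_smul_eq_iff.2 hg.symm
  have h2 : Comp (rep M) := by rw [← h1]; exact hM.conj _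
  exact ⟨⟨rep M, h2, rep_rep M⟩, g⁻¹, h1⟩

/-- helper4's `Part.cover` / `FP.Config.cover` -/
theorem Rep.cover (g : G) (hg : g ≠ 1) : ∃ i : Rep G, ∃ x : G, x * g * x⁻¹ ∈ i.sub := by
  obtain ⟨M, hM, hgM⟩ := exists_comp hTI hg
  obtain ⟨i, x, hx⟩ := exists_rep hTI hM
  refine ⟨i, x, ?_⟩
  rw [← hx]
  exact conj_mem_conj_smul.2 hgM

end TI

end Cfsg.Agent.Lib.Helper9.TIC
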