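import Mathlib
import Cfsg.Agent.Lib.Helper6.APFDefs

set_option autoImplicit false

open Equiv Equiv.Perm
open scoped commutatorElement
open Cfsg.Agent.Lib.Helper6.APF

namespace Cfsg.Agent.Lib.Helper9.APF

/-- Derived series trick: if `x ≠ 1` is a conjugate (by `y`) of a commutator `⁅x, t x t⁻¹⁆`
with everything inside `H`, then `H` is not solvable. -/
theorem not_solvable_of_word {G : Type*} [Group G] (H : Subgroup G) (x y : G) (hx : x ∈ H) (hy : y ∈ H) (hx1 : x ≠ 1)
    (key : x = y * (x * ((y * x⁻¹ * y) * x * (y * x⁻¹ * y)⁻¹) * x⁻¹ * ((y * x⁻¹ * y) * x * (y * x⁻¹ * y)⁻¹)⁻¹) * y⁻¹) : ¬ Group.IsSolvable ↥H := by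
  set X : ↥H := ⟨x, hx⟩ with hX
  set Y : ↥H := ⟨y, hy⟩ with hY
  set T : ↥H := Y * X⁻¹ * Y with hT
  have hX1 : X ≠ 1 := by
    intro h
    apply hx1
    have := congrArg Subtype.val h
    simpa [hX] using this
  have keyH : X = Y * ⁅X, T * X * T⁻¹⁆ * Y⁻¹ := by
    apply Subtype.ext
    simp only [hX, hY, hT, commutatorElement_def, Subgroup.coe_mul, Subgroup.coe_inv]
    exact key
  refine not_isSolvable_of_mem_derivedSeries hX1 fun n => ?_
  induction n with
  | zero => exact Subgroup.mem_top X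
  | succ n ih =>
    rw [keyH, (derivedSeries_normal _ _).mem_comm_iff, inv_mul_cancel_left]
    exact Subgroup.commutator_mem_commutator ih ((derivedSeries_normal _ _).conj_mem _ ih _)

end Cfsg.Agent.Lib.Helper9.APF
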