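import Mathlib
import Cfsg.Agent.Lib.Helper6.APFDefs
import Cfsg.Agent.Lib.Helper9.APFNSW

set_option autoImplicit false

open Equiv Equiv.Perm
open Cfsg.Agent.Lib.Helper6.APF

namespace Cfsg.Agent.Lib.Helper9.APF

theorem viaEmbeddingHom_swap {α β : Type*} [DecidableEq α] [DecidableEq β] (ι : α ↪ β) (i j : α) : Equiv.Perm.viaEmbeddingHom ι (Equiv.swap i j) = Equiv.swap (ι i) (ι j) := by
  ext z
  rw [Equiv.Perm.viaEmbeddingHom_apply]
  by_cases hz : z ∈ Set.range ι
  · obtain ⟨w, rfl⟩ := hz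
    rw [Equiv.Perm.viaEmbedding_apply]
    by_cases h1 : w = i
    · subst h1; simp
    · by_cases h2 : w = j
      · subst h2; simp
      · rw [Equiv.swap_apply_of_ne_of_ne h1 h2,
          Equiv.swap_apply_of_ne_of_ne (fun h => h1 (ι.injective h)) (fun h => h2 (ι.injective h))]
  · rw [Equiv.Perm.viaEmbedding_apply_of_notMem _ _ _ hz]
    rw [Equiv.swap_apply_of_ne_of_ne]
    · rintro rfl; exact hz ⟨i, rfl⟩
    · rintro rfl; exact hz ⟨j, rfl⟩

/-- the 3-cycle `(0 1 2)` of `Fin 5`. -/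
def x5 : Perm (Fin 5) := swap 0 1 * swap 1 2

/-- the 3-cycle `(2 3 4)` of `Fin 5`. -/
def y5 : Perm (Fin 5) := swap 2 3 * swap 3 4

set_option maxRecDepth 100000 in
theorem key5 :
    x5 = y5 * (x5 * ((y5 * x5⁻¹ * y5) * x5 * (y5 * x5⁻¹ * y5)⁻¹) * x5⁻¹ * ((y5 * x5⁻¹ * y5) * x5 * (y5 * x5⁻¹ * y5)⁻¹)⁻¹) * y5⁻¹ := by
  unfold x5 y5
  decide

theorem x5_ne_one : x5 ≠ 1 := by
  unfold x5
  decide

theorem not_solvable_of_three_cycles {Ω : Type*} [DecidableEq Ω] (a b d e f : Ω) (hnd : [a, b, d, e, f].Nodup) (H : Subgroup (Perm Ω)) (hx : swap a b * swap b d ∈ H) (hy : swap d e * swap e f ∈ H) : ¬ Group.IsSolvable ↥H := by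
  have hinj : Function.Injective (![a, b, d, e, f] : Fin 5 → Ω) := by
    rw [← List.nodup_ofFn]
    simpa using hnd
  let ι : Fin 5 ↪ Ω := ⟨![a, b, d, e, f], hinj⟩
  let φ := Equiv.Perm.viaEmbeddingHom ι
  have hφinj : Function.Injective φ := Equiv.Perm.viaEmbeddingHom_injective ι
  have hφx : φ x5 = swap a b * swap b d := by
    simp only [x5, map_mul, φ, viaEmbeddingHom_swap]
    rfl
  have hφy : φ y5 = swap d e * swap e f := by
    simp only [y5, map_mul, φ, viaEmbeddingHom_swap]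
    rfl
  have hx1 : swap a b * swap b d ≠ 1 := by
    rw [← hφx]
    intro h
    exact x5_ne_one (hφinj (by rw [h, map_one]))
  refine not_solvable_of_word H (swap a b * swap b d) (swap d e * swap e f) hx hy hx1 ?_
  have k2 := congrArg φ key5
  simp only [map_mul, map_inv, hφx, hφy] at k2
  exact k2

end Cfsg.Agent.Lib.Helper9.APF
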