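import Mathlib
import Cfsg.Agent.Lib.Helper6.APFDefs
import Cfsg.Agent.Lib.Helper9.APFNS

set_option autoImplicit false

open Equiv Equiv.Perm
open Cfsg.Agent.Lib.Helper6.APF

namespace Cfsg.Agent.Lib.Helper9.APF

theorem ar_arith (m d : ℕ) (hm5 : 5 ≤ m) (hodd : Odd m)
    (hd : d = 2 ∨ d = 4 ∨ d = 6 ∨ d = 8) (h : m ∣ d) : False := by
  obtain ⟨k, hk⟩ := h
  obtain ⟨t, ht⟩ := hodd
  have hk1 : k ≤ 1 := by
    by_contra hlt
    push Not at hlt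
    have : m * 2 ≤ m * k := Nat.mul_le_mul_left m hlt
    omega
  interval_cases k <;> omega

theorem ar_pow_apply_ne {Ω : Type*} [DecidableEq Ω] [Fintype Ω] (c : Perm Ω) (hc : c.IsCycle)
    (hm5 : 5 ≤ c.support.card) (hodd : Odd c.support.card)
    (x₀ : Ω) (hx₀ : x₀ ∈ c.support) (i j : ℕ) (hij : i < j)
    (hd : j - i = 2 ∨ j - i = 4 ∨ j - i = 6 ∨ j - i = 8) : (c ^ i) x₀ ≠ (c ^ j) x₀ := by
  intro h
  have hj : j = i + (j - i) := by omega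
  have h2 : (c ^ (j - i)) x₀ = x₀ := by
    rw [hj, pow_add, Perm.mul_apply] at h
    exact ((c ^ i).injective h).symm
  have h3 : c ^ (j - i) = 1 := (hc.pow_eq_one_iff' (Equiv.Perm.mem_support.mp hx₀)).mpr h2
  have h4 : orderOf c ∣ j - i := orderOf_dvd_of_pow_eq_one h3
  rw [hc.orderOf] at h4
  exact ar_arith _ _ hm5 hodd hd h4

theorem not_solvable_of_cycle_three {Ω : Type*} [DecidableEq Ω] [Fintype Ω] (c : Perm Ω) (hc : c.IsCycle) (hm5 : 5 ≤ c.support.card) (hodd : Odd c.support.card)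
    (x₀ : Ω) (hx₀ : x₀ ∈ c.support) (H : Subgroup (Perm Ω)) (hcH : c ∈ H)
    (hxH : swap ((c ^ 1) x₀) ((c ^ 3) x₀) * swap ((c ^ 3) x₀) ((c ^ 5) x₀) ∈ H) : ¬ Group.IsSolvable ↥H := by
  have hne : ∀ i j : ℕ, i < j → (j - i = 2 ∨ j - i = 4 ∨ j - i = 6 ∨ j - i = 8) →
      (c ^ i) x₀ ≠ (c ^ j) x₀ := ar_pow_apply_ne c hc hm5 hodd x₀ hx₀
  have hconj : c ^ 4 * (swap ((c ^ 1) x₀) ((c ^ 3) x₀) * swap ((c ^ 3) x₀) ((c ^ 5) x₀)) * (c ^ 4)⁻¹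
      = swap ((c ^ 5) x₀) ((c ^ 7) x₀) * swap ((c ^ 7) x₀) ((c ^ 9) x₀) := by
    have e1 : (c ^ 4) ((c ^ 1) x₀) = (c ^ 5) x₀ := by rw [← Perm.mul_apply, ← pow_add]
    have e3 : (c ^ 4) ((c ^ 3) x₀) = (c ^ 7) x₀ := by rw [← Perm.mul_apply, ← pow_add]
    have e5 : (c ^ 4) ((c ^ 5) x₀) = (c ^ 9) x₀ := by rw [← Perm.mul_apply, ← pow_add]
    have s1 : swap ((c ^ 5) x₀) ((c ^ 7) x₀)
        = c ^ 4 * swap ((c ^ 1) x₀) ((c ^ 3) x₀) * (c ^ 4)⁻¹ := by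
      rw [← Equiv.swap_apply_apply, e1, e3]
    have s2 : swap ((c ^ 7) x₀) ((c ^ 9) x₀)
        = c ^ 4 * swap ((c ^ 3) x₀) ((c ^ 5) x₀) * (c ^ 4)⁻¹ := by
      rw [← Equiv.swap_apply_apply, e3, e5]
    rw [s1, s2]
    group
  have hyH : swap ((c ^ 5) x₀) ((c ^ 7) x₀) * swap ((c ^ 7) x₀) ((c ^ 9) x₀) ∈ H := by
    rw [← hconj]
    exact H.mul_mem (H.mul_mem (H.pow_mem hcH 4) hxH) (H.inv_mem (H.pow_mem hcH 4))
  refine not_solvable_of_three_cycles ((c ^ 1) x₀) ((c ^ 3) x₀) ((c ^ 5) x₀) ((c ^ 7) x₀)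
    ((c ^ 9) x₀) ?_ H hxH hyH
  have n13 := hne 1 3 (by norm_num) (by norm_num)
  have n15 := hne 1 5 (by norm_num) (by norm_num)
  have n17 := hne 1 7 (by norm_num) (by norm_num)
  have n19 := hne 1 9 (by norm_num) (by norm_num)
  have n35 := hne 3 5 (by norm_num) (by norm_num)
  have n37 := hne 3 7 (by norm_num) (by norm_num)
  have n39 := hne 3 9 (by norm_num) (by norm_num)
  have n57 := hne 5 7 (by norm_num) (by norm_num)
  have n59 := hne 5 9 (by norm_num) (by norm_num)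
  have n79 := hne 7 9 (by norm_num) (by norm_num)
  simp only [List.nodup_cons, List.mem_cons, List.not_mem_nil, List.nodup_nil, not_or, or_false,
    not_false_eq_true, and_true]
  exact ⟨⟨n13, n15, n17, n19⟩, ⟨n35, n37, n39⟩, ⟨n57, n59⟩, n79⟩

end Cfsg.Agent.Lib.Helper9.APF
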