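import Mathlib
import Cfsg.Prelude.Def_Transfer

set_option autoImplicit false

namespace Cfsg.Agent.Lib.Helper9

open Cfsg
open scoped IsMulCommutative

variable {E : Type*} [Group E]

/-- the homomorphism `x ↦ f(x) x⁻¹` into the centre, for an endomorphism `f` that is the identity
modulo the centre -/
def centralDefect (f : E →* E) (hf : ∀ x : E, f x * x⁻¹ ∈ Subgroup.center E) :
    E →* Subgroup.center E where
  toFun x := ⟨f x * x⁻¹, hf x⟩
  map_one' := by
    apply Subtype.ext
    simp
  map_mul' := by
    intro x y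
    apply Subtype.ext
    show f (x * y) * (x * y)⁻¹ = f x * x⁻¹ * (f y * y⁻¹)
    have hc : (f y * y⁻¹) * x⁻¹ = x⁻¹ * (f y * y⁻¹) :=
      (Subgroup.mem_center_iff.mp (hf y) x⁻¹).symm
    calc f (x * y) * (x * y)⁻¹ = f x * ((f y * y⁻¹) * x⁻¹) := by rw [map_mul]; group
      _ = f x * (x⁻¹ * (f y * y⁻¹)) := by rw [hc]
      _ = f x * x⁻¹ * (f y * y⁻¹) := by group

theorem centralDefect_apply (f : E →* E) (hf : ∀ x : E, f x * x⁻¹ ∈ Subgroup.center E) (x : E) :
    ((centralDefect f hf x : Subgroup.center E) : E) = f x * x⁻¹ := rfl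

theorem conj_defect_mem (h : commutator E = Subgroup.center E) (g x : E) :
    (MulAut.conj g).toMonoidHom x * x⁻¹ ∈ Subgroup.center E := by
  rw [← h]
  exact Subgroup.commutator_mem_commutator (Subgroup.mem_top g) (Subgroup.mem_top x)

/-- `g ↦ (x ↦ [g, x])` as a homomorphism -/
def commDefectHom (h : commutator E = Subgroup.center E) : E →* (E →* Subgroup.center E) :=
  MonoidHom.mk' (fun g => centralDefect (MulAut.conj g).toMonoidHom (conj_defect_mem h g)) (by
    intro g k
    ext x
    show (g * k) * x * (g * k)⁻¹ * x⁻¹ = (g * x * g⁻¹ * x⁻¹) * (k * x * k⁻¹ * x⁻¹)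
    have hc : ∀ y : E, (k * x * k⁻¹ * x⁻¹) * y = y * (k * x * k⁻¹ * x⁻¹) := by
      intro y
      exact (Subgroup.mem_center_iff.mp (conj_defect_mem h k x) y).symm
    calc (g * k) * x * (g * k)⁻¹ * x⁻¹ = g * ((k * x * k⁻¹ * x⁻¹) * (x * g⁻¹ * x⁻¹)) := by group
      _ = g * ((x * g⁻¹ * x⁻¹) * (k * x * k⁻¹ * x⁻¹)) := by rw [hc]
      _ = (g * x * g⁻¹ * x⁻¹) * (k * x * k⁻¹ * x⁻¹) := by group)

theorem commDefectHom_apply (h : commutator E = Subgroup.center E) (g x : E) :
    ((commDefectHom h g x : Subgroup.center E) : E) = g * x * g⁻¹ * x⁻¹ := rfl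

theorem commDefectHom_ker (h : commutator E = Subgroup.center E) :
    (commDefectHom h).ker = Subgroup.center E := by
  ext g
  rw [MonoidHom.mem_ker, Subgroup.mem_center_iff]
  constructor
  · intro hg x
    have := congrArg (fun χ : E →* Subgroup.center E => ((χ x : Subgroup.center E) : E)) hg
    simp only [commDefectHom_apply] at this
    have h1 : g * x * g⁻¹ * x⁻¹ = 1 := this
    calc x * g = (g * x * g⁻¹ * x⁻¹)⁻¹ * (g * x) := by group
      _ = g * x := by rw [h1, inv_one, one_mul]
  · intro hg
    ext x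
    show g * x * g⁻¹ * x⁻¹ = 1
    calc g * x * g⁻¹ * x⁻¹ = (x * g) * g⁻¹ * x⁻¹ := by rw [hg x]
      _ = 1 := by group

/-- the number of homomorphisms into a group of order two is at most the order of the
abelianization -/
theorem card_hom_center_le [Finite E] (hc : Nat.card (Subgroup.center E) = 2) :
    Nat.card (E →* Subgroup.center E) ≤ (commutator E).index := by
  have hfin : Finite (E →* Subgroup.center E) :=
    Finite.of_injective (fun f => (f : E → Subgroup.center E)) DFunLike.coe_injective
  -- an injective homomorphism of the centre into `ℂˣ`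
  obtain ⟨z, hz, huniq⟩ := (Nat.card_eq_two_iff' (1 : Subgroup.center E)).mp hc
  obtain ⟨ψ, hψ⟩ := CommGroup.exists_apply_ne_one_of_hasEnoughRootsOfUnity
    (Subgroup.center E) ℂ hz
  have hψinj : Function.Injective ψ := by
    rw [injective_iff_map_eq_one]
    intro a ha
    by_contra hne
    rw [huniq a hne] at ha
    exact hψ ha
  rw [Nat.card_congr (Abelianization.lift (G := E) (A := Subgroup.center E))]
  have h1 : Nat.card (Abelianization E →* Subgroup.center E) ≤
      Nat.card (Abelianization E →* ℂˣ) := by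
    have hfin2 : Finite (Abelianization E →* ℂˣ) := by
      apply Nat.finite_of_card_ne_zero
      rw [CommGroup.card_monoidHom_of_hasEnoughRootsOfUnity]
      exact Nat.card_pos.ne'
    apply Nat.card_le_card_of_injective (fun χ => ψ.comp χ)
    intro χ₁ χ₂ h12
    apply MonoidHom.ext
    intro a
    have := congrArg (fun χ : Abelianization E →* ℂˣ => χ a) h12
    exact hψinj this
  rw [CommGroup.card_monoidHom_of_hasEnoughRootsOfUnity] at h1
  exact h1

/-- S5395 -/
theorem inner_of_trivial_mod_center [Finite E] (hE : IsExtraspecial 2 E) (φ : E ≃* E)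
    (hφ : ∀ x : E, φ x * x⁻¹ ∈ Subgroup.center E) : ∃ g : E, ∀ x : E, φ x = g * x * g⁻¹ := by
  obtain ⟨⟨-, -, hcomm⟩, hcard⟩ := hE
  have hfin : Finite (E →* Subgroup.center E) :=
    Finite.of_injective (fun f => (f : E → Subgroup.center E)) DFunLike.coe_injective
  have h1 : Nat.card (commDefectHom hcomm).range = (Subgroup.center E).index := by
    have e1 : (commDefectHom hcomm).ker.index = (Subgroup.center E).index :=
      congrArg Subgroup.index (commDefectHom_ker hcomm)
    rw [← e1]
    exact (Nat.card_congr (QuotientGroup.quotientKerEquivRange (commDefectHom hcomm)).toEquiv).symm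
  have h2 : Nat.card (E →* Subgroup.center E) ≤ (Subgroup.center E).index := by
    have := card_hom_center_le hcard
    rwa [hcomm] at this
  have htop : (commDefectHom hcomm).range = ⊤ := by
    apply Subgroup.eq_top_of_le_card
    rw [h1]
    exact h2
  have hmem : centralDefect φ.toMonoidHom hφ ∈ (commDefectHom hcomm).range := by
    rw [htop]
    exact Subgroup.mem_top _
  obtain ⟨g, hg⟩ := hmem
  refine ⟨g, fun x => ?_⟩
  have := congrArg (fun χ : E →* Subgroup.center E => ((χ x : Subgroup.center E) : E)) hg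
  simp only [commDefectHom_apply] at this
  have h3 : g * x * g⁻¹ * x⁻¹ = φ x * x⁻¹ := this
  exact (mul_right_cancel h3).symm

end Cfsg.Agent.Lib.Helper9
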