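import Cfsg.Agent.Lib.Helper9.GolayQR7
import Cfsg.Agent.Lib.Helper9.Steiner5

set_option autoImplicit false

namespace Cfsg.Agent.Lib.Helper9.GolayQR8

open Cfsg Finset Cfsg.Agent.Lib.Helper9.Golay1 Cfsg.Agent.Lib.Helper9.GolayQR4
  Cfsg.Agent.Lib.Helper9.GolayQR5 Cfsg.Agent.Lib.Helper9.GolayQR6
  Cfsg.Agent.Lib.Helper9.GolayQR7 Cfsg.Agent.Lib.Helper9.Steiner3

theorem dodecad_word (d : Finset GolayPt) (hd : d ∈ dodecads) :
    ∃ c ∈ golayCode, hammingNorm c = 12 ∧ supp c = d := by
  obtain ⟨⟨c, hc, rfl⟩, h12⟩ := hd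
  refine ⟨c, hc, ?_, supp_eq_support₂ c⟩
  rw [wt_eq, supp_eq_support₂]
  exact h12

/-- an octad meets a dodecad in 2, 4 or 6 points -/
theorem octad_inter_dodecad (o d : Finset GolayPt) (ho : o ∈ octads) (hd : d ∈ dodecads) :
    (o ∩ d).card = 2 ∨ (o ∩ d).card = 4 ∨ (o ∩ d).card = 6 := by
  obtain ⟨co, hco, hco8, rfl⟩ := octad_word o ho
  obtain ⟨cd, hcd, hcd12, rfl⟩ := dodecad_word d hd
  have heven := even_inter_of_dot_eq_zero co cd (self_orth co cd hco hcd)
  have hadd := wt_add co cd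
  have hw := weight_values (co + cd) (golayCode.add_mem hco hcd)
  have hle : (supp co ∩ supp cd).card ≤ 8 := by
    have := card_le_card (inter_subset_left (s₁ := supp co) (s₂ := supp cd))
    rw [← wt_eq, hco8] at this
    exact this
  omega

/-- a finset version of the octads -/
theorem exists_octads_finset : ∃ Bf : Finset (Finset GolayPt), (Bf : Set (Finset GolayPt)) = octads :=
  Cfsg.Agent.Lib.Helper9.Steiner5.exists_finset octads

theorem dodecad_counts (d : Finset GolayPt) (hd : d ∈ dodecads) :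
    {o : Finset GolayPt | o ∈ octads ∧ (o ∩ d).card = 6}.ncard = 132 ∧
    {o : Finset GolayPt | o ∈ octads ∧ (o ∩ d).card = 2}.ncard = 132 ∧
    {o : Finset GolayPt | o ∈ octads ∧ (o ∩ d).card = 4}.ncard = 495 := by
  obtain ⟨Bf, hBf⟩ := exists_octads_finset
  have hB : IsSteinerSystem 5 8 (Bf : Set (Finset GolayPt)) := hBf ▸ octads_isSteiner
  have hd12 : d.card = 12 := hd.2
  obtain ⟨m0, m1, m2, -⟩ := moments_5_8_24 card_golayPt Bf hB d
  have hzero : ∀ k, k ≠ 2 → k ≠ 4 → k ≠ 6 →
      (Bf.filter (fun o => (o ∩ d).card = k)).card = 0 := by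
    intro k h2 h4 h6
    rw [card_eq_zero, filter_eq_empty_iff]
    intro o ho hk
    have ho' : o ∈ octads := by rw [← hBf]; exact mem_coe.mpr ho
    have := octad_inter_dodecad o d ho' hd
    omega
  rw [sum_fiber_inter Bf d 12 (by omega) (fun k => k.choose 0)] at m0
  rw [sum_fiber_inter Bf d 12 (by omega) (fun k => k.choose 1)] at m1
  rw [sum_fiber_inter Bf d 12 (by omega) (fun k => k.choose 2)] at m2
  simp only [sum_range_succ, sum_range_zero] at m0 m1 m2
  rw [hzero 0 (by omega) (by omega) (by omega), hzero 1 (by omega) (by omega) (by omega),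
    hzero 3 (by omega) (by omega) (by omega), hzero 5 (by omega) (by omega) (by omega),
    hzero 7 (by omega) (by omega) (by omega), hzero 8 (by omega) (by omega) (by omega),
    hzero 9 (by omega) (by omega) (by omega), hzero 10 (by omega) (by omega) (by omega),
    hzero 11 (by omega) (by omega) (by omega), hzero 12 (by omega) (by omega) (by omega)]
    at m0 m1 m2
  rw [hd12] at m1 m2
  have hset : ∀ k, {o : Finset GolayPt | o ∈ octads ∧ (o ∩ d).card = k}.ncard
      = (Bf.filter (fun o => (o ∩ d).card = k)).card := by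
    intro k
    rw [← Set.ncard_coe_finset]
    congr 1
    ext o
    simp only [Set.mem_ofPred_eq, mem_coe, mem_filter]
    rw [← hBf, mem_coe]
  rw [hset, hset, hset]
  generalize (Bf.filter (fun o => (o ∩ d).card = 2)).card = c2 at *
  generalize (Bf.filter (fun o => (o ∩ d).card = 4)).card = c4 at *
  generalize (Bf.filter (fun o => (o ∩ d).card = 6)).card = c6 at *
  norm_num [Nat.choose] at m0 m1 m2
  omega

theorem dodecad_hexads (d : Finset GolayPt) (hd : d ∈ dodecads) :
    IsSteinerSystem 5 6 {h : Finset {p : GolayPt // p ∈ d} |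
      ∃ o ∈ octads, (o ∩ d).card = 6 ∧ h = Finset.subtype (fun p => p ∈ d) o} := by
  refine ⟨?_, ?_⟩
  · rintro h ⟨o, -, h6, rfl⟩
    rw [Finset.card_subtype, ← h6]
    congr 1
  · intro s hs
    obtain ⟨s', hs'⟩ : ∃ s' : Finset GolayPt, s' = s.map (Function.Embedding.subtype _) :=
      ⟨_, rfl⟩
    have hs'5 : s'.card = 5 := by rw [hs', card_map, hs]
    have hs'd : s' ⊆ d := by
      intro p hp
      rw [hs', mem_map] at hp
      obtain ⟨q, -, rfl⟩ := hp
      exact q.2
    obtain ⟨o, ⟨ho, hso⟩, huniq⟩ := octads_isSteiner.2 s' hs'5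
    have h6 : (o ∩ d).card = 6 := by
      have h5 : 5 ≤ (o ∩ d).card := by
        rw [← hs'5]
        exact card_le_card (subset_inter hso hs'd)
      have := octad_inter_dodecad o d ho hd
      omega
    have hmem : ∀ (o' : Finset GolayPt), s ⊆ Finset.subtype (fun p => p ∈ d) o' → s' ⊆ o' := by
      intro o' h p hp
      rw [hs', mem_map] at hp
      obtain ⟨q, hq, rfl⟩ := hp
      exact Finset.mem_subtype.mp (h hq)
    refine ⟨Finset.subtype (fun p => p ∈ d) o, ⟨⟨o, ho, h6, rfl⟩, ?_⟩, ?_⟩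
    · intro q hq
      rw [Finset.mem_subtype]
      apply hso
      rw [hs', mem_map]
      exact ⟨q, hq, rfl⟩
    · rintro h' ⟨⟨o', ho', -, rfl⟩, hsh'⟩
      have := huniq o' ⟨ho', hmem o' hsh'⟩
      rw [this]

end Cfsg.Agent.Lib.Helper9.GolayQR8
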