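import Cfsg.Agent.Lib.Helper9.M24T1
import Cfsg.Agent.Lib.Helper9.GolayQR8

set_option autoImplicit false

namespace Cfsg.Agent.Lib.Helper9.M24U1

open Cfsg Finset Cfsg.Agent.Lib.Helper9.Golay1 Cfsg.Agent.Lib.Helper9.GolayQR1
  Cfsg.Agent.Lib.Helper9.GolayQR2 Cfsg.Agent.Lib.Helper9.GolayQR3 Cfsg.Agent.Lib.Helper9.GolayQR4
  Cfsg.Agent.Lib.Helper9.GolayQR5 Cfsg.Agent.Lib.Helper9.GolayQR7 Cfsg.Agent.Lib.Helper9.GolayQR8
  Cfsg.Agent.Lib.Helper9.M24T1 Cfsg.Agent.Lib.Helper9.GolayM24a Cfsg.Agent.Lib.Helper9.GolayM24c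
open scoped Pointwise

/-- the set of points coded by a mask -/
def M (m : ℕ) : Finset GolayPt := supp (dec m)

theorem mem_M (m : ℕ) (p : GolayPt) : p ∈ M m ↔ m.testBit (idx p) = true := mem_supp_dec m p

theorem card_M (m : ℕ) : (M m).card = wt24 m := by
  unfold M
  rw [← wt_eq, wt_dec]

theorem M_and (m n : ℕ) : M (m &&& n) = M m ∩ M n := by
  ext p
  rw [mem_inter, mem_M, mem_M, mem_M, Nat.testBit_and, Bool.and_eq_true]

theorem M_ones : M 16777215 = univ := by
  ext p
  rw [mem_M, testBit_ones]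
  simp

theorem M_xor_ones (m : ℕ) : M (m ^^^ 16777215) = (M m)ᶜ := by
  ext p
  rw [mem_compl, mem_M, mem_M, Nat.testBit_xor, testBit_ones]
  cases m.testBit (idx p) <;> simp

theorem testBit_eq_false_of_lt (m i : ℕ) (hm : m < 2 ^ 24) (hi : 24 ≤ i) :
    m.testBit i = false :=
  Nat.testBit_lt_two_pow (lt_of_lt_of_le hm (Nat.pow_le_pow_right (by omega) hi))

theorem M_inj (m n : ℕ) (hm : m < 2 ^ 24) (hn : n < 2 ^ 24) (h : M m = M n) : m = n := by
  apply Nat.eq_of_testBit_eq
  intro i
  by_cases hi : i < 24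
  · have h1 : unidx i ∈ M m ↔ unidx i ∈ M n := by rw [h]
    rw [mem_M, mem_M, idx_unidx i hi] at h1
    exact Bool.eq_iff_iff.mpr h1
  · rw [testBit_eq_false_of_lt m i hm (by omega), testBit_eq_false_of_lt n i hn (by omega)]

/-! ### pulling a mask back along a table -/

/-- the mask of the preimage under the map given by a table -/
def pull (l : List ℕ) (m : ℕ) : ℕ :=
  (List.range 24).foldl (fun acc i => if m.testBit (l.getD i 0) then acc ||| 2 ^ i else acc) 0

theorem testBit_foldl (c : ℕ → Bool) (L : List ℕ) (acc j : ℕ) :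
    (L.foldl (fun acc i => if c i then acc ||| 2 ^ i else acc) acc).testBit j
      = (acc.testBit j || (decide (j ∈ L) && c j)) := by
  induction L generalizing acc with
  | nil => simp
  | cons i L ih =>
    rw [List.foldl_cons, ih]
    by_cases hji : j = i
    · subst hji
      by_cases hc : c j
      · simp [hc, Nat.testBit_or]
      · simp [hc]
    · have hij : i ≠ j := fun h => hji h.symm
      by_cases hc : c i
      · simp [hc, hji, hij, Nat.testBit_or]
      · simp [hc, hji]

theorem testBit_pull (l : List ℕ) (m j : ℕ) :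
    (pull l m).testBit j = (decide (j < 24) && m.testBit (l.getD j 0)) := by
  unfold pull
  rw [testBit_foldl (fun i => m.testBit (l.getD i 0))]
  simp [List.mem_range]

theorem pull_lt (l : List ℕ) (m : ℕ) : pull l m < 2 ^ 24 := by
  apply Nat.lt_pow_two_of_testBit
  intro i hi
  rw [testBit_pull]
  simp only [Bool.and_eq_false_imp, decide_eq_true_eq]
  intro h
  omega

theorem dec_comp_tfun (l : List ℕ) (hl : ∀ p : GolayPt, l.getD (idx p) 0 < 24) (m : ℕ) :
    dec m ∘ tfun l = dec (pull l m) := by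
  funext p
  have h1 : idx (tfun l p) = l.getD (idx p) 0 := idx_unidx _ (hl p)
  have h2 : (pull l m).testBit (idx p) = m.testBit (idx (tfun l p)) := by
    rw [testBit_pull, h1]
    simp [idx_lt p]
  change (if m.testBit (idx (tfun l p)) then 1 else 0) = if (pull l m).testBit (idx p) then 1 else 0
  rw [h2]

/-- a table permutation mapping the basis words into the code lies in `M24` -/
theorem tperm_mem (l l' : List ℕ) (h1 : ∀ p, tfun l' (tfun l p) = p)
    (h2 : ∀ p, tfun l (tfun l' p) = p) (hl : ∀ p : GolayPt, l.getD (idx p) 0 < 24)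
    (hc : ∀ i : Fin 12, reprod (pull l (bmask i)) = pull l (bmask i)) :
    tperm l l' h1 h2 ∈ M24 := by
  apply mem_M24_of_map_eq
  apply map_eq_of_span _ (Set.range bw) golayCode_eq_span.symm
  rintro w ⟨i, rfl⟩
  have : bw i ∘ (tperm l l' h1 h2) = dec (pull l (bmask i)) := dec_comp_tfun l hl (bmask i)
  rw [this]
  exact dec_mem_of_reprod _ (hc i)

theorem tperm_inv_apply (l l' : List ℕ) (h1 : ∀ p, tfun l' (tfun l p) = p)
    (h2 : ∀ p, tfun l (tfun l' p) = p) (p : GolayPt) :
    (tperm l l' h1 h2)⁻¹ p = tfun l' p := rfl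

/-- the image of a coded set under a table permutation -/
theorem tperm_smul_M (l l' : List ℕ) (h1 : ∀ p, tfun l' (tfun l p) = p)
    (h2 : ∀ p, tfun l (tfun l' p) = p) (hl' : ∀ p : GolayPt, l'.getD (idx p) 0 < 24) (m : ℕ) :
    tperm l l' h1 h2 • M m = M (pull l' m) := by
  ext p
  have h1 : idx (tfun l' p) = l'.getD (idx p) 0 := idx_unidx _ (hl' p)
  rw [← Finset.inv_smul_mem_iff, Equiv.Perm.smul_def, tperm_inv_apply, mem_M, mem_M, testBit_pull,
    h1]
  simp [idx_lt p]

end Cfsg.Agent.Lib.Helper9.M24U1
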