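import Cfsg.Agent.Lib.Helper9.McLe

set_option autoImplicit false
set_option maxHeartbeats 400000

/-! The McLaughlin group of the definitions is isomorphic to the permutation group of `McLc`. -/

namespace Cfsg.Agent.Lib.Helper9.McLf

open Cfsg Cfsg.Agent.Lib.Helper4.Leech
  Cfsg.Agent.Lib.Helper9.LeechX8 Cfsg.Agent.Lib.Helper9.LeechX9
  Cfsg.Agent.Lib.Helper9.LeechQ2 Cfsg.Agent.Lib.Helper9.LeechE5
  Cfsg.Agent.Lib.Helper9.LeechP1 Cfsg.Agent.Lib.Helper9.LeechP6 Cfsg.Agent.Lib.Helper9.LeechE8 Cfsg.Agent.Lib.Helper9.LeechF1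
  Cfsg.Agent.Lib.Helper9.Co2orba Cfsg.Agent.Lib.Helper9.McLa Cfsg.Agent.Lib.Helper9.McLe
  Cfsg.Agent.Lib.Helper9.McLsimple2 Cfsg.Agent.Lib.Helper9.McLsimple3

theorem leechU_eq : Spor.leechU = rA := by
  apply Subtype.ext
  funext k
  show Spor.vecU k = rA.1 k
  revert k
  decide +kernel

theorem leechV_eq : Spor.leechV = -rG := by
  apply Subtype.ext
  funext k
  show Spor.vecV k = -(rG.1 k)
  revert k
  decide +kernel

theorem mem_McL (f : Equiv.Perm leechLattice) :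
    f ∈ Spor.McL ↔ f ∈ Co0 ∧ f rG = rG ∧ f rA = rA := by
  unfold Spor.McL Spor.Co3
  rw [Subgroup.mem_inf, Subgroup.mem_inf, MulAction.mem_stabilizer_iff,
    MulAction.mem_stabilizer_iff, Equiv.Perm.smul_def, Equiv.Perm.smul_def, leechU_eq, leechV_eq]
  constructor
  · rintro ⟨⟨h1, h2⟩, h3⟩
    refine ⟨h1, ?_, h3⟩
    rw [co0_neg f h1] at h2
    exact neg_injective h2
  · rintro ⟨h1, h2, h3⟩
    refine ⟨⟨h1, ?_⟩, h3⟩
    rw [co0_neg f h1, h2]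

theorem mem_McL' (f : Equiv.Perm leechLattice) :
    f ∈ Spor.McL ↔ f ∈ Co0 ∧ f rA = rA ∧ f rBb = rBb := by
  rw [mem_McL]
  constructor
  · rintro ⟨h1, h2, h3⟩
    refine ⟨h1, h3, ?_⟩
    rw [McL275b.rBb_eq, co0_sub f h1, h2, h3]
  · rintro ⟨h1, h2, h3⟩
    refine ⟨h1, ?_, h2⟩
    rw [McL275b.rG_eq, h1.1, h2, h3]

/-- the group of the definitions as a subgroup of the automorphism group of the lattice -/
def isoA : ↥Spor.McL ≃* ↥G1 where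
  toFun f := ⟨⟨f.1, ((mem_McL' f.1).mp f.2).1⟩,
    (mem_G1 _).mpr ⟨((mem_McL' f.1).mp f.2).2.1, ((mem_McL' f.1).mp f.2).2.2⟩⟩
  invFun g := ⟨g.1.1, (mem_McL' g.1.1).mpr ⟨g.1.2, ((mem_G1 g.1).mp g.2).1, ((mem_G1 g.1).mp g.2).2⟩⟩
  left_inv _ := rfl
  right_inv _ := rfl
  map_mul' _ _ := rfl

theorem isoB : Nonempty (↥G1 ≃* ↥G3) := by
  obtain ⟨g, hg, g1, g2⟩ := pairs8 rA rBb a3 b3 rA_norm rBb_norm a3_norm b3_norm rA_rBb a3_b3
  let γ : ↥Co0 := ⟨g, hg⟩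
  have e1 : γ • rA = a3 := g1
  have e2 : γ • rBb = b3 := g2
  have e := pairStabEquiv γ rA rBb
  rw [e1, e2] at e
  exact ⟨e⟩

/-- the McLaughlin group is the permutation group of degree 275 -/
theorem iso_K : Nonempty (↥Spor.McL ≃* ↥K) := by
  obtain ⟨e⟩ := isoB
  exact ⟨(isoA.trans e).trans iso3⟩

end Cfsg.Agent.Lib.Helper9.McLf
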