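import Mathlib
import Cfsg.Agent.Lib.Helper8.C5Defs
import Cfsg.Agent.Lib.Helper8.CQN2
import Cfsg.Agent.Lib.Helper1.MaxInter

set_option autoImplicit false
set_option linter.unusedSectionVars false
set_option linter.unusedVariables false
set_option linter.unusedSimpArgs false
set_option linter.style.haveILetI false
set_option linter.style.longLine false
set_option maxHeartbeats 1000000

/-! # S3433 piece A: the Sylow 3- and 5-subgroups of a `C5` group are TI -/

open Cfsg.Agent.Lib.Helper8.C5 Cfsg.Agent.Lib.Helper8.CQ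

namespace Cfsg.Agent.Lib.Helper9.C5

universe u
variable {G : Type u} [Group G] [Finite G]

/-- a fixed-point-free involution of a finite subgroup inverts it. -/
theorem inv_of_fpf_invol {D : Subgroup G} {t : G} (ht : t * t = 1)
    (hn : ∀ d ∈ D, t * d * t⁻¹ ∈ D) (hf : ∀ d ∈ D, t * d * t⁻¹ = d → d = 1) :
    ∀ d ∈ D, t * d * t⁻¹ = d⁻¹ := by
  classical
  have htinv : t⁻¹ = t := inv_eq_of_mul_eq_one_left ht
  let φ : D → D := fun d => ⟨(d : G)⁻¹ * (t * d * t⁻¹), D.mul_mem (D.inv_mem d.2) (hn d d.2)⟩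
  have hinj : Function.Injective φ := by
    intro d e hde
    have h : (d : G)⁻¹ * (t * d * t⁻¹) = (e : G)⁻¹ * (t * e * t⁻¹) := congrArg Subtype.val hde
    have h3 : t * (e : G) * t⁻¹ = (e : G) * (d : G)⁻¹ * (t * d * t⁻¹) := by
      calc t * (e : G) * t⁻¹ = (e : G) * ((e : G)⁻¹ * (t * e * t⁻¹)) := by group
        _ = (e : G) * ((d : G)⁻¹ * (t * d * t⁻¹)) := by rw [h]
        _ = (e : G) * (d : G)⁻¹ * (t * d * t⁻¹) := by group
    have h2 : t * ((e : G) * (d : G)⁻¹) * t⁻¹ = (e : G) * (d : G)⁻¹ := by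
      calc t * ((e : G) * (d : G)⁻¹) * t⁻¹ = (t * e * t⁻¹) * (t * d * t⁻¹)⁻¹ := by group
        _ = (e : G) * (d : G)⁻¹ := by rw [h3]; group
    have h4 := hf _ (D.mul_mem e.2 (D.inv_mem d.2)) h2
    apply Subtype.ext
    have : (e : G) = d := by
      calc (e : G) = (e : G) * (d : G)⁻¹ * d := by group
        _ = d := by rw [h4, one_mul]
    exact this.symm
  have hsurj : Function.Surjective φ := Finite.surjective_of_injective hinj
  intro d hd
  obtain ⟨e, he⟩ := hsurj ⟨d, hd⟩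
  have h : (e : G)⁻¹ * (t * e * t⁻¹) = d := congrArg Subtype.val he
  rw [← h]
  have h1 : t * ((e : G)⁻¹ * (t * e * t⁻¹)) * t⁻¹ = t * (e : G)⁻¹ * t * e * (t * t)⁻¹ := by group
  have h2 : ((e : G)⁻¹ * (t * e * t⁻¹))⁻¹ = t * (e : G)⁻¹ * t⁻¹ * e := by group
  rw [h1, h2, ht, htinv, inv_one, mul_one]

/-- two involutions whose product has odd order are conjugate by a power of the product. -/
theorem exists_zpowers_conj {t s : G} (ht : t * t = 1) (hs : s * s = 1)
    (hodd : Odd (orderOf (t * s))) : ∃ h ∈ Subgroup.zpowers (t * s), s = h * t * h⁻¹ := by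
  obtain ⟨k, hk⟩ := hodd
  set g := t * s with hg
  have htinv : t⁻¹ = t := inv_eq_of_mul_eq_one_left ht
  have hsinv : s⁻¹ = s := inv_eq_of_mul_eq_one_left hs
  have hconj : t * g * t⁻¹ = g⁻¹ := by
    rw [hg, mul_inv_rev, htinv, hsinv]
    calc t * (t * s) * t = (t * t) * s * t := by group
      _ = s * t := by rw [ht, one_mul]
  have hconjk : t * g ^ k * t⁻¹ = (g ^ k)⁻¹ := by
    rw [← conj_pow, hconj, inv_pow]
  refine ⟨g ^ k, Subgroup.pow_mem _ (Subgroup.mem_zpowers g) k, ?_⟩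
  have h1 : g ^ (2 * k + 1) = 1 := by rw [← hk]; exact pow_orderOf_eq_one g
  have h2 : g ^ k * g ^ k = g⁻¹ := by
    have : g ^ k * g ^ k * g = 1 := by
      rw [← pow_add, ← pow_succ]
      rw [show k + k + 1 = 2 * k + 1 by ring]; exact h1
    exact eq_inv_of_mul_eq_one_left this
  have h3 : t * (g ^ k)⁻¹ = g ^ k * t := by
    calc t * (g ^ k)⁻¹ = t * (t * g ^ k * t⁻¹) := by rw [hconjk]
      _ = (t * t) * g ^ k * t⁻¹ := by group
      _ = g ^ k * t := by rw [ht, one_mul, htinv]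
  calc s = g⁻¹ * t := by
        rw [hg, mul_inv_rev, htinv, hsinv]
        calc s = s * (t * t) := by rw [ht, mul_one]
          _ = s * t * t := by group
    _ = g ^ k * g ^ k * t := by rw [h2]
    _ = g ^ k * (g ^ k * t) := by group
    _ = g ^ k * (t * (g ^ k)⁻¹) := by rw [h3]
    _ = g ^ k * t * (g ^ k)⁻¹ := by group


theorem orderOf_conj_eq' (y t : G) : orderOf (y * t * y⁻¹) = orderOf t := by
  have := MulEquiv.orderOf_eq (MulAut.conj y) t
  rwa [MulAut.conj_apply] at this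

theorem exists_pow_of_mem {p : ℕ} {H : Subgroup G} (hH : IsPGroup p H) {x : G} (hx : x ∈ H) :
    ∃ k : ℕ, x ^ p ^ k = 1 := by
  obtain ⟨k, hk⟩ := hH ⟨x, hx⟩
  exact ⟨k, by simpa using congrArg Subtype.val hk⟩

/-- the odd case: if `N` (normalizing the nontrivial `p`-group `D`) has no involution, all its
`p`-elements lie in one `p`-subgroup (a normal Sylow `p`-subgroup of `N`, by Burnside transfer). -/
theorem exists_pgroup_of_odd (h5 : C5 G) (p q : ℕ) [hpF : Fact p.Prime] [hqF : Fact q.Prime]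
    (hpq : p ≠ q) (hp : p = 3 ∨ p = 5) (hq : q = 3 ∨ q = 5) (D N : Subgroup G)
    (hDp : IsPGroup p D) (hDne : D ≠ ⊥) (hNn : ∀ n ∈ N, ∀ d ∈ D, n * d * n⁻¹ ∈ D)
    (hinv : ¬ ∃ t ∈ N, orderOf t = 2) :
    ∃ C : Subgroup G, IsPGroup p C ∧ ∀ y ∈ N, (∃ k : ℕ, y ^ p ^ k = 1) → y ∈ C := by
  classical
  have hpr : p.Prime := hpF.out
  have hqr : q.Prime := hqF.out
  have hq2 : q ≠ 2 := by rcases hq with rfl | rfl <;> norm_num
  have hNord : ∀ n ∈ N, orderOf n = 1 ∨ orderOf n = p ∨ orderOf n = q := by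
    intro n hn
    have h2 : orderOf n ≠ 2 := fun h => hinv ⟨n, hn, h⟩
    have h4 : orderOf n ≠ 4 := by
      intro h
      apply hinv
      refine ⟨n ^ 2, N.pow_mem hn 2, ?_⟩
      rw [orderOf_pow' n (by norm_num), h]
      norm_num
    rcases h5.cases n with h | h | h | h | h
    · left; exact h
    · exact absurd h h2
    · rcases hp with rfl | rfl
      · right; left; exact h
      · rcases hq with rfl | rfl
        · right; right; exact h
        · exact absurd rfl hpq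
    · exact absurd h h4
    · rcases hp with rfl | rfl
      · rcases hq with rfl | rfl
        · exact absurd rfl hpq
        · right; right; exact h
      · right; left; exact h
  have hodd : ¬ 2 ∣ Nat.card N := by
    intro h2
    haveI : Fact (Nat.Prime 2) := ⟨Nat.prime_two⟩
    obtain ⟨t, ht⟩ := exists_prime_orderOf_dvd_card' (G := N) 2 h2
    exact hinv ⟨(t : G), t.2, by rw [Subgroup.orderOf_coe]; exact ht⟩
  obtain ⟨Qs⟩ : Nonempty (Sylow q ↥N) := inferInstance
  have hY : IsPGroup q ((Qs : Subgroup N).map N.subtype) := Qs.2.map N.subtype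
  have hYD : ∀ y ∈ (Qs : Subgroup N).map N.subtype, ∀ d ∈ D, y * d * y⁻¹ ∈ D :=
    fun y hy => hNn y (Subgroup.map_subtype_le _ hy)
  have hYcard : Nat.card ((Qs : Subgroup N).map N.subtype) ≤ q :=
    card_le_of_normalizes h5.ccp q p hqr hq2 hpr hpq.symm _ D hY hDp hDne hYD
  have hQc : Nat.card (Qs : Subgroup N) ≤ q := by
    rw [← Subgroup.card_map_of_injective N.subtype_injective]; exact hYcard
  obtain ⟨k, hk⟩ := Qs.2.exists_card_eq
  have hk1 : k ≤ 1 := by
    by_contra hcon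
    push Not at hcon
    have : q ^ 2 ≤ q ^ k := Nat.pow_le_pow_right hqr.pos hcon
    have h2 := hqr.two_le
    rw [hk] at hQc
    nlinarith
  have hcent : Subgroup.normalizer ((Qs : Subgroup N) : Set N) ≤
      Subgroup.centralizer ((Qs : Subgroup N) : Set N) := by
    haveI hcyc : IsCyclic ↥(Qs : Subgroup N) := by
      interval_cases k
      · rw [pow_zero] at hk
        haveI : Subsingleton ↥(Qs : Subgroup N) := (Nat.card_eq_one_iff_unique.mp hk).1
        exact isCyclic_of_subsingleton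
      · rw [pow_one] at hk
        exact isCyclic_of_prime_card hk
    have key := Subgroup.card_dvd_of_injective _
      (QuotientGroup.kerLift_injective (Subgroup.normalizerMonoidHom (Qs : Subgroup N)))
    rw [Subgroup.normalizerMonoidHom_ker, ← Subgroup.index, ← Subgroup.relIndex] at key
    refine Subgroup.relIndex_eq_one.mp (Nat.eq_one_of_dvd_coprimes ?_ dvd_rfl key)
    rw [IsCyclic.card_mulAut, hk]
    have hN2 : (Nat.card N).Coprime 2 :=
      ((Nat.Prime.coprime_iff_not_dvd Nat.prime_two).mpr hodd).symm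
    have hrel : ((Subgroup.centralizer ((Qs : Subgroup N) : Set N)).relIndex
        (Subgroup.normalizer ((Qs : Subgroup N) : Set N))).Coprime 2 := by
      apply Nat.Coprime.coprime_dvd_left (Subgroup.relIndex_dvd_card _ _)
      exact Nat.Coprime.coprime_dvd_left (Subgroup.card_subgroup_dvd_card _) hN2
    interval_cases k
    · rw [pow_zero, Nat.totient_one]; exact Nat.coprime_one_right _
    · rw [pow_one, Nat.totient_prime hqr]
      rcases hq with rfl | rfl
      · exact hrel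
      · exact Nat.Coprime.pow_right 2 hrel
  set φ := MonoidHom.transferSylow Qs hcent with hφ
  have hKq : ¬ q ∣ Nat.card φ.ker := MonoidHom.not_dvd_card_ker_transferSylow Qs hcent
  have hKp : IsPGroup p φ.ker := by
    rw [IsPGroup.iff_orderOf]
    intro x
    have hx : orderOf x = orderOf (((x : ↥N) : G)) := by
      rw [Subgroup.orderOf_coe, Subgroup.orderOf_coe]
    rcases hNord ((x : ↥N) : G) (x : ↥N).2 with h | h | h
    · exact ⟨0, by rw [hx, h, pow_zero]⟩
    · exact ⟨1, by rw [hx, h, pow_one]⟩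
    · exfalso
      apply hKq
      have hdvd := orderOf_dvd_natCard x
      rw [hx, h] at hdvd
      exact hdvd
  refine ⟨φ.ker.map N.subtype, hKp.map N.subtype, ?_⟩
  intro y hy ⟨j, hj⟩
  refine ⟨⟨y, hy⟩, ?_, rfl⟩
  rw [SetLike.mem_coe, MonoidHom.mem_ker]
  have h1 : (φ ⟨y, hy⟩) ^ p ^ j = 1 := by
    rw [← map_pow]
    have : (⟨y, hy⟩ : ↥N) ^ p ^ j = 1 := Subtype.ext (by simpa using hj)
    rw [this, map_one]
  have h2 : (φ ⟨y, hy⟩) ^ q ^ k = 1 := by
    rw [← hk]; exact pow_card_eq_one'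
  have hd1 : orderOf (φ ⟨y, hy⟩) ∣ p ^ j := orderOf_dvd_of_pow_eq_one h1
  have hd2 : orderOf (φ ⟨y, hy⟩) ∣ q ^ k := orderOf_dvd_of_pow_eq_one h2
  have hcop : (p ^ j).Coprime (q ^ k) :=
    Nat.Coprime.pow _ _ ((Nat.coprime_primes hpr hqr).mpr hpq)
  have : orderOf (φ ⟨y, hy⟩) = 1 := Nat.eq_one_of_dvd_coprimes hcop hd1 hd2
  exact orderOf_eq_one_iff.mp this


/-- the even case: if `N` (normalizing the nontrivial `p`-group `D`, `p` odd) contains an
involution, all its `p`-elements lie in the `p`-group `C_G(D)`, which contains `D`. -/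
theorem exists_pgroup_of_invol (h5 : C5 G) (p : ℕ) [hpF : Fact p.Prime]
    (hp : p = 3 ∨ p = 5) (D N : Subgroup G)
    (hDp : IsPGroup p D) (hDne : D ≠ ⊥) (hNn : ∀ n ∈ N, ∀ d ∈ D, n * d * n⁻¹ ∈ D)
    (hinv : ∃ t ∈ N, orderOf t = 2) :
    ∃ C : Subgroup G, IsPGroup p C ∧ D ≤ C ∧ ∀ y ∈ N, (∃ k : ℕ, y ^ p ^ k = 1) → y ∈ C := by
  classical
  obtain ⟨t, htN, ht⟩ := hinv
  have hpr : p.Prime := hpF.out
  have hp2 : p ≠ 2 := by rcases hp with rfl | rfl <;> norm_num
  have hpodd : Odd p := hpr.odd_of_ne_two hp2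
  have hcop2 : Nat.Coprime 2 p := (Nat.coprime_primes Nat.prime_two hpr).mpr hp2.symm
  have hsq : ∀ s : G, orderOf s = 2 → s * s = 1 := by
    intro s hs
    rw [← pow_two, ← hs]; exact pow_orderOf_eq_one s
  have hordp : ∀ x : G, (∃ k : ℕ, x ^ p ^ k = 1) → x ≠ 1 → orderOf x = p := by
    intro x ⟨k, hk⟩ hx1
    have hd : orderOf x ∣ p ^ k := orderOf_dvd_of_pow_eq_one hk
    obtain ⟨j, -, hj⟩ := (Nat.dvd_prime_pow hpr).mp hd
    have h5x := (h5 x).2
    have hj0 : j ≠ 0 := by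
      intro h0; rw [h0, pow_zero] at hj; exact hx1 (orderOf_eq_one_iff.mp hj)
    have hj1 : j = 1 := by
      by_contra hj1
      have hj2 : 2 ≤ j := by omega
      have : p ^ 2 ≤ p ^ j := Nat.pow_le_pow_right hpr.pos hj2
      rcases hp with rfl | rfl <;> omega
    rw [hj, hj1, pow_one]
  have hDord : ∀ d ∈ D, d ≠ 1 → orderOf d = p :=
    fun d hd hd1 => hordp d (exists_pow_of_mem hDp hd) hd1
  have hinvD : ∀ s ∈ N, orderOf s = 2 → ∀ d ∈ D, s * d * s⁻¹ = d⁻¹ := by
    intro s hsN hs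
    apply inv_of_fpf_invol (hsq s hs) (hNn s hsN)
    intro d hd hfix
    by_contra hd1
    have hcomm : s * d = d * s := by
      calc s * d = s * d * s⁻¹ * s := by group
        _ = d * s := by rw [hfix]
    exact h5.false_of_commute hcomm (by rw [hs, hDord d hd hd1]; exact hcop2) (by rw [hs])
      (by rw [hDord d hd hd1]; exact hpr.two_le)
  have hDab : ∀ a ∈ D, ∀ b ∈ D, a * b = b * a := by
    intro a ha b hb
    have h1 := hinvD t htN ht (a * b) (D.mul_mem ha hb)
    have h2 := hinvD t htN ht a ha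
    have h3 := hinvD t htN ht b hb
    have h4 : t * (a * b) * t⁻¹ = (t * a * t⁻¹) * (t * b * t⁻¹) := by group
    rw [h4, h2, h3] at h1
    have h5' := congrArg Inv.inv h1
    rw [mul_inv_rev, inv_inv, inv_inv, inv_inv] at h5'
    exact h5'.symm
  set C : Subgroup G := Subgroup.centralizer (D : Set G) with hC
  have hDC : D ≤ C := by
    intro d hd
    rw [hC, Subgroup.mem_centralizer_iff]
    intro e he
    exact hDab e he d hd
  have hCp : IsPGroup p C := by
    obtain ⟨d₀, hd₀⟩ := (Subgroup.ne_bot_iff_exists_ne_one).mp hDne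
    have hd₀1 : (d₀ : G) ≠ 1 := fun h => hd₀ (Subtype.ext h)
    have hle : C ≤ Subgroup.centralizer ({(d₀ : G)} : Set G) :=
      Subgroup.centralizer_le (by
        intro x hx
        rw [Set.mem_singleton_iff] at hx
        rw [hx]; exact d₀.2)
    exact (h5.cpt p hp (d₀ : G) (hDord _ d₀.2 hd₀1)).to_le hle
  have hNC : ∀ n ∈ N, ∀ c ∈ C, n * c * n⁻¹ ∈ C := by
    intro n hn c hc
    rw [hC, Subgroup.mem_centralizer_iff]
    intro d hd
    have hd' : n⁻¹ * d * n ∈ D := by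
      have := hNn n⁻¹ (N.inv_mem hn) d hd
      simpa using this
    have hc' : n⁻¹ * d * n * c = c * (n⁻¹ * d * n) :=
      (Subgroup.mem_centralizer_iff.mp hc) _ hd'
    calc d * (n * c * n⁻¹) = n * (n⁻¹ * d * n * c) * n⁻¹ := by group
      _ = n * (c * (n⁻¹ * d * n)) * n⁻¹ := by rw [hc']
      _ = n * c * n⁻¹ * d := by group
  refine ⟨C, hCp, hDC, ?_⟩
  intro y hyN hyp
  set s := y * t * y⁻¹ with hs
  have hsN : s ∈ N := N.mul_mem (N.mul_mem hyN htN) (N.inv_mem hyN)
  have hso : orderOf s = 2 := by rw [hs, orderOf_conj_eq', ht]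
  have htt := hsq t ht
  have hss := hsq s hso
  have hgC : t * s ∈ C := by
    rw [hC, Subgroup.mem_centralizer_iff]
    intro d hd
    have h1 := hinvD s hsN hso d hd
    have h2 := hinvD t htN ht d⁻¹ (D.inv_mem hd)
    rw [inv_inv] at h2
    have h3 : (t * s) * d * (t * s)⁻¹ = d := by
      calc (t * s) * d * (t * s)⁻¹ = t * (s * d * s⁻¹) * t⁻¹ := by group
        _ = d := by rw [h1, h2]
    calc d * (t * s) = ((t * s) * d * (t * s)⁻¹) * (t * s) := by rw [h3]
      _ = t * s * d := by group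
  have hgodd : Odd (orderOf (t * s)) := by
    obtain ⟨k, hk⟩ := exists_pow_of_mem hCp hgC
    exact Odd.of_dvd_nat hpodd.pow (orderOf_dvd_of_pow_eq_one hk)
  obtain ⟨h, hh, hsh⟩ := exists_zpowers_conj htt hss hgodd
  have hhC : h ∈ C := (Subgroup.zpowers_le.mpr hgC) hh
  have hut : (h⁻¹ * y) * t = t * (h⁻¹ * y) := by
    have h1 : y * t * y⁻¹ = h * t * h⁻¹ := hsh
    calc (h⁻¹ * y) * t = h⁻¹ * (y * t * y⁻¹) * y := by group
      _ = h⁻¹ * (h * t * h⁻¹) * y := by rw [h1]
      _ = t * (h⁻¹ * y) := by group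
  have hu2 : ∃ j : ℕ, (h⁻¹ * y) ^ 2 ^ j = 1 := by
    have hmem : h⁻¹ * y ∈ Subgroup.centralizer ({t} : Set G) := by
      rw [Subgroup.mem_centralizer_singleton_iff]
      exact hut
    exact exists_pow_of_mem (h5.cit t ht) hmem
  have hup : ∃ k : ℕ, (h⁻¹ * y) ^ p ^ k = 1 := by
    obtain ⟨k, hk⟩ := hyp
    obtain ⟨j, -, hj⟩ := (Nat.dvd_prime_pow hpr).mp (orderOf_dvd_of_pow_eq_one hk)
    have hzy : IsPGroup p (Subgroup.zpowers y) :=
      IsPGroup.of_card (n := j) (by rw [Nat.card_zpowers, hj])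
    have hle : Subgroup.zpowers y ≤ Subgroup.normalizer (C : Set G) := by
      rw [Subgroup.zpowers_le, Subgroup.mem_normalizer_iff]
      intro c
      constructor
      · exact hNC y hyN c
      · intro hc
        have := hNC y⁻¹ (N.inv_mem hyN) _ hc
        have e : y⁻¹ * (y * c * y⁻¹) * y⁻¹⁻¹ = c := by group
        rwa [e] at this
    have hsup : IsPGroup p (Subgroup.zpowers y ⊔ C : Subgroup G) :=
      IsPGroup.to_sup_of_normal_right' hzy hCp hle
    have hmem : h⁻¹ * y ∈ (Subgroup.zpowers y ⊔ C : Subgroup G) :=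
      Subgroup.mul_mem _ (Subgroup.inv_mem _ ((le_sup_right : C ≤ _) hhC))
        ((le_sup_left : Subgroup.zpowers y ≤ _) (Subgroup.mem_zpowers y))
    exact exists_pow_of_mem hsup hmem
  obtain ⟨j, hj⟩ := hu2
  obtain ⟨k, hk⟩ := hup
  have hd1 : orderOf (h⁻¹ * y) ∣ 2 ^ j := orderOf_dvd_of_pow_eq_one hj
  have hd2 : orderOf (h⁻¹ * y) ∣ p ^ k := orderOf_dvd_of_pow_eq_one hk
  have hcop : (2 ^ j).Coprime (p ^ k) := Nat.Coprime.pow _ _ hcop2
  have h1 : orderOf (h⁻¹ * y) = 1 := Nat.eq_one_of_dvd_coprimes hcop hd1 hd2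
  have h2 : h⁻¹ * y = 1 := orderOf_eq_one_iff.mp h1
  have h3 : h = y := inv_mul_eq_one.mp h2
  rw [← h3]; exact hhC


/-- **S3433 piece A**: the Sylow `3`- and `5`-subgroups of a `C5` group are TI. -/
theorem sylow_ti (h5 : C5 G) (p : ℕ) [Fact p.Prime] (hp : p = 3 ∨ p = 5) (P Q : Sylow p G)
    (hne : P ≠ Q) : (P : Subgroup G) ⊓ (Q : Subgroup G) = ⊥ := by
  classical
  by_contra hD0
  set X : Set (Subgroup G) := Set.range (fun P : Sylow p G => (P : Subgroup G)) with hX
  have hne' : (P : Subgroup G) ≠ Q := fun h => hne (Sylow.ext h)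
  obtain ⟨_, ⟨P₁, rfl⟩, _, ⟨P₂, rfl⟩, hne12, hge, hmax⟩ :=
    Cfsg.Agent.Lib.Helper1.exists_max_inter X P Q ⟨P, rfl⟩ ⟨Q, rfl⟩ hne'
  simp only at hne12 hge hmax
  set D : Subgroup G := (P₁ : Subgroup G) ⊓ P₂ with hD
  have hDne : D ≠ ⊥ := by
    intro h
    rw [h, Subgroup.card_bot] at hge
    have : Nat.card ((P : Subgroup G) ⊓ Q : Subgroup G) = 1 := le_antisymm hge Nat.card_pos
    exact hD0 (Subgroup.card_eq_one.mp this)
  have hDp : IsPGroup p D := P₁.2.to_le inf_le_left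
  have hlt1 : D < P₁ := by
    refine lt_of_le_of_ne inf_le_left ?_
    intro heq
    have hle : (P₁ : Subgroup G) ≤ P₂ := by rw [← heq]; exact inf_le_right
    exact hne12 (P₁.is_maximal' P₂.2 hle).symm
  have hlt2 : D < P₂ := by
    refine lt_of_le_of_ne inf_le_right ?_
    intro heq
    have hle : (P₂ : Subgroup G) ≤ P₁ := by rw [← heq]; exact inf_le_left
    exact hne12 (P₂.is_maximal' P₁.2 hle)
  obtain ⟨x₁, hx₁P, hx₁N, hx₁D⟩ :=
    Cfsg.Agent.Lib.Helper1.exists_mem_normalizer_not_mem_of_lt P₁.2.isNilpotent hlt1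
  obtain ⟨x₂, hx₂P, hx₂N, hx₂D⟩ :=
    Cfsg.Agent.Lib.Helper1.exists_mem_normalizer_not_mem_of_lt P₂.2.isNilpotent hlt2
  have hKey : ∀ C : Subgroup G, IsPGroup p C → D ≤ C → x₁ ∈ C → x₂ ∈ C → False := by
    intro C hC hDC h1 h2
    obtain ⟨R, hR⟩ := hC.exists_le_sylow
    have hR1 : (R : Subgroup G) = P₁ := by
      by_contra hne1
      have hle := hmax R ⟨R, rfl⟩ P₁ ⟨P₁, rfl⟩ hne1
      have hlt : D < (R : Subgroup G) ⊓ P₁ := by
        refine lt_of_le_of_ne (le_inf (hDC.trans hR) inf_le_left) ?_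
        intro heq
        apply hx₁D
        rw [heq]
        exact ⟨hR h1, hx₁P⟩
      have : Nat.card D < Nat.card ((R : Subgroup G) ⊓ P₁ : Subgroup G) :=
        Set.ncard_lt_ncard hlt (Set.toFinite _)
      omega
    have hR2 : (R : Subgroup G) = P₂ := by
      by_contra hne1
      have hle := hmax R ⟨R, rfl⟩ P₂ ⟨P₂, rfl⟩ hne1
      have hlt : D < (R : Subgroup G) ⊓ P₂ := by
        refine lt_of_le_of_ne (le_inf (hDC.trans hR) inf_le_right) ?_
        intro heq
        apply hx₂D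
        rw [heq]
        exact ⟨hR h2, hx₂P⟩
      have : Nat.card D < Nat.card ((R : Subgroup G) ⊓ P₂ : Subgroup G) :=
        Set.ncard_lt_ncard hlt (Set.toFinite _)
      omega
    exact hne12 (hR1.symm.trans hR2)
  set N : Subgroup G := Subgroup.normalizer (D : Set G) with hN
  have hNn : ∀ n ∈ N, ∀ d ∈ D, n * d * n⁻¹ ∈ D :=
    fun n hn d hd => (Subgroup.mem_normalizer_iff.mp hn d).mp hd
  have hDN : D ≤ N := Subgroup.le_normalizer
  have hx₁p := exists_pow_of_mem P₁.2 hx₁P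
  have hx₂p := exists_pow_of_mem P₂.2 hx₂P
  by_cases hinv : ∃ t ∈ N, orderOf t = 2
  · obtain ⟨C, hCp, hDC, hC⟩ := exists_pgroup_of_invol h5 p hp D N hDp hDne hNn hinv
    exact hKey C hCp hDC (hC x₁ hx₁N hx₁p) (hC x₂ hx₂N hx₂p)
  · have hmain : ∃ C : Subgroup G, IsPGroup p C ∧
        ∀ y ∈ N, (∃ k : ℕ, y ^ p ^ k = 1) → y ∈ C := by
      rcases hp with hp3 | hp5
      · haveI : Fact (Nat.Prime 5) := ⟨by norm_num⟩
        exact exists_pgroup_of_odd h5 p 5 (by rw [hp3]; norm_num) (Or.inl hp3) (Or.inr rfl)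
          D N hDp hDne hNn hinv
      · haveI : Fact (Nat.Prime 3) := ⟨by norm_num⟩
        exact exists_pgroup_of_odd h5 p 3 (by rw [hp5]; norm_num) (Or.inr hp5) (Or.inl rfl)
          D N hDp hDne hNn hinv
    obtain ⟨C, hCp, hC⟩ := hmain
    exact hKey C hCp (fun d hd => hC d (hDN hd) (exists_pow_of_mem hDp hd))
      (hC x₁ hx₁N hx₁p) (hC x₂ hx₂N hx₂p)

end Cfsg.Agent.Lib.Helper9.C5
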