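import Mathlib
import Cfsg.Prelude.Def_Local
import Cfsg.Agent.Lib.Helper2.Components
import Cfsg.Agent.Lib.Helper2.Components2
import Cfsg.Agent.Lib.Helper2.Components3
import Cfsg.Agent.Lib.Helper7.LB3
import Cfsg.Agent.Lib.Helper7.BB1

/-! Farm CMX (S1305), unit P1: the projection lemma.  A component `L` of `C_X(a)` (`a * a = 1`)
lying in `E(X)` lies in `D ⊔ D^a` for some component `D` of `X`. -/

set_option autoImplicit false

namespace Cfsg.Agent.Lib.Helper9.CMX

open Cfsg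
open scoped commutatorElement

universe u

variable {X : Type u} [Group X]

/-- If all `⁅w, ⁅x, y⁆⁆` (`w, x, y ∈ L`) lie in `C`, `L` is perfect and normalizes `C`, then `L ≤ C`. -/
theorem le_of_triple_commutator_mem {L C : Subgroup X} (hperf : ⁅L, L⁆ = L)
    (hLC : L ≤ Subgroup.normalizer (C : Set X))
    (h : ∀ w ∈ L, ∀ x ∈ L, ∀ y ∈ L, ⁅w, ⁅x, y⁆⁆ ∈ C) : L ≤ C := by
  haveI hN : (C.subgroupOf L).Normal := Subgroup.normal_subgroupOf_of_le_normalizer hLC
  haveI hLp : Group.IsPerfect ↥L := Subgroup.isPerfect_iff.mpr hperf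
  set π := QuotientGroup.mk' (C.subgroupOf L) with hπ
  have hsurj : Function.Surjective π := QuotientGroup.mk'_surjective _
  -- commutators are central in the quotient
  have hcen : ∀ x y w : ↥L, π w * π ⁅x, y⁆ = π ⁅x, y⁆ * π w := by
    intro x y w
    have h1 : ⁅w, ⁅x, y⁆⁆ ∈ C.subgroupOf L := by
      rw [Subgroup.mem_subgroupOf]
      exact h w w.2 x x.2 y y.2
    have h2 : π ⁅w, ⁅x, y⁆⁆ = 1 := by
      rw [hπ, QuotientGroup.mk'_apply, QuotientGroup.eq_one_iff]
      exact h1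
    rw [map_commutatorElement] at h2
    exact commutatorElement_eq_one_iff_commute.mp h2
  -- the quotient is commutative
  have hZ : ∀ l : ↥L, ∀ w : ↥L, π w * π l = π l * π w := by
    intro l
    have hl : l ∈ commutator ↥L := by
      rw [hLp.commutator_eq_top]; exact Subgroup.mem_top l
    rw [commutator_def] at hl
    have hle : ⁅(⊤ : Subgroup ↥L), (⊤ : Subgroup ↥L)⁆ ≤
        (Subgroup.centralizer (Set.univ : Set (↥L ⧸ C.subgroupOf L))).comap π := by
      rw [Subgroup.commutator_le]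
      intro x _ y _
      rw [Subgroup.mem_comap, Subgroup.mem_centralizer_iff]
      intro q _
      obtain ⟨w, rfl⟩ := hsurj q
      exact hcen x y w
    have := hle hl
    rw [Subgroup.mem_comap, Subgroup.mem_centralizer_iff] at this
    intro w
    exact this (π w) (Set.mem_univ _)
  -- hence trivial
  intro l hl
  have hl' : (⟨l, hl⟩ : ↥L) ∈ commutator ↥L := by
    rw [hLp.commutator_eq_top]; exact Subgroup.mem_top _
  rw [commutator_def] at hl'
  have hker : ⁅(⊤ : Subgroup ↥L), (⊤ : Subgroup ↥L)⁆ ≤ π.ker := by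
    rw [Subgroup.commutator_le]
    intro x _ y _
    rw [MonoidHom.mem_ker, commutatorElement_def, map_mul, map_mul, map_mul, map_inv, map_inv,
      hZ y x, mul_inv_cancel_right, mul_inv_cancel]
  have := hker hl'
  rw [MonoidHom.mem_ker, hπ, QuotientGroup.mk'_apply, QuotientGroup.eq_one_iff,
    Subgroup.mem_subgroupOf] at this
  exact this

theorem conj_conj_of_mul_self (a : X) (ha : a * a = 1) (x : X) :
    a * (a * x * a⁻¹) * a⁻¹ = x := by
  have ha' : a⁻¹ = a := inv_eq_of_mul_eq_one_left ha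
  rw [ha']
  calc a * (a * x * a) * a = (a * a) * x * (a * a) := by group
    _ = x := by rw [ha, one_mul, mul_one]

theorem mem_map_conj_iff (a : X) (D : Subgroup X) (y : X) :
    y ∈ D.map (MulAut.conj a).toMonoidHom ↔ ∃ d ∈ D, a * d * a⁻¹ = y := by
  constructor
  · rintro ⟨d, hd, rfl⟩
    exact ⟨d, hd, rfl⟩
  · rintro ⟨d, hd, rfl⟩
    exact ⟨d, hd, rfl⟩

theorem conj_mem_map_conj (a : X) {D : Subgroup X} {d : X} (hd : d ∈ D) :
    a * d * a⁻¹ ∈ D.map (MulAut.conj a).toMonoidHom :=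
  (mem_map_conj_iff a D _).mpr ⟨d, hd, rfl⟩

/-- conjugation by `a` (`a * a = 1`) maps `D^a` back into `D`. -/
theorem conj_mem_of_mem_map_conj (a : X) (ha : a * a = 1) {D : Subgroup X} {y : X}
    (hy : y ∈ D.map (MulAut.conj a).toMonoidHom) : a * y * a⁻¹ ∈ D := by
  obtain ⟨d, hd, rfl⟩ := (mem_map_conj_iff a D y).mp hy
  rw [conj_conj_of_mul_self a ha]
  exact hd

/-- `D ⊔ D^a` is invariant under conjugation by `a`. -/
theorem conj_mem_sup_map_conj (a : X) (ha : a * a = 1) (D : Subgroup X) {m : X}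
    (hm : m ∈ D ⊔ D.map (MulAut.conj a).toMonoidHom) :
    a * m * a⁻¹ ∈ D ⊔ D.map (MulAut.conj a).toMonoidHom := by
  have hle : D ⊔ D.map (MulAut.conj a).toMonoidHom ≤
      (D ⊔ D.map (MulAut.conj a).toMonoidHom).comap (MulAut.conj a).toMonoidHom := by
    apply sup_le
    · intro d hd
      rw [Subgroup.mem_comap]
      exact (le_sup_right : _ ≤ D ⊔ D.map (MulAut.conj a).toMonoidHom) (conj_mem_map_conj a hd)
    · intro y hy
      rw [Subgroup.mem_comap]
      exact (le_sup_left : D ≤ D ⊔ D.map (MulAut.conj a).toMonoidHom)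
        (conj_mem_of_mem_map_conj a ha hy)
  exact hle hm

/-- an element normalizing `D` normalizes `C_X(D)`. -/
theorem normalizer_le_normalizer_centralizer (D : Subgroup X) :
    Subgroup.normalizer (D : Set X) ≤
      Subgroup.normalizer ((Subgroup.centralizer (D : Set X) : Subgroup X) : Set X) := by
  intro g hg
  have key : ∀ g ∈ Subgroup.normalizer (D : Set X), ∀ c ∈ Subgroup.centralizer (D : Set X),
      g * c * g⁻¹ ∈ Subgroup.centralizer (D : Set X) := by
    intro g hg c hc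
    rw [Subgroup.mem_centralizer_iff]
    intro d hd
    have hd' : g⁻¹ * d * g ∈ D := by
      have := (Subgroup.mem_normalizer_iff.mp (Subgroup.inv_mem _ hg) d).mp hd
      simpa using this
    have h1 := Subgroup.mem_centralizer_iff.mp hc _ hd'
    calc d * (g * c * g⁻¹) = g * ((g⁻¹ * d * g) * c) * g⁻¹ := by group
      _ = g * (c * (g⁻¹ * d * g)) * g⁻¹ := by rw [h1]
      _ = g * c * g⁻¹ * d := by group
  rw [Subgroup.mem_normalizer_iff]
  intro c
  constructor
  · exact key g hg c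
  · intro h
    have := key g⁻¹ (Subgroup.inv_mem _ hg) _ h
    simpa [mul_assoc] using this

/-- central factors drop out of commutators. -/
theorem commutatorElement_mul_central {m n z w : X} (hzn : Commute z n) (hzw : Commute z w)
    (hwm : Commute w m) : ⁅m * z, n * w⁆ = ⁅m, n⁆ := by
  rw [commutatorElement_def, commutatorElement_def]
  have h1 : z * (n * w) * z⁻¹ = n * w := (hzn.mul_right hzw).mul_inv_cancel
  have h2 : w * m⁻¹ * w⁻¹ = m⁻¹ := hwm.inv_right.mul_inv_cancel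
  calc m * z * (n * w) * (m * z)⁻¹ * (n * w)⁻¹
      = m * (z * (n * w) * z⁻¹) * m⁻¹ * w⁻¹ * n⁻¹ := by group
    _ = m * (n * w) * m⁻¹ * w⁻¹ * n⁻¹ := by rw [h1]
    _ = m * n * (w * m⁻¹ * w⁻¹) * n⁻¹ := by group
    _ = m * n * m⁻¹ * n⁻¹ := by rw [h2]

/-- commutator of products of commuting pairs. -/
theorem commutatorElement_mul_mul_of_commute {m n m' n' : X} (h1 : Commute m n')
    (h2 : Commute m' n) (h3 : Commute m m') (h4 : Commute n n') :
    ⁅m * m', n * n'⁆ = ⁅m, n⁆ * ⁅m', n'⁆ := by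
  have hP1 : Commute (m' * n' * m'⁻¹) m⁻¹ :=
    (((h3.symm.mul_left h1.symm).mul_left h3.symm.inv_left)).inv_right
  have hP2 : Commute (m' * n' * m'⁻¹ * n'⁻¹) n⁻¹ :=
    ((((h2.mul_left h4.symm).mul_left h2.inv_left)).mul_left h4.symm.inv_left).inv_right
  rw [commutatorElement_def, commutatorElement_def, commutatorElement_def]
  calc m * m' * (n * n') * (m * m')⁻¹ * (n * n')⁻¹
      = m * (m' * n) * n' * m'⁻¹ * m⁻¹ * n'⁻¹ * n⁻¹ := by group
    _ = m * (n * m') * n' * m'⁻¹ * m⁻¹ * n'⁻¹ * n⁻¹ := by rw [h2.eq]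
    _ = m * n * ((m' * n' * m'⁻¹) * m⁻¹) * n'⁻¹ * n⁻¹ := by group
    _ = m * n * (m⁻¹ * (m' * n' * m'⁻¹)) * n'⁻¹ * n⁻¹ := by rw [hP1.eq]
    _ = m * n * m⁻¹ * ((m' * n' * m'⁻¹ * n'⁻¹) * n⁻¹) := by group
    _ = m * n * m⁻¹ * (n⁻¹ * (m' * n' * m'⁻¹ * n'⁻¹)) := by rw [hP2.eq]
    _ = m * n * m⁻¹ * n⁻¹ * (m' * n' * m'⁻¹ * n'⁻¹) := by group

/-- P1b: the key step of the projection lemma. -/
theorem P1b (a : X) (ha : a * a = 1) {D L : Subgroup X} (hD : IsComponent D)
    (hLa : L ≤ Subgroup.centralizer ({a} : Set X)) (hLE : L ≤ layer X) (hLperf : ⁅L, L⁆ = L)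
    (hc : ∀ x ∈ L, ∀ m ∈ (D ⊔ D.map (MulAut.conj a).toMonoidHom) ⊓
      Subgroup.centralizer ({a} : Set X), x * m = m * x) :
    L ≤ Subgroup.centralizer (D : Set X) := by
  have hDa : IsComponent (D.map (MulAut.conj a).toMonoidHom) :=
    Cfsg.Agent.Lib.Helper2.isComponent_conj a hD
  set Da := D.map (MulAut.conj a).toMonoidHom with hDa_def
  set M := D ⊔ Da with hM
  set M' := layer X ⊓ Subgroup.centralizer (M : Set X) with hM'
  haveI hEn : (layer X).Normal := Cfsg.Agent.Lib.Helper2.layer_normal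
  -- `M` and `M'` commute
  have hMM' : ∀ m ∈ M, ∀ m' ∈ M', Commute m m' := by
    intro m hm m' hm'
    exact Subgroup.mem_centralizer_iff.mp hm'.2 m hm
  -- the layer is `M ⊔ M'`
  have hE : layer X ≤ M ⊔ M' := by
    unfold layer
    apply sSup_le
    intro K hK
    rcases Cfsg.Agent.Lib.Helper2.isComponent_eq_or_commutator_eq_bot hK hD with h1 | h1
    · rw [h1]; exact le_sup_left.trans le_sup_left
    rcases Cfsg.Agent.Lib.Helper2.isComponent_eq_or_commutator_eq_bot hK hDa with h2 | h2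
    · rw [h2]; exact le_sup_right.trans le_sup_left
    refine le_trans ?_ le_sup_right
    refine le_inf (Cfsg.Agent.Lib.Helper2.le_layer hK) ?_
    rw [Subgroup.le_centralizer_iff]
    rw [Subgroup.commutator_eq_bot_iff_le_centralizer, Subgroup.le_centralizer_iff] at h1 h2
    exact sup_le h1 h2
  -- the layer normalizes `M`
  have hEM : ∀ w ∈ layer X, ∀ m ∈ M, w * m * w⁻¹ ∈ M := by
    intro w hw
    have hwD := Cfsg.Agent.Lib.Helper7.LB.layer_le_normalizer hD hw
    have hwDa := Cfsg.Agent.Lib.Helper7.LB.layer_le_normalizer hDa hw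
    have hle : M ≤ M.comap (MulAut.conj w).toMonoidHom := by
      apply sup_le
      · intro d hd
        rw [Subgroup.mem_comap]
        exact (le_sup_left : D ≤ M) ((Subgroup.mem_normalizer_iff.mp hwD d).mp hd)
      · intro d hd
        rw [Subgroup.mem_comap]
        exact (le_sup_right : Da ≤ M) ((Subgroup.mem_normalizer_iff.mp hwDa d).mp hd)
    intro m hm
    exact hle hm
  -- the layer normalizes `M'`
  have hEM' : ∀ w ∈ layer X, ∀ m' ∈ M', w * m' * w⁻¹ ∈ M' := by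
    intro w hw m' hm'
    refine Subgroup.mem_inf.mpr ⟨hEn.conj_mem m' hm'.1 w, ?_⟩
    rw [Subgroup.mem_centralizer_iff]
    intro m hm
    have hm2 : w⁻¹ * m * w ∈ M := by
      have := hEM w⁻¹ (Subgroup.inv_mem _ hw) m hm
      simpa using this
    have h1 := (hMM' _ hm2 m' hm').eq
    calc m * (w * m' * w⁻¹) = w * ((w⁻¹ * m * w) * m') * w⁻¹ := by group
      _ = w * (m' * (w⁻¹ * m * w)) * w⁻¹ := by rw [h1]
      _ = w * m' * w⁻¹ * m := by group
  -- `M'` is invariant under conjugation by `a`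
  have haM' : ∀ m' ∈ M', a * m' * a⁻¹ ∈ M' := by
    intro m' hm'
    refine Subgroup.mem_inf.mpr ⟨hEn.conj_mem m' hm'.1 a, ?_⟩
    rw [Subgroup.mem_centralizer_iff]
    intro m hm
    have hm2 : a * m * a⁻¹ ∈ M := conj_mem_sup_map_conj a ha D hm
    have h1 := (hMM' _ hm2 m' hm').eq
    have ha' : a⁻¹ = a := inv_eq_of_mul_eq_one_left ha
    have e1 : m = a * (a * m * a⁻¹) * a⁻¹ := (conj_conj_of_mul_self a ha m).symm
    calc m * (a * m' * a⁻¹) = a * (a * m * a⁻¹) * a⁻¹ * (a * m' * a⁻¹) := by rw [← e1]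
      _ = a * ((a * m * a⁻¹) * m') * a⁻¹ := by group
      _ = a * (m' * (a * m * a⁻¹)) * a⁻¹ := by rw [h1]
      _ = a * m' * a⁻¹ * (a * (a * m * a⁻¹) * a⁻¹) := by group
      _ = a * m' * a⁻¹ * m := by rw [← e1]
  -- decomposition of the elements of `L`
  have hdec : ∀ x ∈ L, ∃ m ∈ M, ∃ m' ∈ M', x = m * m' ∧
      (m⁻¹ * (a * m * a⁻¹) ∈ M ∧ m⁻¹ * (a * m * a⁻¹) ∈ Subgroup.centralizer (M : Set X)) := by
    intro x hx
    obtain ⟨m, hm, m', hm', hxm⟩ :=
      Cfsg.Agent.Lib.Helper7.BB.exists_mul_of_mem_sup_of_commute hMM' (hE (hLE hx))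
    refine ⟨m, hm, m', hm', hxm, ?_, ?_⟩
    · exact Subgroup.mul_mem _ (Subgroup.inv_mem _ hm) (conj_mem_sup_map_conj a ha D hm)
    · have hax : a * x = x * a :=
        Subgroup.mem_centralizer_iff.mp (hLa hx) a (Set.mem_singleton a)
      have e : m⁻¹ * (a * m * a⁻¹) = m' * (a * m' * a⁻¹)⁻¹ := by
        have h1 : a * (m * m') * a⁻¹ = m * m' := by
          rw [← hxm]
          calc a * x * a⁻¹ = x * a * a⁻¹ := by rw [hax]
            _ = x := by group
        calc m⁻¹ * (a * m * a⁻¹) = m⁻¹ * (a * (m * m') * a⁻¹) * (a * m' * a⁻¹)⁻¹ := by group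
          _ = m⁻¹ * (m * m') * (a * m' * a⁻¹)⁻¹ := by rw [h1]
          _ = m' * (a * m' * a⁻¹)⁻¹ := by group
      rw [e]
      exact (Subgroup.mul_mem _ hm' (Subgroup.inv_mem _ (haM' m' hm'))).2
  -- main argument
  have hLN : L ≤ Subgroup.normalizer ((Subgroup.centralizer (D : Set X) : Subgroup X) : Set X) :=
    (hLE.trans (Cfsg.Agent.Lib.Helper7.LB.layer_le_normalizer hD)).trans
      (normalizer_le_normalizer_centralizer D)
  apply le_of_triple_commutator_mem hLperf hLN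
  intro w hw x hx y hy
  obtain ⟨mx, hmx, mx', hmx', hxm, hzxM, hzxC⟩ := hdec x hx
  obtain ⟨my, hmy, my', hmy', hym, hzyM, hzyC⟩ := hdec y hy
  set zx := mx⁻¹ * (a * mx * a⁻¹) with hzx
  set zy := my⁻¹ * (a * my * a⁻¹) with hzy
  have hzc : ∀ z ∈ Subgroup.centralizer (M : Set X), ∀ m ∈ M, Commute z m := by
    intro z hz m hm
    exact (Subgroup.mem_centralizer_iff.mp hz m hm).symm
  -- `c = ⁅mx, my⁆` is fixed by `a`
  have hcM : ⁅mx, my⁆ ∈ M := by
    rw [commutatorElement_def]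
    exact Subgroup.mul_mem _ (Subgroup.mul_mem _ (Subgroup.mul_mem _ hmx hmy)
      (Subgroup.inv_mem _ hmx)) (Subgroup.inv_mem _ hmy)
  have hca : a * ⁅mx, my⁆ * a⁻¹ = ⁅mx, my⁆ := by
    have e1 : a * ⁅mx, my⁆ * a⁻¹ = ⁅mx * zx, my * zy⁆ := by
      have h1 : a * ⁅mx, my⁆ * a⁻¹ = ⁅a * mx * a⁻¹, a * my * a⁻¹⁆ := by
        rw [commutatorElement_def, commutatorElement_def]
        group
      rw [h1, hzx, hzy]
      congr 1 <;> group
    rw [e1]
    exact commutatorElement_mul_central (hzc zx hzxC my hmy) (hzc zx hzxC zy hzyM)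
      (hzc zy hzyC mx hmx)
  have hcC : ⁅mx, my⁆ ∈ Subgroup.centralizer ({a} : Set X) := by
    rw [Subgroup.mem_centralizer_iff]
    intro h hh
    rw [Set.mem_singleton_iff] at hh
    subst hh
    calc h * ⁅mx, my⁆ = (h * ⁅mx, my⁆ * h⁻¹) * h := by group
      _ = ⁅mx, my⁆ * h := by rw [hca]
  have hwc : w * ⁅mx, my⁆ = ⁅mx, my⁆ * w := hc w hw _ ⟨hcM, hcC⟩
  have hc'M' : ⁅mx', my'⁆ ∈ M' := by
    rw [commutatorElement_def]
    exact Subgroup.mul_mem _ (Subgroup.mul_mem _ (Subgroup.mul_mem _ hmx' hmy')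
      (Subgroup.inv_mem _ hmx')) (Subgroup.inv_mem _ hmy')
  have hxy : ⁅x, y⁆ = ⁅mx, my⁆ * ⁅mx', my'⁆ := by
    rw [hxm, hym]
    exact commutatorElement_mul_mul_of_commute (hMM' mx hmx my' hmy')
      (hMM' my hmy mx' hmx').symm (hMM' mx hmx mx' hmx') (hMM' my hmy my' hmy')
  have htM' : w * ⁅mx', my'⁆ * w⁻¹ * ⁅mx', my'⁆⁻¹ ∈ M' :=
    Subgroup.mul_mem _ (hEM' w (hLE hw) _ hc'M') (Subgroup.inv_mem _ hc'M')
  have hfin : ⁅w, ⁅x, y⁆⁆ = w * ⁅mx', my'⁆ * w⁻¹ * ⁅mx', my'⁆⁻¹ := by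
    rw [hxy, commutatorElement_def w]
    calc w * (⁅mx, my⁆ * ⁅mx', my'⁆) * w⁻¹ * (⁅mx, my⁆ * ⁅mx', my'⁆)⁻¹
        = (w * ⁅mx, my⁆) * ⁅mx', my'⁆ * w⁻¹ * ⁅mx', my'⁆⁻¹ * ⁅mx, my⁆⁻¹ := by group
      _ = (⁅mx, my⁆ * w) * ⁅mx', my'⁆ * w⁻¹ * ⁅mx', my'⁆⁻¹ * ⁅mx, my⁆⁻¹ := by rw [hwc]
      _ = ⁅mx, my⁆ * (w * ⁅mx', my'⁆ * w⁻¹ * ⁅mx', my'⁆⁻¹) * ⁅mx, my⁆⁻¹ := by group
      _ = w * ⁅mx', my'⁆ * w⁻¹ * ⁅mx', my'⁆⁻¹ := (hMM' _ hcM _ htM').mul_inv_cancel
  rw [hfin]
  exact Subgroup.centralizer_le (show (D : Set X) ⊆ (M : Set X) from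
    fun d hd => (le_sup_left : D ≤ M) hd) htM'.2

theorem mem_normalizer_sup_of_mem {A B : Subgroup X} {g : X}
    (hA : g ∈ Subgroup.normalizer (A : Set X)) (hB : g ∈ Subgroup.normalizer (B : Set X)) :
    g ∈ Subgroup.normalizer ((A ⊔ B : Subgroup X) : Set X) := by
  rw [Subgroup.mem_normalizer_iff_map_conj_eq] at hA hB ⊢
  rw [Subgroup.map_sup, hA, hB]

/-- perfectness of a subgroup from perfectness of its copy in a larger subgroup. -/
theorem perfect_of_subgroupOf_perfect {L C : Subgroup X} (hLC : L ≤ C)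
    (h : ⁅L.subgroupOf C, L.subgroupOf C⁆ = L.subgroupOf C) : ⁅L, L⁆ = L := by
  have h1 := congrArg (Subgroup.map C.subtype) h
  rw [Subgroup.map_commutator, Subgroup.map_subgroupOf_eq_of_le hLC] at h1
  exact h1

/-- P1 (projection lemma). -/
theorem P1 [Finite X] (a : X) (ha : a * a = 1) (L : Subgroup X)
    (hLa : L ≤ Subgroup.centralizer ({a} : Set X))
    (hL : IsComponent (L.subgroupOf (Subgroup.centralizer ({a} : Set X))))
    (hLE : L ≤ layer X) :
    ∃ D : Subgroup X, IsComponent D ∧ L ≤ D ⊔ D.map (MulAut.conj a).toMonoidHom := by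
  set C := Subgroup.centralizer ({a} : Set X) with hC
  have hLperf : ⁅L, L⁆ = L :=
    perfect_of_subgroupOf_perfect hLa (Cfsg.Agent.Lib.Helper2.isComponent_perfect hL)
  have hLne : L ≠ ⊥ := by
    intro h0
    apply Cfsg.Agent.Lib.Helper2.isComponent_ne_bot hL
    rw [h0]
    exact Subgroup.bot_subgroupOf C
  -- a component not centralized by `L`
  have hex : ∃ D : Subgroup X, IsComponent D ∧ ¬ L ≤ Subgroup.centralizer (D : Set X) := by
    by_contra hcon
    simp only [not_exists, not_and, not_not] at hcon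
    have h1 : layer X ≤ Subgroup.centralizer (L : Set X) := by
      unfold layer
      apply sSup_le
      intro D hD
      rw [Subgroup.le_centralizer_iff]
      exact hcon D hD
    have h2 : ⁅L, L⁆ = ⊥ := by
      rw [Subgroup.commutator_eq_bot_iff_le_centralizer]
      exact hLE.trans h1
    rw [hLperf] at h2
    exact hLne h2
  obtain ⟨D, hD, hLD⟩ := hex
  refine ⟨D, hD, ?_⟩
  have hDa : IsComponent (D.map (MulAut.conj a).toMonoidHom) :=
    Cfsg.Agent.Lib.Helper2.isComponent_conj a hD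
  set M := D ⊔ D.map (MulAut.conj a).toMonoidHom with hM
  have hLM : L ≤ Subgroup.normalizer (M : Set X) := by
    intro l hl
    exact mem_normalizer_sup_of_mem
      (Cfsg.Agent.Lib.Helper7.LB.layer_le_normalizer hD (hLE hl))
      (Cfsg.Agent.Lib.Helper7.LB.layer_le_normalizer hDa (hLE hl))
  have hLN : L.subgroupOf C ≤ Subgroup.normalizer ((M.subgroupOf C : Subgroup ↥C) : Set ↥C) := by
    intro l hl
    have h1 : (l : X) ∈ Subgroup.normalizer (M : Set X) := hLM (Subgroup.mem_subgroupOf.mp hl)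
    exact Subgroup.le_normalizer_comap C.subtype (Subgroup.mem_comap.mpr h1)
  rcases Cfsg.Agent.Lib.Helper2.isComponent_le_or_commutator_eq_bot_of_le_normalizer hL hLN
    with h | h
  · intro l hl
    have : (⟨l, hLa hl⟩ : ↥C) ∈ M.subgroupOf C := h (Subgroup.mem_subgroupOf.mpr hl)
    exact Subgroup.mem_subgroupOf.mp this
  · exfalso
    apply hLD
    apply P1b a ha hD hLa hLE hLperf
    intro x hx m hm
    rw [Subgroup.commutator_eq_bot_iff_le_centralizer] at h
    have hmN : (⟨m, hm.2⟩ : ↥C) ∈ M.subgroupOf C := Subgroup.mem_subgroupOf.mpr hm.1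
    have hxL : (⟨x, hLa hx⟩ : ↥C) ∈ L.subgroupOf C := Subgroup.mem_subgroupOf.mpr hx
    have := Subgroup.mem_centralizer_iff.mp (h hmN) _ hxL
    exact congrArg Subtype.val this

end Cfsg.Agent.Lib.Helper9.CMX
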