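import Mathlib
import Cfsg.Agent.Lib.Helper9.CMXP1

/-! Farm CMX (S1305), unit CORE with the diagonal lemma DG as an explicit hypothesis. -/

set_option autoImplicit false

namespace Cfsg.Agent.Lib.Helper9.CMX

open Cfsg
open scoped commutatorElement

universe u

variable {X : Type u} [Group X]

/-- CORE with DG as a hypothesis `hDG`. -/
theorem CORE_of_DG [Finite X] (a : X) (ha : a * a = 1)
    (hDG : ∀ {D L : Subgroup X}, IsComponent D → D.map (MulAut.conj a).toMonoidHom ≠ D →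
      ⁅L, L⁆ = L →
      L ≤ (D ⊔ D.map (MulAut.conj a).toMonoidHom) ⊓ Subgroup.centralizer ({a} : Set X) →
      Nat.card D ≤ Nat.card L →
      (∀ d ∈ D, d * (a * d * a⁻¹) ∈ L) ∧ (∀ x ∈ L, ∃ d ∈ D, x = d * (a * d * a⁻¹)) ∧
        (∀ d ∈ D, d * (a * d * a⁻¹) = 1 → d = 1) ∧ Nat.card D = Nat.card L)
    (L : Subgroup X)
    (hLa : L ≤ Subgroup.centralizer ({a} : Set X))
    (hL : IsComponent (L.subgroupOf (Subgroup.centralizer ({a} : Set X))))
    (hLE : L ≤ layer X)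
    (hmax : ∀ D : Subgroup X, IsComponent D → Nat.card D ≤ Nat.card L) :
    IsComponent L ∨ ∃ D : Subgroup X, IsComponent D ∧ D.map (MulAut.conj a).toMonoidHom ≠ D ∧
      (∀ d ∈ D, d * (a * d * a⁻¹) ∈ L) ∧ (∀ x ∈ L, ∃ d ∈ D, x = d * (a * d * a⁻¹)) ∧
      (∀ d ∈ D, d * (a * d * a⁻¹) = 1 → d = 1) ∧ Nat.card D = Nat.card L := by
  obtain ⟨D, hD, hLD⟩ := P1 a ha L hLa hL hLE
  have hLperf : ⁅L, L⁆ = L :=
    perfect_of_subgroupOf_perfect hLa (Cfsg.Agent.Lib.Helper2.isComponent_perfect hL)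
  by_cases hDa : D.map (MulAut.conj a).toMonoidHom = D
  · left
    rw [hDa, sup_idem] at hLD
    have hLD' : L = D := Subgroup.eq_of_le_of_card_ge hLD (hmax D hD)
    rw [hLD']
    exact hD
  · right
    exact ⟨D, hD, hDa, hDG hD hDa hLperf (le_inf hLD hLa) (hmax D hD)⟩

end Cfsg.Agent.Lib.Helper9.CMX
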