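import Mathlib
import Cfsg.Agent.Lib.Helper9.CMXCOREpre
import Cfsg.Agent.Lib.Helper7.CMXDG

/-! Farm CMX (S1305), unit CORE: assembly of P1 (projection lemma) and DG (diagonal lemma). -/

set_option autoImplicit false

namespace Cfsg.Agent.Lib.Helper9.CMX

open Cfsg

universe u

variable {X : Type u} [Group X]

theorem CORE [Finite X] (a : X) (ha : a * a = 1) (L : Subgroup X)
    (hLa : L ≤ Subgroup.centralizer ({a} : Set X))
    (hL : IsComponent (L.subgroupOf (Subgroup.centralizer ({a} : Set X))))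
    (hLE : L ≤ layer X)
    (hmax : ∀ D : Subgroup X, IsComponent D → Nat.card D ≤ Nat.card L) :
    IsComponent L ∨ ∃ D : Subgroup X, IsComponent D ∧ D.map (MulAut.conj a).toMonoidHom ≠ D ∧
      (∀ d ∈ D, d * (a * d * a⁻¹) ∈ L) ∧ (∀ x ∈ L, ∃ d ∈ D, x = d * (a * d * a⁻¹)) ∧
      (∀ d ∈ D, d * (a * d * a⁻¹) = 1 → d = 1) ∧ Nat.card D = Nat.card L :=
  CORE_of_DG a ha
    (fun hD hDa hLperf hL hcard => Cfsg.Agent.Lib.Helper7.CMX.DG a ha hD hDa hLperf hL hcard)
    L hLa hL hLE hmax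

end Cfsg.Agent.Lib.Helper9.CMX
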