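import Cfsg.Agent.Lib.Helper9.Co3d
import Cfsg.Prelude.Def_Spor_Conway

set_option autoImplicit false
set_option maxHeartbeats 0
set_option maxRecDepth 1000000

/-! The third Conway group of the definitions is isomorphic to the permutation group of
`Co3c`. -/

namespace Cfsg.Agent.Lib.Helper9.Co3e

open Cfsg Cfsg.Agent.Lib.Helper4.Leech Cfsg.Agent.Lib.Helper9.Golay1
  Cfsg.Agent.Lib.Helper9.LeechM1 Cfsg.Agent.Lib.Helper9.LeechX4
  Cfsg.Agent.Lib.Helper9.LeechX7 Cfsg.Agent.Lib.Helper9.LeechX8 Cfsg.Agent.Lib.Helper9.LeechX9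
  Cfsg.Agent.Lib.Helper9.LeechX11
  Cfsg.Agent.Lib.Helper9.LeechE3 Cfsg.Agent.Lib.Helper9.LeechE4 Cfsg.Agent.Lib.Helper9.LeechE5
  Cfsg.Agent.Lib.Helper9.LeechC7
  Cfsg.Agent.Lib.Helper9.OrbCert1 Cfsg.Agent.Lib.Helper9.OrbCert3
  Cfsg.Agent.Lib.Helper9.Co3simple1 Cfsg.Agent.Lib.Helper9.Co3simple2
  Cfsg.Agent.Lib.Helper9.Co3simple3
  Cfsg.Agent.Lib.Helper9.Co3a Cfsg.Agent.Lib.Helper9.Co3d
  Cfsg.Agent.Lib.Helper8.SS

/-- the points -/
def pt (i : Fin 552) : ↥co3Sub :=
  ⟨⟨vecN (C.getD i.1 0), mem_all i.1 i.2⟩, props_all i.1 i.2⟩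

theorem pt_val (i : Fin 552) : (pt i).1.1 = vecN (C.getD i.1 0) := rfl

theorem pt_inj : Function.Injective pt := by
  intro i j h
  have h1 : vecN (C.getD i.1 0) = vecN (C.getD j.1 0) := by
    rw [← pt_val, ← pt_val, h]
  apply Fin.ext
  apply C_inj i.1 i.2 j.1 j.2
  apply code_inj _ _ (C_lt i.1 i.2) (C_lt j.1 j.2)
  intro k hk
  rw [← vecN_unidx _ k hk, ← vecN_unidx _ k hk, h1]

theorem pt_bij : Function.Bijective pt := by
  apply Function.Injective.bijective_of_nat_card_le pt_inj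
  rw [hX, Nat.card_eq_fintype_card, Fintype.card_fin]

/-- the numbering of the points -/
noncomputable def e3 : Fin 552 ≃ ↥co3Sub := Equiv.ofBijective pt pt_bij

theorem e3_apply (i : Fin 552) : e3 i = pt i := rfl

/-- the action on the numbers of the points -/
noncomputable def phi : ↥G3 →* Equiv.Perm (Fin 552) :=
  (e3.symm.permCongrHom : Equiv.Perm ↥co3Sub ≃* Equiv.Perm (Fin 552)).toMonoidHom.comp
    (MulAction.toPermHom ↥G3 ↥co3Sub)

theorem phi_eq (g : ↥G3) (i j : Fin 552) (h : g • pt i = pt j) : phi g i = j := by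
  show e3.symm (g • (e3.symm.symm i)) = j
  rw [Equiv.symm_symm, e3_apply, h, ← e3_apply, Equiv.symm_apply_apply]

/-- building elements of the group -/
def mk3 (g : Equiv.Perm leechLattice) (hg : Good g) : ↥G3 :=
  ⟨⟨g, hg.1⟩, (mem_G3 _).mpr hg.2⟩

theorem phi_gen (g : ℕ) (hg : g < 2) :
    phi (mk3 (gen g) (gen_good g)) = P 552 pN pM (g + 1) := by
  apply Equiv.ext
  intro i
  apply phi_eq
  apply Subtype.ext
  apply Subtype.ext
  show ((gen g) (pt i).1).1 = vecN (C.getD ((P 552 pN pM (g + 1)) i).1 0)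
  rw [P_apply_val valid_all (by omega : g + 1 < 1191)]
  exact step_spec g _ _ (act_ok g hg i.1 i.2) (pt i).1 rfl

theorem ne1 : ∃ x < 552, get (pN 1) x ≠ x := by decide +kernel

theorem phi_inj : Function.Injective phi := by
  haveI := simple_G3
  rw [← MonoidHom.ker_eq_bot_iff]
  rcases (MonoidHom.normal_ker phi).eq_bot_or_eq_top with h | h
  · exact h
  · exfalso
    have hm : mk3 (gen 0) (gen_good 0) ∈ phi.ker := by rw [h]; trivial
    rw [MonoidHom.mem_ker, phi_gen 0 (by norm_num)] at hm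
    obtain ⟨x, hx, hne⟩ := ne1
    apply hne
    have h2 := P_apply_val valid_all (by norm_num : 0 + 1 < 1191) (⟨x, hx⟩ : Fin 552)
    rw [hm] at h2
    exact h2.symm

theorem range_phi : phi.range = K := by
  symm
  apply Subgroup.eq_of_le_of_card_ge
  · rw [K_eq]
    apply (Subgroup.closure_le _).mpr
    rintro g ⟨i, hi, rfl⟩
    simp only [List.mem_cons, List.mem_nil_iff, or_false] at hi
    rcases hi with rfl | rfl
    · exact ⟨_, phi_gen 0 (by norm_num)⟩
    · exact ⟨_, phi_gen 1 (by norm_num)⟩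
  · have h1 : Nat.card phi.range = Nat.card ↥G3 :=
      (Nat.card_congr (MonoidHom.ofInjective phi_inj).toEquiv).symm
    have h2 := Cfsg.Agent.Lib.Helper9.SST.chainT_lower (pM := pM) valid_all id_tab _ chain
    have h3 : Cfsg.Agent.Lib.Helper9.SST.sizeOf [L0, L1, L2, L3, L4, L5] = 495766656000 := by
      decide +kernel
    rw [h1, card_G3, ← h3]
    exact h2

theorem card_K' : Nat.card K = 495766656000 := by
  rw [← range_phi, ← card_G3]
  exact (Nat.card_congr (MonoidHom.ofInjective phi_inj).toEquiv).symm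

/-- the isomorphism with the permutation group -/
noncomputable def iso3 : ↥G3 ≃* ↥K :=
  (MonoidHom.ofInjective phi_inj).trans (MulEquiv.subgroupCongr range_phi)

theorem leechV_eq : Spor.leechV = -rG := by
  apply Subtype.ext
  funext k
  show Spor.vecV k = -(rG.1 k)
  revert k
  decide +kernel

theorem mem_Co3 (f : Equiv.Perm leechLattice) : f ∈ Spor.Co3 ↔ f ∈ Co0 ∧ f rG = rG := by
  unfold Spor.Co3
  rw [Subgroup.mem_inf, MulAction.mem_stabilizer_iff, Equiv.Perm.smul_def, leechV_eq]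
  constructor
  · rintro ⟨h1, h2⟩
    rw [co0_neg f h1] at h2
    exact ⟨h1, neg_injective h2⟩
  · rintro ⟨h1, h2⟩
    refine ⟨h1, ?_⟩
    rw [co0_neg f h1, h2]

/-- the group of the definitions as a subgroup of the automorphism group of the lattice -/
def isoA : ↥Spor.Co3 ≃* ↥G3 where
  toFun f := ⟨⟨f.1, ((mem_Co3 f.1).mp f.2).1⟩, (mem_G3 _).mpr ((mem_Co3 f.1).mp f.2).2⟩
  invFun g := ⟨g.1.1, (mem_Co3 g.1.1).mpr ⟨g.1.2, (mem_G3 g.1).mp g.2⟩⟩
  left_inv _ := rfl
  right_inv _ := rfl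
  map_mul' _ _ := rfl

/-- the third Conway group is the permutation group of degree 552 -/
theorem iso_K : Nonempty (↥Spor.Co3 ≃* ↥K) := ⟨isoA.trans iso3⟩

end Cfsg.Agent.Lib.Helper9.Co3e

namespace Cfsg.Agent.Lib.Helper9.Co3a

theorem card_K : Nat.card K = 495766656000 := Cfsg.Agent.Lib.Helper9.Co3e.card_K'

end Cfsg.Agent.Lib.Helper9.Co3a
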