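import Cfsg.Agent.Lib.Helper9.HSsimple2

set_option autoImplicit false

/-! The point stabiliser is the Mathieu group of degree 22; simplicity and order. -/

namespace Cfsg.Agent.Lib.Helper9.HSsimple3

open Cfsg Finset Cfsg.Agent.Lib.Helper4.Leech Cfsg.Agent.Lib.Helper9.LeechM1
  Cfsg.Agent.Lib.Helper9.LeechM2 Cfsg.Agent.Lib.Helper9.LeechM4
  Cfsg.Agent.Lib.Helper9.LeechX8 Cfsg.Agent.Lib.Helper9.LeechX9
  Cfsg.Agent.Lib.Helper9.LeechX11
  Cfsg.Agent.Lib.Helper9.LeechE3 Cfsg.Agent.Lib.Helper9.LeechE4 Cfsg.Agent.Lib.Helper9.LeechE5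
  Cfsg.Agent.Lib.Helper9.LeechE8 Cfsg.Agent.Lib.Helper9.LeechE9
  Cfsg.Agent.Lib.Helper9.HSsimple1 Cfsg.Agent.Lib.Helper9.HSsimple2
  Cfsg.Agent.Lib.Helper9.PrimSimple1

/-- the Mathieu group of degree 22 -/
abbrev M22 : Type := ↥(MulAction.stabilizer Cfsg.M24 (none : GolayPt) ⊓
  MulAction.stabilizer Cfsg.M24 (some 0 : GolayPt))

theorem M22_fix (t : M22) : t.1.1 none = none ∧ t.1.1 (some 0) = some 0 := by
  have h := t.2
  have h1 : t.1 ∈ MulAction.stabilizer Cfsg.M24 (none : GolayPt) := h.1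
  have h2 : t.1 ∈ MulAction.stabilizer Cfsg.M24 (some 0 : GolayPt) := h.2
  rw [MulAction.mem_stabilizer_iff] at h1 h2
  exact ⟨h1, h2⟩

/-- the embedding of the Mathieu group -/
def psi : M22 →* ↥G0 where
  toFun t := mkG (prm t.1.1 t.1.2) (prm_mem _ _)
    (prm_fix t.1.1 t.1.2 (M22_fix t).1 (M22_fix t).2).1
    (prm_fix t.1.1 t.1.2 (M22_fix t).1 (M22_fix t).2).2.1
  map_one' := by
    apply Subtype.ext
    apply Subtype.ext
    apply Equiv.ext
    intro v
    rfl
  map_mul' s t := by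
    apply Subtype.ext
    apply Subtype.ext
    exact prm_mul s.1.1 t.1.1 s.1.2 t.1.2

theorem psi_val (t : M22) : (psi t).1.1 = prm t.1.1 t.1.2 := rfl

theorem psi_inj : Function.Injective psi := by
  intro s t h
  have h1 : (psi s).1.1 = (psi t).1.1 := by rw [h]
  rw [psi_val, psi_val] at h1
  exact Subtype.ext (Subtype.ext (prm_inj _ _ _ _ h1))

theorem psi_range : psi.range = MulAction.stabilizer ↥G0 x0 := by
  ext g
  rw [MonoidHom.mem_range, MulAction.mem_stabilizer_iff]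
  constructor
  · rintro ⟨t, rfl⟩
    apply Subtype.ext
    show (psi t).1.1 rA = rA
    rw [psi_val]
    exact (prm_fix t.1.1 t.1.2 (M22_fix t).1 (M22_fix t).2).2.2
  · intro hg
    have h3 : g.1.1 rA = rA := congrArg Subtype.val hg
    have h12 := (mem_G0 g.1).mp g.2
    obtain ⟨σ, hσ, hn, h0, hf⟩ := fix_triple g.1.1 g.1.2 h12.1 h12.2 h3
    refine ⟨⟨⟨σ, hσ⟩, ?_, ?_⟩, ?_⟩
    · exact MulAction.mem_stabilizer_iff.mpr hn
    · exact MulAction.mem_stabilizer_iff.mpr h0
    · apply Subtype.ext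
      apply Subtype.ext
      rw [psi_val]
      exact hf.symm

/-- the point stabiliser is the Mathieu group -/
noncomputable def stabEquiv : M22 ≃* ↥(MulAction.stabilizer ↥G0 x0) :=
  (MonoidHom.ofInjective psi_inj).trans (MulEquiv.subgroupCongr psi_range)

theorem stab_simple : IsSimpleGroup ↥(MulAction.stabilizer ↥G0 x0) := by
  have : IsSimpleGroup M22 := Cfsg.Agent.S0379.result none (some 0) (by decide)
  exact stabEquiv.symm.isSimpleGroup

theorem stab_card : Nat.card ↥(MulAction.stabilizer ↥G0 x0) = 443520 := by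
  rw [← Nat.card_congr stabEquiv.toEquiv]
  exact Cfsg.Agent.S0378.result none (some 0) (by decide)

theorem card_G0 : Nat.card ↥G0 = 44352000 := by
  have h1 := Nat.card_congr (MulAction.orbitProdStabilizerEquivGroup ↥G0 x0)
  rw [Nat.card_prod, stab_card] at h1
  have h2 : MulAction.orbit ↥G0 x0 = Set.univ := by
    ext y
    simp only [Set.mem_univ, iff_true]
    obtain ⟨g, hg⟩ := htrans x0 y
    exact ⟨g, hg⟩
  rw [h2, Nat.card_congr (Equiv.Set.univ _), hX] at h1
  omega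

instance : Finite ↥G0 := by
  apply Nat.finite_of_card_ne_zero
  rw [card_G0]
  norm_num

theorem simple_G0 : IsSimpleGroup ↥G0 :=
  simple_of_rank3 htrans x0 setA setB hcover hxA hxB hA hB hcA hcB hX card_G0 stab_simple

end Cfsg.Agent.Lib.Helper9.HSsimple3
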