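import Mathlib
import Cfsg.Prelude

set_option autoImplicit false

namespace Cfsg.Agent.Lib.Helper9.J2C

variable {R : Type*} [Group R]

/-- four distinct elements exhaust a set of cardinality 4 -/
theorem four_exhaust (U : Subgroup R) (hU : Nat.card U = 4) (a b c d : R)
    (ha : a ∈ U) (hb : b ∈ U) (hc : c ∈ U) (hd : d ∈ U)
    (hab : a ≠ b) (hac : a ≠ c) (had : a ≠ d) (hbc : b ≠ c) (hbd : b ≠ d) (hcd : c ≠ d) :
    ∀ u ∈ U, u = a ∨ u = b ∨ u = c ∨ u = d := by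
  classical
  have : Finite U := Nat.finite_of_card_ne_zero (by omega)
  letI : Fintype U := Fintype.ofFinite U
  let S : Finset U := {⟨a, ha⟩, ⟨b, hb⟩, ⟨c, hc⟩, ⟨d, hd⟩}
  have hS : S.card = 4 := by
    have h1 : (⟨a, ha⟩ : U) ≠ ⟨b, hb⟩ := fun h => hab (congrArg Subtype.val h)
    have h2 : (⟨a, ha⟩ : U) ≠ ⟨c, hc⟩ := fun h => hac (congrArg Subtype.val h)
    have h3 : (⟨a, ha⟩ : U) ≠ ⟨d, hd⟩ := fun h => had (congrArg Subtype.val h)
    have h4 : (⟨b, hb⟩ : U) ≠ ⟨c, hc⟩ := fun h => hbc (congrArg Subtype.val h)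
    have h5 : (⟨b, hb⟩ : U) ≠ ⟨d, hd⟩ := fun h => hbd (congrArg Subtype.val h)
    have h6 : (⟨c, hc⟩ : U) ≠ ⟨d, hd⟩ := fun h => hcd (congrArg Subtype.val h)
    simp only [S]
    rw [Finset.card_insert_of_notMem, Finset.card_insert_of_notMem, Finset.card_insert_of_notMem,
      Finset.card_singleton]
    · simpa using h6
    · simp only [Finset.mem_insert, Finset.mem_singleton, not_or]; exact ⟨h4, h5⟩
    · simp only [Finset.mem_insert, Finset.mem_singleton, not_or]; exact ⟨h1, h2, h3⟩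
  have hSu : S = Finset.univ := by
    apply Finset.eq_univ_of_card
    rw [hS, ← Nat.card_eq_fintype_card, hU]
  intro u hu
  have : (⟨u, hu⟩ : U) ∈ S := by rw [hSu]; exact Finset.mem_univ _
  simp only [S, Finset.mem_insert, Finset.mem_singleton, Subtype.mk.injEq] at this
  exact this

/-- the action of an element `ρ` of order 3 on a four-group `U` not centralizing `z ∈ U`. -/
theorem act_on_U (U : Subgroup R) (hU : Nat.card U = 4) (hU2 : ∀ u ∈ U, u * u = 1)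
    (z ρ : R) (hzU : z ∈ U) (hz1 : z ≠ 1) (hρ3 : ρ ^ 3 = 1)
    (hρU : ∀ u ∈ U, ρ * u * ρ⁻¹ ∈ U) (hnc : ρ * z ≠ z * ρ) :
    ρ * z * ρ⁻¹ ∈ U ∧ ρ * z * ρ⁻¹ ≠ 1 ∧ ρ * z * ρ⁻¹ ≠ z ∧
    ρ * (ρ * z * ρ⁻¹) * ρ⁻¹ = z * (ρ * z * ρ⁻¹) ∧
    (∀ u ∈ U, u = 1 ∨ u = z ∨ u = ρ * z * ρ⁻¹ ∨ u = z * (ρ * z * ρ⁻¹)) := by
  set z' := ρ * z * ρ⁻¹ with hz'
  have hz'U : z' ∈ U := hρU z hzU
  have hz'1 : z' ≠ 1 := by
    intro h
    apply hz1
    have : z = ρ⁻¹ * z' * ρ := by rw [hz']; group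
    rw [this, h]; group
  have hz'z : z' ≠ z := by
    intro h
    apply hnc
    have : ρ * z = z' * ρ := by rw [hz']; group
    rw [this, h]
  have hzz : z * z = 1 := hU2 z hzU
  have hz'z' : z' * z' = 1 := hU2 z' hz'U
  have hprodU : z * z' ∈ U := U.mul_mem hzU hz'U
  have hcomm : z * z' = z' * z := by
    have h1 := hU2 _ hprodU
    -- (z z')(z z') = 1 → z' z = z z'
    calc z * z' = z * z' * ((z' * z) * (z' * z)⁻¹) := by group
      _ = (z * (z' * z') * z) * (z' * z)⁻¹ := by group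
      _ = (z' * z)⁻¹ := by rw [hz'z', mul_one, hzz, one_mul]
      _ = z' * z := by
          rw [inv_eq_iff_mul_eq_one]
          calc z' * z * (z' * z) = z' * (z * z' * z) := by group
            _ = z' * (z * z' * (z * z') * z'⁻¹) := by group
            _ = 1 := by rw [h1]; group
  have h4 := four_exhaust U hU 1 z z' (z * z') U.one_mem hzU hz'U hprodU
    (Ne.symm hz1) (Ne.symm hz'1)
    (by intro h; apply hz'z; calc z' = z * (z * z') := by rw [← mul_assoc, hzz, one_mul]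
                                  _ = z := by rw [← h, mul_one])
    (Ne.symm hz'z)
    (by intro h; apply hz'1; calc z' = z⁻¹ * (z * z') := by group
                                  _ = 1 := by rw [← h]; group)
    (by intro h; apply hz1; calc z = (z * z') * z'⁻¹ := by group
                                 _ = 1 := by rw [← h]; group)
  refine ⟨hz'U, hz'1, hz'z, ?_, h4⟩
  set z'' := ρ * z' * ρ⁻¹ with hz''
  have hz''U : z'' ∈ U := hρU z' hz'U
  rcases h4 z'' hz''U with h | h | h | h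
  · exfalso; apply hz'1
    have : z' = ρ⁻¹ * z'' * ρ := by rw [hz'']; group
    rw [this, h]; group
  · exfalso; apply hnc
    -- ρ² z ρ⁻² = z, ρ³ = 1 ⇒ ρ⁻¹ z ρ = z
    have h1 : ρ * (ρ * z * ρ⁻¹) * ρ⁻¹ = z := by
      rw [← hz', ← hz'']; exact h
    have h2 : ρ⁻¹ = ρ * ρ := by
      rw [inv_eq_iff_mul_eq_one]
      calc ρ * (ρ * ρ) = ρ ^ 3 := by rw [pow_succ, pow_two, mul_assoc]
        _ = 1 := hρ3
    have h3 : ρ⁻¹ * z = z * ρ⁻¹ := by
      calc ρ⁻¹ * z = ρ⁻¹ * (ρ * (ρ * z * ρ⁻¹) * ρ⁻¹) := by rw [h1]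
        _ = ρ * z * (ρ⁻¹ * ρ⁻¹) := by group
        _ = ρ * z * (ρ⁻¹ * (ρ * ρ)) := by rw [← h2]
        _ = (ρ * ρ) * ρ⁻¹ * z * ρ := by group
        _ = ρ⁻¹ * ρ⁻¹ * z * ρ := by rw [← h2]
        _ = ρ⁻¹ * (ρ⁻¹ * z) * ρ := by group
        _ = ρ⁻¹ * (ρ⁻¹ * (ρ * (ρ * z * ρ⁻¹) * ρ⁻¹)) * ρ := by rw [h1]
        _ = z * ρ⁻¹ := by group
    calc ρ * z = ρ * (z * ρ⁻¹) * ρ := by group
      _ = ρ * (ρ⁻¹ * z) * ρ := by rw [h3]
      _ = z * ρ := by group
  · exfalso; apply hz'z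
    have : z' = ρ⁻¹ * z'' * ρ := by rw [hz'']; group
    rw [this, h, hz']; group
  · exact h

end Cfsg.Agent.Lib.Helper9.J2C
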