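import Mathlib
import Cfsg.Prelude
import Cfsg.Agent.Lib.Helper9.J2Ca

set_option autoImplicit false
set_option linter.style.haveILetI false

namespace Cfsg.Agent.Lib.Helper9.J2C

variable {R : Type*} [Group R]

/-- number of fixed points of an element of order 3 normalizing a finite subgroup -/
theorem card_fixed_mod3 (E : Subgroup R) [Finite E] (ρ : R) (hρ3 : ρ ^ 3 = 1)
    (hρE : ∀ e ∈ E, ρ * e * ρ⁻¹ ∈ E) :
    Nat.card (E ⊓ Subgroup.centralizer ({ρ} : Set R) : Subgroup R) ≡ Nat.card E [MOD 3] := by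
  classical
  letI : Fintype E := Fintype.ofFinite E
  let f : Function.End E := fun e => ⟨ρ * e.1 * ρ⁻¹, hρE e.1 e.2⟩
  have hf : f ^ 3 ^ 1 = 1 := by
    funext e
    apply Subtype.ext
    show ρ * (ρ * (ρ * e.1 * ρ⁻¹) * ρ⁻¹) * ρ⁻¹ = e.1
    have h2 : ρ⁻¹ = ρ * ρ := by
      rw [inv_eq_iff_mul_eq_one]
      calc ρ * (ρ * ρ) = ρ ^ 3 := by rw [pow_succ, pow_two, mul_assoc]
        _ = 1 := hρ3
    calc ρ * (ρ * (ρ * e.1 * ρ⁻¹) * ρ⁻¹) * ρ⁻¹ = (ρ * (ρ * ρ)) * e.1 * (ρ * (ρ * ρ))⁻¹ := by group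
      _ = e.1 := by rw [← h2]; group
  haveI : Fact (Nat.Prime 3) := ⟨by norm_num⟩
  have key := Equiv.Perm.card_fixedPoints_modEq (p := 3) (n := 1) hf
  have hcard : Nat.card (E ⊓ Subgroup.centralizer ({ρ} : Set R) : Subgroup R) =
      Fintype.card (Function.fixedPoints f) := by
    rw [← Nat.card_eq_fintype_card]
    apply Nat.card_congr
    refine Equiv.ofBijective (fun x => ⟨⟨x.1, (Subgroup.mem_inf.mp x.2).1⟩, ?_⟩) ⟨?_, ?_⟩
    · show f _ = _
      apply Subtype.ext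
      show ρ * x.1 * ρ⁻¹ = x.1
      have := (Subgroup.mem_inf.mp x.2).2
      rw [Subgroup.mem_centralizer_iff] at this
      have h := this ρ (Set.mem_singleton ρ)
      rw [h]; group
    · intro x y h
      apply Subtype.ext
      have := congrArg (fun w => (w.1 : E).1) h
      exact this
    · rintro ⟨⟨e, he⟩, hfix⟩
      have h1 : ρ * e * ρ⁻¹ = e := congrArg Subtype.val hfix
      refine ⟨⟨e, Subgroup.mem_inf.mpr ⟨he, ?_⟩⟩, rfl⟩
      rw [Subgroup.mem_centralizer_iff]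
      intro g hg
      rw [Set.mem_singleton_iff] at hg
      subst hg
      calc g * e = (g * e * g⁻¹) * g := by group
        _ = e * g := by rw [h1]
  rw [hcard, Nat.card_eq_fintype_card]
  exact key.symm

end Cfsg.Agent.Lib.Helper9.J2C
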