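import Mathlib
import Cfsg.Prelude
import Cfsg.Agent.Lib.Helper9.J2Cb
import Cfsg.Agent.Lib.Helper1.AbelianSylow

set_option autoImplicit false
set_option linter.style.haveILetI false

namespace Cfsg.Agent.Lib.Helper9.J2C

theorem arith1 (n : ℕ) (hd : n ∣ 16) (hm : n ≡ 16 [MOD 3]) (h1 : n ≠ 1) (h16 : n ≠ 16) : n = 4 := by
  have hle : n ≤ 16 := Nat.le_of_dvd (by norm_num) hd
  unfold Nat.ModEq at hm
  interval_cases n <;> omega

theorem arith2 (n : ℕ) (hd : n ∣ 16) (h4 : 4 < n) : 8 ∣ n := by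
  have hle : n ≤ 16 := Nat.le_of_dvd (by norm_num) hd
  interval_cases n <;> omega

theorem cent_structure_aux {R : Type*} [Group R] [Finite R] (t z : R) (E U : Subgroup R)
    (htc : ∀ r : R, r * t = t * r) (ht1 : t ≠ 1)
    (hE : Nat.card E = 16) (hE2 : ∀ e ∈ E, e * e = 1) (hS : ¬ 32 ∣ Nat.card R)
    (hUE : U ≤ E) (hU : Nat.card U = 4) (hzU : z ∈ U) (hz1 : z ≠ 1) (htE : t ∈ E)
    (hCz : ∀ r : R, r * z = z * r → r ∈ E)
    (hNE : Nat.card (Subgroup.normalizer (E : Set R)) = 48)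
    (hNU : Subgroup.normalizer (U : Set R) = Subgroup.normalizer (E : Set R)) :
    ∃ (ρ : R) (V0 R1 : Subgroup R), orderOf ρ = 3 ∧ (∀ e ∈ E, ρ * e * ρ⁻¹ ∈ E) ∧
      (∀ u ∈ U, ρ * u * ρ⁻¹ ∈ U) ∧ ρ * z ≠ z * ρ ∧
      V0 = E ⊓ Subgroup.centralizer ({ρ} : Set R) ∧ Nat.card V0 = 4 ∧ R1.Normal ∧
      Nat.card R = 4 * Nat.card R1 ∧ U ≤ R1 ∧ ρ ∈ R1 ∧ R1 ⊓ E = U ∧ V0 ⊓ R1 = ⊥ ∧ V0 ⊔ R1 = ⊤ := by
  classical
  -- E abelian
  have hEcomm : ∀ a ∈ E, ∀ b ∈ E, a * b = b * a := by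
    intro a ha b hb
    have h1 := hE2 a ha
    have h2 := hE2 b hb
    have h3 := hE2 (a * b) (E.mul_mem ha hb)
    calc a * b = a * b * ((b * a) * (b * a)⁻¹) := by group
      _ = (a * (b * b) * a) * (b * a)⁻¹ := by group
      _ = (b * a)⁻¹ := by rw [h2, mul_one, h1, one_mul]
      _ = b * a := by
          rw [inv_eq_iff_mul_eq_one]
          calc b * a * (b * a) = b * (a * b * (a * b)) * b⁻¹ := by group
            _ = 1 := by rw [h3]; group
  -- ρ
  have h3 : 3 ∣ Nat.card (Subgroup.normalizer (E : Set R)) := by rw [hNE]; norm_num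
  haveI : Fact (Nat.Prime 3) := ⟨by norm_num⟩
  obtain ⟨x, hx⟩ := exists_prime_orderOf_dvd_card' 3 h3
  obtain ⟨ρ, hρN⟩ := x
  have hρ : orderOf ρ = 3 := by rw [← hx]; exact (Subgroup.orderOf_mk ρ hρN).symm
  have hρ3 : ρ ^ 3 = 1 := by rw [← hρ]; exact pow_orderOf_eq_one ρ
  have hρE : ∀ e ∈ E, ρ * e * ρ⁻¹ ∈ E := fun e he =>
    ((Subgroup.mem_normalizer_iff.mp hρN) e).mp he
  have hρNU : ρ ∈ Subgroup.normalizer (U : Set R) := by rw [hNU]; exact hρN
  have hρU : ∀ u ∈ U, ρ * u * ρ⁻¹ ∈ U := fun u hu =>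
    ((Subgroup.mem_normalizer_iff.mp hρNU) u).mp hu
  have hnc : ρ * z ≠ z * ρ := by
    intro h
    have h1 := hE2 ρ (hCz ρ h)
    have h2 : orderOf ρ ∣ 2 := orderOf_dvd_of_pow_eq_one (by rw [pow_two]; exact h1)
    rw [hρ] at h2
    norm_num at h2
  obtain ⟨hz'U, hz'1, hz'z, hz'', hU4⟩ := act_on_U U hU (fun u hu => hE2 u (hUE hu)) z ρ hzU hz1 hρ3 hρU hnc
  set z' := ρ * z * ρ⁻¹ with hz'
  -- V0
  haveI : Finite E := inferInstance
  have hV0mod := card_fixed_mod3 E ρ hρ3 hρE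
  set V0 : Subgroup R := E ⊓ Subgroup.centralizer ({ρ} : Set R) with hV0
  have hV0E : V0 ≤ E := inf_le_left
  have htV0 : t ∈ V0 := by
    refine Subgroup.mem_inf.mpr ⟨htE, ?_⟩
    rw [Subgroup.mem_centralizer_iff]
    intro g hg
    rw [Set.mem_singleton_iff] at hg
    subst hg
    exact htc g
  have hzV0 : z ∉ V0 := by
    intro h
    have := (Subgroup.mem_inf.mp h).2
    rw [Subgroup.mem_centralizer_iff] at this
    exact hnc (this ρ (Set.mem_singleton ρ))
  have hV0card : Nat.card V0 = 4 := by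
    have hdvd : Nat.card V0 ∣ 16 := by rw [← hE]; exact Subgroup.card_dvd_of_le hV0E
    have hle : Nat.card V0 ≤ 16 := Nat.le_of_dvd (by norm_num) hdvd
    have hne1 : Nat.card V0 ≠ 1 := by
      intro h
      have := (Subgroup.card_eq_one.mp h)
      rw [this, Subgroup.mem_bot] at htV0
      exact ht1 htV0
    have hne16 : Nat.card V0 ≠ 16 := by
      intro h
      have : V0 = E := Subgroup.eq_of_le_of_card_ge hV0E (by rw [h, hE])
      rw [this] at hzV0
      exact hzV0 (hUE hzU)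
    rw [hE] at hV0mod
    exact arith1 _ hdvd hV0mod hne1 hne16
  -- Sylow
  haveI : Fact (Nat.Prime 2) := ⟨by norm_num⟩
  have hEp : IsPGroup 2 E := IsPGroup.of_card (n := 4) (by rw [hE]; norm_num)
  have hidx : ¬ 2 ∣ E.index := by
    intro h
    apply hS
    rw [← E.card_mul_index, hE]
    obtain ⟨k, hk⟩ := h
    rw [hk]
    exact ⟨k, by ring⟩
  let P : Sylow 2 R := hEp.toSylow hidx
  have hPE : (P : Subgroup R) = E := rfl
  have hc : IsMulCommutative (P : Subgroup R) :=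
    ⟨⟨fun a b => Subtype.ext (hEcomm a.1 a.2 b.1 b.2)⟩⟩
  obtain ⟨R1, hR1n, ⟨e⟩⟩ := Cfsg.Agent.Lib.Helper1.abelian_sylow_quotient_central P hc
  -- N_R(E) = E ⊔ zpowers ρ
  have hNeq : E ⊔ Subgroup.zpowers ρ = Subgroup.normalizer (E : Set R) := by
    have hle : E ⊔ Subgroup.zpowers ρ ≤ Subgroup.normalizer (E : Set R) :=
      sup_le Subgroup.le_normalizer (by rw [Subgroup.zpowers_le]; exact hρN)
    apply Subgroup.eq_of_le_of_card_ge hle
    rw [hNE]
    have h16 : 16 ∣ Nat.card (E ⊔ Subgroup.zpowers ρ : Subgroup R) := by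
      rw [← hE]; exact Subgroup.card_dvd_of_le le_sup_left
    have h3' : 3 ∣ Nat.card (E ⊔ Subgroup.zpowers ρ : Subgroup R) := by
      rw [← hρ, ← Nat.card_zpowers]; exact Subgroup.card_dvd_of_le le_sup_right
    have h48 : 48 ∣ Nat.card (E ⊔ Subgroup.zpowers ρ : Subgroup R) := by
      have : Nat.Coprime 16 3 := by norm_num
      exact this.mul_dvd_of_dvd_of_dvd h16 h3'
    exact Nat.le_of_dvd Nat.card_pos h48
  have hCEN : (P : Subgroup R) ⊓ Subgroup.centralizer (Subgroup.normalizer (P : Set R) : Set R) = V0 := by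
    show E ⊓ Subgroup.centralizer ((Subgroup.normalizer (E : Set R) : Subgroup R) : Set R) = V0
    apply le_antisymm
    · intro x hx
      obtain ⟨hx1, hx2⟩ := Subgroup.mem_inf.mp hx
      refine Subgroup.mem_inf.mpr ⟨hx1, ?_⟩
      rw [Subgroup.mem_centralizer_iff] at hx2 ⊢
      intro g hg
      rw [Set.mem_singleton_iff] at hg
      subst hg
      exact hx2 g hρN
    · intro x hx
      obtain ⟨hx1, hx2⟩ := Subgroup.mem_inf.mp hx
      refine Subgroup.mem_inf.mpr ⟨hx1, ?_⟩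
      rw [Subgroup.mem_centralizer_iff]
      intro n hn
      have hK : E ⊔ Subgroup.zpowers ρ ≤ Subgroup.centralizer ({x} : Set R) := by
        apply sup_le
        · intro a ha
          rw [Subgroup.mem_centralizer_iff]
          intro g hg
          rw [Set.mem_singleton_iff] at hg
          subst hg
          exact hEcomm g hx1 a ha
        · rw [Subgroup.zpowers_le, Subgroup.mem_centralizer_iff]
          intro g hg
          rw [Set.mem_singleton_iff] at hg
          subst hg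
          rw [Subgroup.mem_centralizer_iff] at hx2
          exact (hx2 ρ (Set.mem_singleton ρ)).symm
      rw [← hNeq] at hn
      have := hK hn
      rw [Subgroup.mem_centralizer_iff] at this
      exact (this x (Set.mem_singleton x)).symm
  -- φ : R →* V0-ish
  let φ : R →* ((P : Subgroup R) ⊓ Subgroup.centralizer (Subgroup.normalizer (P : Set R) : Set R) : Subgroup R) :=
    e.toMonoidHom.comp (QuotientGroup.mk' R1)
  have hφker : ∀ r : R, φ r = 1 ↔ r ∈ R1 := by
    intro r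
    show e (QuotientGroup.mk' R1 r) = 1 ↔ _
    rw [MulEquiv.map_eq_one_iff, QuotientGroup.mk'_apply, QuotientGroup.eq_one_iff]
  have hφcomm : ∀ a b : ((P : Subgroup R) ⊓ Subgroup.centralizer (Subgroup.normalizer (P : Set R) : Set R) : Subgroup R), a * b = b * a := by
    intro a b
    apply Subtype.ext
    exact hEcomm a.1 (Subgroup.mem_inf.mp a.2).1 b.1 (Subgroup.mem_inf.mp b.2).1
  have hφsq : ∀ a : ((P : Subgroup R) ⊓ Subgroup.centralizer (Subgroup.normalizer (P : Set R) : Set R) : Subgroup R), a * a = 1 := by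
    intro a
    apply Subtype.ext
    exact hE2 a.1 (Subgroup.mem_inf.mp a.2).1
  have hindex : Nat.card R = 4 * Nat.card R1 := by
    have h1 : Nat.card (R ⧸ R1) = 4 := by
      rw [Nat.card_congr e.toEquiv, hCEN, hV0card]
    have h2 := R1.card_mul_index
    rw [Subgroup.index, h1] at h2
    omega
  have hρR1 : ρ ∈ R1 := by
    rw [← hφker]
    have h1 : φ ρ * φ ρ = 1 := hφsq _
    have h2 : φ ρ ^ 3 = 1 := by rw [← map_pow, hρ3, map_one]
    calc φ ρ = φ ρ ^ 3 * (φ ρ * φ ρ)⁻¹ := by group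
      _ = 1 := by rw [h1, h2]; group
  have hzR1 : z ∈ R1 := by
    rw [← hφker]
    have : z = ρ * z' * ρ⁻¹ * z'⁻¹ := by rw [hz'']; group
    rw [this]
    simp only [map_mul, map_inv]
    rw [hφcomm (φ ρ) (φ z')]
    group
  have hz'R1 : z' ∈ R1 := hR1n.conj_mem z hzR1 ρ
  have hUR1 : U ≤ R1 := by
    intro u hu
    rcases hU4 u hu with h | h | h | h
    · rw [h]; exact R1.one_mem
    · rw [h]; exact hzR1
    · rw [h]; exact hz'R1
    · rw [h]; exact R1.mul_mem hzR1 hz'R1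
  have hR1E : R1 ⊓ E = U := by
    symm
    apply Subgroup.eq_of_le_of_card_ge (le_inf hUR1 hUE)
    rw [hU]
    have hd1 : Nat.card (R1 ⊓ E : Subgroup R) ∣ 16 := by
      rw [← hE]; exact Subgroup.card_dvd_of_le inf_le_right
    have hd2 : Nat.card (R1 ⊓ E : Subgroup R) ∣ Nat.card R1 := Subgroup.card_dvd_of_le inf_le_left
    by_contra hgt
    push Not at hgt
    have h8 : 8 ∣ Nat.card (R1 ⊓ E : Subgroup R) := arith2 _ hd1 hgt
    apply hS
    rw [hindex]
    obtain ⟨k, hk⟩ := h8.trans hd2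
    exact ⟨k, by rw [hk]; ring⟩
  have hdisj : V0 ⊓ R1 = ⊥ := by
    rw [eq_bot_iff]
    intro x hx
    obtain ⟨hx1, hx2⟩ := Subgroup.mem_inf.mp hx
    have hxU : x ∈ U := by rw [← hR1E]; exact Subgroup.mem_inf.mpr ⟨hx2, hV0E hx1⟩
    have hxρ : ρ * x * ρ⁻¹ = x := by
      have := (Subgroup.mem_inf.mp hx1).2
      rw [Subgroup.mem_centralizer_iff] at this
      rw [this ρ (Set.mem_singleton ρ)]; group
    rw [Subgroup.mem_bot]
    rcases hU4 x hxU with h | h | h | h
    · exact h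
    · exfalso; rw [h] at hxρ; exact hz'z hxρ
    · exfalso; rw [h, hz''] at hxρ
      apply hz1
      calc z = z * z' * z'⁻¹ := by group
        _ = 1 := by rw [hxρ]; group
    · exfalso
      rw [h] at hxρ
      have h1 : ρ * (z * z') * ρ⁻¹ = (ρ * z * ρ⁻¹) * (ρ * z' * ρ⁻¹) := by group
      rw [h1, hz'', ← hz'] at hxρ
      -- z' * (z * z') = z * z'
      apply hz'1
      calc z' = z' * (z * z') * (z * z')⁻¹ := by group
        _ = 1 := by rw [hxρ]; group
  refine ⟨ρ, V0, R1, hρ, hρE, hρU, hnc, rfl, hV0card, hR1n, hindex, hUR1, hρR1, hR1E, hdisj, ?_⟩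
  have hcomp : Subgroup.IsComplement' V0 R1 := by
    apply Subgroup.isComplement'_of_card_mul_and_disjoint
    · rw [hV0card, hindex]
    · rw [disjoint_iff]; exact hdisj
  exact hcomp.sup_eq_top

end Cfsg.Agent.Lib.Helper9.J2C
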