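import Mathlib

set_option autoImplicit false
set_option maxHeartbeats 4000000

namespace Cfsg.Agent.Lib.Helper9.J2C

theorem s5_centralizer : ∀ a : Equiv.Perm (Fin 5), a ≠ 1 → a * a = 1 → Equiv.Perm.sign a = 1 →
    ∀ b : Equiv.Perm (Fin 5), b ≠ 1 → b ^ 3 = 1 → b * a * b⁻¹ ≠ a →
      (b * a * b⁻¹) * a = a * (b * a * b⁻¹) →
    ∀ σ : Equiv.Perm (Fin 5), σ * a = a * σ → σ * b = b * σ → σ = 1 := by
  decide +kernel

end Cfsg.Agent.Lib.Helper9.J2C
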