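import Mathlib
import Cfsg.Prelude
import Cfsg.Agent.Lib.Helper9.J2Cd
import Cfsg.Agent.Lib.Helper4.AutAlt3

set_option autoImplicit false
set_option linter.style.haveILetI false

namespace Cfsg.Agent.Lib.Helper9.J2C

theorem centralizes_of_A5 {R : Type*} [Group R] (R1 : Subgroup R) [hn : R1.Normal]
    (f : R1 ≃* alternatingGroup (Fin 5))
    (v z ρ : R) (hz : z ∈ R1) (hρ : ρ ∈ R1) (hz1 : z ≠ 1) (hzz : z * z = 1) (hρ1 : ρ ≠ 1)
    (hρ3 : ρ ^ 3 = 1)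
    (hnc : ρ * z * ρ⁻¹ ≠ z) (hcomm : (ρ * z * ρ⁻¹) * z = z * (ρ * z * ρ⁻¹))
    (hvz : v * z = z * v) (hvρ : v * ρ = ρ * v) : ∀ r ∈ R1, v * r = r * v := by
  classical
  let φ : R1 ≃* R1 := MulAut.conjNormal v
  have hφ : ∀ r : R1, ((φ r : R1) : R) = v * r.1 * v⁻¹ := fun r => MulAut.conjNormal_apply v r
  let ψ : alternatingGroup (Fin 5) ≃* alternatingGroup (Fin 5) := f.symm.trans (φ.trans f)
  have hψ : ∀ r : R1, ψ (f r) = f (φ r) := by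
    intro r
    show f (φ (f.symm (f r))) = _
    rw [MulEquiv.symm_apply_apply]
  obtain ⟨σ, hσ⟩ := Cfsg.Agent.Lib.Helper4.AutAlt.exists_conj (Ω := Fin 5) (by simp) (by simp) ψ
  set a : Equiv.Perm (Fin 5) := ((f ⟨z, hz⟩ : alternatingGroup (Fin 5)) : Equiv.Perm (Fin 5)) with ha
  set b : Equiv.Perm (Fin 5) := ((f ⟨ρ, hρ⟩ : alternatingGroup (Fin 5)) : Equiv.Perm (Fin 5)) with hb
  have hφz : φ ⟨z, hz⟩ = ⟨z, hz⟩ := by
    apply Subtype.ext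
    rw [hφ]
    show v * z * v⁻¹ = z
    rw [hvz]; group
  have hφρ : φ ⟨ρ, hρ⟩ = ⟨ρ, hρ⟩ := by
    apply Subtype.ext
    rw [hφ]
    show v * ρ * v⁻¹ = ρ
    rw [hvρ]; group
  have hσa : σ * a = a * σ := by
    have h1 := hσ (f ⟨z, hz⟩)
    rw [hψ, hφz] at h1
    calc σ * a = (σ * a * σ⁻¹) * σ := by group
      _ = a * σ := by rw [← h1]
  have hσb : σ * b = b * σ := by
    have h1 := hσ (f ⟨ρ, hρ⟩)
    rw [hψ, hφρ] at h1
    calc σ * b = (σ * b * σ⁻¹) * σ := by group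
      _ = b * σ := by rw [← h1]
  have ha1 : a ≠ 1 := by
    intro h
    have h2 : f ⟨z, hz⟩ = 1 := Subtype.ext h
    rw [MulEquiv.map_eq_one_iff] at h2
    exact hz1 (congrArg Subtype.val h2)
  have haa : a * a = 1 := by
    have h2 : f ⟨z, hz⟩ * f ⟨z, hz⟩ = 1 := by
      rw [← map_mul]
      have : (⟨z, hz⟩ : R1) * ⟨z, hz⟩ = 1 := Subtype.ext hzz
      rw [this, map_one]
    exact congrArg Subtype.val h2
  have hasign : Equiv.Perm.sign a = 1 := Equiv.Perm.mem_alternatingGroup.mp (f ⟨z, hz⟩).2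
  have hb1 : b ≠ 1 := by
    intro h
    have h2 : f ⟨ρ, hρ⟩ = 1 := Subtype.ext h
    rw [MulEquiv.map_eq_one_iff] at h2
    exact hρ1 (congrArg Subtype.val h2)
  have hb3 : b ^ 3 = 1 := by
    have h2 : f ⟨ρ, hρ⟩ ^ 3 = 1 := by
      rw [← map_pow]
      have : (⟨ρ, hρ⟩ : R1) ^ 3 = 1 := Subtype.ext hρ3
      rw [this, map_one]
    exact congrArg Subtype.val h2
  have hconj : ((f (⟨ρ, hρ⟩ * ⟨z, hz⟩ * ⟨ρ, hρ⟩⁻¹) : alternatingGroup (Fin 5)) : Equiv.Perm (Fin 5))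
      = b * a * b⁻¹ := by
    rw [map_mul, map_mul, map_inv]
    rfl
  have hbab : b * a * b⁻¹ ≠ a := by
    intro h
    rw [← hconj] at h
    have h2 : f (⟨ρ, hρ⟩ * ⟨z, hz⟩ * ⟨ρ, hρ⟩⁻¹) = f ⟨z, hz⟩ := Subtype.ext h
    have h3 := f.injective h2
    exact hnc (congrArg Subtype.val h3)
  have hbabc : (b * a * b⁻¹) * a = a * (b * a * b⁻¹) := by
    rw [← hconj]
    have h2 : f (⟨ρ, hρ⟩ * ⟨z, hz⟩ * ⟨ρ, hρ⟩⁻¹) * f ⟨z, hz⟩ = f ⟨z, hz⟩ * f (⟨ρ, hρ⟩ * ⟨z, hz⟩ * ⟨ρ, hρ⟩⁻¹) := by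
      rw [← map_mul, ← map_mul]
      congr 1
      apply Subtype.ext
      exact hcomm
    exact congrArg Subtype.val h2
  have hσ1 : σ = 1 := s5_centralizer a ha1 haa hasign b hb1 hb3 hbab hbabc σ hσa hσb
  intro r hr
  have h1 := hσ (f ⟨r, hr⟩)
  rw [hσ1, hψ] at h1
  simp only [one_mul, inv_one, mul_one] at h1
  have h2 : f (φ ⟨r, hr⟩) = f ⟨r, hr⟩ := Subtype.ext h1
  have h3 := congrArg Subtype.val (f.injective h2)
  rw [hφ] at h3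
  calc v * r = (v * r * v⁻¹) * v := by group
    _ = r * v := by rw [h3]

end Cfsg.Agent.Lib.Helper9.J2C
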