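import Mathlib
import Cfsg.Prelude
import Cfsg.Agent.Lib.Helper9.J2Ca
import Cfsg.Agent.S3277

set_option autoImplicit false
set_option linter.style.haveILetI false

namespace Cfsg.Agent.Lib.Helper9.J2C

theorem no_npc {H : Type*} [Group H] [Finite H] (z ρ : H) (hz1 : z ≠ 1) (hzz : z * z = 1)
    (hρ3 : ρ ^ 3 = 1) (hnc : ρ * z * ρ⁻¹ ≠ z)
    (hcomm : (ρ * z * ρ⁻¹) * z = z * (ρ * z * ρ⁻¹)) : ¬ Cfsg.HasNormalPComplement 2 H := by
  rintro ⟨P, N, hN, hcompl⟩
  haveI : Fact (Nat.Prime 2) := ⟨by norm_num⟩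
  have h1 : Nat.card N * Nat.card (P : Subgroup H) = Nat.card H := hcompl.card_mul_card
  have h2 := (P : Subgroup H).card_mul_index
  have h3 := N.card_mul_index
  have hPpos : 0 < Nat.card (P : Subgroup H) := Nat.card_pos
  have hNpos : 0 < Nat.card N := Nat.card_pos
  have hNidx : Nat.card N = (P : Subgroup H).index := by
    have : Nat.card (P : Subgroup H) * Nat.card N = Nat.card (P : Subgroup H) * (P : Subgroup H).index := by
      rw [h2, mul_comm, h1]
    exact Nat.eq_of_mul_eq_mul_left hPpos this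
  have hNodd : ¬ 2 ∣ Nat.card N := by rw [hNidx]; exact P.not_dvd_index
  have hidxN : N.index = Nat.card (P : Subgroup H) := by
    have : Nat.card N * N.index = Nat.card N * Nat.card (P : Subgroup H) := by rw [h3, h1]
    exact Nat.eq_of_mul_eq_mul_left hNpos this
  obtain ⟨k, hk⟩ := (IsPGroup.iff_card.mp P.2)
  -- ρ ∈ N
  have hρN : ρ ∈ N := by
    rw [← QuotientGroup.eq_one_iff]
    have hq1 : ((ρ : H) : H ⧸ N) ^ 3 = 1 := by
      rw [← QuotientGroup.mk_pow, hρ3]; rfl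
    have hq2 : ((ρ : H) : H ⧸ N) ^ (2 ^ k) = 1 := by
      have : Nat.card (H ⧸ N) = 2 ^ k := by
        rw [← hk, ← hidxN]; rfl
      rw [← this]
      exact pow_card_eq_one'
    have hd1 : orderOf ((ρ : H) : H ⧸ N) ∣ 3 := orderOf_dvd_of_pow_eq_one hq1
    have hd2 : orderOf ((ρ : H) : H ⧸ N) ∣ 2 ^ k := orderOf_dvd_of_pow_eq_one hq2
    have hcop : Nat.Coprime 3 (2 ^ k) := Nat.Coprime.pow_right k (by norm_num)
    have := Nat.eq_one_of_dvd_coprimes hcop hd1 hd2
    exact orderOf_eq_one_iff.mp this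
  -- w = ρ z ρ⁻¹ z⁻¹ ∈ N
  have hzinv : z⁻¹ = z := inv_eq_of_mul_eq_one_left hzz
  have hwN : ρ * z * ρ⁻¹ * z ∈ N := by
    have h4 : z * ρ⁻¹ * z⁻¹ ∈ N := hN.conj_mem _ (N.inv_mem hρN) z
    have h5 := N.mul_mem hρN h4
    rw [hzinv] at h5
    have : ρ * (z * ρ⁻¹ * z) = ρ * z * ρ⁻¹ * z := by group
    rw [← this]; exact h5
  have hw1 : ρ * z * ρ⁻¹ * z ≠ 1 := by
    intro h
    apply hnc
    calc ρ * z * ρ⁻¹ = (ρ * z * ρ⁻¹ * z) * z⁻¹ := by group
      _ = z := by rw [h, one_mul, hzinv]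
  have hww : (ρ * z * ρ⁻¹ * z) * (ρ * z * ρ⁻¹ * z) = 1 := by
    calc (ρ * z * ρ⁻¹ * z) * (ρ * z * ρ⁻¹ * z) = (ρ * z * ρ⁻¹) * (z * (ρ * z * ρ⁻¹)) * z := by group
      _ = (ρ * z * ρ⁻¹) * ((ρ * z * ρ⁻¹) * z) * z := by rw [hcomm]
      _ = ρ * (z * z) * ρ⁻¹ * (z * z) := by group
      _ = 1 := by rw [hzz]; group
  have hord : orderOf (⟨ρ * z * ρ⁻¹ * z, hwN⟩ : N) = 2 := by
    apply orderOf_eq_prime
    · apply Subtype.ext
      show (ρ * z * ρ⁻¹ * z) ^ 2 = 1
      rw [pow_two]; exact hww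
    · intro h; exact hw1 (congrArg Subtype.val h)
  apply hNodd
  rw [← hord]
  exact orderOf_dvd_natCard _

theorem normal_elem_le {H : Type*} [Group H] [Finite H] (U E' : Subgroup H)
    (hU : Nat.card U = 4) (h8 : ¬ 8 ∣ Nat.card H) [E'.Normal]
    (hE' : Nat.card E' = 2 ∨ Nat.card E' = 4) : E' ≤ U := by
  haveI : Fact (Nat.Prime 2) := ⟨by norm_num⟩
  have hUp : IsPGroup 2 U := IsPGroup.of_card (n := 2) (by rw [hU]; norm_num)
  have hidx : ¬ 2 ∣ U.index := by
    intro h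
    apply h8
    rw [← U.card_mul_index, hU]
    obtain ⟨k, hk⟩ := h
    rw [hk]
    exact ⟨k, by ring⟩
  let Q0 : Sylow 2 H := hUp.toSylow hidx
  have hE'p : IsPGroup 2 E' := by
    rcases hE' with h | h
    · exact IsPGroup.of_card (n := 1) (by rw [h]; norm_num)
    · exact IsPGroup.of_card (n := 2) (by rw [h]; norm_num)
  exact hE'p.le_sylow_of_normal Q0

theorem dichotomy {H : Type*} [Group H] [Finite H] (U : Subgroup H) (z ρ : H)
    (hU : Nat.card U = 4) (hU2 : ∀ u ∈ U, u * u = 1) (hzU : z ∈ U) (hz1 : z ≠ 1)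
    (hρ3 : ρ ^ 3 = 1) (hρU : ∀ u ∈ U, ρ * u * ρ⁻¹ ∈ U) (hnc : ρ * z ≠ z * ρ)
    (h8 : ¬ 8 ∣ Nat.card H) (hCz : ∀ h : H, h * z = z * h → h ∈ U) :
    Nonempty (H ≃* alternatingGroup (Fin 5)) ∨ U.Normal := by
  obtain ⟨hz'U, hz'1, hz'z, hz'', hU4⟩ := act_on_U U hU hU2 z ρ hzU hz1 hρ3 hρU hnc
  have hzz : z * z = 1 := hU2 z hzU
  have hUcomm : ∀ a ∈ U, ∀ b ∈ U, a * b = b * a := by
    intro a ha b hb
    have h1 := hU2 a ha
    have h2 := hU2 b hb
    have h3 := hU2 (a * b) (U.mul_mem ha hb)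
    calc a * b = a * b * ((b * a) * (b * a)⁻¹) := by group
      _ = (a * (b * b) * a) * (b * a)⁻¹ := by group
      _ = (b * a)⁻¹ := by rw [h2, mul_one, h1, one_mul]
      _ = b * a := by
          rw [inv_eq_iff_mul_eq_one]
          calc b * a * (b * a) = b * (a * b * (a * b)) * b⁻¹ := by group
            _ = 1 := by rw [h3]; group
  by_cases hne : ∀ E' : Subgroup H, E'.Normal → Cfsg.IsElementaryAbelian 2 E' →
      Nat.card ↥E' ≠ 2 ∧ Nat.card ↥E' ≠ 4
  · left
    have hcent : Subgroup.centralizer ({z} : Set H) = U := by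
      apply le_antisymm
      · intro h hh
        rw [Subgroup.mem_centralizer_iff] at hh
        exact hCz h (hh z (Set.mem_singleton z)).symm
      · intro u hu
        rw [Subgroup.mem_centralizer_iff]
        intro g hg
        rw [Set.mem_singleton_iff] at hg
        subst hg
        exact hUcomm g hzU u hu
    apply Cfsg.Agent.S3277.result z
    · apply orderOf_eq_prime
      · rw [pow_two]; exact hzz
      · exact hz1
    · rw [hcent, hU]
    · intro c hc
      rw [hcent] at hc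
      rw [pow_two]; exact hU2 c hc
    · apply no_npc z ρ hz1 hzz hρ3
      · intro h; apply hnc
        calc ρ * z = (ρ * z * ρ⁻¹) * ρ := by group
          _ = z * ρ := by rw [h]
      · exact hUcomm _ hz'U _ hzU
    · exact hne
  · right
    push Not at hne
    obtain ⟨E', hE'n, _, hE'c⟩ := hne
    have hcard : Nat.card E' = 2 ∨ Nat.card E' = 4 := by
      by_cases h : Nat.card E' = 2
      · left; exact h
      · right; exact hE'c h
    haveI := hE'n
    have hle : E' ≤ U := normal_elem_le U E' hU h8 hcard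
    have hconj : ∀ x ∈ E', ρ * x * ρ⁻¹ ∈ E' := fun x hx => hE'n.conj_mem x hx ρ
    have hzE' : z ∈ E' := by
      have hnb : E' ≠ ⊥ := by
        intro h
        rw [h] at hcard
        simp at hcard
      obtain ⟨x, hx1⟩ := (Subgroup.ne_bot_iff_exists_ne_one.mp hnb)
      have hxE' : (x : H) ∈ E' := x.2
      have hx1' : (x : H) ≠ 1 := fun h => hx1 (Subtype.ext h)
      rcases hU4 x (hle hxE') with h | h | h | h
      · exact absurd h hx1'
      · rw [← h]; exact hxE'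
      · -- x = z' ; ρ z' ρ⁻¹ = z z'; ρ (z z') ρ⁻¹ = z' z z' = z
        have h1 := hconj _ hxE'
        have h2 := hconj _ h1
        rw [h, hz''] at h2
        have : ρ * (z * (ρ * z * ρ⁻¹)) * ρ⁻¹ = (ρ * z * ρ⁻¹) * (ρ * (ρ * z * ρ⁻¹) * ρ⁻¹) := by group
        rw [this, hz'', ← mul_assoc, hUcomm _ hz'U _ hzU, mul_assoc, hU2 _ hz'U, mul_one] at h2
        exact h2
      · have h1 := hconj _ hxE'
        rw [h] at h1
        have : ρ * (z * (ρ * z * ρ⁻¹)) * ρ⁻¹ = (ρ * z * ρ⁻¹) * (ρ * (ρ * z * ρ⁻¹) * ρ⁻¹) := by group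
        rw [this, hz'', ← mul_assoc, hUcomm _ hz'U _ hzU, mul_assoc, hU2 _ hz'U, mul_one] at h1
        exact h1
    have hz'E' : ρ * z * ρ⁻¹ ∈ E' := hconj z hzE'
    have hUE' : U ≤ E' := by
      intro u hu
      rcases hU4 u hu with h | h | h | h
      · rw [h]; exact E'.one_mem
      · rw [h]; exact hzE'
      · rw [h]; exact hz'E'
      · rw [h]; exact E'.mul_mem hzE' hz'E'
    have : U = E' := le_antisymm hUE' hle
    rw [this]; exact hE'n

end Cfsg.Agent.Lib.Helper9.J2C
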