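import Mathlib
import Cfsg.Prelude
import Cfsg.Agent.Lib.Helper9.J2Cc
import Cfsg.Agent.Lib.Helper9.J2Ce
import Cfsg.Agent.Lib.Helper9.J2Cf

set_option autoImplicit false
set_option linter.style.haveILetI false

namespace Cfsg.Agent.Lib.Helper9.J2C

theorem arith3 (n : ℕ) (h48 : n ∣ 48) (h3 : 3 ∣ n) (h4 : 4 ∣ n) (h8 : ¬ 8 ∣ n) : n = 12 := by
  have hle : n ≤ 48 := Nat.le_of_dvd (by norm_num) h48
  interval_cases n <;> omega

theorem cent_structure {R : Type*} [Group R] [Finite R] (t z : R) (E U : Subgroup R)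
    (htc : ∀ r : R, r * t = t * r) (ht1 : t ≠ 1)
    (hE : Nat.card E = 16) (hE2 : ∀ e ∈ E, e * e = 1) (hS : ¬ 32 ∣ Nat.card R)
    (hUE : U ≤ E) (hU : Nat.card U = 4) (hzU : z ∈ U) (hz1 : z ≠ 1) (htE : t ∈ E) (htU : t ∉ U)
    (hCz : ∀ r : R, r * z = z * r → r ∈ E)
    (hNE : Nat.card (Subgroup.normalizer (E : Set R)) = 48)
    (hNU : Subgroup.normalizer (U : Set R) = Subgroup.normalizer (E : Set R)) :
    ∃ V0 R1 : Subgroup R, Cfsg.IsInternalDirectProduct V0 R1 ⊤ ∧ R1.Normal ∧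
      Nat.card V0 = 4 ∧ t ∈ V0 ∧ V0 ≤ E ∧ U ≤ R1 ∧ R1 ⊓ E = U ∧
      (Nonempty (R1 ≃* alternatingGroup (Fin 5)) ∨ (Nat.card R = 48 ∧ E.Normal)) := by
  classical
  have _ := htU
  obtain ⟨ρ, V0, R1, hρ, hρE, hρU, hnc, hV0, hV0card, hR1n, hindex, hUR1, hρR1, hR1E, hdisj, hsup⟩ :=
    cent_structure_aux t z E U htc ht1 hE hE2 hS hUE hU hzU hz1 htE hCz hNE hNU
  have hρ3 : ρ ^ 3 = 1 := by rw [← hρ]; exact pow_orderOf_eq_one ρ
  have hρ1 : ρ ≠ 1 := by
    intro h; rw [h, orderOf_one] at hρ; norm_num at hρ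
  have hEcomm : ∀ a ∈ E, ∀ b ∈ E, a * b = b * a := by
    intro a ha b hb
    have h1 := hE2 a ha
    have h2 := hE2 b hb
    have h3 := hE2 (a * b) (E.mul_mem ha hb)
    calc a * b = a * b * ((b * a) * (b * a)⁻¹) := by group
      _ = (a * (b * b) * a) * (b * a)⁻¹ := by group
      _ = (b * a)⁻¹ := by rw [h2, mul_one, h1, one_mul]
      _ = b * a := by
          rw [inv_eq_iff_mul_eq_one]
          calc b * a * (b * a) = b * (a * b * (a * b)) * b⁻¹ := by group
            _ = 1 := by rw [h3]; group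
  have hV0E : V0 ≤ E := by rw [hV0]; exact inf_le_left
  have htV0 : t ∈ V0 := by
    rw [hV0]
    refine Subgroup.mem_inf.mpr ⟨htE, ?_⟩
    rw [Subgroup.mem_centralizer_iff]
    intro g hg
    rw [Set.mem_singleton_iff] at hg
    subst hg
    exact htc g
  have hV0ρ : ∀ v ∈ V0, v * ρ = ρ * v := by
    intro v hv
    rw [hV0] at hv
    have := (Subgroup.mem_inf.mp hv).2
    rw [Subgroup.mem_centralizer_iff] at this
    exact (this ρ (Set.mem_singleton ρ)).symm
  have hzR1 : z ∈ R1 := hUR1 hzU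
  -- the dichotomy in H = R1
  have h8 : ¬ 8 ∣ Nat.card R1 := by
    intro h
    apply hS
    rw [hindex]
    obtain ⟨k, hk⟩ := h
    exact ⟨k, by rw [hk]; ring⟩
  have hUH : Nat.card (U.subgroupOf R1) = 4 := by
    rw [Nat.card_congr (Subgroup.subgroupOfEquivOfLe hUR1).toEquiv, hU]
  have hdich := dichotomy (H := R1) (U.subgroupOf R1) ⟨z, hzR1⟩ ⟨ρ, hρR1⟩ hUH
    (by
      intro u hu
      apply Subtype.ext
      exact hE2 u.1 (hUE (Subgroup.mem_subgroupOf.mp hu)))
    (Subgroup.mem_subgroupOf.mpr hzU)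
    (by intro h; exact hz1 (congrArg Subtype.val h))
    (Subtype.ext hρ3)
    (by
      intro u hu
      rw [Subgroup.mem_subgroupOf] at hu ⊢
      exact hρU u.1 hu)
    (by intro h; exact hnc (congrArg Subtype.val h))
    h8
    (by
      intro h hh
      rw [Subgroup.mem_subgroupOf]
      have h1 : (h : R) * z = z * h := congrArg Subtype.val hh
      have h2 : (h : R) ∈ R1 ⊓ E := Subgroup.mem_inf.mpr ⟨h.2, hCz _ h1⟩
      rw [hR1E] at h2
      exact h2)
  have hfin : (∀ v ∈ V0, ∀ r ∈ R1, v * r = r * v) →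
      Cfsg.IsInternalDirectProduct V0 R1 ⊤ :=
    fun hc => ⟨le_top, le_top, hc, hdisj, hsup⟩
  rcases hdich with ⟨⟨f⟩⟩ | hUn
  · refine ⟨V0, R1, hfin ?_, hR1n, hV0card, htV0, hV0E, hUR1, hR1E, Or.inl ⟨f⟩⟩
    intro v hv
    haveI := hR1n
    have hz'U := hρU z hzU
    apply centralizes_of_A5 R1 f v z ρ hzR1 hρR1 hz1 (hE2 z (hUE hzU)) hρ1 hρ3
    · intro h; apply hnc
      calc ρ * z = (ρ * z * ρ⁻¹) * ρ := by group
        _ = z * ρ := by rw [h]
    · exact hEcomm _ (hUE hz'U) _ (hUE hzU)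
    · exact hEcomm _ (hV0E hv) _ (hUE hzU)
    · exact hV0ρ v hv
  · -- U normal in R1
    have hR1N : R1 ≤ Subgroup.normalizer (E : Set R) := by
      rw [← hNU]
      intro r hr
      rw [Subgroup.mem_normalizer_iff]
      intro u
      constructor
      · intro hu
        have := hUn.conj_mem ⟨u, hUR1 hu⟩ (Subgroup.mem_subgroupOf.mpr hu) ⟨r, hr⟩
        exact Subgroup.mem_subgroupOf.mp this
      · intro hu
        have h1 : r * u * r⁻¹ ∈ R1 := hUR1 hu
        have := hUn.conj_mem ⟨r * u * r⁻¹, h1⟩ (Subgroup.mem_subgroupOf.mpr hu) ⟨r⁻¹, R1.inv_mem hr⟩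
        have h2 := Subgroup.mem_subgroupOf.mp this
        have h3 : ((⟨r⁻¹, R1.inv_mem hr⟩ * ⟨r * u * r⁻¹, h1⟩ * (⟨r⁻¹, R1.inv_mem hr⟩ : R1)⁻¹ : R1) : R) = u := by
          show r⁻¹ * (r * u * r⁻¹) * r⁻¹⁻¹ = u
          group
        rw [h3] at h2
        exact h2
    have hR1card : Nat.card R1 = 12 := by
      apply arith3
      · rw [← hNE]; exact Subgroup.card_dvd_of_le hR1N
      · rw [← hρ, ← Nat.card_zpowers]
        exact Subgroup.card_dvd_of_le (by rw [Subgroup.zpowers_le]; exact hρR1)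
      · rw [← hU]; exact Subgroup.card_dvd_of_le hUR1
      · exact h8
    have hRcard : Nat.card R = 48 := by rw [hindex, hR1card]
    have hEn : E.Normal := by
      rw [← Subgroup.normalizer_eq_top_iff]
      apply (Subgroup.card_eq_iff_eq_top _).mp
      rw [hNE, hRcard]
    have hR1eq : U ⊔ Subgroup.zpowers ρ = R1 := by
      have hle : U ⊔ Subgroup.zpowers ρ ≤ R1 :=
        sup_le hUR1 (by rw [Subgroup.zpowers_le]; exact hρR1)
      apply Subgroup.eq_of_le_of_card_ge hle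
      rw [hR1card]
      have h4 : 4 ∣ Nat.card (U ⊔ Subgroup.zpowers ρ : Subgroup R) := by
        rw [← hU]; exact Subgroup.card_dvd_of_le le_sup_left
      have h3' : 3 ∣ Nat.card (U ⊔ Subgroup.zpowers ρ : Subgroup R) := by
        rw [← hρ, ← Nat.card_zpowers]; exact Subgroup.card_dvd_of_le le_sup_right
      have h12 : 12 ∣ Nat.card (U ⊔ Subgroup.zpowers ρ : Subgroup R) := by
        have : Nat.Coprime 4 3 := by norm_num
        exact this.mul_dvd_of_dvd_of_dvd h4 h3'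
      exact Nat.le_of_dvd Nat.card_pos h12
    refine ⟨V0, R1, hfin ?_, hR1n, hV0card, htV0, hV0E, hUR1, hR1E, Or.inr ⟨hRcard, hEn⟩⟩
    intro v hv r hr
    have hK : U ⊔ Subgroup.zpowers ρ ≤ Subgroup.centralizer ({v} : Set R) := by
      apply sup_le
      · intro a ha
        rw [Subgroup.mem_centralizer_iff]
        intro g hg
        rw [Set.mem_singleton_iff] at hg
        subst hg
        exact hEcomm g (hV0E hv) a (hUE ha)
      · rw [Subgroup.zpowers_le, Subgroup.mem_centralizer_iff]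
        intro g hg
        rw [Set.mem_singleton_iff] at hg
        subst hg
        exact hV0ρ g hv
    rw [← hR1eq] at hr
    have := hK hr
    rw [Subgroup.mem_centralizer_iff] at this
    exact this v (Set.mem_singleton v)

end Cfsg.Agent.Lib.Helper9.J2C
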