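import Cfsg.Agent.Lib.Helper9.Syl2M24a
import Cfsg.Agent.Lib.Helper9.M24T4
import Cfsg.Agent.Lib.Helper9.M24T7
import Cfsg.Agent.Lib.Helper9.M24T10
import Cfsg.Agent.Lib.Helper9.M24L1
import Cfsg.Agent.Lib.Helper9.M24P9

set_option autoImplicit false

/-! An explicit Sylow `2`-subgroup of `M24`: it is self-normalizing and the `2`-fusion system of
`M24` on it is simple. -/

namespace Cfsg.Agent.Lib.Helper9.Syl2M24

open Cfsg Finset Cfsg.Agent.Lib.Helper9.GolayQR1 Cfsg.Agent.Lib.Helper9.M24F1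
  Cfsg.Agent.Lib.Helper9.M24T1 Cfsg.Agent.Lib.Helper9.M24U1 Cfsg.Agent.Lib.Helper9.M24T3
  Cfsg.Agent.Lib.Helper9.M24T9 Cfsg.Agent.Lib.Helper9.Syl2B Cfsg.Agent.Lib.Helper9.Syl2B.Tab
open scoped Pointwise

theorem memG (c : Equiv.Perm GolayPt) (hc : c ∈ M24) : c ∈ M24 := hc

/-- generator 0 -/
def c0 : Equiv.Perm GolayPt :=
  tperm [7, 21, 19, 3, 4, 17, 23, 0, 8, 9, 15, 11, 18, 16, 14, 10, 13, 5, 12, 2, 20, 1, 22, 6]
    [7, 21, 19, 3, 4, 17, 23, 0, 8, 9, 15, 11, 18, 16, 14, 10, 13, 5, 12, 2, 20, 1, 22, 6] (by decide +kernel) (by decide +kernel)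

theorem c0_mem : c0 ∈ M24 := tperm_mem _ _ _ _ (by decide +kernel) (by decide +kernel)

theorem c0_memG : c0 ∈ M24 := memG c0 c0_mem

/-- generator 1 -/
def c1 : Equiv.Perm GolayPt :=
  tperm [16, 10, 2, 20, 8, 5, 6, 13, 4, 11, 1, 9, 12, 7, 22, 21, 0, 17, 18, 19, 3, 15, 14, 23]
    [16, 10, 2, 20, 8, 5, 6, 13, 4, 11, 1, 9, 12, 7, 22, 21, 0, 17, 18, 19, 3, 15, 14, 23] (by decide +kernel) (by decide +kernel)

theorem c1_mem : c1 ∈ M24 := tperm_mem _ _ _ _ (by decide +kernel) (by decide +kernel)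

theorem c1_memG : c1 ∈ M24 := memG c1 c1_mem

/-- generator 2 -/
def c2 : Equiv.Perm GolayPt :=
  tperm [7, 5, 2, 3, 8, 1, 10, 0, 4, 14, 6, 11, 18, 13, 9, 23, 16, 21, 12, 19, 20, 17, 22, 15]
    [7, 5, 2, 3, 8, 1, 10, 0, 4, 14, 6, 11, 18, 13, 9, 23, 16, 21, 12, 19, 20, 17, 22, 15] (by decide +kernel) (by decide +kernel)

theorem c2_mem : c2 ∈ M24 := tperm_mem _ _ _ _ (by decide +kernel) (by decide +kernel)

theorem c2_memG : c2 ∈ M24 := memG c2 c2_mem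

/-- generator 3 -/
def c3 : Equiv.Perm GolayPt :=
  tperm [2, 1, 0, 14, 11, 5, 6, 19, 22, 20, 10, 4, 13, 12, 3, 15, 18, 17, 16, 7, 9, 21, 8, 23]
    [2, 1, 0, 14, 11, 5, 6, 19, 22, 20, 10, 4, 13, 12, 3, 15, 18, 17, 16, 7, 9, 21, 8, 23] (by decide +kernel) (by decide +kernel)

theorem c3_mem : c3 ∈ M24 := tperm_mem _ _ _ _ (by decide +kernel) (by decide +kernel)

theorem c3_memG : c3 ∈ M24 := memG c3 c3_mem

/-- generator 4 -/
def c4 : Equiv.Perm GolayPt :=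
  tperm [10, 16, 17, 3, 4, 19, 18, 15, 8, 9, 0, 11, 23, 21, 14, 7, 1, 2, 6, 5, 20, 13, 22, 12]
    [10, 16, 17, 3, 4, 19, 18, 15, 8, 9, 0, 11, 23, 21, 14, 7, 1, 2, 6, 5, 20, 13, 22, 12] (by decide +kernel) (by decide +kernel)

theorem c4_mem : c4 ∈ M24 := tperm_mem _ _ _ _ (by decide +kernel) (by decide +kernel)

theorem c4_memG : c4 ∈ M24 := memG c4 c4_mem

/-- conjugator 1 -/
def h1 : Equiv.Perm GolayPt :=
  tperm [21, 16, 20, 18, 19, 1, 11, 15, 23, 12, 8, 2, 13, 14, 5, 4, 22, 10, 7, 3, 6, 0, 17, 9]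
    [21, 5, 11, 19, 15, 14, 20, 18, 10, 23, 17, 6, 9, 12, 13, 7, 1, 22, 3, 4, 2, 0, 16, 8] (by decide +kernel) (by decide +kernel)

theorem h1_mem : h1 ∈ M24 := tperm_mem _ _ _ _ (by decide +kernel) (by decide +kernel)

theorem h1_memG : h1 ∈ M24 := memG h1 h1_mem

/-- conjugator 2 -/
def h2 : Equiv.Perm GolayPt :=
  tperm [21, 12, 9, 22, 11, 5, 10, 17, 13, 20, 8, 3, 0, 15, 19, 4, 23, 1, 7, 14, 16, 18, 2, 6]
    [12, 17, 22, 11, 15, 5, 23, 18, 10, 2, 6, 4, 1, 8, 19, 13, 20, 7, 21, 14, 9, 0, 3, 16] (by decide +kernel) (by decide +kernel)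

theorem h2_mem : h2 ∈ M24 := tperm_mem _ _ _ _ (by decide +kernel) (by decide +kernel)

theorem h2_memG : h2 ∈ M24 := memG h2 h2_mem

/-- conjugator 3 -/
def h3 : Equiv.Perm GolayPt :=
  tperm [18, 12, 4, 6, 17, 0, 8, 16, 23, 10, 3, 1, 7, 9, 21, 14, 20, 2, 19, 11, 15, 13, 5, 22]
    [5, 11, 17, 10, 2, 22, 3, 12, 6, 13, 9, 19, 1, 21, 15, 20, 7, 4, 0, 18, 16, 14, 23, 8] (by decide +kernel) (by decide +kernel)

theorem h3_mem : h3 ∈ M24 := tperm_mem _ _ _ _ (by decide +kernel) (by decide +kernel)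

theorem h3_memG : h3 ∈ M24 := memG h3 h3_mem

/-- conjugator 4 -/
def h4 : Equiv.Perm GolayPt :=
  tperm [17, 19, 10, 9, 20, 23, 7, 2, 3, 14, 13, 8, 18, 16, 22, 21, 1, 12, 6, 0, 4, 5, 11, 15]
    [19, 16, 7, 8, 20, 21, 18, 6, 11, 3, 2, 22, 17, 10, 9, 23, 13, 0, 12, 1, 4, 15, 14, 5] (by decide +kernel) (by decide +kernel)

theorem h4_mem : h4 ∈ M24 := tperm_mem _ _ _ _ (by decide +kernel) (by decide +kernel)

theorem h4_memG : h4 ∈ M24 := memG h4 h4_mem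

/-- the generators -/
def gg : ℕ → Equiv.Perm GolayPt := fun a => [c0, c1, c2, c3, c4].getD a 1

theorem rep_gg : ∀ a < tab.k, Rep (gg a) (tab.Gc a) := by
  intro a ha
  have ha' : a < 5 := ha
  interval_cases a

  · exact rep_tperm _ _ _ _ _ (by decide +kernel)

  · exact rep_tperm _ _ _ _ _ (by decide +kernel)

  · exact rep_tperm _ _ _ _ _ (by decide +kernel)

  · exact rep_tperm _ _ _ _ _ (by decide +kernel)

  · exact rep_tperm _ _ _ _ _ (by decide +kernel)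


theorem hgG : ∀ a < tab.k, gg a ∈ M24 := by
  intro a ha
  have ha' : a < 5 := ha
  interval_cases a

  · exact c0_memG

  · exact c1_memG

  · exact c2_memG

  · exact c3_memG

  · exact c4_memG


theorem hSG : tab.S0 gg ≤ M24 := by
  unfold Tab.S0
  rw [Subgroup.closure_le]
  rintro x ⟨a, ha, rfl⟩
  exact hgG a ha

theorem card_S0 : Nat.card (tab.S0 gg) = 2 ^ 10 := Tab.card_S0 ok rep_gg

theorem card_G : Nat.card ↥M24 = 2 ^ 10 * 239085 :=
  Cfsg.Agent.Lib.Helper9.M24T4.card_M24.trans (by norm_num)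

theorem hGM : M24 ≤ M24 := le_refl _

theorem hDG : ∀ s ∈ M24, ∀ p, (16777215 : ℕ).testBit (idx (s p)) = (16777215 : ℕ).testBit (idx p) :=
  fun s _ p => ones_inv s p

theorem hDS : ∀ s ∈ tab.S0 gg, ∀ p, (16777215 : ℕ).testBit (idx (s p)) = (16777215 : ℕ).testBit (idx p) :=
  fun s hs p => hDG s (hSG hs) p

theorem r0 : tab.Reach gg M24 16777215 [] := Tab.reach_nil _ _

theorem r1 : tab.Reach gg M24 16777215 [0] :=
  Tab.reach_step ok rep_gg M24 hSG 16777215 hDS [] r0 (by decide) [[]] (by decide) 0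
    (by decide) (by decide) (by decide +kernel)

theorem r2 : tab.Reach gg M24 16777215 [0, 1] :=
  Tab.reach_step ok rep_gg M24 hSG 16777215 hDS [0] r1 (by decide) [[], [0]] (by decide) 1
    (by decide) (by decide) (by decide +kernel)

theorem r3 : tab.Reach gg M24 16777215 [0, 1, 2] :=
  Tab.reach_step ok rep_gg M24 hSG 16777215 hDS [0, 1] r2 (by decide) [[0]] (by decide) 2
    (by decide) (by decide) (by decide +kernel)

theorem r4 : tab.Reach gg M24 16777215 [0, 1, 2, 7] :=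
  Tab.reach_step ok rep_gg M24 hSG 16777215 hDS [0, 1, 2] r3 (by decide) [[0]] (by decide) 7
    (by decide) (by decide) (by decide +kernel)

theorem r5 : tab.Reach gg M24 16777215 [0, 1, 2, 7, 19] :=
  Tab.reach_step ok rep_gg M24 hSG 16777215 hDS [0, 1, 2, 7] r4 (by decide) [[2]] (by decide) 19
    (by decide) (by decide) (by decide +kernel)

theorem r6 : tab.Reach gg M24 16777215 [0, 1, 2, 7, 19, 21] :=
  Tab.reach_step ok rep_gg M24 hSG 16777215 hDS [0, 1, 2, 7, 19] r5 (by decide) [[1]] (by decide) 21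
    (by decide) (by decide) (by decide +kernel)

theorem hfin : ∀ g1 ∈ M24, Nrm g1 (tab.S0 gg) → (∀ f ∈ [0, 1, 2, 7, 19, 21], g1 (unidx f) = unidx f) →
    g1 ∈ tab.S0 gg :=
  Tab.hfin_oct M24 hGM hSG 10 239085 card_S0 card_G (by decide) [0, 1, 2, 7, 19] 21 rfl (by decide) (by decide)
    11010247 (by decide +kernel) (by decide)

theorem e1 : c1 = h1 * c0 * h1⁻¹ := by
  apply Equiv.ext
  decide +kernel

theorem e2 : c2 = h2 * c0 * h2⁻¹ := by
  apply Equiv.ext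
  decide +kernel

theorem e3 : c3 = h3 * c0 * h3⁻¹ := by
  apply Equiv.ext
  decide +kernel

theorem e4 : c4 = h4 * c0 * h4⁻¹ := by
  apply Equiv.ext
  decide +kernel

theorem hconj : ∀ T : Subgroup (Equiv.Perm GolayPt), T ≤ tab.S0 gg → c0 ∈ T →
    (∀ x ∈ T, ∀ k ∈ M24, k * x * k⁻¹ ∈ tab.S0 gg → k * x * k⁻¹ ∈ T) → ∀ a < tab.k, gg a ∈ T := by
  intro T _ hz hcl

  have m1 : c1 ∈ T := conj_mem_T hcl hz h1_memG
    (Tab.gen_mem (t := tab) (g := gg) (a := 1) (by decide)) e1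

  have m2 : c2 ∈ T := conj_mem_T hcl hz h2_memG
    (Tab.gen_mem (t := tab) (g := gg) (a := 2) (by decide)) e2

  have m3 : c3 ∈ T := conj_mem_T hcl hz h3_memG
    (Tab.gen_mem (t := tab) (g := gg) (a := 3) (by decide)) e3

  have m4 : c4 ∈ T := conj_mem_T hcl hz h4_memG
    (Tab.gen_mem (t := tab) (g := gg) (a := 4) (by decide)) e4

  intro a ha
  have ha' : a < 5 := ha
  interval_cases a
  exacts [hz, m1, m2, m3, m4]

theorem hz : Rep c0 (tab.E 374) := rep_tperm _ _ _ _ _ (by decide +kernel)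

theorem good : Cfsg.Agent.Lib.Helper9.Syl2A.Good M24 (tab.S0 gg) :=
  Tab.good_of ok rep_gg M24 hgG 16777215 hDG [0, 1, 2, 7, 19, 21] r6 hfin 374 ok_cen c0 hz hconj 10 rfl

/-- the `2`-fusion system of `M24` is simple -/
theorem simple (S : Sylow 2 ↥M24) : (groupFusionSystem (S : Subgroup ↥M24)).IsSimple 2 :=
  Cfsg.Agent.Lib.Helper9.Syl2A.simple_main good 10 239085 (by norm_num) card_S0 card_G (by decide) S

/-- the Sylow `2`-subgroups of `M24` are self-normalizing -/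
theorem normalizer_eq (S : Sylow 2 ↥M24) :
    Subgroup.normalizer ((S : Subgroup ↥M24) : Set ↥M24) = (S : Subgroup ↥M24) :=
  Cfsg.Agent.Lib.Helper9.Syl2A.normalizer_main good 10 239085 (by norm_num) card_S0 card_G (by decide) S

end Cfsg.Agent.Lib.Helper9.Syl2M24

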