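import Mathlib
import Cfsg.Agent.Lib.Helper8.PRDefs

/-!
# S4033 piece B3a: basic API for `BB p g`
-/

set_option autoImplicit false
set_option linter.unusedVariables false
set_option linter.unusedSectionVars false
set_option linter.style.longLine false

namespace Cfsg.Agent.Lib.Helper8.PR

variable {G : Type*} [Group G]

theorem h9_mem_cent_singleton {g c : G} :
    c ∈ Subgroup.centralizer ({g} : Set G) ↔ g * c = c * g := by
  rw [Subgroup.mem_centralizer_iff]
  simp

theorem self_mem_BB {p : ℕ} {g : G} (hg : PReg p g) : g ∈ BB p g := by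
  refine ⟨h9_mem_cent_singleton.mpr rfl, fun c hc => ?_, hg⟩
  exact (h9_mem_cent_singleton.mp hc).symm

theorem Zp_le_BB (p : ℕ) (g : G) : Zp G p ≤ BB p g := by
  intro z hz
  have hzc := Subgroup.mem_center_iff.mp hz.1
  exact ⟨h9_mem_cent_singleton.mpr (hzc g), fun c _ => hzc c, hz.2⟩

theorem h9_conj_mem_BB (p : ℕ) (g h b : G) (hb : b ∈ BB p g) :
    h * b * h⁻¹ ∈ BB p (h * g * h⁻¹) := by
  obtain ⟨hb1, hb2, hb3⟩ := hb
  rw [h9_mem_cent_singleton] at hb1
  refine ⟨?_, ?_, hb3.conj h⟩
  · rw [h9_mem_cent_singleton]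
    calc h * g * h⁻¹ * (h * b * h⁻¹) = h * (g * b) * h⁻¹ := by group
      _ = h * (b * g) * h⁻¹ := by rw [hb1]
      _ = h * b * h⁻¹ * (h * g * h⁻¹) := by group
  · intro c hc
    rw [h9_mem_cent_singleton] at hc
    have hc' : h⁻¹ * c * h ∈ Subgroup.centralizer ({g} : Set G) := by
      rw [h9_mem_cent_singleton]
      calc g * (h⁻¹ * c * h) = h⁻¹ * (h * g * h⁻¹ * c) * h := by group
        _ = h⁻¹ * (c * (h * g * h⁻¹)) * h := by rw [hc]
        _ = h⁻¹ * c * h * g := by group
    have h2 := hb2 _ hc'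
    calc c * (h * b * h⁻¹) = h * (h⁻¹ * c * h * b) * h⁻¹ := by group
      _ = h * (b * (h⁻¹ * c * h)) * h⁻¹ := by rw [h2]
      _ = h * b * h⁻¹ * c := by group

theorem BB_conj (p : ℕ) (g h : G) :
    BB p (h * g * h⁻¹) = (BB p g).map (MulAut.conj h).toMonoidHom := by
  ext b
  rw [Subgroup.mem_map]
  constructor
  · intro hb
    refine ⟨h⁻¹ * b * h, ?_, by simp [MulAut.conj_apply, mul_assoc]⟩
    have := h9_conj_mem_BB p (h * g * h⁻¹) h⁻¹ b hb
    have e : h⁻¹ * (h * g * h⁻¹) * h⁻¹⁻¹ = g := by group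
    rw [e] at this
    simpa using this
  · rintro ⟨b', hb', rfl⟩
    simpa [MulAut.conj_apply] using h9_conj_mem_BB p g h b' hb'

theorem cent_eq_of_mem_BB [Finite G] {p m : ℕ} (H : Hyp G p m) {g b : G} (hg : PReg p g)
    (hgz : g ∉ Subgroup.center G) (hb : b ∈ BB p g) (hbz : b ∉ Subgroup.center G) :
    Subgroup.centralizer ({b} : Set G) = Subgroup.centralizer ({g} : Set G) := by
  have hle : Subgroup.centralizer ({g} : Set G) ≤ Subgroup.centralizer ({b} : Set G) := by
    intro c hc
    rw [h9_mem_cent_singleton]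
    exact (hb.2.1 c hc).symm
  have hig : idx g = m := (H.cls g hg).resolve_left hgz
  have hib : idx b = m := (H.cls b hb.2.2).resolve_left hbz
  unfold idx at hig hib
  have h1 := Subgroup.relIndex_mul_index hle
  rw [hig, hib] at h1
  have hm0 : m ≠ 0 := by have := H.hm; omega
  have h2 : (Subgroup.centralizer ({g} : Set G)).relIndex (Subgroup.centralizer ({b} : Set G)) = 1 := by
    have : (Subgroup.centralizer ({g} : Set G)).relIndex (Subgroup.centralizer ({b} : Set G)) * m
        = 1 * m := by rw [h1, one_mul]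
    exact Nat.eq_of_mul_eq_mul_right (Nat.pos_of_ne_zero hm0) this
  exact le_antisymm (Subgroup.relIndex_eq_one.mp h2) hle

theorem BB_eq_of_mem [Finite G] {p m : ℕ} (H : Hyp G p m) {g b : G} (hg : PReg p g)
    (hgz : g ∉ Subgroup.center G) (hb : b ∈ BB p g) (hbz : b ∉ Subgroup.center G) :
    BB p b = BB p g := by
  have e := cent_eq_of_mem_BB H hg hgz hb hbz
  ext x
  simp only [mem_BB, e]

theorem centralizer_BB [Finite G] {p m : ℕ} (H : Hyp G p m) {g : G} (hg : PReg p g)
    (hgz : g ∉ Subgroup.center G) :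
    Subgroup.centralizer ((BB p g : Subgroup G) : Set G) = Subgroup.centralizer ({g} : Set G) := by
  apply le_antisymm
  · intro c hc
    rw [Subgroup.mem_centralizer_iff] at hc
    rw [h9_mem_cent_singleton]
    exact hc g (self_mem_BB hg)
  · intro c hc
    rw [Subgroup.mem_centralizer_iff]
    intro b hb
    exact (hb.2.1 c hc).symm

theorem cent_le_normalizer_BB (p : ℕ) (g : G) :
    Subgroup.centralizer ({g} : Set G) ≤ Subgroup.normalizer ((BB p g : Subgroup G) : Set G) := by
  intro c hc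
  rw [Subgroup.mem_normalizer_iff]
  intro b
  constructor
  · intro hb
    have : c * b * c⁻¹ = b := by rw [hb.2.1 c hc]; group
    rw [this]; exact hb
  · intro hb
    have h1 := hb.2.1 c⁻¹ (Subgroup.inv_mem _ hc)
    have : b = c * b * c⁻¹ := by
      calc b = c⁻¹ * (c * b * c⁻¹) * c := by group
        _ = c * b * c⁻¹ * c⁻¹ * c := by rw [h1]
        _ = c * b * c⁻¹ := by group
    rw [this]; exact hb

end Cfsg.Agent.Lib.Helper8.PR
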