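import Mathlib
import Cfsg.Agent.Lib.Helper8.PRDefs
import Cfsg.Agent.Lib.Helper9.PRB3a
import Cfsg.Agent.Lib.Helper6.PRA4
import Cfsg.Agent.Lib.Helper6.PRB1
import Cfsg.Agent.Lib.Helper6.PRB2

/-!
# S4033 piece B8a: an `r`-element of `N(B) \ C(g)` normalizes no `r'`-subgroup `Y / C`
-/

set_option autoImplicit false
set_option linter.unusedVariables false
set_option linter.unusedSectionVars false
set_option linter.style.longLine false
set_option linter.style.haveILetI false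

namespace Cfsg.Agent.Lib.Helper8.PR

/-- in a finite group, a subgroup closed under conjugation by `u` is closed under conjugation by
`u⁻¹` -/
theorem h9_conj_inv_mem {G : Type*} [Group G] [Finite G] (S : Subgroup G) (u : G)
    (hu : ∀ h ∈ S, u * h * u⁻¹ ∈ S) : ∀ h ∈ S, u⁻¹ * h * u ∈ S := by
  have key : ∀ k : ℕ, ∀ h ∈ S, u ^ k * h * (u ^ k)⁻¹ ∈ S := by
    intro k
    induction k with
    | zero => intro h hh; simpa using hh
    | succ k ih =>
      intro h hh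
      have := hu _ (ih h hh)
      have e : u ^ (k + 1) * h * (u ^ (k + 1))⁻¹ = u * (u ^ k * h * (u ^ k)⁻¹) * u⁻¹ := by
        rw [pow_succ']; group
      rw [e]; exact this
  have hpos : 0 < orderOf u := orderOf_pos u
  have e : u⁻¹ = u ^ (orderOf u - 1) := by
    apply inv_eq_of_mul_eq_one_right
    rw [← pow_succ', Nat.sub_add_cancel hpos, pow_orderOf_eq_one]
  intro h hh
  have := key (orderOf u - 1) h hh
  rw [← e, inv_inv] at this
  exact this

/-- the norm of `y` over `Y / C` -/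
theorem h9_norm_lemma {G : Type*} [Group G] [Finite G] (B Y C : Subgroup G)
    (hBcomm : ∀ a ∈ B, ∀ b ∈ B, a * b = b * a) (hCY : C ≤ Y)
    (hYB : ∀ h ∈ Y, ∀ b ∈ B, h * b * h⁻¹ ∈ B)
    (u : G) (huB : ∀ b ∈ B, u * b * u⁻¹ ∈ B) (huY : ∀ h ∈ Y, u * h * u⁻¹ ∈ Y)
    (huC : ∀ c ∈ C, u * c * u⁻¹ ∈ C)
    (y ζ : G) (hy : y ∈ B) (hζ : ζ ∈ B) (hCy : ∀ c ∈ C, c * y = y * c)
    (huy : u * y * u⁻¹ = y * ζ) (hζY : ∀ h ∈ Y, h * ζ = ζ * h) :
    ∃ w ∈ B, (∀ h ∈ Y, h * w * h⁻¹ = w) ∧ u * w * u⁻¹ = w * ζ ^ (C.relIndex Y) := by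
  classical
  letI : CommGroup ↥B := { (inferInstance : Group ↥B) with
    mul_comm := fun a b => Subtype.ext (hBcomm a a.2 b b.2) }
  haveI : Fintype (↥Y ⧸ C.subgroupOf Y) := Fintype.ofFinite _
  have huC' := h9_conj_inv_mem C u huC
  -- the conjugation endomorphisms of `B`
  let cj : ∀ (x : G), (∀ b ∈ B, x * b * x⁻¹ ∈ B) → (↥B →* ↥B) := fun x hx =>
    { toFun := fun b => ⟨x * b * x⁻¹, hx b b.2⟩
      map_one' := Subtype.ext (by simp)
      map_mul' := fun a b => Subtype.ext (by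
        show x * ((a : G) * (b : G)) * x⁻¹ = x * a * x⁻¹ * (x * b * x⁻¹)
        group) }
  have hcj : ∀ (x : G) (hx : ∀ b ∈ B, x * b * x⁻¹ ∈ B) (b : ↥B),
      ((cj x hx b : ↥B) : G) = x * b * x⁻¹ := fun x hx b => rfl
  -- the map `hC ↦ h y h⁻¹`
  let f0 : ↥Y → ↥B := fun h => ⟨h * y * (h : G)⁻¹, hYB h h.2 y hy⟩
  have hf0 : ∀ h₁ h₂ : ↥Y, QuotientGroup.leftRel (C.subgroupOf Y) h₁ h₂ → f0 h₁ = f0 h₂ := by
    intro h₁ h₂ hrel
    rw [QuotientGroup.leftRel_apply, Subgroup.mem_subgroupOf] at hrel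
    have h1 := hCy _ hrel
    apply Subtype.ext
    show (h₁ : G) * y * (h₁ : G)⁻¹ = h₂ * y * (h₂ : G)⁻¹
    have h3 : ((h₁⁻¹ * h₂ : ↥Y) : G) = (h₁ : G)⁻¹ * h₂ := rfl
    rw [h3] at h1
    calc (h₁ : G) * y * (h₁ : G)⁻¹
        = h₁ * (y * ((h₁ : G)⁻¹ * h₂)) * (h₂ : G)⁻¹ := by group
      _ = h₁ * ((h₁ : G)⁻¹ * h₂ * y) * (h₂ : G)⁻¹ := by rw [h1]
      _ = h₂ * y * (h₂ : G)⁻¹ := by group
  let f : (↥Y ⧸ C.subgroupOf Y) → ↥B := fun q => Quotient.liftOn' q f0 hf0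
  have hf : ∀ h : ↥Y, f (QuotientGroup.mk h) = f0 h := fun h => rfl
  obtain ⟨w, hw⟩ : ∃ w : ↥B, w = ∏ q, f q := ⟨_, rfl⟩
  refine ⟨w, w.2, ?_, ?_⟩
  · -- `Y`-invariance
    intro h' hh'
    have h1 : cj h' (hYB h' hh') w = w := by
      rw [hw, map_prod]
      have h2 : ∀ q, cj h' (hYB h' hh') (f q) = f ((⟨h', hh'⟩ : ↥Y) • q) := by
        intro q
        induction q using QuotientGroup.induction_on with
        | H h =>
          have : ((⟨h', hh'⟩ : ↥Y) • (QuotientGroup.mk h : ↥Y ⧸ C.subgroupOf Y))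
              = QuotientGroup.mk ((⟨h', hh'⟩ : ↥Y) * h) := rfl
          rw [this, hf, hf]
          apply Subtype.ext
          show h' * ((h : G) * y * (h : G)⁻¹) * h'⁻¹ = (h' * h) * y * (h' * (h : G))⁻¹
          group
      rw [Finset.prod_congr rfl (fun q _ => h2 q)]
      exact Equiv.prod_comp (MulAction.toPerm (⟨h', hh'⟩ : ↥Y)) f
    have := congrArg Subtype.val h1
    rw [hcj] at this
    exact this
  · -- the action of `u`
    let s0 : ↥Y → ↥Y := fun h => ⟨u * h * u⁻¹, huY h h.2⟩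
    have hs0 : ∀ h₁ h₂ : ↥Y, QuotientGroup.leftRel (C.subgroupOf Y) h₁ h₂ →
        QuotientGroup.leftRel (C.subgroupOf Y) (s0 h₁) (s0 h₂) := by
      intro h₁ h₂ hrel
      rw [QuotientGroup.leftRel_apply, Subgroup.mem_subgroupOf] at hrel ⊢
      have := huC _ hrel
      have e : (((s0 h₁)⁻¹ * s0 h₂ : ↥Y) : G) = u * ((h₁⁻¹ * h₂ : ↥Y) : G) * u⁻¹ := by
        show (u * (h₁ : G) * u⁻¹)⁻¹ * (u * (h₂ : G) * u⁻¹) = u * ((h₁ : G)⁻¹ * h₂) * u⁻¹
        group
      rw [e]; exact this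
    let σ : (↥Y ⧸ C.subgroupOf Y) → (↥Y ⧸ C.subgroupOf Y) := Quotient.map' s0 hs0
    have hσ : ∀ h : ↥Y, σ (QuotientGroup.mk h) = QuotientGroup.mk (s0 h) := fun h => rfl
    have hσinj : Function.Injective σ := by
      intro q₁ q₂
      induction q₁ using QuotientGroup.induction_on with
      | H h₁ =>
        induction q₂ using QuotientGroup.induction_on with
        | H h₂ =>
          rw [hσ, hσ, QuotientGroup.eq, QuotientGroup.eq, Subgroup.mem_subgroupOf,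
            Subgroup.mem_subgroupOf]
          intro hmem
          have e : (((s0 h₁)⁻¹ * s0 h₂ : ↥Y) : G) = u * ((h₁⁻¹ * h₂ : ↥Y) : G) * u⁻¹ := by
            show (u * (h₁ : G) * u⁻¹)⁻¹ * (u * (h₂ : G) * u⁻¹) = u * ((h₁ : G)⁻¹ * h₂) * u⁻¹
            group
          rw [e] at hmem
          have := huC' _ hmem
          have e2 : u⁻¹ * (u * ((h₁⁻¹ * h₂ : ↥Y) : G) * u⁻¹) * u = ((h₁⁻¹ * h₂ : ↥Y) : G) := by
            group
          rw [e2] at this
          exact this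
    have hσbij : Function.Bijective σ := Finite.injective_iff_bijective.mp hσinj
    have h2 : ∀ q, cj u huB (f q) = f (σ q) * (⟨ζ, hζ⟩ : ↥B) := by
      intro q
      induction q using QuotientGroup.induction_on with
      | H h =>
        rw [hσ, hf, hf]
        apply Subtype.ext
        show u * ((h : G) * y * (h : G)⁻¹) * u⁻¹
          = (u * h * u⁻¹) * y * (u * (h : G) * u⁻¹)⁻¹ * ζ
        have h3 := hζY _ (huY h h.2)
        obtain ⟨h', hh'⟩ : ∃ h' : G, h' = u * h * u⁻¹ := ⟨_, rfl⟩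
        rw [← hh'] at h3 ⊢
        have h4 : ζ * h'⁻¹ = h'⁻¹ * ζ := by
          calc ζ * h'⁻¹ = h'⁻¹ * (h' * ζ) * h'⁻¹ := by group
            _ = h'⁻¹ * (ζ * h') * h'⁻¹ := by rw [h3]
            _ = h'⁻¹ * ζ := by group
        calc u * ((h : G) * y * (h : G)⁻¹) * u⁻¹
            = h' * (u * y * u⁻¹) * h'⁻¹ := by rw [hh']; group
          _ = h' * (y * ζ) * h'⁻¹ := by rw [huy]
          _ = h' * y * (ζ * h'⁻¹) := by simp only [mul_assoc]
          _ = h' * y * (h'⁻¹ * ζ) := by rw [h4]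
          _ = h' * y * h'⁻¹ * ζ := by simp only [mul_assoc]
    have h1 : cj u huB w = w * (⟨ζ, hζ⟩ : ↥B) ^ (C.relIndex Y) := by
      rw [hw, map_prod, Finset.prod_congr rfl (fun q _ => h2 q), Finset.prod_mul_distrib,
        Finset.prod_const, Finset.card_univ, hσbij.prod_comp f]
      congr 2
      rw [← Nat.card_eq_fintype_card]; rfl
    have := congrArg Subtype.val h1
    rw [hcj] at this
    exact this

/-- the `r`-elements of an abelian subgroup `B` -/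
def h9_rPart {G : Type*} [Group G] (B : Subgroup G) (hBcomm : ∀ a ∈ B, ∀ b ∈ B, a * b = b * a)
    (r : ℕ) : Subgroup G where
  carrier := {b | b ∈ B ∧ ∃ k : ℕ, b ^ r ^ k = 1}
  one_mem' := ⟨B.one_mem, 0, by simp⟩
  mul_mem' := by
    rintro a b ⟨ha, k, hk⟩ ⟨hb, l, hl⟩
    refine ⟨B.mul_mem ha hb, k + l, ?_⟩
    have hc : Commute a b := hBcomm a ha b hb
    rw [hc.mul_pow, pow_add, pow_mul, hk, one_pow, mul_comm (r ^ k) (r ^ l), pow_mul, hl, one_pow,
      one_mul]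
  inv_mem' := by
    rintro a ⟨ha, k, hk⟩
    exact ⟨B.inv_mem ha, k, by rw [inv_pow, hk, inv_one]⟩

variable {G : Type*} [Group G]

theorem no_normalize [Finite G] {p m : ℕ} (H : Hyp G p m) (h2 : TwoRho G p) {g : G}
    (hg : PReg p g) (hgz : g ∉ Subgroup.center G) {r : ℕ} (hr : r.Prime) (hrp : r ≠ p) {u : G}
    (hu : u ∈ Subgroup.normalizer ((BB p g : Subgroup G) : Set G))
    (huC : u ∉ Subgroup.centralizer ({g} : Set G)) (hur : IsPow r u) (Y : Subgroup G)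
    (hCY : Subgroup.centralizer ({g} : Set G) ≤ Y)
    (hYN : Y ≤ Subgroup.normalizer ((BB p g : Subgroup G) : Set G))
    (hne : Y ≠ Subgroup.centralizer ({g} : Set G))
    (hco : ¬ r ∣ (Subgroup.centralizer ({g} : Set G)).relIndex Y)
    (hnorm : ∀ y ∈ Y, u * y * u⁻¹ ∈ Y) : False := by
  haveI : Fact r.Prime := ⟨hr⟩
  have hBcomm : ∀ a ∈ BB p g, ∀ b ∈ BB p g, a * b = b * a := fun a ha b hb => BB_comm ha hb
  -- `u` is a noncentral `r`-element, so `r ∈ ρ`
  have huz : u ∉ Subgroup.center G := by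
    intro hz
    apply huC
    rw [h9_mem_cent_singleton]
    exact Subgroup.mem_center_iff.mp hz g
  have hρ : InRho G p r := ⟨hr, hrp, u, huz, hur⟩
  obtain ⟨b₀, hb₀C, hb₀z, kb, hkb⟩ := exists_rho_cent H hg hgz hρ
  have hrp' : Nat.Coprime r p := (Nat.coprime_primes hr H.hp).mpr hrp
  have hb₀B : b₀ ∈ BB p g := by
    rw [mem_BB_iff H h2 hg hgz]
    refine ⟨hb₀C, ?_⟩
    unfold PReg
    rw [hkb]
    exact Nat.Coprime.pow_left _ hrp'
  -- the subgroup `V`
  obtain ⟨V, hV⟩ : ∃ V : Subgroup G, V = h9_rPart (BB p g) hBcomm r := ⟨_, rfl⟩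
  have memV : ∀ x, x ∈ V ↔ x ∈ BB p g ∧ ∃ k : ℕ, x ^ r ^ k = 1 := by
    intro x; rw [hV]; exact Iff.rfl
  have hVB : V ≤ BB p g := fun x hx => ((memV x).mp hx).1
  have hVp : IsPGroup r V := by
    intro x
    obtain ⟨k, hk⟩ := ((memV x).mp x.2).2
    exact ⟨k, Subtype.ext (by simpa using hk)⟩
  have hb₀V : b₀ ∈ V := (memV b₀).mpr ⟨hb₀B, kb, by rw [← hkb, pow_orderOf_eq_one]⟩
  -- conjugation by elements of `N(B)` preserves `V`
  have hNV : ∀ x ∈ Subgroup.normalizer ((BB p g : Subgroup G) : Set G), ∀ v ∈ V,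
      x * v * x⁻¹ ∈ V := by
    intro x hx v hv
    obtain ⟨hvB, k, hk⟩ := (memV v).mp hv
    refine (memV _).mpr ⟨(Subgroup.mem_normalizer_iff.mp hx v).mp hvB, k, ?_⟩
    rw [conj_pow, hk]; group
  have huV : u ∈ Subgroup.normalizer (V : Set G) := by
    rw [Subgroup.mem_normalizer_iff]
    intro v
    constructor
    · exact hNV u hu v
    · intro hv
      have := hNV u⁻¹ (Subgroup.inv_mem _ hu) _ hv
      have e : u⁻¹ * (u * v * u⁻¹) * u⁻¹⁻¹ = v := by group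
      rwa [e] at this
  -- the `r`-group `S = V ⊔ ⟨u⟩`
  have hzp : IsPGroup r (Subgroup.zpowers u) := by
    obtain ⟨k, hk⟩ := hur
    apply IsPGroup.of_card (n := k)
    rw [Nat.card_zpowers, hk]
  have hzN : Subgroup.zpowers u ≤ Subgroup.normalizer (V : Set G) :=
    Subgroup.zpowers_le.mpr huV
  have hSp : IsPGroup r (V ⊔ Subgroup.zpowers u : Subgroup G) :=
    IsPGroup.to_sup_of_normal_left' hVp hzp hzN
  have hSN : V ⊔ Subgroup.zpowers u ≤ Subgroup.normalizer (V : Set G) :=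
    sup_le Subgroup.le_normalizer hzN
  have hJn : ∀ x ∈ (V ⊔ Subgroup.zpowers u : Subgroup G), ∀ j ∈ V, x * j * x⁻¹ ∈ V :=
    fun x hx j hj => (Subgroup.mem_normalizer_iff.mp (hSN hx) j).mp hj
  obtain ⟨d, hdV, hdz, hdS⟩ := exists_valid hr (V ⊔ Subgroup.zpowers u) V hSp le_sup_left hJn
    ⟨b₀, hb₀V, hb₀z⟩
  have hdB : d ∈ BB p g := hVB hdV
  have huS : u⁻¹ ∈ (V ⊔ Subgroup.zpowers u : Subgroup G) :=
    Subgroup.inv_mem _ ((le_sup_right : Subgroup.zpowers u ≤ V ⊔ Subgroup.zpowers u)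
      (Subgroup.mem_zpowers u))
  obtain ⟨ζ, hζdef⟩ : ∃ ζ : G, ζ = d⁻¹ * u * d * u⁻¹ := ⟨_, rfl⟩
  have hζz : ζ ∈ Subgroup.center G := by
    have := hdS u⁻¹ huS
    rw [inv_inv] at this
    rw [hζdef]; exact this
  have hζV : ζ ∈ V := by
    have h1 : u * d * u⁻¹ ∈ V := hNV u hu d hdV
    have e : ζ = d⁻¹ * (u * d * u⁻¹) := by rw [hζdef]; group
    rw [e]; exact V.mul_mem (V.inv_mem hdV) h1
  have huy : u * d * u⁻¹ = d * ζ := by rw [hζdef]; group
  -- `C(g) = C(B)` is normalized by `u`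
  have hCB := centralizer_BB H hg hgz
  have huCn : ∀ c ∈ Subgroup.centralizer ({g} : Set G),
      u * c * u⁻¹ ∈ Subgroup.centralizer ({g} : Set G) := by
    intro c hc
    rw [← hCB] at hc ⊢
    rw [Subgroup.mem_centralizer_iff] at hc ⊢
    intro b hb
    have hb' : u⁻¹ * b * u ∈ (BB p g : Set G) := by
      have := (Subgroup.mem_normalizer_iff.mp (Subgroup.inv_mem _ hu) b).mp hb
      rwa [inv_inv] at this
    have h1 := hc _ hb'
    calc b * (u * c * u⁻¹) = u * (u⁻¹ * b * u * c) * u⁻¹ := by group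
      _ = u * (c * (u⁻¹ * b * u)) * u⁻¹ := by rw [h1]
      _ = u * c * u⁻¹ * b := by group
  -- the norm
  obtain ⟨w, hwB, hwY, hwu⟩ := h9_norm_lemma (BB p g) Y (Subgroup.centralizer ({g} : Set G))
    hBcomm hCY (fun h hh b hb => (Subgroup.mem_normalizer_iff.mp (hYN hh) b).mp hb)
    u (fun b hb => (Subgroup.mem_normalizer_iff.mp hu b).mp hb) hnorm huCn d ζ hdB (hVB hζV)
    (fun c hc => hdB.2.1 c hc) huy (fun h _ => Subgroup.mem_center_iff.mp hζz h)
  -- `w` is central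
  have hwz : w ∈ Subgroup.center G := by
    by_contra hwz
    have hCw := cent_eq_of_mem_BB H hg hgz hwB hwz
    apply hne
    apply le_antisymm _ hCY
    intro h hh
    rw [← hCw, h9_mem_cent_singleton]
    have := hwY h hh
    calc w * h = h * w * h⁻¹ * h := by rw [this]
      _ = h * w := by group
  -- hence `ζ ^ n = 1`
  have hζn : ζ ^ (Subgroup.centralizer ({g} : Set G)).relIndex Y = 1 := by
    have h1 : u * w * u⁻¹ = w := by
      rw [Subgroup.mem_center_iff.mp hwz u]; group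
    rw [h1] at hwu
    exact mul_left_cancel (a := w) (by rw [mul_one]; exact hwu.symm)
  obtain ⟨kζ, hkζ⟩ := ((memV ζ).mp hζV).2
  have hζ1 : ζ = 1 := by
    have h1 : orderOf ζ ∣ (Subgroup.centralizer ({g} : Set G)).relIndex Y :=
      orderOf_dvd_of_pow_eq_one hζn
    have h2 : orderOf ζ ∣ r ^ kζ := orderOf_dvd_of_pow_eq_one hkζ
    have h3 : Nat.Coprime ((Subgroup.centralizer ({g} : Set G)).relIndex Y) (r ^ kζ) :=
      Nat.Coprime.pow_right _ ((Nat.Prime.coprime_iff_not_dvd hr).mpr hco).symm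
    have h4 : orderOf ζ = 1 := Nat.eq_one_of_dvd_coprimes h3 h1 h2
    exact orderOf_eq_one_iff.mp h4
  -- so `u` centralizes `d`, hence `g`
  apply huC
  rw [← cent_eq_of_mem_BB H hg hgz hdB hdz, h9_mem_cent_singleton]
  rw [hζ1, mul_one] at huy
  calc d * u = u * d * u⁻¹ * u := by rw [huy]
    _ = u * d := by group

end Cfsg.Agent.Lib.Helper8.PR
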