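import Mathlib
import Cfsg.Prelude.Def_ClassicalGeometry
import Cfsg.Agent.Lib.Helper5.SympFrames

set_option autoImplicit false
open Cfsg

namespace Cfsg.Agent.Lib.Helper9.SpLag

open Matrix Cfsg.Agent.Lib.Helper5.SympTv Cfsg.Agent.Lib.Helper5.SympGen
  Cfsg.Agent.Lib.Helper5.SympBridge Cfsg.Agent.Lib.Helper5.SympFrames

variable {F : Type*} [Field F] (k : ℕ)

/-- moving a matrix across the symplectic form -/
theorem sympForm_mulVec_left (A A' : Matrix (Fin k ⊕ Fin k) (Fin k ⊕ Fin k) F)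
    (h : Aᵀ * J (Fin k) F = J (Fin k) F * A') (x y : Fin k ⊕ Fin k → F) :
    sympForm k F (A *ᵥ x) y = sympForm k F x (A' *ᵥ y) := by
  unfold sympForm
  rw [← vecMul_transpose A x, ← dotProduct_mulVec, mulVec_mulVec, h, ← mulVec_mulVec]

/-- an isotropic subspace has dimension at most `k` -/
theorem finrank_le_of_isotropic (W : Submodule F (Fin k ⊕ Fin k → F))
    (hW : ∀ x ∈ W, ∀ y ∈ W, sympForm k F x y = 0) : Module.finrank F W ≤ k := by
  have hle : W ≤ (sympBilin F k).orthogonal W := by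
    intro y hy
    rw [LinearMap.BilinForm.mem_orthogonal_iff]
    intro x hx
    exact hW x hx y hy
  have h1 := Submodule.finrank_mono hle
  rw [LinearMap.BilinForm.finrank_orthogonal (sympBilin_nondegenerate k)] at h1
  have h2 : Module.finrank F (Fin k ⊕ Fin k → F) = 2 * k := by
    rw [Module.finrank_fintype_fun_eq_card, Fintype.card_sum, Fintype.card_fin]; ring
  have h3 : Module.finrank F W ≤ Module.finrank F (Fin k ⊕ Fin k → F) := Submodule.finrank_le W
  omega

/-- the standard idempotent, projection onto the second Lagrangian -/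
def e0 (F : Type*) [Field F] (k : ℕ) : Matrix (Fin k ⊕ Fin k) (Fin k ⊕ Fin k) F := fromBlocks 0 0 0 1

/-- the standard isotropic frame `f_1, …, f_k` -/
def stdFrame (F : Type*) [Field F] (k : ℕ) : Fin k → (Fin k ⊕ Fin k → F) :=
  fun j => Pi.single (Sum.inr j) 1

theorem stdFrame_isIso : IsIso k (stdFrame F k) := by
  constructor
  · have h := (Pi.basisFun F (Fin k ⊕ Fin k)).linearIndependent.comp Sum.inr Sum.inr_injective
    convert h using 1
    funext j
    simp [stdFrame, Pi.basisFun_apply]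
  · intro i j
    unfold stdFrame
    rw [sympForm_single_inr]
    simp

theorem e0_mulVec_stdFrame (j : Fin k) : e0 F k *ᵥ stdFrame F k j = stdFrame F k j := by
  unfold stdFrame e0
  rw [mulVec_single_one]
  ext i
  rcases i with i | i
  · simp [Pi.single_apply]
  · simp [Pi.single_apply, Matrix.one_apply, eq_comm]

theorem e0_mulVec_eq_sum (v : Fin k ⊕ Fin k → F) :
    e0 F k *ᵥ v = ∑ j, v (Sum.inr j) • stdFrame F k j := by
  ext i
  unfold e0 stdFrame
  rcases i with i | i
  · simp [mulVec, dotProduct, Pi.single_apply, Finset.sum_apply]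
  · simp [mulVec, dotProduct, Pi.single_apply, Finset.sum_apply, Matrix.one_apply]

theorem sympForm_zero_right (x : Fin k ⊕ Fin k → F) : sympForm k F x 0 = 0 := by
  unfold sympForm
  rw [mulVec_zero, dotProduct_zero]

/-- transpose-J relations for a symplectic matrix -/
theorem transpose_mul_J (g : symplecticGroup (Fin k) F) :
    (g.1)ᵀ * J (Fin k) F = J (Fin k) F * (g⁻¹).1 := by
  have h1 : (g.1)ᵀ * J (Fin k) F * g.1 = J (Fin k) F := (SymplecticGroup.mem_iff').mp g.2
  have h2 : g.1 * (g⁻¹).1 = 1 := congrArg Subtype.val (mul_inv_cancel g)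
  calc (g.1)ᵀ * J (Fin k) F = (g.1)ᵀ * J (Fin k) F * (g.1 * (g⁻¹).1) := by rw [h2, Matrix.mul_one]
    _ = ((g.1)ᵀ * J (Fin k) F * g.1) * (g⁻¹).1 := by simp only [Matrix.mul_assoc]
    _ = J (Fin k) F * (g⁻¹).1 := by rw [h1]

/-- conjugation by a symplectic matrix respects adjoints -/
theorem adj_conj (g : symplecticGroup (Fin k) F) (A A' : Matrix (Fin k ⊕ Fin k) (Fin k ⊕ Fin k) F)
    (h : Aᵀ * J (Fin k) F = J (Fin k) F * A') :
    (g.1 * A * (g⁻¹).1)ᵀ * J (Fin k) F = J (Fin k) F * (g.1 * A' * (g⁻¹).1) := by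
  have h1 := transpose_mul_J k g
  have h2 := transpose_mul_J k g⁻¹
  rw [inv_inv] at h2
  rw [transpose_mul, transpose_mul]
  calc ((g⁻¹).1)ᵀ * (Aᵀ * (g.1)ᵀ) * J (Fin k) F
      = ((g⁻¹).1)ᵀ * (Aᵀ * ((g.1)ᵀ * J (Fin k) F)) := by simp only [Matrix.mul_assoc]
    _ = ((g⁻¹).1)ᵀ * ((Aᵀ * J (Fin k) F) * (g⁻¹).1) := by rw [h1]; simp only [Matrix.mul_assoc]
    _ = (((g⁻¹).1)ᵀ * J (Fin k) F) * (A' * (g⁻¹).1) := by rw [h]; simp only [Matrix.mul_assoc]
    _ = J (Fin k) F * (g.1 * A' * (g⁻¹).1) := by rw [h2]; simp only [Matrix.mul_assoc]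

/-- the shear `[[1,0],[c,1]]` is symplectic for symmetric `c` -/
theorem shear_mem (c : Matrix (Fin k) (Fin k) F) (hc : cᵀ = c) :
    fromBlocks (1 : Matrix (Fin k) (Fin k) F) 0 c 1 ∈ symplecticGroup (Fin k) F := by
  rw [SymplecticGroup.mem_iff']
  unfold J
  rw [fromBlocks_transpose, fromBlocks_multiply, fromBlocks_multiply]
  simp [hc]

/-- (L'): an idempotent `e` with `e + e* = 1` is `Sp`-conjugate to the standard one. -/
theorem exists_symplectic_conj_e0 (e : Matrix (Fin k ⊕ Fin k) (Fin k ⊕ Fin k) F)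
    (he : e * e = e) (hA : eᵀ * J (Fin k) F = J (Fin k) F * (1 - e)) :
    ∃ g : symplecticGroup (Fin k) F, g.1 * e0 F k = e * g.1 := by
  set E : (Fin k ⊕ Fin k → F) →ₗ[F] (Fin k ⊕ Fin k → F) := Matrix.toLin' e with hE
  have hXiso : ∀ x ∈ LinearMap.range E, ∀ y ∈ LinearMap.range E, sympForm k F x y = 0 := by
    rintro _ ⟨x, rfl⟩ _ ⟨y, rfl⟩
    rw [hE, toLin'_apply, toLin'_apply, sympForm_mulVec_left k e (1 - e) hA, mulVec_mulVec,
      Matrix.sub_mul, Matrix.one_mul, he, sub_self, zero_mulVec]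
    exact sympForm_zero_right k x
  have hA' : (1 - e)ᵀ * J (Fin k) F = J (Fin k) F * e := by
    rw [transpose_sub, transpose_one, Matrix.sub_mul, Matrix.one_mul, hA, Matrix.mul_sub,
      Matrix.mul_one]
    abel
  have hYiso : ∀ x ∈ LinearMap.ker E, ∀ y ∈ LinearMap.ker E, sympForm k F x y = 0 := by
    intro x hx y hy
    have hx0 : e *ᵥ x = 0 := by
      have := LinearMap.mem_ker.mp hx
      rwa [hE, toLin'_apply] at this
    have hy0 : e *ᵥ y = 0 := by
      have := LinearMap.mem_ker.mp hy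
      rwa [hE, toLin'_apply] at this
    have hx' : (1 - e) *ᵥ x = x := by rw [sub_mulVec, one_mulVec, hx0, sub_zero]
    rw [← hx', sympForm_mulVec_left k (1 - e) e hA', hy0]
    exact sympForm_zero_right k x
  have hX := finrank_le_of_isotropic k _ hXiso
  have hY := finrank_le_of_isotropic k _ hYiso
  have hsum := LinearMap.finrank_range_add_finrank_ker E
  have hV : Module.finrank F (Fin k ⊕ Fin k → F) = 2 * k := by
    rw [Module.finrank_fintype_fun_eq_card, Fintype.card_sum, Fintype.card_fin]; ring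
  have hXk : Module.finrank F (LinearMap.range E) = k := by omega
  let bX := Module.finBasisOfFinrankEq F (LinearMap.range E) hXk
  let s : Fin k → (Fin k ⊕ Fin k → F) := fun i => (bX i : Fin k ⊕ Fin k → F)
  have hs : IsIso k s :=
    ⟨bX.linearIndependent.map' (LinearMap.range E).subtype (Submodule.ker_subtype _),
      fun i j => hXiso _ (bX i).2 _ (bX j).2⟩
  obtain ⟨g, hg⟩ := exists_smul_eq k k s (stdFrame F k) hs (stdFrame_isIso k)
  have hg' : ∀ i, g.1 *ᵥ s i = stdFrame F k i := fun i => congrFun hg i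
  have hXspan : LinearMap.range E = Submodule.span F (Set.range s) := by
    have h1 := bX.span_eq
    have h2 := congrArg (Submodule.map (LinearMap.range E).subtype) h1
    rw [Submodule.map_span, Submodule.map_subtype_top, ← Set.range_comp] at h2
    exact h2.symm
  have hGX : ∀ x ∈ LinearMap.range E,
      g.1 *ᵥ x ∈ Submodule.span F (Set.range (stdFrame F k)) := by
    intro x hx
    rw [hXspan] at hx
    have h1 : (Matrix.toLin' g.1) x ∈ (Submodule.span F (Set.range s)).map (Matrix.toLin' g.1) :=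
      Submodule.mem_map_of_mem hx
    rw [Submodule.map_span, ← Set.range_comp] at h1
    have hcomp : (Matrix.toLin' g.1) ∘ s = stdFrame F k := by
      funext i
      rw [Function.comp_apply, toLin'_apply, hg']
    rw [hcomp, toLin'_apply] at h1
    exact h1
  have hfix : ∀ w ∈ Submodule.span F (Set.range (stdFrame F k)), e0 F k *ᵥ w = w := by
    intro w hw
    induction hw using Submodule.span_induction with
    | mem x hx => obtain ⟨j, rfl⟩ := hx; exact e0_mulVec_stdFrame k j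
    | zero => rw [mulVec_zero]
    | add x y _ _ hx hy => rw [mulVec_add, hx, hy]
    | smul c x _ hx => rw [mulVec_smul, hx]
  have h1 : e0 F k * (g.1 * e) = g.1 * e := by
    apply Matrix.toLin'.injective
    apply LinearMap.ext
    intro v
    rw [toLin'_apply, toLin'_apply, ← mulVec_mulVec, ← mulVec_mulVec]
    apply hfix
    apply hGX
    exact ⟨v, by rw [hE, toLin'_apply]⟩
  have hginv : ∀ j, (g⁻¹).1 *ᵥ stdFrame F k j = s j := by
    intro j
    rw [← hg' j, mulVec_mulVec]
    have : (g⁻¹).1 * g.1 = 1 := congrArg Subtype.val (inv_mul_cancel g)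
    rw [this, one_mulVec]
  have hes : ∀ x ∈ LinearMap.range E, e *ᵥ x = x := by
    rintro _ ⟨y, rfl⟩
    rw [hE, toLin'_apply, mulVec_mulVec, he]
  have h2 : e * ((g⁻¹).1 * e0 F k) = (g⁻¹).1 * e0 F k := by
    apply Matrix.toLin'.injective
    apply LinearMap.ext
    intro v
    rw [toLin'_apply, toLin'_apply, ← mulVec_mulVec]
    apply hes
    rw [← mulVec_mulVec, e0_mulVec_eq_sum]
    have h3 : (g⁻¹).1 *ᵥ (∑ j, v (Sum.inr j) • stdFrame F k j) = ∑ j, v (Sum.inr j) • s j := by
      rw [← toLin'_apply, map_sum]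
      apply Finset.sum_congr rfl
      intro j _
      rw [map_smul, toLin'_apply, hginv]
    rw [h3]
    exact Submodule.sum_mem _ (fun j _ => Submodule.smul_mem _ _ (bX j).2)
  -- the conjugate idempotent
  have hgg : g.1 * (g⁻¹).1 = 1 := congrArg Subtype.val (mul_inv_cancel g)
  have hgg' : (g⁻¹).1 * g.1 = 1 := congrArg Subtype.val (inv_mul_cancel g)
  obtain ⟨p, q, r, s', hblocks⟩ : ∃ p q r s', g.1 * e * (g⁻¹).1 = fromBlocks p q r s' :=
    ⟨_, _, _, _, (fromBlocks_toBlocks _).symm⟩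
  have h01 : e0 F k * (g.1 * e * (g⁻¹).1) = g.1 * e * (g⁻¹).1 := by
    rw [← Matrix.mul_assoc, ← Matrix.mul_assoc, Matrix.mul_assoc (e0 F k), h1]
  have h10 : (g.1 * e * (g⁻¹).1) * e0 F k = e0 F k := by
    rw [Matrix.mul_assoc, Matrix.mul_assoc, h2, ← Matrix.mul_assoc, hgg, Matrix.one_mul]
  have hA1 := adj_conj k g e (1 - e) hA
  have hconj1 : g.1 * (1 - e) * (g⁻¹).1 = 1 - g.1 * e * (g⁻¹).1 := by
    rw [Matrix.mul_sub, Matrix.mul_one, Matrix.sub_mul, hgg]
  rw [hconj1, hblocks] at hA1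
  rw [hblocks] at h01 h10
  unfold e0 at h01 h10
  rw [fromBlocks_multiply, fromBlocks_inj] at h01 h10
  simp only [Matrix.zero_mul, Matrix.one_mul, zero_add, add_zero, Matrix.mul_zero,
    Matrix.mul_one] at h01 h10
  obtain ⟨hp, hq, -, -⟩ := h01
  obtain ⟨-, -, -, hs1⟩ := h10
  subst hp hq hs1
  have hr : rᵀ = r := by
    unfold J at hA1
    rw [← fromBlocks_one, sub_eq_add_neg, fromBlocks_neg, fromBlocks_add, fromBlocks_transpose,
      fromBlocks_multiply, fromBlocks_multiply, fromBlocks_inj] at hA1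
    simpa using hA1.1
  refine ⟨g⁻¹ * ⟨fromBlocks 1 0 (-r) 1, shear_mem k (-r) (by rw [transpose_neg, hr])⟩, ?_⟩
  have hsh : fromBlocks (1 : Matrix (Fin k) (Fin k) F) 0 (-r) 1 * e0 F k =
      fromBlocks 0 0 r 1 * fromBlocks (1 : Matrix (Fin k) (Fin k) F) 0 (-r) 1 := by
    unfold e0
    rw [fromBlocks_multiply, fromBlocks_multiply]
    simp
  show (g⁻¹).1 * fromBlocks 1 0 (-r) 1 * e0 F k = e * ((g⁻¹).1 * fromBlocks 1 0 (-r) 1)
  rw [Matrix.mul_assoc, hsh, ← hblocks]
  simp only [Matrix.mul_assoc]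
  rw [← Matrix.mul_assoc (g⁻¹).1 g.1, hgg', Matrix.one_mul]

end Cfsg.Agent.Lib.Helper9.SpLag
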