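import Mathlib
import Cfsg.Prelude.Def_Characters
import Cfsg.Prelude.Def_DegreeGraph

/-!
# S3670: shared definitions (the Borel data of PSU(3,3) in abstract form)

`BData G`: a subgroup `U` of order 27, an element `t` of order 8 normalizing `U` and centralizing
no non-identity element of `U`, and an element `w` with `w⁻¹ t w = t ^ k ≠ t` such that
`w⁻¹ u w ∉ U⟨t⟩` for `1 ≠ u ∈ U`.  `D.B = U ⊔ ⟨t⟩` is the Borel subgroup.
-/

set_option autoImplicit false

namespace Cfsg.Agent.Lib.Helper9.D3670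

/-- Concrete input data for the Harish-Chandra argument. -/
structure BData (G : Type*) [Group G] where
  U : Subgroup G
  t : G
  w : G
  k : ℕ
  cardU : Nat.card U = 27
  ordt : orderOf t = 8
  tU : ∀ u ∈ U, t * u * t⁻¹ ∈ U
  fpf : ∀ u ∈ U, t * u = u * t → u = 1
  wt : w⁻¹ * t * w = t ^ k
  wt_ne : t ^ k ≠ t
  wU : ∀ u ∈ U, u ≠ 1 → ∀ u' ∈ U, ∀ i : ℕ, w⁻¹ * u * w ≠ u' * t ^ i

variable {G : Type*} [Group G]

/-- The Borel subgroup `U⟨t⟩`. -/
def BData.B (D : BData G) : Subgroup G := D.U ⊔ Subgroup.zpowers D.t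

theorem BData.U_le_B (D : BData G) : D.U ≤ D.B := le_sup_left

theorem BData.t_mem_B (D : BData G) : D.t ∈ D.B :=
  (le_sup_right : Subgroup.zpowers D.t ≤ D.B) (Subgroup.mem_zpowers D.t)

/-- `ω` is the linear character of `B` trivial on `U` with `ω t = z`. -/
def IsLin (D : BData G) (ω : D.B →* ℂˣ) (z : ℂˣ) : Prop :=
  ω ⟨D.t, D.t_mem_B⟩ = z ∧ ∀ (u : G) (hu : u ∈ D.U), ω ⟨u, D.U_le_B hu⟩ = 1

/-- The eight linear characters of `B / U`. -/
structure LinFam (D : BData G) where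
  ζ : ℂˣ
  hζ : orderOf ζ = 8
  ω : Fin 8 → (D.B →* ℂˣ)
  hω : ∀ j : Fin 8, IsLin D (ω j) (ζ ^ (j : ℕ))

/-- The character of `G` induced from the `j`-th linear character of `B`. -/
noncomputable def LinFam.ind [Fintype G] {D : BData G} (L : LinFam D) (j : Fin 8) : G → ℂ :=
  Cfsg.indFun D.B (fun b : D.B => ((L.ω j b : ℂˣ) : ℂ))

end Cfsg.Agent.Lib.Helper9.D3670
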