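import Mathlib
import Cfsg.Prelude
import Cfsg.Agent.Lib.Helper8.Asch17

set_option autoImplicit false

/-! The interface for the extraspecial group `3^{1+2}` inside `GU_3(2)`, used for the
exceptional tensor case `(q, k) = (2, 3)` of the unitary Aschbacher theorem. -/

open Cfsg

namespace Cfsg.Agent.Lib.Helper9.AschU

open Matrix
open scoped commutatorElement
open Cfsg.Agent.Lib.Helper8.Asch

/-- `E` is a copy of `3^{1+2}` in `GU_3(2)` (matrices over the field `F` of order four), normalised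
by all of `GU_3(2)`, and `W` is a normalising element acting fixed-point-freely on `E / Z(E)`. -/
structure HeisData (F : Type*) [Field F] [Fintype F] (E : Subgroup (GL (Fin 3) F))
    (W : GL (Fin 3) F) : Prop where
  span : Submodule.span F (mset E) = ⊤
  comm : ∀ x ∈ E, ∀ y ∈ E, ⁅x, y⁆ ∈ Zs (Fin 3) F
  cube : ∀ x ∈ E, x ^ 3 = 1
  scal : Zs (Fin 3) F ≤ E
  unit : E ≤ GU 3 F 2
  wnorm : ∀ x ∈ E, W * x * W⁻¹ ∈ E
  factC : ∀ x ∈ E, x ∉ Zs (Fin 3) F → x * (W * x * W⁻¹) ≠ (W * x * W⁻¹) * x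
  norm : ∀ U ∈ GU 3 F 2, ∀ x ∈ E, U * x * U⁻¹ ∈ E

end Cfsg.Agent.Lib.Helper9.AschU
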