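import Mathlib
import Cfsg.Agent.Lib.Helper6.KHom1
import Cfsg.Agent.Lib.Helper6.KHom2
import Cfsg.Agent.Lib.Helper8.Mil1
import Cfsg.Agent.Lib.Lead.OrbitCount
import Cfsg.Agent.Lib.Helper1.Wl4

set_option autoImplicit false
set_option maxHeartbeats 1000000

/-! # Livingstone–Wagner (b): pieces G4, G1, G3 -/

namespace Cfsg.Agent.Lib.Helper9.KHom

open MulAction SubMulAction Cfsg.Agent.Lib.Helper8.Mil Cfsg.Agent.Lib.Helper6.KHom

variable {α : Type*} [Fintype α] [DecidableEq α] (G : Subgroup (Equiv.Perm α))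

/-- a subgroup of `G` fixing `Γ'` pointwise lies in `pstab G Γ'` -/
theorem le_pstab_of_fixF (P : Subgroup (Equiv.Perm α)) (hPG : P ≤ G) (Γ' : Finset α)
    (hΓ' : Γ' ⊆ fixF P) : P ≤ pstab G Γ' := by
  intro u hu
  exact ⟨hPG hu, fun y hy => mem_fixF.mp (hΓ' hy) u hu⟩

/-- a 2-subgroup `Q` of `pstab G Γ'` containing `P` of order `2^a`, when `2^(a+1)` does not
divide the order of the pointwise stabiliser, equals `P` -/
theorem eq_of_two_group (a : ℕ) (P Q : Subgroup (Equiv.Perm α)) (hPc : Nat.card P = 2 ^ a)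
    (Γ' : Finset α) (hl : ¬ 2 ^ (a + 1) ∣ Nat.card (fixingSubgroup G (Γ' : Set α)))
    (hPQ : P ≤ Q) (hQ : Q ≤ pstab G Γ') (hQ2 : IsPGroup 2 Q) : Q = P := by
  haveI : Fact (Nat.Prime 2) := ⟨Nat.prime_two⟩
  obtain ⟨b, hb⟩ := IsPGroup.iff_card.mp hQ2
  have h1 : Nat.card Q ∣ Nat.card (fixingSubgroup G (Γ' : Set α)) := by
    rw [← card_pstab]
    exact Subgroup.card_dvd_of_le hQ
  have hba : b ≤ a := by
    by_contra hlt
    push Not at hlt
    apply hl
    rw [hb] at h1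
    exact dvd_trans (pow_dvd_pow 2 hlt) h1
  have hle : Nat.card Q ≤ Nat.card P := by
    rw [hb, hPc]; exact Nat.pow_le_pow_right (by norm_num) hba
  exact (Subgroup.eq_of_le_of_card_ge hPQ hle).symm

/-- PIECE G4 -/
theorem odd_of_fix (a : ℕ) (P : Subgroup (Equiv.Perm α)) (hPG : P ≤ G) (hPc : Nat.card P = 2 ^ a) (Γ' : Finset α) (hΓ' : Γ' ⊆ fixF P)
    (hl : ¬ 2 ^ (a + 1) ∣ Nat.card (fixingSubgroup G (Γ' : Set α))) (g : Equiv.Perm α) (hgG : g ∈ G)
    (hgN : g ∈ Subgroup.normalizer (P : Set (Equiv.Perm α))) (hgfix : ∀ x ∈ Γ', g x = x) : ∃ j : ℕ, Odd j ∧ g ^ j ∈ P := by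
  haveI : Fact (Nat.Prime 2) := ⟨Nat.prime_two⟩
  obtain ⟨e, j, hj, hej⟩ := Nat.exists_eq_two_pow_mul_odd (orderOf_pos g).ne'
  refine ⟨j, hj, ?_⟩
  set g₀ := g ^ j with hg₀
  have hg₀2 : g₀ ^ (2 ^ e) = 1 := by
    rw [hg₀, ← pow_mul, mul_comm, ← hej, pow_orderOf_eq_one]
  have hZ2 : IsPGroup 2 (Subgroup.zpowers g₀) := by
    intro x
    obtain ⟨x, hx⟩ := x
    obtain ⟨k, rfl⟩ := Subgroup.mem_zpowers_iff.mp hx
    refine ⟨e, ?_⟩
    apply Subtype.ext
    simp only [Subgroup.coe_pow, Subgroup.coe_one]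
    rw [← zpow_natCast, ← zpow_mul, mul_comm, zpow_mul, zpow_natCast, hg₀2, one_zpow]
  have hP2 : IsPGroup 2 P := IsPGroup.of_card hPc
  have hZN : Subgroup.zpowers g₀ ≤ Subgroup.normalizer (P : Set (Equiv.Perm α)) := by
    rw [Subgroup.zpowers_le]
    exact Subgroup.pow_mem _ hgN j
  have hQ2 : IsPGroup 2 (Subgroup.zpowers g₀ ⊔ P : Subgroup (Equiv.Perm α)) :=
    IsPGroup.to_sup_of_normal_right' hZ2 hP2 hZN
  have hPle : P ≤ pstab G Γ' := le_pstab_of_fixF G P hPG Γ' hΓ'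
  have hgp : g ∈ pstab G Γ' := ⟨hgG, hgfix⟩
  have hQle : (Subgroup.zpowers g₀ ⊔ P : Subgroup (Equiv.Perm α)) ≤ pstab G Γ' := by
    apply sup_le _ hPle
    rw [Subgroup.zpowers_le]
    exact Subgroup.pow_mem _ hgp j
  have := eq_of_two_group G a P _ hPc Γ' hl le_sup_right hQle hQ2
  rw [← this]
  exact Subgroup.mem_sup_left (Subgroup.mem_zpowers g₀)

/-- PIECE G1 -/
theorem exists_fixed_in_orbit (a : ℕ) (Γ : Finset α) (P : Subgroup (Equiv.Perm α)) (hPle : P ≤ pstab G Γ) (hP2 : IsPGroup 2 P)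
    (hΓ2 : ¬ 2 ^ (a + 1) ∣ Nat.card (fixingSubgroup G (Γ : Set α))) (b : α) (hb : b ∉ Γ)
    (hκb : 2 ^ a ∣ Nat.card (fixingSubgroup G ((insert b Γ : Finset α) : Set α))) :
    ∃ l : G, l ∈ fixingSubgroup G (Γ : Set α) ∧ l • b ∈ fixF P := by
  haveI : Fact (Nat.Prime 2) := ⟨Nat.prime_two⟩
  set L : Subgroup G := fixingSubgroup G (Γ : Set α) with hL
  have hcount := Cfsg.Agent.Lib.Lead.OrbitCount.card_orbit_fixingSubgroup (G := G) (Γ : Set α) b
  have hins : ((insert b Γ : Finset α) : Set α) = insert b (Γ : Set α) := by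
    ext x; simp
  rw [hins] at hκb
  -- the orbit has odd size
  have hodd : ¬ 2 ∣ (orbit L b).ncard := by
    intro h2
    apply hΓ2
    rw [← hcount, pow_succ, mul_comm]
    exact Nat.mul_dvd_mul h2 hκb
  -- P as a subgroup of L
  set φ : L →* Equiv.Perm α := G.subtype.comp L.subtype with hφ
  have hφinj : Function.Injective φ := by
    intro x y hxy
    apply Subtype.ext; apply Subtype.ext
    exact hxy
  set P' : Subgroup L := P.comap φ with hP'
  have hP'2 : IsPGroup 2 P' := hP2.comap_of_injective φ hφinj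
  have hfin : Finite (orbit L b) := Set.finite_coe_iff.mpr (Set.toFinite _)
  have hcard : ¬ 2 ∣ Nat.card (orbit L b) := by
    rw [Nat.card_coe_set_eq]; exact hodd
  obtain ⟨⟨z, hz⟩, hzfix⟩ := hP'2.nonempty_fixed_point_of_prime_not_dvd_card (orbit L b) hcard
  obtain ⟨l, hl⟩ := hz
  refine ⟨l.1, l.2, ?_⟩
  have hlz : (l.1 : G) • b = z := hl
  rw [hlz, mem_fixF]
  intro u hu
  have huL := hPle hu
  have huG : u ∈ G := huL.1
  have huL' : (⟨u, huG⟩ : G) ∈ L := by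
    rw [hL, mem_fixingSubgroup_iff]
    intro y hy
    exact huL.2 y (Finset.mem_coe.mp hy)
  have huP' : (⟨⟨u, huG⟩, huL'⟩ : L) ∈ P' := by
    rw [hP', Subgroup.mem_comap]; exact hu
  have h1 := hzfix ⟨⟨⟨u, huG⟩, huL'⟩, huP'⟩
  have h2 := congrArg Subtype.val h1
  exact h2

omit [DecidableEq α] in
/-- an element conjugating the finite subgroup `P` into itself normalizes it -/
theorem mem_normalizer_of_conj_le (P : Subgroup (Equiv.Perm α)) (n : Equiv.Perm α)
    (h : ∀ u ∈ P, n * u * n⁻¹ ∈ P) : n ∈ Subgroup.normalizer (P : Set (Equiv.Perm α)) := by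
  rw [Subgroup.mem_normalizer_iff]
  intro x
  refine ⟨h x, fun hx => ?_⟩
  let f : P → P := fun u => ⟨n * u.1 * n⁻¹, h u.1 u.2⟩
  have hf : Function.Injective f := by
    intro u v huv
    have := congrArg Subtype.val huv
    simp only [f] at this
    apply Subtype.ext
    exact mul_left_cancel (mul_right_cancel this)
  obtain ⟨u, hu⟩ := (Finite.injective_iff_surjective.mp hf) ⟨n * x * n⁻¹, hx⟩
  have := congrArg Subtype.val hu
  simp only [f] at this
  have hxu : u.1 = x := mul_left_cancel (mul_right_cancel this)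
  rw [← hxu]; exact u.2

/-- PIECE G3 -/
theorem witt_set (a : ℕ) {k : ℕ} (hh : IsPretransitive G (Set.powersetCard α k))
    (hκ : ∀ Δ : Finset α, Δ.card = k → ¬ 2 ^ (a + 1) ∣ Nat.card (fixingSubgroup G (Δ : Set α)))
    (P : Subgroup (Equiv.Perm α)) (hPG : P ≤ G) (hPc : Nat.card P = 2 ^ a) (Δ1 Δ2 : Finset α) (h1 : Δ1.card = k) (h2 : Δ2.card = k)
    (hF1 : Δ1 ⊆ fixF P) (hF2 : Δ2 ⊆ fixF P) :
    ∃ n : Equiv.Perm α, n ∈ G ∧ n ∈ Subgroup.normalizer (P : Set (Equiv.Perm α)) ∧ Δ1.image n = Δ2 := by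
  haveI : Fact (Nat.Prime 2) := ⟨Nat.prime_two⟩
  obtain ⟨g, hg⟩ := Cfsg.Agent.Lib.Helper1.Wl.homog_exists G hh h1 h2
  have hgimg : Δ1.image (g : Equiv.Perm α) = Δ2 := by
    rw [← hg]
    ext y
    simp only [Finset.mem_image, Finset.mem_smul_finset]
    constructor
    · rintro ⟨x, hx, rfl⟩; exact ⟨x, hx, rfl⟩
    · rintro ⟨x, hx, rfl⟩; exact ⟨x, hx, rfl⟩
  set H : Subgroup (Equiv.Perm α) := pstab G Δ2 with hH
  have hPH : P ≤ H := le_pstab_of_fixF G P hPG Δ2 hF2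
  -- P is Sylow in H
  have hHcard : Nat.card H = Nat.card (fixingSubgroup G (Δ2 : Set α)) := card_pstab G Δ2
  have hHpos : Nat.card H ≠ 0 := Nat.card_pos.ne'
  have hfac : (Nat.card H).factorization 2 = a := by
    have hd1 : 2 ^ a ∣ Nat.card H := by rw [← hPc]; exact Subgroup.card_dvd_of_le hPH
    have hd2 : ¬ 2 ^ (a + 1) ∣ Nat.card H := by rw [hHcard]; exact hκ Δ2 h2
    have e1 := (Nat.Prime.pow_dvd_iff_le_factorization Nat.prime_two hHpos).mp hd1
    have e2 : ¬ a + 1 ≤ (Nat.card H).factorization 2 := fun hle =>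
      hd2 ((Nat.Prime.pow_dvd_iff_le_factorization Nat.prime_two hHpos).mpr hle)
    omega
  have hc : Nat.card (P.subgroupOf H) = 2 ^ (Nat.card H).factorization 2 := by
    rw [hfac, Nat.card_congr (Subgroup.subgroupOfEquivOfLe hPH).toEquiv, hPc]
  let P' : Sylow 2 H := Sylow.ofCard (P.subgroupOf H) hc
  have hP'map : (P' : Subgroup H).map H.subtype = P := by
    change (P.subgroupOf H).map H.subtype = P
    rw [Subgroup.subgroupOf_map_subtype]
    exact inf_eq_left.mpr hPH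
  -- V = g P g⁻¹
  set V : Subgroup (Equiv.Perm α) := P.map (MulAut.conj (g : Equiv.Perm α)).toMonoidHom with hV
  have hVmem : ∀ v, v ∈ V ↔ ∃ u ∈ P, (g : Equiv.Perm α) * u * (g : Equiv.Perm α)⁻¹ = v := by
    intro v
    rw [hV, Subgroup.mem_map]
    simp
  have hVH : V ≤ H := by
    intro v hv
    obtain ⟨u, hu, rfl⟩ := (hVmem v).mp hv
    refine ⟨G.mul_mem (G.mul_mem g.2 (hPG hu)) (G.inv_mem g.2), ?_⟩
    intro y hy
    rw [← hgimg] at hy
    obtain ⟨x, hx, rfl⟩ := Finset.mem_image.mp hy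
    simp only [Equiv.Perm.mul_apply]
    have e0 : (g : Equiv.Perm α)⁻¹ ((g : Equiv.Perm α) x) = x := by simp
    rw [e0, mem_fixF.mp (hF1 hx) u hu]
  have hVcard : Nat.card V = Nat.card (P' : Subgroup H) := by
    have e1 : Nat.card V = Nat.card P := by
      rw [hV]
      exact Subgroup.card_map_of_injective (MulAut.conj (g : Equiv.Perm α)).injective
    rw [e1]
    change Nat.card P = Nat.card (P.subgroupOf H)
    rw [Nat.card_congr (Subgroup.subgroupOfEquivOfLe hPH).toEquiv]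
  obtain ⟨h, hhH, hconj⟩ := sylow_conj H P' V hVH hVcard
  rw [hP'map] at hconj
  refine ⟨h * g, G.mul_mem hhH.1 g.2, ?_, ?_⟩
  · apply mem_normalizer_of_conj_le
    intro u hu
    have hv : (g : Equiv.Perm α) * u * (g : Equiv.Perm α)⁻¹ ∈ V := (hVmem _).mpr ⟨u, hu, rfl⟩
    have := hconj _ hv
    have e : h * (g : Equiv.Perm α) * u * (h * (g : Equiv.Perm α))⁻¹ =
        h * ((g : Equiv.Perm α) * u * (g : Equiv.Perm α)⁻¹) * h⁻¹ := by group
    rw [e]; exact this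
  · rw [← hgimg]
    ext y
    simp only [Finset.mem_image, Equiv.Perm.mul_apply]
    constructor
    · rintro ⟨x, hx, rfl⟩
      refine ⟨x, hx, ?_⟩
      have hgx : (g : Equiv.Perm α) x ∈ Δ2 := by
        rw [← hgimg]; exact Finset.mem_image_of_mem _ hx
      exact (hhH.2 _ hgx).symm
    · rintro ⟨x, hx, rfl⟩
      refine ⟨x, hx, ?_⟩
      have hgx : (g : Equiv.Perm α) x ∈ Δ2 := by
        rw [← hgimg]; exact Finset.mem_image_of_mem _ hx
      exact hhH.2 _ hgx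

end Cfsg.Agent.Lib.Helper9.KHom
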