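import Mathlib
import Cfsg.Prelude

set_option autoImplicit false
set_option linter.unusedSectionVars false
set_option linter.unusedVariables false
set_option linter.style.longLine false
set_option linter.unusedSimpArgs false
open Cfsg

set_option maxHeartbeats 1600000
namespace Cfsg.Agent.Lib.Helper9.KS

open scoped commutatorElement Pointwise
open MatrixGroups

universe u

set_option maxRecDepth 100000 in
theorem sl2_comm_comm : ∀ a b c d : Matrix.SpecialLinearGroup (Fin 2) (ZMod 2),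
    ⁅a, b⁆ * ⁅c, d⁆ = ⁅c, d⁆ * ⁅a, b⁆ := by
  decide

variable {Y : Type u} [Group Y]

/-- commutators in a group isomorphic to `SL₂(2)` commute. -/
theorem comm_comm_of_iso {E : Subgroup Y}
    (φ : ↥E ≃* Matrix.SpecialLinearGroup (Fin 2) (ZMod 2)) {a b c d : Y} (ha : a ∈ E) (hb : b ∈ E)
    (hc : c ∈ E) (hd : d ∈ E) : ⁅a, b⁆ * ⁅c, d⁆ = ⁅c, d⁆ * ⁅a, b⁆ := by
  have h := sl2_comm_comm (φ ⟨a, ha⟩) (φ ⟨b, hb⟩) (φ ⟨c, hc⟩) (φ ⟨d, hd⟩)
  rw [← map_commutatorElement, ← map_commutatorElement, ← map_mul, ← map_mul] at h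
  have h2 := φ.injective h
  have h3 := congrArg (fun t : ↥E => (t : Y)) h2
  simpa [commutatorElement_def] using h3

/-- a subgroup generated by pairwise commuting elements is commutative -/
theorem closure_comm {S : Set Y} (hS : ∀ s ∈ S, ∀ t ∈ S, s * t = t * s) :
    ∀ x ∈ Subgroup.closure S, ∀ y ∈ Subgroup.closure S, x * y = y * x := by
  have h1 : Subgroup.closure S ≤ Subgroup.centralizer S := by
    rw [Subgroup.closure_le]
    intro s hs
    rw [SetLike.mem_coe, Subgroup.mem_centralizer_iff]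
    intro t ht
    exact hS t ht s hs
  have h2 : Subgroup.closure S ≤ Subgroup.centralizer (Subgroup.closure S : Set Y) := by
    rw [Subgroup.closure_le]
    intro s hs
    rw [SetLike.mem_coe, Subgroup.mem_centralizer_iff]
    intro t ht
    exact (Subgroup.mem_centralizer_iff.mp (h1 ht) s hs).symm
  intro x hx y hy
  exact (Subgroup.mem_centralizer_iff.mp (h2 hx) y hy).symm

/-- membership in the normalizer via conjugation in one direction (finite-free version, both
directions supplied) -/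
theorem mem_normalizer_of_conj {B : Subgroup Y} {g : Y} (h1 : ∀ b ∈ B, g * b * g⁻¹ ∈ B)
    (h2 : ∀ b ∈ B, g⁻¹ * b * g ∈ B) : g ∈ Subgroup.normalizer (B : Set Y) := by
  rw [Subgroup.mem_normalizer_iff]
  intro n
  constructor
  · exact h1 n
  · intro h
    have := h2 _ h
    have e : g⁻¹ * (g * n * g⁻¹) * g = n := by group
    rwa [e] at this

/-- the subgroup of elements normalizing `B` and having all commutators with `H` in `B` -/
def commInto (H B : Subgroup Y) : Subgroup Y where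
  carrier := {x | x ∈ Subgroup.normalizer (B : Set Y) ∧ ∀ y ∈ H, ⁅x, y⁆ ∈ B}
  one_mem' := ⟨Subgroup.one_mem _, fun y _ => by
    rw [commutatorElement_def]; simp⟩
  mul_mem' := by
    rintro a b ⟨ha, ha2⟩ ⟨hb, hb2⟩
    refine ⟨Subgroup.mul_mem _ ha hb, ?_⟩
    intro y hy
    have e : ⁅a * b, y⁆ = a * ⁅b, y⁆ * a⁻¹ * ⁅a, y⁆ := by
      simp only [commutatorElement_def]; group
    rw [e]
    exact B.mul_mem ((Subgroup.mem_normalizer_iff.mp ha _).mp (hb2 y hy)) (ha2 y hy)
  inv_mem' := by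
    rintro a ⟨ha, ha2⟩
    refine ⟨Subgroup.inv_mem _ ha, ?_⟩
    intro y hy
    have e : ⁅a⁻¹, y⁆ = a⁻¹ * (⁅a, y⁆)⁻¹ * (a⁻¹)⁻¹ := by
      simp only [commutatorElement_def]; group
    rw [e]
    exact (Subgroup.mem_normalizer_iff.mp (Subgroup.inv_mem _ ha) _).mp (B.inv_mem (ha2 y hy))

/-- for fixed `x`: the subgroup of `y` normalizing `B` with `⁅x, y⁆ ∈ B` -/
def commInto' (x : Y) (B : Subgroup Y) : Subgroup Y where
  carrier := {y | y ∈ Subgroup.normalizer (B : Set Y) ∧ ⁅x, y⁆ ∈ B}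
  one_mem' := ⟨Subgroup.one_mem _, by rw [commutatorElement_def]; simp⟩
  mul_mem' := by
    rintro a b ⟨ha, ha2⟩ ⟨hb, hb2⟩
    refine ⟨Subgroup.mul_mem _ ha hb, ?_⟩
    have e : ⁅x, a * b⁆ = ⁅x, a⁆ * (a * ⁅x, b⁆ * a⁻¹) := by
      simp only [commutatorElement_def]; group
    rw [e]
    exact B.mul_mem ha2 ((Subgroup.mem_normalizer_iff.mp ha _).mp hb2)
  inv_mem' := by
    rintro a ⟨ha, ha2⟩
    refine ⟨Subgroup.inv_mem _ ha, ?_⟩
    have e : ⁅x, a⁻¹⁆ = a⁻¹ * (⁅x, a⁆)⁻¹ * (a⁻¹)⁻¹ := by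
      simp only [commutatorElement_def]; group
    rw [e]
    exact (Subgroup.mem_normalizer_iff.mp (Subgroup.inv_mem _ ha) _).mp (B.inv_mem ha2)

/-- If `H` is generated by subgroups `E i`, each normalized by `H`, independent, and in each of
which commutators commute, then the derived subgroup of `H` is commutative. -/
theorem derived_comm {ι : Type*} (H : Subgroup Y) (E : ι → Subgroup Y) (hsup : ⨆ i, E i = H)
    (hnorm : ∀ i, H ≤ Subgroup.normalizer (E i : Set Y)) (hind : iSupIndep E)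
    (h6 : ∀ i, ∀ a ∈ E i, ∀ b ∈ E i, ∀ c ∈ E i, ∀ d ∈ E i, ⁅a, b⁆ * ⁅c, d⁆ = ⁅c, d⁆ * ⁅a, b⁆) :
    ∀ x ∈ ⁅H, H⁆, ∀ y ∈ ⁅H, H⁆, x * y = y * x := by
  classical
  have hEH : ∀ i, E i ≤ H := fun i => hsup ▸ le_iSup E i
  -- (1) distinct members commute
  have hcomm : ∀ i j, i ≠ j → ∀ x ∈ E i, ∀ y ∈ E j, x * y = y * x := by
    intro i j hij x hx y hy
    have hdisj : E i ⊓ E j = ⊥ := by
      have := hind i
      rw [disjoint_iff] at this
      rw [eq_bot_iff, ← this]
      exact inf_le_inf_left _ (le_iSup₂_of_le j hij.symm le_rfl)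
    have h1 : x * y * x⁻¹ ∈ E j := (Subgroup.mem_normalizer_iff.mp (hnorm j (hEH i hx)) y).mp hy
    have h2 : y * x⁻¹ * y⁻¹ ∈ E i :=
      (Subgroup.mem_normalizer_iff.mp (hnorm i (hEH j hy)) x⁻¹).mp ((E i).inv_mem hx)
    have h3 : x * y * x⁻¹ * y⁻¹ ∈ E i ⊓ E j := by
      refine ⟨?_, (E j).mul_mem h1 ((E j).inv_mem hy)⟩
      have e : x * y * x⁻¹ * y⁻¹ = x * (y * x⁻¹ * y⁻¹) := by group
      rw [e]; exact (E i).mul_mem hx h2
    rw [hdisj, Subgroup.mem_bot] at h3
    calc x * y = x * y * x⁻¹ * y⁻¹ * (y * x) := by group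
      _ = y * x := by rw [h3, one_mul]
  obtain ⟨B, hB⟩ : ∃ B : Subgroup Y, B = ⨆ i, ⁅E i, E i⁆ := ⟨_, rfl⟩
  have hBi : ∀ i, ⁅E i, E i⁆ ≤ B := fun i => hB ▸ le_iSup (fun i => ⁅E i, E i⁆) i
  have hDE : ∀ i, ⁅E i, E i⁆ ≤ E i := by
    intro i
    rw [Subgroup.commutator_le]
    intro a ha b hb
    rw [commutatorElement_def]
    exact (E i).mul_mem ((E i).mul_mem ((E i).mul_mem ha hb) ((E i).inv_mem ha)) ((E i).inv_mem hb)
  -- (2) B is commutative
  have hBcomm : ∀ x ∈ B, ∀ y ∈ B, x * y = y * x := by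
    have hself : ∀ i, ∀ x ∈ ⁅E i, E i⁆, ∀ y ∈ ⁅E i, E i⁆, x * y = y * x := by
      intro i
      rw [Subgroup.commutator_def]
      apply closure_comm
      rintro s ⟨a, ha, b, hb, rfl⟩ t ⟨c, hc, d, hd, rfl⟩
      exact h6 i a ha b hb c hc d hd
    have h1 : ∀ i, B ≤ Subgroup.centralizer ((⁅E i, E i⁆ : Subgroup Y) : Set Y) := by
      intro i
      rw [hB]
      apply iSup_le
      intro j x hx
      rw [Subgroup.mem_centralizer_iff]
      intro y hy
      by_cases hij : i = j
      · subst hij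
        exact hself i y hy x hx
      · exact hcomm i j hij y (hDE i hy) x (hDE j hx)
    have h2 : B ≤ Subgroup.centralizer (B : Set Y) := by
      nth_rewrite 1 [hB]
      apply iSup_le
      intro i x hx
      rw [Subgroup.mem_centralizer_iff]
      intro y hy
      exact (Subgroup.mem_centralizer_iff.mp (h1 i hy) x hx).symm
    intro x hx y hy
    exact (Subgroup.mem_centralizer_iff.mp (h2 hx) y hy).symm
  -- H normalizes B
  have hHB : H ≤ Subgroup.normalizer (B : Set Y) := by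
    have key : ∀ g ∈ H, ∀ b ∈ B, g * b * g⁻¹ ∈ B := by
      intro g hg b hb
      have hmap : B.map (MulAut.conj g).toMonoidHom ≤ B := by
        rw [hB, Subgroup.map_iSup]
        apply iSup_le
        intro i
        rw [Subgroup.map_commutator]
        refine le_trans ?_ (le_iSup (fun i => ⁅E i, E i⁆) i)
        have hE : (E i).map (MulAut.conj g).toMonoidHom ≤ E i := by
          rintro _ ⟨e, he, rfl⟩
          exact (Subgroup.mem_normalizer_iff.mp (hnorm i hg) e).mp he
        exact Subgroup.commutator_mono hE hE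
      exact hmap ⟨b, hb, rfl⟩
    intro g hg
    apply mem_normalizer_of_conj (key g hg)
    intro b hb
    have := key g⁻¹ (H.inv_mem hg) b hb
    rwa [inv_inv] at this
  -- (3) ⁅H, H⁆ ≤ B
  have hle : ⁅H, H⁆ ≤ B := by
    have hx : ∀ i, ∀ x ∈ E i, H ≤ commInto' x B := by
      intro i x hx
      rw [← hsup]
      apply iSup_le
      intro j y hy
      refine ⟨hHB (hEH j hy), ?_⟩
      by_cases hij : i = j
      · subst hij
        exact hBi i (Subgroup.commutator_mem_commutator hx hy)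
      · have := hcomm i j hij x hx y hy
        rw [commutatorElement_def, this]
        have e : y * x * x⁻¹ * y⁻¹ = 1 := by group
        rw [e]; exact B.one_mem
    have hH : H ≤ commInto H B := by
      nth_rewrite 1 [← hsup]
      apply iSup_le
      intro i x hx'
      exact ⟨hHB (hEH i hx'), fun y hy => (hx i x hx' hy).2⟩
    rw [Subgroup.commutator_le]
    intro x hx' y hy
    exact (hH hx').2 y hy
  intro x hx y hy
  exact hBcomm x (hle hx) y (hle hy)

end Cfsg.Agent.Lib.Helper9.KS
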