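import Mathlib
import Cfsg.Prelude
import Cfsg.Agent.Lib.Helper9.KSa
import Cfsg.Agent.Lib.Helper1.TF3

set_option autoImplicit false
set_option linter.unusedSectionVars false
set_option linter.unusedVariables false
set_option linter.style.longLine false
set_option linter.unusedSimpArgs false
open Cfsg

set_option maxHeartbeats 1600000
namespace Cfsg.Agent.Lib.Helper9.KS

open scoped commutatorElement Pointwise
open Cfsg.Agent.Lib.Helper1.TF Cfsg.Agent.Lib.Helper1.FF

universe u

variable {X : Type u} [Group X]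

/-- Abstract subnormality lemma: `V` a normal elementary abelian `2`-subgroup of the `2`-solvable
group `X` with `O_2(X/C_X(V)) = 1`; `K = [K, J]` with `J ≤ J(X)` and `C_X(V) ≤ N_X(K)`.  Then `K`
is subnormal in `X`. -/
theorem subnormal_of_setup [Finite X] (V : Subgroup X) [V.Normal]
    (hV : IsElementaryAbelian 2 V) (hsep : IsPSolvable 2 X)
    (hOp : ∀ D : Subgroup X, D.Normal → Subgroup.centralizer (V : Set X) ≤ D →
      (∃ k : ℕ, (Subgroup.centralizer (V : Set X)).relIndex D = 2 ^ k) →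
      D = Subgroup.centralizer (V : Set X))
    (K J : Subgroup X) (hKJ : K ≤ ⁅K, J⁆) (hJ : J ≤ thompsonSubgroup 2 X)
    (hCK : Subgroup.centralizer (V : Set X) ≤ Subgroup.normalizer (K : Set X)) :
    K.IsSubnormal := by
  haveI : Fact (Nat.Prime 2) := ⟨Nat.prime_two⟩
  have hJchar := Cfsg.Agent.Lib.Helper1.thompsonSubgroup_characteristic 2 X
  haveI hJn : (thompsonSubgroup 2 X).Normal := inferInstance
  obtain ⟨H, hHdef⟩ : ∃ H : Subgroup (Amb V), H = tr V (thompsonSubgroup 2 X) := ⟨_, rfl⟩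
  have hHn : ∀ g : X, ∀ x ∈ H, tau V g * x * (tau V g)⁻¹ ∈ H := by
    intro g x hx
    rw [hHdef] at hx ⊢
    exact tau_conj_mem_tr V g hx
  -- the derived subgroup of `H` is commutative
  have hH'comm : ∀ x ∈ ⁅H, H⁆, ∀ y ∈ ⁅H, H⁆, x * y = y * x := by
    by_cases hH1 : H = ⊥
    · intro x hx y hy
      rw [hH1, Subgroup.commutator_bot_left, Subgroup.mem_bot] at hx
      rw [hx, one_mul, mul_one]
    · have s := setup_tr V hV hsep (thompsonSubgroup 2 X) hOp
      have hS3 := tr_generated V (maxElementaryAbelianSubgroups 2 X)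
        (fun A hA => Cfsg.Agent.Lib.Helper1.isBestOffenderOn_of_mem_max V hV A hA)
      change tr V (thompsonSubgroup 2 X) = _ at hS3
      rw [hHdef] at hH1
      obtain ⟨-, hcomp, hind, hsup, -, -⟩ := s.structure_theorem hS3 hH1
      rw [hHdef]
      apply derived_comm _ _ hsup (fun E => (hcomp E).1) hind
      intro E a ha b hb c hc d hd
      obtain ⟨φ⟩ := (hcomp E).2.1
      exact comm_comm_of_iso φ ha hb hc hd
  have htrJ : tr V J ≤ H := hHdef ▸ Subgroup.map_mono hJ
  have htrK1 : tr V K ≤ ⁅tr V K, tr V J⁆ := by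
    calc tr V K ≤ (⁅K, J⁆).map (tau V) := Subgroup.map_mono hKJ
      _ = ⁅tr V K, tr V J⁆ := Subgroup.map_commutator K J (tau V)
  have htrKH : tr V K ≤ H := by
    refine htrK1.trans ?_
    rw [Subgroup.commutator_le]
    rintro a ⟨k, hk, rfl⟩ b hb
    rw [commutatorElement_def]
    exact H.mul_mem (hHn k b (htrJ hb)) (H.inv_mem (htrJ hb))
  have htrK2 : tr V K ≤ ⁅H, H⁆ := htrK1.trans (Subgroup.commutator_mono htrKH htrJ)
  -- pull back
  obtain ⟨B, hBdef⟩ : ∃ B : Subgroup X, B = (⁅H, H⁆).comap (tau V) := ⟨_, rfl⟩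
  obtain ⟨C, hCdef⟩ : ∃ C : Subgroup X, C = Subgroup.centralizer (V : Set X) := ⟨_, rfl⟩
  rw [← hCdef] at hCK
  have hCker : ∀ c ∈ C, tau V c = 1 := by
    intro c hc
    rw [← MonoidHom.mem_ker, mem_ker_tau, ← hCdef]; exact hc
  have hkerC : ∀ c : X, tau V c = 1 → c ∈ C := by
    intro c hc
    rw [hCdef, ← mem_ker_tau, MonoidHom.mem_ker]; exact hc
  have hKB : K ≤ B := by
    intro x hx
    rw [hBdef, Subgroup.mem_comap]
    exact htrK2 ⟨x, hx, rfl⟩
  have hCB : C ≤ B := by
    intro x hx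
    rw [hBdef, Subgroup.mem_comap, hCker x hx]
    exact Subgroup.one_mem _
  have hBn : B.Normal := by
    constructor
    intro b hb x
    rw [hBdef, Subgroup.mem_comap] at hb ⊢
    rw [map_mul, map_mul, map_inv]
    have hmap : (⁅H, H⁆).map (MulAut.conj (tau V x)).toMonoidHom ≤ ⁅H, H⁆ := by
      rw [Subgroup.map_commutator]
      have hE : H.map (MulAut.conj (tau V x)).toMonoidHom ≤ H := by
        rintro _ ⟨e, he, rfl⟩
        exact hHn x e he
      exact Subgroup.commutator_mono hE hE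
    exact hmap ⟨_, hb, rfl⟩
  obtain ⟨M, hMdef⟩ : ∃ M : Subgroup X, M = K ⊔ C := ⟨_, rfl⟩
  have hMB : M ≤ B := hMdef ▸ sup_le hKB hCB
  have hKM : K ≤ M := hMdef ▸ le_sup_left
  have hCM : C ≤ M := hMdef ▸ le_sup_right
  have hMn : (M.subgroupOf B).Normal := by
    rw [Subgroup.normal_subgroupOf_iff_le_normalizer hMB]
    intro b hb
    have key : ∀ b ∈ B, ∀ m ∈ M, b * m * b⁻¹ ∈ M := by
      intro b hb m hm
      have h1 : tau V (b * m * b⁻¹ * m⁻¹) = 1 := by
        have hb' : tau V b ∈ ⁅H, H⁆ := by rw [hBdef, Subgroup.mem_comap] at hb; exact hb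
        have hm' : tau V m ∈ ⁅H, H⁆ := by
          have := hMB hm
          rw [hBdef, Subgroup.mem_comap] at this; exact this
        rw [map_mul, map_mul, map_mul, map_inv, map_inv, hH'comm _ hb' _ hm']
        group
      have h2 : b * m * b⁻¹ * m⁻¹ ∈ M := hCM (hkerC _ h1)
      have e : b * m * b⁻¹ = b * m * b⁻¹ * m⁻¹ * m := by group
      rw [e]
      exact M.mul_mem h2 hm
    apply mem_normalizer_of_conj (key b hb)
    intro m hm
    have := key b⁻¹ (B.inv_mem hb) m hm
    rwa [inv_inv] at this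
  have hKn : (K.subgroupOf M).Normal := by
    rw [Subgroup.normal_subgroupOf_iff_le_normalizer hKM, hMdef]
    exact sup_le Subgroup.le_normalizer hCK
  exact Subgroup.IsSubnormal.step K M hKM
    (Subgroup.IsSubnormal.step M B hMB hBn.isSubnormal hMn) hKn

end Cfsg.Agent.Lib.Helper9.KS
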