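import Mathlib
import Cfsg.Prelude
import Cfsg.Agent.Lib.Helper9.KSb
import Cfsg.Agent.Lib.Helper1.ComplementSystem
import Cfsg.Agent.Lib.Helper1.PStableQuotient2
import Cfsg.Agent.Lib.Helper1.ThompsonRelative
import Cfsg.Agent.Lib.Helper3.JC5
import Cfsg.Agent.Lib.Helper3.PSolvable
import Cfsg.Agent.S2941

set_option autoImplicit false
set_option linter.unusedSectionVars false
set_option linter.unusedVariables false
set_option linter.style.longLine false
set_option linter.unusedSimpArgs false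
open Cfsg

set_option maxHeartbeats 1600000
namespace Cfsg.Agent.Lib.Helper9.KS

/-- `O₂(X/C) = 1` when `C ⊴ X` normalizes a Sylow `2`-subgroup `T` and contains `O₂(X)`. -/
theorem hOp_of_setup {X : Type*} [Group X] [Finite X] (C T : Subgroup X) [hCn : C.Normal]
    (hT : IsPGroup 2 T) (hTodd : ¬ 2 ∣ T.index) (hCT : C ≤ Subgroup.normalizer (T : Set X))
    (hpc : pCore 2 X ≤ C) :
    ∀ D : Subgroup X, D.Normal → C ≤ D → (∃ k : ℕ, C.relIndex D = 2 ^ k) → D = C := by
  intro D hDn hCD hk
  haveI : Fact (Nat.Prime 2) := ⟨Nat.prime_two⟩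
  haveI := hDn
  have hR2 : ¬ 2 ∣ T.relIndex D := fun h =>
    hTodd (h.trans (Cfsg.Agent.Lib.Helper1.relIndex_dvd_index_of_normal_right T D))
  have hD : D ≤ T ⊔ C := Cfsg.Agent.Lib.Helper1.le_sup_of_pow_relIndex_of_not_dvd D C T hk hR2
  -- `T ⊔ C` normalizes `T ⊓ D`
  have hTN : T ≤ Subgroup.normalizer ((T ⊓ D : Subgroup X) : Set X) := by
    intro t ht
    apply mem_normalizer_of_conj
    · intro b hb
      exact ⟨T.mul_mem (T.mul_mem ht hb.1) (T.inv_mem ht), hDn.conj_mem b hb.2 t⟩
    · intro b hb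
      refine ⟨T.mul_mem (T.mul_mem (T.inv_mem ht) hb.1) ht, ?_⟩
      have := hDn.conj_mem b hb.2 t⁻¹
      simpa using this
  have hCN : C ≤ Subgroup.normalizer ((T ⊓ D : Subgroup X) : Set X) := by
    intro c hc
    have hcT := hCT hc
    apply mem_normalizer_of_conj
    · intro b hb
      exact ⟨(Subgroup.mem_normalizer_iff.mp hcT b).mp hb.1, hDn.conj_mem b hb.2 c⟩
    · intro b hb
      refine ⟨?_, ?_⟩
      · have := (Subgroup.mem_normalizer_iff.mp (Subgroup.inv_mem _ hcT) b).mp hb.1
        simpa using this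
      · have := hDn.conj_mem b hb.2 c⁻¹
        simpa using this
  have hDN : D ≤ Subgroup.normalizer ((T ⊓ D : Subgroup X) : Set X) :=
    hD.trans (sup_le hTN hCN)
  have hRn : (T ⊓ D).Normal := by
    have h1 : ((T ⊓ D).subgroupOf D).Normal :=
      (Subgroup.normal_subgroupOf_iff_le_normalizer inf_le_right).mpr hDN
    have h2 : IsPGroup 2 ((T ⊓ D).subgroupOf D) :=
      (hT.to_le inf_le_left).comap_of_injective D.subtype D.subtype_injective
    have h3 : ¬ 2 ∣ ((T ⊓ D).subgroupOf D).index := by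
      show ¬ 2 ∣ (T ⊓ D).relIndex D
      rw [Subgroup.inf_relIndex_right]
      exact hR2
    have h4 : ((T ⊓ D).subgroupOf D).Characteristic := by
      have := Sylow.characteristic_of_normal (h2.toSylow h3) (by simpa using h1)
      simpa using this
    have h5 := @ConjAct.normal_of_characteristic_of_normal X _ D hDn _ h4
    rwa [Subgroup.map_subgroupOf_eq_of_le inf_le_right] at h5
  have hRle : T ⊓ D ≤ pCore 2 X := le_sSup ⟨hRn, hT.to_le inf_le_left⟩
  apply le_antisymm _ hCD
  intro d hd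
  obtain ⟨t, ht, c, hc, rfl⟩ := Subgroup.mem_sup_of_normal_right.mp (hD hd)
  have htD : t ∈ D := by
    have := D.mul_mem hd (D.inv_mem (hCD hc))
    simpa using this
  exact C.mul_mem (hpc (hRle ⟨ht, htD⟩)) hc

end Cfsg.Agent.Lib.Helper9.KS
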