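import Mathlib
import Cfsg.Prelude
import Cfsg.Agent.Lib.Helper9.KSb
import Cfsg.Agent.Lib.Helper1.ComplementSystem
import Cfsg.Agent.Lib.Helper1.PStableQuotient2
import Cfsg.Agent.Lib.Helper1.ThompsonRelative
import Cfsg.Agent.Lib.Helper3.JC5
import Cfsg.Agent.Lib.Helper3.PSolvable
import Cfsg.Agent.S2941

set_option autoImplicit false
set_option linter.unusedSectionVars false
set_option linter.unusedVariables false
set_option linter.style.longLine false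
set_option linter.unusedSimpArgs false
open Cfsg

set_option maxHeartbeats 1600000
namespace Cfsg.Agent.Lib.Helper9.KS

open Cfsg.Agent.Lib.Helper3.JC
open scoped Pointwise

variable {G : Type*} [Group G]

/-- A `2`-subgroup of `L` is `L`-conjugate into a Sylow `2`-subgroup `T` of `L`. -/
theorem exists_conj_le [Finite G] {T L B : Subgroup G} (hT : IsSylowTwoIn T L) (hBL : B ≤ L)
    (hB : IsPGroup 2 B) : ∃ l ∈ L, ∀ b ∈ B, l * b * l⁻¹ ∈ T := by
  have : Fact (Nat.Prime 2) := ⟨Nat.prime_two⟩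
  have h1 : IsPGroup 2 ↥(T.subgroupOf L) := hT.2.1.comap_subtype
  have h2 : ¬ 2 ∣ (T.subgroupOf L).index := by
    show ¬ 2 ∣ T.relIndex L
    exact Nat.two_dvd_ne_zero.2 (Nat.odd_iff.1 hT.2.2)
  obtain ⟨P, hP⟩ : ∃ P : Sylow 2 ↥L, (P : Subgroup ↥L) = T.subgroupOf L := ⟨h1.toSylow h2, rfl⟩
  have h3 : IsPGroup 2 ↥(B.subgroupOf L) := hB.comap_subtype
  obtain ⟨R, hR⟩ := h3.exists_le_sylow
  obtain ⟨l, hl⟩ := MulAction.exists_smul_eq ↥L R P
  refine ⟨l, l.2, ?_⟩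
  intro b hb
  have hbR : (⟨b, hBL hb⟩ : ↥L) ∈ (R : Subgroup ↥L) := hR (Subgroup.mem_subgroupOf.2 hb)
  have h4 : MulAut.conj l • (⟨b, hBL hb⟩ : ↥L) ∈ MulAut.conj l • (R : Subgroup ↥L) :=
    Subgroup.smul_mem_pointwise_smul _ _ _ hbR
  have h5 : MulAut.conj l • (R : Subgroup ↥L) = T.subgroupOf L := by
    rw [← hP, ← hl]
    rfl
  rw [h5, Subgroup.mem_subgroupOf] at h4
  simpa [MulAut.smul_def] using h4

/-- A `2`-subgroup `S` of `G` containing a Sylow `2`-subgroup `T` of `L` meets `L` in `T`. -/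
theorem inf_eq_of_isSylowTwoIn [Finite G] {T L S : Subgroup G} (hT : IsSylowTwoIn T L)
    (hTS : T ≤ S) (hS : IsPGroup 2 S) : S ⊓ L = T := by
  have : Fact (Nat.Prime 2) := ⟨Nat.prime_two⟩
  apply le_antisymm _ (le_inf hTS hT.1)
  have hTA : T ≤ S ⊓ L := le_inf hTS hT.1
  have h1 := Subgroup.relIndex_mul_relIndex T (S ⊓ L) L hTA inf_le_right
  have h2 : IsPGroup 2 ↥(S ⊓ L : Subgroup G) := hS.to_le inf_le_left
  obtain ⟨n, hn⟩ := h2.index (T.subgroupOf (S ⊓ L))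
  have h3 : T.relIndex (S ⊓ L) = 2 ^ n := hn
  have h4 : T.relIndex (S ⊓ L) = 1 := by
    rcases Nat.eq_zero_or_pos n with rfl | hpos
    · simpa using h3
    · exfalso
      have h5 : 2 ∣ T.relIndex L := by
        rw [← h1, h3]
        exact Dvd.dvd.mul_right (dvd_pow_self 2 hpos.ne') _
      exact (Nat.two_dvd_ne_zero.2 (Nat.odd_iff.1 hT.2.2)) h5
  exact Subgroup.relIndex_eq_one.mp h4

/-- `O₂(L)` lies in every Sylow `2`-subgroup of `L`. -/
theorem pCoreOf_le_of_isSylowTwoIn [Finite G] {T L : Subgroup G} (hT : IsSylowTwoIn T L) :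
    pCoreOf 2 L ≤ T := by
  have h1 : IsPGroup 2 ↥(pCoreOf 2 L ⊔ T : Subgroup G) :=
    (pCoreOf_isPGroup L).to_sup_of_normal_left' hT.2.1
      (hT.1.trans (nz_self_pCoreOf L).le_normalizer)
  have h2 := inf_eq_of_isSylowTwoIn hT le_sup_right h1
  have h3 : pCoreOf 2 L ≤ (pCoreOf 2 L ⊔ T) ⊓ L := le_inf le_sup_left (pCoreOf_le L)
  exact h3.trans h2.le

/-- `Ω₁Z(S) ≤ Ω₁Z(Q)` when `Q ≤ S` is self-centralizing. -/
theorem omegaCenterOf_le_of_cent {Q S : Subgroup G} (hQS : Q ≤ S)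
    (hQ : Subgroup.centralizer (Q : Set G) ≤ Q) : omegaCenterOf S ≤ omegaCenterOf Q := by
  unfold omegaCenterOf omegaOne
  apply Subgroup.closure_mono
  rintro x ⟨⟨hxS, hxC⟩, hx2⟩
  have hxCQ : x ∈ Subgroup.centralizer (Q : Set G) :=
    Subgroup.centralizer_le (by exact_mod_cast hQS) hxC
  exact ⟨⟨hQ hxCQ, hxCQ⟩, hx2⟩

/-- `C_L(Ω₁Z(O₂(L))) ≤ N_G(T)` for `L` in the family attached to `T`. -/
theorem cent_le_normalizer [Finite G]
    (hZ : ∀ S : Sylow 2 G, Subgroup.centralizer (Cfsg.omegaCenterOf (S : Subgroup G) : Set G) ≤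
      Subgroup.normalizer ((S : Subgroup G) : Set G))
    {T L : Subgroup G} (hLT : L ∈ jOvergroups T) :
    L ⊓ Subgroup.centralizer (omegaCenterOf (pCoreOf 2 L) : Set G) ≤
      Subgroup.normalizer (T : Set G) := by
  have : Fact (Nat.Prime 2) := ⟨Nat.prime_two⟩
  obtain ⟨hTL, hJ, hC⟩ := hLT
  obtain ⟨S, hTS⟩ := hTL.2.1.exists_le_sylow
  have hQT := pCoreOf_le_of_isSylowTwoIn hTL
  have h1 := omegaCenterOf_le_of_cent (hQT.trans hTS) hC
  have h2 : Subgroup.centralizer (omegaCenterOf (pCoreOf 2 L) : Set G) ≤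
      Subgroup.normalizer ((S : Subgroup G) : Set G) :=
    (Subgroup.centralizer_le (by exact_mod_cast h1)).trans (hZ S)
  have h3 := inf_eq_of_isSylowTwoIn hTL hTS S.2
  intro x hx
  have hxS := h2 hx.2
  have hxL := hx.1
  apply mem_normalizer_of_conj
  · intro b hb
    rw [← h3]
    exact ⟨(Subgroup.mem_normalizer_iff.mp hxS b).mp (hTS hb),
      L.mul_mem (L.mul_mem hxL (hTL.1 hb)) (L.inv_mem hxL)⟩
  · intro b hb
    rw [← h3]
    refine ⟨?_, L.mul_mem (L.mul_mem (L.inv_mem hxL) (hTL.1 hb)) hxL⟩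
    have := (Subgroup.mem_normalizer_iff.mp (Subgroup.inv_mem _ hxS) b).mp (hTS hb)
    rw [inv_inv] at this
    exact this

end Cfsg.Agent.Lib.Helper9.KS
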