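import Mathlib
import Cfsg.Prelude
import Cfsg.Agent.Lib.Helper9.KSd
import Cfsg.Agent.Lib.Helper9.KSc

set_option autoImplicit false
set_option linter.unusedSectionVars false
set_option linter.unusedVariables false
set_option linter.style.longLine false
set_option linter.unusedSimpArgs false
open Cfsg

set_option maxHeartbeats 1600000
namespace Cfsg.Agent.Lib.Helper9.KS

open Cfsg.Agent.Lib.Helper3.JC
open scoped Pointwise

variable {G : Type*} [Group G]

theorem elab_isPGroup {B : Subgroup G} (hB : IsElementaryAbelian 2 B) : IsPGroup 2 ↥B := by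
  intro b
  refine ⟨1, Subtype.ext ?_⟩
  have := hB.2 b b.2
  simpa using this

/-- `J(T).subgroupOf L ≤ J(L)` for a Sylow `2`-subgroup `T` of `L`. -/
theorem thompson_subgroupOf_le [Finite G] {T L : Subgroup G} (hT : IsSylowTwoIn T L) :
    (thompsonSubgroupOf 2 T).subgroupOf L ≤ thompsonSubgroup 2 ↥L := by
  have key : ∀ A ∈ Cfsg.Agent.Lib.Helper1.maxElAbIn 2 T,
      A ∈ Cfsg.Agent.Lib.Helper1.maxElAbIn 2 L := by
    intro A hA
    refine ⟨hA.1.trans hT.1, hA.2.1, ?_⟩
    intro B hBL hB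
    obtain ⟨l, hl, hconj⟩ := exists_conj_le hT hBL (elab_isPGroup hB)
    have h1 : B.map (MulAut.conj l).toMonoidHom ≤ T := by
      rintro _ ⟨b, hb, rfl⟩
      exact hconj b hb
    have h2 := hA.2.2 _ h1 (Cfsg.Agent.Lib.Helper1.isElementaryAbelian_map hB _)
    rwa [Subgroup.card_map_of_injective (MulAut.conj l).injective] at h2
  rw [Cfsg.Agent.Lib.Helper1.thompsonSubgroupOf_eq_sSup]
  intro x hx
  rw [Subgroup.mem_subgroupOf] at hx
  have h3 : sSup (Cfsg.Agent.Lib.Helper1.maxElAbIn 2 T) ≤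
      (thompsonSubgroup 2 ↥L).map L.subtype := by
    apply sSup_le
    intro A hA
    have h4 := Cfsg.Agent.Lib.Helper1.subgroupOf_mem_of_mem_maxElAbIn (key A hA)
    have h5 : A.subgroupOf L ≤ thompsonSubgroup 2 ↥L :=
      Cfsg.Agent.Lib.Helper1.le_thompsonSubgroup h4
    have h6 := Subgroup.map_mono (f := L.subtype) h5
    rwa [Subgroup.map_subgroupOf_eq_of_le (hA.1.trans hT.1)] at h6
  obtain ⟨y, hy, hyx⟩ := h3 hx
  have : y = x := Subtype.ext hyx
  rwa [← this]

/-- Under the ZN hypotheses, `C_L(Ω₁Z(O₂(L)))` normalizes every `J(T)`-component in `L`. -/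
theorem cent_le_normalizer_comp [Finite G] (hL : Cfsg.IsCharacteristicTwoType G)
    (hN : ∀ N : Subgroup G, Cfsg.IsTwoLocal N → Group.IsSolvable ↥N)
    (hZ : ∀ S : Sylow 2 G, Subgroup.centralizer (Cfsg.omegaCenterOf (S : Subgroup G) : Set G) ≤
      Subgroup.normalizer ((S : Subgroup G) : Set G))
    {T L K : Subgroup G} (hT : IsPGroup 2 ↥T) (hT1 : T ≠ ⊥) (hLT : L ∈ jOvergroups T)
    (hK : IsJComponent T K) (hKL : K ≤ L) :
    L ⊓ Subgroup.centralizer (omegaCenterOf (pCoreOf 2 L) : Set G) ≤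
      Subgroup.normalizer (K : Set G) := by
  have hJT : thompsonSubgroupOf 2 T ≤ T := Cfsg.Agent.Lib.Helper1.thompsonSubgroupOf_le_self 2 T
  apply Cfsg.Agent.S2941.result hL hN hZ T hT hT1 K hK
  · have hnz : Nz L (L ⊓ Subgroup.centralizer (omegaCenterOf (pCoreOf 2 L) : Set G)) :=
      (nz_self L).inf (nz_omegaCenterOf (nz_self_pCoreOf L)).centralizer
    exact (sup_le hKL (hJT.trans hLT.1.1)).trans hnz.le_normalizer
  · exact (cent_le_normalizer hZ hLT).trans
      (Cfsg.Agent.Lib.Helper1.normalizer_le_normalizer_thompsonSubgroupOf hJT le_rfl)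

end Cfsg.Agent.Lib.Helper9.KS
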