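import Mathlib
import Cfsg.Prelude
import Cfsg.Agent.Lib.Helper9.KSe

set_option autoImplicit false
set_option linter.unusedSectionVars false
set_option linter.unusedVariables false
set_option linter.style.longLine false
set_option linter.unusedSimpArgs false
open Cfsg

set_option maxHeartbeats 1600000
namespace Cfsg.Agent.Lib.Helper9.KS

open Cfsg.Agent.Lib.Helper3.JC
open scoped Pointwise

variable {G : Type*} [Group G]

theorem coe_mem_centralizer {L V : Subgroup G} (hVL : V ≤ L) {c : ↥L} :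
    c ∈ Subgroup.centralizer ((V.subgroupOf L : Subgroup ↥L) : Set ↥L) ↔
      (c : G) ∈ Subgroup.centralizer (V : Set G) := by
  rw [Subgroup.mem_centralizer_iff, Subgroup.mem_centralizer_iff]
  constructor
  · intro h v hv
    have := h ⟨v, hVL hv⟩ (Subgroup.mem_subgroupOf.2 hv)
    exact congrArg Subtype.val this
  · intro h v hv
    exact Subtype.ext (h v (Subgroup.mem_subgroupOf.1 hv))

/-- K–S 12.1.x: a `J(T)`-component contained in `L ∈ 𝓛(T)` is subnormal in `L`. -/
theorem jcomponent_subnormal [Finite G] (hL : Cfsg.IsCharacteristicTwoType G)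
    (hN : ∀ N : Subgroup G, Cfsg.IsTwoLocal N → Group.IsSolvable ↥N)
    (hZ : ∀ S : Sylow 2 G, Subgroup.centralizer (Cfsg.omegaCenterOf (S : Subgroup G) : Set G) ≤
      Subgroup.normalizer ((S : Subgroup G) : Set G))
    {T L K : Subgroup G} (hT : IsPGroup 2 ↥T) (hT1 : T ≠ ⊥) (hLT : L ∈ jOvergroups T)
    (hK : IsJComponent T K) (hKL : K ≤ L) : (K.subgroupOf L).IsSubnormal := by
  have h2 : Fact (Nat.Prime 2) := ⟨Nat.prime_two⟩
  have hJT : thompsonSubgroupOf 2 T ≤ T := Cfsg.Agent.Lib.Helper1.thompsonSubgroupOf_le_self 2 T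
  have hTL : T ≤ L := hLT.1.1
  have hQL : pCoreOf 2 L ≤ L := pCoreOf_le L
  have hVQ : omegaCenterOf (pCoreOf 2 L) ≤ pCoreOf 2 L := (omegaCenterOf_le _).trans inf_le_left
  have hVL : omegaCenterOf (pCoreOf 2 L) ≤ L := hVQ.trans hQL
  have hLV : L ≤ Subgroup.normalizer (omegaCenterOf (pCoreOf 2 L) : Set G) :=
    (nz_omegaCenterOf (nz_self_pCoreOf L)).le_normalizer
  haveI hVn : ((omegaCenterOf (pCoreOf 2 L)).subgroupOf L).Normal :=
    (Subgroup.normal_subgroupOf_iff_le_normalizer hVL).mpr hLV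
  have hVea : IsElementaryAbelian 2 ((omegaCenterOf (pCoreOf 2 L)).subgroupOf L) :=
    Cfsg.Agent.Lib.Helper1.isElementaryAbelian_comap_of_injective
      (isElementaryAbelian_of_sq (omegaCenterOf_sq _)) _ L.subtype_injective
  -- `Q ≠ ⊥`
  have hQ1 : pCoreOf 2 L ≠ ⊥ := by
    intro h
    have h1 := hLT.2.2
    rw [h] at h1
    have h3 : T ≤ (⊥ : Subgroup G) := by
      refine le_trans ?_ h1
      intro t _
      rw [Subgroup.mem_centralizer_iff]
      intro y hy
      have : y = 1 := by simpa using hy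
      subst this
      simp
    exact hT1 (le_bot_iff.mp h3)
  -- `L` is solvable
  have hsolv : Group.IsSolvable ↥L := by
    have hloc : IsTwoLocal (Subgroup.normalizer ((pCoreOf 2 L : Subgroup G) : Set G)) :=
      ⟨pCoreOf 2 L, pCoreOf_isPGroup L, hQ1, rfl⟩
    haveI := hN _ hloc
    exact Group.isSolvable_of_isSolvable_injective
      (Subgroup.inclusion_injective (nz_self_pCoreOf L).le_normalizer)
  have hsep : IsPSolvable 2 ↥L := Cfsg.Agent.Lib.Helper3.isPSolvable_of_isSolvable 2 hsolv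
  -- the `O₂`-condition
  have hOp := hOp_of_setup
    (Subgroup.centralizer (((omegaCenterOf (pCoreOf 2 L)).subgroupOf L : Subgroup ↥L) : Set ↥L))
    (T.subgroupOf L) hT.comap_subtype
    (by
      show ¬ 2 ∣ T.relIndex L
      exact Nat.two_dvd_ne_zero.2 (Nat.odd_iff.1 hLT.1.2.2))
    (by
      intro c hc
      rw [coe_mem_centralizer hVL] at hc
      have hcN := cent_le_normalizer hZ hLT ⟨c.2, hc⟩
      rw [Subgroup.mem_normalizer_iff] at hcN ⊢
      intro x
      rw [Subgroup.mem_subgroupOf, Subgroup.mem_subgroupOf]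
      exact hcN x)
    (by
      intro x hx
      rw [coe_mem_centralizer hVL, Subgroup.mem_centralizer_iff]
      intro v hv
      have hxQ : (x : G) ∈ pCoreOf 2 L := ⟨x, hx, rfl⟩
      have hvC : v ∈ Subgroup.centralizer ((pCoreOf 2 L : Subgroup G) : Set G) :=
        ((omegaCenterOf_le _) hv).2
      rw [Subgroup.mem_centralizer_iff] at hvC
      exact (hvC _ hxQ).symm)
  -- commutator condition
  have hKJ : K.subgroupOf L ≤ ⁅K.subgroupOf L, (thompsonSubgroupOf 2 T).subgroupOf L⁆ := by
    have h1 : (⁅K.subgroupOf L, (thompsonSubgroupOf 2 T).subgroupOf L⁆).map L.subtype =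
        (K.subgroupOf L).map L.subtype := by
      rw [Subgroup.map_commutator, Subgroup.map_subgroupOf_eq_of_le hKL,
        Subgroup.map_subgroupOf_eq_of_le (hJT.trans hTL)]
      exact hK.2.1
    exact (Subgroup.map_injective L.subtype_injective h1).ge
  have hCK : Subgroup.centralizer
      (((omegaCenterOf (pCoreOf 2 L)).subgroupOf L : Subgroup ↥L) : Set ↥L) ≤
      Subgroup.normalizer ((K.subgroupOf L : Subgroup ↥L) : Set ↥L) := by
    intro c hc
    rw [coe_mem_centralizer hVL] at hc
    have hcN := cent_le_normalizer_comp hL hN hZ hT hT1 hLT hK hKL ⟨c.2, hc⟩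
    rw [Subgroup.mem_normalizer_iff] at hcN ⊢
    intro x
    rw [Subgroup.mem_subgroupOf, Subgroup.mem_subgroupOf]
    exact hcN x
  exact subnormal_of_setup _ hVea hsep hOp _ _ hKJ (thompson_subgroupOf_le hLT.1) hCK

end Cfsg.Agent.Lib.Helper9.KS
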