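import Mathlib
import Cfsg.Prelude
import Cfsg.Agent.Lib.Helper9.KSf
import Cfsg.Agent.Lib.Helper7.CharP5
import Cfsg.Agent.Lib.Helper1.ThompsonFactorizableQuotient

set_option autoImplicit false
set_option linter.unusedSectionVars false
set_option linter.unusedVariables false
set_option linter.style.longLine false
set_option linter.unusedSimpArgs false
open Cfsg

set_option maxHeartbeats 1600000
namespace Cfsg.Agent.Lib.Helper9.KS

open Cfsg.Agent.Lib.Helper3.JC
open scoped Pointwise

variable {G : Type*} [Group G]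

theorem pCoreOf_map (φ : G ≃* G) (K : Subgroup G) :
    pCoreOf 2 (K.map φ.toMonoidHom) = (pCoreOf 2 K).map φ.toMonoidHom :=
  Cfsg.Agent.Lib.Helper7.pCoreIn_map_equiv 2 φ K

theorem omegaCenterOf_map (φ : G ≃* G) (X : Subgroup G) :
    omegaCenterOf (X.map φ.toMonoidHom) = (omegaCenterOf X).map φ.toMonoidHom :=
  Cfsg.Agent.Lib.Helper1.omegaOne_center_map_of_injOn φ.toMonoidHom X
    (fun s _ hs => φ.injective (by rw [map_one]; exact hs))

theorem wOf_map (φ : G ≃* G) (K : Subgroup G) :
    wOf (K.map φ.toMonoidHom) = (wOf K).map φ.toMonoidHom := by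
  unfold wOf
  rw [pCoreOf_map, omegaCenterOf_map, ← Subgroup.map_commutator]

theorem thompsonOf_map (φ : G ≃* G) (T : Subgroup G) :
    thompsonSubgroupOf 2 (T.map φ.toMonoidHom) = (thompsonSubgroupOf 2 T).map φ.toMonoidHom :=
  Cfsg.Agent.Lib.Helper1.thompsonSubgroupOf_map_of_injOn φ.toMonoidHom T
    (fun s _ hs => φ.injective (by rw [map_one]; exact hs))

theorem isSylowTwoIn_map (φ : G ≃* G) {T L : Subgroup G} (h : IsSylowTwoIn T L) :
    IsSylowTwoIn (T.map φ.toMonoidHom) (L.map φ.toMonoidHom) := by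
  refine ⟨Subgroup.map_mono h.1, h.2.1.map _, ?_⟩
  rw [Subgroup.relIndex_map_map_of_injective _ _ φ.injective]
  exact h.2.2

theorem map_symm_map' (φ : G ≃* G) (A : Subgroup G) :
    (A.map φ.toMonoidHom).map φ.symm.toMonoidHom = A :=
  Cfsg.Agent.Lib.Helper7.map_symm_map φ A

theorem map_map_symm' (φ : G ≃* G) (A : Subgroup G) :
    (A.map φ.symm.toMonoidHom).map φ.toMonoidHom = A :=
  Cfsg.Agent.Lib.Helper7.map_map_symm φ A

theorem isJComponent_map (φ : G ≃* G) {T K : Subgroup G} (h : IsJComponent T K) :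
    IsJComponent (T.map φ.toMonoidHom) (K.map φ.toMonoidHom) := by
  obtain ⟨h1, h2, h3, h4, h5, h6⟩ := h
  refine ⟨?_, ?_, ?_, ?_, ?_, ?_⟩
  · conv_rhs => rw [← h1]
    rw [MonoidHom.map_closure]
    congr 1
    ext y
    constructor
    · rintro ⟨⟨x, hx, rfl⟩, hy⟩
      refine ⟨x, ⟨hx, ?_⟩, rfl⟩
      have : orderOf (φ.toMonoidHom x) = orderOf x := MulEquiv.orderOf_eq φ x
      rwa [this] at hy
    · rintro ⟨x, ⟨hx, hox⟩, rfl⟩
      refine ⟨⟨x, hx, rfl⟩, ?_⟩
      have : orderOf (φ.toMonoidHom x) = orderOf x := MulEquiv.orderOf_eq φ x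
      rwa [this]
  · rw [thompsonOf_map, ← Subgroup.map_commutator, h2]
  · rw [pCoreOf_map, Subgroup.relIndex_map_map_of_injective _ _ φ.injective]
    exact h3
  · intro S hS hJS
    rw [thompsonOf_map] at hS hJS ⊢
    have hS' := isSylowTwoIn_map φ.symm hS
    rw [Subgroup.map_sup, map_symm_map', map_symm_map'] at hS'
    have hJS' : thompsonSubgroupOf 2 T ≤ S.map φ.symm.toMonoidHom := by
      have := Subgroup.map_mono (f := φ.symm.toMonoidHom) hJS
      rwa [map_symm_map'] at this
    have := h4 _ hS' hJS'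
    rw [← this, ← thompsonOf_map, map_map_symm']
  · rw [wOf_map, Subgroup.card_map_of_injective φ.injective]
    exact h5
  · rw [wOf_map]
    rintro _ ⟨w, hw, rfl⟩
    rw [← map_mul, h6 w hw, map_one]

theorem isJComponent_congr {T T' K : Subgroup G} (h : IsJComponent T K)
    (hJ : thompsonSubgroupOf 2 T = thompsonSubgroupOf 2 T') : IsJComponent T' K := by
  unfold IsJComponent at h ⊢
  rw [← hJ]
  exact h

theorem centralizer_map (φ : G ≃* G) (A : Subgroup G) :
    Subgroup.centralizer ((A.map φ.toMonoidHom : Subgroup G) : Set G) =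
      (Subgroup.centralizer (A : Set G)).map φ.toMonoidHom :=
  Cfsg.Agent.Lib.Helper7.centralizer_map_equiv φ A

theorem jOvergroups_map (φ : G ≃* G) {T L : Subgroup G} (h : L ∈ jOvergroups T) :
    L.map φ.toMonoidHom ∈ jOvergroups (T.map φ.toMonoidHom) := by
  obtain ⟨h1, h2, h3⟩ := h
  refine ⟨isSylowTwoIn_map φ h1, ?_, ?_⟩
  · rw [thompsonOf_map, pCoreOf_map]
    intro hle
    apply h2
    have := Subgroup.map_mono (f := φ.symm.toMonoidHom) hle
    rwa [map_symm_map', map_symm_map'] at this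
  · rw [pCoreOf_map, centralizer_map]
    exact Subgroup.map_mono h3

/-- conjugation as a `MulEquiv`, with the membership rule -/
theorem mem_map_conj {K : Subgroup G} {g x : G} :
    x ∈ K.map (MulAut.conj g).toMonoidHom ↔ g⁻¹ * x * g ∈ K := by
  constructor
  · rintro ⟨k, hk, rfl⟩
    have : g⁻¹ * (MulAut.conj g).toMonoidHom k * g = k := by
      show g⁻¹ * (MulAut.conj g k) * g = k
      rw [MulAut.conj_apply]; group
    rwa [this]
  · intro h
    refine ⟨g⁻¹ * x * g, h, ?_⟩
    show MulAut.conj g (g⁻¹ * x * g) = x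
    rw [MulAut.conj_apply]; group

theorem map_conj_eq_of_mem_normalizer {K : Subgroup G} {g : G}
    (hg : g ∈ Subgroup.normalizer (K : Set G)) : K.map (MulAut.conj g).toMonoidHom = K := by
  ext x
  rw [mem_map_conj]
  have := (Subgroup.mem_normalizer_iff.mp (Subgroup.inv_mem _ hg) x)
  rw [inv_inv] at this
  exact this.symm

theorem mem_normalizer_of_map_conj_eq {K : Subgroup G} {g : G}
    (h : K.map (MulAut.conj g).toMonoidHom = K) : g ∈ Subgroup.normalizer (K : Set G) := by
  rw [Subgroup.mem_normalizer_iff]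
  intro x
  constructor
  · intro hx
    rw [← h]
    exact ⟨x, hx, by show MulAut.conj g x = _; rw [MulAut.conj_apply]⟩
  · intro hx
    rw [← h, mem_map_conj] at hx
    have e : g⁻¹ * (g * x * g⁻¹) * g = x := by group
    rwa [e] at hx

end Cfsg.Agent.Lib.Helper9.KS
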