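import Mathlib
import Cfsg.Prelude
import Cfsg.Agent.Lib.Helper9.KSg

set_option autoImplicit false
set_option linter.unusedSectionVars false
set_option linter.unusedVariables false
set_option linter.style.longLine false
set_option linter.unusedSimpArgs false
open Cfsg

set_option maxHeartbeats 1600000
namespace Cfsg.Agent.Lib.Helper9.KS

open Cfsg.Agent.Lib.Helper3.JC
open scoped Pointwise commutatorElement

/-- A normal subgroup `C` normalizing a Sylow `2`-subgroup `T` meets it in a normal subgroup. -/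
theorem inf_normal_of_le_normalizer {X : Type*} [Group X] [Finite X] (C T : Subgroup X)
    [hCn : C.Normal] (hT : IsPGroup 2 T) (hTodd : ¬ 2 ∣ T.index)
    (hCT : C ≤ Subgroup.normalizer (T : Set X)) : (T ⊓ C).Normal := by
  have : Fact (Nat.Prime 2) := ⟨Nat.prime_two⟩
  have hR2 : ¬ 2 ∣ T.relIndex C := fun h =>
    hTodd (h.trans (Cfsg.Agent.Lib.Helper1.relIndex_dvd_index_of_normal_right T C))
  have hCN : C ≤ Subgroup.normalizer ((T ⊓ C : Subgroup X) : Set X) := by
    intro c hc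
    have hcT := hCT hc
    apply mem_normalizer_of_conj
    · intro b hb
      exact ⟨(Subgroup.mem_normalizer_iff.mp hcT b).mp hb.1, hCn.conj_mem b hb.2 c⟩
    · intro b hb
      refine ⟨?_, ?_⟩
      · have := (Subgroup.mem_normalizer_iff.mp (Subgroup.inv_mem _ hcT) b).mp hb.1
        simpa using this
      · have := hCn.conj_mem b hb.2 c⁻¹
        simpa using this
  have h1 : ((T ⊓ C).subgroupOf C).Normal :=
    (Subgroup.normal_subgroupOf_iff_le_normalizer inf_le_right).mpr hCN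
  have h2 : IsPGroup 2 ((T ⊓ C).subgroupOf C) :=
    (hT.to_le inf_le_left).comap_of_injective C.subtype C.subtype_injective
  have h3 : ¬ 2 ∣ ((T ⊓ C).subgroupOf C).index := by
    show ¬ 2 ∣ (T ⊓ C).relIndex C
    rw [Subgroup.inf_relIndex_right]
    exact hR2
  have h4 : ((T ⊓ C).subgroupOf C).Characteristic := by
    have := Sylow.characteristic_of_normal (h2.toSylow h3) (by simpa using h1)
    simpa using this
  have h5 := @ConjAct.normal_of_characteristic_of_normal X _ C hCn _ h4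
  rwa [Subgroup.map_subgroupOf_eq_of_le inf_le_right] at h5

variable {G : Type*} [Group G]

/-- `T ∩ C_L(V) ≤ O₂(L)` for `L ∈ 𝓛(T)`. -/
theorem inf_cent_le_pCoreOf [Finite G]
    (hZ : ∀ S : Sylow 2 G, Subgroup.centralizer (Cfsg.omegaCenterOf (S : Subgroup G) : Set G) ≤
      Subgroup.normalizer ((S : Subgroup G) : Set G))
    {T L : Subgroup G} (hLT : L ∈ jOvergroups T) :
    T ⊓ (L ⊓ Subgroup.centralizer (omegaCenterOf (pCoreOf 2 L) : Set G)) ≤ pCoreOf 2 L := by
  have hVQ : omegaCenterOf (pCoreOf 2 L) ≤ pCoreOf 2 L := (omegaCenterOf_le _).trans inf_le_left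
  have hVL : omegaCenterOf (pCoreOf 2 L) ≤ L := hVQ.trans (pCoreOf_le L)
  have hLV : L ≤ Subgroup.normalizer (omegaCenterOf (pCoreOf 2 L) : Set G) :=
    (nz_omegaCenterOf (nz_self_pCoreOf L)).le_normalizer
  haveI hVn : ((omegaCenterOf (pCoreOf 2 L)).subgroupOf L).Normal :=
    (Subgroup.normal_subgroupOf_iff_le_normalizer hVL).mpr hLV
  have hn := inf_normal_of_le_normalizer
    (Subgroup.centralizer (((omegaCenterOf (pCoreOf 2 L)).subgroupOf L : Subgroup ↥L) : Set ↥L))
    (T.subgroupOf L) hLT.1.2.1.comap_subtype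
    (by
      show ¬ 2 ∣ T.relIndex L
      exact Nat.two_dvd_ne_zero.2 (Nat.odd_iff.1 hLT.1.2.2))
    (by
      intro c hc
      rw [coe_mem_centralizer hVL] at hc
      have hcN := cent_le_normalizer hZ hLT ⟨c.2, hc⟩
      rw [Subgroup.mem_normalizer_iff] at hcN ⊢
      intro x
      rw [Subgroup.mem_subgroupOf, Subgroup.mem_subgroupOf]
      exact hcN x)
  intro x hx
  have hxL : x ∈ L := hx.2.1
  have h1 : (⟨x, hxL⟩ : ↥L) ∈ T.subgroupOf L ⊓ Subgroup.centralizer
      (((omegaCenterOf (pCoreOf 2 L)).subgroupOf L : Subgroup ↥L) : Set ↥L) := by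
    refine ⟨Subgroup.mem_subgroupOf.2 hx.1, ?_⟩
    exact (coe_mem_centralizer hVL).2 hx.2.2
  have h2 : T.subgroupOf L ⊓ Subgroup.centralizer
      (((omegaCenterOf (pCoreOf 2 L)).subgroupOf L : Subgroup ↥L) : Set ↥L) ≤ pCore 2 ↥L :=
    le_sSup ⟨hn, (hLT.1.2.1.comap_subtype).to_le inf_le_left⟩
  exact ⟨⟨x, hxL⟩, h2 h1, rfl⟩

/-- `[C_L(V), T] ≤ O₂(L)`. -/
theorem comm_cent_mem [Finite G]
    (hZ : ∀ S : Sylow 2 G, Subgroup.centralizer (Cfsg.omegaCenterOf (S : Subgroup G) : Set G) ≤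
      Subgroup.normalizer ((S : Subgroup G) : Set G))
    {T L : Subgroup G} (hLT : L ∈ jOvergroups T) {c t : G} (hcL : c ∈ L)
    (hc : c ∈ Subgroup.centralizer (omegaCenterOf (pCoreOf 2 L) : Set G)) (ht : t ∈ T) :
    ⁅c, t⁆ ∈ pCoreOf 2 L := by
  apply inf_cent_le_pCoreOf hZ hLT
  have hcN := cent_le_normalizer hZ hLT ⟨hcL, hc⟩
  have htL : t ∈ L := hLT.1.1 ht
  refine ⟨?_, ?_, ?_⟩
  · rw [commutatorElement_def]
    exact T.mul_mem ((Subgroup.mem_normalizer_iff.mp hcN t).mp ht) (T.inv_mem ht)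
  · rw [commutatorElement_def]
    exact L.mul_mem (L.mul_mem (L.mul_mem hcL htL) (L.inv_mem hcL)) (L.inv_mem htL)
  · have hnz : Nz L (Subgroup.centralizer (omegaCenterOf (pCoreOf 2 L) : Set G)) :=
      (nz_omegaCenterOf (nz_self_pCoreOf L)).centralizer
    have e : ⁅c, t⁆ = c * (t * c⁻¹ * t⁻¹) := by rw [commutatorElement_def]; group
    rw [e]
    exact Subgroup.mul_mem _ hc (hnz t htL _ (Subgroup.inv_mem _ hc))

end Cfsg.Agent.Lib.Helper9.KS
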