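import Mathlib
import Cfsg.Prelude
import Cfsg.Agent.Lib.Helper9.KSh
import Cfsg.Agent.Lib.Helper7.Subnormal

set_option autoImplicit false
set_option linter.unusedSectionVars false
set_option linter.unusedVariables false
set_option linter.style.longLine false
set_option linter.unusedSimpArgs false
open Cfsg

set_option maxHeartbeats 1600000
namespace Cfsg.Agent.Lib.Helper9.KS

open Cfsg.Agent.Lib.Helper3.JC
open scoped Pointwise commutatorElement

variable {G : Type*} [Group G]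

/-- `O₂(L)` normalizes every `J(T)`-component of `L`. -/
theorem pCoreOf_le_normalizer_comp [Finite G] (hL : Cfsg.IsCharacteristicTwoType G)
    (hN : ∀ N : Subgroup G, Cfsg.IsTwoLocal N → Group.IsSolvable ↥N)
    (hZ : ∀ S : Sylow 2 G, Subgroup.centralizer (Cfsg.omegaCenterOf (S : Subgroup G) : Set G) ≤
      Subgroup.normalizer ((S : Subgroup G) : Set G))
    {T L K : Subgroup G} (hT : IsPGroup 2 ↥T) (hT1 : T ≠ ⊥) (hLT : L ∈ jOvergroups T)
    (hK : IsJComponent T K) (hKL : K ≤ L) :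
    pCoreOf 2 L ≤ Subgroup.normalizer (K : Set G) := by
  have hJT : thompsonSubgroupOf 2 T ≤ T := Cfsg.Agent.Lib.Helper1.thompsonSubgroupOf_le_self 2 T
  apply Cfsg.Agent.S2941.result hL hN hZ T hT hT1 K hK
  · exact (sup_le hKL (hJT.trans hLT.1.1)).trans (nz_self_pCoreOf L).le_normalizer
  · exact (pCoreOf_le_of_isSylowTwoIn hLT.1).trans (Subgroup.le_normalizer.trans
      (Cfsg.Agent.Lib.Helper1.normalizer_le_normalizer_thompsonSubgroupOf hJT le_rfl))

/-- `O₂(K) ≤ O₂(L)` for a `J(T)`-component `K` of `L`. -/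
theorem pCoreOf_comp_le [Finite G] (hL : Cfsg.IsCharacteristicTwoType G)
    (hN : ∀ N : Subgroup G, Cfsg.IsTwoLocal N → Group.IsSolvable ↥N)
    (hZ : ∀ S : Sylow 2 G, Subgroup.centralizer (Cfsg.omegaCenterOf (S : Subgroup G) : Set G) ≤
      Subgroup.normalizer ((S : Subgroup G) : Set G))
    {T L K : Subgroup G} (hT : IsPGroup 2 ↥T) (hT1 : T ≠ ⊥) (hLT : L ∈ jOvergroups T)
    (hK : IsJComponent T K) (hKL : K ≤ L) : pCoreOf 2 K ≤ pCoreOf 2 L := by
  have h2 : Fact (Nat.Prime 2) := ⟨Nat.prime_two⟩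
  have hsub := jcomponent_subnormal hL hN hZ hT hT1 hLT hK hKL
  have hPK : pCoreOf 2 K ≤ K := pCoreOf_le K
  have hle : (pCoreOf 2 K).subgroupOf L ≤ K.subgroupOf L := by
    intro x hx
    rw [Subgroup.mem_subgroupOf] at hx ⊢
    exact hPK hx
  have hn : (((pCoreOf 2 K).subgroupOf L).subgroupOf (K.subgroupOf L)).Normal := by
    rw [Subgroup.normal_subgroupOf_iff_le_normalizer hle]
    intro k hk
    rw [Subgroup.mem_subgroupOf] at hk
    have hkN := (nz_self_pCoreOf K).le_normalizer hk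
    rw [Subgroup.mem_normalizer_iff] at hkN ⊢
    intro x
    rw [Subgroup.mem_subgroupOf, Subgroup.mem_subgroupOf]
    exact hkN x
  have hsub2 : ((pCoreOf 2 K).subgroupOf L).IsSubnormal :=
    Subgroup.IsSubnormal.step _ _ hle hsub hn
  have hp : IsPGroup 2 ↥((pCoreOf 2 K).subgroupOf L) := (pCoreOf_isPGroup K).comap_subtype
  have h3 := Cfsg.Agent.Lib.Helper7.subnormal_pGroup_le_pCore hsub2 hp
  intro x hx
  have hxL : x ∈ L := hKL (hPK hx)
  exact ⟨⟨x, hxL⟩, h3 (Subgroup.mem_subgroupOf.2 hx), rfl⟩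

/-- Odd-order elements of `K·R` lie in `K` when `R` is a `2`-group normalizing `K`. -/
theorem mem_of_odd_of_mem_sup [Finite G] {K R : Subgroup G} (hR : IsPGroup 2 ↥R)
    (hRK : R ≤ Subgroup.normalizer (K : Set G)) {x : G} (hx : x ∈ K ⊔ R) (hodd : Odd (orderOf x)) :
    x ∈ K := by
  rw [← SetLike.mem_coe, Subgroup.coe_mul_of_right_le_normalizer_left K R hRK] at hx
  obtain ⟨k, hk, r, hr, rfl⟩ := Set.mem_mul.mp hx
  -- `(k r)^m ∈ K r^m`
  have key : ∀ m : ℕ, ∃ k' ∈ K, (k * r) ^ m = k' * r ^ m := by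
    intro m
    induction m with
    | zero => exact ⟨1, K.one_mem, by simp⟩
    | succ m ih =>
      obtain ⟨k', hk', e⟩ := ih
      refine ⟨k' * (r ^ m * k * (r ^ m)⁻¹), K.mul_mem hk' ?_, ?_⟩
      · exact (Subgroup.mem_normalizer_iff.mp (hRK (R.pow_mem hr m)) k).mp hk
      · rw [pow_succ, e, pow_succ]; group
  obtain ⟨j, hj⟩ := hR ⟨r, hr⟩
  have hrj : r ^ (2 ^ j) = 1 := by
    have := congrArg Subtype.val hj
    simpa using this
  -- `r ∈ K`: take `m = orderOf (k r)`
  obtain ⟨k', hk', e⟩ := key (orderOf (k * r))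
  rw [pow_orderOf_eq_one] at e
  have hrm : r ^ orderOf (k * r) ∈ K := by
    have : r ^ orderOf (k * r) = k'⁻¹ := by
      rw [eq_inv_iff_mul_eq_one]
      have e2 : k' * r ^ orderOf (k * r) = 1 := e.symm
      calc r ^ orderOf (k * r) * k' = k'⁻¹ * (k' * r ^ orderOf (k * r)) * k' := by group
        _ = 1 := by rw [e2]; group
    rw [this]; exact K.inv_mem hk'
  have hcop : Nat.Coprime (orderOf (k * r)) (orderOf r) := by
    have h1 : orderOf r ∣ 2 ^ j := orderOf_dvd_of_pow_eq_one hrj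
    have h2 : Nat.Coprime (orderOf (k * r)) (2 ^ j) :=
      Nat.Coprime.pow_right j (Nat.Coprime.symm (Nat.coprime_two_left.mpr hodd))
    exact Nat.Coprime.coprime_dvd_right h1 h2
  obtain ⟨s, hs⟩ := exists_pow_eq_self_of_coprime hcop
  have hr1 : r ∈ K := by
    rw [← hs]; exact K.pow_mem hrm s
  exact K.mul_mem hk hr1

end Cfsg.Agent.Lib.Helper9.KS
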