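import Mathlib
import Cfsg.Prelude
import Cfsg.Agent.Lib.Helper9.KSi

set_option autoImplicit false
set_option linter.unusedSectionVars false
set_option linter.unusedVariables false
set_option linter.style.longLine false
set_option linter.unusedSimpArgs false
open Cfsg

set_option maxHeartbeats 1600000
namespace Cfsg.Agent.Lib.Helper9.KS

open scoped Pointwise commutatorElement
open MatrixGroups
open Cfsg.Agent.Lib.Helper1.FF

universe u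

set_option maxRecDepth 100000 in
theorem sl2_invert : ∀ x y : Matrix.SpecialLinearGroup (Fin 2) (ZMod 2),
    x ^ 3 = 1 → y ^ 2 = 1 → y ≠ 1 → y * x * y⁻¹ = x⁻¹ := by
  decide

set_option maxRecDepth 100000 in
theorem sl2_order3 : ∀ x y : Matrix.SpecialLinearGroup (Fin 2) (ZMod 2),
    x ^ 3 = 1 → y ^ 3 = 1 → x ≠ 1 → y = 1 ∨ y = x ∨ y = x⁻¹ := by
  decide

variable {𝔾 : Type u} [Group 𝔾] [Finite 𝔾] {𝕍 H Q : Subgroup 𝔾} {s : Setup 2 𝕍 H Q}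
  {B : Subgroup 𝔾}

theorem trH_card_N (h : s.IsTrH B) : Nat.card ↥(⁅Q, B⁆) = 3 := by
  have : Fact (Nat.Prime 2) := ⟨Nat.prime_two⟩
  have := h.card_N
  simpa using this

theorem trH_pow_three (h : s.IsTrH B) {n : 𝔾} (hn : n ∈ ⁅Q, B⁆) : n ^ 3 = 1 := by
  have h1 : (⟨n, hn⟩ : ↥(⁅Q, B⁆)) ^ Nat.card ↥(⁅Q, B⁆) = 1 := pow_card_eq_one'
  rw [trH_card_N h] at h1
  have := congrArg Subtype.val h1
  simpa using this

theorem trH_pow_two (h : s.IsTrH B) {b : 𝔾} (hb : b ∈ B) : b ^ 2 = 1 := by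
  have : Fact (Nat.Prime 2) := ⟨Nat.prime_two⟩
  exact h.pow_eq_one b hb

/-- a nontrivial element of `B` inverts `[Q,B]` -/
theorem trH_invert (h : s.IsTrH B) {b n : 𝔾} (hb : b ∈ B) (hb1 : b ≠ 1) (hn : n ∈ ⁅Q, B⁆) :
    b * n * b⁻¹ = n⁻¹ := by
  have : Fact (Nat.Prime 2) := ⟨Nat.prime_two⟩
  obtain ⟨φ⟩ := h.sl2
  have hbE : b ∈ ⁅Q, B⁆ ⊔ B := (le_sup_right : B ≤ _) hb
  have hnE : n ∈ ⁅Q, B⁆ ⊔ B := (le_sup_left : ⁅Q, B⁆ ≤ _) hn
  have h1 := sl2_invert (φ ⟨n, hnE⟩) (φ ⟨b, hbE⟩)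
    (by rw [← map_pow, ← map_one φ]; congr 1; exact Subtype.ext (trH_pow_three h hn))
    (by rw [← map_pow, ← map_one φ]; congr 1; exact Subtype.ext (trH_pow_two h hb))
    (by
      intro h0
      rw [← map_one φ] at h0
      exact hb1 (congrArg Subtype.val (φ.injective h0)))
  rw [← map_inv, ← map_inv, ← map_mul, ← map_mul] at h1
  have h2 := congrArg Subtype.val (φ.injective h1)
  simpa using h2

/-- a subgroup of order `3` of `E_B` equals `[Q,B]` -/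
theorem trH_N_eq (h : s.IsTrH B) {D : Subgroup 𝔾} (hD : D ≤ ⁅Q, B⁆ ⊔ B) (hc : Nat.card D = 3) :
    D = ⁅Q, B⁆ := by
  have : Fact (Nat.Prime 2) := ⟨Nat.prime_two⟩
  have : Fact (Nat.Prime 3) := ⟨Nat.prime_three⟩
  obtain ⟨φ⟩ := h.sl2
  -- a generator of `[Q,B]`
  obtain ⟨n, hn, hn1⟩ := Cfsg.Agent.Lib.Helper1.FF.exists_ne_one_of_card_prime (trH_card_N h)
  have hnE : n ∈ ⁅Q, B⁆ ⊔ B := (le_sup_left : ⁅Q, B⁆ ≤ _) hn
  have hle : D ≤ ⁅Q, B⁆ := by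
    intro d hd
    have hd3 : d ^ 3 = 1 := by
      have h1 : (⟨d, hd⟩ : ↥D) ^ Nat.card ↥D = 1 := pow_card_eq_one'
      rw [hc] at h1
      have := congrArg Subtype.val h1
      simpa using this
    have h1 := sl2_order3 (φ ⟨n, hnE⟩) (φ ⟨d, hD hd⟩)
      (by rw [← map_pow, ← map_one φ]; congr 1; exact Subtype.ext (trH_pow_three h hn))
      (by rw [← map_pow, ← map_one φ]; congr 1; exact Subtype.ext hd3)
      (by
        intro h0
        rw [← map_one φ] at h0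
        exact hn1 (congrArg Subtype.val (φ.injective h0)))
    rcases h1 with h1 | h1 | h1
    · rw [← map_one φ] at h1
      have := congrArg Subtype.val (φ.injective h1)
      simp only [Subgroup.coe_one] at this
      rw [this]; exact Subgroup.one_mem _
    · have := congrArg Subtype.val (φ.injective h1)
      simp only at this
      rw [this]; exact hn
    · rw [← map_inv] at h1
      have := congrArg Subtype.val (φ.injective h1)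
      simp only [Subgroup.coe_inv] at this
      rw [this]; exact Subgroup.inv_mem _ hn
  exact Subgroup.eq_of_le_of_card_ge hle (by rw [hc, trH_card_N h])

/-- a subgroup of order `3` of `H`, normalized but not centralized by `B`, equals `[Q,B]` -/
theorem trH_eq_of_not_centralizer (h : s.IsTrH B)
    (hS3 : H = ⨆ A : {A : Subgroup 𝔾 // A ≤ H ∧ IsBestOffenderOn 2 𝕍 A}, (A : Subgroup 𝔾))
    {D : Subgroup 𝔾} (hDH : D ≤ H) (hc : Nat.card D = 3)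
    (hBD : B ≤ Subgroup.normalizer (D : Set 𝔾))
    (hBC : ¬ B ≤ Subgroup.centralizer (D : Set 𝔾)) : D = ⁅Q, B⁆ := by
  have : Fact (Nat.Prime 2) := ⟨Nat.prime_two⟩
  have : Fact (Nat.Prime 3) := ⟨Nat.prime_three⟩
  obtain ⟨b, hb, hbC⟩ := SetLike.not_le_iff_exists.mp hBC
  rw [Subgroup.mem_centralizer_iff] at hbC
  push Not at hbC
  obtain ⟨d, hd, hdb⟩ := hbC
  have hd' : d ∈ D := hd
  -- decompose `d`
  have hFN : H ⊓ Subgroup.centralizer ((⁅𝕍, ⁅Q, B⁆ ⊔ B⁆ : Subgroup 𝔾) : Set 𝔾) ≤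
      Subgroup.normalizer ((⁅Q, B⁆ ⊔ B : Subgroup 𝔾) : Set 𝔾) :=
    inf_le_left.trans (h.H_le_normalizer_E hS3)
  have hdH : d ∈ (⁅Q, B⁆ ⊔ B) ⊔
      (H ⊓ Subgroup.centralizer ((⁅𝕍, ⁅Q, B⁆ ⊔ B⁆ : Subgroup 𝔾) : Set 𝔾)) := by
    rw [h.E_sup_F hS3]; exact hDH hd'
  rw [← SetLike.mem_coe, Subgroup.coe_mul_of_right_le_normalizer_left _ _ hFN] at hdH
  obtain ⟨e, he, f, hf, rfl⟩ := Set.mem_mul.mp hdH
  have hbE : b ∈ ⁅Q, B⁆ ⊔ B := (le_sup_right : B ≤ _) hb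
  have hcomm : ∀ x ∈ ⁅Q, B⁆ ⊔ B, x * f = f * x := by
    intro x hx
    have h1 := h.commutator_E_F hS3
    rw [Subgroup.commutator_eq_bot_iff_le_centralizer] at h1
    exact (Subgroup.mem_centralizer_iff.mp (h1 hx) f hf).symm
  -- the commutator
  have hcE : b * (e * f) * b⁻¹ * (e * f)⁻¹ = b * e * b⁻¹ * e⁻¹ := by
    have h1 := hcomm b⁻¹ (Subgroup.inv_mem _ hbE)
    calc b * (e * f) * b⁻¹ * (e * f)⁻¹ = b * e * (f * b⁻¹) * f⁻¹ * e⁻¹ := by group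
      _ = b * e * (b⁻¹ * f) * f⁻¹ * e⁻¹ := by rw [h1]
      _ = b * e * b⁻¹ * e⁻¹ := by group
  have hcD : b * (e * f) * b⁻¹ * (e * f)⁻¹ ∈ D :=
    D.mul_mem ((Subgroup.mem_normalizer_iff.mp (hBD hb) _).mp hd') (D.inv_mem hd')
  have hc1 : b * (e * f) * b⁻¹ * (e * f)⁻¹ ≠ 1 := by
    intro h0
    apply hdb
    have : b * (e * f) * b⁻¹ = e * f := by
      calc b * (e * f) * b⁻¹ = (b * (e * f) * b⁻¹ * (e * f)⁻¹) * (e * f) := by group
        _ = e * f := by rw [h0, one_mul]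
    calc e * f * b = (b * (e * f) * b⁻¹) * b := by rw [this]
      _ = b * (e * f) := by group
  have hcEm : b * (e * f) * b⁻¹ * (e * f)⁻¹ ∈ ⁅Q, B⁆ ⊔ B := by
    rw [hcE]
    exact Subgroup.mul_mem _ (Subgroup.mul_mem _ (Subgroup.mul_mem _ hbE he) (Subgroup.inv_mem _ hbE))
      (Subgroup.inv_mem _ he)
  have hDz := Cfsg.Agent.Lib.Helper1.FF.eq_zpowers_of_card_prime hc hcD hc1
  apply trH_N_eq h _ hc
  rw [hDz, Subgroup.zpowers_le]
  exact hcEm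

/-- planes meeting nontrivially give the same `[Q,B]` -/
theorem trH_N_eq_of_W_inf (h : s.IsTrH B) {B' : Subgroup 𝔾} (h' : s.IsTrH B')
    (hW : ⁅𝕍, ⁅Q, B⁆ ⊔ B⁆ ⊓ ⁅𝕍, ⁅Q, B'⁆ ⊔ B'⁆ ≠ ⊥) :
    ⁅Q, B⁆ ⊔ B = ⁅Q, B'⁆ ⊔ B' ∧ ⁅Q, B⁆ = ⁅Q, B'⁆ := by
  have : Fact (Nat.Prime 2) := ⟨Nat.prime_two⟩
  have hWeq : ⁅𝕍, ⁅Q, B⁆ ⊔ B⁆ = ⁅𝕍, ⁅Q, B'⁆ ⊔ B'⁆ := by
    by_contra hne
    exact hW (h.W_inf h' hne)
  have hE := h.E_eq_of_W_eq h' hWeq
  refine ⟨hE, ?_⟩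
  have := trH_N_eq h (D := ⁅Q, B'⁆) (by rw [hE]; exact le_sup_left) (trH_card_N h')
  exact this.symm

/-- an involution of `E_B` is `n * b` with `b` the involution of `B` -/
theorem trH_exists_mul (h : s.IsTrH B) {e : 𝔾} (he : e ∈ ⁅Q, B⁆ ⊔ B) (he2 : e ^ 2 = 1)
    (he1 : e ≠ 1) : ∃ n ∈ ⁅Q, B⁆, ∃ b ∈ B, b ≠ 1 ∧ n * b = e := by
  have : Fact (Nat.Prime 2) := ⟨Nat.prime_two⟩
  obtain ⟨n, hn, b, hb, rfl⟩ := h.exists_mul_of_mem_E he
  refine ⟨n, hn, b, hb, ?_, rfl⟩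
  rintro rfl
  rw [mul_one] at he2 he1
  apply he1
  have h3 := trH_pow_three h hn
  calc n = n ^ 3 * (n ^ 2)⁻¹ := by group
    _ = 1 := by rw [h3, he2]; group

/-- `B = {1, b}` -/
theorem trH_eq_or (h : s.IsTrH B) {b x : 𝔾} (hb : b ∈ B) (hb1 : b ≠ 1) (hx : x ∈ B) :
    x = 1 ∨ x = b := by
  have : Fact (Nat.Prime 2) := ⟨Nat.prime_two⟩
  have hBz := Cfsg.Agent.Lib.Helper1.FF.eq_zpowers_of_card_prime h.hcard hb hb1
  rw [hBz] at hx
  obtain ⟨k, rfl⟩ := Subgroup.mem_zpowers_iff.mp hx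
  have hb2 := trH_pow_two h hb
  rcases Int.emod_two_eq_zero_or_one k with hk | hk
  · left
    have : k = 2 * (k / 2) := by omega
    rw [this, zpow_mul, zpow_ofNat, hb2, one_zpow]
  · right
    have : k = 2 * (k / 2) + 1 := by omega
    rw [this, zpow_add, zpow_mul, zpow_ofNat, hb2, one_zpow, one_mul, zpow_one]

end Cfsg.Agent.Lib.Helper9.KS
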