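import Mathlib
import Cfsg.Prelude
import Cfsg.Agent.Lib.Helper9.KSj

set_option autoImplicit false
set_option linter.unusedSectionVars false
set_option linter.unusedVariables false
set_option linter.style.longLine false
set_option linter.unusedSimpArgs false
open Cfsg

set_option maxHeartbeats 1600000
namespace Cfsg.Agent.Lib.Helper9.KS

open scoped Pointwise commutatorElement
open Cfsg.Agent.Lib.Helper1.FF Cfsg.Agent.Lib.Helper1.TF

universe u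

variable {X : Type u} [Group X] [Finite X] (V : Subgroup X) [V.Normal]

/-- data of a component-like subgroup `K` acted on by `J` inside `X`. -/
structure CompX (K J : Subgroup X) : Prop where
  comm : K ≤ ⁅K, J⁆
  Jnorm : J ≤ Subgroup.normalizer (K : Set X)
  Jgen : ∃ 𝒜 : Set (Subgroup X), 𝒜 ⊆ maxElementaryAbelianSubgroups 2 X ∧ J = sSup 𝒜
  card3 : Nat.card ↥(tr V K) = 3
  Qnorm : pCore 2 X ≤ Subgroup.normalizer (K : Set X)
  Cnorm : Subgroup.centralizer (V : Set X) ≤ Subgroup.normalizer (K : Set X)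
  CJ : ∀ c ∈ Subgroup.centralizer (V : Set X), ∀ j ∈ J, ⁅c, j⁆ ∈ pCore 2 X
  KC : K ⊓ Subgroup.centralizer (V : Set X) ≤ pCore 2 X
  odd : K ≤ Subgroup.closure {x : X | x ∈ K ∧ Odd (orderOf x)}

variable {V}

theorem CompX.J_le {K J : Subgroup X} (h : CompX V K J) : J ≤ thompsonSubgroup 2 X := by
  obtain ⟨𝒜, h𝒜, rfl⟩ := h.Jgen
  exact sSup_le_sSup h𝒜

theorem tr_le_normalizer_tr {K J : Subgroup X} (h : J ≤ Subgroup.normalizer (K : Set X)) :
    tr V J ≤ Subgroup.normalizer ((tr V K : Subgroup (Amb V)) : Set (Amb V)) :=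
  (Subgroup.map_mono h).trans (Subgroup.le_normalizer_map _)

theorem CompX.tr_le {K J : Subgroup X} (h : CompX V K J) :
    tr V K ≤ tr V (thompsonSubgroup 2 X) := by
  have htrJ : tr V J ≤ tr V (thompsonSubgroup 2 X) := Subgroup.map_mono h.J_le
  have htrK1 : tr V K ≤ ⁅tr V K, tr V J⁆ := by
    calc tr V K ≤ (⁅K, J⁆).map (tau V) := Subgroup.map_mono h.comm
      _ = ⁅tr V K, tr V J⁆ := Subgroup.map_commutator K J (tau V)
  refine htrK1.trans ?_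
  have hJchar := Cfsg.Agent.Lib.Helper1.thompsonSubgroup_characteristic 2 X
  haveI hJn : (thompsonSubgroup 2 X).Normal := inferInstance
  rw [Subgroup.commutator_le]
  rintro a ⟨k, hk, rfl⟩ b hb
  rw [commutatorElement_def]
  exact Subgroup.mul_mem _ (tau_conj_mem_tr V k (htrJ hb)) (Subgroup.inv_mem _ (htrJ hb))

/-- (E1): the image of `K` is `[Q', B]` for a transvection group `B ≤ tr J`. -/
theorem CompX.exists_trH {K J : Subgroup X} (h : CompX V K J) (hV : IsElementaryAbelian 2 V)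
    {Q' : Subgroup (Amb V)} (s : Setup 2 (VV V) (tr V (thompsonSubgroup 2 X)) Q')
    (hS3 : tr V (thompsonSubgroup 2 X) = ⨆ A : {A : Subgroup (Amb V) //
      A ≤ tr V (thompsonSubgroup 2 X) ∧ IsBestOffenderOn 2 (VV V) A}, (A : Subgroup (Amb V))) :
    ∃ B, s.IsTrH B ∧ B ≤ tr V J ∧ tr V K = ⁅Q', B⁆ := by
  have : Fact (Nat.Prime 2) := ⟨Nat.prime_two⟩
  have hJn := tr_le_normalizer_tr (V := V) h.Jnorm
  by_contra hcon
  push Not at hcon
  -- every transvection group in `tr J` centralizes `tr K`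
  have hall : ∀ B, s.IsTrH B → B ≤ tr V J →
      B ≤ Subgroup.centralizer ((tr V K : Subgroup (Amb V)) : Set (Amb V)) := by
    intro B hB hBJ
    by_contra hBC
    exact hcon B hB hBJ
      (trH_eq_of_not_centralizer hB hS3 h.tr_le h.card3 (hBJ.trans hJn) hBC)
  have hJc : tr V J ≤ Subgroup.centralizer ((tr V K : Subgroup (Amb V)) : Set (Amb V)) := by
    obtain ⟨𝒜, h𝒜, hJ⟩ := h.Jgen
    have e1 : tr V J = ⨆ A ∈ 𝒜, tr V A := by
      rw [hJ, sSup_eq_iSup]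
      unfold tr
      rw [Subgroup.map_iSup]
      congr 1
      ext A
      rw [Subgroup.map_iSup]
    rw [e1]
    apply iSup₂_le
    intro A hA
    have hAJ : tr V A ≤ tr V J := by rw [hJ]; exact Subgroup.map_mono (le_sSup hA)
    have hbo : IsBestOffenderOn 2 (VV V) (tr V A) :=
      isBestOffenderOn_tr V (Cfsg.Agent.Lib.Helper1.isBestOffenderOn_of_mem_max V hV A (h𝒜 hA))
    have hAH : tr V A ≤ tr V (thompsonSubgroup 2 X) := hAJ.trans (Subgroup.map_mono h.J_le)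
    by_cases hA1 : tr V A = ⊥
    · rw [hA1]; exact bot_le
    · obtain ⟨k, B, hB, -, hsup⟩ := s.exists_decomp hAH hbo hA1
      rw [← hsup]
      apply iSup_le
      intro i
      obtain ⟨h1, h2, h3, h4⟩ := hB i
      exact hall _ (s.isTrH_of_minimal (h1.trans hAH) h2 h3 h4) (h1.trans hAJ)
  have hbot : tr V K = ⊥ := by
    rw [eq_bot_iff]
    calc tr V K ≤ (⁅K, J⁆).map (tau V) := Subgroup.map_mono h.comm
      _ = ⁅tr V K, tr V J⁆ := Subgroup.map_commutator K J (tau V)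
      _ = ⊥ := by
        rw [Subgroup.commutator_comm, Subgroup.commutator_eq_bot_iff_le_centralizer]
        exact hJc
  have := h.card3
  rw [hbot, Subgroup.card_bot] at this
  omega

theorem inl_mem_commutator {K : Subgroup X} {z : X} (hz : z ∈ ⁅V, K⁆) :
    ∃ hzV : z ∈ V, (SemidirectProduct.inl ⟨z, hzV⟩ : Amb V) ∈ ⁅VV V, tr V K⁆ := by
  rw [Subgroup.commutator_def] at hz
  refine Subgroup.closure_induction
    (p := fun z _ => ∃ hzV : z ∈ V,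
      (SemidirectProduct.inl ⟨z, hzV⟩ : Amb V) ∈ ⁅VV V, tr V K⁆) ?_ ?_ ?_ ?_ hz
  · rintro _ ⟨v, hv, k, hk, rfl⟩
    have hV1 : ⁅v, k⁆ ∈ V := by
      rw [commutatorElement_def]
      have e : v * k * v⁻¹ * k⁻¹ = v * (k * v⁻¹ * k⁻¹) := by group
      rw [e]
      exact V.mul_mem hv (‹V.Normal›.conj_mem _ (V.inv_mem hv) k)
    refine ⟨hV1, ?_⟩
    have e : (SemidirectProduct.inl ⟨⁅v, k⁆, hV1⟩ : Amb V) =
        ⁅(SemidirectProduct.inl ⟨v, hv⟩ : Amb V), tau V k⁆ := by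
      have e1 : ⁅(SemidirectProduct.inl ⟨v, hv⟩ : Amb V), tau V k⁆ =
          (SemidirectProduct.inl ⟨v, hv⟩ : Amb V) *
          (tau V k * SemidirectProduct.inl (⟨v, hv⟩ : ↥V)⁻¹ * (tau V k)⁻¹) := by
        rw [commutatorElement_def, map_inv]; group
      rw [e1, tau_conj, ← map_mul]
      congr 1
      apply Subtype.ext
      simp only [Subgroup.coe_mul, MulAut.conjNormal_apply, Subgroup.coe_inv,
        commutatorElement_def]
      group
    rw [e]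
    exact Subgroup.commutator_mem_commutator ⟨_, rfl⟩ ⟨k, hk, rfl⟩
  · exact ⟨V.one_mem, by
      have : (⟨1, V.one_mem⟩ : ↥V) = 1 := rfl
      rw [this, map_one]; exact Subgroup.one_mem _⟩
  · rintro x y _ _ ⟨hx, hx'⟩ ⟨hy, hy'⟩
    refine ⟨V.mul_mem hx hy, ?_⟩
    have : (⟨x * y, V.mul_mem hx hy⟩ : ↥V) = ⟨x, hx⟩ * ⟨y, hy⟩ := rfl
    rw [this, map_mul]
    exact Subgroup.mul_mem _ hx' hy'
  · rintro x _ ⟨hx, hx'⟩
    refine ⟨V.inv_mem hx, ?_⟩
    have : (⟨x⁻¹, V.inv_mem hx⟩ : ↥V) = ⟨x, hx⟩⁻¹ := rfl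
    rw [this, map_inv]
    exact Subgroup.inv_mem _ hx'

theorem mem_cent_of_tau_eq {x y : X} (h : tau V x = tau V y) :
    x⁻¹ * y ∈ Subgroup.centralizer (V : Set X) := by
  rw [← mem_ker_tau, MonoidHom.mem_ker, map_mul, map_inv, h, inv_mul_cancel]

/-- Two component-like subgroups whose planes `[V,K]`, `[V,K']` meet nontrivially: `K' ≤ K`. -/
theorem compX_le {K J K' J' : Subgroup X} (h : CompX V K J) (h' : CompX V K' J')
    (hV : IsElementaryAbelian 2 V)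
    {Q' : Subgroup (Amb V)} (s : Setup 2 (VV V) (tr V (thompsonSubgroup 2 X)) Q')
    (hS3 : tr V (thompsonSubgroup 2 X) = ⨆ A : {A : Subgroup (Amb V) //
      A ≤ tr V (thompsonSubgroup 2 X) ∧ IsBestOffenderOn 2 (VV V) A}, (A : Subgroup (Amb V)))
    {z : X} (hz1 : z ≠ 1) (hzK : z ∈ ⁅V, K⁆) (hzK' : z ∈ ⁅V, K'⁆) : K' ≤ K := by
  have : Fact (Nat.Prime 2) := ⟨Nat.prime_two⟩
  have : Fact (Nat.Prime 3) := ⟨Nat.prime_three⟩
  obtain ⟨B, hB, hBJ, hKB⟩ := h.exists_trH hV s hS3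
  obtain ⟨B', hB', hBJ', hKB'⟩ := h'.exists_trH hV s hS3
  obtain ⟨hzV, hz2⟩ := inl_mem_commutator hzK
  obtain ⟨_, hz3⟩ := inl_mem_commutator hzK'
  have hW : ⁅VV V, ⁅Q', B⁆ ⊔ B⁆ ⊓ ⁅VV V, ⁅Q', B'⁆ ⊔ B'⁆ ≠ ⊥ := by
    intro h0
    have hmem : (SemidirectProduct.inl ⟨z, hzV⟩ : Amb V) ∈
        ⁅VV V, ⁅Q', B⁆ ⊔ B⁆ ⊓ ⁅VV V, ⁅Q', B'⁆ ⊔ B'⁆ :=
      ⟨Subgroup.commutator_mono le_rfl (hKB.le.trans le_sup_left) hz2,
        Subgroup.commutator_mono le_rfl (hKB'.le.trans le_sup_left) hz3⟩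
    rw [h0, Subgroup.mem_bot] at hmem
    have h1 : (⟨z, hzV⟩ : ↥V) = 1 :=
      SemidirectProduct.inl_injective (hmem.trans (map_one _).symm)
    exact hz1 (congrArg Subtype.val h1)
  obtain ⟨hE, hNN⟩ := trH_N_eq_of_W_inf hB hB' hW
  have htr : tr V K' = tr V K := by rw [hKB, hKB', hNN]
  obtain ⟨b, hb, hb1⟩ := Cfsg.Agent.Lib.Helper1.FF.exists_ne_one_of_card_prime hB.hcard
  obtain ⟨b', hb', hb1'⟩ := Cfsg.Agent.Lib.Helper1.FF.exists_ne_one_of_card_prime hB'.hcard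
  obtain ⟨a, haJ, hab⟩ := hBJ hb
  obtain ⟨a', haJ', hab'⟩ := hBJ' hb'
  have h1 : tau V a' ∈ ⁅Q', B⁆ ⊔ B := by
    rw [hE, hab']; exact (le_sup_right : B' ≤ _) hb'
  obtain ⟨n, hn, b₀, hb₀, hb₀1, hnb⟩ := trH_exists_mul hB h1
    (by rw [hab']; exact trH_pow_two hB' hb') (by rw [hab']; exact hb1')
  have hb₀a : b₀ = tau V a := by
    rw [hab]; exact (trH_eq_or hB hb hb1 hb₀).resolve_left hb₀1
  obtain ⟨k, hk, hkn⟩ : n ∈ tr V K := hKB ▸ hn
  have hc : (k * a)⁻¹ * a' ∈ Subgroup.centralizer (V : Set X) := by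
    apply mem_cent_of_tau_eq
    rw [map_mul, hkn, ← hb₀a, hnb]
  have ha'K : a' ∈ Subgroup.normalizer (K : Set X) := by
    have e : a' = k * a * ((k * a)⁻¹ * a') := by group
    rw [e]
    exact Subgroup.mul_mem _ (Subgroup.mul_mem _ (Subgroup.le_normalizer hk) (h.Jnorm haJ))
      (h.Cnorm hc)
  have ha'K' : a' ∈ Subgroup.normalizer (K' : Set X) := h'.Jnorm haJ'
  -- (5a)
  have h5a : ∀ x' ∈ K', ⁅x', a'⁆ ∈ K ⊔ pCore 2 X := by
    intro x' hx'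
    obtain ⟨k₁, hk₁, hk₁x⟩ : tau V x' ∈ tr V K := htr ▸ ⟨x', hx', rfl⟩
    have hc₁ := mem_cent_of_tau_eq hk₁x
    have e : ⁅x', a'⁆ = k₁ * ⁅k₁⁻¹ * x', a'⁆ * k₁⁻¹ * ⁅k₁, a'⁆ := by
      simp only [commutatorElement_def]; group
    rw [e]
    apply Subgroup.mul_mem
    · apply (le_sup_right : pCore 2 X ≤ K ⊔ pCore 2 X)
      exact (Cfsg.Agent.Lib.Helper7.pCore_normal 2 X).conj_mem _ (h'.CJ _ hc₁ a' haJ') k₁
    · apply (le_sup_left : K ≤ K ⊔ pCore 2 X)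
      rw [commutatorElement_def]
      have e2 : k₁ * a' * k₁⁻¹ * a'⁻¹ = k₁ * (a' * k₁⁻¹ * a'⁻¹) := by group
      rw [e2]
      exact K.mul_mem hk₁ ((Subgroup.mem_normalizer_iff.mp ha'K _).mp (K.inv_mem hk₁))
  -- (5b)
  obtain ⟨t, ht, ht1⟩ := Cfsg.Agent.Lib.Helper1.FF.exists_ne_one_of_card_prime h'.card3
  obtain ⟨x', hx', rfl⟩ := ht
  -- (5c)
  have hyK' : ⁅x', a'⁆ ∈ K' := by
    rw [commutatorElement_def]
    have e2 : x' * a' * x'⁻¹ * a'⁻¹ = x' * (a' * x'⁻¹ * a'⁻¹) := by group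
    rw [e2]
    exact K'.mul_mem hx' ((Subgroup.mem_normalizer_iff.mp ha'K' _).mp (K'.inv_mem hx'))
  have hx3 : tau V x' ^ 3 = 1 := by
    apply trH_pow_three hB'
    rw [← hKB']; exact ⟨x', hx', rfl⟩
  have htauy : tau V ⁅x', a'⁆ = tau V x' ^ 2 := by
    rw [map_commutatorElement, commutatorElement_def]
    have hinv : tau V a' * (tau V x')⁻¹ * (tau V a')⁻¹ = ((tau V x')⁻¹)⁻¹ := by
      rw [hab']
      apply trH_invert hB' hb' hb1'
      rw [← hKB']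
      exact Subgroup.inv_mem _ ⟨x', hx', rfl⟩
    calc tau V x' * tau V a' * (tau V x')⁻¹ * (tau V a')⁻¹
        = tau V x' * (tau V a' * (tau V x')⁻¹ * (tau V a')⁻¹) := by group
      _ = tau V x' ^ 2 := by rw [hinv, inv_inv, pow_two]
  have hy1 : tau V ⁅x', a'⁆ ≠ 1 := by
    rw [htauy]
    intro h0
    apply ht1
    calc tau V x' = tau V x' ^ 3 * (tau V x' ^ 2)⁻¹ := by group
      _ = 1 := by rw [hx3, h0]; group
  have hgen := Cfsg.Agent.Lib.Helper1.FF.eq_zpowers_of_card_prime h'.card3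
    (⟨_, hyK', rfl⟩ : tau V ⁅x', a'⁆ ∈ tr V K') hy1
  -- (5e)
  have hK'M : K' ≤ K ⊔ pCore 2 X := by
    intro x'' hx''
    have h2 : tau V x'' ∈ tr V K' := ⟨x'', hx'', rfl⟩
    rw [hgen] at h2
    obtain ⟨i, hi⟩ := Subgroup.mem_zpowers_iff.mp h2
    rw [← map_zpow] at hi
    have hc₂ := mem_cent_of_tau_eq hi
    have hmem : (⁅x', a'⁆ ^ i)⁻¹ * x'' ∈ pCore 2 X :=
      h'.KC ⟨K'.mul_mem (K'.inv_mem (K'.zpow_mem hyK' i)) hx'', hc₂⟩
    have e : x'' = ⁅x', a'⁆ ^ i * ((⁅x', a'⁆ ^ i)⁻¹ * x'') := by group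
    rw [e]
    exact Subgroup.mul_mem _ (Subgroup.zpow_mem _ (h5a x' hx') i)
      ((le_sup_right : pCore 2 X ≤ K ⊔ pCore 2 X) hmem)
  -- (6)
  refine h'.odd.trans ?_
  rw [Subgroup.closure_le]
  rintro x ⟨hx, hodd⟩
  exact mem_of_odd_of_mem_sup (Cfsg.Agent.Lib.Helper7.pCore_isPGroup 2 X) h.Qnorm (hK'M hx) hodd

end Cfsg.Agent.Lib.Helper9.KS
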