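import Mathlib
import Cfsg.Prelude
import Cfsg.Agent.Lib.Helper9.KSk

set_option autoImplicit false
set_option linter.unusedSectionVars false
set_option linter.unusedVariables false
set_option linter.style.longLine false
set_option linter.unusedSimpArgs false
open Cfsg

set_option maxHeartbeats 1600000
namespace Cfsg.Agent.Lib.Helper9.KS

open Cfsg.Agent.Lib.Helper3.JC
open scoped Pointwise commutatorElement

variable {G : Type*} [Group G]

theorem kdata_of_comp {T K : Subgroup G} (hT : IsPGroup 2 ↥T) (hK : IsJComponent T K) :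
    KData K (thompsonSubgroupOf 2 T) where
  comm := hK.2.1
  idx := hK.2.2.1
  wcard := hK.2.2.2.2.1
  wsq := hK.2.2.2.2.2
  jp := hT.to_le (Cfsg.Agent.Lib.Helper1.thompsonSubgroupOf_le_self 2 T)

/-- `W_K ≤ [Ω₁Z(O₂(L)), K]` for a `J(T)`-component `K` of `L`. -/
theorem wOf_le_comm [Finite G] (hL : Cfsg.IsCharacteristicTwoType G)
    (hN : ∀ N : Subgroup G, Cfsg.IsTwoLocal N → Group.IsSolvable ↥N)
    (hZ : ∀ S : Sylow 2 G, Subgroup.centralizer (Cfsg.omegaCenterOf (S : Subgroup G) : Set G) ≤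
      Subgroup.normalizer ((S : Subgroup G) : Set G))
    {T L K : Subgroup G} (hT : IsPGroup 2 ↥T) (hT1 : T ≠ ⊥) (hLT : L ∈ jOvergroups T)
    (hK : IsJComponent T K) (hKL : K ≤ L) :
    wOf K ≤ ⁅omegaCenterOf (pCoreOf 2 L), K⁆ := by
  have : Fact (Nat.Prime 2) := ⟨Nat.prime_two⟩
  have kd := kdata_of_comp hT hK
  have hQK := pCoreOf_le_normalizer_comp hL hN hZ hT hT1 hLT hK hKL
  have hPQ := pCoreOf_comp_le hL hN hZ hT hT1 hLT hK hKL
  have nzQK : Nz (pCoreOf 2 L) K := nz_of_le_normalizer hQK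
  have nzQW : Nz (pCoreOf 2 L) (wOf K) := by
    unfold wOf
    exact (nz_omegaCenterOf (nz_pCoreOf nzQK)).commutator nzQK
  have hWQ : wOf K ≤ pCoreOf 2 L := kd.W_le_Q.trans hPQ
  obtain ⟨y, hy, hy3, hyQ⟩ := kd.exists_y
  have hyL : y ∈ K ⊔ thompsonSubgroupOf 2 T := (le_sup_left : K ≤ _) hy
  have := kd.kleinW
  -- a nontrivial element of `W ∩ Z(Q)`
  haveI : Group.IsNilpotent ↥(pCoreOf 2 L) := (pCoreOf_isPGroup L).isNilpotent
  haveI : ((wOf K).subgroupOf (pCoreOf 2 L)).Normal :=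
    (Subgroup.normal_subgroupOf_iff_le_normalizer hWQ).2 nzQW.le_normalizer
  have hne : (wOf K).subgroupOf (pCoreOf 2 L) ≠ ⊥ := by
    intro hb
    rw [Subgroup.subgroupOf_eq_bot] at hb
    exact kd.W_ne_bot (disjoint_self.1 (hb.mono_right hWQ))
  have hne2 := Cfsg.Agent.Lib.Helper1.normal_inf_center_ne_bot _ hne
  obtain ⟨a, ha1⟩ := (Subgroup.ne_bot_iff_exists_ne_one).1 hne2
  have ha2 := a.2
  obtain ⟨w₀, hw₀W, hw₀1, hw₀c⟩ : ∃ w₀ ∈ wOf K, w₀ ≠ 1 ∧ ∀ q ∈ pCoreOf 2 L, q * w₀ = w₀ * q := by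
    refine ⟨((a : ↥(pCoreOf 2 L)) : G), Subgroup.mem_subgroupOf.1 ha2.1, ?_, ?_⟩
    · intro h1
      apply ha1
      apply Subtype.ext
      apply Subtype.ext
      exact h1
    · intro q hq
      have := Subgroup.mem_center_iff.1 ha2.2 ⟨q, hq⟩
      exact congrArg Subtype.val this
  -- `y w₀ y⁻¹` is central in `Q` too
  have hconj : ∀ w ∈ wOf K, (∀ q ∈ pCoreOf 2 L, q * w = w * q) →
      ∀ q ∈ pCoreOf 2 L, q * (y * w * y⁻¹) = (y * w * y⁻¹) * q := by
    intro w hw hwc q hq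
    -- `y⁻¹ q y ∈ Q`
    have hq' : y⁻¹ * q * y ∈ pCoreOf 2 L := (nz_self_pCoreOf L).inv_conj (hKL hy) hq
    have := hwc _ hq'
    calc q * (y * w * y⁻¹) = y * ((y⁻¹ * q * y) * w) * y⁻¹ := by group
      _ = y * (w * (y⁻¹ * q * y)) * y⁻¹ := by rw [this]
      _ = (y * w * y⁻¹) * q := by group
  have hb := hconj w₀ hw₀W hw₀c
  have hbW : y * w₀ * y⁻¹ ∈ wOf K := kd.nzLW y hyL w₀ hw₀W
  have hb1 : y * w₀ * y⁻¹ ≠ 1 := by
    intro h0
    apply hw₀1
    calc w₀ = y⁻¹ * (y * w₀ * y⁻¹) * y := by group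
      _ = 1 := by rw [h0]; group
  have hbw : w₀ ≠ y * w₀ * y⁻¹ := by
    intro h0
    exact hw₀1 (kd.fix_W hy hy3 hyQ hw₀W h0.symm)
  have hall := Cfsg.Agent.Lib.Helper3.NG.four_elts hw₀W hbW hw₀1 hb1 hbw
  have hcent : ∀ w ∈ wOf K, ∀ q ∈ pCoreOf 2 L, q * w = w * q := by
    intro w hw q hq
    rcases hall w hw with rfl | rfl | rfl | rfl
    · simp
    · exact hw₀c q hq
    · exact hb q hq
    · calc q * (w₀ * (y * w₀ * y⁻¹)) = (q * w₀) * (y * w₀ * y⁻¹) := by group
        _ = w₀ * (q * (y * w₀ * y⁻¹)) := by rw [hw₀c q hq]; group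
        _ = w₀ * (y * w₀ * y⁻¹) * q := by rw [hb q hq]; group
  have hWV : wOf K ≤ omegaCenterOf (pCoreOf 2 L) := by
    intro w hw
    exact mem_omegaCenterOf (hWQ hw) (fun q hq => hcent w hw q hq) (kd.wsq w hw)
  -- surjectivity of `w ↦ [w, y]`
  have hmem : ∀ w ∈ wOf K, ⁅w, y⁆ ∈ wOf K := by
    intro w hw
    rw [commutatorElement_def]
    have e : w * y * w⁻¹ * y⁻¹ = w * (y * w⁻¹ * y⁻¹) := by group
    rw [e]
    exact (wOf K).mul_mem hw (kd.nzLW y hyL _ ((wOf K).inv_mem hw))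
  let f : ↥(wOf K) → ↥(wOf K) := fun w => ⟨⁅(w : G), y⁆, hmem w w.2⟩
  have hinj : Function.Injective f := by
    intro w w' hww
    have h1 : ⁅(w : G), y⁆ = ⁅(w' : G), y⁆ := congrArg Subtype.val hww
    rw [commutatorElement_def, commutatorElement_def] at h1
    have h2 : (w : G) * y * (w : G)⁻¹ = (w' : G) * y * (w' : G)⁻¹ := mul_right_cancel h1
    have h3 : y * ((w' : G)⁻¹ * (w : G)) * y⁻¹ = (w' : G)⁻¹ * (w : G) := by
      calc y * ((w' : G)⁻¹ * (w : G)) * y⁻¹
          = (w' : G)⁻¹ * ((w' : G) * y * (w' : G)⁻¹) * (w : G) * y⁻¹ := by group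
        _ = (w' : G)⁻¹ * ((w : G) * y * (w : G)⁻¹) * (w : G) * y⁻¹ := by rw [h2]
        _ = (w' : G)⁻¹ * (w : G) := by group
    have h4 := kd.fix_W hy hy3 hyQ ((wOf K).mul_mem ((wOf K).inv_mem w'.2) w.2) h3
    apply Subtype.ext
    calc (w : G) = (w' : G) * ((w' : G)⁻¹ * (w : G)) := by group
      _ = (w' : G) := by rw [h4, mul_one]
  have hsurj : Function.Surjective f := Finite.injective_iff_surjective.mp hinj
  intro w hw
  obtain ⟨w', hw'⟩ := hsurj ⟨w, hw⟩
  have h5 : ⁅(w' : G), y⁆ = w := congrArg Subtype.val hw'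
  rw [← h5]
  exact Subgroup.commutator_mem_commutator (hWV w'.2) hy

theorem V_normal (L : Subgroup G) : ((omegaCenterOf (pCoreOf 2 L)).subgroupOf L).Normal := by
  have hVL : omegaCenterOf (pCoreOf 2 L) ≤ L :=
    ((omegaCenterOf_le _).trans inf_le_left).trans (pCoreOf_le L)
  exact (Subgroup.normal_subgroupOf_iff_le_normalizer hVL).mpr
    (nz_omegaCenterOf (nz_self_pCoreOf L)).le_normalizer

theorem V_le (L : Subgroup G) : omegaCenterOf (pCoreOf 2 L) ≤ L :=
  ((omegaCenterOf_le _).trans inf_le_left).trans (pCoreOf_le L)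

/-- normalizers pass to `subgroupOf` -/
theorem subgroupOf_le_normalizer {L A B : Subgroup G}
    (h : A ≤ Subgroup.normalizer (B : Set G)) :
    A.subgroupOf L ≤ Subgroup.normalizer ((B.subgroupOf L : Subgroup ↥L) : Set ↥L) := by
  intro a ha
  rw [Subgroup.mem_subgroupOf] at ha
  have haN := h ha
  rw [Subgroup.mem_normalizer_iff] at haN ⊢
  intro x
  rw [Subgroup.mem_subgroupOf, Subgroup.mem_subgroupOf]
  exact haN x

theorem pCore_le_subgroupOf {L R : Subgroup G} (h : pCoreOf 2 L ≤ R) :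
    pCore 2 ↥L ≤ R.subgroupOf L := by
  intro x hx
  rw [Subgroup.mem_subgroupOf]
  exact h ⟨x, hx, rfl⟩

theorem subgroupOf_le_pCore {L R : Subgroup G} (h : R ≤ pCoreOf 2 L) :
    R.subgroupOf L ≤ pCore 2 ↥L := by
  intro x hx
  rw [Subgroup.mem_subgroupOf] at hx
  obtain ⟨y, hy, hyx⟩ := h hx
  have : y = x := Subtype.ext hyx
  rwa [← this]

/-- The abstract component datum attached to a `J(T)`-component of `L ∈ 𝓛(T)`. -/
theorem compX_of_comp [Finite G] (hL : Cfsg.IsCharacteristicTwoType G)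
    (hN : ∀ N : Subgroup G, Cfsg.IsTwoLocal N → Group.IsSolvable ↥N)
    (hZ : ∀ S : Sylow 2 G, Subgroup.centralizer (Cfsg.omegaCenterOf (S : Subgroup G) : Set G) ≤
      Subgroup.normalizer ((S : Subgroup G) : Set G))
    {T L K : Subgroup G} (hT : IsPGroup 2 ↥T) (hT1 : T ≠ ⊥) (hLT : L ∈ jOvergroups T)
    (hK : IsJComponent T K) (hKL : K ≤ L)
    [hVn : ((omegaCenterOf (pCoreOf 2 L)).subgroupOf L).Normal] :
    CompX ((omegaCenterOf (pCoreOf 2 L)).subgroupOf L) (K.subgroupOf L)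
      ((thompsonSubgroupOf 2 T).subgroupOf L) := by
  have h2 : Fact (Nat.Prime 2) := ⟨Nat.prime_two⟩
  have kd := kdata_of_comp hT hK
  have hJT : thompsonSubgroupOf 2 T ≤ T := Cfsg.Agent.Lib.Helper1.thompsonSubgroupOf_le_self 2 T
  have hTL : T ≤ L := hLT.1.1
  have hJL : thompsonSubgroupOf 2 T ≤ L := hJT.trans hTL
  have hVL := V_le L
  have hQK := pCoreOf_le_normalizer_comp hL hN hZ hT hT1 hLT hK hKL
  have hPQ := pCoreOf_comp_le hL hN hZ hT hT1 hLT hK hKL
  have hCK := cent_le_normalizer_comp hL hN hZ hT hT1 hLT hK hKL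
  have hQC : pCoreOf 2 L ≤ Subgroup.centralizer (omegaCenterOf (pCoreOf 2 L) : Set G) := by
    intro q hq
    rw [Subgroup.mem_centralizer_iff]
    intro v hv
    have hvC : v ∈ Subgroup.centralizer ((pCoreOf 2 L : Subgroup G) : Set G) :=
      ((omegaCenterOf_le _) hv).2
    exact (Subgroup.mem_centralizer_iff.mp hvC q hq).symm
  -- commutator condition
  have hcomm : K.subgroupOf L ≤ ⁅K.subgroupOf L, (thompsonSubgroupOf 2 T).subgroupOf L⁆ := by
    have h1 : (⁅K.subgroupOf L, (thompsonSubgroupOf 2 T).subgroupOf L⁆).map L.subtype =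
        (K.subgroupOf L).map L.subtype := by
      rw [Subgroup.map_commutator, Subgroup.map_subgroupOf_eq_of_le hKL,
        Subgroup.map_subgroupOf_eq_of_le hJL]
      exact hK.2.1
    exact (Subgroup.map_injective L.subtype_injective h1).ge
  -- centralizer in `↥L`
  have hCN : Subgroup.centralizer
      (((omegaCenterOf (pCoreOf 2 L)).subgroupOf L : Subgroup ↥L) : Set ↥L) ≤
      Subgroup.normalizer ((K.subgroupOf L : Subgroup ↥L) : Set ↥L) := by
    intro c hc
    rw [coe_mem_centralizer hVL] at hc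
    have hcN := hCK ⟨c.2, hc⟩
    rw [Subgroup.mem_normalizer_iff] at hcN ⊢
    intro x
    rw [Subgroup.mem_subgroupOf, Subgroup.mem_subgroupOf]
    exact hcN x
  -- index computations
  have hPK : pCoreOf 2 K ≤ K := pCoreOf_le K
  have hPC : (pCoreOf 2 K).subgroupOf L ≤ Subgroup.centralizer
      (((omegaCenterOf (pCoreOf 2 L)).subgroupOf L : Subgroup ↥L) : Set ↥L) ⊓ K.subgroupOf L := by
    intro x hx
    rw [Subgroup.mem_subgroupOf] at hx
    exact ⟨(coe_mem_centralizer hVL).2 (hQC (hPQ hx)), Subgroup.mem_subgroupOf.2 (hPK hx)⟩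
  have hidx : ((pCoreOf 2 K).subgroupOf L).relIndex (K.subgroupOf L) = 3 := by
    rw [Subgroup.relIndex_subgroupOf hKL]; exact hK.2.2.1
  have hmul := Subgroup.relIndex_mul_relIndex _ _ _ hPC
    (inf_le_right : _ ⊓ K.subgroupOf L ≤ K.subgroupOf L)
  rw [hidx, Subgroup.inf_relIndex_right] at hmul
  -- `K ≰ C`
  have hKnC : (Subgroup.centralizer
      (((omegaCenterOf (pCoreOf 2 L)).subgroupOf L : Subgroup ↥L) : Set ↥L)).relIndex
      (K.subgroupOf L) ≠ 1 := by
    intro h1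
    rw [Subgroup.relIndex_eq_one] at h1
    -- then `K ≤ Q`
    have hKC : K ≤ Subgroup.centralizer (omegaCenterOf (pCoreOf 2 L) : Set G) := by
      intro k hk
      exact (coe_mem_centralizer hVL).1 (h1 (Subgroup.mem_subgroupOf.2 (show ((⟨k, hKL hk⟩ : ↥L) : G) ∈ K from hk)))
    have hKQ : K ≤ pCoreOf 2 L := by
      rw [← hK.2.1, Subgroup.commutator_le]
      intro k hk j hj
      exact comm_cent_mem hZ hLT (hKL hk) (hKC hk) (hJT hj)
    have hK2 : IsPGroup 2 ↥K := (pCoreOf_isPGroup L).to_le hKQ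
    have hKP : K ≤ pCoreOf 2 K :=
      Cfsg.Agent.Lib.Helper7.le_pCoreIn (p := 2) le_rfl hK2 Subgroup.le_normalizer
    have := hK.2.2.1
    rw [Subgroup.relIndex_eq_one.mpr hKP] at this
    omega
  have hidx3 : (Subgroup.centralizer
      (((omegaCenterOf (pCoreOf 2 L)).subgroupOf L : Subgroup ↥L) : Set ↥L)).relIndex
      (K.subgroupOf L) = 3 := by
    have hdvd : (Subgroup.centralizer
      (((omegaCenterOf (pCoreOf 2 L)).subgroupOf L : Subgroup ↥L) : Set ↥L)).relIndex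
      (K.subgroupOf L) ∣ 3 := Dvd.intro_left _ hmul
    rcases (Nat.dvd_prime Nat.prime_three).mp hdvd with h1 | h1
    · exact absurd h1 hKnC
    · exact h1
  refine ⟨hcomm, ?_, ?_, ?_, ?_, hCN, ?_, ?_, ?_⟩
  · -- Jnorm
    apply subgroupOf_le_normalizer
    exact kd.nzJK.le_normalizer
  · -- Jgen
    refine ⟨{A' | ∃ A ∈ Cfsg.Agent.Lib.Helper1.maxElAbIn 2 T, A' = A.subgroupOf L}, ?_, ?_⟩
    · rintro _ ⟨A, hA, rfl⟩
      apply Cfsg.Agent.Lib.Helper1.subgroupOf_mem_of_mem_maxElAbIn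
      refine ⟨hA.1.trans hTL, hA.2.1, ?_⟩
      intro B hBL hB
      obtain ⟨l, hl, hconj⟩ := exists_conj_le hLT.1 hBL (elab_isPGroup hB)
      have h1 : B.map (MulAut.conj l).toMonoidHom ≤ T := by
        rintro _ ⟨b, hb, rfl⟩
        exact hconj b hb
      have h2' := hA.2.2 _ h1 (Cfsg.Agent.Lib.Helper1.isElementaryAbelian_map hB _)
      rwa [Subgroup.card_map_of_injective (MulAut.conj l).injective] at h2'
    · apply Subgroup.map_injective L.subtype_injective
      rw [Subgroup.map_subgroupOf_eq_of_le hJL, sSup_eq_iSup, Subgroup.map_iSup,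
        Cfsg.Agent.Lib.Helper1.thompsonSubgroupOf_eq_sSup]
      apply le_antisymm
      · apply sSup_le
        intro A hA
        have : A = (A.subgroupOf L).map L.subtype :=
          (Subgroup.map_subgroupOf_eq_of_le (hA.1.trans hTL)).symm
        rw [this]
        refine le_iSup_of_le (A.subgroupOf L) ?_
        rw [Subgroup.map_iSup]
        exact le_iSup_of_le ⟨A, hA, rfl⟩ le_rfl
      · apply iSup_le
        intro A'
        rw [Subgroup.map_iSup]
        apply iSup_le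
        rintro ⟨A, hA, rfl⟩
        rw [Subgroup.map_subgroupOf_eq_of_le (hA.1.trans hTL)]
        exact le_sSup hA
  · -- card3
    rw [← Subgroup.relIndex_ker, Cfsg.Agent.Lib.Helper1.TF.ker_tau]
    exact hidx3
  · -- Qnorm
    exact (pCore_le_subgroupOf (le_refl (pCoreOf 2 L))).trans (subgroupOf_le_normalizer hQK)
  · -- CJ
    intro c hc j hj
    rw [coe_mem_centralizer hVL] at hc
    rw [Subgroup.mem_subgroupOf] at hj
    have := comm_cent_mem hZ hLT c.2 hc (hJT hj)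
    exact subgroupOf_le_pCore (le_refl (pCoreOf 2 L)) (Subgroup.mem_subgroupOf.2 this)
  · -- KC
    have h1 : ((pCoreOf 2 K).subgroupOf L).relIndex (Subgroup.centralizer
      (((omegaCenterOf (pCoreOf 2 L)).subgroupOf L : Subgroup ↥L) : Set ↥L) ⊓ K.subgroupOf L)
        = 1 := by
      rw [hidx3] at hmul
      have : ((pCoreOf 2 K).subgroupOf L).relIndex (Subgroup.centralizer
        (((omegaCenterOf (pCoreOf 2 L)).subgroupOf L : Subgroup ↥L) : Set ↥L) ⊓
          K.subgroupOf L) * 3 = 1 * 3 := by rw [hmul]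
      exact Nat.eq_of_mul_eq_mul_right (by norm_num) this
    rw [Subgroup.relIndex_eq_one] at h1
    rw [inf_comm]
    exact h1.trans (subgroupOf_le_pCore hPQ)
  · -- odd
    have h1 : (K.subgroupOf L).map L.subtype ≤
        (Subgroup.closure {x : ↥L | x ∈ K.subgroupOf L ∧ Odd (orderOf x)}).map L.subtype := by
      rw [Subgroup.map_subgroupOf_eq_of_le hKL, MonoidHom.map_closure]
      conv_lhs => rw [← hK.1]
      apply Subgroup.closure_mono
      rintro g ⟨hg, hodd⟩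
      refine ⟨⟨g, hKL hg⟩, ⟨Subgroup.mem_subgroupOf.2 hg, ?_⟩, rfl⟩
      rw [← Subgroup.orderOf_coe]
      exact hodd
    exact (Subgroup.map_le_map_iff_of_injective L.subtype_injective).mp h1

end Cfsg.Agent.Lib.Helper9.KS
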