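import Mathlib
import Cfsg.Prelude
import Cfsg.Agent.Lib.Helper9.KSl

set_option autoImplicit false
set_option linter.unusedSectionVars false
set_option linter.unusedVariables false
set_option linter.style.longLine false
set_option linter.unusedSimpArgs false
open Cfsg

set_option maxHeartbeats 1600000
namespace Cfsg.Agent.Lib.Helper9.KS

open Cfsg.Agent.Lib.Helper3.JC
open scoped Pointwise commutatorElement
open Cfsg.Agent.Lib.Helper1.FF Cfsg.Agent.Lib.Helper1.TF

variable {G : Type*} [Group G]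

/-- The faithful failure-of-factorization setup attached to `L ∈ 𝓛(T)`. -/
theorem exists_setup [Finite G] (hL : Cfsg.IsCharacteristicTwoType G)
    (hN : ∀ N : Subgroup G, Cfsg.IsTwoLocal N → Group.IsSolvable ↥N)
    (hZ : ∀ S : Sylow 2 G, Subgroup.centralizer (Cfsg.omegaCenterOf (S : Subgroup G) : Set G) ≤
      Subgroup.normalizer ((S : Subgroup G) : Set G))
    {T L : Subgroup G} (hT : IsPGroup 2 ↥T) (hT1 : T ≠ ⊥) (hLT : L ∈ jOvergroups T)
    [hVn : ((omegaCenterOf (pCoreOf 2 L)).subgroupOf L).Normal] :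
    IsElementaryAbelian 2 ((omegaCenterOf (pCoreOf 2 L)).subgroupOf L) ∧
    ∃ Q' : Subgroup (Amb ((omegaCenterOf (pCoreOf 2 L)).subgroupOf L)),
      Setup 2 (VV ((omegaCenterOf (pCoreOf 2 L)).subgroupOf L))
        (tr ((omegaCenterOf (pCoreOf 2 L)).subgroupOf L) (thompsonSubgroup 2 ↥L)) Q' ∧
      tr ((omegaCenterOf (pCoreOf 2 L)).subgroupOf L) (thompsonSubgroup 2 ↥L) =
        ⨆ A : {A : Subgroup (Amb ((omegaCenterOf (pCoreOf 2 L)).subgroupOf L)) //
          A ≤ tr ((omegaCenterOf (pCoreOf 2 L)).subgroupOf L) (thompsonSubgroup 2 ↥L) ∧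
          IsBestOffenderOn 2 (VV ((omegaCenterOf (pCoreOf 2 L)).subgroupOf L)) A},
          (A : Subgroup (Amb ((omegaCenterOf (pCoreOf 2 L)).subgroupOf L))) := by
  have h2 : Fact (Nat.Prime 2) := ⟨Nat.prime_two⟩
  have hTL : T ≤ L := hLT.1.1
  have hVL := V_le L
  have hVea : IsElementaryAbelian 2 ((omegaCenterOf (pCoreOf 2 L)).subgroupOf L) :=
    Cfsg.Agent.Lib.Helper1.isElementaryAbelian_comap_of_injective
      (isElementaryAbelian_of_sq (omegaCenterOf_sq _)) _ L.subtype_injective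
  have hQ1 : pCoreOf 2 L ≠ ⊥ := by
    intro h
    have h1 := hLT.2.2
    rw [h] at h1
    have h3 : T ≤ (⊥ : Subgroup G) := by
      refine le_trans ?_ h1
      intro t _
      rw [Subgroup.mem_centralizer_iff]
      intro y hy
      have : y = 1 := by simpa using hy
      subst this
      simp
    exact hT1 (le_bot_iff.mp h3)
  have hsolv : Group.IsSolvable ↥L := by
    have hloc : IsTwoLocal (Subgroup.normalizer ((pCoreOf 2 L : Subgroup G) : Set G)) :=
      ⟨pCoreOf 2 L, pCoreOf_isPGroup L, hQ1, rfl⟩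
    haveI := hN _ hloc
    exact Group.isSolvable_of_isSolvable_injective
      (Subgroup.inclusion_injective (nz_self_pCoreOf L).le_normalizer)
  have hsep : IsPSolvable 2 ↥L := Cfsg.Agent.Lib.Helper3.isPSolvable_of_isSolvable 2 hsolv
  have hOp := hOp_of_setup
    (Subgroup.centralizer (((omegaCenterOf (pCoreOf 2 L)).subgroupOf L : Subgroup ↥L) : Set ↥L))
    (T.subgroupOf L) hT.comap_subtype
    (by
      show ¬ 2 ∣ T.relIndex L
      exact Nat.two_dvd_ne_zero.2 (Nat.odd_iff.1 hLT.1.2.2))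
    (by
      intro c hc
      rw [coe_mem_centralizer hVL] at hc
      have hcN := cent_le_normalizer hZ hLT ⟨c.2, hc⟩
      rw [Subgroup.mem_normalizer_iff] at hcN ⊢
      intro x
      rw [Subgroup.mem_subgroupOf, Subgroup.mem_subgroupOf]
      exact hcN x)
    (by
      intro x hx
      rw [coe_mem_centralizer hVL, Subgroup.mem_centralizer_iff]
      intro v hv
      have hxQ : (x : G) ∈ pCoreOf 2 L := ⟨x, hx, rfl⟩
      have hvC : v ∈ Subgroup.centralizer ((pCoreOf 2 L : Subgroup G) : Set G) :=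
        ((omegaCenterOf_le _) hv).2
      rw [Subgroup.mem_centralizer_iff] at hvC
      exact (hvC _ hxQ).symm)
  refine ⟨hVea, ?_⟩
  have hJchar := Cfsg.Agent.Lib.Helper1.thompsonSubgroup_characteristic 2 ↥L
  haveI hJn : (thompsonSubgroup 2 ↥L).Normal := inferInstance
  have s := setup_tr ((omegaCenterOf (pCoreOf 2 L)).subgroupOf L) hVea hsep
    (thompsonSubgroup 2 ↥L) hOp
  have hS3 := tr_generated ((omegaCenterOf (pCoreOf 2 L)).subgroupOf L)
    (maxElementaryAbelianSubgroups 2 ↥L)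
    (fun A hA => Cfsg.Agent.Lib.Helper1.isBestOffenderOn_of_mem_max _ hVea A hA)
  exact ⟨_, s, hS3⟩

theorem commutator_subgroupOf {L A B : Subgroup G} (hA : A ≤ L) (hB : B ≤ L) :
    ⁅A.subgroupOf L, B.subgroupOf L⁆ = (⁅A, B⁆).subgroupOf L := by
  have hAB : ⁅A, B⁆ ≤ L := (Subgroup.commutator_mono hA hB).trans
    (Subgroup.commutator_le_self L)
  apply Subgroup.map_injective L.subtype_injective
  rw [Subgroup.map_commutator, Subgroup.map_subgroupOf_eq_of_le hA,
    Subgroup.map_subgroupOf_eq_of_le hB, Subgroup.map_subgroupOf_eq_of_le hAB]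

/-- **Uniqueness**: two `J`-components of `L` (possibly for different Sylow `2`-subgroups of
`L`) whose four-groups meet nontrivially are equal. -/
theorem comp_eq_of_W_inf [Finite G] (hL : Cfsg.IsCharacteristicTwoType G)
    (hN : ∀ N : Subgroup G, Cfsg.IsTwoLocal N → Group.IsSolvable ↥N)
    (hZ : ∀ S : Sylow 2 G, Subgroup.centralizer (Cfsg.omegaCenterOf (S : Subgroup G) : Set G) ≤
      Subgroup.normalizer ((S : Subgroup G) : Set G))
    {T T' L K K' : Subgroup G} (hT : IsPGroup 2 ↥T) (hT1 : T ≠ ⊥) (hLT : L ∈ jOvergroups T)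
    (hT' : IsPGroup 2 ↥T') (hT1' : T' ≠ ⊥) (hLT' : L ∈ jOvergroups T')
    (hK : IsJComponent T K) (hKL : K ≤ L) (hK' : IsJComponent T' K') (hKL' : K' ≤ L)
    (hW : wOf K ⊓ wOf K' ≠ ⊥) : K = K' := by
  haveI hVn := V_normal L
  have hVL := V_le L
  obtain ⟨hVea, Q', s, hS3⟩ := exists_setup hL hN hZ hT hT1 hLT
  have c := compX_of_comp hL hN hZ hT hT1 hLT hK hKL
  have c' := compX_of_comp hL hN hZ hT' hT1' hLT' hK' hKL'
  obtain ⟨z, hz1⟩ := (Subgroup.ne_bot_iff_exists_ne_one).1 hW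
  have hzK := wOf_le_comm hL hN hZ hT hT1 hLT hK hKL z.2.1
  have hzK' := wOf_le_comm hL hN hZ hT' hT1' hLT' hK' hKL' z.2.2
  have hzL : (z : G) ∈ L := hKL ((kdata_of_comp hT hK).W_le_K z.2.1)
  have hz1' : (⟨(z : G), hzL⟩ : ↥L) ≠ 1 := by
    intro h0
    apply hz1
    apply Subtype.ext
    have := congrArg (fun t : ↥L => (t : G)) h0
    simpa using this
  have hzX : (⟨(z : G), hzL⟩ : ↥L) ∈
      ⁅(omegaCenterOf (pCoreOf 2 L)).subgroupOf L, K.subgroupOf L⁆ := by
    rw [commutator_subgroupOf hVL hKL, Subgroup.mem_subgroupOf]; exact hzK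
  have hzX' : (⟨(z : G), hzL⟩ : ↥L) ∈
      ⁅(omegaCenterOf (pCoreOf 2 L)).subgroupOf L, K'.subgroupOf L⁆ := by
    rw [commutator_subgroupOf hVL hKL', Subgroup.mem_subgroupOf]; exact hzK'
  have h1 := compX_le c c' hVea s hS3 hz1' hzX hzX'
  have h2 := compX_le c' c hVea s hS3 hz1' hzX' hzX
  apply le_antisymm
  · intro k hk
    have := h2 (Subgroup.mem_subgroupOf.2 (show ((⟨k, hKL hk⟩ : ↥L) : G) ∈ K from hk))
    exact Subgroup.mem_subgroupOf.1 this
  · intro k hk
    have := h1 (Subgroup.mem_subgroupOf.2 (show ((⟨k, hKL' hk⟩ : ↥L) : G) ∈ K' from hk))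
    exact Subgroup.mem_subgroupOf.1 this

end Cfsg.Agent.Lib.Helper9.KS
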