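import Mathlib
import Cfsg.Prelude
import Cfsg.Agent.Lib.Helper9.KSm

set_option autoImplicit false
set_option linter.unusedSectionVars false
set_option linter.unusedVariables false
set_option linter.style.longLine false
set_option linter.unusedSimpArgs false
open Cfsg

set_option maxHeartbeats 1600000
namespace Cfsg.Agent.Lib.Helper9.KS

open Cfsg.Agent.Lib.Helper3.JC
open scoped Pointwise commutatorElement

variable {G : Type*} [Group G]

/-- K–S 12.1.5: if `Z(T)` meets `W_K` then `T` normalizes `K`. -/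
theorem sylow_le_normalizer_comp [Finite G] (hL : Cfsg.IsCharacteristicTwoType G)
    (hN : ∀ N : Subgroup G, Cfsg.IsTwoLocal N → Group.IsSolvable ↥N)
    (hZ : ∀ S : Sylow 2 G, Subgroup.centralizer (Cfsg.omegaCenterOf (S : Subgroup G) : Set G) ≤
      Subgroup.normalizer ((S : Subgroup G) : Set G))
    {T L K : Subgroup G} (hT : IsPGroup 2 ↥T) (hT1 : T ≠ ⊥) (hLT : L ∈ jOvergroups T)
    (hK : IsJComponent T K) (hKL : K ≤ L)
    (hZW : T ⊓ Subgroup.centralizer (T : Set G) ⊓ wOf K ≠ ⊥) :
    T ≤ Subgroup.normalizer (K : Set G) := by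
  intro t ht
  have htL : t ∈ L := hLT.1.1 ht
  have hTt : T.map (MulAut.conj t).toMonoidHom = T :=
    map_conj_eq_of_mem_normalizer (Subgroup.le_normalizer ht)
  have hLt : L.map (MulAut.conj t).toMonoidHom = L :=
    map_conj_eq_of_mem_normalizer (Subgroup.le_normalizer htL)
  have hK' : IsJComponent T (K.map (MulAut.conj t).toMonoidHom) := by
    have := isJComponent_map (MulAut.conj t) hK
    rwa [hTt] at this
  have hKL' : K.map (MulAut.conj t).toMonoidHom ≤ L := by
    rw [← hLt]; exact Subgroup.map_mono hKL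
  have hW : wOf K ⊓ wOf (K.map (MulAut.conj t).toMonoidHom) ≠ ⊥ := by
    obtain ⟨z, hz1⟩ := (Subgroup.ne_bot_iff_exists_ne_one).1 hZW
    intro h0
    apply hz1
    have hzW : (z : G) ∈ wOf K := z.2.2
    have hzc : (z : G) ∈ Subgroup.centralizer (T : Set G) := z.2.1.2
    have hmem : (z : G) ∈ wOf K ⊓ wOf (K.map (MulAut.conj t).toMonoidHom) := by
      refine ⟨hzW, ?_⟩
      rw [wOf_map]
      apply mem_map_conj.2
      have e : t⁻¹ * (z : G) * t = z := by
        have := Subgroup.mem_centralizer_iff.mp hzc t ht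
        calc t⁻¹ * (z : G) * t = t⁻¹ * ((z : G) * t) := by group
          _ = t⁻¹ * (t * (z : G)) := by rw [this]
          _ = z := by group
      rw [e]; exact hzW
    rw [h0, Subgroup.mem_bot] at hmem
    exact Subtype.ext hmem
  have := comp_eq_of_W_inf hL hN hZ hT hT1 hLT hT hT1 hLT hK hKL hK' hKL' hW
  exact mem_normalizer_of_map_conj_eq this.symm

end Cfsg.Agent.Lib.Helper9.KS
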