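import Mathlib
import Cfsg.Prelude
import Cfsg.Agent.Lib.Helper9.KSn

set_option autoImplicit false
set_option linter.unusedSectionVars false
set_option linter.unusedVariables false
set_option linter.style.longLine false
set_option linter.unusedSimpArgs false
open Cfsg

set_option maxHeartbeats 1600000
namespace Cfsg.Agent.Lib.Helper9.KS

open Cfsg.Agent.Lib.Helper3.JC Cfsg.Agent.Lib.Helper1
open scoped Pointwise commutatorElement

variable {G : Type*} [Group G]

/-- Equal Thompson subgroups force equal maximal elementary abelian orders. -/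
theorem card_maxElAb_eq_of_J_eq {P R A A' : Subgroup G}
    (hJ : thompsonSubgroupOf 2 P = thompsonSubgroupOf 2 R)
    (hA : A ∈ maxElAbIn 2 P) (hA' : A' ∈ maxElAbIn 2 R) : Nat.card A = Nat.card A' := by
  apply le_antisymm
  · have h1 : A ≤ R := (le_thompsonSubgroupOf_of_mem hA).trans
      (hJ.le.trans (thompsonSubgroupOf_le_self 2 R))
    exact hA'.2.2 A h1 hA.2.1
  · have h1 : A' ≤ P := (le_thompsonSubgroupOf_of_mem hA').trans
      (hJ.ge.trans (thompsonSubgroupOf_le_self 2 P))
    exact hA.2.2 A' h1 hA'.2.1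

/-- `J(P) ≤ R`, equal maximal elementary abelian orders: `J(P) ≤ J(R)`. -/
theorem thompsonOf_le_of_le {P R A A' : Subgroup G} (hJR : thompsonSubgroupOf 2 P ≤ R)
    (hA : A ∈ maxElAbIn 2 P) (hA' : A' ∈ maxElAbIn 2 R) (hc : Nat.card A = Nat.card A') :
    thompsonSubgroupOf 2 P ≤ thompsonSubgroupOf 2 R := by
  nth_rewrite 1 [thompsonSubgroupOf_eq_sSup]
  apply sSup_le
  intro B hB
  apply le_thompsonSubgroupOf_of_mem
  refine ⟨(le_thompsonSubgroupOf_of_mem hB).trans hJR, hB.2.1, ?_⟩
  intro C hCR hC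
  have h1 := hA'.2.2 C hCR hC
  have h2 : Nat.card A ≤ Nat.card B := hB.2.2 A hA.1 hA.2.1
  omega

theorem maxElAbIn_map (φ : G ≃* G) {P A : Subgroup G} (hA : A ∈ maxElAbIn 2 P) :
    A.map φ.toMonoidHom ∈ maxElAbIn 2 (P.map φ.toMonoidHom) := by
  refine ⟨Subgroup.map_mono hA.1, isElementaryAbelian_map hA.2.1 _, ?_⟩
  intro B hB hBe
  have h1 : B.map φ.symm.toMonoidHom ≤ P := by
    have := Subgroup.map_mono (f := φ.symm.toMonoidHom) hB
    rwa [KS.map_symm_map'] at this
  have h2 := hA.2.2 _ h1 (isElementaryAbelian_map hBe _)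
  rw [Subgroup.card_map_of_injective φ.symm.injective] at h2
  rwa [Subgroup.card_map_of_injective φ.injective]

theorem map_conj_mul (A : Subgroup G) (g h : G) :
    (A.map (MulAut.conj h).toMonoidHom).map (MulAut.conj g).toMonoidHom =
      A.map (MulAut.conj (g * h)).toMonoidHom := by
  rw [Subgroup.map_map]
  congr 1
  ext x
  simp [MulAut.conj_apply, mul_assoc]

theorem map_conj_inv_map_conj (A : Subgroup G) (g : G) :
    (A.map (MulAut.conj g).toMonoidHom).map (MulAut.conj g⁻¹).toMonoidHom = A := by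
  rw [map_conj_mul, inv_mul_cancel]
  ext x
  simp

theorem wOf_normalizer_le {K : Subgroup G} :
    Subgroup.normalizer (K : Set G) ≤ Subgroup.normalizer (wOf K : Set G) := by
  intro n hn
  apply mem_normalizer_of_map_conj_eq
  rw [← wOf_map, map_conj_eq_of_mem_normalizer hn]

end Cfsg.Agent.Lib.Helper9.KS
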