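import Mathlib
import Cfsg.Prelude
import Cfsg.Agent.Lib.Helper9.KSo

set_option autoImplicit false
set_option linter.unusedSectionVars false
set_option linter.unusedVariables false
set_option linter.style.longLine false
set_option linter.unusedSimpArgs false
open Cfsg

set_option maxHeartbeats 1600000
namespace Cfsg.Agent.Lib.Helper9.KS

open Cfsg.Agent.Lib.Helper3.JC Cfsg.Agent.Lib.Helper1
open scoped Pointwise commutatorElement

variable {G : Type*} [Group G]

/-- A `J(T)`-component is not a `2`-group. -/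
theorem comp_not_le_pGroup {T K R : Subgroup G} (hK : IsJComponent T K) (hR : IsPGroup 2 ↥R)
    (hKR : K ≤ R) : False := by
  have hK2 : IsPGroup 2 ↥K := hR.to_le hKR
  have hKP : K ≤ pCoreOf 2 K :=
    Cfsg.Agent.Lib.Helper7.le_pCoreIn (p := 2) le_rfl hK2 Subgroup.le_normalizer
  have := hK.2.2.1
  rw [Subgroup.relIndex_eq_one.mpr hKP] at this
  omega

/-- the characteristic-`2` condition for a `2`-local in the `C_G(O₂) ≤ O₂` form -/
theorem cent_pCoreOf_le (hL : Cfsg.IsCharacteristicTwoType G) {W : Subgroup G}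
    (hW : IsPGroup 2 ↥W) (hW1 : W ≠ ⊥) :
    Subgroup.centralizer (pCoreOf 2 (Subgroup.normalizer (W : Set G)) : Set G) ≤
      pCoreOf 2 (Subgroup.normalizer (W : Set G)) := by
  have h1 := hL.2 W hW hW1
  unfold IsOfCharacteristicTwo at h1
  have hWP : W ≤ pCoreOf 2 (Subgroup.normalizer (W : Set G)) :=
    Cfsg.Agent.Lib.Helper7.le_pCoreIn (p := 2) Subgroup.le_normalizer hW le_rfl
  intro x hx
  have hxN : x ∈ Subgroup.normalizer (W : Set G) := by
    apply Subgroup.centralizer_le_normalizer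
    exact Subgroup.centralizer_le (by exact_mod_cast hWP) hx
  have h2 : (⟨x, hxN⟩ : ↥(Subgroup.normalizer (W : Set G))) ∈
      Subgroup.centralizer (pCore 2 ↥(Subgroup.normalizer (W : Set G)) : Set _) := by
    rw [Subgroup.mem_centralizer_iff]
    intro y hy
    apply Subtype.ext
    have hy' : (y : G) ∈ pCoreOf 2 (Subgroup.normalizer (W : Set G)) := ⟨y, hy, rfl⟩
    exact Subgroup.mem_centralizer_iff.mp hx _ hy'
  exact ⟨⟨x, hxN⟩, h1 h2, rfl⟩

/-- For `K ∈ 𝒦₀(T)`: the `2`-local `N_G(W_K)` lies in `𝓛(T₀)` for a Sylow `2`-subgroup `T₀` with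
`J(T₀) = J(T)`. -/
theorem exists_sylow_of_zero [Finite G] (hL : Cfsg.IsCharacteristicTwoType G)
    {T K : Subgroup G} (hT : IsPGroup 2 ↥T) (hK : K ∈ jComponentsZero T) :
    ∃ T₀ : Subgroup G, thompsonSubgroupOf 2 T₀ = thompsonSubgroupOf 2 T ∧ T₀ ≠ ⊥ ∧
      IsPGroup 2 ↥T₀ ∧ Subgroup.normalizer (wOf K : Set G) ∈ jOvergroups T₀ ∧
      K ≤ Subgroup.normalizer (wOf K : Set G) := by
  have kd := kdata_of_comp hT hK.1
  have hJN : thompsonSubgroupOf 2 T ≤ Subgroup.normalizer (wOf K : Set G) :=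
    le_sup_right.trans kd.nzLW.le_normalizer
  have hKN : K ≤ Subgroup.normalizer (wOf K : Set G) :=
    le_sup_left.trans kd.nzLW.le_normalizer
  obtain ⟨T₀, hT₀, hJT₀⟩ := exists_isSylowTwoIn hJN kd.jp
  have hJeq := hK.2 T₀ hJT₀ hT₀
  have hW2 : IsPGroup 2 ↥(wOf K) := (pCoreOf_isPGroup K).to_le kd.W_le_Q
  refine ⟨T₀, hJeq, ?_, hT₀.2.1, ⟨hT₀, ?_, cent_pCoreOf_le hL hW2 kd.W_ne_bot⟩, hKN⟩
  · rintro rfl
    have h1 : thompsonSubgroupOf 2 T = ⊥ := le_bot_iff.mp hJT₀
    have h2 := hK.1.2.1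
    rw [h1, Subgroup.commutator_bot_right] at h2
    exact comp_not_le_pGroup hK.1 (IsPGroup.of_bot) h2.ge
  · rw [hJeq]
    intro hle
    have h1 : K ≤ pCoreOf 2 (Subgroup.normalizer (wOf K : Set G)) := by
      refine hK.1.2.1.ge.trans ?_
      rw [Subgroup.commutator_le]
      intro k hk j hj
      rw [commutatorElement_def]
      have e : k * j * k⁻¹ * j⁻¹ = (k * j * k⁻¹) * j⁻¹ := by group
      rw [e]
      exact Subgroup.mul_mem _ ((nz_self_pCoreOf _) k (hKN hk) j (hle hj))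
        (Subgroup.inv_mem _ (hle hj))
    exact comp_not_le_pGroup hK.1 (pCoreOf_isPGroup _) h1

/-- K–S 12.1.6 (a): `N_G(W_K) ≤ N_G(K)` for `K ∈ 𝒦₀(T)`. -/
theorem normalizer_wOf_le [Finite G] (hL : Cfsg.IsCharacteristicTwoType G)
    (hN : ∀ N : Subgroup G, Cfsg.IsTwoLocal N → Group.IsSolvable ↥N)
    (hZ : ∀ S : Sylow 2 G, Subgroup.centralizer (Cfsg.omegaCenterOf (S : Subgroup G) : Set G) ≤
      Subgroup.normalizer ((S : Subgroup G) : Set G))
    {T K : Subgroup G} (hT : IsPGroup 2 ↥T) (hK : K ∈ jComponentsZero T) :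
    Subgroup.normalizer (wOf K : Set G) ≤ Subgroup.normalizer (K : Set G) := by
  obtain ⟨T₀, hJeq, hT₀1, hT₀p, hNT₀, hKN⟩ := exists_sylow_of_zero hL hT hK
  have hK₀ : IsJComponent T₀ K := isJComponent_congr hK.1 hJeq.symm
  intro n hn
  have hNn : (Subgroup.normalizer (wOf K : Set G)).map (MulAut.conj n).toMonoidHom =
      Subgroup.normalizer (wOf K : Set G) :=
    map_conj_eq_of_mem_normalizer (Subgroup.le_normalizer hn)
  have hNT₀' := jOvergroups_map (MulAut.conj n) hNT₀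
  rw [hNn] at hNT₀'
  have hK' := isJComponent_map (MulAut.conj n) hK₀
  have hKN' : K.map (MulAut.conj n).toMonoidHom ≤ Subgroup.normalizer (wOf K : Set G) := by
    rw [← hNn]; exact Subgroup.map_mono hKN
  have hW : wOf K ⊓ wOf (K.map (MulAut.conj n).toMonoidHom) ≠ ⊥ := by
    rw [wOf_map, map_conj_eq_of_mem_normalizer hn, inf_idem]
    exact (kdata_of_comp hT hK.1).W_ne_bot
  have hT₀1' : T₀.map (MulAut.conj n).toMonoidHom ≠ ⊥ := by
    intro h0
    apply hT₀1
    rw [eq_bot_iff] at h0 ⊢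
    intro x hx
    have := h0 ⟨x, hx, rfl⟩
    rw [Subgroup.mem_bot] at this ⊢
    exact (MulAut.conj n).injective (this.trans (map_one _).symm)
  have := comp_eq_of_W_inf hL hN hZ hT₀p hT₀1 hNT₀ (hT₀p.map _) hT₀1' hNT₀' hK₀ hKN hK' hKN' hW
  exact mem_normalizer_of_map_conj_eq this.symm

/-- K–S 12.1.6 (b): `K ∈ 𝒦₀(T)` is a `J(Tᵍ)`-component whenever `J(Tᵍ) ≤ N_G(W_K)`. -/
theorem comp_of_conj [Finite G] (hL : Cfsg.IsCharacteristicTwoType G)
    (hN : ∀ N : Subgroup G, Cfsg.IsTwoLocal N → Group.IsSolvable ↥N)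
    (hZ : ∀ S : Sylow 2 G, Subgroup.centralizer (Cfsg.omegaCenterOf (S : Subgroup G) : Set G) ≤
      Subgroup.normalizer ((S : Subgroup G) : Set G))
    {T K : Subgroup G} (hT : IsPGroup 2 ↥T) (hK : K ∈ jComponentsZero T) (g : G)
    (hg : thompsonSubgroupOf 2 (T.map (MulAut.conj g).toMonoidHom) ≤
      Subgroup.normalizer (wOf K : Set G)) :
    IsJComponent (T.map (MulAut.conj g).toMonoidHom) K := by
  obtain ⟨T₀, hJeq, hT₀1, hT₀p, hNT₀, hKN⟩ := exists_sylow_of_zero hL hT hK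
  have hJ'p : IsPGroup 2 ↥(thompsonSubgroupOf 2 (T.map (MulAut.conj g).toMonoidHom)) :=
    (hT.map _).to_le (thompsonSubgroupOf_le_self 2 _)
  obtain ⟨n, hn, hconj⟩ := exists_conj_le hNT₀.1 hg hJ'p
  have hJ'' : thompsonSubgroupOf 2
      ((T.map (MulAut.conj g).toMonoidHom).map (MulAut.conj n).toMonoidHom) ≤ T₀ := by
    rw [thompsonOf_map]
    rintro _ ⟨b, hb, rfl⟩
    exact hconj b hb
  obtain ⟨A, hA⟩ := exists_maxElAbIn T
  obtain ⟨A₀, hA₀⟩ := exists_maxElAbIn T₀
  have hA'' := maxElAbIn_map (MulAut.conj n) (maxElAbIn_map (MulAut.conj g) hA)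
  have hcard : Nat.card ((A.map (MulAut.conj g).toMonoidHom).map (MulAut.conj n).toMonoidHom) =
      Nat.card A₀ := by
    rw [Subgroup.card_map_of_injective (MulAut.conj n).injective,
      Subgroup.card_map_of_injective (MulAut.conj g).injective]
    exact card_maxElAb_eq_of_J_eq hJeq.symm hA hA₀
  have hle := thompsonOf_le_of_le hJ'' hA'' hA₀ hcard
  have hJJ : thompsonSubgroupOf 2
      ((T.map (MulAut.conj g).toMonoidHom).map (MulAut.conj n).toMonoidHom) =
      thompsonSubgroupOf 2 T₀ := by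
    apply Subgroup.eq_of_le_of_card_ge hle
    rw [thompsonOf_map, thompsonOf_map, Subgroup.card_map_of_injective (MulAut.conj n).injective,
      Subgroup.card_map_of_injective (MulAut.conj g).injective, hJeq]
  have hK'' : IsJComponent
      ((T.map (MulAut.conj g).toMonoidHom).map (MulAut.conj n).toMonoidHom) K :=
    isJComponent_congr hK.1 (hJJ.trans hJeq).symm
  have hfin := isJComponent_map (MulAut.conj n⁻¹) hK''
  rw [map_conj_inv_map_conj] at hfin
  have hnK : n⁻¹ ∈ Subgroup.normalizer (K : Set G) :=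
    normalizer_wOf_le hL hN hZ hT hK (Subgroup.inv_mem _ hn)
  rwa [map_conj_eq_of_mem_normalizer hnK] at hfin

end Cfsg.Agent.Lib.Helper9.KS
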