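import Mathlib
import Cfsg.Prelude
import Cfsg.Agent.Lib.Helper9.KSp

set_option autoImplicit false
set_option linter.unusedSectionVars false
set_option linter.unusedVariables false
set_option linter.style.longLine false
set_option linter.unusedSimpArgs false
open Cfsg

set_option maxHeartbeats 1600000
namespace Cfsg.Agent.Lib.Helper9.KS

open scoped Pointwise commutatorElement
open Cfsg.Agent.Lib.Helper1.FF Cfsg.Agent.Lib.Helper1.TF

universe u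

variable {X : Type u} [Group X] [Finite X] {V : Subgroup X} [V.Normal]

/-- the core of `compX_le`, with the transvection groups given. -/
theorem compX_le' {K J K' J' : Subgroup X} (h : CompX V K J) (h' : CompX V K' J')
    {Q' : Subgroup (Amb V)} (s : Setup 2 (VV V) (tr V (thompsonSubgroup 2 X)) Q')
    {B B' : Subgroup (Amb V)} (hB : s.IsTrH B) (hBJ : B ≤ tr V J) (hKB : tr V K = ⁅Q', B⁆)
    (hB' : s.IsTrH B') (hBJ' : B' ≤ tr V J') (hKB' : tr V K' = ⁅Q', B'⁆)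
    (hE : ⁅Q', B⁆ ⊔ B = ⁅Q', B'⁆ ⊔ B') (hNN : ⁅Q', B⁆ = ⁅Q', B'⁆) : K' ≤ K := by
  have : Fact (Nat.Prime 2) := ⟨Nat.prime_two⟩
  have : Fact (Nat.Prime 3) := ⟨Nat.prime_three⟩
  have htr : tr V K' = tr V K := by rw [hKB, hKB', hNN]
  obtain ⟨b, hb, hb1⟩ := Cfsg.Agent.Lib.Helper1.FF.exists_ne_one_of_card_prime hB.hcard
  obtain ⟨b', hb', hb1'⟩ := Cfsg.Agent.Lib.Helper1.FF.exists_ne_one_of_card_prime hB'.hcard
  obtain ⟨a, haJ, hab⟩ := hBJ hb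
  obtain ⟨a', haJ', hab'⟩ := hBJ' hb'
  have h1 : tau V a' ∈ ⁅Q', B⁆ ⊔ B := by
    rw [hE, hab']; exact (le_sup_right : B' ≤ _) hb'
  obtain ⟨n, hn, b₀, hb₀, hb₀1, hnb⟩ := trH_exists_mul hB h1
    (by rw [hab']; exact trH_pow_two hB' hb') (by rw [hab']; exact hb1')
  have hb₀a : b₀ = tau V a := by
    rw [hab]; exact (trH_eq_or hB hb hb1 hb₀).resolve_left hb₀1
  obtain ⟨k, hk, hkn⟩ : n ∈ tr V K := hKB ▸ hn
  have hc : (k * a)⁻¹ * a' ∈ Subgroup.centralizer (V : Set X) := by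
    apply mem_cent_of_tau_eq
    rw [map_mul, hkn, ← hb₀a, hnb]
  have ha'K : a' ∈ Subgroup.normalizer (K : Set X) := by
    have e : a' = k * a * ((k * a)⁻¹ * a') := by group
    rw [e]
    exact Subgroup.mul_mem _ (Subgroup.mul_mem _ (Subgroup.le_normalizer hk) (h.Jnorm haJ))
      (h.Cnorm hc)
  have ha'K' : a' ∈ Subgroup.normalizer (K' : Set X) := h'.Jnorm haJ'
  -- (5a)
  have h5a : ∀ x' ∈ K', ⁅x', a'⁆ ∈ K ⊔ pCore 2 X := by
    intro x' hx'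
    obtain ⟨k₁, hk₁, hk₁x⟩ : tau V x' ∈ tr V K := htr ▸ ⟨x', hx', rfl⟩
    have hc₁ := mem_cent_of_tau_eq hk₁x
    have e : ⁅x', a'⁆ = k₁ * ⁅k₁⁻¹ * x', a'⁆ * k₁⁻¹ * ⁅k₁, a'⁆ := by
      simp only [commutatorElement_def]; group
    rw [e]
    apply Subgroup.mul_mem
    · apply (le_sup_right : pCore 2 X ≤ K ⊔ pCore 2 X)
      exact (Cfsg.Agent.Lib.Helper7.pCore_normal 2 X).conj_mem _ (h'.CJ _ hc₁ a' haJ') k₁
    · apply (le_sup_left : K ≤ K ⊔ pCore 2 X)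
      rw [commutatorElement_def]
      have e2 : k₁ * a' * k₁⁻¹ * a'⁻¹ = k₁ * (a' * k₁⁻¹ * a'⁻¹) := by group
      rw [e2]
      exact K.mul_mem hk₁ ((Subgroup.mem_normalizer_iff.mp ha'K _).mp (K.inv_mem hk₁))
  -- (5b)
  obtain ⟨t, ht, ht1⟩ := Cfsg.Agent.Lib.Helper1.FF.exists_ne_one_of_card_prime h'.card3
  obtain ⟨x', hx', rfl⟩ := ht
  -- (5c)
  have hyK' : ⁅x', a'⁆ ∈ K' := by
    rw [commutatorElement_def]
    have e2 : x' * a' * x'⁻¹ * a'⁻¹ = x' * (a' * x'⁻¹ * a'⁻¹) := by group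
    rw [e2]
    exact K'.mul_mem hx' ((Subgroup.mem_normalizer_iff.mp ha'K' _).mp (K'.inv_mem hx'))
  have hx3 : tau V x' ^ 3 = 1 := by
    apply trH_pow_three hB'
    rw [← hKB']; exact ⟨x', hx', rfl⟩
  have htauy : tau V ⁅x', a'⁆ = tau V x' ^ 2 := by
    rw [map_commutatorElement, commutatorElement_def]
    have hinv : tau V a' * (tau V x')⁻¹ * (tau V a')⁻¹ = ((tau V x')⁻¹)⁻¹ := by
      rw [hab']
      apply trH_invert hB' hb' hb1'
      rw [← hKB']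
      exact Subgroup.inv_mem _ ⟨x', hx', rfl⟩
    calc tau V x' * tau V a' * (tau V x')⁻¹ * (tau V a')⁻¹
        = tau V x' * (tau V a' * (tau V x')⁻¹ * (tau V a')⁻¹) := by group
      _ = tau V x' ^ 2 := by rw [hinv, inv_inv, pow_two]
  have hy1 : tau V ⁅x', a'⁆ ≠ 1 := by
    rw [htauy]
    intro h0
    apply ht1
    calc tau V x' = tau V x' ^ 3 * (tau V x' ^ 2)⁻¹ := by group
      _ = 1 := by rw [hx3, h0]; group
  have hgen := Cfsg.Agent.Lib.Helper1.FF.eq_zpowers_of_card_prime h'.card3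
    (⟨_, hyK', rfl⟩ : tau V ⁅x', a'⁆ ∈ tr V K') hy1
  -- (5e)
  have hK'M : K' ≤ K ⊔ pCore 2 X := by
    intro x'' hx''
    have h2 : tau V x'' ∈ tr V K' := ⟨x'', hx'', rfl⟩
    rw [hgen] at h2
    obtain ⟨i, hi⟩ := Subgroup.mem_zpowers_iff.mp h2
    rw [← map_zpow] at hi
    have hc₂ := mem_cent_of_tau_eq hi
    have hmem : (⁅x', a'⁆ ^ i)⁻¹ * x'' ∈ pCore 2 X :=
      h'.KC ⟨K'.mul_mem (K'.inv_mem (K'.zpow_mem hyK' i)) hx'', hc₂⟩
    have e : x'' = ⁅x', a'⁆ ^ i * ((⁅x', a'⁆ ^ i)⁻¹ * x'') := by group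
    rw [e]
    exact Subgroup.mul_mem _ (Subgroup.zpow_mem _ (h5a x' hx') i)
      ((le_sup_right : pCore 2 X ≤ K ⊔ pCore 2 X) hmem)
  -- (6)
  refine h'.odd.trans ?_
  rw [Subgroup.closure_le]
  rintro x ⟨hx, hodd⟩
  exact mem_of_odd_of_mem_sup (Cfsg.Agent.Lib.Helper7.pCore_isPGroup 2 X) h.Qnorm (hK'M hx) hodd

/-- **Dichotomy**: two component-like subgroups are equal or centralize each other's plane. -/
theorem compX_dichotomy {K J K' J' : Subgroup X} (h : CompX V K J) (h' : CompX V K' J')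
    (hV : IsElementaryAbelian 2 V)
    {Q' : Subgroup (Amb V)} (s : Setup 2 (VV V) (tr V (thompsonSubgroup 2 X)) Q')
    (hS3 : tr V (thompsonSubgroup 2 X) = ⨆ A : {A : Subgroup (Amb V) //
      A ≤ tr V (thompsonSubgroup 2 X) ∧ IsBestOffenderOn 2 (VV V) A}, (A : Subgroup (Amb V))) :
    K = K' ∨ K' ≤ Subgroup.centralizer ((⁅V, K⁆ : Subgroup X) : Set X) := by
  have : Fact (Nat.Prime 2) := ⟨Nat.prime_two⟩
  obtain ⟨B, hB, hBJ, hKB⟩ := h.exists_trH hV s hS3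
  obtain ⟨B', hB', hBJ', hKB'⟩ := h'.exists_trH hV s hS3
  by_cases hW : ⁅VV V, ⁅Q', B⁆ ⊔ B⁆ = ⁅VV V, ⁅Q', B'⁆ ⊔ B'⁆
  · left
    have hE := hB.E_eq_of_W_eq hB' hW
    have hNN : ⁅Q', B⁆ = ⁅Q', B'⁆ :=
      (trH_N_eq hB (D := ⁅Q', B'⁆) (by rw [hE]; exact le_sup_left) (trH_card_N hB')).symm
    exact le_antisymm (compX_le' h' h s hB' hBJ' hKB' hB hBJ hKB hE.symm hNN.symm)
      (compX_le' h h' s hB hBJ hKB hB' hBJ' hKB' hE hNN)
  · right
    have hcen := hB.E_le_centralizer_W hB' hW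
    intro k' hk'
    rw [Subgroup.mem_centralizer_iff]
    intro v hv
    obtain ⟨hvV, hv2⟩ := inl_mem_commutator hv
    have hvW : (SemidirectProduct.inl ⟨v, hvV⟩ : Amb V) ∈ ⁅VV V, ⁅Q', B⁆ ⊔ B⁆ :=
      Subgroup.commutator_mono le_rfl (hKB.le.trans le_sup_left) hv2
    have hk'E : tau V k' ∈ ⁅Q', B'⁆ ⊔ B' :=
      (hKB'.le.trans le_sup_left) ⟨k', hk', rfl⟩
    have hc := Subgroup.mem_centralizer_iff.mp (hcen hk'E) _ hvW
    -- `tau k' * inl v * (tau k')⁻¹ = inl v`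
    have h2 : tau V k' * SemidirectProduct.inl (⟨v, hvV⟩ : ↥V) * (tau V k')⁻¹ =
        SemidirectProduct.inl (⟨v, hvV⟩ : ↥V) := by
      rw [← hc]; group
    rw [tau_conj] at h2
    have h3 := congrArg Subtype.val (SemidirectProduct.inl_injective h2)
    rw [MulAut.conjNormal_apply] at h3
    change k' * v * k'⁻¹ = v at h3
    calc v * k' = (k' * v * k'⁻¹) * k' := by rw [h3]
      _ = k' * v := by group

end Cfsg.Agent.Lib.Helper9.KS
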