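import Mathlib
import Cfsg.Prelude
import Cfsg.Agent.Lib.Helper9.KSq

set_option autoImplicit false
set_option linter.unusedSectionVars false
set_option linter.unusedVariables false
set_option linter.style.longLine false
set_option linter.unusedSimpArgs false
open Cfsg

set_option maxHeartbeats 1600000
namespace Cfsg.Agent.Lib.Helper9.KS

open Cfsg.Agent.Lib.Helper1.FF Cfsg.Agent.Lib.Helper1.TF
open Cfsg.Agent.Lib.Helper3.JC
open scoped Pointwise commutatorElement

variable {G : Type*} [Group G]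

/-- **SL7**: distinct `J(T)`-components `K₁ ≠ K₂` of `L ∈ 𝓛(T)`: `K₂` centralizes `W_{K₁}`. -/
theorem comp_cent_of_ne [Finite G] (hL : Cfsg.IsCharacteristicTwoType G)
    (hN : ∀ N : Subgroup G, Cfsg.IsTwoLocal N → Group.IsSolvable ↥N)
    (hZ : ∀ S : Sylow 2 G, Subgroup.centralizer (Cfsg.omegaCenterOf (S : Subgroup G) : Set G) ≤
      Subgroup.normalizer ((S : Subgroup G) : Set G))
    {T L K1 K2 : Subgroup G} (hT : IsPGroup 2 ↥T) (hT1 : T ≠ ⊥) (hLT : L ∈ jOvergroups T)
    (hK1 : IsJComponent T K1) (hK2 : IsJComponent T K2) (hKL1 : K1 ≤ L) (hKL2 : K2 ≤ L)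
    (hne : K1 ≠ K2) : K2 ≤ Subgroup.centralizer (wOf K1 : Set G) := by
  haveI hVn := V_normal L
  have hVL := V_le L
  obtain ⟨hVea, Q', s, hS3⟩ := exists_setup hL hN hZ hT hT1 hLT
  have c1 := compX_of_comp hL hN hZ hT hT1 hLT hK1 hKL1
  have c2 := compX_of_comp hL hN hZ hT hT1 hLT hK2 hKL2
  rcases compX_dichotomy c1 c2 hVea s hS3 with h | h
  · exfalso
    apply hne
    have := congrArg (Subgroup.map L.subtype) h
    rwa [Subgroup.map_subgroupOf_eq_of_le hKL1, Subgroup.map_subgroupOf_eq_of_le hKL2] at this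
  · intro k hk
    rw [Subgroup.mem_centralizer_iff]
    intro w hw
    have hwK := wOf_le_comm hL hN hZ hT hT1 hLT hK1 hKL1 hw
    have hwL : w ∈ L := hKL1 ((kdata_of_comp hT hK1).W_le_K hw)
    have hwX : (⟨w, hwL⟩ : ↥L) ∈
        ⁅(omegaCenterOf (pCoreOf 2 L)).subgroupOf L, K1.subgroupOf L⁆ := by
      rw [commutator_subgroupOf hVL hKL1, Subgroup.mem_subgroupOf]; exact hwK
    have hkX : (⟨k, hKL2 hk⟩ : ↥L) ∈ K2.subgroupOf L := Subgroup.mem_subgroupOf.2 hk
    have := Subgroup.mem_centralizer_iff.mp (h hkX) _ hwX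
    exact congrArg Subtype.val this

end Cfsg.Agent.Lib.Helper9.KS
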