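import Mathlib
import Cfsg.Prelude
import Cfsg.Agent.Lib.Helper9.KSr

set_option autoImplicit false
set_option linter.unusedSectionVars false
set_option linter.unusedVariables false
set_option linter.style.longLine false
set_option linter.unusedSimpArgs false
open Cfsg

set_option maxHeartbeats 1600000
namespace Cfsg.Agent.Lib.Helper9.KS

/-! Abstract module lemma for the four-group `W_K` (competitor argument). -/

section FixOf

variable {M : Type*} [Group M] {Γ : Type*} [Group Γ]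

/-- fixed points of a subgroup of operators -/
def fixOf (ρ : Γ →* MulAut M) (B : Subgroup Γ) : Subgroup M where
  carrier := {m | ∀ x ∈ B, ρ x m = m}
  one_mem' := by intro x _; simp
  mul_mem' := by
    intro m m' hm hm' x hx
    rw [map_mul, hm x hx, hm' x hx]
  inv_mem' := by
    intro m hm x hx
    rw [map_inv, hm x hx]

theorem mem_fixOf {ρ : Γ →* MulAut M} {B : Subgroup Γ} {m : M} :
    m ∈ fixOf ρ B ↔ ∀ x ∈ B, ρ x m = m := Iff.rfl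

theorem fixOf_anti {ρ : Γ →* MulAut M} {B B' : Subgroup Γ} (h : B ≤ B') :
    fixOf ρ B' ≤ fixOf ρ B := fun m hm x hx => hm x (h hx)

end FixOf

section ModuleLemma

variable {M : Type*} [CommGroup M] [Finite M] {Γ : Type*} [Group Γ] [Finite Γ]

/-- fixed points of one automorphism -/
def fixA (α : MulAut M) : Subgroup M where
  carrier := {m | α m = m}
  one_mem' := by simp
  mul_mem' := by
    intro m m' hm hm'
    show α (m * m') = m * m'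
    rw [map_mul, hm, hm']
  inv_mem' := by
    intro m hm
    show α m⁻¹ = m⁻¹
    rw [map_inv, hm]

theorem mem_fixA {α : MulAut M} {m : M} : m ∈ fixA α ↔ α m = m := Iff.rfl

theorem inv_eq_self_of_sq (hM2 : ∀ m : M, m * m = 1) (m : M) : m⁻¹ = m :=
  inv_eq_of_mul_eq_one_left (hM2 m)

theorem trace_eq_one (σ : MulAut M) (hσ3 : ∀ m, σ (σ (σ m)) = m)
    (hfpf : ∀ m, σ m = m → m = 1) (m : M) : m * σ m * σ (σ m) = 1 := by
  apply hfpf
  rw [map_mul, map_mul, hσ3]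
  ac_rfl

/-- `(S)`: a `⟨σ, α⟩`-invariant subgroup has order `|C_X(α)|²`. -/
theorem card_eq_sq (hM2 : ∀ m : M, m * m = 1) (σ α : MulAut M)
    (hσ3 : ∀ m, σ (σ (σ m)) = m) (hα2 : ∀ m, α (α m) = m)
    (hασ : ∀ m, α (σ m) = σ (σ (α m)))
    (hfpf : ∀ m, σ m = m → m = 1)
    (X : Subgroup M) (hXσ : ∀ m ∈ X, σ m ∈ X) (hXα : ∀ m ∈ X, α m ∈ X) :
    Nat.card X = Nat.card ↥(X ⊓ fixA α) * Nat.card ↥(X ⊓ fixA α) := by
  have hinv := inv_eq_self_of_sq hM2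
  apply le_antisymm
  · -- injection `X → F × F`
    have hy : ∀ u : M, u ∈ X → u * α u ∈ X ⊓ fixA α := by
      intro u hu
      refine ⟨X.mul_mem hu (hXα u hu), ?_⟩
      show α (u * α u) = u * α u
      rw [map_mul, hα2, mul_comm]
    have hx : ∀ u : M, u ∈ X → u * σ (u * α u) ∈ X ⊓ fixA α := by
      intro u hu
      have hyX := (hy u hu).1
      have hyα : α (u * α u) = u * α u := (hy u hu).2
      refine ⟨X.mul_mem hu (hXσ _ hyX), ?_⟩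
      show α (u * σ (u * α u)) = u * σ (u * α u)
      -- `x * α x = 1`
      have h1 : (u * σ (u * α u)) * α (u * σ (u * α u)) = 1 := by
        rw [map_mul α u, hασ, hyα]
        have := trace_eq_one σ hσ3 hfpf (u * α u)
        calc u * σ (u * α u) * (α u * σ (σ (u * α u)))
            = (u * α u) * σ (u * α u) * σ (σ (u * α u)) := by ac_rfl
          _ = 1 := this
      have h2 := eq_inv_of_mul_eq_one_right h1
      rw [h2, hinv]
    rw [← Nat.card_prod]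
    apply Nat.card_le_card_of_injective
      (fun u : ↥X => ((⟨(u : M) * σ ((u : M) * α (u : M)), hx u u.2⟩ : ↥(X ⊓ fixA α)),
        (⟨(u : M) * α (u : M), hy u u.2⟩ : ↥(X ⊓ fixA α))))
    intro u u' h
    have h1 := congrArg (fun p => ((p.1 : ↥(X ⊓ fixA α)) : M)) h
    have h2 := congrArg (fun p => ((p.2 : ↥(X ⊓ fixA α)) : M)) h
    simp only at h1 h2
    rw [h2] at h1
    exact Subtype.ext (mul_right_cancel h1)
  · rw [← Nat.card_prod]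
    apply Nat.card_le_card_of_injective
      (fun p : ↥(X ⊓ fixA α) × ↥(X ⊓ fixA α) =>
        (⟨(p.1 : M) * σ (p.2 : M), X.mul_mem p.1.2.1 (hXσ _ p.2.2.1)⟩ : ↥X))
    rintro ⟨⟨x, hxX, hxα⟩, ⟨y, hyX, hyα⟩⟩ ⟨⟨x', hxX', hxα'⟩, ⟨y', hyX', hyα'⟩⟩ h
    have e : x * σ y = x' * σ y' := congrArg Subtype.val h
    change α x = x at hxα
    change α y = y at hyα
    change α x' = x' at hxα'
    change α y' = y' at hyα'
    -- `x * x' = σ (y' * y)`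
    have e1 : x * x' = σ (y' * y) := by
      have h1 : x * x' = (x * σ y) * (x' * σ y) := by
        have : σ y * σ y = 1 := by rw [← map_mul, hM2, map_one]
        calc x * x' = x * x' * (σ y * σ y) := by rw [this, mul_one]
          _ = (x * σ y) * (x' * σ y) := by ac_rfl
      rw [h1, e, map_mul]
      have : x' * x' = 1 := hM2 x'
      calc x' * σ y' * (x' * σ y) = (x' * x') * (σ y' * σ y) := by ac_rfl
        _ = σ y' * σ y := by rw [this, one_mul]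
    -- `g := y' * y` is fixed by `σ`
    have hgα : α (y' * y) = y' * y := by rw [map_mul, hyα, hyα']
    have hhα : α (x * x') = x * x' := by rw [map_mul, hxα, hxα']
    have e2 : σ (σ (y' * y)) = σ (y' * y) := by
      have := hhα
      rw [e1, hασ, hgα] at this
      exact this
    have e3 : σ (y' * y) = y' * y := σ.injective e2
    have e4 : y' * y = 1 := hfpf _ e3
    have e5 : y' = y := by
      have := eq_inv_of_mul_eq_one_left e4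
      rw [this, hinv]
    have e6 : x * x' = 1 := by rw [e1, e4, map_one]
    have e7 : x = x' := by
      have := eq_inv_of_mul_eq_one_left e6
      rw [this, hinv]
    subst e5 e7
    rfl


theorem card_le_two_mul {H K : Subgroup Γ} (x₀ : Γ)
    (h : ∀ x ∈ K, x ∈ H ∨ x₀ * x ∈ H) : Nat.card K ≤ 2 * Nat.card H := by
  classical
  have e : Nat.card (Bool × ↥H) = 2 * Nat.card H := by
    rw [Nat.card_prod]; simp
  rw [← e]
  apply Nat.card_le_card_of_injective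
    (fun x : ↥K => if hx : (x : Γ) ∈ H then (false, (⟨(x : Γ), hx⟩ : ↥H))
      else (true, (⟨x₀ * (x : Γ), (h x x.2).resolve_left hx⟩ : ↥H)))
  intro x x' hxx
  by_cases hx : (x : Γ) ∈ H <;> by_cases hx' : (x' : Γ) ∈ H
  · simp only [hx, hx', dite_true] at hxx
    have := congrArg (fun p => ((p.2 : ↥H) : Γ)) hxx
    exact Subtype.ext this
  · simp only [hx, hx', dite_true, dite_false] at hxx
    have := congrArg (fun p => p.1) hxx
    simp at this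
  · simp only [hx, hx', dite_true, dite_false] at hxx
    have := congrArg (fun p => p.1) hxx
    simp at this
  · simp only [hx, hx', dite_false] at hxx
    have := congrArg (fun p => ((p.2 : ↥H) : Γ)) hxx
    simp only at this
    exact Subtype.ext (mul_left_cancel this)

theorem rho_sq {ρ : Γ →* MulAut M} {x : Γ} (hx : x * x = 1) (m : M) : ρ x (ρ x m) = m := by
  rw [← MulAut.mul_apply, ← map_mul, hx, map_one, MulAut.one_apply]

theorem rho_comm {ρ : Γ →* MulAut M} {x y : Γ} (hxy : x * y = y * x) (m : M) :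
    ρ x (ρ y m) = ρ y (ρ x m) := by
  rw [← MulAut.mul_apply, ← map_mul, hxy, map_mul, MulAut.mul_apply]

/-- `(N)`: a commuting family of involutory operators has a fixed point modulo a proper
invariant subgroup. -/
theorem exists_fixed_mod (hM2 : ∀ m : M, m * m = 1) (ρ : Γ →* MulAut M) (𝔄 : Subgroup Γ)
    (h𝔄c : ∀ x ∈ 𝔄, ∀ y ∈ 𝔄, x * y = y * x) (h𝔄2 : ∀ x ∈ 𝔄, x * x = 1)
    (U : Subgroup M) (hU : ∀ x ∈ 𝔄, ∀ u ∈ U, ρ x u ∈ U) (hUtop : U ≠ ⊤) :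
    ∃ y, y ∉ U ∧ ∀ x ∈ 𝔄, ρ x y * y ∈ U := by
  have hne : ({y : M | y ∉ U} : Set M).Nonempty := by
    by_contra hcon
    apply hUtop
    rw [eq_top_iff]
    intro y _
    by_contra hy
    exact hcon ⟨y, hy⟩
  obtain ⟨y, hy, hmax⟩ := Set.exists_max_image {y : M | y ∉ U}
    (fun y => ({x : Γ | x ∈ 𝔄 ∧ ρ x y * y ∈ U} : Set Γ).ncard) (Set.toFinite _) hne
  refine ⟨y, hy, ?_⟩
  by_contra hcon
  push Not at hcon
  obtain ⟨x, hx, hxy⟩ := hcon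
  have h1 := hmax (ρ x y * y) hxy
  have h2 : ({x' : Γ | x' ∈ 𝔄 ∧ ρ x' y * y ∈ U} : Set Γ).ncard <
      ({x' : Γ | x' ∈ 𝔄 ∧ ρ x' (ρ x y * y) * (ρ x y * y) ∈ U} : Set Γ).ncard := by
    apply Set.ncard_lt_ncard _ (Set.toFinite _)
    refine ⟨?_, ?_⟩
    · rintro x' ⟨hx', hx'y⟩
      refine ⟨hx', ?_⟩
      have e : ρ x' (ρ x y * y) * (ρ x y * y) = ρ x (ρ x' y * y) * (ρ x' y * y) := by
        rw [map_mul, map_mul, rho_comm (h𝔄c x' hx' x hx)]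
        ac_rfl
      rw [e]
      exact U.mul_mem (hU x hx _ hx'y) hx'y
    · intro hsub
      have hxin : x ∈ ({x' : Γ | x' ∈ 𝔄 ∧ ρ x' (ρ x y * y) * (ρ x y * y) ∈ U} : Set Γ) := by
        refine ⟨hx, ?_⟩
        have e : ρ x (ρ x y * y) * (ρ x y * y) = 1 := by
          rw [map_mul, rho_sq (h𝔄2 x hx)]
          have h3 := hM2 (ρ x y)
          have h4 := hM2 y
          calc y * ρ x y * (ρ x y * y) = (y * y) * (ρ x y * ρ x y) := by ac_rfl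
            _ = 1 := by rw [h3, h4, one_mul]
        rw [e]
        exact U.one_mem
      exact hxy (hsub hxin).2
  omega


/-- the operators of `𝔄` commuting with `ρ d` -/
def commSub (ρ : Γ →* MulAut M) (𝔄 : Subgroup Γ) (h𝔄2 : ∀ x ∈ 𝔄, x * x = 1) (d : Γ) :
    Subgroup Γ where
  carrier := {x | x ∈ 𝔄 ∧ ∀ m, ρ x (ρ d m) = ρ d (ρ x m)}
  one_mem' := ⟨𝔄.one_mem, by intro m; simp⟩
  mul_mem' := by
    rintro x x' ⟨hx, hxc⟩ ⟨hx', hxc'⟩
    refine ⟨𝔄.mul_mem hx hx', ?_⟩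
    intro m
    rw [map_mul, MulAut.mul_apply, MulAut.mul_apply, hxc', hxc]
  inv_mem' := by
    rintro x ⟨hx, hxc⟩
    have : x⁻¹ = x := inv_eq_of_mul_eq_one_left (h𝔄2 x hx)
    rw [this]
    exact ⟨hx, hxc⟩

/-- **Module lemma**: the competitor argument. -/
theorem module_card_le_four (hM2 : ∀ m : M, m * m = 1) (ρ : Γ →* MulAut M) (𝔄 : Subgroup Γ)
    (h𝔄c : ∀ x ∈ 𝔄, ∀ y ∈ 𝔄, x * y = y * x) (h𝔄2 : ∀ x ∈ 𝔄, x * x = 1)
    (d a : Γ) (hd3 : d ^ 3 = 1) (ha : a ∈ 𝔄) (had : a * d * a⁻¹ = d⁻¹)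
    (hfpf : ∀ m : M, ρ d m = m → m = 1)
    (hcomm : ∀ x ∈ 𝔄, (∀ m, ρ x (ρ d m) = ρ d (ρ x m)) ∨
        (∀ m, ρ (a * x) (ρ d m) = ρ d (ρ (a * x) m)))
    (hcomp : ∀ B : Subgroup Γ, B ≤ 𝔄 →
        Nat.card B * Nat.card ↥(fixOf ρ B) ≤ Nat.card 𝔄 * Nat.card ↥(fixOf ρ 𝔄)) :
    Nat.card M ≤ 4 ∧ Nat.card M = Nat.card ↥(fixA (ρ a)) * Nat.card ↥(fixA (ρ a)) := by
  have hinv := inv_eq_self_of_sq hM2
  have hσ3 : ∀ m, ρ d (ρ d (ρ d m)) = m := by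
    intro m
    have h : (ρ d) ^ 3 = 1 := by rw [← map_pow, hd3, map_one]
    have := congrArg (fun f : MulAut M => f m) h
    simpa [pow_succ, MulAut.mul_apply] using this
  have hα2 : ∀ m, ρ a (ρ a m) = m := fun m => rho_sq (h𝔄2 a ha) m
  have hασ : ∀ m, ρ a (ρ d m) = ρ d (ρ d (ρ a m)) := by
    intro m
    have e1 : a * d = d⁻¹ * a := by
      have := congrArg (fun z => z * a) had
      simpa [mul_assoc] using this
    have e2 : ρ a (ρ d m) = (ρ d)⁻¹ (ρ a m) := by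
      rw [← MulAut.mul_apply, ← map_mul, e1, map_mul, map_inv, MulAut.mul_apply]
    rw [e2]
    have e3 := (hσ3 ((ρ d)⁻¹ (ρ a m))).symm
    rw [MulAut.apply_inv_self] at e3
    exact e3
  have hsq := card_eq_sq hM2 (ρ d) (ρ a) hσ3 hα2 hασ hfpf
  refine ⟨?_, ?_⟩
  swap
  · have := hsq ⊤ (fun _ _ => Subgroup.mem_top _) (fun _ _ => Subgroup.mem_top _)
    rw [Subgroup.card_top, top_inf_eq] at this
    exact this
  -- the subgroup `𝔄'`
  have h𝔄'le : commSub ρ 𝔄 h𝔄2 d ≤ 𝔄 := fun x hx => hx.1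
  have hidx : Nat.card 𝔄 ≤ 2 * Nat.card ↥(commSub ρ 𝔄 h𝔄2 d) :=
    card_le_two_mul a (fun x hx => (hcomm x hx).imp (fun h => ⟨hx, h⟩)
      (fun h => ⟨𝔄.mul_mem ha hx, h⟩))
  have hUσ : ∀ u ∈ fixOf ρ (commSub ρ 𝔄 h𝔄2 d), ρ d u ∈ fixOf ρ (commSub ρ 𝔄 h𝔄2 d) := by
    intro u hu x hx
    rw [hx.2, hu x hx]
  have hU𝔄 : ∀ x ∈ 𝔄, ∀ u ∈ fixOf ρ (commSub ρ 𝔄 h𝔄2 d),
      ρ x u ∈ fixOf ρ (commSub ρ 𝔄 h𝔄2 d) := by
    intro x hx u hu x' hx'
    rw [rho_comm (h𝔄c x' hx'.1 x hx), hu x' hx']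
  have hfixF : fixOf ρ 𝔄 ≤ fixOf ρ (commSub ρ 𝔄 h𝔄2 d) ⊓ fixA (ρ a) := by
    intro m hm
    exact ⟨fixOf_anti h𝔄'le hm, hm a ha⟩
  have hUsq := hsq (fixOf ρ (commSub ρ 𝔄 h𝔄2 d)) hUσ (hU𝔄 a ha)
  have hposA' : 0 < Nat.card ↥(commSub ρ 𝔄 h𝔄2 d) := Nat.card_pos
  have hposF : 0 < Nat.card ↥(fixOf ρ (commSub ρ 𝔄 h𝔄2 d) ⊓ fixA (ρ a)) := Nat.card_pos
  have hcF := Subgroup.card_le_of_le hfixF
  have h1 := hcomp _ h𝔄'le
  -- `|U| ≤ 2 |F|`
  have hU2 : Nat.card ↥(fixOf ρ (commSub ρ 𝔄 h𝔄2 d)) ≤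
      2 * Nat.card ↥(fixOf ρ (commSub ρ 𝔄 h𝔄2 d) ⊓ fixA (ρ a)) := by
    have h2 : Nat.card ↥(commSub ρ 𝔄 h𝔄2 d) * Nat.card ↥(fixOf ρ (commSub ρ 𝔄 h𝔄2 d)) ≤
        Nat.card ↥(commSub ρ 𝔄 h𝔄2 d) *
          (2 * Nat.card ↥(fixOf ρ (commSub ρ 𝔄 h𝔄2 d) ⊓ fixA (ρ a))) := by
      calc _ ≤ Nat.card 𝔄 * Nat.card ↥(fixOf ρ 𝔄) := h1
        _ ≤ (2 * Nat.card ↥(commSub ρ 𝔄 h𝔄2 d)) *
            Nat.card ↥(fixOf ρ (commSub ρ 𝔄 h𝔄2 d) ⊓ fixA (ρ a)) := Nat.mul_le_mul hidx hcF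
        _ = _ := by ring
    exact Nat.le_of_mul_le_mul_left h2 hposA'
  have hF2 : Nat.card ↥(fixOf ρ (commSub ρ 𝔄 h𝔄2 d) ⊓ fixA (ρ a)) ≤ 2 := by
    rw [hUsq] at hU2
    exact Nat.le_of_mul_le_mul_right hU2 hposF
  have hU4 : Nat.card ↥(fixOf ρ (commSub ρ 𝔄 h𝔄2 d)) ≤ 4 := by
    rw [hUsq]; nlinarith
  by_contra hM
  push Not at hM
  have hUtop : fixOf ρ (commSub ρ 𝔄 h𝔄2 d) ≠ ⊤ := by
    intro h
    rw [h, Subgroup.card_top] at hU4
    omega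
  obtain ⟨y, hyU, hy⟩ := exists_fixed_mod hM2 ρ 𝔄 h𝔄c h𝔄2 _ hU𝔄 hUtop
  have hyy : ∀ z : M, z * y * y = z := by intro z; rw [mul_assoc, hM2, mul_one]
  -- `c x ∈ F`
  have hcF' : ∀ x ∈ commSub ρ 𝔄 h𝔄2 d,
      ρ x y * y ∈ fixOf ρ (commSub ρ 𝔄 h𝔄2 d) ⊓ fixA (ρ a) := by
    intro x hx
    refine ⟨hy x hx.1, ?_⟩
    show ρ a (ρ x y * y) = ρ x y * y
    have hu := hy a ha
    have hxu : ρ x (ρ a y * y) = ρ a y * y := hu x hx
    have e1 : ρ a y = (ρ a y * y) * y := (hyy _).symm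
    rw [map_mul, rho_comm (h𝔄c a ha x hx.1)]
    have e2 : ρ x (ρ a y) = (ρ a y * y) * ρ x y := by
      nth_rewrite 1 [e1]
      rw [map_mul, hxu]
    rw [e2]
    have h3 := hM2 (ρ a y)
    calc ρ a y * y * ρ x y * ρ a y = (ρ a y * ρ a y) * (ρ x y * y) := by ac_rfl
      _ = ρ x y * y := by rw [h3, one_mul]
  -- the homomorphism `c`
  let φ : ↥(commSub ρ 𝔄 h𝔄2 d) →* M := MonoidHom.mk' (fun x => ρ (x : Γ) y * y) (by
    intro x x'
    show ρ ((x : Γ) * (x' : Γ)) y * y = (ρ (x : Γ) y * y) * (ρ (x' : Γ) y * y)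
    have hc' : ρ (x : Γ) (ρ (x' : Γ) y * y) = ρ (x' : Γ) y * y := (hcF' x' x'.2).1 x x.2
    have e1 : ρ (x' : Γ) y = (ρ (x' : Γ) y * y) * y := (hyy _).symm
    rw [map_mul, MulAut.mul_apply]
    have e2 : ρ (x : Γ) (ρ (x' : Γ) y) = (ρ (x' : Γ) y * y) * ρ (x : Γ) y := by
      nth_rewrite 1 [e1]
      rw [map_mul, hc']
    rw [e2]
    ac_rfl)
  have hφ : ∀ x : ↥(commSub ρ 𝔄 h𝔄2 d), φ x = ρ (x : Γ) y * y := fun x => rfl
  have hrange : φ.range ≤ fixOf ρ (commSub ρ 𝔄 h𝔄2 d) ⊓ fixA (ρ a) := by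
    rintro _ ⟨x, rfl⟩
    exact hcF' x x.2
  have hcr := (Subgroup.card_le_of_le hrange).trans hF2
  have hker : Nat.card ↥(commSub ρ 𝔄 h𝔄2 d) = Nat.card φ.ker * Nat.card φ.range := by
    rw [← Subgroup.index_ker, Subgroup.card_mul_index]
  have hDcard : Nat.card ↥(φ.ker.map (commSub ρ 𝔄 h𝔄2 d).subtype) = Nat.card φ.ker :=
    Subgroup.card_map_of_injective (Subgroup.subtype_injective _)
  have hDle : φ.ker.map (commSub ρ 𝔄 h𝔄2 d).subtype ≤ commSub ρ 𝔄 h𝔄2 d :=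
    Subgroup.map_subtype_le _
  have hDy : ∀ x ∈ φ.ker.map (commSub ρ 𝔄 h𝔄2 d).subtype, ρ x y = y := by
    rintro _ ⟨x, hx, rfl⟩
    have h3 : φ x = 1 := hx
    rw [hφ] at h3
    have := eq_inv_of_mul_eq_one_left h3
    rw [hinv] at this
    exact this
  have hRσ : ∀ m ∈ fixOf ρ (φ.ker.map (commSub ρ 𝔄 h𝔄2 d).subtype),
      ρ d m ∈ fixOf ρ (φ.ker.map (commSub ρ 𝔄 h𝔄2 d).subtype) := by
    intro m hm x hx
    rw [(hDle hx).2, hm x hx]
  have hRα : ∀ m ∈ fixOf ρ (φ.ker.map (commSub ρ 𝔄 h𝔄2 d).subtype),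
      ρ a m ∈ fixOf ρ (φ.ker.map (commSub ρ 𝔄 h𝔄2 d).subtype) := by
    intro m hm x hx
    rw [rho_comm (h𝔄c x (hDle hx).1 a ha), hm x hx]
  have hUR : fixOf ρ (commSub ρ 𝔄 h𝔄2 d) ≤
      fixOf ρ (φ.ker.map (commSub ρ 𝔄 h𝔄2 d).subtype) := fixOf_anti hDle
  have hyR : y ∈ fixOf ρ (φ.ker.map (commSub ρ 𝔄 h𝔄2 d).subtype) := hDy
  have hRsq := hsq _ hRσ hRα
  have h2 := hcomp _ (hDle.trans h𝔄'le)
  have hposD : 0 < Nat.card ↥(φ.ker.map (commSub ρ 𝔄 h𝔄2 d).subtype) := Nat.card_pos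
  have hR8 : Nat.card ↥(fixOf ρ (φ.ker.map (commSub ρ 𝔄 h𝔄2 d).subtype)) ≤ 8 := by
    have h3 : Nat.card ↥(φ.ker.map (commSub ρ 𝔄 h𝔄2 d).subtype) *
        Nat.card ↥(fixOf ρ (φ.ker.map (commSub ρ 𝔄 h𝔄2 d).subtype)) ≤
        Nat.card ↥(φ.ker.map (commSub ρ 𝔄 h𝔄2 d).subtype) * 8 := by
      calc _ ≤ Nat.card 𝔄 * Nat.card ↥(fixOf ρ 𝔄) := h2
        _ ≤ (2 * (Nat.card φ.ker * Nat.card φ.range)) * 2 := by
            apply Nat.mul_le_mul
            · rw [← hker]; exact hidx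
            · exact hcF.trans hF2
        _ ≤ (2 * (Nat.card φ.ker * 2)) * 2 := by
            apply Nat.mul_le_mul_right
            apply Nat.mul_le_mul_left
            exact Nat.mul_le_mul_left _ hcr
        _ = _ := by rw [hDcard]; ring
    exact Nat.le_of_mul_le_mul_left h3 hposD
  have hposFR : 0 < Nat.card ↥(fixOf ρ (φ.ker.map (commSub ρ 𝔄 h𝔄2 d).subtype) ⊓ fixA (ρ a)) :=
    Nat.card_pos
  have hR4 : Nat.card ↥(fixOf ρ (φ.ker.map (commSub ρ 𝔄 h𝔄2 d).subtype)) ≤ 4 := by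
    rw [hRsq] at hR8 ⊢
    have : Nat.card ↥(fixOf ρ (φ.ker.map (commSub ρ 𝔄 h𝔄2 d).subtype) ⊓ fixA (ρ a)) ≤ 2 := by
      by_contra hc
      push Not at hc
      nlinarith
    nlinarith
  have hlt : Nat.card ↥(fixOf ρ (commSub ρ 𝔄 h𝔄2 d)) <
      Nat.card ↥(fixOf ρ (φ.ker.map (commSub ρ 𝔄 h𝔄2 d).subtype)) := by
    by_contra hc
    push Not at hc
    have := Subgroup.eq_of_le_of_card_ge hUR hc
    exact hyU (this ▸ hyR)
  have hF1 : Nat.card ↥(fixOf ρ (commSub ρ 𝔄 h𝔄2 d) ⊓ fixA (ρ a)) = 1 := by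
    have : Nat.card ↥(fixOf ρ (commSub ρ 𝔄 h𝔄2 d) ⊓ fixA (ρ a)) *
        Nat.card ↥(fixOf ρ (commSub ρ 𝔄 h𝔄2 d) ⊓ fixA (ρ a)) < 4 := by
      rw [← hUsq]; omega
    nlinarith
  have hU1 : fixOf ρ (commSub ρ 𝔄 h𝔄2 d) = ⊥ := by
    rw [← Subgroup.card_eq_one, hUsq, hF1]
  apply hyU
  intro x hx
  have h3 := hy x hx.1
  rw [hU1, Subgroup.mem_bot] at h3
  have := eq_inv_of_mul_eq_one_left h3
  rw [hinv] at this
  exact this

end ModuleLemma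

end Cfsg.Agent.Lib.Helper9.KS
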