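import Mathlib
import Cfsg.Prelude
import Cfsg.Agent.Lib.Helper9.KSs

set_option autoImplicit false
set_option linter.unusedSectionVars false
set_option linter.unusedVariables false
set_option linter.style.longLine false
set_option linter.unusedSimpArgs false
open Cfsg

set_option maxHeartbeats 1600000
namespace Cfsg.Agent.Lib.Helper9.KS

open Cfsg.Agent.Lib.Helper1

variable {G : Type*} [Group G]

theorem nmh_apply (W : Subgroup G) (x : ↥(Subgroup.normalizer (W : Set G))) (w : ↥W) :
    ((W.normalizerMonoidHom x w : ↥W) : G) = (x : G) * (w : G) * (x : G)⁻¹ := rfl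

/-- The best-offender inequality inside `T`. -/
theorem offender_ineq [Finite G] {T A W B : Subgroup G} (hA : A ∈ maxElAbIn 2 T) (hWT : W ≤ T)
    (hWe : IsElementaryAbelian 2 W) (hBA : B ≤ A) :
    Nat.card B * Nat.card ↥(W ⊓ Subgroup.centralizer (B : Set G)) ≤
      Nat.card A * Nat.card ↥(W ⊓ Subgroup.centralizer (A : Set G)) := by
  have hAA : A ≤ Subgroup.centralizer (A : Set G) := by
    intro x hx
    rw [Subgroup.mem_centralizer_iff]
    intro y hy
    exact isElementaryAbelian_comm hA.2.1 hy hx
  have hB : IsElementaryAbelian 2 B := isElementaryAbelian_mono hA.2.1 hBA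
  have hW' : IsElementaryAbelian 2 (W ⊓ Subgroup.centralizer (B : Set G)) :=
    isElementaryAbelian_mono hWe inf_le_left
  have h1 := isElementaryAbelian_sup_of_le_centralizer hB hW' inf_le_right
  have h2 := hA.2.2 _ (sup_le (hBA.trans hA.1) (inf_le_left.trans hWT)) h1
  have h3 : B ⊓ (W ⊓ Subgroup.centralizer (B : Set G)) ≤ W ⊓ Subgroup.centralizer (A : Set G) := by
    apply le_inf
    · exact inf_le_right.trans inf_le_left
    · exact inf_le_left.trans (hBA.trans hAA)
  calc Nat.card B * Nat.card ↥(W ⊓ Subgroup.centralizer (B : Set G))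
      ≤ Nat.card (B ⊔ (W ⊓ Subgroup.centralizer (B : Set G)) : Subgroup G) *
        Nat.card (B ⊓ (W ⊓ Subgroup.centralizer (B : Set G)) : Subgroup G) :=
        card_mul_card_le_card_sup_mul_card_inf _ _
    _ ≤ Nat.card A * Nat.card ↥(W ⊓ Subgroup.centralizer (A : Set G)) :=
        Nat.mul_le_mul h2 (Subgroup.card_le_of_le h3)

theorem card_fixOf_normalizer [Finite G] (W : Subgroup G)
    (B : Subgroup ↥(Subgroup.normalizer (W : Set G))) :
    Nat.card ↥(fixOf W.normalizerMonoidHom B) =
      Nat.card ↥(W ⊓ Subgroup.centralizer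
        ((B.map (Subgroup.normalizer (W : Set G)).subtype : Subgroup G) : Set G)) := by
  have e : (fixOf W.normalizerMonoidHom B).map W.subtype = W ⊓ Subgroup.centralizer
      ((B.map (Subgroup.normalizer (W : Set G)).subtype : Subgroup G) : Set G) := by
    ext g
    constructor
    · rintro ⟨m, hm, rfl⟩
      refine ⟨m.2, ?_⟩
      show (m : G) ∈ Subgroup.centralizer
        ((B.map (Subgroup.normalizer (W : Set G)).subtype : Subgroup G) : Set G)
      rw [Subgroup.mem_centralizer_iff]
      rintro _ ⟨x, hx, rfl⟩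
      have h1 := congrArg Subtype.val (hm x hx)
      rw [nmh_apply] at h1
      have : (x : G) * (m : G) = (m : G) * (x : G) := by
        calc (x : G) * (m : G) = ((x : G) * (m : G) * (x : G)⁻¹) * (x : G) := by group
          _ = (m : G) * (x : G) := by rw [h1]
      exact this
    · rintro ⟨hgW, hgC⟩
      refine ⟨⟨g, hgW⟩, ?_, rfl⟩
      intro x hx
      apply Subtype.ext
      rw [nmh_apply]
      have h1 := Subgroup.mem_centralizer_iff.mp hgC (x : G) ⟨x, hx, rfl⟩
      show (x : G) * g * (x : G)⁻¹ = g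
      rw [h1]; group
  rw [← e, Subgroup.card_map_of_injective W.subtype_injective]

/-- **The competitor lemma** (group form). -/
theorem card_le_four_of_competitor [Finite G] {T A W : Subgroup G} {d a : G}
    (hA : A ∈ maxElAbIn 2 T) (hWT : W ≤ T) (hWe : IsElementaryAbelian 2 W)
    (hd3 : d ^ 3 = 1) (ha : a ∈ A) (had : a * d * a⁻¹ = d⁻¹)
    (hdW : d ∈ Subgroup.normalizer (W : Set G)) (hAW : A ≤ Subgroup.normalizer (W : Set G))
    (hfpf : ∀ w ∈ W, d * w * d⁻¹ = w → w = 1)
    (hAd : ∀ x ∈ A, (∀ w ∈ W, x * (d * w * d⁻¹) * x⁻¹ = d * (x * w * x⁻¹) * d⁻¹) ∨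
      (∀ w ∈ W, (a * x) * (d * w * d⁻¹) * (a * x)⁻¹ = d * ((a * x) * w * (a * x)⁻¹) * d⁻¹)) :
    Nat.card W ≤ 4 ∧ (W ≠ ⊥ → Nat.card W = 4) := by
  letI : CommGroup ↥W := { (inferInstance : Group ↥W) with
    mul_comm := fun x y => Subtype.ext (isElementaryAbelian_comm hWe x.2 y.2) }
  have hsqA : ∀ x ∈ A, x * x = 1 := fun x hx => by rw [← pow_two]; exact hA.2.1.2 x hx
  have hsqW : ∀ x ∈ W, x * x = 1 := fun x hx => by rw [← pow_two]; exact hWe.2 x hx
  have key := module_card_le_four (M := ↥W) (Γ := ↥(Subgroup.normalizer (W : Set G)))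
    (fun m => Subtype.ext (hsqW m m.2)) W.normalizerMonoidHom
    (A.subgroupOf (Subgroup.normalizer (W : Set G)))
    (fun x hx y hy => Subtype.ext (isElementaryAbelian_comm hA.2.1
      (Subgroup.mem_subgroupOf.1 hx) (Subgroup.mem_subgroupOf.1 hy)))
    (fun x hx => Subtype.ext (hsqA x (Subgroup.mem_subgroupOf.1 hx)))
    ⟨d, hdW⟩ ⟨a, hAW ha⟩ (Subtype.ext hd3) (Subgroup.mem_subgroupOf.2 ha) (Subtype.ext had)
    (by
      intro m hm
      apply Subtype.ext
      have := congrArg Subtype.val hm
      rw [nmh_apply] at this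
      exact hfpf m m.2 this)
    (by
      intro x hx
      rcases hAd x (Subgroup.mem_subgroupOf.1 hx) with h | h
      · left
        intro m
        apply Subtype.ext
        exact h m m.2
      · right
        intro m
        apply Subtype.ext
        exact h m m.2)
    (by
      intro B hB
      have hBA : B.map (Subgroup.normalizer (W : Set G)).subtype ≤ A := by
        rintro _ ⟨x, hx, rfl⟩
        exact Subgroup.mem_subgroupOf.1 (hB hx)
      have h1 := offender_ineq hA hWT hWe hBA
      have e1 := card_fixOf_normalizer W B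
      have e2 := card_fixOf_normalizer W (A.subgroupOf (Subgroup.normalizer (W : Set G)))
      rw [Subgroup.map_subgroupOf_eq_of_le hAW] at e2
      have e3 : Nat.card ↥(B.map (Subgroup.normalizer (W : Set G)).subtype) = Nat.card B :=
        Subgroup.card_map_of_injective (Subgroup.subtype_injective _)
      have e4 : Nat.card ↥(A.subgroupOf (Subgroup.normalizer (W : Set G))) = Nat.card A :=
        card_subgroupOf_of_le hAW
      rw [e3, ← e1, ← e2, ← e4] at h1
      exact h1)
  refine ⟨key.1, ?_⟩
  intro hW1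
  have h1 := key.1
  have h2 := key.2
  have hne : Nat.card W ≠ 1 := by
    intro h
    exact hW1 (Subgroup.card_eq_one.mp h)
  have hpos : 0 < Nat.card W := Nat.card_pos
  generalize Nat.card ↥(fixA (W.normalizerMonoidHom ⟨a, hAW ha⟩)) = f at h2
  have hf : f ≤ 2 := by
    by_contra hc
    push Not at hc
    nlinarith
  interval_cases f <;> omega

end Cfsg.Agent.Lib.Helper9.KS
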