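import Mathlib
import Cfsg.Prelude
import Cfsg.Agent.Lib.Helper9.KSt

set_option autoImplicit false
set_option linter.unusedSectionVars false
set_option linter.unusedVariables false
set_option linter.style.longLine false
set_option linter.unusedSimpArgs false
open Cfsg

set_option maxHeartbeats 1600000
namespace Cfsg.Agent.Lib.Helper9.KS

open Cfsg.Agent.Lib.Helper1 Cfsg.Agent.Lib.Helper3.JC

variable {G : Type*} [Group G]

/-- the candidate component attached to a `2`-group `Q` and an element `d` of order `3`. -/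
def compOf (Q : Subgroup G) (d : G) : Subgroup G :=
  Subgroup.closure {g | g ∈ Q ⊔ Subgroup.zpowers d ∧ Odd (orderOf g)}

theorem compOf_le (Q : Subgroup G) (d : G) : compOf Q d ≤ Q ⊔ Subgroup.zpowers d :=
  (Subgroup.closure_le _).2 (fun g hg => hg.1)

theorem mem_compOf_of_odd {Q : Subgroup G} {d g : G} (hg : g ∈ Q ⊔ Subgroup.zpowers d)
    (ho : Odd (orderOf g)) : g ∈ compOf Q d := Subgroup.subset_closure ⟨hg, ho⟩

theorem odd_orderOf_of_pow_three {d : G} (hd3 : d ^ 3 = 1) : Odd (orderOf d) := by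
  have h := orderOf_dvd_of_pow_eq_one hd3
  rcases (Nat.dvd_prime Nat.prime_three).1 h with h1 | h1 <;> rw [h1] <;> decide

theorem d_mem_compOf {Q : Subgroup G} {d : G} (hd3 : d ^ 3 = 1) : d ∈ compOf Q d :=
  mem_compOf_of_odd (le_sup_right (a := Q) (Subgroup.mem_zpowers d)) (odd_orderOf_of_pow_three hd3)

theorem orderOf_conj_eq (t g : G) : orderOf (t * g * t⁻¹) = orderOf g :=
  orderOf_injective (MulAut.conj t).toMonoidHom (MulAut.conj t).injective g

theorem mem_normalizer_closure_of_conj {S : Set G} {t : G} (h1 : ∀ s ∈ S, t * s * t⁻¹ ∈ S)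
    (h2 : ∀ s ∈ S, t⁻¹ * s * t ∈ S) : t ∈ Subgroup.normalizer (Subgroup.closure S : Set G) := by
  apply mem_normalizer_of_conj
  · intro b hb
    induction hb using Subgroup.closure_induction with
    | mem x hx => exact Subgroup.subset_closure (h1 x hx)
    | one => simp
    | mul x y _ _ hx hy =>
      have : t * (x * y) * t⁻¹ = (t * x * t⁻¹) * (t * y * t⁻¹) := by group
      rw [this]; exact Subgroup.mul_mem _ hx hy
    | inv x _ hx =>
      have : t * x⁻¹ * t⁻¹ = (t * x * t⁻¹)⁻¹ := by group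
      rw [this]; exact Subgroup.inv_mem _ hx
  · intro b hb
    induction hb using Subgroup.closure_induction with
    | mem x hx => exact Subgroup.subset_closure (h2 x hx)
    | one => simp
    | mul x y _ _ hx hy =>
      have : t⁻¹ * (x * y) * t = (t⁻¹ * x * t) * (t⁻¹ * y * t) := by group
      rw [this]; exact Subgroup.mul_mem _ hx hy
    | inv x _ hx =>
      have : t⁻¹ * x⁻¹ * t = (t⁻¹ * x * t)⁻¹ := by group
      rw [this]; exact Subgroup.inv_mem _ hx

/-- whatever normalizes `Q⟨d⟩` normalizes the candidate component. -/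
theorem normalizer_le_normalizer_compOf (Q : Subgroup G) (d : G) :
    Subgroup.normalizer ((Q ⊔ Subgroup.zpowers d : Subgroup G) : Set G) ≤
      Subgroup.normalizer (compOf Q d : Set G) := by
  intro t ht
  apply mem_normalizer_closure_of_conj
  · rintro s ⟨hs, ho⟩
    exact ⟨(Subgroup.mem_normalizer_iff.mp ht s).mp hs, by rw [orderOf_conj_eq]; exact ho⟩
  · rintro s ⟨hs, ho⟩
    have ht' := Subgroup.inv_mem _ ht
    have := (Subgroup.mem_normalizer_iff.mp ht' s).mp hs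
    rw [inv_inv] at this
    refine ⟨this, ?_⟩
    have e := orderOf_conj_eq t⁻¹ s
    rw [inv_inv] at e
    rw [e]; exact ho

theorem sup_le_normalizer_left {Q : Subgroup G} {d : G}
    (hdQ : d ∈ Subgroup.normalizer (Q : Set G)) :
    Q ⊔ Subgroup.zpowers d ≤ Subgroup.normalizer (Q : Set G) :=
  sup_le Subgroup.le_normalizer ((Subgroup.zpowers_le).2 hdQ)

/-- elements of `Q⟨d⟩` are products. -/
theorem exists_mul_of_mem_sup {Q : Subgroup G} {d : G}
    (hdQ : d ∈ Subgroup.normalizer (Q : Set G)) {y : G} (hy : y ∈ Q ⊔ Subgroup.zpowers d) :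
    ∃ q ∈ Q, ∃ z ∈ Subgroup.zpowers d, y = q * z := by
  rw [← SetLike.mem_coe, Subgroup.coe_mul_of_right_le_normalizer_left Q (Subgroup.zpowers d)
    ((Subgroup.zpowers_le).2 hdQ)] at hy
  obtain ⟨q, hq, z, hz, rfl⟩ := Set.mem_mul.mp hy
  exact ⟨q, hq, z, hz, rfl⟩

theorem exists_mul_of_mem_compOf {Q : Subgroup G} {d : G} (hd3 : d ^ 3 = 1)
    (hdQ : d ∈ Subgroup.normalizer (Q : Set G)) {k : G} (hk : k ∈ compOf Q d) :
    ∃ q ∈ compOf Q d ⊓ Q, ∃ z ∈ Subgroup.zpowers d, k = q * z := by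
  obtain ⟨q, hq, z, hz, rfl⟩ := exists_mul_of_mem_sup hdQ (compOf_le Q d hk)
  have hzK : z ∈ compOf Q d := (Subgroup.zpowers_le).2 (d_mem_compOf hd3) hz
  refine ⟨q, ⟨?_, hq⟩, z, hz, rfl⟩
  have : q = (q * z) * z⁻¹ := by group
  rw [this]
  exact Subgroup.mul_mem _ hk (Subgroup.inv_mem _ hzK)

theorem compOf_le_normalizer_inf {Q : Subgroup G} {d : G}
    (hdQ : d ∈ Subgroup.normalizer (Q : Set G)) :
    compOf Q d ≤ Subgroup.normalizer ((compOf Q d ⊓ Q : Subgroup G) : Set G) := by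
  intro k hk
  have hkQ := sup_le_normalizer_left hdQ (compOf_le Q d hk)
  apply mem_normalizer_of_conj
  · rintro b ⟨hbK, hbQ⟩
    exact ⟨Subgroup.mul_mem _ (Subgroup.mul_mem _ hk hbK) (Subgroup.inv_mem _ hk),
      (Subgroup.mem_normalizer_iff.mp hkQ b).mp hbQ⟩
  · rintro b ⟨hbK, hbQ⟩
    refine ⟨Subgroup.mul_mem _ (Subgroup.mul_mem _ (Subgroup.inv_mem _ hk) hbK) hk, ?_⟩
    have := (Subgroup.mem_normalizer_iff.mp (Subgroup.inv_mem _ hkQ) b).mp hbQ
    rwa [inv_inv] at this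

theorem zpowers_inf_eq_bot {Q : Subgroup G} {d : G} (hQ : IsPGroup 2 ↥Q) (hd3 : d ^ 3 = 1) :
    Subgroup.zpowers d ⊓ Q = ⊥ := by
  rw [eq_bot_iff]
  rintro z ⟨hz, hzQ⟩
  rw [Subgroup.mem_bot]
  obtain ⟨i, rfl⟩ := Subgroup.mem_zpowers_iff.mp hz
  have h3 : (d ^ i) ^ 3 = 1 := by
    rw [← zpow_natCast, ← zpow_mul, mul_comm, zpow_mul, zpow_natCast, hd3, one_zpow]
  obtain ⟨j, hj⟩ := hQ ⟨d ^ i, hzQ⟩
  have h2 : (d ^ i) ^ (2 ^ j) = 1 := by
    have := congrArg Subtype.val hj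
    simpa using this
  have hc : Nat.Coprime 3 (2 ^ j) := Nat.Coprime.pow_right j (by decide)
  have h1 := orderOf_dvd_of_pow_eq_one h3
  have h1' := orderOf_dvd_of_pow_eq_one h2
  have : orderOf (d ^ i) = 1 := Nat.eq_one_of_dvd_coprimes hc h1 h1'
  exact orderOf_eq_one_iff.mp this

theorem card_mul_relIndex_eq {H K : Subgroup G} (h : H ≤ K) :
    Nat.card H * H.relIndex K = Nat.card K := by
  have := Subgroup.relIndex_mul_relIndex (⊥ : Subgroup G) H K bot_le h
  rwa [Subgroup.relIndex_bot_left, Subgroup.relIndex_bot_left] at this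

/-- `|K| = 3 |K ∩ Q|`. -/
theorem card_compOf [Finite G] {Q : Subgroup G} {d : G} (hQ : IsPGroup 2 ↥Q) (hd3 : d ^ 3 = 1)
    (hd1 : d ≠ 1) (hdQ : d ∈ Subgroup.normalizer (Q : Set G)) :
    Nat.card ↥(compOf Q d) = 3 * Nat.card ↥(compOf Q d ⊓ Q : Subgroup G) := by
  have hdK : d ∈ compOf Q d := d_mem_compOf hd3
  have hzn : Subgroup.zpowers d ≤
      Subgroup.normalizer ((compOf Q d ⊓ Q : Subgroup G) : Set G) :=
    ((Subgroup.zpowers_le).2 hdK).trans (compOf_le_normalizer_inf hdQ)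
  have e1 : Subgroup.zpowers d ⊔ (compOf Q d ⊓ Q) = compOf Q d := by
    apply le_antisymm
    · exact sup_le ((Subgroup.zpowers_le).2 hdK) inf_le_left
    · intro k hk
      obtain ⟨q, hq, z, hz, rfl⟩ := exists_mul_of_mem_compOf hd3 hdQ hk
      exact Subgroup.mul_mem _ (le_sup_right (a := Subgroup.zpowers d) hq)
        (le_sup_left (b := compOf Q d ⊓ Q) hz)
  have e2 : Subgroup.zpowers d ⊓ (compOf Q d ⊓ Q) = ⊥ := by
    rw [eq_bot_iff, ← zpowers_inf_eq_bot hQ hd3]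
    exact le_inf inf_le_left (inf_le_right.trans inf_le_right)
  have h1 := GlaubermanRepl.card_sup_mul_card_inf_of_le_normalizer _ _ hzn
  rw [e1, e2, Subgroup.card_bot, mul_one, Nat.card_zpowers] at h1
  have ho : orderOf d = 3 := orderOf_eq_prime hd3 hd1
  rw [h1, ho]

theorem relIndex_inf_compOf [Finite G] {Q : Subgroup G} {d : G} (hQ : IsPGroup 2 ↥Q)
    (hd3 : d ^ 3 = 1) (hd1 : d ≠ 1) (hdQ : d ∈ Subgroup.normalizer (Q : Set G)) :
    (compOf Q d ⊓ Q : Subgroup G).relIndex (compOf Q d) = 3 := by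
  have h1 := card_compOf hQ hd3 hd1 hdQ
  have h2 := card_mul_relIndex_eq (inf_le_left : compOf Q d ⊓ Q ≤ compOf Q d)
  rw [h1, mul_comm] at h2
  have hpos : 0 < Nat.card ↥(compOf Q d ⊓ Q : Subgroup G) := Nat.card_pos
  exact Nat.eq_of_mul_eq_mul_right hpos h2

/-- `O₂(K) = K ∩ Q`. -/
theorem pCoreOf_compOf [Finite G] {Q : Subgroup G} {d : G} (hQ : IsPGroup 2 ↥Q)
    (hd3 : d ^ 3 = 1) (hd1 : d ≠ 1) (hdQ : d ∈ Subgroup.normalizer (Q : Set G)) :
    pCoreOf 2 (compOf Q d) = compOf Q d ⊓ Q ∧ (pCoreOf 2 (compOf Q d)).relIndex (compOf Q d) = 3 := by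
  have hP : compOf Q d ⊓ Q ≤ pCoreOf 2 (compOf Q d) :=
    Cfsg.Agent.Lib.Helper7.le_pCoreIn inf_le_left (hQ.to_le inf_le_right)
      (compOf_le_normalizer_inf hdQ)
  have h3 := relIndex_inf_compOf hQ hd3 hd1 hdQ
  have hdvd := Subgroup.relIndex_dvd_of_le_left (compOf Q d) hP
  rw [h3] at hdvd
  have hne : (pCoreOf 2 (compOf Q d)).relIndex (compOf Q d) ≠ 1 := by
    intro h
    rw [Subgroup.relIndex_eq_one] at h
    have hdO : d ∈ pCoreOf 2 (compOf Q d) := h (d_mem_compOf hd3)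
    have := zpowers_inf_eq_bot (pCoreOf_isPGroup (compOf Q d)) hd3
    have hd : d ∈ Subgroup.zpowers d ⊓ pCoreOf 2 (compOf Q d) := ⟨Subgroup.mem_zpowers d, hdO⟩
    rw [this, Subgroup.mem_bot] at hd
    exact hd1 hd
  have hidx : (pCoreOf 2 (compOf Q d)).relIndex (compOf Q d) = 3 := by
    rcases (Nat.dvd_prime Nat.prime_three).1 hdvd with h | h
    · exact absurd h hne
    · exact h
  refine ⟨?_, hidx⟩
  symm
  apply Subgroup.eq_of_le_of_card_ge hP
  have h4 := card_mul_relIndex_eq (pCoreOf_le (compOf Q d))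
  have h5 := card_mul_relIndex_eq (inf_le_left : compOf Q d ⊓ Q ≤ compOf Q d)
  rw [hidx] at h4
  rw [h3] at h5
  omega

theorem closure_odd_compOf (Q : Subgroup G) (d : G) :
    Subgroup.closure {g : G | g ∈ compOf Q d ∧ Odd (orderOf g)} = compOf Q d := by
  apply le_antisymm
  · exact (Subgroup.closure_le _).2 (fun g hg => hg.1)
  · unfold compOf
    apply Subgroup.closure_mono
    rintro g ⟨hg, ho⟩
    exact ⟨Subgroup.subset_closure ⟨hg, ho⟩, ho⟩

end Cfsg.Agent.Lib.Helper9.KS
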