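import Mathlib
import Cfsg.Prelude
import Cfsg.Agent.Lib.Helper9.KSu

set_option autoImplicit false
set_option linter.unusedSectionVars false
set_option linter.unusedVariables false
set_option linter.style.longLine false
set_option linter.unusedSimpArgs false
open Cfsg

set_option maxHeartbeats 1600000
namespace Cfsg.Agent.Lib.Helper9.KS

open Cfsg.Agent.Lib.Helper1 Cfsg.Agent.Lib.Helper3.JC
open scoped commutatorElement

variable {G : Type*} [Group G]

theorem mem_normalizer_closure_of_conj' {S : Set G} {t : G}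
    (h1 : ∀ s ∈ S, t * s * t⁻¹ ∈ Subgroup.closure S)
    (h2 : ∀ s ∈ S, t⁻¹ * s * t ∈ Subgroup.closure S) :
    t ∈ Subgroup.normalizer (Subgroup.closure S : Set G) := by
  apply mem_normalizer_of_conj
  · intro b hb
    induction hb using Subgroup.closure_induction with
    | mem x hx => exact h1 x hx
    | one => simp
    | mul x y _ _ hx hy =>
      have : t * (x * y) * t⁻¹ = (t * x * t⁻¹) * (t * y * t⁻¹) := by group
      rw [this]; exact Subgroup.mul_mem _ hx hy
    | inv x _ hx =>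
      have : t * x⁻¹ * t⁻¹ = (t * x * t⁻¹)⁻¹ := by group
      rw [this]; exact Subgroup.inv_mem _ hx
  · intro b hb
    induction hb using Subgroup.closure_induction with
    | mem x hx => exact h2 x hx
    | one => simp
    | mul x y _ _ hx hy =>
      have : t⁻¹ * (x * y) * t = (t⁻¹ * x * t) * (t⁻¹ * y * t) := by group
      rw [this]; exact Subgroup.mul_mem _ hx hy
    | inv x _ hx =>
      have : t⁻¹ * x⁻¹ * t = (t⁻¹ * x * t)⁻¹ := by group
      rw [this]; exact Subgroup.inv_mem _ hx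

/-- `K` normalizes `[K, J]`. -/
theorem le_normalizer_commutator (K J : Subgroup G) :
    K ≤ Subgroup.normalizer ((⁅K, J⁆ : Subgroup G) : Set G) := by
  intro k hk
  have key : ∀ k ∈ K, ∀ s ∈ {g | ∃ g₁ ∈ K, ∃ g₂ ∈ J, ⁅g₁, g₂⁆ = g},
      k * s * k⁻¹ ∈ Subgroup.closure {g | ∃ g₁ ∈ K, ∃ g₂ ∈ J, ⁅g₁, g₂⁆ = g} := by
    rintro k hk _ ⟨k', hk', j, hj, rfl⟩
    have e : k * ⁅k', j⁆ * k⁻¹ = ⁅k * k', j⁆ * ⁅k, j⁆⁻¹ := by
      simp only [commutatorElement_def]; group
    rw [e]
    exact Subgroup.mul_mem _ (Subgroup.subset_closure ⟨k * k', K.mul_mem hk hk', j, hj, rfl⟩)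
      (Subgroup.inv_mem _ (Subgroup.subset_closure ⟨k, hk, j, hj, rfl⟩))
  rw [Subgroup.commutator_def]
  apply mem_normalizer_closure_of_conj'
  · exact key k hk
  · intro s hs
    have := key k⁻¹ (K.inv_mem hk) s hs
    rwa [inv_inv] at this

/-- `[K, J] = K` for the candidate component. -/
theorem commutator_compOf [Finite G] {Q J : Subgroup G} {d a : G} (hQ : IsPGroup 2 ↥Q)
    (hd3 : d ^ 3 = 1) (hdQ : d ∈ Subgroup.normalizer (Q : Set G))
    (hJK : J ≤ Subgroup.normalizer (compOf Q d : Set G)) (ha : a ∈ J)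
    (had : a * d * a⁻¹ = d⁻¹) : ⁅compOf Q d, J⁆ = compOf Q d := by
  apply le_antisymm
  · rw [Subgroup.commutator_le]
    intro k hk j hj
    have h1 := (Subgroup.mem_normalizer_iff.mp (hJK hj) k⁻¹).mp (Subgroup.inv_mem _ hk)
    have e : ⁅k, j⁆ = k * (j * k⁻¹ * j⁻¹) := by simp only [commutatorElement_def]; group
    rw [e]
    exact Subgroup.mul_mem _ hk h1
  · have hdK : d ∈ compOf Q d := d_mem_compOf hd3
    have hdM : d ∈ ⁅compOf Q d, J⁆ := by
      have h1 : ⁅d, a⁆ ∈ ⁅compOf Q d, J⁆ := Subgroup.commutator_mem_commutator hdK ha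
      have e : ⁅d, a⁆ = d * d := by
        have : a * d⁻¹ * a⁻¹ = d := by
          have h := congrArg (fun z => z⁻¹) had
          simp only [inv_inv, mul_inv_rev] at h
          rw [← mul_assoc] at h
          exact h
        rw [commutatorElement_def, mul_assoc, mul_assoc, ← mul_assoc a, this]
      rw [e] at h1
      have e2 : (d * d) * (d * d) = d := by
        have : d * d * (d * d) = d ^ 3 * d := by
          rw [pow_succ, pow_succ, pow_one]; simp only [mul_assoc]
        rw [this, hd3, one_mul]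
      have h2 := Subgroup.mul_mem _ h1 h1
      rwa [e2] at h2
    have hPn : (compOf Q d ⊓ Q : Subgroup G) ≤
        Subgroup.normalizer ((⁅compOf Q d, J⁆ : Subgroup G) : Set G) :=
      inf_le_left.trans (le_normalizer_commutator _ _)
    unfold compOf
    rw [Subgroup.closure_le]
    rintro g ⟨hg, ho⟩
    have hgK : g ∈ compOf Q d := mem_compOf_of_odd hg ho
    obtain ⟨q, hq, z, hz, rfl⟩ := exists_mul_of_mem_compOf hd3 hdQ hgK
    have hzM : z ∈ ⁅compOf Q d, J⁆ := (Subgroup.zpowers_le).2 hdM hz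
    have hmem : q * z ∈ ⁅compOf Q d, J⁆ ⊔ (compOf Q d ⊓ Q : Subgroup G) :=
      Subgroup.mul_mem _ (le_sup_right (a := ⁅compOf Q d, J⁆) hq)
        (le_sup_left (b := (compOf Q d ⊓ Q : Subgroup G)) hzM)
    exact mem_of_odd_of_mem_sup (hQ.to_le inf_le_right) hPn hmem ho

/-- The Thompson subgroup of a `2`-subgroup of `L` lying over `J(T)`, `T` a Sylow
`2`-subgroup of `L`. -/
theorem thompson_eq_of_between [Finite G] {T L S : Subgroup G} (hT : IsSylowTwoIn T L)
    (hSL : S ≤ L) (hS : IsPGroup 2 ↥S) (hJS : thompsonSubgroupOf 2 T ≤ S) :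
    thompsonSubgroupOf 2 S = thompsonSubgroupOf 2 T := by
  obtain ⟨l, hl, hconj⟩ := exists_conj_le hT hSL hS
  have hST' : S ≤ T.map (MulAut.conj l⁻¹).toMonoidHom := by
    intro s hs
    rw [mem_map_conj, inv_inv]
    exact hconj s hs
  obtain ⟨A, hA⟩ := exists_maxElAbIn T
  have hA' := maxElAbIn_map (MulAut.conj l⁻¹) hA
  have hcard : Nat.card ↥(A.map (MulAut.conj l⁻¹).toMonoidHom) = Nat.card A :=
    Subgroup.card_map_of_injective (MulAut.conj l⁻¹).injective
  have hAS : A ∈ maxElAbIn 2 S := by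
    refine ⟨(le_thompsonSubgroupOf_of_mem hA).trans hJS, hA.2.1, ?_⟩
    intro B hB hBe
    have := hA'.2.2 B (hB.trans hST') hBe
    rwa [hcard] at this
  have h1 : thompsonSubgroupOf 2 T ≤ thompsonSubgroupOf 2 S :=
    thompsonOf_le_of_le hJS hA hAS rfl
  have h2 : thompsonSubgroupOf 2 S ≤
      thompsonSubgroupOf 2 (T.map (MulAut.conj l⁻¹).toMonoidHom) :=
    thompsonOf_le_of_le ((thompsonSubgroupOf_le_self 2 S).trans hST') hAS hA' hcard.symm
  have h3 : Nat.card ↥(thompsonSubgroupOf 2 (T.map (MulAut.conj l⁻¹).toMonoidHom)) =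
      Nat.card ↥(thompsonSubgroupOf 2 T) := by
    rw [thompsonOf_map]
    exact Subgroup.card_map_of_injective (MulAut.conj l⁻¹).injective
  have h4 : Nat.card ↥(thompsonSubgroupOf 2 S) ≤ Nat.card ↥(thompsonSubgroupOf 2 T) := by
    rw [← h3]; exact Subgroup.card_le_of_le h2
  exact (Subgroup.eq_of_le_of_card_ge h1 h4).symm

end Cfsg.Agent.Lib.Helper9.KS
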