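import Mathlib
import Cfsg.Prelude
import Cfsg.Agent.Lib.Helper9.KSv

set_option autoImplicit false
set_option linter.unusedSectionVars false
set_option linter.unusedVariables false
set_option linter.style.longLine false
set_option linter.unusedSimpArgs false
open Cfsg

set_option maxHeartbeats 1600000
namespace Cfsg.Agent.Lib.Helper9.KS

open Cfsg.Agent.Lib.Helper1 Cfsg.Agent.Lib.Helper3.JC
open scoped commutatorElement

variable {G : Type*} [Group G]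

theorem nmh_pow_apply (Z : Subgroup G) (x : ↥(Subgroup.normalizer (Z : Set G))) (n : ℕ) (z : ↥Z) :
    ((((Z.normalizerMonoidHom x) ^ n) z : ↥Z) : G) = (x : G) ^ n * (z : G) * ((x : G) ^ n)⁻¹ := by
  rw [← map_pow, nmh_apply]
  simp

/-- The trace `w · w^d · w^{d²}` vanishes on `[Z, K]` when `K` acts on the abelian group `Z`
through `⟨d⟩`, `d³ = 1`. -/
theorem trace_commutator {Z K : Subgroup G} {d : G}
    (hZc : ∀ x ∈ Z, ∀ y ∈ Z, x * y = y * x) (hd3 : d ^ 3 = 1)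
    (hdZ : d ∈ Subgroup.normalizer (Z : Set G))
    (hK : ∀ k ∈ K, ∃ q ∈ Subgroup.centralizer (Z : Set G), ∃ n : ℕ, k = q * d ^ n) :
    ∀ w ∈ ⁅Z, K⁆, w ∈ Z ∧ w * (d * w * d⁻¹) * (d * (d * w * d⁻¹) * d⁻¹) = 1 := by
  letI : CommGroup ↥Z := { (inferInstance : Group ↥Z) with
    mul_comm := fun x y => Subtype.ext (hZc x x.2 y y.2) }
  set σ : MulAut ↥Z := Z.normalizerMonoidHom ⟨d, hdZ⟩ with hσ
  have hσ3 : ∀ x : ↥Z, σ (σ (σ x)) = x := by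
    intro x
    have h : σ ^ 3 = 1 := by
      rw [hσ, ← map_pow]
      have : (⟨d, hdZ⟩ : ↥(Subgroup.normalizer (Z : Set G))) ^ 3 = 1 := Subtype.ext hd3
      rw [this, map_one]
    have := congrArg (fun f : MulAut ↥Z => f x) h
    simpa [pow_succ, MulAut.mul_apply] using this
  let θ : ↥Z →* ↥Z := MonoidHom.id _ * σ.toMonoidHom * (σ * σ).toMonoidHom
  have hθ : ∀ x : ↥Z, θ x = x * σ x * σ (σ x) := fun x => rfl
  have hθσ : ∀ x : ↥Z, θ (σ x) = θ x := by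
    intro x
    rw [hθ, hθ, hσ3]
    ac_rfl
  have hθpow : ∀ (n : ℕ) (x : ↥Z), θ ((σ ^ n) x) = θ x := by
    intro n
    induction n with
    | zero => intro x; simp
    | succ n ih =>
      intro x
      rw [pow_succ', MulAut.mul_apply, hθσ, ih]
  have key : ∀ w ∈ ⁅Z, K⁆, ∃ hw : w ∈ Z, θ ⟨w, hw⟩ = 1 := by
    intro w hw
    rw [Subgroup.commutator_def] at hw
    induction hw using Subgroup.closure_induction with
    | mem x hx =>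
      obtain ⟨z, hz, k, hk, rfl⟩ := hx
      obtain ⟨q, hq, n, rfl⟩ := hK k hk
      have hu : ((σ ^ n) ⟨z, hz⟩ : G) = d ^ n * z * (d ^ n)⁻¹ := nmh_pow_apply Z ⟨d, hdZ⟩ n ⟨z, hz⟩
      have hqu : q * (d ^ n * z⁻¹ * (d ^ n)⁻¹) * q⁻¹ = d ^ n * z⁻¹ * (d ^ n)⁻¹ := by
        have hmem : d ^ n * z⁻¹ * (d ^ n)⁻¹ ∈ Z := by
          have h1 : (((σ ^ n) ⟨z, hz⟩)⁻¹ : ↥Z) = (σ ^ n) ⟨z, hz⟩⁻¹ := (map_inv _ _).symm
          have h2 := ((σ ^ n) (⟨z, hz⟩ : ↥Z)⁻¹).2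
          have h3 : (((σ ^ n) (⟨z, hz⟩ : ↥Z)⁻¹ : ↥Z) : G) = d ^ n * z⁻¹ * (d ^ n)⁻¹ :=
            nmh_pow_apply Z ⟨d, hdZ⟩ n (⟨z, hz⟩ : ↥Z)⁻¹
          rw [h3] at h2
          exact h2
        have := Subgroup.mem_centralizer_iff.mp hq _ hmem
        rw [← this]; group
      have e : ⁅z, q * d ^ n⁆ = z * (d ^ n * z * (d ^ n)⁻¹)⁻¹ := by
        rw [commutatorElement_def]
        have : z * (q * d ^ n) * z⁻¹ * (q * d ^ n)⁻¹ = z * (q * (d ^ n * z⁻¹ * (d ^ n)⁻¹) * q⁻¹) := by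
          group
        rw [this, hqu]; group
      have hmem : ⁅z, q * d ^ n⁆ ∈ Z := by
        rw [e, ← hu]
        exact Z.mul_mem hz (Z.inv_mem ((σ ^ n) ⟨z, hz⟩).2)
      refine ⟨hmem, ?_⟩
      have e2 : (⟨⁅z, q * d ^ n⁆, hmem⟩ : ↥Z) = ⟨z, hz⟩ * ((σ ^ n) ⟨z, hz⟩)⁻¹ := by
        apply Subtype.ext
        rw [Subgroup.coe_mul, Subgroup.coe_inv, hu]
        exact e
      rw [e2, map_mul, map_inv, hθpow, mul_inv_cancel]
    | one => exact ⟨Z.one_mem, map_one θ⟩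
    | mul x y _ _ hx hy =>
      obtain ⟨hxZ, hx1⟩ := hx
      obtain ⟨hyZ, hy1⟩ := hy
      refine ⟨Z.mul_mem hxZ hyZ, ?_⟩
      have : (⟨x * y, Z.mul_mem hxZ hyZ⟩ : ↥Z) = ⟨x, hxZ⟩ * ⟨y, hyZ⟩ := rfl
      rw [this, map_mul, hx1, hy1, one_mul]
    | inv x _ hx =>
      obtain ⟨hxZ, hx1⟩ := hx
      refine ⟨Z.inv_mem hxZ, ?_⟩
      have : (⟨x⁻¹, Z.inv_mem hxZ⟩ : ↥Z) = (⟨x, hxZ⟩ : ↥Z)⁻¹ := rfl
      rw [this, map_inv, hx1, inv_one]
  intro w hw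
  obtain ⟨hwZ, h1⟩ := key w hw
  refine ⟨hwZ, ?_⟩
  have h2 := congrArg Subtype.val h1
  rw [hθ] at h2
  simpa [hσ, nmh_apply] using h2

theorem eq_one_of_fixed_of_trace {d w : G} (h2 : w * w = 1) (hfix : d * w * d⁻¹ = w)
    (ht : w * (d * w * d⁻¹) * (d * (d * w * d⁻¹) * d⁻¹) = 1) : w = 1 := by
  rw [hfix, hfix, h2, one_mul] at ht
  exact ht

end Cfsg.Agent.Lib.Helper9.KS
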