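import Mathlib
import Cfsg.Prelude
import Cfsg.Agent.Lib.Helper9.KSw

set_option autoImplicit false
set_option linter.unusedSectionVars false
set_option linter.unusedVariables false
set_option linter.style.longLine false
set_option linter.unusedSimpArgs false
open Cfsg

set_option maxHeartbeats 1600000
namespace Cfsg.Agent.Lib.Helper9.KS

open Cfsg.Agent.Lib.Helper1 Cfsg.Agent.Lib.Helper3.JC
open scoped commutatorElement

variable {G : Type*} [Group G]

theorem exists_nat_pow_of_mem_zpowers {d z : G} (hd3 : d ^ 3 = 1) (hz : z ∈ Subgroup.zpowers d) :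
    ∃ n : ℕ, z = d ^ n := by
  obtain ⟨i, rfl⟩ := Subgroup.mem_zpowers_iff.mp hz
  have ho : orderOf d ≠ 0 :=
    (isOfFinOrder_iff_pow_eq_one.2 ⟨3, by norm_num, hd3⟩).orderOf_pos.ne'
  refine ⟨(i % (orderOf d : ℤ)).toNat, ?_⟩
  rw [← zpow_natCast, Int.toNat_of_nonneg (Int.emod_nonneg _ (by exact_mod_cast ho)),
    zpow_mod_orderOf]

theorem le_normalizer_sup_zpowers {Q J : Subgroup G} {d : G}
    (hJQ : J ≤ Subgroup.normalizer (Q : Set G))
    (hinv : ∀ j ∈ J, j * d * j⁻¹ * d⁻¹ ∈ Q ∨ j * d * j⁻¹ * d ∈ Q) :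
    J ≤ Subgroup.normalizer ((Q ⊔ Subgroup.zpowers d : Subgroup G) : Set G) := by
  have key : ∀ j ∈ J, ∀ y ∈ Q ⊔ Subgroup.zpowers d, j * y * j⁻¹ ∈ Q ⊔ Subgroup.zpowers d := by
    intro j hj y hy
    have hmap : (Q ⊔ Subgroup.zpowers d).map (MulAut.conj j).toMonoidHom ≤
        Q ⊔ Subgroup.zpowers d := by
      rw [Subgroup.map_sup, MonoidHom.map_zpowers]
      apply sup_le
      · refine le_trans ?_ le_sup_left
        rintro _ ⟨q, hq, rfl⟩
        exact (Subgroup.mem_normalizer_iff.mp (hJQ hj) q).mp hq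
      · rw [Subgroup.zpowers_le]
        show j * d * j⁻¹ ∈ Q ⊔ Subgroup.zpowers d
        have hdY : d ∈ Q ⊔ Subgroup.zpowers d := le_sup_right (a := Q) (Subgroup.mem_zpowers d)
        rcases hinv j hj with h | h
        · have : j * d * j⁻¹ = (j * d * j⁻¹ * d⁻¹) * d := by group
          rw [this]
          exact Subgroup.mul_mem _ (le_sup_left (b := Subgroup.zpowers d) h) hdY
        · have : j * d * j⁻¹ = (j * d * j⁻¹ * d) * d⁻¹ := by group
          rw [this]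
          exact Subgroup.mul_mem _ (le_sup_left (b := Subgroup.zpowers d) h)
            (Subgroup.inv_mem _ hdY)
    exact hmap ⟨y, hy, rfl⟩
  intro j hj
  apply mem_normalizer_of_conj (key j hj)
  intro y hy
  have := key j⁻¹ (J.inv_mem hj) y hy
  rwa [inv_inv] at this

theorem comm_on_W {W : Subgroup G} {d y p : G} (hyW : y ∈ Subgroup.normalizer (W : Set G))
    (hdW : d ∈ Subgroup.normalizer (W : Set G)) (hp : y * d * y⁻¹ * d⁻¹ = p)
    (hpW : ∀ w ∈ W, p * w = w * p) :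
    ∀ w ∈ W, y * (d * w * d⁻¹) * y⁻¹ = d * (y * w * y⁻¹) * d⁻¹ := by
  intro w hw
  have h1 : y * w * y⁻¹ ∈ W := (Subgroup.mem_normalizer_iff.mp hyW w).mp hw
  have h2 : d * (y * w * y⁻¹) * d⁻¹ ∈ W := (Subgroup.mem_normalizer_iff.mp hdW _).mp h1
  have e : y * (d * w * d⁻¹) * y⁻¹ =
      (y * d * y⁻¹ * d⁻¹) * (d * (y * w * y⁻¹) * d⁻¹) * (y * d * y⁻¹ * d⁻¹)⁻¹ := by group
  rw [e, hp, hpW _ h2]
  group

section Assembly

variable [Finite G]

/-- the four-group condition for the candidate component. -/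
theorem card_wOf_compOf {T Q V J A : Subgroup G} {a d : G}
    (hQ : IsPGroup 2 ↥Q) (hQT : Q ≤ T) (hA : A ∈ maxElAbIn 2 T)
    (hAJ : A ≤ J) (hJQ : J ≤ Subgroup.normalizer (Q : Set G))
    (hJK : J ≤ Subgroup.normalizer (compOf Q d : Set G))
    (ha : a ∈ A) (hd3 : d ^ 3 = 1) (hd1 : d ≠ 1) (hdQ : d ∈ Subgroup.normalizer (Q : Set G))
    (had : a * d * a⁻¹ = d⁻¹)
    (hinv : ∀ j ∈ J, j * d * j⁻¹ * d⁻¹ ∈ Q ∨ j * d * j⁻¹ * d ∈ Q)
    (hVQ : V ≤ Q) (hV2 : ∀ v ∈ V, v * v = 1) (hVc : ∀ v ∈ V, ∀ q ∈ Q, q * v = v * q)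
    (hdV : d ∈ Subgroup.normalizer (V : Set G))
    (hdC : d ∉ Subgroup.centralizer (V : Set G)) :
    Nat.card ↥(wOf (compOf Q d)) = 4 ∧ ∀ w ∈ wOf (compOf Q d), w * w = 1 := by
  obtain ⟨hP, hidx⟩ := pCoreOf_compOf hQ hd3 hd1 hdQ
  have hdK : d ∈ compOf Q d := d_mem_compOf hd3
  have hnzKZ : Nz (compOf Q d) (omegaCenterOf (pCoreOf 2 (compOf Q d))) :=
    nz_omegaCenterOf (nz_self_pCoreOf _)
  have hWZ : wOf (compOf Q d) ≤ omegaCenterOf (pCoreOf 2 (compOf Q d)) := by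
    unfold wOf
    exact Subgroup.le_normalizer_iff_commutator_le_left.mp hnzKZ.le_normalizer
  have hZP : omegaCenterOf (pCoreOf 2 (compOf Q d)) ≤ pCoreOf 2 (compOf Q d) :=
    (omegaCenterOf_le _).trans inf_le_left
  have hZsq := omegaCenterOf_sq (pCoreOf 2 (compOf Q d))
  have hWsq : ∀ w ∈ wOf (compOf Q d), w * w = 1 := fun w hw => hZsq w (hWZ hw)
  -- `P` centralizes `Z`
  have hPZ : ∀ p ∈ compOf Q d ⊓ Q, ∀ z ∈ omegaCenterOf (pCoreOf 2 (compOf Q d)), p * z = z * p := by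
    intro p hp z hz
    have h1 := (omegaCenterOf_le _ hz).2
    rw [← hP] at hp
    exact Subgroup.mem_centralizer_iff.mp h1 p hp
  have hKN : Subgroup.normalizer (compOf Q d : Set G) ≤
      Subgroup.normalizer (wOf (compOf Q d) : Set G) := wOf_normalizer_le
  have hdW : d ∈ Subgroup.normalizer (wOf (compOf Q d) : Set G) :=
    hKN (Subgroup.le_normalizer hdK)
  have hAW : A ≤ Subgroup.normalizer (wOf (compOf Q d) : Set G) := (hAJ.trans hJK).trans hKN
  -- trace on `W`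
  have htr := trace_commutator (Z := omegaCenterOf (pCoreOf 2 (compOf Q d))) (K := compOf Q d)
    (d := d) (fun x hx y hy => comm_of_sq hZsq hx hy) hd3 (hnzKZ.le_normalizer hdK)
    (by
      intro k hk
      obtain ⟨q, hq, z, hz, rfl⟩ := exists_mul_of_mem_compOf hd3 hdQ hk
      obtain ⟨n, rfl⟩ := exists_nat_pow_of_mem_zpowers hd3 hz
      refine ⟨q, ?_, n, rfl⟩
      rw [Subgroup.mem_centralizer_iff]
      intro z hz
      exact (hPZ q hq z hz).symm)
  have hfpf : ∀ w ∈ wOf (compOf Q d), d * w * d⁻¹ = w → w = 1 := by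
    intro w hw hfix
    exact eq_one_of_fixed_of_trace (hWsq w hw) hfix (htr w hw).2
  -- the commuting condition
  have hC1 : ∀ y ∈ J, y * d * y⁻¹ * d⁻¹ ∈ Q →
      ∀ w ∈ wOf (compOf Q d), y * (d * w * d⁻¹) * y⁻¹ = d * (y * w * y⁻¹) * d⁻¹ := by
    intro y hy hyQ
    have hyK : y * d * y⁻¹ * d⁻¹ ∈ compOf Q d :=
      Subgroup.mul_mem _ ((Subgroup.mem_normalizer_iff.mp (hJK hy) d).mp hdK)
        (Subgroup.inv_mem _ hdK)
    apply comm_on_W (hKN (hJK hy)) hdW rfl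
    intro w hw
    exact hPZ _ ⟨hyK, hyQ⟩ w (hWZ hw)
  have haJ : a ∈ J := hAJ ha
  have hAd : ∀ x ∈ A,
      (∀ w ∈ wOf (compOf Q d), x * (d * w * d⁻¹) * x⁻¹ = d * (x * w * x⁻¹) * d⁻¹) ∨
      (∀ w ∈ wOf (compOf Q d),
        (a * x) * (d * w * d⁻¹) * (a * x)⁻¹ = d * ((a * x) * w * (a * x)⁻¹) * d⁻¹) := by
    intro x hx
    rcases hinv x (hAJ hx) with h | h
    · exact Or.inl (hC1 x (hAJ hx) h)
    · right
      apply hC1 (a * x) (J.mul_mem haJ (hAJ hx))
      have had' : a * d⁻¹ * a⁻¹ = d := by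
        have h := congrArg (fun z => z⁻¹) had
        simp only [inv_inv, mul_inv_rev] at h
        rw [← mul_assoc] at h
        exact h
      have e : a * x * d * (a * x)⁻¹ * d⁻¹ = a * (x * d * x⁻¹ * d) * a⁻¹ := by
        have : a * (x * d * x⁻¹ * d) * a⁻¹ = a * x * d * (a * x)⁻¹ * (a * d * a⁻¹) := by group
        rw [this, had]
      rw [e]
      exact (Subgroup.mem_normalizer_iff.mp (hJQ haJ) _).mp h
  have hcomp := card_le_four_of_competitor hA
    ((hWZ.trans hZP).trans ((hP.le.trans inf_le_right).trans hQT))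
    (isElementaryAbelian_of_sq hWsq) hd3 ha had hdW hAW hfpf hAd
  refine ⟨hcomp.2 ?_, hWsq⟩
  -- `W ≠ 1`
  intro hW1
  apply hdC
  rw [Subgroup.mem_centralizer_iff]
  intro v hv
  have hvQ := hVQ hv
  have huV : ⁅v, d⁆ ∈ V := by
    rw [commutatorElement_def]
    have h1 : d * v⁻¹ * d⁻¹ ∈ V := (Subgroup.mem_normalizer_iff.mp hdV _).mp (V.inv_mem hv)
    have : v * d * v⁻¹ * d⁻¹ = v * (d * v⁻¹ * d⁻¹) := by group
    rw [this]; exact V.mul_mem hv h1
  have hvN : v ∈ Subgroup.normalizer (compOf Q d : Set G) :=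
    normalizer_le_normalizer_compOf Q d
      (Subgroup.le_normalizer (le_sup_left (b := Subgroup.zpowers d) hvQ))
  have huK : ⁅v, d⁆ ∈ compOf Q d := by
    rw [commutatorElement_def]
    exact Subgroup.mul_mem _ ((Subgroup.mem_normalizer_iff.mp hvN d).mp hdK)
      (Subgroup.inv_mem _ hdK)
  have huP : ⁅v, d⁆ ∈ pCoreOf 2 (compOf Q d) := by rw [hP]; exact ⟨huK, hVQ huV⟩
  have huZ : ⁅v, d⁆ ∈ omegaCenterOf (pCoreOf 2 (compOf Q d)) := by
    apply mem_omegaCenterOf huP _ (hV2 _ huV)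
    intro y hy
    rw [hP] at hy
    exact hVc _ huV y hy.2
  have hw : ⁅⁅v, d⁆, d⁆ ∈ wOf (compOf Q d) := Subgroup.commutator_mem_commutator huZ hdK
  rw [hW1, Subgroup.mem_bot] at hw
  have hfix : d * ⁅v, d⁆ * d⁻¹ = ⁅v, d⁆ := by
    have h1 : ⁅⁅v, d⁆, d⁆ = ⁅v, d⁆ * (d * ⁅v, d⁆ * d⁻¹)⁻¹ := by
      nth_rewrite 1 [commutatorElement_def]
      group
    rw [h1] at hw
    have := eq_of_mul_inv_eq_one hw
    exact this.symm
  have htrV := trace_commutator (Z := V) (K := Subgroup.zpowers d) (d := d)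
    (fun x hx y hy => comm_of_sq hV2 hx hy) hd3 hdV
    (by
      intro k hk
      obtain ⟨n, rfl⟩ := exists_nat_pow_of_mem_zpowers hd3 hk
      exact ⟨1, Subgroup.one_mem _, n, by simp⟩)
  have hu1 : ⁅v, d⁆ = 1 :=
    eq_one_of_fixed_of_trace (hV2 _ huV) hfix
      (htrV _ (Subgroup.commutator_mem_commutator hv (Subgroup.mem_zpowers d))).2
  rw [commutatorElement_def] at hu1
  have : v * d = d * v := by
    have h2 : v * d * v⁻¹ * d⁻¹ * (d * v) = d * v := by rw [hu1, one_mul]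
    rw [← h2]; group
  exact this

end Assembly

end Cfsg.Agent.Lib.Helper9.KS
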