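import Mathlib
import Cfsg.Prelude
import Cfsg.Agent.Lib.Helper9.KSx

set_option autoImplicit false
set_option linter.unusedSectionVars false
set_option linter.unusedVariables false
set_option linter.style.longLine false
set_option linter.unusedSimpArgs false
open Cfsg

set_option maxHeartbeats 1600000
namespace Cfsg.Agent.Lib.Helper9.KS

open Cfsg.Agent.Lib.Helper1 Cfsg.Agent.Lib.Helper3.JC
open scoped commutatorElement

variable {G : Type*} [Group G]

/-- **Existence of `J(T)`-components** (group-theoretic part): from an element `d` of order `3`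
inverted by an element `a` of a maximal elementary abelian subgroup of `T`, acting nontrivially
on `Ω₁Z(O₂(L))` and normalized modulo `O₂(L)` by `J(T)` up to inversion. -/
theorem isJComponent_compOf [Finite G] {T L : Subgroup G} (hLT : L ∈ jOvergroups T)
    {A : Subgroup G} (hA : A ∈ maxElAbIn 2 T) {a d : G} (ha : a ∈ A) (hdL : d ∈ L)
    (hd3 : d ^ 3 = 1) (had : a * d * a⁻¹ = d⁻¹)
    (hdC : d ∉ Subgroup.centralizer (omegaCenterOf (pCoreOf 2 L) : Set G))
    (hinv : ∀ j ∈ thompsonSubgroupOf 2 T,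
      j * d * j⁻¹ * d⁻¹ ∈ pCoreOf 2 L ∨ j * d * j⁻¹ * d ∈ pCoreOf 2 L) :
    IsJComponent T (compOf (pCoreOf 2 L) d) ∧ compOf (pCoreOf 2 L) d ≤ L ∧
      d ∈ compOf (pCoreOf 2 L) d := by
  have hQ := pCoreOf_isPGroup L
  have hQT := pCoreOf_le_of_isSylowTwoIn hLT.1
  have hQL := pCoreOf_le L
  have hLQ : L ≤ Subgroup.normalizer (pCoreOf 2 L : Set G) := (nz_self_pCoreOf L).le_normalizer
  have hJT : thompsonSubgroupOf 2 T ≤ T := thompsonSubgroupOf_le_self 2 T
  have hJL : thompsonSubgroupOf 2 T ≤ L := hJT.trans hLT.1.1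
  have hJQ := hJL.trans hLQ
  have hdQ := hLQ hdL
  have hd1 : d ≠ 1 := by
    rintro rfl
    exact hdC (Subgroup.one_mem _)
  have hJK := (le_normalizer_sup_zpowers hJQ hinv).trans
    (normalizer_le_normalizer_compOf (pCoreOf 2 L) d)
  have hAJ := le_thompsonSubgroupOf_of_mem hA
  have hKL : compOf (pCoreOf 2 L) d ≤ L :=
    (compOf_le _ _).trans (sup_le hQL ((Subgroup.zpowers_le).2 hdL))
  have hcard := card_wOf_compOf (V := omegaCenterOf (pCoreOf 2 L)) hQ hQT hA hAJ hJQ hJK ha hd3 hd1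
    hdQ had hinv ((omegaCenterOf_le _).trans inf_le_left) (omegaCenterOf_sq _)
    (by
      intro v hv q hq
      exact Subgroup.mem_centralizer_iff.mp (omegaCenterOf_le _ hv).2 q hq)
    ((nz_omegaCenterOf (nz_self_pCoreOf L)).le_normalizer hdL) hdC
  refine ⟨⟨closure_odd_compOf _ _, commutator_compOf hQ hd3 hdQ hJK (hAJ ha) had,
    (pCoreOf_compOf hQ hd3 hd1 hdQ).2, ?_, hcard.1, hcard.2⟩, hKL, d_mem_compOf hd3⟩
  intro S hS hJS
  exact thompson_eq_of_between hLT.1 (hS.1.trans (sup_le hKL hJL)) hS.2.1 hJS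

end Cfsg.Agent.Lib.Helper9.KS
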