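import Mathlib
import Cfsg.Prelude
import Cfsg.Agent.Lib.Helper9.KSy

set_option autoImplicit false
set_option linter.unusedSectionVars false
set_option linter.unusedVariables false
set_option linter.style.longLine false
set_option linter.unusedSimpArgs false
open Cfsg

set_option maxHeartbeats 1600000
namespace Cfsg.Agent.Lib.Helper9.KS

open Cfsg.Agent.Lib.Helper1 Cfsg.Agent.Lib.Helper3.JC
open scoped commutatorElement

section Abstract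

variable {H : Type*} [Group H]

theorem comm_of_inverted {α δ γ : H} (hδ3 : δ ^ 3 = 1) (hαδ : α * δ * α⁻¹ = δ⁻¹)
    (hαγ : α * γ = γ * α) (hαζ : α * (δ * γ * δ⁻¹ * γ⁻¹) = (δ * γ * δ⁻¹ * γ⁻¹) * α) :
    δ * γ = γ * δ := by
  have hαγ' : α * γ * α⁻¹ = γ := by rw [hαγ]; group
  have hζ : α * (δ * γ * δ⁻¹ * γ⁻¹) * α⁻¹ = δ * γ * δ⁻¹ * γ⁻¹ := by rw [hαζ]; group
  have e : α * (δ * γ * δ⁻¹ * γ⁻¹) * α⁻¹ =
      (α * δ * α⁻¹) * (α * γ * α⁻¹) * (α * δ * α⁻¹)⁻¹ * (α * γ * α⁻¹)⁻¹ := by group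
  rw [e, hαδ, hαγ', inv_inv] at hζ
  have h1 : δ⁻¹ * γ * δ = δ * γ * δ⁻¹ := by
    have := congrArg (fun z => z * γ) hζ
    simpa [mul_assoc] using this
  have h2 : δ * δ = δ⁻¹ := by
    have : δ * δ * δ = 1 := by rw [← hδ3, pow_succ, pow_succ, pow_one]
    exact eq_inv_of_mul_eq_one_left this
  have h3 : γ = δ⁻¹ * γ * δ := by
    calc γ = δ * (δ⁻¹ * γ * δ) * δ⁻¹ := by group
      _ = δ * (δ * γ * δ⁻¹) * δ⁻¹ := by rw [h1]
      _ = (δ * δ) * γ * (δ * δ)⁻¹ := by group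
      _ = δ⁻¹ * γ * δ := by rw [h2, inv_inv]
  calc δ * γ = δ * (δ⁻¹ * γ * δ) := by rw [← h3]
    _ = γ * δ := by group

theorem conj_pow_eq {τ δ γ : H} (h : τ * δ * τ⁻¹ = δ * γ) (hc : τ * γ = γ * τ) (k : ℕ) :
    τ ^ k * δ * (τ ^ k)⁻¹ = δ * γ ^ k := by
  induction k with
  | zero => simp
  | succ k ih =>
    have hc' : τ * γ ^ k * τ⁻¹ = γ ^ k := by
      have : Commute τ (γ ^ k) := (show Commute τ γ from hc).pow_right k
      rw [this.eq]; group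
    calc τ ^ (k + 1) * δ * (τ ^ (k + 1))⁻¹ = τ * (τ ^ k * δ * (τ ^ k)⁻¹) * τ⁻¹ := by
          rw [pow_succ']; group
      _ = τ * (δ * γ ^ k) * τ⁻¹ := by rw [ih]
      _ = (τ * δ * τ⁻¹) * (τ * γ ^ k * τ⁻¹) := by group
      _ = δ * γ ^ (k + 1) := by rw [h, hc', pow_succ']; group

theorem eq_one_of_pow_two_pow_of_pow_odd {γ : H} {m r : ℕ} (h1 : γ ^ (2 ^ m) = 1)
    (h2 : γ ^ r = 1) (hr : Odd r) : γ = 1 := by
  have hc : Nat.Coprime (2 ^ m) r := Nat.Coprime.pow_left m (Nat.coprime_two_left.mpr hr)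
  have d1 := orderOf_dvd_of_pow_eq_one h1
  have d2 := orderOf_dvd_of_pow_eq_one h2
  exact orderOf_eq_one_iff.mp (Nat.eq_one_of_dvd_coprimes hc d1 d2)

end Abstract

section GLevel

variable {G : Type*} [Group G]

theorem nz_cent_V (L : Subgroup G) :
    Nz L (Subgroup.centralizer (omegaCenterOf (pCoreOf 2 L) : Set G)) :=
  (nz_omegaCenterOf (nz_self_pCoreOf L)).centralizer

/-- a `2`-element of `C_L(V)` lies in `O₂(L)`. -/
theorem two_elt_cent_mem [Finite G]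
    (hZ : ∀ S : Sylow 2 G, Subgroup.centralizer (Cfsg.omegaCenterOf (S : Subgroup G) : Set G) ≤
      Subgroup.normalizer ((S : Subgroup G) : Set G))
    {T L : Subgroup G} (hLT : L ∈ jOvergroups T) {c : G} (hcL : c ∈ L)
    (hc : c ∈ Subgroup.centralizer (omegaCenterOf (pCoreOf 2 L) : Set G)) {k : ℕ}
    (hck : c ^ (2 ^ k) = 1) : c ∈ pCoreOf 2 L := by
  have : Fact (Nat.Prime 2) := ⟨Nat.prime_two⟩
  have hB : IsPGroup 2 ↥(Subgroup.zpowers c) := by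
    obtain ⟨j, _, hj⟩ := (Nat.dvd_prime_pow Nat.prime_two).1 (orderOf_dvd_of_pow_eq_one hck)
    apply IsPGroup.of_card (n := j)
    rw [Nat.card_zpowers, hj]
  obtain ⟨l, hl, hconj⟩ := exists_conj_le hLT.1 ((Subgroup.zpowers_le).2 hcL) hB
  have h1 := hconj c (Subgroup.mem_zpowers c)
  have h2 : l * c * l⁻¹ ∈ L := L.mul_mem (L.mul_mem hl hcL) (L.inv_mem hl)
  have h3 := nz_cent_V L l hl c hc
  have h4 := inf_cent_le_pCoreOf hZ hLT ⟨h1, h2, h3⟩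
  have h5 := (nz_self_pCoreOf L).inv_conj hl h4
  have e : l⁻¹ * (l * c * l⁻¹) * l = c := by group
  rwa [e] at h5

theorem odd_pow_cent_mem [Finite G]
    (hZ : ∀ S : Sylow 2 G, Subgroup.centralizer (Cfsg.omegaCenterOf (S : Subgroup G) : Set G) ≤
      Subgroup.normalizer ((S : Subgroup G) : Set G))
    {T L : Subgroup G} (hLT : L ∈ jOvergroups T) {c : G} (hcL : c ∈ L)
    (hc : c ∈ Subgroup.centralizer (omegaCenterOf (pCoreOf 2 L) : Set G)) :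
    ∃ r : ℕ, Odd r ∧ c ^ r ∈ pCoreOf 2 L := by
  have hn : orderOf c ≠ 0 := (orderOf_pos c).ne'
  obtain ⟨k, r, hr, hkr⟩ := Nat.exists_eq_two_pow_mul_odd hn
  refine ⟨r, hr, ?_⟩
  apply two_elt_cent_mem hZ hLT (L.pow_mem hcL r) (Subgroup.pow_mem _ hc r) (k := k)
  rw [← pow_mul, mul_comm, ← hkr, pow_orderOf_eq_one]

/-- **(INV)**, first case. -/
theorem conj_comm_mem_pCoreOf [Finite G]
    (hZ : ∀ S : Sylow 2 G, Subgroup.centralizer (Cfsg.omegaCenterOf (S : Subgroup G) : Set G) ≤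
      Subgroup.normalizer ((S : Subgroup G) : Set G))
    {T L : Subgroup G} (hLT : L ∈ jOvergroups T) {d t : G} (hdL : d ∈ L) (ht : t ∈ T)
    (hC : t * d * t⁻¹ * d⁻¹ ∈ Subgroup.centralizer (omegaCenterOf (pCoreOf 2 L) : Set G)) :
    t * d * t⁻¹ * d⁻¹ ∈ pCoreOf 2 L := by
  have hTL : T ≤ L := hLT.1.1
  have htL := hTL ht
  have hQL := pCoreOf_le L
  have hLQ : L ≤ Subgroup.normalizer (pCoreOf 2 L : Set G) := (nz_self_pCoreOf L).le_normalizer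
  haveI hQn : ((pCoreOf 2 L).subgroupOf L).Normal :=
    (Subgroup.normal_subgroupOf_iff_le_normalizer hQL).mpr hLQ
  -- the element `c₀ = d⁻¹ (t d t⁻¹)`
  have hc0C : d⁻¹ * (t * d * t⁻¹) ∈
      Subgroup.centralizer (omegaCenterOf (pCoreOf 2 L) : Set G) := by
    have := (nz_cent_V L).inv_conj hdL hC
    have e : d⁻¹ * (t * d * t⁻¹ * d⁻¹) * d = d⁻¹ * (t * d * t⁻¹) := by group
    rwa [e] at this
  have hc0L : d⁻¹ * (t * d * t⁻¹) ∈ L :=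
    L.mul_mem (L.inv_mem hdL) (L.mul_mem (L.mul_mem htL hdL) (L.inv_mem htL))
  set π := QuotientGroup.mk' ((pCoreOf 2 L).subgroupOf L) with hπ
  have hπ1 : ∀ x : ↥L, π x = 1 ↔ (x : G) ∈ pCoreOf 2 L := by
    intro x
    rw [hπ, QuotientGroup.mk'_apply, QuotientGroup.eq_one_iff, Subgroup.mem_subgroupOf]
  -- `τ` commutes with `γ`
  have hcomm : π ⟨t, htL⟩ * π ⟨d⁻¹ * (t * d * t⁻¹), hc0L⟩ =
      π ⟨d⁻¹ * (t * d * t⁻¹), hc0L⟩ * π ⟨t, htL⟩ := by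
    have h1 := comm_cent_mem hZ hLT hc0L hc0C ht
    have h2 : π ⁅(⟨d⁻¹ * (t * d * t⁻¹), hc0L⟩ : ↥L), (⟨t, htL⟩ : ↥L)⁆ = 1 := by
      rw [hπ1]
      exact h1
    rw [map_commutatorElement, commutatorElement_eq_one_iff_mul_comm] at h2
    exact h2.symm
  have hconj : π ⟨t, htL⟩ * π ⟨d, hdL⟩ * (π ⟨t, htL⟩)⁻¹ =
      π ⟨d, hdL⟩ * π ⟨d⁻¹ * (t * d * t⁻¹), hc0L⟩ := by
    rw [← map_inv, ← map_mul, ← map_mul, ← map_mul]
    congr 1
    apply Subtype.ext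
    simp only [Subgroup.coe_mul, Subgroup.coe_inv]
    group
  obtain ⟨m, hm⟩ := hLT.1.2.1 ⟨t, ht⟩
  have htm : t ^ (2 ^ m) = 1 := by
    have := congrArg Subtype.val hm
    simpa using this
  have h1 := conj_pow_eq hconj hcomm (2 ^ m)
  have hτ : π ⟨t, htL⟩ ^ (2 ^ m) = 1 := by
    rw [← map_pow]
    have : (⟨t, htL⟩ : ↥L) ^ (2 ^ m) = 1 := Subtype.ext (by simpa using htm)
    rw [this, map_one]
  rw [hτ, one_mul, inv_one, mul_one] at h1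
  have hγ1 : π ⟨d⁻¹ * (t * d * t⁻¹), hc0L⟩ ^ (2 ^ m) = 1 := by
    have := congrArg (fun z => (π ⟨d, hdL⟩)⁻¹ * z) h1
    simpa using this.symm
  obtain ⟨r, hr, hrQ⟩ := odd_pow_cent_mem hZ hLT hc0L hc0C
  have hγ2 : π ⟨d⁻¹ * (t * d * t⁻¹), hc0L⟩ ^ r = 1 := by
    rw [← map_pow, hπ1]
    simpa using hrQ
  have hγ := eq_one_of_pow_two_pow_of_pow_odd hγ1 hγ2 hr
  rw [hπ1] at hγ
  have h5 := nz_self_pCoreOf L d hdL _ hγ
  have e : d * (d⁻¹ * (t * d * t⁻¹)) * d⁻¹ = t * d * t⁻¹ * d⁻¹ := by group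
  rwa [e] at h5

/-- **(INV)**, second case. -/
theorem conj_mul_mem_pCoreOf [Finite G]
    (hZ : ∀ S : Sylow 2 G, Subgroup.centralizer (Cfsg.omegaCenterOf (S : Subgroup G) : Set G) ≤
      Subgroup.normalizer ((S : Subgroup G) : Set G))
    {T L : Subgroup G} (hLT : L ∈ jOvergroups T) {a d t : G} (haT : a ∈ T) (hdL : d ∈ L)
    (had : a * d * a⁻¹ = d⁻¹) (ht : t ∈ T)
    (hC : t * d * t⁻¹ * d ∈ Subgroup.centralizer (omegaCenterOf (pCoreOf 2 L) : Set G)) :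
    t * d * t⁻¹ * d ∈ pCoreOf 2 L := by
  have e : (t * a) * d * (t * a)⁻¹ * d⁻¹ = (d * (t * d * t⁻¹ * d) * d⁻¹)⁻¹ := by
    have : (t * a) * d * (t * a)⁻¹ * d⁻¹ = t * (a * d * a⁻¹) * t⁻¹ * d⁻¹ := by group
    rw [this, had]; group
  have h1 : (t * a) * d * (t * a)⁻¹ * d⁻¹ ∈
      Subgroup.centralizer (omegaCenterOf (pCoreOf 2 L) : Set G) := by
    rw [e]
    exact Subgroup.inv_mem _ (nz_cent_V L d hdL _ hC)
  have h2 := conj_comm_mem_pCoreOf hZ hLT hdL (T.mul_mem ht haT) h1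
  rw [e] at h2
  have h3 := (nz_self_pCoreOf L).inv_conj hdL (Subgroup.inv_mem _ h2)
  rw [inv_inv] at h3
  have e2 : d⁻¹ * (d * (t * d * t⁻¹ * d) * d⁻¹) * d = t * d * t⁻¹ * d := by group
  rwa [e2] at h3

end GLevel

end Cfsg.Agent.Lib.Helper9.KS
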