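import Mathlib
import Cfsg.Prelude
import Cfsg.Agent.Lib.Helper9.KSz

set_option autoImplicit false
set_option linter.unusedSectionVars false
set_option linter.unusedVariables false
set_option linter.style.longLine false
set_option linter.unusedSimpArgs false
open Cfsg

set_option maxHeartbeats 1600000
namespace Cfsg.Agent.Lib.Helper9.KS

open Cfsg.Agent.Lib.Helper1 Cfsg.Agent.Lib.Helper3.JC
open Cfsg.Agent.Lib.Helper1.FF Cfsg.Agent.Lib.Helper1.TF
open scoped commutatorElement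

variable {G : Type*} [Group G]

/-- `Ω₁Z(O₂(L))` as a subgroup of `↥L`. -/
abbrev VL (L : Subgroup G) : Subgroup ↥L := (omegaCenterOf (pCoreOf 2 L)).subgroupOf L

theorem inv_mul_inv_of_pow_three {H : Type*} [Group H] {g : H} (h : g ^ 3 = 1) :
    g⁻¹ * g⁻¹ = g := by
  have h' : g * g * g = 1 := by rw [← h, pow_succ, pow_succ, pow_one]
  calc g⁻¹ * g⁻¹ = g⁻¹ * g⁻¹ * (g * g * g) := by rw [h', mul_one]
    _ = g := by group

/-- **FF extraction**: a transvection group below the image of `A ∈ 𝒜(T)` yields the data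
`(a, d)` of the existence theorem. -/
theorem exists_data_of_trH [Finite G]
    (hZ : ∀ S : Sylow 2 G, Subgroup.centralizer (Cfsg.omegaCenterOf (S : Subgroup G) : Set G) ≤
      Subgroup.normalizer ((S : Subgroup G) : Set G))
    {T L : Subgroup G} (hLT : L ∈ jOvergroups T) [hVn : (VL L).Normal]
    {Q' : Subgroup (Amb (VL L))}
    (s : Setup 2 (VV (VL L)) (tr (VL L) (thompsonSubgroup 2 ↥L)) Q')
    (hS3 : tr (VL L) (thompsonSubgroup 2 ↥L) = ⨆ A : {A : Subgroup (Amb (VL L)) //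
      A ≤ tr (VL L) (thompsonSubgroup 2 ↥L) ∧ IsBestOffenderOn 2 (VV (VL L)) A},
      (A : Subgroup (Amb (VL L))))
    {A : Subgroup G} (hA : A ∈ maxElAbIn 2 T)
    {B : Subgroup (Amb (VL L))} (hB : s.IsTrH B) (hBA : B ≤ tr (VL L) (A.subgroupOf L)) :
    ∃ a ∈ A, ∃ d : G, ∃ hdL : d ∈ L, d ^ 3 = 1 ∧ a * d * a⁻¹ = d⁻¹ ∧
      d ∉ Subgroup.centralizer (omegaCenterOf (pCoreOf 2 L) : Set G) ∧
      tau (VL L) ⟨d, hdL⟩ ∈ ⁅Q', B⁆ ∧ tau (VL L) ⟨d, hdL⟩ ≠ 1 ∧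
      (∀ j ∈ thompsonSubgroupOf 2 T,
        j * d * j⁻¹ * d⁻¹ ∈ pCoreOf 2 L ∨ j * d * j⁻¹ * d ∈ pCoreOf 2 L) := by
  have h2 : Fact (Nat.Prime 2) := ⟨Nat.prime_two⟩
  have h3 : Fact (Nat.Prime 3) := ⟨Nat.prime_three⟩
  have hTL : T ≤ L := hLT.1.1
  have hVL := V_le L
  have hJT : thompsonSubgroupOf 2 T ≤ T := thompsonSubgroupOf_le_self 2 T
  obtain ⟨b, hb, hb1⟩ := exists_ne_one_of_card_prime hB.hcard
  obtain ⟨a', ha'A, rfl⟩ := hBA hb
  have haA : (a' : G) ∈ A := Subgroup.mem_subgroupOf.1 ha'A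
  have haT : (a' : G) ∈ T := hA.1 haA
  obtain ⟨n, hn, hn1⟩ := exists_ne_one_of_card_prime (trH_card_N hB)
  have hNH : ⁅Q', B⁆ ≤ tr (VL L) (thompsonSubgroup 2 ↥L) := hB.N_le_Q.trans s.hQH
  obtain ⟨x, hxJ, rfl⟩ := hNH hn
  have hn3 := trH_pow_three hB hn
  have hinvn := trH_invert hB hb hb1 hn
  have ha2 : a' * a' = 1 := by
    apply Subtype.ext
    have := hA.2.1.2 (a' : G) haA
    rw [pow_two] at this
    exact this
  have hai : a'⁻¹ = a' := inv_eq_of_mul_eq_one_left ha2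
  -- the element `y`
  have hty : tau (VL L) (x⁻¹ * (a' * x * a'⁻¹)) = tau (VL L) x := by
    rw [map_mul, map_inv, map_mul, map_mul, map_inv, hinvn]
    exact inv_mul_inv_of_pow_three hn3
  have hay : a' * (x⁻¹ * (a' * x * a'⁻¹)) * a'⁻¹ = (x⁻¹ * (a' * x * a'⁻¹))⁻¹ := by
    have e1 : a' * (x⁻¹ * (a' * x * a'⁻¹)) * a'⁻¹ = a' * x⁻¹ * a' * x * (a'⁻¹ * a'⁻¹) := by group
    have e2 : (x⁻¹ * (a' * x * a'⁻¹))⁻¹ = a' * x⁻¹ * a'⁻¹ * x := by group
    rw [e1, e2, hai, ha2, mul_one]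
  generalize x⁻¹ * (a' * x * a'⁻¹) = y at hty hay
  -- `y ^ 6 ∈ Q`
  have hy3ker : y ^ 3 ∈ (tau (VL L)).ker := by
    rw [MonoidHom.mem_ker, map_pow, hty, hn3]
  have hy3C : ((y ^ 3 : ↥L) : G) ∈ Subgroup.centralizer (omegaCenterOf (pCoreOf 2 L) : Set G) := by
    rw [mem_ker_tau] at hy3ker
    exact (coe_mem_centralizer hVL).1 hy3ker
  have hcomm := comm_cent_mem hZ hLT (y ^ 3).2 hy3C haT
  have hy6 : ((y ^ 6 : ↥L) : G) ∈ pCoreOf 2 L := by
    have e : ⁅((y ^ 3 : ↥L) : G), (a' : G)⁆ = ((y ^ 6 : ↥L) : G) := by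
      have e1 : ⁅y ^ 3, a'⁆ = y ^ 6 := by
        have h1 : a' * y ^ 3 * a'⁻¹ = (y ^ 3)⁻¹ := by
          rw [← conj_pow, hay, inv_pow]
        rw [commutatorElement_def]
        have : y ^ 3 * a' * (y ^ 3)⁻¹ * a'⁻¹ = y ^ 3 * (a' * y ^ 3 * a'⁻¹)⁻¹ := by group
        rw [this, h1, inv_inv, ← pow_add]
      have := congrArg (fun z : ↥L => (z : G)) e1
      simpa [commutatorElement_def] using this
    rw [← e]; exact hcomm
  obtain ⟨k, hk⟩ := pCoreOf_isPGroup L ⟨_, hy6⟩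
  have hk' : (y ^ 6) ^ (2 ^ k) = 1 := by
    apply Subtype.ext
    have := congrArg Subtype.val hk
    simpa using this
  -- the element `d`
  have hd3 : (y ^ (2 ^ (k + 1))) ^ 3 = 1 := by
    rw [← pow_mul]
    have : 2 ^ (k + 1) * 3 = 6 * 2 ^ k := by rw [pow_succ]; ring
    rw [this, pow_mul, hk']
  have had : a' * y ^ (2 ^ (k + 1)) * a'⁻¹ = (y ^ (2 ^ (k + 1)))⁻¹ := by
    rw [← conj_pow, hay, inv_pow]
  have htd : tau (VL L) (y ^ (2 ^ (k + 1))) = tau (VL L) x ^ (2 ^ (k + 1)) := by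
    rw [map_pow, hty]
  have htdN : tau (VL L) (y ^ (2 ^ (k + 1))) ∈ ⁅Q', B⁆ := by
    rw [htd]; exact Subgroup.pow_mem _ hn _
  have htd1 : tau (VL L) (y ^ (2 ^ (k + 1))) ≠ 1 := by
    rw [htd]
    intro h
    have ho : orderOf (tau (VL L) x) = 3 := orderOf_eq_prime hn3 hn1
    have hdvd := orderOf_dvd_of_pow_eq_one h
    rw [ho] at hdvd
    have := (Nat.Prime.dvd_of_dvd_pow Nat.prime_three hdvd)
    omega
  generalize y ^ (2 ^ (k + 1)) = d' at hd3 had htdN htd1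
  have hdC : (d' : G) ∉ Subgroup.centralizer (omegaCenterOf (pCoreOf 2 L) : Set G) := by
    intro h
    apply htd1
    rw [← MonoidHom.mem_ker, mem_ker_tau]
    exact (coe_mem_centralizer hVL).2 h
  have hd3G : (d' : G) ^ 3 = 1 := by
    have := congrArg Subtype.val hd3
    simpa using this
  have hadG : (a' : G) * (d' : G) * (a' : G)⁻¹ = (d' : G)⁻¹ := by
    have := congrArg Subtype.val had
    simpa using this
  refine ⟨(a' : G), haA, (d' : G), d'.2, hd3G, hadG, hdC, htdN, htd1, ?_⟩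
  -- (INV)
  intro j hj
  have hjL : j ∈ L := hTL (hJT hj)
  have hjH : tau (VL L) ⟨j, hjL⟩ ∈ tr (VL L) (thompsonSubgroup 2 ↥L) := by
    apply Subgroup.mem_map_of_mem
    apply thompson_subgroupOf_le hLT.1
    exact Subgroup.mem_subgroupOf.2 hj
  have hjE := hB.H_le_normalizer_E hS3 hjH
  -- `tau j` normalizes `N`
  have hNeq : (⁅Q', B⁆).map (MulAut.conj (tau (VL L) ⟨j, hjL⟩)).toMonoidHom = ⁅Q', B⁆ := by
    apply trH_N_eq hB
    · rintro _ ⟨n', hn', rfl⟩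
      exact (Subgroup.mem_normalizer_iff.mp hjE n').mp (le_sup_left (b := B) hn')
    · rw [Subgroup.card_map_of_injective (MulAut.conj _).injective, trH_card_N hB]
  have hm : tau (VL L) ⟨j, hjL⟩ * tau (VL L) d' * (tau (VL L) ⟨j, hjL⟩)⁻¹ ∈ ⁅Q', B⁆ := by
    rw [← hNeq]
    exact ⟨_, htdN, rfl⟩
  have hNz := eq_zpowers_of_card_prime (trH_card_N hB) htdN htd1
  rw [hNz] at hm
  have hg3 : tau (VL L) d' ^ 3 = 1 := by rw [← map_pow, hd3, map_one]
  obtain ⟨i, hi⟩ := exists_nat_pow_of_mem_zpowers hg3 hm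
  rw [pow_eq_pow_mod i hg3] at hi
  have hi3 : i % 3 < 3 := Nat.mod_lt _ (by norm_num)
  have hcentV : ∀ z : ↥L, tau (VL L) z = 1 →
      (z : G) ∈ Subgroup.centralizer (omegaCenterOf (pCoreOf 2 L) : Set G) := by
    intro z hz
    rw [← MonoidHom.mem_ker, mem_ker_tau] at hz
    exact (coe_mem_centralizer hVL).1 hz
  interval_cases h : i % 3
  · exfalso
    rw [pow_zero] at hi
    apply htd1
    have := congrArg (fun z => (tau (VL L) ⟨j, hjL⟩)⁻¹ * z * tau (VL L) ⟨j, hjL⟩) hi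
    simpa [mul_assoc] using this
  · left
    rw [pow_one] at hi
    have h1 : tau (VL L) (⟨j, hjL⟩ * d' * ⟨j, hjL⟩⁻¹ * d'⁻¹) = 1 := by
      rw [map_mul, map_mul, map_mul, map_inv, map_inv, hi, mul_inv_cancel]
    have h2 := hcentV _ h1
    exact conj_comm_mem_pCoreOf hZ hLT d'.2 (hJT hj) (by simpa using h2)
  · right
    have h1 : tau (VL L) (⟨j, hjL⟩ * d' * ⟨j, hjL⟩⁻¹ * d') = 1 := by
      rw [map_mul, map_mul, map_mul, map_inv, hi, ← pow_succ, hg3]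
    have h2 := hcentV _ h1
    exact conj_mul_mem_pCoreOf hZ hLT haT d'.2 hadG (hJT hj) (by simpa using h2)

end Cfsg.Agent.Lib.Helper9.KS
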