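import Mathlib
import Cfsg.Prelude
import Cfsg.Agent.Lib.Helper9.KTa

set_option autoImplicit false
set_option linter.unusedSectionVars false
set_option linter.unusedVariables false
set_option linter.style.longLine false
set_option linter.unusedSimpArgs false
open Cfsg

set_option maxHeartbeats 1600000
namespace Cfsg.Agent.Lib.Helper9.KS

open Cfsg.Agent.Lib.Helper1 Cfsg.Agent.Lib.Helper3.JC
open Cfsg.Agent.Lib.Helper1.FF Cfsg.Agent.Lib.Helper1.TF
open scoped commutatorElement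

variable {G : Type*} [Group G]

theorem maxElAbIn_of_sylow [Finite G] {T L A : Subgroup G} (hT : IsSylowTwoIn T L)
    (hA : A ∈ maxElAbIn 2 T) : A ∈ maxElAbIn 2 L := by
  refine ⟨hA.1.trans hT.1, hA.2.1, ?_⟩
  intro B hBL hB
  obtain ⟨l, hl, hconj⟩ := exists_conj_le hT hBL (elab_isPGroup hB)
  have h1 : B.map (MulAut.conj l).toMonoidHom ≤ T := by
    rintro _ ⟨b, hb, rfl⟩
    exact hconj b hb
  have h2 := hA.2.2 _ h1 (isElementaryAbelian_map hB _)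
  rwa [Subgroup.card_map_of_injective (MulAut.conj l).injective] at h2

theorem tr_subgroupOf_le [Finite G] {T L A : Subgroup G} (hT : IsSylowTwoIn T L)
    (hA : A ∈ maxElAbIn 2 T) [hVn : (VL L).Normal] :
    tr (VL L) (A.subgroupOf L) ≤ tr (VL L) (thompsonSubgroup 2 ↥L) := by
  apply Subgroup.map_mono
  refine le_trans ?_ (thompson_subgroupOf_le hT)
  intro x hx
  rw [Subgroup.mem_subgroupOf] at hx ⊢
  exact le_thompsonSubgroupOf_of_mem hA hx

/-- the image of `A ∈ 𝒜(T)` is a join of transvection groups. -/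
theorem tr_eq_iSup_trH [Finite G] {T L : Subgroup G} (hLT : L ∈ jOvergroups T)
    [hVn : (VL L).Normal] (hVea : IsElementaryAbelian 2 (VL L))
    {Q' : Subgroup (Amb (VL L))}
    (s : Setup 2 (VV (VL L)) (tr (VL L) (thompsonSubgroup 2 ↥L)) Q')
    {A : Subgroup G} (hA : A ∈ maxElAbIn 2 T) (hA1 : tr (VL L) (A.subgroupOf L) ≠ ⊥) :
    ∃ (k : ℕ) (B : Fin k → Subgroup (Amb (VL L))),
      (∀ i, s.IsTrH (B i) ∧ B i ≤ tr (VL L) (A.subgroupOf L)) ∧
      ⨆ i, B i = tr (VL L) (A.subgroupOf L) := by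
  have h2 : Fact (Nat.Prime 2) := ⟨Nat.prime_two⟩
  have hAH := tr_subgroupOf_le hLT.1 hA
  have hmem : A.subgroupOf L ∈ maxElementaryAbelianSubgroups 2 ↥L :=
    subgroupOf_mem_of_mem_maxElAbIn (maxElAbIn_of_sylow hLT.1 hA)
  have hbo : IsBestOffenderOn 2 (VV (VL L)) (tr (VL L) (A.subgroupOf L)) :=
    isBestOffenderOn_tr (VL L) (isBestOffenderOn_of_mem_max (VL L) hVea _ hmem)
  obtain ⟨k, B, hB, -, hsup⟩ := s.exists_decomp hAH hbo hA1
  refine ⟨k, B, fun i => ⟨?_, (hB i).1⟩, hsup⟩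
  exact Setup.isTrH_of_minimal s ((hB i).1.trans hAH) (hB i).2.1 (hB i).2.2.1 (hB i).2.2.2

/-- **Existence** of the `J(T)`-component over a transvection group. -/
theorem exists_comp_of_trH [Finite G]
    (hZ : ∀ S : Sylow 2 G, Subgroup.centralizer (Cfsg.omegaCenterOf (S : Subgroup G) : Set G) ≤
      Subgroup.normalizer ((S : Subgroup G) : Set G))
    {T L : Subgroup G} (hLT : L ∈ jOvergroups T) [hVn : (VL L).Normal]
    {Q' : Subgroup (Amb (VL L))}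
    (s : Setup 2 (VV (VL L)) (tr (VL L) (thompsonSubgroup 2 ↥L)) Q')
    (hS3 : tr (VL L) (thompsonSubgroup 2 ↥L) = ⨆ A : {A : Subgroup (Amb (VL L)) //
      A ≤ tr (VL L) (thompsonSubgroup 2 ↥L) ∧ IsBestOffenderOn 2 (VV (VL L)) A},
      (A : Subgroup (Amb (VL L))))
    {A : Subgroup G} (hA : A ∈ maxElAbIn 2 T)
    {B : Subgroup (Amb (VL L))} (hB : s.IsTrH B) (hBA : B ≤ tr (VL L) (A.subgroupOf L)) :
    ∃ K : Subgroup G, IsJComponent T K ∧ K ≤ L ∧ ⁅Q', B⁆ ≤ tr (VL L) (K.subgroupOf L) := by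
  have h3 : Fact (Nat.Prime 3) := ⟨Nat.prime_three⟩
  obtain ⟨a, haA, d, hdL, hd3, had, hdC, htdN, htd1, hinv⟩ :=
    exists_data_of_trH hZ hLT s hS3 hA hB hBA
  obtain ⟨hK, hKL, hdK⟩ := isJComponent_compOf hLT hA haA hdL hd3 had hdC hinv
  refine ⟨_, hK, hKL, ?_⟩
  rw [eq_zpowers_of_card_prime (trH_card_N hB) htdN htd1, Subgroup.zpowers_le]
  exact ⟨⟨d, hdL⟩, Subgroup.mem_subgroupOf.2 hdK, rfl⟩

/-- some `A ∈ 𝒜(T)` acts nontrivially on `Ω₁Z(O₂(L))`. -/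
theorem exists_maxElAb_not_cent [Finite G]
    (hZ : ∀ S : Sylow 2 G, Subgroup.centralizer (Cfsg.omegaCenterOf (S : Subgroup G) : Set G) ≤
      Subgroup.normalizer ((S : Subgroup G) : Set G))
    {T L : Subgroup G} (hLT : L ∈ jOvergroups T) [hVn : (VL L).Normal] :
    ∃ A ∈ maxElAbIn 2 T, tr (VL L) (A.subgroupOf L) ≠ ⊥ := by
  have hVL := V_le L
  have hJQ := hLT.2.1
  rw [thompsonSubgroupOf_eq_sSup] at hJQ
  have : ∃ A ∈ maxElAbIn 2 T, ¬ A ≤ pCoreOf 2 L := by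
    by_contra hcon
    push Not at hcon
    exact hJQ (sSup_le hcon)
  obtain ⟨A, hA, hAQ⟩ := this
  refine ⟨A, hA, ?_⟩
  intro hbot
  apply hAQ
  intro a ha
  have haL : a ∈ L := hLT.1.1 (hA.1 ha)
  have h1 : tau (VL L) ⟨a, haL⟩ ∈ tr (VL L) (A.subgroupOf L) :=
    ⟨⟨a, haL⟩, Subgroup.mem_subgroupOf.2 ha, rfl⟩
  rw [hbot, Subgroup.mem_bot, ← MonoidHom.mem_ker, mem_ker_tau] at h1
  have h2 := (coe_mem_centralizer hVL).1 h1
  exact inf_cent_le_pCoreOf hZ hLT ⟨hA.1 ha, haL, h2⟩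

/-- **Existence of `J(T)`-components** in every member of `𝓛(T)`. -/
theorem exists_jcomponent [Finite G] (hL : Cfsg.IsCharacteristicTwoType G)
    (hN : ∀ N : Subgroup G, Cfsg.IsTwoLocal N → Group.IsSolvable ↥N)
    (hZ : ∀ S : Sylow 2 G, Subgroup.centralizer (Cfsg.omegaCenterOf (S : Subgroup G) : Set G) ≤
      Subgroup.normalizer ((S : Subgroup G) : Set G))
    {T L : Subgroup G} (hT : IsPGroup 2 ↥T) (hT1 : T ≠ ⊥) (hLT : L ∈ jOvergroups T) :
    ∃ K : Subgroup G, IsJComponent T K ∧ K ≤ L := by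
  haveI hVn : (VL L).Normal := V_normal L
  obtain ⟨hVea, Q', s, hS3⟩ := exists_setup hL hN hZ hT hT1 hLT
  obtain ⟨A, hA, hA1⟩ := exists_maxElAb_not_cent hZ hLT
  obtain ⟨k, B, hB, hsup⟩ := tr_eq_iSup_trH hLT hVea s hA hA1
  have hk : 0 < k := by
    rcases Nat.eq_zero_or_pos k with rfl | h
    · exfalso
      apply hA1
      rw [← hsup]
      simp
    · exact h
  obtain ⟨K, hK, hKL, -⟩ := exists_comp_of_trH hZ hLT s hS3 hA (hB ⟨0, hk⟩).1 (hB ⟨0, hk⟩).2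
  exact ⟨K, hK, hKL⟩

end Cfsg.Agent.Lib.Helper9.KS
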