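import Mathlib
import Cfsg.Prelude
import Cfsg.Agent.Lib.Helper9.KTb

set_option autoImplicit false
set_option linter.unusedSectionVars false
set_option linter.unusedVariables false
set_option linter.style.longLine false
set_option linter.unusedSimpArgs false
open Cfsg

set_option maxHeartbeats 1600000
namespace Cfsg.Agent.Lib.Helper9.KS

open Cfsg.Agent.Lib.Helper1 Cfsg.Agent.Lib.Helper3.JC
open scoped commutatorElement

variable {G : Type*} [Group G]

/-- `J(↥L)` as a subgroup of `G`. -/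
def thompsonIn (L : Subgroup G) : Subgroup G := (thompsonSubgroup 2 ↥L).map L.subtype

theorem thompsonIn_le (L : Subgroup G) : thompsonIn L ≤ L := Subgroup.map_subtype_le _

theorem le_normalizer_thompsonIn (L : Subgroup G) :
    L ≤ Subgroup.normalizer (thompsonIn L : Set G) := by
  have hJchar := thompsonSubgroup_characteristic 2 ↥L
  haveI hJn : (thompsonSubgroup 2 ↥L).Normal := inferInstance
  intro l hl
  apply mem_normalizer_of_conj
  · rintro _ ⟨x, hx, rfl⟩
    exact ⟨⟨l, hl⟩ * x * ⟨l, hl⟩⁻¹, hJn.conj_mem x hx ⟨l, hl⟩, by simp⟩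
  · rintro _ ⟨x, hx, rfl⟩
    have := hJn.conj_mem x hx ⟨l, hl⟩⁻¹
    rw [inv_inv] at this
    exact ⟨⟨l, hl⟩⁻¹ * x * ⟨l, hl⟩, this, by simp⟩

theorem thompsonOf_le_thompsonIn [Finite G] {T L : Subgroup G} (hT : IsSylowTwoIn T L) :
    thompsonSubgroupOf 2 T ≤ thompsonIn L := by
  intro x hx
  have hxL : x ∈ L := hT.1 (thompsonSubgroupOf_le_self 2 T hx)
  exact ⟨⟨x, hxL⟩, thompson_subgroupOf_le hT (Subgroup.mem_subgroupOf.2 hx), rfl⟩

/-- an element of `L` moving `J(T)` into a `2`-subgroup of `L` containing `J(T)` normalizes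
`J(T)`. -/
theorem mem_normalizer_thompson_of_map_le [Finite G] {T L S₁ : Subgroup G}
    (hT : IsSylowTwoIn T L) (hS₁L : S₁ ≤ L) (hS₁ : IsPGroup 2 ↥S₁)
    (hJS₁ : thompsonSubgroupOf 2 T ≤ S₁) {g : G} (hg : g ∈ L)
    (hgJ : (thompsonSubgroupOf 2 T).map (MulAut.conj g).toMonoidHom ≤ S₁) :
    g ∈ Subgroup.normalizer (thompsonSubgroupOf 2 T : Set G) := by
  have hJeq := thompson_eq_of_between hT hS₁L hS₁ hJS₁
  have hle : (thompsonSubgroupOf 2 T).map (MulAut.conj g).toMonoidHom ≤ thompsonSubgroupOf 2 T := by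
    nth_rewrite 1 [thompsonSubgroupOf_eq_sSup]
    rw [Subgroup.map_le_iff_le_comap]
    apply sSup_le
    intro A hA
    rw [← Subgroup.map_le_iff_le_comap, ← hJeq]
    apply le_thompsonSubgroupOf_of_mem
    have hAL := maxElAbIn_of_sylow hT hA
    refine ⟨(Subgroup.map_mono (le_thompsonSubgroupOf_of_mem hA)).trans hgJ,
      isElementaryAbelian_map hA.2.1 _, ?_⟩
    intro B hB hBe
    rw [Subgroup.card_map_of_injective (MulAut.conj g).injective]
    exact hAL.2.2 B (hB.trans hS₁L) hBe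
  apply mem_normalizer_of_map_conj_eq
  apply Subgroup.eq_of_le_of_card_ge hle
  rw [Subgroup.card_map_of_injective (MulAut.conj g).injective]

/-- **Frattini**: `L = J(L) N_L(J(T))`. -/
theorem le_thompsonIn_sup_normalizer [Finite G] {T L : Subgroup G} (hT : IsSylowTwoIn T L) :
    L ≤ thompsonIn L ⊔ (L ⊓ Subgroup.normalizer (thompsonSubgroupOf 2 T : Set G)) := by
  have hJ2 : IsPGroup 2 ↥(thompsonSubgroupOf 2 T) :=
    hT.2.1.to_le (thompsonSubgroupOf_le_self 2 T)
  have hJJ := thompsonOf_le_thompsonIn hT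
  obtain ⟨S₁, hS₁, hJS₁⟩ := exists_isSylowTwoIn hJJ hJ2
  intro l hl
  have hJl : (thompsonSubgroupOf 2 T).map (MulAut.conj l).toMonoidHom ≤ thompsonIn L := by
    rintro _ ⟨x, hx, rfl⟩
    exact (Subgroup.mem_normalizer_iff.mp (le_normalizer_thompsonIn L hl) x).mp (hJJ hx)
  obtain ⟨x, hx, hconj⟩ := exists_conj_le hS₁ hJl (hJ2.map _)
  have hxL : x ∈ L := thompsonIn_le L hx
  have hg : x * l ∈ Subgroup.normalizer (thompsonSubgroupOf 2 T : Set G) := by
    apply mem_normalizer_thompson_of_map_le hT (hS₁.1.trans (thompsonIn_le L)) hS₁.2.1 hJS₁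
      (L.mul_mem hxL hl)
    rintro _ ⟨j, hj, rfl⟩
    have := hconj _ ⟨j, hj, rfl⟩
    have e : (MulAut.conj (x * l)).toMonoidHom j = x * (MulAut.conj l).toMonoidHom j * x⁻¹ := by
      show MulAut.conj (x * l) j = x * MulAut.conj l j * x⁻¹
      rw [MulAut.conj_apply, MulAut.conj_apply]; group
    rw [e]; exact this
  have e : l = x⁻¹ * (x * l) := by group
  rw [e]
  exact Subgroup.mul_mem _ (le_sup_left (b := L ⊓ Subgroup.normalizer
    (thompsonSubgroupOf 2 T : Set G)) (Subgroup.inv_mem _ hx))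
    (le_sup_right (a := thompsonIn L) ⟨L.mul_mem hxL hl, hg⟩)

end Cfsg.Agent.Lib.Helper9.KS
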