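import Mathlib
import Cfsg.Prelude
import Cfsg.Agent.Lib.Helper9.KTc

set_option autoImplicit false
set_option linter.unusedSectionVars false
set_option linter.unusedVariables false
set_option linter.style.longLine false
set_option linter.unusedSimpArgs false
open Cfsg

set_option maxHeartbeats 1600000
namespace Cfsg.Agent.Lib.Helper9.KS

open Cfsg.Agent.Lib.Helper1 Cfsg.Agent.Lib.Helper3.JC
open Cfsg.Agent.Lib.Helper1.FF Cfsg.Agent.Lib.Helper1.TF
open scoped commutatorElement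

variable {G : Type*} [Group G]

/-- every maximal elementary abelian `2`-subgroup of `L` is `J(L)`-conjugate to a member of
`𝒜(T)`. -/
theorem exists_conj_maxElAbIn [Finite G] {T L A' : Subgroup G} (hT : IsSylowTwoIn T L)
    (hA' : A' ∈ maxElAbIn 2 L) :
    ∃ A₁ ∈ maxElAbIn 2 T, ∃ x ∈ thompsonIn L, A' = A₁.map (MulAut.conj x).toMonoidHom := by
  obtain ⟨l, hl, hconj⟩ := exists_conj_le hT hA'.1 (elab_isPGroup hA'.2.1)
  have hA₀T : A'.map (MulAut.conj l).toMonoidHom ≤ T := by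
    rintro _ ⟨b, hb, rfl⟩
    exact hconj b hb
  have hA₀ : A'.map (MulAut.conj l).toMonoidHom ∈ maxElAbIn 2 T := by
    refine ⟨hA₀T, isElementaryAbelian_map hA'.2.1 _, ?_⟩
    intro B hB hBe
    rw [Subgroup.card_map_of_injective (MulAut.conj l).injective]
    exact hA'.2.2 B (hB.trans hT.1) hBe
  have hl' := le_thompsonIn_sup_normalizer hT (L.inv_mem hl)
  have hNJ : L ⊓ Subgroup.normalizer (thompsonSubgroupOf 2 T : Set G) ≤
      Subgroup.normalizer (thompsonIn L : Set G) := inf_le_left.trans (le_normalizer_thompsonIn L)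
  rw [← SetLike.mem_coe, Subgroup.coe_mul_of_right_le_normalizer_left _ _ hNJ] at hl'
  obtain ⟨x, hx, n, hn, hxn⟩ := Set.mem_mul.mp hl'
  have hA₁T : (A'.map (MulAut.conj l).toMonoidHom).map (MulAut.conj n).toMonoidHom ≤ T := by
    refine le_trans ?_ (thompsonSubgroupOf_le_self 2 T)
    rintro _ ⟨b, hb, rfl⟩
    exact (Subgroup.mem_normalizer_iff.mp hn.2 b).mp (le_thompsonSubgroupOf_of_mem hA₀ hb)
  refine ⟨_, conj_mem_maxElAbIn hA₀ n hA₁T, x, hx, ?_⟩
  rw [map_conj_mul, map_conj_mul]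
  have : x * n * l = 1 := by
    have h1 : x * n = l⁻¹ := hxn
    rw [h1, inv_mul_cancel]
  rw [this]
  ext y
  simp

/-- the subgroup generated by the `J(T)`-components of `L` and `N_L(J(T))`. -/
def genOf (T L : Subgroup G) : Subgroup G :=
  sSup {K : Subgroup G | IsJComponent T K ∧ K ≤ L} ⊔
    (L ⊓ Subgroup.normalizer (thompsonSubgroupOf 2 T : Set G))

theorem genOf_le (T L : Subgroup G) : genOf T L ≤ L :=
  sup_le (sSup_le (fun K hK => hK.2)) inf_le_left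

theorem thompson_le_genOf [Finite G] {T L : Subgroup G} (hT : IsSylowTwoIn T L) :
    thompsonSubgroupOf 2 T ≤ genOf T L := by
  refine le_trans ?_ le_sup_right
  exact le_inf ((thompsonSubgroupOf_le_self 2 T).trans hT.1) Subgroup.le_normalizer

section FFpart

variable [Finite G]
  (hZ : ∀ S : Sylow 2 G, Subgroup.centralizer (Cfsg.omegaCenterOf (S : Subgroup G) : Set G) ≤
      Subgroup.normalizer ((S : Subgroup G) : Set G))
  {T L : Subgroup G} (hLT : L ∈ jOvergroups T) [hVn : (VL L).Normal]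
  (hVea : IsElementaryAbelian 2 (VL L))
  {Q' : Subgroup (Amb (VL L))}
  (s : Setup 2 (VV (VL L)) (tr (VL L) (thompsonSubgroup 2 ↥L)) Q')
  (hS3 : tr (VL L) (thompsonSubgroup 2 ↥L) = ⨆ A : {A : Subgroup (Amb (VL L)) //
      A ≤ tr (VL L) (thompsonSubgroup 2 ↥L) ∧ IsBestOffenderOn 2 (VV (VL L)) A},
      (A : Subgroup (Amb (VL L))))

include hZ hLT hS3 in
/-- (d): `E_B ≤ tau(R)`. -/
theorem E_le_tr_genOf {A : Subgroup G} (hA : A ∈ maxElAbIn 2 T)
    {B : Subgroup (Amb (VL L))} (hB : s.IsTrH B) (hBA : B ≤ tr (VL L) (A.subgroupOf L)) :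
    ⁅Q', B⁆ ⊔ B ≤ tr (VL L) ((genOf T L).subgroupOf L) := by
  obtain ⟨K, hK, hKL, hN⟩ := exists_comp_of_trH hZ hLT s hS3 hA hB hBA
  apply sup_le
  · refine hN.trans (Subgroup.map_mono ?_)
    intro x hx
    rw [Subgroup.mem_subgroupOf] at hx ⊢
    exact le_sup_left (b := L ⊓ Subgroup.normalizer (thompsonSubgroupOf 2 T : Set G))
      (le_sSup (show K ∈ {K : Subgroup G | IsJComponent T K ∧ K ≤ L} from ⟨hK, hKL⟩) hx)
  · refine hBA.trans (Subgroup.map_mono ?_)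
    intro x hx
    rw [Subgroup.mem_subgroupOf] at hx ⊢
    exact thompson_le_genOf hLT.1 (le_thompsonSubgroupOf_of_mem hA hx)

include hZ hLT hVea s hS3 in
/-- (c'): the image of every maximal elementary abelian subgroup of `L` lies in `tau(R)`. -/
theorem tr_maxElAb_le_tr_genOf {A' : Subgroup G} (hA' : A' ∈ maxElAbIn 2 L) :
    tr (VL L) (A'.subgroupOf L) ≤ tr (VL L) ((genOf T L).subgroupOf L) := by
  have h2 : Fact (Nat.Prime 2) := ⟨Nat.prime_two⟩
  obtain ⟨A₁, hA₁, x, hx, rfl⟩ := exists_conj_maxElAbIn hLT.1 hA'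
  obtain ⟨x', hx'J, rfl⟩ := hx
  have hxH : tau (VL L) x' ∈ tr (VL L) (thompsonSubgroup 2 ↥L) := ⟨x', hx'J, rfl⟩
  rintro _ ⟨y, hy, rfl⟩
  have hy2 : (y : G) ∈ A₁.map (MulAut.conj (L.subtype x')).toMonoidHom := hy
  obtain ⟨a₁, ha₁, hya⟩ := hy2
  have ha₁L : a₁ ∈ L := hLT.1.1 (hA₁.1 ha₁)
  have hy' : y = x' * ⟨a₁, ha₁L⟩ * x'⁻¹ := by
    apply Subtype.ext
    rw [← hya]
    simp [MulAut.conj_apply]
  rw [hy', map_mul, map_mul, map_inv]
  by_cases hbot : tr (VL L) (A₁.subgroupOf L) = ⊥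
  · have h1 : tau (VL L) ⟨a₁, ha₁L⟩ ∈ tr (VL L) (A₁.subgroupOf L) :=
      ⟨⟨a₁, ha₁L⟩, Subgroup.mem_subgroupOf.2 ha₁, rfl⟩
    rw [hbot, Subgroup.mem_bot] at h1
    rw [h1, mul_one, mul_inv_cancel]
    exact Subgroup.one_mem _
  · obtain ⟨k, B, hB, hsup⟩ := tr_eq_iSup_trH hLT hVea s hA₁ hbot
    have h1 : tau (VL L) ⟨a₁, ha₁L⟩ ∈ ⨆ i, B i := by
      rw [hsup]; exact ⟨⟨a₁, ha₁L⟩, Subgroup.mem_subgroupOf.2 ha₁, rfl⟩
    have hle : (⨆ i, B i) ≤ (tr (VL L) ((genOf T L).subgroupOf L)).comap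
        (MulAut.conj (tau (VL L) x')).toMonoidHom := by
      apply iSup_le
      intro i b hb
      rw [Subgroup.mem_comap]
      show MulAut.conj (tau (VL L) x') b ∈ _
      rw [MulAut.conj_apply]
      have hE := (hB i).1.H_le_normalizer_E hS3 hxH
      have hbE : b ∈ ⁅Q', B i⁆ ⊔ B i := le_sup_right (a := ⁅Q', B i⁆) hb
      exact E_le_tr_genOf hZ hLT s hS3 hA₁ (hB i).1 (hB i).2
        ((Subgroup.mem_normalizer_iff.mp hE b).mp hbE)
    have := hle h1
    rw [Subgroup.mem_comap] at this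
    exact this

include hZ hLT hVea s hS3 in
/-- `H ≤ tau(R)`. -/
theorem tr_thompson_le_tr_genOf :
    tr (VL L) (thompsonSubgroup 2 ↥L) ≤ tr (VL L) ((genOf T L).subgroupOf L) := by
  unfold tr thompsonSubgroup
  rw [Subgroup.map_le_iff_le_comap]
  apply sSup_le
  intro A'' hA''
  rw [← Subgroup.map_le_iff_le_comap]
  have h1 := tr_maxElAb_le_tr_genOf hZ hLT hVea s hS3 (map_subtype_mem_maxElAbIn hA'')
  have e : (A''.map L.subtype).subgroupOf L = A'' :=
    Subgroup.comap_map_eq_self_of_injective L.subtype_injective A''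
  rw [e] at h1
  exact h1

include hZ hLT hVea s hS3 in
/-- (b): `J(L) ≤ R`. -/
theorem thompsonIn_le_genOf : thompsonIn L ≤ genOf T L := by
  have hVL := V_le L
  rintro _ ⟨x', hx', rfl⟩
  have h1 : tau (VL L) x' ∈ tr (VL L) ((genOf T L).subgroupOf L) :=
    tr_thompson_le_tr_genOf hZ hLT hVea s hS3 ⟨x', hx', rfl⟩
  obtain ⟨r, hr0, hrx⟩ := h1
  have hr : (r : G) ∈ genOf T L := hr0
  have hker : r⁻¹ * x' ∈ (tau (VL L)).ker := by
    rw [MonoidHom.mem_ker, map_mul, map_inv, hrx, inv_mul_cancel]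
  rw [mem_ker_tau] at hker
  have hC := (coe_mem_centralizer hVL).1 hker
  have hNT := cent_le_normalizer hZ hLT ⟨(r⁻¹ * x').2, hC⟩
  have hNJ := normalizer_le_normalizer_thompsonSubgroupOf (p := 2)
    (thompsonSubgroupOf_le_self 2 T) (le_refl T) hNT
  have h3 : ((r⁻¹ * x' : ↥L) : G) ∈ genOf T L :=
    le_sup_right (a := sSup {K : Subgroup G | IsJComponent T K ∧ K ≤ L}) ⟨(r⁻¹ * x').2, hNJ⟩
  have e : L.subtype x' = (r : G) * ((r⁻¹ * x' : ↥L) : G) := by simp
  rw [e]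
  exact Subgroup.mul_mem _ hr h3

end FFpart

/-- **SL8**: `L` is generated by its `J(T)`-components and `N_L(J(T))`. -/
theorem le_genOf [Finite G] (hL : Cfsg.IsCharacteristicTwoType G)
    (hN : ∀ N : Subgroup G, Cfsg.IsTwoLocal N → Group.IsSolvable ↥N)
    (hZ : ∀ S : Sylow 2 G, Subgroup.centralizer (Cfsg.omegaCenterOf (S : Subgroup G) : Set G) ≤
      Subgroup.normalizer ((S : Subgroup G) : Set G))
    {T L : Subgroup G} (hT : IsPGroup 2 ↥T) (hT1 : T ≠ ⊥) (hLT : L ∈ jOvergroups T) :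
    L ≤ sSup {K : Subgroup G | IsJComponent T K ∧ K ≤ L} ⊔
      (L ⊓ Subgroup.normalizer (thompsonSubgroupOf 2 T : Set G)) := by
  haveI hVn : (VL L).Normal := V_normal L
  obtain ⟨hVea, Q', s, hS3⟩ := exists_setup hL hN hZ hT hT1 hLT
  have h1 := thompsonIn_le_genOf hZ hLT hVea s hS3
  refine (le_thompsonIn_sup_normalizer hLT.1).trans (sup_le h1 ?_)
  exact le_sup_right

end Cfsg.Agent.Lib.Helper9.KS
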