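import Mathlib
import Cfsg.Prelude
import Cfsg.Agent.Lib.Helper9.KTd
import Cfsg.Agent.Lib.Helper1.BG8e

set_option autoImplicit false
set_option linter.unusedSectionVars false
set_option linter.unusedVariables false
set_option linter.style.longLine false
set_option linter.unusedSimpArgs false
open Cfsg

set_option maxHeartbeats 1600000
namespace Cfsg.Agent.Lib.Helper9.KS

open Cfsg.Agent.Lib.Helper1 Cfsg.Agent.Lib.Helper3.JC
open scoped commutatorElement

variable {G : Type*} [Group G]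

theorem maxElemAbelianOrder_eq [Finite G] {T A : Subgroup G} (hA : A ∈ maxElAbIn 2 T) :
    maxElemAbelianOrder T = Nat.card A := by
  unfold maxElemAbelianOrder
  have hA' := subgroupOf_mem_of_mem_maxElAbIn hA
  have hc : Nat.card (A.subgroupOf T) = Nat.card A := card_subgroupOf_of_le hA.1
  have : (fun A : Subgroup ↥T => Nat.card ↥A) '' maxElementaryAbelianSubgroups 2 ↥T =
      {Nat.card A} := by
    ext n
    constructor
    · rintro ⟨B, hB, rfl⟩
      rw [Set.mem_singleton_iff, ← hc]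
      exact le_antisymm (hA'.2 B hB.1) (hB.2 _ hA'.1)
    · rintro rfl
      exact ⟨_, hA', hc⟩
  rw [this, csSup_singleton]

/-- the tool (MAX). -/
theorem max_tool [Finite G] {M T T' : Subgroup G} (hT : T ∈ maxStraddlingTwoSubgroups M)
    (hT' : T' ∈ straddlingTwoSubgroups M) (hJ : thompsonSubgroupOf 2 T ≤ T') :
    thompsonSubgroupOf 2 T' = thompsonSubgroupOf 2 T ∧ Nat.card T' ≤ Nat.card T := by
  obtain ⟨A, hA⟩ := exists_maxElAbIn T
  obtain ⟨A', hA'⟩ := exists_maxElAbIn T'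
  have h1 := hT.2 T' hT'
  rw [maxElemAbelianOrder_eq hA, maxElemAbelianOrder_eq hA'] at h1
  have h2 : Nat.card A ≤ Nat.card A' :=
    hA'.2.2 A ((le_thompsonSubgroupOf_of_mem hA).trans hJ) hA.2.1
  have hc : Nat.card A = Nat.card A' := le_antisymm h2 h1.1
  have h3 := h1.2 hc.symm
  have hle : thompsonSubgroupOf 2 T ≤ thompsonSubgroupOf 2 T' := thompsonOf_le_of_le hJ hA hA' hc
  have heq : thompsonSubgroupOf 2 T = thompsonSubgroupOf 2 T' :=
    Subgroup.eq_of_le_of_card_ge hle h3.1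
  exact ⟨heq.symm, h3.2 (by rw [heq])⟩

theorem thompson_ne_bot [Finite G] {T : Subgroup G} (hT : IsPGroup 2 ↥T) (hT1 : T ≠ ⊥) :
    thompsonSubgroupOf 2 T ≠ ⊥ := by
  have h2 : Fact (Nat.Prime 2) := ⟨Nat.prime_two⟩
  intro hbot
  obtain ⟨A, hA⟩ := exists_maxElAbIn T
  have hA1 : A = ⊥ := by
    rw [eq_bot_iff, ← hbot]; exact le_thompsonSubgroupOf_of_mem hA
  have hdvd : 2 ∣ Nat.card T := by
    rcases hT.card_eq_or_dvd with h | h
    · exact absurd (Subgroup.card_eq_one.mp h) hT1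
    · exact h
  obtain ⟨x, hx⟩ := exists_prime_orderOf_dvd_card' 2 hdvd
  have hx2 : (x : G) * (x : G) = 1 := by
    have h1 : x ^ 2 = 1 := by rw [← hx]; exact pow_orderOf_eq_one x
    have := congrArg Subtype.val h1
    rw [pow_two] at this
    exact this
  have hB : IsElementaryAbelian 2 (Subgroup.zpowers (x : G)) := by
    apply isElementaryAbelian_of_sq
    intro b hb
    obtain ⟨i, rfl⟩ := Subgroup.mem_zpowers_iff.mp hb
    rw [← zpow_add, ← two_mul, zpow_mul, zpow_two, hx2, one_zpow]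
  have h3 := hA.2.2 _ ((Subgroup.zpowers_le).2 x.2) hB
  rw [hA1, Subgroup.card_bot, Nat.card_zpowers, Subgroup.orderOf_coe, hx] at h3
  omega

theorem isTwoLocal_normalizer {W : Subgroup G} (hW : IsPGroup 2 ↥W) (hW1 : W ≠ ⊥) :
    IsTwoLocal (Subgroup.normalizer (W : Set G)) := ⟨W, hW, hW1, rfl⟩

/-- `(*)`: `N_G(J(T)) ≤ M` for `T ∈ 𝒯*(M)`. -/
theorem normalizer_thompson_le [Finite G] (S : Sylow 2 G) {M T : Subgroup G}
    (hMJ : Subgroup.normalizer (thompsonSubgroupOf 2 (S : Subgroup G) : Set G) ≤ M)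
    (hT : T ∈ maxStraddlingTwoSubgroups M) :
    Subgroup.normalizer (thompsonSubgroupOf 2 T : Set G) ≤ M := by
  have h2 : Fact (Nat.Prime 2) := ⟨Nat.prime_two⟩
  obtain ⟨hTp, hT1, hTM, -⟩ := hT.1
  have hJT : thompsonSubgroupOf 2 T ≤ T := thompsonSubgroupOf_le_self 2 T
  have hJp : IsPGroup 2 ↥(thompsonSubgroupOf 2 T) := hTp.to_le hJT
  have hJ1 := thompson_ne_bot hTp hT1
  have hNT : Subgroup.normalizer (T : Set G) ≤
      Subgroup.normalizer (thompsonSubgroupOf 2 T : Set G) :=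
    normalizer_le_normalizer_thompsonSubgroupOf hJT le_rfl
  by_contra hcon
  -- (1) `T` is a maximal `2`-subgroup of `N_J ∩ M`
  have hmax : ∀ R : Subgroup G, IsPGroup 2 ↥R → T ≤ R → R ≤ M →
      R ≤ Subgroup.normalizer (thompsonSubgroupOf 2 T : Set G) → R = T := by
    intro R hR hTR hRM hRN
    have hR' : R ∈ straddlingTwoSubgroups M := by
      refine ⟨hR, ?_, hRM, _, isTwoLocal_normalizer hJp hJ1, hRN, hcon⟩
      intro hbot
      apply hT1
      rw [eq_bot_iff, ← hbot]; exact hTR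
    have := (max_tool hT hR' (hJT.trans hTR)).2
    exact (Subgroup.eq_of_le_of_card_ge hTR this).symm
  -- (2) conjugate `T` into `S`
  have hSM : (S : Subgroup G) ≤ M := by
    refine le_trans ?_ hMJ
    exact Subgroup.le_normalizer.trans
      (normalizer_le_normalizer_thompsonSubgroupOf (thompsonSubgroupOf_le_self 2 _) le_rfl)
  have hSsyl : IsSylowTwoIn (S : Subgroup G) M := by
    refine ⟨hSM, S.2, ?_⟩
    have h1 : (S : Subgroup G).relIndex M ∣ (S : Subgroup G).index :=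
      Subgroup.relIndex_dvd_index_of_le hSM
    have h3 : ¬ 2 ∣ (S : Subgroup G).index := S.not_dvd_index
    rw [← Nat.not_even_iff_odd]
    intro he
    exact h3 ((even_iff_two_dvd.mp he).trans h1)
  obtain ⟨m, hm, hconj⟩ := exists_conj_le hSsyl hTM hTp
  have hTS' : T ≤ (S : Subgroup G).map (MulAut.conj m⁻¹).toMonoidHom := by
    intro t ht
    rw [mem_map_conj, inv_inv]
    exact hconj t ht
  have hS'p : IsPGroup 2 ↥((S : Subgroup G).map (MulAut.conj m⁻¹).toMonoidHom) := S.2.map _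
  have hS'M : (S : Subgroup G).map (MulAut.conj m⁻¹).toMonoidHom ≤ M := by
    rintro _ ⟨s, hs, rfl⟩
    show MulAut.conj m⁻¹ s ∈ M
    rw [MulAut.conj_apply]
    exact M.mul_mem (M.mul_mem (M.inv_mem hm) (hSM hs)) (M.inv_mem (M.inv_mem hm))
  have hTeq : T = (S : Subgroup G).map (MulAut.conj m⁻¹).toMonoidHom := by
    by_contra hne
    have hlt : T < (S : Subgroup G).map (MulAut.conj m⁻¹).toMonoidHom := lt_of_le_of_ne hTS' hne
    obtain ⟨T₁, hT₁p, hTT₁, hT₁S, hT₁N⟩ := BG8.exists_lt_normalizer_of_lt hS'p hlt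
    have := hmax T₁ hT₁p hTT₁.le (hT₁S.trans hS'M) (hT₁N.trans hNT)
    exact hTT₁.ne this.symm
  -- (3)
  apply hcon
  intro g hg
  have hJeq : thompsonSubgroupOf 2 T =
      (thompsonSubgroupOf 2 (S : Subgroup G)).map (MulAut.conj m⁻¹).toMonoidHom := by
    rw [hTeq, thompsonOf_map]
  have h1 : (thompsonSubgroupOf 2 T).map (MulAut.conj g).toMonoidHom = thompsonSubgroupOf 2 T :=
    map_conj_eq_of_mem_normalizer hg
  rw [hJeq, map_conj_mul] at h1
  have h3 := congrArg (fun X : Subgroup G => X.map (MulAut.conj m).toMonoidHom) h1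
  simp only [map_conj_mul] at h3
  rw [mul_inv_cancel] at h3
  have h4 : (thompsonSubgroupOf 2 (S : Subgroup G)).map (MulAut.conj (1 : G)).toMonoidHom =
      thompsonSubgroupOf 2 (S : Subgroup G) := by
    ext y; simp
  rw [h4] at h3
  have h5 := hMJ (mem_normalizer_of_map_conj_eq h3)
  have e : g = m⁻¹ * (m * (g * m⁻¹)) * m := by group
  rw [e]
  exact M.mul_mem (M.mul_mem (M.inv_mem hm) h5) hm

end Cfsg.Agent.Lib.Helper9.KS
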