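import Cfsg.Agent.Lib.Helper9.OutQ1
import Cfsg.Agent.Lib.Helper9.M24H5

set_option autoImplicit false

/-! General lemmas for bounding subgroups of the Mathieu groups of small index: orders of the
pointwise stabilizers of four and five points, orbit counting, fixed points of elements of order
three. -/

namespace Cfsg.Agent.Lib.Helper9.Idx

open Cfsg Finset MulAction Cfsg.Agent.Lib.Helper9.GolayQR1 Cfsg.Agent.Lib.Helper9.M24T3
  Cfsg.Agent.Lib.Helper9.OutM Cfsg.Agent.Lib.Helper9.M24T5
open scoped Pointwise

/-- the fixator of at most five distinct points is conjugate to a standard one -/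
theorem card_fixL_nodup (l : List GolayPt) (hl : l.Nodup) (hn : l.length ≤ 5) :
    Nat.card (fixL M24 l) = Nat.card (fixL M24 ((List.range l.length).map bpt)) := by
  obtain ⟨g, hg, h⟩ := Cfsg.Agent.Lib.Helper9.M24T7.exists_mapn l.length hn
    (fun i => l.getD i none) (by
      intro i hi j hj hij
      simp only [List.getD_eq_getElem _ _ hi, List.getD_eq_getElem _ _ hj] at hij
      exact (List.Nodup.getElem_inj_iff hl).mp hij)
  have h1 := Cfsg.Agent.Lib.Helper9.M24T7.card_fixL_map M24 g hg ((List.range l.length).map bpt)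
  have hmap : ((List.range l.length).map bpt).map g = l := by
    apply List.ext_getElem
    · simp
    · intro i h1 h2
      simp only [List.getElem_map, List.getElem_range]
      rw [h i h2]
      exact List.getD_eq_getElem _ _ h2
  rw [hmap] at h1
  exact h1

theorem card_fix_four (p q r s : GolayPt) (h : [p, q, r, s].Nodup) :
    Nat.card (fixL M24 [p, q, r, s]) = 960 := by
  rw [card_fixL_nodup _ h (by simp)]
  exact Cfsg.Agent.Lib.Helper9.M24T4.card_fix4

theorem card_fix_five (p q r s t : GolayPt) (h : [p, q, r, s, t].Nodup) :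
    Nat.card (fixL M24 [p, q, r, s, t]) = 48 := by
  rw [card_fixL_nodup _ h (by simp)]
  exact Cfsg.Agent.Lib.Helper9.M24T4.card_fix5

theorem lvl_le_fixL {K : Subgroup (Equiv.Perm GolayPt)} {F : Finset GolayPt} (h : Lvl K F)
    (l : List GolayPt) (hl : ∀ x ∈ l, x ∈ F) : K ≤ fixL M24 l :=
  fun g hg => ⟨h.le hg, fun b hb => h.fix g hg b (hl b hb)⟩

theorem lvl_card_dvd {K : Subgroup (Equiv.Perm GolayPt)} {F : Finset GolayPt} (h : Lvl K F)
    (l : List GolayPt) (hl : ∀ x ∈ l, x ∈ F) (n : ℕ) (hn : Nat.card (fixL M24 l) = n) :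
    Nat.card K ∣ n := by
  rw [← hn]
  exact Subgroup.card_dvd_of_le (lvl_le_fixL h l hl)

section general

variable {α : Type*} [Fintype α] [DecidableEq α]

/-- an invariant set all of whose orbits have size divisible by `m` has size divisible by `m` -/
theorem dvd_card_of_orbits (K : Subgroup (Equiv.Perm α)) (m : ℕ) :
    ∀ (n : ℕ) (B : Finset α), B.card = n → (∀ x ∈ K, ∀ b ∈ B, x b ∈ B) →
      (∀ b ∈ B, m ∣ (orbF K b).card) → m ∣ B.card := by
  intro n
  induction n using Nat.strong_induction_on with
  | _ n ih =>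
    intro B hn hB hm
    by_cases hE : B = ∅
    · rw [hE, card_empty]
      exact dvd_zero m
    · obtain ⟨b, hb⟩ := nonempty_iff_ne_empty.mpr hE
      have hsub : orbF K b ⊆ B := orbF_subset K b B hb hB
      have hpos : 0 < (orbF K b).card := card_pos.mpr ⟨b, self_mem_orbF K b⟩
      have hsplit := card_sdiff_add_card_eq_card hsub
      have hlt : (B \ orbF K b).card < n := by omega
      have hinv : ∀ x ∈ K, ∀ c ∈ B \ orbF K b, x c ∈ B \ orbF K b := by
        intro x hx c hc
        rw [mem_sdiff] at hc ⊢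
        refine ⟨hB x hx c hc.1, fun hmem => hc.2 ?_⟩
        have := orbF_invariant K b x⁻¹ (K.inv_mem hx) _ hmem
        rwa [Cfsg.Agent.Lib.Helper9.Chain1.inv_apply_self'] at this
      have h1 := ih _ hlt (B \ orbF K b) rfl hinv (fun c hc => hm c (mem_sdiff.mp hc).1)
      rw [← hsplit]
      exact dvd_add h1 (hm b hb)

end general

/-- a nontrivial element of `M24` of order three fixes no point or six points -/
theorem card_fixF_three (x : Equiv.Perm GolayPt) (hx : x ∈ M24) (hx1 : x ≠ 1) (hx3 : x ^ 3 = 1) :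
    (fixF x).card = 0 ∨ (fixF x).card = 6 := by
  have ho : orderOf x = 3 := orderOf_eq_prime hx3 hx1
  have hF : Cfsg.Agent.Lib.Helper9.M24H5.Fix x = fixF x := rfl
  rcases Cfsg.Agent.Lib.Helper9.M24H5.three_cases x hx ho with ⟨k, _, _, h⟩ | ⟨k, _, _, h⟩
  · right
    rw [← hF]
    exact h
  · left
    rw [← hF, h, card_empty]

end Cfsg.Agent.Lib.Helper9.Idx
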