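import Cfsg.Agent.Lib.Helper9.OutM1
import Cfsg.Agent.Lib.Helper9.Syl2M24b

set_option autoImplicit false

/-! Fixed points of elements of `M24`: involutions fix no point or the points of an octad, and an
element of prime order at least 5 fixes `24 mod p` points. -/

namespace Cfsg.Agent.Lib.Helper9.OutM

open Cfsg Finset Cfsg.Agent.Lib.Helper9.GolayQR1 Cfsg.Agent.Lib.Helper9.M24F1
  Cfsg.Agent.Lib.Helper9.M24T1 Cfsg.Agent.Lib.Helper9.M24U1 Cfsg.Agent.Lib.Helper9.M24T3
  Cfsg.Agent.Lib.Helper9.Syl2B Cfsg.Agent.Lib.Helper9.Syl2B.Tab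
open scoped Pointwise

section sylow

variable {A : Type*} [Group A]

/-- a `2`-element of `G` is conjugate into a given subgroup of full `2`-power order -/
theorem exists_conj_mem_of_pow_two (G P : Subgroup A) [Finite G] (hPG : P ≤ G) (k m : ℕ)
    (hP : Nat.card P = 2 ^ k) (hG : Nat.card G = 2 ^ k * m) (hm : ¬ 2 ∣ m) (u : A) (hu : u ∈ G)
    (j : ℕ) (huj : u ^ 2 ^ j = 1) : ∃ g ∈ G, g * u * g⁻¹ ∈ P := by
  haveI : Fact (Nat.Prime 2) := ⟨Nat.prime_two⟩
  have hc : Nat.card (P.subgroupOf G) = 2 ^ (Nat.card G).factorization 2 := by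
    rw [hG, Cfsg.Agent.Lib.Helper9.Syl2A.fact_two_pow hm, ← hP]
    exact Nat.card_congr (Subgroup.subgroupOfEquivOfLe hPG).toEquiv
  let Q : Sylow 2 ↥G := Sylow.ofCard (P.subgroupOf G) hc
  have hZ : IsPGroup 2 (Subgroup.zpowers (⟨u, hu⟩ : ↥G)) := by
    rintro ⟨x, hx⟩
    obtain ⟨i, rfl⟩ := Subgroup.mem_zpowers_iff.mp hx
    refine ⟨j, Subtype.ext ?_⟩
    show ((⟨u, hu⟩ : ↥G) ^ i) ^ 2 ^ j = 1
    rw [← zpow_natCast, ← zpow_mul, mul_comm, zpow_mul, zpow_natCast]
    have : (⟨u, hu⟩ : ↥G) ^ 2 ^ j = 1 := Subtype.ext (by simpa using huj)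
    rw [this, one_zpow]
  obtain ⟨R, hR⟩ := hZ.exists_le_sylow
  obtain ⟨g, hg⟩ := MulAction.exists_smul_eq ↥G R Q
  refine ⟨g.1, g.2, ?_⟩
  have h1 : (⟨u, hu⟩ : ↥G) ∈ (R : Subgroup ↥G) := hR (Subgroup.mem_zpowers _)
  have h2 : g * ⟨u, hu⟩ * g⁻¹ ∈ (Q : Subgroup ↥G) := by
    rw [← hg]
    show g * ⟨u, hu⟩ * g⁻¹ ∈ MulAut.conj g • (R : Subgroup ↥G)
    rw [Cfsg.Agent.Lib.Helper9.Syl2A.mem_conj_smul_iff]
    have e : g⁻¹ * (g * ⟨u, hu⟩ * g⁻¹) * g = ⟨u, hu⟩ := by group
    rw [e]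
    exact h1
  have h3 : g * ⟨u, hu⟩ * g⁻¹ ∈ P.subgroupOf G := h2
  rw [Subgroup.mem_subgroupOf] at h3
  exact h3

end sylow

/-! ### involutions -/

/-- the packed permutation is an involution or the identity -/
def isInvB (P : ℕ) : Bool := allB 24 (fun j => Nat.beq (im P (im P j)) j)

/-- the mask of the fixed points of a packed permutation -/
def fixMask (P : ℕ) : ℕ :=
  Nat.rec 0 (fun j acc => bif Nat.beq (im P j) j then acc ||| (1 <<< j) else acc) 24

theorem testBit_fixMask (P y : ℕ) :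
    (fixMask P).testBit y = true ↔ y < 24 ∧ im P y = y := by
  unfold fixMask
  generalize 24 = m
  induction m with
  | zero => simp
  | succ m ih =>
    show (bif Nat.beq (im P m) m then
      (Nat.rec 0 (fun j acc => bif Nat.beq (im P j) j then acc ||| (1 <<< j) else acc) m : ℕ)
        ||| (1 <<< m)
      else (Nat.rec 0 (fun j acc => bif Nat.beq (im P j) j then acc ||| (1 <<< j) else acc)
        m : ℕ)).testBit y = true ↔ _
    cases hf : Nat.beq (im P m) m
    · rw [cond_false, ih]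
      constructor
      · rintro ⟨h1, h2⟩
        exact ⟨by omega, h2⟩
      · rintro ⟨h1, h2⟩
        rcases Nat.lt_succ_iff_lt_or_eq.mp h1 with h3 | h3
        · exact ⟨h3, h2⟩
        · rw [h3] at h2
          rw [← beq_iff, hf] at h2
          exact absurd h2 (by simp)
    · rw [cond_true, Nat.testBit_or, Bool.or_eq_true, ih, Nat.one_shiftLeft, Nat.testBit_two_pow]
      constructor
      · rintro (⟨h1, h2⟩ | h)
        · exact ⟨by omega, h2⟩
        · have : m = y := of_decide_eq_true h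
          subst this
          exact ⟨by omega, (beq_iff _ _).mp hf⟩
      · rintro ⟨h1, h2⟩
        rcases Nat.lt_succ_iff_lt_or_eq.mp h1 with h3 | h3
        · exact Or.inl ⟨h3, h2⟩
        · right
          exact decide_eq_true h3.symm

theorem fixF_eq_M {x : Equiv.Perm GolayPt} {P : ℕ} (hx : Rep x P) : fixF x = M (fixMask P) := by
  ext p
  rw [mem_fixF, mem_M, testBit_fixMask]
  constructor
  · intro h
    refine ⟨idx_lt p, ?_⟩
    rw [← hx p, h]
  · rintro ⟨-, h⟩
    apply idx_injective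
    rw [hx p, h]

/-- every involution in the table fixes no point or the points of an octad -/
def okFix (t : Tab) : Bool := allB t.n (fun i => !(isInvB (t.E i)) || Nat.beq i t.r0 ||
  Nat.beq (fixMask (t.E i)) 0 || Cfsg.Agent.Lib.Helper9.M24F2.isOctF (fixMask (t.E i)))

theorem okFix_M24 : okFix Cfsg.Agent.Lib.Helper9.Syl2M24.tab = true := by decide +kernel

theorem fixF_conj (g x : Equiv.Perm GolayPt) : fixF (g * x * g⁻¹) = g • fixF x := by
  ext p
  rw [mem_fixF, ← Finset.inv_smul_mem_iff, mem_fixF, Equiv.Perm.smul_def, Equiv.Perm.mul_apply,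
    Equiv.Perm.mul_apply]
  constructor
  · intro h
    have := congrArg (fun y => g⁻¹ y) h
    simpa using this
  · intro h
    rw [h]
    simp

/-- an involution of `M24` fixes no point or exactly the points of an octad -/
theorem fixF_involution (u : Equiv.Perm GolayPt) (hu : u ∈ M24) (hu2 : u ^ 2 = 1) (hu1 : u ≠ 1) :
    fixF u = ∅ ∨ fixF u ∈ octads := by
  have hok := Cfsg.Agent.Lib.Helper9.Syl2M24.ok
  have hrep := Cfsg.Agent.Lib.Helper9.Syl2M24.rep_gg
  obtain ⟨g, hg, hmem⟩ := exists_conj_mem_of_pow_two M24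
    (Cfsg.Agent.Lib.Helper9.Syl2M24.tab.S0 Cfsg.Agent.Lib.Helper9.Syl2M24.gg)
    Cfsg.Agent.Lib.Helper9.Syl2M24.hSG 10 239085 Cfsg.Agent.Lib.Helper9.Syl2M24.card_S0
    Cfsg.Agent.Lib.Helper9.Syl2M24.card_G (by decide) u hu 1 (by simpa using hu2)
  obtain ⟨i, hi, hrepi⟩ := Tab.exists_rep hok hrep _ hmem
  have hchk := okFix_M24
  unfold okFix at hchk
  rw [allB_iff] at hchk
  have h1 := hchk i hi
  simp only [Bool.or_eq_true] at h1
  have hconj : fixF (g * u * g⁻¹) = g • fixF u := fixF_conj g u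
  have hback : fixF u = g⁻¹ • fixF (g * u * g⁻¹) := by rw [hconj, inv_smul_smul]
  rcases h1 with ((h1 | h1) | h1) | h1
  · exfalso
    rw [Bool.not_eq_true', ← Bool.not_eq_true] at h1
    apply h1
    unfold isInvB
    rw [allB_iff]
    intro j hj
    rw [beq_iff]
    have e : (g * u * g⁻¹) ((g * u * g⁻¹) (unidx j)) = unidx j := by
      have : (g * u * g⁻¹) * (g * u * g⁻¹) = 1 := by
        have : (g * u * g⁻¹) * (g * u * g⁻¹) = g * (u * u) * g⁻¹ := by group
        rw [this, ← pow_two, hu2]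
        group
      rw [← Equiv.Perm.mul_apply, this]
      rfl
    have e2 := congrArg idx e
    rw [hrepi _, hrepi _, idx_unidx j hj] at e2
    exact e2
  · exfalso
    rw [(beq_iff _ _).mp h1] at hrepi
    have : g * u * g⁻¹ = 1 := hrepi.ext (Tab.rep_one hok)
    apply hu1
    have e : u = g⁻¹ * (g * u * g⁻¹) * g := by group
    rw [e, this]
    group
  · left
    rw [hback, fixF_eq_M hrepi, (beq_iff _ _).mp h1]
    ext p
    rw [← Finset.inv_smul_mem_iff, mem_M]
    simp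
  · right
    rw [hback, fixF_eq_M hrepi]
    exact smul_octad_mem g⁻¹ (M24.inv_mem hg) _
      (Cfsg.Agent.Lib.Helper9.M24F2.isOctF_sound _ h1)

theorem card_fixF_involution (u : Equiv.Perm GolayPt) (hu : u ∈ M24) (hu2 : u ^ 2 = 1) (hu1 : u ≠ 1) :
    (fixF u).card = 0 ∨ (fixF u).card = 8 := by
  rcases fixF_involution u hu hu2 hu1 with h | h
  · left
    rw [h, card_empty]
  · right
    exact h.2

/-! ### elements of prime order at least 5 -/

theorem eq_one_of_pow_coprime {A : Type*} [Group A] (x : A) (a b : ℕ) (ha : x ^ a = 1)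
    (hb : x ^ b = 1) (hab : Nat.Coprime a b) : x = 1 := by
  have h1 := orderOf_dvd_of_pow_eq_one ha
  have h2 := orderOf_dvd_of_pow_eq_one hb
  have h3 : orderOf x ∣ 1 := by
    rw [← Nat.Coprime.gcd_eq_one hab]
    exact Nat.dvd_gcd h1 h2
  exact orderOf_eq_one_iff.mp (Nat.dvd_one.mp h3)

/-- a nontrivial element of `M24` of prime order at least 5 fixes at most 5 points -/
theorem card_fixF_le_five (x : Equiv.Perm GolayPt) (hx : x ∈ M24) (hx1 : x ≠ 1) (p : ℕ)
    (hp : p.Prime) (hp5 : 5 ≤ p) (hxp : x ^ p = 1) : (fixF x).card ≤ 5 := by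
  by_contra hcon
  push Not at hcon
  obtain ⟨t, ht, ht6⟩ := Finset.exists_subset_card_eq (show 6 ≤ (fixF x).card by omega)
  obtain ⟨l, y, hl, h5, hlE⟩ := Cfsg.Agent.Lib.Helper9.M24Y8.exists_list_six t ht6
  obtain ⟨c16, c3⟩ := Cfsg.Agent.Lib.Helper9.M24Y8.card_fix_six l y hl h5
  have hmem : x ∈ fixL M24 (l ++ [y]) := by
    refine ⟨hx, fun b hb => ?_⟩
    have : b ∈ t := by rw [← hlE, List.mem_toFinset]; exact hb
    exact (mem_fixF x b).mp (ht this)
  have hpow : ∀ n, Nat.card (fixL M24 (l ++ [y])) = n → 0 < n → x ^ n = 1 := by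
    intro n hn hn0
    haveI : Finite ↥(fixL M24 (l ++ [y])) := Nat.finite_of_card_ne_zero (by rw [hn]; omega)
    have h1 : (⟨x, hmem⟩ : ↥(fixL M24 (l ++ [y]))) ^ Nat.card ↥(fixL M24 (l ++ [y])) = 1 :=
      pow_card_eq_one'
    rw [hn] at h1
    have h2 := congrArg Subtype.val h1
    simpa using h2
  apply hx1
  by_cases hin : Cfsg.Agent.Lib.Helper9.M24Z3.InOct (l ++ [y]).toFinset
  · apply eq_one_of_pow_coprime x 16 p (hpow 16 (c16 hin) (by norm_num)) hxp
    have : ¬ p ∣ 16 := by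
      intro hd
      have : p ∣ 2 := hp.dvd_of_dvd_pow (show p ∣ 2 ^ 4 by simpa using hd)
      have := Nat.le_of_dvd (by norm_num) this
      omega
    exact ((Nat.Prime.coprime_iff_not_dvd hp).mpr this).symm
  · apply eq_one_of_pow_coprime x 3 p (hpow 3 (c3 hin) (by norm_num)) hxp
    have : ¬ p ∣ 3 := by
      intro hd
      have := Nat.le_of_dvd (by norm_num) hd
      omega
    exact ((Nat.Prime.coprime_iff_not_dvd hp).mpr this).symm

/-- the number of fixed points of a nontrivial element of `M24` of order 5, 7, 11 or 23 -/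
theorem card_fixF_prime (x : Equiv.Perm GolayPt) (hx : x ∈ M24) (hx1 : x ≠ 1) (p : ℕ)
    (hp : p = 5 ∨ p = 7 ∨ p = 11 ∨ p = 23) (hxp : x ^ p = 1) : (fixF x).card = 24 % p := by
  have hpp : p.Prime := by
    rcases hp with rfl | rfl | rfl | rfl <;> norm_num
  haveI : Fact p.Prime := ⟨hpp⟩
  have h1 := card_fixF_modEq x p hxp
  rw [Cfsg.Agent.Lib.Helper9.GolayQR5.card_golayPt] at h1
  have h2 := card_fixF_le_five x hx hx1 p hpp (by rcases hp with rfl | rfl | rfl | rfl <;> norm_num)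
    hxp
  unfold Nat.ModEq at h1
  rcases hp with rfl | rfl | rfl | rfl <;> omega

end Cfsg.Agent.Lib.Helper9.OutM
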