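import Cfsg.Agent.Lib.Helper9.MIdxQ9bAux
import Cfsg.Agent.Lib.Helper4.MIdxQ2

/-! S1589 farm, piece Q9b (helper9): `tetrads`. -/

set_option autoImplicit false

namespace Cfsg.Agent.Lib.Helper6.MIdx

open Cfsg Finset MulAction Cfsg.Agent.Lib.Helper9.OutM Cfsg.Agent.Lib.Helper9.M24T3
  Cfsg.Agent.Lib.Helper9.M24T9 Cfsg.Agent.Lib.Helper9.M24P1
open scoped Pointwise

theorem tetrads (K : Subgroup (Equiv.Perm GolayPt)) (hK : K ≤ M24) (hc : Nat.card K = 138240) :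
    ∃ T : GolayPt → Finset GolayPt, (∀ c, (T c).card = 4 ∧ c ∈ T c) ∧ (∀ c d, d ∈ T c → T d = T c) ∧
      (∀ g ∈ K, ∀ c, g • T c = T (g c)) ∧ (∀ c c', T c ≠ T c' → T c ∪ T c' ∈ octads) := by
  obtain ⟨O, hO, hE⟩ := exists_fixS_le K hK (by rw [hc]; norm_num)
  exact h9_tetrads_aux K hK hc O hO hE

end Cfsg.Agent.Lib.Helper6.MIdx
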