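import Mathlib
import Cfsg.Agent.Lib.Helper5.MannDefs

/-! S4009 (Mann's bound) piece P3: below a nontrivial normal subgroup `H` of a finite `p`-group
there is a `P`-normal subgroup `M1 ≥ [H,P]` with `H / M1` cyclic. -/

set_option autoImplicit false
open scoped commutatorElement
open Cfsg.Agent.Lib.Helper5.Mann

namespace Cfsg.Agent.Lib.Helper9.Mann

variable {P : Type*} [Group P]

/-- In a finite `p`-group, `[M,P] < M` for every nontrivial normal subgroup `M`. -/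
theorem h9_comm_top_lt (p : ℕ) [Fact p.Prime] [Finite P] (hP : IsPGroup p P) (M : Subgroup P)
    [M.Normal] (hM : M ≠ ⊥) : ⁅M, (⊤ : Subgroup P)⁆ < M := by
  have hle : ⁅M, (⊤ : Subgroup P)⁆ ≤ M := Subgroup.commutator_le_left M ⊤
  refine lt_of_le_of_ne hle ?_
  intro heq
  apply hM
  have hnil : Group.IsNilpotent P := hP.isNilpotent
  obtain ⟨n, hn⟩ := Subgroup.nilpotent_iff_lowerCentralSeries.mp hnil
  have hall : ∀ k, M ≤ (⊤ : Subgroup P).lowerCentralSeries k := by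
    intro k
    induction k with
    | zero => exact le_top
    | succ k ih =>
      rw [Subgroup.lowerCentralSeries_succ]
      calc M = ⁅M, (⊤ : Subgroup P)⁆ := heq.symm
        _ ≤ ⁅(⊤ : Subgroup P).lowerCentralSeries k, (⊤ : Subgroup P)⁆ :=
          Subgroup.commutator_mono ih le_rfl
  rw [eq_bot_iff, ← hn]
  exact hall n

theorem exists_max_normal (p : ℕ) [Fact p.Prime] [Finite P] (hP : IsPGroup p P) (H : Subgroup P)
    [H.Normal] (hH : H ≠ ⊥) :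
    ∃ (M1 : Subgroup P) (a : P), M1.Normal ∧ ⁅H, (⊤ : Subgroup P)⁆ ≤ M1 ∧ M1 < H ∧ a ∈ H ∧
      H ≤ Subgroup.zpowers a ⊔ M1 := by
  classical
  -- any `X` with `[H,P] ≤ X ≤ H` is normal
  have hnorm : ∀ X : Subgroup P, ⁅H, (⊤ : Subgroup P)⁆ ≤ X → X ≤ H → X.Normal := by
    intro X h1 h2
    constructor
    intro x hx g
    have h3 : ⁅x, g⁆ ∈ ⁅H, (⊤ : Subgroup P)⁆ :=
      Subgroup.commutator_mem_commutator (h2 hx) (Subgroup.mem_top g)
    have h4 : ⁅x, g⁆⁻¹ ∈ X := X.inv_mem (h1 h3)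
    have e : g * x * g⁻¹ = ⁅x, g⁆⁻¹ * x := by
      rw [commutatorElement_def]; group
    rw [e]
    exact X.mul_mem h4 hx
  have hne : {X : Subgroup P | X.Normal ∧ ⁅H, (⊤ : Subgroup P)⁆ ≤ X ∧ X < H}.Nonempty :=
    ⟨⁅H, (⊤ : Subgroup P)⁆, inferInstance, le_rfl, h9_comm_top_lt p hP H hH⟩
  obtain ⟨M1, hM1⟩ := (Set.toFinite
    {X : Subgroup P | X.Normal ∧ ⁅H, (⊤ : Subgroup P)⁆ ≤ X ∧ X < H}).exists_maximal hne
  obtain ⟨hM1n, hM1c, hM1lt⟩ := hM1.prop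
  obtain ⟨a, haH, haM⟩ := SetLike.exists_of_lt hM1lt
  refine ⟨M1, a, hM1n, hM1c, hM1lt, haH, ?_⟩
  have hX'H : Subgroup.zpowers a ⊔ M1 ≤ H := sup_le ((Subgroup.zpowers_le).mpr haH) hM1lt.le
  have hcX' : ⁅H, (⊤ : Subgroup P)⁆ ≤ Subgroup.zpowers a ⊔ M1 := hM1c.trans le_sup_right
  by_contra hcon
  have hlt : Subgroup.zpowers a ⊔ M1 < H :=
    lt_of_le_of_ne hX'H (fun heq => hcon (heq ▸ le_rfl))
  have hmem : Subgroup.zpowers a ⊔ M1 ∈
      {X : Subgroup P | X.Normal ∧ ⁅H, (⊤ : Subgroup P)⁆ ≤ X ∧ X < H} :=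
    ⟨hnorm _ hcX' hX'H, hcX', hlt⟩
  have hle := hM1.le_of_ge hmem le_sup_right
  exact haM (hle ((le_sup_left : Subgroup.zpowers a ≤ Subgroup.zpowers a ⊔ M1)
    (Subgroup.mem_zpowers a)))

end Cfsg.Agent.Lib.Helper9.Mann
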