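import Mathlib
import Cfsg.Agent.Lib.Helper5.MannDefs
import Cfsg.Agent.Lib.Helper9.MannP3

/-! S4009 (Mann's bound) piece P1b: counting along strict chains in a finite `p`-group. -/

set_option autoImplicit false
open scoped commutatorElement
open Cfsg.Agent.Lib.Helper5.Mann

namespace Cfsg.Agent.Lib.Helper9.Mann

variable {P : Type*} [Group P]

theorem h9_itc_normal (M : Subgroup P) [M.Normal] (m : ℕ) : (itc M m).Normal := by
  induction m with
  | zero => exact (inferInstance : M.Normal)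
  | succ m ih =>
    have : (itc M m).Normal := ih
    exact (inferInstance : (⁅itc M m, (⊤ : Subgroup P)⁆).Normal)

theorem card_lt (p : ℕ) [Fact p.Prime] [Finite P] (hP : IsPGroup p P) {A B : Subgroup P}
    (h : A < B) : p * Nat.card A ≤ Nat.card B := by
  have hp : p.Prime := Fact.out
  obtain ⟨a, ha⟩ := IsPGroup.iff_card.mp (hP.to_subgroup A)
  obtain ⟨b, hb⟩ := IsPGroup.iff_card.mp (hP.to_subgroup B)
  have hdvd : Nat.card A ∣ Nat.card B := Subgroup.card_dvd_of_le h.le
  have hne : Nat.card A ≠ Nat.card B := by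
    intro heq
    exact h.ne (Subgroup.eq_of_le_of_card_ge h.le heq.ge)
  rw [ha, hb] at hdvd hne ⊢
  have hab : a ≤ b := (Nat.pow_dvd_pow_iff_le_right hp.one_lt).mp hdvd
  have hab' : a < b := lt_of_le_of_ne hab (fun e => hne (by rw [e]))
  calc p * p ^ a = p ^ (a + 1) := by rw [pow_succ, mul_comm]
    _ ≤ p ^ b := Nat.pow_le_pow_right hp.pos hab'

theorem comm_top_lt (p : ℕ) [Fact p.Prime] [Finite P] (hP : IsPGroup p P) (M : Subgroup P)
    [M.Normal] (hM : M ≠ ⊥) : ⁅M, (⊤ : Subgroup P)⁆ < M :=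
  h9_comm_top_lt p hP M hM

theorem chain_card (p : ℕ) [Fact p.Prime] [Finite P] (hP : IsPGroup p P) (M : Subgroup P)
    [M.Normal] (m : ℕ) (h : itc M m ≠ ⊥) : p ^ m * Nat.card (itc M m) ≤ Nat.card M := by
  induction m with
  | zero =>
    rw [pow_zero, one_mul]
    exact le_rfl
  | succ m ih =>
    have hne : itc M m ≠ ⊥ := by
      intro hbot
      apply h
      show ⁅itc M m, (⊤ : Subgroup P)⁆ = ⊥
      rw [hbot]
      exact Subgroup.commutator_bot_left _
    have hn : (itc M m).Normal := h9_itc_normal M m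
    have hlt : ⁅itc M m, (⊤ : Subgroup P)⁆ < itc M m := h9_comm_top_lt p hP (itc M m) hne
    have h1 : p * Nat.card (itc M (m + 1)) ≤ Nat.card (itc M m) := card_lt p hP hlt
    calc p ^ (m + 1) * Nat.card (itc M (m + 1))
        = p ^ m * (p * Nat.card (itc M (m + 1))) := by rw [pow_succ, mul_assoc]
      _ ≤ p ^ m * Nat.card (itc M m) := Nat.mul_le_mul_left _ h1
      _ ≤ Nat.card M := ih hne

end Cfsg.Agent.Lib.Helper9.Mann
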