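import Mathlib
import Cfsg.Agent.Lib.Helper5.MannDefs

/-! S4009 (Mann's bound) piece P2: a subgroup generated by elements commuting modulo a normal
subgroup `T` has its commutator subgroup inside `T`. -/

set_option autoImplicit false
open scoped commutatorElement
open Cfsg.Agent.Lib.Helper5.Mann

namespace Cfsg.Agent.Lib.Helper9.Mann

variable {P : Type*} [Group P]

theorem comm_le_of_pairwise (T : Subgroup P) [T.Normal] (S : Set P)
    (hS : ∀ s ∈ S, ∀ t ∈ S, ⁅s, t⁆ ∈ T) (H : Subgroup P) (hH : H ≤ Subgroup.closure S) :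
    ⁅H, H⁆ ≤ T := by
  rw [Subgroup.commutator_le]
  intro g₁ hg₁ g₂ hg₂
  have hcomm : ∀ x ∈ (QuotientGroup.mk' T) '' S, ∀ y ∈ (QuotientGroup.mk' T) '' S,
      x * y = y * x := by
    rintro _ ⟨s, hs, rfl⟩ _ ⟨t, ht, rfl⟩
    have h1 := hS s hs t ht
    have h2 : (QuotientGroup.mk' T) ⁅s, t⁆ = 1 := (QuotientGroup.eq_one_iff _).mpr h1
    rw [map_commutatorElement, commutatorElement_eq_one_iff_commute] at h2
    exact h2.eq
  have hmem : ∀ g ∈ H, (QuotientGroup.mk' T) g ∈ Subgroup.closure ((QuotientGroup.mk' T) '' S) := by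
    intro g hg
    rw [← MonoidHom.map_closure]
    exact Subgroup.mem_map_of_mem _ (hH hg)
  have h3 := (Subgroup.isMulCommutative_closure hcomm).is_comm.comm
    ⟨_, hmem g₁ hg₁⟩ ⟨_, hmem g₂ hg₂⟩
  have h4 : (QuotientGroup.mk' T) g₁ * (QuotientGroup.mk' T) g₂
      = (QuotientGroup.mk' T) g₂ * (QuotientGroup.mk' T) g₁ := congrArg Subtype.val h3
  have h5 : (QuotientGroup.mk' T) ⁅g₁, g₂⁆ = 1 := by
    rw [map_commutatorElement, commutatorElement_eq_one_iff_commute]
    exact h4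
  exact (QuotientGroup.eq_one_iff _).mp h5

end Cfsg.Agent.Lib.Helper9.Mann
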