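import Mathlib
import Cfsg.Prelude
import Cfsg.Agent.Lib.Helper5.OmegaSimple
import Cfsg.Agent.Lib.Helper5.MaxTS
import Cfsg.Agent.Lib.Helper9.AOF6
import Cfsg.Agent.Lib.Helper5.OAut.InndiagMinus

set_option autoImplicit false
set_option linter.unusedSectionVars false
set_option linter.unusedVariables false
open Cfsg

namespace Cfsg.Agent.Lib.Helper9.AOF

open Matrix QuadraticMap Cfsg.Agent.Lib.Helper5.CartanDieudonne Cfsg.Agent.Lib.Helper5.Refl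
  Cfsg.Agent.Lib.Helper5.OrthCard Cfsg.Agent.Lib.Helper5.Siegel Cfsg.Agent.Lib.Helper5.QuadIsom
  Cfsg.Agent.Lib.Helper5.ReflGen Cfsg.Agent.Lib.Helper5.Eichler Cfsg.Agent.Lib.Helper5.SingGeom
  Cfsg.Agent.Lib.Helper5.OmegaGen Cfsg.Agent.Lib.Helper5.OmegaSimple
  Cfsg.Agent.Lib.Helper9.AOR

variable {ι : Type} [Fintype ι] [DecidableEq ι] {F : Type*} [Field F] [Fintype F]
  (Q : QuadraticForm F (ι → F))

/-! Subgroups of index two of the conformal orthogonal group and field automorphisms. -/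

section cls
open Cfsg.Agent.Lib.Helper9.ASP Cfsg.Agent.Lib.Helper5.OAut Cfsg.Agent.Lib.Helper5.SpinorHyp
open Cfsg.Agent.Lib.Helper9.APSL (uA uA_coe nrm nrm_zero nrm_succ norm_surjective mem_cent_single
  conjUnder_of_conj orderOf_conj')

/-- a predicate cutting out a subgroup of index at most two of the similarity group which
contains the scalars -/
structure IsCls (P : Matrix.GeneralLinearGroup ι F → Prop) : Prop where
  one : P 1
  mul : ∀ g h : Matrix.GeneralLinearGroup ι F, g ∈ Geo.quadSimilarityGroup (F := F) ⇑Q →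
    h ∈ Geo.quadSimilarityGroup (F := F) ⇑Q → P g → P h → P (g * h)
  inv : ∀ g : Matrix.GeneralLinearGroup ι F, g ∈ Geo.quadSimilarityGroup (F := F) ⇑Q →
    P g → P g⁻¹
  scal : ∀ u : Fˣ, P (scU u)
  idx : ∀ g h : Matrix.GeneralLinearGroup ι F, g ∈ Geo.quadSimilarityGroup (F := F) ⇑Q →
    h ∈ Geo.quadSimilarityGroup (F := F) ⇑Q → ¬ P g → ¬ P h → P (g * h)

variable {Q} {i : ℕ} {α β : Fin i → ι} {P : Matrix.GeneralLinearGroup ι F → Prop}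

/-- the similarities with the property -/
def simP (hP : IsCls Q P) : Subgroup ↥(Geo.quadSimilarityGroup (F := F) ⇑Q) where
  carrier := {g | P (g : Matrix.GeneralLinearGroup ι F)}
  mul_mem' := fun {a b} ha hb => hP.mul _ _ a.2 b.2 ha hb
  one_mem' := hP.one
  inv_mem' := fun {a} ha => hP.inv _ a.2 ha

theorem mem_simP (hP : IsCls Q P) (g : ↥(Geo.quadSimilarityGroup (F := F) ⇑Q)) :
    g ∈ simP hP ↔ P (g : Matrix.GeneralLinearGroup ι F) := Iff.rfl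

/-- the group of automorphisms induced by the similarities with the property -/
noncomputable def Dcls (hP : IsCls Q P) : Subgroup (MulAut (POmega F ⇑Q)) := (simP hP).map (conjGO Q)

theorem Dcls_le_range (hP : IsCls Q P) : Dcls hP ≤ (conjGO Q).range := by
  rintro _ ⟨g, -, rfl⟩
  exact ⟨g, rfl⟩

theorem scU_mem_sim (u : Fˣ) :
    (scU u : Matrix.GeneralLinearGroup ι F) ∈ Geo.quadSimilarityGroup (F := F) ⇑Q :=
  scalarGL_mem (u : F) u.ne_zero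

theorem conjGO_mem_Dcls_iff (hQ : (polarBilin Q).Nondegenerate) (hfam : IsHypFamily Q α β)
    (hi : 3 ≤ i) (h5 : 5 ≤ Fintype.card ι) {w₀ : ι → F} (hw₀ : Q w₀ = 1) (hP : IsCls Q P)
    (g : ↥(Geo.quadSimilarityGroup (F := F) ⇑Q)) :
    conjGO Q g ∈ Dcls hP ↔ P (g : Matrix.GeneralLinearGroup ι F) := by
  constructor
  · rintro ⟨g', hg', e⟩
    have hker : g'⁻¹ * g ∈ (conjGO Q).ker := by
      rw [MonoidHom.mem_ker, map_mul, map_inv, e, inv_mul_cancel]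
    obtain ⟨a, ha, hGa⟩ := scalar_of_mem_ker_conjGO hQ hfam hi h5 hw₀ _ hker
    have ha0 : a ≠ 0 := by
      rintro rfl
      rw [mul_zero] at ha
      exact mult_ne_zero hw₀ (g'⁻¹ * g).2 ha.symm
    have e1 : ((g'⁻¹ * g : ↥(Geo.quadSimilarityGroup (F := F) ⇑Q)) :
        Matrix.GeneralLinearGroup ι F) = scU (Units.mk0 a ha0) := by
      apply Units.ext
      rw [scU_coe]
      exact hGa
    have e2 : (g : Matrix.GeneralLinearGroup ι F) =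
        (g' : Matrix.GeneralLinearGroup ι F) * scU (Units.mk0 a ha0) := by
      rw [← e1]
      show (g : Matrix.GeneralLinearGroup ι F) =
        (g' : Matrix.GeneralLinearGroup ι F) * ((g' : Matrix.GeneralLinearGroup ι F)⁻¹ *
          (g : Matrix.GeneralLinearGroup ι F))
      rw [mul_inv_cancel_left]
    rw [e2]
    exact hP.mul _ _ g'.2 (scU_mem_sim _) hg' (hP.scal _)
  · intro h
    exact ⟨g, h, rfl⟩

theorem inndiagGenP_eq_Dcls (PM : Matrix ι ι F → Prop)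
    (hP : IsCls Q (fun g => PM (g : Matrix ι ι F))) :
    inndiagGenP ⇑Q PM = Dcls hP := by
  unfold inndiagGenP autSubgroupOf
  have hset : {β : MulAut (POmega F ⇑Q) | ∃ g : Matrix.GeneralLinearGroup ι F,
      g ∈ Geo.quadSimilarityGroup (F := F) ⇑Q ∧ PM (g : Matrix ι ι F) ∧
      IsInducedBySemilinearPOmega ⇑Q g (RingEquiv.refl F) β} =
      ((Dcls hP : Subgroup (MulAut (POmega F ⇑Q))) : Set (MulAut (POmega F ⇑Q))) := by
    ext β
    constructor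
    · rintro ⟨g, hg, hpsc, hind⟩
      refine ⟨⟨g, hg⟩, hpsc, ?_⟩
      ext x
      induction x using QuotientGroup.induction_on with
      | H s =>
        rw [conjGO_mk]
        symm
        apply hind
        rw [map_refl]
        rfl
    · rintro ⟨g, hg0, rfl⟩
      refine ⟨(g : Matrix.GeneralLinearGroup ι F), g.2, hg0, ?_⟩
      intro s s' hs
      rw [conjGO_mk]
      congr 1
      apply Subtype.ext
      apply Subtype.ext
      apply Units.ext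
      rw [hs, map_refl]
      rfl
  rw [hset, Subgroup.closure_eq]

theorem Dcls_normal (p : ℕ) [Fact p.Prime] [CharP F p] (hγ : gammaPOmega F ⇑Q = ⊤)
    {w₀ : ι → F} (hw₀ : Q w₀ = 1) (hP : IsCls Q P)
    (hconj : ∀ (g₁ : Matrix.GeneralLinearGroup ι F) (σ : F ≃+* F) (c₁ : F) (hc₁ : c₁ ≠ 0)
      (hg₁ : ∀ v, Q (sm g₁ σ v) = c₁ * σ (Q v))
      (k : ↥(Geo.quadSimilarityGroup (F := F) ⇑Q)), P (k : Matrix.GeneralLinearGroup ι F) →
      P ((conjSim g₁ σ c₁ hc₁ hg₁ hw₀ k : ↥(Geo.quadSimilarityGroup (F := F) ⇑Q)) :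
        Matrix.GeneralLinearGroup ι F)) : (Dcls hP).Normal := by
  constructor
  intro n hn g
  obtain ⟨k, hk, rfl⟩ := hn
  obtain ⟨σ, g₁, c₁, hc₁, hg₁, rfl⟩ := SR_total hγ g
  have h1 := conjSim_semiAut g₁ σ c₁ hc₁ hg₁ hw₀ k
  refine ⟨conjSim g₁ σ c₁ hc₁ hg₁ hw₀ k, hconj g₁ σ c₁ hc₁ hg₁ k hk, ?_⟩
  rw [h1, mul_inv_cancel_right]

/-- conjugacy in the coset of a field automorphism, with a restricted descent hypothesis -/
theorem conj_field_gen' [Nonempty ι] (hQ : (polarBilin Q).Nondegenerate)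
    (hfam : IsHypFamily Q α β) (hi : 3 ≤ i) (h5 : 5 ≤ Fintype.card ι) {w₀ : ι → F}
    (hw₀ : Q w₀ = 1) (σ : RingAut F) (hσQ : ∀ v, Q (vm σ v) = σ (Q v)) (r : ℕ) (hr : 0 < r)
    (hord : orderOf σ = r) (R : Matrix.GeneralLinearGroup ι F → Prop)
    (hR : ∀ (ν : Fˣ) (g : Matrix.GeneralLinearGroup ι F), R g → R (scU ν * g))
    (hdesc : ∀ g : Matrix.GeneralLinearGroup ι F,
      (∃ c : F, c ≠ 0 ∧ ∀ v, Q (sm g σ v) = c * σ (Q v)) → NkI σ g r = 1 → R g →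
      ∃ k : ↥(Geo.quadSimilarityGroup (F := F) ⇑Q),
        g * sGI σ (k : Matrix.GeneralLinearGroup ι F) = k)
    (β₀ : MulAut (POmega F ⇑Q)) (g : Matrix.GeneralLinearGroup ι F) (hβ : SRg β₀ g σ)
    (hRg : R g) (hpow : β₀ ^ r = 1) :
    ∃ k : ↥(Geo.quadSimilarityGroup (F := F) ⇑Q),
      β₀ = conjGO Q k * fO σ hσQ * (conjGO Q k)⁻¹ := by
  have hσ : σ ^ r = 1 := hord ▸ pow_orderOf_eq_one σ
  have hinj : ∀ i j, i < r → j < r → σ ^ i = σ ^ j → i = j := by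
    intro i j hi hj e
    exact pow_injOn_Iio_orderOf (by rw [hord]; exact hi) (by rw [hord]; exact hj) e
  have h1 := SRg_pow hβ r
  rw [hpow, hσ] at h1
  obtain ⟨a, ha⟩ := scalar_of_SRg_one hQ hfam hi h5 hw₀ h1
  have hfix := scalar_norm_fixed σ g r hσ a ha
  obtain ⟨ν, hν⟩ := norm_surjective σ r hr hinj hσ a⁻¹ (by rw [map_inv, hfix])
  have hN : NkI σ (scU ν * g) r = 1 := by
    rw [NkI_scU_mul, hν, ha, ← scU_mul, inv_mul_cancel, scU_one]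
  have hβ' := SRg_scU ν hβ
  obtain ⟨k, hk⟩ := hdesc (scU ν * g) (by
    obtain ⟨c, hc, hg, -⟩ := hβ'
    exact ⟨c, hc, hg⟩) hN (hR ν g hRg)
  exact ⟨k, SRg_conj hw₀ σ hσQ hβ' k hk⟩

/-- **conjugacy in the coset of a field automorphism under a subgroup of index two** -/
theorem conj_field_cls [Nonempty ι] (hQ : (polarBilin Q).Nondegenerate)
    (hfam : IsHypFamily Q α β) (hi : 3 ≤ i) (h5 : 5 ≤ Fintype.card ι) {w₀ : ι → F}
    (hw₀ : Q w₀ = 1) (hP : IsCls Q P) (σ : RingAut F) (hσQ : ∀ v, Q (vm σ v) = σ (Q v))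
    (r : ℕ) (hr : 0 < r) (hord : orderOf σ = r)
    (hdesc : ∀ g : Matrix.GeneralLinearGroup ι F,
      (∃ c : F, c ≠ 0 ∧ ∀ v, Q (sm g σ v) = c * σ (Q v)) → NkI σ g r = 1 →
      (g ∈ Geo.quadSimilarityGroup (F := F) ⇑Q ∧ P g) →
      ∃ k : ↥(Geo.quadSimilarityGroup (F := F) ⇑Q),
        g * sGI σ (k : Matrix.GeneralLinearGroup ι F) = k)
    (ρ : ↥(Geo.quadSimilarityGroup (F := F) ⇑Q))
    (hρfix : sGI σ (ρ : Matrix.GeneralLinearGroup ι F) = ρ)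
    (hρP : ¬ P (ρ : Matrix.GeneralLinearGroup ι F))
    (δ : MulAut (POmega F ⇑Q)) (hδ : δ ∈ Dcls hP) (hpow : (δ * fO σ hσQ) ^ r = 1) :
    IsConjUnder (Dcls hP) (fO σ hσQ) (δ * fO σ hσQ) := by
  obtain ⟨k₀, hk₀, rfl⟩ := hδ
  have hSR : SRg (conjGO Q k₀ * fO σ hσQ) (k₀ : Matrix.GeneralLinearGroup ι F) σ := by
    have h3 := SRg_mul (SRg_conjGO k₀) (SRg_fO σ hσQ)
    rw [map_one, mul_one, one_mul] at h3
    exact h3
  obtain ⟨k, hk⟩ := conj_field_gen' hQ hfam hi h5 hw₀ σ hσQ r hr hord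
    (fun g => g ∈ Geo.quadSimilarityGroup (F := F) ⇑Q ∧ P g)
    (fun ν g hg => ⟨Subgroup.mul_mem _ (scU_mem_sim ν) hg.1,
      hP.mul _ _ (scU_mem_sim ν) hg.1 (hP.scal ν) hg.2⟩)
    hdesc _ _ hSR ⟨k₀.2, hk₀⟩ hpow
  by_cases hPk : P (k : Matrix.GeneralLinearGroup ι F)
  · exact ⟨conjGO Q k, ⟨k, hPk, rfl⟩, hk⟩
  · refine ⟨conjGO Q (k * ρ), ⟨k * ρ, hP.idx _ _ k.2 ρ.2 hPk hρP, rfl⟩, ?_⟩
    have hcomm : fO σ hσQ * conjGO Q ρ = conjGO Q ρ * fO σ hσQ := by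
      rw [fO_mul_conjGO hw₀]
      have h1 : sGO σ hσQ ρ = ρ := Subtype.ext hρfix
      rw [h1]
    rw [hk, map_mul]
    calc conjGO Q k * fO σ hσQ * (conjGO Q k)⁻¹
        = conjGO Q k * (fO σ hσQ * conjGO Q ρ * (conjGO Q ρ)⁻¹) * (conjGO Q k)⁻¹ := by
          rw [mul_inv_cancel_right]
      _ = conjGO Q k * (conjGO Q ρ * fO σ hσQ * (conjGO Q ρ)⁻¹) * (conjGO Q k)⁻¹ := by
          rw [hcomm]
      _ = conjGO Q k * conjGO Q ρ * fO σ hσQ * (conjGO Q k * conjGO Q ρ)⁻¹ := by group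

/-- transport to conjugates -/
theorem conj_field_cls' [Nonempty ι] (hQ : (polarBilin Q).Nondegenerate)
    (hfam : IsHypFamily Q α β) (hi : 3 ≤ i) (h5 : 5 ≤ Fintype.card ι) {w₀ : ι → F}
    (hw₀ : Q w₀ = 1) (hP : IsCls Q P) (hD : (Dcls hP).Normal) (σ : RingAut F)
    (hσQ : ∀ v, Q (vm σ v) = σ (Q v))
    (r : ℕ) (hr : 0 < r) (hord : orderOf σ = r)
    (hdesc : ∀ g : Matrix.GeneralLinearGroup ι F,
      (∃ c : F, c ≠ 0 ∧ ∀ v, Q (sm g σ v) = c * σ (Q v)) → NkI σ g r = 1 →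
      (g ∈ Geo.quadSimilarityGroup (F := F) ⇑Q ∧ P g) →
      ∃ k : ↥(Geo.quadSimilarityGroup (F := F) ⇑Q),
        g * sGI σ (k : Matrix.GeneralLinearGroup ι F) = k)
    (ρ : ↥(Geo.quadSimilarityGroup (F := F) ⇑Q))
    (hρfix : sGI σ (ρ : Matrix.GeneralLinearGroup ι F) = ρ)
    (hρP : ¬ P (ρ : Matrix.GeneralLinearGroup ι F))
    (x δ α' : MulAut (POmega F ⇑Q)) (e1 : α' * x * α'⁻¹ = fO σ hσQ) (hδ : δ ∈ Dcls hP)
    (hpow : (δ * x) ^ r = 1) : IsConjUnder (Dcls hP) x (δ * x) := by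
  have := hD
  apply conjUnder_of_conj _ α'
  have hδ' := hD.conj_mem δ hδ α'
  have e2 : α' * (δ * x) * α'⁻¹ = (α' * δ * α'⁻¹) * fO σ hσQ := by
    rw [← e1]
    group
  rw [e1, e2]
  apply conj_field_cls hQ hfam hi h5 hw₀ hP σ hσQ r hr hord hdesc ρ hρfix hρP _ hδ'
  rw [← e2, conj_pow, hpow, mul_one, mul_inv_cancel]

end cls

section centcls
open Cfsg.Agent.Lib.Helper9.ASP Cfsg.Agent.Lib.Helper5.OAut Cfsg.Agent.Lib.Helper5.SpinorHyp
open Cfsg.Agent.Lib.Helper9.APSL (mem_cent_single)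

variable {Q} {i : ℕ} {α β : Fin i → ι} {P : Matrix.GeneralLinearGroup ι F → Prop}
variable {F₀ : Type*} [Field F₀] (j : F₀ →+* F) (Q₀ : QuadraticForm F₀ (ι → F₀))
variable {i₀ : ℕ} {α₀ β₀ : Fin i₀ → ι} {P₀ : Matrix.GeneralLinearGroup ι F₀ → Prop}

/-- **the centraliser of a field automorphism in a subgroup of index two of the image of the
conformal orthogonal group** -/
theorem exists_cent_fO_equiv_cls [Nonempty ι] [Fintype F₀] (hQ : (polarBilin Q).Nondegenerate)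
    (hfam : IsHypFamily Q α β) (hi : 3 ≤ i) (h5 : 5 ≤ Fintype.card ι) {w₀ : ι → F}
    (hw₀ : Q w₀ = 1) (hQ₀ : (polarBilin Q₀).Nondegenerate) (hfam₀ : IsHypFamily Q₀ α₀ β₀)
    (hi₀ : 3 ≤ i₀) {w₀' : ι → F₀} (hw₀' : Q₀ w₀' = 1)
    (hbc : ∀ v₀, Q (hm j v₀) = j (Q₀ v₀))
    (σ : RingAut F) (hσQ : ∀ v, Q (vm σ v) = σ (Q v)) (r : ℕ) (hr : 0 < r)
    (hord : orderOf σ = r) (hι : ∀ a : F, σ a = a ↔ a ∈ Set.range j)
    (hP : IsCls Q P) (hP₀ : IsCls Q₀ P₀)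
    (hcompat : ∀ h₀ : Matrix.GeneralLinearGroup ι F₀,
      h₀ ∈ Geo.quadSimilarityGroup (F := F₀) ⇑Q₀ →
      (P₀ h₀ ↔ P (Matrix.GeneralLinearGroup.map j h₀))) :
    Nonempty (↥(Dcls hP ⊓ Subgroup.centralizer {fO σ hσQ}) ≃* ↥(Dcls hP₀)) := by
  have hι' : ∀ b, σ (j b) = j b := fun b => (hι _).mpr ⟨b, rfl⟩
  obtain ⟨M, hM⟩ : ∃ M : ↥(Geo.quadSimilarityGroup (F := F₀) ⇑Q₀) →*
      ↥(Geo.quadSimilarityGroup (F := F) ⇑Q),
      ∀ h₀, ((M h₀ : ↥(Geo.quadSimilarityGroup (F := F) ⇑Q)) : Matrix.GeneralLinearGroup ι F)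
        = Matrix.GeneralLinearGroup.map j (h₀ : Matrix.GeneralLinearGroup ι F₀) :=
    ⟨((Matrix.GeneralLinearGroup.map j).comp
      (Geo.quadSimilarityGroup (F := F₀) ⇑Q₀).subtype).codRestrict _
      (fun h₀ => (glmap_mem_GO_iff j Q₀ hbc hw₀' h₀.1).mp h₀.2), fun _ => rfl⟩
  have hMfix : ∀ h₀, sGI σ ((M h₀ : ↥(Geo.quadSimilarityGroup (F := F) ⇑Q)) :
      Matrix.GeneralLinearGroup ι F) = M h₀ := by
    intro h₀
    rw [hM]
    exact sGI_glmap σ j hι' _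
  obtain ⟨Ψ, hΨ⟩ : ∃ Ψ : ↥(simP hP₀) →*
      ↥(Dcls hP ⊓ Subgroup.centralizer {fO σ hσQ}),
      ∀ h₀, (Ψ h₀ : MulAut (POmega F ⇑Q)) = conjGO Q (M (h₀ : ↥(Geo.quadSimilarityGroup
        (F := F₀) ⇑Q₀))) :=
    ⟨(((conjGO Q).comp M).comp (simP hP₀).subtype).codRestrict _ (fun h₀ => by
      refine ⟨⟨M h₀.1, ?_, rfl⟩, ?_⟩
      · show P ((M h₀.1 : ↥(Geo.quadSimilarityGroup (F := F) ⇑Q)) :
          Matrix.GeneralLinearGroup ι F)
        rw [hM]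
        exact (hcompat _ h₀.1.2).mp h₀.2
      · exact ((cent_fO_iff hQ hfam hi h5 hw₀ σ hσQ r hr hord _).mpr
          ⟨M h₀.1, hMfix h₀.1, rfl⟩).2), fun _ => rfl⟩
  have hsurj : Function.Surjective Ψ := by
    intro β₁
    have hβ₁ : (β₁ : MulAut (POmega F ⇑Q)) ∈ (conjGO Q).range ⊓
        Subgroup.centralizer {fO σ hσQ} := ⟨Dcls_le_range hP β₁.2.1, β₁.2.2⟩
    obtain ⟨g, hg, e⟩ := (cent_fO_iff hQ hfam hi h5 hw₀ σ hσQ r hr hord _).mp hβ₁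
    have hPg : P (g : Matrix.GeneralLinearGroup ι F) := by
      rw [← conjGO_mem_Dcls_iff hQ hfam hi h5 hw₀ hP g, ← e]
      exact β₁.2.1
    obtain ⟨g₀, hg₀⟩ := exists_glmapI_eq σ j hι (g : Matrix.GeneralLinearGroup ι F) hg
    have hg₀m : g₀ ∈ Geo.quadSimilarityGroup (F := F₀) ⇑Q₀ :=
      (glmap_mem_GO_iff j Q₀ hbc hw₀' g₀).mpr (by rw [hg₀]; exact g.2)
    have hP₀g : P₀ g₀ := (hcompat g₀ hg₀m).mpr (by rw [hg₀]; exact hPg)
    refine ⟨⟨⟨g₀, hg₀m⟩, hP₀g⟩, ?_⟩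
    apply Subtype.ext
    rw [hΨ, e]
    congr 1
    apply Subtype.ext
    rw [hM]
    exact hg₀
  have h5₀ : 5 ≤ Fintype.card ι := h5
  obtain ⟨φ₀, hφ₀⟩ : ∃ φ₀ : ↥(simP hP₀) →* MulAut (POmega F₀ ⇑Q₀),
      φ₀ = (conjGO Q₀).comp (simP hP₀).subtype := ⟨_, rfl⟩
  have hker : Ψ.ker = φ₀.ker := by
    ext h₀
    rw [MonoidHom.mem_ker, MonoidHom.mem_ker, hφ₀]
    constructor
    · intro h
      have h2 : M h₀.1 ∈ (conjGO Q).ker := by
        rw [MonoidHom.mem_ker, ← hΨ, h]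
        rfl
      obtain ⟨a, -, hGa⟩ := scalar_of_mem_ker_conjGO hQ hfam hi h5 hw₀ _ h2
      rw [hM, glmapI_coe] at hGa
      obtain ⟨a₀, ha₀⟩ := (map_scalar_iff j _).mp ⟨a, hGa⟩
      exact mem_ker_conjGO_of_scalar h₀.1 a₀ ha₀
    · intro h
      have h' : h₀.1 ∈ (conjGO Q₀).ker := h
      obtain ⟨a₀, -, hGa⟩ := scalar_of_mem_ker_conjGO hQ₀ hfam₀ hi₀ h5₀ hw₀' h₀.1 h'
      obtain ⟨a, ha⟩ := (map_scalar_iff j _).mpr ⟨a₀, hGa⟩
      apply Subtype.ext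
      rw [hΨ]
      have h3 : M h₀.1 ∈ (conjGO Q).ker := by
        apply mem_ker_conjGO_of_scalar (M h₀.1) a
        rw [hM, glmapI_coe]
        exact ha
      exact h3
  have hrange : φ₀.range = Dcls hP₀ := by
    rw [hφ₀, MonoidHom.range_comp, Subgroup.range_subtype]
    rfl
  exact ⟨(QuotientGroup.quotientKerEquivOfSurjective Ψ hsurj).symm.trans
    ((QuotientGroup.quotientMulEquivOfEq hker).trans
      ((QuotientGroup.quotientKerEquivRange φ₀).trans (MulEquiv.subgroupCongr hrange)))⟩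

end centcls

end Cfsg.Agent.Lib.Helper9.AOF
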