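import Mathlib
import Cfsg.Prelude
import Cfsg.Agent.Lib.Helper5.OmegaSimple
import Cfsg.Agent.Lib.Helper5.MaxTS
import Cfsg.Agent.Lib.Helper9.AOF7
import Cfsg.Agent.Lib.Helper5.QuadSign.GeoInst
import Cfsg.Agent.Lib.Helper5.QuadSign.StdMinus

set_option autoImplicit false
set_option linter.unusedSectionVars false
set_option linter.unusedVariables false
open Cfsg

namespace Cfsg.Agent.Lib.Helper9.AOF

open Matrix QuadraticMap Cfsg.Agent.Lib.Helper5.CartanDieudonne Cfsg.Agent.Lib.Helper5.Refl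
  Cfsg.Agent.Lib.Helper5.OrthCard Cfsg.Agent.Lib.Helper5.Siegel Cfsg.Agent.Lib.Helper5.QuadIsom
  Cfsg.Agent.Lib.Helper5.ReflGen Cfsg.Agent.Lib.Helper5.Eichler Cfsg.Agent.Lib.Helper5.SingGeom
  Cfsg.Agent.Lib.Helper5.OmegaGen Cfsg.Agent.Lib.Helper5.OmegaSimple
  Cfsg.Agent.Lib.Helper9.AOR

variable {ι : Type} [Fintype ι] [DecidableEq ι] {F : Type*} [Field F] [Fintype F]
  (Q : QuadraticForm F (ι → F))

/-! Hilbert 90 for the conformal orthogonal group of a minus type form with fixed coefficients. -/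

section minusdesc
open Cfsg.Agent.Lib.Helper9.ASP Cfsg.Agent.Lib.Helper5.OAut Cfsg.Agent.Lib.Helper5.SpinorHyp2
  Cfsg.Agent.Lib.Helper5.SpinorHyp Cfsg.Agent.Lib.Helper5.OrthPlane
  Cfsg.Agent.Lib.Helper5.QuadSign Cfsg.Agent.Lib.Helper5.QuadTwo
open Cfsg.Agent.Lib.Helper9.APSL (mem_fixed_subfield)

omit [Fintype F] in
theorem genForm_coe_minus {K : Type*} [Field K] (a b : K) (m : ℕ) :
    ⇑(genForm (binForm a b) m) = Cfsg.quadFormMinus m K a b := by
  funext v
  rw [genForm_apply, binForm_apply]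
  simp only [Cfsg.quadFormMinus]
  ring

omit [Fintype F] in
theorem genForm_eq_qMinus {K : Type*} [Field K] (a b : K) (m : ℕ) :
    genForm (binForm a b) m = qMinus m a b := by
  apply DFunLike.coe_injective
  rw [genForm_coe_minus, qMinus_coe]

omit [Fintype F] in
theorem minus_hm {F₀ : Type*} [Field F₀] (j : F₀ →+* F) (a₀ b₀ : F₀) (m : ℕ)
    (v₀ : (Fin m ⊕ Fin m) ⊕ Fin 2 → F₀) :
    genForm (binForm (j a₀) (j b₀)) m (hm j v₀) = j (genForm (binForm a₀ b₀) m v₀) := by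
  rw [genForm_apply, genForm_apply, binForm_apply, binForm_apply]
  simp only [hm, map_add, map_sum, map_mul]

omit [Fintype F] in
theorem minus_vm (a b : F) (m : ℕ) (σ : RingAut F) (hσa : σ a = a) (hσb : σ b = b)
    (v : (Fin m ⊕ Fin m) ⊕ Fin 2 → F) :
    genForm (binForm a b) m (vm σ v) = σ (genForm (binForm a b) m v) := by
  rw [genForm_apply, genForm_apply, binForm_apply, binForm_apply]
  simp only [vm, map_add, map_sum, map_mul, hσa, hσb]

omit [Fintype F] [Fintype ι] [DecidableEq ι] in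
theorem nd_of_nondeg {K : Type*} [Field K] {κ : Type*} (B : QuadraticForm K (κ → K))
    (h : (polarBilin B).Nondegenerate) : Nd B := by
  intro v hv
  apply h.1 v
  intro w
  have := hv w
  rw [polar_comm] at this
  simpa using this

/-- the hyperbolic form on the index set of the minus type form -/
noncomputable def plE (K : Type*) [Field K] (m : ℕ)
    (e : Fin (m + 1) ⊕ Fin (m + 1) ≃ (Fin m ⊕ Fin m) ⊕ Fin 2) :
    QuadraticForm K ((Fin m ⊕ Fin m) ⊕ Fin 2 → K) :=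
  (qPlus (m + 1)).comp (LinearMap.funLeft K K e)

omit [Fintype F] in
theorem plE_apply (K : Type*) [Field K] (m : ℕ)
    (e : Fin (m + 1) ⊕ Fin (m + 1) ≃ (Fin m ⊕ Fin m) ⊕ Fin 2)
    (v : (Fin m ⊕ Fin m) ⊕ Fin 2 → K) :
    plE K m e v = ∑ i : Fin (m + 1), v (e (Sum.inl i)) * v (e (Sum.inr i)) := rfl

omit [Fintype F] in
theorem plE_hm {F₀ : Type*} [Field F₀] (j : F₀ →+* F) (m : ℕ)
    (e : Fin (m + 1) ⊕ Fin (m + 1) ≃ (Fin m ⊕ Fin m) ⊕ Fin 2)
    (v₀ : (Fin m ⊕ Fin m) ⊕ Fin 2 → F₀) :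
    plE F m e (hm j v₀) = j (plE F₀ m e v₀) := by
  rw [plE_apply, plE_apply]
  simp only [hm, map_sum, map_mul]

theorem hasSign_plE (m : ℕ) (e : Fin (m + 1) ⊕ Fin (m + 1) ≃ (Fin m ⊕ Fin m) ⊕ Fin 2) :
    HasSign (plE F m e) (m + 1) 1 := by
  have h := hasSign_qPlus (F := F) (m + 1)
  exact (hasSign_congr (Equiv.arrowCongr e.symm (Equiv.refl F)) (plE F m e) (qPlus (m + 1))
    (fun x => by
      rw [plE_apply, qPlus_apply]
      apply Finset.sum_congr rfl
      intro i _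
      simp [Equiv.arrowCongr]) (m + 1) 1).mpr h

omit [Fintype F] [Fintype ι] in
/-- the bijection given by an invertible matrix -/
noncomputable def glEquiv (k : Matrix.GeneralLinearGroup ι F) : (ι → F) ≃ (ι → F) where
  toFun v := (k : Matrix ι ι F) *ᵥ v
  invFun v := ((k⁻¹ : Matrix.GeneralLinearGroup ι F) : Matrix ι ι F) *ᵥ v
  left_inv v := by
    show ((k⁻¹ : Matrix.GeneralLinearGroup ι F) : Matrix ι ι F) *ᵥ ((k : Matrix ι ι F) *ᵥ v) = v
    rw [Matrix.mulVec_mulVec, ← Units.val_mul, inv_mul_cancel, Units.val_one, Matrix.one_mulVec]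
  right_inv v := by
    show (k : Matrix ι ι F) *ᵥ (((k⁻¹ : Matrix.GeneralLinearGroup ι F) : Matrix ι ι F) *ᵥ v) = v
    rw [Matrix.mulVec_mulVec, ← Units.val_mul, mul_inv_cancel, Units.val_one, Matrix.one_mulVec]

theorem hasSign_smul {V : Type*} (B : V → F) (d : F) (hd : d ≠ 0) (k : ℕ) (s : ℤ) :
    HasSign (fun v => d * B v) k s ↔ HasSign B k s := by
  unfold HasSign
  have : zeros (fun v => d * B v) = zeros B := by
    unfold zeros
    apply Nat.card_congr
    exact Equiv.subtypeEquivRight (fun x => by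
      constructor
      · intro h
        exact (mul_eq_zero.mp h).resolve_left hd
      · intro h
        show d * B x = 0
        rw [h, mul_zero])
  rw [this]

variable (a b : F) (m : ℕ)

/-- **Hilbert 90 for the conformal orthogonal group of a minus type form** whose coefficients
are fixed by the field automorphism -/
theorem exists_orth_descent_minus
    (hab : ∀ z₁ z₂ : F, z₁ ^ 2 + a * z₁ * z₂ + b * z₂ ^ 2 = 0 → z₁ = 0 ∧ z₂ = 0)
    (σ : RingAut F) (hσa : σ a = a) (hσb : σ b = b) (r : ℕ) (hr : 0 < r)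
    (hord : orderOf σ = r) (g : Matrix.GeneralLinearGroup ((Fin m ⊕ Fin m) ⊕ Fin 2) F)
    (hg : ∃ c : F, c ≠ 0 ∧ ∀ v, genForm (binForm a b) m (sm g σ v) =
      c * σ (genForm (binForm a b) m v))
    (hN : NkI σ g r = 1) :
    ∃ k : ↥(Geo.quadSimilarityGroup (F := F) ⇑(genForm (binForm a b) m)),
      g * sGI σ (k : Matrix.GeneralLinearGroup ((Fin m ⊕ Fin m) ⊕ Fin 2) F) = k := by
  have hσ : σ ^ r = 1 := hord ▸ pow_orderOf_eq_one σ
  have hinj : ∀ i j, i < r → j < r → σ ^ i = σ ^ j → i = j := by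
    intro i j hi hj e
    exact pow_injOn_Iio_orderOf (by rw [hord]; exact hi) (by rw [hord]; exact hj) e
  obtain ⟨c, hc, hgc⟩ := hg
  have han := anisotropic_of a b hab
  have hQ := genForm_nondegenerate _ (binForm_nondegenerate a b han) m
  obtain ⟨j, hj⟩ : ∃ j : ↥(FixedPoints.subfield (Subgroup.zpowers σ) F) →+* F,
      j = (FixedPoints.subfield (Subgroup.zpowers σ) F).subtype := ⟨_, rfl⟩
  have hι : ∀ x : F, σ x = x → x ∈ Set.range j := by
    intro x hx
    rw [hj]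
    exact ⟨⟨x, (mem_fixed_subfield σ x).mpr hx⟩, rfl⟩
  have hι' : ∀ t : ↥(FixedPoints.subfield (Subgroup.zpowers σ) F), σ (j t) = j t := by
    intro t
    rw [hj]
    exact (mem_fixed_subfield σ t.1).mp t.2
  have : Finite ↥(FixedPoints.subfield (Subgroup.zpowers σ) F) :=
    Finite.of_injective (fun x => (x : F)) Subtype.val_injective
  let _ : Fintype ↥(FixedPoints.subfield (Subgroup.zpowers σ) F) := Fintype.ofFinite _
  have : Nonempty ((Fin m ⊕ Fin m) ⊕ Fin 2) := ⟨Sum.inr 0⟩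
  obtain ⟨h, d, Q₀, hd, hh, hQ₀nd, hQ₀⟩ := descent_form (genForm (binForm a b) m) j σ r hr hinj
    hσ hι hι' hQ g c hc hgc hN
  obtain ⟨a₀, ha₀⟩ := hι a hσa
  obtain ⟨b₀, hb₀⟩ := hι b hσb
  have hab₀ : ∀ z₁ z₂ : ↥(FixedPoints.subfield (Subgroup.zpowers σ) F),
      z₁ ^ 2 + a₀ * z₁ * z₂ + b₀ * z₂ ^ 2 = 0 → z₁ = 0 ∧ z₂ = 0 := by
    intro z₁ z₂ hz
    have h1 := congrArg j hz
    rw [map_add, map_add, map_mul, map_mul, map_mul, map_pow, map_pow, ha₀, hb₀, map_zero] at h1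
    obtain ⟨e1, e2⟩ := hab _ _ h1
    exact ⟨j.injective (by rw [e1, map_zero]), j.injective (by rw [e2, map_zero])⟩
  have hbc : ∀ v₀, genForm (binForm a b) m (hm j v₀) = j (genForm (binForm a₀ b₀) m v₀) := by
    intro v₀
    rw [← minus_hm, ha₀, hb₀]
  have hNd₀ : Nd Q₀ := nd_of_nondeg Q₀ hQ₀nd
  have hfin : Module.finrank ↥(FixedPoints.subfield (Subgroup.zpowers σ) F)
      ((Fin m ⊕ Fin m) ⊕ Fin 2 → ↥(FixedPoints.subfield (Subgroup.zpowers σ) F)) =
      2 * (m + 1) := finrank_minus m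
  -- the common final step
  have key : ∀ (B₀ : QuadraticForm ↥(FixedPoints.subfield (Subgroup.zpowers σ) F)
      ((Fin m ⊕ Fin m) ⊕ Fin 2 → ↥(FixedPoints.subfield (Subgroup.zpowers σ) F)))
      (B : QuadraticForm F ((Fin m ⊕ Fin m) ⊕ Fin 2 → F)),
      (∀ v₀, B (hm j v₀) = j (B₀ v₀)) →
      (∃ φ : ((Fin m ⊕ Fin m) ⊕ Fin 2 → ↥(FixedPoints.subfield (Subgroup.zpowers σ) F)) ≃ₗ[
        ↥(FixedPoints.subfield (Subgroup.zpowers σ) F)]
        ((Fin m ⊕ Fin m) ⊕ Fin 2 → ↥(FixedPoints.subfield (Subgroup.zpowers σ) F)),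
        ∀ x, Q₀ (φ x) = B₀ x) →
      ∃ k : Matrix.GeneralLinearGroup ((Fin m ⊕ Fin m) ⊕ Fin 2) F,
        g * sGI σ k = k ∧ ∀ v, genForm (binForm a b) m ((k : Matrix ((Fin m ⊕ Fin m) ⊕ Fin 2)
          ((Fin m ⊕ Fin m) ⊕ Fin 2) F) *ᵥ v) = d * B v := by
    intro B₀ B hB ⟨φ, hφ⟩
    obtain ⟨e₀, he₀⟩ := exists_GL_of_linearEquiv φ
    obtain ⟨k, hk⟩ : ∃ k : Matrix.GeneralLinearGroup ((Fin m ⊕ Fin m) ⊕ Fin 2) F,
        k = h * Matrix.GeneralLinearGroup.map j e₀ := ⟨_, rfl⟩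
    have hrat : ∀ v₀, genForm (binForm a b) m ((k : Matrix ((Fin m ⊕ Fin m) ⊕ Fin 2)
        ((Fin m ⊕ Fin m) ⊕ Fin 2) F) *ᵥ hm j v₀) = d * B (hm j v₀) := by
      intro v₀
      rw [hk, Units.val_mul, ← Matrix.mulVec_mulVec, glmapI_coe, ← hm_mulVec, hQ₀, he₀, hφ, hB]
    refine ⟨k, ?_, ?_⟩
    · rw [hk, map_mul, sGI_glmap σ j hι', ← mul_assoc, hh]
    · have e := quad_ext_rational j
        ((genForm (binForm a b) m).comp (Matrix.toLin' (k : Matrix ((Fin m ⊕ Fin m) ⊕ Fin 2)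
          ((Fin m ⊕ Fin m) ⊕ Fin 2) F)))
        (d • B) (by
          intro v₀
          rw [QuadraticMap.comp_apply, Matrix.toLin'_apply, hrat]
          rfl)
      intro v
      have e1 := congrArg (fun B' : QuadraticForm F ((Fin m ⊕ Fin m) ⊕ Fin 2 → F) => B' v) e
      simp only [QuadraticMap.comp_apply, Matrix.toLin'_apply] at e1
      rw [e1]
      rfl
  rcases (geo_all (F := ↥(FixedPoints.subfield (Subgroup.zpowers σ) F))).hasSign Q₀ hNd₀ (m + 1)
    hfin with hs | hs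
  · -- plus type: impossible
    exfalso
    obtain ⟨e⟩ : Nonempty (Fin (m + 1) ⊕ Fin (m + 1) ≃ (Fin m ⊕ Fin m) ⊕ Fin 2) :=
      ⟨Fintype.equivOfCardEq (by simp only [Fintype.card_sum, Fintype.card_fin]; omega)⟩
    have hsP := hasSign_plE (F := ↥(FixedPoints.subfield (Subgroup.zpowers σ) F)) m e
    have hNdP : Nd (plE ↥(FixedPoints.subfield (Subgroup.zpowers σ) F) m e) := by
      intro v hv
      have h1 : v ∘ e = 0 := by
        apply nd_qPlus (m + 1)
        intro w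
        have := hv (w ∘ e.symm)
        unfold polar at this ⊢
        rw [plE_apply, plE_apply, plE_apply] at this
        rw [qPlus_apply, qPlus_apply, qPlus_apply]
        simpa using this
      funext x
      have := congrFun h1 (e.symm x)
      simpa using this
    obtain ⟨φ, hφ⟩ := (geo_all (F := ↥(FixedPoints.subfield (Subgroup.zpowers σ) F))).iso_of_hasSign
      (plE ↥(FixedPoints.subfield (Subgroup.zpowers σ) F) m e) Q₀ hNdP hNd₀ (m + 1) hfin hfin 1
      hsP hs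
    obtain ⟨k, -, hk⟩ := key (plE ↥(FixedPoints.subfield (Subgroup.zpowers σ) F) m e)
      (plE F m e) (plE_hm j m e) ⟨φ, hφ⟩
    have h1 : HasSign (⇑(genForm (binForm a b) m)) (m + 1) (-1) := by
      rw [genForm_eq_qMinus]
      exact hasSign_qMinus m hab
    have h2 : HasSign (fun v => d * plE F m e v) (m + 1) (-1) :=
      (hasSign_congr (glEquiv k) (fun v => d * plE F m e v) (⇑(genForm (binForm a b) m))
        (fun x => hk x) (m + 1) (-1)).mpr h1
    rw [hasSign_smul _ d hd] at h2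
    have h3 := HasSign.unique h2 (hasSign_plE (F := F) m e)
    omega
  · -- minus type
    have hsM : HasSign (⇑(genForm (binForm a₀ b₀) m)) (m + 1) (-1) := by
      rw [genForm_eq_qMinus]
      exact hasSign_qMinus m hab₀
    have han₀ := anisotropic_of a₀ b₀ hab₀
    have hQm₀ := genForm_nondegenerate _ (binForm_nondegenerate a₀ b₀ han₀) m
    obtain ⟨φ, hφ⟩ := (geo_all (F := ↥(FixedPoints.subfield (Subgroup.zpowers σ) F))).iso_of_hasSign
      (genForm (binForm a₀ b₀) m) Q₀ (nd_of_nondeg _ hQm₀) hNd₀ (m + 1) hfin hfin (-1) hsM hs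
    obtain ⟨k, hkfix, hk⟩ := key (genForm (binForm a₀ b₀) m) (genForm (binForm a b) m) hbc
      ⟨φ, hφ⟩
    exact ⟨⟨k, ⟨Units.mk0 d hd, hk⟩⟩, hkfix⟩

end minusdesc

end Cfsg.Agent.Lib.Helper9.AOF
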