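import Mathlib
import Cfsg.Prelude
import Cfsg.Agent.Lib.Helper5.OmegaSimple
import Cfsg.Agent.Lib.Helper5.MaxTS
import Cfsg.Agent.Lib.Helper9.AOF8
import Cfsg.Agent.Lib.Helper5.OAut.MinusCrit
import Cfsg.Agent.Lib.Helper5.ClassParity

set_option autoImplicit false
set_option linter.unusedSectionVars false
set_option linter.unusedVariables false
open Cfsg

namespace Cfsg.Agent.Lib.Helper9.AOF

open Matrix QuadraticMap Cfsg.Agent.Lib.Helper5.CartanDieudonne Cfsg.Agent.Lib.Helper5.Refl
  Cfsg.Agent.Lib.Helper5.OrthCard Cfsg.Agent.Lib.Helper5.Siegel Cfsg.Agent.Lib.Helper5.QuadIsom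
  Cfsg.Agent.Lib.Helper5.ReflGen Cfsg.Agent.Lib.Helper5.Eichler Cfsg.Agent.Lib.Helper5.SingGeom
  Cfsg.Agent.Lib.Helper5.OmegaGen Cfsg.Agent.Lib.Helper5.OmegaSimple
  Cfsg.Agent.Lib.Helper9.AOR

variable {ι : Type} [Fintype ι] [DecidableEq ι] {F : Type*} [Field F] [Fintype F]
  (Q : QuadraticForm F (ι → F))

/-! The class preserving isometries of a minus type form: products of an even number of
reflections (all characteristics). -/

section pscmiso
open Cfsg.Agent.Lib.Helper9.ASP Cfsg.Agent.Lib.Helper5.OAut Cfsg.Agent.Lib.Helper5.SpinorHyp2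
  Cfsg.Agent.Lib.Helper5.SpinorHyp Cfsg.Agent.Lib.Helper5.OrthPlane
  Cfsg.Agent.Lib.Helper5.SpinorNorm Cfsg.Agent.Lib.Helper5.MaxTS Module Polynomial

universe u

/-- the discriminant of an anisotropic binary form does not vanish -/
theorem disc_ne_zero {F : Type*} [Field F] [Fintype F] (a b : F)
    (hab : ∀ z₁ z₂ : F, z₁ ^ 2 + a * z₁ * z₂ + b * z₂ ^ 2 = 0 → z₁ = 0 ∧ z₂ = 0) :
    a * a - 4 * b ≠ 0 := by
  intro h
  by_cases h2 : (2 : F) = 0
  · have h4 : (4 : F) = 0 := by
      have : (4 : F) = 2 * 2 := by norm_num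
      rw [this, h2, mul_zero]
    rw [h4, zero_mul, sub_zero] at h
    have ha : a = 0 := mul_self_eq_zero.mp h
    have hchar : ringChar F = 2 :=
      CharP.ringChar_of_prime_eq_zero Nat.prime_two (by exact_mod_cast h2)
    obtain ⟨c, hc⟩ := FiniteField.isSquare_of_char_two hchar b
    have := (hab c 1 (by rw [ha, hc]; linear_combination (c * c) * h2)).2
    exact one_ne_zero this
  · have := (hab a (-2) (by linear_combination -h)).2
    apply h2
    linear_combination -this

/-- a quadratic extension of a finite field contains a root of every irreducible quadratic -/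
theorem exists_root_finrank_two {F : Type*} [Field F] [Fintype F] (a b : F)
    (hab : ∀ z₁ z₂ : F, z₁ ^ 2 + a * z₁ * z₂ + b * z₂ ^ 2 = 0 → z₁ = 0 ∧ z₂ = 0)
    (K : Type*) [Field K] [Algebra F K] (hK : finrank F K = 2) :
    ∃ ρ : K, ρ * ρ + algebraMap F K a * ρ + algebraMap F K b = 0 := by
  obtain ⟨p, hp⟩ := CharP.exists F
  have : Fact p.Prime := ⟨CharP.char_is_prime F p⟩
  have hirr : Fact (Irreducible (binPoly a b)) := ⟨binPoly_irreducible a b hab⟩
  have hne : binPoly a b ≠ 0 := hirr.1.ne_zero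
  have hK' : finrank F (AdjoinRoot (binPoly a b)) = 2 := by
    rw [(AdjoinRoot.powerBasis hne).finrank, AdjoinRoot.powerBasis_dim, binPoly_natDegree]
  obtain ⟨e⟩ : Nonempty (AdjoinRoot (binPoly a b) ≃ₐ[F] K) :=
    ⟨(FiniteField.algEquivExtension F p 2 (AdjoinRoot (binPoly a b)) hK').trans
      (FiniteField.algEquivExtension F p 2 K hK).symm⟩
  have h0 : aeval (AdjoinRoot.root (binPoly a b)) (binPoly a b) = 0 := by
    rw [AdjoinRoot.aeval_eq, AdjoinRoot.mk_self]
  have h1 : aeval (e (AdjoinRoot.root (binPoly a b))) (binPoly a b) = 0 := by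
    have := Polynomial.aeval_algHom_apply (e : AdjoinRoot (binPoly a b) →ₐ[F] K)
      (AdjoinRoot.root (binPoly a b)) (binPoly a b)
    rw [h0, map_zero] at this
    exact this
  obtain ⟨ρ, hρ⟩ : ∃ ρ : K, ρ = e (AdjoinRoot.root (binPoly a b)) := ⟨_, rfl⟩
  rw [← hρ] at h1
  refine ⟨ρ, ?_⟩
  unfold binPoly at h1
  simp only [map_add, map_mul, map_pow, aeval_X, aeval_C] at h1
  linear_combination h1

variable {F : Type u} [Field F] [Fintype F] (a b : F) (m : ℕ)

/-- the class preserving isometries of a minus type form are the products of an even number of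
reflections -/
theorem pscm_isometry_iff
    (hab : ∀ z₁ z₂ : F, z₁ ^ 2 + a * z₁ * z₂ + b * z₂ ^ 2 = 0 → z₁ = 0 ∧ z₂ = 0)
    (s : ↥(isometryGroup F ⇑(genForm (binForm a b) m)))
    (vs : List ((Fin m ⊕ Fin m) ⊕ Fin 2 → F)) (hvs : IsRep (genForm (binForm a b) m) s vs) :
    PreservesSingularClassesMinus m a b
        ((s : Matrix.GeneralLinearGroup ((Fin m ⊕ Fin m) ⊕ Fin 2) F) :
          Matrix ((Fin m ⊕ Fin m) ⊕ Fin 2) ((Fin m ⊕ Fin m) ⊕ Fin 2) F) ↔ Even vs.length := by
  have key : ∀ (K : Type u) [Field K] [Algebra F K], finrank F K = 2 →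
      (PreservesSingularClasses (quadFormMinus m K (algebraMap F K a) (algebraMap F K b))
        (((s : Matrix.GeneralLinearGroup ((Fin m ⊕ Fin m) ⊕ Fin 2) F) :
          Matrix ((Fin m ⊕ Fin m) ⊕ Fin 2) ((Fin m ⊕ Fin m) ⊕ Fin 2) F).map (algebraMap F K)) ↔
        Even vs.length) := by
    intro K _ _ hK
    classical
    have hfd : Module.Finite F K := Module.finite_of_finrank_pos (by rw [hK]; norm_num)
    have hfinK : Finite K := Module.finite_of_finite F
    let _ : Fintype K := Fintype.ofFinite K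
    have hinj := (algebraMap F K).injective
    have hDF := disc_ne_zero a b hab
    have hDK : algebraMap F K a * algebraMap F K a - 4 * algebraMap F K b ≠ 0 := by
      intro h
      apply hDF
      apply hinj
      rw [map_sub, map_mul, map_mul, map_ofNat, h, map_zero]
    obtain ⟨ρ, hρ⟩ := exists_root_finrank_two a b hab K hK
    have hQK := genForm_nondegenerate (binForm (algebraMap F K a) (algebraMap F K b))
      (binForm_nondegenerate' _ _ hDK) m
    have hU₀ := rootTS_isMaxTS (algebraMap F K a) (algebraMap F K b) ρ m hDK hρ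
    have hbc : ∀ v₀, genForm (binForm (algebraMap F K a) (algebraMap F K b)) m
        (hm (algebraMap F K) v₀) = algebraMap F K (genForm (binForm a b) m v₀) :=
      fun v₀ => minus_hm (algebraMap F K) a b m v₀
    have hne : ∀ v ∈ vs.map (hm (algebraMap F K)),
        genForm (binForm (algebraMap F K a) (algebraMap F K b)) m v ≠ 0 := by
      intro v hv
      obtain ⟨v₀, hv₀, rfl⟩ := List.mem_map.mp hv
      rw [hbc]
      exact (map_ne_zero (algebraMap F K)).mpr (hvs.1 v₀ hv₀)
    obtain ⟨sK, hsK⟩ : ∃ sK : ↥(isometryGroup K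
        ⇑(genForm (binForm (algebraMap F K a) (algebraMap F K b)) m)),
        sK = ((vs.map (hm (algebraMap F K))).map
          (reflE (genForm (binForm (algebraMap F K a) (algebraMap F K b)) m))).prod := ⟨_, rfl⟩
    have hrep : IsRep (genForm (binForm (algebraMap F K a) (algebraMap F K b)) m) sK
        (vs.map (hm (algebraMap F K))) := by
      refine ⟨hne, ?_⟩
      rw [hsK]
      exact coe_prod_reflE _ _ hne
    have hsmat : ((sK : Matrix.GeneralLinearGroup ((Fin m ⊕ Fin m) ⊕ Fin 2) K) :
        Matrix ((Fin m ⊕ Fin m) ⊕ Fin 2) ((Fin m ⊕ Fin m) ⊕ Fin 2) K) =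
        ((s : Matrix.GeneralLinearGroup ((Fin m ⊕ Fin m) ⊕ Fin 2) F) :
          Matrix ((Fin m ⊕ Fin m) ⊕ Fin 2) ((Fin m ⊕ Fin m) ⊕ Fin 2) F).map
          (algebraMap F K) := by
      rw [hrep.2, rprod_hm (algebraMap F K) (genForm (binForm a b) m) hbc, ← hvs.2]
    have hV := finrank_minus_space (K := K) m
    have h1 := Cfsg.Agent.Lib.Helper5.ClassParity.even_dist_iff
      (genForm (binForm (algebraMap F K a) (algebraMap F K b)) m) hQK (m + 1) hV
      (rootTS ρ m) hU₀ sK _ hrep
    have h3 : Even (sdist (m + 1) (rootTS ρ m)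
        (sK : Matrix.GeneralLinearGroup ((Fin m ⊕ Fin m) ⊕ Fin 2) K)) ↔
        Even (vs.map (hm (algebraMap F K))).length := h1
    rw [List.length_map] at h3
    rw [← genForm_coe_minus, ← hsmat,
      preservesSingularClasses_iff _ hQK (m + 1) hV (rootTS ρ m) hU₀ _
        (isometryGroup_le_sim _ sK.2)]
    exact h3
  constructor
  · rintro ⟨K, hKf, hKa, hK, hpsc⟩
    exact (key K hK).1 hpsc
  · intro h
    have hirr : Fact (Irreducible (binPoly a b)) := ⟨binPoly_irreducible a b hab⟩
    have hne : binPoly a b ≠ 0 := hirr.1.ne_zero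
    have hK : finrank F (AdjoinRoot (binPoly a b)) = 2 := by
      rw [(AdjoinRoot.powerBasis hne).finrank, AdjoinRoot.powerBasis_dim, binPoly_natDegree]
    exact ⟨AdjoinRoot (binPoly a b), inferInstance, inferInstance, hK,
      (key (AdjoinRoot (binPoly a b)) hK).2 h⟩

omit [Fintype F] in
/-- scalars do not matter for class preservation -/
theorem pscm_smul (d : F) (hd : d ≠ 0)
    (M : Matrix ((Fin m ⊕ Fin m) ⊕ Fin 2) ((Fin m ⊕ Fin m) ⊕ Fin 2) F) :
    PreservesSingularClassesMinus m a b (d • M) ↔ PreservesSingularClassesMinus m a b M := by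
  have key : ∀ (K : Type u) [Field K] [Algebra F K],
      (PreservesSingularClasses (quadFormMinus m K (algebraMap F K a) (algebraMap F K b))
        ((d • M).map (algebraMap F K)) ↔
      PreservesSingularClasses (quadFormMinus m K (algebraMap F K a) (algebraMap F K b))
        (M.map (algebraMap F K))) := by
    intro K _ _
    have hd' : algebraMap F K d ≠ 0 := (map_ne_zero (algebraMap F K)).mpr hd
    have e : (d • M).map (algebraMap F K) = algebraMap F K d • M.map (algebraMap F K) := by
      ext i k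
      simp [Matrix.map_apply, Matrix.smul_apply]
    have e2 : ∀ U : Submodule K ((Fin m ⊕ Fin m) ⊕ Fin 2 → K),
        imageSubmodule (algebraMap F K d • M.map (algebraMap F K)) U =
          imageSubmodule (M.map (algebraMap F K)) U := by
      intro U
      unfold imageSubmodule
      rw [map_smul]
      exact Submodule.map_smul _ U _ hd'
    unfold PreservesSingularClasses
    rw [e]
    constructor
    · intro h U hU
      rw [← e2]
      exact h U hU
    · intro h U hU
      rw [e2]
      exact h U hU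
  constructor
  · rintro ⟨K, hKf, hKa, hK, hpsc⟩
    exact ⟨K, hKf, hKa, hK, (key K).1 hpsc⟩
  · rintro ⟨K, hKf, hKa, hK, hpsc⟩
    exact ⟨K, hKf, hKa, hK, (key K).2 hpsc⟩

end pscmiso

end Cfsg.Agent.Lib.Helper9.AOF
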