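import Mathlib
import Cfsg.Prelude
import Cfsg.Agent.Lib.Helper5.OmegaSimple
import Cfsg.Agent.Lib.Helper5.MaxTS
import Cfsg.Agent.Lib.Helper9.AOF9

set_option autoImplicit false
set_option linter.unusedSectionVars false
set_option linter.unusedVariables false
open Cfsg

namespace Cfsg.Agent.Lib.Helper9.AOF

open Matrix QuadraticMap Cfsg.Agent.Lib.Helper5.CartanDieudonne Cfsg.Agent.Lib.Helper5.Refl
  Cfsg.Agent.Lib.Helper5.OrthCard Cfsg.Agent.Lib.Helper5.Siegel Cfsg.Agent.Lib.Helper5.QuadIsom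
  Cfsg.Agent.Lib.Helper5.ReflGen Cfsg.Agent.Lib.Helper5.Eichler Cfsg.Agent.Lib.Helper5.SingGeom
  Cfsg.Agent.Lib.Helper5.OmegaGen Cfsg.Agent.Lib.Helper5.OmegaSimple
  Cfsg.Agent.Lib.Helper9.AOR

variable {ι : Type} [Fintype ι] [DecidableEq ι] {F : Type*} [Field F] [Fintype F]
  (Q : QuadraticForm F (ι → F))

/-! Transport of automorphisms of `PΩ` along an isometry of quadratic forms. -/

section abstract

/-- the image of an element of the commutator subgroup -/
theorem map_mem_commutator {G H : Type*} [Group G] [Group H] (f : G →* H) {x : G}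
    (hx : x ∈ commutator G) : f x ∈ commutator H := by
  have h1 : (commutator G).map f ≤ commutator H := by
    rw [commutator_def, Subgroup.map_commutator, commutator_def]
    exact Subgroup.commutator_mono le_top le_top
  exact h1 ⟨x, hx, rfl⟩

/-- isomorphic groups have isomorphic commutator subgroups -/
noncomputable def commEquiv {G H : Type*} [Group G] [Group H] (e : G ≃* H) :
    ↥(commutator G) ≃* ↥(commutator H) where
  toFun x := ⟨e x.1, map_mem_commutator e.toMonoidHom x.2⟩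
  invFun y := ⟨e.symm y.1, map_mem_commutator e.symm.toMonoidHom y.2⟩
  left_inv x := Subtype.ext (e.symm_apply_apply x.1)
  right_inv y := Subtype.ext (e.apply_symm_apply y.1)
  map_mul' x y := Subtype.ext (map_mul e x.1 y.1)

theorem map_center_equiv {G H : Type*} [Group G] [Group H] (e : G ≃* H) :
    (Subgroup.center G).map (e : G →* H) = Subgroup.center H := by
  ext y
  constructor
  · rintro ⟨x, hx, rfl⟩
    rw [SetLike.mem_coe, Subgroup.mem_center_iff] at hx
    rw [Subgroup.mem_center_iff]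
    intro h
    have := hx (e.symm h)
    have h2 := congrArg e this
    rw [map_mul, map_mul, e.apply_symm_apply] at h2
    exact h2
  · intro hy
    rw [Subgroup.mem_center_iff] at hy
    refine ⟨e.symm y, ?_, e.apply_symm_apply y⟩
    rw [SetLike.mem_coe, Subgroup.mem_center_iff]
    intro g
    apply e.injective
    rw [map_mul, map_mul, e.apply_symm_apply]
    exact hy (e g)

/-- isomorphic groups have isomorphic central quotients -/
noncomputable def pcEquiv {G H : Type*} [Group G] [Group H] (e : G ≃* H) :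
    G ⧸ Subgroup.center G ≃* H ⧸ Subgroup.center H :=
  QuotientGroup.congr (Subgroup.center G) (Subgroup.center H) e (map_center_equiv e)

theorem pcEquiv_mk {G H : Type*} [Group G] [Group H] (e : G ≃* H) (x : G) :
    pcEquiv e (QuotientGroup.mk x) = QuotientGroup.mk (e x) := rfl

theorem pcEquiv_symm_mk {G H : Type*} [Group G] [Group H] (e : G ≃* H) (y : H) :
    (pcEquiv e).symm (QuotientGroup.mk y) = QuotientGroup.mk (e.symm y) := rfl

/-- transport of automorphisms along an isomorphism -/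
def autCongr {X Y : Type*} [Group X] [Group Y] (ψ : X ≃* Y) : MulAut X ≃* MulAut Y where
  toFun β := (ψ.symm.trans β).trans ψ
  invFun β := (ψ.trans β).trans ψ.symm
  left_inv β := by
    ext x
    simp
  right_inv β := by
    ext x
    simp
  map_mul' β γ := by
    ext x
    simp [MulAut.mul_apply]

theorem autCongr_apply {X Y : Type*} [Group X] [Group Y] (ψ : X ≃* Y) (β : MulAut X) (y : Y) :
    autCongr ψ β y = ψ (β (ψ.symm y)) := rfl

theorem autCongr_conj {X Y : Type*} [Group X] [Group Y] (ψ : X ≃* Y) (t : X) :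
    autCongr ψ (MulAut.conj t) = MulAut.conj (ψ t) := by
  ext y
  rw [autCongr_apply, MulAut.conj_apply, MulAut.conj_apply, map_mul, map_mul, map_inv,
    ψ.apply_symm_apply]

theorem map_autCongr_inn {X Y : Type*} [Group X] [Group Y] (ψ : X ≃* Y) :
    (Cfsg.Inn X).map (autCongr ψ : MulAut X →* MulAut Y) = Cfsg.Inn Y := by
  ext β
  constructor
  · rintro ⟨_, ⟨t, rfl⟩, rfl⟩
    exact ⟨ψ t, (autCongr_conj ψ t).symm⟩
  · rintro ⟨t, rfl⟩
    refine ⟨MulAut.conj (ψ.symm t), ⟨_, rfl⟩, ?_⟩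
    show autCongr ψ (MulAut.conj (ψ.symm t)) = MulAut.conj t
    rw [autCongr_conj, ψ.apply_symm_apply]

/-- two transports differ by an automorphism of the target -/
theorem autCongr_eq_conj {X Y : Type*} [Group X] [Group Y] (ψ ψ₀ : X ≃* Y) (β : MulAut X) :
    autCongr ψ β = (ψ₀.symm.trans ψ : MulAut Y) * autCongr ψ₀ β * (ψ₀.symm.trans ψ : MulAut Y)⁻¹ := by
  ext y
  rw [MulAut.mul_apply, MulAut.mul_apply, autCongr_apply, autCongr_apply, MulAut.inv_apply]
  simp

theorem orderOf_autCongr {X Y : Type*} [Group X] [Group Y] (ψ : X ≃* Y) (β : MulAut X) :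
    orderOf (autCongr ψ β) = orderOf β :=
  orderOf_injective (autCongr ψ : MulAut X →* MulAut Y) (autCongr ψ).injective β

theorem isConjUnder_autCongr {X Y : Type*} [Group X] [Group Y] (ψ : X ≃* Y)
    (D : Subgroup (MulAut X)) (x y : MulAut X) :
    Cfsg.IsConjUnder (D.map (autCongr ψ : MulAut X →* MulAut Y)) (autCongr ψ x) (autCongr ψ y) ↔
      Cfsg.IsConjUnder D x y := by
  constructor
  · rintro ⟨_, ⟨h, hh, rfl⟩, e⟩
    refine ⟨h, hh, ?_⟩
    apply (autCongr ψ).injective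
    rw [e, map_mul, map_mul, map_inv]
    rfl
  · rintro ⟨h, hh, e⟩
    refine ⟨autCongr ψ h, ⟨h, hh, rfl⟩, ?_⟩
    rw [e, map_mul, map_mul, map_inv]

end abstract

section transport
open Cfsg.Agent.Lib.Helper9.ASP Cfsg.Agent.Lib.Helper5.OAut Cfsg.Agent.Lib.Helper5.SpinorHyp
  Cfsg.Agent.Lib.Helper5.OrthCard

variable {Q} {Q' : QuadraticForm F (ι → F)}

omit [Fintype F] in
theorem conjT_mem_iso (T : Matrix.GeneralLinearGroup ι F)
    (hT : ∀ v, Q' ((T : Matrix ι ι F) *ᵥ v) = Q v) (s : Matrix.GeneralLinearGroup ι F)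
    (hs : s ∈ isometryGroup F ⇑Q) : T * s * T⁻¹ ∈ isometryGroup F ⇑Q' := by
  rw [mem_isometryGroup_iff] at hs ⊢
  intro v
  have h1 : ((T * s * T⁻¹ : Matrix.GeneralLinearGroup ι F) : Matrix ι ι F) *ᵥ v =
      (T : Matrix ι ι F) *ᵥ ((s : Matrix ι ι F) *ᵥ
        (((T⁻¹ : Matrix.GeneralLinearGroup ι F) : Matrix ι ι F) *ᵥ v)) := by
    rw [Units.val_mul, Units.val_mul, Matrix.mulVec_mulVec, Matrix.mulVec_mulVec]
  have h2 : v = (T : Matrix ι ι F) *ᵥ
      (((T⁻¹ : Matrix.GeneralLinearGroup ι F) : Matrix ι ι F) *ᵥ v) := by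
    rw [Matrix.mulVec_mulVec, ← Units.val_mul, mul_inv_cancel, Units.val_one, Matrix.one_mulVec]
  rw [h1, hT, hs]
  conv_rhs => rw [h2, hT]

omit [Fintype F] in
theorem invT_spec (T : Matrix.GeneralLinearGroup ι F)
    (hT : ∀ v, Q' ((T : Matrix ι ι F) *ᵥ v) = Q v) (v : ι → F) :
    Q (((T⁻¹ : Matrix.GeneralLinearGroup ι F) : Matrix ι ι F) *ᵥ v) = Q' v := by
  have h2 : v = (T : Matrix ι ι F) *ᵥ
      (((T⁻¹ : Matrix.GeneralLinearGroup ι F) : Matrix ι ι F) *ᵥ v) := by
    rw [Matrix.mulVec_mulVec, ← Units.val_mul, mul_inv_cancel, Units.val_one, Matrix.one_mulVec]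
  conv_rhs => rw [h2, hT]

/-- conjugation by an isometry between two forms, on the isometry groups -/
noncomputable def isoConj (T : Matrix.GeneralLinearGroup ι F)
    (hT : ∀ v, Q' ((T : Matrix ι ι F) *ᵥ v) = Q v) :
    ↥(isometryGroup F ⇑Q) ≃* ↥(isometryGroup F ⇑Q') where
  toFun s := ⟨T * s * T⁻¹, conjT_mem_iso T hT s s.2⟩
  invFun s := ⟨T⁻¹ * s * T, by
    have := conjT_mem_iso (Q := Q') (Q' := Q) T⁻¹ (invT_spec T hT) s s.2
    rwa [inv_inv] at this⟩
  left_inv s := by
    apply Subtype.ext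
    show T⁻¹ * (T * (s : Matrix.GeneralLinearGroup ι F) * T⁻¹) * T = s
    group
  right_inv s := by
    apply Subtype.ext
    show T * (T⁻¹ * (s : Matrix.GeneralLinearGroup ι F) * T) * T⁻¹ = s
    group
  map_mul' x y := by
    apply Subtype.ext
    show T * ((x : Matrix.GeneralLinearGroup ι F) * y) * T⁻¹ =
      (T * x * T⁻¹) * (T * y * T⁻¹)
    group

/-- the induced isomorphism of the simple groups -/
noncomputable def psiT (T : Matrix.GeneralLinearGroup ι F)
    (hT : ∀ v, Q' ((T : Matrix ι ι F) *ᵥ v) = Q v) : POmega F ⇑Q ≃* POmega F ⇑Q' :=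
  pcEquiv (commEquiv (isoConj T hT))

omit [Fintype F] in
theorem conjT_mem_sim (T : Matrix.GeneralLinearGroup ι F)
    (hT : ∀ v, Q' ((T : Matrix ι ι F) *ᵥ v) = Q v) (k : Matrix.GeneralLinearGroup ι F)
    (hk : k ∈ Geo.quadSimilarityGroup (F := F) ⇑Q) :
    T * k * T⁻¹ ∈ Geo.quadSimilarityGroup (F := F) ⇑Q' := by
  obtain ⟨c, hc⟩ := hk
  refine ⟨c, fun v => ?_⟩
  have h1 : ((T * k * T⁻¹ : Matrix.GeneralLinearGroup ι F) : Matrix ι ι F) *ᵥ v =
      (T : Matrix ι ι F) *ᵥ ((k : Matrix ι ι F) *ᵥ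
        (((T⁻¹ : Matrix.GeneralLinearGroup ι F) : Matrix ι ι F) *ᵥ v)) := by
    rw [Units.val_mul, Units.val_mul, Matrix.mulVec_mulVec, Matrix.mulVec_mulVec]
  rw [h1, hT, hc, invT_spec T hT]

/-- conjugation by an isometry between two forms, on the similarity groups -/
noncomputable def simT (T : Matrix.GeneralLinearGroup ι F)
    (hT : ∀ v, Q' ((T : Matrix ι ι F) *ᵥ v) = Q v) :
    ↥(Geo.quadSimilarityGroup (F := F) ⇑Q) →* ↥(Geo.quadSimilarityGroup (F := F) ⇑Q') where
  toFun k := ⟨T * k * T⁻¹, conjT_mem_sim T hT k k.2⟩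
  map_one' := by
    apply Subtype.ext
    show T * (1 : Matrix.GeneralLinearGroup ι F) * T⁻¹ = 1
    group
  map_mul' x y := by
    apply Subtype.ext
    show T * ((x : Matrix.GeneralLinearGroup ι F) * y) * T⁻¹ =
      (T * x * T⁻¹) * (T * y * T⁻¹)
    group

omit [Fintype F] in
theorem simT_coe (T : Matrix.GeneralLinearGroup ι F)
    (hT : ∀ v, Q' ((T : Matrix ι ι F) *ᵥ v) = Q v)
    (k : ↥(Geo.quadSimilarityGroup (F := F) ⇑Q)) :
    ((simT T hT k : ↥(Geo.quadSimilarityGroup (F := F) ⇑Q')) : Matrix.GeneralLinearGroup ι F) =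
      T * k * T⁻¹ := rfl

/-- the transport of the automorphism induced by a similarity -/
theorem autCongr_psiT_conjGO (T : Matrix.GeneralLinearGroup ι F)
    (hT : ∀ v, Q' ((T : Matrix ι ι F) *ᵥ v) = Q v)
    (k : ↥(Geo.quadSimilarityGroup (F := F) ⇑Q)) :
    autCongr (psiT T hT) (conjGO Q k) = conjGO Q' (simT T hT k) := by
  obtain ⟨c, hc⟩ := (simT T hT k).2
  have hg : ∀ v, Q' (sm ((simT T hT k : ↥(Geo.quadSimilarityGroup (F := F) ⇑Q')) :
      Matrix.GeneralLinearGroup ι F) (RingEquiv.refl F) v) =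
      (c : F) * (RingEquiv.refl F) (Q' v) := fun v => hc v
  have h1 : IsInducedBySemilinearPOmega ⇑Q'
      ((simT T hT k : ↥(Geo.quadSimilarityGroup (F := F) ⇑Q')) : Matrix.GeneralLinearGroup ι F)
      (RingEquiv.refl F) (autCongr (psiT T hT) (conjGO Q k)) := by
    intro s s' hs
    rw [autCongr_apply]
    unfold psiT
    rw [pcEquiv_symm_mk, conjGO_mk, pcEquiv_mk]
    congr 1
    apply Subtype.ext
    apply Subtype.ext
    apply Units.ext
    rw [hs, map_refl]
    have e : T * ((k : Matrix.GeneralLinearGroup ι F) *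
        (T⁻¹ * ((s : ↥(isometryGroup F ⇑Q')) : Matrix.GeneralLinearGroup ι F) * T) *
        (k : Matrix.GeneralLinearGroup ι F)⁻¹) * T⁻¹ =
        (T * k * T⁻¹) * ((s : ↥(isometryGroup F ⇑Q')) : Matrix.GeneralLinearGroup ι F) *
          (T * k * T⁻¹)⁻¹ := by group
    show ((T * ((k : Matrix.GeneralLinearGroup ι F) *
        (T⁻¹ * ((s : ↥(isometryGroup F ⇑Q')) : Matrix.GeneralLinearGroup ι F) * T) *
        (k : Matrix.GeneralLinearGroup ι F)⁻¹) * T⁻¹ : Matrix.GeneralLinearGroup ι F) :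
        Matrix ι ι F) = _
    rw [e, simT_coe, Units.val_mul, Units.val_mul]
  rw [eq_semiAut_of_induced _ _ _ hg _ h1,
    eq_semiAut_of_induced _ _ _ hg _ (conjGO_induced (simT T hT k))]

end transport

end Cfsg.Agent.Lib.Helper9.AOF
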