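import Mathlib
import Cfsg.Prelude
import Cfsg.Agent.Lib.Helper5.OmegaSimple
import Cfsg.Agent.Lib.Helper5.MaxTS
import Cfsg.Agent.Lib.Helper9.AOF10

set_option autoImplicit false
set_option linter.unusedSectionVars false
set_option linter.unusedVariables false
open Cfsg

namespace Cfsg.Agent.Lib.Helper9.AOF

open Matrix QuadraticMap Cfsg.Agent.Lib.Helper5.CartanDieudonne Cfsg.Agent.Lib.Helper5.Refl
  Cfsg.Agent.Lib.Helper5.OrthCard Cfsg.Agent.Lib.Helper5.Siegel Cfsg.Agent.Lib.Helper5.QuadIsom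
  Cfsg.Agent.Lib.Helper5.ReflGen Cfsg.Agent.Lib.Helper5.Eichler Cfsg.Agent.Lib.Helper5.SingGeom
  Cfsg.Agent.Lib.Helper5.OmegaGen Cfsg.Agent.Lib.Helper5.OmegaSimple
  Cfsg.Agent.Lib.Helper9.AOR

variable {ι : Type} [Fintype ι] [DecidableEq ι] {F : Type*} [Field F] [Fintype F]
  (Q : QuadraticForm F (ι → F))

/-! Class predicates on the conformal orthogonal group: the determinant ratio (odd
characteristic) and the Dickson invariant (characteristic two). -/

section clsgen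
open Cfsg.Agent.Lib.Helper9.ASP Cfsg.Agent.Lib.Helper5.OAut Cfsg.Agent.Lib.Helper5.SpinorHyp

variable {Q}

theorem IsCls.congr {P P' : Matrix.GeneralLinearGroup ι F → Prop} (hP : IsCls Q P)
    (h : ∀ g : Matrix.GeneralLinearGroup ι F, g ∈ Geo.quadSimilarityGroup (F := F) ⇑Q →
      (P g ↔ P' g)) : IsCls Q P' where
  one := (h 1 (Subgroup.one_mem _)).mp hP.one
  mul g k hg hk h1 h2 := (h _ (Subgroup.mul_mem _ hg hk)).mp
    (hP.mul g k hg hk ((h g hg).mpr h1) ((h k hk).mpr h2))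
  inv g hg h1 := (h _ (Subgroup.inv_mem _ hg)).mp (hP.inv g hg ((h g hg).mpr h1))
  scal u := (h _ (scU_mem_sim u)).mp (hP.scal u)
  idx g k hg hk h1 h2 := (h _ (Subgroup.mul_mem _ hg hk)).mp
    (hP.idx g k hg hk (fun h3 => h1 ((h g hg).mp h3)) (fun h3 => h2 ((h k hk).mp h3)))

end clsgen

section clsodd
open Cfsg.Agent.Lib.Helper9.ASP Cfsg.Agent.Lib.Helper5.OAut Cfsg.Agent.Lib.Helper5.SpinorHyp
  Cfsg.Agent.Lib.Helper5.SpinorNorm

/-- the similarities of determinant ratio one -/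
def Pdet (w₀ : ι → F) (n : ℕ) (g : Matrix.GeneralLinearGroup ι F) : Prop :=
  detRatio (Q := Q) w₀ n g = 1

variable {Q} {w₀ : ι → F} {n : ℕ}

omit [Fintype F] in
theorem detRatio_one (hw₀ : Q w₀ = 1) : detRatio (Q := Q) w₀ n 1 = 1 := by
  unfold detRatio Cfsg.Agent.Lib.Helper5.OAut.mult
  rw [Units.val_one, Matrix.det_one, Matrix.one_mulVec, hw₀, inv_one, one_pow, mul_one]

theorem isCls_Pdet (h2 : (2 : F) ≠ 0) (hQ : (polarBilin Q).Nondegenerate) (hw₀ : Q w₀ = 1)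
    (hcard : Fintype.card ι = 2 * n) : IsCls Q (Pdet Q w₀ n) where
  one := detRatio_one hw₀
  mul g h hg hh h1 h2' := by
    unfold Pdet at h1 h2' ⊢
    rw [detRatio_mul hw₀ hg, h1, h2', one_mul]
  inv g hg h1 := by
    unfold Pdet at h1 ⊢
    have h3 := detRatio_mul (m := n) (h := g⁻¹) hw₀ hg
    rw [mul_inv_cancel, detRatio_one hw₀, h1, one_mul] at h3
    exact h3.symm
  scal u := scalarGL_detRatio Q hw₀ (u : F) u.ne_zero n hcard
  idx g h hg hh h1 h2' := by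
    unfold Pdet at h1 h2' ⊢
    have key : ∀ k : Matrix.GeneralLinearGroup ι F,
        k ∈ Geo.quadSimilarityGroup (F := F) ⇑Q → ¬ detRatio (Q := Q) w₀ n k = 1 →
        detRatio (Q := Q) w₀ n k = -1 := by
      intro k hk hk1
      have h3 := detRatio_sq hQ hw₀ hcard hk
      have h4 : (detRatio (Q := Q) w₀ n k - 1) * (detRatio (Q := Q) w₀ n k + 1) = 0 := by
        linear_combination h3
      rcases mul_eq_zero.mp h4 with h5 | h5
      · exact absurd (sub_eq_zero.mp h5) hk1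
      · exact eq_neg_of_add_eq_zero_left h5
    rw [detRatio_mul hw₀ hg, key g hg h1, key h hh h2']
    ring

theorem Pdet_conjSim (hw₀ : Q w₀ = 1) (g₁ : Matrix.GeneralLinearGroup ι F) (σ : F ≃+* F)
    (c₁ : F) (hc₁ : c₁ ≠ 0) (hg₁ : ∀ v, Q (sm g₁ σ v) = c₁ * σ (Q v))
    (k : ↥(Geo.quadSimilarityGroup (F := F) ⇑Q))
    (hk : Pdet Q w₀ n (k : Matrix.GeneralLinearGroup ι F)) :
    Pdet Q w₀ n ((conjSim g₁ σ c₁ hc₁ hg₁ hw₀ k : ↥(Geo.quadSimilarityGroup (F := F) ⇑Q)) :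
      Matrix.GeneralLinearGroup ι F) := by
  unfold Pdet detRatio at hk ⊢
  rw [mult_conjSim, det_conjSim, ← map_inv₀, ← map_pow, ← map_mul, hk, map_one]

omit [Fintype F] in
theorem not_Pdet_reflection (h2 : (2 : F) ≠ 0) (hw₀ : Q w₀ = 1) (v : ι → F) (hv : Q v ≠ 0) :
    ¬ Pdet Q w₀ n ((Cfsg.Agent.Lib.Helper5.Refl.reflection Q v hv :
      ↥(isometryGroup F ⇑Q)) : Matrix.GeneralLinearGroup ι F) := by
  unfold Pdet detRatio
  rw [mult_of_isometry hw₀ (Cfsg.Agent.Lib.Helper5.Refl.reflection Q v hv).2,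
    Cfsg.Agent.Lib.Helper5.Refl.reflection_coe, Cfsg.Agent.Lib.Helper5.Refl.reflection_det Q v hv,
    inv_one, one_pow, mul_one]
  intro h
  apply h2
  linear_combination -h

section bc
variable {F₀ : Type*} [Field F₀] (j : F₀ →+* F) (Q₀ : QuadraticForm F₀ (ι → F₀))

omit [Fintype F] in
theorem Pdet_glmap (hbc : ∀ v₀, Q (hm j v₀) = j (Q₀ v₀)) (w₀' : ι → F₀)
    (k₀ : Matrix.GeneralLinearGroup ι F₀) :
    Pdet Q (hm j w₀') n (Matrix.GeneralLinearGroup.map j k₀) ↔ Pdet Q₀ w₀' n k₀ := by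
  unfold Pdet detRatio Cfsg.Agent.Lib.Helper5.OAut.mult
  have h1 : ((Matrix.GeneralLinearGroup.map j k₀ : Matrix.GeneralLinearGroup ι F) :
      Matrix ι ι F).det = j ((k₀ : Matrix ι ι F₀).det) := by
    rw [glmapI_coe, ← RingHom.mapMatrix_apply, ← RingHom.map_det]
  rw [h1, glmapI_coe, ← hm_mulVec, hbc, ← map_inv₀, ← map_pow, ← map_mul]
  constructor
  · intro h
    apply j.injective
    rw [h, map_one]
  · intro h
    rw [h, map_one]

end bc

omit [Fintype F] in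
theorem Pdet_simT {Q' : QuadraticForm F (ι → F)} (T : Matrix.GeneralLinearGroup ι F)
    (hT : ∀ v, Q' ((T : Matrix ι ι F) *ᵥ v) = Q v)
    (k : ↥(Geo.quadSimilarityGroup (F := F) ⇑Q)) :
    Pdet Q' ((T : Matrix ι ι F) *ᵥ w₀) n
      ((simT T hT k : ↥(Geo.quadSimilarityGroup (F := F) ⇑Q')) :
        Matrix.GeneralLinearGroup ι F) ↔ Pdet Q w₀ n (k : Matrix.GeneralLinearGroup ι F) := by
  unfold Pdet detRatio Cfsg.Agent.Lib.Helper5.OAut.mult
  have h1 : (((simT T hT k : ↥(Geo.quadSimilarityGroup (F := F) ⇑Q')) :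
      Matrix.GeneralLinearGroup ι F) : Matrix ι ι F).det =
      ((k : Matrix.GeneralLinearGroup ι F) : Matrix ι ι F).det := by
    rw [simT_coe, ← Matrix.GeneralLinearGroup.val_det_apply, map_mul, map_mul, map_inv, mul_comm,
      ← mul_assoc, inv_mul_cancel, one_mul, Matrix.GeneralLinearGroup.val_det_apply]
  have h2 : (((simT T hT k : ↥(Geo.quadSimilarityGroup (F := F) ⇑Q')) :
      Matrix.GeneralLinearGroup ι F) : Matrix ι ι F) *ᵥ ((T : Matrix ι ι F) *ᵥ w₀) =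
      (T : Matrix ι ι F) *ᵥ (((k : Matrix.GeneralLinearGroup ι F) : Matrix ι ι F) *ᵥ w₀) := by
    rw [simT_coe, Matrix.mulVec_mulVec, Matrix.mulVec_mulVec, ← Units.val_mul, ← Units.val_mul,
      inv_mul_cancel_right]
  rw [h1, h2, hT]

end clsodd

end Cfsg.Agent.Lib.Helper9.AOF
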