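import Mathlib
import Cfsg.Prelude
import Cfsg.Agent.Lib.Helper5.OmegaSimple
import Cfsg.Agent.Lib.Helper5.MaxTS
import Cfsg.Agent.Lib.Helper9.AOF11
import Cfsg.Agent.S0789

set_option autoImplicit false
set_option linter.unusedSectionVars false
set_option linter.unusedVariables false
open Cfsg

namespace Cfsg.Agent.Lib.Helper9.AOF

open Matrix QuadraticMap Cfsg.Agent.Lib.Helper5.CartanDieudonne Cfsg.Agent.Lib.Helper5.Refl
  Cfsg.Agent.Lib.Helper5.OrthCard Cfsg.Agent.Lib.Helper5.Siegel Cfsg.Agent.Lib.Helper5.QuadIsom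
  Cfsg.Agent.Lib.Helper5.ReflGen Cfsg.Agent.Lib.Helper5.Eichler Cfsg.Agent.Lib.Helper5.SingGeom
  Cfsg.Agent.Lib.Helper5.OmegaGen Cfsg.Agent.Lib.Helper5.OmegaSimple
  Cfsg.Agent.Lib.Helper9.AOR

variable {ι : Type} [Fintype ι] [DecidableEq ι] {F : Type*} [Field F] [Fintype F]
  (Q : QuadraticForm F (ι → F))

/-! The class predicate in characteristic two: similarities whose isometry part has trivial
Dickson invariant; they induce exactly the inner automorphisms. -/

section cls2
open Cfsg.Agent.Lib.Helper5.OAut Cfsg.Agent.Lib.Helper5.SpinorHyp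
  Cfsg.Agent.Lib.Helper5.SpinorNorm Cfsg.Agent.Lib.Helper5.Dickson

variable {Q}

/-- similarities whose isometry part has trivial Dickson invariant -/
def P2 (hQ : (polarBilin Q).Nondegenerate)
    (hex : Fintype.card ι = 4 → ∃ a : F, a ≠ 0 ∧ a ≠ 1) (g : Matrix.GeneralLinearGroup ι F) :
    Prop :=
  ∃ (d : Fˣ) (s : ↥(isometryGroup F ⇑Q)),
    g = scU d * (s : Matrix.GeneralLinearGroup ι F) ∧ par Q hQ hex s = 1

omit [Fintype F] in
theorem scU_inv (d : Fˣ) : (scU d⁻¹ : Matrix.GeneralLinearGroup ι F) = (scU d)⁻¹ := by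
  apply eq_inv_of_mul_eq_one_left
  rw [← scU_mul, inv_mul_cancel, scU_one]

/-- in characteristic two every similarity is a scalar times an isometry -/
theorem exists_decomp2 (hchar : ringChar F = 2) {w₀ : ι → F} (hw₀ : Q w₀ = 1)
    (g : Matrix.GeneralLinearGroup ι F) (hg : g ∈ Geo.quadSimilarityGroup (F := F) ⇑Q) :
    ∃ (d : Fˣ) (s : ↥(isometryGroup F ⇑Q)),
      g = scU d * (s : Matrix.GeneralLinearGroup ι F) := by
  obtain ⟨c, hc⟩ := hg
  obtain ⟨d, hd⟩ := FiniteField.isSquare_of_char_two hchar (c : F)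
  have hd0 : d ≠ 0 := by
    rintro rfl
    rw [mul_zero] at hd
    exact c.ne_zero hd
  have hmem : (scU (Units.mk0 d hd0))⁻¹ * g ∈ isometryGroup F ⇑Q := by
    rw [Cfsg.Agent.Lib.Helper5.OrthCard.mem_isometryGroup_iff]
    intro v
    rw [← scU_inv, Units.val_mul, scU_coe, Matrix.smul_mul, Matrix.one_mul, Matrix.smul_mulVec,
      QuadraticMap.map_smul, hc, hd, smul_eq_mul]
    simp only [Units.val_inv_eq_inv_val, Units.val_mk0]
    field_simp
  exact ⟨Units.mk0 d hd0, ⟨_, hmem⟩, by rw [mul_inv_cancel_left]⟩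

theorem isCls_P2 (hchar : ringChar F = 2) (hQ : (polarBilin Q).Nondegenerate)
    (hex : Fintype.card ι = 4 → ∃ a : F, a ≠ 0 ∧ a ≠ 1) {w₀ : ι → F} (hw₀ : Q w₀ = 1) :
    IsCls Q (P2 hQ hex) where
  one := ⟨1, 1, by rw [scU_one, one_mul]; rfl, map_one _⟩
  mul g h _ _ hg hh := by
    obtain ⟨d, s, rfl, hs⟩ := hg
    obtain ⟨e, t, rfl, ht⟩ := hh
    refine ⟨d * e, s * t, ?_, by rw [map_mul, hs, ht, one_mul]⟩
    rw [scU_mul]
    calc scU d * (s : Matrix.GeneralLinearGroup ι F) * (scU e * (t : Matrix.GeneralLinearGroup ι F))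
        = scU d * ((s : Matrix.GeneralLinearGroup ι F) * scU e) *
            (t : Matrix.GeneralLinearGroup ι F) := by simp only [mul_assoc]
      _ = scU d * (scU e * (s : Matrix.GeneralLinearGroup ι F)) *
            (t : Matrix.GeneralLinearGroup ι F) := by rw [scU_comm e]
      _ = scU d * scU e * ((s : Matrix.GeneralLinearGroup ι F) *
            (t : Matrix.GeneralLinearGroup ι F)) := by simp only [mul_assoc]
  inv g _ hg := by
    obtain ⟨d, s, rfl, hs⟩ := hg
    refine ⟨d⁻¹, s⁻¹, ?_, by rw [map_inv, hs, inv_one]⟩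
    rw [_root_.mul_inv_rev, ← scU_inv, ← scU_comm]
    rfl
  scal u := ⟨u, 1, mul_one_eq u, map_one _⟩
  idx g h hg hh h1 h2 := by
    obtain ⟨d, s, rfl⟩ := exists_decomp2 hchar hw₀ g hg
    obtain ⟨e, t, rfl⟩ := exists_decomp2 hchar hw₀ h hh
    have hs : par Q hQ hex s = -1 := by
      rcases Int.units_eq_one_or (par Q hQ hex s) with h3 | h3
      · exact absurd ⟨d, s, rfl, h3⟩ h1
      · exact h3
    have ht : par Q hQ hex t = -1 := by
      rcases Int.units_eq_one_or (par Q hQ hex t) with h3 | h3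
      · exact absurd ⟨e, t, rfl, h3⟩ h2
      · exact h3
    refine ⟨d * e, s * t, ?_, by rw [map_mul, hs, ht]; rfl⟩
    rw [scU_mul]
    calc scU d * (s : Matrix.GeneralLinearGroup ι F) * (scU e * (t : Matrix.GeneralLinearGroup ι F))
        = scU d * ((s : Matrix.GeneralLinearGroup ι F) * scU e) *
            (t : Matrix.GeneralLinearGroup ι F) := by simp only [mul_assoc]
      _ = scU d * (scU e * (s : Matrix.GeneralLinearGroup ι F)) *
            (t : Matrix.GeneralLinearGroup ι F) := by rw [scU_comm e]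
      _ = scU d * scU e * ((s : Matrix.GeneralLinearGroup ι F) *
            (t : Matrix.GeneralLinearGroup ι F)) := by simp only [mul_assoc]
where
  mul_one_eq (u : Fˣ) : (scU u : Matrix.GeneralLinearGroup ι F) =
      scU u * (((1 : ↥(isometryGroup F ⇑Q)) : Matrix.GeneralLinearGroup ι F)) := by
    show scU u = scU u * 1
    rw [mul_one]

variable {i : ℕ} {α β : Fin i → ι}

/-- in characteristic two the similarities with the property induce exactly the inner
automorphisms -/
theorem P2_iff_inn [Nonempty ι] (hchar : ringChar F = 2) (hQ : (polarBilin Q).Nondegenerate)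
    (hex : Fintype.card ι = 4 → ∃ a : F, a ≠ 0 ∧ a ≠ 1) (hfam : IsHypFamily Q α β)
    (hi : 3 ≤ i) (h5 : 5 ≤ Fintype.card ι) {w₀ : ι → F} (hw₀ : Q w₀ = 1)
    (g : ↥(Geo.quadSimilarityGroup (F := F) ⇑Q)) :
    P2 hQ hex (g : Matrix.GeneralLinearGroup ι F) ↔ conjGO Q g ∈ Inn (POmega F ⇑Q) := by
  have hker := Cfsg.Agent.S0789.ker_par Q hchar hQ hex
  constructor
  · rintro ⟨d, s, hg, hs⟩
    have hsΩ : s ∈ Omega F ⇑Q := by
      show s ∈ commutator ↥(isometryGroup F ⇑Q)
      rw [← hker]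
      exact hs
    have e : g = ⟨scU d, scU_mem_sim d⟩ * inclO Q s := Subtype.ext hg
    rw [e, map_mul]
    have h7 : conjGO Q ⟨scU d, scU_mem_sim d⟩ = 1 :=
      mem_ker_conjGO_of_scalar _ (d : F) rfl
    rw [h7, one_mul, inn_eq]
    refine ⟨s, hsΩ, ?_⟩
    rw [← conjGO_comp_inclO]
    rfl
  · intro h
    rw [inn_eq] at h
    obtain ⟨t, ht, hts⟩ := h
    have e1 : conjGO Q (inclO Q t) = conjGO Q g := by
      rw [← hts, ← conjGO_comp_inclO]
      rfl
    have hk : (inclO Q t)⁻¹ * g ∈ (conjGO Q).ker := by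
      rw [MonoidHom.mem_ker, map_mul, map_inv, e1, inv_mul_cancel]
    obtain ⟨a, ha, hGa⟩ := scalar_of_mem_ker_conjGO hQ hfam hi h5 hw₀ _ hk
    have ha0 : a ≠ 0 := by
      rintro rfl
      rw [mul_zero] at ha
      exact mult_ne_zero hw₀ ((inclO Q t)⁻¹ * g).2 ha.symm
    have e2 : (((inclO Q t)⁻¹ * g : ↥(Geo.quadSimilarityGroup (F := F) ⇑Q)) :
        Matrix.GeneralLinearGroup ι F) = scU (Units.mk0 a ha0) := by
      apply Units.ext
      rw [scU_coe]
      exact hGa
    refine ⟨Units.mk0 a ha0, t, ?_, ?_⟩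
    · have e3 : (g : Matrix.GeneralLinearGroup ι F) =
          ((t : ↥(isometryGroup F ⇑Q)) : Matrix.GeneralLinearGroup ι F) *
            scU (Units.mk0 a ha0) := by
        rw [← e2]
        show (g : Matrix.GeneralLinearGroup ι F) =
          ((t : ↥(isometryGroup F ⇑Q)) : Matrix.GeneralLinearGroup ι F) *
            (((t : ↥(isometryGroup F ⇑Q)) : Matrix.GeneralLinearGroup ι F)⁻¹ *
              (g : Matrix.GeneralLinearGroup ι F))
        rw [mul_inv_cancel_left]
      rw [e3, scU_comm]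
    · have : t ∈ (par Q hQ hex).ker := by
        rw [hker]
        exact ht
      exact this

end cls2

end Cfsg.Agent.Lib.Helper9.AOF
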