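import Mathlib
import Cfsg.Prelude
import Cfsg.Agent.Lib.Helper5.OmegaSimple
import Cfsg.Agent.Lib.Helper5.MaxTS
import Cfsg.Agent.Lib.Helper9.AOF12
import Cfsg.Agent.S0294

set_option autoImplicit false
set_option linter.unusedSectionVars false
set_option linter.unusedVariables false
open Cfsg

namespace Cfsg.Agent.Lib.Helper9.AOF

open Matrix QuadraticMap Cfsg.Agent.Lib.Helper5.CartanDieudonne Cfsg.Agent.Lib.Helper5.Refl
  Cfsg.Agent.Lib.Helper5.OrthCard Cfsg.Agent.Lib.Helper5.Siegel Cfsg.Agent.Lib.Helper5.QuadIsom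
  Cfsg.Agent.Lib.Helper5.ReflGen Cfsg.Agent.Lib.Helper5.Eichler Cfsg.Agent.Lib.Helper5.SingGeom
  Cfsg.Agent.Lib.Helper5.OmegaGen Cfsg.Agent.Lib.Helper5.OmegaSimple
  Cfsg.Agent.Lib.Helper9.AOR

variable {ι : Type} [Fintype ι] [DecidableEq ι] {F : Type*} [Field F] [Fintype F]
  (Q : QuadraticForm F (ι → F))

/-! The class preserving similarities of a minus type form, in all characteristics. -/

section pmi
open Cfsg.Agent.Lib.Helper5.OAut Cfsg.Agent.Lib.Helper5.SpinorHyp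
  Cfsg.Agent.Lib.Helper5.SpinorHyp2 Cfsg.Agent.Lib.Helper5.OrthPlane
  Cfsg.Agent.Lib.Helper5.SpinorNorm Cfsg.Agent.Lib.Helper5.Dickson Cfsg.Agent.S0294

universe u u₀
variable {F : Type u} [Field F] [Fintype F] (a b : F) (m : ℕ)

/-- the class preserving matrices -/
def PMi (g : Matrix.GeneralLinearGroup ((Fin m ⊕ Fin m) ⊕ Fin 2) F) : Prop :=
  PreservesSingularClassesMinus m a b
    (g : Matrix ((Fin m ⊕ Fin m) ⊕ Fin 2) ((Fin m ⊕ Fin m) ⊕ Fin 2) F)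

theorem card_minus_index : Fintype.card ((Fin m ⊕ Fin m) ⊕ Fin 2) = 2 * (m + 1) := by
  simp only [Fintype.card_sum, Fintype.card_fin]; omega

theorem hex_minus (hm : 2 ≤ m) :
    Fintype.card ((Fin m ⊕ Fin m) ⊕ Fin 2) = 4 → ∃ a : F, a ≠ 0 ∧ a ≠ 1 := by
  intro h
  rw [card_minus_index] at h
  omega

theorem ringChar_two_of (h2 : (2 : F) = 0) : ringChar F = 2 :=
  CharP.ringChar_of_prime_eq_zero Nat.prime_two (by exact_mod_cast h2)

variable {a b m}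

theorem pscm_of_decomp
    (hab : ∀ z₁ z₂ : F, z₁ ^ 2 + a * z₁ * z₂ + b * z₂ ^ 2 = 0 → z₁ = 0 ∧ z₂ = 0)
    (g : Matrix.GeneralLinearGroup ((Fin m ⊕ Fin m) ⊕ Fin 2) F) (d : Fˣ)
    (s : ↥(isometryGroup F ⇑(genForm (binForm a b) m)))
    (hg : g = scU d * (s : Matrix.GeneralLinearGroup ((Fin m ⊕ Fin m) ⊕ Fin 2) F))
    (vs : List ((Fin m ⊕ Fin m) ⊕ Fin 2 → F)) (hvs : IsRep (genForm (binForm a b) m) s vs) :
    PMi a b m g ↔ Even vs.length := by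
  unfold PMi
  have e : (g : Matrix ((Fin m ⊕ Fin m) ⊕ Fin 2) ((Fin m ⊕ Fin m) ⊕ Fin 2) F) =
      (d : F) • ((s : Matrix.GeneralLinearGroup ((Fin m ⊕ Fin m) ⊕ Fin 2) F) :
        Matrix ((Fin m ⊕ Fin m) ⊕ Fin 2) ((Fin m ⊕ Fin m) ⊕ Fin 2) F) := by
    rw [hg, Units.val_mul, scU_coe, Matrix.smul_mul, Matrix.one_mul]
  rw [e, pscm_smul a b m (d : F) d.ne_zero, pscm_isometry_iff a b m hab s vs hvs]

theorem pscm_iff_P2 (h2 : (2 : F) = 0) (hm : 2 ≤ m)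
    (hab : ∀ z₁ z₂ : F, z₁ ^ 2 + a * z₁ * z₂ + b * z₂ ^ 2 = 0 → z₁ = 0 ∧ z₂ = 0)
    (hQ : (polarBilin (genForm (binForm a b) m)).Nondegenerate)
    (g : Matrix.GeneralLinearGroup ((Fin m ⊕ Fin m) ⊕ Fin 2) F)
    (hg : g ∈ Geo.quadSimilarityGroup (F := F) ⇑(genForm (binForm a b) m)) :
    PMi a b m g ↔ P2 hQ (hex_minus m hm) g := by
  constructor
  · intro h
    obtain ⟨d, s, hgd⟩ := exists_decomp2 (ringChar_two_of h2) (quad_xvec a b m) g hg
    obtain ⟨vs, hvs⟩ := exists_rep' _ hQ (hex_minus m hm) s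
    refine ⟨d, s, hgd, ?_⟩
    rw [par_eq _ hQ (hex_minus m hm) s vs hvs, neg_one_pow_eq_one_iff]
    exact (pscm_of_decomp hab g d s hgd vs hvs).mp h
  · rintro ⟨d, s, hgd, hs⟩
    obtain ⟨vs, hvs⟩ := exists_rep' _ hQ (hex_minus m hm) s
    rw [par_eq _ hQ (hex_minus m hm) s vs hvs, neg_one_pow_eq_one_iff] at hs
    exact (pscm_of_decomp hab g d s hgd vs hvs).mpr hs

theorem odd_card_of_ne (h2 : (2 : F) ≠ 0) : Odd (Fintype.card F) :=
  Nat.odd_iff.mpr (Cfsg.Agent.Lib.Helper5.QuadSign.odd_card_of_two_ne_zero h2)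

theorem pscm_iff_Pdet (h2 : (2 : F) ≠ 0)
    (hab : ∀ z₁ z₂ : F, z₁ ^ 2 + a * z₁ * z₂ + b * z₂ ^ 2 = 0 → z₁ = 0 ∧ z₂ = 0)
    {w₀ : (Fin m ⊕ Fin m) ⊕ Fin 2 → F} (hw₀ : genForm (binForm a b) m w₀ = 1)
    (g : Matrix.GeneralLinearGroup ((Fin m ⊕ Fin m) ⊕ Fin 2) F)
    (hg : g ∈ Geo.quadSimilarityGroup (F := F) ⇑(genForm (binForm a b) m)) :
    PMi a b m g ↔ Pdet (genForm (binForm a b) m) w₀ (m + 1) g :=
  minus_crit a b m (odd_card_of_ne h2) hab hw₀ g hg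

/-- the class preserving similarities form a subgroup of index at most two containing the
scalars -/
theorem isCls_PMi (hm : 2 ≤ m)
    (hab : ∀ z₁ z₂ : F, z₁ ^ 2 + a * z₁ * z₂ + b * z₂ ^ 2 = 0 → z₁ = 0 ∧ z₂ = 0) :
    IsCls (genForm (binForm a b) m) (PMi a b m) := by
  have han := anisotropic_of a b hab
  have hQ := genForm_nondegenerate _ (binForm_nondegenerate a b han) m
  by_cases h2 : (2 : F) = 0
  · exact (isCls_P2 (ringChar_two_of h2) hQ (hex_minus m hm) (quad_xvec a b m)).congr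
      (fun g hg => (pscm_iff_P2 h2 hm hab hQ g hg).symm)
  · exact (isCls_Pdet h2 hQ (quad_xvec a b m) (card_minus_index m)).congr
      (fun g hg => (pscm_iff_Pdet h2 hab (quad_xvec a b m) g hg).symm)

theorem not_PMi_reflection
    (hab : ∀ z₁ z₂ : F, z₁ ^ 2 + a * z₁ * z₂ + b * z₂ ^ 2 = 0 → z₁ = 0 ∧ z₂ = 0)
    (v : (Fin m ⊕ Fin m) ⊕ Fin 2 → F) (hv : genForm (binForm a b) m v ≠ 0) :
    ¬ PMi a b m ((Cfsg.Agent.Lib.Helper5.Refl.reflection (genForm (binForm a b) m) v hv :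
      ↥(isometryGroup F ⇑(genForm (binForm a b) m))) :
        Matrix.GeneralLinearGroup ((Fin m ⊕ Fin m) ⊕ Fin 2) F) := by
  unfold PMi
  rw [pscm_isometry_iff a b m hab _ [v] (isRep_reflection _ v hv)]
  simp

/-- in characteristic two the class preserving similarities induce the inner automorphisms -/
theorem Dcls_PMi_eq_inn (h2 : (2 : F) = 0) (hm : 3 ≤ m)
    (hab : ∀ z₁ z₂ : F, z₁ ^ 2 + a * z₁ * z₂ + b * z₂ ^ 2 = 0 → z₁ = 0 ∧ z₂ = 0) :
    Dcls (isCls_PMi (by omega) hab) = Inn (POmega F ⇑(genForm (binForm a b) m)) := by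
  have han := anisotropic_of a b hab
  have hQ := genForm_nondegenerate _ (binForm_nondegenerate a b han) m
  have hfam := genForm_hypFamily (binForm a b) (le_refl m)
  have h5 : 5 ≤ Fintype.card ((Fin m ⊕ Fin m) ⊕ Fin 2) := by rw [card_minus_index]; omega
  haveI : Nonempty ((Fin m ⊕ Fin m) ⊕ Fin 2) := ⟨Sum.inr 0⟩
  have hm2 : 2 ≤ m := by omega
  ext β
  constructor
  · rintro ⟨k, hk, rfl⟩
    have hk' : PMi a b m (k : Matrix.GeneralLinearGroup ((Fin m ⊕ Fin m) ⊕ Fin 2) F) := hk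
    rw [pscm_iff_P2 h2 hm2 hab hQ _ k.2] at hk'
    exact (P2_iff_inn (ringChar_two_of h2) hQ (hex_minus m hm2) hfam hm h5 (quad_xvec a b m)
      k).mp hk'
  · intro h
    have h' := h
    rw [inn_eq] at h'
    obtain ⟨t, ht, rfl⟩ := h'
    have e : conjO (genForm (binForm a b) m) t =
        conjGO (genForm (binForm a b) m) (inclO (genForm (binForm a b) m) t) := by
      rw [← conjGO_comp_inclO]
      rfl
    rw [e] at h ⊢
    refine ⟨inclO (genForm (binForm a b) m) t, ?_, rfl⟩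
    show PMi a b m _
    rw [pscm_iff_P2 h2 hm2 hab hQ _ (inclO (genForm (binForm a b) m) t).2]
    exact (P2_iff_inn (ringChar_two_of h2) hQ (hex_minus m hm2) hfam hm h5 (quad_xvec a b m)
      _).mpr h

/-- class preservation is invariant under conjugation by semisimilarities -/
theorem PMi_conjSim (hm : 3 ≤ m)
    (hab : ∀ z₁ z₂ : F, z₁ ^ 2 + a * z₁ * z₂ + b * z₂ ^ 2 = 0 → z₁ = 0 ∧ z₂ = 0)
    (g₁ : Matrix.GeneralLinearGroup ((Fin m ⊕ Fin m) ⊕ Fin 2) F) (σ : F ≃+* F)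
    (c₁ : F) (hc₁ : c₁ ≠ 0)
    (hg₁ : ∀ v, genForm (binForm a b) m (sm g₁ σ v) = c₁ * σ (genForm (binForm a b) m v))
    (k : ↥(Geo.quadSimilarityGroup (F := F) ⇑(genForm (binForm a b) m)))
    (hk : PMi a b m (k : Matrix.GeneralLinearGroup ((Fin m ⊕ Fin m) ⊕ Fin 2) F)) :
    PMi a b m ((conjSim g₁ σ c₁ hc₁ hg₁ (quad_xvec a b m) k :
      ↥(Geo.quadSimilarityGroup (F := F) ⇑(genForm (binForm a b) m))) :
        Matrix.GeneralLinearGroup ((Fin m ⊕ Fin m) ⊕ Fin 2) F) := by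
  have han := anisotropic_of a b hab
  have hQ := genForm_nondegenerate _ (binForm_nondegenerate a b han) m
  have hfam := genForm_hypFamily (binForm a b) (le_refl m)
  have h5 : 5 ≤ Fintype.card ((Fin m ⊕ Fin m) ⊕ Fin 2) := by rw [card_minus_index]; omega
  haveI : Nonempty ((Fin m ⊕ Fin m) ⊕ Fin 2) := ⟨Sum.inr 0⟩
  have hm2 : 2 ≤ m := by omega
  by_cases h2 : (2 : F) = 0
  · rw [pscm_iff_P2 h2 hm2 hab hQ _ k.2,
      P2_iff_inn (ringChar_two_of h2) hQ (hex_minus m hm2) hfam hm h5 (quad_xvec a b m) k] at hk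
    rw [pscm_iff_P2 h2 hm2 hab hQ _ (conjSim g₁ σ c₁ hc₁ hg₁ (quad_xvec a b m) k).2,
      P2_iff_inn (ringChar_two_of h2) hQ (hex_minus m hm2) hfam hm h5 (quad_xvec a b m)]
    have h1 := conjSim_semiAut g₁ σ c₁ hc₁ hg₁ (quad_xvec a b m) k
    have h3 : conjGO (genForm (binForm a b) m) (conjSim g₁ σ c₁ hc₁ hg₁ (quad_xvec a b m) k) =
        semiAut g₁ σ c₁ hg₁ * conjGO (genForm (binForm a b) m) k * (semiAut g₁ σ c₁ hg₁)⁻¹ := by
      rw [h1, mul_inv_cancel_right]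
    rw [h3]
    exact (innNormal _).conj_mem _ hk _
  · rw [pscm_iff_Pdet h2 hab (quad_xvec a b m) _ k.2] at hk
    rw [pscm_iff_Pdet h2 hab (quad_xvec a b m) _
      (conjSim g₁ σ c₁ hc₁ hg₁ (quad_xvec a b m) k).2]
    exact Pdet_conjSim (quad_xvec a b m) g₁ σ c₁ hc₁ hg₁ k hk

end pmi

end Cfsg.Agent.Lib.Helper9.AOF
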