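import Mathlib
import Cfsg.Prelude
import Cfsg.Agent.Lib.Helper5.OmegaSimple
import Cfsg.Agent.Lib.Helper5.MaxTS
import Cfsg.Agent.Lib.Helper9.AOF13

set_option autoImplicit false
set_option linter.unusedSectionVars false
set_option linter.unusedVariables false
open Cfsg

namespace Cfsg.Agent.Lib.Helper9.AOF

open Matrix QuadraticMap Cfsg.Agent.Lib.Helper5.CartanDieudonne Cfsg.Agent.Lib.Helper5.Refl
  Cfsg.Agent.Lib.Helper5.OrthCard Cfsg.Agent.Lib.Helper5.Siegel Cfsg.Agent.Lib.Helper5.QuadIsom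
  Cfsg.Agent.Lib.Helper5.ReflGen Cfsg.Agent.Lib.Helper5.Eichler Cfsg.Agent.Lib.Helper5.SingGeom
  Cfsg.Agent.Lib.Helper5.OmegaGen Cfsg.Agent.Lib.Helper5.OmegaSimple
  Cfsg.Agent.Lib.Helper9.AOR

variable {ι : Type} [Fintype ι] [DecidableEq ι] {F : Type*} [Field F] [Fintype F]
  (Q : QuadraticForm F (ι → F))

/-! Field automorphisms of `PΩ⁻`: conjugacy in the coset under the inner-diagonal group. -/

section abstractconj

theorem map_eq_of_conj {A B : Type*} [Group A] [Group B] (f g : A →* B) (D : Subgroup A)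
    (D' : Subgroup B) (hD' : D'.Normal) (α : B) (hfg : ∀ x, f x = α * g x * α⁻¹)
    (hg : D.map g = D') : D.map f = D' := by
  ext y
  constructor
  · rintro ⟨x, hx, rfl⟩
    rw [hfg]
    apply hD'.conj_mem
    rw [← hg]
    exact ⟨x, hx, rfl⟩
  · intro hy
    have h1 := hD'.conj_mem y hy α⁻¹
    rw [← hg] at h1
    obtain ⟨x, hx, e⟩ := h1
    refine ⟨x, hx, ?_⟩
    rw [hfg, e]
    group

end abstractconj

section minusmain
open Cfsg.Agent.Lib.Helper9.ASP Cfsg.Agent.Lib.Helper5.OAut Cfsg.Agent.Lib.Helper5.SpinorHyp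
  Cfsg.Agent.Lib.Helper5.SpinorHyp2 Cfsg.Agent.Lib.Helper5.OrthPlane
  Cfsg.Agent.Lib.Helper5.SpinorNorm Cfsg.Agent.Lib.Helper5.Dickson Cfsg.Agent.S0294
  Cfsg.Agent.Lib.Helper5.QuadSign Cfsg.Agent.Lib.Helper5.QuadTwo
open Cfsg.Agent.Lib.Helper9.APSL (orderOf_conj')

universe u
variable {F : Type u} [Field F] [Fintype F] {a b a' b' : F} {m : ℕ}

theorem hyp_minus (hm : 3 ≤ m)
    (hab : ∀ z₁ z₂ : F, z₁ ^ 2 + a * z₁ * z₂ + b * z₂ ^ 2 = 0 → z₁ = 0 ∧ z₂ = 0) :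
    Hyp (genForm (binForm a b) m) := by
  have han := anisotropic_of a b hab
  have hQ := genForm_nondegenerate _ (binForm_nondegenerate a b han) m
  have hfam := genForm_hypFamily (binForm a b) (le_refl m)
  exact Hyp.of_hypFamily hQ hfam hm (by rw [card_minus_index]; omega)

theorem gamma_minus_top (p : ℕ) [Fact p.Prime] [CharP F p] (hm : 3 ≤ m)
    (hab : ∀ z₁ z₂ : F, z₁ ^ 2 + a * z₁ * z₂ + b * z₂ ^ 2 = 0 → z₁ = 0 ∧ z₂ = 0) :
    gammaPOmega F ⇑(genForm (binForm a b) m) = ⊤ := by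
  have han := anisotropic_of a b hab
  have hQ := genForm_nondegenerate _ (binForm_nondegenerate a b han) m
  refine gamma_eq_top p (hyp_minus hm hab) (by rw [card_minus_index]; omega) ?_
  intro Y hY hle
  exact (no_lagrangian_genForm _ han m hQ Y hY hle).elim

theorem isCls_PMi' (hm : 3 ≤ m)
    (hab : ∀ z₁ z₂ : F, z₁ ^ 2 + a * z₁ * z₂ + b * z₂ ^ 2 = 0 → z₁ = 0 ∧ z₂ = 0) :
    IsCls (genForm (binForm a b) m) (PMi a b m) := isCls_PMi (by omega) hab

theorem Dcls_PMi_eq_inn' (h2 : (2 : F) = 0) (hm : 3 ≤ m)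
    (hab : ∀ z₁ z₂ : F, z₁ ^ 2 + a * z₁ * z₂ + b * z₂ ^ 2 = 0 → z₁ = 0 ∧ z₂ = 0) :
    Dcls (isCls_PMi' hm hab) = Inn (POmega F ⇑(genForm (binForm a b) m)) :=
  Dcls_PMi_eq_inn h2 hm hab

theorem Dcls_PMi_normal (hm : 3 ≤ m)
    (hab : ∀ z₁ z₂ : F, z₁ ^ 2 + a * z₁ * z₂ + b * z₂ ^ 2 = 0 → z₁ = 0 ∧ z₂ = 0) :
    (Dcls (isCls_PMi' hm hab)).Normal := by
  obtain ⟨p, hp⟩ := CharP.exists F
  have := hp
  have : Fact p.Prime := ⟨CharP.char_is_prime F p⟩
  exact Dcls_normal p (gamma_minus_top p hm hab) (quad_xvec a b m) _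
    (fun g₁ σ c₁ hc₁ hg₁ k hk => PMi_conjSim hm hab g₁ σ c₁ hc₁ hg₁ k hk)

/-- two minus type forms of the same dimension are isometric -/
theorem exists_isometry_minus
    (hab : ∀ z₁ z₂ : F, z₁ ^ 2 + a * z₁ * z₂ + b * z₂ ^ 2 = 0 → z₁ = 0 ∧ z₂ = 0)
    (hab' : ∀ z₁ z₂ : F, z₁ ^ 2 + a' * z₁ * z₂ + b' * z₂ ^ 2 = 0 → z₁ = 0 ∧ z₂ = 0) :
    ∃ T : Matrix.GeneralLinearGroup ((Fin m ⊕ Fin m) ⊕ Fin 2) F,
      ∀ v, genForm (binForm a' b') m
        ((T : Matrix ((Fin m ⊕ Fin m) ⊕ Fin 2) ((Fin m ⊕ Fin m) ⊕ Fin 2) F) *ᵥ v) =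
        genForm (binForm a b) m v := by
  have han := anisotropic_of a b hab
  have hQ := genForm_nondegenerate _ (binForm_nondegenerate a b han) m
  have han' := anisotropic_of a' b' hab'
  have hQ' := genForm_nondegenerate _ (binForm_nondegenerate a' b' han') m
  have hs : HasSign (⇑(genForm (binForm a b) m)) (m + 1) (-1) := by
    rw [genForm_eq_qMinus]
    exact hasSign_qMinus m hab
  have hs' : HasSign (⇑(genForm (binForm a' b') m)) (m + 1) (-1) := by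
    rw [genForm_eq_qMinus]
    exact hasSign_qMinus m hab'
  obtain ⟨φ, hφ⟩ := (geo_all (F := F)).iso_of_hasSign (genForm (binForm a b) m)
    (genForm (binForm a' b') m) (nd_of_nondeg _ hQ) (nd_of_nondeg _ hQ') (m + 1)
    (finrank_minus m) (finrank_minus m) (-1) hs hs'
  obtain ⟨T, hT⟩ := exists_GL_of_linearEquiv φ
  exact ⟨T, fun v => by rw [hT, hφ]⟩

/-- the inner-diagonal groups correspond under the isomorphism induced by an isometry -/
theorem map_autCongr_psiT_Dcls (h2 : (2 : F) ≠ 0) (hm : 3 ≤ m)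
    (hab : ∀ z₁ z₂ : F, z₁ ^ 2 + a * z₁ * z₂ + b * z₂ ^ 2 = 0 → z₁ = 0 ∧ z₂ = 0)
    (hab' : ∀ z₁ z₂ : F, z₁ ^ 2 + a' * z₁ * z₂ + b' * z₂ ^ 2 = 0 → z₁ = 0 ∧ z₂ = 0)
    (T : Matrix.GeneralLinearGroup ((Fin m ⊕ Fin m) ⊕ Fin 2) F)
    (hT : ∀ v, genForm (binForm a' b') m
        ((T : Matrix ((Fin m ⊕ Fin m) ⊕ Fin 2) ((Fin m ⊕ Fin m) ⊕ Fin 2) F) *ᵥ v) =
        genForm (binForm a b) m v) :
    (Dcls (isCls_PMi' hm hab)).map
      (autCongr (psiT T hT) : MulAut (POmega F ⇑(genForm (binForm a b) m)) →*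
        MulAut (POmega F ⇑(genForm (binForm a' b') m))) =
      Dcls (isCls_PMi' hm hab') := by
  have hw' : genForm (binForm a' b') m
      ((T : Matrix ((Fin m ⊕ Fin m) ⊕ Fin 2) ((Fin m ⊕ Fin m) ⊕ Fin 2) F) *ᵥ xvec m) = 1 := by
    rw [hT, quad_xvec]
  apply le_antisymm
  · rintro _ ⟨_, ⟨k, hk, rfl⟩, rfl⟩
    refine ⟨simT T hT k, ?_, (autCongr_psiT_conjGO T hT k).symm⟩
    show PMi a' b' m _
    have hk' : PMi a b m (k : Matrix.GeneralLinearGroup ((Fin m ⊕ Fin m) ⊕ Fin 2) F) := hk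
    rw [pscm_iff_Pdet h2 hab (quad_xvec a b m) _ k.2] at hk'
    rw [pscm_iff_Pdet h2 hab' hw' _ (simT T hT k).2]
    exact (Pdet_simT T hT k).mpr hk'
  · rintro _ ⟨k', hk', rfl⟩
    have hT' := invT_spec T hT
    obtain ⟨k, hk⟩ : ∃ k : ↥(Geo.quadSimilarityGroup (F := F) ⇑(genForm (binForm a b) m)),
        k = simT T⁻¹ hT' k' := ⟨_, rfl⟩
    have e : simT T hT k = k' := by
      apply Subtype.ext
      rw [simT_coe, hk, simT_coe]
      group
    have h3 : Pdet (genForm (binForm a' b') m)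
        ((T : Matrix ((Fin m ⊕ Fin m) ⊕ Fin 2) ((Fin m ⊕ Fin m) ⊕ Fin 2) F) *ᵥ xvec m) (m + 1)
        ((simT T hT k : ↥(Geo.quadSimilarityGroup (F := F) ⇑(genForm (binForm a' b') m))) :
          Matrix.GeneralLinearGroup ((Fin m ⊕ Fin m) ⊕ Fin 2) F) := by
      rw [e]
      exact (pscm_iff_Pdet h2 hab' hw' _ k'.2).mp hk'
    have h4 := (Pdet_simT T hT k).mp h3
    have hk'' : PMi a b m (k : Matrix.GeneralLinearGroup ((Fin m ⊕ Fin m) ⊕ Fin 2) F) :=
      (pscm_iff_Pdet h2 hab (quad_xvec a b m) _ k.2).mpr h4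
    refine ⟨conjGO _ k, ⟨k, hk'', rfl⟩, ?_⟩
    show autCongr (psiT T hT) (conjGO _ k) = _
    rw [autCongr_psiT_conjGO, e]

/-- **the inner-diagonal groups correspond under any isomorphism** -/
theorem map_autCongr_Dcls (hm : 3 ≤ m)
    (hab : ∀ z₁ z₂ : F, z₁ ^ 2 + a * z₁ * z₂ + b * z₂ ^ 2 = 0 → z₁ = 0 ∧ z₂ = 0)
    (hab' : ∀ z₁ z₂ : F, z₁ ^ 2 + a' * z₁ * z₂ + b' * z₂ ^ 2 = 0 → z₁ = 0 ∧ z₂ = 0)
    (ψ : POmega F ⇑(genForm (binForm a b) m) ≃* POmega F ⇑(genForm (binForm a' b') m)) :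
    (Dcls (isCls_PMi' hm hab)).map
      (autCongr ψ : MulAut (POmega F ⇑(genForm (binForm a b) m)) →*
        MulAut (POmega F ⇑(genForm (binForm a' b') m))) =
      Dcls (isCls_PMi' hm hab') := by
  by_cases h2 : (2 : F) = 0
  · have e1 := Dcls_PMi_eq_inn' h2 hm hab
    have e2 := Dcls_PMi_eq_inn' h2 hm hab'
    have e3 := map_autCongr_inn ψ
    rw [← e1, ← e2] at e3
    exact e3
  obtain ⟨T, hT⟩ := exists_isometry_minus (m := m) hab hab'
  have hfg : ∀ β : MulAut (POmega F ⇑(genForm (binForm a b) m)),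
      (autCongr ψ : MulAut (POmega F ⇑(genForm (binForm a b) m)) →*
        MulAut (POmega F ⇑(genForm (binForm a' b') m))) β =
      ((psiT T hT).symm.trans ψ : MulAut (POmega F ⇑(genForm (binForm a' b') m))) *
        (autCongr (psiT T hT) : MulAut (POmega F ⇑(genForm (binForm a b) m)) →*
          MulAut (POmega F ⇑(genForm (binForm a' b') m))) β *
        ((psiT T hT).symm.trans ψ : MulAut (POmega F ⇑(genForm (binForm a' b') m)))⁻¹ :=
    fun β => autCongr_eq_conj ψ (psiT T hT) β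
  exact map_eq_of_conj
    (autCongr ψ : MulAut (POmega F ⇑(genForm (binForm a b) m)) →*
        MulAut (POmega F ⇑(genForm (binForm a' b') m)))
    (autCongr (psiT T hT) : MulAut (POmega F ⇑(genForm (binForm a b) m)) →*
        MulAut (POmega F ⇑(genForm (binForm a' b') m)))
    (Dcls (isCls_PMi' hm hab)) (Dcls (isCls_PMi' hm hab')) (Dcls_PMi_normal hm hab')
    ((psiT T hT).symm.trans ψ : MulAut (POmega F ⇑(genForm (binForm a' b') m))) hfg
    (map_autCongr_psiT_Dcls h2 hm hab hab' T hT)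

omit [Fintype F] in
/-- the reflection in the standard anisotropic vector commutes with field automorphisms -/
theorem refl_xvec_fixed (σ : RingAut F) (hσa : σ a = a) (hσb : σ b = b)
    (hv : genForm (binForm a b) m (xvec m) ≠ 0) :
    sGI σ ((Cfsg.Agent.Lib.Helper5.Refl.reflection (genForm (binForm a b) m) (xvec m) hv :
      ↥(isometryGroup F ⇑(genForm (binForm a b) m))) :
        Matrix.GeneralLinearGroup ((Fin m ⊕ Fin m) ⊕ Fin 2) F) =
      (Cfsg.Agent.Lib.Helper5.Refl.reflection (genForm (binForm a b) m) (xvec m) hv :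
        ↥(isometryGroup F ⇑(genForm (binForm a b) m))) := by
  apply Units.ext
  rw [sGI_coe, Cfsg.Agent.Lib.Helper5.Refl.reflection_coe]
  have hbc : ∀ v₀ : (Fin m ⊕ Fin m) ⊕ Fin 2 → F,
      genForm (binForm a b) m (hm ((σ : F ≃+* F) : F →+* F) v₀) =
        ((σ : F ≃+* F) : F →+* F) (genForm (binForm a b) m v₀) :=
    fun v₀ => minus_vm a b m σ hσa hσb v₀
  have h1 := reflectionMatrix_hm ((σ : F ≃+* F) : F →+* F) (genForm (binForm a b) m) hbc (xvec m)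
  have h2 : hm ((σ : F ≃+* F) : F →+* F) (xvec (F := F) m) = xvec m := by
    unfold xvec
    exact hm_single _ _
  rw [h2] at h1
  exact h1.symm

/-- **conjugacy in the coset of a standard field automorphism** (minus type) -/
theorem minus_field_conj_fixed (hm : 3 ≤ m)
    (hab : ∀ z₁ z₂ : F, z₁ ^ 2 + a * z₁ * z₂ + b * z₂ ^ 2 = 0 → z₁ = 0 ∧ z₂ = 0)
    (σ : RingAut F) (hσ1 : σ ≠ RingEquiv.refl F) (hσa : σ a = a) (hσb : σ b = b) {r : ℕ}
    (hr : r.Prime) (hxr : (fO σ (minus_vm a b m σ hσa hσb)) ^ r = 1)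
    (δ : MulAut (POmega F ⇑(genForm (binForm a b) m)))
    (hδ : δ ∈ Dcls (isCls_PMi' hm hab))
    (hpow : (δ * fO σ (minus_vm a b m σ hσa hσb)) ^ r = 1) :
    IsConjUnder (Dcls (isCls_PMi' hm hab)) (fO σ (minus_vm a b m σ hσa hσb))
      (δ * fO σ (minus_vm a b m σ hσa hσb)) := by
  obtain ⟨p, hp⟩ := CharP.exists F
  have := hp
  have : Fact p.Prime := ⟨CharP.char_is_prime F p⟩
  have han := anisotropic_of a b hab
  have hQ := genForm_nondegenerate _ (binForm_nondegenerate a b han) m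
  have hfam := genForm_hypFamily (binForm a b) (le_refl m)
  have h5 : 5 ≤ Fintype.card ((Fin m ⊕ Fin m) ⊕ Fin 2) := by rw [card_minus_index]; omega
  have : Nonempty ((Fin m ⊕ Fin m) ⊕ Fin 2) := ⟨Sum.inr 0⟩
  have H := hyp_minus hm hab
  have hγ := gamma_minus_top p hm hab
  have hord : orderOf (σ : RingAut F) = r :=
    orderOf_of_fO p H hγ σ (minus_vm a b m σ hσa hσb) hσ1 hr hxr
  have hv : genForm (binForm a b) m (xvec m) ≠ 0 := by
    rw [quad_xvec]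
    exact one_ne_zero
  exact conj_field_cls hQ hfam hm h5 (quad_xvec a b m) (isCls_PMi' hm hab) σ
    (minus_vm a b m σ hσa hσb) r hr.pos hord
    (fun g hg hN _ => exists_orth_descent_minus a b m hab σ hσa hσb r hr.pos hord g hg hN)
    (inclO _ (Cfsg.Agent.Lib.Helper5.Refl.reflection (genForm (binForm a b) m) (xvec m) hv))
    (refl_xvec_fixed σ hσa hσb hv) (not_PMi_reflection hab (xvec m) hv) δ hδ hpow

/-- **S2737, core form** -/
theorem minus_field_conj_core (hm : 3 ≤ m)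
    (hab : ∀ z₁ z₂ : F, z₁ ^ 2 + a * z₁ * z₂ + b * z₂ ^ 2 = 0 → z₁ = 0 ∧ z₂ = 0)
    (hab' : ∀ z₁ z₂ : F, z₁ ^ 2 + a' * z₁ * z₂ + b' * z₂ ^ 2 = 0 → z₁ = 0 ∧ z₂ = 0)
    (q q' : ((Fin m ⊕ Fin m) ⊕ Fin 2 → F) → F) (hq : q = ⇑(genForm (binForm a b) m))
    (hq' : q' = ⇑(genForm (binForm a' b') m))
    (x δ : MulAut (POmega F q)) (ψ : POmega F q ≃* POmega F q') (σ : F ≃+* F)
    (hσ1 : σ ≠ RingEquiv.refl F) (hσa : σ a' = a') (hσb : σ b' = b')
    (hφ : IsFieldAutPOmegaOf q' σ ((ψ.symm.trans x).trans ψ)) {r : ℕ} (hr : r.Prime)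
    (hxr : orderOf x = r)
    (hδ : δ ∈ inndiagGenP q (PreservesSingularClassesMinus m a b)) :
    orderOf (δ * x) = r ↔
      IsConjUnder (inndiagGenP q (PreservesSingularClassesMinus m a b)) x (δ * x) := by
  subst hq
  subst hq'
  have e0 : inndiagGenP ⇑(genForm (binForm a b) m) (PreservesSingularClassesMinus m a b) =
      Dcls (isCls_PMi' hm hab) := inndiagGenP_eq_Dcls _ (isCls_PMi' hm hab)
  rw [e0] at hδ ⊢
  constructor
  · intro hord
    have e1 : autCongr ψ x = fO σ (minus_vm a' b' m σ hσa hσb) :=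
      eq_fO_of_stdField σ _ hφ
    rw [← isConjUnder_autCongr ψ, map_autCongr_Dcls hm hab hab' ψ, map_mul, e1]
    have hδ' : autCongr ψ δ ∈ Dcls (isCls_PMi' hm hab') := by
      rw [← map_autCongr_Dcls hm hab hab' ψ]
      exact ⟨δ, hδ, rfl⟩
    apply minus_field_conj_fixed hm hab' σ hσ1 hσa hσb hr _ (autCongr ψ δ) hδ'
    · rw [← e1, ← map_mul, ← map_pow, ← hord, pow_orderOf_eq_one, map_one]
    · rw [← e1, ← map_pow, ← hxr, pow_orderOf_eq_one, map_one]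
  · rintro ⟨k, _, e⟩
    rw [e, orderOf_conj', hxr]

end minusmain

end Cfsg.Agent.Lib.Helper9.AOF
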