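import Mathlib
import Cfsg.Prelude
import Cfsg.Agent.Lib.Helper5.OmegaSimple
import Cfsg.Agent.Lib.Helper5.MaxTS
import Cfsg.Agent.Lib.Helper9.AOF14
import Cfsg.Agent.Lib.Helper9.AOR32
import Cfsg.Agent.Lib.Helper9.APSL27

set_option autoImplicit false
set_option linter.unusedSectionVars false
set_option linter.unusedVariables false
open Cfsg

namespace Cfsg.Agent.Lib.Helper9.AOF

open Matrix QuadraticMap Cfsg.Agent.Lib.Helper5.CartanDieudonne Cfsg.Agent.Lib.Helper5.Refl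
  Cfsg.Agent.Lib.Helper5.OrthCard Cfsg.Agent.Lib.Helper5.Siegel Cfsg.Agent.Lib.Helper5.QuadIsom
  Cfsg.Agent.Lib.Helper5.ReflGen Cfsg.Agent.Lib.Helper5.Eichler Cfsg.Agent.Lib.Helper5.SingGeom
  Cfsg.Agent.Lib.Helper5.OmegaGen Cfsg.Agent.Lib.Helper5.OmegaSimple
  Cfsg.Agent.Lib.Helper9.AOR

variable {ι : Type} [Fintype ι] [DecidableEq ι] {F : Type*} [Field F] [Fintype F]
  (Q : QuadraticForm F (ι → F))

/-! The centraliser of a field automorphism and the splitting of its class: general tools. -/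

section grp15
open Cfsg.Agent.Lib.Helper9.APSL (mem_cent_single)

/-- if `D ≤ C(x) K` then the `D`-class of `x` is a single `K`-class -/
theorem splitClassCount_eq_one {X : Type*} [Group X] (D K : Subgroup X) [hK : K.Normal] (x : X)
    (h : D ≤ Subgroup.centralizer {x} ⊔ K) : Cfsg.splitClassCount D K x = 1 := by
  unfold Cfsg.splitClassCount
  have key : ∀ u : Quot (fun y z : {y : X // Cfsg.IsConjUnder D x y} =>
      Cfsg.IsConjUnder K y.1 z.1),
      u = Quot.mk _ ⟨x, 1, D.one_mem, by rw [one_mul, inv_one, mul_one]⟩ := by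
    intro u
    induction u using Quot.ind with
    | mk y =>
      symm
      apply Quot.sound
      obtain ⟨y, d, hd, e⟩ := y
      show Cfsg.IsConjUnder K x y
      have hd' := h hd
      rw [Subgroup.mem_sup_of_normal_right] at hd'
      obtain ⟨c, hc, n, hn, rfl⟩ := hd'
      refine ⟨c * n * c⁻¹, hK.conj_mem n hn c, ?_⟩
      have hcx := mem_cent_single.mp hc
      have hx' : c⁻¹ * x * c = x := by rw [mul_assoc, hcx, inv_mul_cancel_left]
      rw [e]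
      calc c * n * x * (c * n)⁻¹ = c * n * x * n⁻¹ * c⁻¹ := by group
        _ = c * n * (c⁻¹ * x * c) * n⁻¹ * c⁻¹ := by rw [hx']
        _ = c * n * c⁻¹ * x * (c * n * c⁻¹)⁻¹ := by group
  rw [Nat.card_eq_one_iff_unique]
  refine ⟨⟨fun u v => ?_⟩, ⟨Quot.mk _ ⟨x, 1, D.one_mem, by rw [one_mul, inv_one, mul_one]⟩⟩⟩
  rw [key u, key v]

theorem map_centralizer_single {A B : Type*} [Group A] [Group B] (Ψ : A ≃* B) (x : A) :
    (Subgroup.centralizer {x}).map (Ψ : A →* B) = Subgroup.centralizer {Ψ x} := by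
  ext y
  constructor
  · rintro ⟨c, hc, rfl⟩
    have h1 := mem_cent_single.mp hc
    apply mem_cent_single.mpr
    show Ψ x * Ψ c = Ψ c * Ψ x
    rw [← map_mul, ← map_mul, h1]
  · intro hy
    refine ⟨Ψ.symm y, ?_, Ψ.apply_symm_apply y⟩
    apply mem_cent_single.mpr
    apply Ψ.injective
    rw [map_mul, map_mul, Ψ.apply_symm_apply]
    exact mem_cent_single.mp hy

/-- an isomorphism carries `D ⊓ C(x)` to the corresponding group -/
noncomputable def centMapEquiv {A B : Type*} [Group A] [Group B] (Ψ : A ≃* B) (D : Subgroup A)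
    (x : A) : ↥(D ⊓ Subgroup.centralizer {x}) ≃*
      ↥(D.map (Ψ : A →* B) ⊓ Subgroup.centralizer {Ψ x}) :=
  ((D ⊓ Subgroup.centralizer {x}).equivMapOfInjective (Ψ : A →* B) Ψ.injective).trans
    (MulEquiv.subgroupCongr (by
      rw [Subgroup.map_inf_eq _ _ _ Ψ.injective, map_centralizer_single]))

theorem le_cent_sup_of_map {A B : Type*} [Group A] [Group B] (Ψ : A ≃* B) (D K : Subgroup A)
    (x : A)
    (h : D.map (Ψ : A →* B) ≤ Subgroup.centralizer {Ψ x} ⊔ K.map (Ψ : A →* B)) :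
    D ≤ Subgroup.centralizer {x} ⊔ K := by
  rw [← map_centralizer_single, ← Subgroup.map_sup] at h
  exact (Subgroup.map_le_map_iff_of_injective Ψ.injective).mp h

end grp15

section fld15
open Cfsg.Agent.Lib.Helper9.APSL (finite_ringAut mem_fixed_subfield)

/-- an automorphism of order two cannot fix the coefficients of an anisotropic binary form -/
theorem minus_sigma_ne_two {F : Type*} [Field F] [Fintype F] (a b : F)
    (hab : ∀ z₁ z₂ : F, z₁ ^ 2 + a * z₁ * z₂ + b * z₂ ^ 2 = 0 → z₁ = 0 ∧ z₂ = 0)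
    (σ : RingAut F) (hσa : σ a = a) (hσb : σ b = b) (hord : orderOf σ = 2) : False := by
  haveI : Finite (RingAut F) := finite_ringAut
  letI : Fintype (Subgroup.zpowers σ) := Fintype.ofFinite _
  letI : Fintype (FixedPoints.subfield (Subgroup.zpowers σ) F) := Fintype.ofFinite _
  have h1 := FixedPoints.finrank_eq_card (Subgroup.zpowers σ) F
  have h2 : Fintype.card (Subgroup.zpowers σ) = 2 := by
    rw [Fintype.card_eq_nat_card, Nat.card_zpowers, hord]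
  rw [h2] at h1
  have ha := (mem_fixed_subfield σ a).mpr hσa
  have hb := (mem_fixed_subfield σ b).mpr hσb
  have hab₀ : ∀ z₁ z₂ : FixedPoints.subfield (Subgroup.zpowers σ) F,
      z₁ ^ 2 + (⟨a, ha⟩ : FixedPoints.subfield (Subgroup.zpowers σ) F) * z₁ * z₂ +
        (⟨b, hb⟩ : FixedPoints.subfield (Subgroup.zpowers σ) F) * z₂ ^ 2 = 0 →
      z₁ = 0 ∧ z₂ = 0 := by
    intro z₁ z₂ h
    have h' := congrArg Subtype.val h
    have h3 := hab z₁.1 z₂.1 (by simpa using h')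
    exact ⟨Subtype.ext h3.1, Subtype.ext h3.2⟩
  obtain ⟨ρ, hρ⟩ := exists_root_finrank_two _ _ hab₀ F h1
  have hρ' : ρ * ρ + a * ρ + b = 0 := hρ
  have h4 := hab ρ 1 (by linear_combination hρ')
  exact one_ne_zero h4.2

end fld15

section split15
open Cfsg.Agent.Lib.Helper9.ASP Cfsg.Agent.Lib.Helper5.OAut Cfsg.Agent.Lib.Helper5.SpinorHyp
  Cfsg.Agent.Lib.Helper5.SpinorNorm
open Cfsg.Agent.Lib.Helper9.APSL (mem_cent_single)

variable {Q} {i : ℕ} {α β : Fin i → ι}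

omit [Fintype F] in
/-- a similarity whose multiplier is a square is a scalar times an isometry -/
theorem exists_decomp_sq {w₀ : ι → F} (hw₀ : Q w₀ = 1)
    (g : Matrix.GeneralLinearGroup ι F) (hg : g ∈ Geo.quadSimilarityGroup (F := F) ⇑Q)
    (hsq : IsSquare (Cfsg.Agent.Lib.Helper5.OAut.mult Q w₀ g)) :
    ∃ (d : Fˣ) (s : ↥(isometryGroup F ⇑Q)),
      g = scU d * (s : Matrix.GeneralLinearGroup ι F) := by
  obtain ⟨d, hd⟩ := hsq
  have hd0 : d ≠ 0 := by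
    rintro rfl
    rw [mul_zero] at hd
    exact mult_ne_zero hw₀ hg hd
  have hmem : (scU (Units.mk0 d hd0))⁻¹ * g ∈ isometryGroup F ⇑Q := by
    rw [Cfsg.Agent.Lib.Helper5.OrthCard.mem_isometryGroup_iff]
    intro v
    rw [← scU_inv, Units.val_mul, scU_coe, Matrix.smul_mul, Matrix.one_mul, Matrix.smul_mulVec,
      QuadraticMap.map_smul, mult_spec hw₀ hg, hd, smul_eq_mul]
    simp only [Units.val_inv_eq_inv_val, Units.val_mk0]
    field_simp
  exact ⟨Units.mk0 d hd0, ⟨_, hmem⟩, by rw [mul_inv_cancel_left]⟩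

variable {F₀ : Type*} [Field F₀] (j : F₀ →+* F) (Q₀ : QuadraticForm F₀ (ι → F₀))

omit [Fintype F] in
theorem mult_glmap (hbc : ∀ v₀, Q (hm j v₀) = j (Q₀ v₀)) (w₀' : ι → F₀)
    (g₀ : Matrix.GeneralLinearGroup ι F₀) :
    Cfsg.Agent.Lib.Helper5.OAut.mult Q (hm j w₀') (Matrix.GeneralLinearGroup.map j g₀) =
      j (Cfsg.Agent.Lib.Helper5.OAut.mult Q₀ w₀' g₀) := by
  unfold Cfsg.Agent.Lib.Helper5.OAut.mult
  rw [glmapI_coe, ← hm_mulVec, hbc]

/-- **every class preserving similarity is the product of an element commuting with the field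
automorphism and an inner automorphism**, when the field automorphism has odd order (odd
characteristic, even dimension) -/
theorem conjGO_mem_cent_sup_inn [Nonempty ι] [Fintype F₀] (h2 : (2 : F) ≠ 0)
    (hQ : (polarBilin Q).Nondegenerate) (hfam : IsHypFamily Q α β) (hi : 3 ≤ i)
    (h5 : 5 ≤ Fintype.card ι) {n : ℕ} (hcard : Fintype.card ι = 2 * n)
    (hQ₀ : (polarBilin Q₀).Nondegenerate) {w₀' : ι → F₀} (hw₀' : Q₀ w₀' = 1)
    (hbc : ∀ v₀, Q (hm j v₀) = j (Q₀ v₀))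
    (σ : RingAut F) (hσQ : ∀ v, Q (vm σ v) = σ (Q v)) (r : ℕ) (hr : 0 < r)
    (hord : orderOf σ = r) (hrodd : Odd r) (hι : ∀ a : F, σ a = a ↔ a ∈ Set.range j)
    (hsurj : ∀ ν₀ : F₀ˣ, ∃ g₀ : Matrix.GeneralLinearGroup ι F₀,
      g₀ ∈ Geo.quadSimilarityGroup (F := F₀) ⇑Q₀ ∧
        Cfsg.Agent.Lib.Helper5.OAut.mult Q₀ w₀' g₀ = (ν₀ : F₀))
    (k : ↥(Geo.quadSimilarityGroup (F := F) ⇑Q))
    (hk : Pdet Q (hm j w₀') n (k : Matrix.GeneralLinearGroup ι F)) :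
    conjGO Q k ∈ Subgroup.centralizer {fO σ hσQ} ⊔ Inn (POmega F ⇑Q) := by
  have hw₀ : Q (hm j w₀') = 1 := by rw [hbc, hw₀', map_one]
  have h2₀ : (2 : F₀) ≠ 0 := by
    intro h
    apply h2
    have := congrArg j h
    rwa [map_ofNat, map_zero] at this
  have hι' : ∀ t : F₀, σ (j t) = j t := fun t => (hι _).mpr ⟨t, rfl⟩
  have hσ : σ ^ r = 1 := hord ▸ pow_orderOf_eq_one σ
  have hcardι : 2 ≤ Fintype.card ι := by omega
  have hP := isCls_Pdet h2 hQ hw₀ hcard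
  have hP₀ := isCls_Pdet h2₀ hQ₀ hw₀' hcard
  -- fixed similarities give elements of the centraliser
  have hfixC : ∀ g : ↥(Geo.quadSimilarityGroup (F := F) ⇑Q),
      sGI σ (g : Matrix.GeneralLinearGroup ι F) = g →
      conjGO Q g ∈ Subgroup.centralizer {fO σ hσQ} := by
    intro g hg
    exact ((cent_fO_iff hQ hfam hi h5 hw₀ σ hσQ r hr hord _).mpr ⟨g, hg, rfl⟩).2
  -- step A: a rational similarity adjusting the multiplier
  obtain ⟨t₀, ht₀, hPt₀, hsq⟩ : ∃ t₀ : Matrix.GeneralLinearGroup ι F₀,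
      t₀ ∈ Geo.quadSimilarityGroup (F := F₀) ⇑Q₀ ∧ Pdet Q₀ w₀' n t₀ ∧
      IsSquare (Cfsg.Agent.Lib.Helper5.OAut.mult Q (hm j w₀')
        (k : Matrix.GeneralLinearGroup ι F) *
          j (Cfsg.Agent.Lib.Helper5.OAut.mult Q₀ w₀' t₀)) := by
    by_cases hμ : IsSquare (Cfsg.Agent.Lib.Helper5.OAut.mult Q (hm j w₀')
        (k : Matrix.GeneralLinearGroup ι F))
    · refine ⟨1, Subgroup.one_mem _, hP₀.one, ?_⟩
      have h1 : Cfsg.Agent.Lib.Helper5.OAut.mult Q₀ w₀' 1 = 1 := by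
        unfold Cfsg.Agent.Lib.Helper5.OAut.mult
        rw [Units.val_one, Matrix.one_mulVec, hw₀']
      rw [h1, map_one, mul_one]
      exact hμ
    · obtain ⟨ν₀, hν₀0, hν₀⟩ := exists_nonsquare (F := F₀) h2₀
      obtain ⟨g₀, hg₀, hg₀m⟩ := hsurj (Units.mk0 ν₀ hν₀0)
      rw [Units.val_mk0] at hg₀m
      have hjν : ¬ IsSquare (j ν₀) :=
        not_isSquare_map_of_odd j h2 σ r hσ hrodd (fun a ha => (hι a).mp ha) hι' ν₀ hν₀
      have hsq : IsSquare (Cfsg.Agent.Lib.Helper5.OAut.mult Q (hm j w₀')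
          (k : Matrix.GeneralLinearGroup ι F) * j ν₀) := by
        rw [← sgn_eq_one_iff, sgn_mul (mult_ne_zero hw₀ k.2) ((map_ne_zero j).mpr hν₀0),
          sgn_of_not_isSquare hμ, sgn_of_not_isSquare hjν]
        decide
      by_cases hPg : Pdet Q₀ w₀' n g₀
      · exact ⟨g₀, hg₀, hPg, by rw [hg₀m]; exact hsq⟩
      · obtain ⟨u₀, hu₀⟩ := exists_quad_eq Q₀ hQ₀ hcardι 1 one_ne_zero
        have hu₀' : Q₀ u₀ ≠ 0 := by rw [hu₀]; exact one_ne_zero
        have hrm : ((reflection Q₀ u₀ hu₀' : ↥(isometryGroup F₀ ⇑Q₀)) :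
            Matrix.GeneralLinearGroup ι F₀) ∈ Geo.quadSimilarityGroup (F := F₀) ⇑Q₀ :=
          isometryGroup_le_sim Q₀ (reflection Q₀ u₀ hu₀').2
        refine ⟨g₀ * ((reflection Q₀ u₀ hu₀' : ↥(isometryGroup F₀ ⇑Q₀)) :
            Matrix.GeneralLinearGroup ι F₀), Subgroup.mul_mem _ hg₀ hrm,
          hP₀.idx _ _ hg₀ hrm hPg (not_Pdet_reflection h2₀ hw₀' u₀ hu₀'), ?_⟩
        rw [mult_mul hw₀' hg₀, mult_of_isometry hw₀' (reflection Q₀ u₀ hu₀').2, mul_one, hg₀m]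
        exact hsq
  -- the rational similarity over `F`
  have htFm : Matrix.GeneralLinearGroup.map j t₀ ∈ Geo.quadSimilarityGroup (F := F) ⇑Q :=
    (glmap_mem_GO_iff j Q₀ hbc hw₀' t₀).mp ht₀
  obtain ⟨tF, htF⟩ : ∃ tF : ↥(Geo.quadSimilarityGroup (F := F) ⇑Q),
      (tF : Matrix.GeneralLinearGroup ι F) = Matrix.GeneralLinearGroup.map j t₀ :=
    ⟨⟨_, htFm⟩, rfl⟩
  have htFC : conjGO Q tF ∈ Subgroup.centralizer {fO σ hσQ} := by
    apply hfixC
    rw [htF]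
    exact sGI_glmap σ j hι' _
  have htFP : Pdet Q (hm j w₀') n (tF : Matrix.GeneralLinearGroup ι F) := by
    rw [htF]
    exact (Pdet_glmap j Q₀ hbc w₀' t₀).mpr hPt₀
  -- step B: the product is a scalar times an isometry
  have hk₁m : ((k * tF : ↥(Geo.quadSimilarityGroup (F := F) ⇑Q)) :
      Matrix.GeneralLinearGroup ι F) ∈ Geo.quadSimilarityGroup (F := F) ⇑Q := (k * tF).2
  have hk₁sq : IsSquare (Cfsg.Agent.Lib.Helper5.OAut.mult Q (hm j w₀')
      ((k * tF : ↥(Geo.quadSimilarityGroup (F := F) ⇑Q)) :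
        Matrix.GeneralLinearGroup ι F)) := by
    show IsSquare (Cfsg.Agent.Lib.Helper5.OAut.mult Q (hm j w₀')
      ((k : Matrix.GeneralLinearGroup ι F) * (tF : Matrix.GeneralLinearGroup ι F)))
    rw [mult_mul hw₀ k.2, htF, mult_glmap j Q₀ hbc]
    exact hsq
  obtain ⟨d, s, hds⟩ := exists_decomp_sq hw₀ _ hk₁m hk₁sq
  have hk₁P : Pdet Q (hm j w₀') n ((k * tF : ↥(Geo.quadSimilarityGroup (F := F) ⇑Q)) :
      Matrix.GeneralLinearGroup ι F) := hP.mul _ _ k.2 tF.2 hk htFP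
  have hsm : (s : Matrix.GeneralLinearGroup ι F) ∈ Geo.quadSimilarityGroup (F := F) ⇑Q :=
    isometryGroup_le_sim Q s.2
  have hsP : Pdet Q (hm j w₀') n (s : Matrix.GeneralLinearGroup ι F) := by
    have e : (s : Matrix.GeneralLinearGroup ι F) = (scU d)⁻¹ *
        ((k * tF : ↥(Geo.quadSimilarityGroup (F := F) ⇑Q)) :
          Matrix.GeneralLinearGroup ι F) := by
      rw [hds, inv_mul_cancel_left]
    rw [e]
    exact hP.mul _ _ (Subgroup.inv_mem _ (scU_mem_sim d)) hk₁m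
      (hP.inv _ (scU_mem_sim d) (hP.scal d)) hk₁P
  have hsdet : ((s : Matrix.GeneralLinearGroup ι F) : Matrix ι ι F).det = 1 := by
    have h3 := hsP
    unfold Pdet detRatio at h3
    rw [mult_of_isometry hw₀ s.2, inv_one, one_pow, mul_one] at h3
    exact h3
  -- step C: adjust the spinor norm by a rational rotation
  obtain ⟨vs, hvs⟩ := exists_rep Q h2 hQ s
  have heven : Even vs.length := by
    have h3 := rprod_det Q vs hvs.1
    rw [← hvs.2] at h3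
    have h4 : (-1 : F) ^ vs.length = 1 := by rw [← h3]; exact hsdet
    by_contra hodd
    rw [Nat.not_even_iff_odd] at hodd
    rw [hodd.neg_one_pow] at h4
    apply h2
    linear_combination -h4
  obtain ⟨w, hwfix, hswΩ⟩ : ∃ w : ↥(isometryGroup F ⇑Q),
      sGI σ (w : Matrix.GeneralLinearGroup ι F) = w ∧ s * w ∈ Omega F ⇑Q := by
    by_cases hc : IsSquare (vs.map Q).prod
    · refine ⟨1, ?_, ?_⟩
      · apply Units.ext
        rw [sGI_coe]
        show (1 : Matrix ι ι F).map _ = 1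
        ext a b
        rw [Matrix.map_apply]
        by_cases hab : a = b
        · rw [hab, Matrix.one_apply_eq]
          exact map_one _
        · rw [Matrix.one_apply_ne hab]
          exact map_zero _
      · rw [mul_one]
        show s ∈ commutator ↥(isometryGroup F ⇑Q)
        rw [mem_commutator_iff Q h2 hQ hcardι s vs hvs]
        exact ⟨heven, hc⟩
    · obtain ⟨ε, hε0, hεns⟩ := exists_nonsquare (F := F₀) h2₀
      obtain ⟨u₀, hu₀⟩ := exists_quad_eq Q₀ hQ₀ hcardι 1 one_ne_zero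
      obtain ⟨v₀, hv₀⟩ := exists_quad_eq Q₀ hQ₀ hcardι ε hε0
      have hu : Q (hm j u₀) ≠ 0 := by
        rw [hbc, hu₀, map_one]
        exact one_ne_zero
      have hv : Q (hm j v₀) ≠ 0 := by
        rw [hbc, hv₀]
        exact (map_ne_zero j).mpr hε0
      obtain ⟨w, hw⟩ : ∃ w : ↥(isometryGroup F ⇑Q),
          w = reflection Q (hm j u₀) hu * reflection Q (hm j v₀) hv := ⟨_, rfl⟩
      have hrepw : IsRep Q w [hm j u₀, hm j v₀] := by
        rw [hw]
        exact isRep_mul Q (isRep_reflection Q _ hu) (isRep_reflection Q _ hv)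
      have hjε : ¬ IsSquare (j ε) :=
        not_isSquare_map_of_odd j h2 σ r hσ hrodd (fun a ha => (hι a).mp ha) hι' ε hεns
      refine ⟨w, ?_, ?_⟩
      · apply Units.ext
        rw [sGI_coe, hrepw.2, rprod_cons, rprod_cons, rprod_nil, mul_one,
          reflectionMatrix_hm j Q₀ hbc, reflectionMatrix_hm j Q₀ hbc,
          ← Matrix.map_mul, Matrix.map_map]
        ext a b
        rw [Matrix.map_apply, Matrix.map_apply, Function.comp_apply, hι']
      · have hrep2 : IsRep Q (s * w) (vs ++ [hm j u₀, hm j v₀]) := isRep_mul Q hvs hrepw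
        show s * w ∈ commutator ↥(isometryGroup F ⇑Q)
        rw [mem_commutator_iff Q h2 hQ hcardι (s * w) _ hrep2]
        constructor
        · rw [List.length_append]
          exact heven.add ⟨1, rfl⟩
        · rw [List.map_append, List.prod_append]
          simp only [List.map_cons, List.map_nil, List.prod_cons, List.prod_nil, mul_one]
          rw [hbc, hbc, hu₀, hv₀, map_one, one_mul]
          have hc0 : (vs.map Q).prod ≠ 0 := by
            intro h0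
            apply hc
            rw [h0]
            exact ⟨0, by rw [mul_zero]⟩
          rw [← sgn_eq_one_iff, sgn_mul hc0 ((map_ne_zero j).mpr hε0),
            sgn_of_not_isSquare hc, sgn_of_not_isSquare hjε]
          decide
  -- assembling
  have hconj : ∀ s' : ↥(isometryGroup F ⇑Q), conjGO Q (inclO Q s') = conjO Q s' := by
    intro s'
    rw [← conjGO_comp_inclO]
    rfl
  have e1 : k * tF = ⟨scU d, scU_mem_sim d⟩ * inclO Q s := Subtype.ext hds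
  have h7 : conjGO Q ⟨scU d, scU_mem_sim d⟩ = 1 :=
    mem_ker_conjGO_of_scalar _ (d : F) rfl
  have e2 : conjGO Q k * conjGO Q tF = conjO Q s := by
    rw [← map_mul, e1, map_mul, h7, one_mul, hconj]
  have e3 : conjGO Q k = conjO Q (s * w) * (conjO Q w)⁻¹ * (conjGO Q tF)⁻¹ := by
    rw [map_mul, mul_inv_cancel_right, ← e2, mul_inv_cancel_right]
  rw [e3]
  have hwC : conjO Q w ∈ Subgroup.centralizer {fO σ hσQ} := by
    rw [← hconj]
    exact hfixC _ hwfix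
  have hI : conjO Q (s * w) ∈ Inn (POmega F ⇑Q) := by
    rw [inn_eq]
    exact ⟨_, hswΩ, rfl⟩
  exact Subgroup.mul_mem _ (Subgroup.mul_mem _ (Subgroup.mem_sup_right hI)
    (Subgroup.mem_sup_left (Subgroup.inv_mem _ hwC)))
    (Subgroup.mem_sup_left (Subgroup.inv_mem _ htFC))

end split15

section minus15
open Cfsg.Agent.Lib.Helper9.ASP Cfsg.Agent.Lib.Helper5.OAut Cfsg.Agent.Lib.Helper5.SpinorHyp
  Cfsg.Agent.Lib.Helper5.SpinorHyp2 Cfsg.Agent.Lib.Helper5.OrthPlane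
  Cfsg.Agent.Lib.Helper5.SpinorNorm Cfsg.Agent.Lib.Helper5.Dickson Cfsg.Agent.S0294
  Cfsg.Agent.Lib.Helper5.QuadSign Cfsg.Agent.Lib.Helper5.QuadTwo
open Cfsg.Agent.Lib.Helper9.APSL (exists_fixed_embedding)

universe u u₀
variable {F : Type u} [Field F] [Fintype F] {F₀ : Type u₀} [Field F₀] [Fintype F₀]
  (j : F₀ →+* F) {a₀ b₀ : F₀} {m : ℕ}

/-- class preservation is compatible with extension of scalars -/
theorem PMi_glmap (hm2 : 2 ≤ m)
    (hab₀ : ∀ z₁ z₂ : F₀, z₁ ^ 2 + a₀ * z₁ * z₂ + b₀ * z₂ ^ 2 = 0 → z₁ = 0 ∧ z₂ = 0)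
    (hab : ∀ z₁ z₂ : F, z₁ ^ 2 + j a₀ * z₁ * z₂ + j b₀ * z₂ ^ 2 = 0 → z₁ = 0 ∧ z₂ = 0)
    (k₀ : Matrix.GeneralLinearGroup ((Fin m ⊕ Fin m) ⊕ Fin 2) F₀)
    (hk₀ : k₀ ∈ Geo.quadSimilarityGroup (F := F₀) ⇑(genForm (binForm a₀ b₀) m)) :
    PMi a₀ b₀ m k₀ ↔ PMi (j a₀) (j b₀) m (Matrix.GeneralLinearGroup.map j k₀) := by
  have hbc := minus_hm j a₀ b₀ m
  have hmem := (glmap_mem_GO_iff j (genForm (binForm a₀ b₀) m) hbc (quad_xvec a₀ b₀ m) k₀).mp hk₀
  have hx : hm j (xvec (F := F₀) m) = xvec m := by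
    unfold xvec
    exact hm_single _ _
  by_cases h2 : (2 : F) = 0
  · have h2₀ : (2 : F₀) = 0 := by
      apply j.injective
      rw [map_ofNat, map_zero]
      exact h2
    have han₀ := anisotropic_of a₀ b₀ hab₀
    have hQ₀ := genForm_nondegenerate _ (binForm_nondegenerate a₀ b₀ han₀) m
    obtain ⟨d₀, s₀, hd₀⟩ := exists_decomp2 (ringChar_two_of h2₀) (quad_xvec a₀ b₀ m) k₀ hk₀
    obtain ⟨vs₀, hvs₀⟩ := exists_rep' _ hQ₀ (hex_minus m hm2) s₀
    rw [pscm_of_decomp hab₀ k₀ d₀ s₀ hd₀ vs₀ hvs₀]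
    have hne : ∀ v ∈ vs₀.map (hm j), genForm (binForm (j a₀) (j b₀)) m v ≠ 0 := by
      intro v hv
      obtain ⟨v₀, hv₀, rfl⟩ := List.mem_map.mp hv
      rw [hbc]
      exact (map_ne_zero j).mpr (hvs₀.1 v₀ hv₀)
    obtain ⟨s, hs⟩ : ∃ s : ↥(isometryGroup F ⇑(genForm (binForm (j a₀) (j b₀)) m)),
        s = ((vs₀.map (hm j)).map (reflE (genForm (binForm (j a₀) (j b₀)) m))).prod := ⟨_, rfl⟩
    have hrep : IsRep (genForm (binForm (j a₀) (j b₀)) m) s (vs₀.map (hm j)) := by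
      refine ⟨hne, ?_⟩
      rw [hs]
      exact coe_prod_reflE (genForm (binForm (j a₀) (j b₀)) m) _ hne
    have hsmat : ((s : Matrix.GeneralLinearGroup ((Fin m ⊕ Fin m) ⊕ Fin 2) F) :
        Matrix ((Fin m ⊕ Fin m) ⊕ Fin 2) ((Fin m ⊕ Fin m) ⊕ Fin 2) F) =
        ((s₀ : Matrix.GeneralLinearGroup ((Fin m ⊕ Fin m) ⊕ Fin 2) F₀) :
          Matrix ((Fin m ⊕ Fin m) ⊕ Fin 2) ((Fin m ⊕ Fin m) ⊕ Fin 2) F₀).map j := by
      rw [hrep.2, rprod_hm j (genForm (binForm a₀ b₀) m) hbc, ← hvs₀.2]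
    have hjd : j (d₀ : F₀) ≠ 0 := (map_ne_zero j).mpr d₀.ne_zero
    have hdec : Matrix.GeneralLinearGroup.map j k₀ = scU (Units.mk0 (j (d₀ : F₀)) hjd) *
        (s : Matrix.GeneralLinearGroup ((Fin m ⊕ Fin m) ⊕ Fin 2) F) := by
      apply Units.ext
      rw [glmapI_coe, hd₀, Units.val_mul, Units.val_mul, scU_coe, scU_coe, Matrix.smul_mul,
        Matrix.one_mul, Matrix.smul_mul, Matrix.one_mul, hsmat]
      ext x y
      rw [Matrix.map_apply, Matrix.smul_apply, Matrix.smul_apply, Matrix.map_apply, smul_eq_mul,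
        smul_eq_mul, map_mul]
      rfl
    rw [pscm_of_decomp hab _ _ s hdec _ hrep, List.length_map]
  · have h2₀ : (2 : F₀) ≠ 0 := by
      intro h
      apply h2
      have := congrArg j h
      rwa [map_ofNat, map_zero] at this
    rw [pscm_iff_Pdet h2₀ hab₀ (quad_xvec a₀ b₀ m) k₀ hk₀,
      pscm_iff_Pdet h2 hab (quad_xvec (j a₀) (j b₀) m) _ hmem, ← hx]
    exact (Pdet_glmap j _ hbc _ k₀).symm

theorem nonempty_equiv_inndiag_minus {X : Type*} [Group X] (hm : 3 ≤ m)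
    (hab₀ : ∀ z₁ z₂ : F₀, z₁ ^ 2 + a₀ * z₁ * z₂ + b₀ * z₂ ^ 2 = 0 → z₁ = 0 ∧ z₂ = 0)
    (q₀ : ((Fin m ⊕ Fin m) ⊕ Fin 2 → F₀) → F₀) (hq₀ : q₀ = ⇑(genForm (binForm a₀ b₀) m))
    (E : Nonempty (X ≃* ↥(Dcls (isCls_PMi' hm hab₀)))) :
    Nonempty (X ≃* ↥(inndiagGenP q₀ (PreservesSingularClassesMinus m a₀ b₀))) := by
  subst hq₀
  have e0 : inndiagGenP ⇑(genForm (binForm a₀ b₀) m) (PreservesSingularClassesMinus m a₀ b₀) =
      Dcls (isCls_PMi' hm hab₀) := inndiagGenP_eq_Dcls _ (isCls_PMi' hm hab₀)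
  rw [e0]
  exact E

/-- **centraliser and class of a standard field automorphism** (minus type) -/
theorem minus_field_cent_fixed (p f : ℕ) [Fact p.Prime] (hF : Fintype.card F = p ^ f)
    (hm3 : 3 ≤ m) {a b : F}
    (hab : ∀ z₁ z₂ : F, z₁ ^ 2 + a * z₁ * z₂ + b * z₂ ^ 2 = 0 → z₁ = 0 ∧ z₂ = 0)
    (σ : RingAut F) (hσ1 : σ ≠ RingEquiv.refl F) (hσa : σ a = a) (hσb : σ b = b) {r : ℕ}
    (hr : r.Prime) (hxr : (fO σ (minus_vm a b m σ hσa hσb)) ^ r = 1)
    (F₀ : Type u₀) [Field F₀] [Fintype F₀] (hF₀ : Fintype.card F₀ = p ^ (f / r)) :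
    Odd r ∧ r ∣ f ∧
      (∃ (a₀ b₀ : F₀)
        (hab₀ : ∀ z₁ z₂ : F₀, z₁ ^ 2 + a₀ * z₁ * z₂ + b₀ * z₂ ^ 2 = 0 → z₁ = 0 ∧ z₂ = 0),
        Nonempty (↥(Dcls (isCls_PMi' hm3 hab) ⊓
          Subgroup.centralizer {fO σ (minus_vm a b m σ hσa hσb)}) ≃*
            ↥(Dcls (isCls_PMi' hm3 hab₀)))) ∧
      Dcls (isCls_PMi' hm3 hab) ≤ Subgroup.centralizer {fO σ (minus_vm a b m σ hσa hσb)} ⊔
        Inn (POmega F ⇑(genForm (binForm a b) m)) := by
  haveI := charP_of_card' p f hF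
  have han := anisotropic_of a b hab
  have H := hyp_minus hm3 hab
  have hγ := gamma_minus_top p hm3 hab
  have hord : orderOf (σ : RingAut F) = r :=
    orderOf_of_fO p H hγ σ (minus_vm a b m σ hσa hσb) hσ1 hr hxr
  have hrodd : Odd r := by
    apply hr.odd_of_ne_two
    rintro rfl
    exact minus_sigma_ne_two a b hab σ hσa hσb hord
  obtain ⟨hdiv, j, hι⟩ := exists_fixed_embedding p f hF σ r hr.pos hord F₀ hF₀
  obtain ⟨a₀, rfl⟩ := (hι a).mp hσa
  obtain ⟨b₀, rfl⟩ := (hι b).mp hσb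
  have hab₀ : ∀ z₁ z₂ : F₀, z₁ ^ 2 + a₀ * z₁ * z₂ + b₀ * z₂ ^ 2 = 0 → z₁ = 0 ∧ z₂ = 0 := by
    intro z₁ z₂ h
    have h1 := hab (j z₁) (j z₂) (by
      rw [← map_pow, ← map_pow, ← map_mul, ← map_mul, ← map_mul, ← map_add, ← map_add, h,
        map_zero])
    exact ⟨(map_eq_zero j).mp h1.1, (map_eq_zero j).mp h1.2⟩
  have han₀ := anisotropic_of a₀ b₀ hab₀
  have hQ := genForm_nondegenerate _ (binForm_nondegenerate (j a₀) (j b₀) han) m
  have hQ₀ := genForm_nondegenerate _ (binForm_nondegenerate a₀ b₀ han₀) m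
  have hfam := genForm_hypFamily (binForm (j a₀) (j b₀)) (le_refl m)
  have hfam₀ := genForm_hypFamily (binForm a₀ b₀) (le_refl m)
  have h5 : 5 ≤ Fintype.card ((Fin m ⊕ Fin m) ⊕ Fin 2) := by rw [card_minus_index]; omega
  haveI : Nonempty ((Fin m ⊕ Fin m) ⊕ Fin 2) := ⟨Sum.inr 0⟩
  have hbc := minus_hm j a₀ b₀ m
  refine ⟨hrodd, hdiv, ⟨a₀, b₀, hab₀, ?_⟩, ?_⟩
  · exact exists_cent_fO_equiv_cls j (genForm (binForm a₀ b₀) m) hQ hfam hm3 h5
      (quad_xvec (j a₀) (j b₀) m) hQ₀ hfam₀ hm3 (quad_xvec a₀ b₀ m) hbc σ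
      (minus_vm (j a₀) (j b₀) m σ hσa hσb) r hr.pos hord hι (isCls_PMi' hm3 hab)
      (isCls_PMi' hm3 hab₀) (fun h₀ hh₀ => PMi_glmap j (by omega) hab₀ hab h₀ hh₀)
  · rintro _ ⟨k, hk, rfl⟩
    have hk' : PMi (j a₀) (j b₀) m
        (k : Matrix.GeneralLinearGroup ((Fin m ⊕ Fin m) ⊕ Fin 2) F) := hk
    by_cases h2 : (2 : F) = 0
    · apply Subgroup.mem_sup_right
      rw [← Dcls_PMi_eq_inn' h2 hm3 hab]
      exact ⟨k, hk, rfl⟩
    · have hx : hm j (xvec (F := F₀) m) = xvec m := by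
        unfold xvec
        exact hm_single _ _
      have hkP : Pdet (genForm (binForm (j a₀) (j b₀)) m) (hm j (xvec m)) (m + 1)
          (k : Matrix.GeneralLinearGroup ((Fin m ⊕ Fin m) ⊕ Fin 2) F) := by
        rw [hx]
        exact (pscm_iff_Pdet h2 hab (quad_xvec (j a₀) (j b₀) m) _ k.2).mp hk'
      have hsurj : ∀ ν₀ : F₀ˣ, ∃ g₀ : Matrix.GeneralLinearGroup ((Fin m ⊕ Fin m) ⊕ Fin 2) F₀,
          g₀ ∈ Geo.quadSimilarityGroup (F := F₀) ⇑(genForm (binForm a₀ b₀) m) ∧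
            Cfsg.Agent.Lib.Helper5.OAut.mult (genForm (binForm a₀ b₀) m) (xvec m) g₀ =
              (ν₀ : F₀) := by
        intro ν₀
        obtain ⟨g, hg⟩ := multHomO_surj_minus a₀ b₀ m han₀ ν₀
        refine ⟨g.1, g.2, ?_⟩
        rw [← hg, multHomO_coe]
      exact conjGO_mem_cent_sup_inn j (genForm (binForm a₀ b₀) m) h2 hQ hfam hm3 h5
        (card_minus_index m) hQ₀ (quad_xvec a₀ b₀ m) hbc σ
        (minus_vm (j a₀) (j b₀) m σ hσa hσb) r hr.pos hord hrodd hι hsurj k hkP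

variable {a b a' b' : F}

/-- **S2716, core form** -/
theorem minus_field_cent_core (p f : ℕ) [Fact p.Prime] (hF : Fintype.card F = p ^ f)
    (hm : 3 ≤ m)
    (hab : ∀ z₁ z₂ : F, z₁ ^ 2 + a * z₁ * z₂ + b * z₂ ^ 2 = 0 → z₁ = 0 ∧ z₂ = 0)
    (hab' : ∀ z₁ z₂ : F, z₁ ^ 2 + a' * z₁ * z₂ + b' * z₂ ^ 2 = 0 → z₁ = 0 ∧ z₂ = 0)
    (q q' : ((Fin m ⊕ Fin m) ⊕ Fin 2 → F) → F) (hq : q = ⇑(genForm (binForm a b) m))
    (hq' : q' = ⇑(genForm (binForm a' b') m))
    (x : MulAut (POmega F q)) (ψ : POmega F q ≃* POmega F q') (σ : F ≃+* F)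
    (hσ1 : σ ≠ RingEquiv.refl F) (hσa : σ a' = a') (hσb : σ b' = b')
    (hφ : IsFieldAutPOmegaOf q' σ ((ψ.symm.trans x).trans ψ)) {r : ℕ} (hr : r.Prime)
    (hxr : orderOf x = r)
    (F₀ : Type u₀) [Field F₀] [Fintype F₀] (hF₀ : Fintype.card F₀ = p ^ (f / r)) :
    Odd r ∧ r ∣ f ∧
      (∃ a₀ b₀ : F₀,
        (∀ z₁ z₂ : F₀, z₁ ^ 2 + a₀ * z₁ * z₂ + b₀ * z₂ ^ 2 = 0 → z₁ = 0 ∧ z₂ = 0) ∧
        Nonempty (↥(inndiagGenP q (PreservesSingularClassesMinus m a b) ⊓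
          Subgroup.centralizer {x}) ≃*
            ↥(inndiagGenP (Cfsg.quadFormMinus m F₀ a₀ b₀)
              (PreservesSingularClassesMinus m a₀ b₀)))) ∧
      Cfsg.splitClassCount (inndiagGenP q (PreservesSingularClassesMinus m a b))
        (Inn (POmega F q)) x = 1 := by
  subst hq
  subst hq'
  have e0 : inndiagGenP ⇑(genForm (binForm a b) m) (PreservesSingularClassesMinus m a b) =
      Dcls (isCls_PMi' hm hab) := inndiagGenP_eq_Dcls _ (isCls_PMi' hm hab)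
  rw [e0]
  have e1 : autCongr ψ x = fO σ (minus_vm a' b' m σ hσa hσb) :=
    eq_fO_of_stdField σ _ hφ
  have hxpow : (fO σ (minus_vm a' b' m σ hσa hσb)) ^ r = 1 := by
    rw [← e1, ← map_pow, ← hxr, pow_orderOf_eq_one, map_one]
  obtain ⟨hrodd, hdiv, ⟨a₀, b₀, hab₀, ⟨E⟩⟩, hle⟩ :=
    minus_field_cent_fixed p f hF hm hab' σ hσ1 hσa hσb hr hxpow F₀ hF₀
  have e2 : (Dcls (isCls_PMi' hm hab)).map
      (autCongr ψ : MulAut (POmega F ⇑(genForm (binForm a b) m)) →*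
        MulAut (POmega F ⇑(genForm (binForm a' b') m))) = Dcls (isCls_PMi' hm hab') :=
    map_autCongr_Dcls hm hab hab' ψ
  refine ⟨hrodd, hdiv, ⟨a₀, b₀, hab₀, ?_⟩, ?_⟩
  · apply nonempty_equiv_inndiag_minus hm hab₀ _ (genForm_coe_minus a₀ b₀ m).symm
    exact ⟨(centMapEquiv (autCongr ψ) (Dcls (isCls_PMi' hm hab)) x).trans
      ((MulEquiv.subgroupCongr (by rw [e2, e1])).trans E)⟩
  · apply splitClassCount_eq_one
    apply le_cent_sup_of_map (autCongr ψ)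
    rw [e2, e1, map_autCongr_inn ψ]
    exact hle

end minus15

end Cfsg.Agent.Lib.Helper9.AOF
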