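import Mathlib

set_option autoImplicit false

universe u

namespace Cfsg.Agent.Lib.Helper9.AltFormPar

/-- Auxiliary: the radical of an alternating biadditive `ZMod 2`-valued form on a finite group
has index a power of 4 (strong induction on the order). -/
theorem index_radical_aux : ∀ (n : ℕ) (X : Type u) [Group X] [Finite X] (β : X → X → ZMod 2),
    (∀ x y w, β (x * y) w = β x w + β y w) → (∀ w x y, β w (x * y) = β w x + β w y) →
    (∀ x, β x x = 0) → Nat.card X = n →
    ∃ m : ℕ, ∃ R : Subgroup X, (∀ x, x ∈ R ↔ ∀ y, β x y = 0) ∧ R.index = 4 ^ m := by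
  intro n
  induction n using Nat.strong_induction_on with
  | _ n ih =>
  intro X _ _ β hl hr ha hn
  have h2 : ∀ a : ZMod 2, a + a = 0 := by decide
  have h01 : ∀ a : ZMod 2, a = 0 ∨ a = 1 := by decide
  have hone_l : ∀ w, β 1 w = 0 := by
    intro w
    have := hl 1 1 w
    rw [one_mul] at this
    have h3 := h2 (β 1 w)
    rw [← this] at h3
    exact h3
  have hone_r : ∀ w, β w 1 = 0 := by
    intro w
    have := hr w 1 1
    rw [one_mul] at this
    have h3 := h2 (β w 1)
    rw [← this] at h3
    exact h3
  have hsymm : ∀ x y, β x y = β y x := by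
    intro x y
    have h := ha (x * y)
    rw [hl, hr, hr, ha, ha, zero_add, add_zero] at h
    -- β x y + β y x = 0
    have h3 : β x y + β y x + β y x = β y x := by rw [h, zero_add]
    rw [add_assoc, h2, add_zero] at h3
    exact h3
  by_cases hall : ∀ x y, β x y = 0
  · refine ⟨0, ⊤, ?_, by simp⟩
    intro x
    simp [hall]
  · push Not at hall
    obtain ⟨x, y, hxy⟩ := hall
    have hxy1 : β x y = 1 := (h01 _).resolve_left hxy
    have hyx1 : β y x = 1 := by rw [hsymm]; exact hxy1
    -- the hom to (ZMod 2)^2
    let φ : X →* Multiplicative (ZMod 2 × ZMod 2) :=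
      { toFun := fun w => Multiplicative.ofAdd (β w x, β w y)
        map_one' := by
          show Multiplicative.ofAdd (β 1 x, β 1 y) = 1
          rw [hone_l, hone_l]; rfl
        map_mul' := by
          intro a b
          show Multiplicative.ofAdd (β (a * b) x, β (a * b) y) =
            Multiplicative.ofAdd (β a x, β a y) * Multiplicative.ofAdd (β b x, β b y)
          rw [hl, hl]; rfl }
    have hφ : ∀ w, φ w = Multiplicative.ofAdd (β w x, β w y) := fun w => rfl
    have hsurj : Function.Surjective φ := by
      intro v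
      obtain ⟨a, b⟩ := v
      rcases h01 a with rfl | rfl <;> rcases h01 b with rfl | rfl
      · exact ⟨1, by rw [hφ, hone_l, hone_l]; rfl⟩
      · exact ⟨x, by rw [hφ, ha, hxy1]; rfl⟩
      · exact ⟨y, by rw [hφ, hyx1, ha]; rfl⟩
      · refine ⟨x * y, ?_⟩
        rw [hφ, hl, hl, ha, ha, hxy1, hyx1]; rfl
    have hidx : φ.ker.index = 4 := by
      rw [Subgroup.index_ker, MonoidHom.range_eq_top.mpr hsurj, Subgroup.card_top]
      rw [Nat.card_eq_fintype_card]
      rfl
    have hker : ∀ w, w ∈ φ.ker ↔ (β w x = 0 ∧ β w y = 0) := by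
      intro w
      rw [MonoidHom.mem_ker, hφ]
      constructor
      · intro h
        have h' : (β w x, β w y) = ((0 : ZMod 2), (0 : ZMod 2)) := h
        exact ⟨congrArg Prod.fst h', congrArg Prod.snd h'⟩
      · rintro ⟨h1, h2'⟩
        rw [h1, h2']; rfl
    -- the induction hypothesis on the kernel
    have hcardlt : Nat.card ↥φ.ker < n := by
      have h := Subgroup.card_mul_index φ.ker
      rw [hidx, hn] at h
      have hpos : 0 < Nat.card ↥φ.ker := Nat.card_pos
      omega
    obtain ⟨m, R₁, hR₁, hR₁i⟩ := ih (Nat.card ↥φ.ker) hcardlt ↥φ.ker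
      (fun a b => β a.1 b.1)
      (fun a b w => by simpa using hl a.1 b.1 w.1)
      (fun w a b => by simpa using hr w.1 a.1 b.1)
      (fun a => ha a.1) rfl
    refine ⟨m + 1, R₁.map φ.ker.subtype, ?_, ?_⟩
    · intro g
      constructor
      · rintro ⟨r, hr₁, rfl⟩ v
        have hrk := (hker r.1).mp r.2
        -- adjust v into the kernel
        have hrR := (hR₁ r).mp hr₁
        have key : ∀ w : X, w ∈ φ.ker → β r.1 w = 0 := fun w hw => hrR ⟨w, hw⟩
        have hrx : β r.1 x = 0 := hrk.1
        have hry : β r.1 y = 0 := hrk.2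
        show β r.1 v = 0
        rcases h01 (β v x) with hvx | hvx <;> rcases h01 (β v y) with hvy | hvy
        · exact key v ((hker v).mpr ⟨hvx, hvy⟩)
        · -- multiply by x
          have hw : v * x ∈ φ.ker := by
            rw [hker, hl, hl, ha, hxy1, hvx, hvy]
            exact ⟨by decide, by decide⟩
          have := key _ hw
          rw [hr, hrx, add_zero] at this
          exact this
        · have hw : v * y ∈ φ.ker := by
            rw [hker, hl, hl, ha, hyx1, hvx, hvy]
            exact ⟨by decide, by decide⟩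
          have := key _ hw
          rw [hr, hry, add_zero] at this
          exact this
        · have hw : v * (x * y) ∈ φ.ker := by
            rw [hker, hl, hl, hl, hl, ha, ha, hxy1, hyx1, hvx, hvy]
            exact ⟨by decide, by decide⟩
          have := key _ hw
          rw [hr, hr, hrx, hry, add_zero, add_zero] at this
          exact this
      · intro hg
        have hgk : g ∈ φ.ker := (hker g).mpr ⟨hg x, hg y⟩
        refine ⟨⟨g, hgk⟩, ?_, rfl⟩
        exact (hR₁ ⟨g, hgk⟩).mpr (fun v => hg v.1)
    · rw [Subgroup.index_map_subtype, hR₁i, hidx, pow_succ]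

/-- **PAR (abstract form).** The radical of an alternating biadditive `ZMod 2`-valued form on a
finite group is a subgroup of index `4 ^ m`. -/
theorem index_radical_eq_four_pow {X : Type u} [Group X] [Finite X] (β : X → X → ZMod 2)
    (hl : ∀ x y w, β (x * y) w = β x w + β y w) (hr : ∀ w x y, β w (x * y) = β w x + β w y)
    (ha : ∀ x, β x x = 0) :
    ∃ m : ℕ, ∃ R : Subgroup X, (∀ x, x ∈ R ↔ ∀ y, β x y = 0) ∧ R.index = 4 ^ m :=
  index_radical_aux (Nat.card X) X β hl hr ha rfl

end Cfsg.Agent.Lib.Helper9.AltFormPar
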