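import Mathlib
import Cfsg.Agent.Lib.Helper9.AltFormPar

set_option autoImplicit false
open scoped commutatorElement

namespace Cfsg.Agent.Lib.Helper9.NG5U11

open Cfsg.Agent.Lib.Helper9.AltFormPar

/-- U11 (parity). -/
theorem par {G : Type*} [Group G] [Finite G] (T T₂ R : Subgroup G) (hT : T ≤ T₂)
    (hc : T₂ ≤ Subgroup.center G)
    (h2 : ∀ a ∈ T₂, ∀ b ∈ T₂, a ∉ T → b ∉ T → a * b ∈ T)
    (hcomm : ∀ x y : G, ⁅x, y⁆ ∈ T₂) (hR : ∀ x : G, x ∈ R ↔ ∀ g : G, ⁅x, g⁆ ∈ T) :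
    ∃ m : ℕ, R.index = 4 ^ m := by
  classical
  let β : G → G → ZMod 2 := fun x y => if ⁅x, y⁆ ∈ T then 0 else 1
  have hβ0 : ∀ x y, β x y = 0 ↔ ⁅x, y⁆ ∈ T := by
    intro x y
    show (if ⁅x, y⁆ ∈ T then (0 : ZMod 2) else 1) = 0 ↔ _
    split_ifs with h
    · simp [h]
    · simp [h]
  have hχ : ∀ a ∈ T₂, ∀ b ∈ T₂,
      (if a * b ∈ T then (0 : ZMod 2) else 1) =
        (if a ∈ T then (0 : ZMod 2) else 1) + (if b ∈ T then (0 : ZMod 2) else 1) := by
    intro a ha b hb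
    by_cases h1 : a ∈ T <;> by_cases h2' : b ∈ T
    · have : a * b ∈ T := T.mul_mem h1 h2'
      simp [h1, h2', this]
    · have : a * b ∉ T := fun h3 => h2' (by
        have := T.mul_mem (T.inv_mem h1) h3
        simpa using this)
      simp [h1, h2', this]
    · have : a * b ∉ T := fun h3 => h1 (by
        have := T.mul_mem h3 (T.inv_mem h2')
        simpa using this)
      simp [h1, h2', this]
    · have : a * b ∈ T := h2 a ha b hb h1 h2'
      simp only [h1, h2', this, if_true, if_false]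
      decide
  have hcen : ∀ c ∈ T₂, ∀ g : G, g * c = c * g := fun c hc' g =>
    (Subgroup.mem_center_iff.mp (hc hc') g)
  have hl : ∀ x y w, β (x * y) w = β x w + β y w := by
    intro x y w
    have e : ⁅x * y, w⁆ = ⁅y, w⁆ * ⁅x, w⁆ := by
      have h1 := hcen _ (hcomm y w) x
      rw [commutatorElement_def, commutatorElement_def, commutatorElement_def] at *
      calc x * y * w * (x * y)⁻¹ * w⁻¹ = (x * (y * w * y⁻¹ * w⁻¹)) * (w * x⁻¹ * w⁻¹) := by group
        _ = ((y * w * y⁻¹ * w⁻¹) * x) * (w * x⁻¹ * w⁻¹) := by rw [h1]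
        _ = (y * w * y⁻¹ * w⁻¹) * (x * w * x⁻¹ * w⁻¹) := by group
    show (if ⁅x * y, w⁆ ∈ T then (0 : ZMod 2) else 1) = _
    rw [e, hχ _ (hcomm y w) _ (hcomm x w), add_comm]
  have hsymm : ∀ x y, β x y = β y x := by
    intro x y
    have e : ⁅y, x⁆ = ⁅x, y⁆⁻¹ := (commutatorElement_inv x y).symm
    show (if ⁅x, y⁆ ∈ T then (0 : ZMod 2) else 1) = (if ⁅y, x⁆ ∈ T then (0 : ZMod 2) else 1)
    rw [e]
    simp only [inv_mem_iff]
  have hr : ∀ w x y, β w (x * y) = β w x + β w y := by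
    intro w x y
    rw [hsymm w (x * y), hl, hsymm x w, hsymm y w]
  have ha : ∀ x, β x x = 0 := by
    intro x
    rw [hβ0, commutatorElement_self]
    exact T.one_mem
  obtain ⟨m, R', hR', hRi⟩ := index_radical_eq_four_pow β hl hr ha
  refine ⟨m, ?_⟩
  have : R = R' := by
    ext x
    rw [hR, hR']
    constructor
    · intro h y; exact (hβ0 x y).mpr (h y)
    · intro h y; exact (hβ0 x y).mp (h y)
  rw [this]; exact hRi

end Cfsg.Agent.Lib.Helper9.NG5U11
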