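import Cfsg.Agent.Lib.Helper9.NG5U17a
import Cfsg.Agent.Lib.Helper9.NG5U11

set_option autoImplicit false
open scoped commutatorElement

namespace Cfsg.Agent.Lib.Helper9.NG5U17
open Cfsg.Agent.Lib.Helper8.NG5 Cfsg.Agent.Lib.Helper1 Cfsg.Agent.Lib.Helper9.NG5U17a

variable {X : Type*} [Group X] [Finite X] {A : Subgroup (MulAut X)}

/-- U17. -/
theorem b1b_even (h : Hyp X A) (b : B1 X A) (hc : Nat.card (Subgroup.center X) = 4) :
    ∃ m : ℕ, Nat.card X = 4 * 4 ^ m := by
  classical
  have hCC := commCentral_of_B1 b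
  have hNI := no_noncentral_invol h b hc
  -- pick z
  haveI : Nontrivial ↥(Subgroup.center X) := by
    rw [← Finite.one_lt_card_iff_nontrivial, hc]; norm_num
  obtain ⟨⟨z, hzZ⟩, hz1'⟩ := exists_ne (1 : ↥(Subgroup.center X))
  have hz1 : z ≠ 1 := fun h' => hz1' (Subtype.ext h')
  have hz2 : z ^ 2 = 1 := b.exp z hzZ
  have hzz : z * z = 1 := by rw [← sq]; exact hz2
  have hzord : orderOf z = 2 := orderOf_eq_prime hz2 hz1
  have hTZ : Subgroup.zpowers z ≤ Subgroup.center X := by
    rw [Subgroup.zpowers_le]; exact hzZ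
  have hTcard : Nat.card (Subgroup.zpowers z) = 2 := by rw [Nat.card_zpowers, hzord]
  have hT2 : ∀ c ∈ Subgroup.zpowers z, c = 1 ∨ c = z := by
    intro c hc'
    obtain ⟨n, rfl⟩ := Subgroup.mem_zpowers_iff.mp hc'
    rcases Int.emod_two_eq_zero_or_one n with h0 | h0
    · left; rw [← zpow_mod_orderOf, hzord]; simp [h0]
    · right; rw [← zpow_mod_orderOf, hzord]; simp [h0]
  have hidx : ((Subgroup.zpowers z).subgroupOf (Subgroup.center X)).index = 2 := by
    have h1 := Subgroup.card_mul_index ((Subgroup.zpowers z).subgroupOf (Subgroup.center X))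
    rw [Nat.card_congr (Subgroup.subgroupOfEquivOfLe hTZ).toEquiv, hTcard, hc] at h1
    omega
  have h2 : ∀ a ∈ Subgroup.center X, ∀ b' ∈ Subgroup.center X, a ∉ Subgroup.zpowers z →
      b' ∉ Subgroup.zpowers z → a * b' ∈ Subgroup.zpowers z := by
    intro a ha b' hb' haT hbT
    have := Subgroup.mul_mem_iff_of_index_two hidx
      (a := (⟨a, ha⟩ : ↥(Subgroup.center X))) (b := ⟨b', hb'⟩)
    simp only [Subgroup.mem_subgroupOf, Subgroup.coe_mul] at this
    exact this.mpr (by simp [haT, hbT])
  -- A fixes T pointwise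
  have hfixZ : ∀ c ∈ Subgroup.center X, ∀ φ ∈ A, φ c = c := fun c hc' φ hφ =>
    (b.fix c).mp hc' φ hφ
  -- the subgroup R
  let R : Subgroup X :=
    { carrier := {x | ∀ g : X, ⁅x, g⁆ ∈ Subgroup.zpowers z}
      one_mem' := fun g => by
        rw [CommCentral.comm_one_left]; exact Subgroup.one_mem _
      mul_mem' := fun {x y} hx hy g => by
        rw [hCC.comm_mul_left]; exact Subgroup.mul_mem _ (hx g) (hy g)
      inv_mem' := fun {x} hx g => by
        rw [comm_inv_left hCC]; exact Subgroup.inv_mem _ (hx g) }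
  have hRmem : ∀ x, x ∈ R ↔ ∀ g, ⁅x, g⁆ ∈ Subgroup.zpowers z := fun x => Iff.rfl
  obtain ⟨m, hm⟩ := Cfsg.Agent.Lib.Helper9.NG5U11.par (Subgroup.zpowers z) (Subgroup.center X) R
    hTZ le_rfl h2 b.comm hRmem
  -- the subgroup K
  let K : Subgroup X :=
    { carrier := {x | x ∈ R ∧ x ^ 2 ∈ Subgroup.zpowers z}
      one_mem' := ⟨R.one_mem, by rw [one_pow]; exact Subgroup.one_mem _⟩
      mul_mem' := by
        rintro x y ⟨hx, hx2⟩ ⟨hy, hy2⟩
        refine ⟨R.mul_mem hx hy, ?_⟩
        rw [mul_sq hCC]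
        exact Subgroup.mul_mem _ (Subgroup.mul_mem _ hx2 hy2) (hy x)
      inv_mem' := by
        rintro x ⟨hx, hx2⟩
        refine ⟨R.inv_mem hx, ?_⟩
        rw [inv_pow]; exact Subgroup.inv_mem _ hx2 }
  have hKmem : ∀ x, x ∈ K ↔ (x ∈ R ∧ x ^ 2 ∈ Subgroup.zpowers z) := fun x => Iff.rfl
  have hKR : K ≤ R := fun x hx => hx.1
  have hZK : Subgroup.center X ≤ K := by
    intro c hc'
    refine ⟨?_, ?_⟩
    · intro g
      have : ⁅c, g⁆ = 1 := by
        rw [commutatorElement_eq_one_iff_mul_comm]
        exact (Subgroup.mem_center_iff.mp hc' g).symm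
      rw [this]; exact Subgroup.one_mem _
    · rw [b.exp c hc']; exact Subgroup.one_mem _
  -- A-invariance
  have hRinv : ∀ φ ∈ A, ∀ x ∈ R, φ x ∈ R := by
    intro φ hφ x hx g
    have e : ⁅φ x, g⁆ = φ ⁅x, φ.symm g⁆ := by
      rw [map_commutatorElement, MulEquiv.apply_symm_apply]
    rw [e, hfixZ _ (hTZ (hx _)) φ hφ]
    exact hx _
  have hsqfix : ∀ φ ∈ A, ∀ x : X, (φ x) ^ 2 = x ^ 2 := by
    intro φ hφ x
    rw [← map_pow, hfixZ _ (b.sq x) φ hφ]
  have hKinv : ∀ φ ∈ A, ∀ x ∈ K, φ x ∈ K := by
    intro φ hφ x hx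
    exact ⟨hRinv φ hφ x hx.1, by rw [hsqfix φ hφ]; exact hx.2⟩
  -- (iii) R ≤ K
  have hRK : R ≤ K := by
    intro x hxR
    have hfix : ∀ φ ∈ A, x⁻¹ * φ x ∈ K := by
      intro φ hφ
      refine ⟨R.mul_mem (R.inv_mem hxR) (hRinv φ hφ x hxR), ?_⟩
      rw [mul_sq hCC, inv_pow, hsqfix φ hφ, inv_mul_cancel, one_mul]
      exact hRinv φ hφ x hxR _
    have hL : commutator X ≤ K := by rw [b.special.2.2]; exact hZK
    exact Cfsg.Agent.Lib.Helper8.NG5Basic.no_trivial_factor h K hL x (hZK (b.sq x)) hfix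
  have hRKeq : R = K := le_antisymm hRK hKR
  -- squares of noncentral elements of K
  have hKsq : ∀ y ∈ K, y ∉ Subgroup.center X → y ^ 2 = z := by
    intro y hy hyZ
    rcases hT2 _ hy.2 with h1 | h1
    · exact absurd (hNI y h1) hyZ
    · exact h1
  -- (i) card K ≤ 16
  have hK16 : Nat.card K ≤ 16 := by
    by_cases hKZ : K ≤ Subgroup.center X
    · calc Nat.card K ≤ Nat.card (Subgroup.center X) := Subgroup.card_le_of_le hKZ
        _ = 4 := hc
        _ ≤ 16 := by norm_num
    · obtain ⟨x, hxK, hxZ⟩ := SetLike.not_le_iff_exists.mp hKZ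
      have hx2 := hKsq x hxK hxZ
      -- the hom y ↦ ⁅y, x⁆
      let ψ : ↥K →* X :=
        { toFun := fun y => ⁅(y : X), x⁆
          map_one' := CommCentral.comm_one_left x
          map_mul' := fun a b' => hCC.comm_mul_left a b' x }
      have hψ : ∀ y : ↥K, ψ y = ⁅(y : X), x⁆ := fun y => rfl
      have hrange : ψ.range ≤ Subgroup.zpowers z := by
        rintro _ ⟨y, rfl⟩
        exact y.2.1 x
      have hker : ψ.ker = (K ⊓ Subgroup.centralizer {x}).subgroupOf K := by
        ext y
        rw [MonoidHom.mem_ker, Subgroup.mem_subgroupOf, Subgroup.mem_inf, hψ,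
          commutatorElement_eq_one_iff_mul_comm, Subgroup.mem_centralizer_iff]
        constructor
        · intro h'
          refine ⟨y.2, ?_⟩
          intro g hg
          rw [Set.mem_singleton_iff] at hg
          subst hg
          exact h'.symm
        · rintro ⟨_, h'⟩
          exact (h' x (Set.mem_singleton x)).symm
      have hcardK : Nat.card ↥ψ.ker * Nat.card ↥ψ.range = Nat.card K := by
        rw [← Subgroup.index_ker ψ]
        exact Subgroup.card_mul_index ψ.ker
      have hr2 : Nat.card ↥ψ.range ≤ 2 := by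
        rw [← hTcard]; exact Subgroup.card_le_of_le hrange
      have hkc : Nat.card ↥ψ.ker = Nat.card ↥(K ⊓ Subgroup.centralizer {x}) := by
        rw [hker]
        exact Nat.card_congr (Subgroup.subgroupOfEquivOfLe inf_le_left).toEquiv
      -- card C ≤ 8
      have hxy : ∀ y ∈ K ⊓ Subgroup.centralizer {x}, y ∉ Subgroup.center X →
          x * y ∈ Subgroup.center X := by
        intro y hy hyZ
        rw [Subgroup.mem_inf, Subgroup.mem_centralizer_iff] at hy
        have hy2 := hKsq y hy.1 hyZ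
        apply hNI
        have hc1 : ⁅y, x⁆ = 1 := by
          rw [commutatorElement_eq_one_iff_mul_comm]
          exact (hy.2 x (Set.mem_singleton x)).symm
        rw [mul_sq hCC, hx2, hy2, hc1, mul_one, hzz]
      let f : ↥(K ⊓ Subgroup.centralizer {x}) → ↥(Subgroup.center X) × Bool := fun y =>
        if hy : (y : X) ∈ Subgroup.center X then (⟨y, hy⟩, false)
        else (⟨x * y, hxy y y.2 hy⟩, true)
      have hf : Function.Injective f := by
        intro y y' hyy
        by_cases hy : (y : X) ∈ Subgroup.center X <;>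
          by_cases hy' : (y' : X) ∈ Subgroup.center X
        · simp only [f, hy, hy', dite_true] at hyy
          apply Subtype.ext
          exact congrArg (fun p : ↥(Subgroup.center X) × Bool => ((p.1 : ↥(Subgroup.center X)) : X)) hyy
        · simp only [f, hy, hy', dite_true, dite_false] at hyy
          have := congrArg Prod.snd hyy
          simp at this
        · simp only [f, hy, hy', dite_true, dite_false] at hyy
          have := congrArg Prod.snd hyy
          simp at this
        · simp only [f, hy, hy', dite_false] at hyy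
          apply Subtype.ext
          have := congrArg (fun p : ↥(Subgroup.center X) × Bool => ((p.1 : ↥(Subgroup.center X)) : X)) hyy
          exact mul_left_cancel this
      have hC8 : Nat.card ↥(K ⊓ Subgroup.centralizer {x}) ≤ 8 := by
        have := Nat.card_le_card_of_injective f hf
        rw [Nat.card_prod, hc, Nat.card_eq_fintype_card (α := Bool), Fintype.card_bool] at this
        exact this
      calc Nat.card K = Nat.card ↥ψ.ker * Nat.card ↥ψ.range := hcardK.symm
        _ ≤ 8 * 2 := by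
            rw [hkc]
            exact Nat.mul_le_mul hC8 hr2
        _ = 16 := by norm_num
  -- (ii) card K ≠ 8
  have hK8 : Nat.card K ≠ 8 := by
    intro h8
    have hKZ : ¬ K ≤ Subgroup.center X := by
      intro hle
      have := Subgroup.card_le_of_le hle
      rw [h8, hc] at this
      omega
    obtain ⟨x, hxK, hxZ⟩ := SetLike.not_le_iff_exists.mp hKZ
    have hidxK : ((Subgroup.center X).subgroupOf K).index = 2 := by
      have h1 := Subgroup.card_mul_index ((Subgroup.center X).subgroupOf K)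
      rw [Nat.card_congr (Subgroup.subgroupOfEquivOfLe hZK).toEquiv, hc, h8] at h1
      omega
    apply hxZ
    apply b.fpf
    intro φ hφ
    have hφK := hKinv φ hφ x hxK
    have hφZ : φ x ∉ Subgroup.center X := fun h' => hxZ (mem_center_of_apply φ x h')
    have := Subgroup.mul_mem_iff_of_index_two hidxK
      (a := (⟨x⁻¹, K.inv_mem hxK⟩ : ↥K)) (b := ⟨φ x, hφK⟩)
    simp only [Subgroup.mem_subgroupOf, Subgroup.coe_mul] at this
    exact this.mpr (by simp [hxZ, hφZ])
  -- conclusion
  obtain ⟨k, hk⟩ := (h.pg.to_subgroup K).exists_card_eq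
  have hK4 : 4 ≤ Nat.card K := by
    rw [← hc]; exact Subgroup.card_le_of_le hZK
  have hcardX : Nat.card R * R.index = Nat.card X := Subgroup.card_mul_index R
  rw [hm, hRKeq] at hcardX
  rw [hk] at hK16 hK8 hK4 hcardX
  have hk5 : k < 5 := by
    by_contra h5
    have : 2 ^ 5 ≤ 2 ^ k := Nat.pow_le_pow_right (by norm_num) (by omega)
    omega
  have hk2 : 2 ≤ k := by
    by_contra h2'
    have : k = 0 ∨ k = 1 := by omega
    rcases this with rfl | rfl <;> norm_num at hK4
  have hk24 : k = 2 ∨ k = 4 := by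
    have : k = 2 ∨ k = 3 ∨ k = 4 := by omega
    rcases this with h' | h' | h'
    · exact Or.inl h'
    · exfalso; rw [h'] at hK8; norm_num at hK8
    · exact Or.inr h'
  rcases hk24 with rfl | rfl
  · exact ⟨m, by rw [← hcardX]; norm_num⟩
  · refine ⟨m + 1, ?_⟩
    rw [← hcardX, pow_succ]; norm_num; ring

end Cfsg.Agent.Lib.Helper9.NG5U17
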