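import Mathlib
import Cfsg.Prelude
import Cfsg.Agent.Lib.Helper5.NsPt.UpperPlus
import Cfsg.Agent.Lib.Helper5.OUnip.OmegaOdd

set_option autoImplicit false
set_option linter.unusedSectionVars false
set_option linter.unusedVariables false
set_option linter.style.longLine false
set_option linter.unusedSimpArgs false
open Cfsg

set_option maxHeartbeats 1600000
namespace Cfsg.Agent.Lib.Helper9.BG

open Module

universe u v

section abstract
variable {F : Type u} [Field F] {V : Type v} [AddCommGroup V] [Module F V] [FiniteDimensional F V]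

/-- a subspace of every smaller dimension -/
theorem exists_le_finrank_eq (U₁ : Submodule F V) (h : ℕ) (hh : h ≤ finrank F U₁) :
    ∃ U : Submodule F V, U ≤ U₁ ∧ finrank F U = h := by
  classical
  obtain ⟨b⟩ : Nonempty (Basis (Fin (finrank F U₁)) F U₁) := ⟨Module.finBasis F U₁⟩
  have hli : LinearIndependent F (fun i : Fin h => ((b (Fin.castLE hh i) : U₁) : V)) := by
    have h1 : LinearIndependent F (fun i : Fin h => b (Fin.castLE hh i)) :=
      b.linearIndependent.comp _ (Fin.castLE_injective hh)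
    exact h1.map' U₁.subtype (Submodule.ker_subtype U₁)
  refine ⟨Submodule.span F (Set.range fun i : Fin h => ((b (Fin.castLE hh i) : U₁) : V)), ?_, ?_⟩
  · rw [Submodule.span_le]
    rintro _ ⟨i, rfl⟩
    exact (b (Fin.castLE hh i)).2
  · rw [finrank_span_eq_card hli, Fintype.card_fin]

/-- **the key linear algebra**: `N² = 0`, the range of `N` lies in a totally singular subspace `T₀`
and the kernel of `N` in `T₀ + ⟨f⟩`: every `N`-invariant subspace of dimension `2h` contains a
totally singular subspace of dimension `h` -/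
theorem exists_ts_half (Q : V → F) (N : V →ₗ[F] V) (hN : ∀ v, N (N v) = 0) (T₀ : Submodule F V)
    (hT₀ : ∀ v ∈ T₀, Q v = 0) (hR : ∀ v, N v ∈ T₀) (f : V)
    (hker : ∀ v, N v = 0 → v ∈ T₀ ⊔ Submodule.span F {f})
    (W : Submodule F V) (hW : ∀ w ∈ W, N w ∈ W) (h : ℕ) (hm : finrank F W = 2 * h) :
    ∃ U : Submodule F V, U ≤ W ∧ (∀ u ∈ U, Q u = 0) ∧ finrank F U = h := by
  classical
  -- it suffices to find a totally singular subspace of dimension at least `h`
  suffices key : ∃ U₁ : Submodule F V, U₁ ≤ W ∧ (∀ u ∈ U₁, Q u = 0) ∧ h ≤ finrank F U₁ by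
    obtain ⟨U₁, h1, h2, h3⟩ := key
    obtain ⟨U, hU, hUh⟩ := exists_le_finrank_eq U₁ h h3
    exact ⟨U, hU.trans h1, fun u hu => h2 u (hU hu), hUh⟩
  obtain ⟨NW, hNW⟩ : ∃ NW : W →ₗ[F] W, ∀ w : W, ((NW w : W) : V) = N w :=
    ⟨N.restrict hW, fun w => rfl⟩
  have hrn := LinearMap.finrank_range_add_finrank_ker NW
  rw [hm] at hrn
  have hle : LinearMap.range NW ≤ LinearMap.ker NW := by
    rintro _ ⟨w, rfl⟩
    rw [LinearMap.mem_ker]
    apply Subtype.ext
    rw [hNW, hNW, hN]
    rfl
  have hle' := Submodule.finrank_mono hle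
  -- the range
  have hRts : ∀ u ∈ (LinearMap.range NW).map W.subtype, Q u = 0 := by
    rintro _ ⟨_, ⟨w, rfl⟩, rfl⟩
    apply hT₀
    rw [Submodule.subtype_apply, hNW]
    exact hR _
  have hRle : (LinearMap.range NW).map W.subtype ≤ W := by
    rintro _ ⟨y, -, rfl⟩
    exact y.2
  have hRfin : finrank F ((LinearMap.range NW).map W.subtype) = finrank F (LinearMap.range NW) :=
    (Submodule.equivSubtypeMap W (LinearMap.range NW)).symm.finrank_eq
  by_cases hc : finrank F (LinearMap.ker NW) = h
  · exact ⟨_, hRle, hRts, by rw [hRfin]; omega⟩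
  · -- the kernel has dimension at least `h + 1`
    have hc' : h + 1 ≤ finrank F (LinearMap.ker NW) := by omega
    obtain ⟨C, hC⟩ : ∃ C : Submodule F V, C = (LinearMap.ker NW).map W.subtype := ⟨_, rfl⟩
    have hCfin : finrank F C = finrank F (LinearMap.ker NW) := by
      rw [hC]
      exact (Submodule.equivSubtypeMap W (LinearMap.ker NW)).symm.finrank_eq
    have hCle : C ≤ W := by
      rw [hC]
      rintro _ ⟨y, -, rfl⟩
      exact y.2
    have hCker : C ≤ T₀ ⊔ Submodule.span F {f} := by
      rw [hC]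
      rintro _ ⟨y, hy, rfl⟩
      apply hker
      rw [Submodule.subtype_apply, ← hNW, LinearMap.mem_ker.1 hy]
      rfl
    refine ⟨C ⊓ T₀, inf_le_left.trans hCle, fun u hu => hT₀ u hu.2, ?_⟩
    have h1 := Submodule.finrank_sup_add_finrank_inf_eq C T₀
    have h2 : finrank F (C ⊔ T₀ : Submodule F V) ≤ finrank F T₀ + 1 := by
      have h3 : C ⊔ T₀ ≤ T₀ ⊔ Submodule.span F {f} := sup_le hCker le_sup_left
      have h4 := Submodule.finrank_mono h3
      have h5 := Submodule.finrank_add_le_finrank_add_finrank T₀ (Submodule.span F {f})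
      have h6 : finrank F (Submodule.span F {f}) ≤ 1 := by
        have := finrank_span_le_card (R := F) ({f} : Set V)
        simpa using this
      omega
    omega

end abstract

section concrete
open Matrix QuadraticMap Cfsg.Agent.Lib.Helper5.NsPt Cfsg.Agent.Lib.Helper5.QuadSign
  Cfsg.Agent.Lib.Helper5.QuadTwo

variable {F : Type u} [Field F] {d : ℕ}

/-- the even indices -/
def aIdx (d : ℕ) (k : Fin (d / 2)) : Fin d := ⟨2 * k.1, by have := k.2; omega⟩

/-- the odd indices -/
def bIdx (d : ℕ) (k : Fin (d / 2)) : Fin d := ⟨2 * k.1 + 1, by have := k.2; omega⟩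

theorem aIdx_ne_bIdx (k k' : Fin (d / 2)) : aIdx d k ≠ bIdx d k' := by
  intro h
  have := congrArg Fin.val h
  simp only [aIdx, bIdx] at this
  omega

theorem aIdx_inj {k k' : Fin (d / 2)} (h : aIdx d k = aIdx d k') : k = k' := by
  have := congrArg Fin.val h
  simp only [aIdx] at this
  exact Fin.ext (by omega)

theorem bIdx_inj {k k' : Fin (d / 2)} (h : bIdx d k = bIdx d k') : k = k' := by
  have := congrArg Fin.val h
  simp only [bIdx] at this
  exact Fin.ext (by omega)

/-- the skew matrix `Σ (E_{2k,2k+1} - E_{2k+1,2k})` -/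
noncomputable def badMat (F : Type u) [Field F] (d : ℕ) : Matrix (Fin d) (Fin d) F :=
  ∑ k : Fin (d / 2), (Matrix.single (aIdx d k) (bIdx d k) (1 : F) -
    Matrix.single (bIdx d k) (aIdx d k) 1)

theorem badMat_mulVec (z : Fin d → F) (i : Fin d) :
    (badMat F d *ᵥ z) i = ∑ k : Fin (d / 2),
      ((if i = aIdx d k then z (bIdx d k) else 0) - (if i = bIdx d k then z (aIdx d k) else 0)) := by
  unfold badMat
  rw [Matrix.sum_mulVec, Finset.sum_apply]
  apply Finset.sum_congr rfl
  intro k _
  rw [Matrix.sub_mulVec, Pi.sub_apply, Matrix.single_mulVec, Matrix.single_mulVec,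
    Function.update_apply, Function.update_apply, one_mul, one_mul]
  rfl

theorem badMat_mulVec_a (z : Fin d → F) (k : Fin (d / 2)) :
    (badMat F d *ᵥ z) (aIdx d k) = z (bIdx d k) := by
  rw [badMat_mulVec, Finset.sum_eq_single k]
  · rw [if_pos rfl, if_neg (aIdx_ne_bIdx k k), sub_zero]
  · intro k' _ hk'
    rw [if_neg (fun h => hk' (aIdx_inj h).symm), if_neg (aIdx_ne_bIdx k k'), sub_zero]
  · intro h
    exact absurd (Finset.mem_univ k) h

theorem badMat_mulVec_b (z : Fin d → F) (k : Fin (d / 2)) :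
    (badMat F d *ᵥ z) (bIdx d k) = - z (aIdx d k) := by
  rw [badMat_mulVec, Finset.sum_eq_single k]
  · rw [if_pos rfl, if_neg (fun h => aIdx_ne_bIdx k k h.symm), zero_sub]
  · intro k' _ hk'
    rw [if_neg (fun h => hk' (bIdx_inj h).symm), if_neg (fun h => aIdx_ne_bIdx k' k h.symm),
      sub_zero]
  · intro h
    exact absurd (Finset.mem_univ k) h

/-- the quadratic form of the skew matrix vanishes -/
theorem badMat_quad (z : Fin d → F) : ∑ i : Fin d, (badMat F d *ᵥ z) i * z i = 0 := by
  have h1 : ∀ i : Fin d, (badMat F d *ᵥ z) i * z i = ∑ k : Fin (d / 2),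
      ((if i = aIdx d k then z (bIdx d k) * z i else 0) -
        (if i = bIdx d k then z (aIdx d k) * z i else 0)) := by
    intro i
    rw [badMat_mulVec, Finset.sum_mul]
    apply Finset.sum_congr rfl
    intro k _
    rw [sub_mul, ite_mul, ite_mul, zero_mul]
  simp only [h1]
  rw [Finset.sum_comm]
  apply Finset.sum_eq_zero
  intro k _
  rw [Finset.sum_sub_distrib, Finset.sum_ite_eq' Finset.univ (aIdx d k),
    Finset.sum_ite_eq' Finset.univ (bIdx d k), if_pos (Finset.mem_univ _),
    if_pos (Finset.mem_univ _)]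
  ring

/-- the kernel of the skew matrix -/
theorem badMat_ker (z : Fin d → F) (hz : badMat F d *ᵥ z = 0) (j : Fin d)
    (hj : j.1 + 1 < d ∨ j.1 % 2 = 1) : z j = 0 := by
  by_cases hpar : j.1 % 2 = 1
  · -- `j = b k`
    have hk : j.1 / 2 < d / 2 := by have := j.2; omega
    have hjb : j = bIdx d ⟨j.1 / 2, hk⟩ := by
      apply Fin.ext
      simp only [bIdx]
      omega
    have h1 := badMat_mulVec_a z ⟨j.1 / 2, hk⟩
    rw [hz, Pi.zero_apply] at h1
    rw [hjb]
    exact h1.symm
  · have hk : j.1 / 2 < d / 2 := by have := j.2; omega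
    have hja : j = aIdx d ⟨j.1 / 2, hk⟩ := by
      apply Fin.ext
      simp only [aIdx]
      omega
    have h1 := badMat_mulVec_b z ⟨j.1 / 2, hk⟩
    rw [hz, Pi.zero_apply] at h1
    rw [hja]
    exact neg_eq_zero.1 h1.symm

theorem uGL_badMat_mem : uGL (badMat F d) ∈ Cfsg.isometryGroup F (quadFormPlus d F) := by
  rw [mem_iso_iff]
  intro v
  rw [uGL_mulVec]
  show (∑ i : Fin d, ((v ∘ Sum.inl + badMat F d *ᵥ (v ∘ Sum.inr)) i) * (v ∘ Sum.inr) i) =
    ∑ i : Fin d, v (.inl i) * v (.inr i)
  simp only [Pi.add_apply, add_mul, Finset.sum_add_distrib]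
  rw [badMat_quad, add_zero]
  rfl

theorem uGL_pow (A : Matrix (Fin d) (Fin d) F) (n : ℕ) : uGL A ^ n = uGL (n • A) := by
  induction n with
  | zero => rw [pow_zero, zero_smul, uGL_zero]
  | succ n ih => rw [pow_succ, ih, uGL_mul, succ_nsmul, add_comm]

theorem uGL_pow_char (p : ℕ) [CharP F p] (A : Matrix (Fin d) (Fin d) F) : uGL A ^ p = 1 := by
  rw [uGL_pow]
  have : p • A = 0 := by
    rw [← Nat.cast_smul_eq_nsmul F, CharP.cast_eq_zero, zero_smul]
  rw [this, uGL_zero]

end concrete

section main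
open Matrix QuadraticMap Cfsg.Agent.Lib.Helper5.NsPt Cfsg.Agent.Lib.Helper5.QuadSign
  Cfsg.Agent.Lib.Helper5.QuadTwo

variable {F : Type u} [Field F] {d : ℕ}

theorem uGL_badMat_sub_one (v : Fin d ⊕ Fin d → F) :
    (Matrix.toLin' ((uGL (badMat F d) : GL (Fin d ⊕ Fin d) F) :
      Matrix (Fin d ⊕ Fin d) (Fin d ⊕ Fin d) F) - 1) v =
      Sum.elim (badMat F d *ᵥ (v ∘ Sum.inr)) 0 := by
  rw [LinearMap.sub_apply, Matrix.toLin'_apply, uGL_mulVec, Module.End.one_apply]
  funext idx
  rcases idx with i | i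
  · simp
  · simp

/-- **a bad unipotent element of `Ω⁺_{2d}(q)`**, in all characteristics: an element of order `p`
all of whose invariant subspaces of even dimension are of plus type -/
theorem exists_bad_unipotent_elliptic {p : ℕ} [hp : Fact p.Prime] [CharP F p] (hd : 4 ≤ d) :
    ∃ x : GL (Fin d ⊕ Fin d) F, x ∈ Cfsg.Geo.omegaGL (quadFormPlus d F) ∧ x ^ p = 1 ∧
      (∀ z : F, (x : Matrix (Fin d ⊕ Fin d) (Fin d ⊕ Fin d) F) ≠
        z • (1 : Matrix (Fin d ⊕ Fin d) (Fin d ⊕ Fin d) F)) ∧
      ∀ W : Submodule F (Fin d ⊕ Fin d → F), Even (Module.finrank F W) →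
        W.map (Matrix.toLin' (x : Matrix (Fin d ⊕ Fin d) (Fin d ⊕ Fin d) F)) ≤ W →
        Cfsg.Geo.IsPlusTypeOn (quadFormPlus d F) W := by
  classical
  refine ⟨uGL (badMat F d), ?_, uGL_pow_char p _, ?_, ?_⟩
  · -- membership in `Ω`
    by_cases hp2 : p = 2
    · subst hp2
      have h2 : (2 : F) = 0 := by
        have := CharP.cast_eq_zero F 2
        exact_mod_cast this
      have hneg : (-1 : F) = 1 := by linear_combination (-1 : F) * h2
      have h1 := uGL_sum_mem h2 (by omega : 3 ≤ d) (Finset.univ : Finset (Fin (d / 2)))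
        (aIdx d) (bIdx d) (fun k => aIdx_ne_bIdx k k)
      have h3 : badMat F d = ∑ k : Fin (d / 2), (Matrix.single (aIdx d k) (bIdx d k) (1 : F) +
          Matrix.single (bIdx d k) (aIdx d k) 1) := by
        unfold badMat
        apply Finset.sum_congr rfl
        intro k _
        rw [sub_eq_add_neg, Matrix.single_neg, hneg]
      rw [h3]
      exact h1
    · have hpodd : Odd p := hp.out.odd_of_ne_two hp2
      have h2 : (2 : F) ≠ 0 := by
        intro h
        have h3 : ((2 : ℕ) : F) = 0 := by exact_mod_cast h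
        have h4 := (CharP.cast_eq_zero_iff F p 2).1 h3
        exact hp2 ((Nat.prime_dvd_prime_iff_eq hp.out Nat.prime_two).1 h4)
      have hQ' : (polarBilin (qPlus (F := F) d)).Nondegenerate := by
        constructor
        · intro x hx
          apply nd_qPlus d x
          intro w
          have := hx w
          rwa [polarBilin_apply_apply, polar_comm] at this
        · intro y hy
          apply nd_qPlus d y
          intro w
          have := hy w
          rwa [polarBilin_apply_apply] at this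
      have hmem : uGL (badMat F d) ∈ Cfsg.isometryGroup F ⇑(qPlus (F := F) d) := uGL_badMat_mem
      have h1 := Cfsg.Agent.Lib.Helper5.OUnip.mem_Omega_of_pow h2 (qPlus (F := F) d) hQ'
        ⟨uGL (badMat F d), hmem⟩ hpodd (Subtype.ext (uGL_pow_char p _))
      exact ⟨⟨uGL (badMat F d), hmem⟩, h1, rfl⟩
  · -- not scalar
    intro z hz
    have hk : 0 < d / 2 := by omega
    have h1 := congrFun (congrFun hz (Sum.inl (aIdx d ⟨0, hk⟩))) (Sum.inr (bIdx d ⟨0, hk⟩))
    rw [uGL_val, Matrix.fromBlocks_apply₁₂, Matrix.smul_apply, Matrix.one_apply_ne (by simp),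
      smul_zero] at h1
    have h2 := badMat_mulVec_a (F := F) (Pi.single (bIdx d ⟨0, hk⟩) (1 : F)) ⟨0, hk⟩
    rw [Matrix.mulVec_single_one, Pi.single_eq_same] at h2
    rw [Matrix.col_apply] at h2
    rw [h1] at h2
    exact zero_ne_one h2
  · -- the invariant subspaces
    intro W hWe hWinv
    obtain ⟨h, hh⟩ := hWe
    obtain ⟨N, hNdef⟩ : ∃ N : (Fin d ⊕ Fin d → F) →ₗ[F] (Fin d ⊕ Fin d → F),
        N = Matrix.toLin' ((uGL (badMat F d) : GL (Fin d ⊕ Fin d) F) :
          Matrix (Fin d ⊕ Fin d) (Fin d ⊕ Fin d) F) - 1 := ⟨_, rfl⟩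
    have hNv : ∀ v, N v = Sum.elim (badMat F d *ᵥ (v ∘ Sum.inr)) 0 := by
      intro v
      rw [hNdef]
      exact uGL_badMat_sub_one v
    have hNinr : ∀ v (j : Fin d), N v (Sum.inr j) = 0 := by
      intro v j
      rw [hNv]
      rfl
    obtain ⟨T₀, hT₀def⟩ : ∃ T₀ : Submodule F (Fin d ⊕ Fin d → F),
        ∀ w, w ∈ T₀ ↔ ∀ j : Fin d, w (Sum.inr j) = 0 := by
      refine ⟨{ carrier := {w | ∀ j : Fin d, w (Sum.inr j) = 0}
                add_mem' := ?_
                zero_mem' := ?_
                smul_mem' := ?_ }, fun w => Iff.rfl⟩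
      · intro a b ha hb j
        rw [Pi.add_apply, ha j, hb j, add_zero]
      · intro j
        rfl
      · intro c a ha j
        rw [Pi.smul_apply, ha j, smul_zero]
    have hdpos : d - 1 < d := by omega
    obtain ⟨f, hf⟩ : ∃ f : Fin d ⊕ Fin d → F, f = Pi.single (Sum.inr ⟨d - 1, hdpos⟩) 1 := ⟨_, rfl⟩
    have key := exists_ts_half (quadFormPlus d F) N ?_ T₀ ?_ ?_ f ?_ W ?_ h (by omega)
    · obtain ⟨U, hUW, hUts, hUh⟩ := key
      exact ⟨U, hUW, hUts, by omega⟩
    · -- `N² = 0`
      intro v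
      rw [hNv (N v)]
      have : (N v) ∘ Sum.inr = 0 := by
        funext j
        exact hNinr v j
      rw [this, Matrix.mulVec_zero]
      funext idx
      rcases idx with i | i <;> rfl
    · -- `T₀` is totally singular
      intro v hv
      rw [hT₀def] at hv
      show ∑ i : Fin d, v (.inl i) * v (.inr i) = 0
      apply Finset.sum_eq_zero
      intro i _
      rw [hv i, mul_zero]
    · intro v
      rw [hT₀def]
      exact hNinr v
    · -- the kernel
      intro v hv
      have hA : badMat F d *ᵥ (v ∘ Sum.inr) = 0 := by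
        funext i
        have := congrFun hv (Sum.inl i)
        rw [hNv] at this
        exact this
      have hz : ∀ j : Fin d, j ≠ ⟨d - 1, hdpos⟩ → v (Sum.inr j) = 0 := by
        intro j hj
        apply badMat_ker (v ∘ Sum.inr) hA j
        left
        have : j.1 ≠ d - 1 := fun h => hj (Fin.ext h)
        have := j.2
        omega
      rw [Submodule.mem_sup]
      refine ⟨v - v (Sum.inr ⟨d - 1, hdpos⟩) • f, ?_, v (Sum.inr ⟨d - 1, hdpos⟩) • f,
        Submodule.smul_mem _ _ (Submodule.mem_span_singleton_self f), by abel⟩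
      rw [hT₀def]
      intro j
      rw [Pi.sub_apply, Pi.smul_apply, hf, smul_eq_mul]
      by_cases hj : j = ⟨d - 1, hdpos⟩
      · rw [hj, Pi.single_eq_same, mul_one, sub_self]
      · rw [Pi.single_eq_of_ne (by intro h; exact hj (Sum.inr_injective h)), mul_zero, sub_zero]
        exact hz j hj
    · -- invariance
      intro w hw
      rw [hNdef, LinearMap.sub_apply, Module.End.one_apply]
      exact W.sub_mem (hWinv ⟨w, hw, rfl⟩) hw

end main

end Cfsg.Agent.Lib.Helper9.BG
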