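import Mathlib
import Cfsg.Agent.Lib.Helper5.OS.Defs
import Cfsg.Agent.Lib.Helper9.OSP1

set_option autoImplicit false
set_option linter.unusedSectionVars false
set_option linter.unusedVariables false
set_option linter.unusedSimpArgs false
set_option linter.style.haveILetI false
set_option linter.style.longLine false
set_option maxHeartbeats 1000000

/-! # S3421 piece P2: no nontrivial normal `r`-subgroup, no nontrivial nilpotent normal subgroup -/

open Cfsg.Agent.Lib.Helper5.OS

namespace Cfsg.Agent.Lib.Helper9.OS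

variable {G : Type*} [Group G] [Finite G] {p q n m : ℕ}

/-- a subgroup acting semiregularly by conjugation on `A ∖ 1` has order dividing `|A| - 1` -/
theorem card_dvd_of_semiregular' (A K : Subgroup G)
    (hnorm : ∀ k ∈ K, ∀ c ∈ A, k * c * k⁻¹ ∈ A)
    (hfree : ∀ k ∈ K, ∀ c ∈ A, c ≠ 1 → k * c = c * k → k = 1) :
    Nat.card ↥K ∣ Nat.card ↥A - 1 := by
  classical
  let X := {c : ↥A // c ≠ 1}
  letI : MulAction ↥K X :=
    { smul := fun k c => ⟨⟨(k : G) * (c.1 : G) * (k : G)⁻¹, hnorm k k.2 c.1 c.1.2⟩, by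
        intro h0
        apply c.2
        have h1 : (k : G) * (c.1 : G) * (k : G)⁻¹ = 1 := congrArg Subtype.val h0
        apply Subtype.ext
        calc (c.1 : G) = (k : G)⁻¹ * ((k : G) * (c.1 : G) * (k : G)⁻¹) * (k : G) := by group
          _ = 1 := by rw [h1]; group⟩
      one_smul := by
        intro c
        apply Subtype.ext; apply Subtype.ext
        show ((1 : ↥K) : G) * (c.1 : G) * ((1 : ↥K) : G)⁻¹ = (c.1 : G)
        simp
      mul_smul := by
        intro k k' c
        apply Subtype.ext; apply Subtype.ext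
        show ((k * k' : ↥K) : G) * (c.1 : G) * ((k * k' : ↥K) : G)⁻¹
          = (k : G) * ((k' : G) * (c.1 : G) * (k' : G)⁻¹) * (k : G)⁻¹
        rw [Subgroup.coe_mul]; group }
  have hsm : ∀ (k : ↥K) (c : X), ((k • c).1 : G) = (k : G) * (c.1 : G) * (k : G)⁻¹ :=
    fun _ _ => rfl
  have hstab : ∀ c : X, Nat.card (MulAction.stabilizer ↥K c) = 1 := by
    intro c
    rw [Subgroup.card_eq_one, eq_bot_iff]
    intro k hk
    rw [Subgroup.mem_bot]
    rw [MulAction.mem_stabilizer_iff] at hk
    have h1 : (k : G) * (c.1 : G) * (k : G)⁻¹ = (c.1 : G) := by rw [← hsm, hk]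
    have h2 : (k : G) * (c.1 : G) = (c.1 : G) * (k : G) := by
      calc (k : G) * (c.1 : G) = ((k : G) * (c.1 : G) * (k : G)⁻¹) * (k : G) := by group
        _ = (c.1 : G) * (k : G) := by rw [h1]
    have hc1 : (c.1 : G) ≠ 1 := fun h0 => c.2 (Subtype.ext h0)
    exact Subtype.ext (hfree k k.2 c.1 c.1.2 hc1 h2)
  have hd := dvd_card_of_card_stabilizer (N := ↥K) (X := X) 1 hstab
  rw [Nat.div_one] at hd
  have hc1 : Nat.card X + 1 = Nat.card ↥A := card_ne_add_one (1 : ↥A)
  have hX : Nat.card X = Nat.card ↥A - 1 := by omega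
  rw [hX] at hd
  exact hd

/-- a nontrivial `p`-element has order dividing `p` -/
theorem orderOf_dvd_p_of (h : Hyp G p q n m) {c : G} (hc : c ≠ 1) (hcp : ∃ j : ℕ, c ^ p ^ j = 1) :
    orderOf c ∣ p := by
  obtain ⟨j, hj⟩ := hcp
  have h1 : orderOf c ∣ p ^ j := orderOf_dvd_of_pow_eq_one hj
  obtain ⟨i, -, hi⟩ := (Nat.dvd_prime_pow h.pp).1 h1
  have hi0 : i ≠ 0 := by
    rintro rfl
    rw [pow_zero, orderOf_eq_one_iff] at hi
    exact hc hi
  have hpc : p ∣ orderOf c := by rw [hi]; exact dvd_pow_self p hi0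
  rcases h.spec c with hd | hd | hd
  · exact hd
  · exfalso
    have h2 : p ∣ Nat.gcd p n := Nat.dvd_gcd dvd_rfl (hpc.trans hd)
    rw [h.cop_pn] at h2
    exact h.pp.one_lt.ne' (Nat.dvd_one.1 h2)
  · exfalso
    have h2 : p ∣ Nat.gcd p m := Nat.dvd_gcd dvd_rfl (hpc.trans hd)
    rw [h.cop_pm] at h2
    exact h.pp.one_lt.ne' (Nat.dvd_one.1 h2)

theorem no_normal_pgroup (h : Hyp G p q n m) (r : ℕ) (hr : r.Prime) (N : Subgroup G)
    (hN : N.Normal) (hrN : IsPGroup r N) : N = ⊥ := by
  classical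
  by_contra hNbot
  haveI : Fact p.Prime := ⟨h.pp⟩
  haveI : Fact r.Prime := ⟨hr⟩
  have hconj : ∀ (K : Subgroup G), ∀ k ∈ K, ∀ c ∈ N, k * c * k⁻¹ ∈ N :=
    fun K k _ c hc => hN.conj_mem c hc k
  obtain ⟨e, he⟩ := hrN.exists_card_eq
  have hcard2 : 2 ≤ Nat.card N := by
    have h1 : Nat.card N ≠ 1 := fun h0 => hNbot (Subgroup.card_eq_one.1 h0)
    have h2 : 0 < Nat.card N := Nat.card_pos
    omega
  have he0 : e ≠ 0 := by
    rintro rfl
    rw [pow_zero] at he; omega
  have hNdvd : Nat.card N ∣ q * (2 * n) * m := by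
    rw [← h.card]; exact Subgroup.card_subgroup_dvd_card N
  have hn2 := h.n_ge
  have hm3 := h.m_ge
  have hq5 := h.q5
  have hsum := h.sum
  have h4 := h.four_nm
  by_cases hrp : r = p
  · -- case r = p
    subst hrp
    have hcN : ∀ c ∈ N, c ≠ 1 → Nat.card (Subgroup.centralizer ({c} : Set G)) ∣ q := by
      intro c hc hc1
      apply h.card_centralizer_dvd_q hc1
      apply orderOf_dvd_p_of h hc1
      obtain ⟨j, hj⟩ := hrN ⟨c, hc⟩
      exact ⟨j, by simpa using congrArg Subtype.val hj⟩
    -- a cyclic subgroup of order coprime to q acts semiregularly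
    have hsemi : ∀ x : G, Nat.Coprime (orderOf x) q →
        Nat.card (Subgroup.zpowers x) ∣ Nat.card N - 1 := by
      intro x hx
      apply card_dvd_of_semiregular' N (Subgroup.zpowers x) (hconj _)
      intro k hk c hc hc1 hkc
      have h1 : k ∈ Subgroup.centralizer ({c} : Set G) := by
        rw [Subgroup.mem_centralizer_singleton_iff]; exact hkc
      have h2 : orderOf k ∣ q :=
        (Subgroup.orderOf_dvd_natCard _ h1).trans (hcN c hc hc1)
      have h3 : orderOf k ∣ orderOf x := orderOf_dvd_of_mem_zpowers hk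
      have h5 : orderOf k ∣ Nat.gcd (orderOf x) q := Nat.dvd_gcd h3 h2
      rw [hx] at h5
      exact orderOf_eq_one_iff.1 (Nat.dvd_one.1 h5)
    obtain ⟨a0, ha0⟩ := h.exn
    obtain ⟨b, hb⟩ := h.exm
    have hd1 : n ∣ Nat.card N - 1 := by
      have := hsemi a0 (by rw [ha0]; exact h.cop_qn.symm)
      rwa [Nat.card_zpowers, ha0] at this
    have hd2 : m ∣ Nat.card N - 1 := by
      have := hsemi b (by rw [hb]; exact h.cop_qm.symm)
      rwa [Nat.card_zpowers, hb] at this
    have hd3 : n * m ∣ Nat.card N - 1 := Nat.Coprime.mul_dvd_of_dvd_of_dvd h.cop_nm hd1 hd2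
    have hNq : Nat.card N ∣ q := by
      have hcop : Nat.Coprime (Nat.card N) ((2 * n) * m) := by
        rw [he]
        apply Nat.Coprime.pow_left
        exact Nat.Coprime.mul_right
          (Nat.Coprime.mul_right ((Nat.coprime_primes h.pp Nat.prime_two).2 h.p2) h.cop_pn) h.cop_pm
      have : Nat.card N ∣ q * ((2 * n) * m) := by
        have e1 : q * ((2 * n) * m) = q * (2 * n) * m := by ring
        rw [e1]; exact hNdvd
      exact Nat.Coprime.dvd_of_dvd_mul_right hcop this
    have hle1 : Nat.card N ≤ q := Nat.le_of_dvd (by omega) hNq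
    have hle2 : n * m ≤ Nat.card N - 1 := Nat.le_of_dvd (by omega) hd3
    have hle3 : n * m ≤ q - 1 := by omega
    have hle4 : n * m + 1 ≤ q := by omega
    nlinarith
  · -- case r ≠ p
    obtain ⟨f, hf⟩ := h.qpow
    have hqG : p ^ f ∣ Nat.card G := by
      rw [h.card, ← hf, mul_assoc]; exact dvd_mul_right q _
    obtain ⟨P, hP⟩ := Sylow.exists_subgroup_card_pow_prime p hqG
    have hPq : Nat.card P = q := by rw [hP, hf]
    have hPp : IsPGroup p P := IsPGroup.of_card hP
    have hfree : ∀ k ∈ P, ∀ c ∈ N, c ≠ 1 → k * c = c * k → k = 1 := by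
      intro k hk c hc hc1 hkc
      by_contra hk1
      have hko : orderOf k ∣ p := by
        apply orderOf_dvd_p_of h hk1
        obtain ⟨j, hj⟩ := hPp ⟨k, hk⟩
        exact ⟨j, by simpa using congrArg Subtype.val hj⟩
      have h1 : c ∈ Subgroup.centralizer ({k} : Set G) := by
        rw [Subgroup.mem_centralizer_singleton_iff]; exact hkc.symm
      have h2 : orderOf c ∣ q :=
        (Subgroup.orderOf_dvd_natCard _ h1).trans (h.card_centralizer_dvd_q hk1 hko)
      obtain ⟨j, hj⟩ := hrN ⟨c, hc⟩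
      have hj' : c ^ r ^ j = 1 := by simpa using congrArg Subtype.val hj
      have h3 : orderOf c ∣ r ^ j := orderOf_dvd_of_pow_eq_one hj'
      have hcop : Nat.Coprime (r ^ j) q := by
        rw [hf]
        exact Nat.Coprime.pow _ _ ((Nat.coprime_primes hr h.pp).2 hrp)
      have h5 : orderOf c ∣ Nat.gcd (r ^ j) q := Nat.dvd_gcd h3 h2
      rw [hcop] at h5
      exact hc1 (orderOf_eq_one_iff.1 (Nat.dvd_one.1 h5))
    have hqd : q ∣ Nat.card N - 1 := by
      have := card_dvd_of_semiregular' N P (hconj _) hfree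
      rwa [hPq] at this
    have hge : q + 1 ≤ Nat.card N := by
      have := Nat.le_of_dvd (by omega) hqd
      omega
    -- |N| divides 2n or m
    have hcopN : Nat.Coprime (Nat.card N) q := by
      rw [he, hf]
      exact Nat.Coprime.pow _ _ ((Nat.coprime_primes hr h.pp).2 hrp)
    have hN2 : Nat.card N ∣ (2 * n) * m := by
      have : Nat.card N ∣ q * ((2 * n) * m) := by
        have e1 : q * ((2 * n) * m) = q * (2 * n) * m := by ring
        rw [e1]; exact hNdvd
      exact Nat.Coprime.dvd_of_dvd_mul_left hcopN this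
    have hpp : IsPrimePow (Nat.card N) := by
      rw [he]; exact hr.isPrimePow.pow he0
    have hcase := (h.cop_2n_m.isPrimePow_dvd_mul hpp).1 hN2
    have hNeq : Nat.card N = 2 * n ∧ 2 * n = q + 1 := by
      rcases hcase with hc | hc
      · have := Nat.le_of_dvd (by omega) hc
        rcases h.diff with d | d <;> constructor <;> omega
      · have := Nat.le_of_dvd (by omega) hc
        rcases h.diff with d | d <;> omega
    -- a0 ∈ N
    obtain ⟨a0, ha0⟩ := h.exn
    have ha0N : a0 ∈ N := by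
      have h1 : orderOf (QuotientGroup.mk' N a0) ∣ n := by
        rw [← ha0]; exact orderOf_map_dvd _ a0
      have h2 : orderOf (QuotientGroup.mk' N a0) ∣ Nat.card (G ⧸ N) := orderOf_dvd_natCard _
      have hidx : Nat.card (G ⧸ N) = q * m := by
        have h3 := Subgroup.card_mul_index N
        rw [h.card, hNeq.1, Subgroup.index_eq_card] at h3
        have h4' : (2 * n) * Nat.card (G ⧸ N) = (2 * n) * (q * m) := by rw [h3]; ring
        exact Nat.eq_of_mul_eq_mul_left (by omega) h4'
      rw [hidx] at h2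
      have hcop : Nat.Coprime n (q * m) := Nat.Coprime.mul_right h.cop_qn.symm h.cop_nm
      have h5 : orderOf (QuotientGroup.mk' N a0) ∣ Nat.gcd n (q * m) := Nat.dvd_gcd h1 h2
      rw [hcop] at h5
      have h6 := orderOf_eq_one_iff.1 (Nat.dvd_one.1 h5)
      exact (QuotientGroup.eq_one_iff a0).1 h6
    -- an involution t ∈ N and regularity
    haveI : Fact (Nat.Prime 2) := ⟨Nat.prime_two⟩
    obtain ⟨t, ht⟩ := exists_prime_orderOf_dvd_card' (G := ↥N) 2
      (by rw [hNeq.1]; exact dvd_mul_right 2 n)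
    have hto : orderOf (t : G) = 2 := by rw [Subgroup.orderOf_coe]; exact ht
    have ht1 : (t : G) ≠ 1 := by
      intro h0
      rw [h0, orderOf_one] at hto; omega
    let φ : ↥P → {c : ↥N // c ≠ 1} := fun x =>
      ⟨⟨(x : G) * (t : G) * (x : G)⁻¹, hN.conj_mem _ t.2 _⟩, by
        intro h0
        have h1 : (x : G) * (t : G) * (x : G)⁻¹ = 1 := congrArg Subtype.val h0
        apply ht1
        calc (t : G) = (x : G)⁻¹ * ((x : G) * (t : G) * (x : G)⁻¹) * (x : G) := by group
          _ = 1 := by rw [h1]; group⟩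
    have hφinj : Function.Injective φ := by
      intro x y hxy
      have h1 : (x : G) * (t : G) * (x : G)⁻¹ = (y : G) * (t : G) * (y : G)⁻¹ :=
        congrArg (fun c : {c : ↥N // c ≠ 1} => ((c.1 : ↥N) : G)) hxy
      have h2 : ((y : G)⁻¹ * (x : G)) * (t : G) = (t : G) * ((y : G)⁻¹ * (x : G)) := by
        calc ((y : G)⁻¹ * (x : G)) * (t : G)
            = (y : G)⁻¹ * ((x : G) * (t : G) * (x : G)⁻¹) * (x : G) := by group
          _ = (y : G)⁻¹ * ((y : G) * (t : G) * (y : G)⁻¹) * (x : G) := by rw [h1]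
          _ = (t : G) * ((y : G)⁻¹ * (x : G)) := by group
      have h3 := hfree _ (P.mul_mem (P.inv_mem y.2) x.2) (t : G) t.2 ht1 h2
      apply Subtype.ext
      calc (x : G) = (y : G) * ((y : G)⁻¹ * (x : G)) := by group
        _ = (y : G) := by rw [h3, mul_one]
    have hcardX : Nat.card {c : ↥N // c ≠ 1} = q := by
      have := card_ne_add_one (1 : ↥N)
      omega
    have hφbij : Function.Bijective φ :=
      hφinj.bijective_of_nat_card_le (by rw [hcardX, hPq])
    have ha01 : a0 ≠ 1 := by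
      intro h0
      rw [h0, orderOf_one] at ha0; omega
    obtain ⟨x, hx⟩ := hφbij.2 ⟨⟨a0, ha0N⟩, fun h0 => ha01 (congrArg Subtype.val h0)⟩
    have hx' : (x : G) * (t : G) * (x : G)⁻¹ = a0 :=
      congrArg (fun c : {c : ↥N // c ≠ 1} => ((c.1 : ↥N) : G)) hx
    have ho : orderOf a0 = 2 := by
      rw [← hx', ← hto]
      have h5 : (x : G) * (t : G) * (x : G)⁻¹ = MulAut.conj (x : G) (t : G) := by
        simp [MulAut.conj_apply]
      rw [h5, MulEquiv.orderOf_eq]
    rw [ha0] at ho
    omega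

theorem no_normal_nilpotent (h : Hyp G p q n m) (N : Subgroup G) (hN : N.Normal)
    (hnil : Group.IsNilpotent N) : N = ⊥ := by
  classical
  by_contra hNbot
  have hcard : Nat.card N ≠ 1 := fun h0 => hNbot (Subgroup.card_eq_one.1 h0)
  obtain ⟨r, hr, hrd⟩ := Nat.exists_prime_and_dvd hcard
  haveI : Fact r.Prime := ⟨hr⟩
  obtain ⟨Q⟩ : Nonempty (Sylow r ↥N) := inferInstance
  haveI hQn : (Q : Subgroup ↥N).Normal := inferInstance
  haveI hQc : (Q : Subgroup ↥N).Characteristic := Sylow.characteristic_of_normal Q hQn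
  haveI := hN
  have hmapN : ((Q : Subgroup ↥N).map N.subtype).Normal := inferInstance
  have hmapP : IsPGroup r ((Q : Subgroup ↥N).map N.subtype) := Q.isPGroup'.map _
  have hbot := no_normal_pgroup h r hr _ hmapN hmapP
  have hQbot : (Q : Subgroup ↥N) = ⊥ := by
    rw [← Subgroup.map_eq_bot_iff_of_injective _ (Subgroup.subtype_injective N)]
    exact hbot
  exact Q.ne_bot_of_dvd_card hrd hQbot

end Cfsg.Agent.Lib.Helper9.OS
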