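import Mathlib
import Cfsg.Agent.Lib.Helper5.OS.Defs
import Cfsg.Agent.Lib.Helper5.OS.Basic
import Cfsg.Agent.Lib.Helper9.OSP6a
import Cfsg.Agent.S3225

set_option autoImplicit false
set_option linter.unusedSectionVars false
set_option linter.unusedVariables false
set_option linter.unusedSimpArgs false
set_option linter.style.haveILetI false
set_option linter.style.longLine false
set_option maxHeartbeats 2000000

/-! # S3421 piece P6b: an involution of `T` outside `A0` inverts `T ∩ A0` -/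

open Cfsg.Agent.Lib.Helper5.OS

namespace Cfsg.Agent.Lib.Helper9.OS

variable {G : Type*} [Group G] [Finite G] {p q n m : ℕ}

/-- a `2`-element whose `2^l`-th power is not `1` has order `> 2^l` -/
theorem lt_orderOf_of_pow_ne {s : G} {l : ℕ} (h2 : ∃ j : ℕ, s ^ 2 ^ j = 1) (hs : s ^ 2 ^ l ≠ 1) :
    2 ^ l < orderOf s := by
  obtain ⟨j, hj⟩ := h2
  obtain ⟨i, -, hi⟩ := (Nat.dvd_prime_pow Nat.prime_two).1 (orderOf_dvd_of_pow_eq_one hj)
  rw [hi]
  apply Nat.pow_lt_pow_right (by norm_num)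
  by_contra hle
  push Not at hle
  apply hs
  have : orderOf s ∣ 2 ^ l := by rw [hi]; exact pow_dvd_pow 2 hle
  exact orderOf_dvd_iff_pow_eq_one.1 this

theorem conj_eq_inv_two (h : Hyp G p q n m) (h2 : ∀ H : Subgroup G, H.index ≠ 2)
    {t a0 : G} {T : Sylow 2 G} (hC : CData G n t a0 T) {u : G} (huT : u ∈ (T : Subgroup G))
    (huA : u ∉ Subgroup.zpowers a0) (hu : orderOf u = 2) :
    ∀ x ∈ (T : Subgroup G) ⊓ Subgroup.zpowers a0, u * x * u⁻¹ = x⁻¹ := by
  classical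
  set A0 : Subgroup G := Subgroup.zpowers a0 with hA0
  set T0 : Subgroup G := (T : Subgroup G) ⊓ A0 with hT0
  have hu2 : u * u = 1 := by
    have := pow_orderOf_eq_one u
    rwa [hu, pow_two] at this
  have huinv : u⁻¹ = u := inv_eq_of_mul_eq_one_right hu2
  have huC : u ∈ Subgroup.centralizer ({t} : Set G) := hC.TC huT
  have hAcomm : ∀ a ∈ A0, ∀ b ∈ A0, a * b = b * a := by
    intro a ha b hb
    obtain ⟨i, rfl⟩ := Subgroup.mem_zpowers_iff.1 ha
    obtain ⟨j, rfl⟩ := Subgroup.mem_zpowers_iff.1 hb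
    exact (Commute.zpow_zpow_self a0 i j)
  -- the exponent `e`
  have hconj0 : u * a0 * u⁻¹ ∈ A0 := hC.conj_mem h huC (Subgroup.mem_zpowers a0)
  obtain ⟨e, he⟩ := Subgroup.mem_zpowers_iff.1 hconj0
  have hpowe : ∀ y ∈ A0, u * y * u⁻¹ = y ^ e := by
    intro y hy
    obtain ⟨i, rfl⟩ := Subgroup.mem_zpowers_iff.1 hy
    rw [← conj_zpow, ← he, ← zpow_mul, ← zpow_mul, mul_comm]
  -- `e` is odd
  have ht1 : t ≠ 1 := by
    intro h0
    have := hC.ht
    rw [h0, orderOf_one] at this; omega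
  have hte : t ^ e = t := by
    rw [← hpowe t hC.tA]
    have := Subgroup.mem_centralizer_singleton_iff.1 huC
    rw [this, mul_inv_cancel_right]
  obtain ⟨e', he'⟩ : ∃ e' : ℤ, 1 + e = 2 * e' := by
    have h1 : t ^ (e - 1) = 1 := by
      rw [zpow_sub, hte, zpow_one, mul_inv_cancel]
    have h2' := orderOf_dvd_iff_zpow_eq_one.2 h1
    rw [hC.ht] at h2'
    obtain ⟨w, hw⟩ := h2'
    exact ⟨w + 1, by push_cast at hw; linarith⟩
  -- basic identities
  have hmulconj : ∀ y ∈ A0, y * (u * y * u⁻¹) = y ^ (1 + e) := by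
    intro y hy
    rw [hpowe y hy, zpow_add, zpow_one]
  have hsq : ∀ y ∈ A0, (y * u) * (y * u) = y ^ (1 + e) := by
    intro y hy
    rw [← hmulconj y hy, huinv]
    calc y * u * (y * u) = y * (u * y * u) * (u * u)⁻¹ * (u * u) := by group
      _ = y * (u * y * u) := by rw [hu2]; group
  have hT0A : T0 ≤ A0 := inf_le_right
  have hT0T : T0 ≤ (T : Subgroup G) := inf_le_left
  have hT02 : ∀ s ∈ (T : Subgroup G), ∃ j : ℕ, s ^ 2 ^ j = 1 := by
    intro s hs
    obtain ⟨j, hj⟩ := T.isPGroup' ⟨s, hs⟩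
    exact ⟨j, by simpa using congrArg Subtype.val hj⟩
  have hrel0 : T0.relIndex (T : Subgroup G) = 2 := by
    have h1 := card_mul_relIndex_of_le T0 (T : Subgroup G) inf_le_left
    have h3 := hC.TA
    have hT0pos : 0 < Nat.card T0 := Nat.card_pos
    have : Nat.card T0 * T0.relIndex (T : Subgroup G) = Nat.card T0 * 2 := by rw [h1, h3]
    exact Nat.eq_of_mul_eq_mul_left hT0pos this
  -- elements of `T` outside `T0` are of the form `z * u`, `z ∈ T0`
  have hout : ∀ s ∈ (T : Subgroup G), s ∉ T0 → s * u ∈ T0 := by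
    intro s hs hs0
    have hidx : (T0.subgroupOf (T : Subgroup G)).index = 2 := hrel0
    have huT0 : u ∉ T0 := fun h0 => huA h0.2
    have := (Subgroup.mul_mem_iff_of_index_two hidx
      (a := (⟨s, hs⟩ : ↥(T : Subgroup G))) (b := (⟨u, huT⟩ : ↥(T : Subgroup G))))
    rw [Subgroup.mem_subgroupOf, Subgroup.mem_subgroupOf, Subgroup.mem_subgroupOf] at this
    exact this.2 ⟨fun h0 => absurd h0 hs0, fun h0 => absurd h0 huT0⟩
  have hnotboth : ∀ s, s ∈ T0 → s * u ∈ T0 → False := by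
    intro s hs hsu
    apply huA
    have : u = s⁻¹ * (s * u) := by group
    rw [this]
    exact (T0.mul_mem (T0.inv_mem hs) hsu).2
  by_contra hcon
  push Not at hcon
  obtain ⟨x0, hx0, hx0ne⟩ := hcon
  have hx0c : x0 ^ (1 + e) ≠ 1 := by
    intro h0
    apply hx0ne
    rw [← hmulconj x0 (hT0A hx0)] at h0
    exact (eq_inv_of_mul_eq_one_right h0)
  -- choose `x ∈ T0` maximizing the order of `x ^ (1+e)`
  obtain ⟨x', hx'max⟩ := Finite.exists_max (fun s : ↥T0 => orderOf ((s : G) ^ (1 + e)))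
  set x : G := (x' : G) with hx
  have hxT0 : x ∈ T0 := x'.2
  set c : G := x ^ (1 + e) with hc
  have hcT0 : c ∈ T0 := T0.zpow_mem hxT0 _
  have hc1 : c ≠ 1 := by
    intro h0
    have := hx'max ⟨x0, hx0⟩
    simp only at this
    rw [h0, orderOf_one] at this
    have h3 : orderOf (x0 ^ (1 + e)) = 0 ∨ orderOf (x0 ^ (1 + e)) = 1 := by omega
    rcases h3 with h3 | h3
    · exact absurd h3 (orderOf_pos _).ne'
    · exact hx0c (orderOf_eq_one_iff.1 h3)
  obtain ⟨jc, hjc⟩ := hT02 c (hT0T hcT0)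
  obtain ⟨l', -, hl'⟩ := (Nat.dvd_prime_pow Nat.prime_two).1 (orderOf_dvd_of_pow_eq_one hjc)
  have hl'0 : l' ≠ 0 := by
    rintro rfl
    rw [pow_zero, orderOf_eq_one_iff] at hl'
    exact hc1 hl'
  obtain ⟨l, rfl⟩ : ∃ l, l' = l + 1 := ⟨l' - 1, by omega⟩
  -- `hl' : orderOf c = 2 ^ (l+1)`
  have hmax : ∀ s ∈ T0, (s ^ (1 + e)) ^ 2 ^ (l + 1) = 1 := by
    intro s hs
    have h1 := hx'max ⟨s, hs⟩
    simp only at h1
    rw [hl'] at h1
    obtain ⟨j, hj⟩ := hT02 _ (hT0T (T0.zpow_mem hs (1 + e)))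
    obtain ⟨i, -, hi⟩ := (Nat.dvd_prime_pow Nat.prime_two).1 (orderOf_dvd_of_pow_eq_one hj)
    rw [hi] at h1
    have hil : i ≤ l + 1 := (Nat.pow_le_pow_iff_right (by norm_num)).1 h1
    apply orderOf_dvd_iff_pow_eq_one.1
    rw [hi]; exact pow_dvd_pow 2 hil
  -- the homomorphism `ψ s = (s ^ (1+e)) ^ 2^l`
  let ψ : G → G := fun s => (s ^ (1 + e)) ^ 2 ^ l
  have hψmul : ∀ a ∈ T0, ∀ b ∈ T0, ψ (a * b) = ψ a * ψ b := by
    intro a ha b hb
    have hab : Commute a b := hAcomm a (hT0A ha) b (hT0A hb)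
    show ((a * b) ^ (1 + e)) ^ 2 ^ l = (a ^ (1 + e)) ^ 2 ^ l * (b ^ (1 + e)) ^ 2 ^ l
    rw [hab.mul_zpow, ((hab.zpow_zpow _ _)).mul_pow]
  have hψA : ∀ a ∈ T0, ψ a ∈ A0 := fun a ha => A0.pow_mem (A0.zpow_mem (hT0A ha) _) _
  have hψsq : ∀ a ∈ T0, (ψ a) ^ 2 = 1 := by
    intro a ha
    show ((a ^ (1 + e)) ^ 2 ^ l) ^ 2 = 1
    rw [← pow_mul, ← pow_succ]
    exact hmax a ha
  have hψcase : ∀ a ∈ T0, ψ a = 1 ∨ ψ a = t := by
    intro a ha
    by_cases h1 : ψ a = 1
    · exact Or.inl h1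
    · exact Or.inr (eq_t_of_sq hC (hψA a ha) h1 (hψsq a ha))
  have hψx : ψ x = t := by
    rcases hψcase x hxT0 with h1 | h1
    · exfalso
      have : orderOf c ∣ 2 ^ l := orderOf_dvd_of_pow_eq_one h1
      rw [hl'] at this
      have := Nat.le_of_dvd (by positivity) this
      have : 2 ^ l < 2 ^ (l + 1) := Nat.pow_lt_pow_right (by norm_num) (by omega)
      omega
    · exact h1
  have htt : t * t = 1 := by
    have := pow_orderOf_eq_one t
    rwa [hC.ht, pow_two] at this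
  have hψe : ∀ a ∈ T0, ψ (a ^ e) = ψ a := by
    intro a ha
    have h1 : ψ (a ^ e) = (ψ a) ^ e := by
      show ((a ^ e) ^ (1 + e)) ^ 2 ^ l = ((a ^ (1 + e)) ^ 2 ^ l) ^ e
      rw [← zpow_natCast, ← zpow_natCast, ← zpow_mul, ← zpow_mul, ← zpow_mul, ← zpow_mul]
      congr 1; ring
    rw [h1]
    rcases hψcase a ha with h3 | h3
    · rw [h3, one_zpow]
    · rw [h3, hte]
  have hψ1 : ψ 1 = 1 := by
    show ((1 : G) ^ (1 + e)) ^ 2 ^ l = 1
    rw [one_zpow, one_pow]
  have hψinv : ∀ a ∈ T0, ψ a = 1 → ψ a⁻¹ = 1 := by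
    intro a ha h1
    show ((a⁻¹) ^ (1 + e)) ^ 2 ^ l = 1
    rw [inv_zpow, inv_pow]
    have : (a ^ (1 + e)) ^ 2 ^ l = 1 := h1
    rw [this, inv_one]
  have hconjT0 : ∀ z ∈ T0, u * z * u⁻¹ = z ^ e := fun z hz => hpowe z (hT0A hz)
  have hzeT0 : ∀ z ∈ T0, z ^ e ∈ T0 := fun z hz => T0.zpow_mem hz e
  -- the subgroup `M`
  let M : Subgroup G :=
    { carrier := {s | (s ∈ T0 ∧ ψ s = 1) ∨ (s * u ∈ T0 ∧ ψ (s * u) = 1)}
      one_mem' := Or.inl ⟨T0.one_mem, hψ1⟩
      mul_mem' := by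
        rintro a b (⟨ha, ha1⟩ | ⟨ha, ha1⟩) (⟨hb, hb1⟩ | ⟨hb, hb1⟩)
        · exact Or.inl ⟨T0.mul_mem ha hb, by rw [hψmul a ha b hb, ha1, hb1, one_mul]⟩
        · refine Or.inr ?_
          have e1 : a * b * u = a * (b * u) := by group
          rw [e1]
          exact ⟨T0.mul_mem ha hb, by rw [hψmul a ha _ hb, ha1, hb1, one_mul]⟩
        · refine Or.inr ?_
          have e1 : a * b * u = (a * u) * (u * b * u⁻¹) := by
            rw [huinv]
            calc a * b * u = a * (u * u) * b * u := by rw [hu2]; group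
              _ = a * u * (u * b * u) := by group
          rw [e1, hconjT0 b hb]
          exact ⟨T0.mul_mem ha (hzeT0 b hb),
            by rw [hψmul _ ha _ (hzeT0 b hb), ha1, hψe b hb, hb1, one_mul]⟩
        · refine Or.inl ?_
          have e1 : a * b = (a * u) * (u * (b * u) * u⁻¹) := by
            rw [huinv]
            calc a * b = a * (u * u) * b * (u * u) := by rw [hu2]; group
              _ = a * u * (u * (b * u) * u) := by group
          rw [e1, hconjT0 _ hb]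
          exact ⟨T0.mul_mem ha (hzeT0 _ hb),
            by rw [hψmul _ ha _ (hzeT0 _ hb), ha1, hψe _ hb, hb1, one_mul]⟩
      inv_mem' := by
        rintro a (⟨ha, ha1⟩ | ⟨ha, ha1⟩)
        · exact Or.inl ⟨T0.inv_mem ha, hψinv a ha ha1⟩
        · refine Or.inr ?_
          have e1 : a⁻¹ * u = u * (a * u)⁻¹ * u⁻¹ := by
            rw [huinv]
            calc a⁻¹ * u = (u * u) * a⁻¹ * u := by rw [hu2]; group
              _ = u * (a * u)⁻¹ * u := by
                rw [mul_inv_rev, huinv]; group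
          rw [e1, hconjT0 _ (T0.inv_mem ha)]
          exact ⟨hzeT0 _ (T0.inv_mem ha), by rw [hψe _ (T0.inv_mem ha)]; exact hψinv _ ha ha1⟩ }
  have hmemM : ∀ s, s ∈ M ↔ (s ∈ T0 ∧ ψ s = 1) ∨ (s * u ∈ T0 ∧ ψ (s * u) = 1) := fun s => Iff.rfl
  have hMT : M ≤ (T : Subgroup G) := by
    rintro s (⟨hs, -⟩ | ⟨hs, -⟩)
    · exact hT0T hs
    · have : s = (s * u) * u⁻¹ := by group
      rw [this]
      exact (T : Subgroup G).mul_mem (hT0T hs) ((T : Subgroup G).inv_mem huT)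
  -- index two
  have hrelM : M.relIndex (T : Subgroup G) = 2 := by
    rw [Subgroup.relIndex_eq_two_iff]
    refine ⟨x, hT0T hxT0, ?_⟩
    intro b hb
    by_cases hb0 : b ∈ T0
    · have hbx : b * x ∈ T0 := T0.mul_mem hb0 hxT0
      have hψbx : ψ (b * x) = ψ b * t := by rw [hψmul b hb0 x hxT0, hψx]
      rcases hψcase b hb0 with h1 | h1
      · -- b ∈ M, b x ∉ M
        refine Or.inr ⟨(hmemM b).2 (Or.inl ⟨hb0, h1⟩), ?_⟩
        rw [hmemM]
        rintro (⟨-, h3⟩ | ⟨h3, -⟩)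
        · rw [hψbx, h1, one_mul] at h3; exact ht1 h3
        · exact hnotboth _ hbx h3
      · refine Or.inl ⟨(hmemM _).2 (Or.inl ⟨hbx, by rw [hψbx, h1, htt]⟩), ?_⟩
        rw [hmemM]
        rintro (⟨-, h3⟩ | ⟨h3, -⟩)
        · rw [h1] at h3; exact ht1 h3
        · exact hnotboth _ hb0 h3
    · have hz : b * u ∈ T0 := hout b hb hb0
      have e1 : b * x * u = (b * u) * (u * x * u⁻¹) := by
        rw [huinv]
        calc b * x * u = b * (u * u) * x * u := by rw [hu2]; group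
          _ = b * u * (u * x * u) := by group
      have hbxu : b * x * u ∈ T0 := by
        rw [e1, hconjT0 x hxT0]; exact T0.mul_mem hz (hzeT0 x hxT0)
      have hψbxu : ψ (b * x * u) = ψ (b * u) * t := by
        rw [e1, hconjT0 x hxT0, hψmul _ hz _ (hzeT0 x hxT0), hψe x hxT0, hψx]
      have hbx0 : b * x ∉ T0 := by
        intro h0
        apply hb0
        have : b = (b * x) * x⁻¹ := by group
        rw [this]; exact T0.mul_mem h0 (T0.inv_mem hxT0)
      rcases hψcase _ hz with h1 | h1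
      · refine Or.inr ⟨(hmemM b).2 (Or.inr ⟨hz, h1⟩), ?_⟩
        rw [hmemM]
        rintro (⟨h3, -⟩ | ⟨-, h3⟩)
        · exact hbx0 h3
        · rw [hψbxu, h1, one_mul] at h3; exact ht1 h3
      · refine Or.inl ⟨(hmemM _).2 (Or.inr ⟨hbxu, by rw [hψbxu, h1, htt]⟩), ?_⟩
        rw [hmemM]
        rintro (⟨h3, -⟩ | ⟨-, h3⟩)
        · exact hb0 h3
        · rw [h1] at h3; exact ht1 h3
  -- powers
  have hEl : ∀ s : G, ψ s = (s ^ 2 ^ (l + 1)) ^ e' := by
    intro s
    show (s ^ (1 + e)) ^ 2 ^ l = (s ^ 2 ^ (l + 1)) ^ e'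
    rw [← zpow_natCast, ← zpow_natCast, ← zpow_mul, ← zpow_mul, he']
    congr 1
    push_cast
    ring
  have hsqpow : ∀ z ∈ T0, (z * u) ^ 2 ^ (l + 1) = ψ z := by
    intro z hz
    show (z * u) ^ 2 ^ (l + 1) = (z ^ (1 + e)) ^ 2 ^ l
    rw [pow_succ', pow_mul, pow_two, hsq z (hT0A hz)]
  -- order condition
  have hord : ∀ s ∈ (T : Subgroup G), s ∉ M → 2 ^ (l + 2 - 1) < orderOf s := by
    intro s hs hsM
    have e0 : l + 2 - 1 = l + 1 := by omega
    rw [e0]
    apply lt_orderOf_of_pow_ne (hT02 s hs)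
    intro h0
    apply hsM
    rw [hmemM]
    by_cases hs0 : s ∈ T0
    · exact Or.inl ⟨hs0, by rw [hEl, h0, one_zpow]⟩
    · have hz := hout s hs hs0
      refine Or.inr ⟨hz, ?_⟩
      have h3 := hsqpow _ hz
      have e2 : s * u * u = s := by rw [mul_assoc, hu2, mul_one]
      rw [e2, h0] at h3
      exact h3.symm
  -- the element `y = x * u` of order `2^(l+2)`
  set y : G := x * u with hy
  have hyT : y ∈ (T : Subgroup G) := (T : Subgroup G).mul_mem (hT0T hxT0) huT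
  have hy2 : y ^ 2 = c := by rw [pow_two, hy, hsq x (hT0A hxT0)]
  have hyo : orderOf y = 2 ^ (l + 2) := by
    have e1 : l + 2 = (l + 1) + 1 := by ring
    rw [e1]
    apply orderOf_eq_prime_pow
    · rw [hsqpow x hxT0, hψx]; exact ht1
    · rw [pow_succ', pow_mul, hy2, ← hl', pow_orderOf_eq_one]
  have hev : Even (Nat.card G) := by
    rw [h.card]
    exact ⟨q * n * m, by ring⟩
  obtain ⟨g, hg⟩ := Cfsg.Agent.S3225.result hev h2 T M hMT hrelM (l + 2) (by omega) hord y hyT hyo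
  -- the conjugate lies in `T0`
  have hgA : g * y * g⁻¹ ∈ A0 := by
    rcases (hmemM _).1 hg with ⟨h1, -⟩ | ⟨h1, h3⟩
    · exact hT0A h1
    · exfalso
      have h4 := hsqpow _ h1
      have e2 : g * y * g⁻¹ * u * u = g * y * g⁻¹ := by rw [mul_assoc, hu2, mul_one]
      rw [e2, h3] at h4
      have h5 : orderOf (g * y * g⁻¹) ∣ 2 ^ (l + 1) := orderOf_dvd_of_pow_eq_one h4
      rw [orderOf_conj_eq, hyo] at h5
      have := Nat.le_of_dvd (by positivity) h5
      have : 2 ^ (l + 1) < 2 ^ (l + 2) := Nat.pow_lt_pow_right (by norm_num) (by omega)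
      omega
  have hpow : y ^ 2 ^ (l + 2 - 1) ∈ A0 := by
    have e0 : l + 2 - 1 = l + 1 := by omega
    rw [e0, hsqpow x hxT0]
    exact hψA x hxT0
  have hyA : y ∈ A0 := mem_of_conj_mem h hC (by omega) hyo hpow hgA
  apply huA
  have : u = x⁻¹ * y := by rw [hy]; group
  rw [this]
  exact A0.mul_mem (A0.inv_mem (hT0A hxT0)) hyA

end Cfsg.Agent.Lib.Helper9.OS
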