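import Mathlib
import Cfsg.Agent.Lib.Helper3.RIBasic
import Cfsg.Agent.Lib.Helper3.RIG1

set_option autoImplicit false
set_option maxHeartbeats 4000000
set_option maxRecDepth 100000
set_option linter.unusedVariables false
set_option linter.unusedSectionVars false
set_option linter.style.longLine false
set_option linter.style.haveILetI false
set_option linter.unusedSimpArgs false
set_option linter.unnecessarySimpa false

/-! S5047 piece P4 (helper9): the conjugates of `b` under `<a x>` commute. -/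

namespace Cfsg.Agent.Lib.Helper5.RI47

open Cfsg Cfsg.Agent.Lib.Helper3.RootInv

universe u

variable {G : Type u} [Group G]

variable {D : Set G}

/-- `a ρ^n a⁻¹ = (ρ^n)⁻¹` for `ρ = a x`, `a, x` involutions -/
theorem h9_comm_aux_inv {a x : G} (aa : a * a = 1) (xx : x * x = 1) (n : ℕ) :
    a * (a * x) ^ n * a⁻¹ = ((a * x) ^ n)⁻¹ := by
  have h1 : a * (a * x) * a⁻¹ = (a * x)⁻¹ := by
    have ainv : a⁻¹ = a := inv_eq_of_mul_eq_one_left aa
    have xinv : x⁻¹ = x := inv_eq_of_mul_eq_one_left xx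
    rw [mul_inv_rev, ainv, xinv, ← mul_assoc a a x, aa, one_mul]
  rw [← conj_pow, h1, inv_pow]

theorem h9_comm_aux_conj {R a b : G} (aa : a * a = 1) (hab : a * b = b * a) (hd : (R * a)⁻¹ = R * a) :
    R * b * R⁻¹ = (R * a) * b * (R * a) := by
  have ainv : a⁻¹ = a := inv_eq_of_mul_eq_one_left aa
  have h : (R * a) * b * (R * a)⁻¹ = R * b * R⁻¹ := by
    rw [mul_inv_rev, ainv]
    calc R * a * b * (a * R⁻¹) = R * (a * b * a) * R⁻¹ := by simp only [mul_assoc]
      _ = R * b * R⁻¹ := by rw [hab, mul_assoc b a a, aa, mul_one]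
  rw [← h, hd]

/-- every involution `ρ^i a` of the dihedral group `<a, x>` (`ρ = a x` of odd order) is a member of `D` -/
theorem rho_pow_mul_mem (hD : IsRootInvolutionSet D) {a x : G} (ha : a ∈ D) (hx : x ∈ D)
    (hodd : Odd (orderOf (a * x))) (i : ℕ) : (a * x) ^ i * a ∈ D := by
  have aa := sq_one hD ha
  have xx := sq_one hD hx
  obtain ⟨m, hm⟩ := hodd
  -- j = i * (m + 1), 2 j = i * (k + 1)
  have h2 : (a * x) ^ (i * (m + 1)) * (a * x) ^ (i * (m + 1)) = (a * x) ^ i := by
    rw [← pow_add]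
    have : i * (m + 1) + i * (m + 1) = orderOf (a * x) * i + i := by rw [hm]; ring
    rw [this, pow_add, pow_mul, pow_orderOf_eq_one, one_pow, one_mul]
  have h3 : (a * x) ^ (i * (m + 1)) * a * ((a * x) ^ (i * (m + 1)))⁻¹ = (a * x) ^ i * a := by
    have h4 := h9_comm_aux_inv aa xx (i * (m + 1))
    -- a * g * a⁻¹ = g⁻¹  =>  a * g⁻¹ = g * a
    have h5 : a * ((a * x) ^ (i * (m + 1)))⁻¹ = (a * x) ^ (i * (m + 1)) * a := by
      have h6 : a * ((a * x) ^ (i * (m + 1)))⁻¹ * a⁻¹ = (a * x) ^ (i * (m + 1)) := by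
        have := congrArg (fun t => t⁻¹) h4
        simp only [mul_inv_rev, inv_inv] at this
        rw [← mul_assoc] at this
        exact this
      calc a * ((a * x) ^ (i * (m + 1)))⁻¹ = a * ((a * x) ^ (i * (m + 1)))⁻¹ * a⁻¹ * a := by
            rw [inv_mul_cancel_right]
        _ = (a * x) ^ (i * (m + 1)) * a := by rw [h6]
    rw [mul_assoc, h5, ← mul_assoc, h2]
  rw [← h3]
  exact conj_mem hD ha _

theorem conj_comm (hD : IsRootInvolutionSet D) {a b x : G} (ha : a ∈ D) (hb : b ∈ D) (hx : x ∈ D)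
    (hab : a * b = b * a) (hp : b * a ∈ D) (hax : OddAdj D a x) (hbx : orderOf (b * x) = 4) :
    ∀ i : ℕ, b * ((a * x) ^ i * b * ((a * x) ^ i)⁻¹) = ((a * x) ^ i * b * ((a * x) ^ i)⁻¹) * b := by
  have aa := sq_one hD ha
  have bb := sq_one hD hb
  have xx := sq_one hD hx
  have ainv := inv_eq hD ha
  have xinv := inv_eq hD hx
  obtain ⟨_, _, hne, hodd⟩ := hax
  -- base pair (b, b_1)
  obtain ⟨hs0, hs0b, hs0x, hxbx, _, _, _⟩ := four_facts hD hb hx hbx
  -- hs0b : (b*x)^2 * b = b * (b*x)^2 ; hxbx : x * b * x = b * (b*x)^2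
  generalize hs0_def : (b * x) ^ 2 = s0 at *
  have hb1 : (a * x) * b * (a * x)⁻¹ = b * (a * s0 * a) := by
    rw [mul_inv_rev, ainv, xinv]
    calc a * x * b * (x * a) = a * (x * b * x) * a := by simp only [mul_assoc]
      _ = a * (b * s0) * a := by rw [hxbx]
      _ = b * (a * s0 * a) := by
          simp only [← mul_assoc]; rw [hab]
  have hsD : a * s0 * a ∈ D := conj_inv_mem hD hs0 ha
  have hsb : b * (a * s0 * a) = (a * s0 * a) * b := by
    calc b * (a * s0 * a) = a * (b * s0) * a := by simp only [← mul_assoc]; rw [hab]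
      _ = a * (s0 * b) * a := by rw [hs0b]
      _ = (a * s0 * a) * b := by simp only [mul_assoc]; rw [hab]
  -- b commutes with b_1 and b * b_1 ∈ D
  generalize a * s0 * a = s at *
  have hbb1 : b * ((a * x) * b * (a * x)⁻¹) = ((a * x) * b * (a * x)⁻¹) * b := by
    rw [hb1]
    calc b * (b * s) = s := by rw [← mul_assoc, bb, one_mul]
      _ = b * s * b := by rw [hsb, mul_assoc s b b, bb, mul_one]
  have hbb1D : b * ((a * x) * b * (a * x)⁻¹) ∈ D := by
    rw [hb1, ← mul_assoc, bb, one_mul]; exact hsD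
  intro i
  induction i with
  | zero => simp
  | succ i ih =>
    set g := (a * x) ^ i with hg
    have hpow : (a * x) ^ (i + 1) = g * (a * x) := pow_succ _ _
    have hv : (a * x) ^ (i + 1) * b * ((a * x) ^ (i + 1))⁻¹ = g * ((a * x) * b * (a * x)⁻¹) * g⁻¹ := by
      rw [hpow, mul_inv_rev]; simp only [mul_assoc]
    have huD : g * b * g⁻¹ ∈ D := conj_mem hD hb g
    have hvD : (a * x) ^ (i + 1) * b * ((a * x) ^ (i + 1))⁻¹ ∈ D := conj_mem hD hb _
    have hconj : ∀ (y z : G), g * (y * z) * g⁻¹ = (g * y * g⁻¹) * (g * z * g⁻¹) := by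
      intro y z; group
    have huv : (g * b * g⁻¹) * ((a * x) ^ (i + 1) * b * ((a * x) ^ (i + 1))⁻¹) =
        ((a * x) ^ (i + 1) * b * ((a * x) ^ (i + 1))⁻¹) * (g * b * g⁻¹) := by
      rw [hv, ← hconj, ← hconj, hbb1]
    have huvD : (g * b * g⁻¹) * ((a * x) ^ (i + 1) * b * ((a * x) ^ (i + 1))⁻¹) ∈ D := by
      rw [hv, ← hconj]; exact conj_mem hD hbb1D g
    have hno : ¬ OddAdj D b ((a * x) ^ (i + 1) * b * ((a * x) ^ (i + 1))⁻¹) :=
      g1 hD huD hvD huv huvD hb ih
    -- d = ρ^(i+1) a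
    have hdD : (a * x) ^ (i + 1) * a ∈ D := rho_pow_mul_mem hD ha hx hodd (i + 1)
    have hdinv := inv_eq hD hdD
    have hdd := sq_one hD hdD
    have hbd : (a * x) ^ (i + 1) * b * ((a * x) ^ (i + 1))⁻¹ =
        ((a * x) ^ (i + 1) * a) * b * ((a * x) ^ (i + 1) * a) := h9_comm_aux_conj aa hab hdinv
    rcases tri hD hb hdD with h | h | h
    · -- commute: b_{i+1} = b
      rw [hbd, ← h, mul_assoc, hdd, mul_one]
    · exfalso
      apply hno
      obtain ⟨_, _, hne', hodd'⟩ := h
      refine ⟨hb, hvD, ?_, ?_⟩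
      · intro heq
        -- (b d)^2 = 1 with odd order => b d = 1
        have hsq : (b * ((a * x) ^ (i + 1) * a)) ^ 2 = 1 := by
          rw [pow_two]
          calc b * ((a * x) ^ (i + 1) * a) * (b * ((a * x) ^ (i + 1) * a))
              = b * (((a * x) ^ (i + 1) * a) * b * ((a * x) ^ (i + 1) * a)) := by simp only [mul_assoc]
            _ = 1 := by rw [← hbd, ← heq, bb]
        have hdvd : orderOf (b * ((a * x) ^ (i + 1) * a)) ∣ 2 := orderOf_dvd_of_pow_eq_one hsq
        have h1 : orderOf (b * ((a * x) ^ (i + 1) * a)) = 1 := by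
          rcases (Nat.dvd_prime Nat.prime_two).1 hdvd with h | h
          · exact h
          · rw [h] at hodd'; exact absurd hodd' (by decide)
        rw [orderOf_eq_one_iff] at h1
        apply hne'
        have h3 : b * ((a * x) ^ (i + 1) * a) * ((a * x) ^ (i + 1) * a) = (a * x) ^ (i + 1) * a := by
          rw [h1, one_mul]
        rwa [mul_assoc, hdd, mul_one] at h3
      · have : b * ((a * x) ^ (i + 1) * b * ((a * x) ^ (i + 1))⁻¹) = (b * ((a * x) ^ (i + 1) * a)) ^ 2 := by
          rw [hbd, pow_two]; simp only [mul_assoc]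
        rw [this]
        exact Odd.of_dvd_nat hodd' (orderOf_pow_dvd 2)
    · obtain ⟨_, ht, _, hdbd, _, _, _⟩ := four_facts hD hb hdD h
      -- ht : (b d)^2 * b = b * (b d)^2 ; hdbd : d * b * d = b * (b d)^2
      rw [hbd, hdbd]
      generalize (b * ((a * x) ^ (i + 1) * a)) ^ 2 = t at *
      calc b * (b * t) = t := by rw [← mul_assoc, bb, one_mul]
        _ = b * t * b := by rw [← ht, mul_assoc t b b, bb, mul_one]
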