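import Mathlib
import Cfsg.Agent.Lib.Helper3.RIBasic
import Cfsg.Agent.Lib.Helper3.RIG1
import Cfsg.Agent.Lib.Helper9.RI47Comm
import Cfsg.Agent.Lib.Helper4.RI47Mod
import Cfsg.Agent.Lib.Helper5.RI47Setup
import Cfsg.Agent.Lib.Helper7.RI47Per

/-! S5047 piece P6 (helper9): the iterates `phi^m b` are members of `D`; the element `n` with `(a n)^2 = b`. -/

set_option autoImplicit false
set_option maxHeartbeats 4000000
set_option maxRecDepth 100000
set_option linter.unusedVariables false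
set_option linter.unusedSectionVars false
set_option linter.style.longLine false
set_option linter.style.haveILetI false
set_option linter.unusedSimpArgs false
set_option linter.unnecessarySimpa false

namespace Cfsg.Agent.Lib.Helper5.RI47

open Cfsg Cfsg.Agent.Lib.Helper3.RootInv

universe u

variable {G : Type u} [Group G]

variable {D : Set G}

/-- all iterates `phi^m b` are members of `D` -/
theorem iterate_mem (hD : IsRootInvolutionSet D) {a b x : G} (ha : a ∈ D) (hb : b ∈ D) (hx : x ∈ D)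
    (hodd : Odd (orderOf (a * x)))
    (hcomm : ∀ i : ℕ, b * ((a * x) ^ i * b * ((a * x) ^ i)⁻¹) = ((a * x) ^ i * b * ((a * x) ^ i)⁻¹) * b)
    (hP : ∀ m : ℕ, (phi (a * x))^[m] b ∈ N0 (a * x) b ∧ (phi (a * x))^[m] b ≠ 1 ∧
        a * (phi (a * x))^[m] b * a = ((a * x) ^ m)⁻¹ * (phi (a * x))^[m] b * (a * x) ^ m) :
    ∀ m : ℕ, (phi (a * x))^[m] b ∈ D := by
  have aa := sq_one hD ha
  have bb := sq_one hD hb
  have ainv := inv_eq hD ha
  intro m
  induction m with
  | zero => simpa using hb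
  | succ m ih =>
    obtain ⟨hpN, hp1, hpa⟩ := hP m
    obtain ⟨hqN, hq1, _⟩ := hP (m + 1)
    rw [Function.iterate_succ_apply'] at hqN hq1 ⊢
    generalize (phi (a * x))^[m] b = p at *
    have pp := sq_one hD ih
    have hdD : (a * x) ^ (m + 1) * a ∈ D := rho_pow_mul_mem hD ha hx hodd (m + 1)
    have hdinv := inv_eq hD hdD
    have hdd := sq_one hD hdD
    -- d p d = ρ p ρ⁻¹
    have hdp : ((a * x) ^ (m + 1) * a) * p * ((a * x) ^ (m + 1) * a) = (a * x) * p * (a * x)⁻¹ := by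
      have e : ((a * x) ^ (m + 1) * a) * p * ((a * x) ^ (m + 1) * a) =
          ((a * x) ^ (m + 1) * a) * p * ((a * x) ^ (m + 1) * a)⁻¹ := by rw [hdinv]
      rw [e, mul_inv_rev, ainv]
      calc (a * x) ^ (m + 1) * a * p * (a * ((a * x) ^ (m + 1))⁻¹)
          = (a * x) ^ (m + 1) * (a * p * a) * ((a * x) ^ (m + 1))⁻¹ := by simp only [mul_assoc]
        _ = (a * x) ^ (m + 1) * (((a * x) ^ m)⁻¹ * p * (a * x) ^ m) * ((a * x) ^ (m + 1))⁻¹ := by rw [hpa]
        _ = (a * x) * p * (a * x)⁻¹ := by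
            rw [pow_succ', mul_inv_rev]
            simp only [mul_assoc]
            rw [mul_inv_cancel_left, mul_inv_cancel_left]
    have hphi : phi (a * x) p = (p * ((a * x) ^ (m + 1) * a)) ^ 2 := by
      unfold phi
      rw [← hdp, pow_two]; simp only [mul_assoc]
    rw [hphi] at hqN hq1 ⊢
    rcases hD.pair p ih _ hdD with h | h | ⟨_, h⟩
    · exfalso
      apply hq1
      rw [pow_two]
      calc p * ((a * x) ^ (m + 1) * a) * (p * ((a * x) ^ (m + 1) * a))
          = p * ((a * x) ^ (m + 1) * a) * (((a * x) ^ (m + 1) * a) * p) := by rw [h]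
        _ = p * (((a * x) ^ (m + 1) * a) * ((a * x) ^ (m + 1) * a)) * p := by simp only [mul_assoc]
        _ = 1 := by rw [hdd, mul_one, pp]
    · exfalso
      apply hq1
      have hsq := N0_sq bb hcomm hqN
      have h4 : (p * ((a * x) ^ (m + 1) * a)) ^ 4 = 1 := by
        have : (p * ((a * x) ^ (m + 1) * a)) ^ 4 =
            (p * ((a * x) ^ (m + 1) * a)) ^ 2 * (p * ((a * x) ^ (m + 1) * a)) ^ 2 := by
          rw [← pow_add]
        rw [this, hsq]
      have hdvd : orderOf (p * ((a * x) ^ (m + 1) * a)) ∣ 4 := orderOf_dvd_of_pow_eq_one h4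
      have h1 : orderOf (p * ((a * x) ^ (m + 1) * a)) = 1 := by
        have hcop : Nat.Coprime (orderOf (p * ((a * x) ^ (m + 1) * a))) 4 := by
          have : (4 : ℕ) = 2 ^ 2 := by norm_num
          rw [this]; exact Nat.Coprime.pow_right 2 h.coprime_two_right
        exact Nat.Coprime.eq_one_of_dvd hcop hdvd
      rw [orderOf_eq_one_iff] at h1
      rw [h1, one_pow]
    · exact h

theorem exists_n [Finite G] (hD : IsRootInvolutionSet D) (hc : IsConnectedSet (OddAdj D) D) {a b : G}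
    (ha : a ∈ D) (hb : b ∈ productPartners D a) (hbE : b ∉ sameCommutingClass D a) :
    ∃ n ∈ D, n * b = b * n ∧ (a * n) ^ 2 = b := by
  obtain ⟨x, hx, hax, hbx, hcx⟩ := exists_x hD hc ha hb hbE
  obtain ⟨⟨hbD, hba, hbne⟩, hbaD⟩ := hb
  have aa := sq_one hD ha
  have bb := sq_one hD hbD
  have xx := sq_one hD hx
  have ainv := inv_eq hD ha
  have xinv := inv_eq hD hx
  have hab : a * b = b * a := hba.symm
  have hcomm := conj_comm hD ha hbD hx hab hbaD hax hbx
  have hρodd : Odd (orderOf (a * x)) := hax.2.2.2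
  have haρ : a * (a * x) * a = (a * x)⁻¹ := by
    rw [mul_inv_rev, ainv, xinv, ← mul_assoc a a x, aa, one_mul]
  have hodd' : Odd (orderOf (b * (a * x))) := by rw [← mul_assoc]; exact hcx
  obtain ⟨r, hr0, hrb, hP⟩ := module_periodic aa bb (ne_one hD hbD) hab haρ hρodd hcomm hodd'
  have hmem := iterate_mem hD ha hbD hx hρodd hcomm (fun m => ⟨(hP m).1, (hP m).2.1, (hP m).2.2.1⟩)
  obtain ⟨k, rfl⟩ : ∃ k, r = k + 1 := ⟨r - 1, by omega⟩
  obtain ⟨hnN, hn1, hna, hnr⟩ := hP k
  have hnD := hmem k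
  rw [Function.iterate_succ_apply'] at hrb
  generalize (phi (a * x))^[k] b = n at *
  refine ⟨n, hnD, N0_comm hcomm hnN (b_mem_N0 _ _), ?_⟩
  -- (a n)^2 = (a n a) n = ρ^-k n ρ^k * n = ρ n ρ⁻¹ * n
  have h1 : ((a * x) ^ k)⁻¹ * n * (a * x) ^ k = (a * x) * n * (a * x)⁻¹ := by
    -- ρ^(k+1) n = n ρ^(k+1)
    have h2 : (a * x) ^ (k + 1) * n * ((a * x) ^ (k + 1))⁻¹ = n := by
      rw [hnr, mul_assoc, mul_inv_cancel, mul_one]
    calc ((a * x) ^ k)⁻¹ * n * (a * x) ^ k
        = ((a * x) ^ k)⁻¹ * ((a * x) ^ (k + 1) * n * ((a * x) ^ (k + 1))⁻¹) * (a * x) ^ k := by rw [h2]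
      _ = (a * x) * n * (a * x)⁻¹ := by
          rw [pow_succ, mul_inv_rev]
          simp only [mul_assoc]
          rw [inv_mul_cancel_left, inv_mul_cancel, mul_one]
  have hconjN : (a * x) * n * (a * x)⁻¹ ∈ N0 (a * x) b := N0_conj hnN
  rw [pow_two]
  calc a * n * (a * n) = (a * n * a) * n := by simp only [mul_assoc]
    _ = ((a * x) * n * (a * x)⁻¹) * n := by rw [hna, h1]
    _ = n * ((a * x) * n * (a * x)⁻¹) := N0_comm hcomm hconjN hnN
    _ = b := hrb

end Cfsg.Agent.Lib.Helper5.RI47
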