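import Mathlib
import Cfsg.Prelude.Def_Blocks
import Cfsg.Agent.S2311
import Cfsg.Agent.S2313
import Cfsg.Agent.S2327
import Cfsg.Agent.S2328
import Cfsg.Agent.Lib.Helper5.ChevSylow
import Cfsg.Agent.Lib.Helper5.ChevUCard

/-!
# S2318 farm, unit ST: the Steinberg inputs of Part III

For `D` one of the seven data, `G = ↥(D.group F)`, `St = D.steinbergCharacter F`,
`Bg = (D.borelSubgroup F).subgroupOf (D.group F)`, `Ug = (D.posUnipotent F).subgroupOf (D.group F)`:
* `st_irr`: `St` is irreducible;
* `st_borel`: `⟨St|_Bg, 1⟩ = 1`;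
* `st_uni`: `⟨St|_Ug, ψ⟩ = 1` for every linear character `ψ` of `Ug`;
* `st_degree`, `card_Ug`, `pow_factorization_eq`: `St 1 = |Ug| = p ^ ν_p |G|`.
-/

set_option autoImplicit false

namespace Cfsg.Agent.Lib.Helper9.ChST

open Cfsg Cfsg.Lie Cfsg.Agent.Lib.Helper5.ChevStruct
open scoped ComplexConjugate

/-- Burnside: the permutation character on `K ⧸ H` contains the trivial character exactly once. -/
theorem classInner_fixedPointCharacter_one {K : Type*} [Group K] [Fintype K] (H : Subgroup K) :
    classInner (fixedPointCharacter H) (fun _ : K => (1 : ℂ)) = 1 := by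
  classical
  have : Fintype (K ⧸ H) := Fintype.ofFinite _
  have : Fintype (Quotient (MulAction.orbitRel K (K ⧸ H))) := Fintype.ofFinite _
  unfold classInner fixedPointCharacter
  have hb := MulAction.sum_card_fixedBy_eq_card_orbits_mul_card_group K (K ⧸ H)
  have horb : Fintype.card (Quotient (MulAction.orbitRel K (K ⧸ H))) = 1 := by
    rw [Fintype.card_eq_one_iff]
    refine ⟨Quotient.mk'' ((1 : K) : K ⧸ H), ?_⟩
    intro y
    induction y using Quotient.inductionOn' with
    | h a =>
      apply Quotient.sound'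
      exact MulAction.exists_smul_eq K _ _
  rw [horb, one_mul] at hb
  have hsum : ∑ g : K, (Nat.card (MulAction.fixedBy (K ⧸ H) g) : ℂ) * conj (1 : ℂ)
      = (Fintype.card K : ℂ) := by
    rw [← hb]
    push_cast
    apply Finset.sum_congr rfl
    intro g _
    rw [map_one, mul_one, Nat.card_eq_fintype_card]
  rw [hsum, Nat.card_eq_fintype_card]
  have : (Fintype.card K : ℂ) ≠ 0 := by
    have : Fintype.card K ≠ 0 := Fintype.card_ne_zero
    exact_mod_cast this
  field_simp

section chev

variable {F : Type*} [Field F] [Fintype F]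

/-- (st1) `St` is irreducible. -/
theorem st_irr (D : ChevalleyDatum) (hD : D ∈ Seven) :
    IsIrrCharacter ↥(D.group F) (D.steinbergCharacter F) :=
  Cfsg.Agent.S2311.result D hD

/-- (st2) `⟨St|_B, 1⟩ = 1`. -/
theorem st_borel_eq (D : ChevalleyDatum) (hD : D ∈ Seven)
    [Fintype ↥((D.borelSubgroup F).subgroupOf (D.group F))] :
    classInner (fun b : ↥((D.borelSubgroup F).subgroupOf (D.group F)) =>
      D.steinbergCharacter F b) (fun _ => (1 : ℂ)) = 1 := by
  have h : (fun b : ↥((D.borelSubgroup F).subgroupOf (D.group F)) => D.steinbergCharacter F b)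
      = fixedPointCharacter (((D.diagonalSubgroup F).subgroupOf (D.group F)).subgroupOf
          ((D.borelSubgroup F).subgroupOf (D.group F))) := by
    funext b
    exact Cfsg.Agent.S2313.result D hD b
  rw [h]
  exact classInner_fixedPointCharacter_one _

theorem st_borel (D : ChevalleyDatum) (hD : D ∈ Seven)
    [Fintype ↥((D.borelSubgroup F).subgroupOf (D.group F))] :
    1 ≤ (classInner (fun b : ↥((D.borelSubgroup F).subgroupOf (D.group F)) =>
      D.steinbergCharacter F b) (fun _ => (1 : ℂ))).re := by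
  rw [st_borel_eq D hD]
  simp

/-- `|Ug| = q^N`. -/
theorem card_Ug (D : ChevalleyDatum) (hD : D ∈ Seven) :
    Nat.card ↥((D.posUnipotent F).subgroupOf (D.group F)) = Fintype.card F ^ (D.nroots / 2) := by
  rw [← card_posUnipotent (F := F) D hD]
  exact Nat.card_congr (Subgroup.subgroupOfEquivOfLe (pos_le_group D hD)).toEquiv

/-- (st4) `St 1 = |Ug|`. -/
theorem st_degree (D : ChevalleyDatum) (hD : D ∈ Seven) :
    D.steinbergCharacter F 1 = (Nat.card ↥((D.posUnipotent F).subgroupOf (D.group F)) : ℂ) := by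
  rw [Cfsg.Agent.S2327.result D hD, card_Ug D hD]
  push_cast
  rfl

/-- `|Ug| = p ^ ν_p |G|`. -/
theorem pow_factorization_eq (p : ℕ) [Fact p.Prime] [CharP F p] (D : ChevalleyDatum)
    (hD : D ∈ Seven) :
    p ^ (Nat.card ↥(D.group F)).factorization p
      = Nat.card ↥((D.posUnipotent F).subgroupOf (D.group F)) := by
  obtain ⟨P, hP⟩ := pos_isSylow (F := F) p D hD
  rw [← hP]
  exact (P.card_eq_multiplicity).symm

/-- `St` vanishes on `Ug ∖ 1`. -/
theorem st_vanish (p : ℕ) [Fact p.Prime] [CharP F p] (D : ChevalleyDatum) (hD : D ∈ Seven)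
    (u : ↥(D.group F)) (hu : u ∈ (D.posUnipotent F).subgroupOf (D.group F)) (hu1 : u ≠ 1) :
    D.steinbergCharacter F u = 0 := by
  have hp : p.Prime := Fact.out
  obtain ⟨P, hP⟩ := pos_isSylow (F := F) p D hD
  apply Cfsg.Agent.S2328.result p D hD u
  have hPg : IsPGroup p (P : Subgroup ↥(D.group F)) := P.isPGroup'
  rw [hP] at hPg
  obtain ⟨k, hk⟩ := hPg ⟨u, hu⟩
  have hk' : u ^ p ^ k = 1 := by
    have := congrArg Subtype.val hk
    simpa using this
  have h3 : orderOf u ∣ p ^ k := orderOf_dvd_of_pow_eq_one hk'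
  obtain ⟨j, _, hj⟩ := (Nat.dvd_prime_pow hp).mp h3
  rcases Nat.eq_zero_or_pos j with h0 | h0
  · exfalso
    rw [h0, pow_zero, orderOf_eq_one_iff] at hj
    exact hu1 hj
  · rw [hj]
    exact dvd_pow_self p h0.ne'

/-- (st3) `⟨St|_U, ψ⟩ = 1` for every linear character `ψ` of `U`. -/
theorem st_uni_eq (p : ℕ) [Fact p.Prime] [CharP F p] (D : ChevalleyDatum) (hD : D ∈ Seven)
    [Fintype ↥((D.posUnipotent F).subgroupOf (D.group F))]
    (ψ : ↥((D.posUnipotent F).subgroupOf (D.group F)) →* ℂˣ) :
    classInner (fun u : ↥((D.posUnipotent F).subgroupOf (D.group F)) =>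
      D.steinbergCharacter F u) (fun u => ((ψ u : ℂˣ) : ℂ)) = 1 := by
  classical
  unfold classInner
  have hterm : ∀ u : ↥((D.posUnipotent F).subgroupOf (D.group F)),
      D.steinbergCharacter F u * conj ((ψ u : ℂˣ) : ℂ)
        = if u = 1 then (Nat.card ↥((D.posUnipotent F).subgroupOf (D.group F)) : ℂ) else 0 := by
    intro u
    by_cases h : u = 1
    · rw [if_pos h, h, map_one]
      simp only [Subgroup.coe_one, Units.val_one, map_one, mul_one]
      exact st_degree D hD
    · rw [if_neg h]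
      have h' : (u : ↥(D.group F)) ≠ 1 := by
        intro h1
        apply h
        exact Subtype.ext h1
      rw [st_vanish p D hD (u : ↥(D.group F)) u.2 h', zero_mul]
  rw [Finset.sum_congr rfl (fun u _ => hterm u), Finset.sum_ite_eq' Finset.univ 1]
  simp only [Finset.mem_univ, if_true]
  have : (Nat.card ↥((D.posUnipotent F).subgroupOf (D.group F)) : ℂ) ≠ 0 := by
    have : Nat.card ↥((D.posUnipotent F).subgroupOf (D.group F)) ≠ 0 := Nat.card_pos.ne'
    exact_mod_cast this
  field_simp

theorem st_uni (p : ℕ) [Fact p.Prime] [CharP F p] (D : ChevalleyDatum) (hD : D ∈ Seven)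
    [Fintype ↥((D.posUnipotent F).subgroupOf (D.group F))]
    (ψ : ↥((D.posUnipotent F).subgroupOf (D.group F)) →* ℂˣ) :
    1 ≤ (classInner (fun u : ↥((D.posUnipotent F).subgroupOf (D.group F)) =>
      D.steinbergCharacter F u) (fun u => ((ψ u : ℂˣ) : ℂ))).re := by
  rw [st_uni_eq p D hD ψ]
  simp

end chev

end Cfsg.Agent.Lib.Helper9.ChST
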