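import Mathlib
import Cfsg.Agent.Lib.Helper5.TICE2
import Cfsg.Agent.Lib.Helper9.TICE_P6dB

/-! S4064 Part E, piece P6dC: `|E| ∈ {2,4,8}` and `|E| ∣ |M| - 1`. -/

set_option autoImplicit false
set_option linter.style.haveILetI false

namespace Cfsg.Agent.Lib.Helper9.TICE

open Cfsg.Agent.Lib.Helper5.TICE

variable {G : Type*} [Group G] {Ω : Type*} [MulAction G Ω] {S T : Ω → Subgroup G} {q : ℕ}

/-- an element of a subgroup of odd order whose square is `1` is trivial -/
theorem eq_one_of_sq_of_odd [Finite G] {M : Subgroup G} (hM : Odd (Nat.card M)) {k : G} (hk : k ∈ M)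
    (hkk : k * k = 1) : k = 1 := by
  have h3 : k ^ 2 = 1 := by rw [pow_two]; exact hkk
  have h4 : orderOf k ∣ 2 := orderOf_dvd_of_pow_eq_one h3
  have h5 : orderOf k ∣ Nat.card M := by
    have := orderOf_dvd_natCard (⟨k, hk⟩ : M)
    rwa [Subgroup.orderOf_mk] at this
  have h6 : orderOf k = 1 := by
    rcases (Nat.dvd_prime Nat.prime_two).1 h4 with h | h
    · exact h
    · exfalso
      rw [h] at h5
      exact (Nat.not_even_iff_odd.2 hM) (even_iff_two_dvd.2 h5)
  exact orderOf_eq_one_iff.1 h6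

-- P6dC
theorem card_Esub [Finite G] [Finite Ω] (h : Resid S T q) (hSR : SRHyp G) (hG3 : G3Hyp G)
    (hS : ∀ α : Ω, Nat.card (S α) = q ^ 3) {x a : G} (hx : Fpf Ω x) (ha : a ∈ invSet x) :
    (Nat.card (Esub x a) = 2 ∨ Nat.card (Esub x a) = 4 ∨ Nat.card (Esub x a) = 8) ∧
      Nat.card (Esub x a) ∣ Nat.card (Subgroup.centralizer ({x} : Set G)) - 1 := by
  obtain ⟨hodd, hx1⟩ := odd_of_fpf_inverted_aux h hx ha
  obtain ⟨hai, hax⟩ := ha
  have hinv : a⁻¹ = a := hai.inv_eq
  obtain ⟨hi, hab, hoddM, hiv⟩ := hSR a x hai.1 hx1 hodd hax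
  set M := Subgroup.centralizer ({x} : Set G) with hM
  set N := Subgroup.normalizer (M : Set G) with hN
  set E := Esub x a with hE
  have hEN : E ≤ N := inf_le_left
  have hEa : ∀ e ∈ E, e * a = a * e := by
    intro e he
    exact Subgroup.mem_centralizer_singleton_iff.1 (Subgroup.mem_inf.1 he).2
  have hxM : x ∈ M := Subgroup.mem_centralizer_singleton_iff.2 rfl
  have haE : a ∈ E := by
    refine Subgroup.mem_inf.2 ⟨?_, Subgroup.mem_centralizer_singleton_iff.2 rfl⟩
    show a ∈ Subgroup.normalizer (M : Set G)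
    rw [Subgroup.mem_normalizer_iff]
    intro m
    constructor
    · intro hm
      rw [hi m hm]
      exact M.inv_mem hm
    · intro hm
      have h1 := hi _ hm
      have h2 : a * (a * m * a⁻¹) * a⁻¹ = m := by
        calc a * (a * m * a⁻¹) * a⁻¹ = (a * a) * m * (a⁻¹ * a⁻¹) := by group
          _ = m := by rw [hinv, hai.1]; group
      rw [h2] at h1
      have := M.inv_mem hm
      rw [← h1] at this
      simpa using M.inv_mem this
  obtain ⟨γ, hγ⟩ := h.invol a hai
  have hES : E ≤ S γ := fun e he => h.cent_invol γ a hγ hai.2 e (hEa e he)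
  -- `M ∩ C(a) = 1`
  have hMa : ∀ k ∈ M, k * a = a * k → k = 1 := by
    intro k hk hka
    have h1 : a * k * a⁻¹ = k := by rw [← hka]; group
    have h2 : k⁻¹ = k := by rw [← hi k hk, h1]
    apply eq_one_of_sq_of_odd hoddM hk
    calc k * k = k⁻¹ * k := by rw [h2]
      _ = 1 := inv_mul_cancel k
  -- `E ∩ M = 1`
  have hEM : ∀ y ∈ E, y ∈ M → y = 1 := fun y hy hyM => hMa y hyM (hEa y hy)
  -- involutions of `E` invert `M`
  have hinvM : ∀ t ∈ E, t * t = 1 → t ≠ 1 → ∀ m ∈ M, t * m * t⁻¹ = m⁻¹ := by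
    intro t ht htt ht1
    have htN : t ∈ N := hEN ht
    have htinv : t⁻¹ = t := inv_eq_of_mul_eq_one_left htt
    let φ : M →* M :=
      { toFun := fun m => ⟨t * m * t⁻¹, ((Subgroup.mem_normalizer_iff.1 htN) m).1 m.2⟩
        map_one' := by apply Subtype.ext; show t * 1 * t⁻¹ = 1; group
        map_mul' := fun m m' => by
          apply Subtype.ext
          show t * (m * m') * t⁻¹ = t * m * t⁻¹ * (t * m' * t⁻¹)
          group }
    have hφ : ∀ m : M, ((φ m : M) : G) = t * m * t⁻¹ := fun m => rfl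
    have hfpf : MonoidHom.FixedPointFree φ := by
      intro m hm
      by_contra hm1
      have hm1' : (m : G) ≠ 1 := fun h0 => hm1 (Subtype.ext h0)
      have h1 : t * m * t⁻¹ = m := by rw [← hφ m, hm]
      have h2 : t ∈ Subgroup.centralizer ({(m : G)} : Set G) := by
        rw [Subgroup.mem_centralizer_singleton_iff]
        calc t * m = t * m * t⁻¹ * t := by group
          _ = m * t := by rw [h1]
      rw [hiv m m.2 hm1'] at h2
      exact ht1 (hEM t ht h2)
    have hinvol : Function.Involutive φ := by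
      intro m
      apply Subtype.ext
      rw [hφ, hφ, htinv]
      calc t * (t * m * t) * t = (t * t) * m * (t * t) := by group
        _ = m := by rw [htt]; group
    have key := MonoidHom.FixedPointFree.coe_eq_inv_of_involutive hfpf hinvol
    intro m hm
    have := congrFun key ⟨m, hm⟩
    exact congrArg Subtype.val this
  -- unique involution
  have huniq : ∀ y ∈ E, y * y = 1 → y = 1 ∨ y = a := by
    intro y hy hyy
    by_cases hy1 : y = 1
    · exact Or.inl hy1
    right
    have h1 := hinvM y hy hyy hy1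
    -- `y a⁻¹` centralizes `x`
    have h2 : y * a⁻¹ ∈ M := by
      rw [hM, Subgroup.mem_centralizer_singleton_iff]
      have e1 : a⁻¹ * x * a = x⁻¹ := by
        have : a⁻¹ * x * a = a * x * a⁻¹ := by rw [hinv]
        rw [this, hax]
      have e2 : y * x⁻¹ * y⁻¹ = x := by
        have := h1 x⁻¹ (M.inv_mem hxM)
        rwa [inv_inv] at this
      have e3 : y * a⁻¹ * x * (y * a⁻¹)⁻¹ = x := by
        calc y * a⁻¹ * x * (y * a⁻¹)⁻¹ = y * (a⁻¹ * x * a) * y⁻¹ := by group
          _ = x := by rw [e1, e2]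
      calc y * a⁻¹ * x = y * a⁻¹ * x * (y * a⁻¹)⁻¹ * (y * a⁻¹) := by group
        _ = x * (y * a⁻¹) := by rw [e3]
    have h3 : y * a⁻¹ ∈ E := E.mul_mem hy (E.inv_mem haE)
    have h4 := hEM _ h3 h2
    exact mul_inv_eq_one.1 h4
  have hTE : ∀ y ∈ E, y ∈ T γ → y = 1 ∨ y = a :=
    fun y hy hyT => huniq y hy (h.mul_self_of_mem_T hyT)
  have hle : Nat.card E ≤ 8 := by
    apply hG3 E a haE hai.1
    · intro y hy
      exact hTE _ (E.mul_mem hy hy) (h.sq_mem γ y (hES hy))
    · intro y hy y' hy'
      have h1 := hTE _ (E.mul_mem (E.mul_mem (E.mul_mem hy hy') (E.inv_mem hy)) (E.inv_mem hy'))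
        (h.comm_mem γ y (hES hy) y' (hES hy'))
      rcases h1 with h1 | h1
      · left
        calc y * y' = (y * y' * y⁻¹ * y'⁻¹) * (y' * y) := by group
          _ = y' * y := by rw [h1, one_mul]
      · right
        calc y * y' = (y * y' * y⁻¹ * y'⁻¹) * (y' * y) := by group
          _ = a * (y' * y) := by rw [h1]
    · exact huniq
    · intro y hy
      exact (hEa y hy).symm
  -- the order of `E` is a power of `2`
  have hpow : ∃ k, Nat.card E = 2 ^ k := by
    obtain ⟨n, -, hqn⟩ := h.q_eq
    have h1 : Nat.card E ∣ 2 ^ (n * 3) := by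
      have := Subgroup.card_dvd_of_le hES
      rw [hS γ, hqn, ← pow_mul] at this
      exact this
    obtain ⟨k, -, hk⟩ := (Nat.dvd_prime_pow Nat.prime_two).1 h1
    exact ⟨k, hk⟩
  have hge : 2 ≤ Nat.card E := by
    have : orderOf a ∣ Nat.card E := by
      have := orderOf_dvd_natCard (⟨a, haE⟩ : E)
      rwa [Subgroup.orderOf_mk] at this
    have h2 : orderOf a = 2 := by
      apply orderOf_eq_prime
      · rw [pow_two]; exact hai.1
      · exact hai.2
    rw [h2] at this
    exact Nat.le_of_dvd Nat.card_pos this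
  refine ⟨?_, ?_⟩
  · obtain ⟨k, hk⟩ := hpow
    rw [hk] at hle hge ⊢
    have hk3 : k < 4 := by
      by_contra hk4
      push Not at hk4
      have : 2 ^ 4 ≤ 2 ^ k := Nat.pow_le_pow_right (by norm_num) hk4
      omega
    interval_cases k
    · norm_num at hge
    · left; rfl
    · right; left; rfl
    · right; right; rfl
  · -- free action of `E` on `M \ {1}`
    let X : Type _ := ↥((M : Set G) \ {1})
    letI : MulAction E X :=
      { smul := fun e c => ⟨(e : G) * c.1 * (e : G)⁻¹, by
          refine ⟨((Subgroup.mem_normalizer_iff.1 (hEN e.2)) c.1).1 c.2.1, ?_⟩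
          intro h0
          apply c.2.2
          rw [Set.mem_singleton_iff] at h0 ⊢
          have e1 : c.1 = (e : G)⁻¹ * ((e : G) * c.1 * (e : G)⁻¹) * (e : G) := by group
          rw [e1, h0]; group⟩
        one_smul := fun c => by
          apply Subtype.ext
          show ((1 : E) : G) * c.1 * ((1 : E) : G)⁻¹ = c.1
          simp
        mul_smul := fun e e' c => by
          apply Subtype.ext
          show ((e * e' : E) : G) * c.1 * ((e * e' : E) : G)⁻¹
            = (e : G) * ((e' : G) * c.1 * (e' : G)⁻¹) * (e : G)⁻¹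
          rw [Subgroup.coe_mul]
          group }
    have hsmul : ∀ (e : E) (c : X), ((e • c : X) : G) = (e : G) * c.1 * (e : G)⁻¹ := fun e c => rfl
    have hfree : ∀ c : X, MulAction.stabilizer E c = ⊥ := by
      intro c
      rw [eq_bot_iff]
      intro e he
      rw [MulAction.mem_stabilizer_iff] at he
      have h1 : (e : G) * c.1 * (e : G)⁻¹ = c.1 := by rw [← hsmul, he]
      have hc1 : c.1 ≠ 1 := fun h0 => c.2.2 (Set.mem_singleton_iff.2 h0)
      have h2 : (e : G) ∈ Subgroup.centralizer ({c.1} : Set G) := by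
        rw [Subgroup.mem_centralizer_singleton_iff]
        calc (e : G) * c.1 = (e : G) * c.1 * (e : G)⁻¹ * (e : G) := by group
          _ = c.1 * (e : G) := by rw [h1]
      rw [hiv c.1 c.2.1 hc1] at h2
      rw [Subgroup.mem_bot]
      exact Subtype.ext (hEM _ e.2 h2)
    have hequiv := MulAction.selfEquivOrbitsQuotientProd hfree
    have hcardX : Nat.card X = Nat.card M - 1 := by
      show Nat.card ↥((M : Set G) \ {1}) = Nat.card M - 1
      rw [Nat.card_coe_set_eq, Set.ncard_sdiff_singleton_of_mem (M.one_mem),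
        ← Nat.card_coe_set_eq]
      rfl
    rw [← hcardX, Nat.card_congr hequiv, Nat.card_prod]
    exact Dvd.intro_left _ rfl

end Cfsg.Agent.Lib.Helper9.TICE
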