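import Mathlib
import Cfsg.Agent.Lib.Helper5.TwAutDefs
import Cfsg.Agent.Lib.Helper5.ChevRankOne

set_option autoImplicit false

/-! # TWISTED-OUT farm, unit T3 : the rank-one relations for the twisted root elements -/

namespace Cfsg.Agent.Lib.Helper9.TwAut

open Cfsg Cfsg.Lie Cfsg.Agent.Lib.Helper5.ChevStruct Cfsg.Agent.Lib.Helper5.ChevSym
open Cfsg.Agent.Lib.Helper5.TwAut Cfsg.Agent.Lib.Helper5.RankOneHom

section abstract

variable {F : Type*} [Field F] {Γ : Type*} [Group Γ]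

/-- the trivial rank-one relations -/
theorem t3_rel_one : Rel (fun _ : F => (1 : Γ)) (fun _ : F => (1 : Γ)) (fun _ : F => (1 : Γ)) 1 := by
  refine ⟨?_, ?_, ?_, ?_, ?_, ?_, ?_, ?_⟩ <;> intros <;> simp

/-- rank-one relations composed with a field endomorphism -/
theorem t3_rel_comp {X Y H : F → Γ} {n : Γ} (h : Rel X Y H n) (g : F →+* F) :
    Rel (fun t => X (g t)) (fun t => Y (g t)) (fun s => H (g s)) n := by
  have hne : ∀ s : F, s ≠ 0 → g s ≠ 0 := fun s hs => (map_ne_zero g).2 hs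
  refine ⟨?_, ?_, ?_, ?_, ?_, ?_, ?_, ?_⟩
  · intro a b
    show X (g a) * X (g b) = X (g (a + b))
    rw [h.x_add, map_add]
  · intro s s' hs hs'
    show H (g s) * H (g s') = H (g (s * s'))
    rw [h.h_mul _ _ (hne s hs) (hne s' hs'), map_mul]
  · intro s t hs
    show H (g s) * X (g t) = X (g (s ^ 2 * t)) * H (g s)
    rw [h.h_x _ _ (hne s hs), map_mul, map_pow]
  · intro s hs
    show n * H (g s) = H (g s⁻¹) * n
    rw [h.n_h _ (hne s hs), map_inv₀]
  · show n * n = H (g (-1))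
    rw [h.n_sq, map_neg, map_one]
  · intro t
    show n * X (g t) = Y (g (-t)) * n
    rw [h.n_x, map_neg]
  · intro t
    show n * Y (g t) = X (g (-t)) * n
    rw [h.n_y, map_neg]
  · intro t ht
    show X (g t) * Y (g (-t⁻¹)) * X (g t) = H (g t) * n
    rw [map_neg, map_inv₀, h.xyx _ (hne t ht)]

theorem t3_n_eq {X Y H : F → Γ} {n : Γ} (h : Rel X Y H n) : n = X 1 * Y (-1) * X 1 := by
  have := h.xyx 1 one_ne_zero
  rw [h.h_one, one_mul, inv_one] at this
  exact this.symm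

theorem t3_h_eq {X Y H : F → Γ} {n : Γ} (h : Rel X Y H n) (s : F) (hs : s ≠ 0) :
    H s = X s * Y (-s⁻¹) * X s * n⁻¹ := by
  rw [h.xyx s hs]
  group

/-- elements of the closures of two elementwise commuting sets commute -/
theorem t3_commute_closure {S T : Set Γ} (h : ∀ a ∈ S, ∀ b ∈ T, Commute a b) :
    ∀ a ∈ Subgroup.closure S, ∀ b ∈ Subgroup.closure T, Commute a b := by
  intro a ha b hb
  induction hb using Subgroup.closure_induction with
  | mem b hb =>
    induction ha using Subgroup.closure_induction with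
    | mem a ha => exact h a ha b hb
    | one => exact Commute.one_left _
    | mul _ _ _ _ h1 h2 => exact h1.mul_left h2
    | inv _ _ h1 => exact h1.inv_left
  | one => exact Commute.one_right _
  | mul _ _ _ _ h1 h2 => exact h1.mul_right h2
  | inv _ _ h1 => exact h1.inv_right

/-- the product of two commuting systems of rank-one relations -/
theorem t3_rel_mul {X1 Y1 H1 X2 Y2 H2 : F → Γ} {n1 n2 : Γ}
    (h1 : Rel X1 Y1 H1 n1) (h2 : Rel X2 Y2 H2 n2) (C1 C2 : Subgroup Γ)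
    (hC : ∀ a ∈ C1, ∀ b ∈ C2, Commute a b)
    (hX1 : ∀ t, X1 t ∈ C1) (hY1 : ∀ t, Y1 t ∈ C1)
    (hX2 : ∀ t, X2 t ∈ C2) (hY2 : ∀ t, Y2 t ∈ C2) :
    Rel (fun t => X1 t * X2 t) (fun t => Y1 t * Y2 t) (fun s => H1 s * H2 s) (n1 * n2) := by
  have hn1 : n1 ∈ C1 := by
    rw [t3_n_eq h1]
    exact mul_mem (mul_mem (hX1 _) (hY1 _)) (hX1 _)
  have hn2 : n2 ∈ C2 := by
    rw [t3_n_eq h2]
    exact mul_mem (mul_mem (hX2 _) (hY2 _)) (hX2 _)
  have hH1 : ∀ s, s ≠ 0 → H1 s ∈ C1 := by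
    intro s hs
    rw [t3_h_eq h1 s hs]
    exact mul_mem (mul_mem (mul_mem (hX1 _) (hY1 _)) (hX1 _)) (inv_mem hn1)
  have hH2 : ∀ s, s ≠ 0 → H2 s ∈ C2 := by
    intro s hs
    rw [t3_h_eq h2 s hs]
    exact mul_mem (mul_mem (mul_mem (hX2 _) (hY2 _)) (hX2 _)) (inv_mem hn2)
  have sw : ∀ a ∈ C1, ∀ b ∈ C2, ∀ a' ∈ C1, ∀ b' ∈ C2, a * b * (a' * b') = a * a' * (b * b') := by
    intro a _ b hb a' ha' b' _
    exact (hC a' ha' b hb).symm.mul_mul_mul_comm a b'
  refine ⟨?_, ?_, ?_, ?_, ?_, ?_, ?_, ?_⟩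
  · intro a b
    show X1 a * X2 a * (X1 b * X2 b) = X1 (a + b) * X2 (a + b)
    rw [sw _ (hX1 _) _ (hX2 _) _ (hX1 _) _ (hX2 _), h1.x_add, h2.x_add]
  · intro s s' hs hs'
    show H1 s * H2 s * (H1 s' * H2 s') = H1 (s * s') * H2 (s * s')
    rw [sw _ (hH1 _ hs) _ (hH2 _ hs) _ (hH1 _ hs') _ (hH2 _ hs'), h1.h_mul _ _ hs hs',
      h2.h_mul _ _ hs hs']
  · intro s t hs
    show H1 s * H2 s * (X1 t * X2 t) = X1 (s ^ 2 * t) * X2 (s ^ 2 * t) * (H1 s * H2 s)
    rw [sw _ (hH1 _ hs) _ (hH2 _ hs) _ (hX1 _) _ (hX2 _), h1.h_x _ _ hs, h2.h_x _ _ hs,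
      sw _ (hX1 _) _ (hX2 _) _ (hH1 _ hs) _ (hH2 _ hs)]
  · intro s hs
    have hs' : s⁻¹ ≠ 0 := inv_ne_zero hs
    show n1 * n2 * (H1 s * H2 s) = H1 s⁻¹ * H2 s⁻¹ * (n1 * n2)
    rw [sw _ hn1 _ hn2 _ (hH1 _ hs) _ (hH2 _ hs), h1.n_h _ hs, h2.n_h _ hs,
      sw _ (hH1 _ hs') _ (hH2 _ hs') _ hn1 _ hn2]
  · show n1 * n2 * (n1 * n2) = H1 (-1) * H2 (-1)
    rw [sw _ hn1 _ hn2 _ hn1 _ hn2, h1.n_sq, h2.n_sq]
  · intro t
    show n1 * n2 * (X1 t * X2 t) = Y1 (-t) * Y2 (-t) * (n1 * n2)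
    rw [sw _ hn1 _ hn2 _ (hX1 _) _ (hX2 _), h1.n_x, h2.n_x, sw _ (hY1 _) _ (hY2 _) _ hn1 _ hn2]
  · intro t
    show n1 * n2 * (Y1 t * Y2 t) = X1 (-t) * X2 (-t) * (n1 * n2)
    rw [sw _ hn1 _ hn2 _ (hY1 _) _ (hY2 _), h1.n_y, h2.n_y, sw _ (hX1 _) _ (hX2 _) _ hn1 _ hn2]
  · intro t ht
    show X1 t * X2 t * (Y1 (-t⁻¹) * Y2 (-t⁻¹)) * (X1 t * X2 t) = H1 t * H2 t * (n1 * n2)
    rw [sw _ (hX1 _) _ (hX2 _) _ (hY1 _) _ (hY2 _),
      sw _ (mul_mem (hX1 _) (hY1 _)) _ (mul_mem (hX2 _) (hY2 _)) _ (hX1 _) _ (hX2 _),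
      h1.xyx t ht, h2.xyx t ht, sw _ (hH1 _ ht) _ (hH2 _ ht) _ hn1 _ hn2]

end abstract

section concrete

variable {K : Type*} [Field K]

/-- the root elements attached to the fundamental roots `±p_i`, `i ∈ J` -/
def t3Gen (D : ChevalleyDatum) (hD : D ∈ Seven) (K : Type*) [Field K] (J : List ℕ) :
    Set (GL D.Idx K) :=
  {g | ∃ i ∈ J, ∃ t : K, g = xGL D hD (D.simple i) t ∨ g = xGL D hD (D.neg (D.simple i)) t}

theorem t3_wordGL_mem (D : ChevalleyDatum) (hD : D ∈ Seven) (C : Subgroup (GL D.Idx K))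
    (w : List (ℕ × K)) (h : ∀ p ∈ w, xGL D hD p.1 p.2 ∈ C) : wordGL D hD w ∈ C := by
  unfold wordGL
  apply Subgroup.list_prod_mem
  intro g hg
  rw [List.mem_map] at hg
  obtain ⟨p, hp, rfl⟩ := hg
  exact h p hp

/-- the rank-one relations for a product over pairwise orthogonal fundamental roots, the `i`-th
parameter being twisted by the field endomorphism `g i` -/
theorem t3_rel_list (D : ChevalleyDatum) (hD : D ∈ Seven) (g : ℕ → (K →+* K)) (J : List ℕ)
    (hJlt : ∀ i ∈ J, i < D.rank) (horth : checkOrth D J = true) (hnd : J.Nodup) :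
    Rel (fun t : K => wordGL D hD (J.map fun i => (D.simple i, g i t)))
      (fun t : K => wordGL D hD (J.map fun i => (D.neg (D.simple i), g i t)))
      (fun s : K => hProd D hD J (fun i => g i s)) (wGL D hD J) := by
  induction J with
  | nil =>
    have := t3_rel_one (F := K) (Γ := GL D.Idx K)
    simpa [wordGL, hProd, wGL] using this
  | cons i J ih =>
    have hi := checkOrth_head D i J horth hnd
    have hilt : i < D.rank := hJlt i (List.mem_cons_self ..)
    have ih' := ih (fun j hj => hJlt j (List.mem_cons_of_mem _ hj)) (checkOrth_tail D i J horth)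
      (List.nodup_cons.1 hnd).2
    have h1 := t3_rel_comp (rel_simple (F := K) D hD i hilt) (g i)
    have hC := t3_commute_closure (S := t3Gen D hD K [i]) (T := t3Gen D hD K J) (by
      rintro a ⟨i', hi', t, ha⟩ b ⟨j, hj, u, hb⟩
      rw [List.mem_singleton] at hi'
      subst hi'
      rcases ha with rfl | rfl <;> rcases hb with rfl | rfl
      · exact xGL_commute D hD _ _ (hi j hj).1 _ _
      · exact xGL_commute D hD _ _ (hi j hj).2.1 _ _
      · exact xGL_commute D hD _ _ (hi j hj).2.2.1 _ _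
      · exact xGL_commute D hD _ _ (hi j hj).2.2.2 _ _)
    have key := t3_rel_mul h1 ih' _ _ hC
      (fun t => Subgroup.subset_closure ⟨i, List.mem_singleton_self i, _, Or.inl rfl⟩)
      (fun t => Subgroup.subset_closure ⟨i, List.mem_singleton_self i, _, Or.inr rfl⟩)
      (fun t => t3_wordGL_mem D hD _ _ (by
        intro p hp
        rw [List.mem_map] at hp
        obtain ⟨j, hj, rfl⟩ := hp
        exact Subgroup.subset_closure ⟨j, hj, _, Or.inl rfl⟩))
      (fun t => t3_wordGL_mem D hD _ _ (by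
        intro p hp
        rw [List.mem_map] at hp
        obtain ⟨j, hj, rfl⟩ := hp
        exact Subgroup.subset_closure ⟨j, hj, _, Or.inr rfl⟩))
    have e1 : (fun t : K => wordGL D hD ((i :: J).map fun i => (D.simple i, g i t)))
        = fun t : K => xGL D hD (D.simple i) (g i t) *
            wordGL D hD (J.map fun i => (D.simple i, g i t)) := by
      funext t
      rw [List.map_cons, wordGL_cons']
    have e2 : (fun t : K => wordGL D hD ((i :: J).map fun i => (D.neg (D.simple i), g i t)))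
        = fun t : K => xGL D hD (D.neg (D.simple i)) (g i t) *
            wordGL D hD (J.map fun i => (D.neg (D.simple i), g i t)) := by
      funext t
      rw [List.map_cons, wordGL_cons']
    have e3 : (fun s : K => hProd D hD (i :: J) (fun i => g i s))
        = fun s : K => hGL D hD (D.simple i) (g i s) * hProd D hD J (fun i => g i s) := by
      funext s
      rw [hProd_cons]
      rfl
    rw [e1, e2, e3, wGL_cons]
    exact key

end concrete

variable {K : Type*} [Field K] [Fintype K] (D : ChevalleyDatum) (hD : D ∈ Seven) (G : GraphData)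
  (hp : checkGraphPerm D G = true) (f : K →+* K) (rho : Equiv.Perm (Fin D.rank))
  (orbs : List (List ℕ)) (G1 : Subgroup (GL D.Idx K)) (m : ℕ)
  (hyp : TwAutHyp D hD G hp f rho orbs G1 m)

include hyp in
/-- T3 : `x_J, x_{-J}, h_J, n_J` satisfy the relations of `SL₂(K)`, hence a homomorphism
`(relT ..).hom : SL₂(K) →* GL` with `uu t ↦ xT J t`, `ll t ↦ yT J t`, `dd s ↦ hT J s`, `nn ↦ wGL J`. -/
theorem relT (J : List ℕ) (hJ : J ∈ orbs) :
    Rel (fun t : K => xT D hD f J t) (fun t : K => yT D hD f J t)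
      (fun s : K => hT D hD f J s) (wGL D hD J) :=
  t3_rel_list D hD (fun i => f ^ J.idxOf i) J (hyp.bn.hO.wd J hJ) (hyp.horth J hJ)
    (hyp.bn.hO.nodup J hJ)

include hyp in
/-- the parameters `sT f J s` are `ρ`-compatible for `s ∈ K_J` -/
theorem t3_sT_compat (J : List ℕ) (hJ : J ∈ orbs) (s : K) (hsK : InK f J s) :
    ∀ i ∈ J, sT f J s (rhoN D.rank rho i) = f (sT f J s i) := by
  intro i hi
  have hnd := hyp.bn.hO.nodup J hJ
  have hl : J.idxOf i < J.length := List.idxOf_lt_length_iff.2 hi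
  have hcyc := hyp.hcyc J hJ _ hl
  rw [List.getD_eq_getElem _ _ hl, List.getElem_idxOf hl] at hcyc
  have hlt : (J.idxOf i + 1) % J.length < J.length := Nat.mod_lt _ (by omega)
  unfold sT
  rw [hcyc, List.getD_eq_getElem _ _ hlt, List.Nodup.idxOf_getElem hnd _ hlt]
  by_cases h : J.idxOf i + 1 < J.length
  · rw [Nat.mod_eq_of_lt h, pow_succ']
    rfl
  · have e : J.idxOf i + 1 = J.length := by omega
    rw [e, Nat.mod_self, pow_zero]
    have : f ((f ^ J.idxOf i) s) = (f ^ (J.idxOf i + 1)) s := by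
      rw [pow_succ']
      rfl
    rw [this, e]
    exact hsK.symm

include hyp in
/-- T3b : `h_J(s) ∈ H ∩ G1` for `s ∈ K_J` nonzero -/
theorem hT_mem (J : List ℕ) (hJ : J ∈ orbs) (s : K) (hs : s ≠ 0) (hsK : InK f J s) :
    hT D hD f J s ∈ D.diagonalSubgroup K ⊓ G1 := by
  refine Subgroup.mem_inf.2 ⟨?_, ?_⟩
  · unfold hT hProd
    apply Subgroup.list_prod_mem
    intro g hg
    rw [List.mem_map] at hg
    obtain ⟨i, hi, rfl⟩ := hg
    apply Subgroup.subset_closure
    refine ⟨D.simple i, sT f J s i, simple_lt D hD i (hyp.bn.hO.wd J hJ i hi), ?_, wordGL_val D hD _⟩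
    unfold sT
    exact (map_ne_zero _).2 hs
  · exact hProd_mem D hD G1 f (rhoN D.rank rho) J (hyp.horth J hJ) (hyp.bn.hO.nodup J hJ)
      (hyp.hgen J hJ) (sT f J s) (t3_sT_compat D hD G hp f rho orbs G1 m hyp J hJ s hsK)

end Cfsg.Agent.Lib.Helper9.TwAut
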