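import Mathlib
import Cfsg.Agent.Lib.Helper5.TwAutDefs
import Cfsg.Agent.Lib.Helper1.TwAutT1
import Cfsg.Agent.Lib.Helper2.RankOneAbs
import Cfsg.Agent.Lib.Helper6.TwAutT2
import Cfsg.Agent.Lib.Helper9.TwAutT3

set_option autoImplicit false

/-! # TWISTED-OUT farm, units C1, C2 : the general rank-one statement for a node `J` with
parameter field `k = K_J` (given as a subfield of `K`), modulo the kernel statement T4. -/

namespace Cfsg.Agent.Lib.Helper9.TwAut

open Cfsg Cfsg.Lie Cfsg.Agent.Lib.Helper5.ChevStruct Cfsg.Agent.Lib.Helper5.ChevSym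
open Cfsg.Agent.Lib.Helper5.TwAut Cfsg.Agent.Lib.Helper5.RankOneHom

section sl2

variable {R S : Type*} [Field R] [Field S]

theorem c12_map_uu (g : R →+* S) (t : R) :
    Matrix.SpecialLinearGroup.map g (uu t) = uu (g t) := by
  apply Subtype.ext
  rw [Matrix.SpecialLinearGroup.map_apply_coe, RingHom.mapMatrix_apply]
  ext i j
  fin_cases i <;> fin_cases j <;> simp [uu]

theorem c12_map_ll (g : R →+* S) (t : R) :
    Matrix.SpecialLinearGroup.map g (ll t) = ll (g t) := by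
  apply Subtype.ext
  rw [Matrix.SpecialLinearGroup.map_apply_coe, RingHom.mapMatrix_apply]
  ext i j
  fin_cases i <;> fin_cases j <;> simp [ll]

theorem c12_map_dd (g : R →+* S) (t : R) (ht : t ≠ 0) :
    Matrix.SpecialLinearGroup.map g (dd t ht) = dd (g t) ((map_ne_zero g).2 ht) := by
  apply Subtype.ext
  rw [Matrix.SpecialLinearGroup.map_apply_coe, RingHom.mapMatrix_apply]
  ext i j
  fin_cases i <;> fin_cases j <;> simp [dd]

theorem c12_map_injective (g : R →+* S) :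
    Function.Injective (Matrix.SpecialLinearGroup.map (n := Fin 2) g) := by
  intro M N h
  apply Subtype.ext
  ext i j
  have := congrArg (fun X : Matrix.SpecialLinearGroup (Fin 2) S => X.1 i j) h
  simp only [Matrix.SpecialLinearGroup.map_apply_coe, RingHom.mapMatrix_apply,
    Matrix.map_apply] at this
  exact g.injective this

theorem c12_map_neg_one (g : R →+* S) :
    Matrix.SpecialLinearGroup.map (n := Fin 2) g (-1) = -1 := by
  apply Subtype.ext
  rw [Matrix.SpecialLinearGroup.map_apply_coe, RingHom.mapMatrix_apply]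
  ext i j
  fin_cases i <;> fin_cases j <;> simp

end sl2

variable {K : Type*} [Field K] [Fintype K] (D : ChevalleyDatum) (hD : D ∈ Seven) (G : GraphData)
  (hp : checkGraphPerm D G = true) (f : K →+* K) (rho : Equiv.Perm (Fin D.rank))
  (orbs : List (List ℕ)) (G1 : Subgroup (GL D.Idx K)) (m : ℕ)
  (hyp : TwAutHyp D hD G hp f rho orbs G1 m)

include hyp in
/-- the rank-one homomorphism maps matrices with entries in `K_J` into `G1` -/
theorem c12_hom_mem (J : List ℕ) (hJ : J ∈ orbs) (M : Matrix.SpecialLinearGroup (Fin 2) K)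
    (hM : ∀ i j, InK f J (M.1 i j)) :
    (relT D hD G hp f rho orbs G1 m hyp J hJ).hom M ∈ G1 := by
  obtain ⟨h0, h1, hadd, hneg, -⟩ :=
    Cfsg.Agent.Lib.Helper1.TwAut.inK_props D hD G hp f rho orbs G1 m hyp J hJ
  have hx : ∀ t, InK f J t → xT D hD f J t ∈ G1 := fun t ht =>
    Cfsg.Agent.Lib.Helper1.TwAut.xT_mem D hD G hp f rho orbs G1 m hyp J hJ t ht
  have hh : ∀ s, s ≠ 0 → InK f J s → hT D hD f J s ∈ G1 := fun s hs hsK =>
    (Subgroup.mem_inf.1 (hT_mem D hD G hp f rho orbs G1 m hyp J hJ s hs hsK)).2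
  have hn : wGL D hD J ∈ G1 := hyp.bn.hn J hJ
  have hdet : M.1 0 0 * M.1 1 1 - M.1 0 1 * M.1 1 0 = 1 := by
    have := M.2
    rwa [Matrix.det_fin_two] at this
  show phiFun (fun t : K => xT D hD f J t) (fun s : K => hT D hD f J s) (wGL D hD J) M ∈ G1
  unfold phiFun
  split_ifs with hc
  · have ha : M.1 0 0 ≠ 0 := by
      intro ha
      rw [ha, hc] at hdet
      simp at hdet
    exact mul_mem (hx _ (hadd _ _ (hM 0 0) (hM 0 1)).2) (hh _ ha (hM 0 0))
  · have hci : InK f J (M.1 1 0)⁻¹ := (hneg _ (hM 1 0)).2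
    refine mul_mem (mul_mem (mul_mem (hx _ ?_) (hh _ ?_ ?_)) hn) (hx _ ?_)
    · rw [div_eq_mul_inv]
      exact (hadd _ _ (hM 0 0) hci).2
    · exact neg_ne_zero.2 (inv_ne_zero hc)
    · exact (hneg _ hci).1
    · rw [div_eq_mul_inv]
      exact (hadd _ _ (hM 1 1) hci).2

include hyp in
/-- C1/C2, general form: `θ` preserving `X_J` and `X_{-J}` acts on them through a scalar and a
field automorphism of the parameter field `k = K_J`. -/
theorem c12_gen (J : List ℕ) (hJ : J ∈ orbs) (k : Subfield K) (hk : ∀ t, t ∈ k ↔ InK f J t)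
    (hker : ∀ M, (relT D hD G hp f rho orbs G1 m hyp J hJ).hom M = 1 → M = 1 ∨ M = -1)
    (θ : ↥G1 ≃* ↥G1)
    (h1 : MapsT G1 θ (rootSetSub D K (posJ D J)) (rootSetSub D K (posJ D J)))
    (h2 : MapsT G1 θ (rootSetSub D K (negJ D J)) (rootSetSub D K (negJ D J))) :
    ∃ (c : kˣ) (σ : k ≃+* k),
      (∀ (t : k) (g : ↥G1), (g : GL D.Idx K) = xT D hD f J (t : K) →
        (θ g : GL D.Idx K) = xT D hD f J (((c : k) * σ t : k) : K)) ∧
      (∀ (t : k) (g : ↥G1), (g : GL D.Idx K) = yT D hD f J (t : K) →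
        (θ g : GL D.Idx K) = yT D hD f J ((((c⁻¹ : kˣ) : k) * σ t : k) : K)) ∧
      (∀ (t : k), t ≠ 0 → ∀ g : ↥G1, (g : GL D.Idx K) = hT D hD f J (t : K) →
        (θ g : GL D.Idx K) = hT D hD f J ((σ t : k) : K)) := by
  have hR := relT D hD G hp f rho orbs G1 m hyp J hJ
  -- the homomorphism `SL₂(k) → G1`
  have hmem : ∀ M : Matrix.SpecialLinearGroup (Fin 2) k,
      (hR.hom.comp (Matrix.SpecialLinearGroup.map k.subtype)) M ∈ G1 := by
    intro M
    apply c12_hom_mem D hD G hp f rho orbs G1 m hyp J hJ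
    intro i j
    rw [Matrix.SpecialLinearGroup.map_apply_coe, RingHom.mapMatrix_apply, Matrix.map_apply]
    exact (hk _).1 (M.1 i j).2
  obtain ⟨φ, hφ⟩ : ∃ φ : Matrix.SpecialLinearGroup (Fin 2) k →* ↥G1,
      ∀ M, ((φ M : ↥G1) : GL D.Idx K) = hR.hom (Matrix.SpecialLinearGroup.map k.subtype M) :=
    ⟨MonoidHom.codRestrict _ G1 hmem, fun M => rfl⟩
  have hφu : ∀ t : k, ((φ (uu t) : ↥G1) : GL D.Idx K) = xT D hD f J (t : K) := by
    intro t
    rw [hφ, c12_map_uu, hR.hom_uu]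
    rfl
  have hφl : ∀ t : k, ((φ (ll t) : ↥G1) : GL D.Idx K) = yT D hD f J (t : K) := by
    intro t
    rw [hφ, c12_map_ll, hR.hom_ll]
    rfl
  have hφd : ∀ (t : k) (ht : t ≠ 0), ((φ (dd t ht) : ↥G1) : GL D.Idx K) = hT D hD f J (t : K) := by
    intro t ht
    rw [hφ, c12_map_dd, hR.hom_dd]
    rfl
  have hφker : ∀ M, φ M = 1 → M = 1 ∨ M = -1 := by
    intro M hM
    have : hR.hom (Matrix.SpecialLinearGroup.map k.subtype M) = 1 := by
      rw [← hφ, hM]
      rfl
    rcases hker _ this with h | h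
    · left
      apply c12_map_injective k.subtype
      rw [h, map_one]
    · right
      apply c12_map_injective k.subtype
      rw [h, c12_map_neg_one]
  -- `θ` maps `X_J` onto `X_J` and `X_{-J}` onto `X_{-J}`
  have hxsub : ∀ t, xT D hD f J t ∈ rootSetSub D K (posJ D J) :=
    fun t => Cfsg.Agent.Lib.Helper1.TwAut.xT_mem_rootSetSub D hD f J t
  have hysub : ∀ t, yT D hD f J t ∈ rootSetSub D K (negJ D J) :=
    fun t => Cfsg.Agent.Lib.Helper1.TwAut.yT_mem_rootSetSub D hD f J t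
  have a1 : ∀ t, ∃ t', θ (φ (uu t)) = φ (uu t') := by
    intro t
    have hm : ((θ (φ (uu t)) : ↥G1) : GL D.Idx K) ∈ rootSetSub D K (posJ D J) := by
      rw [h1 (φ (uu t)), hφu]
      exact hxsub _
    obtain ⟨t', ht', e⟩ := Cfsg.Agent.Lib.Helper6.TwAutT2.exists_xT_of_mem D hD G hp f rho orbs G1 m
      hyp J hJ _ hm (θ (φ (uu t))).2
    refine ⟨⟨t', (hk _).2 ht'⟩, Subtype.ext ?_⟩
    rw [e, hφu]
  have a1' : ∀ t', ∃ t, θ (φ (uu t)) = φ (uu t') := by
    intro t'
    have hm : ((θ.symm (φ (uu t')) : ↥G1) : GL D.Idx K) ∈ rootSetSub D K (posJ D J) := by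
      rw [← h1 (θ.symm (φ (uu t'))), MulEquiv.apply_symm_apply, hφu]
      exact hxsub _
    obtain ⟨t, ht, e⟩ := Cfsg.Agent.Lib.Helper6.TwAutT2.exists_xT_of_mem D hD G hp f rho orbs G1 m
      hyp J hJ _ hm (θ.symm (φ (uu t'))).2
    refine ⟨⟨t, (hk _).2 ht⟩, ?_⟩
    have : φ (uu ⟨t, (hk _).2 ht⟩) = θ.symm (φ (uu t')) := by
      apply Subtype.ext
      rw [e, hφu]
    rw [this, MulEquiv.apply_symm_apply]
  have a2 : ∀ t, ∃ t', θ (φ (ll t)) = φ (ll t') := by
    intro t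
    have hm : ((θ (φ (ll t)) : ↥G1) : GL D.Idx K) ∈ rootSetSub D K (negJ D J) := by
      rw [h2 (φ (ll t)), hφl]
      exact hysub _
    obtain ⟨t', ht', e⟩ := Cfsg.Agent.Lib.Helper6.TwAutT2.exists_yT_of_mem D hD G hp f rho orbs G1 m
      hyp J hJ _ hm (θ (φ (ll t))).2
    refine ⟨⟨t', (hk _).2 ht'⟩, Subtype.ext ?_⟩
    rw [e, hφl]
  haveI : Finite k := Finite.of_injective (fun x : k => (x : K)) Subtype.val_injective
  obtain ⟨c, σ, hu, hl, hd, -⟩ :=
    Cfsg.Agent.Lib.Helper2.RankOneAbs.rank_one_iso φ φ θ hφker hφker a1 a2 a1'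
  refine ⟨c, σ, ?_, ?_, ?_⟩
  · intro t g hg
    have : g = φ (uu t) := Subtype.ext (by rw [hg, hφu])
    rw [this, hu, hφu]
  · intro t g hg
    have : g = φ (ll t) := Subtype.ext (by rw [hg, hφl])
    rw [this, hl, hφl]
  · intro t ht g hg
    have : g = φ (dd t ht) := Subtype.ext (by rw [hg, hφd])
    have hσt : σ t ≠ 0 := (map_ne_zero σ).2 ht
    rw [this, hd t ht hσt, hφd]

end Cfsg.Agent.Lib.Helper9.TwAut
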