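import Mathlib
import Cfsg.Agent.Lib.Helper5.TwAutDefs
import Cfsg.Agent.Lib.Helper4.TwAutT4
import Cfsg.Agent.Lib.Helper9.TwAutC12

set_option autoImplicit false

/-! # TWISTED-OUT farm, units C1 (rank one for a full orbit) and C2 (rank one for a fixed node) -/

namespace Cfsg.Agent.Lib.Helper9.TwAut

open Cfsg Cfsg.Lie Cfsg.Agent.Lib.Helper5.ChevStruct Cfsg.Agent.Lib.Helper5.ChevSym
open Cfsg.Agent.Lib.Helper5.TwAut Cfsg.Agent.Lib.Helper5.RankOneHom

variable {K : Type*} [Field K] [Fintype K] (D : ChevalleyDatum) (hD : D ∈ Seven) (G : GraphData)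
  (hp : checkGraphPerm D G = true) (f : K →+* K) (rho : Equiv.Perm (Fin D.rank))
  (orbs : List (List ℕ)) (G1 : Subgroup (GL D.Idx K)) (m : ℕ)
  (hyp : TwAutHyp D hD G hp f rho orbs G1 m)

include hyp in
/-- C1 : rank one for a full orbit (`K_J = K`) -/
theorem rank_one_full (J : List ℕ) (hJ : J ∈ orbs) (hfull : J.length = m) (θ : ↥G1 ≃* ↥G1)
    (h1 : MapsT G1 θ (rootSetSub D K (posJ D J)) (rootSetSub D K (posJ D J)))
    (h2 : MapsT G1 θ (rootSetSub D K (negJ D J)) (rootSetSub D K (negJ D J))) :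
    ∃ (c : Kˣ) (τ : K ≃+* K),
      (∀ (t : K) (g : ↥G1), (g : GL D.Idx K) = xT D hD f J t →
        (θ g : GL D.Idx K) = xT D hD f J ((c : K) * τ t)) ∧
      (∀ (t : K) (g : ↥G1), (g : GL D.Idx K) = yT D hD f J t →
        (θ g : GL D.Idx K) = yT D hD f J (((c⁻¹ : Kˣ) : K) * τ t)) ∧
      (∀ (t : K), t ≠ 0 → ∀ g : ↥G1, (g : GL D.Idx K) = hT D hD f J t →
        (θ g : GL D.Idx K) = hT D hD f J (τ t)) := by
  have hall : ∀ a, InK f J a :=
    (Cfsg.Agent.Lib.Helper1.TwAut.inK_props D hD G hp f rho orbs G1 m hyp J hJ).2.2.2.2 hfull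
  obtain ⟨c, σ, hx, hy, hh⟩ := c12_gen D hD G hp f rho orbs G1 m hyp J hJ (⊤ : Subfield K)
    (fun t => ⟨fun _ => hall t, fun _ => Subfield.mem_top t⟩)
    (fun M hM => Cfsg.Agent.Lib.Helper4.TwAut.relT_ker' D hD G hp f rho orbs G1 m hyp J hJ _ M hM)
    θ h1 h2
  let e : (⊤ : Subfield K) ≃+* K := Subfield.topEquiv
  refine ⟨Units.map (e : (⊤ : Subfield K) →* K) c, (e.symm.trans σ).trans e, ?_, ?_, ?_⟩
  · intro t g hg
    have := hx ⟨t, Subfield.mem_top t⟩ g hg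
    rw [this]
    rfl
  · intro t g hg
    have := hy ⟨t, Subfield.mem_top t⟩ g hg
    rw [this, ← map_inv]
    rfl
  · intro t ht g hg
    have := hh ⟨t, Subfield.mem_top t⟩ (by
      intro h
      apply ht
      exact congrArg Subtype.val h) g hg
    rw [this]
    rfl

include hyp in
/-- C2 : rank one for a fixed node (`K_J = Fix f`) -/
theorem rank_one_fix (J : List ℕ) (hJ : J ∈ orbs) (hfix : J.length = 1) (θ : ↥G1 ≃* ↥G1)
    (h1 : MapsT G1 θ (rootSetSub D K (posJ D J)) (rootSetSub D K (posJ D J)))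
    (h2 : MapsT G1 θ (rootSetSub D K (negJ D J)) (rootSetSub D K (negJ D J))) :
    ∃ (c : K) (σ : K → K), c ≠ 0 ∧ InK f J c ∧
      (∀ t, InK f J t → InK f J (σ t) ∧ (t ≠ 0 → σ t ≠ 0)) ∧ σ 1 = 1 ∧
      (∀ a b, InK f J a → InK f J b → σ (a * b) = σ a * σ b) ∧
      (∀ (t : K), InK f J t → ∀ g : ↥G1, (g : GL D.Idx K) = xT D hD f J t →
        (θ g : GL D.Idx K) = xT D hD f J (c * σ t)) ∧
      (∀ (t : K), InK f J t → ∀ g : ↥G1, (g : GL D.Idx K) = yT D hD f J t →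
        (θ g : GL D.Idx K) = yT D hD f J (c⁻¹ * σ t)) ∧
      (∀ (t : K), t ≠ 0 → InK f J t → ∀ g : ↥G1, (g : GL D.Idx K) = hT D hD f J t →
        (θ g : GL D.Idx K) = hT D hD f J (σ t)) := by
  classical
  obtain ⟨k, hkdef⟩ : ∃ k : Subfield K, k = RingHom.eqLocusField f (RingHom.id K) := ⟨_, rfl⟩
  have hk : ∀ t, t ∈ k ↔ InK f J t := by
    intro t
    rw [hkdef]
    unfold InK
    rw [hfix, pow_one]
    exact Iff.rfl
  obtain ⟨c, σ, hx, hy, hh⟩ := c12_gen D hD G hp f rho orbs G1 m hyp J hJ k hk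
    (fun M hM => Cfsg.Agent.Lib.Helper4.TwAut.relT_ker' D hD G hp f rho orbs G1 m hyp J hJ _ M hM)
    θ h1 h2
  refine ⟨((c : k) : K), fun t => if h : t ∈ k then ((σ ⟨t, h⟩ : k) : K) else 0, ?_, ?_, ?_, ?_, ?_,
    ?_, ?_, ?_⟩
  · intro h
    exact c.ne_zero (Subtype.ext h)
  · exact (hk _).1 (c : k).2
  · intro t ht
    have htk : t ∈ k := (hk t).2 ht
    simp only [dif_pos htk]
    refine ⟨(hk _).1 (σ ⟨t, htk⟩).2, fun ht0 h => ?_⟩
    have : σ ⟨t, htk⟩ = 0 := Subtype.ext h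
    rw [map_eq_zero_iff σ σ.injective] at this
    exact ht0 (congrArg Subtype.val this)
  · have h1k : (1 : K) ∈ k := k.one_mem
    simp only [dif_pos h1k]
    have : (⟨1, h1k⟩ : k) = 1 := rfl
    rw [this, map_one]
    rfl
  · intro a b ha hb
    have hak : a ∈ k := (hk a).2 ha
    have hbk : b ∈ k := (hk b).2 hb
    have habk : a * b ∈ k := k.mul_mem hak hbk
    simp only [dif_pos hak, dif_pos hbk, dif_pos habk]
    have : (⟨a * b, habk⟩ : k) = ⟨a, hak⟩ * ⟨b, hbk⟩ := rfl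
    rw [this, map_mul]
    rfl
  · intro t ht g hg
    have htk : t ∈ k := (hk t).2 ht
    simp only [dif_pos htk]
    exact hx ⟨t, htk⟩ g hg
  · intro t ht g hg
    have htk : t ∈ k := (hk t).2 ht
    simp only [dif_pos htk]
    have := hy ⟨t, htk⟩ g hg
    rw [this]
    congr 1
    show (((c⁻¹ : kˣ) : k) : K) * _ = (((c : k) : K))⁻¹ * _
    congr 1
    rw [Units.val_inv_eq_inv_val]
    rfl
  · intro t ht0 ht g hg
    have htk : t ∈ k := (hk t).2 ht
    simp only [dif_pos htk]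
    exact hh ⟨t, htk⟩ (fun h => ht0 (congrArg Subtype.val h)) g hg

end Cfsg.Agent.Lib.Helper9.TwAut
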