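import Mathlib
import Cfsg.Agent.Lib.Helper5.TwAutDefs
import Cfsg.Agent.Lib.Helper5.FieldFix.Basic

set_option autoImplicit false

/-! # TWISTED-OUT farm, unit T5 : torus action between adjacent nodes, and of `H ∩ G1` -/

namespace Cfsg.Agent.Lib.Helper9.TwAut

open Cfsg Cfsg.Lie Cfsg.Agent.Lib.Helper5.ChevStruct Cfsg.Agent.Lib.Helper5.ChevSym
open Cfsg.Agent.Lib.Helper5.TwAut Cfsg.Agent.Lib.Helper5.RankOneHom

variable {K : Type*} [Field K] [Fintype K] (D : ChevalleyDatum) (hD : D ∈ Seven) (G : GraphData)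
  (hp : checkGraphPerm D G = true) (f : K →+* K) (rho : Equiv.Perm (Fin D.rank))
  (orbs : List (List ℕ)) (G1 : Subgroup (GL D.Idx K)) (m : ℕ)
  (hyp : TwAutHyp D hD G hp f rho orbs G1 m)

/-- iterates of `f` fix an element fixed by `f` -/
theorem t5_pow_fix (t : K) (h : f t = t) (k : ℕ) : (f ^ k) t = t := by
  induction k with
  | zero => rfl
  | succ k ih =>
    rw [pow_succ]
    show (f ^ k) (f t) = t
    rw [h, ih]

theorem t5_sT_ne_zero (J : List ℕ) (s : K) (hs : s ≠ 0) (i : ℕ) : sT f J s i ≠ 0 := by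
  unfold sT
  intro h
  exact hs ((map_eq_zero _).1 h)

include hyp in
/-- T5a -/
theorem hT_mul_xT (J J' : List ℕ) (hJ : J ∈ orbs) (hJ' : J' ∈ orbs) (hadj : AdjT D J J')
    (s : K) (hs : s ≠ 0) (hsK : InK f J s) (u : K) :
    hT D hD f J s * xT D hD f J' u = xT D hD f J' (s⁻¹ * u) * hT D hD f J s := by
  have hJlt : ∀ i ∈ J, i < D.rank := hyp.bn.hO.wd J hJ
  have hnd : J.Nodup := hyp.bn.hO.nodup J hJ
  have hnd' : J'.Nodup := hyp.bn.hO.nodup J' hJ'
  unfold hT xT
  rw [hProd_mul_word D hD J hJlt (sT f J s) (fun i _ => t5_sT_ne_zero f J s hs i) J'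
    (fun i => D.simple i) (sT f J' u)]
  congr 2
  apply List.map_congr_left
  intro i hi
  congr 1
  show (J.map fun j => (sT f J s j) ^ (D.cartan j (D.simple i))).prod * sT f J' u i
    = sT f J' (s⁻¹ * u) i
  have e2 : sT f J' (s⁻¹ * u) i = ((f ^ J'.idxOf i) s)⁻¹ * sT f J' u i := by
    unfold sT
    rw [map_mul, map_inv₀]
  rw [e2]
  congr 1
  rcases hadj with ⟨h1, hc⟩ | ⟨hlen, hc⟩
  · -- `J = [j0]`
    obtain ⟨j0, rfl⟩ := List.length_eq_one_iff.1 h1
    have hfs : f s = s := by
      have := hsK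
      unfold InK at this
      simpa using this
    simp only [List.map_cons, List.map_nil, List.prod_cons, List.prod_nil, mul_one]
    rw [hc j0 (List.mem_cons_self ..) i hi, t5_pow_fix f s hfs]
    unfold sT
    simp
  · -- `|J| = |J'|`
    have hj' : J'.idxOf i < J'.length := List.idxOf_lt_length_iff.2 hi
    set j' := J'.idxOf i with hj'def
    have hi' : J'.getD j' 0 = i := by
      rw [List.getD_eq_getElem _ _ hj']
      exact List.getElem_idxOf hj'
    have hjJ : j' < J.length := by rw [hlen]; exact hj'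
    have hmem : J.getD j' 0 ∈ J := by
      rw [List.getD_eq_getElem _ _ hjJ]
      exact List.getElem_mem hjJ
    rw [prod_map_single J hnd (J.getD j' 0) hmem
      (fun j => (sT f J s j) ^ (D.cartan j (D.simple i)))]
    · show (sT f J s (J.getD j' 0)) ^ (D.cartan (J.getD j' 0) (D.simple i)) = _
      have := hc j' hjJ j' hj'
      rw [hi', if_pos rfl] at this
      rw [this]
      unfold sT
      have hidx : J.idxOf (J.getD j' 0) = j' := by
        rw [List.getD_eq_getElem _ _ hjJ]
        exact List.Nodup.idxOf_getElem hnd j' hjJ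
      rw [hidx]
      simp
    · intro j hj hne
      show (sT f J s j) ^ (D.cartan j (D.simple i)) = 1
      have hjl : J.idxOf j < J.length := List.idxOf_lt_length_iff.2 hj
      have hjj : J.getD (J.idxOf j) 0 = j := by
        rw [List.getD_eq_getElem _ _ hjl]
        exact List.getElem_idxOf hjl
      have := hc (J.idxOf j) hjl j' hj'
      rw [hjj, hi'] at this
      have hne' : J.idxOf j ≠ j' := by
        intro h
        apply hne
        rw [← hjj, h]
      rw [if_neg hne'] at this
      rw [this, zpow_zero]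

/-- conjugating a word by a torus element (in `GL`) -/
theorem t5_conj_word (h : GL D.Idx K) (c : ℕ → K) (hc : ∀ i, c i ≠ 0)
    (hh : (h : Matrix D.Idx D.Idx K) = torusMat D c) (w : List (ℕ × K)) :
    h * wordGL D hD w * h⁻¹ = wordGL D hD (w.map fun p => (p.1, chi D c p.1 * p.2)) := by
  have key : h * wordGL D hD w = wordGL D hD (w.map fun p => (p.1, chi D c p.1 * p.2)) * h := by
    apply Units.ext
    rw [Units.val_mul, Units.val_mul, wordGL_val, wordGL_val, hh]
    exact torus_conj_word D hD c hc w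
  rw [key]
  group

theorem t5_xGL_inj (r : ℕ) (hr : r < D.nroots) (t u : K)
    (h : xGL D hD r t = xGL D hD r u) : t = u := by
  apply Cfsg.Agent.Lib.Helper5.FieldFix.x_inj_param D hD r hr
  have := congrArg (fun g : GL D.Idx K => (g : Matrix D.Idx D.Idx K)) h
  simpa [xGL_val] using this

include hyp in
/-- the character of an element of `H ∩ G1` is `σ`-compatible on the fundamental roots -/
theorem t5_chi_compat (h : GL D.Idx K) (c : ℕ → K) (hc : ∀ i, c i ≠ 0)
    (hh : (h : Matrix D.Idx D.Idx K) = torusMat D c) (hh1 : h ∈ G1) (i : Fin D.rank) :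
    chi D c (D.simple (rho i)) = f (chi D c (D.simple i)) := by
  obtain ⟨h1, h2, h3, h4, h5, h6⟩ := hyp.bn.hrho i
  have hfix : sigma D G hp f h = h := by
    have := hh1
    rw [hyp.bn.hG1] at this
    exact (mem_sigmaFix D G hp f h).1 (Subgroup.mem_inf.1 this).2
  have e1 : h * xGL D hD (D.simple i) 1 * h⁻¹ = xGL D hD (D.simple i) (chi D c (D.simple i)) := by
    have := t5_conj_word D hD h c hc hh [(D.simple i, (1 : K))]
    simpa [wordGL] using this
  have e2 : h * xGL D hD (D.simple (rho i)) 1 * h⁻¹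
      = xGL D hD (D.simple (rho i)) (chi D c (D.simple (rho i))) := by
    have := t5_conj_word D hD h c hc hh [(D.simple (rho i), (1 : K))]
    simpa [wordGL] using this
  have e3 := congrArg (sigma D G hp f) e1
  rw [map_mul, map_mul, map_inv, hfix, sigma_xGL D hD G hp hyp.bn.hG f _ h5,
    sigma_xGL D hD G hp hyp.bn.hG f _ h5, h1, h3] at e3
  simp only [Int.cast_one, one_mul, map_one] at e3
  rw [e2] at e3
  have hlt : D.simple (rho i) < D.nroots := (hyp.bn.hrho (rho i)).2.2.2.2.1
  exact t5_xGL_inj D hD _ hlt _ _ e3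

include hyp in
/-- along an orbit the character is given by the iterates of `f` -/
theorem t5_chi_orbit (J : List ℕ) (hJ : J ∈ orbs) (h : GL D.Idx K) (c : ℕ → K)
    (hc : ∀ i, c i ≠ 0) (hh : (h : Matrix D.Idx D.Idx K) = torusMat D c) (hh1 : h ∈ G1)
    (j : ℕ) (hj : j < J.length) :
    chi D c (D.simple (J.getD j 0)) = (f ^ j) (chi D c (D.simple (J.getD 0 0))) := by
  induction j with
  | zero => rfl
  | succ j ih =>
    have hj' : j < J.length := by omega
    have hcyc := hyp.hcyc J hJ j hj'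
    rw [Nat.mod_eq_of_lt hj] at hcyc
    have hlt : J.getD j 0 < D.rank := by
      apply hyp.bn.hO.wd J hJ
      rw [List.getD_eq_getElem _ _ hj']
      exact List.getElem_mem hj'
    unfold rhoN at hcyc
    rw [dif_pos hlt] at hcyc
    have := t5_chi_compat D hD G hp f rho orbs G1 m hyp h c hc hh hh1 ⟨J.getD j 0, hlt⟩
    rw [hcyc] at this
    rw [this, ih hj', pow_succ']
    rfl

include hyp in
theorem t5_chi_inK (J : List ℕ) (hJ : J ∈ orbs) (h : GL D.Idx K) (c : ℕ → K)
    (hc : ∀ i, c i ≠ 0) (hh : (h : Matrix D.Idx D.Idx K) = torusMat D c) (hh1 : h ∈ G1) :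
    InK f J (chi D c (D.simple (J.getD 0 0))) := by
  have hne := hyp.hne J hJ
  have hpos : 0 < J.length := List.length_pos_iff.2 hne
  have hj' : J.length - 1 < J.length := by omega
  have hcyc := hyp.hcyc J hJ (J.length - 1) hj'
  have e : (J.length - 1 + 1) % J.length = 0 := by
    rw [Nat.sub_add_cancel hpos, Nat.mod_self]
  rw [e] at hcyc
  have hlt : J.getD (J.length - 1) 0 < D.rank := by
    apply hyp.bn.hO.wd J hJ
    rw [List.getD_eq_getElem _ _ hj']
    exact List.getElem_mem hj'
  unfold rhoN at hcyc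
  rw [dif_pos hlt] at hcyc
  have := t5_chi_compat D hD G hp f rho orbs G1 m hyp h c hc hh hh1 ⟨J.getD (J.length - 1) 0, hlt⟩
  rw [hcyc, t5_chi_orbit D hD G hp f rho orbs G1 m hyp J hJ h c hc hh hh1 _ hj'] at this
  unfold InK
  conv_lhs => rw [show J.length = (J.length - 1) + 1 by omega, pow_succ']
  exact this.symm

include hyp in
/-- T5b : an element of `H ∩ G1` acts on `X_J`, `X_{-J}` through a scalar of `K_J` -/
theorem diag_conj_xT (J : List ℕ) (hJ : J ∈ orbs) (h : GL D.Idx K)
    (hh : h ∈ D.diagonalSubgroup K) (hh1 : h ∈ G1) :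
    ∃ c : K, c ≠ 0 ∧ InK f J c ∧ (∀ t, h * xT D hD f J t * h⁻¹ = xT D hD f J (c * t)) ∧
      (∀ t, h * yT D hD f J t * h⁻¹ = yT D hD f J (c⁻¹ * t)) := by
  obtain ⟨c, hc, hhc⟩ := exists_torusMat_of_mem D hD h hh
  have hχ : ∀ i ∈ J, chi D c (D.simple i) = (f ^ J.idxOf i) (chi D c (D.simple (J.getD 0 0))) := by
    intro i hi
    have hl : J.idxOf i < J.length := List.idxOf_lt_length_iff.2 hi
    have := t5_chi_orbit D hD G hp f rho orbs G1 m hyp J hJ h c hc hhc hh1 _ hl
    rw [List.getD_eq_getElem _ _ hl, List.getElem_idxOf hl] at this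
    exact this
  refine ⟨chi D c (D.simple (J.getD 0 0)), chi_ne_zero D c hc _,
    t5_chi_inK D hD G hp f rho orbs G1 m hyp J hJ h c hc hhc hh1, ?_, ?_⟩
  · intro t
    unfold xT
    rw [t5_conj_word D hD h c hc hhc, List.map_map]
    congr 1
    apply List.map_congr_left
    intro i hi
    show (D.simple i, chi D c (D.simple i) * sT f J t i) = (D.simple i, sT f J _ i)
    congr 1
    rw [hχ i hi]
    unfold sT
    rw [map_mul]
  · intro t
    unfold yT
    rw [t5_conj_word D hD h c hc hhc, List.map_map]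
    congr 1
    apply List.map_congr_left
    intro i hi
    show (D.neg (D.simple i), chi D c (D.neg (D.simple i)) * sT f J t i)
      = (D.neg (D.simple i), sT f J _ i)
    congr 1
    have hlt : D.simple i < D.nroots :=
      (hyp.bn.hrho ⟨i, hyp.bn.hO.wd J hJ i hi⟩).2.2.2.2.1
    have hneg := chi_neg D (weightsOK_all D hD) c hc (D.simple i) hlt
    have e : chi D c (D.neg (D.simple i)) = (chi D c (D.simple i))⁻¹ :=
      eq_inv_of_mul_eq_one_left hneg
    rw [e, hχ i hi]
    unfold sT
    rw [map_mul, map_inv₀]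

end Cfsg.Agent.Lib.Helper9.TwAut
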