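import Mathlib
import Cfsg.Agent.Lib.Helper5.TwAutDefs
import Cfsg.Agent.Lib.Helper1.TwAutT1
import Cfsg.Agent.Lib.Helper9.TwAutT3
import Cfsg.Agent.Lib.Helper9.TwAutT5

set_option autoImplicit false

/-! # TWISTED-OUT farm, unit C3 : adjacent nodes have the same field automorphism -/

namespace Cfsg.Agent.Lib.Helper9.TwAut

open Cfsg Cfsg.Lie Cfsg.Agent.Lib.Helper5.ChevStruct Cfsg.Agent.Lib.Helper5.ChevSym
open Cfsg.Agent.Lib.Helper5.TwAut Cfsg.Agent.Lib.Helper5.RankOneHom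

variable {K : Type*} [Field K] [Fintype K] (D : ChevalleyDatum) (hD : D ∈ Seven) (G : GraphData)
  (hp : checkGraphPerm D G = true) (f : K →+* K) (rho : Equiv.Perm (Fin D.rank))
  (orbs : List (List ℕ)) (G1 : Subgroup (GL D.Idx K)) (m : ℕ)
  (hyp : TwAutHyp D hD G hp f rho orbs G1 m)

/-- `K_J ⊆ K_{J'}` along a bond -/
theorem c3_inK_of_adj (J J' : List ℕ) (hadj : AdjT D J J') (s : K)
    (hs : InK f J s) : InK f J' s := by
  rcases hadj with ⟨h1, -⟩ | ⟨h1, -⟩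
  · unfold InK at hs ⊢
    rw [h1, pow_one] at hs
    exact t5_pow_fix f s hs _
  · unfold InK at hs ⊢
    rw [← h1]; exact hs

include hyp in
/-- C3 : two adjacent nodes have the same field automorphism -/
theorem link_sigma (J J' : List ℕ) (hJ : J ∈ orbs) (hJ' : J' ∈ orbs) (hadj : AdjT D J J')
    (θ : ↥G1 ≃* ↥G1) (σ σ' : K → K) (c' : K) (hc' : c' ≠ 0)
    (hσ : ∀ t, t ≠ 0 → InK f J t → (σ t ≠ 0 ∧ InK f J (σ t)) ∧
      ∀ g : ↥G1, (g : GL D.Idx K) = hT D hD f J t → (θ g : GL D.Idx K) = hT D hD f J (σ t))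
    (hσ' : ∀ u, InK f J' u → ∀ g : ↥G1, (g : GL D.Idx K) = xT D hD f J' u →
      (θ g : GL D.Idx K) = xT D hD f J' (c' * σ' u))
    (hone : σ' 1 = 1)
    (hmul : ∀ a b, InK f J' a → InK f J' b → σ' (a * b) = σ' a * σ' b) :
    ∀ s, s ≠ 0 → InK f J s → σ s = σ' s := by
  intro s hs hsK
  obtain ⟨⟨hσs, hσsK⟩, hθh⟩ := hσ s hs hsK
  have hprops := Cfsg.Agent.Lib.Helper1.TwAut.inK_props D hD G hp f rho orbs G1 m hyp J' hJ'
  have hsK' : InK f J' s := c3_inK_of_adj D f J J' hadj s hsK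
  have hsiK' : InK f J' s⁻¹ := (hprops.2.2.2.1 s hsK').2
  have h1K' : InK f J' 1 := hprops.2.1
  -- the three elements of `G1`
  have hhm := (Subgroup.mem_inf.1 (hT_mem D hD G hp f rho orbs G1 m hyp J hJ s hs hsK)).2
  have hxm := Cfsg.Agent.Lib.Helper1.TwAut.xT_mem D hD G hp f rho orbs G1 m hyp J' hJ' 1 h1K'
  have hxm' := Cfsg.Agent.Lib.Helper1.TwAut.xT_mem D hD G hp f rho orbs G1 m hyp J' hJ' s⁻¹ hsiK'
  have e0 : (⟨hT D hD f J s, hhm⟩ : ↥G1) * ⟨xT D hD f J' 1, hxm⟩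
      = ⟨xT D hD f J' s⁻¹, hxm'⟩ * ⟨hT D hD f J s, hhm⟩ := by
    apply Subtype.ext
    show hT D hD f J s * xT D hD f J' 1 = xT D hD f J' s⁻¹ * hT D hD f J s
    have := hT_mul_xT D hD G hp f rho orbs G1 m hyp J J' hJ hJ' hadj s hs hsK 1
    rwa [mul_one] at this
  have e1 := congrArg (fun g : ↥G1 => ((θ g : ↥G1) : GL D.Idx K)) e0
  simp only [map_mul, Subgroup.coe_mul] at e1
  rw [hθh ⟨_, hhm⟩ rfl, hσ' 1 h1K' ⟨_, hxm⟩ rfl, hσ' s⁻¹ hsiK' ⟨_, hxm'⟩ rfl, hone, mul_one,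
    hT_mul_xT D hD G hp f rho orbs G1 m hyp J J' hJ hJ' hadj (σ s) hσs hσsK c'] at e1
  have e2 := mul_right_cancel e1
  have e3 := Cfsg.Agent.Lib.Helper1.TwAut.xT_injective D hD G hp f rho orbs G1 m hyp J' hJ' _ _ e2
  -- `(σ s)⁻¹ * c' = c' * σ' s⁻¹`
  have e4 : (σ s)⁻¹ = σ' s⁻¹ := by
    have : c' * (σ s)⁻¹ = c' * σ' s⁻¹ := by rw [mul_comm]; exact e3
    exact mul_left_cancel₀ hc' this
  have e5 : σ' s⁻¹ * σ' s = 1 := by
    rw [← hmul _ _ hsiK' hsK', inv_mul_cancel₀ hs, hone]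
  have e6 : σ' s⁻¹ = (σ' s)⁻¹ := eq_inv_of_mul_eq_one_left e5
  rw [e6] at e4
  exact inv_inj.1 e4

end Cfsg.Agent.Lib.Helper9.TwAut
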