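import Mathlib
import Cfsg.Prelude.Def_PLocal
import Cfsg.Agent.Lib.Helper1.ZJ11
import Cfsg.Agent.Lib.Helper7.TripleFactorization2

/-!
# S2756, step 1 (plain form): reduction modulo a normal `q'`-subgroup

`inverted_of_quotient`: if `O ⊴ G` is a `q'`-group, `T` a Sylow `q`-subgroup and in `G ⧸ O` some
nonidentity element of the image of `T` is inverted by an element normalizing `ZJ` of the image of
`T`, then some nonidentity element of `T` is inverted by an element of `N_G(ZJ(T))`.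
-/

set_option autoImplicit false
open scoped Pointwise

namespace Cfsg.Agent.Lib.Helper9.ZJI

variable {G : Type*} [Group G]

/-- In a finite group, an element conjugating `H` into itself normalises `H`. -/
theorem mem_normalizer_of_conj_mem [Finite G] (H : Subgroup G) (x : G)
    (h : ∀ a ∈ H, x * a * x⁻¹ ∈ H) : x ∈ Subgroup.normalizer (H : Set G) := by
  rw [Subgroup.mem_normalizer_iff]
  intro a
  refine ⟨h a, ?_⟩
  intro ha
  let f : H → H := fun b => ⟨x * b * x⁻¹, h b b.2⟩
  have hf : Function.Injective f := by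
    intro b c hbc
    have := congrArg Subtype.val hbc
    simp only [f] at this
    apply Subtype.ext
    exact mul_left_cancel (mul_right_cancel this)
  obtain ⟨b, hb⟩ := Finite.surjective_of_injective hf ⟨x * a * x⁻¹, ha⟩
  have := congrArg Subtype.val hb
  simp only [f] at this
  have : (b : G) = a := mul_left_cancel (mul_right_cancel this)
  rw [← this]
  exact b.2

/-- A `q`-element lying in a `q'`-subgroup is trivial. -/
theorem eq_one_of_isPGroup_of_coprime [Finite G] {q : ℕ} [Fact q.Prime] {U O : Subgroup G}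
    (hU : IsPGroup q U) (hO : (Nat.card O).Coprime q) {c : G} (h1 : c ∈ U) (h2 : c ∈ O) :
    c = 1 := by
  obtain ⟨k, hk⟩ := hU ⟨c, h1⟩
  have hk' : c ^ (q ^ k) = 1 := by
    have := congrArg Subtype.val hk
    simpa using this
  have hd1 : orderOf c ∣ q ^ k := orderOf_dvd_of_pow_eq_one hk'
  have hd2 : orderOf c ∣ Nat.card O := Subgroup.orderOf_dvd_natCard O h2
  have hcop : (Nat.card O).Coprime (q ^ k) := Nat.Coprime.pow_right k hO
  have : orderOf c ∣ 1 := by
    have := Nat.dvd_gcd hd2 hd1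
    rwa [hcop] at this
  exact orderOf_eq_one_iff.mp (Nat.dvd_one.mp this)

/-- The Sylow adjustment inside a subgroup `N`: if `n, y ∈ N`, `y` is a `q`-element and `n` inverts
`y` modulo the normal `q'`-subgroup `O`, then some element of `N` inverts `y`. -/
theorem exists_inverting_in_subgroup [Finite G] {q : ℕ} [Fact q.Prime] (O : Subgroup G) [O.Normal]
    (hO : (Nat.card O).Coprime q) (N : Subgroup G) {y n : G} (hyN : y ∈ N) (hnN : n ∈ N)
    (hyq : IsPGroup q (Subgroup.zpowers y)) (hinv : n * y * n⁻¹ * y ∈ O) :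
    ∃ n' ∈ N, n' * y * n'⁻¹ = y⁻¹ := by
  classical
  set y' : N := ⟨y, hyN⟩ with hy'
  set n' : N := ⟨n, hnN⟩ with hn'
  set O' : Subgroup N := O.subgroupOf N with hO'def
  have hO'n : O'.Normal := Subgroup.normal_subgroupOf
  have hO' : (Nat.card O').Coprime q := by
    let f : O' →* O := (N.subtype.comp O'.subtype).codRestrict O (fun x => x.2)
    have hf : Function.Injective f := by
      intro a b hab
      have h1 := congrArg Subtype.val hab
      apply Subtype.ext
      apply Subtype.ext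
      exact h1
    exact Nat.Coprime.coprime_dvd_left (Subgroup.card_dvd_of_injective f hf) hO
  set U' : Subgroup N := Subgroup.zpowers y' with hU'def
  have hU' : IsPGroup q U' := by
    have h1 : IsPGroup q ((Subgroup.zpowers y).comap N.subtype) :=
      hyq.comap_of_injective N.subtype N.subtype_injective
    refine h1.to_le ?_
    rw [hU'def, Subgroup.zpowers_le]
    change (y' : G) ∈ Subgroup.zpowers y
    exact Subgroup.mem_zpowers y
  have hinv' : n' * y' * n'⁻¹ * y' ∈ O' := by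
    change ((n' * y' * n'⁻¹ * y' : N) : G) ∈ O
    simpa using hinv
  have hy'U : y' ∈ U' := Subgroup.mem_zpowers y'
  -- `n'` normalizes `U' ⊔ O'`
  have hn : n' ∈ Subgroup.normalizer ((U' ⊔ O' : Subgroup N) : Set N) := by
    apply mem_normalizer_of_conj_mem
    intro a ha
    have hmap : (U' ⊔ O').map (MulAut.conj n').toMonoidHom ≤ U' ⊔ O' := by
      rw [Subgroup.map_sup]
      apply sup_le
      · rw [hU'def, MonoidHom.map_zpowers, Subgroup.zpowers_le]
        change n' * y' * n'⁻¹ ∈ U' ⊔ O'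
        have e : n' * y' * n'⁻¹ = (n' * y' * n'⁻¹ * y') * y'⁻¹ := by group
        rw [e]
        exact Subgroup.mul_mem _ (Subgroup.mem_sup_right hinv')
          (Subgroup.mem_sup_left (Subgroup.inv_mem _ hy'U))
      · rintro _ ⟨o, ho, rfl⟩
        apply Subgroup.mem_sup_right
        change n' * o * n'⁻¹ ∈ O'
        exact hO'n.conj_mem o ho n'
    exact hmap ⟨a, ha, rfl⟩
  obtain ⟨o, ho, hon⟩ := Cfsg.Agent.Lib.Helper7.exists_mul_mem_normalizer_of_coprime hU' hO' hn
  set m : N := o * n' with hm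
  have hmU : m * y' * m⁻¹ ∈ U' := (Subgroup.mem_normalizer_iff.mp hon y').mp hy'U
  have hc1 : m * y' * m⁻¹ * y' ∈ U' := Subgroup.mul_mem _ hmU hy'U
  have hc2 : m * y' * m⁻¹ * y' ∈ O' := by
    have e : m * y' * m⁻¹ * y' = o * (n' * y' * n'⁻¹ * y') * (y'⁻¹ * o⁻¹ * y'⁻¹⁻¹) := by
      rw [hm]; group
    rw [e]
    exact Subgroup.mul_mem _ (Subgroup.mul_mem _ ho hinv')
      (hO'n.conj_mem _ (Subgroup.inv_mem _ ho) _)
  have hc : m * y' * m⁻¹ * y' = 1 := eq_one_of_isPGroup_of_coprime hU' hO' hc1 hc2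
  refine ⟨(m : G), m.2, ?_⟩
  have h3 : m * y' * m⁻¹ = y'⁻¹ := eq_inv_of_mul_eq_one_left hc
  have h4 := congrArg Subtype.val h3
  simpa using h4

/-- **Step 1 of S2756 (plain form).** -/
theorem inverted_of_quotient [Finite G] {q : ℕ} [Fact q.Prime] (O : Subgroup G) [O.Normal]
    (hO : (Nat.card O).Coprime q) (T : Sylow q G)
    (h : ∃ yb ∈ (T : Subgroup G).map (QuotientGroup.mk' O), yb ≠ 1 ∧
      ∃ nb ∈ Subgroup.normalizer
        (Cfsg.centerThompsonAOf ((T : Subgroup G).map (QuotientGroup.mk' O)) : Set (G ⧸ O)),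
        nb * yb * nb⁻¹ = yb⁻¹) :
    ∃ y ∈ (T : Subgroup G), y ≠ 1 ∧
      ∃ n ∈ Subgroup.normalizer (Cfsg.centerThompsonAOf (T : Subgroup G) : Set G),
        n * y * n⁻¹ = y⁻¹ := by
  classical
  obtain ⟨yb, hybT, hyb1, nb, hnb, hinv⟩ := h
  set π : G →* G ⧸ O := QuotientGroup.mk' O with hπ
  have hker : π.ker = O := QuotientGroup.ker_mk' O
  obtain ⟨y, hyT, rfl⟩ := hybT
  have hTq : IsPGroup q (T : Subgroup G) := T.isPGroup'
  have hinj : Set.InjOn π ((T : Subgroup G) : Set G) := by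
    intro a ha b hb hab
    have h1 : a⁻¹ * b ∈ O := by
      rw [← hker, MonoidHom.mem_ker, map_mul, map_inv, hab]
      group
    have h2 : a⁻¹ * b ∈ (T : Subgroup G) := Subgroup.mul_mem _ (Subgroup.inv_mem _ ha) hb
    have := eq_one_of_isPGroup_of_coprime hTq hO h2 h1
    exact (inv_mul_eq_one.mp this)
  have hZle : Cfsg.centerThompsonAOf (T : Subgroup G) ≤ T :=
    Cfsg.Agent.Lib.Helper1.ZJ.centerThompsonAOf_le _
  have hZq : IsPGroup q (Cfsg.centerThompsonAOf (T : Subgroup G)) := hTq.to_le hZle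
  rw [Cfsg.Agent.Lib.Helper1.ZJ.centerThompsonAOf_map_of_injOn π (T : Subgroup G) hinj,
    Cfsg.Agent.Lib.Helper7.normalizer_map_quotient_coprime O hO hZq] at hnb
  obtain ⟨n, hnN, rfl⟩ := hnb
  have hyN : y ∈ Subgroup.normalizer (Cfsg.centerThompsonAOf (T : Subgroup G) : Set G) :=
    Cfsg.Agent.Lib.Helper1.ZJ.normalizer_le_normalizer_centerThompsonAOf _
      (Subgroup.le_normalizer hyT)
  have hmod : n * y * n⁻¹ * y ∈ O := by
    rw [← hker, MonoidHom.mem_ker, map_mul, map_mul, map_mul, map_inv, hinv]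
    group
  have hyq : IsPGroup q (Subgroup.zpowers y) :=
    hTq.to_le (by rw [Subgroup.zpowers_le]; exact hyT)
  obtain ⟨n', hn'N, hn'⟩ := exists_inverting_in_subgroup O hO _ hyN hnN hyq hmod
  refine ⟨y, hyT, ?_, n', hn'N, hn'⟩
  rintro rfl
  exact hyb1 (map_one π)

/-- `Inv_q` passes to the quotient by a normal `q'`-subgroup. -/
theorem inv_quotient_of_inv [Finite G] {q : ℕ} [Fact q.Prime] (O : Subgroup G) [O.Normal]
    (hO : (Nat.card O).Coprime q)
    (h : ∃ x s : G, x ≠ 1 ∧ (∃ k : ℕ, orderOf x = q ^ k) ∧ s * x * s⁻¹ = x⁻¹) :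
    ∃ xb sb : G ⧸ O, xb ≠ 1 ∧ (∃ k : ℕ, orderOf xb = q ^ k) ∧ sb * xb * sb⁻¹ = xb⁻¹ := by
  obtain ⟨x, s, hx1, ⟨k, hk⟩, hinv⟩ := h
  set π : G →* G ⧸ O := QuotientGroup.mk' O with hπ
  have hker : π.ker = O := QuotientGroup.ker_mk' O
  refine ⟨π x, π s, ?_, ?_, ?_⟩
  · intro h1
    have hxO : x ∈ O := by rw [← hker, MonoidHom.mem_ker]; exact h1
    have hxq : IsPGroup q (Subgroup.zpowers x) := by
      apply IsPGroup.of_card (n := k)
      rw [Nat.card_zpowers, hk]
    exact hx1 (eq_one_of_isPGroup_of_coprime hxq hO (Subgroup.mem_zpowers x) hxO)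
  · have hd : orderOf (π x) ∣ q ^ k := by
      rw [← hk]; exact orderOf_map_dvd π x
    obtain ⟨j, _, hj⟩ := (Nat.dvd_prime_pow (Fact.out : q.Prime)).mp hd
    exact ⟨j, hj⟩
  · rw [← map_inv, ← map_mul, ← map_mul, hinv, map_inv]

end Cfsg.Agent.Lib.Helper9.ZJI
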