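import Cfsg.Agent.Lib.Helper8.ZJI0
import Cfsg.Agent.Lib.Helper9.ZJIStep1

/-! S2756 PIECE B (helper9): in a minimal counterexample, normal `q'`-subgroups are trivial. -/

set_option autoImplicit false
open scoped Pointwise commutatorElement
universe u v

namespace Cfsg.Agent.Lib.Helper9.ZJI

open Cfsg.Agent.Lib.Helper8.ZJI

variable {G : Type u} [Group G] [Finite G] {q : ℕ} [hq : Fact q.Prime]

theorem core_prime_eq_bot (h : MinCE q G) (O : Subgroup G) [O.Normal]
    (hO : (Nat.card O).Coprime q) : O = ⊥ := by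
  classical
  by_contra hne
  have hcardO : 1 < Nat.card O := by
    rw [Subgroup.one_lt_card_iff_ne_bot]; exact hne
  have hcard : Nat.card (G ⧸ O) < Nat.card G := by
    have h1 : Nat.card G = Nat.card (G ⧸ O) * Nat.card O :=
      Subgroup.card_eq_card_quotient_mul_card_subgroup O
    have hpos : 0 < Nat.card (G ⧸ O) := Nat.card_pos
    rw [h1]
    nlinarith
  have hInv : Inv q (G ⧸ O) := inv_quotient_of_inv O hO h.inv
  obtain ⟨T⟩ : Nonempty (Sylow q G) := inferInstance
  set Tb : Sylow q (G ⧸ O) := T.mapSurjective (QuotientGroup.mk'_surjective O) with hTb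
  have hc : Concl q Tb := h.ih (G ⧸ O) hcard hInv Tb
  apply h.dagger T
  obtain ⟨yb, hyb, hyb1, g, hg, hinv⟩ := hc
  have hcoe : (Tb : Subgroup (G ⧸ O)) = (T : Subgroup G).map (QuotientGroup.mk' O) :=
    Sylow.coe_mapSurjective _ T
  rw [hcoe] at hyb
  have hg' : g ∈ Subgroup.normalizer
      (Cfsg.centerThompsonAOf ((T : Subgroup G).map (QuotientGroup.mk' O)) : Set (G ⧸ O)) := by
    rw [← hcoe]; exact hg
  exact inverted_of_quotient O hO T ⟨yb, hyb, hyb1, g, hg', hinv⟩

end Cfsg.Agent.Lib.Helper9.ZJI
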