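import Mathlib
import Cfsg.Agent.Lib.Helper6.APFDefs

set_option autoImplicit false

open Equiv Equiv.Perm
open Cfsg.Agent.Lib.Helper6.APF

namespace Cfsg.Agent.Lib.Helper9.APF

theorem lift_solvable_map {G G₁ G₂ : Type*} [Group G] [Group G₁] [Group G₂] (N : Subgroup G)
    (f : G →* G₁) (hf : Function.Injective f) (g : G →* G₂)
    (h : Group.IsSolvable ↥(N.map f)) : Group.IsSolvable ↥(N.map g) := by
  have : Group.IsSolvable ↥N :=
    Group.isSolvable_of_isSolvable_injective (f := (Subgroup.equivMapOfInjective N f hf).toMonoidHom)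
      (MulEquiv.injective _)
  exact Group.isSolvable_of_surjective (g.subgroupMap_surjective N)

theorem lift_mem_iff_in {Ω : Type*} (S : Finset Ω) (a : Perm Ω)
    (ha : ∀ x, x ∉ S → a x = x) (x : Ω) : a x ∈ S ↔ x ∈ S := by
  constructor
  · intro h
    by_contra hx
    rw [ha x hx] at h
    exact hx h
  · intro h
    by_contra hx
    have h2 := ha (a x) hx
    have h3 : a x = x := a.injective h2
    rw [h3] at hx
    exact hx h

theorem lift_mem_iff_out {Ω : Type*} (S : Finset Ω) (b : Perm Ω)
    (hb : ∀ x, x ∈ S → b x = x) (x : Ω) : ¬ b x ∈ S ↔ ¬ x ∈ S := by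
  rw [not_iff_not]
  constructor
  · intro h
    have h2 := hb (b x) h
    have h3 : b x = x := b.injective h2
    rw [h3] at h
    exact h
  · intro h
    rw [hb x h]
    exact h

theorem good_lift {Ω : Type*} [DecidableEq Ω] [Fintype Ω] (p : ℕ) (hp : p.Prime) (S : Finset Ω) (c v ur wr : Perm Ω)
    (hc : ∀ x, x ∉ S → c x = x) (hv : ∀ x, x ∉ S → v x = x) (hur : ∀ x, x ∈ S → ur x = x) (hwr : ∀ x, x ∈ S → wr x = x)
    (h : Good p c v) : Good p (c * ur) (v * wr) := by
  have dis : ∀ a b : Perm Ω, (∀ x, x ∉ S → a x = x) → (∀ x, x ∈ S → b x = x) →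
      Equiv.Perm.Disjoint a b := by
    intro a b ha hb x
    by_cases hx : x ∈ S
    · exact Or.inr (hb x hx)
    · exact Or.inl (ha x hx)
  have hcv : ∀ x, x ∉ S → (c * v) x = x := fun x hx => by
    rw [Perm.mul_apply, hv x hx, hc x hx]
  have huw : ∀ x, x ∈ S → (ur * wr) x = x := fun x hx => by
    rw [Perm.mul_apply, hwr x hx, hur x hx]
  have hcomm : v * ur = ur * v := (dis v ur hv hur).commute.eq
  have hprod : c * ur * (v * wr) = (c * v) * (ur * wr) := by
    rw [mul_assoc, ← mul_assoc ur, ← hcomm]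
    simp only [mul_assoc]
  constructor
  · rintro ⟨k, hk⟩
    apply h.1
    rw [hprod, (dis _ _ hcv huw).orderOf] at hk
    have hdvd : orderOf (c * v) ∣ p ^ k := hk ▸ Nat.dvd_lcm_left _ _
    obtain ⟨j, -, hj⟩ := (Nat.dvd_prime_pow hp).mp hdvd
    exact ⟨j, hj⟩
  · intro hsol
    apply h.2
    -- restrictions
    let c' : Perm {x // x ∈ S} := subtypePerm c (lift_mem_iff_in S c hc)
    let v' : Perm {x // x ∈ S} := subtypePerm v (lift_mem_iff_in S v hv)
    let ur' : Perm {x // ¬ x ∈ S} := subtypePerm ur (lift_mem_iff_out S ur hur)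
    let wr' : Perm {x // ¬ x ∈ S} := subtypePerm wr (lift_mem_iff_out S wr hwr)
    let ψ := subtypeCongrHom (fun x : Ω => x ∈ S)
    have hψ : Function.Injective ψ := subtypeCongrHom_injective _
    have key : ∀ (a b : Perm Ω) (ha : ∀ x, x ∉ S → a x = x) (hb : ∀ x, x ∈ S → b x = x),
        ψ (subtypePerm a (lift_mem_iff_in S a ha), subtypePerm b (lift_mem_iff_out S b hb))
          = a * b := by
      intro a b ha hb
      ext x
      by_cases hx : x ∈ S
      · rw [subtypeCongrHom_apply, Perm.subtypeCongr.left_apply (p := fun x => x ∈ S) _ _ hx, subtypePerm_apply,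
          Perm.mul_apply, hb x hx]
      · rw [subtypeCongrHom_apply, Perm.subtypeCongr.right_apply (p := fun x => x ∈ S) _ _ hx, subtypePerm_apply,
          Perm.mul_apply]
        have : b x ∉ S := (lift_mem_iff_out S b hb x).mpr hx
        rw [ha _ this]
    let N' : Subgroup (Perm {x // x ∈ S} × Perm {x // ¬ x ∈ S}) :=
      Subgroup.closure {(c', ur'), (v', wr')}
    have hK : N'.map ψ = Subgroup.closure ({c * ur, v * wr} : Set (Perm Ω)) := by
      rw [MonoidHom.map_closure, Set.image_pair, key c ur hc hur, key v wr hv hwr]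
    let g : Perm {x // x ∈ S} × Perm {x // ¬ x ∈ S} →* Perm Ω :=
      (ofSubtype).comp (MonoidHom.fst _ _)
    have hg : ∀ (a : Perm Ω) (ha : ∀ x, x ∉ S → a x = x) (b' : Perm {x // ¬ x ∈ S}),
        g (subtypePerm a (lift_mem_iff_in S a ha), b') = a := by
      intro a ha b'
      show ofSubtype (subtypePerm a (lift_mem_iff_in S a ha)) = a
      apply ofSubtype_subtypePerm
      intro x hx
      by_contra hxS
      exact hx (ha x hxS)
    have hC : N'.map g = Subgroup.closure ({c, v} : Set (Perm Ω)) := by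
      rw [MonoidHom.map_closure, Set.image_pair, hg c hc, hg v hv]
    rw [← hK] at hsol
    rw [← hC]
    exact lift_solvable_map N' ψ hψ g hsol

end Cfsg.Agent.Lib.Helper9.APF
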