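import Cfsg.Agent.Lib.Helper9.MTo

/-!
# Monster type, part p: the homomorphism `C_C(t) → Co2` for `t` over the vector `leechU`

For `x ∈ Q` with `ψ leechU = x Z(Q)`: `theta : C_C(x) →* Co2` is onto with kernel `C_Q(x)`, lies over
`Phi e`, and intertwines the action on the lattice with conjugation on `Q / Z(Q)`.
-/

set_option autoImplicit false

namespace Cfsg.Agent.Lib.Helper9.MTc

open Cfsg Cfsg.Agent.Lib.Helper4.ES2 Cfsg.Agent.Lib.Helper9.MTa Cfsg.Agent.Lib.Helper9.MTb
  Cfsg.Agent.Lib.Helper9.LeechM1 Cfsg.Agent.Lib.Helper9.LeechM2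

/-- the group of the definitions as a subgroup of the automorphism group of the lattice -/
def isoCo2 : ↥Spor.Co2 ≃* ↥(MulAction.stabilizer ↥Co0 Spor.leechU) where
  toFun f := ⟨⟨f.1, (Subgroup.mem_inf.mp f.2).1⟩, by
    rw [MulAction.mem_stabilizer_iff]
    exact MulAction.mem_stabilizer_iff.mp (Subgroup.mem_inf.mp f.2).2⟩
  invFun g := ⟨g.1.1, Subgroup.mem_inf.mpr ⟨g.1.2, by
    rw [MulAction.mem_stabilizer_iff]
    exact MulAction.mem_stabilizer_iff.mp g.2⟩⟩
  left_inv _ := rfl
  right_inv _ := rfl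
  map_mul' _ _ := rfl

theorem isoCo2_smul (g : ↥Spor.Co2) (v : leechLattice) : ((isoCo2 g : ↥Co0) • v) = g • v := rfl

theorem leechU_norm' : sqNorm (Spor.leechU : GolayPt → ℤ) = 32 := by decide +kernel

theorem leechU_ne_zero : (Spor.leechU : GolayPt → ℤ) ≠ 0 := by
  intro h0
  have h1 := leechU_norm'
  rw [h0] at h1
  simp [sqNorm] at h1

/-- the restriction of `Co0 → Co1` to the stabiliser of `leechU` -/
def jU : ↥(MulAction.stabilizer ↥Co0 Spor.leechU) →* Spor.Co1 :=
  mkC.comp (MulAction.stabilizer ↥Co0 Spor.leechU).subtype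

theorem jU_apply (g : ↥(MulAction.stabilizer ↥Co0 Spor.leechU)) : jU g = mkC g.1 := rfl

theorem jU_injective : Function.Injective jU := by
  rw [← MonoidHom.ker_eq_bot_iff, eq_bot_iff]
  intro g hg
  have h3 : (g : Co0) ∈ MulAction.stabilizer Co0 Spor.leechU ⊓
      (QuotientGroup.mk' (Subgroup.center Co0)).ker := ⟨g.2, hg⟩
  rw [stab_inf_center Spor.leechU leechU_ne_zero] at h3
  exact Subtype.ext h3

theorem jU_range : jU.range = (MulAction.stabilizer Co0 Spor.leechU).map
    (QuotientGroup.mk' (Subgroup.center Co0)) := by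
  unfold jU
  rw [MonoidHom.range_comp, Subgroup.range_subtype]
  rfl

variable {G : Type*} [Group G] [Finite G] {z : G}
  {Q : Subgroup (Subgroup.centralizer ({z} : Set G))} [Q.Normal]
  {e : (Subgroup.centralizer ({z} : Set G)) ⧸ Q ≃* Spor.Co1}
  {ψ : leechLattice → Q ⧸ Subgroup.center Q}

theorem MT.Phi_mem_range (h : MT z Q e ψ) (x : Q) (hx : ψ Spor.leechU = QuotientGroup.mk x)
    (c : ↥(Subgroup.centralizer ({(x : Subgroup.centralizer ({z} : Set G))} :
      Set (Subgroup.centralizer ({z} : Set G))))) : Phi e c.1 ∈ jU.range := by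
  rw [jU_range, ← h.map_centralizer Spor.leechU x hx (by rw [leechU_norm']; norm_num)
    (by rw [leechU_norm']; norm_num)]
  exact Subgroup.mem_map_of_mem _ c.2

/-- the homomorphism `C_C(x) → Co2` -/
noncomputable def theta (h : MT z Q e ψ) (x : Q) (hx : ψ Spor.leechU = QuotientGroup.mk x) :
    ↥(Subgroup.centralizer ({(x : Subgroup.centralizer ({z} : Set G))} :
      Set (Subgroup.centralizer ({z} : Set G)))) →* ↥Spor.Co2 :=
  (isoCo2.symm.toMonoidHom.comp (MonoidHom.ofInjective jU_injective).symm.toMonoidHom).comp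
    (((Phi e).comp (Subgroup.subtype _)).codRestrict jU.range (h.Phi_mem_range x hx))

/-- `theta c` is the element of the stabiliser of `leechU` lying over `Phi e c` -/
theorem theta_spec (h : MT z Q e ψ) (x : Q) (hx : ψ Spor.leechU = QuotientGroup.mk x)
    (c : ↥(Subgroup.centralizer ({(x : Subgroup.centralizer ({z} : Set G))} :
      Set (Subgroup.centralizer ({z} : Set G))))) :
    mkC (isoCo2 (theta h x hx c)).1 = Phi e c.1 := by
  have h1 : isoCo2 (theta h x hx c) = (MonoidHom.ofInjective jU_injective).symm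
      ⟨Phi e c.1, h.Phi_mem_range x hx c⟩ := by
    unfold theta
    simp only [MonoidHom.comp_apply, MulEquiv.coe_toMonoidHom, MulEquiv.apply_symm_apply]
    rfl
  rw [h1, ← jU_apply]
  have h2 := MonoidHom.apply_ofInjective_symm jU_injective ⟨Phi e c.1, h.Phi_mem_range x hx c⟩
  exact h2

theorem theta_eq_iff (h : MT z Q e ψ) (x : Q) (hx : ψ Spor.leechU = QuotientGroup.mk x)
    (c : ↥(Subgroup.centralizer ({(x : Subgroup.centralizer ({z} : Set G))} :
      Set (Subgroup.centralizer ({z} : Set G))))) (g : ↥Spor.Co2) :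
    theta h x hx c = g ↔ mkC (isoCo2 g).1 = Phi e c.1 := by
  constructor
  · intro h1
    rw [← h1]
    exact theta_spec h x hx c
  · intro h1
    apply isoCo2.injective
    apply jU_injective
    rw [jU_apply, jU_apply, theta_spec, h1]

theorem theta_surjective (h : MT z Q e ψ) (x : Q) (hx : ψ Spor.leechU = QuotientGroup.mk x) :
    Function.Surjective (theta h x hx) := by
  intro g
  have h1 : jU (isoCo2 g) ∈ jU.range := ⟨_, rfl⟩
  rw [jU_range, ← h.map_centralizer Spor.leechU x hx (by rw [leechU_norm']; norm_num)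
    (by rw [leechU_norm']; norm_num)] at h1
  obtain ⟨c, hc, hcg⟩ := h1
  refine ⟨⟨c, hc⟩, ?_⟩
  rw [theta_eq_iff]
  exact hcg.symm

theorem theta_ker (h : MT z Q e ψ) (x : Q) (hx : ψ Spor.leechU = QuotientGroup.mk x) :
    (theta h x hx).ker = Q.subgroupOf (Subgroup.centralizer
      ({(x : Subgroup.centralizer ({z} : Set G))} : Set (Subgroup.centralizer ({z} : Set G)))) := by
  ext c
  rw [MonoidHom.mem_ker, theta_eq_iff, Subgroup.mem_subgroupOf]
  have h1 : mkC (isoCo2 (1 : ↥Spor.Co2)).1 = 1 := by rw [map_one]; exact map_one _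
  rw [h1]
  constructor
  · intro h2
    have h3 : c.1 ∈ (Phi e).ker := MonoidHom.mem_ker.mpr h2.symm
    rwa [Phi_ker] at h3
  · intro h2
    have h3 : c.1 ∈ (Phi e).ker := by rw [Phi_ker]; exact h2
    exact (MonoidHom.mem_ker.mp h3).symm

/-- `theta` intertwines the action on the lattice with conjugation -/
theorem theta_equivariant (h : MT z Q e ψ) (x : Q) (hx : ψ Spor.leechU = QuotientGroup.mk x)
    (c : ↥(Subgroup.centralizer ({(x : Subgroup.centralizer ({z} : Set G))} :
      Set (Subgroup.centralizer ({z} : Set G))))) (v w : leechLattice)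
    (hvw : (theta h x hx c) • v = w) (q : Q) (hq : ψ v = QuotientGroup.mk q) :
    ψ w = QuotientGroup.mk (⟨c.1 * q * c.1⁻¹, (inferInstance : Q.Normal).conj_mem
      (q : Subgroup.centralizer ({z} : Set G)) q.2 c.1⟩ : Q) := by
  have h1 := h.equivariant c.1 (isoCo2 (theta h x hx c)).1 (theta_spec h x hx c) v q hq
  rw [isoCo2_smul, hvw] at h1
  exact h1

/-- `C_C(x) / C_Q(x) ≃* Co2` -/
noncomputable def thetaEquiv (h : MT z Q e ψ) (x : Q) (hx : ψ Spor.leechU = QuotientGroup.mk x) :
    ↥(Subgroup.centralizer ({(x : Subgroup.centralizer ({z} : Set G))} :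
      Set (Subgroup.centralizer ({z} : Set G)))) ⧸ (theta h x hx).ker ≃* ↥Spor.Co2 :=
  QuotientGroup.quotientKerEquivOfSurjective (theta h x hx) (theta_surjective h x hx)

end Cfsg.Agent.Lib.Helper9.MTc
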