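import Cfsg.Agent.Lib.Helper9.MTn

/-!
# Monster type, part o: fusion of `z` inside the centralizer of a non-conjugate involution `t ∈ Q`

`MT.bm_fusion`: some `k ∈ C_G(t)` carries `z` to a conjugate `s ∈ C_Q(t)` outside `{z, z t}`; in
`C_G(t) / ⟨t⟩` this says that the image of `z` is not weakly closed in the image of `C_Q(t)`.
-/

set_option autoImplicit false

namespace Cfsg.Agent.Lib.Helper9.MTc

open Cfsg Cfsg.Agent.Lib.Helper4.ES2 Cfsg.Agent.Lib.Helper9.MTa Cfsg.Agent.Lib.Helper9.MTb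
  Cfsg.Agent.Lib.Helper9.LeechM1 Cfsg.Agent.Lib.Helper9.LeechM2

variable {G : Type*} [Group G] [Finite G] {z : G}
  {Q : Subgroup (Subgroup.centralizer ({z} : Set G))} [Q.Normal]
  {e : (Subgroup.centralizer ({z} : Set G)) ⧸ Q ≃* Spor.Co1}
  {ψ : leechLattice → Q ⧸ Subgroup.center Q}

/-- an involution of `Q` not conjugate to `z` lies over a vector of norm 32 -/
theorem MT.type2_of_not_conj (h : MT z Q e ψ)
    (hfus : ∃ g : G, (∃ hq : g * z * g⁻¹ ∈ Subgroup.centralizer ({z} : Set G),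
      (⟨g * z * g⁻¹, hq⟩ : Subgroup.centralizer ({z} : Set G)) ∈ Q) ∧ g * z * g⁻¹ ≠ z)
    (u : Q) (hu2 : orderOf ((u : Subgroup.centralizer ({z} : Set G)) : G) = 2)
    (hu : ¬ IsConj z ((u : Subgroup.centralizer ({z} : Set G)) : G)) :
    ∃ v : leechLattice, sqNorm (v : GolayPt → ℤ) = 32 ∧ ψ v = QuotientGroup.mk u := by
  have hu1 : ((u : Subgroup.centralizer ({z} : Set G)) : G) ≠ 1 := z_ne_one_of hu2
  have huu : ((u : Subgroup.centralizer ({z} : Set G)) : G) * u = 1 := z_sq_of hu2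
  have huz : ((u : Subgroup.centralizer ({z} : Set G)) : G) ≠ z := by
    intro h1
    apply hu
    rw [h1]
  obtain ⟨v, hv, hvx⟩ := h.inv_type u
    (fun h1 => hu1 (congrArg Subtype.val h1))
    (fun h1 => huz (congrArg Subtype.val h1))
    (Subtype.ext (Subtype.ext huu))
  rcases hv with hv | hv
  · exact ⟨v, hv, hvx⟩
  · exfalso
    exact hu (h.type4_conj hfus _ v hv hvx).1

theorem orderOf_conj' (a b : G) : orderOf (a * b * a⁻¹) = orderOf b := by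
  have : a * b * a⁻¹ = MulAut.conj a b := by simp [MulAut.conj_apply]
  rw [this, MulEquiv.orderOf_eq]

/-- fusion of `z` in the centralizer of an involution `t ∈ Q` that is not conjugate to `z` -/
theorem MT.bm_fusion (h : MT z Q e ψ)
    (hfus : ∃ g : G, (∃ hq : g * z * g⁻¹ ∈ Subgroup.centralizer ({z} : Set G),
      (⟨g * z * g⁻¹, hq⟩ : Subgroup.centralizer ({z} : Set G)) ∈ Q) ∧ g * z * g⁻¹ ≠ z)
    (t : G) (htC : t ∈ Subgroup.centralizer ({z} : Set G))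
    (htQ : (⟨t, htC⟩ : Subgroup.centralizer ({z} : Set G)) ∈ Q)
    (ht2 : orderOf t = 2) (ht : ¬ IsConj z t) :
    ∃ k : G, k * t = t * k ∧
      (∃ hc : k * z * k⁻¹ ∈ Subgroup.centralizer ({z} : Set G),
        (⟨k * z * k⁻¹, hc⟩ : Subgroup.centralizer ({z} : Set G)) ∈ Q) ∧
      (k * z * k⁻¹) * t = t * (k * z * k⁻¹) ∧ k * z * k⁻¹ ≠ z ∧ k * z * k⁻¹ ≠ z * t := by
  -- a first conjugate, over the standard vector
  obtain ⟨g1, ⟨hq1, hqQ1⟩, hne1⟩ := hfus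
  obtain ⟨v1, hv1, hx1⟩ := h.conj_type4 ⟨⟨g1 * z * g1⁻¹, hq1⟩, hqQ1⟩ g1 rfl hne1
  obtain ⟨e', ψ', h', hx'⟩ := h.exists_twist _ v1 hv1 hx1
  have hfus' : ∃ g : G, (∃ hq : g * z * g⁻¹ ∈ Subgroup.centralizer ({z} : Set G),
      (⟨g * z * g⁻¹, hq⟩ : Subgroup.centralizer ({z} : Set G)) ∈ Q) ∧ g * z * g⁻¹ ≠ z :=
    ⟨g1, ⟨hq1, hqQ1⟩, hne1⟩
  obtain ⟨t0, w, hw, hwt0, ht0Qs⟩ := h'.exists_type2_inter g1 hq1 hqQ1 hne1 hx'
  -- `t` is of type 2
  obtain ⟨vt, hvt, hxt⟩ := h'.type2_of_not_conj hfus' ⟨⟨t, htC⟩, htQ⟩ ht2 ht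
  obtain ⟨c, hc⟩ := h'.trans2 w vt t0 ⟨⟨t, htC⟩, htQ⟩ hwt0 hxt hw hvt
  have hcG : (c : G) * ((t0 : Subgroup.centralizer ({z} : Set G)) : G) * (c : G)⁻¹ = t := by
    have := congrArg (fun u : Subgroup.centralizer ({z} : Set G) => (u : G)) hc
    simpa using this
  have hcz : (c : G) * z = z * (c : G) := Subgroup.mem_centralizer_singleton_iff.mp c.2
  -- the conjugate `s = g0 z g0⁻¹`, `g0 = c g1`
  set g0 : G := (c : G) * g1 with hg0
  have hs_eq : g0 * z * g0⁻¹ = (c : G) * (g1 * z * g1⁻¹) * (c : G)⁻¹ := by rw [hg0]; group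
  have hsQG : g0 * z * g0⁻¹ ∈ QG Q := by
    rw [hs_eq]
    exact QG_conj_mem c.2 (mem_QG.mpr ⟨hq1, hqQ1⟩)
  have hsz : g0 * z * g0⁻¹ ≠ z := by
    rw [hs_eq]
    intro h1
    apply hne1
    have h2 : g1 * z * g1⁻¹ = (c : G)⁻¹ * ((c : G) * (g1 * z * g1⁻¹) * (c : G)⁻¹) * (c : G) := by
      group
    rw [h2, h1]
    calc (c : G)⁻¹ * z * (c : G) = (c : G)⁻¹ * (z * (c : G)) := by group
      _ = (c : G)⁻¹ * ((c : G) * z) := by rw [hcz]
      _ = z := by group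
  -- `t' = g0⁻¹ t g0 ∈ Q`
  have ht'Q : g0⁻¹ * t * g0 ∈ QG Q := by
    have h1 : g0⁻¹ * t * g0 = g1⁻¹ * ((t0 : Subgroup.centralizer ({z} : Set G)) : G) * g1 := by
      rw [hg0, ← hcG]; group
    rw [h1]
    exact (mem_conj_iff g1 _).mp ht0Qs
  obtain ⟨ht'C, ht'Q'⟩ := mem_QG.mp ht'Q
  have ht'2 : orderOf (g0⁻¹ * t * g0) = 2 := by
    have := orderOf_conj' g0⁻¹ t
    rw [inv_inv] at this
    rw [this, ht2]
  have ht'nc : ¬ IsConj z (g0⁻¹ * t * g0) := by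
    intro h1
    apply ht
    obtain ⟨y, hy⟩ := isConj_iff.mp h1
    rw [isConj_iff]
    refine ⟨g0 * y, ?_⟩
    calc g0 * y * z * (g0 * y)⁻¹ = g0 * (y * z * y⁻¹) * g0⁻¹ := by group
      _ = g0 * (g0⁻¹ * t * g0) * g0⁻¹ := by rw [hy]
      _ = t := by group
  obtain ⟨vt', hvt', hxt'⟩ := h'.type2_of_not_conj hfus' ⟨⟨g0⁻¹ * t * g0, ht'C⟩, ht'Q'⟩ ht'2 ht'nc
  obtain ⟨c2, hc2⟩ := h'.trans2 vt vt' ⟨⟨t, htC⟩, htQ⟩ ⟨⟨g0⁻¹ * t * g0, ht'C⟩, ht'Q'⟩ hxt hxt' hvt hvt'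
  have hc2G : (c2 : G) * t * (c2 : G)⁻¹ = g0⁻¹ * t * g0 := by
    have := congrArg (fun u : Subgroup.centralizer ({z} : Set G) => (u : G)) hc2
    simpa using this
  have hc2z : (c2 : G) * z * (c2 : G)⁻¹ = z := by
    have := Subgroup.mem_centralizer_singleton_iff.mp c2.2
    rw [this]; group
  -- the element `k`
  have hkz : g0 * (c2 : G) * z * (g0 * (c2 : G))⁻¹ = g0 * z * g0⁻¹ := by
    calc g0 * (c2 : G) * z * (g0 * (c2 : G))⁻¹ = g0 * ((c2 : G) * z * (c2 : G)⁻¹) * g0⁻¹ := by group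
      _ = g0 * z * g0⁻¹ := by rw [hc2z]
  have hkt : g0 * (c2 : G) * t * (g0 * (c2 : G))⁻¹ = t := by
    calc g0 * (c2 : G) * t * (g0 * (c2 : G))⁻¹ = g0 * ((c2 : G) * t * (c2 : G)⁻¹) * g0⁻¹ := by group
      _ = g0 * (g0⁻¹ * t * g0) * g0⁻¹ := by rw [hc2G]
      _ = t := by group
  refine ⟨g0 * (c2 : G), ?_, ?_, ?_, ?_, ?_⟩
  · calc g0 * (c2 : G) * t = (g0 * (c2 : G) * t * (g0 * (c2 : G))⁻¹) * (g0 * (c2 : G)) := by group
      _ = t * (g0 * (c2 : G)) := by rw [hkt]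
  · rw [hkz]
    exact mem_QG.mp hsQG
  · rw [hkz]
    -- `t' ` commutes with `z`, conjugate by `g0`
    have h1 : g0⁻¹ * t * g0 * z = z * (g0⁻¹ * t * g0) :=
      Subgroup.mem_centralizer_singleton_iff.mp ht'C
    calc g0 * z * g0⁻¹ * t = g0 * (z * (g0⁻¹ * t * g0)) * g0⁻¹ := by group
      _ = g0 * (g0⁻¹ * t * g0 * z) * g0⁻¹ := by rw [h1]
      _ = t * (g0 * z * g0⁻¹) := by group
  · rw [hkz]; exact hsz
  · rw [hkz]
    intro h1
    -- `z t` is conjugate to `t`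
    have hnc : (⟨t, htC⟩ : Subgroup.centralizer ({z} : Set G)) ≠ 1 ∧
        (⟨t, htC⟩ : Subgroup.centralizer ({z} : Set G)) ≠ zC z := by
      constructor
      · intro h2
        exact z_ne_one_of ht2 (congrArg Subtype.val h2)
      · intro h2
        apply ht
        have : t = z := congrArg Subtype.val h2
        rw [this]
    obtain ⟨y, _, hy⟩ := h.swap htQ hnc.1 hnc.2
    have hyG : (y : G) * t * (y : G)⁻¹ = t * z := by
      have := congrArg (fun u : Subgroup.centralizer ({z} : Set G) => (u : G)) hy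
      simp only [Subgroup.coe_mul, Subgroup.coe_inv] at this
      exact this
    have htz : t * z = z * t := Subgroup.mem_centralizer_singleton_iff.mp htC
    apply ht
    rw [isConj_iff]
    refine ⟨(y : G)⁻¹ * g0, ?_⟩
    calc (y : G)⁻¹ * g0 * z * ((y : G)⁻¹ * g0)⁻¹ = (y : G)⁻¹ * (g0 * z * g0⁻¹) * (y : G) := by group
      _ = (y : G)⁻¹ * (z * t) * (y : G) := by rw [h1]
      _ = (y : G)⁻¹ * ((y : G) * t * (y : G)⁻¹) * (y : G) := by rw [hyG, htz]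
      _ = t := by group

end Cfsg.Agent.Lib.Helper9.MTc
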