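import Mathlib
import Cfsg.Agent.Lib.Helper1.FrattiniP

/-!
# S2990 / S2989 general units (helper9)

* `sSup_normal_of_conj_stable` (U3): the join of a conjugation-stable family of subgroups is normal.
* `normal_of_commutator_eq` (U7): if all members of a nonempty conjugation-stable family have the same
  derived subgroup `D`, then `D` is normal.
* `le_center_of_dich` (U8): the endgame of case b2.
* `frattini_sup_central` (U14): `Φ(X E) = Φ(X)` for `X` normal and `E` central elementary abelian in a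
  finite `p`-group.
-/

set_option autoImplicit false
set_option linter.unusedVariables false
set_option linter.unusedSectionVars false

namespace Cfsg.Agent.Lib.Helper9.PU2990E

open scoped commutatorElement

variable {G : Type*} [Group G]

/-- a subgroup stable under all conjugations is normal -/
theorem normal_of_map_conj_le (H : Subgroup G)
    (h : ∀ g : G, H.map (MulAut.conj g).toMonoidHom ≤ H) : H.Normal := by
  constructor
  intro n hn g
  exact h g ⟨n, hn, rfl⟩

/-- (U3) -/
theorem sSup_normal_of_conj_stable (F : Set (Subgroup G))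
    (h : ∀ X ∈ F, ∀ g : G, X.map (MulAut.conj g).toMonoidHom ∈ F) : (sSup F).Normal := by
  apply normal_of_map_conj_le
  intro g
  rw [Subgroup.map_le_iff_le_comap]
  apply sSup_le
  intro X hX
  rw [← Subgroup.map_le_iff_le_comap]
  exact le_sSup (h X hX g)

/-- (U3') the same for an indexed join -/
theorem iSup_normal_of_conj_stable {ι : Sort*} (F : ι → Subgroup G)
    (h : ∀ i, ∀ g : G, ∃ j, (F i).map (MulAut.conj g).toMonoidHom = F j) : (⨆ i, F i).Normal := by
  apply normal_of_map_conj_le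
  intro g
  rw [Subgroup.map_le_iff_le_comap]
  apply iSup_le
  intro i
  rw [← Subgroup.map_le_iff_le_comap]
  obtain ⟨j, hj⟩ := h i g
  rw [hj]
  exact le_iSup F j

/-- (U7) -/
theorem normal_of_commutator_eq (F : Set (Subgroup G)) (D : Subgroup G)
    (hne : F.Nonempty)
    (h : ∀ X ∈ F, ∀ g : G, X.map (MulAut.conj g).toMonoidHom ∈ F)
    (hD : ∀ X ∈ F, ⁅X, X⁆ = D) : D.Normal := by
  obtain ⟨X, hX⟩ := hne
  apply normal_of_map_conj_le
  intro g
  have h1 := hD _ (h X hX g)
  rw [← Subgroup.map_commutator, hD X hX] at h1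
  exact h1.le

/-- a subgroup centralised by `C` and `S` with `C ⊔ S = ⊤` is central -/
theorem le_center_of_sup_eq_top (C S Z : Subgroup G) (h : C ⊔ S = ⊤)
    (hS : S ≤ Subgroup.centralizer (Z : Set G)) (hC : C ≤ Subgroup.centralizer (Z : Set G)) :
    Z ≤ Subgroup.center G := by
  have htop : (⊤ : Subgroup G) ≤ Subgroup.centralizer (Z : Set G) := by
    rw [← h]; exact sup_le hC hS
  intro z hz
  rw [Subgroup.mem_center_iff]
  intro g
  exact (Subgroup.mem_centralizer_iff.mp (htop (Subgroup.mem_top g)) z hz).symm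

/-- a subgroup of the centre is normal -/
theorem normal_of_le_center (Z : Subgroup G) (h : Z ≤ Subgroup.center G) : Z.Normal := by
  constructor
  intro n hn g
  have := Subgroup.mem_center_iff.mp (h hn) g
  have e : g * n * g⁻¹ = n := by rw [this]; group
  rw [e]
  exact hn

/-- (U8) the endgame of case b2: `D1` normal, `Zq ≤ S` centralises `D1` but `Zq ≰ O`, where `O`
contains every normal subgroup of `G` inside `S`; then every `X ≤ D1` centralised by `S` is central. -/
theorem le_center_of_dich (S O D1 Zq X : Subgroup G)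
    (hdich : ∀ N : Subgroup G, N.Normal → N ⊔ S = ⊤ ∨ (N ⊓ S).Normal)
    (hmax : ∀ N : Subgroup G, N.Normal → N ≤ S → N ≤ O)
    (hD1 : D1.Normal) (hZq : Zq ≤ S)
    (hZqc : Zq ≤ Subgroup.centralizer (D1 : Set G)) (hZqO : ¬ Zq ≤ O)
    (hX : X ≤ D1) (hXS : S ≤ Subgroup.centralizer (X : Set G)) :
    X ≤ Subgroup.center G := by
  have := hD1
  have hNn : (Subgroup.centralizer (D1 : Set G)).Normal := Subgroup.normal_centralizer
  rcases hdich _ hNn with h | h
  · apply le_center_of_sup_eq_top _ S X h hXS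
    exact Subgroup.centralizer_le hX
  · exfalso
    apply hZqO
    exact (le_inf hZqc hZq).trans (hmax _ h inf_le_right)

section frattini

variable {H : Type*} [Group H] [Finite H]

/-- In a finite `p`-group the Frattini subgroup of a subgroup lies in the Frattini subgroup. -/
theorem frattini_map_subtype_le (p : ℕ) [Fact p.Prime] (hH : IsPGroup p H) (X : Subgroup H) :
    (frattini X).map X.subtype ≤ frattini H := by
  have hXp : IsPGroup p X := hH.to_subgroup X
  have key : frattini X ≤ (frattini H).subgroupOf X := by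
    apply Cfsg.Agent.Lib.Helper1.frattini_le_of_elementary_quotient p
    · rw [commutator_def, Subgroup.commutator_le]
      intro a _ b _
      rw [Subgroup.mem_subgroupOf]
      have : ((⁅a, b⁆ : X) : H) = ⁅(a : H), (b : H)⁆ := rfl
      rw [this]
      apply Cfsg.Agent.Lib.Helper1.commutator_le_frattini_of_isPGroup p hH
      rw [commutator_def]
      exact Subgroup.commutator_mem_commutator (Subgroup.mem_top _) (Subgroup.mem_top _)
    · intro x
      rw [Subgroup.mem_subgroupOf]
      have : ((x ^ p : X) : H) = (x : H) ^ p := rfl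
      rw [this]
      exact Cfsg.Agent.Lib.Helper1.pow_prime_mem_frattini_of_isPGroup p hH _
  rw [Subgroup.map_le_iff_le_comap]
  exact key

/-- (U14) `Φ(X E) = Φ(X)` for `X` normal, `E` central of exponent `p`, in a finite `p`-group. -/
theorem frattini_sup_central (p : ℕ) [Fact p.Prime] (hH : IsPGroup p H) (X E : Subgroup H)
    [X.Normal] (hE : E ≤ Subgroup.center H) (hEp : ∀ e ∈ E, e ^ p = 1) (hXE : X ⊔ E = ⊤) :
    frattini H = (frattini X).map X.subtype := by
  apply le_antisymm _ (frattini_map_subtype_le p hH X)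
  have hXp : IsPGroup p X := hH.to_subgroup X
  have hdec : ∀ h : H, ∃ x ∈ X, ∃ e ∈ E, h = x * e := by
    intro h
    have : h ∈ X ⊔ E := by rw [hXE]; exact Subgroup.mem_top h
    rw [Subgroup.mem_sup_of_normal_left] at this
    obtain ⟨x, hx, e, he, rfl⟩ := this
    exact ⟨x, hx, e, he, rfl⟩
  have hcen : ∀ e ∈ E, ∀ h : H, e * h = h * e := by
    intro e he h
    exact (Subgroup.mem_center_iff.mp (hE he) h).symm
  apply Cfsg.Agent.Lib.Helper1.frattini_le_of_elementary_quotient p
  · rw [commutator_def, Subgroup.commutator_le]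
    intro a _ b _
    obtain ⟨x, hx, e, he, rfl⟩ := hdec a
    obtain ⟨x', hx', e', he', rfl⟩ := hdec b
    have e1 : ⁅x * e, x' * e'⁆ = ⁅x, x'⁆ := by
      rw [commutatorElement_def, commutatorElement_def]
      have c1 := hcen e he
      have c2 := hcen e' he'
      have c3 := hcen e⁻¹ (E.inv_mem he)
      have c4 := hcen e'⁻¹ (E.inv_mem he')
      calc x * e * (x' * e') * (x * e)⁻¹ * (x' * e')⁻¹
          = x * (e * x') * e' * (e⁻¹ * x⁻¹) * (e'⁻¹ * x'⁻¹) := by group
        _ = x * (x' * e) * e' * (x⁻¹ * e⁻¹) * (x'⁻¹ * e'⁻¹) := by rw [c1 x', c3 x⁻¹, c4 x'⁻¹]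
        _ = x * x' * (e * (e' * x⁻¹)) * e⁻¹ * (x'⁻¹ * e'⁻¹) := by group
        _ = x * x' * (e * (x⁻¹ * e')) * e⁻¹ * (x'⁻¹ * e'⁻¹) := by rw [c2 x⁻¹]
        _ = x * x' * ((e * x⁻¹) * e') * e⁻¹ * (x'⁻¹ * e'⁻¹) := by group
        _ = x * x' * ((x⁻¹ * e) * e') * e⁻¹ * (x'⁻¹ * e'⁻¹) := by rw [c1 x⁻¹]
        _ = x * x' * x⁻¹ * (e * (e' * e⁻¹)) * (x'⁻¹ * e'⁻¹) := by group
        _ = x * x' * x⁻¹ * (e * (e⁻¹ * e')) * (x'⁻¹ * e'⁻¹) := by rw [c2 e⁻¹]
        _ = x * x' * x⁻¹ * (e' * x'⁻¹) * e'⁻¹ := by group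
        _ = x * x' * x⁻¹ * (x'⁻¹ * e') * e'⁻¹ := by rw [c2 x'⁻¹]
        _ = x * x' * x⁻¹ * x'⁻¹ := by group
    rw [e1]
    refine ⟨⁅(⟨x, hx⟩ : X), ⟨x', hx'⟩⁆, ?_, rfl⟩
    apply Cfsg.Agent.Lib.Helper1.commutator_le_frattini_of_isPGroup p hXp
    rw [commutator_def]
    exact Subgroup.commutator_mem_commutator (Subgroup.mem_top _) (Subgroup.mem_top _)
  · intro h
    obtain ⟨x, hx, e, he, rfl⟩ := hdec h
    have hcomm : Commute x e := (hcen e he x).symm
    rw [hcomm.mul_pow, hEp e he, mul_one]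
    exact ⟨(⟨x, hx⟩ : X) ^ p, Cfsg.Agent.Lib.Helper1.pow_prime_mem_frattini_of_isPGroup p hXp _, rfl⟩

end frattini

end Cfsg.Agent.Lib.Helper9.PU2990E
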