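import Mathlib
import Cfsg.Agent.Lib.Helper6.CL0
import Cfsg.Agent.Lib.Helper4.MCLG2
import Cfsg.Agent.Lib.Helper9.PU2990E

/-!
# S2989 units `phi_eq_of_central_elementary` and `sPhi_normal` (helper9), verbatim from helper6's stubs
-/

set_option autoImplicit false
set_option linter.unusedVariables false
set_option linter.unusedSectionVars false

namespace Cfsg.Agent.Lib.Helper9.CLP9

open Cfsg.Agent.Lib.Helper6.CLP

/-- the Frattini subgroup is preserved by isomorphisms -/
theorem frattini_map_mulEquiv {A B : Type*} [Group A] [Group B] (e : A ≃* B) :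
    (frattini A).map e.toMonoidHom = frattini B := by
  apply le_antisymm
  · rw [Subgroup.map_le_iff_le_comap]
    exact frattini_le_comap_frattini_of_surjective (φ := e.toMonoidHom) e.surjective
  · have h := frattini_le_comap_frattini_of_surjective (φ := e.symm.toMonoidHom) e.symm.surjective
    intro b hb
    have hb' := h hb
    rw [Subgroup.mem_comap] at hb'
    refine ⟨e.symm b, hb', ?_⟩
    simp

section general

variable {G : Type*} [Group G] {G' : Type*} [Group G']

/-- `Φ` of the image under an injective homomorphism -/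
theorem phi_map_of_injective (f : G →* G') (hf : Function.Injective f) (X : Subgroup G) :
    phi (X.map f) = (phi X).map f := by
  unfold phi
  set e := X.equivMapOfInjective f hf with he
  rw [← frattini_map_mulEquiv e, Subgroup.map_map, Subgroup.map_map]
  congr 1

/-- `Z(f X) = f (Z(X))` for injective `f` -/
theorem zc_map_of_injective (f : G →* G') (hf : Function.Injective f) (X : Subgroup G) :
    zc (X.map f) = (zc X).map f := by
  unfold zc
  ext x
  constructor
  · intro hx
    obtain ⟨⟨y, hy, rfl⟩, hc⟩ := Subgroup.mem_inf.mp hx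
    refine ⟨y, Subgroup.mem_inf.mpr ⟨hy, ?_⟩, rfl⟩
    rw [Subgroup.mem_centralizer_iff]
    intro z hz
    have := Subgroup.mem_centralizer_iff.mp hc _ (Subgroup.mem_map_of_mem f hz)
    apply hf
    rw [map_mul, map_mul]
    exact this
  · rintro ⟨y, hy, rfl⟩
    obtain ⟨hyX, hyc⟩ := Subgroup.mem_inf.mp hy
    refine Subgroup.mem_inf.mpr ⟨Subgroup.mem_map_of_mem f hyX, ?_⟩
    rw [Subgroup.mem_centralizer_iff]
    rintro _ ⟨z, hz, rfl⟩
    have := Subgroup.mem_centralizer_iff.mp hyc z hz
    rw [← map_mul, ← map_mul, this]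

/-- `Ω₁(Z(f X)) = f (Ω₁(Z(X)))` for injective `f` -/
theorem omegaOneCenter_map_of_injective (p : ℕ) (f : G →* G') (hf : Function.Injective f)
    (X : Subgroup G) :
    Cfsg.omegaOneCenter p (X.map f) = (Cfsg.omegaOneCenter p X).map f := by
  have hz := zc_map_of_injective f hf X
  unfold zc at hz
  unfold Cfsg.omegaOneCenter Cfsg.omegaOne
  rw [hz, MonoidHom.map_closure]
  congr 1
  ext x
  constructor
  · rintro ⟨⟨y, hy, rfl⟩, hp⟩
    refine ⟨y, ⟨hy, ?_⟩, rfl⟩
    apply hf
    rw [map_pow, hp, map_one]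
  · rintro ⟨y, ⟨hy, hp⟩, rfl⟩
    exact ⟨Subgroup.mem_map_of_mem f hy, by rw [← map_pow, hp, map_one]⟩

theorem card_omegaOneCenter_map_of_injective (p : ℕ) (f : G →* G') (hf : Function.Injective f)
    (X : Subgroup G) :
    Nat.card (Cfsg.omegaOneCenter p (X.map f)) = Nat.card (Cfsg.omegaOneCenter p X) := by
  rw [omegaOneCenter_map_of_injective p f hf, Subgroup.card_map_of_injective hf]

end general

variable {G : Type*} [Group G] [Finite G] {p : ℕ} [Fact p.Prime]

omit [Finite G] in
/-- U-FRAT : `Φ(X E) = Φ(X)` for `X ⊴ H = X E`, `E` central elementary abelian (step 4 of S2989). -/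
theorem phi_eq_of_central_elementary [Finite G] (H X E : Subgroup G) (hH : IsPGroup p H) (hX : X ≤ H)
    (hXn : H ≤ Subgroup.normalizer (X : Set G)) (hE : E ≤ zc H) (hEel : ∀ e ∈ E, e ^ p = 1)
    (hsup : X ⊔ E = H) : phi H = phi X := by
  have hEH : E ≤ H := hE.trans inf_le_left
  have hXn' : (X.subgroupOf H).Normal := by
    constructor
    intro n hn g
    rw [Subgroup.mem_subgroupOf] at hn ⊢
    exact (Subgroup.mem_normalizer_iff.mp (hXn g.2) n.1).mp hn
  have hE' : E.subgroupOf H ≤ Subgroup.center H := by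
    intro e he
    rw [Subgroup.mem_subgroupOf] at he
    have hc := (Subgroup.mem_inf.mp (hE he)).2
    rw [Subgroup.mem_center_iff]
    intro g
    apply Subtype.ext
    exact Subgroup.mem_centralizer_iff.mp hc g.1 g.2
  have hEel' : ∀ e ∈ E.subgroupOf H, e ^ p = 1 := by
    intro e he
    rw [Subgroup.mem_subgroupOf] at he
    apply Subtype.ext
    exact hEel e.1 he
  have hsup' : X.subgroupOf H ⊔ E.subgroupOf H = ⊤ := by
    rw [← Subgroup.subgroupOf_sup hX hEH, hsup, Subgroup.subgroupOf_self]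
  have key := Cfsg.Agent.Lib.Helper9.PU2990E.frattini_sup_central p hH (X.subgroupOf H)
    (E.subgroupOf H) hE' hEel' hsup'
  unfold phi
  rw [key, Subgroup.map_map]
  set e := Subgroup.subgroupOfEquivOfLe hX with he
  rw [← frattini_map_mulEquiv e, Subgroup.map_map]
  congr 1

omit [Fact p.Prime] in
/-- U-SPHI : normality of `S_Φ` from the replacement claim. -/
theorem sPhi_normal (S O : Subgroup G) [O.Normal] (hOS : O ≤ S)
    (hclaim : ∀ Q : Subgroup G, MCLstar p S Q → ∃ R : Subgroup G, MCLstar p S R ∧ R ≤ O ∧ phi R = phi Q) :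
    ((Cfsg.frattiniOfMinimalCLJoin p ↥S).map S.subtype).Normal := by
  classical
  -- the family of `Φ(R)`, `R ≤ O` in `MCLstar`
  set F : Set (Subgroup G) := {Y | ∃ R : Subgroup G, MCLstar p S R ∧ R ≤ O ∧ Y = phi R} with hF
  have hsub : ∀ Q : Subgroup ↥S, (Q.map S.subtype).subgroupOf S = Q := by
    intro Q
    exact Subgroup.comap_map_eq_self_of_injective S.subtype_injective Q
  have hmapsub : ∀ Y : Subgroup G, Y ≤ S → (Y.subgroupOf S).map S.subtype = Y := by
    intro Y hY
    rw [Subgroup.subgroupOf_map_subtype, inf_of_le_left hY]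
  have hcardmap : ∀ Q : Subgroup ↥S, Nat.card (Cfsg.omegaOneCenter p (Q.map S.subtype))
      = Nat.card (Cfsg.omegaOneCenter p Q) :=
    fun Q => card_omegaOneCenter_map_of_injective p S.subtype S.subtype_injective Q
  -- the set of values defining `mz`
  set K : Set ℕ := {k : ℕ | ∃ Q : Subgroup ↥S, Cfsg.IsMinimalCentrallyLarge Q ∧
    Nat.card ↥(Cfsg.omegaOneCenter p Q) = k} with hK
  have hmz : Cfsg.maxOmegaCenterOfMinimalCL p ↥S = sSup K := rfl
  have hbdd : BddAbove K := by
    refine ⟨Nat.card ↥S, ?_⟩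
    rintro k ⟨Q, -, rfl⟩
    exact Subgroup.card_le_card_group _
  -- `MCLstar` versus the index set of the join
  have hstar_iff : ∀ Q : Subgroup ↥S, (Cfsg.IsMinimalCentrallyLarge Q ∧
      Nat.card ↥(Cfsg.omegaOneCenter p Q) = Cfsg.maxOmegaCenterOfMinimalCL p ↥S)
      ↔ MCLstar p S (Q.map S.subtype) := by
    intro Q
    constructor
    · rintro ⟨hQ, hc⟩
      refine ⟨⟨Subgroup.map_subtype_le Q, by rw [hsub]; exact hQ⟩, ?_⟩
      intro Y hY
      rw [hcardmap, hc, hmz]
      have h1 : Nat.card (Cfsg.omegaOneCenter p Y)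
          = Nat.card (Cfsg.omegaOneCenter p (Y.subgroupOf S)) := by
        rw [← hcardmap, hmapsub Y hY.1]
      rw [h1]
      exact le_csSup hbdd ⟨Y.subgroupOf S, hY.2, rfl⟩
    · rintro ⟨⟨-, hQ⟩, hmax⟩
      rw [hsub] at hQ
      refine ⟨hQ, ?_⟩
      apply le_antisymm
      · rw [hmz]
        exact le_csSup hbdd ⟨Q, hQ, rfl⟩
      · rw [hmz]
        apply csSup_le (show K.Nonempty from ⟨_, ⟨Q, hQ, rfl⟩⟩)
        rintro k ⟨Q', hQ', rfl⟩
        have := hmax (Q'.map S.subtype) ⟨Subgroup.map_subtype_le Q', by rw [hsub]; exact hQ'⟩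
        rwa [hcardmap, hcardmap] at this
  have hphimap : ∀ Q : Subgroup ↥S,
      ((frattini ↥Q).map Q.subtype).map S.subtype = phi (Q.map S.subtype) := by
    intro Q
    have := phi_map_of_injective S.subtype S.subtype_injective Q
    rw [this]
    rfl
  -- the join is `sSup F`
  have hjoin : (Cfsg.frattiniOfMinimalCLJoin p ↥S).map S.subtype = sSup F := by
    unfold Cfsg.frattiniOfMinimalCLJoin
    rw [Subgroup.map_iSup]
    apply le_antisymm
    · apply iSup_le
      rintro ⟨Q, hQ⟩
      rw [hphimap]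
      have hst := (hstar_iff Q).mp hQ
      obtain ⟨R, hR, hRO, hRQ⟩ := hclaim _ hst
      apply le_sSup
      exact ⟨R, hR, hRO, hRQ.symm⟩
    · apply sSup_le
      rintro Y ⟨R, hR, hRO, rfl⟩
      have hRS : R ≤ S := hR.1.1
      have hst : MCLstar p S ((R.subgroupOf S).map S.subtype) := by
        rw [hmapsub R hRS]; exact hR
      have hidx := (hstar_iff (R.subgroupOf S)).mpr hst
      have h1 := le_iSup (fun Q : {Q : Subgroup ↥S // Cfsg.IsMinimalCentrallyLarge Q ∧
          Nat.card ↥(Cfsg.omegaOneCenter p Q) = Cfsg.maxOmegaCenterOfMinimalCL p ↥S} =>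
          ((frattini ↥(Q : Subgroup ↥S)).map (Q : Subgroup ↥S).subtype).map S.subtype)
        ⟨R.subgroupOf S, hidx⟩
      simp only at h1
      rw [hphimap, hmapsub R hRS] at h1
      exact h1
  rw [hjoin]
  apply Cfsg.Agent.Lib.Helper9.PU2990E.sSup_normal_of_conj_stable
  rintro Y ⟨R, hR, hRO, rfl⟩ g
  have hinj : Function.Injective (MulAut.conj g).toMonoidHom := (MulAut.conj g).injective
  refine ⟨R.map (MulAut.conj g).toMonoidHom, ?_, ?_, ?_⟩
  · have hRgO : R.map (MulAut.conj g).toMonoidHom ≤ O := by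
      rintro _ ⟨y, hy, rfl⟩
      exact (inferInstance : O.Normal).conj_mem y (hRO hy) g
    refine ⟨⟨hRgO.trans hOS, ?_⟩, ?_⟩
    · exact Cfsg.Agent.Lib.Helper4.MCLG.conj_isMCL S O R hOS hRO hR.1.2 g
    · intro Y hY
      rw [card_omegaOneCenter_map_of_injective p _ hinj]
      exact hR.2 Y hY
  · rintro _ ⟨y, hy, rfl⟩
    exact (inferInstance : O.Normal).conj_mem y (hRO hy) g
  · exact (phi_map_of_injective _ hinj R).symm

end Cfsg.Agent.Lib.Helper9.CLP9
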