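import Cfsg.Agent.Lib.Helper9.FactorSys2

set_option autoImplicit false

namespace Cfsg.Agent.Lib.Helper9

open Cfsg Cfsg.FusionSystem

variable {Ω : Type*} [Group Ω] {S : Subgroup Ω} {Ω' : Type*} [Group Ω']

theorem imageAlong_le_range (θ : S →* Ω') (P : Subgroup Ω) : imageAlong θ P ≤ θ.range := by
  rintro _ ⟨s, -, rfl⟩
  exact ⟨s, rfl⟩

theorem imageAlong_preimageAlong (θ : S →* Ω') {S' : Subgroup Ω'} (hrange : θ.range = S')
    {P' : Subgroup Ω'} (hP' : P' ≤ S') : imageAlong θ (preimageAlong θ P') = P' := by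
  apply le_antisymm
  · intro y hy
    obtain ⟨x, hxS, hxP, rfl⟩ := (mem_imageAlong θ _ y).mp hy
    exact ((mem_preimageAlong θ P' x).mp hxP).2
  · intro y hy
    obtain ⟨d, hd⟩ := exists_preimage_of_mem_range θ hrange hP' ⟨y, hy⟩
    exact (mem_imageAlong θ _ y).mpr ⟨d, preimageAlong_le θ P' d.2, d.2, hd⟩

theorem preimageAlong_imageAlong (θ : S →* Ω') {S₀ : Subgroup Ω}
    (hker : ∀ s : S, θ s = 1 ↔ (s : Ω) ∈ S₀) {P : Subgroup Ω} (hP : P ≤ S) (hS₀P : S₀ ≤ P) :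
    preimageAlong θ (imageAlong θ P) = P :=
  le_antisymm ((preimageAlong_imageAlong_le θ hker P).trans (sup_le le_rfl hS₀P))
    (le_preimageAlong_imageAlong θ hP)

theorem preimageAlong_mono (θ : S →* Ω') {P' Q' : Subgroup Ω'} (h : P' ≤ Q') :
    preimageAlong θ P' ≤ preimageAlong θ Q' := by
  intro x hx
  obtain ⟨hxS, hx'⟩ := (mem_preimageAlong θ P' x).mp hx
  exact (mem_preimageAlong θ Q' x).mpr ⟨hxS, h hx'⟩

theorem imageAlong_mono (θ : S →* Ω') {P Q : Subgroup Ω} (h : P ≤ Q) :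
    imageAlong θ P ≤ imageAlong θ Q := by
  intro y hy
  obtain ⟨x, hxS, hxP, rfl⟩ := (mem_imageAlong θ _ y).mp hy
  exact (mem_imageAlong θ _ _).mpr ⟨x, hxS, h hxP, rfl⟩

/-- `|θ⁻¹(P')| = |P'| · |S₀|` -/
theorem card_preimageAlong [Finite S] (θ : S →* Ω') {S₀ : Subgroup Ω} (hS₀ : S₀ ≤ S)
    (hker : ∀ s : S, θ s = 1 ↔ (s : Ω) ∈ S₀) {S' : Subgroup Ω'} (hrange : θ.range = S')
    {P' : Subgroup Ω'} (hP' : P' ≤ S') :
    Nat.card (preimageAlong θ P') = Nat.card P' * Nat.card S₀ := by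
  have hD : preimageAlong θ P' ≤ S := preimageAlong_le θ P'
  have hS₀D : S₀ ≤ preimageAlong θ P' := ker_le_preimageAlong θ hS₀ hker P'
  let f : (preimageAlong θ P' : Subgroup Ω) →* P' :=
    (θ.comp (Subgroup.inclusion hD)).codRestrict P' (map_mem_of_mem_preimageAlong θ P')
  have hf : Function.Surjective f := by
    intro y
    obtain ⟨d, hd⟩ := exists_preimage_of_mem_range θ hrange hP' y
    exact ⟨d, Subtype.ext hd⟩
  have hkerf : f.ker = S₀.subgroupOf (preimageAlong θ P') := by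
    ext d
    rw [MonoidHom.mem_ker, Subgroup.mem_subgroupOf, ← hker ⟨d, hD d.2⟩]
    constructor
    · intro h
      exact congrArg Subtype.val h
    · intro h
      exact Subtype.ext h
  have h1 := Subgroup.card_eq_card_quotient_mul_card_subgroup f.ker
  have h2 : Nat.card ((preimageAlong θ P' : Subgroup Ω) ⧸ f.ker) = Nat.card P' :=
    Nat.card_congr (QuotientGroup.quotientKerEquivOfSurjective f hf).toEquiv
  have h3 : Nat.card f.ker = Nat.card S₀ := by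
    rw [hkerf]
    exact Nat.card_congr (Subgroup.subgroupOfEquivOfLe hS₀D).toEquiv
  rw [h1, h2, h3]

/-- the normalizer of `θ⁻¹(Q')` is the preimage of the normalizer of `Q'` -/
theorem preimageAlong_normalizerIn (θ : S →* Ω') {S' : Subgroup Ω'} (hrange : θ.range = S')
    {Q' : Subgroup Ω'} (hQ' : Q' ≤ S') :
    preimageAlong θ (normalizerIn S' Q') = normalizerIn S (preimageAlong θ Q') := by
  have key : ∀ g : S, θ g ∈ Subgroup.normalizer (Q' : Set Ω') →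
      ∀ x ∈ preimageAlong θ Q', (g : Ω) * x * (g : Ω)⁻¹ ∈ preimageAlong θ Q' := by
    intro g hg x hx
    obtain ⟨hxS, hx'⟩ := (mem_preimageAlong θ Q' x).mp hx
    refine (mem_preimageAlong θ Q' _).mpr ⟨S.mul_mem (S.mul_mem g.2 hxS) (S.inv_mem g.2), ?_⟩
    have h1 : (⟨(g : Ω) * x * (g : Ω)⁻¹, S.mul_mem (S.mul_mem g.2 hxS) (S.inv_mem g.2)⟩ : S) =
        g * ⟨x, hxS⟩ * g⁻¹ := Subtype.ext rfl
    rw [h1, map_mul, map_mul, map_inv]
    exact (Subgroup.mem_normalizer_iff.mp hg _).mp hx'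
  have key' : ∀ g : S, (g : Ω) ∈ Subgroup.normalizer ((preimageAlong θ Q' : Subgroup Ω) : Set Ω) →
      ∀ y ∈ Q', θ g * y * (θ g)⁻¹ ∈ Q' := by
    intro g hg y hy
    obtain ⟨d, hd⟩ := exists_preimage_of_mem_range θ hrange hQ' ⟨y, hy⟩
    have h1 : (g : Ω) * d * (g : Ω)⁻¹ ∈ preimageAlong θ Q' :=
      (Subgroup.mem_normalizer_iff.mp hg _).mp d.2
    obtain ⟨h2S, h2⟩ := (mem_preimageAlong θ Q' _).mp h1
    have h3 : (⟨(g : Ω) * d * (g : Ω)⁻¹, h2S⟩ : S) =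
        g * ⟨d, preimageAlong_le θ Q' d.2⟩ * g⁻¹ := Subtype.ext rfl
    rw [h3, map_mul, map_mul, map_inv, hd] at h2
    exact h2
  apply le_antisymm
  · intro g hg
    obtain ⟨hgS, hg'⟩ := (mem_preimageAlong θ _ g).mp hg
    refine ⟨hgS, ?_⟩
    show g ∈ Subgroup.normalizer ((preimageAlong θ Q' : Subgroup Ω) : Set Ω)
    rw [Subgroup.mem_normalizer_iff]
    intro x
    constructor
    · exact key ⟨g, hgS⟩ hg'.2 x
    · intro hx
      have hginv : θ (⟨g, hgS⟩⁻¹ : S) ∈ Subgroup.normalizer (Q' : Set Ω') := by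
        rw [map_inv]; exact Subgroup.inv_mem _ hg'.2
      have := key (⟨g, hgS⟩⁻¹) hginv _ hx
      have e : ((⟨g, hgS⟩⁻¹ : S) : Ω) * (g * x * g⁻¹) * ((⟨g, hgS⟩⁻¹ : S) : Ω)⁻¹ = x := by
        show g⁻¹ * (g * x * g⁻¹) * g⁻¹⁻¹ = x
        group
      rw [e] at this
      exact this
  · intro g hg
    refine (mem_preimageAlong θ _ g).mpr ⟨hg.1, hrange ▸ ⟨_, rfl⟩, ?_⟩
    show θ ⟨g, hg.1⟩ ∈ Subgroup.normalizer (Q' : Set Ω')
    rw [Subgroup.mem_normalizer_iff]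
    intro y
    constructor
    · exact key' ⟨g, hg.1⟩ hg.2 y
    · intro hy
      have hginv : ((⟨g, hg.1⟩⁻¹ : S) : Ω) ∈
          Subgroup.normalizer ((preimageAlong θ Q' : Subgroup Ω) : Set Ω) :=
        Subgroup.inv_mem _ hg.2
      have := key' (⟨g, hg.1⟩⁻¹) hginv _ hy
      rw [map_inv] at this
      have e : (θ ⟨g, hg.1⟩)⁻¹ * (θ ⟨g, hg.1⟩ * y * (θ ⟨g, hg.1⟩)⁻¹) * (θ ⟨g, hg.1⟩)⁻¹⁻¹ = y := by
        group
      rw [e] at this
      exact this

end Cfsg.Agent.Lib.Helper9
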