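import Cfsg.Agent.Lib.Helper9.Persist
import Cfsg.Prelude.Def_FusionComponents

set_option autoImplicit false

namespace Cfsg.Agent.Lib.Helper9

open Cfsg Cfsg.FusionSystem

variable {Ω : Type*} [Group Ω]

theorem le_of_isSubnormalIn {T S : Subgroup Ω} {E : FusionSystem T} {F : FusionSystem S} {p : ℕ}
    (hE : E.IsSubnormalIn F p) : T ≤ S := by
  induction hE with
  | refl F p => exact le_rfl
  | step _ hDF ih => exact ih.trans hDF.1.2.2.2.1.1

theorem fullyNormalized_of_isSubnormalIn {T S : Subgroup Ω} {E : FusionSystem T}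
    {F : FusionSystem S} {p : ℕ} (hE : E.IsSubnormalIn F p) :
    Fact p.Prime → Finite S → IsPGroup p S → F.IsSaturated p →
      ∀ P : Subgroup Ω, P ≤ T → F.IsFullyNormalized P → E.IsFullyNormalized P := by
  induction hE with
  | refl F p =>
    intro _ _ _ _ P _ h
    exact h
  | step hED hDF ih =>
    rename_i T U S E D F p
    intro hp hfin hS hF P hPT hP
    have hUsc : F.StronglyClosed U := hDF.1.2.2.2.1
    have hUS : U ≤ S := hUsc.1
    have hTU : T ≤ U := le_of_isSubnormalIn hED
    have hfinU : Finite U := finite_of_le hUS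
    have hPD : D.IsFullyNormalized P :=
      fullyNormalized_of_subsystem p hS F hF U hUsc D hDF.1.2.2.1 P (hPT.trans hTU) hP
    exact ih hp hfinU (isPGroup_of_le hS hUS) hDF.1.1 P hPT hPD

end Cfsg.Agent.Lib.Helper9
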