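import Mathlib
import Cfsg.Prelude.Def_JordanBlocks
import Cfsg.Agent.Lib.Helper6.GUCDefs

set_option autoImplicit false

/-!
Farm GUC (statement S2646), unit J1: the kernel of the projection of the commutant onto its
semisimple quotient is parametrised by the parameters outside the diagonal blocks.
-/

namespace Cfsg.Agent.Lib.Helper9.GUC

open Matrix Cfsg.Agent.Lib.Helper6.GLC Cfsg.Agent.Lib.Helper6.GUC

universe u

variable {K : Type u} [Field K] {t : ℕ} [Fintype K]

/-- the kernel, parametrised -/
noncomputable def kerEquiv (d : Fin t → ℕ) (hd : ∀ k, 1 ≤ d k) (N : ℕ) (hN : ∀ k, d k < N) :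
    {x : Matrix (Idx d) (Idx d) K // x ∈ Rc K d ∧ piFun d hd N x = 0} ≃
      ({p : Par d // ¬ isE d p.1} → K) where
  toFun x := fun p => params d hd x.1 p.1
  invFun u := ⟨toMat d (build d N hN u 0), by
    refine ⟨(mem_Rc d _).2 (toMat_comm d _), ?_⟩
    funext i
    unfold piFun
    rw [params_toMat, Gbar_build]⟩
  left_inv x := by
    obtain ⟨x, hx, h0⟩ := x
    apply Subtype.ext
    simp only
    have h1 : build d N hN (fun p => params d hd x p.1) 0 = params d hd x := by
      have h2 := build_Gbar d hd N hN (params d hd x)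
      have h3 : (fun i : Fin N => Gbar d hd (params d hd x) (i : ℕ)) = 0 := h0
      rw [h3] at h2
      exact h2
    rw [h1]
    exact toMat_params d hd x ((mem_Rc d x).1 hx)
  right_inv u := by
    funext p
    simp only
    rw [params_toMat]
    unfold build
    rw [dif_neg p.2]

/-- **J1**: the size of the kernel -/
theorem card_ker (d : Fin t → ℕ) (hd : ∀ k, 1 ≤ d k) (N : ℕ) (hN : ∀ k, d k < N) :
    Nat.card {x : Matrix (Idx d) (Idx d) K // x ∈ Rc K d ∧ piFun d hd N x = 0} =
      Fintype.card K ^ Nat.card {p : Par d // ¬ isE d p.1} := by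
  rw [Nat.card_congr (kerEquiv d hd N hN), Nat.card_fun, Nat.card_eq_fintype_card (α := K)]

end Cfsg.Agent.Lib.Helper9.GUC
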