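import Mathlib
import Cfsg.Prelude.Def_LieClassical
import Cfsg.Agent.Lib.Helper6.GUCDefs
import Cfsg.Agent.Lib.Helper5.UnitConj.CT

set_option autoImplicit false

/-!
Farm GUC (statement S2646), unit J3: the unitary group of the semisimple quotient
`B = Π_i M_{a_i}(K)` (with the conjugate transpose on each factor) is `Π_i GU_{a_i}(q)`.
-/

namespace Cfsg.Agent.Lib.Helper9.GUC

open Matrix Cfsg.Agent.Lib.Helper6.GLC Cfsg.Agent.Lib.Helper6.GUC

universe u

variable {K : Type u} [Field K] {t : ℕ} [Fintype K]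

/-- one factor: the matrices with `ct x * x = 1` over an index type of cardinality `a` are
equinumerous with `GU_a(q)` -/
theorem card_factor {q : ℕ} (hK : Fintype.card K = q ^ 2) {S : Type*} [Fintype S] [DecidableEq S]
    {a : ℕ} (ha : Fintype.card S = a) :
    Nat.card {M : Matrix S S K // ct (Cfsg.Agent.Lib.Helper5.HermBridge.sigma hK) M * M = 1} =
      Nat.card ↥(Cfsg.GU a K q) := by
  classical
  let e : S ≃ Fin a := Fintype.equivFinOfCardEq ha
  -- reindex to `Fin a`
  have e1 : {M : Matrix S S K // ct (Cfsg.Agent.Lib.Helper5.HermBridge.sigma hK) M * M = 1} ≃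
      {M : Matrix (Fin a) (Fin a) K //
        Cfsg.Agent.Lib.Helper5.UnitConj.cT hK M * M = 1} := by
    refine (Matrix.reindex e e).subtypeEquiv ?_
    intro M
    have h1 : Cfsg.Agent.Lib.Helper5.UnitConj.cT hK (Matrix.reindex e e M) * Matrix.reindex e e M
        = Matrix.reindex e e (ct (Cfsg.Agent.Lib.Helper5.HermBridge.sigma hK) M * M) := by
      ext i j
      simp only [Matrix.reindex_apply, Matrix.submatrix_apply, Matrix.mul_apply,
        Cfsg.Agent.Lib.Helper5.UnitConj.cT_apply, ct_apply]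
      exact Equiv.sum_comp e.symm (fun x =>
        Cfsg.Agent.Lib.Helper5.HermBridge.sigma hK (M x (e.symm i)) * M x (e.symm j))
    rw [h1]
    constructor
    · intro h
      rw [h]
      ext i j
      simp [Matrix.one_apply]
    · intro h
      have h2 := congrArg (Matrix.reindex e.symm e.symm) h
      have h3 : Matrix.reindex e.symm e.symm (Matrix.reindex e e
          (ct (Cfsg.Agent.Lib.Helper5.HermBridge.sigma hK) M * M))
          = ct (Cfsg.Agent.Lib.Helper5.HermBridge.sigma hK) M * M := by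
        ext i j
        simp
      rw [h3] at h2
      rw [h2]
      ext i j
      simp [Matrix.one_apply]
  rw [Nat.card_congr e1]
  symm
  apply Nat.card_congr
  refine Equiv.ofBijective (fun g => ⟨((g : GL (Fin a) K) : Matrix (Fin a) (Fin a) K),
    (Cfsg.Agent.Lib.Helper5.UnitConj.mem_GU_iff_cT hK (g : GL (Fin a) K)).1 g.2⟩) ⟨?_, ?_⟩
  · intro g g' h
    apply Subtype.ext
    apply Units.ext
    exact congrArg Subtype.val h
  · rintro ⟨M, hM⟩
    have hM' : M * Cfsg.Agent.Lib.Helper5.UnitConj.cT hK M = 1 := mul_eq_one_comm.1 hM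
    let g : GL (Fin a) K := ⟨M, Cfsg.Agent.Lib.Helper5.UnitConj.cT hK M, hM', hM⟩
    exact ⟨⟨g, (Cfsg.Agent.Lib.Helper5.UnitConj.mem_GU_iff_cT hK g).2 hM⟩, rfl⟩

/-- **J3**: each factor is a standard unitary group -/
theorem card_UB (d : Fin t → ℕ) (N : ℕ) {q : ℕ} (hK : Fintype.card K = q ^ 2) :
    Nat.card {b : Bq K d N // ctB (Cfsg.Agent.Lib.Helper5.HermBridge.sigma hK) d N b * b = 1} =
      ∏ i : Fin N, Nat.card ↥(Cfsg.GU (Finset.univ.filter (fun k : Fin t => d k = (i : ℕ))).card K q) := by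
  classical
  have e1 : {b : Bq K d N // ctB (Cfsg.Agent.Lib.Helper5.HermBridge.sigma hK) d N b * b = 1} ≃
      ∀ i : Fin N, {M : Matrix {k : Fin t // d k = (i : ℕ)} {k : Fin t // d k = (i : ℕ)} K //
        ct (Cfsg.Agent.Lib.Helper5.HermBridge.sigma hK) M * M = 1} :=
    { toFun := fun b i => ⟨b.1 i, congrFun b.2 i⟩
      invFun := fun f => ⟨fun i => (f i).1, funext fun i => (f i).2⟩
      left_inv := fun b => rfl
      right_inv := fun f => rfl }
  rw [Nat.card_congr e1, Nat.card_pi]
  apply Finset.prod_congr rfl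
  intro i _
  exact card_factor hK (Fintype.card_subtype _)

end Cfsg.Agent.Lib.Helper9.GUC
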