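import Mathlib
import Cfsg.Prelude.Def_Transfer
import Cfsg.Agent.Lib.Helper1.FrattiniP

set_option autoImplicit false
set_option linter.style.haveILetI false
open scoped commutatorElement

namespace Cfsg.Agent.Lib.Helper9.J2X

theorem extraspecial_of_card_cube {P : Type*} [Group P] [Finite P] (p : ℕ) [Fact p.Prime]
    (hcard : Nat.card P = p ^ 3) (hna : ∃ a b : P, a * b ≠ b * a) : Cfsg.IsExtraspecial p P := by
  have hp : p.Prime := Fact.out
  have hP : IsPGroup p P := IsPGroup.of_card hcard
  obtain ⟨a0, b0, hab0⟩ := hna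
  haveI : Nontrivial P := ⟨⟨a0, b0, fun h => hab0 (by rw [h])⟩⟩
  -- the centre has order p
  have hZdvd : Nat.card (Subgroup.center P) ∣ p ^ 3 := by
    rw [← hcard]; exact Subgroup.card_subgroup_dvd_card _
  obtain ⟨m, hm3, hm⟩ := (Nat.dvd_prime_pow hp).mp hZdvd
  have hquot : Nat.card (P ⧸ Subgroup.center P) * Nat.card (Subgroup.center P) = p ^ 3 := by
    rw [← hcard]; exact (Subgroup.card_eq_card_quotient_mul_card_subgroup _).symm
  have hnoncyc : ¬ IsCyclic (P ⧸ Subgroup.center P) := by
    intro hc
    apply hab0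
    exact (MonoidHom.isMulCommutative_of_isCyclic_of_ker_le_center (QuotientGroup.mk' (Subgroup.center P))
      (by rw [QuotientGroup.ker_mk'])).is_comm.comm a0 b0
  have hm1 : m = 1 := by
    have hpos : 1 < p := hp.one_lt
    interval_cases m
    · -- trivial centre: impossible
      exfalso
      have : Nontrivial (Subgroup.center P) := hP.center_nontrivial
      have h1 : Nat.card (Subgroup.center P) = 1 := by rw [hm, pow_zero]
      rw [Nat.card_eq_one_iff_unique] at h1
      exact not_subsingleton _ h1.1
    · rfl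
    · -- quotient of order p: cyclic
      exfalso
      apply hnoncyc
      have : Nat.card (P ⧸ Subgroup.center P) = p := by
        rw [hm] at hquot
        have h2 : p ^ 3 = p * p ^ 2 := by ring
        rw [h2] at hquot
        exact Nat.eq_of_mul_eq_mul_right (pow_pos hp.pos 2) hquot
      exact isCyclic_of_prime_card this
    · -- centre everything: abelian
      exfalso
      apply hab0
      have : Subgroup.center P = ⊤ := by
        apply (Subgroup.card_eq_iff_eq_top _).mp
        rw [hm, hcard]
      have ha : a0 ∈ Subgroup.center P := by rw [this]; exact Subgroup.mem_top _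
      rw [Subgroup.mem_center_iff] at ha
      exact (ha b0).symm
  rw [hm1, pow_one] at hm
  have hq2 : Nat.card (P ⧸ Subgroup.center P) = p ^ 2 := by
    rw [hm] at hquot
    have h2 : p ^ 3 = p ^ 2 * p := by ring
    rw [h2] at hquot
    exact Nat.eq_of_mul_eq_mul_right hp.pos hquot
  -- commutator ≤ centre
  have hcomm_le : commutator P ≤ Subgroup.center P := by
    rw [← Subgroup.Normal.quotient_commutative_iff_commutator_le]
    exact IsPGroup.isMulCommutative_of_card_eq_prime_sq hq2
  have hcomm_ne : commutator P ≠ ⊥ := by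
    intro h
    apply hab0
    have h1 : ⁅a0, b0⁆ ∈ commutator P := Subgroup.commutator_mem_commutator (Subgroup.mem_top _) (Subgroup.mem_top _)
    rw [h, Subgroup.mem_bot, commutatorElement_def] at h1
    calc a0 * b0 = (a0 * b0 * a0⁻¹ * b0⁻¹) * b0 * a0 := by group
      _ = b0 * a0 := by rw [h1, one_mul]
  have hcomm_eq : commutator P = Subgroup.center P := by
    apply Subgroup.eq_of_le_of_card_ge hcomm_le
    rw [hm]
    have hd : Nat.card (commutator P) ∣ p := by
      rw [← hm]; exact Subgroup.card_dvd_of_le hcomm_le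
    rcases (Nat.dvd_prime hp).mp hd with h | h
    · exfalso; exact hcomm_ne (Subgroup.card_eq_one.mp h)
    · rw [h]
  -- Frattini
  have hfr_ge : Subgroup.center P ≤ frattini P := by
    rw [← hcomm_eq]
    exact Cfsg.Agent.Lib.Helper1.commutator_le_frattini_of_isPGroup p hP
  have hpow : ∀ x : P, x ^ p ∈ Subgroup.center P := by
    intro x
    rw [← QuotientGroup.eq_one_iff, QuotientGroup.mk_pow]
    have hd : orderOf (x : P ⧸ Subgroup.center P) ∣ p ^ 2 := by
      rw [← hq2]; exact orderOf_dvd_natCard _
    obtain ⟨k, hk2, hk⟩ := (Nat.dvd_prime_pow hp).mp hd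
    have hk1 : k ≤ 1 := by
      by_contra hlt
      have hk2' : k = 2 := by omega
      apply hnoncyc
      apply isCyclic_of_orderOf_eq_card (x : P ⧸ Subgroup.center P)
      rw [hk, hk2', hq2]
    apply orderOf_dvd_iff_pow_eq_one.mp
    rw [hk]
    calc p ^ k ∣ p ^ 1 := pow_dvd_pow p hk1
      _ = p := pow_one p
  have hfr_le : frattini P ≤ Subgroup.center P :=
    Cfsg.Agent.Lib.Helper1.frattini_le_of_elementary_quotient p _ hcomm_le hpow
  exact ⟨⟨hP, le_antisymm hfr_le hfr_ge, hcomm_eq⟩, hm⟩

end Cfsg.Agent.Lib.Helper9.J2X
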