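import Mathlib

set_option autoImplicit false
set_option linter.style.haveILetI false

namespace Cfsg.Agent.Lib.Helper9.J2L

theorem card_filter_mem {G : Type*} [Group G] [Fintype G] [DecidableEq G] (H : Subgroup G)
    [DecidablePred (· ∈ H)] : (Finset.univ.filter (· ∈ H)).card = Nat.card H := by
  rw [Nat.card_eq_fintype_card, Fintype.card_subtype]

theorem cover_P3 {G : Type*} [Group G] [Finite G] (d : G) (hd3 : orderOf d = 3)
    (P3 : Sylow 3 G) (hP3 : Nat.card (P3 : Subgroup G) = 27)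
    (E1 : Subgroup G) (hE1P : E1 ≤ (P3 : Subgroup G)) (hE1c : Nat.card E1 = 9) (hdE : d ∈ E1)
    (hN : Nat.card (Subgroup.normalizer ((P3 : Subgroup G) : Set G)) = 216)
    (hN1 : Nat.card (Subgroup.normalizer (E1 : Set G)) = 54)
    (hN1N : Subgroup.normalizer (E1 : Set G) ≤ Subgroup.normalizer ((P3 : Subgroup G) : Set G))
    (hnd : ∀ n ∈ Subgroup.normalizer ((P3 : Subgroup G) : Set G), n * d * n⁻¹ ∈ Subgroup.zpowers d) :
    ∀ x ∈ (P3 : Subgroup G), x ∉ Subgroup.zpowers d → ∃ n : G, n * x * n⁻¹ ∈ E1 := by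
  classical
  have _ := hN1N
  haveI : Fintype G := Fintype.ofFinite G
  set N := Subgroup.normalizer ((P3 : Subgroup G) : Set G) with hNdef
  set N1 := Subgroup.normalizer (E1 : Set G) with hN1def
  set Z := Subgroup.zpowers d with hZdef
  have hZc : Nat.card Z = 3 := by rw [hZdef, Nat.card_zpowers, hd3]
  have hZE : Z ≤ E1 := by rw [hZdef, Subgroup.zpowers_le]; exact hdE
  have hZP : Z ≤ (P3 : Subgroup G) := hZE.trans hE1P
  -- N normalizes Z
  have hconjZ : ∀ n ∈ N, ∀ x ∈ Z, n * x * n⁻¹ ∈ Z := by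
    intro n hn x hx
    obtain ⟨k, rfl⟩ := Subgroup.mem_zpowers_iff.mp hx
    have : n * d ^ k * n⁻¹ = (n * d * n⁻¹) ^ k := by
      have := map_zpow (MulAut.conj n) d k
      simpa [MulAut.conj_apply] using this
    rw [this]
    exact Subgroup.zpow_mem _ (hnd n hn) k
  have hconjP : ∀ n ∈ N, ∀ x ∈ (P3 : Subgroup G), n * x * n⁻¹ ∈ (P3 : Subgroup G) :=
    fun n hn x hx => (Subgroup.mem_normalizer_iff.mp hn x).mp hx
  -- finsets
  let Nset : Finset G := Finset.univ.filter (· ∈ N)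
  let N1set : Finset G := Finset.univ.filter (· ∈ N1)
  let Ωset : Finset G := Finset.univ.filter (fun x => x ∈ E1 ∧ x ∉ Z)
  let Tset : Finset G := Finset.univ.filter (fun x => x ∈ (P3 : Subgroup G) ∧ x ∉ Z)
  have hNset : Nset.card = 216 := by rw [← hN]; exact card_filter_mem N
  have hN1set : N1set.card = 54 := by rw [← hN1]; exact card_filter_mem N1
  have hsdiff : ∀ (H : Subgroup G), Z ≤ H →
      (Finset.univ.filter (fun x => x ∈ H ∧ x ∉ Z)).card = Nat.card H - 3 := by
    intro H hZH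
    have h1 : Finset.univ.filter (fun x => x ∈ H ∧ x ∉ Z) =
        (Finset.univ.filter (· ∈ H)) \ (Finset.univ.filter (· ∈ Z)) := by
      ext x; simp
    rw [h1, Finset.card_sdiff_of_subset, card_filter_mem, card_filter_mem, hZc]
    intro x hx
    simp only [Finset.mem_filter, Finset.mem_univ, true_and] at hx ⊢
    exact hZH hx
  have hΩset : Ωset.card = 6 := by
    have := hsdiff E1 hZE
    rw [hE1c] at this
    exact this
  have hTset : Tset.card = 24 := by
    have := hsdiff (P3 : Subgroup G) hZP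
    rw [hP3] at this
    exact this
  let S : Finset (G × G) := Nset ×ˢ Ωset
  have hS : S.card = 216 * 6 := by rw [Finset.card_product, hNset, hΩset]
  let f : G × G → G := fun p => p.1 * p.2 * p.1⁻¹
  have hmemS : ∀ p : G × G, p ∈ S ↔ p.1 ∈ N ∧ p.2 ∈ E1 ∧ p.2 ∉ Z := by
    intro p
    simp [S, Nset, Ωset, Finset.mem_product]
  have himgT : S.image f ⊆ Tset := by
    intro y hy
    obtain ⟨p, hp, rfl⟩ := Finset.mem_image.mp hy
    obtain ⟨hpN, hpE, hpZ⟩ := (hmemS p).mp hp
    simp only [Tset, Finset.mem_filter, Finset.mem_univ, true_and]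
    refine ⟨hconjP p.1 hpN p.2 (hE1P hpE), ?_⟩
    intro h
    apply hpZ
    have := hconjZ p.1⁻¹ (N.inv_mem hpN) _ h
    have h2 : p.1⁻¹ * (p.1 * p.2 * p.1⁻¹) * p.1⁻¹⁻¹ = p.2 := by group
    rw [h2] at this
    exact this
  -- the conjugate of E1 by n is determined by y
  have hconjE : ∀ n ∈ N, ∀ ω ∈ E1, ω ∉ Z → ∀ y, n * ω * n⁻¹ = y →
      E1.map (MulAut.conj n).toMonoidHom = Z ⊔ Subgroup.zpowers y := by
    intro n hn ω hω hωZ y hy
    set A := E1.map (MulAut.conj n).toMonoidHom with hA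
    have hAc : Nat.card A = 9 := by
      rw [hA, Subgroup.card_map_of_injective (MulAut.conj n).injective, hE1c]
    have hdA : d ∈ A := by
      refine ⟨n⁻¹ * d * n, ?_, ?_⟩
      · have := hconjZ n⁻¹ (N.inv_mem hn) d (Subgroup.mem_zpowers d)
        rw [inv_inv] at this
        exact hZE this
      · show n * (n⁻¹ * d * n) * n⁻¹ = d
        group
    have hyA : y ∈ A := ⟨ω, hω, by rw [← hy]; rfl⟩
    have hyZ : y ∉ Z := by
      intro h
      apply hωZ
      have := hconjZ n⁻¹ (N.inv_mem hn) _ h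
      rw [← hy] at this
      have h2 : n⁻¹ * (n * ω * n⁻¹) * n⁻¹⁻¹ = ω := by group
      rw [h2] at this
      exact this
    have hBA : Z ⊔ Subgroup.zpowers y ≤ A := by
      apply sup_le
      · rw [hZdef, Subgroup.zpowers_le]; exact hdA
      · rw [Subgroup.zpowers_le]; exact hyA
    symm
    apply Subgroup.eq_of_le_of_card_ge hBA
    rw [hAc]
    have hd1 : Nat.card (Z ⊔ Subgroup.zpowers y : Subgroup G) ∣ 9 := by
      rw [← hAc]; exact Subgroup.card_dvd_of_le hBA
    have hd2 : 3 ∣ Nat.card (Z ⊔ Subgroup.zpowers y : Subgroup G) := by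
      rw [← hZc]; exact Subgroup.card_dvd_of_le le_sup_left
    have hne : Nat.card (Z ⊔ Subgroup.zpowers y : Subgroup G) ≠ 3 := by
      intro h
      apply hyZ
      have : Z = Z ⊔ Subgroup.zpowers y :=
        Subgroup.eq_of_le_of_card_ge le_sup_left (by rw [h, hZc])
      rw [this]
      exact Subgroup.mem_sup_right (Subgroup.mem_zpowers y)
    have hle : Nat.card (Z ⊔ Subgroup.zpowers y : Subgroup G) ≤ 9 := Nat.le_of_dvd (by norm_num) hd1
    obtain ⟨k, hk⟩ := hd2
    rw [hk] at hd1 hne hle ⊢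
    have hk3 : k ≤ 3 := by omega
    interval_cases k
    · simp at hd1
    · exact absurd rfl hne
    · norm_num at hd1
    · norm_num
  -- fibre bound
  have hfib : ∀ y ∈ S.image f, (S.filter (fun p => f p = y)).card ≤ 54 := by
    intro y hy
    obtain ⟨p0, hp0, hp0y⟩ := Finset.mem_image.mp hy
    obtain ⟨hp0N, hp0E, hp0Z⟩ := (hmemS p0).mp hp0
    rw [← hN1set]
    apply Finset.card_le_card_of_injOn (fun p => p0.1⁻¹ * p.1)
    · intro p hp
      have hp' := Finset.mem_filter.mp hp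
      obtain ⟨hpN, hpE, hpZ⟩ := (hmemS p).mp hp'.1
      have hpy : p.1 * p.2 * p.1⁻¹ = y := hp'.2
      have h1 := hconjE p.1 hpN p.2 hpE hpZ y hpy
      have h0 := hconjE p0.1 hp0N p0.2 hp0E hp0Z y hp0y
      simp only [N1set, Finset.coe_filter, Finset.mem_univ, true_and, Set.mem_ofPred_eq]
      haveI : Finite (E1 : Set G) := inferInstance
      apply Subgroup.mem_normalizer_fintype
      intro h hh
      have h2 : p.1 * h * p.1⁻¹ ∈ E1.map (MulAut.conj p.1).toMonoidHom := ⟨h, hh, rfl⟩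
      rw [h1, ← h0] at h2
      obtain ⟨h', hh', hh'eq⟩ := h2
      have h3 : p0.1 * h' * p0.1⁻¹ = p.1 * h * p.1⁻¹ := hh'eq
      have : p0.1⁻¹ * p.1 * h * (p0.1⁻¹ * p.1)⁻¹ = h' := by
        calc p0.1⁻¹ * p.1 * h * (p0.1⁻¹ * p.1)⁻¹ = p0.1⁻¹ * (p.1 * h * p.1⁻¹) * p0.1 := by group
          _ = p0.1⁻¹ * (p0.1 * h' * p0.1⁻¹) * p0.1 := by rw [h3]
          _ = h' := by group
      rw [this]; exact hh'
    · intro p hp q hq hpq
      have hp' := (Finset.mem_filter.mp (Finset.mem_coe.mp hp)).2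
      have hq' := (Finset.mem_filter.mp (Finset.mem_coe.mp hq)).2
      have h1 : p.1 = q.1 := mul_left_cancel hpq
      have hp2 : p.2 = p.1⁻¹ * y * p.1 := by
        have : p.1 * p.2 * p.1⁻¹ = y := hp'
        rw [← this]; group
      have hq2 : q.2 = q.1⁻¹ * y * q.1 := by
        have : q.1 * q.2 * q.1⁻¹ = y := hq'
        rw [← this]; group
      apply Prod.ext h1
      rw [hp2, hq2, h1]
  have hbound := Finset.card_le_mul_card_image S 54 hfib
  rw [hS] at hbound
  have himg24 : 24 ≤ (S.image f).card := by omega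
  have himgeq : S.image f = Tset := by
    apply Finset.eq_of_subset_of_card_le himgT
    rw [hTset]; exact himg24
  intro x hxP hxZ
  have hxT : x ∈ Tset := by
    simp only [Tset, Finset.mem_filter, Finset.mem_univ, true_and]
    exact ⟨hxP, hxZ⟩
  rw [← himgeq] at hxT
  obtain ⟨p, hp, hpx⟩ := Finset.mem_image.mp hxT
  obtain ⟨hpN, hpE, hpZ⟩ := (hmemS p).mp hp
  refine ⟨p.1⁻¹, ?_⟩
  have : p.1⁻¹ * x * p.1⁻¹⁻¹ = p.2 := by
    have h1 : p.1 * p.2 * p.1⁻¹ = x := hpx
    rw [← h1]; group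
  rw [this]; exact hpE

end Cfsg.Agent.Lib.Helper9.J2L
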