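import Mathlib
import Cfsg.Prelude

set_option autoImplicit false
set_option linter.style.haveILetI false

namespace Cfsg.Agent.Lib.Helper9.J2D

theorem a5_card : Nat.card (alternatingGroup (Fin 5)) = 60 := by
  rw [Nat.card_eq_fintype_card]; decide

theorem a5_noncomm : ∃ a b : alternatingGroup (Fin 5), a * b ≠ b * a := by decide

variable {Y : Type*} [Group Y]

theorem y_card (w : Y ≃* alternatingGroup (Fin 5)) : Nat.card Y = 60 := by
  rw [Nat.card_congr w.toEquiv, a5_card]

theorem y_simple (w : Y ≃* alternatingGroup (Fin 5)) : IsSimpleGroup Y := by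
  haveI : IsSimpleGroup (alternatingGroup (Fin 5)) := alternatingGroup.isSimpleGroup (by simp)
  exact w.isSimpleGroup

theorem y_noncomm (w : Y ≃* alternatingGroup (Fin 5)) : ∃ a b : Y, a * b ≠ b * a := by
  obtain ⟨a, b, hab⟩ := a5_noncomm
  refine ⟨w.symm a, w.symm b, ?_⟩
  intro h
  apply hab
  have := congrArg w h
  simpa using this

/-- a normal subgroup of `Y ≅ A5` is trivial or everything -/
theorem y_normal (w : Y ≃* alternatingGroup (Fin 5)) (N : Subgroup Y) (hN : N.Normal) :
    N = ⊥ ∨ N = ⊤ := by
  haveI := y_simple w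
  exact hN.eq_bot_or_eq_top

theorem y_center (w : Y ≃* alternatingGroup (Fin 5)) (y : Y) (hy : ∀ x : Y, y * x = x * y) :
    y = 1 := by
  have hN : (Subgroup.center Y).Normal := inferInstance
  rcases y_normal w _ hN with h | h
  · have : y ∈ Subgroup.center Y := by
      rw [Subgroup.mem_center_iff]; intro g; exact (hy g).symm
    rw [h, Subgroup.mem_bot] at this
    exact this
  · exfalso
    obtain ⟨a, b, hab⟩ := y_noncomm w
    have : a ∈ Subgroup.center Y := by rw [h]; exact Subgroup.mem_top a
    rw [Subgroup.mem_center_iff] at this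
    exact hab (this b).symm

theorem y_no_normal_2 (w : Y ≃* alternatingGroup (Fin 5)) (N : Subgroup Y) (hN : N.Normal)
    (hp : IsPGroup 2 N) : N = ⊥ := by
  rcases y_normal w _ hN with h | h
  · exact h
  · exfalso
    haveI : Finite Y := Nat.finite_of_card_ne_zero (by rw [y_card w]; norm_num)
    obtain ⟨k, hk⟩ := IsPGroup.iff_card.mp hp
    rw [h, Subgroup.card_top, y_card w] at hk
    have h3 : 3 ∣ 2 ^ k := by rw [← hk]; norm_num
    have := (Nat.Prime.dvd_of_dvd_pow Nat.prime_three h3)
    norm_num at this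

/-- a homomorphism from `Y ≅ A5` to a commutative group is trivial -/
theorem y_hom_comm (w : Y ≃* alternatingGroup (Fin 5)) {A : Type*} [Group A]
    (hA : ∀ a b : A, a * b = b * a) (θ : Y →* A) : ∀ y, θ y = 1 := by
  rcases y_normal w θ.ker inferInstance with h | h
  · exfalso
    obtain ⟨a, b, hab⟩ := y_noncomm w
    apply hab
    have hinj : Function.Injective θ := (MonoidHom.ker_eq_bot_iff θ).mp h
    apply hinj
    rw [map_mul, map_mul, hA]
  · intro y
    have : y ∈ θ.ker := by rw [h]; exact Subgroup.mem_top y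
    exact MonoidHom.mem_ker.mp this

end Cfsg.Agent.Lib.Helper9.J2D
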