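import Mathlib

set_option autoImplicit false
set_option maxHeartbeats 4000000

namespace Cfsg.Agent.Lib.Helper9.J2R

theorem a5_cent3 : ∀ σ : alternatingGroup (Fin 5), σ ^ 3 = 1 → σ ≠ 1 →
    ∀ τ : alternatingGroup (Fin 5), τ * σ = σ * τ → τ = 1 ∨ τ = σ ∨ τ = σ * σ := by
  decide +kernel

theorem a5_invert3 : ∀ σ : alternatingGroup (Fin 5), σ ^ 3 = 1 → σ ≠ 1 →
    ∃ τ : alternatingGroup (Fin 5), τ * τ = 1 ∧ τ ≠ 1 ∧ τ * σ * τ⁻¹ = σ⁻¹ := by
  decide +kernel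

variable {Y : Type*} [Group Y]

theorem y_cent3 (w : Y ≃* alternatingGroup (Fin 5)) (σ : Y) (h3 : σ ^ 3 = 1) (h1 : σ ≠ 1)
    (τ : Y) (hc : τ * σ = σ * τ) : τ = 1 ∨ τ = σ ∨ τ = σ * σ := by
  have h3' : w σ ^ 3 = 1 := by rw [← map_pow, h3, map_one]
  have h1' : w σ ≠ 1 := by
    intro h; exact h1 ((MulEquiv.map_eq_one_iff w).mp h)
  have hc' : w τ * w σ = w σ * w τ := by rw [← map_mul, ← map_mul, hc]
  rcases a5_cent3 (w σ) h3' h1' (w τ) hc' with h | h | h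
  · left; exact (MulEquiv.map_eq_one_iff w).mp h
  · right; left; exact w.injective h
  · right; right; apply w.injective; rw [h, map_mul]

theorem y_invert3 (w : Y ≃* alternatingGroup (Fin 5)) (σ : Y) (h3 : σ ^ 3 = 1) (h1 : σ ≠ 1) :
    ∃ τ : Y, τ * τ = 1 ∧ τ ≠ 1 ∧ τ * σ * τ⁻¹ = σ⁻¹ := by
  have h3' : w σ ^ 3 = 1 := by rw [← map_pow, h3, map_one]
  have h1' : w σ ≠ 1 := by
    intro h; exact h1 ((MulEquiv.map_eq_one_iff w).mp h)
  obtain ⟨τ, ht2, ht1, htc⟩ := a5_invert3 (w σ) h3' h1'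
  refine ⟨w.symm τ, ?_, ?_, ?_⟩
  · apply w.injective; rw [map_mul, MulEquiv.apply_symm_apply, ht2, map_one]
  · intro h
    apply ht1
    have := congrArg w h
    rwa [MulEquiv.apply_symm_apply, map_one] at this
  · apply w.injective
    rw [map_mul, map_mul, map_inv, map_inv, MulEquiv.apply_symm_apply, htc]

end Cfsg.Agent.Lib.Helper9.J2R
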