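import Mathlib
import Cfsg.Prelude
import Cfsg.Agent.Lib.Helper9.J2Cf

set_option autoImplicit false
set_option linter.style.haveILetI false

namespace Cfsg.Agent.Lib.Helper9.J2R

open Cfsg.Agent.Lib.Helper9.J2C

/-- variant of `J2C.dichotomy` without the hypothesis on the order of `H` -/
theorem dichotomy' {H : Type*} [Group H] [Finite H] (U : Subgroup H) (z ρ : H)
    (hU : Nat.card U = 4) (hU2 : ∀ u ∈ U, u * u = 1) (hzU : z ∈ U) (hz1 : z ≠ 1)
    (hρ3 : ρ ^ 3 = 1) (hρU : ∀ u ∈ U, ρ * u * ρ⁻¹ ∈ U) (hnc : ρ * z ≠ z * ρ)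
    (hCz : ∀ h : H, h * z = z * h → h ∈ U) :
    Nonempty (H ≃* alternatingGroup (Fin 5)) ∨ U.Normal := by
  obtain ⟨hz'U, hz'1, hz'z, hz'', hU4⟩ := act_on_U U hU hU2 z ρ hzU hz1 hρ3 hρU hnc
  have hzz : z * z = 1 := hU2 z hzU
  have hzinv : z⁻¹ = z := inv_eq_of_mul_eq_one_left hzz
  have hUcomm : ∀ a ∈ U, ∀ b ∈ U, a * b = b * a := by
    intro a ha b hb
    have h1 := hU2 a ha
    have h2 := hU2 b hb
    have h3 := hU2 (a * b) (U.mul_mem ha hb)
    calc a * b = a * b * ((b * a) * (b * a)⁻¹) := by group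
      _ = (a * (b * b) * a) * (b * a)⁻¹ := by group
      _ = (b * a)⁻¹ := by rw [h2, mul_one, h1, one_mul]
      _ = b * a := by
          rw [inv_eq_iff_mul_eq_one]
          calc b * a * (b * a) = b * (a * b * (a * b)) * b⁻¹ := by group
            _ = 1 := by rw [h3]; group
  by_cases hne : ∀ E' : Subgroup H, E'.Normal → Cfsg.IsElementaryAbelian 2 E' →
      Nat.card ↥E' ≠ 2 ∧ Nat.card ↥E' ≠ 4
  · left
    have hcent : Subgroup.centralizer ({z} : Set H) = U := by
      apply le_antisymm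
      · intro h hh
        rw [Subgroup.mem_centralizer_iff] at hh
        exact hCz h (hh z (Set.mem_singleton z)).symm
      · intro u hu
        rw [Subgroup.mem_centralizer_iff]
        intro g hg
        rw [Set.mem_singleton_iff] at hg
        subst hg
        exact hUcomm g hzU u hu
    apply Cfsg.Agent.S3277.result z
    · apply orderOf_eq_prime
      · rw [pow_two]; exact hzz
      · exact hz1
    · rw [hcent, hU]
    · intro c hc
      rw [hcent] at hc
      rw [pow_two]; exact hU2 c hc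
    · apply no_npc z ρ hz1 hzz hρ3
      · intro h; apply hnc
        calc ρ * z = (ρ * z * ρ⁻¹) * ρ := by group
          _ = z * ρ := by rw [h]
      · exact hUcomm _ hz'U _ hzU
    · exact hne
  · right
    push Not at hne
    obtain ⟨E', hE'n, hE'ea, hE'c⟩ := hne
    have hcard : Nat.card E' = 2 ∨ Nat.card E' = 4 := by
      by_cases h : Nat.card E' = 2
      · left; exact h
      · right; exact hE'c h
    obtain ⟨hE'comm, hE'sq⟩ := hE'ea
    have hE'c2 : ∀ a ∈ E', ∀ b ∈ E', a * b = b * a := fun a ha b hb =>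
      congrArg Subtype.val (hE'comm.is_comm.comm ⟨a, ha⟩ ⟨b, hb⟩)
    have hconj : ∀ x ∈ E', ρ * x * ρ⁻¹ ∈ E' := fun x hx => hE'n.conj_mem x hx ρ
    -- a nonidentity element of E' ∩ U
    have hex : ∃ x ∈ E', x ∈ U ∧ x ≠ 1 := by
      have hnb : E' ≠ ⊥ := by
        intro h
        rw [h] at hcard
        simp at hcard
      obtain ⟨e, he1⟩ := (Subgroup.ne_bot_iff_exists_ne_one.mp hnb)
      have heE' : (e : H) ∈ E' := e.2
      have he1' : (e : H) ≠ 1 := fun h => he1 (Subtype.ext h)
      have he2E' : z * (e : H) * z⁻¹ ∈ E' := hE'n.conj_mem _ heE' z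
      by_cases hfix : z * (e : H) * z⁻¹ = (e : H)
      · refine ⟨e, heE', hCz _ ?_, he1'⟩
        calc (e : H) * z = (z * (e : H) * z⁻¹) * z := by rw [hfix]
          _ = z * e := by group
      · refine ⟨(e : H) * (z * (e : H) * z⁻¹), E'.mul_mem heE' he2E', hCz _ ?_, ?_⟩
        · -- z x z⁻¹ = x
          have h1 : z * ((e : H) * (z * (e : H) * z⁻¹)) * z⁻¹ = (z * (e : H) * z⁻¹) * (e : H) := by
            calc z * ((e : H) * (z * (e : H) * z⁻¹)) * z⁻¹
                = (z * (e : H) * z⁻¹) * ((z * z) * (e : H) * (z * z)⁻¹) := by group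
              _ = (z * (e : H) * z⁻¹) * (e : H) := by rw [hzz]; group
          have h2 := hE'c2 _ he2E' _ heE'
          rw [h2] at h1
          calc (e : H) * (z * (e : H) * z⁻¹) * z
              = (z * ((e : H) * (z * (e : H) * z⁻¹)) * z⁻¹) * z := by rw [h1]
            _ = z * ((e : H) * (z * (e : H) * z⁻¹)) := by group
        · intro h
          apply hfix
          have hee : (e : H) * (e : H) = 1 := by
            have := hE'sq _ heE'
            rwa [pow_two] at this
          calc z * (e : H) * z⁻¹ = ((e : H) * (e : H))⁻¹ * (e : H) * ((e : H) * (z * (e : H) * z⁻¹)) := by group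
            _ = e := by rw [h, hee]; group
    obtain ⟨x, hxE', hxU, hx1⟩ := hex
    have hzE' : z ∈ E' := by
      rcases hU4 x hxU with h | h | h | h
      · exact absurd h hx1
      · rw [← h]; exact hxE'
      · have h1 := hconj _ hxE'
        have h2 := hconj _ h1
        rw [h, hz''] at h2
        have : ρ * (z * (ρ * z * ρ⁻¹)) * ρ⁻¹ = (ρ * z * ρ⁻¹) * (ρ * (ρ * z * ρ⁻¹) * ρ⁻¹) := by group
        rw [this, hz'', ← mul_assoc, hUcomm _ hz'U _ hzU, mul_assoc, hU2 _ hz'U, mul_one] at h2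
        exact h2
      · have h1 := hconj _ hxE'
        rw [h] at h1
        have : ρ * (z * (ρ * z * ρ⁻¹)) * ρ⁻¹ = (ρ * z * ρ⁻¹) * (ρ * (ρ * z * ρ⁻¹) * ρ⁻¹) := by group
        rw [this, hz'', ← mul_assoc, hUcomm _ hz'U _ hzU, mul_assoc, hU2 _ hz'U, mul_one] at h1
        exact h1
    have hz'E' : ρ * z * ρ⁻¹ ∈ E' := hconj z hzE'
    have hUE' : U ≤ E' := by
      intro u hu
      rcases hU4 u hu with h | h | h | h
      · rw [h]; exact E'.one_mem
      · rw [h]; exact hzE'
      · rw [h]; exact hz'E'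
      · rw [h]; exact E'.mul_mem hzE' hz'E'
    have : U = E' := by
      apply Subgroup.eq_of_le_of_card_ge hUE'
      rw [hU]
      rcases hcard with h | h <;> omega
    rw [this]; exact hE'n

end Cfsg.Agent.Lib.Helper9.J2R
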