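import Mathlib
import Cfsg.Prelude
import Cfsg.Agent.Lib.Helper9.J2Ra

set_option autoImplicit false
set_option linter.style.haveILetI false

namespace Cfsg.Agent.Lib.Helper9.J2R

theorem eq_one_of_sq_cube {X : Type*} [Group X] (c : X) (h2 : c * c = 1) (h3 : c ^ 3 = 1) : c = 1 := by
  calc c = c ^ 3 * (c * c)⁻¹ := by group
    _ = 1 := by rw [h3, h2]; group

theorem cube_of_mem_zpowers {X : Type*} [Group X] (ρ : X) (hρ3 : ρ ^ 3 = 1) (x : X)
    (hx : x ∈ Subgroup.zpowers ρ) : x ^ 3 = 1 := by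
  obtain ⟨n, rfl⟩ := Subgroup.mem_zpowers_iff.mp hx
  rw [← zpow_natCast, ← zpow_mul, mul_comm, zpow_mul, zpow_natCast, hρ3, one_zpow]

theorem quot_dichotomy {Y : Type*} [Group Y] [Finite Y] (ρ : Y) (hρc : ∀ y : Y, y * ρ = ρ * y)
    (hρ3 : ρ ^ 3 = 1) [hN : (Subgroup.zpowers ρ).Normal]
    (V : Subgroup Y) (hV : Nat.card V = 4) (hV2 : ∀ v ∈ V, v * v = 1) (t1 : Y) (ht1V : t1 ∈ V)
    (ht1 : t1 ≠ 1)
    (d : Y) (hd3 : d ^ 3 = 1) (hdV : ∀ v ∈ V, d * v * d⁻¹ ∈ V) (hdt : d * t1 ≠ t1 * d)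
    (hC : ∀ y : Y, y * t1 = t1 * y → ∃ v ∈ V, ∃ k : ℕ, y = v * ρ ^ k) :
    (∀ y : Y, ∀ v ∈ V, y * v * y⁻¹ ∈ V) ∨
      Nonempty (Y ⧸ Subgroup.zpowers ρ ≃* alternatingGroup (Fin 5)) := by
  set N := Subgroup.zpowers ρ with hNdef
  let π : Y →* Y ⧸ N := QuotientGroup.mk' N
  have hπ1 : ∀ y : Y, π y = 1 ↔ y ∈ N := fun y => QuotientGroup.eq_one_iff y
  have hVN : ∀ x ∈ V, x ∈ N → x = 1 := fun x hxV hxN =>
    eq_one_of_sq_cube x (hV2 x hxV) (cube_of_mem_zpowers ρ hρ3 x hxN)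
  -- key: if y w y⁻¹ = w' * n with w, w' involution-like and n ∈ N commuting, then n = 1
  have hcentral : ∀ n ∈ N, ∀ y : Y, y * n = n * y := by
    intro n hn y
    obtain ⟨k, rfl⟩ := Subgroup.mem_zpowers_iff.mp hn
    exact ((Commute.zpow_right (hρc y) k)).eq
  have hkey : ∀ (a b n : Y), a * a = 1 → b * b = 1 → n ∈ N → a = b * n → n = 1 := by
    intro a b n ha hb hn hab
    have h1 : n * n = 1 := by
      have : a * a = b * b * (n * n) := by
        rw [hab]
        calc b * n * (b * n) = b * (n * b) * n := by group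
          _ = b * (b * n) * n := by rw [hcentral n hn b]
          _ = b * b * (n * n) := by group
      rw [ha, hb, one_mul] at this
      exact this.symm
    exact eq_one_of_sq_cube n h1 (cube_of_mem_zpowers ρ hρ3 n hn)
  let U : Subgroup (Y ⧸ N) := V.map π
  have hUcard : Nat.card U = 4 := by
    rw [← hV]
    symm
    apply Nat.card_congr
    refine Equiv.ofBijective (fun v => ⟨π v.1, Subgroup.mem_map_of_mem π v.2⟩) ⟨?_, ?_⟩
    · intro a b hab
      have h1 : π a.1 = π b.1 := congrArg Subtype.val hab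
      have h2 : π (a.1⁻¹ * b.1) = 1 := by rw [map_mul, map_inv, h1]; group
      have h3 := hVN _ (V.mul_mem (V.inv_mem a.2) b.2) ((hπ1 _).mp h2)
      apply Subtype.ext
      calc a.1 = b.1 * (a.1⁻¹ * b.1)⁻¹ := by group
        _ = b.1 := by rw [h3]; group
    · rintro ⟨u, v, hv, rfl⟩
      exact ⟨⟨v, hv⟩, rfl⟩
  have hdich := dichotomy' U (π t1) (π d) hUcard
    (by
      rintro u ⟨v, hv, rfl⟩
      rw [← map_mul, hV2 v hv, map_one])
    (Subgroup.mem_map_of_mem π ht1V)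
    (by
      intro h
      exact ht1 (hVN t1 ht1V ((hπ1 _).mp h)))
    (by rw [← map_pow, hd3, map_one])
    (by
      rintro u ⟨v, hv, rfl⟩
      rw [← map_inv, ← map_mul, ← map_mul]
      exact Subgroup.mem_map_of_mem π (hdV v hv))
    (by
      intro h
      apply hdt
      have h1 : π (d * t1 * d⁻¹ * t1⁻¹) = 1 := by
        rw [map_mul, map_mul, map_mul, map_inv, map_inv, h]; group
      have h2 := hVN _ (V.mul_mem (hdV t1 ht1V) (V.inv_mem ht1V)) ((hπ1 _).mp h1)
      calc d * t1 = (d * t1 * d⁻¹ * t1⁻¹) * t1 * d := by group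
        _ = t1 * d := by rw [h2, one_mul])
    (by
      intro h hh
      obtain ⟨y, rfl⟩ := QuotientGroup.mk_surjective h
      have h1 : π (t1⁻¹ * (y * t1 * y⁻¹)) = 1 := by
        have hh' : π y * π t1 = π t1 * π y := hh
        rw [map_mul, map_mul, map_mul, map_inv, map_inv, hh']; group
      have hn := (hπ1 _).mp h1
      have h2 := hkey (y * t1 * y⁻¹) t1 _
        (by
          calc y * t1 * y⁻¹ * (y * t1 * y⁻¹) = y * (t1 * t1) * y⁻¹ := by group
            _ = 1 := by rw [hV2 t1 ht1V]; group)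
        (hV2 t1 ht1V) hn (by group)
      have hcomm : y * t1 = t1 * y := by
        calc y * t1 = t1 * (t1⁻¹ * (y * t1 * y⁻¹)) * y := by group
          _ = t1 * y := by rw [h2, mul_one]
      obtain ⟨v, hv, k, hk⟩ := hC y hcomm
      refine ⟨v, hv, ?_⟩
      show π v = π y
      rw [hk, map_mul]
      have : π (ρ ^ k) = 1 := (hπ1 _).mpr (Subgroup.pow_mem _ (Subgroup.mem_zpowers ρ) k)
      rw [this, mul_one])
  rcases hdich with h | hUn
  · right; exact h
  · left
    intro y v hv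
    have h1 : π y * π v * (π y)⁻¹ ∈ U := hUn.conj_mem _ (Subgroup.mem_map_of_mem π hv) (π y)
    obtain ⟨v', hv', hv'eq⟩ := h1
    have h2 : π (v'⁻¹ * (y * v * y⁻¹)) = 1 := by
      rw [map_mul, map_inv, hv'eq, map_mul, map_mul, map_inv]; group
    have hn := (hπ1 _).mp h2
    have h3 := hkey (y * v * y⁻¹) v' _
      (by
        calc y * v * y⁻¹ * (y * v * y⁻¹) = y * (v * v) * y⁻¹ := by group
          _ = 1 := by rw [hV2 v hv]; group)
      (hV2 v' hv') hn (by group)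
    have : y * v * y⁻¹ = v' := by
      calc y * v * y⁻¹ = v' * (v'⁻¹ * (y * v * y⁻¹)) := by group
        _ = v' := by rw [h3, mul_one]
    rw [this]; exact hv'

end Cfsg.Agent.Lib.Helper9.J2R
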