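import Mathlib

set_option autoImplicit false
set_option linter.style.haveILetI false

namespace Cfsg.Agent.Lib.Helper9.J2X

variable {K : Type*} [Group K]

/-- counting step: every element is a conjugate of `s` or `s` times a conjugate of `s` -/
theorem conj_or_mul_conj [Finite K] (s : K) (hs : s * s = 1) (hs1 : s ≠ 1)
    (hC : ∀ x : K, x * s = s * x → x = 1 ∨ x = s) (g : K) :
    (∃ c : K, c * s * c⁻¹ = g) ∨ (∃ c : K, c * s * c⁻¹ = s * g) := by
  classical
  haveI : Fintype K := Fintype.ofFinite K
  let T : Finset K := Finset.univ.filter (fun g => ∃ c : K, c * s * c⁻¹ = g)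
  let A : Finset K := Finset.univ.filter (fun g => ∃ c : K, c * s * c⁻¹ = s * g)
  have hsinv : s⁻¹ = s := inv_eq_of_mul_eq_one_left hs
  -- elements of T are involutions
  have hTinv : ∀ x ∈ T, x * x = 1 ∧ x ≠ 1 := by
    intro x hx
    obtain ⟨c, rfl⟩ := (Finset.mem_filter.mp hx).2
    constructor
    · calc c * s * c⁻¹ * (c * s * c⁻¹) = c * (s * s) * c⁻¹ := by group
        _ = 1 := by rw [hs]; group
    · intro h
      apply hs1
      calc s = c⁻¹ * (c * s * c⁻¹) * c := by group
        _ = 1 := by rw [h]; group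
  have hAT : A.card = T.card := by
    apply Finset.card_bij (fun g _ => s * g)
    · intro g hg
      exact Finset.mem_filter.mpr ⟨Finset.mem_univ _, (Finset.mem_filter.mp hg).2⟩
    · intro a _ b _ h
      exact mul_left_cancel h
    · intro x hx
      refine ⟨s * x, ?_, ?_⟩
      · refine Finset.mem_filter.mpr ⟨Finset.mem_univ _, ?_⟩
        obtain ⟨c, hc⟩ := (Finset.mem_filter.mp hx).2
        refine ⟨c, ?_⟩
        rw [hc, ← mul_assoc, hs, one_mul]
      · rw [← mul_assoc, hs, one_mul]
  have hdisj : Disjoint A T := by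
    rw [Finset.disjoint_left]
    intro x hxA hxT
    have h1 := hTinv x hxT
    have hsx : s * x ∈ T := Finset.mem_filter.mpr ⟨Finset.mem_univ _, (Finset.mem_filter.mp hxA).2⟩
    have h2 := hTinv (s * x) hsx
    -- s x s x = 1 → x s = s x
    have hcomm : x * s = s * x := by
      have h3 : s * x * (s * x) = 1 := h2.1
      have hxinv : x⁻¹ = x := inv_eq_of_mul_eq_one_left h1.1
      have h4 : (s * x)⁻¹ = s * x := inv_eq_of_mul_eq_one_left h3
      calc x * s = x⁻¹ * s⁻¹ := by rw [hxinv, hsinv]
        _ = (s * x)⁻¹ := by group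
        _ = s * x := h4
    rcases hC x hcomm with h | h
    · exact h1.2 h
    · apply h2.2
      rw [h, hs]
  have hT2 : T.card * 2 = Fintype.card K := by
    have h1 := MulAction.index_stabilizer (ConjAct K) s
    have horb : MulAction.orbit (ConjAct K) s = (T : Set K) := by
      ext x
      constructor
      · rintro ⟨c, rfl⟩
        refine Finset.mem_coe.mpr (Finset.mem_filter.mpr ⟨Finset.mem_univ _, ?_⟩)
        exact ⟨ConjAct.ofConjAct c, (ConjAct.smul_def c s).symm⟩
      · intro hx
        obtain ⟨c, hc⟩ := (Finset.mem_filter.mp (Finset.mem_coe.mp hx)).2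
        exact ⟨ConjAct.toConjAct c, by show ConjAct.toConjAct c • s = x; rw [ConjAct.toConjAct_smul, hc]⟩
    rw [horb, Set.ncard_coe_finset] at h1
    have h2 := (MulAction.stabilizer (ConjAct K) s).card_mul_index
    rw [h1, ← Subgroup.nat_card_centralizer_nat_card_stabilizer] at h2
    have hcent : Subgroup.centralizer ({s} : Set K) = Subgroup.zpowers s := by
      apply le_antisymm
      · intro x hx
        rw [Subgroup.mem_centralizer_iff] at hx
        rcases hC x (hx s (Set.mem_singleton s)).symm with h | h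
        · rw [h]; exact Subgroup.one_mem _
        · rw [h]; exact Subgroup.mem_zpowers s
      · rw [Subgroup.zpowers_le, Subgroup.mem_centralizer_iff]
        intro g hg
        rw [Set.mem_singleton_iff] at hg
        rw [hg]
    have hord : orderOf s = 2 := orderOf_eq_prime (by rw [pow_two]; exact hs) hs1
    rw [hcent, Nat.card_zpowers, hord, Nat.card_eq_fintype_card (α := ConjAct K)] at h2
    have : Fintype.card (ConjAct K) = Fintype.card K := Fintype.card_congr ConjAct.ofConjAct.toEquiv
    omega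
  have hunion : A ∪ T = Finset.univ := by
    apply Finset.eq_univ_of_card
    rw [Finset.card_union_of_disjoint hdisj, hAT, ← hT2]
    ring
  have hg : g ∈ A ∪ T := by rw [hunion]; exact Finset.mem_univ g
  rcases Finset.mem_union.mp hg with h | h
  · right; exact (Finset.mem_filter.mp h).2
  · left; exact (Finset.mem_filter.mp h).2

end Cfsg.Agent.Lib.Helper9.J2X

namespace Cfsg.Agent.Lib.Helper9.J2X

variable {K : Type*} [Group K]

/-- `s` inverts every element that is not an involution or the identity -/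
theorem inverts [Finite K] (s : K) (hs : s * s = 1) (hs1 : s ≠ 1)
    (hC : ∀ x : K, x * s = s * x → x = 1 ∨ x = s) (g : K) (hg : g * g ≠ 1) :
    s * g * s = g⁻¹ := by
  rcases conj_or_mul_conj s hs hs1 hC g with ⟨c, hc⟩ | ⟨c, hc⟩
  · exfalso
    apply hg
    rw [← hc]
    calc c * s * c⁻¹ * (c * s * c⁻¹) = c * (s * s) * c⁻¹ := by group
      _ = 1 := by rw [hs]; group
  · have h1 : s * g * (s * g) = 1 := by
      rw [← hc]
      calc c * s * c⁻¹ * (c * s * c⁻¹) = c * (s * s) * c⁻¹ := by group
        _ = 1 := by rw [hs]; group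
    calc s * g * s = (s * g * (s * g)) * g⁻¹ := by group
      _ = g⁻¹ := by rw [h1, one_mul]

/-- every involution is conjugate to `s` -/
theorem invol_conj [Finite K] (s : K) (hs : s * s = 1) (hs1 : s ≠ 1)
    (hC : ∀ x : K, x * s = s * x → x = 1 ∨ x = s) (i : K) (hi : i * i = 1) (hi1 : i ≠ 1) :
    ∃ c : K, c * s * c⁻¹ = i := by
  rcases conj_or_mul_conj s hs hs1 hC i with h | ⟨c, hc⟩
  · exact h
  · have h1 : s * i * (s * i) = 1 := by
      rw [← hc]
      calc c * s * c⁻¹ * (c * s * c⁻¹) = c * (s * s) * c⁻¹ := by group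
        _ = 1 := by rw [hs]; group
    have hsinv : s⁻¹ = s := inv_eq_of_mul_eq_one_left hs
    have hiinv : i⁻¹ = i := inv_eq_of_mul_eq_one_left hi
    have h4 : (s * i)⁻¹ = s * i := inv_eq_of_mul_eq_one_left h1
    have hcomm : i * s = s * i := by
      calc i * s = i⁻¹ * s⁻¹ := by rw [hiinv, hsinv]
        _ = (s * i)⁻¹ := by group
        _ = s * i := h4
    rcases hC i hcomm with h | h
    · exact absurd h hi1
    · exact ⟨1, by rw [h]; group⟩

theorem comm_of_cent_two {K : Type*} [Group K] [Finite K] (s : K) (hs : s * s = 1) (hs1 : s ≠ 1)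
    (hC : ∀ x : K, x * s = s * x → x = 1 ∨ x = s) :
    ∀ a b : K, a * a ≠ 1 → b * b ≠ 1 → a * b = b * a := by
  intro a b ha hb
  have hsa := inverts s hs hs1 hC a ha
  have hsb := inverts s hs hs1 hC b hb
  by_cases hab : (a * b) * (a * b) = 1
  · by_cases hab1 : a * b = 1
    · have : b = a⁻¹ := eq_inv_of_mul_eq_one_right hab1
      rw [this]; group
    · exfalso
      -- i = ab is an involution; it satisfies the same hypotheses as s
      obtain ⟨c, hc⟩ := invol_conj s hs hs1 hC (a * b) hab hab1
      have hCi : ∀ x : K, x * (a * b) = (a * b) * x → x = 1 ∨ x = a * b := by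
        intro x hx
        have h1 : (c⁻¹ * x * c) * s = s * (c⁻¹ * x * c) := by
          have : s = c⁻¹ * (a * b) * c := by rw [← hc]; group
          rw [this]
          calc c⁻¹ * x * c * (c⁻¹ * (a * b) * c) = c⁻¹ * (x * (a * b)) * c := by group
            _ = c⁻¹ * ((a * b) * x) * c := by rw [hx]
            _ = c⁻¹ * (a * b) * c * (c⁻¹ * x * c) := by group
        rcases hC _ h1 with h | h
        · left
          calc x = c * (c⁻¹ * x * c) * c⁻¹ := by group
            _ = 1 := by rw [h]; group
        · right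
          calc x = c * (c⁻¹ * x * c) * c⁻¹ := by group
            _ = c * s * c⁻¹ := by rw [h]
            _ = a * b := hc
      have hia := inverts (a * b) hab hab1 hCi a ha
      have hib := inverts (a * b) hab hab1 hCi b hb
      -- (ab) a (ab) = a⁻¹ and (ab) b (ab) = b⁻¹
      apply hb
      -- from hia: a b a a b = a⁻¹ ; from hab: a b a b = 1
      have h1 : a * b * a = b⁻¹ := by
        calc a * b * a = (a * b * (a * b)) * b⁻¹ := by group
          _ = b⁻¹ := by rw [hab, one_mul]
      -- hia : a * b * a * (a * b) = a⁻¹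
      rw [h1] at hia
      -- b⁻¹ * (a * b) = a⁻¹  →  a b = b a⁻¹
      have h2 : a * b = b * a⁻¹ := by
        calc a * b = b * (b⁻¹ * (a * b)) := by group
          _ = b * a⁻¹ := by rw [hia]
      -- hib : a * b * b * (a * b) = b⁻¹
      have h3 : a * b * b * (a * b) = b⁻¹ := hib
      rw [h2] at h3
      -- b a⁻¹ b (b a⁻¹) = b⁻¹
      -- also from h2: a⁻¹ b ... derive b*b = 1
      have h4 : b * a⁻¹ * (b * a⁻¹) = 1 := by rw [← h2]; exact hab
      -- h3: (b a⁻¹) b (b a⁻¹) = b⁻¹ ; multiply: (b a⁻¹) b (b a⁻¹) = b⁻¹, and (b a⁻¹)^2 = 1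
      -- so b a⁻¹ b b a⁻¹ = b⁻¹ → conj of b*b by involution (b a⁻¹) equals... use: (b a⁻¹) (b b) (b a⁻¹) = b⁻¹
      -- and inverts for b: s-version not needed. Use hib-like for b⁻¹? simpler: from h1 and h2:
      -- h1: a b a = b⁻¹ ; h2: a b = b a⁻¹  ⇒ b a⁻¹ a = b⁻¹ ⇒ b = b⁻¹
      have h5 : b = b⁻¹ := by
        calc b = b * a⁻¹ * a := by group
          _ = a * b * a := by rw [← h2]
          _ = b⁻¹ := h1
      calc b * b = b * b⁻¹ := by rw [← h5]
        _ = 1 := by group
  · -- s inverts a, b and ab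
    have hsab := inverts s hs hs1 hC (a * b) hab
    have h1 : s * (a * b) * s = (s * a * s) * (s * b * s) := by
      calc s * (a * b) * s = s * a * (s * s)⁻¹ * b * s := by rw [hs]; group
        _ = s * a * s⁻¹ * s⁻¹ * b * s := by group
        _ = (s * a * s) * (s * b * s) := by
            have hsinv : s⁻¹ = s := inv_eq_of_mul_eq_one_left hs
            rw [hsinv]; group
    rw [hsab, hsa, hsb] at h1
    -- (ab)⁻¹ = a⁻¹ b⁻¹
    calc a * b = ((a * b)⁻¹)⁻¹ := by group
      _ = (a⁻¹ * b⁻¹)⁻¹ := by rw [h1]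
      _ = b * a := by group

end Cfsg.Agent.Lib.Helper9.J2X
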