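import Mathlib
import Cfsg.Prelude
import Cfsg.Agent.Lib.Helper9.J2Rc
import Cfsg.Agent.Lib.Helper9.J2Xa
import Cfsg.Agent.Lib.Helper7.A5aut

set_option autoImplicit false
set_option linter.style.haveILetI false

namespace Cfsg.Agent.Lib.Helper9.J2R

theorem eq_one_of_cube_five {X : Type*} [Group X] (n : X) (h3 : n ^ 3 = 1) (h5 : n ^ 5 = 1) : n = 1 := by
  calc n = (n ^ 3) ^ 2 * (n ^ 5)⁻¹ := by group
    _ = 1 := by rw [h3, h5]; group

theorem eq_one_of_sq_five {X : Type*} [Group X] (n : X) (h2 : n * n = 1) (h5 : n ^ 5 = 1) : n = 1 := by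
  calc n = n ^ 5 * ((n * n) * (n * n))⁻¹ := by group
    _ = 1 := by rw [h2, h5]; group

/-- Lemma E: an automorphism inverting the central `ρ` and fixing a subgroup of order `> 6`
pointwise fixes every element of order 5, when `Y/<ρ> ≅ A5`. -/
theorem fix_five_of_aut {Y : Type*} [Group Y] [Finite Y] (ρ : Y) (hρc : ∀ y : Y, y * ρ = ρ * y)
    (hρ3 : ρ ^ 3 = 1) [hN : (Subgroup.zpowers ρ).Normal]
    (w : Y ⧸ Subgroup.zpowers ρ ≃* alternatingGroup (Fin 5))
    (D' : Subgroup Y) (hD' : 6 < Nat.card D') (hDN : ∀ x ∈ D', x ∈ Subgroup.zpowers ρ → x = 1)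
    (β : Y ≃* Y) (hβρ : β ρ = ρ⁻¹) (hβD : ∀ x ∈ D', β x = x)
    (f : Y) (hf5 : f ^ 5 = 1) : β f = f := by
  set N := Subgroup.zpowers ρ with hNdef
  let π : Y →* Y ⧸ N := QuotientGroup.mk' N
  have hπ1 : ∀ y : Y, π y = 1 ↔ y ∈ N := fun y => QuotientGroup.eq_one_iff y
  have hβN : N.map (β : Y →* Y) = N := by
    apply le_antisymm
    · rintro x ⟨y, hy, rfl⟩
      obtain ⟨k, rfl⟩ := Subgroup.mem_zpowers_iff.mp hy
      show β (ρ ^ k) ∈ N
      rw [map_zpow, hβρ]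
      exact Subgroup.zpow_mem _ (Subgroup.inv_mem _ (Subgroup.mem_zpowers ρ)) k
    · intro x hx
      obtain ⟨k, rfl⟩ := Subgroup.mem_zpowers_iff.mp hx
      refine ⟨(ρ⁻¹) ^ k, Subgroup.zpow_mem _ (Subgroup.inv_mem _ (Subgroup.mem_zpowers ρ)) k, ?_⟩
      show β ((ρ⁻¹) ^ k) = ρ ^ k
      rw [map_zpow, map_inv, hβρ, inv_inv]
  let α : Y ⧸ N ≃* Y ⧸ N := QuotientGroup.congr N N β hβN
  have hα : ∀ y : Y, α (π y) = π (β y) := fun y => rfl
  let D'' : Subgroup (Y ⧸ N) := D'.map π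
  have hD''card : 6 < Nat.card D'' := by
    have : Nat.card D'' = Nat.card D' := by
      symm
      apply Nat.card_congr
      refine Equiv.ofBijective (fun v => ⟨π v.1, Subgroup.mem_map_of_mem π v.2⟩) ⟨?_, ?_⟩
      · intro a b hab
        have h1 : π a.1 = π b.1 := congrArg Subtype.val hab
        have h2 : π (a.1⁻¹ * b.1) = 1 := by rw [map_mul, map_inv, h1]; group
        have h3 := hDN _ (D'.mul_mem (D'.inv_mem a.2) b.2) ((hπ1 _).mp h2)
        apply Subtype.ext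
        calc a.1 = b.1 * (a.1⁻¹ * b.1)⁻¹ := by group
          _ = b.1 := by rw [h3]; group
      · rintro ⟨u, v, hv, rfl⟩
        exact ⟨⟨v, hv⟩, rfl⟩
    rw [this]; exact hD'
  have hαfix : ∀ u ∈ D'', α u = u := by
    rintro u ⟨v, hv, rfl⟩
    rw [hα, hβD v hv]
  have hαid := Cfsg.Agent.Lib.Helper7.A5aut.aut_fix w α D'' hD''card hαfix
  have h1 : π (f⁻¹ * β f) = 1 := by
    rw [map_mul, map_inv, ← hα, hαid]; group
  have hn := (hπ1 _).mp h1
  have hn3 := cube_of_mem_zpowers ρ hρ3 _ hn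
  have hcentral : ∀ y : Y, y * (f⁻¹ * β f) = (f⁻¹ * β f) * y := by
    intro y
    obtain ⟨k, hk⟩ := Subgroup.mem_zpowers_iff.mp hn
    rw [← hk]
    exact ((Commute.zpow_right (hρc y) k)).eq
  have hn5 : (f⁻¹ * β f) ^ 5 = 1 := by
    have hcomm : Commute f (f⁻¹ * β f) := hcentral f
    have h2 : (f * (f⁻¹ * β f)) ^ 5 = f ^ 5 * (f⁻¹ * β f) ^ 5 := hcomm.mul_pow 5
    have h3 : f * (f⁻¹ * β f) = β f := by group
    rw [h3, ← map_pow, hf5, map_one, one_mul] at h2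
    exact h2.symm
  have := eq_one_of_cube_five _ hn3 hn5
  calc β f = f * (f⁻¹ * β f) := by group
    _ = f := by rw [this, mul_one]

/-- Lemma K: if `C_W(s) = <s><f>` for an involution `s` and a central `f` of order 5, then
non-involutions of `W/<f>` commute. -/
theorem comm_mod_five {W : Type*} [Group W] [Finite W] (f : W) (hfc : ∀ y : W, y * f = f * y)
    (hf5 : f ^ 5 = 1) [hN : (Subgroup.zpowers f).Normal]
    (s : W) (hs2 : s * s = 1) (hs1 : s ≠ 1)
    (hCs : ∀ x : W, x * s = s * x → ∃ a b : ℕ, x = s ^ a * f ^ b)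
    (p q : W) (hp : p * p ∉ Subgroup.zpowers f) (hq : q * q ∉ Subgroup.zpowers f) :
    p * q * p⁻¹ * q⁻¹ ∈ Subgroup.zpowers f := by
  set N := Subgroup.zpowers f with hNdef
  let π : W →* W ⧸ N := QuotientGroup.mk' N
  have hπ1 : ∀ y : W, π y = 1 ↔ y ∈ N := fun y => QuotientGroup.eq_one_iff y
  have hN5 : ∀ n ∈ N, n ^ 5 = 1 := by
    intro n hn
    obtain ⟨k, rfl⟩ := Subgroup.mem_zpowers_iff.mp hn
    rw [← zpow_natCast, ← zpow_mul, mul_comm, zpow_mul, zpow_natCast, hf5, one_zpow]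
  have hcentral : ∀ n ∈ N, ∀ y : W, y * n = n * y := by
    intro n hn y
    obtain ⟨k, rfl⟩ := Subgroup.mem_zpowers_iff.mp hn
    exact ((Commute.zpow_right (hfc y) k)).eq
  have hsN : s ∉ N := fun h => hs1 (eq_one_of_sq_five s hs2 (hN5 s h))
  have hC : ∀ x : W ⧸ N, x * π s = π s * x → x = 1 ∨ x = π s := by
    intro x hx
    obtain ⟨y, rfl⟩ := QuotientGroup.mk_surjective x
    have hx' : π y * π s = π s * π y := hx
    have h1 : π (s⁻¹ * (y * s * y⁻¹)) = 1 := by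
      rw [map_mul, map_mul, map_mul, map_inv, map_inv, hx']; group
    have hn := (hπ1 _).mp h1
    -- (y s y⁻¹) = s * n, squares
    have hn2 : (s⁻¹ * (y * s * y⁻¹)) * (s⁻¹ * (y * s * y⁻¹)) = 1 := by
      have h2 : y * s * y⁻¹ = s * (s⁻¹ * (y * s * y⁻¹)) := by group
      have h3 : (y * s * y⁻¹) * (y * s * y⁻¹) = 1 := by
        calc y * s * y⁻¹ * (y * s * y⁻¹) = y * (s * s) * y⁻¹ := by group
          _ = 1 := by rw [hs2]; group
      have h4 : s * (s⁻¹ * (y * s * y⁻¹)) * (s * (s⁻¹ * (y * s * y⁻¹))) =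
          s * s * ((s⁻¹ * (y * s * y⁻¹)) * (s⁻¹ * (y * s * y⁻¹))) := by
        have hc := hcentral _ hn s
        calc s * (s⁻¹ * (y * s * y⁻¹)) * (s * (s⁻¹ * (y * s * y⁻¹)))
            = s * ((s⁻¹ * (y * s * y⁻¹)) * s) * (s⁻¹ * (y * s * y⁻¹)) := by group
          _ = s * (s * (s⁻¹ * (y * s * y⁻¹))) * (s⁻¹ * (y * s * y⁻¹)) := by rw [← hc]
          _ = s * s * ((s⁻¹ * (y * s * y⁻¹)) * (s⁻¹ * (y * s * y⁻¹))) := by group
      rw [← h2, h3, hs2, one_mul] at h4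
      exact h4.symm
    have hn1 := eq_one_of_sq_five _ hn2 (hN5 _ hn)
    have hcomm : y * s = s * y := by
      calc y * s = s * (s⁻¹ * (y * s * y⁻¹)) * y := by group
        _ = s * y := by rw [hn1, mul_one]
    obtain ⟨a, b, hab⟩ := hCs y hcomm
    have hfb : π (f ^ b) = 1 := (hπ1 _).mpr (Subgroup.pow_mem _ (Subgroup.mem_zpowers f) b)
    have hπy : π y = π s ^ a := by rw [hab, map_mul, hfb, mul_one, map_pow]
    have hss : π s * π s = 1 := by rw [← map_mul, hs2, map_one]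
    rcases Nat.even_or_odd a with ⟨c, hc⟩ | ⟨c, hc⟩
    · left
      show π y = 1
      rw [hπy, hc, ← two_mul, pow_mul, pow_two, hss, one_pow]
    · right
      show π y = π s
      rw [hπy, hc, pow_succ, pow_mul, pow_two, hss, one_pow, one_mul]
  have hkey := Cfsg.Agent.Lib.Helper9.J2X.comm_of_cent_two (π s)
    (by rw [← map_mul, hs2, map_one])
    (by intro h; exact hsN ((hπ1 _).mp h)) hC (π p) (π q)
    (by intro h; rw [← map_mul] at h; exact hp ((hπ1 _).mp h))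
    (by intro h; rw [← map_mul] at h; exact hq ((hπ1 _).mp h))
  rw [← hπ1, map_mul, map_mul, map_mul, map_inv, map_inv, hkey]
  group

end Cfsg.Agent.Lib.Helper9.J2R
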