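import Mathlib
import Cfsg.Prelude
import Cfsg.Agent.Lib.Helper9.J2Rb
import Cfsg.Agent.Lib.Helper9.J2Rd
import Cfsg.Agent.Lib.Helper9.J2Da

set_option autoImplicit false
set_option linter.style.haveILetI false

namespace Cfsg.Agent.Lib.Helper9.J2R

open Cfsg.Agent.Lib.Helper9.J2D

/-- the Sylow 5-subgroups of a group of order 604800 have order 25 -/
theorem card_sylow5 {G : Type*} [Group G] [Finite G] (hG : Nat.card G = 604800)
    (P : Sylow 5 G) : Nat.card P = 25 := by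
  haveI : Fact (Nat.Prime 5) := ⟨by norm_num⟩
  obtain ⟨k, hk⟩ := IsPGroup.iff_card.mp P.2
  have h1 := (P : Subgroup G).card_mul_index
  have h2 : ¬ 5 ∣ (P : Subgroup G).index := P.not_dvd_index
  rw [hG] at h1
  have hk' : Nat.card (P : Subgroup G) = 5 ^ k := hk
  rw [hk'] at h1
  have hk3 : k < 3 := by
    by_contra hge
    push Not at hge
    have : 5 ^ 3 ∣ 5 ^ k := pow_dvd_pow 5 hge
    have h3 : 5 ^ 3 ∣ 604800 := by rw [← h1]; exact Dvd.dvd.mul_right this _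
    norm_num at h3
  show Nat.card (P : Subgroup G) = 25
  rw [hk']
  interval_cases k
  · exfalso; apply h2; omega
  · exfalso; apply h2; omega
  · norm_num

/-- conjugation by an element normalizing a subgroup, as an automorphism of the subgroup -/
def conjAut {G : Type*} [Group G] (Y1 : Subgroup G) (c : G)
    (h1 : ∀ y ∈ Y1, c * y * c⁻¹ ∈ Y1) (h2 : ∀ y ∈ Y1, c⁻¹ * y * c ∈ Y1) : ↥Y1 ≃* ↥Y1 where
  toFun y := ⟨c * y.1 * c⁻¹, h1 y.1 y.2⟩
  invFun y := ⟨c⁻¹ * y.1 * c, h2 y.1 y.2⟩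
  left_inv y := by
    apply Subtype.ext
    show c⁻¹ * (c * y.1 * c⁻¹) * c = y.1
    group
  right_inv y := by
    apply Subtype.ext
    show c * (c⁻¹ * y.1 * c) * c⁻¹ = y.1
    group
  map_mul' a b := by
    apply Subtype.ext
    show c * (a.1 * b.1) * c⁻¹ = (c * a.1 * c⁻¹) * (c * b.1 * c⁻¹)
    group

theorem conjAut_apply {G : Type*} [Group G] (Y1 : Subgroup G) (c : G)
    (h1 : ∀ y ∈ Y1, c * y * c⁻¹ ∈ Y1) (h2 : ∀ y ∈ Y1, c⁻¹ * y * c ∈ Y1) (y : ↥Y1) :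
    ((conjAut Y1 c h1 h2 y : ↥Y1) : G) = c * y.1 * c⁻¹ := rfl

theorem zpowers_normal_of_central {Y : Type*} [Group Y] (ρ : Y) (hρc : ∀ y : Y, y * ρ = ρ * y) :
    (Subgroup.zpowers ρ).Normal := by
  refine ⟨?_⟩
  intro n hn g
  obtain ⟨k, rfl⟩ := Subgroup.mem_zpowers_iff.mp hn
  have : g * ρ ^ k * g⁻¹ = ρ ^ k := by
    have h := ((Commute.zpow_right (hρc g) k)).eq
    rw [h]; group
  rw [this]
  exact Subgroup.zpow_mem _ (Subgroup.mem_zpowers ρ) k

end Cfsg.Agent.Lib.Helper9.J2R
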