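import Mathlib
import Cfsg.Prelude
import Cfsg.Agent.Lib.Helper9.J2Re
import Cfsg.Agent.Lib.Helper9.J2Db

set_option autoImplicit false
set_option linter.style.haveILetI false
set_option maxHeartbeats 1000000

namespace Cfsg.Agent.Lib.Helper9.J2R

open Cfsg.Agent.Lib.Helper9.J2D

theorem cent_rho {G : Type*} [Group G] [Finite G] (hG : Nat.card G = 604800)
    (z : G) (V0 D R1 : Subgroup G) (hz : orderOf z = 2)
    (hV : Nat.card V0 = 4) (hV2 : ∀ v ∈ V0, v * v = 1) (hVD : V0 ≤ D) (hDc : Nat.card D = 12)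
    (hR1 : Nonempty (↥R1 ≃* alternatingGroup (Fin 5)))
    (hM : Cfsg.IsInternalDirectProduct D R1 (Subgroup.normalizer (V0 : Set G)))
    (hcent : ∀ t1 ∈ V0, t1 ≠ 1 → ∀ x : G, x * t1 = t1 * x → ∃ v ∈ V0, ∃ r ∈ R1, x = v * r)
    (hR1z : ∀ x ∈ R1, orderOf x = 2 → IsConj x z)
    (h5 : ∀ s f : G, IsConj s z → orderOf f = 5 → s * f = f * s → ∀ c : G, c * s = s * c →
      c * f = f * c → ∃ a b : ℕ, c = s ^ a * f ^ b)
    (ρ : G) (hρ : ρ ∈ R1) (hρ3 : orderOf ρ = 3) :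
    ∀ y : G, y * ρ = ρ * y → ∃ a ∈ D, ∃ k : ℕ, y = a * ρ ^ k := by
  classical
  have _ := hz
  obtain ⟨w⟩ := hR1
  obtain ⟨hDM, hR1M, hDRc, hDR, hsup⟩ := hM
  have hρ3' : ρ ^ 3 = 1 := by rw [← hρ3]; exact pow_orderOf_eq_one ρ
  have hρ1 : ρ ≠ 1 := by
    intro h; rw [h, orderOf_one] at hρ3; norm_num at hρ3
  have hDR' : ∀ x ∈ D, x ∈ R1 → x = 1 := by
    intro x h1 h2
    have : x ∈ D ⊓ R1 := Subgroup.mem_inf.mpr ⟨h1, h2⟩
    rwa [hDR, Subgroup.mem_bot] at this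
  -- (G3) centralizer of ρ in R1
  have hG3 : ∀ r ∈ R1, r * ρ = ρ * r → ∃ k : ℕ, r = ρ ^ k := by
    intro r hr hc
    have := y_cent3 w ⟨ρ, hρ⟩ (Subtype.ext hρ3') (fun h => hρ1 (congrArg Subtype.val h)) ⟨r, hr⟩
      (Subtype.ext hc)
    rcases this with h | h | h
    · exact ⟨0, by rw [pow_zero]; exact congrArg Subtype.val h⟩
    · exact ⟨1, by rw [pow_one]; exact congrArg Subtype.val h⟩
    · exact ⟨2, by rw [pow_two]; exact congrArg Subtype.val h⟩
  -- (G4) elements of M commuting with ρ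
  have hG4 : ∀ y ∈ Subgroup.normalizer (V0 : Set G), y * ρ = ρ * y → ∃ a ∈ D, ∃ k : ℕ, y = a * ρ ^ k := by
    intro y hy hc
    obtain ⟨a, ha, b, hb, rfl⟩ := idp_decomp D R1 _ ⟨hDM, hR1M, hDRc, hDR, hsup⟩ y hy
    have h1 := hDRc a ha ρ hρ
    have hbc : b * ρ = ρ * b := by
      calc b * ρ = a⁻¹ * (a * b * ρ) := by group
        _ = a⁻¹ * (ρ * (a * b)) := by rw [hc]
        _ = a⁻¹ * (ρ * a) * b := by group
        _ = a⁻¹ * (a * ρ) * b := by rw [h1]
        _ = ρ * b := by group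
    obtain ⟨k, hk⟩ := hG3 b hb hbc
    exact ⟨a, ha, k, by rw [hk]⟩
  -- (G5)
  have hG5 : ∀ t1 ∈ V0, t1 ≠ 1 → ∀ y : G, y * t1 = t1 * y → y * ρ = ρ * y →
      ∃ v ∈ V0, ∃ k : ℕ, y = v * ρ ^ k := by
    intro t1 ht1 hne y hyt hyρ
    obtain ⟨v, hv, r, hr, rfl⟩ := hcent t1 ht1 hne y hyt
    have h1 := hDRc v (hVD hv) ρ hρ
    have hrc : r * ρ = ρ * r := by
      calc r * ρ = v⁻¹ * (v * r * ρ) := by group
        _ = v⁻¹ * (ρ * (v * r)) := by rw [hyρ]
        _ = v⁻¹ * (ρ * v) * r := by group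
        _ = v⁻¹ * (v * ρ) * r := by rw [h1]
        _ = ρ * r := by group
    obtain ⟨k, hk⟩ := hG3 r hr hrc
    exact ⟨v, hv, k, by rw [hk]⟩
  -- the group Y1 = C_G(ρ)
  set Y1 : Subgroup G := Subgroup.centralizer ({ρ} : Set G) with hY1
  have hmemY1 : ∀ x : G, x ∈ Y1 ↔ x * ρ = ρ * x := by
    intro x
    rw [hY1, Subgroup.mem_centralizer_iff]
    constructor
    · intro h; exact (h ρ (Set.mem_singleton ρ)).symm
    · intro h g hg
      rw [Set.mem_singleton_iff] at hg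
      rw [hg]; exact h.symm
  have hDY1 : D ≤ Y1 := fun a ha => (hmemY1 a).mpr (hDRc a ha ρ hρ)
  have hV0Y1 : V0 ≤ Y1 := hVD.trans hDY1
  have hρY1 : ρ ∈ Y1 := (hmemY1 ρ).mpr rfl
  let ρ' : ↥Y1 := ⟨ρ, hρY1⟩
  have hρ'c : ∀ y : ↥Y1, y * ρ' = ρ' * y := fun y => Subtype.ext ((hmemY1 y.1).mp y.2)
  have hρ'3 : ρ' ^ 3 = 1 := Subtype.ext hρ3'
  haveI hN : (Subgroup.zpowers ρ').Normal := zpowers_normal_of_central ρ' hρ'c
  have hpowval : ∀ k : ℕ, ((ρ' ^ k : ↥Y1) : G) = ρ ^ k := fun k => rfl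
  -- t1 and ρ_D
  have hV0nb : V0 ≠ ⊥ := by
    intro h
    rw [h] at hV
    simp at hV
  obtain ⟨t1', ht1'⟩ := Subgroup.ne_bot_iff_exists_ne_one.mp hV0nb
  have ht1V : (t1' : G) ∈ V0 := t1'.2
  have ht1ne : (t1' : G) ≠ 1 := fun h => ht1' (Subtype.ext h)
  haveI : Fact (Nat.Prime 3) := ⟨Nat.prime_three⟩
  have h3D : 3 ∣ Nat.card D := by rw [hDc]; norm_num
  obtain ⟨d', hd'⟩ := exists_prime_orderOf_dvd_card' 3 h3D
  have hd'3 : (d' : G) ^ 3 = 1 := by
    have : d' ^ 3 = 1 := by rw [← hd']; exact pow_orderOf_eq_one d'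
    exact congrArg Subtype.val this
  have hd'1 : (d' : G) ≠ 1 := by
    intro h
    have : d' = 1 := Subtype.ext h
    rw [this, orderOf_one] at hd'
    norm_num at hd'
  have hd'M : (d' : G) ∈ Subgroup.normalizer (V0 : Set G) := hDM d'.2
  have hd'V : ∀ v ∈ V0, (d' : G) * v * (d' : G)⁻¹ ∈ V0 := fun v hv =>
    (Subgroup.mem_normalizer_iff.mp hd'M v).mp hv
  have hd't : (d' : G) * (t1' : G) ≠ (t1' : G) * (d' : G) := by
    intro hc
    obtain ⟨v, hv, r, hr, hvr⟩ := hcent t1' ht1V ht1ne d' hc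
    have hrD : r ∈ D := by
      have : r = v⁻¹ * (d' : G) := by rw [hvr]; group
      rw [this]
      exact D.mul_mem (D.inv_mem (hVD hv)) d'.2
    have hr1 := hDR' r hrD hr
    rw [hr1, mul_one] at hvr
    apply hd'1
    exact eq_one_of_sq_cube _ (by rw [hvr]; exact hV2 v hv) hd'3
  -- apply the quotient dichotomy
  have hdich := quot_dichotomy (Y := ↥Y1) ρ' hρ'c hρ'3 (V0.subgroupOf Y1)
    (by rw [Nat.card_congr (Subgroup.subgroupOfEquivOfLe hV0Y1).toEquiv, hV])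
    (by
      intro v hv
      apply Subtype.ext
      exact hV2 v.1 (Subgroup.mem_subgroupOf.mp hv))
    ⟨t1', hV0Y1 ht1V⟩ (Subgroup.mem_subgroupOf.mpr ht1V)
    (by intro h; exact ht1ne (congrArg Subtype.val h))
    ⟨d', hDY1 d'.2⟩ (Subtype.ext hd'3)
    (by
      intro v hv
      rw [Subgroup.mem_subgroupOf] at hv ⊢
      exact hd'V v.1 hv)
    (by intro h; exact hd't (congrArg Subtype.val h))
    (by
      intro y hy
      have hy' : (y : G) * (t1' : G) = (t1' : G) * (y : G) := congrArg Subtype.val hy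
      obtain ⟨v, hv, k, hk⟩ := hG5 t1' ht1V ht1ne y hy' ((hmemY1 y.1).mp y.2)
      refine ⟨⟨v, hV0Y1 hv⟩, Subgroup.mem_subgroupOf.mpr hv, k, ?_⟩
      apply Subtype.ext
      show (y : G) = v * ((ρ' ^ k : ↥Y1) : G)
      rw [hpowval, hk])
  intro y hyρ
  have hyY1 : y ∈ Y1 := (hmemY1 y).mpr hyρ
  rcases hdich with hnorm | ⟨⟨e⟩⟩
  · -- Y1 normalizes V0
    apply hG4 y ?_ hyρ
    haveI : Finite (V0 : Set G) := inferInstance
    apply Subgroup.mem_normalizer_fintype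
    intro v hv
    have := hnorm ⟨y, hyY1⟩ ⟨v, hV0Y1 hv⟩ (Subgroup.mem_subgroupOf.mpr hv)
    exact Subgroup.mem_subgroupOf.mp this
  · -- the A5 case is impossible
    exfalso
    -- z'' inverting ρ
    obtain ⟨τ, hτ2, hτ1, hτc⟩ := y_invert3 w ⟨ρ, hρ⟩ (Subtype.ext hρ3')
      (fun h => hρ1 (congrArg Subtype.val h))
    have hz2 : (τ : G) * (τ : G) = 1 := congrArg Subtype.val hτ2
    have hz1 : (τ : G) ≠ 1 := fun h => hτ1 (Subtype.ext h)
    have hzinv : (τ : G)⁻¹ = (τ : G) := inv_eq_of_mul_eq_one_left hz2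
    have hzρ : (τ : G) * ρ * (τ : G)⁻¹ = ρ⁻¹ := congrArg Subtype.val hτc
    have hzord : orderOf (τ : G) = 2 := orderOf_eq_prime (by rw [pow_two]; exact hz2) hz1
    have hzconj : IsConj (τ : G) z := hR1z τ τ.2 hzord
    have hzD : ∀ a ∈ D, (τ : G) * a = a * (τ : G) := fun a ha => (hDRc a ha τ τ.2).symm
    -- τ normalizes Y1
    have hnY1 : ∀ y ∈ Y1, (τ : G) * y * (τ : G)⁻¹ ∈ Y1 := by
      intro y hy
      rw [hmemY1] at hy ⊢
      have hyinv : y * ρ⁻¹ = ρ⁻¹ * y := by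
        calc y * ρ⁻¹ = ρ⁻¹ * (ρ * y) * ρ⁻¹ := by group
          _ = ρ⁻¹ * (y * ρ) * ρ⁻¹ := by rw [hy]
          _ = ρ⁻¹ * y := by group
      have hρτ : ρ = (τ : G) * ρ⁻¹ * (τ : G)⁻¹ := by
        rw [← hzρ]
        rw [hzinv]
        calc ρ = ((τ : G) * (τ : G)) * ρ * ((τ : G) * (τ : G)) := by rw [hz2]; group
          _ = (τ : G) * ((τ : G) * ρ * (τ : G)) * (τ : G) := by group
      calc (τ : G) * y * (τ : G)⁻¹ * ρ = (τ : G) * y * (τ : G)⁻¹ * ((τ : G) * ρ⁻¹ * (τ : G)⁻¹) := by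
            rw [← hρτ]
        _ = (τ : G) * (y * ρ⁻¹) * (τ : G)⁻¹ := by group
        _ = (τ : G) * (ρ⁻¹ * y) * (τ : G)⁻¹ := by rw [hyinv]
        _ = ((τ : G) * ρ⁻¹ * (τ : G)⁻¹) * ((τ : G) * y * (τ : G)⁻¹) := by group
        _ = ρ * ((τ : G) * y * (τ : G)⁻¹) := by rw [← hρτ]
    have hnY1' : ∀ y ∈ Y1, (τ : G)⁻¹ * y * (τ : G) ∈ Y1 := by
      intro y hy
      have := hnY1 y hy
      rw [hzinv] at this ⊢
      exact this
    let β : ↥Y1 ≃* ↥Y1 := conjAut Y1 τ hnY1 hnY1'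
    have hβ : ∀ y : ↥Y1, ((β y : ↥Y1) : G) = (τ : G) * y.1 * (τ : G)⁻¹ := fun y => rfl
    have hfix5 : ∀ f : ↥Y1, f ^ 5 = 1 → β f = f := by
      intro f hf
      apply fix_five_of_aut ρ' hρ'c hρ'3 e (D.subgroupOf Y1)
        (by rw [Nat.card_congr (Subgroup.subgroupOfEquivOfLe hDY1).toEquiv, hDc]; norm_num)
        (by
          intro x hxD hxN
          apply Subtype.ext
          apply hDR' x.1 (Subgroup.mem_subgroupOf.mp hxD)
          obtain ⟨k, hk⟩ := Subgroup.mem_zpowers_iff.mp hxN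
          have : (x : G) = ρ ^ k := by rw [← hk]; rfl
          rw [this]
          exact R1.zpow_mem hρ k)
        β
        (by
          apply Subtype.ext
          rw [hβ]
          exact hzρ)
        (by
          intro x hxD
          apply Subtype.ext
          rw [hβ]
          have := hzD x.1 (Subgroup.mem_subgroupOf.mp hxD)
          rw [this]; group)
        f hf
    -- an element of order 5 in Y1
    have hcardY1 : Nat.card Y1 = 180 := by
      have h1 := Subgroup.card_eq_card_quotient_mul_card_subgroup (Subgroup.zpowers ρ')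
      rw [Nat.card_congr e.toEquiv, a5_card, Nat.card_zpowers] at h1
      have : orderOf ρ' = 3 := by
        rw [← hρ3]; exact Subgroup.orderOf_mk ρ hρY1
      rw [this] at h1
      exact h1
    haveI : Fact (Nat.Prime 5) := ⟨by norm_num⟩
    have h5Y : 5 ∣ Nat.card Y1 := by rw [hcardY1]; norm_num
    obtain ⟨f', hf'⟩ := exists_prime_orderOf_dvd_card' 5 h5Y
    have hf'5 : f' ^ 5 = 1 := by rw [← hf']; exact pow_orderOf_eq_one f'
    set f : G := (f' : G) with hfdef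
    have hford : orderOf f = 5 := by rw [← hf']; exact Subgroup.orderOf_coe f'
    have hf5 : f ^ 5 = 1 := congrArg Subtype.val hf'5
    have hfρ : f * ρ = ρ * f := (hmemY1 f).mp f'.2
    have hzf : (τ : G) * f = f * (τ : G) := by
      have h1 := congrArg Subtype.val (hfix5 f' hf'5)
      rw [hβ] at h1
      calc (τ : G) * f = ((τ : G) * f * (τ : G)⁻¹) * (τ : G) := by group
        _ = f * (τ : G) := by rw [h1]
    -- W = C_G(f)
    set W : Subgroup G := Subgroup.centralizer ({f} : Set G) with hW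
    have hmemW : ∀ x : G, x ∈ W ↔ x * f = f * x := by
      intro x
      rw [hW, Subgroup.mem_centralizer_iff]
      constructor
      · intro h; exact (h f (Set.mem_singleton f)).symm
      · intro h g hg
        rw [Set.mem_singleton_iff] at hg
        rw [hg]; exact h.symm
    have hfW : f ∈ W := (hmemW f).mpr rfl
    let fW : ↥W := ⟨f, hfW⟩
    have hfWc : ∀ y : ↥W, y * fW = fW * y := fun y => Subtype.ext ((hmemW y.1).mp y.2)
    haveI hNW : (Subgroup.zpowers fW).Normal := zpowers_normal_of_central fW hfWc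
    have hτW : (τ : G) ∈ W := (hmemW _).mpr hzf
    have hρW : ρ ∈ W := (hmemW _).mpr hfρ.symm
    have hmemzp : ∀ x : ↥W, x ∈ Subgroup.zpowers fW → ∃ k : ℤ, (x : G) = f ^ k := by
      intro x hx
      obtain ⟨k, hk⟩ := Subgroup.mem_zpowers_iff.mp hx
      exact ⟨k, by rw [← hk]; rfl⟩
    have hkey : ∀ p q : ↥W, p * p ∉ Subgroup.zpowers fW → q * q ∉ Subgroup.zpowers fW →
        p * q * p⁻¹ * q⁻¹ ∈ Subgroup.zpowers fW :=
      comm_mod_five fW hfWc (Subtype.ext hf5) ⟨τ, hτW⟩ (Subtype.ext hz2)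
        (fun h => hz1 (congrArg Subtype.val h))
        (by
          intro x hx
          have hx' : (x : G) * (τ : G) = (τ : G) * (x : G) := congrArg Subtype.val hx
          obtain ⟨a, b, hab⟩ := h5 τ f hzconj hford hzf x.1 hx' ((hmemW x.1).mp x.2)
          refine ⟨a, b, ?_⟩
          apply Subtype.ext
          exact hab)
    -- Sylow 5-subgroup containing f
    have hfp : IsPGroup 5 (Subgroup.zpowers f) := IsPGroup.of_card (n := 1) (by rw [Nat.card_zpowers, hford, pow_one])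
    obtain ⟨P5, hP5⟩ := hfp.exists_le_sylow
    have hfP5 : f ∈ (P5 : Subgroup G) := hP5 (Subgroup.mem_zpowers f)
    have hP5card : Nat.card (P5 : Subgroup G) = 5 ^ 2 := by
      have := card_sylow5 hG P5
      rw [this]; norm_num
    have hP5comm : ∀ a b : (P5 : Subgroup G), a * b = b * a :=
      (IsPGroup.isMulCommutative_of_card_eq_prime_sq hP5card).is_comm.comm
    have hP5W : (P5 : Subgroup G) ≤ W := by
      intro p hp
      rw [hmemW]
      exact congrArg Subtype.val (hP5comm ⟨p, hp⟩ ⟨f, hfP5⟩)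
    -- every element of P5 commutes with ρ
    have hρρ : (⟨ρ, hρW⟩ : ↥W) * ⟨ρ, hρW⟩ ∉ Subgroup.zpowers fW := by
      intro h
      obtain ⟨k, hk⟩ := hmemzp _ h
      have hk' : ρ * ρ = f ^ k := hk
      have h10 : (ρ * ρ) ^ 5 = 1 := by
        rw [hk', ← zpow_natCast, ← zpow_mul, mul_comm, zpow_mul, zpow_natCast, hf5, one_zpow]
      rw [← pow_two, ← pow_mul] at h10
      apply hρ1
      calc ρ = ρ ^ (2 * 5) * ((ρ ^ 3) ^ 3)⁻¹ := by group
        _ = 1 := by rw [h10, hρ3']; group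
    have hP5ρ : ∀ p ∈ (P5 : Subgroup G), p * ρ = ρ * p := by
      intro p hp
      have hpW : p ∈ W := hP5W hp
      have hp25 : p ^ 25 = 1 := by
        have : (⟨p, hp⟩ : (P5 : Subgroup G)) ^ Nat.card (P5 : Subgroup G) = 1 := pow_card_eq_one'
        rw [hP5card] at this
        have h2 := congrArg Subtype.val this
        simpa using h2
      by_cases hpp : (⟨p, hpW⟩ : ↥W) * ⟨p, hpW⟩ ∈ Subgroup.zpowers fW
      · obtain ⟨k, hk⟩ := hmemzp _ hpp
        have hk' : p * p = f ^ k := hk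
        have hpf : p = (f ^ k) ^ 13 := by
          rw [← hk', ← pow_two, ← pow_mul]
          calc p = p ^ (2 * 13) * (p ^ 25)⁻¹ := by group
            _ = p ^ (2 * 13) := by rw [hp25]; group
        rw [hpf]
        have : Commute (f ^ k) ρ := Commute.zpow_left hfρ k
        exact (this.pow_left 13).eq
      · have h1 := hkey ⟨ρ, hρW⟩ ⟨p, hpW⟩ hρρ hpp
        obtain ⟨k, hk⟩ := hmemzp _ h1
        have hk' : ρ * p * ρ⁻¹ * p⁻¹ = f ^ k := hk
        set n := f ^ k with hn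
        have hnρ : n * ρ = ρ * n := (Commute.zpow_left hfρ k).eq
        have hn5 : n ^ 5 = 1 := by
          rw [hn, ← zpow_natCast, ← zpow_mul, mul_comm, zpow_mul, zpow_natCast, hf5, one_zpow]
        have hconj : ρ * p * ρ⁻¹ = n * p := by
          calc ρ * p * ρ⁻¹ = (ρ * p * ρ⁻¹ * p⁻¹) * p := by group
            _ = n * p := by rw [hk']
        have hnρ' : ρ * n * ρ⁻¹ = n := by rw [← hnρ]; group
        have h2 : ρ * (ρ * p * ρ⁻¹) * ρ⁻¹ = n * n * p := by
          rw [hconj]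
          calc ρ * (n * p) * ρ⁻¹ = (ρ * n * ρ⁻¹) * (ρ * p * ρ⁻¹) := by group
            _ = n * (n * p) := by rw [hnρ', hconj]
            _ = n * n * p := by group
        have h3 : ρ * (ρ * (ρ * p * ρ⁻¹) * ρ⁻¹) * ρ⁻¹ = n * n * n * p := by
          rw [h2]
          calc ρ * (n * n * p) * ρ⁻¹ = (ρ * n * ρ⁻¹) * (ρ * n * ρ⁻¹) * (ρ * p * ρ⁻¹) := by group
            _ = n * n * (n * p) := by rw [hnρ', hconj]
            _ = n * n * n * p := by group
        have h4 : ρ * (ρ * (ρ * p * ρ⁻¹) * ρ⁻¹) * ρ⁻¹ = p := by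
          have h33 : ρ ^ 3 = ρ * ρ * ρ := by rw [pow_succ, pow_two]
          calc ρ * (ρ * (ρ * p * ρ⁻¹) * ρ⁻¹) * ρ⁻¹ = (ρ * ρ * ρ) * p * (ρ * ρ * ρ)⁻¹ := by group
            _ = p := by rw [← h33, hρ3']; group
        rw [h4] at h3
        have hn3 : n ^ 3 = 1 := by
          have h33 : n ^ 3 = n * n * n := by rw [pow_succ, pow_two]
          calc n ^ 3 = (n * n * n * p) * p⁻¹ := by rw [h33]; group
            _ = 1 := by rw [← h3]; group
        have hn1 := eq_one_of_cube_five n hn3 hn5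
        rw [hn1, one_mul] at hconj
        calc p * ρ = (ρ * p * ρ⁻¹) * ρ := by rw [hconj]
          _ = ρ * p := by group
    have hP5Y1 : (P5 : Subgroup G) ≤ Y1 := fun p hp => (hmemY1 p).mpr (hP5ρ p hp)
    have := Subgroup.card_dvd_of_le hP5Y1
    rw [hP5card, hcardY1] at this
    norm_num at this

end Cfsg.Agent.Lib.Helper9.J2R
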