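import Mathlib

set_option autoImplicit false

namespace Cfsg.Agent.Lib.Helper9.Chain3

open MulAction

variable {G : Type*} [Group G] [Finite G] {X : Type*} [MulAction G X]

/-- the orbit of `x` under a subgroup containing the stabilizer has size dividing the size of the
full orbit -/
theorem ncard_orbit_dvd (x : X) (K : Subgroup G) (hK : stabilizer G x ≤ K) :
    (orbit K x).ncard ∣ (orbit G x).ncard := by
  have h1 : Nat.card (orbit K x) * Nat.card (stabilizer K x) = Nat.card K := by
    rw [← Nat.card_prod]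
    exact Nat.card_congr (orbitProdStabilizerEquivGroup K x)
  have h2 : Nat.card (orbit G x) * Nat.card (stabilizer G x) = Nat.card G := by
    rw [← Nat.card_prod]
    exact Nat.card_congr (orbitProdStabilizerEquivGroup G x)
  have h3 : Nat.card (stabilizer K x) = Nat.card (stabilizer G x) := by
    apply Nat.card_congr
    exact
      { toFun := fun g => ⟨g.1.1, by
          have := g.2
          rw [mem_stabilizer_iff] at this ⊢
          exact this⟩
        invFun := fun g => ⟨⟨g.1, hK g.2⟩, by
          have := g.2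
          rw [mem_stabilizer_iff] at this ⊢
          exact this⟩
        left_inv := fun g => rfl
        right_inv := fun g => rfl }
  have h4 : Nat.card K ∣ Nat.card G := Subgroup.card_subgroup_dvd_card K
  have hpos : 0 < Nat.card (stabilizer G x) := Nat.card_pos
  rw [Nat.card_coe_set_eq] at h1 h2
  rw [h3] at h1
  rw [← h1, ← h2] at h4
  exact Nat.dvd_of_mul_dvd_mul_right hpos h4

/-- a criterion for the stabilizer of a point to be a maximal subgroup -/
theorem isCoatom_stabilizer (x : X) (hne : ∃ g : G, g • x ≠ x)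
    (hcomb : ∀ Ω : Set X, x ∈ Ω → Ω ⊆ orbit G x →
      (∀ y ∈ Ω, ∀ z ∈ orbit G x, (∃ h ∈ stabilizer G x, h • y = z) → z ∈ Ω) →
      Ω.ncard ∣ (orbit G x).ncard → Ω = {x} ∨ Ω = orbit G x) :
    IsCoatom (stabilizer G x) := by
  constructor
  · intro htop
    obtain ⟨g, hg⟩ := hne
    have : g ∈ stabilizer G x := by rw [htop]; exact Subgroup.mem_top g
    exact hg (mem_stabilizer_iff.mp this)
  · intro K hK
    have hle : stabilizer G x ≤ K := le_of_lt hK
    have hΩ := hcomb (orbit K x) ⟨1, one_smul _ _⟩ (by
        rintro _ ⟨k, rfl⟩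
        exact ⟨k.1, rfl⟩) (by
        rintro _ ⟨k, rfl⟩ z _ ⟨h, hh, rfl⟩
        refine ⟨⟨h, hle hh⟩ * k, ?_⟩
        change (⟨h, hle hh⟩ * k) • x = h • (k • x)
        rw [mul_smul]
        rfl) (ncard_orbit_dvd x K hle)
    rcases hΩ with hΩ | hΩ
    · exfalso
      apply not_le_of_gt hK
      intro k hk
      rw [mem_stabilizer_iff]
      have : (⟨k, hk⟩ : K) • x ∈ orbit K x := ⟨⟨k, hk⟩, rfl⟩
      rw [hΩ] at this
      exact this
    · rw [eq_top_iff]
      intro g _
      have : g • x ∈ orbit K x := by rw [hΩ]; exact ⟨g, rfl⟩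
      obtain ⟨k, hk⟩ := this
      have hk' : (k.1⁻¹ * g) • x = x := by
        have : k.1 • x = g • x := hk
        rw [mul_smul, ← this, inv_smul_smul]
      have h1 : k.1⁻¹ * g ∈ K := hle (mem_stabilizer_iff.mpr hk')
      have h2 : g = k.1 * (k.1⁻¹ * g) := by group
      rw [h2]
      exact K.mul_mem k.2 h1

end Cfsg.Agent.Lib.Helper9.Chain3
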