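import Cfsg.Agent.Lib.Helper9.M24V2
import Cfsg.Agent.Lib.Helper9.Chain3

set_option autoImplicit false

namespace Cfsg.Agent.Lib.Helper9.M24V3

open Cfsg Finset Cfsg.Agent.Lib.Helper9.Golay1 Cfsg.Agent.Lib.Helper9.GolayQR1
  Cfsg.Agent.Lib.Helper9.GolayQR5 Cfsg.Agent.Lib.Helper9.GolayQR6
  Cfsg.Agent.Lib.Helper9.M24T1 Cfsg.Agent.Lib.Helper9.M24T3 Cfsg.Agent.Lib.Helper9.M24T6
  Cfsg.Agent.Lib.Helper9.M24T8 Cfsg.Agent.Lib.Helper9.M24T9
  Cfsg.Agent.Lib.Helper9.M24V2 Cfsg.Agent.Lib.Helper9.Chain3
  Cfsg.Agent.Lib.Helper9.Steiner3 Cfsg.Agent.Lib.Helper9.Steiner4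
open scoped Pointwise

theorem orbit_octad (o : Finset GolayPt) (ho : o ∈ octads) : MulAction.orbit M24 o = octads := by
  ext o'
  constructor
  · rintro ⟨g, rfl⟩
    exact smul_octad_mem g.1 g.2 o ho
  · intro ho'
    obtain ⟨g, hg, h⟩ := octad_transitive o o' ho ho'
    exact ⟨⟨g, hg⟩, h⟩

/-- all-or-nothing: a set of octads closed under the stabilizer of `o` contains, with one octad
meeting `o` in `k` points, all of them -/
theorem class_subset (o : Finset GolayPt) (ho : o ∈ octads) (Ω : Set (Finset GolayPt))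
    (hcl : ∀ y ∈ Ω, ∀ z ∈ MulAction.orbit M24 o,
      (∃ h ∈ MulAction.stabilizer M24 o, h • y = z) → z ∈ Ω)
    (y : Finset GolayPt) (hy : y ∈ Ω) (hyo : y ∈ octads) (z : Finset GolayPt) (hz : z ∈ octads)
    (hk : (z ∩ o).card = (y ∩ o).card) : z ∈ Ω := by
  have hk' : (o ∩ y).card = (o ∩ z).card := by rw [inter_comm o y, inter_comm o z, hk]
  obtain ⟨g, hg, hgo, hgy⟩ := octad_orbits o y z ho hyo hz hk'
  apply hcl y hy z (by rw [orbit_octad o ho]; exact hz)
  exact ⟨⟨g, hg⟩, MulAction.mem_stabilizer_iff.mpr hgo, hgy⟩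

theorem octad_stabilizer_isCoatom (o : Finset GolayPt) (ho : o ∈ octads) :
    IsCoatom (MulAction.stabilizer M24 o) := by
  classical
  obtain ⟨Bf, hBf⟩ := Cfsg.Agent.Lib.Helper9.GolayQR8.exists_octads_finset
  have hB : IsSteinerSystem 5 8 (Bf : Set (Finset GolayPt)) := by
    rw [hBf]; exact octads_isSteiner
  have hBmem : ∀ b, b ∈ Bf ↔ b ∈ octads := fun b => by rw [← hBf]; exact Iff.rfl
  have hob : o ∈ Bf := (hBmem o).mpr ho
  obtain ⟨n0, -, n2, -, n4⟩ := inter_distribution card_golayPt Bf hB o hob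
  have h759 : Bf.card = 759 := by
    rw [← Set.ncard_coe_finset, hBf]; exact card_octads
  apply isCoatom_stabilizer
  · -- some element moves `o`
    have : ∃ o' ∈ Bf, o' ≠ o := by
      by_contra hcon
      push Not at hcon
      have : Bf ⊆ {o} := fun b hb => mem_singleton.mpr (hcon b hb)
      have := card_le_card this
      rw [h759, card_singleton] at this
      omega
    obtain ⟨o', ho', hne⟩ := this
    obtain ⟨g, hg, h⟩ := octad_transitive o o' ho ((hBmem o').mp ho')
    exact ⟨⟨g, hg⟩, by rw [show (⟨g, hg⟩ : M24) • o = g • o from rfl, h]; exact hne⟩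
  · intro Ω hoΩ hsub hcl hdvd
    rw [orbit_octad o ho] at hsub hdvd ⊢
    obtain ⟨W, hW⟩ : ∃ W : Finset (Finset GolayPt), W = Bf.filter (· ∈ Ω) := ⟨_, rfl⟩
    have hWΩ : (W : Set (Finset GolayPt)) = Ω := by
      ext b
      rw [hW, mem_coe, mem_filter, hBmem]
      exact ⟨fun h => h.2, fun h => ⟨hsub h, h⟩⟩
    have hWmem : ∀ b, b ∈ W ↔ b ∈ Ω := fun b => by rw [← hWΩ]; exact Iff.rfl
    have hWsub : W ⊆ Bf := by rw [hW]; exact filter_subset _ _
    -- the fibres
    have hfib : ∀ k, (W.filter (fun c => (c ∩ o).card = k)) = ∅ ∨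
        (W.filter (fun c => (c ∩ o).card = k)) = Bf.filter (fun c => (c ∩ o).card = k) := by
      intro k
      by_cases he : (W.filter (fun c => (c ∩ o).card = k)) = ∅
      · exact Or.inl he
      · right
        obtain ⟨y, hy⟩ := nonempty_iff_ne_empty.mpr he
        rw [mem_filter] at hy
        ext z
        rw [mem_filter, mem_filter]
        constructor
        · exact fun h => ⟨hWsub h.1, h.2⟩
        · rintro ⟨hz, hzk⟩
          refine ⟨(hWmem z).mpr ?_, hzk⟩
          exact class_subset o ho Ω hcl y ((hWmem y).mp hy.1) ((hBmem y).mp (hWsub hy.1)) z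
            ((hBmem z).mp hz) (by rw [hzk, hy.2])
    have hzero : ∀ k, k ≠ 0 → k ≠ 2 → k ≠ 4 → k ≠ 8 →
        (W.filter (fun c => (c ∩ o).card = k)).card = 0 := by
      intro k h0 h2 h4 h8
      rw [card_eq_zero, filter_eq_empty_iff]
      intro c hc hck
      by_cases hco : c = o
      · rw [hco, inter_self] at hck
        have : o.card = 8 := ho.2
        omega
      · have := Cfsg.Agent.Lib.Helper9.Steiner5.block_inter card_golayPt octads_isSteiner
          ((hBmem c).mp (hWsub hc)) ho hco
        omega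
    have h8 : (W.filter (fun c => (c ∩ o).card = 8)).card = 1 := by
      rw [card_eq_one]
      refine ⟨o, ?_⟩
      ext c
      rw [mem_filter, mem_singleton]
      constructor
      · rintro ⟨hc, hck⟩
        exact block_eq_of_five Bf hB c o (hWsub hc) hob (by omega)
      · rintro rfl
        exact ⟨(hWmem c).mpr hoΩ, by rw [inter_self]; exact ho.2⟩
    have hsum := sum_fiber_inter W o 8 (by rw [ho.2]) (fun _ => 1)
    simp only [sum_const, smul_eq_mul, mul_one, sum_range_succ, sum_range_zero] at hsum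
    rw [hzero 1 (by omega) (by omega) (by omega) (by omega),
      hzero 3 (by omega) (by omega) (by omega) (by omega),
      hzero 5 (by omega) (by omega) (by omega) (by omega),
      hzero 6 (by omega) (by omega) (by omega) (by omega),
      hzero 7 (by omega) (by omega) (by omega) (by omega), h8] at hsum
    rw [← hWΩ, Set.ncard_coe_finset, ← hBf, Set.ncard_coe_finset, h759] at hdvd
    have c0 : (W.filter (fun c => (c ∩ o).card = 0)).card = 0 ∨
        (W.filter (fun c => (c ∩ o).card = 0)).card = 30 := by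
      rcases hfib 0 with h | h
      · left; rw [h, card_empty]
      · right; rw [h, n0]
    have c2 : (W.filter (fun c => (c ∩ o).card = 2)).card = 0 ∨
        (W.filter (fun c => (c ∩ o).card = 2)).card = 448 := by
      rcases hfib 2 with h | h
      · left; rw [h, card_empty]
      · right; rw [h, n2]
    have c4 : (W.filter (fun c => (c ∩ o).card = 4)).card = 0 ∨
        (W.filter (fun c => (c ∩ o).card = 4)).card = 280 := by
      rcases hfib 4 with h | h
      · left; rw [h, card_empty]
      · right; rw [h, n4]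
    have hcases : W.card = 1 ∨ W.card = 759 := by
      rcases c0 with e0 | e0 <;> rcases c2 with e2 | e2 <;> rcases c4 with e4 | e4 <;>
        rw [e0, e2, e4] at hsum <;> rw [hsum] at hdvd <;> first
          | (left; omega) | (right; omega)
    rcases hcases with h1 | h1
    · left
      rw [← hWΩ]
      obtain ⟨a, ha⟩ := card_eq_one.mp h1
      have : o ∈ W := (hWmem o).mpr hoΩ
      rw [ha, mem_singleton] at this
      rw [ha, this, coe_singleton]
    · right
      rw [← hWΩ, ← hBf]
      congr 1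
      exact eq_of_subset_of_card_le hWsub (by rw [h1, h759])

end Cfsg.Agent.Lib.Helper9.M24V3
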