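import Cfsg.Agent.Lib.Helper9.M24W2
import Cfsg.Agent.Lib.Helper9.M24V3

set_option autoImplicit false

namespace Cfsg.Agent.Lib.Helper9.M24X1

open Cfsg Finset Cfsg.Agent.Lib.Helper9.Golay1 Cfsg.Agent.Lib.Helper9.GolayQR1
  Cfsg.Agent.Lib.Helper9.GolayQR2 Cfsg.Agent.Lib.Helper9.GolayQR3
  Cfsg.Agent.Lib.Helper9.GolayQR5
  Cfsg.Agent.Lib.Helper9.M24T1 Cfsg.Agent.Lib.Helper9.M24T3 Cfsg.Agent.Lib.Helper9.M24T5
  Cfsg.Agent.Lib.Helper9.M24T6
  Cfsg.Agent.Lib.Helper9.M24T8 Cfsg.Agent.Lib.Helper9.M24T9 Cfsg.Agent.Lib.Helper9.M24T10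
  Cfsg.Agent.Lib.Helper9.M24T11
  Cfsg.Agent.Lib.Helper9.M24U1 Cfsg.Agent.Lib.Helper9.M24U2 Cfsg.Agent.Lib.Helper9.M24U3
  Cfsg.Agent.Lib.Helper9.M24U4 Cfsg.Agent.Lib.Helper9.M24U5 Cfsg.Agent.Lib.Helper9.M24U6
  Cfsg.Agent.Lib.Helper9.M24V2 Cfsg.Agent.Lib.Helper9.Chain1
open scoped Pointwise

/-- the elements of `M24` fixing the points with given indices and stabilizing the sets with given
masks -/
def stabC (pts : List ℕ) (ms : List ℕ) : Subgroup (Equiv.Perm GolayPt) where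
  carrier := {g | g ∈ M24 ∧ (∀ i ∈ pts, g (unidx i) = unidx i) ∧ ∀ m ∈ ms, g • M m = M m}
  mul_mem' := by
    rintro a b ⟨ha, ha1, ha2⟩ ⟨hb, hb1, hb2⟩
    refine ⟨M24.mul_mem ha hb, fun i hi => ?_, fun m hm => ?_⟩
    · rw [Equiv.Perm.mul_apply, hb1 i hi, ha1 i hi]
    · rw [mul_smul, hb2 m hm, ha2 m hm]
  one_mem' := ⟨M24.one_mem, fun _ _ => rfl, fun _ _ => one_smul _ _⟩
  inv_mem' := by
    rintro a ⟨ha, ha1, ha2⟩
    refine ⟨M24.inv_mem ha, fun i hi => ?_, fun m hm => ?_⟩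
    · rw [Equiv.Perm.inv_eq_iff_eq]
      exact (ha1 i hi).symm
    · rw [inv_smul_eq_iff]
      exact (ha2 m hm).symm

theorem mem_stabC (pts ms : List ℕ) (g : Equiv.Perm GolayPt) :
    g ∈ stabC pts ms ↔
      g ∈ M24 ∧ (∀ i ∈ pts, g (unidx i) = unidx i) ∧ ∀ m ∈ ms, g • M m = M m := Iff.rfl

/-- membership of a table permutation in `stabC`, by computation -/
theorem tperm_mem_stabC (l l' : List ℕ) (h1 : ∀ p, tfun l' (tfun l p) = p)
    (h2 : ∀ p, tfun l (tfun l' p) = p) (hl : ∀ p : GolayPt, l.getD (idx p) 0 < 24)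
    (hl' : ∀ p : GolayPt, l'.getD (idx p) 0 < 24)
    (hc : ∀ i : Fin 12, reprod (pull l (bmask i)) = pull l (bmask i))
    (pts ms : List ℕ) (hp : ∀ i ∈ pts, l.getD i 0 = i ∧ i < 24) (hm : ∀ m ∈ ms, pull l' m = m) :
    tperm l l' h1 h2 ∈ stabC pts ms := by
  refine ⟨tperm_mem l l' h1 h2 hl hc, fun i hi => ?_, fun m hm' => ?_⟩
  · obtain ⟨e, hi24⟩ := hp i hi
    change tfun l (unidx i) = unidx i
    unfold tfun
    rw [idx_unidx i hi24, e]
  · rw [tperm_smul_M l l' h1 h2 hl', hm m hm']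

/-- counting along an element of a group preserving the ambient family -/
theorem ncard_smul (t : Equiv.Perm GolayPt) (S : Set (Finset GolayPt))
    (hS : ∀ s, s ∈ S → t • s ∈ S) (hS' : ∀ s, s ∈ S → t⁻¹ • s ∈ S)
    (P Q : Finset GolayPt → Prop) (h : ∀ s, P (t • s) ↔ Q s) :
    {s | s ∈ S ∧ P s}.ncard = {s | s ∈ S ∧ Q s}.ncard := by
  have : {s | s ∈ S ∧ P s} = (fun s : Finset GolayPt => t • s) '' {s | s ∈ S ∧ Q s} := by
    ext s
    constructor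
    · rintro ⟨hs, hP⟩
      refine ⟨t⁻¹ • s, ⟨hS' s hs, ?_⟩, smul_inv_smul t s⟩
      rw [← h, smul_inv_smul]
      exact hP
    · rintro ⟨s', ⟨hs', hQ⟩, rfl⟩
      exact ⟨hS s' hs', (h s').mpr hQ⟩
  rw [this, Set.ncard_image_of_injective _ (MulAction.injective t)]

theorem smul_mem_iff (t : Equiv.Perm GolayPt) (x : GolayPt) (s : Finset GolayPt) :
    t x ∈ t • s ↔ x ∈ s := by
  rw [← Equiv.Perm.smul_def]
  exact Finset.smul_mem_smul_finset_iff t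

/-- the stabilizer of an octad is transitive on the injective 5-tuples of its points -/
theorem octad_stab_trans5 (o : Finset GolayPt) (ho : o ∈ octads) (x y : Fin 5 ↪ GolayPt)
    (hx : ∀ i, x i ∈ o) (hy : ∀ i, y i ∈ o) : ∃ g ∈ stabF o, ∀ i, g (x i) = y i := by
  obtain ⟨g, hg, hxy⟩ := exists_map_emb x y
  refine ⟨g, (mem_stabF o g).mpr ⟨hg, ?_⟩, hxy⟩
  have h1 : g • o ∈ octads := smul_octad_mem g hg o ho
  obtain ⟨s, hs⟩ : ∃ s : Finset GolayPt, s = univ.image y := ⟨_, rfl⟩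
  have hs5 : s.card = 5 := by
    rw [hs, card_image_of_injective _ y.injective, card_univ, Fintype.card_fin]
  have hso : s ⊆ o := by
    intro p hp
    rw [hs, mem_image] at hp
    obtain ⟨i, -, rfl⟩ := hp
    exact hy i
  have hsgo : s ⊆ g • o := by
    intro p hp
    rw [hs, mem_image] at hp
    obtain ⟨i, -, rfl⟩ := hp
    rw [← hxy i, smul_mem_iff]
    exact hx i
  obtain ⟨b, -, hb⟩ := octads_isSteiner.2 s hs5
  rw [hb _ ⟨h1, hsgo⟩, hb _ ⟨ho, hso⟩]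

/-- the stabilizer of an octad is transitive on its points -/
theorem octad_stab_trans1 (o : Finset GolayPt) (ho : o ∈ octads) (p q : GolayPt) (hp : p ∈ o)
    (hq : q ∈ o) : ∃ g ∈ stabF o, g p = q := by
  have h8 : o.card = 8 := ho.2
  obtain ⟨x, hx, hx0⟩ := exists_emb_start o (by omega) p hp
  obtain ⟨y, hy, hy0⟩ := exists_emb_start o (by omega) q hq
  obtain ⟨g, hg, hxy⟩ := octad_stab_trans5 o ho x y hx hy
  exact ⟨g, hg, by rw [← hx0, hxy 0, hy0]⟩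

/-- moving a flag (point in octad) to the standard one -/
theorem exists_std_flag (x : GolayPt) (o : Finset GolayPt) (ho : o ∈ octads) (hx : x ∈ o) :
    ∃ t ∈ M24, t • o = O8 ∧ t x = none := by
  obtain ⟨t1, ht1, h1⟩ := octad_transitive o O8 ho O8_mem
  have hx1 : t1 x ∈ O8 := by rw [← h1, smul_mem_iff]; exact hx
  have hn : (none : GolayPt) ∈ O8 := by rw [mem_O8]; decide
  obtain ⟨u, hu, hux⟩ := octad_stab_trans1 O8 O8_mem (t1 x) none hx1 hn
  rw [mem_stabF] at hu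
  exact ⟨u * t1, M24.mul_mem hu.1 ht1, by rw [mul_smul, h1, hu.2], by
    rw [Equiv.Perm.mul_apply, hux]⟩

theorem eprod_smul_O8 (a1 a2 a3 a4 : Bool) : eprod a1 a2 a3 a4 • O8 = O8 := by
  have hmem := eprod_mem a1 a2 a3 a4
  ext p
  rw [Finset.mem_smul_finset]
  constructor
  · rintro ⟨q, hq, rfl⟩
    rw [Equiv.Perm.smul_def, hmem.2 q ((mem_O8 q).mp hq)]
    exact hq
  · intro hp
    exact ⟨p, hp, by rw [Equiv.Perm.smul_def, hmem.2 p ((mem_O8 p).mp hp)]⟩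

/-- moving an antiflag (point outside octad) to the standard one -/
theorem exists_std_antiflag (x : GolayPt) (o : Finset GolayPt) (ho : o ∈ octads) (hx : x ∉ o) :
    ∃ t ∈ M24, t • o = O8 ∧ t x = some 4 := by
  obtain ⟨t1, ht1, h1⟩ := octad_transitive o O8 ho O8_mem
  have hx1 : t1 x ∉ L8 := by
    rw [← mem_O8, ← h1, smul_mem_iff]
    exact hx
  obtain ⟨a1, a2, a3, a4, ha⟩ := eprod_cover _ hx1
  have hmem := eprod_mem a1 a2 a3 a4
  refine ⟨(eprod a1 a2 a3 a4)⁻¹ * t1, M24.mul_mem (M24.inv_mem hmem.1) ht1, ?_, ?_⟩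
  · rw [mul_smul, h1, inv_smul_eq_iff, eprod_smul_O8]
  · rw [Equiv.Perm.mul_apply, ← ha, inv_apply_self']

end Cfsg.Agent.Lib.Helper9.M24X1
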