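import Cfsg.Agent.Lib.Helper9.M24Y5
import Cfsg.Agent.Lib.Helper9.M24X1

set_option autoImplicit false

namespace Cfsg.Agent.Lib.Helper9.M24P1

open Cfsg Finset Cfsg.Agent.Lib.Helper9.Golay1 Cfsg.Agent.Lib.Helper9.GolayQR1
  Cfsg.Agent.Lib.Helper9.GolayQR5 Cfsg.Agent.Lib.Helper9.GolayQR6
  Cfsg.Agent.Lib.Helper9.M24T1 Cfsg.Agent.Lib.Helper9.M24T3 Cfsg.Agent.Lib.Helper9.M24T4
  Cfsg.Agent.Lib.Helper9.M24T6 Cfsg.Agent.Lib.Helper9.M24T8 Cfsg.Agent.Lib.Helper9.M24T9
  Cfsg.Agent.Lib.Helper9.M24T10 Cfsg.Agent.Lib.Helper9.M24X1 Cfsg.Agent.Lib.Helper9.M24Y5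
open scoped Pointwise

/-- the pointwise stabilizer of a set of points in `M24` -/
abbrev fixS (o : Finset GolayPt) : Subgroup (Equiv.Perm GolayPt) :=
  M24 ⊓ fixingSubgroup (Equiv.Perm GolayPt) (o : Set GolayPt)

theorem mem_fixS (o : Finset GolayPt) (g : Equiv.Perm GolayPt) :
    g ∈ fixS o ↔ g ∈ M24 ∧ ∀ x ∈ o, g x = x := by
  rw [Subgroup.mem_inf, mem_fixingSubgroup_iff]
  rfl

theorem stab_iff (o : Finset GolayPt) (g : Equiv.Perm GolayPt) :
    g • o = o ↔ ∀ x, g x ∈ o ↔ x ∈ o := by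
  constructor
  · intro h x
    have := smul_mem_iff g x o
    rwa [h] at this
  · intro h
    ext p
    rw [Finset.mem_smul_finset]
    constructor
    · rintro ⟨q, hq, rfl⟩
      exact (h q).mpr hq
    · intro hp
      refine ⟨g.symm p, ?_, by simp⟩
      rw [← h]
      simpa using hp

theorem fixS_le_stabF (o : Finset GolayPt) : fixS o ≤ stabF o := by
  intro g hg
  rw [mem_fixS] at hg
  rw [mem_stabF, stab_iff]
  refine ⟨hg.1, fun x => ?_⟩
  constructor
  · intro hx
    by_contra hxo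
    have h1 := hg.2 _ hx
    have h2 : g x = x := g.injective h1
    rw [h2] at hx
    exact hxo hx
  · intro hx
    rw [hg.2 x hx]
    exact hx

/-- restriction of the setwise stabilizer to the set -/
def resHom (o : Finset GolayPt) : stabF o →* Equiv.Perm ↥o where
  toFun g := (g : Equiv.Perm GolayPt).subtypePerm
    ((stab_iff o g).mp ((mem_stabF o g).mp g.2).2)
  map_one' := by
    ext x
    rfl
  map_mul' := by
    intro a b
    ext x
    rfl

theorem resHom_apply (o : Finset GolayPt) (g : stabF o) (x : ↥o) :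
    ((resHom o g) x : GolayPt) = (g : Equiv.Perm GolayPt) x := rfl

theorem mem_ker_res (o : Finset GolayPt) (g : stabF o) :
    g ∈ (resHom o).ker ↔ (g : Equiv.Perm GolayPt) ∈ fixS o := by
  rw [MonoidHom.mem_ker, mem_fixS]
  constructor
  · intro h
    refine ⟨((mem_stabF o g).mp g.2).1, fun x hx => ?_⟩
    have := congrArg (fun e : Equiv.Perm ↥o => ((e ⟨x, hx⟩ : ↥o) : GolayPt)) h
    exact this
  · intro h
    apply Equiv.ext
    intro x
    apply Subtype.ext
    exact h.2 x x.2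

theorem ker_res (o : Finset GolayPt) : (resHom o).ker = (fixS o).subgroupOf (stabF o) := by
  ext g
  rw [mem_ker_res, Subgroup.mem_subgroupOf]

theorem card_ker_res (o : Finset GolayPt) (ho : o ∈ octads) : Nat.card (resHom o).ker = 16 := by
  rw [ker_res, Nat.card_congr (Subgroup.subgroupOfEquivOfLe (fixS_le_stabF o)).toEquiv]
  exact (octad_pointwise o ho).1

theorem card_stabF_octad (o : Finset GolayPt) (ho : o ∈ octads) : Nat.card (stabF o) = 322560 := by
  rw [← card_stabilizer_finset, card_stabilizer_octad o ho]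

theorem card_range_res (o : Finset GolayPt) (ho : o ∈ octads) :
    Nat.card (resHom o).range = 20160 := by
  have h1 := Subgroup.card_mul_index (resHom o).ker
  rw [Subgroup.index_ker, card_ker_res o ho, card_stabF_octad o ho] at h1
  omega

theorem range_res (o : Finset GolayPt) (ho : o ∈ octads) :
    (resHom o).range = alternatingGroup ↥o := by
  apply Equiv.Perm.eq_alternatingGroup_of_index_eq_two
  have h1 := Subgroup.card_mul_index (resHom o).range
  have h8 : Fintype.card ↥o = 8 := by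
    rw [Fintype.card_coe]
    exact ho.2
  rw [card_range_res o ho, Nat.card_eq_fintype_card, Fintype.card_perm, h8] at h1
  have : (8 : ℕ).factorial = 40320 := by decide
  rw [this] at h1
  omega

/-- the permutations of an octad induced by its stabilizer are the even ones -/
theorem induced_eq (o : Finset GolayPt) (ho : o ∈ octads) :
    {e : Equiv.Perm ↥o | ∃ g : Equiv.Perm GolayPt, g ∈ M24 ∧
      ∃ h : (∀ x, g x ∈ o ↔ x ∈ o), g.subtypePerm h = e}
      = (alternatingGroup ↥o : Set (Equiv.Perm ↥o)) := by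
  rw [← range_res o ho]
  ext e
  constructor
  · rintro ⟨g, hg, h, rfl⟩
    exact ⟨⟨g, (mem_stabF o g).mpr ⟨hg, (stab_iff o g).mpr h⟩⟩, rfl⟩
  · rintro ⟨g, rfl⟩
    exact ⟨g, ((mem_stabF o g).mp g.2).1, (stab_iff o g).mp ((mem_stabF o g).mp g.2).2, rfl⟩

theorem inv_app (t : Equiv.Perm GolayPt) (x : GolayPt) : t⁻¹ (t x) = x := t.symm_apply_apply x

theorem app_inv (t : Equiv.Perm GolayPt) (x : GolayPt) : t (t⁻¹ x) = x := t.apply_symm_apply x

/-- the pointwise stabilizer of an octad is transitive on the complement -/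
theorem fixS_trans (o : Finset GolayPt) (ho : o ∈ octads) (p q : GolayPt) (hp : p ∉ o)
    (hq : q ∉ o) : ∃ k ∈ fixS o, k p = q := by
  obtain ⟨t, ht, hto, htp⟩ := exists_std_antiflag p o ho hp
  have htq : t q ∉ L8 := by
    rw [← mem_O8, ← hto, smul_mem_iff]
    exact hq
  obtain ⟨a1, a2, a3, a4, ha⟩ := eprod_cover _ htq
  have he := eprod_mem a1 a2 a3 a4
  refine ⟨t⁻¹ * eprod a1 a2 a3 a4 * t, ?_, ?_⟩
  · rw [mem_fixS]
    refine ⟨M24.mul_mem (M24.mul_mem (M24.inv_mem ht) he.1) ht, fun x hx => ?_⟩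
    have hx8 : t x ∈ L8 := by
      rw [← mem_O8, ← hto, smul_mem_iff]
      exact hx
    rw [Equiv.Perm.mul_apply, Equiv.Perm.mul_apply, he.2 _ hx8, inv_app]
  · rw [Equiv.Perm.mul_apply, Equiv.Perm.mul_apply, htp, ha, inv_app]

theorem part_a (o : Finset GolayPt) (ho : o ∈ octads) (p : GolayPt) (hp : p ∉ o) :
    fixS o ⊓ (M24 ⊓ MulAction.stabilizer (Equiv.Perm GolayPt) o ⊓
      MulAction.stabilizer (Equiv.Perm GolayPt) p) = ⊥ := by
  rw [eq_bot_iff]
  intro g hg
  obtain ⟨hg1, hg3⟩ := Subgroup.mem_inf.mp hg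
  have hg2 := (Subgroup.mem_inf.mp hg3).2
  rw [mem_fixS] at hg1
  rw [MulAction.mem_stabilizer_iff] at hg2
  have hgp : g p = p := hg2
  obtain ⟨t, ht, hto, htp⟩ := exists_std_antiflag p o ho hp
  have hmem : t * g * t⁻¹ ∈ fixL M24 (L8 ++ [some 4]) := by
    refine ⟨M24.mul_mem (M24.mul_mem ht hg1.1) (M24.inv_mem ht), fun b hb => ?_⟩
    rw [List.mem_append, List.mem_singleton] at hb
    rw [Equiv.Perm.mul_apply, Equiv.Perm.mul_apply]
    rcases hb with hb | rfl
    · have hb' : t⁻¹ b ∈ o := by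
        rw [← smul_mem_iff t, hto, app_inv, mem_O8]
        exact hb
      rw [hg1.2 _ hb', app_inv]
    · rw [← htp, inv_app, hgp]
  rw [fixL_L8_snoc, Subgroup.mem_bot] at hmem
  rw [Subgroup.mem_bot]
  have : g = t⁻¹ * (t * g * t⁻¹) * t := by group
  rw [this, hmem]
  group

theorem decomp (o : Finset GolayPt) (ho : o ∈ octads) (p : GolayPt) (hp : p ∉ o)
    (g : Equiv.Perm GolayPt) (hg : g ∈ stabF o) :
    ∃ k ∈ fixS o, ∃ b ∈ (M24 ⊓ MulAction.stabilizer (Equiv.Perm GolayPt) o ⊓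
      MulAction.stabilizer (Equiv.Perm GolayPt) p), g = k * b := by
  have hg' := hg
  rw [mem_stabF, stab_iff] at hg'
  have hgp : g p ∉ o := fun h => hp ((hg'.2 p).mp h)
  obtain ⟨k, hk, hkp⟩ := fixS_trans o ho p (g p) hp hgp
  refine ⟨k, hk, k⁻¹ * g, ?_, by group⟩
  rw [Subgroup.mem_inf]
  refine ⟨(stabF o).mul_mem ((stabF o).inv_mem (fixS_le_stabF o hk)) hg, ?_⟩
  rw [MulAction.mem_stabilizer_iff]
  change (k⁻¹ * g) p = p
  rw [Equiv.Perm.mul_apply, ← hkp, inv_app]

theorem part_b (o : Finset GolayPt) (ho : o ∈ octads) (p : GolayPt) (hp : p ∉ o) :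
    fixS o ⊔ (M24 ⊓ MulAction.stabilizer (Equiv.Perm GolayPt) o ⊓
      MulAction.stabilizer (Equiv.Perm GolayPt) p)
      = M24 ⊓ MulAction.stabilizer (Equiv.Perm GolayPt) o := by
  apply le_antisymm
  · exact sup_le (fixS_le_stabF o) inf_le_left
  · intro g hg
    obtain ⟨k, hk, b, hb, rfl⟩ := decomp o ho p hp g hg
    exact Subgroup.mul_mem_sup hk hb

/-- restriction of the stabilizer of an octad and an outside point -/
def resB (o : Finset GolayPt) (p : GolayPt) :
    ↥(M24 ⊓ MulAction.stabilizer (Equiv.Perm GolayPt) o ⊓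
      MulAction.stabilizer (Equiv.Perm GolayPt) p) →* Equiv.Perm ↥o :=
  (resHom o).comp (Subgroup.inclusion (show _ ≤ stabF o from inf_le_left))

theorem resB_injective (o : Finset GolayPt) (ho : o ∈ octads) (p : GolayPt) (hp : p ∉ o) :
    Function.Injective (resB o p) := by
  rw [injective_iff_map_eq_one]
  intro g hg
  have h0 : Subgroup.inclusion (show _ ≤ stabF o from inf_le_left) g ∈ (resHom o).ker := hg
  have h1 := (mem_ker_res o _).mp h0
  have h2 : (g : Equiv.Perm GolayPt) ∈ fixS o ⊓ (M24 ⊓ MulAction.stabilizer (Equiv.Perm GolayPt) o ⊓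
      MulAction.stabilizer (Equiv.Perm GolayPt) p) := ⟨h1, g.2⟩
  rw [part_a o ho p hp, Subgroup.mem_bot] at h2
  exact Subtype.ext h2

theorem range_resB (o : Finset GolayPt) (ho : o ∈ octads) (p : GolayPt) (hp : p ∉ o) :
    (resB o p).range = alternatingGroup ↥o := by
  rw [← range_res o ho]
  apply le_antisymm
  · rintro e ⟨g, rfl⟩
    exact ⟨_, rfl⟩
  · rintro e ⟨g, rfl⟩
    obtain ⟨k, hk, b, hb, hkb⟩ := decomp o ho p hp g g.2
    have hb1 : b ∈ stabF o := (Subgroup.mem_inf.mp hb).1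
    refine ⟨⟨b, hb⟩, ?_⟩
    have hk' : (⟨k, fixS_le_stabF o hk⟩ : stabF o) ∈ (resHom o).ker := by
      rw [mem_ker_res]
      exact hk
    have hgeq : g = ⟨k, fixS_le_stabF o hk⟩ * ⟨b, hb1⟩ := Subtype.ext hkb
    rw [hgeq, map_mul, MonoidHom.mem_ker.mp hk', one_mul]
    rfl

theorem part_c (o : Finset GolayPt) (ho : o ∈ octads) (p : GolayPt) (hp : p ∉ o) :
    Nonempty (↥(M24 ⊓ MulAction.stabilizer (Equiv.Perm GolayPt) o ⊓
      MulAction.stabilizer (Equiv.Perm GolayPt) p) ≃* alternatingGroup (Fin 8)) := by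
  have e1 := MonoidHom.ofInjective (resB_injective o ho p hp)
  have e2 := MulEquiv.subgroupCongr (range_resB o ho p hp)
  have e3 := Equiv.altCongrHom (o.equivFinOfCardEq ho.2)
  exact ⟨(e1.trans e2).trans e3⟩

end Cfsg.Agent.Lib.Helper9.M24P1
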