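import Cfsg.Agent.Lib.Helper9.SimpA

set_option autoImplicit false

/-! Normalizers of subgroups of prime order; normal subgroups of 2-transitive permutation
groups; simplicity from a simple point stabilizer. -/

namespace Cfsg.Agent.Lib.Helper9.SimpB

open Subgroup

section normalizer

variable {G : Type*} [Group G] [Finite G]

theorem card_normalizer_dvd (H : Subgroup G) (p : ℕ) [hp : Fact p.Prime] (hH : Nat.card H = p) :
    Nat.card (normalizer (H : Set G)) ∣ Nat.card (centralizer (H : Set G)) * (p - 1) := by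
  have hcyc : IsCyclic H := by
    haveI : Fact (Nat.card H).Prime := ⟨by rw [hH]; exact hp.out⟩
    exact isCyclic_of_prime_card rfl
  have key := Subgroup.card_dvd_of_injective _
    (QuotientGroup.kerLift_injective H.normalizerMonoidHom)
  rw [Subgroup.normalizerMonoidHom_ker, ← Subgroup.index, ← Subgroup.relIndex] at key
  rw [IsCyclic.card_mulAut, hH, Nat.totient_prime hp.out] at key
  have hle : centralizer (H : Set G) ≤ normalizer (H : Set G) :=
    Subgroup.centralizer_le_normalizer _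
  have hcard : Nat.card (centralizer (H : Set G))
      * (centralizer (H : Set G)).relIndex (normalizer (H : Set G))
      = Nat.card (normalizer (H : Set G)) := by
    have := Subgroup.card_mul_index ((centralizer (H : Set G)).subgroupOf (normalizer (H : Set G)))
    rw [← this]
    congr 1
    exact Nat.card_congr (Subgroup.subgroupOfEquivOfLe hle).toEquiv.symm
  rw [← hcard]
  exact Nat.mul_dvd_mul_left _ key

end normalizer

theorem card_orbit_mul {G X : Type*} [Group G] [Finite G] [MulAction G X] (b : X) :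
    Nat.card (MulAction.orbit G b) * Nat.card (MulAction.stabilizer G b) = Nat.card G := by
  rw [Nat.card_congr (MulAction.orbitEquivQuotientStabilizer G b)]
  exact (Subgroup.card_eq_card_quotient_mul_card_subgroup _).symm

section perm

variable {Ω : Type*} [Fintype Ω] [DecidableEq Ω]

theorem inv_app (t : Equiv.Perm Ω) (x : Ω) : t⁻¹ (t x) = x := t.symm_apply_apply x

/-- `H` maps `X` into itself -/
def Pres (H : Subgroup (Equiv.Perm Ω)) (X : Finset Ω) : Prop := ∀ h ∈ H, ∀ x ∈ X, h x ∈ X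

/-- `H` is 2-transitive on `X` -/
def TwoTrans (H : Subgroup (Equiv.Perm Ω)) (X : Finset Ω) : Prop :=
  ∀ a ∈ X, ∀ b ∈ X, ∀ c ∈ X, ∀ d ∈ X, a ≠ b → c ≠ d → ∃ h ∈ H, h a = c ∧ h b = d

/-- `H` acts faithfully on `X` -/
def Faithful (H : Subgroup (Equiv.Perm Ω)) (X : Finset Ω) : Prop :=
  ∀ h ∈ H, (∀ x ∈ X, h x = x) → h = 1

/-- a nontrivial normal subgroup of a 2-transitive faithful group is transitive -/
theorem normal_trans (H : Subgroup (Equiv.Perm Ω)) (X : Finset Ω) (h2 : TwoTrans H X)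
    (hf : Faithful H X) (hpres : Pres H X) (N : Subgroup H) (hN : N.Normal) (hne : N ≠ ⊥)
    (a b : Ω) (ha : a ∈ X) (hb : b ∈ X) : ∃ n ∈ N, (n : Equiv.Perm Ω) a = b := by
  by_cases hab : a = b
  · exact ⟨1, N.one_mem, by rw [hab]; rfl⟩
  obtain ⟨n, hn, hn1⟩ : ∃ n ∈ N, n ≠ 1 := by
    by_contra hcon
    push Not at hcon
    apply hne
    rw [eq_bot_iff]
    intro x hx
    rw [Subgroup.mem_bot]
    exact hcon x hx
  obtain ⟨x, hx, hnx⟩ : ∃ x ∈ X, (n : Equiv.Perm Ω) x ≠ x := by
    by_contra hcon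
    push Not at hcon
    apply hn1
    apply Subtype.ext
    exact hf n.1 n.2 hcon
  have hy : (n : Equiv.Perm Ω) x ∈ X := hpres n.1 n.2 x hx
  obtain ⟨h, hh, h1, h2'⟩ := h2 x hx _ hy a ha b hb (Ne.symm hnx) hab
  refine ⟨⟨h, hh⟩ * n * ⟨h, hh⟩⁻¹, hN.conj_mem n hn _, ?_⟩
  show (h * (n : Equiv.Perm Ω) * h⁻¹) a = b
  rw [Equiv.Perm.mul_apply, Equiv.Perm.mul_apply, ← h1, inv_app, h2']

/-- the order of a transitive subgroup is divisible by the degree -/
theorem card_dvd_of_trans (H : Subgroup (Equiv.Perm Ω)) (X : Finset Ω) (hpres : Pres H X)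
    (N : Subgroup H) (a : Ω) (ha : a ∈ X)
    (htr : ∀ b ∈ X, ∃ n ∈ N, (n : Equiv.Perm Ω) a = b) : X.card ∣ Nat.card N := by
  have horb : MulAction.orbit N a = ↑X := by
    ext b
    constructor
    · rintro ⟨n, rfl⟩
      exact hpres n.1.1 n.1.2 a ha
    · intro hb
      obtain ⟨n, hn, h⟩ := htr b hb
      exact ⟨⟨n, hn⟩, h⟩
  have h := card_orbit_mul (G := N) a
  have hc : Nat.card (MulAction.orbit N a) = X.card := by
    rw [horb]
    simp
  rw [hc] at h
  exact Dvd.intro _ h

/-- a 2-transitive faithful group with simple point stabilizer and degree not a prime power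
is simple -/
theorem simple_of_stab (H : Subgroup (Equiv.Perm Ω)) (X : Finset Ω) (h2 : TwoTrans H X)
    (hf : Faithful H X) (hpres : Pres H X) (x0 : Ω) (hx0 : x0 ∈ X) (hX : 2 ≤ X.card)
    (hs : IsSimpleGroup ↥((MulAction.stabilizer (Equiv.Perm Ω) x0).subgroupOf H))
    (hpp : ∀ r k : ℕ, r.Prime → X.card ≠ r ^ k) : IsSimpleGroup H := by
  classical
  have hnt : Nontrivial H := by
    obtain ⟨a, ha, b, hb, hab⟩ := Finset.one_lt_card.mp hX
    obtain ⟨h, hh, h1, -⟩ := h2 a ha b hb b hb a ha hab (Ne.symm hab)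
    refine ⟨⟨⟨h, hh⟩, 1, ?_⟩⟩
    intro he
    have : h = 1 := congrArg Subtype.val he
    rw [this] at h1
    exact hab h1
  refine { exists_pair_ne := hnt.exists_pair_ne, eq_bot_or_eq_top_of_normal := ?_ }
  intro N hN
  by_cases hbot : N = ⊥
  · exact Or.inl hbot
  right
  have htr := normal_trans H X h2 hf hpres N hN hbot
  set H0 := (MulAction.stabilizer (Equiv.Perm Ω) x0).subgroupOf H with hH0
  have hmemH0 : ∀ g : H, g ∈ H0 ↔ (g : Equiv.Perm Ω) x0 = x0 := by
    intro g
    rw [hH0, Subgroup.mem_subgroupOf, MulAction.mem_stabilizer_iff]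
    rfl
  have hnorm : (N.subgroupOf H0).Normal := hN.subgroupOf H0
  rcases hs.eq_bot_or_eq_top_of_normal _ hnorm with h | h
  · -- regular case
    exfalso
    rw [Subgroup.subgroupOf_eq_bot] at h
    have hdisj : ∀ n ∈ N, (n : Equiv.Perm Ω) x0 = x0 → n = 1 := by
      intro n hn hfix
      have : n ∈ N ⊓ H0 := ⟨hn, (hmemH0 n).mpr hfix⟩
      rw [h.eq_bot, Subgroup.mem_bot] at this
      exact this
    -- all nonidentity elements of N have the same order
    have hord : ∀ n1 ∈ N, ∀ n2 ∈ N, n1 ≠ 1 → n2 ≠ 1 → orderOf n1 = orderOf n2 := by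
      intro n1 hn1 n2 hn2 h1 h2'
      have hm1 : (n1 : Equiv.Perm Ω) x0 ≠ x0 := fun hfix => h1 (hdisj n1 hn1 hfix)
      have hm2 : (n2 : Equiv.Perm Ω) x0 ≠ x0 := fun hfix => h2' (hdisj n2 hn2 hfix)
      obtain ⟨g, hg, hg1, hg2⟩ := h2 x0 hx0 _ (hpres n1.1 n1.2 x0 hx0) x0 hx0 _
        (hpres n2.1 n2.2 x0 hx0) (Ne.symm hm1) (Ne.symm hm2)
      have hconj : (⟨g, hg⟩ : H) * n1 * (⟨g, hg⟩ : H)⁻¹ = n2 := by
        have hmem : ((⟨g, hg⟩ : H) * n1 * (⟨g, hg⟩ : H)⁻¹)⁻¹ * n2 ∈ N :=
          N.mul_mem (N.inv_mem (hN.conj_mem n1 hn1 _)) hn2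
        have hfix : ((((⟨g, hg⟩ : H) * n1 * (⟨g, hg⟩ : H)⁻¹)⁻¹ * n2 : H) : Equiv.Perm Ω) x0 = x0 := by
          show ((g * (n1 : Equiv.Perm Ω) * g⁻¹)⁻¹ * (n2 : Equiv.Perm Ω)) x0 = x0
          have hginv : g⁻¹ x0 = x0 := by
            rw [Equiv.Perm.inv_eq_iff_eq]; exact hg1.symm
          rw [Equiv.Perm.mul_apply, Equiv.Perm.inv_eq_iff_eq, Equiv.Perm.mul_apply,
            Equiv.Perm.mul_apply, hginv, hg2]
        have := hdisj _ hmem hfix
        rw [inv_mul_eq_one] at this
        exact this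
      rw [← hconj]
      exact ((SemiconjBy.orderOf_eq (⟨g, hg⟩ : H)
        (show SemiconjBy (⟨g, hg⟩ : H) n1 ((⟨g, hg⟩ : H) * n1 * (⟨g, hg⟩ : H)⁻¹) by
          unfold SemiconjBy; group)))
    -- N has prime-power order
    have hNcard1 : 1 < Nat.card N := by
      rw [Finite.one_lt_card_iff_nontrivial]
      exact (Subgroup.nontrivial_iff_ne_bot N).mpr hbot
    obtain ⟨r, hr, hrd⟩ := Nat.exists_prime_and_dvd (Nat.ne_of_gt hNcard1)
    haveI : Fact r.Prime := ⟨hr⟩
    obtain ⟨n0, hn0⟩ := exists_prime_orderOf_dvd_card' r hrd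
    have hn0ne : n0 ≠ 1 := by
      intro h
      rw [h, orderOf_one] at hn0
      exact hr.one_lt.ne hn0
    have hpg : IsPGroup r N := by
      intro n
      by_cases hn1 : n = 1
      · exact ⟨0, by rw [hn1]; simp⟩
      · refine ⟨1, ?_⟩
        have h1 : orderOf (n : H) = orderOf (n0 : H) :=
          hord n n.2 n0 n0.2 (fun h => hn1 (Subtype.ext h)) (fun h => hn0ne (Subtype.ext h))
        rw [Subgroup.orderOf_coe, Subgroup.orderOf_coe, hn0] at h1
        rw [pow_one, ← h1]
        exact pow_orderOf_eq_one n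
    obtain ⟨k, hk⟩ := (IsPGroup.iff_card).mp hpg
    -- |N| = |X|
    have hcardNX : Nat.card N = X.card := by
      have horb : MulAction.orbit N x0 = ↑X := by
        ext b
        constructor
        · rintro ⟨n, rfl⟩
          exact hpres n.1.1 n.1.2 x0 hx0
        · intro hb
          obtain ⟨n, hn, h⟩ := htr x0 b hx0 hb
          exact ⟨⟨n, hn⟩, h⟩
      have hst : MulAction.stabilizer N x0 = ⊥ := by
        rw [eq_bot_iff]
        intro n hn
        rw [Subgroup.mem_bot]
        have hfix : ((n : H) : Equiv.Perm Ω) x0 = x0 := MulAction.mem_stabilizer_iff.mp hn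
        exact Subtype.ext (hdisj n.1 n.2 hfix)
      have h := card_orbit_mul (G := N) x0
      have hc : Nat.card (MulAction.orbit N x0) = X.card := by
        rw [horb]
        simp
      rw [hc, hst, Subgroup.card_bot, mul_one] at h
      exact h.symm
    exact hpp r k hr (by rw [← hcardNX, hk])
  · -- stabilizer inside N
    rw [Subgroup.subgroupOf_eq_top] at h
    rw [eq_top_iff]
    intro g _
    obtain ⟨n, hn, hn1⟩ := htr x0 ((g : Equiv.Perm Ω) x0) hx0 (hpres g.1 g.2 x0 hx0)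
    have : n⁻¹ * g ∈ H0 := by
      rw [hmemH0]
      show ((n : Equiv.Perm Ω)⁻¹ * (g : Equiv.Perm Ω)) x0 = x0
      rw [Equiv.Perm.mul_apply, ← hn1, inv_app]
    have h3 := N.mul_mem hn (h this)
    rwa [mul_inv_cancel_left] at h3

end perm

end Cfsg.Agent.Lib.Helper9.SimpB
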