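import Cfsg.Agent.Lib.Helper9.M24F5
import Cfsg.Agent.Lib.Helper9.M24T4
import Cfsg.Agent.Lib.Helper9.SimpB

set_option autoImplicit false

/-! The stabilizer of a finite set acting on it; transport along conjugation; the order of a
sextet stabilizer. -/

namespace Cfsg.Agent.Lib.Helper9.M24SK2

open Cfsg Finset
open scoped Pointwise

section generic

variable {G X : Type*} [Group G] [MulAction G X] [DecidableEq X]

theorem smul_mem_of_stab (S : Finset X) (g : G) (hg : g ∈ MulAction.stabilizer G S) (t : X)
    (ht : t ∈ S) : g • t ∈ S := by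
  have h := Finset.smul_mem_smul_finset (a := g) ht
  rwa [MulAction.mem_stabilizer_iff.mp hg] at h

/-- the stabilizer of a finite set acts on it -/
def permOn (S : Finset X) : ↥(MulAction.stabilizer G S) →* Equiv.Perm ↥S where
  toFun g :=
    { toFun := fun t => ⟨(g : G) • (t : X), smul_mem_of_stab S g g.2 t t.2⟩
      invFun := fun t => ⟨(g : G)⁻¹ • (t : X), smul_mem_of_stab S _ (inv_mem g.2) t t.2⟩
      left_inv := fun t => Subtype.ext (inv_smul_smul _ _)
      right_inv := fun t => Subtype.ext (smul_inv_smul _ _) }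
  map_one' := Equiv.ext fun t => Subtype.ext (one_smul G (t : X))
  map_mul' a b := Equiv.ext fun t => Subtype.ext (mul_smul (a : G) (b : G) (t : X))

theorem permOn_apply (S : Finset X) (g : ↥(MulAction.stabilizer G S)) (t : ↥S) :
    ((permOn S g t : ↥S) : X) = (g : G) • (t : X) := rfl

theorem mem_ker_permOn (S : Finset X) (g : ↥(MulAction.stabilizer G S)) :
    g ∈ (permOn S).ker ↔ ∀ t ∈ S, (g : G) • t = t := by
  rw [MonoidHom.mem_ker]
  constructor
  · intro h t ht
    have := congrArg (fun e : Equiv.Perm ↥S => ((e ⟨t, ht⟩ : ↥S) : X)) h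
    exact this
  · intro h
    ext t
    exact h t t.2

theorem card_fix_eq_ker (S : Finset X) :
    Nat.card {g : ↥(MulAction.stabilizer G S) // ∀ t ∈ S, (g : G) • t = t} =
      Nat.card ↥(permOn (G := G) S).ker :=
  Nat.card_congr (Equiv.subtypeEquivRight fun g => (mem_ker_permOn S g).symm)

/-- conjugation carries the elements fixing each member to the same for the image -/
theorem card_fix_smul (S : Finset X) (h : G) :
    Nat.card {g : ↥(MulAction.stabilizer G (h • S)) // ∀ t ∈ h • S, (g : G) • t = t} =
      Nat.card {g : ↥(MulAction.stabilizer G S) // ∀ t ∈ S, (g : G) • t = t} := by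
  symm
  refine Nat.card_congr (Equiv.subtypeEquiv
    (MulAction.stabilizerEquivStabilizer (rfl : h • S = h • S)).toEquiv fun g => ?_)
  have hv : ((MulAction.stabilizerEquivStabilizer (rfl : h • S = h • S) g :
      ↥(MulAction.stabilizer G (h • S))) : G) = h * (g : G) * h⁻¹ := by
    rw [MulAction.stabilizerEquivStabilizer_apply]
    rfl
  constructor
  · intro hg t' ht'
    obtain ⟨t, ht, rfl⟩ := Finset.mem_smul_finset.mp ht'
    change ((MulAction.stabilizerEquivStabilizer (rfl : h • S = h • S) g :
      ↥(MulAction.stabilizer G (h • S))) : G) • (h • t) = h • t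
    rw [hv, mul_smul, inv_smul_smul, mul_smul, hg t ht]
  · intro hg t ht
    have := hg (h • t) (Finset.smul_mem_smul_finset ht)
    change ((MulAction.stabilizerEquivStabilizer (rfl : h • S = h • S) g :
      ↥(MulAction.stabilizer G (h • S))) : G) • (h • t) = h • t at this
    rw [hv, mul_smul, inv_smul_smul, mul_smul] at this
    exact smul_left_cancel h this

end generic

/-- transport of a normal elementary abelian subgroup along an isomorphism -/
theorem transfer_normal {A B : Type*} [Group A] [Group B] (e : A ≃* B) (n : ℕ)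
    (h : ∃ N : Subgroup A, N.Normal ∧ Nat.card N = n ∧ ∀ x ∈ N, x * x = 1) :
    ∃ N : Subgroup B, N.Normal ∧ Nat.card N = n ∧ ∀ x ∈ N, x * x = 1 := by
  obtain ⟨N, hN, hc, hx⟩ := h
  refine ⟨N.map e.toMonoidHom, hN.map e.toMonoidHom e.surjective, ?_, ?_⟩
  · rw [← hc]
    exact Nat.card_congr (N.equivMapOfInjective e.toMonoidHom e.injective).symm.toEquiv
  · rintro _ ⟨y, hy, rfl⟩
    change e y * e y = 1
    rw [← map_mul, hx y hy, map_one]

/-- the order of a sextet stabilizer -/
theorem card_stab_sextet (S : Finset (Finset GolayPt)) (hS : S ∈ sextets) :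
    Nat.card ↥(MulAction.stabilizer M24 S) = 138240 := by
  have h := Cfsg.Agent.Lib.Helper9.SimpB.card_orbit_mul (G := M24) S
  rw [Cfsg.Agent.Lib.Helper9.M24F5.orbit_sextet S hS, Cfsg.Agent.Lib.Helper9.M24T4.card_M24,
    Nat.card_coe_set_eq, Cfsg.Agent.Lib.Helper9.GolaySextet1.card_sextets] at h
  omega

theorem card_perm_sextet (S : Finset (Finset GolayPt)) (hS : S ∈ sextets) :
    Nat.card (Equiv.Perm ↥S) = 720 := by
  rw [Nat.card_perm, Nat.card_eq_finsetCard, hS.1]
  rfl

/-- the sextet stabilizer induces all permutations iff 192 elements fix each tetrad -/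
theorem surj_iff_card (S : Finset (Finset GolayPt)) (hS : S ∈ sextets) :
    Function.Surjective (permOn (G := M24) S) ↔
      Nat.card {g : ↥(MulAction.stabilizer M24 S) // ∀ t ∈ S, (g : M24) • t = t} = 192 := by
  rw [card_fix_eq_ker]
  have hG := card_stab_sextet S hS
  have hP := card_perm_sextet S hS
  have hmul := Subgroup.card_mul_index (permOn (G := M24) S).ker
  rw [Subgroup.index_ker, hG] at hmul
  constructor
  · intro hs
    rw [MonoidHom.range_eq_top.mpr hs, Subgroup.card_top, hP] at hmul
    omega
  · intro hk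
    apply MonoidHom.surjective_of_card_ker_le_div
    rw [hk, hG, hP]

end Cfsg.Agent.Lib.Helper9.M24SK2
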