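import Cfsg.Agent.Lib.Helper9.Chain3

set_option autoImplicit false

namespace Cfsg.Agent.Lib.Helper9.Chain4

open MulAction Cfsg.Agent.Lib.Helper9.Chain3

variable {G : Type*} [Group G] [Finite G] {X : Type*} [MulAction G X]

/-- maximality of a point stabilizer from its orbits on the orbit of the point: the orbit is
split by a type function `τ` into classes of known sizes on each of which the stabilizer is
transitive, and no proper sub-sum of the sizes containing the trivial class divides the length of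
the orbit -/
theorem isCoatom_of_types {ι : Type} [Fintype ι] [DecidableEq ι] (x : X)
    (hne : ∃ g : G, g • x ≠ x) (τ : X → ι) (sz : ι → ℕ) (i0 : ι) (hx : τ x = i0)
    (h0 : ∀ y ∈ orbit G x, τ y = i0 → y = x)
    (hsz : ∀ i, {y | y ∈ orbit G x ∧ τ y = i}.ncard = sz i)
    (htrans : ∀ y ∈ orbit G x, ∀ z ∈ orbit G x, τ y = τ z →
      ∃ h ∈ stabilizer G x, h • y = z)
    (harith : ∀ S : Finset ι, i0 ∈ S → (∑ i ∈ S, sz i) ∣ (orbit G x).ncard →
      S = {i0} ∨ S = Finset.univ) :
    IsCoatom (stabilizer G x) := by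
  classical
  apply isCoatom_stabilizer x hne
  intro Ω hxΩ hsub hcl hdvd
  have hfin : (orbit G x).Finite := Set.finite_range _
  have hΩfin : Ω.Finite := hfin.subset hsub
  obtain ⟨S, hS⟩ : ∃ S : Finset ι, S = Finset.univ.filter (fun i => ∃ y ∈ Ω, τ y = i) := ⟨_, rfl⟩
  have hmemS : ∀ i, i ∈ S ↔ ∃ y ∈ Ω, τ y = i := by
    intro i; rw [hS, Finset.mem_filter]; simp
  have hΩeq : ∀ z, z ∈ Ω ↔ z ∈ orbit G x ∧ τ z ∈ S := by
    intro z
    constructor
    · intro hz
      exact ⟨hsub hz, (hmemS _).mpr ⟨z, hz, rfl⟩⟩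
    · rintro ⟨hz, hzS⟩
      obtain ⟨y, hy, hyz⟩ := (hmemS _).mp hzS
      exact hcl y hy z hz (htrans y (hsub hy) z hz hyz)
  have hcard : Ω.ncard = ∑ i ∈ S, sz i := by
    have h1 : Ω.ncard = hΩfin.toFinset.card := Set.ncard_eq_toFinset_card Ω hΩfin
    rw [h1, Finset.card_eq_sum_card_fiberwise (f := τ) (t := S)]
    · apply Finset.sum_congr rfl
      intro i hi
      rw [← hsz i, Set.ncard_eq_toFinset_card _ (hfin.subset (fun y hy => hy.1))]
      congr 1
      ext y
      simp only [Finset.mem_filter, Set.Finite.mem_toFinset, Set.mem_ofPred_eq]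
      rw [hΩeq]
      constructor
      · rintro ⟨⟨hy, -⟩, hyi⟩
        exact ⟨hy, hyi⟩
      · rintro ⟨hy, hyi⟩
        exact ⟨⟨hy, by rw [hyi]; exact hi⟩, hyi⟩
    · intro y hy
      have hy' : y ∈ Ω := by simpa using hy
      exact ((hΩeq y).mp hy').2
  rw [hcard] at hdvd
  have hi0 : i0 ∈ S := (hmemS i0).mpr ⟨x, hxΩ, hx⟩
  rcases harith S hi0 hdvd with hS1 | hS1
  · left
    ext z
    rw [hΩeq, hS1, Finset.mem_singleton, Set.mem_singleton_iff]
    constructor
    · rintro ⟨hz, hz0⟩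
      exact h0 z hz hz0
    · rintro rfl
      exact ⟨⟨1, one_smul _ _⟩, hx⟩
  · right
    ext z
    rw [hΩeq, hS1]
    simp

end Cfsg.Agent.Lib.Helper9.Chain4
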