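import Mathlib

set_option autoImplicit false

namespace Cfsg.Agent.Lib.Helper9.Comb1

open Finset

variable {α : Type*} [Fintype α] [DecidableEq α]

/-- the number of `n`-subsets meeting a given set `s` in exactly `k` points -/
theorem card_filter_inter (s : Finset α) (n k : ℕ) (hk : k ≤ n) :
    ((powersetCard n (univ : Finset α)).filter (fun t => (s ∩ t).card = k)).card
      = s.card.choose k * (sᶜ.card).choose (n - k) := by
  rw [← card_powersetCard, ← card_powersetCard, ← card_product]
  apply card_nbij' (fun t => (s ∩ t, sᶜ ∩ t)) (fun ab => ab.1 ∪ ab.2)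
  · intro t ht
    rw [mem_coe, mem_filter, mem_powersetCard] at ht
    obtain ⟨⟨-, htn⟩, htk⟩ := ht
    rw [mem_coe, mem_product, mem_powersetCard, mem_powersetCard]
    refine ⟨⟨inter_subset_left, htk⟩, inter_subset_left, ?_⟩
    change (sᶜ ∩ t).card = n - k
    have h1 : (s ∩ t).card + (sᶜ ∩ t).card = t.card := by
      rw [← card_union_of_disjoint, ← union_inter_distrib_right, union_compl, univ_inter]
      exact (disjoint_compl_right.mono inter_subset_left inter_subset_left)
    omega
  · rintro ⟨a, b⟩ hab
    rw [mem_coe, mem_product, mem_powersetCard, mem_powersetCard] at hab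
    obtain ⟨⟨has, hak⟩, hbs, hbk⟩ := hab
    have hdisj : Disjoint a b := disjoint_compl_right.mono has hbs
    rw [mem_coe, mem_filter, mem_powersetCard]
    refine ⟨⟨subset_univ _, ?_⟩, ?_⟩
    · rw [card_union_of_disjoint hdisj, hak, hbk]; omega
    · have : s ∩ (a ∪ b) = a := by
        rw [inter_union_distrib_left, inter_eq_right.mpr has]
        have : s ∩ b = ∅ := by
          rw [← disjoint_iff_inter_eq_empty]
          exact disjoint_compl_right.mono_right hbs
        rw [this, union_empty]
      rw [this, hak]
  · intro t _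
    change s ∩ t ∪ sᶜ ∩ t = t
    rw [← union_inter_distrib_right, union_compl, univ_inter]
  · rintro ⟨a, b⟩ hab
    rw [mem_coe, mem_product, mem_powersetCard, mem_powersetCard] at hab
    obtain ⟨⟨has, -⟩, hbs, -⟩ := hab
    have h1 : s ∩ b = ∅ := by
      rw [← disjoint_iff_inter_eq_empty]
      exact disjoint_compl_right.mono_right hbs
    have h2 : sᶜ ∩ a = ∅ := by
      rw [← disjoint_iff_inter_eq_empty]
      exact disjoint_compl_left.mono_right has
    change (s ∩ (a ∪ b), sᶜ ∩ (a ∪ b)) = (a, b)
    rw [inter_union_distrib_left, inter_union_distrib_left, h1, h2, union_empty, empty_union,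
      inter_eq_right.mpr has, inter_eq_right.mpr hbs]

/-- set version -/
theorem ncard_inter (s : Finset α) (n k : ℕ) (hk : k ≤ n) :
    {t : Finset α | t.card = n ∧ (s ∩ t).card = k}.ncard
      = s.card.choose k * (sᶜ.card).choose (n - k) := by
  rw [← card_filter_inter s n k hk, ← Set.ncard_coe_finset]
  congr 1
  ext t
  simp [mem_powersetCard]

end Cfsg.Agent.Lib.Helper9.Comb1
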