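import Cfsg.Agent.Lib.Helper9.M24T7
import Cfsg.Agent.Lib.Helper9.Chain4
import Cfsg.Agent.Lib.Helper9.Comb1

set_option autoImplicit false

namespace Cfsg.Agent.Lib.Helper9.M24Y1

open Cfsg Finset Cfsg.Agent.Lib.Helper9.M24T5 Cfsg.Agent.Lib.Helper9.M24T7
open scoped Pointwise

/-- `M24` maps any list of at most five distinct points to any other of the same length -/
theorem exists_map_list (l l' : List GolayPt) (hl : l.Nodup) (hl' : l'.Nodup)
    (hlen : l.length = l'.length) (h5 : l.length ≤ 5) : ∃ g ∈ M24, l.map g = l' := by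
  have key : ∀ l : List GolayPt, l.Nodup → l.length ≤ 5 →
      ∃ h ∈ M24, ∀ i (hi : i < l.length), h (bpt i) = l[i] := by
    intro l hl h5
    obtain ⟨h, hh, hy⟩ := exists_mapn l.length h5 (fun i => l.getD i none) (by
      intro i hi j hj hij
      simp only [List.getD_eq_getElem?_getD, List.getElem?_eq_getElem hi,
        List.getElem?_eq_getElem hj, Option.getD_some] at hij
      exact (List.Nodup.getElem_inj_iff hl).mp hij)
    refine ⟨h, hh, fun i hi => ?_⟩
    rw [hy i hi]
    simp [List.getD_eq_getElem?_getD, List.getElem?_eq_getElem hi]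
  obtain ⟨h, hh, e⟩ := key l hl h5
  obtain ⟨h', hh', e'⟩ := key l' hl' (by omega)
  refine ⟨h' * h⁻¹, M24.mul_mem hh' (M24.inv_mem hh), ?_⟩
  apply List.ext_getElem
  · rw [List.length_map, hlen]
  · intro i hi hi'
    rw [List.length_map] at hi
    rw [List.getElem_map, ← e i hi, Equiv.Perm.mul_apply, Chain1.inv_apply_self', e' i hi']

theorem smul_pair (g : Equiv.Perm GolayPt) (a b : GolayPt) :
    g • ({a, b} : Finset GolayPt) = {g a, g b} := by
  ext x
  simp only [mem_smul_finset, mem_insert, mem_singleton, Equiv.Perm.smul_def]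
  constructor
  · rintro ⟨y, rfl | rfl, rfl⟩ <;> simp
  · rintro (rfl | rfl)
    · exact ⟨a, Or.inl rfl, rfl⟩
    · exact ⟨b, Or.inr rfl, rfl⟩

theorem smul_triple (g : Equiv.Perm GolayPt) (a b c : GolayPt) :
    g • ({a, b, c} : Finset GolayPt) = {g a, g b, g c} := by
  ext x
  simp only [mem_smul_finset, mem_insert, mem_singleton, Equiv.Perm.smul_def]
  constructor
  · rintro ⟨y, rfl | rfl | rfl, rfl⟩ <;> simp
  · rintro (rfl | rfl | rfl)
    · exact ⟨a, Or.inl rfl, rfl⟩
    · exact ⟨b, Or.inr (Or.inl rfl), rfl⟩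
    · exact ⟨c, Or.inr (Or.inr rfl), rfl⟩

theorem card_smul_finset (g : Equiv.Perm GolayPt) (s : Finset GolayPt) : (g • s).card = s.card :=
  Finset.card_smul_finset g s

/-- the orbit of a set of `n ≤ 5` points is the set of all `n`-subsets -/
theorem orbit_subset (s : Finset GolayPt) (h5 : s.card ≤ 5) :
    MulAction.orbit M24 s = {t : Finset GolayPt | t.card = s.card} := by
  ext t
  constructor
  · rintro ⟨g, rfl⟩
    exact Finset.card_smul_finset g s
  · intro ht
    rw [Set.mem_ofPred_eq] at ht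
    obtain ⟨l, hl, rfl⟩ : ∃ l : List GolayPt, l.Nodup ∧ l.toFinset = s :=
      ⟨s.toList, s.nodup_toList, s.toList_toFinset⟩
    obtain ⟨l', hl', rfl⟩ : ∃ l : List GolayPt, l.Nodup ∧ l.toFinset = t :=
      ⟨t.toList, t.nodup_toList, t.toList_toFinset⟩
    rw [List.toFinset_card_of_nodup hl] at h5
    rw [List.toFinset_card_of_nodup hl, List.toFinset_card_of_nodup hl'] at ht
    obtain ⟨g, hg, hgl⟩ := exists_map_list l l' hl hl' ht.symm h5
    refine ⟨⟨g, hg⟩, ?_⟩
    change g • l.toFinset = l'.toFinset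
    rw [← hgl]
    ext x
    simp only [mem_smul_finset, List.mem_toFinset, List.mem_map, Equiv.Perm.smul_def]

end Cfsg.Agent.Lib.Helper9.M24Y1
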