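import Cfsg.Agent.Lib.Helper9.M24X1

set_option autoImplicit false

namespace Cfsg.Agent.Lib.Helper9.M24X3

open Cfsg Finset Cfsg.Agent.Lib.Helper9.Golay1 Cfsg.Agent.Lib.Helper9.GolayQR1
  Cfsg.Agent.Lib.Helper9.M24T1 Cfsg.Agent.Lib.Helper9.M24T3 Cfsg.Agent.Lib.Helper9.M24T8
  Cfsg.Agent.Lib.Helper9.M24T9
  Cfsg.Agent.Lib.Helper9.M24U1 Cfsg.Agent.Lib.Helper9.M24U2 Cfsg.Agent.Lib.Helper9.M24U3
  Cfsg.Agent.Lib.Helper9.M24U4 Cfsg.Agent.Lib.Helper9.M24U6 Cfsg.Agent.Lib.Helper9.M24X1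
open scoped Pointwise

/-- generator `C1` -/
def C1 : Equiv.Perm GolayPt :=
  tperm [23, 3, 1, 17, 4, 14, 19, 21, 11, 16, 13, 6, 7, 10, 0, 15, 9, 2, 12, 8, 20, 18, 22, 5]
    [14, 2, 17, 1, 4, 23, 11, 12, 19, 16, 13, 8, 18, 10, 5, 15, 9, 3, 21, 6, 20, 7, 22, 0] (by decide +kernel) (by decide +kernel)

theorem C1_mem : C1 ∈ M24 := tperm_mem _ _ _ _ (by decide +kernel) (by decide +kernel)

theorem C1_smul (m : ℕ) : C1 • M m = M (pull [14, 2, 17, 1, 4, 23, 11, 12, 19, 16, 13, 8, 18, 10, 5, 15, 9, 3, 21, 6, 20, 7, 22, 0] m) :=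
  tperm_smul_M _ _ _ _ (by decide +kernel) m

theorem C1_stab : C1 ∈ stabC [4] [oMask] := by
  exact tperm_mem_stabC _ _ _ _ (by decide +kernel) (by decide +kernel) (by decide +kernel)
    [4] [oMask] (by decide +kernel) (by decide +kernel)

/-- generator `C2` -/
def C2 : Equiv.Perm GolayPt :=
  tperm [17, 1, 5, 23, 4, 3, 21, 16, 9, 15, 18, 10, 11, 22, 14, 20, 7, 0, 12, 19, 8, 13, 6, 2]
    [17, 1, 23, 5, 4, 2, 22, 16, 20, 8, 11, 12, 18, 21, 14, 9, 7, 0, 10, 19, 15, 6, 13, 3] (by decide +kernel) (by decide +kernel)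

theorem C2_mem : C2 ∈ M24 := tperm_mem _ _ _ _ (by decide +kernel) (by decide +kernel)

theorem C2_smul (m : ℕ) : C2 • M m = M (pull [17, 1, 23, 5, 4, 2, 22, 16, 20, 8, 11, 12, 18, 21, 14, 9, 7, 0, 10, 19, 15, 6, 13, 3] m) :=
  tperm_smul_M _ _ _ _ (by decide +kernel) m

theorem C2_stab : C2 ∈ stabC [4] [oMask] := by
  exact tperm_mem_stabC _ _ _ _ (by decide +kernel) (by decide +kernel) (by decide +kernel)
    [4] [oMask] (by decide +kernel) (by decide +kernel)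

/-- the inverse tables of the generators -/
def tabsC : List (List ℕ) :=
  [[14, 2, 17, 1, 4, 23, 11, 12, 19, 16, 13, 8, 18, 10, 5, 15, 9, 3, 21, 6, 20, 7, 22, 0],
    [17, 1, 23, 5, 4, 2, 22, 16, 20, 8, 11, 12, 18, 21, 14, 9, 7, 0, 10, 19, 15, 6, 13, 3]]

theorem htabsC : ∀ t ∈ tabsC, ∃ h ∈ stabC [4] [oMask], ∀ m, h • M m = M (pull t m) := by
  intro t ht
  simp only [tabsC, List.mem_cons, List.not_mem_nil, or_false] at ht
  rcases ht with rfl | rfl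
  · exact ⟨C1, C1_stab, C1_smul⟩
  · exact ⟨C2, C2_stab, C2_smul⟩

set_option maxRecDepth 100000 in
/-- orbit certificate: the octads avoiding the point 4 and meeting the standard octad in 0 points -/
def certC0 : List (ℕ × ℕ) :=
  [(0, 0), (1, 0), (1, 0), (0, 0), (0, 0), (0, 0), (1, 1), (0, 0), (0, 0), (0, 0), (1, 0), (1, 2), (0,
    0), (1, 6)]

/-- the octads avoiding the point 4 and meeting the standard octad in 0 points -/
def clsC0 : List ℕ := octadLit.filter fun m => !m.testBit 4 && decide (wt24 (m &&& oMask) = 0)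

set_option maxRecDepth 100000 in
theorem clsC0_check :
    growK tabsC certC0 [2702848] (fun L => subCheck clsC0 L) = true := by
  decide +kernel

theorem transC0 : ∀ m ∈ clsC0, ∀ m' ∈ clsC0, ∃ g ∈ stabC [4] [oMask], g • M m = M m' :=
  trans_of_cert' (stabC [4] [oMask]) tabsC htabsC 2702848 certC0 clsC0
    (fun m hm => octadLit_reprod m (List.mem_filter.mp hm).1) clsC0_check

set_option maxRecDepth 100000 in
/-- orbit certificate: the octads avoiding the point 4 and meeting the standard octad in 2 points -/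
def certC2 : List (ℕ × ℕ) :=
  [(0, 0), (0, 0), (0, 0), (1, 0), (0, 0), (0, 0), (0, 0), (1, 0), (0, 0), (0, 0), (0, 0), (1, 0), (0,
    0), (0, 0), (0, 0), (1, 0), (0, 0), (0, 0), (0, 0), (1, 1), (0, 0), (0, 0), (0, 0), (1, 0), (0, 0),
    (0, 0), (0, 0), (1, 0), (0, 0), (0, 0), (0, 0), (1, 0), (0, 0), (1, 0), (0, 0), (0, 0), (0, 0), (1,
    1), (0, 0), (0, 0), (0, 0), (1, 1), (0, 0), (0, 0), (0, 0), (1, 0), (0, 0), (0, 0), (0, 0), (1, 0),
    (0, 0), (1, 0), (0, 0), (0, 0), (0, 0), (1, 0), (0, 0), (0, 0), (0, 0), (1, 1), (0, 0), (0, 0), (0,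
    0), (1, 0), (0, 0), (0, 0), (0, 0), (1, 0), (0, 0), (1, 0), (0, 0), (0, 0), (0, 0), (1, 0), (0, 0),
    (0, 0), (0, 0), (1, 1), (0, 0), (0, 0), (0, 0), (1, 0), (0, 0), (0, 0), (0, 0), (1, 0), (0, 0), (0,
    0), (0, 0), (1, 0), (0, 0), (0, 0), (0, 0), (1, 1), (0, 0), (0, 0), (0, 0), (1, 0), (0, 0), (0, 0),
    (0, 0), (1, 0), (0, 0), (0, 0), (0, 0), (1, 1), (0, 0), (0, 0), (0, 0), (1, 0), (0, 0), (0, 0), (0,
    0), (1, 1), (0, 0), (0, 0), (0, 0), (1, 0), (0, 0), (0, 0), (0, 0), (1, 1), (0, 0), (0, 0), (0, 0),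
    (1, 0), (0, 0), (0, 0), (0, 0), (1, 0), (0, 0), (0, 0), (0, 0), (1, 1), (0, 0), (0, 0), (0, 0), (1,
    1), (0, 0), (0, 0), (0, 0), (1, 2), (0, 0), (0, 0), (0, 0), (1, 0), (0, 0), (0, 0), (0, 0), (1, 1),
    (0, 0), (0, 0), (0, 0), (1, 1), (0, 0), (0, 0), (0, 0), (1, 0), (0, 0), (0, 0), (0, 0), (1, 2), (0,
    0), (0, 0), (0, 0), (1, 1), (0, 0), (0, 0), (0, 0), (1, 1), (0, 0), (0, 0), (0, 0), (1, 2), (0, 0),
    (0, 0), (0, 0), (1, 2), (0, 0), (0, 0), (0, 0), (1, 0), (0, 0), (1, 0), (0, 0), (0, 0), (0, 0), (1,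
    0), (0, 0), (0, 0), (0, 0), (1, 0), (0, 0), (0, 0), (0, 0), (1, 2), (0, 0), (0, 0), (0, 0), (1, 0),
    (0, 0), (0, 0), (0, 0), (1, 2), (0, 0), (0, 0), (0, 0), (1, 0), (0, 0), (0, 0), (0, 0), (1, 0), (0,
    0), (1, 4), (0, 0), (0, 0), (0, 0), (1, 1), (0, 0), (0, 0), (0, 0), (1, 2), (0, 0), (0, 0), (0, 0),
    (1, 3), (0, 0), (0, 0), (0, 0), (1, 0), (0, 0), (0, 0), (0, 0), (1, 0), (0, 0), (0, 0), (0, 0), (1,
    0), (0, 0), (0, 0), (0, 0), (1, 23), (0, 0), (0, 0), (0, 0), (1, 31), (0, 0), (0, 0), (0, 0), (1,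
    0), (0, 0), (0, 0), (0, 0), (1, 1), (0, 0), (0, 0), (0, 0), (1, 49), (0, 0), (0, 0), (0, 0), (1, 2),
    (0, 0), (0, 0), (0, 0), (1, 7), (0, 0), (1, 79), (0, 0), (0, 0), (0, 0), (1, 148), (0, 0), (1, 183),
    (0, 0), (0, 0), (0, 0), (1, 0), (0, 0)]

/-- the octads avoiding the point 4 and meeting the standard octad in 2 points -/
def clsC2 : List ℕ := octadLit.filter fun m => !m.testBit 4 && decide (wt24 (m &&& oMask) = 2)

set_option maxRecDepth 100000 in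
theorem clsC2_check :
    growK tabsC certC2 [6554826] (fun L => subCheck clsC2 L) = true := by
  decide +kernel

theorem transC2 : ∀ m ∈ clsC2, ∀ m' ∈ clsC2, ∃ g ∈ stabC [4] [oMask], g • M m = M m' :=
  trans_of_cert' (stabC [4] [oMask]) tabsC htabsC 6554826 certC2 clsC2
    (fun m hm => octadLit_reprod m (List.mem_filter.mp hm).1) clsC2_check

set_option maxRecDepth 100000 in
/-- orbit certificate: the octads avoiding the point 4 and meeting the standard octad in 4 points -/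
def certC4 : List (ℕ × ℕ) :=
  [(0, 0), (0, 0), (0, 0), (1, 0), (0, 0), (0, 0), (0, 0), (1, 0), (0, 0), (0, 0), (0, 0), (1, 0), (0,
    0), (0, 0), (0, 0), (1, 0), (0, 0), (0, 0), (0, 0), (1, 1), (0, 0), (1, 0), (0, 0), (0, 0), (0, 0),
    (1, 0), (0, 0), (0, 0), (0, 0), (1, 0), (0, 0), (0, 0), (0, 0), (1, 0), (0, 0), (0, 0), (0, 0), (1,
    1), (0, 0), (0, 0), (0, 0), (1, 0), (0, 0), (0, 0), (0, 0), (1, 0), (0, 0), (0, 0), (0, 0), (1, 0),
    (0, 0), (0, 0), (0, 0), (1, 0), (0, 0), (0, 0), (0, 0), (1, 1), (0, 0), (0, 0), (0, 0), (1, 0), (0,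
    0), (0, 0), (0, 0), (1, 0), (0, 0), (0, 0), (0, 0), (1, 0), (0, 0), (0, 0), (0, 0), (1, 1), (0, 0),
    (1, 0), (0, 0), (0, 0), (0, 0), (1, 0), (0, 0), (0, 0), (0, 0), (1, 0), (0, 0), (0, 0), (0, 0), (1,
    0), (0, 0), (0, 0), (0, 0), (1, 2), (0, 0), (0, 0), (0, 0), (1, 0), (0, 0), (0, 0), (0, 0), (1, 0),
    (0, 0), (0, 0), (0, 0), (1, 0), (0, 0), (0, 0), (0, 0), (1, 1), (0, 0), (1, 0), (0, 0), (0, 0), (0,
    0), (1, 0), (0, 0), (0, 0), (0, 0), (1, 0), (0, 0), (0, 0), (0, 0), (1, 1), (0, 0), (0, 0), (0, 0),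
    (1, 0), (0, 0), (0, 0), (0, 0), (1, 1), (0, 0), (1, 0), (0, 0), (0, 0), (0, 0), (1, 1), (0, 0), (0,
    0), (0, 0), (1, 0), (0, 0), (0, 0), (0, 0), (1, 0), (0, 0), (0, 0), (0, 0), (1, 0), (0, 0), (1, 3),
    (0, 0), (0, 0), (0, 0), (1, 3), (0, 0), (0, 0), (0, 0), (1, 1), (0, 0), (0, 0), (0, 0), (1, 6), (0,
    0), (0, 0), (0, 0), (1, 1), (0, 0), (0, 0), (0, 0), (1, 0), (0, 0), (1, 1), (0, 0), (0, 0), (0, 0),
    (1, 7), (0, 0), (1, 11), (0, 0), (0, 0), (0, 0), (1, 0), (0, 0), (0, 0), (0, 0), (1, 2), (0, 0), (0,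
    0), (0, 0), (1, 0), (0, 0), (1, 49), (0, 0), (0, 0), (0, 0), (1, 58), (0, 0), (0, 0), (0, 0), (1,
    3), (0, 0), (0, 0), (0, 0), (1, 127), (0, 0), (0, 0), (0, 0), (1, 190), (1, 203)]

/-- the octads avoiding the point 4 and meeting the standard octad in 4 points -/
def clsC4 : List ℕ := octadLit.filter fun m => !m.testBit 4 && decide (wt24 (m &&& oMask) = 4)

set_option maxRecDepth 100000 in
theorem clsC4_check :
    growK tabsC certC4 [3277413] (fun L => subCheck clsC4 L) = true := by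
  decide +kernel

theorem transC4 : ∀ m ∈ clsC4, ∀ m' ∈ clsC4, ∃ g ∈ stabC [4] [oMask], g • M m = M m' :=
  trans_of_cert' (stabC [4] [oMask]) tabsC htabsC 3277413 certC4 clsC4
    (fun m hm => octadLit_reprod m (List.mem_filter.mp hm).1) clsC4_check

end Cfsg.Agent.Lib.Helper9.M24X3
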