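import Cfsg.Agent.Lib.Helper9.M24X2
import Cfsg.Agent.Lib.Helper9.M24X3

set_option autoImplicit false

namespace Cfsg.Agent.Lib.Helper9.M24X4

open Cfsg Finset Cfsg.Agent.Lib.Helper9.Golay1 Cfsg.Agent.Lib.Helper9.GolayQR1
  Cfsg.Agent.Lib.Helper9.GolayQR5
  Cfsg.Agent.Lib.Helper9.M24T1 Cfsg.Agent.Lib.Helper9.M24T3 Cfsg.Agent.Lib.Helper9.M24T6
  Cfsg.Agent.Lib.Helper9.M24T8 Cfsg.Agent.Lib.Helper9.M24T9
  Cfsg.Agent.Lib.Helper9.M24U1 Cfsg.Agent.Lib.Helper9.M24U2 Cfsg.Agent.Lib.Helper9.M24U3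
  Cfsg.Agent.Lib.Helper9.M24U4 Cfsg.Agent.Lib.Helper9.M24U5 Cfsg.Agent.Lib.Helper9.M24U6
  Cfsg.Agent.Lib.Helper9.M24V2 Cfsg.Agent.Lib.Helper9.M24X1 Cfsg.Agent.Lib.Helper9.M24X2
  Cfsg.Agent.Lib.Helper9.M24X3
open scoped Pointwise

theorem inter_smul_card (t : Equiv.Perm GolayPt) (a s : Finset GolayPt) :
    (a ∩ t⁻¹ • s).card = (t • a ∩ s).card := by
  have := M24V2.card_smul_inter t a (t⁻¹ • s)
  rw [smul_inv_smul] at this
  exact this.symm

theorem mem_inv_smul (t : Equiv.Perm GolayPt) (x : GolayPt) (s : Finset GolayPt) :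
    x ∈ t⁻¹ • s ↔ t x ∈ s := by
  rw [Finset.mem_inv_smul_finset_iff, Equiv.Perm.smul_def]

/-- octads meeting an octad in 8 points -/
theorem eq_of_inter_eight (o o' : Finset GolayPt) (ho : o ∈ octads) (ho' : o' ∈ octads)
    (h : (o ∩ o').card = 8) : o' = o := by
  have h8 : o.card = 8 := ho.2
  have h8' : o'.card = 8 := ho'.2
  have h1 : o ∩ o' = o := eq_of_subset_of_card_le inter_subset_left (by omega)
  have h2 : o ∩ o' = o' := eq_of_subset_of_card_le inter_subset_right (by omega)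
  rw [← h2, h1]

theorem octad_inter_cases (o o' : Finset GolayPt) (ho : o ∈ octads) (ho' : o' ∈ octads) :
    (o ∩ o').card = 0 ∨ (o ∩ o').card = 2 ∨ (o ∩ o').card = 4 ∨ (o ∩ o').card = 8 := by
  by_cases h : o = o'
  · rw [h, inter_self]
    right; right; right
    exact ho'.2
  · rcases Cfsg.Agent.Lib.Helper9.Steiner5.block_inter card_golayPt octads_isSteiner ho ho' h
      with h | h | h
    · exact Or.inl h
    · exact Or.inr (Or.inl h)
    · exact Or.inr (Or.inr (Or.inl h))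

/-! ### flags: a point in an octad -/

theorem lenB2 : clsB2.length = 112 := by decide +kernel
theorem lenB4 : clsB4.length = 140 := by decide +kernel

theorem count_flag_std (k : ℕ) :
    {o' : Finset GolayPt | o' ∈ octads ∧ (none : GolayPt) ∈ o' ∧ (O8 ∩ o').card = k}.ncard
      = (octadLit.filter fun m => m.testBit 23 && decide (wt24 (m &&& oMask) = k)).length := by
  apply ncard_class octadLit octadLit_nodup octadLit_lt octads mem_octads_iff'
    (fun o' => (none : GolayPt) ∈ o' ∧ (O8 ∩ o').card = k)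
  intro m _
  rw [O8_eq, card_inter_M, mem_M]
  change (m.testBit 23 = true ∧ _) ↔ _
  simp

theorem trans_flag_std (p p' : Finset GolayPt) (hp : p ∈ octads) (hp' : p' ∈ octads)
    (hn : (none : GolayPt) ∈ p) (hn' : (none : GolayPt) ∈ p')
    (h : (O8 ∩ p).card = (O8 ∩ p').card) : ∃ g ∈ stabC [23] [oMask], g • p = p' := by
  have hnO : (none : GolayPt) ∈ O8 := by rw [mem_O8]; decide
  rcases octad_inter_cases O8 p O8_mem hp with hk | hk | hk | hk
  · exfalso
    have : (none : GolayPt) ∈ O8 ∩ p := mem_inter.mpr ⟨hnO, hn⟩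
    rw [card_eq_zero.mp hk] at this
    exact notMem_empty _ this
  · obtain ⟨m, hm, rfl⟩ := (mem_octads_iff' p).mp hp
    obtain ⟨m', hm', rfl⟩ := (mem_octads_iff' p').mp hp'
    rw [mem_M] at hn hn'
    rw [O8_eq, card_inter_M, card_inter_M] at h
    rw [O8_eq, card_inter_M] at hk
    have hn1 : m.testBit 23 = true := hn
    have hn1' : m'.testBit 23 = true := hn'
    exact transB2 m (List.mem_filter.mpr ⟨hm, by simp [hn1, hk]⟩) m'
      (List.mem_filter.mpr ⟨hm', by simp [hn1', ← h, hk]⟩)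
  · obtain ⟨m, hm, rfl⟩ := (mem_octads_iff' p).mp hp
    obtain ⟨m', hm', rfl⟩ := (mem_octads_iff' p').mp hp'
    rw [mem_M] at hn hn'
    rw [O8_eq, card_inter_M, card_inter_M] at h
    rw [O8_eq, card_inter_M] at hk
    have hn1 : m.testBit 23 = true := hn
    have hn1' : m'.testBit 23 = true := hn'
    exact transB4 m (List.mem_filter.mpr ⟨hm, by simp [hn1, hk]⟩) m'
      (List.mem_filter.mpr ⟨hm', by simp [hn1', ← h, hk]⟩)
  · refine ⟨1, Subgroup.one_mem _, ?_⟩
    rw [one_smul, eq_of_inter_eight O8 p O8_mem hp hk,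
      eq_of_inter_eight O8 p' O8_mem hp' (by rw [← h, hk])]

theorem flag_result (x : GolayPt) (o : Finset GolayPt) (ho : o ∈ octads) (hx : x ∈ o) :
    {o' : Finset GolayPt | o' ∈ octads ∧ x ∈ o' ∧ (o ∩ o').card = 2}.ncard = 112 ∧
    {o' : Finset GolayPt | o' ∈ octads ∧ x ∈ o' ∧ (o ∩ o').card = 4}.ncard = 140 ∧
    ∀ o' o'' : Finset GolayPt, o' ∈ octads → o'' ∈ octads → x ∈ o' → x ∈ o'' →
      (o ∩ o').card = (o ∩ o'').card →
      ∃ g : Equiv.Perm GolayPt, g ∈ M24 ∧ g x = x ∧ g • o = o ∧ g • o' = o'' := by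
  obtain ⟨t, ht, hto, htx⟩ := exists_std_flag x o ho hx
  have htinv : t⁻¹ ∈ M24 := M24.inv_mem ht
  have hcount : ∀ k, {o' : Finset GolayPt | o' ∈ octads ∧ x ∈ o' ∧ (o ∩ o').card = k}.ncard
      = {o' : Finset GolayPt | o' ∈ octads ∧ (none : GolayPt) ∈ o' ∧ (O8 ∩ o').card = k}.ncard := by
    intro k
    apply ncard_smul t⁻¹ octads (fun s hs => smul_octad_mem _ htinv s hs)
      (fun s hs => by rw [inv_inv]; exact smul_octad_mem _ ht s hs)
      (fun s => x ∈ s ∧ (o ∩ s).card = k)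
    intro s
    rw [mem_inv_smul, htx, inter_smul_card, hto]
  refine ⟨by rw [hcount, count_flag_std]; exact lenB2, by rw [hcount, count_flag_std]; exact lenB4,
    ?_⟩
  intro o' o'' ho' ho'' hx' hx'' h
  have e : (O8 ∩ t • o').card = (O8 ∩ t • o'').card := by
    rw [← hto, M24V2.card_smul_inter, M24V2.card_smul_inter, h]
  obtain ⟨g, hg, hgp⟩ := trans_flag_std (t • o') (t • o'') (smul_octad_mem t ht o' ho')
    (smul_octad_mem t ht o'' ho'') (by rw [← htx, smul_mem_iff]; exact hx')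
    (by rw [← htx, smul_mem_iff]; exact hx'') e
  obtain ⟨hgM, hgx, hgo⟩ := (mem_stabC _ _ g).mp hg
  have hgx' : g none = none := hgx 23 (by simp)
  have hgo' : g • O8 = O8 := hgo oMask (by simp)
  refine ⟨t⁻¹ * g * t, M24.mul_mem (M24.mul_mem htinv hgM) ht, ?_, ?_, ?_⟩
  · rw [Equiv.Perm.mul_apply, Equiv.Perm.mul_apply, htx, hgx', ← htx, Chain1.inv_apply_self']
  · rw [mul_smul, mul_smul, hto, hgo', ← hto, inv_smul_smul]
  · rw [mul_smul, mul_smul, hgp, inv_smul_smul]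

/-! ### antiflags: a point outside an octad -/

theorem lenC0 : clsC0.length = 15 := by decide +kernel
theorem lenC2 : clsC2.length = 280 := by decide +kernel
theorem lenC4 : clsC4.length = 210 := by decide +kernel

theorem count_antiflag_std (k : ℕ) :
    {o' : Finset GolayPt | o' ∈ octads ∧ (some 4 : GolayPt) ∉ o' ∧ (O8 ∩ o').card = k}.ncard
      = (octadLit.filter fun m => !m.testBit 4 && decide (wt24 (m &&& oMask) = k)).length := by
  apply ncard_class octadLit octadLit_nodup octadLit_lt octads mem_octads_iff'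
    (fun o' => (some 4 : GolayPt) ∉ o' ∧ (O8 ∩ o').card = k)
  intro m _
  rw [O8_eq, card_inter_M, mem_M]
  change (¬ (m.testBit 4 = true) ∧ _) ↔ _
  simp

theorem trans_antiflag_std (p p' : Finset GolayPt) (hp : p ∈ octads) (hp' : p' ∈ octads)
    (hn : (some 4 : GolayPt) ∉ p) (hn' : (some 4 : GolayPt) ∉ p')
    (h : (O8 ∩ p).card = (O8 ∩ p').card) : ∃ g ∈ stabC [4] [oMask], g • p = p' := by
  rcases octad_inter_cases O8 p O8_mem hp with hk | hk | hk | hk
  on_goal 4 =>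
    refine ⟨1, Subgroup.one_mem _, ?_⟩
    rw [one_smul, eq_of_inter_eight O8 p O8_mem hp hk,
      eq_of_inter_eight O8 p' O8_mem hp' (by rw [← h, hk])]
  all_goals
    obtain ⟨m, hm, rfl⟩ := (mem_octads_iff' p).mp hp
    obtain ⟨m', hm', rfl⟩ := (mem_octads_iff' p').mp hp'
    rw [mem_M] at hn hn'
    rw [O8_eq, card_inter_M, card_inter_M] at h
    rw [O8_eq, card_inter_M] at hk
    have hn1 : m.testBit 4 = false := by
      have : ¬ (m.testBit 4 = true) := hn
      simpa using this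
    have hn1' : m'.testBit 4 = false := by
      have : ¬ (m'.testBit 4 = true) := hn'
      simpa using this
  · exact transC0 m (List.mem_filter.mpr ⟨hm, by simp [hn1, hk]⟩) m'
      (List.mem_filter.mpr ⟨hm', by simp [hn1', ← h, hk]⟩)
  · exact transC2 m (List.mem_filter.mpr ⟨hm, by simp [hn1, hk]⟩) m'
      (List.mem_filter.mpr ⟨hm', by simp [hn1', ← h, hk]⟩)
  · exact transC4 m (List.mem_filter.mpr ⟨hm, by simp [hn1, hk]⟩) m'
      (List.mem_filter.mpr ⟨hm', by simp [hn1', ← h, hk]⟩)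

theorem antiflag_result (x : GolayPt) (o : Finset GolayPt) (ho : o ∈ octads) (hx : x ∉ o) :
    {o' : Finset GolayPt | o' ∈ octads ∧ x ∉ o' ∧ (o ∩ o').card = 0}.ncard = 15 ∧
    {o' : Finset GolayPt | o' ∈ octads ∧ x ∉ o' ∧ (o ∩ o').card = 4}.ncard = 210 ∧
    {o' : Finset GolayPt | o' ∈ octads ∧ x ∉ o' ∧ (o ∩ o').card = 2}.ncard = 280 ∧
    ∀ o' o'' : Finset GolayPt, o' ∈ octads → o'' ∈ octads → x ∉ o' → x ∉ o'' →
      (o ∩ o').card = (o ∩ o'').card →
      ∃ g : Equiv.Perm GolayPt, g ∈ M24 ∧ g x = x ∧ g • o = o ∧ g • o' = o'' := by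
  obtain ⟨t, ht, hto, htx⟩ := exists_std_antiflag x o ho hx
  have htinv : t⁻¹ ∈ M24 := M24.inv_mem ht
  have hcount : ∀ k, {o' : Finset GolayPt | o' ∈ octads ∧ x ∉ o' ∧ (o ∩ o').card = k}.ncard
      = {o' : Finset GolayPt | o' ∈ octads ∧ (some 4 : GolayPt) ∉ o' ∧
          (O8 ∩ o').card = k}.ncard := by
    intro k
    apply ncard_smul t⁻¹ octads (fun s hs => smul_octad_mem _ htinv s hs)
      (fun s hs => by rw [inv_inv]; exact smul_octad_mem _ ht s hs)
      (fun s => x ∉ s ∧ (o ∩ s).card = k)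
    intro s
    rw [mem_inv_smul, htx, inter_smul_card, hto]
  refine ⟨by rw [hcount, count_antiflag_std]; exact lenC0,
    by rw [hcount, count_antiflag_std]; exact lenC4,
    by rw [hcount, count_antiflag_std]; exact lenC2, ?_⟩
  intro o' o'' ho' ho'' hx' hx'' h
  have e : (O8 ∩ t • o').card = (O8 ∩ t • o'').card := by
    rw [← hto, M24V2.card_smul_inter, M24V2.card_smul_inter, h]
  obtain ⟨g, hg, hgp⟩ := trans_antiflag_std (t • o') (t • o'') (smul_octad_mem t ht o' ho')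
    (smul_octad_mem t ht o'' ho'') (by rw [← htx, smul_mem_iff]; exact hx')
    (by rw [← htx, smul_mem_iff]; exact hx'') e
  obtain ⟨hgM, hgx, hgo⟩ := (mem_stabC _ _ g).mp hg
  have hgx' : g (some 4) = some 4 := hgx 4 (by simp)
  have hgo' : g • O8 = O8 := hgo oMask (by simp)
  refine ⟨t⁻¹ * g * t, M24.mul_mem (M24.mul_mem htinv hgM) ht, ?_, ?_, ?_⟩
  · rw [Equiv.Perm.mul_apply, Equiv.Perm.mul_apply, htx, hgx', ← htx, Chain1.inv_apply_self']
  · rw [mul_smul, mul_smul, hto, hgo', ← hto, inv_smul_smul]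
  · rw [mul_smul, mul_smul, hgp, inv_smul_smul]

end Cfsg.Agent.Lib.Helper9.M24X4
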