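import Cfsg.Agent.Lib.Helper6.MIdxQ1

/-! S1589 farm, piece Q5 (helper9): `triangle_false`. -/

set_option autoImplicit false
set_option maxHeartbeats 1000000

namespace Cfsg.Agent.Lib.Helper6.MIdx

open Cfsg Finset MulAction Cfsg.Agent.Lib.Helper9.OutM Cfsg.Agent.Lib.Helper9.M24T3
  Cfsg.Agent.Lib.Helper9.M24T9 Cfsg.Agent.Lib.Helper9.M24P1
open scoped Pointwise

/-- conjugation moves the invariant pair -/
theorem h9_tri_inv_conj (K : Subgroup (Equiv.Perm GolayPt)) (x : GolayPt) (R : Finset GolayPt)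
    (hinv : ∀ g ∈ pt K x, g • R = R) (g : Equiv.Perm GolayPt) (hg : g ∈ K)
    (h : Equiv.Perm GolayPt) (hh : h ∈ pt K (g x)) : h • (g • R) = g • R := by
  have h1 := hinv (g⁻¹ * h * g) ((pt_conj K g hg x h).mp hh)
  have h2 : g • ((g⁻¹ * h * g) • R) = g • R := by rw [h1]
  rw [smul_smul] at h2 ⊢
  have h3 : g * (g⁻¹ * h * g) = h * g := by group
  rw [h3] at h2
  exact h2

theorem h9_perm_smul_inv (g : Equiv.Perm GolayPt) (p : GolayPt) : g • (g⁻¹ p) = p := by
  rw [Equiv.Perm.smul_def]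
  simp

theorem h9_notMem_conj (x : GolayPt) (R : Finset GolayPt) (g : Equiv.Perm GolayPt) (p : GolayPt)
    (hp : p ∉ insert (g x) (g • R)) : g⁻¹ p ∉ insert x R := by
  intro hc
  apply hp
  have h1 : g • (g⁻¹ p) ∈ g • insert x R := Finset.smul_mem_smul_finset hc
  rw [h9_perm_smul_inv, Finset.smul_finset_insert, Equiv.Perm.smul_def] at h1
  exact h1

/-- transitivity off the conjugated triangle -/
theorem h9_tri_trans_conj (K : Subgroup (Equiv.Perm GolayPt)) (x : GolayPt) (R : Finset GolayPt)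
    (htrans : ∀ p q : GolayPt, p ∉ insert x R → q ∉ insert x R → ∃ g ∈ pt K x, g p = q)
    (g : Equiv.Perm GolayPt) (hg : g ∈ K) (p q : GolayPt)
    (hp : p ∉ insert (g x) (g • R)) (hq : q ∉ insert (g x) (g • R)) :
    ∃ h ∈ pt K (g x), h p = q := by
  obtain ⟨k, hk, hkpq⟩ := htrans _ _ (h9_notMem_conj x R g p hp) (h9_notMem_conj x R g q hq)
  refine ⟨g * k * g⁻¹, ?_, ?_⟩
  · rw [pt_conj K g hg x]
    have h1 : g⁻¹ * (g * k * g⁻¹) * g = k := by group
    rw [h1]
    exact hk
  · rw [Equiv.Perm.mul_apply, Equiv.Perm.mul_apply, hkpq]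
    simp

/-- the pair is well defined -/
theorem h9_tri_welldef (K : Subgroup (Equiv.Perm GolayPt)) (x : GolayPt) (R : Finset GolayPt)
    (hinv : ∀ g ∈ pt K x, g • R = R) (g g' : Equiv.Perm GolayPt) (hg : g ∈ K) (hg' : g' ∈ K)
    (h : g x = g' x) : g • R = g' • R := by
  have h1 : g⁻¹ * g' ∈ pt K x := by
    refine Subgroup.mem_inf.mpr ⟨K.mul_mem (K.inv_mem hg) hg', mem_stabilizer_iff.mpr ?_⟩
    show (g⁻¹ * g') x = x
    rw [Equiv.Perm.mul_apply, ← h]
    simp
  have h2 := hinv _ h1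
  have h3 : g • ((g⁻¹ * g') • R) = g • R := by rw [h2]
  rw [smul_smul] at h3
  have h4 : g * (g⁻¹ * g') = g' := by group
  rw [h4] at h3
  exact h3.symm

/-- the stabilizer of `x` and `u` fixes the triangle pointwise and has index `2` in `pt K x` -/
theorem h9_tri_L (K : Subgroup (Equiv.Perm GolayPt)) (hK : K ≤ M24) (x : GolayPt)
    (R : Finset GolayPt) (hxR : x ∉ R) (hinv : ∀ g ∈ pt K x, g • R = R)
    (hn : Nat.card ↥(pt K x) = 13440 ∨ Nat.card ↥(pt K x) = 40320)
    (u v : GolayPt) (hRuv : R = {u, v}) (huv : u ≠ v) :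
    (∀ h ∈ pt K x ⊓ stabilizer (Equiv.Perm GolayPt) u, h x = x ∧ h u = u ∧ h v = v) ∧
      Nat.card ↥(pt K x) = 2 * Nat.card ↥(pt K x ⊓ stabilizer (Equiv.Perm GolayPt) u) := by
  have huR : u ∈ R := by rw [hRuv]; simp
  have hvR : v ∈ R := by rw [hRuv]; simp
  have hxu : x ≠ u := fun h => hxR (h ▸ huR)
  have hxv : x ≠ v := fun h => hxR (h ▸ hvR)
  have hfix : ∀ h ∈ pt K x ⊓ stabilizer (Equiv.Perm GolayPt) u, h x = x ∧ h u = u ∧ h v = v := by
    intro h hh
    have hx : h x = x := mem_stabilizer_iff.mp hh.1.2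
    have hu : h u = u := mem_stabilizer_iff.mp hh.2
    refine ⟨hx, hu, ?_⟩
    have h1 : h • v ∈ h • R := Finset.smul_mem_smul_finset hvR
    rw [hinv h hh.1, Equiv.Perm.smul_def, hRuv, mem_insert, mem_singleton] at h1
    rcases h1 with h1 | h1
    · exfalso
      rw [← hu] at h1
      exact huv (h.injective h1).symm
    · exact h1
  refine ⟨hfix, ?_⟩
  have hLvl : Lvl (pt K x ⊓ stabilizer (Equiv.Perm GolayPt) u) {x, u, v} := by
    constructor
    · exact fun g hg => hK hg.1.1
    · intro g hg a ha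
      obtain ⟨h1, h2, h3⟩ := hfix g hg
      rw [mem_insert, mem_insert, mem_singleton] at ha
      rcases ha with rfl | rfl | rfl
      · exact h1
      · exact h2
      · exact h3
  have hdvd : Nat.card ↥(pt K x ⊓ stabilizer (Equiv.Perm GolayPt) u) ∣ 20160 :=
    Cfsg.Agent.Lib.Helper9.Idx.lvl_card_dvd hLvl [x, u, v] (by simp) 20160
      (Cfsg.Agent.Lib.Helper9.M24T7.card_fix_three x u v hxu hxv huv)
  have horb := card_orbF (pt K x) u
  have hsub : orbF (pt K x) u ⊆ R := by
    intro b hb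
    obtain ⟨h, hh, rfl⟩ := (mem_orbF (pt K x) u b).mp hb
    have h1 : h • u ∈ h • R := Finset.smul_mem_smul_finset huR
    rw [hinv h hh, Equiv.Perm.smul_def] at h1
    exact h1
  have hle : (orbF (pt K x) u).card ≤ 2 := by
    have := Finset.card_le_card hsub
    rw [hRuv, Finset.card_pair huv] at this
    exact this
  have hpos := orb_card_pos (pt K x) u
  have h12 : (orbF (pt K x) u).card = 1 ∨ (orbF (pt K x) u).card = 2 := by omega
  rcases h12 with h1 | h2
  · exfalso
    rw [h1, one_mul] at horb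
    rw [← horb] at hdvd
    rcases hn with hn | hn <;> rw [hn] at hdvd <;> omega
  · rw [h2] at horb
    exact horb

/-- the triangle at `u` is the triangle at `x` -/
theorem h9_tri_claimB (K : Subgroup (Equiv.Perm GolayPt)) (hK : K ≤ M24) (htr : Trans K) (x : GolayPt)
    (R : Finset GolayPt) (hxR : x ∉ R)
    (hinv : ∀ g ∈ pt K x, g • R = R)
    (htrans : ∀ p q : GolayPt, p ∉ insert x R → q ∉ insert x R → ∃ g ∈ pt K x, g p = q)
    (hn : Nat.card ↥(pt K x) = 13440 ∨ Nat.card ↥(pt K x) = 40320)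
    (u v : GolayPt) (hRuv : R = {u, v}) (huv : u ≠ v)
    (g : Equiv.Perm GolayPt) (hg : g ∈ K) (hgx : g x = u) : g • R = {x, v} := by
  have huR : u ∈ R := by rw [hRuv]; simp
  have hvR : v ∈ R := by rw [hRuv]; simp
  have hxu : x ≠ u := fun h => hxR (h ▸ huR)
  have hxv : x ≠ v := fun h => hxR (h ▸ hvR)
  obtain ⟨hfix, hcardL⟩ := h9_tri_L K hK x R hxR hinv hn u v hRuv huv
  have hcardR : (g • R).card = 2 := by
    rw [Finset.card_smul_finset, hRuv, Finset.card_pair huv]
  -- `u ∉ g • R`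
  have huR' : u ∉ g • R := by
    intro h
    rw [← hgx] at h
    have : g • x ∈ g • R := h
    rw [Finset.smul_mem_smul_finset_iff] at this
    exact hxR this
  -- `pt K u` preserves `g • R` and is transitive off `insert u (g • R)`
  have hinv' : ∀ h ∈ pt K u, h • (g • R) = g • R := by
    intro h hh
    rw [← hgx] at hh
    exact h9_tri_inv_conj K x R hinv g hg h hh
  have htrans' : ∀ p q : GolayPt, p ∉ insert u (g • R) → q ∉ insert u (g • R) → ∃ h ∈ pt K u, h p = q := by
    intro p q hp hq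
    rw [← hgx] at hp hq ⊢
    exact h9_tri_trans_conj K x R htrans g hg p q hp hq
  -- cardinalities
  have hc1 := card_of_trans K htr x
  have hc2 := card_of_trans K htr u
  have hLeq : pt K u ⊓ stabilizer (Equiv.Perm GolayPt) x = pt K x ⊓ stabilizer (Equiv.Perm GolayPt) u := by
    show (K ⊓ stabilizer (Equiv.Perm GolayPt) u) ⊓ stabilizer (Equiv.Perm GolayPt) x =
      (K ⊓ stabilizer (Equiv.Perm GolayPt) x) ⊓ stabilizer (Equiv.Perm GolayPt) u
    exact inf_right_comm _ _ _
  have horb := card_orbF (pt K u) x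
  rw [hLeq] at horb
  have hLpos : 0 < Nat.card ↥(pt K x ⊓ stabilizer (Equiv.Perm GolayPt) u) := by
    rcases hn with hn | hn <;> omega
  have horb2 : (orbF (pt K u) x).card = 2 := by
    have h1 : Nat.card ↥(pt K u) = Nat.card ↥(pt K x) := by omega
    rw [h1, hcardL] at horb
    have h2 : 2 * Nat.card ↥(pt K x ⊓ stabilizer (Equiv.Perm GolayPt) u) =
        (orbF (pt K u) x).card * Nat.card ↥(pt K x ⊓ stabilizer (Equiv.Perm GolayPt) u) := horb
    exact (Nat.eq_of_mul_eq_mul_right hLpos h2).symm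
  -- `x ∈ g • R`
  have hxR' : x ∈ g • R := by
    by_contra hx
    have hx' : x ∉ insert u (g • R) := by
      rw [mem_insert]; push Not; exact ⟨hxu, hx⟩
    have hsub : univ \ insert u (g • R) ⊆ orbF (pt K u) x := by
      intro q hq
      rw [mem_sdiff] at hq
      obtain ⟨h, hh, hhq⟩ := htrans' x q hx' hq.2
      exact (mem_orbF (pt K u) x q).mpr ⟨h, hh, hhq⟩
    have h1 := Finset.card_le_card hsub
    rw [horb2, Finset.card_sdiff_of_subset (Finset.subset_univ _), Finset.card_univ,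
      Cfsg.Agent.Lib.Helper9.GolayQR5.card_golayPt, Finset.card_insert_of_notMem huR', hcardR] at h1
    omega
  -- the other point `w` of `g • R`
  obtain ⟨w, hw⟩ : ∃ w, g • R = {x, w} ∧ w ≠ x := by
    obtain ⟨a, b, hab, hRab⟩ := Finset.card_eq_two.mp hcardR
    rw [hRab, mem_insert, mem_singleton] at hxR'
    rcases hxR' with rfl | rfl
    · exact ⟨b, hRab, hab.symm⟩
    · exact ⟨a, by rw [hRab, Finset.pair_comm], hab⟩
  obtain ⟨hRw, hwx⟩ := hw
  have hwR' : w ∈ g • R := by rw [hRw]; simp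
  have hwu : w ≠ u := fun h => huR' (h ▸ hwR')
  -- `L` fixes `w`
  have hLw : ∀ h ∈ pt K x ⊓ stabilizer (Equiv.Perm GolayPt) u, h w = w := by
    intro h hh
    obtain ⟨h1, h2, _⟩ := hfix h hh
    have hhu : h ∈ pt K u := ⟨hh.1.1, hh.2⟩
    have h3 : h • w ∈ h • (g • R) := Finset.smul_mem_smul_finset hwR'
    rw [hinv' h hhu, Equiv.Perm.smul_def, hRw, mem_insert, mem_singleton] at h3
    rcases h3 with h3 | h3
    · exfalso
      rw [← h1] at h3
      exact hwx (h.injective h3)
    · exact h3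
  -- `w = v`
  have hwv : w = v := by
    by_contra hne
    have hLvl : Lvl (pt K x ⊓ stabilizer (Equiv.Perm GolayPt) u) {x, u, v, w} := by
      constructor
      · exact fun g hg => hK hg.1.1
      · intro k hk a ha
        obtain ⟨h1, h2, h3⟩ := hfix k hk
        rw [mem_insert, mem_insert, mem_insert, mem_singleton] at ha
        rcases ha with rfl | rfl | rfl | rfl
        · exact h1
        · exact h2
        · exact h3
        · exact hLw k hk
    have hnd : [x, u, v, w].Nodup := by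
      simp only [List.nodup_cons, List.mem_cons, List.not_mem_nil, or_false, not_or, List.nodup_nil,
        and_true, not_false_eq_true]
      exact ⟨⟨hxu, hxv, fun h => hwx h.symm⟩, ⟨huv, fun h => hwu h.symm⟩, fun h => hne h.symm⟩
    have hdvd := Cfsg.Agent.Lib.Helper9.Idx.lvl_card_dvd hLvl [x, u, v, w] (by simp) 960
      (Cfsg.Agent.Lib.Helper9.Idx.card_fix_four x u v w hnd)
    have hL : Nat.card ↥(pt K x ⊓ stabilizer (Equiv.Perm GolayPt) u) = 6720 ∨
        Nat.card ↥(pt K x ⊓ stabilizer (Equiv.Perm GolayPt) u) = 20160 := by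
      rcases hn with hn | hn <;> omega
    rcases hL with hL | hL <;> rw [hL] at hdvd <;> omega
  rw [hRw, hwv]

theorem triangle_false (K : Subgroup (Equiv.Perm GolayPt)) (hK : K ≤ M24) (htr : Trans K) (x : GolayPt)
    (R : Finset GolayPt) (hR : R.card = 2) (hxR : x ∉ R)
    (hinv : ∀ g ∈ pt K x, g • R = R)
    (htrans : ∀ p q : GolayPt, p ∉ insert x R → q ∉ insert x R → ∃ g ∈ pt K x, g p = q)
    (hn : Nat.card ↥(pt K x) = 13440 ∨ Nat.card ↥(pt K x) = 40320) : False := by
  obtain ⟨u, v, huv, hRuv⟩ := Finset.card_eq_two.mp hR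
  have hRvu : R = {v, u} := by rw [hRuv, Finset.pair_comm]
  have huR : u ∈ R := by rw [hRuv]; simp
  have hvR : v ∈ R := by rw [hRuv]; simp
  have hxu : x ≠ u := fun h => hxR (h ▸ huR)
  have hxv : x ≠ v := fun h => hxR (h ▸ hvR)
  obtain ⟨hfix, hcardL⟩ := h9_tri_L K hK x R hxR hinv hn u v hRuv huv
  have hB1 := h9_tri_claimB K hK htr x R hxR hinv htrans hn u v hRuv huv
  have hB2 := h9_tri_claimB K hK htr x R hxR hinv htrans hn v u hRvu huv.symm
  set Tx : Finset GolayPt := insert x R with hTx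
  -- triangles: `g • Tx` for `g ∈ K`
  have hTu : ∀ g ∈ K, g x = u → g • Tx = Tx := by
    intro g hg hgx
    rw [hTx, Finset.smul_finset_insert, Equiv.Perm.smul_def, hgx, hB1 g hg hgx, hRuv]
    ext a
    simp only [mem_insert, mem_singleton]
    tauto
  have hTv : ∀ g ∈ K, g x = v → g • Tx = Tx := by
    intro g hg hgx
    rw [hTx, Finset.smul_finset_insert, Equiv.Perm.smul_def, hgx, hB2 g hg hgx, hRuv]
    ext a
    simp only [mem_insert, mem_singleton]
    tauto
  have hwd : ∀ g ∈ K, ∀ g' ∈ K, g x = g' x → g • Tx = g' • Tx := by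
    intro g hg g' hg' h
    rw [hTx, Finset.smul_finset_insert, Finset.smul_finset_insert, Equiv.Perm.smul_def,
      Equiv.Perm.smul_def, h, h9_tri_welldef K x R hinv g g' hg hg' h]
  -- key property: a triangle through a point of `Tx`
  have hkey : ∀ g ∈ K, ∀ d ∈ Tx, d ∈ g • Tx → g • Tx = Tx := by
    intro g hg d hd hdg
    -- `d = g e`, `e ∈ Tx`
    obtain ⟨e, he, hed⟩ := Finset.mem_smul_finset.mp hdg
    rw [Equiv.Perm.smul_def] at hed
    -- `g₁ x = e`, `g₁ • Tx = Tx`
    have hE : ∀ e ∈ Tx, ∃ g₁ ∈ K, g₁ x = e ∧ g₁ • Tx = Tx := by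
      intro e he
      rw [hTx, mem_insert, hRuv, mem_insert, mem_singleton] at he
      rcases he with rfl | rfl | rfl
      · exact ⟨1, K.one_mem, rfl, one_smul _ _⟩
      · obtain ⟨g₁, hg₁, h1⟩ := htr x e
        exact ⟨g₁, hg₁, h1, hTu g₁ hg₁ h1⟩
      · obtain ⟨g₁, hg₁, h1⟩ := htr x e
        exact ⟨g₁, hg₁, h1, hTv g₁ hg₁ h1⟩
    obtain ⟨g₁, hg₁, hg₁x, hg₁T⟩ := hE e he
    obtain ⟨g₂, hg₂, hg₂x, hg₂T⟩ := hE d hd
    -- `g * g₁` and `g₂` both send `x` to `d`
    have h1 : (g * g₁) x = g₂ x := by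
      rw [Equiv.Perm.mul_apply, hg₁x, hed, hg₂x]
    have h2 := hwd (g * g₁) (K.mul_mem hg hg₁) g₂ hg₂ h1
    rw [mul_smul, hg₁T, hg₂T] at h2
    exact h2
  -- an element of order 5 in `L`
  have h5 : 5 ∣ Nat.card ↥(pt K x ⊓ stabilizer (Equiv.Perm GolayPt) u) := by
    rcases hn with hn | hn <;> omega
  have hL0 : Nat.card ↥(pt K x ⊓ stabilizer (Equiv.Perm GolayPt) u) ≠ 0 := by
    rcases hn with hn | hn <;> omega
  have : Fact (Nat.Prime 5) := ⟨by norm_num⟩
  obtain ⟨f, hfL, hf1, hf5⟩ := exists_prime_order (pt K x ⊓ stabilizer (Equiv.Perm GolayPt) u) 5 h5 hL0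
  have hfK : f ∈ K := hfL.1.1
  have hLvl : Lvl (pt K x ⊓ stabilizer (Equiv.Perm GolayPt) u) {x, u, v} := by
    constructor
    · exact fun g hg => hK hg.1.1
    · intro k hk a ha
      obtain ⟨h1, h2, h3⟩ := hfix k hk
      rw [mem_insert, mem_insert, mem_singleton] at ha
      rcases ha with rfl | rfl | rfl
      · exact h1
      · exact h2
      · exact h3
  have hcard3 : ({x, u, v} : Finset GolayPt).card = 3 := by
    rw [Finset.card_insert_of_notMem, Finset.card_pair huv]
    rw [mem_insert, mem_singleton]; push Not; exact ⟨hxu, hxv⟩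
  have hfix4 : (fixF f).card = ({x, u, v} : Finset GolayPt).card + 1 := by
    rw [hcard3, card_fixF_prime f (hK hfK) hf1 5 (Or.inl rfl) hf5]
  obtain ⟨w, hw, hfw⟩ := hLvl.fixF_insert f hfL hfix4
  have hTxeq : Tx = {x, u, v} := by rw [hTx, hRuv]
  have hwTx : w ∉ Tx := by rw [hTxeq]; exact hw
  -- the triangle at `w`
  obtain ⟨g, hg, hgx⟩ := htr x w
  have hfw' : f w = w := by
    have : w ∈ fixF f := by rw [hfw]; exact mem_insert_self _ _
    exact (mem_fixF f w).mp this
  have hfptw : f ∈ pt K (g x) := by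
    rw [hgx]
    exact ⟨hfK, mem_stabilizer_iff.mpr hfw'⟩
  have hfR : f • (g • R) = g • R := h9_tri_inv_conj K x R hinv g hg f hfptw
  -- `f` fixes the points of `g • R`
  have hfixR : ∀ a ∈ g • R, f a = a := by
    intro a ha
    by_contra hne
    have hcardR : (g • R).card = 2 := by
      rw [Finset.card_smul_finset, hR]
    obtain ⟨b, c, hbc, hRbc⟩ := Finset.card_eq_two.mp hcardR
    have hmem : ∀ z ∈ g • R, f z ∈ g • R := by
      intro z hz
      have : f • z ∈ f • (g • R) := Finset.smul_mem_smul_finset hz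
      rw [hfR, Equiv.Perm.smul_def] at this
      exact this
    -- `f` swaps `b` and `c`
    have hswap : ∀ b c : GolayPt, g • R = {b, c} → f b ≠ b → f b = c ∧ f c = b := by
      intro b c hRbc hb
      have hbR : b ∈ g • R := by rw [hRbc]; simp
      have hcR : c ∈ g • R := by rw [hRbc]; simp
      have h1 := hmem b hbR
      rw [hRbc, mem_insert, mem_singleton] at h1
      have hfb : f b = c := by
        rcases h1 with h1 | h1
        · exact absurd h1 hb
        · exact h1
      refine ⟨hfb, ?_⟩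
      have h2 := hmem c hcR
      rw [hRbc, mem_insert, mem_singleton] at h2
      rcases h2 with h2 | h2
      · exact h2
      · exfalso
        have h3 : c = b := f.injective (h2.trans hfb.symm)
        exact hb (by rw [hfb, h3])
    have hab : ∃ a' : GolayPt, f a = a' ∧ f a' = a := by
      rw [hRbc, mem_insert, mem_singleton] at ha
      rcases ha with rfl | rfl
      · obtain ⟨h1, h2⟩ := hswap a c hRbc hne
        exact ⟨c, h1, h2⟩
      · obtain ⟨h1, h2⟩ := hswap a b (by rw [hRbc, Finset.pair_comm]) hne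
        exact ⟨b, h1, h2⟩
    obtain ⟨a', h1, h2⟩ := hab
    have e2 : (f ^ 2) a = a := by
      rw [pow_two, Equiv.Perm.mul_apply, h1, h2]
    have h3 : (f ^ 5) a = a' := by
      have h5' : f ^ 5 = f * (f ^ 2 * f ^ 2) := by group
      rw [h5', Equiv.Perm.mul_apply, Equiv.Perm.mul_apply, e2, e2, h1]
    rw [hf5, Equiv.Perm.one_apply] at h3
    exact hne (by rw [h1]; exact h3.symm)
  -- so `g u ∈ fixF f`, hence in `Tx`
  have hguR : g u ∈ g • R := by
    have : g • u ∈ g • R := Finset.smul_mem_smul_finset huR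
    rw [Equiv.Perm.smul_def] at this
    exact this
  have hgu_fix : g u ∈ fixF f := (mem_fixF f _).mpr (hfixR _ hguR)
  rw [hfw, mem_insert] at hgu_fix
  have hguw : g u ≠ w := by
    rw [← hgx]
    intro h
    exact hxu (g.injective h).symm
  have hguTx : g u ∈ Tx := by
    rcases hgu_fix with h | h
    · exact absurd h hguw
    · rw [hTxeq]; exact h
  have hguT : g u ∈ g • Tx := by
    have : g • u ∈ g • Tx := Finset.smul_mem_smul_finset (by rw [hTx]; exact mem_insert_of_mem huR)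
    rw [Equiv.Perm.smul_def] at this
    exact this
  have hfin := hkey g hg (g u) hguTx hguT
  -- `w = g x ∈ g • Tx = Tx`
  apply hwTx
  rw [← hfin, ← hgx]
  have : g • x ∈ g • Tx := Finset.smul_mem_smul_finset (by rw [hTx]; exact mem_insert_self _ _)
  rw [Equiv.Perm.smul_def] at this
  exact this

end Cfsg.Agent.Lib.Helper6.MIdx
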