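import Mathlib
import Cfsg.Agent.Lib.Helper6.RvDefs
import Cfsg.Agent.Lib.Helper3.GlauCyc2

/-! S4959 piece G3: coset norm of a character restricting irreducibly to a normal subgroup. -/

set_option autoImplicit false
set_option linter.unusedVariables false
set_option linter.unusedSectionVars false
set_option linter.style.longLine false

namespace Cfsg.Agent.Lib.Helper6.Rv

open scoped ComplexConjugate

universe u v

/-- G3: if the restriction of an irreducible character to a normal subgroup is irreducible then
the sum of `|χ|²` over every coset is `|N|` (Isaacs 8.14). -/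
theorem sum_coset_norm_sq {G : Type u} [Group G] [Fintype G] (N : Subgroup G) [N.Normal]
    [Fintype N] {χ : G → ℂ} (hχ : Cfsg.IsIrrCharacter G χ)
    (hres : Cfsg.IsIrrCharacter N (fun n : N => χ n)) (g : G) :
    ∑ n : N, ‖χ ((n : G) * g)‖ ^ 2 = (Nat.card N : ℝ) := by
  have h := Cfsg.Agent.Lib.Helper3.GlauCyc.sum_coset_norm N hχ hres g
  have h2 : ((∑ n : N, ‖χ ((n : G) * g)‖ ^ 2 : ℝ) : ℂ) = ((Nat.card N : ℝ) : ℂ) := by
    push_cast
    rw [← h]
    refine Finset.sum_congr rfl (fun n _ => ?_)
    rw [Complex.mul_conj, Complex.normSq_eq_norm_sq]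
    push_cast
    rfl
  exact_mod_cast h2

end Cfsg.Agent.Lib.Helper6.Rv
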