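import Mathlib
import Cfsg.Agent.Lib.Helper6.RvDefs
import Cfsg.Agent.Lib.Helper6.CenterIndex
import Cfsg.Agent.Lib.Helper6.Orthogonality
import Cfsg.Agent.Lib.Helper7.GC2

/-! S4959 piece C2: the Heisenberg group has an irreducible character vanishing off the centre. -/

set_option autoImplicit false
set_option maxHeartbeats 1000000
set_option linter.unusedVariables false
set_option linter.unusedSectionVars false
set_option linter.style.longLine false
set_option linter.style.haveILetI false

namespace Cfsg.Agent.Lib.Helper6.Rv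

open scoped ComplexConjugate

universe u v

section Symp

variable {p : ℕ} [Fact p.Prime] {H : Type u} [Group H] [Finite H] {M : Type v} [AddCommGroup M]
  [Module (ZMod p) M] [Finite M]

/-- the central element `(0, 1)` -/
def h9_zc (D : SympData p H M) : Heis D := ⟨0, 1⟩

theorem h9_zc_pow (D : SympData p H M) (k : ℕ) : (h9_zc D) ^ k = ⟨0, (k : ZMod p)⟩ := by
  induction k with
  | zero =>
    rw [pow_zero]
    ext
    · rfl
    · simp
  | succ k ih =>
    rw [pow_succ, ih]
    ext
    · simp [h9_zc]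
    · simp [h9_zc]

theorem h9_zc_central (D : SympData p H M) (a : Heis D) : h9_zc D * a = a * h9_zc D := by
  ext
  · simp [h9_zc, add_comm]
  · simp [h9_zc, add_comm]

theorem h9_zc_pow_mul (D : SympData p H M) (k : ℕ) (a : Heis D) :
    (h9_zc D) ^ k * a = ⟨a.x, a.s + (k : ZMod p)⟩ := by
  rw [h9_zc_pow]
  ext
  · simp
  · simp [add_comm]

theorem h9_conj (hp2 : p ≠ 2) (D : SympData p H M) (y : M) (a : Heis D) :
    (⟨y, 0⟩ : Heis D) * a * (⟨y, 0⟩ : Heis D)⁻¹ = ⟨a.x, a.s + D.A y a.x⟩ := by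
  have h2 : (2 : ZMod p) ≠ 0 := by
    intro h
    have h3 : ((2 : ℕ) : ZMod p) = 0 := by exact_mod_cast h
    rw [ZMod.natCast_eq_zero_iff] at h3
    have hp : p.Prime := Fact.out
    have := (Nat.prime_dvd_prime_iff_eq hp Nat.prime_two).mp h3
    exact hp2 this
  ext
  · simp
  · simp only [Heis.mul_s, Heis.mul_x, Heis.inv_x, Heis.inv_s, neg_zero, add_zero, zero_add,
      map_add, map_neg, LinearMap.add_apply, D.alt]
    have hsk : D.A a.x y = - D.A y a.x := D.skew a.x y
    rw [hsk]
    have : (2 : ZMod p)⁻¹ * D.A y a.x + (2 : ZMod p)⁻¹ * D.A y a.x = D.A y a.x := by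
      rw [← two_mul, ← mul_assoc, mul_inv_cancel₀ h2, one_mul]
    linear_combination this

/-- C2: the Heisenberg group has an irreducible character vanishing off the centre -/
theorem exists_heisIrr (hp2 : p ≠ 2) (D : SympData p H M) :
    ∃ (Φ : Heis D → ℂ) (c : ℂ) (n : ℕ), HeisIrr D Φ c n := by
  classical
  have hp : p.Prime := Fact.out
  haveI : NeZero p := ⟨hp.ne_zero⟩
  haveI : Fintype (Heis D) := Fintype.ofFinite _
  haveI : Fintype M := Fintype.ofFinite _
  set z : Heis D := h9_zc D with hz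
  have hz1 : z ≠ 1 := by
    intro h
    have h1 : z.s = (1 : Heis D).s := by rw [h]
    have h2 : (1 : ZMod p) = 0 := h1
    haveI : Fact (1 < p) := ⟨hp.one_lt⟩
    exact one_ne_zero h2
  have hzc : z ∈ Subgroup.center (Heis D) := by
    rw [Subgroup.mem_center_iff]
    intro a
    exact (h9_zc_central D a).symm
  obtain ⟨n, ρ, hρ, hρz⟩ := Cfsg.Agent.Lib.Helper7.GC.exists_irr_ne_one (g := z) hz1
  haveI := hρ
  obtain ⟨c, hc, hcc⟩ := Cfsg.Agent.Lib.Helper6.exists_scalar_of_mem_center ρ hzc
  have hnpos : 0 < n := by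
    have := Cfsg.Agent.Lib.Helper6.finrank_pos_of_isIrreducible ρ
    rw [Module.finrank_fin_fun] at this
    exact this
  have hc1 : c ≠ 1 := by
    intro h
    apply hρz
    rw [hc, h, one_smul]
    rfl
  -- powers of `z`
  have hρpow : ∀ k : ℕ, ρ (z ^ k) = (c ^ k) • LinearMap.id := by
    intro k
    rw [map_pow, hc, smul_pow]
    congr 1
    show (1 : Module.End ℂ (Fin n → ℂ)) ^ k = 1
    exact one_pow k
  have hzp : z ^ p = 1 := by
    rw [hz, h9_zc_pow]
    ext
    · rfl
    · simp
  have hcp : c ^ p = 1 := by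
    have h1 := hρpow p
    rw [hzp, map_one] at h1
    have h2 := congrArg (fun f : Module.End ℂ (Fin n → ℂ) => f (fun _ => (1 : ℂ)) ⟨0, hnpos⟩) h1
    simp only [Module.End.one_apply, LinearMap.smul_apply, LinearMap.id_coe, id_eq, Pi.smul_apply,
      smul_eq_mul, mul_one] at h2
    exact h2.symm
  have hχmul : ∀ (k : ℕ) (a : Heis D), ρ.character (z ^ k * a) = c ^ k * ρ.character a := by
    intro k a
    unfold Representation.character
    rw [map_mul, hρpow, smul_mul_assoc, map_smul, smul_eq_mul]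
    rfl
  have hχ1 : ρ.character 1 = (n : ℂ) := by
    rw [Representation.char_one, Module.finrank_fin_fun]
  -- `c` is a primitive `p`-th root of unity
  have hcprim : ∀ t : ℕ, ¬ p ∣ t → c ^ t ≠ 1 := by
    intro t ht h
    have hco : Nat.Coprime t p := (Nat.Coprime.symm ((Nat.Prime.coprime_iff_not_dvd hp).mpr ht))
    have h1 : orderOf c ∣ t := orderOf_dvd_of_pow_eq_one h
    have h2 : orderOf c ∣ p := orderOf_dvd_of_pow_eq_one hcp
    have h3 : orderOf c ∣ Nat.gcd t p := Nat.dvd_gcd h1 h2
    rw [hco] at h3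
    have h4 : orderOf c = 1 := Nat.dvd_one.mp h3
    exact hc1 (orderOf_eq_one_iff.mp h4)
  have hoff : ∀ a : Heis D, a.x ≠ 0 → ρ.character a = 0 := by
    intro a ha
    have hex : ∃ y, D.A y a.x ≠ 0 := by
      by_contra hno
      push Not at hno
      apply ha
      apply D.nd
      intro y
      rw [D.skew, hno y, neg_zero]
    obtain ⟨y, hy⟩ := hex
    set t : ℕ := (D.A y a.x).val with ht
    have htp : ¬ p ∣ t := by
      intro hd
      apply hy
      have h1 : ((t : ℕ) : ZMod p) = 0 := (ZMod.natCast_eq_zero_iff t p).mpr hd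
      rw [ht, ZMod.natCast_zmod_val] at h1
      exact h1
    have h1 : (⟨y, 0⟩ : Heis D) * a * (⟨y, 0⟩ : Heis D)⁻¹ = z ^ t * a := by
      rw [h9_conj hp2, hz, h9_zc_pow_mul, ht, ZMod.natCast_zmod_val]
    have h2 : ρ.character ((⟨y, 0⟩ : Heis D) * a * (⟨y, 0⟩ : Heis D)⁻¹) = ρ.character a :=
      Representation.char_conj ρ a _
    rw [h1, hχmul] at h2
    have h3 : (c ^ t - 1) * ρ.character a = 0 := by rw [sub_mul, one_mul, h2, sub_self]
    rcases mul_eq_zero.mp h3 with h | h
    · exact absurd (sub_eq_zero.mp h) (hcprim t htp)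
    · exact h
  have hcen : ∀ s : ZMod p, ρ.character ⟨0, s⟩ = (n : ℂ) * c ^ s.val := by
    intro s
    have h1 : (⟨0, s⟩ : Heis D) = z ^ s.val * 1 := by
      rw [hz, h9_zc_pow_mul, ZMod.natCast_zmod_val]
      ext
      · rfl
      · simp
    rw [h1, hχmul, hχ1, mul_comm]
  -- the degree
  have hnorm : ∀ k : ℕ, c ^ k * conj (c ^ k) = 1 := by
    intro k
    rw [map_pow, ← mul_pow, mul_comm, hcc, one_pow]
  have hinner := Cfsg.Agent.Lib.Helper6.classInner_irr_self ρ
  unfold Cfsg.classInner at hinner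
  have hcardE : Nat.card (Heis D) = p * Nat.card M := by
    rw [Nat.card_congr (Heis.equivProd D), Nat.card_prod, Nat.card_zmod, mul_comm]
  have hsum : ∑ a : Heis D, ρ.character a * conj (ρ.character a) = (p : ℂ) * ((n : ℂ) ^ 2) := by
    rw [← (Heis.equivProd D).symm.sum_comp, Fintype.sum_prod_type]
    have hinnerx : ∀ x : M, ∑ s : ZMod p, ρ.character ((Heis.equivProd D).symm (x, s)) *
        conj (ρ.character ((Heis.equivProd D).symm (x, s))) =
        if x = 0 then (p : ℂ) * ((n : ℂ) ^ 2) else 0 := by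
      intro x
      by_cases hx : x = 0
      · rw [if_pos hx, hx]
        have : ∀ s : ZMod p, ρ.character ((Heis.equivProd D).symm ((0 : M), s)) *
            conj (ρ.character ((Heis.equivProd D).symm ((0 : M), s))) = (n : ℂ) ^ 2 := by
          intro s
          have h1 : (Heis.equivProd D).symm ((0 : M), s) = (⟨0, s⟩ : Heis D) := rfl
          rw [h1, hcen s, map_mul, Complex.conj_natCast]
          calc (n : ℂ) * c ^ s.val * ((n : ℂ) * conj (c ^ s.val))
              = (n : ℂ) ^ 2 * (c ^ s.val * conj (c ^ s.val)) := by ring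
            _ = (n : ℂ) ^ 2 := by rw [hnorm, mul_one]
        rw [Finset.sum_congr rfl (fun s _ => this s), Finset.sum_const, Finset.card_univ,
          ZMod.card, nsmul_eq_mul]
      · rw [if_neg hx]
        apply Finset.sum_eq_zero
        intro s _
        have h1 : ((Heis.equivProd D).symm (x, s)).x ≠ 0 := hx
        rw [hoff _ h1, zero_mul]
    rw [Finset.sum_congr rfl (fun x _ => hinnerx x), Finset.sum_ite_eq' Finset.univ (0 : M)]
    simp
  rw [hsum, hcardE] at hinner
  have hp0 : (p : ℂ) ≠ 0 := by exact_mod_cast hp.ne_zero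
  have hM0 : (Nat.card M : ℂ) ≠ 0 := by
    have : 0 < Nat.card M := Nat.card_pos
    exact_mod_cast this.ne'
  have hdeg : n ^ 2 = Nat.card M := by
    have h1 : ((p * Nat.card M : ℕ) : ℂ)⁻¹ * ((p : ℂ) * (n : ℂ) ^ 2) = 1 := hinner
    have h2 : ((n ^ 2 : ℕ) : ℂ) = (Nat.card M : ℂ) := by
      push_cast at h1 ⊢
      field_simp at h1
      linear_combination h1
    exact_mod_cast h2
  exact ⟨ρ.character, c, n, ⟨⟨n, ρ, hρ, rfl⟩, hc1, hcp, hoff, hcen, hdeg⟩⟩

end Symp

end Cfsg.Agent.Lib.Helper6.Rv
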