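import Mathlib

/-!
# S4130 piece (PB): Burnside counting for an elementary abelian Sylow `p`-subgroup, `p` the
smallest prime divisor, when no class size is divisible by `p ^ 2`.
-/

set_option autoImplicit false

namespace Cfsg.Agent.Lib.Helper9.SqF

open MulAction

/-- conjugation preserves the order. -/
theorem orderOf_conj_eq {G : Type*} [Group G] (g t : G) : orderOf (g * t * g⁻¹) = orderOf t := by
  have := (MulAut.conj g).orderOf_eq t
  simpa [MulAut.conj_apply] using this

/-- elements of order `p`, as a sub-action of the conjugation action. -/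
def ordSub (G : Type*) [Group G] (p : ℕ) : SubMulAction (ConjAct G) G where
  carrier := {t | orderOf t = p}
  smul_mem' := by
    intro c t ht
    change orderOf (c • t) = p
    rw [ConjAct.smul_def, orderOf_conj_eq]
    exact ht

theorem mem_ordSub {G : Type*} [Group G] {p : ℕ} {t : G} : t ∈ ordSub G p ↔ orderOf t = p :=
  Iff.rfl

/-- every Sylow `p`-subgroup has exponent `p` if one has. -/
theorem pow_eq_one_of_mem_sylow {G : Type*} [Group G] [Finite G] {p : ℕ} [Fact p.Prime]
    (P Q : Sylow p G) (hPe : ∀ a ∈ (P : Subgroup G), a ^ p = 1) {y : G}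
    (hy : y ∈ (Q : Subgroup G)) : y ^ p = 1 := by
  obtain ⟨g, hg⟩ := MulAction.exists_smul_eq G P Q
  rw [← hg, Sylow.coe_subgroup_smul] at hy
  obtain ⟨s, hs, rfl⟩ := (Subgroup.mem_smul_pointwise_iff_exists _ _ _).1 hy
  rw [MulAut.smul_def, MulAut.conj_apply, conj_pow, hPe s hs]
  simp

/-- elements of a `p`-subgroup have order `p` or are trivial. -/
theorem orderOf_eq_of_mem_pgroup {G : Type*} [Group G] [Finite G] {p : ℕ} [Fact p.Prime]
    (P : Sylow p G) (hPe : ∀ a ∈ (P : Subgroup G), a ^ p = 1) {T : Subgroup G}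
    (hT : IsPGroup p T) {y : G} (hy : y ∈ T) (hy1 : y ≠ 1) : orderOf y = p := by
  obtain ⟨Q, hQ⟩ := hT.exists_le_sylow
  exact orderOf_eq_prime (pow_eq_one_of_mem_sylow P Q hPe (hQ hy)) hy1

/-- class size as an orbit size. -/
theorem index_centralizer_eq_ncard_orbit {N : Type*} [Group N] [Finite N] (u' : N) :
    (Subgroup.centralizer ({u'} : Set N)).index = (orbit (ConjAct N) u').ncard := by
  rw [← MulAction.index_stabilizer]
  have h := Subgroup.nat_card_centralizer_nat_card_stabilizer u'
  have h1 := (Subgroup.centralizer ({u'} : Set N)).card_mul_index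
  have h2 := (stabilizer (ConjAct N) u').card_mul_index
  have h3 : Nat.card (ConjAct N) = Nat.card N := rfl
  rw [h3, ← h1, h] at h2
  have hpos : 0 < Nat.card (Subgroup.centralizer ({u'} : Set N)) := Nat.card_pos
  rw [h] at hpos
  exact (Nat.eq_of_mul_eq_mul_left hpos h2).symm

/-- the orbit of a nonidentity element of `P` under `N_G(P)` has at least `p + 1` elements. -/
theorem normalizer_orbit_bound {G : Type*} [Group G] [Finite G] {p : ℕ} [Fact p.Prime]
    (P : Sylow p G)
    (hmin : ∀ r : ℕ, r.Prime → r ∣ Nat.card G → p ≤ r)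
    (hPc : ∀ a ∈ (P : Subgroup G), ∀ b ∈ (P : Subgroup G), a * b = b * a)
    (hfix : (P : Subgroup G) ⊓
      Subgroup.centralizer (Subgroup.normalizer (P : Set G) : Set G) = ⊥)
    {u : G} (hu : u ∈ (P : Subgroup G)) (hu1 : u ≠ 1) :
    ∃ S : Finset G, p + 1 ≤ S.card ∧
      ∀ v ∈ S, v ∈ (P : Subgroup G) ∧ v ≠ 1 ∧ ∃ g : G, v = g * u * g⁻¹ := by
  classical
  have hp : p.Prime := Fact.out
  set N := Subgroup.normalizer (P : Set G) with hN
  have hPN : (P : Subgroup G) ≤ N := Subgroup.le_normalizer
  let u' : N := ⟨u, hPN hu⟩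
  set idx := (Subgroup.centralizer ({u'} : Set N)).index with hidx
  have h1 : idx = (orbit (ConjAct N) u').ncard := index_centralizer_eq_ncard_orbit u'
  -- divisibility
  have hle : (P : Subgroup G).subgroupOf N ≤ Subgroup.centralizer ({u'} : Set N) := by
    intro y hy
    rw [Subgroup.mem_centralizer_iff]
    intro h hh
    rw [Set.mem_singleton_iff] at hh
    subst hh
    apply Subtype.ext
    simp only [Subgroup.coe_mul]
    exact hPc _ hu _ (Subgroup.mem_subgroupOf.1 hy)
  have hd1 : idx ∣ (P : Subgroup G).index :=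
    (Subgroup.index_dvd_of_le hle).trans (Subgroup.relIndex_dvd_index_of_le hPN)
  have hnp : ¬ p ∣ idx := fun h => P.not_dvd_index (h.trans hd1)
  have hdG : idx ∣ Nat.card G := hd1.trans (Subgroup.index_dvd_card _)
  have hidx1 : idx ≠ 1 := by
    intro h
    have htop : Subgroup.centralizer ({u'} : Set N) = ⊤ := Subgroup.index_eq_one.1 h
    have hmem : u ∈ (P : Subgroup G) ⊓ Subgroup.centralizer (N : Set G) := by
      refine ⟨hu, ?_⟩
      change u ∈ Subgroup.centralizer (N : Set G)
      rw [Subgroup.mem_centralizer_iff]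
      intro n hn
      have hn' : (⟨n, hn⟩ : N) ∈ Subgroup.centralizer ({u'} : Set N) := by
        rw [htop]; exact Subgroup.mem_top _
      rw [Subgroup.mem_centralizer_iff] at hn'
      have := hn' u' (Set.mem_singleton _)
      have h2 := congrArg Subtype.val this
      simp only [Subgroup.coe_mul] at h2
      exact h2.symm
    rw [hfix, Subgroup.mem_bot] at hmem
    exact hu1 hmem
  have hidxpos : 0 < idx := by
    rcases Nat.eq_zero_or_pos idx with h | h
    · exfalso
      have : (P : Subgroup G).index = 0 := by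
        rw [h] at hd1; exact Nat.eq_zero_of_zero_dvd hd1
      exact (Subgroup.index_ne_zero_of_finite) this
    · exact h
  have hbound : p + 1 ≤ idx := by
    have hr : (idx.minFac).Prime := Nat.minFac_prime hidx1
    have hpr : p ≤ idx.minFac := hmin _ hr ((Nat.minFac_dvd idx).trans hdG)
    have hne : idx.minFac ≠ p := fun h => hnp (h ▸ Nat.minFac_dvd idx)
    have : idx.minFac ≤ idx := Nat.minFac_le hidxpos
    omega
  refine ⟨((Set.toFinite (orbit (ConjAct N) u')).toFinset).image Subtype.val, ?_, ?_⟩
  · rw [Finset.card_image_of_injective _ Subtype.val_injective,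
      ← Set.ncard_eq_toFinset_card _, ← h1]
    exact hbound
  · intro v hv
    rw [Finset.mem_image] at hv
    obtain ⟨w, hw, rfl⟩ := hv
    rw [Set.Finite.mem_toFinset, MulAction.mem_orbit_iff] at hw
    obtain ⟨c, rfl⟩ := hw
    have hval : ((c • u' : N) : G)
        = ((ConjAct.ofConjAct c : N) : G) * u * ((ConjAct.ofConjAct c : N) : G)⁻¹ := by
      rw [ConjAct.smul_def]
      simp [u']
    have hn : ((ConjAct.ofConjAct c : N) : G) ∈ Subgroup.normalizer (P : Set G) :=
      (ConjAct.ofConjAct c : N).2
    refine ⟨?_, ?_, ⟨_, hval⟩⟩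
    · rw [hval]
      exact (Subgroup.mem_normalizer_iff.1 hn u).1 hu
    · rw [hval]
      intro h
      apply hu1
      have := congrArg (fun z => ((ConjAct.ofConjAct c : N) : G)⁻¹ * z *
        ((ConjAct.ofConjAct c : N) : G)) h
      simpa [mul_assoc] using this

/-- a `p`-subgroup of `C_G(x)` injects (minus the identity) into the fixed points of `x` on the
elements of order `p`. -/
theorem card_le_fixedBy {G : Type*} [Group G] [Finite G] {p : ℕ} [Fact p.Prime]
    (P : Sylow p G) (hPe : ∀ a ∈ (P : Subgroup G), a ^ p = 1) (x : G) (T : Subgroup G)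
    (hT : IsPGroup p T) (hTx : T ≤ Subgroup.centralizer ({x} : Set G)) :
    Nat.card T ≤ Nat.card (fixedBy (ordSub G p) (ConjAct.toConjAct x)) + 1 := by
  classical
  have hfixmem : ∀ t : T, ∀ h : (t : G) ≠ 1,
      (⟨(t : G), orderOf_eq_of_mem_pgroup P hPe hT t.2 h⟩ : ordSub G p)
        ∈ fixedBy (ordSub G p) (ConjAct.toConjAct x) := by
    intro t h
    rw [MulAction.mem_fixedBy]
    apply Subtype.ext
    rw [SubMulAction.val_smul, ConjAct.smul_def, ConjAct.ofConjAct_toConjAct]
    have hc := (Subgroup.mem_centralizer_iff.1 (hTx t.2)) x (Set.mem_singleton x)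
    change x * (t : G) * x⁻¹ = (t : G)
    rw [hc, mul_inv_cancel_right]
  let ψ : T → Option (fixedBy (ordSub G p) (ConjAct.toConjAct x)) := fun t =>
    if h : (t : G) = 1 then none else some ⟨_, hfixmem t h⟩
  have hψ : Function.Injective ψ := by
    intro t1 t2 h12
    by_cases h1 : (t1 : G) = 1
    · by_cases h2 : (t2 : G) = 1
      · exact Subtype.ext (h1.trans h2.symm)
      · simp only [ψ, dif_pos h1, dif_neg h2] at h12
        exact absurd h12 (by simp)
    · by_cases h2 : (t2 : G) = 1
      · simp only [ψ, dif_neg h1, dif_pos h2] at h12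
        exact absurd h12 (by simp)
      · simp only [ψ, dif_neg h1, dif_neg h2, Option.some.injEq, Subtype.mk.injEq] at h12
        exact Subtype.ext (congrArg (fun z : ordSub G p => (z : G)) h12)
  calc Nat.card T ≤ Nat.card (Option (fixedBy (ordSub G p) (ConjAct.toConjAct x))) :=
        Nat.card_le_card_of_injective ψ hψ
    _ = _ := Finite.card_option

/-- `C_G(x)` contains a `p`-subgroup of index `p` in a Sylow `p`-subgroup. -/
theorem exists_pgroup_le_centralizer {G : Type*} [Group G] [Finite G] {p : ℕ} [Fact p.Prime]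
    (P : Sylow p G) {m : ℕ} (hcard : Nat.card (P : Subgroup G) = p ^ (m + 1)) (x : G)
    (hx : ¬ p ^ 2 ∣ (Subgroup.centralizer ({x} : Set G)).index) :
    ∃ T : Subgroup G, IsPGroup p T ∧ T ≤ Subgroup.centralizer ({x} : Set G) ∧
      Nat.card T = p ^ m := by
  have hp : p.Prime := Fact.out
  set C := Subgroup.centralizer ({x} : Set G) with hC
  have hdvdG : p ^ (m + 1) ∣ Nat.card G := hcard ▸ Subgroup.card_subgroup_dvd_card (P : Subgroup G)
  have hmul : Nat.card C * C.index = Nat.card G := C.card_mul_index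
  have hC0 : Nat.card C ≠ 0 := Nat.card_pos.ne'
  have hi0 : C.index ≠ 0 := Subgroup.index_ne_zero_of_finite
  have hdvdC : p ^ m ∣ Nat.card C := by
    rw [hp.pow_dvd_iff_le_factorization hC0]
    have h1 : m + 1 ≤ (Nat.card C * C.index).factorization p := by
      rw [← hp.pow_dvd_iff_le_factorization (Nat.mul_ne_zero hC0 hi0), hmul]
      exact hdvdG
    rw [Nat.factorization_mul hC0 hi0] at h1
    have h2 : ¬ 2 ≤ C.index.factorization p := by
      rw [← hp.pow_dvd_iff_le_factorization hi0]
      exact hx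
    simp only [Finsupp.coe_add, Pi.add_apply] at h1
    omega
  obtain ⟨K, hK⟩ := Sylow.exists_subgroup_card_pow_prime p hdvdC
  refine ⟨K.map C.subtype, ?_, ?_, ?_⟩
  · refine IsPGroup.of_card (n := m) ?_
    rw [Subgroup.card_map_of_injective C.subtype_injective, hK]
  · exact Subgroup.map_subtype_le K
  · rw [Subgroup.card_map_of_injective C.subtype_injective, hK]

/-- the final arithmetic contradiction. -/
theorem arith_contra {p a c g' : ℕ} (hp : 2 ≤ p) (ha : a = 1 ∨ p ≤ a)
    (h1 : p * a + g' * a ≤ (c + 1) * (g' + 1)) (h2 : (p + 1) * c + 1 ≤ p * a) : False := by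
  rcases ha with ha | ha
  · subst ha
    have hc : c = 0 := by
      by_contra hc
      have : 1 ≤ c := Nat.one_le_iff_ne_zero.2 hc
      nlinarith
    subst hc
    nlinarith
  · have h3 : (p + 1) * (c + 1) ≤ p * (a + 1) := by nlinarith
    have h4 : (p + 1) * (p * a + g' * a) ≤ (p + 1) * ((c + 1) * (g' + 1)) :=
      Nat.mul_le_mul_left _ h1
    have h5 : (p + 1) * ((c + 1) * (g' + 1)) ≤ (p * (a + 1)) * (g' + 1) := by
      rw [← mul_assoc]
      exact Nat.mul_le_mul_right _ h3
    have h6 : (p + 1) * (p * a + g' * a) ≤ (p * (a + 1)) * (g' + 1) := h4.trans h5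
    have h7 : g' * p ≤ g' * a := Nat.mul_le_mul_left _ ha
    have h8 : p * p * p ≤ p * p * a := Nat.mul_le_mul_left _ ha
    have h9 : 2 * p ≤ p * p := Nat.mul_le_mul_right _ hp
    have h10 : 2 * p * p ≤ p * p * p := by nlinarith
    nlinarith

/-- counting the nonidentity elements of `P` over the classes of elements of order `p`. -/
theorem orbit_count_bound {G : Type*} [Group G] [Finite G] {p : ℕ} [Fact p.Prime]
    (P : Sylow p G)
    (hmin : ∀ r : ℕ, r.Prime → r ∣ Nat.card G → p ≤ r)
    (hPc : ∀ a ∈ (P : Subgroup G), ∀ b ∈ (P : Subgroup G), a * b = b * a)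
    (hPe : ∀ a ∈ (P : Subgroup G), a ^ p = 1)
    (hfix : (P : Subgroup G) ⊓
      Subgroup.centralizer (Subgroup.normalizer (P : Set G) : Set G) = ⊥) :
    (p + 1) * Nat.card (Quotient (orbitRel (ConjAct G) (ordSub G p))) + 1
      ≤ Nat.card (P : Subgroup G) := by
  classical
  have hp : p.Prime := Fact.out
  let X := {u : G // u ∈ (P : Subgroup G) ∧ u ≠ 1}
  have : Fintype X := Fintype.ofFinite _
  have : Fintype (Quotient (orbitRel (ConjAct G) (ordSub G p))) := Fintype.ofFinite _
  let φ : X → Quotient (orbitRel (ConjAct G) (ordSub G p)) := fun u =>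
    Quotient.mk _ ⟨u.1, orderOf_eq_of_mem_pgroup P hPe P.2 u.2.1 u.2.2⟩
  -- conjugate elements have the same image
  have hφ : ∀ u v : X, (∃ g : G, v.1 = g * u.1 * g⁻¹) → φ v = φ u := by
    rintro u v ⟨g, hg⟩
    refine Quotient.sound ?_
    change (orbitRel (ConjAct G) (ordSub G p)) _ _
    rw [MulAction.orbitRel_apply, MulAction.mem_orbit_iff]
    refine ⟨ConjAct.toConjAct g, ?_⟩
    apply Subtype.ext
    rw [SubMulAction.val_smul, ConjAct.smul_def, ConjAct.ofConjAct_toConjAct]
    exact hg.symm
  have hsurj : ∀ ω, ∃ u, φ u = ω := by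
    intro ω
    induction ω using Quotient.inductionOn with
    | h t =>
      have ht : orderOf (t : G) = p := t.2
      have ht1 : (t : G) ≠ 1 := by
        intro h
        rw [h, orderOf_one] at ht
        exact hp.one_lt.ne ht
      have hz : IsPGroup p (Subgroup.zpowers (t : G)) := by
        refine IsPGroup.of_card (n := 1) ?_
        rw [Nat.card_zpowers, ht, pow_one]
      obtain ⟨Q, hQ⟩ := hz.exists_le_sylow
      obtain ⟨g, hg⟩ := MulAction.exists_smul_eq G P Q
      have htQ : (t : G) ∈ (Q : Subgroup G) := hQ (Subgroup.mem_zpowers _)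
      rw [← hg, Sylow.coe_subgroup_smul] at htQ
      obtain ⟨s, hs, hst⟩ := (Subgroup.mem_smul_pointwise_iff_exists _ _ _).1 htQ
      rw [MulAut.smul_def, MulAut.conj_apply] at hst
      have hs1 : s ≠ 1 := by
        intro h
        apply ht1
        rw [← hst, h]
        simp
      refine ⟨⟨s, hs, hs1⟩, ?_⟩
      refine Quotient.sound ?_
      change (orbitRel (ConjAct G) (ordSub G p)) _ _
      rw [MulAction.orbitRel_apply, MulAction.mem_orbit_iff]
      refine ⟨ConjAct.toConjAct g⁻¹, ?_⟩
      apply Subtype.ext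
      rw [SubMulAction.val_smul, ConjAct.smul_def, ConjAct.ofConjAct_toConjAct, ← hst]
      group
  have hfib : ∀ ω ∈ (Finset.univ : Finset (Quotient (orbitRel (ConjAct G) (ordSub G p)))),
      p + 1 ≤ (Finset.univ.filter (fun u : X => φ u = ω)).card := by
    intro ω _
    obtain ⟨u0, rfl⟩ := hsurj ω
    obtain ⟨S, hS, hSv⟩ := normalizer_orbit_bound P hmin hPc hfix u0.2.1 u0.2.2
    calc p + 1 ≤ S.card := hS
      _ = (S.subtype (fun u => u ∈ (P : Subgroup G) ∧ u ≠ 1)).card := by
        rw [Finset.card_subtype, Finset.filter_true_of_mem]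
        intro v hv
        exact ⟨(hSv v hv).1, (hSv v hv).2.1⟩
      _ ≤ _ := by
        apply Finset.card_le_card
        intro w hw
        rw [Finset.mem_subtype] at hw
        rw [Finset.mem_filter]
        exact ⟨Finset.mem_univ _, hφ u0 w (hSv _ hw).2.2⟩
  have hcount := Finset.mul_card_image_le_card_of_maps_to
    (s := (Finset.univ : Finset X))
    (t := (Finset.univ : Finset (Quotient (orbitRel (ConjAct G) (ordSub G p)))))
    (f := φ) (fun _ _ => Finset.mem_univ _) (p + 1) hfib
  rw [Finset.card_univ, Finset.card_univ, ← Nat.card_eq_fintype_card,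
    ← Nat.card_eq_fintype_card] at hcount
  -- `X` plus the identity injects into `P`
  let ι : Option X → (P : Subgroup G) := fun o =>
    match o with
    | none => 1
    | some u => ⟨u.1, u.2.1⟩
  have hι : Function.Injective ι := by
    intro o1 o2 h12
    cases o1 with
    | none =>
      cases o2 with
      | none => rfl
      | some u2 =>
        exfalso
        have := congrArg Subtype.val h12
        exact u2.2.2 this.symm
    | some u1 =>
      cases o2 with
      | none =>
        exfalso
        have := congrArg Subtype.val h12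
        exact u1.2.2 this
      | some u2 =>
        have := congrArg Subtype.val h12
        exact congrArg some (Subtype.ext this)
  have hle : Nat.card (Option X) ≤ Nat.card (P : Subgroup G) :=
    Nat.card_le_card_of_injective ι hι
  rw [Finite.card_option] at hle
  omega

/-- **Piece PB.**  If no class size is divisible by `p ^ 2`, `p` is the smallest prime divisor of
`|G|`, and a Sylow `p`-subgroup `P ≠ 1` is elementary abelian, then `P ∩ Z(N_G(P)) ≠ 1`. -/
theorem false_of_elemAb_sylow {G : Type*} [Group G] [Finite G] {p : ℕ} [Fact p.Prime]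
    (P : Sylow p G)
    (h : ∀ x : G, ¬ p ^ 2 ∣ (Subgroup.centralizer ({x} : Set G)).index)
    (hmin : ∀ r : ℕ, r.Prime → r ∣ Nat.card G → p ≤ r) (hP1 : (P : Subgroup G) ≠ ⊥)
    (hPc : ∀ a ∈ (P : Subgroup G), ∀ b ∈ (P : Subgroup G), a * b = b * a)
    (hPe : ∀ a ∈ (P : Subgroup G), a ^ p = 1)
    (hfix : (P : Subgroup G) ⊓
      Subgroup.centralizer (Subgroup.normalizer (P : Set G) : Set G) = ⊥) : False := by
  classical
  have hp : p.Prime := Fact.out
  obtain ⟨n, hn⟩ := P.2.exists_card_eq
  have hn0 : n ≠ 0 := by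
    rintro rfl
    rw [pow_zero] at hn
    exact hP1 (Subgroup.card_eq_one.1 hn)
  obtain ⟨m, rfl⟩ : ∃ m, n = m + 1 := Nat.exists_eq_succ_of_ne_zero hn0
  have hn' : Nat.card (P : Subgroup G) = p ^ (m + 1) := hn
  -- Burnside
  have : Finite (ConjAct G) := ‹Finite G›
  have : Fintype (ConjAct G) := Fintype.ofFinite _
  have : Fintype (Quotient (orbitRel (ConjAct G) (ordSub G p))) := Fintype.ofFinite _
  have : ∀ c : ConjAct G, Fintype (fixedBy (ordSub G p) c) := fun c => Fintype.ofFinite _
  have hB := MulAction.sum_card_fixedBy_eq_card_orbits_mul_card_group (ConjAct G) (ordSub G p)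
  -- lower bounds for the fixed point numbers
  have hlow : ∀ c : ConjAct G, p ^ m ≤ Fintype.card (fixedBy (ordSub G p) c) + 1 := by
    intro c
    obtain ⟨T, hT, hTx, hTc⟩ :=
      exists_pgroup_le_centralizer P hn' (ConjAct.ofConjAct c) (h _)
    have := card_le_fixedBy P hPe (ConjAct.ofConjAct c) T hT hTx
    rw [ConjAct.toConjAct_ofConjAct, hTc, Nat.card_eq_fintype_card] at this
    exact this
  have hlow1 : p * p ^ m ≤ Fintype.card (fixedBy (ordSub G p) (1 : ConjAct G)) + 1 := by
    have hle : (P : Subgroup G) ≤ Subgroup.centralizer ({(1 : G)} : Set G) := by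
      intro y _
      rw [Subgroup.mem_centralizer_iff]
      intro z hz
      rw [Set.mem_singleton_iff] at hz
      subst hz
      simp
    have := card_le_fixedBy P hPe (1 : G) (P : Subgroup G) P.2 hle
    rw [hn', pow_succ, mul_comm, Nat.card_eq_fintype_card] at this
    exact this
  -- the group order
  obtain ⟨g', hg'⟩ : ∃ g', Fintype.card (ConjAct G) = g' + 1 :=
    Nat.exists_eq_succ_of_ne_zero Fintype.card_ne_zero
  have hsum : p * p ^ m + g' * p ^ m ≤
      ∑ c : ConjAct G, (Fintype.card (fixedBy (ordSub G p) c) + 1) := by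
    rw [← Finset.add_sum_erase Finset.univ _ (Finset.mem_univ (1 : ConjAct G))]
    refine Nat.add_le_add hlow1 ?_
    have hcard : (Finset.univ.erase (1 : ConjAct G)).card = g' := by
      rw [Finset.card_erase_of_mem (Finset.mem_univ _), Finset.card_univ, hg']
      rfl
    calc g' * p ^ m = ∑ _c ∈ Finset.univ.erase (1 : ConjAct G), p ^ m := by
          rw [Finset.sum_const, hcard, smul_eq_mul]
      _ ≤ _ := Finset.sum_le_sum (fun c _ => hlow c)
  rw [Finset.sum_add_distrib, hB, Finset.sum_const, Finset.card_univ, smul_eq_mul, mul_one,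
    hg'] at hsum
  have h1 : p * p ^ m + g' * p ^ m ≤
      (Fintype.card (Quotient (orbitRel (ConjAct G) (ordSub G p))) + 1) * (g' + 1) := by
    calc p * p ^ m + g' * p ^ m
        ≤ Fintype.card (Quotient (orbitRel (ConjAct G) (ordSub G p))) * (g' + 1) + (g' + 1) := hsum
      _ = _ := by ring
  have h2 := orbit_count_bound P hmin hPc hPe hfix
  rw [hn', pow_succ, mul_comm (p ^ m) p, Nat.card_eq_fintype_card] at h2
  refine arith_contra (p := p) (a := p ^ m) hp.two_le ?_ h1 h2
  rcases Nat.eq_zero_or_pos m with hm | hm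
  · left
    rw [hm, pow_zero]
  · right
    calc p = p ^ 1 := (pow_one p).symm
      _ ≤ p ^ m := Nat.pow_le_pow_right hp.pos hm

end Cfsg.Agent.Lib.Helper9.SqF
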