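import Mathlib
import Cfsg.Agent.Lib.Helper9.TICB3
import Cfsg.Agent.Lib.Helper3.FP18

/-!
# S4064 Part B: the components form a Frobenius-type TI family (`Helper3.FP.Config`);
odd order is impossible when no component is self-normalizing.
-/

set_option autoImplicit false
set_option linter.unusedSectionVars false
set_option linter.style.haveILetI false

namespace Cfsg.Agent.Lib.Helper9.TIC

open Cfsg.Agent.Lib.Helper2.TIC
open scoped Pointwise

universe u

variable {G : Type u} [Group G]

theorem Comp.fam {M : Subgroup G} (hM : Comp M) (hne : Subgroup.normalizer (M : Set G) ≠ M) :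
    Cfsg.Agent.Lib.Helper3.FP.Fam M (Subgroup.normalizer (M : Set G)) where
  le := Subgroup.le_normalizer
  out := by
    by_contra h
    push Not at h
    exact hne (le_antisymm h Subgroup.le_normalizer)
  ne_bot := hM.ne_bot
  conj := fun x hx h hh => ((Subgroup.mem_normalizer_iff.1 hx) h).1 hh
  frob := fun h hh h1 x hx => hM.cent h hh h1 (Subgroup.mem_inf.1 hx).2
  ti := hM.ti
  norm := rfl

section TI

variable [Finite G]
  (hTI : ∀ x : G, Cfsg.IsTISubset (Subgroup.centralizer ({x} : Set G) : Set G))

include hTI

theorem config (hN : ∀ M : Subgroup G, Comp M → Subgroup.normalizer (M : Set G) ≠ M) :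
    Cfsg.Agent.Lib.Helper3.FP.Config (fun i : Rep G => i.sub)
      (fun i : Rep G => Subgroup.normalizer (i.sub : Set G)) where
  fam i := i.comp.fam (hN _ i.comp)
  cop _ _ hij := Rep.coprime hij
  cover := Rep.cover hTI

/-- (d2), odd order: impossible if no component is self-normalizing. -/
theorem false_of_odd [Nontrivial G] (hodd : Odd (Nat.card G))
    (hN : ∀ M : Subgroup G, Comp M → Subgroup.normalizer (M : Set G) ≠ M) : False := by
  classical
  haveI : Fintype G := Fintype.ofFinite G
  haveI : ∀ i : Rep G, Fintype (Subgroup.normalizer (i.sub : Set G)) := fun i => Fintype.ofFinite _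
  obtain ⟨g, hg⟩ := exists_ne (1 : G)
  obtain ⟨i, -⟩ := Rep.cover hTI g hg
  haveI : Nonempty (Rep G) := ⟨i⟩
  exact (config hTI hN).false' hodd

end TI

end Cfsg.Agent.Lib.Helper9.TIC
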