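import Mathlib
import Cfsg.Agent.Lib.Helper9.TICB2
import Cfsg.Agent.Lib.Helper6.TICC1

/-!
# S4064: glue Part B -> Part C (helper6's `HasComps`)
-/

set_option autoImplicit false

namespace Cfsg.Agent.Lib.Helper9.TIC

theorem Comp.isComp {G : Type*} [Group G] {M : Subgroup G} (hM : Comp M) :
    Cfsg.Agent.Lib.Helper6.TIC.IsComp M :=
  ⟨hM.ne_bot, hM.nilpotent, hM.cent⟩

theorem hasComps_of_ti {X : Type*} [Group X] [Finite X]
    (hTI : ∀ x : X, Cfsg.IsTISubset (Subgroup.centralizer ({x} : Set X) : Set X)) :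
    Cfsg.Agent.Lib.Helper6.TIC.HasComps X := by
  intro g hg
  obtain ⟨M, hM, hgM⟩ := exists_comp hTI hg
  exact ⟨M, hM.isComp, hgM⟩

/-- every subgroup of a TI group has components -/
theorem hasComps_subgroup {G : Type*} [Group G] [Finite G]
    (hTI : ∀ x : G, Cfsg.IsTISubset (Subgroup.centralizer ({x} : Set G) : Set G))
    (K : Subgroup G) : Cfsg.Agent.Lib.Helper6.TIC.HasComps K :=
  hasComps_of_ti (Cfsg.Agent.Lib.Helper2.TIC.ti_subgroup hTI K)

end Cfsg.Agent.Lib.Helper9.TIC
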