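import Mathlib
import Cfsg.Agent.Lib.Helper6.TdP

namespace Cfsg.Agent.Lib.Helper9.Db8

open Cfsg.Agent.Lib.Helper6.Td

theorem r_pos (x : ℤ) (h : 0 < x) : (0 : ℚ) < 1 / (x : ℚ) := by
  have : (0 : ℚ) < (x : ℚ) := by exact_mod_cast h
  positivity

theorem r_one (x : ℤ) (h : x = 1) : (1 : ℚ) / (x : ℚ) = 1 := by
  rw [h]; norm_num

theorem r_neg (x : ℤ) (n : ℚ) (hn : 0 < n) (hx : (x : ℚ) ≤ -n) : -(1 / n) ≤ 1 / (x : ℚ) := by
  have hu : n ≤ -(x : ℚ) := by linarith
  have h1 : 1 / (-(x : ℚ)) ≤ 1 / n := one_div_le_one_div_of_le hn hu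
  have h2 : 1 / (-(x : ℚ)) = -(1 / (x : ℚ)) := by rw [one_div, one_div, inv_neg]
  linarith

theorem d8_bound (e y y' z : ℤ) (g : ℕ) (hg0 : 0 < g) (he9 : e % 9 = 1) (hy9 : y % 9 = 1)
    (hy'9 : y' % 9 = 1) (hz9 : z % 9 = 2) (hpat : SignPat e y y' z)
    (hE2 : (1 : ℚ) + 1 / (e : ℚ) + 1 / (y : ℚ) + 1 / (y' : ℚ) + 8 / (z : ℚ) +
      1 / ((1 + y' + z : ℤ) : ℚ) + 1 / ((e + y + z : ℤ) : ℚ) + 1 / ((1 + y + z : ℤ) : ℚ) +
      1 / ((e + y' + z : ℤ) : ℚ) = 648 / (g : ℚ)) : g ≤ 4729 := by
  have h8 : (8 : ℚ) / (z : ℚ) = 8 * (1 / (z : ℚ)) := by ring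
  have key : (137 : ℚ) / 1000 ≤ 648 / (g : ℚ) := by
    rw [← hE2, h8]
    unfold SignPat at hpat
    rcases hpat with ⟨p1, p2, p3, p4, p5, p6, p7, p8⟩ | ⟨p1, p2, p3, p4, p5, p6, p7, p8⟩ |
      ⟨p1, p2, p3, p4, p5, p6, p7, p8⟩ | ⟨p1, p2, p3, p4, p5, p6, p7, p8⟩ |
      ⟨p1, p2, p3, p4, p5, p6, p7, p8⟩ | ⟨p1, p2, p3, p4, p5, p6, p7, p8⟩
    · -- pattern 1
      linarith [r_pos e p1, r_pos y p2, r_pos y' p3, r_pos z p4, r_pos _ p5, r_pos _ p6,
        r_pos _ p7, r_pos _ p8]
    · -- pattern 2
      have d1 : 1 + y' + z ≤ -5 := by omega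
      have d2 : e + y + z ≤ -5 := by omega
      have d3 : 1 + y + z ≤ -5 := by omega
      have d4 : e + y' + z ≤ -5 := by omega
      by_cases he1 : e = 1
      · by_cases hyy : y = 1 ∧ y' = 1
        · have hz : z ≤ -7 := by omega
          linarith [r_one e he1, r_one y hyy.1, r_one y' hyy.2,
            r_neg z 7 (by norm_num) (by exact_mod_cast hz),
            r_neg _ 5 (by norm_num) (by exact_mod_cast d1),
            r_neg _ 5 (by norm_num) (by exact_mod_cast d2),
            r_neg _ 5 (by norm_num) (by exact_mod_cast d3),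
            r_neg _ 5 (by norm_num) (by exact_mod_cast d4)]
        · have hz : z ≤ -16 := by omega
          linarith [r_one e he1, r_pos y p2, r_pos y' p3,
            r_neg z 16 (by norm_num) (by exact_mod_cast hz),
            r_neg _ 5 (by norm_num) (by exact_mod_cast d1),
            r_neg _ 5 (by norm_num) (by exact_mod_cast d2),
            r_neg _ 5 (by norm_num) (by exact_mod_cast d3),
            r_neg _ 5 (by norm_num) (by exact_mod_cast d4)]
      · have he10 : 10 ≤ e := by omega
        have d1' : 1 + y' + z ≤ -14 := by omega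
        have d3' : 1 + y + z ≤ -14 := by omega
        by_cases hy1 : y = 1 ∨ y' = 1
        · have hz : z ≤ -16 := by omega
          rcases hy1 with hy1 | hy1
          · linarith [r_pos e p1, r_one y hy1, r_pos y' p3,
              r_neg z 16 (by norm_num) (by exact_mod_cast hz),
              r_neg _ 14 (by norm_num) (by exact_mod_cast d1'),
              r_neg _ 5 (by norm_num) (by exact_mod_cast d2),
              r_neg _ 14 (by norm_num) (by exact_mod_cast d3'),
              r_neg _ 5 (by norm_num) (by exact_mod_cast d4)]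
          · linarith [r_pos e p1, r_pos y p2, r_one y' hy1,
              r_neg z 16 (by norm_num) (by exact_mod_cast hz),
              r_neg _ 14 (by norm_num) (by exact_mod_cast d1'),
              r_neg _ 5 (by norm_num) (by exact_mod_cast d2),
              r_neg _ 14 (by norm_num) (by exact_mod_cast d3'),
              r_neg _ 5 (by norm_num) (by exact_mod_cast d4)]
        · have hz : z ≤ -25 := by omega
          linarith [r_pos e p1, r_pos y p2, r_pos y' p3,
            r_neg z 25 (by norm_num) (by exact_mod_cast hz),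
            r_neg _ 14 (by norm_num) (by exact_mod_cast d1'),
            r_neg _ 5 (by norm_num) (by exact_mod_cast d2),
            r_neg _ 14 (by norm_num) (by exact_mod_cast d3'),
            r_neg _ 5 (by norm_num) (by exact_mod_cast d4)]
    · -- pattern 3
      have he : e ≤ -8 := by omega
      have d2 : e + y + z ≤ -5 := by omega
      have d4 : e + y' + z ≤ -5 := by omega
      linarith [r_neg e 8 (by norm_num) (by exact_mod_cast he), r_pos y p2, r_pos y' p3,
        r_pos z p4, r_pos _ p5, r_neg _ 5 (by norm_num) (by exact_mod_cast d2), r_pos _ p7,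
        r_neg _ 5 (by norm_num) (by exact_mod_cast d4)]
    · -- pattern 4
      have hy : y ≤ -8 := by omega
      have d2 : e + y + z ≤ -5 := by omega
      have d3 : 1 + y + z ≤ -5 := by omega
      linarith [r_pos e p1, r_neg y 8 (by norm_num) (by exact_mod_cast hy), r_pos y' p3,
        r_pos z p4, r_pos _ p5, r_neg _ 5 (by norm_num) (by exact_mod_cast d2),
        r_neg _ 5 (by norm_num) (by exact_mod_cast d3), r_pos _ p8]
    · -- pattern 5
      have hy' : y' ≤ -8 := by omega
      have d1 : 1 + y' + z ≤ -5 := by omega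
      have d4 : e + y' + z ≤ -5 := by omega
      linarith [r_pos e p1, r_pos y p2, r_neg y' 8 (by norm_num) (by exact_mod_cast hy'),
        r_pos z p4, r_neg _ 5 (by norm_num) (by exact_mod_cast d1), r_pos _ p6, r_pos _ p7,
        r_neg _ 5 (by norm_num) (by exact_mod_cast d4)]
    · -- pattern 6
      have d1 : 1 + y' + z ≤ -5 := by omega
      have d2 : e + y + z ≤ -5 := by omega
      have d3 : 1 + y + z ≤ -5 := by omega
      have d4 : e + y' + z ≤ -5 := by omega
      by_cases he1 : e = 1
      · have hy : y ≤ -8 := by omega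
        have hy' : y' ≤ -8 := by omega
        linarith [r_one e he1, r_neg y 8 (by norm_num) (by exact_mod_cast hy),
          r_neg y' 8 (by norm_num) (by exact_mod_cast hy'), r_pos z p4,
          r_neg _ 5 (by norm_num) (by exact_mod_cast d1),
          r_neg _ 5 (by norm_num) (by exact_mod_cast d2),
          r_neg _ 5 (by norm_num) (by exact_mod_cast d3),
          r_neg _ 5 (by norm_num) (by exact_mod_cast d4)]
      · have he10 : 10 ≤ e := by omega
        have hz2 : 2 ≤ z := by omega
        have hy : y ≤ -17 := by omega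
        have hy' : y' ≤ -17 := by omega
        have d1' : 1 + y' + z ≤ -14 := by omega
        have d3' : 1 + y + z ≤ -14 := by omega
        linarith [r_pos e p1, r_neg y 17 (by norm_num) (by exact_mod_cast hy),
          r_neg y' 17 (by norm_num) (by exact_mod_cast hy'), r_pos z p4,
          r_neg _ 14 (by norm_num) (by exact_mod_cast d1'),
          r_neg _ 5 (by norm_num) (by exact_mod_cast d2),
          r_neg _ 14 (by norm_num) (by exact_mod_cast d3'),
          r_neg _ 5 (by norm_num) (by exact_mod_cast d4)]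
  have hgq : (0 : ℚ) < (g : ℚ) := by exact_mod_cast hg0
  rw [le_div_iff₀ hgq] at key
  have h2 : (137 : ℚ) * (g : ℚ) ≤ 648000 := by linarith
  have h3 : 137 * g ≤ 648000 := by exact_mod_cast h2
  omega

end Cfsg.Agent.Lib.Helper9.Db8
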