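import Mathlib

namespace Cfsg.Agent.Lib.Helper9.Qc9

/-- A vector of norm 4 with an odd inner product against something has entries in `{0, ±1}`. -/
theorem entry_bound {ι : Type*} [Fintype ι] [DecidableEq ι] (V W : ι → ℤ)
    (hV : ∑ i, V i * V i = 4) (hodd : (∑ i, V i * W i) % 2 = 1) (j : ι) :
    -1 ≤ V j ∧ V j ≤ 1 := by
  have hle : V j * V j ≤ 4 := by
    rw [← hV]
    exact Finset.single_le_sum (f := fun i => V i * V i) (fun i _ => mul_self_nonneg (V i))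
      (Finset.mem_univ j)
  have h2 : -2 ≤ V j ∧ V j ≤ 2 := by constructor <;> nlinarith
  by_contra hcon
  have hVj : V j = 2 ∨ V j = -2 := by omega
  have h4 : V j * V j = 4 := by
    rcases hVj with h | h <;> rw [h] <;> norm_num
  have hrest : ∀ i, i ≠ j → V i = 0 := by
    intro i hij
    have hsplit := Finset.add_sum_erase Finset.univ (fun i => V i * V i) (Finset.mem_univ j)
    have h0 : ∑ i ∈ Finset.univ.erase j, V i * V i = 0 := by linarith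
    have := (Finset.sum_eq_zero_iff_of_nonneg (fun i _ => mul_self_nonneg (V i))).mp h0 i
      (Finset.mem_erase.mpr ⟨hij, Finset.mem_univ i⟩)
    exact mul_self_eq_zero.mp this
  have hsum : ∑ i, V i * W i = V j * W j := by
    rw [Finset.sum_eq_single j]
    · intro i _ hij
      rw [hrest i hij, zero_mul]
    · intro h
      exact absurd (Finset.mem_univ j) h
  rw [hsum] at hodd
  rcases hVj with h | h <;> rw [h] at hodd <;> omega

/-- The eleven admissible row patterns, with their code `k` and sign `e`. -/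
def RowP (e : ℤ) (k : ℕ) (w x y z : ℤ) : Prop :=
  (k = 1 ∧ w = e ∧ x = 0 ∧ y = 0 ∧ z = 0) ∨ (k = 2 ∧ w = 0 ∧ x = e ∧ y = 0 ∧ z = 0) ∨
  (k = 4 ∧ w = 0 ∧ x = 0 ∧ y = e ∧ z = 0) ∨ (k = 8 ∧ w = 0 ∧ x = 0 ∧ y = 0 ∧ z = e) ∨
  (k = 3 ∧ w = e ∧ x = e ∧ y = 0 ∧ z = 0) ∨ (k = 12 ∧ w = 0 ∧ x = 0 ∧ y = e ∧ z = e) ∨
  (k = 5 ∧ w = e ∧ x = 0 ∧ y = e ∧ z = 0) ∨ (k = 9 ∧ w = e ∧ x = 0 ∧ y = 0 ∧ z = e) ∨
  (k = 6 ∧ w = 0 ∧ x = e ∧ y = e ∧ z = 0) ∨ (k = 10 ∧ w = 0 ∧ x = e ∧ y = 0 ∧ z = e) ∨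
  (k = 15 ∧ w = e ∧ x = e ∧ y = e ∧ z = e)

theorem row_sign (e : ℤ) (w x y z : ℤ) (hw : w = 0 ∨ w = e) (hx : x = 0 ∨ x = e)
    (hy : y = 0 ∨ y = e) (hz : z = 0 ∨ z = e)
    (h1 : 2 * (y + z) - (w + x) ≠ 0) (h2 : 2 * (w + x) - (y + z) ≠ 0) :
    ∃ k : ℕ, RowP e k w x y z := by
  unfold RowP
  rcases hw with rfl | rfl <;> rcases hx with rfl | rfl <;> rcases hy with rfl | rfl <;>
    rcases hz with rfl | rfl
  · omega
  · exact ⟨8, by simp⟩
  · exact ⟨4, by simp⟩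
  · exact ⟨12, by simp⟩
  · exact ⟨2, by simp⟩
  · exact ⟨10, by simp⟩
  · exact ⟨6, by simp⟩
  · omega
  · exact ⟨1, by simp⟩
  · exact ⟨9, by simp⟩
  · exact ⟨5, by simp⟩
  · omega
  · exact ⟨3, by simp⟩
  · omega
  · omega
  · exact ⟨15, by simp⟩

theorem row_exists (w x y z : ℤ) (hw : -1 ≤ w ∧ w ≤ 1) (hx : -1 ≤ x ∧ x ≤ 1)
    (hy : -1 ≤ y ∧ y ≤ 1) (hz : -1 ≤ z ∧ z ≤ 1)
    (hwy : -1 ≤ w - y ∧ w - y ≤ 1) (hwz : -1 ≤ w - z ∧ w - z ≤ 1)
    (hxy : -1 ≤ x - y ∧ x - y ≤ 1) (hxz : -1 ≤ x - z ∧ x - z ≤ 1)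
    (h1 : 2 * (y + z) - (w + x) ≠ 0) (h2 : 2 * (w + x) - (y + z) ≠ 0) :
    ∃ (e : ℤ) (k : ℕ), (e = 1 ∨ e = -1) ∧ RowP e k w x y z := by
  by_cases hs : 0 < w + x + y + z
  · obtain ⟨k, hk⟩ := row_sign 1 w x y z (by omega) (by omega) (by omega) (by omega) h1 h2
    exact ⟨1, k, Or.inl rfl, hk⟩
  · obtain ⟨k, hk⟩ := row_sign (-1) w x y z (by omega) (by omega) (by omega) (by omega) h1 h2
    exact ⟨-1, k, Or.inr rfl, hk⟩

theorem row_ids {e : ℤ} {k : ℕ} {w x y z : ℤ} (he : e = 1 ∨ e = -1) (h : RowP e k w x y z) :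
    w * w = (if k = 1 then 1 else 0) + (if k = 3 then 1 else 0) + (if k = 5 then 1 else 0) +
      (if k = 9 then 1 else 0) + (if k = 15 then 1 else 0) ∧
    x * x = (if k = 2 then 1 else 0) + (if k = 3 then 1 else 0) + (if k = 6 then 1 else 0) +
      (if k = 10 then 1 else 0) + (if k = 15 then 1 else 0) ∧
    y * y = (if k = 4 then 1 else 0) + (if k = 12 then 1 else 0) + (if k = 5 then 1 else 0) +
      (if k = 6 then 1 else 0) + (if k = 15 then 1 else 0) ∧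
    z * z = (if k = 8 then 1 else 0) + (if k = 12 then 1 else 0) + (if k = 9 then 1 else 0) +
      (if k = 10 then 1 else 0) + (if k = 15 then 1 else 0) ∧
    w * x = (if k = 3 then 1 else 0) + (if k = 15 then 1 else 0) ∧
    y * z = (if k = 12 then 1 else 0) + (if k = 15 then 1 else 0) ∧
    w * y = (if k = 5 then 1 else 0) + (if k = 15 then 1 else 0) ∧
    w * z = (if k = 9 then 1 else 0) + (if k = 15 then 1 else 0) ∧
    x * y = (if k = 6 then 1 else 0) + (if k = 15 then 1 else 0) ∧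
    x * z = (if k = 10 then 1 else 0) + (if k = 15 then 1 else 0) := by
  unfold RowP at h
  rcases he with rfl | rfl <;>
    rcases h with ⟨rfl, rfl, rfl, rfl, rfl⟩ | ⟨rfl, rfl, rfl, rfl, rfl⟩ | ⟨rfl, rfl, rfl, rfl, rfl⟩ |
      ⟨rfl, rfl, rfl, rfl, rfl⟩ | ⟨rfl, rfl, rfl, rfl, rfl⟩ | ⟨rfl, rfl, rfl, rfl, rfl⟩ |
      ⟨rfl, rfl, rfl, rfl, rfl⟩ | ⟨rfl, rfl, rfl, rfl, rfl⟩ | ⟨rfl, rfl, rfl, rfl, rfl⟩ |
      ⟨rfl, rfl, rfl, rfl, rfl⟩ | ⟨rfl, rfl, rfl, rfl, rfl⟩ <;> simp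

theorem row_codes {e : ℤ} {k : ℕ} {w x y z : ℤ} (h : RowP e k w x y z) :
    k = 1 ∨ k = 2 ∨ k = 4 ∨ k = 8 ∨ k = 3 ∨ k = 12 ∨ k = 5 ∨ k = 9 ∨ k = 6 ∨ k = 10 ∨ k = 15 := by
  unfold RowP at h
  omega

theorem exists_unique_of_sum_one {ι : Type*} [Fintype ι] [DecidableEq ι] (k : ι → ℕ) (c : ℕ)
    (h : ∑ i, (if k i = c then (1 : ℤ) else 0) = 1) :
    ∃ j, k j = c ∧ ∀ i, k i = c → i = j := by
  rw [Finset.sum_boole] at h
  have h1 : (Finset.univ.filter (fun i => k i = c)).card = 1 := by exact_mod_cast h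
  obtain ⟨j, hj⟩ := Finset.card_eq_one.mp h1
  have hmem : ∀ i, k i = c ↔ i = j := by
    intro i
    have : i ∈ Finset.univ.filter (fun i => k i = c) ↔ i ∈ ({j} : Finset ι) := by rw [hj]
    simpa using this
  exact ⟨j, (hmem j).mpr rfl, fun i hi => (hmem i).mp hi⟩

theorem none_of_sum_zero {ι : Type*} [Fintype ι] [DecidableEq ι] (k : ι → ℕ) (c : ℕ)
    (h : ∑ i, (if k i = c then (1 : ℤ) else 0) = 0) (i : ι) : k i ≠ c := by
  rw [Finset.sum_boole] at h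
  have h1 : (Finset.univ.filter (fun i => k i = c)).card = 0 := by exact_mod_cast h
  rw [Finset.card_eq_zero] at h1
  intro hi
  have : i ∈ Finset.univ.filter (fun i => k i = c) := by simp [hi]
  rw [h1] at this
  exact absurd this (Finset.notMem_empty i)

theorem quad_comb {ι : Type*} [Fintype ι] [DecidableEq ι] (A B C D : ι → ℤ)
    (hAA : ∑ i, A i * A i = 4) (hBB : ∑ i, B i * B i = 4) (hCC : ∑ i, C i * C i = 4)
    (hDD : ∑ i, D i * D i = 4) (hAB : ∑ i, A i * B i = 1) (hCD : ∑ i, C i * D i = 1)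
    (hAC : ∑ i, A i * C i = 2) (hAD : ∑ i, A i * D i = 2) (hBC : ∑ i, B i * C i = 2)
    (hBD : ∑ i, B i * D i = 2) (i₀ : ι) (h0 : A i₀ = 1 ∧ B i₀ = 0 ∧ C i₀ = 1 ∧ D i₀ = 0)
    (hnv : ∀ i, 2 * (C i + D i) - (A i + B i) ≠ 0 ∧ 2 * (A i + B i) - (C i + D i) ≠ 0) :
    ∃ (iE iY iY' iZ i1 i2 i3 i4 : ι) (e : ι → ℤ), (∀ i, e i = 1 ∨ e i = -1) ∧
      [i₀, iE, iY, iY', iZ, i1, i2, i3, i4].Nodup ∧
      (∀ i, i ∈ [i₀, iE, iY, iY', iZ, i1, i2, i3, i4]) ∧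
      (A iE = 0 ∧ B iE = e iE ∧ C iE = 0 ∧ D iE = e iE) ∧
      (A iY = 0 ∧ B iY = e iY ∧ C iY = e iY ∧ D iY = 0) ∧
      (A iY' = e iY' ∧ B iY' = 0 ∧ C iY' = 0 ∧ D iY' = e iY') ∧
      (A iZ = e iZ ∧ B iZ = e iZ ∧ C iZ = e iZ ∧ D iZ = e iZ) ∧
      (A i1 = e i1 ∧ B i1 = 0 ∧ C i1 = 0 ∧ D i1 = 0) ∧
      (A i2 = 0 ∧ B i2 = e i2 ∧ C i2 = 0 ∧ D i2 = 0) ∧
      (A i3 = 0 ∧ B i3 = 0 ∧ C i3 = e i3 ∧ D i3 = 0) ∧
      (A i4 = 0 ∧ B i4 = 0 ∧ C i4 = 0 ∧ D i4 = e i4) := by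
  have comm : ∀ (U V : ι → ℤ), ∑ i, U i * V i = ∑ i, V i * U i :=
    fun U V => Finset.sum_congr rfl (fun i _ => mul_comm _ _)
  have hBA : ∑ i, B i * A i = 1 := by rw [comm, hAB]
  have hDC : ∑ i, D i * C i = 1 := by rw [comm, hCD]
  have hCA : ∑ i, C i * A i = 2 := by rw [comm, hAC]
  have hDA : ∑ i, D i * A i = 2 := by rw [comm, hAD]
  have hCB : ∑ i, C i * B i = 2 := by rw [comm, hBC]
  have hDB : ∑ i, D i * B i = 2 := by rw [comm, hBD]
  have diffsq : ∀ (U V : ι → ℤ), ∑ i, (U i - V i) * (U i - V i) =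
      ∑ i, U i * U i - 2 * ∑ i, U i * V i + ∑ i, V i * V i := by
    intro U V
    rw [Finset.mul_sum, ← Finset.sum_sub_distrib, ← Finset.sum_add_distrib]
    exact Finset.sum_congr rfl (fun i _ => by ring)
  have diffmul : ∀ (U V W : ι → ℤ), ∑ i, (U i - V i) * W i =
      ∑ i, U i * W i - ∑ i, V i * W i := by
    intro U V W
    rw [← Finset.sum_sub_distrib]
    exact Finset.sum_congr rfl (fun i _ => by ring)
  have bA := entry_bound A B hAA (by rw [hAB]; norm_num)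
  have bB := entry_bound B A hBB (by rw [hBA]; norm_num)
  have bC := entry_bound C D hCC (by rw [hCD]; norm_num)
  have bD := entry_bound D C hDD (by rw [hDC]; norm_num)
  have sAC : ∑ i, (A i - C i) * (A i - C i) = 4 := by rw [diffsq, hAA, hAC, hCC]; norm_num
  have sAD : ∑ i, (A i - D i) * (A i - D i) = 4 := by rw [diffsq, hAA, hAD, hDD]; norm_num
  have sBC : ∑ i, (B i - C i) * (B i - C i) = 4 := by rw [diffsq, hBB, hBC, hCC]; norm_num
  have sBD : ∑ i, (B i - D i) * (B i - D i) = 4 := by rw [diffsq, hBB, hBD, hDD]; norm_num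
  have oAC : (∑ i, (A i - C i) * B i) % 2 = 1 := by rw [diffmul, hAB, hCB]; norm_num
  have oAD : (∑ i, (A i - D i) * B i) % 2 = 1 := by rw [diffmul, hAB, hDB]; norm_num
  have oBC : (∑ i, (B i - C i) * A i) % 2 = 1 := by rw [diffmul, hBA, hCA]; norm_num
  have oBD : (∑ i, (B i - D i) * A i) % 2 = 1 := by rw [diffmul, hBA, hDA]; norm_num
  have bAC := entry_bound (fun i => A i - C i) B sAC oAC
  have bAD := entry_bound (fun i => A i - D i) B sAD oAD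
  have bBC := entry_bound (fun i => B i - C i) A sBC oBC
  have bBD := entry_bound (fun i => B i - D i) A sBD oBD
  have hrow : ∀ i, ∃ (e : ℤ) (k : ℕ), (e = 1 ∨ e = -1) ∧ RowP e k (A i) (B i) (C i) (D i) :=
    fun i => row_exists _ _ _ _ (bA i) (bB i) (bC i) (bD i) (bAC i) (bAD i) (bBC i) (bBD i)
      (hnv i).1 (hnv i).2
  choose e k he hk using hrow
  have hNnn : ∀ c : ℕ, 0 ≤ ∑ i, (if k i = c then (1 : ℤ) else 0) :=
    fun c => Finset.sum_nonneg (fun i _ => by split_ifs <;> norm_num)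
  have sA := hAA
  rw [Finset.sum_congr rfl (fun i _ => (row_ids (he i) (hk i)).1)] at sA
  have sB := hBB
  rw [Finset.sum_congr rfl (fun i _ => (row_ids (he i) (hk i)).2.1)] at sB
  have sC := hCC
  rw [Finset.sum_congr rfl (fun i _ => (row_ids (he i) (hk i)).2.2.1)] at sC
  have sD := hDD
  rw [Finset.sum_congr rfl (fun i _ => (row_ids (he i) (hk i)).2.2.2.1)] at sD
  have sAB := hAB
  rw [Finset.sum_congr rfl (fun i _ => (row_ids (he i) (hk i)).2.2.2.2.1)] at sAB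
  have sCD := hCD
  rw [Finset.sum_congr rfl (fun i _ => (row_ids (he i) (hk i)).2.2.2.2.2.1)] at sCD
  have sAC' := hAC
  rw [Finset.sum_congr rfl (fun i _ => (row_ids (he i) (hk i)).2.2.2.2.2.2.1)] at sAC'
  have sAD' := hAD
  rw [Finset.sum_congr rfl (fun i _ => (row_ids (he i) (hk i)).2.2.2.2.2.2.2.1)] at sAD'
  have sBC' := hBC
  rw [Finset.sum_congr rfl (fun i _ => (row_ids (he i) (hk i)).2.2.2.2.2.2.2.2.1)] at sBC'
  have sBD' := hBD
  rw [Finset.sum_congr rfl (fun i _ => (row_ids (he i) (hk i)).2.2.2.2.2.2.2.2.2)] at sBD'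
  simp only [Finset.sum_add_distrib] at sA sB sC sD sAB sCD sAC' sAD' sBC' sBD'
  have g1 := hNnn 1
  have g2 := hNnn 2
  have g4 := hNnn 4
  have g8 := hNnn 8
  have g3 := hNnn 3
  have g12 := hNnn 12
  have g5 := hNnn 5
  have g9 := hNnn 9
  have g6 := hNnn 6
  have g10 := hNnn 10
  have g15 := hNnn 15
  have n15 : ∑ i, (if k i = 15 then (1 : ℤ) else 0) = 1 := by omega
  have n3 : ∑ i, (if k i = 3 then (1 : ℤ) else 0) = 0 := by omega
  have n12 : ∑ i, (if k i = 12 then (1 : ℤ) else 0) = 0 := by omega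
  have n5 : ∑ i, (if k i = 5 then (1 : ℤ) else 0) = 1 := by omega
  have n9 : ∑ i, (if k i = 9 then (1 : ℤ) else 0) = 1 := by omega
  have n6 : ∑ i, (if k i = 6 then (1 : ℤ) else 0) = 1 := by omega
  have n10 : ∑ i, (if k i = 10 then (1 : ℤ) else 0) = 1 := by omega
  have n1 : ∑ i, (if k i = 1 then (1 : ℤ) else 0) = 1 := by omega
  have n2 : ∑ i, (if k i = 2 then (1 : ℤ) else 0) = 1 := by omega
  have n4 : ∑ i, (if k i = 4 then (1 : ℤ) else 0) = 1 := by omega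
  have n8 : ∑ i, (if k i = 8 then (1 : ℤ) else 0) = 1 := by omega
  obtain ⟨j15, h15, u15⟩ := exists_unique_of_sum_one k 15 n15
  obtain ⟨j5, h5, u5⟩ := exists_unique_of_sum_one k 5 n5
  obtain ⟨j9, h9, u9⟩ := exists_unique_of_sum_one k 9 n9
  obtain ⟨j6, h6, u6⟩ := exists_unique_of_sum_one k 6 n6
  obtain ⟨j10, h10, u10⟩ := exists_unique_of_sum_one k 10 n10
  obtain ⟨j1, h1, u1⟩ := exists_unique_of_sum_one k 1 n1
  obtain ⟨j2, h2, u2⟩ := exists_unique_of_sum_one k 2 n2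
  obtain ⟨j4, h4, u4⟩ := exists_unique_of_sum_one k 4 n4
  obtain ⟨j8, h8, u8⟩ := exists_unique_of_sum_one k 8 n8
  have hk0 : k i₀ = 5 := by
    have h := hk i₀
    rw [h0.1, h0.2.1, h0.2.2.1, h0.2.2.2] at h
    unfold RowP at h
    have := he i₀
    omega
  have p10 : A j10 = 0 ∧ B j10 = e j10 ∧ C j10 = 0 ∧ D j10 = e j10 := by
    have h := hk j10
    rw [h10] at h
    unfold RowP at h
    omega
  have p6 : A j6 = 0 ∧ B j6 = e j6 ∧ C j6 = e j6 ∧ D j6 = 0 := by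
    have h := hk j6
    rw [h6] at h
    unfold RowP at h
    omega
  have p9 : A j9 = e j9 ∧ B j9 = 0 ∧ C j9 = 0 ∧ D j9 = e j9 := by
    have h := hk j9
    rw [h9] at h
    unfold RowP at h
    omega
  have p15 : A j15 = e j15 ∧ B j15 = e j15 ∧ C j15 = e j15 ∧ D j15 = e j15 := by
    have h := hk j15
    rw [h15] at h
    unfold RowP at h
    omega
  have p1 : A j1 = e j1 ∧ B j1 = 0 ∧ C j1 = 0 ∧ D j1 = 0 := by
    have h := hk j1
    rw [h1] at h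
    unfold RowP at h
    omega
  have p2 : A j2 = 0 ∧ B j2 = e j2 ∧ C j2 = 0 ∧ D j2 = 0 := by
    have h := hk j2
    rw [h2] at h
    unfold RowP at h
    omega
  have p4 : A j4 = 0 ∧ B j4 = 0 ∧ C j4 = e j4 ∧ D j4 = 0 := by
    have h := hk j4
    rw [h4] at h
    unfold RowP at h
    omega
  have p8 : A j8 = 0 ∧ B j8 = 0 ∧ C j8 = 0 ∧ D j8 = e j8 := by
    have h := hk j8
    rw [h8] at h
    unfold RowP at h
    omega
  refine ⟨j10, j6, j9, j15, j1, j2, j4, j8, e, he, ?_, ?_, p10, p6, p9, p15, p1, p2, p4, p8⟩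
  · apply List.Nodup.of_map k
    simp only [List.map_cons, List.map_nil, hk0, h10, h6, h9, h15, h1, h2, h4, h8]
    decide
  · intro i
    rcases row_codes (hk i) with h | h | h | h | h | h | h | h | h | h | h
    · rw [u1 i h]; simp
    · rw [u2 i h]; simp
    · rw [u4 i h]; simp
    · rw [u8 i h]; simp
    · exact absurd h (none_of_sum_zero k 3 n3 i)
    · exact absurd h (none_of_sum_zero k 12 n12 i)
    · rw [(u5 i h).trans (u5 i₀ hk0).symm]; simp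
    · rw [u9 i h]; simp
    · rw [u6 i h]; simp
    · rw [u10 i h]; simp
    · rw [u15 i h]; simp

end Cfsg.Agent.Lib.Helper9.Qc9
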