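import Mathlib
import Cfsg.Agent.Lib.Helper9.Qc9A
import Cfsg.Agent.Lib.Helper9.Db8A
import Cfsg.Agent.Lib.Helper7.D8Search
import Cfsg.Agent.Lib.Helper6.TdP

namespace Cfsg.Agent.Lib.Helper9.Dc8

open Cfsg.Agent.Lib.Helper9.Qc9 Cfsg.Agent.Lib.Helper6.Td

/-- Row patterns including the zero row (code `0`). -/
def RowP0 (e : ℤ) (k : ℕ) (w x y z : ℤ) : Prop :=
  RowP e k w x y z ∨ (k = 0 ∧ w = 0 ∧ x = 0 ∧ y = 0 ∧ z = 0)

theorem row_exists0 (w x y z : ℤ) (hw : -1 ≤ w ∧ w ≤ 1) (hx : -1 ≤ x ∧ x ≤ 1)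
    (hy : -1 ≤ y ∧ y ≤ 1) (hz : -1 ≤ z ∧ z ≤ 1)
    (hwy : -1 ≤ w - y ∧ w - y ≤ 1) (hwz : -1 ≤ w - z ∧ w - z ≤ 1)
    (hxy : -1 ≤ x - y ∧ x - y ≤ 1) (hxz : -1 ≤ x - z ∧ x - z ≤ 1)
    (h12 : (w ≠ 0 ∨ x ≠ 0 ∨ y ≠ 0 ∨ z ≠ 0) →
      2 * (y + z) - (w + x) ≠ 0 ∧ 2 * (w + x) - (y + z) ≠ 0) :
    ∃ (e : ℤ) (k : ℕ), (e = 1 ∨ e = -1) ∧ RowP0 e k w x y z := by
  by_cases h : w ≠ 0 ∨ x ≠ 0 ∨ y ≠ 0 ∨ z ≠ 0
  · obtain ⟨e, k, he, hk⟩ := row_exists w x y z hw hx hy hz hwy hwz hxy hxz (h12 h).1 (h12 h).2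
    exact ⟨e, k, he, Or.inl hk⟩
  · refine ⟨1, 0, Or.inl rfl, Or.inr ⟨rfl, ?_, ?_, ?_, ?_⟩⟩ <;> omega

theorem row_ids0 {e : ℤ} {k : ℕ} {w x y z : ℤ} (he : e = 1 ∨ e = -1) (h : RowP0 e k w x y z) :
    w * w = (if k = 1 then 1 else 0) + (if k = 3 then 1 else 0) + (if k = 5 then 1 else 0) +
      (if k = 9 then 1 else 0) + (if k = 15 then 1 else 0) ∧
    x * x = (if k = 2 then 1 else 0) + (if k = 3 then 1 else 0) + (if k = 6 then 1 else 0) +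
      (if k = 10 then 1 else 0) + (if k = 15 then 1 else 0) ∧
    y * y = (if k = 4 then 1 else 0) + (if k = 12 then 1 else 0) + (if k = 5 then 1 else 0) +
      (if k = 6 then 1 else 0) + (if k = 15 then 1 else 0) ∧
    z * z = (if k = 8 then 1 else 0) + (if k = 12 then 1 else 0) + (if k = 9 then 1 else 0) +
      (if k = 10 then 1 else 0) + (if k = 15 then 1 else 0) ∧
    w * x = (if k = 3 then 1 else 0) + (if k = 15 then 1 else 0) ∧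
    y * z = (if k = 12 then 1 else 0) + (if k = 15 then 1 else 0) ∧
    w * y = (if k = 5 then 1 else 0) + (if k = 15 then 1 else 0) ∧
    w * z = (if k = 9 then 1 else 0) + (if k = 15 then 1 else 0) ∧
    x * y = (if k = 6 then 1 else 0) + (if k = 15 then 1 else 0) ∧
    x * z = (if k = 10 then 1 else 0) + (if k = 15 then 1 else 0) := by
  rcases h with h | ⟨rfl, rfl, rfl, rfl, rfl⟩
  · exact row_ids he h
  · simp

theorem row_codes0 {e : ℤ} {k : ℕ} {w x y z : ℤ} (h : RowP0 e k w x y z) :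
    k = 0 ∨ k = 1 ∨ k = 2 ∨ k = 4 ∨ k = 8 ∨ k = 3 ∨ k = 12 ∨ k = 5 ∨ k = 9 ∨ k = 6 ∨ k = 10 ∨
      k = 15 := by
  unfold RowP0 RowP at h
  omega

theorem row_zero_of_code {e : ℤ} {k : ℕ} {w x y z : ℤ} (h : RowP0 e k w x y z) (hk : k = 0) :
    w = 0 ∧ x = 0 ∧ y = 0 ∧ z = 0 := by
  unfold RowP0 RowP at h
  omega

/-- The support pattern determines the code. -/
theorem code_unique {e e' : ℤ} {k k' : ℕ} {w x y z : ℤ} (he : e = 1 ∨ e = -1)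
    (he' : e' = 1 ∨ e' = -1) (h : RowP0 e k w x y z) (h' : RowP0 e' k' w x y z) : k = k' := by
  unfold RowP0 RowP at h h'
  rcases h with h | h
  · rcases h with h | h | h | h | h | h | h | h | h | h | h <;> omega
  · omega

theorem quad_core {ι : Type*} [Fintype ι] [DecidableEq ι] (A B C D : ι → ℤ)
    (hAA : ∑ i, A i * A i = 4) (hBB : ∑ i, B i * B i = 4) (hCC : ∑ i, C i * C i = 4)
    (hDD : ∑ i, D i * D i = 4) (hAB : ∑ i, A i * B i = 1) (hCD : ∑ i, C i * D i = 1)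
    (hAC : ∑ i, A i * C i = 2) (hAD : ∑ i, A i * D i = 2) (hBC : ∑ i, B i * C i = 2)
    (hBD : ∑ i, B i * D i = 2) (i₀ : ι) (h0 : A i₀ = 1 ∧ B i₀ = 0 ∧ C i₀ = 1 ∧ D i₀ = 0)
    (hnv : ∀ i, (A i ≠ 0 ∨ B i ≠ 0 ∨ C i ≠ 0 ∨ D i ≠ 0) →
      2 * (C i + D i) - (A i + B i) ≠ 0 ∧ 2 * (A i + B i) - (C i + D i) ≠ 0) :
    ∃ (iE iY iY' iZ i1 i2 i3 i4 : ι) (e : ι → ℤ), (∀ i, e i = 1 ∨ e i = -1) ∧
      [i₀, iE, iY, iY', iZ, i1, i2, i3, i4].Nodup ∧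
      (∀ i, i ∉ [i₀, iE, iY, iY', iZ, i1, i2, i3, i4] → A i = 0 ∧ B i = 0 ∧ C i = 0 ∧ D i = 0) ∧
      (∀ i, (A i ≠ 0 ∨ B i ≠ 0 ∨ C i ≠ 0 ∨ D i ≠ 0) →
        ∀ j, A j = A i → B j = B i → C j = C i → D j = D i → j = i) ∧
      (A iE = 0 ∧ B iE = e iE ∧ C iE = 0 ∧ D iE = e iE) ∧
      (A iY = 0 ∧ B iY = e iY ∧ C iY = e iY ∧ D iY = 0) ∧
      (A iY' = e iY' ∧ B iY' = 0 ∧ C iY' = 0 ∧ D iY' = e iY') ∧
      (A iZ = e iZ ∧ B iZ = e iZ ∧ C iZ = e iZ ∧ D iZ = e iZ) ∧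
      (A i1 = e i1 ∧ B i1 = 0 ∧ C i1 = 0 ∧ D i1 = 0) ∧
      (A i2 = 0 ∧ B i2 = e i2 ∧ C i2 = 0 ∧ D i2 = 0) ∧
      (A i3 = 0 ∧ B i3 = 0 ∧ C i3 = e i3 ∧ D i3 = 0) ∧
      (A i4 = 0 ∧ B i4 = 0 ∧ C i4 = 0 ∧ D i4 = e i4) := by
  have comm : ∀ (U V : ι → ℤ), ∑ i, U i * V i = ∑ i, V i * U i :=
    fun U V => Finset.sum_congr rfl (fun i _ => mul_comm _ _)
  have hBA : ∑ i, B i * A i = 1 := by rw [comm, hAB]
  have hDC : ∑ i, D i * C i = 1 := by rw [comm, hCD]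
  have hCA : ∑ i, C i * A i = 2 := by rw [comm, hAC]
  have hDA : ∑ i, D i * A i = 2 := by rw [comm, hAD]
  have hCB : ∑ i, C i * B i = 2 := by rw [comm, hBC]
  have hDB : ∑ i, D i * B i = 2 := by rw [comm, hBD]
  have diffsq : ∀ (U V : ι → ℤ), ∑ i, (U i - V i) * (U i - V i) =
      ∑ i, U i * U i - 2 * ∑ i, U i * V i + ∑ i, V i * V i := by
    intro U V
    rw [Finset.mul_sum, ← Finset.sum_sub_distrib, ← Finset.sum_add_distrib]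
    exact Finset.sum_congr rfl (fun i _ => by ring)
  have diffmul : ∀ (U V W : ι → ℤ), ∑ i, (U i - V i) * W i =
      ∑ i, U i * W i - ∑ i, V i * W i := by
    intro U V W
    rw [← Finset.sum_sub_distrib]
    exact Finset.sum_congr rfl (fun i _ => by ring)
  have bA := entry_bound A B hAA (by rw [hAB]; norm_num)
  have bB := entry_bound B A hBB (by rw [hBA]; norm_num)
  have bC := entry_bound C D hCC (by rw [hCD]; norm_num)
  have bD := entry_bound D C hDD (by rw [hDC]; norm_num)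
  have sAC : ∑ i, (A i - C i) * (A i - C i) = 4 := by rw [diffsq, hAA, hAC, hCC]; norm_num
  have sAD : ∑ i, (A i - D i) * (A i - D i) = 4 := by rw [diffsq, hAA, hAD, hDD]; norm_num
  have sBC : ∑ i, (B i - C i) * (B i - C i) = 4 := by rw [diffsq, hBB, hBC, hCC]; norm_num
  have sBD : ∑ i, (B i - D i) * (B i - D i) = 4 := by rw [diffsq, hBB, hBD, hDD]; norm_num
  have oAC : (∑ i, (A i - C i) * B i) % 2 = 1 := by rw [diffmul, hAB, hCB]; norm_num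
  have oAD : (∑ i, (A i - D i) * B i) % 2 = 1 := by rw [diffmul, hAB, hDB]; norm_num
  have oBC : (∑ i, (B i - C i) * A i) % 2 = 1 := by rw [diffmul, hBA, hCA]; norm_num
  have oBD : (∑ i, (B i - D i) * A i) % 2 = 1 := by rw [diffmul, hBA, hDA]; norm_num
  have bAC := entry_bound (fun i => A i - C i) B sAC oAC
  have bAD := entry_bound (fun i => A i - D i) B sAD oAD
  have bBC := entry_bound (fun i => B i - C i) A sBC oBC
  have bBD := entry_bound (fun i => B i - D i) A sBD oBD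
  have hrow : ∀ i, ∃ (e : ℤ) (k : ℕ), (e = 1 ∨ e = -1) ∧ RowP0 e k (A i) (B i) (C i) (D i) :=
    fun i => row_exists0 _ _ _ _ (bA i) (bB i) (bC i) (bD i) (bAC i) (bAD i) (bBC i) (bBD i)
      (hnv i)
  choose e k he hk using hrow
  have hNnn : ∀ c : ℕ, 0 ≤ ∑ i, (if k i = c then (1 : ℤ) else 0) :=
    fun c => Finset.sum_nonneg (fun i _ => by split_ifs <;> norm_num)
  have sA := hAA
  rw [Finset.sum_congr rfl (fun i _ => (row_ids0 (he i) (hk i)).1)] at sA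
  have sB := hBB
  rw [Finset.sum_congr rfl (fun i _ => (row_ids0 (he i) (hk i)).2.1)] at sB
  have sC := hCC
  rw [Finset.sum_congr rfl (fun i _ => (row_ids0 (he i) (hk i)).2.2.1)] at sC
  have sD := hDD
  rw [Finset.sum_congr rfl (fun i _ => (row_ids0 (he i) (hk i)).2.2.2.1)] at sD
  have sAB := hAB
  rw [Finset.sum_congr rfl (fun i _ => (row_ids0 (he i) (hk i)).2.2.2.2.1)] at sAB
  have sCD := hCD
  rw [Finset.sum_congr rfl (fun i _ => (row_ids0 (he i) (hk i)).2.2.2.2.2.1)] at sCD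
  have sAC' := hAC
  rw [Finset.sum_congr rfl (fun i _ => (row_ids0 (he i) (hk i)).2.2.2.2.2.2.1)] at sAC'
  have sAD' := hAD
  rw [Finset.sum_congr rfl (fun i _ => (row_ids0 (he i) (hk i)).2.2.2.2.2.2.2.1)] at sAD'
  have sBC' := hBC
  rw [Finset.sum_congr rfl (fun i _ => (row_ids0 (he i) (hk i)).2.2.2.2.2.2.2.2.1)] at sBC'
  have sBD' := hBD
  rw [Finset.sum_congr rfl (fun i _ => (row_ids0 (he i) (hk i)).2.2.2.2.2.2.2.2.2)] at sBD'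
  simp only [Finset.sum_add_distrib] at sA sB sC sD sAB sCD sAC' sAD' sBC' sBD'
  have g1 := hNnn 1
  have g2 := hNnn 2
  have g4 := hNnn 4
  have g8 := hNnn 8
  have g3 := hNnn 3
  have g12 := hNnn 12
  have g5 := hNnn 5
  have g9 := hNnn 9
  have g6 := hNnn 6
  have g10 := hNnn 10
  have g15 := hNnn 15
  have n15 : ∑ i, (if k i = 15 then (1 : ℤ) else 0) = 1 := by omega
  have n3 : ∑ i, (if k i = 3 then (1 : ℤ) else 0) = 0 := by omega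
  have n12 : ∑ i, (if k i = 12 then (1 : ℤ) else 0) = 0 := by omega
  have n5 : ∑ i, (if k i = 5 then (1 : ℤ) else 0) = 1 := by omega
  have n9 : ∑ i, (if k i = 9 then (1 : ℤ) else 0) = 1 := by omega
  have n6 : ∑ i, (if k i = 6 then (1 : ℤ) else 0) = 1 := by omega
  have n10 : ∑ i, (if k i = 10 then (1 : ℤ) else 0) = 1 := by omega
  have n1 : ∑ i, (if k i = 1 then (1 : ℤ) else 0) = 1 := by omega
  have n2 : ∑ i, (if k i = 2 then (1 : ℤ) else 0) = 1 := by omega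
  have n4 : ∑ i, (if k i = 4 then (1 : ℤ) else 0) = 1 := by omega
  have n8 : ∑ i, (if k i = 8 then (1 : ℤ) else 0) = 1 := by omega
  obtain ⟨j15, h15, u15⟩ := exists_unique_of_sum_one k 15 n15
  obtain ⟨j5, h5, u5⟩ := exists_unique_of_sum_one k 5 n5
  obtain ⟨j9, h9, u9⟩ := exists_unique_of_sum_one k 9 n9
  obtain ⟨j6, h6, u6⟩ := exists_unique_of_sum_one k 6 n6
  obtain ⟨j10, h10, u10⟩ := exists_unique_of_sum_one k 10 n10
  obtain ⟨j1, h1, u1⟩ := exists_unique_of_sum_one k 1 n1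
  obtain ⟨j2, h2, u2⟩ := exists_unique_of_sum_one k 2 n2
  obtain ⟨j4, h4, u4⟩ := exists_unique_of_sum_one k 4 n4
  obtain ⟨j8, h8, u8⟩ := exists_unique_of_sum_one k 8 n8
  have hk0 : k i₀ = 5 := by
    have h := hk i₀
    rw [h0.1, h0.2.1, h0.2.2.1, h0.2.2.2] at h
    unfold RowP0 RowP at h
    have := he i₀
    omega
  have p10 : A j10 = 0 ∧ B j10 = e j10 ∧ C j10 = 0 ∧ D j10 = e j10 := by
    have h := hk j10
    rw [h10] at h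
    unfold RowP0 RowP at h
    omega
  have p6 : A j6 = 0 ∧ B j6 = e j6 ∧ C j6 = e j6 ∧ D j6 = 0 := by
    have h := hk j6
    rw [h6] at h
    unfold RowP0 RowP at h
    omega
  have p9 : A j9 = e j9 ∧ B j9 = 0 ∧ C j9 = 0 ∧ D j9 = e j9 := by
    have h := hk j9
    rw [h9] at h
    unfold RowP0 RowP at h
    omega
  have p15 : A j15 = e j15 ∧ B j15 = e j15 ∧ C j15 = e j15 ∧ D j15 = e j15 := by
    have h := hk j15
    rw [h15] at h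
    unfold RowP0 RowP at h
    omega
  have p1 : A j1 = e j1 ∧ B j1 = 0 ∧ C j1 = 0 ∧ D j1 = 0 := by
    have h := hk j1
    rw [h1] at h
    unfold RowP0 RowP at h
    omega
  have p2 : A j2 = 0 ∧ B j2 = e j2 ∧ C j2 = 0 ∧ D j2 = 0 := by
    have h := hk j2
    rw [h2] at h
    unfold RowP0 RowP at h
    omega
  have p4 : A j4 = 0 ∧ B j4 = 0 ∧ C j4 = e j4 ∧ D j4 = 0 := by
    have h := hk j4
    rw [h4] at h
    unfold RowP0 RowP at h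
    omega
  have p8 : A j8 = 0 ∧ B j8 = 0 ∧ C j8 = 0 ∧ D j8 = e j8 := by
    have h := hk j8
    rw [h8] at h
    unfold RowP0 RowP at h
    omega
  -- every index with a nonzero code is one of the nine
  have hmem : ∀ i, k i ≠ 0 → i ∈ [i₀, j10, j6, j9, j15, j1, j2, j4, j8] := by
    intro i hi
    rcases row_codes0 (hk i) with h | h | h | h | h | h | h | h | h | h | h | h
    · exact absurd h hi
    · rw [u1 i h]; simp
    · rw [u2 i h]; simp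
    · rw [u4 i h]; simp
    · rw [u8 i h]; simp
    · exact absurd h (none_of_sum_zero k 3 n3 i)
    · exact absurd h (none_of_sum_zero k 12 n12 i)
    · rw [(u5 i h).trans (u5 i₀ hk0).symm]; simp
    · rw [u9 i h]; simp
    · rw [u6 i h]; simp
    · rw [u10 i h]; simp
    · rw [u15 i h]; simp
  refine ⟨j10, j6, j9, j15, j1, j2, j4, j8, e, he, ?_, ?_, ?_, p10, p6, p9, p15, p1, p2, p4, p8⟩
  · apply List.Nodup.of_map k
    simp only [List.map_cons, List.map_nil, hk0, h10, h6, h9, h15, h1, h2, h4, h8]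
    decide
  · intro i hi
    by_cases hki : k i = 0
    · exact row_zero_of_code (hk i) hki
    · exact absurd (hmem i hki) hi
  · intro i hi j hA hB hC hD
    have hkj : k j = k i := by
      have hj := hk j
      rw [hA, hB, hC, hD] at hj
      exact code_unique (he j) (he i) hj (hk i)
    have hki : k i ≠ 0 := by
      intro h
      have := row_zero_of_code (hk i) h
      omega
    rcases row_codes0 (hk i) with h | h | h | h | h | h | h | h | h | h | h | h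
    · exact absurd h hki
    · rw [u1 i h, u1 j (hkj.trans h)]
    · rw [u2 i h, u2 j (hkj.trans h)]
    · rw [u4 i h, u4 j (hkj.trans h)]
    · rw [u8 i h, u8 j (hkj.trans h)]
    · exact absurd h (none_of_sum_zero k 3 n3 i)
    · exact absurd h (none_of_sum_zero k 12 n12 i)
    · rw [u5 i h, u5 j (hkj.trans h)]
    · rw [u9 i h, u9 j (hkj.trans h)]
    · rw [u6 i h, u6 j (hkj.trans h)]
    · rw [u10 i h, u10 j (hkj.trans h)]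
    · rw [u15 i h, u15 j (hkj.trans h)]

theorem sum_list {ι : Type*} [Fintype ι] [DecidableEq ι] {M : Type*} [AddCommMonoid M]
    (l : List ι) (hl : l.Nodup) (F : ι → M) (h0 : ∀ i, i ∉ l → F i = 0) :
    ∑ i, F i = (l.map F).sum := by
  rw [← List.sum_toFinset F hl]
  symm
  apply Finset.sum_subset (Finset.subset_univ _)
  intro i _ hi
  exact h0 i (by simpa using hi)

theorem term_eq (ε dg s c v : ℤ) (hs : (ε = 1 ∧ s = dg) ∨ (ε = -1 ∧ s = -dg)) (hdg : 0 < dg)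
    (hv : v = c * ε) : ((v : ℤ) : ℚ) / (dg : ℚ) = (c : ℚ) * (1 / (s : ℚ)) := by
  have hdg' : (dg : ℚ) ≠ 0 := by exact_mod_cast hdg.ne'
  rcases hs with ⟨h1, h2⟩ | ⟨h1, h2⟩
  · subst hv
    rw [h1, h2]
    push_cast
    ring
  · subst hv
    rw [h1, h2]
    push_cast
    field_simp

set_option maxHeartbeats 1600000 in
theorem sign_pat (εE εY εY' εZ ε1 ε2 ε3 ε4 dE dY dY' dZ d1 d2 d3 d4 sE sY sY' sZ s1 s2 s3 s4 : ℤ)
    (gE : (εE = 1 ∧ sE = dE) ∨ (εE = -1 ∧ sE = -dE))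
    (gY : (εY = 1 ∧ sY = dY) ∨ (εY = -1 ∧ sY = -dY))
    (gY' : (εY' = 1 ∧ sY' = dY') ∨ (εY' = -1 ∧ sY' = -dY'))
    (gZ : (εZ = 1 ∧ sZ = dZ) ∨ (εZ = -1 ∧ sZ = -dZ))
    (g1 : (ε1 = 1 ∧ s1 = d1) ∨ (ε1 = -1 ∧ s1 = -d1))
    (g2 : (ε2 = 1 ∧ s2 = d2) ∨ (ε2 = -1 ∧ s2 = -d2))
    (g3 : (ε3 = 1 ∧ s3 = d3) ∨ (ε3 = -1 ∧ s3 = -d3))
    (g4 : (ε4 = 1 ∧ s4 = d4) ∨ (ε4 = -1 ∧ s4 = -d4))
    (pE : 0 < dE) (pY : 0 < dY) (pY' : 0 < dY') (pZ : 0 < dZ) (_p1 : 0 < d1) (p2 : 0 < d2)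
    (p3 : 0 < d3) (p4 : 0 < d4)
    (k1 : 1 + εE + εY + εY' + 2 * εZ - ε1 - ε2 + 2 * ε3 + 2 * ε4 = 4)
    (k2 : 1 + εE + εY + εY' + 2 * εZ + 2 * ε1 + 2 * ε2 - ε3 - ε4 = 4)
    (k3 : 1 - εE - εY + εY' + ε1 - ε2 = 0)
    (k4 : 1 - εE + εY - εY' + ε3 - ε4 = 0)
    (r1 : 1 + sY' + sZ = -s1) (r2 : sE + sY + sZ = -s2) (r3 : 1 + sY + sZ = -s3)
    (r4 : sE + sY' + sZ = -s4) : SignPat sE sY sY' sZ := by
  have f1 : ε1 = 1 - εY' - εZ := by omega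
  have f2 : ε2 = 2 - εE - εY - εZ := by omega
  have f3 : ε3 = 1 - εY - εZ := by omega
  have f4 : ε4 = 2 - εE - εY' - εZ := by omega
  clear k1 k2 k3 k4
  unfold SignPat
  rcases gE with ⟨q1, q2⟩ | ⟨q1, q2⟩ <;> rcases gY with ⟨q3, q4⟩ | ⟨q3, q4⟩ <;>
    rcases gY' with ⟨q5, q6⟩ | ⟨q5, q6⟩ <;> rcases gZ with ⟨q7, q8⟩ | ⟨q7, q8⟩ <;>
    subst q1 q3 q5 q7 <;> norm_num at f1 f2 f3 f4 <;> subst f1 f2 f3 f4 <;>
    first
    | (exfalso; omega)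
    | (refine Or.inl ?_; omega)
    | (refine Or.inr (Or.inl ?_); omega)
    | (refine Or.inr (Or.inr (Or.inl ?_)); omega)
    | (refine Or.inr (Or.inr (Or.inr (Or.inl ?_))); omega)
    | (refine Or.inr (Or.inr (Or.inr (Or.inr (Or.inl ?_)))); omega)
    | (refine Or.inr (Or.inr (Or.inr (Or.inr (Or.inr ?_)))); omega)

theorem d8_comb {ι : Type*} [Fintype ι] [DecidableEq ι] (A B C D deg ν : ι → ℤ) (g : ℕ)
    (hg0 : 0 < g) (hAA : ∑ i, A i * A i = 4) (hBB : ∑ i, B i * B i = 4)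
    (hCC : ∑ i, C i * C i = 4) (hDD : ∑ i, D i * D i = 4) (hAB : ∑ i, A i * B i = 1)
    (hCD : ∑ i, C i * D i = 1) (hAC : ∑ i, A i * C i = 2) (hAD : ∑ i, A i * D i = 2)
    (hBC : ∑ i, B i * C i = 2) (hBD : ∑ i, B i * D i = 2) (i₀ : ι)
    (h0 : A i₀ = 1 ∧ B i₀ = 0 ∧ C i₀ = 1 ∧ D i₀ = 0) (hd0 : deg i₀ = 1)
    (hnv : ∀ i, (A i ≠ 0 ∨ B i ≠ 0 ∨ C i ≠ 0 ∨ D i ≠ 0) →
      2 * (C i + D i) - (A i + B i) ≠ 0 ∧ 2 * (A i + B i) - (C i + D i) ≠ 0)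
    (hdeg : ∀ i, 0 < deg i) (hdA : ∑ i, A i * deg i = 0) (hdB : ∑ i, B i * deg i = 0)
    (hdC : ∑ i, C i * deg i = 0) (hdD : ∑ i, D i * deg i = 0)
    (hmod : ∀ i, (deg i + 4 * (A i + B i + C i + D i)) % 9 = 0)
    (hν1 : ∑ i, ν i * (2 * (C i + D i) - (A i + B i)) = 4)
    (hν2 : ∑ i, ν i * (2 * (A i + B i) - (C i + D i)) = 4)
    (hν3 : ∑ i, ν i * (A i - B i) = 0) (hν4 : ∑ i, ν i * (C i - D i) = 0)
    (hν : ∀ i, (A i ≠ 0 ∨ B i ≠ 0 ∨ C i ≠ 0 ∨ D i ≠ 0) →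
      (∀ j, A j = A i → B j = B i → C j = C i → D j = D i → j = i) →
      ν i = 1 ∨ (ν i = -1 ∧ (A i - B i) % 2 = 0 ∧ (C i - D i) % 2 = 0 ∧
        ¬ (A i - B i = 0 ∧ (2 * (C i + D i) - (A i + B i) = 2 ∨
          2 * (C i + D i) - (A i + B i) = -2))))
    (hcls1 : (g : ℚ) * ∑ i, (((2 * (C i + D i) - (A i + B i)) * (2 * (C i + D i) - (A i + B i)) *
      (2 * (A i + B i) - (C i + D i)) : ℤ) : ℚ) / (deg i : ℚ) = 648)
    (hcls2 : (g : ℚ) * ∑ i, (((2 * (C i + D i) - (A i + B i)) * (2 * (A i + B i) - (C i + D i)) *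
      (2 * (A i + B i) - (C i + D i)) : ℤ) : ℚ) / (deg i : ℚ) = 648)
    (hdvd : ∀ i, deg i ∣ (g : ℤ)) (hsq : ∑ i, deg i ^ 2 ≤ (g : ℤ)) (hg : 72 ∣ g)
    (hk : (g / 72) % 9 = 1) :
    g = 72 ∨ (g = 720 ∧ ∃ iE, deg iE = 1 ∧ A iE = 0 ∧ B iE = 1 ∧ C iE = 0 ∧ D iE = 1 ∧
      ν iE = 1) := by
  obtain ⟨iE, iY, iY', iZ, i1, i2, i3, i4, e, he, hnd, hzero, huniq, pE, pY, pY', pZ, p1, p2,
    p3, p4⟩ := quad_core A B C D hAA hBB hCC hDD hAB hCD hAC hAD hBC hBD i₀ h0 hnv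
  obtain ⟨a0, b0, c0, d0⟩ := h0
  obtain ⟨aE, bE, cE, dE⟩ := pE
  obtain ⟨aY, bY, cY, dY⟩ := pY
  obtain ⟨aY', bY', cY', dY'⟩ := pY'
  obtain ⟨aZ, bZ, cZ, dZ⟩ := pZ
  obtain ⟨a1, b1, c1, d1⟩ := p1
  obtain ⟨a2, b2, c2, d2⟩ := p2
  obtain ⟨a3, b3, c3, d3⟩ := p3
  obtain ⟨a4, b4, c4, d4⟩ := p4
  have nzs : ∀ ε : ℤ, (ε = 1 ∨ ε = -1) → ε ≠ 0 := by
    intro ε h
    omega
  -- reduction of sums to the nine rows
  have S : ∀ {M : Type} [AddCommMonoid M] (F : ι → M),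
      (∀ i, A i = 0 → B i = 0 → C i = 0 → D i = 0 → F i = 0) →
      ∑ i, F i = F i₀ + (F iE + (F iY + (F iY' + (F iZ + (F i1 + (F i2 + (F i3 + F i4))))))) := by
    intro M _ F hF
    rw [sum_list _ hnd F (fun i hi => by
      obtain ⟨h1, h2, h3, h4⟩ := hzero i hi
      exact hF i h1 h2 h3 h4)]
    simp
  -- Frobenius-Schur indicators of the nine rows
  have nz0 : A i₀ ≠ 0 ∨ B i₀ ≠ 0 ∨ C i₀ ≠ 0 ∨ D i₀ ≠ 0 := Or.inl (by rw [a0]; norm_num)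
  have nzE : A iE ≠ 0 ∨ B iE ≠ 0 ∨ C iE ≠ 0 ∨ D iE ≠ 0 :=
    Or.inr (Or.inl (by rw [bE]; exact nzs _ (he iE)))
  have nzY : A iY ≠ 0 ∨ B iY ≠ 0 ∨ C iY ≠ 0 ∨ D iY ≠ 0 :=
    Or.inr (Or.inl (by rw [bY]; exact nzs _ (he iY)))
  have nzY' : A iY' ≠ 0 ∨ B iY' ≠ 0 ∨ C iY' ≠ 0 ∨ D iY' ≠ 0 :=
    Or.inl (by rw [aY']; exact nzs _ (he iY'))
  have nzZ : A iZ ≠ 0 ∨ B iZ ≠ 0 ∨ C iZ ≠ 0 ∨ D iZ ≠ 0 :=
    Or.inl (by rw [aZ]; exact nzs _ (he iZ))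
  have nz1 : A i1 ≠ 0 ∨ B i1 ≠ 0 ∨ C i1 ≠ 0 ∨ D i1 ≠ 0 :=
    Or.inl (by rw [a1]; exact nzs _ (he i1))
  have nz2 : A i2 ≠ 0 ∨ B i2 ≠ 0 ∨ C i2 ≠ 0 ∨ D i2 ≠ 0 :=
    Or.inr (Or.inl (by rw [b2]; exact nzs _ (he i2)))
  have nz3 : A i3 ≠ 0 ∨ B i3 ≠ 0 ∨ C i3 ≠ 0 ∨ D i3 ≠ 0 :=
    Or.inr (Or.inr (Or.inl (by rw [c3]; exact nzs _ (he i3))))
  have nz4 : A i4 ≠ 0 ∨ B i4 ≠ 0 ∨ C i4 ≠ 0 ∨ D i4 ≠ 0 :=
    Or.inr (Or.inr (Or.inr (by rw [d4]; exact nzs _ (he i4))))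
  have ν0 : ν i₀ = 1 := by
    have h := hν i₀ nz0 (huniq i₀ nz0)
    clear * - h a0 b0 c0 d0
    omega
  have νE : ν iE = 1 := by
    have h := hν iE nzE (huniq iE nzE)
    have hε := he iE
    clear * - h hε aE bE cE dE
    omega
  have νY : ν iY = 1 := by
    have h := hν iY nzY (huniq iY nzY)
    have hε := he iY
    clear * - h hε aY bY cY dY
    omega
  have νY' : ν iY' = 1 := by
    have h := hν iY' nzY' (huniq iY' nzY')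
    have hε := he iY'
    clear * - h hε aY' bY' cY' dY'
    omega
  have νZ : ν iZ = 1 := by
    have h := hν iZ nzZ (huniq iZ nzZ)
    have hε := he iZ
    clear * - h hε aZ bZ cZ dZ
    omega
  have ν1 : ν i1 = 1 := by
    have h := hν i1 nz1 (huniq i1 nz1)
    have hε := he i1
    clear * - h hε a1 b1 c1 d1
    omega
  have ν2 : ν i2 = 1 := by
    have h := hν i2 nz2 (huniq i2 nz2)
    have hε := he i2
    clear * - h hε a2 b2 c2 d2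
    omega
  have ν3 : ν i3 = 1 := by
    have h := hν i3 nz3 (huniq i3 nz3)
    have hε := he i3
    clear * - h hε a3 b3 c3 d3
    omega
  have ν4 : ν i4 = 1 := by
    have h := hν i4 nz4 (huniq i4 nz4)
    have hε := he i4
    clear * - h hε a4 b4 c4 d4
    omega
  -- the four sign equations
  have hs1 := hν1
  rw [S (fun i => ν i * (2 * (C i + D i) - (A i + B i)))
    (fun i h1 h2 h3 h4 => by simp [h1, h2, h3, h4])] at hs1
  have hs2 := hν2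
  rw [S (fun i => ν i * (2 * (A i + B i) - (C i + D i)))
    (fun i h1 h2 h3 h4 => by simp [h1, h2, h3, h4])] at hs2
  have hs3 := hν3
  rw [S (fun i => ν i * (A i - B i)) (fun i h1 h2 h3 h4 => by simp [h1, h2])] at hs3
  have hs4 := hν4
  rw [S (fun i => ν i * (C i - D i)) (fun i h1 h2 h3 h4 => by simp [h3, h4])] at hs4
  simp only [ν0, νE, νY, νY', νZ, ν1, ν2, ν3, ν4, one_mul, a0, b0, c0, d0, aE, bE, cE, dE, aY,
    bY, cY, dY, aY', bY', cY', dY', aZ, bZ, cZ, dZ, a1, b1, c1, d1, a2, b2, c2, d2, a3, b3, c3,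
    d3, a4, b4, c4, d4] at hs1 hs2 hs3 hs4
  -- signed degrees
  obtain ⟨sE, hsE⟩ : ∃ s : ℤ, s = e iE * deg iE := ⟨_, rfl⟩
  obtain ⟨sY, hsY⟩ : ∃ s : ℤ, s = e iY * deg iY := ⟨_, rfl⟩
  obtain ⟨sY', hsY'⟩ : ∃ s : ℤ, s = e iY' * deg iY' := ⟨_, rfl⟩
  obtain ⟨sZ, hsZ⟩ : ∃ s : ℤ, s = e iZ * deg iZ := ⟨_, rfl⟩
  obtain ⟨s1, hs1'⟩ : ∃ s : ℤ, s = e i1 * deg i1 := ⟨_, rfl⟩
  obtain ⟨s2, hs2'⟩ : ∃ s : ℤ, s = e i2 * deg i2 := ⟨_, rfl⟩
  obtain ⟨s3, hs3'⟩ : ∃ s : ℤ, s = e i3 * deg i3 := ⟨_, rfl⟩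
  obtain ⟨s4, hs4'⟩ : ∃ s : ℤ, s = e i4 * deg i4 := ⟨_, rfl⟩
  have sgn : ∀ (ε dg s : ℤ), (ε = 1 ∨ ε = -1) → s = ε * dg →
      (ε = 1 ∧ s = dg) ∨ (ε = -1 ∧ s = -dg) := by
    intro ε dg s hε hs
    rcases hε with h | h
    · left; exact ⟨h, by rw [hs, h, one_mul]⟩
    · right; exact ⟨h, by rw [hs, h]; ring⟩
  have gE := sgn _ _ _ (he iE) hsE
  have gY := sgn _ _ _ (he iY) hsY
  have gY' := sgn _ _ _ (he iY') hsY'
  have gZ := sgn _ _ _ (he iZ) hsZ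
  have g1 := sgn _ _ _ (he i1) hs1'
  have g2 := sgn _ _ _ (he i2) hs2'
  have g3 := sgn _ _ _ (he i3) hs3'
  have g4 := sgn _ _ _ (he i4) hs4'
  have dgE := hdeg iE
  have dgY := hdeg iY
  have dgY' := hdeg iY'
  have dgZ := hdeg iZ
  have dg1 := hdeg i1
  have dg2 := hdeg i2
  have dg3 := hdeg i3
  have dg4 := hdeg i4
  -- the degree equations
  have tA := hdA
  rw [S (fun i => A i * deg i) (fun i h1 _ _ _ => by simp [h1])] at tA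
  have tB := hdB
  rw [S (fun i => B i * deg i) (fun i _ h2 _ _ => by simp [h2])] at tB
  have tC := hdC
  rw [S (fun i => C i * deg i) (fun i _ _ h3 _ => by simp [h3])] at tC
  have tD := hdD
  rw [S (fun i => D i * deg i) (fun i _ _ _ h4 => by simp [h4])] at tD
  simp only [a0, b0, c0, d0, aE, bE, cE, dE, aY, bY, cY, dY, aY', bY', cY', dY', aZ, bZ, cZ, dZ,
    a1, b1, c1, d1, a2, b2, c2, d2, a3, b3, c3, d3, a4, b4, c4, d4, hd0, zero_mul, one_mul,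
    add_zero, zero_add, ← hsE, ← hsY, ← hsY', ← hsZ, ← hs1', ← hs2', ← hs3', ← hs4'] at tA tB tC tD
  have r1 : 1 + sY' + sZ = -s1 := by
    clear * - tA
    omega
  have r2 : sE + sY + sZ = -s2 := by
    clear * - tB
    omega
  have r3 : 1 + sY + sZ = -s3 := by
    clear * - tC
    omega
  have r4 : sE + sY' + sZ = -s4 := by
    clear * - tD
    omega
  -- congruences
  have mE := hmod iE
  have mY := hmod iY
  have mY' := hmod iY'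
  have mZ := hmod iZ
  rw [aE, bE, cE, dE] at mE
  rw [aY, bY, cY, dY] at mY
  rw [aY', bY', cY', dY'] at mY'
  rw [aZ, bZ, cZ, dZ] at mZ
  have he9 : sE % 9 = 1 := by
    clear * - mE gE
    omega
  have hy9 : sY % 9 = 1 := by
    clear * - mY gY
    omega
  have hy'9 : sY' % 9 = 1 := by
    clear * - mY' gY'
    omega
  have hz9 : sZ % 9 = 2 := by
    clear * - mZ gZ
    omega
  -- the sign pattern
  have hpat : SignPat sE sY sY' sZ :=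
    sign_pat (e iE) (e iY) (e iY') (e iZ) (e i1) (e i2) (e i3) (e i4) _ _ _ _ _ _ _ _
      sE sY sY' sZ s1 s2 s3 s4 gE gY gY' gZ g1 g2 g3 g4 dgE dgY dgY' dgZ dg1 dg2 dg3 dg4
      (by clear * - hs1; omega) (by clear * - hs2; omega) (by clear * - hs3; omega)
      (by clear * - hs4; omega) r1 r2 r3 r4
  -- divisibilities
  have dvd_of : ∀ (ε dg s : ℤ), ((ε = 1 ∧ s = dg) ∨ (ε = -1 ∧ s = -dg)) → dg ∣ (g : ℤ) →
      s ∣ (g : ℤ) := by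
    intro ε dg s h hd
    rcases h with ⟨_, h⟩ | ⟨_, h⟩
    · rw [h]; exact hd
    · rw [h]; exact neg_dvd.mpr hd
  have vE := dvd_of _ _ _ gE (hdvd iE)
  have vY := dvd_of _ _ _ gY (hdvd iY)
  have vY' := dvd_of _ _ _ gY' (hdvd iY')
  have vZ := dvd_of _ _ _ gZ (hdvd iZ)
  have v1 := dvd_of _ _ _ g1 (hdvd i1)
  have v2 := dvd_of _ _ _ g2 (hdvd i2)
  have v3 := dvd_of _ _ _ g3 (hdvd i3)
  have v4 := dvd_of _ _ _ g4 (hdvd i4)
  have hdiv : sE ∣ (g : ℤ) ∧ sY ∣ (g : ℤ) ∧ sY' ∣ (g : ℤ) ∧ sZ ∣ (g : ℤ) ∧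
      (1 + sY' + sZ) ∣ (g : ℤ) ∧ (sE + sY + sZ) ∣ (g : ℤ) ∧ (1 + sY + sZ) ∣ (g : ℤ) ∧
      (sE + sY' + sZ) ∣ (g : ℤ) := by
    refine ⟨vE, vY, vY', vZ, ?_, ?_, ?_, ?_⟩
    · rw [r1]; exact neg_dvd.mpr v1
    · rw [r2]; exact neg_dvd.mpr v2
    · rw [r3]; exact neg_dvd.mpr v3
    · rw [r4]; exact neg_dvd.mpr v4
  -- squares
  have sq_of : ∀ (ε dg s : ℤ), ((ε = 1 ∧ s = dg) ∨ (ε = -1 ∧ s = -dg)) → s ^ 2 = dg ^ 2 := by
    intro ε dg s h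
    rcases h with ⟨_, h⟩ | ⟨_, h⟩
    · subst h; ring
    · subst h; ring
  have hsq' : 1 + sE ^ 2 + sY ^ 2 + sY' ^ 2 + sZ ^ 2 + (1 + sY' + sZ) ^ 2 + (sE + sY + sZ) ^ 2 +
      (1 + sY + sZ) ^ 2 + (sE + sY' + sZ) ^ 2 ≤ (g : ℤ) := by
    have hsub : ∑ i ∈ [i₀, iE, iY, iY', iZ, i1, i2, i3, i4].toFinset, deg i ^ 2 ≤
        ∑ i, deg i ^ 2 :=
      Finset.sum_le_sum_of_subset_of_nonneg (Finset.subset_univ _) (fun i _ _ => sq_nonneg _)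
    rw [List.sum_toFinset _ hnd] at hsub
    simp only [List.map_cons, List.map_nil, List.sum_cons, List.sum_nil] at hsub
    rw [r1, r2, r3, r4, neg_sq, neg_sq, neg_sq, neg_sq, sq_of _ _ _ gE, sq_of _ _ _ gY,
      sq_of _ _ _ gY', sq_of _ _ _ gZ, sq_of _ _ _ g1, sq_of _ _ _ g2, sq_of _ _ _ g3,
      sq_of _ _ _ g4]
    rw [hd0] at hsub
    linarith
  -- the two class equations on the nine rows
  have P0 : 2 * (C i₀ + D i₀) - (A i₀ + B i₀) = 1 := by rw [a0, b0, c0, d0]; norm_num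
  have Q0 : 2 * (A i₀ + B i₀) - (C i₀ + D i₀) = 1 := by rw [a0, b0, c0, d0]; norm_num
  have PE : 2 * (C iE + D iE) - (A iE + B iE) = e iE := by rw [aE, bE, cE, dE]; ring
  have QE : 2 * (A iE + B iE) - (C iE + D iE) = e iE := by rw [aE, bE, cE, dE]; ring
  have PY : 2 * (C iY + D iY) - (A iY + B iY) = e iY := by rw [aY, bY, cY, dY]; ring
  have QY : 2 * (A iY + B iY) - (C iY + D iY) = e iY := by rw [aY, bY, cY, dY]; ring
  have PY' : 2 * (C iY' + D iY') - (A iY' + B iY') = e iY' := by rw [aY', bY', cY', dY']; ring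
  have QY' : 2 * (A iY' + B iY') - (C iY' + D iY') = e iY' := by rw [aY', bY', cY', dY']; ring
  have PZ : 2 * (C iZ + D iZ) - (A iZ + B iZ) = 2 * e iZ := by rw [aZ, bZ, cZ, dZ]; ring
  have QZ : 2 * (A iZ + B iZ) - (C iZ + D iZ) = 2 * e iZ := by rw [aZ, bZ, cZ, dZ]; ring
  have P1 : 2 * (C i1 + D i1) - (A i1 + B i1) = -e i1 := by rw [a1, b1, c1, d1]; ring
  have Q1 : 2 * (A i1 + B i1) - (C i1 + D i1) = 2 * e i1 := by rw [a1, b1, c1, d1]; ring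
  have P2 : 2 * (C i2 + D i2) - (A i2 + B i2) = -e i2 := by rw [a2, b2, c2, d2]; ring
  have Q2 : 2 * (A i2 + B i2) - (C i2 + D i2) = 2 * e i2 := by rw [a2, b2, c2, d2]; ring
  have P3 : 2 * (C i3 + D i3) - (A i3 + B i3) = 2 * e i3 := by rw [a3, b3, c3, d3]; ring
  have Q3 : 2 * (A i3 + B i3) - (C i3 + D i3) = -e i3 := by rw [a3, b3, c3, d3]; ring
  have P4 : 2 * (C i4 + D i4) - (A i4 + B i4) = 2 * e i4 := by rw [a4, b4, c4, d4]; ring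
  have Q4 : 2 * (A i4 + B i4) - (C i4 + D i4) = -e i4 := by rw [a4, b4, c4, d4]; ring
  have cube : ∀ ε : ℤ, (ε = 1 ∨ ε = -1) →
      ε * ε * ε = 1 * ε ∧ 2 * ε * (2 * ε) * (2 * ε) = 8 * ε ∧ -ε * -ε * (2 * ε) = 2 * ε ∧
      -ε * (2 * ε) * (2 * ε) = -4 * ε ∧ 2 * ε * (2 * ε) * -ε = -4 * ε ∧
      2 * ε * -ε * -ε = 2 * ε := by
    intro ε h
    rcases h with h | h <;> rw [h] <;> norm_num
  have c1 := hcls1
  rw [S (fun i => (((2 * (C i + D i) - (A i + B i)) * (2 * (C i + D i) - (A i + B i)) *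
    (2 * (A i + B i) - (C i + D i)) : ℤ) : ℚ) / (deg i : ℚ))
    (fun i h1 h2 h3 h4 => by simp [h1, h2, h3, h4])] at c1
  have c2 := hcls2
  rw [S (fun i => (((2 * (C i + D i) - (A i + B i)) * (2 * (A i + B i) - (C i + D i)) *
    (2 * (A i + B i) - (C i + D i)) : ℤ) : ℚ) / (deg i : ℚ))
    (fun i h1 h2 h3 h4 => by simp [h1, h2, h3, h4])] at c2
  simp only [P0, Q0, PE, QE, PY, QY, PY', QY', PZ, QZ, P1, Q1, P2, Q2, P3, Q3, P4, Q4, hd0]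
    at c1 c2
  rw [term_eq (e iE) (deg iE) sE 1 _ gE dgE (cube _ (he iE)).1,
    term_eq (e iY) (deg iY) sY 1 _ gY dgY (cube _ (he iY)).1,
    term_eq (e iY') (deg iY') sY' 1 _ gY' dgY' (cube _ (he iY')).1,
    term_eq (e iZ) (deg iZ) sZ 8 _ gZ dgZ (cube _ (he iZ)).2.1] at c1 c2
  rw [term_eq (e i1) (deg i1) s1 2 _ g1 dg1 (cube _ (he i1)).2.2.1,
    term_eq (e i2) (deg i2) s2 2 _ g2 dg2 (cube _ (he i2)).2.2.1,
    term_eq (e i3) (deg i3) s3 (-4) _ g3 dg3 (cube _ (he i3)).2.2.2.2.1,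
    term_eq (e i4) (deg i4) s4 (-4) _ g4 dg4 (cube _ (he i4)).2.2.2.2.1] at c1
  rw [term_eq (e i1) (deg i1) s1 (-4) _ g1 dg1 (cube _ (he i1)).2.2.2.1,
    term_eq (e i2) (deg i2) s2 (-4) _ g2 dg2 (cube _ (he i2)).2.2.2.1,
    term_eq (e i3) (deg i3) s3 2 _ g3 dg3 (cube _ (he i3)).2.2.2.2.2,
    term_eq (e i4) (deg i4) s4 2 _ g4 dg4 (cube _ (he i4)).2.2.2.2.2] at c2
  have hgq : (g : ℚ) ≠ 0 := by exact_mod_cast hg0.ne'
  have X1 := c1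
  rw [mul_comm, ← eq_div_iff hgq] at X1
  have X2 := c2
  rw [mul_comm, ← eq_div_iff hgq] at X2
  push_cast at X1 X2
  have w1 : 1 / ((1 + sY' + sZ : ℤ) : ℚ) = -(1 / (s1 : ℚ)) := by
    rw [r1]; push_cast; exact one_div_neg_eq_neg_one_div _
  have w2 : 1 / ((sE + sY + sZ : ℤ) : ℚ) = -(1 / (s2 : ℚ)) := by
    rw [r2]; push_cast; exact one_div_neg_eq_neg_one_div _
  have w3 : 1 / ((1 + sY + sZ : ℤ) : ℚ) = -(1 / (s3 : ℚ)) := by
    rw [r3]; push_cast; exact one_div_neg_eq_neg_one_div _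
  have w4 : 1 / ((sE + sY' + sZ : ℤ) : ℚ) = -(1 / (s4 : ℚ)) := by
    rw [r4]; push_cast; exact one_div_neg_eq_neg_one_div _
  have hE1 : 1 / ((1 + sY' + sZ : ℤ) : ℚ) + 1 / ((sE + sY + sZ : ℤ) : ℚ) =
      1 / ((1 + sY + sZ : ℤ) : ℚ) + 1 / ((sE + sY' + sZ : ℤ) : ℚ) := by
    rw [w1, w2, w3, w4]
    linarith
  have hE2 : (1 : ℚ) + 1 / (sE : ℚ) + 1 / (sY : ℚ) + 1 / (sY' : ℚ) + 8 / (sZ : ℚ) +
      1 / ((1 + sY' + sZ : ℤ) : ℚ) + 1 / ((sE + sY + sZ : ℤ) : ℚ) +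
      1 / ((1 + sY + sZ : ℤ) : ℚ) + 1 / ((sE + sY' + sZ : ℤ) : ℚ) = 648 / (g : ℚ) := by
    rw [w1, w2, w3, w4, div_eq_mul_one_div (8 : ℚ)]
    linarith
  have hgb := Cfsg.Agent.Lib.Helper9.Db8.d8_bound sE sY sY' sZ g hg0 he9 hy9 hy'9 hz9 hpat hE2
  rcases Cfsg.Agent.Lib.Helper7.D8Search.d8_search sE sY sY' sZ g hgb he9 hy9 hy'9 hz9 hpat hdiv
    hsq' hE1 hE2 hg hk with h72 | ⟨h720, hsE1, -, -, -⟩
  · exact Or.inl h72
  · right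
    refine ⟨h720, iE, ?_, aE, ?_, cE, ?_, νE⟩
    · clear * - gE dgE hsE1
      omega
    · rw [bE]
      clear * - gE dgE hsE1
      omega
    · rw [dE]
      clear * - gE dgE hsE1
      omega

end Cfsg.Agent.Lib.Helper9.Dc8
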