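import Mathlib

namespace Cfsg.Agent.Lib.Helper9.Nm9

open scoped Pointwise

theorem stab_trivial {G : Type*} [Group G] [Finite G] (P : Sylow 3 G)
    (hcomm : ∀ x ∈ (P : Subgroup G), ∀ y ∈ (P : Subgroup G), x * y = y * x)
    (hloc : ∀ s ∈ (P : Subgroup G), s ≠ 1 → Subgroup.centralizer ({s} : Set G) ≤
      Subgroup.normalizer ((P : Subgroup G) : Set G))
    (Q : Sylow 3 G) (hQ : Q ≠ P) (x : G) (hxP : x ∈ (P : Subgroup G)) (hxQ : x • Q = Q) :
    x = 1 := by
  have : Fact (Nat.Prime 3) := ⟨Nat.prime_three⟩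
  by_contra hx1
  have hxN : x ∈ Subgroup.normalizer ((Q : Subgroup G) : Set G) :=
    Sylow.smul_eq_iff_mem_normalizer.mp hxQ
  have hinf := IsPGroup.inf_normalizer_sylow P.isPGroup' Q
  have hxQ' : x ∈ (Q : Subgroup G) := (hinf.le ⟨hxP, hxN⟩).2
  obtain ⟨g, hg⟩ := MulAction.exists_smul_eq G P Q
  have hQmem : ∀ a ∈ (Q : Subgroup G), ∃ p ∈ (P : Subgroup G), a = g * p * g⁻¹ := by
    intro a ha
    rw [← hg] at ha
    have ha' : a ∈ MulAut.conj g • (P : Subgroup G) := ha
    rw [Subgroup.mem_pointwise_smul_iff_inv_smul_mem] at ha'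
    refine ⟨_, ha', ?_⟩
    simp [MulAut.smul_def, mul_assoc]
  have hQcomm : ∀ a ∈ (Q : Subgroup G), ∀ b ∈ (Q : Subgroup G), a * b = b * a := by
    intro a ha b hb
    obtain ⟨p, hp, rfl⟩ := hQmem a ha
    obtain ⟨q, hq, rfl⟩ := hQmem b hb
    have := hcomm p hp q hq
    calc g * p * g⁻¹ * (g * q * g⁻¹) = g * (p * q) * g⁻¹ := by group
      _ = g * (q * p) * g⁻¹ := by rw [this]
      _ = g * q * g⁻¹ * (g * p * g⁻¹) := by group
  have hQle : (Q : Subgroup G) ≤ Subgroup.normalizer ((P : Subgroup G) : Set G) := by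
    intro q hq
    apply hloc x hxP hx1
    rw [Subgroup.mem_centralizer_iff]
    intro y hy
    rw [Set.mem_singleton_iff] at hy
    subst hy
    exact hQcomm _ hxQ' _ hq
  have hinf2 := IsPGroup.inf_normalizer_sylow Q.isPGroup' P
  have hle : (Q : Subgroup G) ≤ (P : Subgroup G) := by
    intro q hq
    exact (hinf2.le ⟨hq, hQle hq⟩).2
  have : (Q : Subgroup G) = (P : Subgroup G) := (Q.is_maximal' P.isPGroup' hle).symm
  exact hQ (Sylow.ext this)

theorem index_normalizer_mod_nine {G : Type*} [Group G] [Finite G] (P : Sylow 3 G)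
    (hcard : Nat.card ↥(P : Subgroup G) = 9)
    (hcomm : ∀ x ∈ (P : Subgroup G), ∀ y ∈ (P : Subgroup G), x * y = y * x)
    (hloc : ∀ s ∈ (P : Subgroup G), s ≠ 1 → Subgroup.centralizer ({s} : Set G) ≤
      Subgroup.normalizer ((P : Subgroup G) : Set G)) :
    (Subgroup.normalizer ((P : Subgroup G) : Set G)).index % 9 = 1 := by
  classical
  have : Fact (Nat.Prime 3) := ⟨Nat.prime_three⟩
  have hidx : (Subgroup.normalizer ((P : Subgroup G) : Set G)).index = Nat.card (Sylow 3 G) :=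
    (Sylow.card_eq_index_normalizer P).symm
  rw [hidx]
  have : Fintype (Quotient (MulAction.orbitRel ↥(P : Subgroup G) (Sylow 3 G))) :=
    Fintype.ofFinite _
  have e := MulAction.selfEquivSigmaOrbitsQuotientStabilizer ↥(P : Subgroup G) (Sylow 3 G)
  rw [Nat.card_congr e, Nat.card_sigma, Finset.sum_nat_mod]
  -- the orbit of P
  set ω₀ : Quotient (MulAction.orbitRel ↥(P : Subgroup G) (Sylow 3 G)) := ⟦P⟧ with hω₀
  have hfix : ∀ y : ↥(P : Subgroup G), y • P = P := by
    intro y
    have : ((y : G)) • P = P :=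
      Sylow.smul_eq_iff_mem_normalizer.mpr (Subgroup.le_normalizer y.2)
    exact this
  have hout : ∀ ω : Quotient (MulAction.orbitRel ↥(P : Subgroup G) (Sylow 3 G)),
      ω.out = P → ω = ω₀ := by
    intro ω h
    rw [← Quotient.out_eq ω, h]
  have hout0 : ω₀.out = P := by
    have h1 : (⟦ω₀.out⟧ : Quotient (MulAction.orbitRel ↥(P : Subgroup G) (Sylow 3 G))) = ⟦P⟧ :=
      Quotient.out_eq ω₀
    have h2 := Quotient.exact h1
    change ω₀.out ∈ MulAction.orbit ↥(P : Subgroup G) P at h2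
    obtain ⟨y, hy⟩ := h2
    rw [← hy]
    exact hfix y
  have hterm : ∀ ω : Quotient (MulAction.orbitRel ↥(P : Subgroup G) (Sylow 3 G)),
      Nat.card (↥(P : Subgroup G) ⧸ MulAction.stabilizer ↥(P : Subgroup G) ω.out) % 9 =
        if ω = ω₀ then 1 else 0 := by
    intro ω
    by_cases h : ω = ω₀
    · rw [if_pos h, h]
      have : MulAction.stabilizer ↥(P : Subgroup G) ω₀.out = ⊤ := by
        rw [eq_top_iff]
        intro y _
        rw [MulAction.mem_stabilizer_iff, hout0]
        exact hfix y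
      rw [this]
      have h1 : Nat.card (↥(P : Subgroup G) ⧸ (⊤ : Subgroup ↥(P : Subgroup G))) = 1 := by
        rw [← Subgroup.index_eq_card, Subgroup.index_top]
      rw [h1]
    · rw [if_neg h]
      have hne : ω.out ≠ P := fun hh => h (hout ω hh)
      have : MulAction.stabilizer ↥(P : Subgroup G) ω.out = ⊥ := by
        rw [eq_bot_iff]
        intro y hy
        rw [MulAction.mem_stabilizer_iff] at hy
        have hy' : ((y : G)) • ω.out = ω.out := hy
        have := stab_trivial P hcomm hloc ω.out hne (y : G) y.2 hy'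
        rw [Subgroup.mem_bot]
        exact Subtype.ext this
      rw [this]
      have h1 : Nat.card (↥(P : Subgroup G) ⧸ (⊥ : Subgroup ↥(P : Subgroup G))) = 9 := by
        rw [← Subgroup.index_eq_card, Subgroup.index_bot, hcard]
      rw [h1]
  simp_rw [hterm]
  rw [Finset.sum_ite_eq' Finset.univ ω₀ (fun _ => 1)]
  simp

end Cfsg.Agent.Lib.Helper9.Nm9
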