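import Mathlib
import Cfsg.Agent.Lib.Helper3.CPDefs
import Cfsg.Agent.Lib.Helper9.CPHigman
import Cfsg.Agent.Lib.Helper6.CPR
import Cfsg.Agent.Lib.Helper2.TIZ
import Cfsg.Agent.Lib.Helper5.CPEnd1
import Cfsg.Agent.Lib.Helper5.CPEnd2
import Cfsg.Agent.Lib.Helper1.CPP5D
import Cfsg.Agent.S0183
import Cfsg.Agent.S0495

set_option autoImplicit false
set_option maxHeartbeats 4000000
set_option linter.unusedVariables false
set_option linter.unusedSectionVars false
set_option linter.style.longLine false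
set_option linter.style.haveILetI false
set_option linter.deprecated false
set_option linter.unusedSimpArgs false

/-!
# S3396: final assembly (modulo the pair lemma, taken as a hypothesis)
-/

namespace Cfsg.Agent.Lib.Helper9.CP
open Cfsg.Agent.Lib.Helper3.CP

universe u v

/-- The statement of helper3's pair lemma for the group `G`. -/
def PairStmt (G : Type u) [Group G] : Prop :=
  ∀ {M M' Q Q' T : Subgroup G} {x x' : G} {r r' : ℕ}, Loc M Q T x r → Loc M' Q' T x' r' →
    Q ≠ Q' → Q ≠ T → Q' ≠ T →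
    (∀ C : Subgroup G, C ≠ ⊥ → C ≤ T → (∀ m ∈ M, ∀ c ∈ C, m * c * m⁻¹ ∈ C) →
      (∀ m ∈ M', ∀ c ∈ C, m * c * m⁻¹ ∈ C) → False) →
    Nat.card Q = 4 ∨ Nat.card Q' = 4

section
variable {G : Type u} [Group G]

/-- A `CC` group is a CN-group. -/
theorem CC.isCNGroup [Finite G] (hC : CC G) : Cfsg.IsCNGroup G := by
  intro g hg
  obtain ⟨t, k, ht, hk, htk⟩ :=
    Cfsg.Agent.Lib.Helper1.EPPO.IsEPPO.orderOf_eq (Cfsg.Agent.Lib.Helper6.CP.CC.isEPPO hC) hg
  haveI : Fact t.Prime := ⟨ht⟩
  exact (Cfsg.Agent.Lib.Helper1.EPPO.IsEPPO.isPGroup_centralizer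
    (Cfsg.Agent.Lib.Helper6.CP.CC.isEPPO hC) ht hk htk).isNilpotent

/-- A `CC` group of odd order is solvable (Feit–Hall–Thompson, S0183). -/
theorem CC.solvable_of_odd [Finite G] (hC : CC G) (hodd : Odd (Nat.card G)) :
    Group.IsSolvable G :=
  Cfsg.Agent.S0183.result hodd (CC.isCNGroup hC)

/-- A finite `2`-group is solvable. -/
theorem solvable_of_isPGroup_two [Finite G] (h : IsPGroup 2 G) : Group.IsSolvable G := by
  haveI : Fact (Nat.Prime 2) := ⟨Nat.prime_two⟩
  haveI := h.isNilpotent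
  infer_instance

/-- In a `CC` group the centralizer of a nontrivial `2`-subgroup is a `2`-group. -/
theorem CC.isPGroup_centralizer_of_two (hC : CC G) (Q : Subgroup G) (hQ2 : IsPGroup 2 Q)
    (hQ1 : Q ≠ ⊥) : IsPGroup 2 (Subgroup.centralizer (Q : Set G)) := by
  obtain ⟨q, hqQ, hq1⟩ : ∃ q ∈ Q, q ≠ 1 := by
    obtain ⟨q, hq⟩ := (Subgroup.ne_bot_iff_exists_ne_one).1 hQ1
    exact ⟨(q : G), q.2, fun h => hq (Subtype.ext h)⟩
  obtain ⟨j, hj, hjo⟩ :=
    Cfsg.Agent.Lib.Helper1.EPPO.orderOf_eq_of_isPGroup Nat.prime_two hQ2 hqQ hq1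
  have h1 := Cfsg.Agent.Lib.Helper1.EPPO.IsEPPO.isPGroup_centralizer
    (Cfsg.Agent.Lib.Helper6.CP.CC.isEPPO hC) Nat.prime_two hj hjo
  refine h1.to_le ?_
  apply Subgroup.centralizer_le
  intro z hz
  rw [Set.mem_singleton_iff] at hz
  subst hz
  exact hqQ

/-- In a `CC` group, a member `M = N(Q)` of `𝓜` has `C_G(Q) ≤ Q`. -/
theorem Mem.centralizer_le (hC : CC G) {M Q : Subgroup G} (hM : Mem M Q) :
    Subgroup.centralizer (Q : Set G) ≤ Q := by
  obtain ⟨hQne, ⟨hQM, hQ2, hQn, hmax⟩, hMN, hM2⟩ := hM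
  apply hmax
  · rw [hMN]
    exact Subgroup.centralizer_le_normalizer _
  · exact CC.isPGroup_centralizer_of_two hC Q hQ2 hQne
  · intro m hm c hc
    rw [Subgroup.mem_centralizer_iff] at hc ⊢
    intro q hq
    have hq' : m⁻¹ * q * m ∈ Q := by
      have := hQn m⁻¹ (M.inv_mem hm) q hq
      simpa using this
    have h := hc _ hq'
    calc q * (m * c * m⁻¹) = m * ((m⁻¹ * q * m) * c) * m⁻¹ := by group
      _ = m * (c * (m⁻¹ * q * m)) * m⁻¹ := by rw [h]
      _ = m * c * m⁻¹ * q := by group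

/-- A subgroup which is not a `2`-group contains an element of odd prime order. -/
theorem exists_odd_prime_order [Finite G] (M : Subgroup G) (hM : ¬ IsPGroup 2 M) :
    ∃ y ∈ M, ∃ r : ℕ, r.Prime ∧ r ≠ 2 ∧ orderOf y = r := by
  by_contra hcon
  push Not at hcon
  apply hM
  have hcard : Nat.card M ≠ 0 := Nat.card_pos.ne'
  have : ∀ r : ℕ, r.Prime → r ∣ Nat.card M → r = 2 := by
    intro r hr hdvd
    by_contra hr2
    haveI : Fact r.Prime := ⟨hr⟩
    obtain ⟨y, hy⟩ := exists_prime_orderOf_dvd_card' r hdvd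
    exact hcon (y : G) y.2 r hr hr2 (by rw [Subgroup.orderOf_coe]; exact hy)
  have h2 : Nat.card M = 2 ^ (Nat.card M).primeFactorsList.length := by
    apply Nat.eq_prime_pow_of_unique_prime_dvd hcard
    intro r hr hdvd
    exact this r hr hdvd
  exact IsPGroup.of_card h2

/-- In a `CC` group, a member of `𝓜` with `|Q| = 4` has `Q` of exponent `2`. -/
theorem Mem.sq_eq_one [Finite G] (hC : CC G) {M Q : Subgroup G} (hM : Mem M Q)
    (hQ4 : Nat.card Q = 4) : ∀ e ∈ Q, e ^ 2 = 1 := by
  intro e heQ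
  by_contra he2
  obtain ⟨hQne, ⟨hQM, hQ2, hQn, hmax⟩, hMN, hM2⟩ := hM
  -- `e` has order 4
  have hdvd : orderOf e ∣ 4 := by
    have := Subgroup.orderOf_dvd_natCard Q heQ
    rwa [hQ4] at this
  have ho : orderOf e = 4 := by
    have hle : orderOf e ≤ 4 := Nat.le_of_dvd (by norm_num) hdvd
    have hpos : 0 < orderOf e := Nat.pos_of_dvd_of_pos hdvd (by norm_num)
    have h1 : orderOf e ≠ 1 := by
      intro h
      rw [orderOf_eq_one_iff] at h
      exact he2 (by rw [h, one_pow])
    have h2 : orderOf e ≠ 2 := by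
      intro h
      exact he2 (by rw [← h, pow_orderOf_eq_one])
    have h3 : orderOf e ≠ 3 := by
      intro h
      rw [h] at hdvd
      norm_num at hdvd
    omega
  have he4 : e ^ 4 = 1 := by rw [← ho, pow_orderOf_eq_one]
  -- `Q = ⟨e⟩`
  have hQe : Subgroup.zpowers e = Q := by
    apply Subgroup.eq_of_le_of_card_ge
    · rw [Subgroup.zpowers_le]; exact heQ
    · rw [Nat.card_zpowers, ho, hQ4]
  obtain ⟨y, hyM, r, hr, hr2, hyo⟩ := exists_odd_prime_order M hM2
  -- the key: a conjugate of `e` by an element `z` of order `r`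
  have key : ∀ z : G, orderOf z = r → z * e = e * z → False := by
    intro z hz hcomm
    exact Cfsg.Agent.Lib.Helper6.CP.CC.false_of_commute hC hcomm hr Nat.prime_two hr2
      (i := 1) (j := 2) one_pos (by norm_num) (by rw [hz, pow_one]) (by rw [ho]; norm_num)
  have hconj : y * e * y⁻¹ ∈ Subgroup.zpowers e := by
    rw [hQe]; exact hQn y hyM e heQ
  rw [← mem_powers_iff_mem_zpowers] at hconj
  obtain ⟨k, hk⟩ := (Submonoid.mem_powers_iff _ _).1 hconj
  have hk' : e ^ (k % 4) = y * e * y⁻¹ := by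
    rw [← hk, ← ho, pow_mod_orderOf]
  have hklt : k % 4 < 4 := Nat.mod_lt _ (by norm_num)
  have hconj_ne : y * e * y⁻¹ ≠ 1 := by
    intro h
    have : e = 1 := by
      have := congrArg (fun w => y⁻¹ * w * y) h
      simpa [mul_assoc] using this
    exact he2 (by rw [this, one_pow])
  have hconj_sq : (y * e * y⁻¹) ^ 2 ≠ 1 := by
    intro h
    have h' : y * e ^ 2 * y⁻¹ = 1 := by
      rw [← h]; simp [pow_two, mul_assoc]
    have : e ^ 2 = 1 := by
      have := congrArg (fun w => y⁻¹ * w * y) h'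
      simpa [mul_assoc] using this
    exact he2 this
  interval_cases hkk : k % 4
  · rw [pow_zero] at hk'
    exact hconj_ne hk'.symm
  · rw [pow_one] at hk'
    apply key y hyo
    calc y * e = (y * e * y⁻¹) * y := by group
      _ = e * y := by rw [← hk']
  · apply hconj_sq
    rw [← hk', ← pow_mul]
    exact he4
  · -- `y e y⁻¹ = e³`, so `y²` commutes with `e`
    have hy2 : orderOf (y ^ 2) = r := by
      rw [Nat.Coprime.orderOf_pow, hyo]
      rw [hyo]
      exact ((Nat.coprime_primes Nat.prime_two hr).2 (Ne.symm hr2)).symm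
    apply key (y ^ 2) hy2
    have h3 : y * e ^ 3 * y⁻¹ = e := by
      have : y * e ^ 3 * y⁻¹ = (y * e * y⁻¹) ^ 3 := by
        simp [pow_succ, mul_assoc]
      rw [this, ← hk', ← pow_mul]
      have : e ^ (3 * 3) = e ^ 4 * e ^ 4 * e := by
        rw [← pow_add, ← pow_succ]
      rw [this, he4, one_mul, one_mul]
    have h4 : y ^ 2 * e * (y ^ 2)⁻¹ = e := by
      calc y ^ 2 * e * (y ^ 2)⁻¹ = y * (y * e * y⁻¹) * y⁻¹ := by
            rw [pow_two]; group
        _ = y * e ^ 3 * y⁻¹ := by rw [← hk']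
        _ = e := h3
    calc y ^ 2 * e = (y ^ 2 * e * (y ^ 2)⁻¹) * y ^ 2 := by group
      _ = e * y ^ 2 := by rw [h4]

end

/-- The inductive statement: a non-solvable `CC` group is simple of order 168 (given the pair
lemma). -/
theorem simple_168_of_pair (pl : ∀ (H : Type u) [Group H] [Finite H], PairStmt H) :
    ∀ (n : ℕ) (G : Type u) [Group G] [Finite G], Nat.card G = n → CC G → ¬ IsSolvable G →
      IsSimpleGroup G ∧ Nat.card G = 168 := by
  intro n
  induction n using Nat.strong_induction_on with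
  | _ n IH =>
    intro G _ _ hn hC hns
    haveI : Fact (Nat.Prime 2) := ⟨Nat.prime_two⟩
    have IH' : ∀ (H : Type u) [Group H] [Finite H], Nat.card H < Nat.card G → CC H →
        ¬ IsSolvable H → IsSimpleGroup H ∧ Nat.card H = 168 := by
      intro H _ _ hlt hCH hnsH
      exact IH (Nat.card H) (hn ▸ hlt) H rfl hCH hnsH
    have hsimple : IsSimpleGroup G := Cfsg.Agent.Lib.Helper6.CP.simple_of_minimal hC hns IH'
    refine ⟨hsimple, ?_⟩
    haveI := hsimple
    -- `G` is not a 2-group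
    have hG2 : ¬ IsPGroup 2 G := fun h => hns (solvable_of_isPGroup_two h)
    have htop2 : ∀ R : Subgroup G, IsPGroup 2 R → R ≠ ⊤ := by
      intro R hR hRtop
      apply hG2
      intro g
      obtain ⟨k, hk⟩ := hR ⟨g, hRtop ▸ Subgroup.mem_top g⟩
      exact ⟨k, by simpa using congrArg Subtype.val hk⟩
    -- the context
    have ctx : Ctx G := by
      refine ⟨hC, hns, ?_⟩
      intro R hR1 hR2
      by_contra hnsN
      set N := Subgroup.normalizer (R : Set G) with hN
      have hRN : R ≤ N := Subgroup.le_normalizer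
      have hNtop : N ≠ ⊤ := by
        intro h
        have hRn : R.Normal := Subgroup.normalizer_eq_top_iff.1 h
        rcases hRn.eq_bot_or_eq_top with h1 | h1
        · exact hR1 h1
        · exact htop2 R hR2 h1
      have hlt : Nat.card N < Nat.card G := by
        have hle : Nat.card N ≤ Nat.card G := Subgroup.card_le_card_group N
        rcases hle.lt_or_eq with h | h
        · exact h
        · exact absurd ((Subgroup.card_eq_iff_eq_top N).1 h) hNtop
      obtain ⟨hNs, hN168⟩ := IH' N hlt (CC.subgroup hC N) hnsN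
      haveI := hNs
      have hnor : (R.subgroupOf N).Normal := Subgroup.normal_in_normalizer
      rcases hnor.eq_bot_or_eq_top with h1 | h1
      · apply hR1
        rw [Subgroup.subgroupOf_eq_bot] at h1
        rwa [disjoint_iff, inf_of_le_left hRN] at h1
      · rw [Subgroup.subgroupOf_eq_top] at h1
        apply hnsN
        exact solvable_of_isPGroup_two (hR2.to_le h1)
    by_cases hnTI : ∃ P Q : Sylow 2 G, P ≠ Q ∧ (P : Subgroup G) ⊓ (Q : Subgroup G) ≠ ⊥
    · obtain ⟨M, Q, hMem, hQ4⟩ :=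
        Cfsg.Agent.Lib.Helper1.CP.exists_mem_card_four_of_pair ctx (pl G) hnTI
      exact Cfsg.Agent.Lib.Helper5.CP.card_eq_168_of_four_group hC hns Q hQ4
        (Mem.sq_eq_one hC hMem hQ4) (Mem.centralizer_le hC hMem)
    · have hTI : ∀ P Q : Sylow 2 G, P ≠ Q → (P : Subgroup G) ⊓ (Q : Subgroup G) = ⊥ := by
        intro P Q hPQ
        by_contra h
        exact hnTI ⟨P, Q, hPQ, h⟩
      have h2 : ∃ P Q : Sylow 2 G, P ≠ Q := by
        by_contra hcon
        push Not at hcon
        haveI : Subsingleton (Sylow 2 G) := ⟨hcon⟩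
        obtain ⟨P⟩ : Nonempty (Sylow 2 G) := inferInstance
        have hPn : (P : Subgroup G).Normal := Sylow.normal_of_subsingleton P
        rcases hPn.eq_bot_or_eq_top with h1 | h1
        · apply hns
          apply CC.solvable_of_odd hC
          rw [← Nat.not_even_iff_odd]
          intro heven
          exact P.ne_bot_of_dvd_card heven.two_dvd h1
        · exact htop2 P P.isPGroup' h1
      have hCIT : ∀ t : G, orderOf t = 2 → IsPGroup 2 (Subgroup.centralizer ({t} : Set G)) :=
        fun t ht => Cfsg.Agent.Lib.Helper5.CP.cit_of_cc hC t ht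
      exact Cfsg.Agent.Lib.Helper5.CP.card_eq_168_of_ti hC hns
        (Cfsg.Agent.Lib.Helper2.TIZ.zassenhaus_of_cit_ti hCIT hTI h2)

/-- S3396 modulo the pair lemma. -/
theorem main_of_pair (pl : ∀ (H : Type u) [Group H] [Finite H], PairStmt H)
    {G : Type u} [Group G] [Finite G]
    {F : Type v} [Field F] [Fintype F] (hF : Fintype.card F = 7)
    (h3 : 3 ≤ (Nat.card G).primeFactors.card)
    (hord : ∀ g : G, g ≠ 1 →
      (∃ k : ℕ, orderOf g = 2 ^ k) ∨ ((orderOf g).Prime ∧ orderOf g ≠ 5)) :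
    Nonempty (G ≃* Matrix.ProjectiveSpecialLinearGroup (Fin 2) F) := by
  have hC : CC G := hord
  have hns : ¬ IsSolvable G := by
    intro hs
    have := higman hC hs
    omega
  obtain ⟨hs, h168⟩ := simple_168_of_pair pl (Nat.card G) G rfl hC hns
  haveI := hs
  exact Cfsg.Agent.S0495.result h168 hF

end Cfsg.Agent.Lib.Helper9.CP
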