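import Mathlib
import Cfsg.Agent.Lib.Helper8.C5Defs
import Cfsg.Agent.Lib.Helper9.C5A
import Cfsg.Agent.S0183

set_option autoImplicit false
set_option linter.unusedSectionVars false
set_option linter.unusedVariables false
set_option linter.unusedSimpArgs false
set_option linter.style.haveILetI false
set_option linter.style.longLine false
set_option linter.deprecated false
set_option maxHeartbeats 1000000

/-! # S3433 piece M1: a nonsolvable `C5` group has no nontrivial abelian normal subgroup of odd
order -/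

open Cfsg.Agent.Lib.Helper8.C5 Cfsg.Agent.Lib.Helper8.CQ

namespace Cfsg.Agent.Lib.Helper9.C5

universe u
variable {G : Type u} [Group G] [Finite G]

/-- a `C5` group without involutions is solvable (it is a CN-group of odd order, S0183). -/
theorem solvable_of_no_invol (h5 : C5 G) (hinv : ¬ ∃ t : G, orderOf t = 2) :
    Group.IsSolvable G := by
  have hodd : Odd (Nat.card G) := by
    rw [← Nat.not_even_iff_odd, even_iff_two_dvd]
    intro h2
    haveI : Fact (Nat.Prime 2) := ⟨Nat.prime_two⟩
    obtain ⟨t, ht⟩ := exists_prime_orderOf_dvd_card' (G := G) 2 h2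
    exact hinv ⟨t, ht⟩
  apply Cfsg.Agent.S0183.result hodd
  intro g hg
  rcases h5.cases g with h | h | h | h | h
  · exact absurd (orderOf_eq_one_iff.mp h) hg
  · exact absurd ⟨g, h⟩ hinv
  · haveI : Fact (Nat.Prime 3) := ⟨by norm_num⟩
    exact (h5.cpt 3 (Or.inl rfl) g h).isNilpotent
  · exfalso
    apply hinv
    refine ⟨g ^ 2, ?_⟩
    rw [orderOf_pow' g (by norm_num), h]
    norm_num
  · haveI : Fact (Nat.Prime 5) := ⟨by norm_num⟩
    exact (h5.cpt 5 (Or.inr rfl) g h).isNilpotent

/-- **S3433 piece M1.** -/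
theorem no_odd_normal (h5 : C5 G) (hns : ¬ IsSolvable G) (N : Subgroup G) [N.Normal]
    (hN1 : N ≠ ⊥) (hNab : ∀ a ∈ N, ∀ b ∈ N, a * b = b * a) (hodd : Odd (Nat.card ↥N)) :
    False := by
  classical
  by_cases hinv : ∃ t : G, orderOf t = 2
  swap
  · exact hns (solvable_of_no_invol h5 hinv)
  obtain ⟨t, ht⟩ := hinv
  apply hns
  have hsq : ∀ s : G, orderOf s = 2 → s * s = 1 := by
    intro s hs
    rw [← pow_two, ← hs]; exact pow_orderOf_eq_one s
  -- a nonidentity element of N and its order
  obtain ⟨n₀, hn₀⟩ := (Subgroup.ne_bot_iff_exists_ne_one).mp hN1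
  have hn₀1 : (n₀ : G) ≠ 1 := fun h => hn₀ (Subtype.ext h)
  have hNord : ∀ n ∈ N, n ≠ 1 → orderOf n = 3 ∨ orderOf n = 5 := by
    intro n hn hn1
    have hd : orderOf n ∣ Nat.card N := by
      have := orderOf_dvd_natCard (⟨n, hn⟩ : N)
      rwa [Subgroup.orderOf_mk] at this
    have hoddn : Odd (orderOf n) := Odd.of_dvd_nat hodd hd
    rcases h5.cases n with h | h | h | h | h
    · exact absurd (orderOf_eq_one_iff.mp h) hn1
    · rw [h] at hoddn; exact absurd hoddn (by decide)
    · left; exact h
    · rw [h] at hoddn; exact absurd hoddn (by decide)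
    · right; exact h
  -- involutions invert N
  have hinvN : ∀ s : G, orderOf s = 2 → ∀ n ∈ N, s * n * s⁻¹ = n⁻¹ := by
    intro s hs
    apply inv_of_fpf_invol (hsq s hs) (fun n hn => ‹N.Normal›.conj_mem n hn s)
    intro n hn hfix
    by_contra hn1
    have hcomm : s * n = n * s := by
      calc s * n = s * n * s⁻¹ * s := by group
        _ = n * s := by rw [hfix]
    have hno := hNord n hn hn1
    exact h5.false_of_commute hcomm (by rw [hs]; rcases hno with h | h <;> rw [h] <;> norm_num)
      (by rw [hs]) (by rcases hno with h | h <;> rw [h] <;> norm_num)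
  set C : Subgroup G := Subgroup.centralizer (N : Set G) with hC
  haveI hCn : C.Normal := Subgroup.normal_centralizer
  -- C is solvable
  have hCsol : Group.IsSolvable C := by
    have hle : C ≤ Subgroup.centralizer ({(n₀ : G)} : Set G) :=
      Subgroup.centralizer_le (by
        intro x hx
        rw [Set.mem_singleton_iff] at hx
        rw [hx]; exact n₀.2)
    rcases hNord _ n₀.2 hn₀1 with h | h
    · haveI : Fact (Nat.Prime 3) := ⟨by norm_num⟩
      haveI := ((h5.cpt 3 (Or.inl rfl) _ h).to_le hle).isNilpotent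
      infer_instance
    · haveI : Fact (Nat.Prime 5) := ⟨by norm_num⟩
      haveI := ((h5.cpt 5 (Or.inr rfl) _ h).to_le hle).isNilpotent
      infer_instance
  -- products of two inverting elements centralize N
  have hprodC : ∀ a b : G, (∀ n ∈ N, a * n * a⁻¹ = n⁻¹) → (∀ n ∈ N, b * n * b⁻¹ = n⁻¹) →
      a * b ∈ C := by
    intro a b ha hb
    rw [hC, Subgroup.mem_centralizer_iff]
    intro n hn
    have h1 := hb n hn
    have h2 := ha n⁻¹ (N.inv_mem hn)
    rw [inv_inv] at h2
    have h3 : (a * b) * n * (a * b)⁻¹ = n := by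
      calc (a * b) * n * (a * b)⁻¹ = a * (b * n * b⁻¹) * a⁻¹ := by group
        _ = n := by rw [h1, h2]
    calc n * (a * b) = ((a * b) * n * (a * b)⁻¹) * (a * b) := by rw [h3]
      _ = a * b * n := by group
  have htC : t ∉ C := by
    intro htC
    rw [hC, Subgroup.mem_centralizer_iff] at htC
    have h1 := htC _ n₀.2
    have h2 := hinvN t ht _ n₀.2
    have h3 : (n₀ : G)⁻¹ = n₀ := by
      rw [← h2, ← h1]; group
    have h4 : (n₀ : G) ^ 2 = 1 := by
      rw [pow_two]
      calc (n₀ : G) * n₀ = (n₀ : G)⁻¹ * n₀ := by rw [h3]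
        _ = 1 := by group
    have hd : orderOf (n₀ : G) ∣ 2 := orderOf_dvd_of_pow_eq_one h4
    rcases hNord _ n₀.2 hn₀1 with h | h <;> rw [h] at hd <;> omega
  -- the quotient G/C is a 2-group
  have hcentral : ∀ g : G, (QuotientGroup.mk g : G ⧸ C) * QuotientGroup.mk t =
      QuotientGroup.mk t * QuotientGroup.mk g := by
    intro g
    rw [← QuotientGroup.mk_mul, ← QuotientGroup.mk_mul, QuotientGroup.eq]
    have hconj : ∀ n ∈ N, (g⁻¹ * t * g) * n * (g⁻¹ * t * g)⁻¹ = n⁻¹ := by
      apply hinvN
      have := Cfsg.Agent.Lib.Helper9.C5.orderOf_conj_eq' g⁻¹ t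
      rw [inv_inv] at this
      rw [this, ht]
    have htinv : t⁻¹ = t := inv_eq_of_mul_eq_one_left (hsq t ht)
    have h := hprodC t (g⁻¹ * t * g) (hinvN t ht) hconj
    have e : (g * t)⁻¹ * (t * g) = t * (g⁻¹ * t * g) := by
      rw [mul_inv_rev, htinv]; group
    rw [e]; exact h
  have hQ2 : IsPGroup 2 (G ⧸ C) := by
    intro x
    induction x using QuotientGroup.induction_on with
    | H g =>
      have hcase : ∀ r : ℕ, r.Prime → r ≠ 2 → orderOf g = r → (QuotientGroup.mk g : G ⧸ C) = 1 := by
        intro r hr hr2 hgr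
        by_contra hne1
        have ho1 : orderOf (QuotientGroup.mk g : G ⧸ C) = r := by
          have hd : orderOf (QuotientGroup.mk g : G ⧸ C) ∣ r := by
            rw [← hgr]; exact orderOf_map_dvd (QuotientGroup.mk' C) g
          rcases (Nat.dvd_prime hr).mp hd with h | h
          · exact absurd (orderOf_eq_one_iff.mp h) hne1
          · exact h
        have ho2 : orderOf (QuotientGroup.mk t : G ⧸ C) = 2 := by
          have hd : orderOf (QuotientGroup.mk t : G ⧸ C) ∣ 2 := by
            rw [← ht]; exact orderOf_map_dvd (QuotientGroup.mk' C) t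
          rcases (Nat.dvd_prime Nat.prime_two).mp hd with h | h
          · exfalso
            apply htC
            have := orderOf_eq_one_iff.mp h
            rwa [QuotientGroup.eq_one_iff] at this
          · exact h
        have hcop : (orderOf (QuotientGroup.mk g : G ⧸ C)).Coprime
            (orderOf (QuotientGroup.mk t : G ⧸ C)) := by
          rw [ho1, ho2]; exact (Nat.coprime_primes hr Nat.prime_two).mpr hr2
        have hmul := (show Commute (QuotientGroup.mk g : G ⧸ C) (QuotientGroup.mk t) from
          hcentral g).orderOf_mul_eq_mul_orderOf_of_coprime hcop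
        rw [ho1, ho2, ← QuotientGroup.mk_mul] at hmul
        have hd : orderOf (QuotientGroup.mk (g * t) : G ⧸ C) ∣ orderOf (g * t) :=
          orderOf_map_dvd (QuotientGroup.mk' C) (g * t)
        rw [hmul] at hd
        have hle := Nat.le_of_dvd (h5.pos (g * t)) hd
        have h5' := (h5 (g * t)).2
        have := hr.two_le
        have : r ≠ 2 := hr2
        omega
      have hpow : ∀ k : ℕ, g ^ 2 ^ k = 1 → ((QuotientGroup.mk g : G ⧸ C)) ^ 2 ^ k = 1 := by
        intro k hk
        rw [← QuotientGroup.mk_pow, hk, QuotientGroup.mk_one]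
      rcases h5.cases g with h | h | h | h | h
      · exact ⟨0, hpow 0 (by rw [pow_zero, pow_one]; exact orderOf_eq_one_iff.mp h)⟩
      · exact ⟨1, hpow 1 (by rw [pow_one, ← h]; exact pow_orderOf_eq_one g)⟩
      · exact ⟨0, by rw [pow_zero, pow_one]; exact hcase 3 (by norm_num) (by norm_num) h⟩
      · exact ⟨2, hpow 2 (by rw [show (2 : ℕ) ^ 2 = 4 by norm_num, ← h]; exact pow_orderOf_eq_one g)⟩
      · exact ⟨0, by rw [pow_zero, pow_one]; exact hcase 5 (by norm_num) (by norm_num) h⟩
  haveI hQsol : Group.IsSolvable (G ⧸ C) := by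
    haveI : Fact (Nat.Prime 2) := ⟨Nat.prime_two⟩
    haveI := hQ2.isNilpotent
    infer_instance
  haveI := hCsol
  exact Group.isSolvable_of_ker_le_range C.subtype (QuotientGroup.mk' C) (by simp)

end Cfsg.Agent.Lib.Helper9.C5
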