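import Mathlib
import Cfsg.Agent.Lib.Helper8.C5Defs
import Cfsg.Agent.Lib.Helper9.C5A
import Cfsg.Agent.Lib.Helper9.OSP2

set_option autoImplicit false
set_option linter.unusedSectionVars false
set_option linter.unusedVariables false
set_option linter.unusedSimpArgs false
set_option linter.style.haveILetI false
set_option linter.style.longLine false
set_option linter.deprecated false
set_option maxHeartbeats 1000000

/-! # S3433 piece N1: no extension of a simple group of order 60 / 360 by `Z_3` or `Z_5` is `C5` -/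

open Cfsg.Agent.Lib.Helper8.C5 Cfsg.Agent.Lib.Helper8.CQ

namespace Cfsg.Agent.Lib.Helper9.C5

universe u
variable {G : Type u} [Group G] [Finite G]

/-- Frattini + fixed-point-free action: if `N ⊴ G` has prime index `l ≥ 3` in a `C5` group and
`q ≠ l` is a prime dividing `|N|`, then `l ∣ q^k - 1` for the order `q^k` of a Sylow `q`-subgroup
of `N`. -/
theorem no_ext_core (h5 : C5 G) (N : Subgroup G) [N.Normal] (l q : ℕ) [hqF : Fact q.Prime]
    (hlp : l.Prime) (hlq : l ≠ q) (hl3 : 3 ≤ l) (hidx : N.index = l) (hq : q ∣ Nat.card ↥N)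
    (harith : ∀ k : ℕ, 1 ≤ k → q ^ k ∣ Nat.card ↥N → ¬ l ∣ q ^ k - 1) : False := by
  classical
  have hqr : q.Prime := hqF.out
  obtain ⟨Rs⟩ : Nonempty (Sylow q ↥N) := inferInstance
  set R : Subgroup G := (Rs : Subgroup N).map N.subtype with hR
  have hRq : IsPGroup q R := Rs.2.map N.subtype
  have hRcard : Nat.card R = Nat.card (Rs : Subgroup N) :=
    Subgroup.card_map_of_injective N.subtype_injective
  obtain ⟨k, hk⟩ := Rs.2.exists_card_eq
  have hk1 : 1 ≤ k := by
    have hd : q ∣ Nat.card (Rs : Subgroup N) := Rs.dvd_card_of_dvd_card hq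
    rw [hk] at hd
    by_contra hcon
    have : k = 0 := by omega
    rw [this, pow_zero] at hd
    exact hqr.one_lt.ne' (Nat.dvd_one.mp hd)
  have hkN : q ^ k ∣ Nat.card ↥N := by
    rw [← hk]; exact Subgroup.card_subgroup_dvd_card _
  -- Frattini
  have hF : Subgroup.normalizer (R : Set G) ⊔ N = ⊤ := Sylow.normalizer_sup_eq_top Rs
  obtain ⟨g, hgR, hgN⟩ : ∃ g ∈ Subgroup.normalizer (R : Set G), g ∉ N := by
    by_contra hcon
    push Not at hcon
    have hle : Subgroup.normalizer (R : Set G) ≤ N := hcon
    rw [sup_eq_right.mpr hle] at hF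
    rw [hF, Subgroup.index_top] at hidx
    omega
  -- the order of g
  have hgo : orderOf g = l := by
    have hne1 : (QuotientGroup.mk g : G ⧸ N) ≠ 1 := by
      intro h; exact hgN ((QuotientGroup.eq_one_iff g).mp h)
    have hd1 : orderOf (QuotientGroup.mk g : G ⧸ N) ∣ l := by
      rw [← hidx, Subgroup.index_eq_card]; exact orderOf_dvd_natCard _
    have ho : orderOf (QuotientGroup.mk g : G ⧸ N) = l := by
      rcases (Nat.dvd_prime hlp).mp hd1 with h | h
      · exact absurd (orderOf_eq_one_iff.mp h) hne1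
      · exact h
    have hd2 : l ∣ orderOf g := by
      rw [← ho]; exact orderOf_map_dvd (QuotientGroup.mk' N) g
    obtain ⟨c, hc⟩ := hd2
    have h1 := h5.pos g
    have h2 := (h5 g).2
    have hc1 : c = 1 := by
      rcases Nat.lt_or_ge c 2 with h | h
      · interval_cases c
        · omega
        · rfl
      · nlinarith
    rw [hc, hc1, mul_one]
  -- semiregular action of ⟨g⟩ on R
  have hdvd : Nat.card (Subgroup.zpowers g) ∣ Nat.card R - 1 := by
    apply Cfsg.Agent.Lib.Helper9.OS.card_dvd_of_semiregular' R (Subgroup.zpowers g)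
    · intro x hx c hc
      have hxN : x ∈ Subgroup.normalizer (R : Set G) := (Subgroup.zpowers_le.mpr hgR) hx
      exact (Subgroup.mem_normalizer_iff.mp hxN c).mp hc
    · intro x hx c hc hc1 hxc
      by_contra hx1
      have hxo : orderOf x = l := by
        have hd : orderOf x ∣ l := by rw [← hgo]; exact orderOf_dvd_of_mem_zpowers hx
        rcases (Nat.dvd_prime hlp).mp hd with h | h
        · exact absurd (orderOf_eq_one_iff.mp h) hx1
        · exact h
      obtain ⟨j, hj⟩ := exists_pow_of_mem hRq hc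
      obtain ⟨i, -, hi⟩ := (Nat.dvd_prime_pow hqr).mp (orderOf_dvd_of_pow_eq_one hj)
      have hi0 : i ≠ 0 := by
        intro h0; rw [h0, pow_zero] at hi; exact hc1 (orderOf_eq_one_iff.mp hi)
      have hcop : (orderOf x).Coprime (orderOf c) := by
        rw [hxo, hi]
        exact Nat.Coprime.pow_right i ((Nat.coprime_primes hlp hqr).mpr hlq)
      have hc2 : 2 ≤ orderOf c := by
        rw [hi]
        calc 2 ≤ q := hqr.two_le
          _ = q ^ 1 := (pow_one q).symm
          _ ≤ q ^ i := Nat.pow_le_pow_right hqr.pos (by omega)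
      exact h5.false_of_commute hxc hcop (by rw [hxo]; omega) hc2
  rw [Nat.card_zpowers, hgo, hRcard, hk] at hdvd
  exact harith k hk1 hkN hdvd

/-- **S3433 piece N1.** -/
theorem no_ext_odd (h5 : C5 G) (N : Subgroup G) [N.Normal] (hNs : IsSimpleGroup ↥N)
    (hNns : ¬ IsSolvable ↥N) (hcard : Nat.card ↥N = 60 ∨ Nat.card ↥N = 360) (l : ℕ)
    (hl : l = 3 ∨ l = 5) (hidx : N.index = l) : False := by
  rcases hl with rfl | rfl
  · haveI : Fact (Nat.Prime 5) := ⟨by norm_num⟩
    refine no_ext_core h5 N 3 5 (by norm_num) (by norm_num) (by norm_num) hidx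
      (by rcases hcard with h | h <;> rw [h] <;> norm_num) ?_
    intro k hk1 hkN
    have hk : k = 1 := by
      by_contra hcon
      have hk2 : 2 ≤ k := by omega
      have h25 : 5 ^ 2 ∣ Nat.card ↥N := (pow_dvd_pow 5 hk2).trans hkN
      rcases hcard with h | h <;> rw [h] at h25 <;> omega
    rw [hk]; norm_num
  · haveI : Fact (Nat.Prime 3) := ⟨by norm_num⟩
    refine no_ext_core h5 N 5 3 (by norm_num) (by norm_num) (by norm_num) hidx
      (by rcases hcard with h | h <;> rw [h] <;> norm_num) ?_
    intro k hk1 hkN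
    have hk : k ≤ 2 := by
      by_contra hcon
      have hk3 : 3 ≤ k := by omega
      have h27 : 3 ^ 3 ∣ Nat.card ↥N := (pow_dvd_pow 3 hk3).trans hkN
      rcases hcard with h | h <;> rw [h] at h27 <;> omega
    interval_cases k <;> norm_num

end Cfsg.Agent.Lib.Helper9.C5
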