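import Mathlib

set_option autoImplicit false
set_option linter.unusedSectionVars false
set_option linter.unusedVariables false
set_option linter.style.longLine false
set_option linter.unusedSimpArgs false

set_option maxHeartbeats 1600000
namespace Cfsg.Agent.Lib.Helper9.Lg
open Matrix

variable {ι : Type*} [Fintype ι] [DecidableEq ι]

/-- squared Hilbert–Schmidt norm of a complex matrix -/
noncomputable def hs (X : Matrix ι ι ℂ) : ℝ := ∑ i, ∑ j, Complex.normSq (X i j)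

theorem hs_nonneg (X : Matrix ι ι ℂ) : 0 ≤ hs X :=
  Finset.sum_nonneg fun i _ => Finset.sum_nonneg fun j _ => Complex.normSq_nonneg _

theorem hs_eq_zero_iff (X : Matrix ι ι ℂ) : hs X = 0 ↔ X = 0 := by
  constructor
  · intro h
    unfold hs at h
    have h0 := (Finset.sum_eq_zero_iff_of_nonneg (s := Finset.univ)
      (f := fun i => ∑ j, Complex.normSq (X i j))
      (fun i _ => Finset.sum_nonneg fun j _ => Complex.normSq_nonneg (X i j))).mp h
    ext i j
    have h1 := h0 i (Finset.mem_univ _)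
    have h2 := (Finset.sum_eq_zero_iff_of_nonneg (s := Finset.univ)
      (f := fun j => Complex.normSq (X i j))
      (fun j _ => Complex.normSq_nonneg (X i j))).mp h1 j (Finset.mem_univ _)
    simpa [Complex.normSq_eq_zero] using h2
  · rintro rfl
    simp [hs]

theorem trace_conj_mul_self (X : Matrix ι ι ℂ) : trace (Xᴴ * X) = (hs X : ℂ) := by
  unfold hs
  rw [Matrix.trace]
  simp only [Matrix.diag_apply, Matrix.mul_apply, Matrix.conjTranspose_apply]
  rw [Finset.sum_comm]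
  push_cast
  refine Finset.sum_congr rfl fun i _ => Finset.sum_congr rfl fun j _ => ?_
  rw [Complex.normSq_eq_conj_mul_self]
  rfl

theorem hs_parallelogram (A B : Matrix ι ι ℂ) :
    hs (A + B) + hs (A - B) = 2 * hs A + 2 * hs B := by
  unfold hs
  rw [← Finset.sum_add_distrib, Finset.mul_sum, Finset.mul_sum, ← Finset.sum_add_distrib]
  refine Finset.sum_congr rfl fun i _ => ?_
  rw [← Finset.sum_add_distrib, Finset.mul_sum, Finset.mul_sum, ← Finset.sum_add_distrib]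
  refine Finset.sum_congr rfl fun j _ => ?_
  simp only [Matrix.add_apply, Matrix.sub_apply]
  rw [Complex.normSq_add, Complex.normSq_sub]
  ring

theorem hs_smul (c : ℂ) (X : Matrix ι ι ℂ) : hs (c • X) = Complex.normSq c * hs X := by
  unfold hs
  rw [Finset.mul_sum]
  refine Finset.sum_congr rfl fun i _ => ?_
  rw [Finset.mul_sum]
  refine Finset.sum_congr rfl fun j _ => ?_
  simp [Matrix.smul_apply, Complex.normSq_mul]

theorem hs_mul_left {U : Matrix ι ι ℂ} (hU : Uᴴ * U = 1) (X : Matrix ι ι ℂ) :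
    hs (U * X) = hs X := by
  have h : ((hs (U * X) : ℝ) : ℂ) = (hs X : ℂ) := by
    rw [← trace_conj_mul_self, ← trace_conj_mul_self, Matrix.conjTranspose_mul]
    have : Xᴴ * Uᴴ * (U * X) = Xᴴ * (Uᴴ * U) * X := by simp only [Matrix.mul_assoc]
    rw [this, hU, Matrix.mul_one]
  exact_mod_cast h

theorem hs_mul_right {U : Matrix ι ι ℂ} (hU : U * Uᴴ = 1) (X : Matrix ι ι ℂ) :
    hs (X * U) = hs X := by
  have h : ((hs (X * U) : ℝ) : ℂ) = (hs X : ℂ) := by
    rw [← trace_conj_mul_self, ← trace_conj_mul_self, Matrix.conjTranspose_mul]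
    have : Uᴴ * Xᴴ * (X * U) = Uᴴ * (Xᴴ * X * U) := by simp only [Matrix.mul_assoc]
    rw [this, Matrix.trace_mul_comm]
    have : Xᴴ * X * U * Uᴴ = Xᴴ * X * (U * Uᴴ) := by simp only [Matrix.mul_assoc]
    rw [this, hU, Matrix.mul_one]
  exact_mod_cast h

/-- Peirce inequality for a Hermitian idempotent. -/
theorem hs_comm_le {Q : Matrix ι ι ℂ} (hH : Qᴴ = Q) (hI : Q * Q = Q) (Y : Matrix ι ι ℂ) :
    hs (Q * Y - Y * Q) ≤ hs Y := by
  set S : Matrix ι ι ℂ := (2 : ℂ) • Q - 1 with hS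
  have hSH : Sᴴ = S := by
    rw [hS, Matrix.conjTranspose_sub, Matrix.conjTranspose_smul, hH]
    simp
  have hSS : S * S = 1 := by
    rw [hS]
    simp only [Matrix.sub_mul, Matrix.mul_sub, Matrix.smul_mul, Matrix.mul_smul, hI,
      Matrix.one_mul, Matrix.mul_one, smul_smul]
    module
  have hSU : Sᴴ * S = 1 := by rw [hSH, hSS]
  have hSU' : S * Sᴴ = 1 := by rw [hSH, hSS]
  have h1 : Q * Y - Y * Q = ((1 / 2 : ℂ)) • (S * Y - Y * S) := by
    rw [hS]
    simp only [Matrix.sub_mul, Matrix.mul_sub, Matrix.smul_mul, Matrix.mul_smul,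
      Matrix.one_mul, Matrix.mul_one]
    module
  have h2 := hs_parallelogram (S * Y) (Y * S)
  rw [hs_mul_left hSU, hs_mul_right hSU'] at h2
  have h3 := hs_nonneg (S * Y + Y * S)
  rw [h1, hs_smul]
  have h4 : Complex.normSq (1 / 2 : ℂ) = 1 / 4 := by
    simp [Complex.normSq_div]
    norm_num
  rw [h4]
  linarith

/-- squared norm of a complex vector -/
noncomputable def nv (v : ι → ℂ) : ℝ := ∑ i, Complex.normSq (v i)

theorem nv_nonneg (v : ι → ℂ) : 0 ≤ nv v :=
  Finset.sum_nonneg fun i _ => Complex.normSq_nonneg _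

theorem nv_eq_zero_iff (v : ι → ℂ) : nv v = 0 ↔ v = 0 := by
  constructor
  · intro h
    unfold nv at h
    have h0 := (Finset.sum_eq_zero_iff_of_nonneg (s := Finset.univ)
      (f := fun i => Complex.normSq (v i))
      (fun i _ => Complex.normSq_nonneg (v i))).mp h
    ext i
    simpa [Complex.normSq_eq_zero] using h0 i (Finset.mem_univ _)
  · rintro rfl
    simp [nv]

theorem nv_pos {v : ι → ℂ} (hv : v ≠ 0) : 0 < nv v :=
  lt_of_le_of_ne (nv_nonneg v) (fun h => hv ((nv_eq_zero_iff v).mp h.symm))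

theorem star_dot_self (v : ι → ℂ) : star v ⬝ᵥ v = (nv v : ℂ) := by
  unfold nv
  rw [dotProduct]
  push_cast
  refine Finset.sum_congr rfl fun i _ => ?_
  rw [Complex.normSq_eq_conj_mul_self]
  rfl

theorem star_dot_sq (K : Matrix ι ι ℂ) (v : ι → ℂ) :
    star v ⬝ᵥ ((Kᴴ * K) *ᵥ v) = (nv (K *ᵥ v) : ℂ) := by
  rw [← star_dot_self, Matrix.star_mulVec, ← Matrix.mulVec_mulVec, Matrix.dotProduct_mulVec]

/-- positivity of the real part of the quadratic form of `B` -/
def Pos (B : Matrix ι ι ℂ) : Prop := ∀ v : ι → ℂ, v ≠ 0 → 0 < (star v ⬝ᵥ (B *ᵥ v)).re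

theorem star_mulVec_dot (A : Matrix ι ι ℂ) (v w : ι → ℂ) :
    star (A *ᵥ v) ⬝ᵥ w = star v ⬝ᵥ (Aᴴ *ᵥ w) := by
  rw [Matrix.star_mulVec, ← Matrix.dotProduct_mulVec]

theorem star_dot_conjTranspose (B : Matrix ι ι ℂ) (v : ι → ℂ) :
    star v ⬝ᵥ (Bᴴ *ᵥ v) = star (star v ⬝ᵥ (B *ᵥ v)) := by
  rw [← Matrix.star_dotProduct, star_mulVec_dot]

theorem pos_of_sq {B K : Matrix ι ι ℂ} {r : ℝ} (hr0 : 0 < r) (hr1 : r ≤ 1)
    (hB : B + Bᴴ = ((2 * r : ℝ) : ℂ) • (1 : Matrix ι ι ℂ) + ((2 * (1 - r) : ℝ) : ℂ) • (Kᴴ * K)) :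
    Pos B := by
  intro v hv
  have h1 : star v ⬝ᵥ ((B + Bᴴ) *ᵥ v) =
      ((2 * r * nv v + 2 * (1 - r) * nv (K *ᵥ v) : ℝ) : ℂ) := by
    rw [hB, Matrix.add_mulVec, dotProduct_add, Matrix.smul_mulVec, Matrix.smul_mulVec,
      dotProduct_smul, dotProduct_smul, Matrix.one_mulVec, star_dot_self, star_dot_sq]
    push_cast
    simp only [smul_eq_mul]
  rw [Matrix.add_mulVec, dotProduct_add, star_dot_conjTranspose] at h1
  have h2 := congrArg Complex.re h1
  rw [Complex.add_re, Complex.ofReal_re] at h2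
  have h3 : (star (star v ⬝ᵥ (B *ᵥ v))).re = (star v ⬝ᵥ (B *ᵥ v)).re := by
    simp
  rw [h3] at h2
  have h4 := nv_pos hv
  have h5 := nv_nonneg (K *ᵥ v)
  have h6 : 0 ≤ 2 * (1 - r) * nv (K *ᵥ v) := by
    apply mul_nonneg _ h5
    linarith
  have h7 : 0 < 2 * r * nv v := by positivity
  linarith

theorem eq_zero_of_mulVec {A : Matrix ι ι ℂ} (h : ∀ w : ι → ℂ, A *ᵥ w = 0) : A = 0 := by
  ext i j
  have := congrFun (h (Pi.single j 1)) i
  simpa using this

/-- The commutation lemma: a Hermitian idempotent `Q` commuting with its conjugate under a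
unitary `B` of positive real part commutes with `B`. -/
theorem comm_of_pos {Q B : Matrix ι ι ℂ} (hH : Qᴴ = Q) (hI : Q * Q = Q)
    (hB : Bᴴ * B = 1) (hpos : Pos B) (hc : Q * (B * Q * Bᴴ) = (B * Q * Bᴴ) * Q) :
    B * Q = Q * B := by
  have hB' : B * Bᴴ = 1 := mul_eq_one_comm.mp hB
  obtain ⟨R, hR⟩ : ∃ R : Matrix ι ι ℂ, R = B * Q * Bᴴ := ⟨_, rfl⟩
  rw [← hR] at hc
  have hQB : Q * Bᴴ = Bᴴ * R := by
    rw [hR, ← Matrix.mul_assoc, ← Matrix.mul_assoc, hB, Matrix.one_mul]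
  have hRI : R * R = R := by
    rw [hR]
    have : B * Q * Bᴴ * (B * Q * Bᴴ) = B * (Q * (Bᴴ * B) * Q) * Bᴴ := by
      simp only [Matrix.mul_assoc]
    rw [this, hB, Matrix.mul_one, hI]
  have key : ∀ v : ι → ℂ, star v ⬝ᵥ (Bᴴ *ᵥ v) = 0 → v = 0 := by
    intro v hv
    by_contra hne
    have h1 := hpos v hne
    rw [star_dot_conjTranspose] at hv
    have h2 : star v ⬝ᵥ (B *ᵥ v) = 0 := by
      have := congrArg star hv
      simpa using this
    rw [h2] at h1
    simp at h1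
  -- the quadratic form of `Bᴴ` through `Q`
  have hform : ∀ v : ι → ℂ, star (Q *ᵥ v) ⬝ᵥ (Bᴴ *ᵥ v) = star v ⬝ᵥ (Bᴴ *ᵥ (R *ᵥ v)) := by
    intro v
    rw [star_mulVec_dot, hH, Matrix.mulVec_mulVec, hQB, ← Matrix.mulVec_mulVec]
  have hE1 : Q * (1 - R) = 0 := by
    apply eq_zero_of_mulVec
    intro w
    obtain ⟨v, hv⟩ : ∃ v : ι → ℂ, v = (Q * (1 - R)) *ᵥ w := ⟨_, rfl⟩
    rw [← hv]
    have hQv : Q *ᵥ v = v := by
      rw [hv, Matrix.mulVec_mulVec, ← Matrix.mul_assoc, hI]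
    have hRv : R *ᵥ v = 0 := by
      rw [hv, Matrix.mulVec_mulVec]
      have : R * (Q * (1 - R)) = 0 := by
        rw [← Matrix.mul_assoc, ← hc, Matrix.mul_assoc, Matrix.mul_sub, Matrix.mul_one, hRI,
          sub_self, Matrix.mul_zero]
      rw [this, Matrix.zero_mulVec]
    apply key
    have h1 := hform v
    rw [hQv, hRv, Matrix.mulVec_zero, dotProduct_zero] at h1
    exact h1
  have hE2 : (1 - Q) * R = 0 := by
    apply eq_zero_of_mulVec
    intro w
    obtain ⟨v, hv⟩ : ∃ v : ι → ℂ, v = ((1 - Q) * R) *ᵥ w := ⟨_, rfl⟩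
    rw [← hv]
    have hQv : Q *ᵥ v = 0 := by
      rw [hv, Matrix.mulVec_mulVec, ← Matrix.mul_assoc, Matrix.mul_sub, Matrix.mul_one, hI,
        sub_self, Matrix.zero_mul, Matrix.zero_mulVec]
    have hRv : R *ᵥ v = v := by
      rw [hv, Matrix.mulVec_mulVec]
      have : R * ((1 - Q) * R) = (1 - Q) * R := by
        rw [Matrix.sub_mul, Matrix.one_mul, Matrix.mul_sub, hRI, ← Matrix.mul_assoc, ← hc,
          Matrix.mul_assoc, hRI]
      rw [this]
    apply key
    have h1 := hform v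
    rw [hQv, hRv, star_zero, zero_dotProduct] at h1
    exact h1.symm
  have h1 : Q = Q * R := by
    have := hE1
    rw [Matrix.mul_sub, Matrix.mul_one, sub_eq_zero] at this
    exact this
  have h2 : R = Q * R := by
    have := hE2
    rw [Matrix.sub_mul, Matrix.one_mul, sub_eq_zero] at this
    exact this
  have h3 : Q = R := h1.trans h2.symm
  calc B * Q = B * Q * (Bᴴ * B) := by rw [hB, Matrix.mul_one]
    _ = R * B := by rw [hR]; simp only [Matrix.mul_assoc]
    _ = Q * B := by rw [← h3]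

end Cfsg.Agent.Lib.Helper9.Lg
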