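import Mathlib
import Cfsg.Agent.Lib.Helper9.LgA

set_option autoImplicit false
set_option linter.unusedSectionVars false
set_option linter.unusedVariables false
set_option linter.style.longLine false
set_option linter.unusedSimpArgs false

set_option maxHeartbeats 1600000
namespace Cfsg.Agent.Lib.Helper9.Lg
open Matrix

variable {ι : Type*} [Fintype ι] [DecidableEq ι]

/-! ### trace and rank of idempotent matrices -/

theorem trace_eq_rank {E : Matrix ι ι ℂ} (hE : E * E = E) : E.trace = (E.rank : ℂ) := by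
  have h1 : IsIdempotentElem (Matrix.toLin' E) := by
    unfold IsIdempotentElem
    rw [Module.End.mul_eq_comp, ← Matrix.toLin'_mul, hE]
  have h2 := (LinearMap.IsIdempotentElem.isProj_range _ h1).trace
  rw [Matrix.rank, ← Matrix.toLin'_apply']
  rw [← h2, ← LinearMap.toMatrix'_toLin' E] 
  conv_lhs => rw [← LinearMap.toMatrix_eq_toMatrix', ← LinearMap.trace_eq_matrix_trace]
  rw [LinearMap.toMatrix'_toLin']

theorem rank_eq_zero_of_idem {E : Matrix ι ι ℂ} (hE : E * E = E) (h : E.rank = 0) : E = 0 := by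
  have h1 : IsIdempotentElem (Matrix.toLin' E) := by
    unfold IsIdempotentElem
    rw [Module.End.mul_eq_comp, ← Matrix.toLin'_mul, hE]
  have h2 : LinearMap.trace ℂ (ι → ℂ) (Matrix.toLin' E) = 0 := by
    rw [(LinearMap.IsIdempotentElem.isProj_range _ h1).trace]
    have : Module.finrank ℂ (LinearMap.range (Matrix.toLin' E)) = E.rank := by
      rw [Matrix.rank, ← Matrix.toLin'_apply']
    rw [this, h]
    simp
  have h3 := (LinearMap.IsIdempotentElem.trace_eq_zero_iff h1).mp h2
  have := congrArg LinearMap.toMatrix' h3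
  simpa using this

/-! ### eigenprojections of a matrix of finite order -/

theorem sum_pow_mul_eq {p : ℕ} {B : Matrix ι ι ℂ} (hB : B ^ p = 1) :
    B * ∑ i ∈ Finset.range p, B ^ i = ∑ i ∈ Finset.range p, B ^ i := by
  rw [Finset.mul_sum]
  have h1 : ∑ i ∈ Finset.range p, B * B ^ i = ∑ i ∈ Finset.range p, B ^ (i + 1) := by
    refine Finset.sum_congr rfl fun i _ => ?_
    rw [pow_succ']
  rw [h1]
  have h2 := Finset.sum_range_succ (fun i => B ^ i) p
  have h3 := Finset.sum_range_succ' (fun i => B ^ i) p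
  rw [h2] at h3
  simp only [pow_zero, hB] at h3
  exact (add_right_cancel h3).symm

/-- the eigenprojection of `A` (with `A ^ p = 1`) for the eigenvalue `ε ^ j` -/
noncomputable def eproj (p : ℕ) (ε : ℂ) (A : Matrix ι ι ℂ) (j : ℕ) : Matrix ι ι ℂ :=
  ((p : ℂ)⁻¹) • ∑ i ∈ Finset.range p, (((ε ^ j)⁻¹) • A) ^ i

section proj

variable {p : ℕ} (hp : 0 < p) {ε : ℂ} (hε : IsPrimitiveRoot ε p) {A : Matrix ι ι ℂ}
  (hA : A ^ p = 1)

include hε hA in
theorem smul_pow_eq_one (j : ℕ) : (((ε ^ j)⁻¹) • A) ^ p = 1 := by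
  rw [smul_pow, hA, inv_pow, ← pow_mul, mul_comm, pow_mul, hε.pow_eq_one, one_pow, inv_one,
    one_smul]

include hp hε in
theorem eps_pow_ne_zero (j : ℕ) : ε ^ j ≠ 0 := pow_ne_zero _ (hε.ne_zero hp.ne')

include hp hε hA in
theorem mul_eproj (j : ℕ) : A * eproj p ε A j = (ε ^ j) • eproj p ε A j := by
  have h1 := sum_pow_mul_eq (smul_pow_eq_one hε hA j)
  have h0 := eps_pow_ne_zero hp hε j
  unfold eproj
  rw [Matrix.mul_smul, smul_comm]
  congr 1
  rw [Matrix.smul_mul] at h1
  have h2 := congrArg (fun X => (ε ^ j) • X) h1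
  simp only [smul_smul] at h2
  rw [mul_inv_cancel₀ h0, one_smul] at h2
  exact h2

theorem commute_eproj {T : Matrix ι ι ℂ} (hT : Commute T A) (j : ℕ) :
    Commute T (eproj p ε A j) := by
  unfold eproj
  apply Commute.smul_right
  apply Commute.sum_right
  intro i _
  apply Commute.pow_right
  exact Commute.smul_right hT _

include hp hε hA in
theorem eproj_idem (j : ℕ) : eproj p ε A j * eproj p ε A j = eproj p ε A j := by
  obtain ⟨B, hB⟩ : ∃ B : Matrix ι ι ℂ, B = ((ε ^ j)⁻¹) • A := ⟨_, rfl⟩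
  have hBp : B ^ p = 1 := by rw [hB]; exact smul_pow_eq_one hε hA j
  have h1 : B * eproj p ε A j = eproj p ε A j := by
    unfold eproj
    rw [← hB, Matrix.mul_smul, sum_pow_mul_eq hBp]
  have h2 : ∀ i : ℕ, B ^ i * eproj p ε A j = eproj p ε A j := by
    intro i
    induction i with
    | zero => simp
    | succ i ih => rw [pow_succ, Matrix.mul_assoc, h1, ih]
  have h3 : eproj p ε A j = ((p : ℂ)⁻¹) • ∑ i ∈ Finset.range p, B ^ i := by
    unfold eproj; rw [hB]
  have h4 : (∑ i ∈ Finset.range p, B ^ i) * eproj p ε A j = (p : ℂ) • eproj p ε A j := by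
    rw [Finset.sum_mul]
    simp only [h2, Finset.sum_const, Finset.card_range]
    rw [Nat.cast_smul_eq_nsmul ℂ]
  have h5 : eproj p ε A j * eproj p ε A j =
      (((p : ℂ)⁻¹) • ∑ i ∈ Finset.range p, B ^ i) * eproj p ε A j := by
    rw [← h3]
  rw [h5, Matrix.smul_mul, h4, smul_smul, inv_mul_cancel₀, one_smul]
  exact_mod_cast hp.ne'

include hp hε hA in
theorem eproj_mul_eq_zero {j k : ℕ} (hj : j < p) (hk : k < p) (hjk : j ≠ k) :
    eproj p ε A j * eproj p ε A k = 0 := by
  have h1 : A * (eproj p ε A j * eproj p ε A k) = (ε ^ j) • (eproj p ε A j * eproj p ε A k) := by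
    rw [← Matrix.mul_assoc, mul_eproj hp hε hA, Matrix.smul_mul]
  have h2 : A * (eproj p ε A j * eproj p ε A k) = (ε ^ k) • (eproj p ε A j * eproj p ε A k) := by
    have hc : Commute A (eproj p ε A j) := commute_eproj (Commute.refl A) j
    rw [← Matrix.mul_assoc, hc.eq, Matrix.mul_assoc, mul_eproj hp hε hA, Matrix.mul_smul]
  rw [h1] at h2
  have h3 : (ε ^ j - ε ^ k) • (eproj p ε A j * eproj p ε A k) = 0 := by
    rw [sub_smul, h2, sub_self]
  rcases smul_eq_zero.mp h3 with h | h
  · exfalso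
    exact hjk (hε.pow_inj hj hk (sub_eq_zero.mp h))
  · exact h

include hp hε in
theorem sum_eproj : ∑ j ∈ Finset.range p, eproj p ε A j = 1 := by
  unfold eproj
  rw [← Finset.smul_sum, Finset.sum_comm]
  have h1 : ∀ i ∈ Finset.range p, ∑ j ∈ Finset.range p, (((ε ^ j)⁻¹) • A) ^ i =
      (if i = 0 then (p : ℂ) else 0) • A ^ i := by
    intro i hi
    have hi' : i < p := Finset.mem_range.mp hi
    have h2 : ∀ j ∈ Finset.range p, (((ε ^ j)⁻¹) • A) ^ i = (((ε ^ i)⁻¹) ^ j) • A ^ i := by
      intro j _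
      rw [smul_pow, inv_pow, inv_pow, ← pow_mul, ← pow_mul, mul_comm]
    rw [Finset.sum_congr rfl h2, ← Finset.sum_smul]
    congr 1
    by_cases hi0 : i = 0
    · rw [if_pos hi0, hi0]
      simp
    · rw [if_neg hi0]
      obtain ⟨x, hx⟩ : ∃ x : ℂ, x = (ε ^ i)⁻¹ := ⟨_, rfl⟩
      rw [← hx]
      have hx1 : x ≠ 1 := by
        rw [hx]
        intro h
        have h' : ε ^ i = 1 := by
          have := inv_eq_one.mp h
          exact this
        have := hε.pow_inj hi' hp (by rw [h', pow_zero])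
        exact hi0 this
      have hxp : x ^ p = 1 := by
        rw [hx, inv_pow, ← pow_mul, mul_comm, pow_mul, hε.pow_eq_one, one_pow, inv_one]
      have h3 := geom_sum_mul x p
      rw [hxp, sub_self] at h3
      rcases mul_eq_zero.mp h3 with h | h
      · exact h
      · exact absurd (sub_eq_zero.mp h) hx1
  rw [Finset.sum_congr rfl h1]
  rw [Finset.sum_eq_single 0]
  · simp only [if_true, pow_zero, smul_smul]
    rw [inv_mul_cancel₀, one_smul]
    exact_mod_cast hp.ne'
  · intro i _ hi0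
    rw [if_neg hi0, zero_smul]
  · intro h0
    exact absurd (Finset.mem_range.mpr hp) h0

end proj

/-! ### the determinant trick -/

/-- A group `P` acting through `U`, an idempotent `E` commuting with `U`, an element `z` of the
commutator subgroup acting on the range of `E` as the scalar `c`: then `c ^ rank E = 1`. -/
theorem pow_rank_eq_one {P : Type*} [Group P] (U : P →* Matrix ι ι ℂ) {E : Matrix ι ι ℂ}
    (hE : E * E = E) (hc : ∀ g, U g * E = E * U g) {z : P} (hz : z ∈ commutator P) {c : ℂ}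
    (hzc : U z * E = c • E) : c ^ E.rank = 1 := by
  obtain ⟨W, hW⟩ : ∃ W : Submodule ℂ (ι → ℂ), W = LinearMap.range (Matrix.mulVecLin E) :=
    ⟨_, rfl⟩
  have hinv : ∀ g : P, ∀ w ∈ W, (Matrix.mulVecLin (U g)) w ∈ W := by
    intro g w hw
    rw [hW] at hw ⊢
    obtain ⟨v, rfl⟩ := hw
    refine ⟨(U g) *ᵥ v, ?_⟩
    simp only [Matrix.mulVecLin_apply, Matrix.mulVec_mulVec, hc g]
  let ψ : P →* Module.End ℂ W :=
    { toFun := fun g => (Matrix.mulVecLin (U g)).restrict (hinv g)
      map_one' := by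
        ext w
        simp
      map_mul' := by
        intro g h
        ext w
        simp [Matrix.mulVec_mulVec] }
  let φ : P →* ℂ := (LinearMap.det : Module.End ℂ W →* ℂ).comp ψ
  have h1 : φ z = 1 := by
    have h2 := Abelianization.commutator_subset_ker φ.toHomUnits hz
    rw [MonoidHom.mem_ker] at h2
    have h3 := congrArg Units.val h2
    rw [MonoidHom.coe_toHomUnits] at h3
    exact h3
  have h4 : ψ z = c • (1 : Module.End ℂ W) := by
    apply LinearMap.ext
    intro w
    apply Subtype.ext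
    obtain ⟨w, hw⟩ := w
    have hw' := hw
    rw [hW] at hw'
    obtain ⟨v, rfl⟩ := hw'
    show ((Matrix.mulVecLin (U z)).restrict (hinv z) ⟨_, hw⟩ : ι → ℂ) = _
    simp only [LinearMap.restrict_coe_apply, Matrix.mulVecLin_apply, Matrix.mulVec_mulVec, hzc,
      Matrix.smul_mulVec]
    rfl
  have h5 : φ z = c ^ Module.finrank ℂ W := by
    show LinearMap.det (ψ z) = _
    rw [h4, LinearMap.det_smul]
    simp
  have h6 : Module.finrank ℂ W = E.rank := by rw [hW, Matrix.rank]
  rw [← h6, ← h5, h1]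

end Cfsg.Agent.Lib.Helper9.Lg
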