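import Mathlib
import Cfsg.Agent.Lib.Helper9.LgD

set_option autoImplicit false
set_option linter.unusedSectionVars false
set_option linter.unusedVariables false
set_option linter.style.longLine false
set_option linter.unusedSimpArgs false

set_option maxHeartbeats 1600000
namespace Cfsg.Agent.Lib.Helper9.Lg
open Matrix

variable {ι : Type*} [Fintype ι] [DecidableEq ι]

theorem one_add_smul_pow {E : Matrix ι ι ℂ} (hE : E * E = E) (c : ℂ) (k : ℕ) :
    (1 + (c - 1) • E) ^ k = 1 + (c ^ k - 1) • E := by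
  induction k with
  | zero => simp
  | succ k ih =>
    rw [pow_succ, ih]
    simp only [Matrix.add_mul, Matrix.mul_add, Matrix.one_mul, Matrix.mul_one, Matrix.smul_mul,
      Matrix.mul_smul, hE, pow_succ]
    module

/-- the primitive `p`-th root of unity of smallest argument -/
noncomputable def eps (p : ℕ) : ℂ := Complex.exp (2 * Real.pi * Complex.I / p)

theorem eps_isPrimitiveRoot {p : ℕ} (hp : p ≠ 0) : IsPrimitiveRoot (eps p) p :=
  Complex.isPrimitiveRoot_exp p hp

/-- **Structure of a central commutator of order `p`** in a `p`-subgroup of a linear group of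
degree `< 2p`. -/
theorem exists_two_eig {G : Type*} [Group G] (U : G →* Matrix ι ι ℂ)
    (hinj : Function.Injective U) {p : ℕ} (hp : p.Prime) (hn2 : Fintype.card ι < 2 * p)
    (hnp : Fintype.card ι ≠ p)
    (P : Subgroup G) (z : P) (hz1 : z ≠ 1) (hzp : z ^ p = 1) (hzc : ∀ g : P, g * z = z * g)
    (hzP : z ∈ commutator P) :
    p < Fintype.card ι ∧ ∃ (k : ℕ) (E : Matrix ι ι ℂ), E * E = E ∧ E.trace = p ∧
      U ((z : G) ^ k) = 1 + (eps p - 1) • E := by
  have hp0 : 0 < p := hp.pos
  have hε := eps_isPrimitiveRoot hp.ne_zero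
  obtain ⟨ε, hεdef⟩ : ∃ ε : ℂ, ε = eps p := ⟨_, rfl⟩
  rw [← hεdef] at hε ⊢
  obtain ⟨A, hAdef⟩ : ∃ A : Matrix ι ι ℂ, A = U (z : G) := ⟨_, rfl⟩
  have hA : A ^ p = 1 := by
    rw [hAdef, ← map_pow]
    have : ((z : G)) ^ p = 1 := by
      have := congrArg Subtype.val hzp
      simpa using this
    rw [this, map_one]
  have hAne : A ≠ 1 := by
    intro h
    apply hz1
    have : U (z : G) = U 1 := by rw [← hAdef, h, map_one]
    have := hinj this
    exact Subtype.ext this
  -- the hom on P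
  let UP : P →* Matrix ι ι ℂ := U.comp P.subtype
  have hUPz : UP z = A := by rw [hAdef]; rfl
  have hcomm : ∀ g : P, Commute (UP g) A := by
    intro g
    rw [← hUPz]
    show UP g * UP z = UP z * UP g
    rw [← map_mul, ← map_mul, hzc g]
  -- ranks
  obtain ⟨r, hr⟩ : ∃ r : ℕ → ℕ, r = fun j => (eproj p ε A j).rank := ⟨_, rfl⟩
  have hrj : ∀ j, r j = (eproj p ε A j).rank := fun j => by rw [hr]
  have htr : ∀ j, (eproj p ε A j).trace = (r j : ℂ) := by
    intro j
    rw [hrj]
    exact trace_eq_rank (eproj_idem hp0 hε hA j)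
  have hsum : ∑ j ∈ Finset.range p, r j = Fintype.card ι := by
    have h1 := congrArg Matrix.trace (sum_eproj hp0 hε (A := A))
    rw [Matrix.trace_sum, Matrix.trace_one] at h1
    simp only [htr] at h1
    exact_mod_cast h1
  have hdvd : ∀ j, 0 < j → j < p → p ∣ r j := by
    intro j hj0 hjp
    have h1 := pow_rank_eq_one UP (eproj_idem hp0 hε hA j)
      (fun g => (commute_eproj (hcomm g) j).eq) hzP
      (by rw [hUPz]; exact mul_eproj hp0 hε hA j)
    rw [← hrj, ← pow_mul] at h1
    have h2 := (hε.pow_eq_one_iff_dvd _).mp h1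
    rcases (Nat.Prime.dvd_mul hp).mp h2 with h | h
    · exact absurd (Nat.le_of_dvd hj0 h) (not_le.mpr hjp)
    · exact h
  -- A = ∑ ε^j E_j
  have hAsum : A = ∑ j ∈ Finset.range p, (ε ^ j) • eproj p ε A j := by
    calc A = A * ∑ j ∈ Finset.range p, eproj p ε A j := by
          rw [sum_eproj hp0 hε, Matrix.mul_one]
      _ = ∑ j ∈ Finset.range p, A * eproj p ε A j := by rw [Finset.mul_sum]
      _ = ∑ j ∈ Finset.range p, (ε ^ j) • eproj p ε A j :=
          Finset.sum_congr rfl fun j _ => mul_eproj hp0 hε hA j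
  -- some nonzero E_j with j ≠ 0
  have hex : ∃ j₀, 0 < j₀ ∧ j₀ < p ∧ r j₀ ≠ 0 := by
    by_contra hcon
    push Not at hcon
    have hz : ∀ j ∈ Finset.range p, j ≠ 0 → eproj p ε A j = 0 := by
      intro j hj hj0
      have := hcon j (Nat.pos_of_ne_zero hj0) (Finset.mem_range.mp hj)
      rw [hrj] at this
      exact rank_eq_zero_of_idem (eproj_idem hp0 hε hA j) this
    have h1 : ∑ j ∈ Finset.range p, eproj p ε A j = eproj p ε A 0 := by
      apply Finset.sum_eq_single 0
      · intro j hj hj0; exact hz j hj hj0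
      · intro h0; exact absurd (Finset.mem_range.mpr hp0) h0
    have h2 : ∑ j ∈ Finset.range p, (ε ^ j) • eproj p ε A j = eproj p ε A 0 := by
      rw [Finset.sum_eq_single 0]
      · simp
      · intro j hj hj0; rw [hz j hj hj0, smul_zero]
      · intro h0; exact absurd (Finset.mem_range.mpr hp0) h0
    rw [sum_eproj hp0 hε] at h1
    apply hAne
    rw [hAsum, h2, ← h1]
  obtain ⟨j₀, hj0, hjp, hrne⟩ := hex
  have hj₀mem : j₀ ∈ Finset.range p := Finset.mem_range.mpr hjp
  have hrj₀ : r j₀ = p := by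
    have h1 : r j₀ ≤ ∑ j ∈ Finset.range p, r j :=
      Finset.single_le_sum (f := r) (fun _ _ => Nat.zero_le _) hj₀mem
    obtain ⟨m, hm⟩ := hdvd j₀ hj0 hjp
    rw [hsum] at h1
    have hm0 : m ≠ 0 := by
      intro h; apply hrne; rw [hm, h, mul_zero]
    have hm2 : m < 2 := by
      by_contra hge
      push Not at hge
      have : p * 2 ≤ p * m := Nat.mul_le_mul_left p hge
      omega
    have : m = 1 := by omega
    rw [hm, this, mul_one]
  have hother : ∀ j ∈ Finset.range p, j ≠ 0 → j ≠ j₀ → eproj p ε A j = 0 := by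
    intro j hj hj0' hjj
    have hjp' := Finset.mem_range.mp hj
    have h1 : r j₀ + r j ≤ ∑ j ∈ Finset.range p, r j := by
      have hsub : ({j₀, j} : Finset ℕ) ⊆ Finset.range p := by
        intro x hx
        rcases Finset.mem_insert.mp hx with h | h
        · rw [h]; exact hj₀mem
        · rw [Finset.mem_singleton.mp h]; exact hj
      have := Finset.sum_le_sum_of_subset (f := r) hsub
      rw [Finset.sum_pair (Ne.symm hjj)] at this
      exact this
    rw [hsum, hrj₀] at h1
    obtain ⟨m, hm⟩ := hdvd j (Nat.pos_of_ne_zero hj0') hjp'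
    have hm0 : m = 0 := by
      by_contra hne
      have : p * 1 ≤ p * m := Nat.mul_le_mul_left p (Nat.one_le_iff_ne_zero.mpr hne)
      omega
    have hr0 : r j = 0 := by rw [hm, hm0, mul_zero]
    rw [hrj] at hr0
    exact rank_eq_zero_of_idem (eproj_idem hp0 hε hA j) hr0
  have h0ne : (0 : ℕ) ≠ j₀ := by omega
  have hone : eproj p ε A 0 + eproj p ε A j₀ = 1 := by
    rw [← sum_eproj hp0 hε (A := A)]
    symm
    apply Finset.sum_eq_add 0 j₀ h0ne
    · intro j hj ⟨h1, h2⟩; exact hother j hj h1 h2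
    · intro h; exact absurd (Finset.mem_range.mpr hp0) h
    · intro h; exact absurd hj₀mem h
  have hAeq : A = 1 + (ε ^ j₀ - 1) • eproj p ε A j₀ := by
    have h1 : A = (ε ^ 0) • eproj p ε A 0 + (ε ^ j₀) • eproj p ε A j₀ := by
      conv_lhs => rw [hAsum]
      apply Finset.sum_eq_add 0 j₀ h0ne
      · intro j hj ⟨h1, h2⟩; rw [hother j hj h1 h2, smul_zero]
      · intro h; exact absurd (Finset.mem_range.mpr hp0) h
      · intro h; exact absurd hj₀mem h
    have h2 : eproj p ε A 0 = 1 - eproj p ε A j₀ := by rw [← hone]; abel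
    rw [pow_zero, one_smul, h2] at h1
    calc A = 1 - eproj p ε A j₀ + ε ^ j₀ • eproj p ε A j₀ := h1
      _ = 1 + (ε ^ j₀ - 1) • eproj p ε A j₀ := by module
  -- n > p
  have hnp' : p < Fintype.card ι := by
    have h1 : r j₀ ≤ ∑ j ∈ Finset.range p, r j :=
      Finset.single_le_sum (f := r) (fun _ _ => Nat.zero_le _) hj₀mem
    rw [hsum, hrj₀] at h1
    omega
  refine ⟨hnp', ?_⟩
  -- the power
  have hcop : Nat.Coprime j₀ p := by
    rw [Nat.coprime_comm]
    exact (Nat.Prime.coprime_iff_not_dvd hp).mpr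
      (fun h => absurd (Nat.le_of_dvd hj0 h) (not_le.mpr hjp))
  obtain ⟨k, -, hk⟩ := Nat.exists_mul_mod_eq_one_of_coprime hcop hp.one_lt
  refine ⟨k, eproj p ε A j₀, eproj_idem hp0 hε hA j₀, ?_, ?_⟩
  · rw [htr, hrj₀]
  · rw [map_pow, ← hAdef, hAeq, one_add_smul_pow (eproj_idem hp0 hε hA j₀)]
    congr 3
    rw [← pow_mul]
    have h1 : j₀ * k = j₀ * k % p + p * (j₀ * k / p) := (Nat.mod_add_div _ _).symm
    rw [h1, hk, pow_add, pow_mul, hε.pow_eq_one, one_pow, mul_one, pow_one]

end Cfsg.Agent.Lib.Helper9.Lg
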