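import Mathlib
import Cfsg.Agent.Lib.Helper9.LgA

set_option autoImplicit false
set_option linter.unusedSectionVars false
set_option linter.unusedVariables false
set_option linter.style.longLine false
set_option linter.unusedSimpArgs false

set_option maxHeartbeats 1600000
namespace Cfsg.Agent.Lib.Helper9.Lg
open Matrix

variable {ι : Type*} [Fintype ι] [DecidableEq ι]

/-- conjugate of a Hermitian idempotent by a unitary matrix -/
theorem conj_herm {Q B : Matrix ι ι ℂ} (hH : Qᴴ = Q) : (B * Q * Bᴴ)ᴴ = B * Q * Bᴴ := by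
  rw [Matrix.conjTranspose_mul, Matrix.conjTranspose_mul, Matrix.conjTranspose_conjTranspose, hH,
    Matrix.mul_assoc]

theorem conj_idem {Q B : Matrix ι ι ℂ} (hI : Q * Q = Q) (hB : Bᴴ * B = 1) :
    (B * Q * Bᴴ) * (B * Q * Bᴴ) = B * Q * Bᴴ := by
  have : B * Q * Bᴴ * (B * Q * Bᴴ) = B * (Q * (Bᴴ * B) * Q) * Bᴴ := by
    simp only [Matrix.mul_assoc]
  rw [this, hB, Matrix.mul_one, hI]

section eps

variable {ε : ℂ} (hε : Complex.normSq ε = 1) (hε1 : Complex.normSq (ε - 1) < 1)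
include hε hε1

theorem re_gt : 1 / 2 < ε.re := by
  rw [Complex.normSq_sub, Complex.normSq_one, hε] at hε1
  simp at hε1
  linarith

theorem re_le : ε.re ≤ 1 := by
  have h := Complex.normSq_apply ε
  rw [hε] at h
  nlinarith [mul_self_nonneg ε.im, mul_self_nonneg (ε.re - 1)]

theorem add_conj_eq : (ε - 1) + (starRingEnd ℂ) (ε - 1) = ((2 * ε.re - 2 : ℝ) : ℂ) := by
  rw [Complex.add_conj]
  push_cast
  simp
  ring

theorem mul_conj_eq : (ε - 1) * (starRingEnd ℂ) (ε - 1) = ((2 - 2 * ε.re : ℝ) : ℂ) := by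
  rw [Complex.mul_conj, Complex.normSq_sub, Complex.normSq_one, hε]
  push_cast
  simp
  ring

/-- `1 + (ε - 1) Q` has positive real part -/
theorem pos_one {Q : Matrix ι ι ℂ} (hH : Qᴴ = Q) (hI : Q * Q = Q) :
    Pos (1 + (ε - 1) • Q) := by
  have hr0 : 0 < ε.re := by have := re_gt hε hε1; linarith
  refine pos_of_sq (K := 1 - Q) hr0 (re_le hε hε1) ?_
  have hK : (1 - Q)ᴴ * (1 - Q) = 1 - Q := by
    rw [Matrix.conjTranspose_sub, Matrix.conjTranspose_one, hH, Matrix.sub_mul, Matrix.mul_sub,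
      Matrix.mul_sub, hI]
    simp
  rw [hK, Matrix.conjTranspose_add, Matrix.conjTranspose_one, Matrix.conjTranspose_smul, hH]
  have h1 : (1 + (ε - 1) • Q) + (1 + star (ε - 1) • Q) =
      (2 : ℂ) • (1 : Matrix ι ι ℂ) + ((ε - 1) + (starRingEnd ℂ) (ε - 1)) • Q := by
    rw [add_smul]
    have : star (ε - 1) = (starRingEnd ℂ) (ε - 1) := rfl
    rw [this]
    module
  rw [h1, add_conj_eq hε hε1]
  push_cast
  module

/-- `(1 + (ε - 1) Q₁)(1 + conj (ε - 1) Q₂)` has positive real part -/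
theorem pos_two {Q₁ Q₂ : Matrix ι ι ℂ} (hH₁ : Q₁ᴴ = Q₁) (hI₁ : Q₁ * Q₁ = Q₁)
    (hH₂ : Q₂ᴴ = Q₂) (hI₂ : Q₂ * Q₂ = Q₂) :
    Pos ((1 + (ε - 1) • Q₁) * (1 + (starRingEnd ℂ) (ε - 1) • Q₂)) := by
  have hr0 : 0 < ε.re := by have := re_gt hε hε1; linarith
  refine pos_of_sq (K := Q₁ + Q₂ - 1) hr0 (re_le hε hε1) ?_
  have hK : (Q₁ + Q₂ - 1)ᴴ * (Q₁ + Q₂ - 1) = Q₁ * Q₂ + Q₂ * Q₁ - Q₁ - Q₂ + 1 := by
    rw [Matrix.conjTranspose_sub, Matrix.conjTranspose_add, Matrix.conjTranspose_one, hH₁, hH₂]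
    simp only [Matrix.sub_mul, Matrix.mul_sub, Matrix.add_mul, Matrix.mul_add, hI₁, hI₂,
      Matrix.one_mul, Matrix.mul_one]
    abel
  rw [hK, Matrix.conjTranspose_mul, Matrix.conjTranspose_add, Matrix.conjTranspose_add,
    Matrix.conjTranspose_one, Matrix.conjTranspose_smul, Matrix.conjTranspose_smul, hH₁, hH₂]
  have hs1 : star ((starRingEnd ℂ) (ε - 1)) = ε - 1 := by simp
  have hs2 : star (ε - 1) = (starRingEnd ℂ) (ε - 1) := rfl
  rw [hs1, hs2]
  obtain ⟨a, ha⟩ : ∃ a : ℂ, a = ε - 1 := ⟨_, rfl⟩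
  obtain ⟨b, hb⟩ : ∃ b : ℂ, b = (starRingEnd ℂ) (ε - 1) := ⟨_, rfl⟩
  have hab : a + b = ((2 * ε.re - 2 : ℝ) : ℂ) := by rw [ha, hb]; exact add_conj_eq hε hε1
  have hab' : a * b = ((2 - 2 * ε.re : ℝ) : ℂ) := by rw [ha, hb]; exact mul_conj_eq hε hε1
  rw [← hb, ← ha]
  have h1 : (1 + a • Q₁) * (1 + b • Q₂) + (1 + a • Q₂) * (1 + b • Q₁) =
      (2 : ℂ) • (1 : Matrix ι ι ℂ) + (a + b) • (Q₁ + Q₂) + (a * b) • (Q₁ * Q₂ + Q₂ * Q₁) := by
    simp only [Matrix.add_mul, Matrix.mul_add, Matrix.one_mul, Matrix.mul_one, Matrix.smul_mul,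
      Matrix.mul_smul]
    module
  rw [h1, hab, hab']
  push_cast
  module

end eps

theorem one_add_smul_mul (a b : ℂ) (Q R : Matrix ι ι ℂ) :
    (1 + a • Q) * (1 + b • R) = 1 + a • Q + b • R + (a * b) • (Q * R) := by
  simp only [Matrix.add_mul, Matrix.mul_add, Matrix.one_mul, Matrix.mul_one,
    Matrix.smul_mul, Matrix.mul_smul]
  module

section descent

variable {G : Type*} [Group G]
  (U : G →* Matrix ι ι ℂ) (hU : ∀ g, (U g)ᴴ * U g = 1)
include hU

theorem map_inv_eq (g : G) : U g⁻¹ = (U g)ᴴ := by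
  have h2 : U g * U g⁻¹ = 1 := by rw [← map_mul, mul_inv_cancel, map_one]
  calc U g⁻¹ = ((U g)ᴴ * U g) * U g⁻¹ := by rw [hU, Matrix.one_mul]
    _ = (U g)ᴴ * (U g * U g⁻¹) := by rw [Matrix.mul_assoc]
    _ = (U g)ᴴ := by rw [h2, Matrix.mul_one]

theorem unitary' (g : G) : U g * (U g)ᴴ = 1 := mul_eq_one_comm.mp (hU g)

variable {ε : ℂ} {z : G} {Q : Matrix ι ι ℂ} (hz : U z = 1 + (ε - 1) • Q)
include hz

theorem map_conj_eq (x : G) : U (x * z * x⁻¹) = 1 + (ε - 1) • (U x * Q * (U x)ᴴ) := by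
  rw [map_mul, map_mul, map_inv_eq U hU, hz, Matrix.mul_add, Matrix.add_mul, Matrix.mul_one,
    unitary' U hU, Matrix.mul_smul, Matrix.smul_mul]

variable (hH : Qᴴ = Q) (hI : Q * Q = Q)
include hH hI

theorem map_inv_z : U z⁻¹ = 1 + (starRingEnd ℂ) (ε - 1) • Q := by
  rw [map_inv_eq U hU, hz, Matrix.conjTranspose_add, Matrix.conjTranspose_one,
    Matrix.conjTranspose_smul, hH]
  rfl

theorem map_conj_inv_eq (x : G) :
    U (x * z⁻¹ * x⁻¹) = 1 + (starRingEnd ℂ) (ε - 1) • (U x * Q * (U x)ᴴ) := by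
  rw [map_mul, map_mul, map_inv_eq U hU x, map_inv_z U hU hz hH hI, Matrix.mul_add,
    Matrix.add_mul, Matrix.mul_one, unitary' U hU, Matrix.mul_smul, Matrix.smul_mul]

/-- the norm decrease -/
theorem hs_comm_sub_one_le (h : G) :
    hs (U (z * h * z⁻¹ * h⁻¹) - 1) ≤ Complex.normSq (ε - 1) * hs (U h - 1) := by
  have h1 : U (z * h * z⁻¹ * h⁻¹) - 1 = (U z * U h - U h * U z) * U (z⁻¹ * h⁻¹) := by
    rw [Matrix.sub_mul, ← map_mul, ← map_mul, ← map_mul, ← map_mul]
    have e1 : z * h * (z⁻¹ * h⁻¹) = z * h * z⁻¹ * h⁻¹ := by group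
    have e2 : h * z * (z⁻¹ * h⁻¹) = 1 := by group
    rw [e1, e2, map_one]
  have h2 : U z * U h - U h * U z = (ε - 1) • (Q * (U h - 1) - (U h - 1) * Q) := by
    rw [hz]
    simp only [Matrix.add_mul, Matrix.mul_add, Matrix.one_mul, Matrix.mul_one, Matrix.smul_mul,
      Matrix.mul_smul, Matrix.mul_sub, Matrix.sub_mul]
    module
  rw [h1, hs_mul_right (unitary' U hU _), h2, hs_smul]
  exact mul_le_mul_of_nonneg_left (hs_comm_le hH hI _) (Complex.normSq_nonneg _)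

end descent

/-- **Blichfeldt's lemma for two eigenvalues.**  In a finite unitary matrix group, an element
`z` acting as `1 + (ε - 1) Q` (`Q` a Hermitian idempotent, `|ε| = 1`, `|ε - 1| < 1`) commutes with
all its conjugates. -/
theorem commute_conj_of_two_eig {G : Type*} [Group G] [Finite G]
    (U : G →* Matrix ι ι ℂ) (hU : ∀ g, (U g)ᴴ * U g = 1) (hinj : Function.Injective U)
    {ε : ℂ} (hε : Complex.normSq ε = 1) (hε1 : Complex.normSq (ε - 1) < 1)
    {z : G} {Q : Matrix ι ι ℂ} (hz : U z = 1 + (ε - 1) • Q) (hH : Qᴴ = Q) (hI : Q * Q = Q)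
    (g : G) : z * (g * z * g⁻¹) = (g * z * g⁻¹) * z := by
  classical
  haveI : Fintype G := Fintype.ofFinite G
  by_cases hε0 : ε = 1
  · have : U z = U 1 := by rw [hz, hε0, map_one]; simp
    have hz1 : z = 1 := hinj this
    rw [hz1]; group
  have ha : ε - 1 ≠ 0 := sub_ne_zero.mpr hε0
  -- the main claim
  have claim : ∀ h : G, Pos (U h) → z * h = h * z := by
    by_contra hcon
    push Not at hcon
    obtain ⟨h0, hh0, hne0⟩ := hcon
    let T : Finset G := Finset.univ.filter fun h => Pos (U h) ∧ z * h ≠ h * z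
    have hT : T.Nonempty := ⟨h0, by simp [T, hh0, hne0]⟩
    obtain ⟨h, hhT, hmin⟩ := Finset.exists_min_image T (fun h => hs (U h - 1)) hT
    have hh : Pos (U h) ∧ z * h ≠ h * z := by simpa [T] using hhT
    obtain ⟨hpos, hne⟩ := hh
    -- h ≠ 1, so the norm is positive
    have hh1 : U h - 1 ≠ 0 := by
      intro h0
      have : U h = U 1 := by rw [map_one]; exact sub_eq_zero.mp h0
      have := hinj this
      apply hne
      rw [this]; group
    have hnpos : 0 < hs (U h - 1) :=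
      lt_of_le_of_ne (hs_nonneg _) (fun h0 => hh1 ((hs_eq_zero_iff _).mp h0.symm))
    -- the commutator
    obtain ⟨h', hh'⟩ : ∃ h' : G, h' = z * h * z⁻¹ * h⁻¹ := ⟨_, rfl⟩
    have hlt : hs (U h' - 1) < hs (U h - 1) := by
      have h1 := hs_comm_sub_one_le U hU hz hH hI h
      rw [← hh'] at h1
      have h2 : Complex.normSq (ε - 1) * hs (U h - 1) < 1 * hs (U h - 1) :=
        mul_lt_mul_of_pos_right hε1 hnpos
      linarith
    have hpos' : Pos (U h') := by
      have e : h' = z * (h * z⁻¹ * h⁻¹) := by rw [hh']; group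
      rw [e, map_mul, hz, map_conj_inv_eq U hU hz hH hI]
      exact pos_two hε hε1 hH hI (conj_herm hH) (conj_idem hI (hU h))
    have hcomm' : z * h' = h' * z := by
      by_contra hne'
      have : h' ∈ T := by simp [T, hpos', hne']
      have := hmin h' this
      linarith
    -- z commutes with h z h⁻¹
    have hcomm2 : z * (h * z * h⁻¹) = (h * z * h⁻¹) * z := by
      have e : h * z * h⁻¹ = h'⁻¹ * z := by rw [hh']; group
      rw [e]
      have e2 : z * h'⁻¹ = h'⁻¹ * z := by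
        have := congrArg (fun t => h'⁻¹ * t * h'⁻¹) hcomm'
        beta_reduce at this
        have l1 : h'⁻¹ * (z * h') * h'⁻¹ = h'⁻¹ * z := by group
        have l2 : h'⁻¹ * (h' * z) * h'⁻¹ = z * h'⁻¹ := by group
        rw [l1, l2] at this
        exact this.symm
      rw [← mul_assoc, e2]
    -- matrix form
    have hQc : Q * (U h * Q * (U h)ᴴ) = (U h * Q * (U h)ᴴ) * Q := by
      have h1 := congrArg U hcomm2
      rw [map_mul, map_mul U _ z, map_conj_eq U hU hz, hz] at h1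
      obtain ⟨R, hR⟩ : ∃ R : Matrix ι ι ℂ, R = U h * Q * (U h)ᴴ := ⟨_, rfl⟩
      rw [← hR] at h1 ⊢
      have h2 : ((ε - 1) * (ε - 1)) • (Q * R) = ((ε - 1) * (ε - 1)) • (R * Q) := by
        rw [one_add_smul_mul, one_add_smul_mul] at h1
        have e3 : 1 + (ε - 1) • R + (ε - 1) • Q = 1 + (ε - 1) • Q + (ε - 1) • R := by abel
        rw [e3] at h1
        exact add_left_cancel h1
      exact smul_right_injective _ (mul_ne_zero ha ha) h2
    have h3 := comm_of_pos hH hI (hU h) hpos hQc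
    apply hne
    apply hinj
    rw [map_mul, map_mul, hz]
    simp only [Matrix.add_mul, Matrix.mul_add, Matrix.one_mul, Matrix.mul_one, Matrix.smul_mul,
      Matrix.mul_smul, h3]
  have hgpos : Pos (U (g * z * g⁻¹)) := by
    rw [map_conj_eq U hU hz]
    exact pos_one hε hε1 (conj_herm hH) (conj_idem hI (hU g))
  exact claim _ hgpos

end Cfsg.Agent.Lib.Helper9.Lg
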