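import Mathlib
import Cfsg.Agent.Lib.Helper9.LgA

set_option autoImplicit false
set_option linter.unusedSectionVars false
set_option linter.unusedVariables false
set_option linter.style.longLine false
set_option linter.unusedSimpArgs false

set_option maxHeartbeats 1600000
namespace Cfsg.Agent.Lib.Helper9.Lg
open Matrix
open scoped MatrixOrder

variable {ι : Type*} [Fintype ι] [DecidableEq ι]

/-- **Weyl's unitary trick** for a finite matrix group. -/
theorem exists_unitarize {G : Type*} [Group G] [Finite G] (M : G →* Matrix ι ι ℂ) :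
    ∃ S S' : Matrix ι ι ℂ, S * S' = 1 ∧ S' * S = 1 ∧
      ∀ g, (S * M g * S')ᴴ * (S * M g * S') = 1 := by
  classical
  haveI : Fintype G := Fintype.ofFinite G
  obtain ⟨H₀, hH₀⟩ : ∃ H₀ : Matrix ι ι ℂ, H₀ = ∑ g : G, (M g)ᴴ * M g := ⟨_, rfl⟩
  have hnn : 0 ≤ H₀ := by
    rw [hH₀]
    exact Finset.sum_nonneg fun g _ => star_mul_self_nonneg (M g)
  obtain ⟨S, hS⟩ := CStarAlgebra.nonneg_iff_eq_star_mul_self.mp hnn
  rw [Matrix.star_eq_conjTranspose] at hS
  -- invariance
  have hinv : ∀ g : G, (M g)ᴴ * H₀ * M g = H₀ := by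
    intro g
    rw [hH₀, Finset.mul_sum, Finset.sum_mul]
    refine Fintype.sum_equiv (Equiv.mulRight g) _ _ ?_
    intro x
    simp only [Equiv.coe_mulRight, map_mul, Matrix.conjTranspose_mul, Matrix.mul_assoc]
  -- S is injective
  have hkey : ∀ v : ι → ℂ, S *ᵥ v = 0 → v = 0 := by
    intro v hv'
    have h1 : H₀ *ᵥ v = 0 := by
      rw [hS, ← Matrix.mulVec_mulVec, hv', Matrix.mulVec_zero]
    have h2 : star v ⬝ᵥ (H₀ *ᵥ v) = 0 := by rw [h1, dotProduct_zero]
    rw [hH₀, Matrix.sum_mulVec, dotProduct_sum] at h2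
    simp only [star_dot_sq] at h2
    have h3 : ∑ g : G, nv (M g *ᵥ v) = 0 := by exact_mod_cast h2
    have h4 := (Finset.sum_eq_zero_iff_of_nonneg (s := Finset.univ)
      (f := fun g : G => nv (M g *ᵥ v)) (fun g _ => nv_nonneg _)).mp h3 1 (Finset.mem_univ _)
    simp only [map_one, Matrix.one_mulVec] at h4
    exact (nv_eq_zero_iff v).mp h4
  have hSinj : Function.Injective S.mulVec := by
    have hlin : Function.Injective (Matrix.mulVecLin S) := by
      rw [injective_iff_map_eq_zero (Matrix.mulVecLin S)]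
      intro v hv
      have hv' : S *ᵥ v = 0 := hv
      exact hkey v hv'
    exact hlin
  have hSu : IsUnit S := Matrix.mulVec_injective_iff_isUnit.mp hSinj
  have hdet : IsUnit S.det := (Matrix.isUnit_iff_isUnit_det S).mp hSu
  refine ⟨S, S⁻¹, Matrix.mul_nonsing_inv S hdet, Matrix.nonsing_inv_mul S hdet, ?_⟩
  intro g
  have e1 : (S * M g * S⁻¹)ᴴ * (S * M g * S⁻¹) =
      (S⁻¹)ᴴ * ((M g)ᴴ * (Sᴴ * S) * M g) * S⁻¹ := by
    simp only [Matrix.conjTranspose_mul, Matrix.mul_assoc]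
  rw [e1, ← hS, hinv g, hS]
  have e2 : (S⁻¹)ᴴ * (Sᴴ * S) * S⁻¹ = (S * S⁻¹)ᴴ * (S * S⁻¹) := by
    simp only [Matrix.conjTranspose_mul, Matrix.mul_assoc]
  rw [e2, Matrix.mul_nonsing_inv S hdet, Matrix.conjTranspose_one, Matrix.one_mul]

end Cfsg.Agent.Lib.Helper9.Lg
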