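import Mathlib
import Cfsg.Agent.Lib.Helper9.LgE

set_option autoImplicit false
set_option linter.unusedSectionVars false
set_option linter.unusedVariables false
set_option linter.style.longLine false
set_option linter.unusedSimpArgs false

set_option maxHeartbeats 1600000
namespace Cfsg.Agent.Lib.Helper9.Lg
open Matrix

theorem eps_eq (p : ℕ) : eps p = Complex.exp (((2 * Real.pi / p : ℝ) : ℂ) * Complex.I) := by
  unfold eps
  congr 1
  push_cast
  ring

theorem eps_normSq (p : ℕ) : Complex.normSq (eps p) = 1 := by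
  rw [eps_eq, Complex.normSq_eq_norm_sq, Complex.norm_exp_ofReal_mul_I]
  norm_num

theorem eps_re (p : ℕ) : (eps p).re = Real.cos (2 * Real.pi / p) := by
  rw [eps_eq, Complex.exp_ofReal_mul_I_re]

theorem eps_sub_one_normSq_lt {p : ℕ} (hp : 7 ≤ p) : Complex.normSq (eps p - 1) < 1 := by
  rw [Complex.normSq_sub, eps_normSq, Complex.normSq_one]
  simp only [map_one, mul_one]
  rw [eps_re]
  have hp' : (7 : ℝ) ≤ p := by exact_mod_cast hp
  have hpos : (0 : ℝ) < p := by linarith
  have hpi := Real.pi_pos
  have h1 : 2 * Real.pi / p < Real.pi / 3 := by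
    rw [div_lt_div_iff₀ hpos (by norm_num)]
    nlinarith
  have h2 : 0 ≤ 2 * Real.pi / (p : ℝ) := by positivity
  have h3 : Real.pi / 3 ≤ Real.pi := by linarith
  have h4 := Real.cos_lt_cos_of_nonneg_of_le_pi h2 h3 h1
  rw [Real.cos_pi_div_three] at h4
  linarith

end Cfsg.Agent.Lib.Helper9.Lg
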