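import Mathlib
import Cfsg.Agent.Lib.Helper9.LgD

set_option autoImplicit false
set_option linter.unusedSectionVars false
set_option linter.unusedVariables false
set_option linter.style.longLine false
set_option linter.unusedSimpArgs false

set_option maxHeartbeats 1600000
namespace Cfsg.Agent.Lib.Helper9.Lg
open Matrix

variable {ι : Type*} [Fintype ι] [DecidableEq ι]

/-- atoms of the idempotents of a subalgebra -/
def IsAt (𝒜 : Subalgebra ℂ (Matrix ι ι ℂ)) (Q : Matrix ι ι ℂ) : Prop :=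
  Q ∈ 𝒜 ∧ Q * Q = Q ∧ Q ≠ 0 ∧ ∀ R ∈ 𝒜, R * R = R → Q * R = 0 ∨ Q * R = Q

section atoms

variable {𝒜 : Subalgebra ℂ (Matrix ι ι ℂ)} (hcomm : ∀ X ∈ 𝒜, ∀ Y ∈ 𝒜, X * Y = Y * X)
include hcomm

theorem isAt_of_min {Q : Matrix ι ι ℂ} (hQ : Q ∈ 𝒜) (hI : Q * Q = Q) (h0 : Q ≠ 0)
    (hmin : ∀ R ∈ 𝒜, R * R = R → R ≠ 0 → Q.rank ≤ R.rank) : IsAt 𝒜 Q := by
  refine ⟨hQ, hI, h0, ?_⟩
  intro R hR hRI
  by_cases hQR : Q * R = 0
  · left; exact hQR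
  right
  have hQRm : Q * R ∈ 𝒜 := 𝒜.mul_mem hQ hR
  have hQRI : (Q * R) * (Q * R) = Q * R := by
    have : Q * R * (Q * R) = Q * (R * Q) * R := by simp only [Matrix.mul_assoc]
    rw [this, hcomm R hR Q hQ, ← Matrix.mul_assoc, hI, Matrix.mul_assoc, hRI]
  have h1 := hmin _ hQRm hQRI hQR
  -- the complement
  have hCm : Q * (1 - R) ∈ 𝒜 := 𝒜.mul_mem hQ (𝒜.sub_mem 𝒜.one_mem hR)
  have hCI : (Q * (1 - R)) * (Q * (1 - R)) = Q * (1 - R) := by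
    have hc : (1 - R) * Q = Q * (1 - R) := by
      rw [Matrix.sub_mul, Matrix.mul_sub, Matrix.one_mul, Matrix.mul_one, hcomm R hR Q hQ]
    have : Q * (1 - R) * (Q * (1 - R)) = Q * ((1 - R) * Q) * (1 - R) := by
      simp only [Matrix.mul_assoc]
    rw [this, hc, ← Matrix.mul_assoc, hI, Matrix.mul_assoc]
    congr 1
    rw [Matrix.mul_sub, Matrix.sub_mul, Matrix.sub_mul, hRI]
    simp
  have h2 : Q = Q * R + Q * (1 - R) := by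
    rw [Matrix.mul_sub, Matrix.mul_one]; abel
  have h3 := congrArg Matrix.trace h2
  rw [Matrix.trace_add, trace_eq_rank hI, trace_eq_rank hQRI, trace_eq_rank hCI] at h3
  have h4 : Q.rank = (Q * R).rank + (Q * (1 - R)).rank := by exact_mod_cast h3
  have h5 : (Q * (1 - R)).rank = 0 := by omega
  have h6 := rank_eq_zero_of_idem hCI h5
  rw [Matrix.mul_sub, Matrix.mul_one, sub_eq_zero] at h6
  exact h6.symm

theorem IsAt.mul_eq_zero {Q₁ Q₂ : Matrix ι ι ℂ} (h₁ : IsAt 𝒜 Q₁) (h₂ : IsAt 𝒜 Q₂)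
    (hne : Q₁ ≠ Q₂) : Q₁ * Q₂ = 0 := by
  rcases h₁.2.2.2 Q₂ h₂.1 h₂.2.1 with h | h
  · exact h
  · rcases h₂.2.2.2 Q₁ h₁.1 h₁.2.1 with h' | h'
    · rw [hcomm Q₁ h₁.1 Q₂ h₂.1]; exact h'
    · exfalso
      apply hne
      rw [← h, hcomm Q₁ h₁.1 Q₂ h₂.1, h']

end atoms

section orbit

variable {G : Type*} [Group G] (U : G →* Matrix ι ι ℂ)

theorem map_mul_inv (g : G) : U g * U g⁻¹ = 1 := by rw [← map_mul, mul_inv_cancel, map_one]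

theorem map_inv_mul (g : G) : U g⁻¹ * U g = 1 := by rw [← map_mul, inv_mul_cancel, map_one]

theorem conj_mul (g : G) (X Y : Matrix ι ι ℂ) :
    (U g * X * U g⁻¹) * (U g * Y * U g⁻¹) = U g * (X * Y) * U g⁻¹ := by
  have : U g * X * U g⁻¹ * (U g * Y * U g⁻¹) = U g * X * (U g⁻¹ * U g) * Y * U g⁻¹ := by
    simp only [Matrix.mul_assoc]
  rw [this, map_inv_mul, Matrix.mul_one]
  simp only [Matrix.mul_assoc]

theorem conj_conj (g h : G) (X : Matrix ι ι ℂ) :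
    U g * (U h * X * U h⁻¹) * U g⁻¹ = U (g * h) * X * U (g * h)⁻¹ := by
  rw [map_mul, _root_.mul_inv_rev, map_mul]
  simp only [Matrix.mul_assoc]

theorem conj_inv_conj (g : G) (X : Matrix ι ι ℂ) :
    U g⁻¹ * (U g * X * U g⁻¹) * U g⁻¹⁻¹ = X := by
  rw [conj_conj, inv_mul_cancel, inv_one, map_one, Matrix.one_mul, Matrix.mul_one]

theorem conj_conj_inv (g : G) (X : Matrix ι ι ℂ) :
    U g * (U g⁻¹ * X * U g⁻¹⁻¹) * U g⁻¹ = X := by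
  rw [conj_conj, mul_inv_cancel, inv_one, map_one, Matrix.one_mul, Matrix.mul_one]

theorem trace_conj (g : G) (X : Matrix ι ι ℂ) : (U g * X * U g⁻¹).trace = X.trace := by
  rw [Matrix.trace_mul_cycle, map_inv_mul, Matrix.one_mul]

variable {𝒜 : Subalgebra ℂ (Matrix ι ι ℂ)}
  (hnorm : ∀ g : G, ∀ X ∈ 𝒜, U g * X * U g⁻¹ ∈ 𝒜)
include hnorm

theorem IsAt.conj {Q : Matrix ι ι ℂ} (h : IsAt 𝒜 Q) (g : G) : IsAt 𝒜 (U g * Q * U g⁻¹) := by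
  refine ⟨hnorm g Q h.1, ?_, ?_, ?_⟩
  · rw [conj_mul, h.2.1]
  · intro h0
    apply h.2.2.1
    have := congrArg (fun X => U g⁻¹ * X * U g⁻¹⁻¹) h0
    simp only [conj_inv_conj, Matrix.mul_zero, Matrix.zero_mul] at this
    exact this
  · intro R hR hRI
    obtain ⟨R', hR'⟩ : ∃ R' : Matrix ι ι ℂ, R' = U g⁻¹ * R * U g⁻¹⁻¹ := ⟨_, rfl⟩
    have hR'm : R' ∈ 𝒜 := by rw [hR']; exact hnorm g⁻¹ R hR
    have hR'I : R' * R' = R' := by rw [hR', conj_mul, hRI]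
    have hRR' : R = U g * R' * U g⁻¹ := by rw [hR', conj_conj_inv]
    rw [hRR', conj_mul]
    rcases h.2.2.2 R' hR'm hR'I with h1 | h1
    · left; rw [h1]; simp
    · right; rw [h1]

end orbit

/-- **Atoms.**  For an irreducible matrix group `U` normalizing a commutative subalgebra `𝒜`,
there is a finite `G`-stable set of pairwise orthogonal atoms of `𝒜` of constant trace `k`
summing to `1`. -/
theorem exists_atoms [Nonempty ι] {G : Type*} [Group G] [Finite G] (U : G →* Matrix ι ι ℂ)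
    (hirr : ∀ T : Matrix ι ι ℂ, T * T = T → (∀ g, T * U g = U g * T) → T = 0 ∨ T = 1)
    {𝒜 : Subalgebra ℂ (Matrix ι ι ℂ)} (hcomm : ∀ X ∈ 𝒜, ∀ Y ∈ 𝒜, X * Y = Y * X)
    (hnorm : ∀ g : G, ∀ X ∈ 𝒜, U g * X * U g⁻¹ ∈ 𝒜) :
    ∃ (𝒪 : Finset (Matrix ι ι ℂ)) (k : ℕ),
      (∀ Q ∈ 𝒪, IsAt 𝒜 Q) ∧ (∀ Q ∈ 𝒪, Q.trace = k) ∧
      (∑ Q ∈ 𝒪, Q = 1) ∧ (∀ g : G, ∀ Q ∈ 𝒪, U g * Q * U g⁻¹ ∈ 𝒪) := by
  classical
  haveI : Fintype G := Fintype.ofFinite G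
  -- a nonzero idempotent of minimal rank
  have hex : ∃ r : ℕ, ∃ Q ∈ 𝒜, Q * Q = Q ∧ Q ≠ 0 ∧ Q.rank = r :=
    ⟨_, 1, 𝒜.one_mem, by simp, one_ne_zero, rfl⟩
  obtain ⟨Q₀, hQ₀m, hQ₀I, hQ₀0, hQ₀r⟩ := Nat.find_spec hex
  have hmin : ∀ R ∈ 𝒜, R * R = R → R ≠ 0 → Q₀.rank ≤ R.rank := by
    intro R hR hRI hR0
    rw [hQ₀r]
    exact Nat.find_min' hex ⟨R, hR, hRI, hR0, rfl⟩
  have hat₀ : IsAt 𝒜 Q₀ := isAt_of_min hcomm hQ₀m hQ₀I hQ₀0 hmin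
  obtain ⟨𝒪, h𝒪⟩ : ∃ 𝒪 : Finset (Matrix ι ι ℂ),
      𝒪 = Finset.univ.image (fun g : G => U g * Q₀ * U g⁻¹) := ⟨_, rfl⟩
  have hmem : ∀ Q, Q ∈ 𝒪 ↔ ∃ g : G, U g * Q₀ * U g⁻¹ = Q := by
    intro Q
    rw [h𝒪]
    simp
  have hat : ∀ Q ∈ 𝒪, IsAt 𝒜 Q := by
    intro Q hQ
    obtain ⟨g, rfl⟩ := (hmem Q).mp hQ
    exact hat₀.conj U hnorm g
  have hclosed : ∀ g : G, ∀ Q ∈ 𝒪, U g * Q * U g⁻¹ ∈ 𝒪 := by
    intro g Q hQ
    obtain ⟨h, rfl⟩ := (hmem Q).mp hQ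
    rw [conj_conj]
    exact (hmem _).mpr ⟨g * h, rfl⟩
  have hQ₀mem : Q₀ ∈ 𝒪 := (hmem _).mpr ⟨1, by simp⟩
  -- Q * T = Q
  obtain ⟨T, hT⟩ : ∃ T : Matrix ι ι ℂ, T = ∑ Q ∈ 𝒪, Q := ⟨_, rfl⟩
  have hQT : ∀ Q ∈ 𝒪, Q * T = Q := by
    intro Q hQ
    rw [hT, Finset.mul_sum, Finset.sum_eq_single Q]
    · exact (hat Q hQ).2.1
    · intro Q' hQ' hne
      exact (hat Q hQ).mul_eq_zero hcomm (hat Q' hQ') (Ne.symm hne)
    · intro h; exact absurd hQ h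
  have hTI : T * T = T := by
    conv_lhs => rw [hT, Finset.sum_mul]
    rw [hT]
    refine Finset.sum_congr rfl fun Q hQ => ?_
    rw [← hT]
    exact hQT Q hQ
  have hTconj : ∀ g : G, U g * T * U g⁻¹ = T := by
    intro g
    rw [hT, Finset.mul_sum, Finset.sum_mul]
    refine Finset.sum_nbij' (fun Q => U g * Q * U g⁻¹) (fun Q => U g⁻¹ * Q * U g⁻¹⁻¹)
      (fun Q hQ => hclosed g Q hQ) (fun Q hQ => hclosed g⁻¹ Q hQ) ?_ ?_ ?_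
    · intro Q _; exact conj_inv_conj U g Q
    · intro Q _; exact conj_conj_inv U g Q
    · intro Q _; rfl
  have hTcomm : ∀ g : G, T * U g = U g * T := by
    intro g
    have h1 := congrArg (fun X => X * U g) (hTconj g)
    simp only [Matrix.mul_assoc, map_inv_mul, Matrix.mul_one] at h1
    exact h1.symm
  have hT1 : T = 1 := by
    rcases hirr T hTI hTcomm with h | h
    · exfalso
      apply hQ₀0
      rw [← hQT Q₀ hQ₀mem, h, Matrix.mul_zero]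
    · exact h
  refine ⟨𝒪, Q₀.rank, hat, ?_, ?_, hclosed⟩
  · intro Q hQ
    obtain ⟨g, rfl⟩ := (hmem Q).mp hQ
    rw [trace_conj, trace_eq_rank hQ₀I]
  · rw [← hT, hT1]

/-- counting atoms below an idempotent -/
theorem trace_eq_mul_card {𝒜 : Subalgebra ℂ (Matrix ι ι ℂ)}
    (hcomm : ∀ X ∈ 𝒜, ∀ Y ∈ 𝒜, X * Y = Y * X) {𝒪 : Finset (Matrix ι ι ℂ)} {k : ℕ}
    (hat : ∀ Q ∈ 𝒪, IsAt 𝒜 Q) (htr : ∀ Q ∈ 𝒪, Q.trace = k) (hsum : ∑ Q ∈ 𝒪, Q = 1)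
    {R : Matrix ι ι ℂ} (hR : R ∈ 𝒜) (hRI : R * R = R) :
    ∃ a : ℕ, R.trace = ((k * a : ℕ) : ℂ) := by
  classical
  refine ⟨(𝒪.filter fun Q => Q * R = Q).card, ?_⟩
  have h1 : R = ∑ Q ∈ 𝒪, Q * R := by
    rw [← Finset.sum_mul, hsum, Matrix.one_mul]
  have h2 : ∀ Q ∈ 𝒪, (Q * R).trace = if Q * R = Q then (k : ℂ) else 0 := by
    intro Q hQ
    rcases (hat Q hQ).2.2.2 R hR hRI with h | h
    · have hne : ¬ (Q * R = Q) := by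
        rw [h]; exact fun h0 => (hat Q hQ).2.2.1 h0.symm
      rw [if_neg hne, h, Matrix.trace_zero]
    · rw [if_pos h, h, htr Q hQ]
  conv_lhs => rw [h1, Matrix.trace_sum, Finset.sum_congr rfl h2]
  rw [← Finset.sum_filter, Finset.sum_const, nsmul_eq_mul]
  push_cast
  ring

end Cfsg.Agent.Lib.Helper9.Lg
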