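import Mathlib
import Cfsg.Agent.Lib.Helper9.LgG

set_option autoImplicit false
set_option linter.unusedSectionVars false
set_option linter.unusedVariables false
set_option linter.style.longLine false
set_option linter.unusedSimpArgs false

set_option maxHeartbeats 1600000
namespace Cfsg.Agent.Lib.Helper9.Lg
open Matrix

variable {ι : Type*} [Fintype ι] [DecidableEq ι]

theorem eq_of_mulVec_eq {A B : Matrix ι ι ℂ} (h : ∀ w : ι → ℂ, A *ᵥ w = B *ᵥ w) : A = B := by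
  have : A - B = 0 := by
    apply eq_zero_of_mulVec
    intro w
    rw [Matrix.sub_mulVec, h w, sub_self]
  exact sub_eq_zero.mp this

/-- a matrix commuting with a rank one idempotent acts on it as a scalar -/
theorem exists_smul_of_rank_one {Q A : Matrix ι ι ℂ} (hQ : Q * Q = Q) (hr : Q.rank = 1)
    (hA : A * Q = Q * A) : ∃ a : ℂ, A * Q = a • Q := by
  obtain ⟨W, hW⟩ : ∃ W : Submodule ℂ (ι → ℂ), W = LinearMap.range (Matrix.mulVecLin Q) :=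
    ⟨_, rfl⟩
  have hfr : Module.finrank ℂ W = 1 := by rw [hW, ← hr, Matrix.rank]
  obtain ⟨⟨w₀, hw₀W⟩, hw₀ne, hw₀⟩ := finrank_eq_one_iff'.mp hfr
  -- A w₀ ∈ W
  have hAw : A *ᵥ w₀ ∈ W := by
    have hw := hw₀W
    rw [hW] at hw ⊢
    obtain ⟨v, hv⟩ := hw
    refine ⟨A *ᵥ v, ?_⟩
    rw [← hv]
    simp only [Matrix.mulVecLin_apply, Matrix.mulVec_mulVec, hA]
  obtain ⟨a, ha⟩ := hw₀ ⟨_, hAw⟩
  have ha' : a • w₀ = A *ᵥ w₀ := congrArg Subtype.val ha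
  refine ⟨a, ?_⟩
  apply eq_of_mulVec_eq
  intro x
  have hQx : Q *ᵥ x ∈ W := by rw [hW]; exact ⟨x, rfl⟩
  obtain ⟨c, hc⟩ := hw₀ ⟨_, hQx⟩
  have hc' : c • w₀ = Q *ᵥ x := congrArg Subtype.val hc
  rw [← Matrix.mulVec_mulVec, ← hc', Matrix.mulVec_smul, ← ha', Matrix.smul_mulVec, ← hc']
  rw [smul_comm]

/-- matrices commuting with a complete family of rank one idempotents commute -/
theorem commute_of_rank_one {𝒪 : Finset (Matrix ι ι ℂ)} (hI : ∀ Q ∈ 𝒪, Q * Q = Q)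
    (hr : ∀ Q ∈ 𝒪, Q.rank = 1) (hsum : ∑ Q ∈ 𝒪, Q = 1) {A B : Matrix ι ι ℂ}
    (hA : ∀ Q ∈ 𝒪, A * Q = Q * A) (hB : ∀ Q ∈ 𝒪, B * Q = Q * B) : A * B = B * A := by
  have h1 : ∀ {A B : Matrix ι ι ℂ}, (∀ Q ∈ 𝒪, A * Q = Q * A) → (∀ Q ∈ 𝒪, B * Q = Q * B) →
      ∀ Q ∈ 𝒪, ∃ c : ℂ, A * B * Q = c • Q ∧ B * A * Q = c • Q := by
    intro A B hA hB Q hQ
    obtain ⟨a, ha⟩ := exists_smul_of_rank_one (hI Q hQ) (hr Q hQ) (hA Q hQ)
    obtain ⟨b, hb⟩ := exists_smul_of_rank_one (hI Q hQ) (hr Q hQ) (hB Q hQ)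
    refine ⟨a * b, ?_, ?_⟩
    · rw [Matrix.mul_assoc, hb, Matrix.mul_smul, ha, smul_smul, mul_comm]
    · rw [Matrix.mul_assoc, ha, Matrix.mul_smul, hb, smul_smul]
  calc A * B = A * B * ∑ Q ∈ 𝒪, Q := by rw [hsum, Matrix.mul_one]
    _ = ∑ Q ∈ 𝒪, A * B * Q := by rw [Finset.mul_sum]
    _ = ∑ Q ∈ 𝒪, B * A * Q := by
        refine Finset.sum_congr rfl fun Q hQ => ?_
        obtain ⟨c, h1, h2⟩ := h1 hA hB Q hQ
        rw [h1, h2]
    _ = B * A * ∑ Q ∈ 𝒪, Q := by rw [Finset.mul_sum]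
    _ = B * A := by rw [hsum, Matrix.mul_one]

/-- the kernel of the permutation action on a complete stable family of rank one idempotents is
an abelian normal subgroup of index dividing `n!` -/
theorem exists_abelian_normal {G : Type*} [Group G] [Finite G] (U : G →* Matrix ι ι ℂ)
    (hinj : Function.Injective U) {𝒪 : Finset (Matrix ι ι ℂ)}
    (hI : ∀ Q ∈ 𝒪, Q * Q = Q) (hr : ∀ Q ∈ 𝒪, Q.rank = 1) (hsum : ∑ Q ∈ 𝒪, Q = 1)
    (hclosed : ∀ g : G, ∀ Q ∈ 𝒪, U g * Q * U g⁻¹ ∈ 𝒪) :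
    ∃ D : Subgroup G, D.Normal ∧ (∀ x ∈ D, ∀ y ∈ D, x * y = y * x) ∧
      D.index ∣ (𝒪.card).factorial := by
  classical
  let act : MulAction G {Q // Q ∈ 𝒪} :=
    { smul := fun g Q => ⟨U g * Q.1 * U g⁻¹, hclosed g Q.1 Q.2⟩
      one_smul := by
        intro Q
        apply Subtype.ext
        show U 1 * Q.1 * U 1⁻¹ = Q.1
        simp
      mul_smul := by
        intro g h Q
        apply Subtype.ext
        show U (g * h) * Q.1 * U (g * h)⁻¹ = U g * (U h * Q.1 * U h⁻¹) * U g⁻¹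
        rw [conj_conj] }
  let φ : G →* Equiv.Perm {Q // Q ∈ 𝒪} := @MulAction.toPermHom G {Q // Q ∈ 𝒪} _ act
  have hker : ∀ d ∈ φ.ker, ∀ Q ∈ 𝒪, U d * Q = Q * U d := by
    intro d hd Q hQ
    rw [MonoidHom.mem_ker] at hd
    have h1 := congrArg (fun σ : Equiv.Perm {Q // Q ∈ 𝒪} => (σ ⟨Q, hQ⟩ : Matrix ι ι ℂ)) hd
    have h2 : U d * Q * U d⁻¹ = Q := h1
    have h3 := congrArg (fun X => X * U d) h2
    simp only [Matrix.mul_assoc, map_inv_mul, Matrix.mul_one] at h3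
    exact h3
  refine ⟨φ.ker, inferInstance, ?_, ?_⟩
  · intro x hx y hy
    apply hinj
    rw [map_mul, map_mul]
    exact commute_of_rank_one hI hr hsum (hker x hx) (hker y hy)
  · rw [Subgroup.index_ker]
    have h1 := Subgroup.card_subgroup_dvd_card φ.range
    rw [Nat.card_eq_fintype_card (α := Equiv.Perm {Q // Q ∈ 𝒪}), Fintype.card_perm,
      Fintype.card_coe] at h1
    exact h1

end Cfsg.Agent.Lib.Helper9.Lg
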