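import Mathlib
import Cfsg.Agent.Lib.Helper1.PCore

set_option autoImplicit false
set_option linter.unusedSectionVars false
set_option linter.unusedVariables false
set_option linter.style.longLine false
set_option linter.unusedSimpArgs false

set_option maxHeartbeats 1600000
namespace Cfsg.Agent.Lib.Helper9.Lg
open Cfsg

theorem not_sq_dvd_factorial {p n : ℕ} (hp : p.Prime) (hn : n < 2 * p) : ¬ p ^ 2 ∣ n.factorial := by
  have hlog : Nat.log p n < 2 := by
    apply Nat.log_lt_of_lt_pow'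
    · norm_num
    · have : 2 * p ≤ p ^ 2 := by
        rw [sq]; exact Nat.mul_le_mul_right p hp.two_le
      omega
  rw [Nat.Prime.pow_dvd_factorial_iff hp hlog]
  simp
  have : n / p < 2 := by
    rw [Nat.div_lt_iff_lt_mul hp.pos]
    omega
  omega

/-- **Group theoretic endgame.** -/
theorem not_sq_dvd_index_pCore {G : Type*} [Group G] [Finite G] {p : ℕ} [hp : Fact p.Prime]
    {n : ℕ} (hn : n < 2 * p) (D : Subgroup G) [hDn : D.Normal]
    (hD : ∀ x ∈ D, ∀ y ∈ D, x * y = y * x) (hidx : D.index ∣ n.factorial) :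
    ¬ p ^ 2 ∣ (Cfsg.pCore p G).index := by
  -- the p-elements of D
  let S : Subgroup G :=
    { carrier := {d | d ∈ D ∧ ∃ m : ℕ, d ^ (p ^ m) = 1}
      one_mem' := ⟨D.one_mem, 0, by simp⟩
      mul_mem' := by
        rintro x y ⟨hx, m, hxm⟩ ⟨hy, m', hym⟩
        refine ⟨D.mul_mem hx hy, m + m', ?_⟩
        have hc : Commute x y := hD x hx y hy
        rw [hc.mul_pow, pow_add, pow_mul, hxm, one_pow, mul_comm (p ^ m), pow_mul, hym, one_pow,
          one_mul]
      inv_mem' := by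
        rintro x ⟨hx, m, hxm⟩
        exact ⟨D.inv_mem hx, m, by rw [inv_pow, hxm, inv_one]⟩ }
  have hSn : S.Normal := by
    constructor
    rintro x ⟨hx, m, hxm⟩ g
    refine ⟨hDn.conj_mem x hx g, m, ?_⟩
    rw [conj_pow, hxm, mul_one, mul_inv_cancel]
  have hSp : IsPGroup p S := by
    rintro ⟨x, hx, m, hxm⟩
    exact ⟨m, Subtype.ext hxm⟩
  have hSK : S ≤ Cfsg.pCore p G := Cfsg.Agent.Lib.Helper1.le_pCore hSn hSp
  obtain ⟨P⟩ : Nonempty (Sylow p G) := inferInstance
  have hPD : (P : Subgroup G) ⊓ D ≤ S := by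
    intro x hx
    obtain ⟨m, hm⟩ := P.isPGroup' ⟨x, hx.1⟩
    exact ⟨hx.2, m, by simpa using congrArg Subtype.val hm⟩
  have hKP : Cfsg.pCore p G ≤ P := Cfsg.Agent.Lib.Helper1.pCore_le_sylow p P
  have h1 := Subgroup.relIndex_mul_index hKP
  intro hdvd
  rw [← h1] at hdvd
  have hcop : Nat.Coprime (p ^ 2) (P : Subgroup G).index := by
    apply Nat.Coprime.pow_left
    exact (Nat.Prime.coprime_iff_not_dvd hp.1).mpr P.not_dvd_index
  have h2 : p ^ 2 ∣ (Cfsg.pCore p G).relIndex P := hcop.dvd_of_dvd_mul_right hdvd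
  have h3 : (Cfsg.pCore p G).relIndex P ∣ ((P : Subgroup G) ⊓ D).relIndex P :=
    Subgroup.relIndex_dvd_of_le_left (L := (P : Subgroup G)) (hPD.trans hSK)
  rw [Subgroup.inf_relIndex_left] at h3
  have h4 : D.relIndex P ∣ D.index := Subgroup.relIndex_dvd_index_of_normal D P
  exact not_sq_dvd_factorial hp.1 hn (h2.trans (h3.trans (h4.trans hidx)))

end Cfsg.Agent.Lib.Helper9.Lg
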