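import Mathlib

set_option autoImplicit false
set_option linter.unusedSectionVars false
set_option linter.unusedVariables false
set_option linter.style.longLine false
set_option linter.unusedSimpArgs false

set_option maxHeartbeats 1600000
namespace Cfsg.Agent.Lib.Helper9.Lg
open Cfsg

variable {G : Type*} [Group G] [Finite G] {p : ℕ} [hp : Fact p.Prime]

theorem sylow_quot_comm_of_not_sq (K : Subgroup G) [K.Normal] (h : ¬ p ^ 2 ∣ K.index)
    (Q : Sylow p (G ⧸ K)) : ∀ x ∈ (Q : Subgroup (G ⧸ K)), ∀ y ∈ (Q : Subgroup (G ⧸ K)),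
      x * y = y * x := by
  obtain ⟨b, hb⟩ := (IsPGroup.iff_card.mp Q.isPGroup')
  have hdvd : Nat.card (Q : Subgroup (G ⧸ K)) ∣ K.index := by
    rw [Subgroup.index_eq_card]
    exact Subgroup.card_subgroup_dvd_card _
  have hb1 : b ≤ 1 := by
    by_contra hb2
    push Not at hb2
    apply h
    refine dvd_trans ?_ hdvd
    rw [hb]
    exact pow_dvd_pow p hb2
  intro x hx y hy
  interval_cases b
  · rw [pow_zero] at hb
    have hs : Subsingleton (Q : Subgroup (G ⧸ K)) := (Nat.card_eq_one_iff_unique.mp hb).1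
    have h1 : (⟨x, hx⟩ : (Q : Subgroup (G ⧸ K))) = ⟨y, hy⟩ := Subsingleton.elim _ _
    have h2 : x = y := congrArg Subtype.val h1
    rw [h2]
  · rw [pow_one] at hb
    haveI : IsCyclic (Q : Subgroup (G ⧸ K)) := isCyclic_of_prime_card hb
    letI := IsCyclic.commGroup (α := (Q : Subgroup (G ⧸ K)))
    have h1 : (⟨x, hx⟩ : (Q : Subgroup (G ⧸ K))) * ⟨y, hy⟩ = ⟨y, hy⟩ * ⟨x, hx⟩ := mul_comm _ _
    exact congrArg Subtype.val h1

theorem sylow_quot_comm_of_sylow_comm (K : Subgroup G) [K.Normal] (hK : IsPGroup p K)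
    (h : ∀ P : Sylow p G, ∀ x ∈ (P : Subgroup G), ∀ y ∈ (P : Subgroup G), x * y = y * x)
    (Q : Sylow p (G ⧸ K)) : ∀ x ∈ (Q : Subgroup (G ⧸ K)), ∀ y ∈ (Q : Subgroup (G ⧸ K)),
      x * y = y * x := by
  intro x hx y hy
  obtain ⟨a, rfl⟩ := QuotientGroup.mk'_surjective K x
  obtain ⟨c, rfl⟩ := QuotientGroup.mk'_surjective K y
  obtain ⟨Q', hQ'⟩ : ∃ Q' : Subgroup G, Q' = (Q : Subgroup (G ⧸ K)).comap (QuotientGroup.mk' K) :=
    ⟨_, rfl⟩
  have hQ'p : IsPGroup p Q' := by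
    rintro ⟨g, hg⟩
    rw [hQ', Subgroup.mem_comap] at hg
    obtain ⟨k, hk⟩ := Q.isPGroup' ⟨_, hg⟩
    have hk' : (QuotientGroup.mk' K g) ^ (p ^ k) = 1 := by
      have := congrArg Subtype.val hk
      simpa using this
    rw [← map_pow] at hk'
    have hgK : g ^ (p ^ k) ∈ K := by
      rw [← QuotientGroup.ker_mk' K, MonoidHom.mem_ker]; exact hk'
    obtain ⟨m, hm⟩ := hK ⟨_, hgK⟩
    have hm' : (g ^ (p ^ k)) ^ (p ^ m) = 1 := by
      have := congrArg Subtype.val hm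
      simpa using this
    refine ⟨k + m, Subtype.ext ?_⟩
    show g ^ (p ^ (k + m)) = 1
    rw [pow_add, pow_mul, hm']
  obtain ⟨P, hP⟩ := hQ'p.exists_le_sylow
  have ha : a ∈ (P : Subgroup G) := hP (by rw [hQ', Subgroup.mem_comap]; exact hx)
  have hc : c ∈ (P : Subgroup G) := hP (by rw [hQ', Subgroup.mem_comap]; exact hy)
  rw [← map_mul, ← map_mul, h P a ha c hc]

end Cfsg.Agent.Lib.Helper9.Lg
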