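import Mathlib
import Cfsg.Agent.Lib.Helper9.LgB
import Cfsg.Agent.Lib.Helper9.LgF
import Cfsg.Agent.Lib.Helper9.LgH
import Cfsg.Agent.Lib.Helper9.LgI
import Cfsg.Agent.Lib.Helper9.LgJ
import Cfsg.Agent.Lib.Helper8.Ext1

set_option autoImplicit false
set_option linter.unusedSectionVars false
set_option linter.unusedVariables false
set_option linter.style.longLine false
set_option linter.unusedSimpArgs false

set_option maxHeartbeats 1600000
namespace Cfsg.Agent.Lib.Helper9.Lg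
open Matrix
open scoped commutatorElement

theorem exists_central_commutator {G : Type*} [Group G] [Finite G] {p : ℕ} [hp : Fact p.Prime]
    (P : Subgroup G) (hP : IsPGroup p P) {x y : G} (hx : x ∈ P) (hy : y ∈ P)
    (hxy : x * y ≠ y * x) :
    ∃ z : P, z ≠ 1 ∧ z ^ p = 1 ∧ (∀ g : P, g * z = z * g) ∧ z ∈ commutator P := by
  have hM : commutator P ≠ ⊥ := by
    intro h
    have h1 : ⁅(⟨x, hx⟩ : P), ⟨y, hy⟩⁆ ∈ commutator P := by
      rw [commutator_def]
      exact Subgroup.commutator_mem_commutator (Subgroup.mem_top _) (Subgroup.mem_top _)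
    rw [h, Subgroup.mem_bot, commutatorElement_eq_one_iff_mul_comm] at h1
    exact hxy (congrArg Subtype.val h1)
  obtain ⟨w, hwM, hwZ, hw1⟩ := Cfsg.Agent.Lib.Helper8.Ext.normal_inf_center hP (commutator P) hM
  have hpo : p ∣ orderOf w := by
    obtain ⟨k, hk⟩ := hP w
    obtain ⟨j, hj, hj'⟩ := (Nat.dvd_prime_pow hp.1).mp (orderOf_dvd_of_pow_eq_one hk)
    have hj0 : j ≠ 0 := by
      intro h0
      rw [h0, pow_zero, orderOf_eq_one_iff] at hj'
      exact hw1 hj'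
    rw [hj']
    exact dvd_pow_self p hj0
  have ho : orderOf (w ^ (orderOf w / p)) = p :=
    orderOf_pow_orderOf_div (orderOf_pos w).ne' hpo
  refine ⟨w ^ (orderOf w / p), ?_, ?_, ?_, ?_⟩
  · intro h
    rw [h, orderOf_one] at ho
    exact hp.1.one_lt.ne ho
  · have := pow_orderOf_eq_one (w ^ (orderOf w / p))
    rw [ho] at this
    exact this
  · intro g
    have hz : w ^ (orderOf w / p) ∈ Subgroup.center P := Subgroup.pow_mem _ hwZ _
    exact Subgroup.mem_center_iff.mp hz g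
  · exact Subgroup.pow_mem _ hwM _

variable {ι : Type*} [Fintype ι] [DecidableEq ι]

/-- the idempotent of a unitary two-eigenvalue matrix is Hermitian -/
theorem herm_of_unitary {A E : Matrix ι ι ℂ} {ε : ℂ} (hA : Aᴴ * A = 1) (hE : E * E = E)
    (hε : Complex.normSq ε = 1) (hε1 : ε ≠ 1) (hAE : A = 1 + (ε - 1) • E) : Eᴴ = E := by
  have hε0 : ε ≠ 0 := by
    intro h
    rw [h] at hε
    simp at hε
  have hconj : (starRingEnd ℂ) ε = ε⁻¹ := by
    have h1 := Complex.mul_conj ε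
    rw [hε] at h1
    field_simp
    rw [mul_comm]
    exact_mod_cast h1
  -- the inverse of A
  have hinv : A * (1 + (ε⁻¹ - 1) • E) = 1 := by
    rw [hAE, one_add_smul_mul, hE]
    have : (ε - 1) * (ε⁻¹ - 1) = - (ε - 1) - (ε⁻¹ - 1) := by
      field_simp
      ring
    rw [this]
    module
  have h2 : Aᴴ = 1 + (ε⁻¹ - 1) • E := by
    calc Aᴴ = Aᴴ * (A * (1 + (ε⁻¹ - 1) • E)) := by rw [hinv, Matrix.mul_one]
      _ = (Aᴴ * A) * (1 + (ε⁻¹ - 1) • E) := by rw [Matrix.mul_assoc]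
      _ = 1 + (ε⁻¹ - 1) • E := by rw [hA, Matrix.one_mul]
  have h3 : Aᴴ = 1 + (ε⁻¹ - 1) • Eᴴ := by
    rw [hAE, Matrix.conjTranspose_add, Matrix.conjTranspose_one, Matrix.conjTranspose_smul]
    congr 2
    show (starRingEnd ℂ) (ε - 1) = _
    rw [map_sub, map_one, hconj]
  rw [h2] at h3
  have h4 := add_left_cancel h3
  have hne : ε⁻¹ - 1 ≠ 0 := by
    intro h
    apply hε1
    have : ε⁻¹ = 1 := sub_eq_zero.mp h
    exact inv_eq_one.mp this
  exact (smul_right_injective _ hne h4).symm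

/-- **Main theorem, matrix form.** -/
theorem main_matrix {n : ℕ} {G : Type*} [Group G] [Finite G]
    (U : G →* Matrix (Fin n) (Fin n) ℂ)
    (hU : ∀ g, (U g)ᴴ * U g = 1) (hinj : Function.Injective U)
    (hirr : ∀ T : Matrix (Fin n) (Fin n) ℂ, T * T = T → (∀ g, T * U g = U g * T) →
      T = 0 ∨ T = 1)
    {p : ℕ} [hp : Fact p.Prime] (h7 : 7 ≤ p) (hn2 : n < 2 * p) (hnp : n ≠ p)
    (P : Sylow p G) {x y : G} (hx : x ∈ (P : Subgroup G)) (hy : y ∈ (P : Subgroup G))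
    (hxy : x * y ≠ y * x) :
    ¬ p ^ 2 ∣ (Cfsg.pCore p G).index := by
  classical
  obtain ⟨z, hz1, hzp, hzc, hzP⟩ :=
    exists_central_commutator (P : Subgroup G) P.isPGroup' hx hy hxy
  have hcard : Fintype.card (Fin n) = n := Fintype.card_fin n
  obtain ⟨hpn, k, E, hE, hEtr, hUz⟩ := exists_two_eig U hinj hp.1
    (by rw [hcard]; exact hn2) (by rw [hcard]; exact hnp) (P : Subgroup G) z hz1 hzp hzc hzP
  rw [hcard] at hpn
  obtain ⟨z₁, hz₁⟩ : ∃ z₁ : G, z₁ = (z : G) ^ k := ⟨_, rfl⟩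
  rw [← hz₁] at hUz
  have hε := eps_normSq p
  have hε1 := eps_sub_one_normSq_lt h7
  have hεne : eps p ≠ 1 := (eps_isPrimitiveRoot hp.1.ne_zero).ne_one hp.1.one_lt
  have hEH : Eᴴ = E := herm_of_unitary (hU z₁) hE hε hεne hUz
  have hB := commute_conj_of_two_eig U hU hinj hε hε1 hUz hEH hE
  -- any two conjugates commute
  have hcc : ∀ a b : G,
      (a * z₁ * a⁻¹) * (b * z₁ * b⁻¹) = (b * z₁ * b⁻¹) * (a * z₁ * a⁻¹) := by
    intro a b
    have h1 := hB (a⁻¹ * b)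
    have h2 := congrArg (fun t => a * t * a⁻¹) h1
    beta_reduce at h2
    have e1 : a * (z₁ * (a⁻¹ * b * z₁ * (a⁻¹ * b)⁻¹)) * a⁻¹ =
        (a * z₁ * a⁻¹) * (b * z₁ * b⁻¹) := by group
    have e2 : a * ((a⁻¹ * b * z₁ * (a⁻¹ * b)⁻¹) * z₁) * a⁻¹ =
        (b * z₁ * b⁻¹) * (a * z₁ * a⁻¹) := by group
    rw [e1, e2] at h2
    exact h2
  -- the algebra
  obtain ⟨𝒜, h𝒜⟩ : ∃ 𝒜 : Subalgebra ℂ (Matrix (Fin n) (Fin n) ℂ),
      𝒜 = Algebra.adjoin ℂ (Set.range fun a : G => U (a * z₁ * a⁻¹)) := ⟨_, rfl⟩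
  have hgen : ∀ a : G, U (a * z₁ * a⁻¹) ∈ 𝒜 := by
    intro a; rw [h𝒜]; exact Algebra.subset_adjoin ⟨a, rfl⟩
  have hcomm : ∀ X ∈ 𝒜, ∀ Y ∈ 𝒜, X * Y = Y * X := by
    intro X hX Y hY
    rw [h𝒜] at hX hY
    refine (Algebra.commute_of_mem_adjoin_of_forall_mem_commute hY ?_).eq
    rintro _ ⟨b, rfl⟩
    refine (Algebra.commute_of_mem_adjoin_of_forall_mem_commute hX ?_).symm
    rintro _ ⟨a, rfl⟩
    show U _ * U _ = U _ * U _
    rw [← map_mul, ← map_mul, hcc]
  have hnorm : ∀ g : G, ∀ X ∈ 𝒜, U g * X * U g⁻¹ ∈ 𝒜 := by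
    intro g X hX
    rw [h𝒜] at hX
    induction hX using Algebra.adjoin_induction with
    | mem x hx =>
      obtain ⟨a, rfl⟩ := hx
      have : U g * U (a * z₁ * a⁻¹) * U g⁻¹ = U ((g * a) * z₁ * (g * a)⁻¹) := by
        rw [← map_mul, ← map_mul]; congr 1; group
      rw [this]; exact hgen _
    | algebraMap r =>
      have : U g * (algebraMap ℂ (Matrix (Fin n) (Fin n) ℂ) r) * U g⁻¹ =
          algebraMap ℂ (Matrix (Fin n) (Fin n) ℂ) r := by
        rw [Algebra.algebraMap_eq_smul_one, Matrix.mul_smul, Matrix.smul_mul, Matrix.mul_one,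
          map_mul_inv]
      rw [this]; exact 𝒜.algebraMap_mem r
    | add x y _ _ hx hy =>
      rw [Matrix.mul_add, Matrix.add_mul]; exact 𝒜.add_mem hx hy
    | mul x y _ _ hx hy =>
      rw [← conj_mul]; exact 𝒜.mul_mem hx hy
  have hEm : E ∈ 𝒜 := by
    have h1 : E = (eps p - 1)⁻¹ • (U z₁ - 1) := by
      rw [hUz, add_sub_cancel_left, smul_smul, inv_mul_cancel₀ (sub_ne_zero.mpr hεne), one_smul]
    rw [h1]
    refine 𝒜.smul_mem (𝒜.sub_mem ?_ 𝒜.one_mem) _
    have := hgen 1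
    simpa using this
  haveI : Nonempty (Fin n) := ⟨⟨0, by have := hp.1.pos; omega⟩⟩
  obtain ⟨𝒪, k', hat, htr, hsum, hclosed⟩ := exists_atoms U hirr hcomm hnorm
  -- k' = 1
  obtain ⟨a, ha⟩ := trace_eq_mul_card hcomm hat htr hsum hEm hE
  obtain ⟨b, hb⟩ := trace_eq_mul_card hcomm hat htr hsum 𝒜.one_mem (by simp)
  rw [hEtr] at ha
  rw [Matrix.trace_one, hcard] at hb
  have ha' : p = k' * a := by exact_mod_cast ha
  have hb' : n = k' * b := by exact_mod_cast hb
  have hk1 : k' = 1 := by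
    have h1 : k' ∣ p := ⟨a, ha'⟩
    have h2 : k' ∣ n := ⟨b, hb'⟩
    rcases (Nat.dvd_prime hp.1).mp h1 with h | h
    · exact h
    · exfalso
      rw [h] at h2
      obtain ⟨c, hc⟩ := h2
      have hc2 : c < 2 := by
        by_contra hge
        push Not at hge
        have := Nat.mul_le_mul_left p hge
        omega
      have hc1 : 1 < c := by
        by_contra hle
        push Not at hle
        have := Nat.mul_le_mul_left p hle
        omega
      omega
  have hrank : ∀ Q ∈ 𝒪, Q.rank = 1 := by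
    intro Q hQ
    have h1 := htr Q hQ
    rw [trace_eq_rank (hat Q hQ).2.1, hk1] at h1
    exact_mod_cast h1
  have hcard𝒪 : 𝒪.card = n := by
    have h1 := congrArg Matrix.trace hsum
    rw [Matrix.trace_sum, Matrix.trace_one, hcard, Finset.sum_congr rfl htr, Finset.sum_const,
      hk1] at h1
    simp at h1
    exact_mod_cast h1
  obtain ⟨D, hDn, hDc, hDi⟩ :=
    exists_abelian_normal U hinj (fun Q hQ => (hat Q hQ).2.1) hrank hsum hclosed
  rw [hcard𝒪] at hDi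
  exact not_sq_dvd_index_pCore hn2 D hDc hDi

end Cfsg.Agent.Lib.Helper9.Lg
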