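import Mathlib
import Mathlib
import Cfsg.Agent.Lib.Helper9.LgB
import Cfsg.Agent.Lib.Helper9.LgC
import Cfsg.Agent.Lib.Helper9.LgK
import Cfsg.Agent.Lib.Helper9.LgF
import Cfsg.Agent.Lib.Helper9.LgE

set_option autoImplicit false
set_option linter.unusedSectionVars false
set_option linter.unusedVariables false
set_option linter.style.longLine false
set_option linter.unusedSimpArgs false

set_option maxHeartbeats 1600000
namespace Cfsg.Agent.Lib.Helper9.Lg
open Matrix

variable {ι : Type*} [Fintype ι] [DecidableEq ι]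

/-- Blichfeldt's two-eigenvalue lemma without injectivity: the images commute. -/
theorem commute_map_conj_of_two_eig {G : Type*} [Group G] [Finite G]
    (U : G →* Matrix ι ι ℂ) (hU : ∀ g, (U g)ᴴ * U g = 1)
    {ε : ℂ} (hε : Complex.normSq ε = 1) (hε1 : Complex.normSq (ε - 1) < 1)
    {z : G} {Q : Matrix ι ι ℂ} (hz : U z = 1 + (ε - 1) • Q) (hH : Qᴴ = Q) (hI : Q * Q = Q)
    (g : G) : U z * U (g * z * g⁻¹) = U (g * z * g⁻¹) * U z := by
  obtain ⟨V, hVdef⟩ : ∃ V : G ⧸ U.ker →* Matrix ι ι ℂ, V = QuotientGroup.lift U.ker U le_rfl :=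
    ⟨_, rfl⟩
  have hV : ∀ x : G, V (QuotientGroup.mk x) = U x := by
    intro x
    rw [hVdef]
    exact QuotientGroup.lift_mk _ _ x
  have hVinj : Function.Injective V := by
    intro x y hxy
    obtain ⟨a, rfl⟩ := QuotientGroup.mk_surjective x
    obtain ⟨b, rfl⟩ := QuotientGroup.mk_surjective y
    rw [hV, hV] at hxy
    rw [QuotientGroup.eq, MonoidHom.mem_ker, map_mul, ← hxy, ← map_mul, inv_mul_cancel, map_one]
  have hVU : ∀ x : G ⧸ U.ker, (V x)ᴴ * V x = 1 := by
    intro x
    obtain ⟨x, rfl⟩ := QuotientGroup.mk_surjective x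
    rw [hV]; exact hU x
  have hVz : V (QuotientGroup.mk z) = 1 + (ε - 1) • Q := by rw [hV, hz]
  have h := commute_conj_of_two_eig V hVU hVinj hε hε1 hVz hH hI (QuotientGroup.mk g)
  have h2 := congrArg V h
  rw [← QuotientGroup.mk_inv, ← QuotientGroup.mk_mul, ← QuotientGroup.mk_mul, map_mul, map_mul,
    hV, hV] at h2
  exact h2

theorem smul_eq_self_imp {X : Matrix ι ι ℂ} (hX : X ≠ 0) {c : ℂ} (h : X = c • X) : c = 1 := by
  have h1 : (1 - c) • X = 0 := by
    rw [sub_smul, one_smul, ← h, sub_self]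
  rcases smul_eq_zero.mp h1 with h2 | h2
  · exact (sub_eq_zero.mp h2).symm
  · exact absurd h2 hX

theorem normSq_eq_one_of_pow {c : ℂ} {M : ℕ} (hM : M ≠ 0) (h : c ^ M = 1) :
    Complex.normSq c = 1 := by
  have := Complex.norm_eq_one_of_pow_eq_one h hM
  rw [Complex.normSq_eq_norm_sq, this]; norm_num

theorem smul_unitary {c : ℂ} (hc : Complex.normSq c = 1) {A : Matrix ι ι ℂ} (hA : Aᴴ * A = 1) :
    (c • A)ᴴ * (c • A) = 1 := by
  rw [Matrix.conjTranspose_smul, Matrix.smul_mul, Matrix.mul_smul, smul_smul, hA]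
  have : star c * c = 1 := by
    have h1 := Complex.normSq_eq_conj_mul_self (z := c)
    rw [hc] at h1
    exact_mod_cast h1.symm
  rw [this, one_smul]

/-- the scalar-twisted homomorphism used for the scalars trick -/
noncomputable def twist {G : Type*} [Group G] (U : G →* Matrix ι ι ℂ) (M : ℕ)
    (S S' : Matrix ι ι ℂ) (hS : S' * S = 1) (hS' : S * S' = 1) :
    G × (rootsOfUnity M ℂ) →* Matrix ι ι ℂ where
  toFun x := (((x.2 : ℂˣ) : ℂ)) • (S * U x.1 * S')
  map_one' := by simp [hS']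
  map_mul' := by
    intro x y
    simp only [Prod.fst_mul, Prod.snd_mul, map_mul, Subgroup.coe_mul, Units.val_mul]
    rw [smul_mul_smul_comm]
    congr 1
    calc S * (U x.1 * U y.1) * S' = S * U x.1 * (1 * (U y.1 * S')) := by
          simp only [Matrix.mul_assoc, Matrix.one_mul]
      _ = S * U x.1 * S' * (S * U y.1 * S') := by
          rw [← hS]; simp only [Matrix.mul_assoc]

theorem twist_apply {G : Type*} [Group G] (U : G →* Matrix ι ι ℂ) (M : ℕ)
    (S S' : Matrix ι ι ℂ) (hS : S' * S = 1) (hS' : S * S' = 1) (g : G) (c : rootsOfUnity M ℂ) :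
    twist U M S S' hS hS' (g, c) = (((c : ℂˣ) : ℂ)) • (S * U g * S') := rfl

theorem commute_of_scalar {G : Type*} [Group G] (U : G →* Matrix ι ι ℂ)
    (hinj : Function.Injective U) {z : G} {c : ℂ} (hz : U z = c • 1) (y : G) :
    z * y = y * z := by
  apply hinj
  rw [map_mul, map_mul, hz]
  simp

/-- **Blichfeldt's two-eigenvalue lemma, scalar form.**  No unitarity is assumed. -/
theorem commute_conj_of_two_eig_scalar {G : Type*} [Group G] [Finite G]
    (U : G →* Matrix ι ι ℂ) (hinj : Function.Injective U)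
    {ε b : ℂ} (hb : b ≠ 0) (hε : Complex.normSq ε = 1) (hε1 : Complex.normSq (ε - 1) < 1)
    {z : G} {E : Matrix ι ι ℂ} (hz : U z = b • (1 + (ε - 1) • E)) (hI : E * E = E)
    (g : G) : z * (g * z * g⁻¹) = (g * z * g⁻¹) * z := by
  by_cases hε0 : ε = 1
  · refine commute_of_scalar U hinj (c := b) ?_ _
    rw [hz, hε0]; simp
  by_cases hE1 : E = 1
  · refine commute_of_scalar U hinj (c := b * ε) ?_ _
    rw [hz, hE1, mul_smul]
    congr 1
    rw [sub_smul, one_smul]; abel
  -- b is a root of unity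
  obtain ⟨M, hMdef⟩ : ∃ M : ℕ, M = orderOf z := ⟨_, rfl⟩
  have hM0 : M ≠ 0 := by rw [hMdef]; exact (orderOf_pos z).ne'
  have hbM : b ^ M = 1 := by
    have h1 : U (z ^ M) = 1 := by rw [hMdef, pow_orderOf_eq_one, map_one]
    rw [map_pow, hz, smul_pow, one_add_smul_pow hI] at h1
    have hk : (1 + (ε ^ M - 1) • E) * (1 - E) = 1 - E := by
      rw [Matrix.add_mul, Matrix.one_mul, Matrix.smul_mul, Matrix.mul_sub, Matrix.mul_one, hI,
        sub_self, smul_zero, add_zero]
    have h2 : (1 - E) = b ^ M • (1 - E) := by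
      calc (1 - E) = 1 * (1 - E) := (Matrix.one_mul _).symm
        _ = (b ^ M • (1 + (ε ^ M - 1) • E)) * (1 - E) := by rw [h1]
        _ = b ^ M • (1 - E) := by rw [Matrix.smul_mul, hk]
    exact smul_eq_self_imp (sub_ne_zero.mpr (Ne.symm hE1)) h2
  haveI : NeZero M := ⟨hM0⟩
  -- unitarize
  obtain ⟨S, S', hSS', hS'S, hunit⟩ := exists_unitarize U
  obtain ⟨E', hE'def⟩ : ∃ E' : Matrix ι ι ℂ, E' = S * E * S' := ⟨_, rfl⟩
  have hI' : E' * E' = E' := by
    rw [hE'def]
    calc S * E * S' * (S * E * S') = S * E * (S' * S) * E * S' := by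
          simp only [Matrix.mul_assoc]
      _ = S * E * S' := by rw [hS'S, Matrix.mul_one, Matrix.mul_assoc S E E, hI]
  obtain ⟨W, hWdef⟩ : ∃ W : G × (rootsOfUnity M ℂ) →* Matrix ι ι ℂ,
      W = twist U M S S' hS'S hSS' := ⟨_, rfl⟩
  have hW : ∀ (x : G) (c : rootsOfUnity M ℂ), W (x, c) = (((c : ℂˣ) : ℂ)) • (S * U x * S') := by
    intro x c; rw [hWdef]; rfl
  have hWU : ∀ x, (W x)ᴴ * W x = 1 := by
    rintro ⟨x, c⟩
    rw [hW]
    refine smul_unitary ?_ (hunit x)
    apply normSq_eq_one_of_pow hM0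
    have := (mem_rootsOfUnity _ _).mp c.2
    have h2 := congrArg (fun u : ℂˣ => (u : ℂ)) this
    simpa using h2
  -- the element z'
  have hbinv : (Units.mk0 b⁻¹ (inv_ne_zero hb)) ∈ rootsOfUnity M ℂ := by
    rw [mem_rootsOfUnity]
    apply Units.ext
    simp [hbM]
  obtain ⟨β, hβdef⟩ : ∃ β : rootsOfUnity M ℂ, β = ⟨_, hbinv⟩ := ⟨_, rfl⟩
  have hβ : ((β : ℂˣ) : ℂ) = b⁻¹ := by rw [hβdef]; rfl
  have hWz : W (z, β) = 1 + (ε - 1) • E' := by
    rw [hW, hβ, hz, hE'def]
    simp only [Matrix.mul_smul, Matrix.smul_mul, Matrix.mul_add, Matrix.add_mul, Matrix.mul_one,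
      hSS', smul_smul, inv_mul_cancel₀ hb, one_smul, smul_add]
    congr 2
    field_simp
  have hH' : E'ᴴ = E' := herm_of_unitary (hWU (z, β)) hI' hε hε0 hWz
  have hmain := commute_map_conj_of_two_eig W hWU hε hε1 hWz hH' hI' ((g, 1) : G × rootsOfUnity M ℂ)
  have hconj : ((g, 1) : G × rootsOfUnity M ℂ) * (z, β) * ((g, 1) : G × rootsOfUnity M ℂ)⁻¹
      = (g * z * g⁻¹, β) := by
    ext <;> simp
  rw [hconj, hW, hW, hβ, smul_mul_smul_comm, smul_mul_smul_comm] at hmain
  have hb2 : b⁻¹ * b⁻¹ ≠ 0 := mul_ne_zero (inv_ne_zero hb) (inv_ne_zero hb)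
  have h3 := smul_right_injective _ hb2 hmain
  -- strip S
  apply hinj
  have h4 : ∀ x y : G, S * U x * S' * (S * U y * S') = S * U (x * y) * S' := by
    intro x y
    rw [map_mul]
    calc S * U x * S' * (S * U y * S') = S * U x * (S' * S) * U y * S' := by
          simp only [Matrix.mul_assoc]
      _ = S * (U x * U y) * S' := by rw [hS'S, Matrix.mul_one]; simp only [Matrix.mul_assoc]
  rw [h4, h4] at h3
  have h5 : S' * (S * U (z * (g * z * g⁻¹)) * S') * S
      = S' * (S * U (g * z * g⁻¹ * z) * S') * S := by rw [h3]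
  have h6 : ∀ X : Matrix ι ι ℂ, S' * (S * X * S') * S = X := by
    intro X
    calc S' * (S * X * S') * S = (S' * S) * X * (S' * S) := by simp only [Matrix.mul_assoc]
      _ = X := by rw [hS'S, Matrix.one_mul, Matrix.mul_one]
  rw [h6, h6] at h5
  exact h5

theorem two_eig_pow {E : Matrix ι ι ℂ} (hI : E * E = E) (a b : ℂ) (k : ℕ) :
    (a • E + b • (1 - E)) ^ k = a ^ k • E + b ^ k • (1 - E) := by
  have h1 : E * (1 - E) = 0 := by rw [Matrix.mul_sub, Matrix.mul_one, hI, sub_self]
  have h2 : (1 - E) * E = 0 := by rw [Matrix.sub_mul, Matrix.one_mul, hI, sub_self]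
  have h3 : (1 - E) * (1 - E) = 1 - E := by
    rw [Matrix.mul_sub, Matrix.mul_one, h2, sub_zero]
  induction k with
  | zero => simp
  | succ k ih =>
    rw [pow_succ, ih]
    simp only [Matrix.add_mul, Matrix.mul_add, Matrix.smul_mul, Matrix.mul_smul, hI, h1, h2, h3,
      smul_zero, add_zero, zero_add, smul_smul, pow_succ]
    rw [mul_comm a, mul_comm b]

theorem two_eig_eq_smul {E : Matrix ι ι ℂ} {a b : ℂ} (hb : b ≠ 0) :
    a • E + b • (1 - E) = b • (1 + (a / b - 1) • E) := by
  rw [smul_add, smul_smul, mul_sub, mul_one, mul_div_cancel₀ _ hb, sub_smul, smul_sub]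
  abel

/-- a simple nonabelian group has no nontrivial element commuting with all its conjugates -/
theorem false_of_commute_conj {G : Type*} [Group G] [IsSimpleGroup G]
    (hna : ∃ x y : G, x * y ≠ y * x) {z : G} (hz1 : z ≠ 1)
    (hz : ∀ g : G, z * (g * z * g⁻¹) = (g * z * g⁻¹) * z) : False := by
  obtain ⟨x, y, hxy⟩ := hna
  have hcomm : ∀ u ∈ Group.conjugatesOfSet ({z} : Set G), ∀ v ∈ Group.conjugatesOfSet ({z} : Set G),
      u * v = v * u := by
    intro u hu v hv
    rw [Group.mem_conjugatesOfSet_iff] at hu hv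
    obtain ⟨z1, hz1', hu⟩ := hu
    obtain ⟨z2, hz2', hv⟩ := hv
    rw [Set.mem_singleton_iff] at hz1' hz2'
    rw [hz1'] at hu
    rw [hz2'] at hv
    rw [isConj_iff] at hu hv
    obtain ⟨h, rfl⟩ := hu
    obtain ⟨k, rfl⟩ := hv
    have := hz (h⁻¹ * k)
    have e1 : h * z * h⁻¹ * (k * z * k⁻¹) = h * (z * (h⁻¹ * k * z * (h⁻¹ * k)⁻¹)) * h⁻¹ := by
      group
    have e2 : k * z * k⁻¹ * (h * z * h⁻¹) = h * ((h⁻¹ * k * z * (h⁻¹ * k)⁻¹) * z) * h⁻¹ := by
      group
    rw [e1, e2, this]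
  have hN : Subgroup.normalClosure ({z} : Set G) = ⊤ := by
    rcases (Subgroup.normalClosure_normal (s := ({z} : Set G))).eq_bot_or_eq_top with h | h
    · exfalso
      apply hz1
      have : z ∈ Subgroup.normalClosure ({z} : Set G) :=
        Subgroup.subset_normalClosure (Set.mem_singleton z)
      rw [h] at this
      exact Subgroup.mem_bot.mp this
    · exact h
  letI inst := Subgroup.closureCommGroupOfComm hcomm
  have hx : x ∈ Subgroup.closure (Group.conjugatesOfSet ({z} : Set G)) := by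
    have : x ∈ Subgroup.normalClosure ({z} : Set G) := by rw [hN]; trivial
    exact this
  have hy : y ∈ Subgroup.closure (Group.conjugatesOfSet ({z} : Set G)) := by
    have : y ∈ Subgroup.normalClosure ({z} : Set G) := by rw [hN]; trivial
    exact this
  apply hxy
  have := mul_comm (⟨x, hx⟩ : Subgroup.closure (Group.conjugatesOfSet ({z} : Set G))) ⟨y, hy⟩
  exact congrArg Subtype.val this

/-- **(B)**: in a simple nonabelian group with a faithful matrix representation, no element has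
exactly two eigenvalues whose ratio is a primitive `m`-th root of unity, `m ≥ 7`. -/
theorem false_of_two_eig {G : Type*} [Group G] [Finite G] [IsSimpleGroup G]
    (hna : ∃ x y : G, x * y ≠ y * x)
    (U : G →* Matrix ι ι ℂ) (hinj : Function.Injective U)
    {g : G} {a b : ℂ} {E : Matrix ι ι ℂ} (hI : E * E = E) (hE0 : E ≠ 0) (hE1 : E ≠ 1)
    (hg : U g = a • E + b • (1 - E)) {m : ℕ} (hm : 7 ≤ m) (hab : IsPrimitiveRoot (a / b) m) :
    False := by
  have hm0 : m ≠ 0 := by omega
  haveI : NeZero m := ⟨hm0⟩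
  have hb : b ≠ 0 := by
    intro hb
    have h1 := hab.pow_eq_one
    rw [hb, div_zero, zero_pow hm0] at h1
    exact zero_ne_one h1
  have heps := eps_isPrimitiveRoot hm0
  obtain ⟨j, hjm, hj⟩ := hab.eq_pow_of_pow_eq_one heps.pow_eq_one
  have hbj : b ^ j ≠ 0 := pow_ne_zero _ hb
  have hUz : U (g ^ j) = b ^ j • (1 + (eps m - 1) • E) := by
    rw [map_pow, hg, two_eig_pow hI, two_eig_eq_smul hbj, ← div_pow, hj]
  have hε : Complex.normSq (eps m) = 1 := eps_normSq m
  have hε1 : Complex.normSq (eps m - 1) < 1 := eps_sub_one_normSq_lt hm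
  have hcomm := commute_conj_of_two_eig_scalar U hinj hbj hε hε1 hUz hI
  have hne : eps m ≠ 1 := by
    intro h
    have := heps.eq_orderOf
    rw [h, orderOf_one] at this
    omega
  have hz1 : g ^ j ≠ 1 := by
    intro h
    rw [h, map_one] at hUz
    -- multiply by E and by 1 - E
    have h1 : E = (b ^ j * eps m) • E := by
      have hk : (1 + (eps m - 1) • E) * E = eps m • E := by
        rw [Matrix.add_mul, Matrix.one_mul, Matrix.smul_mul, hI, sub_smul, one_smul]; abel
      calc E = 1 * E := (Matrix.one_mul _).symm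
        _ = (b ^ j • (1 + (eps m - 1) • E)) * E := by rw [← hUz]
        _ = (b ^ j * eps m) • E := by rw [Matrix.smul_mul, hk, smul_smul]
    have h2 : (1 - E) = b ^ j • (1 - E) := by
      have hk : (1 + (eps m - 1) • E) * (1 - E) = 1 - E := by
        rw [Matrix.add_mul, Matrix.one_mul, Matrix.smul_mul, Matrix.mul_sub, Matrix.mul_one, hI,
          sub_self, smul_zero, add_zero]
      calc (1 - E) = 1 * (1 - E) := (Matrix.one_mul _).symm
        _ = (b ^ j • (1 + (eps m - 1) • E)) * (1 - E) := by rw [← hUz]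
        _ = b ^ j • (1 - E) := by rw [Matrix.smul_mul, hk]
    have h3 := smul_eq_self_imp hE0 h1
    have h4 := smul_eq_self_imp (sub_ne_zero.mpr (Ne.symm hE1)) h2
    rw [h4, one_mul] at h3
    exact hne h3
  exact false_of_commute_conj hna hz1 hcomm

theorem two_eig_coeffs {E : Matrix ι ι ℂ} (hI : E * E = E) (hE0 : E ≠ 0) (hE1 : E ≠ 1)
    {a b : ℂ} (h : a • E + b • (1 - E) = 1) : a = 1 ∧ b = 1 := by
  have h1 : E * (1 - E) = 0 := by rw [Matrix.mul_sub, Matrix.mul_one, hI, sub_self]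
  have h2 : (1 - E) * E = 0 := by rw [Matrix.sub_mul, Matrix.one_mul, hI, sub_self]
  have h3 : (1 - E) * (1 - E) = 1 - E := by
    rw [Matrix.mul_sub, Matrix.mul_one, h2, sub_zero]
  constructor
  · have : E = a • E := by
      calc E = 1 * E := (Matrix.one_mul _).symm
        _ = (a • E + b • (1 - E)) * E := by rw [h]
        _ = a • E := by
          rw [Matrix.add_mul, Matrix.smul_mul, Matrix.smul_mul, hI, h2, smul_zero, add_zero]
    exact smul_eq_self_imp hE0 this
  · have : (1 - E) = b • (1 - E) := by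
      calc (1 - E) = 1 * (1 - E) := (Matrix.one_mul _).symm
        _ = (a • E + b • (1 - E)) * (1 - E) := by rw [h]
        _ = b • (1 - E) := by
          rw [Matrix.add_mul, Matrix.smul_mul, Matrix.smul_mul, h1, h3, smul_zero, zero_add]
    exact smul_eq_self_imp (sub_ne_zero.mpr (Ne.symm hE1)) this

/-- **(B1)**: a nontrivial element all of whose nontrivial order divisors are `≥ 7` (e.g. of prime
order `≥ 7`, or of order `25`) cannot act with at most two eigenvalues. -/
theorem false_of_two_eig_order {G : Type*} [Group G] [Finite G] [IsSimpleGroup G]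
    (hna : ∃ x y : G, x * y ≠ y * x)
    (U : G →* Matrix ι ι ℂ) (hinj : Function.Injective U)
    {g : G} {a b : ℂ} {E : Matrix ι ι ℂ} (hI : E * E = E) (hE0 : E ≠ 0) (hE1 : E ≠ 1)
    (hg : U g = a • E + b • (1 - E)) (hg1 : g ≠ 1)
    (hord : ∀ d : ℕ, d ∣ orderOf g → d ≠ 1 → 7 ≤ d) : False := by
  obtain ⟨N, hNdef⟩ : ∃ N : ℕ, N = orderOf g := ⟨_, rfl⟩
  have hN0 : N ≠ 0 := by rw [hNdef]; exact (orderOf_pos g).ne'
  have h1 : a ^ N • E + b ^ N • (1 - E) = 1 := by
    rw [← two_eig_pow hI, ← hg, ← map_pow, hNdef, pow_orderOf_eq_one, map_one]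
  obtain ⟨haN, hbN⟩ := two_eig_coeffs hI hE0 hE1 h1
  have hb : b ≠ 0 := by
    intro h
    rw [h, zero_pow hN0] at hbN
    exact zero_ne_one hbN
  have hrN : (a / b) ^ N = 1 := by rw [div_pow, haN, hbN, div_one]
  obtain ⟨m, hmdef⟩ : ∃ m : ℕ, m = orderOf (a / b) := ⟨_, rfl⟩
  have hmN : m ∣ orderOf g := by
    rw [hmdef, ← hNdef]; exact orderOf_dvd_of_pow_eq_one hrN
  have hprim : IsPrimitiveRoot (a / b) m := by rw [hmdef]; exact IsPrimitiveRoot.orderOf _
  by_cases hm1 : m = 1
  · have hr1 : a / b = 1 := by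
      rw [hm1] at hprim
      exact IsPrimitiveRoot.one_right_iff.mp hprim
    have hab : a = b := by
      field_simp at hr1
      exact hr1
    have hsc : U g = b • 1 := by
      rw [hg, hab, ← smul_add]
      congr 1
      abel
    exact false_of_commute_conj hna hg1 (fun h => commute_of_scalar U hinj hsc _)
  · exact false_of_two_eig hna U hinj hI hE0 hE1 hg (hord m hmN hm1) hprim

end Cfsg.Agent.Lib.Helper9.Lg
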