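import Mathlib
import Mathlib
import Cfsg.Agent.Lib.Helper9.LgD
import Cfsg.Agent.Lib.Helper9.LgE
import Cfsg.Agent.Lib.Helper9.LgM

set_option autoImplicit false
set_option linter.unusedSectionVars false
set_option linter.unusedVariables false
set_option linter.style.longLine false
set_option linter.unusedSimpArgs false

set_option maxHeartbeats 1600000
namespace Cfsg.Agent.Lib.Helper9.Lg
open Matrix

variable {ι : Type*} [Fintype ι] [DecidableEq ι]

theorem trace_mul_eproj {p : ℕ} {ε : ℂ} {A T : Matrix ι ι ℂ} (j : ℕ)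
    (h : ∀ i : ℕ, (T * A ^ i).trace = 0) : (T * eproj p ε A j).trace = 0 := by
  unfold eproj
  rw [Matrix.mul_smul, Matrix.trace_smul, Finset.mul_sum, Matrix.trace_sum]
  rw [Finset.sum_eq_zero, smul_zero]
  intro i _
  rw [smul_pow, Matrix.mul_smul, Matrix.trace_smul, h i, smul_zero]

theorem exists_trace_eq_two_mul {P T : Matrix ι ι ℂ} (hP : P * P = P) (hT : T * T = 1)
    (hc : T * P = P * T) (htr : (T * P).trace = 0) : ∃ r : ℕ, P.trace = 2 * (r : ℂ) := by
  obtain ⟨Q, hQ⟩ : ∃ Q : Matrix ι ι ℂ, Q = (2⁻¹ : ℂ) • (P + T * P) := ⟨_, rfl⟩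
  have e1 : P * (T * P) = T * P := by
    rw [← Matrix.mul_assoc, ← hc, Matrix.mul_assoc, hP]
  have e2 : T * P * P = T * P := by rw [Matrix.mul_assoc, hP]
  have e3 : T * P * (T * P) = P := by
    rw [Matrix.mul_assoc, e1, ← Matrix.mul_assoc, hT, Matrix.one_mul]
  have hQI : Q * Q = Q := by
    rw [hQ]
    simp only [Matrix.smul_mul, Matrix.mul_smul, Matrix.add_mul, Matrix.mul_add, smul_smul, hP, e1,
      e2, e3]
    module
  refine ⟨Q.rank, ?_⟩
  rw [← trace_eq_rank hQI, hQ, Matrix.trace_smul, Matrix.trace_add, htr, add_zero, smul_eq_mul]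
  ring

theorem eq_zero_of_idem_trace {P : Matrix ι ι ℂ} (hP : P * P = P) (h : P.trace = 0) : P = 0 := by
  apply rank_eq_zero_of_idem hP
  rw [trace_eq_rank hP] at h
  exact_mod_cast h

/-- **(A), matrix form.**  In degree `4`, if `t` is an involution commuting with `x` and the
character vanishes on the coset `t ⟨x⟩`, then `x` acts with at most two eigenvalues, each on an
idempotent of trace `2`. -/
theorem two_eig_of_trace_zero {G : Type*} [Group G] [Finite G] (hcard : Fintype.card ι = 4)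
    (U : G →* Matrix ι ι ℂ) {t x : G} (ht : t * t = 1) (htx : t * x = x * t)
    (htr : ∀ k : ℕ, (U (t * x ^ k)).trace = 0) :
    ∃ (a b : ℂ) (E : Matrix ι ι ℂ), E * E = E ∧ E.trace = 2 ∧ E ≠ 0 ∧ E ≠ 1 ∧
      U x = a • E + b • (1 - E) := by
  have htr1 : (1 : Matrix ι ι ℂ).trace = 4 := by
    rw [Matrix.trace_one, hcard]; norm_num
  have key : ∀ E : Matrix ι ι ℂ, E.trace = 2 → E ≠ 0 ∧ E ≠ 1 := by
    intro E hE
    constructor
    · intro h
      rw [h, Matrix.trace_zero] at hE
      norm_num at hE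
    · intro h
      rw [h, htr1] at hE
      norm_num at hE
  suffices h : ∃ (a b : ℂ) (E : Matrix ι ι ℂ), E * E = E ∧ E.trace = 2 ∧
      U x = a • E + b • (1 - E) by
    obtain ⟨a, b, E, h1, h2, h3⟩ := h
    exact ⟨a, b, E, h1, h2, (key E h2).1, (key E h2).2, h3⟩
  obtain ⟨N, hNdef⟩ : ∃ N : ℕ, N = orderOf x := ⟨_, rfl⟩
  have hN : 0 < N := by rw [hNdef]; exact orderOf_pos x
  obtain ⟨ε, hεdef⟩ : ∃ ε : ℂ, ε = eps N := ⟨_, rfl⟩
  have hε : IsPrimitiveRoot ε N := by rw [hεdef]; exact eps_isPrimitiveRoot hN.ne'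
  obtain ⟨A, hAdef⟩ : ∃ A : Matrix ι ι ℂ, A = U x := ⟨_, rfl⟩
  obtain ⟨T, hTdef⟩ : ∃ T : Matrix ι ι ℂ, T = U t := ⟨_, rfl⟩
  have hA : A ^ N = 1 := by rw [hAdef, ← map_pow, hNdef, pow_orderOf_eq_one, map_one]
  have hT : T * T = 1 := by rw [hTdef, ← map_mul, ht, map_one]
  have hTA : Commute T A := by
    show T * A = A * T
    rw [hTdef, hAdef, ← map_mul, ← map_mul, htx]
  have htr' : ∀ i : ℕ, (T * A ^ i).trace = 0 := by
    intro i
    rw [hTdef, hAdef, ← map_pow, ← map_mul]
    exact htr i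
  have htrT : T.trace = 0 := by
    have := htr' 0
    rwa [pow_zero, Matrix.mul_one] at this
  obtain ⟨P, hPdef⟩ : ∃ P : ℕ → Matrix ι ι ℂ, P = fun j => eproj N ε A j := ⟨_, rfl⟩
  have hPI : ∀ j, P j * P j = P j := by
    intro j; rw [hPdef]; exact eproj_idem hN hε hA j
  have hPorth : ∀ j k, j < N → k < N → j ≠ k → P j * P k = 0 := by
    intro j k hj hk hjk; rw [hPdef]; exact eproj_mul_eq_zero hN hε hA hj hk hjk
  have hPsum : ∑ j ∈ Finset.range N, P j = 1 := by
    rw [hPdef]; exact sum_eproj hN hε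
  have hAP : ∀ j, A * P j = (ε ^ j) • P j := by
    intro j; rw [hPdef]; exact mul_eproj hN hε hA j
  have hTP : ∀ j, T * P j = P j * T := by
    intro j; rw [hPdef]; exact (commute_eproj hTA j).eq
  have htrP : ∀ j, (T * P j).trace = 0 := by
    intro j; rw [hPdef]; exact trace_mul_eproj j htr'
  have hex : ∀ j, ∃ r : ℕ, (P j).trace = 2 * (r : ℂ) := fun j =>
    exists_trace_eq_two_mul (hPI j) hT (hTP j) (htrP j)
  choose r hr using hex
  have hzero : ∀ j, r j = 0 → P j = 0 := by
    intro j hj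
    apply eq_zero_of_idem_trace (hPI j)
    rw [hr j, hj]; simp
  have hsum : ∑ j ∈ Finset.range N, r j = 2 := by
    have h1 := congrArg Matrix.trace hPsum
    rw [Matrix.trace_sum, htr1] at h1
    have h2 : ∑ j ∈ Finset.range N, (P j).trace = 2 * ((∑ j ∈ Finset.range N, r j : ℕ) : ℂ) := by
      rw [Nat.cast_sum, Finset.mul_sum]
      exact Finset.sum_congr rfl fun j _ => hr j
    rw [h2] at h1
    have h3 : ((∑ j ∈ Finset.range N, r j : ℕ) : ℂ) = 2 := by linear_combination h1 / 2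
    exact_mod_cast h3
  -- a nonzero term
  obtain ⟨j1, hj1, hrj1⟩ : ∃ j ∈ Finset.range N, r j ≠ 0 := by
    by_contra hcon
    push Not at hcon
    rw [Finset.sum_eq_zero hcon] at hsum
    omega
  have hsplit := Finset.add_sum_erase (Finset.range N) r hj1
  rw [hsum] at hsplit
  have hsplitP := Finset.add_sum_erase (Finset.range N) P hj1
  rw [hPsum] at hsplitP
  have hsplitAP : A = ε ^ j1 • P j1 + A * ∑ j ∈ (Finset.range N).erase j1, P j := by
    calc A = A * 1 := (Matrix.mul_one A).symm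
      _ = A * (P j1 + ∑ j ∈ (Finset.range N).erase j1, P j) := by rw [hsplitP]
      _ = _ := by rw [Matrix.mul_add, hAP]
  by_cases hc2 : r j1 = 2
  · -- everything else vanishes
    have hrest : ∑ j ∈ (Finset.range N).erase j1, r j = 0 := by omega
    have hrest' : ∀ j ∈ (Finset.range N).erase j1, P j = 0 := by
      intro j hj
      exact hzero j ((Finset.sum_eq_zero_iff.mp hrest) j hj)
    rw [Finset.sum_eq_zero hrest', add_zero] at hsplitP
    rw [Finset.sum_eq_zero hrest', Matrix.mul_zero, add_zero, hsplitP] at hsplitAP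
    obtain ⟨E, hEdef⟩ : ∃ E : Matrix ι ι ℂ, E = (2⁻¹ : ℂ) • (1 + T) := ⟨_, rfl⟩
    refine ⟨ε ^ j1, ε ^ j1, E, ?_, ?_, ?_⟩
    · rw [hEdef]
      simp only [Matrix.smul_mul, Matrix.mul_smul, Matrix.add_mul, Matrix.mul_add, Matrix.one_mul,
        Matrix.mul_one, hT, smul_smul]
      module
    · rw [hEdef, Matrix.trace_smul, Matrix.trace_add, htrT, htr1]
      norm_num
    · rw [← hAdef, hsplitAP, ← smul_add]
      congr 1
      abel
  · have hc1 : r j1 = 1 := by omega
    have hrest : ∑ j ∈ (Finset.range N).erase j1, r j = 1 := by omega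
    obtain ⟨j2, hj2, hrj2⟩ : ∃ j ∈ (Finset.range N).erase j1, r j ≠ 0 := by
      by_contra hcon
      push Not at hcon
      rw [Finset.sum_eq_zero hcon] at hrest
      omega
    have hsplit2 := Finset.add_sum_erase ((Finset.range N).erase j1) r hj2
    rw [hrest] at hsplit2
    have hrest2 : ∑ j ∈ ((Finset.range N).erase j1).erase j2, r j = 0 := by omega
    have hrest2' : ∀ j ∈ ((Finset.range N).erase j1).erase j2, P j = 0 := by
      intro j hj
      exact hzero j ((Finset.sum_eq_zero_iff.mp hrest2) j hj)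
    have hsplitP2 := Finset.add_sum_erase ((Finset.range N).erase j1) P hj2
    rw [Finset.sum_eq_zero hrest2', add_zero] at hsplitP2
    rw [← hsplitP2] at hsplitP hsplitAP
    refine ⟨ε ^ j1, ε ^ j2, P j1, hPI j1, ?_, ?_⟩
    · rw [hr j1, hc1]; norm_num
    · have : (1 : Matrix ι ι ℂ) - P j1 = P j2 := by rw [← hsplitP]; abel
      rw [this, ← hAP j2, ← hAdef]
      exact hsplitAP

/-- **(A) + (B1).**  In a simple nonabelian group with a faithful matrix representation of
degree `4` whose character vanishes on `t ⟨x⟩` (`t` an involution commuting with `x`), the element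
`x ≠ 1` cannot have all its nontrivial order divisors `≥ 7`. -/
theorem false_of_invol_commute {G : Type*} [Group G] [Finite G] [IsSimpleGroup G]
    (hna : ∃ x y : G, x * y ≠ y * x) (hcard : Fintype.card ι = 4)
    (U : G →* Matrix ι ι ℂ) (hinj : Function.Injective U)
    {t x : G} (ht : t * t = 1) (htx : t * x = x * t)
    (htr : ∀ k : ℕ, (U (t * x ^ k)).trace = 0) (hx1 : x ≠ 1)
    (hord : ∀ d : ℕ, d ∣ orderOf x → d ≠ 1 → 7 ≤ d) : False := by
  obtain ⟨a, b, E, hI, _, hE0, hE1, hx⟩ := two_eig_of_trace_zero hcard U ht htx htr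
  exact false_of_two_eig_order hna U hinj hI hE0 hE1 hx hx1 hord

end Cfsg.Agent.Lib.Helper9.Lg
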