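import Mathlib
import Mathlib
import Cfsg.Prelude.Def_Characters
import Cfsg.Agent.Lib.Helper9.LgN

set_option autoImplicit false
set_option linter.unusedSectionVars false
set_option linter.unusedVariables false
set_option linter.style.longLine false
set_option linter.unusedSimpArgs false

set_option maxHeartbeats 1600000
namespace Cfsg.Agent.Lib.Helper9.Lg
open Matrix

variable {ι : Type*} [Fintype ι] [DecidableEq ι]

/-- a faithful character gives an injective matrix homomorphism with that trace -/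
theorem exists_matrix_hom {G : Type*} [Group G] {χ : G → ℂ} (hχ : Cfsg.IsCharacter G χ)
    (hfaith : ∀ g : G, χ g = χ 1 → g = 1) :
    ∃ (n : ℕ) (M : G →* Matrix (Fin n) (Fin n) ℂ), Function.Injective M ∧
      ∀ g, (M g).trace = χ g := by
  obtain ⟨n, ρ, hρ⟩ := hχ
  let M : G →* Matrix (Fin n) (Fin n) ℂ :=
    { toFun := fun g => LinearMap.toMatrix' (ρ g)
      map_one' := by rw [map_one]; exact LinearMap.toMatrix'_one
      map_mul' := by intro g h; rw [map_mul]; exact LinearMap.toMatrix'_mul _ _ }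
  have hM : ∀ g, M g = LinearMap.toMatrix' (ρ g) := fun g => rfl
  have htr : ∀ g, (M g).trace = χ g := by
    intro g
    rw [← hρ, hM]
    show _ = LinearMap.trace ℂ _ (ρ g)
    conv_rhs => rw [← Matrix.toLin'_toMatrix' (ρ g)]
    rw [Matrix.trace_toLin'_eq]
  refine ⟨n, M, ?_, htr⟩
  rw [injective_iff_map_eq_one]
  intro g hg
  apply hfaith
  rw [← htr g, ← htr 1, hg, map_one]

/-- in a simple nonabelian group, an element acting as a scalar is trivial -/
theorem eq_one_of_scalar {G : Type*} [Group G] [IsSimpleGroup G]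
    (hna : ∃ x y : G, x * y ≠ y * x) (U : G →* Matrix ι ι ℂ) (hinj : Function.Injective U)
    {z : G} {c : ℂ} (hz : U z = c • 1) : z = 1 := by
  by_contra hz1
  exact false_of_commute_conj hna hz1 (fun h => commute_of_scalar U hinj hz _)

/-- **(L1)**: an element with at most two eigenvalues has order at most `6`. -/
theorem orderOf_le_six_of_two_eig {G : Type*} [Group G] [Finite G] [IsSimpleGroup G]
    (hna : ∃ x y : G, x * y ≠ y * x)
    (U : G →* Matrix ι ι ℂ) (hinj : Function.Injective U)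
    {x : G} {a b : ℂ} {E : Matrix ι ι ℂ} (hI : E * E = E)
    (hx : U x = a • E + b • (1 - E)) : orderOf x ≤ 6 := by
  by_cases hE0 : E = 0
  · have : x = 1 := by
      refine eq_one_of_scalar hna U hinj (c := b) ?_
      rw [hx, hE0]; simp
    rw [this, orderOf_one]; norm_num
  by_cases hE1 : E = 1
  · have : x = 1 := by
      refine eq_one_of_scalar hna U hinj (c := a) ?_
      rw [hx, hE1]; simp
    rw [this, orderOf_one]; norm_num
  by_contra hcon
  push Not at hcon
  obtain ⟨N, hNdef⟩ : ∃ N : ℕ, N = orderOf x := ⟨_, rfl⟩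
  rw [← hNdef] at hcon
  have hN0 : N ≠ 0 := by omega
  have h1 : a ^ N • E + b ^ N • (1 - E) = 1 := by
    rw [← two_eig_pow hI, ← hx, ← map_pow, hNdef, pow_orderOf_eq_one, map_one]
  obtain ⟨haN, hbN⟩ := two_eig_coeffs hI hE0 hE1 h1
  have hb : b ≠ 0 := by
    intro h
    rw [h, zero_pow hN0] at hbN
    exact zero_ne_one hbN
  have hrN : (a / b) ^ N = 1 := by rw [div_pow, haN, hbN, div_one]
  obtain ⟨m, hmdef⟩ : ∃ m : ℕ, m = orderOf (a / b) := ⟨_, rfl⟩
  have hmN : m ∣ N := by rw [hmdef]; exact orderOf_dvd_of_pow_eq_one hrN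
  have hprim : IsPrimitiveRoot (a / b) m := by rw [hmdef]; exact IsPrimitiveRoot.orderOf _
  have habm : a ^ m = b ^ m := by
    have := hprim.pow_eq_one
    rw [div_pow] at this
    have hbm : b ^ m ≠ 0 := pow_ne_zero _ hb
    field_simp at this
    exact this
  have hxm : x ^ m = 1 := by
    refine eq_one_of_scalar hna U hinj (c := b ^ m) ?_
    rw [map_pow, hx, two_eig_pow hI, habm, ← smul_add]
    congr 1
    abel
  have hNm : N ∣ m := by rw [hNdef]; exact orderOf_dvd_of_pow_eq_one hxm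
  have hmeq : m = N := Nat.dvd_antisymm hmN hNm
  rw [hmeq] at hprim
  exact false_of_two_eig hna U hinj hI hE0 hE1 hx hcon hprim

theorem two_dvd_orderOf_mul_pow {G : Type*} [Group G] [Finite G] {x t : G}
    (ht : orderOf t = 2) (hxt : x * t = t * x) (hodd : Odd (orderOf x)) (k : ℕ) :
    2 ∣ orderOf (t * x ^ k) := by
  have hc : Commute t (x ^ k) := (Commute.pow_right (show Commute t x from hxt.symm) k)
  have hdvd : orderOf (x ^ k) ∣ orderOf x := orderOf_pow_dvd k
  have hoddk : Odd (orderOf (x ^ k)) := by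
    obtain ⟨c, hc⟩ := hdvd
    rw [hc] at hodd
    exact (Nat.odd_mul.mp hodd).1
  have hcop : Nat.Coprime (orderOf t) (orderOf (x ^ k)) := by
    rw [ht]
    exact (Nat.coprime_two_left).mpr hoddk
  rw [hc.orderOf_mul_eq_mul_orderOf_of_coprime hcop, ht]
  exact Dvd.intro _ rfl

theorem two_eig_of_commute_involution {G : Type*} [Group G] [Finite G] [IsSimpleGroup G]
    (hna : ∃ x y : G, x * y ≠ y * x) {χ : G → ℂ} (hχ : Cfsg.IsCharacter G χ) (hdeg : χ 1 = 4)
    (hfaith : ∀ g : G, χ g = χ 1 → g = 1) (hvan : ∀ g : G, 2 ∣ orderOf g → χ g = 0)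
    {x t : G} (ht : orderOf t = 2) (hxt : x * t = t * x) (hodd : Odd (orderOf x)) :
    orderOf x ≤ 6 ∧ ∃ a b : ℂ, a ^ orderOf x = 1 ∧ b ^ orderOf x = 1 ∧ (a = b → x = 1) ∧
      ∀ k : ℕ, χ (x ^ k) = 2 * a ^ k + 2 * b ^ k := by
  obtain ⟨n, U, hinj, htr⟩ := exists_matrix_hom hχ hfaith
  have hn : Fintype.card (Fin n) = 4 := by
    have h1 := htr 1
    rw [map_one, Matrix.trace_one, hdeg] at h1
    exact_mod_cast h1
  have htr1 : (1 : Matrix (Fin n) (Fin n) ℂ).trace = 4 := by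
    rw [Matrix.trace_one, hn]; norm_num
  have htt : t * t = 1 := by
    have := pow_orderOf_eq_one t
    rw [ht, pow_two] at this
    exact this
  have hvan' : ∀ k : ℕ, (U (t * x ^ k)).trace = 0 := by
    intro k
    rw [htr]
    exact hvan _ (two_dvd_orderOf_mul_pow ht hxt hodd k)
  obtain ⟨a, b, E, hI, hEtr, hE0, hE1, hx⟩ := two_eig_of_trace_zero hn U htt hxt.symm hvan'
  refine ⟨orderOf_le_six_of_two_eig hna U hinj hI hx, a, b, ?_, ?_, ?_, ?_⟩
  · have h1 : a ^ orderOf x • E + b ^ orderOf x • (1 - E) = 1 := by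
      rw [← two_eig_pow hI, ← hx, ← map_pow, pow_orderOf_eq_one, map_one]
    exact (two_eig_coeffs hI hE0 hE1 h1).1
  · have h1 : a ^ orderOf x • E + b ^ orderOf x • (1 - E) = 1 := by
      rw [← two_eig_pow hI, ← hx, ← map_pow, pow_orderOf_eq_one, map_one]
    exact (two_eig_coeffs hI hE0 hE1 h1).2
  · intro hab
    refine eq_one_of_scalar hna U hinj (c := b) ?_
    rw [hx, hab, ← smul_add]
    congr 1
    abel
  · intro k
    rw [← htr, map_pow, hx, two_eig_pow hI, Matrix.trace_add, Matrix.trace_smul, Matrix.trace_smul,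
      Matrix.trace_sub, htr1, hEtr, smul_eq_mul, smul_eq_mul]
    ring

theorem geom_sum_eq_zero_of_pow {w : ℂ} {q : ℕ} (hw : w ^ q = 1) (hw1 : w ≠ 1) :
    ∑ i ∈ Finset.range q, w ^ i = 0 := by
  have h := geom_sum_mul w q
  rw [hw, sub_self] at h
  rcases mul_eq_zero.mp h with h | h
  · exact h
  · exact absurd (sub_eq_zero.mp h) hw1

theorem trace_eproj_eq {p : ℕ} {ε : ℂ} {A : Matrix ι ι ℂ} (j : ℕ) :
    (eproj p ε A j).trace = (p : ℂ)⁻¹ * ∑ i ∈ Finset.range p, ((ε ^ j)⁻¹) ^ i * (A ^ i).trace := by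
  unfold eproj
  rw [Matrix.trace_smul, Matrix.trace_sum, smul_eq_mul]
  congr 1
  refine Finset.sum_congr rfl fun i _ => ?_
  rw [smul_pow, Matrix.trace_smul, smul_eq_mul]

theorem orderOf_le_six_of_values {G : Type*} [Group G] [Finite G] [IsSimpleGroup G]
    (hna : ∃ x y : G, x * y ≠ y * x) {χ : G → ℂ} (hχ : Cfsg.IsCharacter G χ)
    (hfaith : ∀ g : G, χ g = χ 1 → g = 1) {x : G} {a b : ℂ} (c₁ c₂ : ℕ)
    (ha : a ^ orderOf x = 1) (hb : b ^ orderOf x = 1)
    (hval : ∀ k : ℕ, χ (x ^ k) = c₁ * a ^ k + c₂ * b ^ k) : orderOf x ≤ 6 := by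
  obtain ⟨n, U, hinj, htr⟩ := exists_matrix_hom hχ hfaith
  obtain ⟨q, hqdef⟩ : ∃ q : ℕ, q = orderOf x := ⟨_, rfl⟩
  rw [← hqdef] at ha hb ⊢
  have hq : 0 < q := by rw [hqdef]; exact orderOf_pos x
  haveI : NeZero q := ⟨hq.ne'⟩
  obtain ⟨ε, hεdef⟩ : ∃ ε : ℂ, ε = eps q := ⟨_, rfl⟩
  have hε : IsPrimitiveRoot ε q := by rw [hεdef]; exact eps_isPrimitiveRoot hq.ne'
  obtain ⟨A, hAdef⟩ : ∃ A : Matrix (Fin n) (Fin n) ℂ, A = U x := ⟨_, rfl⟩
  have hA : A ^ q = 1 := by rw [hAdef, ← map_pow, hqdef, pow_orderOf_eq_one, map_one]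
  have hAtr : ∀ i : ℕ, (A ^ i).trace = c₁ * a ^ i + c₂ * b ^ i := by
    intro i
    rw [hAdef, ← map_pow, htr, hval]
  obtain ⟨P, hPdef⟩ : ∃ P : ℕ → Matrix (Fin n) (Fin n) ℂ, P = fun j => eproj q ε A j := ⟨_, rfl⟩
  have hPI : ∀ j, P j * P j = P j := by
    intro j; rw [hPdef]; exact eproj_idem hq hε hA j
  have hPsum : ∑ j ∈ Finset.range q, P j = 1 := by
    rw [hPdef]; exact sum_eproj hq hε
  have hAP : ∀ j, A * P j = (ε ^ j) • P j := by
    intro j; rw [hPdef]; exact mul_eproj hq hε hA j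
  obtain ⟨ja, hja, hεa⟩ := hε.eq_pow_of_pow_eq_one ha
  obtain ⟨jb, hjb, hεb⟩ := hε.eq_pow_of_pow_eq_one hb
  have hzero : ∀ j, j < q → j ≠ ja → j ≠ jb → P j = 0 := by
    intro j hj hja' hjb'
    apply eq_zero_of_idem_trace (hPI j)
    have hεj : ε ^ j ≠ 0 := pow_ne_zero _ (hε.ne_zero hq.ne')
    have hwa : ((ε ^ j)⁻¹ * a) ^ q = 1 := by
      rw [mul_pow, inv_pow, ← pow_mul, mul_comm j q, pow_mul, hε.pow_eq_one, one_pow, ha]; simp
    have hwb : ((ε ^ j)⁻¹ * b) ^ q = 1 := by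
      rw [mul_pow, inv_pow, ← pow_mul, mul_comm j q, pow_mul, hε.pow_eq_one, one_pow, hb]; simp
    have hwa1 : (ε ^ j)⁻¹ * a ≠ 1 := by
      intro h
      apply hja'
      apply hε.pow_inj hj hja
      rw [hεa]
      field_simp at h
      exact h.symm
    have hwb1 : (ε ^ j)⁻¹ * b ≠ 1 := by
      intro h
      apply hjb'
      apply hε.pow_inj hj hjb
      rw [hεb]
      field_simp at h
      exact h.symm
    rw [hPdef]
    show (eproj q ε A j).trace = 0
    rw [trace_eproj_eq]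
    have : ∑ i ∈ Finset.range q, ((ε ^ j)⁻¹) ^ i * (A ^ i).trace
        = c₁ * ∑ i ∈ Finset.range q, ((ε ^ j)⁻¹ * a) ^ i
          + c₂ * ∑ i ∈ Finset.range q, ((ε ^ j)⁻¹ * b) ^ i := by
      rw [Finset.mul_sum, Finset.mul_sum, ← Finset.sum_add_distrib]
      refine Finset.sum_congr rfl fun i _ => ?_
      rw [hAtr, mul_pow, mul_pow]
      ring
    rw [this, geom_sum_eq_zero_of_pow hwa hwa1, geom_sum_eq_zero_of_pow hwb hwb1]
    simp
  have hja' : ja ∈ Finset.range q := Finset.mem_range.mpr hja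
  have hsplitP := Finset.add_sum_erase (Finset.range q) P hja'
  rw [hPsum] at hsplitP
  by_cases hab : ja = jb
  · have hrest : ∀ j ∈ (Finset.range q).erase ja, P j = 0 := by
      intro j hj
      rw [Finset.mem_erase, Finset.mem_range] at hj
      exact hzero j hj.2 hj.1 (by rw [← hab]; exact hj.1)
    rw [Finset.sum_eq_zero hrest, add_zero] at hsplitP
    have hx1 : x = 1 := by
      refine eq_one_of_scalar hna U hinj (c := ε ^ ja) ?_
      rw [← hAdef]
      calc A = A * P ja := by rw [hsplitP, Matrix.mul_one]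
        _ = ε ^ ja • 1 := by rw [hAP, hsplitP]
    have : q = 1 := by rw [hqdef, hx1, orderOf_one]
    omega
  · have hjb' : jb ∈ (Finset.range q).erase ja := by
      rw [Finset.mem_erase, Finset.mem_range]
      exact ⟨fun h => hab h.symm, hjb⟩
    have hsplitP2 := Finset.add_sum_erase ((Finset.range q).erase ja) P hjb'
    have hrest : ∀ j ∈ ((Finset.range q).erase ja).erase jb, P j = 0 := by
      intro j hj
      rw [Finset.mem_erase, Finset.mem_erase, Finset.mem_range] at hj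
      exact hzero j hj.2.2 hj.2.1 hj.1
    rw [Finset.sum_eq_zero hrest, add_zero] at hsplitP2
    rw [← hsplitP2] at hsplitP
    have h1 : (1 : Matrix (Fin n) (Fin n) ℂ) - P ja = P jb := by rw [← hsplitP]; abel
    have hx : U x = a • P ja + b • (1 - P ja) := by
      rw [h1, ← hAdef, ← hεa, ← hεb, ← hAP, ← hAP, ← Matrix.mul_add, hsplitP, Matrix.mul_one]
    rw [hqdef]
    exact orderOf_le_six_of_two_eig hna U hinj (hPI ja) hx

end Cfsg.Agent.Lib.Helper9.Lg
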