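import Mathlib
import Mathlib
import Cfsg.Prelude.Def_Characters
import Cfsg.Agent.Lib.Helper9.LgO

set_option autoImplicit false
set_option linter.unusedSectionVars false
set_option linter.unusedVariables false
set_option linter.style.longLine false
set_option linter.unusedSimpArgs false

set_option maxHeartbeats 1600000
namespace Cfsg.Agent.Lib.Helper9.Lg
open Matrix

variable {ι : Type*} [Fintype ι] [DecidableEq ι]

/-- From the values `c₁ a^k + c₂ b^k` (with `a ≠ b`) on the powers of `x`, the matrix of `x` is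
`a E + b (1 - E)` with `E` an idempotent of trace `c₁`. -/
theorem exists_idem_of_values {G : Type*} [Group G] [Finite G]
    (U : G →* Matrix ι ι ℂ) {x : G} {a b : ℂ} (c₁ c₂ : ℕ)
    (ha : a ^ orderOf x = 1) (hb : b ^ orderOf x = 1) (hab : a ≠ b)
    (hval : ∀ k : ℕ, (U (x ^ k)).trace = c₁ * a ^ k + c₂ * b ^ k) :
    ∃ E : Matrix ι ι ℂ, E * E = E ∧ E.trace = c₁ ∧ U x = a • E + b • (1 - E) := by
  obtain ⟨q, hqdef⟩ : ∃ q : ℕ, q = orderOf x := ⟨_, rfl⟩
  rw [← hqdef] at ha hb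
  have hq : 0 < q := by rw [hqdef]; exact orderOf_pos x
  haveI : NeZero q := ⟨hq.ne'⟩
  obtain ⟨ε, hεdef⟩ : ∃ ε : ℂ, ε = eps q := ⟨_, rfl⟩
  have hε : IsPrimitiveRoot ε q := by rw [hεdef]; exact eps_isPrimitiveRoot hq.ne'
  obtain ⟨A, hAdef⟩ : ∃ A : Matrix ι ι ℂ, A = U x := ⟨_, rfl⟩
  have hA : A ^ q = 1 := by rw [hAdef, ← map_pow, hqdef, pow_orderOf_eq_one, map_one]
  have hAtr : ∀ i : ℕ, (A ^ i).trace = c₁ * a ^ i + c₂ * b ^ i := by
    intro i
    rw [hAdef, ← map_pow, hval]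
  obtain ⟨P, hPdef⟩ : ∃ P : ℕ → Matrix ι ι ℂ, P = fun j => eproj q ε A j := ⟨_, rfl⟩
  have hPI : ∀ j, P j * P j = P j := by
    intro j; rw [hPdef]; exact eproj_idem hq hε hA j
  have hPsum : ∑ j ∈ Finset.range q, P j = 1 := by
    rw [hPdef]; exact sum_eproj hq hε
  have hAP : ∀ j, A * P j = (ε ^ j) • P j := by
    intro j; rw [hPdef]; exact mul_eproj hq hε hA j
  obtain ⟨ja, hja, hεa⟩ := hε.eq_pow_of_pow_eq_one ha
  obtain ⟨jb, hjb, hεb⟩ := hε.eq_pow_of_pow_eq_one hb
  have hzero : ∀ j, j < q → j ≠ ja → j ≠ jb → P j = 0 := by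
    intro j hj hja' hjb'
    apply eq_zero_of_idem_trace (hPI j)
    have hεj : ε ^ j ≠ 0 := pow_ne_zero _ (hε.ne_zero hq.ne')
    have hwa : ((ε ^ j)⁻¹ * a) ^ q = 1 := by
      rw [mul_pow, inv_pow, ← pow_mul, mul_comm j q, pow_mul, hε.pow_eq_one, one_pow, ha]; simp
    have hwb : ((ε ^ j)⁻¹ * b) ^ q = 1 := by
      rw [mul_pow, inv_pow, ← pow_mul, mul_comm j q, pow_mul, hε.pow_eq_one, one_pow, hb]; simp
    have hwa1 : (ε ^ j)⁻¹ * a ≠ 1 := by
      intro h
      apply hja'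
      apply hε.pow_inj hj hja
      rw [hεa]
      field_simp at h
      exact h.symm
    have hwb1 : (ε ^ j)⁻¹ * b ≠ 1 := by
      intro h
      apply hjb'
      apply hε.pow_inj hj hjb
      rw [hεb]
      field_simp at h
      exact h.symm
    rw [hPdef]
    show (eproj q ε A j).trace = 0
    rw [trace_eproj_eq]
    have : ∑ i ∈ Finset.range q, ((ε ^ j)⁻¹) ^ i * (A ^ i).trace
        = c₁ * ∑ i ∈ Finset.range q, ((ε ^ j)⁻¹ * a) ^ i
          + c₂ * ∑ i ∈ Finset.range q, ((ε ^ j)⁻¹ * b) ^ i := by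
      rw [Finset.mul_sum, Finset.mul_sum, ← Finset.sum_add_distrib]
      refine Finset.sum_congr rfl fun i _ => ?_
      rw [hAtr, mul_pow, mul_pow]
      ring
    rw [this, geom_sum_eq_zero_of_pow hwa hwa1, geom_sum_eq_zero_of_pow hwb hwb1]
    simp
  have hja' : ja ∈ Finset.range q := Finset.mem_range.mpr hja
  have hsplitP := Finset.add_sum_erase (Finset.range q) P hja'
  rw [hPsum] at hsplitP
  have hjab : ja ≠ jb := by
    intro h
    apply hab
    rw [← hεa, ← hεb, h]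
  have hjb' : jb ∈ (Finset.range q).erase ja := by
    rw [Finset.mem_erase, Finset.mem_range]
    exact ⟨fun h => hjab h.symm, hjb⟩
  have hsplitP2 := Finset.add_sum_erase ((Finset.range q).erase ja) P hjb'
  have hrest : ∀ j ∈ ((Finset.range q).erase ja).erase jb, P j = 0 := by
    intro j hj
    rw [Finset.mem_erase, Finset.mem_erase, Finset.mem_range] at hj
    exact hzero j hj.2.2 hj.2.1 hj.1
  rw [Finset.sum_eq_zero hrest, add_zero] at hsplitP2
  rw [← hsplitP2] at hsplitP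
  have h1 : (1 : Matrix ι ι ℂ) - P ja = P jb := by rw [← hsplitP]; abel
  have hx : U x = a • P ja + b • (1 - P ja) := by
    rw [h1, ← hAdef, ← hεa, ← hεb, ← hAP, ← hAP, ← Matrix.mul_add, hsplitP, Matrix.mul_one]
  refine ⟨P ja, hPI ja, ?_, hx⟩
  -- the trace
  have h0 := hval 0
  have h1' := hval 1
  rw [pow_zero, map_one] at h0
  rw [pow_one, hx, Matrix.trace_add, Matrix.trace_smul, Matrix.trace_smul, Matrix.trace_sub, h0] at h1'
  simp only [pow_zero, mul_one, pow_one, smul_eq_mul] at h1'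
  have hne : a - b ≠ 0 := sub_ne_zero.mpr hab
  have : (a - b) * ((P ja).trace - c₁) = 0 := by linear_combination h1'
  rcases mul_eq_zero.mp this with h | h
  · exact absurd h hne
  · exact sub_eq_zero.mp h

end Cfsg.Agent.Lib.Helper9.Lg
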