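import Mathlib
import Mathlib
import Cfsg.Prelude.Def_Characters
import Cfsg.Agent.Lib.Helper9.LgP

set_option autoImplicit false
set_option linter.unusedSectionVars false
set_option linter.unusedVariables false
set_option linter.style.longLine false
set_option linter.unusedSimpArgs false

set_option maxHeartbeats 1600000
namespace Cfsg.Agent.Lib.Helper9.Lg
open Matrix

variable {ι : Type*} [Fintype ι] [DecidableEq ι]

theorem rank_eq_of_idem_trace {F : Matrix ι ι ℂ} (hF : F * F = F) {k : ℕ} (h : F.trace = k) :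
    F.rank = k := by
  rw [trace_eq_rank hF] at h
  exact_mod_cast h

theorem idem_mul_of_commute {E F : Matrix ι ι ℂ} (hE : E * E = E) (hF : F * F = F)
    (hc : Commute E F) : (E * F) * (E * F) = E * F := by
  calc E * F * (E * F) = E * (F * E) * F := by simp only [Matrix.mul_assoc]
    _ = E * (E * F) * F := by rw [hc.eq]
    _ = (E * E) * (F * F) := by simp only [Matrix.mul_assoc]
    _ = E * F := by rw [hE, hF]

theorem two_eig_mul_idem {E : Matrix ι ι ℂ} (hI : E * E = E) (a b : ℂ) :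
    (a • E + b • (1 - E)) * E = a • E := by
  rw [Matrix.add_mul, Matrix.smul_mul, Matrix.smul_mul, hI, Matrix.sub_mul, Matrix.one_mul, hI,
    sub_self, smul_zero, add_zero]

theorem idem_eq_of_two_eig {E X : Matrix ι ι ℂ} {a b : ℂ} (hab : a ≠ b)
    (hX : X = a • E + b • (1 - E)) : E = (a - b)⁻¹ • (X - b • 1) := by
  have hne : a - b ≠ 0 := sub_ne_zero.mpr hab
  have : X - b • 1 = (a - b) • E := by
    rw [hX, sub_smul, smul_sub]; abel
  rw [this, smul_smul, inv_mul_cancel₀ hne, one_smul]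

theorem commute_idem_of_commute {E X Y : Matrix ι ι ℂ} {a b : ℂ} (hab : a ≠ b)
    (hX : X = a • E + b • (1 - E)) (hc : Commute Y X) : Commute Y E := by
  rw [idem_eq_of_two_eig hab hX]
  exact (hc.sub_right (Commute.smul_right (Commute.one_right _) _)).smul_right _

theorem rank_add_le' (A B : Matrix ι ι ℂ) : (A + B).rank ≤ A.rank + B.rank := by
  unfold Matrix.rank
  have h1 : LinearMap.range (A + B).mulVecLin
      ≤ LinearMap.range A.mulVecLin ⊔ LinearMap.range B.mulVecLin := by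
    rintro _ ⟨v, rfl⟩
    rw [Matrix.mulVecLin_apply, Matrix.add_mulVec]
    exact Submodule.add_mem_sup ⟨v, rfl⟩ ⟨v, rfl⟩
  calc Module.finrank ℂ (LinearMap.range (A + B).mulVecLin)
      ≤ Module.finrank ℂ ↥(LinearMap.range A.mulVecLin ⊔ LinearMap.range B.mulVecLin) :=
        Submodule.finrank_mono h1
    _ ≤ _ := Submodule.finrank_add_le_finrank_add_finrank _ _

theorem two_eig_conj {G : Type*} [Group G] (U : G →* Matrix ι ι ℂ) {x : G} (g : G) {a b : ℂ}
    {E : Matrix ι ι ℂ} (hI : E * E = E) (hx : U x = a • E + b • (1 - E)) :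
    (U g * E * U g⁻¹) * (U g * E * U g⁻¹) = U g * E * U g⁻¹ ∧
      (U g * E * U g⁻¹).trace = E.trace ∧
      U (g * x * g⁻¹) = a • (U g * E * U g⁻¹) + b • (1 - U g * E * U g⁻¹) := by
  refine ⟨?_, trace_conj U g E, ?_⟩
  · rw [conj_mul, hI]
  · rw [map_mul, map_mul, hx]
    simp only [Matrix.mul_add, Matrix.add_mul, Matrix.mul_smul, Matrix.smul_mul, Matrix.mul_sub,
      Matrix.sub_mul, Matrix.mul_one, map_mul_inv]

/-- three commuting conjugates of an element of order `5` and type `(a,a,a,b)` in degree `4`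
cannot have product `1` -/
theorem false_of_three_conj {G : Type*} [Group G] (hcard : Fintype.card ι = 4)
    (U : G →* Matrix ι ι ℂ) {x x' x'' : G}
    (hconj' : ∃ w : G, x' = w * x * w⁻¹) (hconj'' : ∃ w : G, x'' = w * x * w⁻¹)
    (hprod : x * x' * x'' = 1)
    (hc1 : x * x' = x' * x) (hc2 : x * x'' = x'' * x) (hc3 : x' * x'' = x'' * x')
    (hx5 : x ^ 5 = 1) {a b : ℂ} (ha : a ^ 5 = 1) (hb : b ^ 5 = 1) (hab : a ≠ b)
    {E : Matrix ι ι ℂ} (hI : E * E = E) (htr : E.trace = 3)
    (hx : U x = a • E + b • (1 - E)) : False := by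
  obtain ⟨w₁, hw₁⟩ := hconj'
  obtain ⟨w₂, hw₂⟩ := hconj''
  have htr1 : (1 : Matrix ι ι ℂ).trace = 4 := by
    rw [Matrix.trace_one, hcard]; norm_num
  obtain ⟨X, hXdef⟩ : ∃ X : Matrix ι ι ℂ, X = U x := ⟨_, rfl⟩
  obtain ⟨X', hX'def⟩ : ∃ X' : Matrix ι ι ℂ, X' = U x' := ⟨_, rfl⟩
  obtain ⟨X'', hX''def⟩ : ∃ X'' : Matrix ι ι ℂ, X'' = U x'' := ⟨_, rfl⟩
  obtain ⟨E', hE'def⟩ : ∃ E' : Matrix ι ι ℂ, E' = U w₁ * E * U w₁⁻¹ := ⟨_, rfl⟩
  obtain ⟨E'', hE''def⟩ : ∃ E'' : Matrix ι ι ℂ, E'' = U w₂ * E * U w₂⁻¹ := ⟨_, rfl⟩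
  obtain ⟨hI', htr', hx'⟩ := two_eig_conj U w₁ hI hx
  obtain ⟨hI'', htr'', hx''⟩ := two_eig_conj U w₂ hI hx
  rw [← hE'def] at hI' htr' hx'
  rw [← hw₁, ← hX'def] at hx'
  rw [← hE''def] at hI'' htr'' hx''
  rw [← hw₂, ← hX''def] at hx''
  rw [htr] at htr' htr''
  rw [← hXdef] at hx
  -- commutation
  have hXX' : Commute X X' := by
    show X * X' = X' * X
    rw [hXdef, hX'def, ← map_mul, ← map_mul, hc1]
  have hXX'' : Commute X X'' := by
    show X * X'' = X'' * X
    rw [hXdef, hX''def, ← map_mul, ← map_mul, hc2]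
  have hX'X'' : Commute X' X'' := by
    show X' * X'' = X'' * X'
    rw [hX'def, hX''def, ← map_mul, ← map_mul, hc3]
  have hX'E : Commute X' E := commute_idem_of_commute hab hx hXX'.symm
  have hX''E : Commute X'' E := commute_idem_of_commute hab hx hXX''.symm
  have hX''E' : Commute X'' E' := commute_idem_of_commute hab hx' hX'X''.symm
  have hEE' : Commute E E' := (commute_idem_of_commute hab hx' hX'E.symm).symm.symm
  -- the product
  have hXE : X * E = a • E := by rw [hx]; exact two_eig_mul_idem hI a b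
  have hX'E' : X' * E' = a • E' := by rw [hx']; exact two_eig_mul_idem hI' a b
  have hX''E'' : X'' * E'' = a • E'' := by rw [hx'']; exact two_eig_mul_idem hI'' a b
  obtain ⟨Pr, hPrdef⟩ : ∃ Pr : Matrix ι ι ℂ, Pr = E * E' * E'' := ⟨_, rfl⟩
  have h1 : X * Pr = a • Pr := by
    rw [hPrdef, ← Matrix.mul_assoc, ← Matrix.mul_assoc, hXE]
    simp only [Matrix.smul_mul]
  have h2 : X' * Pr = a • Pr := by
    rw [hPrdef, ← Matrix.mul_assoc, ← Matrix.mul_assoc, hX'E.eq, Matrix.mul_assoc E X' E', hX'E']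
    simp only [Matrix.smul_mul, Matrix.mul_smul]
  have h3 : X'' * Pr = a • Pr := by
    rw [hPrdef, ← Matrix.mul_assoc, ← Matrix.mul_assoc, hX''E.eq, Matrix.mul_assoc E X'' E',
      hX''E'.eq, ← Matrix.mul_assoc, Matrix.mul_assoc (E * E') X'' E'', hX''E'']
    simp only [Matrix.smul_mul, Matrix.mul_smul]
  have hXXX : X * X' * X'' = 1 := by
    rw [hXdef, hX'def, hX''def, ← map_mul, ← map_mul, hprod, map_one]
  have h4 : Pr = (a ^ 3) • Pr := by
    calc Pr = (X * X' * X'') * Pr := by rw [hXXX, Matrix.one_mul]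
      _ = X * (X' * (X'' * Pr)) := by simp only [Matrix.mul_assoc]
      _ = (a ^ 3) • Pr := by
          rw [h3, Matrix.mul_smul, h2, Matrix.mul_smul, Matrix.mul_smul, h1, smul_smul, smul_smul]
          congr 1; ring
  -- Pr ≠ 0 by ranks
  have hF : ∀ {E₀ : Matrix ι ι ℂ}, E₀ * E₀ = E₀ → E₀.trace = 3 →
      (1 - E₀) * (1 - E₀) = 1 - E₀ ∧ (1 - E₀).rank = 1 := by
    intro E₀ h0 ht
    have hid : (1 - E₀) * (1 - E₀) = 1 - E₀ := by
      rw [Matrix.mul_sub, Matrix.mul_one, Matrix.sub_mul, Matrix.one_mul, h0, sub_self, sub_zero]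
    refine ⟨hid, ?_⟩
    apply rank_eq_of_idem_trace hid
    rw [Matrix.trace_sub, htr1, ht]; norm_num
  have hPrne : Pr ≠ 0 := by
    intro h0
    have hsum : (1 : Matrix ι ι ℂ) = (1 - E) + E * (1 - E') + E * E' * (1 - E'') := by
      have : E * E' * E'' = 0 := by rw [← hPrdef]; exact h0
      simp only [Matrix.mul_sub, Matrix.mul_one, this]
      abel
    have hr1 : (1 : Matrix ι ι ℂ).rank = 4 := by rw [Matrix.rank_one, hcard]
    have hle : (1 : Matrix ι ι ℂ).rank ≤ 3 := by
      conv_lhs => rw [hsum]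
      calc ((1 - E) + E * (1 - E') + E * E' * (1 - E'')).rank
          ≤ ((1 - E) + E * (1 - E')).rank + (E * E' * (1 - E'')).rank := rank_add_le' _ _
        _ ≤ ((1 - E).rank + (E * (1 - E')).rank) + (E * E' * (1 - E'')).rank :=
            Nat.add_le_add_right (rank_add_le' _ _) _
        _ ≤ (1 + 1) + 1 := by
            have e1 := (hF hI htr).2
            have e2 : (E * (1 - E')).rank ≤ 1 := by
              rw [← (hF hI' htr').2]; exact Matrix.rank_mul_le_right _ _
            have e3 : (E * E' * (1 - E'')).rank ≤ 1 := by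
              rw [← (hF hI'' htr'').2]; exact Matrix.rank_mul_le_right _ _
            omega
    omega
  have ha3 : a ^ 3 = 1 := (smul_eq_self_imp hPrne h4)
  have ha1 : a = 1 := by
    have : a ^ 6 = 1 := by
      have : a ^ 6 = (a ^ 3) ^ 2 := by ring
      rw [this, ha3, one_pow]
    have h6 : a ^ 6 = a ^ 5 * a := by ring
    rw [h6, ha, one_mul] at this
    exact this
  -- now the eigenvalue b
  obtain ⟨c, hcdef⟩ : ∃ c : ℂ, c = b - 1 := ⟨_, rfl⟩
  have hXF : X = 1 + c • (1 - E) := by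
    rw [hx, ha1, hcdef]; module
  have hX'F : X' = 1 + c • (1 - E') := by
    rw [hx', ha1, hcdef]; module
  -- x * x' = x'' ^ 4
  have hx''5 : x'' ^ 5 = 1 := by
    rw [hw₂, conj_pow, hx5]; group
  have hxx' : x * x' = x'' ^ 4 := by
    have h5 : x'' ^ 4 * x'' = 1 := by rw [← pow_succ]; exact hx''5
    have : x * x' * x'' = x'' ^ 4 * x'' := by rw [hprod, h5]
    exact mul_right_cancel this
  have htrXX' : (X * X').trace = 3 + b ^ 4 := by
    rw [hXdef, hX'def, ← map_mul, hxx', map_pow, ← hX''def, hx'', two_eig_pow hI'', ha1,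
      Matrix.trace_add, Matrix.trace_smul, Matrix.trace_smul, Matrix.trace_sub, htr1, htr'']
    simp only [one_pow, smul_eq_mul]
    ring
  have hFF' : Commute (1 - E) (1 - E') :=
    (Commute.one_left _).sub_left ((Commute.one_right E).sub_right hEE')
  obtain ⟨hFI, hFr⟩ := hF hI htr
  obtain ⟨hF'I, hF'r⟩ := hF hI' htr'
  have hFF'I := idem_mul_of_commute hFI hF'I hFF'
  have hrle : ((1 - E) * (1 - E')).rank ≤ 1 := by
    rw [← hF'r]; exact Matrix.rank_mul_le_right _ _
  have htrF : (1 - E).trace = 1 := by rw [Matrix.trace_sub, htr1, htr]; norm_num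
  have htrF' : (1 - E').trace = 1 := by rw [Matrix.trace_sub, htr1, htr']; norm_num
  have hexp : X * X' = 1 + c • (1 - E) + c • (1 - E') + (c * c) • ((1 - E) * (1 - E')) := by
    rw [hXF, hX'F]
    generalize (1 - E) = F₁
    generalize (1 - E') = F₂
    rw [Matrix.add_mul, Matrix.mul_add, Matrix.mul_add, Matrix.one_mul, Matrix.mul_one,
      Matrix.smul_mul, Matrix.mul_smul, Matrix.one_mul, Matrix.mul_smul, smul_smul]
    abel
  have htr2 : (X * X').trace = 4 + c + c + c * c * (((1 - E) * (1 - E')).rank : ℂ) := by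
    rw [hexp, Matrix.trace_add, Matrix.trace_add, Matrix.trace_add, Matrix.trace_smul,
      Matrix.trace_smul, Matrix.trace_smul, htr1, htrF, htrF', trace_eq_rank hFF'I]
    simp only [smul_eq_mul, mul_one]
  rw [htrXX'] at htr2
  have hb0 : b ≠ 0 := by
    intro h
    rw [h] at hb
    norm_num at hb
  have hcases : ((1 - E) * (1 - E')).rank = 0 ∨ ((1 - E) * (1 - E')).rank = 1 := by omega
  rcases hcases with h0 | h0
  · rw [h0, hcdef] at htr2
    simp only [Nat.cast_zero, mul_zero, add_zero] at htr2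
    -- b^4 = 2b - 1, so 2b^2 - b - 1 = 0
    have h5 : (2 * b + 1) * (b - 1) = 0 := by
      have : b ^ 5 = b * (b ^ 4) := by ring
      have hb4 : b ^ 4 = 2 * b - 1 := by linear_combination htr2
      rw [hb4] at this
      rw [hb] at this
      linear_combination -this
    rcases mul_eq_zero.mp h5 with h6 | h6
    · have hbv : b = -1 / 2 := by linear_combination h6 / 2
      rw [hbv] at hb
      norm_num at hb
    · apply hab
      rw [ha1]
      exact (sub_eq_zero.mp h6).symm
  · rw [h0, hcdef] at htr2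
    simp only [Nat.cast_one, mul_one] at htr2
    have hb42 : b ^ 4 = b ^ 2 := by linear_combination htr2
    have hb2 : b ^ 2 = 1 := by
      have h7 : b ^ 2 * (b ^ 2 - 1) = 0 := by linear_combination hb42
      rcases mul_eq_zero.mp h7 with h8 | h8
      · exact absurd (pow_eq_zero_iff (by norm_num) |>.mp h8) hb0
      · exact sub_eq_zero.mp h8
    apply hab
    rw [ha1]
    have : b ^ 5 = (b ^ 2) ^ 2 * b := by ring
    rw [this, hb2, one_pow, one_mul] at hb
    exact hb.symm

end Cfsg.Agent.Lib.Helper9.Lg
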