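import Mathlib
import Mathlib
import Cfsg.Prelude.Def_Characters
import Cfsg.Agent.Lib.Helper9.LgQ
import Cfsg.Agent.Lib.Helper8.Sc1

set_option autoImplicit false
set_option linter.unusedSectionVars false
set_option linter.unusedVariables false
set_option linter.style.longLine false
set_option linter.unusedSimpArgs false

set_option maxHeartbeats 1600000
namespace Cfsg.Agent.Lib.Helper9.Lg
open Matrix

variable {G : Type*} [Group G]

/-- an involution normalizing an abelian subgroup without nontrivial fixed points inverts it -/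
theorem inverts_of_no_fixed {P : Subgroup G} (hab : ∀ s ∈ P, ∀ s' ∈ P, s * s' = s' * s)
    {t : G} (htN : t ∈ Subgroup.normalizer (P : Set G)) (htt : t * t = 1)
    (hfix : ∀ z ∈ P, z * t = t * z → z = 1) : ∀ s ∈ P, t * s * t⁻¹ = s⁻¹ := by
  intro s hs
  have hs' : t * s * t⁻¹ ∈ P := (Subgroup.mem_normalizer_iff.mp htN s).mp hs
  have htinv : t⁻¹ = t := inv_eq_of_mul_eq_one_right htt
  have hz : s * (t * s * t⁻¹) ∈ P := P.mul_mem hs hs'
  have e1 : t * (t * s * t⁻¹) * t⁻¹ = s := by
    rw [htinv]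
    calc t * (t * s * t) * t = (t * t) * s * (t * t) := by simp only [mul_assoc]
      _ = s := by rw [htt, one_mul, mul_one]
  have hcomm : s * (t * s * t⁻¹) * t = t * (s * (t * s * t⁻¹)) := by
    have e2 : t * (s * (t * s * t⁻¹)) = (t * s * t⁻¹) * (t * (t * s * t⁻¹) * t⁻¹) * t := by group
    rw [e2, e1, hab _ hs' s hs]
  have h1 := hfix _ hz hcomm
  exact (eq_inv_of_mul_eq_one_right h1)

/-- fixed point counting for a map of prime order on a finite set (copy of helper4's lemma, to
avoid a heavy import) -/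
theorem card_modEq_fixed' {α : Type*} [DecidableEq α] (p : ℕ) [hp : Fact p.Prime] (f : α → α)
    (X : Finset α) (hX : ∀ x ∈ X, f x ∈ X) (hf : ∀ x ∈ X, f^[p] x = x) :
    X.card ≡ (X.filter (fun x => f x = x)).card [MOD p] := by
  classical
  let F : Function.End ↥X := fun x => ⟨f x.1, hX x.1 x.2⟩
  have hpow : ∀ (n : ℕ) (x : ↥X), (((F ^ n) x : ↥X) : α) = f^[n] x.1 := by
    intro n
    induction n with
    | zero => intro x; rfl
    | succ n ih =>
      intro x
      rw [pow_succ, Function.iterate_succ]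
      show (((F ^ n) (F x) : ↥X) : α) = f^[n] (f x.1)
      rw [ih]
  have hF : F ^ p ^ 1 = 1 := by
    rw [pow_one]
    funext x
    apply Subtype.ext
    rw [hpow]
    exact hf x.1 x.2
  have h := Equiv.Perm.card_fixedPoints_modEq (p := p) (n := 1) hF
  rw [Fintype.card_coe] at h
  have e : ↥(Function.fixedPoints F) ≃ ↥(X.filter (fun x => f x = x)) :=
    { toFun := fun x => ⟨x.1.1, Finset.mem_filter.mpr ⟨x.1.2, by
        have h1 : F x.1 = x.1 := x.2
        exact congrArg Subtype.val h1⟩⟩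
      invFun := fun x => ⟨⟨x.1, (Finset.mem_filter.mp x.2).1⟩, by
        show F _ = _
        apply Subtype.ext
        exact (Finset.mem_filter.mp x.2).2⟩
      left_inv := fun x => rfl
      right_inv := fun x => rfl }
  rw [Fintype.card_congr e, Fintype.card_coe] at h
  exact h

/-- scalar lemma: a multiset `{a,a,a,b}` of fifth roots of unity closed under inversion
has `a = b` -/
theorem eq_of_inv_closed {a b : ℂ} (ha : a ^ 5 = 1) (hb : b ^ 5 = 1)
    (h : ∀ k : ℕ, 3 * a ^ (4 * k) + b ^ (4 * k) = 3 * a ^ k + b ^ k) : a = b := by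
  by_contra hab
  have ha0 : a ≠ 0 := by
    intro h0; rw [h0] at ha; norm_num at ha
  have hb0 : b ≠ 0 := by
    intro h0; rw [h0] at hb; norm_num at hb
  -- sum of a^k * f(4k) and a^k * f(k)
  have hsum : ∑ k ∈ Finset.range 5, a ^ k * (3 * a ^ (4 * k) + b ^ (4 * k))
      = ∑ k ∈ Finset.range 5, a ^ k * (3 * a ^ k + b ^ k) :=
    Finset.sum_congr rfl fun k _ => by rw [h k]
  have hL : ∑ k ∈ Finset.range 5, a ^ k * (3 * a ^ (4 * k) + b ^ (4 * k))
      = 15 + ∑ k ∈ Finset.range 5, (a * b ^ 4) ^ k := by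
    have : ∀ k ∈ Finset.range 5, a ^ k * (3 * a ^ (4 * k) + b ^ (4 * k)) = 3 + (a * b ^ 4) ^ k := by
      intro k _
      have e1 : a ^ k * a ^ (4 * k) = (a ^ 5) ^ k := by rw [← pow_add, ← pow_mul]; ring_nf
      rw [mul_add, ← mul_assoc, mul_comm (a ^ k) 3, mul_assoc, e1, ha, one_pow, mul_pow, ← pow_mul]
      ring
    rw [Finset.sum_congr rfl this, Finset.sum_add_distrib]
    simp
    norm_num
  have hR : ∑ k ∈ Finset.range 5, a ^ k * (3 * a ^ k + b ^ k)
      = 3 * ∑ k ∈ Finset.range 5, (a ^ 2) ^ k + ∑ k ∈ Finset.range 5, (a * b) ^ k := by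
    rw [Finset.mul_sum, ← Finset.sum_add_distrib]
    refine Finset.sum_congr rfl fun k _ => ?_
    rw [mul_pow, ← pow_mul]
    ring
  rw [hL, hR] at hsum
  have hw1 : (a * b ^ 4) ^ 5 = 1 := by
    rw [mul_pow, ha, ← pow_mul]
    have : b ^ (4 * 5) = (b ^ 5) ^ 4 := by ring
    rw [this, hb]; norm_num
  have hw1' : a * b ^ 4 ≠ 1 := by
    intro h1
    apply hab
    have : a * b ^ 5 = b := by
      have : a * b ^ 5 = (a * b ^ 4) * b := by ring
      rw [this, h1, one_mul]
    rw [hb, mul_one] at this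
    exact this
  rw [geom_sum_eq_zero_of_pow hw1 hw1', add_zero] at hsum
  have hw2 : (a ^ 2) ^ 5 = 1 := by
    rw [← pow_mul]
    have : a ^ (2 * 5) = (a ^ 5) ^ 2 := by ring
    rw [this, ha]; norm_num
  have hw3 : (a * b) ^ 5 = 1 := by rw [mul_pow, ha, hb]; norm_num
  have ha21 : a ^ 2 = 1 := by
    by_contra hne
    rw [geom_sum_eq_zero_of_pow hw2 hne, mul_zero, zero_add] at hsum
    by_cases hab1 : a * b = 1
    · rw [hab1] at hsum
      simp at hsum
    · rw [geom_sum_eq_zero_of_pow hw3 hab1] at hsum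
      norm_num at hsum
  have ha1 : a = 1 := by
    have : a ^ 5 = (a ^ 2) ^ 2 * a := by ring
    rw [this, ha21, one_pow, one_mul] at ha
    exact ha
  have h1 := h 1
  rw [ha1] at h1
  simp only [one_pow, mul_one] at h1
  have hb41 : b ^ 4 = b := by linear_combination h1
  have hb1 : b = 1 := by
    have : b ^ 5 = b ^ 4 * b := by ring
    rw [this, hb41] at hb
    -- b * b = 1, and b^4 = b
    have hb2 : b ^ 2 = 1 := by rw [pow_two]; exact hb
    have : b ^ 4 = (b ^ 2) ^ 2 := by ring
    rw [this, hb2, one_pow] at hb41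
    exact hb41.symm
  exact hab (by rw [ha1, hb1])

section w

variable [Finite G]

theorem exists_w {b : ℕ} (hG : Nat.card G = 4 * 5 ^ 2 * 3 ^ b)
    (P : Sylow 5 G) (hPab : ∀ s ∈ (P : Subgroup G), ∀ s' ∈ (P : Subgroup G), s * s' = s' * s)
    (hNoInv : ∀ t ∈ Subgroup.normalizer ((P : Subgroup G) : Set G), orderOf t ≠ 2) :
    ∀ m : ℕ, ∀ n : G, orderOf n = m → n ∈ Subgroup.normalizer ((P : Subgroup G) : Set G) →
      n ∉ Subgroup.centralizer ((P : Subgroup G) : Set G) →
      ∃ w ∈ Subgroup.normalizer ((P : Subgroup G) : Set G),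
        w ∉ Subgroup.centralizer ((P : Subgroup G) : Set G) ∧
        w ^ 3 ∈ Subgroup.centralizer ((P : Subgroup G) : Set G) := by
  intro m
  induction m using Nat.strong_induction_on with
  | _ m ih =>
  intro n hm hnN hnC
  by_cases h3 : n ^ 3 ∈ Subgroup.centralizer ((P : Subgroup G) : Set G)
  · exact ⟨n, hnN, hnC, h3⟩
  · have hn3N : n ^ 3 ∈ Subgroup.normalizer ((P : Subgroup G) : Set G) := Subgroup.pow_mem _ hnN 3
    have hpos : 0 < orderOf n := orderOf_pos n
    by_cases hd : 3 ∣ orderOf n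
    · have h1 : orderOf (n ^ 3) = orderOf n / 3 := orderOf_pow_of_dvd (by norm_num) hd
      have hlt : orderOf (n ^ 3) < m := by
        rw [h1, ← hm]
        exact Nat.div_lt_self hpos (by norm_num)
      exact ih _ hlt (n ^ 3) rfl hn3N h3
    · exfalso
      have hdvd : orderOf n ∣ 4 * 5 ^ 2 * 3 ^ b := hG ▸ orderOf_dvd_natCard n
      have hcop3 : Nat.Coprime (orderOf n) (3 ^ b) :=
        Nat.Coprime.pow_right _ ((Nat.Prime.coprime_iff_not_dvd Nat.prime_three).mpr hd).symm
      have h100 : orderOf n ∣ 4 * 5 ^ 2 := hcop3.dvd_of_dvd_mul_right hdvd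
      have hodd : ¬ 2 ∣ orderOf n := by
        intro h2
        have h4 : orderOf (n ^ (orderOf n / 2)) = 2 := by
          rw [orderOf_pow_of_dvd (by omega) (Nat.div_dvd_of_dvd h2)]
          exact Nat.div_div_self h2 hpos.ne'
        exact hNoInv _ (Subgroup.pow_mem _ hnN _) h4
      have hcop4 : Nat.Coprime (orderOf n) 4 := by
        have : Nat.Coprime (orderOf n) 2 :=
          ((Nat.Prime.coprime_iff_not_dvd Nat.prime_two).mpr hodd).symm
        exact Nat.Coprime.pow_right 2 this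
      have h25 : orderOf n ∣ 5 ^ 2 := hcop4.dvd_of_dvd_mul_left h100
      obtain ⟨k, -, hk⟩ := (Nat.dvd_prime_pow Nat.prime_five).mp h25
      have hpg : IsPGroup 5 (Subgroup.zpowers n) := by
        apply IsPGroup.of_card (n := k)
        rw [Nat.card_zpowers, hk]
      have hinf : Subgroup.zpowers n ⊓ Subgroup.normalizer ((P : Subgroup G) : Set G)
          = Subgroup.zpowers n ⊓ (P : Subgroup G) := hpg.inf_normalizer_sylow P
      have hnP : n ∈ (P : Subgroup G) := by
        have : n ∈ Subgroup.zpowers n ⊓ Subgroup.normalizer ((P : Subgroup G) : Set G) :=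
          Subgroup.mem_inf.mpr ⟨Subgroup.mem_zpowers n, hnN⟩
        rw [hinf] at this
        exact (Subgroup.mem_inf.mp this).2
      apply hnC
      rw [Subgroup.mem_centralizer_iff]
      intro s hs
      exact hPab s hs n hnP

end w

section fix

variable [Finite G]

theorem eq_one_of_fixed (P : Subgroup G) (hP : Nat.card P = 25) {w : G}
    (hwN : w ∈ Subgroup.normalizer (P : Set G)) (hwC : w ∉ Subgroup.centralizer (P : Set G))
    (hw3 : w ^ 3 ∈ Subgroup.centralizer (P : Set G)) {y : G} (hy : y ∈ P)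
    (hfix : w * y * w⁻¹ = y) : y = 1 := by
  classical
  haveI : Fintype G := Fintype.ofFinite G
  haveI : Fact (Nat.Prime 3) := ⟨Nat.prime_three⟩
  obtain ⟨K, hKdef⟩ : ∃ K : Subgroup G, K = P ⊓ Subgroup.centralizer ({w} : Set G) := ⟨_, rfl⟩
  have hKP : K ≤ P := by rw [hKdef]; exact inf_le_left
  have hmemK : ∀ g : G, g ∈ K ↔ g ∈ P ∧ w * g * w⁻¹ = g := by
    intro g
    rw [hKdef, Subgroup.mem_inf, Subgroup.mem_centralizer_singleton_iff]
    constructor
    · rintro ⟨h1, h2⟩
      refine ⟨h1, ?_⟩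
      rw [← h2, mul_assoc, mul_inv_cancel, mul_one]
    · rintro ⟨h1, h2⟩
      refine ⟨h1, ?_⟩
      calc g * w = w * g * w⁻¹ * w := by rw [h2]
        _ = w * g := by group
  let X : Finset G := Finset.univ.filter (fun g => g ∈ P)
  let f : G → G := fun g => w * g * w⁻¹
  have hX : ∀ g ∈ X, f g ∈ X := by
    intro g hg
    simp only [X, Finset.mem_filter, Finset.mem_univ, true_and] at hg ⊢
    exact (Subgroup.mem_normalizer_iff.mp hwN g).mp hg
  have hf : ∀ g ∈ X, f^[3] g = g := by
    intro g hg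
    simp only [X, Finset.mem_filter, Finset.mem_univ, true_and] at hg
    show w * (w * (w * g * w⁻¹) * w⁻¹) * w⁻¹ = g
    have h1 := Subgroup.mem_centralizer_iff.mp hw3 g hg
    have e3 : w ^ 3 = w * w * w := by rw [pow_succ, pow_two]
    calc w * (w * (w * g * w⁻¹) * w⁻¹) * w⁻¹ = (w * w * w * g) * (w * w * w)⁻¹ := by group
      _ = g := by rw [← e3, ← h1]; group
  have hmod := card_modEq_fixed' 3 f X hX hf
  have hXcard : X.card = 25 := by
    rw [← hP, Nat.card_eq_fintype_card, Fintype.card_subtype]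
  have hFcard : (X.filter (fun g => f g = g)).card = Nat.card K := by
    rw [Nat.card_eq_fintype_card, Fintype.card_subtype]
    congr 1
    ext g
    simp only [X, Finset.mem_filter, Finset.mem_univ, true_and]
    exact (hmemK g).symm
  rw [hXcard, hFcard] at hmod
  have hKdvd : Nat.card K ∣ 25 := by
    rw [← hP]; exact Subgroup.card_dvd_of_le hKP
  have hK1 : Nat.card K = 1 := by
    have hle : Nat.card K ≤ 25 := Nat.le_of_dvd (by norm_num) hKdvd
    have hpos : 0 < Nat.card K := Nat.card_pos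
    have h25 : Nat.card K ≠ 25 := by
      intro h25
      apply hwC
      have hKeq : K = P := by
        apply Subgroup.eq_of_le_of_card_ge hKP
        rw [hP, h25]
      rw [Subgroup.mem_centralizer_iff]
      intro s hs
      have hsK : s ∈ K := by rw [hKeq]; exact hs
      have := ((hmemK s).mp hsK).2
      calc s * w = (w * s * w⁻¹) * w := by rw [this]
        _ = w * s := by group
    unfold Nat.ModEq at hmod
    interval_cases h : Nat.card K <;> first | omega | (exfalso; revert hKdvd; decide)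
  have hKbot : K = ⊥ := Subgroup.card_eq_one.mp hK1
  have hyK : y ∈ K := (hmemK y).mpr ⟨hy, hfix⟩
  rw [hKbot] at hyK
  exact Subgroup.mem_bot.mp hyK

end fix

section main

variable [Finite G] [IsSimpleGroup G]

/-- **the `p = 5` exclusion**: no element of order `5` of a Sylow `5`-subgroup has type
`(a,a,a,b)`. -/
theorem false_of_type31 (hna : ∃ x y : G, x * y ≠ y * x) {b : ℕ}
    (hG : Nat.card G = 4 * 5 ^ 2 * 3 ^ b) {χ : G → ℂ} (hχ : Cfsg.IsCharacter G χ)
    (hdeg : χ 1 = 4) (hfaith : ∀ g : G, χ g = χ 1 → g = 1)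
    (hC : ∀ x t : G, x ≠ 1 → x ^ (5 ^ 2) = 1 → orderOf t = 2 → x * t ≠ t * x)
    (P : Sylow 5 G) (hP : Nat.card (P : Subgroup G) = 25) {x : G} (hxP : x ∈ (P : Subgroup G))
    (hx1 : x ≠ 1) (hx5 : x ^ 5 = 1) {a b' : ℂ} (ha : a ^ 5 = 1) (hb : b' ^ 5 = 1)
    (hval : ∀ k : ℕ, χ (x ^ k) = 3 * a ^ k + b' ^ k) : False := by
  haveI : Fact (Nat.Prime 5) := ⟨Nat.prime_five⟩
  obtain ⟨n, U, hinj, htr⟩ := exists_matrix_hom hχ hfaith
  have hn : Fintype.card (Fin n) = 4 := by
    have h1 := htr 1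
    rw [map_one, Matrix.trace_one, hdeg] at h1
    exact_mod_cast h1
  have hord : orderOf x = 5 := by
    have h1 : orderOf x ∣ 5 := orderOf_dvd_of_pow_eq_one hx5
    rcases (Nat.dvd_prime Nat.prime_five).mp h1 with h | h
    · exact absurd (orderOf_eq_one_iff.mp h) hx1
    · exact h
  -- a ≠ b'
  have hab : a ≠ b' := by
    intro hab
    apply hx1
    obtain ⟨e, hedef⟩ : ∃ e : ℂ, e = eps 5 := ⟨_, rfl⟩
    have heprim : IsPrimitiveRoot e 5 := by rw [hedef]; exact eps_isPrimitiveRoot (by norm_num)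
    have he1 : e ≠ 1 := by
      intro h
      have := heprim.eq_orderOf
      rw [h, orderOf_one] at this
      omega
    have ha0 : a ≠ 0 := by
      intro h0; rw [h0] at ha; norm_num at ha
    have hne : a ≠ a * e := by
      intro h
      apply he1
      have : a * 1 = a * e := by rw [mul_one]; exact h
      exact (mul_left_cancel₀ ha0 this).symm
    have hval' : ∀ k : ℕ, (U (x ^ k)).trace = (4 : ℕ) * a ^ k + (0 : ℕ) * (a * e) ^ k := by
      intro k
      rw [htr, hval, ← hab]
      push_cast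
      ring
    obtain ⟨E, hEI, hEtr, hxE⟩ := exists_idem_of_values U 4 0 (by rw [hord]; exact ha)
      (by rw [hord, mul_pow, ha, heprim.pow_eq_one, one_mul]) hne hval'
    have hF0 : (1 : Matrix (Fin n) (Fin n) ℂ) - E = 0 := by
      apply eq_zero_of_idem_trace
      · rw [Matrix.mul_sub, Matrix.mul_one, Matrix.sub_mul, Matrix.one_mul, hEI, sub_self,
          sub_zero]
      · rw [Matrix.trace_sub, Matrix.trace_one, hn, hEtr]; norm_num
    refine eq_one_of_scalar hna U hinj (c := a) ?_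
    rw [hxE, hF0, smul_zero, add_zero, ← sub_eq_zero.mp hF0]
  -- P is abelian
  have hPab : ∀ s ∈ (P : Subgroup G), ∀ s' ∈ (P : Subgroup G), s * s' = s' * s := by
    intro s hs s' hs'
    have hc := IsPGroup.commutative_of_card_eq_prime_sq (p := 5) (G := (P : Subgroup G))
      (by rw [hP]; norm_num)
    have := hc ⟨s, hs⟩ ⟨s', hs'⟩
    exact congrArg Subtype.val this
  have hP25 : ∀ z ∈ (P : Subgroup G), z ^ (5 ^ 2) = 1 := by
    intro z hz
    have h1 : (⟨z, hz⟩ : (P : Subgroup G)) ^ Nat.card (P : Subgroup G) = 1 := pow_card_eq_one'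
    rw [hP] at h1
    have := congrArg Subtype.val h1
    simpa using this
  -- no involution normalizes P
  have hNoInv : ∀ t ∈ Subgroup.normalizer ((P : Subgroup G) : Set G), orderOf t ≠ 2 := by
    intro t htN ht2
    have htt : t * t = 1 := by
      have := pow_orderOf_eq_one t
      rw [ht2, pow_two] at this
      exact this
    have hfix : ∀ z ∈ (P : Subgroup G), z * t = t * z → z = 1 := by
      intro z hz hzt
      by_contra hz1
      exact hC z t hz1 (hP25 z hz) ht2 hzt
    have hinv := inverts_of_no_fixed hPab htN htt hfix x hxP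
    apply hab
    apply eq_of_inv_closed ha hb
    intro k
    have hx4 : x ^ 4 = x⁻¹ := by
      apply eq_inv_of_mul_eq_one_left
      rw [← pow_succ]; exact hx5
    have h1 : x ^ (4 * k) = t * x ^ k * t⁻¹ := by
      rw [pow_mul, hx4, ← hinv, conj_pow]
    have h2 : χ (x ^ (4 * k)) = χ (x ^ k) := by
      rw [h1, ← htr, ← htr, map_mul, map_mul]
      exact trace_conj U t _
    rw [hval, hval] at h2
    exact h2
  -- the element w
  have hNC : ¬ Subgroup.normalizer ((P : Subgroup G) : Set G)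
      ≤ Subgroup.centralizer ((P : Subgroup G) : Set G) := by
    intro h
    refine Cfsg.Agent.Lib.Helper8.Sc.burnside_transfer hna P ?_ h
    rw [hG]
    exact ⟨4 * 5 * 3 ^ b, by ring⟩
  obtain ⟨n₀, hn₀N, hn₀C⟩ := SetLike.not_le_iff_exists.mp hNC
  obtain ⟨w, hwN, hwC, hw3⟩ := exists_w hG P hPab hNoInv _ n₀ rfl hn₀N hn₀C
  -- the conjugates
  obtain ⟨x', hx'def⟩ : ∃ x' : G, x' = w * x * w⁻¹ := ⟨_, rfl⟩
  obtain ⟨x'', hx''def⟩ : ∃ x'' : G, x'' = (w * w) * x * (w * w)⁻¹ := ⟨_, rfl⟩
  have hx'P : x' ∈ (P : Subgroup G) := by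
    rw [hx'def]; exact (Subgroup.mem_normalizer_iff.mp hwN x).mp hxP
  have hx''P : x'' ∈ (P : Subgroup G) := by
    rw [hx''def]
    exact (Subgroup.mem_normalizer_iff.mp (Subgroup.mul_mem _ hwN hwN) x).mp hxP
  have hyP : x * x' * x'' ∈ (P : Subgroup G) :=
    Subgroup.mul_mem _ (Subgroup.mul_mem _ hxP hx'P) hx''P
  have hyfix : w * (x * x' * x'') * w⁻¹ = x * x' * x'' := by
    have e3 : w ^ 3 = w * w * w := by rw [pow_succ, pow_two]
    have h1 := Subgroup.mem_centralizer_iff.mp hw3 x hxP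
    have h2 : w * x'' * w⁻¹ = x := by
      rw [hx''def]
      calc w * (w * w * x * (w * w)⁻¹) * w⁻¹ = (w * w * w * x) * (w * w * w)⁻¹ := by group
        _ = x := by rw [← e3, ← h1]; group
    have h3 : w * x * w⁻¹ = x' := hx'def.symm
    have h4 : w * x' * w⁻¹ = x'' := by rw [hx'def, hx''def]; group
    calc w * (x * x' * x'') * w⁻¹ = (w * x * w⁻¹) * (w * x' * w⁻¹) * (w * x'' * w⁻¹) := by group
      _ = x' * x'' * x := by rw [h2, h3, h4]
      _ = x * x' * x'' := by
          rw [hPab _ (Subgroup.mul_mem _ hx'P hx''P) x hxP, mul_assoc]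
  have hprod : x * x' * x'' = 1 := eq_one_of_fixed (P : Subgroup G) hP hwN hwC hw3 hyP hyfix
  -- the idempotent
  have hval' : ∀ k : ℕ, (U (x ^ k)).trace = (3 : ℕ) * a ^ k + (1 : ℕ) * b' ^ k := by
    intro k
    rw [htr, hval]
    push_cast
    ring
  obtain ⟨E, hEI, hEtr, hxE⟩ := exists_idem_of_values U 3 1 (by rw [hord]; exact ha)
    (by rw [hord]; exact hb) hab hval'
  exact false_of_three_conj hn U ⟨w, hx'def⟩ ⟨w * w, hx''def⟩ hprod (hPab x hxP x' hx'P)
    (hPab x hxP x'' hx''P) (hPab x' hx'P x'' hx''P) hx5 ha hb hab hEI (by rw [hEtr]; norm_num) hxE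

end main

end Cfsg.Agent.Lib.Helper9.Lg
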