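import Mathlib
import Mathlib
import Cfsg.Prelude.Def_Characters
import Cfsg.Agent.Lib.Helper9.LgR
import Cfsg.Agent.Lib.Helper6.CenterIndex
import Cfsg.Agent.Lib.Helper6.Multiplicity
import Cfsg.Agent.Lib.Helper3.BL26

set_option autoImplicit false
set_option linter.unusedSectionVars false
set_option linter.unusedVariables false
set_option linter.style.longLine false
set_option linter.unusedSimpArgs false

set_option maxHeartbeats 1600000
namespace Cfsg.Agent.Lib.Helper9.Lg
open Matrix Cfsg Cfsg.Agent.Lib.Helper6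

/-- values of an irreducible character on the powers of a central element -/
theorem irr_center_values {H : Type*} [Group H] [Finite H] {θ : H → ℂ}
    (hθ : Cfsg.IsIrrCharacter H θ) {z : H} (hz : z ∈ Subgroup.center H) :
    ∃ c : ℂ, c ^ orderOf z = 1 ∧ ∀ k : ℕ, θ (z ^ k) = θ 1 * c ^ k := by
  classical
  haveI : Fintype H := Fintype.ofFinite H
  obtain ⟨n, ρ, hirr, rfl⟩ := hθ
  haveI := hirr
  obtain ⟨c, hc, -⟩ := exists_scalar_of_mem_center ρ hz
  have hpow : ∀ k : ℕ, ρ.character (z ^ k) = ρ.character 1 * c ^ k := by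
    intro k
    unfold Representation.character
    rw [map_pow, hc, map_one, smul_pow]
    have : (LinearMap.id : (Fin n → ℂ) →ₗ[ℂ] (Fin n → ℂ)) ^ k = 1 := by
      show (1 : Module.End ℂ (Fin n → ℂ)) ^ k = 1
      exact one_pow k
    rw [this, map_smul, smul_eq_mul, mul_comm]
  refine ⟨c, ?_, hpow⟩
  have hnt := nontrivial_of_isIrreducible ρ
  have h1 := hpow (orderOf z)
  rw [pow_orderOf_eq_one] at h1
  have hne : ρ.character 1 ≠ 0 := by
    rw [Representation.char_one]
    have : 0 < Module.finrank ℂ (Fin n → ℂ) := Module.finrank_pos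
    exact_mod_cast this.ne'
  have h2 : ρ.character 1 * (c ^ orderOf z - 1) = 0 := by
    rw [mul_sub, mul_one, ← h1, sub_self]
  rcases mul_eq_zero.mp h2 with h | h
  · exact absurd h hne
  · exact sub_eq_zero.mp h

/-- the restriction of a faithful character of degree `4` to an odd order centralizer `C(x)`
is `1+1+1+1` (then `C(x)` is abelian) or `3+1` (then `x` has type `(a,a,a,b)`). -/
theorem centralizer_comm_or_values {G : Type*} [Group G] [Finite G] {χ : G → ℂ}
    (hχ : Cfsg.IsCharacter G χ) (hdeg : χ 1 = 4) (hfaith : ∀ g : G, χ g = χ 1 → g = 1) {x : G}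
    (hodd : ¬ 2 ∣ Nat.card (Subgroup.centralizer ({x} : Set G))) :
    (∀ h ∈ Subgroup.centralizer ({x} : Set G), ∀ k ∈ Subgroup.centralizer ({x} : Set G),
        h * k = k * h) ∨
      ∃ a b : ℂ, a ^ orderOf x = 1 ∧ b ^ orderOf x = 1 ∧
        ∀ k : ℕ, χ (x ^ k) = 3 * a ^ k + b ^ k := by
  classical
  obtain ⟨H, hHdef⟩ : ∃ H : Subgroup G, H = Subgroup.centralizer ({x} : Set G) := ⟨_, rfl⟩
  rw [← hHdef] at hodd ⊢
  haveI : Fintype G := Fintype.ofFinite G
  haveI : Fintype H := Fintype.ofFinite H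
  haveI : Fintype (Cfsg.IrrCharacter H) := Fintype.ofFinite _
  have hψ : Cfsg.IsCharacter H (fun h : H => χ h) := IsCharacter.restrict H hχ
  obtain ⟨m, hm, -⟩ := IsCharacter.exists_mult hψ
  have hval : ∀ h : H, χ h = ∑ θ : Cfsg.IrrCharacter H, (m θ : ℂ) * (θ : H → ℂ) h :=
    fun h => apply_eq_sum_mult hm h
  obtain ⟨d, hddef⟩ : ∃ d : Cfsg.IrrCharacter H → ℕ,
      d = fun θ : Cfsg.IrrCharacter H => Cfsg.charDegree (θ : H → ℂ) := ⟨_, rfl⟩
  have hdegθ : ∀ θ : Cfsg.IrrCharacter H, (θ : H → ℂ) 1 = (d θ : ℂ) := by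
    intro θ
    rw [hddef]
    exact IsCharacter.apply_one_eq_charDegree (IsIrrCharacter.isCharacter θ.2)
  have hdvdθ : ∀ θ : Cfsg.IrrCharacter H, d θ ∣ Nat.card H := by
    intro θ
    rw [hddef]
    exact IsIrrCharacter.charDegree_dvd_card θ.2
  have hoddθ : ∀ θ : Cfsg.IrrCharacter H, ¬ 2 ∣ d θ := fun θ h2 => hodd (h2.trans (hdvdθ θ))
  have hposθ : ∀ θ : Cfsg.IrrCharacter H, 0 < d θ := fun θ =>
    Nat.pos_of_dvd_of_pos (hdvdθ θ) Nat.card_pos
  have hsum : ∑ θ : Cfsg.IrrCharacter H, m θ * d θ = 4 := by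
    have h1 := hval 1
    rw [Subgroup.coe_one, hdeg] at h1
    simp_rw [hdegθ] at h1
    exact_mod_cast h1.symm
  by_cases hall : ∀ θ : Cfsg.IrrCharacter H, m θ ≠ 0 → d θ = 1
  · left
    intro h hh k hk
    have hc : χ (h * k * h⁻¹ * k⁻¹) = χ 1 := by
      have h1 := hval (⟨h, hh⟩ * ⟨k, hk⟩ * ⟨h, hh⟩⁻¹ * ⟨k, hk⟩⁻¹)
      have h2 := hval 1
      rw [Subgroup.coe_one] at h2
      have h3 : ((⟨h, hh⟩ * ⟨k, hk⟩ * ⟨h, hh⟩⁻¹ * ⟨k, hk⟩⁻¹ : H) : G) = h * k * h⁻¹ * k⁻¹ := rfl
      rw [h3] at h1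
      rw [h1, h2]
      refine Finset.sum_congr rfl fun θ _ => ?_
      by_cases hm0 : m θ = 0
      · rw [hm0]; simp
      · have hd1 := hall θ hm0
        have hθ1 : (θ : H → ℂ) 1 = 1 := by rw [hdegθ, hd1]; norm_num
        rw [IsCharacter.apply_commutator_of_apply_one_eq_one (IsIrrCharacter.isCharacter θ.2) hθ1,
          hθ1]
    have h1 := hfaith _ hc
    calc h * k = (h * k * h⁻¹ * k⁻¹) * (k * h) := by group
      _ = k * h := by rw [h1, one_mul]
  · right
    push Not at hall
    obtain ⟨θ₀, hm0, hd0⟩ := hall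
    have hsplit := Finset.add_sum_erase Finset.univ (fun θ => m θ * d θ) (Finset.mem_univ θ₀)
    rw [hsum] at hsplit
    have hd3 : 3 ≤ d θ₀ := by
      have h1 := hposθ θ₀
      have h2 := hoddθ θ₀
      omega
    have hm1 : 1 ≤ m θ₀ := Nat.pos_of_ne_zero hm0
    have hle : m θ₀ * d θ₀ ≤ 4 := by omega
    have hd4 : d θ₀ ≤ 4 := by nlinarith
    have hd3' : d θ₀ = 3 := by
      have h2 := hoddθ θ₀
      omega
    have hm1' : m θ₀ = 1 := by
      rw [hd3'] at hle
      omega
    rw [hd3', hm1'] at hsplit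
    have hrest : ∑ θ ∈ Finset.univ.erase θ₀, m θ * d θ = 1 := by omega
    obtain ⟨θ₁, hθ₁, hne1⟩ : ∃ θ ∈ Finset.univ.erase θ₀, m θ * d θ ≠ 0 := by
      by_contra hcon
      push Not at hcon
      rw [Finset.sum_eq_zero hcon] at hrest
      omega
    have hsplit2 := Finset.add_sum_erase (Finset.univ.erase θ₀) (fun θ => m θ * d θ) hθ₁
    rw [hrest] at hsplit2
    have hmd1 : m θ₁ * d θ₁ = 1 := by omega
    have hrest2 : ∑ θ ∈ (Finset.univ.erase θ₀).erase θ₁, m θ * d θ = 0 := by omega
    have hm1θ₁ : m θ₁ = 1 := Nat.eq_one_of_mul_eq_one_right hmd1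
    have hd1θ₁ : d θ₁ = 1 := Nat.eq_one_of_mul_eq_one_left hmd1
    have hzero : ∀ θ ∈ (Finset.univ.erase θ₀).erase θ₁, m θ = 0 := by
      intro θ hθ
      have := (Finset.sum_eq_zero_iff.mp hrest2) θ hθ
      rcases Nat.mul_eq_zero.mp this with h | h
      · exact h
      · exact absurd h (hposθ θ).ne'
    -- the values
    have hval2 : ∀ h : H, χ h = (θ₀ : H → ℂ) h + (θ₁ : H → ℂ) h := by
      intro h
      rw [hval h, ← Finset.add_sum_erase Finset.univ _ (Finset.mem_univ θ₀),
        ← Finset.add_sum_erase (Finset.univ.erase θ₀) _ hθ₁, hm1', hm1θ₁]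
      rw [Finset.sum_eq_zero (fun θ hθ => by rw [hzero θ hθ]; simp)]
      simp
    -- central element
    have hxH : x ∈ H := by
      rw [hHdef, Subgroup.mem_centralizer_singleton_iff]
    have hz : (⟨x, hxH⟩ : H) ∈ Subgroup.center H := by
      rw [Subgroup.mem_center_iff]
      intro g
      apply Subtype.ext
      have hg : (g : G) ∈ Subgroup.centralizer ({x} : Set G) := hHdef ▸ g.2
      rw [Subgroup.mem_centralizer_singleton_iff] at hg
      exact hg
    have hord : orderOf (⟨x, hxH⟩ : H) = orderOf x := Subgroup.orderOf_mk x hxH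
    obtain ⟨c₀, hc₀, hv₀⟩ := irr_center_values θ₀.2 hz
    obtain ⟨c₁, hc₁, hv₁⟩ := irr_center_values θ₁.2 hz
    rw [hord] at hc₀ hc₁
    refine ⟨c₀, c₁, hc₀, hc₁, ?_⟩
    intro k
    have h1 := hval2 ((⟨x, hxH⟩ : H) ^ k)
    rw [hv₀, hv₁, hdegθ, hdegθ, hd3', hd1θ₁] at h1
    have h2 : (((⟨x, hxH⟩ : H) ^ k : H) : G) = x ^ k := rfl
    rw [h2] at h1
    rw [h1]
    push_cast
    ring

theorem card_sylow_sq {G : Type*} [Group G] [Finite G] {p b : ℕ} [hp : Fact p.Prime]
    (hp5 : 5 ≤ p) (hG : Nat.card G = 4 * p ^ 2 * 3 ^ b) (P : Sylow p G) :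
    Nat.card (P : Subgroup G) = p ^ 2 := by
  have h4 : ¬ p ∣ 4 := by
    intro h
    have := Nat.le_of_dvd (by norm_num) h
    omega
  have h3 : ¬ p ∣ 3 ^ b := by
    intro h
    have h' := hp.out.dvd_of_dvd_pow h
    have := Nat.le_of_dvd (by norm_num) h'
    omega
  have hp0 : p ≠ 0 := hp.out.ne_zero
  rw [Sylow.card_eq_multiplicity, hG]
  congr 1
  rw [Nat.factorization_mul (by positivity) (by positivity),
    Nat.factorization_mul (by norm_num) (by positivity)]
  have e1 : (4 : ℕ).factorization p = 0 := Nat.factorization_eq_zero_of_not_dvd h4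
  have e2 : (3 ^ b).factorization p = 0 := Nat.factorization_eq_zero_of_not_dvd h3
  have e3 : (p ^ 2).factorization p = 2 := by
    rw [Nat.factorization_pow]
    simp [hp.out.factorization_self]
  rw [Finsupp.add_apply, Finsupp.add_apply, e1, e2, e3]

/-- **Steps (D) + (E) of case (4B2) of S4501**: if no nontrivial `p`-element commutes with an
involution, a simple group of order `4 p² 3^b` has no faithful irreducible character of
degree `4`. -/
theorem case_4B2_of_no_invol {G : Type*} [Group G] [Finite G] [IsSimpleGroup G]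
    (hna : ∃ x y : G, x * y ≠ y * x)
    (p b : ℕ) (hp : p.Prime) (hp5 : 5 ≤ p) (hG : Nat.card G = 4 * p ^ 2 * 3 ^ b)
    {χ : G → ℂ} (hχ : Cfsg.IsIrrCharacter G χ) (hdeg : χ 1 = 4)
    (hfaith : ∀ g : G, χ g = χ 1 → g = 1)
    (hC : ∀ x t : G, x ≠ 1 → x ^ (p ^ 2) = 1 → orderOf t = 2 → x * t ≠ t * x) : False := by
  haveI : Fact p.Prime := ⟨hp⟩
  haveI : Fact (Nat.Prime 2) := ⟨Nat.prime_two⟩
  have hχc : Cfsg.IsCharacter G χ := IsIrrCharacter.isCharacter hχ
  obtain ⟨P⟩ : Nonempty (Sylow p G) := inferInstance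
  have hP : Nat.card (P : Subgroup G) = p ^ 2 := card_sylow_sq hp5 hG P
  have hPab : ∀ s ∈ (P : Subgroup G), ∀ s' ∈ (P : Subgroup G), s * s' = s' * s := by
    intro s hs s' hs'
    have hc := IsPGroup.commutative_of_card_eq_prime_sq (p := p) (G := (P : Subgroup G)) hP
    have := hc ⟨s, hs⟩ ⟨s', hs'⟩
    exact congrArg Subtype.val this
  have hPpow : ∀ z ∈ (P : Subgroup G), z ^ (p ^ 2) = 1 := by
    intro z hz
    have h1 : (⟨z, hz⟩ : (P : Subgroup G)) ^ Nat.card (P : Subgroup G) = 1 := pow_card_eq_one'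
    rw [hP] at h1
    have := congrArg Subtype.val h1
    simpa using this
  -- (D)
  have hstar : ∀ x ∈ (P : Subgroup G), x ≠ 1 → Subgroup.centralizer ({x} : Set G)
      = Subgroup.centralizer ((P : Subgroup G) : Set G) := by
    intro x hxP hx1
    apply le_antisymm
    · -- C(x) ≤ C(P)
      have hodd : ¬ 2 ∣ Nat.card (Subgroup.centralizer ({x} : Set G)) := by
        intro h2
        obtain ⟨t, ht⟩ := exists_prime_orderOf_dvd_card' (G := Subgroup.centralizer ({x} : Set G))
          2 h2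
        have ht2 : orderOf (t : G) = 2 := by rw [Subgroup.orderOf_coe]; exact ht
        have htx := Subgroup.mem_centralizer_singleton_iff.mp t.2
        exact hC x t hx1 (hPpow x hxP) ht2 htx.symm
      have hPle : (P : Subgroup G) ≤ Subgroup.centralizer ({x} : Set G) := by
        intro s hs
        rw [Subgroup.mem_centralizer_singleton_iff]
        exact hPab s hs x hxP
      rcases centralizer_comm_or_values hχc hdeg hfaith hodd with hcomm | ⟨a, b', ha, hb, hval⟩
      · intro h hh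
        rw [Subgroup.mem_centralizer_iff]
        intro s hs
        exact hcomm s (hPle hs) h hh
      · exfalso
        have h6 : orderOf x ≤ 6 := by
          refine orderOf_le_six_of_values hna hχc hfaith 3 1 ha hb ?_
          intro k
          rw [hval]
          push_cast
          ring
        have hdvd : orderOf x ∣ p ^ 2 := orderOf_dvd_of_pow_eq_one (hPpow x hxP)
        obtain ⟨j, hj2, hj⟩ := (Nat.dvd_prime_pow hp).mp hdvd
        have hj0 : j ≠ 0 := by
          intro h0
          rw [h0, pow_zero] at hj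
          exact hx1 (orderOf_eq_one_iff.mp hj)
        have hple : p ≤ orderOf x := by
          rw [hj]
          calc p = p ^ 1 := (pow_one p).symm
            _ ≤ p ^ j := Nat.pow_le_pow_right hp.pos (Nat.pos_of_ne_zero hj0)
        have hp5' : p = 5 := by
          have hp6 : p ≤ 6 := hple.trans h6
          have : p ≠ 6 := by
            intro h
            rw [h] at hp
            exact absurd hp (by decide)
          omega
        subst hp5'
        have hord5 : orderOf x = 5 := by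
          rw [hj] at h6 ⊢
          have hj1 : j = 1 := by
            by_contra hne
            have : 2 ≤ j := by omega
            have : 5 ^ 2 ≤ 5 ^ j := Nat.pow_le_pow_right (by norm_num) this
            omega
          rw [hj1, pow_one]
        have hx5 : x ^ 5 = 1 := by rw [← hord5]; exact pow_orderOf_eq_one x
        rw [hord5] at ha hb
        exact false_of_type31 hna hG hχc hdeg hfaith hC P (by rw [hP]; norm_num) hxP hx1 hx5 ha hb hval
    · -- C(P) ≤ C(x)
      exact Subgroup.centralizer_le (Set.singleton_subset_iff.mpr hxP)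
  -- (E)
  have hdeg' : Cfsg.charDegree χ = 4 := by
    have h1 := IsCharacter.apply_one_eq_charDegree hχc
    rw [hdeg] at h1
    exact_mod_cast h1.symm
  have hnormal := Cfsg.Agent.Lib.Helper3.BL.normal_of_faithful P hstar 2 hP χ hχc hfaith (by
    rw [hdeg']
    have : 5 ^ 2 ≤ p ^ 2 := Nat.pow_le_pow_left hp5 2
    omega)
  rcases hnormal.eq_bot_or_eq_top with h | h
  · have : Nat.card (P : Subgroup G) = 1 := by rw [h]; exact Subgroup.card_bot
    rw [hP] at this
    have : 5 ^ 2 ≤ p ^ 2 := Nat.pow_le_pow_left hp5 2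
    omega
  · have h1 : Nat.card (P : Subgroup G) = Nat.card G := by rw [h]; exact Subgroup.card_top
    rw [hP, hG] at h1
    have hpos : 0 < p ^ 2 := by positivity
    have hpos3 : 0 < 3 ^ b := by positivity
    nlinarith

end Cfsg.Agent.Lib.Helper9.Lg
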