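import Mathlib
import Cfsg.Prelude
import Cfsg.Agent.Lib.Helper9.J2Da
import Cfsg.Agent.Lib.Helper9.J2Db

set_option autoImplicit false
set_option linter.style.haveILetI false

namespace Cfsg.Agent.Lib.Helper9.J2D

structure Setup {G : Type*} [Group G] (t : G) (V0 R1 : Subgroup G) : Prop where
  ht : orderOf t = 2
  idp : Cfsg.IsInternalDirectProduct V0 R1 (Subgroup.centralizer ({t} : Set G))
  hV : Nat.card V0 = 4
  htV : t ∈ V0
  hR1 : Nonempty (↥R1 ≃* alternatingGroup (Fin 5))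
  hfuse : ∀ t1 ∈ V0, t1 ≠ 1 → ∃ c : G, c * t * c⁻¹ = t1

namespace Setup

variable {G : Type*} [Group G] {t : G} {V0 R1 : Subgroup G}

theorem tt (S : Setup t V0 R1) : t * t = 1 := by
  have := pow_orderOf_eq_one t
  rw [S.ht, pow_two] at this
  exact this

theorem t_ne (S : Setup t V0 R1) : t ≠ 1 := by
  intro h
  have := S.ht
  rw [h, orderOf_one] at this
  norm_num at this

theorem V0_sq (S : Setup t V0 R1) : ∀ v ∈ V0, v * v = 1 := by
  intro v hv
  by_cases h1 : v = 1
  · rw [h1, one_mul]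
  · obtain ⟨c, hc⟩ := S.hfuse v hv h1
    rw [← hc]
    calc c * t * c⁻¹ * (c * t * c⁻¹) = c * (t * t) * c⁻¹ := by group
      _ = 1 := by rw [S.tt]; group

theorem V0_comm (S : Setup t V0 R1) : ∀ a ∈ V0, ∀ b ∈ V0, a * b = b * a := by
  intro a ha b hb
  have h1 := S.V0_sq a ha
  have h2 := S.V0_sq b hb
  have h3 := S.V0_sq (a * b) (V0.mul_mem ha hb)
  calc a * b = a * b * ((b * a) * (b * a)⁻¹) := by group
    _ = (a * (b * b) * a) * (b * a)⁻¹ := by group
    _ = (b * a)⁻¹ := by rw [h2, mul_one, h1, one_mul]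
    _ = b * a := by
        rw [inv_eq_iff_mul_eq_one]
        calc b * a * (b * a) = b * (a * b * (a * b)) * b⁻¹ := by group
          _ = 1 := by rw [h3]; group

theorem mem_R (x : G) : x ∈ Subgroup.centralizer ({t} : Set G) ↔ x * t = t * x := by
  rw [Subgroup.mem_centralizer_iff]
  constructor
  · intro h; exact (h t (Set.mem_singleton t)).symm
  · intro h g hg
    rw [Set.mem_singleton_iff] at hg
    subst hg
    exact h.symm

theorem V0_le (S : Setup t V0 R1) : V0 ≤ Subgroup.centralizer ({t} : Set G) := S.idp.1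
theorem R1_le (S : Setup t V0 R1) : R1 ≤ Subgroup.centralizer ({t} : Set G) := S.idp.2.1
theorem VR_comm (S : Setup t V0 R1) : ∀ a ∈ V0, ∀ b ∈ R1, a * b = b * a := S.idp.2.2.1
theorem VR_inf (S : Setup t V0 R1) : V0 ⊓ R1 = ⊥ := S.idp.2.2.2.1

theorem decomp (S : Setup t V0 R1) (x : G) (hx : x ∈ Subgroup.centralizer ({t} : Set G)) :
    ∃ a ∈ V0, ∃ b ∈ R1, x = a * b := idp_decomp V0 R1 _ S.idp x hx

theorem V0_central (S : Setup t V0 R1) : ∀ v ∈ V0, ∀ r ∈ Subgroup.centralizer ({t} : Set G),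
    v * r = r * v := by
  intro v hv r hr
  obtain ⟨a, ha, b, hb, rfl⟩ := S.decomp r hr
  calc v * (a * b) = (v * a) * b := by group
    _ = (a * v) * b := by rw [S.V0_comm v hv a ha]
    _ = a * (v * b) := by group
    _ = a * (b * v) := by rw [S.VR_comm v hv b hb]
    _ = a * b * v := by group

theorem iso1 (S : Setup t V0 R1) : Nonempty (↥(Subgroup.centralizer ({t} : Set G)) ≃*
    (Multiplicative (ZMod 2) × Multiplicative (ZMod 2)) × alternatingGroup (Fin 5)) := by
  obtain ⟨e⟩ := idp_iso V0 R1 _ S.idp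
  obtain ⟨w⟩ := S.hR1
  obtain ⟨k⟩ := klein_iso S.hV (fun v => Subtype.ext (S.V0_sq v.1 v.2))
  exact ⟨e.trans (MulEquiv.prodCongr k w)⟩

theorem card_R (S : Setup t V0 R1) : Nat.card (Subgroup.centralizer ({t} : Set G)) = 240 := by
  obtain ⟨w⟩ := S.hR1
  rw [idp_card V0 R1 _ S.idp, S.hV, y_card w]

/-- `Z(R1) = 1` inside `G` -/
theorem R1_center (S : Setup t V0 R1) (r : G) (hr : r ∈ R1) (h : ∀ s ∈ R1, r * s = s * r) :
    r = 1 := by
  obtain ⟨w⟩ := S.hR1
  have := y_center w ⟨r, hr⟩ (fun x => Subtype.ext (h x.1 x.2))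
  exact congrArg Subtype.val this

/-- `Z(R) = V0` -/
theorem center_R (S : Setup t V0 R1) (x : G) (hx : x ∈ Subgroup.centralizer ({t} : Set G))
    (h : ∀ r ∈ R1, x * r = r * x) : x ∈ V0 := by
  obtain ⟨a, ha, b, hb, rfl⟩ := S.decomp x hx
  have hb1 : b = 1 := by
    apply S.R1_center b hb
    intro s hs
    have h1 := h s hs
    have h2 := S.VR_comm a ha s hs
    calc b * s = a⁻¹ * (a * b * s) := by group
      _ = a⁻¹ * (s * (a * b)) := by rw [h1]
      _ = a⁻¹ * (s * a) * b := by group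
      _ = a⁻¹ * (a * s) * b := by rw [h2]
      _ = s * b := by group
  rw [hb1, mul_one]; exact ha

theorem cent_t1 [Finite G] (S : Setup t V0 R1) (t1 : G) (ht1 : t1 ∈ V0) (hne : t1 ≠ 1) :
    Subgroup.centralizer ({t1} : Set G) = Subgroup.centralizer ({t} : Set G) := by
  symm
  apply Subgroup.eq_of_le_of_card_ge
  · intro r hr
    rw [Subgroup.mem_centralizer_iff]
    intro g hg
    rw [Set.mem_singleton_iff] at hg
    subst hg
    exact S.V0_central g ht1 r hr
  · obtain ⟨c, hc⟩ := S.hfuse t1 ht1 hne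
    have hmap : (Subgroup.centralizer ({t} : Set G)).map (MulAut.conj c).toMonoidHom =
        Subgroup.centralizer ({t1} : Set G) := by
      ext x
      rw [Subgroup.mem_map]
      constructor
      · rintro ⟨y, hy, rfl⟩
        rw [mem_R] at hy
        rw [Subgroup.mem_centralizer_iff]
        intro g hg
        rw [Set.mem_singleton_iff] at hg
        rw [hg, ← hc]
        show c * t * c⁻¹ * (c * y * c⁻¹) = c * y * c⁻¹ * (c * t * c⁻¹)
        calc c * t * c⁻¹ * (c * y * c⁻¹) = c * (t * y) * c⁻¹ := by group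
          _ = c * (y * t) * c⁻¹ := by rw [hy]
          _ = c * y * c⁻¹ * (c * t * c⁻¹) := by group
      · intro hx
        rw [Subgroup.mem_centralizer_iff] at hx
        have h1 := hx t1 (Set.mem_singleton t1)
        refine ⟨c⁻¹ * x * c, ?_, ?_⟩
        · rw [mem_R]
          rw [← hc] at h1
          calc c⁻¹ * x * c * t = c⁻¹ * (x * (c * t * c⁻¹)) * c := by group
            _ = c⁻¹ * ((c * t * c⁻¹) * x) * c := by rw [h1]
            _ = t * (c⁻¹ * x * c) := by group
        · show c * (c⁻¹ * x * c) * c⁻¹ = x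
          group
    rw [← hmap, Subgroup.card_map_of_injective (MulAut.conj c).injective]

theorem R_le_M [Finite G] (S : Setup t V0 R1) :
    Subgroup.centralizer ({t} : Set G) ≤ Subgroup.normalizer (V0 : Set G) := by
  intro r hr
  rw [Subgroup.mem_normalizer_iff]
  intro v
  constructor
  · intro hv
    have : r * v * r⁻¹ = v := by rw [← S.V0_central v hv r hr]; group
    rw [this]; exact hv
  · intro hv
    have h1 := S.V0_central _ hv r⁻¹ (Subgroup.inv_mem _ hr)
    have : v = r * v * r⁻¹ := by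
      calc v = r⁻¹ * (r * v * r⁻¹) * r := by group
        _ = (r * v * r⁻¹) * r⁻¹ * r := by rw [h1]
        _ = r * v * r⁻¹ := by group
    rw [this]; exact hv

/-- `C_G(V0) = R` -/
theorem cent_V0 (S : Setup t V0 R1) (x : G) :
    (∀ v ∈ V0, x * v = v * x) ↔ x ∈ Subgroup.centralizer ({t} : Set G) := by
  constructor
  · intro h
    rw [mem_R]; exact h t S.htV
  · intro hx v hv
    exact (S.V0_central v hv x hx).symm

theorem normalizes_R (S : Setup t V0 R1) (m : G) (hm : m ∈ Subgroup.normalizer (V0 : Set G))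
    (x : G) (hx : x ∈ Subgroup.centralizer ({t} : Set G)) :
    m * x * m⁻¹ ∈ Subgroup.centralizer ({t} : Set G) := by
  rw [← S.cent_V0]
  intro v hv
  have hv' : m⁻¹ * v * m ∈ V0 := by
    have := (Subgroup.mem_normalizer_iff.mp (Subgroup.inv_mem _ hm) v).mp hv
    simpa using this
  have h1 := (S.cent_V0 x).mpr hx _ hv'
  calc m * x * m⁻¹ * v = m * (x * (m⁻¹ * v * m)) * m⁻¹ := by group
    _ = m * ((m⁻¹ * v * m) * x) * m⁻¹ := by rw [h1]
    _ = v * (m * x * m⁻¹) := by group

theorem fuse_mem_M [Finite G] (S : Setup t V0 R1) (c t1 : G) (ht1 : t1 ∈ V0) (hne : t1 ≠ 1)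
    (hc : c * t * c⁻¹ = t1) : c ∈ Subgroup.normalizer (V0 : Set G) := by
  -- c R c⁻¹ = R
  have hcR : ∀ x ∈ Subgroup.centralizer ({t} : Set G), c * x * c⁻¹ ∈ Subgroup.centralizer ({t} : Set G) := by
    intro x hx
    rw [← S.cent_t1 t1 ht1 hne, Subgroup.mem_centralizer_iff]
    intro g hg
    rw [Set.mem_singleton_iff] at hg
    rw [mem_R] at hx
    rw [hg, ← hc]
    calc c * t * c⁻¹ * (c * x * c⁻¹) = c * (t * x) * c⁻¹ := by group
      _ = c * (x * t) * c⁻¹ := by rw [hx]
      _ = c * x * c⁻¹ * (c * t * c⁻¹) := by group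
  have hcR' : ∀ x ∈ Subgroup.centralizer ({t} : Set G), c⁻¹ * x * c ∈ Subgroup.centralizer ({t} : Set G) := by
    intro x hx
    rw [mem_R]
    have h1 : x ∈ Subgroup.centralizer ({t1} : Set G) := by rw [S.cent_t1 t1 ht1 hne]; exact hx
    rw [Subgroup.mem_centralizer_iff] at h1
    have h2 := h1 t1 (Set.mem_singleton t1)
    rw [← hc] at h2
    calc c⁻¹ * x * c * t = c⁻¹ * (x * (c * t * c⁻¹)) * c := by group
      _ = c⁻¹ * ((c * t * c⁻¹) * x) * c := by rw [h2]
      _ = t * (c⁻¹ * x * c) := by group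
  haveI : Finite (V0 : Set G) := inferInstance
  apply Subgroup.mem_normalizer_fintype
  intro v hv
  apply S.center_R _ (hcR v (S.V0_le hv))
  intro r hr
  have h1 := S.V0_central v hv _ (hcR' r (S.R1_le hr))
  calc c * v * c⁻¹ * r = c * (v * (c⁻¹ * r * c)) * c⁻¹ := by group
    _ = c * ((c⁻¹ * r * c) * v) * c⁻¹ := by rw [h1]
    _ = r * (c * v * c⁻¹) := by group

end Setup

end Cfsg.Agent.Lib.Helper9.J2D
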