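import Mathlib
import Cfsg.Prelude
import Cfsg.Agent.Lib.Helper9.J2Dc

set_option autoImplicit false
set_option linter.style.haveILetI false

namespace Cfsg.Agent.Lib.Helper9.J2D

namespace Setup

variable {G : Type*} [Group G] {t : G} {V0 R1 : Subgroup G}

/-- `R1` is normalized by `R` -/
theorem R1_normal_R (S : Setup t V0 R1) (x : G) (hx : x ∈ Subgroup.centralizer ({t} : Set G))
    (r : G) (hr : r ∈ R1) : x * r * x⁻¹ ∈ R1 := by
  obtain ⟨a, ha, b, hb, rfl⟩ := S.decomp x hx
  have h1 := S.VR_comm a ha r hr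
  have : a * b * r * (a * b)⁻¹ = b * r * b⁻¹ := by
    have h2 := S.VR_comm a ha (b * r * b⁻¹) (R1.mul_mem (R1.mul_mem hb hr) (R1.inv_mem hb))
    calc a * b * r * (a * b)⁻¹ = a * (b * r * b⁻¹) * a⁻¹ := by group
      _ = (b * r * b⁻¹) * a * a⁻¹ := by rw [h2]
      _ = b * r * b⁻¹ := by group
  rw [this]
  exact R1.mul_mem (R1.mul_mem hb hr) (R1.inv_mem hb)

theorem pcore (S : Setup t V0 R1) :
    (Cfsg.pCore 2 ↥(Subgroup.centralizer ({t} : Set G))).map
      (Subgroup.subtype (Subgroup.centralizer ({t} : Set G))) = V0 := by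
  haveI : Fact (Nat.Prime 2) := ⟨Nat.prime_two⟩
  apply le_antisymm
  · rw [Subgroup.map_le_iff_le_comap]
    unfold Cfsg.pCore
    apply sSup_le
    rintro N ⟨hNn, hNp⟩
    intro n hn
    rw [Subgroup.mem_comap]
    show (n : G) ∈ V0
    apply S.center_R _ n.2
    intro r hr
    -- the commutator n r n⁻¹ r⁻¹ lies in N ∩ R1
    obtain ⟨w⟩ := S.hR1
    let ι : ↥R1 →* ↥(Subgroup.centralizer ({t} : Set G)) := Subgroup.inclusion S.R1_le
    have hι : Function.Injective ι := Subgroup.inclusion_injective _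
    have hN1n : (N.comap ι).Normal := hNn.comap ι
    have hN1p : IsPGroup 2 (N.comap ι) := hNp.comap_of_injective ι hι
    have hN1 := y_no_normal_2 w _ hN1n hN1p
    have hrR : r ∈ Subgroup.centralizer ({t} : Set G) := S.R1_le hr
    have hc1 : (n : G) * r * (n : G)⁻¹ * r⁻¹ ∈ R1 :=
      R1.mul_mem (S.R1_normal_R n.1 n.2 r hr) (R1.inv_mem hr)
    have hc2 : (⟨(n : G) * r * (n : G)⁻¹ * r⁻¹, hc1⟩ : ↥R1) ∈ N.comap ι := by
      rw [Subgroup.mem_comap]
      have h3 : ι ⟨(n : G) * r * (n : G)⁻¹ * r⁻¹, hc1⟩ = n * (⟨r, hrR⟩ * n⁻¹ * ⟨r, hrR⟩⁻¹) := by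
        apply Subtype.ext
        show (n : G) * r * (n : G)⁻¹ * r⁻¹ = (n : G) * (r * (n : G)⁻¹ * r⁻¹)
        group
      rw [h3]
      exact N.mul_mem hn (hNn.conj_mem _ (N.inv_mem hn) _)
    rw [hN1, Subgroup.mem_bot] at hc2
    have hc3 : (n : G) * r * (n : G)⁻¹ * r⁻¹ = 1 := congrArg Subtype.val hc2
    calc (n : G) * r = ((n : G) * r * (n : G)⁻¹ * r⁻¹) * r * n := by group
      _ = r * n := by rw [hc3, one_mul]
  · have hmem : V0.subgroupOf (Subgroup.centralizer ({t} : Set G)) ≤
        Cfsg.pCore 2 ↥(Subgroup.centralizer ({t} : Set G)) := by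
      unfold Cfsg.pCore
      apply le_sSup
      refine ⟨⟨?_⟩, ?_⟩
      · intro n hn g
        rw [Subgroup.mem_subgroupOf] at hn ⊢
        have : ((g * n * g⁻¹ : ↥(Subgroup.centralizer ({t} : Set G))) : G) = n := by
          show (g : G) * n * (g : G)⁻¹ = n
          rw [← S.V0_central n hn g g.2]; group
        rw [this]; exact hn
      · apply IsPGroup.of_card (n := 2)
        rw [Nat.card_congr (Subgroup.subgroupOfEquivOfLe S.V0_le).toEquiv, S.hV]
        norm_num
    have := Subgroup.map_mono (f := Subgroup.subtype (Subgroup.centralizer ({t} : Set G))) hmem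
    rw [Subgroup.map_subgroupOf_eq_of_le S.V0_le] at this
    exact this

theorem card_M [Finite G] (S : Setup t V0 R1) :
    Nat.card (Subgroup.normalizer (V0 : Set G)) = 720 := by
  classical
  let M' : Subgroup (ConjAct G) :=
    (Subgroup.normalizer (V0 : Set G)).map (ConjAct.toConjAct (G := G)).toMonoidHom
  have hM'card : Nat.card M' = Nat.card (Subgroup.normalizer (V0 : Set G)) :=
    Subgroup.card_map_of_injective (ConjAct.toConjAct (G := G)).injective
  have hsmul : ∀ (m' : M') (x : G), m' • x = ConjAct.ofConjAct m'.1 * x * (ConjAct.ofConjAct m'.1)⁻¹ :=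
    fun m' x => rfl
  have hmemM' : ∀ a : ConjAct G, a ∈ M' ↔ ConjAct.ofConjAct a ∈ Subgroup.normalizer (V0 : Set G) := by
    intro a
    constructor
    · rintro ⟨m, hm, rfl⟩
      exact hm
    · intro h
      exact ⟨ConjAct.ofConjAct a, h, rfl⟩
  -- orbit
  have horb : MulAction.orbit M' t = {x : G | x ∈ V0 ∧ x ≠ 1} := by
    ext x
    constructor
    · rintro ⟨m', rfl⟩
      have hm := (hmemM' m'.1).mp m'.2
      show m' • t ∈ V0 ∧ m' • t ≠ 1
      rw [hsmul]
      refine ⟨(Subgroup.mem_normalizer_iff.mp hm t).mp S.htV, ?_⟩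
      intro h
      apply S.t_ne
      calc t = (ConjAct.ofConjAct m'.1)⁻¹ * (ConjAct.ofConjAct m'.1 * t * (ConjAct.ofConjAct m'.1)⁻¹) * (ConjAct.ofConjAct m'.1) := by group
        _ = 1 := by rw [h]; group
    · rintro ⟨hx, hx1⟩
      obtain ⟨c, hc⟩ := S.hfuse x hx hx1
      have hcM := S.fuse_mem_M c x hx hx1 hc
      refine ⟨⟨ConjAct.toConjAct c, (hmemM' (ConjAct.toConjAct c)).mpr
        (by rw [ConjAct.ofConjAct_toConjAct]; exact hcM)⟩, ?_⟩
      show (⟨ConjAct.toConjAct c, _⟩ : M') • t = x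
      rw [hsmul]
      exact hc
  have horbcard : (MulAction.orbit M' t).ncard = 3 := by
    rw [horb]
    have h1 : {x : G | x ∈ V0 ∧ x ≠ 1} = (V0 : Set G) \ {1} := by
      ext x; simp [Set.mem_sdiff]
    rw [h1, Set.ncard_sdiff_singleton_of_mem (V0.one_mem)]
    have : (V0 : Set G).ncard = 4 := by
      rw [← S.hV]; exact (Nat.card_coe_set_eq (V0 : Set G)).symm
    rw [this]
  -- stabilizer
  have hstab : Nat.card (MulAction.stabilizer M' t) = 240 := by
    rw [← S.card_R]
    have h1 : (MulAction.stabilizer M' t).map M'.subtype =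
        (Subgroup.centralizer ({t} : Set G)).map (ConjAct.toConjAct (G := G)).toMonoidHom := by
      ext a
      constructor
      · rintro ⟨m', hm', rfl⟩
        have hm' : m' • t = t := hm'
        rw [hsmul] at hm'
        refine ⟨ConjAct.ofConjAct m'.1, ?_, rfl⟩
        rw [SetLike.mem_coe, mem_R]
        calc ConjAct.ofConjAct m'.1 * t = (ConjAct.ofConjAct m'.1 * t * (ConjAct.ofConjAct m'.1)⁻¹) * ConjAct.ofConjAct m'.1 := by group
          _ = t * ConjAct.ofConjAct m'.1 := by rw [hm']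
      · rintro ⟨r, hr, rfl⟩
        have hrM : r ∈ Subgroup.normalizer (V0 : Set G) := S.R_le_M hr
        refine ⟨⟨ConjAct.toConjAct r, (hmemM' (ConjAct.toConjAct r)).mpr
          (by rw [ConjAct.ofConjAct_toConjAct]; exact hrM)⟩, ?_, rfl⟩
        show (⟨ConjAct.toConjAct r, _⟩ : M') • t = t
        rw [hsmul]
        show r * t * r⁻¹ = t
        rw [SetLike.mem_coe, mem_R] at hr
        rw [hr]; group
    have h2 : Nat.card ((Subgroup.centralizer ({t} : Set G)).map (ConjAct.toConjAct (G := G)).toMonoidHom) =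
        Nat.card (Subgroup.centralizer ({t} : Set G)) :=
      Subgroup.card_map_of_injective (ConjAct.toConjAct (G := G)).injective
    rw [← h2, ← h1, Subgroup.card_map_of_injective M'.subtype_injective]
  have hidx := MulAction.index_stabilizer M' t
  rw [horbcard] at hidx
  have := (MulAction.stabilizer M' t).card_mul_index
  rw [hidx, hstab, hM'card] at this
  omega

end Setup

end Cfsg.Agent.Lib.Helper9.J2D
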