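import Mathlib
import Cfsg.Prelude
import Cfsg.Agent.Lib.Helper9.J2Dd
import Cfsg.Agent.Lib.Helper2.ZrAut
import Cfsg.Agent.Lib.Helper4.Sg42G

set_option autoImplicit false
set_option linter.style.haveILetI false

namespace Cfsg.Agent.Lib.Helper9.J2D

namespace Setup

variable {G : Type*} [Group G] {t : G} {V0 R1 : Subgroup G}

/-- `R1` is normalized by `M = N_G(V0)` -/
theorem R1_normal_M [Finite G] (S : Setup t V0 R1) (m : G)
    (hm : m ∈ Subgroup.normalizer (V0 : Set G)) (r : G) (hr : r ∈ R1) : m * r * m⁻¹ ∈ R1 := by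
  obtain ⟨w⟩ := S.hR1
  set R := Subgroup.centralizer ({t} : Set G) with hR
  haveI hn : (R1.subgroupOf R).Normal := by
    refine ⟨?_⟩
    intro n hn g
    rw [Subgroup.mem_subgroupOf] at hn ⊢
    exact S.R1_normal_R g.1 g.2 n.1 hn
  have hcardq : Nat.card (↥R ⧸ R1.subgroupOf R) = 2 ^ 2 := by
    have h1 := Subgroup.card_eq_card_quotient_mul_card_subgroup (R1.subgroupOf R)
    rw [S.card_R, Nat.card_congr (Subgroup.subgroupOfEquivOfLe S.R1_le).toEquiv, y_card w] at h1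
    omega
  haveI : Fact (Nat.Prime 2) := ⟨Nat.prime_two⟩
  have hcomm : ∀ a b : ↥R ⧸ R1.subgroupOf R, a * b = b * a :=
    (IsPGroup.isMulCommutative_of_card_eq_prime_sq hcardq).is_comm.comm
  let θ : ↥R1 →* (↥R ⧸ R1.subgroupOf R) := MonoidHom.mk'
    (fun r => QuotientGroup.mk ⟨m * r.1 * m⁻¹, S.normalizes_R m hm r.1 (S.R1_le r.2)⟩)
    (by
      intro a b
      rw [← QuotientGroup.mk_mul]
      congr 1
      apply Subtype.ext
      show m * (a.1 * b.1) * m⁻¹ = (m * a.1 * m⁻¹) * (m * b.1 * m⁻¹)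
      group)
  have hθ := y_hom_comm w hcomm θ ⟨r, hr⟩
  have hθ' : (QuotientGroup.mk ⟨m * r * m⁻¹, S.normalizes_R m hm r (S.R1_le hr)⟩ :
      ↥R ⧸ R1.subgroupOf R) = 1 := hθ
  rw [QuotientGroup.eq_one_iff, Subgroup.mem_subgroupOf] at hθ'
  exact hθ'

/-- `K0 = C_M(R1)` -/
def K0 (V0 R1 : Subgroup G) : Subgroup G :=
  Subgroup.normalizer (V0 : Set G) ⊓ Subgroup.centralizer (R1 : Set G)

theorem mem_K0 (x : G) : x ∈ K0 V0 R1 ↔
    x ∈ Subgroup.normalizer (V0 : Set G) ∧ ∀ r ∈ R1, x * r = r * x := by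
  unfold K0
  rw [Subgroup.mem_inf, Subgroup.mem_centralizer_iff]
  constructor
  · rintro ⟨h1, h2⟩
    exact ⟨h1, fun r hr => (h2 r hr).symm⟩
  · rintro ⟨h1, h2⟩
    exact ⟨h1, fun r hr => (h2 r hr).symm⟩

theorem V0_le_K0 [Finite G] (S : Setup t V0 R1) : V0 ≤ K0 V0 R1 := by
  intro v hv
  rw [mem_K0]
  exact ⟨S.R_le_M (S.V0_le hv), fun r hr => S.VR_comm v hv r hr⟩

theorem K0_inf_R1 (S : Setup t V0 R1) : K0 V0 R1 ⊓ R1 = ⊥ := by
  rw [eq_bot_iff]
  intro x hx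
  obtain ⟨h1, h2⟩ := Subgroup.mem_inf.mp hx
  rw [mem_K0] at h1
  rw [Subgroup.mem_bot]
  exact S.R1_center x h2 h1.2

theorem R1_le_M [Finite G] (S : Setup t V0 R1) : R1 ≤ Subgroup.normalizer (V0 : Set G) :=
  S.R1_le.trans S.R_le_M

theorem K0_inf_R [Finite G] (S : Setup t V0 R1) (x : G) (hx : x ∈ K0 V0 R1)
    (hxR : x ∈ Subgroup.centralizer ({t} : Set G)) : x ∈ V0 := by
  rw [mem_K0] at hx
  exact S.center_R x hxR hx.2

theorem idp_sup (S : Setup t V0 R1) :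
    Cfsg.IsInternalDirectProduct (K0 V0 R1) R1 (K0 V0 R1 ⊔ R1) :=
  ⟨le_sup_left, le_sup_right, fun a ha b hb => ((mem_K0 a).mp ha).2 b hb, S.K0_inf_R1, rfl⟩

theorem card_K0 [Finite G] (S : Setup t V0 R1) : Nat.card (K0 V0 R1) = 12 := by
  obtain ⟨w⟩ := S.hR1
  set M := Subgroup.normalizer (V0 : Set G) with hM
  -- upper bound
  have hle : K0 V0 R1 ⊔ R1 ≤ M := sup_le inf_le_left S.R1_le_M
  have hd1 : Nat.card (K0 V0 R1) * 60 ∣ 720 := by
    rw [← y_card w, ← idp_card _ _ _ S.idp_sup, ← S.card_M]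
    exact Subgroup.card_dvd_of_le hle
  have hd2 : 4 ∣ Nat.card (K0 V0 R1) := by
    rw [← S.hV]; exact Subgroup.card_dvd_of_le S.V0_le_K0
  -- lower bound through Aut(A5)
  haveI hn : (R1.subgroupOf M).Normal := by
    refine ⟨?_⟩
    intro n hn g
    rw [Subgroup.mem_subgroupOf] at hn ⊢
    exact S.R1_normal_M g.1 g.2 n.1 hn
  let Φ : ↥M →* MulAut ↥(R1.subgroupOf M) := MulAut.conjNormal
  have hΦ : ∀ (g : ↥M) (h : ↥(R1.subgroupOf M)), ((Φ g h : ↥(R1.subgroupOf M)) : ↥M) = g * h * g⁻¹ :=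
    fun g h => MulAut.conjNormal_apply g h
  have haut : Nat.card (MulAut ↥(R1.subgroupOf M)) = 120 := by
    have e1 : ↥(R1.subgroupOf M) ≃* alternatingGroup (Fin 5) :=
      (Subgroup.subgroupOfEquivOfLe S.R1_le_M).trans w
    rw [Nat.card_congr (MulAut.congr e1).toEquiv]
    exact Cfsg.Agent.Lib.Helper2.Zr.card_aut_A5
  have hrange : Nat.card Φ.range ≤ 120 := by
    rw [← haut]; exact Subgroup.card_le_card_group _
  have hker : Nat.card Φ.ker = Nat.card (K0 V0 R1) := by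
    have h1 : Φ.ker.map M.subtype = K0 V0 R1 := by
      ext x
      rw [mem_K0]
      constructor
      · rintro ⟨g, hg, rfl⟩
        rw [SetLike.mem_coe, MonoidHom.mem_ker] at hg
        refine ⟨g.2, ?_⟩
        intro r hr
        have h2 := hΦ g ⟨⟨r, S.R1_le_M hr⟩, Subgroup.mem_subgroupOf.mpr hr⟩
        rw [hg] at h2
        have h3 : r = (g : G) * r * (g : G)⁻¹ := congrArg Subtype.val h2
        show (g : G) * r = r * (g : G)
        calc (g : G) * r = ((g : G) * r * (g : G)⁻¹) * g := by group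
          _ = r * g := by rw [← h3]
      · rintro ⟨hx, hc⟩
        refine ⟨⟨x, hx⟩, ?_, rfl⟩
        rw [SetLike.mem_coe, MonoidHom.mem_ker]
        ext h
        rw [hΦ]
        show x * (h : ↥M).1 * x⁻¹ = (h : ↥M).1
        have := hc _ (Subgroup.mem_subgroupOf.mp h.2)
        rw [this]; group
    rw [← h1, Subgroup.card_map_of_injective M.subtype_injective]
  have hprod : Nat.card Φ.ker * Nat.card Φ.range = 720 := by
    have := Φ.ker.card_mul_index
    rw [Subgroup.index_ker, S.card_M] at this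
    exact this
  rw [hker] at hprod
  have hpos : 0 < Nat.card (K0 V0 R1) := Nat.card_pos
  have h6 : 6 ≤ Nat.card (K0 V0 R1) := by
    by_contra hlt
    push Not at hlt
    have : Nat.card (K0 V0 R1) * Nat.card Φ.range ≤ 5 * 120 := Nat.mul_le_mul (by omega) hrange
    omega
  have h12 : Nat.card (K0 V0 R1) ∣ 12 := by
    have : Nat.card (K0 V0 R1) * 60 ∣ 12 * 60 := hd1
    exact Nat.dvd_of_mul_dvd_mul_right (by norm_num) this
  obtain ⟨k, hk⟩ := hd2
  rw [hk] at h12 h6 ⊢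
  have hk3 : k ∣ 3 := Nat.dvd_of_mul_dvd_mul_left (by norm_num : 0 < 4) (h12 : 4 * k ∣ 4 * 3)
  rcases (Nat.dvd_prime Nat.prime_three).mp hk3 with h | h
  · omega
  · omega

theorem idp_M [Finite G] (S : Setup t V0 R1) :
    Cfsg.IsInternalDirectProduct (K0 V0 R1) R1 (Subgroup.normalizer (V0 : Set G)) := by
  obtain ⟨w⟩ := S.hR1
  have hle : K0 V0 R1 ⊔ R1 ≤ Subgroup.normalizer (V0 : Set G) := sup_le inf_le_left S.R1_le_M
  have heq : K0 V0 R1 ⊔ R1 = Subgroup.normalizer (V0 : Set G) := by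
    apply Subgroup.eq_of_le_of_card_ge hle
    rw [S.card_M, idp_card _ _ _ S.idp_sup, S.card_K0, y_card w]
  have := S.idp_sup
  rw [heq] at this
  exact this

end Setup

end Cfsg.Agent.Lib.Helper9.J2D
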