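import Mathlib
import Cfsg.Prelude
import Cfsg.Agent.Lib.Helper9.J2De

set_option autoImplicit false
set_option linter.style.haveILetI false

namespace Cfsg.Agent.Lib.Helper9.J2D

namespace Setup

variable {G : Type*} [Group G] {t : G} {V0 R1 : Subgroup G}

theorem K0_iso [Finite G] (S : Setup t V0 R1) :
    Nonempty (↥(K0 V0 R1) ≃* alternatingGroup (Fin 4)) := by
  haveI : Fact (Nat.Prime 3) := ⟨Nat.prime_three⟩
  have h3 : 3 ∣ Nat.card (K0 V0 R1) := by rw [S.card_K0]; norm_num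
  obtain ⟨k, hk⟩ := exists_prime_orderOf_dvd_card' 3 h3
  have hk3 : k ^ 3 = 1 := by rw [← hk]; exact pow_orderOf_eq_one k
  have hkR : (k : G) ∉ Subgroup.centralizer ({t} : Set G) := by
    intro h
    have hv := S.K0_inf_R k.1 k.2 h
    have h2 : k * k = 1 := Subtype.ext (S.V0_sq k.1 hv)
    have : orderOf k ∣ 2 := orderOf_dvd_of_pow_eq_one (by rw [pow_two]; exact h2)
    rw [hk] at this
    norm_num at this
  have hidx : (Subgroup.zpowers k).index = 4 := by
    have := (Subgroup.zpowers k).card_mul_index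
    rw [Nat.card_zpowers, hk, S.card_K0] at this
    omega
  have hcard : Nat.card (K0 V0 R1) * 2 = Nat.factorial 4 := by rw [S.card_K0]; rfl
  have hcore : (Subgroup.zpowers k).normalCore = ⊥ := by
    have hle := Subgroup.normalCore_le (Subgroup.zpowers k)
    have hdvd : Nat.card (Subgroup.zpowers k).normalCore ∣ 3 := by
      have := Subgroup.card_dvd_of_le hle
      rwa [Nat.card_zpowers, hk] at this
    rcases (Nat.dvd_prime Nat.prime_three).mp hdvd with h | h
    · exact Subgroup.card_eq_one.mp h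
    · exfalso
      have heq : (Subgroup.zpowers k).normalCore = Subgroup.zpowers k := by
        apply Subgroup.eq_of_le_of_card_ge hle
        rw [h, Nat.card_zpowers, hk]
      have hnorm : (Subgroup.zpowers k).Normal := by
        rw [← heq]; exact Subgroup.normalCore_normal _
      let tt : ↥(K0 V0 R1) := ⟨t, S.V0_le_K0 S.htV⟩
      have h1 : tt * k * tt⁻¹ ∈ Subgroup.zpowers k := hnorm.conj_mem k (Subgroup.mem_zpowers k) tt
      have h2 : tt * k * tt⁻¹ * k⁻¹ ∈ Subgroup.zpowers k :=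
        Subgroup.mul_mem _ h1 (Subgroup.inv_mem _ (Subgroup.mem_zpowers k))
      obtain ⟨n, hn⟩ := Subgroup.mem_zpowers_iff.mp h2
      have hc3 : (tt * k * tt⁻¹ * k⁻¹) ^ 3 = 1 := by
        rw [← hn, ← zpow_natCast, ← zpow_mul, mul_comm, zpow_mul, zpow_natCast, hk3, one_zpow]
      have hkM : (k : G) ∈ Subgroup.normalizer (V0 : Set G) := ((mem_K0 _).mp k.2).1
      have hcV : t * (k : G) * t⁻¹ * (k : G)⁻¹ ∈ V0 := by
        have h4 : (k : G) * t⁻¹ * (k : G)⁻¹ ∈ V0 :=
          (Subgroup.mem_normalizer_iff.mp hkM _).mp (V0.inv_mem S.htV)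
        have := V0.mul_mem S.htV h4
        have h5 : t * ((k : G) * t⁻¹ * (k : G)⁻¹) = t * (k : G) * t⁻¹ * (k : G)⁻¹ := by group
        rw [← h5]; exact this
      have hc2 := S.V0_sq _ hcV
      have hc3' : (t * (k : G) * t⁻¹ * (k : G)⁻¹) ^ 3 = 1 := congrArg Subtype.val hc3
      have gen : ∀ c : G, c * c = 1 → c ^ 3 = 1 → c = 1 := by
        intro c h2 h3
        calc c = c ^ 3 * (c * c)⁻¹ := by group
          _ = 1 := by rw [h3, h2]; group
      have hc1 : t * (k : G) * t⁻¹ * (k : G)⁻¹ = 1 := gen _ hc2 hc3'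
      apply hkR
      rw [mem_R]
      calc (k : G) * t = (t * (k : G) * t⁻¹ * (k : G)⁻¹)⁻¹ * t * k := by group
        _ = t * k := by rw [hc1]; group
  exact Cfsg.Agent.Lib.Helper4.Sg42.iso_alt_of_corefree (Subgroup.zpowers k) 4 hidx hcore hcard

end Setup

theorem partD {G : Type*} [Group G] [Finite G] (t : G) (ht : orderOf t = 2)
    (V0 R1 : Subgroup G)
    (hVB : Cfsg.IsInternalDirectProduct V0 R1 (Subgroup.centralizer ({t} : Set G)))
    (hV : Nat.card V0 = 4) (htV : t ∈ V0)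
    (hR1 : Nonempty (↥R1 ≃* alternatingGroup (Fin 5)))
    (hfuse : ∀ t1 ∈ V0, t1 ≠ 1 → ∃ c : G, c * t * c⁻¹ = t1) :
    Nonempty (↥(Subgroup.centralizer ({t} : Set G)) ≃*
      (Multiplicative (ZMod 2) × Multiplicative (ZMod 2)) × alternatingGroup (Fin 5)) ∧
    Nonempty (↥(Subgroup.normalizer (((Cfsg.pCore 2 ↥(Subgroup.centralizer ({t} : Set G))).map
      (Subgroup.subtype (Subgroup.centralizer ({t} : Set G))) : Subgroup G) : Set G)) ≃*
      alternatingGroup (Fin 4) × alternatingGroup (Fin 5)) := by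
  have S : Setup t V0 R1 := ⟨ht, hVB, hV, htV, hR1, hfuse⟩
  refine ⟨S.iso1, ?_⟩
  rw [S.pcore]
  obtain ⟨e⟩ := idp_iso _ _ _ S.idp_M
  obtain ⟨a⟩ := S.K0_iso
  obtain ⟨w⟩ := S.hR1
  exact ⟨e.trans (MulEquiv.prodCongr a w)⟩

end Cfsg.Agent.Lib.Helper9.J2D
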