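import Mathlib
import Cfsg.Prelude
import Cfsg.Agent.Lib.Helper9.J2Df

set_option autoImplicit false

namespace Cfsg.Agent.Lib.Helper9.J2D

/-- Export of the structure of `N_G(V0) = D × R1` obtained in the proof of `partD`. -/
theorem partD_export {G : Type*} [Group G] [Finite G] (t : G) (ht : orderOf t = 2)
    (V0 R1 : Subgroup G)
    (hVB : Cfsg.IsInternalDirectProduct V0 R1 (Subgroup.centralizer ({t} : Set G)))
    (hV : Nat.card V0 = 4) (htV : t ∈ V0)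
    (hR1 : Nonempty (↥R1 ≃* alternatingGroup (Fin 5)))
    (hfuse : ∀ t1 ∈ V0, t1 ≠ 1 → ∃ c : G, c * t * c⁻¹ = t1) :
    ∃ D : Subgroup G, Cfsg.IsInternalDirectProduct D R1 (Subgroup.normalizer (V0 : Set G)) ∧
      V0 ≤ D ∧ Nat.card D = 12 ∧
      (∀ t1 ∈ V0, t1 ≠ 1 → Subgroup.centralizer ({t1} : Set G) = Subgroup.centralizer ({t} : Set G)) ∧
      Nonempty (↥D ≃* alternatingGroup (Fin 4)) := by
  have S : Setup t V0 R1 := ⟨ht, hVB, hV, htV, hR1, hfuse⟩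
  exact ⟨Setup.K0 V0 R1, S.idp_M, S.V0_le_K0, S.card_K0, fun t1 h1 h2 => S.cent_t1 t1 h1 h2, S.K0_iso⟩

end Cfsg.Agent.Lib.Helper9.J2D
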