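import Mathlib

set_option autoImplicit false
set_option linter.style.haveILetI false

namespace Cfsg.Agent.Lib.Helper9.J2S

theorem card_filter_mem {G : Type*} [Group G] [Fintype G] [DecidableEq G] (H : Subgroup G)
    [DecidablePred (· ∈ H)] : (Finset.univ.filter (· ∈ H)).card = Nat.card H := by
  rw [Nat.card_eq_fintype_card, Fintype.card_subtype]

theorem card_sylow7 {G : Type*} [Group G] [Finite G] (hG : Nat.card G = 604800)
    (P : Sylow 7 G) : Nat.card (P : Subgroup G) = 7 := by
  haveI : Fact (Nat.Prime 7) := ⟨by norm_num⟩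
  obtain ⟨k, hk⟩ := IsPGroup.iff_card.mp P.2
  have h1 := (P : Subgroup G).card_mul_index
  have h2 : ¬ 7 ∣ (P : Subgroup G).index := P.not_dvd_index
  rw [hG] at h1
  have hk' : Nat.card (P : Subgroup G) = 7 ^ k := hk
  rw [hk'] at h1
  have hk3 : k < 2 := by
    by_contra hge
    push Not at hge
    have : 7 ^ 2 ∣ 7 ^ k := pow_dvd_pow 7 hge
    have h3 : 7 ^ 2 ∣ 604800 := by rw [← h1]; exact Dvd.dvd.mul_right this _
    norm_num at h3
  rw [hk']
  interval_cases k
  · exfalso; apply h2; omega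
  · norm_num

theorem arith_k (k idx : ℕ) (hk1 : 1 ≤ k) (hk6 : k ≤ 6) (h : 7 * k * idx = 604800)
    (hmod : idx % 7 = 1) : k = 6 := by
  interval_cases k <;> omega

theorem dvd_seven (c : ℕ) (hc : c ∣ 604800) (h2 : ¬ 2 ∣ c) (h3 : ¬ 3 ∣ c) (h5 : ¬ 5 ∣ c) :
    c ∣ 7 := by
  have c2 : Nat.Coprime c 2 := ((Nat.Prime.coprime_iff_not_dvd Nat.prime_two).mpr h2).symm
  have c3 : Nat.Coprime c 3 := ((Nat.Prime.coprime_iff_not_dvd Nat.prime_three).mpr h3).symm
  have c5 : Nat.Coprime c 5 := ((Nat.Prime.coprime_iff_not_dvd Nat.prime_five).mpr h5).symm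
  have h : Nat.Coprime c (2 ^ 7 * 3 ^ 3 * 5 ^ 2) :=
    Nat.Coprime.mul_right (Nat.Coprime.mul_right (c2.pow_right 7) (c3.pow_right 3)) (c5.pow_right 2)
  have h' : (604800 : ℕ) = (2 ^ 7 * 3 ^ 3 * 5 ^ 2) * 7 := by norm_num
  rw [h'] at hc
  exact h.dvd_of_dvd_mul_left hc

theorem sylow7_final {G : Type*} [Group G] [Finite G] (hG : Nat.card G = 604800) (D : Sylow 7 G)
    (hc : ∀ x : G, (orderOf x = 2 ∨ orderOf x = 3 ∨ orderOf x = 5) →
      ¬ 7 ∣ Nat.card (Subgroup.centralizer ({x} : Set G))) :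
    Subgroup.centralizer ((D : Subgroup G) : Set G) = D ∧
    Nat.card (Subgroup.normalizer ((D : Subgroup G) : Set G)) = 42 ∧
    ¬ IsMulCommutative (Subgroup.normalizer ((D : Subgroup G) : Set G)) := by
  classical
  haveI : Fintype G := Fintype.ofFinite G
  haveI : Fact (Nat.Prime 7) := ⟨by norm_num⟩
  have hD7 : Nat.card (D : Subgroup G) = 7 := card_sylow7 hG D
  set Dg : Subgroup G := (D : Subgroup G) with hDg
  -- a generator
  obtain ⟨y, hyD, hy1⟩ : ∃ y ∈ Dg, y ≠ 1 := by
    by_contra hcon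
    push Not at hcon
    have : Dg = ⊥ := by
      rw [Subgroup.eq_bot_iff_forall]; exact hcon
    rw [this, Subgroup.card_bot] at hD7
    norm_num at hD7
  have hy7 : orderOf y = 7 := by
    have h1 : orderOf (⟨y, hyD⟩ : Dg) ∣ 7 := by
      rw [← hD7]; exact orderOf_dvd_natCard _
    have h2 : orderOf (⟨y, hyD⟩ : Dg) = orderOf y := Subgroup.orderOf_mk y hyD
    rw [h2] at h1
    rcases (Nat.dvd_prime (by norm_num : Nat.Prime 7)).mp h1 with h | h
    · exact absurd (orderOf_eq_one_iff.mp h) hy1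
    · exact h
  have hDz : Dg = Subgroup.zpowers y := by
    symm
    apply Subgroup.eq_of_le_of_card_ge
    · rw [Subgroup.zpowers_le]; exact hyD
    · rw [Nat.card_zpowers, hy7, hD7]
  have hDcomm : ∀ a ∈ Dg, ∀ b ∈ Dg, a * b = b * a := by
    intro a ha b hb
    rw [hDz] at ha hb
    obtain ⟨i, rfl⟩ := Subgroup.mem_zpowers_iff.mp ha
    obtain ⟨j, rfl⟩ := Subgroup.mem_zpowers_iff.mp hb
    rw [← zpow_add, ← zpow_add, add_comm]
  set C := Subgroup.centralizer (Dg : Set G) with hCdef
  have hmemC : ∀ x : G, x ∈ C ↔ x * y = y * x := by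
    intro x
    constructor
    · intro hx
      exact (Subgroup.mem_centralizer_iff.mp hx y hyD).symm
    · intro hx
      rw [hCdef, Subgroup.mem_centralizer_iff]
      intro d hd
      have hd' : d ∈ Subgroup.zpowers y := by rw [← hDz]; exact hd
      obtain ⟨i, rfl⟩ := Subgroup.mem_zpowers_iff.mp hd'
      exact ((Commute.zpow_right (show Commute x y from hx) i).eq).symm
  have hDC : Dg ≤ C := by
    intro a ha
    rw [hmemC]
    exact hDcomm a ha y hyD
  -- no element of order 2,3,5 in C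
  have hnoprime : ∀ r : ℕ, r.Prime → (r = 2 ∨ r = 3 ∨ r = 5) → ¬ r ∣ Nat.card C := by
    intro r hr hr' hdvd
    haveI : Fact r.Prime := ⟨hr⟩
    obtain ⟨x, hx⟩ := exists_prime_orderOf_dvd_card' r hdvd
    have hx' : orderOf (x : G) = r := by rw [Subgroup.orderOf_coe]; exact hx
    have hxo : orderOf (x : G) = 2 ∨ orderOf (x : G) = 3 ∨ orderOf (x : G) = 5 := by
      rw [hx']; exact hr'
    apply hc (x : G) hxo
    have hle : Dg ≤ Subgroup.centralizer ({(x : G)} : Set G) := by
      intro a ha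
      rw [Subgroup.mem_centralizer_singleton_iff]
      exact Subgroup.mem_centralizer_iff.mp x.2 a ha
    rw [← hD7]
    exact Subgroup.card_dvd_of_le hle
  have hCdvd : Nat.card C ∣ 604800 := by rw [← hG]; exact Subgroup.card_subgroup_dvd_card C
  have hC7 : Nat.card C ∣ 7 :=
    dvd_seven _ hCdvd (hnoprime 2 Nat.prime_two (Or.inl rfl))
      (hnoprime 3 Nat.prime_three (Or.inr (Or.inl rfl)))
      (hnoprime 5 Nat.prime_five (Or.inr (Or.inr rfl)))
  have hCcard : Nat.card C = 7 := by
    have h7 : 7 ∣ Nat.card C := by rw [← hD7]; exact Subgroup.card_dvd_of_le hDC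
    exact Nat.dvd_antisymm hC7 h7
  have hCD : C = Dg := by
    symm
    apply Subgroup.eq_of_le_of_card_ge hDC
    rw [hCcard, hD7]
  set N := Subgroup.normalizer (Dg : Set G) with hNdef
  have hDN : Dg ≤ N := Subgroup.le_normalizer
  have hconjD : ∀ n ∈ N, ∀ x ∈ Dg, n * x * n⁻¹ ∈ Dg :=
    fun n hn x hx => (Subgroup.mem_normalizer_iff.mp hn x).mp hx
  -- counting
  let Nset : Finset G := Finset.univ.filter (· ∈ N)
  let Cset : Finset G := Finset.univ.filter (· ∈ C)
  let Tset : Finset G := Finset.univ.filter (fun x => x ∈ Dg ∧ x ≠ 1)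
  have hNset : Nset.card = Nat.card N := card_filter_mem N
  have hCset : Cset.card = 7 := by rw [← hCcard]; exact card_filter_mem C
  have hTset : Tset.card = 6 := by
    have h1 : Tset = (Finset.univ.filter (· ∈ Dg)) \ {1} := by
      ext x; simp [Tset]
    rw [h1, Finset.card_sdiff_of_subset, card_filter_mem, hD7, Finset.card_singleton]
    intro x hx
    simp only [Finset.mem_singleton] at hx
    simp only [Finset.mem_filter, Finset.mem_univ, true_and]
    rw [hx]; exact Dg.one_mem
  let f : G → G := fun n => n * y * n⁻¹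
  have himg : Nset.image f ⊆ Tset := by
    intro v hv
    obtain ⟨n, hn, rfl⟩ := Finset.mem_image.mp hv
    have hnN : n ∈ N := by simpa [Nset] using hn
    simp only [Tset, Finset.mem_filter, Finset.mem_univ, true_and]
    refine ⟨hconjD n hnN y hyD, ?_⟩
    intro h
    apply hy1
    have h' : n * y * n⁻¹ = 1 := h
    have : y = n⁻¹ * (n * y * n⁻¹) * n := by group
    rw [this, h']; group
  have hfib : ∀ v ∈ Nset.image f, (Nset.filter (fun n => f n = v)).card ≤ 7 := by
    intro v hv
    obtain ⟨n0, hn0, hn0v⟩ := Finset.mem_image.mp hv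
    rw [← hCset]
    apply Finset.card_le_card_of_injOn (fun n => n0⁻¹ * n)
    · intro n hn
      have hn' := Finset.mem_filter.mp (Finset.mem_coe.mp hn)
      have hnv : n * y * n⁻¹ = v := hn'.2
      have hn0v' : n0 * y * n0⁻¹ = v := hn0v
      simp only [Cset, Finset.coe_filter, Finset.mem_univ, true_and, Set.mem_ofPred_eq]
      rw [hmemC]
      have h1 : n * y * n⁻¹ = n0 * y * n0⁻¹ := by rw [hnv, hn0v']
      calc n0⁻¹ * n * y = n0⁻¹ * (n * y * n⁻¹) * n := by group
        _ = n0⁻¹ * (n0 * y * n0⁻¹) * n := by rw [h1]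
        _ = y * (n0⁻¹ * n) := by group
    · intro a _ b _ hab
      exact mul_left_cancel hab
  have hle : Nat.card N ≤ 42 := by
    rw [← hNset]
    have h1 := Finset.card_le_mul_card_image (f := f) Nset 7 hfib
    have h2 : (Nset.image f).card ≤ 6 := by
      rw [← hTset]; exact Finset.card_le_card himg
    calc Nset.card ≤ 7 * (Nset.image f).card := h1
      _ ≤ 7 * 6 := Nat.mul_le_mul_left 7 h2
  have h7N : 7 ∣ Nat.card N := by rw [← hD7]; exact Subgroup.card_dvd_of_le hDN
  have hidx : Nat.card N * N.index = 604800 := by rw [← hG]; exact N.card_mul_index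
  have hsyl : Nat.card (Sylow 7 G) ≡ 1 [MOD 7] := card_sylow_modEq_one 7 G
  have hsyl2 : Nat.card (Sylow 7 G) = N.index := Sylow.card_eq_index_normalizer D
  rw [hsyl2] at hsyl
  have hmod : N.index % 7 = 1 := hsyl
  have hNcard : Nat.card N = 42 := by
    obtain ⟨k, hk⟩ := h7N
    rw [hk] at hidx hle ⊢
    have hk1 : 1 ≤ k := by
      rcases Nat.eq_zero_or_pos k with h | h
      · rw [h] at hidx; simp at hidx
      · exact h
    have hk6 : k ≤ 6 := by omega
    have := arith_k k N.index hk1 hk6 hidx hmod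
    rw [this]
  refine ⟨hCD, hNcard, ?_⟩
  intro hcomm
  have hNC : N ≤ C := by
    intro n hn
    rw [hmemC]
    have := hcomm.is_comm.comm (⟨n, hn⟩ : N) ⟨y, hDN hyD⟩
    exact congrArg Subtype.val this
  have := Subgroup.card_le_of_le hNC
  rw [hNcard, hCcard] at this
  omega

end Cfsg.Agent.Lib.Helper9.J2S
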