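import Mathlib
import Cfsg.Agent.Lib.Helper9.J2Sa

set_option autoImplicit false
set_option linter.style.haveILetI false

namespace Cfsg.Agent.Lib.Helper9.J2S

theorem arith_ck (c k idx : ℕ) (hc : c ∣ 25) (hk : k ∣ 6) (h : 7 * c * k * idx = 604800)
    (hmod : idx % 7 = 1) : c = 1 ∧ k = 6 := by
  have hc' : c ∈ Nat.divisors 25 := Nat.mem_divisors.mpr ⟨hc, by norm_num⟩
  have hk' : k ∈ Nat.divisors 6 := Nat.mem_divisors.mpr ⟨hk, by norm_num⟩
  have h25 : Nat.divisors 25 = {1, 5, 25} := by decide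
  have h6 : Nat.divisors 6 = {1, 2, 3, 6} := by decide
  rw [h25] at hc'
  rw [h6] at hk'
  simp only [Finset.mem_insert, Finset.mem_singleton] at hc' hk'
  rcases hc' with rfl | rfl | rfl <;> rcases hk' with rfl | rfl | rfl | rfl <;> omega

theorem dvd_175 (c : ℕ) (hc : c ∣ 604800) (h2 : ¬ 2 ∣ c) (h3 : ¬ 3 ∣ c) :
    c ∣ 175 := by
  have c2 : Nat.Coprime c 2 := ((Nat.Prime.coprime_iff_not_dvd Nat.prime_two).mpr h2).symm
  have c3 : Nat.Coprime c 3 := ((Nat.Prime.coprime_iff_not_dvd Nat.prime_three).mpr h3).symm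
  have h : Nat.Coprime c (2 ^ 7 * 3 ^ 3) :=
    Nat.Coprime.mul_right (c2.pow_right 7) (c3.pow_right 3)
  have h' : (604800 : ℕ) = (2 ^ 7 * 3 ^ 3) * 175 := by norm_num
  rw [h'] at hc
  exact h.dvd_of_dvd_mul_left hc

/-- improved version: only the centralizers of elements of order 2 and 3 are needed. -/
theorem sylow7_final' {G : Type*} [Group G] [Finite G] (hG : Nat.card G = 604800) (D : Sylow 7 G)
    (hc : ∀ x : G, (orderOf x = 2 ∨ orderOf x = 3) →
      ¬ 7 ∣ Nat.card (Subgroup.centralizer ({x} : Set G))) :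
    Subgroup.centralizer ((D : Subgroup G) : Set G) = D ∧
    Nat.card (Subgroup.normalizer ((D : Subgroup G) : Set G)) = 42 ∧
    ¬ IsMulCommutative (Subgroup.normalizer ((D : Subgroup G) : Set G)) := by
  classical
  haveI : Fact (Nat.Prime 7) := ⟨by norm_num⟩
  have hD7 : Nat.card (D : Subgroup G) = 7 := card_sylow7 hG D
  set Dg : Subgroup G := (D : Subgroup G) with hDg
  haveI hcyc : IsCyclic Dg := isCyclic_of_prime_card hD7
  set C := Subgroup.centralizer (Dg : Set G) with hCdef
  have hDC : Dg ≤ C := by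
    intro a ha
    rw [hCdef, Subgroup.mem_centralizer_iff]
    intro b hb
    have hcomm : IsMulCommutative Dg := IsCyclic.isMulCommutative
    have := hcomm.is_comm.comm (⟨b, hb⟩ : Dg) ⟨a, ha⟩
    exact congrArg Subtype.val this
  have hnoprime : ∀ r : ℕ, r.Prime → (r = 2 ∨ r = 3) → ¬ r ∣ Nat.card C := by
    intro r hr hr' hdvd
    haveI : Fact r.Prime := ⟨hr⟩
    obtain ⟨x, hx⟩ := exists_prime_orderOf_dvd_card' r hdvd
    have hx' : orderOf (x : G) = r := by rw [Subgroup.orderOf_coe]; exact hx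
    have hxo : orderOf (x : G) = 2 ∨ orderOf (x : G) = 3 := by
      rw [hx']; exact hr'
    apply hc (x : G) hxo
    have hle : Dg ≤ Subgroup.centralizer ({(x : G)} : Set G) := by
      intro a ha
      rw [Subgroup.mem_centralizer_singleton_iff]
      exact Subgroup.mem_centralizer_iff.mp x.2 a ha
    rw [← hD7]
    exact Subgroup.card_dvd_of_le hle
  have hCdvd : Nat.card C ∣ 604800 := by rw [← hG]; exact Subgroup.card_subgroup_dvd_card C
  have hC175 : Nat.card C ∣ 175 :=
    dvd_175 _ hCdvd (hnoprime 2 Nat.prime_two (Or.inl rfl))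
      (hnoprime 3 Nat.prime_three (Or.inr rfl))
  have h7C : 7 ∣ Nat.card C := by rw [← hD7]; exact Subgroup.card_dvd_of_le hDC
  set N := Subgroup.normalizer (Dg : Set G) with hNdef
  have hDN : Dg ≤ N := Subgroup.le_normalizer
  have hCN : C ≤ N := Subgroup.centralizer_le_normalizer _
  -- N / C embeds in Aut(D)
  have key := Subgroup.card_dvd_of_injective _
    (QuotientGroup.kerLift_injective Dg.normalizerMonoidHom)
  rw [Subgroup.normalizerMonoidHom_ker, ← Subgroup.index, ← Subgroup.relIndex,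
    IsCyclic.card_mulAut, hD7] at key
  have htot : Nat.totient 7 = 6 := by decide
  rw [htot] at key
  have hrel : Nat.card C * C.relIndex N = Nat.card N := by
    have h1 := (C.subgroupOf N).card_mul_index
    have h2 : Nat.card (C.subgroupOf N) = Nat.card C :=
      Nat.card_congr (Subgroup.subgroupOfEquivOfLe hCN).toEquiv
    rw [h2] at h1
    exact h1
  have hidx : Nat.card N * N.index = 604800 := by rw [← hG]; exact N.card_mul_index
  have hsyl : Nat.card (Sylow 7 G) ≡ 1 [MOD 7] := card_sylow_modEq_one 7 G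
  have hsyl2 : Nat.card (Sylow 7 G) = N.index := Sylow.card_eq_index_normalizer D
  rw [hsyl2] at hsyl
  have hmod : N.index % 7 = 1 := hsyl
  obtain ⟨c, hcc⟩ := h7C
  have hc25 : c ∣ 25 := by
    rw [hcc] at hC175
    have : (175 : ℕ) = 7 * 25 := by norm_num
    rw [this] at hC175
    exact Nat.dvd_of_mul_dvd_mul_left (by norm_num) hC175
  have hfin := arith_ck c (C.relIndex N) N.index hc25 key
    (by rw [← hidx, ← hrel, hcc]) hmod
  have hCcard : Nat.card C = 7 := by rw [hcc, hfin.1]
  have hNcard : Nat.card N = 42 := by rw [← hrel, hCcard, hfin.2]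
  have hCD : C = Dg := by
    symm
    apply Subgroup.eq_of_le_of_card_ge hDC
    rw [hCcard, hD7]
  refine ⟨hCD, hNcard, ?_⟩
  intro hcomm
  have hNC : N ≤ C := by
    intro n hn
    rw [hCdef, Subgroup.mem_centralizer_iff]
    intro d hd
    have := hcomm.is_comm.comm (⟨d, hDN hd⟩ : N) ⟨n, hn⟩
    exact congrArg Subtype.val this
  have := Subgroup.card_le_of_le hNC
  rw [hNcard, hCcard] at this
  omega

end Cfsg.Agent.Lib.Helper9.J2S
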