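import Mathlib
import Cfsg.Prelude.Def_MonsterType
import Cfsg.Agent.Lib.Helper9.StronglyEmbedded

set_option autoImplicit false

namespace Cfsg.Agent.Lib.Helper9

open Cfsg

variable {G : Type*} [Group G]

/-- a subgroup of odd order meets a `2`-subgroup trivially -/
theorem inf_eq_bot_of_odd_of_two_group {K R : Subgroup G} [Finite K] (hK : Odd (Nat.card K))
    (hR : IsPGroup 2 R) : K ⊓ R = ⊥ := by
  rw [eq_bot_iff]
  rintro x ⟨hxK, hxR⟩
  obtain ⟨k, hk⟩ := hR ⟨x, hxR⟩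
  have hk' : x ^ (2 ^ k) = 1 := by
    have := congrArg Subtype.val hk
    simpa using this
  have h1 : orderOf x ∣ 2 ^ k := orderOf_dvd_of_pow_eq_one hk'
  have h2 : orderOf x ∣ Nat.card K := by
    have := orderOf_dvd_natCard (⟨x, hxK⟩ : K)
    rwa [Subgroup.orderOf_mk] at this
  have hcop : Nat.Coprime (2 ^ k) (Nat.card K) := by
    apply Nat.Coprime.pow_left
    exact (Nat.coprime_two_left).mpr hK
  have h3 : orderOf x = 1 := Nat.eq_one_of_dvd_coprimes hcop h1 h2
  rw [Subgroup.mem_bot]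
  exact orderOf_eq_one_iff.mp h3

/-- two subgroups normalizing each other and meeting trivially centralize each other -/
theorem commute_of_normalize_of_inf_eq_bot {K Q : Subgroup G} (h : K ⊓ Q = ⊥)
    (hKQ : K ≤ Subgroup.normalizer (Q : Set G)) (hQK : Q ≤ Subgroup.normalizer (K : Set G))
    {k q : G} (hk : k ∈ K) (hq : q ∈ Q) : k * q = q * k := by
  have h1 : k * q * k⁻¹ * q⁻¹ ∈ K ⊓ Q := by
    constructor
    · have h2 : q * k⁻¹ * q⁻¹ ∈ K :=
        (Subgroup.mem_normalizer_iff.mp (hQK hq) k⁻¹).mp (K.inv_mem hk)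
      have h3 : k * q * k⁻¹ * q⁻¹ = k * (q * k⁻¹ * q⁻¹) := by group
      rw [h3]
      exact K.mul_mem hk h2
    · have h2 : k * q * k⁻¹ ∈ Q := (Subgroup.mem_normalizer_iff.mp (hKQ hk) q).mp hq
      exact Q.mul_mem h2 (Q.inv_mem hq)
  rw [h, Subgroup.mem_bot] at h1
  calc k * q = (k * q * k⁻¹ * q⁻¹) * (q * k) := by group
    _ = q * k := by rw [h1, one_mul]

/-- S5420 -/
theorem isLargeExtraspecial_of_center_le_pCore [Finite G] (Q : Subgroup G)
    (hL1 : IsExtraspecial 2 ↥Q)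
    (hL2 : Subgroup.centralizer (Q : Set G) = ((Subgroup.center ↥Q).map Q.subtype))
    (hL3 : Subgroup.centralizer (((Subgroup.center ↥Q).map Q.subtype) : Set G) ≤
      Subgroup.normalizer (Q : Set G))
    (hZ : ((Subgroup.center ↥Q).map Q.subtype) ≤ pCore 2 G) : IsLargeExtraspecial Q := by
  refine ⟨hL1, hL2, hL3, ?_⟩
  intro K hKodd hQK
  have hZQ : (Subgroup.center ↥Q).map Q.subtype ≤ Q := Subgroup.map_subtype_le _
  have hRn : (pCore 2 G).Normal := pCore_normal' 2 G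
  have hKR : K ⊓ pCore 2 G = ⊥ := inf_eq_bot_of_odd_of_two_group hKodd (pCore_isPGroup' 2 G)
  have hKQ' : K ⊓ Q = ⊥ := inf_eq_bot_of_odd_of_two_group hKodd hL1.1.1
  have h1 : K ≤ Subgroup.centralizer (((Subgroup.center ↥Q).map Q.subtype : Subgroup G) : Set G) := by
    intro k hk
    rw [Subgroup.mem_centralizer_iff]
    intro z hz
    have hzQ : z ∈ Q := hZQ hz
    have hzR : z ∈ pCore 2 G := hZ hz
    have h2 : k * z * k⁻¹ * z⁻¹ ∈ K ⊓ pCore 2 G := by
      constructor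
      · have h3 : z * k⁻¹ * z⁻¹ ∈ K :=
          (Subgroup.mem_normalizer_iff.mp (hQK hzQ) k⁻¹).mp (K.inv_mem hk)
        have h4 : k * z * k⁻¹ * z⁻¹ = k * (z * k⁻¹ * z⁻¹) := by group
        rw [h4]
        exact K.mul_mem hk h3
      · exact (pCore 2 G).mul_mem (hRn.conj_mem z hzR k) ((pCore 2 G).inv_mem hzR)
    rw [hKR, Subgroup.mem_bot] at h2
    calc z * k = (k * z * k⁻¹ * z⁻¹)⁻¹ * (k * z) := by group
      _ = k * z := by rw [h2, inv_one, one_mul]
  have h2 : K ≤ Subgroup.normalizer (Q : Set G) := h1.trans hL3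
  have h3 : K ≤ Subgroup.centralizer (Q : Set G) := by
    intro k hk
    rw [Subgroup.mem_centralizer_iff]
    intro q hq
    exact (commute_of_normalize_of_inf_eq_bot hKQ' h2 hQK hk hq).symm
  rw [eq_bot_iff, ← hKQ']
  exact le_inf le_rfl ((h3.trans hL2.le).trans hZQ)

end Cfsg.Agent.Lib.Helper9
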