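import Cfsg.Agent.Lib.Helper9.M24T10

set_option autoImplicit false

namespace Cfsg.Agent.Lib.Helper9.M24T11

open Cfsg Finset Cfsg.Agent.Lib.Helper9.Golay1 Cfsg.Agent.Lib.Helper9.GolayQR1
  Cfsg.Agent.Lib.Helper9.GolayQR3 Cfsg.Agent.Lib.Helper9.GolayQR5 Cfsg.Agent.Lib.Helper9.GolayQR6
  Cfsg.Agent.Lib.Helper9.GolayQR7
  Cfsg.Agent.Lib.Helper9.M24T1 Cfsg.Agent.Lib.Helper9.M24T2 Cfsg.Agent.Lib.Helper9.M24T3
  Cfsg.Agent.Lib.Helper9.M24T4 Cfsg.Agent.Lib.Helper9.M24T5 Cfsg.Agent.Lib.Helper9.M24T6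
  Cfsg.Agent.Lib.Helper9.M24T7 Cfsg.Agent.Lib.Helper9.M24T8 Cfsg.Agent.Lib.Helper9.M24T9
  Cfsg.Agent.Lib.Helper9.M24T10 Cfsg.Agent.Lib.Helper9.Chain1 Cfsg.Agent.Lib.Helper9.Chain2
open scoped Pointwise

theorem exists_from_base (y : Fin 5 ↪ GolayPt) (hy : ∀ i, y i ∈ D12) :
    ∃ g ∈ stabF D12, ∀ i, g (b5 i) = y i := by
  have h := (sharp_bound (stabF D12) D12 5 b5 b5_mem (fun g hg => ((mem_stabF _ _).mp hg).2)
    stabF_D12_trivial).2
  rw [card_D12] at h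
  exact h card_stabF_D12.1 y hy

theorem sharp_D12 (x y : Fin 5 ↪ GolayPt) (hx : ∀ i, x i ∈ D12) (hy : ∀ i, y i ∈ D12) :
    ∃! g : Equiv.Perm GolayPt, g ∈ stabF D12 ∧ ∀ i, g (x i) = y i := by
  obtain ⟨gx, hgx, hgx'⟩ := exists_from_base x hx
  obtain ⟨gy, hgy, hgy'⟩ := exists_from_base y hy
  refine ⟨gy * gx⁻¹, ⟨(stabF D12).mul_mem hgy ((stabF D12).inv_mem hgx), fun i => ?_⟩, ?_⟩
  · rw [Equiv.Perm.mul_apply, ← hgx' i, inv_apply_self', hgy' i]
  · rintro g ⟨hg, hg'⟩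
    have h1 : gy⁻¹ * g * gx = 1 := by
      apply stabF_D12_trivial _
        ((stabF D12).mul_mem ((stabF D12).mul_mem ((stabF D12).inv_mem hgy) hg) hgx)
      intro i
      rw [Equiv.Perm.mul_apply, Equiv.Perm.mul_apply, hgx' i, hg' i, ← hgy' i, inv_apply_self']
    have h2 : g = gy * (gy⁻¹ * g * gx) * gx⁻¹ := by group
    rw [h2, h1, mul_one]

theorem conj_mem_stabF (h g : Equiv.Perm GolayPt) (hh : h ∈ M24) (d : Finset GolayPt) :
    g ∈ stabF (h • d) ↔ h⁻¹ * g * h ∈ stabF d := by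
  rw [mem_stabF, mem_stabF]
  constructor
  · rintro ⟨hg, hgd⟩
    refine ⟨M24.mul_mem (M24.mul_mem (M24.inv_mem hh) hg) hh, ?_⟩
    rw [mul_smul, mul_smul, hgd, inv_smul_smul]
  · rintro ⟨hg, hgd⟩
    have h1 : g = h * (h⁻¹ * g * h) * h⁻¹ := by group
    refine ⟨?_, ?_⟩
    · rw [h1]
      exact M24.mul_mem (M24.mul_mem hh hg) (M24.inv_mem hh)
    · rw [mul_smul, mul_smul] at hgd
      have := congrArg (fun s => h • s) hgd
      simp only [smul_inv_smul] at this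
      exact this

theorem sharp_dodecad (d : Finset GolayPt) (hd : d ∈ dodecads) (x y : Fin 5 ↪ GolayPt)
    (hx : ∀ i, x i ∈ d) (hy : ∀ i, y i ∈ d) :
    ∃! g : Equiv.Perm GolayPt, g ∈ stabF d ∧ ∀ i, g (x i) = y i := by
  obtain ⟨h, hh, rfl⟩ := exists_smul_D12 d hd
  have hmem : ∀ p, p ∈ h • D12 → h⁻¹ p ∈ D12 := by
    intro p hp
    rw [Finset.mem_smul_finset] at hp
    obtain ⟨q, hq, rfl⟩ := hp
    rw [Equiv.Perm.smul_def, inv_apply_self']
    exact hq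
  obtain ⟨g', ⟨hg', hg'xy⟩, huniq⟩ := sharp_D12 (x.trans (h⁻¹).toEmbedding)
    (y.trans (h⁻¹).toEmbedding) (fun i => hmem _ (hx i)) (fun i => hmem _ (hy i))
  refine ⟨h * g' * h⁻¹, ⟨?_, fun i => ?_⟩, ?_⟩
  · rw [conj_mem_stabF h _ hh]
    have : h⁻¹ * (h * g' * h⁻¹) * h = g' := by group
    rw [this]
    exact hg'
  · have := hg'xy i
    simp only [Function.Embedding.trans_apply, Equiv.coe_toEmbedding] at this
    rw [Equiv.Perm.mul_apply, Equiv.Perm.mul_apply, this, apply_inv_self']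
  · rintro g ⟨hg, hgxy⟩
    have h1 := huniq (h⁻¹ * g * h) ⟨(conj_mem_stabF h g hh _).mp hg, fun i => by
      simp only [Function.Embedding.trans_apply, Equiv.coe_toEmbedding]
      rw [Equiv.Perm.mul_apply, Equiv.Perm.mul_apply, apply_inv_self', hgxy i]⟩
    rw [← h1]
    group

/-- an injective 5-tuple of points of a set with at least 5 elements, starting at a given point -/
theorem exists_emb_start (d : Finset GolayPt) (hd : 5 ≤ d.card) (p : GolayPt) (hp : p ∈ d) :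
    ∃ x : Fin 5 ↪ GolayPt, (∀ i, x i ∈ d) ∧ x 0 = p := by
  have h1 : 4 ≤ (d.erase p).card := by rw [card_erase_of_mem hp]; omega
  obtain ⟨s, hs, hs4⟩ := exists_subset_card_eq h1
  have hps : p ∉ s := fun h => notMem_erase p d (hs h)
  have h5 : (insert p s).card = 5 := by rw [card_insert_of_notMem hps, hs4]
  obtain ⟨z, hz⟩ := exists_emb (insert p s) 5 h5
  obtain ⟨i0, hi0⟩ := (hz p).mp (mem_insert_self p s)
  refine ⟨(Equiv.swap 0 i0).toEmbedding.trans z, fun i => ?_, ?_⟩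
  · have : z (Equiv.swap 0 i0 i) ∈ insert p s := (hz _).mpr ⟨_, rfl⟩
    rcases mem_insert.mp this with h | h
    · change z (Equiv.swap 0 i0 i) ∈ d
      rw [h]; exact hp
    · exact mem_of_mem_erase (hs h)
  · change z (Equiv.swap 0 i0 0) = p
    rw [Equiv.swap_apply_left, hi0]

theorem transitive_on_dodecad (d : Finset GolayPt) (hd : d ∈ dodecads) (p q : GolayPt)
    (hp : p ∈ d) (hq : q ∈ d) : ∃ g ∈ stabF d, g p = q := by
  have h12 : d.card = 12 := hd.2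
  obtain ⟨x, hx, hx0⟩ := exists_emb_start d (by omega) p hp
  obtain ⟨y, hy, hy0⟩ := exists_emb_start d (by omega) q hq
  obtain ⟨g, ⟨hg, hgxy⟩, -⟩ := sharp_dodecad d hd x y hx hy
  exact ⟨g, hg, by rw [← hx0, hgxy 0, hy0]⟩

theorem card_stab_point (d : Finset GolayPt) (hd : d ∈ dodecads) (p : GolayPt) (hp : p ∈ d) :
    Nat.card ↥(stabF d ⊓ MulAction.stabilizer (Equiv.Perm GolayPt) p) = 7920 := by
  have h := card_step (stabF d) p d (fun g hg => by
      have := ((mem_stabF d g).mp hg).2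
      rw [← this]
      exact Finset.smul_mem_smul_finset hp)
    (fun q hq => transitive_on_dodecad d hd p q hp hq)
  have h12 : d.card = 12 := hd.2
  rw [card_stabF d hd, h12] at h
  omega

end Cfsg.Agent.Lib.Helper9.M24T11
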