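import Mathlib
import Cfsg.Agent.S0384
import Cfsg.Agent.Lib.Helper8.Sh1

/-!
# The concrete `M11` is sharply 4-transitive on the 11 points of a punctured dodecad
-/

set_option autoImplicit false

open scoped Pointwise
open Cfsg

namespace Cfsg.Agent.Lib.Helper9.M11Conc

/-- the concrete `M11` -/
abbrev HH (d : Finset GolayPt) (p : GolayPt) : Subgroup M24 :=
  MulAction.stabilizer M24 d ⊓ MulAction.stabilizer M24 p

/-- the 11 points of the punctured dodecad -/
abbrev YY (d : Finset GolayPt) (p : GolayPt) : Type := {x : GolayPt // x ∈ d ∧ x ≠ p}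

variable {d : Finset GolayPt} {p : GolayPt}

theorem HH_smul_d (h : HH d p) : ((h : M24) : Equiv.Perm GolayPt) • d = d := by
  have h1 := h.2
  rw [Subgroup.mem_inf] at h1
  exact MulAction.mem_stabilizer_iff.mp h1.1

theorem HH_apply_p (h : HH d p) : ((h : M24) : Equiv.Perm GolayPt) p = p := by
  have h1 := h.2
  rw [Subgroup.mem_inf] at h1
  exact MulAction.mem_stabilizer_iff.mp h1.2

theorem HH_apply_mem (h : HH d p) {x : GolayPt} (hx : x ∈ d) :
    ((h : M24) : Equiv.Perm GolayPt) x ∈ d := by
  have h1 : ((h : M24) : Equiv.Perm GolayPt) • x ∈ ((h : M24) : Equiv.Perm GolayPt) • d :=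
    Finset.smul_mem_smul_finset hx
  rw [HH_smul_d h] at h1
  exact h1

theorem HH_apply_ne (h : HH d p) {x : GolayPt} (hx : x ≠ p) :
    ((h : M24) : Equiv.Perm GolayPt) x ≠ p := by
  intro h1
  apply hx
  apply ((h : M24) : Equiv.Perm GolayPt).injective
  rw [h1, HH_apply_p h]

instance instMulActionYY : MulAction (HH d p) (YY d p) where
  smul h y := ⟨((h : M24) : Equiv.Perm GolayPt) y.1, HH_apply_mem h y.2.1, HH_apply_ne h y.2.2⟩
  one_smul y := by
    apply Subtype.ext
    rfl
  mul_smul g h y := by
    apply Subtype.ext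
    rfl

theorem smul_val (h : HH d p) (y : YY d p) :
    ((h • y : YY d p) : GolayPt) = ((h : M24) : Equiv.Perm GolayPt) y.1 := rfl

theorem card_YY (hd : d ∈ dodecads) (hp : p ∈ d) : Fintype.card (YY d p) = 11 := by
  classical
  rw [Fintype.card_subtype]
  have h1 : Finset.univ.filter (fun x : GolayPt => x ∈ d ∧ x ≠ p) = d.erase p := by
    ext x
    simp only [Finset.mem_filter, Finset.mem_univ, true_and, Finset.mem_erase]
    tauto
  rw [h1, Finset.card_erase_of_mem hp, hd.2]

/-- extend a 4-tuple of the punctured dodecad by the puncture (as a function) -/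
def ext5Fun (x : Fin 4 ↪ YY d p) : Fin 5 → GolayPt :=
  Fin.snoc (α := fun _ => GolayPt) (fun i => ((x i : YY d p) : GolayPt)) p

theorem ext5Fun_castSucc (x : Fin 4 ↪ YY d p) (i : Fin 4) :
    ext5Fun x (Fin.castSucc i) = ((x i : YY d p) : GolayPt) :=
  Fin.snoc_castSucc (α := fun _ => GolayPt) p (fun i => ((x i : YY d p) : GolayPt)) i

theorem ext5Fun_last (x : Fin 4 ↪ YY d p) : ext5Fun x (Fin.last 4) = p :=
  Fin.snoc_last (α := fun _ => GolayPt) p (fun i => ((x i : YY d p) : GolayPt))

theorem ext5Fun_injective (x : Fin 4 ↪ YY d p) : Function.Injective (ext5Fun x) := by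
  intro i j hij
  induction i using Fin.lastCases with
  | last =>
    induction j using Fin.lastCases with
    | last => rfl
    | cast j =>
      exfalso
      rw [ext5Fun_last, ext5Fun_castSucc] at hij
      exact (x j).2.2 hij.symm
  | cast i =>
    induction j using Fin.lastCases with
    | last =>
      exfalso
      rw [ext5Fun_last, ext5Fun_castSucc] at hij
      exact (x i).2.2 hij
    | cast j =>
      rw [ext5Fun_castSucc, ext5Fun_castSucc] at hij
      have h1 : x i = x j := Subtype.ext hij
      rw [x.injective h1]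

/-- extend a 4-tuple of the punctured dodecad by the puncture -/
def ext5 (x : Fin 4 ↪ YY d p) : Fin 5 ↪ GolayPt := ⟨ext5Fun x, ext5Fun_injective x⟩

theorem ext5_castSucc (x : Fin 4 ↪ YY d p) (i : Fin 4) :
    ext5 x (Fin.castSucc i) = ((x i : YY d p) : GolayPt) := ext5Fun_castSucc x i

theorem ext5_last (x : Fin 4 ↪ YY d p) : ext5 x (Fin.last 4) = p := ext5Fun_last x

theorem ext5_mem (hp : p ∈ d) (x : Fin 4 ↪ YY d p) (i : Fin 5) : ext5 x i ∈ d := by
  induction i using Fin.lastCases with
  | last => rw [ext5_last]; exact hp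
  | cast i => rw [ext5_castSucc]; exact (x i).2.1

/-- the concrete `M11` is sharply 4-transitive on the punctured dodecad -/
theorem isSharp (hd : d ∈ dodecads) (hp : p ∈ d) :
    Cfsg.Agent.Lib.Helper8.Sh.IsSharp (HH d p) (YY d p) 4 := by
  constructor
  · -- transitivity on 4-tuples
    rw [MulAction.IsMultiplyPretransitive]
    constructor
    intro x y
    obtain ⟨g, hg, -⟩ := Cfsg.Agent.S0384.result d hd (ext5 x) (ext5 y) (ext5_mem hp x)
      (ext5_mem hp y)
    have hgp : ((g : M24) : Equiv.Perm GolayPt) p = p := by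
      have := hg (Fin.last 4)
      rwa [ext5_last, ext5_last] at this
    have hmem : (g : M24) ∈ HH d p := by
      rw [Subgroup.mem_inf]
      exact ⟨g.2, MulAction.mem_stabilizer_iff.mpr hgp⟩
    refine ⟨⟨(g : M24), hmem⟩, ?_⟩
    apply DFunLike.ext
    intro i
    apply Subtype.ext
    have := hg (Fin.castSucc i)
    rw [ext5_castSucc, ext5_castSucc] at this
    exact this
  · -- trivial stabilizers
    intro x
    rw [eq_bot_iff]
    intro h hh
    rw [MulAction.mem_stabilizer_iff] at hh
    rw [Subgroup.mem_bot]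
    obtain ⟨g, -, huniq⟩ := Cfsg.Agent.S0384.result d hd (ext5 x) (ext5 x) (ext5_mem hp x)
      (ext5_mem hp x)
    have hhd : (h : M24) ∈ MulAction.stabilizer M24 d := by
      have h1 := h.2
      rw [Subgroup.mem_inf] at h1
      exact h1.1
    have h1 : (⟨(h : M24), hhd⟩ : MulAction.stabilizer M24 d) = g := by
      apply huniq
      intro i
      induction i using Fin.lastCases with
      | last =>
        show ((h : M24) : Equiv.Perm GolayPt) (ext5 x (Fin.last 4)) = _
        rw [ext5_last]
        exact HH_apply_p h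
      | cast i =>
        show ((h : M24) : Equiv.Perm GolayPt) (ext5 x (Fin.castSucc i)) = _
        rw [ext5_castSucc]
        have h2 := congrArg (fun f : Fin 4 ↪ YY d p => ((f i : YY d p) : GolayPt)) hh
        exact h2
    have h2 : (1 : MulAction.stabilizer M24 d) = g := by
      apply huniq
      intro i
      rfl
    have h3 : (⟨(h : M24), hhd⟩ : MulAction.stabilizer M24 d) = 1 := by rw [h1, h2]
    have h4 : (h : M24) = 1 := congrArg Subtype.val h3
    exact Subtype.ext h4

end Cfsg.Agent.Lib.Helper9.M11Conc
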