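import Mathlib
import Cfsg.Agent.Lib.Helper6.BlkPReg
import Cfsg.Agent.Lib.Helper6.BlkUniqueBlock
import Cfsg.Agent.Lib.Helper6.BrPrin
import Cfsg.Agent.Lib.Helper6.BlkNormalDef
import Cfsg.Agent.Lib.Helper6.BlkKer
import Cfsg.Agent.Lib.Helper6.Multiplicity
import Cfsg.Agent.Lib.Helper6.BlkLocal

set_option autoImplicit false
set_option linter.unusedSectionVars false
set_option linter.unusedVariables false
set_option linter.style.longLine false
set_option linter.unusedSimpArgs false

set_option maxHeartbeats 1600000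
namespace Cfsg.Agent.Lib.Helper9.Bt
open Cfsg Cfsg.Agent.Lib.Helper6
open scoped ComplexConjugate

section gen

variable {G : Type*} [Group G] [Fintype G]

/-- the `Z`-lemma: if the centralizer of every nontrivial `s`-regular element has index divisible
by `s ^ a`, every irreducible character whose degree is not divisible by `s ^ a` lies in the
principal `s`-block -/
theorem mem_principalBlock_of_not_dvd (s : ℕ) [hs : Fact s.Prime] (M : Ideal Cfsg.AlgInt)
    (hM : Cfsg.IsPModular s M) (a : ℕ)
    (hC : ∀ y : G, y ≠ 1 → ¬ s ∣ orderOf y →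
      s ^ a ∣ (Subgroup.centralizer ({y} : Set G)).index)
    (ψ : Cfsg.IrrCharacter G) (hψ : ¬ s ^ a ∣ Cfsg.charDegree (ψ : G → ℂ)) :
    ψ ∈ Cfsg.principalBlock M G := by
  classical
  rw [principalBlock_eq]
  show Cfsg.SameBlock M ((oneIrr G : Cfsg.IrrCharacter G) : G → ℂ) (ψ : G → ℂ)
  apply sameBlock_of_forall_pRegular hM
  intro y hy
  have hψ1 : (ψ : G → ℂ) 1 ≠ 0 := IsIrrCharacter.apply_one_ne_zero ψ.2
  by_cases hy1 : y = 1
  · subst hy1
    rw [centralChar_one _ hψ1, centralChar_one _ (by
      show ((oneIrr G : Cfsg.IrrCharacter G) : G → ℂ) 1 ≠ 0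
      have : ((oneIrr G : Cfsg.IrrCharacter G) : G → ℂ) 1 = 1 := rfl
      rw [this]; exact one_ne_zero), sub_self]
    exact memLocalIdeal_zero hM
  · obtain ⟨n', hn'⟩ := hC y hy1 hy
    have hd := IsCharacter.apply_one_eq_charDegree (IsIrrCharacter.isCharacter ψ.2)
    have hdpos : 0 < Cfsg.charDegree (ψ : G → ℂ) := IsIrrCharacter.charDegree_pos ψ.2
    obtain ⟨k, m, hm, hkm⟩ := Nat.exists_eq_pow_mul_and_not_dvd hdpos.ne' s hs.out.ne_one
    have hk : k < a := by
      by_contra hcon
      push Not at hcon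
      apply hψ
      rw [hkm]
      exact Dvd.dvd.mul_right (pow_dvd_pow s hcon) m
    have hs0 : (s : ℂ) ≠ 0 := by exact_mod_cast hs.out.ne_zero
    have hm0 : (m : ℂ) ≠ 0 := by
      intro h
      have : m = 0 := by exact_mod_cast h
      rw [this] at hm
      exact hm (dvd_zero s)
    have hsI : Cfsg.MemLocalIdeal M (s : ℂ) := (memLocalIdeal_natCast_iff hM s).mpr dvd_rfl
    apply MemLocalIdeal.sub hM
    · -- principal character
      have h1 : Cfsg.centralChar ((oneIrr G : Cfsg.IrrCharacter G) : G → ℂ) y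
          = (s : ℂ) * ((s ^ (a - 1) * n' : ℕ) : ℂ) := by
        unfold Cfsg.centralChar
        have : ((oneIrr G : Cfsg.IrrCharacter G) : G → ℂ) = fun _ => 1 := rfl
        rw [this, hn']
        have ha : s ^ a = s * s ^ (a - 1) := by
          rw [← pow_succ']; congr 1; omega
        rw [ha]
        push_cast
        ring
      rw [h1]
      exact MemLocalIdeal.mul_right hM hsI (memLocalRing_natCast hM _)
    · have h1 : Cfsg.centralChar (ψ : G → ℂ) y
          = (s : ℂ) * (((s ^ (a - k - 1) * n' : ℕ) : ℂ) * (ψ : G → ℂ) y * ((m : ℂ))⁻¹) := by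
        unfold Cfsg.centralChar
        rw [hd, hkm, hn']
        have ha : s ^ a = s ^ k * s * s ^ (a - k - 1) := by
          rw [← pow_succ, ← pow_add]; congr 1; omega
        rw [ha]
        push_cast
        have hsk : (s : ℂ) ^ k ≠ 0 := pow_ne_zero _ hs0
        field_simp
      rw [h1]
      apply MemLocalIdeal.mul_right hM hsI
      apply MemLocalRing.mul hM
      · apply MemLocalRing.mul hM (memLocalRing_natCast hM _)
        exact memLocalRing_of_isIntegral hM
          (IsCharacter.isIntegral_apply (IsIrrCharacter.isCharacter ψ.2) y)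
      · exact memLocalRing_inv_natCast hM hm

/-- characters outside the principal block vanish on `s`-singular elements, when `s ∥ |G|` and
no nontrivial `s`-regular element centralizes an element of order `s` -/
theorem vanish_of_notMem (s : ℕ) [hs : Fact s.Prime] (M : Ideal Cfsg.AlgInt)
    (hM : Cfsg.IsPModular s M) (h1 : s ∣ Nat.card G) (h2 : ¬ s ^ 2 ∣ Nat.card G)
    (hC : ∀ y : G, y ≠ 1 → ¬ s ∣ orderOf y →
      s ∣ (Subgroup.centralizer ({y} : Set G)).index)
    (ψ : Cfsg.IrrCharacter G) (hψ : ψ ∉ Cfsg.principalBlock M G) (x : G) (hx : s ∣ orderOf x) :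
    (ψ : G → ℂ) x = 0 := by
  classical
  have hd : s ^ 1 ∣ Cfsg.charDegree (ψ : G → ℂ) := by
    by_contra hcon
    exact hψ (mem_principalBlock_of_not_dvd s M hM 1 (by simpa using hC) ψ hcon)
  exact IsIrrCharacter.eq_zero_of_defect_zero ψ.2 s 1 hs.out (by simpa using h1) h2 hd x hx

/-- in a nonabelian simple group a linear character is trivial -/
theorem eq_oneIrr_of_degree_one [IsSimpleGroup G] (hna : ∃ a b : G, a * b ≠ b * a)
    (ψ : Cfsg.IrrCharacter G) (h : Cfsg.charDegree (ψ : G → ℂ) = 1) : ψ = oneIrr G := by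
  have hchar : IsCharacter G (ψ : G → ℂ) := IsIrrCharacter.isCharacter ψ.2
  have h1 : (ψ : G → ℂ) 1 = 1 := by
    rw [IsCharacter.apply_one_eq_charDegree hchar, h]; norm_num
  rcases (charKer_normal hchar).eq_bot_or_eq_top with hk | hk
  · exfalso
    obtain ⟨a, b, hab⟩ := hna
    apply hab
    have : a * b * a⁻¹ * b⁻¹ ∈ charKer hchar := by
      rw [mem_charKer, h1]
      exact IsCharacter.apply_commutator_of_apply_one_eq_one hchar h1 a b
    rw [hk, Subgroup.mem_bot] at this
    calc a * b = (a * b * a⁻¹ * b⁻¹) * (b * a) := by group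
      _ = b * a := by rw [this, one_mul]
  · apply Subtype.ext
    funext x
    have : x ∈ charKer hchar := by rw [hk]; exact Subgroup.mem_top x
    rw [mem_charKer, h1] at this
    exact this

end gen

end Cfsg.Agent.Lib.Helper9.Bt
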