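import Cfsg.Agent.Lib.Helper9.TitsC
import Cfsg.Agent.Lib.Helper7.Rk3Core

set_option autoImplicit false
set_option linter.unusedSectionVars false
set_option linter.unusedVariables false

/-! The Tits group has an elementary abelian subgroup of order 8: three commuting involutions of the
listed Sylow `2`-subgroup of `²F₄(2)` (elements 1, 10 and 643 of the list), which lie in the derived
subgroup as all involutions do. -/

namespace Cfsg.Agent.Lib.Helper9.Rk3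

open Cfsg Cfsg.Lie Cfsg.Agent.Lib.Helper4.LaneMat Cfsg.Agent.Lib.Helper4.F4Tits
  Cfsg.Agent.Lib.Helper9.TitsA Cfsg.Agent.Lib.Helper9.TitsB Cfsg.Agent.Lib.Helper8.FastDec

local notation "tm" => C52.toMat eG
local notation "mu" => C52.mul
local notation "i52" => C52.one

/-- the check on the three packed matrices -/
noncomputable def tiB : Bool :=
  wv (swT 1) fun X => wv (swT 10) fun Y => wv (swT 643) fun Z =>
  wv (mu X Y) fun XY => wv (mu X Z) fun XZ => wv (mu Y Z) fun YZ =>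
    (Nat.beq (mu X X) i52 && (Nat.beq (mu Y Y) i52 && (Nat.beq (mu Z Z) i52 &&
    (Nat.beq XY (mu Y X) && (Nat.beq XZ (mu Z X) && (Nat.beq YZ (mu Z Y) &&
    (!(Nat.beq X i52) && (!(Nat.beq Y i52) && (!(Nat.beq Z i52) && (!(Nat.beq XY i52) &&
    (!(Nat.beq XZ i52) && (!(Nat.beq YZ i52) && !(Nat.beq (mu XY Z) i52)))))))))))))

set_option maxRecDepth 1000000 in
theorem tiB_true : tiB = true := by decide +kernel

theorem ti_facts :
    mu (swT 1) (swT 1) = i52 ∧ mu (swT 10) (swT 10) = i52 ∧ mu (swT 643) (swT 643) = i52 ∧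
    mu (swT 1) (swT 10) = mu (swT 10) (swT 1) ∧ mu (swT 1) (swT 643) = mu (swT 643) (swT 1) ∧
    mu (swT 10) (swT 643) = mu (swT 643) (swT 10) ∧
    swT 1 ≠ i52 ∧ swT 10 ≠ i52 ∧ swT 643 ≠ i52 ∧ mu (swT 1) (swT 10) ≠ i52 ∧
    mu (swT 1) (swT 643) ≠ i52 ∧ mu (swT 10) (swT 643) ≠ i52 ∧
    mu (mu (swT 1) (swT 10)) (swT 643) ≠ i52 := by
  have h := tiB_true
  unfold tiB at h
  simp only [wv_eq, Bool.and_eq_true, Bool.not_eq_true'] at h
  obtain ⟨h1, h2, h3, h4, h5, h6, h7, h8, h9, h10, h11, h12, h13⟩ := h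
  have ne : ∀ X Y : ℕ, Nat.beq X Y = false → X ≠ Y := by
    intro X Y hh e
    rw [e, Nat.beq_refl] at hh
    exact absurd hh (by decide)
  exact ⟨Nat.eq_of_beq_eq_true h1, Nat.eq_of_beq_eq_true h2, Nat.eq_of_beq_eq_true h3,
    Nat.eq_of_beq_eq_true h4, Nat.eq_of_beq_eq_true h5, Nat.eq_of_beq_eq_true h6,
    ne _ _ h7, ne _ _ h8, ne _ _ h9, ne _ _ h10, ne _ _ h11, ne _ _ h12, ne _ _ h13⟩

theorem val_sw_mul (a b : ℕ) : ((sw a * sw b : G52) : M52) = tm (mu (swT a) (swT b)) := by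
  rw [Units.val_mul, val_sw, val_sw, ← C52.toMat_mul eG (swT_valid a) (swT_valid b)]

theorem val_sw_mul3 (a b c : ℕ) :
    ((sw a * sw b * sw c : G52) : M52) = tm (mu (mu (swT a) (swT b)) (swT c)) := by
  rw [Units.val_mul, val_sw_mul, val_sw, ← C52.toMat_mul eG (C52.valid_mul _ _) (swT_valid c)]

theorem eq_one_of_tab (g : G52) (X : ℕ) (hX : X < bnd) (vX : C52.Valid X) (hg : (g : M52) = tm X)
    (h : X = i52) : g = 1 := by
  apply Units.ext
  rw [hg, h, C52.toMat_one]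
  rfl

theorem tab_of_eq_one (g : G52) (X : ℕ) (hX : X < bnd) (vX : C52.Valid X) (hg : (g : M52) = tm X)
    (h : g = 1) : X = i52 := by
  apply packed_inj hX one_lt_bnd vX C52.valid_one
  rw [← hg, h, C52.toMat_one]
  rfl

theorem eq_of_tab (g g' : G52) (X : ℕ) (hg : (g : M52) = tm X) (hg' : (g' : M52) = tm X) : g = g' := by
  apply Units.ext
  rw [hg, hg']

/-- the three involutions in `²F₄(2)` -/
theorem sw_facts :
    sw 1 * sw 1 = 1 ∧ sw 10 * sw 10 = 1 ∧ sw 643 * sw 643 = 1 ∧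
    sw 1 * sw 10 = sw 10 * sw 1 ∧ sw 1 * sw 643 = sw 643 * sw 1 ∧ sw 10 * sw 643 = sw 643 * sw 10 ∧
    sw 1 ≠ 1 ∧ sw 10 ≠ 1 ∧ sw 643 ≠ 1 ∧ sw 1 * sw 10 ≠ 1 ∧ sw 1 * sw 643 ≠ 1 ∧ sw 10 * sw 643 ≠ 1 ∧
    sw 1 * sw 10 * sw 643 ≠ 1 := by
  obtain ⟨h1, h2, h3, h4, h5, h6, h7, h8, h9, h10, h11, h12, h13⟩ := ti_facts
  refine ⟨?_, ?_, ?_, ?_, ?_, ?_, ?_, ?_, ?_, ?_, ?_, ?_, ?_⟩
  · exact eq_one_of_tab _ _ (mul_lt_bnd _ _) (C52.valid_mul _ _) (val_sw_mul 1 1) h1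
  · exact eq_one_of_tab _ _ (mul_lt_bnd _ _) (C52.valid_mul _ _) (val_sw_mul 10 10) h2
  · exact eq_one_of_tab _ _ (mul_lt_bnd _ _) (C52.valid_mul _ _) (val_sw_mul 643 643) h3
  · exact eq_of_tab _ _ _ (val_sw_mul 1 10) (by rw [h4]; exact val_sw_mul 10 1)
  · exact eq_of_tab _ _ _ (val_sw_mul 1 643) (by rw [h5]; exact val_sw_mul 643 1)
  · exact eq_of_tab _ _ _ (val_sw_mul 10 643) (by rw [h6]; exact val_sw_mul 643 10)
  · exact fun e => h7 (tab_of_eq_one _ _ (swT_lt 1) (swT_valid 1) (val_sw 1) e)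
  · exact fun e => h8 (tab_of_eq_one _ _ (swT_lt 10) (swT_valid 10) (val_sw 10) e)
  · exact fun e => h9 (tab_of_eq_one _ _ (swT_lt 643) (swT_valid 643) (val_sw 643) e)
  · exact fun e => h10 (tab_of_eq_one _ _ (mul_lt_bnd _ _) (C52.valid_mul _ _) (val_sw_mul 1 10) e)
  · exact fun e => h11 (tab_of_eq_one _ _ (mul_lt_bnd _ _) (C52.valid_mul _ _) (val_sw_mul 1 643) e)
  · exact fun e => h12 (tab_of_eq_one _ _ (mul_lt_bnd _ _) (C52.valid_mul _ _) (val_sw_mul 10 643) e)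
  · exact fun e => h13 (tab_of_eq_one _ _ (mul_lt_bnd _ _) (C52.valid_mul _ _) (val_sw_mul3 1 10 643) e)

/-- an involution of the list, as an element of the Tits group -/
theorem exists_tits (m : ℕ) (h1 : sw m * sw m = 1) (h2 : sw m ≠ 1) :
    ∃ a : TitsGroup, ((a : ↥(twistedF4 (ZMod 2) 1)) : G52) = sw m := by
  have hR : sw m ∈ R := TitsC.Sy_le_R (TitsC.sw_mem_Sy m)
  have ho : orderOf (⟨sw m, hR⟩ : ↥R) = 2 := by
    apply orderOf_eq_prime
    · rw [pow_two]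
      exact Subtype.ext h1
    · intro e
      exact h2 (congrArg Subtype.val e)
  exact ⟨⟨⟨sw m, hR⟩, TitsC.main _ ho⟩, rfl⟩

/-- unit TI of the farm RK3 -/
theorem rk3_tits : PRankAtLeast 2 3 Lie.TitsGroup := by
  obtain ⟨h1, h2, h3, h4, h5, h6, h7, h8, h9, h10, h11, h12, h13⟩ := sw_facts
  obtain ⟨a, ha⟩ := exists_tits 1 h1 h7
  obtain ⟨b, hb⟩ := exists_tits 10 h2 h8
  obtain ⟨c, hc⟩ := exists_tits 643 h3 h9
  have inj : ∀ x y : TitsGroup, ((x : ↥(twistedF4 (ZMod 2) 1)) : G52) = ((y : ↥(twistedF4 (ZMod 2) 1)) : G52) →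
      x = y := fun x y e => Subtype.ext (Subtype.ext e)
  have cm : ∀ x y : TitsGroup, (((x * y : TitsGroup) : ↥(twistedF4 (ZMod 2) 1)) : G52) =
      ((x : ↥(twistedF4 (ZMod 2) 1)) : G52) * ((y : ↥(twistedF4 (ZMod 2) 1)) : G52) := fun x y => rfl
  have c1 : (((1 : TitsGroup) : ↥(twistedF4 (ZMod 2) 1)) : G52) = 1 := rfl
  have : Finite TitsGroup := inferInstance
  apply Cfsg.Agent.Lib.Helper7.Rk3.prank_three' a b c
  · apply inj; rw [cm, c1, ha]; exact h1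
  · apply inj; rw [cm, c1, hb]; exact h2
  · apply inj; rw [cm, c1, hc]; exact h3
  · apply inj; rw [cm, cm, ha, hb]; exact h4
  · apply inj; rw [cm, cm, ha, hc]; exact h5
  · apply inj; rw [cm, cm, hb, hc]; exact h6
  · intro e; apply h7; rw [← ha, e, c1]
  · intro e; apply h8; rw [← hb, e, c1]
  · intro e; apply h9; rw [← hc, e, c1]
  · intro e; apply h10; rw [← ha, ← hb, ← cm, e, c1]
  · intro e; apply h11; rw [← ha, ← hc, ← cm, e, c1]
  · intro e; apply h12; rw [← hb, ← hc, ← cm, e, c1]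
  · intro e; apply h13; rw [← ha, ← hb, ← hc, ← cm, ← cm, e, c1]

end Cfsg.Agent.Lib.Helper9.Rk3
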