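import Mathlib

set_option autoImplicit false
set_option linter.unusedSectionVars false
set_option linter.unusedVariables false

/-! Abstract splitting lemmas for outer automorphism groups. -/

namespace Cfsg.Agent.Lib.Helper9.AOR

open DihedralGroup

/-- an automorphism of odd order of the dihedral group of order eight is trivial -/
theorem dihedral4_aut_odd (α : MulAut (DihedralGroup 4)) (k : ℕ) (hk : Odd k) (h : α ^ k = 1) :
    α = 1 := by
  -- step 1: `α (r 1)` is `r 1` or its inverse
  have h1 : ∀ x : DihedralGroup 4, x * x ≠ 1 → x = r 1 ∨ x = (r 1)⁻¹ := by decide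
  have hr2 : α (r 1) * α (r 1) ≠ 1 := by
    rw [← map_mul]
    intro h0
    have h3 : (r 1 * r 1 : DihedralGroup 4) = 1 := α.injective (by rw [h0, map_one])
    revert h3
    decide
  have h2 : α (α (r 1)) = r 1 := by
    rcases h1 _ hr2 with h3 | h3
    · rw [h3, h3]
    · rw [h3, map_inv, h3, inv_inv]
  have h3 : ∀ j : ℕ, (α ^ (2 * j)) (r 1) = r 1 := by
    intro j
    induction j with
    | zero => simp
    | succ j ih =>
      rw [Nat.mul_succ, pow_add, MulAut.mul_apply, pow_two, MulAut.mul_apply, h2, ih]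
  have hα1 : α (r 1) = r 1 := by
    obtain ⟨j, hj⟩ := hk
    have h4 : α = α ^ (2 * (j + 1)) := by
      have : 2 * (j + 1) = k + 1 := by omega
      rw [this, pow_succ, h, one_mul]
    rw [h4]
    exact h3 _
  have hαn : ∀ n : ℕ, (α ^ n) (r 1) = r 1 := by
    intro n
    induction n with
    | zero => simp
    | succ n ih => rw [pow_succ, MulAut.mul_apply, hα1, ih]
  have hαr : ∀ i : ZMod 4, α (r i) = r i := by
    intro i
    have h5 : (r i : DihedralGroup 4) = (r 1) ^ i.val := by
      rw [r_one_pow, ZMod.natCast_zmod_val]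
    rw [h5, map_pow, hα1]
  -- step 2: `α (sr 0)` is a reflection
  obtain ⟨i, hi⟩ : ∃ i : ZMod 4, α (sr 0) = sr i := by
    rcases hx : α (sr 0) with j | j
    · exfalso
      have h6 : α (sr 0) = α (r j) := by rw [hx, hαr]
      have h7 := α.injective h6
      cases h7
    · exact ⟨j, rfl⟩
  have hs : ∀ n : ℕ, (α ^ n) (sr 0) = sr 0 * (r 1) ^ (n * i.val) := by
    intro n
    induction n with
    | zero => simp
    | succ n ih =>
      have h8 : (sr i : DihedralGroup 4) = sr 0 * (r 1) ^ i.val := by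
        rw [r_one_pow, sr_mul_r, zero_add, ZMod.natCast_zmod_val]
      rw [pow_succ, MulAut.mul_apply, hi, h8, map_mul, map_pow, hαn, ih, mul_assoc, ← pow_add,
        Nat.succ_mul]
  have h9 := hs k
  rw [h, MulAut.one_apply] at h9
  have h10 : ((r 1 : DihedralGroup 4)) ^ (k * i.val) = 1 := by
    have := mul_left_cancel (a := (sr 0 : DihedralGroup 4)) (b := 1) (c := (r 1) ^ (k * i.val))
      (by rw [mul_one]; exact h9)
    exact this.symm
  have h11 : 4 ∣ k * i.val := by
    have := orderOf_dvd_of_pow_eq_one h10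
    rwa [orderOf_r_one] at this
  have h12 : i = 0 := by
    have hcop : Nat.Coprime 4 k := by
      have : Nat.Coprime (2 ^ 2) k := Nat.Coprime.pow_left 2 (Nat.coprime_two_left.mpr hk)
      exact this
    have h13 : 4 ∣ i.val := hcop.dvd_of_dvd_mul_left h11
    have h14 : i.val < 4 := ZMod.val_lt i
    have h15 : i.val = 0 := by omega
    exact (ZMod.val_eq_zero i).mp h15
  rw [h12] at hi
  apply MulEquiv.ext
  intro g
  rw [MulAut.one_apply]
  rcases g with j | j
  · exact hαr j
  · have h16 : (sr j : DihedralGroup 4) = sr 0 * r j := by rw [sr_mul_r, zero_add]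
    rw [h16, map_mul, hi, hαr]


theorem card_of_surj' {A B : Type*} [Group A] [Group B] (Φ : A →* B)
    (hs : Function.Surjective Φ) : Nat.card A = Nat.card Φ.ker * Nat.card B := by
  rw [← Subgroup.card_mul_index Φ.ker, Subgroup.index_ker, MonoidHom.range_eq_top.mpr hs,
    Subgroup.card_top]

/-- an extension of a cyclic group of odd order `f` by a dihedral group of order eight splits as a
direct product -/
theorem exists_equiv_D8_cyclic {G R : Type*} [Group G] [Group R] [Finite G] (f : ℕ)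
    (hfodd : Odd f) (τ : G →* R) (hτ : Function.Surjective τ)
    (e : ↥τ.ker ≃* DihedralGroup 4) (hR : IsCyclic R) (hRc : Nat.card R = f) :
    Nonempty (G ≃* DihedralGroup 4 × Multiplicative (ZMod f)) := by
  have hfpos : 0 < f := hfodd.pos
  haveI : Finite R := Finite.of_surjective τ hτ
  obtain ⟨ρ, hρ⟩ := IsCyclic.exists_generator (α := R)
  have hρord : orderOf ρ = f := by
    rw [← hRc]
    exact orderOf_eq_card_of_forall_mem_zpowers hρ
  obtain ⟨w, hw⟩ := hτ ρ
  have hK8 : Nat.card ↥τ.ker = 8 := by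
    rw [Nat.card_congr e.toEquiv, DihedralGroup.nat_card]
  obtain ⟨w₀, hw₀⟩ : ∃ w₀ : G, w₀ = w ^ 8 := ⟨_, rfl⟩
  have hwf : w ^ f ∈ τ.ker := by
    rw [MonoidHom.mem_ker, map_pow, hw, ← hρord, pow_orderOf_eq_one]
  have hw₀f : w₀ ^ f = 1 := by
    rw [hw₀, ← pow_mul, mul_comm, pow_mul]
    have h1 : (⟨w ^ f, hwf⟩ : ↥τ.ker) ^ 8 = 1 := by
      rw [← hK8]
      exact pow_card_eq_one'
    exact congrArg Subtype.val h1
  have hτw₀ : orderOf (τ w₀) = f := by
    rw [hw₀, map_pow, hw]
    have hcop : (orderOf ρ).Coprime 8 := by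
      rw [hρord]
      have : Nat.Coprime f (2 ^ 3) := Nat.Coprime.pow_right 3 (Nat.coprime_two_right.mpr hfodd)
      exact this
    rw [hcop.orderOf_pow, hρord]
  have hw₀ord : orderOf w₀ = f := by
    apply Nat.dvd_antisymm (orderOf_dvd_of_pow_eq_one hw₀f)
    rw [← hτw₀]
    exact orderOf_map_dvd τ w₀
  -- conjugation by `w₀` is trivial on the kernel
  have hconj : (MulAut.conjNormal w₀ : MulAut ↥τ.ker) = 1 := by
    have h1 : (MulAut.conjNormal w₀ : MulAut ↥τ.ker) ^ f = 1 := by
      rw [← map_pow, hw₀f, map_one]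
    have h2 : (MulAut.congr e (MulAut.conjNormal w₀ : MulAut ↥τ.ker)) ^ f = 1 := by
      rw [← map_pow, h1, map_one]
    have h3 := dihedral4_aut_odd _ f hfodd h2
    exact (MulAut.congr e).injective (by rw [h3, map_one])
  have hcomm : ∀ (k : ↥τ.ker) (z : ↥(Subgroup.zpowers w₀)),
      Commute (τ.ker.subtype k) ((Subgroup.zpowers w₀).subtype z) := by
    intro k z
    obtain ⟨n, hn⟩ := Subgroup.mem_zpowers_iff.mp z.2
    have h1 : w₀ * k * w₀⁻¹ = k := by
      have := congrArg (fun ψ : MulAut ↥τ.ker => ((ψ k : ↥τ.ker) : G)) hconj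
      simpa [MulAut.conjNormal_apply] using this
    have h2 : Commute (k : G) w₀ := by
      show (k : G) * w₀ = w₀ * k
      calc (k : G) * w₀ = (w₀ * k * w₀⁻¹) * w₀ := by rw [h1]
        _ = w₀ * k := by group
    show Commute (k : G) (z : G)
    rw [← hn]
    exact h2.zpow_right n
  obtain ⟨Φ, hΦ⟩ : ∃ Φ : ↥τ.ker × ↥(Subgroup.zpowers w₀) →* G,
      ∀ k z, Φ (k, z) = (k : G) * (z : G) :=
    ⟨MonoidHom.noncommCoprod τ.ker.subtype (Subgroup.zpowers w₀).subtype hcomm, fun k z => by
      rw [MonoidHom.noncommCoprod_apply]; rfl⟩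
  have hinj : Function.Injective Φ := by
    rw [injective_iff_map_eq_one]
    rintro ⟨k, z⟩ h
    rw [hΦ] at h
    obtain ⟨n, hn⟩ := Subgroup.mem_zpowers_iff.mp z.2
    have h1 := congrArg τ h
    rw [map_mul, MonoidHom.mem_ker.mp k.2, one_mul, map_one, ← hn, map_zpow] at h1
    have h2 : (f : ℤ) ∣ n := by
      rw [← hτw₀]
      exact orderOf_dvd_iff_zpow_eq_one.mpr h1
    have h3 : (z : G) = 1 := by
      rw [← hn]
      apply orderOf_dvd_iff_zpow_eq_one.mp
      rw [hw₀ord]
      exact h2
    rw [h3, mul_one] at h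
    have hk1 : k = 1 := Subtype.ext h
    have hz1 : z = 1 := Subtype.ext h3
    rw [hk1, hz1]
    rfl
  have hcardZ : Nat.card ↥(Subgroup.zpowers w₀) = f := by
    rw [Nat.card_zpowers, hw₀ord]
  have hbij : Function.Bijective Φ := by
    rw [Nat.bijective_iff_injective_and_card]
    refine ⟨hinj, ?_⟩
    rw [Nat.card_prod, hK8, hcardZ, card_of_surj' τ hτ, hK8, hRc]
  obtain ⟨eZ⟩ : Nonempty (↥(Subgroup.zpowers w₀) ≃* Multiplicative (ZMod f)) := by
    have hcyc : IsCyclic ↥(Subgroup.zpowers w₀) := inferInstance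
    have := (zmodCyclicMulEquiv hcyc).symm
    rw [hcardZ] at this
    exact ⟨this⟩
  exact ⟨(MulEquiv.ofBijective Φ hbij).symm.trans (MulEquiv.prodCongr e eZ)⟩

/-- an extension of a cyclic group of order `f` by a four-group, with a central lift of a generator
whose `f`-th power is nontrivial -/
theorem exists_equiv_two_2f {G R : Type*} [Group G] [Group R] [Finite G] (f : ℕ) (hf : 0 < f)
    (τ : G →* R) (hτ : Function.Surjective τ) (hRc : Nat.card R = f)
    (hk4 : Nat.card ↥τ.ker = 4) (hexp : ∀ k ∈ τ.ker, k * k = 1) (x : G)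
    (hx : ∀ r : R, r ∈ Subgroup.zpowers (τ x)) (hxf : x ^ f ≠ 1)
    (hcomm : ∀ k ∈ τ.ker, x * k = k * x) :
    Nonempty (G ≃* Multiplicative (ZMod 2 × ZMod (2 * f))) := by
  haveI : Finite R := Finite.of_surjective τ hτ
  have hτord : orderOf (τ x) = f := by
    rw [← hRc]
    exact orderOf_eq_card_of_forall_mem_zpowers hx
  have hxfK : x ^ f ∈ τ.ker := by
    rw [MonoidHom.mem_ker, map_pow, ← hτord, pow_orderOf_eq_one]
  have hxf2 : x ^ f * x ^ f = 1 := hexp _ hxfK
  have hx2f : x ^ (2 * f) = 1 := by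
    rw [two_mul, pow_add]
    exact hxf2
  have hxord : orderOf x = 2 * f := by
    have h1 : orderOf x ∣ 2 * f := orderOf_dvd_of_pow_eq_one hx2f
    have h2 : f ∣ orderOf x := by
      rw [← hτord]
      exact orderOf_map_dvd τ x
    obtain ⟨t, ht⟩ := h2
    rw [ht, mul_comm 2 f] at h1
    have h3 : t ∣ 2 := Nat.dvd_of_mul_dvd_mul_left hf h1
    rcases (Nat.dvd_prime Nat.prime_two).mp h3 with h4 | h4
    · exfalso
      apply hxf
      rw [h4, mul_one] at ht
      rw [← ht]
      exact pow_orderOf_eq_one x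
    · rw [ht, h4, mul_comm]
  -- choose a third element of the kernel
  obtain ⟨d, hd1, hdx⟩ : ∃ d : ↥τ.ker, d ≠ 1 ∧ (d : G) ≠ x ^ f := by
    by_contra hcon
    push Not at hcon
    classical
    have hinj : Function.Injective (fun d : ↥τ.ker => decide (d = 1)) := by
      intro d d' hdd
      simp only [decide_eq_decide] at hdd
      by_cases h1 : d = 1
      · rw [h1]
        exact (hdd.mp h1).symm
      · have h2 : d' ≠ 1 := fun h => h1 (hdd.mpr h)
        apply Subtype.ext
        rw [hcon d h1, hcon d' h2]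
    have := Nat.card_le_card_of_injective _ hinj
    rw [hk4] at this
    simp at this
  have hdd : (d : G) * d = 1 := hexp _ d.2
  have hdord : orderOf (d : G) = 2 := by
    apply orderOf_eq_prime
    · rw [pow_two]; exact hdd
    · intro h
      apply hd1
      exact Subtype.ext h
  have hcomm' : ∀ (u : ↥(Subgroup.zpowers (d : G))) (v : ↥(Subgroup.zpowers x)),
      Commute ((Subgroup.zpowers (d : G)).subtype u) ((Subgroup.zpowers x).subtype v) := by
    intro u v
    obtain ⟨i, hi⟩ := Subgroup.mem_zpowers_iff.mp u.2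
    obtain ⟨j, hj⟩ := Subgroup.mem_zpowers_iff.mp v.2
    have h0 : Commute (d : G) x := (hcomm _ d.2).symm
    show Commute (u : G) (v : G)
    rw [← hi, ← hj]
    exact (h0.zpow_right j).zpow_left i
  obtain ⟨Φ, hΦ⟩ : ∃ Φ : ↥(Subgroup.zpowers (d : G)) × ↥(Subgroup.zpowers x) →* G,
      ∀ u v, Φ (u, v) = (u : G) * (v : G) :=
    ⟨MonoidHom.noncommCoprod (Subgroup.zpowers (d : G)).subtype (Subgroup.zpowers x).subtype hcomm',
      fun u v => by rw [MonoidHom.noncommCoprod_apply]; rfl⟩
  have hinj : Function.Injective Φ := by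
    rw [injective_iff_map_eq_one]
    rintro ⟨u, v⟩ h
    rw [hΦ] at h
    obtain ⟨i, hi⟩ := Subgroup.mem_zpowers_iff.mp u.2
    obtain ⟨j, hj⟩ := Subgroup.mem_zpowers_iff.mp v.2
    have huK : (u : G) ∈ τ.ker := by
      rw [← hi]
      exact Subgroup.zpow_mem _ d.2 i
    have h1 := congrArg τ h
    rw [map_mul, MonoidHom.mem_ker.mp huK, one_mul, map_one, ← hj, map_zpow] at h1
    have h2 : (f : ℤ) ∣ j := by
      rw [← hτord]
      exact orderOf_dvd_iff_zpow_eq_one.mpr h1
    obtain ⟨t, ht⟩ := h2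
    have hv : (v : G) = 1 ∨ (v : G) = x ^ f := by
      rw [← hj, ht, zpow_mul, zpow_natCast]
      rcases Int.even_or_odd t with ⟨s, hs⟩ | ⟨s, hs⟩
      · left
        rw [hs, ← two_mul, zpow_mul, zpow_ofNat, pow_two, hxf2, one_zpow]
      · right
        rw [hs, zpow_add, zpow_mul, zpow_ofNat, pow_two, hxf2, one_zpow, one_mul, zpow_one]
    have hu : (u : G) = 1 ∨ (u : G) = d := by
      rw [← hi]
      rcases Int.even_or_odd i with ⟨s, hs⟩ | ⟨s, hs⟩
      · left
        rw [hs, ← two_mul, zpow_mul, zpow_ofNat, pow_two, hdd, one_zpow]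
      · right
        rw [hs, zpow_add, zpow_mul, zpow_ofNat, pow_two, hdd, one_zpow, one_mul, zpow_one]
    have hu1 : (u : G) = 1 := by
      rcases hu with hu | hu
      · exact hu
      · exfalso
        rw [hu] at h
        rcases hv with hv | hv
        · rw [hv, mul_one] at h
          exact hd1 (Subtype.ext h)
        · rw [hv] at h
          apply hdx
          calc (d : G) = d * (d * x ^ f) := by rw [h, mul_one]
            _ = (d * d) * x ^ f := by group
            _ = x ^ f := by rw [hdd, one_mul]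
    rw [hu1, one_mul] at h
    have : u = 1 := Subtype.ext hu1
    have : v = 1 := Subtype.ext h
    subst_vars
    rfl
  have hcardD : Nat.card ↥(Subgroup.zpowers (d : G)) = 2 := by
    rw [Nat.card_zpowers, hdord]
  have hcardX : Nat.card ↥(Subgroup.zpowers x) = 2 * f := by
    rw [Nat.card_zpowers, hxord]
  have hbij : Function.Bijective Φ := by
    rw [Nat.bijective_iff_injective_and_card]
    refine ⟨hinj, ?_⟩
    rw [Nat.card_prod, hcardD, hcardX, card_of_surj' τ hτ, hk4, hRc]
    ring
  obtain ⟨eD⟩ : Nonempty (↥(Subgroup.zpowers (d : G)) ≃* Multiplicative (ZMod 2)) := by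
    have hcyc : IsCyclic ↥(Subgroup.zpowers (d : G)) := inferInstance
    have := (zmodCyclicMulEquiv hcyc).symm
    rw [hcardD] at this
    exact ⟨this⟩
  obtain ⟨eX⟩ : Nonempty (↥(Subgroup.zpowers x) ≃* Multiplicative (ZMod (2 * f))) := by
    have hcyc : IsCyclic ↥(Subgroup.zpowers x) := inferInstance
    have := (zmodCyclicMulEquiv hcyc).symm
    rw [hcardX] at this
    exact ⟨this⟩
  exact ⟨((MulEquiv.ofBijective Φ hbij).symm.trans (MulEquiv.prodCongr eD eX)).trans
    (MulEquiv.prodMultiplicative (ZMod 2) (ZMod (2 * f))).symm⟩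

end Cfsg.Agent.Lib.Helper9.AOR
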