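import Mathlib
import Cfsg.Prelude
import Cfsg.Agent.Lib.Helper5.OmegaSimple
import Cfsg.Agent.Lib.Helper5.MaxTS
import Cfsg.Agent.Lib.Helper9.AOR41
import Cfsg.Agent.Lib.Helper9.AOR39
import Cfsg.Agent.Lib.Helper9.AOR38

set_option autoImplicit false
set_option linter.unusedSectionVars false
set_option linter.unusedVariables false
open Cfsg

namespace Cfsg.Agent.Lib.Helper9.AOR

open Matrix QuadraticMap Cfsg.Agent.Lib.Helper5.CartanDieudonne Cfsg.Agent.Lib.Helper5.Refl
  Cfsg.Agent.Lib.Helper5.OrthCard Cfsg.Agent.Lib.Helper5.Siegel Cfsg.Agent.Lib.Helper5.QuadIsom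
  Cfsg.Agent.Lib.Helper5.ReflGen Cfsg.Agent.Lib.Helper5.Eichler Cfsg.Agent.Lib.Helper5.SingGeom
  Cfsg.Agent.Lib.Helper5.OmegaGen Cfsg.Agent.Lib.Helper5.OmegaSimple

variable {ι : Type} [Fintype ι] [DecidableEq ι] {F : Type*} [Field F] [Fintype F]
  (Q : QuadraticForm F (ι → F))

/-! The outer automorphism group of `PΩ⁻_{2m}(q)`, `q` odd. -/

section kerequiv
open scoped LinearAlgebra.Projectivization Pointwise
open Cfsg.Agent.Lib.Helper5.MaxTS Module Cfsg.Agent.Lib.Helper5.OAut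
  Cfsg.Agent.Lib.Helper5.SpinorNorm Cfsg.Agent.Lib.Helper5.SpinorHyp
  Cfsg.Agent.Lib.Helper5.SpinorDiag
attribute [local instance 2000] omSMul omAction omSMulComm singSMul singAction

variable {Q}

/-- the kernel of the field automorphism map on `Out` is `PGO / Inn` -/
theorem ker_tauBar_equiv {A : Type*} [Group A] (p : ℕ) [Fact p.Prime] [CharP F p] (H : Hyp Q)
    (hγ : gammaPOmega F ⇑Q = ⊤) (φ : ↥(pgoAut F ⇑Q) →* A) (hφ : Function.Surjective φ)
    (hker : φ.ker = (Inn (POmega F ⇑Q)).subgroupOf (pgoAut F ⇑Q)) :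
    Nonempty (↥(tauBar p H hγ).ker ≃* A) := by
  obtain ⟨θ, hθ⟩ : ∃ θ : ↥(pgoAut F ⇑Q) →* Out (POmega F ⇑Q),
      θ = (QuotientGroup.mk' (Inn (POmega F ⇑Q))).comp (pgoAut F ⇑Q).subtype := ⟨_, rfl⟩
  have hθk : θ.ker = φ.ker := by
    rw [hker, hθ]
    ext x
    rw [MonoidHom.mem_ker, Subgroup.mem_subgroupOf, MonoidHom.comp_apply]
    exact QuotientGroup.eq_one_iff _
  have hθr : θ.range = (tauBar p H hγ).ker := by
    ext x
    rw [MonoidHom.mem_range, MonoidHom.mem_ker]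
    constructor
    · rintro ⟨y, rfl⟩
      rw [hθ, MonoidHom.comp_apply]
      show tauBar p H hγ (QuotientGroup.mk (y : MulAut (POmega F ⇑Q))) = 1
      rw [tauBar_mk]
      have h1 : (y : MulAut (POmega F ⇑Q)) ∈ pgoAut F ⇑Q := y.2
      have h3 : pgoAut F ⇑Q = (tauO p H hγ).ker := by rw [pgoAut_eq, tauO_ker p H hγ]
      have h4 : (y : MulAut (POmega F ⇑Q)) ∈ (tauO p H hγ).ker := h3 ▸ h1
      exact h4
    · intro h
      obtain ⟨β, rfl⟩ := QuotientGroup.mk_surjective x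
      rw [tauBar_mk] at h
      have hβ : β ∈ pgoAut F ⇑Q := by
        rw [pgoAut_eq, ← tauO_ker p H hγ]
        exact h
      exact ⟨⟨β, hβ⟩, by rw [hθ]; rfl⟩
  exact ⟨((MulEquiv.subgroupCongr hθr).symm.trans
    ((QuotientGroup.quotientKerEquivRange θ).symm.trans
      ((QuotientGroup.quotientMulEquivOfEq hθk).trans
        (QuotientGroup.quotientKerEquivOfSurjective φ hφ))))⟩

theorem exists_conjGO_of_mem_ker (p : ℕ) [Fact p.Prime] [CharP F p] (H : Hyp Q)
    (hγ : gammaPOmega F ⇑Q = ⊤) (k : Out (POmega F ⇑Q)) (hk : k ∈ (tauBar p H hγ).ker) :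
    ∃ g : ↥(Geo.quadSimilarityGroup (F := F) ⇑Q), k = QuotientGroup.mk (conjGO Q g) := by
  obtain ⟨β, rfl⟩ := QuotientGroup.mk_surjective k
  rw [MonoidHom.mem_ker, tauBar_mk] at hk
  have h1 : β ∈ (tauO p H hγ).ker := hk
  rw [tauO_ker p H hγ] at h1
  obtain ⟨g, rfl⟩ := h1
  exact ⟨g, rfl⟩

variable {i : ℕ} {α β : Fin i → ι}

/-- an isometry of determinant `-1` induces a non-inner automorphism in even dimension -/
theorem conjO_not_inn_of_det (h2 : (2 : F) ≠ 0) (hQ : (polarBilin Q).Nondegenerate)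
    (hfam : IsHypFamily Q α β) (hi : 3 ≤ i) (h5 : 5 ≤ Fintype.card ι)
    (heven : Even (Fintype.card ι)) (r : ↥(isometryGroup F ⇑Q))
    (hr : ((r : Matrix.GeneralLinearGroup ι F) : Matrix ι ι F).det = -1) :
    conjO Q r ∉ Inn (POmega F ⇑Q) := by
  intro h
  rw [inn_eq] at h
  obtain ⟨s, hs, hsr⟩ := h
  have hker : s⁻¹ * r ∈ (conjO Q).ker := by
    rw [MonoidHom.mem_ker, map_mul, map_inv, hsr, inv_mul_cancel]
  have hds := Cfsg.Agent.Lib.Helper5.OmegaCenter.det_eq_one_of_mem_commutator s hs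
  have hne : (-1 : F) ≠ 1 := by
    intro h1
    apply h2
    linear_combination -h1
  rcases ker_conjO_le hQ hfam hi h5 _ hker with h1 | h1
  · have h3 : r = s := by
      calc r = s * (s⁻¹ * r) := by group
        _ = s := by rw [h1, mul_one]
    rw [h3, hds] at hr
    exact hne hr.symm
  · have h3 : r = s * negOne Q := by
      calc r = s * (s⁻¹ * r) := by group
        _ = s * negOne Q := by rw [h1]
    rw [h3] at hr
    have h4 : (((s * negOne Q : ↥(isometryGroup F ⇑Q)) : Matrix.GeneralLinearGroup ι F) :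
        Matrix ι ι F) = ((s : Matrix.GeneralLinearGroup ι F) : Matrix ι ι F) * (-1) := rfl
    rw [h4, Matrix.det_mul, hds, Matrix.det_neg, Matrix.det_one, heven.neg_one_pow, mul_one,
      mul_one] at hr
    exact hne hr.symm

end kerequiv

section minusodd
open Cfsg.Agent.Lib.Helper5.OrthCard Cfsg.Agent.Lib.Helper5.OrthPlane
  Cfsg.Agent.Lib.Helper5.OAut Cfsg.Agent.Lib.Helper5.SpinorHyp Cfsg.Agent.Lib.Helper5.SpinorHyp2
  Cfsg.Agent.Lib.Helper5.POmegaCard Cfsg.Agent.S0294 Cfsg.Agent.Lib.Helper5.SpinorDiag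
  Cfsg.Agent.Lib.Helper5.SpinorNorm

variable (a b : F) (m : ℕ)

theorem out_minus_odd (p f : ℕ) [Fact p.Prime] (hF : Fintype.card F = p ^ f) (hf : 1 ≤ f)
    (hp : p ≠ 2) (hm : 3 ≤ m) (han : ∀ v : Fin 2 → F, binForm a b v = 0 → v = 0) :
    if p ^ f % 4 = 3 ∧ Odd (m + 1) then
      Nonempty (Out (POmega F ⇑(genForm (binForm a b) m)) ≃*
        DihedralGroup 4 × Multiplicative (ZMod f))
    else Nonempty (Out (POmega F ⇑(genForm (binForm a b) m)) ≃*
        Multiplicative (ZMod 2 × ZMod (2 * f))) := by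
  haveI := charP_of_card' p f hF
  have hpodd : Odd p := (Fact.out : p.Prime).odd_of_ne_two hp
  have hqodd : Odd (p ^ f) := hpodd.pow
  have h2 : (2 : F) ≠ 0 :=
    Cfsg.Agent.Lib.Helper5.two_ne_zero_of_odd_card (by rw [hF]; exact hqodd)
  have hQ := genForm_nondegenerate _ (binForm_nondegenerate a b han) m
  have hfam := genForm_hypFamily (binForm a b) (le_refl m)
  have hn : Fintype.card ((Fin m ⊕ Fin m) ⊕ Fin 2) = 2 * (m + 1) := by
    simp only [Fintype.card_sum, Fintype.card_fin]; omega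
  have h5 : 5 ≤ Fintype.card ((Fin m ⊕ Fin m) ⊕ Fin 2) := by rw [hn]; omega
  have heven : Even (Fintype.card ((Fin m ⊕ Fin m) ⊕ Fin 2)) := ⟨m + 1, by rw [hn]; ring⟩
  have H := Hyp.of_hypFamily hQ hfam hm h5
  have hγ : gammaPOmega F ⇑(genForm (binForm a b) m) = ⊤ := by
    refine gamma_eq_top p H (by omega) ?_
    intro Y hY hle
    exact (no_lagrangian_genForm _ han m hQ Y hY hle).elim
  have hτs : Function.Surjective (tauBar p H hγ) := by
    intro σ
    obtain ⟨β, hβ⟩ := tauO_surjective p H hγ (minus_field a b m p han) σ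
    exact ⟨QuotientGroup.mk β, by rw [tauBar_mk, hβ]⟩
  obtain ⟨hRcyc, hRcard⟩ := ringAut_card_cyclic p f hF
  have hns : ∃ g₁ : ↥(Geo.quadSimilarityGroup (F := F) ⇑(genForm (binForm a b) m)),
      ¬ IsSquare (mult (genForm (binForm a b) m) (xvec m)
        (g₁ : Matrix.GeneralLinearGroup ((Fin m ⊕ Fin m) ⊕ Fin 2) F)) := by
    obtain ⟨ν, hν0, hνns⟩ := exists_nonsquare h2
    obtain ⟨g, hg⟩ := multHomO_surj_minus a b m han (Units.mk0 ν hν0)
    refine ⟨g, ?_⟩
    have h1 := congrArg (fun u : Fˣ => (u : F)) hg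
    simp only [multHomO_coe, Units.val_mk0] at h1
    rw [h1]
    exact hνns
  have hmem := negOne_mem_iff a b m hF hqodd han
  have hiff : (p ^ f % 4 = 3 ∧ Odd (m + 1)) ↔
      negOne (genForm (binForm a b) m) ∈ Omega F ⇑(genForm (binForm a b) m) := by
    rw [hmem, pow_mod_four_eq_three_iff (p ^ f) (m + 1) hqodd]
    exact and_comm
  by_cases hneg : negOne (genForm (binForm a b) m) ∈ Omega F ⇑(genForm (binForm a b) m)
  · rw [if_pos (hiff.mpr hneg)]
    have hfodd : Odd f := ((pow_mod_four_eq_three_iff p f hpodd).mp (hiff.mpr hneg).1).1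
    obtain ⟨φ, hφs, hφk⟩ := exists_pgo_mod_inn_dihedral h2 hQ hfam hm h5 (xvec m)
      (quad_xvec a b m) (m + 1) hn hns hneg
    obtain ⟨e⟩ := ker_tauBar_equiv p H hγ φ hφs hφk
    exact exists_equiv_D8_cyclic f hfodd (tauBar p H hγ) hτs e hRcyc hRcard
  · rw [if_neg (fun h => hneg (hiff.mp h))]
    obtain ⟨φ, hφs, hφk⟩ := exists_pgo_mod_inn_klein h2 hQ hfam hm h5 (xvec m)
      (quad_xvec a b m) (m + 1) hn hns hneg
    obtain ⟨e⟩ := ker_tauBar_equiv p H hγ φ hφs hφk
    have hk4 : Nat.card ↥(tauBar p H hγ).ker = 4 := by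
      rw [Nat.card_congr e.toEquiv, Nat.card_eq_fintype_card]
      rfl
    have hexp : ∀ k ∈ (tauBar p H hγ).ker, k * k = 1 := by
      intro k hk
      have h1 : ∀ z : Multiplicative (ZMod 2 × ZMod 2), z * z = 1 := by decide
      have h3 := h1 (e ⟨k, hk⟩)
      rw [← map_mul] at h3
      have h4 := e.injective (h3.trans (map_one e).symm)
      exact congrArg Subtype.val h4
    -- the generator
    obtain ⟨x, hx⟩ : ∃ x : Out (POmega F ⇑(genForm (binForm a b) m)),
        x = QuotientGroup.mk (frobM a b m p han 1) := ⟨_, rfl⟩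
    have hxpow : ∀ k : ℕ, x ^ k = QuotientGroup.mk (frobM a b m p han k) := by
      intro k
      rw [hx, ← QuotientGroup.mk_pow, frobM_pow]
    have htx : ∀ k : ℕ, tauBar p H hγ (x ^ k) = phiK p k := by
      intro k
      rw [hxpow, tauBar_mk]
      exact tauO_semiAut p H hγ _ _ 1 one_ne_zero _
    have hgen : ∀ r : RingAut F, r ∈ Subgroup.zpowers (tauBar p H hγ x) := by
      intro r
      obtain ⟨k, hk'⟩ := exists_frob_pow p (r : F ≃+* F)
      refine ⟨(k : ℤ), ?_⟩
      show (tauBar p H hγ x) ^ (k : ℤ) = r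
      rw [zpow_natCast, ← map_pow, htx]
      ext z
      rw [phiK_apply]
      exact (hk' z).symm
    have hxf : x ^ f ≠ 1 := by
      intro h1
      rw [hxpow, frobM_card a b m p han f hF, QuotientGroup.eq_one_iff] at h1
      refine conjO_not_inn_of_det h2 hQ hfam hm h5 heven (conjR a b m han) ?_ h1
      exact reflection_det _ _ (quad_yvec_ne a b m han)
    have hcomm : ∀ k ∈ (tauBar p H hγ).ker, x * k = k * x := by
      intro k hk
      obtain ⟨g, rfl⟩ := exists_conjGO_of_mem_ker p H hγ k hk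
      rw [hx, ← QuotientGroup.mk_mul, ← QuotientGroup.mk_mul]
      unfold frobM
      rw [conjSim_semiAut _ _ 1 one_ne_zero _ (quad_xvec a b m) g, QuotientGroup.mk_mul,
        QuotientGroup.mk_mul]
      congr 1
      apply mk_conjGO_eq_of_chi h2 hQ hfam hm h5 (quad_xvec a b m) (m + 1) hn hneg
      exact chi_conjSim _ _ 1 one_ne_zero _ (quad_xvec a b m) g h2 hQ (m + 1) hn
    exact exists_equiv_two_2f f (by omega) (tauBar p H hγ) hτs hRcard hk4 hexp x hgen hxf hcomm

end minusodd
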