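import Mathlib

set_option autoImplicit false
set_option linter.style.haveILetI false

namespace Cfsg.Agent.Lib.Helper9.T97

/-- lifting an involution of `G ⧸ O` (`O` of odd order) to an involution of `G`. -/
theorem lift_invol {G : Type*} [Group G] [Finite G] (O : Subgroup G) [O.Normal]
    (hOc : (Nat.card O).Coprime 2) (xb : G ⧸ O) (hx1 : xb ≠ 1) (hx2 : xb ^ 2 = 1) :
    ∃ u : G, u ≠ 1 ∧ u ^ 2 = 1 ∧ (QuotientGroup.mk' O) u = xb := by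
  obtain ⟨u, rfl⟩ := QuotientGroup.mk'_surjective O xb
  obtain ⟨n, hn⟩ : ∃ n, n = Nat.card O := ⟨_, rfl⟩
  have hodd : Odd n := by
    rw [hn]
    exact Nat.Coprime.odd_of_right hOc
  obtain ⟨k, hk⟩ := hodd
  have hu2K : u ^ 2 ∈ O := by
    rw [← QuotientGroup.eq_one_iff, QuotientGroup.mk_pow]
    exact hx2
  have hu'2 : (u ^ n) ^ 2 = 1 := by
    rw [← pow_mul, mul_comm, pow_mul]
    have h1 : (⟨u ^ 2, hu2K⟩ : ↥O) ^ Nat.card O = 1 := pow_card_eq_one'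
    rw [← hn] at h1
    have := congrArg (fun t : ↥O => (t : G)) h1
    simpa using this
  have himg : (QuotientGroup.mk' O) (u ^ n) = (QuotientGroup.mk' O) u := by
    rw [map_pow, hk, pow_succ, pow_mul, hx2, one_pow, one_mul]
  refine ⟨u ^ n, ?_, hu'2, himg⟩
  intro h
  apply hx1
  rw [← himg, h, map_one]

theorem quot_hyps {G : Type*} [Group G] [Finite G] (O : Subgroup G) [O.Normal]
    (hOc : (Nat.card O).Coprime 2) (S : Sylow 2 G)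
    (htwo : ∃ x y : G, x ∈ (S : Subgroup G) ∧ y ∈ (S : Subgroup G) ∧ x ≠ y ∧ x ≠ 1 ∧ x ^ 2 = 1 ∧
      y ≠ 1 ∧ y ^ 2 = 1)
    (hconj : ∀ x y : G, x ≠ 1 → x ^ 2 = 1 → y ≠ 1 → y ^ 2 = 1 → IsConj x y) :
    (∃ x y : G ⧸ O, x ≠ y ∧ x ≠ 1 ∧ x ^ 2 = 1 ∧ y ≠ 1 ∧ y ^ 2 = 1) ∧
    ∀ x y : G ⧸ O, x ≠ 1 → x ^ 2 = 1 → y ≠ 1 → y ^ 2 = 1 → IsConj x y := by
  haveI : Fact (Nat.Prime 2) := ⟨Nat.prime_two⟩
  -- S ∩ O = 1
  have hSO : ∀ g : G, g ∈ (S : Subgroup G) → g ∈ O → g = 1 := by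
    intro g hgS hgO
    obtain ⟨k, hk⟩ := (IsPGroup.iff_orderOf.mp S.2) ⟨g, hgS⟩
    have hk' : orderOf g = 2 ^ k := by
      rw [← hk]; exact (Subgroup.orderOf_mk g hgS).symm
    have h1 : orderOf g ∣ Nat.card O := by
      have : orderOf (⟨g, hgO⟩ : ↥O) ∣ Nat.card O := orderOf_dvd_natCard _
      rwa [Subgroup.orderOf_mk] at this
    rw [hk'] at h1
    have h2 : Nat.Coprime (2 ^ k) (Nat.card O) := (Nat.Coprime.pow_right k hOc).symm
    have h3 : 2 ^ k = 1 := Nat.Coprime.eq_one_of_dvd h2 h1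
    rw [h3] at hk'
    exact orderOf_eq_one_iff.mp hk'
  obtain ⟨x, y, hxS, hyS, hxy, hx1, hx2, hy1, hy2⟩ := htwo
  have hinvO : ∀ g : G, g ∈ (S : Subgroup G) → g ≠ 1 → (QuotientGroup.mk' O) g ≠ 1 := by
    intro g hgS hg1 h
    apply hg1
    apply hSO g hgS
    exact (QuotientGroup.eq_one_iff g).mp h
  refine ⟨⟨(QuotientGroup.mk' O) x, (QuotientGroup.mk' O) y, ?_, hinvO x hxS hx1, ?_,
    hinvO y hyS hy1, ?_⟩, ?_⟩
  · intro h
    apply hxy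
    have h1 : x⁻¹ * y ∈ O := by
      rw [← QuotientGroup.eq_one_iff]
      have : ((x⁻¹ * y : G) : G ⧸ O) = ((QuotientGroup.mk' O) x)⁻¹ * (QuotientGroup.mk' O) y := by
        simp
      rw [this, h, inv_mul_cancel]
    have h2 : x⁻¹ * y ∈ (S : Subgroup G) :=
      (S : Subgroup G).mul_mem ((S : Subgroup G).inv_mem hxS) hyS
    have h3 := hSO _ h2 h1
    exact inv_mul_eq_one.mp h3
  · rw [← map_pow, hx2, map_one]
  · rw [← map_pow, hy2, map_one]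
  · intro xb yb hxb1 hxb2 hyb1 hyb2
    obtain ⟨u, hu1, hu2, rfl⟩ := lift_invol O hOc xb hxb1 hxb2
    obtain ⟨v, hv1, hv2, rfl⟩ := lift_invol O hOc yb hyb1 hyb2
    exact (QuotientGroup.mk' O).map_isConj (hconj u v hu1 hu2 hv1 hv2)

end Cfsg.Agent.Lib.Helper9.T97
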