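import Mathlib
import Cfsg.Agent.Lib.Helper5.E6M2ConcDefs
import Cfsg.Agent.Lib.Helper5.FrobFix
import Cfsg.Agent.Lib.Helper6.E6M2Twist

set_option autoImplicit false

/-!
Farm E6M2 (S2341), unit RELM2: the matrix-side fields of `Helper2.E6M2B.Rel` for the concrete
components of `Lib/Helper5/E6M2ConcDefs` (`FF f`, `LamS f`, `betaL f`, `AL f`, `e1L f`, `e2L f`,
`xdL f hf`): `xdL_zero`, `lag`, `nondeg`, `e1L_mem`, `e2L_mem`, `indep`, `card_A`, `card_FF`.
-/

namespace Cfsg.Agent.Lib.Helper9.E6M2RELM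

open Cfsg.Agent.Lib.Helper5 Cfsg.Agent.Lib.Helper5.E6M Cfsg.Agent.Lib.Helper3.E6M2C
  Cfsg.Agent.Lib.Helper5.E6M2K Matrix

variable {K : Type*} [Field K] (f : K →+* K)

/-! ### tables -/

theorem tab_lag : ∀ J : T3, E6M2.inLL J → ¬ E6M2.inLL J.compl := by decide

theorem compl_compl : ∀ J : T3, J.compl.compl = J := by decide

theorem epsI_tauI : ∀ I : T3, epsI (tauI I) = epsI I := by decide

theorem omega_sq : ∀ I : T3, T3.omega I * T3.omega I = 1 := by decide

theorem inLL_I012 : E6M2.inLL I012 := by decide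

theorem inLL_I034 : E6M2.inLL I034 := by decide

theorem I012_ne_I034 : I012 ≠ I034 := by decide

theorem card_LL : Fintype.card {I : T3 // E6M2.inLL I} = 10 := by decide

/-! ### the easy fields -/

theorem xdL_zero {q : ℕ} (hf : ∀ x, f x = x ^ q) : xdL f hf 0 = 1 := by
  apply Subtype.ext
  apply Subtype.ext
  show Matrix.transvection (lpos 0).1.1 (lpos 0).1.2 (((0 : FF f) : K)) = 1
  rw [ZeroMemClass.coe_zero, Matrix.transvection_zero]

theorem e1L_mem : e1L f ∈ AL f := by
  intro I hI
  show (Pi.single I012 (1 : K) : T3 → K) I = 0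
  apply Pi.single_eq_of_ne
  rintro rfl
  exact hI inLL_I012

theorem e2L_mem : e2L f ∈ AL f := by
  intro I hI
  show (Pi.single I034 (1 : K) : T3 → K) I = 0
  apply Pi.single_eq_of_ne
  rintro rfl
  exact hI inLL_I034

theorem indep (t u : FF f) (h : t • e1L f + u • e2L f = 0) : t = 0 ∧ u = 0 := by
  have h' : ((t • e1L f + u • e2L f : LamS f) : T3 → K) = 0 := by rw [h]; rfl
  have e : ((t • e1L f + u • e2L f : LamS f) : T3 → K) =
      (t : K) • (Pi.single I012 (1 : K) : T3 → K) + (u : K) • (Pi.single I034 (1 : K) : T3 → K) :=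
    rfl
  rw [e] at h'
  constructor
  · have h1 := congrFun h' I012
    rw [Pi.add_apply, Pi.smul_apply, Pi.smul_apply, Pi.single_eq_same,
      Pi.single_eq_of_ne I012_ne_I034, smul_eq_mul, smul_eq_mul, mul_one, mul_zero, add_zero,
      Pi.zero_apply] at h1
    exact Subtype.ext h1
  · have h1 := congrFun h' I034
    rw [Pi.add_apply, Pi.smul_apply, Pi.smul_apply, Pi.single_eq_same,
      Pi.single_eq_of_ne I012_ne_I034.symm, smul_eq_mul, smul_eq_mul, mul_one, mul_zero, zero_add,
      Pi.zero_apply] at h1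
    exact Subtype.ext h1

/-! ### the cocycle on the Lagrangian -/

/-- the cocycle vanishes when the left argument is supported on the Lagrangian -/
theorem bil2_left_AL (a : LamS f) (ha : a ∈ AL f) (s : T3 → K) : E6M2.bil2 a.1 s = 0 := by
  unfold E6M2.bil2
  apply Finset.sum_eq_zero
  intro J _
  split_ifs with hJ
  · rw [ha J.compl (tab_lag J hJ), mul_zero, zero_mul]
  · rfl

theorem lag (a : LamS f) (ha : a ∈ AL f) (a' : LamS f) (_ha' : a' ∈ AL f) : betaL f a a' = 0 := by
  apply Subtype.ext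
  show E6M2.bil2 a.1 a'.1 = 0
  exact bil2_left_AL f a ha a'.1

theorem bil2_single_left (I : T3) (c : K) (a : T3 → K) :
    E6M2.bil2 (Pi.single I c) a =
      if E6M2.inLL I.compl then ((I.omega : ℤ) : K) * c * a I.compl else 0 := by
  unfold E6M2.bil2
  rw [Finset.sum_eq_single I.compl]
  · rw [compl_compl, Pi.single_eq_same]
  · intro J _ hJ
    split_ifs
    · have hne : J.compl ≠ I := by
        intro h
        apply hJ
        rw [← h, compl_compl]
      rw [Pi.single_eq_of_ne hne, mul_zero, zero_mul]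
    · rfl
  · intro h
    exact absurd (Finset.mem_univ _) h

/-- the symmetrisation of a coordinate vector -/
def sym (J : T3) (x : K) : T3 → K :=
  Pi.single J x + Pi.single (tauI J) (((epsI J : ℤ) : K) * f x)

theorem sym_mem (hf2 : ∀ x, f (f x) = x) (J : T3) (x : K) : sym f J x ∈ LamS f := by
  intro I
  have hsq : ((epsI J : ℤ) : K) * ((epsI J : ℤ) : K) = 1 := by
    rw [← Int.cast_mul, epsI_sq, Int.cast_one]
  unfold sym
  rw [Pi.add_apply, Pi.add_apply]
  by_cases h1 : I = J
  · subst h1
    by_cases h2 : tauI I = I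
    · have h3 : epsI I = 1 := epsI_long I h2
      rw [h2]
      simp only [Pi.single_eq_same]
      rw [h3, Int.cast_one, one_mul, one_mul, map_add, hf2]
      ring
    · have h3 : I ≠ tauI I := fun h => h2 h.symm
      simp only [Pi.single_eq_same, Pi.single_eq_of_ne h2, Pi.single_eq_of_ne h3, add_zero,
        zero_add]
  · by_cases h2 : I = tauI J
    · subst h2
      have h3 : tauI (tauI J) = J := tauI_tauI J
      have h1' : J ≠ tauI J := fun h => h1 h.symm
      rw [h3]
      simp only [Pi.single_eq_same, Pi.single_eq_of_ne h1, Pi.single_eq_of_ne h1', add_zero,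
        zero_add]
      rw [map_mul, map_intCast, hf2, epsI_tauI, ← mul_assoc, hsq, one_mul]
    · have h3 : tauI I ≠ J := by
        intro h
        apply h2
        rw [← h, tauI_tauI]
      have h4 : tauI I ≠ tauI J := by
        intro h
        apply h1
        have := congrArg tauI h
        rwa [tauI_tauI, tauI_tauI] at this
      rw [Pi.single_eq_of_ne h3, Pi.single_eq_of_ne h4, Pi.single_eq_of_ne h1,
        Pi.single_eq_of_ne h2, add_zero, map_zero, mul_zero]

/-- the cocycle of a symmetrised coordinate vector against a lattice vector -/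
theorem bil2_sym (J0 : T3) (hLL : E6M2.inLL J0) (x : K) (a : LamS f) :
    E6M2.bil2 (sym f J0.compl x) a.1 =
      ((J0.compl.omega : ℤ) : K) * (x * a.1 J0 + f (x * a.1 J0)) := by
  have hLL' : E6M2.inLL (tauI J0) := (tab_bil J0).2 hLL
  have e1 : J0.compl.compl = J0 := compl_compl J0
  have e2 : (tauI J0.compl).compl = tauI J0 := by rw [tab_compl, compl_compl]
  have h3 : a.1 (tauI J0) = ((epsI J0 : ℤ) : K) * f (a.1 J0) := a.2 J0
  have h4 : (((tauI J0.compl).omega : ℤ) : K) * ((epsI J0.compl : ℤ) : K) * ((epsI J0 : ℤ) : K) =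
      ((J0.compl.omega : ℤ) : K) := by
    rw [← tab_compl J0, ← Int.cast_mul, ← Int.cast_mul, tab_omega]
  unfold sym
  rw [bil2_add_left, bil2_single_left, bil2_single_left, e1, e2, if_pos hLL, if_pos hLL', h3,
    ← h4, map_mul]
  ring

section fin

variable [Fintype K] {q : ℕ}

theorem card_FF (hq : IsPrimePow q) (hK : Fintype.card K = q ^ 2) (hf : ∀ x, f x = x ^ q) :
    Nat.card (FF f) = q := by
  rw [← FrobFix.card_fixed hq.two_le hK]
  apply Nat.card_congr
  apply Equiv.subtypeEquivRight
  intro x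
  rw [mem_FF, hf]

theorem exists_trace_ne (hq : IsPrimePow q) (hK : Fintype.card K = q ^ 2)
    (hf : ∀ x, f x = x ^ q) : ∃ y : K, y + f y ≠ 0 := by
  by_contra h
  push Not at h
  have h1 : (1 : K) + 1 = 0 := by
    have := h 1
    rwa [map_one] at this
  have h2 : ∀ y : K, y ^ q = y := by
    intro y
    have h3 := h y
    rw [hf] at h3
    have h4 : y + y = 0 := by
      have : y + y = y * (1 + 1) := by ring
      rw [this, h1, mul_zero]
    have h5 : y ^ q - y = (y + y ^ q) - (y + y) := by ring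
    have h6 : y ^ q - y = 0 := by rw [h5, h3, h4, sub_zero]
    exact sub_eq_zero.1 h6
  have h3 : Nat.card {x : K // x ^ q = x} = q := FrobFix.card_fixed hq.two_le hK
  have h4 : Nat.card {x : K // x ^ q = x} = q ^ 2 := by
    rw [← hK, ← Nat.card_eq_fintype_card]
    apply Nat.card_congr
    exact Equiv.subtypeUnivEquiv h2
  have h5 : q ^ 2 = q := by rw [← h4, h3]
  have h6 : 2 ≤ q := hq.two_le
  nlinarith

theorem nondeg (hq : IsPrimePow q) (hK : Fintype.card K = q ^ 2) (hf : ∀ x, f x = x ^ q)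
    (hf2 : ∀ x, f (f x) = x) (a : LamS f) (ha : a ∈ AL f) (hne : a ≠ 0) :
    ∃ s : LamS f, betaL f s a - betaL f a s ≠ 0 := by
  have hex : ∃ J0, a.1 J0 ≠ 0 := by
    by_contra h
    push Not at h
    apply hne
    apply Subtype.ext
    funext J
    exact h J
  obtain ⟨J0, hJ0⟩ := hex
  have hLL : E6M2.inLL J0 := by
    by_contra h
    exact hJ0 (ha J0 h)
  obtain ⟨y, hy⟩ := exists_trace_ne f hq hK hf
  refine ⟨⟨sym f J0.compl (y / a.1 J0), sym_mem f hf2 _ _⟩, ?_⟩
  intro h
  have h1 : betaL f a ⟨sym f J0.compl (y / a.1 J0), sym_mem f hf2 _ _⟩ = 0 := by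
    apply Subtype.ext
    show E6M2.bil2 a.1 (sym f J0.compl (y / a.1 J0)) = 0
    exact bil2_left_AL f a ha _
  rw [h1, sub_zero] at h
  have h2 := congrArg Subtype.val h
  rw [betaL_apply] at h2
  change E6M2.bil2 (sym f J0.compl (y / a.1 J0)) a.1 = 0 at h2
  rw [bil2_sym f J0 hLL, div_mul_cancel₀ y hJ0] at h2
  have h6 : ((J0.compl.omega : ℤ) : K) ≠ 0 := by
    intro h0
    have : ((J0.compl.omega : ℤ) : K) * ((J0.compl.omega : ℤ) : K) = 1 := by
      rw [← Int.cast_mul, omega_sq, Int.cast_one]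
    rw [h0, mul_zero] at this
    exact zero_ne_one this
  rcases mul_eq_zero.1 h2 with h7 | h7
  · exact h6 h7
  · exact hy h7

/-- the involution on the Lagrangian -/
def tauLL (I : {I : T3 // E6M2.inLL I}) : {I : T3 // E6M2.inLL I} :=
  ⟨tauI I.1, (tab_bil I.1).2 I.2⟩

theorem card_A (hq : IsPrimePow q) (hK : Fintype.card K = q ^ 2) (hf : ∀ x, f x = x ^ q) :
    Nat.card (AL f) = Nat.card (FF f) ^ 10 := by
  classical
  rw [card_FF f hq hK hf, ← card_LL]
  rw [← Cfsg.Agent.Lib.Helper6.E6M2Twist.card_twisted (K := K) q hq hK tauLL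
    (fun I => Subtype.ext (tauI_tauI I.1)) (fun I => epsI I.1) (fun I => epsI_sq I.1)
    (fun I => epsI_tauI I.1) (fun I h => epsI_long I.1 (congrArg Subtype.val h))]
  apply Nat.card_congr
  exact
    { toFun := fun s => ⟨fun I => s.1.1 I.1, fun I => by
        have := s.1.2 I.1
        rw [hf] at this
        exact this⟩
      invFun := fun v => ⟨⟨fun I => if h : E6M2.inLL I then v.1 ⟨I, h⟩ else 0, fun I => by
          show (if h : E6M2.inLL (tauI I) then v.1 ⟨tauI I, h⟩ else 0) =
            ((epsI I : ℤ) : K) * f (if h : E6M2.inLL I then v.1 ⟨I, h⟩ else 0)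
          by_cases h : E6M2.inLL I
          · have h' : E6M2.inLL (tauI I) := (tab_bil I).2 h
            rw [dif_pos h, dif_pos h', hf]
            exact v.2 ⟨I, h⟩
          · have h' : ¬ E6M2.inLL (tauI I) := fun h'' => h ((tab_bil I).1 h'')
            rw [dif_neg h, dif_neg h', map_zero, mul_zero]⟩, fun I hI => by
          show (if h : E6M2.inLL I then v.1 ⟨I, h⟩ else 0) = 0
          rw [dif_neg hI]⟩
      left_inv := fun s => by
        apply Subtype.ext
        apply Subtype.ext
        funext I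
        show (if h : E6M2.inLL I then s.1.1 I else 0) = s.1.1 I
        by_cases h : E6M2.inLL I
        · rw [dif_pos h]
        · rw [dif_neg h, s.2 I h]
      right_inv := fun v => by
        apply Subtype.ext
        funext I
        show (if h : E6M2.inLL I.1 then v.1 ⟨I.1, h⟩ else 0) = v.1 I
        rw [dif_pos I.2] }

end fin

end Cfsg.Agent.Lib.Helper9.E6M2RELM
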