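import Cfsg.Agent.Lib.Helper9.E8CoreDATA

set_option autoImplicit false

/-! Farm E8CORE (S5751), unit DATA, two more facts: a root of level at least one is positive; the
branch reflection maps the positive roots other than the branch root to positive roots. -/

namespace Cfsg.Agent.Lib.Helper9.E8Core

open Cfsg Cfsg.Lie Cfsg.Agent.Lib.Helper5.ChevStruct Cfsg.Agent.Lib.Helper5.ChevSym
  Cfsg.Agent.Lib.Helper8.E8Core

/-- a root of level at least one is positive, read off the table -/
def posB (r : ℕ) : Bool := canon (fun r => !(decide (1 ≤ lev r)) || decide (chevE8.IsPosRoot r)) r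

set_option maxRecDepth 1000000 in
theorem posB_true : (List.range 240).all posB = true := by decide +kernel

theorem DATA_pos_of_lev (r : ℕ) (hr : r < chevE8.nroots) (h1 : 1 ≤ lev r) : chevE8.IsPosRoot r := by
  have h := List.all_eq_true.mp posB_true r (List.mem_range.mpr hr)
  unfold posB at h
  rw [canon_eq, Bool.or_eq_true, Bool.not_eq_true', decide_eq_false_iff_not, decide_eq_true_eq] at h
  rcases h with h | h
  · exact absurd h1 h
  · exact h

theorem DATA_s3_pos (x : ℕ) (hx : chevE8.IsPosRoot x) (hne : x ≠ chevE8.simple node) :
    chevE8.IsPosRoot (chevE8.reflectRoot node x) :=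
  (checkCoLin_spec chevE8 node (chkCoLin_all chevE8 hE8 node node_lt) x hx.1).2 hx hne

end Cfsg.Agent.Lib.Helper9.E8Core
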