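import Mathlib
import Cfsg.Prelude.Def_ChevStructure
import Cfsg.Agent.Lib.Helper9.InvolXA

set_option autoImplicit false

/-!
Involutions of `N` (seven types, odd `q`): bookkeeping of `n_w h` under conjugation by `N`, and
the drop at a fundamental root.
-/

namespace Cfsg.Agent.Lib.Helper9.InvolX

open Cfsg Cfsg.Lie Cfsg.Agent.Lib.Helper5.ChevSym Cfsg.Agent.Lib.Helper5.ChevStruct
  Cfsg.Agent.Lib.Helper1.InvolN Cfsg.Agent.Lib.Helper1.InvolMoves

variable {F : Type*} [Field F]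

/-- moving a torus element to the right of `n_w` -/
theorem diag_mul_word (D : ChevalleyDatum) (hD : D ∈ Seven) (w : List ℕ) (hw : Wd D w)
    (d : GL D.Idx F) (hd : d ∈ D.diagonalSubgroup F) :
    ∃ d' ∈ D.diagonalSubgroup F, d * wGL D hD w = wGL D hD w * d' := by
  refine ⟨(wGL D hD w)⁻¹ * d * wGL D hD w,
    (conj_monomial_diag_mem D hD _ (wGL_mem D hD w hw) d hd).2, ?_⟩
  group

/-- conjugating `n_w h` by `n_v` -/
theorem conj_word (D : ChevalleyDatum) (hD : D ∈ Seven) (w v : List ℕ) (hw : Wd D w)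
    (hv : Wd D v) (h : GL D.Idx F) (hh : h ∈ D.diagonalSubgroup F) :
    ∃ h1 ∈ D.diagonalSubgroup F,
      wGL D hD v * (wGL D hD w * h) * (wGL D hD v)⁻¹ = wGL D hD (v ++ w ++ v.reverse) * h1 := by
  obtain ⟨d, hd, e⟩ := wGL_inv (F := F) D hD v hv
  obtain ⟨d', hd', e'⟩ := diag_mul_word D hD v.reverse hv.reverse h hh
  refine ⟨d' * d, mul_mem hd' hd, ?_⟩
  rw [e, wGL_append, wGL_append]
  calc wGL D hD v * (wGL D hD w * h) * (wGL D hD v.reverse * d)
      = wGL D hD v * wGL D hD w * (h * wGL D hD v.reverse) * d := by group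
    _ = _ := by rw [e']; group

/-- replacing the word by another one with the same action -/
theorem replace_word (D : ChevalleyDatum) (hD : D ∈ Seven) (w u : List ℕ) (hw : Wd D w)
    (hu : Wd D u) (hact : ∀ r < D.nroots, wAct D w r = wAct D u r)
    (h : GL D.Idx F) (hh : h ∈ D.diagonalSubgroup F) :
    ∃ h' ∈ D.diagonalSubgroup F, wGL D hD w * h = wGL D hD u * h' := by
  have hd := hrel_of_act_eq (F := F) D hD w u hw hu hact
  obtain ⟨d', hd', e'⟩ := diag_mul_word D hD u hu _ hd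
  refine ⟨d' * h, mul_mem hd' hh, ?_⟩
  rw [← mul_assoc, ← e']
  group

/-- the word of an involution of `N` acts as an involution -/
theorem act_invol (D : ChevalleyDatum) (hD : D ∈ Seven) (w : List ℕ) (hw : Wd D w)
    (h : GL D.Idx F) (hh : h ∈ D.diagonalSubgroup F)
    (hmm : (wGL D hD w * h) * (wGL D hD w * h) = 1) :
    ∀ r < D.nroots, wAct D (w ++ w) r = r := by
  apply act_of_wGL_mem_diagonal (F := F) D hD (w ++ w) (hw.append hw)
  rw [wGL_append]
  have h1 : wGL D hD w * h * wGL D hD w = h⁻¹ := by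
    have := congrArg (fun x => x * h⁻¹) hmm
    simp only [one_mul] at this
    rw [← this]; group
  have e : (wGL D hD w * wGL D hD w : GL D.Idx F)
      = (wGL D hD w * h⁻¹ * (wGL D hD w)⁻¹) * (wGL D hD w * h * wGL D hD w) := by group
  rw [e, h1]
  exact mul_mem (conj_monomial_diag_mem D hD _ (wGL_mem D hD w hw) _
    ((D.diagonalSubgroup F).inv_mem hh)).1 ((D.diagonalSubgroup F).inv_mem hh)

/-- an involution of `N` whose word acts trivially lies in `H` -/
theorem mem_diag_of_act_trivial (D : ChevalleyDatum) (hD : D ∈ Seven) (w : List ℕ) (hw : Wd D w)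
    (h : GL D.Idx F) (hh : h ∈ D.diagonalSubgroup F) (hact : ∀ r < D.nroots, wAct D w r = r) :
    wGL D hD w * h ∈ D.diagonalSubgroup F :=
  mul_mem (wGL_mem_diagonal_of_act D hD w hw hact) hh

/-- the drop at a fundamental root: if `m = n_w h` is an involution with
`m x_{p_i}(c) m⁻¹ = x_{-p_i}(κ² c)`, then `m` is conjugate to an involution `n_{s_i w} h'` -/
theorem drop_simple [Fintype F] (D : ChevalleyDatum) (hD : D ∈ Seven)
    (hodd : Odd (Fintype.card F)) (w : List ℕ) (hw : Wd D w) (i : ℕ) (hi : i < D.rank)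
    (h : GL D.Idx F) (hh : h ∈ D.diagonalSubgroup F)
    (hmm : (wGL D hD w * h) * (wGL D hD w * h) = 1) (κ : F) (hκ : κ ≠ 0)
    (hmove : ∀ c : F, (wGL D hD w * h) * xGL D hD (D.simple i) c * (wGL D hD w * h)⁻¹
      = xGL D hD (D.neg (D.simple i)) (κ * κ * c)) :
    ∃ g ∈ D.group F, ∃ h' ∈ D.diagonalSubgroup F,
      (wGL D hD (i :: w) * h') * (wGL D hD (i :: w) * h') = 1 ∧
      g * (wGL D hD w * h) * g⁻¹ = wGL D hD (i :: w) * h' := by
  obtain ⟨p, hp⟩ : ∃ p, p = D.simple i := ⟨_, rfl⟩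
  rw [← hp] at hmove
  have hpl : p < D.nroots := by rw [hp]; exact simple_lt D hD i hi
  have hppos : D.IsPosRoot p := by rw [hp]; exact simple_pos D hD i hi
  obtain ⟨m, hm⟩ : ∃ m, m = wGL D hD w * h := ⟨_, rfl⟩
  rw [← hm] at hmm hmove ⊢
  have hwN : wGL D hD w ∈ D.monomialSubgroup F := wGL_mem D hD w hw
  have hmN : m ∈ D.monomialSubgroup F := by
    rw [hm]; exact mul_mem hwN (diagonal_le_monomial D hh)
  have hmG : m ∈ D.group F := monomial_le_group D hD hmN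
  have hdrop := drop_move D hD p m (κ * κ) (mul_ne_zero hκ hκ) hmm hmove κ rfl
  -- the element `n_p(-κ⁻¹)`
  obtain ⟨nr, hnr⟩ : ∃ nr, nr = xGL D hD p (-κ⁻¹) * xGL D hD (D.neg p) κ * xGL D hD p (-κ⁻¹) :=
    ⟨_, rfl⟩
  rw [← hnr] at hdrop
  have hκi : -κ⁻¹ ≠ 0 := neg_ne_zero.2 (inv_ne_zero hκ)
  have hnrw : nr = wordGL D hD (D.nWord p (-κ⁻¹)) := by
    unfold ChevalleyDatum.nWord
    rw [hnr]
    simp [wordGL, mul_assoc]
  have hnrN : nr ∈ D.monomialSubgroup F := by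
    rw [hnrw]; exact nGL_mem_monomial D hD p hpl _ hκi
  obtain ⟨d0, hd0, hnrd⟩ : ∃ d0 ∈ D.diagonalSubgroup F, nr = d0 * nGL D hD i := by
    refine ⟨wordGL D hD (D.hWord p (-κ⁻¹)),
      Subgroup.subset_closure ⟨p, -κ⁻¹, hpl, hκi, wordGL_val D hD _⟩, ?_⟩
    rw [hnrw]
    apply Units.ext
    rw [Units.val_mul, wordGL_val, wordGL_val, nGL_val, ← hp]
    exact nMat_eq_hMat_mul D hD p _
  -- the conjugate involution
  obtain ⟨t', ht'⟩ : ∃ t', t' = xGL D hD p κ⁻¹ * (nr * m) := ⟨_, rfl⟩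
  rw [← ht'] at hdrop
  have hxG : xGL D hD (D.neg p) κ ∈ D.group F := xGL_mem_group D hD _ κ
  have ht'G : t' ∈ D.group F := by
    rw [← hdrop]
    exact mul_mem (mul_mem hxG hmG) (inv_mem hxG)
  have ht'2 : t' * t' = 1 := by
    rw [← hdrop]
    calc xGL D hD (D.neg p) κ * m * (xGL D hD (D.neg p) κ)⁻¹
          * (xGL D hD (D.neg p) κ * m * (xGL D hD (D.neg p) κ)⁻¹)
        = xGL D hD (D.neg p) κ * (m * m) * (xGL D hD (D.neg p) κ)⁻¹ := by group
      _ = 1 := by rw [hmm]; group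
  obtain ⟨g₂, hg₂, m', hm', hm'2, hconj, b₁, hb₁, b₂, hb₂, ecell⟩ :=
    invol_conj_monomial_cell D hD hodd t' ht'G ht'2
  have hxB : xGL D hD p κ⁻¹ ∈ D.borelSubgroup F := by
    apply pos_le_borel
    exact Subgroup.subset_closure ⟨p, κ⁻¹, hppos, xGL_val _ _ _ _⟩
  have hH3 : (nr * m)⁻¹ * m' ∈ D.diagonalSubgroup F := by
    apply dc_unique D hD (xGL D hD p κ⁻¹) b₁ (nr * m) m' 1 b₂ hxB hb₁
      (mul_mem hnrN hmN) hm' (one_mem _) hb₂
    rw [mul_one, ← ecell, ht']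
  -- `m' = nr * m * d3 = d0 * n_i * n_w * h * d3 = n_{i :: w} * h'`
  obtain ⟨d0', hd0', e0⟩ := diag_mul_word D hD (i :: w)
    (by intro j hj; rcases List.mem_cons.1 hj with rfl | hj; exacts [hi, hw j hj]) d0 hd0
  have em' : m' = wGL D hD (i :: w) * (d0' * h * ((nr * m)⁻¹ * m')) := by
    have e1 : m' = nr * m * ((nr * m)⁻¹ * m') := by group
    rw [e1, hnrd, hm]
    calc d0 * nGL D hD i * (wGL D hD w * h) * ((d0 * nGL D hD i * (wGL D hD w * h))⁻¹ * m')
        = (d0 * wGL D hD (i :: w)) * h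
            * ((d0 * nGL D hD i * (wGL D hD w * h))⁻¹ * m') := by
          rw [wGL_cons]; group
      _ = _ := by rw [e0]; group
  refine ⟨g₂ * xGL D hD (D.neg p) κ, mul_mem hg₂ hxG, d0' * h * ((nr * m)⁻¹ * m'),
    mul_mem (mul_mem hd0' hh) hH3, ?_, ?_⟩
  · rw [← em']; exact hm'2
  · rw [← em', ← hconj, ← hdrop]; group

end Cfsg.Agent.Lib.Helper9.InvolX
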