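import Mathlib
import Cfsg.Prelude.Def_ChevStructure
import Cfsg.Agent.Lib.Helper5.FieldFix.Basic
import Cfsg.Agent.Lib.Helper9.InvolXB

set_option autoImplicit false

/-!
Involutions of `N` (seven types, odd `q`): the two certified steps (flip-then-drop, and drop after
a test-root computation) and the induction on the number of negated roots.
-/

namespace Cfsg.Agent.Lib.Helper9.InvolX

open Cfsg Cfsg.Lie Cfsg.Agent.Lib.Helper5.ChevSym Cfsg.Agent.Lib.Helper5.ChevStruct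
  Cfsg.Agent.Lib.Helper1.InvolN Cfsg.Agent.Lib.Helper1.InvolMoves

variable {F : Type*} [Field F]

theorem xGL_inj (D : ChevalleyDatum) (hD : D ∈ Seven) (r : ℕ) (hr : r < D.nroots) (t u : F)
    (h : xGL D hD r t = xGL D hD r u) : t = u := by
  apply Cfsg.Agent.Lib.Helper5.FieldFix.x_inj_param D hD r hr
  have := congrArg (fun g : GL D.Idx F => (g : Matrix D.Idx D.Idx F)) h
  simpa [xGL_val] using this

theorem conj_twice {G : Type*} [Group G] (m x : G) (hmm : m * m = 1) :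
    m * (m * x * m⁻¹) * m⁻¹ = x := by
  have hinv : m⁻¹ = m := inv_eq_of_mul_eq_one_left hmm
  rw [hinv]
  calc m * (m * x * m) * m = (m * m) * x * (m * m) := by group
    _ = x := by rw [hmm, one_mul, mul_one]

theorem conj_sq_eq_one {G : Type*} [Group G] (g m : G) (hmm : m * m = 1) :
    (g * m * g⁻¹) * (g * m * g⁻¹) = 1 := by
  calc g * m * g⁻¹ * (g * m * g⁻¹) = g * (m * m) * g⁻¹ := by group
    _ = 1 := by rw [hmm]; group

/-- the step with a test root: `m² = 1` at `x_s` forces `μ_{p_i}` to be a square -/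
theorem step_b [Fintype F] (D : ChevalleyDatum) (hD : D ∈ Seven) (hodd : Odd (Fintype.card F))
    (w : List ℕ) (hw : Wd D w) (i : ℕ) (hi : i < D.rank) (s : ℕ) (hs : s < D.nroots)
    (hact : wAct D w (D.simple i) = D.neg (D.simple i))
    (hacts : wAct D w s = D.reflectRoot i s)
    (hcart : D.cartan i (D.reflectRoot i s) = -1)
    (hsign : wEps D w (D.simple i) * wEps D w s * wEps D w (D.reflectRoot i s) = 1)
    (h : GL D.Idx F) (hh : h ∈ D.diagonalSubgroup F)
    (hmm : (wGL D hD w * h) * (wGL D hD w * h) = 1) :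
    ∃ g ∈ D.group F, ∃ h' ∈ D.diagonalSubgroup F,
      (wGL D hD (i :: w) * h') * (wGL D hD (i :: w) * h') = 1 ∧
      g * (wGL D hD w * h) * g⁻¹ = wGL D hD (i :: w) * h' := by
  obtain ⟨a, ha⟩ : ∃ a, a = D.simple i := ⟨_, rfl⟩
  obtain ⟨s', hs'⟩ : ∃ s', s' = D.reflectRoot i s := ⟨_, rfl⟩
  rw [← ha] at hact hsign
  rw [← hs'] at hacts hcart hsign
  have hal : a < D.nroots := by rw [ha]; exact simple_lt D hD i hi
  have hs'l : s' < D.nroots := by rw [hs']; exact (reflectRoot_invol D hD i hi s hs).1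
  obtain ⟨cc, hcc, hmat⟩ := exists_torusMat_of_mem D hD h hh
  have hinv := act_invol D hD w hw h hh hmm s hs
  rw [wAct_append, hacts] at hinv
  have k1 := nh_conj_x D hD w hw h cc hcc hmat s hs (1 : F)
  rw [hacts] at k1
  have k2 := nh_conj_x D hD w hw h cc hcc hmat s' hs'l
    (((wEps D w s : ℤ) : F) * chi D cc s * 1)
  rw [hinv] at k2
  have k3 := conj_twice (wGL D hD w * h) (xGL D hD s (1 : F)) hmm
  rw [k1, k2] at k3
  have k4 := xGL_inj D hD s hs _ _ k3
  have hchi := chi_reflect D hD cc hcc i hi s hs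
  rw [← hs', ← ha, hcart] at hchi
  have hA : chi D cc a ≠ 0 := chi_ne_zero D cc hcc a
  have hX : chi D cc s ≠ 0 := chi_ne_zero D cc hcc s
  have hsignF : ((wEps D w a : ℤ) : F) * ((wEps D w s : ℤ) : F) * ((wEps D w s' : ℤ) : F) = 1 := by
    have := congrArg (fun z : ℤ => (z : F)) hsign
    simpa using this
  have hEs : ((wEps D w s : ℤ) : F) * ((wEps D w s : ℤ) : F) = 1 :=
    wEps_cast_mul_self D hD w hw s hs
  have hEs' : ((wEps D w s' : ℤ) : F) * ((wEps D w s' : ℤ) : F) = 1 :=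
    wEps_cast_mul_self D hD w hw s' hs'l
  -- `ε_a χ_a = χ_s²`
  have key : ((wEps D w a : ℤ) : F) * chi D cc a = chi D cc s * chi D cc s := by
    rw [hchi, zpow_neg, zpow_one] at k4
    have k5 : ((wEps D w s' : ℤ) : F) * ((wEps D w s : ℤ) : F) * (chi D cc s * chi D cc s)
        = chi D cc a := by
      field_simp at k4
      linear_combination k4
    rw [← k5]
    calc ((wEps D w a : ℤ) : F) * (((wEps D w s' : ℤ) : F) * ((wEps D w s : ℤ) : F)
          * (chi D cc s * chi D cc s))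
        = (((wEps D w a : ℤ) : F) * ((wEps D w s : ℤ) : F) * ((wEps D w s' : ℤ) : F))
          * (chi D cc s * chi D cc s) := by ring
      _ = _ := by rw [hsignF, one_mul]
  apply drop_simple D hD hodd w hw i hi h hh hmm (chi D cc s) hX
  intro c
  rw [← ha, nh_conj_x D hD w hw h cc hcc hmat a hal c, hact, key]

/-- the step with a flip root: after a flip at `r₁` the constant `μ_{p_i}` is a square -/
theorem step_a [Fintype F] (D : ChevalleyDatum) (hD : D ∈ Seven) (hodd : Odd (Fintype.card F))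
    (w : List ℕ) (hw : Wd D w) (i : ℕ) (hi : i < D.rank) (r1 : ℕ) (hr1 : r1 < D.nroots)
    (hact : wAct D w (D.simple i) = D.neg (D.simple i))
    (hact1 : wAct D w r1 = D.neg r1)
    (hpar : pairZ D r1 (D.neg (D.simple i)) % 2 = 1)
    (h : GL D.Idx F) (hh : h ∈ D.diagonalSubgroup F)
    (hmm : (wGL D hD w * h) * (wGL D hD w * h) = 1) :
    ∃ g ∈ D.group F, ∃ h' ∈ D.diagonalSubgroup F,
      (wGL D hD (i :: w) * h') * (wGL D hD (i :: w) * h') = 1 ∧
      g * (wGL D hD w * h) * g⁻¹ = wGL D hD (i :: w) * h' := by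
  classical
  obtain ⟨a, ha⟩ : ∃ a, a = D.simple i := ⟨_, rfl⟩
  rw [← ha] at hact hpar
  have hal : a < D.nroots := by rw [ha]; exact simple_lt D hD i hi
  obtain ⟨cc, hcc, hmat⟩ := exists_torusMat_of_mem D hD h hh
  obtain ⟨μ, hμdef⟩ : ∃ μ, μ = ((wEps D w a : ℤ) : F) * chi D cc a := ⟨_, rfl⟩
  have hμ : μ ≠ 0 := by
    rw [hμdef]
    exact mul_ne_zero (wEps_cast_ne_zero D hD w hw a hal) (chi_ne_zero D cc hcc a)
  have hmove : ∀ c : F, (wGL D hD w * h) * xGL D hD a c * (wGL D hD w * h)⁻¹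
      = xGL D hD (D.neg a) (μ * c) := by
    intro c
    rw [nh_conj_x D hD w hw h cc hcc hmat a hal c, hact, hμdef]
  by_cases hsq : IsSquare μ
  · obtain ⟨κ, hκ⟩ := hsq
    have hκ0 : κ ≠ 0 := by
      rintro rfl
      rw [mul_zero] at hκ
      exact hμ hκ
    apply drop_simple D hD hodd w hw i hi h hh hmm κ hκ0
    intro c
    rw [← ha, hmove c, hκ]
  · -- flip at `r₁` with `β = μ`
    obtain ⟨μ1, hμ1def⟩ : ∃ μ1, μ1 = ((wEps D w r1 : ℤ) : F) * chi D cc r1 := ⟨_, rfl⟩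
    have hμ1 : μ1 ≠ 0 := by
      rw [hμ1def]
      exact mul_ne_zero (wEps_cast_ne_zero D hD w hw r1 hr1) (chi_ne_zero D cc hcc r1)
    have hmove1 : ∀ c : F, (wGL D hD w * h) * xGL D hD r1 c * (wGL D hD w * h)⁻¹
        = xGL D hD (D.neg r1) (μ1 * c) := by
      intro c
      rw [nh_conj_x D hD w hw h cc hcc hmat r1 hr1 c, hact1, hμ1def]
    obtain ⟨g₁, hg₁, hflip⟩ := flip_move D hD r1 (wGL D hD w * h) μ1 hodd hr1 hμ1 hmm hmove1 μ hμ
    obtain ⟨d', hd', e'⟩ := diag_mul_word D hD w hw (hGL D hD r1 μ)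
      (hGL_mem_diagonal D hD r1 hr1 μ hμ)
    have em2 : hGL D hD r1 μ * (wGL D hD w * h) = wGL D hD w * (d' * h) := by
      rw [← mul_assoc, e']; group
    have hmm2 : (wGL D hD w * (d' * h)) * (wGL D hD w * (d' * h)) = 1 := by
      rw [← em2, ← hflip]
      exact conj_sq_eq_one g₁ _ hmm
    -- the exponent
    obtain ⟨k, hk⟩ : ∃ k : ℤ, pairZ D r1 (D.neg a) = 2 * k + 1 := ⟨pairZ D r1 (D.neg a) / 2, by omega⟩
    have hκ0 : μ ^ (k + 1) ≠ 0 := zpow_ne_zero _ hμ
    have hκκ : μ ^ (k + 1) * μ ^ (k + 1) = μ ^ (pairZ D r1 (D.neg a)) * μ := by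
      rw [hk, ← zpow_add₀ hμ, ← zpow_add_one₀ hμ]
      congr 1
      ring
    obtain ⟨g, hg, h', hh', h1, h2⟩ := drop_simple D hD hodd w hw i hi (d' * h) (mul_mem hd' hh) hmm2
      (μ ^ (k + 1)) hκ0 (by
        intro c
        rw [← em2, ← ha]
        calc hGL D hD r1 μ * (wGL D hD w * h) * xGL D hD a c * (hGL D hD r1 μ * (wGL D hD w * h))⁻¹
            = hGL D hD r1 μ * ((wGL D hD w * h) * xGL D hD a c * (wGL D hD w * h)⁻¹)
              * (hGL D hD r1 μ)⁻¹ := by group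
          _ = _ := by
            rw [hmove c, hGL_conj_x_gen D hD r1 hr1 μ hμ, hκκ, mul_assoc])
    refine ⟨g * g₁, mul_mem hg hg₁, h', hh', h1, ?_⟩
    rw [← h2, ← em2, ← hflip]
    group

end Cfsg.Agent.Lib.Helper9.InvolX
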