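import Mathlib
import Cfsg.Prelude.Def_ChevStructure
import Cfsg.Agent.Lib.Helper9.InvolXC

set_option autoImplicit false

/-!
Involutions of `N` (seven types, odd `q`): certificates, the certified step, and the induction
showing that every involution of the group is conjugate into `H` once every word is covered by a
certified one.
-/

namespace Cfsg.Agent.Lib.Helper9.InvolX

open Cfsg Cfsg.Lie Cfsg.Agent.Lib.Helper5.ChevSym Cfsg.Agent.Lib.Helper5.ChevStruct
  Cfsg.Agent.Lib.Helper1.InvolN Cfsg.Agent.Lib.Helper1.InvolMoves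

variable {F : Type*} [Field F]

/-- the number of roots negated by the word `w` -/
def phiCount (D : ChevalleyDatum) (w : List ℕ) : ℕ :=
  ((List.range D.nroots).filter fun r => Nat.beq (wActC D w r) (D.neg r)).length

theorem phiCount_congr (D : ChevalleyDatum) (a b : List ℕ)
    (h : ∀ r < D.nroots, wAct D a r = wAct D b r) : phiCount D a = phiCount D b := by
  unfold phiCount
  congr 1
  apply List.filter_congr
  intro r hr
  rw [wActC_eq, wActC_eq, h r (List.mem_range.1 hr)]

/-- one step of the action with its sign, in a shape in which the kernel shares work -/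
def aeStep (D : ChevalleyDatum) (i : ℕ) : ℕ → ℤ → ℕ × ℤ
  | 0, e => (D.reflectRoot i 0, eta D i 0 * e)
  | k + 1, e => (D.reflectRoot i (Nat.succ k), eta D i (Nat.succ k) * e)

theorem aeStep_eq (D : ChevalleyDatum) (i n : ℕ) (e : ℤ) :
    aeStep D i n e = (D.reflectRoot i n, eta D i n * e) := by
  cases n <;> rfl

/-- the action of a word on a root together with the sign of the conjugation -/
def wAE (D : ChevalleyDatum) (w : List ℕ) (r : ℕ) : ℕ × ℤ :=
  w.foldr (fun i p => aeStep D i p.1 p.2) (r, 1)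

theorem wAE_eq (D : ChevalleyDatum) (w : List ℕ) (r : ℕ) :
    wAE D w r = (wAct D w r, wEps D w r) := by
  induction w with
  | nil => rfl
  | cons i w ih =>
    have e1 : wAE D (i :: w) r = aeStep D i (wAE D w r).1 (wAE D w r).2 := rfl
    rw [e1, ih, aeStep_eq]
    rfl

/-- a certificate for an involutive word `u`: conjugate by `n_v`, then drop at the fundamental
root `p_i`, either after a flip at the root `x` (`kind = true`) or thanks to the test root `x`
(`kind = false`) -/
structure Cert where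
  kind : Bool
  v : List ℕ
  i : ℕ
  x : ℕ
deriving Inhabited

/-- the check of a certificate -/
def certOK (D : ChevalleyDatum) (u : List ℕ) (c : Cert) : Bool :=
  c.v.all (fun j => Nat.blt j D.rank) && Nat.blt c.i D.rank && Nat.blt c.x D.nroots &&
  Nat.beq (wActC D (c.v ++ u ++ c.v.reverse) (D.simple c.i)) (D.neg (D.simple c.i)) &&
  Nat.blt (phiCount D (c.i :: (c.v ++ u ++ c.v.reverse))) (phiCount D u) &&
  (if c.kind then
    Nat.beq (wActC D (c.v ++ u ++ c.v.reverse) c.x) (D.neg c.x) &&
      decide (pairZ D c.x (D.neg (D.simple c.i)) % 2 = 1)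
  else
    Nat.beq (wActC D (c.v ++ u ++ c.v.reverse) c.x) (D.reflectRoot c.i c.x) &&
      decide (D.cartan c.i (D.reflectRoot c.i c.x) = -1) &&
      decide ((wAE D (c.v ++ u ++ c.v.reverse) (D.simple c.i)).2 *
        (wAE D (c.v ++ u ++ c.v.reverse) c.x).2 *
        (wAE D (c.v ++ u ++ c.v.reverse) (D.reflectRoot c.i c.x)).2 = 1))

/-- the certified step -/
theorem step_of_cert [Fintype F] (D : ChevalleyDatum) (hD : D ∈ Seven)
    (hodd : Odd (Fintype.card F)) (u : List ℕ) (hu : Wd D u) (c : Cert)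
    (hc : certOK D u c = true) (h : GL D.Idx F) (hh : h ∈ D.diagonalSubgroup F)
    (hmm : (wGL D hD u * h) * (wGL D hD u * h) = 1) :
    ∃ g ∈ D.group F, ∃ w' : List ℕ, Wd D w' ∧ phiCount D w' < phiCount D u ∧
      ∃ h' ∈ D.diagonalSubgroup F, (wGL D hD w' * h') * (wGL D hD w' * h') = 1 ∧
        g * (wGL D hD u * h) * g⁻¹ = wGL D hD w' * h' := by
  unfold certOK at hc
  simp only [Bool.and_eq_true, wActC_eq, wAE_eq] at hc
  obtain ⟨⟨⟨⟨⟨c1, c2⟩, c3⟩, c4⟩, c5⟩, c6⟩ := hc
  have hv : Wd D c.v := by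
    intro j hj
    have := (List.all_eq_true.1 c1) j hj
    rwa [Nat.blt_eq] at this
  have hi : c.i < D.rank := by rwa [Nat.blt_eq] at c2
  have hx : c.x < D.nroots := by rwa [Nat.blt_eq] at c3
  have hact := Nat.eq_of_beq_eq_true c4
  have hphi : phiCount D (c.i :: (c.v ++ u ++ c.v.reverse)) < phiCount D u := by
    rwa [Nat.blt_eq] at c5
  have hw1 : Wd D (c.v ++ u ++ c.v.reverse) := (hv.append hu).append hv.reverse
  have hw2 : Wd D (c.i :: (c.v ++ u ++ c.v.reverse)) := by
    intro j hj
    rcases List.mem_cons.1 hj with rfl | hj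
    exacts [hi, hw1 j hj]
  obtain ⟨h1, hh1, e1⟩ := conj_word D hD u c.v hu hv h hh
  have hmm1 : (wGL D hD (c.v ++ u ++ c.v.reverse) * h1)
      * (wGL D hD (c.v ++ u ++ c.v.reverse) * h1) = 1 := by
    rw [← e1]
    exact conj_sq_eq_one _ _ hmm
  have hvG : wGL D hD c.v ∈ D.group F := monomial_le_group D hD (wGL_mem D hD c.v hv)
  have key : ∃ g ∈ D.group F, ∃ h' ∈ D.diagonalSubgroup F,
      (wGL D hD (c.i :: (c.v ++ u ++ c.v.reverse)) * h')
        * (wGL D hD (c.i :: (c.v ++ u ++ c.v.reverse)) * h') = 1 ∧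
      g * (wGL D hD (c.v ++ u ++ c.v.reverse) * h1) * g⁻¹
        = wGL D hD (c.i :: (c.v ++ u ++ c.v.reverse)) * h' := by
    cases hk : c.kind with
    | true =>
      rw [hk] at c6
      simp only [if_true, Bool.and_eq_true] at c6
      exact step_a D hD hodd _ hw1 c.i hi c.x hx hact (Nat.eq_of_beq_eq_true c6.1)
        (of_decide_eq_true c6.2) h1 hh1 hmm1
    | false =>
      rw [hk] at c6
      simp only [Bool.false_eq_true, if_false, Bool.and_eq_true] at c6
      exact step_b D hD hodd _ hw1 c.i hi c.x hx hact (Nat.eq_of_beq_eq_true c6.1.1)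
        (of_decide_eq_true c6.1.2) (of_decide_eq_true c6.2) h1 hh1 hmm1
  obtain ⟨g, hg, h', hh', k1, k2⟩ := key
  refine ⟨g * wGL D hD c.v, mul_mem hg hvG, _, hw2, hphi, h', hh', k1, ?_⟩
  rw [← k2, ← e1]
  group

/-- the status of a covering word: it acts trivially, or not as an involution, or it has a
certificate -/
def Covered (D : ChevalleyDatum) (u : List ℕ) : Prop :=
  (∀ r < D.nroots, wAct D u r = r) ∨ (∃ r < D.nroots, wAct D (u ++ u) r ≠ r) ∨
    ∃ c : Cert, certOK D u c = true

/-- the check of a row of a status table: tag `0` = the word acts trivially, tag `1` = the word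
does not act as an involution (witness `c.x`), other tags = `c` is a certificate -/
def rowOK (D : ChevalleyDatum) (u : List ℕ) (tag : ℕ) (c : Cert) : Bool :=
  match tag with
  | 0 => (List.range D.nroots).all fun r => Nat.beq (wActC D u r) r
  | 1 => Nat.blt c.x D.nroots && !(Nat.beq (wActC D (u ++ u) c.x) c.x)
  | _ => certOK D u c

theorem rowOK_spec (D : ChevalleyDatum) (u : List ℕ) (tag : ℕ) (c : Cert)
    (h : rowOK D u tag c = true) : Covered D u := by
  unfold rowOK at h
  split at h
  · left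
    intro r hr
    have := Nat.eq_of_beq_eq_true ((List.all_eq_true.1 h) r (List.mem_range.2 hr))
    rwa [wActC_eq] at this
  · right; left
    rw [Bool.and_eq_true] at h
    refine ⟨c.x, by simpa using h.1, ?_⟩
    intro e
    have h2 := h.2
    rw [wActC_eq, e] at h2
    simp at h2
  · right; right
    exact ⟨c, h⟩

/-- the induction: every involution `n_w h` of `N` is conjugate into `H` -/
theorem invol_monomial_to_diag [Fintype F] (D : ChevalleyDatum) (hD : D ∈ Seven)
    (hodd : Odd (Fintype.card F))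
    (hcover : ∀ w : List ℕ, Wd D w → ∃ u : List ℕ, Wd D u ∧
      (∀ r < D.nroots, wAct D w r = wAct D u r) ∧ Covered D u) :
    ∀ (n : ℕ) (w : List ℕ), Wd D w → phiCount D w = n → ∀ h ∈ D.diagonalSubgroup F,
      (wGL D hD w * h) * (wGL D hD w * h) = 1 →
      ∃ g ∈ D.group F, g * (wGL D hD w * h) * g⁻¹ ∈ D.diagonalSubgroup F := by
  intro n
  induction n using Nat.strong_induction_on with
  | _ n ih =>
    intro w hw hn h hh hmm
    obtain ⟨u, hu, hact, hcov⟩ := hcover w hw
    obtain ⟨h', hh', e⟩ := replace_word D hD w u hw hu hact h hh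
    rw [e] at hmm ⊢
    rcases hcov with h1 | ⟨r, hr, h2⟩ | ⟨c, hc⟩
    · exact ⟨1, one_mem _, by
        rw [one_mul, inv_one, mul_one]
        exact mem_diag_of_act_trivial D hD u hu h' hh' h1⟩
    · exact absurd (act_invol D hD u hu h' hh' hmm r hr) h2
    · obtain ⟨g, hg, w', hw', hlt, h'', hh'', k1, k2⟩ :=
        step_of_cert D hD hodd u hu c hc h' hh' hmm
      rw [← phiCount_congr D w u hact, hn] at hlt
      obtain ⟨g', hg', k3⟩ := ih _ hlt w' hw' rfl h'' hh'' k1
      refine ⟨g' * g, mul_mem hg' hg, ?_⟩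
      have : g' * g * (wGL D hD u * h') * (g' * g)⁻¹
          = g' * (g * (wGL D hD u * h') * g⁻¹) * g'⁻¹ := by group
      rw [this, k2]
      exact k3

/-- every involution of the group is conjugate into `H` -/
theorem invol_to_diag_of_cover [Fintype F] (D : ChevalleyDatum) (hD : D ∈ Seven)
    (hodd : Odd (Fintype.card F))
    (hcover : ∀ w : List ℕ, Wd D w → ∃ u : List ℕ, Wd D u ∧
      (∀ r < D.nroots, wAct D w r = wAct D u r) ∧ Covered D u)
    (t : GL D.Idx F) (ht : t ∈ D.group F) (ht2 : t * t = 1) :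
    ∃ g ∈ D.group F, g * t * g⁻¹ ∈ D.diagonalSubgroup F := by
  obtain ⟨g₁, hg₁, n, hn, hnn, e⟩ := invol_conj_monomial D hD hodd t ht ht2
  obtain ⟨w, hw, h, hh, rfl⟩ := exists_word_of_mem_monomial D hD n hn
  obtain ⟨g, hg, k⟩ := invol_monomial_to_diag D hD hodd hcover _ w hw rfl h hh hnn
  refine ⟨g * g₁, mul_mem hg hg₁, ?_⟩
  have : g * g₁ * t * (g * g₁)⁻¹ = g * (g₁ * t * g₁⁻¹) * g⁻¹ := by group
  rw [this, e]
  exact k

end Cfsg.Agent.Lib.Helper9.InvolX
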