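import Cfsg.Agent.Lib.Helper9.GolayQR5

set_option autoImplicit false

namespace Cfsg.Agent.Lib.Helper9.GolayM24a

open Cfsg Finset Cfsg.Agent.Lib.Helper9.Golay1 Cfsg.Agent.Lib.Helper9.GolayQR4
  Cfsg.Agent.Lib.Helper9.GolayQR5
open scoped Pointwise

/-- composition with a permutation, as a linear equivalence of the word space -/
def permLin (g : Equiv.Perm GolayPt) : (GolayPt → ZMod 2) ≃ₗ[ZMod 2] (GolayPt → ZMod 2) :=
  LinearEquiv.funCongrLeft (ZMod 2) (ZMod 2) g

theorem permLin_apply (g : Equiv.Perm GolayPt) (w : GolayPt → ZMod 2) :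
    permLin g w = w ∘ g := rfl

theorem support_comp (g : Equiv.Perm GolayPt) (w : GolayPt → ZMod 2) :
    support₂ (w ∘ g) = g⁻¹ • support₂ w := by
  ext p
  rw [← supp_eq_support₂, ← supp_eq_support₂, mem_supp, Finset.mem_smul_finset]
  constructor
  · intro h
    refine ⟨g p, mem_supp.mpr h, ?_⟩
    simp
  · rintro ⟨q, hq, rfl⟩
    have : (w ∘ g) (g⁻¹ • q) = w q := by simp
    rw [this]
    exact mem_supp.mp hq

theorem map_eq_of_gens (g : Equiv.Perm GolayPt) (h : ∀ t : ZMod 23, qrWord t ∘ g ∈ golayCode) :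
    golayCode.map (permLin g).toLinearMap = golayCode := by
  have hle : golayCode.map (permLin g).toLinearMap ≤ golayCode := by
    unfold golayCode
    rw [Submodule.map_span_le]
    rintro w (⟨t, rfl⟩ | hw)
    · exact h t
    · rw [Set.mem_singleton_iff] at hw
      rw [hw]
      have : (permLin g).toLinearMap (1 : GolayPt → ZMod 2) = 1 := rfl
      rw [this]
      exact Submodule.subset_span (Or.inr rfl)
  apply Submodule.eq_of_le_of_finrank_eq hle
  exact LinearEquiv.finrank_map_eq (permLin g) golayCode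

theorem mem_M24_of_gens (g : Equiv.Perm GolayPt)
    (h : ∀ t : ZMod 23, qrWord t ∘ g ∈ golayCode) : g ∈ M24 := by
  have hmap := map_eq_of_gens g h
  have hinv : g⁻¹ ∈ M24 := by
    rw [MulAction.mem_stabilizer_iff]
    unfold supports
    ext b
    constructor
    · rintro ⟨b', ⟨w, hw, rfl⟩, rfl⟩
      refine ⟨w ∘ g, ?_, ?_⟩
      · rw [← hmap]
        exact ⟨w, hw, rfl⟩
      · exact support_comp g w
    · rintro ⟨w, hw, rfl⟩
      rw [SetLike.mem_coe, ← hmap] at hw
      obtain ⟨w', hw', rfl⟩ := hw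
      refine ⟨support₂ w', ⟨w', hw', rfl⟩, ?_⟩
      exact (support_comp g w').symm
  exact (Subgroup.inv_mem_iff _).mp hinv

end Cfsg.Agent.Lib.Helper9.GolayM24a
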