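import Mathlib

set_option autoImplicit false
set_option linter.unusedSectionVars false
set_option linter.unusedVariables false
set_option linter.style.longLine false
set_option linter.unusedSimpArgs false

set_option maxHeartbeats 1600000
namespace Cfsg.Agent.Lib.Helper9.Gl23
open Matrix

abbrev M3 := Matrix (Fin 2) (Fin 2) (ZMod 3)
abbrev GL3 := Matrix.GeneralLinearGroup (Fin 2) (ZMod 3)

theorem forall_M3 {P : M3 → Prop} (h : ∀ a b c d : ZMod 3, P !![a, b; c, d]) (M : M3) : P M := by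
  rw [Matrix.eta_fin_two M]; exact h _ _ _ _

def Vm : M3 := !![0, 1; 1, 1]
def Ym : M3 := !![2, 2; 0, 2]
def Cm : M3 := !![1, 0; 1, 2]
def Dm : M3 := !![1, 0; 0, 2]
def Tm : M3 := !![2, 0; 0, 2]

def Vu : GL3 := ⟨Vm, !![2, 1; 1, 0], by decide, by decide⟩
def Yu : GL3 := ⟨Ym, !![2, 1; 0, 2], by decide, by decide⟩
def Cu : GL3 := ⟨Cm, Cm, by decide, by decide⟩
def Du : GL3 := ⟨Dm, Dm, by decide, by decide⟩
def Tu : GL3 := ⟨Tm, Tm, by decide, by decide⟩
def Au (k : ZMod 4) : GL3 := Cu * Vu ^ (2 * k.val)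

theorem Vu_pow_four : Vu ^ 4 = Tu := by decide
theorem Vu_pow_eight : Vu ^ 8 = 1 := by decide
theorem Yu_pow_three : Yu ^ 3 = Tu := by decide
theorem Yu_pow_two : Yu ^ 2 ≠ 1 := by decide
theorem Yu_pow_six : Yu ^ 6 = 1 := by decide
theorem Tu_ne_one : Tu ≠ 1 := by decide
theorem Cu_conj : Cu * Vu * Cu⁻¹ = Vu ^ 3 := by decide
theorem Du_conj : Du * Yu * Du⁻¹ = Yu ^ 5 := by decide
theorem Vu_sq_inv : (Vu ^ 2)⁻¹ = Vu ^ 6 := by decide
theorem Au_mul (k : ZMod 4) : Au k * Au (k + 1) = Vu ^ 2 := by revert k; decide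
theorem Au_inv_mul (k : ZMod 4) : (Au k)⁻¹ * Vu ^ 2 = Au (k + 1) := by revert k; decide
theorem Au_inj : Function.Injective Au := by unfold Function.Injective; decide
theorem Au_zero : Au 0 = Cu := by decide

theorem dec_center (M : M3) : M * Vm = Vm * M → M * Ym = Ym * M → M * M = 1 → M ≠ 1 → M = Tm :=
  forall_M3 (P := fun M => M * Vm = Vm * M → M * Ym = Ym * M → M * M = 1 → M ≠ 1 → M = Tm)
    (by beta_reduce; decide) M

theorem dec_commV (M : M3) : M * Vm = Vm * M → M 0 0 * M 1 1 - M 0 1 * M 1 0 ≠ 0 →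
    ∃ k : Fin 8, M = Vm ^ (k : ℕ) :=
  forall_M3 (P := fun M => M * Vm = Vm * M → M 0 0 * M 1 1 - M 0 1 * M 1 0 ≠ 0 →
    ∃ k : Fin 8, M = Vm ^ (k : ℕ)) (by beta_reduce; decide) M

theorem dec_commU (M : M3) : M * Vm ^ 2 = Vm ^ 2 * M → M 0 0 * M 1 1 - M 0 1 * M 1 0 ≠ 0 →
    ∃ k : Fin 8, M = Vm ^ (k : ℕ) :=
  forall_M3 (P := fun M => M * Vm ^ 2 = Vm ^ 2 * M → M 0 0 * M 1 1 - M 0 1 * M 1 0 ≠ 0 →
    ∃ k : Fin 8, M = Vm ^ (k : ℕ)) (by beta_reduce; decide) M

theorem dec_commY (M : M3) : M * Ym = Ym * M → M 0 0 * M 1 1 - M 0 1 * M 1 0 ≠ 0 →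
    ∃ k : Fin 6, M = Ym ^ (k : ℕ) :=
  forall_M3 (P := fun M => M * Ym = Ym * M → M 0 0 * M 1 1 - M 0 1 * M 1 0 ≠ 0 →
    ∃ k : Fin 6, M = Ym ^ (k : ℕ)) (by beta_reduce; decide) M

theorem dec_V5 (M : M3) : M * Vm = Vm ^ 5 * M → M 0 0 * M 1 1 - M 0 1 * M 1 0 = 0 :=
  forall_M3 (P := fun M => M * Vm = Vm ^ 5 * M → M 0 0 * M 1 1 - M 0 1 * M 1 0 = 0)
    (by beta_reduce; decide) M

theorem dec_V7 (M : M3) : M * Vm = Vm ^ 7 * M → M 0 0 * M 1 1 - M 0 1 * M 1 0 = 0 :=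
  forall_M3 (P := fun M => M * Vm = Vm ^ 7 * M → M 0 0 * M 1 1 - M 0 1 * M 1 0 = 0)
    (by beta_reduce; decide) M

theorem dec_invU (M : M3) : M * M = 1 → M * Vm ^ 2 = Vm ^ 6 * M →
    ∃ k : ZMod 4, M = Cm * Vm ^ (2 * k.val) :=
  forall_M3 (P := fun M => M * M = 1 → M * Vm ^ 2 = Vm ^ 6 * M →
    ∃ k : ZMod 4, M = Cm * Vm ^ (2 * k.val)) (by beta_reduce; decide) M

theorem dec_conjA : ∀ k : ZMod 4, ∃ a b c d : ZMod 3, a * d - b * c ≠ 0 ∧
    (!![a, b; c, d] : M3) * Cm = (Cm * Vm ^ (2 * k.val)) * !![a, b; c, d] := by decide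

theorem det_ne (g : GL3) : g.val 0 0 * g.val 1 1 - g.val 0 1 * g.val 1 0 ≠ 0 := by
  have h := (Matrix.isUnit_iff_isUnit_det g.val).mp g.isUnit
  rw [Matrix.det_fin_two] at h
  exact h.ne_zero

theorem gl_center (g : GL3) (h1 : g * Vu = Vu * g) (h2 : g * Yu = Yu * g) (h3 : g * g = 1)
    (h4 : g ≠ 1) : g = Tu := by
  apply Units.ext
  exact dec_center g.val (congrArg Units.val h1) (congrArg Units.val h2) (congrArg Units.val h3)
    (fun h => h4 (Units.ext h))

theorem gl_commV (g : GL3) (h : g * Vu = Vu * g) : ∃ k : Fin 8, g = Vu ^ (k : ℕ) := by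
  obtain ⟨k, hk⟩ := dec_commV g.val (congrArg Units.val h) (det_ne g)
  exact ⟨k, Units.ext (by rw [hk, Units.val_pow_eq_pow_val]; rfl)⟩

theorem gl_commU (g : GL3) (h : g * Vu ^ 2 = Vu ^ 2 * g) : ∃ k : Fin 8, g = Vu ^ (k : ℕ) := by
  have h1 : (g * Vu ^ 2).val = (Vu ^ 2 * g).val := congrArg Units.val h
  rw [Units.val_mul, Units.val_mul, Units.val_pow_eq_pow_val] at h1
  obtain ⟨k, hk⟩ := dec_commU g.val h1 (det_ne g)
  exact ⟨k, Units.ext (by rw [hk, Units.val_pow_eq_pow_val]; rfl)⟩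

theorem gl_commY (g : GL3) (h : g * Yu = Yu * g) : ∃ k : Fin 6, g = Yu ^ (k : ℕ) := by
  obtain ⟨k, hk⟩ := dec_commY g.val (congrArg Units.val h) (det_ne g)
  exact ⟨k, Units.ext (by rw [hk, Units.val_pow_eq_pow_val]; rfl)⟩

theorem gl_V5 (g : GL3) (h : g * Vu * g⁻¹ = Vu ^ 5) : False := by
  have h0 : g * Vu = Vu ^ 5 * g := by rw [← h]; group
  have h1 : (g * Vu).val = (Vu ^ 5 * g).val := congrArg Units.val h0
  rw [Units.val_mul, Units.val_mul, Units.val_pow_eq_pow_val] at h1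
  exact det_ne g (dec_V5 g.val h1)

theorem gl_V7 (g : GL3) (h : g * Vu * g⁻¹ = Vu ^ 7) : False := by
  have h0 : g * Vu = Vu ^ 7 * g := by rw [← h]; group
  have h1 : (g * Vu).val = (Vu ^ 7 * g).val := congrArg Units.val h0
  rw [Units.val_mul, Units.val_mul, Units.val_pow_eq_pow_val] at h1
  exact det_ne g (dec_V7 g.val h1)

theorem gl_invU (g : GL3) (h2 : g * g = 1) (h : g * Vu ^ 2 * g⁻¹ = (Vu ^ 2)⁻¹) :
    ∃ k : ZMod 4, g = Au k := by
  have h0 : g * Vu ^ 2 = Vu ^ 6 * g := by rw [← Vu_sq_inv, ← h]; group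
  have h1 : (g * Vu ^ 2).val = (Vu ^ 6 * g).val := congrArg Units.val h0
  rw [Units.val_mul, Units.val_mul, Units.val_pow_eq_pow_val, Units.val_pow_eq_pow_val] at h1
  obtain ⟨k, hk⟩ := dec_invU g.val (congrArg Units.val h2) h1
  refine ⟨k, Units.ext ?_⟩
  rw [hk, Au, Units.val_mul, Units.val_pow_eq_pow_val]; rfl

theorem conj_A0 (k : ZMod 4) : ∃ B : GL3, B * Au 0 * B⁻¹ = Au k := by
  obtain ⟨a, b, c, d, hdet, h⟩ := dec_conjA k
  have hd : (!![a, b; c, d] : M3).det ≠ 0 := by rw [Matrix.det_fin_two_of]; exact hdet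
  refine ⟨Matrix.GeneralLinearGroup.mkOfDetNeZero _ hd, ?_⟩
  have h0 : Matrix.GeneralLinearGroup.mkOfDetNeZero _ hd * Au 0
      = Au k * Matrix.GeneralLinearGroup.mkOfDetNeZero _ hd := by
    apply Units.ext
    rw [Au_zero, Units.val_mul, Units.val_mul, Au, Units.val_mul, Units.val_pow_eq_pow_val]
    exact h
  rw [h0]; group

theorem orderOf_Vu : orderOf Vu = 8 := by
  have : orderOf Vu = 2 ^ (2 + 1) := orderOf_eq_prime_pow (by decide) (by decide)
  simpa using this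

theorem orderOf_Yu : orderOf Yu = 6 := by
  refine orderOf_eq_of_pow_and_pow_div_prime (by norm_num) Yu_pow_six ?_
  intro p hp hd
  have hle : p ≤ 6 := Nat.le_of_dvd (by norm_num) hd
  interval_cases p
  · exact absurd hp (by decide)
  · exact absurd hp (by decide)
  · decide
  · decide
  · exact absurd hd (by decide)
  · exact absurd hd (by decide)
  · exact absurd hp (by decide)

theorem card_GL3 : Nat.card GL3 = 48 := by
  rw [Matrix.card_GL_field]
  simp [Fin.prod_univ_two]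

section transport

variable {G : Type*} [Group G] {t : G} (e : Subgroup.centralizer ({t} : Set G) ≃* GL3)

noncomputable def phi : GL3 →* G := (Subgroup.subtype _).comp e.symm.toMonoidHom

theorem phi_inj : Function.Injective (phi e) := by
  intro a b h
  exact e.symm.injective (Subtype.val_injective h)

theorem phi_mem (A : GL3) : phi e A ∈ Subgroup.centralizer ({t} : Set G) := (e.symm A).2

theorem phi_e (x : G) (hx : x ∈ Subgroup.centralizer ({t} : Set G)) : phi e (e ⟨x, hx⟩) = x := by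
  show ((e.symm (e ⟨x, hx⟩) : Subgroup.centralizer ({t} : Set G)) : G) = x
  rw [MulEquiv.symm_apply_apply]

theorem mem_cent_iff (x : G) : x ∈ Subgroup.centralizer ({t} : Set G) ↔ x * t = t * x := by
  rw [Subgroup.mem_centralizer_singleton_iff]

theorem exists_of_comm (x : G) (hx : x * t = t * x) : ∃ A : GL3, phi e A = x :=
  ⟨e ⟨x, (mem_cent_iff x).mpr hx⟩, phi_e e x _⟩

theorem comm_t (A : GL3) : phi e A * t = t * phi e A := (mem_cent_iff _).mp (phi_mem e A)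

theorem t_sq (ht : orderOf t = 2) : t * t = 1 := by
  rw [← pow_two, ← ht, pow_orderOf_eq_one]

theorem t_ne_one (ht : orderOf t = 2) : t ≠ 1 := by
  intro h
  rw [h, orderOf_one] at ht
  omega

theorem phi_Tu (ht : orderOf t = 2) : phi e Tu = t := by
  have htm : t ∈ Subgroup.centralizer ({t} : Set G) := (mem_cent_iff t).mpr rfl
  have hcomm : ∀ A : GL3, e ⟨t, htm⟩ * A = A * e ⟨t, htm⟩ := by
    intro A
    apply phi_inj e
    rw [map_mul, map_mul, phi_e]
    exact (comm_t e A).symm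
  have hsq : e ⟨t, htm⟩ * e ⟨t, htm⟩ = 1 := by
    apply phi_inj e
    rw [map_mul, phi_e, map_one]
    exact t_sq ht
  have hne : e ⟨t, htm⟩ ≠ 1 := by
    intro h
    have h1 := phi_e e t htm
    rw [h, map_one] at h1
    exact t_ne_one ht h1.symm
  have h2 := gl_center _ (hcomm Vu) (hcomm Yu) hsq hne
  rw [← h2, phi_e]

theorem v_pow_four (ht : orderOf t = 2) : phi e Vu ^ 4 = t := by
  rw [← map_pow, Vu_pow_four, phi_Tu e ht]

theorem y_pow_three (ht : orderOf t = 2) : phi e Yu ^ 3 = t := by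
  rw [← map_pow, Yu_pow_three, phi_Tu e ht]

theorem orderOf_v : orderOf (phi e Vu) = 8 := by
  rw [orderOf_injective (phi e) (phi_inj e), orderOf_Vu]

theorem orderOf_y : orderOf (phi e Yu) = 6 := by
  rw [orderOf_injective (phi e) (phi_inj e), orderOf_Yu]

include e in
theorem card_cent : Nat.card (Subgroup.centralizer ({t} : Set G)) = 48 := by
  rw [Nat.card_congr e.toEquiv, card_GL3]

theorem cent_v (ht : orderOf t = 2) (g : G) (hg : g * phi e Vu = phi e Vu * g) :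
    g ∈ Subgroup.zpowers (phi e Vu) := by
  have hc : Commute g (phi e Vu) := hg
  have h4 : g * t = t * g := by
    have := hc.pow_right 4
    rw [v_pow_four e ht] at this
    exact this
  obtain ⟨A, rfl⟩ := exists_of_comm e g h4
  have hA : A * Vu = Vu * A := by
    apply phi_inj e
    rw [map_mul, map_mul]; exact hg
  obtain ⟨k, hk⟩ := gl_commV A hA
  rw [hk, map_pow]
  exact Subgroup.npow_mem_zpowers _ _

theorem cent_u (ht : orderOf t = 2) (g : G) (hg : g * phi e Vu ^ 2 = phi e Vu ^ 2 * g) :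
    g ∈ Subgroup.zpowers (phi e Vu) := by
  have hc : Commute g (phi e Vu ^ 2) := hg
  have h4 : g * t = t * g := by
    have := hc.pow_right 2
    rw [← pow_mul, v_pow_four e ht] at this
    exact this
  obtain ⟨A, rfl⟩ := exists_of_comm e g h4
  have hA : A * Vu ^ 2 = Vu ^ 2 * A := by
    apply phi_inj e
    rw [map_mul, map_mul, map_pow]; exact hg
  obtain ⟨k, hk⟩ := gl_commU A hA
  rw [hk, map_pow]
  exact Subgroup.npow_mem_zpowers _ _

theorem cent_y (ht : orderOf t = 2) (g : G) (hg : g * phi e Yu = phi e Yu * g) :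
    g ∈ Subgroup.zpowers (phi e Yu) := by
  have hc : Commute g (phi e Yu) := hg
  have h4 : g * t = t * g := by
    have := hc.pow_right 3
    rw [y_pow_three e ht] at this
    exact this
  obtain ⟨A, rfl⟩ := exists_of_comm e g h4
  have hA : A * Yu = Yu * A := by
    apply phi_inj e
    rw [map_mul, map_mul]; exact hg
  obtain ⟨k, hk⟩ := gl_commY A hA
  rw [hk, map_pow]
  exact Subgroup.npow_mem_zpowers _ _

theorem isConj_v_three : IsConj (phi e Vu) (phi e Vu ^ 3) :=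
  isConj_iff.mpr ⟨phi e Cu, by rw [← map_inv, ← map_mul, ← map_mul, Cu_conj, map_pow]⟩

theorem isConj_y_five : IsConj (phi e Yu) (phi e Yu ^ 5) :=
  isConj_iff.mpr ⟨phi e Du, by rw [← map_inv, ← map_mul, ← map_mul, Du_conj, map_pow]⟩

theorem t_pow_five (ht : orderOf t = 2) : t ^ 5 = t := by
  have h : t ^ 5 = (t * t) * (t * t) * t := by simp only [pow_succ, pow_zero, one_mul, mul_assoc]
  rw [h, t_sq ht, one_mul, one_mul]

theorem t_pow_seven (ht : orderOf t = 2) : t ^ 7 = t := by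
  have h : t ^ 7 = (t * t) * (t * t) * (t * t) * t := by
    simp only [pow_succ, pow_zero, one_mul, mul_assoc]
  rw [h, t_sq ht, one_mul, one_mul, one_mul]

theorem comm_of_conj (c x : G) (h : c * x * c⁻¹ = x) : c * x = x * c := by
  have : c * x * c⁻¹ * c = x * c := by rw [h]
  rw [← this]; group

theorem not_isConj_v_five (ht : orderOf t = 2) : ¬ IsConj (phi e Vu) (phi e Vu ^ 5) := by
  intro h
  obtain ⟨c, hc⟩ := isConj_iff.mp h
  have h1 : c * t * c⁻¹ = t := by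
    rw [← v_pow_four e ht, ← conj_pow, hc, ← pow_mul, mul_comm, pow_mul, v_pow_four e ht,
      t_pow_five ht]
  obtain ⟨A, rfl⟩ := exists_of_comm e c (comm_of_conj _ _ h1)
  apply gl_V5 A
  apply phi_inj e
  rw [map_mul, map_mul, map_inv, map_pow]; exact hc

theorem not_isConj_v_seven (ht : orderOf t = 2) : ¬ IsConj (phi e Vu) (phi e Vu ^ 7) := by
  intro h
  obtain ⟨c, hc⟩ := isConj_iff.mp h
  have h1 : c * t * c⁻¹ = t := by
    rw [← v_pow_four e ht, ← conj_pow, hc, ← pow_mul, mul_comm, pow_mul, v_pow_four e ht,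
      t_pow_seven ht]
  obtain ⟨A, rfl⟩ := exists_of_comm e c (comm_of_conj _ _ h1)
  apply gl_V7 A
  apply phi_inj e
  rw [map_mul, map_mul, map_inv, map_pow]; exact hc

theorem sq_of_isConj (ht : orderOf t = 2) {x : G} (hx : IsConj t x) : x * x = 1 := by
  obtain ⟨c, rfl⟩ := isConj_iff.mp hx
  have : c * t * c⁻¹ * (c * t * c⁻¹) = c * (t * t) * c⁻¹ := by group
  rw [this, t_sq ht]; group

theorem pair_analysis (ht : orderOf t = 2) (x y : G) (hx : IsConj t x) (hy : IsConj t y)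
    (hxy : x * y = phi e Vu ^ 2) :
    ∃ k : ZMod 4, x = phi e (Au k) ∧ y = phi e (Au (k + 1)) := by
  have hx2 : x * x = 1 := sq_of_isConj ht hx
  have hy2 : y * y = 1 := sq_of_isConj ht hy
  have hxinv : x⁻¹ = x := inv_eq_of_mul_eq_one_right hx2
  have hyinv : y⁻¹ = y := inv_eq_of_mul_eq_one_right hy2
  have hinv : x * phi e Vu ^ 2 * x⁻¹ = (phi e Vu ^ 2)⁻¹ := by
    rw [← hxy, _root_.mul_inv_rev, hxinv, hyinv, ← mul_assoc, hx2, one_mul]
  have hu2 : (phi e Vu ^ 2) ^ 2 = t := by rw [← pow_mul, v_pow_four e ht]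
  have htinv : t⁻¹ = t := inv_eq_of_mul_eq_one_right (t_sq ht)
  have h1 : x * t * x⁻¹ = t := by
    rw [← hu2, ← conj_pow, hinv, inv_pow, hu2, htinv]
  obtain ⟨A, hA⟩ := exists_of_comm e x (comm_of_conj _ _ h1)
  have hA2 : A * A = 1 := by
    apply phi_inj e
    rw [map_mul, map_one, hA]; exact hx2
  have hAu : A * Vu ^ 2 * A⁻¹ = (Vu ^ 2)⁻¹ := by
    apply phi_inj e
    rw [map_mul, map_mul, map_inv, map_inv, map_pow, hA]; exact hinv
  obtain ⟨k, hk⟩ := gl_invU A hA2 hAu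
  refine ⟨k, ?_, ?_⟩
  · rw [← hA, hk]
  · rw [← Au_inv_mul k, map_mul, map_inv, map_pow, ← hk, hA, ← hxy, ← mul_assoc, inv_mul_cancel,
      one_mul]

theorem isConj_phi_A (k : ZMod 4) : IsConj (phi e (Au 0)) (phi e (Au k)) := by
  obtain ⟨B, hB⟩ := conj_A0 k
  exact isConj_iff.mpr ⟨phi e B, by rw [← map_inv, ← map_mul, ← map_mul, hB]⟩

theorem card_pairs (ht : orderOf t = 2) :
    Nat.card {p : G × G // IsConj t p.1 ∧ IsConj t p.2 ∧ p.1 * p.2 = phi e Vu ^ 2} = 0 ∨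
    Nat.card {p : G × G // IsConj t p.1 ∧ IsConj t p.2 ∧ p.1 * p.2 = phi e Vu ^ 2} = 4 := by
  by_cases h0 : IsConj t (phi e (Au 0))
  · right
    have hall : ∀ k, IsConj t (phi e (Au k)) := fun k => h0.trans (isConj_phi_A e k)
    let f : ZMod 4 → {p : G × G // IsConj t p.1 ∧ IsConj t p.2 ∧ p.1 * p.2 = phi e Vu ^ 2} :=
      fun k => ⟨(phi e (Au k), phi e (Au (k + 1))), hall k, hall (k + 1), by
        show phi e (Au k) * phi e (Au (k + 1)) = phi e Vu ^ 2
        rw [← map_mul, Au_mul, map_pow]⟩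
    have hinj : Function.Injective f := by
      intro k k' h
      have h1 : phi e (Au k) = phi e (Au k') := congrArg (fun p => p.1.1) h
      exact Au_inj (phi_inj e h1)
    have hsurj : Function.Surjective f := by
      rintro ⟨⟨x, y⟩, hx, hy, hxy⟩
      obtain ⟨k, hk1, hk2⟩ := pair_analysis e ht x y hx hy hxy
      exact ⟨k, Subtype.ext (Prod.ext hk1.symm hk2.symm)⟩
    rw [← Nat.card_eq_of_bijective f ⟨hinj, hsurj⟩, Nat.card_zmod]
  · left
    rw [Nat.card_eq_zero]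
    left
    constructor
    rintro ⟨⟨x, y⟩, hx, hy, hxy⟩
    obtain ⟨k, hk1, hk2⟩ := pair_analysis e ht x y hx hy hxy
    apply h0
    have h2 := isConj_phi_A e k
    rw [← hk1] at h2
    exact hx.trans h2.symm

end transport

theorem gl23_local {G : Type*} [Group G] [Finite G] (t : G) (ht : orderOf t = 2)
    (e : Subgroup.centralizer ({t} : Set G) ≃* Matrix.GeneralLinearGroup (Fin 2) (ZMod 3)) :
    ∃ v y : G, v ^ 4 = t ∧ y ^ 3 = t ∧ orderOf v = 8 ∧ orderOf y = 6 ∧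
      Nat.card (Subgroup.centralizer ({t} : Set G)) = 48 ∧
      (∀ g : G, g * v = v * g → g ∈ Subgroup.zpowers v) ∧
      (∀ g : G, g * v ^ 2 = v ^ 2 * g → g ∈ Subgroup.zpowers v) ∧
      (∀ g : G, g * y = y * g → g ∈ Subgroup.zpowers y) ∧
      IsConj v (v ^ 3) ∧ ¬ IsConj v (v ^ 5) ∧ ¬ IsConj v (v ^ 7) ∧ IsConj y (y ^ 5) ∧
      (Nat.card {p : G × G // IsConj t p.1 ∧ IsConj t p.2 ∧ p.1 * p.2 = v ^ 2} = 0 ∨
       Nat.card {p : G × G // IsConj t p.1 ∧ IsConj t p.2 ∧ p.1 * p.2 = v ^ 2} = 4) :=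
  ⟨phi e Vu, phi e Yu, v_pow_four e ht, y_pow_three e ht, orderOf_v e, orderOf_y e, card_cent e,
    cent_v e ht, cent_u e ht, cent_y e ht, isConj_v_three e, not_isConj_v_five e ht,
    not_isConj_v_seven e ht, isConj_y_five e, card_pairs e ht⟩

end Cfsg.Agent.Lib.Helper9.Gl23
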