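import Mathlib

/-!
A generic construction: a group acting on a type, permuting (up to an equivalence relation) a finite
family of points, gives a homomorphism to the symmetric group (used for S1057).
-/

set_option autoImplicit false

namespace Cfsg.Agent.Lib.Helper9.G2U

/-- Hypotheses: an action of `H` on `X`, an invariant equivalence relation, and a family of pairwise
inequivalent points. -/
structure ActData {H : Type*} [Group H] {X : Type*} (act : H → X → X) (rel : X → X → Prop) {n : ℕ}
    (p : Fin n → X) : Prop where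
  act_one : ∀ x, act 1 x = x
  act_mul : ∀ g h x, act (g * h) x = act g (act h x)
  rel_refl : ∀ x, rel x x
  rel_symm : ∀ x y, rel x y → rel y x
  rel_trans : ∀ x y z, rel x y → rel y z → rel x z
  rel_act : ∀ g x y, rel x y → rel (act g x) (act g y)
  sep : ∀ i j, rel (p i) (p j) → i = j

section

variable {H : Type*} [Group H] {X : Type*} {act : H → X → X} {rel : X → X → Prop} {n : ℕ}
  {p : Fin n → X} (hd : ActData act rel p)

include hd in
theorem ActData.perm_unique {g : H} {π π' : Equiv.Perm (Fin n)}
    (h : ∀ i, rel (act g (p i)) (p (π i))) (h' : ∀ i, rel (act g (p i)) (p (π' i))) : π = π' := by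
  ext i
  exact congrArg Fin.val (hd.sep _ _ (hd.rel_trans _ _ _ (hd.rel_symm _ _ (h i)) (h' i)))

/-- The subgroup of elements permuting the family. -/
def ActData.stabP : Subgroup H where
  carrier := {g | ∃ π : Equiv.Perm (Fin n), ∀ i, rel (act g (p i)) (p (π i))}
  mul_mem' := by
    rintro g h ⟨π, hπ⟩ ⟨π', hπ'⟩
    refine ⟨π * π', fun i => ?_⟩
    rw [hd.act_mul]
    exact hd.rel_trans _ _ _ (hd.rel_act g _ _ (hπ' i)) (hπ (π' i))
  one_mem' := ⟨1, fun i => by rw [hd.act_one]; exact hd.rel_refl _⟩
  inv_mem' := by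
    rintro g ⟨π, hπ⟩
    refine ⟨π⁻¹, fun i => ?_⟩
    have h1 := hd.rel_act g⁻¹ _ _ (hπ (π⁻¹ i))
    rw [← hd.act_mul, inv_mul_cancel, hd.act_one, show π (π⁻¹ i) = i by simp] at h1
    exact hd.rel_symm _ _ h1

theorem ActData.mem_stabP {g : H} :
    g ∈ hd.stabP ↔ ∃ π : Equiv.Perm (Fin n), ∀ i, rel (act g (p i)) (p (π i)) := Iff.rfl

/-- The permutation induced by an element of `stabP`. -/
noncomputable def ActData.permOf (g : hd.stabP) : Equiv.Perm (Fin n) := Classical.choose g.2

theorem ActData.permOf_spec (g : hd.stabP) (i : Fin n) :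
    rel (act g.1 (p i)) (p (hd.permOf g i)) := Classical.choose_spec g.2 i

theorem ActData.permOf_eq (g : hd.stabP) {π : Equiv.Perm (Fin n)}
    (h : ∀ i, rel (act g.1 (p i)) (p (π i))) : hd.permOf g = π :=
  hd.perm_unique (hd.permOf_spec g) h

/-- The permutation representation. -/
noncomputable def ActData.permHom : hd.stabP →* Equiv.Perm (Fin n) where
  toFun := hd.permOf
  map_one' := hd.permOf_eq 1 (fun i => by
    show rel (act 1 (p i)) (p i)
    rw [hd.act_one]; exact hd.rel_refl _)
  map_mul' := fun g h => hd.permOf_eq (g * h) (fun i => by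
    show rel (act (g.1 * h.1) (p i)) (p (hd.permOf g (hd.permOf h i)))
    rw [hd.act_mul]
    exact hd.rel_trans _ _ _ (hd.rel_act g.1 _ _ (hd.permOf_spec h i)) (hd.permOf_spec g _))

theorem ActData.permHom_spec (g : hd.stabP) (i : Fin n) :
    rel (act g.1 (p i)) (p (hd.permHom g i)) := hd.permOf_spec g i

theorem ActData.permHom_eq (g : hd.stabP) {π : Equiv.Perm (Fin n)}
    (h : ∀ i, rel (act g.1 (p i)) (p (π i))) : hd.permHom g = π := hd.permOf_eq g h

end

end Cfsg.Agent.Lib.Helper9.G2U
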