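import Mathlib
import Cfsg.Agent.Lib.Helper9.G2UA

/-!
Generic tools for S2133: affine permutations of `Fin 16` (with `^^^` as addition) commuting with the
translation by `1`, a bound for their number, a lower bound for the order of a permutation group from
a stabiliser chain, and a membership criterion for `ActData.stabP`.
-/

set_option autoImplicit false

namespace Cfsg.Agent.Lib.Helper9.CZ

open Cfsg.Agent.Lib.Helper9.G2U

section chain

variable {α : Type*}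

/-- Elements of `H` fixing all points of `l`. -/
def fixing (H : Subgroup (Equiv.Perm α)) (l : List α) : Subgroup (Equiv.Perm α) where
  carrier := {g | g ∈ H ∧ ∀ b ∈ l, g b = b}
  one_mem' := ⟨H.one_mem, fun _ _ => rfl⟩
  mul_mem' := fun {a b} ha hb => ⟨H.mul_mem ha.1 hb.1, fun x hx => by
    rw [Equiv.Perm.mul_apply, hb.2 x hx, ha.2 x hx]⟩
  inv_mem' := fun {a} ha => ⟨H.inv_mem ha.1, fun x hx => by
    rw [Equiv.Perm.inv_eq_iff_eq]; exact (ha.2 x hx).symm⟩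

theorem card_fixing_ge [Finite α] (H : Subgroup (Equiv.Perm α)) (l : List α) (b : α) (S : Finset α)
    (hS : ∀ j ∈ S, ∃ g ∈ fixing H l, g b = j) :
    S.card * Nat.card ↥(fixing H (b :: l)) ≤ Nat.card ↥(fixing H l) := by
  classical
  choose! g hg using hS
  let φ : ↥S × ↥(fixing H (b :: l)) → ↥(fixing H l) := fun x =>
    ⟨g x.1.1 * x.2.1, Subgroup.mul_mem _ (hg x.1.1 x.1.2).1
      ⟨x.2.2.1, fun y hy => x.2.2.2 y (List.mem_cons_of_mem _ hy)⟩⟩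
  have hφ : Function.Injective φ := by
    rintro ⟨⟨j, hj⟩, ⟨h, hh⟩⟩ ⟨⟨j', hj'⟩, ⟨h', hh'⟩⟩ e
    have e1 : g j * h = g j' * h' := congrArg Subtype.val e
    have e2 := congrArg (fun π => π b) e1
    simp only [Equiv.Perm.mul_apply] at e2
    rw [hh.2 b List.mem_cons_self, hh'.2 b List.mem_cons_self, (hg j hj).2, (hg j' hj').2] at e2
    subst e2
    have e3 : h = h' := mul_left_cancel e1
    subst e3
    rfl
  have h1 := Nat.card_le_card_of_injective φ hφ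
  rw [Nat.card_prod, Nat.card_eq_fintype_card (α := ↥S), Fintype.card_coe] at h1
  exact h1

end chain

section act

variable {H : Type*} [Group H] {X : Type*} {act : H → X → X} {rel : X → X → Prop} {n : ℕ}
  {p : Fin n → X} (hd : ActData act rel p)

include hd in
/-- An element mapping every point of the family to a point equivalent to one of the family
permutes the family. -/
theorem mem_stabP_of_exists (g : H) (h : ∀ i, ∃ j, rel (act g (p i)) (p j)) : g ∈ hd.stabP := by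
  choose f hf using h
  have hinj : Function.Injective f := by
    intro i j hij
    have ri := hf i
    have rj := hf j
    rw [← hij] at rj
    have r1 := hd.rel_trans _ _ _ ri (hd.rel_symm _ _ rj)
    have r2 := hd.rel_act g⁻¹ _ _ r1
    rw [← hd.act_mul, ← hd.act_mul, inv_mul_cancel, hd.act_one, hd.act_one] at r2
    exact hd.sep _ _ r2
  exact ⟨Equiv.ofBijective f (Finite.injective_iff_bijective.mp hinj), fun i => hf i⟩

end act

section aff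

/-- Affine permutations of `Fin 16` (addition is `^^^`) commuting with the translation by `1`. -/
def IsAff (π : Equiv.Perm (Fin 16)) : Prop :=
  (∀ x y, π (x ^^^ y) = π x ^^^ π y ^^^ π 0) ∧ ∀ x, π (x ^^^ 1) = π x ^^^ 1

theorem xr_assoc : ∀ a b c : Fin 16, a ^^^ b ^^^ c = a ^^^ (b ^^^ c) := by decide

theorem xr_comm : ∀ a b : Fin 16, a ^^^ b = b ^^^ a := by decide

theorem xr_self : ∀ a : Fin 16, a ^^^ a = 0 := by decide

theorem xr_zero : ∀ a : Fin 16, a ^^^ 0 = a := by decide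

theorem zero_xr : ∀ a : Fin 16, 0 ^^^ a = a := by decide

theorem xr_cancel : ∀ a b c : Fin 16, a ^^^ b = a ^^^ c → b = c := by decide

/-- Decomposition of an element into bits. -/
def bitsum (e0 e1 e2 e3 : Bool) : Fin 16 :=
  (if e0 then 1 else 0) ^^^ (if e1 then 2 else 0) ^^^ (if e2 then 4 else 0) ^^^ (if e3 then 8 else 0)

theorem exists_bitsum : ∀ x : Fin 16, ∃ e0 e1 e2 e3, x = bitsum e0 e1 e2 e3 := by decide

theorem aff_ext {π π' : Equiv.Perm (Fin 16)} (h : IsAff π) (h' : IsAff π') (h0 : π 0 = π' 0)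
    (h2 : π 2 = π' 2) (h4 : π 4 = π' 4) (h8 : π 8 = π' 8) : π = π' := by
  have h1 : π 1 = π' 1 := by
    have a := h.2 0
    have b := h'.2 0
    rw [zero_xr] at a b
    rw [a, b, h0]
  have hadd : ∀ x y, π x = π' x → π y = π' y → π (x ^^^ y) = π' (x ^^^ y) := by
    intro x y hx hy
    rw [h.1, h'.1, hx, hy, h0]
  have hb : ∀ (e : Bool) (v : Fin 16), π v = π' v → π (if e then v else 0) = π' (if e then v else 0) := by
    intro e v hv
    cases e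
    · exact h0
    · exact hv
  ext x
  obtain ⟨e0, e1, e2, e3, rfl⟩ := exists_bitsum x
  unfold bitsum
  rw [hadd _ _ (hadd _ _ (hadd _ _ (hb e0 1 h1) (hb e1 2 h2)) (hb e2 4 h4)) (hb e3 8 h8)]

/-- The possible values of `π 2 ^^^ π 0`, `π 4 ^^^ π 0`, `π 8 ^^^ π 0`. -/
def TP (t : Fin 16 × Fin 16 × Fin 16) : Prop :=
  t.1 ≠ 0 ∧ t.1 ≠ 1 ∧
  t.2.1 ≠ 0 ∧ t.2.1 ≠ 1 ∧ t.2.1 ≠ t.1 ∧ t.2.1 ≠ t.1 ^^^ 1 ∧
  t.2.2 ≠ 0 ∧ t.2.2 ≠ 1 ∧ t.2.2 ≠ t.1 ∧ t.2.2 ≠ t.1 ^^^ 1 ∧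
  t.2.2 ≠ t.2.1 ∧ t.2.2 ≠ t.2.1 ^^^ 1 ∧ t.2.2 ≠ t.1 ^^^ t.2.1 ∧ t.2.2 ≠ t.1 ^^^ t.2.1 ^^^ 1

instance : DecidablePred TP := fun t => by unfold TP; infer_instance

set_option maxRecDepth 100000 in
theorem card_TP : Fintype.card {t // TP t} = 1344 := by
  rw [Fintype.card_subtype]
  decide +kernel

theorem xr_id1 : ∀ p q r : Fin 16, p ^^^ q ^^^ r ^^^ r = (p ^^^ r) ^^^ (q ^^^ r) := by decide

theorem xr_id2 : ∀ p r : Fin 16, p ^^^ 1 ^^^ r = p ^^^ r ^^^ 1 := by decide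

theorem xr_inj : ∀ p q r : Fin 16, p ^^^ r = q ^^^ r → p = q := by decide

theorem aff_TP {π : Equiv.Perm (Fin 16)} (h : IsAff π) :
    TP (π 2 ^^^ π 0, π 4 ^^^ π 0, π 8 ^^^ π 0) := by
  have ne : ∀ a b : Fin 16, a ≠ b → π a ^^^ π 0 ≠ π b ^^^ π 0 :=
    fun a b hab e => hab (π.injective (xr_inj _ _ _ e))
  have hadd : ∀ x y, π (x ^^^ y) ^^^ π 0 = (π x ^^^ π 0) ^^^ (π y ^^^ π 0) := by
    intro x y
    rw [h.1, xr_id1]
  have hone : ∀ x, π (x ^^^ 1) ^^^ π 0 = π x ^^^ π 0 ^^^ 1 := by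
    intro x
    rw [h.2, xr_id2]
  have t0 : π 0 ^^^ π 0 = 0 := xr_self _
  have t1 : π 1 ^^^ π 0 = 1 := by
    have a := hone 0
    rw [zero_xr, t0, zero_xr] at a
    exact a
  have t3 : π 3 ^^^ π 0 = π 2 ^^^ π 0 ^^^ 1 := hone 2
  have t5 : π 5 ^^^ π 0 = π 4 ^^^ π 0 ^^^ 1 := hone 4
  have t6 : π 6 ^^^ π 0 = (π 2 ^^^ π 0) ^^^ (π 4 ^^^ π 0) := hadd 2 4
  have t7 : π 7 ^^^ π 0 = (π 2 ^^^ π 0) ^^^ (π 4 ^^^ π 0) ^^^ 1 := by
    have a := hone 6
    rw [t6] at a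
    exact a
  have c1 : π 2 ^^^ π 0 ≠ 0 := by have a := ne 2 0 (by decide); rwa [t0] at a
  have c2 : π 2 ^^^ π 0 ≠ 1 := by have a := ne 2 1 (by decide); rwa [t1] at a
  have c3 : π 4 ^^^ π 0 ≠ 0 := by have a := ne 4 0 (by decide); rwa [t0] at a
  have c4 : π 4 ^^^ π 0 ≠ 1 := by have a := ne 4 1 (by decide); rwa [t1] at a
  have c5 : π 4 ^^^ π 0 ≠ π 2 ^^^ π 0 := ne 4 2 (by decide)
  have c6 : π 4 ^^^ π 0 ≠ π 2 ^^^ π 0 ^^^ 1 := by have a := ne 4 3 (by decide); rwa [t3] at a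
  have c7 : π 8 ^^^ π 0 ≠ 0 := by have a := ne 8 0 (by decide); rwa [t0] at a
  have c8 : π 8 ^^^ π 0 ≠ 1 := by have a := ne 8 1 (by decide); rwa [t1] at a
  have c9 : π 8 ^^^ π 0 ≠ π 2 ^^^ π 0 := ne 8 2 (by decide)
  have c10 : π 8 ^^^ π 0 ≠ π 2 ^^^ π 0 ^^^ 1 := by have a := ne 8 3 (by decide); rwa [t3] at a
  have c11 : π 8 ^^^ π 0 ≠ π 4 ^^^ π 0 := ne 8 4 (by decide)
  have c12 : π 8 ^^^ π 0 ≠ π 4 ^^^ π 0 ^^^ 1 := by have a := ne 8 5 (by decide); rwa [t5] at a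
  have c13 : π 8 ^^^ π 0 ≠ (π 2 ^^^ π 0) ^^^ (π 4 ^^^ π 0) := by
    have a := ne 8 6 (by decide); rwa [t6] at a
  have c14 : π 8 ^^^ π 0 ≠ (π 2 ^^^ π 0) ^^^ (π 4 ^^^ π 0) ^^^ 1 := by
    have a := ne 8 7 (by decide); rwa [t7] at a
  exact ⟨c1, c2, c3, c4, c5, c6, c7, c8, c9, c10, c11, c12, c13, c14⟩

theorem card_le_of_aff (K : Subgroup (Equiv.Perm (Fin 16))) (hK : ∀ π ∈ K, IsAff π) :
    Nat.card ↥K ≤ 21504 := by
  let f : ↥K → Fin 16 × {t // TP t} := fun π =>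
    (π.1 0, ⟨(π.1 2 ^^^ π.1 0, π.1 4 ^^^ π.1 0, π.1 8 ^^^ π.1 0), aff_TP (hK π.1 π.2)⟩)
  have hf : Function.Injective f := by
    intro π π' e
    have e0 : π.1 0 = π'.1 0 := congrArg Prod.fst e
    have e1 := congrArg (fun x => x.2.1) e
    simp only [f, Prod.mk.injEq] at e1
    rw [← e0] at e1
    exact Subtype.ext (aff_ext (hK π.1 π.2) (hK π'.1 π'.2) e0 (xr_inj _ _ _ e1.1)
      (xr_inj _ _ _ e1.2.1) (xr_inj _ _ _ e1.2.2))
  have h1 := Nat.card_le_card_of_injective f hf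
  rw [Nat.card_prod, Nat.card_eq_fintype_card (α := {t // TP t}), card_TP,
    Nat.card_eq_fintype_card (α := Fin 16), Fintype.card_fin] at h1
  exact h1

end aff

end Cfsg.Agent.Lib.Helper9.CZ
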