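import Mathlib
import Cfsg.Agent.Lib.Helper9.CZA

/-!
Five affine permutations of `Fin 16` and a stabiliser chain showing that they generate a group of
order at least `21504` (S2133). The words were found by computer and are re-verified by `decide`.
-/

set_option autoImplicit false

namespace Cfsg.Agent.Lib.Helper9.CZ

/-- The five generating permutations (all involutions), induced by the transvections
`T₂₃, T₃₄, T₄₂, T₀₂, T₂₁` of `SL₅(2)` on the affine hyperplane `x₁ = 1`. -/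
def sgT : Fin 5 → Fin 16 → Fin 16 := ![
  ![0, 1, 2, 3, 6, 7, 4, 5, 8, 9, 10, 11, 14, 15, 12, 13],
  ![0, 1, 2, 3, 4, 5, 6, 7, 12, 13, 14, 15, 8, 9, 10, 11],
  ![0, 1, 10, 11, 4, 5, 14, 15, 8, 9, 2, 3, 12, 13, 6, 7],
  ![0, 1, 3, 2, 4, 5, 7, 6, 8, 9, 11, 10, 12, 13, 15, 14],
  ![2, 3, 0, 1, 6, 7, 4, 5, 10, 11, 8, 9, 14, 15, 12, 13]]

theorem sg_invol : ∀ (k : Fin 5) (x : Fin 16), sgT k (sgT k x) = x := by decide

/-- The generators as permutations. -/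
def sgPerm (k : Fin 5) : Equiv.Perm (Fin 16) := ⟨sgT k, sgT k, sg_invol k, sg_invol k⟩

/-- Evaluation of a word in the generators at a point. -/
def evalPt (w : List (Fin 5)) (x : Fin 16) : Fin 16 := w.foldr (fun r y => sgT r y) x

theorem evalPt_eq (w : List (Fin 5)) (x : Fin 16) : (w.map sgPerm).prod x = evalPt w x := by
  induction w with
  | nil => rfl
  | cons r w ih =>
    rw [List.map_cons, List.prod_cons, Equiv.Perm.mul_apply, ih]
    rfl

/-- The group generated by the five permutations. -/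
def QQ : Subgroup (Equiv.Perm (Fin 16)) := Subgroup.closure (Set.range sgPerm)

theorem word_mem (w : List (Fin 5)) : (w.map sgPerm).prod ∈ QQ :=
  Subgroup.list_prod_mem _ (fun x hx => by
    obtain ⟨r, _, rfl⟩ := List.mem_map.mp hx
    exact Subgroup.subset_closure ⟨r, rfl⟩)

/-- Words for level 1 of the chain. -/
def W1 : Fin 16 → List (Fin 5) := ![
  [],
  [4, 3, 4],
  [4],
  [3, 4],
  [0, 2, 1, 2, 4],
  [0, 3, 2, 1, 2, 4],
  [2, 1, 2, 4],
  [3, 2, 1, 2, 4],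
  [4, 2, 4],
  [4, 3, 2, 4],
  [2, 4],
  [3, 2, 4],
  [0, 1, 2, 4],
  [0, 3, 1, 2, 4],
  [1, 2, 4],
  [3, 1, 2, 4]]

/-- Words for level 2 of the chain. -/
def W2 : Fin 16 → List (Fin 5) := ![
  [],
  [],
  [],
  [3],
  [0, 2, 1, 2],
  [0, 3, 2, 1, 2],
  [2, 1, 2],
  [3, 2, 1, 2],
  [1, 0, 1, 2],
  [1, 0, 3, 1, 2],
  [2],
  [3, 2],
  [0, 1, 2],
  [0, 3, 1, 2],
  [1, 2],
  [3, 1, 2]]

/-- Words for level 3 of the chain. -/
def W3 : Fin 16 → List (Fin 5) := ![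
  [],
  [],
  [],
  [],
  [],
  [3, 0, 3, 0],
  [0],
  [3, 0, 3],
  [1, 2, 0, 2, 0],
  [3, 1, 2, 0, 3, 2, 0],
  [1, 2, 0, 2],
  [3, 1, 2, 0, 3, 2],
  [2, 0, 2, 0],
  [3, 2, 0, 3, 2, 0],
  [2, 0, 2],
  [3, 2, 0, 3, 2]]

/-- Words for level 4 of the chain. -/
def W4 : Fin 16 → List (Fin 5) := ![
  [],
  [],
  [],
  [],
  [],
  [],
  [],
  [],
  [],
  [3, 0, 1, 0, 3, 0, 1, 0],
  [1, 0, 1, 0],
  [3, 0, 1, 0, 3, 1],
  [1],
  [0, 3, 0, 1, 0, 3, 0],
  [0, 1, 0],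
  [3, 0, 1, 0, 3]]

/-- Orbit at level 2. -/
def S2 : Finset (Fin 16) := {2, 3, 4, 5, 6, 7, 8, 9, 10, 11, 12, 13, 14, 15}

/-- Orbit at level 3. -/
def S3 : Finset (Fin 16) := {4, 5, 6, 7, 8, 9, 10, 11, 12, 13, 14, 15}

/-- Orbit at level 4. -/
def S4 : Finset (Fin 16) := {8, 9, 10, 11, 12, 13, 14, 15}

set_option maxRecDepth 100000 in
theorem lvl1 : ∀ j : Fin 16, evalPt (W1 j) 0 = j := by decide +kernel

set_option maxRecDepth 100000 in
theorem lvl2 : ∀ j ∈ S2, evalPt (W2 j) 0 = 0 ∧ evalPt (W2 j) 2 = j := by decide +kernel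

set_option maxRecDepth 100000 in
theorem lvl3 : ∀ j ∈ S3, evalPt (W3 j) 0 = 0 ∧ evalPt (W3 j) 2 = 2 ∧ evalPt (W3 j) 4 = j := by
  decide +kernel

set_option maxRecDepth 100000 in
theorem lvl4 : ∀ j ∈ S4, evalPt (W4 j) 0 = 0 ∧ evalPt (W4 j) 2 = 2 ∧ evalPt (W4 j) 4 = 4 ∧
    evalPt (W4 j) 8 = j := by
  decide +kernel

theorem card_S2 : S2.card = 14 := by decide +kernel

theorem card_S3 : S3.card = 12 := by decide +kernel

theorem card_S4 : S4.card = 8 := by decide +kernel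

theorem card_QQ_ge : 21504 ≤ Nat.card ↥QQ := by
  have h1 := card_fixing_ge QQ [] 0 Finset.univ (fun j _ =>
    ⟨((W1 j).map sgPerm).prod, ⟨word_mem _, fun b hb => by simp at hb⟩, by
      rw [evalPt_eq]; exact lvl1 j⟩)
  have h2 := card_fixing_ge QQ [0] 2 S2 (fun j hj =>
    ⟨((W2 j).map sgPerm).prod, ⟨word_mem _, fun b hb => by
      rw [List.mem_singleton] at hb
      subst hb
      rw [evalPt_eq]
      exact (lvl2 j hj).1⟩, by rw [evalPt_eq]; exact (lvl2 j hj).2⟩)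
  have h3 := card_fixing_ge QQ [2, 0] 4 S3 (fun j hj =>
    ⟨((W3 j).map sgPerm).prod, ⟨word_mem _, fun b hb => by
      rw [List.mem_cons, List.mem_singleton] at hb
      rcases hb with rfl | rfl
      · rw [evalPt_eq]; exact (lvl3 j hj).2.1
      · rw [evalPt_eq]; exact (lvl3 j hj).1⟩, by rw [evalPt_eq]; exact (lvl3 j hj).2.2⟩)
  have h4 := card_fixing_ge QQ [4, 2, 0] 8 S4 (fun j hj =>
    ⟨((W4 j).map sgPerm).prod, ⟨word_mem _, fun b hb => by
      rw [List.mem_cons, List.mem_cons, List.mem_singleton] at hb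
      rcases hb with rfl | rfl | rfl
      · rw [evalPt_eq]; exact (lvl4 j hj).2.2.1
      · rw [evalPt_eq]; exact (lvl4 j hj).2.1
      · rw [evalPt_eq]; exact (lvl4 j hj).1⟩, by rw [evalPt_eq]; exact (lvl4 j hj).2.2.2⟩)
  have h5 : 1 ≤ Nat.card ↥(fixing QQ [8, 4, 2, 0]) := Nat.card_pos
  have h0 : Nat.card ↥(fixing QQ []) ≤ Nat.card ↥QQ :=
    Subgroup.card_le_of_le (fun g hg => hg.1)
  rw [Finset.card_univ, Fintype.card_fin] at h1
  rw [card_S2] at h2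
  rw [card_S3] at h3
  rw [card_S4] at h4
  omega

end Cfsg.Agent.Lib.Helper9.CZ
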