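import Mathlib
import Cfsg.Agent.Lib.Helper9.CZB

/-!
The centraliser of the transvection `T₀₁` in `SL₅(2)` acts faithfully on the 16 points of the affine
hyperplane `x₁ = 1` by affine permutations commuting with the translation by `e₀` (S2133).
-/

set_option autoImplicit false

namespace Cfsg.Agent.Lib.Helper9.CZ

open Cfsg.Agent.Lib.Helper9.G2U

/-- `SL₅(2)`. -/
abbrev SL5 : Type := Matrix.SpecialLinearGroup (Fin 5) (ZMod 2)

/-- Vectors of `𝔽₂⁵`. -/
abbrev X5 : Type := Fin 5 → ZMod 2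

/-- The 16 points of the affine hyperplane `x₁ = 1`. -/
def ptT : Fin 16 → Fin 5 → ZMod 2 := ![
  ![0, 1, 0, 0, 0],
  ![1, 1, 0, 0, 0],
  ![0, 1, 1, 0, 0],
  ![1, 1, 1, 0, 0],
  ![0, 1, 0, 1, 0],
  ![1, 1, 0, 1, 0],
  ![0, 1, 1, 1, 0],
  ![1, 1, 1, 1, 0],
  ![0, 1, 0, 0, 1],
  ![1, 1, 0, 0, 1],
  ![0, 1, 1, 0, 1],
  ![1, 1, 1, 0, 1],
  ![0, 1, 0, 1, 1],
  ![1, 1, 0, 1, 1],
  ![0, 1, 1, 1, 1],
  ![1, 1, 1, 1, 1]]

/-- The 16 points of the affine hyperplane `x₁ = 1`. -/
def pt (k : Fin 16) : X5 := ptT k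

/-- The action on vectors. -/
def actV (g : SL5) (v : X5) : X5 := (g : Matrix (Fin 5) (Fin 5) (ZMod 2)).mulVec v

theorem pt_inj : ∀ i j : Fin 16, pt i = pt j → i = j := by decide

theorem dataV : ActData actV Eq pt where
  act_one := fun x => by simp [actV]
  act_mul := fun g h x => by simp [actV, Matrix.mulVec_mulVec]
  rel_refl := fun _ => rfl
  rel_symm := fun _ _ h => h.symm
  rel_trans := fun _ _ _ h h' => h.trans h'
  rel_act := fun _ _ _ h => by rw [h]
  sep := pt_inj

theorem pt_cover : ∀ v : X5, v 1 = 1 → ∃ j, pt j = v := by decide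

theorem pt_coord : ∀ k : Fin 16, pt k 1 = 1 := by decide

set_option maxRecDepth 100000 in
theorem pt_add3 : ∀ a b c : Fin 16, pt (a ^^^ b ^^^ c) = pt a + pt b + pt c := by decide +kernel

theorem pt_one : ∀ x : Fin 16, pt (x ^^^ 1) = pt x + Pi.single 0 1 := by decide

/-- Each basis vector as a sum of points. -/
def spanT : Fin 5 → List (Fin 16) := ![[0, 1], [0], [0, 2], [0, 4], [0, 8]]

theorem span_cert : ∀ a : Fin 5, ((spanT a).map pt).sum = Pi.single a 1 := by decide

/-- Elements preserving the hyperplane `x₁ = 1` and fixing `e₀`. -/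
def Good (g : SL5) : Prop :=
  (∀ v, actV g v 1 = v 1) ∧ actV g (Pi.single 0 1) = Pi.single 0 1

theorem zmod2_cases (t : ZMod 2) : t = 0 ∨ t = 1 := by
  revert t; decide

theorem good_of_comm (s g : SL5)
    (hs : (s : Matrix (Fin 5) (Fin 5) (ZMod 2)) = Matrix.transvection 0 1 1)
    (h : g * s = s * g) : Good g := by
  have h' : (g : Matrix (Fin 5) (Fin 5) (ZMod 2)) * (s : Matrix (Fin 5) (Fin 5) (ZMod 2)) =
      (s : Matrix (Fin 5) (Fin 5) (ZMod 2)) * (g : Matrix (Fin 5) (Fin 5) (ZMod 2)) := by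
    rw [← Matrix.SpecialLinearGroup.coe_mul, ← Matrix.SpecialLinearGroup.coe_mul, h]
  rw [hs, Matrix.transvection, mul_add, add_mul, one_mul, mul_one] at h'
  have hE := add_left_cancel h'
  have e := fun (i j : Fin 5) => congrFun (congrFun hE i) j
  have r0 := e 0 0
  have r2 := e 0 2
  have r3 := e 0 3
  have r4 := e 0 4
  have c1 := e 1 1
  have c2 := e 2 1
  have c3 := e 3 1
  have c4 := e 4 1
  have d := e 0 1
  simp [Matrix.mul_apply, Fin.sum_univ_five, Matrix.single_apply] at r0 r2 r3 r4 c1 c2 c3 c4 d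
  -- the entry `g 1 1` is nonzero
  have hinv : (g : Matrix (Fin 5) (Fin 5) (ZMod 2)) * ((g⁻¹ : SL5) : Matrix (Fin 5) (Fin 5) (ZMod 2)) = 1 := by
    rw [← Matrix.SpecialLinearGroup.coe_mul, mul_inv_cancel, Matrix.SpecialLinearGroup.coe_one]
  have h11 := congrFun (congrFun hinv 1) 1
  rw [Matrix.mul_apply, Fin.sum_univ_five, ← r0, ← r2, ← r3, ← r4, Matrix.one_apply_eq] at h11
  simp only [zero_mul, zero_add, add_zero] at h11
  have g11 : (g : Matrix (Fin 5) (Fin 5) (ZMod 2)) 1 1 = 1 := by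
    rcases zmod2_cases ((g : Matrix (Fin 5) (Fin 5) (ZMod 2)) 1 1) with h0 | h1
    · rw [h0, zero_mul] at h11
      exact absurd h11 (by decide)
    · exact h1
  refine ⟨fun v => ?_, ?_⟩
  · show ((g : Matrix (Fin 5) (Fin 5) (ZMod 2)).mulVec v) 1 = v 1
    rw [Matrix.mulVec, dotProduct, Fin.sum_univ_five, ← r0, ← r2, ← r3, ← r4, g11]
    simp
  · show (g : Matrix (Fin 5) (Fin 5) (ZMod 2)).mulVec (Pi.single 0 1) = Pi.single 0 1
    rw [Matrix.mulVec_single_one]
    funext i
    rw [Matrix.col_apply]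
    fin_cases i
    · show (g : Matrix (Fin 5) (Fin 5) (ZMod 2)) 0 0 = _
      rw [d, g11]; rfl
    · show (g : Matrix (Fin 5) (Fin 5) (ZMod 2)) 1 0 = _
      rw [c1]; rfl
    · show (g : Matrix (Fin 5) (Fin 5) (ZMod 2)) 2 0 = _
      rw [c2]; rfl
    · show (g : Matrix (Fin 5) (Fin 5) (ZMod 2)) 3 0 = _
      rw [c3]; rfl
    · show (g : Matrix (Fin 5) (Fin 5) (ZMod 2)) 4 0 = _
      rw [c4]; rfl

theorem good_mem_stabP (g : SL5) (hg : Good g) : g ∈ dataV.stabP := by
  apply mem_stabP_of_exists dataV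
  intro i
  obtain ⟨j, hj⟩ := pt_cover (actV g (pt i)) (by rw [hg.1, pt_coord])
  exact ⟨j, hj.symm⟩

theorem actV_add (g : SL5) (u v : X5) : actV g (u + v) = actV g u + actV g v :=
  Matrix.mulVec_add _ u v

theorem good_aff (g : SL5) (hg : Good g) (π : Equiv.Perm (Fin 16))
    (hπ : ∀ k, actV g (pt k) = pt (π k)) : IsAff π := by
  constructor
  · intro x y
    apply pt_inj
    have h1 : pt (x ^^^ y) = pt x + pt y + pt 0 := by
      have := pt_add3 x y 0
      rw [xr_zero] at this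
      exact this
    rw [← hπ, h1, actV_add, actV_add, hπ, hπ, hπ, ← pt_add3]
  · intro x
    apply pt_inj
    rw [← hπ, pt_one, actV_add, hπ, hg.2, ← pt_one]

theorem list_sum_act (g : SL5) (l : List X5) : actV g l.sum = (l.map (actV g)).sum := by
  induction l with
  | nil => simp [actV]
  | cons a l ih => rw [List.sum_cons, actV_add, ih, List.map_cons, List.sum_cons]

theorem eq_one_of_fix (g : SL5) (h : ∀ k, actV g (pt k) = pt k) : g = 1 := by
  apply Subtype.ext
  rw [Matrix.SpecialLinearGroup.coe_one]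
  ext a b
  have h1 : actV g (Pi.single b 1) = Pi.single b 1 := by
    rw [← span_cert b, list_sum_act, List.map_map]
    congr 1
    refine List.map_congr_left fun i _ => ?_
    exact h i
  have h2 := congrFun h1 a
  unfold actV at h2
  rw [Matrix.mulVec_single_one] at h2
  rw [Matrix.one_apply]
  simpa [Pi.single_apply, eq_comm] using h2

section hom

variable (s : SL5) (hs : (s : Matrix (Fin 5) (Fin 5) (ZMod 2)) = Matrix.transvection 0 1 1)

include hs in
theorem cent_le : Subgroup.centralizer ({s} : Set SL5) ≤ dataV.stabP := by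
  intro g hg
  rw [Subgroup.mem_centralizer_singleton_iff] at hg
  exact good_mem_stabP g (good_of_comm s g hs hg)

/-- The action of the centraliser on the 16 points. -/
noncomputable def rhoS : ↥(Subgroup.centralizer ({s} : Set SL5)) →* Equiv.Perm (Fin 16) :=
  dataV.permHom.comp (Subgroup.inclusion (cent_le s hs))

theorem rhoS_spec (c : ↥(Subgroup.centralizer ({s} : Set SL5))) (k : Fin 16) :
    actV c.1 (pt k) = pt (rhoS s hs c k) :=
  dataV.permHom_spec (Subgroup.inclusion (cent_le s hs) c) k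

theorem rhoS_aff (c : ↥(Subgroup.centralizer ({s} : Set SL5))) : IsAff (rhoS s hs c) :=
  good_aff c.1 (good_of_comm s c.1 hs (Subgroup.mem_centralizer_singleton_iff.mp c.2)) _
    (rhoS_spec s hs c)

theorem rhoS_injective : Function.Injective (rhoS s hs) := by
  rw [injective_iff_map_eq_one]
  intro c hc
  apply Subtype.ext
  apply eq_one_of_fix
  intro k
  have := rhoS_spec s hs c k
  rw [hc] at this
  exact this

/-- Row indices of the five transvections. -/
def tvI : Fin 5 → Fin 5 := ![2, 3, 4, 0, 2]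

/-- Column indices of the five transvections. -/
def tvJ : Fin 5 → Fin 5 := ![3, 4, 2, 2, 1]

theorem tv_ne : ∀ k, tvI k ≠ tvJ k := by decide

/-- The five transvections. -/
def tvSL (k : Fin 5) : SL5 :=
  ⟨Matrix.transvection (tvI k) (tvJ k) 1, Matrix.det_transvection_of_ne _ _ (tv_ne k) 1⟩

theorem tv_comm : ∀ k : Fin 5, Matrix.transvection (tvI k) (tvJ k) (1 : ZMod 2) *
    Matrix.transvection 0 1 1 = Matrix.transvection 0 1 1 * Matrix.transvection (tvI k) (tvJ k) 1 := by
  decide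

theorem tv_act : ∀ (k : Fin 5) (x : Fin 16),
    (Matrix.transvection (tvI k) (tvJ k) (1 : ZMod 2)).mulVec (pt x) = pt (sgT k x) := by decide

include hs in
theorem tv_mem (k : Fin 5) : tvSL k ∈ Subgroup.centralizer ({s} : Set SL5) := by
  rw [Subgroup.mem_centralizer_singleton_iff]
  apply Subtype.ext
  rw [Matrix.SpecialLinearGroup.coe_mul, Matrix.SpecialLinearGroup.coe_mul, hs]
  exact tv_comm k

theorem rhoS_tv (k : Fin 5) : rhoS s hs ⟨tvSL k, tv_mem s hs k⟩ = sgPerm k :=
  dataV.permHom_eq (Subgroup.inclusion (cent_le s hs) ⟨tvSL k, tv_mem s hs k⟩)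
    (fun x => tv_act k x)

theorem QQ_le_rangeS : QQ ≤ (rhoS s hs).range := by
  unfold QQ
  rw [Subgroup.closure_le]
  rintro π ⟨k, rfl⟩
  exact ⟨⟨tvSL k, tv_mem s hs k⟩, rhoS_tv s hs k⟩

theorem rangeS_eq : (rhoS s hs).range = QQ := by
  symm
  apply Subgroup.eq_of_le_of_card_ge (QQ_le_rangeS s hs)
  refine le_trans (card_le_of_aff _ ?_) card_QQ_ge
  rintro π ⟨c, rfl⟩
  exact rhoS_aff s hs c

end hom

end Cfsg.Agent.Lib.Helper9.CZ
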