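import Mathlib
import Cfsg.Agent.Lib.Helper6.RepBasic

set_option autoImplicit false
set_option linter.unusedSectionVars false
set_option linter.unusedVariables false
set_option linter.style.longLine false
set_option linter.unusedSimpArgs false

set_option maxHeartbeats 1600000
namespace Cfsg.Agent.Lib.Helper9.ExtSq

open Matrix

/-- Index set of the exterior square: pairs `i < j`. -/
abbrev Idx (n : ℕ) := {p : Fin n × Fin n // p.1 < p.2}

/-- The 2 by 2 minor on rows `i j` and columns `k l`. -/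
def minor2 {n : ℕ} (M : Matrix (Fin n) (Fin n) ℂ) (i j k l : Fin n) : ℂ :=
  M i k * M j l - M i l * M j k

/-- Second compound matrix. -/
def c2 {n : ℕ} (M : Matrix (Fin n) (Fin n) ℂ) : Matrix (Idx n) (Idx n) ℂ :=
  fun p q => minor2 M p.1.1 p.1.2 q.1.1 q.1.2

theorem sum_sym {n : ℕ} (F : Fin n → Fin n → ℂ) (hsym : ∀ a b, F a b = F b a)
    (hdiag : ∀ a, F a a = 0) :
    ∑ a, ∑ b, F a b = 2 * ∑ p : Idx n, F p.1.1 p.1.2 := by
  have h1 : ∑ a, ∑ b, F a b = ∑ p : Fin n × Fin n, F p.1 p.2 := by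
    rw [Fintype.sum_prod_type]
  have h2 : ∀ p : Fin n × Fin n, F p.1 p.2 =
      (if p.1 < p.2 then F p.1 p.2 else 0) + (if p.2 < p.1 then F p.1 p.2 else 0) := by
    intro p
    rcases lt_trichotomy p.1 p.2 with h | h | h
    · rw [if_pos h, if_neg (not_lt.mpr h.le), add_zero]
    · rw [if_neg (by rw [h]; exact lt_irrefl _), if_neg (by rw [h]; exact lt_irrefl _), h, hdiag,
        add_zero]
    · rw [if_neg (not_lt.mpr h.le), if_pos h, zero_add]
  have h3 : ∑ p : Fin n × Fin n, (if p.2 < p.1 then F p.1 p.2 else 0) =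
      ∑ p : Fin n × Fin n, (if p.1 < p.2 then F p.1 p.2 else 0) := by
    rw [← (Equiv.prodComm (Fin n) (Fin n)).sum_comp]
    refine Finset.sum_congr rfl fun p _ => ?_
    simp only [Equiv.prodComm_apply, Prod.fst_swap, Prod.snd_swap]
    by_cases h : p.1 < p.2
    · simp only [h, if_true]; exact hsym _ _
    · simp only [h, if_false]
  have h4 : ∑ p : Fin n × Fin n, (if p.1 < p.2 then F p.1 p.2 else 0) =
      ∑ p : Idx n, F p.1.1 p.1.2 := by
    rw [← Finset.sum_filter]
    exact (Finset.sum_subtype (Finset.univ.filter fun p : Fin n × Fin n => p.1 < p.2)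
      (by intro x; simp) (fun p => F p.1 p.2))
  rw [h1, Finset.sum_congr rfl (fun p _ => h2 p), Finset.sum_add_distrib, h3, h4, two_mul]

theorem minor2_mul {n : ℕ} (A B : Matrix (Fin n) (Fin n) ℂ) (i j k l : Fin n) :
    minor2 (A * B) i j k l = ∑ a, ∑ b, A i a * A j b * minor2 B a b k l := by
  unfold minor2
  simp only [Matrix.mul_apply, Finset.sum_mul_sum, ← Finset.sum_sub_distrib]
  refine Finset.sum_congr rfl fun a _ => Finset.sum_congr rfl fun b _ => ?_
  ring

theorem c2_mul {n : ℕ} (A B : Matrix (Fin n) (Fin n) ℂ) : c2 (A * B) = c2 A * c2 B := by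
  ext p q
  rw [Matrix.mul_apply]
  show minor2 (A * B) p.1.1 p.1.2 q.1.1 q.1.2 =
    ∑ r : Idx n, minor2 A p.1.1 p.1.2 r.1.1 r.1.2 * minor2 B r.1.1 r.1.2 q.1.1 q.1.2
  rw [minor2_mul]
  set i := p.1.1
  set j := p.1.2
  set k := q.1.1
  set l := q.1.2
  set X : Fin n → Fin n → ℂ := fun a b => A i a * A j b * minor2 B a b k l with hX
  have hsw : ∑ a, ∑ b, X a b = ∑ a, ∑ b, X b a := Finset.sum_comm
  have hF := sum_sym (fun a b => X a b + X b a) (fun a b => add_comm _ _)
    (fun a => by simp only [hX]; unfold minor2; ring)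
  have e : ∑ a, ∑ b, (X a b + X b a) = ∑ a, ∑ b, X a b + ∑ a, ∑ b, X a b := by
    simp only [Finset.sum_add_distrib]
    rw [← hsw]
  have h2 : ∑ a, ∑ b, X a b = ∑ r : Idx n, (X r.1.1 r.1.2 + X r.1.2 r.1.1) := by
    have : (2 : ℂ) * ∑ a, ∑ b, X a b = 2 * ∑ r : Idx n, (X r.1.1 r.1.2 + X r.1.2 r.1.1) := by
      rw [two_mul, ← e]; exact hF
    exact mul_left_cancel₀ two_ne_zero this
  show ∑ a, ∑ b, X a b = _
  rw [h2]
  refine Finset.sum_congr rfl fun r _ => ?_
  simp only [hX]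
  unfold minor2
  ring

theorem c2_one {n : ℕ} : c2 (1 : Matrix (Fin n) (Fin n) ℂ) = 1 := by
  ext p q
  show minor2 1 p.1.1 p.1.2 q.1.1 q.1.2 = (1 : Matrix (Idx n) (Idx n) ℂ) p q
  unfold minor2
  have hp := p.2
  have hq := q.2
  by_cases hpq : p = q
  · subst hpq
    rw [Matrix.one_apply_eq, Matrix.one_apply_eq, Matrix.one_apply_eq,
      Matrix.one_apply_ne (ne_of_lt hp), zero_mul, sub_zero, mul_one]
  · rw [Matrix.one_apply_ne hpq]
    have h1 : (1 : Matrix (Fin n) (Fin n) ℂ) p.1.1 q.1.1 * (1 : Matrix (Fin n) (Fin n) ℂ) p.1.2 q.1.2 = 0 := by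
      by_cases ha : p.1.1 = q.1.1
      · by_cases hb : p.1.2 = q.1.2
        · exact absurd (Subtype.ext (Prod.ext ha hb)) hpq
        · rw [Matrix.one_apply_ne hb, mul_zero]
      · rw [Matrix.one_apply_ne ha, zero_mul]
    have h2 : (1 : Matrix (Fin n) (Fin n) ℂ) p.1.1 q.1.2 * (1 : Matrix (Fin n) (Fin n) ℂ) p.1.2 q.1.1 = 0 := by
      by_cases ha : p.1.1 = q.1.2
      · by_cases hb : p.1.2 = q.1.1
        · exfalso
          rw [ha, hb] at hp
          exact absurd (lt_trans hp hq) (lt_irrefl _)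
        · rw [Matrix.one_apply_ne hb, mul_zero]
      · rw [Matrix.one_apply_ne ha, zero_mul]
    rw [h1, h2, sub_zero]

theorem trace_c2 {n : ℕ} (M : Matrix (Fin n) (Fin n) ℂ) :
    Matrix.trace (c2 M) = ((Matrix.trace M) ^ 2 - Matrix.trace (M * M)) / 2 := by
  have hF := sum_sym (fun a b => M a a * M b b - M a b * M b a) (fun a b => by ring)
    (fun a => by ring)
  have h1 : (Matrix.trace M) ^ 2 - Matrix.trace (M * M) =
      ∑ a, ∑ b, (M a a * M b b - M a b * M b a) := by
    simp only [Matrix.trace, Matrix.diag_apply, Matrix.mul_apply, sq, Finset.sum_mul_sum,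
      ← Finset.sum_sub_distrib]
  rw [h1, hF]
  rw [mul_div_assoc, mul_comm, div_mul_cancel₀ _ (two_ne_zero)]
  rfl

/-- The exterior square of a representation on a coordinate space. -/
noncomputable def extSqRep {G : Type*} [Group G] {n : ℕ} (ρ : Representation ℂ G (Fin n → ℂ)) :
    Representation ℂ G (Idx n → ℂ) where
  toFun g := Matrix.toLin' (c2 (LinearMap.toMatrix' (ρ g)))
  map_one' := by
    rw [map_one]
    show Matrix.toLin' (c2 (LinearMap.toMatrix' (LinearMap.id))) = 1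
    rw [LinearMap.toMatrix'_id, c2_one, Matrix.toLin'_one]
    rfl
  map_mul' g h := by
    rw [map_mul]
    show Matrix.toLin' (c2 (LinearMap.toMatrix' ((ρ g).comp (ρ h)))) = _
    rw [LinearMap.toMatrix'_comp, c2_mul, Matrix.toLin'_mul]
    rfl

theorem extSqRep_character {G : Type*} [Group G] {n : ℕ} (ρ : Representation ℂ G (Fin n → ℂ))
    (g : G) :
    (extSqRep ρ).character g = ((ρ.character g) ^ 2 - ρ.character (g ^ 2)) / 2 := by
  have hc : ∀ x : G, ρ.character x = Matrix.trace (LinearMap.toMatrix' (ρ x)) := by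
    intro x
    show LinearMap.trace ℂ _ (ρ x) = _
    conv_lhs => rw [← Matrix.toLin'_toMatrix' (ρ x)]
    rw [Matrix.trace_toLin'_eq]
  show LinearMap.trace ℂ _ (Matrix.toLin' (c2 (LinearMap.toMatrix' (ρ g)))) = _
  rw [Matrix.trace_toLin'_eq, trace_c2, hc, hc, sq g, map_mul]
  congr 2
  show _ = Matrix.trace (LinearMap.toMatrix' ((ρ g).comp (ρ g)))
  rw [LinearMap.toMatrix'_comp]

theorem extSq_isCharacter {G : Type*} [Group G] [Fintype G] {chi : G → ℂ}
    (h : Cfsg.IsCharacter G chi) :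
    Cfsg.IsCharacter G (fun g => (chi g ^ 2 - chi (g ^ 2)) / 2) := by
  obtain ⟨n, ρ, rfl⟩ := h
  have := Cfsg.Agent.Lib.Helper6.isCharacter_character (extSqRep ρ)
  have h2 : (extSqRep ρ).character = fun g => (ρ.character g ^ 2 - ρ.character (g ^ 2)) / 2 := by
    funext g
    exact extSqRep_character ρ g
  rw [h2] at this
  exact this

end Cfsg.Agent.Lib.Helper9.ExtSq
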