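import Mathlib
import Cfsg.Agent.Lib.Lead.Hecke5

set_option autoImplicit false
set_option linter.unusedSectionVars false
set_option linter.unusedVariables false
set_option linter.style.longLine false
set_option linter.unusedSimpArgs false

set_option maxHeartbeats 1600000
namespace Cfsg.Agent.Lib.Helper9.ExtSq

open scoped ComplexConjugate
open Classical
open Cfsg.Agent.Lib.Helper6 Cfsg.Agent.Lib.Lead.Hecke

section swap

variable {G : Type*} [Group G] [Fintype G] {X : Type*} [Fintype X] [MulAction G X]

/-- The inverse of the double coset of `b` is the double coset of the paired point. -/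
theorem dinv_dset {a b : X} {g : G} (hg : g • a = b) :
    dinv (dset (G := G) a b) = dset (G := G) a (g⁻¹ • a) := by
  subst hg
  ext x
  rw [mem_dinv, mem_dset, mem_dset]
  constructor
  · intro h
    obtain ⟨h1, hh1⟩ := MulAction.mem_orbit_iff.mp h
    have hh1' : (h1 : G) • (g • a) = x⁻¹ • a := hh1
    have hmem : x * h1 * g ∈ MulAction.stabilizer G a := by
      rw [MulAction.mem_stabilizer_iff, mul_smul, mul_smul, hh1', smul_inv_smul]
    refine MulAction.mem_orbit_iff.mpr ⟨⟨x * h1 * g, hmem⟩, ?_⟩
    show (x * h1 * g) • (g⁻¹ • a) = x • a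
    rw [mul_smul, smul_inv_smul, mul_smul, MulAction.mem_stabilizer_iff.mp h1.2]
  · intro h
    obtain ⟨h1, hh1⟩ := MulAction.mem_orbit_iff.mp h
    have hh1' : (h1 : G) • (g⁻¹ • a) = x • a := hh1
    have hmem : x⁻¹ * h1 * g⁻¹ ∈ MulAction.stabilizer G a := by
      rw [MulAction.mem_stabilizer_iff, mul_smul, mul_smul, hh1', inv_smul_smul]
    refine MulAction.mem_orbit_iff.mpr ⟨⟨x⁻¹ * h1 * g⁻¹, hmem⟩, ?_⟩
    show (x⁻¹ * h1 * g⁻¹) • (g • a) = x⁻¹ • a
    rw [mul_smul, inv_smul_smul, mul_smul, MulAction.mem_stabilizer_iff.mp h1.2]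

/-- Paired suborbits have the same length. -/
theorem card_orbit_paired [MulAction.IsPretransitive G X] {a b : X} {g : G} (hg : g • a = b) :
    Nat.card (MulAction.orbit (MulAction.stabilizer G a) (g⁻¹ • a))
      = Nat.card (MulAction.orbit (MulAction.stabilizer G a) b) := by
  have h1 := card_dset (G := G) a b
  have h2 := card_dset (G := G) a (g⁻¹ • a)
  rw [← dinv_dset hg, card_dinv, h1] at h2
  have hpos : 0 < Nat.card (MulAction.stabilizer G a) := Nat.card_pos
  exact (Nat.eq_of_mul_eq_mul_left hpos h2).symm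

theorem swap_of_mem_orbit {a b : X} {g : G} (hg : g • a = b)
    (hmem : g⁻¹ • a ∈ MulAction.orbit (MulAction.stabilizer G a) b) :
    ∃ g' : G, g' • a = b ∧ g' • b = a := by
  obtain ⟨h, hh⟩ := MulAction.mem_orbit_iff.mp hmem
  have hh' : (h : G) • b = g⁻¹ • a := hh
  refine ⟨g * h, ?_, ?_⟩
  · rw [mul_smul, MulAction.mem_stabilizer_iff.mp h.2, hg]
  · rw [mul_smul, hh', smul_inv_smul]

theorem swap_all_of_base [MulAction.IsPretransitive G X] (a0 : X)
    (h : ∀ b : X, ∃ g : G, g • a0 = b ∧ g • b = a0) :
    ∀ a b : X, ∃ g : G, g • a = b ∧ g • b = a := by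
  intro a b
  obtain ⟨t, ht⟩ := MulAction.exists_smul_eq G a0 a
  obtain ⟨g, hg1, hg2⟩ := h (t⁻¹ • b)
  refine ⟨t * g * t⁻¹, ?_, ?_⟩
  · rw [← ht, mul_smul, mul_smul, inv_smul_smul, hg1, smul_inv_smul]
  · rw [mul_smul, mul_smul, hg2, ht]

/-- If distinct nontrivial suborbits have distinct lengths then all orbitals are self-paired. -/
theorem swap_of_distinct_subdegrees [MulAction.IsPretransitive G X] (a0 : X)
    (hd : ∀ b c : X, b ≠ a0 → c ≠ a0 →
      Nat.card (MulAction.orbit (MulAction.stabilizer G a0) c)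
        = Nat.card (MulAction.orbit (MulAction.stabilizer G a0) b) →
      c ∈ MulAction.orbit (MulAction.stabilizer G a0) b) :
    ∀ a b : X, ∃ g : G, g • a = b ∧ g • b = a := by
  apply swap_all_of_base a0
  intro b
  by_cases hb : b = a0
  · exact ⟨1, by rw [one_smul, hb], by rw [one_smul, hb]⟩
  obtain ⟨g, hg⟩ := MulAction.exists_smul_eq G a0 b
  have hne : g⁻¹ • a0 ≠ a0 := by
    intro h
    apply hb
    rw [← hg, ← h, smul_inv_smul, h]
  exact swap_of_mem_orbit hg (hd b (g⁻¹ • a0) hb hne (card_orbit_paired hg))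

/-- Rank three and an even number of points: all orbitals are self-paired. -/
theorem swap_of_rank3_even [MulAction.IsPretransitive G X] (a0 : X)
    (hrank : Nat.card (MulAction.orbitRel.Quotient (MulAction.stabilizer G a0) X) = 3)
    (heven : Even (Fintype.card X)) :
    ∀ a b : X, ∃ g : G, g • a = b ∧ g • b = a := by
  apply swap_all_of_base a0
  intro b
  by_cases hb : b = a0
  · exact ⟨1, by rw [one_smul, hb], by rw [one_smul, hb]⟩
  obtain ⟨g, hg⟩ := MulAction.exists_smul_eq G a0 b
  have hne : g⁻¹ • a0 ≠ a0 := by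
    intro h
    apply hb
    rw [← hg, ← h, smul_inv_smul, h]
  by_contra hcon
  have hnmem : g⁻¹ • a0 ∉ MulAction.orbit (MulAction.stabilizer G a0) b :=
    fun hm => hcon (swap_of_mem_orbit hg hm)
  set H := MulAction.stabilizer G a0 with hH
  set bs := g⁻¹ • a0 with hbs
  let Q := MulAction.orbitRel.Quotient H X
  let q0 : Q := Quotient.mk'' a0
  let q1 : Q := Quotient.mk'' b
  let q2 : Q := Quotient.mk'' bs
  have hfix : ∀ x : X, a0 ∈ MulAction.orbit H x → x = a0 := by
    intro x hx
    obtain ⟨h, hh⟩ := MulAction.mem_orbit_iff.mp hx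
    have hh' : (h : G) • x = a0 := hh
    have h2 : (h : G) • a0 = a0 := MulAction.mem_stabilizer_iff.mp h.2
    exact smul_left_cancel (h : G) (by rw [hh', h2])
  have h01 : q0 ≠ q1 := by
    intro h
    have := Quotient.eq''.mp h
    exact hb (hfix b (MulAction.orbitRel_apply.mp this))
  have h02 : q0 ≠ q2 := by
    intro h
    have := Quotient.eq''.mp h
    exact hne (hfix bs (MulAction.orbitRel_apply.mp this))
  have h12 : q1 ≠ q2 := by
    intro h
    have := Quotient.eq''.mp h.symm
    exact hnmem (MulAction.orbitRel_apply.mp this)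
  have hcardQ : Fintype.card Q = 3 := by
    rw [← Nat.card_eq_fintype_card]; exact hrank
  have huniv : ({q0, q1, q2} : Finset Q) = Finset.univ := by
    apply Finset.eq_univ_of_card
    rw [hcardQ, Finset.card_insert_of_notMem, Finset.card_insert_of_notMem, Finset.card_singleton]
    · simpa using h12
    · simp only [Finset.mem_insert, Finset.mem_singleton, not_or]
      exact ⟨h01, h02⟩
  have hsum := card_eq_sum_orbits (G := G) (Ω := X) H
  have hs2 : ∑ q : Q, Nat.card q.orbit
      = Nat.card (MulAction.orbit H a0) + (Nat.card (MulAction.orbit H b)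
        + Nat.card (MulAction.orbit H bs)) := by
    rw [← huniv, Finset.sum_insert, Finset.sum_insert, Finset.sum_singleton]
    · rfl
    · simpa using h12
    · simp only [Finset.mem_insert, Finset.mem_singleton, not_or]
      exact ⟨h01, h02⟩
  have h0 : Nat.card (MulAction.orbit H a0) = 1 := by
    rw [hH, orbit_stab_self]
    simp
  have hpair : Nat.card (MulAction.orbit H bs) = Nat.card (MulAction.orbit H b) :=
    card_orbit_paired hg
  have hodd : Fintype.card X = 1 + (Nat.card (MulAction.orbit H b) + Nat.card (MulAction.orbit H b)) := by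
    rw [hsum]
    rw [hs2, h0, hpair]
  obtain ⟨m, hm⟩ := heven
  omega

/-- The Frobenius-Schur count for a permutation character all of whose orbitals are
self-paired: `∑ θ(g²) = rank * |G|`. -/
theorem sum_permChar_pow_two_of_swap [MulAction.IsPretransitive G X] (a0 : X)
    (hsw : ∀ a b : X, ∃ g : G, g • a = b ∧ g • b = a) :
    ∑ g : G, permChar G X (g ^ 2)
      = (Nat.card (MulAction.orbitRel.Quotient (MulAction.stabilizer G a0) X) : ℂ)
        * (Nat.card G : ℂ) := by
  have h1 := sum_permChar_sq_eq_of_swap (G := G) (Ω := X) hsw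
  have h2 := sum_permChar_sq (G := G) (Ω := X) a0
  simp only [pow_two]
  rw [h1, h2, Nat.card_eq_fintype_card (α := G), mul_comm]

/-- (C1) -/
theorem classInner_permChar_self_of_rank3 [MulAction.IsPretransitive G X] (a0 : X)
    (hrank : Nat.card (MulAction.orbitRel.Quotient (MulAction.stabilizer G a0) X) = 3) :
    Cfsg.classInner (permChar G X) (permChar G X) = 3 := by
  rw [classInner_permChar_self_eq a0, hrank]
  norm_num

/-- (C2), even number of points. -/
theorem sum_permChar_pow_two_of_rank3_even [MulAction.IsPretransitive G X] (a0 : X)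
    (hrank : Nat.card (MulAction.orbitRel.Quotient (MulAction.stabilizer G a0) X) = 3)
    (heven : Even (Fintype.card X)) :
    ∑ g : G, permChar G X (g ^ 2) = 3 * (Nat.card G : ℂ) := by
  rw [sum_permChar_pow_two_of_swap a0 (swap_of_rank3_even a0 hrank heven), hrank]
  norm_num

end swap

end Cfsg.Agent.Lib.Helper9.ExtSq
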