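import Mathlib

set_option autoImplicit false

/-! A computable model of the field with nine elements and a subgroup of order 168 of `SL(3,9)`
preserving the Hermitian form. -/

namespace Cfsg.Agent.Lib.Helper9.U33

structure GF9 where
  re : ZMod 3
  im : ZMod 3
deriving DecidableEq, Fintype

namespace GF9

instance : Zero GF9 := ⟨⟨0, 0⟩⟩
instance : One GF9 := ⟨⟨1, 0⟩⟩
instance : Add GF9 := ⟨fun x y => ⟨x.re + y.re, x.im + y.im⟩⟩
instance : Neg GF9 := ⟨fun x => ⟨-x.re, -x.im⟩⟩
instance : Mul GF9 := ⟨fun x y => ⟨x.re * y.re - x.im * y.im, x.re * y.im + x.im * y.re⟩⟩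
instance : Inv GF9 := ⟨fun x => x * x * x * x * x * x * x⟩

instance : CommRing GF9 where
  add_assoc := by decide
  zero_add := by decide
  add_zero := by decide
  add_comm := by decide
  neg_add_cancel := by decide
  mul_assoc := by decide
  one_mul := by decide
  mul_one := by decide
  left_distrib := by decide
  right_distrib := by decide
  mul_comm := by decide
  zero_mul := by decide
  mul_zero := by decide
  nsmul := nsmulRec
  zsmul := zsmulRec

instance : Field GF9 where
  exists_pair_ne := ⟨0, 1, by decide⟩
  mul_inv_cancel := by decide
  inv_zero := by decide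
  nnqsmul := _
  qsmul := _

end GF9

abbrev Mat := Matrix (Fin 3) (Fin 3) GF9

def dig (d : ℕ) : GF9 := ⟨((d % 3 : ℕ) : ZMod 3), ((d / 3 : ℕ) : ZMod 3)⟩

def dec (n : ℕ) : Mat := Matrix.of fun i j => dig (n / 9 ^ (3 * i.val + j.val) % 9)

def mul3 (a b : Mat) : Mat :=
  Matrix.of fun i j => a i 0 * b 0 j + a i 1 * b 1 j + a i 2 * b 2 j

theorem mul3_eq (a b : Mat) : a * b = mul3 a b := by
  ext i j
  simp [mul3, Matrix.mul_apply, Fin.sum_univ_three]

def powM (a : Mat) : ℕ → Mat
  | 0 => 1
  | n + 1 => mul3 a (powM a n)

theorem powM_eq (a : Mat) (n : ℕ) : a ^ n = powM a n := by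
  induction n with
  | zero => rfl
  | succ n ih => rw [pow_succ', ih, mul3_eq, powM]

/-- the 168 elements -/
def L : List ℕ := [43053283, 52150212, 4783779, 50296724, 349931716, 590499, 106175440, 248785924, 177539860, 81928508, 305218648, 106705306, 55197800, 28114948, 63127180, 55066648, 125034280, 304070474, 334885936, 98126410, 178084424, 304096636, 239276128, 86094180, 37445428, 62856410, 178069528, 56939904, 248783098, 37681616, 182853946, 37687772, 93077712, 538164, 178282852, 82545244, 26822432, 9624988, 305192324, 50090058, 106055768, 350463904, 27878762, 354951628, 99982818, 177981044, 4901068, 350175218, 182335628, 125307236, 305160364, 182528528, 43047468, 105844084, 95206572, 217977760, 1069524, 334883092, 177752122, 350271316, 52422578, 349738084, 95255964, 355052818, 325310516, 239223644, 355482322, 62822716, 544644, 82014370, 63660124, 57323636, 334938428, 63386960, 4842020, 54866628, 218036116, 304130288, 248851538, 106588784, 36382132, 93330404, 239279116, 36618338, 50027508, 54816876, 349726754, 82142380, 354721244, 125720578, 26816924, 125532914, 43048188, 52218882, 93461548,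 105928484, 106460816, 27053128, 219125936, 354522520, 219099610, 52527460, 43059845, 57192340, 248848712, 28122562, 98231480, 219039868, 182321380, 27058636, 219066194, 178513196, 82259138, 82460516, 100357154, 649557, 125187724, 86094918, 125837264, 350705912, 354508256, 125566288, 37451584, 106374634, 182865944, 9567477, 97922664, 218062280, 325379128, 82791920, 325376122, 4784589, 350256404, 27886376, 304156450, 63540524, 218003924, 325313522, 86106565, 355040840, 1076166, 183059258, 1180989, 50401786, 182770576, 125002040, 63010586, 36625304, 355253432, 1121949, 9684038, 100252264, 82672480, 100045656, 305134040, 97854282, 183302728, 239226632, 95587384, 36389098, 9566829, 177551210, 86100005, 334935584, 95456096, 63355048, 56995128, 93133296]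

def A0 : Mat := dec 52150212

def B0 : Mat := dec 4783779

theorem L_closed : ∀ n ∈ L, (∃ m ∈ L, dec m = mul3 A0 (dec n)) ∧ (∃ m ∈ L, dec m = mul3 B0 (dec n)) := by
  decide +kernel

theorem L_length : L.length = 168 := by decide +kernel

theorem one_mem_L : (1 : Mat) = dec 43053283 := by decide +kernel

end Cfsg.Agent.Lib.Helper9.U33
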