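import Mathlib
import Cfsg.Prelude.Def_ChevG2
import Cfsg.Agent.Lib.Helper9.U33A

/-!
Data for S1057 (`G₂(2)' ≅ PSU₃(3)`): the twelve root elements of `G₂(2)` as explicit 14 × 14 matrices over `𝔽₂`,
an orbit of 63 vectors, 63 representatives of the non-isotropic points of the Hermitian plane over `𝔽₉`,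
unitary matrices inducing the same permutations (up to the Frobenius map), and lookup tables.
All generated by computer; every property used is re-verified in Lean by `decide`.
-/

set_option autoImplicit false

namespace Cfsg.Agent.Lib.Helper9.G2U

open Cfsg.Agent.Lib.Helper9.U33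

/-- The root elements `x_r(1)` as 14 × 14 tables (rows, then columns). -/
def XT : Fin 12 → Fin 14 → Fin 14 → ZMod 2 := ![
  ![
    ![1, 0, 0, 0, 0, 0, 0, 0, 0, 0, 0, 0, 0, 1],
    ![0, 1, 0, 0, 0, 0, 0, 0, 0, 0, 0, 0, 0, 0],
    ![0, 1, 1, 0, 0, 0, 0, 0, 0, 0, 0, 0, 0, 1],
    ![0, 0, 0, 1, 0, 0, 0, 0, 1, 0, 0, 0, 0, 0],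
    ![0, 0, 0, 0, 1, 0, 0, 0, 0, 0, 1, 0, 0, 0],
    ![0, 0, 0, 0, 0, 1, 0, 0, 0, 0, 0, 1, 0, 0],
    ![0, 0, 0, 0, 0, 0, 1, 0, 0, 0, 0, 0, 0, 0],
    ![0, 0, 0, 0, 0, 0, 0, 1, 0, 0, 0, 0, 1, 0],
    ![0, 0, 0, 0, 0, 0, 0, 0, 1, 0, 0, 0, 0, 0],
    ![0, 0, 0, 0, 0, 0, 0, 0, 0, 1, 0, 0, 0, 0],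
    ![0, 0, 0, 0, 0, 0, 0, 0, 0, 0, 1, 0, 0, 0],
    ![0, 0, 0, 0, 0, 0, 0, 0, 0, 0, 0, 1, 0, 0],
    ![0, 0, 0, 0, 0, 0, 0, 0, 0, 0, 0, 0, 1, 0],
    ![0, 0, 0, 0, 0, 0, 0, 0, 0, 0, 0, 0, 0, 1]],
  ![
    ![1, 0, 0, 0, 0, 0, 0, 0, 0, 0, 0, 0, 1, 0],
    ![0, 1, 0, 0, 0, 0, 0, 0, 0, 0, 0, 0, 1, 0],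
    ![0, 0, 1, 0, 0, 0, 0, 1, 0, 0, 0, 0, 0, 0],
    ![1, 1, 0, 1, 0, 0, 0, 0, 0, 0, 0, 0, 1, 0],
    ![0, 0, 0, 0, 1, 0, 0, 0, 0, 1, 0, 0, 0, 0],
    ![0, 0, 0, 0, 0, 1, 0, 0, 0, 0, 0, 0, 0, 0],
    ![0, 0, 0, 0, 0, 0, 1, 0, 0, 0, 0, 1, 0, 0],
    ![0, 0, 0, 0, 0, 0, 0, 1, 0, 0, 0, 0, 0, 0],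
    ![0, 0, 0, 0, 0, 0, 0, 0, 1, 0, 0, 0, 0, 1],
    ![0, 0, 0, 0, 0, 0, 0, 0, 0, 1, 0, 0, 0, 0],
    ![0, 0, 0, 0, 0, 0, 0, 0, 0, 0, 1, 0, 0, 0],
    ![0, 0, 0, 0, 0, 0, 0, 0, 0, 0, 0, 1, 0, 0],
    ![0, 0, 0, 0, 0, 0, 0, 0, 0, 0, 0, 0, 1, 0],
    ![0, 0, 0, 0, 0, 0, 0, 0, 0, 0, 0, 0, 0, 1]],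
  ![
    ![1, 0, 0, 0, 0, 0, 0, 0, 0, 0, 0, 0, 0, 0],
    ![0, 1, 0, 0, 0, 0, 0, 0, 0, 0, 0, 1, 0, 0],
    ![0, 0, 1, 0, 0, 1, 0, 0, 0, 1, 0, 0, 1, 0],
    ![0, 0, 0, 1, 0, 0, 1, 0, 0, 0, 1, 0, 0, 1],
    ![1, 0, 0, 0, 1, 0, 0, 0, 0, 0, 0, 1, 0, 0],
    ![0, 0, 0, 0, 0, 1, 0, 0, 0, 0, 0, 0, 1, 0],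
    ![0, 0, 0, 0, 0, 0, 1, 0, 0, 0, 0, 0, 0, 1],
    ![0, 0, 0, 0, 0, 0, 0, 1, 0, 0, 0, 0, 0, 0],
    ![0, 0, 0, 0, 0, 0, 0, 0, 1, 0, 0, 0, 0, 0],
    ![0, 0, 0, 0, 0, 0, 0, 0, 0, 1, 0, 0, 1, 0],
    ![0, 0, 0, 0, 0, 0, 0, 0, 0, 0, 1, 0, 0, 1],
    ![0, 0, 0, 0, 0, 0, 0, 0, 0, 0, 0, 1, 0, 0],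
    ![0, 0, 0, 0, 0, 0, 0, 0, 0, 0, 0, 0, 1, 0],
    ![0, 0, 0, 0, 0, 0, 0, 0, 0, 0, 0, 0, 0, 1]],
  ![
    ![1, 0, 0, 0, 0, 0, 0, 0, 0, 0, 1, 0, 0, 0],
    ![0, 1, 0, 0, 0, 0, 0, 0, 0, 0, 1, 0, 0, 0],
    ![0, 0, 1, 0, 1, 0, 1, 0, 1, 0, 0, 0, 0, 0],
    ![0, 0, 0, 1, 0, 0, 0, 0, 0, 0, 0, 0, 0, 0],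
    ![0, 0, 0, 0, 1, 0, 0, 0, 1, 0, 0, 0, 0, 0],
    ![1, 1, 0, 0, 0, 1, 0, 0, 0, 0, 1, 0, 0, 0],
    ![0, 0, 0, 0, 0, 0, 1, 0, 1, 0, 0, 0, 0, 0],
    ![0, 0, 0, 0, 0, 0, 0, 1, 0, 1, 0, 1, 0, 1],
    ![0, 0, 0, 0, 0, 0, 0, 0, 1, 0, 0, 0, 0, 0],
    ![0, 0, 0, 0, 0, 0, 0, 0, 0, 1, 0, 0, 0, 1],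
    ![0, 0, 0, 0, 0, 0, 0, 0, 0, 0, 1, 0, 0, 0],
    ![0, 0, 0, 0, 0, 0, 0, 0, 0, 0, 0, 1, 0, 1],
    ![0, 0, 0, 0, 0, 0, 0, 0, 0, 0, 0, 0, 1, 0],
    ![0, 0, 0, 0, 0, 0, 0, 0, 0, 0, 0, 0, 0, 1]],
  ![
    ![1, 0, 0, 0, 0, 0, 0, 0, 0, 1, 0, 0, 0, 0],
    ![0, 1, 0, 0, 0, 0, 0, 0, 0, 0, 0, 0, 0, 0],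
    ![0, 0, 1, 0, 0, 0, 0, 0, 0, 0, 0, 0, 0, 0],
    ![0, 0, 0, 1, 1, 1, 0, 1, 0, 0, 0, 0, 0, 0],
    ![0, 0, 0, 0, 1, 0, 0, 1, 0, 0, 0, 0, 0, 0],
    ![0, 0, 0, 0, 0, 1, 0, 1, 0, 0, 0, 0, 0, 0],
    ![0, 1, 0, 0, 0, 0, 1, 0, 0, 1, 0, 0, 0, 0],
    ![0, 0, 0, 0, 0, 0, 0, 1, 0, 0, 0, 0, 0, 0],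
    ![0, 0, 0, 0, 0, 0, 0, 0, 1, 0, 1, 1, 1, 0],
    ![0, 0, 0, 0, 0, 0, 0, 0, 0, 1, 0, 0, 0, 0],
    ![0, 0, 0, 0, 0, 0, 0, 0, 0, 0, 1, 0, 1, 0],
    ![0, 0, 0, 0, 0, 0, 0, 0, 0, 0, 0, 1, 1, 0],
    ![0, 0, 0, 0, 0, 0, 0, 0, 0, 0, 0, 0, 1, 0],
    ![0, 0, 0, 0, 0, 0, 0, 0, 0, 0, 0, 0, 0, 1]],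
  ![
    ![1, 0, 0, 0, 0, 0, 0, 0, 0, 0, 0, 0, 0, 0],
    ![0, 1, 0, 0, 0, 0, 0, 0, 1, 0, 0, 0, 0, 0],
    ![0, 0, 1, 1, 0, 0, 0, 0, 0, 0, 0, 0, 0, 0],
    ![0, 0, 0, 1, 0, 0, 0, 0, 0, 0, 0, 0, 0, 0],
    ![0, 0, 0, 0, 1, 0, 0, 0, 0, 0, 0, 0, 0, 0],
    ![0, 0, 0, 0, 0, 1, 1, 0, 0, 0, 0, 0, 0, 0],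
    ![0, 0, 0, 0, 0, 0, 1, 0, 0, 0, 0, 0, 0, 0],
    ![1, 0, 0, 0, 0, 0, 0, 1, 1, 0, 0, 0, 0, 0],
    ![0, 0, 0, 0, 0, 0, 0, 0, 1, 0, 0, 0, 0, 0],
    ![0, 0, 0, 0, 0, 0, 0, 0, 0, 1, 1, 0, 0, 0],
    ![0, 0, 0, 0, 0, 0, 0, 0, 0, 0, 1, 0, 0, 0],
    ![0, 0, 0, 0, 0, 0, 0, 0, 0, 0, 0, 1, 0, 0],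
    ![0, 0, 0, 0, 0, 0, 0, 0, 0, 0, 0, 0, 1, 1],
    ![0, 0, 0, 0, 0, 0, 0, 0, 0, 0, 0, 0, 0, 1]],
  ![
    ![1, 0, 0, 0, 0, 0, 0, 0, 0, 0, 0, 0, 0, 0],
    ![0, 1, 0, 0, 0, 0, 0, 1, 0, 0, 0, 0, 0, 0],
    ![0, 0, 1, 0, 0, 0, 0, 0, 0, 0, 0, 0, 0, 0],
    ![0, 0, 1, 1, 0, 0, 0, 0, 0, 0, 0, 0, 0, 0],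
    ![0, 0, 0, 0, 1, 0, 0, 0, 0, 0, 0, 0, 0, 0],
    ![0, 0, 0, 0, 0, 1, 0, 0, 0, 0, 0, 0, 0, 0],
    ![0, 0, 0, 0, 0, 1, 1, 0, 0, 0, 0, 0, 0, 0],
    ![0, 0, 0, 0, 0, 0, 0, 1, 0, 0, 0, 0, 0, 0],
    ![1, 0, 0, 0, 0, 0, 0, 1, 1, 0, 0, 0, 0, 0],
    ![0, 0, 0, 0, 0, 0, 0, 0, 0, 1, 0, 0, 0, 0],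
    ![0, 0, 0, 0, 0, 0, 0, 0, 0, 1, 1, 0, 0, 0],
    ![0, 0, 0, 0, 0, 0, 0, 0, 0, 0, 0, 1, 0, 0],
    ![0, 0, 0, 0, 0, 0, 0, 0, 0, 0, 0, 0, 1, 0],
    ![0, 0, 0, 0, 0, 0, 0, 0, 0, 0, 0, 0, 1, 1]],
  ![
    ![1, 0, 0, 0, 0, 0, 1, 0, 0, 0, 0, 0, 0, 0],
    ![0, 1, 0, 0, 0, 0, 0, 0, 0, 0, 0, 0, 0, 0],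
    ![0, 0, 1, 0, 0, 0, 0, 0, 0, 0, 0, 0, 0, 0],
    ![0, 0, 0, 1, 0, 0, 0, 0, 0, 0, 0, 0, 0, 0],
    ![0, 0, 0, 1, 1, 0, 0, 0, 0, 0, 0, 0, 0, 0],
    ![0, 0, 0, 1, 0, 1, 0, 0, 0, 0, 0, 0, 0, 0],
    ![0, 0, 0, 0, 0, 0, 1, 0, 0, 0, 0, 0, 0, 0],
    ![0, 0, 0, 1, 1, 1, 0, 1, 0, 0, 0, 0, 0, 0],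
    ![0, 0, 0, 0, 0, 0, 0, 0, 1, 0, 0, 0, 0, 0],
    ![0, 1, 0, 0, 0, 0, 1, 0, 0, 1, 0, 0, 0, 0],
    ![0, 0, 0, 0, 0, 0, 0, 0, 1, 0, 1, 0, 0, 0],
    ![0, 0, 0, 0, 0, 0, 0, 0, 1, 0, 0, 1, 0, 0],
    ![0, 0, 0, 0, 0, 0, 0, 0, 1, 0, 1, 1, 1, 0],
    ![0, 0, 0, 0, 0, 0, 0, 0, 0, 0, 0, 0, 0, 1]],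
  ![
    ![1, 0, 0, 0, 0, 1, 0, 0, 0, 0, 0, 0, 0, 0],
    ![0, 1, 0, 0, 0, 1, 0, 0, 0, 0, 0, 0, 0, 0],
    ![0, 0, 1, 0, 0, 0, 0, 0, 0, 0, 0, 0, 0, 0],
    ![0, 0, 0, 1, 0, 0, 0, 0, 0, 0, 0, 0, 0, 0],
    ![0, 0, 1, 0, 1, 0, 0, 0, 0, 0, 0, 0, 0, 0],
    ![0, 0, 0, 0, 0, 1, 0, 0, 0, 0, 0, 0, 0, 0],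
    ![0, 0, 1, 0, 0, 0, 1, 0, 0, 0, 0, 0, 0, 0],
    ![0, 0, 0, 0, 0, 0, 0, 1, 0, 0, 0, 0, 0, 0],
    ![0, 0, 1, 0, 1, 0, 1, 0, 1, 0, 0, 0, 0, 0],
    ![0, 0, 0, 0, 0, 0, 0, 1, 0, 1, 0, 0, 0, 0],
    ![1, 1, 0, 0, 0, 1, 0, 0, 0, 0, 1, 0, 0, 0],
    ![0, 0, 0, 0, 0, 0, 0, 1, 0, 0, 0, 1, 0, 0],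
    ![0, 0, 0, 0, 0, 0, 0, 0, 0, 0, 0, 0, 1, 0],
    ![0, 0, 0, 0, 0, 0, 0, 1, 0, 1, 0, 1, 0, 1]],
  ![
    ![1, 0, 0, 0, 0, 0, 0, 0, 0, 0, 0, 0, 0, 0],
    ![0, 1, 0, 0, 1, 0, 0, 0, 0, 0, 0, 0, 0, 0],
    ![0, 0, 1, 0, 0, 0, 0, 0, 0, 0, 0, 0, 0, 0],
    ![0, 0, 0, 1, 0, 0, 0, 0, 0, 0, 0, 0, 0, 0],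
    ![0, 0, 0, 0, 1, 0, 0, 0, 0, 0, 0, 0, 0, 0],
    ![0, 0, 1, 0, 0, 1, 0, 0, 0, 0, 0, 0, 0, 0],
    ![0, 0, 0, 1, 0, 0, 1, 0, 0, 0, 0, 0, 0, 0],
    ![0, 0, 0, 0, 0, 0, 0, 1, 0, 0, 0, 0, 0, 0],
    ![0, 0, 0, 0, 0, 0, 0, 0, 1, 0, 0, 0, 0, 0],
    ![0, 0, 1, 0, 0, 0, 0, 0, 0, 1, 0, 0, 0, 0],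
    ![0, 0, 0, 1, 0, 0, 0, 0, 0, 0, 1, 0, 0, 0],
    ![1, 0, 0, 0, 1, 0, 0, 0, 0, 0, 0, 1, 0, 0],
    ![0, 0, 1, 0, 0, 1, 0, 0, 0, 1, 0, 0, 1, 0],
    ![0, 0, 0, 1, 0, 0, 1, 0, 0, 0, 1, 0, 0, 1]],
  ![
    ![1, 0, 0, 1, 0, 0, 0, 0, 0, 0, 0, 0, 0, 0],
    ![0, 1, 0, 1, 0, 0, 0, 0, 0, 0, 0, 0, 0, 0],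
    ![0, 0, 1, 0, 0, 0, 0, 0, 0, 0, 0, 0, 0, 0],
    ![0, 0, 0, 1, 0, 0, 0, 0, 0, 0, 0, 0, 0, 0],
    ![0, 0, 0, 0, 1, 0, 0, 0, 0, 0, 0, 0, 0, 0],
    ![0, 0, 0, 0, 0, 1, 0, 0, 0, 0, 0, 0, 0, 0],
    ![0, 0, 0, 0, 0, 0, 1, 0, 0, 0, 0, 0, 0, 0],
    ![0, 0, 1, 0, 0, 0, 0, 1, 0, 0, 0, 0, 0, 0],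
    ![0, 0, 0, 0, 0, 0, 0, 0, 1, 0, 0, 0, 0, 0],
    ![0, 0, 0, 0, 1, 0, 0, 0, 0, 1, 0, 0, 0, 0],
    ![0, 0, 0, 0, 0, 0, 0, 0, 0, 0, 1, 0, 0, 0],
    ![0, 0, 0, 0, 0, 0, 1, 0, 0, 0, 0, 1, 0, 0],
    ![1, 1, 0, 1, 0, 0, 0, 0, 0, 0, 0, 0, 1, 0],
    ![0, 0, 0, 0, 0, 0, 0, 0, 1, 0, 0, 0, 0, 1]],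
  ![
    ![1, 0, 1, 0, 0, 0, 0, 0, 0, 0, 0, 0, 0, 0],
    ![0, 1, 0, 0, 0, 0, 0, 0, 0, 0, 0, 0, 0, 0],
    ![0, 0, 1, 0, 0, 0, 0, 0, 0, 0, 0, 0, 0, 0],
    ![0, 0, 0, 1, 0, 0, 0, 0, 0, 0, 0, 0, 0, 0],
    ![0, 0, 0, 0, 1, 0, 0, 0, 0, 0, 0, 0, 0, 0],
    ![0, 0, 0, 0, 0, 1, 0, 0, 0, 0, 0, 0, 0, 0],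
    ![0, 0, 0, 0, 0, 0, 1, 0, 0, 0, 0, 0, 0, 0],
    ![0, 0, 0, 0, 0, 0, 0, 1, 0, 0, 0, 0, 0, 0],
    ![0, 0, 0, 1, 0, 0, 0, 0, 1, 0, 0, 0, 0, 0],
    ![0, 0, 0, 0, 0, 0, 0, 0, 0, 1, 0, 0, 0, 0],
    ![0, 0, 0, 0, 1, 0, 0, 0, 0, 0, 1, 0, 0, 0],
    ![0, 0, 0, 0, 0, 1, 0, 0, 0, 0, 0, 1, 0, 0],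
    ![0, 0, 0, 0, 0, 0, 0, 1, 0, 0, 0, 0, 1, 0],
    ![0, 1, 1, 0, 0, 0, 0, 0, 0, 0, 0, 0, 0, 1]]]

/-- The 63 vectors. -/
def vecT : Fin 63 → Fin 14 → ZMod 2 := ![
  ![0, 0, 1, 0, 0, 0, 0, 0, 0, 0, 0, 0, 0, 0],
  ![0, 0, 0, 1, 0, 0, 0, 0, 0, 0, 0, 0, 0, 0],
  ![0, 1, 1, 1, 0, 0, 0, 1, 1, 0, 0, 0, 0, 0],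
  ![0, 1, 0, 1, 1, 1, 1, 1, 1, 0, 0, 0, 0, 0],
  ![0, 1, 1, 0, 1, 1, 1, 1, 1, 0, 0, 0, 0, 0],
  ![0, 1, 0, 0, 0, 0, 0, 1, 1, 0, 0, 0, 0, 0],
  ![0, 0, 1, 1, 0, 0, 0, 0, 0, 0, 0, 0, 0, 0],
  ![1, 1, 1, 1, 0, 0, 0, 1, 0, 0, 0, 0, 1, 0],
  ![1, 1, 1, 1, 1, 1, 0, 0, 0, 1, 0, 0, 1, 0],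
  ![1, 1, 0, 1, 1, 1, 0, 1, 0, 1, 0, 0, 1, 0],
  ![1, 1, 0, 1, 0, 0, 0, 0, 0, 0, 0, 0, 1, 0],
  ![0, 0, 0, 0, 0, 0, 0, 1, 0, 0, 0, 0, 1, 0],
  ![0, 0, 1, 0, 0, 1, 0, 0, 0, 1, 0, 0, 1, 0],
  ![0, 0, 1, 0, 0, 1, 0, 1, 0, 1, 0, 0, 1, 0],
  ![0, 0, 0, 0, 0, 0, 0, 0, 0, 0, 0, 0, 1, 0],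
  ![0, 1, 0, 0, 0, 0, 0, 1, 1, 1, 1, 1, 1, 0],
  ![1, 1, 0, 1, 0, 0, 1, 0, 1, 0, 1, 1, 1, 0],
  ![1, 1, 1, 0, 1, 1, 1, 1, 1, 0, 1, 1, 1, 0],
  ![0, 1, 1, 1, 1, 1, 0, 0, 1, 1, 1, 1, 1, 0],
  ![1, 0, 1, 1, 0, 0, 0, 0, 1, 0, 0, 0, 0, 1],
  ![0, 0, 0, 0, 0, 0, 0, 0, 1, 0, 0, 0, 0, 1],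
  ![0, 1, 0, 0, 0, 0, 0, 1, 1, 1, 1, 1, 0, 1],
  ![1, 1, 0, 1, 1, 1, 0, 1, 1, 1, 1, 1, 0, 1],
  ![1, 0, 1, 1, 1, 0, 1, 0, 0, 0, 1, 0, 0, 1],
  ![0, 0, 0, 1, 0, 0, 1, 0, 0, 0, 1, 0, 0, 1],
  ![1, 0, 1, 0, 0, 1, 0, 1, 0, 1, 0, 1, 0, 1],
  ![0, 0, 0, 0, 0, 0, 0, 1, 0, 1, 0, 1, 0, 1],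
  ![1, 0, 1, 0, 1, 0, 1, 1, 1, 1, 1, 1, 1, 0],
  ![0, 0, 0, 0, 0, 0, 0, 0, 1, 0, 1, 1, 1, 0],
  ![0, 0, 0, 1, 1, 1, 0, 1, 1, 0, 1, 1, 1, 0],
  ![1, 0, 1, 1, 0, 1, 1, 0, 1, 1, 1, 1, 1, 0],
  ![1, 0, 1, 0, 1, 0, 1, 0, 1, 0, 1, 0, 0, 1],
  ![0, 0, 0, 1, 0, 0, 1, 0, 1, 0, 1, 0, 0, 1],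
  ![1, 0, 0, 1, 1, 1, 1, 1, 1, 1, 0, 1, 0, 1],
  ![0, 0, 1, 0, 1, 0, 1, 1, 1, 1, 0, 1, 0, 1],
  ![1, 0, 1, 0, 0, 0, 0, 0, 0, 0, 0, 0, 0, 1],
  ![0, 0, 0, 0, 0, 0, 0, 0, 0, 0, 0, 0, 0, 1],
  ![0, 1, 1, 1, 1, 0, 1, 1, 0, 1, 1, 1, 0, 1],
  ![1, 1, 1, 1, 0, 1, 1, 1, 0, 1, 1, 1, 0, 1],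
  ![0, 0, 0, 0, 0, 0, 0, 0, 1, 0, 0, 0, 0, 0],
  ![0, 0, 1, 0, 1, 0, 1, 0, 1, 0, 0, 0, 0, 0],
  ![0, 0, 1, 1, 1, 0, 1, 0, 1, 0, 0, 0, 0, 0],
  ![0, 0, 0, 1, 0, 0, 0, 0, 1, 0, 0, 0, 0, 0],
  ![0, 1, 0, 0, 0, 0, 0, 1, 1, 0, 0, 0, 1, 1],
  ![1, 1, 0, 1, 0, 0, 0, 0, 1, 0, 0, 0, 1, 1],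
  ![1, 0, 1, 1, 1, 1, 0, 1, 1, 0, 1, 1, 1, 1],
  ![0, 0, 0, 0, 0, 0, 0, 0, 1, 0, 1, 1, 1, 1],
  ![1, 0, 1, 0, 0, 0, 0, 1, 0, 0, 0, 0, 1, 1],
  ![0, 0, 0, 0, 0, 0, 0, 0, 0, 0, 0, 0, 1, 1],
  ![0, 1, 0, 1, 1, 1, 1, 1, 0, 0, 1, 1, 1, 1],
  ![1, 1, 0, 1, 0, 0, 1, 0, 0, 0, 1, 1, 1, 1],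
  ![1, 1, 1, 1, 1, 0, 1, 1, 1, 1, 0, 1, 1, 1],
  ![0, 1, 1, 0, 1, 1, 1, 0, 1, 1, 0, 1, 1, 1],
  ![0, 1, 1, 1, 0, 1, 1, 1, 1, 1, 1, 0, 1, 1],
  ![1, 1, 1, 0, 1, 1, 1, 0, 1, 1, 1, 0, 1, 1],
  ![0, 0, 0, 0, 0, 0, 0, 1, 0, 0, 0, 0, 0, 0],
  ![0, 0, 0, 1, 1, 1, 0, 1, 0, 0, 0, 0, 0, 0],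
  ![0, 0, 0, 0, 0, 0, 0, 1, 0, 1, 0, 1, 1, 1],
  ![1, 0, 1, 0, 0, 1, 0, 0, 0, 1, 0, 1, 1, 1],
  ![1, 0, 0, 1, 1, 1, 1, 1, 0, 1, 1, 0, 1, 1],
  ![0, 0, 1, 1, 0, 1, 1, 0, 0, 1, 1, 0, 1, 1],
  ![0, 0, 1, 1, 1, 1, 0, 1, 0, 0, 0, 0, 0, 0],
  ![0, 0, 1, 0, 0, 0, 0, 1, 0, 0, 0, 0, 0, 0]]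

/-- Permutations induced by the root elements on the 63 vectors. -/
def pgT : Fin 12 → Fin 63 → Fin 63 := ![
  ![0, 1, 5, 4, 3, 2, 6, 10, 9, 8, 7, 14, 13, 12, 11, 18, 17, 16, 15, 20, 19, 22, 21, 24, 23, 26, 25, 30, 29, 28, 27, 32, 31, 34, 33, 36, 35, 38, 37, 42, 41, 40, 39, 44, 43, 46, 45, 48, 47, 50, 49, 52, 51, 54, 53, 55, 56, 58, 57, 60, 59, 61, 62],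
  ![0, 1, 5, 4, 3, 2, 6, 11, 12, 13, 14, 7, 8, 9, 10, 27, 28, 29, 30, 35, 36, 37, 38, 31, 32, 33, 34, 15, 16, 17, 18, 23, 24, 25, 26, 19, 20, 21, 22, 39, 40, 41, 42, 47, 48, 49, 50, 43, 44, 45, 46, 57, 58, 59, 60, 62, 61, 51, 52, 53, 54, 56, 55],
  ![0, 1, 2, 4, 3, 5, 6, 9, 10, 7, 8, 13, 14, 11, 12, 29, 30, 27, 28, 31, 32, 34, 33, 35, 36, 38, 37, 17, 18, 15, 16, 19, 20, 22, 21, 23, 24, 26, 25, 39, 41, 40, 42, 53, 54, 51, 52, 59, 60, 57, 58, 45, 46, 43, 44, 55, 61, 49, 50, 47, 48, 56, 62],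
  ![0, 1, 3, 2, 5, 4, 6, 7, 9, 8, 10, 11, 13, 12, 14, 27, 29, 28, 30, 33, 34, 31, 32, 37, 38, 35, 36, 15, 17, 16, 18, 21, 22, 19, 20, 25, 26, 23, 24, 40, 39, 42, 41, 52, 51, 53, 54, 58, 57, 59, 60, 44, 43, 45, 46, 55, 61, 48, 47, 49, 50, 56, 62],
  ![0, 1, 4, 5, 2, 3, 6, 17, 18, 15, 16, 29, 30, 27, 28, 9, 10, 7, 8, 19, 20, 22, 21, 31, 32, 34, 33, 13, 14, 11, 12, 23, 24, 26, 25, 35, 36, 38, 37, 39, 41, 40, 42, 49, 50, 47, 48, 45, 46, 43, 44, 53, 54, 51, 52, 56, 55, 59, 60, 57, 58, 62, 61],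
  ![0, 6, 42, 41, 40, 39, 1, 10, 9, 8, 7, 11, 12, 13, 14, 28, 30, 27, 29, 44, 43, 46, 45, 59, 60, 58, 57, 17, 15, 18, 16, 54, 53, 51, 52, 47, 48, 49, 50, 5, 4, 3, 2, 20, 19, 22, 21, 35, 36, 37, 38, 33, 34, 32, 31, 55, 61, 26, 25, 23, 24, 56, 62],
  ![6, 1, 62, 56, 61, 55, 0, 47, 54, 59, 44, 43, 60, 53, 48, 57, 50, 45, 52, 35, 20, 26, 33, 31, 24, 38, 21, 51, 46, 49, 58, 23, 32, 22, 37, 19, 36, 34, 25, 39, 41, 40, 42, 11, 10, 17, 28, 7, 14, 29, 16, 27, 18, 13, 8, 5, 3, 15, 30, 9, 12, 4, 2],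
  ![0, 56, 18, 16, 17, 15, 61, 8, 7, 10, 9, 11, 13, 12, 14, 5, 3, 4, 2, 45, 46, 43, 44, 60, 59, 58, 57, 40, 39, 42, 41, 34, 33, 32, 31, 35, 36, 38, 37, 28, 27, 30, 29, 21, 22, 19, 20, 47, 48, 50, 49, 53, 54, 51, 52, 55, 1, 26, 25, 24, 23, 6, 62],
  ![40, 1, 37, 33, 25, 21, 41, 51, 60, 29, 10, 57, 54, 17, 14, 43, 50, 13, 30, 23, 20, 5, 56, 19, 32, 4, 55, 47, 46, 9, 18, 35, 24, 3, 62, 31, 36, 2, 61, 39, 0, 6, 42, 15, 44, 53, 28, 27, 48, 59, 16, 7, 58, 45, 12, 26, 22, 11, 52, 49, 8, 38, 34],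
  ![12, 24, 53, 29, 34, 5, 60, 38, 23, 59, 50, 11, 0, 62, 14, 21, 44, 27, 41, 30, 20, 15, 33, 8, 1, 47, 57, 17, 46, 3, 19, 54, 42, 22, 4, 58, 36, 61, 7, 39, 52, 18, 32, 43, 16, 51, 28, 25, 48, 56, 10, 45, 40, 2, 31, 55, 49, 26, 35, 9, 6, 37, 13],
  ![62, 10, 19, 33, 52, 43, 7, 6, 61, 56, 1, 11, 13, 12, 14, 21, 32, 54, 45, 2, 39, 15, 29, 37, 50, 58, 26, 31, 46, 22, 53, 27, 16, 3, 40, 47, 36, 23, 60, 20, 34, 51, 44, 5, 42, 18, 28, 35, 48, 59, 24, 41, 4, 30, 17, 55, 9, 57, 25, 49, 38, 8, 0],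
  ![35, 42, 7, 49, 17, 43, 19, 2, 18, 22, 44, 55, 58, 25, 14, 21, 50, 4, 8, 6, 20, 15, 9, 41, 32, 13, 57, 34, 28, 56, 60, 40, 24, 59, 27, 0, 36, 51, 53, 39, 31, 23, 1, 5, 10, 61, 46, 62, 48, 3, 16, 37, 54, 38, 52, 11, 29, 26, 12, 33, 30, 45, 47]]

/-- Their inverses. -/
def pgI : Fin 12 → Fin 63 → Fin 63 := ![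
  ![0, 1, 5, 4, 3, 2, 6, 10, 9, 8, 7, 14, 13, 12, 11, 18, 17, 16, 15, 20, 19, 22, 21, 24, 23, 26, 25, 30, 29, 28, 27, 32, 31, 34, 33, 36, 35, 38, 37, 42, 41, 40, 39, 44, 43, 46, 45, 48, 47, 50, 49, 52, 51, 54, 53, 55, 56, 58, 57, 60, 59, 61, 62],
  ![0, 1, 5, 4, 3, 2, 6, 11, 12, 13, 14, 7, 8, 9, 10, 27, 28, 29, 30, 35, 36, 37, 38, 31, 32, 33, 34, 15, 16, 17, 18, 23, 24, 25, 26, 19, 20, 21, 22, 39, 40, 41, 42, 47, 48, 49, 50, 43, 44, 45, 46, 57, 58, 59, 60, 62, 61, 51, 52, 53, 54, 56, 55],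
  ![0, 1, 2, 4, 3, 5, 6, 9, 10, 7, 8, 13, 14, 11, 12, 29, 30, 27, 28, 31, 32, 34, 33, 35, 36, 38, 37, 17, 18, 15, 16, 19, 20, 22, 21, 23, 24, 26, 25, 39, 41, 40, 42, 53, 54, 51, 52, 59, 60, 57, 58, 45, 46, 43, 44, 55, 61, 49, 50, 47, 48, 56, 62],
  ![0, 1, 3, 2, 5, 4, 6, 7, 9, 8, 10, 11, 13, 12, 14, 27, 29, 28, 30, 33, 34, 31, 32, 37, 38, 35, 36, 15, 17, 16, 18, 21, 22, 19, 20, 25, 26, 23, 24, 40, 39, 42, 41, 52, 51, 53, 54, 58, 57, 59, 60, 44, 43, 45, 46, 55, 61, 48, 47, 49, 50, 56, 62],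
  ![0, 1, 4, 5, 2, 3, 6, 17, 18, 15, 16, 29, 30, 27, 28, 9, 10, 7, 8, 19, 20, 22, 21, 31, 32, 34, 33, 13, 14, 11, 12, 23, 24, 26, 25, 35, 36, 38, 37, 39, 41, 40, 42, 49, 50, 47, 48, 45, 46, 43, 44, 53, 54, 51, 52, 56, 55, 59, 60, 57, 58, 62, 61],
  ![0, 6, 42, 41, 40, 39, 1, 10, 9, 8, 7, 11, 12, 13, 14, 28, 30, 27, 29, 44, 43, 46, 45, 59, 60, 58, 57, 17, 15, 18, 16, 54, 53, 51, 52, 47, 48, 49, 50, 5, 4, 3, 2, 20, 19, 22, 21, 35, 36, 37, 38, 33, 34, 32, 31, 55, 61, 26, 25, 23, 24, 56, 62],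
  ![6, 1, 62, 56, 61, 55, 0, 47, 54, 59, 44, 43, 60, 53, 48, 57, 50, 45, 52, 35, 20, 26, 33, 31, 24, 38, 21, 51, 46, 49, 58, 23, 32, 22, 37, 19, 36, 34, 25, 39, 41, 40, 42, 11, 10, 17, 28, 7, 14, 29, 16, 27, 18, 13, 8, 5, 3, 15, 30, 9, 12, 4, 2],
  ![0, 56, 18, 16, 17, 15, 61, 8, 7, 10, 9, 11, 13, 12, 14, 5, 3, 4, 2, 45, 46, 43, 44, 60, 59, 58, 57, 40, 39, 42, 41, 34, 33, 32, 31, 35, 36, 38, 37, 28, 27, 30, 29, 21, 22, 19, 20, 47, 48, 50, 49, 53, 54, 51, 52, 55, 1, 26, 25, 24, 23, 6, 62],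
  ![40, 1, 37, 33, 25, 21, 41, 51, 60, 29, 10, 57, 54, 17, 14, 43, 50, 13, 30, 23, 20, 5, 56, 19, 32, 4, 55, 47, 46, 9, 18, 35, 24, 3, 62, 31, 36, 2, 61, 39, 0, 6, 42, 15, 44, 53, 28, 27, 48, 59, 16, 7, 58, 45, 12, 26, 22, 11, 52, 49, 8, 38, 34],
  ![12, 24, 53, 29, 34, 5, 60, 38, 23, 59, 50, 11, 0, 62, 14, 21, 44, 27, 41, 30, 20, 15, 33, 8, 1, 47, 57, 17, 46, 3, 19, 54, 42, 22, 4, 58, 36, 61, 7, 39, 52, 18, 32, 43, 16, 51, 28, 25, 48, 56, 10, 45, 40, 2, 31, 55, 49, 26, 35, 9, 6, 37, 13],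
  ![62, 10, 19, 33, 52, 43, 7, 6, 61, 56, 1, 11, 13, 12, 14, 21, 32, 54, 45, 2, 39, 15, 29, 37, 50, 58, 26, 31, 46, 22, 53, 27, 16, 3, 40, 47, 36, 23, 60, 20, 34, 51, 44, 5, 42, 18, 28, 35, 48, 59, 24, 41, 4, 30, 17, 55, 9, 57, 25, 49, 38, 8, 0],
  ![35, 42, 7, 49, 17, 43, 19, 2, 18, 22, 44, 55, 58, 25, 14, 21, 50, 4, 8, 6, 20, 15, 9, 41, 32, 13, 57, 34, 28, 56, 60, 40, 24, 59, 27, 0, 36, 51, 53, 39, 31, 23, 1, 5, 10, 61, 46, 62, 48, 3, 16, 37, 54, 38, 52, 11, 29, 26, 12, 33, 30, 45, 47]]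

/-- Representatives of the 63 non-isotropic points. -/
def repT : Fin 63 → Fin 3 → GF9 := ![
  ![⟨0, 0⟩, ⟨0, 0⟩, ⟨0, 1⟩],
  ![⟨0, 0⟩, ⟨0, 1⟩, ⟨0, 0⟩],
  ![⟨0, 0⟩, ⟨1, 1⟩, ⟨1, 1⟩],
  ![⟨0, 0⟩, ⟨1, 1⟩, ⟨1, 2⟩],
  ![⟨0, 0⟩, ⟨1, 1⟩, ⟨2, 1⟩],
  ![⟨0, 0⟩, ⟨1, 1⟩, ⟨2, 2⟩],
  ![⟨0, 1⟩, ⟨0, 0⟩, ⟨0, 0⟩],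
  ![⟨0, 1⟩, ⟨0, 1⟩, ⟨1, 1⟩],
  ![⟨0, 1⟩, ⟨0, 1⟩, ⟨1, 2⟩],
  ![⟨0, 1⟩, ⟨0, 1⟩, ⟨2, 1⟩],
  ![⟨0, 1⟩, ⟨0, 1⟩, ⟨2, 2⟩],
  ![⟨0, 1⟩, ⟨0, 2⟩, ⟨1, 1⟩],
  ![⟨0, 1⟩, ⟨0, 2⟩, ⟨1, 2⟩],
  ![⟨0, 1⟩, ⟨0, 2⟩, ⟨2, 1⟩],
  ![⟨0, 1⟩, ⟨0, 2⟩, ⟨2, 2⟩],
  ![⟨0, 1⟩, ⟨1, 0⟩, ⟨1, 1⟩],
  ![⟨0, 1⟩, ⟨1, 0⟩, ⟨1, 2⟩],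
  ![⟨0, 1⟩, ⟨1, 0⟩, ⟨2, 1⟩],
  ![⟨0, 1⟩, ⟨1, 0⟩, ⟨2, 2⟩],
  ![⟨0, 1⟩, ⟨1, 1⟩, ⟨0, 1⟩],
  ![⟨0, 1⟩, ⟨1, 1⟩, ⟨0, 2⟩],
  ![⟨0, 1⟩, ⟨1, 1⟩, ⟨1, 0⟩],
  ![⟨0, 1⟩, ⟨1, 1⟩, ⟨2, 0⟩],
  ![⟨0, 1⟩, ⟨1, 2⟩, ⟨0, 1⟩],
  ![⟨0, 1⟩, ⟨1, 2⟩, ⟨0, 2⟩],
  ![⟨0, 1⟩, ⟨1, 2⟩, ⟨1, 0⟩],
  ![⟨0, 1⟩, ⟨1, 2⟩, ⟨2, 0⟩],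
  ![⟨0, 1⟩, ⟨2, 0⟩, ⟨1, 1⟩],
  ![⟨0, 1⟩, ⟨2, 0⟩, ⟨1, 2⟩],
  ![⟨0, 1⟩, ⟨2, 0⟩, ⟨2, 1⟩],
  ![⟨0, 1⟩, ⟨2, 0⟩, ⟨2, 2⟩],
  ![⟨0, 1⟩, ⟨2, 1⟩, ⟨0, 1⟩],
  ![⟨0, 1⟩, ⟨2, 1⟩, ⟨0, 2⟩],
  ![⟨0, 1⟩, ⟨2, 1⟩, ⟨1, 0⟩],
  ![⟨0, 1⟩, ⟨2, 1⟩, ⟨2, 0⟩],
  ![⟨0, 1⟩, ⟨2, 2⟩, ⟨0, 1⟩],
  ![⟨0, 1⟩, ⟨2, 2⟩, ⟨0, 2⟩],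
  ![⟨0, 1⟩, ⟨2, 2⟩, ⟨1, 0⟩],
  ![⟨0, 1⟩, ⟨2, 2⟩, ⟨2, 0⟩],
  ![⟨1, 1⟩, ⟨0, 0⟩, ⟨1, 1⟩],
  ![⟨1, 1⟩, ⟨0, 0⟩, ⟨1, 2⟩],
  ![⟨1, 1⟩, ⟨0, 0⟩, ⟨2, 1⟩],
  ![⟨1, 1⟩, ⟨0, 0⟩, ⟨2, 2⟩],
  ![⟨1, 1⟩, ⟨0, 1⟩, ⟨0, 1⟩],
  ![⟨1, 1⟩, ⟨0, 1⟩, ⟨0, 2⟩],
  ![⟨1, 1⟩, ⟨0, 1⟩, ⟨1, 0⟩],
  ![⟨1, 1⟩, ⟨0, 1⟩, ⟨2, 0⟩],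
  ![⟨1, 1⟩, ⟨0, 2⟩, ⟨0, 1⟩],
  ![⟨1, 1⟩, ⟨0, 2⟩, ⟨0, 2⟩],
  ![⟨1, 1⟩, ⟨0, 2⟩, ⟨1, 0⟩],
  ![⟨1, 1⟩, ⟨0, 2⟩, ⟨2, 0⟩],
  ![⟨1, 1⟩, ⟨1, 0⟩, ⟨0, 1⟩],
  ![⟨1, 1⟩, ⟨1, 0⟩, ⟨0, 2⟩],
  ![⟨1, 1⟩, ⟨1, 0⟩, ⟨1, 0⟩],
  ![⟨1, 1⟩, ⟨1, 0⟩, ⟨2, 0⟩],
  ![⟨1, 1⟩, ⟨1, 1⟩, ⟨0, 0⟩],
  ![⟨1, 1⟩, ⟨1, 2⟩, ⟨0, 0⟩],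
  ![⟨1, 1⟩, ⟨2, 0⟩, ⟨0, 1⟩],
  ![⟨1, 1⟩, ⟨2, 0⟩, ⟨0, 2⟩],
  ![⟨1, 1⟩, ⟨2, 0⟩, ⟨1, 0⟩],
  ![⟨1, 1⟩, ⟨2, 0⟩, ⟨2, 0⟩],
  ![⟨1, 1⟩, ⟨2, 1⟩, ⟨0, 0⟩],
  ![⟨1, 1⟩, ⟨2, 2⟩, ⟨0, 0⟩]]

/-- Unitary matrices. -/
def wT : Fin 12 → Fin 3 → Fin 3 → GF9 := ![
  ![
    ![⟨2, 0⟩, ⟨0, 0⟩, ⟨0, 0⟩],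
    ![⟨0, 0⟩, ⟨2, 0⟩, ⟨0, 0⟩],
    ![⟨0, 0⟩, ⟨0, 0⟩, ⟨1, 0⟩]],
  ![
    ![⟨2, 0⟩, ⟨0, 0⟩, ⟨0, 0⟩],
    ![⟨0, 0⟩, ⟨1, 0⟩, ⟨0, 0⟩],
    ![⟨0, 0⟩, ⟨0, 0⟩, ⟨2, 0⟩]],
  ![
    ![⟨1, 0⟩, ⟨0, 0⟩, ⟨0, 0⟩],
    ![⟨0, 0⟩, ⟨1, 0⟩, ⟨0, 0⟩],
    ![⟨0, 0⟩, ⟨0, 0⟩, ⟨1, 0⟩]],
  ![
    ![⟨0, 2⟩, ⟨0, 0⟩, ⟨0, 0⟩],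
    ![⟨0, 0⟩, ⟨0, 2⟩, ⟨0, 0⟩],
    ![⟨0, 0⟩, ⟨0, 0⟩, ⟨2, 0⟩]],
  ![
    ![⟨0, 2⟩, ⟨0, 0⟩, ⟨0, 0⟩],
    ![⟨0, 0⟩, ⟨2, 0⟩, ⟨0, 0⟩],
    ![⟨0, 0⟩, ⟨0, 0⟩, ⟨0, 2⟩]],
  ![
    ![⟨0, 0⟩, ⟨1, 0⟩, ⟨0, 0⟩],
    ![⟨1, 0⟩, ⟨0, 0⟩, ⟨0, 0⟩],
    ![⟨0, 0⟩, ⟨0, 0⟩, ⟨2, 0⟩]],
  ![
    ![⟨0, 0⟩, ⟨0, 0⟩, ⟨1, 0⟩],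
    ![⟨0, 0⟩, ⟨2, 0⟩, ⟨0, 0⟩],
    ![⟨1, 0⟩, ⟨0, 0⟩, ⟨0, 0⟩]],
  ![
    ![⟨2, 2⟩, ⟨1, 2⟩, ⟨0, 0⟩],
    ![⟨1, 2⟩, ⟨2, 2⟩, ⟨0, 0⟩],
    ![⟨0, 0⟩, ⟨0, 0⟩, ⟨0, 2⟩]],
  ![
    ![⟨2, 2⟩, ⟨0, 0⟩, ⟨1, 2⟩],
    ![⟨0, 0⟩, ⟨0, 2⟩, ⟨0, 0⟩],
    ![⟨1, 2⟩, ⟨0, 0⟩, ⟨2, 2⟩]],
  ![
    ![⟨1, 2⟩, ⟨0, 1⟩, ⟨0, 1⟩],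
    ![⟨0, 1⟩, ⟨1, 2⟩, ⟨0, 2⟩],
    ![⟨0, 1⟩, ⟨0, 2⟩, ⟨1, 2⟩]],
  ![
    ![⟨1, 0⟩, ⟨1, 0⟩, ⟨1, 1⟩],
    ![⟨1, 0⟩, ⟨1, 0⟩, ⟨2, 2⟩],
    ![⟨1, 2⟩, ⟨2, 1⟩, ⟨0, 0⟩]],
  ![
    ![⟨1, 0⟩, ⟨1, 1⟩, ⟨1, 0⟩],
    ![⟨1, 2⟩, ⟨0, 0⟩, ⟨2, 1⟩],
    ![⟨1, 0⟩, ⟨2, 2⟩, ⟨1, 0⟩]]]

/-- Whether the Frobenius twist is needed. -/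
def epsT : Fin 12 → Bool := ![false, false, true, true, true, false, false, true, true, true, false, false]

/-- Permutations induced by the unitary matrices on the 63 points. -/
def pwT : Fin 12 → Fin 63 → Fin 63 := ![
  ![0, 1, 5, 4, 3, 2, 6, 10, 9, 8, 7, 14, 13, 12, 11, 18, 17, 16, 15, 20, 19, 22, 21, 24, 23, 26, 25, 30, 29, 28, 27, 32, 31, 34, 33, 36, 35, 38, 37, 42, 41, 40, 39, 44, 43, 46, 45, 48, 47, 50, 49, 52, 51, 54, 53, 55, 56, 58, 57, 60, 59, 61, 62],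
  ![0, 1, 5, 4, 3, 2, 6, 11, 12, 13, 14, 7, 8, 9, 10, 27, 28, 29, 30, 35, 36, 37, 38, 31, 32, 33, 34, 15, 16, 17, 18, 23, 24, 25, 26, 19, 20, 21, 22, 39, 40, 41, 42, 47, 48, 49, 50, 43, 44, 45, 46, 57, 58, 59, 60, 62, 61, 51, 52, 53, 54, 56, 55],
  ![0, 1, 2, 3, 4, 5, 6, 7, 8, 9, 10, 11, 12, 13, 14, 15, 16, 17, 18, 19, 20, 21, 22, 23, 24, 25, 26, 27, 28, 29, 30, 31, 32, 33, 34, 35, 36, 37, 38, 39, 40, 41, 42, 43, 44, 45, 46, 47, 48, 49, 50, 51, 52, 53, 54, 55, 56, 57, 58, 59, 60, 61, 62],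
  ![0, 1, 3, 5, 2, 4, 6, 8, 10, 7, 9, 12, 14, 11, 13, 16, 18, 15, 17, 21, 22, 20, 19, 25, 26, 24, 23, 28, 30, 27, 29, 33, 34, 32, 31, 37, 38, 36, 35, 40, 42, 39, 41, 45, 46, 44, 43, 49, 50, 48, 47, 53, 54, 52, 51, 55, 56, 59, 60, 58, 57, 61, 62],
  ![0, 1, 4, 2, 5, 3, 6, 15, 16, 17, 18, 27, 28, 29, 30, 11, 12, 13, 14, 23, 24, 25, 26, 35, 36, 37, 38, 7, 8, 9, 10, 19, 20, 21, 22, 31, 32, 33, 34, 39, 40, 41, 42, 51, 52, 53, 54, 57, 58, 59, 60, 47, 48, 49, 50, 56, 62, 43, 44, 45, 46, 55, 61],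
  ![0, 6, 42, 41, 40, 39, 1, 10, 9, 8, 7, 11, 12, 13, 14, 28, 30, 27, 29, 44, 43, 46, 45, 59, 60, 58, 57, 17, 15, 18, 16, 54, 53, 51, 52, 47, 48, 49, 50, 5, 4, 3, 2, 20, 19, 22, 21, 35, 36, 37, 38, 33, 34, 32, 31, 55, 61, 26, 25, 23, 24, 56, 62],
  ![6, 1, 62, 56, 61, 55, 0, 47, 54, 59, 44, 43, 60, 53, 48, 57, 50, 45, 52, 35, 20, 26, 33, 31, 24, 38, 21, 51, 46, 49, 58, 23, 32, 22, 37, 19, 36, 34, 25, 39, 41, 40, 42, 11, 10, 17, 28, 7, 14, 29, 16, 27, 18, 13, 8, 5, 3, 15, 30, 9, 12, 4, 2],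
  ![0, 56, 18, 17, 16, 15, 61, 10, 9, 8, 7, 12, 14, 11, 13, 42, 41, 40, 39, 34, 33, 31, 32, 35, 36, 37, 38, 4, 2, 5, 3, 45, 46, 44, 43, 60, 59, 57, 58, 28, 30, 27, 29, 51, 52, 53, 54, 24, 23, 26, 25, 19, 20, 21, 22, 55, 6, 50, 49, 47, 48, 1, 62],
  ![40, 1, 37, 25, 33, 21, 41, 29, 10, 51, 60, 17, 14, 57, 54, 9, 18, 47, 46, 35, 24, 62, 3, 31, 36, 61, 2, 13, 30, 43, 50, 23, 20, 56, 5, 19, 32, 55, 4, 39, 6, 0, 42, 45, 12, 7, 58, 49, 8, 11, 52, 53, 28, 15, 44, 26, 38, 59, 16, 27, 48, 22, 34],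
  ![12, 24, 53, 34, 29, 5, 60, 59, 50, 38, 23, 62, 14, 11, 0, 3, 19, 17, 46, 54, 42, 4, 22, 58, 36, 7, 61, 27, 41, 21, 44, 30, 20, 33, 15, 8, 1, 57, 47, 39, 18, 52, 32, 2, 31, 45, 40, 9, 6, 26, 35, 51, 28, 43, 16, 55, 37, 56, 10, 25, 48, 49, 13],
  ![62, 10, 19, 33, 52, 43, 7, 6, 61, 56, 1, 11, 13, 12, 14, 21, 32, 54, 45, 2, 39, 15, 29, 37, 50, 58, 26, 31, 46, 22, 53, 27, 16, 3, 40, 47, 36, 23, 60, 20, 34, 51, 44, 5, 42, 18, 28, 35, 48, 59, 24, 41, 4, 30, 17, 55, 9, 57, 25, 49, 38, 8, 0],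
  ![35, 42, 7, 49, 17, 43, 19, 2, 18, 22, 44, 55, 58, 25, 14, 21, 50, 4, 8, 6, 20, 15, 9, 41, 32, 13, 57, 34, 28, 56, 60, 40, 24, 59, 27, 0, 36, 51, 53, 39, 31, 23, 1, 5, 10, 61, 46, 62, 48, 3, 16, 37, 54, 38, 52, 11, 29, 26, 12, 33, 30, 45, 47]]

/-- The scalars `c` with `w • rep i = c • rep (pw i)`. -/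
def csT : Fin 12 → Fin 63 → GF9 := ![
  ![⟨1, 0⟩, ⟨2, 0⟩, ⟨2, 0⟩, ⟨2, 0⟩, ⟨2, 0⟩, ⟨2, 0⟩, ⟨2, 0⟩, ⟨2, 0⟩, ⟨2, 0⟩, ⟨2, 0⟩, ⟨2, 0⟩, ⟨2, 0⟩, ⟨2, 0⟩, ⟨2, 0⟩, ⟨2, 0⟩, ⟨2, 0⟩, ⟨2, 0⟩, ⟨2, 0⟩, ⟨2, 0⟩, ⟨2, 0⟩, ⟨2, 0⟩, ⟨2, 0⟩, ⟨2, 0⟩, ⟨2, 0⟩, ⟨2, 0⟩, ⟨2, 0⟩, ⟨2, 0⟩, ⟨2, 0⟩, ⟨2, 0⟩, ⟨2, 0⟩, ⟨2, 0⟩, ⟨2, 0⟩, ⟨2, 0⟩, ⟨2, 0⟩, ⟨2, 0⟩, ⟨2, 0⟩, ⟨2, 0⟩, ⟨2, 0⟩, ⟨2, 0⟩, ⟨2, 0⟩, ⟨2, 0⟩, ⟨2, 0⟩, ⟨2, 0⟩, ⟨2, 0⟩, ⟨2, 0⟩, ⟨2, 0⟩, ⟨2, 0⟩, ⟨2, 0⟩, ⟨2, 0⟩, ⟨2, 0⟩, ⟨2, 0⟩, ⟨2, 0⟩, ⟨2, 0⟩, ⟨2, 0⟩, ⟨2, 0⟩, ⟨2, 0⟩, ⟨2, 0⟩, ⟨2, 0⟩, ⟨2, 0⟩, ⟨2, 0⟩, ⟨2, 0⟩, ⟨2, 0⟩, ⟨2, 0⟩],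
  ![⟨2, 0⟩, ⟨1, 0⟩, ⟨1, 0⟩, ⟨1, 0⟩, ⟨1, 0⟩, ⟨1, 0⟩, ⟨2, 0⟩, ⟨2, 0⟩, ⟨2, 0⟩, ⟨2, 0⟩, ⟨2, 0⟩, ⟨2, 0⟩, ⟨2, 0⟩, ⟨2, 0⟩, ⟨2, 0⟩, ⟨2, 0⟩, ⟨2, 0⟩, ⟨2, 0⟩, ⟨2, 0⟩, ⟨2, 0⟩, ⟨2, 0⟩, ⟨2, 0⟩, ⟨2, 0⟩, ⟨2, 0⟩, ⟨2, 0⟩, ⟨2, 0⟩, ⟨2, 0⟩, ⟨2, 0⟩, ⟨2, 0⟩, ⟨2, 0⟩, ⟨2, 0⟩, ⟨2, 0⟩, ⟨2, 0⟩, ⟨2, 0⟩, ⟨2, 0⟩, ⟨2, 0⟩, ⟨2, 0⟩, ⟨2, 0⟩, ⟨2, 0⟩, ⟨2, 0⟩, ⟨2, 0⟩, ⟨2, 0⟩, ⟨2, 0⟩, ⟨2, 0⟩, ⟨2, 0⟩, ⟨2, 0⟩, ⟨2, 0⟩, ⟨2, 0⟩, ⟨2, 0⟩, ⟨2, 0⟩, ⟨2, 0⟩, ⟨2, 0⟩, ⟨2, 0⟩, ⟨2, 0⟩, ⟨2, 0⟩, ⟨2, 0⟩, ⟨2, 0⟩, ⟨2, 0⟩, ⟨2, 0⟩, ⟨2, 0⟩, ⟨2, 0⟩, ⟨2, 0⟩, ⟨2, 0⟩],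
  ![⟨1, 0⟩, ⟨1, 0⟩, ⟨1, 0⟩, ⟨1, 0⟩, ⟨1, 0⟩, ⟨1, 0⟩, ⟨1, 0⟩, ⟨1, 0⟩, ⟨1, 0⟩, ⟨1, 0⟩, ⟨1, 0⟩, ⟨1, 0⟩, ⟨1, 0⟩, ⟨1, 0⟩, ⟨1, 0⟩, ⟨1, 0⟩, ⟨1, 0⟩, ⟨1, 0⟩, ⟨1, 0⟩, ⟨1, 0⟩, ⟨1, 0⟩, ⟨1, 0⟩, ⟨1, 0⟩, ⟨1, 0⟩, ⟨1, 0⟩, ⟨1, 0⟩, ⟨1, 0⟩, ⟨1, 0⟩, ⟨1, 0⟩, ⟨1, 0⟩, ⟨1, 0⟩, ⟨1, 0⟩, ⟨1, 0⟩, ⟨1, 0⟩, ⟨1, 0⟩, ⟨1, 0⟩, ⟨1, 0⟩, ⟨1, 0⟩, ⟨1, 0⟩, ⟨1, 0⟩, ⟨1, 0⟩, ⟨1, 0⟩, ⟨1, 0⟩, ⟨1, 0⟩, ⟨1, 0⟩, ⟨1, 0⟩, ⟨1, 0⟩, ⟨1, 0⟩, ⟨1, 0⟩, ⟨1, 0⟩, ⟨1, 0⟩, ⟨1, 0⟩, ⟨1, 0⟩, ⟨1, 0⟩, ⟨1, 0⟩, ⟨1, 0⟩, ⟨1, 0⟩, ⟨1, 0⟩, ⟨1, 0⟩, ⟨1, 0⟩, ⟨1, 0⟩, ⟨1, 0⟩, ⟨1, 0⟩],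
  ![⟨2, 0⟩, ⟨0, 2⟩, ⟨0, 2⟩, ⟨0, 2⟩, ⟨0, 2⟩, ⟨0, 2⟩, ⟨0, 2⟩, ⟨0, 2⟩, ⟨0, 2⟩, ⟨0, 2⟩, ⟨0, 2⟩, ⟨0, 2⟩, ⟨0, 2⟩, ⟨0, 2⟩, ⟨0, 2⟩, ⟨0, 2⟩, ⟨0, 2⟩, ⟨0, 2⟩, ⟨0, 2⟩, ⟨0, 2⟩, ⟨0, 2⟩, ⟨0, 2⟩, ⟨0, 2⟩, ⟨0, 2⟩, ⟨0, 2⟩, ⟨0, 2⟩, ⟨0, 2⟩, ⟨0, 2⟩, ⟨0, 2⟩, ⟨0, 2⟩, ⟨0, 2⟩, ⟨0, 2⟩, ⟨0, 2⟩, ⟨0, 2⟩, ⟨0, 2⟩, ⟨0, 2⟩, ⟨0, 2⟩, ⟨0, 2⟩, ⟨0, 2⟩, ⟨0, 2⟩, ⟨0, 2⟩, ⟨0, 2⟩, ⟨0, 2⟩, ⟨0, 2⟩, ⟨0, 2⟩, ⟨0, 2⟩, ⟨0, 2⟩, ⟨0, 2⟩, ⟨0, 2⟩, ⟨0, 2⟩, ⟨0, 2⟩, ⟨0, 2⟩, ⟨0, 2⟩, ⟨0, 2⟩, ⟨0, 2⟩, ⟨0, 2⟩, ⟨0, 2⟩, ⟨0, 2⟩, ⟨0, 2⟩, ⟨0, 2⟩, ⟨0, 2⟩, ⟨0, 2⟩, ⟨0, 2⟩],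
  ![⟨0, 2⟩, ⟨2, 0⟩, ⟨2, 0⟩, ⟨2, 0⟩, ⟨2, 0⟩, ⟨2, 0⟩, ⟨0, 2⟩, ⟨0, 2⟩, ⟨0, 2⟩, ⟨0, 2⟩, ⟨0, 2⟩, ⟨0, 2⟩, ⟨0, 2⟩, ⟨0, 2⟩, ⟨0, 2⟩, ⟨0, 2⟩, ⟨0, 2⟩, ⟨0, 2⟩, ⟨0, 2⟩, ⟨0, 2⟩, ⟨0, 2⟩, ⟨0, 2⟩, ⟨0, 2⟩, ⟨0, 2⟩, ⟨0, 2⟩, ⟨0, 2⟩, ⟨0, 2⟩, ⟨0, 2⟩, ⟨0, 2⟩, ⟨0, 2⟩, ⟨0, 2⟩, ⟨0, 2⟩, ⟨0, 2⟩, ⟨0, 2⟩, ⟨0, 2⟩, ⟨0, 2⟩, ⟨0, 2⟩, ⟨0, 2⟩, ⟨0, 2⟩, ⟨0, 2⟩, ⟨0, 2⟩, ⟨0, 2⟩, ⟨0, 2⟩, ⟨0, 2⟩, ⟨0, 2⟩, ⟨0, 2⟩, ⟨0, 2⟩, ⟨0, 2⟩, ⟨0, 2⟩, ⟨0, 2⟩, ⟨0, 2⟩, ⟨0, 2⟩, ⟨0, 2⟩, ⟨0, 2⟩, ⟨0, 2⟩, ⟨0, 2⟩, ⟨0, 2⟩, ⟨0, 2⟩, ⟨0, 2⟩, ⟨0, 2⟩, ⟨0, 2⟩, ⟨0, 2⟩, ⟨0, 2⟩],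
  ![⟨2, 0⟩, ⟨1, 0⟩, ⟨1, 0⟩, ⟨1, 0⟩, ⟨1, 0⟩, ⟨1, 0⟩, ⟨1, 0⟩, ⟨1, 0⟩, ⟨1, 0⟩, ⟨1, 0⟩, ⟨1, 0⟩, ⟨2, 0⟩, ⟨2, 0⟩, ⟨2, 0⟩, ⟨2, 0⟩, ⟨0, 2⟩, ⟨0, 2⟩, ⟨0, 2⟩, ⟨0, 2⟩, ⟨1, 0⟩, ⟨1, 0⟩, ⟨1, 0⟩, ⟨1, 0⟩, ⟨0, 2⟩, ⟨0, 2⟩, ⟨0, 2⟩, ⟨0, 2⟩, ⟨0, 1⟩, ⟨0, 1⟩, ⟨0, 1⟩, ⟨0, 1⟩, ⟨0, 1⟩, ⟨0, 1⟩, ⟨0, 1⟩, ⟨0, 1⟩, ⟨2, 0⟩, ⟨2, 0⟩, ⟨2, 0⟩, ⟨2, 0⟩, ⟨1, 0⟩, ⟨1, 0⟩, ⟨1, 0⟩, ⟨1, 0⟩, ⟨1, 0⟩, ⟨1, 0⟩, ⟨1, 0⟩, ⟨1, 0⟩, ⟨2, 0⟩, ⟨2, 0⟩, ⟨2, 0⟩, ⟨2, 0⟩, ⟨0, 2⟩, ⟨0, 2⟩, ⟨0, 2⟩, ⟨0, 2⟩, ⟨1, 0⟩, ⟨0, 2⟩, ⟨0, 1⟩, ⟨0, 1⟩, ⟨0, 1⟩, ⟨0, 1⟩, ⟨0, 1⟩, ⟨2, 0⟩],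
  ![⟨1, 0⟩, ⟨2, 0⟩, ⟨1, 0⟩, ⟨0, 2⟩, ⟨0, 1⟩, ⟨2, 0⟩, ⟨1, 0⟩, ⟨1, 0⟩, ⟨0, 2⟩, ⟨0, 1⟩, ⟨2, 0⟩, ⟨1, 0⟩, ⟨0, 2⟩, ⟨0, 1⟩, ⟨2, 0⟩, ⟨1, 0⟩, ⟨0, 2⟩, ⟨0, 1⟩, ⟨2, 0⟩, ⟨1, 0⟩, ⟨2, 0⟩, ⟨0, 2⟩, ⟨0, 1⟩, ⟨1, 0⟩, ⟨2, 0⟩, ⟨0, 2⟩, ⟨0, 1⟩, ⟨1, 0⟩, ⟨0, 2⟩, ⟨0, 1⟩, ⟨2, 0⟩, ⟨1, 0⟩, ⟨2, 0⟩, ⟨0, 2⟩, ⟨0, 1⟩, ⟨1, 0⟩, ⟨2, 0⟩, ⟨0, 2⟩, ⟨0, 1⟩, ⟨1, 0⟩, ⟨0, 2⟩, ⟨0, 1⟩, ⟨2, 0⟩, ⟨1, 0⟩, ⟨2, 0⟩, ⟨0, 2⟩, ⟨0, 1⟩, ⟨1, 0⟩, ⟨2, 0⟩, ⟨0, 2⟩, ⟨0, 1⟩, ⟨1, 0⟩, ⟨2, 0⟩, ⟨0, 2⟩, ⟨0, 1⟩, ⟨2, 0⟩, ⟨0, 1⟩, ⟨1, 0⟩, ⟨2, 0⟩, ⟨0, 2⟩, ⟨0, 1⟩, ⟨0, 2⟩, ⟨1, 0⟩],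
  ![⟨0, 2⟩, ⟨1, 0⟩, ⟨0, 1⟩, ⟨0, 1⟩, ⟨0, 1⟩, ⟨0, 1⟩, ⟨0, 2⟩, ⟨0, 1⟩, ⟨0, 1⟩, ⟨0, 1⟩, ⟨0, 1⟩, ⟨1, 0⟩, ⟨1, 0⟩, ⟨1, 0⟩, ⟨1, 0⟩, ⟨0, 1⟩, ⟨0, 1⟩, ⟨0, 1⟩, ⟨0, 1⟩, ⟨2, 0⟩, ⟨2, 0⟩, ⟨2, 0⟩, ⟨2, 0⟩, ⟨0, 2⟩, ⟨0, 2⟩, ⟨0, 2⟩, ⟨0, 2⟩, ⟨2, 0⟩, ⟨2, 0⟩, ⟨2, 0⟩, ⟨2, 0⟩, ⟨1, 0⟩, ⟨1, 0⟩, ⟨1, 0⟩, ⟨1, 0⟩, ⟨2, 0⟩, ⟨2, 0⟩, ⟨2, 0⟩, ⟨2, 0⟩, ⟨1, 0⟩, ⟨1, 0⟩, ⟨1, 0⟩, ⟨1, 0⟩, ⟨0, 2⟩, ⟨0, 2⟩, ⟨0, 2⟩, ⟨0, 2⟩, ⟨0, 1⟩, ⟨0, 1⟩, ⟨0, 1⟩, ⟨0, 1⟩, ⟨0, 2⟩, ⟨0, 2⟩, ⟨0, 2⟩, ⟨0, 2⟩, ⟨0, 1⟩, ⟨2, 0⟩, ⟨2, 0⟩, ⟨2, 0⟩, ⟨2, 0⟩, ⟨2, 0⟩, ⟨0, 2⟩, ⟨1, 0⟩],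
  ![⟨1, 0⟩, ⟨0, 2⟩, ⟨0, 1⟩, ⟨1, 0⟩, ⟨2, 0⟩, ⟨0, 2⟩, ⟨0, 2⟩, ⟨2, 0⟩, ⟨0, 2⟩, ⟨1, 0⟩, ⟨2, 0⟩, ⟨2, 0⟩, ⟨0, 2⟩, ⟨1, 0⟩, ⟨2, 0⟩, ⟨2, 0⟩, ⟨0, 2⟩, ⟨1, 0⟩, ⟨2, 0⟩, ⟨0, 1⟩, ⟨1, 0⟩, ⟨0, 1⟩, ⟨0, 2⟩, ⟨0, 1⟩, ⟨1, 0⟩, ⟨0, 1⟩, ⟨2, 0⟩, ⟨2, 0⟩, ⟨0, 2⟩, ⟨1, 0⟩, ⟨2, 0⟩, ⟨0, 1⟩, ⟨1, 0⟩, ⟨0, 1⟩, ⟨1, 0⟩, ⟨0, 1⟩, ⟨1, 0⟩, ⟨0, 1⟩, ⟨0, 1⟩, ⟨0, 1⟩, ⟨2, 0⟩, ⟨0, 2⟩, ⟨1, 0⟩, ⟨0, 2⟩, ⟨0, 1⟩, ⟨0, 2⟩, ⟨2, 0⟩, ⟨0, 2⟩, ⟨0, 1⟩, ⟨0, 2⟩, ⟨2, 0⟩, ⟨0, 2⟩, ⟨0, 1⟩, ⟨0, 2⟩, ⟨2, 0⟩, ⟨1, 0⟩, ⟨1, 0⟩, ⟨0, 2⟩, ⟨0, 1⟩, ⟨0, 2⟩, ⟨2, 0⟩, ⟨1, 0⟩, ⟨1, 0⟩],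
  ![⟨0, 1⟩, ⟨0, 1⟩, ⟨0, 2⟩, ⟨2, 0⟩, ⟨0, 2⟩, ⟨1, 0⟩, ⟨1, 0⟩, ⟨2, 0⟩, ⟨0, 2⟩, ⟨0, 1⟩, ⟨0, 2⟩, ⟨0, 2⟩, ⟨2, 0⟩, ⟨0, 2⟩, ⟨0, 1⟩, ⟨1, 0⟩, ⟨0, 1⟩, ⟨1, 0⟩, ⟨0, 1⟩, ⟨2, 0⟩, ⟨0, 2⟩, ⟨0, 2⟩, ⟨1, 0⟩, ⟨0, 2⟩, ⟨2, 0⟩, ⟨0, 1⟩, ⟨0, 1⟩, ⟨1, 0⟩, ⟨0, 1⟩, ⟨2, 0⟩, ⟨2, 0⟩, ⟨0, 1⟩, ⟨0, 2⟩, ⟨1, 0⟩, ⟨2, 0⟩, ⟨0, 2⟩, ⟨0, 1⟩, ⟨0, 1⟩, ⟨2, 0⟩, ⟨1, 0⟩, ⟨1, 0⟩, ⟨0, 2⟩, ⟨2, 0⟩, ⟨0, 2⟩, ⟨0, 1⟩, ⟨1, 0⟩, ⟨0, 2⟩, ⟨0, 1⟩, ⟨0, 2⟩, ⟨1, 0⟩, ⟨2, 0⟩, ⟨1, 0⟩, ⟨1, 0⟩, ⟨2, 0⟩, ⟨0, 1⟩, ⟨1, 0⟩, ⟨1, 0⟩, ⟨0, 2⟩, ⟨2, 0⟩, ⟨0, 1⟩, ⟨0, 1⟩, ⟨0, 2⟩, ⟨2, 0⟩],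
  ![⟨0, 1⟩, ⟨1, 0⟩, ⟨0, 2⟩, ⟨1, 0⟩, ⟨0, 1⟩, ⟨0, 2⟩, ⟨1, 0⟩, ⟨1, 0⟩, ⟨2, 0⟩, ⟨0, 2⟩, ⟨1, 0⟩, ⟨2, 0⟩, ⟨0, 1⟩, ⟨0, 2⟩, ⟨1, 0⟩, ⟨0, 2⟩, ⟨1, 0⟩, ⟨0, 1⟩, ⟨0, 2⟩, ⟨0, 1⟩, ⟨0, 1⟩, ⟨0, 1⟩, ⟨1, 0⟩, ⟨1, 0⟩, ⟨2, 0⟩, ⟨0, 1⟩, ⟨2, 0⟩, ⟨0, 1⟩, ⟨1, 0⟩, ⟨1, 0⟩, ⟨2, 0⟩, ⟨0, 2⟩, ⟨1, 0⟩, ⟨1, 0⟩, ⟨1, 0⟩, ⟨1, 0⟩, ⟨2, 0⟩, ⟨1, 0⟩, ⟨0, 2⟩, ⟨0, 2⟩, ⟨1, 0⟩, ⟨0, 1⟩, ⟨0, 2⟩, ⟨0, 1⟩, ⟨0, 1⟩, ⟨0, 1⟩, ⟨1, 0⟩, ⟨1, 0⟩, ⟨2, 0⟩, ⟨0, 1⟩, ⟨2, 0⟩, ⟨0, 2⟩, ⟨0, 2⟩, ⟨2, 0⟩, ⟨0, 2⟩, ⟨2, 0⟩, ⟨0, 1⟩, ⟨2, 0⟩, ⟨0, 2⟩, ⟨0, 2⟩, ⟨0, 1⟩, ⟨2, 0⟩, ⟨0, 2⟩],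
  ![⟨1, 0⟩, ⟨0, 1⟩, ⟨0, 2⟩, ⟨1, 0⟩, ⟨0, 1⟩, ⟨0, 1⟩, ⟨1, 0⟩, ⟨0, 1⟩, ⟨1, 0⟩, ⟨0, 2⟩, ⟨1, 0⟩, ⟨0, 1⟩, ⟨2, 0⟩, ⟨1, 0⟩, ⟨2, 0⟩, ⟨0, 1⟩, ⟨0, 1⟩, ⟨0, 2⟩, ⟨1, 0⟩, ⟨1, 0⟩, ⟨2, 0⟩, ⟨0, 2⟩, ⟨0, 1⟩, ⟨2, 0⟩, ⟨0, 1⟩, ⟨1, 0⟩, ⟨1, 0⟩, ⟨1, 0⟩, ⟨2, 0⟩, ⟨1, 0⟩, ⟨0, 2⟩, ⟨0, 2⟩, ⟨0, 2⟩, ⟨0, 1⟩, ⟨1, 0⟩, ⟨1, 0⟩, ⟨1, 0⟩, ⟨0, 2⟩, ⟨2, 0⟩, ⟨2, 0⟩, ⟨0, 1⟩, ⟨2, 0⟩, ⟨0, 2⟩, ⟨0, 2⟩, ⟨1, 0⟩, ⟨0, 2⟩, ⟨2, 0⟩, ⟨0, 1⟩, ⟨2, 0⟩, ⟨1, 0⟩, ⟨0, 2⟩, ⟨0, 1⟩, ⟨0, 1⟩, ⟨2, 0⟩, ⟨0, 2⟩, ⟨0, 2⟩, ⟨1, 0⟩, ⟨1, 0⟩, ⟨2, 0⟩, ⟨0, 2⟩, ⟨0, 1⟩, ⟨0, 1⟩, ⟨0, 2⟩]]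

/-- The Frobenius map on the 63 points. -/
def thT : Fin 63 → Fin 63 := ![0, 1, 2, 4, 3, 5, 6, 9, 10, 7, 8, 13, 14, 11, 12, 29, 30, 27, 28, 31, 32, 34, 33, 35, 36, 38, 37, 17, 18, 15, 16, 19, 20, 22, 21, 23, 24, 26, 25, 39, 41, 40, 42, 53, 54, 51, 52, 59, 60, 57, 58, 45, 46, 43, 44, 55, 61, 49, 50, 47, 48, 56, 62]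

/-- The scalars `d` with `frob (rep i) = d • rep (th i)`. -/
def dsT : Fin 63 → GF9 := ![⟨2, 0⟩, ⟨2, 0⟩, ⟨0, 2⟩, ⟨0, 2⟩, ⟨0, 2⟩, ⟨0, 2⟩, ⟨2, 0⟩, ⟨2, 0⟩, ⟨2, 0⟩, ⟨2, 0⟩, ⟨2, 0⟩, ⟨2, 0⟩, ⟨2, 0⟩, ⟨2, 0⟩, ⟨2, 0⟩, ⟨2, 0⟩, ⟨2, 0⟩, ⟨2, 0⟩, ⟨2, 0⟩, ⟨2, 0⟩, ⟨2, 0⟩, ⟨2, 0⟩, ⟨2, 0⟩, ⟨2, 0⟩, ⟨2, 0⟩, ⟨2, 0⟩, ⟨2, 0⟩, ⟨2, 0⟩, ⟨2, 0⟩, ⟨2, 0⟩, ⟨2, 0⟩, ⟨2, 0⟩, ⟨2, 0⟩, ⟨2, 0⟩, ⟨2, 0⟩, ⟨2, 0⟩, ⟨2, 0⟩, ⟨2, 0⟩, ⟨2, 0⟩, ⟨0, 2⟩, ⟨0, 2⟩, ⟨0, 2⟩, ⟨0, 2⟩, ⟨0, 2⟩, ⟨0, 2⟩, ⟨0, 2⟩, ⟨0, 2⟩, ⟨0, 2⟩, ⟨0, 2⟩, ⟨0, 2⟩, ⟨0, 2⟩, ⟨0, 2⟩, ⟨0, 2⟩, ⟨0, 2⟩, ⟨0, 2⟩, ⟨0, 2⟩, ⟨0, 2⟩, ⟨0, 2⟩, ⟨0,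 2⟩, ⟨0, 2⟩, ⟨0, 2⟩, ⟨0, 2⟩, ⟨0, 2⟩]

/-- Class of a norm-one vector (by code). -/
def clsL : List (Fin 63) := [0, 6, 6, 6, 0, 0, 6, 0, 0, 1, 0, 0, 0, 0, 0, 0, 0, 0, 1, 0, 0, 0, 0, 0, 0, 0, 0, 1, 0, 0, 0, 0, 0, 0, 0, 0, 0, 0, 0, 0, 55, 56, 0, 61, 62, 0, 0, 0, 0, 61, 55, 0, 62, 56, 1, 0, 0, 0, 0, 0, 0, 0, 0, 0, 0, 0, 0, 56, 62, 0, 55, 61, 0, 0, 0, 0, 62, 61, 0, 56, 55, 0, 0, 0, 0, 0, 0, 0, 0, 0, 0, 0, 0, 0, 53, 48, 0, 43, 60, 0, 0, 0, 0, 59, 44, 0, 47, 54, 0, 0, 0, 0, 45, 52, 0, 57, 50, 0, 31, 24, 21, 0, 0, 38, 0, 0, 0, 35, 20, 33, 0, 0, 26, 0, 0, 0, 0,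 0, 0, 49, 58, 0, 51, 46, 0, 19, 36, 25, 0, 0, 34, 0, 0, 0, 23, 32, 37, 0, 0, 22, 0, 0, 0, 0, 0, 0, 0, 0, 0, 0, 0, 0, 0, 0, 0, 54, 47, 0, 44, 59, 0, 0, 0, 0, 60, 43, 0, 48, 53, 0, 0, 0, 0, 46, 51, 0, 58, 49, 0, 32, 23, 22, 0, 0, 37, 0, 0, 0, 36, 19, 34, 0, 0, 25, 0, 0, 0, 0, 0, 0, 50, 57, 0, 52, 45, 0, 20, 35, 26, 0, 0, 33, 0, 0, 0, 24, 31, 38, 0, 0, 21, 0, 0, 0, 0, 0, 0, 0, 0, 0, 0, 0, 0, 0, 0, 0, 51, 49, 0, 46, 58, 0, 0, 0, 0, 57, 45, 0, 50, 52, 0, 0, 0, 0, 43, 53, 0, 60, 48, 0, 34, 25, 19, 0, 0, 36, 0, 0, 0, 38, 21, 31, 0, 0, 24, 0, 0, 0, 0, 0, 0, 47,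 59, 0, 54, 44, 0, 22, 37, 23, 0, 0, 32, 0, 0, 0, 26, 33, 35, 0, 0, 20, 0, 0, 0, 0, 0, 0, 39, 40, 0, 41, 42, 0, 9, 12, 15, 0, 0, 30, 0, 0, 0, 13, 8, 27, 0, 0, 18, 0, 0, 0, 29, 16, 7, 0, 0, 14, 0, 0, 2, 0, 0, 0, 0, 0, 0, 0, 0, 3, 0, 0, 0, 0, 0, 0, 0, 0, 0, 17, 28, 11, 0, 0, 10, 0, 0, 4, 0, 0, 0, 0, 0, 0, 0, 0, 5, 0, 0, 0, 0, 0, 0, 0, 0, 0, 0, 0, 0, 41, 39, 0, 42, 40, 0, 10, 11, 17, 0, 0, 28, 0, 0, 0, 14, 7, 29, 0, 0, 16, 0, 0, 0, 30, 15, 9, 0, 0, 12, 0, 0, 4, 0, 0, 0, 0, 0, 0, 0, 0, 2, 0, 0, 0, 0, 0, 0, 0, 0, 0, 18, 27, 13, 0, 0, 8, 0, 0, 5, 0, 0, 0, 0,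 0, 0, 0, 0, 3, 0, 0, 0, 0, 0, 0, 0, 0, 0, 0, 0, 0, 0, 0, 0, 0, 0, 0, 0, 0, 0, 52, 50, 0, 45, 57, 0, 0, 0, 0, 58, 46, 0, 49, 51, 0, 0, 0, 0, 44, 54, 0, 59, 47, 0, 33, 26, 20, 0, 0, 35, 0, 0, 0, 37, 22, 32, 0, 0, 23, 0, 0, 0, 0, 0, 0, 48, 60, 0, 53, 43, 0, 21, 38, 24, 0, 0, 31, 0, 0, 0, 25, 34, 36, 0, 0, 19, 0, 0, 0, 0, 0, 0, 40, 42, 0, 39, 41, 0, 7, 14, 16, 0, 0, 29, 0, 0, 0, 11, 10, 28, 0, 0, 17, 0, 0, 0, 27, 18, 8, 0, 0, 13, 0, 0, 3, 0, 0, 0, 0, 0, 0, 0, 0, 5, 0, 0, 0, 0, 0, 0, 0, 0, 0, 15, 30, 12, 0, 0, 9, 0, 0, 2, 0, 0, 0, 0, 0, 0, 0, 0, 4, 0, 0, 0,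 0, 0, 0, 0, 0, 0, 0, 0, 0, 42, 41, 0, 40, 39, 0, 8, 13, 18, 0, 0, 27, 0, 0, 0, 12, 9, 30, 0, 0, 15, 0, 0, 0, 28, 17, 10, 0, 0, 11, 0, 0, 5, 0, 0, 0, 0, 0, 0, 0, 0, 4, 0, 0, 0, 0, 0, 0, 0, 0, 0, 16, 29, 14, 0, 0, 7, 0, 0, 3, 0, 0, 0, 0, 0, 0, 0, 0, 2, 0, 0, 0, 0, 0, 0, 0, 0]

/-- Scalar of a norm-one vector (by code). -/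
def scL : List GF9 := [⟨0, 0⟩, ⟨0, 2⟩, ⟨0, 1⟩, ⟨1, 0⟩, ⟨0, 0⟩, ⟨0, 0⟩, ⟨2, 0⟩, ⟨0, 0⟩, ⟨0, 0⟩, ⟨0, 2⟩, ⟨0, 0⟩, ⟨0, 0⟩, ⟨0, 0⟩, ⟨0, 0⟩, ⟨0, 0⟩, ⟨0, 0⟩, ⟨0, 0⟩, ⟨0, 0⟩, ⟨0, 1⟩, ⟨0, 0⟩, ⟨0, 0⟩, ⟨0, 0⟩, ⟨0, 0⟩, ⟨0, 0⟩, ⟨0, 0⟩, ⟨0, 0⟩, ⟨0, 0⟩, ⟨1, 0⟩, ⟨0, 0⟩, ⟨0, 0⟩, ⟨0, 0⟩, ⟨0, 0⟩, ⟨0, 0⟩, ⟨0, 0⟩, ⟨0, 0⟩, ⟨0, 0⟩, ⟨0, 0⟩, ⟨0, 0⟩, ⟨0, 0⟩, ⟨0, 0⟩, ⟨1, 0⟩, ⟨0, 1⟩, ⟨0, 0⟩, ⟨0, 2⟩, ⟨2, 0⟩, ⟨0, 0⟩, ⟨0, 0⟩, ⟨0, 0⟩, ⟨0, 0⟩, ⟨1, 0⟩, ⟨0, 1⟩, ⟨0, 0⟩, ⟨0, 2⟩, ⟨2, 0⟩, ⟨2, 0⟩, ⟨0, 0⟩, ⟨0, 0⟩, ⟨0, 0⟩, ⟨0, 0⟩, ⟨0, 0⟩, ⟨0, 0⟩, ⟨0, 0⟩, ⟨0, 0⟩, ⟨0, 0⟩, ⟨0, 0⟩, ⟨0, 0⟩, ⟨0, 0⟩,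 ⟨1, 0⟩, ⟨0, 1⟩, ⟨0, 0⟩, ⟨0, 2⟩, ⟨2, 0⟩, ⟨0, 0⟩, ⟨0, 0⟩, ⟨0, 0⟩, ⟨0, 0⟩, ⟨1, 0⟩, ⟨0, 1⟩, ⟨0, 0⟩, ⟨0, 2⟩, ⟨2, 0⟩, ⟨0, 2⟩, ⟨0, 0⟩, ⟨0, 0⟩, ⟨0, 0⟩, ⟨0, 0⟩, ⟨0, 0⟩, ⟨0, 0⟩, ⟨0, 0⟩, ⟨0, 0⟩, ⟨0, 0⟩, ⟨0, 0⟩, ⟨0, 0⟩, ⟨0, 0⟩, ⟨1, 0⟩, ⟨0, 1⟩, ⟨0, 0⟩, ⟨0, 2⟩, ⟨2, 0⟩, ⟨0, 0⟩, ⟨0, 0⟩, ⟨0, 0⟩, ⟨0, 0⟩, ⟨1, 0⟩, ⟨0, 1⟩, ⟨0, 0⟩, ⟨0, 2⟩, ⟨2, 0⟩, ⟨0, 0⟩, ⟨0, 0⟩, ⟨0, 0⟩, ⟨0, 0⟩, ⟨1, 0⟩, ⟨0, 1⟩, ⟨0, 0⟩, ⟨0, 2⟩, ⟨2, 0⟩, ⟨0, 0⟩, ⟨0, 2⟩, ⟨0, 1⟩, ⟨1, 0⟩, ⟨0, 0⟩, ⟨0, 0⟩, ⟨2, 0⟩, ⟨0, 0⟩, ⟨0, 0⟩, ⟨0, 0⟩, ⟨0, 2⟩, ⟨0, 1⟩, ⟨1, 0⟩, ⟨0, 0⟩, ⟨0, 0⟩, ⟨2, 0⟩, ⟨0, 0⟩, ⟨0, 0⟩, ⟨0, 0⟩, ⟨0, 0⟩,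 ⟨0, 0⟩, ⟨0, 0⟩, ⟨1, 0⟩, ⟨0, 1⟩, ⟨0, 0⟩, ⟨0, 2⟩, ⟨2, 0⟩, ⟨0, 0⟩, ⟨0, 2⟩, ⟨0, 1⟩, ⟨1, 0⟩, ⟨0, 0⟩, ⟨0, 0⟩, ⟨2, 0⟩, ⟨0, 0⟩, ⟨0, 0⟩, ⟨0, 0⟩, ⟨0, 2⟩, ⟨0, 1⟩, ⟨1, 0⟩, ⟨0, 0⟩, ⟨0, 0⟩, ⟨2, 0⟩, ⟨0, 0⟩, ⟨0, 0⟩, ⟨0, 1⟩, ⟨0, 0⟩, ⟨0, 0⟩, ⟨0, 0⟩, ⟨0, 0⟩, ⟨0, 0⟩, ⟨0, 0⟩, ⟨0, 0⟩, ⟨0, 0⟩, ⟨0, 0⟩, ⟨0, 0⟩, ⟨0, 0⟩, ⟨0, 0⟩, ⟨1, 0⟩, ⟨0, 1⟩, ⟨0, 0⟩, ⟨0, 2⟩, ⟨2, 0⟩, ⟨0, 0⟩, ⟨0, 0⟩, ⟨0, 0⟩, ⟨0, 0⟩, ⟨1, 0⟩, ⟨0, 1⟩, ⟨0, 0⟩, ⟨0, 2⟩, ⟨2, 0⟩, ⟨0, 0⟩, ⟨0, 0⟩, ⟨0, 0⟩, ⟨0, 0⟩, ⟨1, 0⟩, ⟨0, 1⟩, ⟨0, 0⟩, ⟨0, 2⟩, ⟨2, 0⟩, ⟨0, 0⟩, ⟨0, 2⟩, ⟨0, 1⟩, ⟨1, 0⟩, ⟨0, 0⟩, ⟨0, 0⟩, ⟨2, 0⟩, ⟨0, 0⟩, ⟨0, 0⟩,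 ⟨0, 0⟩, ⟨0, 2⟩, ⟨0, 1⟩, ⟨1, 0⟩, ⟨0, 0⟩, ⟨0, 0⟩, ⟨2, 0⟩, ⟨0, 0⟩, ⟨0, 0⟩, ⟨0, 0⟩, ⟨0, 0⟩, ⟨0, 0⟩, ⟨0, 0⟩, ⟨1, 0⟩, ⟨0, 1⟩, ⟨0, 0⟩, ⟨0, 2⟩, ⟨2, 0⟩, ⟨0, 0⟩, ⟨0, 2⟩, ⟨0, 1⟩, ⟨1, 0⟩, ⟨0, 0⟩, ⟨0, 0⟩, ⟨2, 0⟩, ⟨0, 0⟩, ⟨0, 0⟩, ⟨0, 0⟩, ⟨0, 2⟩, ⟨0, 1⟩, ⟨1, 0⟩, ⟨0, 0⟩, ⟨0, 0⟩, ⟨2, 0⟩, ⟨0, 0⟩, ⟨0, 0⟩, ⟨1, 0⟩, ⟨0, 0⟩, ⟨0, 0⟩, ⟨0, 0⟩, ⟨0, 0⟩, ⟨0, 0⟩, ⟨0, 0⟩, ⟨0, 0⟩, ⟨0, 0⟩, ⟨0, 0⟩, ⟨0, 0⟩, ⟨0, 0⟩, ⟨0, 0⟩, ⟨1, 0⟩, ⟨0, 1⟩, ⟨0, 0⟩, ⟨0, 2⟩, ⟨2, 0⟩, ⟨0, 0⟩, ⟨0, 0⟩, ⟨0, 0⟩, ⟨0, 0⟩, ⟨1, 0⟩, ⟨0, 1⟩, ⟨0, 0⟩, ⟨0, 2⟩, ⟨2, 0⟩, ⟨0, 0⟩, ⟨0, 0⟩, ⟨0, 0⟩, ⟨0, 0⟩, ⟨1, 0⟩, ⟨0, 1⟩, ⟨0, 0⟩,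 ⟨0, 2⟩, ⟨2, 0⟩, ⟨0, 0⟩, ⟨0, 2⟩, ⟨0, 1⟩, ⟨1, 0⟩, ⟨0, 0⟩, ⟨0, 0⟩, ⟨2, 0⟩, ⟨0, 0⟩, ⟨0, 0⟩, ⟨0, 0⟩, ⟨0, 2⟩, ⟨0, 1⟩, ⟨1, 0⟩, ⟨0, 0⟩, ⟨0, 0⟩, ⟨2, 0⟩, ⟨0, 0⟩, ⟨0, 0⟩, ⟨0, 0⟩, ⟨0, 0⟩, ⟨0, 0⟩, ⟨0, 0⟩, ⟨1, 0⟩, ⟨0, 1⟩, ⟨0, 0⟩, ⟨0, 2⟩, ⟨2, 0⟩, ⟨0, 0⟩, ⟨0, 2⟩, ⟨0, 1⟩, ⟨1, 0⟩, ⟨0, 0⟩, ⟨0, 0⟩, ⟨2, 0⟩, ⟨0, 0⟩, ⟨0, 0⟩, ⟨0, 0⟩, ⟨0, 2⟩, ⟨0, 1⟩, ⟨1, 0⟩, ⟨0, 0⟩, ⟨0, 0⟩, ⟨2, 0⟩, ⟨0, 0⟩, ⟨0, 0⟩, ⟨0, 0⟩, ⟨0, 0⟩, ⟨0, 0⟩, ⟨0, 0⟩, ⟨1, 0⟩, ⟨0, 1⟩, ⟨0, 0⟩, ⟨0, 2⟩, ⟨2, 0⟩, ⟨0, 0⟩, ⟨0, 2⟩, ⟨0, 1⟩, ⟨1, 0⟩, ⟨0, 0⟩, ⟨0, 0⟩, ⟨2, 0⟩, ⟨0, 0⟩, ⟨0, 0⟩, ⟨0, 0⟩, ⟨0, 2⟩, ⟨0, 1⟩, ⟨1, 0⟩, ⟨0, 0⟩,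 ⟨0, 0⟩, ⟨2, 0⟩, ⟨0, 0⟩, ⟨0, 0⟩, ⟨0, 0⟩, ⟨0, 2⟩, ⟨0, 1⟩, ⟨1, 0⟩, ⟨0, 0⟩, ⟨0, 0⟩, ⟨2, 0⟩, ⟨0, 0⟩, ⟨0, 0⟩, ⟨1, 0⟩, ⟨0, 0⟩, ⟨0, 0⟩, ⟨0, 0⟩, ⟨0, 0⟩, ⟨0, 0⟩, ⟨0, 0⟩, ⟨0, 0⟩, ⟨0, 0⟩, ⟨0, 1⟩, ⟨0, 0⟩, ⟨0, 0⟩, ⟨0, 0⟩, ⟨0, 0⟩, ⟨0, 0⟩, ⟨0, 0⟩, ⟨0, 0⟩, ⟨0, 0⟩, ⟨0, 0⟩, ⟨0, 2⟩, ⟨0, 1⟩, ⟨1, 0⟩, ⟨0, 0⟩, ⟨0, 0⟩, ⟨2, 0⟩, ⟨0, 0⟩, ⟨0, 0⟩, ⟨0, 2⟩, ⟨0, 0⟩, ⟨0, 0⟩, ⟨0, 0⟩, ⟨0, 0⟩, ⟨0, 0⟩, ⟨0, 0⟩, ⟨0, 0⟩, ⟨0, 0⟩, ⟨2, 0⟩, ⟨0, 0⟩, ⟨0, 0⟩, ⟨0, 0⟩, ⟨0, 0⟩, ⟨0, 0⟩, ⟨0, 0⟩, ⟨0, 0⟩, ⟨0, 0⟩, ⟨0, 0⟩, ⟨0, 0⟩, ⟨0, 0⟩, ⟨0, 0⟩, ⟨1, 0⟩, ⟨0, 1⟩, ⟨0, 0⟩, ⟨0, 2⟩, ⟨2, 0⟩, ⟨0, 0⟩, ⟨0, 2⟩, ⟨0, 1⟩,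 ⟨1, 0⟩, ⟨0, 0⟩, ⟨0, 0⟩, ⟨2, 0⟩, ⟨0, 0⟩, ⟨0, 0⟩, ⟨0, 0⟩, ⟨0, 2⟩, ⟨0, 1⟩, ⟨1, 0⟩, ⟨0, 0⟩, ⟨0, 0⟩, ⟨2, 0⟩, ⟨0, 0⟩, ⟨0, 0⟩, ⟨0, 0⟩, ⟨0, 2⟩, ⟨0, 1⟩, ⟨1, 0⟩, ⟨0, 0⟩, ⟨0, 0⟩, ⟨2, 0⟩, ⟨0, 0⟩, ⟨0, 0⟩, ⟨1, 0⟩, ⟨0, 0⟩, ⟨0, 0⟩, ⟨0, 0⟩, ⟨0, 0⟩, ⟨0, 0⟩, ⟨0, 0⟩, ⟨0, 0⟩, ⟨0, 0⟩, ⟨0, 1⟩, ⟨0, 0⟩, ⟨0, 0⟩, ⟨0, 0⟩, ⟨0, 0⟩, ⟨0, 0⟩, ⟨0, 0⟩, ⟨0, 0⟩, ⟨0, 0⟩, ⟨0, 0⟩, ⟨0, 2⟩, ⟨0, 1⟩, ⟨1, 0⟩, ⟨0, 0⟩, ⟨0, 0⟩, ⟨2, 0⟩, ⟨0, 0⟩, ⟨0, 0⟩, ⟨0, 2⟩, ⟨0, 0⟩, ⟨0, 0⟩, ⟨0, 0⟩, ⟨0, 0⟩, ⟨0, 0⟩, ⟨0, 0⟩, ⟨0, 0⟩, ⟨0, 0⟩, ⟨2, 0⟩, ⟨0, 0⟩, ⟨0, 0⟩, ⟨0, 0⟩, ⟨0, 0⟩, ⟨0, 0⟩, ⟨0, 0⟩, ⟨0, 0⟩, ⟨0, 0⟩, ⟨2, 0⟩,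 ⟨0, 0⟩, ⟨0, 0⟩, ⟨0, 0⟩, ⟨0, 0⟩, ⟨0, 0⟩, ⟨0, 0⟩, ⟨0, 0⟩, ⟨0, 0⟩, ⟨0, 0⟩, ⟨0, 0⟩, ⟨0, 0⟩, ⟨0, 0⟩, ⟨1, 0⟩, ⟨0, 1⟩, ⟨0, 0⟩, ⟨0, 2⟩, ⟨2, 0⟩, ⟨0, 0⟩, ⟨0, 0⟩, ⟨0, 0⟩, ⟨0, 0⟩, ⟨1, 0⟩, ⟨0, 1⟩, ⟨0, 0⟩, ⟨0, 2⟩, ⟨2, 0⟩, ⟨0, 0⟩, ⟨0, 0⟩, ⟨0, 0⟩, ⟨0, 0⟩, ⟨1, 0⟩, ⟨0, 1⟩, ⟨0, 0⟩, ⟨0, 2⟩, ⟨2, 0⟩, ⟨0, 0⟩, ⟨0, 2⟩, ⟨0, 1⟩, ⟨1, 0⟩, ⟨0, 0⟩, ⟨0, 0⟩, ⟨2, 0⟩, ⟨0, 0⟩, ⟨0, 0⟩, ⟨0, 0⟩, ⟨0, 2⟩, ⟨0, 1⟩, ⟨1, 0⟩, ⟨0, 0⟩, ⟨0, 0⟩, ⟨2, 0⟩, ⟨0, 0⟩, ⟨0, 0⟩, ⟨0, 0⟩, ⟨0, 0⟩, ⟨0, 0⟩, ⟨0, 0⟩, ⟨1, 0⟩, ⟨0, 1⟩, ⟨0, 0⟩, ⟨0, 2⟩, ⟨2, 0⟩, ⟨0, 0⟩, ⟨0, 2⟩, ⟨0, 1⟩, ⟨1, 0⟩, ⟨0, 0⟩, ⟨0, 0⟩, ⟨2, 0⟩, ⟨0, 0⟩,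 ⟨0, 0⟩, ⟨0, 0⟩, ⟨0, 2⟩, ⟨0, 1⟩, ⟨1, 0⟩, ⟨0, 0⟩, ⟨0, 0⟩, ⟨2, 0⟩, ⟨0, 0⟩, ⟨0, 0⟩, ⟨0, 0⟩, ⟨0, 0⟩, ⟨0, 0⟩, ⟨0, 0⟩, ⟨1, 0⟩, ⟨0, 1⟩, ⟨0, 0⟩, ⟨0, 2⟩, ⟨2, 0⟩, ⟨0, 0⟩, ⟨0, 2⟩, ⟨0, 1⟩, ⟨1, 0⟩, ⟨0, 0⟩, ⟨0, 0⟩, ⟨2, 0⟩, ⟨0, 0⟩, ⟨0, 0⟩, ⟨0, 0⟩, ⟨0, 2⟩, ⟨0, 1⟩, ⟨1, 0⟩, ⟨0, 0⟩, ⟨0, 0⟩, ⟨2, 0⟩, ⟨0, 0⟩, ⟨0, 0⟩, ⟨0, 0⟩, ⟨0, 2⟩, ⟨0, 1⟩, ⟨1, 0⟩, ⟨0, 0⟩, ⟨0, 0⟩, ⟨2, 0⟩, ⟨0, 0⟩, ⟨0, 0⟩, ⟨1, 0⟩, ⟨0, 0⟩, ⟨0, 0⟩, ⟨0, 0⟩, ⟨0, 0⟩, ⟨0, 0⟩, ⟨0, 0⟩, ⟨0, 0⟩, ⟨0, 0⟩, ⟨0, 1⟩, ⟨0, 0⟩, ⟨0, 0⟩, ⟨0, 0⟩, ⟨0, 0⟩, ⟨0, 0⟩, ⟨0, 0⟩, ⟨0, 0⟩, ⟨0, 0⟩, ⟨0, 0⟩, ⟨0, 2⟩, ⟨0, 1⟩, ⟨1, 0⟩, ⟨0, 0⟩, ⟨0, 0⟩,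 ⟨2, 0⟩, ⟨0, 0⟩, ⟨0, 0⟩, ⟨0, 2⟩, ⟨0, 0⟩, ⟨0, 0⟩, ⟨0, 0⟩, ⟨0, 0⟩, ⟨0, 0⟩, ⟨0, 0⟩, ⟨0, 0⟩, ⟨0, 0⟩, ⟨2, 0⟩, ⟨0, 0⟩, ⟨0, 0⟩, ⟨0, 0⟩, ⟨0, 0⟩, ⟨0, 0⟩, ⟨0, 0⟩, ⟨0, 0⟩, ⟨0, 0⟩, ⟨0, 0⟩, ⟨0, 0⟩, ⟨0, 0⟩, ⟨0, 0⟩, ⟨1, 0⟩, ⟨0, 1⟩, ⟨0, 0⟩, ⟨0, 2⟩, ⟨2, 0⟩, ⟨0, 0⟩, ⟨0, 2⟩, ⟨0, 1⟩, ⟨1, 0⟩, ⟨0, 0⟩, ⟨0, 0⟩, ⟨2, 0⟩, ⟨0, 0⟩, ⟨0, 0⟩, ⟨0, 0⟩, ⟨0, 2⟩, ⟨0, 1⟩, ⟨1, 0⟩, ⟨0, 0⟩, ⟨0, 0⟩, ⟨2, 0⟩, ⟨0, 0⟩, ⟨0, 0⟩, ⟨0, 0⟩, ⟨0, 2⟩, ⟨0, 1⟩, ⟨1, 0⟩, ⟨0, 0⟩, ⟨0, 0⟩, ⟨2, 0⟩, ⟨0, 0⟩, ⟨0, 0⟩, ⟨1, 0⟩, ⟨0, 0⟩, ⟨0, 0⟩, ⟨0, 0⟩, ⟨0, 0⟩, ⟨0, 0⟩, ⟨0, 0⟩, ⟨0, 0⟩, ⟨0, 0⟩, ⟨0, 1⟩, ⟨0, 0⟩, ⟨0, 0⟩, ⟨0, 0⟩,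 ⟨0, 0⟩, ⟨0, 0⟩, ⟨0, 0⟩, ⟨0, 0⟩, ⟨0, 0⟩, ⟨0, 0⟩, ⟨0, 2⟩, ⟨0, 1⟩, ⟨1, 0⟩, ⟨0, 0⟩, ⟨0, 0⟩, ⟨2, 0⟩, ⟨0, 0⟩, ⟨0, 0⟩, ⟨0, 2⟩, ⟨0, 0⟩, ⟨0, 0⟩, ⟨0, 0⟩, ⟨0, 0⟩, ⟨0, 0⟩, ⟨0, 0⟩, ⟨0, 0⟩, ⟨0, 0⟩, ⟨2, 0⟩, ⟨0, 0⟩, ⟨0, 0⟩, ⟨0, 0⟩, ⟨0, 0⟩, ⟨0, 0⟩, ⟨0, 0⟩, ⟨0, 0⟩, ⟨0, 0⟩]

/-- Each basis vector as a sum of some of the 63 vectors. -/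
def spanT : Fin 14 → List (Fin 63) := ![
  [0, 1, 2, 3, 7, 8, 15, 16],
  [2, 3, 8, 11, 15, 16],
  [0],
  [1],
  [0, 7, 8, 11, 12],
  [0, 1, 7, 9, 11, 12, 16, 17],
  [0, 1, 2, 3, 8, 9, 16, 17],
  [0, 8, 9],
  [1, 3, 9, 11, 15, 16],
  [0, 1, 7, 8, 16, 17],
  [2, 7, 12, 15, 17, 19, 23],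
  [0, 9, 11, 12, 16, 19, 23],
  [0, 8, 9, 11],
  [1, 2, 7, 8, 9, 11, 19]]

end Cfsg.Agent.Lib.Helper9.G2U
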