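import Mathlib
import Cfsg.Prelude.Def_ChevG2
import Cfsg.Agent.Lib.Helper9.G2UA
import Cfsg.Agent.Lib.Helper9.G2UB

/-!
`G₂(2)` acts faithfully on 63 vectors of its 14-dimensional module (S1057).
-/

set_option autoImplicit false

namespace Cfsg.Agent.Lib.Helper9.G2U

open Cfsg.Lie

/-- The index type of the 14-dimensional module. -/
abbrev Idx : Type := chevG2.Idx

/-- Flattening of the index. -/
def fl : Idx → Fin 14 := fun x =>
  match x with
  | Sum.inl i => ⟨i.val, lt_of_lt_of_le i.isLt (by decide)⟩
  | Sum.inr r => ⟨2 + r.val, lt_of_lt_of_le (Nat.add_lt_add_left r.isLt 2) (by decide)⟩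

/-- Root elements as matrices. -/
def XM (r : Fin 12) : Matrix Idx Idx (ZMod 2) := fun a b => XT r (fl a) (fl b)

/-- The 63 vectors. -/
def vec (i : Fin 63) : Idx → ZMod 2 := fun a => vecT i (fl a)

/-- Entry of a matrix (to help instance search). -/
def ent (M : Matrix Idx Idx (ZMod 2)) (a b : Idx) : ZMod 2 := M a b

set_option maxRecDepth 100000 in
theorem xMat_one' : ∀ (r : Fin 12) (a b : Idx),
    ent (chevG2.xMat (ZMod 2) r 1) a b = XT r (fl a) (fl b) := by
  decide +kernel

theorem xMat_one (r : Fin 12) : chevG2.xMat (ZMod 2) r 1 = XM r := by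
  ext a b; exact xMat_one' r a b

set_option maxRecDepth 100000 in
theorem xMat_zero' : ∀ (r : Fin 12) (a b : Idx),
    ent (chevG2.xMat (ZMod 2) r 0) a b = if a = b then 1 else 0 := by
  decide +kernel

theorem xMat_zero (r : Fin 12) : chevG2.xMat (ZMod 2) r 0 = 1 := by
  ext a b; rw [Matrix.one_apply]; exact xMat_zero' r a b

set_option maxRecDepth 100000 in
theorem X_vec : ∀ (r : Fin 12) (i : Fin 63), (XM r).mulVec (vec i) = vec (pgT r i) := by
  decide +kernel

set_option maxRecDepth 100000 in
theorem vec_inj : ∀ i j : Fin 63, vec i = vec j → i = j := by decide +kernel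

set_option maxRecDepth 100000 in
theorem pg_left : ∀ (r : Fin 12) (i : Fin 63), pgI r (pgT r i) = i := by decide +kernel

set_option maxRecDepth 100000 in
theorem pg_right : ∀ (r : Fin 12) (i : Fin 63), pgT r (pgI r i) = i := by decide +kernel

set_option maxRecDepth 100000 in
theorem span_cert : ∀ a : Idx, ((spanT (fl a)).map vec).sum = Pi.single a 1 := by decide +kernel

end Cfsg.Agent.Lib.Helper9.G2U
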