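import Mathlib
import Cfsg.Prelude.Def_ChevG2
import Cfsg.Agent.Lib.Helper9.G2UC

/-!
The permutation representation `rho` of `G₂(2)` on 63 points and its faithfulness (S1057).
-/

set_option autoImplicit false

namespace Cfsg.Agent.Lib.Helper9.G2U

open Cfsg.Lie

/-- The generator permutations. -/
def pgPerm (r : Fin 12) : Equiv.Perm (Fin 63) := ⟨pgT r, pgI r, pg_left r, pg_right r⟩

/-- The action of `GL₁₄(2)` on vectors. -/
def actG (g : GL Idx (ZMod 2)) (v : Idx → ZMod 2) : Idx → ZMod 2 :=
  (g : Matrix Idx Idx (ZMod 2)).mulVec v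

theorem dataG : ActData actG Eq vec where
  act_one := fun x => by simp [actG]
  act_mul := fun g h x => by simp [actG, Matrix.mulVec_mulVec]
  rel_refl := fun _ => rfl
  rel_symm := fun _ _ h => h.symm
  rel_trans := fun _ _ _ h h' => h.trans h'
  rel_act := fun _ _ _ h => by rw [h]
  sep := vec_inj

/-- `G₂(2)`. -/
abbrev G0 : Subgroup (GL Idx (ZMod 2)) := chevG2.group (ZMod 2)

theorem zmod2_cases' (t : ZMod 2) : t = 0 ∨ t = 1 := by
  revert t; decide

theorem G0_le : G0 ≤ dataG.stabP := by
  unfold G0 ChevalleyDatum.group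
  rw [Subgroup.closure_le]
  rintro g ⟨r, t, hg⟩
  rcases zmod2_cases' t with rfl | rfl
  · have h1 : g = 1 := Units.ext (by rw [hg]; exact xMat_zero r)
    rw [h1]
    exact Subgroup.one_mem _
  · refine ⟨pgPerm r, fun i => ?_⟩
    show (g : Matrix Idx Idx (ZMod 2)).mulVec (vec i) = vec (pgT r i)
    rw [hg, xMat_one r]
    exact X_vec r i

/-- The permutation representation of `G₂(2)` on the 63 vectors. -/
noncomputable def rho : ↥G0 →* Equiv.Perm (Fin 63) :=
  dataG.permHom.comp (Subgroup.inclusion G0_le)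

theorem rho_spec (g : ↥G0) (i : Fin 63) :
    (g.1 : Matrix Idx Idx (ZMod 2)).mulVec (vec i) = vec (rho g i) :=
  dataG.permHom_spec (Subgroup.inclusion G0_le g) i

theorem rho_gen (r : Fin 12) (g : ↥G0)
    (hg : (g.1 : Matrix Idx Idx (ZMod 2)) = chevG2.xMat (ZMod 2) r 1) : rho g = pgPerm r := by
  refine dataG.permHom_eq (Subgroup.inclusion G0_le g) (fun i => ?_)
  show (g.1 : Matrix Idx Idx (ZMod 2)).mulVec (vec i) = vec (pgT r i)
  rw [hg, xMat_one r]
  exact X_vec r i

theorem mulVec_list_sum (M : Matrix Idx Idx (ZMod 2)) (l : List (Idx → ZMod 2)) :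
    M.mulVec l.sum = (l.map M.mulVec).sum := by
  induction l with
  | nil => simp
  | cons a l ih => rw [List.sum_cons, Matrix.mulVec_add, ih, List.map_cons, List.sum_cons]

theorem rho_injective : Function.Injective rho := by
  rw [injective_iff_map_eq_one]
  intro g hg
  have hfix : ∀ i, (g.1 : Matrix Idx Idx (ZMod 2)).mulVec (vec i) = vec i := by
    intro i
    have := rho_spec g i
    rw [hg] at this
    exact this
  have hM : (g.1 : Matrix Idx Idx (ZMod 2)) = 1 := by
    ext a b
    have h1 : (g.1 : Matrix Idx Idx (ZMod 2)).mulVec (Pi.single b 1) = Pi.single b 1 := by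
      rw [← span_cert b, mulVec_list_sum, List.map_map]
      congr 1
      refine List.map_congr_left fun i _ => ?_
      exact hfix i
    have h2 := congrFun h1 a
    rw [Matrix.mulVec_single_one] at h2
    rw [Matrix.one_apply]
    simpa [Pi.single_apply, eq_comm] using h2
  apply Subtype.ext
  exact Units.ext hM

end Cfsg.Agent.Lib.Helper9.G2U
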