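import Cfsg.Agent.Lib.Helper9.U33C
import Cfsg.Prelude.Def_Classical

set_option autoImplicit false

/-! Transfer of the model subgroup to the unitary group over any field with nine elements. -/

namespace Cfsg.Agent.Lib.Helper9.U33

open Cfsg Matrix

theorem GF9.mul_re (x y : GF9) : (x * y).re = x.re * y.re - x.im * y.im := rfl
theorem GF9.mul_im (x y : GF9) : (x * y).im = x.re * y.im + x.im * y.re := rfl
theorem GF9.add_re (x y : GF9) : (x + y).re = x.re + y.re := rfl
theorem GF9.add_im (x y : GF9) : (x + y).im = x.im + y.im := rfl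
theorem GF9.one_re : (1 : GF9).re = 1 := rfl
theorem GF9.one_im : (1 : GF9).im = 0 := rfl
theorem GF9.zero_re : (0 : GF9).re = 0 := rfl
theorem GF9.zero_im : (0 : GF9).im = 0 := rfl

section field

variable {F : Type*} [Field F]

/-- the embedding of the model field -/
def toF [CharP F 3] (j : F) (hj : j * j = -1) : GF9 →+* F where
  toFun x := ZMod.castHom (dvd_refl 3) F x.re + ZMod.castHom (dvd_refl 3) F x.im * j
  map_one' := by
    rw [GF9.one_re, GF9.one_im, map_one, map_zero, zero_mul, add_zero]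
  map_mul' x y := by
    rw [GF9.mul_re, GF9.mul_im, map_sub, map_add, map_mul, map_mul, map_mul, map_mul]
    linear_combination (-(ZMod.castHom (dvd_refl 3) F x.im * ZMod.castHom (dvd_refl 3) F y.im)) * hj
  map_zero' := by
    rw [GF9.zero_re, GF9.zero_im, map_zero, zero_mul, add_zero]
  map_add' x y := by
    rw [GF9.add_re, GF9.add_im, map_add, map_add]
    ring

/-- the entrywise cube -/
def frob {R : Type*} [CommRing R] (a : Matrix (Fin 3) (Fin 3) R) : Matrix (Fin 3) (Fin 3) R :=
  a.map (fun x => x ^ 3)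

theorem frob_map {R S : Type*} [CommRing R] [CommRing S] (f : R →+* S)
    (a : Matrix (Fin 3) (Fin 3) R) : frob (a.map f) = (frob a).map f := by
  ext i j
  simp [frob, Matrix.map_apply]

theorem unitary_map {R S : Type*} [CommRing R] [CommRing S] (f : R →+* S)
    (a : Matrix (Fin 3) (Fin 3) R) (h : aᵀ * frob a = 1) :
    (a.map f)ᵀ * frob (a.map f) = 1 := by
  rw [frob_map, ← Matrix.transpose_map, ← Matrix.map_mul, h, Matrix.map_one f (map_zero f) (map_one f)]

theorem herm_of_unitary [CharP F 3] (N : Matrix (Fin 3) (Fin 3) F) (h : Nᵀ * frob N = 1)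
    (u v : Fin 3 → F) : hermForm 3 F 3 (N *ᵥ u) (N *ᵥ v) = hermForm 3 F 3 u v := by
  haveI : Fact (Nat.Prime 3) := ⟨by norm_num⟩
  haveI : ExpChar F 3 := ExpChar.prime (by norm_num)
  have h1 : (fun i => (N *ᵥ v) i ^ 3) = frob N *ᵥ (fun k => v k ^ 3) := by
    funext i
    simp only [Matrix.mulVec, dotProduct, frob, Matrix.map_apply]
    rw [sum_pow_char]
    refine Finset.sum_congr rfl (fun k _ => ?_)
    rw [mul_pow]
  have h2 : hermForm 3 F 3 (N *ᵥ u) (N *ᵥ v) = (N *ᵥ u) ⬝ᵥ (fun i => (N *ᵥ v) i ^ 3) := rfl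
  have h3 : hermForm 3 F 3 u v = u ⬝ᵥ (fun i => v i ^ 3) := rfl
  rw [h2, h3, h1, dotProduct_comm, Matrix.dotProduct_mulVec, dotProduct_comm,
    ← Matrix.mulVec_transpose, Matrix.mulVec_mulVec, h, Matrix.one_mulVec]

end field

theorem unitary_A0 : A0ᵀ * frob A0 = 1 := by
  rw [mul3_eq]
  decide +kernel

theorem unitary_B0 : B0ᵀ * frob B0 = 1 := by
  rw [mul3_eq]
  decide +kernel

end Cfsg.Agent.Lib.Helper9.U33
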