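import Mathlib
import Cfsg.Prelude.Def_Classical
import Cfsg.Agent.Lib.Helper9.G2UB
import Cfsg.Agent.Lib.Helper9.U33D

/-!
Kernel-checked facts about the 63 non-isotropic points of the Hermitian plane over `𝔽₉` (S1057).
-/

set_option autoImplicit false

namespace Cfsg.Agent.Lib.Helper9.G2U

open Cfsg Cfsg.Agent.Lib.Helper9.U33

/-- Vectors of the Hermitian plane. -/
abbrev V3 : Type := Fin 3 → GF9

/-- Representatives of the 63 non-isotropic points. -/
def rep (i : Fin 63) : V3 := repT i

/-- The unitary matrices. -/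
def wM (r : Fin 12) : Matrix (Fin 3) (Fin 3) GF9 := Matrix.of (wT r)

/-- Code of a field element. -/
def ecode (x : GF9) : ℕ := x.re.val + 3 * x.im.val

/-- Code of a vector. -/
def vcode (v : V3) : ℕ := ecode (v 0) + 9 * ecode (v 1) + 81 * ecode (v 2)

/-- Class (point index) of a norm-one vector. -/
def clsF (v : V3) : Fin 63 := clsL.getD (vcode v) 0

/-- Scalar of a norm-one vector. -/
def scF (v : V3) : GF9 := scL.getD (vcode v) 0

/-- The Frobenius map on vectors. -/
def frV (v : V3) : V3 := fun k => v k ^ 3

set_option maxRecDepth 100000 in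
theorem class_spec : ∀ v : V3, hermForm 3 GF9 3 v v = 1 →
    (scF v ≠ 0 ∧ v = scF v • rep (clsF v)) := by decide +kernel

set_option maxRecDepth 100000 in
theorem rep_sep : ∀ i j : Fin 63, (∃ c : GF9, c ≠ 0 ∧ rep i = c • rep j) → i = j := by
  decide +kernel

set_option maxRecDepth 100000 in
theorem rep_norm : ∀ i : Fin 63, hermForm 3 GF9 3 (rep i) (rep i) = 1 := by decide +kernel

set_option maxRecDepth 100000 in
theorem w_spec : ∀ (r : Fin 12) (i : Fin 63),
    csT r i ≠ 0 ∧ (wM r).mulVec (rep i) = csT r i • rep (pwT r i) := by decide +kernel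

set_option maxRecDepth 100000 in
theorem w_unitary : ∀ r : Fin 12, (wM r).transpose * frob (wM r) = 1 := by decide +kernel

set_option maxRecDepth 100000 in
theorem w_det : ∀ r : Fin 12, (wM r).det = 1 := by decide +kernel

set_option maxRecDepth 100000 in
theorem th_spec : ∀ i : Fin 63, dsT i ≠ 0 ∧ frV (rep i) = dsT i • rep (thT i) := by decide +kernel

set_option maxRecDepth 100000 in
theorem th_invol : ∀ i : Fin 63, thT (thT i) = i := by decide +kernel

set_option maxRecDepth 100000 in
theorem pw_eq : ∀ (r : Fin 12) (i : Fin 63),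
    pwT r i = if epsT r then pgT r (thT i) else pgT r i := by decide +kernel

theorem card_GF9 : Fintype.card GF9 = 9 := by decide

set_option maxRecDepth 100000 in
theorem cube_eq_one : ∀ x : GF9, x ^ 3 = 1 → x = 1 := by decide +kernel

set_option maxRecDepth 100000 in
theorem frob_frob : ∀ x : GF9, (x ^ 3) ^ 3 = x := by decide +kernel

end Cfsg.Agent.Lib.Helper9.G2U
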