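import Mathlib
import Cfsg.Prelude.Def_Classical
import Cfsg.Agent.Lib.Helper9.G2UA
import Cfsg.Agent.Lib.Helper9.G2UE
import Cfsg.Agent.Lib.Helper5.HermCenter
import Cfsg.Agent.Lib.Helper5.HermSimple

/-!
The permutation representation `tau` of `SU₃(3)` on the 63 non-isotropic points, its faithfulness, and
the action of the Frobenius map (S1057).
-/

set_option autoImplicit false

namespace Cfsg.Agent.Lib.Helper9.G2U

open Cfsg Cfsg.Agent.Lib.Helper9.U33

/-- `SL₃(9)`. -/
abbrev SL3 : Type := Matrix.SpecialLinearGroup (Fin 3) GF9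

/-- The action on vectors. -/
def actS (g : SL3) (v : V3) : V3 := (g : Matrix (Fin 3) (Fin 3) GF9).mulVec v

/-- Proportionality of vectors. -/
def relS (v w : V3) : Prop := ∃ c : GF9, c ≠ 0 ∧ v = c • w

theorem dataS : ActData actS relS rep where
  act_one := fun x => by simp [actS]
  act_mul := fun g h x => by simp [actS, Matrix.mulVec_mulVec]
  rel_refl := fun x => ⟨1, one_ne_zero, (one_smul _ _).symm⟩
  rel_symm := fun x y ⟨c, hc, h⟩ =>
    ⟨c⁻¹, inv_ne_zero hc, by rw [h, smul_smul, inv_mul_cancel₀ hc, one_smul]⟩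
  rel_trans := fun x y z ⟨c, hc, h⟩ ⟨d, hd, h'⟩ =>
    ⟨c * d, mul_ne_zero hc hd, by rw [h, h', smul_smul]⟩
  rel_act := fun g x y ⟨c, hc, h⟩ => ⟨c, hc, by rw [h]; exact Matrix.mulVec_smul _ _ _⟩
  sep := rep_sep

/-- `SU₃(3)` over the model field. -/
abbrev SU3 : Subgroup SL3 := Cfsg.SU 3 GF9 3

theorem mem_SU3 {g : SL3} (hg : g ∈ SU3) (u v : V3) :
    hermForm 3 GF9 3 (actS g u) (actS g v) = hermForm 3 GF9 3 u v := hg u v

theorem SU_le : SU3 ≤ dataS.stabP := by
  intro g hg
  have h1 : ∀ i, scF (actS g (rep i)) ≠ 0 ∧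
      actS g (rep i) = scF (actS g (rep i)) • rep (clsF (actS g (rep i))) :=
    fun i => class_spec _ (by rw [mem_SU3 hg]; exact rep_norm i)
  have hinj : Function.Injective (fun i => clsF (actS g (rep i))) := by
    intro i j hij
    have hij' : clsF (actS g (rep i)) = clsF (actS g (rep j)) := hij
    have ri : relS (actS g (rep i)) (rep (clsF (actS g (rep i)))) := ⟨_, (h1 i).1, (h1 i).2⟩
    have rj : relS (actS g (rep j)) (rep (clsF (actS g (rep j)))) := ⟨_, (h1 j).1, (h1 j).2⟩
    rw [← hij'] at rj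
    have r1 := dataS.rel_trans _ _ _ ri (dataS.rel_symm _ _ rj)
    have r2 := dataS.rel_act g⁻¹ _ _ r1
    rw [← dataS.act_mul, ← dataS.act_mul, inv_mul_cancel, dataS.act_one, dataS.act_one] at r2
    exact dataS.sep _ _ r2
  refine ⟨Equiv.ofBijective _ (Finite.injective_iff_bijective.mp hinj), fun i => ?_⟩
  exact ⟨_, (h1 i).1, (h1 i).2⟩

/-- The permutation representation of `SU₃(3)` on the 63 points. -/
noncomputable def tau : ↥SU3 →* Equiv.Perm (Fin 63) :=
  dataS.permHom.comp (Subgroup.inclusion SU_le)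

theorem tau_spec (g : ↥SU3) (i : Fin 63) : relS (actS g.1 (rep i)) (rep (tau g i)) :=
  dataS.permHom_spec (Subgroup.inclusion SU_le g) i

theorem tau_eq (g : ↥SU3) {π : Equiv.Perm (Fin 63)}
    (h : ∀ i, relS (actS g.1 (rep i)) (rep (π i))) : tau g = π :=
  dataS.permHom_eq (Subgroup.inclusion SU_le g) h

theorem tau_apply_eq (g : ↥SU3) (i j : Fin 63) (h : relS (actS g.1 (rep i)) (rep j)) :
    tau g i = j :=
  dataS.sep _ _ (dataS.rel_trans _ _ _ (dataS.rel_symm _ _ (tau_spec g i)) h)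

/-- The unitary matrices as elements of `SL₃(9)`. -/
def wSL (r : Fin 12) : SL3 := ⟨wM r, w_det r⟩

theorem charP_GF9 : CharP GF9 3 := by
  haveI : Fact (Nat.Prime 3) := ⟨by norm_num⟩
  exact charP_of_card_eq_prime_pow (p := 3) (f := 2) (by rw [card_GF9]; norm_num)

theorem wSL_mem (r : Fin 12) : wSL r ∈ SU3 := by
  haveI := charP_GF9
  intro u v
  exact herm_of_unitary (wM r) (w_unitary r) u v

/-- The unitary matrices as elements of `SU₃(3)`. -/
def wSU (r : Fin 12) : ↥SU3 := ⟨wSL r, wSL_mem r⟩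

theorem tau_w (r : Fin 12) (i : Fin 63) : tau (wSU r) i = pwT r i :=
  tau_apply_eq _ i _ ⟨csT r i, (w_spec r i).1, (w_spec r i).2⟩

/-- The permutation induced by the Frobenius map. -/
def thPerm : Equiv.Perm (Fin 63) := ⟨thT, thT, th_invol, th_invol⟩

theorem thPerm_mul_self : thPerm * thPerm = 1 := Equiv.ext th_invol

/-- The Frobenius map of the model field. -/
def frobHom : GF9 →+* GF9 where
  toFun x := x ^ 3
  map_one' := by decide
  map_mul' := by decide
  map_zero' := by decide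
  map_add' := by decide

/-- The Frobenius map on `SL₃(9)`. -/
def frobSL : SL3 →* SL3 := Matrix.SpecialLinearGroup.map frobHom

theorem frob_act (g : SL3) (v : V3) : actS (frobSL g) (frV v) = frV (actS g v) := by
  funext j
  have h := RingHom.map_mulVec frobHom (g : Matrix (Fin 3) (Fin 3) GF9) v j
  exact h.symm

theorem hF9 : Fintype.card GF9 = 3 ^ 2 := by rw [card_GF9]; norm_num

theorem frobSL_mem {g : SL3} (hg : g ∈ SU3) : frobSL g ∈ SU3 := by
  rw [Cfsg.Agent.Lib.Helper5.HermCenter.mem_SU_iff hF9] at hg ⊢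
  exact unitary_map frobHom (g : Matrix (Fin 3) (Fin 3) GF9) hg

theorem relS_frV {x y : V3} (h : relS x y) : relS (frV x) (frV y) := by
  obtain ⟨c, hc, rfl⟩ := h
  exact ⟨c ^ 3, pow_ne_zero 3 hc, by funext k; simp [frV, mul_pow]⟩

theorem rel_th (i : Fin 63) : relS (frV (rep i)) (rep (thT i)) :=
  ⟨dsT i, (th_spec i).1, (th_spec i).2⟩

/-- The Frobenius map as an endomorphism of `SU₃(3)`. -/
def frobSU (g : ↥SU3) : ↥SU3 := ⟨frobSL g.1, frobSL_mem g.2⟩

theorem tau_frob (g : ↥SU3) : tau (frobSU g) = thPerm * tau g * thPerm := by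
  apply tau_eq
  intro i
  have h1 : relS (rep i) (frV (rep (thT i))) := by
    have := rel_th (thT i)
    rw [th_invol] at this
    exact dataS.rel_symm _ _ this
  have h2 : relS (actS (frobSL g.1) (rep i)) (actS (frobSL g.1) (frV (rep (thT i)))) :=
    dataS.rel_act _ _ _ h1
  rw [frob_act] at h2
  have h3 : relS (frV (actS g.1 (rep (thT i)))) (frV (rep (tau g (thT i)))) :=
    relS_frV (tau_spec g (thT i))
  have h4 := rel_th (tau g (thT i))
  exact dataS.rel_trans _ _ _ h2 (dataS.rel_trans _ _ _ h3 h4)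

section generic

variable {F : Type*} [Field F] [Fintype F]

theorem center_SU_eq_bot (hF : Fintype.card F = 9) : Subgroup.center ↥(SU 3 F 3) = ⊥ := by
  apply Subgroup.eq_bot_of_card_eq
  rw [Cfsg.Agent.Lib.Helper5.HermCenter.card_center_SU (q := 3) (by rw [hF]; norm_num) 3
    (by norm_num)]
  rfl

/-- `SU₃(3) ≅ PSU₃(3)`. -/
noncomputable def psuEquiv (hF : Fintype.card F = 9) : ↥(SU 3 F 3) ≃* PSU 3 F 3 :=
  (QuotientGroup.quotientBot.symm).trans
    (QuotientGroup.quotientMulEquivOfEq (center_SU_eq_bot hF).symm)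

theorem simple_SU (hF : Fintype.card F = 9) : IsSimpleGroup ↥(SU 3 F 3) := by
  haveI : IsSimpleGroup (PSU 3 F 3) :=
    Cfsg.Agent.Lib.Helper5.HermSimple.isSimpleGroup_PSU (q := 3) (by rw [hF]; norm_num) 3 le_rfl
      (by omega)
  exact (psuEquiv hF).isSimpleGroup

end generic

theorem pw_moves : ∃ i : Fin 63, pwT 0 i ≠ i := by decide

theorem tau_injective : Function.Injective tau := by
  haveI := simple_SU (F := GF9) card_GF9
  rw [← MonoidHom.ker_eq_bot_iff]
  rcases (MonoidHom.normal_ker tau).eq_bot_or_eq_top with h | h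
  · exact h
  · exfalso
    obtain ⟨i, hi⟩ := pw_moves
    have h1 : tau (wSU 0) = 1 := by
      rw [← MonoidHom.mem_ker, h]
      exact Subgroup.mem_top _
    apply hi
    rw [← tau_w, h1]
    rfl

end Cfsg.Agent.Lib.Helper9.G2U
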