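import Mathlib
import Cfsg.Prelude.Def_Classical
import Cfsg.Agent.Lib.Helper9.U33D
import Cfsg.Agent.Lib.Helper5.HermCenter

/-!
Generic group-theoretic lemmas for S1057: extension of a subgroup by a normalising involution, the
commutator subgroup of a group with a simple subgroup of index two, and transfer of `SU₃` and of
commutator subgroups along isomorphisms.
-/

set_option autoImplicit false

namespace Cfsg.Agent.Lib.Helper9.G2U

open Cfsg Cfsg.Agent.Lib.Helper9.U33

section ext

variable {P : Type*} [Group P]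

/-- The union of `R` and `R θ` for an involution `θ` normalising `R`. -/
def extTwo (R : Subgroup P) (θ : P) (hθ : θ * θ = 1) (hn : ∀ π ∈ R, θ * π * θ ∈ R) :
    Subgroup P where
  carrier := {π | π ∈ R ∨ π * θ ∈ R}
  one_mem' := Or.inl R.one_mem
  mul_mem' := by
    rintro a b (ha | ha) (hb | hb)
    · exact Or.inl (R.mul_mem ha hb)
    · refine Or.inr ?_
      rw [mul_assoc]
      exact R.mul_mem ha hb
    · refine Or.inr ?_
      have h1 := R.mul_mem ha (hn b hb)
      have h2 : a * θ * (θ * b * θ) = a * b * θ := by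
        calc a * θ * (θ * b * θ) = a * (θ * θ) * b * θ := by simp only [mul_assoc]
          _ = a * b * θ := by rw [hθ, mul_one]
      rw [h2] at h1
      exact h1
    · refine Or.inl ?_
      have h1 := R.mul_mem ha (hn _ hb)
      have h2 : a * θ * (θ * (b * θ) * θ) = a * b := by
        calc a * θ * (θ * (b * θ) * θ) = a * (θ * θ) * b * (θ * θ) := by simp only [mul_assoc]
          _ = a * b := by rw [hθ, mul_one, mul_one]
      rw [h2] at h1
      exact h1
  inv_mem' := by
    rintro a (ha | ha)
    · exact Or.inl (R.inv_mem ha)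
    · refine Or.inr ?_
      have h1 := hn _ (R.inv_mem ha)
      have hθi : θ⁻¹ = θ := inv_eq_of_mul_eq_one_left hθ
      have h2 : θ * (a * θ)⁻¹ * θ = a⁻¹ * θ := by
        rw [mul_inv_rev, hθi]
        calc θ * (θ * a⁻¹) * θ = (θ * θ) * a⁻¹ * θ := by simp only [mul_assoc]
          _ = a⁻¹ * θ := by rw [hθ, one_mul]
      rw [h2] at h1
      exact h1

theorem mem_extTwo {R : Subgroup P} {θ : P} {hθ : θ * θ = 1} {hn : ∀ π ∈ R, θ * π * θ ∈ R}
    {π : P} : π ∈ extTwo R θ hθ hn ↔ π ∈ R ∨ π * θ ∈ R := Iff.rfl

theorem card_extTwo_le [Finite P] (R : Subgroup P) (θ : P) (hθ : θ * θ = 1)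
    (hn : ∀ π ∈ R, θ * π * θ ∈ R) : Nat.card ↥(extTwo R θ hθ hn) ≤ 2 * Nat.card ↥R := by
  classical
  let f : ↥R × Bool → ↥(extTwo R θ hθ hn) := fun x =>
    if x.2 then ⟨x.1.1 * θ, Or.inr (by rw [mul_assoc, hθ, mul_one]; exact x.1.2)⟩
    else ⟨x.1.1, Or.inl x.1.2⟩
  have hf : Function.Surjective f := by
    rintro ⟨π, hπ | hπ⟩
    · exact ⟨(⟨π, hπ⟩, false), rfl⟩
    · refine ⟨(⟨π * θ, hπ⟩, true), ?_⟩
      apply Subtype.ext
      show π * θ * θ = π
      rw [mul_assoc, hθ, mul_one]
  have h1 := Nat.card_le_card_of_surjective f hf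
  rw [Nat.card_prod, Nat.card_eq_fintype_card (α := Bool), Fintype.card_bool, mul_comm] at h1
  exact h1

end ext

section comm

variable {G : Type*} [Group G]

theorem commutator_eq_of_index_two [Finite G] (N : Subgroup G) [IsSimpleGroup ↥N]
    (hp : ¬ (Nat.card ↥N).Prime) (hidx : N.index = 2) : commutator G = N := by
  haveI : N.Normal := Subgroup.normal_of_index_eq_two hidx
  apply le_antisymm
  · rw [← Subgroup.Normal.quotient_commutative_iff_commutator_le]
    have hc : Nat.card (G ⧸ N) = 2 := by rw [← Subgroup.index_eq_card]; exact hidx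
    haveI : Fact (Nat.Prime 2) := ⟨Nat.prime_two⟩
    haveI : IsCyclic (G ⧸ N) := isCyclic_of_prime_card hc
    exact IsCyclic.isMulCommutative
  · have hN : (commutator ↥N).Normal := inferInstance
    rcases hN.eq_bot_or_eq_top with h | h
    · exfalso
      apply hp
      have hcomm : ∀ a b : ↥N, a * b = b * a := by
        intro a b
        rw [commutator_def, Subgroup.commutator_eq_bot_iff_le_centralizer] at h
        have := h (Subgroup.mem_top b)
        rw [Subgroup.mem_centralizer_iff] at this
        exact this a (Subgroup.mem_top a)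
      letI : CommGroup ↥N := { (inferInstance : Group ↥N) with mul_comm := hcomm }
      exact IsSimpleGroup.prime_card
    · have h1 := Subgroup.map_subtype_commutator N
      rw [h, ← MonoidHom.range_eq_map, Subgroup.range_subtype] at h1
      rw [h1, commutator_def]
      exact Subgroup.commutator_mono le_top le_top

/-- Isomorphic groups have isomorphic commutator subgroups. -/
noncomputable def commutatorCongr {H : Type*} [Group H] (e : G ≃* H) :
    ↥(commutator G) ≃* ↥(commutator H) :=
  (e.subgroupMap (commutator G)).trans (MulEquiv.subgroupCongr (by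
    rw [commutator_def, Subgroup.map_commutator, commutator_def,
      Subgroup.map_top_of_surjective _ e.surjective]))

end comm

section su

variable {F K : Type*} [Field F] [Fintype F] [Field K] [Fintype K]

theorem map_mem_SU (hF : Fintype.card F = 3 ^ 2) (hK : Fintype.card K = 3 ^ 2) (f : F →+* K)
    {g : Matrix.SpecialLinearGroup (Fin 3) F} (hg : g ∈ SU 3 F 3) :
    Matrix.SpecialLinearGroup.map f g ∈ SU 3 K 3 := by
  rw [Cfsg.Agent.Lib.Helper5.HermCenter.mem_SU_iff hK]
  rw [Cfsg.Agent.Lib.Helper5.HermCenter.mem_SU_iff hF] at hg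
  exact unitary_map f (g : Matrix (Fin 3) (Fin 3) F) hg

/-- A field isomorphism induces an isomorphism of the groups `SU₃(3)`. -/
noncomputable def suEquiv (hF : Fintype.card F = 3 ^ 2) (hK : Fintype.card K = 3 ^ 2)
    (e : F ≃+* K) : ↥(SU 3 F 3) ≃* ↥(SU 3 K 3) where
  toFun g := ⟨Matrix.SpecialLinearGroup.map e.toRingHom g.1, map_mem_SU hF hK _ g.2⟩
  invFun g := ⟨Matrix.SpecialLinearGroup.map e.symm.toRingHom g.1, map_mem_SU hK hF _ g.2⟩
  left_inv g := by
    apply Subtype.ext
    apply Subtype.ext
    ext i j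
    simp
  right_inv g := by
    apply Subtype.ext
    apply Subtype.ext
    ext i j
    simp
  map_mul' a b := by
    apply Subtype.ext
    simp [map_mul]

end su

end Cfsg.Agent.Lib.Helper9.G2U
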