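import Mathlib
import Cfsg.Agent.Lib.Helper9.G2UD

/-!
A lower bound `12096 ≤ |G₂(2)|` from a stabiliser chain of its action on 63 points (S1057).
The words below were found by computer; every property used is re-verified in Lean by `decide`.
-/

set_option autoImplicit false

namespace Cfsg.Agent.Lib.Helper9.G2U

open Cfsg.Lie

section chain

variable {α : Type*}

/-- Elements of `H` fixing all points of `l`. -/
def fixing (H : Subgroup (Equiv.Perm α)) (l : List α) : Subgroup (Equiv.Perm α) where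
  carrier := {g | g ∈ H ∧ ∀ b ∈ l, g b = b}
  one_mem' := ⟨H.one_mem, fun _ _ => rfl⟩
  mul_mem' := fun {a b} ha hb => ⟨H.mul_mem ha.1 hb.1, fun x hx => by
    rw [Equiv.Perm.mul_apply, hb.2 x hx, ha.2 x hx]⟩
  inv_mem' := fun {a} ha => ⟨H.inv_mem ha.1, fun x hx => by
    rw [Equiv.Perm.inv_eq_iff_eq]; exact (ha.2 x hx).symm⟩

theorem card_fixing_ge [Finite α] (H : Subgroup (Equiv.Perm α)) (l : List α) (b : α) (S : Finset α)
    (hS : ∀ j ∈ S, ∃ g ∈ fixing H l, g b = j) :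
    S.card * Nat.card ↥(fixing H (b :: l)) ≤ Nat.card ↥(fixing H l) := by
  classical
  choose! g hg using hS
  let φ : ↥S × ↥(fixing H (b :: l)) → ↥(fixing H l) := fun x =>
    ⟨g x.1.1 * x.2.1, Subgroup.mul_mem _ (hg x.1.1 x.1.2).1
      ⟨x.2.2.1, fun y hy => x.2.2.2 y (List.mem_cons_of_mem _ hy)⟩⟩
  have hφ : Function.Injective φ := by
    rintro ⟨⟨j, hj⟩, ⟨h, hh⟩⟩ ⟨⟨j', hj'⟩, ⟨h', hh'⟩⟩ e
    have e1 : g j * h = g j' * h' := congrArg Subtype.val e
    have e2 := congrArg (fun π => π b) e1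
    simp only [Equiv.Perm.mul_apply] at e2
    rw [hh.2 b List.mem_cons_self, hh'.2 b List.mem_cons_self, (hg j hj).2, (hg j' hj').2] at e2
    subst e2
    have e3 : h = h' := mul_left_cancel e1
    subst e3
    rfl
  have h1 := Nat.card_le_card_of_injective φ hφ
  rw [Nat.card_prod, Nat.card_eq_fintype_card (α := ↥S), Fintype.card_coe] at h1
  exact h1

end chain

/-- Evaluation of a word in the generators at a point. -/
def evalPt (w : List (Fin 12)) (x : Fin 63) : Fin 63 := w.foldr (fun r y => pgT r y) x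

theorem evalPt_eq (w : List (Fin 12)) (x : Fin 63) : (w.map pgPerm).prod x = evalPt w x := by
  induction w with
  | nil => rfl
  | cons r w ih =>
    rw [List.map_cons, List.prod_cons, Equiv.Perm.mul_apply, ih]
    rfl

/-- The group generated by the twelve permutations. -/
def QQ : Subgroup (Equiv.Perm (Fin 63)) := Subgroup.closure (Set.range pgPerm)

theorem word_mem (w : List (Fin 12)) : (w.map pgPerm).prod ∈ QQ :=
  Subgroup.list_prod_mem _ (fun x hx => by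
    obtain ⟨r, _, rfl⟩ := List.mem_map.mp hx
    exact Subgroup.subset_closure ⟨r, rfl⟩)

/-- Words moving the point `0` to each point. -/
def W1 : Fin 63 → List (Fin 12) := ![
  [],
  [5, 6],
  [6, 10],
  [5, 8, 6],
  [5, 8],
  [5, 3, 8],
  [6],
  [10, 6],
  [1, 9],
  [2, 10, 6],
  [10, 5, 6],
  [1, 10, 6],
  [9],
  [0, 9],
  [2, 9],
  [1, 7, 8],
  [2, 4, 9],
  [4, 10, 6],
  [9, 8, 6],
  [11, 6],
  [0, 11, 6],
  [2, 10, 8],
  [8, 7, 5, 6],
  [2, 11],
  [9, 5, 6],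
  [3, 11],
  [1, 10, 8],
  [7, 8],
  [7, 3, 8],
  [11, 7, 5, 6],
  [4, 9],
  [11, 8],
  [0, 11, 8],
  [3, 11, 6],
  [10, 8],
  [11],
  [0, 11],
  [9, 7, 6],
  [8, 7, 6],
  [3, 8],
  [8],
  [8, 6],
  [11, 5, 6],
  [3, 9, 8],
  [5, 11, 6],
  [11, 7, 6],
  [2, 9, 8],
  [11, 10],
  [2, 9, 6],
  [9, 7, 5, 6],
  [3, 9, 6],
  [10, 8, 6],
  [9, 8],
  [6, 0, 9],
  [8, 9],
  [1, 10],
  [7, 5, 6],
  [0, 11, 9],
  [11, 9],
  [0, 9, 6],
  [9, 6],
  [7, 6],
  [10]]

/-- Words fixing `0` and moving `19`. -/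
def W2 : Fin 63 → List (Fin 12) := ![
  [],
  [],
  [],
  [],
  [],
  [],
  [],
  [],
  [],
  [],
  [],
  [],
  [],
  [],
  [],
  [],
  [],
  [],
  [],
  [],
  [0],
  [3, 2],
  [2, 3],
  [2, 1],
  [2, 1, 0],
  [3, 1],
  [4, 3],
  [],
  [],
  [],
  [],
  [2],
  [2, 0],
  [3],
  [3, 0],
  [1],
  [1, 0],
  [3, 2, 1],
  [2, 3, 1],
  [],
  [],
  [],
  [],
  [5, 0],
  [5],
  [7],
  [7, 0],
  [5, 1],
  [1, 5],
  [1, 7],
  [4, 5],
  [5, 3],
  [5, 3, 0],
  [3, 7],
  [5, 2],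
  [],
  [],
  [5, 4, 3],
  [5, 3, 1],
  [5, 2, 1],
  [7, 2, 1],
  [],
  []]

/-- Words fixing `0` and `19` and moving `2`. -/
def W3 : Fin 63 → List (Fin 12) := ![
  [],
  [],
  [],
  [],
  [4],
  [],
  [],
  [],
  [],
  [],
  [],
  [],
  [],
  [4, 1, 7, 1],
  [4, 1, 7, 4, 1],
  [],
  [],
  [],
  [],
  [],
  [],
  [],
  [],
  [],
  [],
  [],
  [],
  [1, 7, 1],
  [1, 7, 4, 1],
  [],
  [],
  [],
  [],
  [],
  [],
  [],
  [],
  [],
  [],
  [],
  [],
  [],
  [],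
  [],
  [],
  [],
  [],
  [],
  [],
  [],
  [],
  [],
  [],
  [],
  [],
  [],
  [],
  [],
  [],
  [],
  [],
  [],
  []]

/-- An orbit of the stabiliser of `0`. -/
def S2 : Finset (Fin 63) := {19, 20, 21, 22, 23, 24, 25, 26, 31, 32, 33, 34, 35, 36, 37, 38, 43, 44, 45, 46, 47, 48, 49, 50, 51, 52, 53, 54, 57, 58, 59, 60}

/-- An orbit of the stabiliser of `0` and `19`. -/
def S3 : Finset (Fin 63) := {2, 4, 13, 14, 27, 28}

set_option maxRecDepth 100000 in
theorem lvl1 : ∀ j : Fin 63, evalPt (W1 j) 0 = j := by decide +kernel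

set_option maxRecDepth 100000 in
theorem lvl2 : ∀ j ∈ S2, evalPt (W2 j) 0 = 0 ∧ evalPt (W2 j) 19 = j := by decide +kernel

set_option maxRecDepth 100000 in
theorem lvl3 : ∀ j ∈ S3, evalPt (W3 j) 0 = 0 ∧ evalPt (W3 j) 19 = 19 ∧ evalPt (W3 j) 2 = j := by
  decide +kernel

theorem card_S2 : S2.card = 32 := by decide +kernel

theorem card_S3 : S3.card = 6 := by decide

theorem card_QQ_ge : 12096 ≤ Nat.card ↥QQ := by
  have h1 := card_fixing_ge QQ [] 0 Finset.univ (fun j _ =>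
    ⟨((W1 j).map pgPerm).prod, ⟨word_mem _, fun b hb => by simp at hb⟩, by
      rw [evalPt_eq]; exact lvl1 j⟩)
  have h2 := card_fixing_ge QQ [0] 19 S2 (fun j hj =>
    ⟨((W2 j).map pgPerm).prod, ⟨word_mem _, fun b hb => by
      rw [List.mem_singleton] at hb
      subst hb
      rw [evalPt_eq]
      exact (lvl2 j hj).1⟩, by rw [evalPt_eq]; exact (lvl2 j hj).2⟩)
  have h3 := card_fixing_ge QQ [19, 0] 2 S3 (fun j hj =>
    ⟨((W3 j).map pgPerm).prod, ⟨word_mem _, fun b hb => by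
      rw [List.mem_cons, List.mem_singleton] at hb
      rcases hb with rfl | rfl
      · rw [evalPt_eq]; exact (lvl3 j hj).2.1
      · rw [evalPt_eq]; exact (lvl3 j hj).1⟩, by rw [evalPt_eq]; exact (lvl3 j hj).2.2⟩)
  have h4 : 1 ≤ Nat.card ↥(fixing QQ [2, 19, 0]) := Nat.card_pos
  have h0 : Nat.card ↥(fixing QQ []) ≤ Nat.card ↥QQ :=
    Subgroup.card_le_of_le (fun g hg => hg.1)
  rw [Finset.card_univ, Fintype.card_fin] at h1
  rw [card_S2] at h2
  rw [card_S3] at h3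
  omega

set_option maxRecDepth 100000 in
theorem XM_sq : ∀ (r : Fin 12) (a b : Idx), ent (XM r * XM r) a b = if a = b then 1 else 0 := by
  decide +kernel

/-- The root elements as elements of `GL₁₄(2)`. -/
def xGL (r : Fin 12) : GL Idx (ZMod 2) :=
  ⟨XM r, XM r, by ext a b; rw [Matrix.one_apply]; exact XM_sq r a b,
    by ext a b; rw [Matrix.one_apply]; exact XM_sq r a b⟩

theorem xGL_mem (r : Fin 12) : xGL r ∈ G0 :=
  Subgroup.subset_closure ⟨r, 1, (xMat_one r).symm⟩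

theorem QQ_le : QQ ≤ rho.range := by
  unfold QQ
  rw [Subgroup.closure_le]
  rintro π ⟨r, rfl⟩
  exact ⟨⟨xGL r, xGL_mem r⟩, rho_gen r _ (xMat_one r).symm⟩

theorem card_G0_ge : 12096 ≤ Nat.card ↥G0 := by
  have h1 := card_QQ_ge
  have h2 : Nat.card ↥QQ ≤ Nat.card ↥rho.range := Subgroup.card_le_of_le QQ_le
  have h3 : Nat.card ↥rho.range = Nat.card ↥G0 :=
    (Nat.card_congr (MonoidHom.ofInjective rho_injective).toEquiv).symm
  omega

end Cfsg.Agent.Lib.Helper9.G2U
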