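import Mathlib
import Cfsg.Prelude.Def_Classical
import Cfsg.Prelude.Def_ChevG2
import Cfsg.Agent.Lib.Helper9.G2UD
import Cfsg.Agent.Lib.Helper9.G2UF
import Cfsg.Agent.Lib.Helper9.G2UG
import Cfsg.Agent.Lib.Helper5.ChevFieldMap
import Cfsg.Agent.S0280
import Cfsg.Agent.Lib.Helper9.G2UI

/-!
Assembly for S1057: the commutator subgroup of `G₂(2)` is isomorphic to `SU₃(3) ≅ PSU₃(3)`.
-/

set_option autoImplicit false

namespace Cfsg.Agent.Lib.Helper9.G2U

open Cfsg Cfsg.Lie Cfsg.Agent.Lib.Helper9.U33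

theorem prod_eval : ∏ i ∈ Finset.range 3, (if Even i then 3 ^ (i + 1) + 1 else 3 ^ (i + 1) - 1)
    = 896 := by decide

theorem card_SU3 : Nat.card ↥SU3 = 6048 := by
  have h := Cfsg.Agent.S0280.result (F := GF9) (q := 3) hF9 3 (by norm_num)
  rw [← Nat.card_congr (psuEquiv card_GF9).toEquiv, prod_eval] at h
  have h2 : Nat.gcd 3 (3 + 1) = 1 := by decide
  rw [h2] at h
  norm_num at h
  show Nat.card ↥(SU 3 GF9 3) = 6048
  omega

/-- The image of `SU₃(3)` in the symmetric group. -/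
noncomputable def RR : Subgroup (Equiv.Perm (Fin 63)) := tau.range

theorem card_RR : Nat.card ↥RR = 6048 := by
  rw [← card_SU3]
  exact (Nat.card_congr (MonoidHom.ofInjective tau_injective).toEquiv).symm

theorem th_norm : ∀ π ∈ RR, thPerm * π * thPerm ∈ RR := by
  rintro π ⟨g, rfl⟩
  exact ⟨frobSU g, tau_frob g⟩

/-- The subgroup generated by the image of `SU₃(3)` and the Frobenius permutation. -/
noncomputable def GG : Subgroup (Equiv.Perm (Fin 63)) := extTwo RR thPerm thPerm_mul_self th_norm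

theorem pg_mem (r : Fin 12) : pgPerm r ∈ GG := by
  rcases hb : epsT r with _ | _
  · left
    refine ⟨wSU r, Equiv.ext fun i => ?_⟩
    rw [tau_w, pw_eq, hb]
    rfl
  · right
    refine ⟨wSU r, Equiv.ext fun i => ?_⟩
    rw [tau_w, pw_eq, hb]
    rfl

theorem mem_via_gens (K : Subgroup (Equiv.Perm (Fin 63))) (hK : ∀ r, pgPerm r ∈ K) (g : ↥G0) :
    rho g ∈ K := by
  have hle : G0 ≤ (K.comap rho).map G0.subtype := by
    refine (Subgroup.closure_le _).mpr ?_
    rintro y ⟨r, t, hy⟩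
    have hy0 : y ∈ G0 := Subgroup.subset_closure ⟨r, t, hy⟩
    refine ⟨⟨y, hy0⟩, ?_, rfl⟩
    show rho ⟨y, hy0⟩ ∈ K
    rcases zmod2_cases' t with rfl | rfl
    · have h1 : y = 1 := Units.ext (by rw [hy]; exact xMat_zero r)
      have h2 : (⟨y, hy0⟩ : ↥G0) = 1 := Subtype.ext h1
      rw [h2, map_one]
      exact K.one_mem
    · rw [rho_gen r _ hy]
      exact hK r
  obtain ⟨h, hh, hg⟩ := hle g.2
  have h3 : h = g := Subtype.ext hg
  rw [← h3]
  exact hh

theorem rho_mem (g : ↥G0) : rho g ∈ GG := mem_via_gens GG pg_mem g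

theorem range_le : rho.range ≤ GG := by
  rintro π ⟨g, rfl⟩
  exact rho_mem g

theorem card_GG_le : Nat.card ↥GG ≤ 12096 := by
  have h2 := card_extTwo_le RR thPerm thPerm_mul_self th_norm
  rw [card_RR] at h2
  exact h2

theorem card_range_rho : Nat.card ↥rho.range = Nat.card ↥G0 :=
  (Nat.card_congr (MonoidHom.ofInjective rho_injective).toEquiv).symm

theorem card_G0 : Nat.card ↥G0 = 12096 := by
  apply le_antisymm
  · rw [← card_range_rho]
    exact le_trans (Subgroup.card_le_of_le range_le) card_GG_le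
  · exact card_G0_ge

theorem range_rho : rho.range = GG := by
  apply Subgroup.eq_of_le_of_card_ge range_le
  rw [card_range_rho, card_G0]
  exact card_GG_le

theorem RR_le : RR ≤ rho.range := by
  rw [range_rho]
  intro π hπ
  exact Or.inl hπ

/-- The subgroup of `G₂(2)` corresponding to `SU₃(3)`. -/
noncomputable def NN : Subgroup ↥G0 := RR.comap rho

/-- `NN ≅ RR`. -/
noncomputable def equivNR : ↥NN ≃* ↥RR :=
  MulEquiv.ofBijective (rho.subgroupComap RR) (by
    constructor
    · intro a b hab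
      have h1 : rho a.1 = rho b.1 := congrArg Subtype.val hab
      exact Subtype.ext (rho_injective h1)
    · rintro ⟨π, hπ⟩
      obtain ⟨g, hg⟩ := RR_le hπ
      refine ⟨⟨g, ?_⟩, Subtype.ext hg⟩
      show rho g ∈ RR
      rw [hg]
      exact hπ)

/-- `NN ≅ SU₃(3)`. -/
noncomputable def equivNS : ↥NN ≃* ↥SU3 :=
  equivNR.trans (MonoidHom.ofInjective tau_injective).symm

theorem card_NN : Nat.card ↥NN = 6048 := by
  rw [← card_SU3]
  exact Nat.card_congr equivNS.toEquiv

theorem index_NN : NN.index = 2 := by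
  have h := Subgroup.card_mul_index NN
  rw [card_NN, card_G0] at h
  omega

theorem commutator_G0 : commutator ↥G0 = NN := by
  haveI : IsSimpleGroup ↥SU3 := simple_SU (F := GF9) card_GF9
  haveI : IsSimpleGroup ↥NN := equivNS.isSimpleGroup
  haveI : Finite ↥G0 := Nat.finite_of_card_ne_zero (by rw [card_G0]; norm_num)
  exact commutator_eq_of_index_two NN (by rw [card_NN]; norm_num) index_NN

theorem main {F K : Type*} [Field F] [Fintype F] [Field K] [Fintype K]
    (hF : Fintype.card F = 2) (hK : Fintype.card K = 9) :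
    Nonempty (↥(commutator ↥(chevG2.group F)) ≃* PSU 3 K 3) := by
  have e0 : F ≃+* ZMod 2 := FiniteField.ringEquivOfCardEq (by rw [hF, ZMod.card])
  have e1 : ↥(chevG2.group F) ≃* ↥G0 :=
    Cfsg.Agent.Lib.Helper5.ChevStruct.groupEquivOfRingEquiv chevG2 e0
  have e2 : ↥(commutator ↥(chevG2.group F)) ≃* ↥(commutator ↥G0) := commutatorCongr e1
  have e3 : ↥(commutator ↥G0) ≃* ↥NN := MulEquiv.subgroupCongr commutator_G0
  have e4 : GF9 ≃+* K := FiniteField.ringEquivOfCardEq (by rw [hK, card_GF9])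
  have e5 : ↥SU3 ≃* ↥(SU 3 K 3) := suEquiv hF9 (by rw [hK]; norm_num) e4
  exact ⟨((((e2.trans e3).trans equivNS).trans e5).trans (psuEquiv hK))⟩

end Cfsg.Agent.Lib.Helper9.G2U
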