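import Cfsg.Prelude.Def_Sporadic_a

set_option autoImplicit false

namespace Cfsg.Agent.Lib.Helper9.GolayQR1

open Cfsg

/-- index of a point of the 24-point set -/
def idx : GolayPt → ℕ
  | none => 23
  | some x => x.val

/-- the point with a given index -/
def unidx (i : ℕ) : GolayPt := if i = 23 then none else some (i : ZMod 23)

theorem idx_lt : ∀ p : GolayPt, idx p < 24 := by decide

theorem unidx_idx : ∀ p : GolayPt, unidx (idx p) = p := by decide

theorem idx_unidx : ∀ i : ℕ, i < 24 → idx (unidx i) = i := by decide

/-- decode a bitmask into a binary word -/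
def dec (m : ℕ) : GolayPt → ZMod 2 := fun p => if m.testBit (idx p) then 1 else 0

theorem dec_xor (m n : ℕ) : dec (m ^^^ n) = dec m + dec n := by
  funext p
  simp only [dec, Nat.testBit_xor, Pi.add_apply]
  cases m.testBit (idx p) <;> cases n.testBit (idx p) <;> decide

theorem dec_zero : dec 0 = 0 := by
  funext p
  simp [dec]

/-- number of set bits among the low 24 bits -/
def wt24 (m : ℕ) : ℕ := (List.range 24).countP (fun i => m.testBit i)

theorem dec_ne_zero_iff (m : ℕ) (p : GolayPt) : dec m p ≠ 0 ↔ m.testBit (idx p) = true := by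
  unfold dec
  cases m.testBit (idx p) <;> simp

theorem wt_dec (m : ℕ) : hammingNorm (dec m) = wt24 m := by
  have h1 : wt24 m = ((Finset.range 24).filter (fun i => m.testBit i = true)).card := by
    simp only [wt24, List.countP_eq_length_filter, Finset.card, Finset.filter, Finset.range,
      Multiset.range, Multiset.filter_coe, Multiset.coe_card, Bool.decide_eq_true]
  rw [h1]
  unfold hammingNorm
  refine Finset.card_nbij' idx unidx ?_ ?_ ?_ ?_
  · intro p hp
    rw [Finset.mem_coe, Finset.mem_filter] at hp ⊢
    exact ⟨Finset.mem_range.mpr (idx_lt p), (dec_ne_zero_iff m p).mp hp.2⟩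
  · intro i hi
    rw [Finset.mem_coe, Finset.mem_filter] at hi ⊢
    refine ⟨Finset.mem_univ _, ?_⟩
    rw [dec_ne_zero_iff, idx_unidx i (Finset.mem_range.mp hi.1)]
    exact hi.2
  · intro p _
    exact unidx_idx p
  · intro i hi
    rw [Finset.mem_coe, Finset.mem_filter] at hi
    exact idx_unidx i (Finset.mem_range.mp hi.1)

/-- masks of the translates of the squares -/
def qrMask (t : ZMod 23) : ℕ :=
  [340831, 681662, 1363324, 2726648, 5453296, 2517985, 5035970, 1683333, 3366666, 6733332,
    5078057, 1767507, 3535014, 7070028, 5751449, 3114291, 6228582, 4068557, 8137114, 7885621,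
    7382635, 6376663, 4364719].getD t.val 0

theorem qrWord_eq_dec : ∀ t : ZMod 23, ∀ p : GolayPt, qrWord t p = dec (qrMask t) p := by
  decide +kernel

theorem one_eq_dec : ∀ p : GolayPt, (1 : GolayPt → ZMod 2) p = dec 16777215 p := by
  decide +kernel

theorem qrWord_eq (t : ZMod 23) : qrWord t = dec (qrMask t) := funext (qrWord_eq_dec t)

theorem one_eq : (1 : GolayPt → ZMod 2) = dec 16777215 := funext one_eq_dec

end Cfsg.Agent.Lib.Helper9.GolayQR1
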