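import Mathlib

/-!
# S4033 piece A3: conjugating one `A`-invariant Sylow `q`-subgroup of `K` to another by an element
of `N_K(A)`
-/

set_option autoImplicit false
set_option linter.unusedVariables false
set_option linter.unusedSectionVars false
set_option linter.style.longLine false
set_option linter.style.haveILetI false

namespace Cfsg.Agent.Lib.Helper8.PR

open scoped Pointwise

/-- two maximal `p`-subgroups of a subgroup `L` are conjugate by an element of `L` -/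
theorem h9_pr_conj_of_max {G : Type*} [Group G] [Finite G] {p : ℕ} [Fact p.Prime]
    (L A B : Subgroup G) (hA : IsPGroup p A) (hB : IsPGroup p B) (hAL : A ≤ L) (hBL : B ≤ L)
    (hmaxA : ∀ Q : Subgroup G, IsPGroup p Q → A ≤ Q → Q ≤ L → Q ≤ A)
    (hmaxB : ∀ Q : Subgroup G, IsPGroup p Q → B ≤ Q → Q ≤ L → Q ≤ B) :
    ∃ l ∈ L, (∀ b ∈ B, l * b * l⁻¹ ∈ A) ∧ (∀ a ∈ A, l⁻¹ * a * l ∈ B) := by
  have mk : ∀ (C : Subgroup G) (hC : IsPGroup p C) (hCL : C ≤ L)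
      (hmax : ∀ Q : Subgroup G, IsPGroup p Q → C ≤ Q → Q ≤ L → Q ≤ C),
      ∃ P : Sylow p L, (P : Subgroup L) = C.subgroupOf L := by
    intro C hC hCL hmax
    refine ⟨⟨C.subgroupOf L, hC.comap_subtype, ?_⟩, rfl⟩
    intro Q hQ hle
    apply le_antisymm _ hle
    intro x hx
    rw [Subgroup.mem_subgroupOf]
    have h1 : C ≤ Q.map L.subtype := by
      intro c hc
      exact ⟨⟨c, hCL hc⟩, hle (by rw [Subgroup.mem_subgroupOf]; exact hc), rfl⟩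
    have h2 : Q.map L.subtype ≤ L := by
      rintro _ ⟨y, _, rfl⟩
      exact y.2
    exact hmax _ (hQ.map _) h1 h2 ⟨x, hx, rfl⟩
  have key : ∀ (P1 P2 : Sylow p L) (C1 C2 : Subgroup G) (hC1 : C1 ≤ L),
      (P1 : Subgroup L) = C1.subgroupOf L → (P2 : Subgroup L) = C2.subgroupOf L →
      ∀ g : L, g • P1 = P2 → ∀ b ∈ C1, (g : G) * b * (g : G)⁻¹ ∈ C2 := by
    intro P1 P2 C1 C2 hC1 hP1 hP2 g hg b hb
    have h1 : (⟨b, hC1 hb⟩ : L) ∈ (P1 : Subgroup L) := by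
      rw [hP1, Subgroup.mem_subgroupOf]; exact hb
    have h2 : MulAut.conj g • (⟨b, hC1 hb⟩ : L) ∈ MulAut.conj g • (P1 : Subgroup L) :=
      Subgroup.smul_mem_pointwise_smul _ _ _ h1
    rw [← Sylow.pointwise_smul_def, ← Sylow.smul_def, hg, hP2, Subgroup.mem_subgroupOf] at h2
    simpa [MulAut.smul_def] using h2
  obtain ⟨PA, hPA⟩ := mk A hA hAL hmaxA
  obtain ⟨PB, hPB⟩ := mk B hB hBL hmaxB
  obtain ⟨g, hg⟩ := MulAction.exists_smul_eq L PB PA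
  refine ⟨g, g.2, key PB PA B A hBL hPB hPA g hg, ?_⟩
  have hg' : g⁻¹ • PA = PB := by rw [inv_smul_eq_iff]; exact hg.symm
  intro a ha
  have := key PA PB A B hAL hPA hPB g⁻¹ hg' a ha
  simpa using this

/-- a subgroup whose elements conjugate `V` into itself lies in the normalizer of `V` -/
theorem h9_pr_le_normalizer {G : Type*} [Group G] (S V : Subgroup G)
    (h : ∀ a ∈ S, ∀ v ∈ V, a * v * a⁻¹ ∈ V) : S ≤ Subgroup.normalizer (V : Set G) := by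
  intro a ha
  rw [Subgroup.mem_normalizer_iff]
  intro v
  constructor
  · exact h a ha v
  · intro hv
    have := h a⁻¹ (inv_mem ha) _ hv
    simpa [mul_assoc] using this

theorem sylConj {G : Type*} [Group G] [Finite G] {s q : ℕ} (hs : s.Prime) (hq : q.Prime) (hsq : s ≠ q)
    (K : Subgroup G) [K.Normal] (A : Subgroup G) (hA : IsPGroup s A)
    (hKA : ∀ x ∈ K, (∃ j : ℕ, orderOf x = s ^ j) → x ∈ A)
    (V₀ V₁ : Subgroup G) (h0 : V₀ ≤ K) (h1 : V₁ ≤ K)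
    (hc0 : Nat.card V₀ = q ^ (Nat.card K).factorization q)
    (hc1 : Nat.card V₁ = q ^ (Nat.card K).factorization q)
    (hn0 : ∀ a ∈ A, ∀ v ∈ V₀, a * v * a⁻¹ ∈ V₀) (hn1 : ∀ a ∈ A, ∀ v ∈ V₁, a * v * a⁻¹ ∈ V₁) :
    ∃ k ∈ K, (∀ a ∈ A, k * a * k⁻¹ ∈ A) ∧ (∀ v ∈ V₀, k * v * k⁻¹ ∈ V₁) := by
  haveI : Fact s.Prime := ⟨hs⟩
  haveI : Fact q.Prime := ⟨hq⟩
  -- Step 1: `V₀`, `V₁` are conjugate in `K`
  have hV0 : IsPGroup q V₀ := IsPGroup.of_card hc0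
  have hV1 : IsPGroup q V₁ := IsPGroup.of_card hc1
  have hmaxV : ∀ V : Subgroup G, V ≤ K → Nat.card V = q ^ (Nat.card K).factorization q →
      ∀ Q : Subgroup G, IsPGroup q Q → V ≤ Q → Q ≤ K → Q ≤ V := by
    intro V hVK hc Q hQ hVQ hQK
    obtain ⟨n, hn⟩ := IsPGroup.iff_card.mp hQ
    have hdvd : Nat.card Q ∣ Nat.card K := Subgroup.card_dvd_of_le hQK
    rw [hn] at hdvd
    have hle : n ≤ (Nat.card K).factorization q :=
      (hq.pow_dvd_iff_le_factorization (Nat.card_pos.ne')).mp hdvd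
    have hcard : Nat.card Q ≤ Nat.card V := by
      rw [hn, hc]; exact Nat.pow_le_pow_right hq.pos hle
    exact (Subgroup.eq_of_le_of_card_ge hVQ hcard).ge
  obtain ⟨k₁, hk₁K, hk₁, hk₁'⟩ := h9_pr_conj_of_max (p := q) K V₁ V₀ hV1 hV0 h1 h0
    (hmaxV V₁ h1 hc1) (hmaxV V₀ h0 hc0)
  -- Step 2: `A` is a maximal `s`-subgroup of `K ⊔ A`
  have M1 : ∀ Q : Subgroup G, IsPGroup s Q → A ≤ Q → Q ≤ K ⊔ A → Q ≤ A := by
    intro Q hQ hAQ hQKA x hx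
    obtain ⟨k, hk, a, ha, rfl⟩ := Subgroup.mem_sup_of_normal_left.mp (hQKA hx)
    have hkQ : k ∈ Q := by
      have := Q.mul_mem hx (Q.inv_mem (hAQ ha))
      simpa using this
    obtain ⟨j, hj⟩ := hQ ⟨k, hkQ⟩
    have hj' : k ^ s ^ j = 1 := by
      have := congrArg Subtype.val hj
      simpa using this
    obtain ⟨j', _, hj''⟩ := (Nat.dvd_prime_pow hs).mp (orderOf_dvd_of_pow_eq_one hj')
    exact A.mul_mem (hKA k hk ⟨j', hj''⟩) ha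
  -- Step 3: the subgroup `L`
  obtain ⟨L, hL⟩ : ∃ L : Subgroup G, L = (K ⊔ A) ⊓ Subgroup.normalizer (V₁ : Set G) := ⟨_, rfl⟩
  have hLKA : L ≤ K ⊔ A := by rw [hL]; exact inf_le_left
  have hLN : L ≤ Subgroup.normalizer (V₁ : Set G) := by rw [hL]; exact inf_le_right
  have hAL : A ≤ L := by
    rw [hL]; exact le_inf le_sup_right (h9_pr_le_normalizer A V₁ hn1)
  obtain ⟨A', hA'⟩ : ∃ A' : Subgroup G, A' = A.map (MulAut.conj k₁).toMonoidHom := ⟨_, rfl⟩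
  have memA' : ∀ x, x ∈ A' ↔ ∃ a ∈ A, k₁ * a * k₁⁻¹ = x := by
    intro x
    rw [hA', Subgroup.mem_map]
    simp [MulAut.conj_apply]
  have hA'p : IsPGroup s A' := by rw [hA']; exact hA.map _
  have hk₁KA : k₁ ∈ K ⊔ A := (le_sup_left : K ≤ K ⊔ A) hk₁K
  have hA'L : A' ≤ L := by
    rw [hL]
    refine le_inf ?_ (h9_pr_le_normalizer A' V₁ ?_)
    · intro x hx
      obtain ⟨a, ha, rfl⟩ := (memA' x).mp hx
      exact (K ⊔ A).mul_mem ((K ⊔ A).mul_mem hk₁KA ((le_sup_right : A ≤ K ⊔ A) ha))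
        ((K ⊔ A).inv_mem hk₁KA)
    · intro x hx v hv
      obtain ⟨a, ha, rfl⟩ := (memA' x).mp hx
      have h2 := hk₁ _ (hn0 a ha _ (hk₁' v hv))
      have e : k₁ * a * k₁⁻¹ * v * (k₁ * a * k₁⁻¹)⁻¹ = k₁ * (a * (k₁⁻¹ * v * k₁) * a⁻¹) * k₁⁻¹ := by
        group
      rw [e]; exact h2
  have hmaxA : ∀ Q : Subgroup G, IsPGroup s Q → A ≤ Q → Q ≤ L → Q ≤ A :=
    fun Q hQ hAQ hQL => M1 Q hQ hAQ (hQL.trans hLKA)
  have hmaxA' : ∀ Q : Subgroup G, IsPGroup s Q → A' ≤ Q → Q ≤ L → Q ≤ A' := by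
    intro Q hQ hA'Q hQL x hx
    have hQ' : IsPGroup s (Q.map (MulAut.conj k₁⁻¹).toMonoidHom) := hQ.map _
    have hAQ' : A ≤ Q.map (MulAut.conj k₁⁻¹).toMonoidHom := by
      intro a ha
      rw [Subgroup.mem_map]
      refine ⟨k₁ * a * k₁⁻¹, hA'Q ((memA' _).mpr ⟨a, ha, rfl⟩), ?_⟩
      simp [mul_assoc]
    have hQ'KA : Q.map (MulAut.conj k₁⁻¹).toMonoidHom ≤ K ⊔ A := by
      rintro _ ⟨y, hy, rfl⟩
      have hy' : y ∈ K ⊔ A := hLKA (hQL hy)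
      simp only [MulEquiv.coe_toMonoidHom, MulAut.conj_apply, inv_inv]
      exact (K ⊔ A).mul_mem ((K ⊔ A).mul_mem ((K ⊔ A).inv_mem hk₁KA) hy') hk₁KA
    have hxA : k₁⁻¹ * x * k₁ ∈ A := by
      apply M1 _ hQ' hAQ' hQ'KA
      rw [Subgroup.mem_map]
      exact ⟨x, hx, by simp⟩
    exact (memA' x).mpr ⟨_, hxA, by group⟩
  obtain ⟨l, hlL, hl, -⟩ := h9_pr_conj_of_max (p := s) L A A' hA hA'p hAL hA'L hmaxA hmaxA'
  obtain ⟨k₂, hk₂, a₀, ha₀, hla⟩ := Subgroup.mem_sup_of_normal_left.mp (hLKA hlL)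
  have hlN := Subgroup.mem_normalizer_iff.mp (hLN hlL)
  refine ⟨l * k₁ * a₀⁻¹, ?_, ?_, ?_⟩
  · have e : l * k₁ * a₀⁻¹ = k₂ * (a₀ * k₁ * a₀⁻¹) := by rw [← hla]; group
    rw [e]
    exact K.mul_mem hk₂ (Subgroup.Normal.conj_mem inferInstance k₁ hk₁K a₀)
  · intro a ha
    have h3 : a₀⁻¹ * a * a₀ ∈ A := A.mul_mem (A.mul_mem (A.inv_mem ha₀) ha) ha₀
    have h4 := hl _ ((memA' _).mpr ⟨_, h3, rfl⟩)
    have e : l * k₁ * a₀⁻¹ * a * (l * k₁ * a₀⁻¹)⁻¹ = l * (k₁ * (a₀⁻¹ * a * a₀) * k₁⁻¹) * l⁻¹ := by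
      group
    rw [e]; exact h4
  · intro v hv
    have h3 : a₀⁻¹ * v * a₀ ∈ V₀ := by
      have := hn0 a₀⁻¹ (A.inv_mem ha₀) v hv
      simpa using this
    have h4 := (hlN _).mp (hk₁ _ h3)
    have e : l * k₁ * a₀⁻¹ * v * (l * k₁ * a₀⁻¹)⁻¹ = l * (k₁ * (a₀⁻¹ * v * a₀) * k₁⁻¹) * l⁻¹ := by
      group
    rw [e]; exact h4

end Cfsg.Agent.Lib.Helper8.PR
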