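import Mathlib

/-!
# S4033 piece A5: if all `r`-elements (`r ∉ {p, q}`) are central then `G = (P ⊔ Q) × A` with `A`
central
-/

set_option autoImplicit false
set_option linter.unusedVariables false
set_option linter.unusedSectionVars false
set_option linter.style.longLine false
set_option linter.style.haveILetI false

namespace Cfsg.Agent.Lib.Helper8.PR

/-- the central elements of order prime to `N` form a subgroup -/
def h9_prCentralCoprime (G : Type*) [Group G] (N : ℕ) : Subgroup G where
  carrier := {z | z ∈ Subgroup.center G ∧ (orderOf z).Coprime N}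
  one_mem' := ⟨Subgroup.one_mem _, by simp⟩
  mul_mem' := by
    rintro a b ⟨ha, ha'⟩ ⟨hb, hb'⟩
    refine ⟨Subgroup.mul_mem _ ha hb, ?_⟩
    have hc : Commute a b := (Subgroup.mem_center_iff.mp ha b).symm
    exact Nat.Coprime.coprime_dvd_left hc.orderOf_mul_dvd_lcm
      (Nat.Coprime.coprime_dvd_left (Nat.lcm_dvd_mul _ _) (Nat.Coprime.mul_left ha' hb'))
  inv_mem' := by
    rintro a ⟨ha, ha'⟩
    exact ⟨Subgroup.inv_mem _ ha, by rw [orderOf_inv]; exact ha'⟩

theorem h9_mem_prCentralCoprime {G : Type*} [Group G] {N : ℕ} {z : G} :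
    z ∈ h9_prCentralCoprime G N ↔ z ∈ Subgroup.center G ∧ (orderOf z).Coprime N := Iff.rfl

theorem h9_prCentralCoprime_le_center (G : Type*) [Group G] (N : ℕ) :
    h9_prCentralCoprime G N ≤ Subgroup.center G := fun _ hz => hz.1

theorem concl_two {G : Type*} [Group G] [Finite G] {p q : ℕ} (hp : p.Prime) (hq : q.Prime)
    (hqp : q ≠ p)
    (h : ∀ r : ℕ, r.Prime → r ≠ p → r ≠ q → ∀ x : G, (∃ k : ℕ, orderOf x = r ^ k) →
      x ∈ Subgroup.center G) :
    ∃ (q : ℕ) (_ : Fact q.Prime) (P : Sylow p G) (Q : Sylow q G) (A : Subgroup G), q ≠ p ∧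
        A ≤ Subgroup.center G ∧
        Nat.card ↥((P : Subgroup G) ⊔ (Q : Subgroup G)) = Nat.card P * Nat.card Q ∧
        ((P : Subgroup G) ⊔ (Q : Subgroup G)).Normal ∧
        ((P : Subgroup G) ⊔ (Q : Subgroup G)) ⊓ A = ⊥ ∧
        ((P : Subgroup G) ⊔ (Q : Subgroup G)) ⊔ A = ⊤ := by
  haveI : Fact p.Prime := ⟨hp⟩
  haveI : Fact q.Prime := ⟨hq⟩
  obtain ⟨A, hAdef⟩ : ∃ A : Subgroup G, A = h9_prCentralCoprime G (p * q) := ⟨_, rfl⟩
  have hAc : A ≤ Subgroup.center G := by rw [hAdef]; exact h9_prCentralCoprime_le_center G _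
  have hAn : A.Normal := by
    refine ⟨fun n hn g => ?_⟩
    have : g * n * g⁻¹ = n := by
      rw [Subgroup.mem_center_iff.mp (hAc hn) g]; group
    rw [this]; exact hn
  have hn0 : Nat.card G ≠ 0 := Nat.card_pos.ne'
  have hA0 : Nat.card A ≠ 0 := Nat.card_pos.ne'
  have hm0 : A.index ≠ 0 := Subgroup.index_ne_zero_of_finite
  have F1 : A.index * Nat.card A = Nat.card G := Subgroup.index_mul_card A
  -- (i) primes dividing `|A|` are different from `p`, `q`
  have Fi : ∀ r : ℕ, r.Prime → r ∣ Nat.card A → r ≠ p ∧ r ≠ q := by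
    intro r hr hdvd
    haveI : Fact r.Prime := ⟨hr⟩
    obtain ⟨x, hx⟩ := exists_prime_orderOf_dvd_card' (G := A) r hdvd
    have hx' : orderOf (x : G) = r := by rw [Subgroup.orderOf_coe]; exact hx
    have hxA : (x : G) ∈ h9_prCentralCoprime G (p * q) := by rw [← hAdef]; exact x.2
    have hco := hxA.2
    rw [hx'] at hco
    constructor
    · rintro rfl
      exact hr.one_lt.ne' (Nat.Coprime.eq_one_of_dvd hco (dvd_mul_right _ _))
    · rintro rfl
      exact hr.one_lt.ne' (Nat.Coprime.eq_one_of_dvd hco (dvd_mul_left _ _))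
  -- (ii) for other primes the full `r`-part of `|G|` divides `|A|`
  have Fii : ∀ r : ℕ, r.Prime → r ≠ p → r ≠ q → A.index.factorization r = 0 := by
    intro r hr hrp hrq
    haveI : Fact r.Prime := ⟨hr⟩
    obtain ⟨R⟩ : Nonempty (Sylow r G) := Sylow.nonempty
    have hRA : (R : Subgroup G) ≤ A := by
      intro x hx
      obtain ⟨k, hk⟩ := R.isPGroup' ⟨x, hx⟩
      have hk' : x ^ r ^ k = 1 := by
        have := congrArg Subtype.val hk
        simpa using this
      obtain ⟨k', _, hk''⟩ := (Nat.dvd_prime_pow hr).mp (orderOf_dvd_of_pow_eq_one hk')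
      rw [hAdef]
      refine ⟨h r hr hrp hrq x ⟨k', hk''⟩, ?_⟩
      rw [hk'']
      exact Nat.Coprime.pow_left _ (Nat.Coprime.mul_right ((Nat.coprime_primes hr hp).mpr hrp)
        ((Nat.coprime_primes hr hq).mpr hrq))
    have h1 : Nat.card R ∣ Nat.card A := Subgroup.card_dvd_of_le hRA
    rw [Sylow.card_eq_multiplicity] at h1
    have h2 : (Nat.card G).factorization r ≤ (Nat.card A).factorization r :=
      (hr.pow_dvd_iff_le_factorization hA0).mp h1
    have h3 : (Nat.card G).factorization r =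
        A.index.factorization r + (Nat.card A).factorization r := by
      rw [← F1, Nat.factorization_mul hm0 hA0]; rfl
    omega
  have Fiii : ∀ r : ℕ, r.Prime → (r = p ∨ r = q) →
      A.index.factorization r = (Nat.card G).factorization r := by
    intro r hr hrpq
    have h3 : (Nat.card G).factorization r =
        A.index.factorization r + (Nat.card A).factorization r := by
      rw [← F1, Nat.factorization_mul hm0 hA0]; rfl
    have h4 : (Nat.card A).factorization r = 0 := by
      apply Nat.factorization_eq_zero_of_not_dvd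
      intro hdvd
      obtain ⟨h5, h6⟩ := Fi r hr hdvd
      rcases hrpq with rfl | rfl
      · exact h5 rfl
      · exact h6 rfl
    omega
  have Fco : Nat.Coprime (Nat.card A) A.index := by
    apply Nat.coprime_of_dvd
    intro r hr hrA hrm
    obtain ⟨h5, h6⟩ := Fi r hr hrA
    have := Fii r hr h5 h6
    have h7 : 1 ≤ A.index.factorization r :=
      (hr.pow_dvd_iff_le_factorization hm0).mp (by simpa using hrm)
    omega
  have Fm : A.index = p ^ (Nat.card G).factorization p * q ^ (Nat.card G).factorization q := by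
    apply Nat.eq_of_factorization_eq hm0
      (mul_ne_zero (pow_ne_zero _ hp.ne_zero) (pow_ne_zero _ hq.ne_zero))
    intro r
    rw [Nat.factorization_mul (pow_ne_zero _ hp.ne_zero) (pow_ne_zero _ hq.ne_zero),
      hp.factorization_pow, hq.factorization_pow]
    simp only [Finsupp.coe_add, Pi.add_apply]
    by_cases hr : r.Prime
    · by_cases hrp : r = p
      · subst hrp
        rw [Fiii r hr (Or.inl rfl)]
        simp [hqp]
      · by_cases hrq : r = q
        · subst hrq
          rw [Fiii r hr (Or.inr rfl)]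
          simp [Ne.symm hrp]
        · rw [Fii r hr hrp hrq]
          simp [Ne.symm hrp, Ne.symm hrq]
    · rw [Nat.factorization_eq_zero_of_not_prime _ hr]
      have h1 : p ≠ r := by rintro rfl; exact hr hp
      have h2 : q ≠ r := by rintro rfl; exact hr hq
      simp [h1, h2]
  -- Schur–Zassenhaus
  obtain ⟨K, hK⟩ := Subgroup.exists_left_complement'_of_coprime Fco
  have hKcard : Nat.card K = A.index := hK.index_eq_card.symm
  have hKtop : K ⊔ A = ⊤ := hK.sup_eq_top
  have hKn : K.Normal := by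
    refine ⟨fun n hn g => ?_⟩
    have hg : g ∈ K ⊔ A := by rw [hKtop]; trivial
    obtain ⟨k, hk, a, ha, rfl⟩ := Subgroup.mem_sup_of_normal_right.mp hg
    have hac := Subgroup.mem_center_iff.mp (hAc ha)
    have e : k * a * n * (k * a)⁻¹ = k * n * k⁻¹ := by
      have : a * n = n * a := (hac n).symm
      calc k * a * n * (k * a)⁻¹ = k * (a * n) * a⁻¹ * k⁻¹ := by group
        _ = k * (n * a) * a⁻¹ * k⁻¹ := by rw [this]
        _ = k * n * k⁻¹ := by group
    rw [e]
    exact K.mul_mem (K.mul_mem hk hn) (K.inv_mem hk)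
  -- Sylow subgroups inside `K`
  have hfac : ∀ r : ℕ, r.Prime → (r = p ∨ r = q) →
      (Nat.card K).factorization r = (Nat.card G).factorization r := by
    intro r hr hrpq
    rw [hKcard]; exact Fiii r hr hrpq
  obtain ⟨P'⟩ : Nonempty (Sylow p K) := Sylow.nonempty
  obtain ⟨Q'⟩ : Nonempty (Sylow q K) := Sylow.nonempty
  have hPc : Nat.card ((P' : Subgroup K).map K.subtype) = p ^ (Nat.card G).factorization p := by
    rw [Subgroup.card_map_of_injective K.subtype_injective, Sylow.card_eq_multiplicity,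
      hfac p hp (Or.inl rfl)]
  have hQc : Nat.card ((Q' : Subgroup K).map K.subtype) = q ^ (Nat.card G).factorization q := by
    rw [Subgroup.card_map_of_injective K.subtype_injective, Sylow.card_eq_multiplicity,
      hfac q hq (Or.inr rfl)]
  have hPK : ((Sylow.ofCard _ hPc : Sylow p G) : Subgroup G) ≤ K := by
    rw [Sylow.coe_ofCard]; exact Subgroup.map_subtype_le _
  have hQK : ((Sylow.ofCard _ hQc : Sylow q G) : Subgroup G) ≤ K := by
    rw [Sylow.coe_ofCard]; exact Subgroup.map_subtype_le _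
  obtain ⟨P, hP⟩ : ∃ P : Sylow p G, (P : Subgroup G) ≤ K := ⟨_, hPK⟩
  obtain ⟨Q, hQ⟩ : ∃ Q : Sylow q G, (Q : Subgroup G) ≤ K := ⟨_, hQK⟩
  have hPcard : Nat.card P = p ^ (Nat.card G).factorization p := Sylow.card_eq_multiplicity P
  have hQcard : Nat.card Q = q ^ (Nat.card G).factorization q := Sylow.card_eq_multiplicity Q
  have hPQK : (P : Subgroup G) ⊔ (Q : Subgroup G) ≤ K := sup_le hP hQ
  have hcop : Nat.Coprime (Nat.card P) (Nat.card Q) := by
    rw [hPcard, hQcard]
    exact Nat.Coprime.pow _ _ ((Nat.coprime_primes hp hq).mpr (Ne.symm hqp))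
  have hcard : Nat.card ↥((P : Subgroup G) ⊔ (Q : Subgroup G)) = Nat.card P * Nat.card Q := by
    apply Nat.dvd_antisymm
    · have := Subgroup.card_dvd_of_le hPQK
      rwa [hKcard, Fm, ← hPcard, ← hQcard] at this
    · exact Nat.Coprime.mul_dvd_of_dvd_of_dvd hcop
        (Subgroup.card_dvd_of_le le_sup_left) (Subgroup.card_dvd_of_le le_sup_right)
  have hEq : (P : Subgroup G) ⊔ (Q : Subgroup G) = K := by
    apply Subgroup.eq_of_le_of_card_ge hPQK
    rw [hcard, hKcard, Fm, hPcard, hQcard]
  refine ⟨q, ⟨hq⟩, P, Q, A, hqp, hAc, hcard, ?_, ?_, ?_⟩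
  · rw [hEq]; exact hKn
  · rw [hEq]; exact disjoint_iff.mp hK.disjoint
  · rw [hEq]; exact hKtop

end Cfsg.Agent.Lib.Helper8.PR
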