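import Mathlib
import Cfsg.Agent.Lib.Helper4.PRKW

/-!
# S4033 piece A6: `KW` modulo a central subgroup
-/

set_option autoImplicit false
set_option linter.unusedVariables false
set_option linter.unusedSectionVars false
set_option linter.style.longLine false
set_option linter.style.haveILetI false

namespace Cfsg.Agent.Lib.Helper8.PR

variable {G : Type*} [Group G]

theorem KWcentral [Finite G] {p s : ℕ} (hp : p.Prime) (hs : s.Prime) (Z₀ : Subgroup G)
    (hZ : Z₀ ≤ Subgroup.center G) (y : G) (hy : y ∉ Z₀) (hys : ∃ j : ℕ, orderOf y = s ^ j)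
    (M : Subgroup G) (hM : ∀ c ∈ M, y⁻¹ * c⁻¹ * y * c ∈ Z₀) (hMi : ∃ k : ℕ, M.index = p ^ k) :
    ∃ K : Subgroup G, K.Normal ∧ Z₀ ≤ K ∧ K ≤ Subgroup.normalClosure ({y} : Set G) ⊔ Z₀ ∧
      y ∉ K ∧ ∀ x ∈ Subgroup.normalClosure ({y} : Set G) ⊔ Z₀, (orderOf x).Coprime s → x ∈ K := by
  haveI hZn : Z₀.Normal := by
    refine ⟨fun n hn g => ?_⟩
    have : g * n * g⁻¹ = n := by
      rw [Subgroup.mem_center_iff.mp (hZ hn) g]; group
    rw [this]; exact hn
  obtain ⟨π, hπ⟩ : ∃ π : G →* G ⧸ Z₀, π = QuotientGroup.mk' Z₀ := ⟨_, rfl⟩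
  have hπs : Function.Surjective π := by rw [hπ]; exact QuotientGroup.mk'_surjective Z₀
  have hπ1 : ∀ g : G, π g = 1 ↔ g ∈ Z₀ := by
    intro g; rw [hπ]; exact QuotientGroup.eq_one_iff g
  have hx1 : π y ≠ 1 := fun h1 => hy ((hπ1 y).mp h1)
  obtain ⟨j, hj⟩ := hys
  have hxs : ∃ j' : ℕ, orderOf (π y) = s ^ j' := by
    have hdvd : orderOf (π y) ∣ s ^ j := by rw [← hj]; exact orderOf_map_dvd π y
    obtain ⟨j', _, hj'⟩ := (Nat.dvd_prime_pow hs).mp hdvd
    exact ⟨j', hj'⟩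
  obtain ⟨k, hk⟩ := hMi
  have hcl : ∃ k' : ℕ, (Subgroup.centralizer ({π y} : Set (G ⧸ Z₀))).index = p ^ k' := by
    have hle : M.map π ≤ Subgroup.centralizer ({π y} : Set (G ⧸ Z₀)) := by
      rintro _ ⟨c, hc, rfl⟩
      rw [Subgroup.mem_centralizer_iff]
      intro h hh
      rw [Set.mem_singleton_iff] at hh
      subst hh
      have h1 : π (y⁻¹ * c⁻¹ * y * c) = 1 := (hπ1 _).mpr (hM c hc)
      rw [map_mul, map_mul, map_mul, map_inv, map_inv] at h1
      calc π y * π c = π c * π y * ((π y)⁻¹ * (π c)⁻¹ * π y * π c) := by group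
        _ = π c * π y := by rw [h1, mul_one]
    have hdvd : (Subgroup.centralizer ({π y} : Set (G ⧸ Z₀))).index ∣ p ^ k := by
      rw [← hk]
      exact (Subgroup.index_dvd_of_le hle).trans (Subgroup.index_map_dvd M hπs)
    obtain ⟨k', _, hk'⟩ := (Nat.dvd_prime_pow hp).mp hdvd
    exact ⟨k', hk'⟩
  obtain ⟨Kb, hKn, hxK, hKle, hKco⟩ := KW hp hs (π y) hx1 hxs hcl
  have hmapnc : (Subgroup.normalClosure ({y} : Set G)).map π
      = Subgroup.normalClosure ({π y} : Set (G ⧸ Z₀)) := by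
    rw [Subgroup.map_normalClosure _ _ hπs, Set.image_singleton]
  refine ⟨Kb.comap π, hKn.comap π, ?_, ?_, ?_, ?_⟩
  · intro z hz
    rw [Subgroup.mem_comap, (hπ1 z).mpr hz]
    exact Kb.one_mem
  · intro g hg
    rw [Subgroup.mem_comap] at hg
    have h1 : π g ∈ (Subgroup.normalClosure ({y} : Set G)).map π := by
      rw [hmapnc]; exact hKle hg
    obtain ⟨n, hn, hng⟩ := h1
    have h2 : n⁻¹ * g ∈ Z₀ := by
      rw [← hπ1, map_mul, map_inv, hng]; group
    have : g = n * (n⁻¹ * g) := by group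
    rw [this]
    exact Subgroup.mul_mem_sup hn h2
  · exact fun h => hxK h
  · intro x hx hco
    rw [Subgroup.mem_comap]
    apply hKco
    · have h1 : π x ∈ (Subgroup.normalClosure ({y} : Set G) ⊔ Z₀).map π := ⟨x, hx, rfl⟩
      rw [Subgroup.map_sup, hmapnc] at h1
      have h2 : Z₀.map π = ⊥ := by
        rw [eq_bot_iff]
        rintro _ ⟨z, hz, rfl⟩
        rw [Subgroup.mem_bot]; exact (hπ1 z).mpr hz
      rw [h2, sup_bot_eq] at h1
      exact h1
    · exact Nat.Coprime.coprime_dvd_left (orderOf_map_dvd π x) hco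

end Cfsg.Agent.Lib.Helper8.PR
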