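import Mathlib
import Cfsg.Agent.Lib.Helper8.PRDefs
import Cfsg.Agent.Lib.Helper9.PRA3
import Cfsg.Agent.Lib.Helper9.PRB3a
import Cfsg.Agent.Lib.Helper4.PRB5

/-!
# S4033 piece B7: the index of `N(BB p g)` is a power of `p`
-/

set_option autoImplicit false
set_option linter.unusedVariables false
set_option linter.unusedSectionVars false
set_option linter.style.longLine false
set_option linter.style.haveILetI false

namespace Cfsg.Agent.Lib.Helper8.PR

variable {G : Type*} [Group G]

/-- B7 with B6 (`conj_into_BB`) as a hypothesis -/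
theorem h9_index_normalizer_BB_aux [Finite G] {p m : ℕ} (H : Hyp G p m) (h2 : TwoRho G p) {g : G}
    (hg : PReg p g) (hgz : g ∉ Subgroup.center G)
    (hB6 : ∀ x : G, PReg p x → x ∉ Subgroup.center G → ∃ h : G, h * x * h⁻¹ ∈ BB p g) :
    ∃ a : ℕ, (Subgroup.normalizer ((BB p g : Subgroup G) : Set G)).index = p ^ a := by
  obtain ⟨N, hN⟩ : ∃ N : Subgroup G, N = Subgroup.normalizer ((BB p g : Subgroup G) : Set G) :=
    ⟨_, rfl⟩
  rw [← hN]
  have hN0 : N.index ≠ 0 := Subgroup.index_ne_zero_of_finite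
  refine ⟨_, Nat.eq_prime_pow_of_unique_prime_dvd hN0 ?_⟩
  intro t ht htN
  by_contra htp
  haveI : Fact t.Prime := ⟨ht⟩
  have hCN : Subgroup.centralizer ({g} : Set G) ≤ N := by
    rw [hN]; exact cent_le_normalizer_BB p g
  have hidx : idx g = m := (H.cls g hg).resolve_left hgz
  have htm : t ∣ m := by
    rw [← hidx]
    exact htN.trans (Subgroup.index_dvd_of_le hCN)
  obtain ⟨T⟩ : Nonempty (Sylow t G) := Sylow.nonempty
  obtain ⟨y, hyT, hyz, hTN⟩ := sylow_le_normalizer H h2 htp htm T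
  have hyp : PReg p y := by
    obtain ⟨k, hk⟩ := h4_isPow_of_mem_sylow T hyT
    unfold PReg
    rw [hk]
    exact Nat.Coprime.pow_left _ ((Nat.coprime_primes ht H.hp).mpr htp)
  obtain ⟨h, hh⟩ := hB6 y hyp hyz
  have hhz : h * y * h⁻¹ ∉ Subgroup.center G := by
    intro hz
    apply hyz
    have := (Subgroup.center G).normal_of_characteristic.conj_mem _ hz h⁻¹
    have e : h⁻¹ * (h * y * h⁻¹) * h⁻¹⁻¹ = y := by group
    rwa [e] at this
  have hBeq : BB p g = (BB p y).map (MulAut.conj h).toMonoidHom := by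
    rw [← BB_eq_of_mem H hg hgz hh hhz, BB_conj]
  have hT'N : (T : Subgroup G).map (MulAut.conj h).toMonoidHom ≤ N := by
    rw [hN]
    apply h9_pr_le_normalizer
    rintro _ ⟨x, hx, rfl⟩ b hb
    rw [hBeq] at hb ⊢
    obtain ⟨b₁, hb₁, rfl⟩ := hb
    refine ⟨x * b₁ * x⁻¹, (Subgroup.mem_normalizer_iff.mp (hTN hx) b₁).mp hb₁, ?_⟩
    simp only [MulEquiv.coe_toMonoidHom, MulAut.conj_apply]
    group
  have hcard : Nat.card ((T : Subgroup G).map (MulAut.conj h).toMonoidHom)
      = t ^ (Nat.card G).factorization t := by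
    rw [Subgroup.card_map_of_injective (MulAut.conj h).injective]
    exact Sylow.card_eq_multiplicity T
  have h1 : t ^ (Nat.card G).factorization t ∣ Nat.card N := by
    rw [← hcard]; exact Subgroup.card_dvd_of_le hT'N
  have h3 : t ^ ((Nat.card G).factorization t + 1) ∣ Nat.card G := by
    have h4 := mul_dvd_mul h1 htN
    rwa [Subgroup.card_mul_index N, ← pow_succ] at h4
  exact Nat.pow_succ_factorization_not_dvd Nat.card_pos.ne' ht h3

end Cfsg.Agent.Lib.Helper8.PR
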