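import Mathlib
import Cfsg.Agent.Lib.Helper8.PRDefs
import Cfsg.Agent.Lib.Helper9.PRB3a

/-!
# S4033 piece B9: the index of `C(g) ⊔ S` is a power of `p`
-/

set_option autoImplicit false
set_option linter.unusedVariables false
set_option linter.unusedSectionVars false
set_option linter.style.longLine false
set_option linter.style.haveILetI false

namespace Cfsg.Agent.Lib.Helper8.PR

variable {G : Type*} [Group G]

/-- `C(g) = C(BB p g)` is normalized by `N(BB p g)` -/
theorem h9_cent_conj_mem [Finite G] {p m : ℕ} (H : Hyp G p m) {g : G} (hg : PReg p g)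
    (hgz : g ∉ Subgroup.center G) {n c : G}
    (hn : n ∈ Subgroup.normalizer ((BB p g : Subgroup G) : Set G))
    (hc : c ∈ Subgroup.centralizer ({g} : Set G)) :
    n * c * n⁻¹ ∈ Subgroup.centralizer ({g} : Set G) := by
  have hCB := centralizer_BB H hg hgz
  rw [← hCB] at hc ⊢
  rw [Subgroup.mem_centralizer_iff] at hc ⊢
  intro b hb
  have hb' : n⁻¹ * b * n ∈ (BB p g : Set G) := by
    have := (Subgroup.mem_normalizer_iff.mp (Subgroup.inv_mem _ hn) b).mp hb
    rwa [inv_inv] at this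
  have h1 := hc _ hb'
  calc b * (n * c * n⁻¹) = n * (n⁻¹ * b * n * c) * n⁻¹ := by group
    _ = n * (c * (n⁻¹ * b * n)) * n⁻¹ := by rw [h1]
    _ = n * c * n⁻¹ * b := by group

/-- B9 with B7 and B8b as hypotheses -/
theorem h9_pow_index_CS_aux [Finite G] {p m : ℕ} (H : Hyp G p m) (h2 : TwoRho G p) {g : G}
    (hg : PReg p g) (hgz : g ∉ Subgroup.center G) {s : ℕ} [Fact s.Prime] (hsp : s ≠ p)
    (S : Sylow s G)
    (hS : (S : Subgroup G) ≤ Subgroup.normalizer ((BB p g : Subgroup G) : Set G))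
    (hSC : ¬ (S : Subgroup G) ≤ Subgroup.centralizer ({g} : Set G))
    (hB7 : ∃ a : ℕ, (Subgroup.normalizer ((BB p g : Subgroup G) : Set G)).index = p ^ a)
    (hB8b : ∀ r₁ r₂ : ℕ, r₁.Prime → r₂.Prime → r₁ ≠ p → r₂ ≠ p →
      r₁ ∣ (Subgroup.centralizer ({g} : Set G)).relIndex
        (Subgroup.normalizer ((BB p g : Subgroup G) : Set G)) →
      r₂ ∣ (Subgroup.centralizer ({g} : Set G)).relIndex
        (Subgroup.normalizer ((BB p g : Subgroup G) : Set G)) → r₁ = r₂) :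
    ∃ k : ℕ, (Subgroup.centralizer ({g} : Set G) ⊔ (S : Subgroup G)).index = p ^ k := by
  have hs : s.Prime := Fact.out
  obtain ⟨N, hN⟩ : ∃ N : Subgroup G, N = Subgroup.normalizer ((BB p g : Subgroup G) : Set G) :=
    ⟨_, rfl⟩
  obtain ⟨C, hC⟩ : ∃ C : Subgroup G, C = Subgroup.centralizer ({g} : Set G) := ⟨_, rfl⟩
  rw [← hN] at hS hB7 hB8b
  rw [← hC] at hSC hB8b ⊢
  have hCN : C ≤ N := by rw [hC, hN]; exact cent_le_normalizer_BB p g
  have hDN : C ⊔ (S : Subgroup G) ≤ N := sup_le hCN hS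
  have hD0 : (C ⊔ (S : Subgroup G)).index ≠ 0 := Subgroup.index_ne_zero_of_finite
  -- `s` divides `|N : C|`
  have hsdvd : s ∣ C.relIndex N := by
    haveI hCn : (C.subgroupOf N).Normal := by
      refine ⟨fun c hc n => ?_⟩
      rw [Subgroup.mem_subgroupOf] at hc ⊢
      have h1 : (n : G) ∈ Subgroup.normalizer ((BB p g : Subgroup G) : Set G) := by
        rw [← hN]; exact n.2
      have := h9_cent_conj_mem H hg hgz h1 (by rw [← hC]; exact hc)
      rw [← hC] at this
      exact this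
    obtain ⟨x, hxS, hxC⟩ := SetLike.not_le_iff_exists.mp hSC
    obtain ⟨k, hk⟩ := (IsPGroup.iff_orderOf.mp S.isPGroup') ⟨x, hxS⟩
    have hk' : orderOf x = s ^ k := by
      rw [← hk]; exact Subgroup.orderOf_coe (⟨x, hxS⟩ : (S : Subgroup G))
    obtain ⟨xb, hxb⟩ : ∃ xb : ↥N ⧸ C.subgroupOf N,
        xb = QuotientGroup.mk' (C.subgroupOf N) ⟨x, hS hxS⟩ := ⟨_, rfl⟩
    have hxb1 : xb ≠ 1 := by
      rw [hxb]
      intro h1
      rw [QuotientGroup.mk'_apply, QuotientGroup.eq_one_iff, Subgroup.mem_subgroupOf] at h1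
      exact hxC h1
    have hdvd : orderOf xb ∣ s ^ k := by
      rw [hxb, ← hk']
      have h1 := orderOf_map_dvd (QuotientGroup.mk' (C.subgroupOf N)) (⟨x, hS hxS⟩ : ↥N)
      have h2 : orderOf (⟨x, hS hxS⟩ : ↥N) = orderOf x :=
        (Subgroup.orderOf_coe (⟨x, hS hxS⟩ : ↥N)).symm
      rwa [h2] at h1
    obtain ⟨j, _, hj⟩ := (Nat.dvd_prime_pow hs).mp hdvd
    have hj0 : j ≠ 0 := by
      rintro rfl
      rw [pow_zero, orderOf_eq_one_iff] at hj
      exact hxb1 hj
    have h3 : s ∣ orderOf xb := by rw [hj]; exact dvd_pow_self s hj0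
    have h4 : orderOf xb ∣ Nat.card (↥N ⧸ C.subgroupOf N) := orderOf_dvd_natCard xb
    exact h3.trans h4
  obtain ⟨a, ha⟩ := hB7
  refine ⟨_, Nat.eq_prime_pow_of_unique_prime_dvd hD0 ?_⟩
  intro r hr hrD
  by_contra hrp
  by_cases hrs : r = s
  · subst hrs
    have h1 : (C ⊔ (S : Subgroup G)).index ∣ (S : Subgroup G).index :=
      Subgroup.index_dvd_of_le le_sup_right
    exact S.not_dvd_index (hrD.trans h1)
  · have h1 : (C ⊔ (S : Subgroup G)).relIndex N * N.index = (C ⊔ (S : Subgroup G)).index :=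
      Subgroup.relIndex_mul_index hDN
    rw [← h1] at hrD
    rcases (Nat.Prime.dvd_mul hr).mp hrD with h3 | h3
    · have h4 : C.relIndex (C ⊔ (S : Subgroup G)) * (C ⊔ (S : Subgroup G)).relIndex N
          = C.relIndex N := Subgroup.relIndex_mul_relIndex _ _ _ le_sup_left hDN
      have h5 : r ∣ C.relIndex N := by rw [← h4]; exact Dvd.dvd.mul_left h3 _
      exact hrs (hB8b r s hr hs hrp hsp h5 hsdvd)
    · rw [ha] at h3
      exact hrp ((Nat.prime_dvd_prime_iff_eq hr H.hp).mp (hr.dvd_of_dvd_pow h3))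

end Cfsg.Agent.Lib.Helper8.PR
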