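import Mathlib

set_option maxHeartbeats 1600000
set_option linter.unusedVariables false
set_option linter.unusedSimpArgs false
set_option linter.unusedSectionVars false
set_option linter.style.longLine false

namespace Cfsg.Agent.Lib.Helper9.Fix4

theorem card_fixed_eq_four {G : Type*} [Group G] [Finite G] {Ω : Type*} [Fintype Ω] [DecidableEq Ω] [MulAction G Ω] (hΩ : Fintype.card Ω = 13) (a₀ : Ω) (N D : Subgroup G) (hDN : D ≤ N) (hN : ∀ n ∈ N, n • a₀ = a₀) (hD : Nat.card D = 9) (hconj : ∀ d ∈ D, ∀ d' ∈ D, d ≠ 1 → d' ≠ 1 → ∃ n ∈ N, n * d * n⁻¹ = d') (hstab : ∀ b : Ω, b ≠ a₀ → Nat.card (D ⊓ MulAction.stabilizer G b : Subgroup G) = 3) : ∀ d ∈ D, d ≠ 1 → (Finset.univ.filter (fun b : Ω => d • b = b)).card = 4 := by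
  classical
  have : Fintype G := Fintype.ofFinite G
  intro d₀ hd₀ hd₀1
  set F : G → Finset Ω := fun d => Finset.univ.filter (fun b : Ω => b ≠ a₀ ∧ d • b = b) with hF
  have hle : ∀ d ∈ D, ∀ d' ∈ D, d ≠ 1 → d' ≠ 1 → (F d).card ≤ (F d').card := by
    intro d hd d' hd' h1 h1'
    obtain ⟨n, hn, hnd⟩ := hconj d hd d' hd' h1 h1'
    apply Finset.card_le_card_of_injOn (fun b => n • b)
    · intro b hb
      simp only [hF, Finset.coe_filter, Finset.mem_univ, true_and, Set.mem_ofPred_eq] at hb ⊢
      refine ⟨?_, ?_⟩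
      · intro h
        apply hb.1
        have : n • b = n • a₀ := by rw [h, hN n hn]
        exact MulAction.injective n this
      · rw [← hnd, mul_smul, mul_smul, inv_smul_smul, hb.2]
    · intro x _ y _ h
      exact MulAction.injective n h
  have heq : ∀ d ∈ D, d ≠ 1 → (F d).card = (F d₀).card := fun d hd h1 =>
    le_antisymm (hle d hd d₀ hd₀ h1 hd₀1) (hle d₀ hd₀ d hd hd₀1 h1)
  set S : Finset G := Finset.univ.filter (fun g : G => g ∈ D ∧ g ≠ 1) with hS
  set T : Finset Ω := Finset.univ.filter (fun b : Ω => b ≠ a₀) with hT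
  have hScard : S.card = 8 := by
    have h9 : (Finset.univ.filter (fun g : G => g ∈ D)).card = 9 := by
      rw [← hD, Nat.card_eq_fintype_card, Fintype.card_subtype]
    have : S = (Finset.univ.filter (fun g : G => g ∈ D)).erase 1 := by
      ext g; simp [hS, and_comm]
    rw [this, Finset.card_erase_of_mem (by simp [D.one_mem]), h9]
  have hTcard : T.card = 12 := by
    have : T = Finset.univ.erase a₀ := by ext b; simp [hT]
    rw [this, Finset.card_erase_of_mem (Finset.mem_univ _), Finset.card_univ, hΩ]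
  have hdc : ∑ d ∈ S, ∑ b ∈ T, (if d • b = b then 1 else 0) = ∑ b ∈ T, ∑ d ∈ S, (if d • b = b then 1 else 0) := Finset.sum_comm
  have hrow : ∀ b ∈ T, ∑ d ∈ S, (if d • b = b then 1 else 0) = 2 := by
    intro b hb
    have hb' : b ≠ a₀ := by simpa [hT] using hb
    have h3 : (Finset.univ.filter (fun g : G => g ∈ (D ⊓ MulAction.stabilizer G b : Subgroup G))).card = 3 := by
      rw [← hstab b hb', Nat.card_eq_fintype_card, Fintype.card_subtype]
    have : S.filter (fun d => d • b = b) = (Finset.univ.filter (fun g : G => g ∈ (D ⊓ MulAction.stabilizer G b : Subgroup G))).erase 1 := by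
      ext g
      simp only [hS, Finset.mem_filter, Finset.mem_univ, true_and, Finset.mem_erase, Subgroup.mem_inf, MulAction.mem_stabilizer_iff]
      tauto
    rw [Finset.sum_boole, this, Finset.card_erase_of_mem (by simp [Subgroup.one_mem]), h3]
    rfl
  have hcol : ∀ d ∈ S, ∑ b ∈ T, (if d • b = b then 1 else 0) = (F d₀).card := by
    intro d hd
    have hd' : d ∈ D ∧ d ≠ 1 := by simpa [hS] using hd
    rw [Finset.sum_boole, ← heq d hd'.1 hd'.2]
    have : T.filter (fun b => d • b = b) = F d := by
      ext b; simp [hT, hF]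
    rw [this]; rfl
  rw [Finset.sum_congr rfl hrow, Finset.sum_congr rfl hcol] at hdc
  simp only [Finset.sum_const, hScard, hTcard, smul_eq_mul] at hdc
  have hf : (F d₀).card = 3 := by omega
  have : Finset.univ.filter (fun b : Ω => d₀ • b = b) = insert a₀ (F d₀) := by
    ext b
    simp only [hF, Finset.mem_filter, Finset.mem_univ, true_and, Finset.mem_insert]
    constructor
    · intro h
      by_cases hb : b = a₀
      · exact Or.inl hb
      · exact Or.inr ⟨hb, h⟩
    · rintro (rfl | h)
      · exact hN _ (hDN hd₀)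
      · exact h.2
  rw [this, Finset.card_insert_of_notMem (by simp [hF]), hf]

end Cfsg.Agent.Lib.Helper9.Fix4
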