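import Cfsg.Agent.Lib.Helper8.ZJI0
import Cfsg.Agent.Lib.Helper7.FusionFrattini
import Cfsg.Agent.Lib.Helper7.SylowIn
import Cfsg.Agent.Lib.Helper9.ZJIStep1

/-! S2756 PIECE G (helper9): step 5 `good`, with the earlier pieces (sq, not_inv_quot, chain,
exists_inverted) as explicit hypotheses of the verbatim shapes. -/

set_option autoImplicit false
open scoped Pointwise commutatorElement
universe u v

namespace Cfsg.Agent.Lib.Helper9.ZJI

open Cfsg.Agent.Lib.Helper8.ZJI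

variable {G : Type u} [Group G] [Finite G] {q : ℕ} [hq : Fact q.Prime]

/-- the odd part of a power: a `2`-element in `zpowers n` with controlled image. -/
theorem exists_two_part (n : G) : ∃ m e : ℕ, Odd m ∧ orderOf (n ^ m) = 2 ^ e := by
  have hpos : orderOf n ≠ 0 := (orderOf_pos n).ne'
  obtain ⟨e, m, hm, hnm⟩ := Nat.exists_eq_two_pow_mul_odd hpos
  refine ⟨m, e, hm, ?_⟩
  have hm0 : m ≠ 0 := by
    rintro rfl
    simp at hm
  rw [orderOf_pow_of_dvd hm0 (Dvd.intro_left _ hnm.symm), hnm]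
  exact Nat.mul_div_cancel _ (Nat.pos_of_ne_zero hm0)

theorem good_of
    (hsq : ∀ (B : Subgroup G) [B.Normal], IsPGroup q B → ¬ Inv q (G ⧸ KK q B) → ∀ a : G,
      ⁅⁅B, Subgroup.zpowers a⁆, Subgroup.zpowers a⁆ = ⊥ → a ∉ KK q B →
      ∃ t : G, (∃ k : ℕ, orderOf t = 2 ^ k) ∧ t ∉ KK q B ∧ t * a * t⁻¹ * a⁻¹ ∈ KK q B)
    (hniq : ∀ (K : Subgroup G) [K.Normal], Cfsg.pCore q G ≤ K → ¬ Inv q (G ⧸ K))
    (hchain : ∀ (H' : Subgroup G), ¬ H'.Normal → InvIn q (Subgroup.normalizer (H' : Set G)) →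
      ∀ R0 : Subgroup G, IsPGroup q R0 → R0 ≤ Subgroup.normalizer (H' : Set G) →
      ∃ Ts : Subgroup G, IsPGroup q Ts ∧ R0 ≤ Ts ∧ (ZJ Ts).Normal)
    (hexinv : ∀ (Q : Subgroup G) {s : G}, (∃ k : ℕ, orderOf s = 2 ^ k) →
      (∀ y ∈ Q, s * y * s⁻¹ ∈ Q) → ∀ {y₀ : G}, y₀ ∈ Q → s * y₀ * s⁻¹ ≠ y₀ →
      ∃ s' ∈ Subgroup.zpowers s, ∃ y ∈ Q, y ≠ 1 ∧ s' * y * s'⁻¹ = y⁻¹)
    (hq2 : q ≠ 2)
    (T : Sylow q G) (B : Subgroup G) [hBn : B.Normal] (hB : IsPGroup q B) (a : G)
    (haT : a ∈ (T : Subgroup G))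
    (hquad : ⁅⁅B, Subgroup.zpowers a⁆, Subgroup.zpowers a⁆ = ⊥) (ha : a ∉ KK q B)
    (A0 : Subgroup G) (hA0T : A0 ≤ (T : Subgroup G)) (hA0a : ∀ y ∈ A0, y * a = a * y) :
    ∃ Ts : Subgroup G, IsPGroup q Ts ∧ A0 ≤ Ts ∧ (ZJ Ts).Normal := by
  classical
  set K : Subgroup G := KK q B with hK
  have hKnorm : K.Normal := KK_normal q B
  set P : Subgroup G := Cfsg.pCore q G with hP
  have hTq : IsPGroup q (T : Subgroup G) := T.isPGroup'
  have hBP : B ≤ P := Cfsg.Agent.Lib.Helper1.le_pCore hBn hB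
  have hPT : P ≤ (T : Subgroup G) := Cfsg.Agent.Lib.Helper1.pCore_le_sylow q T
  have hPK : P ≤ K := by
    intro x hx
    change QuotientGroup.mk' (Subgroup.centralizer (B : Set G)) x ∈
      Cfsg.pCore q (G ⧸ Subgroup.centralizer (B : Set G))
    have hn : (P.map (QuotientGroup.mk' (Subgroup.centralizer (B : Set G)))).Normal :=
      Subgroup.Normal.map (Cfsg.Agent.Lib.Helper1.pCore_normal q) _
        (QuotientGroup.mk'_surjective _)
    have hp : IsPGroup q (P.map (QuotientGroup.mk' (Subgroup.centralizer (B : Set G)))) :=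
      (Cfsg.Agent.Lib.Helper1.pCore_isPGroup q).map _
    exact Cfsg.Agent.Lib.Helper1.le_pCore hn hp (Subgroup.mem_map_of_mem _ hx)
  obtain ⟨t, ⟨kt, hkt⟩, htK, htaK⟩ := hsq B hB (hniq K hPK) a hquad ha
  set Z : Subgroup G := Subgroup.zpowers a with hZ
  have hZT : Z ≤ (T : Subgroup G) := by rw [hZ, Subgroup.zpowers_le]; exact haT
  have hZq : IsPGroup q Z := hTq.to_le hZT
  have hKn : ∀ g : G, g ∈ Subgroup.normalizer (K : Set G) := fun g => by
    rw [Subgroup.normalizer_eq_top]; exact Subgroup.mem_top g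
  have hsyl0 : Cfsg.Agent.Lib.Helper7.IsSylowIn q ((T : Subgroup G) ⊓ K) K :=
    (Cfsg.Agent.Lib.Helper7.isSylowIn_of_sylow T le_top).inf_normal le_top (fun g _ => hKn g)
  have hZK : Z ≤ Subgroup.normalizer (K : Set G) := fun g _ => hKn g
  have hTTK : (T : Subgroup G) ≤
      Subgroup.normalizer ((((T : Subgroup G) ⊓ K : Subgroup G)) : Set G) := by
    refine le_trans ?_ Subgroup.inf_normalizer_le_normalizer_inf
    exact le_inf Subgroup.le_normalizer (fun g _ => hKn g)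
  set M : Subgroup G := Z ⊔ K with hM
  set R : Subgroup G := Z ⊔ ((T : Subgroup G) ⊓ K) with hR
  have hsyl : Cfsg.Agent.Lib.Helper7.IsSylowIn q R M :=
    Cfsg.Agent.Lib.Helper7.isSylowIn_sup_of_normalizes hZq hZK (hZT.trans hTTK) hsyl0
  have hRT : R ≤ (T : Subgroup G) := sup_le hZT inf_le_left
  have hRq : IsPGroup q R := hTq.to_le hRT
  have haZ : a ∈ Z := Subgroup.mem_zpowers a
  have haR : a ∈ R := Subgroup.mem_sup_left haZ
  -- `t` normalizes `M`
  have htM : t ∈ Subgroup.normalizer (M : Set G) := by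
    apply mem_normalizer_of_conj_mem
    intro x hx
    have hmap : M.map (MulAut.conj t).toMonoidHom ≤ M := by
      rw [hM, Subgroup.map_sup]
      apply sup_le
      · rw [hZ, MonoidHom.map_zpowers, Subgroup.zpowers_le]
        change t * a * t⁻¹ ∈ Z ⊔ K
        have e : t * a * t⁻¹ = (t * a * t⁻¹ * a⁻¹) * a := by group
        rw [e]
        exact Subgroup.mul_mem _ (Subgroup.mem_sup_right htaK) (Subgroup.mem_sup_left haZ)
      · rintro _ ⟨k, hk, rfl⟩
        apply Subgroup.mem_sup_right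
        change t * k * t⁻¹ ∈ K
        exact hKnorm.conj_mem k hk t
    exact hmap ⟨x, hx, rfl⟩
  obtain ⟨k, hkM, hkn⟩ :=
    Cfsg.Agent.Lib.Helper7.exists_mul_mem_normalizer_of_isSylowIn hsyl htM
  set n : G := k * t with hn
  obtain ⟨m, e, hmodd, hord⟩ := exists_two_part n
  set n' : G := n ^ m with hn'
  have hn'N : n' ∈ Subgroup.normalizer (R : Set G) := Subgroup.pow_mem _ hkn m
  -- `n' ∉ K`
  have hn'K : n' ∉ K := by
    intro hmem
    set π : G →* G ⧸ K := QuotientGroup.mk' K with hπ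
    have hker : π.ker = K := QuotientGroup.ker_mk' K
    have hπK : ∀ x ∈ K, π x = 1 := fun x hx => by
      rw [← MonoidHom.mem_ker, hker]; exact hx
    -- `k = z * c`
    have hk' : k ∈ ((Z ⊔ K : Subgroup G) : Set G) := hkM
    rw [Subgroup.mul_normal Z K, Set.mem_mul] at hk'
    obtain ⟨z, hz, c, hc, rfl⟩ := hk'
    obtain ⟨i, rfl⟩ := Subgroup.mem_zpowers_iff.mp hz
    have hπn : π n = (π a) ^ i * π t := by
      rw [hn, map_mul, map_mul, hπK c hc, mul_one, map_zpow]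
    have hcomm : Commute (π a) (π t) := by
      have h1 : π (t * a * t⁻¹ * a⁻¹) = 1 := hπK _ htaK
      rw [map_mul, map_mul, map_mul, map_inv, map_inv] at h1
      have h2 : π t * π a = π a * π t := by
        have := mul_inv_eq_one.mp h1
        calc π t * π a = (π t * π a * (π t)⁻¹) * π t := by group
          _ = π a * π t := by rw [this]
      exact h2.symm
    have hπn' : π n' = ((π a) ^ i) ^ m * (π t) ^ m := by
      rw [hn', map_pow, hπn, (hcomm.zpow_left i).mul_pow]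
    have h1 : π n' = 1 := hπK _ hmem
    rw [hπn'] at h1
    set u : G ⧸ K := (π t) ^ m with hu
    have hu_eq : u = (((π a) ^ i) ^ m)⁻¹ := (eq_inv_of_mul_eq_one_right h1)
    have hu_mem : u ∈ Subgroup.zpowers (π a) := by
      rw [hu_eq]
      exact Subgroup.inv_mem _ (Subgroup.pow_mem _ (Subgroup.zpow_mem _ (Subgroup.mem_zpowers _) i) m)
    obtain ⟨j, hj⟩ : ∃ j : ℕ, orderOf a = q ^ j :=
      (IsPGroup.iff_orderOf.mp hZq ⟨a, haZ⟩).imp (fun j hj => by
        rw [← hj]; exact (Subgroup.orderOf_mk a haZ).symm)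
    have hd1 : orderOf u ∣ q ^ j := by
      rw [← hj]
      exact (orderOf_dvd_of_mem_zpowers hu_mem).trans (orderOf_map_dvd π a)
    have hd2 : orderOf u ∣ 2 ^ kt := by
      apply orderOf_dvd_of_pow_eq_one
      rw [hu, ← pow_mul, mul_comm, pow_mul, ← map_pow, ← hkt, pow_orderOf_eq_one, map_one,
        one_pow]
    have hcop : Nat.Coprime (q ^ j) (2 ^ kt) := by
      apply Nat.Coprime.pow
      exact (Nat.coprime_primes hq.out Nat.prime_two).mpr hq2
    have hu1 : u = 1 := by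
      have := Nat.dvd_gcd hd1 hd2
      rw [hcop.gcd_eq_one] at this
      exact orderOf_eq_one_iff.mp (Nat.dvd_one.mp this)
    -- so `(π t) ^ m = 1`
    have hd3 : orderOf (π t) ∣ m := orderOf_dvd_of_pow_eq_one hu1
    have hd4 : orderOf (π t) ∣ 2 ^ kt := by
      rw [← hkt]; exact orderOf_map_dvd π t
    have hcop2 : Nat.Coprime m (2 ^ kt) := by
      apply Nat.Coprime.pow_right
      exact Nat.coprime_two_right.mpr hmodd
    have ht1 : π t = 1 := by
      have := Nat.dvd_gcd hd3 hd4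
      rw [hcop2.gcd_eq_one] at this
      exact orderOf_eq_one_iff.mp (Nat.dvd_one.mp this)
    apply htK
    change t ∈ K
    rw [← hker, MonoidHom.mem_ker]; exact ht1
  -- `n'` does not centralize `B`
  have hn'C : ∃ y₀ ∈ B, n' * y₀ * n'⁻¹ ≠ y₀ := by
    by_contra hcon
    push_neg at hcon
    apply hn'K
    apply centralizer_le_KK q B
    rw [Subgroup.mem_centralizer_iff]
    intro y hy
    have h1 := hcon y hy
    calc y * n' = (n' * y * n'⁻¹) * n' := by rw [h1]
      _ = n' * y := by group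
  obtain ⟨y₀, hy₀B, hy₀⟩ := hn'C
  obtain ⟨s', hs', y, hyB, hy1, hinv⟩ :=
    hexinv B ⟨e, hord⟩ (fun y hy => hBn.conj_mem y hy n') hy₀B hy₀
  have hyR : y ∈ R := Subgroup.mem_sup_right ⟨hPT (hBP hyB), hPK (hBP hyB)⟩
  have hs'N : s' ∈ Subgroup.normalizer (R : Set G) :=
    (Subgroup.zpowers_le.mpr hn'N) hs'
  have hyq : ∃ k : ℕ, orderOf y = q ^ k :=
    (IsPGroup.iff_orderOf.mp hB ⟨y, hyB⟩).imp (fun j hj => by
      rw [← hj]; exact (Subgroup.orderOf_mk y hyB).symm)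
  have hInvIn : InvIn q (Subgroup.normalizer (R : Set G)) :=
    ⟨y, Subgroup.le_normalizer hyR, s', hs'N, hy1, hyq, hinv⟩
  have hRnn : ¬ R.Normal := by
    intro hRn
    exact ha (hPK (Cfsg.Agent.Lib.Helper1.le_pCore hRn hRq haR))
  have hA0N : A0 ≤ Subgroup.normalizer (R : Set G) := by
    intro y hy
    apply mem_normalizer_of_conj_mem
    intro x hx
    have hmap : R.map (MulAut.conj y).toMonoidHom ≤ R := by
      rw [hR, Subgroup.map_sup]
      apply sup_le
      · rw [hZ, MonoidHom.map_zpowers, Subgroup.zpowers_le]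
        change y * a * y⁻¹ ∈ Z ⊔ ((T : Subgroup G) ⊓ K)
        have e1 : y * a * y⁻¹ = a := by rw [hA0a y hy]; group
        rw [e1]
        exact Subgroup.mem_sup_left haZ
      · rintro _ ⟨c, hc, rfl⟩
        apply Subgroup.mem_sup_right
        change y * c * y⁻¹ ∈ (T : Subgroup G) ⊓ K
        exact ⟨Subgroup.mul_mem _ (Subgroup.mul_mem _ (hA0T hy) hc.1)
          (Subgroup.inv_mem _ (hA0T hy)), hKnorm.conj_mem c hc.2 y⟩
    exact hmap ⟨x, hx, rfl⟩
  exact hchain R hRnn hInvIn A0 (hTq.to_le hA0T) hA0N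

end Cfsg.Agent.Lib.Helper9.ZJI
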