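import Mathlib
import Cfsg.Agent.Lib.Helper9.A6A
import Cfsg.Agent.Lib.Helper7.PGroupAux

set_option autoImplicit false

/-! Facts about `A₆` that are invariant under isomorphism, and the theorem that in an extension
of `A₆` by a group of order `4` any two Sylow `2`-subgroups meet non-trivially. -/

open scoped Pointwise

namespace Cfsg.Agent.Lib.Helper9.A6T

open Cfsg.Agent.Lib.Helper9.SyT Cfsg.Agent.Lib.Helper9.BL

/-- a pair of distinct involutions whose product has `m`-th power `1` -/
def PairP {A : Type*} [Group A] (m : ℕ) (p : A × A) : Prop :=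
  p.1 ^ 2 = 1 ∧ p.1 ≠ 1 ∧ p.2 ^ 2 = 1 ∧ p.2 ≠ 1 ∧ p.1 ≠ p.2 ∧ (p.1 * p.2) ^ m = 1

theorem pairP_map_iff {A B : Type*} [Group A] [Group B] (f : A →* B) (hf : Function.Injective f)
    (m : ℕ) (a b : A) : PairP m (f a, f b) ↔ PairP m (a, b) := by
  have key : ∀ x : A, f x = 1 ↔ x = 1 := fun x => by
    rw [← map_one f]
    exact hf.eq_iff
  unfold PairP
  simp only [Ne]
  rw [← map_pow, ← map_pow, ← map_mul, ← map_pow, key, key, key, key, key, hf.eq_iff]

/-- the facts about `A₆` that we use -/
structure A6Facts (A : Type*) [Group A] : Prop where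
  cent : ∀ a : A, a ^ 2 = 1 → a ≠ 1 → Nat.card {g : A // g * a = a * g} ≤ 8
  ord : ∀ c : A, c ^ 3 = 1 ∨ c ^ 4 = 1 ∨ c ^ 5 = 1
  pair3 : Nat.card {p : A × A // PairP 3 p} ≤ 720
  pair5 : Nat.card {p : A × A // PairP 5 p} ≤ 720
  card : Nat.card A = 360

theorem A6Facts.of_equiv {A B : Type*} [Group A] [Group B] (e : A ≃* B) (h : A6Facts A) :
    A6Facts B where
  cent := by
    intro b hb2 hb1
    have h1 := h.cent (e.symm b) (by rw [← map_pow, hb2, map_one])
      (by intro h0; apply hb1; simpa using congrArg e h0)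
    refine le_trans (le_of_eq ?_) h1
    apply Nat.card_congr
    apply Equiv.subtypeEquiv e.symm.toEquiv
    intro g
    show g * b = b * g ↔ e.symm g * e.symm b = e.symm b * e.symm g
    rw [← map_mul, ← map_mul, e.symm.injective.eq_iff]
  ord := by
    intro c
    have key : ∀ k : ℕ, e.symm c ^ k = 1 → c ^ k = 1 := fun k hk => by
      have := congrArg e hk
      simpa using this
    rcases h.ord (e.symm c) with h1 | h1 | h1
    · exact Or.inl (key _ h1)
    · exact Or.inr (Or.inl (key _ h1))
    · exact Or.inr (Or.inr (key _ h1))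
  pair3 := by
    refine le_trans (le_of_eq ?_) h.pair3
    apply Nat.card_congr
    apply Equiv.subtypeEquiv (Equiv.prodCongr e.symm.toEquiv e.symm.toEquiv)
    rintro ⟨a, b⟩
    exact (pairP_map_iff e.symm.toMonoidHom e.symm.injective 3 a b).symm
  pair5 := by
    refine le_trans (le_of_eq ?_) h.pair5
    apply Nat.card_congr
    apply Equiv.subtypeEquiv (Equiv.prodCongr e.symm.toEquiv e.symm.toEquiv)
    rintro ⟨a, b⟩
    exact (pairP_map_iff e.symm.toMonoidHom e.symm.injective 5 a b).symm
  card := by rw [← Nat.card_congr e.toEquiv, h.card]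

theorem pairB_iff (m : ℕ) (i j : Fin 360) : pairB m i j = true ↔ PairP m (el i, el j) := by
  unfold pairB PairP
  simp only [Bool.and_eq_true, isInv_iff, Bool.not_eq_true', decide_eq_false_iff_not,
    decide_eq_true_iff, el_mul, el_pow_eq_one_iff, Ne, el_inj.eq_iff]
  tauto

theorem card_pair_G0 (m : ℕ) : Nat.card {p : ↥G0 × ↥G0 // PairP m p} = countF2 (pairB m) := by
  rw [countF2_eq_natCard]
  symm
  apply Nat.card_congr
  apply Equiv.subtypeEquiv (Equiv.prodCongr TG.par TG.par)
  rintro ⟨i, j⟩
  exact pairB_iff m i j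

theorem facts_G0 : A6Facts ↥G0 where
  cent := by
    intro a ha2 ha1
    obtain ⟨i, rfl⟩ := el_surj a
    have h1 := allF_spec cent_b i
    have h2 : isInv i = true := (isInv_iff i).mpr ⟨ha2, ha1⟩
    rw [h2] at h1
    simp only [Bool.not_true, Bool.false_or, decide_eq_true_iff] at h1
    refine le_trans (le_of_eq ?_) h1
    rw [countF_eq_natCard]
    symm
    apply Nat.card_congr
    apply Equiv.subtypeEquiv TG.par
    intro j
    show decide (mF j i = mF i j) = true ↔ el j * el i = el i * el j
    rw [decide_eq_true_iff, el_mul, el_mul, el_inj.eq_iff]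
  ord := by
    intro c
    obtain ⟨i, rfl⟩ := el_surj c
    have h1 := allF_spec ord_b i
    rw [el_pow_eq_one_iff, el_pow_eq_one_iff, el_pow_eq_one_iff]
    rcases (Bool.or_eq_true _ _).mp h1 with h2 | h2
    · rcases (Bool.or_eq_true _ _).mp h2 with h3 | h3
      · exact Or.inl (of_decide_eq_true h3)
      · exact Or.inr (Or.inl (of_decide_eq_true h3))
    · exact Or.inr (Or.inr (of_decide_eq_true h2))
  pair3 := by rw [card_pair_G0]; exact pair3_b
  pair5 := by rw [card_pair_G0]; exact pair5_b
  card := card_G0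

theorem facts_A6 : A6Facts (alternatingGroup (Fin 6)) := facts_G0.of_equiv isoA6

end Cfsg.Agent.Lib.Helper9.A6T
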