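import Mathlib
import Cfsg.Agent.Lib.Helper9.A6B

set_option autoImplicit false

/-! In an extension of `A₆` by a group of order `4` any two Sylow `2`-subgroups meet
non-trivially. -/

open scoped Pointwise

namespace Cfsg.Agent.Lib.Helper9.A6T

open Cfsg.Agent.Lib.Helper9.SyT Cfsg.Agent.Lib.Helper9.BL

section aux
variable {G : Type*} [Group G]

theorem inv_of_sq {a : G} (ha : a ^ 2 = 1) : a⁻¹ = a :=
  inv_eq_of_mul_eq_one_right (by rw [← pow_two, ha])

theorem conj_prod_left {a b : G} (ha : a ^ 2 = 1) (hb : b ^ 2 = 1) :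
    a * (a * b) * a⁻¹ = (a * b)⁻¹ := by
  rw [mul_inv_rev, inv_of_sq ha, inv_of_sq hb, ← mul_assoc, ← pow_two, ha, one_mul]

theorem conj_prod_right {a b : G} (ha : a ^ 2 = 1) (hb : b ^ 2 = 1) :
    b * (a * b) * b⁻¹ = (a * b)⁻¹ := by
  rw [mul_inv_rev, inv_of_sq ha, inv_of_sq hb, mul_assoc, mul_assoc, ← pow_two, hb, mul_one]

/-- if `u c u⁻¹ = c⁻¹` and `c ^ 4 = 1` then `u` commutes with `c ^ 2` -/
theorem comm_sq_of_inverts {u c : G} (h : u * c * u⁻¹ = c⁻¹) (h4 : c ^ 4 = 1) :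
    c ^ 2 * u = u * c ^ 2 := by
  have h1 : u * c ^ 2 * u⁻¹ = c ^ 2 := by
    rw [← conj_pow, h, inv_pow]
    apply inv_eq_of_mul_eq_one_right
    rw [← pow_add]
    exact h4
  calc c ^ 2 * u = (u * c ^ 2 * u⁻¹) * u := by rw [h1]
    _ = u * c ^ 2 := by group

theorem orbit_card_le [Finite G] (N : Subgroup G) [hN : N.Normal] (m : ℕ) (z z' : G) (hz : z ∈ N)
    (hz' : z' ∈ N) (hp : PairP m (z, z')) :
    (MulAction.orbit (ConjAct G) ((z, z') : G × G)).ncard ≤
      Nat.card {p : ↥N × ↥N // PairP m p} := by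
  rw [← Nat.card_coe_set_eq]
  have hmem : ∀ y : MulAction.orbit (ConjAct G) ((z, z') : G × G),
      y.1.1 ∈ N ∧ y.1.2 ∈ N ∧ PairP m (y.1.1, y.1.2) := by
    rintro ⟨y, hy⟩
    obtain ⟨g, rfl⟩ := MulAction.mem_orbit_iff.mp hy
    show (g • ((z, z') : G × G)).1 ∈ N ∧ (g • ((z, z') : G × G)).2 ∈ N ∧
      PairP m ((g • ((z, z') : G × G)).1, (g • ((z, z') : G × G)).2)
    rw [Prod.smul_mk]
    simp only [ConjAct.smul_def]
    refine ⟨hN.conj_mem z hz _, hN.conj_mem z' hz' _, ?_⟩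
    exact (pairP_map_iff (MulAut.conj (ConjAct.ofConjAct g)).toMonoidHom
      (MulAut.conj (ConjAct.ofConjAct g)).injective m z z').mpr hp
  apply Nat.card_le_card_of_injective
    (fun y => (⟨(⟨y.1.1, (hmem y).1⟩, ⟨y.1.2, (hmem y).2.1⟩),
      (pairP_map_iff N.subtype N.subtype_injective m ⟨y.1.1, (hmem y).1⟩
        ⟨y.1.2, (hmem y).2.1⟩).mp (hmem y).2.2⟩ :
        {p : ↥N × ↥N // PairP m p}))
  intro y y' h
  have h1 := Subtype.ext_iff.mp h
  have h2 := Prod.ext_iff.mp h1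
  apply Subtype.ext
  apply Prod.ext
  · exact Subtype.ext_iff.mp h2.1
  · exact Subtype.ext_iff.mp h2.2

end aux

theorem sylow_meet {G : Type*} [Group G] [Finite G] (N : Subgroup G) [hN : N.Normal]
    (hf : A6Facts ↥N) (hidx : N.index = 4) (H : Sylow 2 G) (x : G) :
    (H : Subgroup G) ⊓ MulAut.conj x • (H : Subgroup G) ≠ ⊥ := by
  classical
  have hG : Nat.card G = 1440 := by rw [← Subgroup.card_mul_index N, hf.card, hidx]
  have hfac : (1440 : ℕ).factorization 2 = 5 :=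
    factorization_two_of_dvd 1440 5 (by norm_num) (by norm_num) (by norm_num)
  have hH : Nat.card (H : Subgroup G) = 32 := by
    rw [H.card_eq_multiplicity, hG, hfac]; norm_num
  -- the element z
  obtain ⟨z, hzH, hzN, hz2, hz1, hzc⟩ : ∃ z : G, z ∈ (H : Subgroup G) ∧ z ∈ N ∧ z ^ 2 = 1 ∧
      z ≠ 1 ∧ ∀ h ∈ (H : Subgroup G), h * z = z * h := by
    have hD : N.subgroupOf (H : Subgroup G) ≠ ⊥ := by
      intro h0
      have h1 := Subgroup.card_mul_index (N.subgroupOf (H : Subgroup G))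
      have h3 : Nat.card (N.subgroupOf (H : Subgroup G)) = 1 := by rw [h0]; exact Subgroup.card_bot
      have h2 : (N.subgroupOf (H : Subgroup G)).index ∣ 4 := by
        have := Subgroup.relIndex_dvd_index_of_normal N (H : Subgroup G)
        rwa [hidx] at this
      rw [h3, one_mul, hH] at h1
      rw [h1] at h2
      omega
    obtain ⟨b, hbD, hb1, hbZ⟩ := Cfsg.Agent.Lib.Helper7.exists_mem_center_of_normal_ne_bot
      H.isPGroup' (N.subgroupOf (H : Subgroup G)) hD
    have hD' : N.subgroupOf (H : Subgroup G) ⊓ Subgroup.center ↥(H : Subgroup G) ≠ ⊥ := by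
      intro h0
      apply hb1
      have : b ∈ N.subgroupOf (H : Subgroup G) ⊓ Subgroup.center ↥(H : Subgroup G) := ⟨hbD, hbZ⟩
      rw [h0] at this
      exact Subgroup.mem_bot.mp this
    have hp : IsPGroup 2 ↥(N.subgroupOf (H : Subgroup G) ⊓ Subgroup.center ↥(H : Subgroup G)) :=
      H.isPGroup'.to_subgroup _
    have h2 : 2 ∣ Nat.card ↥(N.subgroupOf (H : Subgroup G) ⊓ Subgroup.center ↥(H : Subgroup G)) := by
      rcases hp.card_eq_or_dvd with h | h
      · exact absurd (Subgroup.card_eq_one.mp h) hD'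
      · exact h
    obtain ⟨w, hw⟩ := exists_prime_orderOf_dvd_card' 2 h2
    have hw2 : w ^ 2 = 1 := by
      have := pow_orderOf_eq_one w
      rwa [hw] at this
    have hw1 : w ≠ 1 := by
      intro h
      rw [h, orderOf_one] at hw
      omega
    refine ⟨((w : ↥(H : Subgroup G)) : G), (w : ↥(H : Subgroup G)).2,
      Subgroup.mem_subgroupOf.mp w.2.1, ?_, ?_, ?_⟩
    · have h1 := congrArg Subtype.val hw2
      have h2 := congrArg Subtype.val h1
      simpa using h2
    · intro h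
      apply hw1
      apply Subtype.ext
      apply Subtype.ext
      simpa using h
    · intro h hh
      have := (Subgroup.mem_center_iff.mp w.2.2) ⟨h, hh⟩
      exact congrArg Subtype.val this
  -- the centralizer of z is H
  obtain ⟨C, hC⟩ : ∃ C : Subgroup G, C = Subgroup.centralizer {z} := ⟨_, rfl⟩
  have hmemC : ∀ g : G, g ∈ C ↔ g * z = z * g := by
    intro g
    rw [hC, Subgroup.mem_centralizer_iff]
    constructor
    · intro h; exact (h z rfl).symm
    · intro h y hy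
      rw [Set.mem_singleton_iff] at hy
      rw [hy]; exact h.symm
  have hHC : (H : Subgroup G) ≤ C := fun h hh => (hmemC h).mpr (hzc h hh)
  have hcC : Nat.card C ≤ 32 := by
    have h1 := Subgroup.card_mul_index (N.subgroupOf C)
    have h2 : (N.subgroupOf C).index ∣ 4 := by
      have := Subgroup.relIndex_dvd_index_of_normal N C
      rwa [hidx] at this
    have h4 : (N.subgroupOf C).index ≤ 4 := Nat.le_of_dvd (by norm_num) h2
    have h3 : Nat.card (N.subgroupOf C) ≤ 8 := by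
      refine le_trans ?_ (hf.cent ⟨z, hzN⟩ (Subtype.ext (by simpa using hz2))
        (fun h => hz1 (congrArg Subtype.val h)))
      apply Nat.card_le_card_of_injective
        (fun d : ↥(N.subgroupOf C) =>
          (⟨⟨((d : ↥C) : G), Subgroup.mem_subgroupOf.mp d.2⟩,
            Subtype.ext ((hmemC _).mp (d : ↥C).2)⟩ :
            {g : ↥N // g * ⟨z, hzN⟩ = ⟨z, hzN⟩ * g}))
      intro d d' h
      have h1 := congrArg (fun t : {g : ↥N // g * ⟨z, hzN⟩ = ⟨z, hzN⟩ * g} => ((t : ↥N) : G)) h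
      exact Subtype.ext (Subtype.ext h1)
    rw [← h1]
    exact Nat.mul_le_mul h3 h4
  have hHeq : (H : Subgroup G) = C := Subgroup.eq_of_le_of_card_ge hHC (by rw [hH]; exact hcC)
  -- reduction
  suffices hkey : ∃ g : G, g ≠ 1 ∧ g * z = z * g ∧ g * (x * z * x⁻¹) = (x * z * x⁻¹) * g by
    obtain ⟨g, hg1, hgz, hgz'⟩ := hkey
    intro hbot
    apply hg1
    have hmem : g ∈ (H : Subgroup G) ⊓ MulAut.conj x • (H : Subgroup G) := by
      refine Subgroup.mem_inf.mpr ⟨?_, ?_⟩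
      · rw [hHeq]; exact (hmemC g).mpr hgz
      · rw [Subgroup.mem_pointwise_smul_iff_inv_smul_mem, MulAut.smul_def, MulAut.conj_inv_apply,
          hHeq, hmemC]
        calc x⁻¹ * g * x * z = x⁻¹ * (g * (x * z * x⁻¹)) * x := by group
          _ = x⁻¹ * ((x * z * x⁻¹) * g) * x := by rw [hgz']
          _ = z * (x⁻¹ * g * x) := by group
    rw [hbot] at hmem
    exact Subgroup.mem_bot.mp hmem
  obtain ⟨z', hz'⟩ : ∃ z' : G, z' = x * z * x⁻¹ := ⟨_, rfl⟩
  rw [← hz']
  have hz'N : z' ∈ N := by rw [hz']; exact hN.conj_mem z hzN x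
  have hz'2 : z' ^ 2 = 1 := by rw [hz', conj_pow, hz2]; group
  have hz'1 : z' ≠ 1 := by
    rw [hz']
    intro h
    exact hz1 (conj_eq_one_iff.mp h)
  obtain ⟨c, hc⟩ : ∃ c : G, c = z * z' := ⟨_, rfl⟩
  have hcN : c ∈ N := by rw [hc]; exact mul_mem hzN hz'N
  have hcz : z * c * z⁻¹ = c⁻¹ := by rw [hc]; exact conj_prod_left hz2 hz'2
  have hcz' : z' * c * z'⁻¹ = c⁻¹ := by rw [hc]; exact conj_prod_right hz2 hz'2
  have count : ∀ m : ℕ, Nat.card {p : ↥N × ↥N // PairP m p} ≤ 720 → c ^ m = 1 →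
      ∃ g : G, g ≠ 1 ∧ g * z = z * g ∧ g * z' = z' * g := by
    intro m hm hcm
    by_cases hzz : z = z'
    · exact ⟨z, hz1, rfl, by rw [← hzz]⟩
    have hp : PairP m (z, z') := ⟨hz2, hz1, hz'2, hz'1, hzz, by rw [← hc]; exact hcm⟩
    have h1 := orbit_card_le N m z z' hzN hz'N hp
    have h2 := MulAction.index_stabilizer (ConjAct G) ((z, z') : G × G)
    have h3 := Subgroup.card_mul_index (MulAction.stabilizer (ConjAct G) ((z, z') : G × G))
    have h4 : Nat.card (ConjAct G) = 1440 := hG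
    have h5 : MulAction.stabilizer (ConjAct G) ((z, z') : G × G) ≠ ⊥ := by
      intro h0
      rw [h0, Subgroup.card_bot, one_mul, h4] at h3
      rw [h0] at h2
      omega
    obtain ⟨⟨g, hg⟩, hg1⟩ := Subgroup.ne_bot_iff_exists_ne_one.mp h5
    have hg' := MulAction.mem_stabilizer_iff.mp hg
    rw [Prod.smul_mk, Prod.mk.injEq, ConjAct.smul_def, ConjAct.smul_def] at hg'
    refine ⟨ConjAct.ofConjAct g, ?_, ?_, ?_⟩
    · intro h
      apply hg1
      apply Subtype.ext
      exact ConjAct.ofConjAct.injective (by simpa using h)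
    · exact mul_inv_eq_iff_eq_mul.mp hg'.1
    · exact mul_inv_eq_iff_eq_mul.mp hg'.2
  have hpow : ∀ k : ℕ, (⟨c, hcN⟩ : ↥N) ^ k = 1 → c ^ k = 1 := by
    intro k hk
    have := congrArg Subtype.val hk
    simpa using this
  rcases hf.ord ⟨c, hcN⟩ with h3 | h4 | h5
  · exact count 3 hf.pair3 (hpow 3 h3)
  · have h4' := hpow 4 h4
    by_cases h2 : c ^ 2 = 1
    · refine ⟨z', hz'1, ?_, rfl⟩
      calc z' * z = z'⁻¹ * z⁻¹ := by rw [inv_of_sq hz2, inv_of_sq hz'2]
        _ = (z * z')⁻¹ := (mul_inv_rev _ _).symm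
        _ = z * z' := by rw [← hc]; exact inv_of_sq h2
    · exact ⟨c ^ 2, h2, comm_sq_of_inverts hcz h4', comm_sq_of_inverts hcz' h4'⟩
  · exact count 5 hf.pair5 (hpow 5 h5)

end Cfsg.Agent.Lib.Helper9.A6T
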