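import Mathlib
import Cfsg.Agent.Lib.Helper3.A8V4

set_option autoImplicit false

/-! S3104, unit (d): transitive subgroups of `A₈`. Part 3: an element of order 5 forces `7 ∣ |Y|`
(Jordan). -/

namespace Cfsg.Agent.Lib.Helper9.A8Tr

open Equiv MulAction

theorem seven_dvd_of_five (Y : Subgroup (Perm (Fin 8))) [IsPretransitive ↥Y (Fin 8)]
    (g : Perm (Fin 8)) (hg : g ∈ Y) (h5 : orderOf g = 5) : 7 ∣ Nat.card ↥Y := by
  have hprim : IsPreprimitive ↥Y (Fin 8) :=
    Cfsg.Agent.Lib.Helper3.A8V4.preprimitive_of_five Y g hg h5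
  have hcyc : g.IsCycle :=
    Perm.isCycle_of_prime_order' (by rw [h5]; norm_num) (by rw [h5]; simp)
  have hsupp : g.support.card = 5 := by rw [← hcyc.orderOf, h5]
  have htr := Equiv.Perm.isPretransitive_of_isCycle_mem (G := Y) hcyc hg
  set s : Set (Fin 8) := (g.support : Set (Fin 8))ᶜ with hs
  have hncard : s.ncard = 3 := by
    rw [hs, Set.ncard_compl, Set.ncard_coe_finset, hsupp]
    simp
  have hcard5 : Nat.card ↥(SubMulAction.ofFixingSubgroup ↥Y s) = 5 := by
    have : Nat.card ↥(sᶜ : Set (Fin 8)) = 5 := by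
      rw [Nat.card_coe_set_eq, hs, compl_compl, Set.ncard_coe_finset, hsupp]
    exact this
  have hprim' : IsPreprimitive (fixingSubgroup ↥Y s) (SubMulAction.ofFixingSubgroup ↥Y s) :=
    IsPreprimitive.of_prime_card (by rw [hcard5]; norm_num)
  have h4 : IsMultiplyPreprimitive ↥Y (Fin 8) 4 :=
    hprim.isMultiplyPreprimitive (n := 2) hncard (by simp) hprim'
  have h4t : IsMultiplyPretransitive ↥Y (Fin 8) 4 := h4.isMultiplyPretransitive
  obtain ⟨t, -, ht⟩ := Set.exists_subset_card_eq (s := (Set.univ : Set (Fin 8))) (n := 4)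
    (by rw [Set.ncard_univ]; simp)
  have hidx := IsMultiplyPretransitive.index_of_fixingSubgroup_eq (G := ↥Y) t (by rw [ht]; exact h4t)
  rw [ht] at hidx
  have hdvd := Subgroup.index_dvd_card (fixingSubgroup ↥Y t)
  rw [hidx] at hdvd
  have : (7 : ℕ) ∣ Nat.choose (Nat.card (Fin 8)) 4 * Nat.factorial 4 := by
    rw [Nat.card_eq_fintype_card, Fintype.card_fin]
    decide
  exact this.trans hdvd

end Cfsg.Agent.Lib.Helper9.A8Tr
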