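import Mathlib
import Cfsg.Agent.S0547
import Cfsg.Agent.S0678
import Cfsg.Agent.Lib.Helper1.MaxSubgroupSolvable

set_option autoImplicit false

/-! S3104, unit (d): transitive subgroups of `A₈`. Part 1: transitive groups of degree 7. -/

namespace Cfsg.Agent.Lib.Helper9.A8Tr

open Equiv MulAction

/-- regular normal subgroup of prime order: a group element fixing two points is trivial -/
theorem eq_one_of_fix_two {G Ω : Type*} [Group G] [MulAction G Ω] [FaithfulSMul G Ω]
    (M : Subgroup G) [hMn : M.Normal]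
    (htr : ∀ a b : Ω, ∃ m ∈ M, m • a = b)
    (hreg : ∀ m ∈ M, ∀ a : Ω, m • a = a → m = 1)
    (hp : (Nat.card M).Prime) (t : G) (a b : Ω) (hab : a ≠ b)
    (ha : t • a = a) (hb : t • b = b) : t = 1 := by
  obtain ⟨m, hm, hmab⟩ := htr a b
  have hm1 : m ≠ 1 := by
    rintro rfl
    exact hab (by simpa using hmab)
  have hconj : t * m * t⁻¹ = m := by
    have h1 : t * m * t⁻¹ ∈ M := hMn.conj_mem m hm t
    have h2 : (m⁻¹ * (t * m * t⁻¹)) • a = a := by
      have hta : t⁻¹ • a = a := by rw [inv_smul_eq_iff, ha]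
      rw [mul_smul, mul_smul, mul_smul, hta, hmab, hb, inv_smul_eq_iff, hmab]
    have h3 := hreg _ (M.mul_mem (M.inv_mem hm) h1) a h2
    have : t * m * t⁻¹ = m * (m⁻¹ * (t * m * t⁻¹)) := by group
    rw [this, h3, mul_one]
  have : Fact (Nat.card M).Prime := ⟨hp⟩
  have hz : Subgroup.zpowers (⟨m, hm⟩ : M) = ⊤ :=
    zpowers_eq_top_of_prime_card rfl (by intro h; apply hm1; exact congrArg Subtype.val h)
  have hc : Commute t m := by
    show t * m = m * t
    calc t * m = t * m * t⁻¹ * t := by group
      _ = m * t := by rw [hconj]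
  have hcomm : ∀ m' ∈ M, t * m' = m' * t := by
    intro m' hm'
    have : (⟨m', hm'⟩ : M) ∈ Subgroup.zpowers (⟨m, hm⟩ : M) := by rw [hz]; trivial
    obtain ⟨k, hk⟩ := this
    have hk' : m ^ k = m' := by
      have := congrArg Subtype.val hk
      simpa using this
    rw [← hk']
    exact (hc.zpow_right k).eq
  apply FaithfulSMul.eq_of_smul_eq_smul (α := Ω)
  intro x
  obtain ⟨m', hm', hx⟩ := htr a x
  rw [one_smul, ← hx, ← mul_smul, hcomm m' hm', mul_smul, ha]

variable {α : Type*} [Fintype α]

/-- in a solvable transitive group of degree 7 a nonidentity element fixes at most one point -/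
theorem fix_two_of_solvable (hα : Fintype.card α = 7)
    (G : Subgroup (Perm α)) [IsPretransitive G α] (hs : Group.IsSolvable G)
    (t : Perm α) (ht : t ∈ G) (a b : α) (hab : a ≠ b) (ha : t a = a) (hb : t b = b) : t = 1 := by
  have : Nonempty α := ⟨a⟩
  have hcard : Nat.card α = 7 := by rw [Nat.card_eq_fintype_card, hα]
  have hprim : IsPreprimitive G α := IsPreprimitive.of_prime_card (by rw [hcard]; norm_num)
  have : Nontrivial G := by
    obtain ⟨g, hg⟩ := exists_smul_eq G a b
    refine ⟨⟨g, 1, ?_⟩⟩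
    rintro rfl
    exact hab (by simpa using hg)
  obtain ⟨M, hMn, hMbot, hMmin⟩ := Cfsg.Agent.Lib.Helper1.exists_minimal_normal (G := G)
  have := hMn
  obtain ⟨htrM, hstab, p, d, hp, hd, hΩ, hMcard⟩ :=
    Cfsg.Agent.S0547.result hprim M hMbot hMmin
  have hM7 : Nat.card M = 7 := by rw [hMcard, ← hΩ, hcard]
  have key := eq_one_of_fix_two (G := G) (Ω := α) M
    (fun x y => by
      obtain ⟨m, hm⟩ := htrM.exists_smul_eq x y
      exact ⟨m.1, m.2, hm⟩)
    (fun m hm x hx => by
      have h1 : (⟨m, hm⟩ : M) ∈ stabilizer M x := hx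
      rw [hstab x, Subgroup.mem_bot] at h1
      exact congrArg Subtype.val h1)
    (by rw [hM7]; norm_num) ⟨t, ht⟩ a b hab ha hb
  exact congrArg Subtype.val key

/-- order bound in the solvable case -/
theorem card_le_of_solvable (hα : Fintype.card α = 7)
    (G : Subgroup (Perm α)) [IsPretransitive G α] (hs : Group.IsSolvable G) :
    ∃ k, k ≤ 6 ∧ Nat.card G = 7 * k := by
  classical
  have h7 : 0 < Fintype.card α := by rw [hα]; norm_num
  obtain ⟨a⟩ := Fintype.card_pos_iff.mp h7
  have hcard : Nat.card α = 7 := by rw [Nat.card_eq_fintype_card, hα]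
  have hidx := MulAction.index_stabilizer_of_transitive G a
  rw [hcard] at hidx
  have hmul := Subgroup.card_mul_index (stabilizer G a)
  rw [hidx] at hmul
  refine ⟨Nat.card (stabilizer G a), ?_, by rw [← hmul, mul_comm]⟩
  -- a second point
  have : ∃ b : α, b ≠ a := by
    by_contra hne
    push Not at hne
    have : Fintype.card α ≤ 1 := Fintype.card_le_one_iff.mpr (fun x y => by rw [hne x, hne y])
    omega
  obtain ⟨b, hb⟩ := this
  let φ : stabilizer G a → {x : α // x ≠ a} := fun h =>
    ⟨(h.1 : Perm α) b, by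
      intro hx
      have h1 : (h.1 : Perm α) a = a := h.2
      apply hb
      apply (h.1 : Perm α).injective
      rw [hx, h1]⟩
  have hφ : Function.Injective φ := by
    intro h h' hh
    have h1 : (h.1 : Perm α) b = (h'.1 : Perm α) b := congrArg Subtype.val hh
    have ha1 : (h.1 : Perm α) a = a := h.2
    have ha2 : (h'.1 : Perm α) a = a := h'.2
    have key := fix_two_of_solvable hα G hs ((h'.1 : Perm α)⁻¹ * (h.1 : Perm α))
      (G.mul_mem (G.inv_mem h'.1.2) h.1.2) a b hb.symm
      (by rw [Perm.mul_apply, ha1, Perm.inv_eq_iff_eq, ha2])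
      (by rw [Perm.mul_apply, h1, Perm.inv_eq_iff_eq])
    have : (h.1 : Perm α) = (h'.1 : Perm α) := by
      have := congrArg (fun z => (h'.1 : Perm α) * z) key
      simpa [mul_assoc] using this
    exact Subtype.ext (Subtype.ext this)
  have hle := Nat.card_le_card_of_injective φ hφ
  have : Nat.card {x : α // x ≠ a} = 6 := by
    rw [Nat.card_eq_fintype_card, Fintype.card_subtype_compl, hα]
    simp
  omega

end Cfsg.Agent.Lib.Helper9.A8Tr
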