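import Mathlib
import Cfsg.Agent.S0144
import Cfsg.Agent.Lib.Helper9.A8Tr1

set_option autoImplicit false

/-! S3104, unit (d): transitive subgroups of `A₈`. Part 2: the point stabiliser when `7 ∣ |Y|`. -/

namespace Cfsg.Agent.Lib.Helper9.A8Tr

open Equiv MulAction

/-- two distinct fixed points of a permutation with small support -/
theorem exists_two_fixed {α : Type*} [Fintype α] [DecidableEq α] (τ : Perm α)
    (h : τ.support.card + 2 ≤ Fintype.card α) : ∃ a b, a ≠ b ∧ τ a = a ∧ τ b = b := by
  have h1 : 1 < (τ.supportᶜ).card := by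
    rw [Finset.card_compl]
    omega
  obtain ⟨a, ha, b, hb, hab⟩ := Finset.one_lt_card.mp h1
  rw [Finset.mem_compl, Perm.notMem_support] at ha hb
  exact ⟨a, b, hab, ha, hb⟩

/-- an even involution on seven points fixes two points -/
theorem two_fixed_of_invol {α : Type*} [Fintype α] [DecidableEq α] (hα : Fintype.card α = 7)
    (τ : Perm α) (h2 : orderOf τ = 2) (hs : Perm.sign τ = 1) :
    ∃ a b, a ≠ b ∧ τ a = a ∧ τ b = b := by
  apply exists_two_fixed
  obtain ⟨n, hn⟩ := Perm.cycleType_prime_order (σ := τ) (by rw [h2]; norm_num)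
  rw [h2] at hn
  have hsum := τ.sum_cycleType
  rw [hn, Multiset.sum_replicate, smul_eq_mul] at hsum
  have hle := τ.support.card_le_univ
  rw [hα] at hle
  have hsign := Perm.sign_of_cycleType τ
  rw [hn, Multiset.sum_replicate, Multiset.card_replicate, smul_eq_mul, hs] at hsign
  have hn3 : n + 1 ≤ 3 := by omega
  have : n + 1 = 2 := by
    have hcases : n + 1 = 1 ∨ n + 1 = 2 ∨ n + 1 = 3 := by omega
    rcases hcases with h | h | h
    · exfalso; rw [h] at hsign; revert hsign; decide
    · exact h
    · exfalso; rw [h] at hsign; revert hsign; decide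
  rw [hα]
  omega

/-- an element of order five on seven points fixes two points -/
theorem two_fixed_of_five {α : Type*} [Fintype α] [DecidableEq α] (hα : Fintype.card α = 7)
    (τ : Perm α) (h5 : orderOf τ = 5) :
    ∃ a b, a ≠ b ∧ τ a = a ∧ τ b = b := by
  apply exists_two_fixed
  have hcyc : τ.IsCycle := Perm.isCycle_of_prime_order' (by rw [h5]; norm_num) (by rw [h5, hα]; norm_num)
  have := hcyc.orderOf
  rw [h5] at this
  rw [hα, ← this]

/-- the solvable case: order 7 or 21 -/
theorem card_of_solvable_even {α : Type*} [Fintype α] [DecidableEq α] (hα : Fintype.card α = 7)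
    (G : Subgroup (Perm α)) [IsPretransitive G α] (hs : Group.IsSolvable G)
    (heven : ∀ τ ∈ G, Perm.sign τ = 1) : Nat.card G = 7 ∨ Nat.card G = 21 := by
  obtain ⟨k, hk6, hk⟩ := card_le_of_solvable hα G hs
  have hpos : 0 < Nat.card G := Nat.card_pos
  have h2 : ¬ 2 ∣ Nat.card G := by
    intro hdvd
    obtain ⟨τ, hτ⟩ := exists_prime_orderOf_dvd_card' (G := G) 2 hdvd
    have hτ' : orderOf (τ : Perm α) = 2 := by rw [Subgroup.orderOf_coe]; exact hτ
    obtain ⟨a, b, hab, ha, hb⟩ := two_fixed_of_invol hα τ.1 hτ' (heven _ τ.2)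
    have h1 := fix_two_of_solvable hα G hs τ.1 τ.2 a b hab ha hb
    rw [h1, orderOf_one] at hτ'
    omega
  have h5 : ¬ 5 ∣ Nat.card G := by
    intro hdvd
    haveI : Fact (Nat.Prime 5) := ⟨by norm_num⟩
    obtain ⟨τ, hτ⟩ := exists_prime_orderOf_dvd_card' (G := G) 5 hdvd
    have hτ' : orderOf (τ : Perm α) = 5 := by rw [Subgroup.orderOf_coe]; exact hτ
    obtain ⟨a, b, hab, ha, hb⟩ := two_fixed_of_five hα τ.1 hτ'
    have h1 := fix_two_of_solvable hα G hs τ.1 τ.2 a b hab ha hb
    rw [h1, orderOf_one] at hτ'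
    omega
  rw [hk] at h2 h5 hpos ⊢
  interval_cases k <;> omega

/-- trichotomy for transitive groups of even permutations of degree 7 -/
theorem deg7_cases {α : Type*} [Fintype α] [DecidableEq α] (hα : Fintype.card α = 7)
    (G : Subgroup (Perm α)) [IsPretransitive G α]
    (heven : ∀ τ ∈ G, Perm.sign τ = 1) :
    Nat.card G = 7 ∨ Nat.card G = 21 ∨ Nat.card G = 168 ∨ 2520 ≤ Nat.card G := by
  by_cases hs : Group.IsSolvable G
  · rcases card_of_solvable_even hα G hs heven with h | h
    · exact Or.inl h
    · exact Or.inr (Or.inl h)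
  · by_cases hA : alternatingGroup α ≤ G
    · right; right; right
      have h1 := Subgroup.card_le_of_le hA
      have h2 : Nat.card (alternatingGroup α) = 2520 := by
        haveI : Nontrivial α := by
          rw [← Fintype.one_lt_card_iff_nontrivial, hα]; norm_num
        have h3 := nat_card_alternatingGroup (α := α)
        rw [h3, Nat.card_eq_fintype_card, hα]
        decide
      omega
    · right; right; left
      exact (Cfsg.Agent.S0678.result hα G hs hA).1

end Cfsg.Agent.Lib.Helper9.A8Tr
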