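import Mathlib
import Cfsg.Agent.Lib.Helper9.A8Tr2

set_option autoImplicit false

/-! S3104, unit (d): transitive subgroups of `A₈`. Part 4: the point stabiliser as a group on the
other seven points, when `Y` contains an element of order 7. -/

namespace Cfsg.Agent.Lib.Helper9.A8Tr

open Equiv MulAction

/-- the stabiliser of `c` in `Y`, as a permutation group of the other seven points -/
def stab7 (Y : Subgroup (Perm (Fin 8))) (c : Fin 8) : Subgroup (Perm {x : Fin 8 // x ≠ c}) :=
  Y.comap Perm.ofSubtype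

theorem mem_stab7 (Y : Subgroup (Perm (Fin 8))) (c : Fin 8) (τ : Perm {x : Fin 8 // x ≠ c}) :
    τ ∈ stab7 Y c ↔ Perm.ofSubtype τ ∈ Y := Iff.rfl

theorem card_sub7 (c : Fin 8) : Fintype.card {x : Fin 8 // x ≠ c} = 7 := by
  rw [Fintype.card_subtype_compl]
  simp

/-- restriction of a permutation fixing `c` -/
def restr (c : Fin 8) (σ : Perm (Fin 8)) (hσ : σ c = c) : Perm {x : Fin 8 // x ≠ c} :=
  Perm.subtypePerm σ (fun x => by
    constructor
    · intro h hx
      apply h
      rw [hx, hσ]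
    · intro h hx
      apply h
      apply σ.injective
      rw [hx, hσ])

theorem ofSubtype_restr (c : Fin 8) (σ : Perm (Fin 8)) (hσ : σ c = c) :
    Perm.ofSubtype (restr c σ hσ) = σ := by
  unfold restr
  apply Perm.ofSubtype_subtypePerm
  intro x hx hxc
  apply hx
  rw [hxc, hσ]

theorem restr_apply (c : Fin 8) (σ : Perm (Fin 8)) (hσ : σ c = c) (x : {x : Fin 8 // x ≠ c}) :
    ((restr c σ hσ) x : Fin 8) = σ x := rfl

theorem card_eq_eight_mul (Y : Subgroup (Perm (Fin 8))) [IsPretransitive ↥Y (Fin 8)] (c : Fin 8) :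
    Nat.card ↥Y = 8 * Nat.card ↥(stab7 Y c) := by
  have hidx := MulAction.index_stabilizer_of_transitive ↥Y c
  rw [Nat.card_eq_fintype_card, Fintype.card_fin] at hidx
  have hmul := Subgroup.card_mul_index (stabilizer ↥Y c)
  rw [hidx] at hmul
  let φ : ↥(stab7 Y c) → ↥(stabilizer ↥Y c) := fun τ =>
    ⟨⟨Perm.ofSubtype τ.1, τ.2⟩, by
      rw [mem_stabilizer_iff]
      show (Perm.ofSubtype τ.1) c = c
      exact Perm.ofSubtype_apply_of_not_mem _ (by simp)⟩
  have hφ : Function.Bijective φ := by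
    constructor
    · intro τ τ' h
      have h1 : Perm.ofSubtype τ.1 = Perm.ofSubtype τ'.1 :=
        congrArg (fun z : ↥(stabilizer ↥Y c) => ((z : ↥Y) : Perm (Fin 8))) h
      exact Subtype.ext (Perm.ofSubtype_injective h1)
    · intro h
      have hfix : (h.1 : Perm (Fin 8)) c = c := h.2
      refine ⟨⟨restr c h.1.1 hfix, ?_⟩, ?_⟩
      · rw [mem_stab7, ofSubtype_restr]
        exact h.1.2
      · apply Subtype.ext
        apply Subtype.ext
        exact ofSubtype_restr c h.1.1 hfix
  have := Nat.card_congr (Equiv.ofBijective φ hφ)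
  omega

theorem even_stab7 (Y : Subgroup (Perm (Fin 8))) (hY : Y ≤ alternatingGroup (Fin 8)) (c : Fin 8) :
    ∀ τ ∈ stab7 Y c, Perm.sign τ = 1 := by
  intro τ hτ
  have h1 := hY hτ
  rw [Perm.mem_alternatingGroup, Perm.sign_ofSubtype] at h1
  exact h1

/-- an element of order 7 fixes a point and is transitive on the other seven -/
theorem exists_fixed_of_seven (g : Perm (Fin 8)) (h7 : orderOf g = 7) :
    ∃ c, g c = c ∧ ∀ x y : Fin 8, x ≠ c → y ≠ c → ∃ i : ℕ, (g ^ i) x = y := by
  have hcyc : g.IsCycle :=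
    Perm.isCycle_of_prime_order' (by rw [h7]; norm_num) (by rw [h7]; simp)
  have hsupp : g.support.card = 7 := by rw [← hcyc.orderOf, h7]
  have hc1 : (g.supportᶜ).card = 1 := by
    rw [Finset.card_compl, hsupp]
    simp
  obtain ⟨c, hc⟩ := Finset.card_eq_one.mp hc1
  have hcfix : g c = c := by
    have : c ∈ g.supportᶜ := by rw [hc]; exact Finset.mem_singleton_self c
    rwa [Finset.mem_compl, Perm.notMem_support] at this
  have hmoved : ∀ x, x ≠ c → g x ≠ x := by
    intro x hx hgx
    have : x ∈ g.supportᶜ := by rw [Finset.mem_compl, Perm.notMem_support]; exact hgx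
    rw [hc, Finset.mem_singleton] at this
    exact hx this
  refine ⟨c, hcfix, fun x y hx hy => ?_⟩
  exact hcyc.exists_pow_eq (hmoved x hx) (hmoved y hy)

theorem pretransitive_stab7 (Y : Subgroup (Perm (Fin 8))) (g : Perm (Fin 8)) (hg : g ∈ Y) (c : Fin 8)
    (hc : g c = c) (htr : ∀ x y : Fin 8, x ≠ c → y ≠ c → ∃ i : ℕ, (g ^ i) x = y) :
    IsPretransitive ↥(stab7 Y c) {x : Fin 8 // x ≠ c} := by
  refine ⟨fun x y => ?_⟩
  obtain ⟨i, hi⟩ := htr x.1 y.1 x.2 y.2
  have hfix : (g ^ i) c = c := by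
    have : ∀ n : ℕ, (g ^ n) c = c := by
      intro n
      induction n with
      | zero => simp
      | succ n ih => rw [pow_succ, Perm.mul_apply, hc, ih]
    exact this i
  refine ⟨⟨restr c (g ^ i) hfix, ?_⟩, ?_⟩
  · rw [mem_stab7, ofSubtype_restr]
    exact Y.pow_mem hg i
  · apply Subtype.ext
    show ((restr c (g ^ i) hfix) x : Fin 8) = y
    rw [restr_apply, hi]

/-- the case `7 ∣ |Y|` -/
theorem seven_case (Y : Subgroup (Perm (Fin 8))) (hY : Y ≤ alternatingGroup (Fin 8))
    [IsPretransitive ↥Y (Fin 8)] (h7 : 7 ∣ Nat.card ↥Y) :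
    Nat.card ↥Y = 56 ∨ Nat.card ↥Y = 168 ∨ Nat.card ↥Y = 1344 ∨ Y = alternatingGroup (Fin 8) := by
  have : Fact (Nat.Prime 7) := ⟨by norm_num⟩
  obtain ⟨g, hg⟩ := exists_prime_orderOf_dvd_card' (G := ↥Y) 7 h7
  have hg' : orderOf (g : Perm (Fin 8)) = 7 := by rw [Subgroup.orderOf_coe]; exact hg
  obtain ⟨c, hc, htr⟩ := exists_fixed_of_seven g.1 hg'
  have := pretransitive_stab7 Y g.1 g.2 c hc htr
  have hcard := card_eq_eight_mul Y c
  rcases deg7_cases (card_sub7 c) (stab7 Y c) (even_stab7 Y hY c) with h | h | h | h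
  · left; omega
  · right; left; omega
  · right; right; left; omega
  · right; right; right
    apply Subgroup.eq_of_le_of_card_ge hY
    have h3 := nat_card_alternatingGroup (α := Fin 8)
    rw [h3, Nat.card_eq_fintype_card, Fintype.card_fin]
    have : Nat.factorial 8 / 2 = 20160 := by decide
    omega

end Cfsg.Agent.Lib.Helper9.A8Tr
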