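import Mathlib
import Cfsg.Agent.S0144
import Cfsg.Agent.Lib.Helper9.A8Tr3
import Cfsg.Agent.Lib.Helper9.A8Tr4
import Cfsg.Agent.Lib.Helper6.A8V1
import Cfsg.Agent.Lib.Helper8.A8V2
import Cfsg.Agent.Lib.Helper8.A8Sub7

set_option autoImplicit false

/-! S3104, unit (d): a nonsolvable transitive subgroup of `A₈` with `O₂ = 1`, acting faithfully on
an elementary abelian 2-group of order at most 16, is simple of order 168 or `A₈`. -/

namespace Cfsg.Agent.Lib.Helper9.A8Tr

open Equiv MulAction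

/-- a group whose order divides `2 ^ 6 * 3 ^ 2` is solvable -/
theorem solvable_of_dvd_576 {G : Type*} [Group G] [Finite G] (h : Nat.card G ∣ 576) :
    Group.IsSolvable G := by
  have h576 : (576 : ℕ) = 2 ^ 6 * 3 ^ 2 := by norm_num
  rw [h576] at h
  obtain ⟨x, y, hx, hy, hxy⟩ := (Nat.dvd_mul).mp h
  obtain ⟨a, -, rfl⟩ := (Nat.dvd_prime_pow Nat.prime_two).mp hx
  obtain ⟨b, -, rfl⟩ := (Nat.dvd_prime_pow Nat.prime_three).mp hy
  exact Cfsg.Agent.S0144.result 2 3 a b Nat.prime_two Nat.prime_three hxy.symm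

/-- a simple group of order 168 is `PSL(3, 2)` -/
theorem psl32_of_card_168 {G : Type*} [Group G] [Finite G] [IsSimpleGroup G]
    (h : Nat.card G = 168) :
    Nonempty (G ≃* Matrix.ProjectiveSpecialLinearGroup (Fin 3) (ZMod 2)) := by
  have : Fact (Nat.Prime 7) := ⟨by norm_num⟩
  obtain ⟨e1⟩ := Cfsg.Agent.S0495.result (G := G) h (F := ZMod 7) (by simp [ZMod.card])
  obtain ⟨e2⟩ := Cfsg.Agent.S0255.result (F := ZMod 7) (K := ZMod 2) (by simp [ZMod.card])
    (by simp [ZMod.card])
  exact ⟨e1.trans e2⟩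

theorem transitive_eight (Y : Subgroup (Perm (Fin 8))) (hY : Y ≤ alternatingGroup (Fin 8))
    [IsPretransitive ↥Y (Fin 8)] (hns : ¬ Group.IsSolvable ↥Y)
    (hO2 : ∀ N : Subgroup ↥Y, N.Normal → IsPGroup 2 ↥N → N = ⊥)
    {E : Type*} [Group E] [Finite E] (hE2 : ∀ e : E, e * e = 1) (hE16 : Nat.card E ≤ 16)
    (ρ : ↥Y →* MulAut E) (hρ : Function.Injective ρ) :
    (Nat.card ↥Y = 168 ∧ IsSimpleGroup ↥Y) ∨ Y = alternatingGroup (Fin 8) := by
  have hseven : 7 ∣ Nat.card ↥Y := by
    by_contra h7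
    by_cases h5 : 5 ∣ Nat.card ↥Y
    · have : Fact (Nat.Prime 5) := ⟨by norm_num⟩
      obtain ⟨g, hg⟩ := exists_prime_orderOf_dvd_card' (G := ↥Y) 5 h5
      have hg' : orderOf (g : Perm (Fin 8)) = 5 := by rw [Subgroup.orderOf_coe]; exact hg
      exact h7 (seven_dvd_of_five Y g.1 g.2 hg')
    · apply hns
      apply solvable_of_dvd_576
      have hdvd : Nat.card ↥Y ∣ 20160 := by
        have h1 := Subgroup.card_dvd_of_le hY
        have h3 := nat_card_alternatingGroup (α := Fin 8)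
        rw [Nat.card_fin] at h3
        have : Nat.factorial 8 / 2 = 20160 := by decide
        rw [h3, this] at h1
        exact h1
      have hc5 : Nat.Coprime (Nat.card ↥Y) 5 :=
        ((Nat.Prime.coprime_iff_not_dvd (by norm_num)).mpr h5).symm
      have hc7 : Nat.Coprime (Nat.card ↥Y) 7 :=
        ((Nat.Prime.coprime_iff_not_dvd (by norm_num)).mpr h7).symm
      have hc35 : Nat.Coprime (Nat.card ↥Y) 35 := by
        have := Nat.Coprime.mul_right hc5 hc7
        simpa using this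
      have h20160 : (20160 : ℕ) = 576 * 35 := by norm_num
      rw [h20160] at hdvd
      exact hc35.dvd_of_dvd_mul_right hdvd
  rcases seven_case Y hY hseven with h | h | h | h
  · exfalso
    apply hns
    exact Cfsg.Agent.S0144.result 2 7 3 1 Nat.prime_two (by norm_num) (by rw [h]; norm_num)
  · left
    exact ⟨h, Cfsg.Agent.Lib.Helper8.A8V2.simple_of_card_168 h hns⟩
  · exfalso
    exact Cfsg.Agent.Lib.Helper6.A8V1.no_1344 h hO2 hE2 hE16 ρ hρ
  · right
    exact h

/-- U5 (d) of S3104: the transitive case, abstract form -/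
theorem case_eight {Y : Type*} [Group Y] [Finite Y]
    (f : Y →* ↥(alternatingGroup (Fin 8))) (hf : Function.Injective f)
    (htr : ∀ a b : Fin 8, ∃ y : Y, ((f y : alternatingGroup (Fin 8)) : Equiv.Perm (Fin 8)) a = b)
    (hns : ¬ Group.IsSolvable Y)
    (hO2 : ∀ N : Subgroup Y, N.Normal → IsPGroup 2 ↥N → N = ⊥)
    {E : Type*} [Group E] [Finite E] (hE2 : ∀ e : E, e * e = 1) (hE16 : Nat.card E ≤ 16)
    (ρ : Y →* MulAut E) (hρ : Function.Injective ρ) :
    (∃ (F : Type) (_ : Field F) (_ : Fintype F), Fintype.card F = 2 ∧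
        Nonempty (Y ≃* Matrix.ProjectiveSpecialLinearGroup (Fin 3) F)) ∨
      Nonempty (Y ≃* ↥(alternatingGroup (Fin 8))) := by
  set φ : Y →* Perm (Fin 8) := (alternatingGroup (Fin 8)).subtype.comp f with hφdef
  have hφ : Function.Injective φ := by
    intro a b hab
    exact hf (Subtype.ext hab)
  let e : Y ≃* ↥φ.range := MonoidHom.ofInjective hφ
  have he : ∀ y : Y, ((e y : ↥φ.range) : Perm (Fin 8)) = (f y : Perm (Fin 8)) := fun y => rfl
  have hY' : φ.range ≤ alternatingGroup (Fin 8) := by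
    rintro _ ⟨y, rfl⟩
    exact (f y).2
  have : IsPretransitive ↥φ.range (Fin 8) := by
    refine ⟨fun a b => ?_⟩
    obtain ⟨y, hy⟩ := htr a b
    exact ⟨e y, hy⟩
  have hns' : ¬ Group.IsSolvable ↥φ.range := by
    intro hs
    apply hns
    exact Group.isSolvable_of_isSolvable_injective (f := e.toMonoidHom) e.injective
  have hO2' : ∀ N : Subgroup ↥φ.range, N.Normal → IsPGroup 2 ↥N → N = ⊥ := by
    intro N hN hN2
    have h1 : N.comap e.toMonoidHom = ⊥ :=
      hO2 _ (hN.comap _) (hN2.comap_of_injective e.toMonoidHom e.injective)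
    rw [Subgroup.eq_bot_iff_forall]
    intro x hx
    have h2 : e.symm x ∈ N.comap e.toMonoidHom := by
      rw [Subgroup.mem_comap]
      show e (e.symm x) ∈ N
      rw [MulEquiv.apply_symm_apply]
      exact hx
    rw [h1, Subgroup.mem_bot] at h2
    have := congrArg e h2
    rwa [MulEquiv.apply_symm_apply, map_one] at this
  have hρ' : Function.Injective (ρ.comp e.symm.toMonoidHom) := hρ.comp e.symm.injective
  rcases transitive_eight φ.range hY' hns' hO2' hE2 hE16 (ρ.comp e.symm.toMonoidHom) hρ' with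
    ⟨h168, hsimple⟩ | hA8
  · left
    have := hsimple
    obtain ⟨e2⟩ := psl32_of_card_168 (G := ↥φ.range) h168
    exact ⟨ZMod 2, inferInstance, inferInstance, by simp [ZMod.card], ⟨e.trans e2⟩⟩
  · right
    exact ⟨e.trans (MulEquiv.subgroupCongr hA8)⟩

end Cfsg.Agent.Lib.Helper9.A8Tr
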