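import Mathlib
import Cfsg.Prelude.Def_Local
import Cfsg.Prelude.Def_CaseTheorems
import Cfsg.Agent.Lib.Helper3.A8OrbW
import Cfsg.Agent.Lib.Helper1.A8D5b
import Cfsg.Agent.Lib.Helper4.A8Six
import Cfsg.Agent.Lib.Helper8.A8Seven
import Cfsg.Agent.Lib.Helper9.A8Tr5
import Cfsg.Agent.Lib.Helper6.A8Quot

set_option autoImplicit false

/-! S3104, part (1): glue of the units (orbit reduction, five/six/seven/eight points, quotient data)
into the first conjunct of the statement. -/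

namespace Cfsg.Agent.Lib.Helper9.A8Part1

open Cfsg.Agent.Lib.Helper3.A8OrbW (orbit_reduction)
open Cfsg.Agent.Lib.Helper1.A8D5 (case_five)
open Cfsg.Agent.Lib.Helper4.A8Six (case_six)
open Cfsg.Agent.Lib.Helper8.A8Seven (case_seven)
open Cfsg.Agent.Lib.Helper9.A8Tr (case_eight)
open Cfsg.Agent.Lib.Helper6.A8Quot (quot_data)

/-- part (1) of S3104 for an abstract group `Y` embedded in `A₈` -/
theorem part_one {Y : Type*} [Group Y] [Finite Y]
    (f : Y →* ↥(alternatingGroup (Fin 8))) (hf : Function.Injective f)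
    (hns : ¬ Group.IsSolvable Y)
    (hO2 : ∀ N : Subgroup Y, N.Normal → IsPGroup 2 ↥N → N = ⊥)
    {E : Type*} [Group E] [Finite E] (hE2 : ∀ e : E, e * e = 1) (hE16 : Nat.card E ≤ 16)
    (ρ : Y →* MulAut E) (hρ : Function.Injective ρ) :
    (∃ (F : Type) (_ : Field F) (_ : Fintype F), Fintype.card F = 2 ∧
        Nonempty (Y ≃* Matrix.ProjectiveSpecialLinearGroup (Fin 3) F)) ∨
      (∃ n : ℕ, 5 ≤ n ∧ n ≤ 8 ∧ Nonempty (Y ≃* ↥(alternatingGroup (Fin n)))) ∨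
      (∃ n : ℕ, 5 ≤ n ∧ n ≤ 7 ∧ Nonempty (Y ≃* Equiv.Perm (Fin n))) ∨
      (Nat.card ↥(Cfsg.pCore 3 Y) = 3 ∧
        (Nonempty (Y ⧸ Cfsg.pCore 3 Y ≃* ↥(alternatingGroup (Fin 5))) ∨
          Nonempty (Y ⧸ Cfsg.pCore 3 Y ≃* Equiv.Perm (Fin 5)))) := by
  rcases orbit_reduction f hf hns hO2 with htr | ⟨n, g, h5, h7, htr, hgns, hk⟩
  · rcases case_eight f hf htr hns hO2 hE2 hE16 ρ hρ with h | h
    · exact Or.inl h
    · exact Or.inr (Or.inl ⟨8, by norm_num, le_refl _, h⟩)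
  · have hn : n = 5 ∨ n = 6 ∨ n = 7 := by omega
    rcases hn with rfl | rfl | rfl
    · have h := case_five g hgns
      rcases hk with hk | ⟨-, hk⟩
      · rcases h.1 hk with h | h
        · exact Or.inr (Or.inl ⟨5, le_refl _, by norm_num, h⟩)
        · exact Or.inr (Or.inr (Or.inl ⟨5, le_refl _, by norm_num, h⟩))
      · exact Or.inr (Or.inr (Or.inr (h.2 hk)))
    · rcases hk with hk | ⟨h, -⟩
      · rcases case_six g hk hns hO2 with h | h | h | h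
        · exact Or.inr (Or.inl ⟨5, le_refl _, by norm_num, h⟩)
        · exact Or.inr (Or.inr (Or.inl ⟨5, le_refl _, by norm_num, h⟩))
        · exact Or.inr (Or.inl ⟨6, by norm_num, by norm_num, h⟩)
        · exact Or.inr (Or.inr (Or.inl ⟨6, by norm_num, by norm_num, h⟩))
      · omega
    · rcases hk with hk | ⟨h, -⟩
      · rcases case_seven g hk htr hns with h | h | h
        · exact Or.inl h
        · exact Or.inr (Or.inl ⟨7, by norm_num, by norm_num, h⟩)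
        · exact Or.inr (Or.inr (Or.inl ⟨7, by norm_num, by norm_num, h⟩))
      · omega

/-- first conjunct of S3104 -/
theorem first_conjunct {X : Type*} [Group X] [Finite X] (hns : ¬ Group.IsSolvable X)
    (hc : Cfsg.IsPConstrained 2 X) (hO : Cfsg.oddCore X = ⊥)
    (h4 : Cfsg.SectionalPRankLE 2 4 ↥(Cfsg.pCore 2 X))
    (f : X ⧸ Cfsg.pCore 2 X →* ↥(alternatingGroup (Fin 8))) (hf : Function.Injective f) :
    ((∃ (F : Type) (_ : Field F) (_ : Fintype F), Fintype.card F = 2 ∧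
          Nonempty (X ⧸ Cfsg.pCore 2 X ≃* Matrix.ProjectiveSpecialLinearGroup (Fin 3) F)) ∨
        (∃ n : ℕ, 5 ≤ n ∧ n ≤ 8 ∧ Nonempty (X ⧸ Cfsg.pCore 2 X ≃* ↥(alternatingGroup (Fin n)))) ∨
        (∃ n : ℕ, 5 ≤ n ∧ n ≤ 7 ∧ Nonempty (X ⧸ Cfsg.pCore 2 X ≃* Equiv.Perm (Fin n))) ∨
        (Nat.card ↥(Cfsg.pCore 3 (X ⧸ Cfsg.pCore 2 X)) = 3 ∧
          (Nonempty ((X ⧸ Cfsg.pCore 2 X) ⧸ Cfsg.pCore 3 (X ⧸ Cfsg.pCore 2 X) ≃* ↥(alternatingGroup (Fin 5))) ∨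
            Nonempty ((X ⧸ Cfsg.pCore 2 X) ⧸ Cfsg.pCore 3 (X ⧸ Cfsg.pCore 2 X) ≃* Equiv.Perm (Fin 5))))) := by
  obtain ⟨h1, h2, E, _, _, hE2, hE16, ρ, hρ⟩ := quot_data hns hc hO h4
  exact part_one f hf h1 h2 hE2 hE16 ρ hρ

end Cfsg.Agent.Lib.Helper9.A8Part1
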