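import Mathlib
import Cfsg.Prelude
import Cfsg.Agent.Lib.Helper9.ASP20
import Cfsg.Agent.Lib.Helper7.AuD
import Cfsg.Agent.Lib.Helper9.ALB1

set_option autoImplicit false
set_option linter.unusedSectionVars false
set_option linter.unusedVariables false
open Cfsg

namespace Cfsg.Agent.Lib.Helper9.ALB

open Matrix Cfsg.Agent.Lib.Helper5.SympTv Cfsg.Agent.Lib.Helper5.SympGen
  Cfsg.Agent.Lib.Helper5.SympPerfect Cfsg.Agent.Lib.Helper5.SympBridge
  Cfsg.Agent.Lib.Helper5.SympPrimitive Cfsg.Agent.Lib.Helper9.ASP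

attribute [local instance 2000] spAction spSMulComm

variable {F : Type*} [Field F] (m : ℕ)

set_option quotPrecheck false
local notation "Vm" => (Fin m ⊕ Fin m → F)
local notation "Mm" => Matrix (Fin m ⊕ Fin m) (Fin m ⊕ Fin m) F
local notation "Spm" => ↥(Matrix.symplecticGroup (Fin m) F)
local notation "PSpm" => Cfsg.PSp m F
local notation "BB" => sympForm m F
local notation "GLm" => GL (Fin m ⊕ Fin m) F
local notation "GSpm" => ↥(Cfsg.GSp m F)

/-! Local balance for `PSp`: extension of scalars on symplectic matrices, the rational points. -/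

section conjinj

/-- conjugation by a nontrivial element of `PSp` is a nontrivial automorphism -/
theorem conj_eq_one (hm : 1 ≤ m) (z : PSpm) (h : (MulAut.conj z : MulAut PSpm) = 1) : z = 1 := by
  obtain ⟨A, rfl⟩ := mkS_surjective m z
  rw [← cS_toGSp, mem_ker_cS m hm] at h
  obtain ⟨a, ha⟩ := h
  rw [mkS_eq_one_iff m hm]
  exact ⟨a, fun v => by rw [← gact_toGSp, ha]⟩

theorem conj_injective (hm : 1 ≤ m) :
    Function.Injective (MulAut.conj : PSpm →* MulAut PSpm) := by
  rw [injective_iff_map_eq_one]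
  exact conj_eq_one m hm

theorem conj_conj (β : MulAut PSpm) (g : PSpm) :
    β * MulAut.conj g * β⁻¹ = (MulAut.conj (β g) : MulAut PSpm) := (conj_aut' m β g).symm

end conjinj

section ext
variable {F₀ : Type*} [Field F₀] (j : F₀ →+* F)

local notation "Sp0" => ↥(Matrix.symplecticGroup (Fin m) F₀)

/-- extension of scalars on symplectic matrices -/
noncomputable def mapSp : ↥(Matrix.symplecticGroup (Fin m) F₀) →*
    ↥(Matrix.symplecticGroup (Fin m) F) where
  toFun s := ⟨(s : Matrix (Fin m ⊕ Fin m) (Fin m ⊕ Fin m) F₀).map j, by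
    rw [SymplecticGroup.mem_iff]
    have h1 := (SymplecticGroup.mem_iff).mp s.2
    rw [← J_hmap m j, ← Matrix.transpose_map, ← Matrix.map_mul, ← Matrix.map_mul, h1]⟩
  map_one' := by
    apply Subtype.ext
    show (1 : Matrix (Fin m ⊕ Fin m) (Fin m ⊕ Fin m) F₀).map j = 1
    rw [Matrix.map_one _ (map_zero j) (map_one j)]
  map_mul' s t := by
    apply Subtype.ext
    show ((s : Matrix (Fin m ⊕ Fin m) (Fin m ⊕ Fin m) F₀) * t).map j = _
    rw [Matrix.map_mul]
    rfl

theorem mapSp_coe (s : Sp0) : ((mapSp m j s : Spm) : Mm) =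
    (s : Matrix (Fin m ⊕ Fin m) (Fin m ⊕ Fin m) F₀).map j := rfl

theorem mapSp_smul (s : Sp0) (v₀ : Fin m ⊕ Fin m → F₀) :
    mapSp m j s • hmap m j v₀ = hmap m j (s • v₀) := by
  show ((mapSp m j s : Spm) : Mm) *ᵥ hmap m j v₀ = hmap m j ((s : Matrix _ _ F₀) *ᵥ v₀)
  rw [hmap_mulVec, mapSp_coe]

theorem mapSp_tv (x₀ : Fin m ⊕ Fin m → F₀) (c₀ : F₀) :
    mapSp m j (tv m x₀ c₀) = tv m (hmap m j x₀) (j c₀) := by
  apply Subtype.ext
  rw [mapSp_coe, tv_coe, tv_coe]
  unfold sympTransvection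
  have h1 : Matrix.J (Fin m) F *ᵥ hmap m j x₀ = hmap m j (Matrix.J (Fin m) F₀ *ᵥ x₀) := by
    rw [hmap_mulVec, J_hmap]
  rw [h1]
  ext a b
  rw [Matrix.map_apply, Matrix.add_apply, Matrix.add_apply, Matrix.smul_apply, Matrix.smul_apply,
    Matrix.vecMulVec_apply, Matrix.vecMulVec_apply, map_add, smul_eq_mul, smul_eq_mul, map_mul,
    map_mul]
  congr 1
  rw [Matrix.one_apply, Matrix.one_apply]
  split_ifs
  · exact map_one j
  · exact map_zero j

theorem fieldSp_mapSp (σ : F ≃+* F) (hι' : ∀ t : F₀, σ (j t) = j t) (s : Sp0) :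
    fieldSp m σ (mapSp m j s) = mapSp m j s := by
  apply Subtype.ext
  rw [fieldSp_coe, mapSp_coe]
  ext a b
  rw [Matrix.map_apply, Matrix.map_apply, hι']

theorem exists_mapSp_eq (σ : F ≃+* F) (hι : ∀ a : F, σ a = a → a ∈ Set.range j) (A : Spm)
    (hA : fieldSp m σ A = A) : ∃ s : Sp0, mapSp m j s = A := by
  have hfix : ∀ a b, σ ((A : Mm) a b) = (A : Mm) a b := by
    intro a b
    have h1 := congrArg (fun B : Spm => (B : Mm) a b) hA
    exact h1
  choose c hc using fun a b => hι _ (hfix a b)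
  have hM : (Matrix.of c).map j = (A : Mm) := by
    ext a b
    exact hc a b
  have hmem : Matrix.of c ∈ Matrix.symplecticGroup (Fin m) F₀ := by
    rw [SymplecticGroup.mem_iff]
    apply Matrix.map_injective j.injective
    show (Matrix.of c * Matrix.J (Fin m) F₀ * (Matrix.of c)ᵀ).map j = (Matrix.J (Fin m) F₀).map j
    rw [Matrix.map_mul, Matrix.map_mul, Matrix.transpose_map, hM, J_hmap]
    exact (SymplecticGroup.mem_iff).mp A.2
  exact ⟨⟨Matrix.of c, hmem⟩, Subtype.ext hM⟩

end ext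

section iwasawa
open scoped LinearAlgebra.Projectivization

/-- **the Iwasawa dichotomy for the symplectic group**: a normal subgroup contains the
commutator subgroup or is central -/
theorem normal_sp_dichotomy (N : Subgroup Spm) [N.Normal] :
    commutator Spm ≤ N ∨ N ≤ Subgroup.center Spm := by
  by_cases hfix : MulAction.fixedPoints N (ℙ F (Fin m ⊕ Fin m → F)) = Set.univ
  · right
    intro n hn
    apply mem_center_of_fix
    intro p
    have : p ∈ MulAction.fixedPoints N (ℙ F (Fin m ⊕ Fin m → F)) := by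
      rw [hfix]; exact Set.mem_univ p
    exact this ⟨n, hn⟩
  · left
    have := isPreprimitive (F := F) (m := m)
    exact (iwasawa m).commutator_le N hfix

theorem tv_pow (x : Vm) (c : F) (k : ℕ) : (tv m x c) ^ k = tv m x (k • c) := by
  induction k with
  | zero => rw [pow_zero, zero_smul, Cfsg.Agent.Lib.Helper5.SympPerfect.tv_zero]
  | succ k ih => rw [pow_succ, ih, tv_mul, succ_nsmul]

/-- the abelianisation of the symplectic group has exponent dividing the characteristic -/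
theorem pow_char_mem_commutator (r : ℕ) [CharP F r] (s : Spm) : s ^ r ∈ commutator Spm := by
  rw [← Abelianization.ker_of, MonoidHom.mem_ker, map_pow]
  have hle : (⊤ : Subgroup Spm) ≤
      (powMonoidHom r : Abelianization Spm →* Abelianization Spm).ker.comap
        (Abelianization.of) := by
    rw [← closure_tvSet_eq_top m, Subgroup.closure_le]
    rintro A ⟨w, c, hA⟩
    have hA' : A = tv m w c := Subtype.ext hA
    show Abelianization.of A ∈ (powMonoidHom r : Abelianization Spm →* Abelianization Spm).ker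
    rw [MonoidHom.mem_ker, powMonoidHom_apply, ← map_pow, hA', tv_pow]
    have h0 : r • c = 0 := by
      rw [nsmul_eq_mul, CharP.cast_eq_zero, zero_mul]
    rw [h0, Cfsg.Agent.Lib.Helper5.SympPerfect.tv_zero, map_one]
  have h1 := hle (Subgroup.mem_top s)
  exact h1

end iwasawa

section fixed
variable {F₀ : Type*} [Field F₀] (j : F₀ →+* F) (σ : RingAut F)

local notation "Sp0" => ↥(Matrix.symplecticGroup (Fin m) F₀)

/-- the fixed points of the standard field automorphism -/
noncomputable def fixS : Subgroup PSpm :=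
  MonoidHom.eqLocus (fS m σ : MulAut PSpm).toMonoidHom (MonoidHom.id PSpm)

theorem mem_fixS (z : PSpm) : z ∈ fixS m σ ↔ fS m σ z = z := Iff.rfl

/-- the inner automorphisms induced by the fixed points -/
noncomputable def I0 : Subgroup (MulAut PSpm) := (fixS m σ).map MulAut.conj

/-- the automorphisms induced by the rational points -/
noncomputable def piS : ↥(Matrix.symplecticGroup (Fin m) F₀) →* MulAut PSpm :=
  (MulAut.conj).comp ((mkS m).comp (mapSp m j))

theorem piS_apply (s : Sp0) : piS m j s = MulAut.conj (mkS m (mapSp m j s)) := rfl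

theorem exists_sign_of_fix (hm : 1 ≤ m) (A : Spm) (h : fS m σ (mkS m A) = mkS m A) :
    ∃ (a : F) (ha : a * a = 1), fieldSp m σ A = scS m a ha * A := by
  rw [fS_mkS] at h
  obtain ⟨a, ha⟩ := (mkS_eq_iff m A (fieldSp m σ A)).mp h.symm
  have haa : a * a = 1 := by
    apply scalar_sq m hm (A⁻¹ * fieldSp m σ A) a
    intro v
    rw [mul_smul, ha, sp_smul_smul, inv_smul_smul]
  refine ⟨a, haa, ?_⟩
  apply sp_ext
  intro v
  rw [ha, mul_smul, scS_smul]

theorem scS_conj (a : F) (ha : a * a = 1) (A B : Spm) :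
    (scS m a ha * A) * B * (scS m a ha * A)⁻¹ = A * B * A⁻¹ := by
  rw [_root_.mul_inv_rev]
  calc scS m a ha * A * B * (A⁻¹ * (scS m a ha)⁻¹)
      = scS m a ha * (A * B * A⁻¹) * (scS m a ha)⁻¹ := by group
    _ = A * B * A⁻¹ * scS m a ha * (scS m a ha)⁻¹ := by rw [scS_comm]
    _ = A * B * A⁻¹ := by rw [mul_inv_cancel_right]

theorem piS_mem_I0 (hι' : ∀ t : F₀, σ (j t) = j t) (s : Sp0) : piS m j s ∈ I0 m σ := by
  refine ⟨mkS m (mapSp m j s), ?_, rfl⟩
  show mkS m (mapSp m j s) ∈ fixS m σ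
  rw [mem_fixS, fS_mkS, fieldSp_mapSp m j σ hι']

theorem conj_piS (hm : 1 ≤ m) (hι : ∀ a : F, σ a = a → a ∈ Set.range j)
    (hι' : ∀ t : F₀, σ (j t) = j t) (i : MulAut PSpm) (hi : i ∈ I0 m σ) (s : Sp0) :
    ∃ s' : Sp0, i * piS m j s * i⁻¹ = piS m j s' := by
  obtain ⟨z, hz, rfl⟩ := hi
  obtain ⟨A, rfl⟩ := mkS_surjective m z
  obtain ⟨a, ha, hA⟩ := exists_sign_of_fix m σ hm A hz
  have hB : fieldSp m σ (A * mapSp m j s * A⁻¹) = A * mapSp m j s * A⁻¹ := by
    rw [map_mul, map_mul, map_inv, fieldSp_mapSp m j σ hι', hA]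
    exact scS_conj m a ha A (mapSp m j s)
  obtain ⟨s', hs'⟩ := exists_mapSp_eq m j σ hι _ hB
  refine ⟨s', ?_⟩
  rw [piS_apply, piS_apply, hs']
  show MulAut.conj (mkS m A) * MulAut.conj (mkS m (mapSp m j s)) * (MulAut.conj (mkS m A))⁻¹ = _
  rw [← map_inv, ← map_mul, ← map_mul, ← map_inv, ← map_mul, ← map_mul]

theorem I0_le (A : Subgroup (MulAut PSpm)) (hinn : ∀ k : PSpm, MulAut.conj k ∈ A) :
    I0 m σ ≤ A ⊓ Subgroup.centralizer {fS m σ} := by
  rintro _ ⟨z, hz, rfl⟩
  have hz' : z ∈ fixS m σ := hz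
  refine ⟨hinn z, ?_⟩
  show MulAut.conj z ∈ Subgroup.centralizer {fS m σ}
  rw [Subgroup.mem_centralizer_iff]
  intro h hh
  rw [Set.mem_singleton_iff] at hh
  rw [hh]
  have h1 := conj_conj m (fS m σ) z
  rw [(mem_fixS m σ z).mp hz'] at h1
  show fS m σ * MulAut.conj z = MulAut.conj z * fS m σ
  exact mul_inv_eq_iff_eq_mul.mp h1

theorem I0_normalized (c : MulAut PSpm) (hc : c ∈ Subgroup.centralizer {fS m σ})
    (i : MulAut PSpm) (hi : i ∈ I0 m σ) : c * i * c⁻¹ ∈ I0 m σ := by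
  obtain ⟨z, hz, rfl⟩ := hi
  have hz' : z ∈ fixS m σ := hz
  refine ⟨c z, ?_, (conj_conj m c z).symm⟩
  rw [Subgroup.mem_centralizer_iff] at hc
  have h1 := hc (fS m σ) rfl
  show c z ∈ fixS m σ
  rw [mem_fixS] at hz' ⊢
  have h2 : fS m σ (c z) = (fS m σ * c) z := rfl
  rw [h2, h1]
  show c (fS m σ z) = c z
  rw [hz']

theorem piS_ker_of_center (hm : 1 ≤ m) (M : Subgroup Sp0)
    (hM : M ≤ Subgroup.center Sp0) : M ≤ (piS (F := F) m j).ker := by
  intro s hs
  obtain ⟨a₀, ha₀⟩ := (mem_center_iff m s).mp (hM hs)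
  have hmat : (s : Matrix (Fin m ⊕ Fin m) (Fin m ⊕ Fin m) F₀) = a₀ • 1 := by
    rw [Matrix.ext_iff_mulVec]
    intro x
    rw [Matrix.smul_mulVec, Matrix.one_mulVec]
    exact ha₀ x
  have h1 : mkS m (mapSp m j s) = 1 := by
    rw [mkS_eq_one_iff m hm]
    refine ⟨j a₀, fun v => ?_⟩
    show ((mapSp m j s : Spm) : Mm) *ᵥ v = _
    rw [mapSp_coe, hmat]
    have h2 : (a₀ • (1 : Matrix (Fin m ⊕ Fin m) (Fin m ⊕ Fin m) F₀)).map j =
        j a₀ • (1 : Mm) := by
      ext x y
      rw [Matrix.map_apply, Matrix.smul_apply, Matrix.smul_apply, smul_eq_mul, smul_eq_mul,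
        map_mul, Matrix.one_apply, Matrix.one_apply]
      split_ifs
      · rw [map_one]
      · rw [map_zero]
    rw [h2, Matrix.smul_mulVec, Matrix.one_mulVec]
  rw [MonoidHom.mem_ker, piS_apply, h1, map_one]

end fixed

end Cfsg.Agent.Lib.Helper9.ALB
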