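import Mathlib
import Cfsg.Prelude
import Cfsg.Agent.Lib.Helper9.ALB2

set_option autoImplicit false
set_option linter.unusedSectionVars false
set_option linter.unusedVariables false
open Cfsg

namespace Cfsg.Agent.Lib.Helper9.ALB

open Matrix Cfsg.Agent.Lib.Helper5.SympTv Cfsg.Agent.Lib.Helper5.SympGen
  Cfsg.Agent.Lib.Helper5.SympPerfect Cfsg.Agent.Lib.Helper5.SympBridge
  Cfsg.Agent.Lib.Helper5.SympPrimitive Cfsg.Agent.Lib.Helper9.ASP

attribute [local instance 2000] spAction spSMulComm

variable {F : Type*} [Field F] (m : ℕ)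

set_option quotPrecheck false
local notation "Vm" => (Fin m ⊕ Fin m → F)
local notation "Mm" => Matrix (Fin m ⊕ Fin m) (Fin m ⊕ Fin m) F
local notation "Spm" => ↥(Matrix.symplecticGroup (Fin m) F)
local notation "PSpm" => Cfsg.PSp m F
local notation "BB" => sympForm m F
local notation "GLm" => GL (Fin m ⊕ Fin m) F
local notation "GSpm" => ↥(Cfsg.GSp m F)

/-! Local balance for `PSp`: elements of order `p` among the rational points, and the
centraliser of the rational points. -/

section galois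
open Cfsg.Agent.Lib.Helper9.APSL (finite_ringAut mem_fixed_subfield)

/-- an automorphism fixing the fixed field of `σ` is a power of `σ` -/
theorem mem_zpowers_of_fixes {F : Type*} [Field F] [Finite F] (σ τ : RingAut F)
    (h : ∀ a : F, σ a = a → τ a = a) : τ ∈ Subgroup.zpowers σ := by
  haveI : Finite (RingAut F) := finite_ringAut
  obtain ⟨τ', hτ'⟩ : ∃ τ' : F ≃ₐ[FixedPoints.subfield (Subgroup.zpowers σ) F] F,
      ∀ a, τ' a = τ a :=
    ⟨AlgEquiv.ofRingEquiv (f := τ) (fun x => h x.1 ((mem_fixed_subfield σ x.1).mp x.2)),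
      fun _ => rfl⟩
  obtain ⟨g, hg⟩ := FixedPoints.toAlgAut_surjective (Subgroup.zpowers σ) F τ'
  have e : (g : RingAut F) = τ := by
    ext a
    have h1 := DFunLike.congr_fun hg a
    rw [hτ'] at h1
    exact h1
  rw [← e]
  exact g.2

end galois

section basis
variable {ι : Type*} [Fintype ι] [DecidableEq ι]

/-- a matrix having the basis vectors and their pairwise sums as eigenvectors is scalar -/
theorem scalar_of_eigen_basis (M : Matrix ι ι F)
    (h1 : ∀ k, ∃ a : F, M *ᵥ Pi.single k 1 = a • Pi.single k 1)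
    (h2 : ∀ k l, k ≠ l → ∃ a : F, M *ᵥ (Pi.single k 1 + Pi.single l 1) =
      a • (Pi.single k 1 + Pi.single l 1)) : ∃ a : F, M = a • 1 := by
  rcases isEmpty_or_nonempty ι with hι | ⟨⟨k0⟩⟩
  · exact ⟨0, Subsingleton.elim _ _⟩
  choose a ha using h1
  have hall : ∀ k, a k = a k0 := by
    intro k
    by_cases hk : k = k0
    · rw [hk]
    · obtain ⟨b, hb⟩ := h2 k k0 hk
      rw [mulVec_add, ha, ha] at hb
      have e1 := congrFun hb k
      have e2 := congrFun hb k0
      simp [hk, Ne.symm hk] at e1 e2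
      rw [e1, e2]
  refine ⟨a k0, ?_⟩
  ext r c
  have := congrFun (ha c) r
  rw [mulVec_single_one] at this
  simp only [Matrix.col_apply, Pi.smul_apply, smul_eq_mul] at this
  rw [this, hall c, Matrix.smul_apply, Matrix.one_apply, Pi.single_apply, smul_eq_mul]

end basis

section orderp
variable {F₀ : Type*} [Field F₀] (j : F₀ →+* F) (σ : RingAut F)

local notation "Sp0" => ↥(Matrix.symplecticGroup (Fin m) F₀)

theorem scS_mul_self (a : F) (ha : a * a = 1) : scS m a ha * scS m a ha = 1 := by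
  apply sp_ext
  intro v
  rw [mul_smul, scS_smul, scS_smul, smul_smul, ha, one_smul, one_smul]

/-- the matrix of the form, as a symplectic matrix -/
noncomputable def J0 (m : ℕ) (F₀ : Type*) [Field F₀] : ↥(Matrix.symplecticGroup (Fin m) F₀) :=
  ⟨Matrix.J (Fin m) F₀, SymplecticGroup.J_mem _ _⟩

/-- the class of the matrix of the form is an involution among the rational points -/
theorem orderOf_piS_J (hm : 1 ≤ m) :
    orderOf (piS (F := F) m j (J0 m F₀)) = 2 := by
  have hJ : ((mapSp m j (J0 m F₀) : Spm) : Mm) =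
      Matrix.J (Fin m) F := by
    rw [mapSp_coe]
    exact J_hmap m j
  apply orderOf_eq_prime
  · rw [← map_pow, piS_apply]
    have h1 : mkS m (mapSp m j ((J0 m F₀) ^ 2)) = 1 := by
      rw [mkS_eq_one_iff m hm]
      refine ⟨-1, fun v => ?_⟩
      rw [map_pow, pow_two]
      show (((mapSp m j (J0 m F₀) : Spm) : Mm) *
        ((mapSp m j (J0 m F₀) : Spm) : Mm)) *ᵥ v = _
      rw [hJ, Matrix.J_squared, Matrix.neg_mulVec, Matrix.one_mulVec, neg_smul, one_smul]
    rw [h1, map_one]
  · intro h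
    rw [piS_apply] at h
    have h1 := conj_eq_one m hm _ h
    rw [mkS_eq_one_iff m hm] at h1
    obtain ⟨a, ha⟩ := h1
    have h2 := ha (Pi.single (Sum.inl ⟨0, hm⟩) 1)
    have h3 : ((mapSp m j (J0 m F₀) : Spm) : Mm) *ᵥ
        (Pi.single (Sum.inl ⟨0, hm⟩) 1) = a • (Pi.single (Sum.inl ⟨0, hm⟩) 1 : Vm) := h2
    rw [hJ, Matrix.mulVec_single_one] at h3
    have h4 := congrFun h3 (Sum.inr ⟨0, hm⟩)
    simp [Matrix.J] at h4

/-- **an element of order `p` among the automorphisms induced by rational points** -/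
theorem exists_order_p [Finite F] (hm : 1 ≤ m) (hι : ∀ a : F, σ a = a → a ∈ Set.range j)
    (p : ℕ) [hp : Fact p.Prime] (hdvd : p ∣ Nat.card ↥(fixS m σ)) :
    ∃ s₀ : Sp0, orderOf (piS (F := F) m j s₀) = p := by
  rcases hp.out.eq_two_or_odd' with h2 | hodd
  · rw [h2]
    exact ⟨_, orderOf_piS_J m j hm⟩
  · obtain ⟨z, hz⟩ := exists_prime_orderOf_dvd_card' p hdvd
    obtain ⟨A, hA⟩ := mkS_surjective m (z : PSpm)
    have hzfix : fS m σ (mkS m A) = mkS m A := by
      rw [hA]
      exact (mem_fixS m σ _).mp z.2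
    obtain ⟨a, ha, hAσ⟩ := exists_sign_of_fix m σ hm A hzfix
    have hAA : fieldSp m σ (A * A) = A * A := by
      rw [map_mul, hAσ]
      calc scS m a ha * A * (scS m a ha * A) = scS m a ha * (A * scS m a ha) * A := by group
        _ = scS m a ha * (scS m a ha * A) * A := by rw [← scS_comm m a ha A]
        _ = (scS m a ha * scS m a ha) * (A * A) := by group
        _ = A * A := by rw [scS_mul_self, one_mul]
    obtain ⟨s₁, hs₁⟩ := exists_mapSp_eq m j σ hι _ hAA
    obtain ⟨k, hk⟩ := hodd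
    refine ⟨s₁ ^ (k + 1), ?_⟩
    have hord : orderOf (mkS m A) = p := by
      rw [hA, Subgroup.orderOf_coe]
      exact hz
    have h1 : piS (F := F) m j (s₁ ^ (k + 1)) = MulAut.conj (mkS m A) := by
      rw [piS_apply, map_pow, hs₁, map_pow, map_mul, ← pow_two, ← pow_mul]
      have h2 : 2 * (k + 1) = p + 1 := by omega
      rw [h2, pow_succ, ← hord, pow_orderOf_eq_one, one_mul]
    rw [h1, orderOf_injective _ (conj_injective m hm), hord]

end orderp

section cent
variable {F₀ : Type*} [Field F₀] (j : F₀ →+* F) (σ : RingAut F)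

local notation "Sp0" => ↥(Matrix.symplecticGroup (Fin m) F₀)

theorem hmap_ne_zero {x₀ : Fin m ⊕ Fin m → F₀} (hx₀ : x₀ ≠ 0) : hmap m j x₀ ≠ 0 := by
  intro h
  apply hx₀
  apply hmap_injective m j
  rw [h]
  ext i
  exact (map_zero j).symm

/-- **the centraliser of the rational points** in the automorphism group consists of field
automorphisms trivial on the subfield -/
theorem cent_piS [Finite F] (r : ℕ) [Fact r.Prime] [CharP F r] (hm : 2 ≤ m)
    (hι' : ∀ a : F, a ∈ Set.range j → σ a = a) (hι : ∀ a : F, σ a = a → a ∈ Set.range j)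
    (y : MulAut PSpm) (hy : ∀ s : Sp0, y * piS m j s = piS m j s * y) :
    y ∈ Subgroup.zpowers (fS m σ) := by
  have hm1 : 1 ≤ m := by omega
  -- `y` fixes the rational points
  have hfix : ∀ s : Sp0, y (mkS m (mapSp m j s)) = mkS m (mapSp m j s) := by
    intro s
    apply conj_injective m hm1
    rw [← conj_conj, ← piS_apply, hy, mul_inv_cancel_right]
  have hfixtv : ∀ x₀ : Fin m ⊕ Fin m → F₀,
      y (mkS m (tv m (hmap m j x₀) 1)) = mkS m (tv m (hmap m j x₀) 1) := by
    intro x₀
    have h1 := hfix (tv m x₀ 1)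
    rw [mapSp_tv, map_one] at h1
    exact h1
  -- hence it is standard
  obtain ⟨k, l, hkl⟩ : ∃ k l : Fin m ⊕ Fin m, k ≠ l :=
    ⟨Sum.inl ⟨0, hm1⟩, Sum.inr ⟨0, hm1⟩, Sum.inl_ne_inr⟩
  have he0 : (Pi.single k 1 : Fin m ⊕ Fin m → F₀) ≠ 0 := by
    intro h
    have := congrFun h k
    simp at this
  have hgood : Cfsg.Agent.Lib.Helper7.AuA.Good m y :=
    Cfsg.Agent.Lib.Helper7.AuD.good_of_tv m hm1 y (hmap_ne_zero m j he0) (hmap_ne_zero m j he0)
      one_ne_zero (hfixtv _)
  obtain ⟨g, τ, rfl⟩ := Cfsg.Agent.Lib.Helper7.AuA.aut_eq_std_rel m r hm y hgood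
  -- the semilinear map fixes every rational point
  have key : ∀ x₀ : Fin m ⊕ Fin m → F₀, x₀ ≠ 0 → ∃ a : F,
      gact m (g : GLm) (vmap m τ (hmap m j x₀)) = a • hmap m j x₀ := by
    intro x₀ hx₀
    have hx0 := hmap_ne_zero m j hx₀
    have hPt1 : Pt m (cS m g * fS m τ) (hmap m j x₀)
        (gact m (g : GLm) (vmap m τ (hmap m j x₀))) := Pt_std m g τ _
    have hPt2 : Pt m (cS m g * fS m τ) (hmap m j x₀) (hmap m j x₀) :=
      map_RSb m hm1 _ hx0 hx0 one_ne_zero (hfixtv x₀)
    have hne : gact m (g : GLm) (vmap m τ (hmap m j x₀)) ≠ 0 :=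
      gact_ne_zero m _ (Cfsg.Agent.Lib.Helper7.AuA.vmap_ne_zero m τ hx0)
    obtain ⟨a, -, ha⟩ := Pt.unique m hm1 hPt2 hPt1 hx0 hne
    exact ⟨a, ha⟩
  -- the linear part is scalar
  have hsingle : ∀ i : Fin m ⊕ Fin m, vmap m τ (hmap m j (Pi.single i 1)) = Pi.single i 1 := by
    intro i
    rw [hmap_single, vmap_single]
  obtain ⟨lam, hlam⟩ : ∃ lam : F, ((g : GLm) : Mm) = lam • 1 := by
    apply scalar_of_eigen_basis
    · intro i
      have hi0 : (Pi.single i 1 : Fin m ⊕ Fin m → F₀) ≠ 0 := by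
        intro h
        have := congrFun h i
        simp at this
      obtain ⟨a, ha⟩ := key _ hi0
      rw [hsingle, hmap_single] at ha
      exact ⟨a, ha⟩
    · intro i i' hii'
      have hi0 : (Pi.single i 1 + Pi.single i' 1 : Fin m ⊕ Fin m → F₀) ≠ 0 := by
        intro h
        have := congrFun h i
        simp [hii'] at this
      obtain ⟨a, ha⟩ := key _ hi0
      have e1 : hmap m j (Pi.single i 1 + Pi.single i' 1) =
          (Pi.single i 1 + Pi.single i' 1 : Vm) := by
        ext t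
        show j ((Pi.single i 1 + Pi.single i' 1 : Fin m ⊕ Fin m → F₀) t) = _
        rw [Pi.add_apply, map_add, Pi.add_apply]
        congr 1
        · exact congrFun (hmap_single m j i) t
        · exact congrFun (hmap_single m j i') t
      rw [e1, vmap_add, vmap_single, vmap_single] at ha
      exact ⟨a, ha⟩
  have hgact : ∀ v : Vm, gact m (g : GLm) v = lam • v := by
    intro v
    unfold gact
    rw [hlam, Matrix.smul_mulVec, Matrix.one_mulVec]
  have hcS : cS m g = 1 := (mem_ker_cS m hm1 g).mpr ⟨lam, hgact⟩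
  have hlam0 : lam ≠ 0 := by
    rintro rfl
    have h1 := hgact (Pi.single k 1)
    rw [zero_smul] at h1
    have hk0 : (Pi.single k 1 : Vm) ≠ 0 := by
      intro h
      have := congrFun h k
      simp at this
    exact gact_ne_zero m _ hk0 h1
  -- the field automorphism fixes the subfield
  have hτ : ∀ t : F₀, τ (j t) = j t := by
    intro t
    have hx0 : (Pi.single k 1 + Pi.single l t : Fin m ⊕ Fin m → F₀) ≠ 0 := by
      intro h
      have := congrFun h k
      simp [hkl] at this
    obtain ⟨a, ha⟩ := key _ hx0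
    rw [hgact] at ha
    have e1 := congrFun ha k
    have e2 := congrFun ha l
    simp only [Pi.smul_apply, smul_eq_mul, vmap, hmap, Pi.add_apply, Pi.single_eq_same,
      Pi.single_eq_of_ne hkl, Pi.single_eq_of_ne (Ne.symm hkl), add_zero, zero_add, map_one,
      mul_one] at e1 e2
    rw [← e1] at e2
    exact mul_left_cancel₀ hlam0 e2
  have hmem : (τ : RingAut F) ∈ Subgroup.zpowers σ := by
    apply mem_zpowers_of_fixes
    intro a ha
    obtain ⟨t, rfl⟩ := hι a ha
    exact hτ t
  rw [hcS, one_mul]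
  obtain ⟨n, hn⟩ := Subgroup.mem_zpowers_iff.mp hmem
  rw [Subgroup.mem_zpowers_iff]
  refine ⟨n, ?_⟩
  rw [← map_zpow, hn]

end cent

end Cfsg.Agent.Lib.Helper9.ALB
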