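import Mathlib
import Cfsg.Prelude
import Cfsg.Agent.Lib.Helper9.ALB3

set_option autoImplicit false
set_option linter.unusedSectionVars false
set_option linter.unusedVariables false
open Cfsg

namespace Cfsg.Agent.Lib.Helper9.ALB

open Matrix Cfsg.Agent.Lib.Helper5.SympTv Cfsg.Agent.Lib.Helper5.SympGen
  Cfsg.Agent.Lib.Helper5.SympPerfect Cfsg.Agent.Lib.Helper5.SympBridge
  Cfsg.Agent.Lib.Helper5.SympPrimitive Cfsg.Agent.Lib.Helper9.ASP

attribute [local instance 2000] spAction spSMulComm

variable {F : Type*} [Field F] (m : ℕ)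

set_option quotPrecheck false
local notation "Vm" => (Fin m ⊕ Fin m → F)
local notation "Mm" => Matrix (Fin m ⊕ Fin m) (Fin m ⊕ Fin m) F
local notation "Spm" => ↥(Matrix.symplecticGroup (Fin m) F)
local notation "PSpm" => Cfsg.PSp m F
local notation "BB" => sympForm m F
local notation "GLm" => GL (Fin m ⊕ Fin m) F
local notation "GSpm" => ↥(Cfsg.GSp m F)

/-! Local balance for `PSp`: the `p'`-core of the centraliser of a standard field
automorphism. -/

section fixedcase
open Cfsg.Agent.Lib.Helper9.APSL (mem_fixed_subfield)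

/-- **the `p'`-core of the centraliser of a standard field automorphism of order `p`** -/
theorem psp_core_fixed [Finite F] (r : ℕ) [hr : Fact r.Prime] [CharP F r] (hm : 2 ≤ m)
    (σ : RingAut F) (p : ℕ) [hp : Fact p.Prime] (hpr : p ≠ r) (hord : orderOf σ = p)
    (A : Subgroup (MulAut PSpm)) (hinn : ∀ k : PSpm, MulAut.conj k ∈ A) :
    Cfsg.pPrimeCore p ↥(A ⊓ Subgroup.centralizer {fS m σ}) ≠ ⊥ ↔
      Nat.Coprime p (Nat.card ↥(fixS m σ)) := by
  have hm1 : 1 ≤ m := by omega
  haveI : Finite (MulAut PSpm) := by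
    haveI : Finite PSpm := by
      unfold Cfsg.PSp
      infer_instance
    exact Finite.of_injective (fun e : MulAut PSpm => (e : PSpm → PSpm)) DFunLike.coe_injective
  obtain ⟨j, hj⟩ : ∃ j : ↥(FixedPoints.subfield (Subgroup.zpowers σ) F) →+* F,
      j = (FixedPoints.subfield (Subgroup.zpowers σ) F).subtype := ⟨_, rfl⟩
  have hι : ∀ a : F, σ a = a → a ∈ Set.range j := by
    intro a ha
    rw [hj]
    exact ⟨⟨a, (mem_fixed_subfield σ a).mpr ha⟩, rfl⟩
  have hι' : ∀ t : ↥(FixedPoints.subfield (Subgroup.zpowers σ) F), σ (j t) = j t := by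
    intro t
    rw [hj]
    exact (mem_fixed_subfield σ t.1).mp t.2
  haveI : CharP ↥(FixedPoints.subfield (Subgroup.zpowers σ) F) r :=
    RingHom.charP j j.injective r
  rw [pPrimeCore_ne_bot_iff]
  constructor
  · rintro ⟨N, hNC, hN0, hNn, hNc⟩
    by_contra hnot
    apply hN0
    have hdvd : p ∣ Nat.card ↥(fixS m σ) := by
      by_contra hnd
      exact hnot ((Nat.Prime.coprime_iff_not_dvd hp.out).mpr hnd)
    apply core_trivial (piS m j) (A ⊓ Subgroup.centralizer {fS m σ}) N (I0 m σ)
      (Subgroup.zpowers (fS m σ)) p r hNC hNn hNc (I0_le m σ A hinn)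
      (fun c hc i hi => I0_normalized m σ c hc.2 i hi) (piS_mem_I0 m j σ hι')
      (conj_piS m j σ hm1 hι hι')
    · intro M hM
      haveI := hM
      rcases normal_sp_dichotomy m M with h | h
      · exact Or.inl h
      · exact Or.inr (piS_ker_of_center m j hm1 M h)
    · exact pow_char_mem_commutator m r
    · exact (Nat.coprime_primes hr.out hp.out).mpr (Ne.symm hpr)
    · exact exists_order_p m j σ hm1 hι p hdvd
    · apply cent_piS m j σ r hm _ hι
      rintro a ⟨t, rfl⟩
      exact hι' t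
    · rw [Nat.card_zpowers, orderOf_injective _ (fS_injective m hm1), hord]
    · intro y hyZ hyI
      obtain ⟨n, rfl⟩ := Subgroup.mem_zpowers_iff.mp hyZ
      obtain ⟨z, -, hz⟩ := hyI
      obtain ⟨A', rfl⟩ := mkS_surjective m z
      have h1 : cS m (toGSp m A') = fS m (σ ^ n) := by
        rw [cS_toGSp, map_zpow]
        exact hz
      have h2 := Cfsg.Agent.Lib.Helper7.AuB.cS_eq_fS m hm1 _ _ h1
      rw [← map_zpow, h2, map_one]
  · intro hcop
    refine ⟨I0 m σ, I0_le m σ A hinn, ?_, fun c hc i hi => I0_normalized m σ c hc.2 i hi, ?_⟩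
    · intro h0
      have hk0 : (Pi.single (Sum.inl ⟨0, hm1⟩) 1 :
          Fin m ⊕ Fin m → ↥(FixedPoints.subfield (Subgroup.zpowers σ) F)) ≠ 0 := by
        intro h
        have := congrFun h (Sum.inl ⟨0, hm1⟩)
        simp at this
      have h1 := piS_mem_I0 m j σ hι' (tv m (Pi.single (Sum.inl ⟨0, hm1⟩) 1) 1)
      rw [h0, Subgroup.mem_bot, piS_apply, mapSp_tv, map_one] at h1
      exact mkS_tv_ne_one m hm1 (hmap_ne_zero m j hk0) one_ne_zero (conj_eq_one m hm1 _ h1)
    · unfold I0
      rw [Subgroup.card_map_of_injective (conj_injective m hm1)]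
      exact hcop.symm

end fixedcase

end Cfsg.Agent.Lib.Helper9.ALB
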