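import Mathlib
import Cfsg.Prelude
import Cfsg.Agent.Lib.Helper9.ALB4

set_option autoImplicit false
set_option linter.unusedSectionVars false
set_option linter.unusedVariables false
open Cfsg

namespace Cfsg.Agent.Lib.Helper9.ALB

open Matrix Cfsg.Agent.Lib.Helper5.SympTv Cfsg.Agent.Lib.Helper5.SympGen
  Cfsg.Agent.Lib.Helper5.SympPerfect Cfsg.Agent.Lib.Helper5.SympBridge
  Cfsg.Agent.Lib.Helper5.SympPrimitive Cfsg.Agent.Lib.Helper9.ASP

attribute [local instance 2000] spAction spSMulComm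

variable {F : Type*} [Field F] (m : ℕ)

set_option quotPrecheck false
local notation "Vm" => (Fin m ⊕ Fin m → F)
local notation "Mm" => Matrix (Fin m ⊕ Fin m) (Fin m ⊕ Fin m) F
local notation "Spm" => ↥(Matrix.symplecticGroup (Fin m) F)
local notation "PSpm" => Cfsg.PSp m F
local notation "BB" => sympForm m F
local notation "GLm" => GL (Fin m ⊕ Fin m) F
local notation "GSpm" => ↥(Cfsg.GSp m F)

/-! Local balance for `PSp`: the general statement. -/

section general
open Cfsg.Agent.Lib.Helper9.APSL (orderOf_conj')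

/-- an automorphism of odd prime order is standard, also for `Sp₄` in characteristic two -/
theorem exists_std_of_order [Fintype F] (r : ℕ) [hr : Fact r.Prime] [CharP F r] (hm : 2 ≤ m)
    (hs : m = 2 → 3 ≤ Fintype.card F) (p : ℕ) [hp : Fact p.Prime] (hpr : p ≠ r)
    (x : MulAut PSpm) (hord : orderOf x = p) :
    ∃ (g : GSpm) (σ : F ≃+* F), x = cS m g * fS m σ := by
  by_cases h4 : m = 2 → r ≠ 2
  · exact aut_eq_std m r hm h4 x
  · rw [Classical.not_imp, not_not] at h4
    obtain ⟨hm2, hr2⟩ := h4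
    subst hm2
    subst hr2
    apply Cfsg.Agent.Lib.Helper7.AuA.aut_eq_std_rel 2 2 le_rfl x
    have hidx := Cfsg.Agent.Lib.Helper7.AuD.index_goodSubgroup (F := F) (hs rfl)
    rw [← Cfsg.Agent.Lib.Helper7.AuD.mem_goodSubgroup]
    obtain ⟨k, hk⟩ := hp.out.eq_two_or_odd'.resolve_left hpr
    have h1 : x = (x * x) ^ (k + 1) := by
      rw [← pow_two, ← pow_mul]
      have h2 : 2 * (k + 1) = p + 1 := by omega
      rw [h2, pow_succ, ← hord, pow_orderOf_eq_one, one_mul]
    rw [h1]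
    exact Subgroup.pow_mem _ (Subgroup.mul_self_mem_of_index_two hidx x) _

/-- **S2730 in the notation of the library** -/
theorem psp_local_balance [Fintype F] (r : ℕ) [hr : Fact r.Prime] [CharP F r] (hm : 2 ≤ m)
    (hs : m = 2 → 3 ≤ Fintype.card F) (A : Subgroup (MulAut PSpm))
    (hinn : ∀ k : PSpm, MulAut.conj k ∈ A) (p : ℕ) [hp : Fact p.Prime] (hpr : p ≠ r)
    (x : MulAut PSpm) (hord : orderOf x = p) (hnot : ¬ Cfsg.IsInnerDiagonalAutPSp x) :
    Cfsg.pPrimeCore p ↥(A ⊓ Subgroup.centralizer {x}) ≠ ⊥ ↔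
      (Cfsg.IsFieldAutClassPSp x ∧ Nat.Coprime p
        (Nat.card ↥(MonoidHom.eqLocus x.toMonoidHom (MonoidHom.id PSpm)))) := by
  have hm1 : 1 ≤ m := by omega
  obtain ⟨g, σ, hx⟩ := exists_std_of_order m r hm hs p hpr x hord
  have hσ1 : (σ : RingAut F) ≠ 1 := by
    intro h
    apply hnot
    rw [hx, h, map_one, mul_one]
    exact isInnerDiagonal_cS m g
  have hxp : (cS m g * fS m σ) ^ p = 1 := by
    rw [← hx, ← hord, pow_orderOf_eq_one]
  have hσp : (σ : RingAut F) ^ p = 1 := by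
    have h1 := hxp
    rw [pow_cS_fS] at h1
    have h2 : cS m (NkS m σ g p)⁻¹ = fS m (σ ^ p) := by
      rw [map_inv]
      exact (eq_inv_of_mul_eq_one_right h1).symm ▸ (inv_inv _).symm
    exact Cfsg.Agent.Lib.Helper7.AuB.cS_eq_fS m hm1 _ _ h2
  have hordσ : orderOf (σ : RingAut F) = p := orderOf_eq_prime hσp hσ1
  obtain ⟨k, hk⟩ := conj_field_S m hm1 σ p hp.out.pos hordσ g hxp
  obtain ⟨α, hα⟩ : ∃ α : MulAut PSpm, α = cS m k := ⟨_, rfl⟩
  have hxα : x = α * fS m σ * α⁻¹ := by rw [hx, hk, hα]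
  -- `x` is a field automorphism
  have hfield : Cfsg.IsFieldAutClassPSp x := by
    refine ⟨α⁻¹, σ, hσ1, ?_⟩
    have e : α⁻¹ * x * α⁻¹⁻¹ = fS m σ := by
      rw [hxα]
      group
    rw [e]
    exact isStdField_fS m σ
  -- transport to the standard field automorphism
  have hinn' : ∀ z : PSpm, MulAut.conj z ∈
      A.comap ((MulAut.conj α : MulAut PSpm ≃* MulAut PSpm) : MulAut PSpm →* MulAut PSpm) := by
    intro z
    rw [Subgroup.mem_comap]
    show α * MulAut.conj z * α⁻¹ ∈ A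
    rw [conj_conj]
    exact hinn _
  have hcore := psp_core_fixed m r hm σ p hpr hordσ _ hinn'
  have hcongr := pPrimeCore_ne_bot_congr (centConjEquiv A α (fS m σ)) p
  rw [← hxα] at hcongr
  have hcard : Nat.card ↥(MonoidHom.eqLocus x.toMonoidHom (MonoidHom.id PSpm)) =
      Nat.card ↥(fixS m σ) := by
    symm
    apply Nat.card_congr
    refine (α : PSpm ≃* PSpm).toEquiv.subtypeEquiv ?_
    intro z
    show fS m σ z = z ↔ x (α z) = α z
    rw [hxα]
    show fS m σ z = z ↔ α (fS m σ (α⁻¹ (α z))) = α z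
    rw [MulAut.inv_apply_self]
    exact ⟨fun h => by rw [h], fun h => α.injective h⟩
  rw [← hcongr, hcore, hcard]
  exact ⟨fun h => ⟨hfield, h⟩, fun h => h.2⟩

end general

end Cfsg.Agent.Lib.Helper9.ALB
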