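import Mathlib
import Cfsg.Prelude
import Cfsg.Agent.Lib.Helper5.ReflGen

set_option autoImplicit false
set_option linter.unusedSectionVars false
set_option linter.unusedVariables false
set_option linter.style.longLine false
set_option linter.unusedSimpArgs false
open Cfsg

namespace Cfsg.Agent.Lib.Helper9.ALC

/-! Parity of the number of singular points of a non-degenerate quadratic space over a finite
field of odd characteristic, in the form: `2 (q - 1)` divides the number of non-zero singular
vectors. -/

open Module QuadraticMap Cfsg.Agent.Lib.Helper5.QuadIsom Cfsg.Agent.Lib.Helper5.ReflGen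

universe u v

theorem even_card_of_involution {α : Type*} [Finite α] (f : α → α) (hf : ∀ x, f (f x) = x)
    (hfix : ∀ x, f x ≠ x) : Even (Nat.card α) := by
  classical
  haveI := Fintype.ofFinite α
  have h1 : (show Function.End α from f) ^ 2 ^ 1 = 1 := by
    rw [pow_one, pow_two]
    funext x
    exact hf x
  have h2 := Equiv.Perm.card_fixedPoints_modEq (p := 2) (n := 1) h1
  have h3 : Fintype.card ↥(Function.fixedPoints (show Function.End α from f)) = 0 := by
    rw [Fintype.card_eq_zero_iff]
    exact ⟨fun x => hfix x.1 x.2⟩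
  rw [h3] at h2
  rw [Nat.card_eq_fintype_card]
  exact Nat.even_iff.mpr h2

variable {F : Type u} [Field F] [Fintype F]

theorem exists_aniso_of_ND {V : Type v} [AddCommGroup V] [Module F V] (Q : QuadraticForm F V)
    (hQ : ND Q) (x : V) (hx : x ≠ 0) : ∃ u, Q u ≠ 0 := by
  by_contra hcon
  simp only [not_exists, not_not] at hcon
  apply hx
  apply hQ x
  intro z
  unfold polar
  rw [hcon, hcon, hcon]
  ring

theorem polar_self_eq {V : Type v} [AddCommGroup V] [Module F V] (Q : QuadraticForm F V) (u : V) :
    polar Q u u = 2 * Q u := by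
  rw [QuadraticMap.polar_self, nsmul_eq_mul]
  norm_num

theorem polar_comp_subtype {V : Type v} [AddCommGroup V] [Module F V] (Q : QuadraticForm F V)
    (W : Submodule F V) (z z' : W) :
    polar (Q.comp W.subtype) z z' = polar Q (z : V) (z' : V) := by
  unfold polar
  simp only [QuadraticMap.comp_apply, Submodule.subtype_apply, Submodule.coe_add]

/-- the orthogonal complement of an anisotropic vector is non-degenerate -/
theorem nd_perp_aniso (h2 : (2 : F) ≠ 0) {V : Type v} [AddCommGroup V] [Module F V]
    (Q : QuadraticForm F V) (hQ : ND Q) (u : V) (hu : Q u ≠ 0) :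
    ND (Q.comp (LinearMap.ker (polarBilin Q u)).subtype) := by
  intro z hz
  have hzu : polar Q u (z : V) = 0 := by
    have := z.2
    rw [LinearMap.mem_ker, polarBilin_apply_apply] at this
    exact this
  have h2u : 2 * Q u ≠ 0 := mul_ne_zero h2 hu
  have hall : ∀ v : V, polar Q (z : V) v = 0 := by
    intro v
    obtain ⟨a, ha⟩ : ∃ a : F, a = polar Q u v / (2 * Q u) := ⟨_, rfl⟩
    have hw : v - a • u ∈ LinearMap.ker (polarBilin Q u) := by
      rw [LinearMap.mem_ker, polarBilin_apply_apply, polar_sub_right, polar_smul_right,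
        polar_self_eq, smul_eq_mul, ha]
      field_simp
      ring
    have h1 := hz ⟨v - a • u, hw⟩
    rw [polar_comp_subtype] at h1
    have h3 : v = (v - a • u) + a • u := by abel
    rw [h3, polar_add_right, h1, polar_smul_right, polar_comm Q (z : V) u, hzu]
    simp
  exact Subtype.ext (hQ (z : V) hall)

theorem finrank_perp_aniso (h2 : (2 : F) ≠ 0) {V : Type v} [AddCommGroup V] [Module F V]
    [FiniteDimensional F V] (Q : QuadraticForm F V) (u : V) (hu : Q u ≠ 0) :
    finrank F ↥(LinearMap.ker (polarBilin Q u)) + 1 = finrank F V := by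
  have h2u : 2 * Q u ≠ 0 := mul_ne_zero h2 hu
  have h1 := LinearMap.finrank_range_add_finrank_ker (polarBilin Q u)
  have hsurj : LinearMap.range (polarBilin Q u) = ⊤ := by
    rw [LinearMap.range_eq_top]
    intro c
    refine ⟨(c / (2 * Q u)) • u, ?_⟩
    rw [polarBilin_apply_apply, polar_smul_right, polar_self_eq, smul_eq_mul]
    field_simp
  rw [hsurj, finrank_top, Module.finrank_self] at h1
  omega

/-- **parity**: `2 (q - 1)` divides the number of non-zero singular vectors -/
theorem two_mul_dvd_card_sing (h2 : (2 : F) ≠ 0) :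
    ∀ (n : ℕ) (V : Type v) [AddCommGroup V] [Module F V] [Finite V] (Q : QuadraticForm F V),
      ND Q → finrank F V = n →
      2 * (Fintype.card F - 1) ∣ Nat.card {x : V // x ≠ 0 ∧ Q x = 0} := by
  intro n
  induction n with
  | zero =>
    intro V _ _ _ Q hQ hn
    have hsub : Subsingleton V := Module.finrank_zero_iff.mp hn
    have : IsEmpty {x : V // x ≠ 0 ∧ Q x = 0} := ⟨fun x => x.2.1 (Subsingleton.elim _ _)⟩
    rw [Nat.card_of_isEmpty]
    exact dvd_zero _
  | succ n ih =>
    intro V _ _ _ Q hQ hn
    classical
    obtain ⟨x, hx⟩ : ∃ x : V, x ≠ 0 := Module.finrank_pos_iff_exists_ne_zero.mp (by rw [hn]; omega)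
    obtain ⟨u, hu⟩ := exists_aniso_of_ND Q hQ x hx
    have h2u : 2 * Q u ≠ 0 := mul_ne_zero h2 hu
    obtain ⟨W, hW⟩ : ∃ W : Submodule F V, W = LinearMap.ker (polarBilin Q u) := ⟨_, rfl⟩
    have hmemW : ∀ w : V, w ∈ W ↔ polar Q u w = 0 := by
      intro w
      rw [hW, LinearMap.mem_ker, polarBilin_apply_apply]
    have hQW : ND (Q.comp W.subtype) := by
      rw [hW]
      exact nd_perp_aniso h2 Q hQ u hu
    have hfin : finrank F ↥W = n := by
      have := finrank_perp_aniso h2 Q u hu
      rw [← hW] at this
      omega
    have hIH := ih ↥W (Q.comp W.subtype) hQW hfin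
    -- split according to orthogonality to `u`
    have hsplit : Nat.card {x : V // x ≠ 0 ∧ Q x = 0} =
        Nat.card {x : {x : V // x ≠ 0 ∧ Q x = 0} // polar Q u x.1 = 0} +
        Nat.card {x : {x : V // x ≠ 0 ∧ Q x = 0} // ¬ polar Q u x.1 = 0} := by
      rw [← Nat.card_sum]
      exact Nat.card_congr
        (Equiv.sumCompl (fun x : {x : V // x ≠ 0 ∧ Q x = 0} => polar Q u x.1 = 0)).symm
    -- the orthogonal part
    have e₀ : {x : {x : V // x ≠ 0 ∧ Q x = 0} // polar Q u x.1 = 0} ≃
        {w : ↥W // w ≠ 0 ∧ (Q.comp W.subtype) w = 0} :=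
      { toFun := fun x => ⟨⟨x.1.1, (hmemW _).mpr x.2⟩, fun h => x.1.2.1 (congrArg Subtype.val h),
          x.1.2.2⟩
        invFun := fun w => ⟨⟨w.1.1, fun h => w.2.1 (Subtype.ext h), w.2.2⟩, (hmemW _).mp w.1.2⟩
        left_inv := fun x => rfl
        right_inv := fun w => rfl }
    -- the non-orthogonal part
    have e₁ : {x : {x : V // x ≠ 0 ∧ Q x = 0} // ¬ polar Q u x.1 = 0} ≃
        Fˣ × {w : ↥W // (Q.comp W.subtype) w = -Q u} :=
      { toFun := fun x =>
          (Units.mk0 (polar Q u x.1.1 / (2 * Q u)) (div_ne_zero x.2 h2u),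
            ⟨⟨(polar Q u x.1.1 / (2 * Q u))⁻¹ • x.1.1 + (-1 : F) • u, by
              rw [hmemW, polar_add_right, polar_smul_right, polar_smul_right, polar_self_eq,
                smul_eq_mul, smul_eq_mul]
              have := x.2
              field_simp
              ring⟩, by
              show Q ((polar Q u x.1.1 / (2 * Q u))⁻¹ • x.1.1 + (-1 : F) • u) = -Q u
              rw [quad_add_smul, QuadraticMap.map_smul, x.1.2.2, polar_smul_left, smul_eq_mul,
                smul_eq_mul, polar_comm Q x.1.1 u]
              have := x.2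
              field_simp
              ring⟩)
        invFun := fun aw => ⟨⟨(aw.1 : F) • ((aw.2.1 : V) + u), by
            constructor
            · intro h
              have h1 := congrArg (fun y => polar Q u y) h
              simp only [polar_smul_right, polar_add_right, (hmemW _).mp aw.2.1.2, zero_add,
                polar_self_eq, smul_eq_mul] at h1
              have h3 : polar Q u 0 = 0 := by simp [polar]
              rw [h3] at h1
              exact mul_ne_zero aw.1.ne_zero h2u h1
            · have h1 : Q (aw.2.1 : V) = -Q u := aw.2.2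
              rw [QuadraticMap.map_smul, QuadraticMap.map_add Q (aw.2.1 : V) u, h1,
                polar_comm Q (aw.2.1 : V) u, (hmemW _).mp aw.2.1.2]
              simp⟩, by
            show ¬ polar Q u ((aw.1 : F) • ((aw.2.1 : V) + u)) = 0
            rw [polar_smul_right, polar_add_right, (hmemW _).mp aw.2.1.2, zero_add, polar_self_eq,
              smul_eq_mul]
            exact mul_ne_zero aw.1.ne_zero h2u⟩
        left_inv := fun x => by
          apply Subtype.ext
          apply Subtype.ext
          show (polar Q u x.1.1 / (2 * Q u)) • ((polar Q u x.1.1 / (2 * Q u))⁻¹ • x.1.1 +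
            (-1 : F) • u + u) = x.1.1
          have h0 : polar Q u x.1.1 / (2 * Q u) ≠ 0 := div_ne_zero x.2 h2u
          rw [neg_one_smul, neg_add_cancel_right, smul_smul, mul_inv_cancel₀ h0, one_smul]
        right_inv := fun aw => by
          have hp : polar Q u ((aw.1 : F) • ((aw.2.1 : V) + u)) / (2 * Q u) = (aw.1 : F) := by
            rw [polar_smul_right, polar_add_right, (hmemW _).mp aw.2.1.2, zero_add, polar_self_eq,
              smul_eq_mul]
            field_simp
          apply Prod.ext
          · apply Units.ext
            exact hp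
          · apply Subtype.ext
            apply Subtype.ext
            show (polar Q u ((aw.1 : F) • ((aw.2.1 : V) + u)) / (2 * Q u))⁻¹ •
              ((aw.1 : F) • ((aw.2.1 : V) + u)) + (-1 : F) • u = (aw.2.1 : V)
            rw [hp, smul_smul, inv_mul_cancel₀ aw.1.ne_zero, one_smul, neg_one_smul,
              add_neg_cancel_right] }
    have hM : Even (Nat.card {w : ↥W // (Q.comp W.subtype) w = -Q u}) := by
      apply even_card_of_involution
        (fun w : {w : ↥W // (Q.comp W.subtype) w = -Q u} => ⟨-w.1, by
          rw [QuadraticMap.map_neg]; exact w.2⟩)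
      · intro w
        apply Subtype.ext
        exact neg_neg _
      · intro w h
        have h1 : -w.1 = w.1 := congrArg Subtype.val h
        have h3 : (2 : F) • w.1 = 0 := by
          rw [two_smul]
          nth_rewrite 1 [← h1]
          exact neg_add_cancel _
        rcases smul_eq_zero.mp h3 with h4 | h4
        · exact h2 h4
        · have h5 := w.2
          rw [h4, QuadraticMap.map_zero] at h5
          exact hu (neg_eq_zero.mp h5.symm)
    have hcardU : Nat.card Fˣ = Fintype.card F - 1 := by
      rw [Nat.card_eq_fintype_card, Fintype.card_units]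
    rw [hsplit, Nat.card_congr e₀, Nat.card_congr e₁, Nat.card_prod, hcardU]
    obtain ⟨k, hk⟩ := hM
    rw [hk]
    apply dvd_add hIH
    exact ⟨k, by ring⟩

end Cfsg.Agent.Lib.Helper9.ALC
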