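import Mathlib
import Cfsg.Prelude
import Cfsg.Agent.Lib.Helper5.SingGeom
import Cfsg.Agent.Lib.Helper9.ALC1

set_option autoImplicit false
set_option linter.unusedSectionVars false
set_option linter.unusedVariables false
set_option linter.style.longLine false
set_option linter.unusedSimpArgs false
open Cfsg

namespace Cfsg.Agent.Lib.Helper9.ALC

/-! The block argument: a normal subgroup of odd order of a group containing the Eichler
transformations fixes every singular point. -/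

open Module QuadraticMap Cfsg.Agent.Lib.Helper5.QuadIsom Cfsg.Agent.Lib.Helper5.ReflGen
  Cfsg.Agent.Lib.Helper5.SingGeom Cfsg.Agent.Lib.Helper5

universe u v
variable {E : Type u} [Field E] [Fintype E] {W : Type v} [AddCommGroup W] [Module E W] [Finite W]
  (Q : QuadraticForm E W) {Γ : Type*} [Group Γ] {X : Type*} [MulAction Γ X]
  (C O : Subgroup Γ) (pt : W → X)

/-- the hypotheses of the engine -/
structure EngineHyp : Prop where
  h2 : (2 : E) ≠ 0
  nd : ND Q
  dim : finrank E W = 3 ∨ 5 ≤ finrank E W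
  fin : Finite ↥O
  le : O ≤ C
  norm : ∀ c ∈ C, ∀ n ∈ O, c * n * c⁻¹ ∈ O
  odd : Odd (Nat.card ↥O)
  pt_iff : ∀ v v' : W, v ≠ 0 → v' ≠ 0 → Q v = 0 → Q v' = 0 →
    (pt v = pt v' ↔ ∃ t : E, v' = t • v)
  inv : ∀ c ∈ O, ∀ v : W, v ≠ 0 → Q v = 0 → ∃ v' : W, v' ≠ 0 ∧ Q v' = 0 ∧ c • pt v = pt v'
  eich : ∀ u z : W, u ≠ 0 → Q u = 0 → polar Q u z = 0 →
    ∃ c ∈ C, ∀ v : W, v ≠ 0 → Q v = 0 → c • pt v = pt (eichlerMap Q u z v)

variable {Q C O pt}

theorem mem_orb_iff (x y : X) : y ∈ MulAction.orbit ↥O x ↔ ∃ o ∈ O, o • x = y := by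
  rw [MulAction.mem_orbit_iff]
  constructor
  · rintro ⟨o, ho⟩
    exact ⟨o.1, o.2, ho⟩
  · rintro ⟨o, ho, h⟩
    exact ⟨⟨o, ho⟩, h⟩

theorem smul_mem_orbit_of (H : EngineHyp Q C O pt) {c : Γ} (hc : c ∈ C) {x y : X}
    (hy : y ∈ MulAction.orbit ↥O x) (hcx : c • x ∈ MulAction.orbit ↥O x) :
    c • y ∈ MulAction.orbit ↥O x := by
  rw [mem_orb_iff] at hy hcx ⊢
  obtain ⟨o, ho, rfl⟩ := hy
  obtain ⟨o', ho', h'⟩ := hcx
  refine ⟨c * o * c⁻¹ * o', O.mul_mem (H.norm c hc o ho) ho', ?_⟩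
  rw [mul_smul, h', mul_smul, mul_smul, inv_smul_smul]

/-- the number of singular points is even -/
theorem even_card_points (H : EngineHyp Q C O pt) :
    Even (Nat.card ↥(Set.range (fun s : {v : W // v ≠ 0 ∧ Q v = 0} => pt s.1))) := by
  classical
  have hq : 0 < Fintype.card E - 1 := by
    have := Fintype.one_lt_card (α := E)
    omega
  have hdvd := two_mul_dvd_card_sing H.h2 _ W Q H.nd rfl
  obtain ⟨f, hf⟩ : ∃ f : {v : W // v ≠ 0 ∧ Q v = 0} →
      ↥(Set.range (fun s : {v : W // v ≠ 0 ∧ Q v = 0} => pt s.1)),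
      f = Set.rangeFactorization (fun s : {v : W // v ≠ 0 ∧ Q v = 0} => pt s.1) := ⟨_, rfl⟩
  have hfs : Function.Surjective f := by
    rw [hf]
    exact Set.rangeFactorization_surjective
  have hfv : ∀ s, (f s : X) = pt s.1 := by
    intro s
    rw [hf]
    rfl
  haveI : Finite ↥(Set.range (fun s : {v : W // v ≠ 0 ∧ Q v = 0} => pt s.1)) :=
    Finite.of_surjective f hfs
  letI : Fintype ↥(Set.range (fun s : {v : W // v ≠ 0 ∧ Q v = 0} => pt s.1)) :=
    Fintype.ofFinite _
  have hfib : ∀ p : ↥(Set.range (fun s : {v : W // v ≠ 0 ∧ Q v = 0} => pt s.1)),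
      Nat.card {s // f s = p} = Fintype.card E - 1 := by
    intro p
    obtain ⟨s₀, hs₀⟩ := hfs p
    have hcardU : Nat.card Eˣ = Fintype.card E - 1 := by
      rw [Nat.card_eq_fintype_card, Fintype.card_units]
    rw [← hcardU]
    symm
    apply Nat.card_congr
    refine Equiv.ofBijective (fun t : Eˣ => ⟨⟨(t : E) • s₀.1, smul_ne_zero t.ne_zero s₀.2.1, by
      rw [QuadraticMap.map_smul, s₀.2.2, smul_zero]⟩, ?_⟩) ⟨?_, ?_⟩
    · apply Subtype.ext
      rw [hfv, ← hs₀, hfv]
      symm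
      refine (H.pt_iff _ _ s₀.2.1 (smul_ne_zero t.ne_zero s₀.2.1) s₀.2.2 ?_).mpr ⟨t, rfl⟩
      rw [QuadraticMap.map_smul, s₀.2.2, smul_zero]
    · intro t t' h
      have h1 : (t : E) • s₀.1 = (t' : E) • s₀.1 :=
        congrArg (fun z : {s // f s = p} => (z.1.1 : W)) h
      have h2 : ((t : E) - (t' : E)) • s₀.1 = 0 := by rw [sub_smul, h1, sub_self]
      rcases smul_eq_zero.mp h2 with h3 | h3
      · exact Units.ext (sub_eq_zero.mp h3)
      · exact absurd h3 s₀.2.1
    · intro s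
      have h1 : pt s₀.1 = pt s.1.1 := by
        rw [← hfv, ← hfv, hs₀, s.2]
      obtain ⟨t, ht⟩ := (H.pt_iff _ _ s₀.2.1 s.1.2.1 s₀.2.2 s.1.2.2).mp h1
      have ht0 : t ≠ 0 := by
        rintro rfl
        rw [zero_smul] at ht
        exact s.1.2.1 ht
      refine ⟨Units.mk0 t ht0, ?_⟩
      apply Subtype.ext
      apply Subtype.ext
      exact ht.symm
  have hN : Nat.card {v : W // v ≠ 0 ∧ Q v = 0} =
      Nat.card ↥(Set.range (fun s : {v : W // v ≠ 0 ∧ Q v = 0} => pt s.1)) *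
        (Fintype.card E - 1) := by
    rw [Nat.card_congr (Equiv.sigmaFiberEquiv f).symm, Nat.card_sigma]
    simp only [hfib, Finset.sum_const, Finset.card_univ, smul_eq_mul, Nat.card_eq_fintype_card]
  rw [hN] at hdvd
  exact even_iff_two_dvd.mpr (Nat.dvd_of_mul_dvd_mul_right hq hdvd)

theorem odd_card_orbit (H : EngineHyp Q C O pt) (x : X) :
    Odd (Nat.card ↥(MulAction.orbit ↥O x)) := by
  haveI := H.fin
  have h1 : Nat.card ↥(MulAction.orbit ↥O x) = Nat.card (↥O ⧸ MulAction.stabilizer ↥O x) :=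
    Nat.card_congr (MulAction.orbitEquivQuotientStabilizer ↥O x)
  rw [h1]
  exact Odd.of_dvd_nat H.odd (Subgroup.card_quotient_dvd_card _)

theorem eichlerMap_self (u z : W) (hu : Q u = 0) (huz : polar Q u z = 0) :
    eichlerMap Q u z u = u := by
  rw [eichlerMap_apply, polar_self_of_sing Q u hu, polar_comm Q z u, huz]
  simp

theorem pt_smul (H : EngineHyp Q C O pt) (v : W) (hv0 : v ≠ 0) (hv : Q v = 0) (t : E)
    (ht : t ≠ 0) : pt (t • v) = pt v := by
  symm
  refine (H.pt_iff _ _ hv0 (smul_ne_zero ht hv0) hv ?_).mpr ⟨t, rfl⟩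
  rw [QuadraticMap.map_smul, hv, smul_zero]

/-- a block containing two non-orthogonal points contains all points non-orthogonal to the
first -/
theorem mem_of_nonperp (H : EngineHyp Q C O pt) (a b z : W) (ha0 : a ≠ 0) (hb0 : b ≠ 0)
    (hz0 : z ≠ 0) (ha : Q a = 0) (hb : Q b = 0) (hz : Q z = 0)
    (hbo : pt b ∈ MulAction.orbit ↥O (pt a)) (hab : polar Q a b ≠ 0) (haz : polar Q a z ≠ 0) :
    pt z ∈ MulAction.orbit ↥O (pt a) := by
  obtain ⟨b₁, hb₁⟩ : ∃ b₁ : W, b₁ = (polar Q a b)⁻¹ • b := ⟨_, rfl⟩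
  obtain ⟨z₁, hz₁⟩ : ∃ z₁ : W, z₁ = (polar Q a z)⁻¹ • z := ⟨_, rfl⟩
  have hb₁0 : b₁ ≠ 0 := by rw [hb₁]; exact smul_ne_zero (inv_ne_zero hab) hb0
  have hz₁0 : z₁ ≠ 0 := by rw [hz₁]; exact smul_ne_zero (inv_ne_zero haz) hz0
  have hQb₁ : Q b₁ = 0 := by rw [hb₁, QuadraticMap.map_smul, hb, smul_zero]
  have hQz₁ : Q z₁ = 0 := by rw [hz₁, QuadraticMap.map_smul, hz, smul_zero]
  have hab₁ : polar Q a b₁ = 1 := by
    rw [hb₁, polar_smul_right, smul_eq_mul, inv_mul_cancel₀ hab]
  have haz₁ : polar Q a z₁ = 1 := by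
    rw [hz₁, polar_smul_right, smul_eq_mul, inv_mul_cancel₀ haz]
  have hptb : pt b₁ = pt b := by rw [hb₁]; exact pt_smul H b hb0 hb _ (inv_ne_zero hab)
  have hptz : pt z₁ = pt z := by rw [hz₁]; exact pt_smul H z hz0 hz _ (inv_ne_zero haz)
  obtain ⟨w, hw, hwz⟩ := exists_partner_eq Q a b₁ ha hQb₁ hab₁ z₁ hQz₁ haz₁
  rw [mem_pairPerp] at hw
  obtain ⟨c, hcC, hc⟩ := H.eich a w ha0 ha hw.1
  have hca : c • pt a = pt a := by rw [hc a ha0 ha, eichlerMap_self a w ha hw.1]
  have h1 : c • pt b₁ ∈ MulAction.orbit ↥O (pt a) :=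
    smul_mem_orbit_of H hcC (by rw [hptb]; exact hbo) (by rw [hca]; exact MulAction.mem_orbit_self _)
  rw [hc b₁ hb₁0 hQb₁] at h1
  have h2 : eichlerMap Q a w b₁ = z₁ := by
    rw [hwz, eichlerMap_apply, hab₁, polar_comm Q w b₁, hw.2]
    unfold partner
    simp only [one_smul, zero_add, mul_one, neg_smul]
    abel
  rw [h2, hptz] at h1
  exact h1

theorem orbit_eq_of_mem {x y : X} (h : y ∈ MulAction.orbit ↥O x) :
    MulAction.orbit ↥O y = MulAction.orbit ↥O x :=
  MulAction.orbit_eq_iff.mpr h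

theorem ne_zero_of_polar_ne' {x y : W} (h : polar Q x y ≠ 0) : y ≠ 0 := by
  rintro rfl
  apply h
  simp [polar]

theorem all_mem_of_nonperp (H : EngineHyp Q C O pt) (a b : W) (ha0 : a ≠ 0) (hb0 : b ≠ 0)
    (ha : Q a = 0) (hb : Q b = 0)
    (hbo : pt b ∈ MulAction.orbit ↥O (pt a)) (hab : polar Q a b ≠ 0) (z : W) (hz0 : z ≠ 0)
    (hz : Q z = 0) : pt z ∈ MulAction.orbit ↥O (pt a) := by
  by_cases haz : polar Q a z = 0
  · have hQ' := nondegenerate_of_ND Q H.nd
    obtain ⟨d, hd, hda, hdz⟩ := exists_singular_cross Q hQ' a z ha0 hz0 ha haz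
    have had : polar Q a d ≠ 0 := by rw [polar_comm]; exact hda
    have hd0 : d ≠ 0 := ne_zero_of_polar_ne' had
    have hdo : pt d ∈ MulAction.orbit ↥O (pt a) :=
      mem_of_nonperp H a b d ha0 hb0 hd0 ha hb hd hbo hab had
    have heq := orbit_eq_of_mem hdo
    rw [← heq]
    refine mem_of_nonperp H d a z hd0 ha0 hz0 hd ha hz ?_ hda hdz
    rw [heq]
    exact MulAction.mem_orbit_self _
  · exact mem_of_nonperp H a b z ha0 hb0 hz0 ha hb hz hbo hab haz

theorem false_of_nonperp (H : EngineHyp Q C O pt) (a b : W) (ha0 : a ≠ 0) (hb0 : b ≠ 0)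
    (ha : Q a = 0) (hb : Q b = 0)
    (hbo : pt b ∈ MulAction.orbit ↥O (pt a)) (hab : polar Q a b ≠ 0) : False := by
  have heq : MulAction.orbit ↥O (pt a) =
      Set.range (fun s : {v : W // v ≠ 0 ∧ Q v = 0} => pt s.1) := by
    apply Set.Subset.antisymm
    · intro y hy
      rw [mem_orb_iff] at hy
      obtain ⟨o, ho, rfl⟩ := hy
      obtain ⟨v', hv'0, hv', hov⟩ := H.inv o ho a ha0 ha
      exact ⟨⟨v', hv'0, hv'⟩, hov.symm⟩
    · rintro _ ⟨s, rfl⟩
      exact all_mem_of_nonperp H a b ha0 hb0 ha hb hbo hab s.1 s.2.1 s.2.2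
  have h1 := odd_card_orbit H (pt a)
  have h2 := even_card_points H
  rw [heq] at h1
  exact (Nat.not_even_iff_odd.mpr h1) h2

theorem false_of_perp (H : EngineHyp Q C O pt) (a b : W) (ha0 : a ≠ 0) (hb0 : b ≠ 0)
    (ha : Q a = 0) (hb : Q b = 0)
    (hbo : pt b ∈ MulAction.orbit ↥O (pt a)) (hne : pt b ≠ pt a) (hab : polar Q a b = 0) :
    False := by
  have hQ' := nondegenerate_of_ND Q H.nd
  have hspan : b ∉ Submodule.span E {a} := by
    intro hmem
    obtain ⟨t, rfl⟩ := Submodule.mem_span_singleton.mp hmem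
    have ht : t ≠ 0 := by
      rintro rfl
      exact hb0 (zero_smul _ _)
    exact hne (pt_smul H a ha0 ha t ht)
  rcases H.dim with h3 | h5
  · -- dimension three: no totally singular lines
    obtain ⟨U, hU⟩ : ∃ U : Submodule E W, U = Submodule.span E {a, b} := ⟨_, rfl⟩
    have haU : a ∈ U := by rw [hU]; exact Submodule.subset_span (by simp)
    have hbU : b ∈ U := by rw [hU]; exact Submodule.subset_span (by simp)
    have hts : ∀ x ∈ U, ∀ y ∈ U, polar Q x y = 0 := by
      have haa := polar_self_of_sing Q a ha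
      have hbb := polar_self_of_sing Q b hb
      have hba : polar Q b a = 0 := by rw [polar_comm]; exact hab
      intro x hx y hy
      rw [hU] at hx hy
      obtain ⟨s, t, rfl⟩ := Submodule.mem_span_pair.mp hx
      obtain ⟨s', t', rfl⟩ := Submodule.mem_span_pair.mp hy
      simp only [polar_add_left, polar_add_right, polar_smul_left, polar_smul_right, haa, hbb,
        hab, hba, smul_zero, add_zero]
    have hle : U ≤ LinearMap.BilinForm.orthogonal (polarBilin Q) U := by
      intro y hy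
      rw [LinearMap.BilinForm.mem_orthogonal_iff]
      intro x hx
      show polarBilin Q x y = 0
      rw [polarBilin_apply_apply]
      exact hts x hx y hy
    have h1 := Submodule.finrank_mono hle
    rw [LinearMap.BilinForm.finrank_orthogonal hQ'] at h1
    have h2 : Submodule.span E {a} < U := by
      refine lt_of_le_of_ne ?_ ?_
      · rw [Submodule.span_singleton_le_iff_mem]
        exact haU
      · intro h
        apply hspan
        rw [h]
        exact hbU
    have h4 := Submodule.finrank_lt_finrank_of_lt h2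
    rw [finrank_span_singleton ha0] at h4
    omega
  · obtain ⟨e, he, hae, heb⟩ := exists_singular_perp_not_perp Q hQ' h5 a b ha0 hspan
    have he0 : e ≠ 0 := by
      rintro rfl
      apply heb
      simp [polar]
    obtain ⟨z, hz, haz, hez⟩ := exists_aniso_perp2 Q hQ' h5 a e
    obtain ⟨c, hcC, hc⟩ := H.eich e z he0 he hez
    have hca : c • pt a = pt a := by
      rw [hc a ha0 ha]
      congr 1
      rw [eichlerMap_apply, polar_comm Q e a, hae, polar_comm Q z a, haz]
      simp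
    have h1 : c • pt b ∈ MulAction.orbit ↥O (pt a) :=
      smul_mem_orbit_of H hcC hbo (by rw [hca]; exact MulAction.mem_orbit_self _)
    rw [hc b hb0 hb] at h1
    have hbb := polar_self_of_sing Q b hb
    have hpol : polar Q b (eichlerMap Q e z b) ≠ 0 := by
      rw [eichlerMap_apply, polar_add_right, polar_add_right, polar_smul_right, polar_smul_right,
        hbb, polar_comm Q b e, polar_comm Q b z]
      simp only [smul_eq_mul, zero_add]
      have : polar Q e b * polar Q z b + -(polar Q z b + Q z * polar Q e b) * polar Q e b =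
          -(Q z * polar Q e b * polar Q e b) := by ring
      rw [this]
      exact neg_ne_zero.mpr (mul_ne_zero (mul_ne_zero hz heb) heb)
    have hb'0 : eichlerMap Q e z b ≠ 0 := ne_zero_of_polar_ne' hpol
    have hQb' : Q (eichlerMap Q e z b) = 0 := by rw [eichlerMap_isom Q e z he hez, hb]
    rw [← orbit_eq_of_mem hbo] at h1
    exact false_of_nonperp H b _ hb0 hb'0 hb hQb' h1 hpol

/-- **the engine**: a normal subgroup of odd order fixes every singular point -/
theorem engine (H : EngineHyp Q C O pt) (y : Γ) (hy : y ∈ O) (a : W) (ha0 : a ≠ 0)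
    (ha : Q a = 0) : y • pt a = pt a := by
  obtain ⟨b, hb0, hb, hyb⟩ := H.inv y hy a ha0 ha
  by_contra hne
  have hbo : pt b ∈ MulAction.orbit ↥O (pt a) := by
    rw [mem_orb_iff]
    exact ⟨y, hy, hyb⟩
  have hne' : pt b ≠ pt a := by rw [← hyb]; exact hne
  by_cases hab : polar Q a b = 0
  · exact false_of_perp H a b ha0 hb0 ha hb hbo hne' hab
  · exact false_of_nonperp H a b ha0 hb0 ha hb hbo hab

end Cfsg.Agent.Lib.Helper9.ALC
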