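import Mathlib
import Cfsg.Prelude
import Cfsg.Agent.Lib.Helper5.SingGeom
import Cfsg.Agent.Lib.Helper9.ALC1

set_option autoImplicit false
set_option linter.unusedSectionVars false
set_option linter.unusedVariables false
set_option linter.style.longLine false
set_option linter.unusedSimpArgs false
open Cfsg

namespace Cfsg.Agent.Lib.Helper9.ALC

/-! A semilinear map fixing every singular point of a non-degenerate isotropic quadratic space of
dimension at least three is a scalar (and its field automorphism is trivial). -/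

open Module QuadraticMap Cfsg.Agent.Lib.Helper5.QuadIsom Cfsg.Agent.Lib.Helper5.ReflGen
  Cfsg.Agent.Lib.Helper5.SingGeom Cfsg.Agent.Lib.Helper5

universe u v
variable {E : Type u} [Field E] {W : Type v} [AddCommGroup W] [Module E W]
  (Q : QuadraticForm E W)

theorem polar_zero_right' (x : W) : polar Q x 0 = 0 := by simp [polar]

theorem polar_self_eq' (u : W) : polar Q u u = 2 * Q u := by
  rw [QuadraticMap.polar_self, nsmul_eq_mul]
  norm_num

/-- the key computation with one anisotropic vector orthogonal to a hyperbolic pair -/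
theorem scalar_key (h2 : (2 : E) ≠ 0) (e f : W) (he : Q e = 0) (hf : Q f = 0)
    (hef : polar Q e f = 1) (τ : E → E) (hτ1 : τ 1 = 1) (hτn : τ (-1) = -1) (T : W → W)
    (hadd : ∀ x y, T (x + y) = T x + T y)
    (hsmul : ∀ (c : E) (x : W), T (c • x) = τ c • T x)
    (hfix : ∀ v, v ≠ 0 → Q v = 0 → ∃ t : E, T v = t • v)
    (a b : E) (ha0 : a ≠ 0) (ha : T e = a • e) (hb : T f = b • f)
    (w : W) (hew : polar Q e w = 0) (hfw : polar Q f w = 0) (hw : Q w ≠ 0) :
    (∀ s, τ s = s) ∧ b = a ∧ T w = a • w := by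
  have hfe : polar Q f e = 1 := by rw [polar_comm]; exact hef
  have hee := polar_self_of_sing Q e he
  have hff := polar_self_of_sing Q f hf
  have hwe : polar Q w e = 0 := by rw [polar_comm]; exact hew
  have hwf : polar Q w f = 0 := by rw [polar_comm]; exact hfw
  have hww : polar Q w w = 2 * Q w := polar_self_eq' Q w
  have h2q : 2 * Q w ≠ 0 := mul_ne_zero h2 hw
  -- the singular vectors `v_s`
  have hvs : ∀ s : E, ∃ μ : E,
      a • e + τ s • T w + τ (-(s * s * Q w)) • (b • f) =
        μ • (e + s • w + (-(s * s * Q w)) • f) := by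
    intro s
    have hQv : Q (e + s • w + (-(s * s * Q w)) • f) = 0 := by
      rw [quad_add_two, he, hf, hwf, hew, hef]
      ring
    have hv0 : e + s • w + (-(s * s * Q w)) • f ≠ 0 := by
      intro h
      have h1 := congrArg (fun y => polar Q f y) h
      simp only [polar_add_right, polar_smul_right, hfe, hfw, hff, polar_zero_right', smul_zero,
        add_zero] at h1
      exact one_ne_zero h1
    obtain ⟨μ, hμ⟩ := hfix _ hv0 hQv
    refine ⟨μ, ?_⟩
    rw [← hμ, hadd, hadd, hsmul, hsmul, ha, hb]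
  -- the three functionals
  have hF : ∀ s μ : E, a • e + τ s • T w + τ (-(s * s * Q w)) • (b • f) =
      μ • (e + s • w + (-(s * s * Q w)) • f) → a + τ s * polar Q f (T w) = μ := by
    intro s μ h
    have h1 := congrArg (fun y => polar Q f y) h
    simp only [polar_add_right, polar_smul_right, hfe, hfw, hff, smul_eq_mul, mul_zero, add_zero,
      mul_one] at h1
    exact h1
  have hWq : ∀ s μ : E, a • e + τ s • T w + τ (-(s * s * Q w)) • (b • f) =
      μ • (e + s • w + (-(s * s * Q w)) • f) → τ s * polar Q w (T w) = μ * (s * (2 * Q w)) := by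
    intro s μ h
    have h1 := congrArg (fun y => polar Q w y) h
    simp only [polar_add_right, polar_smul_right, hwe, hwf, hww, smul_eq_mul, mul_zero, add_zero,
      zero_add] at h1
    exact h1
  have hEe : ∀ s μ : E, a • e + τ s • T w + τ (-(s * s * Q w)) • (b • f) =
      μ • (e + s • w + (-(s * s * Q w)) • f) →
      τ s * polar Q e (T w) + τ (-(s * s * Q w)) * b = μ * (-(s * s * Q w)) := by
    intro s μ h
    have h1 := congrArg (fun y => polar Q e y) h
    simp only [polar_add_right, polar_smul_right, hee, hew, hef, smul_eq_mul, mul_zero, add_zero,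
      zero_add, mul_one] at h1
    exact h1
  obtain ⟨μ₁, h₁⟩ := hvs 1
  obtain ⟨μ₂, h₂⟩ := hvs (-1)
  have hF1 := hF 1 μ₁ h₁
  have hF2 := hF (-1) μ₂ h₂
  have hW1 := hWq 1 μ₁ h₁
  have hW2 := hWq (-1) μ₂ h₂
  rw [hτ1, one_mul] at hF1 hW1
  rw [hτn] at hF2 hW2
  have hμ : μ₂ = μ₁ := by
    have h3 : μ₂ * (2 * Q w) = μ₁ * (2 * Q w) := by linear_combination hW1 + hW2
    exact mul_right_cancel₀ h2q h3
  have hα : polar Q f (T w) = 0 := by
    have h3 : 2 * polar Q f (T w) = 0 := by
      rw [hμ] at hF2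
      linear_combination hF1 - hF2
    rcases mul_eq_zero.mp h3 with h4 | h4
    · exact absurd h4 h2
    · exact h4
  have hμ₁ : μ₁ = a := by rw [← hF1, hα, add_zero]
  have hγ : polar Q w (T w) = a * (2 * Q w) := by rw [hW1, hμ₁]; ring
  have hτ : ∀ s, τ s = s := by
    intro s
    obtain ⟨μ, h⟩ := hvs s
    have h3 := hF s μ h
    have h4 := hWq s μ h
    rw [hα, mul_zero, add_zero] at h3
    rw [hγ, ← h3] at h4
    have h5 : τ s * (a * (2 * Q w)) = s * (a * (2 * Q w)) := by rw [h4]; ring
    exact mul_right_cancel₀ (mul_ne_zero ha0 h2q) h5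
  have hE1 := hEe 1 μ₁ h₁
  have hE2 := hEe (-1) μ₂ h₂
  rw [hτ, hτ] at hE1 hE2
  rw [hμ, hμ₁] at hE2
  rw [hμ₁] at hE1
  have hβ : polar Q e (T w) = 0 := by
    have h3 : 2 * polar Q e (T w) = 0 := by linear_combination hE1 - hE2
    rcases mul_eq_zero.mp h3 with h4 | h4
    · exact absurd h4 h2
    · exact h4
  have hba : b = a := by
    rw [hβ] at hE1
    have h3 : Q w * b = Q w * a := by linear_combination (-1 : E) * hE1
    exact mul_left_cancel₀ hw h3
  refine ⟨hτ, hba, ?_⟩
  rw [hτ, hτ, hμ₁, hba] at h₁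
  have h3 : T w = a • (e + (1 : E) • w + (-(1 * 1 * Q w)) • f) - a • e -
      (-(1 * 1 * Q w)) • (a • f) := by
    rw [← h₁, one_smul]
    abel
  rw [h3]
  simp only [one_smul, smul_add, smul_smul, mul_one, one_mul]
  rw [mul_comm a (-Q w)]
  abel

/-- **scalar lemma** -/
theorem scalar_of_fix_singular (h2 : (2 : E) ≠ 0) [FiniteDimensional E W] (hQ : ND Q)
    (h3 : 3 ≤ finrank E W) (e f : W) (he : Q e = 0) (hf : Q f = 0)
    (hef : polar Q e f = 1) (τ : E → E) (hτ1 : τ 1 = 1) (hτn : τ (-1) = -1) (T : W → W)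
    (hadd : ∀ x y, T (x + y) = T x + T y)
    (hsmul : ∀ (c : E) (x : W), T (c • x) = τ c • T x) (hinj : ∀ v, T v = 0 → v = 0)
    (hfix : ∀ v, v ≠ 0 → Q v = 0 → ∃ t : E, T v = t • v) :
    (∀ c, τ c = c) ∧ ∃ a : E, ∀ v, T v = a • v := by
  have hfe : polar Q f e = 1 := by rw [polar_comm]; exact hef
  have hee := polar_self_of_sing Q e he
  have hff := polar_self_of_sing Q f hf
  have he0 : e ≠ 0 := by
    rintro rfl
    rw [polar_zero_right'] at hfe
    exact zero_ne_one hfe
  have hf0 : f ≠ 0 := by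
    rintro rfl
    rw [polar_zero_right'] at hef
    exact zero_ne_one hef
  obtain ⟨a, ha⟩ := hfix e he0 he
  obtain ⟨b, hb⟩ := hfix f hf0 hf
  have ha0 : a ≠ 0 := by
    rintro rfl
    rw [zero_smul] at ha
    exact he0 (hinj e ha)
  -- an anisotropic vector orthogonal to the pair
  have hfinP := finrank_pairPerp Q e f he hf hef
  have hposP : 0 < finrank E ↥(pairPerp Q e f) := by omega
  obtain ⟨x, hx0⟩ : ∃ x : ↥(pairPerp Q e f), x ≠ 0 :=
    Module.finrank_pos_iff_exists_ne_zero.mp hposP
  obtain ⟨w₀, hw₀P, hw₀⟩ : ∃ w₀ ∈ pairPerp Q e f, Q w₀ ≠ 0 := by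
    by_contra hcon
    simp only [not_exists, not_and, not_not] at hcon
    apply hx0
    apply Subtype.ext
    apply nondeg_pairPerp Q hQ e f he hf hef x.1 x.2
    intro z' hz'
    unfold polar
    rw [hcon _ ((pairPerp Q e f).add_mem x.2 hz'), hcon _ x.2, hcon _ hz']
    ring
  rw [mem_pairPerp] at hw₀P
  obtain ⟨hτ, hba, hTw₀⟩ := scalar_key Q h2 e f he hf hef τ hτ1 hτn T hadd hsmul hfix a b ha0 ha hb w₀
    hw₀P.1 hw₀P.2 hw₀
  refine ⟨hτ, a, ?_⟩
  have hTaniso : ∀ w ∈ pairPerp Q e f, Q w ≠ 0 → T w = a • w := by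
    intro w hwP hw
    rw [mem_pairPerp] at hwP
    exact (scalar_key Q h2 e f he hf hef τ hτ1 hτn T hadd hsmul hfix a b ha0 ha hb w hwP.1 hwP.2 hw).2.2
  have hT0 : T 0 = 0 := by
    have := hadd 0 0
    rw [add_zero] at this
    exact left_eq_add.mp this
  have hTneg : ∀ x, T (-x) = -T x := by
    intro x
    have h1 := hadd x (-x)
    rw [add_neg_cancel, hT0] at h1
    exact (neg_eq_of_add_eq_zero_right h1.symm).symm
  have hTP : ∀ w ∈ pairPerp Q e f, T w = a • w := by
    intro w hwP
    by_cases hw : Q w = 0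
    · have hw₀mem : w₀ ∈ pairPerp Q e f := (mem_pairPerp Q e f w₀).mpr hw₀P
      by_cases h1 : Q (w + w₀) = 0
      · have h4 : Q (w + -w₀) ≠ 0 := by
          intro h5
          have e1 := QuadraticMap.map_add Q w w₀
          have e2 := QuadraticMap.map_add Q w (-w₀)
          rw [QuadraticMap.map_neg, polar_neg_right] at e2
          rw [h1, hw] at e1
          rw [h5, hw] at e2
          have h6 : 2 * Q w₀ = 0 := by linear_combination (-1 : E) * e1 - e2
          exact mul_ne_zero h2 hw₀ h6
        have h5 := hTaniso (w + -w₀) ((pairPerp Q e f).add_mem hwP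
          ((pairPerp Q e f).neg_mem hw₀mem)) h4
        have h7 : T w = T (w + -w₀) + T w₀ := by
          rw [← hadd]
          congr 1
          abel
        rw [h7, h5, hTw₀, ← smul_add]
        congr 1
        abel
      · have h5 := hTaniso (w + w₀) ((pairPerp Q e f).add_mem hwP hw₀mem) h1
        have h7 : T w = T (w + w₀) + T (-w₀) := by
          rw [← hadd]
          congr 1
          abel
        rw [h7, h5, hTneg, hTw₀, ← smul_neg, ← smul_add]
        congr 1
        abel
    · exact hTaniso w hwP hw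
  intro v
  obtain ⟨w, hw⟩ : ∃ w : W, w = v - polar Q f v • e - polar Q e v • f := ⟨_, rfl⟩
  have hwP : w ∈ pairPerp Q e f := by
    rw [mem_pairPerp, hw]
    constructor
    · simp only [polar_sub_right, polar_smul_right, hee, hef, smul_eq_mul]; ring
    · simp only [polar_sub_right, polar_smul_right, hff, hfe, smul_eq_mul]; ring
  have hv : v = w + polar Q f v • e + polar Q e v • f := by rw [hw]; abel
  rw [hv, hadd, hadd, hsmul, hsmul, hτ, hτ, ha, hb, hba, hTP w hwP]
  simp only [smul_add, smul_smul]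
  rw [mul_comm (polar Q f v) a, mul_comm (polar Q e v) a]

end Cfsg.Agent.Lib.Helper9.ALC
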