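import Mathlib
import Cfsg.Prelude
import Cfsg.Agent.Lib.Helper9.AOR41
import Cfsg.Agent.Lib.Helper9.AOF7

set_option autoImplicit false
set_option linter.unusedSectionVars false
set_option linter.unusedVariables false
set_option linter.style.longLine false
set_option linter.unusedSimpArgs false
open Cfsg

namespace Cfsg.Agent.Lib.Helper9.ALC

/-! General tools for local balance in orthogonal groups: the action of automorphisms on the
Eichler groups, the shape of automorphisms commuting with a similarity. -/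

open Matrix QuadraticMap Cfsg.Agent.Lib.Helper5.CartanDieudonne Cfsg.Agent.Lib.Helper5.Refl
  Cfsg.Agent.Lib.Helper5.OrthCard Cfsg.Agent.Lib.Helper5.Siegel Cfsg.Agent.Lib.Helper5.QuadIsom
  Cfsg.Agent.Lib.Helper5.ReflGen Cfsg.Agent.Lib.Helper5.Eichler Cfsg.Agent.Lib.Helper5.SingGeom
  Cfsg.Agent.Lib.Helper5.OmegaGen Cfsg.Agent.Lib.Helper5.OmegaSimple
  Cfsg.Agent.Lib.Helper9.AOR Cfsg.Agent.Lib.Helper9.AOF
open scoped Pointwise
open Cfsg.Agent.Lib.Helper5.OAut Cfsg.Agent.Lib.Helper5.SpinorHyp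

variable {ι : Type} [Fintype ι] [DecidableEq ι] {F : Type*} [Field F] [Fintype F]
  {Q : QuadraticForm F (ι → F)}

theorem smul_QBT_of_Bm {β : MulAut (POmega F ⇑Q)} {u u' : ι → F} (h : Bm Q β u u') :
    β • QBT Q u = QBT Q u' := by
  ext x
  rw [Subgroup.mem_pointwise_smul_iff_inv_smul_mem, MulAut.smul_def, h (β⁻¹ x),
    MulAut.apply_inv_self]

theorem smul_QBT_semiAut (H : Hyp Q) (g : Matrix.GeneralLinearGroup ι F) (σ : F ≃+* F) (c : F)
    (hg : ∀ v, Q (sm g σ v) = c * σ (Q v)) (hc : c ≠ 0) (u : ι → F) (hu : Q u = 0) :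
    semiAut g σ c hg • QBT Q u = QBT Q (sm g σ u) :=
  smul_QBT_of_Bm (Bm_semiAut g σ c hg H hc u hu)

section commrep
variable {i : ℕ} {α β : Fin i → ι}

/-- an automorphism commuting with the automorphism induced by a similarity `k₀` is induced by a
semilinear map commuting with `k₀` up to a scalar -/
theorem comm_rep (hQ : (polarBilin Q).Nondegenerate) (hfam : IsHypFamily Q α β)
    (hi : 3 ≤ i) (h5 : 5 ≤ Fintype.card ι) {w₀ : ι → F} (hw₀ : Q w₀ = 1)
    (k₀ : ↥(Geo.quadSimilarityGroup (F := F) ⇑Q))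
    (g : Matrix.GeneralLinearGroup ι F) (τ : F ≃+* F) (c : F) (hc : c ≠ 0)
    (hg : ∀ v, Q (sm g τ v) = c * τ (Q v))
    (hcomm : semiAut g τ c hg * conjGO Q k₀ = conjGO Q k₀ * semiAut g τ c hg) :
    ∃ t : F, t ≠ 0 ∧ ∀ v, sm g τ (((k₀ : Matrix.GeneralLinearGroup ι F) : Matrix ι ι F) *ᵥ v) =
      t • (((k₀ : Matrix.GeneralLinearGroup ι F) : Matrix ι ι F) *ᵥ sm g τ v) := by
  have h1 := conjSim_semiAut g τ c hc hg hw₀ k₀
  rw [hcomm] at h1
  have h2 : conjGO Q k₀ = conjGO Q (conjSim g τ c hc hg hw₀ k₀) := mul_right_cancel h1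
  have hker : k₀⁻¹ * conjSim g τ c hc hg hw₀ k₀ ∈ (conjGO Q).ker := by
    rw [MonoidHom.mem_ker, map_mul, map_inv, ← h2, inv_mul_cancel]
  obtain ⟨t, ht, hmat⟩ := scalar_of_mem_ker_conjGO hQ hfam hi h5 hw₀ _ hker
  have ht0 : t ≠ 0 := by
    rintro rfl
    rw [mul_zero] at ht
    exact mult_ne_zero hw₀ (k₀⁻¹ * conjSim g τ c hc hg hw₀ k₀).2 ht.symm
  refine ⟨t, ht0, fun v => ?_⟩
  have e1 : ((conjSim g τ c hc hg hw₀ k₀ : ↥(Geo.quadSimilarityGroup (F := F) ⇑Q)) :
      Matrix.GeneralLinearGroup ι F) =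
      (k₀ : Matrix.GeneralLinearGroup ι F) *
        ((k₀⁻¹ * conjSim g τ c hc hg hw₀ k₀ : ↥(Geo.quadSimilarityGroup (F := F) ⇑Q)) :
          Matrix.GeneralLinearGroup ι F) := by
    show _ = (k₀ : Matrix.GeneralLinearGroup ι F) * ((k₀ : Matrix.GeneralLinearGroup ι F)⁻¹ *
      ((conjSim g τ c hc hg hw₀ k₀ : ↥(Geo.quadSimilarityGroup (F := F) ⇑Q)) :
        Matrix.GeneralLinearGroup ι F))
    rw [mul_inv_cancel_left]
  rw [conjSim_coe] at e1
  have e2 : g * Matrix.GeneralLinearGroup.map (τ : F →+* F) (k₀ : Matrix.GeneralLinearGroup ι F) =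
      (k₀ : Matrix.GeneralLinearGroup ι F) *
        ((k₀⁻¹ * conjSim g τ c hc hg hw₀ k₀ : ↥(Geo.quadSimilarityGroup (F := F) ⇑Q)) :
          Matrix.GeneralLinearGroup ι F) * g := by
    rw [← e1]
    group
  have e3 := congrArg (fun s : Matrix.GeneralLinearGroup ι F => (s : Matrix ι ι F)) e2
  simp only [Units.val_mul] at e3
  rw [hmat] at e3
  unfold sm
  rw [vm_mulVec, Matrix.mulVec_mulVec]
  have e4 : ((Matrix.GeneralLinearGroup.map (τ : F →+* F) (k₀ : Matrix.GeneralLinearGroup ι F) :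
      Matrix.GeneralLinearGroup ι F) : Matrix ι ι F) =
      ((k₀ : Matrix.GeneralLinearGroup ι F) : Matrix ι ι F).map τ := rfl
  rw [e4] at e3
  rw [e3, Matrix.mul_smul, Matrix.mul_one, Matrix.smul_mul, Matrix.smul_mulVec,
    ← Matrix.mulVec_mulVec]

end commrep

/-- a semisimilarity with scalar matrix and trivial field automorphism induces the identity -/
theorem semiAut_eq_one_of_scalar (g : Matrix.GeneralLinearGroup ι F) (c : F)
    (hg : ∀ v, Q (sm g (RingEquiv.refl F) v) = c * (RingEquiv.refl F) (Q v)) (a : F)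
    (ha : (g : Matrix ι ι F) = a • 1) : semiAut g (RingEquiv.refl F) c hg = 1 := by
  apply MulEquiv.ext
  intro x
  obtain ⟨s, rfl⟩ := pr_surjective (Q := Q) x
  rw [semiAut_pr, MulAut.one_apply]
  congr 1
  apply Subtype.ext
  apply Subtype.ext
  show g * Matrix.GeneralLinearGroup.map ((RingEquiv.refl F : F ≃+* F) : F →+* F) s.1.1 * g⁻¹ = s.1.1
  rw [map_refl_GL]
  have h1 : g * (s.1.1 : Matrix.GeneralLinearGroup ι F) = s.1.1 * g := by
    apply Units.ext
    rw [Units.val_mul, Units.val_mul, ha, Matrix.smul_mul, Matrix.mul_smul, Matrix.one_mul,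
      Matrix.mul_one]
  rw [h1, mul_inv_cancel_right]

end Cfsg.Agent.Lib.Helper9.ALC
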