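import Mathlib
import Cfsg.Prelude
import Cfsg.Agent.Lib.Helper9.ALC1
import Cfsg.Agent.Lib.Helper5.MaxTS
import Cfsg.Agent.Lib.Helper5.SingGeom

set_option autoImplicit false
set_option linter.unusedSectionVars false
set_option linter.unusedVariables false
set_option linter.style.longLine false
set_option linter.unusedSimpArgs false
open Cfsg

namespace Cfsg.Agent.Lib.Helper9.ALC

/-! Linear algebra of an involutory isometry in odd characteristic: the two eigenspaces. -/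

open Module Matrix QuadraticMap Cfsg.Agent.Lib.Helper5.QuadIsom Cfsg.Agent.Lib.Helper5.ReflGen
  Cfsg.Agent.Lib.Helper5.SingGeom Cfsg.Agent.Lib.Helper5 Cfsg.Agent.Lib.Helper5.MaxTS

variable {ι : Type} [Fintype ι] [DecidableEq ι] {F : Type*} [Field F] [Fintype F]

/-- the eigenspace of a matrix -/
def eig (M : Matrix ι ι F) (ε : F) : Submodule F (ι → F) where
  carrier := {v | M *ᵥ v = ε • v}
  add_mem' := by
    intro a b ha hb
    show M *ᵥ (a + b) = ε • (a + b)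
    rw [Matrix.mulVec_add, ha, hb, smul_add]
  zero_mem' := by
    show M *ᵥ 0 = ε • (0 : ι → F)
    rw [Matrix.mulVec_zero, smul_zero]
  smul_mem' := by
    intro c a ha
    show M *ᵥ (c • a) = ε • (c • a)
    rw [Matrix.mulVec_smul, ha, smul_comm]

theorem mem_eig (M : Matrix ι ι F) (ε : F) (v : ι → F) : v ∈ eig M ε ↔ M *ᵥ v = ε • v := Iff.rfl

variable {M : Matrix ι ι F}

theorem mulVec_mulVec_self (hM : M * M = 1) (v : ι → F) : M *ᵥ (M *ᵥ v) = v := by
  rw [Matrix.mulVec_mulVec, hM, Matrix.one_mulVec]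

theorem half_add_mem (h2 : (2 : F) ≠ 0) (hM : M * M = 1) (v : ι → F) :
    (2 : F)⁻¹ • (v + M *ᵥ v) ∈ eig M 1 := by
  rw [mem_eig, Matrix.mulVec_smul, Matrix.mulVec_add, mulVec_mulVec_self hM, one_smul, add_comm]

theorem half_sub_mem (h2 : (2 : F) ≠ 0) (hM : M * M = 1) (v : ι → F) :
    (2 : F)⁻¹ • (v - M *ᵥ v) ∈ eig M (-1) := by
  rw [mem_eig, Matrix.mulVec_smul, Matrix.mulVec_sub, mulVec_mulVec_self hM, neg_smul, one_smul,
    ← smul_neg, neg_sub]

theorem eig_decomp (h2 : (2 : F) ≠ 0) (v : ι → F) :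
    v = (2 : F)⁻¹ • (v + M *ᵥ v) + (2 : F)⁻¹ • (v - M *ᵥ v) := by
  rw [← smul_add]
  have : v + M *ᵥ v + (v - M *ᵥ v) = (2 : F) • v := by
    rw [two_smul]
    abel
  rw [this, smul_smul, inv_mul_cancel₀ h2, one_smul]

theorem eig_inf (h2 : (2 : F) ≠ 0) : eig M 1 ⊓ eig M (-1) = ⊥ := by
  rw [eq_bot_iff]
  rintro v ⟨h1, h3⟩
  rw [SetLike.mem_coe, mem_eig] at h1 h3
  rw [h1, one_smul, neg_smul, one_smul] at h3
  rw [Submodule.mem_bot]
  have h4 : (2 : F) • v = 0 := by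
    rw [two_smul]
    nth_rewrite 2 [h3]
    exact add_neg_cancel v
  rcases smul_eq_zero.mp h4 with h | h
  · exact absurd h h2
  · exact h

theorem eig_sup (h2 : (2 : F) ≠ 0) (hM : M * M = 1) : eig M 1 ⊔ eig M (-1) = ⊤ := by
  rw [eq_top_iff]
  intro v _
  rw [eig_decomp (M := M) h2 v]
  exact Submodule.add_mem_sup (half_add_mem h2 hM v) (half_sub_mem h2 hM v)

theorem isCompl_eig (h2 : (2 : F) ≠ 0) (hM : M * M = 1) : IsCompl (eig M 1) (eig M (-1)) :=
  ⟨disjoint_iff.mpr (eig_inf h2), codisjoint_iff.mpr (eig_sup h2 hM)⟩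

theorem finrank_eig_add (h2 : (2 : F) ≠ 0) (hM : M * M = 1) :
    finrank F ↥(eig M 1) + finrank F ↥(eig M (-1)) = Fintype.card ι := by
  have h := Submodule.finrank_add_eq_of_isCompl (isCompl_eig (M := M) h2 hM)
  rw [h, Module.finrank_fintype_fun_eq_card]

variable (Q : QuadraticForm F (ι → F))

theorem polar_mulVec (hMQ : ∀ v, Q (M *ᵥ v) = Q v) (u v : ι → F) :
    polar ⇑Q (M *ᵥ u) (M *ᵥ v) = polar ⇑Q u v := by
  unfold polar
  rw [← Matrix.mulVec_add, hMQ, hMQ, hMQ]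

theorem polar_eig_zero (h2 : (2 : F) ≠ 0) (hMQ : ∀ v, Q (M *ᵥ v) = Q v) (a b : ι → F)
    (ha : a ∈ eig M 1) (hb : b ∈ eig M (-1)) : polar ⇑Q a b = 0 := by
  have h1 := polar_mulVec Q hMQ a b
  rw [(mem_eig M 1 a).mp ha, (mem_eig M (-1) b).mp hb, one_smul, neg_smul, one_smul,
    polar_neg_right] at h1
  have h3 : (2 : F) * polar ⇑Q a b = 0 := by linear_combination -h1
  rcases mul_eq_zero.mp h3 with h | h
  · exact absurd h h2
  · exact h

theorem nd_eig_one (h2 : (2 : F) ≠ 0) (hM : M * M = 1) (hMQ : ∀ v, Q (M *ᵥ v) = Q v)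
    (hQ : (polarBilin Q).Nondegenerate) : ND (Q.comp (eig M 1).subtype) := by
  intro z hz
  apply Subtype.ext
  apply hQ.1 (z : ι → F)
  intro v
  rw [polarBilin_apply_apply, eig_decomp (M := M) h2 v, polar_add_right,
    polar_eig_zero Q h2 hMQ _ _ z.2 (half_sub_mem h2 hM v), add_zero]
  have := hz ⟨_, half_add_mem h2 hM v⟩
  rw [polar_comp_subtype] at this
  exact this

theorem nd_eig_neg (h2 : (2 : F) ≠ 0) (hM : M * M = 1) (hMQ : ∀ v, Q (M *ᵥ v) = Q v)
    (hQ : (polarBilin Q).Nondegenerate) : ND (Q.comp (eig M (-1)).subtype) := by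
  intro z hz
  apply Subtype.ext
  apply hQ.1 (z : ι → F)
  intro v
  rw [polarBilin_apply_apply, eig_decomp (M := M) h2 v, polar_add_right]
  have h1 : polar ⇑Q (z : ι → F) ((2 : F)⁻¹ • (v + M *ᵥ v)) = 0 := by
    rw [polar_comm]
    exact polar_eig_zero Q h2 hMQ _ _ (half_add_mem h2 hM v) z.2
  rw [h1, zero_add]
  have := hz ⟨_, half_sub_mem h2 hM v⟩
  rw [polar_comp_subtype] at this
  exact this

/-- the determinant of an involution -/
theorem det_involution (h2 : (2 : F) ≠ 0) (hM : M * M = 1) :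
    M.det = (-1) ^ finrank F ↥(eig M (-1)) := by
  have hc := isCompl_eig (M := M) h2 hM
  obtain ⟨e, he⟩ : ∃ e : (↥(eig M 1) × ↥(eig M (-1))) ≃ₗ[F] (ι → F),
      e = Submodule.prodEquivOfIsCompl _ _ hc := ⟨_, rfl⟩
  have h1 : (Matrix.toLin' M) = (e : (↥(eig M 1) × ↥(eig M (-1))) →ₗ[F] (ι → F)) ∘ₗ
      (LinearMap.prodMap (LinearMap.id : ↥(eig M 1) →ₗ[F] ↥(eig M 1))
        ((-1 : F) • (LinearMap.id : ↥(eig M (-1)) →ₗ[F] ↥(eig M (-1))))) ∘ₗ
      (e.symm : (ι → F) →ₗ[F] (↥(eig M 1) × ↥(eig M (-1)))) := by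
    apply LinearMap.ext
    intro v
    obtain ⟨⟨a, b⟩, rfl⟩ := e.surjective v
    simp only [LinearMap.comp_apply, LinearEquiv.coe_coe, LinearEquiv.symm_apply_apply,
      LinearMap.prodMap_apply, LinearMap.id_apply, LinearMap.smul_apply]
    rw [he, Submodule.coe_prodEquivOfIsCompl', Submodule.coe_prodEquivOfIsCompl']
    simp only [Matrix.toLin'_apply, Matrix.mulVec_add]
    rw [(mem_eig M 1 _).mp a.2, (mem_eig M (-1) _).mp b.2, one_smul]
    rfl
  rw [← LinearMap.det_toLin', h1, LinearMap.det_conj, LinearMap.det_prodMap, LinearMap.det_id,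
    LinearMap.det_smul, LinearMap.det_id, one_mul, mul_one]

end Cfsg.Agent.Lib.Helper9.ALC
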