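import Mathlib
import Cfsg.Prelude
import Cfsg.Agent.Lib.Helper9.ALC2
import Cfsg.Agent.Lib.Helper9.ALC3
import Cfsg.Agent.Lib.Helper9.ALC4
import Cfsg.Agent.Lib.Helper9.ALC5
import Cfsg.Agent.Lib.Helper2.Lbf1
import Cfsg.Agent.Lib.Helper9.AOR26

set_option autoImplicit false
set_option linter.unusedSectionVars false
set_option linter.unusedVariables false
set_option linter.style.longLine false
set_option linter.unusedSimpArgs false
open Cfsg

namespace Cfsg.Agent.Lib.Helper9.ALC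

/-! Local balance for a graph involution of type (I): an involutory isometry with two
eigenspaces of odd dimension. -/

open Module Matrix QuadraticMap Cfsg.Agent.Lib.Helper5.CartanDieudonne Cfsg.Agent.Lib.Helper5.Refl
  Cfsg.Agent.Lib.Helper5.OrthCard Cfsg.Agent.Lib.Helper5.Siegel Cfsg.Agent.Lib.Helper5.QuadIsom
  Cfsg.Agent.Lib.Helper5.ReflGen Cfsg.Agent.Lib.Helper5.Eichler Cfsg.Agent.Lib.Helper5.SingGeom
  Cfsg.Agent.Lib.Helper5.OmegaGen Cfsg.Agent.Lib.Helper5.OmegaSimple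
  Cfsg.Agent.Lib.Helper9.AOR Cfsg.Agent.Lib.Helper9.AOF Cfsg.Agent.Lib.Helper5
open scoped Pointwise
open Cfsg.Agent.Lib.Helper5.OAut Cfsg.Agent.Lib.Helper5.SpinorHyp

variable {ι : Type} [Fintype ι] [DecidableEq ι] {F : Type*} [Field F] [Fintype F]
  {Q : QuadraticForm F (ι → F)}

theorem conjGO_eq_semiAut {w₀ : ι → F}
    (k : ↥(Geo.quadSimilarityGroup (F := F) ⇑Q))
    (hg : ∀ v, Q (sm (k : Matrix.GeneralLinearGroup ι F) (RingEquiv.refl F) v) =
      mult Q w₀ (k : Matrix.GeneralLinearGroup ι F) * (RingEquiv.refl F) (Q v)) :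
    conjGO Q k = semiAut (k : Matrix.GeneralLinearGroup ι F) (RingEquiv.refl F)
      (mult Q w₀ (k : Matrix.GeneralLinearGroup ι F)) hg :=
  eq_semiAut_of_induced _ _ _ _ _ (conjGO_induced k)

theorem pr_eo (H : Hyp Q) (u z : ι → F) (hu : Q u = 0) (huz : polar ⇑Q u z = 0) :
    pr Q (eo H u z hu huz) = pe H u z := by
  unfold pe
  rw [eoT_eq H u z hu huz]

omit [Fintype F] in
theorem sm_refl (k : Matrix.GeneralLinearGroup ι F) (v : ι → F) :
    sm k (RingEquiv.refl F) v = (k : Matrix ι ι F) *ᵥ v := rfl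

/-- the image of an Eichler element under the automorphism induced by a similarity -/
theorem conjGO_pe (H : Hyp Q) {w₀ : ι → F} (hw₀ : Q w₀ = 1)
    (k : ↥(Geo.quadSimilarityGroup (F := F) ⇑Q)) (u z : ι → F) (hu : Q u = 0)
    (huz : polar ⇑Q u z = 0) :
    conjGO Q k (pe H u z) =
      pe H (((k : Matrix.GeneralLinearGroup ι F) : Matrix ι ι F) *ᵥ u)
        ((mult Q w₀ (k : Matrix.GeneralLinearGroup ι F))⁻¹ •
          (((k : Matrix.GeneralLinearGroup ι F) : Matrix ι ι F) *ᵥ z)) := by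
  have hg : ∀ v, Q (sm (k : Matrix.GeneralLinearGroup ι F) (RingEquiv.refl F) v) =
      mult Q w₀ (k : Matrix.GeneralLinearGroup ι F) * (RingEquiv.refl F) (Q v) :=
    fun v => mult_spec hw₀ k.2 v
  rw [conjGO_eq_semiAut k hg, semiAut_pe _ _ _ hg H (mult_ne_zero hw₀ k.2) u z hu huz, sm_refl,
    sm_refl]

/-- inner automorphisms by fixed elements centralise -/
theorem conj_mem_cent (A : Subgroup (MulAut (POmega F ⇑Q)))
    (hinn : ∀ k : POmega F ⇑Q, MulAut.conj k ∈ A) (x : MulAut (POmega F ⇑Q)) (y : POmega F ⇑Q)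
    (hy : x y = y) : MulAut.conj y ∈ A ⊓ Subgroup.centralizer {x} := by
  refine Subgroup.mem_inf.mpr ⟨hinn y, ?_⟩
  rw [Subgroup.mem_centralizer_iff]
  intro h hh
  rw [Set.mem_singleton_iff.mp hh]
  exact Cfsg.Agent.Lib.Helper2.Lbf.conj_comm_of_fix x y hy

/-- the hypotheses of the engine for an eigenspace of an involutory isometry -/
theorem engineHyp_eig (r : ℕ) [Fact r.Prime] [CharP F r] (h2 : (2 : F) ≠ 0) (H : Hyp Q) (hQ : (polarBilin Q).Nondegenerate)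
    {w₀ : ι → F} (hw₀ : Q w₀ = 1) (k₀ : ↥(Geo.quadSimilarityGroup (F := F) ⇑Q))
    (hM : ((k₀ : Matrix.GeneralLinearGroup ι F) : Matrix ι ι F) *
      ((k₀ : Matrix.GeneralLinearGroup ι F) : Matrix ι ι F) = 1)
    (hMQ : ∀ v, Q (((k₀ : Matrix.GeneralLinearGroup ι F) : Matrix ι ι F) *ᵥ v) = Q v)
    (A : Subgroup (MulAut (POmega F ⇑Q))) (hinn : ∀ k : POmega F ⇑Q, MulAut.conj k ∈ A)
    (N : Subgroup (MulAut (POmega F ⇑Q)))
    (hNle : N ≤ A ⊓ Subgroup.centralizer {conjGO Q k₀})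
    (hNn : ∀ c ∈ A ⊓ Subgroup.centralizer {conjGO Q k₀}, ∀ n ∈ N, c * n * c⁻¹ ∈ N)
    (hodd : Odd (Nat.card ↥N))
    (hrep : ∀ y ∈ N, ∃ (g : Matrix.GeneralLinearGroup ι F) (τ : F ≃+* F) (c : F) (_ : c ≠ 0)
      (hg : ∀ v, Q (sm g τ v) = c * τ (Q v)), y = semiAut g τ c hg ∧
        ∀ v, sm g τ (((k₀ : Matrix.GeneralLinearGroup ι F) : Matrix ι ι F) *ᵥ v) =
          ((k₀ : Matrix.GeneralLinearGroup ι F) : Matrix ι ι F) *ᵥ sm g τ v)
    (ε : F) (hε : ε = 1 ∨ ε = -1)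
    (hdim : finrank F ↥(eig ((k₀ : Matrix.GeneralLinearGroup ι F) : Matrix ι ι F) ε) = 3 ∨
      5 ≤ finrank F ↥(eig ((k₀ : Matrix.GeneralLinearGroup ι F) : Matrix ι ι F) ε)) :
    EngineHyp (Q.comp (eig ((k₀ : Matrix.GeneralLinearGroup ι F) : Matrix ι ι F) ε).subtype)
      (A ⊓ Subgroup.centralizer {conjGO Q k₀}) N
      (fun w : ↥(eig ((k₀ : Matrix.GeneralLinearGroup ι F) : Matrix ι ι F) ε) =>
        QBT Q (w : ι → F)) := by
  have hεε : ε * ε = 1 := by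
    rcases hε with rfl | rfl
    · ring
    · ring
  have hμ : mult Q w₀ (k₀ : Matrix.GeneralLinearGroup ι F) = 1 := by
    unfold mult
    rw [hMQ, hw₀]
  have hfinK : Finite (POmega F ⇑Q) := inferInstance
  have hfinA : Finite (MulAut (POmega F ⇑Q)) :=
    Finite.of_injective (fun e : MulAut (POmega F ⇑Q) => (e : POmega F ⇑Q → POmega F ⇑Q))
      DFunLike.coe_injective
  refine ⟨h2, ?_, hdim, inferInstance, hNle, hNn, hodd, ?_, ?_, ?_⟩
  · rcases hε with rfl | rfl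
    · exact nd_eig_one Q h2 hM hMQ hQ
    · exact nd_eig_neg Q h2 hM hMQ hQ
  · -- pt_iff
    intro v v' hv0 hv'0 hv hv'
    have hv0' : (v : ι → F) ≠ 0 := fun h => hv0 (Subtype.ext h)
    have hv'0' : (v' : ι → F) ≠ 0 := fun h => hv'0 (Subtype.ext h)
    have h1 := QBT_eq_iff r H (v : ι → F) (v' : ι → F) hv0' hv'0' hv hv'
    show QBT Q (v : ι → F) = QBT Q (v' : ι → F) ↔ _
    rw [h1]
    constructor
    · rintro ⟨t, ht⟩
      exact ⟨t, Subtype.ext ht⟩
    · rintro ⟨t, ht⟩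
      exact ⟨t, by rw [ht]; rfl⟩
  · -- inv
    intro c hcN v hv0 hv
    obtain ⟨g, τ, c₀, hc₀, hg, rfl, hcomm⟩ := hrep c hcN
    have hτε : τ ε = ε := by
      rcases hε with rfl | rfl
      · exact map_one τ
      · rw [map_neg, map_one]
    have hmem : sm g τ (v : ι → F) ∈
        eig ((k₀ : Matrix.GeneralLinearGroup ι F) : Matrix ι ι F) ε := by
      rw [mem_eig, ← hcomm, (mem_eig _ _ _).mp v.2, sm_smul, hτε]
    have hv0' : (v : ι → F) ≠ 0 := fun h => hv0 (Subtype.ext h)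
    refine ⟨⟨sm g τ (v : ι → F), hmem⟩, ?_, ?_, ?_⟩
    · intro h
      apply hv0'
      apply sm_injective g τ
      have h0 : sm g τ (0 : ι → F) = 0 := by
        have := sm_smul g τ (0 : F) (0 : ι → F)
        rw [zero_smul, map_zero, zero_smul] at this
        exact this
      rw [h0]
      exact congrArg Subtype.val h
    · show Q (sm g τ (v : ι → F)) = 0
      have hv' : Q (v : ι → F) = 0 := hv
      rw [hg, hv', map_zero, mul_zero]
    · exact smul_QBT_semiAut H g τ c₀ hg hc₀ (v : ι → F) hv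
  · -- eich
    intro u z hu0 hu huz
    have hu' : Q (u : ι → F) = 0 := hu
    have huz' : polar ⇑Q (u : ι → F) (z : ι → F) = 0 := by
      rw [← polar_comp_subtype]
      exact huz
    refine ⟨MulAut.conj (pr Q (eo H (u : ι → F) (z : ι → F) hu' huz')), ?_, ?_⟩
    · apply conj_mem_cent A hinn
      rw [pr_eo, conjGO_pe H hw₀ k₀ _ _ hu' huz', hμ, inv_one, one_smul,
        (mem_eig _ _ _).mp u.2, (mem_eig _ _ _).mp z.2, pe_smul_left H _ _ hu'
        (by rw [polar_smul_right, huz', smul_zero]), smul_smul, hεε, one_smul]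
    · intro v hv0 hv
      have hv' : Q (v : ι → F) = 0 := hv
      show MulAut.conj (pr Q (eo H (u : ι → F) (z : ι → F) hu' huz')) • QBT Q (v : ι → F) = _
      rw [conj_QBT _ _ hv', eo_val, act_eich]
      congr 1

/-- after the engine: the semilinear map of an element of `N` is a scalar on the eigenspace -/
theorem eig_scalar (r : ℕ) [Fact r.Prime] [CharP F r] (h2 : (2 : F) ≠ 0) (H : Hyp Q)
    (hQ : (polarBilin Q).Nondegenerate)
    {w₀ : ι → F} (hw₀ : Q w₀ = 1) (k₀ : ↥(Geo.quadSimilarityGroup (F := F) ⇑Q))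
    (hM : ((k₀ : Matrix.GeneralLinearGroup ι F) : Matrix ι ι F) *
      ((k₀ : Matrix.GeneralLinearGroup ι F) : Matrix ι ι F) = 1)
    (hMQ : ∀ v, Q (((k₀ : Matrix.GeneralLinearGroup ι F) : Matrix ι ι F) *ᵥ v) = Q v)
    (A : Subgroup (MulAut (POmega F ⇑Q))) (hinn : ∀ k : POmega F ⇑Q, MulAut.conj k ∈ A)
    (N : Subgroup (MulAut (POmega F ⇑Q)))
    (hNle : N ≤ A ⊓ Subgroup.centralizer {conjGO Q k₀})
    (hNn : ∀ c ∈ A ⊓ Subgroup.centralizer {conjGO Q k₀}, ∀ n ∈ N, c * n * c⁻¹ ∈ N)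
    (hodd : Odd (Nat.card ↥N))
    (hrep : ∀ y ∈ N, ∃ (g : Matrix.GeneralLinearGroup ι F) (τ : F ≃+* F) (c : F) (_ : c ≠ 0)
      (hg : ∀ v, Q (sm g τ v) = c * τ (Q v)), y = semiAut g τ c hg ∧
        ∀ v, sm g τ (((k₀ : Matrix.GeneralLinearGroup ι F) : Matrix ι ι F) *ᵥ v) =
          ((k₀ : Matrix.GeneralLinearGroup ι F) : Matrix ι ι F) *ᵥ sm g τ v)
    (ε : F) (hε : ε = 1 ∨ ε = -1)
    (hdim : finrank F ↥(eig ((k₀ : Matrix.GeneralLinearGroup ι F) : Matrix ι ι F) ε) = 3 ∨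
      5 ≤ finrank F ↥(eig ((k₀ : Matrix.GeneralLinearGroup ι F) : Matrix ι ι F) ε))
    (g : Matrix.GeneralLinearGroup ι F) (τ : F ≃+* F) (c : F) (hc : c ≠ 0)
    (hg : ∀ v, Q (sm g τ v) = c * τ (Q v)) (hyN : semiAut g τ c hg ∈ N)
    (hcomm : ∀ v, sm g τ (((k₀ : Matrix.GeneralLinearGroup ι F) : Matrix ι ι F) *ᵥ v) =
          ((k₀ : Matrix.GeneralLinearGroup ι F) : Matrix ι ι F) *ᵥ sm g τ v) :
    (∀ s, τ s = s) ∧ ∃ a : F, ∀ v ∈ eig ((k₀ : Matrix.GeneralLinearGroup ι F) : Matrix ι ι F) ε,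
      sm g τ v = a • v := by
  have E := engineHyp_eig r h2 H hQ hw₀ k₀ hM hMQ A hinn N hNle hNn hodd hrep ε hε hdim
  have hfixpt := engine E (semiAut g τ c hg) hyN
  have hτε : τ ε = ε := by
    rcases hε with rfl | rfl
    · exact map_one τ
    · rw [map_neg, map_one]
  have hmem : ∀ v ∈ eig ((k₀ : Matrix.GeneralLinearGroup ι F) : Matrix ι ι F) ε,
      sm g τ v ∈ eig ((k₀ : Matrix.GeneralLinearGroup ι F) : Matrix ι ι F) ε := by
    intro v hv
    rw [mem_eig, ← hcomm, (mem_eig _ _ _).mp hv, sm_smul, hτε]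
  have h3 : 3 ≤ finrank F ↥(eig ((k₀ : Matrix.GeneralLinearGroup ι F) : Matrix ι ι F) ε) := by
    rcases hdim with h | h <;> omega
  obtain ⟨e, he0, he⟩ := exists_singular
    (Q.comp (eig ((k₀ : Matrix.GeneralLinearGroup ι F) : Matrix ι ι F) ε).subtype) h3
  obtain ⟨f, hf, hef⟩ := exists_partner _ E.nd e he0 he
  have hsm0 : sm g τ (0 : ι → F) = 0 := by
    have := sm_smul g τ (0 : F) (0 : ι → F)
    rw [zero_smul, map_zero, zero_smul] at this
    exact this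
  obtain ⟨hτ, a, ha⟩ := scalar_of_fix_singular
    (Q.comp (eig ((k₀ : Matrix.GeneralLinearGroup ι F) : Matrix ι ι F) ε).subtype) h2 E.nd h3
    e f he hf hef (fun s => τ s) (map_one τ) (by rw [map_neg, map_one])
    (fun w => ⟨sm g τ (w : ι → F), hmem _ w.2⟩)
    (fun x y => Subtype.ext (by
      show sm g τ ((x : ι → F) + (y : ι → F)) = sm g τ x + sm g τ y
      exact sm_add g τ _ _))
    (fun s x => Subtype.ext (by
      show sm g τ (s • (x : ι → F)) = τ s • sm g τ x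
      exact sm_smul g τ s _))
    (fun v hv => Subtype.ext (by
      have h1 : sm g τ (v : ι → F) = 0 := congrArg Subtype.val hv
      rw [← hsm0] at h1
      exact sm_injective g τ h1))
    (fun v hv0 hv => by
      have hv0' : (v : ι → F) ≠ 0 := fun h => hv0 (Subtype.ext h)
      have hv' : Q (v : ι → F) = 0 := hv
      have hTv0 : sm g τ (v : ι → F) ≠ 0 := by
        intro h
        rw [← hsm0] at h
        exact hv0' (sm_injective g τ h)
      have hTv : Q (sm g τ (v : ι → F)) = 0 := by rw [hg, hv', map_zero, mul_zero]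
      have h1 := hfixpt v hv0 hv
      have h4 : QBT Q (v : ι → F) = QBT Q (sm g τ (v : ι → F)) := by
        rw [← smul_QBT_semiAut H g τ c hg hc (v : ι → F) hv']
        exact h1.symm
      obtain ⟨t, ht⟩ := (QBT_eq_iff r H (v : ι → F) _ hv0' hTv0 hv' hTv).mp h4
      exact ⟨t, Subtype.ext ht⟩)
  refine ⟨hτ, a, fun v hv => ?_⟩
  exact congrArg Subtype.val (ha ⟨v, hv⟩)

/-- on a one-dimensional eigenspace a linear map commuting with the involution is a scalar -/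
theorem eig_scalar_one (k₀ : Matrix ι ι F) (ε : F) (hdim : finrank F ↥(eig k₀ ε) = 1)
    (g : Matrix.GeneralLinearGroup ι F) (τ : F ≃+* F) (hτ : ∀ s, τ s = s)
    (hcomm : ∀ v, sm g τ (k₀ *ᵥ v) = k₀ *ᵥ sm g τ v) :
    ∃ a : F, ∀ v ∈ eig k₀ ε, sm g τ v = a • v := by
  obtain ⟨v₀, hv₀⟩ := finrank_eq_one_iff'.mp hdim
  have hmem : sm g τ (v₀ : ι → F) ∈ eig k₀ ε := by
    rw [mem_eig, ← hcomm, (mem_eig _ _ _).mp v₀.2, sm_smul, hτ]
  obtain ⟨a, ha⟩ := hv₀.2 ⟨_, hmem⟩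
  refine ⟨a, fun v hv => ?_⟩
  obtain ⟨s, hs⟩ := hv₀.2 ⟨v, hv⟩
  have hs' : v = s • (v₀ : ι → F) := (congrArg Subtype.val hs).symm
  have ha' : sm g τ (v₀ : ι → F) = a • (v₀ : ι → F) := (congrArg Subtype.val ha).symm
  rw [hs', sm_smul, hτ, ha', smul_comm]

end Cfsg.Agent.Lib.Helper9.ALC
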