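import Mathlib
import Cfsg.Prelude
import Cfsg.Agent.Lib.Helper9.ALC6
import Cfsg.Agent.Lib.Helper9.AOF11

set_option autoImplicit false
set_option linter.unusedSectionVars false
set_option linter.unusedVariables false
set_option linter.style.longLine false
set_option linter.unusedSimpArgs false
open Cfsg

namespace Cfsg.Agent.Lib.Helper9.ALC

/-! Local balance for a graph involution of type (I): the conclusion. -/

open Module Matrix QuadraticMap Cfsg.Agent.Lib.Helper5.CartanDieudonne Cfsg.Agent.Lib.Helper5.Refl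
  Cfsg.Agent.Lib.Helper5.OrthCard Cfsg.Agent.Lib.Helper5.Siegel Cfsg.Agent.Lib.Helper5.QuadIsom
  Cfsg.Agent.Lib.Helper5.ReflGen Cfsg.Agent.Lib.Helper5.Eichler Cfsg.Agent.Lib.Helper5.SingGeom
  Cfsg.Agent.Lib.Helper5.OmegaGen Cfsg.Agent.Lib.Helper5.OmegaSimple
  Cfsg.Agent.Lib.Helper9.AOR Cfsg.Agent.Lib.Helper9.AOF Cfsg.Agent.Lib.Helper5
open scoped Pointwise
open Cfsg.Agent.Lib.Helper5.OAut Cfsg.Agent.Lib.Helper5.SpinorHyp

variable {ι : Type} [Fintype ι] [DecidableEq ι] {F : Type*} [Field F] [Fintype F]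
  {Q : QuadraticForm F (ι → F)} {i : ℕ} {α β : Fin i → ι}

omit [Fintype F] in
theorem sm_zero (g : Matrix.GeneralLinearGroup ι F) (τ : F ≃+* F) : sm g τ (0 : ι → F) = 0 := by
  have := sm_smul g τ (0 : F) (0 : ι → F)
  rw [zero_smul, map_zero, zero_smul] at this
  exact this

/-- every element of a subgroup of odd order is a square -/
theorem exists_sq_of_odd {G : Type*} [Group G] (N : Subgroup G) (hodd : Odd (Nat.card ↥N))
    (y : G) (hy : y ∈ N) : ∃ z ∈ N, z * z = y := by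
  obtain ⟨n, hn⟩ := hodd
  refine ⟨y ^ (n + 1), N.pow_mem hy _, ?_⟩
  rw [← pow_add]
  have e : n + 1 + (n + 1) = (2 * n + 1) + 1 := by ring
  rw [e, pow_succ, ← hn]
  have h1 : (⟨y, hy⟩ : ↥N) ^ Nat.card ↥N = 1 := pow_card_eq_one'
  have h2 := congrArg Subtype.val h1
  rw [Subgroup.coe_pow, Subgroup.coe_one] at h2
  show y ^ Nat.card ↥N * y = y
  rw [h2, one_mul]

/-- the elements of a subgroup of odd order centralising the automorphism induced by an
involutory similarity are induced by semilinear maps commuting with it -/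
theorem rep_comm_of_sq (hQ : (polarBilin Q).Nondegenerate) (hfam : IsHypFamily Q α β)
    (hi : 3 ≤ i) (h5 : 5 ≤ Fintype.card ι) {w₀ : ι → F} (hw₀ : Q w₀ = 1)
    (hγ : gammaPOmega F ⇑Q = ⊤) (k₀ : ↥(Geo.quadSimilarityGroup (F := F) ⇑Q))
    (hM : ((k₀ : Matrix.GeneralLinearGroup ι F) : Matrix ι ι F) *
      ((k₀ : Matrix.GeneralLinearGroup ι F) : Matrix ι ι F) = 1)
    (N : Subgroup (MulAut (POmega F ⇑Q))) (hNc : N ≤ Subgroup.centralizer {conjGO Q k₀})
    (hodd : Odd (Nat.card ↥N)) :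
    ∀ y ∈ N, ∃ (g : Matrix.GeneralLinearGroup ι F) (τ : F ≃+* F) (c : F) (_ : c ≠ 0)
      (hg : ∀ v, Q (sm g τ v) = c * τ (Q v)), y = semiAut g τ c hg ∧
        ∀ v, sm g τ (((k₀ : Matrix.GeneralLinearGroup ι F) : Matrix ι ι F) *ᵥ v) =
          ((k₀ : Matrix.GeneralLinearGroup ι F) : Matrix ι ι F) *ᵥ sm g τ v := by
  intro y hy
  obtain ⟨z, hzN, hzz⟩ := exists_sq_of_odd N hodd y hy
  obtain ⟨τ, g, c, hc, hg, hzr⟩ := SR_total hγ z
  have hcomm : semiAut g τ c hg * conjGO Q k₀ = conjGO Q k₀ * semiAut g τ c hg := by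
    rw [← hzr]
    exact (Subgroup.mem_centralizer_iff.mp (hNc hzN) (conjGO Q k₀) (Set.mem_singleton _)).symm
  obtain ⟨t, ht0, ht⟩ := comm_rep hQ hfam hi h5 hw₀ k₀ g τ c hc hg hcomm
  have htt : t * t = 1 := by
    have hw0 : w₀ ≠ 0 := by
      rintro rfl
      rw [map_zero] at hw₀
      exact zero_ne_one hw₀
    have h1 : sm g τ w₀ = (t * t) • sm g τ w₀ := by
      conv_lhs => rw [← mulVec_mulVec_self hM w₀]
      rw [ht, ht, Matrix.mulVec_smul, smul_smul, mulVec_mulVec_self hM]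
    have hT0 : sm g τ w₀ ≠ 0 := by
      intro h
      rw [← sm_zero g τ] at h
      exact hw0 (sm_injective g τ h)
    by_contra hne
    have h3 : (t * t - 1) • sm g τ w₀ = 0 := by rw [sub_smul, one_smul, ← h1, sub_self]
    rcases smul_eq_zero.mp h3 with h | h
    · exact hne (sub_eq_zero.mp h)
    · exact hT0 h
  have hτt : τ t = t := by
    have h3 : (t - 1) * (t + 1) = 0 := by linear_combination htt
    rcases mul_eq_zero.mp h3 with h | h
    · rw [sub_eq_zero.mp h, map_one]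
    · rw [eq_neg_of_add_eq_zero_left h, map_neg, map_one]
  refine ⟨g * Matrix.GeneralLinearGroup.map (τ : F →+* F) g, τ.trans τ, c * τ c,
    mul_ne_zero hc ((map_ne_zero τ).mpr hc), quad_sm_comp g g τ τ c c hg hg, ?_, ?_⟩
  · rw [← hzz, hzr, semiAut_mul]
  · intro v
    rw [sm_comp, sm_comp, ht, sm_smul, ht, hτt, smul_smul, htt, one_smul]

/-- **type (I)**: a normal subgroup of odd order of the centraliser of the automorphism induced by
an involutory isometry with determinant `-1`-type is trivial -/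
theorem typeI_trivial (r : ℕ) [Fact r.Prime] [CharP F r] (h2 : (2 : F) ≠ 0)
    (hQ : (polarBilin Q).Nondegenerate) (hfam : IsHypFamily Q α β)
    (hi : 3 ≤ i) (h5 : 5 ≤ Fintype.card ι) {w₀ : ι → F} (hw₀ : Q w₀ = 1)
    (hγ : gammaPOmega F ⇑Q = ⊤) (n : ℕ) (hcard : Fintype.card ι = 2 * n) (hn : 4 ≤ n)
    (k₀ : ↥(Geo.quadSimilarityGroup (F := F) ⇑Q))
    (hM : ((k₀ : Matrix.GeneralLinearGroup ι F) : Matrix ι ι F) *
      ((k₀ : Matrix.GeneralLinearGroup ι F) : Matrix ι ι F) = 1)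
    (hMQ : ∀ v, Q (((k₀ : Matrix.GeneralLinearGroup ι F) : Matrix ι ι F) *ᵥ v) = Q v)
    (hnP : ¬ Pdet Q w₀ n (k₀ : Matrix.GeneralLinearGroup ι F))
    (A : Subgroup (MulAut (POmega F ⇑Q))) (hinn : ∀ k : POmega F ⇑Q, MulAut.conj k ∈ A)
    (N : Subgroup (MulAut (POmega F ⇑Q)))
    (hNle : N ≤ A ⊓ Subgroup.centralizer {conjGO Q k₀})
    (hNn : ∀ c ∈ A ⊓ Subgroup.centralizer {conjGO Q k₀}, ∀ n ∈ N, c * n * c⁻¹ ∈ N)
    (hodd : Odd (Nat.card ↥N)) : N = ⊥ := by
  have H := Hyp.of_hypFamily hQ hfam hi h5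
  have hrep := rep_comm_of_sq hQ hfam hi h5 hw₀ hγ k₀ hM N (hNle.trans inf_le_right) hodd
  have hsum := finrank_eig_add (M := ((k₀ : Matrix.GeneralLinearGroup ι F) : Matrix ι ι F)) h2 hM
  rw [hcard] at hsum
  have hdet := det_involution (M := ((k₀ : Matrix.GeneralLinearGroup ι F) : Matrix ι ι F)) h2 hM
  have hμ : mult Q w₀ (k₀ : Matrix.GeneralLinearGroup ι F) = 1 := by
    unfold mult
    rw [hMQ, hw₀]
  have hoddm : Odd (finrank F ↥(eig ((k₀ : Matrix.GeneralLinearGroup ι F) : Matrix ι ι F) (-1))) := by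
    rw [← Nat.not_even_iff_odd]
    intro hev
    apply hnP
    unfold Pdet detRatio
    rw [hμ, inv_one, one_pow, mul_one, hdet, hev.neg_one_pow]
  have hoddp : Odd (finrank F ↥(eig ((k₀ : Matrix.GeneralLinearGroup ι F) : Matrix ι ι F) 1)) := by
    rw [← Nat.not_even_iff_odd]
    intro hev
    have h3 : Even (finrank F ↥(eig ((k₀ : Matrix.GeneralLinearGroup ι F) : Matrix ι ι F) 1) +
        finrank F ↥(eig ((k₀ : Matrix.GeneralLinearGroup ι F) : Matrix ι ι F) (-1))) := by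
      rw [hsum]
      exact even_two_mul n
    rw [Nat.even_add] at h3
    exact (Nat.not_even_iff_odd.mpr hoddm) (h3.mp hev)
  rw [Subgroup.eq_bot_iff_forall]
  intro y hy
  obtain ⟨g, τ, c, hc, hg, rfl, hcomm⟩ := hrep y hy
  -- the field automorphism is trivial
  have hτ : ∀ s, τ s = s := by
    by_cases h5p : 5 ≤ finrank F ↥(eig ((k₀ : Matrix.GeneralLinearGroup ι F) : Matrix ι ι F) 1)
    · exact (eig_scalar r h2 H hQ hw₀ k₀ hM hMQ A hinn N hNle hNn hodd hrep 1 (Or.inl rfl)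
        (Or.inr h5p) g τ c hc hg hy hcomm).1
    · have h5m : 5 ≤ finrank F ↥(eig ((k₀ : Matrix.GeneralLinearGroup ι F) : Matrix ι ι F) (-1)) := by
        obtain ⟨a, ha⟩ := hoddm
        omega
      exact (eig_scalar r h2 H hQ hw₀ k₀ hM hMQ A hinn N hNle hNn hodd hrep (-1) (Or.inr rfl)
        (Or.inr h5m) g τ c hc hg hy hcomm).1
  have hsc : ∀ ε : F, (ε = 1 ∨ ε = -1) →
      Odd (finrank F ↥(eig ((k₀ : Matrix.GeneralLinearGroup ι F) : Matrix ι ι F) ε)) →
      ∃ a : F, ∀ v ∈ eig ((k₀ : Matrix.GeneralLinearGroup ι F) : Matrix ι ι F) ε,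
        sm g τ v = a • v := by
    intro ε hε hoddε
    by_cases h1 : finrank F ↥(eig ((k₀ : Matrix.GeneralLinearGroup ι F) : Matrix ι ι F) ε) = 1
    · exact eig_scalar_one _ ε h1 g τ hτ hcomm
    · have hdim : finrank F ↥(eig ((k₀ : Matrix.GeneralLinearGroup ι F) : Matrix ι ι F) ε) = 3 ∨
          5 ≤ finrank F ↥(eig ((k₀ : Matrix.GeneralLinearGroup ι F) : Matrix ι ι F) ε) := by
        obtain ⟨a, ha⟩ := hoddε
        omega
      exact (eig_scalar r h2 H hQ hw₀ k₀ hM hMQ A hinn N hNle hNn hodd hrep ε hε hdim g τ c hc hg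
        hy hcomm).2
  obtain ⟨ap, hap⟩ := hsc 1 (Or.inl rfl) hoddp
  obtain ⟨am, ham⟩ := hsc (-1) (Or.inr rfl) hoddm
  -- the squares of the two scalars
  have hsq : ∀ (ε a : F) (hnd : ND (Q.comp (eig ((k₀ : Matrix.GeneralLinearGroup ι F) :
      Matrix ι ι F) ε).subtype))
      (hoddε : Odd (finrank F ↥(eig ((k₀ : Matrix.GeneralLinearGroup ι F) : Matrix ι ι F) ε)))
      (ha : ∀ v ∈ eig ((k₀ : Matrix.GeneralLinearGroup ι F) : Matrix ι ι F) ε,
        sm g τ v = a • v), a * a = c := by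
    intro ε a hnd hoddε ha
    have hpos : 0 < finrank F ↥(eig ((k₀ : Matrix.GeneralLinearGroup ι F) : Matrix ι ι F) ε) :=
      hoddε.pos
    obtain ⟨x, hx0⟩ := Module.finrank_pos_iff_exists_ne_zero.mp hpos
    obtain ⟨u, hu⟩ := exists_aniso_of_ND _ hnd x hx0
    have hu' : Q (u : ι → F) ≠ 0 := hu
    have h1 := hg (u : ι → F)
    rw [ha _ u.2, QuadraticMap.map_smul, hτ, smul_eq_mul] at h1
    exact mul_right_cancel₀ hu' h1
  have hap2 := hsq 1 ap (nd_eig_one Q h2 hM hMQ hQ) hoddp hap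
  have ham2 := hsq (-1) am (nd_eig_neg Q h2 hM hMQ hQ) hoddm ham
  have hTT : ∀ v, sm g τ (sm g τ v) = c • v := by
    intro v
    have h1 : ∀ (a : F) (x : ι → F), sm g τ x = a • x → a * a = c →
        sm g τ (sm g τ x) = c • x := by
      intro a x hx haa
      rw [hx, sm_smul, hτ, hx, smul_smul, haa]
    conv_lhs => rw [eig_decomp (M := ((k₀ : Matrix.GeneralLinearGroup ι F) : Matrix ι ι F)) h2 v]
    rw [sm_add, sm_add, h1 ap _ (hap _ (half_add_mem h2 hM v)) hap2,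
      h1 am _ (ham _ (half_sub_mem h2 hM v)) ham2, ← smul_add, ← eig_decomp h2 v]
  have hτr : τ = RingEquiv.refl F := RingEquiv.ext hτ
  subst hτr
  have hyy : semiAut g (RingEquiv.refl F) c hg * semiAut g (RingEquiv.refl F) c hg = 1 := by
    rw [semiAut_mul]
    have e2 : (RingEquiv.refl F).trans (RingEquiv.refl F) = RingEquiv.refl F := by
      ext x
      rfl
    have hg2 : ∀ v, Q (sm (g * Matrix.GeneralLinearGroup.map
        ((RingEquiv.refl F : F ≃+* F) : F →+* F) g) (RingEquiv.refl F) v) =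
        (c * (RingEquiv.refl F) c) * (RingEquiv.refl F) (Q v) := by
      intro v
      have := quad_sm_comp g g (RingEquiv.refl F) (RingEquiv.refl F) c c hg hg v
      rw [e2] at this
      exact this
    rw [semiAut_congr rfl e2 rfl _ hg2]
    apply semiAut_eq_one_of_scalar _ _ hg2 c
    rw [ext_iff_mulVec]
    intro v
    have h3 := sm_comp g g (RingEquiv.refl F) (RingEquiv.refl F) v
    rw [hTT] at h3
    rw [Matrix.smul_mulVec, Matrix.one_mulVec, ← h3]
    rfl
  have ho2 : orderOf (semiAut g (RingEquiv.refl F) c hg) ∣ 2 :=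
    orderOf_dvd_of_pow_eq_one (by rw [pow_two]; exact hyy)
  have hoN : orderOf (semiAut g (RingEquiv.refl F) c hg) ∣ Nat.card ↥N :=
    Subgroup.orderOf_dvd_natCard N hy
  have ho1 : orderOf (semiAut g (RingEquiv.refl F) c hg) = 1 := by
    rcases (Nat.dvd_prime Nat.prime_two).mp ho2 with h | h
    · exact h
    · exfalso
      rw [h] at hoN
      obtain ⟨a, ha⟩ := hodd
      omega
  exact orderOf_eq_one_iff.mp ho1

end Cfsg.Agent.Lib.Helper9.ALC
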