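import Mathlib
import Cfsg.Prelude
import Cfsg.Agent.Lib.Helper5.SingGeom
import Cfsg.Agent.Lib.Helper9.ALC1

set_option autoImplicit false
set_option linter.unusedSectionVars false
set_option linter.unusedVariables false
set_option linter.style.longLine false
set_option linter.unusedSimpArgs false
open Cfsg

namespace Cfsg.Agent.Lib.Helper9.ALC

/-! A quadratic space over `F` with a similarity `ω` of square `λ` (a non-square) and multiplier
`λ` is a quadratic space over the quadratic extension `E = F(√λ)`. -/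

open Module QuadraticMap Cfsg.Agent.Lib.Helper5.QuadIsom Cfsg.Agent.Lib.Helper5.ReflGen
  Cfsg.Agent.Lib.Helper5.SingGeom Cfsg.Agent.Lib.Helper5

universe u v
variable {F : Type u} [Field F] {lam : F}
  {V : Type v} [AddCommGroup V] [Module F V] [Module (QuadraticAlgebra F lam 0) V]
  [IsScalarTower F (QuadraticAlgebra F lam 0) V]

local notation "EE" => QuadraticAlgebra F lam 0
local notation "om" => (QuadraticAlgebra.omega : QuadraticAlgebra F lam 0)

theorem lam_ne_zero' (hlam' : ∀ r : F, r ^ 2 ≠ lam + 0 * r) : lam ≠ 0 := by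
  intro h
  apply hlam' 0
  rw [h]
  ring

/-- the scalar multiplication by `E` in terms of `ω` -/
theorem E_smul (z : EE) (v : V) : z • v = z.re • v + z.im • (om • v) := by
  conv_lhs => rw [← QuadraticAlgebra.mk_eta z, QuadraticAlgebra.mk_eq_add_smul_omega]
  rw [add_smul, algebraMap_smul, smul_assoc]

theorem om_om_smul (v : V) : om • (om • v) = lam • v := by
  rw [smul_smul, QuadraticAlgebra.omega_mul_omega_eq_mk, E_smul]
  simp

variable (Q : QuadraticForm F V)

theorem polar_om_om (hQω : ∀ v : V, Q (om • v) = lam * Q v) (u v : V) : polar Q (om • u) (om • v) = lam * polar Q u v := by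
  unfold polar
  rw [← smul_add, hQω, hQω, hQω]
  ring

theorem polar_om_left (hQω : ∀ v : V, Q (om • v) = lam * Q v) (hl : lam ≠ 0) (u v : V) : polar Q (om • u) v = polar Q u (om • v) := by
  have h1 := polar_om_om Q hQω u (om • v)
  rw [om_om_smul, polar_smul_right, smul_eq_mul] at h1
  exact mul_left_cancel₀ hl h1

/-- the `E`-valued form, as a function -/
def q2fun (lam : F) [Module (QuadraticAlgebra F lam 0) V] (Q : QuadraticForm F V) (v : V) :
    QuadraticAlgebra F lam 0 := ⟨2 * lam * Q v, polar Q v ((QuadraticAlgebra.omega : QuadraticAlgebra F lam 0) • v)⟩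

theorem polar_q2fun (hl : lam ≠ 0) (hQω : ∀ v : V, Q (om • v) = lam * Q v) (u v : V) :
    polar (q2fun lam Q) u v = (⟨2 * lam * polar Q u v, 2 * polar Q u (om • v)⟩ : EE) := by
  have h0 : polar (q2fun lam Q) u v = q2fun lam Q (u + v) - q2fun lam Q u - q2fun lam Q v := rfl
  rw [h0]
  unfold q2fun
  ext
  · simp only [QuadraticAlgebra.re_sub]
    unfold polar
    ring
  · simp only [QuadraticAlgebra.im_sub, smul_add, polar_add_left, polar_add_right]
    rw [polar_comm Q v (om • u), polar_om_left Q hQω hl u v]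
    ring

theorem q2fun_smul (hl : lam ≠ 0) (hQω : ∀ v : V, Q (om • v) = lam * Q v) (z : EE) (v : V) :
    q2fun lam Q (z • v) = (z * z) • q2fun lam Q v := by
  have h2 : polar Q v v = 2 * Q v := by
    rw [QuadraticMap.polar_self, nsmul_eq_mul]
    norm_num
  have h3 : om • (z • v) = (lam * z.im) • v + z.re • (om • v) := by
    rw [E_smul z v, smul_add, smul_comm om z.re v, smul_comm om z.im (om • v), om_om_smul,
      smul_smul, add_comm, mul_comm]
  have hww : polar Q (om • v) (om • v) = lam * (2 * Q v) := by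
    rw [polar_om_om Q hQω, h2]
  have hwv : polar Q (om • v) v = polar Q v (om • v) := polar_comm Q _ _
  have hQw := hQω v
  unfold q2fun
  rw [h3, E_smul z v, smul_eq_mul]
  obtain ⟨w, hw⟩ : ∃ w : V, w = om • v := ⟨_, rfl⟩
  rw [← hw] at hww hwv hQw ⊢
  obtain ⟨s, hs⟩ : ∃ s : F, s = z.re := ⟨_, rfl⟩
  obtain ⟨t, ht⟩ : ∃ t : F, t = z.im := ⟨_, rfl⟩
  have hQ1 : Q (s • v + t • w) = s * s * Q v + t * t * (lam * Q v) + s * t * polar Q v w := by
    rw [QuadraticMap.map_add Q, QuadraticMap.map_smul, QuadraticMap.map_smul, polar_smul_left,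
      polar_smul_right, hQw]
    simp only [smul_eq_mul]
    ring
  have hP1 : polar Q (s • v + t • w) ((lam * t) • v + s • w) =
      (s * s + lam * t * t) * polar Q v w + 4 * lam * s * t * Q v := by
    simp only [polar_add_left, polar_add_right, polar_smul_left, polar_smul_right, smul_eq_mul,
      hww, hwv, h2]
    ring
  ext
  · simp only [QuadraticAlgebra.re_mul, QuadraticAlgebra.im_mul, ← hs, ← ht, hQ1]
    ring
  · simp only [QuadraticAlgebra.re_mul, QuadraticAlgebra.im_mul, ← hs, ← ht, hP1]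
    ring

/-- the quadratic form over the quadratic extension -/
noncomputable def Q2 (hl : lam ≠ 0) (hQω : ∀ v : V, Q (om • v) = lam * Q v) :
    QuadraticForm EE V :=
  QuadraticMap.ofPolar (q2fun lam Q) (fun z v => q2fun_smul Q hl hQω z v)
    (fun x x' y => by
      rw [polar_q2fun Q hl hQω, polar_q2fun Q hl hQω, polar_q2fun Q hl hQω]
      ext
      · simp only [QuadraticAlgebra.re_add, polar_add_left]
        ring
      · simp only [QuadraticAlgebra.im_add, polar_add_left]
        ring)
    (fun z x y => by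
      rw [polar_q2fun Q hl hQω, polar_q2fun Q hl hQω, E_smul z x, smul_eq_mul]
      ext
      · simp only [QuadraticAlgebra.re_mul, polar_add_left, polar_smul_left, smul_eq_mul,
          polar_om_left Q hQω hl]
        ring
      · simp only [QuadraticAlgebra.im_mul, polar_add_left, polar_smul_left, smul_eq_mul,
          polar_om_om Q hQω]
        ring)

theorem Q2_apply (hl : lam ≠ 0) (hQω : ∀ v : V, Q (om • v) = lam * Q v) (v : V) :
    Q2 Q hl hQω v = (⟨2 * lam * Q v, polar Q v (om • v)⟩ : EE) := rfl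

theorem polar_Q2 (hl : lam ≠ 0) (hQω : ∀ v : V, Q (om • v) = lam * Q v) (u v : V) :
    polar (Q2 Q hl hQω) u v = (⟨2 * lam * polar Q u v, 2 * polar Q u (om • v)⟩ : EE) :=
  polar_q2fun Q hl hQω u v

theorem Q2_eq_zero_iff (h2 : (2 : F) ≠ 0) (hl : lam ≠ 0)
    (hQω : ∀ v : V, Q (om • v) = lam * Q v) (v : V) :
    Q2 Q hl hQω v = 0 ↔ Q v = 0 ∧ polar Q v (om • v) = 0 := by
  rw [Q2_apply, QuadraticAlgebra.ext_iff]
  simp only [QuadraticAlgebra.re_zero, QuadraticAlgebra.im_zero]
  constructor
  · rintro ⟨h1, h3⟩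
    refine ⟨?_, h3⟩
    rcases mul_eq_zero.mp h1 with h | h
    · rcases mul_eq_zero.mp h with h' | h'
      · exact absurd h' h2
      · exact absurd h' hl
    · exact h
  · rintro ⟨h1, h3⟩
    rw [h1, h3, mul_zero]
    exact ⟨rfl, rfl⟩

theorem polar_Q2_eq_zero_iff (h2 : (2 : F) ≠ 0) (hl : lam ≠ 0)
    (hQω : ∀ v : V, Q (om • v) = lam * Q v) (u v : V) :
    polar (Q2 Q hl hQω) u v = 0 ↔ polar Q u v = 0 ∧ polar Q u (om • v) = 0 := by
  rw [polar_Q2, QuadraticAlgebra.ext_iff]
  simp only [QuadraticAlgebra.re_zero, QuadraticAlgebra.im_zero]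
  constructor
  · rintro ⟨h1, h3⟩
    constructor
    · rcases mul_eq_zero.mp h1 with h | h
      · rcases mul_eq_zero.mp h with h' | h'
        · exact absurd h' h2
        · exact absurd h' hl
      · exact h
    · rcases mul_eq_zero.mp h3 with h | h
      · exact absurd h h2
      · exact h
  · rintro ⟨h1, h3⟩
    rw [h1, h3, mul_zero, mul_zero]
    exact ⟨rfl, rfl⟩

section fld
variable [hlam : Fact (∀ r : F, r ^ 2 ≠ lam + 0 * r)]

theorem nd_Q2 (h2 : (2 : F) ≠ 0) (hl : lam ≠ 0) (hQω : ∀ v : V, Q (om • v) = lam * Q v)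
    (hQ : ND Q) : ND (Q2 Q hl hQω) := by
  intro z hz
  apply hQ z
  intro z'
  exact ((polar_Q2_eq_zero_iff Q h2 hl hQω z z').mp (hz z')).1

/-- an isometry of the form over the extension is an isometry of the original form -/
theorem isom_of_Q2 (h2 : (2 : F) ≠ 0) (hl : lam ≠ 0) (hQω : ∀ v : V, Q (om • v) = lam * Q v)
    (x y : V) (h : Q2 Q hl hQω x = Q2 Q hl hQω y) : Q x = Q y := by
  rw [Q2_apply, Q2_apply, QuadraticAlgebra.ext_iff] at h
  have h1 : 2 * lam * Q x = 2 * lam * Q y := h.1
  exact mul_left_cancel₀ (mul_ne_zero h2 hl) h1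

theorem finrank_E_mul [Module.Finite F V] :
    2 * finrank EE V = finrank F V := by
  have : Module.Finite EE V := Module.Finite.right F EE V
  rw [← Module.finrank_mul_finrank F EE V, QuadraticAlgebra.finrank_eq_two]

end fld

end Cfsg.Agent.Lib.Helper9.ALC
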