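import Mathlib
import Cfsg.Prelude
import Cfsg.Agent.Lib.Helper9.ALC8

set_option autoImplicit false
set_option linter.unusedSectionVars false
set_option linter.unusedVariables false
set_option linter.style.longLine false
set_option linter.unusedSimpArgs false
open Cfsg

namespace Cfsg.Agent.Lib.Helper9.ALC

/-! The Eichler transformations of the form over the quadratic extension are products of Eichler
transformations of the original form. -/

open Module QuadraticMap Cfsg.Agent.Lib.Helper5.QuadIsom Cfsg.Agent.Lib.Helper5.ReflGen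
  Cfsg.Agent.Lib.Helper5.SingGeom Cfsg.Agent.Lib.Helper5

universe u v
variable {F : Type u} [Field F] {lam : F}
  {V : Type v} [AddCommGroup V] [Module F V] [Module (QuadraticAlgebra F lam 0) V]
  [IsScalarTower F (QuadraticAlgebra F lam 0) V] [hlam : Fact (∀ r : F, r ^ 2 ≠ lam + 0 * r)]

local notation "EE" => QuadraticAlgebra F lam 0
local notation "om" => (QuadraticAlgebra.omega : QuadraticAlgebra F lam 0)

variable (Q : QuadraticForm F V)

theorem quad_two (u v : V) (α β : F) :
    Q (α • u + β • v) = α * α * Q u + β * β * Q v + α * β * polar Q u v := by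
  rw [QuadraticMap.map_add Q, QuadraticMap.map_smul, QuadraticMap.map_smul, polar_smul_left,
    polar_smul_right]
  simp only [smul_eq_mul]
  ring

theorem eichlerMap_Q2 (hl : lam ≠ 0) (hQω : ∀ v : V, Q (om • v) = lam * Q v) (u z x : V)
    (hu : Q u = 0) (huu : polar Q u (om • u) = 0) (huz : polar Q u z = 0)
    (huz' : polar Q u (om • z) = 0) :
    eichlerMap (Q2 Q hl hQω) u z x =
      eichlerMap Q u ((2 * lam) • z + (-(2 * lam * polar Q z (om • z))) • (om • u))
        (eichlerMap Q (om • u) ((2 : F) • (om • z)) x) := by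
  have hl2 : polar Q u u = 0 := polar_self_of_sing Q u hu
  have e1 : polar Q (om • u) x = polar Q u (om • x) := polar_om_left Q hQω hl u x
  have e2 : polar Q (om • z) x = polar Q z (om • x) := polar_om_left Q hQω hl z x
  have e3 : polar Q (om • u) (om • z) = 0 := by rw [polar_om_om Q hQω, huz, mul_zero]
  have e4 : polar Q (om • u) (om • u) = 0 := by rw [polar_om_om Q hQω, hl2, mul_zero]
  have e8 : polar Q (om • u) z = 0 := by rw [polar_om_left Q hQω hl]; exact huz'
  have e5 : polar Q z (om • u) = 0 := by rw [polar_comm]; exact e8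
  have e6 : Q (om • u) = 0 := by rw [hQω, hu, mul_zero]
  have e7 : Q (om • z) = lam * Q z := hQω z
  have e9 : polar Q (om • u) u = 0 := by rw [polar_comm]; exact huu
  rw [eichlerMap_apply, eichlerMap_apply, eichlerMap_apply, polar_Q2, polar_Q2, Q2_apply]
  obtain ⟨ωu, hωu⟩ : ∃ w : V, w = om • u := ⟨_, rfl⟩
  obtain ⟨ωz, hωz⟩ : ∃ w : V, w = om • z := ⟨_, rfl⟩
  obtain ⟨ωx, hωx⟩ : ∃ w : V, w = om • x := ⟨_, rfl⟩
  simp only [← hωu, ← hωz, ← hωx] at e1 e2 e3 e4 e5 e6 e7 e8 e9 huu huz' ⊢
  rw [E_smul _ z, E_smul _ u]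
  simp only [← hωu, ← hωz]
  simp only [polar_add_right, polar_add_left, polar_smul_right, polar_smul_left, polar_neg_right,
    quad_two, QuadraticMap.map_smul, smul_eq_mul, QuadraticAlgebra.re_neg,
    QuadraticAlgebra.im_neg, QuadraticAlgebra.re_add, QuadraticAlgebra.im_add,
    QuadraticAlgebra.re_mul, QuadraticAlgebra.im_mul, e1, e2, e3, e4, e5, e6, e7, e8, e9, hu,
    huu, huz, huz', hl2]
  module

end Cfsg.Agent.Lib.Helper9.ALC
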