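import Mathlib
import Cfsg.Prelude
import Cfsg.Agent.Lib.Helper9.ALC9
import Cfsg.Agent.Lib.Helper9.ALC7

set_option autoImplicit false
set_option linter.unusedSectionVars false
set_option linter.unusedVariables false
set_option linter.style.longLine false
set_option linter.unusedSimpArgs false
open Cfsg

namespace Cfsg.Agent.Lib.Helper9.ALC

/-! Local balance for a graph involution of type (II): a similarity `ω` with `ω² = λ` a
non-square and multiplier `λ`.  The engine hypotheses over the quadratic extension. -/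

open Module Matrix QuadraticMap Cfsg.Agent.Lib.Helper5.CartanDieudonne Cfsg.Agent.Lib.Helper5.Refl
  Cfsg.Agent.Lib.Helper5.OrthCard Cfsg.Agent.Lib.Helper5.Siegel Cfsg.Agent.Lib.Helper5.QuadIsom
  Cfsg.Agent.Lib.Helper5.ReflGen Cfsg.Agent.Lib.Helper5.Eichler Cfsg.Agent.Lib.Helper5.SingGeom
  Cfsg.Agent.Lib.Helper5.OmegaGen Cfsg.Agent.Lib.Helper5.OmegaSimple
  Cfsg.Agent.Lib.Helper9.AOR Cfsg.Agent.Lib.Helper9.AOF Cfsg.Agent.Lib.Helper5
open scoped Pointwise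
open Cfsg.Agent.Lib.Helper5.OAut Cfsg.Agent.Lib.Helper5.SpinorHyp

variable {ι : Type} [Fintype ι] [DecidableEq ι] {F : Type*} [Field F] [Fintype F]
  {Q : QuadraticForm F (ι → F)} {lam : F}
  [Module (QuadraticAlgebra F lam 0) (ι → F)] [IsScalarTower F (QuadraticAlgebra F lam 0) (ι → F)]

local notation "EE" => QuadraticAlgebra F lam 0
local notation "om" => (QuadraticAlgebra.omega : QuadraticAlgebra F lam 0)

/-- the twisted field automorphism of `E` -/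
def tw (lam : F) (τ : F ≃+* F) (t₀ : F) (α : QuadraticAlgebra F lam 0) : QuadraticAlgebra F lam 0 :=
  ⟨τ α.re, τ α.im * t₀⟩

/-- its inverse -/
def twinv (lam : F) (τ : F ≃+* F) (t₀ : F) (β : QuadraticAlgebra F lam 0) :
    QuadraticAlgebra F lam 0 :=
  ⟨τ.symm β.re, τ.symm (β.im * t₀⁻¹)⟩

omit [Fintype F] in
theorem tw_twinv (τ : F ≃+* F) (t₀ : F) (ht₀ : t₀ ≠ 0) (β : EE) :
    tw lam τ t₀ (twinv lam τ t₀ β) = β := by
  unfold tw twinv
  ext
  · simp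
  · simp only [RingEquiv.apply_symm_apply]
    rw [mul_assoc, inv_mul_cancel₀ ht₀, mul_one]

omit [Fintype F] in
theorem tw_eq_zero_iff (τ : F ≃+* F) (t₀ : F) (ht₀ : t₀ ≠ 0) (α : EE) :
    tw lam τ t₀ α = 0 ↔ α = 0 := by
  unfold tw
  rw [QuadraticAlgebra.ext_iff, QuadraticAlgebra.ext_iff]
  simp only [QuadraticAlgebra.re_zero, QuadraticAlgebra.im_zero]
  constructor
  · rintro ⟨h1, h3⟩
    refine ⟨(map_eq_zero τ).mp h1, ?_⟩
    rcases mul_eq_zero.mp h3 with h | h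
    · exact (map_eq_zero τ).mp h
    · exact absurd h ht₀
  · rintro ⟨h1, h3⟩
    rw [h1, h3, map_zero, zero_mul]
    exact ⟨rfl, rfl⟩

omit [Fintype F] in
/-- a semilinear map commuting with `ω` up to a scalar is semilinear over `E` -/
theorem sm_E_smul (M : Matrix ι ι F) (hω : ∀ v : ι → F, om • v = M *ᵥ v)
    (g : Matrix.GeneralLinearGroup ι F) (τ : F ≃+* F) (t₀ : F)
    (hcomm : ∀ v, sm g τ (M *ᵥ v) = t₀ • (M *ᵥ sm g τ v)) (α : EE) (v : ι → F) :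
    sm g τ (α • v) = tw lam τ t₀ α • sm g τ v := by
  rw [E_smul α v, E_smul (tw lam τ t₀ α), sm_add, sm_smul, sm_smul, hω, hcomm, hω, smul_smul]
  rfl

/-- the set of Eichler groups of the `F`-points of an `E`-point -/
def ptE (Q : QuadraticForm F (ι → F)) (lam : F) [Module (QuadraticAlgebra F lam 0) (ι → F)]
    (v : ι → F) : Set (Subgroup (POmega F ⇑Q)) :=
  {S | ∃ α : QuadraticAlgebra F lam 0, α ≠ 0 ∧ S = QBT Q (α • v)}

section fld
variable [hlam : Fact (∀ r : F, r ^ 2 ≠ lam + 0 * r)]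

omit [Fintype F] in
theorem quad_E_smul_zero (h2 : (2 : F) ≠ 0) (hl : lam ≠ 0)
    (hQω : ∀ v : ι → F, Q (om • v) = lam * Q v) (v : ι → F) (hv : Q2 Q hl hQω v = 0) (α : EE) :
    Q2 Q hl hQω (α • v) = 0 ∧ Q (α • v) = 0 := by
  have h1 : Q2 Q hl hQω (α • v) = 0 := by
    rw [QuadraticMap.map_smul, hv, smul_zero]
  exact ⟨h1, ((Q2_eq_zero_iff Q h2 hl hQω _).mp h1).1⟩

/-- two singular `E`-points have the same set of Eichler groups iff they are equal -/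
theorem ptE_eq_iff (r : ℕ) [Fact r.Prime] [CharP F r] (H : Hyp Q) (h2 : (2 : F) ≠ 0)
    (hl : lam ≠ 0) (hQω : ∀ v : ι → F, Q (om • v) = lam * Q v) (v v' : ι → F) (hv0 : v ≠ 0)
    (hv'0 : v' ≠ 0) (hv : Q2 Q hl hQω v = 0) (hv' : Q2 Q hl hQω v' = 0) :
    ptE Q lam v = ptE Q lam v' ↔ ∃ t : EE, v' = t • v := by
  constructor
  · intro h
    have h1 : QBT Q v' ∈ ptE Q lam v' := ⟨1, one_ne_zero, by rw [one_smul]⟩
    rw [← h] at h1
    obtain ⟨α, hα, hS⟩ := h1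
    have hαv0 : α • v ≠ 0 := smul_ne_zero hα hv0
    have hQαv := (quad_E_smul_zero h2 hl hQω v hv α).2
    have hQv' := ((Q2_eq_zero_iff Q h2 hl hQω _).mp hv').1
    obtain ⟨t, ht⟩ := (QBT_eq_iff r H (α • v) v' hαv0 hv'0 hQαv hQv').mp hS.symm
    exact ⟨t • α, by rw [ht, smul_assoc]⟩
  · rintro ⟨t, rfl⟩
    have ht0 : t ≠ 0 := by
      rintro rfl
      rw [zero_smul] at hv'0
      exact hv'0 rfl
    ext S
    constructor
    · rintro ⟨α, hα, rfl⟩
      refine ⟨α * t⁻¹, mul_ne_zero hα (inv_ne_zero ht0), ?_⟩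
      rw [smul_smul, mul_assoc, inv_mul_cancel₀ ht0, mul_one]
    · rintro ⟨α, hα, rfl⟩
      exact ⟨α * t, mul_ne_zero hα ht0, by rw [smul_smul]⟩

/-- the action of an automorphism commuting with `ω` up to a scalar on the `E`-points -/
theorem smul_ptE_semiAut (H : Hyp Q) (h2 : (2 : F) ≠ 0) (hl : lam ≠ 0)
    (hQω : ∀ v : ι → F, Q (om • v) = lam * Q v) (M : Matrix ι ι F)
    (hω : ∀ v : ι → F, om • v = M *ᵥ v)
    (g : Matrix.GeneralLinearGroup ι F) (τ : F ≃+* F) (c : F) (hc : c ≠ 0)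
    (hg : ∀ v, Q (sm g τ v) = c * τ (Q v)) (t₀ : F) (ht₀ : t₀ ≠ 0)
    (hcomm : ∀ v, sm g τ (M *ᵥ v) = t₀ • (M *ᵥ sm g τ v)) (v : ι → F)
    (hv : Q2 Q hl hQω v = 0) :
    semiAut g τ c hg • ptE Q lam v = ptE Q lam (sm g τ v) := by
  ext S
  rw [Set.mem_smul_set]
  constructor
  · rintro ⟨S', ⟨α, hα, rfl⟩, rfl⟩
    refine ⟨tw lam τ t₀ α, fun h => hα ((tw_eq_zero_iff τ t₀ ht₀ α).mp h), ?_⟩
    rw [smul_QBT_semiAut H g τ c hg hc _ (quad_E_smul_zero h2 hl hQω v hv α).2,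
      sm_E_smul M hω g τ t₀ hcomm]
  · rintro ⟨β, hβ, rfl⟩
    have hα : twinv lam τ t₀ β ≠ 0 := by
      intro h
      apply hβ
      rw [← tw_twinv τ t₀ ht₀ β, h]
      exact (tw_eq_zero_iff τ t₀ ht₀ 0).mpr rfl
    refine ⟨QBT Q (twinv lam τ t₀ β • v), ⟨_, hα, rfl⟩, ?_⟩
    rw [smul_QBT_semiAut H g τ c hg hc _ (quad_E_smul_zero h2 hl hQω v hv _).2,
      sm_E_smul M hω g τ t₀ hcomm, tw_twinv τ t₀ ht₀]


/-- the Eichler transformations over `E` belong to `Ω` and commute with `ω` -/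
theorem exists_eichE (H : Hyp Q) (h2 : (2 : F) ≠ 0) (hl : lam ≠ 0)
    (hQω : ∀ v : ι → F, Q (om • v) = lam * Q v)
    (k₀ : ↥(Geo.quadSimilarityGroup (F := F) ⇑Q))
    (hω : ∀ v : ι → F, om • v = ((k₀ : Matrix.GeneralLinearGroup ι F) : Matrix ι ι F) *ᵥ v)
    (u z : ι → F) (hu : Q2 Q hl hQω u = 0) (huz : polar (Q2 Q hl hQω) u z = 0) :
    ∃ s : ↥(Omega F ⇑Q), (∀ x, act Q s.1 x = eichlerMap (Q2 Q hl hQω) u z x) ∧
      conjGO Q k₀ (pr Q s) = pr Q s := by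
  obtain ⟨hu1, hu2⟩ := (Q2_eq_zero_iff Q h2 hl hQω u).mp hu
  obtain ⟨huz1, huz2⟩ := (polar_Q2_eq_zero_iff Q h2 hl hQω u z).mp huz
  have hy1 : polar ⇑Q u ((2 * lam) • z + (-(2 * lam * polar ⇑Q z (om • z))) • (om • u)) = 0 := by
    rw [polar_add_right, polar_smul_right, polar_smul_right, huz1, hu2, smul_zero, smul_zero,
      add_zero]
  have hωu : Q (om • u) = 0 := by rw [hQω, hu1, mul_zero]
  have hy2 : polar ⇑Q (om • u) ((2 : F) • (om • z)) = 0 := by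
    rw [polar_smul_right, polar_om_om Q hQω, huz1, mul_zero, smul_zero]
  obtain ⟨s, hs⟩ : ∃ s : ↥(Omega F ⇑Q), s = eo H u _ hu1 hy1 * eo H (om • u) _ hωu hy2 := ⟨_, rfl⟩
  have hact : ∀ x, act Q s.1 x = eichlerMap (Q2 Q hl hQω) u z x := by
    intro x
    rw [hs, Subgroup.coe_mul, act_mul, eo_val, eo_val, act_eich, act_eich,
      eichlerMap_Q2 Q hl hQω u z x hu1 hu2 huz1 huz2]
  refine ⟨s, hact, ?_⟩
  show conjGO Q k₀ (QuotientGroup.mk s) = QuotientGroup.mk s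
  rw [conjGO_mk]
  congr 1
  apply Subtype.ext
  apply Subtype.ext
  rw [conjGO_coe]
  have h1 : (k₀ : Matrix.GeneralLinearGroup ι F) * (s.1 : Matrix.GeneralLinearGroup ι F) =
      (s.1 : Matrix.GeneralLinearGroup ι F) * (k₀ : Matrix.GeneralLinearGroup ι F) := by
    apply Units.ext
    rw [Units.val_mul, Units.val_mul, ext_iff_mulVec]
    intro v
    rw [← Matrix.mulVec_mulVec, ← Matrix.mulVec_mulVec]
    have e1 := hact v
    have e2 := hact (((k₀ : Matrix.GeneralLinearGroup ι F) : Matrix ι ι F) *ᵥ v)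
    unfold act at e1 e2
    rw [e1, e2, ← hω, ← hω, LinearMap.map_smul]
  rw [h1, mul_inv_cancel_right]

/-- finiteness of the quadratic extension -/
noncomputable instance fintypeQA : Fintype (QuadraticAlgebra F lam 0) :=
  Fintype.ofEquiv _ (QuadraticAlgebra.equivProd lam 0).symm

/-- the hypotheses of the engine over the quadratic extension -/
theorem engineHyp_E (r : ℕ) [Fact r.Prime] [CharP F r] (H : Hyp Q) (h2 : (2 : F) ≠ 0)
    (hQ : (polarBilin Q).Nondegenerate) (hl : lam ≠ 0)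
    (hQω : ∀ v : ι → F, Q (om • v) = lam * Q v)
    (k₀ : ↥(Geo.quadSimilarityGroup (F := F) ⇑Q))
    (hω : ∀ v : ι → F, om • v = ((k₀ : Matrix.GeneralLinearGroup ι F) : Matrix ι ι F) *ᵥ v)
    (A : Subgroup (MulAut (POmega F ⇑Q))) (hinn : ∀ k : POmega F ⇑Q, MulAut.conj k ∈ A)
    (N : Subgroup (MulAut (POmega F ⇑Q)))
    (hNle : N ≤ A ⊓ Subgroup.centralizer {conjGO Q k₀})
    (hNn : ∀ c ∈ A ⊓ Subgroup.centralizer {conjGO Q k₀}, ∀ n ∈ N, c * n * c⁻¹ ∈ N)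
    (hodd : Odd (Nat.card ↥N))
    (hrep : ∀ y ∈ N, ∃ (g : Matrix.GeneralLinearGroup ι F) (τ : F ≃+* F) (c : F) (_ : c ≠ 0)
      (hg : ∀ v, Q (sm g τ v) = c * τ (Q v)) (t₀ : F) (_ : t₀ ≠ 0), y = semiAut g τ c hg ∧
        ∀ v, sm g τ (((k₀ : Matrix.GeneralLinearGroup ι F) : Matrix ι ι F) *ᵥ v) =
          t₀ • (((k₀ : Matrix.GeneralLinearGroup ι F) : Matrix ι ι F) *ᵥ sm g τ v))
    (hdim : finrank EE (ι → F) = 3 ∨ 5 ≤ finrank EE (ι → F)) :
    EngineHyp (Q2 Q hl hQω) (A ⊓ Subgroup.centralizer {conjGO Q k₀}) N (ptE Q lam) := by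
  have hfinK : Finite (POmega F ⇑Q) := inferInstance
  have hfinA : Finite (MulAut (POmega F ⇑Q)) :=
    Finite.of_injective (fun e : MulAut (POmega F ⇑Q) => (e : POmega F ⇑Q → POmega F ⇑Q))
      DFunLike.coe_injective
  have h2E : (2 : EE) ≠ 0 := by
    intro h
    apply h2
    have h3 := congrArg QuadraticAlgebra.re h
    rw [QuadraticAlgebra.re_ofNat, QuadraticAlgebra.re_zero] at h3
    exact h3
  have hND : ND Q := fun z hz => hQ.1 z (fun y => by rw [polarBilin_apply_apply]; exact hz y)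
  refine ⟨h2E, nd_Q2 Q h2 hl hQω hND, hdim, inferInstance, hNle, hNn, hodd, ?_, ?_, ?_⟩
  · intro v v' hv0 hv'0 hv hv'
    exact ptE_eq_iff r H h2 hl hQω v v' hv0 hv'0 hv hv'
  · intro c hcN v hv0 hv
    obtain ⟨g, τ, c₀, hc₀, hg, t₀, ht₀, rfl, hcomm⟩ := hrep c hcN
    have hTv0 : sm g τ v ≠ 0 := by
      intro h
      rw [← sm_zero g τ] at h
      exact hv0 (sm_injective g τ h)
    obtain ⟨hv1, hv2⟩ := (Q2_eq_zero_iff Q h2 hl hQω v).mp hv
    refine ⟨sm g τ v, hTv0, ?_, smul_ptE_semiAut H h2 hl hQω _ hω g τ c₀ hc₀ hg t₀ ht₀ hcomm v hv⟩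
    rw [Q2_eq_zero_iff Q h2 hl hQω]
    constructor
    · rw [hg, hv1, map_zero, mul_zero]
    · have h3 := polar_sm g τ c₀ hg v (om • v)
      rw [hv2, map_zero, mul_zero, hω, hcomm, polar_smul_right, ← hω] at h3
      rcases smul_eq_zero.mp h3 with h | h
      · exact absurd h ht₀
      · exact h
  · intro u z hu0 hu huz
    obtain ⟨s, hact, hfix⟩ := exists_eichE H h2 hl hQω k₀ hω u z hu huz
    refine ⟨MulAut.conj (pr Q s), conj_mem_cent A hinn _ _ hfix, ?_⟩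
    intro v hv0 hv
    ext S
    rw [Set.mem_smul_set]
    constructor
    · rintro ⟨S', ⟨α, hα, rfl⟩, rfl⟩
      refine ⟨α, hα, ?_⟩
      rw [conj_QBT _ _ (quad_E_smul_zero h2 hl hQω v hv α).2, hact, LinearMap.map_smul]
    · rintro ⟨α, hα, rfl⟩
      refine ⟨QBT Q (α • v), ⟨α, hα, rfl⟩, ?_⟩
      rw [conj_QBT _ _ (quad_E_smul_zero h2 hl hQω v hv α).2, hact, LinearMap.map_smul]

end fld

end Cfsg.Agent.Lib.Helper9.ALC
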