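import Mathlib
import Cfsg.Prelude
import Cfsg.Agent.Lib.Helper9.ALC10

set_option autoImplicit false
set_option linter.unusedSectionVars false
set_option linter.unusedVariables false
set_option linter.style.longLine false
set_option linter.unusedSimpArgs false
open Cfsg

namespace Cfsg.Agent.Lib.Helper9.ALC

/-! Local balance for a graph involution of type (II): the conclusion. -/

open Module Matrix QuadraticMap Cfsg.Agent.Lib.Helper5.CartanDieudonne Cfsg.Agent.Lib.Helper5.Refl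
  Cfsg.Agent.Lib.Helper5.OrthCard Cfsg.Agent.Lib.Helper5.Siegel Cfsg.Agent.Lib.Helper5.QuadIsom
  Cfsg.Agent.Lib.Helper5.ReflGen Cfsg.Agent.Lib.Helper5.Eichler Cfsg.Agent.Lib.Helper5.SingGeom
  Cfsg.Agent.Lib.Helper5.OmegaGen Cfsg.Agent.Lib.Helper5.OmegaSimple
  Cfsg.Agent.Lib.Helper9.AOR Cfsg.Agent.Lib.Helper9.AOF Cfsg.Agent.Lib.Helper5
open scoped Pointwise
open Cfsg.Agent.Lib.Helper5.OAut Cfsg.Agent.Lib.Helper5.SpinorHyp

variable {ι : Type} [Fintype ι] [DecidableEq ι] {F : Type*} [Field F] [Fintype F]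
  {Q : QuadraticForm F (ι → F)} {i : ℕ} {α β : Fin i → ι}

/-- an element of a subgroup of odd order induced by a linear similarity whose square is a
scalar is trivial -/
theorem eq_one_of_sq_scalar (g : Matrix.GeneralLinearGroup ι F) (τ : F ≃+* F)
    (hτ : ∀ s, τ s = s) (c : F) (hg : ∀ v, Q (sm g τ v) = c * τ (Q v))
    (hTT : ∀ v, sm g τ (sm g τ v) = c • v) (N : Subgroup (MulAut (POmega F ⇑Q)))
    (hy : semiAut g τ c hg ∈ N) (hodd : Odd (Nat.card ↥N)) : semiAut g τ c hg = 1 := by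
  have hτr : τ = RingEquiv.refl F := RingEquiv.ext hτ
  subst hτr
  have hyy : semiAut g (RingEquiv.refl F) c hg * semiAut g (RingEquiv.refl F) c hg = 1 := by
    rw [semiAut_mul]
    have e2 : (RingEquiv.refl F).trans (RingEquiv.refl F) = RingEquiv.refl F := by
      ext x
      rfl
    have hg2 : ∀ v, Q (sm (g * Matrix.GeneralLinearGroup.map
        ((RingEquiv.refl F : F ≃+* F) : F →+* F) g) (RingEquiv.refl F) v) =
        (c * (RingEquiv.refl F) c) * (RingEquiv.refl F) (Q v) := by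
      intro v
      have := quad_sm_comp g g (RingEquiv.refl F) (RingEquiv.refl F) c c hg hg v
      rw [e2] at this
      exact this
    rw [semiAut_congr rfl e2 rfl _ hg2]
    apply semiAut_eq_one_of_scalar _ _ hg2 c
    rw [ext_iff_mulVec]
    intro v
    have h3 := sm_comp g g (RingEquiv.refl F) (RingEquiv.refl F) v
    rw [hTT] at h3
    rw [Matrix.smul_mulVec, Matrix.one_mulVec, ← h3]
    rfl
  have ho2 : orderOf (semiAut g (RingEquiv.refl F) c hg) ∣ 2 :=
    orderOf_dvd_of_pow_eq_one (by rw [pow_two]; exact hyy)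
  have hoN : orderOf (semiAut g (RingEquiv.refl F) c hg) ∣ Nat.card ↥N :=
    Subgroup.orderOf_dvd_natCard N hy
  have ho1 : orderOf (semiAut g (RingEquiv.refl F) c hg) = 1 := by
    rcases (Nat.dvd_prime Nat.prime_two).mp ho2 with h | h
    · exact h
    · exfalso
      rw [h] at hoN
      obtain ⟨a, ha⟩ := hodd
      omega
  exact orderOf_eq_one_iff.mp ho1

section fld
variable {lam : F}
  [Module (QuadraticAlgebra F lam 0) (ι → F)] [IsScalarTower F (QuadraticAlgebra F lam 0) (ι → F)]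
  [hlam : Fact (∀ r : F, r ^ 2 ≠ lam + 0 * r)]

local notation "EE" => QuadraticAlgebra F lam 0
local notation "om" => (QuadraticAlgebra.omega : QuadraticAlgebra F lam 0)

omit [Fintype F] in
/-- the determinant of `ω` -/
theorem det_om (M : Matrix ι ι F) (hω : ∀ v : ι → F, om • v = M *ᵥ v) :
    M.det = (-lam) ^ finrank EE (ι → F) := by
  have h1 : Matrix.toLin' M =
      ((om • (LinearMap.id : (ι → F) →ₗ[EE] (ι → F))).restrictScalars F) := by
    apply LinearMap.ext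
    intro v
    rw [Matrix.toLin'_apply, ← hω]
    rfl
  rw [← LinearMap.det_toLin', h1, LinearMap.det_restrictScalars, LinearMap.det_smul,
    LinearMap.det_id, mul_one, map_pow]
  congr 1
  rw [Algebra.norm_apply]
  have h3 : Algebra.lmul F EE om = DistribSMul.toLinearMap F EE om := by
    apply LinearMap.ext
    intro w
    rfl
  rw [h3, QuadraticAlgebra.det_toLinearMap_eq_norm, QuadraticAlgebra.norm_def]
  simp


theorem Q2_sm_zero (h2 : (2 : F) ≠ 0) (hl : lam ≠ 0)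
    (hQω : ∀ v : ι → F, Q (om • v) = lam * Q v) (M : Matrix ι ι F)
    (hω : ∀ v : ι → F, om • v = M *ᵥ v)
    (g : Matrix.GeneralLinearGroup ι F) (τ : F ≃+* F) (c : F)
    (hg : ∀ v, Q (sm g τ v) = c * τ (Q v)) (t₀ : F) (ht₀ : t₀ ≠ 0)
    (hcomm : ∀ v, sm g τ (M *ᵥ v) = t₀ • (M *ᵥ sm g τ v)) (v : ι → F)
    (hv : Q2 Q hl hQω v = 0) : Q2 Q hl hQω (sm g τ v) = 0 := by
  obtain ⟨hv1, hv2⟩ := (Q2_eq_zero_iff Q h2 hl hQω v).mp hv
  rw [Q2_eq_zero_iff Q h2 hl hQω]
  constructor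
  · rw [hg, hv1, map_zero, mul_zero]
  · have h3 := polar_sm g τ c hg v (om • v)
    rw [hv2, map_zero, mul_zero, hω, hcomm, polar_smul_right, ← hω] at h3
    rcases smul_eq_zero.mp h3 with h | h
    · exact absurd h ht₀
    · exact h

/-- **type (II)**, over the quadratic extension -/
theorem typeII_core (r : ℕ) [Fact r.Prime] [CharP F r] (h2 : (2 : F) ≠ 0)
    (hQ : (polarBilin Q).Nondegenerate) (hfam : IsHypFamily Q α β)
    (hi : 3 ≤ i) (h5 : 5 ≤ Fintype.card ι) {w₀ : ι → F} (hw₀ : Q w₀ = 1)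
    (hγ : gammaPOmega F ⇑Q = ⊤) (hl : lam ≠ 0)
    (hQω : ∀ v : ι → F, Q (om • v) = lam * Q v)
    (k₀ : ↥(Geo.quadSimilarityGroup (F := F) ⇑Q))
    (hω : ∀ v : ι → F, om • v = ((k₀ : Matrix.GeneralLinearGroup ι F) : Matrix ι ι F) *ᵥ v)
    (hdim : finrank EE (ι → F) = 3 ∨ 5 ≤ finrank EE (ι → F))
    (A : Subgroup (MulAut (POmega F ⇑Q))) (hinn : ∀ k : POmega F ⇑Q, MulAut.conj k ∈ A)
    (N : Subgroup (MulAut (POmega F ⇑Q)))
    (hNle : N ≤ A ⊓ Subgroup.centralizer {conjGO Q k₀})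
    (hNn : ∀ c ∈ A ⊓ Subgroup.centralizer {conjGO Q k₀}, ∀ n ∈ N, c * n * c⁻¹ ∈ N)
    (hodd : Odd (Nat.card ↥N)) : N = ⊥ := by
  have H := Hyp.of_hypFamily hQ hfam hi h5
  have hrep : ∀ y ∈ N, ∃ (g : Matrix.GeneralLinearGroup ι F) (τ : F ≃+* F) (c : F) (_ : c ≠ 0)
      (hg : ∀ v, Q (sm g τ v) = c * τ (Q v)) (t₀ : F) (_ : t₀ ≠ 0), y = semiAut g τ c hg ∧
        ∀ v, sm g τ (((k₀ : Matrix.GeneralLinearGroup ι F) : Matrix ι ι F) *ᵥ v) =
          t₀ • (((k₀ : Matrix.GeneralLinearGroup ι F) : Matrix ι ι F) *ᵥ sm g τ v) := by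
    intro y hy
    obtain ⟨τ, g, c, hc, hg, hyr⟩ := SR_total hγ y
    have hcomm : semiAut g τ c hg * conjGO Q k₀ = conjGO Q k₀ * semiAut g τ c hg := by
      rw [← hyr]
      exact (Subgroup.mem_centralizer_iff.mp (Subgroup.mem_inf.mp (hNle hy)).2 (conjGO Q k₀)
        (Set.mem_singleton _)).symm
    obtain ⟨t, ht0, ht⟩ := comm_rep hQ hfam hi h5 hw₀ k₀ g τ c hc hg hcomm
    exact ⟨g, τ, c, hc, hg, t, ht0, hyr, ht⟩
  have EH := engineHyp_E r H h2 hQ hl hQω k₀ hω A hinn N hNle hNn hodd hrep hdim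
  rw [Subgroup.eq_bot_iff_forall]
  intro y hy
  obtain ⟨g, τ, c, hc, hg, t₀, ht₀, rfl, hcomm⟩ := hrep y hy
  have hfixpt := engine EH (semiAut g τ c hg) hy
  have hND : ND Q := fun z hz => hQ.1 z (fun y => by rw [polarBilin_apply_apply]; exact hz y)
  have hND2 := nd_Q2 Q h2 hl hQω hND
  have h3 : 3 ≤ finrank EE (ι → F) := by rcases hdim with h | h <;> omega
  haveI : Module.Finite EE (ι → F) := Module.Finite.right F EE (ι → F)
  obtain ⟨e, he0, he⟩ := exists_singular (Q2 Q hl hQω) h3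
  obtain ⟨f, hf, hef⟩ := exists_partner _ hND2 e he0 he
  have htw1 : tw lam τ t₀ 1 = 1 := by
    refine QuadraticAlgebra.ext ?_ ?_
    · show τ (1 : EE).re = (1 : EE).re
      rw [QuadraticAlgebra.re_one, map_one]
    · show τ (1 : EE).im * t₀ = (1 : EE).im
      rw [QuadraticAlgebra.im_one, map_zero, zero_mul]
  have htwn : tw lam τ t₀ (-1) = -1 := by
    refine QuadraticAlgebra.ext ?_ ?_
    · show τ (-1 : EE).re = (-1 : EE).re
      rw [QuadraticAlgebra.re_neg, QuadraticAlgebra.re_one, map_neg, map_one]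
    · show τ (-1 : EE).im * t₀ = (-1 : EE).im
      rw [QuadraticAlgebra.im_neg, QuadraticAlgebra.im_one, neg_zero, map_zero, zero_mul]
  obtain ⟨hτ', a, ha⟩ := scalar_of_fix_singular (Q2 Q hl hQω) EH.h2 hND2 h3 e f he hf hef
    (tw lam τ t₀) htw1 htwn (sm g τ) (sm_add g τ)
    (fun s x => sm_E_smul _ hω g τ t₀ hcomm s x)
    (fun v hv => by
      rw [← sm_zero g τ] at hv
      exact sm_injective g τ hv)
    (fun v hv0 hv => by
      have hTv0 : sm g τ v ≠ 0 := by
        intro h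
        rw [← sm_zero g τ] at h
        exact hv0 (sm_injective g τ h)
      have hTv : Q2 Q hl hQω (sm g τ v) = 0 :=
        Q2_sm_zero h2 hl hQω _ hω g τ c hg t₀ ht₀ hcomm v hv
      have h1 := hfixpt v hv0 hv
      rw [smul_ptE_semiAut H h2 hl hQω _ hω g τ c hc hg t₀ ht₀ hcomm v hv] at h1
      exact (ptE_eq_iff r H h2 hl hQω v (sm g τ v) hv0 hTv0 hv hTv).mp h1.symm)
  have hτ : ∀ s : F, τ s = s := by
    intro s
    have h := congrArg QuadraticAlgebra.re (hτ' ⟨s, 0⟩)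
    exact h
  have hsa : ∀ (b : EE) (u w : ι → F), polar ⇑Q (b • u) w = polar ⇑Q u (b • w) := by
    intro b u w
    rw [E_smul b u, E_smul b w, polar_add_left, polar_add_right, polar_smul_left,
      polar_smul_left, polar_smul_right, polar_smul_right, polar_om_left Q hQω hl]
  have hTT : ∀ v, sm g τ (sm g τ v) = c • v := by
    intro v
    have key : ∀ u, polar ⇑Q (sm g τ (sm g τ v) - c • v) u = 0 := by
      intro u
      rw [polar_sub_left, polar_smul_left, ha (sm g τ v), hsa, ← ha u, polar_sm g τ c hg, hτ,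
        smul_eq_mul, sub_self]
    exact sub_eq_zero.mp (hND _ key)
  exact eq_one_of_sq_scalar g τ hτ c hg hTT N hy hodd

end fld

/-- **type (II)**: a normal subgroup of odd order of the centraliser of the automorphism induced by
a similarity whose square is a non-square scalar, not of determinant type, is trivial -/
theorem typeII_trivial (r : ℕ) [Fact r.Prime] [CharP F r] (h2 : (2 : F) ≠ 0)
    (hQ : (polarBilin Q).Nondegenerate) (hfam : IsHypFamily Q α β)
    (hi : 3 ≤ i) (h5 : 5 ≤ Fintype.card ι) {w₀ : ι → F} (hw₀ : Q w₀ = 1)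
    (hγ : gammaPOmega F ⇑Q = ⊤) (n : ℕ) (hcard : Fintype.card ι = 2 * n) (hn : 4 ≤ n)
    (k₀ : ↥(Geo.quadSimilarityGroup (F := F) ⇑Q)) (lam : F)
    (hM : ((k₀ : Matrix.GeneralLinearGroup ι F) : Matrix ι ι F) *
      ((k₀ : Matrix.GeneralLinearGroup ι F) : Matrix ι ι F) = lam • 1)
    (hnsq : ∀ s : F, s ^ 2 ≠ lam) (μ : F)
    (hMQ : ∀ v, Q (((k₀ : Matrix.GeneralLinearGroup ι F) : Matrix ι ι F) *ᵥ v) = μ * Q v)
    (hμ : μ * μ = lam * lam)
    (hnP : ¬ Pdet Q w₀ n (k₀ : Matrix.GeneralLinearGroup ι F))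
    (A : Subgroup (MulAut (POmega F ⇑Q))) (hinn : ∀ k : POmega F ⇑Q, MulAut.conj k ∈ A)
    (N : Subgroup (MulAut (POmega F ⇑Q)))
    (hNle : N ≤ A ⊓ Subgroup.centralizer {conjGO Q k₀})
    (hNn : ∀ c ∈ A ⊓ Subgroup.centralizer {conjGO Q k₀}, ∀ n ∈ N, c * n * c⁻¹ ∈ N)
    (hodd : Odd (Nat.card ↥N)) : N = ⊥ := by
  have hl : lam ≠ 0 := by
    rintro rfl
    exact hnsq 0 (by ring)
  obtain ⟨M, hMdef⟩ : ∃ M : Matrix ι ι F,
    M = ((k₀ : Matrix.GeneralLinearGroup ι F) : Matrix ι ι F) := ⟨_, rfl⟩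
  rw [← hMdef] at hM hMQ
  have hroot : (Matrix.toLin' M : Module.End F (ι → F)) * Matrix.toLin' M =
      lam • (1 : Module.End F (ι → F)) + (0 : F) • Matrix.toLin' M := by
    rw [zero_smul, add_zero, Module.End.mul_eq_comp, ← Matrix.toLin'_mul, hM, map_smul,
      Matrix.toLin'_one]
    rfl
  let ρ : QuadraticAlgebra F lam 0 →ₐ[F] Module.End F (ι → F) :=
    QuadraticAlgebra.lift ⟨Matrix.toLin' M, hroot⟩
  letI : Module (QuadraticAlgebra F lam 0) (ι → F) :=
    Module.compHom (ι → F) (ρ : QuadraticAlgebra F lam 0 →+* Module.End F (ι → F))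
  have hsm : ∀ (z : QuadraticAlgebra F lam 0) (v : ι → F), z • v = ρ z v := fun z v => rfl
  haveI : IsScalarTower F (QuadraticAlgebra F lam 0) (ι → F) :=
    ⟨fun s z v => by rw [hsm, hsm, map_smul]; rfl⟩
  haveI : Fact (∀ s : F, s ^ 2 ≠ lam + 0 * s) :=
    ⟨fun s => by rw [zero_mul, add_zero]; exact hnsq s⟩
  have hω : ∀ v : ι → F, (QuadraticAlgebra.omega : QuadraticAlgebra F lam 0) • v = M *ᵥ v := by
    intro v
    rw [hsm]
    show (QuadraticAlgebra.lift ⟨Matrix.toLin' M, hroot⟩) QuadraticAlgebra.omega v = _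
    rw [QuadraticAlgebra.lift_apply_apply]
    simp
  have hdet := det_om M hω
  have hfr : 2 * finrank (QuadraticAlgebra F lam 0) (ι → F) = finrank F (ι → F) := finrank_E_mul
  rw [Module.finrank_fintype_fun_eq_card, hcard] at hfr
  have hfr' : finrank (QuadraticAlgebra F lam 0) (ι → F) = n := by omega
  rw [hfr'] at hdet
  have hmult : mult Q w₀ (k₀ : Matrix.GeneralLinearGroup ι F) = μ := by
    unfold mult
    rw [← hMdef, hMQ, hw₀, mul_one]
  have hμ0 : μ ≠ 0 := by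
    rintro rfl
    rw [mul_zero] at hμ
    exact hl (mul_self_eq_zero.mp hμ.symm)
  have hcases : μ = lam ∨ μ = -lam := by
    have h3 : (μ - lam) * (μ + lam) = 0 := by linear_combination hμ
    rcases mul_eq_zero.mp h3 with h | h
    · exact Or.inl (sub_eq_zero.mp h)
    · exact Or.inr (eq_neg_of_add_eq_zero_left h)
  rcases hcases with hμl | hμl
  · have hnodd : Odd n := by
      rw [← Nat.not_even_iff_odd]
      intro hev
      apply hnP
      unfold Pdet detRatio
      rw [hmult, ← hMdef, hdet, hev.neg_pow, hμl, ← mul_pow, mul_inv_cancel₀ hl, one_pow]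
    have hn5 : 5 ≤ n := by
      obtain ⟨a, ha⟩ := hnodd
      omega
    have hQω : ∀ v : ι → F, Q ((QuadraticAlgebra.omega : QuadraticAlgebra F lam 0) • v) =
        lam * Q v := by
      intro v
      rw [hω, hMQ, hμl]
    rw [hMdef] at hω
    exact typeII_core r h2 hQ hfam hi h5 hw₀ hγ hl hQω k₀ hω (Or.inr (by rw [hfr']; exact hn5))
      A hinn N hNle hNn hodd
  · exfalso
    apply hnP
    unfold Pdet detRatio
    rw [hmult, ← hMdef, hdet, hμl, ← mul_pow, mul_inv_cancel₀ (neg_ne_zero.mpr hl), one_pow]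

end Cfsg.Agent.Lib.Helper9.ALC
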