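import Mathlib
import Cfsg.Prelude
import Cfsg.Agent.Lib.Helper9.ALC11

set_option autoImplicit false
set_option linter.unusedSectionVars false
set_option linter.unusedVariables false
set_option linter.style.longLine false
set_option linter.unusedSimpArgs false
open Cfsg

namespace Cfsg.Agent.Lib.Helper9.ALC

/-! Local balance for the graph involutions: the conclusion. -/

open Module Matrix QuadraticMap Cfsg.Agent.Lib.Helper5.CartanDieudonne Cfsg.Agent.Lib.Helper5.Refl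
  Cfsg.Agent.Lib.Helper5.OrthCard Cfsg.Agent.Lib.Helper5.Siegel Cfsg.Agent.Lib.Helper5.QuadIsom
  Cfsg.Agent.Lib.Helper5.ReflGen Cfsg.Agent.Lib.Helper5.Eichler Cfsg.Agent.Lib.Helper5.SingGeom
  Cfsg.Agent.Lib.Helper5.OmegaGen Cfsg.Agent.Lib.Helper5.OmegaSimple
  Cfsg.Agent.Lib.Helper9.AOR Cfsg.Agent.Lib.Helper9.AOF Cfsg.Agent.Lib.Helper5
  Cfsg.Agent.Lib.Helper5.MaxTS
open scoped Pointwise
open Cfsg.Agent.Lib.Helper5.OAut Cfsg.Agent.Lib.Helper5.SpinorHyp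

variable {ι : Type} [Fintype ι] [DecidableEq ι] {F : Type*} [Field F] [Fintype F]
  {Q : QuadraticForm F (ι → F)} {i : ℕ} {α β : Fin i → ι}

/-- an involution negating the form produces a Lagrangian -/
theorem no_anti_involution (h2 : (2 : F) ≠ 0) (hQ : (polarBilin Q).Nondegenerate)
    (M : Matrix ι ι F) (hM : M * M = 1) (hMQ : ∀ v, Q (M *ᵥ v) = - Q v)
    (hnoLag : ∀ Y : Submodule F (ι → F), (∀ y ∈ Y, Q y = 0) → orth Q Y ≤ Y → False) : False := by
  have hND : ND Q := fun z hz => hQ.1 z (fun y => by rw [polarBilin_apply_apply]; exact hz y)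
  have hts : ∀ ε : F, ∀ y ∈ eig M ε, ε * ε = 1 → Q y = 0 := by
    intro ε y hy hε
    have h3 := hMQ y
    rw [(mem_eig _ _ _).mp hy, QuadraticMap.map_smul, smul_eq_mul, hε, one_mul] at h3
    have h4 : (2 : F) * Q y = 0 := by linear_combination h3
    rcases mul_eq_zero.mp h4 with h | h
    · exact absurd h h2
    · exact h
  apply hnoLag (eig M 1) (fun y hy => hts 1 y hy (one_mul 1))
  intro v hv
  rw [mem_orth] at hv
  obtain ⟨vp, hvp⟩ : ∃ vp, vp = (2 : F)⁻¹ • (v + M *ᵥ v) := ⟨_, rfl⟩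
  obtain ⟨vm, hvm⟩ : ∃ vm, vm = (2 : F)⁻¹ • (v - M *ᵥ v) := ⟨_, rfl⟩
  have hdec : v = vp + vm := by
    rw [hvp, hvm]
    exact eig_decomp h2 v
  have hvpY : vp ∈ eig M 1 := by
    rw [hvp]
    exact half_add_mem h2 hM v
  have hvmY : vm ∈ eig M (-1) := by
    rw [hvm]
    exact half_sub_mem h2 hM v
  have hvm0 : vm = 0 := by
    apply hND
    intro z
    rw [eig_decomp (M := M) h2 z, polar_add_right]
    have e1 : polar ⇑Q vm ((2 : F)⁻¹ • (z + M *ᵥ z)) = 0 := by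
      rw [polar_comm]
      have hzY := half_add_mem h2 hM z
      have e2 : vm = v - vp := by
        rw [hdec]
        abel
      rw [e2, polar_sub_right, hv _ hzY,
        PlusGeom.polar_eq_zero_of_ts Q _ (fun y hy => hts 1 y hy (one_mul 1)) hzY hvpY, sub_zero]
    have e3 : polar ⇑Q vm ((2 : F)⁻¹ • (z - M *ᵥ z)) = 0 :=
      PlusGeom.polar_eq_zero_of_ts Q _ (fun y hy => hts (-1) y hy (by ring)) hvmY
        (half_sub_mem h2 hM z)
    rw [e1, e3, add_zero]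
  rw [hdec, hvm0, add_zero]
  exact hvpY

/-- **graph involutions**: a normal subgroup of odd order of the centraliser of an involutory
automorphism induced by a similarity not of determinant type is trivial -/
theorem graph_trivial (r : ℕ) [Fact r.Prime] [CharP F r] (h2 : (2 : F) ≠ 0)
    (hQ : (polarBilin Q).Nondegenerate) (hfam : IsHypFamily Q α β)
    (hi : 3 ≤ i) (h5 : 5 ≤ Fintype.card ι) {w₀ : ι → F} (hw₀ : Q w₀ = 1)
    (hγ : gammaPOmega F ⇑Q = ⊤) (n : ℕ) (hcard : Fintype.card ι = 2 * n) (hn : 4 ≤ n)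
    (hnoLag : ∀ Y : Submodule F (ι → F), (∀ y ∈ Y, Q y = 0) → orth Q Y ≤ Y → False)
    (k₀ : ↥(Geo.quadSimilarityGroup (F := F) ⇑Q))
    (hsq : conjGO Q k₀ * conjGO Q k₀ = 1)
    (hnP : ¬ Pdet Q w₀ n (k₀ : Matrix.GeneralLinearGroup ι F))
    (A : Subgroup (MulAut (POmega F ⇑Q))) (hinn : ∀ k : POmega F ⇑Q, MulAut.conj k ∈ A)
    (N : Subgroup (MulAut (POmega F ⇑Q)))
    (hNle : N ≤ A ⊓ Subgroup.centralizer {conjGO Q k₀})
    (hNn : ∀ c ∈ A ⊓ Subgroup.centralizer {conjGO Q k₀}, ∀ n ∈ N, c * n * c⁻¹ ∈ N)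
    (hodd : Odd (Nat.card ↥N)) : N = ⊥ := by
  have hker : k₀ * k₀ ∈ (conjGO Q).ker := by
    rw [MonoidHom.mem_ker, map_mul]
    exact hsq
  obtain ⟨a, ha, hGa⟩ := scalar_of_mem_ker_conjGO hQ hfam hi h5 hw₀ (k₀ * k₀) hker
  have hMM : ((k₀ : Matrix.GeneralLinearGroup ι F) : Matrix ι ι F) *
      ((k₀ : Matrix.GeneralLinearGroup ι F) : Matrix ι ι F) = a • 1 := by
    rw [← hGa]
    rfl
  have hμμ : mult Q w₀ (k₀ : Matrix.GeneralLinearGroup ι F) *
      mult Q w₀ (k₀ : Matrix.GeneralLinearGroup ι F) = a * a := by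
    rw [ha]
    exact (mult_mul hw₀ k₀.2).symm
  have hμ0 := mult_ne_zero hw₀ k₀.2
  have ha0 : a ≠ 0 := by
    rintro rfl
    rw [mul_zero] at hμμ
    exact hμ0 (mul_self_eq_zero.mp hμμ)
  have hMQ := mult_spec hw₀ k₀.2
  by_cases hsqr : ∃ d : F, d ^ 2 = a
  · obtain ⟨d, hd⟩ := hsqr
    have hd0 : d ≠ 0 := by
      rintro rfl
      exact ha0 (by rw [← hd]; ring)
    have hdi0 : d⁻¹ ≠ 0 := inv_ne_zero hd0
    obtain ⟨s, hs⟩ : ∃ s : ↥(Geo.quadSimilarityGroup (F := F) ⇑Q),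
      s = ⟨scalarGL ι d⁻¹ hdi0, scalarGL_mem _ hdi0⟩ := ⟨_, rfl⟩
    have hsker : conjGO Q s = 1 :=
      MonoidHom.mem_ker.mp (mem_ker_conjGO_of_scalar s d⁻¹ (by rw [hs]; rfl))
    obtain ⟨k₁, hk₁⟩ : ∃ k₁ : ↥(Geo.quadSimilarityGroup (F := F) ⇑Q), k₁ = s * k₀ := ⟨_, rfl⟩
    have hconj : conjGO Q k₁ = conjGO Q k₀ := by rw [hk₁, map_mul, hsker, one_mul]
    have hM₁ : ((k₁ : Matrix.GeneralLinearGroup ι F) : Matrix ι ι F) =
        d⁻¹ • ((k₀ : Matrix.GeneralLinearGroup ι F) : Matrix ι ι F) := by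
      rw [hk₁, hs]
      show (d⁻¹ • (1 : Matrix ι ι F)) * ((k₀ : Matrix.GeneralLinearGroup ι F) : Matrix ι ι F) = _
      rw [Matrix.smul_mul, Matrix.one_mul]
    have hM₁M₁ : ((k₁ : Matrix.GeneralLinearGroup ι F) : Matrix ι ι F) *
        ((k₁ : Matrix.GeneralLinearGroup ι F) : Matrix ι ι F) = 1 := by
      rw [hM₁, Matrix.smul_mul, Matrix.mul_smul, smul_smul, hMM, smul_smul, ← hd]
      have e : d⁻¹ * d⁻¹ * d ^ 2 = 1 := by field_simp
      rw [e, one_smul]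
    obtain ⟨μ₁, hμ₁def⟩ : ∃ μ₁ : F,
      μ₁ = d⁻¹ * d⁻¹ * mult Q w₀ (k₀ : Matrix.GeneralLinearGroup ι F) := ⟨_, rfl⟩
    have hMQ₁ : ∀ v, Q (((k₁ : Matrix.GeneralLinearGroup ι F) : Matrix ι ι F) *ᵥ v) =
        μ₁ * Q v := by
      intro v
      rw [hM₁, Matrix.smul_mulVec, QuadraticMap.map_smul, hMQ, smul_eq_mul, hμ₁def]
      ring
    have hμ₁ : μ₁ * μ₁ = 1 := by
      have e : μ₁ * μ₁ = (d⁻¹) ^ 4 * (mult Q w₀ (k₀ : Matrix.GeneralLinearGroup ι F) *
          mult Q w₀ (k₀ : Matrix.GeneralLinearGroup ι F)) := by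
        rw [hμ₁def]
        ring
      rw [e, hμμ, ← hd]
      field_simp
    have hnP₁ : ¬ Pdet Q w₀ n (k₁ : Matrix.GeneralLinearGroup ι F) := by
      intro hP1
      apply hnP
      have hcls := isCls_Pdet (n := n) h2 hQ hw₀ hcard
      have e : (k₀ : Matrix.GeneralLinearGroup ι F) =
          scU (Units.mk0 d hd0) * (k₁ : Matrix.GeneralLinearGroup ι F) := by
        rw [hk₁, hs]
        show _ = scU _ * (scalarGL ι d⁻¹ hdi0 * (k₀ : Matrix.GeneralLinearGroup ι F))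
        rw [← mul_assoc]
        have e' : scU (Units.mk0 d hd0) * scalarGL ι d⁻¹ hdi0 =
            (1 : Matrix.GeneralLinearGroup ι F) := by
          apply Units.ext
          rw [Units.val_mul, scU_coe]
          show ((d : F) • (1 : Matrix ι ι F)) * (d⁻¹ • (1 : Matrix ι ι F)) = 1
          rw [Matrix.smul_mul, Matrix.one_mul, smul_smul, mul_inv_cancel₀ hd0, one_smul]
        rw [e', one_mul]
      rw [e]
      exact hcls.mul _ _ (scU_mem_sim _) k₁.2 (hcls.scal _) hP1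
    rw [← hconj] at hNle hNn
    have hcases : μ₁ = 1 ∨ μ₁ = -1 := by
      have h3 : (μ₁ - 1) * (μ₁ + 1) = 0 := by linear_combination hμ₁
      rcases mul_eq_zero.mp h3 with h | h
      · exact Or.inl (sub_eq_zero.mp h)
      · exact Or.inr (eq_neg_of_add_eq_zero_left h)
    rcases hcases with h1 | h1
    · exact typeI_trivial r h2 hQ hfam hi h5 hw₀ hγ n hcard hn k₁ hM₁M₁
        (fun v => by rw [hMQ₁, h1, one_mul]) hnP₁ A hinn N hNle hNn hodd
    · exfalso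
      exact no_anti_involution h2 hQ _ hM₁M₁ (fun v => by rw [hMQ₁, h1, neg_one_mul]) hnoLag
  · exact typeII_trivial r h2 hQ hfam hi h5 hw₀ hγ n hcard hn k₀ a hMM
      (fun s hs => hsqr ⟨s, hs⟩) _ hMQ hμμ hnP A hinn N hNle hNn hodd

end Cfsg.Agent.Lib.Helper9.ALC
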