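import Mathlib
import Cfsg.Prelude
import Cfsg.Agent.Lib.Helper9.ALC12
import Cfsg.Agent.Lib.Helper2.Lbf5
import Cfsg.Agent.Lib.Helper9.AOF15

set_option autoImplicit false
set_option linter.unusedSectionVars false
set_option linter.unusedVariables false
set_option linter.style.longLine false
set_option linter.unusedSimpArgs false
open Cfsg

namespace Cfsg.Agent.Lib.Helper9.ALC

/-! No automorphism of order two of a minus type orthogonal group induces a field automorphism of
order two: the determinant argument. -/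

open Module Matrix QuadraticMap Cfsg.Agent.Lib.Helper5.CartanDieudonne Cfsg.Agent.Lib.Helper5.Refl
  Cfsg.Agent.Lib.Helper5.OrthCard Cfsg.Agent.Lib.Helper5.Siegel Cfsg.Agent.Lib.Helper5.QuadIsom
  Cfsg.Agent.Lib.Helper5.ReflGen Cfsg.Agent.Lib.Helper5.Eichler Cfsg.Agent.Lib.Helper5.SingGeom
  Cfsg.Agent.Lib.Helper5.OmegaGen Cfsg.Agent.Lib.Helper5.OmegaSimple
  Cfsg.Agent.Lib.Helper9.AOR Cfsg.Agent.Lib.Helper9.AOF Cfsg.Agent.Lib.Helper5
open scoped Pointwise
open Cfsg.Agent.Lib.Helper5.OAut Cfsg.Agent.Lib.Helper5.SpinorHyp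

variable {ι : Type} [Fintype ι] [DecidableEq ι] {F : Type*} [Field F] [Fintype F]
  {Q : QuadraticForm F (ι → F)} {i : ℕ} {α β : Fin i → ι}

omit [Fintype ι] [DecidableEq ι] in
/-- an involutory automorphism of a finite field is the `q₀`-power map with `q₀² = |F|` -/
theorem exists_sqrt_card (r : ℕ) [Fact r.Prime] [CharP F r] (σ : F ≃+* F)
    (hσ1 : σ ≠ RingEquiv.refl F) (hσ2 : ∀ x, σ (σ x) = x) :
    ∃ q₀ : ℕ, (∀ x : F, σ x = x ^ q₀) ∧ q₀ * q₀ = Fintype.card F := by
  let _ := ZMod.algebra F r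
  obtain ⟨σ', hσ'⟩ : ∃ σ' : F ≃ₐ[ZMod r] F, ∀ x, σ' x = σ x :=
    ⟨AlgEquiv.ofRingEquiv (f := σ) (fun s =>
        RingHom.congr_fun (Subsingleton.elim ((σ : F →+* F).comp (algebraMap (ZMod r) F))
          (algebraMap (ZMod r) F)) s), fun x => rfl⟩
  obtain ⟨n, hn⟩ := (FiniteField.bijective_frobeniusAlgEquivOfAlgebraic_pow (ZMod r) F).2 σ'
  have hn' : FiniteField.frobeniusAlgEquivOfAlgebraic (ZMod r) F ^ n.1 = σ' := hn
  have hfr : ∀ (k : ℕ) (x : F),
      (FiniteField.frobeniusAlgEquivOfAlgebraic (ZMod r) F ^ k) x = x ^ r ^ k := by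
    intro k x
    simp only [AlgEquiv.coe_pow, FiniteField.coe_frobeniusAlgEquivOfAlgebraic_iterate, ZMod.card]
  have hσpow : ∀ x, σ x = x ^ r ^ n.1 := fun x => by
    rw [← hσ' x, ← hn']
    exact hfr n.1 x
  have hord := FiniteField.orderOf_frobeniusAlgEquivOfAlgebraic (ZMod r) F
  have hsq : (FiniteField.frobeniusAlgEquivOfAlgebraic (ZMod r) F) ^ (2 * n.1) = 1 := by
    rw [mul_comm, pow_mul, hn', pow_two]
    ext x
    rw [AlgEquiv.mul_apply, hσ', hσ', hσ2]
    rfl
  have hdvd : finrank (ZMod r) F ∣ 2 * n.1 := by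
    have h := orderOf_dvd_of_pow_eq_one hsq
    rw [hord] at h
    exact h
  have hn0 : n.1 ≠ 0 := by
    intro h0
    apply hσ1
    ext x
    rw [hσpow, h0, pow_zero, pow_one]
    rfl
  have hlt := n.2
  have h2n : 2 * n.1 = finrank (ZMod r) F := by
    obtain ⟨t, ht⟩ := hdvd
    rcases t with _ | _ | t
    · omega
    · omega
    · exfalso
      have h3 : finrank (ZMod r) F * (t + 1 + 1) ≥ finrank (ZMod r) F * 2 :=
        Nat.mul_le_mul_left _ (by omega)
      omega
  refine ⟨r ^ n.1, hσpow, ?_⟩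
  rw [← pow_add, ← two_mul, h2n]
  have h4 := Module.card_eq_pow_finrank (K := ZMod r) (V := F)
  rw [h4, ZMod.card]

omit [Fintype ι] [DecidableEq ι] in
/-- the arithmetic core of the determinant argument -/
theorem isSquare_of_twist (h2 : (2 : F) ≠ 0) (σ : F ≃+* F) (q₀ : ℕ)
    (hσ : ∀ x : F, σ x = x ^ q₀) (hq : q₀ * q₀ = Fintype.card F) (D ε : F) (hD : D ≠ 0)
    (h1 : ε * σ ε = 1) (h3 : ε ^ 2 * D = σ D) : IsSquare D := by
  have hchar : ringChar F ≠ 2 := by
    intro h
    haveI := ringChar.of_eq h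
    exact h2 CharTwo.two_eq_zero
  rw [FiniteField.isSquare_iff hchar hD]
  have hoddq : Odd (Fintype.card F) :=
    Nat.odd_iff.mpr (FiniteField.odd_card_of_char_ne_two hchar)
  have hq0odd : Odd q₀ := by
    rw [← hq] at hoddq
    exact (Nat.odd_mul.mp hoddq).1
  obtain ⟨t, ht⟩ := hq0odd
  have hhalf : Fintype.card F / 2 = (2 * t) * (t + 1) := by
    rw [← hq, ht]
    have e : (2 * t + 1) * (2 * t + 1) = 2 * (2 * t * (t + 1)) + 1 := by ring
    rw [e]
    omega
  rw [hhalf, pow_mul]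
  have hD2t : D ^ (2 * t) = ε ^ 2 := by
    have h4 : D ^ (2 * t) * D = ε ^ 2 * D := by rw [← pow_succ, ← ht, ← hσ, h3]
    exact mul_right_cancel₀ hD h4
  rw [hD2t, ← pow_mul]
  have e : 2 * (t + 1) = q₀ + 1 := by omega
  rw [e, pow_succ, ← hσ, mul_comm]
  exact h1

/-- the Gram matrix of the polar form -/
noncomputable def gram (Q : QuadraticForm F (ι → F)) : Matrix ι ι F :=
  LinearMap.toMatrix₂' F (polarBilin Q)

omit [Fintype F] in
theorem gram_apply (a b : ι) :
    gram Q a b = polar ⇑Q (Pi.single a 1) (Pi.single b 1) := rfl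

/-- a semisimilarity transforms the Gram matrix into a multiple of its twist -/
theorem gram_semisim (g : Matrix.GeneralLinearGroup ι F) (σ : F ≃+* F) (c : F)
    (hg : ∀ v, Q (sm g σ v) = c * σ (Q v)) :
    ((g : Matrix ι ι F))ᵀ * gram Q * (g : Matrix ι ι F) = c • (gram Q).map σ := by
  have h1 := LinearMap.toMatrix₂'_compl₁₂ (polarBilin Q) (Matrix.toLin' (g : Matrix ι ι F))
    (Matrix.toLin' (g : Matrix ι ι F))
  rw [LinearMap.toMatrix'_toLin'] at h1
  unfold gram
  rw [← h1]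
  ext a b
  rw [LinearMap.toMatrix₂'_apply, LinearMap.compl₁₂_apply, Matrix.toLin'_apply,
    Matrix.toLin'_apply, polarBilin_apply_apply, Matrix.smul_apply, Matrix.map_apply,
    LinearMap.toMatrix₂'_apply, polarBilin_apply_apply, smul_eq_mul]
  have h3 := polar_sm g σ c hg (Pi.single a 1) (Pi.single b 1)
  unfold sm at h3
  rw [Cfsg.Agent.Lib.Helper2.Lbf.vm_single', Cfsg.Agent.Lib.Helper2.Lbf.vm_single'] at h3
  exact h3

/-- the determinant identity -/
theorem gram_det_semisim (g : Matrix.GeneralLinearGroup ι F) (σ : F ≃+* F) (c : F)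
    (hg : ∀ v, Q (sm g σ v) = c * σ (Q v)) :
    (g : Matrix ι ι F).det ^ 2 * (gram Q).det = c ^ Fintype.card ι * σ (gram Q).det := by
  have h1 := congrArg Matrix.det (gram_semisim g σ c hg)
  rw [Matrix.det_mul, Matrix.det_mul, Matrix.det_transpose, Matrix.det_smul] at h1
  have h3 : ((gram Q).map σ).det = σ (gram Q).det := by
    have := (σ : F →+* F).map_det (gram Q)
    rw [RingHom.mapMatrix_apply] at this
    exact this.symm
  rw [h3] at h1
  rw [← h1]
  ring

/-- **the determinant argument**: an automorphism of order two inducing a field automorphism of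
order two forces the discriminant to be a square -/
theorem isSquare_gram_det (r : ℕ) [Fact r.Prime] [CharP F r] (h2 : (2 : F) ≠ 0)
    (hQ : (polarBilin Q).Nondegenerate) (hfam : IsHypFamily Q α β)
    (hi : 3 ≤ i) (h5 : 5 ≤ Fintype.card ι) {w₀ : ι → F} (hw₀ : Q w₀ = 1)
    (n : ℕ) (hcard : Fintype.card ι = 2 * n) (hD : (gram Q).det ≠ 0)
    (σ : F ≃+* F) (hσ1 : σ ≠ RingEquiv.refl F) (hσ2 : ∀ x, σ (σ x) = x)
    (g : Matrix.GeneralLinearGroup ι F) (c : F) (hc : c ≠ 0)
    (hg : ∀ v, Q (sm g σ v) = c * σ (Q v))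
    (hxx : semiAut g σ c hg * semiAut g σ c hg = 1) : IsSquare (gram Q).det := by
  have e2 : σ.trans σ = RingEquiv.refl F := RingEquiv.ext hσ2
  have hcc : c * σ c ≠ 0 := mul_ne_zero hc ((map_ne_zero σ).mpr hc)
  have hg2 : ∀ v, Q (sm (g * Matrix.GeneralLinearGroup.map (σ : F →+* F) g)
      (RingEquiv.refl F) v) = (c * σ c) * (RingEquiv.refl F) (Q v) := by
    intro v
    have := quad_sm_comp g g σ σ c c hg hg v
    rw [e2] at this
    exact this
  rw [semiAut_mul, semiAut_congr rfl e2 rfl _ hg2] at hxx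
  have hkmem : g * Matrix.GeneralLinearGroup.map (σ : F →+* F) g ∈
      Geo.quadSimilarityGroup (F := F) ⇑Q := ⟨Units.mk0 (c * σ c) hcc, fun v => hg2 v⟩
  obtain ⟨k, hk⟩ : ∃ k : ↥(Geo.quadSimilarityGroup (F := F) ⇑Q),
    k = ⟨g * Matrix.GeneralLinearGroup.map (σ : F →+* F) g, hkmem⟩ := ⟨_, rfl⟩
  have hkc : (k : Matrix.GeneralLinearGroup ι F) =
      g * Matrix.GeneralLinearGroup.map (σ : F →+* F) g := by rw [hk]
  have hmult : mult Q w₀ (k : Matrix.GeneralLinearGroup ι F) = c * σ c := by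
    unfold mult
    have := hg2 w₀
    rw [sm_refl, hw₀] at this
    rw [hkc, this]
    simp
  have hgk : ∀ v, Q (sm (k : Matrix.GeneralLinearGroup ι F) (RingEquiv.refl F) v) =
      mult Q w₀ (k : Matrix.GeneralLinearGroup ι F) * (RingEquiv.refl F) (Q v) := by
    intro v
    rw [hmult, hkc]
    exact hg2 v
  have hker : k ∈ (conjGO Q).ker := by
    rw [MonoidHom.mem_ker, conjGO_eq_semiAut k hgk, semiAut_congr hkc rfl hmult hgk hg2]
    exact hxx
  obtain ⟨lam, hlam, hGl⟩ := scalar_of_mem_ker_conjGO hQ hfam hi h5 hw₀ k hker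
  rw [hmult] at hlam
  rw [hkc] at hGl
  -- determinants
  have hdet1 := gram_det_semisim g σ c hg
  have hdet2 : (g : Matrix ι ι F).det * σ (g : Matrix ι ι F).det = lam ^ Fintype.card ι := by
    have h3 := congrArg Matrix.det hGl
    rw [Units.val_mul, Matrix.det_mul, Matrix.det_smul, Matrix.det_one, mul_one] at h3
    rw [← h3]
    congr 1
    exact (σ : F →+* F).map_det (g : Matrix ι ι F)
  obtain ⟨q₀, hσq, hq⟩ := exists_sqrt_card r σ hσ1 hσ2
  obtain ⟨ε, hε⟩ : ∃ ε : F, ε = (g : Matrix ι ι F).det * (c ^ n)⁻¹ := ⟨_, rfl⟩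
  have hcn : c ^ n ≠ 0 := pow_ne_zero n hc
  apply isSquare_of_twist h2 σ q₀ hσq hq _ ε hD
  · rw [hε, map_mul, map_inv₀, map_pow]
    have hscn : σ c ^ n ≠ 0 := pow_ne_zero n ((map_ne_zero σ).mpr hc)
    have e1 : (g : Matrix ι ι F).det * (c ^ n)⁻¹ * (σ (g : Matrix ι ι F).det * (σ c ^ n)⁻¹) =
        ((g : Matrix ι ι F).det * σ (g : Matrix ι ι F).det) * ((c * σ c) ^ n)⁻¹ := by
      rw [mul_pow, mul_inv]
      ring
    rw [e1, hdet2, hcard, ← hlam, pow_mul, ← pow_two]
    exact mul_inv_cancel₀ (pow_ne_zero n (by rw [pow_two, hlam]; exact hcc))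
  · rw [hε, mul_pow, mul_assoc, mul_comm _ (gram Q).det, ← mul_assoc, hdet1, hcard, inv_pow,
      ← pow_mul, mul_comm n 2]
    field_simp

section minusgram
open Cfsg.Agent.S0294 Cfsg.Agent.Lib.Helper5.OrthPlane Cfsg.Agent.Lib.Helper5.SpinorHyp2

variable {κ₀ : Type} [Fintype κ₀] [DecidableEq κ₀]

omit [Fintype F] in
/-- the Gram matrix of a form with a hyperbolic part -/
theorem gram_genForm (Q₀ : QuadraticForm F (κ₀ → F)) (k : ℕ) :
    gram (genForm Q₀ k) =
      Matrix.fromBlocks (Matrix.fromBlocks (0 : Matrix (Fin k) (Fin k) F) (1 : Matrix (Fin k) (Fin k) F)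
        (1 : Matrix (Fin k) (Fin k) F) (0 : Matrix (Fin k) (Fin k) F)) 0 0
        (gram Q₀) := by
  ext x y
  rw [gram_apply]
  rcases x with (x | x) | x
  · rw [polar_genForm_single_ll]
    rcases y with (y | y) | y
    · simp
    · simp [Matrix.one_apply, Pi.single_apply, eq_comm]
    · simp
  · rw [polar_genForm_single_lr]
    rcases y with (y | y) | y
    · simp [Matrix.one_apply, Pi.single_apply, eq_comm]
    · simp
    · simp
  · rcases y with (y | y) | y
    · rw [polar_comm, polar_genForm_single_ll]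
      simp
    · rw [polar_comm, polar_genForm_single_lr]
      simp
    · rw [polar_genForm, Matrix.fromBlocks_apply₂₂, gram_apply]
      have e1 : ∀ l : κ₀, (fun t : κ₀ => (Pi.single (Sum.inr l) 1 :
          (Fin k ⊕ Fin k) ⊕ κ₀ → F) (Sum.inr t)) = Pi.single l 1 := by
        intro l
        ext t
        simp [Pi.single_apply]
      rw [e1, e1]
      simp

omit [Fintype F] in
theorem det_hypBlock (k : ℕ) :
    (Matrix.fromBlocks (0 : Matrix (Fin k) (Fin k) F) (1 : Matrix (Fin k) (Fin k) F)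
        (1 : Matrix (Fin k) (Fin k) F) (0 : Matrix (Fin k) (Fin k) F)).det *
      (Matrix.fromBlocks (0 : Matrix (Fin k) (Fin k) F) (1 : Matrix (Fin k) (Fin k) F)
        (1 : Matrix (Fin k) (Fin k) F) (0 : Matrix (Fin k) (Fin k) F)).det = 1 := by
  rw [← Matrix.det_mul, Matrix.fromBlocks_multiply]
  simp

omit [Fintype F] in
theorem det_gram_binForm (a b : F) : (gram (binForm a b)).det = 4 * b - a * a := by
  rw [Matrix.det_fin_two, gram_apply, gram_apply, gram_apply, gram_apply, polar_binForm,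
    polar_binForm, polar_binForm, polar_binForm]
  simp
  ring

omit [Fintype F] in
theorem det_gram_minus (a b : F) (m : ℕ) :
    ∃ δ : F, δ * δ = 1 ∧ (gram (genForm (binForm a b) m)).det = δ * (4 * b - a * a) := by
  refine ⟨_, det_hypBlock m, ?_⟩
  rw [gram_genForm, Matrix.det_fromBlocks_zero₁₂, det_gram_binForm]

/-- **no automorphism of order two of a minus type group induces a field automorphism of order
two** -/
theorem no_field_involution_minus (r : ℕ) [Fact r.Prime] [CharP F r] (h2 : (2 : F) ≠ 0)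
    {m : ℕ} (hm : 3 ≤ m) (a b : F)
    (hab : ∀ z₁ z₂ : F, z₁ ^ 2 + a * z₁ * z₂ + b * z₂ ^ 2 = 0 → z₁ = 0 ∧ z₂ = 0)
    (σ : F ≃+* F) (hσ1 : σ ≠ RingEquiv.refl F) (hσ2 : ∀ x, σ (σ x) = x)
    (g : Matrix.GeneralLinearGroup ((Fin m ⊕ Fin m) ⊕ Fin 2) F) (c : F) (hc : c ≠ 0)
    (hg : ∀ v, genForm (binForm a b) m (sm g σ v) = c * σ (genForm (binForm a b) m v))
    (hxx : semiAut g σ c hg * semiAut g σ c hg = 1) : False := by
  have han := anisotropic_of a b hab
  have hQ := genForm_nondegenerate _ (binForm_nondegenerate a b han) m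
  have hfam := genForm_hypFamily (binForm a b) (le_refl m)
  have h5 : 5 ≤ Fintype.card ((Fin m ⊕ Fin m) ⊕ Fin 2) := by rw [card_minus_index m]; omega
  have hroot : ∀ s : F, s * s = a * a - 4 * b → False := by
    intro s hs
    have h4 : (4 : F) ≠ 0 := by
      have e : (4 : F) = 2 * 2 := by norm_num
      rw [e]
      exact mul_ne_zero h2 h2
    have h3 := hab ((-a + s) / 2) 1 (by
      field_simp
      linear_combination hs)
    exact one_ne_zero h3.2
  obtain ⟨δ, hδ, hdet⟩ := det_gram_minus a b m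
  have hdisc : 4 * b - a * a ≠ 0 := by
    intro h
    exact hroot 0 (by linear_combination h)
  have hδ0 : δ ≠ 0 := by
    rintro rfl
    rw [mul_zero] at hδ
    exact zero_ne_one hδ
  have hD : (gram (genForm (binForm a b) m)).det ≠ 0 := by
    rw [hdet]
    exact mul_ne_zero hδ0 hdisc
  obtain ⟨s, hs⟩ := isSquare_gram_det r h2 hQ hfam hm h5 (quad_xvec a b m) (m + 1)
    (card_minus_index m) hD σ hσ1 hσ2 g c hc hg hxx
  rw [hdet] at hs
  have hcases : δ = 1 ∨ δ = -1 := by
    have h3 : (δ - 1) * (δ + 1) = 0 := by linear_combination hδ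
    rcases mul_eq_zero.mp h3 with h | h
    · exact Or.inl (sub_eq_zero.mp h)
    · exact Or.inr (eq_neg_of_add_eq_zero_left h)
  rcases hcases with h1 | h1
  · -- `-1` is a square
    obtain ⟨q₀, -, hq⟩ := exists_sqrt_card r σ hσ1 hσ2
    have hchar : ringChar F ≠ 2 := by
      intro h
      haveI := ringChar.of_eq h
      exact h2 CharTwo.two_eq_zero
    have hoddq : Odd (Fintype.card F) :=
      Nat.odd_iff.mpr (FiniteField.odd_card_of_char_ne_two hchar)
    have hq0odd : Odd q₀ := by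
      rw [← hq] at hoddq
      exact (Nat.odd_mul.mp hoddq).1
    obtain ⟨t, ht⟩ := hq0odd
    have hneg : IsSquare (-1 : F) := by
      rw [FiniteField.isSquare_neg_one_iff, ← hq]
      have e : q₀ * q₀ = 4 * (t * t + t) + 1 := by rw [ht]; ring
      rw [e]
      omega
    obtain ⟨u, hu⟩ := hneg
    apply hroot (u * s)
    rw [h1, one_mul] at hs
    linear_combination hs - s * s * hu
  · apply hroot s
    rw [h1] at hs
    linear_combination -hs

end minusgram

end Cfsg.Agent.Lib.Helper9.ALC
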