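import Mathlib
import Cfsg.Prelude
import Cfsg.Agent.Lib.Helper9.ALC13

set_option autoImplicit false
set_option linter.unusedSectionVars false
set_option linter.unusedVariables false
set_option linter.style.longLine false
set_option linter.unusedSimpArgs false
open Cfsg

namespace Cfsg.Agent.Lib.Helper9.ALC

/-! Preparations for the field case of the local balance criterion: anisotropic forms over the
fixed field, transport of semilinear automorphisms, transport of the abstract hypotheses. -/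

open Module Matrix QuadraticMap Cfsg.Agent.Lib.Helper5.CartanDieudonne Cfsg.Agent.Lib.Helper5.Refl
  Cfsg.Agent.Lib.Helper5.OrthCard Cfsg.Agent.Lib.Helper5.Siegel Cfsg.Agent.Lib.Helper5.QuadIsom
  Cfsg.Agent.Lib.Helper5.ReflGen Cfsg.Agent.Lib.Helper5.Eichler Cfsg.Agent.Lib.Helper5.SingGeom
  Cfsg.Agent.Lib.Helper5.OmegaGen Cfsg.Agent.Lib.Helper5.OmegaSimple
  Cfsg.Agent.Lib.Helper9.AOR Cfsg.Agent.Lib.Helper9.AOF Cfsg.Agent.Lib.Helper5
  Cfsg.Agent.Lib.Helper9.ASP Cfsg.Agent.Lib.Helper2.Lbf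
open scoped Pointwise
open Cfsg.Agent.Lib.Helper5.OAut Cfsg.Agent.Lib.Helper5.SpinorHyp

section fld
variable {F : Type*} [Field F]

theorem pow_two_mul_fix (σ : RingAut F) (z : F) (hz : σ (σ z) = z) (j : ℕ) :
    (σ ^ (2 * j)) z = z := by
  induction j with
  | zero => rfl
  | succ j ih =>
    have e : 2 * (j + 1) = 2 * j + 2 := by ring
    rw [e, pow_add, RingAut.mul_apply, pow_two, RingAut.mul_apply, hz, ih]

/-- an automorphism of odd order fixes every element fixed by its square -/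
theorem fix_of_sq_fix (σ : RingAut F) (p : ℕ) (hodd : Odd p) (hσp : σ ^ p = 1) (y : F)
    (hy : σ (σ y) = y) : σ y = y := by
  obtain ⟨k, hk⟩ := hodd
  have h1 : (σ ^ p) y = y := by rw [hσp]; rfl
  rw [hk, pow_succ, RingAut.mul_apply] at h1
  rw [pow_two_mul_fix σ (σ y) (by rw [hy]) k] at h1
  exact h1

/-- an anisotropic binary form over the fixed field of an automorphism of odd order remains
anisotropic -/
theorem aniso_extend {F₀ : Type*} [Field F₀] (j : F₀ →+* F) (σ : RingAut F)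
    (hι : ∀ a : F, σ a = a → a ∈ Set.range j) (hι' : ∀ t : F₀, σ (j t) = j t)
    (p : ℕ) (hodd : Odd p) (hσp : σ ^ p = 1) (a₀ b₀ : F₀)
    (hab₀ : ∀ z₁ z₂ : F₀, z₁ ^ 2 + a₀ * z₁ * z₂ + b₀ * z₂ ^ 2 = 0 → z₁ = 0 ∧ z₂ = 0) :
    ∀ z₁ z₂ : F, z₁ ^ 2 + j a₀ * z₁ * z₂ + j b₀ * z₂ ^ 2 = 0 → z₁ = 0 ∧ z₂ = 0 := by
  intro z₁ z₂ h
  by_cases hz : z₂ = 0
  · subst hz
    refine ⟨?_, rfl⟩
    have h1 : z₁ ^ 2 = 0 := by linear_combination h
    exact (pow_eq_zero_iff two_ne_zero).mp h1
  · exfalso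
    obtain ⟨ρ, hρ⟩ : ∃ ρ : F, ρ = z₁ / z₂ := ⟨_, rfl⟩
    have hρeq : ρ * ρ + j a₀ * ρ + j b₀ = 0 := by
      rw [hρ]
      field_simp
      linear_combination h
    have hσρ : σ ρ * σ ρ + j a₀ * σ ρ + j b₀ = 0 := by
      have h1 := congrArg σ hρeq
      rw [map_add, map_add, map_mul, map_mul, hι', hι', map_zero] at h1
      exact h1
    have hprod : (σ ρ - ρ) * (σ ρ + ρ + j a₀) = 0 := by linear_combination hσρ - hρeq
    have hfixρ : σ ρ = ρ := by
      rcases mul_eq_zero.mp hprod with h1 | h1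
      · exact sub_eq_zero.mp h1
      · have h3 : σ ρ = -j a₀ - ρ := by linear_combination h1
        apply fix_of_sq_fix σ p hodd hσp
        rw [h3, map_sub, map_neg, hι', h3]
        ring
    obtain ⟨ρ₀, hρ₀⟩ := hι ρ hfixρ
    have h4 := hab₀ ρ₀ 1 (by
      apply j.injective
      rw [map_add, map_add, map_mul, map_mul, map_mul, map_pow, map_pow, map_one, map_zero, hρ₀]
      linear_combination hρeq)
    exact one_ne_zero h4.2

end fld

section transport
variable {ι : Type} [Fintype ι] [DecidableEq ι] {F : Type*} [Field F] [Fintype F]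
  {Q Q' : QuadraticForm F (ι → F)}

omit [Fintype F] in
theorem quad_sm_conjT (T : Matrix.GeneralLinearGroup ι F)
    (hT : ∀ v, Q' ((T : Matrix ι ι F) *ᵥ v) = Q v)
    (g : Matrix.GeneralLinearGroup ι F) (σ : F ≃+* F) (c : F)
    (hg : ∀ v, Q (sm g σ v) = c * σ (Q v)) (v : ι → F) :
    Q' (sm (T * g * (Matrix.GeneralLinearGroup.map (σ : F →+* F) T)⁻¹) σ v) = c * σ (Q' v) := by
  obtain ⟨w, hw⟩ : ∃ w, w = ((T⁻¹ : Matrix.GeneralLinearGroup ι F) : Matrix ι ι F) *ᵥ v := ⟨_, rfl⟩
  have hv : v = (T : Matrix ι ι F) *ᵥ w := by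
    rw [hw, Matrix.mulVec_mulVec, ← Units.val_mul, mul_inv_cancel, Units.val_one,
      Matrix.one_mulVec]
  have h1 : sm (T * g * (Matrix.GeneralLinearGroup.map (σ : F →+* F) T)⁻¹) σ
      ((T : Matrix ι ι F) *ᵥ w) = (T : Matrix ι ι F) *ᵥ sm g σ w := by
    unfold sm
    rw [vm_mulVec, Matrix.mulVec_mulVec, Matrix.mulVec_mulVec]
    congr 1
    have e : (T * g * (Matrix.GeneralLinearGroup.map (σ : F →+* F) T)⁻¹) *
        Matrix.GeneralLinearGroup.map (σ : F →+* F) T = T * g := by group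
    have e' := congrArg (fun x : Matrix.GeneralLinearGroup ι F => (x : Matrix ι ι F)) e
    simp only [Units.val_mul] at e'
    exact e'
  rw [hv, h1, hT, hg, hT]

/-- the transport of the automorphism induced by a semisimilarity -/
theorem autCongr_psiT_semiAut (T : Matrix.GeneralLinearGroup ι F)
    (hT : ∀ v, Q' ((T : Matrix ι ι F) *ᵥ v) = Q v)
    (g : Matrix.GeneralLinearGroup ι F) (σ : F ≃+* F) (c : F)
    (hg : ∀ v, Q (sm g σ v) = c * σ (Q v)) :
    autCongr (psiT T hT) (semiAut g σ c hg) =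
      semiAut (T * g * (Matrix.GeneralLinearGroup.map (σ : F →+* F) T)⁻¹) σ c
        (quad_sm_conjT T hT g σ c hg) := by
  apply eq_semiAut_of_induced
  intro s s' hs
  rw [autCongr_apply]
  unfold psiT
  rw [pcEquiv_symm_mk]
  have h1 : semiAut g σ c hg (QuotientGroup.mk ((commEquiv (isoConj T hT)).symm s)) =
      QuotientGroup.mk (restrictChar (Omega F ⇑Q) (semiAutO g σ c hg)
        ((commEquiv (isoConj T hT)).symm s)) := rfl
  rw [h1, pcEquiv_mk]
  congr 1
  apply Subtype.ext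
  apply Subtype.ext
  apply Units.ext
  rw [hs]
  show ((T * (g * Matrix.GeneralLinearGroup.map (σ : F →+* F)
      (T⁻¹ * ((s : ↥(isometryGroup F ⇑Q')) : Matrix.GeneralLinearGroup ι F) * T) * g⁻¹) * T⁻¹ :
      Matrix.GeneralLinearGroup ι F) : Matrix ι ι F) = _
  have e : T * (g * Matrix.GeneralLinearGroup.map (σ : F →+* F)
      (T⁻¹ * ((s : ↥(isometryGroup F ⇑Q')) : Matrix.GeneralLinearGroup ι F) * T) * g⁻¹) * T⁻¹ =
      (T * g * (Matrix.GeneralLinearGroup.map (σ : F →+* F) T)⁻¹) *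
        Matrix.GeneralLinearGroup.map (σ : F →+* F)
          ((s : ↥(isometryGroup F ⇑Q')) : Matrix.GeneralLinearGroup ι F) *
        (T * g * (Matrix.GeneralLinearGroup.map (σ : F →+* F) T)⁻¹)⁻¹ := by
    rw [map_mul, map_mul, map_inv]
    group
  rw [e, Units.val_mul, Units.val_mul]
  rfl

end transport

section good
variable {K K' : Type*} [Group K] [Group K']

theorem fixS_autCongr (ψ : K ≃* K') (x : MulAut K) :
    fixS (autCongr ψ x) = (fixS x).map ψ.toMonoidHom := by
  ext y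
  rw [mem_fixS, Subgroup.mem_map]
  constructor
  · intro h
    refine ⟨ψ.symm y, ?_, ψ.apply_symm_apply y⟩
    rw [mem_fixS]
    rw [autCongr_apply] at h
    apply ψ.injective
    rw [h, ψ.apply_symm_apply]
  · rintro ⟨z, hz, rfl⟩
    rw [mem_fixS] at hz
    rw [autCongr_apply]
    show ψ (x (ψ.symm (ψ z))) = ψ z
    rw [ψ.symm_apply_apply, hz]

theorem dfixS_autCongr (ψ : K ≃* K') (x : MulAut K) :
    dfixS (autCongr ψ x) = (dfixS x).map ψ.toMonoidHom := by
  unfold dfixS
  rw [Subgroup.map_commutator, fixS_autCongr]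

/-- the hypotheses of the abstract criterion are invariant under transport -/
theorem Good.of_autCongr {p : ℕ} (ψ : K ≃* K') (x : MulAut K) (h : Good p (autCongr ψ x)) :
    Good p x := by
  have hinj : Function.Injective ψ.toMonoidHom := ψ.injective
  have e1 : ↥(dfixS x) ≃* ↥(dfixS (autCongr ψ x)) :=
    ((dfixS x).equivMapOfInjective _ hinj).trans
      (MulEquiv.subgroupCongr (dfixS_autCongr ψ x).symm)
  have e2 : ↥(fixS x) ≃* ↥(fixS (autCongr ψ x)) :=
    ((fixS x).equivMapOfInjective _ hinj).trans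
      (MulEquiv.subgroupCongr (fixS_autCongr ψ x).symm)
  refine ⟨?_, ?_, ?_⟩
  · have := h.simple
    exact e1.isSimpleGroup
  · intro hd
    rw [Nat.card_congr e1.toEquiv]
    apply h.dvd
    rw [← Nat.card_congr e2.toEquiv]
    exact hd
  · intro β hβ
    have h1 : autCongr ψ β ∈ Subgroup.zpowers (autCongr ψ x) := by
      apply h.cent
      intro y hy
      rw [dfixS_autCongr] at hy
      obtain ⟨z, hz, rfl⟩ := hy
      rw [autCongr_apply]
      show ψ (β (ψ.symm (ψ z))) = ψ z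
      rw [ψ.symm_apply_apply, hβ z hz]
    obtain ⟨n, hn⟩ := Subgroup.mem_zpowers_iff.mp h1
    rw [Subgroup.mem_zpowers_iff]
    refine ⟨n, ?_⟩
    apply (autCongr ψ).injective
    rw [map_zpow]
    exact hn

end good

end Cfsg.Agent.Lib.Helper9.ALC
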