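import Mathlib
import Cfsg.Prelude
import Cfsg.Agent.Lib.Helper9.ALC14
import Cfsg.Agent.Lib.Helper5.ReflGenMat

set_option autoImplicit false
set_option linter.unusedSectionVars false
set_option linter.unusedVariables false
set_option linter.style.longLine false
set_option linter.unusedSimpArgs false
open Cfsg

namespace Cfsg.Agent.Lib.Helper9.ALC

/-! The fixed points of a standard field automorphism of odd prime order on `PΩ(Q)`, when the
centre of `Ω(Q)` may be non-trivial. -/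

open Module Matrix QuadraticMap Cfsg.Agent.Lib.Helper5.CartanDieudonne Cfsg.Agent.Lib.Helper5.Refl
  Cfsg.Agent.Lib.Helper5.OrthCard Cfsg.Agent.Lib.Helper5.Siegel Cfsg.Agent.Lib.Helper5.QuadIsom
  Cfsg.Agent.Lib.Helper5.ReflGen Cfsg.Agent.Lib.Helper5.Eichler Cfsg.Agent.Lib.Helper5.SingGeom
  Cfsg.Agent.Lib.Helper5.OmegaGen Cfsg.Agent.Lib.Helper5.OmegaSimple
  Cfsg.Agent.Lib.Helper9.AOR Cfsg.Agent.Lib.Helper9.AOF Cfsg.Agent.Lib.Helper5
  Cfsg.Agent.Lib.Helper9.ASP Cfsg.Agent.Lib.Helper2.Lbf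
open scoped Pointwise commutatorElement
open Cfsg.Agent.Lib.Helper5.OAut Cfsg.Agent.Lib.Helper5.SpinorHyp

section sq
variable {ι : Type} [Fintype ι] [DecidableEq ι] {F : Type*} [Field F]

/-- the square of an isometry lies in `Ω` -/
theorem sq_mem_Omega (Q : QuadraticForm F (ι → F)) (hQ : (polarBilin Q).Nondegenerate)
    (hex : Fintype.card ι = 4 → ∃ a : F, a ≠ 0 ∧ a ≠ 1) (s : ↥(isometryGroup F ⇑Q)) :
    s * s ∈ Omega F ⇑Q := by
  have key : ∀ t : ↥(isometryGroup F ⇑Q), t ∈ reflSubgroup Q →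
      Abelianization.of t * Abelianization.of t = 1 := by
    intro t ht
    unfold reflSubgroup at ht
    induction ht using Subgroup.closure_induction with
    | mem g hg =>
      obtain ⟨v, hv, hgv⟩ := hg
      have h1 : g * g = 1 := by
        apply Subtype.ext
        apply Units.ext
        show ((g : Matrix.GeneralLinearGroup ι F) : Matrix ι ι F) *
          ((g : Matrix.GeneralLinearGroup ι F) : Matrix ι ι F) = 1
        rw [hgv]
        exact reflection_mul_self Q v hv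
      rw [← map_mul, h1, map_one]
    | one => rw [map_one, mul_one]
    | mul a b _ _ iha ihb =>
      rw [map_mul, mul_mul_mul_comm, iha, ihb, mul_one]
    | inv a _ iha =>
      rw [map_inv, ← mul_inv, iha, inv_one]
  have hs : s ∈ reflSubgroup Q := by
    rw [Cfsg.Agent.Lib.Helper5.ReflGenMat.reflSubgroup_eq_top Q hQ hex]
    exact Subgroup.mem_top s
  have h2 := key s hs
  rw [← map_mul] at h2
  show s * s ∈ commutator ↥(isometryGroup F ⇑Q)
  rw [← Abelianization.ker_of, MonoidHom.mem_ker]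
  exact h2

end sq

variable {ι : Type} [Fintype ι] [DecidableEq ι] {F : Type*} [Field F] [Fintype F]
  {F₀ : Type*} [Field F₀] [Fintype F₀] (j : F₀ →+* F)
  {Q : QuadraticForm F (ι → F)} (Q₀ : QuadraticForm F₀ (ι → F₀))
  (hbc : ∀ v₀, Q (hm j v₀) = j (Q₀ v₀))

/-- the fixed points of a standard field automorphism of odd order are rational -/
theorem fix_fO_desc' (H : Hyp Q) (σ : RingAut F) (hσQ : ∀ v, Q (vm σ v) = σ (Q v))
    (hι : ∀ a : F, σ a = a ↔ a ∈ Set.range j) (p : ℕ) (hodd : Odd p) (hσp : σ ^ p = 1)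
    (y : POmega F ⇑Q) (hy : y ∈ fixS (fO σ hσQ)) :
    ∃ (s₀ : ↥(isometryGroup F₀ ⇑Q₀)) (h : JO j Q₀ hbc s₀ ∈ Omega F ⇑Q),
      y = pr Q ⟨JO j Q₀ hbc s₀, h⟩ := by
  obtain ⟨s, rfl⟩ := pr_surjective (Q := Q) y
  rw [mem_fixS] at hy
  unfold fO at hy
  rw [semiAut_pr] at hy
  obtain ⟨s', hs'⟩ : ∃ s' : ↥(Omega F ⇑Q), s' = restrictChar (Omega F ⇑Q)
      (semiAutO 1 σ 1 (fun v => by
        unfold sm
        rw [Units.val_one, Matrix.one_mulVec, one_mul]
        exact hσQ v)) s := ⟨_, rfl⟩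
  rw [← hs'] at hy
  have hs'c : ((s' : ↥(isometryGroup F ⇑Q)) : Matrix.GeneralLinearGroup ι F) =
      sGI σ ((s : ↥(isometryGroup F ⇑Q)) : Matrix.GeneralLinearGroup ι F) := by
    rw [hs']
    show (1 : Matrix.GeneralLinearGroup ι F) * _ * (1 : Matrix.GeneralLinearGroup ι F)⁻¹ = _
    rw [one_mul, inv_one, mul_one]
    rfl
  have hz : s⁻¹ * s' ∈ Subgroup.center ↥(Omega F ⇑Q) := (QuotientGroup.eq).mp hy.symm
  obtain ⟨a, haa, hact⟩ := center_scalar H _ hz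
  have hM : (((s⁻¹ * s' : ↥(Omega F ⇑Q)) : ↥(isometryGroup F ⇑Q)) :
      Matrix.GeneralLinearGroup ι F).1 = a • (1 : Matrix ι ι F) := by
    rw [ext_iff_mulVec]
    intro x
    rw [Matrix.smul_mulVec, Matrix.one_mulVec]
    exact hact x
  have h3 : (((s' : ↥(isometryGroup F ⇑Q)) : Matrix.GeneralLinearGroup ι F) : Matrix ι ι F) =
      a • (((s : ↥(isometryGroup F ⇑Q)) : Matrix.GeneralLinearGroup ι F) : Matrix ι ι F) := by
    have e : ((s' : ↥(isometryGroup F ⇑Q)) : Matrix.GeneralLinearGroup ι F) =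
        ((s : ↥(isometryGroup F ⇑Q)) : Matrix.GeneralLinearGroup ι F) *
          (((s⁻¹ * s' : ↥(Omega F ⇑Q)) : ↥(isometryGroup F ⇑Q)) :
            Matrix.GeneralLinearGroup ι F) := by
      show _ = ((s : ↥(isometryGroup F ⇑Q)) : Matrix.GeneralLinearGroup ι F) *
        (((s : ↥(isometryGroup F ⇑Q)) : Matrix.GeneralLinearGroup ι F)⁻¹ *
          ((s' : ↥(isometryGroup F ⇑Q)) : Matrix.GeneralLinearGroup ι F))
      rw [mul_inv_cancel_left]
    rw [e, Units.val_mul]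
    show _ * (((s⁻¹ * s' : ↥(Omega F ⇑Q)) : ↥(isometryGroup F ⇑Q)) :
      Matrix.GeneralLinearGroup ι F).1 = _
    rw [hM, Matrix.mul_smul, Matrix.mul_one]
  rw [hs'c, sGI_coe] at h3
  have hσa : σ a = a := by
    have h4 : (a - 1) * (a + 1) = 0 := by linear_combination haa
    rcases mul_eq_zero.mp h4 with h | h
    · rw [sub_eq_zero.mp h, map_one]
    · rw [eq_neg_of_add_eq_zero_left h, map_neg, map_one]
  have hfix : ∀ i k, σ ((((s : ↥(isometryGroup F ⇑Q)) : Matrix.GeneralLinearGroup ι F) :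
      Matrix ι ι F) i k) = (((s : ↥(isometryGroup F ⇑Q)) : Matrix.GeneralLinearGroup ι F) :
      Matrix ι ι F) i k := by
    intro i k
    have h4 : σ ((((s : ↥(isometryGroup F ⇑Q)) : Matrix.GeneralLinearGroup ι F) :
        Matrix ι ι F) i k) = a * (((s : ↥(isometryGroup F ⇑Q)) : Matrix.GeneralLinearGroup ι F) :
        Matrix ι ι F) i k := congrFun (congrFun h3 i) k
    apply fix_of_sq_fix σ p hodd hσp
    rw [h4, map_mul, hσa, h4, ← mul_assoc, haa, one_mul]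
  have hsG : sGI σ ((s : ↥(isometryGroup F ⇑Q)) : Matrix.GeneralLinearGroup ι F) =
      ((s : ↥(isometryGroup F ⇑Q)) : Matrix.GeneralLinearGroup ι F) := by
    apply Units.ext
    rw [sGI_coe]
    ext i k
    exact hfix i k
  obtain ⟨g₀, hg₀⟩ := exists_glmapI_eq σ j hι _ hsG
  have hg₀m : g₀ ∈ isometryGroup F₀ ⇑Q₀ :=
    (glmap_mem_iso_iff j Q₀ hbc g₀).mpr (by rw [hg₀]; exact s.1.2)
  have e : JO j Q₀ hbc ⟨g₀, hg₀m⟩ = s.1 := Subtype.ext hg₀
  refine ⟨⟨g₀, hg₀m⟩, by rw [e]; exact s.2, ?_⟩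
  congr 1
  apply Subtype.ext
  exact e.symm

/-- the kernel of the base change map to `PΩ(Q)` is the centre -/
theorem Lam_ker (H₀ : Hyp Q₀) :
    (Lam j Q₀ hbc).ker = Subgroup.center ↥(Omega F₀ ⇑Q₀) := by
  ext s₀
  rw [MonoidHom.mem_ker, Lam_apply]
  constructor
  · intro h
    have h1 : JΩ j Q₀ hbc s₀ ∈ Subgroup.center ↥(Omega F ⇑Q) :=
      (QuotientGroup.eq_one_iff _).mp h
    rw [Subgroup.mem_center_iff] at h1 ⊢
    intro t₀
    apply JΩ_injective j Q₀ hbc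
    rw [map_mul, map_mul]
    exact h1 _
  · intro h
    obtain ⟨a, haa, hact⟩ := center_scalar H₀ s₀ h
    have hM : (((s₀ : ↥(isometryGroup F₀ ⇑Q₀)) : Matrix.GeneralLinearGroup ι F₀) :
        Matrix ι ι F₀) = a • (1 : Matrix ι ι F₀) := by
      rw [ext_iff_mulVec]
      intro x
      rw [Matrix.smul_mulVec, Matrix.one_mulVec]
      exact hact x
    have hJ : ((((JΩ j Q₀ hbc s₀ : ↥(Omega F ⇑Q)) : ↥(isometryGroup F ⇑Q)) :
        Matrix.GeneralLinearGroup ι F) : Matrix ι ι F) = j a • (1 : Matrix ι ι F) := by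
      show (((s₀ : ↥(isometryGroup F₀ ⇑Q₀)) : Matrix.GeneralLinearGroup ι F₀) :
        Matrix ι ι F₀).map j = _
      rw [hM]
      ext i k
      rw [Matrix.map_apply, Matrix.smul_apply, Matrix.smul_apply, Matrix.one_apply,
        Matrix.one_apply, smul_eq_mul, smul_eq_mul, map_mul]
      split_ifs
      · rw [map_one]
      · rw [map_zero]
    apply (QuotientGroup.eq_one_iff _).mpr
    rw [Subgroup.mem_center_iff]
    intro g
    apply Subtype.ext
    apply Subtype.ext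
    apply Units.ext
    show (((g : ↥(isometryGroup F ⇑Q)) : Matrix.GeneralLinearGroup ι F) : Matrix ι ι F) *
      ((((JΩ j Q₀ hbc s₀ : ↥(Omega F ⇑Q)) : ↥(isometryGroup F ⇑Q)) :
        Matrix.GeneralLinearGroup ι F) : Matrix ι ι F) =
      ((((JΩ j Q₀ hbc s₀ : ↥(Omega F ⇑Q)) : ↥(isometryGroup F ⇑Q)) :
        Matrix.GeneralLinearGroup ι F) : Matrix ι ι F) *
      (((g : ↥(isometryGroup F ⇑Q)) : Matrix.GeneralLinearGroup ι F) : Matrix ι ι F)
    rw [hJ, Matrix.mul_smul, Matrix.smul_mul, Matrix.mul_one, Matrix.one_mul]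

/-- the image of `Ω(Q₀)` in `PΩ(Q)` is simple -/
theorem simple_Lam_range' (H₀ : Hyp Q₀) : IsSimpleGroup ↥(Lam j Q₀ hbc).range := by
  have hS₀ := isSimpleGroup_POmega H₀
  have e1 : ↥(Omega F₀ ⇑Q₀) ⧸ (Lam j Q₀ hbc).ker ≃* ↥(Lam j Q₀ hbc).range :=
    QuotientGroup.quotientKerEquivRange (Lam j Q₀ hbc)
  have e2 : ↥(Omega F₀ ⇑Q₀) ⧸ (Lam j Q₀ hbc).ker ≃* POmega F₀ ⇑Q₀ :=
    QuotientGroup.quotientMulEquivOfEq (Lam_ker j Q₀ hbc H₀)
  exact (e1.symm.trans e2).isSimpleGroup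

/-- the derived group of the fixed points -/
theorem dfix_fO_eq' (H : Hyp Q) (H₀ : Hyp Q₀) (σ : RingAut F)
    (hσQ : ∀ v, Q (vm σ v) = σ (Q v)) (hι : ∀ a : F, σ a = a ↔ a ∈ Set.range j)
    (p : ℕ) (hodd : Odd p) (hσp : σ ^ p = 1) :
    dfixS (fO σ hσQ) = (Lam j Q₀ hbc).range := by
  have hι' : ∀ b, σ (j b) = j b := fun b => (hι _).mpr ⟨b, rfl⟩
  have hperf₀ := perfect H₀
  apply le_antisymm
  · rw [Subgroup.commutator_le]
    intro y₁ hy₁ y₂ hy₂
    obtain ⟨t₁, h₁, rfl⟩ := fix_fO_desc' j Q₀ hbc H σ hσQ hι p hodd hσp y₁ hy₁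
    obtain ⟨t₂, h₂, rfl⟩ := fix_fO_desc' j Q₀ hbc H σ hσQ hι p hodd hσp y₂ hy₂
    refine ⟨⟨⁅t₁, t₂⁆, Subgroup.commutator_mem_commutator (Subgroup.mem_top _)
      (Subgroup.mem_top _)⟩, ?_⟩
    rw [Lam_apply, ← map_commutatorElement]
    congr 1
    apply Subtype.ext
    rw [JΩ_coe]
    show JO j Q₀ hbc ⁅t₁, t₂⁆ = ⁅JO j Q₀ hbc t₁, JO j Q₀ hbc t₂⁆
    rw [map_commutatorElement]
  · have h1 : (Lam j Q₀ hbc).range = ⁅(Lam j Q₀ hbc).range, (Lam j Q₀ hbc).range⁆ := by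
      conv_lhs => rw [MonoidHom.range_eq_map, ← hperf₀, commutator_def, Subgroup.map_commutator,
        ← MonoidHom.range_eq_map]
    rw [h1]
    exact Subgroup.commutator_mono (Lam_range_le_fix j Q₀ hbc σ hσQ hι')
      (Lam_range_le_fix j Q₀ hbc σ hσQ hι')

/-- an odd prime dividing the number of fixed points divides the order of the image of
`Ω(Q₀)` -/
theorem dvd_Lam_range' (H : Hyp Q) (hQ₀ : (polarBilin Q₀).Nondegenerate)
    (hex : Fintype.card ι = 4 → ∃ a : F₀, a ≠ 0 ∧ a ≠ 1) (σ : RingAut F)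
    (hσQ : ∀ v, Q (vm σ v) = σ (Q v)) (hι : ∀ a : F, σ a = a ↔ a ∈ Set.range j)
    (p : ℕ) [hp : Fact p.Prime] (hodd : Odd p) (hσp : σ ^ p = 1)
    (hd : p ∣ Nat.card ↥(fixS (fO σ hσQ))) : p ∣ Nat.card ↥(Lam j Q₀ hbc).range := by
  obtain ⟨y, hy⟩ := exists_prime_orderOf_dvd_card' p hd
  obtain ⟨s₀, h, hys⟩ := fix_fO_desc' j Q₀ hbc H σ hσQ hι p hodd hσp y.1 y.2
  have hsq := sq_mem_Omega Q₀ hQ₀ hex s₀
  have hmem : (y : POmega F ⇑Q) ^ 2 ∈ (Lam j Q₀ hbc).range := by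
    refine ⟨⟨s₀ * s₀, hsq⟩, ?_⟩
    rw [Lam_apply, hys, pow_two, ← map_mul]
    congr 1
    apply Subtype.ext
    show JO j Q₀ hbc (s₀ * s₀) = JO j Q₀ hbc s₀ * JO j Q₀ hbc s₀
    rw [map_mul]
  have hord : orderOf ((y : POmega F ⇑Q) ^ 2) = p := by
    have h1 : orderOf (y : POmega F ⇑Q) = p := by rw [Subgroup.orderOf_coe, hy]
    rw [Nat.Coprime.orderOf_pow, h1]
    rw [h1]
    exact (Nat.coprime_primes hp.out Nat.prime_two).mpr (by
      rintro rfl
      exact (Nat.not_odd_iff_even.mpr even_two) hodd)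
  rw [← hord]
  exact Subgroup.orderOf_dvd_natCard _ hmem

end Cfsg.Agent.Lib.Helper9.ALC
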