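import Mathlib
import Cfsg.Prelude
import Cfsg.Agent.Lib.Helper9.ALC15

set_option autoImplicit false
set_option linter.unusedSectionVars false
set_option linter.unusedVariables false
set_option linter.style.longLine false
set_option linter.unusedSimpArgs false
open Cfsg

namespace Cfsg.Agent.Lib.Helper9.ALC

/-! The centraliser of the image of `Ω(Q₀)` in the automorphism group of `PΩ(Q)`. -/

open Module Matrix QuadraticMap Cfsg.Agent.Lib.Helper5.CartanDieudonne Cfsg.Agent.Lib.Helper5.Refl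
  Cfsg.Agent.Lib.Helper5.OrthCard Cfsg.Agent.Lib.Helper5.Siegel Cfsg.Agent.Lib.Helper5.QuadIsom
  Cfsg.Agent.Lib.Helper5.ReflGen Cfsg.Agent.Lib.Helper5.Eichler Cfsg.Agent.Lib.Helper5.SingGeom
  Cfsg.Agent.Lib.Helper5.OmegaGen Cfsg.Agent.Lib.Helper5.OmegaSimple
  Cfsg.Agent.Lib.Helper9.AOR Cfsg.Agent.Lib.Helper9.AOF Cfsg.Agent.Lib.Helper5
  Cfsg.Agent.Lib.Helper9.ASP Cfsg.Agent.Lib.Helper2.Lbf
open scoped Pointwise commutatorElement
open Cfsg.Agent.Lib.Helper5.OAut Cfsg.Agent.Lib.Helper5.SpinorHyp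

variable {ι : Type} [Fintype ι] [DecidableEq ι] {F : Type*} [Field F] [Fintype F]
  {F₀ : Type*} [Field F₀] [Fintype F₀] (j : F₀ →+* F)
  {Q : QuadraticForm F (ι → F)} (Q₀ : QuadraticForm F₀ (ι → F₀))
  (hbc : ∀ v₀, Q (hm j v₀) = j (Q₀ v₀))

omit [Fintype F] [Fintype F₀] in
/-- nondegeneracy, tested on the standard basis -/
theorem eq_zero_of_polar_single (hQ : (polarBilin Q).Nondegenerate) (w : ι → F)
    (h : ∀ l, polar ⇑Q (Pi.single l 1) w = 0) : w = 0 := by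
  apply hQ.2 w
  have hlin : (polarBilin Q).flip w = 0 := by
    apply (Pi.basisFun F ι).ext
    intro l
    rw [Pi.basisFun_apply, LinearMap.flip_apply, polarBilin_apply_apply, h l]
    rfl
  intro x
  have h1 := LinearMap.congr_fun hlin x
  rw [LinearMap.flip_apply] at h1
  exact h1

omit [Fintype ι] [DecidableEq ι] [Fintype F] [Fintype F₀] in
/-- a rational vector proportional to a rational vector is so over the subfield -/
theorem rational_of_smul (u₀ z₀ : ι → F₀) (hu₀0 : u₀ ≠ 0) (t : F)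
    (h : hm j z₀ = t • hm j u₀) : ∃ t₀ : F₀, z₀ = t₀ • u₀ := by
  obtain ⟨l, hl⟩ : ∃ l, u₀ l ≠ 0 := by
    by_contra hcon
    push Not at hcon
    exact hu₀0 (funext hcon)
  have h1 : j (z₀ l) = t * j (u₀ l) := congrFun h l
  have hjl : j (u₀ l) ≠ 0 := (map_ne_zero j).mpr hl
  have ht : t = j (z₀ l / u₀ l) := by
    rw [map_div₀, h1]
    field_simp
  refine ⟨z₀ l / u₀ l, ?_⟩
  apply hm_injective j
  rw [hm_smul, ← ht, h]

/-- base change of the Eichler elements -/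
theorem JΩ_eo (H : Hyp Q) (H₀ : Hyp Q₀) (u₀ z₀ : ι → F₀) (hu₀ : Q₀ u₀ = 0)
    (huz₀ : polar ⇑Q₀ u₀ z₀ = 0) (hu : Q (hm j u₀) = 0)
    (huz : polar ⇑Q (hm j u₀) (hm j z₀) = 0) :
    JΩ j Q₀ hbc (eo H₀ u₀ z₀ hu₀ huz₀) = eo H (hm j u₀) (hm j z₀) hu huz := by
  apply Subtype.ext
  apply Subtype.ext
  apply Units.ext
  apply matrix_ext_rational j
  intro x₀
  have h1 : ((((JΩ j Q₀ hbc (eo H₀ u₀ z₀ hu₀ huz₀) : ↥(Omega F ⇑Q)) : ↥(isometryGroup F ⇑Q)) :
      Matrix.GeneralLinearGroup ι F) : Matrix ι ι F) *ᵥ hm j x₀ =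
      hm j (act Q₀ (eich Q₀ u₀ z₀ hu₀ huz₀) x₀) := by
    rw [hm_mulVec]
    rfl
  have h2 : ((((eo H (hm j u₀) (hm j z₀) hu huz : ↥(Omega F ⇑Q)) : ↥(isometryGroup F ⇑Q)) :
      Matrix.GeneralLinearGroup ι F) : Matrix ι ι F) *ᵥ hm j x₀ =
      act Q (eich Q (hm j u₀) (hm j z₀) hu huz) (hm j x₀) := rfl
  rw [h1, h2, act_eich', act_eich', hm_add, hm_add, hm_smul, hm_smul, polar_hm j Q₀ hbc,
    polar_hm j Q₀ hbc, hbc, map_neg, map_add, map_mul]

/-- an automorphism centralising the image of `Ω(Q₀)` fixes every rational singular point -/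
theorem rat_fix (r : ℕ) [Fact r.Prime] [CharP F r] (H : Hyp Q) (H₀ : Hyp Q₀)
    (hQ : (polarBilin Q).Nondegenerate) (hQ₀ : (polarBilin Q₀).Nondegenerate)
    (g : Matrix.GeneralLinearGroup ι F) (τ : F ≃+* F) (c : F) (hc : c ≠ 0)
    (hg : ∀ v, Q (sm g τ v) = c * τ (Q v))
    (hβ : ∀ y ∈ (Lam j Q₀ hbc).range, semiAut g τ c hg y = y)
    (u₀ : ι → F₀) (hu₀0 : u₀ ≠ 0) (hu₀ : Q₀ u₀ = 0) :
    ∃ t : F, sm g τ (hm j u₀) = t • hm j u₀ := by
  have hu : Q (hm j u₀) = 0 := by rw [hbc, hu₀, map_zero]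
  have hu0 : hm j u₀ ≠ 0 := by
    intro h
    rw [← hm_zero j] at h
    exact hu₀0 (hm_injective j h)
  obtain ⟨y, hy⟩ : ∃ y, y = sm g τ (hm j u₀) := ⟨_, rfl⟩
  rw [← hy]
  have hQy : Q y = 0 := by rw [hy, hg, hu, map_zero, mul_zero]
  have key : ∀ (z₀ : ι → F₀) (hz₀ : polar ⇑Q₀ u₀ z₀ = 0)
      (huz : polar ⇑Q (hm j u₀) (hm j z₀) = 0),
      act Q (eich Q (hm j u₀) (hm j z₀) hu huz) y = y := by
    intro z₀ hz₀ huz
    have hyz' : polar ⇑Q y (c⁻¹ • sm g τ (hm j z₀)) = 0 := by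
      rw [hy, polar_smul_right, polar_sm g τ c hg, huz, map_zero, mul_zero, smul_zero]
    have h1 := hβ (Lam j Q₀ hbc (eo H₀ u₀ z₀ hu₀ hz₀)) ⟨_, rfl⟩
    rw [Lam_apply, JΩ_eo j Q₀ hbc H H₀ u₀ z₀ hu₀ hz₀ hu huz, pr_eo,
      semiAut_pe g τ c hg H hc (hm j u₀) (hm j z₀) hu huz, ← hy] at h1
    unfold pe at h1
    rw [eoT_eq H _ _ hQy hyz', eoT_eq H _ _ hu huz] at h1
    have h2 := pr_eq_of_pow r H _ _ (eo_pow_char r H _ _ hQy hyz') (eo_pow_char r H _ _ hu huz) h1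
    have h3 := congrArg (fun s : ↥(Omega F ⇑Q) => act Q s.1 y) h2
    simp only [eo_val] at h3
    rw [act_eich_self] at h3
    exact h3.symm
  have huzof : ∀ z₀ : ι → F₀, polar ⇑Q₀ u₀ z₀ = 0 → polar ⇑Q (hm j u₀) (hm j z₀) = 0 := by
    intro z₀ h
    rw [polar_hm j Q₀ hbc, h, map_zero]
  -- `y` is orthogonal to `u`
  have huy : polar ⇑Q (hm j u₀) y = 0 := by
    obtain ⟨z0, hz0, -, hz0n⟩ := exists_not_smul H₀ u₀ hu₀
    have hzn : ¬ ∃ t : F, hm j z0 = t • hm j u₀ := by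
      rintro ⟨t, ht⟩
      exact hz0n (rational_of_smul j u₀ z0 hu₀0 t ht)
    exact (eich_fix_imp Q (hm j u₀) (hm j z0) hu (huzof z0 hz0) hu0 hzn y 1
      (by rw [one_smul]; exact key z0 hz0 (huzof z0 hz0))).1
  by_contra hprop
  have hperp : ∀ z₀ : ι → F₀, polar ⇑Q₀ u₀ z₀ = 0 → polar ⇑Q (hm j z₀) y = 0 := by
    intro z₀ hz₀
    by_cases hzu : ∃ t : F, hm j z₀ = t • hm j u₀
    · obtain ⟨t, ht⟩ := hzu
      rw [ht, polar_smul_left, huy, smul_zero]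
    · rcases (eich_fix_imp Q (hm j u₀) (hm j z₀) hu (huzof z₀ hz₀) hu0 hzu y 1
        (by rw [one_smul]; exact key z₀ hz₀ (huzof z₀ hz₀))).2 with h | h
      · exact absurd h hprop
      · exact h
  obtain ⟨f₀, hf₀, huf₀⟩ := Cfsg.Agent.Lib.Helper9.AOR.exists_partner Q₀ hQ₀ u₀ hu₀0 hu₀
  apply hprop
  refine ⟨polar ⇑Q (hm j f₀) y, ?_⟩
  apply sub_eq_zero.mp
  apply eq_zero_of_polar_single hQ
  intro l
  obtain ⟨z₀, hz₀d⟩ : ∃ z₀ : ι → F₀, z₀ = Pi.single l 1 - polar ⇑Q₀ f₀ (Pi.single l 1) • u₀ -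
      polar ⇑Q₀ u₀ (Pi.single l 1) • f₀ := ⟨_, rfl⟩
  have hz₀ : polar ⇑Q₀ u₀ z₀ = 0 := by
    rw [hz₀d, polar_sub_right, polar_sub_right, polar_smul_right, polar_smul_right,
      polar_self_of_sing Q₀ u₀ hu₀, huf₀]
    simp
  have h1 := hperp z₀ hz₀
  rw [hz₀d, hm_sub', hm_sub', hm_smul, hm_smul, hm_single, polar_sub_left, polar_sub_left,
    polar_smul_left, polar_smul_left, huy, smul_zero, sub_zero] at h1
  rw [polar_sub_right, polar_smul_right, polar_comm ⇑Q (Pi.single l 1) (hm j u₀)]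
  have h2 : polar ⇑Q (hm j u₀) (Pi.single l 1) = j (polar ⇑Q₀ u₀ (Pi.single l 1)) := by
    rw [← polar_hm j Q₀ hbc, hm_single]
  rw [h2, smul_eq_mul, mul_comm]
  rw [smul_eq_mul] at h1
  exact h1

omit [Fintype F] [Fintype F₀] in
/-- a semilinear map fixing all rational singular points is a scalar, and its field automorphism
is trivial on the subfield -/
theorem cent_scalar {i : ℕ} {α β : Fin i → ι} (hfam₀ : IsHypFamily Q₀ α β) (hi : 2 ≤ i)
    (g : Matrix.GeneralLinearGroup ι F) (τ : F ≃+* F)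
    (star : ∀ u₀ : ι → F₀, u₀ ≠ 0 → Q₀ u₀ = 0 → ∃ t : F, sm g τ (hm j u₀) = t • hm j u₀) :
    (∀ s : F₀, τ (j s) = j s) ∧ ∃ a : F, a ≠ 0 ∧ (g : Matrix ι ι F) = a • 1 := by
  have hαβ : ∀ k l, α k ≠ β l := hfam₀.disj
  have hαα : ∀ k l, k ≠ l → α k ≠ α l := fun k l h => hfam₀.inj_α.ne h
  have hββ : ∀ k l, k ≠ l → β k ≠ β l := fun k l h => hfam₀.inj_β.ne h
  have hs0 : ∀ ρ : ι, (Pi.single ρ 1 : ι → F₀) ≠ 0 := by
    intro ρ h
    have := congrFun h ρ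
    rw [Pi.single_eq_same] at this
    exact one_ne_zero this
  have hs0' : ∀ ρ : ι, (Pi.single ρ 1 : ι → F) ≠ 0 := by
    intro ρ h
    have := congrFun h ρ
    rw [Pi.single_eq_same] at this
    exact one_ne_zero this
  have hA : ∀ k, ∃ t : F, sm g τ (Pi.single (α k) 1) = t • Pi.single (α k) 1 := by
    intro k
    have h := star (Pi.single (α k) 1) (hs0 _) (hfam₀.sing_α k)
    rwa [hm_single] at h
  have hB : ∀ k, ∃ t : F, sm g τ (Pi.single (β k) 1) = t • Pi.single (β k) 1 := by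
    intro k
    have h := star (Pi.single (β k) 1) (hs0 _) (hfam₀.sing_β k)
    rwa [hm_single] at h
  choose a ha using hA
  choose b hb using hB
  have hother : ∀ k : Fin i, ∃ l : Fin i, k ≠ l := by
    intro k
    by_cases h : k = ⟨0, by omega⟩
    · refine ⟨⟨1, by omega⟩, ?_⟩
      rw [h]
      intro h'
      have := congrArg Fin.val h'
      simp at this
    · exact ⟨⟨0, by omega⟩, h⟩
  have ha0 : ∀ k, a k ≠ 0 := by
    intro k h0
    have h1 := ha k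
    rw [h0, zero_smul, ← sm_zero g τ] at h1
    exact hs0' _ (sm_injective g τ h1)
  have h2 : ∀ k l, k ≠ l → ∀ s : F₀, τ (j s) * a l = a k * j s := by
    intro k l hkl s
    obtain ⟨u₀, hu₀d⟩ : ∃ u₀ : ι → F₀, u₀ = Pi.single (α k) 1 + s • Pi.single (α l) 1 := ⟨_, rfl⟩
    have hu₀k : u₀ (α k) = 1 := by
      rw [hu₀d, Pi.add_apply, Pi.smul_apply, Pi.single_eq_same,
        Pi.single_eq_of_ne (hαα k l hkl), smul_zero, add_zero]
    have hu₀0 : u₀ ≠ 0 := by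
      intro h
      rw [h] at hu₀k
      exact zero_ne_one hu₀k
    have hQu : Q₀ u₀ = 0 := by
      rw [hu₀d, quad_add', QuadraticMap.map_smul, hfam₀.sing_α, hfam₀.sing_α, polar_smul_right,
        hfam₀.polar_α, Pi.single_eq_of_ne (hαβ l k).symm, smul_zero, smul_zero, add_zero, add_zero]
    obtain ⟨t, ht⟩ := star u₀ hu₀0 hQu
    rw [hu₀d, hm_add, hm_smul, hm_single, hm_single, sm_add, sm_smul, ha, ha] at ht
    have h1 := congrFun ht (α k)
    have h2 := congrFun ht (α l)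
    simp only [Pi.add_apply, Pi.smul_apply, smul_eq_mul, Pi.single_eq_same,
      Pi.single_eq_of_ne (hαα k l hkl), Pi.single_eq_of_ne (hαα k l hkl).symm, mul_one, mul_zero,
      add_zero, zero_add] at h1 h2
    linear_combination h2 - (j s) * h1
  have haeq : ∀ k l, a k = a l := by
    intro k l
    by_cases hkl : k = l
    · rw [hkl]
    · have h := h2 k l hkl 1
      rw [map_one, map_one, one_mul, mul_one] at h
      exact h.symm
  have hτ : ∀ s : F₀, τ (j s) = j s := by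
    intro s
    obtain ⟨l, hl⟩ := hother ⟨0, by omega⟩
    have h := h2 _ l hl s
    rw [haeq ⟨0, by omega⟩ l, mul_comm] at h
    exact mul_left_cancel₀ (ha0 l) h
  have h3 : ∀ k l, k ≠ l → a k = b l := by
    intro k l hkl
    obtain ⟨u₀, hu₀d⟩ : ∃ u₀ : ι → F₀, u₀ = Pi.single (α k) 1 + Pi.single (β l) 1 := ⟨_, rfl⟩
    have hu₀k : u₀ (α k) = 1 := by
      rw [hu₀d, Pi.add_apply, Pi.single_eq_same, Pi.single_eq_of_ne (hαβ k l), add_zero]
    have hu₀0 : u₀ ≠ 0 := by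
      intro h
      rw [h] at hu₀k
      exact zero_ne_one hu₀k
    have hQu : Q₀ u₀ = 0 := by
      rw [hu₀d, quad_add', hfam₀.sing_α, hfam₀.sing_β, hfam₀.polar_α,
        Pi.single_eq_of_ne (hββ k l hkl), add_zero, add_zero]
    obtain ⟨t, ht⟩ := star u₀ hu₀0 hQu
    rw [hu₀d, hm_add, hm_single, hm_single, sm_add, ha, hb] at ht
    have h1 := congrFun ht (α k)
    have h2 := congrFun ht (β l)
    simp only [Pi.add_apply, Pi.smul_apply, smul_eq_mul, Pi.single_eq_same,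
      Pi.single_eq_of_ne (hαβ k l), Pi.single_eq_of_ne (hαβ k l).symm, mul_one, mul_zero,
      add_zero, zero_add] at h1 h2
    rw [h1, h2]
  obtain ⟨a₀, ha₀d⟩ : ∃ a₀ : F, a₀ = a ⟨0, by omega⟩ := ⟨_, rfl⟩
  have hak : ∀ k, a k = a₀ := fun k => by rw [ha₀d]; exact haeq _ _
  have hbk : ∀ k, b k = a₀ := by
    intro l
    obtain ⟨k, hk⟩ := hother l
    rw [← h3 k l hk.symm, hak]
  have h4 : ∀ ρ : ι, (∀ k, ρ ≠ α k) → (∀ k, ρ ≠ β k) →
      sm g τ (Pi.single ρ 1) = a₀ • Pi.single ρ 1 := by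
    intro ρ hρα hρβ
    obtain ⟨W, hW⟩ : ∃ W, W = sm g τ (Pi.single ρ 1) := ⟨_, rfl⟩
    rw [← hW]
    obtain ⟨y, hy⟩ : ∃ y : F₀, y = -Q₀ (Pi.single ρ 1) := ⟨_, rfl⟩
    have hE : ∀ k, ∃ t : F, a₀ • Pi.single (α k) 1 + j y • a₀ • Pi.single (β k) 1 + W =
        t • (Pi.single (α k) 1 + j y • Pi.single (β k) 1 + Pi.single ρ 1) := by
      intro k
      obtain ⟨u₀, hu₀d⟩ : ∃ u₀ : ι → F₀,
        u₀ = Pi.single (α k) 1 + y • Pi.single (β k) 1 + Pi.single ρ 1 := ⟨_, rfl⟩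
      have hu₀k : u₀ (α k) = 1 := by
        rw [hu₀d]
        simp only [Pi.add_apply, Pi.smul_apply, Pi.single_eq_same, Pi.single_eq_of_ne (hαβ k k),
          Pi.single_eq_of_ne (hρα k).symm, smul_zero, add_zero]
      have hu₀0 : u₀ ≠ 0 := by
        intro h
        rw [h] at hu₀k
        exact zero_ne_one hu₀k
      have e1 : Q₀ (Pi.single (α k) 1 + y • Pi.single (β k) 1) = y := by
        rw [quad_add', QuadraticMap.map_smul, hfam₀.sing_α, hfam₀.sing_β, polar_smul_right,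
          hfam₀.polar_α, Pi.single_eq_same]
        simp
      have e2 : polar ⇑Q₀ (Pi.single (α k) 1 + y • Pi.single (β k) 1) (Pi.single ρ 1) = 0 := by
        rw [polar_add_left, polar_smul_left, hfam₀.polar_α, hfam₀.polar_β,
          Pi.single_eq_of_ne (hρβ k).symm, Pi.single_eq_of_ne (hρα k).symm, smul_zero, add_zero]
      have hQu : Q₀ u₀ = 0 := by
        rw [hu₀d, quad_add', e1, e2, hy]
        simp
      obtain ⟨t, ht⟩ := star u₀ hu₀0 hQu
      refine ⟨t, ?_⟩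
      rw [hu₀d, hm_add, hm_add, hm_smul, hm_single, hm_single, hm_single, sm_add, sm_add, sm_smul,
        ha, hb, hak, hbk, hτ y, ← hW] at ht
      exact ht
    have hWα : ∀ l, W (α l) = 0 := by
      intro l
      obtain ⟨k, hk⟩ := hother l
      obtain ⟨t, ht⟩ := hE k
      have h1 := congrFun ht (α l)
      simp only [Pi.add_apply, Pi.smul_apply, smul_eq_mul, Pi.single_eq_of_ne (hαα l k hk),
        Pi.single_eq_of_ne (hαβ l k), Pi.single_eq_of_ne (hρα l).symm, mul_zero, add_zero,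
        zero_add] at h1
      exact h1
    obtain ⟨t, ht⟩ := hE ⟨0, by omega⟩
    have h1 := congrFun ht (α ⟨0, by omega⟩)
    simp only [Pi.add_apply, Pi.smul_apply, smul_eq_mul, Pi.single_eq_same,
      Pi.single_eq_of_ne (hαβ _ _), Pi.single_eq_of_ne (hρα _).symm, mul_zero, add_zero,
      mul_one, hWα] at h1
    funext x
    have h5 := congrFun ht x
    simp only [Pi.add_apply, Pi.smul_apply, smul_eq_mul] at h5 ⊢
    rw [← h1] at h5
    linear_combination h5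
  have hall : ∀ ρ : ι, sm g τ (Pi.single ρ 1) = a₀ • Pi.single ρ 1 := by
    intro ρ
    by_cases h1 : ∃ k, ρ = α k
    · obtain ⟨k, rfl⟩ := h1
      rw [ha, hak]
    · by_cases h2 : ∃ k, ρ = β k
      · obtain ⟨k, rfl⟩ := h2
        rw [hb, hbk]
      · push Not at h1 h2
        exact h4 ρ h1 h2
  refine ⟨hτ, a₀, by rw [← hak ⟨0, by omega⟩]; exact ha0 _, ?_⟩
  ext x ρ
  have h := congrFun (hall ρ) x
  unfold sm at h
  rw [vm_single', Matrix.mulVec_single_one, Matrix.col_apply, Pi.smul_apply,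
    Pi.single_apply] at h
  rw [Matrix.smul_apply, Matrix.one_apply]
  exact h

/-- the centraliser of the rational subgroup in `Aut(PΩ(Q))` is generated by the field
automorphism -/
theorem cent_fO' (r : ℕ) [Fact r.Prime] [CharP F r] (H : Hyp Q) (H₀ : Hyp Q₀)
    (hγ : gammaPOmega F ⇑Q = ⊤)
    (hQ : (polarBilin Q).Nondegenerate) (hQ₀ : (polarBilin Q₀).Nondegenerate)
    {i : ℕ} {α β : Fin i → ι} (hfam₀ : IsHypFamily Q₀ α β) (hi : 2 ≤ i)
    {w₀ : ι → F} (hw₀ : Q w₀ = 1)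
    (hQfix : ∀ τ : RingAut F, (∀ t : F₀, τ (j t) = j t) → ∀ v, Q (vm τ v) = τ (Q v))
    (σ : RingAut F) (hσQ : ∀ v, Q (vm σ v) = σ (Q v))
    (hι : ∀ a : F, σ a = a → a ∈ Set.range j)
    (β' : MulAut (POmega F ⇑Q)) (hβ : ∀ y ∈ (Lam j Q₀ hbc).range, β' y = y) :
    β' ∈ Subgroup.zpowers (fO σ hσQ) := by
  obtain ⟨τ, g, c, hc, hg, rfl⟩ := SR_total hγ β'
  obtain ⟨hτfix, a, ha0, hga⟩ := cent_scalar j Q₀ hfam₀ hi g τ
    (fun u₀ hu₀0 hu₀ => rat_fix j Q₀ hbc r H H₀ hQ hQ₀ g τ c hc hg hβ u₀ hu₀0 hu₀)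
  have hτmem : τ ∈ Subgroup.zpowers σ :=
    Cfsg.Agent.Lib.Helper2.Lbf.mem_zpowers_of_fixes σ τ (fun a ha => by
      obtain ⟨t₀, rfl⟩ := hι a ha
      exact hτfix t₀)
  have h1 : SRg (semiAut g τ c hg) g τ := ⟨c, hc, hg, rfl⟩
  have h2 := SRg_scU (Units.mk0 a⁻¹ (inv_ne_zero ha0)) h1
  have h3 : scU (Units.mk0 a⁻¹ (inv_ne_zero ha0)) * g = 1 := by
    apply Units.ext
    rw [Units.val_mul, scU_coe, hga, Units.val_mk0, Matrix.smul_mul, Matrix.one_mul, smul_smul,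
      inv_mul_cancel₀ ha0, one_smul]
    rfl
  rw [h3] at h2
  have h4 := SRg_unique_left hw₀ h2 (SRg_fO τ (hQfix τ hτfix))
  rw [h4]
  haveI : Finite (RingAut F) := Cfsg.Agent.Lib.Helper9.APSL.finite_ringAut
  rw [← (isOfFinOrder_of_finite σ).mem_powers_iff_mem_zpowers] at hτmem
  obtain ⟨k, hk⟩ := (Submonoid.mem_powers_iff _ _).mp hτmem
  have hN : ∀ k : ℕ, NkI σ (1 : Matrix.GeneralLinearGroup ι F) k = 1 := by
    intro k
    induction k with
    | zero => exact NkI_zero σ 1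
    | succ k ih => rw [NkI_succ, ih, map_one, mul_one]
  have h5 := SRg_pow (SRg_fO σ hσQ) k
  rw [hN] at h5
  subst hk
  have h6 := SRg_unique_left hw₀ (SRg_fO (σ ^ k) (hQfix (σ ^ k) hτfix)) h5
  rw [h6]
  exact Subgroup.npow_mem_zpowers _ k

end Cfsg.Agent.Lib.Helper9.ALC
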