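import Mathlib
import Cfsg.Prelude
import Cfsg.Agent.Lib.Helper9.ALC16
import Cfsg.Agent.Lib.Helper9.ALB1
import Cfsg.Agent.Lib.Helper2.Lbf6
import Cfsg.Agent.Lib.Helper4.ScalarRes2

set_option autoImplicit false
set_option linter.unusedSectionVars false
set_option linter.unusedVariables false
set_option linter.style.longLine false
set_option linter.unusedSimpArgs false
open Cfsg

namespace Cfsg.Agent.Lib.Helper9.ALC

/-! Local balance for the minus type orthogonal groups: the assembly. -/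

open Module Matrix QuadraticMap Cfsg.Agent.Lib.Helper5.CartanDieudonne Cfsg.Agent.Lib.Helper5.Refl
  Cfsg.Agent.Lib.Helper5.OrthCard Cfsg.Agent.Lib.Helper5.Siegel Cfsg.Agent.Lib.Helper5.QuadIsom
  Cfsg.Agent.Lib.Helper5.ReflGen Cfsg.Agent.Lib.Helper5.Eichler Cfsg.Agent.Lib.Helper5.SingGeom
  Cfsg.Agent.Lib.Helper5.OmegaGen Cfsg.Agent.Lib.Helper5.OmegaSimple
  Cfsg.Agent.Lib.Helper9.AOR Cfsg.Agent.Lib.Helper9.AOF Cfsg.Agent.Lib.Helper5
  Cfsg.Agent.Lib.Helper9.ASP Cfsg.Agent.Lib.Helper2.Lbf Cfsg.Agent.Lib.Helper5.MaxTS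
open scoped Pointwise commutatorElement
open Cfsg.Agent.Lib.Helper5.OAut Cfsg.Agent.Lib.Helper5.SpinorHyp
open Cfsg.Agent.Lib.Helper9.APSL (finite_ringAut mem_fixed_subfield)
open Cfsg.Agent.Lib.Helper5.SpinorHyp2 Cfsg.Agent.Lib.Helper5.OrthPlane
  Cfsg.Agent.Lib.Helper5.SpinorNorm Cfsg.Agent.S0294

section general
variable {ι : Type} [Fintype ι] [DecidableEq ι] {F : Type*} [Field F] [Fintype F]
  {F₀ : Type*} [Field F₀] [Fintype F₀] (j : F₀ →+* F)
  {Q : QuadraticForm F (ι → F)} (Q₀ : QuadraticForm F₀ (ι → F₀))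
  (hbc : ∀ v₀, Q (hm j v₀) = j (Q₀ v₀))

include hbc in
/-- the standard field automorphism of odd prime order satisfies the hypotheses of the abstract
criterion -/
theorem good_fO' (r : ℕ) [Fact r.Prime] [CharP F r] (H : Hyp Q) (H₀ : Hyp Q₀)
    (hγ : gammaPOmega F ⇑Q = ⊤)
    (hQ : (polarBilin Q).Nondegenerate) (hQ₀ : (polarBilin Q₀).Nondegenerate)
    {i : ℕ} {α β : Fin i → ι} (hfam₀ : IsHypFamily Q₀ α β) (hi : 2 ≤ i)
    (hex : Fintype.card ι = 4 → ∃ a : F₀, a ≠ 0 ∧ a ≠ 1)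
    {w₀ : ι → F} (hw₀ : Q w₀ = 1)
    (hQfix : ∀ τ : RingAut F, (∀ t : F₀, τ (j t) = j t) → ∀ v, Q (vm τ v) = τ (Q v))
    (σ : RingAut F) (hσQ : ∀ v, Q (vm σ v) = σ (Q v))
    (hι : ∀ a : F, σ a = a ↔ a ∈ Set.range j)
    (p : ℕ) [Fact p.Prime] (hodd : Odd p) (hσp : σ ^ p = 1) :
    Good p (fO σ hσQ) := by
  have hD := dfix_fO_eq' j Q₀ hbc H H₀ σ hσQ hι p hodd hσp
  refine ⟨?_, ?_, ?_⟩
  · have := simple_Lam_range' j Q₀ hbc H₀
    exact (MulEquiv.subgroupCongr hD).isSimpleGroup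
  · intro hd
    rw [hD]
    exact dvd_Lam_range' j Q₀ hbc H hQ₀ hex σ hσQ hι p hodd hσp hd
  · intro β' hβ
    apply cent_fO' j Q₀ hbc r H H₀ hγ hQ hQ₀ hfam₀ hi hw₀ hQfix σ hσQ
      (fun a ha => (hι a).mp ha) β'
    intro y hy
    apply hβ
    rw [hD]
    exact hy

end general

section minus
variable {F : Type*} [Field F] [Fintype F] {m : ℕ}

/-- an automorphism induced by a similarity is not in the class of a field automorphism -/
theorem not_field_class_of_conjGO (r : ℕ) [Fact r.Prime] [CharP F r] (hm : 3 ≤ m)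
    {a b a' b' : F}
    (hab : ∀ z₁ z₂ : F, z₁ ^ 2 + a * z₁ * z₂ + b * z₂ ^ 2 = 0 → z₁ = 0 ∧ z₂ = 0)
    (hab' : ∀ z₁ z₂ : F, z₁ ^ 2 + a' * z₁ * z₂ + b' * z₂ ^ 2 = 0 → z₁ = 0 ∧ z₂ = 0)
    (q' : ((Fin m ⊕ Fin m) ⊕ Fin 2 → F) → F) (hq' : q' = ⇑(genForm (binForm a' b') m))
    (k₀ : ↥(Geo.quadSimilarityGroup (F := F) ⇑(genForm (binForm a b) m)))
    (ψ : POmega F ⇑(genForm (binForm a b) m) ≃* POmega F q') (σ : F ≃+* F)
    (hσ1 : σ ≠ RingEquiv.refl F) (hσa : σ a' = a') (hσb : σ b' = b')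
    (hφ : IsFieldAutPOmegaOf q' σ
      ((ψ.symm.trans (conjGO (genForm (binForm a b) m) k₀)).trans ψ)) : False := by
  subst hq'
  have H' := hyp_minus hm hab'
  have hγ' := gamma_minus_top r hm hab'
  have e1 : autCongr ψ (conjGO (genForm (binForm a b) m) k₀) =
      fO σ (minus_vm a' b' m σ hσa hσb) := eq_fO_of_stdField σ _ hφ
  obtain ⟨T, hT⟩ := exists_isometry_minus (m := m) hab hab'
  have e2 := autCongr_eq_conj ψ (psiT T hT) (conjGO (genForm (binForm a b) m) k₀)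
  rw [autCongr_psiT_conjGO, e1] at e2
  have e3 := congrArg (tauO r H' hγ') e2
  rw [map_mul, map_mul, map_inv] at e3
  have e4 : tauO r H' hγ' (conjGO (genForm (binForm a' b') m) (simT T hT k₀)) = 1 := by
    rw [← MonoidHom.mem_ker, tauO_ker]
    exact ⟨_, rfl⟩
  have e5 : tauO r H' hγ' (fO σ (minus_vm a' b' m σ hσa hσb)) = σ :=
    tauO_eq r H' hγ' ⟨1, 1, one_ne_zero, _, rfl⟩
  rw [e4, e5, mul_one, mul_inv_cancel] at e3
  exact hσ1 e3

/-- transport of the existence of a standardising isomorphism along an equality of forms -/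
theorem exists_field_class_of_eq {q₁ q₂ q' : ((Fin m ⊕ Fin m) ⊕ Fin 2 → F) → F} (hq' : q₂ = q')
    (x : MulAut (POmega F q₁)) (σ : F ≃+* F)
    (h : ∃ ψ : POmega F q₁ ≃* POmega F q₂,
      IsFieldAutPOmegaOf q₂ σ ((ψ.symm.trans x).trans ψ)) :
    ∃ ψ : POmega F q₁ ≃* POmega F q', IsFieldAutPOmegaOf q' σ ((ψ.symm.trans x).trans ψ) := by
  subst hq'
  exact h

set_option maxHeartbeats 1600000 in
/-- the case of a field automorphism of odd prime order -/
theorem minus_field_case (r : ℕ) [Fact r.Prime] [CharP F r] (hm : 3 ≤ m) (a b : F)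
    (hab : ∀ z₁ z₂ : F, z₁ ^ 2 + a * z₁ * z₂ + b * z₂ ^ 2 = 0 → z₁ = 0 ∧ z₂ = 0)
    {F₀ : Type*} [Field F₀] [Fintype F₀] (j : F₀ →+* F)
    (A : Subgroup (MulAut (POmega F ⇑(genForm (binForm a b) m))))
    (hinn : ∀ k : POmega F ⇑(genForm (binForm a b) m), MulAut.conj k ∈ A)
    {p : ℕ} [Fact p.Prime] (hoddp : Odd p)
    (x : MulAut (POmega F ⇑(genForm (binForm a b) m))) (hord : orderOf x = p)
    (σ : RingAut F) (hσ1 : σ ≠ RingEquiv.refl F) (hordσ : orderOf σ = p)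
    (hι : ∀ a : F, σ a = a ↔ a ∈ Set.range j)
    (g : Matrix.GeneralLinearGroup ((Fin m ⊕ Fin m) ⊕ Fin 2) F) (c : F) (hc : c ≠ 0)
    (hg : ∀ v, genForm (binForm a b) m (sm g σ v) = c * σ (genForm (binForm a b) m v))
    (hx : x = semiAut g σ c hg) :
    pPrimeCore p ↥(A ⊓ Subgroup.centralizer {x}) ≠ ⊥ ↔
      ((∃ (a' b' : F) (ψ : POmega F ⇑(genForm (binForm a b) m) ≃*
          POmega F (quadFormMinus m F a' b')) (σ : F ≃+* F),
        (∀ z₁ z₂ : F, z₁ ^ 2 + a' * z₁ * z₂ + b' * z₂ ^ 2 = 0 → z₁ = 0 ∧ z₂ = 0) ∧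
        σ ≠ RingEquiv.refl F ∧ σ a' = a' ∧ σ b' = b' ∧
        IsFieldAutPOmegaOf (quadFormMinus m F a' b') σ ((ψ.symm.trans x).trans ψ)) ∧
      Nat.Coprime p (Nat.card ↥(MonoidHom.eqLocus x.toMonoidHom
        (MonoidHom.id (POmega F ⇑(genForm (binForm a b) m)))))) := by
  have hp : p.Prime := Fact.out
  have hcard : Fintype.card ((Fin m ⊕ Fin m) ⊕ Fin 2) = 2 * (m + 1) := card_minus_index m
  have h5 : 5 ≤ Fintype.card ((Fin m ⊕ Fin m) ⊕ Fin 2) := by rw [hcard]; omega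
  have H := hyp_minus hm hab
  have : Nonempty ((Fin m ⊕ Fin m) ⊕ Fin 2) := ⟨Sum.inr 0⟩
  have hZK := center_POmega_eq_bot H
  have hxp : x ^ p = 1 := by rw [← hord]; exact pow_orderOf_eq_one x
  have hσp : σ ^ p = 1 := by rw [← hordσ]; exact pow_orderOf_eq_one σ
  have hι' : ∀ t : F₀, σ (j t) = j t := fun t => (hι _).mpr ⟨t, rfl⟩
  -- the form over the fixed field
  obtain ⟨a₀, c₀, hc₀⟩ : ∃ a₀ c₀ : F₀, ∀ z₁ z₂ : F₀,
      z₁ ^ 2 + a₀ * z₁ * z₂ + c₀ * z₂ ^ 2 = 0 → z₁ = 0 ∧ z₂ = 0 := by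
    obtain ⟨c₀, hc₀⟩ := Cfsg.Agent.Lib.Helper4.ScalarRes.exists_anisotropic (F := F₀)
    exact ⟨1, c₀, hc₀⟩
  have hab' := aniso_extend j σ (fun a ha => (hι a).mp ha) hι' p hoddp hσp a₀ c₀ hc₀
  have hσa : σ (j a₀) = j a₀ := hι' a₀
  have hσb : σ (j c₀) = j c₀ := hι' c₀
  have han' := anisotropic_of (j a₀) (j c₀) hab'
  have hQ' := genForm_nondegenerate _ (binForm_nondegenerate (j a₀) (j c₀) han') m
  have hfam' := genForm_hypFamily (binForm (j a₀) (j c₀)) (le_refl m)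
  have H' := hyp_minus hm hab'
  have hγ' := gamma_minus_top r hm hab'
  have hw₀' := quad_xvec (j a₀) (j c₀) m
  have han₀ := anisotropic_of a₀ c₀ hc₀
  have hQ₀ := genForm_nondegenerate _ (binForm_nondegenerate a₀ c₀ han₀) m
  have hfam₀ := genForm_hypFamily (binForm a₀ c₀) (le_refl m)
  have H₀ := hyp_minus hm hc₀
  have hσQ' := minus_vm (j a₀) (j c₀) m σ hσa hσb
  -- transport to the rational form
  obtain ⟨T, hT⟩ := exists_isometry_minus (m := m) hab hab'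
  obtain ⟨ψ₀, hψ₀⟩ : ∃ ψ₀ : POmega F ⇑(genForm (binForm a b) m) ≃*
      POmega F ⇑(genForm (binForm (j a₀) (j c₀)) m), ψ₀ = psiT T hT := ⟨_, rfl⟩
  have hx' : autCongr ψ₀ x = semiAut (T * g * (Matrix.GeneralLinearGroup.map (σ : F →+* F) T)⁻¹)
      σ c (quad_sm_conjT T hT g σ c hg) := by
    rw [hψ₀, hx]
    exact autCongr_psiT_semiAut T hT g σ c hg
  have hSRg : SRg (autCongr ψ₀ x)
      (T * g * (Matrix.GeneralLinearGroup.map (σ : F →+* F) T)⁻¹) σ := ⟨c, hc, _, hx'⟩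
  have hx'p : autCongr ψ₀ x ^ p = 1 := by rw [← map_pow, hxp]; exact map_one (autCongr ψ₀)
  have hdesc : ∀ g' : Matrix.GeneralLinearGroup ((Fin m ⊕ Fin m) ⊕ Fin 2) F,
      (∃ c : F, c ≠ 0 ∧ ∀ v, genForm (binForm (j a₀) (j c₀)) m (sm g' σ v) =
        c * σ (genForm (binForm (j a₀) (j c₀)) m v)) → NkI σ g' p = 1 →
      ∃ k : ↥(Geo.quadSimilarityGroup (F := F) ⇑(genForm (binForm (j a₀) (j c₀)) m)),
        g' * sGI σ (k : Matrix.GeneralLinearGroup ((Fin m ⊕ Fin m) ⊕ Fin 2) F) = k :=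
    fun g' hg' hN => exists_orth_descent_minus (j a₀) (j c₀) m hab' σ hσa hσb p hp.pos hordσ g' hg' hN
  obtain ⟨k, hk⟩ := conj_field_gen hQ' hfam' hm h5 hw₀' σ hσQ' p hp.pos hordσ hdesc
    (autCongr ψ₀ x) (T * g * (Matrix.GeneralLinearGroup.map (σ : F →+* F) T)⁻¹) hSRg hx'p
  have hbc : ∀ v₀, genForm (binForm (j a₀) (j c₀)) m (Cfsg.Agent.Lib.Helper9.AOF.hm j v₀) =
      j (genForm (binForm a₀ c₀) m v₀) :=
    minus_hm j a₀ c₀ m
  have hex : Fintype.card ((Fin m ⊕ Fin m) ⊕ Fin 2) = 4 → ∃ a : F₀, a ≠ 0 ∧ a ≠ 1 := by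
    intro h
    rw [hcard] at h
    omega
  have hQfix : ∀ τ : RingAut F, (∀ t : F₀, τ (j t) = j t) →
      ∀ v, genForm (binForm (j a₀) (j c₀)) m (vm τ v) = τ (genForm (binForm (j a₀) (j c₀)) m v) :=
    fun τ hτ v => minus_vm (j a₀) (j c₀) m τ (hτ a₀) (hτ c₀) v
  have hm2 : 2 ≤ m := by omega
  have hgood' : Good p (fO σ hσQ') :=
    good_fO' (Q := genForm (binForm (j a₀) (j c₀)) m) j (genForm (binForm a₀ c₀) m) hbc r H' H₀
      hγ' hQ' hQ₀ hfam₀ hm2 hex hw₀' hQfix σ hσQ' hι p hoddp hσp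
  have hgoodx' : Good p (autCongr ψ₀ x) := by
    rw [hk]
    exact hgood'.conj _
  have hgoodx : Good p x := Good.of_autCongr ψ₀ x hgoodx'
  have hiff := core_ne_bot_iff A x hinn hZK hp hord hgoodx
  rw [hiff]
  constructor
  · intro h
    refine ⟨?_, h⟩
    refine ⟨j a₀, j c₀, ?_⟩
    have hex : ∃ ψ : POmega F ⇑(genForm (binForm a b) m) ≃*
        POmega F ⇑(genForm (binForm (j a₀) (j c₀)) m),
        IsFieldAutPOmegaOf ⇑(genForm (binForm (j a₀) (j c₀)) m) σ ((ψ.symm.trans x).trans ψ) := by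
      refine ⟨ψ₀.trans ((conjGO (genForm (binForm (j a₀) (j c₀)) m) k)⁻¹ :
        MulAut (POmega F ⇑(genForm (binForm (j a₀) (j c₀)) m))), ?_⟩
      have e1 := autCongr_eq_conj (ψ₀.trans ((conjGO (genForm (binForm (j a₀) (j c₀)) m) k)⁻¹ :
        MulAut (POmega F ⇑(genForm (binForm (j a₀) (j c₀)) m)))) ψ₀ x
      have e2 : (ψ₀.symm.trans (ψ₀.trans ((conjGO (genForm (binForm (j a₀) (j c₀)) m) k)⁻¹ :
          MulAut (POmega F ⇑(genForm (binForm (j a₀) (j c₀)) m)))) :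
          MulAut (POmega F ⇑(genForm (binForm (j a₀) (j c₀)) m))) =
          (conjGO (genForm (binForm (j a₀) (j c₀)) m) k)⁻¹ := by
        apply MulEquiv.ext
        intro y
        simp
      rw [e2, hk] at e1
      have e3 : autCongr (ψ₀.trans ((conjGO (genForm (binForm (j a₀) (j c₀)) m) k)⁻¹ :
          MulAut (POmega F ⇑(genForm (binForm (j a₀) (j c₀)) m)))) x = fO σ hσQ' := by
        rw [e1]
        group
      have e4 := isFieldAut_fO σ hσQ'
      rw [← e3] at e4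
      exact e4
    obtain ⟨ψ, hψ⟩ := exists_field_class_of_eq (genForm_coe_minus (j a₀) (j c₀) m) x σ hex
    exact ⟨ψ, σ, hab', hσ1, hσa, hσb, hψ⟩
  · intro h
    exact h.2

set_option maxHeartbeats 1600000 in
/-- **S2733, core form** -/
theorem minus_local_balance_core (r : ℕ) [Fact r.Prime] [CharP F r] (hm : 3 ≤ m) (a b : F)
    (hab : ∀ z₁ z₂ : F, z₁ ^ 2 + a * z₁ * z₂ + b * z₂ ^ 2 = 0 → z₁ = 0 ∧ z₂ = 0)
    (q : ((Fin m ⊕ Fin m) ⊕ Fin 2 → F) → F) (hq : q = ⇑(genForm (binForm a b) m))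
    (A : Subgroup (MulAut (POmega F q))) (hinn : ∀ k : POmega F q, MulAut.conj k ∈ A)
    {p : ℕ} [Fact p.Prime] (hpr : p ≠ r) (x : MulAut (POmega F q)) (hxA : x ∈ A)
    (hord : orderOf x = p)
    (hnot : ¬ ∃ g : Matrix.GeneralLinearGroup ((Fin m ⊕ Fin m) ⊕ Fin 2) F,
      g ∈ Geo.quadSimilarityGroup (F := F) q ∧
      PreservesSingularClassesMinus m a b
        (g : Matrix ((Fin m ⊕ Fin m) ⊕ Fin 2) ((Fin m ⊕ Fin m) ⊕ Fin 2) F) ∧
      IsInducedBySemilinearPOmega q g (RingEquiv.refl F) x) :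
    pPrimeCore p ↥(A ⊓ Subgroup.centralizer {x}) ≠ ⊥ ↔
      ((∃ (a' b' : F) (ψ : POmega F q ≃* POmega F (quadFormMinus m F a' b')) (σ : F ≃+* F),
        (∀ z₁ z₂ : F, z₁ ^ 2 + a' * z₁ * z₂ + b' * z₂ ^ 2 = 0 → z₁ = 0 ∧ z₂ = 0) ∧
        σ ≠ RingEquiv.refl F ∧ σ a' = a' ∧ σ b' = b' ∧
        IsFieldAutPOmegaOf (quadFormMinus m F a' b') σ ((ψ.symm.trans x).trans ψ)) ∧
      Nat.Coprime p (Nat.card ↥(MonoidHom.eqLocus x.toMonoidHom
        (MonoidHom.id (POmega F q))))) := by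
  subst hq
  have hp : p.Prime := Fact.out
  have han := anisotropic_of a b hab
  have hQ := genForm_nondegenerate _ (binForm_nondegenerate a b han) m
  have hfam := genForm_hypFamily (binForm a b) (le_refl m)
  have hcard : Fintype.card ((Fin m ⊕ Fin m) ⊕ Fin 2) = 2 * (m + 1) := card_minus_index m
  have h5 : 5 ≤ Fintype.card ((Fin m ⊕ Fin m) ⊕ Fin 2) := by rw [hcard]; omega
  have H := hyp_minus hm hab
  have hγ := gamma_minus_top r hm hab
  have hw₀ := quad_xvec a b m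
  have : Nonempty ((Fin m ⊕ Fin m) ⊕ Fin 2) := ⟨Sum.inr 0⟩
  have hxp : x ^ p = 1 := by rw [← hord]; exact pow_orderOf_eq_one x
  have hP := isCls_PMi' hm hab
  have h2of : p = 2 → (2 : F) ≠ 0 := by
    intro hp2 h
    have h' : ((2 : ℕ) : F) = 0 := by exact_mod_cast h
    rw [CharP.cast_eq_zero_iff F r 2] at h'
    rcases (Nat.dvd_prime Nat.prime_two).mp h' with h1 | h1
    · exact (Fact.out : r.Prime).one_lt.ne' h1
    · exact hpr (hp2.trans h1.symm)
  -- `x` is not inner-diagonal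
  have hxD : x ∉ Dcls hP := by
    rintro ⟨g, hg0, rfl⟩
    apply hnot
    refine ⟨(g : Matrix.GeneralLinearGroup ((Fin m ⊕ Fin m) ⊕ Fin 2) F), g.2, hg0, ?_⟩
    intro s s' hs
    rw [conjGO_mk]
    congr 1
    apply Subtype.ext
    apply Subtype.ext
    apply Units.ext
    rw [hs, map_refl]
    rfl
  obtain ⟨σ, g, c, hc, hg, hx⟩ := SR_total hγ x
  have hτ : tauO r H hγ x = σ := tauO_eq r H hγ ⟨g, c, hc, hg, hx⟩
  have hσp : σ ^ p = 1 := by
    rw [← hτ, ← map_pow, hxp]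
    exact map_one (tauO r H hγ)
  by_cases hσ1 : σ = RingEquiv.refl F
  · -- graph automorphisms
    have hker : x ∈ (tauO r H hγ).ker := by
      rw [MonoidHom.mem_ker, hτ, hσ1]
      rfl
    rw [tauO_ker] at hker
    obtain ⟨k₀, hk₀⟩ := hker
    have hnP : ¬ PMi a b m (k₀ : Matrix.GeneralLinearGroup ((Fin m ⊕ Fin m) ⊕ Fin 2) F) := by
      intro h
      apply hxD
      rw [← hk₀]
      exact (conjGO_mem_Dcls_iff hQ hfam hm h5 hw₀ hP k₀).mpr h
    have hx2 : x * x ∈ Dcls hP := by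
      rw [← hk₀, ← map_mul]
      exact (conjGO_mem_Dcls_iff hQ hfam hm h5 hw₀ hP (k₀ * k₀)).mpr
        (hP.idx _ _ k₀.2 k₀.2 hnP hnP)
    have hp2 : p = 2 := by
      rcases hp.eq_two_or_odd' with h | ⟨l, hl⟩
      · exact h
      · exfalso
        apply hxD
        have e : x = x ^ p * ((x * x) ^ l)⁻¹ := by
          rw [hl, pow_succ', ← pow_two, ← pow_mul, mul_inv_cancel_right]
        rw [e, hxp, one_mul]
        exact inv_mem (pow_mem hx2 l)
    have h2 := h2of hp2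
    have hnPd : ¬ Pdet (genForm (binForm a b) m) (xvec m) (m + 1)
        (k₀ : Matrix.GeneralLinearGroup ((Fin m ⊕ Fin m) ⊕ Fin 2) F) :=
      fun h => hnP ((pscm_iff_Pdet h2 hab hw₀ _ k₀.2).mpr h)
    have hsq : conjGO (genForm (binForm a b) m) k₀ * conjGO (genForm (binForm a b) m) k₀ = 1 := by
      rw [hk₀, ← pow_two]
      rw [hp2] at hxp
      exact hxp
    constructor
    · intro hL
      exfalso
      obtain ⟨N, hNle, hN0, hNn, hNc⟩ :=
        (Cfsg.Agent.Lib.Helper9.ALB.pPrimeCore_ne_bot_iff _ p).mp hL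
      apply hN0
      have hodd : Odd (Nat.card ↥N) := by
        rw [hp2] at hNc
        exact Nat.coprime_two_right.mp hNc
      rw [← hk₀] at hNle hNn
      exact graph_trivial r h2 hQ hfam hm h5 hw₀ hγ (m + 1) hcard (by omega)
        (fun Y hY hle => no_lagrangian_genForm _ han m hQ Y hY hle) k₀ hsq hnPd A hinn N hNle
        hNn hodd
    · rintro ⟨⟨a', b', ψ, σ', hab', hσ'1, hσ'a, hσ'b, hφ⟩, -⟩
      exfalso
      rw [← hk₀] at hφ
      exact not_field_class_of_conjGO r hm hab hab' _ (genForm_coe_minus a' b' m).symm k₀ ψ σ'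
        hσ'1 hσ'a hσ'b hφ
  · -- field automorphisms
    have hordσ : orderOf σ = p := orderOf_eq_prime hσp hσ1
    rcases hp.eq_two_or_odd' with h2p | hoddp
    · exfalso
      have h2 := h2of h2p
      have hσ2 : ∀ y, σ (σ y) = y := by
        intro y
        rw [h2p, pow_two] at hσp
        exact RingEquiv.congr_fun hσp y
      have hxx : semiAut g σ c hg * semiAut g σ c hg = 1 := by
        rw [← hx, ← pow_two]
        rw [h2p] at hxp
        exact hxp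
      exact no_field_involution_minus r h2 hm a b hab σ hσ1 hσ2 g c hc hg hxx
    · haveI : Finite (RingAut F) := finite_ringAut
      letI : Fintype ↥(FixedPoints.subfield (Subgroup.zpowers σ) F) := Fintype.ofFinite _
      obtain ⟨j, hj⟩ : ∃ j : ↥(FixedPoints.subfield (Subgroup.zpowers σ) F) →+* F,
          j = (FixedPoints.subfield (Subgroup.zpowers σ) F).subtype := ⟨_, rfl⟩
      have hι : ∀ a : F, σ a = a ↔ a ∈ Set.range j := by
        intro a
        rw [← mem_fixed_subfield, hj]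
        constructor
        · intro ha
          exact ⟨⟨a, ha⟩, rfl⟩
        · rintro ⟨b, rfl⟩
          exact b.2
      exact minus_field_case r hm a b hab j A hinn hoddp x hord σ hσ1 hordσ hι g c hc hg hx

end minus

end Cfsg.Agent.Lib.Helper9.ALC
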