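import Mathlib
import Cfsg.Agent.Lib.Helper7.ALT8Defs

set_option autoImplicit false

/-! Farm ALT8 (statement S2928), unit U2a: the geometric part of Step 2 (blocks). -/

namespace Cfsg.Agent.Lib.Helper9.ALT8U2a

open Equiv Equiv.Perm Cfsg.Agent.Lib.Helper7.ALT8
open scoped Pointwise

set_option linter.unusedSectionVars false

variable {D : Type*} [Fintype D] [DecidableEq D]

/-! ### double transpositions on points -/

theorem ds_apply_1 {p q r s : D} (hpr : p ≠ r) (hps : p ≠ s) :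
    (swap p q * swap r s) p = q := by
  rw [Perm.mul_apply, swap_apply_of_ne_of_ne hpr hps, swap_apply_left]

theorem ds_apply_2 {p q r s : D} (hqr : q ≠ r) (hqs : q ≠ s) :
    (swap p q * swap r s) q = p := by
  rw [Perm.mul_apply, swap_apply_of_ne_of_ne hqr hqs, swap_apply_right]

theorem ds_apply_3 {p q r s : D} (hsp : s ≠ p) (hsq : s ≠ q) :
    (swap p q * swap r s) r = s := by
  rw [Perm.mul_apply, swap_apply_left, swap_apply_of_ne_of_ne hsp hsq]

theorem ds_apply_4 {p q r s : D} (hrp : r ≠ p) (hrq : r ≠ q) :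
    (swap p q * swap r s) s = r := by
  rw [Perm.mul_apply, swap_apply_right, swap_apply_of_ne_of_ne hrp hrq]

theorem ds_apply_out {p q r s y : D} (h1 : y ≠ p) (h2 : y ≠ q) (h3 : y ≠ r) (h4 : y ≠ s) :
    (swap p q * swap r s) y = y := by
  rw [Perm.mul_apply, swap_apply_of_ne_of_ne h3 h4, swap_apply_of_ne_of_ne h1 h2]

theorem ds_invol {p q r s : D} (hpr : p ≠ r) (hps : p ≠ s) (hqr : q ≠ r)
    (hqs : q ≠ s) (y : D) :
    (swap p q * swap r s) ((swap p q * swap r s) y) = y := by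
  by_cases h1 : y = p
  · rw [h1, ds_apply_1 hpr hps, ds_apply_2 hqr hqs]
  by_cases h2 : y = q
  · rw [h2, ds_apply_2 hqr hqs, ds_apply_1 hpr hps]
  by_cases h3 : y = r
  · rw [h3, ds_apply_3 hps.symm hqs.symm, ds_apply_4 hpr.symm hqr.symm]
  by_cases h4 : y = s
  · rw [h4, ds_apply_4 hpr.symm hqr.symm, ds_apply_3 hps.symm hqs.symm]
  rw [ds_apply_out h1 h2 h3 h4, ds_apply_out h1 h2 h3 h4]

/-- the third involution of the four-group is the product of the other two -/
theorem hw_eq {a0 a1 a2 a3 : D} (h01 : a0 ≠ a1) (h02 : a0 ≠ a2) (h03 : a0 ≠ a3) (h12 : a1 ≠ a2)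
    (h13 : a1 ≠ a3) (h23 : a2 ≠ a3) :
    swap a0 a3 * swap a1 a2 = (swap a0 a1 * swap a2 a3) * (swap a0 a2 * swap a1 a3) := by
  ext y
  show (swap a0 a3 * swap a1 a2) y = (swap a0 a1 * swap a2 a3) ((swap a0 a2 * swap a1 a3) y)
  by_cases h0 : y = a0
  · rw [h0, ds_apply_1 h01 h02, ds_apply_1 h01 h03, ds_apply_3 h03.symm h13.symm]
  by_cases h1 : y = a1
  · rw [h1, ds_apply_3 h02.symm h23, ds_apply_3 h03.symm h23.symm,
      ds_apply_4 h02.symm h12.symm]
  by_cases h2 : y = a2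
  · rw [h2, ds_apply_4 h01.symm h13, ds_apply_2 h12.symm h23, ds_apply_1 h02 h03]
  by_cases h3 : y = a3
  · rw [h3, ds_apply_2 h13.symm h23.symm, ds_apply_4 h01.symm h12, ds_apply_2 h12 h13]
  rw [ds_apply_out h0 h3 h1 h2, ds_apply_out h0 h2 h1 h3, ds_apply_out h0 h1 h2 h3]

/-! ### blocks -/

theorem T_one (B : Set D) : (fun b => (1 : Perm D) b) '' B = B := by
  simp

theorem block_fact {X : Subgroup (Perm D)} {B : Set D} (hB : MulAction.IsBlock ↥X B)
    {g₁ g₂ : Perm D} (h₁ : g₁ ∈ X) (h₂ : g₂ ∈ X) {p : D}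
    (hp1 : p ∈ (fun b => g₁ b) '' B) (hp2 : p ∈ (fun b => g₂ b) '' B) :
    (fun b => g₁ b) '' B = (fun b => g₂ b) '' B := by
  by_contra hne
  have hd : Disjoint ((⟨g₁, h₁⟩ : ↥X) • B) ((⟨g₂, h₂⟩ : ↥X) • B) := hB hne
  exact Set.disjoint_left.1 hd hp1 hp2

theorem block_fact_one {X : Subgroup (Perm D)} {B : Set D} (hB : MulAction.IsBlock ↥X B)
    {g : Perm D} (hg : g ∈ X) {p : D} (hp1 : p ∈ (fun b => g b) '' B) (hp2 : p ∈ B) :
    (fun b => g b) '' B = B := by
  have h := block_fact hB hg X.one_mem hp1 (by rw [T_one]; exact hp2)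
  rw [h, T_one]

/-- common packaging of the conclusion -/
theorem conclude {X : Subgroup (Perm D)} {B : Set D} {p q r s : D}
    (hpq : p ≠ q) (hpr : p ≠ r) (hps : p ≠ s) (hqr : q ≠ r) (hqs : q ≠ s)
    (hx : swap p q * swap r s ∈ X)
    (hstab : ∀ g ∈ X, ∀ a ∈ (fun b => g b) '' B,
      (swap p q * swap r s) a ∈ (fun b => g b) '' B)
    (hfix : ∃ g ∈ X, ∀ b ∈ B, g b ≠ p ∧ g b ≠ q ∧ g b ≠ r ∧ g b ≠ s) :
    ∃ x ∈ X, x ≠ 1 ∧ x.support.card ≤ 4 ∧
      (∀ g ∈ X, ∀ a : D, x a ∈ (fun b => g b) '' B ↔ a ∈ (fun b => g b) '' B) ∧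
      ∃ g ∈ X, ∀ b ∈ B, x (g b) = g b := by
  refine ⟨swap p q * swap r s, hx, ?_, ?_, ?_, ?_⟩
  · intro h1
    have := ds_apply_1 (q := q) hpr hps
    rw [h1, Perm.one_apply] at this
    exact hpq this
  · have hsub : (swap p q * swap r s).support ⊆ ({p, q, r, s} : Finset D) := by
      intro y hy
      rw [Perm.mem_support] at hy
      by_contra hny
      simp only [Finset.mem_insert, Finset.mem_singleton, not_or] at hny
      exact hy (ds_apply_out hny.1 hny.2.1 hny.2.2.1 hny.2.2.2)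
    exact (Finset.card_le_card hsub).trans Finset.card_le_four
  · intro g hg a
    constructor
    · intro h
      have := hstab g hg _ h
      rwa [ds_invol hpr hps hqr hqs] at this
    · exact hstab g hg a
  · obtain ⟨g, hg, hgb⟩ := hfix
    refine ⟨g, hg, fun b hb => ?_⟩
    obtain ⟨h1, h2, h3, h4⟩ := hgb b hb
    exact ds_apply_out h1 h2 h3 h4

/-- (2b), case `Γ ⊆ B`. -/
theorem big_case {X : Subgroup (Perm D)} {B : Set D} (hB : MulAction.IsBlock ↥X B)
    (ht : Trans X) {p q r s : D}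
    (hpq : p ≠ q) (hpr : p ≠ r) (hps : p ≠ s) (hqr : q ≠ r) (hqs : q ≠ s)
    (hx : swap p q * swap r s ∈ X) (hp : p ∈ B) (hq : q ∈ B) (hr : r ∈ B) (hs : s ∈ B)
    (hBu : B ≠ Set.univ) :
    ∃ x ∈ X, x ≠ 1 ∧ x.support.card ≤ 4 ∧
      (∀ g ∈ X, ∀ a : D, x a ∈ (fun b => g b) '' B ↔ a ∈ (fun b => g b) '' B) ∧
      ∃ g ∈ X, ∀ b ∈ B, x (g b) = g b := by
  apply conclude hpq hpr hps hqr hqs hx
  · intro g hg a ha
    by_cases h1 : a = p
    · have hT := block_fact_one hB hg ha (by rw [h1]; exact hp)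
      rw [hT, h1, ds_apply_1 hpr hps]; exact hq
    by_cases h2 : a = q
    · have hT := block_fact_one hB hg ha (by rw [h2]; exact hq)
      rw [hT, h2, ds_apply_2 hqr hqs]; exact hp
    by_cases h3 : a = r
    · have hT := block_fact_one hB hg ha (by rw [h3]; exact hr)
      rw [hT, h3, ds_apply_3 hps.symm hqs.symm]; exact hs
    by_cases h4 : a = s
    · have hT := block_fact_one hB hg ha (by rw [h4]; exact hs)
      rw [hT, h4, ds_apply_4 hpr.symm hqr.symm]; exact hr
    rw [ds_apply_out h1 h2 h3 h4]; exact ha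
  · obtain ⟨d, hd⟩ := (Set.ne_univ_iff_exists_notMem B).1 hBu
    obtain ⟨g, hg, hgd⟩ := ht p d
    refine ⟨g, hg, fun b hb => ?_⟩
    have hnb : g b ∉ B := by
      intro hgb
      have hT := block_fact_one hB hg (Set.mem_image_of_mem (fun b => g b) hb) hgb
      apply hd
      rw [← hT, ← hgd]
      exact Set.mem_image_of_mem (fun b => g b) hp
    refine ⟨fun h => hnb ?_, fun h => hnb ?_, fun h => hnb ?_, fun h => hnb ?_⟩
    · rw [h]; exact hp
    · rw [h]; exact hq
    · rw [h]; exact hr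
    · rw [h]; exact hs

/-- (2b), case `B = {p, q}`. -/
theorem pair_case {X : Subgroup (Perm D)} {B : Set D} (hB : MulAction.IsBlock ↥X B)
    (ht : Trans X) (hcard : 5 ≤ Fintype.card D) {p q r s : D}
    (hpq : p ≠ q) (hpr : p ≠ r) (hps : p ≠ s) (hqr : q ≠ r) (hqs : q ≠ s) (hrs : r ≠ s)
    (hx : swap p q * swap r s ∈ X) (hv : swap p r * swap q s ∈ X)
    (hBpq : ∀ y, y ∈ B ↔ y = p ∨ y = q) :
    ∃ x ∈ X, x ≠ 1 ∧ x.support.card ≤ 4 ∧
      (∀ g ∈ X, ∀ a : D, x a ∈ (fun b => g b) '' B ↔ a ∈ (fun b => g b) '' B) ∧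
      ∃ g ∈ X, ∀ b ∈ B, x (g b) = g b := by
  have hp : p ∈ B := (hBpq p).2 (Or.inl rfl)
  have hq : q ∈ B := (hBpq q).2 (Or.inr rfl)
  have hvp : (swap p r * swap q s) p = r := ds_apply_1 hpq hps
  have hvq : (swap p r * swap q s) q = s := ds_apply_3 hps.symm hrs.symm
  have hrT : r ∈ (fun b => (swap p r * swap q s) b) '' B := ⟨p, hp, hvp⟩
  have hsT : s ∈ (fun b => (swap p r * swap q s) b) '' B := ⟨q, hq, hvq⟩
  apply conclude hpq hpr hps hqr hqs hx
  · intro g hg a ha
    by_cases h1 : a = p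
    · have hT := block_fact_one hB hg ha (by rw [h1]; exact hp)
      rw [hT, h1, ds_apply_1 hpr hps]; exact hq
    by_cases h2 : a = q
    · have hT := block_fact_one hB hg ha (by rw [h2]; exact hq)
      rw [hT, h2, ds_apply_2 hqr hqs]; exact hp
    by_cases h3 : a = r
    · have hT := block_fact hB hg hv ha (by rw [h3]; exact hrT)
      rw [hT, h3, ds_apply_3 hps.symm hqs.symm]; exact hsT
    by_cases h4 : a = s
    · have hT := block_fact hB hg hv ha (by rw [h4]; exact hsT)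
      rw [hT, h4, ds_apply_4 hpr.symm hqr.symm]; exact hrT
    rw [ds_apply_out h1 h2 h3 h4]; exact ha
  · have hex : ∃ d, d ∉ ({p, q, r, s} : Finset D) := by
      by_contra hall
      have hall' : ∀ d, d ∈ ({p, q, r, s} : Finset D) :=
        fun d => Classical.by_contradiction fun h => hall ⟨d, h⟩
      have : Fintype.card D ≤ 4 := by
        calc Fintype.card D = (Finset.univ : Finset D).card := Finset.card_univ.symm
          _ ≤ ({p, q, r, s} : Finset D).card := Finset.card_le_card (fun d _ => hall' d)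
          _ ≤ 4 := Finset.card_le_four
      omega
    obtain ⟨d, hd⟩ := hex
    simp only [Finset.mem_insert, Finset.mem_singleton, not_or] at hd
    obtain ⟨hd1, hd2, hd3, hd4⟩ := hd
    obtain ⟨g, hg, hgd⟩ := ht p d
    have hdT : d ∈ (fun b => g b) '' B := ⟨p, hp, hgd⟩
    refine ⟨g, hg, fun b hb => ?_⟩
    have hnb : g b ∉ B := by
      intro hgb
      have hT := block_fact_one hB hg (Set.mem_image_of_mem (fun b => g b) hb) hgb
      rw [hT] at hdT
      rcases (hBpq d).1 hdT with h | h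
      · exact hd1 h
      · exact hd2 h
    have hnv : g b ∉ (fun b => (swap p r * swap q s) b) '' B := by
      intro hgb
      have hT := block_fact hB hg hv (Set.mem_image_of_mem (fun b => g b) hb) hgb
      rw [hT] at hdT
      obtain ⟨b', hb', hb'd⟩ := hdT
      rcases (hBpq b').1 hb' with h | h
      · rw [h] at hb'd
        exact hd3 (hb'd.symm.trans hvp)
      · rw [h] at hb'd
        exact hd4 (hb'd.symm.trans hvq)
    refine ⟨fun h => hnb ?_, fun h => hnb ?_, fun h => hnv ?_, fun h => hnv ?_⟩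
    · rw [h]; exact hp
    · rw [h]; exact hq
    · rw [h]; exact hrT
    · rw [h]; exact hsT

/-- (2a): if `q = v p ∉ B` then `B` is a pair inside `Γ`. -/
theorem pair_of_not_mem {X : Subgroup (Perm D)} {B : Set D} (hB : MulAction.IsBlock ↥X B)
    {p q r s : D} (hpr : p ≠ r) (hps : p ≠ s) (hqs : q ≠ s)
    (hv : swap p q * swap r s ∈ X) (hp : p ∈ B) (hq : q ∉ B) (hc : ∃ c ∈ B, c ≠ p) :
    (∀ y, y ∈ B ↔ y = p ∨ y = r) ∨ (∀ y, y ∈ B ↔ y = p ∨ y = s) := by
  have key : ∀ b ∈ B, (swap p q * swap r s) b ∉ B := by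
    intro b hb hvb
    have hT := block_fact_one hB hv
      (Set.mem_image_of_mem (fun b => (swap p q * swap r s) b) hb) hvb
    apply hq
    rw [← hT]
    exact ⟨p, hp, ds_apply_1 hpr hps⟩
  have hin : ∀ b ∈ B, b = p ∨ b = r ∨ b = s := by
    intro b hb
    by_contra hne
    simp only [not_or] at hne
    have hbq : b ≠ q := fun h => hq (by rw [← h]; exact hb)
    have := key b hb
    rw [ds_apply_out hne.1 hbq hne.2.1 hne.2.2] at this
    exact this hb
  have hrs' : r ∈ B → s ∉ B := by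
    intro hr hs
    have := key r hr
    rw [ds_apply_3 hps.symm hqs.symm] at this
    exact this hs
  obtain ⟨c, hcB, hcp⟩ := hc
  rcases hin c hcB with h | h | h
  · exact absurd h hcp
  · left
    rw [h] at hcB
    intro y
    constructor
    · intro hy
      rcases hin y hy with h' | h' | h'
      · exact Or.inl h'
      · exact Or.inr h'
      · exact absurd (by rw [← h']; exact hy) (hrs' hcB)
    · rintro (h' | h')
      · rw [h']; exact hp
      · rw [h']; exact hcB
  · right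
    rw [h] at hcB
    intro y
    constructor
    · intro hy
      rcases hin y hy with h' | h' | h'
      · exact Or.inl h'
      · exact absurd hcB (hrs' (by rw [← h']; exact hy))
      · exact Or.inr h'
    · rintro (h' | h')
      · rw [h']; exact hp
      · rw [h']; exact hcB

/-- U2a (Step 2, geometric part (2a),(2b)). `B` a nontrivial block containing `a0`. -/
theorem exists_good_x {X : Subgroup (Perm D)} {a0 a1 a2 a3 : D} (hV : V4in X a0 a1 a2 a3)
    (ht : Trans X) (hcard : 5 ≤ Fintype.card D) (B : Set D) (hB : MulAction.IsBlock ↥X B)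
    (ha0 : a0 ∈ B) (hc : ∃ c ∈ B, c ≠ a0) (hBu : B ≠ Set.univ) :
    ∃ x ∈ X, x ≠ 1 ∧ x.support.card ≤ 4 ∧
      (∀ g ∈ X, ∀ a : D, x a ∈ (fun b => g b) '' B ↔ a ∈ (fun b => g b) '' B) ∧
      ∃ g ∈ X, ∀ b ∈ B, x (g b) = g b := by
  obtain ⟨h01, h02, h03, h12, h13, h23, hx, hz⟩ := hV
  have hw : swap a0 a3 * swap a1 a2 ∈ X := by
    rw [hw_eq h01 h02 h03 h12 h13 h23]; exact X.mul_mem hx hz
  have hx' : swap a0 a1 * swap a3 a2 ∈ X := by rw [swap_comm a3 a2]; exact hx
  have P1 := fun h : (∀ y, y ∈ B ↔ y = a0 ∨ y = a1) =>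
    pair_case hB ht hcard h01 h02 h03 h12 h13 h23 hx hz h
  have P2 := fun h : (∀ y, y ∈ B ↔ y = a0 ∨ y = a2) =>
    pair_case hB ht hcard h02 h01 h03 h12.symm h23 h13 hz hx h
  have P3 := fun h : (∀ y, y ∈ B ↔ y = a0 ∨ y = a3) =>
    pair_case hB ht hcard h03 h01 h02 h13.symm h23.symm h12 hw hx' h
  by_cases m1 : a1 ∈ B
  · by_cases m2 : a2 ∈ B
    · by_cases m3 : a3 ∈ B
      · exact big_case hB ht h01 h02 h03 h12 h13 hx ha0 m1 m2 m3 hBu
      · rcases pair_of_not_mem hB h01 h02 h23.symm hw ha0 m3 hc with h | h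
        · exact P1 h
        · exact P2 h
    · rcases pair_of_not_mem hB h01 h03 h23 hz ha0 m2 hc with h | h
      · exact P1 h
      · exact P3 h
  · rcases pair_of_not_mem hB h02 h03 h13 hx ha0 m1 hc with h | h
    · exact P2 h
    · exact P3 h

end Cfsg.Agent.Lib.Helper9.ALT8U2a
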