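import Mathlib
import Cfsg.Agent.Lib.Helper7.ALT8Defs

set_option autoImplicit false

/-! Farm ALT8 (statement S2928), unit U4e: the count `(m-4)(c-1) ≤ 6(c-2)`; core version, with the
facts (4.1), (4.4), `sq_mem`, `cls_card_eq` as hypotheses. -/

namespace Cfsg.Agent.Lib.Helper9.ALT8U4e

open Equiv Equiv.Perm Cfsg.Agent.Lib.Helper7.ALT8

set_option linter.unusedSectionVars false

variable {D : Type*} [Fintype D] [DecidableEq D]

theorem mem_cls {X : Subgroup (Perm D)} {σ τ : Perm D} :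
    τ ∈ cls X σ ↔ τ.IsSwap ∧ rel X σ τ := by
  simp [cls]

theorem swap_disj {a b c d : D} (hac : a ≠ c) (had : a ≠ d) (hbc : b ≠ c) (hbd : b ≠ d) :
    (swap a b).Disjoint (swap c d) := by
  intro x
  by_cases h1 : x = a
  · right; rw [h1]; exact swap_apply_of_ne_of_ne hac had
  by_cases h2 : x = b
  · right; rw [h2]; exact swap_apply_of_ne_of_ne hbc hbd
  left; exact swap_apply_of_ne_of_ne h1 h2

theorem swap_ne_of_moved {b d p q : D} (hbd : b ≠ d) (hbp : b ≠ p) (hbq : b ≠ q) :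
    swap b d ≠ swap p q := by
  intro h
  have h1 := congrArg (fun f : Perm D => f b) h
  simp only [swap_apply_left, swap_apply_of_ne_of_ne hbp hbq] at h1
  exact hbd h1.symm

theorem self_mem_cls {X : Subgroup (Perm D)} {a b : D} (hab : a ≠ b) :
    swap a b ∈ cls X (swap a b) :=
  mem_cls.2 ⟨⟨a, b, hab, rfl⟩, Or.inl rfl⟩

/-- lower bound on the fibre over `b`. -/
theorem fiberA {X : Subgroup (Perm D)} {a0 a1 a2 a3 : D}
    (hsymm : ∀ {σ τ : Perm D}, rel X σ τ → rel X τ σ)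
    (htrans : ∀ {σ τ ρ : Perm D}, σ.IsSwap → τ.IsSwap → ρ.IsSwap → rel X σ τ → rel X τ ρ →
      rel X σ ρ)
    {b : D} (hb0 : b ≠ a0)
    (hout : ∀ {τ : Perm D}, τ.IsSwap → τ ≠ swap a0 b → rel X (swap a0 b) τ →
      ∃ g d, (g = a1 ∨ g = a2 ∨ g = a3) ∧ d ≠ a0 ∧ d ≠ a1 ∧ d ≠ a2 ∧ d ≠ a3 ∧ d ≠ b ∧
        τ = swap g d) :
    (cls X (swap a0 b)).card - 1 ≤
      (({a1, a2, a3} : Finset D).filter (fun g => ∃ d, d ≠ a0 ∧ d ≠ a1 ∧ d ≠ a2 ∧ d ≠ a3 ∧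
        d ≠ b ∧ swap g d ∈ cls X (swap a0 b))).card := by
  classical
  have hσ : (swap a0 b).IsSwap := ⟨a0, b, hb0.symm, rfl⟩
  rw [← Finset.card_erase_of_mem (self_mem_cls hb0.symm)]
  refine Finset.card_le_card_of_forall_subsingleton
    (fun (τ : Perm D) (g : D) => ∃ d, d ≠ a0 ∧ d ≠ a1 ∧ d ≠ a2 ∧ d ≠ a3 ∧ d ≠ b ∧ τ = swap g d)
    ?_ ?_
  · intro τ hτ
    rw [Finset.mem_erase] at hτ
    obtain ⟨hne, hcl⟩ := hτ
    obtain ⟨hsw, hr⟩ := mem_cls.1 hcl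
    obtain ⟨g, d, hg, hd0, hd1, hd2, hd3, hdb, rfl⟩ := hout hsw hne hr
    refine ⟨g, ?_, d, hd0, hd1, hd2, hd3, hdb, rfl⟩
    rw [Finset.mem_filter]
    refine ⟨?_, d, hd0, hd1, hd2, hd3, hdb, hcl⟩
    simp only [Finset.mem_insert, Finset.mem_singleton]
    exact hg
  · intro g hg τ hτ τ' hτ'
    rw [Finset.mem_filter] at hg
    have hgΓ : g = a1 ∨ g = a2 ∨ g = a3 := by
      simpa only [Finset.mem_insert, Finset.mem_singleton] using hg.1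
    obtain ⟨hτs, d, hd0, hd1, hd2, hd3, hdb, rfl⟩ := hτ
    obtain ⟨hτs', d', hd0', hd1', hd2', hd3', hdb', rfl⟩ := hτ'
    have hτs1 := Finset.mem_coe.1 hτs
    have hτs1' := Finset.mem_coe.1 hτs'
    rw [Finset.mem_erase] at hτs1 hτs1'
    obtain ⟨hsw, hr⟩ := mem_cls.1 hτs1.2
    obtain ⟨hsw', hr'⟩ := mem_cls.1 hτs1'.2
    have hdg : d ≠ g := by
      rcases hgΓ with h | h | h <;> rw [h]
      · exact hd1
      · exact hd2
      · exact hd3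
    have hdg' : d' ≠ g := by
      rcases hgΓ with h | h | h <;> rw [h]
      · exact hd1'
      · exact hd2'
      · exact hd3'
    rcases htrans hsw hσ hsw' (hsymm hr) hr' with h | ⟨hdis, _⟩
    · exact h
    · exfalso
      rcases hdis g with h | h
      · rw [swap_apply_left] at h; exact hdg h
      · rw [swap_apply_left] at h; exact hdg' h

/-- upper bound on the fibre over `p1`. -/
theorem fiberB {X : Subgroup (Perm D)} {p0 p1 p2 p3 : D}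
    (h01 : p0 ≠ p1) (h02 : p0 ≠ p2) (h03 : p0 ≠ p3) (h12 : p1 ≠ p2) (h13 : p1 ≠ p3)
    (h23 : p2 ≠ p3) (hx : swap p0 p1 * swap p2 p3 ∈ X)
    (hsq : ∀ {b d : D}, b ≠ p0 → b ≠ p1 → b ≠ p2 → b ≠ p3 → d ≠ p0 → d ≠ p1 → d ≠ p2 → d ≠ p3 →
      b ≠ d → swap p0 b * swap p1 d ∈ X → swap p0 p1 * swap b d ∈ X)
    (S : Finset D)
    (hS : ∀ b ∈ S, b ≠ p0 ∧ b ≠ p1 ∧ b ≠ p2 ∧ b ≠ p3 ∧ ∃ d, d ≠ p0 ∧ d ≠ p1 ∧ d ≠ p2 ∧ d ≠ p3 ∧
      d ≠ b ∧ swap p1 d ∈ cls X (swap p0 b)) :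
    S.card ≤ ((cls X (swap p0 p1)).card - 1 - 1) * 2 := by
  classical
  have hm1 : swap p0 p1 ∈ cls X (swap p0 p1) := self_mem_cls h01
  have hm2 : swap p2 p3 ∈ (cls X (swap p0 p1)).erase (swap p0 p1) := by
    rw [Finset.mem_erase]
    refine ⟨swap_ne_of_moved h23 h02.symm h12.symm, mem_cls.2 ⟨⟨p2, p3, h23, rfl⟩, Or.inr ⟨?_, hx⟩⟩⟩
    exact swap_disj h02 h03 h12 h13
  have hE : (((cls X (swap p0 p1)).erase (swap p0 p1)).erase (swap p2 p3)).card =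
      (cls X (swap p0 p1)).card - 1 - 1 := by
    rw [Finset.card_erase_of_mem hm2, Finset.card_erase_of_mem hm1]
  rw [← hE]
  have hsub : S ⊆ (((cls X (swap p0 p1)).erase (swap p0 p1)).erase (swap p2 p3)).biUnion
      (fun τ => τ.support) := by
    intro b hb
    obtain ⟨hb0, hb1, hb2, hb3, d, hd0, hd1, hd2, hd3, hdb, hcl⟩ := hS b hb
    obtain ⟨_, hr⟩ := mem_cls.1 hcl
    have hmem : swap p0 b * swap p1 d ∈ X := by
      rcases hr with h | ⟨_, h⟩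
      · exfalso
        have h1 := congrArg (fun f : Perm D => f p0) h
        simp only [swap_apply_left, swap_apply_of_ne_of_ne h01 hd0.symm] at h1
        exact hb0 h1
      · exact h
    have h2 := hsq hb0 hb1 hb2 hb3 hd0 hd1 hd2 hd3 hdb.symm hmem
    rw [Finset.mem_biUnion]
    refine ⟨swap b d, ?_, ?_⟩
    · rw [Finset.mem_erase, Finset.mem_erase]
      refine ⟨swap_ne_of_moved hdb.symm hb2 hb3, swap_ne_of_moved hdb.symm hb0 hb1, ?_⟩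
      exact mem_cls.2 ⟨⟨b, d, hdb.symm, rfl⟩, Or.inr ⟨swap_disj hb0.symm hd0.symm hb1.symm hd1.symm, h2⟩⟩
    · rw [Perm.mem_support, swap_apply_left]
      exact hdb
  refine (Finset.card_le_card hsub).trans ?_
  refine Finset.card_biUnion_le_card_mul _ _ _ ?_
  intro τ hτ
  rw [Finset.mem_erase, Finset.mem_erase] at hτ
  obtain ⟨hsw, _⟩ := mem_cls.1 hτ.2.2
  exact (Equiv.Perm.card_support_eq_two.2 hsw).le

/-- U4e (4.5), core version. -/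
theorem card_eq_eight_core {X : Subgroup (Perm D)} {a0 a1 a2 a3 : D}
    (hV : V4in X a0 a1 a2 a3) (hw : swap a0 a3 * swap a1 a2 ∈ X) (hcard : 8 ≤ Fintype.card D)
    (hsymm : ∀ {σ τ : Perm D}, rel X σ τ → rel X τ σ)
    (htrans : ∀ {σ τ ρ : Perm D}, σ.IsSwap → τ.IsSwap → ρ.IsSwap → rel X σ τ → rel X τ ρ →
      rel X σ ρ)
    (hcls : ∀ {σ τ : Perm D}, σ.IsSwap → τ.IsSwap → (cls X σ).card = (cls X τ).card)
    (hout : ∀ {b : D}, b ≠ a0 → b ≠ a1 → b ≠ a2 → b ≠ a3 → ∀ {τ : Perm D}, τ.IsSwap →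
      τ ≠ swap a0 b → rel X (swap a0 b) τ →
      ∃ g d, (g = a1 ∨ g = a2 ∨ g = a3) ∧ d ≠ a0 ∧ d ≠ a1 ∧ d ≠ a2 ∧ d ≠ a3 ∧ d ≠ b ∧
        τ = swap g d)
    (hsq1 : ∀ {b d : D}, b ≠ a0 → b ≠ a1 → b ≠ a2 → b ≠ a3 → d ≠ a0 → d ≠ a1 → d ≠ a2 →
      d ≠ a3 → b ≠ d → swap a0 b * swap a1 d ∈ X → swap a0 a1 * swap b d ∈ X)
    (hsq2 : ∀ {b d : D}, b ≠ a0 → b ≠ a2 → b ≠ a3 → b ≠ a1 → d ≠ a0 → d ≠ a2 → d ≠ a3 →
      d ≠ a1 → b ≠ d → swap a0 b * swap a2 d ∈ X → swap a0 a2 * swap b d ∈ X)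
    (hsq3 : ∀ {b d : D}, b ≠ a0 → b ≠ a3 → b ≠ a1 → b ≠ a2 → d ≠ a0 → d ≠ a3 → d ≠ a1 →
      d ≠ a2 → b ≠ d → swap a0 b * swap a3 d ∈ X → swap a0 a3 * swap b d ∈ X) :
    Fintype.card D = 8 ∧ ∀ σ : Perm D, σ.IsSwap → (cls X σ).card = 4 := by
  classical
  obtain ⟨h01, h02, h03, h12, h13, h23, hx, hz⟩ := hV
  have hz' : swap a0 a2 * swap a3 a1 ∈ X := by rw [swap_comm a3 a1]; exact hz
  set c := (cls X (swap a0 a1)).card with hc
  have hsw01 : (swap a0 a1).IsSwap := ⟨a0, a1, h01, rfl⟩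
  have hcσ : ∀ σ : Perm D, σ.IsSwap → (cls X σ).card = c := fun σ hσ => hcls hσ hsw01
  -- the sets
  set Γ : Finset D := {a0, a1, a2, a3} with hΓ
  set Out : Finset D := Γᶜ with hOut
  have hΓ4 : Γ.card ≤ 4 := Finset.card_le_four
  have hsum : Γ.card + Out.card = Fintype.card D := Finset.card_add_card_compl Γ
  have hOutmem : ∀ b, b ∈ Out ↔ b ≠ a0 ∧ b ≠ a1 ∧ b ≠ a2 ∧ b ≠ a3 := by
    intro b
    simp only [hOut, hΓ, Finset.mem_compl, Finset.mem_insert, Finset.mem_singleton, not_or]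
  let r : D → D → Prop := fun b g => ∃ d, d ≠ a0 ∧ d ≠ a1 ∧ d ≠ a2 ∧ d ≠ a3 ∧ d ≠ b ∧
    swap g d ∈ cls X (swap a0 b)
  -- lower bounds
  have hA : ∀ b ∈ Out, c - 1 ≤ (Finset.bipartiteAbove r ({a1, a2, a3} : Finset D) b).card := by
    intro b hb
    obtain ⟨hb0, hb1, hb2, hb3⟩ := (hOutmem b).1 hb
    have := fiberA (X := X) (a0 := a0) (a1 := a1) (a2 := a2) (a3 := a3) hsymm htrans hb0
      (fun {τ} => hout hb0 hb1 hb2 hb3 (τ := τ))
    rw [hcσ _ ⟨a0, b, hb0.symm, rfl⟩] at this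
    exact this
  -- upper bounds
  have hB : ∀ g ∈ ({a1, a2, a3} : Finset D), (Finset.bipartiteBelow r Out g).card ≤
      (c - 1 - 1) * 2 := by
    intro g hg
    simp only [Finset.mem_insert, Finset.mem_singleton] at hg
    rcases hg with rfl | rfl | rfl
    · have := fiberB h01 h02 h03 h12 h13 h23 hx hsq1 (Finset.bipartiteBelow r Out g) (by
        intro b hb
        rw [Finset.mem_bipartiteBelow] at hb
        obtain ⟨hb0, hb1, hb2, hb3⟩ := (hOutmem b).1 hb.1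
        obtain ⟨d, hd0, hd1, hd2, hd3, hdb, hcl⟩ := hb.2
        exact ⟨hb0, hb1, hb2, hb3, d, hd0, hd1, hd2, hd3, hdb, hcl⟩)
      exact this
    · have := fiberB h02 h03 h01 h23 h12.symm h13.symm hz' hsq2
        (Finset.bipartiteBelow r Out g) (by
        intro b hb
        rw [Finset.mem_bipartiteBelow] at hb
        obtain ⟨hb0, hb1, hb2, hb3⟩ := (hOutmem b).1 hb.1
        obtain ⟨d, hd0, hd1, hd2, hd3, hdb, hcl⟩ := hb.2
        exact ⟨hb0, hb2, hb3, hb1, d, hd0, hd2, hd3, hd1, hdb, hcl⟩)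
      rw [hcσ _ ⟨a0, g, h02, rfl⟩] at this
      exact this
    · have := fiberB h03 h01 h02 h13.symm h23.symm h12 hw hsq3
        (Finset.bipartiteBelow r Out g) (by
        intro b hb
        rw [Finset.mem_bipartiteBelow] at hb
        obtain ⟨hb0, hb1, hb2, hb3⟩ := (hOutmem b).1 hb.1
        obtain ⟨d, hd0, hd1, hd2, hd3, hdb, hcl⟩ := hb.2
        exact ⟨hb0, hb3, hb1, hb2, d, hd0, hd3, hd1, hd2, hdb, hcl⟩)
      rw [hcσ _ ⟨a0, g, h03, rfl⟩] at this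
      exact this
  have hcount := Finset.card_mul_le_card_mul r hA hB
  have hΓ'3 : ({a1, a2, a3} : Finset D).card ≤ 3 := Finset.card_le_three
  -- c ≥ 2
  have hc2 : 2 ≤ c := by
    have hm1 : swap a0 a1 ∈ cls X (swap a0 a1) := self_mem_cls h01
    have hm2 : swap a2 a3 ∈ cls X (swap a0 a1) :=
      mem_cls.2 ⟨⟨a2, a3, h23, rfl⟩, Or.inr ⟨swap_disj h02 h03 h12 h13, hx⟩⟩
    have hne : swap a2 a3 ≠ swap a0 a1 := swap_ne_of_moved h23 h02.symm h12.symm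
    have : 1 < (cls X (swap a0 a1)).card :=
      Finset.one_lt_card.2 ⟨_, hm2, _, hm1, hne⟩
    omega
  -- c ≤ 4
  have hOut4 : 4 ≤ Out.card := by omega
  have hc4 : c - 1 ≤ 3 := by
    obtain ⟨b, hb⟩ : Out.Nonempty := by
      rw [← Finset.card_pos]; omega
    refine (hA b hb).trans ((Finset.card_le_card ?_).trans hΓ'3)
    exact Finset.filter_subset _ _
  have hcount' : Out.card * (c - 1) ≤ 3 * ((c - 1 - 1) * 2) :=
    hcount.trans (Nat.mul_le_mul_right _ hΓ'3)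
  have hcc : c = 4 ∧ Out.card = 4 := by
    have h5 : c ≤ 4 := by omega
    interval_cases c
    · omega
    · omega
    · omega
  refine ⟨by omega, fun σ hσ => ?_⟩
  rw [hcσ σ hσ]; exact hcc.1

end Cfsg.Agent.Lib.Helper9.ALT8U4e
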