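import Mathlib
import Cfsg.Agent.Lib.Helper7.ALT8Defs
import Cfsg.Agent.Lib.Helper6.ALT8U4a
import Cfsg.Agent.Lib.Helper6.ALT8U4b
import Cfsg.Agent.Lib.Helper6.ALT8U4d
import Cfsg.Agent.Lib.Helper9.ALT8U4eCore

set_option autoImplicit false

/-! Farm ALT8 (statement S2928), unit U4e: the count `(m-4)(c-1) ≤ 6(c-2)`, verbatim form. -/

namespace Cfsg.Agent.Lib.Helper9.ALT8U4e

open Equiv Equiv.Perm Cfsg.Agent.Lib.Helper7.ALT8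

variable {D : Type*} [Fintype D] [DecidableEq D]

/-- U4e (4.5): the count `(m-4)(c-1) ≤ 6(c-2)`. -/
theorem card_eq_eight {X : Subgroup (Perm D)} {a0 a1 a2 a3 : D} (h : S4 X a0 a1 a2 a3) :
    Fintype.card D = 8 ∧ ∀ σ : Perm D, σ.IsSwap → (cls X σ).card = 4 := by
  have hV := h.hV
  exact card_eq_eight_core hV (Cfsg.Agent.Lib.Helper6.ALT8.V4in.hw hV) h.hcard
    (fun {σ τ} hr => Cfsg.Agent.Lib.Helper6.ALT8.rel_symm hr)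
    (fun {σ τ ρ} hσ hτ hρ h1 h2 => Cfsg.Agent.Lib.Helper6.ALT8.rel_trans h.no3 hσ hτ hρ h1 h2)
    (fun {σ τ} hσ hτ => Cfsg.Agent.Lib.Helper6.ALT8.cls_card_eq h.htwo hσ hτ)
    (fun {b} hb0 hb1 hb2 hb3 {τ} hτ hne hr =>
      Cfsg.Agent.Lib.Helper6.ALT8.rel_a0_out h hb0 hb1 hb2 hb3 hτ hne hr)
    (fun {b d} hb0 hb1 hb2 hb3 hd0 hd1 hd2 hd3 hbd hr =>
      Cfsg.Agent.Lib.Helper6.ALT8.sq_mem hV hb0 hb1 hb2 hb3 hd0 hd1 hd2 hd3 hbd hr)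
    (fun {b d} hb0 hb1 hb2 hb3 hd0 hd1 hd2 hd3 hbd hr =>
      Cfsg.Agent.Lib.Helper6.ALT8.sq_mem (Cfsg.Agent.Lib.Helper6.ALT8.V4in.rot hV)
        hb0 hb1 hb2 hb3 hd0 hd1 hd2 hd3 hbd hr)
    (fun {b d} hb0 hb1 hb2 hb3 hd0 hd1 hd2 hd3 hbd hr =>
      Cfsg.Agent.Lib.Helper6.ALT8.sq_mem
        (Cfsg.Agent.Lib.Helper6.ALT8.V4in.rot (Cfsg.Agent.Lib.Helper6.ALT8.V4in.rot hV))
        hb0 hb1 hb2 hb3 hd0 hd1 hd2 hd3 hbd hr)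

end Cfsg.Agent.Lib.Helper9.ALT8U4e
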