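import Mathlib
import Cfsg.Agent.S1230
import Cfsg.Agent.S2475
import Cfsg.Agent.Lib.Helper1.SL2Odd3

set_option autoImplicit false

namespace Cfsg.Agent.Lib.Helper9.AO

/-- `l ^ 2 = 2 ^ n + 1` forces `l = 3`, `n = 3`. -/
theorem sq_eq_two_pow_add_one (l n : ℕ) (h : l ^ 2 = 2 ^ n + 1) : l = 3 ∧ n = 3 := by
  have hl2 : 2 ≤ l := by
    by_contra hlt
    push Not at hlt
    have : l ^ 2 ≤ 1 := by
      interval_cases l <;> simp
    have : 1 ≤ 2 ^ n := Nat.one_le_two_pow
    omega
  have hfac : (l - 1) * (l + 1) = 2 ^ n := by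
    have h1 : (l - 1) * (l + 1) + 1 = l ^ 2 := by
      obtain ⟨k, rfl⟩ : ∃ k, l = k + 1 := ⟨l - 1, by omega⟩
      simp only [Nat.add_sub_cancel]
      ring
    omega
  obtain ⟨a, -, ha⟩ := (Nat.dvd_prime_pow Nat.prime_two).mp (Dvd.intro _ hfac)
  obtain ⟨b, -, hb⟩ := (Nat.dvd_prime_pow Nat.prime_two).mp (Dvd.intro_left _ hfac)
  have hab : 2 ^ b = 2 ^ a + 2 := by omega
  have ha1 : a = 1 := by
    rcases Nat.lt_or_ge a 2 with h2 | h2
    · interval_cases a
      · -- 2^b = 3
        exfalso
        rcases Nat.eq_zero_or_pos b with rfl | hbpos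
        · simp at hab
        · have : 2 ∣ 2 ^ b := dvd_pow_self 2 (by omega)
          omega
      · rfl
    · exfalso
      obtain ⟨a', rfl⟩ : ∃ a', a = a' + 2 := ⟨a - 2, by omega⟩
      have h4 : 4 ∣ 2 ^ (a' + 2) := by
        rw [pow_add]; exact Dvd.intro_left _ rfl
      rcases Nat.lt_or_ge b 2 with hb2 | hb2
      · interval_cases b
        · simp at hab
        · have : 0 < 2 ^ (a' + 2) := by positivity
          omega
      · obtain ⟨b', rfl⟩ : ∃ b', b = b' + 2 := ⟨b - 2, by omega⟩
        have h4' : 4 ∣ 2 ^ (b' + 2) := by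
          rw [pow_add]; exact Dvd.intro_left _ rfl
        omega
  subst ha1
  have hl3 : l = 3 := by
    simp at ha
    omega
  subst hl3
  refine ⟨rfl, ?_⟩
  have : 2 ^ n = 2 ^ 3 := by norm_num at h ⊢; omega
  exact Nat.pow_right_injective (le_refl 2) this

theorem psl2_eight_of_odd_composite {G : Type*} [Group G] [Finite G] [IsSimpleGroup G]
    (hG : ¬ IsMulCommutative G) (heven : Even (Nat.card G)) (m l s : ℕ) (hl : l.Prime) (hs : s.Prime)
    (hm : m = l * s) (hmodd : Odd m) (hmS : ∃ g : G, orderOf g = m)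
    (hord : ∀ g : G, orderOf g = 1 ∨ (orderOf g).Prime ∨ orderOf g = m)
    (h3 : (Nat.card G).primeFactors.card = 3) :
    ∃ (F : Type) (_ : Field F) (_ : Fintype F), Fintype.card F = 8 ∧
      Nonempty (G ≃* Matrix.ProjectiveSpecialLinearGroup (Fin 2) F) := by
  have : Fact (Nat.Prime 2) := ⟨Nat.prime_two⟩
  have hcard0 : Nat.card G ≠ 0 := Nat.card_pos.ne'
  have hmnp : ¬ m.Prime := by
    rw [hm]; exact Nat.not_prime_mul hl.one_lt.ne' hs.one_lt.ne'
  have hm4 : 4 ≤ m := by
    rw [hm]
    calc 4 = 2 * 2 := rfl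
      _ ≤ l * s := Nat.mul_le_mul hl.two_le hs.two_le
  have hlodd : Odd l := by
    rw [hm] at hmodd
    exact (Nat.odd_mul.mp hmodd).1
  have hsodd : Odd s := by
    rw [hm] at hmodd
    exact (Nat.odd_mul.mp hmodd).2
  -- element orders divide the order of G
  have hdvd : ∀ d : ℕ, (∃ g : G, orderOf g = d) → d ∣ Nat.card G := by
    rintro d ⟨g, rfl⟩
    exact orderOf_dvd_natCard g
  have hmdvd : m ∣ Nat.card G := hdvd m hmS
  obtain ⟨T⟩ : Nonempty (Sylow 2 G) := inferInstance
  obtain ⟨n, hn⟩ := IsPGroup.iff_card.mp T.isPGroup'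
  -- T is not cyclic
  have hnc : ¬ IsCyclic (T : Subgroup G) := by
    intro hcyc
    obtain ⟨H, hH⟩ := Cfsg.Agent.Lib.Helper1.SL2Odd.exists_index_two_of_cyclic_sylow heven T hcyc
    have := Subgroup.normal_of_index_eq_two hH
    rcases Subgroup.Normal.eq_bot_or_eq_top (H := H) inferInstance with h | h
    · rw [h, Subgroup.index_bot] at hH
      rw [hH] at h3
      simp [Nat.prime_two.primeFactors] at h3
    · rw [h, Subgroup.index_top] at hH
      omega
  -- T is not normal
  have hnn : ¬ (T : Subgroup G).Normal := by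
    intro hnor
    rcases Subgroup.Normal.eq_bot_or_eq_top hnor with h | h
    · apply hnc
      rw [h]
      exact isCyclic_of_subsingleton
    · have : Nat.card G = 2 ^ n := by
        rw [← hn, h, Subgroup.card_top]
      rw [this] at h3
      have : (2 ^ n).primeFactors ⊆ {2} := by
        intro x hx
        rw [Nat.mem_primeFactors] at hx
        rw [Finset.mem_singleton]
        exact (Nat.prime_dvd_prime_iff_eq hx.1 Nat.prime_two).mp (hx.1.dvd_of_dvd_pow hx.2.1)
      have := Finset.card_le_card this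
      simp at this
      omega
  -- involution centralizers are elementary abelian
  have hexp : ∀ t : G, orderOf t = 2 → ∀ c ∈ Subgroup.centralizer ({t} : Set G), c ^ 2 = 1 := by
    intro t ht c hc
    by_contra hc2
    have hk1 : orderOf c ≠ 1 := by
      intro h
      rw [orderOf_eq_one_iff] at h
      rw [h] at hc2
      simp at hc2
    have hk2 : orderOf c ≠ 2 := by
      intro h
      apply hc2
      rw [← h, pow_orderOf_eq_one]
    have hkodd : Odd (orderOf c) := by
      rcases hord c with h | h | h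
      · exact absurd h hk1
      · exact h.odd_of_ne_two hk2
      · rw [h]; exact hmodd
    have hcomm : Commute t c := by
      rw [Subgroup.mem_centralizer_iff] at hc
      exact hc t (Set.mem_singleton t)
    have hcop : (orderOf t).Coprime (orderOf c) := by
      rw [ht]
      exact Nat.coprime_two_left.mpr hkodd
    have hmul := hcomm.orderOf_mul_eq_mul_orderOf_of_coprime hcop
    rw [ht] at hmul
    have hkpos : 0 < orderOf c := orderOf_pos c
    have hk3 : 3 ≤ orderOf c := by
      obtain ⟨j, hj⟩ := hkodd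
      omega
    rcases hord (t * c) with h | h | h
    · omega
    · rw [hmul] at h
      exact Nat.not_prime_mul (by norm_num) (by omega) h
    · rw [hmul] at h
      rw [← h] at hmodd
      exact (Nat.not_odd_iff_even.mpr (even_two_mul _)) hmodd
  have hC : ∀ t : G, orderOf t = 2 →
      IsMulCommutative (Subgroup.centralizer ({t} : Set G)) ∧
        ∀ c ∈ Subgroup.centralizer ({t} : Set G), c ^ 2 = 1 := by
    intro t ht
    refine ⟨⟨⟨fun a b => ?_⟩⟩, hexp t ht⟩
    apply Subtype.ext
    have ha := hexp t ht a.1 a.2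
    have hb := hexp t ht b.1 b.2
    have hab := hexp t ht (a * b).1 (a * b).2
    show (a : G) * b = b * a
    have hab' : ((a : G) * b) * (a * b) = 1 := by
      have : ((a * b : ↥(Subgroup.centralizer ({t} : Set G))) : G) = (a : G) * b := rfl
      rw [this, pow_two] at hab
      exact hab
    have ha' : (a : G) * a = 1 := by rw [← pow_two]; exact ha
    have hb' : (b : G) * b = 1 := by rw [← pow_two]; exact hb
    have hainv : (a : G)⁻¹ = a := inv_eq_of_mul_eq_one_right ha'
    have hbinv : (b : G)⁻¹ = b := inv_eq_of_mul_eq_one_right hb'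
    have habinv : ((a : G) * b)⁻¹ = a * b := inv_eq_of_mul_eq_one_right hab'
    rw [← habinv, mul_inv_rev, hainv, hbinv]
  obtain ⟨F, hF, hFt, hFcard, ⟨e⟩⟩ := Cfsg.Agent.S1230.result T hnc hnn hC
  refine ⟨F, hF, hFt, ?_, ⟨e⟩⟩
  -- q = card F = 2 ^ n with n ≥ 2
  have hq : Fintype.card F = 2 ^ n := by rw [hFcard]; exact hn
  have hn2 : 2 ≤ n := by
    by_contra hlt
    push Not at hlt
    apply hnc
    interval_cases n
    · have : Subsingleton (T : Subgroup G) := by
        rw [← Finite.card_le_one_iff_subsingleton, hn]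
        simp
      exact isCyclic_of_subsingleton
    · exact isCyclic_of_prime_card (p := 2) (by rw [hn]; norm_num)
  have h4q : 4 ≤ Fintype.card F := by
    rw [hq]
    calc 4 = 2 ^ 2 := rfl
      _ ≤ 2 ^ n := Nat.pow_le_pow_right (by norm_num) hn2
  -- characteristic 2
  have hchar : CharP F 2 := by
    obtain ⟨p, hp, k, hpp, hk⟩ := FiniteField.card' F
    have : p = 2 := by
      have h1 : p ∣ 2 ^ n := by
        rw [← hq, hk]
        exact dvd_pow_self p k.ne_zero
      exact (Nat.prime_dvd_prime_iff_eq hpp Nat.prime_two).mp (hpp.dvd_of_dvd_pow h1)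
    rw [this] at hp
    exact hp
  have hspec := Cfsg.Agent.S2475.result (F := F) 2 h4q
  have hgcd : Nat.gcd 2 (Fintype.card F - 1) = 1 := by
    rw [hq]
    have : Odd (2 ^ n - 1) := by
      have h1 : 2 ∣ 2 ^ n := dvd_pow_self 2 (by omega)
      have h2 : 0 < 2 ^ n := by positivity
      obtain ⟨c, hc⟩ := h1
      exact ⟨c - 1, by omega⟩
    exact Nat.coprime_two_left.mpr this
  rw [hgcd, Nat.div_one, Nat.div_one] at hspec
  -- transport to G
  have hin : ∀ d : ℕ, (d ∣ 2 ∨ d ∣ Fintype.card F - 1 ∨ d ∣ Fintype.card F + 1) →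
      ∃ g : G, orderOf g = d := by
    intro d hd
    have : d ∈ Set.range (orderOf : Matrix.ProjectiveSpecialLinearGroup (Fin 2) F → ℕ) := by
      rw [hspec]; exact hd
    obtain ⟨x, hx⟩ := this
    exact ⟨e.symm x, by rw [MulEquiv.orderOf_eq, hx]⟩
  have hout : ∀ g : G, orderOf g ∣ 2 ∨ orderOf g ∣ Fintype.card F - 1 ∨
      orderOf g ∣ Fintype.card F + 1 := by
    intro g
    have : orderOf (e g) ∈
        Set.range (orderOf : Matrix.ProjectiveSpecialLinearGroup (Fin 2) F → ℕ) := ⟨e g, rfl⟩
    rw [hspec, MulEquiv.orderOf_eq] at this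
    exact this
  set q := Fintype.card F with hqdef
  have hq4dvd : 4 ∣ q := by
    rw [hq]
    obtain ⟨n', rfl⟩ : ∃ n', n = n' + 2 := ⟨n - 2, by omega⟩
    rw [pow_add]; exact Dvd.intro_left _ rfl
  obtain ⟨gA, hgA⟩ := hin (q - 1) (Or.inr (Or.inl dvd_rfl))
  obtain ⟨gB, hgB⟩ := hin (q + 1) (Or.inr (Or.inr dvd_rfl))
  obtain ⟨gm, hgm⟩ := hmS
  -- the primes 2, l, s divide |G|
  have h2G : 2 ∈ (Nat.card G).primeFactors :=
    Nat.mem_primeFactors.mpr ⟨Nat.prime_two, even_iff_two_dvd.mp heven, hcard0⟩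
  have hlG : l ∈ (Nat.card G).primeFactors :=
    Nat.mem_primeFactors.mpr ⟨hl, (Dvd.intro _ hm.symm).trans hmdvd, hcard0⟩
  have hsG : s ∈ (Nat.card G).primeFactors :=
    Nat.mem_primeFactors.mpr ⟨hs, (Dvd.intro_left _ hm.symm).trans hmdvd, hcard0⟩
  have hl2 : l ≠ 2 := by
    rintro rfl
    exact (Nat.not_odd_iff_even.mpr even_two) hlodd
  have hs2 : s ≠ 2 := by
    rintro rfl
    exact (Nat.not_odd_iff_even.mpr even_two) hsodd
  -- key: a prime t dividing |G|, odd, not dividing m, forces l = s
  have hls : ∀ t : ℕ, t.Prime → t ∣ Nat.card G → t ≠ 2 → ¬ t ∣ m → l = s := by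
    intro t ht htG ht2 htm
    by_contra hne
    have htl : t ≠ l := by
      rintro rfl
      exact htm (Dvd.intro _ hm.symm)
    have hts : t ≠ s := by
      rintro rfl
      exact htm (Dvd.intro_left _ hm.symm)
    have htG' : t ∈ (Nat.card G).primeFactors := Nat.mem_primeFactors.mpr ⟨ht, htG, hcard0⟩
    have hsub : ({2, t, l, s} : Finset ℕ) ⊆ (Nat.card G).primeFactors := by
      intro x hx
      simp only [Finset.mem_insert, Finset.mem_singleton] at hx
      rcases hx with rfl | rfl | rfl | rfl <;> assumption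
    have hc4 : ({2, t, l, s} : Finset ℕ).card = 4 := by
      rw [Finset.card_insert_of_notMem, Finset.card_insert_of_notMem,
        Finset.card_insert_of_notMem, Finset.card_singleton]
      · simpa using hne
      · simp only [Finset.mem_insert, Finset.mem_singleton, not_or]
        exact ⟨htl, hts⟩
      · simp only [Finset.mem_insert, Finset.mem_singleton, not_or]
        exact ⟨Ne.symm ht2, Ne.symm hl2, Ne.symm hs2⟩
    have := Finset.card_le_card hsub
    omega
  have hmnd2 : ¬ m ∣ 2 := by
    intro h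
    have := Nat.le_of_dvd (by norm_num) h
    omega
  have hq1 : 1 ≤ q := by omega
  rcases hout gm with h | h | h
  · rw [hgm] at h; exact absurd h hmnd2
  · -- m ∣ q - 1
    rw [hgm] at h
    exfalso
    have hAm : q - 1 = m := by
      rcases hord gA with h1 | h1 | h1
      · rw [hgA] at h1; omega
      · rw [hgA] at h1
        rcases (Nat.dvd_prime h1).mp h with h2 | h2
        · omega
        · rw [h2] at hmnp; exact absurd h1 hmnp
      · rw [hgA] at h1; exact h1
    have hBp : (q + 1).Prime := by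
      rcases hord gB with h1 | h1 | h1
      · rw [hgB] at h1; omega
      · rw [hgB] at h1; exact h1
      · rw [hgB] at h1; omega
    have hBm : ¬ (q + 1) ∣ m := by
      intro hd
      have := Nat.le_of_dvd (by omega) hd
      omega
    have hB2 : q + 1 ≠ 2 := by omega
    have hlseq := hls (q + 1) hBp (hdvd _ ⟨gB, hgB⟩) hB2 hBm
    -- q = l^2 + 1, l odd: q ≡ 2 mod 4
    rw [← hlseq] at hm
    obtain ⟨j, hj⟩ := hlodd
    obtain ⟨c, hc⟩ := hq4dvd
    have : q = l * l + 1 := by omega
    rw [hj] at this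
    have h5 : q = 4 * (j * j + j) + 2 := by rw [this]; ring
    omega
  · -- m ∣ q + 1
    rw [hgm] at h
    have hBm : q + 1 = m := by
      rcases hord gB with h1 | h1 | h1
      · rw [hgB] at h1; omega
      · rw [hgB] at h1
        rcases (Nat.dvd_prime h1).mp h with h2 | h2
        · omega
        · rw [h2] at hmnp; exact absurd h1 hmnp
      · rw [hgB] at h1; exact h1
    have hAp : (q - 1).Prime := by
      rcases hord gA with h1 | h1 | h1
      · rw [hgA] at h1; omega
      · rw [hgA] at h1; exact h1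
      · rw [hgA] at h1; omega
    have hA2 : q - 1 ≠ 2 := by omega
    have hAm : ¬ (q - 1) ∣ m := by
      intro hd
      rw [← hBm] at hd
      have h2 : (q - 1) ∣ 2 := by
        have : q + 1 = (q - 1) + 2 := by omega
        rw [this] at hd
        exact (Nat.dvd_add_right dvd_rfl).mp hd
      have := Nat.le_of_dvd (by norm_num) h2
      omega
    have hlseq := hls (q - 1) hAp (hdvd _ ⟨gA, hgA⟩) hA2 hAm
    rw [← hlseq] at hm
    have hsq : l ^ 2 = 2 ^ n + 1 := by
      rw [pow_two, ← hm, ← hBm, hq]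
    obtain ⟨-, hn3⟩ := sq_eq_two_pow_add_one l n hsq
    rw [hq, hn3]
    norm_num

end Cfsg.Agent.Lib.Helper9.AO
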