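import Mathlib
import Cfsg.Agent.S0183

set_option autoImplicit false

namespace Cfsg.Agent.Lib.Helper9.AO

theorem false_of_cp_odd {G : Type*} [Group G] [Finite G] [IsSimpleGroup G]
    (hG : ¬ IsMulCommutative G) (hodd : Odd (Nat.card G))
    (hord : ∀ g : G, ∃ l k : ℕ, l.Prime ∧ orderOf g = l ^ k) : False := by
  have hCN : Cfsg.IsCNGroup G := by
    intro g hg
    obtain ⟨l, k, hl, hk⟩ := hord g
    have : Fact l.Prime := ⟨hl⟩
    have hk0 : k ≠ 0 := by
      rintro rfl
      rw [pow_zero, orderOf_eq_one_iff] at hk
      exact hg hk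
    have hp : IsPGroup l (Subgroup.centralizer ({g} : Set G)) := by
      intro c
      obtain ⟨l', k', hl', hk'⟩ := hord (c : G)
      by_cases hll : l' = l
      · subst hll
        refine ⟨k', ?_⟩
        apply Subtype.ext
        rw [Subgroup.coe_pow, ← hk', pow_orderOf_eq_one]
        rfl
      · have hcomm : Commute g (c : G) := by
          have := c.2
          rw [Subgroup.mem_centralizer_iff] at this
          exact (this g (Set.mem_singleton g))
        have hcop : (orderOf g).Coprime (orderOf (c : G)) := by
          rw [hk, hk']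
          exact Nat.Coprime.pow _ _ ((Nat.coprime_primes hl hl').mpr (Ne.symm hll))
        have hmul := hcomm.orderOf_mul_eq_mul_orderOf_of_coprime hcop
        obtain ⟨l'', k'', hl'', hk''⟩ := hord (g * c)
        rw [hk''] at hmul
        rw [hk, hk'] at hmul
        by_cases hk'0 : k' = 0
        · subst hk'0
          refine ⟨0, ?_⟩
          rw [pow_zero, orderOf_eq_one_iff] at hk'
          apply Subtype.ext
          simpa using hk'
        · exfalso
          have h1 : l ∣ l'' ^ k'' := by
            rw [hmul]
            exact Dvd.dvd.mul_right (dvd_pow_self l hk0) _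
          have h2 : l' ∣ l'' ^ k'' := by
            rw [hmul]
            exact Dvd.dvd.mul_left (dvd_pow_self l' hk'0) _
          have e1 := (Nat.prime_dvd_prime_iff_eq hl hl'').mp (hl.dvd_of_dvd_pow h1)
          have e2 := (Nat.prime_dvd_prime_iff_eq hl' hl'').mp (hl'.dvd_of_dvd_pow h2)
          exact hll (e2.trans e1.symm)
    exact hp.isNilpotent
  have hsol := Cfsg.Agent.S0183.result hodd hCN
  apply hG
  exact ⟨⟨IsSimpleGroup.comm_iff_isSolvable.mpr hsol⟩⟩

end Cfsg.Agent.Lib.Helper9.AO
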