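import Cfsg.Agent.Lib.Helper9.AbCc

set_option autoImplicit false

/-!
# S2202: the TI property in the faithful case, from the maximality of `N_G(T)`
-/

namespace Cfsg.Agent.Lib.Helper9.AbC

open Cfsg Cfsg.Agent.Lib.Lead Cfsg.Agent.Lib.Lead.SE

universe u

/-- the odd order elements of the centralizer of an involution, as a subgroup -/
def oddCent {G : Type*} [Group G] [Finite G] {T : Sylow 2 G} (h : Hyp T) (s : G)
    (hs : orderOf s = 2) : Subgroup G where
  carrier := {e | Odd (orderOf e) ∧ e * s = s * e}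
  mul_mem' := by
    rintro a b ⟨hao, has⟩ ⟨hbo, hbs⟩
    have hab : Commute a b := h.ab s hs a b has hbs
    refine ⟨?_, ?_⟩
    · have hd := hab.orderOf_mul_dvd_lcm
      have hl : Odd (Nat.lcm (orderOf a) (orderOf b)) := by
        rw [Nat.odd_iff, ← Nat.not_even_iff]
        intro he
        rw [even_iff_two_dvd] at he
        rcases (Nat.Prime.dvd_mul Nat.prime_two).mp
          (dvd_trans he (Nat.lcm_dvd_mul _ _)) with h2 | h2
        · exact (Nat.not_even_iff_odd.mpr hao) (even_iff_two_dvd.mpr h2)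
        · exact (Nat.not_even_iff_odd.mpr hbo) (even_iff_two_dvd.mpr h2)
      exact Odd.of_dvd_nat hl hd
    · rw [mul_assoc, hbs, ← mul_assoc, has, mul_assoc]
  one_mem' := ⟨by rw [orderOf_one]; exact odd_one, by rw [one_mul, mul_one]⟩
  inv_mem' := by
    rintro a ⟨hao, has⟩
    refine ⟨by rw [orderOf_inv]; exact hao, ?_⟩
    have : a⁻¹ * s = a⁻¹ * (s * a) * a⁻¹ := by group
    rw [this, ← has]; group

theorem mem_oddCent {G : Type*} [Group G] [Finite G] {T : Sylow 2 G} (h : Hyp T) (s : G)
    (hs : orderOf s = 2) (e : G) : e ∈ oddCent h s hs ↔ Odd (orderOf e) ∧ e * s = s * e :=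
  Iff.rfl

/-- an element commuting with two non-commuting involutions has odd order -/
theorem odd_of_comm_two {G : Type*} [Group G] [Finite G] {T : Sylow 2 G} (h : Hyp T)
    {s t c : G} (hcs : c * s = s * c) (hct : c * t = t * c) (hst : s * t ≠ t * s) :
    Odd (orderOf c) := by
  rw [← Nat.not_even_iff_odd]
  intro he
  have h2 : 2 ∣ orderOf c := even_iff_two_dvd.mp he
  have hpos : orderOf c ≠ 0 := (orderOf_pos c).ne'
  have hj : orderOf (c ^ (orderOf c / 2)) = 2 := orderOf_pow_orderOf_div hpos h2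
  apply hst
  refine h.ab _ hj s t ?_ ?_
  · exact ((Commute.pow_left (show Commute c s from hcs) _).eq).symm
  · exact ((Commute.pow_left (show Commute c t from hct) _).eq).symm

theorem ti_of_max_aux {G : Type u} [Group G] [Finite G] {T : Sylow 2 G} (h : Hyp T)
    (hcore : (Subgroup.normalizer ((T : Subgroup G) : Set G)).normalCore = ⊥)
    (IH : ∀ (M : Type u) [Group M] [Finite M], Nat.card M < Nat.card G →
      ∀ T' : Sylow 2 M, Hyp T' → Concl T')
    (hmax : ∀ M : Subgroup G, Subgroup.normalizer ((T : Subgroup G) : Set G) ≤ M →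
      ¬ M ≤ Subgroup.normalizer ((T : Subgroup G) : Set G) → M = ⊤)
    (s t c : G) (hsT : s ∈ T) (hs : orderOf s = 2) (ht : orderOf t = 2) (hc1 : c ≠ 1)
    (hcs : c * s = s * c) (hct : c * t = t * c) : s * t = t * s := by
  by_contra hst
  have hs1 : s ≠ 1 := by
    intro h1; rw [h1, orderOf_one] at hs; omega
  set K := oddCent h s hs with hK
  have hcK : c ∈ K := ⟨odd_of_comm_two h hcs hct hst, hcs⟩
  have hKH : K ≤ Subgroup.normalizer ((T : Subgroup G) : Set G) := by
    intro e he
    apply centralizer_le h.se hs (Subgroup.le_normalizer hsT)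
    rw [Subgroup.mem_centralizer_iff]
    intro x hx
    rw [Set.mem_singleton_iff] at hx; subst hx; exact he.2.symm
  -- conjugation by elements of HH preserves K
  have hconj : ∀ g ∈ Subgroup.normalizer ((T : Subgroup G) : Set G), ∀ e ∈ K,
      g * e * g⁻¹ ∈ K := by
    intro g hg e he
    refine ⟨by rw [orderOf_conj_eq]; exact he.1, ?_⟩
    have hgs : g * s * g⁻¹ ∈ T := (Subgroup.mem_normalizer_iff.mp hg s).mp hsT
    have hgs1 : g * s * g⁻¹ ≠ 1 := by
      intro h1
      apply hs1
      have : s = g⁻¹ * (g * s * g⁻¹) * g := by group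
      rw [this, h1]; group
    have hcomm : (g * e * g⁻¹) * (g * s * g⁻¹) = (g * s * g⁻¹) * (g * e * g⁻¹) := by
      have e1 : (g * e * g⁻¹) * (g * s * g⁻¹) = g * (e * s) * g⁻¹ := by group
      have e2 : (g * s * g⁻¹) * (g * e * g⁻¹) = g * (s * e) * g⁻¹ := by group
      rw [e1, e2, he.2]
    exact h.cent_of_comm hgs hgs1 hcomm hsT
  set M : Subgroup G := Subgroup.normalizer (K : Set G) with hM
  have hHM : Subgroup.normalizer ((T : Subgroup G) : Set G) ≤ M := by
    intro g hg
    rw [hM, Subgroup.mem_normalizer_iff]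
    intro e
    constructor
    · intro he; exact hconj g hg e he
    · intro he
      have := hconj g⁻¹ (Subgroup.inv_mem _ hg) _ he
      have e1 : g⁻¹ * (g * e * g⁻¹) * g⁻¹⁻¹ = e := by group
      rw [e1] at this; exact this
  have htM : t ∈ M := by
    rw [hM, Subgroup.mem_normalizer_iff]
    intro e
    have key : ∀ e' ∈ K, t * e' * t⁻¹ = e' := by
      intro e' he'
      have := odd_cent_le h hcore IH hs ht hc1 hcs hct hst he'.1 he'.2
      rw [← this]; group
    constructor
    · intro he; rw [key e he]; exact he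
    · intro he
      have h1 := key _ he
      have h2 : t * e * t⁻¹ = e := by
        calc t * e * t⁻¹ = t⁻¹ * (t * (t * e * t⁻¹) * t⁻¹) * t := by group
          _ = t⁻¹ * (t * e * t⁻¹) * t := by rw [h1]
          _ = e := by group
      rw [← h2]; exact he
  have htH : t ∉ Subgroup.normalizer ((T : Subgroup G) : Set G) :=
    fun htH => hst (h.comm hsT (h.invol_mem ht htH))
  have hMtop : M = ⊤ := hmax M hHM (fun hle => htH (hle htM))
  have hcc : c ∈ (Subgroup.normalizer ((T : Subgroup G) : Set G)).normalCore := by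
    intro b
    apply hKH
    have hb : b ∈ M := by rw [hMtop]; trivial
    rw [hM, Subgroup.mem_normalizer_iff] at hb
    exact (hb c).mp hcK
  rw [hcore] at hcc
  exact hc1 (Subgroup.mem_bot.mp hcc)

/-- in the faithful case, given the maximality of `N_G(T)`: an element `c ≠ 1` commuting with
two involutions forces them to commute -/
theorem ti_of_max {G : Type u} [Group G] [Finite G] {T : Sylow 2 G} (h : Hyp T)
    (hcore : (Subgroup.normalizer ((T : Subgroup G) : Set G)).normalCore = ⊥)
    (IH : ∀ (M : Type u) [Group M] [Finite M], Nat.card M < Nat.card G →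
      ∀ T' : Sylow 2 M, Hyp T' → Concl T')
    (hmax : ∀ M : Subgroup G, Subgroup.normalizer ((T : Subgroup G) : Set G) ≤ M →
      ¬ M ≤ Subgroup.normalizer ((T : Subgroup G) : Set G) → M = ⊤) :
    ∀ s t c : G, orderOf s = 2 → orderOf t = 2 → c ≠ 1 → c * s = s * c → c * t = t * c →
      s * t = t * s := by
  intro s t c hs ht hc1 hcs hct
  obtain ⟨g, hg⟩ := KleinSylow.conj_mem_sylow T s hs
  have conj_comm : ∀ a b : G, a * b = b * a → (g * a * g⁻¹) * (g * b * g⁻¹) =
      (g * b * g⁻¹) * (g * a * g⁻¹) := by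
    intro a b hab
    have e1 : (g * a * g⁻¹) * (g * b * g⁻¹) = g * (a * b) * g⁻¹ := by group
    have e2 : (g * b * g⁻¹) * (g * a * g⁻¹) = g * (b * a) * g⁻¹ := by group
    rw [e1, e2, hab]
  have conj_comm' : ∀ a b : G, (g * a * g⁻¹) * (g * b * g⁻¹) =
      (g * b * g⁻¹) * (g * a * g⁻¹) → a * b = b * a := by
    intro a b hab
    have e1 : (g * a * g⁻¹) * (g * b * g⁻¹) = g * (a * b) * g⁻¹ := by group
    have e2 : (g * b * g⁻¹) * (g * a * g⁻¹) = g * (b * a) * g⁻¹ := by group
    rw [e1, e2] at hab
    exact mul_left_cancel (mul_right_cancel hab)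
  apply conj_comm'
  apply ti_of_max_aux h hcore IH hmax (g * s * g⁻¹) (g * t * g⁻¹) (g * c * g⁻¹) hg
  · rw [orderOf_conj_eq]; exact hs
  · rw [orderOf_conj_eq]; exact ht
  · intro h1
    apply hc1
    have : c = g⁻¹ * (g * c * g⁻¹) * g := by group
    rw [this, h1]; group
  · exact conj_comm c s hcs
  · exact conj_comm c t hct

end Cfsg.Agent.Lib.Helper9.AbC
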