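import Cfsg.Agent.Lib.Helper9.AbCc

set_option autoImplicit false

/-!
# S2202: a proper subgroup containing `N_G(T)` is strongly embedded
-/

namespace Cfsg.Agent.Lib.Helper9.AbC

open Cfsg Cfsg.Agent.Lib.Lead Cfsg.Agent.Lib.Lead.SE

/-- an involution of a subgroup `M ≥ T` is `M`-conjugate into `T` -/
theorem exists_conj_mem_of_le {G : Type*} [Group G] [Finite G] {T : Sylow 2 G}
    (M : Subgroup G) (hTM : (T : Subgroup G) ≤ M) {v : G} (hvM : v ∈ M) (hv : orderOf v = 2) :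
    ∃ m ∈ M, m * v * m⁻¹ ∈ T := by
  obtain ⟨g, hg⟩ := KleinSylow.conj_mem_sylow (T.subtype hTM) (⟨v, hvM⟩ : M)
    (by rw [Subgroup.orderOf_mk]; exact hv)
  refine ⟨g, g.2, ?_⟩
  have : g * (⟨v, hvM⟩ : M) * g⁻¹ ∈ ((T.subtype hTM : Sylow 2 M) : Subgroup M) := hg
  rw [Sylow.coe_subtype, Subgroup.mem_subgroupOf] at this
  have h3 : (g : G) * v * (g : G)⁻¹ ∈ (T : Subgroup G) := by simpa using this
  exact h3

theorem se_of_le {G : Type*} [Group G] [Finite G] {T : Sylow 2 G} (h : Hyp T)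
    (M : Subgroup G) (hHM : Subgroup.normalizer ((T : Subgroup G) : Set G) ≤ M) (hM : M ≠ ⊤) :
    IsStronglyEmbedded M := by
  have hTM : (T : Subgroup G) ≤ M := le_trans Subgroup.le_normalizer hHM
  refine ⟨hM, ?_, ?_⟩
  · have h1 : Even (Nat.card (Subgroup.normalizer ((T : Subgroup G) : Set G))) := h.se.2.1
    exact h1.trans_dvd (Subgroup.card_dvd_of_le hHM)
  · intro g hg
    rw [← Nat.not_even_iff_odd]
    intro he
    obtain ⟨v, hv, hv2⟩ := exists_invol_of_even _ he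
    obtain ⟨hvM, hvg⟩ := Subgroup.mem_inf.mp hv
    obtain ⟨w, hwM, hwv⟩ := Subgroup.mem_map.mp hvg
    have hwv' : g * w * g⁻¹ = v := by simpa using hwv
    have hw2 : orderOf w = 2 := by rw [← hv2, ← hwv', orderOf_conj_eq]
    obtain ⟨m, hmM, hmv⟩ := exists_conj_mem_of_le M hTM hvM hv2
    obtain ⟨m', hm'M, hm'w⟩ := exists_conj_mem_of_le M hTM hwM hw2
    have hτ'1 : m' * w * m'⁻¹ ≠ 1 := by
      intro h1
      have : orderOf (m' * w * m'⁻¹) = 2 := by rw [orderOf_conj_eq]; exact hw2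
      rw [h1, orderOf_one] at this
      omega
    have hconj : (m * g * m'⁻¹) * (m' * w * m'⁻¹) * (m * g * m'⁻¹)⁻¹ ∈ T := by
      have : (m * g * m'⁻¹) * (m' * w * m'⁻¹) * (m * g * m'⁻¹)⁻¹ = m * (g * w * g⁻¹) * m⁻¹ := by
        group
      rw [this, hwv']; exact hmv
    have h3 : m * g * m'⁻¹ ∈ M := hHM (h.ti hm'w hτ'1 hconj)
    apply hg
    have : g = m⁻¹ * (m * g * m'⁻¹) * m' := by group
    rw [this]; exact M.mul_mem (M.mul_mem (M.inv_mem hmM) h3) hm'M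

end Cfsg.Agent.Lib.Helper9.AbC
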