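import Cfsg.Agent.Lib.Helper9.AbCe
import Cfsg.Agent.Lib.Helper5.AbCI
import Cfsg.Agent.Lib.Helper3.AbCZ1

set_option autoImplicit false

/-!
# S2202: `N_G(T)` is a maximal subgroup (given the induction hypothesis)
-/

namespace Cfsg.Agent.Lib.Helper9.AbC

open Cfsg Cfsg.Agent.Lib.Lead Cfsg.Agent.Lib.Lead.SE

universe u

theorem normalizer_maximal {G : Type u} [Group G] [Finite G] {T : Sylow 2 G} (h : Hyp T)
    (IH : ∀ (M : Type u) [Group M] [Finite M], Nat.card M < Nat.card G →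
      ∀ T' : Sylow 2 M, Hyp T' → Concl T')
    (M : Subgroup G) (hHM : Subgroup.normalizer ((T : Subgroup G) : Set G) ≤ M)
    (hMH : ¬ M ≤ Subgroup.normalizer ((T : Subgroup G) : Set G)) : M = ⊤ := by
  by_contra hM
  have hTM : (T : Subgroup G) ≤ M := le_trans Subgroup.le_normalizer hHM
  have hse : IsStronglyEmbedded M := se_of_le h M hHM hM
  have h₀ : Hyp (T.subtype hTM) := hyp_subgroup h M hTM hMH
  have hlt : Nat.card M < Nat.card G :=
    lt_of_not_ge (fun hle => hM (Subgroup.eq_top_of_le_card _ hle))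
  have hc₀ : Concl (T.subtype hTM) := IH M hlt _ h₀
  have hcen := Cfsg.Agent.Lib.Helper3.AbCZ.core_central h₀ hc₀
  obtain ⟨g, hg⟩ : ∃ g : G, g ∉ M := by
    by_contra hall
    push Not at hall
    exact hM (eq_top_iff.mpr fun x _ => hall x)
  have hstab : ∀ a : G, a • ((1 : G) : G ⧸ M) = ((1 : G) : G ⧸ M) ↔ a ∈ M := by
    intro a
    rw [smul_mk_eq_iff]; simp
  have hxy : ((1 : G) : G ⧸ M) ≠ ((g : G) : G ⧸ M) := by
    intro e
    apply hg
    have := QuotientGroup.eq.mp e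
    simpa using this
  obtain ⟨s0, hs0T, hs0⟩ := h.exists_invol_mem
  have hle := le_card_swap hse hxy
  have hpos : 0 < Nat.card {t : G // orderOf t = 2 ∧ t ∈ M} :=
    Nat.card_pos_iff.mpr ⟨⟨⟨s0, hs0, hTM hs0T⟩⟩, inferInstance⟩
  have hne : Nonempty {i : G // orderOf i = 2 ∧ i • ((1 : G) : G ⧸ M) = ((g : G) : G ⧸ M)} :=
    (Nat.card_pos_iff.mp (lt_of_lt_of_le hpos hle)).1
  obtain ⟨⟨u, hu, hux⟩⟩ := hne
  set D : Subgroup G := MulAction.stabilizer G ((g : G) : G ⧸ M) ⊓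
    MulAction.stabilizer G ((1 : G) : G ⧸ M) with hD
  have hDM : D ≤ M := fun d hd =>
    (hstab d).mp (MulAction.mem_stabilizer_iff.mp (Subgroup.mem_inf.mp hd).2)
  apply Cfsg.Agent.Lib.Helper5.AbCI.no_trans_odd h₀ hc₀ hcen (D.subgroupOf M)
  · intro d hd
    rw [Subgroup.mem_subgroupOf] at hd
    rw [← Subgroup.orderOf_coe]
    obtain ⟨hdy, hdx⟩ := Subgroup.mem_inf.mp hd
    exact odd_orderOf_of_fix hse hxy (MulAction.mem_stabilizer_iff.mp hdx)
      (MulAction.mem_stabilizer_iff.mp hdy)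
  · intro a b ha hb
    have ha' : orderOf (a : G) = 2 := by rw [Subgroup.orderOf_coe]; exact ha
    have hb' : orderOf (b : G) = 2 := by rw [Subgroup.orderOf_coe]; exact hb
    have hax : (a : G) • ((1 : G) : G ⧸ M) = ((1 : G) : G ⧸ M) := (hstab a).mpr a.2
    have hbx : (b : G) • ((1 : G) : G ⧸ M) = ((1 : G) : G ⧸ M) := (hstab b).mpr b.2
    obtain ⟨d, hd, hdab⟩ := exists_conj_in_inf hse hxy ha' hb' hax hbx
    refine ⟨⟨d, hDM hd⟩, ?_, Subtype.ext hdab⟩
    rw [Subgroup.mem_subgroupOf]; exact hd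

end Cfsg.Agent.Lib.Helper9.AbC
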