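import Cfsg.Agent.Lib.Helper9.AbCb
import Cfsg.Agent.Lib.Helper9.T97a

set_option autoImplicit false

/-!
# S2202: passage to the quotient by the core of `N_G(T)`
-/

namespace Cfsg.Agent.Lib.Helper9.AbC

open Cfsg Cfsg.Agent.Lib.Lead Cfsg.Agent.Lib.Lead.SE

variable {G : Type*} [Group G] [Finite G] {T : Sylow 2 G}

local notation "HH" => Subgroup.normalizer ((T : Subgroup G) : Set G)
local notation "NN" => Subgroup.normalCore (Subgroup.normalizer ((T : Subgroup G) : Set G))

namespace Quot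

/-- the key lemma: a conjugate of an element of `T` which is congruent mod `N` to an element of
`T` lies in `T` -/
theorem conj_mem (h : Hyp T) {t g t' : G} (ht : t ∈ T) (ht' : t' ∈ T)
    (hmem : (QuotientGroup.mk' NN) (g * t * g⁻¹) = (QuotientGroup.mk' NN) t') :
    g * t * g⁻¹ ∈ T := by
  have hn : t'⁻¹ * (g * t * g⁻¹) ∈ NN := by
    have := QuotientGroup.eq.mp hmem.symm
    exact this
  set n := t'⁻¹ * (g * t * g⁻¹) with hndef
  have hx : g * t * g⁻¹ = t' * n := by rw [hndef]; group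
  obtain ⟨k, hk⟩ := h.orderOf_mem ht
  have hcomm : Commute t' n := (h.core_cent hn ht').symm
  have hpow : (t' * n) ^ (2 ^ k) = 1 := by
    rw [← hx, ← hk, ← orderOf_conj_eq g t, pow_orderOf_eq_one]
  rw [hcomm.mul_pow] at hpow
  have hn2 : n ^ (2 ^ k) = (t' ^ (2 ^ k))⁻¹ := eq_inv_of_mul_eq_one_right hpow
  have hn2N : n ^ (2 ^ k) ∈ NN := Subgroup.pow_mem _ hn _
  have hn2T : n ^ (2 ^ k) ∈ T := by
    rw [hn2]; exact T.1.inv_mem (T.1.pow_mem ht' _)
  have hn21 : n ^ (2 ^ k) = 1 := h.core_inf hn2N hn2T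
  have hdvd : orderOf n ∣ 2 ^ k := orderOf_dvd_of_pow_eq_one hn21
  obtain ⟨j, -, hj⟩ := (Nat.dvd_prime_pow Nat.prime_two).mp hdvd
  have hodd := h.core_odd hn
  have hj0 : j = 0 := by
    by_contra hj0
    rw [hj] at hodd
    exact (Nat.not_even_iff_odd.mpr hodd) ((Nat.even_pow).mpr ⟨even_two, hj0⟩)
  rw [hj0, pow_zero, orderOf_eq_one_iff] at hj
  rw [hx, hj, mul_one]; exact ht'

variable (T) in
/-- the image of `T` in the quotient -/
noncomputable def T' : Sylow 2 (G ⧸ NN) :=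
  haveI : Fact (Nat.Prime 2) := ⟨Nat.prime_two⟩
  T.mapSurjective (QuotientGroup.mk'_surjective NN)

theorem mem_T' {x : G ⧸ NN} : x ∈ T' T ↔ ∃ t ∈ T, (QuotientGroup.mk' NN) t = x := by
  haveI : Fact (Nat.Prime 2) := ⟨Nat.prime_two⟩
  change x ∈ ((T : Subgroup G).map (QuotientGroup.mk' NN)) ↔ _
  rw [Subgroup.mem_map]
  rfl

theorem mk_mem_T' {t : G} (ht : t ∈ T) : (QuotientGroup.mk' NN) t ∈ T' T :=
  mem_T'.mpr ⟨t, ht, rfl⟩

theorem mk_mem_normalizer_iff (h : Hyp T) (g : G) :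
    (QuotientGroup.mk' NN) g ∈ Subgroup.normalizer (((T' T : Sylow 2 (G ⧸ NN)) :
      Subgroup (G ⧸ NN)) : Set (G ⧸ NN)) ↔ g ∈ HH := by
  constructor
  · intro hg
    have key : ∀ g : G, (QuotientGroup.mk' NN) g ∈ Subgroup.normalizer
        (((T' T : Sylow 2 (G ⧸ NN)) : Subgroup (G ⧸ NN)) : Set (G ⧸ NN)) →
        ∀ t ∈ T, g * t * g⁻¹ ∈ T := by
      intro g hg t ht
      have h1 := (Subgroup.mem_normalizer_iff.mp hg ((QuotientGroup.mk' NN) t)).mp (mk_mem_T' ht)
      obtain ⟨t', ht', he⟩ := mem_T'.mp h1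
      apply conj_mem h ht ht'
      rw [he]; simp
    rw [Subgroup.mem_normalizer_iff]
    intro t
    refine ⟨key g hg t, fun ht => ?_⟩
    have hg' : (QuotientGroup.mk' NN) g⁻¹ ∈ Subgroup.normalizer
        (((T' T : Sylow 2 (G ⧸ NN)) : Subgroup (G ⧸ NN)) : Set (G ⧸ NN)) := by
      rw [map_inv]; exact Subgroup.inv_mem _ hg
    have := key g⁻¹ hg' _ ht
    have e : g⁻¹ * (g * t * g⁻¹) * g⁻¹⁻¹ = t := by group
    rw [e] at this; exact this
  · intro hg
    have key : ∀ g : G, g ∈ HH → ∀ x : G ⧸ NN, x ∈ T' T →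
        (QuotientGroup.mk' NN) g * x * ((QuotientGroup.mk' NN) g)⁻¹ ∈ T' T := by
      intro g hg x hx
      obtain ⟨t, ht, rfl⟩ := mem_T'.mp hx
      have h1 : g * t * g⁻¹ ∈ T := (Subgroup.mem_normalizer_iff.mp hg t).mp ht
      have := mk_mem_T' h1
      simpa using this
    rw [Subgroup.mem_normalizer_iff]
    intro x
    refine ⟨key g hg x, fun hx => ?_⟩
    have := key g⁻¹ (Subgroup.inv_mem _ hg) _ hx
    rw [map_inv] at this
    have e : ((QuotientGroup.mk' NN) g)⁻¹ * ((QuotientGroup.mk' NN) g * x *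
        ((QuotientGroup.mk' NN) g)⁻¹) * ((QuotientGroup.mk' NN) g)⁻¹⁻¹ = x := by group
    rw [e] at this; exact this

omit [Finite G] in
theorem mk_eq_mk_iff {a b : G} :
    (QuotientGroup.mk' NN) a = (QuotientGroup.mk' NN) b ↔ a⁻¹ * b ∈ NN := by
  exact QuotientGroup.eq

omit [Finite G] in
theorem mk_eq_one_iff {a : G} : (QuotientGroup.mk' NN) a = 1 ↔ a ∈ NN := by
  exact QuotientGroup.eq_one_iff a

/-- the core has odd order -/
theorem card_core_coprime (h : Hyp T) : (Nat.card NN).Coprime 2 := by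
  haveI : Fact (Nat.Prime 2) := ⟨Nat.prime_two⟩
  rw [Nat.coprime_comm, Nat.Prime.coprime_iff_not_dvd Nat.prime_two]
  intro h2
  obtain ⟨c, hc⟩ := exists_prime_orderOf_dvd_card' 2 h2
  have hodd := h.core_odd c.2
  rw [← Subgroup.orderOf_coe] at hc
  rw [hc] at hodd
  exact absurd hodd (by decide)

theorem hyp_T' (h : Hyp T) : Hyp (T' T) := by
  haveI : Fact (Nat.Prime 2) := ⟨Nat.prime_two⟩
  refine ⟨?_, ?_, ?_⟩
  · intro hcyc
    apply h.nc
    -- T ≃* T'
    let f : (T : Subgroup G) →* ((T : Subgroup G).map (QuotientGroup.mk' NN)) :=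
      (QuotientGroup.mk' NN).subgroupMap (T : Subgroup G)
    have hf_surj : Function.Surjective f := (QuotientGroup.mk' NN).subgroupMap_surjective _
    have hf_inj : Function.Injective f := by
      intro a b hab
      have h1 : (QuotientGroup.mk' NN) (a : G) = (QuotientGroup.mk' NN) (b : G) :=
        congrArg Subtype.val hab
      have h2 := mk_eq_mk_iff.mp h1
      have h3 : (a : G)⁻¹ * (b : G) ∈ T := T.1.mul_mem (T.1.inv_mem a.2) b.2
      have h4 := h.core_inf h2 h3
      apply Subtype.ext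
      exact inv_mul_eq_one.mp h4
    let e : (T : Subgroup G) ≃* ((T : Subgroup G).map (QuotientGroup.mk' NN)) :=
      MulEquiv.ofBijective f ⟨hf_inj, hf_surj⟩
    have hcyc' : IsCyclic ((T : Subgroup G).map (QuotientGroup.mk' NN)) := hcyc
    exact e.isCyclic.mpr hcyc'
  · intro hnorm
    apply h.nn
    constructor
    intro t ht g
    have h1 := hnorm.conj_mem _ (mk_mem_T' ht) ((QuotientGroup.mk' NN) g)
    obtain ⟨t', ht', he⟩ := mem_T'.mp h1
    apply conj_mem h ht ht'
    rw [he]; simp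
  · intro tb htb ab bb hab hbb
    have htb1 : tb ≠ 1 := by
      intro h1; rw [h1, orderOf_one] at htb; omega
    have htb2 : tb ^ 2 = 1 := by
      have := pow_orderOf_eq_one tb
      rwa [htb] at this
    obtain ⟨u, hu1, hu2, hutb⟩ := Cfsg.Agent.Lib.Helper9.T97.lift_invol NN (card_core_coprime h) tb htb1 htb2
    have hu : orderOf u = 2 := orderOf_eq_prime hu2 hu1
    obtain ⟨a, rfl⟩ := QuotientGroup.mk'_surjective NN ab
    obtain ⟨b, rfl⟩ := QuotientGroup.mk'_surjective NN bb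
    have key : ∀ a : G, (QuotientGroup.mk' NN) a * tb = tb * (QuotientGroup.mk' NN) a →
        a * u = u * a := by
      intro a ha
      set n := a * u * a⁻¹ * u⁻¹ with hn
      have hnN : n ∈ NN := by
        rw [← mk_eq_one_iff, hn]
        simp only [map_mul, map_inv, hutb]
        rw [ha]; group
      have hcomm : Commute n u := h.core_cent_invol hnN hu
      have e1 : a * u * a⁻¹ = n * u := by rw [hn]; group
      have e2 : (n * u) ^ 2 = 1 := by
        rw [← e1, conj_pow, hu2]; group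
      rw [hcomm.mul_pow, hu2, mul_one] at e2
      have hn1 : n = 1 := eq_one_of_odd_of_sq (h.core_odd hnN) e2
      have : a * u = (a * u * a⁻¹) * a := by group
      rw [this, e1, hn1, one_mul]
    have h1 := h.ab u hu a b (key a hab) (key b hbb)
    rw [← map_mul, ← map_mul, h1]

theorem core_T' (h : Hyp T) :
    (Subgroup.normalizer (((T' T : Sylow 2 (G ⧸ NN)) : Subgroup (G ⧸ NN)) :
      Set (G ⧸ NN))).normalCore = ⊥ := by
  rw [eq_bot_iff]
  intro xb hxb
  obtain ⟨x, rfl⟩ := QuotientGroup.mk'_surjective NN xb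
  rw [Subgroup.mem_bot, mk_eq_one_iff]
  intro g
  rw [← mk_mem_normalizer_iff h]
  have := hxb ((QuotientGroup.mk' NN) g)
  simpa using this

local notation "HH'" => Subgroup.normalizer (((T' T : Sylow 2 (G ⧸ NN)) : Subgroup (G ⧸ NN)) :
      Set (G ⧸ NN))

variable (T) in
/-- the map of coset spaces `G ⧸ N_G(T) → (G ⧸ N) ⧸ N(T')` -/
noncomputable def phi (h : Hyp T) : G ⧸ HH → (G ⧸ NN) ⧸ HH' :=
  Quotient.map' (fun g => (QuotientGroup.mk' NN) g) (by
    intro a b hab
    rw [QuotientGroup.leftRel_apply] at hab ⊢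
    have := (mk_mem_normalizer_iff h (a⁻¹ * b)).mpr hab
    simpa using this)

theorem phi_mk (h : Hyp T) (g : G) :
    phi T h ((g : G) : G ⧸ HH) = (((QuotientGroup.mk' NN) g : G ⧸ NN) : (G ⧸ NN) ⧸ HH') := rfl

theorem phi_smul (h : Hyp T) (g : G) (x : G ⧸ HH) :
    phi T h (g • x) = (QuotientGroup.mk' NN) g • phi T h x := by
  induction x using QuotientGroup.induction_on with
  | H a =>
    have e1 : g • ((a : G) : G ⧸ HH) = ((g * a : G) : G ⧸ HH) := rfl
    rw [e1, phi_mk, phi_mk, map_mul]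
    rfl

theorem phi_injective (h : Hyp T) : Function.Injective (phi T h) := by
  intro x y hxy
  induction x using QuotientGroup.induction_on with
  | H a =>
    induction y using QuotientGroup.induction_on with
    | H b =>
      rw [phi_mk, phi_mk] at hxy
      have h1 := QuotientGroup.eq.mp hxy
      rw [← map_inv, ← map_mul] at h1
      have h2 := (mk_mem_normalizer_iff h (a⁻¹ * b)).mp h1
      exact QuotientGroup.eq.mpr h2

theorem phi_base (h : Hyp T) :
    phi T h ((1 : G) : G ⧸ HH) = ((1 : G ⧸ NN) : (G ⧸ NN) ⧸ HH') := by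
  rw [phi_mk, map_one]

theorem concl_of_concl (h : Hyp T) (hc' : Concl (T' T)) : Concl T := by
  have hcore' := core_T' h
  have hinj := phi_injective h
  refine ⟨?_, ?_, ?_, ?_, ?_⟩
  · -- elem
    intro t ht
    have h1 := hc'.elem _ (mk_mem_T' ht)
    rw [← map_pow, mk_eq_one_iff] at h1
    exact h.core_inf h1 (T.1.pow_mem ht 2)
  · -- core
    intro c hcT hco
    have h1 : (QuotientGroup.mk' NN) c ∈ Subgroup.normalCore HH' := by
      apply hc'.core
      · intro tb htb
        obtain ⟨t, ht, rfl⟩ := mem_T'.mp htb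
        rw [← map_mul, ← map_mul, hcT t ht]
      · exact Odd.of_dvd_nat hco (orderOf_map_dvd _ c)
    rw [hcore', Subgroup.mem_bot, mk_eq_one_iff] at h1
    exact h1
  · -- reg
    intro y z hy hz
    have hy' : phi T h y ≠ ((1 : G ⧸ NN) : (G ⧸ NN) ⧸ HH') := by
      rw [← phi_base h]; exact fun e => hy (hinj e)
    have hz' : phi T h z ≠ ((1 : G ⧸ NN) : (G ⧸ NN) ⧸ HH') := by
      rw [← phi_base h]; exact fun e => hz (hinj e)
    obtain ⟨tb, ⟨htbT, htb⟩, huniq⟩ := hc'.reg _ _ hy' hz'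
    obtain ⟨t, ht, rfl⟩ := mem_T'.mp htbT
    refine ⟨t, ⟨ht, ?_⟩, ?_⟩
    · apply hinj
      rw [phi_smul]; exact htb
    · rintro t₂ ⟨ht₂, ht₂y⟩
      have h1 := huniq ((QuotientGroup.mk' NN) t₂) ⟨mk_mem_T' ht₂, by
        rw [← phi_smul, ht₂y]⟩
      have h2 := mk_eq_mk_iff.mp h1
      have h3 : t₂⁻¹ * t ∈ T := T.1.mul_mem (T.1.inv_mem ht₂) ht
      have h4 := h.core_inf h2 h3
      exact (inv_mul_eq_one.mp h4)
  · -- three
    intro g x y z hxy hxz hyz hx hy hz
    have h1 : (QuotientGroup.mk' NN) g ∈ Subgroup.normalCore HH' := by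
      apply hc'.three _ (phi T h x) (phi T h y) (phi T h z)
        (fun e => hxy (hinj e)) (fun e => hxz (hinj e)) (fun e => hyz (hinj e))
      · rw [← phi_smul, hx]
      · rw [← phi_smul, hy]
      · rw [← phi_smul, hz]
    rw [hcore', Subgroup.mem_bot, mk_eq_one_iff] at h1
    exact h1
  · -- gen2
    intro x y hxy
    obtain ⟨db, hdbx, hdby, hgen⟩ := hc'.gen2 (phi T h x) (phi T h y) (fun e => hxy (hinj e))
    obtain ⟨d₀, rfl⟩ := QuotientGroup.mk'_surjective NN db
    refine ⟨d₀, ?_, ?_, ?_⟩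
    · apply hinj; rw [phi_smul]; exact hdbx
    · apply hinj; rw [phi_smul]; exact hdby
    · intro d hdx hdy
      obtain ⟨k, nb, hnb, hd⟩ := hgen ((QuotientGroup.mk' NN) d)
        (by rw [← phi_smul, hdx]) (by rw [← phi_smul, hdy])
      rw [hcore', Subgroup.mem_bot] at hnb
      rw [hnb, mul_one, ← map_pow] at hd
      have h2 := mk_eq_mk_iff.mp hd.symm
      refine ⟨k, (d₀ ^ k)⁻¹ * d, h2, by group⟩

end Quot

/-- PIECE Q of S2202 -/
theorem exists_quot {G : Type*} [Group G] [Finite G] {T : Sylow 2 G} (h : Hyp T) :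
    ∃ T' : Sylow 2 (G ⧸ (Subgroup.normalizer ((T : Subgroup G) : Set G)).normalCore),
      Hyp T' ∧
      (Subgroup.normalizer ((T' : Subgroup (G ⧸ (Subgroup.normalizer
        ((T : Subgroup G) : Set G)).normalCore)) : Set (G ⧸ (Subgroup.normalizer
        ((T : Subgroup G) : Set G)).normalCore))).normalCore = ⊥ ∧
      (Concl T' → Concl T) :=
  ⟨Quot.T' T, Quot.hyp_T' h, Quot.core_T' h, Quot.concl_of_concl h⟩

end Cfsg.Agent.Lib.Helper9.AbC
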