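import Cfsg.Agent.Lib.Helper9.AbCd
import Cfsg.Agent.Lib.Helper9.AbCe
import Cfsg.Agent.Lib.Helper5.AbCK
import Cfsg.Agent.Lib.Helper7.AbCF
import Cfsg.Agent.Lib.Helper7.AbCE1
import Cfsg.Agent.Lib.Helper7.AbCE2
import Cfsg.Agent.Lib.Helper9.AbCf
import Cfsg.Agent.Lib.Helper9.AbCq

set_option autoImplicit false

/-!
# S2202: the induction wrapper
-/

namespace Cfsg.Agent.Lib.Helper9.AbC

open Cfsg Cfsg.Agent.Lib.Lead Cfsg.Agent.Lib.Lead.SE

universe u

theorem main_aux : ∀ (n : ℕ) (G : Type u) [Group G] [Finite G], Nat.card G = n →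
    ∀ T : Sylow 2 G, Hyp T → Concl T := by
  intro n
  induction n using Nat.strong_induction_on with
  | _ n ih =>
    intro G _ _ hn T h
    have IH : ∀ (M : Type u) [Group M] [Finite M], Nat.card M < Nat.card G →
        ∀ T' : Sylow 2 M, Hyp T' → Concl T' := by
      intro M _ _ hlt T' h'
      exact ih (Nat.card M) (hn ▸ hlt) M rfl T' h'
    by_cases hcore : (Subgroup.normalizer ((T : Subgroup G) : Set G)).normalCore = ⊥
    · have hTI := ti_of_max h hcore IH (normalizer_maximal h IH)
      have hSR := Cfsg.Agent.Lib.Helper5.AbCK.semireg_of_ti h hTI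
      have hF := Cfsg.Agent.Lib.Helper7.AbCF.fix_two h hSR
      have hR := Cfsg.Agent.Lib.Helper7.AbCE1.regular_of_semireg h hSR hF
      exact Cfsg.Agent.Lib.Helper7.AbCE2.concl_of_regular h hcore hSR hF hR
    · obtain ⟨T', h', -, himp⟩ := exists_quot h
      apply himp
      apply IH _ ?_ T' h'
      have h1 := Subgroup.card_eq_card_quotient_mul_card_subgroup
        (Subgroup.normalizer ((T : Subgroup G) : Set G)).normalCore
      have h2 : 1 < Nat.card (Subgroup.normalizer ((T : Subgroup G) : Set G)).normalCore :=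
        (Subgroup.one_lt_card_iff_ne_bot _).mpr hcore
      have h3 : 0 < Nat.card (G ⧸ (Subgroup.normalizer ((T : Subgroup G) : Set G)).normalCore) :=
        Nat.card_pos
      rw [h1]
      nlinarith

/-- the main structure theorem, by induction on the order -/
theorem main {G : Type u} [Group G] [Finite G] (T : Sylow 2 G) (h : Hyp T) : Concl T :=
  main_aux (Nat.card G) G rfl T h

end Cfsg.Agent.Lib.Helper9.AbC
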