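import Mathlib
import Cfsg.Agent.Lib.Helper9.HkkC

set_option autoImplicit false
set_option linter.unusedSectionVars false
set_option linter.unusedVariables false
set_option linter.style.longLine false
set_option linter.unusedSimpArgs false

set_option maxHeartbeats 1600000
namespace Cfsg.Agent.Lib.Helper9.Hkk


/-! Generalized Higman theorem for Lie rings: automorphism of prime order `p` whose trace map is
killed by `p ^ n`. -/

open Conv

section gen

variable {L : Type*} [LieRing L] {p : ℕ} [hp : Fact p.Prime]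

/-- the trace map of an endomorphism of period `p` -/
def tau (p : ℕ) (α : L →+ L) (a : L) : L := ∑ j ∈ Finset.range p, (α^[j]) a

theorem alpha_tau {α : L →+ L} (h1 : ∀ a, (α^[p]) a = a) (a : L) : α (tau p α a) = tau p α a := by
  unfold tau
  rw [map_sum]
  have e : ∀ j, α ((α^[j]) a) = (α^[j + 1]) a := fun j => (Function.iterate_succ_apply' α j a).symm
  simp only [e]
  have ha := Finset.sum_range_succ' (fun j => (α^[j]) a) p
  have hb := Finset.sum_range_succ (fun j => (α^[j]) a) p
  rw [ha] at hb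
  simp only [h1, Function.iterate_zero, id_eq] at hb
  exact add_right_cancel hb

theorem sum_evec_gen {α : L →+ L} (a : L) :
    ∑ c : ZMod p, evec α c a = (single0 (p • a - tau p α a) : Conv p L) + const (tau p α a) := by
  ext i
  have hs : (∑ c : ZMod p, evec α c a) i = ∑ c : ZMod p, (α^[(i * c).val]) a := by
    have : ∀ (s : Finset (ZMod p)), (∑ c ∈ s, evec α c a) i = ∑ c ∈ s, (α^[(i * c).val]) a := by
      intro s
      induction s using Finset.induction_on with
      | empty => simp
      | insert x s hx ih => rw [Finset.sum_insert hx, Finset.sum_insert hx, Conv.add_apply, ih]; rfl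
    exact this _
  rw [hs, Conv.add_apply]
  by_cases hi : i = 0
  · subst hi
    simp [single0, const, Finset.card_univ, ZMod.card]
  · have e := Equiv.sum_comp (Equiv.mulLeft₀ i hi) (fun c : ZMod p => (α^[c.val]) a)
    have e' : ∑ c : ZMod p, (α^[(i * c).val]) a = ∑ c : ZMod p, (α^[c.val]) a := e
    rw [e', sum_zmod_val (fun m => (α^[m]) a)]
    simp [single0, const, hi, tau]

theorem iota_eq_gen {α : L →+ L} (a : L) :
    (iota a : Conv p L) = ∑ c ∈ Finset.univ.erase (0 : ZMod p), evec α c a +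
      ((single0 (tau p α a) : Conv p L) - const (tau p α a)) := by
  rw [Finset.sum_erase_eq_sub (Finset.mem_univ _), sum_evec_gen]
  unfold iota
  ext i
  by_cases hi : i = 0
  · subst hi
    simp [evec, const, single0, Conv.add_apply, Conv.sub_apply, Conv.nsmul_apply]
  · simp [evec, const, single0, hi, Conv.add_apply, Conv.sub_apply, Conv.nsmul_apply]
    abel

theorem eps_mem {α : L →+ L} {b : L} (hb : α b = b) :
    ((single0 b : Conv p L) - const b) ∈ eig (n := p) α 0 := by
  intro i
  rw [sub_zero]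
  by_cases hi : i = 0
  · subst hi
    simp [single0, const, Conv.sub_apply]
  · simp [single0, const, hi, Conv.sub_apply, hb]

/-- the eigen-family multiplied by `p ^ m` -/
def Fam (α : L →+ L) (m : ℕ) (k : ZMod p) : AddSubgroup (Conv p L) :=
  (eig (n := p) α k).map (nsmulAddMonoidHom (p ^ m))

theorem mem_Fam {α : L →+ L} {m : ℕ} {k : ZMod p} {x : Conv p L} :
    x ∈ Fam α m k ↔ ∃ f ∈ eig (n := p) α k, (p ^ m) • f = x := by
  unfold Fam
  rw [AddSubgroup.mem_map]
  rfl

theorem Fam_closed {α : L →+ L} (hα : ∀ a b, α ⁅a, b⁆ = ⁅α a, α b⁆) (n : ℕ)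
    (h2 : ∀ a, (p ^ n) • tau p α a = 0) : Closed (Fam (p := p) α (n + 1)) := by
  constructor
  · intro j k x hx y hy
    obtain ⟨f, hf, rfl⟩ := mem_Fam.1 hx
    obtain ⟨g, hg, rfl⟩ := mem_Fam.1 hy
    refine mem_Fam.2 ⟨(p ^ (n + 1)) • ⁅f, g⁆, AddSubgroup.nsmul_mem _ (eig_lie hα j k f hf g hg) _, ?_⟩
    rw [nsmul_lie, lie_nsmul]
  · rw [eq_bot_iff]
    intro x hx
    obtain ⟨f, hf, rfl⟩ := mem_Fam.1 hx
    rw [AddSubgroup.mem_bot]
    ext i
    rw [Conv.nsmul_apply]
    have hfix : α (f i) = f i := by have := hf i; rwa [sub_zero] at this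
    have hit : ∀ j, (α^[j]) (f i) = f i := by
      intro j
      induction j with
      | zero => rfl
      | succ j ih => rw [Function.iterate_succ_apply', ih, hfix]
    have := h2 (f i)
    unfold tau at this
    simp only [hit, Finset.sum_const, Finset.card_range] at this
    rw [pow_succ, mul_smul]
    exact this

theorem lbr_nsmul_list {M : Type*} [LieRing M] (k : ℕ) : ∀ (Ys : List M) (X : M),
    lbr (k • X) (Ys.map (fun y => k • y)) = (k ^ (Ys.length + 1)) • lbr X Ys := by
  intro Ys
  induction Ys with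
  | nil => intro X; simp [lbr]
  | cons y Ys ih =>
    intro X
    rw [List.map_cons, lbr_cons, lbr_cons, nsmul_lie, lie_nsmul, ih, lbr_nsmul, List.length_cons,
      ← mul_smul, ← pow_succ]

theorem smul_iota_mem {α : L →+ L} (h1 : ∀ a, (α^[p]) a = a) (m : ℕ) (a : L) :
    (p ^ m) • (iota a : Conv p L) ∈ AddSubgroup.closure (hom (Fam (p := p) α m)) := by
  rw [iota_eq_gen (α := α), smul_add, Finset.smul_sum]
  refine add_mem (sum_mem (fun c hc => ?_)) ?_
  · have hc0 : c ≠ 0 := (Finset.mem_erase.1 hc).1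
    exact AddSubgroup.subset_closure ⟨_, mem_Fam.2 ⟨_, evec_mem h1 hc0 a, rfl⟩⟩
  · exact AddSubgroup.subset_closure ⟨0, mem_Fam.2 ⟨_, eps_mem (alpha_tau h1 a), rfl⟩⟩

/-- Generalized Higman theorem for Lie rings. -/
theorem hl_gen (α : L →+ L) (hα : ∀ a b, α ⁅a, b⁆ = ⁅α a, α b⁆)
    (h1 : ∀ a, (α^[p]) a = a) (n : ℕ) (h2 : ∀ a, (p ^ n) • tau p α a = 0) (c : ℕ)
    (hc : ∀ F : ZMod p → AddSubgroup (Conv p L), Closed F → Nil c F)
    (x : L) (ys : List L) (hlen : ys.length = c) :
    (p ^ ((n + 1) * (c + 1) + c)) • lbr x ys = 0 := by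
  have hN := hc _ (Fam_closed hα n h2)
  have h0 : lbr ((p ^ (n + 1)) • (iota x : Conv p L))
      ((ys.map iota).map (fun y => (p ^ (n + 1)) • y)) = 0 := by
    apply nil_closure' hN _ _ (by simpa using hlen) (smul_iota_mem h1 (n + 1) x)
    intro y hy
    obtain ⟨w, hw, rfl⟩ := List.mem_map.1 hy
    obtain ⟨z, _, rfl⟩ := List.mem_map.1 hw
    exact smul_iota_mem h1 (n + 1) z
  rw [lbr_nsmul_list, lbr_iota, List.length_map] at h0
  have h1' : (((p ^ (n + 1)) ^ (ys.length + 1)) • (p ^ ys.length) • (iota (lbr x ys) : Conv p L)) 1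
      = 0 := by rw [h0]; rfl
  rw [Conv.nsmul_apply, Conv.nsmul_apply, iota_apply_ne one_ne_zero, smul_neg, smul_neg,
    neg_eq_zero, ← mul_smul, ← pow_mul, ← pow_add, hlen] at h1'
  exact h1'

end gen

end Cfsg.Agent.Lib.Helper9.Hkk
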