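import Mathlib
import Cfsg.Agent.Lib.Helper9.AlpA
import Cfsg.Agent.Lib.Helper9.HkkF

set_option autoImplicit false
set_option linter.unusedSectionVars false
set_option linter.unusedVariables false
set_option linter.style.longLine false
set_option linter.unusedSimpArgs false

set_option maxHeartbeats 1600000
namespace Cfsg.Agent.Lib.Helper9.Hkk


/-! From a finite `p`-group with an endomorphism of period `p` and few fixed points to its Lie ring. -/

open scoped commutatorElement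
open Conv

section twist

variable {N : Type*} [Group N] [Finite N]

/-- counting elements with twisted image in `B` -/
theorem card_twisted_le (β : N →* N) (B : Subgroup N) :
    Nat.card {g : N // g⁻¹ * β g ∈ B} ≤ Nat.card B * Nat.card {g : N // β g = g} := by
  classical
  let f : {g : N // g⁻¹ * β g ∈ B} → B := fun g => ⟨g.1⁻¹ * β g.1, g.2⟩
  let rep : B → N := fun b => if h : ∃ g : {g : N // g⁻¹ * β g ∈ B}, f g = b then h.choose.1 else 1
  have hrep : ∀ g : {g : N // g⁻¹ * β g ∈ B}, (rep (f g))⁻¹ * β (rep (f g)) = g.1⁻¹ * β g.1 := by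
    intro g
    have h : ∃ g' : {g : N // g⁻¹ * β g ∈ B}, f g' = f g := ⟨g, rfl⟩
    have hs := h.choose_spec
    have : rep (f g) = h.choose.1 := dif_pos h
    rw [this]
    exact congrArg Subtype.val hs
  have hfixed : ∀ g : {g : N // g⁻¹ * β g ∈ B}, β (g.1 * (rep (f g))⁻¹) = g.1 * (rep (f g))⁻¹ := by
    intro g
    have h := hrep g
    have e1 : β (rep (f g)) = rep (f g) * (g.1⁻¹ * β g.1) := by rw [← h]; group
    rw [map_mul, map_inv, e1]
    group
  let ψ : {g : N // g⁻¹ * β g ∈ B} → B × {g : N // β g = g} :=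
    fun g => (f g, ⟨g.1 * (rep (f g))⁻¹, hfixed g⟩)
  have hinj : Function.Injective ψ := by
    intro g h hgh
    have h1 : f g = f h := congrArg Prod.fst hgh
    have h2 : g.1 * (rep (f g))⁻¹ = h.1 * (rep (f h))⁻¹ := congrArg (fun x => (x.2 : N)) hgh
    rw [h1] at h2
    exact Subtype.ext (mul_right_cancel h2)
  calc Nat.card {g : N // g⁻¹ * β g ∈ B} ≤ Nat.card (B × {g : N // β g = g}) :=
        Nat.card_le_card_of_injective ψ hinj
    _ = Nat.card B * Nat.card {g : N // β g = g} := Nat.card_prod _ _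

/-- the subgroup of elements fixed modulo `B` -/
def twistSub (β : N →* N) (B : Subgroup N) [B.Normal] (hB : ∀ b ∈ B, β b ∈ B) : Subgroup N where
  carrier := {g | g⁻¹ * β g ∈ B}
  one_mem' := by simp
  mul_mem' := by
    intro a b ha hb
    simp only [Set.mem_ofPred_eq] at ha hb ⊢
    have h1 : b⁻¹ * (a⁻¹ * β a) * b⁻¹⁻¹ ∈ B := Subgroup.Normal.conj_mem inferInstance _ ha _
    have : (a * b)⁻¹ * β (a * b) = b⁻¹ * (a⁻¹ * β a) * b⁻¹⁻¹ * (b⁻¹ * β b) := by
      rw [map_mul]; group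
    rw [this]
    exact mul_mem h1 hb
  inv_mem' := by
    intro a ha
    simp only [Set.mem_ofPred_eq] at ha ⊢
    have h1 : a * (a⁻¹ * β a)⁻¹ * a⁻¹ ∈ B := Subgroup.Normal.conj_mem inferInstance _ (inv_mem ha) _
    have : a⁻¹⁻¹ * β a⁻¹ = a * (a⁻¹ * β a)⁻¹ * a⁻¹ := by
      rw [map_inv]; group
    rw [this]
    exact h1

theorem pow_mem_of_twisted {p : ℕ} [hp : Fact p.Prime] (hN : IsPGroup p N) (β : N →* N)
    (B : Subgroup N) [B.Normal] (hB : ∀ b ∈ B, β b ∈ B) (n : ℕ)
    (hfix : Nat.card {g : N // β g = g} ≤ p ^ n) (t : N) (ht : t⁻¹ * β t ∈ B) :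
    t ^ (p ^ n) ∈ B := by
  set K := twistSub β B hB with hK
  have hBK : B ≤ K := by
    intro b hb
    show b⁻¹ * β b ∈ B
    exact mul_mem (inv_mem hb) (hB b hb)
  have hcardK : Nat.card K ≤ Nat.card B * p ^ n := by
    have h1 : Nat.card K = Nat.card {g : N // g⁻¹ * β g ∈ B} := rfl
    rw [h1]
    exact (card_twisted_le β B).trans (Nat.mul_le_mul_left _ hfix)
  have hidx : (B.subgroupOf K).index * Nat.card B = Nat.card K := by
    rw [← Nat.card_congr (Subgroup.subgroupOfEquivOfLe hBK).toEquiv]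
    exact Subgroup.index_mul_card _
  have hBpos : 0 < Nat.card B := Nat.card_pos
  have hle : (B.subgroupOf K).index ≤ p ^ n := by
    have : (B.subgroupOf K).index * Nat.card B ≤ p ^ n * Nat.card B := by
      rw [hidx, mul_comm (p ^ n)]; exact hcardK
    exact Nat.le_of_mul_le_mul_right this hBpos
  obtain ⟨k, hk⟩ := (hN.to_subgroup K).exists_card_eq
  have hdvd : (B.subgroupOf K).index ∣ p ^ k := by
    rw [← hk, ← hidx]; exact Dvd.intro _ rfl
  obtain ⟨a, ha, hia⟩ := (Nat.dvd_prime_pow hp.out).1 hdvd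
  have han : a ≤ n := by
    rw [hia] at hle
    exact (Nat.pow_le_pow_iff_right hp.out.one_lt).1 hle
  have hmem : (⟨t, ht⟩ : K) ^ (B.subgroupOf K).index ∈ B.subgroupOf K :=
    Subgroup.pow_index_mem (B.subgroupOf K) _
  rw [Subgroup.mem_subgroupOf] at hmem
  have hmem' : t ^ (p ^ a) ∈ B := by rw [← hia]; simpa using hmem
  obtain ⟨d, rfl⟩ := Nat.exists_eq_add_of_le han
  rw [pow_add, pow_mul]
  exact pow_mem hmem' _

end twist

namespace SC

variable {N : Type*} [Group N] (Γ : ℕ → Subgroup N) [hΓ : SC Γ] (β : N →* N)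
  (hβ : ∀ i, ∀ g ∈ Γ i, β g ∈ Γ i)

theorem Phi_pow {m : ℕ} {g : N} (hg : g ∈ Γ m) (k : ℕ) : Phi Γ m (g ^ k) = k • Phi Γ m g := by
  induction k with
  | zero => simp [Phi_one]
  | succ k ih => rw [pow_succ, Phi_mul Γ (pow_mem hg k) hg, ih, succ_nsmul]

theorem prod_shift (p : ℕ) (hper : ∀ g, (β^[p]) g = g) (g : N) :
    β ((List.range p).map (fun k => (β^[k]) g)).prod =
      g⁻¹ * ((List.range p).map (fun k => (β^[k]) g)).prod * g := by
  have h1 : β ((List.range p).map (fun k => (β^[k]) g)).prod =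
      ((List.range p).map (fun k => (β^[k + 1]) g)).prod := by
    rw [map_list_prod, List.map_map]
    congr 1
    apply List.map_congr_left
    intro k _
    simp only [Function.comp_apply, Function.iterate_succ_apply']
  have h2 : ((List.range (p + 1)).map (fun k => (β^[k]) g)).prod =
      ((List.range p).map (fun k => (β^[k]) g)).prod * g := by
    rw [List.range_succ, List.map_append, List.prod_append]
    simp [hper]
  have h3 : ((List.range (p + 1)).map (fun k => (β^[k]) g)).prod =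
      g * ((List.range p).map (fun k => (β^[k + 1]) g)).prod := by
    rw [List.range_succ_eq_map, List.map_cons, List.prod_cons, List.map_map]
    rfl
  rw [h1]
  have : g * ((List.range p).map (fun k => (β^[k + 1]) g)).prod =
      ((List.range p).map (fun k => (β^[k]) g)).prod * g := by rw [← h3, h2]
  rw [mul_assoc, ← this]; group

end SC

namespace SC

variable {N : Type*} [Group N] [Finite N] (Γ : ℕ → Subgroup N) [hΓ : SC Γ] (β : N →* N)
  (hβ : ∀ i, ∀ g ∈ Γ i, β g ∈ Γ i)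

theorem tau_LG {p : ℕ} [hp : Fact p.Prime] (hN : IsPGroup p N) (hβ : ∀ i, ∀ g ∈ Γ i, β g ∈ Γ i)
    (hper : ∀ g, (β^[p]) g = g) (n : ℕ)
    (hfix : Nat.card {g : N // β g = g} ≤ p ^ n) (a : LG Γ) :
    (p ^ n) • tau p (LGmap Γ β hβ) a = 0 := by
  refine LG_induction Γ (P := fun a => (p ^ n) • tau p (LGmap Γ β hβ) a = 0) ?_ ?_ ?_ a
  · unfold tau; simp [iterate_map_zero]
  · intro a b ha hb
    have : tau p (LGmap Γ β hβ) (a + b) = tau p (LGmap Γ β hβ) a + tau p (LGmap Γ β hβ) b := by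
      unfold tau; simp only [iterate_map_add, Finset.sum_add_distrib]
    rw [this, smul_add, ha, hb, add_zero]
  · intro m g hg
    unfold tau
    simp only [LGmap_iter_Phi Γ β hβ hg]
    obtain ⟨htm, hsum⟩ := Phi_list_prod Γ (fun k => (β^[k]) g) (fun k => iter_mem Γ β hβ hg k) p
    rw [hsum, ← Phi_pow Γ htm, Phi_eq_zero_iff Γ (pow_mem htm _)]
    apply pow_mem_of_twisted hN β (Γ (m + 1)) (hβ (m + 1)) n hfix
    rw [prod_shift β p hper g]
    have := cent_mem Γ (inv_mem htm) g⁻¹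
    rw [commutatorElement_def] at this
    simpa [mul_assoc] using this

theorem Phi_mem_closure (hgen : ∀ m, 1 ≤ m → Γ (m + 1) = ⁅Γ m, Γ 1⁆) : ∀ m : ℕ, ∀ g ∈ Γ (m + 1),
    Phi Γ (m + 1) g ∈
      AddSubgroup.closure {z | ∃ (x : LG Γ) (ys : List (LG Γ)), ys.length = m ∧ lbr x ys = z} := by
  intro m
  induction m with
  | zero =>
    intro g hg
    exact AddSubgroup.subset_closure ⟨Phi Γ 1 g, [], rfl, rfl⟩
  | succ m ih =>
    intro g hg
    have hg' : g ∈ ⁅Γ (m + 1), Γ 1⁆ := by rw [← hgen (m + 1) (by omega)]; exact hg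
    have : g ∈ Γ (m + 1 + 1) ∧ Phi Γ (m + 1 + 1) g ∈ AddSubgroup.closure
        {z | ∃ (x : LG Γ) (ys : List (LG Γ)), ys.length = m + 1 ∧ lbr x ys = z} := by
      rw [Subgroup.commutator_def] at hg'
      refine Subgroup.closure_induction (p := fun g _ => g ∈ Γ (m + 1 + 1) ∧
        Phi Γ (m + 1 + 1) g ∈ AddSubgroup.closure
        {z | ∃ (x : LG Γ) (ys : List (LG Γ)), ys.length = m + 1 ∧ lbr x ys = z}) ?_ ?_ ?_ ?_ hg'
      · rintro _ ⟨a, ha, b, hb, rfl⟩
        refine ⟨comm_mem Γ ha hb, ?_⟩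
        rw [← lie_Phi Γ ha hb]
        have hA := ih a ha
        refine AddSubgroup.closure_induction (p := fun A _ => ⁅A, Phi Γ 1 b⁆ ∈ AddSubgroup.closure
          {z | ∃ (x : LG Γ) (ys : List (LG Γ)), ys.length = m + 1 ∧ lbr x ys = z}) ?_ ?_ ?_ ?_ hA
        · rintro _ ⟨x, ys, hlen, rfl⟩
          refine AddSubgroup.subset_closure ⟨x, ys ++ [Phi Γ 1 b], ?_, ?_⟩
          · rw [List.length_append, hlen]; rfl
          · rw [lbr_append]; rfl
        · rw [zero_lie]; exact zero_mem _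
        · intro u v _ _ hu hv; rw [add_lie]; exact add_mem hu hv
        · intro u _ hu; rw [neg_lie]; exact neg_mem hu
      · exact ⟨one_mem _, by rw [Phi_one]; exact zero_mem _⟩
      · rintro u v _ _ ⟨hu1, hu2⟩ ⟨hv1, hv2⟩
        exact ⟨mul_mem hu1 hv1, by rw [Phi_mul Γ hu1 hv1]; exact add_mem hu2 hv2⟩
      · rintro u _ ⟨hu1, hu2⟩
        exact ⟨inv_mem hu1, by rw [Phi_inv Γ hu1]; exact neg_mem hu2⟩
    exact this.2

/-- exponent of the section `Γ (c+1) / Γ (c+2)` -/
theorem pow_mem_succ {p : ℕ} [hp : Fact p.Prime] (hN : IsPGroup p N)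
    (hβ : ∀ i, ∀ g ∈ Γ i, β g ∈ Γ i) (hper : ∀ g, (β^[p]) g = g) (n : ℕ)
    (hfix : Nat.card {g : N // β g = g} ≤ p ^ n)
    (hgen : ∀ m, 1 ≤ m → Γ (m + 1) = ⁅Γ m, Γ 1⁆) (c : ℕ)
    (hc : ∀ F : ZMod p → AddSubgroup (Conv p (LG Γ)), Closed F → Nil c F)
    (g : N) (hg : g ∈ Γ (c + 1)) : g ^ (p ^ ((n + 1) * (c + 1) + c)) ∈ Γ (c + 2) := by
  have h := Phi_mem_closure Γ hgen c g hg
  have hz : (p ^ ((n + 1) * (c + 1) + c)) • Phi Γ (c + 1) g = 0 := by
    refine AddSubgroup.closure_induction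
      (p := fun z _ => (p ^ ((n + 1) * (c + 1) + c)) • z = 0) ?_ ?_ ?_ ?_ h
    · rintro _ ⟨x, ys, hlen, rfl⟩
      refine hl_gen (LGmap Γ β hβ) (LGmap_lie Γ β hβ) ?_ n (tau_LG Γ β hN hβ hper n hfix) c hc x ys hlen
      intro a
      refine LG_induction Γ (P := fun a => ((LGmap Γ β hβ)^[p]) a = a) ?_ ?_ ?_ a
      · exact iterate_map_zero _ _
      · intro a b ha hb
        rw [iterate_map_add, ha, hb]
      · intro m g hg
        rw [LGmap_iter_Phi Γ β hβ hg, hper]
    · exact smul_zero _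
    · intro a b _ _ ha hb; rw [smul_add, ha, hb, add_zero]
    · intro a _ ha; rw [smul_neg, ha, neg_zero]
  rw [← Phi_pow Γ hg, Phi_eq_zero_iff Γ (pow_mem hg _)] at hz
  exact hz

end SC

end Cfsg.Agent.Lib.Helper9.Hkk
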