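import Mathlib
import Cfsg.Agent.Lib.Helper9.AlpB
import Cfsg.Agent.S3780

set_option autoImplicit false
set_option linter.unusedSectionVars false
set_option linter.unusedVariables false
set_option linter.style.longLine false
set_option linter.unusedSimpArgs false

set_option maxHeartbeats 1600000
namespace Cfsg.Agent.Lib.Helper9.Hkk


/-! Order bound for an abelian section of bounded exponent carrying an automorphism of order `p`
with few fixed points. -/

section comm

variable {V : Type*} [CommGroup V] [Finite V]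

theorem card_sup_le' (A B : Subgroup V) : Nat.card ↥(A ⊔ B) ≤ Nat.card A * Nat.card B := by
  let f : A × B → ↥(A ⊔ B) := fun x =>
    ⟨x.1.1 * x.2.1, mul_mem ((le_sup_left : A ≤ A ⊔ B) x.1.2) ((le_sup_right : B ≤ A ⊔ B) x.2.2)⟩
  have hf : Function.Surjective f := by
    rintro ⟨v, hv⟩
    obtain ⟨a, ha, b, hb, rfl⟩ := Subgroup.mem_sup.1 hv
    exact ⟨(⟨a, ha⟩, ⟨b, hb⟩), rfl⟩
  calc Nat.card ↥(A ⊔ B) ≤ Nat.card (A × B) := Nat.card_le_card_of_surjective f hf
    _ = Nat.card A * Nat.card B := Nat.card_prod _ _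

theorem card_closure_le' (e : ℕ) (he : 0 < e) (hexp : ∀ v : V, v ^ e = 1) (S : Finset V) :
    Nat.card (Subgroup.closure (S : Set V)) ≤ e ^ S.card := by
  classical
  induction S using Finset.induction_on with
  | empty => simp
  | insert a S ha ih =>
    rw [Finset.coe_insert, Set.insert_eq, Subgroup.closure_union, Finset.card_insert_of_notMem ha,
      pow_succ, mul_comm]
    refine (card_sup_le' _ _).trans (Nat.mul_le_mul ?_ ih)
    rw [← Subgroup.zpowers_eq_closure, Nat.card_zpowers]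
    exact Nat.le_of_dvd he (orderOf_dvd_of_pow_eq_one (hexp a))

theorem mulEquiv_pow_apply {W : Type*} [Group W] (θ : MulAut W) (k : ℕ) (v : W) :
    (θ ^ k) v = (θ^[k]) v := by
  induction k generalizing v with
  | zero => rfl
  | succ k ih => rw [pow_succ, MulAut.mul_apply, ih, Function.iterate_succ_apply]

/-- order bound for an abelian `p`-group of exponent `p ^ C` with an automorphism of period `p`
having at most `p ^ n` fixed points -/
theorem card_le_of_aut {p : ℕ} [hp : Fact p.Prime] (hV : IsPGroup p V) (θ : MulAut V)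
    (hθ : ∀ v, (θ^[p]) v = v) (n : ℕ) (hfix : Nat.card {v : V // θ v = v} ≤ p ^ n) (C : ℕ)
    (hexp : ∀ v : V, v ^ (p ^ C) = 1) : Nat.card V ≤ p ^ (C * (p * n)) := by
  have hp1 : 1 ≤ p := hp.out.one_lt.le
  have hpC : 0 < p ^ C := pow_pos hp.out.pos C
  by_cases h1 : θ = 1
  · -- everything fixed
    have hall : Nat.card {v : V // θ v = v} = Nat.card V := by
      apply Nat.card_congr
      exact (Equiv.subtypeUnivEquiv (fun v => by rw [h1]; rfl))
    rw [hall] at hfix
    rcases Nat.eq_zero_or_pos C with hC | hC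
    · subst hC
      have : Subsingleton V := ⟨fun a b => by
        have ha := hexp a; have hb := hexp b
        simp only [pow_zero, pow_one] at ha hb
        rw [ha, hb]⟩
      rw [Nat.card_eq_one_iff_unique.2 ⟨this, ⟨1⟩⟩]
      exact Nat.one_le_pow _ _ hp.out.pos
    · refine hfix.trans (Nat.pow_le_pow_right hp.out.pos ?_)
      calc n = 1 * (1 * n) := by ring
        _ ≤ C * (p * n) := Nat.mul_le_mul hC (Nat.mul_le_mul hp1 le_rfl)
  · have hpow : θ ^ p = 1 := by
      ext v
      rw [mulEquiv_pow_apply, hθ]; rfl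
    have hord : orderOf θ = p := orderOf_eq_prime hpow h1
    let F : Subgroup V :=
      { carrier := {v | θ v = v}
        one_mem' := map_one θ
        mul_mem' := by intro a b ha hb; show θ (a * b) = a * b; rw [map_mul, ha, hb]
        inv_mem' := by intro a ha; show θ a⁻¹ = a⁻¹; rw [map_inv, ha] }
    obtain ⟨m, hm⟩ := (hV.to_subgroup F).exists_card_eq
    have hFc : Nat.card F = Nat.card {v : V // θ v = v} := rfl
    rw [hFc] at hm
    have hmn : m ≤ n := by
      rw [hm] at hfix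
      exact (Nat.pow_le_pow_iff_right hp.out.one_lt).1 hfix
    obtain ⟨S, hS, hcl⟩ := Cfsg.Agent.S3780.result hV θ hord m hm
    have hcard : Nat.card V = Nat.card (Subgroup.closure (S : Set V)) := by
      rw [hcl]; exact (Nat.card_congr Subgroup.topEquiv.toEquiv).symm
    rw [hcard, pow_mul]
    refine (card_closure_le' (p ^ C) hpC hexp S).trans (Nat.pow_le_pow_right hpC ?_)
    exact hS.trans (Nat.mul_le_mul_left _ hmn)

end comm

namespace SC

variable {N : Type*} [Group N] [Finite N] (Γ : ℕ → Subgroup N) [hΓ : SC Γ] (β : N →* N)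
  (hβ : ∀ i, ∀ g ∈ Γ i, β g ∈ Γ i)

theorem phi_pow (i : ℕ) (x : Γ i) (k : ℕ) : phi Γ i (x ^ k) = k • phi Γ i x := by
  induction k with
  | zero => simp [phi_one]
  | succ k ih => rw [pow_succ, phi_mul, succ_nsmul, ih]

theorem compMap_iter (hβ : ∀ i, ∀ g ∈ Γ i, β g ∈ Γ i) (i : ℕ) (x : Γ i) (k : ℕ) :
    ((compMap Γ β hβ i)^[k]) (phi Γ i x) = phi Γ i ⟨(β^[k]) x, iter_mem Γ β hβ x.2 k⟩ := by
  induction k with
  | zero => rfl
  | succ k ih =>
    rw [Function.iterate_succ_apply', ih]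
    show compFun Γ β hβ i (phi Γ i _) = _
    rw [compFun_phi]
    congr 1
    apply Subtype.ext
    simp [Function.iterate_succ_apply']

theorem compMap_per {p : ℕ} (hβ : ∀ i, ∀ g ∈ Γ i, β g ∈ Γ i) (hper : ∀ g, (β^[p]) g = g) (i : ℕ)
    (a : Comp Γ i) : ((compMap Γ β hβ i)^[p]) a = a := by
  obtain ⟨x, rfl⟩ := phi_surj Γ i a
  rw [compMap_iter]
  congr 1
  apply Subtype.ext
  exact hper x

/-- the induced automorphism of a component -/
def compEquiv {p : ℕ} (hp : 0 < p) (hβ : ∀ i, ∀ g ∈ Γ i, β g ∈ Γ i) (hper : ∀ g, (β^[p]) g = g)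
    (i : ℕ) : Comp Γ i ≃+ Comp Γ i where
  toFun := compMap Γ β hβ i
  invFun := (compMap Γ β hβ i)^[p - 1]
  left_inv := by
    intro a
    rw [← Function.iterate_succ_apply, Nat.succ_eq_add_one, Nat.sub_add_cancel hp]
    exact compMap_per Γ β hβ hper i a
  right_inv := by
    intro a
    have h := Function.iterate_succ_apply' (compMap Γ β hβ i) (p - 1) a
    rw [Nat.succ_eq_add_one, Nat.sub_add_cancel hp] at h
    rw [← h]
    exact compMap_per Γ β hβ hper i a
  map_add' := map_add _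

theorem card_fix_comp {p : ℕ} (hβ : ∀ i, ∀ g ∈ Γ i, β g ∈ Γ i) (n : ℕ)
    (hfix : Nat.card {g : N // β g = g} ≤ p ^ n) (i : ℕ) :
    Nat.card {c : Comp Γ i // compMap Γ β hβ i c = c} ≤ p ^ n := by
  classical
  have hrep : ∀ c : Comp Γ i, ∃ x : Γ i, phi Γ i x = c := phi_surj Γ i
  choose rep hrepc using hrep
  have htw : ∀ c : {c : Comp Γ i // compMap Γ β hβ i c = c},
      ((rep c.1 : Γ i) : N)⁻¹ * β (rep c.1 : Γ i) ∈ Γ (i + 1) := by
    intro c
    have h := c.2
    rw [← hrepc c.1] at h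
    have h' : phi Γ i ⟨β (rep c.1 : Γ i), hβ i _ (rep c.1).2⟩ = phi Γ i (rep c.1) := h
    have := (phi_eq_iff Γ).1 h'.symm
    simpa using this
  let ψ : {c : Comp Γ i // compMap Γ β hβ i c = c} × Γ (i + 1) →
      {g : N // g⁻¹ * β g ∈ Γ (i + 1)} := fun x =>
    ⟨((rep x.1.1 : Γ i) : N) * (x.2 : N), by
      have h1 := htw x.1
      have h2 : (x.2 : N)⁻¹ * (((rep x.1.1 : Γ i) : N)⁻¹ * β (rep x.1.1 : Γ i)) * (x.2 : N)⁻¹⁻¹ ∈
          Γ (i + 1) := Subgroup.Normal.conj_mem inferInstance _ h1 _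
      have h3 : (x.2 : N)⁻¹ * β (x.2 : N) ∈ Γ (i + 1) :=
        mul_mem (inv_mem x.2.2) (hβ (i + 1) _ x.2.2)
      have e : (((rep x.1.1 : Γ i) : N) * (x.2 : N))⁻¹ * β (((rep x.1.1 : Γ i) : N) * (x.2 : N)) =
          (x.2 : N)⁻¹ * (((rep x.1.1 : Γ i) : N)⁻¹ * β (rep x.1.1 : Γ i)) * (x.2 : N)⁻¹⁻¹ *
            ((x.2 : N)⁻¹ * β (x.2 : N)) := by
        rw [map_mul]; group
      rw [e]
      exact mul_mem h2 h3⟩
  have hinj : Function.Injective ψ := by
    rintro ⟨c, b⟩ ⟨c', b'⟩ h
    have h0 : ((rep c.1 : Γ i) : N) * (b : N) = ((rep c'.1 : Γ i) : N) * (b' : N) :=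
      congrArg Subtype.val h
    have hc : c.1 = c'.1 := by
      rw [← hrepc c.1, ← hrepc c'.1]
      apply (phi_eq_iff Γ).2
      have : ((rep c.1 : Γ i) : N)⁻¹ * ((rep c'.1 : Γ i) : N) = (b : N) * (b' : N)⁻¹ := by
        have e1 : ((rep c'.1 : Γ i) : N) = ((rep c.1 : Γ i) : N) * (b : N) * (b' : N)⁻¹ := by
          rw [h0]; group
        rw [e1]; group
      rw [this]
      exact mul_mem b.2 (inv_mem b'.2)
    have hc' : c = c' := Subtype.ext hc
    subst hc'
    have hb : (b : N) = (b' : N) := mul_left_cancel h0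
    rw [Subtype.ext hb]
  have h1 : Nat.card ({c : Comp Γ i // compMap Γ β hβ i c = c} × Γ (i + 1)) ≤
      Nat.card {g : N // g⁻¹ * β g ∈ Γ (i + 1)} := Nat.card_le_card_of_injective ψ hinj
  rw [Nat.card_prod] at h1
  have h2 := (h1.trans (card_twisted_le β (Γ (i + 1)))).trans (Nat.mul_le_mul_left _ hfix)
  have hBpos : 0 < Nat.card (Γ (i + 1)) := Nat.card_pos
  rw [mul_comm] at h2
  exact Nat.le_of_mul_le_mul_left h2 hBpos

/-- order bound for a component of bounded exponent -/
theorem card_comp_le {p : ℕ} [hp : Fact p.Prime] (hN : IsPGroup p N)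
    (hβ : ∀ i, ∀ g ∈ Γ i, β g ∈ Γ i) (hper : ∀ g, (β^[p]) g = g) (n : ℕ)
    (hfix : Nat.card {g : N // β g = g} ≤ p ^ n) (i C : ℕ)
    (hexp : ∀ g ∈ Γ i, g ^ (p ^ C) ∈ Γ (i + 1)) : Nat.card (Comp Γ i) ≤ p ^ (C * (p * n)) := by
  have : Finite (Comp Γ i) :=
    inferInstanceAs (Finite (Additive (↥(Γ i) ⧸ (Γ (i + 1)).subgroupOf (Γ i))))
  let θ : MulAut (Multiplicative (Comp Γ i)) :=
    AddEquiv.toMultiplicative (compEquiv Γ β hp.out.pos hβ hper i)
  have hθa : ∀ v : Multiplicative (Comp Γ i),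
      θ v = Multiplicative.ofAdd (compMap Γ β hβ i (Multiplicative.toAdd v)) := fun v => rfl
  have hV : IsPGroup p (Multiplicative (Comp Γ i)) := by
    intro v
    obtain ⟨x, hx⟩ := phi_surj Γ i (Multiplicative.toAdd v)
    obtain ⟨k, hk⟩ := hN (x : N)
    refine ⟨k, ?_⟩
    apply Multiplicative.toAdd.injective
    rw [toAdd_pow, ← hx, ← phi_pow]
    have : x ^ (p ^ k) = 1 := Subtype.ext (by simpa using hk)
    rw [this, phi_one]; rfl
  have hiter : ∀ (k : ℕ) (v : Multiplicative (Comp Γ i)),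
      (θ^[k]) v = Multiplicative.ofAdd (((compMap Γ β hβ i)^[k]) (Multiplicative.toAdd v)) := by
    intro k
    induction k with
    | zero => intro v; rfl
    | succ k ih =>
      intro v
      rw [Function.iterate_succ_apply', ih, hθa, Function.iterate_succ_apply']
      rfl
  have hθp : ∀ v, (θ^[p]) v = v := by
    intro v
    rw [hiter, compMap_per Γ β hβ hper]; rfl
  have hfix' : Nat.card {v : Multiplicative (Comp Γ i) // θ v = v} ≤ p ^ n := by
    have e : {v : Multiplicative (Comp Γ i) // θ v = v} ≃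
        {c : Comp Γ i // compMap Γ β hβ i c = c} :=
      Equiv.subtypeEquiv Multiplicative.toAdd (fun v => by
        rw [hθa]
        constructor
        · intro h; exact congrArg Multiplicative.toAdd h
        · intro h; exact congrArg Multiplicative.ofAdd h)
    rw [Nat.card_congr e]
    exact card_fix_comp Γ β hβ n hfix i
  have hexp' : ∀ v : Multiplicative (Comp Γ i), v ^ (p ^ C) = 1 := by
    intro v
    obtain ⟨x, hx⟩ := phi_surj Γ i (Multiplicative.toAdd v)
    apply Multiplicative.toAdd.injective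
    rw [toAdd_pow, ← hx, ← phi_pow]
    exact (phi_eq_zero_iff Γ).2 (by simpa using hexp x x.2)
  have := card_le_of_aut hV θ hθp n hfix' C hexp'
  rwa [Nat.card_congr (Multiplicative.toAdd : Multiplicative (Comp Γ i) ≃ Comp Γ i)] at this

theorem card_comp_eq (i : ℕ) : Nat.card (Comp Γ i) = (Γ (i + 1)).relIndex (Γ i) := by
  rw [Subgroup.relIndex, Subgroup.index_eq_card]
  exact Nat.card_congr Additive.toMul

end SC

end Cfsg.Agent.Lib.Helper9.Hkk
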