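import Mathlib
import Cfsg.Agent.Lib.Helper9.AlpC
import Cfsg.Agent.Lib.Helper9.HkkG
import Cfsg.Agent.S3781

set_option autoImplicit false
set_option linter.unusedSectionVars false
set_option linter.unusedVariables false
set_option linter.style.longLine false
set_option linter.unusedSimpArgs false

set_option maxHeartbeats 1600000
namespace Cfsg.Agent.Lib.Helper9.Hkk


/-! A finite `p`-group with an element of order dividing `p` having few fixed points on a deep term
of the lower central series: that term has bounded class. -/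

open scoped commutatorElement
open Cfsg.Agent.Lib.Helper4.HP (lcsF lcsF_filt)

/-- the Higman–Kreknin–Kostrikin class bound -/
def hB (p : ℕ) : ℕ := hkkBound p (2 ^ (p - 1) - 1)

theorem one_le_hB {p : ℕ} (hp : p.Prime) : 1 ≤ hB p := by
  unfold hB
  have h2 : 1 ≤ 2 ^ (p - 1) - 1 := by
    have : 2 ^ 1 ≤ 2 ^ (p - 1) := Nat.pow_le_pow_right (by norm_num) (by have := hp.two_le; omega)
    omega
  obtain ⟨s, hs⟩ := Nat.exists_eq_add_of_le' h2
  rw [hs, hkkBound_succ]
  omega

/-- exponent bound -/
def expC (p n : ℕ) : ℕ := (n + 1) * (hB p + 1) + hB p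

/-- depth in the lower central series -/
def rB (p n : ℕ) : ℕ := expC p n * (p * n) + 2

theorem lcs_section {H : Type*} [Group H] [Finite H] {p : ℕ} [hp : Fact p.Prime]
    (hH : IsPGroup p H) (a₀ : H) (ha : a₀ ^ p = 1) (n r : ℕ) (hr : expC p n * (p * n) < r)
    (N' : Subgroup H) [N'.Normal] (hN' : N' ≤ (⊤ : Subgroup H).lowerCentralSeries (r - 1))
    (hfix : Nat.card {g : ↥N' // (MulAut.conjNormal a₀ : MulAut ↥N') g = g} ≤ p ^ n) :
    N'.lowerCentralSeries (hB p + 1) = ⊥ := by
  by_contra hne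
  have h1 := Cfsg.Agent.S3781.result hH r (by omega) N' hN' (hB p + 1)
    (by have := one_le_hB hp.out; omega) hne
  rw [Nat.add_sub_cancel] at h1
  let β : ↥N' →* ↥N' := (MulAut.conjNormal a₀ : MulAut ↥N').toMonoidHom
  have hβ := lcsF_aut (MulAut.conjNormal a₀ : MulAut ↥N')
  have hper : ∀ g, (β^[p]) g = g := by
    intro g
    rw [← mulAut_pow_apply, ← map_pow, ha, map_one]; rfl
  have hNp : IsPGroup p ↥N' := hH.to_subgroup N'
  have hfix' : Nat.card {g : ↥N' // β g = g} ≤ p ^ n := hfix
  have hexp := SC.pow_mem_succ (lcsF (⊤ : Subgroup ↥N')) β hNp hβ hper n hfix' lcsF_gen (hB p)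
    (fun F hF => hkk_family hF)
  have hcard := SC.card_comp_le (lcsF (⊤ : Subgroup ↥N')) β hNp hβ hper n hfix' (hB p + 1)
    (expC p n) hexp
  rw [SC.card_comp_eq] at hcard
  have e : (lcsF (⊤ : Subgroup ↥N') (hB p + 1 + 1)).relIndex (lcsF (⊤ : Subgroup ↥N') (hB p + 1)) =
      (N'.lowerCentralSeries (hB p + 1)).relIndex (N'.lowerCentralSeries (hB p)) := by
    rw [← Subgroup.top_subtype_lowerCentralSeries N' (hB p + 1),
      ← Subgroup.top_subtype_lowerCentralSeries N' (hB p),
      Subgroup.relIndex_map_map_of_injective _ _ N'.subtype_injective]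
    rfl
  rw [e] at hcard
  have h2 : p ^ r ≤ p ^ (expC p n * (p * n)) := h1.trans hcard
  have h3 := (Nat.pow_le_pow_iff_right hp.out.one_lt).1 h2
  omega

theorem derivedSeries_add_le {H : Type*} [Group H] (K : Subgroup H) (a : ℕ)
    (hK : derivedSeries H a ≤ K) (j : ℕ) : derivedSeries H (a + j) ≤ K.lowerCentralSeries j := by
  induction j with
  | zero => exact hK
  | succ j ih =>
    rw [← add_assoc, derivedSeries_succ, Subgroup.lowerCentralSeries_succ]
    exact Subgroup.commutator_mono ih (ih.trans (K.lowerCentralSeries_antitone (Nat.zero_le j)))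

theorem derived_bound_of_elem {H : Type*} [Group H] [Finite H] {p : ℕ} [hp : Fact p.Prime]
    (hH : IsPGroup p H) (a₀ : H) (ha : a₀ ^ p = 1) (n : ℕ)
    (hfix : Nat.card {g : ↥((⊤ : Subgroup H).lowerCentralSeries (rB p n - 1)) //
      (MulAut.conjNormal a₀ : MulAut ↥((⊤ : Subgroup H).lowerCentralSeries (rB p n - 1))) g = g} ≤
        p ^ n) :
    derivedSeries H (rB p n - 1 + (hB p + 1)) = ⊥ := by
  have h := lcs_section hH a₀ ha n (rB p n) (by unfold rB; omega) _ le_rfl hfix
  rw [eq_bot_iff, ← h]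
  exact derivedSeries_add_le _ _ (Subgroup.derived_le_lower_central _) _

end Cfsg.Agent.Lib.Helper9.Hkk
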