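import Mathlib
import Cfsg.Agent.Lib.Helper9.AlpD

set_option autoImplicit false
set_option linter.unusedSectionVars false
set_option linter.unusedVariables false
set_option linter.style.longLine false
set_option linter.unusedSimpArgs false

set_option maxHeartbeats 1600000
namespace Cfsg.Agent.Lib.Helper9.Hkk


/-! Alperin–Khukhro: a finite `p`-group with an automorphism of order dividing `p` having at most
`p ^ n` fixed points has derived length bounded in terms of `p` and `n`. -/

open scoped commutatorElement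
open SemidirectProduct

/-- the derived length bound -/
def alpBound (p n : ℕ) : ℕ := rB p n - 1 + (hB p + 1)

section sd

variable {P : Type*} [Group P] [Finite P] {p : ℕ} [hp : Fact p.Prime]

theorem pgroup_derived (hP : IsPGroup p P) (α : MulAut P) (hα : α ^ p = 1) (n : ℕ)
    (hfix : Nat.card {g : P // α g = g} ≤ p ^ n) : derivedSeries P (alpBound p n) = ⊥ := by
  classical
  let Z : Subgroup (MulAut P) := Subgroup.zpowers α
  let φ : Z →* MulAut P := Z.subtype
  have : Finite Z := by
    have hord : 0 < orderOf α := orderOf_pos_iff.2 (isOfFinOrder_iff_pow_eq_one.2 ⟨p, hp.out.pos, hα⟩)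
    exact Nat.finite_of_card_ne_zero (by rw [Nat.card_zpowers]; exact hord.ne')
  have : Finite (P ⋊[φ] Z) := Finite.of_equiv _ (equivProd (φ := φ)).symm
  have hH : IsPGroup p (P ⋊[φ] Z) := by
    obtain ⟨a, ha⟩ := hP.exists_card_eq
    have hZ : Nat.card Z ∣ p := by rw [Nat.card_zpowers]; exact orderOf_dvd_of_pow_eq_one hα
    rcases (Nat.dvd_prime hp.out).1 hZ with h1 | h1
    · exact IsPGroup.of_card (n := a) (by rw [SemidirectProduct.card, ha, h1, mul_one])
    · exact IsPGroup.of_card (n := a + 1) (by rw [SemidirectProduct.card, ha, h1, pow_succ])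
  let z : Z := ⟨α, Subgroup.mem_zpowers α⟩
  let a₀ : P ⋊[φ] Z := inr z
  have hz : z ^ p = 1 := Subtype.ext (by simpa using hα)
  have ha₀ : a₀ ^ p = 1 := by
    show (inr z : P ⋊[φ] Z) ^ p = 1
    rw [← map_pow, hz, map_one]
  -- the deep term lies in the image of `P`
  have hker : (⊤ : Subgroup (P ⋊[φ] Z)).lowerCentralSeries (rB p n - 1) ≤
      (rightHom : P ⋊[φ] Z →* Z).ker := by
    have h1 : (⊤ : Subgroup (P ⋊[φ] Z)).lowerCentralSeries (rB p n - 1) ≤
        (⊤ : Subgroup (P ⋊[φ] Z)).lowerCentralSeries 1 :=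
      (⊤ : Subgroup (P ⋊[φ] Z)).lowerCentralSeries_antitone (by unfold rB; omega)
    refine h1.trans ?_
    show ⁅(⊤ : Subgroup (P ⋊[φ] Z)), ⊤⁆ ≤ _
    rw [Subgroup.commutator_le]
    intro g₁ _ g₂ _
    rw [MonoidHom.mem_ker, map_commutatorElement, commutatorElement_eq_one_iff_commute]
    obtain ⟨i, hi⟩ := Subgroup.mem_zpowers_iff.1 (rightHom g₁).2
    obtain ⟨j, hj⟩ := Subgroup.mem_zpowers_iff.1 (rightHom g₂).2
    have e1 : rightHom g₁ = z ^ i := Subtype.ext (by simpa using hi.symm)
    have e2 : rightHom g₂ = z ^ j := Subtype.ext (by simpa using hj.symm)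
    rw [e1, e2]
    exact (Commute.refl z).zpow_zpow i j
  have hfixH : Nat.card {g : ↥((⊤ : Subgroup (P ⋊[φ] Z)).lowerCentralSeries (rB p n - 1)) //
      (MulAut.conjNormal a₀ :
        MulAut ↥((⊤ : Subgroup (P ⋊[φ] Z)).lowerCentralSeries (rB p n - 1))) g = g} ≤ p ^ n := by
    refine le_trans ?_ hfix
    let ψ : {g : ↥((⊤ : Subgroup (P ⋊[φ] Z)).lowerCentralSeries (rB p n - 1)) //
        (MulAut.conjNormal a₀ :
          MulAut ↥((⊤ : Subgroup (P ⋊[φ] Z)).lowerCentralSeries (rB p n - 1))) g = g} →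
        {g : P // α g = g} := fun g => ⟨(g.1 : P ⋊[φ] Z).left, by
      have hg : ((g.1 : P ⋊[φ] Z)).right = 1 := by
        have := hker g.1.2
        rwa [MonoidHom.mem_ker] at this
      have hinl : (g.1 : P ⋊[φ] Z) = inl (g.1 : P ⋊[φ] Z).left := by
        ext
        · rfl
        · rw [hg]; rfl
      have h2 : ((MulAut.conjNormal a₀ :
          MulAut ↥((⊤ : Subgroup (P ⋊[φ] Z)).lowerCentralSeries (rB p n - 1))) g.1 : P ⋊[φ] Z) =
          (g.1 : P ⋊[φ] Z) := congrArg Subtype.val g.2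
      rw [MulAut.conjNormal_apply] at h2
      have h3 : (inl (φ z (g.1 : P ⋊[φ] Z).left) : P ⋊[φ] Z) = inl (g.1 : P ⋊[φ] Z).left := by
        rw [inl_aut, ← hinl, map_inv]
        exact h2
      exact inl_injective h3⟩
    apply Nat.card_le_card_of_injective ψ
    intro g g' h
    have h0 : (g.1 : P ⋊[φ] Z).left = (g'.1 : P ⋊[φ] Z).left := congrArg Subtype.val h
    have hr : ∀ x : {g : ↥((⊤ : Subgroup (P ⋊[φ] Z)).lowerCentralSeries (rB p n - 1)) //
        (MulAut.conjNormal a₀ :
          MulAut ↥((⊤ : Subgroup (P ⋊[φ] Z)).lowerCentralSeries (rB p n - 1))) g = g},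
        ((x.1 : P ⋊[φ] Z)).right = 1 := by
      intro x
      have := hker x.1.2
      rwa [MonoidHom.mem_ker] at this
    apply Subtype.ext
    apply Subtype.ext
    ext
    · exact h0
    · rw [hr g, hr g']
  have hder := derived_bound_of_elem hH a₀ ha₀ n hfixH
  have hmap := map_derivedSeries_le_derivedSeries (inl : P →* P ⋊[φ] Z) (alpBound p n)
  have hbot : (derivedSeries P (alpBound p n)).map (inl : P →* P ⋊[φ] Z) = ⊥ := by
    rw [eq_bot_iff]
    refine hmap.trans ?_
    show derivedSeries (P ⋊[φ] Z) (rB p n - 1 + (hB p + 1)) ≤ ⊥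
    rw [hder]
  exact (Subgroup.map_eq_bot_iff_of_injective _ inl_injective).1 hbot

end sd

/-- Alperin–Khukhro bound, existential form, universe polymorphic. -/
theorem pgroup_bound.{u} (p : ℕ) [Fact p.Prime] (n : ℕ) : ∃ l : ℕ, ∀ (P : Type u) [Group P] [Finite P],
    IsPGroup p P → ∀ α : MulAut P, α ^ p = 1 → Nat.card {g : P // α g = g} ≤ p ^ n →
      derivedSeries P l = ⊥ :=
  ⟨alpBound p n, fun _ _ _ hP α hα hfix => pgroup_derived hP α hα n hfix⟩

end Cfsg.Agent.Lib.Helper9.Hkk
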