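import Mathlib
import Cfsg.Agent.Lib.Helper9.ArtQ

set_option autoImplicit false
set_option linter.unusedSectionVars false
set_option linter.unusedVariables false
set_option linter.style.longLine false
set_option linter.unusedSimpArgs false

set_option maxHeartbeats 1600000
namespace Cfsg.Agent.Lib.Helper9.Art
open Subgroup Cfsg Cfsg.Agent.Lib.Helper6 Cfsg.Agent.Lib.Helper7.Bt
open scoped ComplexConjugate

/-- the cofactor trick: a divisor `1 + u p` of `(p - 1)(1 + n p)` has `u = n`, unless `n` is of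
Brauer's form `F(p, u, h)` -/
theorem arith_of_not_F {p n u : ℕ} (hp : 2 ≤ p) (hu : 1 ≤ u)
    (hdvd : (1 + u * p) ∣ (p - 1) * (1 + n * p))
    (hF : ¬ ∃ h u : ℕ, 0 < h ∧ 0 < u ∧ n * (u + 1) = h * u * p + u ^ 2 + u + h) : u = n := by
  obtain ⟨q, rfl⟩ : ∃ q, p = q + 1 := ⟨p - 1, by omega⟩
  have hq : 1 ≤ q := by omega
  rw [Nat.add_sub_cancel] at hdvd
  obtain ⟨f', hf'⟩ := hdvd
  have hf'Z : (q : ℤ) * (1 + n * (q + 1)) = (1 + u * (q + 1)) * f' := by exact_mod_cast hf'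
  -- `p ∣ f' + 1`
  have h1 : ((q + 1 : ℕ) : ℤ) ∣ ((f' + 1 : ℕ) : ℤ) := by
    refine ⟨1 + q * n - f' * u, ?_⟩
    push_cast
    linear_combination (-1 : ℤ) * hf'Z
  have h1' : q + 1 ∣ f' + 1 := by exact_mod_cast h1
  obtain ⟨k, hk⟩ := h1'
  have hk1 : 1 ≤ k := by
    rcases Nat.eq_zero_or_pos k with h0 | h0
    · rw [h0, mul_zero] at hk; omega
    · exact h0
  have hf'q : q ≤ f' := by nlinarith
  -- `u ≤ n`
  have h3 : u ≤ n := by
    have h4 : (1 + u * (q + 1)) * q ≤ q * (1 + n * (q + 1)) := by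
      rw [hf']
      exact Nat.mul_le_mul_left _ hf'q
    have h5 : q * (1 + u * (q + 1)) ≤ q * (1 + n * (q + 1)) := by rw [mul_comm]; exact h4
    have h6 : 1 + u * (q + 1) ≤ 1 + n * (q + 1) := Nat.le_of_mul_le_mul_left h5 hq
    have h7 : u * (q + 1) ≤ n * (q + 1) := by omega
    exact Nat.le_of_mul_le_mul_right h7 (by omega)
  by_contra hne
  have hlt : u < n := lt_of_le_of_ne h3 hne
  apply hF
  have hkZ : (f' : ℤ) + 1 = ((q : ℤ) + 1) * k := by exact_mod_cast hk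
  -- the key identity
  have hkey : ((q : ℤ) + 1) * ((n : ℤ) - u * k) = (n : ℤ) - u + k - 1 := by
    have h8 : ((q : ℤ) + 1) * ((k : ℤ) + u * (q + 1) * k - u) = ((q : ℤ) + 1) * (1 + q * n) := by
      have hf'' : (f' : ℤ) = ((q : ℤ) + 1) * k - 1 := by linarith
      rw [hf''] at hf'Z
      linear_combination (-1 : ℤ) * hf'Z
    have hq0 : ((q : ℤ) + 1) ≠ 0 := by positivity
    have h9 := mul_left_cancel₀ hq0 h8
    linear_combination (-1 : ℤ) * h9
  have hpos : (0 : ℤ) < (n : ℤ) - u * k := by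
    have h10 : (0 : ℤ) < ((q : ℤ) + 1) * ((n : ℤ) - u * k) := by
      rw [hkey]
      have : (u : ℤ) < n := by exact_mod_cast hlt
      have : (1 : ℤ) ≤ k := by exact_mod_cast hk1
      linarith
    have hq0 : (0 : ℤ) < (q : ℤ) + 1 := by positivity
    exact (mul_pos_iff_of_pos_left hq0).mp h10
  obtain ⟨h, hh⟩ : ∃ h : ℕ, (h : ℤ) = (n : ℤ) - u * k :=
    ⟨((n : ℤ) - u * k).toNat, Int.toNat_of_nonneg hpos.le⟩
  refine ⟨h, u, ?_, hu, ?_⟩
  · have : (0 : ℤ) < (h : ℤ) := by rw [hh]; exact hpos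
    exact_mod_cast this
  · have hgoal : (n : ℤ) * (u + 1) = h * u * (q + 1) + u ^ 2 + u + h := by
      rw [hh]
      linear_combination (-(u : ℤ)) * hkey
    exact_mod_cast hgoal

end Cfsg.Agent.Lib.Helper9.Art
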