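import Mathlib
import Cfsg.Agent.Lib.Helper9.ArtR
import Cfsg.Agent.Lib.Helper7.BReyJ

set_option autoImplicit false
set_option linter.unusedSectionVars false
set_option linter.unusedVariables false
set_option linter.style.longLine false
set_option linter.unusedSimpArgs false

set_option maxHeartbeats 1600000
namespace Cfsg.Agent.Lib.Helper9.Art
open Subgroup Cfsg Cfsg.Agent.Lib.Helper6 Cfsg.Agent.Lib.Helper7.Bt
open scoped ComplexConjugate

/-- the core of Brauer's theorem on the number of Sylow subgroups: a perfect group with a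
self-centralizing Sylow subgroup of prime order, whose number of Sylow subgroups is not of
Brauer's form -/
theorem core_of_not_F {G : Type*} [Group G] [Finite G] (hperf : commutator G = ⊤) (p : ℕ)
    [hp : Fact p.Prime] (P : Sylow p G) (hP : Nat.card P = p) (n : ℕ)
    (hn : Nat.card (Sylow p G) = 1 + n * p)
    (hF : ¬ ∃ h u : ℕ, 0 < h ∧ 0 < u ∧ n * (u + 1) = h * u * p + u ^ 2 + u + h)
    (hCP : Subgroup.centralizer ((P : Subgroup G) : Set G) = (P : Subgroup G)) :
    (∃ (F : Type) (_ : Field F) (_ : Fintype F), Fintype.card F = p ∧ 3 < p ∧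
      Nonempty (G ≃* Matrix.ProjectiveSpecialLinearGroup (Fin 2) F)) ∨
    (∃ (m : ℕ) (F : Type) (_ : Field F) (_ : Fintype F), Fintype.card F = 2 ^ m ∧ p = 2 ^ m + 1 ∧
      3 < p ∧ Nonempty (G ≃* Matrix.ProjectiveSpecialLinearGroup (Fin 2) F)) := by
  -- a generator of `P`
  have hP' : Nat.card (P : Subgroup G) = p := hP
  haveI : Fact (Nat.card (P : Subgroup G)).Prime := ⟨by rw [hP']; exact hp.out⟩
  haveI : IsCyclic (P : Subgroup G) := isCyclic_of_prime_card (p := Nat.card (P : Subgroup G)) rfl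
  obtain ⟨g, hg⟩ := IsCyclic.exists_generator (α := (P : Subgroup G))
  obtain ⟨z, hzdef⟩ : ∃ z : G, z = (g : G) := ⟨_, rfl⟩
  have hz : orderOf z = p := by
    rw [hzdef, Subgroup.orderOf_coe, orderOf_eq_card_of_forall_mem_zpowers hg, hP']
  have hzP : zpowers z = (P : Subgroup G) := by
    apply Subgroup.eq_of_le_of_card_ge
    · rw [zpowers_le, hzdef]
      exact g.2
    · rw [Nat.card_zpowers, hz, hP']
  have hC : Subgroup.centralizer ({z} : Set G) = Subgroup.zpowers z := by
    apply le_antisymm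
    · intro x hx
      rw [Subgroup.mem_centralizer_singleton_iff] at hx
      rw [hzP, ← hCP, Subgroup.mem_centralizer_iff]
      intro y hy
      have hy' : y ∈ zpowers z := by rw [hzP]; exact hy
      obtain ⟨k, rfl⟩ := mem_zpowers_iff.mp hy'
      have hc : Commute x z := hx
      exact ((hc.zpow_right k).eq).symm
    · intro x hx
      obtain ⟨k, rfl⟩ := mem_zpowers_iff.mp hx
      rw [Subgroup.mem_centralizer_singleton_iff]
      exact ((Commute.refl z).zpow_left k).eq
  apply brauer_of_arith hperf p z hz hC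
  intro n' hsyl u hu hdvd
  have hnn : n' = n := by
    rw [hn] at hsyl
    have hpp := hp.out.pos
    have h1 : n * p = n' * p := by omega
    exact (Nat.eq_of_mul_eq_mul_right hpp h1).symm
  rw [hnn] at hdvd ⊢
  exact arith_of_not_F hp.out.two_le hu hdvd hF

/-- Brauer's theorem on the number of Sylow subgroups, given the lemma on the centralizer -/
theorem brauer_F_of_lemma.{u} {G : Type u} [Group G] [Finite G] (hperf : commutator G = ⊤) (p : ℕ)
    [hp : Fact p.Prime] (P : Sylow p G) (hP : Nat.card P = p) (n : ℕ)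
    (hn : Nat.card (Sylow p G) = 1 + n * p)
    (hlem : ∀ (K : Type u) [Group K] [Finite K], commutator K = ⊤ → ∀ Q : Sylow p K,
      Nat.card Q = p → Nat.card (Sylow p K) = 1 + n * p →
      (∀ N : Subgroup K, N.Normal → (Nat.card N).Coprime p → N = ⊥) →
      (¬ ∃ h u : ℕ, 0 < h ∧ 0 < u ∧ n * (u + 1) = h * u * p + u ^ 2 + u + h) →
      Subgroup.centralizer ((Q : Subgroup K) : Set K) = (Q : Subgroup K)) :
    (∃ (F : Type) (_ : Field F) (_ : Fintype F), Fintype.card F = p ∧ 3 < p ∧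
      Nonempty (G ⧸ Cfsg.pPrimeCore p G ≃* Matrix.ProjectiveSpecialLinearGroup (Fin 2) F)) ∨
    (∃ (m : ℕ) (F : Type) (_ : Field F) (_ : Fintype F), Fintype.card F = 2 ^ m ∧ p = 2 ^ m + 1 ∧
      3 < p ∧ Nonempty (G ⧸ Cfsg.pPrimeCore p G ≃* Matrix.SpecialLinearGroup (Fin 2) F)) ∨
    (∃ h u : ℕ, 0 < h ∧ 0 < u ∧ n * (u + 1) = h * u * p + u ^ 2 + u + h) := by
  by_cases hF : ∃ h u : ℕ, 0 < h ∧ 0 < u ∧ n * (u + 1) = h * u * p + u ^ 2 + u + h
  · exact Or.inr (Or.inr hF)
  rcases Cfsg.Agent.Lib.Helper7.BReyJ.reduce_mod_core hperf p P hP n hn with hF' | ⟨hperf', ⟨Q, hQ⟩, hn', hcore⟩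
  · exact absurd hF' hF
  have hCP := hlem (G ⧸ Cfsg.pPrimeCore p G) hperf' Q hQ hn' hcore hF
  rcases core_of_not_F hperf' p Q hQ n hn' hF hCP with h1 | ⟨m, F, iF, iF', hcard, hpm, hp3, ⟨φ⟩⟩
  · exact Or.inl h1
  · right; left
    obtain ⟨ψ⟩ := Cfsg.Agent.Lib.Helper7.BReyJ.psl_equiv_sl_char_two F m hcard
    exact ⟨m, F, iF, iF', hcard, hpm, hp3, ⟨φ.trans ψ⟩⟩

end Cfsg.Agent.Lib.Helper9.Art
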