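import Mathlib
import Cfsg.Agent.Lib.Helper9.ArtR

set_option autoImplicit false
set_option linter.unusedSectionVars false
set_option linter.unusedVariables false
set_option linter.style.longLine false
set_option linter.unusedSimpArgs false

set_option maxHeartbeats 1600000
namespace Cfsg.Agent.Lib.Helper9.Art
open Subgroup Cfsg

/-- degrees `≡ 1` -/
theorem deg_of_plus {p e t n d : ℕ} (hp : p.Prime) (het : e * t = p - 1) (hd0 : 0 < d)
    (hmod : (d : ℤ) ≡ 1 [ZMOD p]) (hd1 : d ≠ 1) (hdvd : d ∣ e * (1 + n * p))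
    (hF : ¬ ∃ h u : ℕ, 0 < h ∧ 0 < u ∧ n * (u + 1) = h * u * p + u ^ 2 + u + h) :
    d = 1 + n * p := by
  have hpd : (p : ℤ) ∣ (d : ℤ) - 1 := by
    have := Int.ModEq.dvd hmod.symm
    simpa using this
  obtain ⟨u, hu⟩ : ∃ u : ℕ, d = 1 + u * p := by
    have h2 : p ∣ d - 1 := by
      have : ((p : ℕ) : ℤ) ∣ ((d - 1 : ℕ) : ℤ) := by
        rw [Nat.cast_sub hd0]; exact_mod_cast hpd
      exact_mod_cast this
    obtain ⟨u, hu⟩ := h2
    exact ⟨u, by rw [mul_comm]; omega⟩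
  have hu1 : 1 ≤ u := by
    rcases Nat.eq_zero_or_pos u with h0 | h0
    · exfalso; apply hd1; rw [hu, h0]; simp
    · exact h0
  have h4 : d ∣ (p - 1) * (1 + n * p) :=
    hdvd.trans (Nat.mul_dvd_mul_right ⟨t, het.symm⟩ _)
  rw [hu] at h4
  rw [hu, arith_of_not_F hp.two_le hu1 h4 hF]

/-- degrees `≡ -1` -/
theorem deg_of_minus {p e t n d : ℕ} (hp : p.Prime) (het : e * t = p - 1) (hd0 : 0 < d)
    (hmod : (d : ℤ) ≡ -1 [ZMOD p]) (hdvd : d ∣ e * (1 + n * p))
    (hF : ¬ ∃ h u : ℕ, 0 < h ∧ 0 < u ∧ n * (u + 1) = h * u * p + u ^ 2 + u + h) :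
    d = p - 1 ∨ d = (p - 1) * (1 + n * p) := by
  have hp1 := hp.one_lt
  have h4 : d ∣ (p - 1) * (1 + n * p) :=
    hdvd.trans (Nat.mul_dvd_mul_right ⟨t, het.symm⟩ _)
  obtain ⟨f', hf'⟩ := h4
  have hf'0 : 0 < f' := by
    rcases Nat.eq_zero_or_pos f' with h0 | h0
    · exfalso
      rw [h0, mul_zero] at hf'
      have : 0 < (p - 1) * (1 + n * p) := Nat.mul_pos (by omega) (by omega)
      omega
    · exact h0
  -- `f' ≡ 1`
  have hmod' : (f' : ℤ) ≡ 1 [ZMOD p] := by
    have h5 : ((p - 1 : ℕ) : ℤ) * ((1 + n * p : ℕ) : ℤ) = (d : ℤ) * (f' : ℤ) := by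
      exact_mod_cast hf'
    have h6 : ((p - 1 : ℕ) : ℤ) * ((1 + n * p : ℕ) : ℤ) ≡ -1 [ZMOD p] := by
      rw [Nat.cast_sub hp1.le]
      push_cast
      have : ((p : ℤ) - 1) * (1 + n * p) = -1 + p * (1 + n * p - n) := by ring
      rw [this]
      exact Int.modEq_add_fac_self
    have h7 : (d : ℤ) * (f' : ℤ) ≡ -1 * f' [ZMOD p] := Int.ModEq.mul_right _ hmod
    rw [← h5] at h7
    have h8 : (-1 : ℤ) * f' ≡ -1 [ZMOD p] := h7.symm.trans h6
    have h9 := Int.ModEq.neg h8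
    simpa using h9
  have hpd : (p : ℤ) ∣ (f' : ℤ) - 1 := by
    have := Int.ModEq.dvd hmod'.symm
    simpa using this
  obtain ⟨u, hu⟩ : ∃ u : ℕ, f' = 1 + u * p := by
    have h2 : p ∣ f' - 1 := by
      have : ((p : ℕ) : ℤ) ∣ ((f' - 1 : ℕ) : ℤ) := by
        rw [Nat.cast_sub hf'0]; exact_mod_cast hpd
      exact_mod_cast this
    obtain ⟨u, hu⟩ := h2
    exact ⟨u, by rw [mul_comm]; omega⟩
  rcases Nat.eq_zero_or_pos u with h0 | h0
  · right
    rw [hf', hu, h0]; simp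
  · left
    have h10 : f' ∣ (p - 1) * (1 + n * p) := ⟨d, by rw [hf', mul_comm]⟩
    rw [hu] at h10
    have hun := arith_of_not_F hp.two_le h0 h10 hF
    rw [hu, hun] at hf'
    have hpos : 0 < 1 + n * p := by omega
    have : (p - 1) * (1 + n * p) = d * (1 + n * p) := hf'
    exact (Nat.eq_of_mul_eq_mul_right hpos this).symm

/-- the arithmetic of the principal block degrees: unless `n` is of Brauer's form, some
non-exceptional character of negative sign has degree `p - 1` -/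
theorem exists_minus_small {ι : Type*} [DecidableEq ι] (X : Finset ι) (deg : ι → ℕ) (sg : ι → ℤ)
    (one : ι) {p e t n y : ℕ} {ε : ℤ} (hp : p.Prime) (hp2 : p ≠ 2) (het : e * t = p - 1)
    (he2 : 2 ≤ e) (hn1 : 1 ≤ n) (hcard : X.card = e) (hone : one ∈ X) (hdeg1 : deg one = 1)
    (hsg1 : sg one = 1) (hsg : ∀ i ∈ X, sg i = 1 ∨ sg i = -1)
    (hmod : ∀ i ∈ X, (deg i : ℤ) ≡ sg i [ZMOD p]) (hpos : ∀ i ∈ X, 0 < deg i)
    (hdvd : ∀ i ∈ X, deg i ∣ e * (1 + n * p)) (hperf : ∀ i ∈ X, i ≠ one → deg i ≠ 1)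
    (hε : ε = 1 ∨ ε = -1) (hy : 0 < y) (hymod : (y : ℤ) ≡ ε * e [ZMOD p])
    (hydvd : y ∣ e * (1 + n * p)) (hrel : ε * (y : ℤ) = ∑ i ∈ X, sg i * (deg i : ℤ))
    (hF : ¬ ∃ h u : ℕ, 0 < h ∧ 0 < u ∧ n * (u + 1) = h * u * p + u ^ 2 + u + h) :
    ∃ i ∈ X, sg i = -1 ∧ deg i = p - 1 := by
  by_contra hcon
  push Not at hcon
  have hp1 := hp.one_lt
  have hp3 : 3 ≤ p := by
    rcases Nat.lt_or_ge p 3 with h | h
    · exfalso; apply hp2; omega
    · exact h
  have hedvd : e ∣ p - 1 := ⟨t, het.symm⟩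
  have hele : e ≤ p - 1 := Nat.le_of_dvd (by omega) hedvd
  obtain ⟨N1, hN1⟩ : ∃ N1 : ℕ, N1 = 1 + n * p := ⟨_, rfl⟩
  have hN4 : 4 ≤ N1 := by
    rw [hN1]
    have : 1 * 3 ≤ n * p := Nat.mul_le_mul hn1 hp3
    omega
  obtain ⟨M, hM⟩ : ∃ M : ℕ, M = (p - 1) * N1 := ⟨_, rfl⟩
  -- the degrees
  have hplus : ∀ i ∈ X, i ≠ one → sg i = 1 → deg i = N1 := by
    intro i hi hne hs
    rw [hN1]
    have h1 := hmod i hi
    rw [hs] at h1
    exact deg_of_plus hp het (hpos i hi) h1 (hperf i hi hne) (hdvd i hi) hF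
  have hminus : ∀ i ∈ X, sg i = -1 → deg i = M := by
    intro i hi hs
    have h1 := hmod i hi
    rw [hs] at h1
    rcases deg_of_minus hp het (hpos i hi) h1 (hdvd i hi) hF with h2 | h2
    · exact absurd h2 (hcon i hi hs)
    · rw [hM, hN1]; exact h2
  -- if there is a character of negative sign, then `e = p - 1`
  have heq : ∀ i ∈ X, sg i = -1 → e = p - 1 := by
    intro i hi hs
    have h1 := hdvd i hi
    rw [hminus i hi hs, hM, ← hN1] at h1
    have h2 : (p - 1) * N1 ≤ e * N1 :=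
      Nat.le_of_dvd (Nat.mul_pos (by omega) (by omega)) h1
    have h3 : p - 1 ≤ e := Nat.le_of_mul_le_mul_right h2 (by omega)
    omega
  -- the sum
  obtain ⟨a, ha⟩ : ∃ a : ℕ, a = (X.filter (fun i => sg i = 1 ∧ i ≠ one)).card := ⟨_, rfl⟩
  obtain ⟨b, hb⟩ : ∃ b : ℕ, b = (X.filter (fun i => sg i = -1)).card := ⟨_, rfl⟩
  have hsum : ∑ i ∈ X, sg i * (deg i : ℤ) = 1 + (a : ℤ) * N1 - (b : ℤ) * M := by
    have key : ∀ i ∈ X, sg i * (deg i : ℤ) = (if i = one then (1 : ℤ) else 0)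
        + (if sg i = 1 ∧ i ≠ one then (N1 : ℤ) else 0) + (if sg i = -1 then -(M : ℤ) else 0) := by
      intro i hi
      by_cases h1 : i = one
      · rw [h1, hsg1, hdeg1]
        simp
      · rcases hsg i hi with hs | hs
        · rw [if_neg h1, if_pos ⟨hs, h1⟩, hs, if_neg (by norm_num), hplus i hi h1 hs]
          ring
        · rw [if_neg h1, if_neg (by rw [hs]; norm_num), if_pos hs, hs, hminus i hi hs]
          ring
    rw [Finset.sum_congr rfl key, Finset.sum_add_distrib, Finset.sum_add_distrib,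
      Finset.sum_ite_eq' X one, if_pos hone, ← Finset.sum_filter, ← Finset.sum_filter,
      Finset.sum_const, Finset.sum_const, ← ha, ← hb]
    simp only [nsmul_eq_mul]
    ring
  have hcount : 1 + a + b = e := by
    rw [← hcard, Finset.card_eq_sum_ones]
    have key : ∀ i ∈ X, (1 : ℕ) = (if i = one then 1 else 0)
        + (if sg i = 1 ∧ i ≠ one then 1 else 0) + (if sg i = -1 then 1 else 0) := by
      intro i hi
      by_cases h1 : i = one
      · rw [h1, hsg1]
        simp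
      · rcases hsg i hi with hs | hs
        · rw [if_neg h1, if_pos ⟨hs, h1⟩, hs, if_neg (by norm_num)]
        · rw [if_neg h1, if_neg (by rw [hs]; norm_num), if_pos hs]
    rw [Finset.sum_congr rfl key, Finset.sum_add_distrib, Finset.sum_add_distrib,
      Finset.sum_ite_eq' X one, if_pos hone, ← Finset.card_filter, ← Finset.card_filter, ← ha, ← hb]
  rw [hsum] at hrel
  have hMZ : (M : ℤ) = ((p : ℤ) - 1) * N1 := by
    rw [hM, Nat.cast_mul, Nat.cast_sub hp1.le]; simp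
  have hN4Z : (4 : ℤ) ≤ (N1 : ℤ) := by exact_mod_cast hN4
  have hyZ : (0 : ℤ) < (y : ℤ) := by exact_mod_cast hy
  -- whether there is a character of negative sign
  rcases Nat.eq_zero_or_pos b with hb0 | hb0
  · -- `b = 0`
    rw [hb0] at hrel hcount
    simp only [Nat.cast_zero, zero_mul, sub_zero] at hrel
    rcases hε with h1 | h1
    · -- `y = 1 + (e - 1) N1`
      rw [h1] at hrel
      have hyeq : y = 1 + a * N1 := by
        have : (y : ℤ) = ((1 + a * N1 : ℕ) : ℤ) := by push_cast; linarith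
        exact_mod_cast this
      have hcop : Nat.Coprime y N1 := by
        rw [hyeq, Nat.coprime_add_mul_right_left]
        exact Nat.coprime_one_left N1
      rw [← hN1] at hydvd
      have hye : y ∣ e := hcop.dvd_of_dvd_mul_right hydvd
      have hle : y ≤ e := Nat.le_of_dvd (by omega) hye
      have ha1 : 1 ≤ a := by omega
      have : 1 * 4 ≤ a * N1 := Nat.mul_le_mul ha1 hN4
      have : a * 4 ≤ a * N1 := Nat.mul_le_mul_left a hN4
      omega
    · rw [h1] at hrel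
      have : (0 : ℤ) ≤ (a : ℤ) * N1 := by positivity
      linarith
  · -- `b ≥ 1`
    have hBne : (X.filter (fun i => sg i = -1)).Nonempty := by
      rw [← Finset.card_pos, ← hb]; exact hb0
    obtain ⟨i₀, hi₀⟩ := hBne
    rw [Finset.mem_filter] at hi₀
    have hep := heq i₀ hi₀.1 hi₀.2
    have haZ : (a : ℤ) + b + 1 = (p : ℤ) - 1 := by
      have : ((1 + a + b : ℕ) : ℤ) = ((p - 1 : ℕ) : ℤ) := by rw [hcount, hep]
      rw [Nat.cast_sub hp1.le] at this
      push_cast at this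
      linarith
    have hbZ : (1 : ℤ) ≤ (b : ℤ) := by exact_mod_cast hb0
    rw [hMZ] at hrel
    rcases hε with h1 | h1
    · -- `ε = 1`: `y` would be negative
      rw [h1] at hrel
      have h2 : (y : ℤ) = 1 + ((a : ℤ) - b * ((p : ℤ) - 1)) * N1 := by linarith
      have h3 : (a : ℤ) - b * ((p : ℤ) - 1) ≤ -2 := by nlinarith
      have h4 : ((a : ℤ) - b * ((p : ℤ) - 1)) * N1 ≤ -2 * N1 := by nlinarith
      linarith
    · -- `ε = -1`
      rw [h1] at hrel hymod
      have h2 : (y : ℤ) + 1 = ((b : ℤ) * ((p : ℤ) - 1) - a) * N1 := by linarith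
      -- `y ≡ 1`
      have hy1 : (y : ℤ) ≡ 1 [ZMOD p] := by
        rw [hep, Nat.cast_sub hp1.le] at hymod
        have h5 : (-1 : ℤ) * (((p : ℕ) : ℤ) - ((1 : ℕ) : ℤ)) = 1 + p * (-1) := by push_cast; ring
        rw [h5] at hymod
        exact hymod.trans Int.modEq_add_fac_self
      by_cases hy1' : y = 1
      · rw [hy1'] at h2
        have h6 : (N1 : ℤ) ∣ 2 := ⟨(b : ℤ) * ((p : ℤ) - 1) - a, by push_cast at h2; linarith⟩
        have := Int.le_of_dvd (by norm_num) h6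
        linarith
      · have hyN : y = N1 := by
          rw [hN1]
          exact deg_of_plus hp het hy hy1 hy1' hydvd hF
        rw [hyN] at h2
        have h6 : (N1 : ℤ) ∣ 1 := ⟨(b : ℤ) * ((p : ℤ) - 1) - a - 1, by linarith⟩
        have := Int.le_of_dvd (by norm_num) h6
        linarith

end Cfsg.Agent.Lib.Helper9.Art
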