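import Mathlib
import Cfsg.Prelude
import Cfsg.Agent.Lib.Helper9.AschU16

set_option autoImplicit false
set_option linter.unusedSectionVars false
set_option linter.unusedVariables false
set_option linter.style.longLine false
set_option linter.unusedSimpArgs false
open Cfsg

namespace Cfsg.Agent.Lib.Helper9.AschU

open Module Matrix
open scoped Kronecker
open Cfsg.Geo
open Cfsg.Agent.Lib.Helper8.Asch
open Cfsg.Agent.Lib.Helper5 Cfsg.Agent.Lib.Helper8
open Cfsg.Agent.Lib.Helper5.Herm
open Cfsg.Agent.Lib.Helper5.HermBridge (hermSesq hermSesq_apply hermSesq_nondegenerate sigma_apply sigma_sigma sigma_ne_id)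
open Cfsg.Agent.Lib.Helper5.HermPair Cfsg.Agent.Lib.Helper5.HermPerp
open Cfsg.Agent.Lib.Helper5.SUSingularMax

variable {F : Type*} [Field F] [Fintype F] {q : ℕ} (hF : Fintype.card F = q ^ 2) {n : ℕ}
variable {κ : Type} [Fintype κ] [DecidableEq κ]

omit [Fintype F] in
/-- an explicit change of basis, in the form used by the frozen classes -/
theorem exists_basisGL (b : Basis κ F (Fin n → F)) (e : Fin n ≃ κ) :
    ∃ P : GL (Fin n) F,
      (∀ x : κ → F, (P : Matrix (Fin n) (Fin n) F) *ᵥ (x ∘ e) = b.equivFun.symm x) ∧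
      (∀ (S : Subgroup (GL κ F)) (h : GL (Fin n) F), matB b h ∈ S →
        h ∈ (S.map (glReindex e.symm).toMonoidHom).map (MulAut.conj P).toMonoidHom) := by
  set Q : Matrix κ (Fin n) F := b.toMatrix (Pi.basisFun F (Fin n)) with hQ
  set Q' : Matrix (Fin n) κ F := (Pi.basisFun F (Fin n)).toMatrix b with hQ'
  have q1 : Q * Q' = 1 := Basis.toMatrix_mul_toMatrix_flip _ _
  have q2 : Q' * Q = 1 := Basis.toMatrix_mul_toMatrix_flip _ _
  let Pm : Matrix (Fin n) (Fin n) F := Q'.submatrix id e
  let Pi' : Matrix (Fin n) (Fin n) F := Q.submatrix e id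
  have p1 : Pm * Pi' = 1 := by
    show Q'.submatrix id e * Q.submatrix e id = 1
    rw [Matrix.submatrix_mul_equiv, q2, Matrix.submatrix_id_id]
  have p2 : Pi' * Pm = 1 := by
    show Q.submatrix e id * Q'.submatrix id e = 1
    have : Q.submatrix e id * Q'.submatrix id e = (Q * Q').submatrix e e := by
      rw [Matrix.submatrix_mul Q Q' e id e Function.bijective_id]
    rw [this, q1, Matrix.submatrix_one_equiv]
  refine ⟨⟨Pm, Pi', p1, p2⟩, ?_, ?_⟩
  · intro x
    show Pm *ᵥ (x ∘ e) = _
    rw [Basis.equivFun_symm_apply]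
    funext i
    simp only [Matrix.mulVec, dotProduct, Pm, Matrix.submatrix_apply, id, Function.comp,
      Finset.sum_apply, Pi.smul_apply, smul_eq_mul]
    refine (Equiv.sum_comp e (fun k => Q' i k * x k)).trans (Finset.sum_congr rfl fun j _ => ?_)
    rw [hQ', Basis.toMatrix_apply, Pi.basisFun_repr, mul_comm]
  · intro S h hs
    have hsM : LinearMap.toMatrix b b (Matrix.toLin' (h : Matrix (Fin n) (Fin n) F)) =
        ((matB b h : GL κ F) : Matrix κ κ F) := (matB_val b h).symm
    rw [toMatrix_toLin'] at hsM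
    rw [Subgroup.mem_map]
    refine ⟨glReindex e.symm (matB b h), Subgroup.mem_map_of_mem _ hs, ?_⟩
    apply Units.ext
    simp only [MulEquiv.toMonoidHom_eq_coe, MonoidHom.coe_coe, MulAut.conj_apply, Units.val_mul]
    show Pm * (Matrix.reindexAlgEquiv F F e.symm ((matB b h : GL κ F) : Matrix κ κ F)) * Pi' =
      (h : Matrix (Fin n) (Fin n) F)
    have hre : Matrix.reindexAlgEquiv F F e.symm ((matB b h : GL κ F) : Matrix κ κ F) =
        ((matB b h : GL κ F) : Matrix κ κ F).submatrix e e := rfl
    rw [hre, ← hsM]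
    have h1 : Pm * (Q * (h : Matrix (Fin n) (Fin n) F) * Q').submatrix e e * Pi' =
        (Q' * (Q * (h : Matrix (Fin n) (Fin n) F) * Q') * Q).submatrix id id := by
      show Q'.submatrix id e * (Q * (h : Matrix (Fin n) (Fin n) F) * Q').submatrix e e *
        Q.submatrix e id = _
      rw [Matrix.submatrix_mul_equiv, Matrix.submatrix_mul_equiv]
    rw [h1, Matrix.submatrix_id_id]
    calc Q' * (Q * (h : Matrix (Fin n) (Fin n) F) * Q') * Q
        = (Q' * Q) * (h : Matrix (Fin n) (Fin n) F) * (Q' * Q) := by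
          simp only [Matrix.mul_assoc]
      _ = (h : Matrix (Fin n) (Fin n) F) := by rw [q2, one_mul, mul_one]

omit [Fintype F] in
theorem card_of_basis (b : Basis κ F (Fin n → F)) : Fintype.card (Fin n) = Fintype.card κ := by
  have h1 := Module.finrank_eq_card_basis b
  rw [Module.finrank_fin_fun] at h1
  rw [Fintype.card_fin, ← h1]

include hF in
/-- the standard hermitian form is a unitary form in the sense of the frozen definitions -/
theorem isUnitaryFormPow_herm (m : ℕ) : IsUnitaryFormPow q (hermForm m F q) := by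
  refine ⟨fun x y v => hermForm_add_left m q x y v, fun c x v => hermForm_smul_left m q c x v,
    fun v w => (hermForm_conj hF m w v).symm, ?_⟩
  intro v hv
  constructor
  · by_contra hcon
    push Not at hcon
    exact hv (herm_eq_zero_right hF v hcon)
  · by_contra hcon
    push Not at hcon
    exact hv (herm_eq_zero_left hF v hcon)

include hF in
theorem gramMatrix_herm (m : ℕ) : gramMatrix (hermForm m F q) = 1 := by
  ext a b
  unfold gramMatrix
  rw [herm_eq_gf hF, gf_single]

include hF in
/-- the form in an orthonormal basis -/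
theorem herm_orthonormal (b : Basis κ F (Fin n → F)) (hb : gramB q b = 1) (x y : κ → F) :
    hermForm n F q (b.equivFun.symm x) (b.equivFun.symm y) = ∑ k, x k * (y k) ^ q := by
  rw [herm_coord hF, hb]
  unfold gf
  rw [Matrix.one_mulVec]
  simp only [dotProduct, Function.comp, sigma_apply]

include hF in
theorem UC_C4_of_basis {H : Subgroup (GL (Fin n) F)} (hH : H ≤ GU n F q) (a e : ℕ) (ha : 2 ≤ a)
    (hae : a < e) (b : Basis (Fin a × Fin e) F (Fin n → F)) (hb : gramB q b = 1)
    (hHb : ∀ h ∈ H, matB b h ∈ kroneckerSubgroup a e F) : UC n F q H := by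
  let e' : Fin n ≃ Fin a × Fin e := Fintype.equivOfCardEq (card_of_basis b)
  obtain ⟨P, hP1, hP2⟩ := exists_basisGL b e'
  refine ⟨tensorProductSubgroup a e e' P ⊓ GU n F q, ?_, le_inf ?_ hH⟩
  · right; right; left
    refine ⟨a, e, e', P, hermForm a F q, hermForm e F q, ha, hae, isUnitaryFormPow_herm hF a,
      isUnitaryFormPow_herm hF e, ?_, rfl⟩
    refine ⟨1, one_ne_zero, fun x y => ?_⟩
    rw [hP1, hP1, herm_orthonormal hF b hb, one_mul, gramMatrix_herm hF, gramMatrix_herm hF,
      Matrix.one_kronecker_one]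
    unfold formOfGram
    refine Finset.sum_congr rfl fun k _ => ?_
    rw [Finset.sum_eq_single k]
    · rw [Matrix.one_apply_eq, mul_one]
    · intro l _ hl
      rw [Matrix.one_apply_ne (Ne.symm hl), mul_zero, zero_mul]
    · intro hk
      exact absurd (Finset.mem_univ _) hk
  · intro h hh
    exact hP2 _ h (hHb h hh)

include hF in
theorem UC_C7_of_basis {H : Subgroup (GL (Fin n) F)} (hH : H ≤ GU n F q) (k t : ℕ) (hk : 3 ≤ k)
    (ht : 2 ≤ t) (hqk : ¬ (q = 2 ∧ k = 3)) (b : Basis (Fin t → Fin k) F (Fin n → F))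
    (hb : gramB q b = 1)
    (hHb : ∀ h ∈ H, matB b h ∈ tensorWreathStandard k t F) : UC n F q H := by
  let e' : Fin n ≃ (Fin t → Fin k) := Fintype.equivOfCardEq (card_of_basis b)
  obtain ⟨P, hP1, hP2⟩ := exists_basisGL b e'
  refine ⟨tensorWreathSubgroup k t e' P ⊓ GU n F q, ?_, le_inf ?_ hH⟩
  · right; right; right
    refine ⟨k, t, e', P, hermForm k F q, hk, ht, hqk, isUnitaryFormPow_herm hF k, ?_, rfl⟩
    refine ⟨1, one_ne_zero, fun x y => ?_⟩
    rw [hP1, hP1, herm_orthonormal hF b hb, one_mul, gramMatrix_herm hF]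
    refine Finset.sum_congr rfl fun f _ => ?_
    rw [Finset.sum_eq_single f]
    · simp only [Matrix.one_apply_eq, Finset.prod_const_one, mul_one]
    · intro g _ hg
      obtain ⟨i, hi⟩ := Function.ne_iff.mp hg
      have : ∏ i, (1 : Matrix (Fin k) (Fin k) F) (f i) (g i) = 0 := by
        apply Finset.prod_eq_zero (Finset.mem_univ i)
        rw [Matrix.one_apply_ne (Ne.symm hi)]
      rw [this, mul_zero, zero_mul]
    · intro hk
      exact absurd (Finset.mem_univ _) hk
  · intro h hh
    exact hP2 _ h (hHb h hh)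

omit [Fintype F] in
/-- the wreath form gives membership in the standard tensor-wreath subgroup -/
theorem mem_wreathStandard {k t : ℕ} (g : GL (Fin t → Fin k) F) (σ : Equiv.Perm (Fin t))
    (Us : Fin t → GL (Fin k) F)
    (hg : (g : Matrix (Fin t → Fin k) (Fin t → Fin k) F) =
      facPerm k F σ * ptM (fun i => ((Us i : GL (Fin k) F) : Matrix (Fin k) (Fin k) F))) :
    g ∈ tensorWreathStandard k t F := by
  have : g = facGL k F σ * ptGL Us := by
    apply Units.ext
    rw [hg]
    rfl
  rw [this]
  exact Subgroup.mul_mem _ (Subgroup.subset_closure (Or.inr ⟨σ, fun x y => rfl⟩))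
    (Subgroup.subset_closure (Or.inl ⟨Us, fun x y => rfl⟩))

end Cfsg.Agent.Lib.Helper9.AschU
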