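import Mathlib
import Cfsg.Prelude
import Cfsg.Agent.Lib.Helper9.AschU17

set_option autoImplicit false
set_option linter.unusedSectionVars false
set_option linter.unusedVariables false
set_option linter.style.longLine false
set_option linter.unusedSimpArgs false
open Cfsg

namespace Cfsg.Agent.Lib.Helper9.AschU

open Module Matrix
open scoped Kronecker
open Cfsg.Geo
open Cfsg.Agent.Lib.Helper8.Asch
open Cfsg.Agent.Lib.Helper5 Cfsg.Agent.Lib.Helper8
open Cfsg.Agent.Lib.Helper5.Herm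
open Cfsg.Agent.Lib.Helper5.HermBridge (hermSesq hermSesq_apply hermSesq_nondegenerate sigma_apply sigma_sigma sigma_ne_id)
open Cfsg.Agent.Lib.Helper5.HermPair Cfsg.Agent.Lib.Helper5.HermPerp
open Cfsg.Agent.Lib.Helper5.SUSingularMax

variable {F : Type*} [Field F] {a e : ℕ}

/-- a block of a matrix on a product index -/
def kblk (B : Matrix (Fin a × Fin e) (Fin a × Fin e) F) (j j' : Fin e) : Matrix (Fin a) (Fin a) F :=
  fun i i' => B (i, j) (i', j')

theorem block_inv (σ : F →+* F) (X : Matrix (Fin a) (Fin a) F)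
    (B : Matrix (Fin a × Fin e) (Fin a × Fin e) F)
    (h : (X ⊗ₖ (1 : Matrix (Fin e) (Fin e) F))ᵀ * B *
      (X ⊗ₖ (1 : Matrix (Fin e) (Fin e) F)).map σ = B) (j j' : Fin e) :
    Xᵀ * kblk B j j' * X.map σ = kblk B j j' := by
  ext i i'
  have h1 := congrFun (congrFun h (i, j)) (i', j')
  rw [Matrix.mul_apply] at h1 ⊢
  simp only [Matrix.mul_apply, Matrix.transpose_apply, Matrix.map_apply,
    Matrix.kroneckerMap_apply, Matrix.one_apply, Fintype.sum_prod_type, kblk] at h1 ⊢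
  rw [← h1]
  refine Finset.sum_congr rfl fun k' _ => ?_
  rw [Finset.sum_eq_single j']
  · rw [if_pos rfl, mul_one]
    congr 1
    refine Finset.sum_congr rfl fun k _ => ?_
    rw [Finset.sum_eq_single j]
    · rw [if_pos rfl, mul_one]
    · intro l _ hl
      rw [if_neg hl, mul_zero, zero_mul]
    · intro hh
      exact absurd (Finset.mem_univ _) hh
  · intro l _ hl
    rw [if_neg hl, mul_zero, map_zero, mul_zero]
  · intro hh
    exact absurd (Finset.mem_univ _) hh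

theorem kron_map (σ : F →+* F) (X : Matrix (Fin a) (Fin a) F) (Y : Matrix (Fin e) (Fin e) F) :
    (X ⊗ₖ Y).map σ = X.map σ ⊗ₖ Y.map σ := by
  ext ⟨i, j⟩ ⟨i', j'⟩
  simp only [Matrix.map_apply, Matrix.kroneckerMap_apply, map_mul]

theorem kron_transpose (X : Matrix (Fin a) (Fin a) F) (Y : Matrix (Fin e) (Fin e) F) :
    (X ⊗ₖ Y)ᵀ = Xᵀ ⊗ₖ Yᵀ := by
  ext ⟨i, j⟩ ⟨i', j'⟩
  simp only [Matrix.transpose_apply, Matrix.kroneckerMap_apply]

/-- `X ↦ X ⊗ 1` as a group homomorphism -/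
def kronHom (a e : ℕ) (F : Type*) [Field F] : GL (Fin a) F →* GL (Fin a × Fin e) F where
  toFun X := kronGL X 1
  map_one' := by
    apply Units.ext
    show ((1 : GL (Fin a) F) : Matrix (Fin a) (Fin a) F) ⊗ₖ
      ((1 : GL (Fin e) F) : Matrix (Fin e) (Fin e) F) = 1
    rw [Units.val_one, Units.val_one, Matrix.one_kronecker_one]
  map_mul' X Y := by
    apply Units.ext
    show ((X * Y : GL (Fin a) F) : Matrix (Fin a) (Fin a) F) ⊗ₖ
      ((1 : GL (Fin e) F) : Matrix (Fin e) (Fin e) F) =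
      ((X : Matrix (Fin a) (Fin a) F) ⊗ₖ ((1 : GL (Fin e) F) : Matrix (Fin e) (Fin e) F)) *
      ((Y : Matrix (Fin a) (Fin a) F) ⊗ₖ ((1 : GL (Fin e) F) : Matrix (Fin e) (Fin e) F))
    rw [← Matrix.mul_kronecker_mul, Units.val_mul, Units.val_one, Matrix.one_mul]

theorem kronHom_val (X : GL (Fin a) F) :
    ((kronHom a e F X : GL (Fin a × Fin e) F) : Matrix (Fin a × Fin e) (Fin a × Fin e) F) =
      (X : Matrix (Fin a) (Fin a) F) ⊗ₖ (1 : Matrix (Fin e) (Fin e) F) := by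
  show (X : Matrix (Fin a) (Fin a) F) ⊗ₖ ((1 : GL (Fin e) F) : Matrix (Fin e) (Fin e) F) = _
  rw [Units.val_one]

section main

variable [Fintype F] {q : ℕ} (hF : Fintype.card F = q ^ 2) {n : ℕ}

/-- the group of first tensor factors of `N` -/
noncomputable def facGroup (b : Basis (Fin a × Fin e) F (Fin n → F)) (N : Subgroup (GL (Fin n) F)) :
    Subgroup (GL (Fin a) F) :=
  (N.map (matB b)).comap (kronHom a e F)

omit [Fintype F] in
theorem mem_facGroup (b : Basis (Fin a × Fin e) F (Fin n → F)) (N : Subgroup (GL (Fin n) F))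
    (X : GL (Fin a) F) :
    X ∈ facGroup b N ↔ ∃ x ∈ N, LinearMap.toMatrix b b (Matrix.toLin' (x : Matrix (Fin n) (Fin n) F)) =
      (X : Matrix (Fin a) (Fin a) F) ⊗ₖ (1 : Matrix (Fin e) (Fin e) F) := by
  unfold facGroup
  rw [Subgroup.mem_comap, Subgroup.mem_map]
  constructor
  · rintro ⟨x, hx, hxX⟩
    refine ⟨x, hx, ?_⟩
    rw [← matB_val, hxX, kronHom_val]
  · rintro ⟨x, hx, hxX⟩
    refine ⟨x, hx, ?_⟩
    apply Units.ext
    rw [matB_val, hxX, kronHom_val]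

omit [Fintype F] in
theorem span_facGroup (he : 0 < e) (b : Basis (Fin a × Fin e) F (Fin n → F))
    (N : Subgroup (GL (Fin n) F))
    (hb1 : ∀ x ∈ algOf (HV N), ∃ X : Matrix (Fin a) (Fin a) F,
      LinearMap.toMatrix b b x = X ⊗ₖ (1 : Matrix (Fin e) (Fin e) F))
    (hb2 : ∀ X : Matrix (Fin a) (Fin a) F, ∃ x ∈ algOf (HV N),
      LinearMap.toMatrix b b x = X ⊗ₖ (1 : Matrix (Fin e) (Fin e) F)) :
    Submodule.span F (mset (facGroup b N)) = ⊤ := by
  haveI : Nonempty (Fin e) := ⟨⟨0, he⟩⟩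
  rw [eq_top_iff]
  intro X _
  obtain ⟨x, hx, hxX⟩ := hb2 X
  have hM : LinearMap.toMatrix' x ∈ Submodule.span F (mset N) := by
    rw [← mem_algOf_HV_iff, Matrix.toLin'_toMatrix']
    exact hx
  have key : ∀ M ∈ Submodule.span F (mset N), ∃ Y ∈ Submodule.span F (mset (facGroup b N)),
      LinearMap.toMatrix b b (Matrix.toLin' M) = Y ⊗ₖ (1 : Matrix (Fin e) (Fin e) F) := by
    intro M hM
    induction hM using Submodule.span_induction with
    | mem M hM =>
      obtain ⟨y, hy, rfl⟩ := hM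
      obtain ⟨Y, hY⟩ := hb1 _ (mem_algOf (mem_HV hy))
      rw [toV_val] at hY
      have hdet : Y.det ≠ 0 := by
        intro h0
        have h1 : (Y ⊗ₖ (1 : Matrix (Fin e) (Fin e) F)).det = 0 := by
          rw [Matrix.det_kronecker, h0, zero_pow (by rw [Fintype.card_fin]; omega), zero_mul]
        rw [← hY, ← matB_val] at h1
        exact ((Matrix.isUnit_iff_isUnit_det _).mp (matB b y).isUnit).ne_zero h1
      refine ⟨Y, Submodule.subset_span ⟨Matrix.GeneralLinearGroup.mkOfDetNeZero Y hdet, ?_, rfl⟩, hY⟩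
      rw [SetLike.mem_coe, mem_facGroup]
      exact ⟨y, hy, hY⟩
    | zero =>
      refine ⟨0, Submodule.zero_mem _, ?_⟩
      rw [map_zero, map_zero, Matrix.zero_kronecker]
    | add M₁ M₂ _ _ h₁ h₂ =>
      obtain ⟨Y₁, hY₁, e₁⟩ := h₁
      obtain ⟨Y₂, hY₂, e₂⟩ := h₂
      refine ⟨Y₁ + Y₂, Submodule.add_mem _ hY₁ hY₂, ?_⟩
      rw [map_add, map_add, e₁, e₂, Matrix.add_kronecker]
    | smul c M _ h₁ =>
      obtain ⟨Y₁, hY₁, e₁⟩ := h₁
      refine ⟨c • Y₁, Submodule.smul_mem _ _ hY₁, ?_⟩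
      rw [map_smul, map_smul, e₁, Matrix.smul_kronecker]
  obtain ⟨Y, hY, hYX⟩ := key _ hM
  rw [Matrix.toLin'_toMatrix', hxX] at hYX
  rw [kron_one_injective hYX]
  exact hY

include hF in
/-- in the tensor case there is an orthonormal basis adapted to the tensor decomposition -/
theorem tensor_orthonormal (ha : 0 < a) (he : 0 < e) (H N : Subgroup (GL (Fin n) F))
    (hH : H ≤ GU n F q) (hN : N ≤ GU n F q) (b : Basis (Fin a × Fin e) F (Fin n → F))
    (hb1 : ∀ x ∈ algOf (HV N), ∃ X : Matrix (Fin a) (Fin a) F,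
      LinearMap.toMatrix b b x = X ⊗ₖ (1 : Matrix (Fin e) (Fin e) F))
    (hb2 : ∀ X : Matrix (Fin a) (Fin a) F, ∃ x ∈ algOf (HV N),
      LinearMap.toMatrix b b x = X ⊗ₖ (1 : Matrix (Fin e) (Fin e) F))
    (hHb : ∀ h ∈ H, ∃ (U : GL (Fin a) F) (Γ : GL (Fin e) F),
      LinearMap.toMatrix b b (Matrix.toLin' (h : Matrix (Fin n) (Fin n) F)) =
        (U : Matrix (Fin a) (Fin a) F) ⊗ₖ (Γ : Matrix (Fin e) (Fin e) F)) :
    ∃ b' : Basis (Fin a × Fin e) F (Fin n → F), gramB q b' = 1 ∧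
      ∀ h ∈ H, ∃ (U : GL (Fin a) F) (Γ : GL (Fin e) F),
        LinearMap.toMatrix b' b' (Matrix.toLin' (h : Matrix (Fin n) (Fin n) F)) =
          (U : Matrix (Fin a) (Fin a) F) ⊗ₖ (Γ : Matrix (Fin e) (Fin e) F) := by
  classical
  haveI : Nonempty (Fin a) := ⟨⟨0, ha⟩⟩
  haveI : Nonempty (Fin e) := ⟨⟨0, he⟩⟩
  set σ := HermBridge.sigma hF with hσ
  obtain ⟨B, hBdef⟩ : ∃ B : Matrix (Fin a × Fin e) (Fin a × Fin e) F, B = gramB q b := ⟨_, rfl⟩
  have hBherm : ∀ k l, σ (B l k) = B k l := by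
    intro k l
    rw [hBdef]
    exact gramB_herm hF b k l
  have hBdet : B.det ≠ 0 := by
    rw [hBdef]
    exact gramB_det hF b
  set S := facGroup b N with hS
  have hSspan : Submodule.span F (mset S) = ⊤ := span_facGroup he b N hb1 hb2
  -- every block is invariant
  have hblk : ∀ j j', FInv σ S ((kblk B j j')ᵀ) := by
    intro j j' X hX
    obtain ⟨x, hx, hxX⟩ := (mem_facGroup b N X).mp hX
    have h1 := gramB_inv hF b (hN hx)
    rw [hxX, ← hBdef] at h1
    have h2 := block_inv σ (X : Matrix (Fin a) (Fin a) F) B h1 j j'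
    have h3 := congrArg Matrix.transpose h2
    rw [Matrix.transpose_mul, Matrix.transpose_mul, Matrix.transpose_transpose,
      ← Matrix.mul_assoc] at h3
    exact h3
  -- a non-zero block
  obtain ⟨j₀, j₀', hne⟩ : ∃ j j', (kblk B j j')ᵀ ≠ 0 := by
    by_contra hcon
    push Not at hcon
    apply hBdet
    have : B = 0 := by
      ext ⟨i, j⟩ ⟨i', j'⟩
      have := congrFun (congrFun (hcon j j') i') i
      exact this
    rw [this, Matrix.det_zero]
  have hdet₀ := FInv_det_ne_zero σ hSspan _ hne (hblk j₀ j₀')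
  obtain ⟨B', hB'inv, hB'herm⟩ := exists_hermitian σ (sigma_sigma hF)
    (by obtain ⟨t, ht⟩ := exists_not_fixed hF; exact ⟨t, by rw [hσ, sigma_apply]; exact ht⟩)
    hSspan (Matrix.GeneralLinearGroup.mkOfDetNeZero _ hdet₀) (hblk j₀ j₀')
  have hall : ∀ j j', ∃ c : F, (kblk B j j')ᵀ = c • (B' : Matrix (Fin a) (Fin a) F) :=
    fun j j' => FInv_unique σ hSspan B' hB'inv (hblk j j')
  choose C hC using hall
  obtain ⟨G₁, hG₁⟩ : ∃ G₁ : Matrix (Fin a) (Fin a) F, G₁ = (B' : Matrix (Fin a) (Fin a) F)ᵀ := ⟨_, rfl⟩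
  have hBkron : B = G₁ ⊗ₖ (Matrix.of C) := by
    ext ⟨i, j⟩ ⟨i', j'⟩
    have := congrFun (congrFun (hC j j') i') i
    rw [Matrix.transpose_apply, Matrix.smul_apply, smul_eq_mul] at this
    rw [Matrix.kroneckerMap_apply, hG₁, Matrix.transpose_apply, Matrix.of_apply, mul_comm]
    exact this
  have hG₁herm : ∀ i i', σ (G₁ i' i) = G₁ i i' := by
    intro i i'
    have := congrFun (congrFun hB'herm i') i
    rw [Asch.star_apply] at this
    rw [hG₁, Matrix.transpose_apply, Matrix.transpose_apply]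
    exact this
  have hG₁det : G₁.det ≠ 0 := by
    rw [hG₁, Matrix.det_transpose]
    exact ((Matrix.isUnit_iff_isUnit_det _).mp B'.isUnit).ne_zero
  obtain ⟨i₀, i₀', hi₀⟩ : ∃ i i', G₁ i i' ≠ 0 := by
    by_contra hcon
    push Not at hcon
    apply hG₁det
    have : G₁ = 0 := by
      ext i i'
      exact hcon i i'
    rw [this, Matrix.det_zero]
  have hCherm : ∀ j j', σ ((Matrix.of C) j' j) = (Matrix.of C) j j' := by
    intro j j'
    have h1 := hBherm (i₀, j) (i₀', j')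
    rw [hBkron, Matrix.kroneckerMap_apply, Matrix.kroneckerMap_apply, map_mul, hG₁herm] at h1
    exact mul_left_cancel₀ hi₀ h1
  have hCdet : (Matrix.of C).det ≠ 0 := by
    intro h0
    apply hBdet
    rw [hBkron, Matrix.det_kronecker, h0, zero_pow (by rw [Fintype.card_fin]; omega), mul_zero]
  obtain ⟨Q₁, hQ₁⟩ := exists_orthonormalizer hF a G₁ hG₁herm hG₁det
  obtain ⟨Q₂, hQ₂⟩ := exists_orthonormalizer hF e (Matrix.of C) hCherm hCdet
  refine ⟨newBasis b (kronGL Q₁ Q₂), ?_, ?_⟩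
  · rw [gramB_newBasis hF, ← hBdef, hBkron]
    show ((Q₁ : Matrix (Fin a) (Fin a) F) ⊗ₖ (Q₂ : Matrix (Fin e) (Fin e) F))ᵀ * _ *
      ((Q₁ : Matrix (Fin a) (Fin a) F) ⊗ₖ (Q₂ : Matrix (Fin e) (Fin e) F)).map σ = 1
    rw [kron_transpose, kron_map, ← Matrix.mul_kronecker_mul, ← Matrix.mul_kronecker_mul, hQ₁, hQ₂,
      Matrix.one_kronecker_one]
  · intro h hh
    obtain ⟨U, Γ, hUΓ⟩ := hHb h hh
    refine ⟨Q₁⁻¹ * U * Q₁, Q₂⁻¹ * Γ * Q₂, ?_⟩
    rw [toMatrix_newBasis, hUΓ]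
    show (((Q₁⁻¹ : GL (Fin a) F) : Matrix (Fin a) (Fin a) F) ⊗ₖ
        ((Q₂⁻¹ : GL (Fin e) F) : Matrix (Fin e) (Fin e) F)) * _ *
      ((Q₁ : Matrix (Fin a) (Fin a) F) ⊗ₖ (Q₂ : Matrix (Fin e) (Fin e) F)) = _
    rw [← Matrix.mul_kronecker_mul, ← Matrix.mul_kronecker_mul]
    simp only [Units.val_mul]

end main

end Cfsg.Agent.Lib.Helper9.AschU
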