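import Mathlib
import Cfsg.Prelude
import Cfsg.Agent.Lib.Helper9.AschU18

set_option autoImplicit false
set_option linter.unusedSectionVars false
set_option linter.unusedVariables false
set_option linter.style.longLine false
set_option linter.unusedSimpArgs false
open Cfsg

namespace Cfsg.Agent.Lib.Helper9.AschU

open Module Matrix
open scoped Kronecker
open Cfsg.Geo
open Cfsg.Agent.Lib.Helper8.Asch
open Cfsg.Agent.Lib.Helper5 Cfsg.Agent.Lib.Helper8

variable {F : Type*} [Field F] {k m : ℕ}

section gen
variable {κ : Type} [Fintype κ] [DecidableEq κ]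

/-- the isometry group of a sesquilinear form given by a matrix -/
def formStab (σ : F →+* F) (B : Matrix κ κ F) : Subgroup (GL κ F) where
  carrier := {x | Asch.star σ (x : Matrix κ κ F) * B * (x : Matrix κ κ F) = B}
  mul_mem' := by
    intro x y hx hy
    show Asch.star σ ((x * y : GL κ F) : Matrix κ κ F) * B * ((x * y : GL κ F) : Matrix κ κ F) = B
    rw [Units.val_mul, Asch.star_mul]
    calc Asch.star σ (y : Matrix κ κ F) * Asch.star σ (x : Matrix κ κ F) * B *
          ((x : Matrix κ κ F) * (y : Matrix κ κ F))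
        = Asch.star σ (y : Matrix κ κ F) * (Asch.star σ (x : Matrix κ κ F) * B *
          (x : Matrix κ κ F)) * (y : Matrix κ κ F) := by simp only [Matrix.mul_assoc]
      _ = B := by rw [hx, hy]
  one_mem' := by
    show Asch.star σ ((1 : GL κ F) : Matrix κ κ F) * B * ((1 : GL κ F) : Matrix κ κ F) = B
    rw [Units.val_one, Asch.star_one, Matrix.one_mul, Matrix.mul_one]
  inv_mem' := by
    intro x hx
    show Asch.star σ ((x⁻¹ : GL κ F) : Matrix κ κ F) * B * ((x⁻¹ : GL κ F) : Matrix κ κ F) = B
    have hx' : Asch.star σ (x : Matrix κ κ F) * B * (x : Matrix κ κ F) = B := hx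
    have e1 : Asch.star σ ((x⁻¹ : GL κ F) : Matrix κ κ F) * Asch.star σ (x : Matrix κ κ F) = 1 := by
      rw [← Asch.star_mul, ← Units.val_mul, mul_inv_cancel, Units.val_one, Asch.star_one]
    have e2 : (x : Matrix κ κ F) * ((x⁻¹ : GL κ F) : Matrix κ κ F) = 1 := by
      rw [← Units.val_mul, mul_inv_cancel, Units.val_one]
    calc Asch.star σ ((x⁻¹ : GL κ F) : Matrix κ κ F) * B * ((x⁻¹ : GL κ F) : Matrix κ κ F)
        = Asch.star σ ((x⁻¹ : GL κ F) : Matrix κ κ F) * (Asch.star σ (x : Matrix κ κ F) * B *
          (x : Matrix κ κ F)) * ((x⁻¹ : GL κ F) : Matrix κ κ F) := by rw [hx']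
      _ = (Asch.star σ ((x⁻¹ : GL κ F) : Matrix κ κ F) * Asch.star σ (x : Matrix κ κ F)) * B *
          ((x : Matrix κ κ F) * ((x⁻¹ : GL κ F) : Matrix κ κ F)) := by
          simp only [Matrix.mul_assoc]
      _ = B := by rw [e1, e2, Matrix.one_mul, Matrix.mul_one]

theorem FInv_closure (σ : F →+* F) (T : Set (GL κ F)) (B : Matrix κ κ F) (h : FInv σ T B) :
    FInv σ (Subgroup.closure T : Set (GL κ F)) B := by
  have : Subgroup.closure T ≤ formStab σ B := by
    rw [Subgroup.closure_le]
    intro x hx
    exact h x hx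
  intro x hx
  exact this hx

end gen

theorem star_ptM (σ : F →+* F) (Xs : Fin k → Matrix (Fin m) (Fin m) F) :
    Asch.star σ (ptM Xs) = ptM (fun i => Asch.star σ (Xs i)) := by
  ext f g
  rw [Asch.star_apply, ptM_apply, ptM_apply, map_prod]
  rfl

theorem ptM_map (σ : F →+* F) (Xs : Fin k → Matrix (Fin m) (Fin m) F) :
    (ptM Xs).map σ = ptM (fun i => (Xs i).map σ) := by
  ext f g
  rw [Matrix.map_apply, ptM_apply, ptM_apply, map_prod]
  rfl

/-- the embedding of the `i`-th factor along fixed other coordinates -/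
def emb (F : Type*) [Field F] (i : Fin k) (α : Fin k → Fin m) : Matrix (Fin k → Fin m) (Fin m) F :=
  fun γ p => if γ = Function.update α i p then 1 else 0

theorem emb_apply (i : Fin k) (α : Fin k → Fin m) (γ : Fin k → Fin m) (p : Fin m) :
    emb F i α γ p = if γ = Function.update α i p then 1 else 0 := rfl

theorem emb_map (σ : F →+* F) (i : Fin k) (α : Fin k → Fin m) :
    (emb F i α).map σ = emb F i α := by
  ext γ p
  rw [Matrix.map_apply, emb_apply]
  split_ifs <;> simp

theorem update_inj (i : Fin k) (α : Fin k → Fin m) {p r : Fin m}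
    (h : Function.update α i p = Function.update α i r) : p = r := by
  have := congrFun h i
  rwa [Function.update_self, Function.update_self] at this

theorem posMat_mul_emb (i : Fin k) (α : Fin k → Fin m) (X : Matrix (Fin m) (Fin m) F) :
    posMat i X * emb F i α = emb F i α * X := by
  ext γ p
  rw [Matrix.mul_apply, Matrix.mul_apply]
  rw [Finset.sum_eq_single (Function.update α i p)]
  · simp only [emb_apply]
    rw [if_pos trivial, mul_one, posMat_apply]
    by_cases h : ∀ j, j ≠ i → γ j = Function.update α i p j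
    · rw [if_pos h, Function.update_self]
      have hγ : γ = Function.update α i (γ i) := by
        funext j
        by_cases hj : j = i
        · subst hj
          rw [Function.update_self]
        · rw [Function.update_of_ne hj, h j hj, Function.update_of_ne hj]
      rw [Finset.sum_eq_single (γ i)]
      · rw [if_pos hγ, one_mul]
      · intro r _ hr
        rw [if_neg, zero_mul]
        intro hcon
        apply hr
        have := congrFun hcon i
        rw [Function.update_self] at this
        exact this.symm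
      · intro hh
        exact absurd (Finset.mem_univ _) hh
    · rw [if_neg h]
      symm
      apply Finset.sum_eq_zero
      intro r _
      rw [if_neg, zero_mul]
      intro hcon
      apply h
      intro j hj
      rw [hcon, Function.update_of_ne hj, Function.update_of_ne hj]
  · intro δ _ hδ
    rw [emb_apply, if_neg hδ, mul_zero]
  · intro hh
    exact absurd (Finset.mem_univ _) hh

theorem emb_block_apply (B : Matrix (Fin k → Fin m) (Fin k → Fin m) F) (i : Fin k)
    (α β : Fin k → Fin m) (p p' : Fin m) :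
    ((emb F i α)ᵀ * B * emb F i β) p p' =
      B (Function.update α i p) (Function.update β i p') := by
  rw [Matrix.mul_apply, Finset.sum_eq_single (Function.update β i p')]
  · rw [Matrix.mul_apply, Finset.sum_eq_single (Function.update α i p)]
    · rw [Matrix.transpose_apply, emb_apply, emb_apply, if_pos rfl, if_pos rfl, one_mul, mul_one]
    · intro γ _ hγ
      rw [Matrix.transpose_apply, emb_apply, if_neg hγ, zero_mul]
    · intro hh
      exact absurd (Finset.mem_univ _) hh
  · intro δ _ hδ
    rw [emb_apply, if_neg hδ, mul_zero]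
  · intro hh
    exact absurd (Finset.mem_univ _) hh

/-- blocks of an invariant form are invariant under the factor -/
theorem block_FInv (σ : F →+* F) (i : Fin k) (α β : Fin k → Fin m)
    (Bt : Matrix (Fin k → Fin m) (Fin k → Fin m) F) (X : Matrix (Fin m) (Fin m) F)
    (h : Asch.star σ (posMat i X) * Bt * posMat i X = Bt) :
    Asch.star σ X * ((emb F i α)ᵀ * Bt * emb F i β) * X =
      (emb F i α)ᵀ * Bt * emb F i β := by
  have h1 : emb F i α * X.map σ = (posMat i X).map σ * emb F i α := by
    have := congrArg (fun Y : Matrix (Fin k → Fin m) (Fin m) F => Y.map σ) (posMat_mul_emb i α X)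
    simp only [Matrix.map_mul, emb_map] at this
    exact this.symm
  have h2 : Asch.star σ X * (emb F i α)ᵀ =
      (emb F i α)ᵀ * Asch.star σ (posMat i X) := by
    unfold Asch.star
    rw [← Matrix.transpose_mul, h1, Matrix.transpose_mul]
  calc Asch.star σ X * ((emb F i α)ᵀ * Bt * emb F i β) * X
      = (Asch.star σ X * (emb F i α)ᵀ) * Bt * (emb F i β * X) := by
        simp only [Matrix.mul_assoc]
    _ = (emb F i α)ᵀ *
          (Asch.star σ (posMat i X) * Bt * posMat i X) * emb F i β := by
        rw [h2, ← posMat_mul_emb]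
        simp only [Matrix.mul_assoc]
    _ = _ := by rw [h]

/-- `X ↦ posMat i X` as a group homomorphism -/
def posHom (k m : ℕ) (F : Type*) [Field F] (i : Fin k) : GL (Fin m) F →* GL (Fin k → Fin m) F where
  toFun X := ⟨posMat i (X : Matrix (Fin m) (Fin m) F),
    posMat i ((X⁻¹ : GL (Fin m) F) : Matrix (Fin m) (Fin m) F),
    by rw [posMat_mul, ← Units.val_mul, mul_inv_cancel, Units.val_one, posMat_one],
    by rw [posMat_mul, ← Units.val_mul, inv_mul_cancel, Units.val_one, posMat_one]⟩
  map_one' := by
    apply Units.ext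
    show posMat i ((1 : GL (Fin m) F) : Matrix (Fin m) (Fin m) F) = 1
    rw [Units.val_one, posMat_one]
  map_mul' X Y := by
    apply Units.ext
    show posMat i ((X * Y : GL (Fin m) F) : Matrix (Fin m) (Fin m) F) =
      posMat i (X : Matrix (Fin m) (Fin m) F) * posMat i (Y : Matrix (Fin m) (Fin m) F)
    rw [posMat_mul, Units.val_mul]

theorem posHom_val (i : Fin k) (X : GL (Fin m) F) :
    ((posHom k m F i X : GL (Fin k → Fin m) F) : Matrix (Fin k → Fin m) (Fin k → Fin m) F) =
      posMat i (X : Matrix (Fin m) (Fin m) F) := rfl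

section fac
variable {n : ℕ}

/-- the group of `i`-th tensor factors of `P` -/
noncomputable def posGroup (b : Basis (Fin k → Fin m) F (Fin n → F)) (P : Subgroup (GL (Fin n) F))
    (i : Fin k) : Subgroup (GL (Fin m) F) :=
  (P.map (matB b)).comap (posHom k m F i)

theorem mem_posGroup (b : Basis (Fin k → Fin m) F (Fin n → F)) (P : Subgroup (GL (Fin n) F))
    (i : Fin k) (X : GL (Fin m) F) :
    X ∈ posGroup b P i ↔ ∃ x ∈ P, LinearMap.toMatrix b b (Matrix.toLin' (x : Matrix (Fin n) (Fin n) F)) =
      posMat i (X : Matrix (Fin m) (Fin m) F) := by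
  unfold posGroup
  rw [Subgroup.mem_comap, Subgroup.mem_map]
  constructor
  · rintro ⟨x, hx, hxX⟩
    refine ⟨x, hx, ?_⟩
    rw [← matB_val, hxX, posHom_val]
  · rintro ⟨x, hx, hxX⟩
    refine ⟨x, hx, ?_⟩
    apply Units.ext
    rw [matB_val, hxX, posHom_val]

theorem span_posGroup (hm : 0 < m) (b : Basis (Fin k → Fin m) F (Fin n → F))
    (P : Subgroup (GL (Fin n) F)) (i : Fin k)
    (hb1 : ∀ x ∈ algOf (HV P), ∃ X : Matrix (Fin m) (Fin m) F,
      LinearMap.toMatrix b b x = posMat i X)
    (hb2 : ∀ X : Matrix (Fin m) (Fin m) F, ∃ x ∈ algOf (HV P),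
      LinearMap.toMatrix b b x = posMat i X) :
    Submodule.span F (mset (posGroup b P i)) = ⊤ := by
  rw [eq_top_iff]
  intro X _
  obtain ⟨x, hx, hxX⟩ := hb2 X
  have hM : LinearMap.toMatrix' x ∈ Submodule.span F (mset P) := by
    rw [← mem_algOf_HV_iff, Matrix.toLin'_toMatrix']
    exact hx
  have key : ∀ M ∈ Submodule.span F (mset P), ∃ Y ∈ Submodule.span F (mset (posGroup b P i)),
      LinearMap.toMatrix b b (Matrix.toLin' M) = posMat i Y := by
    intro M hM
    induction hM using Submodule.span_induction with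
    | mem M hM =>
      obtain ⟨y, hy, rfl⟩ := hM
      obtain ⟨Y, hY⟩ := hb1 _ (mem_algOf (mem_HV hy))
      obtain ⟨Y', hY'⟩ := hb1 _ (mem_algOf (mem_HV (P.inv_mem hy)))
      rw [toV_val] at hY hY'
      have e1 : Y * Y' = 1 := by
        apply posMat_injective hm i
        rw [← posMat_mul, ← hY, ← hY', ← matB_val, ← matB_val, ← Units.val_mul, ← map_mul,
          mul_inv_cancel, map_one, Units.val_one, posMat_one]
      have e2 : Y' * Y = 1 := mul_eq_one_comm.mp e1
      refine ⟨Y, Submodule.subset_span ⟨⟨Y, Y', e1, e2⟩, ?_, rfl⟩, hY⟩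
      rw [SetLike.mem_coe, mem_posGroup]
      exact ⟨y, hy, hY⟩
    | zero =>
      refine ⟨0, Submodule.zero_mem _, ?_⟩
      rw [map_zero, map_zero, posMat_zero]
    | add M₁ M₂ _ _ h₁ h₂ =>
      obtain ⟨Y₁, hY₁, e₁⟩ := h₁
      obtain ⟨Y₂, hY₂, e₂⟩ := h₂
      refine ⟨Y₁ + Y₂, Submodule.add_mem _ hY₁ hY₂, ?_⟩
      rw [map_add, map_add, e₁, e₂, posMat_add]
    | smul c M _ h₁ =>
      obtain ⟨Y₁, hY₁, e₁⟩ := h₁
      refine ⟨c • Y₁, Submodule.smul_mem _ _ hY₁, ?_⟩
      rw [map_smul, map_smul, e₁, posMat_smul]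
  obtain ⟨Y, hY, hYX⟩ := key _ hM
  rw [Matrix.toLin'_toMatrix', hxX] at hYX
  rw [posMat_injective hm i hYX]
  exact hY

end fac

end Cfsg.Agent.Lib.Helper9.AschU
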