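import Mathlib
import Cfsg.Prelude
import Cfsg.Agent.Lib.Helper9.AschU19

set_option autoImplicit false
set_option linter.unusedSectionVars false
set_option linter.unusedVariables false
set_option linter.style.longLine false
set_option linter.unusedSimpArgs false
open Cfsg

namespace Cfsg.Agent.Lib.Helper9.AschU

open Module Matrix
open scoped Kronecker
open Cfsg.Geo
open Cfsg.Agent.Lib.Helper8.Asch
open Cfsg.Agent.Lib.Helper5 Cfsg.Agent.Lib.Helper8
open Cfsg.Agent.Lib.Helper5.Herm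
open Cfsg.Agent.Lib.Helper5.HermBridge (hermSesq hermSesq_apply hermSesq_nondegenerate sigma_apply sigma_sigma sigma_ne_id)
open Cfsg.Agent.Lib.Helper5.HermPair Cfsg.Agent.Lib.Helper5.HermPerp
open Cfsg.Agent.Lib.Helper5.SUSingularMax

variable {F : Type*} [Field F] {k m n : ℕ}

theorem ptM_mul_facPerm (σ : Equiv.Perm (Fin k)) (Xs : Fin k → Matrix (Fin m) (Fin m) F) :
    ptM Xs * facPerm m F σ = facPerm m F σ * ptM (fun i => Xs (σ i)) := by
  ext x y
  rw [mul_facPerm_apply, facPerm_mul_apply, ptM_apply, ptM_apply]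
  simp only [Function.comp_apply]
  exact (Fintype.prod_equiv σ _ _ (fun i => by simp)).symm

theorem exists_mem_posGroup (hm : 0 < m) (b : Basis (Fin k → Fin m) F (Fin n → F))
    (P : Subgroup (GL (Fin n) F)) (i : Fin k)
    (hb1 : ∀ x ∈ algOf (HV P), ∃ X : Matrix (Fin m) (Fin m) F,
      LinearMap.toMatrix b b x = posMat i X) {y : GL (Fin n) F} (hy : y ∈ P) :
    ∃ Y ∈ posGroup b P i, LinearMap.toMatrix b b (Matrix.toLin' (y : Matrix (Fin n) (Fin n) F)) =
      posMat i (Y : Matrix (Fin m) (Fin m) F) := by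
  obtain ⟨Y, hY⟩ := hb1 _ (mem_algOf (mem_HV hy))
  obtain ⟨Y', hY'⟩ := hb1 _ (mem_algOf (mem_HV (P.inv_mem hy)))
  rw [toV_val] at hY hY'
  have e1 : Y * Y' = 1 := by
    apply posMat_injective hm i
    rw [← posMat_mul, ← hY, ← hY', ← matB_val, ← matB_val, ← Units.val_mul, ← map_mul,
      mul_inv_cancel, map_one, Units.val_one, posMat_one]
  have e2 : Y' * Y = 1 := mul_eq_one_comm.mp e1
  refine ⟨⟨Y, Y', e1, e2⟩, ?_, hY⟩
  rw [mem_posGroup]
  exact ⟨y, hy, hY⟩

theorem wreath_data [Finite F] (hn : 0 < n) (H N : Subgroup (GL (Fin n) F))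
    (hspan : Submodule.span F (mset N) = ⊤)
    (k : ℕ) (P : Fin k → Subgroup (GL (Fin n) F)) (hk : 2 ≤ k) (hPN : ∀ i, P i ≤ N)
    (hcomm : ∀ i j, i ≠ j → ∀ x ∈ P i, ∀ y ∈ P j, x * y = y * x)
    (hgen : Subgroup.closure (⋃ i, (P i : Set (GL (Fin n) F))) = N)
    (hperm : ∀ h ∈ H, ∃ σ : Equiv.Perm (Fin k), ∀ i, cj h (P i) = P (σ i))
    (htrans : ∀ i j, ∃ h ∈ H, cj h (P i) = P j) :
    ∃ (m : ℕ) (b : Basis (Fin k → Fin m) F (Fin n → F)), 0 < m ∧
      (∀ i, (∀ x ∈ algOf (HV (P i)), ∃ X : Matrix (Fin m) (Fin m) F,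
          LinearMap.toMatrix b b x = posMat i X) ∧
        (∀ X : Matrix (Fin m) (Fin m) F, ∃ x ∈ algOf (HV (P i)),
          LinearMap.toMatrix b b x = posMat i X)) ∧
      ∀ h ∈ H, ∃ (σ : Equiv.Perm (Fin k)) (Us : Fin k → GL (Fin m) F),
        LinearMap.toMatrix b b (Matrix.toLin' (h : Matrix (Fin n) (Fin n) F)) =
          facPerm m F σ * ptM (fun i => ((Us i : GL (Fin m) F) : Matrix (Fin m) (Fin m) F)) := by
  haveI : Nonempty (Fin n) := ⟨⟨0, hn⟩⟩
  have hgen' : HV N ≤ Subgroup.closure (⋃ i, (HV (P i) : Set (GLV F (Fin n → F)))) := by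
    rw [← hgen]
    unfold HV
    rw [MonoidHom.map_closure]
    apply Subgroup.closure_mono
    rintro x ⟨g, hg, rfl⟩
    obtain ⟨i, hi⟩ := Set.mem_iUnion.mp hg
    exact Set.mem_iUnion.mpr ⟨i, Subgroup.mem_map_of_mem _ hi⟩
  have hcomm' : ∀ i j, i ≠ j → ∀ x ∈ HV (P i), ∀ y ∈ HV (P j), x * y = y * x := by
    intro i j hij x hx y hy
    obtain ⟨x₀, hx₀, rfl⟩ := exists_of_mem_HV hx
    obtain ⟨y₀, hy₀, rfl⟩ := exists_of_mem_HV hy
    rw [← map_mul, ← map_mul, hcomm i j hij x₀ hx₀ y₀ hy₀]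
  have hdim : ∀ i j, finrank F (algOf (HV (P i))) = finrank F (algOf (HV (P j))) := by
    have hle : ∀ i j, finrank F (algOf (HV (P i))) ≤ finrank F (algOf (HV (P j))) := by
      intro i j
      obtain ⟨h, -, hh⟩ := htrans i j
      have := finrank_algOf_le (P i) h
      rwa [hh] at this
    exact fun i j => le_antisymm (hle i j) (hle j i)
  obtain ⟨m, b, hm, hb⟩ := tensor_factor_basis (by omega : 0 < k)
    (fun i => Subgroup.map_mono (hPN i)) hgen' hcomm' (irr_of_span N hspan)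
    (cent_of_span N hspan) hdim
  refine ⟨m, b, hm, hb, ?_⟩
  intro h hh
  obtain ⟨σ, hσ⟩ := hperm h hh
  set u : GLV F (Fin n → F) := toV h with hu
  have hg : ∀ i (X : Matrix (Fin m) (Fin m) F), ∃ X' : Matrix (Fin m) (Fin m) F,
      (glMat b u : Matrix (Fin k → Fin m) (Fin k → Fin m) F) * posMat i X *
        (((glMat b u)⁻¹ : GL (Fin k → Fin m) F) : Matrix (Fin k → Fin m) (Fin k → Fin m) F) =
          posMat (σ i) X' := by
    intro i X
    obtain ⟨x, hx, hxX⟩ := (hb i).2 X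
    have h1 := conj_mem_algOf (P i) h x hx
    rw [hσ i] at h1
    obtain ⟨X', hX'⟩ := (hb (σ i)).1 _ h1
    refine ⟨X', ?_⟩
    rw [← hX', ← map_inv, glMat_val, glMat_val, ← hxX, LinearMap.toMatrix_mul,
      LinearMap.toMatrix_mul]
  obtain ⟨Us, hUs⟩ := wreath_decomp hm (by omega) (glMat b u) σ hg
  refine ⟨σ, Us, ?_⟩
  rw [← hUs, glMat_val, hu, toV_val]

section main
variable [Fintype F] {q : ℕ} (hF : Fintype.card F = q ^ 2)

omit [Fintype F] in
theorem FInv_ptM (σ : F →+* F) (i : Fin k) (X : Matrix (Fin m) (Fin m) F)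
    (Bs : Fin k → Matrix (Fin m) (Fin m) F) (h : Asch.star σ X * Bs i * X = Bs i) :
    Asch.star σ (posMat i X) * ptM Bs * posMat i X = ptM Bs := by
  unfold posMat
  rw [star_ptM, ptM_mul, ptM_mul]
  congr 1
  funext j
  by_cases hj : j = i
  · subst hj
    simp only [Function.update_self]
    exact h
  · simp only [Function.update_of_ne hj]
    rw [Asch.star_one, Matrix.one_mul, Matrix.mul_one]

include hF in
theorem wreath_orthonormal (hm : 0 < m) (hk : 0 < k) (H N : Subgroup (GL (Fin n) F))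
    (hH : H ≤ GU n F q) (hN : N ≤ GU n F q) (hspan : Submodule.span F (mset N) = ⊤)
    (P : Fin k → Subgroup (GL (Fin n) F)) (hPN : ∀ i, P i ≤ N)
    (hgen : Subgroup.closure (⋃ i, (P i : Set (GL (Fin n) F))) = N)
    (b : Basis (Fin k → Fin m) F (Fin n → F))
    (hb : ∀ i, (∀ x ∈ algOf (HV (P i)), ∃ X : Matrix (Fin m) (Fin m) F,
          LinearMap.toMatrix b b x = posMat i X) ∧
        (∀ X : Matrix (Fin m) (Fin m) F, ∃ x ∈ algOf (HV (P i)),
          LinearMap.toMatrix b b x = posMat i X))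
    (hHb : ∀ h ∈ H, ∃ (σ : Equiv.Perm (Fin k)) (Us : Fin k → GL (Fin m) F),
        LinearMap.toMatrix b b (Matrix.toLin' (h : Matrix (Fin n) (Fin n) F)) =
          facPerm m F σ * ptM (fun i => ((Us i : GL (Fin m) F) : Matrix (Fin m) (Fin m) F))) :
    ∃ b' : Basis (Fin k → Fin m) F (Fin n → F), gramB q b' = 1 ∧
      ∀ h ∈ H, ∃ (σ : Equiv.Perm (Fin k)) (Us : Fin k → GL (Fin m) F),
        LinearMap.toMatrix b' b' (Matrix.toLin' (h : Matrix (Fin n) (Fin n) F)) =
          facPerm m F σ * ptM (fun i => ((Us i : GL (Fin m) F) : Matrix (Fin m) (Fin m) F)) := by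
  classical
  haveI : Nonempty (Fin m) := ⟨⟨0, hm⟩⟩
  set σ := HermBridge.sigma hF with hσ
  obtain ⟨Bt, hBtdef⟩ : ∃ Bt : Matrix (Fin k → Fin m) (Fin k → Fin m) F, Bt = (gramB q b)ᵀ :=
    ⟨_, rfl⟩
  have hBt : FInv σ (N.map (matB b)) Bt := by
    rw [hBtdef]
    exact FInv_gramB hF b hN
  have hBtdet : Bt.det ≠ 0 := by
    rw [hBtdef, Matrix.det_transpose]
    exact gramB_det hF b
  have hBtherm : ∀ x y, σ (Bt y x) = Bt x y := by
    intro x y
    rw [hBtdef, Matrix.transpose_apply, Matrix.transpose_apply]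
    exact gramB_herm hF b y x
  have hSspan : ∀ i, Submodule.span F (mset (posGroup b (P i) i)) = ⊤ :=
    fun i => span_posGroup hm b (P i) i (hb i).1 (hb i).2
  -- elements of the factors preserve Bt
  have hpos : ∀ i, ∀ X ∈ posGroup b (P i) i,
      Asch.star σ (posMat i (X : Matrix (Fin m) (Fin m) F)) * Bt *
        posMat i (X : Matrix (Fin m) (Fin m) F) = Bt := by
    intro i X hX
    obtain ⟨x, hx, hxX⟩ := (mem_posGroup b (P i) i X).mp hX
    have h1 := hBt (matB b x) (Subgroup.mem_map_of_mem _ (hPN i hx))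
    rw [matB_val, hxX] at h1
    exact h1
  -- a non-zero entry
  obtain ⟨γ, δ, hγδ⟩ : ∃ γ δ, Bt γ δ ≠ 0 := by
    by_contra hcon
    push Not at hcon
    apply hBtdet
    have : Bt = 0 := by
      ext x y
      exact hcon x y
    rw [this, Matrix.det_zero]
  have hblk : ∀ i, FInv σ (posGroup b (P i) i) ((emb F i γ)ᵀ * Bt * emb F i δ) := by
    intro i X hX
    exact block_FInv σ i γ δ Bt _ (hpos i X hX)
  have hblk0 : ∀ i, (emb F i γ)ᵀ * Bt * emb F i δ ≠ 0 := by
    intro i h0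
    apply hγδ
    have := congrFun (congrFun h0 (γ i)) (δ i)
    rw [emb_block_apply, Function.update_eq_self, Function.update_eq_self] at this
    exact this
  have hblkdet : ∀ i, ((emb F i γ)ᵀ * Bt * emb F i δ).det ≠ 0 :=
    fun i => FInv_det_ne_zero σ (hSspan i) _ (hblk0 i) (hblk i)
  have hex : ∀ i, ∃ B' : GL (Fin m) F, FInv σ (posGroup b (P i) i) (B' : Matrix (Fin m) (Fin m) F) ∧
      Asch.star σ (B' : Matrix (Fin m) (Fin m) F) = (B' : Matrix (Fin m) (Fin m) F) := by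
    intro i
    exact exists_hermitian σ (sigma_sigma hF)
      (by obtain ⟨t, ht⟩ := exists_not_fixed hF; exact ⟨t, by rw [hσ, sigma_apply]; exact ht⟩)
      (hSspan i) (Matrix.GeneralLinearGroup.mkOfDetNeZero _ (hblkdet i)) (hblk i)
  choose B' hB'inv hB'herm using hex
  -- the pure tensor of the factor forms is invariant
  have hpt : FInv σ (N.map (matB b))
      ((ptGL B' : GL (Fin k → Fin m) F) : Matrix (Fin k → Fin m) (Fin k → Fin m) F) := by
    have h1 : N.map (matB b) =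
        Subgroup.closure ((matB b) '' (⋃ i, (P i : Set (GL (Fin n) F)))) := by
      rw [← hgen, MonoidHom.map_closure]
    rw [h1]
    apply FInv_closure
    rintro y ⟨x, hx, rfl⟩
    obtain ⟨i, hi⟩ := Set.mem_iUnion.mp hx
    obtain ⟨X, hX, hxX⟩ := exists_mem_posGroup hm b (P i) i (hb i).1 hi
    show Asch.star σ ((matB b x : GL (Fin k → Fin m) F) : Matrix (Fin k → Fin m) (Fin k → Fin m) F) *
      ptM (fun i => ((B' i : GL (Fin m) F) : Matrix (Fin m) (Fin m) F)) *
      ((matB b x : GL (Fin k → Fin m) F) : Matrix (Fin k → Fin m) (Fin k → Fin m) F) = _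
    rw [matB_val, hxX]
    exact FInv_ptM σ i _ _ (hB'inv i X hX)
  obtain ⟨c, hc⟩ := FInv_unique σ (span_matB b N hspan) (ptGL B') hpt hBt
  have hptval : ((ptGL B' : GL (Fin k → Fin m) F) : Matrix (Fin k → Fin m) (Fin k → Fin m) F) =
      ptM (fun i => ((B' i : GL (Fin m) F) : Matrix (Fin m) (Fin m) F)) := rfl
  rw [hptval] at hc
  have hB'e : ∀ i (x y : Fin m), σ ((B' i : Matrix (Fin m) (Fin m) F) y x) =
      (B' i : Matrix (Fin m) (Fin m) F) x y := by
    intro i x y
    have := congrFun (congrFun (hB'herm i) x) y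
    rw [Asch.star_apply] at this
    exact this
  have hptherm : ∀ x y, σ (ptM (fun i => ((B' i : GL (Fin m) F) : Matrix (Fin m) (Fin m) F)) y x) =
      ptM (fun i => ((B' i : GL (Fin m) F) : Matrix (Fin m) (Fin m) F)) x y := by
    intro x y
    rw [ptM_apply, ptM_apply, map_prod]
    exact Finset.prod_congr rfl fun i _ => hB'e i _ _
  have hc0 : c ≠ 0 := by
    intro h0
    apply hBtdet
    rw [hc, h0, zero_smul, Matrix.det_zero]
  have hcσ : σ c = c := by
    have h1 := hBtherm γ δ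
    rw [hc, Matrix.smul_apply, Matrix.smul_apply, smul_eq_mul, smul_eq_mul, map_mul, hptherm] at h1
    have h2 : ptM (fun i => ((B' i : GL (Fin m) F) : Matrix (Fin m) (Fin m) F)) γ δ ≠ 0 := by
      intro h0
      apply hγδ
      rw [hc, Matrix.smul_apply, h0, smul_zero]
    exact mul_right_cancel₀ h2 h1
  -- the factor Gram matrices
  let i₀ : Fin k := ⟨0, hk⟩
  obtain ⟨G, hG⟩ : ∃ G : Fin k → Matrix (Fin m) (Fin m) F,
      G = fun i => ((B' i : GL (Fin m) F) : Matrix (Fin m) (Fin m) F)ᵀ := ⟨_, rfl⟩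
  have hGherm : ∀ i x y, σ (G i y x) = G i x y := by
    intro i x y
    rw [hG]
    simp only [Matrix.transpose_apply]
    exact hB'e i y x
  have hGdet : ∀ i, (G i).det ≠ 0 := by
    intro i
    rw [hG]
    simp only [Matrix.det_transpose]
    exact ((Matrix.isUnit_iff_isUnit_det _).mp (B' i).isUnit).ne_zero
  obtain ⟨G', hG'⟩ : ∃ G' : Fin k → Matrix (Fin m) (Fin m) F,
      G' = Function.update G i₀ (c • G i₀) := ⟨_, rfl⟩
  have hgram : gramB q b = ptM G' := by
    have h1 : gramB q b = Btᵀ := by rw [hBtdef, Matrix.transpose_transpose]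
    rw [h1, hc, Matrix.transpose_smul, ptM_transpose, hG', ptM_update_smul, hG]
  have hG'herm : ∀ i x y, σ (G' i y x) = G' i x y := by
    intro i x y
    rw [hG']
    by_cases hi : i = i₀
    · subst hi
      simp only [Function.update_self]
      rw [Matrix.smul_apply, Matrix.smul_apply, smul_eq_mul, smul_eq_mul, map_mul, hcσ, hGherm]
    · simp only [Function.update_of_ne hi]
      exact hGherm i x y
  have hG'det : ∀ i, (G' i).det ≠ 0 := by
    intro i
    rw [hG']
    by_cases hi : i = i₀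
    · subst hi
      simp only [Function.update_self]
      rw [Matrix.det_smul]
      exact mul_ne_zero (pow_ne_zero _ hc0) (hGdet _)
    · simp only [Function.update_of_ne hi]
      exact hGdet i
  have hQex : ∀ i, ∃ Q : GL (Fin m) F, (Q : Matrix (Fin m) (Fin m) F)ᵀ * G' i *
      (Q : Matrix (Fin m) (Fin m) F).map σ = 1 :=
    fun i => exists_orthonormalizer hF m (G' i) (hG'herm i) (hG'det i)
  choose Q hQ using hQex
  refine ⟨newBasis b (ptGL Q), ?_, ?_⟩
  · rw [gramB_newBasis hF, hgram]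
    show (ptM (fun i => ((Q i : GL (Fin m) F) : Matrix (Fin m) (Fin m) F)))ᵀ * ptM G' *
      (ptM (fun i => ((Q i : GL (Fin m) F) : Matrix (Fin m) (Fin m) F))).map σ = 1
    rw [ptM_transpose, ptM_map, ptM_mul, ptM_mul]
    simp only [hQ]
    exact ptM_one
  · intro h hh
    obtain ⟨π, Us, hπU⟩ := hHb h hh
    refine ⟨π, fun i => (Q (π i))⁻¹ * Us i * Q i, ?_⟩
    rw [toMatrix_newBasis, hπU]
    show ptM (fun i => (((Q i)⁻¹ : GL (Fin m) F) : Matrix (Fin m) (Fin m) F)) * _ *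
      ptM (fun i => ((Q i : GL (Fin m) F) : Matrix (Fin m) (Fin m) F)) = _
    rw [← Matrix.mul_assoc, ptM_mul_facPerm, Matrix.mul_assoc, Matrix.mul_assoc, ptM_mul, ptM_mul]
    simp only [Units.val_mul, Matrix.mul_assoc]

end main

end Cfsg.Agent.Lib.Helper9.AschU
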