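import Mathlib
import Cfsg.Prelude
import Cfsg.Agent.Lib.Helper9.AschU20
import Cfsg.Agent.Lib.Helper5.SU2

set_option autoImplicit false
set_option linter.unusedSectionVars false
set_option linter.unusedVariables false
set_option linter.style.longLine false
set_option linter.unusedSimpArgs false
open Cfsg

namespace Cfsg.Agent.Lib.Helper9.AschU

open Module Matrix
open scoped Kronecker
open Cfsg.Geo
open Cfsg.Agent.Lib.Helper8.Asch
open Cfsg.Agent.Lib.Helper5 Cfsg.Agent.Lib.Helper8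
open Cfsg.Agent.Lib.Helper5.Herm
open Cfsg.Agent.Lib.Helper5.HermBridge (hermSesq hermSesq_apply hermSesq_nondegenerate sigma_apply sigma_sigma sigma_ne_id)
open Cfsg.Agent.Lib.Helper5.HermPair Cfsg.Agent.Lib.Helper5.HermPerp
open Cfsg.Agent.Lib.Helper5.SUSingularMax

variable {F : Type*} [Field F] {k m n : ℕ}

theorem wreath_newBasis (b : Basis (Fin k → Fin m) F (Fin n → F)) (Q : Fin k → GL (Fin m) F)
    (h : GL (Fin n) F) (π : Equiv.Perm (Fin k)) (Us : Fin k → GL (Fin m) F)
    (hπU : LinearMap.toMatrix b b (Matrix.toLin' (h : Matrix (Fin n) (Fin n) F)) =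
      facPerm m F π * ptM (fun i => ((Us i : GL (Fin m) F) : Matrix (Fin m) (Fin m) F))) :
    LinearMap.toMatrix (newBasis b (ptGL Q)) (newBasis b (ptGL Q))
        (Matrix.toLin' (h : Matrix (Fin n) (Fin n) F)) =
      facPerm m F π * ptM (fun i => (((Q (π i))⁻¹ * Us i * Q i : GL (Fin m) F) :
        Matrix (Fin m) (Fin m) F)) := by
  rw [toMatrix_newBasis, hπU]
  show ptM (fun i => (((Q i)⁻¹ : GL (Fin m) F) : Matrix (Fin m) (Fin m) F)) * _ *
    ptM (fun i => ((Q i : GL (Fin m) F) : Matrix (Fin m) (Fin m) F)) = _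
  rw [← Matrix.mul_assoc, ptM_mul_facPerm, Matrix.mul_assoc, Matrix.mul_assoc, ptM_mul, ptM_mul]
  simp only [Units.val_mul, Matrix.mul_assoc]

theorem mem_range_sup_scalars {ι : Type} [Fintype ι] [DecidableEq ι] (K : Subfield F) (g : GL ι F)
    (c : F) (hc : c ≠ 0) (hent : ∀ i j, c * (g : Matrix ι ι F) i j ∈ K) :
    g ∈ (Matrix.GeneralLinearGroup.map (K.subtype : K →+* F)).range ⊔ scalars ι F := by
  let z : GL ι F :=
    ⟨c⁻¹ • 1, c • 1, by rw [smul_mul_smul_comm, inv_mul_cancel₀ hc, Matrix.one_mul, one_smul],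
      by rw [smul_mul_smul_comm, mul_inv_cancel₀ hc, Matrix.one_mul, one_smul]⟩
  have hz : z ∈ scalars ι F := by
    rw [mem_scalars_iff]
    exact ⟨Units.mk0 c⁻¹ (inv_ne_zero hc), rfl⟩
  have hu : g * z⁻¹ ∈ (Matrix.GeneralLinearGroup.map (K.subtype : K →+* F)).range := by
    have hval : ((g * z⁻¹ : GL ι F) : Matrix ι ι F) = c • (g : Matrix ι ι F) := by
      rw [Units.val_mul]
      show (g : Matrix ι ι F) * (c • (1 : Matrix ι ι F)) = _
      rw [Matrix.mul_smul, Matrix.mul_one]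
    have hent' : ∀ i j, ((g * z⁻¹ : GL ι F) : Matrix ι ι F) i j ∈ K := by
      intro i j
      rw [hval, Matrix.smul_apply, smul_eq_mul]
      exact hent i j
    let u₀ : Matrix ι ι K := fun i j => ⟨_, hent' i j⟩
    have hu₀ : u₀.map (K.subtype : K →+* F) = ((g * z⁻¹ : GL ι F) : Matrix ι ι F) := by
      ext i j
      rfl
    have hdet : u₀.det ≠ 0 := by
      intro h0
      have h1 : (K.subtype : K →+* F) u₀.det = 0 := by rw [h0, map_zero]
      rw [RingHom.map_det] at h1
      have h2 : ((K.subtype : K →+* F).mapMatrix u₀) = u₀.map (K.subtype : K →+* F) := rfl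
      rw [h2, hu₀] at h1
      exact ((g * z⁻¹).isUnit.map Matrix.detMonoidHom).ne_zero h1
    refine ⟨Matrix.GeneralLinearGroup.mkOfDetNeZero u₀ hdet, ?_⟩
    apply Units.ext
    exact hu₀
  have : g = (g * z⁻¹) * z := by group
  rw [this]
  exact Subgroup.mul_mem_sup hu hz

section main
variable [Fintype F] {q : ℕ} (hF : Fintype.card F = q ^ 2)

/-- a matrix proportional to its conjugate is a scalar multiple of a matrix over the fixed field -/
theorem exists_scalar_rational {κ : Type} (g : Matrix κ κ F) (d : F)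
    (hg : ∀ i j, (g i j) ^ q = d * g i j) (hg0 : g ≠ 0) :
    ∃ c : F, c ≠ 0 ∧ ∀ i j, c * g i j ∈ Fq hF := by
  obtain ⟨a, b, hab⟩ : ∃ a b, g a b ≠ 0 := by
    by_contra hcon
    push Not at hcon
    apply hg0
    ext i j
    exact hcon i j
  have hd : d ≠ 0 := by
    intro h0
    have := hg a b
    rw [h0, zero_mul] at this
    exact hab (pow_eq_zero_iff (by have := two_le_q hF; omega) |>.mp this)
  refine ⟨(g a b)⁻¹, inv_ne_zero hab, fun i j => ?_⟩
  rw [mem_Fq, mul_pow, inv_pow, hg, hg]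
  field_simp

omit [Fintype F] in
theorem J2_mem (K : Subfield F) (a b : Fin 2) : J2 F a b ∈ K := by
  fin_cases a <;> fin_cases b <;> simp [J2]

omit [Fintype F] in
theorem Om_mem (K : Subfield F) (f g : Fin k → Fin 2) : Om k F f g ∈ K := by
  unfold Om
  rw [ptM_apply]
  exact Subfield.prod_mem _ fun i _ => J2_mem K _ _

include hF in
theorem class5_of_wreath_two (hk : 0 < k) {H : Subgroup (GL (Fin n) F)} (hH : H ≤ GU n F q)
    (b : Basis (Fin k → Fin 2) F (Fin n → F)) (hb : gramB q b = 1)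
    (hHb : ∀ h ∈ H, ∃ (π : Equiv.Perm (Fin k)) (Us : Fin k → GL (Fin 2) F),
      LinearMap.toMatrix b b (Matrix.toLin' (h : Matrix (Fin n) (Fin n) F)) =
        facPerm 2 F π * ptM (fun i => ((Us i : GL (Fin 2) F) : Matrix (Fin 2) (Fin 2) F))) :
    UC n F q H := by
  classical
  set σ := HermBridge.sigma hF with hσ
  have hσfun : (⇑σ : F → F) = (· ^ q) := funext (sigma_apply hF)
  obtain ⟨P₂, ε, hε0, hP₂⟩ := SU2.exists_P hF
  rw [← hσfun] at hP₂
  have hP₂det : P₂.det ≠ 0 := by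
    intro h0
    have h1 : (P₂ᵀ * P₂.map σ).det = 0 := by
      rw [Matrix.det_mul, Matrix.det_transpose, h0, zero_mul]
    rw [hP₂] at h1
    simp [SU2.gram, Matrix.det_fin_two] at h1
    exact hε0 h1
  obtain ⟨η, hη⟩ : ∃ η : F, η = -ε := ⟨_, rfl⟩
  have hη0 : η ≠ 0 := by rw [hη]; exact neg_ne_zero.mpr hε0
  have hgramη : SU2.gram ε = η • J2 F := by
    rw [hη]
    ext i j
    fin_cases i <;> fin_cases j <;> simp [SU2.gram, J2]
  have hηq : η ^ q = -η := by
    have h1 := gram_entry hF P₂ 0 1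
    rw [hP₂] at h1
    have h2 : SU2.gram ε 1 0 = ε := by simp [SU2.gram]
    have h3 : SU2.gram ε 0 1 = -ε := by simp [SU2.gram]
    rw [h2, h3] at h1
    rw [hη, ← sigma_apply hF, map_neg, h1]
  let Q₂ : GL (Fin 2) F := Matrix.GeneralLinearGroup.mkOfDetNeZero P₂ hP₂det
  obtain ⟨b₂, hb₂⟩ : ∃ b₂ : Basis (Fin k → Fin 2) F (Fin n → F),
      b₂ = newBasis b (ptGL (fun _ => Q₂)) := ⟨_, rfl⟩
  obtain ⟨Ω, hΩ⟩ : ∃ Ω : Matrix (Fin k → Fin 2) (Fin k → Fin 2) F, Ω = Om k F := ⟨_, rfl⟩
  have hgram₂ : gramB q b₂ = η ^ k • Ω := by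
    rw [hb₂, gramB_newBasis hF, hb]
    show (ptM (fun _ : Fin k => P₂))ᵀ * 1 * (ptM (fun _ : Fin k => P₂)).map σ = _
    rw [Matrix.mul_one, ptM_transpose, ptM_map, ptM_mul]
    simp only [hP₂, hgramη]
    rw [ptM_smul_family, Finset.prod_const, Finset.card_univ, Fintype.card_fin, hΩ]
    rfl
  have hΩi : Ω * ptM (fun _ : Fin k => -J2 F) = 1 := by rw [hΩ]; exact Om_mul_inv
  have hΩi' : ptM (fun _ : Fin k => -J2 F) * Ω = 1 := mul_eq_one_comm.mp hΩi
  -- every element is proportional to its conjugate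
  have hprop : ∀ h ∈ H, ∃ c : F, c ≠ 0 ∧ ∀ i j,
      c * ((matB b₂ h : GL (Fin k → Fin 2) F) : Matrix (Fin k → Fin 2) (Fin k → Fin 2) F) i j ∈
        Fq hF := by
    intro h hh
    obtain ⟨π, Us, hπU⟩ := hHb h hh
    have h1 := wreath_newBasis b (fun _ => Q₂) h π Us hπU
    rw [← hb₂] at h1
    obtain ⟨g, hg⟩ : ∃ g : Matrix (Fin k → Fin 2) (Fin k → Fin 2) F,
        g = ((matB b₂ h : GL (Fin k → Fin 2) F) : Matrix (Fin k → Fin 2) (Fin k → Fin 2) F) :=
      ⟨_, rfl⟩
    obtain ⟨gi, hgi⟩ : ∃ gi : Matrix (Fin k → Fin 2) (Fin k → Fin 2) F,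
        gi = (((matB b₂ h)⁻¹ : GL (Fin k → Fin 2) F) :
          Matrix (Fin k → Fin 2) (Fin k → Fin 2) F) := ⟨_, rfl⟩
    have hgig : gi * g = 1 := by rw [hg, hgi]; exact GLinvK _
    have hgit : giᵀ * gᵀ = 1 := by
      rw [← Matrix.transpose_mul]
      have : g * gi = 1 := by rw [hg, hgi]; exact GLmulK _
      rw [this, Matrix.transpose_one]
    have h2 := gramB_inv hF b₂ (hH hh)
    rw [← matB_val, ← hg, hgram₂] at h2
    have h3 : gᵀ * Ω * g.map σ = Ω := by
      rw [Matrix.mul_smul, Matrix.smul_mul] at h2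
      exact smul_right_injective _ (pow_ne_zero k hη0) h2
    obtain ⟨D, hD⟩ : ∃ D : F, D = ∏ i, (((Q₂⁻¹ * Us i * Q₂ : GL (Fin 2) F) :
        Matrix (Fin 2) (Fin 2) F)).det := ⟨_, rfl⟩
    have hD0 : D ≠ 0 := by
      rw [hD]
      refine Finset.prod_ne_zero_iff.mpr fun i _ => ?_
      exact ((Q₂⁻¹ * Us i * Q₂).isUnit.map Matrix.detMonoidHom).ne_zero
    have h4 : gᵀ * Ω * g = D • Ω := by
      rw [hg, matB_val, h1, hΩ, hD]
      exact Om_conj π _
    have hcancel : ∀ X Y : Matrix (Fin k → Fin 2) (Fin k → Fin 2) F, gᵀ * Ω * X = Y →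
        X = ptM (fun _ : Fin k => -J2 F) * giᵀ * Y := by
      intro X Y hXY
      rw [← hXY]
      calc X = (ptM (fun _ : Fin k => -J2 F) * Ω) * X := by rw [hΩi', Matrix.one_mul]
        _ = ptM (fun _ : Fin k => -J2 F) * ((giᵀ * gᵀ) * (Ω * X)) := by
            rw [hgit, Matrix.one_mul, Matrix.mul_assoc]
        _ = _ := by simp only [Matrix.mul_assoc]
    have h5 := hcancel _ _ h3
    have h6 := hcancel _ _ h4
    rw [Matrix.mul_smul, ← h5] at h6
    rw [← hg]
    refine exists_scalar_rational hF g D⁻¹ ?_ ?_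
    · intro i j
      have := congrFun (congrFun h6 i) j
      rw [Matrix.smul_apply, Matrix.map_apply, smul_eq_mul, sigma_apply] at this
      rw [eq_inv_mul_iff_mul_eq₀ hD0]
      exact this.symm
    · intro h0
      rw [h0, Matrix.mul_zero] at hgig
      exact zero_ne_one hgig
  -- the change of basis
  let e' : Fin n ≃ (Fin k → Fin 2) := Fintype.equivOfCardEq (card_of_basis b₂)
  obtain ⟨P, hP1, hP2⟩ := exists_basisGL b₂ e'
  have hsub : H ≤ subfieldSubgroup (Fq hF) P := by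
    intro h hh
    obtain ⟨c, hc0, hc⟩ := hprop h hh
    set S : Subgroup (GL (Fin k → Fin 2) F) :=
      ((Matrix.GeneralLinearGroup.map ((Fq hF).subtype : Fq hF →+* F)).range ⊔
        scalars (Fin n) F).comap (glReindex e'.symm).toMonoidHom with hS
    have hmem : matB b₂ h ∈ S := by
      rw [hS, Subgroup.mem_comap]
      refine mem_range_sup_scalars (Fq hF) _ c hc0 ?_
      intro i j
      exact hc (e' i) (e' j)
    have h1 := hP2 S h hmem
    unfold subfieldSubgroup
    refine Subgroup.map_mono ?_ h1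
    rw [hS]
    exact Subgroup.map_comap_le _ _
  have hform : ∀ x y : (Fin k → Fin 2) → F,
      hermForm n F q ((P : Matrix (Fin n) (Fin n) F) *ᵥ (x ∘ e'))
        ((P : Matrix (Fin n) (Fin n) F) *ᵥ (y ∘ e')) = η ^ k * gf σ Ω x y := by
    intro x y
    rw [hP1, hP1, herm_coord hF, hgram₂, gf_smul_mat]
  have hcomp : ∀ u : Fin n → F, (u ∘ e'.symm) ∘ e' = u := by
    intro u
    funext i
    simp
  have hσmem : ∀ v : (Fin k → Fin 2) → F, (∀ i, v i ∈ Fq hF) → ∀ i, σ (v i) ∈ Fq hF := by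
    intro v hv i
    rw [hσ, sigma_apply, (hv i : v i ^ q = v i)]
    exact hv i
  have hformrat : ∀ ζ : F, ζ * η ^ k ∈ Fq hF →
      IsFormRationalStructure (hermForm n F q) (Fq hF) ζ P := by
    intro ζ hζ u v hu hv
    have h1 := hform (u ∘ e'.symm) (v ∘ e'.symm)
    rw [hcomp, hcomp] at h1
    rw [h1, ← mul_assoc]
    refine gf_mem_subfield (Fq hF) σ Ω (ζ * η ^ k) ?_ _ _ (fun i => hu _) (hσmem _ (fun i => hv _))
    intro i j
    rw [hΩ]
    exact (Fq hF).mul_mem hζ (Om_mem _ _ _)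
  have hηk : (η ^ k) ^ q = (-1) ^ k * η ^ k := by
    rw [← pow_mul, mul_comm, pow_mul, hηq, neg_pow]
  by_cases hs : ((-1 : F)) ^ k = -1
  · -- the form is alternating on the rational structure
    have hev : Even n := by
      have h1 := card_of_basis b₂
      rw [Fintype.card_fin, Fintype.card_fun, Fintype.card_fin, Fintype.card_fin] at h1
      rw [h1]
      exact Nat.even_pow.mpr ⟨even_two, hk.ne'⟩
    have hsk : ∀ a b, Ω a b + Ω b a = 0 := by
      intro a b
      have h1 : Ωᵀ = ((-1 : F) ^ k) • Ω := by rw [hΩ]; exact Om_transpose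
      have h2 := congrFun (congrFun h1 a) b
      rw [Matrix.transpose_apply, Matrix.smul_apply, hs, smul_eq_mul] at h2
      rw [h2]
      ring
    have hdiag : ∀ a, Ω a a = 0 := by
      intro a
      rw [hΩ]
      exact Om_diag hk a
    refine UC_C5c hH (Fq hF) P (η ^ k) hev (card_F_eq hF) (pow_ne_zero k hη0) ?_
      (hformrat _ ?_) ?_ hsub
    · rw [hηk, hs]
      ring
    · rw [mem_Fq, mul_pow, hηk, hs]
      ring
    · intro u hu
      have h1 := hform (u ∘ e'.symm) (u ∘ e'.symm)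
      rw [hcomp] at h1
      rw [h1]
      have hrat : σ ∘ (u ∘ e'.symm) = (RingHom.id F) ∘ (u ∘ e'.symm) := by
        funext i
        simp only [Function.comp, hσ, sigma_apply, RingHom.id_apply]
        exact hu _
      have h2 : gf σ Ω (u ∘ e'.symm) (u ∘ e'.symm) =
          gf (RingHom.id F) Ω (u ∘ e'.symm) (u ∘ e'.symm) := by
        unfold gf
        rw [hrat]
      rw [h2, gf_alt Ω hsk hdiag, mul_zero]
  · -- the form is symmetric on the rational structure
    have hkev : Even k := by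
      rcases Nat.even_or_odd k with h | h
      · exact h
      · exact absurd h.neg_one_pow hs
    have hs1 : ((-1 : F)) ^ k = 1 := hkev.neg_one_pow
    have hodd : Odd q := by
      by_contra hq
      have h2 : (2 : F) = 0 := by
        apply two_eq_zero_of_not_odd
        rw [hF]
        intro hodd
        exact hq (Nat.Odd.of_mul_right (by rwa [sq] at hodd))
      apply hs
      rw [hs1]
      have : (1 : F) + 1 = 0 := by
        have h3 : (1 : F) + 1 = 2 := by norm_num
        rw [h3, h2]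
      exact eq_neg_of_add_eq_zero_left this
    refine UC_C5b hH (Fq hF) P hodd (card_F_eq hF) (hformrat 1 ?_) hsub
    rw [one_mul, mem_Fq, hηk, hs1, one_mul]

end main

end Cfsg.Agent.Lib.Helper9.AschU
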