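import Mathlib
import Cfsg.Prelude
import Cfsg.Agent.Lib.Helper9.AschU21

set_option autoImplicit false
set_option linter.unusedSectionVars false
set_option linter.unusedVariables false
set_option linter.style.longLine false
set_option linter.unusedSimpArgs false
open Cfsg

namespace Cfsg.Agent.Lib.Helper9.AschU

open Module Matrix
open scoped Kronecker
open Cfsg.Geo
open Cfsg.Agent.Lib.Helper8.Asch
open Cfsg.Agent.Lib.Helper5 Cfsg.Agent.Lib.Helper8
open Cfsg.Agent.Lib.Helper5.Herm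
open Cfsg.Agent.Lib.Helper5.HermBridge (hermSesq hermSesq_apply hermSesq_nondegenerate sigma_apply sigma_sigma sigma_ne_id)
open Cfsg.Agent.Lib.Helper5.HermPair Cfsg.Agent.Lib.Helper5.HermPerp
open Cfsg.Agent.Lib.Helper5.SUSingularMax

variable {F : Type*} [Field F] [Fintype F] {q : ℕ} (hF : Fintype.card F = q ^ 2) {n : ℕ}

/-- the exceptional case `(q, k) = (2, 3)`, as a hypothesis -/
def Exc23 (q : ℕ) (H : Subgroup (GL (Fin n) F)) : Prop :=
  q = 2 → ∀ (t : ℕ), 0 < t → ∀ b : Basis (Fin t → Fin 3) F (Fin n → F), gramB q b = 1 →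
    (∀ h ∈ H, ∃ (π : Equiv.Perm (Fin t)) (Us : Fin t → GL (Fin 3) F),
      LinearMap.toMatrix b b (Matrix.toLin' (h : Matrix (Fin n) (Fin n) F)) =
        facPerm 3 F π * ptM (fun i => ((Us i : GL (Fin 3) F) : Matrix (Fin 3) (Fin 3) F))) →
    UC n F q H

omit [Fintype F] in
theorem gramB_reindex {κ κ' : Type} [Fintype κ] [DecidableEq κ] [Fintype κ'] [DecidableEq κ']
    (b : Basis κ F (Fin n → F)) (ε : κ ≃ κ') (hb : gramB q b = 1) :
    gramB q (b.reindex ε) = 1 := by
  ext x y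
  unfold gramB
  rw [Basis.reindex_apply, Basis.reindex_apply]
  have := congrFun (congrFun hb (ε.symm x)) (ε.symm y)
  unfold gramB at this
  rw [this, Matrix.one_apply, Matrix.one_apply]
  simp only [EmbeddingLike.apply_eq_iff_eq]

include hF in
theorem UC_of_wreath {H : Subgroup (GL (Fin n) F)} (hH : H ≤ GU n F q) (k m : ℕ)
    (hk : 2 ≤ k) (hm : 2 ≤ m) (b : Basis (Fin k → Fin m) F (Fin n → F)) (hb : gramB q b = 1)
    (hHb : ∀ h ∈ H, ∃ (π : Equiv.Perm (Fin k)) (Us : Fin k → GL (Fin m) F),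
      LinearMap.toMatrix b b (Matrix.toLin' (h : Matrix (Fin n) (Fin n) F)) =
        facPerm m F π * ptM (fun i => ((Us i : GL (Fin m) F) : Matrix (Fin m) (Fin m) F)))
    (h23 : Exc23 q H) : UC n F q H := by
  by_cases hm2 : m = 2
  · subst hm2
    exact class5_of_wreath_two hF (by omega) hH b hb hHb
  · by_cases hq : q = 2 ∧ m = 3
    · obtain ⟨hq2, hm3⟩ := hq
      subst hm3
      exact h23 hq2 k (by omega) b hb hHb
    · refine UC_C7_of_basis hF hH m k (by omega) hk hq b hb ?_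
      intro h hh
      obtain ⟨π, Us, e⟩ := hHb h hh
      exact mem_wreathStandard _ π Us (by rw [matB_val]; exact e)

include hF in
theorem UC_of_tensor (hn : 3 ≤ n) {H N : Subgroup (GL (Fin n) F)} (hH : H ≤ GU n F q)
    (hN : N ≤ GU n F q) (hNZ : ¬ N ≤ scalars (Fin n) F) (a e : ℕ)
    (b : Basis (Fin a × Fin e) F (Fin n → F))
    (hb1 : ∀ x ∈ algOf (HV N), ∃ X : Matrix (Fin a) (Fin a) F,
      LinearMap.toMatrix b b x = X ⊗ₖ (1 : Matrix (Fin e) (Fin e) F))
    (hb2 : ∀ X : Matrix (Fin a) (Fin a) F, ∃ x ∈ algOf (HV N),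
      LinearMap.toMatrix b b x = X ⊗ₖ (1 : Matrix (Fin e) (Fin e) F))
    (hHb : ∀ h ∈ H, ∃ (U : GL (Fin a) F) (Γ : GL (Fin e) F),
      LinearMap.toMatrix b b (Matrix.toLin' (h : Matrix (Fin n) (Fin n) F)) =
        (U : Matrix (Fin a) (Fin a) F) ⊗ₖ (Γ : Matrix (Fin e) (Fin e) F))
    (h23 : Exc23 q H) : UC n F q H ∨ Submodule.span F (mset N) = ⊤ := by
  have hcard : n = a * e := by
    have h1 := Module.finrank_eq_card_basis b
    rw [Module.finrank_fin_fun, Fintype.card_prod, Fintype.card_fin, Fintype.card_fin] at h1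
    exact h1
  have ha0 : a ≠ 0 := by rintro rfl; omega
  have he0 : e ≠ 0 := by rintro rfl; omega
  by_cases ha1 : a = 1
  · exfalso
    apply hNZ
    subst ha1
    intro g hg
    obtain ⟨X, hX⟩ := hb1 _ (mem_algOf (mem_HV hg))
    rw [toV_val] at hX
    have h1 : X ⊗ₖ (1 : Matrix (Fin e) (Fin e) F) = (X 0 0) • (1 : Matrix (Fin 1 × Fin e) _ F) := by
      ext ⟨i, j⟩ ⟨i', j'⟩
      rw [Matrix.kroneckerMap_apply, Matrix.smul_apply, Matrix.one_apply, Matrix.one_apply,
        Subsingleton.elim i 0, Subsingleton.elim i' 0]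
      simp only [Prod.mk.injEq, true_and, smul_eq_mul]
    have h2 : Matrix.toLin' (g : Matrix (Fin n) (Fin n) F) =
        (X 0 0) • (1 : Module.End F (Fin n → F)) := by
      apply (LinearMap.toMatrix b b).injective
      rw [hX, h1, map_smul]
      congr 1
      exact (LinearMap.toMatrix_one b).symm
    have h3 : (g : Matrix (Fin n) (Fin n) F) = (X 0 0) • (1 : Matrix (Fin n) (Fin n) F) := by
      apply Matrix.toLin'.injective
      rw [h2, map_smul, Matrix.toLin'_one]
      rfl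
    have hc : X 0 0 ≠ 0 := by
      intro h0
      rw [h0, zero_smul] at h3
      have : (1 : Matrix (Fin n) (Fin n) F) = 0 := by
        rw [← Units.inv_mul g, h3, mul_zero]
      have hne : Nonempty (Fin n) := ⟨⟨0, by omega⟩⟩
      exact one_ne_zero this
    rw [mem_scalars_iff]
    exact ⟨Units.mk0 _ hc, h3⟩
  by_cases he1 : e = 1
  · right
    subst he1
    rw [eq_top_iff]
    intro M _
    rw [← mem_algOf_HV_iff]
    set Y := LinearMap.toMatrix b b (Matrix.toLin' M) with hY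
    obtain ⟨x, hx, hxX⟩ := hb2 (Matrix.of fun i i' => Y (i, 0) (i', 0))
    have : x = Matrix.toLin' M := by
      apply (LinearMap.toMatrix b b).injective
      rw [hxX, ← hY]
      ext ⟨i, j⟩ ⟨i', j'⟩
      rw [Subsingleton.elim j 0, Subsingleton.elim j' 0]
      simp only [Matrix.kroneckerMap_apply, Matrix.of_apply, Matrix.one_apply_eq, mul_one]
    rw [← this]
    exact hx
  left
  have ha2 : 2 ≤ a := by omega
  have he2 : 2 ≤ e := by omega
  obtain ⟨b', hb', hHb'⟩ := tensor_orthonormal hF (by omega) (by omega) H N hH hN b hb1 hb2 hHb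
  rcases lt_trichotomy a e with hlt | heq | hgt
  · refine UC_C4_of_basis hF hH a e ha2 hlt b' hb' ?_
    intro h hh
    obtain ⟨U, Γ, hUΓ⟩ := hHb' h hh
    exact ⟨U, Γ, by rw [matB_val]; exact hUΓ⟩
  · subst heq
    let ε : Fin a × Fin a ≃ (Fin 2 → Fin a) := (finTwoArrowEquiv (Fin a)).symm
    refine UC_of_wreath hF hH 2 a (le_refl _) ha2 (b'.reindex ε) (gramB_reindex b' ε hb') ?_ h23
    intro h hh
    obtain ⟨U, Γ, hUΓ⟩ := hHb' h hh
    refine ⟨1, ![U, Γ], ?_⟩
    rw [facPerm_one, one_mul]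
    ext f g
    rw [toMatrix_reindex, hUΓ, ptM_apply, Fin.prod_univ_two]
    rfl
  · let ε : Fin a × Fin e ≃ Fin e × Fin a := Equiv.prodComm _ _
    refine UC_C4_of_basis hF hH e a he2 hgt (b'.reindex ε) (gramB_reindex b' ε hb') ?_
    intro h hh
    obtain ⟨U, Γ, hUΓ⟩ := hHb' h hh
    refine ⟨Γ, U, ?_⟩
    rw [matB_val]
    ext ⟨p, r⟩ ⟨p', r'⟩
    rw [toMatrix_reindex, hUΓ, Matrix.kroneckerMap_apply]
    show (U : Matrix (Fin a) (Fin a) F) r r' * (Γ : Matrix (Fin e) (Fin e) F) p p' = _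
    rw [mul_comm]
    rfl

end Cfsg.Agent.Lib.Helper9.AschU
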