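import Mathlib
import Cfsg.Prelude
import Cfsg.Agent.Lib.Helper9.AschU22
import Cfsg.Agent.Lib.Helper8.AschZ1

set_option autoImplicit false
set_option linter.unusedSectionVars false
set_option linter.unusedVariables false
set_option linter.style.longLine false
set_option linter.unusedSimpArgs false
open Cfsg

namespace Cfsg.Agent.Lib.Helper9.AschU

open Module Matrix
open scoped Kronecker
open scoped commutatorElement
open Cfsg.Geo
open Cfsg.Agent.Lib.Helper8.Asch
open Cfsg.Agent.Lib.Helper5 Cfsg.Agent.Lib.Helper8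
open Cfsg.Agent.Lib.Helper5.Herm
open Cfsg.Agent.Lib.Helper5.HermBridge (hermSesq hermSesq_apply hermSesq_nondegenerate sigma_apply sigma_sigma sigma_ne_id)
open Cfsg.Agent.Lib.Helper5.HermPair Cfsg.Agent.Lib.Helper5.HermPerp
open Cfsg.Agent.Lib.Helper5.SUSingularMax

variable {F : Type*} [Field F] [Fintype F] {q : ℕ} (hF : Fintype.card F = q ^ 2) {n : ℕ}

include hF in
/-- the subgroup structure theorem for the unitary groups, modulo the exceptional case -/
theorem main_U (hn : 3 ≤ n) (H : Subgroup (GL (Fin n) F)) (hH : H ≤ GU n F q)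
    (h23 : Exc23 q H) : UC n F q H ∨ InUnitaryResidualClass H := by
  classical
  by_cases hirr : Irr (HV H)
  swap
  · left
    exact class_of_reducible hF hn H hH hirr
  have hHZ : ¬ H ≤ Zs (Fin n) F := not_le_scalars_of_irr (by omega) H hirr
  haveI : Nonempty (Fin n) := ⟨⟨0, by omega⟩⟩
  haveI : Nontrivial (Fin n → F) := Function.nontrivial
  obtain ⟨N, hN⟩ := exists_minNC H (Zs (Fin n) F) hHZ
  have hNGU : N ≤ GU n F q := hN.le.trans hH
  have hA : ∀ u ∈ HV H, Nrm (algOf (HV N)) u := Nrm_algOf_HV hN.inv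
  rcases clifford_fi (HV H) hirr (algOf (HV N)) hA with hiso | hcl
  swap
  · left
    exact class_of_nonisotypic hF H N hH hNGU hirr hcl
  haveI ss : IsSemisimpleModule (algOf (HV N)) (Fin n → F) :=
    clifford_semisimple (HV H) hirr (algOf (HV N)) hA
  by_cases hZ : ∀ z ∈ ZC (algOf (HV N)), ∃ c : F, z = c • (1 : Module.End F (Fin n → F))
  swap
  · left
    push Not at hZ
    exact class_of_field hF H N hH hNGU (by omega) hA hiso hZ
  obtain ⟨a, e, b, hb1, hb2⟩ := tensor_basis (algOf (HV N)) hiso hZ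
  have hbH : ∀ h ∈ H, ∃ (U : GL (Fin a) F) (Γ : GL (Fin e) F),
      LinearMap.toMatrix b b (Matrix.toLin' (h : Matrix (Fin n) (Fin n) F)) =
        (U : Matrix (Fin a) (Fin a) F) ⊗ₖ (Γ : Matrix (Fin e) (Fin e) F) := by
    have hne : Nonempty (Fin a × Fin e) := b.index_nonempty
    have hna : Nonempty (Fin a) := ⟨hne.some.1⟩
    have hnb : Nonempty (Fin e) := ⟨hne.some.2⟩
    intro h hh
    have key := kron_of_normalizes (glMat b (toV h)) (by
      intro X
      obtain ⟨x, hx, hxX⟩ := hb2 X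
      obtain ⟨X', hX'⟩ := hb1 _ (hA (toV h) (mem_HV hh) x hx)
      refine ⟨X', ?_⟩
      rw [← hX', ← hxX, ← map_inv, glMat_val, glMat_val, LinearMap.toMatrix_mul,
        LinearMap.toMatrix_mul])
    obtain ⟨U, Γ, hUΓ⟩ := key
    refine ⟨U, Γ, ?_⟩
    rw [← hUΓ, glMat_val, toV_val]
  have hNZ : ¬ N ≤ scalars (Fin n) F := by
    rw [← Zs_eq_scalars]
    exact hN.not_le
  rcases UC_of_tensor hF hn hH hNGU hNZ a e b hb1 hb2 hbH h23 with hM | hspan
  · left
    exact hM
  rcases comm_dichotomy hN with hc | hperf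
  · left
    exact caseA_U hF hn hH ⟨hN, hc, hspan⟩
  rcases caseB_structure Zs_le_center hN hperf with hmin |
    ⟨k, P, hk, -, hPN, -, hcomm, hgen, hperm, htrans⟩
  · rw [Zs_eq_scalars] at hmin
    exact caseB_one_U hF hn H N hH hN.le hN.inv hspan hperf hmin
  · left
    obtain ⟨m, b₁, hm, hb₁, hHb₁⟩ :=
      wreath_data (by omega) H N hspan k P hk hPN hcomm hgen hperm htrans
    obtain ⟨b₂, hb₂, hHb₂⟩ :=
      wreath_orthonormal hF hm (by omega) H N hH hNGU hspan P hPN hgen b₁ hb₁ hHb₁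
    have hm2 : 2 ≤ m := by
      by_contra hlt
      have hm1 : m = 1 := by omega
      subst hm1
      have h1 := card_of_basis b₂
      rw [Fintype.card_fin, Fintype.card_fun, Fintype.card_fin, Fintype.card_fin, one_pow] at h1
      omega
    exact UC_of_wreath hF hH k m hk hm2 b₂ hb₂ hHb₂ h23

end Cfsg.Agent.Lib.Helper9.AschU
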