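import Mathlib
import Cfsg.Prelude
import Cfsg.Agent.Lib.Helper9.AschU23

set_option autoImplicit false
set_option linter.unusedSectionVars false
set_option linter.unusedVariables false
set_option linter.style.longLine false
set_option linter.unusedSimpArgs false
open Cfsg

namespace Cfsg.Agent.Lib.Helper9.AschU

open Module Matrix
open scoped Kronecker
open scoped commutatorElement
open Cfsg.Geo
open Cfsg.Agent.Lib.Helper8.Asch
open Cfsg.Agent.Lib.Helper5 Cfsg.Agent.Lib.Helper8

variable {F : Type*} [Field F] {k m : ℕ}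

/-- pure tensors, as a homomorphism -/
def ptHom (k m : ℕ) (F : Type*) [Field F] : (Fin k → GL (Fin m) F) →* GL (Fin k → Fin m) F where
  toFun := ptGL
  map_one' := by
    apply Units.ext
    show ptM (fun i => (((1 : Fin k → GL (Fin m) F) i : GL (Fin m) F) : Matrix (Fin m) (Fin m) F)) = 1
    simp only [Pi.one_apply, Units.val_one]
    exact ptM_one
  map_mul' Us Vs := by
    apply Units.ext
    show ptM (fun i => (((Us * Vs) i : GL (Fin m) F) : Matrix (Fin m) (Fin m) F)) =
      ptM (fun i => ((Us i : GL (Fin m) F) : Matrix (Fin m) (Fin m) F)) *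
        ptM (fun i => ((Vs i : GL (Fin m) F) : Matrix (Fin m) (Fin m) F))
    rw [ptM_mul]
    simp only [Pi.mul_apply, Units.val_mul]

theorem ptHom_val (Us : Fin k → GL (Fin m) F) :
    ((ptHom k m F Us : GL (Fin k → Fin m) F) : Matrix (Fin k → Fin m) (Fin k → Fin m) F) =
      ptM (fun i => ((Us i : GL (Fin m) F) : Matrix (Fin m) (Fin m) F)) := rfl

theorem posHom_eq_ptHom (i : Fin k) (X : GL (Fin m) F) :
    posHom k m F i X = ptHom k m F (Function.update 1 i X) := by
  apply Units.ext
  rw [posHom_val, ptHom_val]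
  unfold posMat
  congr 1
  funext j
  by_cases hj : j = i
  · subst hj
    rw [Function.update_self, Function.update_self]
  · rw [Function.update_of_ne hj, Function.update_of_ne hj]
    rfl

theorem posHom_injective (hm : 0 < m) (i : Fin k) : Function.Injective (posHom k m F i) := by
  intro X Y hXY
  apply Units.ext
  apply posMat_injective hm i
  rw [← posHom_val, ← posHom_val, hXY]

/-- a pure tensor of scalars is a scalar -/
theorem ptHom_mem_Zs (xs : Fin k → GL (Fin m) F) (h : ∀ i, xs i ∈ Zs (Fin m) F) :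
    ptHom k m F xs ∈ Zs (Fin k → Fin m) F := by
  choose c hc using fun i => mem_Zs.mp (h i)
  rw [mem_Zs]
  refine ⟨∏ i, c i, ?_⟩
  rw [ptHom_val]
  simp only [hc]
  rw [ptM_smul_family, ptM_one, Units.coe_prod]

/-- the tensor power of a subgroup -/
def heisR (E : Subgroup (GL (Fin m) F)) (k : ℕ) : Subgroup (GL (Fin k → Fin m) F) :=
  (Subgroup.pi Set.univ (fun _ : Fin k => E)).map (ptHom k m F)

theorem mem_heisR {E : Subgroup (GL (Fin m) F)} {g : GL (Fin k → Fin m) F} :
    g ∈ heisR E k ↔ ∃ xs : Fin k → GL (Fin m) F, (∀ i, xs i ∈ E) ∧ ptHom k m F xs = g := by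
  unfold heisR
  rw [Subgroup.mem_map]
  constructor
  · rintro ⟨xs, hxs, rfl⟩
    exact ⟨xs, fun i => (Subgroup.mem_pi _).mp hxs i (Set.mem_univ i), rfl⟩
  · rintro ⟨xs, hxs, rfl⟩
    exact ⟨xs, (Subgroup.mem_pi _).mpr (fun i _ => hxs i), rfl⟩

theorem ptHom_mem_heisR {E : Subgroup (GL (Fin m) F)} (xs : Fin k → GL (Fin m) F)
    (h : ∀ i, xs i ∈ E) : ptHom k m F xs ∈ heisR E k := mem_heisR.mpr ⟨xs, h, rfl⟩

theorem posHom_mem_heisR {E : Subgroup (GL (Fin m) F)} (i : Fin k) {x : GL (Fin m) F} (hx : x ∈ E) :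
    posHom k m F i x ∈ heisR E k := by
  rw [posHom_eq_ptHom]
  apply ptHom_mem_heisR
  intro j
  by_cases hj : j = i
  · subst hj
    rw [Function.update_self]
    exact hx
  · rw [Function.update_of_ne hj]
    exact E.one_mem

theorem heisR_comm {E : Subgroup (GL (Fin m) F)}
    (hE : ∀ x ∈ E, ∀ y ∈ E, ⁅x, y⁆ ∈ Zs (Fin m) F) :
    ∀ x ∈ heisR E k, ∀ y ∈ heisR E k, ⁅x, y⁆ ∈ Zs (Fin k → Fin m) F := by
  intro x hx y hy
  obtain ⟨xs, hxs, rfl⟩ := mem_heisR.mp hx
  obtain ⟨ys, hys, rfl⟩ := mem_heisR.mp hy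
  rw [← map_commutatorElement]
  apply ptHom_mem_Zs
  intro i
  exact hE _ (hxs i) _ (hys i)

theorem heisR_pow {E : Subgroup (GL (Fin m) F)} (r : ℕ) (hE : ∀ x ∈ E, x ^ r = 1) :
    ∀ x ∈ heisR E k, x ^ r = 1 := by
  intro x hx
  obtain ⟨xs, hxs, rfl⟩ := mem_heisR.mp hx
  rw [← map_pow]
  have : xs ^ r = 1 := by
    funext i
    rw [Pi.pow_apply, hE _ (hxs i)]
    rfl
  rw [this, map_one]

theorem Zs_le_heisR (hk : 0 < k) {E : Subgroup (GL (Fin m) F)} (hE : Zs (Fin m) F ≤ E) :
    Zs (Fin k → Fin m) F ≤ heisR E k := by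
  intro g hg
  obtain ⟨c, hc⟩ := mem_Zs.mp hg
  let z : GL (Fin m) F :=
    ⟨(c : F) • 1, ((c⁻¹ : Fˣ) : F) • 1, by
      rw [smul_mul_smul_comm, Matrix.one_mul, ← Units.val_mul, mul_inv_cancel, Units.val_one,
        one_smul], by
      rw [smul_mul_smul_comm, Matrix.one_mul, ← Units.val_mul, inv_mul_cancel, Units.val_one,
        one_smul]⟩
  have hz : z ∈ Zs (Fin m) F := mem_Zs.mpr ⟨c, rfl⟩
  have : g = posHom k m F ⟨0, hk⟩ z := by
    apply Units.ext
    rw [hc, posHom_val]
    show _ = posMat _ ((c : F) • (1 : Matrix (Fin m) (Fin m) F))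
    rw [posMat_smul, posMat_one]
  rw [this]
  exact posHom_mem_heisR _ (hE hz)

/-- the span of a group of matrices is closed under multiplication -/
theorem span_mset_mul {ι : Type} [Fintype ι] [DecidableEq ι] (N : Subgroup (GL ι F))
    {A B : Matrix ι ι F} (hA : A ∈ Submodule.span F (mset N)) (hB : B ∈ Submodule.span F (mset N)) :
    A * B ∈ Submodule.span F (mset N) := by
  induction hA using Submodule.span_induction with
  | mem A hA =>
    obtain ⟨x, hx, rfl⟩ := hA
    induction hB using Submodule.span_induction with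
    | mem B hB =>
      obtain ⟨y, hy, rfl⟩ := hB
      apply Submodule.subset_span
      exact ⟨x * y, N.mul_mem hx hy, Units.val_mul x y⟩
    | zero => rw [Matrix.mul_zero]; exact Submodule.zero_mem _
    | add B₁ B₂ _ _ h₁ h₂ => rw [Matrix.mul_add]; exact Submodule.add_mem _ h₁ h₂
    | smul c B₁ _ h₁ => rw [Matrix.mul_smul]; exact Submodule.smul_mem _ _ h₁
  | zero => rw [Matrix.zero_mul]; exact Submodule.zero_mem _
  | add A₁ A₂ _ _ h₁ h₂ => rw [Matrix.add_mul]; exact Submodule.add_mem _ h₁ h₂
  | smul c A₁ _ h₁ => rw [Matrix.smul_mul]; exact Submodule.smul_mem _ _ h₁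

theorem posMat_mem_span {E : Subgroup (GL (Fin m) F)} (hE : Submodule.span F (mset E) = ⊤)
    (i : Fin k) (X : Matrix (Fin m) (Fin m) F) :
    posMat i X ∈ Submodule.span F (mset (heisR E k)) := by
  have hX : X ∈ Submodule.span F (mset E) := by rw [hE]; trivial
  induction hX using Submodule.span_induction with
  | mem X hX =>
    obtain ⟨x, hx, rfl⟩ := hX
    apply Submodule.subset_span
    exact ⟨posHom k m F i x, posHom_mem_heisR i hx, rfl⟩
  | zero => rw [posMat_zero]; exact Submodule.zero_mem _
  | add X₁ X₂ _ _ h₁ h₂ => rw [posMat_add]; exact Submodule.add_mem _ h₁ h₂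
  | smul c X₁ _ h₁ => rw [posMat_smul]; exact Submodule.smul_mem _ _ h₁

theorem ptM_mem_span {E : Subgroup (GL (Fin m) F)} (hE : Submodule.span F (mset E) = ⊤)
    (Xs : Fin k → Matrix (Fin m) (Fin m) F) :
    ptM Xs ∈ Submodule.span F (mset (heisR E k)) := by
  classical
  have key : ∀ s : Finset (Fin k),
      ptM (fun i => if i ∈ s then Xs i else 1) ∈ Submodule.span F (mset (heisR E k)) := by
    intro s
    induction s using Finset.induction_on with
    | empty =>
      simp only [Finset.notMem_empty, if_false]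
      rw [ptM_one]
      apply Submodule.subset_span
      exact ⟨1, Subgroup.one_mem _, rfl⟩
    | insert a s ha ih =>
      have h1 : ptM (fun i => if i ∈ insert a s then Xs i else 1) =
          posMat a (Xs a) * ptM (fun i => if i ∈ s then Xs i else 1) := by
        unfold posMat
        rw [ptM_mul]
        congr 1
        funext i
        by_cases hi : i = a
        · subst hi
          rw [Function.update_self, if_pos (Finset.mem_insert_self _ _), if_neg ha, Matrix.mul_one]
        · rw [Function.update_of_ne hi, Matrix.one_mul]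
          by_cases his : i ∈ s
          · rw [if_pos his, if_pos (Finset.mem_insert_of_mem his)]
          · rw [if_neg his, if_neg]
            intro hcon
            rcases Finset.mem_insert.mp hcon with h | h
            · exact hi h
            · exact his h
      rw [h1]
      exact span_mset_mul _ (posMat_mem_span hE a _) ih
  have := key Finset.univ
  simp only [Finset.mem_univ, if_true] at this
  exact this

theorem heisR_span {E : Subgroup (GL (Fin m) F)} (hE : Submodule.span F (mset E) = ⊤) :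
    Submodule.span F (mset (heisR E k)) = ⊤ := by
  classical
  rw [eq_top_iff]
  intro M _
  rw [Matrix.matrix_eq_sum_single M]
  refine Submodule.sum_mem _ fun f _ => Submodule.sum_mem _ fun g _ => ?_
  have h1 : Matrix.single f g (M f g) =
      M f g • ptM (fun i => Matrix.single (f i) (g i) (1 : F)) := by
    ext f' g'
    rw [Matrix.smul_apply, ptM_apply, Matrix.single_apply]
    by_cases hfg : f = f' ∧ g = g'
    · obtain ⟨rfl, rfl⟩ := hfg
      rw [if_pos ⟨rfl, rfl⟩]
      simp
    · rw [if_neg hfg]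
      have : ∃ i, ¬ (f i = f' i ∧ g i = g' i) := by
        by_contra hcon
        push Not at hcon
        exact hfg ⟨funext fun i => (hcon i).1, funext fun i => (hcon i).2⟩
      obtain ⟨i, hi⟩ := this
      rw [Finset.prod_eq_zero (Finset.mem_univ i), smul_zero]
      rw [Matrix.single_apply, if_neg hi]
  rw [h1]
  exact Submodule.smul_mem _ _ (ptM_mem_span hE _)

end Cfsg.Agent.Lib.Helper9.AschU
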