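import Mathlib
import Cfsg.Prelude
import Cfsg.Agent.Lib.Helper9.AschU24

set_option autoImplicit false
set_option linter.unusedSectionVars false
set_option linter.unusedVariables false
set_option linter.style.longLine false
set_option linter.unusedSimpArgs false
open Cfsg

namespace Cfsg.Agent.Lib.Helper9.AschU

open Module Matrix
open scoped Kronecker
open scoped commutatorElement
open Cfsg.Geo
open Cfsg.Agent.Lib.Helper8.Asch
open Cfsg.Agent.Lib.Helper5 Cfsg.Agent.Lib.Helper8
open Cfsg.Agent.Lib.Helper5.Herm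
open Cfsg.Agent.Lib.Helper5.HermBridge (hermSesq hermSesq_apply hermSesq_nondegenerate sigma_apply sigma_sigma sigma_ne_id)

variable {F : Type*} [Field F] {k m : ℕ}

/-- a pure tensor equal to the identity has scalar factors -/
theorem ptM_eq_one_scalar (hm : 0 < m) (Xs : Fin k → Matrix (Fin m) (Fin m) F) (h : ptM Xs = 1)
    (i : Fin k) : ∃ μ : F, μ ≠ 0 ∧ Xs i = μ • (1 : Matrix (Fin m) (Fin m) F) := by
  classical
  let z : Fin m := ⟨0, hm⟩
  let α : Fin k → Fin m := fun _ => z
  obtain ⟨A, hA⟩ : ∃ A : F, A = ∏ j ∈ Finset.univ.erase i, Xs j z z := ⟨_, rfl⟩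
  have key : ∀ p p', Xs i p p' * A = if p = p' then 1 else 0 := by
    intro p p'
    have h1 := congrFun (congrFun h (Function.update α i p)) (Function.update α i p')
    rw [ptM_apply, ← Finset.mul_prod_erase _ _ (Finset.mem_univ i), Function.update_self,
      Function.update_self] at h1
    have h2 : ∏ j ∈ Finset.univ.erase i, Xs j (Function.update α i p j) (Function.update α i p' j) =
        A := by
      rw [hA]
      refine Finset.prod_congr rfl fun j hj => ?_
      rw [Function.update_of_ne (Finset.ne_of_mem_erase hj),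
        Function.update_of_ne (Finset.ne_of_mem_erase hj)]
    rw [h2, Matrix.one_apply] at h1
    rw [h1]
    by_cases hp : p = p'
    · subst hp
      rw [if_pos rfl, if_pos rfl]
    · rw [if_neg hp, if_neg]
      intro hcon
      exact hp (update_inj i α hcon)
  have hA0 : A ≠ 0 := by
    intro h0
    have := key z z
    rw [h0, mul_zero, if_pos rfl] at this
    exact zero_ne_one this
  refine ⟨A⁻¹, inv_ne_zero hA0, ?_⟩
  ext p p'
  rw [Matrix.smul_apply, Matrix.one_apply, smul_eq_mul]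
  rw [← key p p']
  field_simp

theorem ptHom_eq_of_eq_off (hm : 0 < m) (p p' : Fin k → GL (Fin m) F) (j : Fin k)
    (hoff : ∀ i, i ≠ j → p i = p' i) (h : ptHom k m F p = ptHom k m F p') : p j = p' j := by
  have h1 : p = Function.update (1 : Fin k → GL (Fin m) F) j (p j * (p' j)⁻¹) * p' := by
    funext i
    by_cases hi : i = j
    · subst hi
      rw [Pi.mul_apply, Function.update_self, inv_mul_cancel_right]
    · rw [Pi.mul_apply, Function.update_of_ne hi, Pi.one_apply, one_mul, hoff i hi]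
  have h2 : ptHom k m F p = posHom k m F j (p j * (p' j)⁻¹) * ptHom k m F p' := by
    rw [posHom_eq_ptHom, ← map_mul, ← h1]
  rw [h] at h2
  have h3 : posHom k m F j (p j * (p' j)⁻¹) = 1 :=
    mul_right_cancel (b := ptHom k m F p') (by rw [one_mul]; exact h2.symm)
  have h4 : p j * (p' j)⁻¹ = 1 := by
    apply posHom_injective hm j
    rw [h3, map_one]
  exact mul_inv_eq_one.mp h4

theorem heisR_factC (hm : 0 < m) {E : Subgroup (GL (Fin m) F)} (W : GL (Fin m) F)
    (hW : ∀ x ∈ E, W * x * W⁻¹ ∈ E)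
    (hC : ∀ x ∈ E, x ∉ Zs (Fin m) F → x * (W * x * W⁻¹) ≠ (W * x * W⁻¹) * x)
    {x : GL (Fin k → Fin m) F} (hx : x ∈ heisR E k) (hxZ : x ∉ Zs (Fin k → Fin m) F) :
    ∃ g : GL (Fin k → Fin m) F, (∀ y ∈ heisR E k, g * y * g⁻¹ ∈ heisR E k) ∧
      x * (g * x * g⁻¹) ≠ (g * x * g⁻¹) * x := by
  obtain ⟨xs, hxs, rfl⟩ := mem_heisR.mp hx
  obtain ⟨j, hj⟩ : ∃ j, xs j ∉ Zs (Fin m) F := by
    by_contra hcon
    push Not at hcon
    exact hxZ (ptHom_mem_Zs xs hcon)
  have husj : (Function.update (1 : Fin k → GL (Fin m) F) j W) j = W := Function.update_self _ _ _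
  have husi : ∀ i, i ≠ j → (Function.update (1 : Fin k → GL (Fin m) F) j W) i = 1 := by
    intro i hi
    rw [Function.update_of_ne hi]
    rfl
  refine ⟨posHom k m F j W, ?_, ?_⟩
  · intro y hy
    obtain ⟨ys, hys, rfl⟩ := mem_heisR.mp hy
    rw [posHom_eq_ptHom, ← map_inv, ← map_mul, ← map_mul]
    apply ptHom_mem_heisR
    intro i
    by_cases hi : i = j
    · subst hi
      rw [Pi.mul_apply, Pi.mul_apply, Pi.inv_apply, husj]
      exact hW _ (hys i)
    · rw [Pi.mul_apply, Pi.mul_apply, Pi.inv_apply, husi i hi, one_mul, inv_one, mul_one]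
      exact hys i
  · intro hcon
    rw [posHom_eq_ptHom, ← map_inv, ← map_mul, ← map_mul, ← map_mul, ← map_mul] at hcon
    have := ptHom_eq_of_eq_off hm _ _ j ?_ hcon
    · simp only [Pi.mul_apply, Pi.inv_apply, husj] at this
      exact hC _ (hxs j) hj this
    · intro i hi
      simp only [Pi.mul_apply, Pi.inv_apply, husi i hi, one_mul, inv_one, mul_one]

theorem facGL_mul_ptHom_val (π : Equiv.Perm (Fin k)) (Us : Fin k → GL (Fin m) F) :
    ((facGL m F π * ptHom k m F Us : GL (Fin k → Fin m) F) :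
      Matrix (Fin k → Fin m) (Fin k → Fin m) F) =
      facPerm m F π * ptM (fun i => ((Us i : GL (Fin m) F) : Matrix (Fin m) (Fin m) F)) := rfl

theorem facGL_conj_ptHom (π : Equiv.Perm (Fin k)) (Zs' : Fin k → GL (Fin m) F) :
    facGL m F π * ptHom k m F Zs' * (facGL m F π)⁻¹ = ptHom k m F (fun i => Zs' (π.symm i)) := by
  apply Units.ext
  show facPerm m F π * ptM (fun i => ((Zs' i : GL (Fin m) F) : Matrix (Fin m) (Fin m) F)) *
    facPerm m F π⁻¹ = ptM (fun i => ((Zs' (π.symm i) : GL (Fin m) F) : Matrix (Fin m) (Fin m) F))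
  rw [facPerm_conj_ptM]

theorem heisR_normalized {E : Subgroup (GL (Fin m) F)} (π : Equiv.Perm (Fin k))
    (Us : Fin k → GL (Fin m) F) (hUs : ∀ i, ∀ x ∈ E, Us i * x * (Us i)⁻¹ ∈ E)
    (g : GL (Fin k → Fin m) F)
    (hg : (g : Matrix (Fin k → Fin m) (Fin k → Fin m) F) =
      facPerm m F π * ptM (fun i => ((Us i : GL (Fin m) F) : Matrix (Fin m) (Fin m) F))) :
    ∀ y ∈ heisR E k, g * y * g⁻¹ ∈ heisR E k := by
  have hg' : g = facGL m F π * ptHom k m F Us := by
    apply Units.ext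
    rw [hg, facGL_mul_ptHom_val]
  intro y hy
  obtain ⟨ys, hys, rfl⟩ := mem_heisR.mp hy
  have h1 : g * ptHom k m F ys * g⁻¹ =
      facGL m F π * ptHom k m F (Us * ys * Us⁻¹) * (facGL m F π)⁻¹ := by
    rw [hg', map_mul, map_mul, map_inv]
    group
  rw [h1, facGL_conj_ptHom]
  apply ptHom_mem_heisR
  intro i
  rw [Pi.mul_apply, Pi.mul_apply, Pi.inv_apply]
  exact hUs _ _ (hys _)

section herm
variable [Fintype F] {q : ℕ} (hF : Fintype.card F = q ^ 2)

omit [Fintype F] in
theorem facPerm_map (σ : F →+* F) (π : Equiv.Perm (Fin k)) :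
    (facPerm m F π).map σ = facPerm m F π := by
  ext x y
  rw [Matrix.map_apply]
  unfold facPerm
  split_ifs <;> simp

/-- the tensor power of a unitary group is unitary -/
theorem heisR_unitary {E : Subgroup (GL (Fin m) F)}
    (hE : ∀ x ∈ E, (x : Matrix (Fin m) (Fin m) F)ᵀ *
      (x : Matrix (Fin m) (Fin m) F).map (HermBridge.sigma hF) = 1) :
    ∀ g ∈ heisR E k, (g : Matrix (Fin k → Fin m) (Fin k → Fin m) F)ᵀ *
      (g : Matrix (Fin k → Fin m) (Fin k → Fin m) F).map (HermBridge.sigma hF) = 1 := by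
  intro g hg
  obtain ⟨xs, hxs, rfl⟩ := mem_heisR.mp hg
  rw [ptHom_val, ptM_transpose, ptM_map, ptM_mul]
  simp only [hE _ (hxs _)]
  exact ptM_one

/-- the factors of a unitary wreath element are unitary similitudes -/
theorem factors_similitude (hm : 0 < m) (π : Equiv.Perm (Fin k)) (Us : Fin k → GL (Fin m) F)
    (h : (facPerm m F π * ptM (fun i => ((Us i : GL (Fin m) F) : Matrix (Fin m) (Fin m) F)))ᵀ *
      (facPerm m F π * ptM (fun i => ((Us i : GL (Fin m) F) : Matrix (Fin m) (Fin m) F))).map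
        (HermBridge.sigma hF) = 1) (i : Fin k) :
    ∃ μ : F, μ ≠ 0 ∧ (HermBridge.sigma hF) μ = μ ∧
      ((Us i : GL (Fin m) F) : Matrix (Fin m) (Fin m) F)ᵀ *
        ((Us i : GL (Fin m) F) : Matrix (Fin m) (Fin m) F).map (HermBridge.sigma hF) =
          μ • (1 : Matrix (Fin m) (Fin m) F) := by
  haveI : Nonempty (Fin m) := ⟨⟨0, hm⟩⟩
  set σ := HermBridge.sigma hF with hσ
  have h1 : ptM (fun i => ((Us i : GL (Fin m) F) : Matrix (Fin m) (Fin m) F)ᵀ *
      ((Us i : GL (Fin m) F) : Matrix (Fin m) (Fin m) F).map σ) = 1 := by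
    rw [Matrix.transpose_mul, Matrix.map_mul, facPerm_map, facPerm_transpose] at h
    rw [← ptM_mul, ← ptM_transpose, ← ptM_map, ← h]
    have h2 : facPerm m F π⁻¹ * facPerm m F π = (1 : Matrix (Fin k → Fin m) (Fin k → Fin m) F) := by
      rw [facPerm_mul, inv_mul_cancel, facPerm_one]
    calc (ptM fun i => ((Us i : GL (Fin m) F) : Matrix (Fin m) (Fin m) F))ᵀ *
          (ptM fun i => ((Us i : GL (Fin m) F) : Matrix (Fin m) (Fin m) F)).map σ
        = (ptM fun i => ((Us i : GL (Fin m) F) : Matrix (Fin m) (Fin m) F))ᵀ *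
          (facPerm m F π⁻¹ * facPerm m F π) *
          (ptM fun i => ((Us i : GL (Fin m) F) : Matrix (Fin m) (Fin m) F)).map σ := by
          rw [h2, Matrix.mul_one]
      _ = _ := by simp only [Matrix.mul_assoc]
  obtain ⟨μ, hμ0, hμ⟩ := ptM_eq_one_scalar hm _ h1 i
  refine ⟨μ, hμ0, ?_, hμ⟩
  have h3 := star_gram hF ((Us i : GL (Fin m) F) : Matrix (Fin m) (Fin m) F)
  rw [← hσ, hμ, Asch.star_smul, Asch.star_one] at h3
  have h4 := congrFun (congrFun h3 ⟨0, hm⟩) ⟨0, hm⟩
  rw [Matrix.smul_apply, Matrix.smul_apply, Matrix.one_apply_eq, smul_eq_mul, smul_eq_mul, mul_one,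
    mul_one] at h4
  exact h4

include hF in
theorem mem_GU_of_TU {n : ℕ} (U : GL (Fin n) F)
    (h : (U : Matrix (Fin n) (Fin n) F)ᵀ *
      (U : Matrix (Fin n) (Fin n) F).map (HermBridge.sigma hF) = 1) : U ∈ GU n F q := by
  rw [mem_GU_iff hF]
  have h1 := congrArg (fun M : Matrix (Fin n) (Fin n) F => M.map (HermBridge.sigma hF)) h
  simp only [Matrix.map_mul, map_map_sigma hF,
    Matrix.map_one _ (map_zero (HermBridge.sigma hF)) (map_one (HermBridge.sigma hF))] at h1
  unfold Asch.star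
  rw [← Matrix.transpose_map]
  exact h1

end herm

end Cfsg.Agent.Lib.Helper9.AschU
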