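import Mathlib
import Cfsg.Prelude
import Cfsg.Agent.Lib.Helper9.AschU25

set_option autoImplicit false
set_option linter.unusedSectionVars false
set_option linter.unusedVariables false
set_option linter.style.longLine false
set_option linter.unusedSimpArgs false
open Cfsg

namespace Cfsg.Agent.Lib.Helper9.AschU

open Module Matrix
open scoped Kronecker
open scoped commutatorElement
open Cfsg.Geo
open Cfsg.Agent.Lib.Helper8.Asch
open Cfsg.Agent.Lib.Helper5 Cfsg.Agent.Lib.Helper8
open Cfsg.Agent.Lib.Helper5.Herm
open Cfsg.Agent.Lib.Helper5.HermBridge (hermSesq hermSesq_apply hermSesq_nondegenerate sigma_apply sigma_sigma sigma_ne_id)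

variable {F : Type*} [Field F]

section abstract
variable {ι : Type} [Fintype ι] [DecidableEq ι]

/-- a group of exponent three, all of whose non-scalar elements fail to commute with one of their
images under a normalising matrix, is of symplectic type -/
theorem symplecticType_of_factC [Finite F] [Nonempty ι] (R : Subgroup (GL ι F))
    (hcube : ∀ x ∈ R, x ^ 3 = 1) (hnt : ∃ x ∈ R, x ≠ 1)
    (hC : ∀ x ∈ R, x ∉ Zs ι F → ∃ g : GL ι F, (∀ y ∈ R, g * y * g⁻¹ ∈ R) ∧
      x * (g * x * g⁻¹) ≠ (g * x * g⁻¹) * x) :
    IsSymplecticTypeGroup 3 R := by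
  refine ⟨Nat.prime_three, ?_, ?_, ?_⟩
  · intro g
    refine ⟨1, ?_⟩
    apply Subtype.ext
    rw [pow_one, Subgroup.coe_pow, hcube _ g.2]
    rfl
  · intro A hchar hcomm
    have hAZ : ∀ a : A, ((a : R) : GL ι F) ∈ Zs ι F := by
      intro a
      by_contra hna
      obtain ⟨g, hg, hne⟩ := hC _ (a : R).2 hna
      let f : R →* R :=
        { toFun := fun y => ⟨g * y * g⁻¹, hg y y.2⟩
          map_one' := by
            apply Subtype.ext
            simp
          map_mul' := fun y z => by
            apply Subtype.ext
            simp only [Subgroup.coe_mul]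
            group }
      have hinj : Function.Injective f := by
        intro y z hyz
        have h1 : g * (y : GL ι F) * g⁻¹ = g * (z : GL ι F) * g⁻¹ := congrArg Subtype.val hyz
        apply Subtype.ext
        exact mul_left_cancel (mul_right_cancel h1)
      have hbij : Function.Bijective f := Finite.injective_iff_bijective.mp hinj
      let φ : R ≃* R := MulEquiv.ofBijective f hbij
      have h1 := Subgroup.characteristic_iff_map_eq.mp hchar φ
      have h2 : φ (a : R) ∈ A := by
        have h2' : φ (a : R) ∈ A.map φ.toMonoidHom := Subgroup.mem_map_of_mem _ a.2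
        rwa [h1] at h2'
      have h3 : (a : R) * φ (a : R) = φ (a : R) * (a : R) := by
        have := hcomm.is_comm.comm a ⟨φ (a : R), h2⟩
        exact congrArg Subtype.val this
      apply hne
      exact congrArg Subtype.val h3
    let f : A →* F :=
      { toFun := fun a => sv ((a : R) : GL ι F)
        map_one' := sv_one
        map_mul' := fun a b => sv_mul (hAZ a) (hAZ b) }
    refine isCyclic_of_subgroup_isDomain f ?_
    intro a b hab
    apply Subtype.ext
    apply Subtype.ext
    apply Units.ext
    rw [val_eq_sv_smul (hAZ a), val_eq_sv_smul (hAZ b)]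
    congr 1
  · have h3 : 3 * Nat.gcd 2 3 = 3 := by norm_num
    rw [h3]
    have hdvd : Monoid.exponent R ∣ 3 := by
      apply Monoid.exponent_dvd_of_forall_pow_eq_one
      intro g
      apply Subtype.ext
      simpa using hcube g g.2
    have hne1 : Monoid.exponent R ≠ 1 := by
      intro h1
      have hsub : Subsingleton R := Monoid.exp_eq_one_iff.mp h1
      obtain ⟨x, hx, hx1⟩ := hnt
      exact hx1 (congrArg Subtype.val (Subsingleton.elim (⟨x, hx⟩ : R) 1))
    rcases (Nat.dvd_prime Nat.prime_three).mp hdvd with h | h
    · exact absurd h hne1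
    · exact h

end abstract

section transport
variable {κ : Type} [Fintype κ] [DecidableEq κ] {n : ℕ}

/-- the matrix algebra isomorphism attached to a basis -/
noncomputable def algE (b : Basis κ F (Fin n → F)) :
    Matrix (Fin n) (Fin n) F ≃ₐ[F] Matrix κ κ F :=
  (Matrix.toLinAlgEquiv' : Matrix (Fin n) (Fin n) F ≃ₐ[F] Module.End F (Fin n → F)).trans
    (LinearMap.toMatrixAlgEquiv b)

theorem algE_apply (b : Basis κ F (Fin n → F)) (M : Matrix (Fin n) (Fin n) F) :
    algE b M = LinearMap.toMatrix b b (Matrix.toLin' M) := rfl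

/-- the group isomorphism attached to a basis -/
noncomputable def matE (b : Basis κ F (Fin n → F)) : GL (Fin n) F ≃* GL κ F :=
  Units.mapEquiv (algE b).toMulEquiv

theorem matE_eq (b : Basis κ F (Fin n → F)) (x : GL (Fin n) F) : matE b x = matB b x := by
  apply Units.ext
  rw [matB_val]
  rfl

theorem matB_injective (b : Basis κ F (Fin n → F)) : Function.Injective (matB b) := by
  intro x y hxy
  apply (matE b).injective
  rw [matE_eq, matE_eq, hxy]

theorem matB_surjective (b : Basis κ F (Fin n → F)) : Function.Surjective (matB b) := by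
  intro g
  obtain ⟨x, hx⟩ := (matE b).surjective g
  exact ⟨x, by rw [← matE_eq, hx]⟩

theorem matB_mem_Zs [Nonempty κ] (b : Basis κ F (Fin n → F)) (x : GL (Fin n) F) :
    matB b x ∈ Zs κ F ↔ x ∈ Zs (Fin n) F := by
  rw [mem_Zs, mem_Zs]
  constructor
  · rintro ⟨c, hc⟩
    refine ⟨c, ?_⟩
    apply (algE b).injective
    rw [map_smul, map_one, algE_apply, ← matB_val, hc]
  · rintro ⟨c, hc⟩
    refine ⟨c, ?_⟩
    rw [matB_val, hc, ← algE_apply, map_smul, map_one]

theorem span_comap_matB (b : Basis κ F (Fin n → F)) (R : Subgroup (GL κ F))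
    (hR : Submodule.span F (mset R) = ⊤) :
    Submodule.span F (mset (R.comap (matB b))) = ⊤ := by
  rw [eq_top_iff]
  intro M _
  have key : ∀ Y ∈ Submodule.span F (mset R),
      (algE b).symm Y ∈ Submodule.span F (mset (R.comap (matB b))) := by
    intro Y hY
    induction hY using Submodule.span_induction with
    | mem Y hY =>
      obtain ⟨g, hg, rfl⟩ := hY
      obtain ⟨x, rfl⟩ := matB_surjective b g
      apply Submodule.subset_span
      refine ⟨x, hg, ?_⟩
      show (x : Matrix (Fin n) (Fin n) F) = (algE b).symm ((matB b x : GL κ F) : Matrix κ κ F)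
      rw [matB_val, ← algE_apply, AlgEquiv.symm_apply_apply]
    | zero => rw [map_zero]; exact Submodule.zero_mem _
    | add Y₁ Y₂ _ _ h₁ h₂ => rw [map_add]; exact Submodule.add_mem _ h₁ h₂
    | smul c Y₁ _ h₁ => rw [map_smul]; exact Submodule.smul_mem _ _ h₁
  have := key (algE b M) (by rw [hR]; trivial)
  rwa [AlgEquiv.symm_apply_apply] at this

end transport

end Cfsg.Agent.Lib.Helper9.AschU
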