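import Mathlib
import Cfsg.Prelude
import Cfsg.Agent.Lib.Helper9.AschU26
import Cfsg.Agent.Lib.Helper9.HeisU
import Cfsg.Agent.Lib.Helper5.SU32b

set_option autoImplicit false
set_option linter.unusedSectionVars false
set_option linter.unusedVariables false
set_option linter.style.longLine false
set_option linter.unusedSimpArgs false
open Cfsg

namespace Cfsg.Agent.Lib.Helper9.AschU

open Module Matrix
open scoped Kronecker
open scoped commutatorElement
open Cfsg.Geo
open Cfsg.Agent.Lib.Helper8.Asch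
open Cfsg.Agent.Lib.Helper5 Cfsg.Agent.Lib.Helper8
open Cfsg.Agent.Lib.Helper5.Herm
open Cfsg.Agent.Lib.Helper5.HermBridge (hermSesq hermSesq_apply hermSesq_nondegenerate sigma_apply sigma_sigma sigma_ne_id)

variable {F : Type*} [Field F] [Fintype F] {q : ℕ} (hF : Fintype.card F = q ^ 2) {n : ℕ}

section
variable {κ : Type} [Fintype κ] [DecidableEq κ]

include hF in
/-- an element whose matrix in an orthonormal basis is unitary lies in the unitary group -/
theorem mem_GU_of_orthonormal (b : Basis κ F (Fin n → F)) (hb : gramB q b = 1) (x : GL (Fin n) F)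
    (h : ((matB b x : GL κ F) : Matrix κ κ F)ᵀ *
      ((matB b x : GL κ F) : Matrix κ κ F).map (HermBridge.sigma hF) = 1) : x ∈ GU n F q := by
  intro u v
  show hermForm n F q ((x : Matrix (Fin n) (Fin n) F) *ᵥ u)
    ((x : Matrix (Fin n) (Fin n) F) *ᵥ v) = hermForm n F q u v
  have hu : ∀ w : Fin n → F, (x : Matrix (Fin n) (Fin n) F) *ᵥ w =
      b.equivFun.symm (((matB b x : GL κ F) : Matrix κ κ F) *ᵥ b.equivFun w) := by
    intro w
    rw [matB_val, toMatrix_mulVec_coord, LinearEquiv.symm_apply_apply, LinearEquiv.symm_apply_apply,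
      Matrix.toLin'_apply]
  have hw : ∀ w : Fin n → F, w = b.equivFun.symm (b.equivFun w) :=
    fun w => (LinearEquiv.symm_apply_apply _ _).symm
  rw [hu u, hu v, herm_coord hF, gf_mulVec, hb, Matrix.mul_one, h]
  conv_rhs => rw [hw u, hw v, herm_coord hF, hb]

end

include hF in
/-- the exceptional case `(q, k) = (2, 3)`, from the extraspecial group of order 27 -/
theorem exc23_of_heisData
    (hd : q = 2 → ∃ (E : Subgroup (GL (Fin 3) F)) (W : GL (Fin 3) F), HeisData F E W)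
    {H : Subgroup (GL (Fin n) F)} (hH : H ≤ GU n F q) : Exc23 q H := by
  intro hq t ht b hb hHb
  obtain ⟨E, W, hE⟩ := hd hq
  subst hq
  set σ := HermBridge.sigma hF with hσ
  haveI : Nonempty (Fin t → Fin 3) := ⟨fun _ => 0⟩
  have hn : n = 3 ^ t := by
    have h1 := card_of_basis b
    rw [Fintype.card_fin, Fintype.card_fun, Fintype.card_fin, Fintype.card_fin] at h1
    exact h1
  have hn0 : 0 < n := by rw [hn]; positivity
  haveI : Nonempty (Fin n) := ⟨⟨0, hn0⟩⟩
  have hEU : ∀ x ∈ E, (x : Matrix (Fin 3) (Fin 3) F)ᵀ * (x : Matrix (Fin 3) (Fin 3) F).map σ = 1 :=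
    fun x hx => transpose_mul_map_of_mem_GU hF (hE.unit hx)
  obtain ⟨R, hR⟩ : ∃ R : Subgroup (GL (Fin t → Fin 3) F), R = heisR E t := ⟨_, rfl⟩
  obtain ⟨Rn, hRn⟩ : ∃ Rn : Subgroup (GL (Fin n) F), Rn = R.comap (matB b) := ⟨_, rfl⟩
  have hmem : ∀ x, x ∈ Rn ↔ matB b x ∈ R := by
    intro x
    rw [hRn, Subgroup.mem_comap]
  have hspanR : Submodule.span F (mset R) = ⊤ := by rw [hR]; exact heisR_span hE.span
  have hspan : Submodule.span F (mset Rn) = ⊤ := by rw [hRn]; exact span_comap_matB b R hspanR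
  have hcomm : ∀ x ∈ Rn, ∀ y ∈ Rn, ⁅x, y⁆ ∈ Zs (Fin n) F := by
    intro x hx y hy
    rw [← matB_mem_Zs b, map_commutatorElement]
    have hx' := (hmem x).mp hx
    have hy' := (hmem y).mp hy
    rw [hR] at hx' hy'
    exact heisR_comm hE.comm _ hx' _ hy'
  have hcl : Cl2 Rn := ⟨inferInstance, hspan, hcomm⟩
  have hcube : ∀ x ∈ Rn, x ^ 3 = 1 := by
    intro x hx
    apply matB_injective b
    rw [map_pow, map_one]
    have hx' := (hmem x).mp hx
    rw [hR] at hx'
    exact heisR_pow 3 hE.cube _ hx'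
  have hZ : Zs (Fin n) F ≤ Rn := by
    intro x hx
    rw [hmem, hR]
    exact Zs_le_heisR ht hE.scal ((matB_mem_Zs b x).mpr hx)
  -- a non-trivial scalar
  obtain ⟨ω, hω, hω1⟩ := SU32b.exists_omega hF
  have hω0 : ω ≠ 0 := by
    intro h0
    rw [h0] at hω
    simp at hω
  let zω : GL (Fin n) F :=
    ⟨ω • 1, ω⁻¹ • 1, by rw [smul_mul_smul_comm, mul_inv_cancel₀ hω0, Matrix.one_mul, one_smul],
      by rw [smul_mul_smul_comm, inv_mul_cancel₀ hω0, Matrix.one_mul, one_smul]⟩
  have hzω : zω ∈ Zs (Fin n) F := mem_Zs.mpr ⟨Units.mk0 ω hω0, rfl⟩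
  have hzω1 : zω ≠ 1 := by
    intro h1
    have h2 := congrArg (fun g : GL (Fin n) F => (g : Matrix (Fin n) (Fin n) F) ⟨0, hn0⟩ ⟨0, hn0⟩) h1
    simp only [zω, Matrix.smul_apply, Matrix.one_apply_eq, smul_eq_mul, mul_one,
      Units.val_one] at h2
    exact hω1 h2
  have hnt : ∃ x ∈ Rn, x ≠ 1 := ⟨zω, hZ hzω, hzω1⟩
  have hC : ∀ x ∈ Rn, x ∉ Zs (Fin n) F → ∃ g : GL (Fin n) F, (∀ y ∈ Rn, g * y * g⁻¹ ∈ Rn) ∧
      x * (g * x * g⁻¹) ≠ (g * x * g⁻¹) * x := by
    intro x hx hxZ
    have hx' := (hmem x).mp hx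
    rw [hR] at hx'
    obtain ⟨g', hg', hne⟩ := heisR_factC (by norm_num) W hE.wnorm hE.factC hx'
      ((matB_mem_Zs b x).not.mpr hxZ)
    obtain ⟨g, rfl⟩ := matB_surjective b g'
    refine ⟨g, ?_, ?_⟩
    · intro y hy
      have hy' := (hmem y).mp hy
      rw [hR] at hy'
      rw [hmem, map_mul, map_mul, map_inv, hR]
      exact hg' _ hy'
    · intro hcon
      apply hne
      have := congrArg (matB b) hcon
      simpa only [map_mul, map_inv] using this
  have hst : IsSymplecticTypeGroup 3 Rn := symplecticType_of_factC Rn hcube hnt hC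
  have hRnGU : Rn ≤ GU n F 2 := by
    intro x hx
    have hx' := (hmem x).mp hx
    rw [hR] at hx'
    exact mem_GU_of_orthonormal hF b hb x (heisR_unitary hF hEU _ hx')
  have hHInv : ∀ h ∈ H, ∀ y ∈ Rn, h * y * h⁻¹ ∈ Rn := by
    intro h hh y hy
    have hy' := (hmem y).mp hy
    rw [hR] at hy'
    rw [hmem, map_mul, map_mul, map_inv, hR]
    obtain ⟨π, Us, hπU⟩ := hHb h hh
    have hunit : ((matB b h : GL (Fin t → Fin 3) F) : Matrix (Fin t → Fin 3) (Fin t → Fin 3) F)ᵀ *
        ((matB b h : GL (Fin t → Fin 3) F) : Matrix (Fin t → Fin 3) (Fin t → Fin 3) F).map σ = 1 := by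
      have := gramB_inv hF b (hH hh)
      rw [hb, Matrix.mul_one, ← matB_val] at this
      exact this
    have hUsGU : ∀ i, Us i ∈ GU 3 F 2 := by
      intro i
      rw [matB_val, hπU] at hunit
      obtain ⟨μ, hμ0, hμσ, hμ⟩ := factors_similitude hF (by norm_num) π Us hunit i
      have hμ1 : μ = 1 := by
        rw [sigma_apply] at hμσ
        have h1 : μ * (μ - 1) = 0 := by
          have : μ * (μ - 1) = μ ^ 2 - μ := by ring
          rw [this, hμσ, sub_self]
        rcases mul_eq_zero.mp h1 with h | h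
        · exact absurd h hμ0
        · exact sub_eq_zero.mp h
      rw [hμ1, one_smul] at hμ
      exact mem_GU_of_TU hF _ hμ
    exact heisR_normalized π Us (fun i x hx => hE.norm _ (hUsGU i) x hx) (matB b h)
      (by rw [matB_val]; exact hπU) _ hy'
  have hcardZ : Nat.card ↥(Rn ⊓ Zs (Fin n) F) = 3 := by
    have h1 := card_inf_dvd (F := F) Rn
    rw [Nat.card_eq_fintype_card (α := F), hF] at h1
    have h1' : Nat.card ↥(Rn ⊓ Zs (Fin n) F) ∣ 3 := h1
    have h2 : Nat.card ↥(Rn ⊓ Zs (Fin n) F) ≠ 1 := by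
      intro hc
      haveI : Finite ↥(Rn ⊓ Zs (Fin n) F) := Nat.finite_of_card_ne_zero (by rw [hc]; norm_num)
      have hsub : Subsingleton ↥(Rn ⊓ Zs (Fin n) F) := (Nat.card_eq_one_iff_unique.mp hc).1
      apply hzω1
      have := Subsingleton.elim (⟨zω, ⟨hZ hzω, hzω⟩⟩ : ↥(Rn ⊓ Zs (Fin n) F)) 1
      exact congrArg Subtype.val this
    rcases (Nat.dvd_prime Nat.prime_three).mp h1' with h | h
    · exact absurd h h2
    · exact h
  have hcen : Nat.card (Subgroup.center Rn) = 3 := by rw [card_center hcl, hcardZ]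
  have hcardR : Nat.card Rn = 3 ^ (1 + 2 * t) := by
    rw [card_N hcl, hcardZ, Fintype.card_fin, hn]
    ring
  have hminF : IsMinimalFieldFor (Nat.card (Subgroup.center Rn)) 2 2 F := by
    rw [hcen]
    refine ⟨Nat.prime_two,
      CharTwo.of_one_ne_zero_of_two_eq_zero one_ne_zero (SU32b.two_eq_zero hF), hF, by norm_num, ?_⟩
    intro d hd0 hd2
    interval_cases d
    norm_num
  exact UC_C6 hH 3 Rn 2 2 t hst (absIrred_of_span Rn hspan) (hRnGU.trans GU_le_similarity)
    (by norm_num) hminF (Or.inl ⟨by decide, hcen, ht, hcardR⟩) (le_normalizer_of_HInv hHInv)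

end Cfsg.Agent.Lib.Helper9.AschU
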