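import Mathlib
import Cfsg.Prelude
import Cfsg.Agent.Lib.Helper5.SU32b
import Cfsg.Agent.Lib.Helper9.HeisU
import Cfsg.Agent.Lib.Helper9.AschU24

set_option autoImplicit false
set_option linter.unusedSectionVars false
set_option linter.unusedVariables false
set_option linter.style.longLine false
set_option linter.unusedSimpArgs false
open Cfsg

namespace Cfsg.Agent.Lib.Helper9.AschU

open Module Matrix
open scoped commutatorElement
open Cfsg.Agent.Lib.Helper8.Asch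
open Cfsg.Agent.Lib.Helper5 Cfsg.Agent.Lib.Helper5.HermCenter Cfsg.Agent.Lib.Helper5.SU32

section alg
variable {F : Type*} [Field F]

/-- the monomial `c^u d^v` -/
def hvK (ω : F) (u v : ℕ) : Matrix (Fin 3) (Fin 3) F := (Mc : Matrix (Fin 3) (Fin 3) F) ^ u * Md ω ^ v

variable (ω : F) (hω : ω ^ 2 + ω + 1 = 0) (h2 : (2 : F) = 0)

include hω in
theorem hv_omega_cube : ω ^ 3 = 1 := by linear_combination (ω - 1) * hω

include hω in
theorem hv_eps_cube : (ω ^ 2) ^ 3 = 1 := by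
  rw [← pow_mul, show 2 * 3 = 3 * 2 by norm_num, pow_mul, hv_omega_cube ω hω, one_pow]

theorem hv_Mz : Mz ω = ω • (1 : Matrix (Fin 3) (Fin 3) F) := by
  ext i j
  fin_cases i <;> fin_cases j <;> simp [Mz]

include hω h2 in
theorem hv_d_c : Md ω * Mc = (ω ^ 2) • ((Mc : Matrix (Fin 3) (Fin 3) F) * Md ω) := by
  rw [c_d ω hω h2, hv_Mz, Matrix.mul_assoc, Matrix.smul_mul, Matrix.one_mul, smul_smul,
    ← pow_succ, hv_omega_cube ω hω, one_smul]

include hω h2 in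
theorem hv_d_cpow (u : ℕ) : Md ω * (Mc : Matrix (Fin 3) (Fin 3) F) ^ u =
    ((ω ^ 2) ^ u) • ((Mc : Matrix (Fin 3) (Fin 3) F) ^ u * Md ω) := by
  induction u with
  | zero => simp
  | succ u ih =>
    rw [pow_succ, ← Matrix.mul_assoc, ih, Matrix.smul_mul, Matrix.mul_assoc, hv_d_c ω hω h2,
      Matrix.mul_smul, smul_smul, ← pow_succ, ← Matrix.mul_assoc]

include hω h2 in
theorem hv_dpow_cpow (u v : ℕ) : Md ω ^ v * (Mc : Matrix (Fin 3) (Fin 3) F) ^ u =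
    ((ω ^ 2) ^ (u * v)) • ((Mc : Matrix (Fin 3) (Fin 3) F) ^ u * Md ω ^ v) := by
  induction v with
  | zero => simp
  | succ v ih =>
    rw [pow_succ, Matrix.mul_assoc, hv_d_cpow ω hω h2, Matrix.mul_smul, ← Matrix.mul_assoc, ih,
      Matrix.smul_mul, smul_smul, Matrix.mul_assoc, ← pow_succ, ← pow_add]
    congr 2
    ring

include hω h2 in
theorem hvK_mul (u v u' v' : ℕ) : hvK ω u v * hvK ω u' v' =
    ((ω ^ 2) ^ (u' * v)) • hvK ω (u + u') (v + v') := by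
  unfold hvK
  calc (Mc : Matrix (Fin 3) (Fin 3) F) ^ u * Md ω ^ v * ((Mc : Matrix (Fin 3) (Fin 3) F) ^ u' * Md ω ^ v')
      = (Mc : Matrix (Fin 3) (Fin 3) F) ^ u * (Md ω ^ v * (Mc : Matrix (Fin 3) (Fin 3) F) ^ u') * Md ω ^ v' := by
        simp only [Matrix.mul_assoc]
    _ = _ := by
        rw [hv_dpow_cpow ω hω h2, Matrix.mul_smul, Matrix.smul_mul, pow_add, pow_add]
        simp only [Matrix.mul_assoc]

include hω h2 in
theorem hv_c3 : (Mc : Matrix (Fin 3) (Fin 3) F) ^ 3 = 1 := by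
  rw [pow_succ, pow_succ, pow_one]
  exact c_cube ω hω h2

include hω h2 in
theorem hv_d3 : Md ω ^ 3 = 1 := by
  rw [pow_succ, pow_succ, pow_one]
  exact d_cube ω hω h2

include hω h2 in
theorem hvK_mod (u v : ℕ) : hvK ω u v = hvK ω (u % 3) (v % 3) := by
  unfold hvK
  rw [pow_eq_pow_mod u (hv_c3 ω hω h2), pow_eq_pow_mod v (hv_d3 ω hω h2)]

include hω h2 in
theorem hvK_three (u v : ℕ) : hvK ω (3 * u) (3 * v) = 1 := by
  unfold hvK
  rw [pow_mul, pow_mul, hv_c3 ω hω h2, hv_d3 ω hω h2, one_pow, one_pow, Matrix.one_mul]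

theorem hvK_zero : hvK ω 0 0 = 1 := by
  unfold hvK
  rw [pow_zero, pow_zero, Matrix.one_mul]

include hω h2 in
theorem hvK_cube (u v : ℕ) : hvK ω u v ^ 3 = 1 := by
  rw [pow_succ, pow_succ, pow_one, hvK_mul ω hω h2, Matrix.smul_mul, hvK_mul ω hω h2, smul_smul,
    ← pow_add, show u + u + u = 3 * u by ring, show v + v + v = 3 * v by ring, hvK_three ω hω h2,
    show u * v + u * (v + v) = 3 * (u * v) by ring, pow_mul, hv_eps_cube ω hω, one_pow, one_smul]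

include hω h2 in
theorem det_hvK (u v : ℕ) : (hvK ω u v).det = 1 := by
  unfold hvK
  rw [Matrix.det_mul, Matrix.det_pow, Matrix.det_pow, det_Mc ω hω h2, det_Md ω hω h2, one_pow,
    one_pow, one_mul]

end alg

section grp
variable {F : Type*} [Field F] [Fintype F] (hF : Fintype.card F = 2 ^ 2)
variable (ω : F) (hω : ω ^ 2 + ω + 1 = 0)

include hF in
theorem hv_unit_cube {ζ : F} (hζ : ζ ≠ 0) : ζ ^ 3 = 1 := by
  have := FiniteField.pow_card_sub_one_eq_one ζ hζ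
  rw [hF] at this
  exact this

/-- the underlying set of the extraspecial group -/
def hvSet (ω : F) : Set (GL (Fin 3) F) :=
  {g | ∃ (ζ : F) (u v : ℕ), ζ ≠ 0 ∧ (g : Matrix (Fin 3) (Fin 3) F) = ζ • hvK ω u v}

include hF hω in
theorem hvSet_mul {a b : GL (Fin 3) F} (ha : a ∈ hvSet ω) (hb : b ∈ hvSet ω) : a * b ∈ hvSet ω := by
  obtain ⟨ζ, u, v, hζ, ha⟩ := ha
  obtain ⟨ζ', u', v', hζ', hb⟩ := hb
  have hω0 : ω ≠ 0 := by
    rintro rfl
    norm_num at hω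
  refine ⟨ζ * ζ' * (ω ^ 2) ^ (u' * v), u + u', v + v',
    mul_ne_zero (mul_ne_zero hζ hζ') (pow_ne_zero _ (pow_ne_zero _ hω0)), ?_⟩
  rw [Units.val_mul, ha, hb, smul_mul_smul_comm, hvK_mul ω hω (SU32b.two_eq_zero hF), smul_smul]

include hF hω in
theorem hvSet_cube {a : GL (Fin 3) F} (ha : a ∈ hvSet ω) : a ^ 3 = 1 := by
  obtain ⟨ζ, u, v, hζ, ha⟩ := ha
  apply Units.ext
  rw [Units.val_pow_eq_pow_val, ha, smul_pow, hvK_cube ω hω (SU32b.two_eq_zero hF),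
    hv_unit_cube hF hζ, one_smul]
  rfl

/-- the extraspecial group `3^{1+2}` together with the scalars -/
def hvE : Subgroup (GL (Fin 3) F) where
  carrier := hvSet ω
  one_mem' := ⟨1, 0, 0, one_ne_zero, by rw [hvK_zero, one_smul]; rfl⟩
  mul_mem' := fun ha hb => hvSet_mul hF ω hω ha hb
  inv_mem' := by
    intro a ha
    have h3 := hvSet_cube hF ω hω ha
    have : a⁻¹ = a * a := by
      rw [inv_eq_iff_mul_eq_one, ← h3, pow_succ, pow_succ, pow_one, mul_assoc]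
    rw [this]
    exact hvSet_mul hF ω hω ha ha

theorem mem_hvE {g : GL (Fin 3) F} : g ∈ hvE hF ω hω ↔
    ∃ (ζ : F) (u v : ℕ), ζ ≠ 0 ∧ (g : Matrix (Fin 3) (Fin 3) F) = ζ • hvK ω u v := Iff.rfl

/-- the group element `ζ c^u d^v` -/
noncomputable def hvG (ζ : F) (hζ : ζ ≠ 0) (u v : ℕ) : GL (Fin 3) F :=
  Matrix.GeneralLinearGroup.mkOfDetNeZero (ζ • hvK ω u v) (by
    rw [Matrix.det_smul, det_hvK ω hω (SU32b.two_eq_zero hF), mul_one]
    exact pow_ne_zero _ hζ)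

theorem hvG_val (ζ : F) (hζ : ζ ≠ 0) (u v : ℕ) :
    ((hvG hF ω hω ζ hζ u v : GL (Fin 3) F) : Matrix (Fin 3) (Fin 3) F) = ζ • hvK ω u v := rfl

theorem hvG_mem (ζ : F) (hζ : ζ ≠ 0) (u v : ℕ) : hvG hF ω hω ζ hζ u v ∈ hvE hF ω hω :=
  ⟨ζ, u, v, hζ, rfl⟩

theorem hvK_mem_span (u v : ℕ) : hvK ω u v ∈ Submodule.span F (mset (hvE hF ω hω)) := by
  apply Submodule.subset_span
  refine ⟨hvG hF ω hω 1 one_ne_zero u v, hvG_mem hF ω hω _ _ _ _, ?_⟩
  show ((hvG hF ω hω 1 one_ne_zero u v : GL (Fin 3) F) : Matrix (Fin 3) (Fin 3) F) = _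
  rw [hvG_val, one_smul]

end grp

section sp
variable {F : Type*} [Field F]
variable (ω : F) (hω : ω ^ 2 + ω + 1 = 0) (h2 : (2 : F) = 0)

include hω h2 in
theorem hv_e00 : (1 : Matrix (Fin 3) (Fin 3) F) + Md ω + Md ω * Md ω = !![1, 0, 0; 0, 0, 0; 0, 0, 0] := by
  simp only [Md, Matrix.mul_fin_three, Matrix.one_fin_three, Matrix.of_add_of, Matrix.cons_add_cons, Matrix.empty_add_empty]
  apply mat3_ext <;> first
    | ring1
    | linear_combination hω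
    | linear_combination h2
    | linear_combination (ω ^ 2 - ω + 1) * hω

theorem hv_single (i j : Fin 3) : ∃ a b : ℕ, (Mc : Matrix (Fin 3) (Fin 3) F) ^ a * !![1, 0, 0; 0, 0, 0; 0, 0, 0] * (Mc : Matrix (Fin 3) (Fin 3) F) ^ b = Matrix.single i j (1 : F) := by
  refine ⟨(3 - i.val) % 3, j.val, ?_⟩
  fin_cases i <;> fin_cases j <;>
  · ext k l
    fin_cases k <;> fin_cases l <;> simp [Mc, pow_succ, Matrix.mul_apply, Fin.sum_univ_three, Matrix.single_apply]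

include hω h2 in
theorem hv_eps_ne_one : ω ^ 2 ≠ 1 := by
  intro h
  have h0 : ω = 0 := by linear_combination hω - h - h2
  rw [h0] at h
  norm_num at h

include hω in
theorem hv_omega_ne_zero : ω ≠ 0 := by
  rintro rfl
  norm_num at hω

include hω h2 in
theorem hv_orderOf : orderOf (ω ^ 2) = 3 := by
  have : Fact (Nat.Prime 3) := ⟨Nat.prime_three⟩
  exact orderOf_eq_prime (hv_eps_cube ω hω) (hv_eps_ne_one ω hω h2)

include hω h2 in
theorem hv_conjW (u v : ℕ) : Mm ω * hvK ω u v = ((ω ^ 2) ^ (v * (2 * u))) • (hvK ω v (2 * u) * Mm ω) := by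
  have h1 : SemiconjBy (Mm ω) ((Mc : Matrix (Fin 3) (Fin 3) F) ^ u) ((Md ω * Md ω) ^ u) :=
    SemiconjBy.pow_right (m_c ω hω h2) u
  have h3 : SemiconjBy (Mm ω) (Md ω ^ v) ((Mc : Matrix (Fin 3) (Fin 3) F) ^ v) :=
    SemiconjBy.pow_right (m_d ω hω h2) v
  have h1' : Mm ω * (Mc : Matrix (Fin 3) (Fin 3) F) ^ u = Md ω ^ (2 * u) * Mm ω := by
    rw [pow_mul, sq]
    exact h1
  have h3' : Mm ω * Md ω ^ v = (Mc : Matrix (Fin 3) (Fin 3) F) ^ v * Mm ω := h3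
  unfold hvK
  rw [← Matrix.mul_assoc, h1', Matrix.mul_assoc, h3', ← Matrix.mul_assoc, hv_dpow_cpow ω hω h2,
    Matrix.smul_mul]

theorem hv_conj_val {W x : GL (Fin 3) F} {M : Matrix (Fin 3) (Fin 3) F}
    (h : (W : Matrix (Fin 3) (Fin 3) F) * (x : Matrix (Fin 3) (Fin 3) F) = M * (W : Matrix (Fin 3) (Fin 3) F)) :
    ((W * x * W⁻¹ : GL (Fin 3) F) : Matrix (Fin 3) (Fin 3) F) = M := by
  rw [Units.val_mul, Units.val_mul, h, Matrix.mul_assoc, ← Units.val_mul, mul_inv_cancel,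
    Units.val_one, Matrix.mul_one]

end sp

section props
variable {F : Type*} [Field F] [Fintype F] (hF : Fintype.card F = 2 ^ 2)
variable (ω : F) (hω : ω ^ 2 + ω + 1 = 0)

theorem hv_span : Submodule.span F (mset (hvE hF ω hω)) = ⊤ := by
  have h2 := SU32b.two_eq_zero hF
  have hK : ∀ u v, hvK ω u v ∈ Submodule.span F (mset (hvE hF ω hω)) := hvK_mem_span hF ω hω
  have h1 : (1 : Matrix (Fin 3) (Fin 3) F) ∈ Submodule.span F (mset (hvE hF ω hω)) := by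
    have := hK 0 0
    rwa [hvK_zero] at this
  have hd : Md ω ∈ Submodule.span F (mset (hvE hF ω hω)) := by
    have := hK 0 1
    simpa [hvK] using this
  have hcp : ∀ a, (Mc : Matrix (Fin 3) (Fin 3) F) ^ a ∈ Submodule.span F (mset (hvE hF ω hω)) := by
    intro a
    have := hK a 0
    simpa [hvK] using this
  have he : (!![1, 0, 0; 0, 0, 0; 0, 0, 0] : Matrix (Fin 3) (Fin 3) F) ∈
      Submodule.span F (mset (hvE hF ω hω)) := by
    rw [← hv_e00 ω hω h2]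
    exact Submodule.add_mem _ (Submodule.add_mem _ h1 hd) (span_mset_mul _ hd hd)
  have hs : ∀ i j, Matrix.single i j (1 : F) ∈ Submodule.span F (mset (hvE hF ω hω)) := by
    intro i j
    obtain ⟨a, b, hab⟩ := hv_single (F := F) i j
    rw [← hab]
    exact span_mset_mul _ (span_mset_mul _ (hcp a) he) (hcp b)
  rw [eq_top_iff]
  intro M _
  rw [Matrix.matrix_eq_sum_single M]
  refine Submodule.sum_mem _ (fun i _ => Submodule.sum_mem _ (fun j _ => ?_))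
  have : Matrix.single i j (M i j) = (M i j) • Matrix.single i j (1 : F) := by
    rw [Matrix.smul_single, smul_eq_mul, mul_one]
  rw [this]
  exact Submodule.smul_mem _ _ (hs i j)

theorem hv_comm : ∀ x ∈ hvE hF ω hω, ∀ y ∈ hvE hF ω hω, ⁅x, y⁆ ∈ Zs (Fin 3) F := by
  intro x hx y hy
  obtain ⟨ζ, u, v, hζ, hxv⟩ := hx
  obtain ⟨ζ', u', v', hζ', hyv⟩ := hy
  have h2 := SU32b.two_eq_zero hF
  have hε : (ω ^ 2 : F) ≠ 0 := pow_ne_zero _ (hv_omega_ne_zero ω hω)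
  have hκ : (ω ^ 2) ^ (u' * v) * ((ω ^ 2) ^ (u * v'))⁻¹ ≠ 0 :=
    mul_ne_zero (pow_ne_zero _ hε) (inv_ne_zero (pow_ne_zero _ hε))
  refine mem_Zs.mpr ⟨Units.mk0 _ hκ, ?_⟩
  rw [Units.val_mk0]
  have hxy : ((x * y : GL (Fin 3) F) : Matrix (Fin 3) (Fin 3) F) =
      ((ω ^ 2) ^ (u' * v) * ((ω ^ 2) ^ (u * v'))⁻¹) • ((y * x : GL (Fin 3) F) : Matrix (Fin 3) (Fin 3) F) := by
    rw [Units.val_mul, Units.val_mul, hxv, hyv, smul_mul_smul_comm, smul_mul_smul_comm,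
      hvK_mul ω hω h2, hvK_mul ω hω h2, smul_smul, smul_smul, smul_smul, add_comm u' u, add_comm v' v]
    congr 1
    have := pow_ne_zero (u * v') hε
    field_simp
  have hc : ⁅x, y⁆ * (y * x) = x * y := by
    rw [commutatorElement_def]
    group
  have h3 : ((⁅x, y⁆ : GL (Fin 3) F) : Matrix (Fin 3) (Fin 3) F) * ((y * x : GL (Fin 3) F) : Matrix (Fin 3) (Fin 3) F) =
      ((ω ^ 2) ^ (u' * v) * ((ω ^ 2) ^ (u * v'))⁻¹) • ((y * x : GL (Fin 3) F) : Matrix (Fin 3) (Fin 3) F) := by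
    rw [← Units.val_mul, hc, hxy]
  calc ((⁅x, y⁆ : GL (Fin 3) F) : Matrix (Fin 3) (Fin 3) F)
      = ((⁅x, y⁆ : GL (Fin 3) F) : Matrix (Fin 3) (Fin 3) F) *
          (((y * x : GL (Fin 3) F) : Matrix (Fin 3) (Fin 3) F) *
            (((y * x)⁻¹ : GL (Fin 3) F) : Matrix (Fin 3) (Fin 3) F)) := by
        rw [← Units.val_mul, mul_inv_cancel, Units.val_one, Matrix.mul_one]
    _ = _ := by
        rw [← Matrix.mul_assoc, h3, Matrix.smul_mul, ← Units.val_mul, mul_inv_cancel, Units.val_one]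

theorem hv_cube : ∀ x ∈ hvE hF ω hω, x ^ 3 = 1 := fun x hx => hvSet_cube hF ω hω hx

theorem hv_scal : Zs (Fin 3) F ≤ hvE hF ω hω := by
  intro g hg
  obtain ⟨c, hc⟩ := mem_Zs.mp hg
  exact ⟨c, 0, 0, c.ne_zero, by rw [hc, hvK_zero]⟩

include hF in
theorem hv_isU_pow {M : Matrix (Fin 3) (Fin 3) F} (hM : IsU 2 M) (k : ℕ) : IsU 2 (M ^ k) := by
  induction k with
  | zero =>
    rw [pow_zero]
    exact (SU32b.P_one hF).2
  | succ k ih =>
    rw [pow_succ]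
    exact isU_mul hF ih hM

include hF hω in
theorem hv_isU_K (u v : ℕ) : IsU 2 (hvK ω u v) := by
  have h2 := SU32b.two_eq_zero hF
  exact isU_mul hF (hv_isU_pow hF (isU_Mc ω hω h2) u) (hv_isU_pow hF (isU_Md ω hω h2) v)

include hF in
theorem hv_isU_smul {ζ : F} (hζ : ζ ≠ 0) {M : Matrix (Fin 3) (Fin 3) F} (hM : IsU 2 M) :
    IsU 2 (ζ • M) := by
  rw [Matrix.smul_eq_diagonal_mul]
  exact isU_mul hF (isU_diagonal hF _ (fun _ => hv_unit_cube hF hζ)) hM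

theorem hv_unit : hvE hF ω hω ≤ GU 3 F 2 := by
  rintro g ⟨ζ, u, v, hζ, hg⟩
  rw [mem_GU_iff' hF, hg]
  exact hv_isU_smul hF hζ (hv_isU_K hF ω hω u v)

end props

section props2
variable {F : Type*} [Field F] [Fintype F] (hF : Fintype.card F = 2 ^ 2)
variable (ω : F) (hω : ω ^ 2 + ω + 1 = 0)

/-- the Fourier matrix as a group element -/
noncomputable def hvW : GL (Fin 3) F :=
  Matrix.GeneralLinearGroup.mkOfDetNeZero (Mm ω) (by
    rw [det_Mm ω hω (SU32b.two_eq_zero hF)]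
    exact one_ne_zero)

theorem hvW_val : ((hvW hF ω hω : GL (Fin 3) F) : Matrix (Fin 3) (Fin 3) F) = Mm ω := rfl

theorem hv_conjW_val {x : GL (Fin 3) F} {ζ : F} {u v : ℕ}
    (hx : (x : Matrix (Fin 3) (Fin 3) F) = ζ • hvK ω u v) :
    ((hvW hF ω hω * x * (hvW hF ω hω)⁻¹ : GL (Fin 3) F) : Matrix (Fin 3) (Fin 3) F) =
      (ζ * (ω ^ 2) ^ (v * (2 * u))) • hvK ω v (2 * u) := by
  apply hv_conj_val
  rw [hvW_val, hx, Matrix.mul_smul, hv_conjW ω hω (SU32b.two_eq_zero hF), smul_smul, Matrix.smul_mul]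

theorem hv_wnorm : ∀ x ∈ hvE hF ω hω, hvW hF ω hω * x * (hvW hF ω hω)⁻¹ ∈ hvE hF ω hω := by
  rintro x ⟨ζ, u, v, hζ, hx⟩
  exact ⟨_, v, 2 * u, mul_ne_zero hζ (pow_ne_zero _ (pow_ne_zero _ (hv_omega_ne_zero ω hω))),
    hv_conjW_val hF ω hω hx⟩

theorem hv_arith : ∀ u < 3, ∀ v < 3, v * v ≡ u * (2 * u) [MOD 3] → u = 0 ∧ v = 0 := by decide

theorem hv_factC : ∀ x ∈ hvE hF ω hω, x ∉ Zs (Fin 3) F →
    x * (hvW hF ω hω * x * (hvW hF ω hω)⁻¹) ≠ (hvW hF ω hω * x * (hvW hF ω hω)⁻¹) * x := by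
  rintro x ⟨ζ, u, v, hζ, hx⟩ hxZ hcomm
  have h2 := SU32b.two_eq_zero hF
  rw [hvK_mod ω hω h2] at hx
  have hu : u % 3 < 3 := Nat.mod_lt _ (by norm_num)
  have hv : v % 3 < 3 := Nat.mod_lt _ (by norm_num)
  generalize u % 3 = u0 at hx hu
  generalize v % 3 = v0 at hx hv
  have hy := hv_conjW_val hF ω hω hx
  have h1 := congrArg (fun g : GL (Fin 3) F => (g : Matrix (Fin 3) (Fin 3) F)) hcomm
  simp only [Units.val_mul] at h1
  rw [Units.val_mul, Units.val_mul] at hy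
  rw [hy, hx, smul_mul_smul_comm, smul_mul_smul_comm, hvK_mul ω hω h2, hvK_mul ω hω h2, smul_smul,
    smul_smul, add_comm v0 u0, add_comm (2 * u0) v0] at h1
  have hε : (ω ^ 2 : F) ≠ 0 := pow_ne_zero _ (hv_omega_ne_zero ω hω)
  have hK0 : hvK ω (u0 + v0) (v0 + 2 * u0) ≠ 0 := by
    intro h0
    have := det_hvK ω hω h2 (u0 + v0) (v0 + 2 * u0)
    rw [h0, Matrix.det_zero] at this
    exact zero_ne_one this
  have h3 : ζ * (ζ * (ω ^ 2) ^ (v0 * (2 * u0))) * (ω ^ 2) ^ (v0 * v0) =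
      ζ * (ω ^ 2) ^ (v0 * (2 * u0)) * ζ * (ω ^ 2) ^ (u0 * (2 * u0)) := by
    by_contra hne
    have := sub_smul (ζ * (ζ * (ω ^ 2) ^ (v0 * (2 * u0))) * (ω ^ 2) ^ (v0 * v0))
      (ζ * (ω ^ 2) ^ (v0 * (2 * u0)) * ζ * (ω ^ 2) ^ (u0 * (2 * u0))) (hvK ω (u0 + v0) (v0 + 2 * u0))
    rw [h1, sub_self] at this
    rcases smul_eq_zero.mp this with h | h
    · exact hne (sub_eq_zero.mp h)
    · exact hK0 h
  have h4 : (ω ^ 2) ^ (v0 * v0) = (ω ^ 2) ^ (u0 * (2 * u0)) := by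
    have hc : ζ * (ζ * (ω ^ 2) ^ (v0 * (2 * u0))) ≠ 0 :=
      mul_ne_zero hζ (mul_ne_zero hζ (pow_ne_zero _ hε))
    apply mul_left_cancel₀ hc
    rw [h3]
    ring
  have hfin : IsOfFinOrder (ω ^ 2) := isOfFinOrder_iff_pow_eq_one.mpr ⟨3, by norm_num, hv_eps_cube ω hω⟩
  rw [hfin.pow_eq_pow_iff_modEq, hv_orderOf ω hω h2] at h4
  obtain ⟨rfl, rfl⟩ := hv_arith u0 hu v0 hv h4
  apply hxZ
  refine mem_Zs.mpr ⟨Units.mk0 ζ hζ, ?_⟩
  rw [hx, hvK_zero, Units.val_mk0]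

end props2

section nrm
variable {F : Type*} [Field F] [Fintype F] (hF : Fintype.card F = 2 ^ 2)
variable (ω : F) (hω : ω ^ 2 + ω + 1 = 0)

include hF hω in
theorem hv_omega_ne_one : ω ≠ 1 := by
  rintro rfl
  have h2 := SU32b.two_eq_zero hF
  have : (1 : F) = 0 := by linear_combination hω - h2
  exact one_ne_zero this

include hF in
theorem hv_P_scalar {l : F} (hl : l ≠ 0) : SU32b.P (Matrix.diagonal (fun _ : Fin 3 => l)) := by
  refine ⟨?_, isU_diagonal hF _ (fun _ => hv_unit_cube hF hl)⟩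
  rw [det_scalar 3 l, hv_unit_cube hF hl]

include hF hω in
theorem hv_P_K (u v : ℕ) : SU32b.P (hvK ω u v) :=
  ⟨det_hvK ω hω (SU32b.two_eq_zero hF) u v, hv_isU_K hF ω hω u v⟩

include hω in
theorem hv_toG_smul {l : F} (hl : l ≠ 0) (u v : ℕ) :
    SU32b.toG hF (l • hvK ω u v) = SU32b.toG hF (hvK ω u v) := by
  rw [Matrix.smul_eq_diagonal_mul, SU32b.toG_mul hF (hv_P_scalar hF hl) (hv_P_K hF ω hω u v),
    SU32b.toG_scalar hF l (hv_P_scalar hF hl), one_mul]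

include hω in
theorem hv_toG_K_mul (u v u' v' : ℕ) :
    SU32b.toG hF (hvK ω u v) * SU32b.toG hF (hvK ω u' v') = SU32b.toG hF (hvK ω (u + u') (v + v')) := by
  rw [← SU32b.toG_mul hF (hv_P_K hF ω hω u v) (hv_P_K hF ω hω u' v'),
    hvK_mul ω hω (SU32b.two_eq_zero hF),
    hv_toG_smul hF ω hω (pow_ne_zero _ (pow_ne_zero _ (hv_omega_ne_zero ω hω)))]

include hω in
theorem hv_mem_NN_of_cube (y : Cfsg.PSU 3 F 2) (hy : y ^ 3 = 1) :
    y ∈ Ext9Q8.NN (SU32b.toG hF (Mc : Matrix (Fin 3) (Fin 3) F)) (SU32b.toG hF (Md ω)) := by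
  have R := SU32b.rel hF ω hω (hv_omega_ne_one hF ω hω)
  have hcard := SU32b.card_G hF
  haveI := Ext9Q8.normal_NN R hcard
  have h9 := Ext9Q8.card_NN R hcard
  have hq : Nat.card (Cfsg.PSU 3 F 2 ⧸ Ext9Q8.NN (SU32b.toG hF (Mc : Matrix (Fin 3) (Fin 3) F)) (SU32b.toG hF (Md ω))) = 8 := by
    have := Subgroup.card_eq_card_quotient_mul_card_subgroup
      (Ext9Q8.NN (SU32b.toG hF (Mc : Matrix (Fin 3) (Fin 3) F)) (SU32b.toG hF (Md ω)))
    rw [hcard, h9] at this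
    omega
  rw [← QuotientGroup.eq_one_iff]
  have h8 : ((y : Cfsg.PSU 3 F 2 ⧸ Ext9Q8.NN (SU32b.toG hF (Mc : Matrix (Fin 3) (Fin 3) F)) (SU32b.toG hF (Md ω)))) ^ 8 = 1 := by
    rw [← hq]
    exact pow_card_eq_one'
  have h3 : ((y : Cfsg.PSU 3 F 2 ⧸ Ext9Q8.NN (SU32b.toG hF (Mc : Matrix (Fin 3) (Fin 3) F)) (SU32b.toG hF (Md ω)))) ^ 3 = 1 := by
    rw [← QuotientGroup.mk_pow, hy, QuotientGroup.mk_one]
  have h99 : ((y : Cfsg.PSU 3 F 2 ⧸ Ext9Q8.NN (SU32b.toG hF (Mc : Matrix (Fin 3) (Fin 3) F)) (SU32b.toG hF (Md ω)))) ^ 9 = 1 := by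
    rw [show 9 = 3 * 3 by norm_num, pow_mul, h3, one_pow]
  rw [pow_succ, h8, one_mul] at h99
  exact h99

include hω in
theorem hv_NN_rep : ∀ y ∈ Ext9Q8.NN (SU32b.toG hF (Mc : Matrix (Fin 3) (Fin 3) F)) (SU32b.toG hF (Md ω)),
    ∃ i j : ℕ, y = SU32b.toG hF (hvK ω i j) := by
  have R := SU32b.rel hF ω hω (hv_omega_ne_one hF ω hω)
  have hmul : ∀ a b : Cfsg.PSU 3 F 2, (∃ i j : ℕ, a = SU32b.toG hF (hvK ω i j)) →
      (∃ i j : ℕ, b = SU32b.toG hF (hvK ω i j)) → ∃ i j : ℕ, a * b = SU32b.toG hF (hvK ω i j) := by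
    rintro a b ⟨i, j, rfl⟩ ⟨i', j', rfl⟩
    exact ⟨i + i', j + j', hv_toG_K_mul hF ω hω i j i' j'⟩
  intro y hy
  unfold Ext9Q8.NN at hy
  induction hy using Subgroup.closure_induction with
  | mem u hu =>
    rcases hu with rfl | rfl
    · exact ⟨1, 0, by simp [hvK]⟩
    · exact ⟨0, 1, by simp [hvK]⟩
  | one => exact ⟨0, 0, by rw [hvK_zero, SU32b.toG_one]⟩
  | mul u v hu hv h1 h2 => exact hmul u v h1 h2
  | inv u hu h1 =>
    have h3 := Ext9Q8.exp_NN R u hu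
    have : u⁻¹ = u * u := by
      rw [inv_eq_iff_mul_eq_one, ← h3, pow_succ, pow_succ, pow_one, mul_assoc]
    rw [this]
    exact hmul u u h1 h1

theorem hv_norm : ∀ U ∈ GU 3 F 2, ∀ x ∈ hvE hF ω hω, U * x * U⁻¹ ∈ hvE hF ω hω := by
  intro U hU x hx
  have h2 := SU32b.two_eq_zero hF
  have hxU : x ∈ GU 3 F 2 := hv_unit hF ω hω hx
  have hYU : U * x * U⁻¹ ∈ GU 3 F 2 := Subgroup.mul_mem _ (Subgroup.mul_mem _ hU hxU) (Subgroup.inv_mem _ hU)
  have hY3 : (U * x * U⁻¹) ^ 3 = 1 := by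
    rw [conj_pow, hv_cube hF ω hω x hx, mul_one, mul_inv_cancel]
  obtain ⟨ζ, u, v, hζ, hxv⟩ := hx
  have hdet : ((U * x * U⁻¹ : GL (Fin 3) F) : Matrix (Fin 3) (Fin 3) F).det = 1 := by
    rw [Units.val_mul, Units.val_mul, Matrix.det_mul, Matrix.det_mul, mul_right_comm,
      ← Matrix.det_mul, ← Units.val_mul, mul_inv_cancel, Units.val_one, Matrix.det_one, one_mul,
      hxv, Matrix.det_smul, det_hvK ω hω h2, mul_one, Fintype.card_fin, hv_unit_cube hF hζ]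
  have hP : SU32b.P ((U * x * U⁻¹ : GL (Fin 3) F) : Matrix (Fin 3) (Fin 3) F) :=
    ⟨hdet, (mem_GU_iff' hF _).mp hYU⟩
  have hYYY : ((U * x * U⁻¹ : GL (Fin 3) F) : Matrix (Fin 3) (Fin 3) F) *
      ((U * x * U⁻¹ : GL (Fin 3) F) : Matrix (Fin 3) (Fin 3) F) *
      ((U * x * U⁻¹ : GL (Fin 3) F) : Matrix (Fin 3) (Fin 3) F) = 1 := by
    have h := hY3
    rw [pow_succ, pow_succ, pow_one] at h
    rw [← Units.val_mul, ← Units.val_mul, h]
    rfl
  have hg3 : SU32b.toG hF ((U * x * U⁻¹ : GL (Fin 3) F) : Matrix (Fin 3) (Fin 3) F) ^ 3 = 1 := by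
    rw [pow_succ, pow_succ, pow_one, ← SU32b.toG_mul hF hP hP,
      ← SU32b.toG_mul hF (SU32b.P_mul hF hP hP) hP, hYYY, SU32b.toG_one]
  obtain ⟨i, j, hij⟩ := hv_NN_rep hF ω hω _ (hv_mem_NN_of_cube hF ω hω _ hg3)
  obtain ⟨l, hl⟩ := SU32b.toG_eq hF hP (hv_P_K hF ω hω i j) hij
  have hl0 : l ≠ 0 := by
    rintro rfl
    have h0 : hvK ω i j = 0 := by
      rw [← hl]
      ext a b
      simp [Matrix.mul_apply, Matrix.diagonal_apply]
    have := det_hvK ω hω h2 i j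
    rw [h0, Matrix.det_zero] at this
    exact zero_ne_one this
  refine ⟨l⁻¹, i, j, inv_ne_zero hl0, ?_⟩
  rw [← hl, ← Matrix.smul_eq_mul_diagonal, smul_smul, inv_mul_cancel₀ hl0, one_smul]

include hF in
theorem exists_heisData' : ∃ (E : Subgroup (GL (Fin 3) F)) (W : GL (Fin 3) F), HeisData F E W := by
  obtain ⟨ω, hω, -⟩ := SU32b.exists_omega hF
  exact ⟨hvE hF ω hω, hvW hF ω hω,
    { span := hv_span hF ω hω
      comm := hv_comm hF ω hω
      cube := hv_cube hF ω hω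
      scal := hv_scal hF ω hω
      unit := hv_unit hF ω hω
      wnorm := hv_wnorm hF ω hω
      factC := hv_factC hF ω hω
      norm := hv_norm hF ω hω }⟩

end nrm

end Cfsg.Agent.Lib.Helper9.AschU
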