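import Mathlib
import Cfsg.Prelude.Def_PLocal
import Cfsg.Agent.Lib.Helper2.BAUFrame
import Cfsg.Agent.Lib.Helper1.BAUe
import Cfsg.Agent.Lib.Helper3.BAUa

/-!
# S2768 rider units (T1), (T2), (T3) (helper9), verbatim from helper2's stubs
-/

set_option autoImplicit false
set_option linter.unusedVariables false
set_option linter.unusedSectionVars false

namespace Cfsg.Agent.Lib.Helper9.BAU9

open Cfsg.Agent.Lib.Helper2.BAU
open scoped commutatorElement

variable {G : Type*} [Group G] [Finite G]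

/-- `x g x⁻¹ g⁻¹ ∈ N` iff the images of `x`, `g` commute in `G ⧸ N`. -/
theorem comm_mod_iff' (N : Subgroup G) [N.Normal] (x y : G) :
    x * y * x⁻¹ * y⁻¹ ∈ N ↔ (QuotientGroup.mk' N x) * (QuotientGroup.mk' N y)
      = (QuotientGroup.mk' N y) * (QuotientGroup.mk' N x) := by
  rw [← commutatorElement_def, ← commutatorElement_eq_one_iff_mul_comm,
    ← map_commutatorElement, ← MonoidHom.mem_ker, QuotientGroup.ker_mk']

/-- (T1) -/
theorem t1 (S Q : Subgroup G) (F : Frame S Q) (hJQ : JJ S ⊔ Q = S)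
    (hn : (Q0 S).Normal) (hQ0 : Q0 S = Jt S ⊓ Q)
    (hs2 : ∀ x ∈ Lt S, ∀ g ∈ Q, x * g * x⁻¹ * g⁻¹ ∈ Q0 S) :
    S ⊓ Lt S = Jt S ⊔ (Lt S ⊓ Q) ∧
    ∀ a ∈ S ⊓ Lt S, ∀ b ∈ S ⊓ Lt S, a * b * a⁻¹ * b⁻¹ ∈ Q0 S := by
  have hQn := F.normal
  have hJL : Jt S ≤ Lt S := Subgroup.le_normalClosure
  have hdec : ∀ t : G, t ∈ S → t ∈ Lt S → ∃ j ∈ Jt S, ∃ z ∈ Q, z ∈ Lt S ∧ t = j * z := by
    intro t htS htL
    have h1 : t ∈ Jt S ⊔ Q := by
      have : S ≤ Jt S ⊔ Q := by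
        calc S = JJ S ⊔ Q := hJQ.symm
          _ ≤ Jt S ⊔ Q := sup_le_sup_right (JJ_le_Jt S) Q
      exact this htS
    rw [Subgroup.mem_sup_of_normal_right] at h1
    obtain ⟨j, hj, z, hz, rfl⟩ := h1
    refine ⟨j, hj, z, hz, ?_, rfl⟩
    have := (Lt S).mul_mem ((Lt S).inv_mem (hJL hj)) htL
    rwa [inv_mul_cancel_left] at this
  refine ⟨?_, ?_⟩
  · apply le_antisymm
    · rintro t ⟨htS, htL⟩
      obtain ⟨j, hj, z, hz, hzL, rfl⟩ := hdec t htS htL
      exact Subgroup.mul_mem_sup hj ⟨hzL, hz⟩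
    · apply sup_le
      · exact le_inf (Jt_le S) hJL
      · exact le_inf (inf_le_right.trans F.le) inf_le_left
  · rintro a ⟨haS, haL⟩ b ⟨hbS, hbL⟩
    obtain ⟨j, hj, z, hz, hzL, rfl⟩ := hdec a haS haL
    obtain ⟨j', hj', z', hz', hzL', rfl⟩ := hdec b hbS hbL
    have hzc : ∀ z ∈ Q, ∀ w ∈ Lt S, (QuotientGroup.mk' (Q0 S) z) * (QuotientGroup.mk' (Q0 S) w)
        = (QuotientGroup.mk' (Q0 S) w) * (QuotientGroup.mk' (Q0 S) z) := by
      intro z hz w hw
      exact ((comm_mod_iff' (Q0 S) w z).mp (hs2 w hw z hz)).symm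
    have hjc : (QuotientGroup.mk' (Q0 S) j) * (QuotientGroup.mk' (Q0 S) j')
        = (QuotientGroup.mk' (Q0 S) j') * (QuotientGroup.mk' (Q0 S) j) := by
      rw [← comm_mod_iff', hQ0]
      refine ⟨?_, F.ab j (Jt_le S hj) j' (Jt_le S hj')⟩
      exact (Jt S).mul_mem ((Jt S).mul_mem ((Jt S).mul_mem hj hj') ((Jt S).inv_mem hj))
        ((Jt S).inv_mem hj')
    rw [comm_mod_iff', map_mul, map_mul]
    have e1 := hzc z hz j' (hJL hj')
    have e2 := hzc z hz z' hzL'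
    have e3 := hzc z' hz' j (hJL hj)
    set a1 := QuotientGroup.mk' (Q0 S) j
    set a2 := QuotientGroup.mk' (Q0 S) z
    set b1 := QuotientGroup.mk' (Q0 S) j'
    set b2 := QuotientGroup.mk' (Q0 S) z'
    calc a1 * a2 * (b1 * b2) = a1 * (a2 * b1) * b2 := by group
      _ = a1 * (b1 * a2) * b2 := by rw [e1]
      _ = (a1 * b1) * (a2 * b2) := by group
      _ = (b1 * a1) * (b2 * a2) := by rw [hjc, e2]
      _ = b1 * (a1 * b2) * a2 := by group
      _ = b1 * (b2 * a1) * a2 := by rw [e3]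
      _ = b1 * b2 * (a1 * a2) := by group

/-- (T2) -/
theorem t2 (S : Subgroup G) (hLS : LL S ⊔ S = ⊤) :
    Subgroup.normalClosure (((Jt S).subgroupOf (Lt S) : Subgroup (Lt S)) : Set (Lt S)) = ⊤ := by
  have hJL : Jt S ≤ Lt S := Subgroup.le_normalClosure
  have hLL : LL S ≤ Lt S := Subgroup.normalClosure_mono (JJ_le_Jt S)
  have hLS' : Lt S ⊔ S = ⊤ := by
    rw [eq_top_iff, ← hLS]
    exact sup_le_sup_right hLL S
  have hJn : ∀ s ∈ S, ∀ x ∈ Jt S, s * x * s⁻¹ ∈ Jt S := by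
    intro s hs x hx
    exact (Cfsg.Agent.Lib.Helper3.BAUa.conj_mem S s (Subgroup.le_normalizer hs)).2.2 x hx
  set D := Subgroup.normalClosure (((Jt S).subgroupOf (Lt S) : Subgroup (Lt S)) : Set (Lt S))
    with hD
  have hLD : Lt S ≤ D.map (Lt S).subtype := by
    have hcl0 : Subgroup.closure (Group.conjugatesOfSet (Jt S : Set G))
        ≤ D.map (Lt S).subtype := by
      rw [Subgroup.closure_le]
      intro y hy
      rw [Group.mem_conjugatesOfSet_iff] at hy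
      obtain ⟨x, hx, hxy⟩ := hy
      obtain ⟨g, rfl⟩ := isConj_iff.mp hxy
      have hg : g ∈ Lt S ⊔ S := by rw [hLS']; exact Subgroup.mem_top g
      have hLtn : (Lt S).Normal := Subgroup.normalClosure_normal
      rw [Subgroup.mem_sup_of_normal_left] at hg
      obtain ⟨l, hl, s, hs, rfl⟩ := hg
      have hsx : s * x * s⁻¹ ∈ Jt S := hJn s hs x hx
      have hmem : (⟨l, hl⟩ : Lt S) * ⟨s * x * s⁻¹, hJL hsx⟩ * (⟨l, hl⟩ : Lt S)⁻¹ ∈ D := by
        apply (Subgroup.normalClosure_normal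
          (s := (((Jt S).subgroupOf (Lt S) : Subgroup (Lt S)) : Set (Lt S)))).conj_mem
        apply Subgroup.subset_normalClosure
        exact Subgroup.mem_subgroupOf.mpr hsx
      refine ⟨_, hmem, ?_⟩
      simp only [Subgroup.coe_subtype, Subgroup.coe_mul, Subgroup.coe_inv]
      group
    exact hcl0
  rw [eq_top_iff]
  intro a _
  obtain ⟨d, hd, hda⟩ := hLD a.2
  have : d = a := Subtype.ext hda
  rwa [← this]

/-- (T3) -/
theorem t3 (S Q : Subgroup G) {p : ℕ} [Fact p.Prime]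
    (P : Sylow p (Lt S)) (hP : (P : Subgroup (Lt S)) = (S ⊓ Lt S).subgroupOf (Lt S))
    (hn : (Q0 S).Normal) (hQ0 : Q0 S = Jt S ⊓ Q)
    (hT : S ⊓ Lt S = Jt S ⊔ (Lt S ⊓ Q))
    (hab : ∀ a ∈ S ⊓ Lt S, ∀ b ∈ S ⊓ Lt S, a * b * a⁻¹ * b⁻¹ ∈ Q0 S)
    (hs2 : ∀ x ∈ Lt S, ∀ g ∈ Q, x * g * x⁻¹ * g⁻¹ ∈ Q0 S)
    (hgen : Subgroup.normalClosure (((Jt S).subgroupOf (Lt S) : Subgroup (Lt S)) : Set (Lt S)) = ⊤) :
    S ⊓ Lt S = Jt S := by
  have hJL : Jt S ≤ Lt S := Subgroup.le_normalClosure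
  have hJT : Jt S ≤ S ⊓ Lt S := le_inf (Jt_le S) hJL
  have hNn : ((Q0 S).subgroupOf (Lt S)).Normal := hn.subgroupOf (Lt S)
  have key := Cfsg.Agent.Lib.Helper1.BAUe.endgame P ((Q0 S).subgroupOf (Lt S))
    ((Jt S).subgroupOf (Lt S)) ((Lt S ⊓ Q).subgroupOf (Lt S))
    (by
      apply Subgroup.comap_mono
      rw [hQ0]; exact inf_le_left)
    (by
      rw [hP]; exact Subgroup.comap_mono hJT)
    (by
      intro a ha b hb
      rw [hP, Subgroup.mem_subgroupOf] at ha hb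
      rw [Subgroup.mem_subgroupOf]
      exact hab a.1 ha b.1 hb)
    (by
      rw [hP, hT, Subgroup.subgroupOf_sup hJL inf_le_left])
    (by
      intro d hd x
      rw [Subgroup.mem_subgroupOf] at hd ⊢
      have h1 := hs2 x.1 x.2 d.1 hd.2
      have h3 := (Q0 S).inv_mem h1
      have e : ((d * x * d⁻¹ * x⁻¹ : Lt S) : G)
          = ((x : G) * d.1 * (x : G)⁻¹ * (d.1)⁻¹)⁻¹ := by
        simp only [Subgroup.coe_mul, Subgroup.coe_inv]
        group
      rw [e]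
      exact h3)
    (by
      intro x hx r hr
      rw [Subgroup.mem_subgroupOf] at hr ⊢
      -- `x` normalizes `T₀ = S ⊓ Lt S` in `G`
      have hx1 : (x : G) ∈ Subgroup.normalizer ((S ⊓ Lt S : Subgroup G) : Set G) := by
        rw [hP] at hx
        rw [Subgroup.mem_normalizer_iff]
        intro y
        constructor
        · rintro ⟨hyS, hyL⟩
          have := (Subgroup.mem_normalizer_iff.mp hx ⟨y, hyL⟩).mp
            (Subgroup.mem_subgroupOf.mpr ⟨hyS, hyL⟩)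
          rw [Subgroup.mem_subgroupOf] at this
          exact this
        · rintro ⟨hyS, hyL⟩
          have hyL' : y ∈ Lt S := by
            have := (Lt S).mul_mem ((Lt S).mul_mem ((Lt S).inv_mem x.2) hyL) x.2
            simpa [mul_assoc] using this
          have := (Subgroup.mem_normalizer_iff.mp hx ⟨y, hyL'⟩).mpr
            (Subgroup.mem_subgroupOf.mpr ⟨hyS, hyL⟩)
          rw [Subgroup.mem_subgroupOf] at this
          exact this
      have h1 := (Cfsg.Agent.Lib.Helper3.BAUa.conj_mem (S ⊓ Lt S) (x : G) hx1).2.2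
      have h2 : Jt (S ⊓ Lt S) = Jt S :=
        Cfsg.Agent.Lib.Helper3.BAUa.Jt_eq_of_le S (S ⊓ Lt S) inf_le_left hJT
      rw [h2] at h1
      exact h1 r.1 hr)
    hgen
  rw [hP, Subgroup.subgroupOf_inj] at key
  rw [inf_of_le_left (inf_le_right : S ⊓ Lt S ≤ Lt S), inf_of_le_left hJL] at key
  exact key

end Cfsg.Agent.Lib.Helper9.BAU9
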