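import Mathlib
import Cfsg.Prelude
import Cfsg.Agent.Lib.Helper5.QuadTwo.Hyp
import Cfsg.Agent.Lib.Helper5.SubspaceFrames

set_option autoImplicit false
set_option linter.unusedSectionVars false
set_option linter.unusedVariables false
set_option linter.style.longLine false
set_option linter.unusedSimpArgs false
open Cfsg

set_option maxHeartbeats 1600000
namespace Cfsg.Agent.Lib.Helper9.BG

open QuadraticMap Module
open Cfsg.Agent.Lib.Helper5.QuadTwo

universe u v

section split

theorem card_split {α : Type*} [Finite α] (P R : α → Prop) :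
    Nat.card {x // P x} = Nat.card {x // P x ∧ R x} + Nat.card {x // P x ∧ ¬ R x} := by
  classical
  haveI := Fintype.ofFinite α
  rw [Nat.card_eq_fintype_card, Nat.card_eq_fintype_card, Nat.card_eq_fintype_card,
    Fintype.card_subtype, Fintype.card_subtype, Fintype.card_subtype]
  rw [← Finset.filter_filter, ← Finset.filter_filter]
  exact (Finset.card_filter_add_card_filter_not _).symm

end split

section frames
variable {F : Type u} [Field F] [Fintype F] {V : Type v} [AddCommGroup V] [Module F V]
  [FiniteDimensional F V]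
variable (Q : QuadraticForm F V)

/-- `Q` vanishes on `W` -/
def TS (W : Submodule F V) : Prop := ∀ w ∈ W, Q w = 0

omit [Fintype F] [FiniteDimensional F V] in
theorem polar_of_ts {W : Submodule F V} (h : TS Q W) {x y : V} (hx : x ∈ W) (hy : y ∈ W) :
    polar Q x y = 0 := by
  unfold polar
  rw [h _ (W.add_mem hx hy), h x hx, h y hy]
  ring

omit [Fintype F] [FiniteDimensional F V] in
theorem nd_bilin (hQ : Nd Q) : (polarBilin Q).Nondegenerate := by
  constructor
  · intro x hx
    apply hQ x
    intro w
    have := hx w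
    rwa [polarBilin_apply_apply, polar_comm] at this
  · intro y hy
    apply hQ y
    intro w
    have := hy w
    rwa [polarBilin_apply_apply] at this

omit [Fintype F] [FiniteDimensional F V] in
theorem mem_orth_span {k : ℕ} (s : Fin k → V) (x : V) :
    x ∈ LinearMap.BilinForm.orthogonal (polarBilin Q) (Submodule.span F (Set.range s)) ↔
      ∀ a, polar Q (s a) x = 0 := by
  rw [LinearMap.BilinForm.mem_orthogonal_iff]
  constructor
  · intro h a
    have := h (s a) (Submodule.subset_span ⟨a, rfl⟩)
    rwa [polarBilin_apply_apply] at this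
  · intro h n hn
    have h1 : Submodule.span F (Set.range s) ≤ LinearMap.ker ((polarBilin Q).flip x) := by
      rw [Submodule.span_le]
      rintro _ ⟨a, rfl⟩
      rw [SetLike.mem_coe, LinearMap.mem_ker]
      show polarBilin Q (s a) x = 0
      rw [polarBilin_apply_apply]
      exact h a
    have h2 := h1 hn
    rw [LinearMap.mem_ker] at h2
    exact h2

theorem card_perp {k : ℕ} (hQ : Nd Q) (s : Fin k → V) (hs : LinearIndependent F s) :
    Nat.card {x : V // ∀ a, polar Q (s a) x = 0} = Fintype.card F ^ (finrank F V - k) := by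
  classical
  have : Finite V := Module.finite_of_finite F
  have h1 : Nat.card {x : V // ∀ a, polar Q (s a) x = 0} =
      Nat.card (LinearMap.BilinForm.orthogonal (polarBilin Q) (Submodule.span F (Set.range s))) :=
    Nat.card_congr (Equiv.subtypeEquivRight (fun x => (mem_orth_span Q s x).symm))
  rw [h1, Module.natCard_eq_pow_finrank (K := F), Nat.card_eq_fintype_card,
    LinearMap.BilinForm.finrank_orthogonal (nd_bilin Q hQ), finrank_span_eq_card hs,
    Fintype.card_fin]

/-- the number of singular vectors orthogonal to a family -/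
noncomputable def Zs {k : ℕ} (s : Fin k → V) : ℕ :=
  Nat.card {x : V // Q x = 0 ∧ ∀ a, polar Q (s a) x = 0}

/-- the hyperplane step -/
theorem zs_step {k : ℕ} (hQ : Nd Q) (s : Fin k → V) (v : V) (hv : Q v = 0)
    (hvs : ∀ a, polar Q (s a) v = 0)
    (hli : LinearIndependent F (Fin.cons v s : Fin (k + 1) → V)) (e : ℕ)
    (he : finrank F V = k + 1 + e) :
    Fintype.card F * Zs Q s + Fintype.card F ^ e =
      Fintype.card F * Zs Q (Fin.cons v s : Fin (k + 1) → V) + Fintype.card F ^ (e + 1) := by
  classical
  have : Finite V := Module.finite_of_finite F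
  have hvv : polar Q v v = 0 := by rw [polar_self, hv, smul_zero]
  have hls : LinearIndependent F s := (linearIndependent_finCons.mp hli).1
  have hcons : ∀ x : V, (∀ a : Fin (k + 1), polar Q ((Fin.cons v s : Fin (k + 1) → V) a) x = 0) ↔
      ((∀ a, polar Q (s a) x = 0) ∧ polar Q v x = 0) := by
    intro x
    rw [Fin.forall_fin_succ]
    simp only [Fin.cons_zero, Fin.cons_succ]
    exact and_comm
  -- (i)
  have h1 := card_split (fun x : V => Q x = 0 ∧ ∀ a, polar Q (s a) x = 0)
    (fun x => polar Q v x = 0)
  -- (ii)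
  have h2 : Nat.card {x : V // (Q x = 0 ∧ ∀ a, polar Q (s a) x = 0) ∧ polar Q v x = 0} =
      Zs Q (Fin.cons v s : Fin (k + 1) → V) := by
    unfold Zs
    apply Nat.card_congr
    apply Equiv.subtypeEquivRight
    intro x
    rw [hcons x]
    tauto
  -- (iv)
  have h4 := card_split (fun x : V => ∀ a, polar Q (s a) x = 0) (fun x => polar Q v x = 0)
  have h4a : Nat.card {x : V // ∀ a, polar Q (s a) x = 0} = Fintype.card F ^ (e + 1) := by
    rw [card_perp Q hQ s hls, he]
    congr 1
    omega
  have h4b : Nat.card {x : V // (∀ a, polar Q (s a) x = 0) ∧ polar Q v x = 0} =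
      Fintype.card F ^ e := by
    have h5 := card_perp Q hQ (Fin.cons v s : Fin (k + 1) → V) hli
    rw [he] at h5
    have h6 : k + 1 + e - (k + 1) = e := by omega
    rw [h6] at h5
    rw [← h5]
    apply Nat.card_congr
    apply Equiv.subtypeEquivRight
    intro x
    exact (hcons x).symm
  -- (iii)
  have h3 : Nat.card {x : V // (Q x = 0 ∧ ∀ a, polar Q (s a) x = 0) ∧ ¬ polar Q v x = 0} *
      Fintype.card F =
      Nat.card {x : V // (∀ a, polar Q (s a) x = 0) ∧ ¬ polar Q v x = 0} := by
    rw [← Nat.card_eq_fintype_card (α := F), ← Nat.card_prod]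
    apply Nat.card_congr
    refine
      { toFun := fun xt => ⟨xt.1.1 + xt.2 • v, ?_, ?_⟩
        invFun := fun y => (⟨y.1 + (-(Q y.1 / polar Q v y.1)) • v, ⟨?_, ?_⟩, ?_⟩,
          Q y.1 / polar Q v y.1)
        left_inv := ?_
        right_inv := ?_ }
    · intro a
      rw [polar_add_right, polar_smul_right, xt.1.2.1.2 a, hvs a, smul_zero, add_zero]
    · rw [polar_add_right, polar_smul_right, hvv, smul_zero, add_zero]
      exact xt.1.2.2
    · have hy := y.2.2
      rw [q_add, q_smul, hv, polar_smul_right, smul_eq_mul, polar_comm Q y.1 v]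
      field_simp
      ring
    · intro a
      rw [polar_add_right, polar_smul_right, y.2.1 a, hvs a, smul_zero, add_zero]
    · rw [polar_add_right, polar_smul_right, hvv, smul_zero, add_zero]
      exact y.2.2
    · rintro ⟨⟨x, ⟨hx0, hxs⟩, hxv⟩, t⟩
      have hq : Q (x + t • v) = t * polar Q v x := by
        rw [q_add, q_smul, hv, hx0, polar_smul_right, smul_eq_mul, polar_comm Q x v]
        ring
      have hp : polar Q v (x + t • v) = polar Q v x := by
        rw [polar_add_right, polar_smul_right, hvv, smul_zero, add_zero]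
      have hc : Q (x + t • v) / polar Q v (x + t • v) = t := by
        rw [hq, hp]
        field_simp
      apply Prod.ext
      · apply Subtype.ext
        show x + t • v + (-(Q (x + t • v) / polar Q v (x + t • v))) • v = x
        rw [hc, neg_smul]
        abel
      · exact hc
    · rintro ⟨y, hys, hyv⟩
      apply Subtype.ext
      show y + (-(Q y / polar Q v y)) • v + (Q y / polar Q v y) • v = y
      rw [neg_smul]
      abel
  unfold Zs at h2 ⊢
  rw [h4a, h4b] at h4
  rw [h1, h2, Nat.mul_add]
  have h7 : Fintype.card F * Nat.card {x : V // (Q x = 0 ∧ ∀ a, polar Q (s a) x = 0) ∧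
      ¬ polar Q v x = 0} =
      Nat.card {x : V // (∀ a, polar Q (s a) x = 0) ∧ ¬ polar Q v x = 0} := by
    rw [mul_comm]
    exact h3
  rw [h7]
  omega

/-- totally singular frames -/
def IsTSFrame {k : ℕ} (s : Fin k → V) : Prop :=
  LinearIndependent F s ∧ TS Q (Submodule.span F (Set.range s))

omit [Fintype F] [FiniteDimensional F V] in
theorem polar_span_right {k : ℕ} (s : Fin k → V) (v : V) (h : ∀ a, polar Q (s a) v = 0)
    {z : V} (hz : z ∈ Submodule.span F (Set.range s)) : polar Q z v = 0 := by
  have h1 := (mem_orth_span Q s v).mpr h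
  rw [LinearMap.BilinForm.mem_orthogonal_iff] at h1
  have := h1 z hz
  rwa [polarBilin_apply_apply] at this

omit [Fintype F] [FiniteDimensional F V] in
theorem tsframe_cons {k : ℕ} (s : Fin k → V) (v : V) :
    IsTSFrame Q (Fin.cons v s : Fin (k + 1) → V) ↔
      IsTSFrame Q s ∧ v ∉ Submodule.span F (Set.range s) ∧ Q v = 0 ∧
        ∀ a, polar Q (s a) v = 0 := by
  unfold IsTSFrame
  rw [linearIndependent_finCons, Fin.range_cons]
  constructor
  · rintro ⟨⟨h1, h2⟩, h3⟩
    have hle : Submodule.span F (Set.range s) ≤ Submodule.span F (insert v (Set.range s)) :=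
      Submodule.span_mono (Set.subset_insert _ _)
    have hv : v ∈ Submodule.span F (insert v (Set.range s)) :=
      Submodule.subset_span (Set.mem_insert _ _)
    refine ⟨⟨h1, fun w hw => h3 w (hle hw)⟩, h2, h3 v hv, fun a => ?_⟩
    exact polar_of_ts Q h3 (hle (Submodule.subset_span ⟨a, rfl⟩)) hv
  · rintro ⟨⟨h1, h2⟩, h3, h4, h5⟩
    refine ⟨⟨h1, h3⟩, ?_⟩
    intro w hw
    obtain ⟨a, z, hz, rfl⟩ := Submodule.mem_span_insert.mp hw
    rw [q_add, q_smul, h4, h2 z hz, polar_smul_left, polar_comm,
      polar_span_right Q s v h5 hz]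
    simp

theorem zs_formula (hQ : Nd Q) : ∀ (k : ℕ) (s : Fin k → V), IsTSFrame Q s →
    Fintype.card F ^ (k + 1) * Zs Q s + Fintype.card F ^ (finrank F V + k) =
      Fintype.card F ^ (k + 1) * zeros Q + Fintype.card F ^ finrank F V := by
  intro k
  induction k with
  | zero =>
    intro s _
    have h1 : Zs Q s = zeros Q := by
      unfold Zs zeros
      apply Nat.card_congr
      apply Equiv.subtypeEquivRight
      intro x
      constructor
      · exact fun h => h.1
      · exact fun h => ⟨h, fun a => a.elim0⟩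
    rw [h1, add_zero]
  | succ k ih =>
    intro s hs
    have hcs : (Fin.cons (s 0) (Fin.tail s) : Fin (k + 1) → V) = s := Fin.cons_self_tail s
    rw [← hcs] at hs ⊢
    obtain ⟨hts, hnot, hv, hvs⟩ := (tsframe_cons Q (Fin.tail s) (s 0)).mp hs
    have hle := hs.1.fintype_card_le_finrank
    rw [Fintype.card_fin] at hle
    obtain ⟨e, he⟩ : ∃ e, finrank F V = k + 1 + e := ⟨finrank F V - (k + 1), by omega⟩
    have hstep := zs_step Q hQ (Fin.tail s) (s 0) hv hvs hs.1 e he
    have hih := ih (Fin.tail s) hts
    rw [he] at hih ⊢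
    have hstepz : ((Fintype.card F : ℤ)) * (Zs Q (Fin.tail s) : ℤ) + (Fintype.card F : ℤ) ^ e =
        (Fintype.card F : ℤ) * (Zs Q (Fin.cons (s 0) (Fin.tail s) : Fin (k + 1) → V) : ℤ) +
          (Fintype.card F : ℤ) ^ (e + 1) := by exact_mod_cast hstep
    have hihz : (Fintype.card F : ℤ) ^ (k + 1) * (Zs Q (Fin.tail s) : ℤ) +
        (Fintype.card F : ℤ) ^ (k + 1 + e + k) =
        (Fintype.card F : ℤ) ^ (k + 1) * (zeros Q : ℤ) + (Fintype.card F : ℤ) ^ (k + 1 + e) := by
      exact_mod_cast hih
    have goalz : (Fintype.card F : ℤ) ^ (k + 1 + 1) *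
        (Zs Q (Fin.cons (s 0) (Fin.tail s) : Fin (k + 1) → V) : ℤ) +
        (Fintype.card F : ℤ) ^ (k + 1 + e + (k + 1)) =
        (Fintype.card F : ℤ) ^ (k + 1 + 1) * (zeros Q : ℤ) +
          (Fintype.card F : ℤ) ^ (k + 1 + e) := by
      linear_combination (Fintype.card F : ℤ) * hihz - (Fintype.card F : ℤ) ^ (k + 1) * hstepz
    exact_mod_cast goalz

theorem card_fiber_ts {k : ℕ} (s : Fin k → V) (hs : IsTSFrame Q s) :
    Nat.card {x : V // x ∉ Submodule.span F (Set.range s) ∧ Q x = 0 ∧
      ∀ a, polar Q (s a) x = 0} + Fintype.card F ^ k = Zs Q s := by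
  classical
  have : Finite V := Module.finite_of_finite F
  have h1 := card_split (fun x : V => Q x = 0 ∧ ∀ a, polar Q (s a) x = 0)
    (fun x => x ∈ Submodule.span F (Set.range s))
  have h2 : Nat.card {x : V // (Q x = 0 ∧ ∀ a, polar Q (s a) x = 0) ∧
      x ∈ Submodule.span F (Set.range s)} = Fintype.card F ^ k := by
    have h3 : Nat.card {x : V // (Q x = 0 ∧ ∀ a, polar Q (s a) x = 0) ∧
        x ∈ Submodule.span F (Set.range s)} = Nat.card (Submodule.span F (Set.range s)) := by
      apply Nat.card_congr
      apply Equiv.subtypeEquivRight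
      intro x
      constructor
      · exact fun h => h.2
      · intro h
        exact ⟨⟨hs.2 x h, fun a => polar_of_ts Q hs.2 (Submodule.subset_span ⟨a, rfl⟩) h⟩, h⟩
    rw [h3, Module.natCard_eq_pow_finrank (K := F), Nat.card_eq_fintype_card,
      finrank_span_eq_card hs.1, Fintype.card_fin]
  have h4 : Nat.card {x : V // (Q x = 0 ∧ ∀ a, polar Q (s a) x = 0) ∧
      ¬ x ∈ Submodule.span F (Set.range s)} =
      Nat.card {x : V // x ∉ Submodule.span F (Set.range s) ∧ Q x = 0 ∧
        ∀ a, polar Q (s a) x = 0} := by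
    apply Nat.card_congr
    apply Equiv.subtypeEquivRight
    intro x
    exact and_comm
  unfold Zs
  rw [h1, h2, h4, add_comm]

theorem card_tsframes_succ (k z : ℕ) (hz : ∀ s : Fin k → V, IsTSFrame Q s → Zs Q s = z) :
    Nat.card {s : Fin (k + 1) → V // IsTSFrame Q s} =
      Nat.card {s : Fin k → V // IsTSFrame Q s} * (z - Fintype.card F ^ k) := by
  classical
  have : Finite V := Module.finite_of_finite F
  haveI : Fintype {s : Fin k → V // IsTSFrame Q s} := Fintype.ofFinite _
  let Φ : {s : Fin (k + 1) → V // IsTSFrame Q s} → {s : Fin k → V // IsTSFrame Q s} :=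
    fun t => ⟨Fin.tail t.1, by
      have h := t.2
      rw [← Fin.cons_self_tail t.1] at h
      exact ((tsframe_cons Q _ _).mp h).1⟩
  rw [← Nat.card_congr (Equiv.sigmaFiberEquiv Φ), Nat.card_sigma]
  have hfib : ∀ s : {s : Fin k → V // IsTSFrame Q s}, Nat.card {t // Φ t = s} =
      z - Fintype.card F ^ k := by
    intro s
    have h0 := card_fiber_ts Q s.1 s.2
    rw [hz s.1 s.2] at h0
    rw [← h0, Nat.add_sub_cancel]
    apply Nat.card_congr
    exact {
      toFun := fun t => ⟨t.1.1 0, by
          have h2 : Fin.tail t.1.1 = s.1 := congrArg Subtype.val t.2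
          have h := t.1.2
          rw [← Fin.cons_self_tail t.1.1, h2] at h
          exact ((tsframe_cons Q _ _).mp h).2⟩
      invFun := fun x => ⟨⟨Fin.cons x.1 s.1, (tsframe_cons Q _ _).mpr ⟨s.2, x.2⟩⟩,
          Subtype.ext (by
            show Fin.tail (Fin.cons x.1 s.1 : Fin (k + 1) → V) = s.1
            exact Fin.tail_cons _ _)⟩
      left_inv := fun t => by
        apply Subtype.ext
        apply Subtype.ext
        show Fin.cons (t.1.1 0) s.1 = t.1.1
        have h2 : Fin.tail t.1.1 = s.1 := congrArg Subtype.val t.2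
        rw [← h2]
        exact Fin.cons_self_tail _
      right_inv := fun x => by
        apply Subtype.ext
        show (Fin.cons x.1 s.1 : Fin (k + 1) → V) 0 = x.1
        exact Fin.cons_zero _ _ }
  simp_rw [hfib]
  rw [Finset.sum_const, Finset.card_univ, smul_eq_mul, Nat.card_eq_fintype_card]

theorem card_tsframes (hQ : Nd Q) (z : ℕ → ℕ) (m : ℕ)
    (hz : ∀ k < m, Fintype.card F ^ (k + 1) * z k + Fintype.card F ^ (finrank F V + k) =
      Fintype.card F ^ (k + 1) * zeros Q + Fintype.card F ^ finrank F V) :
    Nat.card {s : Fin m → V // IsTSFrame Q s} =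
      ∏ k ∈ Finset.range m, (z k - Fintype.card F ^ k) := by
  induction m with
  | zero =>
    rw [Finset.range_zero, Finset.prod_empty]
    haveI : Unique {s : Fin 0 → V // IsTSFrame Q s} :=
      { default := ⟨fun a => a.elim0, linearIndependent_empty_type, by
          intro w hw
          have h1 : Set.range (fun a : Fin 0 => (a.elim0 : V)) = ∅ := Set.range_eq_empty _
          rw [h1, Submodule.span_empty, Submodule.mem_bot] at hw
          rw [hw, map_zero]⟩
        uniq := fun s => Subtype.ext (funext fun a => a.elim0) }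
    exact Nat.card_unique
  | succ m ih =>
    rw [card_tsframes_succ Q m (z m), ih (fun k hk => hz k (by omega)), Finset.prod_range_succ]
    intro s hs
    have h1 := zs_formula Q hQ m s hs
    have h2 := hz m (by omega)
    have h3 : Fintype.card F ^ (m + 1) * Zs Q s = Fintype.card F ^ (m + 1) * z m := by omega
    exact Nat.eq_of_mul_eq_mul_left (pow_pos Fintype.card_pos _) h3

/-- counting totally singular subspaces through frames -/
theorem card_ts_mul (hQ : Nd Q) (z : ℕ → ℕ) (m : ℕ)
    (hz : ∀ k < m, Fintype.card F ^ (k + 1) * z k + Fintype.card F ^ (finrank F V + k) =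
      Fintype.card F ^ (k + 1) * zeros Q + Fintype.card F ^ finrank F V) :
    Nat.card {W : Submodule F V // finrank F W = m ∧ TS Q W} *
      ∏ i : Fin m, (Fintype.card F ^ m - Fintype.card F ^ (i : ℕ)) =
      ∏ k ∈ Finset.range m, (z k - Fintype.card F ^ k) := by
  have : Finite V := Module.finite_of_finite F
  rw [← card_tsframes Q hQ z m hz]
  exact (Cfsg.Agent.Lib.Helper5.SubspaceFrames.card_frames_eq m (TS Q)).symm

end frames

end Cfsg.Agent.Lib.Helper9.BG
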