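import Mathlib
import Cfsg.Prelude
import Cfsg.Agent.Lib.Helper5.OElus.Grow
import Cfsg.Agent.Lib.Helper2.SpTiE

set_option autoImplicit false
set_option linter.unusedSectionVars false
set_option linter.unusedVariables false
set_option linter.style.longLine false
set_option linter.unusedSimpArgs false
open Cfsg

set_option maxHeartbeats 1600000
namespace Cfsg.Agent.Lib.Helper9.BG

open QuadraticMap Module
open Cfsg.Agent.Lib.Helper5.QuadTwo Cfsg.Agent.Lib.Helper2 Cfsg.Agent.Lib.Helper2.SpImp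
  Cfsg.Agent.Lib.Helper2.SpTi

universe u v

section mov
variable {F : Type u} [Field F] {V : Type v} [AddCommGroup V] [Module F V]

/-- the hypotheses: an isometry `g` of odd order prime to the characteristic -/
structure MovHyp (Q : QuadraticForm F V) (g gi : V →ₗ[F] V) (r : ℕ) : Prop where
  hiso : ∀ x, Q (g x) = Q x
  gi_g : ∀ x, gi (g x) = x
  g_gi : ∀ x, g (gi x) = x
  hr : g ^ r = 1
  rodd : Odd r
  r0 : (r : F) ≠ 0

namespace MovHyp

variable {Q : QuadraticForm F V} {g gi : V →ₗ[F] V} {r : ℕ} (H : MovHyp Q g gi r)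
include H

theorem polar_iso (x y : V) : polar Q (g x) (g y) = polar Q x y := by
  unfold polar
  rw [← map_add, H.hiso, H.hiso, H.hiso]

theorem polar_g_left (x y : V) : polar Q (g x) y = polar Q x (gi y) := by
  rw [← H.polar_iso x (gi y), H.g_gi]

theorem polar_gi_left (x y : V) : polar Q (gi x) y = polar Q x (g y) := by
  rw [← H.polar_iso (gi x) y, H.g_gi]

theorem gi_fix {x : V} (h : g x = x) : gi x = x := by
  conv_lhs => rw [← h]
  exact H.gi_g x

theorem mem_fix (x : V) : x ∈ LinearMap.ker (g - 1) ↔ g x = x := by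
  rw [LinearMap.mem_ker, LinearMap.sub_apply, Module.End.one_apply, sub_eq_zero]

theorem mem_mov (x : V) : x ∈ LinearMap.range (g - 1) ↔ ∃ y, g y - y = x := by
  rw [LinearMap.mem_range]
  rfl

theorem orth : ∀ u ∈ LinearMap.ker (g - 1), ∀ w ∈ LinearMap.range (g - 1), polar Q u w = 0 := by
  intro u hu w hw
  rw [H.mem_fix] at hu
  obtain ⟨y, rfl⟩ := (H.mem_mov w).1 hw
  rw [polar_sub_right, ← H.polar_gi_left, H.gi_fix hu, sub_self]

theorem g_pow_of_sq {x y : V} (hy : g y - y = x) (hx : g x = x) (k : ℕ) :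
    (g ^ k) y = y + (k : F) • x := by
  induction k with
  | zero => simp
  | succ k ih =>
    rw [pow_succ', Module.End.mul_apply, ih, map_add, map_smul, hx, Nat.cast_succ, add_smul,
      one_smul, ← hy]
    abel

theorem disjoint : Disjoint (LinearMap.ker (g - 1)) (LinearMap.range (g - 1)) := by
  rw [Submodule.disjoint_def]
  intro x hx hw
  rw [H.mem_fix] at hx
  obtain ⟨y, hy⟩ := (H.mem_mov x).1 hw
  have h1 := H.g_pow_of_sq hy hx r
  rw [H.hr, Module.End.one_apply] at h1
  have h2 : (r : F) • x = 0 := by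
    have h3 : y + (r : F) • x = y + 0 := by rw [add_zero]; exact h1.symm
    exact add_left_cancel h3
  exact (smul_eq_zero.1 h2).resolve_left H.r0

theorem isCompl [FiniteDimensional F V] :
    IsCompl (LinearMap.ker (g - 1)) (LinearMap.range (g - 1)) := by
  refine ⟨H.disjoint, ?_⟩
  rw [codisjoint_iff]
  apply Submodule.eq_top_of_disjoint _ _ _ H.disjoint
  have := LinearMap.finrank_range_add_finrank_ker (g - 1)
  omega

theorem g_mem_mov : ∀ x ∈ LinearMap.range (g - 1), g x ∈ LinearMap.range (g - 1) := by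
  intro x hx
  obtain ⟨y, rfl⟩ := (H.mem_mov x).1 hx
  exact (H.mem_mov _).2 ⟨g y, by rw [map_sub]⟩

theorem gi_mem_mov : ∀ x ∈ LinearMap.range (g - 1), gi x ∈ LinearMap.range (g - 1) := by
  intro x hx
  obtain ⟨y, rfl⟩ := (H.mem_mov x).1 hx
  exact (H.mem_mov _).2 ⟨gi y, by rw [map_sub, H.g_gi, H.gi_g]⟩

theorem T_g (x : V) : (g - gi) (g x) = g ((g - gi) x) := by
  rw [LinearMap.sub_apply, LinearMap.sub_apply, map_sub, H.gi_g, H.g_gi]

theorem T_mem_mov : ∀ x ∈ LinearMap.range (g - 1), (g - gi) x ∈ LinearMap.range (g - 1) := by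
  intro x hx
  rw [LinearMap.sub_apply]
  exact Submodule.sub_mem _ (H.g_mem_mov x hx) (H.gi_mem_mov x hx)

theorem T_inj_mov {x : V} (hx : x ∈ LinearMap.range (g - 1)) (h : (g - gi) x = 0) : x = 0 := by
  rw [LinearMap.sub_apply, sub_eq_zero] at h
  have h1 : g (g x) = x := by rw [h, H.g_gi]
  have h2 := Cfsg.Agent.Lib.Helper5.OElus.fix_of_sq_fix g r H.rodd H.hr x h1
  exact Submodule.disjoint_def.1 H.disjoint x ((H.mem_fix x).2 h2) hx

theorem sub_one_inj_mov {x : V} (hx : x ∈ LinearMap.range (g - 1)) (h : (g - 1) x = 0) :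
    x = 0 :=
  Submodule.disjoint_def.1 H.disjoint x (LinearMap.mem_ker.2 h) hx

theorem ndOn_mov [FiniteDimensional F V] (hQ : Nd Q) :
    ∀ v ∈ LinearMap.range (g - 1), (∀ w ∈ LinearMap.range (g - 1), polar Q w v = 0) → v = 0 := by
  intro v hv h
  apply hQ v
  intro z
  have hz : z ∈ (LinearMap.ker (g - 1) ⊔ LinearMap.range (g - 1) : Submodule F V) := by
    rw [H.isCompl.sup_eq_top]
    trivial
  obtain ⟨u, hu, w, hw, rfl⟩ := Submodule.mem_sup.mp hz
  rw [polar_add_left, H.orth u hu v hv, h w hw, add_zero]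

theorem ndOn_fix [FiniteDimensional F V] (hQ : Nd Q) :
    ∀ v ∈ LinearMap.ker (g - 1), (∀ w ∈ LinearMap.ker (g - 1), polar Q w v = 0) → v = 0 := by
  intro v hv h
  apply hQ v
  intro z
  have hz : z ∈ (LinearMap.ker (g - 1) ⊔ LinearMap.range (g - 1) : Submodule F V) := by
    rw [H.isCompl.sup_eq_top]
    trivial
  obtain ⟨u, hu, w, hw, rfl⟩ := Submodule.mem_sup.mp hz
  rw [polar_add_left, h u hu, polar_comm, H.orth v hv w hw, add_zero]

end MovHyp

/-- an injective endomorphism of a finite dimensional invariant subspace is surjective on it -/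
theorem surj_on_of_inj_on [FiniteDimensional F V] (f : V →ₗ[F] V) (W : Submodule F V)
    (hW : ∀ x ∈ W, f x ∈ W) (hinj : ∀ x ∈ W, f x = 0 → x = 0) :
    ∀ w ∈ W, ∃ x ∈ W, f x = w := by
  intro w hw
  have h1 : Function.Injective (f.restrict hW) := by
    rw [← LinearMap.ker_eq_bot, LinearMap.ker_eq_bot']
    intro x hx
    apply Subtype.ext
    apply hinj x.1 x.2
    have := congrArg Subtype.val hx
    exact this
  have h2 := LinearMap.injective_iff_surjective.mp h1
  obtain ⟨x, hx⟩ := h2 ⟨w, hw⟩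
  exact ⟨x.1, x.2, congrArg Subtype.val hx⟩

namespace MovHyp

variable {Q : QuadraticForm F V} {g gi : V →ₗ[F] V} {r : ℕ} (H : MovHyp Q g gi r)

/-- the isometry on the moving part -/
noncomputable def movEnd : Module.End F ↥(LinearMap.range (g - 1)) := g.restrict H.g_mem_mov

/-- the alternating form on the moving part -/
noncomputable def movForm (H : MovHyp Q g gi r) : LinearMap.BilinForm F ↥(LinearMap.range (g - 1)) :=
  ((polarBilin Q).comp (g - gi)).domRestrict₁₂ (LinearMap.range (g - 1)) (LinearMap.range (g - 1))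

theorem movEnd_apply (x : ↥(LinearMap.range (g - 1))) : ((H.movEnd x : ↥(LinearMap.range (g - 1))) : V) = g x :=
  rfl

theorem movForm_apply (x y : ↥(LinearMap.range (g - 1))) :
    H.movForm x y = polar Q (g (x : V) - gi (x : V)) (y : V) := rfl

theorem movForm_alt : (H.movForm).IsAlt := by
  intro x
  rw [movForm_apply, polar_sub_left, H.polar_g_left, polar_comm Q (gi (x : V)) x, sub_self]

theorem movEnd_isom : IsIsom H.movForm H.movEnd := by
  intro x y
  rw [movForm_apply, movForm_apply, movEnd_apply, movEnd_apply]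
  have h1 := H.T_g (x : V)
  rw [LinearMap.sub_apply, LinearMap.sub_apply] at h1
  rw [h1, H.polar_iso]

theorem movEnd_pow : H.movEnd ^ r = 1 := by
  unfold movEnd
  rw [Module.End.pow_restrict]
  apply LinearMap.ext
  intro x
  apply Subtype.ext
  rw [LinearMap.restrict_apply]
  show (g ^ r) (x : V) = x
  rw [H.hr]
  rfl

theorem movEnd_fpf : LinearMap.ker (H.movEnd - 1) = ⊥ := by
  rw [eq_bot_iff]
  intro x hx
  rw [LinearMap.mem_ker, LinearMap.sub_apply, Module.End.one_apply, sub_eq_zero] at hx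
  have h1 : g (x : V) = x := by
    have := congrArg Subtype.val hx
    exact this
  rw [Submodule.mem_bot]
  apply Subtype.ext
  exact Submodule.disjoint_def.1 H.disjoint x ((H.mem_fix _).2 h1) x.2

theorem movForm_nondeg [FiniteDimensional F V] (hQ : Nd Q) : (H.movForm).Nondegenerate := by
  have hl : ∀ x : ↥(LinearMap.range (g - 1)), (∀ y, H.movForm x y = 0) → x = 0 := by
    intro x hx
    apply Subtype.ext
    apply H.T_inj_mov x.2
    apply H.ndOn_mov hQ _ (H.T_mem_mov x x.2)
    intro w hw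
    have := hx ⟨w, hw⟩
    rw [movForm_apply] at this
    rw [polar_comm, LinearMap.sub_apply]
    exact this
  constructor
  · exact hl
  · intro y hy
    apply hl y
    intro x
    rw [← H.movForm_alt.neg_eq, hy x, neg_zero]

/-- invariant totally isotropic subspaces of the moving part are totally singular -/
theorem ts_of_ti [FiniteDimensional F V] (W' : Submodule F ↥(LinearMap.range (g - 1)))
    (hinv : Elus.Inv H.movEnd W') (hti : TI H.movForm W') :
    (∀ w ∈ W'.map (LinearMap.range (g - 1)).subtype, Q w = 0) ∧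
      (∀ w ∈ W'.map (LinearMap.range (g - 1)).subtype,
        g w ∈ W'.map (LinearMap.range (g - 1)).subtype) := by
  have hW : ∀ w ∈ W'.map (LinearMap.range (g - 1)).subtype,
      g w ∈ W'.map (LinearMap.range (g - 1)).subtype := by
    rintro _ ⟨x, hx, rfl⟩
    exact ⟨H.movEnd x, hinv x hx, rfl⟩
  have hWM : W'.map (LinearMap.range (g - 1)).subtype ≤ LinearMap.range (g - 1) := by
    rintro _ ⟨x, -, rfl⟩
    exact x.2
  have hWi : ∀ w ∈ W'.map (LinearMap.range (g - 1)).subtype,
      gi w ∈ W'.map (LinearMap.range (g - 1)).subtype :=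
    Cfsg.Agent.Lib.Helper5.OElus.gi_mem_of_inv g gi H.gi_g r H.rodd.pos H.hr _ hW
  have hpol : ∀ x ∈ W'.map (LinearMap.range (g - 1)).subtype,
      ∀ y ∈ W'.map (LinearMap.range (g - 1)).subtype, polar Q x y = 0 := by
    intro x hx y hy
    obtain ⟨x₁, hx₁, rfl⟩ := surj_on_of_inj_on (g - gi) _ (fun z hz => by
      rw [LinearMap.sub_apply]
      exact Submodule.sub_mem _ (hW z hz) (hWi z hz)) (fun z hz h => H.T_inj_mov (hWM hz) h) x hx
    obtain ⟨x₂, hx₂, rfl⟩ := hx₁
    obtain ⟨y₂, hy₂, rfl⟩ := hy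
    have := hti x₂ hx₂ y₂ hy₂
    rw [movForm_apply] at this
    rw [LinearMap.sub_apply]
    exact this
  refine ⟨?_, hW⟩
  intro w hw
  obtain ⟨w₁, hw₁, rfl⟩ := surj_on_of_inj_on (g - 1) _ (fun z hz => by
    rw [LinearMap.sub_apply, Module.End.one_apply]
    exact Submodule.sub_mem _ (hW z hz) hz) (fun z hz h => H.sub_one_inj_mov (hWM hz) h) w hw
  have h1 : Q (-w₁) = Q w₁ := by
    have := q_smul Q (-1 : F) w₁
    rw [neg_one_smul] at this
    rw [this]
    ring
  have h2 : Q w₁ + Q w₁ = polar Q w₁ w₁ := by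
    rw [polar_self, two_smul]
  rw [LinearMap.sub_apply, Module.End.one_apply, sub_eq_add_neg, q_add, H.hiso, h1, h2,
    hpol w₁ hw₁ w₁ hw₁, polar_neg_right, hpol _ (hW w₁ hw₁) w₁ hw₁, neg_zero, add_zero]

/-- invariant totally singular subspaces of the moving part are totally isotropic -/
theorem ti_of_ts (W : Submodule F V) (hWM : W ≤ LinearMap.range (g - 1))
    (hW : ∀ w ∈ W, g w ∈ W) (hts : ∀ w ∈ W, Q w = 0) :
    Elus.Inv H.movEnd (W.comap (LinearMap.range (g - 1)).subtype) ∧
      TI H.movForm (W.comap (LinearMap.range (g - 1)).subtype) ∧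
      finrank F (W.comap (LinearMap.range (g - 1)).subtype) = finrank F W := by
  have hWi : ∀ w ∈ W, gi w ∈ W :=
    Cfsg.Agent.Lib.Helper5.OElus.gi_mem_of_inv g gi H.gi_g r H.rodd.pos H.hr _ hW
  refine ⟨?_, ?_, ?_⟩
  · intro x hx
    rw [Submodule.mem_comap] at hx ⊢
    exact hW _ hx
  · intro x hx y hy
    rw [Submodule.mem_comap, Submodule.subtype_apply] at hx hy
    rw [movForm_apply]
    unfold polar
    rw [hts _ (W.add_mem (W.sub_mem (hW _ hx) (hWi _ hx)) hy),
      hts _ (W.sub_mem (hW _ hx) (hWi _ hx)), hts _ hy]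
    ring
  · exact (Submodule.comapSubtypeEquivOfLe hWM).finrank_eq

end MovHyp

end mov

end Cfsg.Agent.Lib.Helper9.BG
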