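import Mathlib
import Cfsg.Prelude
import Cfsg.Agent.Lib.Helper9.BGc
import Cfsg.Agent.Lib.Helper5.QuadWitt

set_option autoImplicit false
set_option linter.unusedSectionVars false
set_option linter.unusedVariables false
set_option linter.style.longLine false
set_option linter.unusedSimpArgs false
open Cfsg

set_option maxHeartbeats 1600000
namespace Cfsg.Agent.Lib.Helper9.BG

open QuadraticMap Module
open Cfsg.Agent.Lib.Helper5.QuadTwo Cfsg.Agent.Lib.Helper2 Cfsg.Agent.Lib.Helper2.SpImp
  Cfsg.Agent.Lib.Helper2.SpTi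

universe u v

section suff
variable {F : Type u} [Field F] [Fintype F] {V : Type v} [AddCommGroup V] [Module F V]
  [FiniteDimensional F V]
variable {Q : QuadraticForm F V} {g gi : V →ₗ[F] V} {r : ℕ}

/-- invariant totally singular subspaces of the moving part, of every dimension allowed by the
symplectic theory -/
theorem MovHyp.exists_ts_mov {p f₀ : ℕ} [hp : Fact p.Prime] (hq : Fintype.card F = p ^ f₀)
    (hQ : Nd Q) (H : MovHyp Q g gi r) [hr : Fact r.Prime] (hr2 : r ≠ 2) (hrp : r ≠ p)
    (hrq : ¬ r ∣ Fintype.card F) (i : ℕ) (hi : i = orderOf ((Fintype.card F : ℕ) : ZMod r))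
    (b : ℕ)
    (hb : b = 0 ∨ i * (if Even i then (r - 1) / i + 1 else 1) + 2 * i * (b - 1) ≤
      finrank F (LinearMap.range (g - 1))) :
    ∃ W : Submodule F V, W ≤ LinearMap.range (g - 1) ∧ finrank F W = i * b ∧
      (∀ w ∈ W, Q w = 0) ∧ ∀ w ∈ W, g w ∈ W := by
  classical
  have hr0 : 0 < r := hr.out.pos
  have hi0 : 0 < i := by
    rw [hi]
    exact Elus.ord_pos r (Fintype.card F) hrq
  have hA := H.movForm_alt
  have hB := H.movForm_nondeg hQ
  have hyB := H.movEnd_isom
  have hy := H.movEnd_pow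
  have hrF := H.r0
  have hN : ND H.movForm (⊤ : Submodule F ↥(LinearMap.range (g - 1))) := nd_top _ hA hB
  have hNi : Elus.Inv H.movEnd (⊤ : Submodule F ↥(LinearMap.range (g - 1))) :=
    fun v _ => Submodule.mem_top
  have hNC : (⊤ : Submodule F ↥(LinearMap.range (g - 1))) ⊓ LinearMap.ker (H.movEnd - 1) = ⊥ := by
    rw [H.movEnd_fpf, inf_bot_eq]
  have key : ∃ W' : Submodule F ↥(LinearMap.range (g - 1)), W' ≤ ⊤ ∧ TI H.movForm W' ∧
      Elus.Inv H.movEnd W' ∧ finrank F W' = i * b := by
    by_cases hev : Even i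
    · rw [if_pos hev] at hb
      refine grow_ti H.movForm hA hB hyB hr0 hy i ((r - 1) / i + 1) ?hstep b ⊤ hN hNi hNC ?hcond
      case hcond =>
        rw [finrank_top]
        exact hb
      case hstep =>
        intro N' hN' hN'i hN'C hN'fin
        have hmod' := sp_mod H.movForm hA hB hyB r hrF hrq hy i i hi (by rw [if_pos hev]) hN' hN'i
        rw [hN'C, finrank_bot, Nat.sub_zero] at hmod'
        obtain ⟨l', hl'⟩ := hmod'
        have hl'' : (r - 1) / i + 1 ≤ l' := by
          rw [hl'] at hN'fin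
          exact Nat.le_of_mul_le_mul_left hN'fin hi0
        obtain ⟨P, φ, hPN, hP, hPi, hPfin, hφ, hφP⟩ := exists_pair_block H.movForm hq hA hB r hr2
          hrp hrF hrq hyB hy i hi hev hN' hN'i hN'C l' hl' hl''
        have hPC : P ⊓ LinearMap.ker (H.movEnd - 1) = ⊥ := by
          rw [eq_bot_iff, ← hN'C]
          exact inf_le_inf_right _ hPN
        obtain ⟨U, hUP, hUti, hUi, hUfin⟩ := exists_ti_min H.movForm hq hA r hrp hrq hyB hy hPi
          hPC (by rw [hPfin, hi]) hφ hφP
        exact ⟨U, P, hUP, hPN, hUti, hUi, by rw [hUfin, ← hi], hP, hPi, hPfin⟩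
    · rw [if_neg hev] at hb
      have hodd : Odd i := Nat.not_even_iff_odd.mp hev
      refine grow_ti H.movForm hA hB hyB hr0 hy i 1 ?hstep b ⊤ hN hNi hNC ?hcond
      case hcond =>
        rw [finrank_top]
        exact hb
      case hstep =>
        intro N' hN' hN'i hN'C hN'fin
        have hN'0 : N' ≠ ⊥ := by
          intro h
          rw [h, finrank_bot] at hN'fin
          omega
        have := exists_ti_block_odd H.movForm hq hA hB r hrp hrF hyB hy
          (by rw [← hi]; exact hodd) hN' hN'i hN'C hN'0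
        rw [← hi] at this
        exact this
  obtain ⟨W', -, hW'ti, hW'i, hW'fin⟩ := key
  obtain ⟨h1, h2⟩ := H.ts_of_ti W' hW'i hW'ti
  refine ⟨W'.map (LinearMap.range (g - 1)).subtype, ?_, ?_, h1, h2⟩
  · rintro _ ⟨x, -, rfl⟩
    exact x.2
  · rw [← hW'fin]
    exact (Submodule.equivSubtypeMap _ W').symm.finrank_eq

end suff

section witt


/-- a nondegenerate quadratic space of dimension at least `2a + 1` over a finite field contains a
totally singular subspace of dimension `a` -/
theorem exists_ts_of_le {F : Type u} [Field F] [Finite F] : ∀ (a : ℕ) {V : Type v}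
    [AddCommGroup V] [Module F V] [FiniteDimensional F V] (Q : QuadraticForm F V)
    (_ : ∀ z : V, (∀ z', polar Q z z' = 0) → z = 0), 2 * a + 1 ≤ finrank F V →
    ∃ U : Submodule F V, (∀ u ∈ U, Q u = 0) ∧ finrank F U = a := by
  intro a
  induction a with
  | zero =>
    intro V _ _ _ Q _ _
    refine ⟨⊥, ?_, finrank_bot F V⟩
    intro u hu
    rw [(Submodule.mem_bot F).mp hu, map_zero]
  | succ a ih =>
    intro V _ _ _ Q hQ hd
    obtain ⟨v, hv0, hQv⟩ := Cfsg.Agent.Lib.Helper5.exists_singular Q (by omega)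
    obtain ⟨w, hQw, hvw⟩ := Cfsg.Agent.Lib.Helper5.exists_partner Q hQ v hv0 hQv
    obtain ⟨W, hW⟩ : ∃ W : Submodule F V, W = Cfsg.Agent.Lib.Helper5.pairPerp Q v w := ⟨_, rfl⟩
    have hdW : finrank F W + 2 = finrank F V := by
      rw [hW]
      exact Cfsg.Agent.Lib.Helper5.finrank_pairPerp Q v w hQv hQw hvw
    have hndW := Cfsg.Agent.Lib.Helper5.nondeg_pairPerp Q hQ v w hQv hQw hvw
    rw [← hW] at hndW
    have hQW : ∀ z : W, (∀ z' : W, polar (Q.comp W.subtype) z z' = 0) → z = 0 := by
      intro z hz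
      apply Subtype.ext
      apply hndW z.1 z.2
      intro z' hz'
      exact hz ⟨z', hz'⟩
    obtain ⟨U', hU'ts, hU'fin⟩ := ih (Q.comp W.subtype) hQW (by omega)
    have hWv : ∀ z ∈ W, polar Q v z = 0 := fun z hz => by
      rw [hW] at hz
      exact ((Cfsg.Agent.Lib.Helper5.mem_pairPerp Q v w z).1 hz).1
    have hvW : v ∉ W := by
      intro h
      rw [hW] at h
      have := ((Cfsg.Agent.Lib.Helper5.mem_pairPerp Q v w v).1 h).2
      rw [polar_comm, hvw] at this
      exact one_ne_zero this
    refine ⟨U'.map W.subtype ⊔ Submodule.span F {v}, ?_, ?_⟩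
    · intro x hx
      obtain ⟨u, hu, z, hz, rfl⟩ := Submodule.mem_sup.mp hx
      obtain ⟨u', hu', rfl⟩ := hu
      obtain ⟨t, rfl⟩ := Submodule.mem_span_singleton.mp hz
      have h1 : Q (W.subtype u') = 0 := hU'ts u' hu'
      have h2 : polar Q (W.subtype u') v = 0 := by
        rw [polar_comm]
        exact hWv _ u'.2
      rw [Cfsg.Agent.Lib.Helper5.QuadTwo.q_add, h1, Cfsg.Agent.Lib.Helper5.QuadTwo.q_smul, hQv,
        polar_smul_right, h2]
      simp
    · have hdisj : Disjoint (U'.map W.subtype) (Submodule.span F {v}) := by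
        rw [Submodule.disjoint_def]
        intro x hx hxv
        obtain ⟨u', -, rfl⟩ := hx
        obtain ⟨t, ht⟩ := Submodule.mem_span_singleton.mp hxv
        by_cases ht0 : t = 0
        · rw [← ht, ht0, zero_smul]
        · exfalso
          apply hvW
          have h3 : v = t⁻¹ • (W.subtype u') := by
            rw [← ht, smul_smul, inv_mul_cancel₀ ht0, one_smul]
          rw [h3]
          exact W.smul_mem _ u'.2
      rw [Cfsg.Agent.Lib.Helper2.Elus.finrank_sup_of_disjoint hdisj, finrank_span_singleton hv0,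
        ← hU'fin]
      congr 1
      exact (Submodule.equivSubtypeMap W U').symm.finrank_eq

variable {F : Type u} [Field F] {V : Type v} [AddCommGroup V] [Module F V]
  [FiniteDimensional F V]

/-- a totally isotropic subspace of a nondegenerate subspace has at most half its dimension -/
theorem two_mul_finrank_le_of_ti (Q : QuadraticForm F V) {C U : Submodule F V}
    (hnd : ∀ v ∈ C, (∀ w ∈ C, polar Q w v = 0) → v = 0) (hUC : U ≤ C)
    (hU : ∀ x ∈ U, ∀ y ∈ U, polar Q x y = 0) : 2 * finrank F U ≤ finrank F C := by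
  obtain ⟨B', hB'⟩ : ∃ B' : LinearMap.BilinForm F C, B' = (polarBilin Q).domRestrict₁₂ C C :=
    ⟨_, rfl⟩
  have happ : ∀ x y : C, B' x y = polar Q (x : V) (y : V) := by
    intro x y
    rw [hB']
    rfl
  have hB'nd : B'.Nondegenerate := by
    constructor
    · intro x hx
      apply Subtype.ext
      apply hnd x.1 x.2
      intro w hw
      have := hx ⟨w, hw⟩
      rw [happ] at this
      rw [polar_comm]
      exact this
    · intro y hy
      apply Subtype.ext
      apply hnd y.1 y.2
      intro w hw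
      have := hy ⟨w, hw⟩
      rw [happ] at this
      exact this
  have h1 := LinearMap.BilinForm.finrank_orthogonal hB'nd (U.comap C.subtype)
  have h2 : U.comap C.subtype ≤ LinearMap.BilinForm.orthogonal B' (U.comap C.subtype) := by
    intro x hx
    rw [LinearMap.BilinForm.mem_orthogonal_iff]
    intro n hn
    show B' n x = 0
    rw [happ]
    exact hU _ hn _ hx
  have h3 := Submodule.finrank_mono h2
  have h4 : finrank F (U.comap C.subtype) = finrank F U :=
    (Submodule.comapSubtypeEquivOfLe hUC).finrank_eq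
  have h5 : finrank F (U.comap C.subtype) ≤ finrank F C := Submodule.finrank_le _
  rw [h1, h4] at h3
  rw [h4] at h5
  omega

end witt

section comb
variable {F : Type u} [Field F] [Fintype F] {V : Type v} [AddCommGroup V] [Module F V]
  [FiniteDimensional F V]
variable {Q : QuadraticForm F V} {g gi : V →ₗ[F] V} {r : ℕ}

/-- a totally singular subspace of dimension `a` inside a nondegenerate subspace `C` of dimension
at least `2a + 1` -/
theorem exists_ts_in (Q : QuadraticForm F V) (C : Submodule F V)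
    (hnd : ∀ v ∈ C, (∀ w ∈ C, polar Q w v = 0) → v = 0) (a : ℕ) (ha : 2 * a + 1 ≤ finrank F C) :
    ∃ U : Submodule F V, U ≤ C ∧ (∀ u ∈ U, Q u = 0) ∧ finrank F U = a := by
  have hQC : ∀ z : C, (∀ z' : C, polar (Q.comp C.subtype) z z' = 0) → z = 0 := by
    intro z hz
    apply Subtype.ext
    apply hnd z.1 z.2
    intro w hw
    have := hz ⟨w, hw⟩
    rw [polar_comm]
    exact this
  obtain ⟨U', hU'ts, hU'fin⟩ := exists_ts_of_le a (Q.comp C.subtype) hQC ha
  refine ⟨U'.map C.subtype, ?_, ?_, ?_⟩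
  · rintro _ ⟨x, -, rfl⟩
    exact x.2
  · rintro _ ⟨x, hx, rfl⟩
    exact hU'ts x hx
  · rw [← hU'fin]
    exact (Submodule.equivSubtypeMap C U').symm.finrank_eq

/-- gluing a totally singular subspace of the fixed space and an invariant one of the moving
part -/
theorem MovHyp.exists_ts_glue (H : MovHyp Q g gi r) {U W : Submodule F V}
    (hUC : U ≤ LinearMap.ker (g - 1)) (hU : ∀ u ∈ U, Q u = 0)
    (hWM : W ≤ LinearMap.range (g - 1)) (hW : ∀ w ∈ W, Q w = 0) (hWg : ∀ w ∈ W, g w ∈ W) :
    finrank F (U ⊔ W : Submodule F V) = finrank F U + finrank F W ∧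
      (∀ x ∈ U ⊔ W, Q x = 0) ∧ ∀ x ∈ U ⊔ W, g x ∈ U ⊔ W := by
  refine ⟨?_, ?_, ?_⟩
  · exact Cfsg.Agent.Lib.Helper2.Elus.finrank_sup_of_disjoint (H.disjoint.mono hUC hWM)
  · intro x hx
    obtain ⟨u, hu, w, hw, rfl⟩ := Submodule.mem_sup.mp hx
    rw [q_add, hU u hu, hW w hw, H.orth u (hUC hu) w (hWM hw)]
    simp
  · intro x hx
    obtain ⟨u, hu, w, hw, rfl⟩ := Submodule.mem_sup.mp hx
    rw [map_add, (H.mem_fix u).1 (hUC hu)]
    exact Submodule.add_mem_sup hu (hWg w hw)

end comb

end Cfsg.Agent.Lib.Helper9.BG
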