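import Mathlib
import Cfsg.Prelude
import Cfsg.Agent.Lib.Helper9.BGd
import Cfsg.Agent.Lib.Helper9.BGb
import Cfsg.Agent.Lib.Helper5.QuadSign.DualTS
import Cfsg.Agent.Lib.Helper4.PrimeOrdGL2
import Cfsg.Agent.Lib.Helper5.SemiCount.Star

set_option autoImplicit false
set_option linter.unusedSectionVars false
set_option linter.unusedVariables false
set_option linter.style.longLine false
set_option linter.unusedSimpArgs false
open Cfsg

set_option maxHeartbeats 1600000
namespace Cfsg.Agent.Lib.Helper9.BG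

open QuadraticMap Module Polynomial
open Cfsg.Agent.Lib.Helper5.QuadTwo Cfsg.Agent.Lib.Helper2 Cfsg.Agent.Lib.Helper2.SpImp
  Cfsg.Agent.Lib.Helper2.SpTi Cfsg.Agent.Lib.Helper5.SemiConj

universe u v

section linalg
variable {F : Type u} [Field F] {V : Type v} [AddCommGroup V] [Module F V]

theorem aeval_restrict_coe (g : Module.End F V) (K : Submodule F V) (hK : ∀ x ∈ K, g x ∈ K)
    (a : F[X]) (x : K) : ((aeval (g.restrict hK) a x : K) : V) = aeval g a (x : V) := by
  induction a using Polynomial.induction_on' with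
  | add p q hp hq =>
    rw [map_add, map_add, LinearMap.add_apply, LinearMap.add_apply, Submodule.coe_add, hp, hq]
  | monomial n c =>
    rw [aeval_monomial, aeval_monomial, Module.End.mul_apply, Module.End.mul_apply,
      Module.End.pow_restrict]
    rfl

theorem ker_aeval_inv (g : Module.End F V) (a : F[X]) :
    ∀ x ∈ LinearMap.ker (aeval g a), g x ∈ LinearMap.ker (aeval g a) := by
  intro x hx
  rw [LinearMap.mem_ker] at hx ⊢
  have h1 : aeval g a (g x) = aeval g (a * X) x := by
    rw [map_mul, aeval_X, Module.End.mul_apply]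
  rw [h1, mul_comm, map_mul, aeval_X, Module.End.mul_apply, hx, map_zero]

theorem range_aeval_inv (g : Module.End F V) (a : F[X]) :
    ∀ x ∈ LinearMap.range (aeval g a), g x ∈ LinearMap.range (aeval g a) := by
  rintro _ ⟨y, rfl⟩
  refine ⟨g y, ?_⟩
  have h1 : aeval g a (g y) = aeval g (a * X) y := by
    rw [map_mul, aeval_X, Module.End.mul_apply]
  rw [h1, mul_comm, map_mul, aeval_X, Module.End.mul_apply]

variable [FiniteDimensional F V]

/-- the kernel of an irreducible polynomial in a semisimple endomorphism is no bigger than the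
characteristic polynomial allows -/
theorem finrank_ker_le (g : Module.End F V) (hss : g.IsSemisimple) (φ : F[X])
    (hφ : Irreducible φ) (hφm : φ.Monic) (e : ℕ)
    (hmul : ∀ k, φ ^ k ∣ LinearMap.charpoly g → k ≤ e) :
    finrank F (LinearMap.ker (aeval g φ)) ≤ φ.natDegree * e := by
  classical
  have hs : (aeval g φ).IsSemisimple := hss.aeval φ
  have hc : IsCompl (LinearMap.ker (aeval g φ)) (LinearMap.range (aeval g φ)) :=
    ⟨ker_disjoint_range _ hs, codisjoint_iff.mpr (ker_sup_range_eq_top _ hs)⟩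
  have hχ := charpoly_eq_mul_of_isCompl g _ _ hc (ker_aeval_inv g φ) (range_aeval_inv g φ)
  obtain ⟨a, ha⟩ := Cfsg.Agent.Lib.Helper4.SemiMod.eq_prod_pow (fun _ : Unit => φ) (fun _ => hφm)
    (finrank F (LinearMap.ker (aeval g φ)))
    (LinearMap.charpoly (g.restrict (ker_aeval_inv g φ))) (LinearMap.charpoly_monic _)
    (LinearMap.charpoly_natDegree _) (by
      intro π hπ hd
      refine ⟨(), ?_⟩
      obtain ⟨x, hx0, hx⟩ := exists_ne_zero_of_dvd_charpoly _ hπ hd
      have h1 : aeval g π (x : V) = 0 := by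
        rw [← aeval_restrict_coe g _ (ker_aeval_inv g φ) π x, hx]
        rfl
      have h2 : aeval g φ (x : V) = 0 := LinearMap.mem_ker.mp x.2
      by_contra hna
      have hcop : IsCoprime π φ := by
        apply (Irreducible.coprime_iff_not_dvd hπ).mpr
        intro hdvd
        exact hna (hπ.associated_of_dvd hφ hdvd)
      exact hx0 (Subtype.ext (eq_zero_of_coprime hcop h1 h2)))
  rw [Fintype.prod_unique] at ha
  have hdeg := congrArg natDegree ha
  rw [LinearMap.charpoly_natDegree, natDegree_pow] at hdeg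
  have hle : a default ≤ e := by
    apply hmul
    rw [hχ, ha]
    exact dvd_mul_right _ _
  rw [hdeg, mul_comm]
  exact Nat.mul_le_mul_left _ hle

/-- splitting an invariant subspace along pairwise coprime polynomials -/
theorem finrank_le_sum_inf_ker (g : Module.End F V) {ι : Type*} [DecidableEq ι] (p : ι → F[X]) :
    ∀ (s : Finset ι), (∀ a ∈ s, ∀ b ∈ s, a ≠ b → IsCoprime (p a) (p b)) →
    ∀ W : Submodule F V, (∀ x ∈ W, g x ∈ W) → W ≤ LinearMap.ker (aeval g (∏ j ∈ s, p j)) →
      finrank F W ≤ ∑ j ∈ s, finrank F (W ⊓ LinearMap.ker (aeval g (p j)) : Submodule F V) := by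
  intro s
  induction s using Finset.induction_on with
  | empty =>
    intro _ W _ hW
    rw [Finset.prod_empty, map_one] at hW
    have h1 : W = ⊥ := by
      rw [eq_bot_iff]
      intro x hx
      have := hW hx
      rw [LinearMap.mem_ker, Module.End.one_apply] at this
      rw [this]
      exact Submodule.zero_mem _
    rw [h1, finrank_bot]
    exact Nat.zero_le _
  | insert a s ha ih =>
    intro hcop W hWi hW
    rw [Finset.prod_insert ha] at hW
    rw [Finset.sum_insert ha]
    have hcop' : IsCoprime (p a) (∏ j ∈ s, p j) := by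
      apply IsCoprime.prod_right
      intro j hj
      apply hcop a (Finset.mem_insert_self a s) j (Finset.mem_insert_of_mem hj)
      rintro rfl
      exact ha hj
    obtain ⟨u, v, huv⟩ := hcop'
    have hle : W ≤ (W ⊓ LinearMap.ker (aeval g (p a))) ⊔
        (W ⊓ LinearMap.ker (aeval g (∏ j ∈ s, p j))) := by
      intro x hx
      have hx0 : aeval g (p a * ∏ j ∈ s, p j) x = 0 := LinearMap.mem_ker.mp (hW hx)
      have h1 : x = aeval g (v * ∏ j ∈ s, p j) x + aeval g (u * p a) x := by
        rw [← LinearMap.add_apply, ← map_add, add_comm, huv, map_one, Module.End.one_apply]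
      rw [h1]
      apply Submodule.add_mem_sup
      · refine ⟨aeval_apply_mem g W hWi _ hx, ?_⟩
        rw [SetLike.mem_coe, LinearMap.mem_ker, ← Module.End.mul_apply, ← map_mul]
        have e1 : p a * (v * ∏ j ∈ s, p j) = v * (p a * ∏ j ∈ s, p j) := by ring
        rw [e1, map_mul, Module.End.mul_apply, hx0, map_zero]
      · refine ⟨aeval_apply_mem g W hWi _ hx, ?_⟩
        rw [SetLike.mem_coe, LinearMap.mem_ker, ← Module.End.mul_apply, ← map_mul]
        have e1 : (∏ j ∈ s, p j) * (u * p a) = u * (p a * ∏ j ∈ s, p j) := by ring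
        rw [e1, map_mul, Module.End.mul_apply, hx0, map_zero]
    have h2 := Submodule.finrank_mono hle
    have h3 := Submodule.finrank_add_le_finrank_add_finrank (W ⊓ LinearMap.ker (aeval g (p a)))
      (W ⊓ LinearMap.ker (aeval g (∏ j ∈ s, p j)))
    have h4 := ih (fun a' ha' b' hb' => hcop a' (Finset.mem_insert_of_mem ha') b'
      (Finset.mem_insert_of_mem hb')) (W ⊓ LinearMap.ker (aeval g (∏ j ∈ s, p j)))
      (fun x hx => ⟨hWi x hx.1, ker_aeval_inv g _ x hx.2⟩) inf_le_right
    have h5 : ∑ j ∈ s, finrank F ((W ⊓ LinearMap.ker (aeval g (∏ j ∈ s, p j))) ⊓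
        LinearMap.ker (aeval g (p j)) : Submodule F V) ≤
        ∑ j ∈ s, finrank F (W ⊓ LinearMap.ker (aeval g (p j)) : Submodule F V) := by
      apply Finset.sum_le_sum
      intro j _
      exact Submodule.finrank_mono (inf_le_inf_right _ inf_le_left)
    omega

end linalg

section bound
variable {F : Type u} [Field F] {V : Type v} [AddCommGroup V] [Module F V]
  [FiniteDimensional F V]
variable {Q : QuadraticForm F V} {g gi : V →ₗ[F] V} {r : ℕ}

open Cfsg.Agent.Lib.Helper4.PrimeOrd

/-- the multiplicity of a member of the family in `Pc` -/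
theorem pow_dvd_Pc_le [Fintype F] {n i t : ℕ} {f : Fin t → F[X]} (Hf : FamHyp r i t f)
    (cv : Fin t → ℕ) (j : Fin t) (k : ℕ) (h : f j ^ k ∣ Pc n i t f cv) : k ≤ cv j := by
  classical
  rw [Pc_eq_prod] at h
  have key : emultiplicity (fam t f (some j)) (∏ o, fam t f o ^
      (fun o : Option (Fin t) => o.elim (n - i * ∑ j, cv j) cv) o) = cv j := by
    rw [Finset.emultiplicity_prod (fam_irr Hf (some j)).prime, Finset.sum_eq_single (some j)]
    · exact emultiplicity_pow_self_of_prime (fam_irr Hf (some j)).prime _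
    · intro l _ hl
      rw [emultiplicity_pow (fam_irr Hf (some j)).prime,
        emultiplicity_eq_zero.2 (fam_not_dvd Hf (some j) l hl.symm), mul_zero]
    · simp
  have h1 : ((k : ℕ) : ℕ∞) ≤ emultiplicity (fam t f (some j)) (∏ o, fam t f o ^
      (fun o : Option (Fin t) => o.elim (n - i * ∑ j, cv j) cv) o) :=
    le_emultiplicity_of_pow_dvd h
  rw [key] at h1
  exact_mod_cast h1

theorem X_pow_sub_one_eq [Fintype F] {i t : ℕ} {f : Fin t → F[X]} (Hf : FamHyp r i t f)
    (hti : t * i = r - 1) : (X ^ r - 1 : F[X]) = (X - C 1) * ∏ j, f j := by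
  classical
  have hP : (X - C 1) * ∏ j, f j = ∏ o, fam t f o := by
    rw [Fintype.prod_option]
    rfl
  rw [hP]
  have hmon : (∏ o, fam t f o).Monic := monic_prod_of_monic _ _ (fun o _ => fam_monic Hf o)
  have hdvd : ∏ o, fam t f o ∣ (X ^ r - 1 : F[X]) := by
    apply Fintype.prod_dvd_of_coprime
    · intro o o' hne
      apply (Irreducible.coprime_iff_not_dvd (fam_irr Hf o)).mpr
      exact fam_not_dvd Hf o o' hne
    · intro o
      exact fam_dvd Hf o
  have hr1 : 1 ≤ r := Hf.rpos
  have hdeg : (∏ o, fam t f o).natDegree = r := by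
    rw [natDegree_prod_of_monic _ _ (fun o _ => fam_monic Hf o), Fintype.sum_option]
    have h1 : (fam t f none).natDegree = 1 := natDegree_X_sub_C 1
    have h2 : ∀ j, (fam t f (some j)).natDegree = i := fun j => Hf.deg j
    simp only [h1, h2]
    rw [Finset.sum_const, Finset.card_univ, Fintype.card_fin, smul_eq_mul]
    omega
  have hmon' : (X ^ r - 1 : F[X]).Monic := monic_X_pow_sub_C (1 : F) (by omega)
  have hdeg' : (X ^ r - 1 : F[X]).natDegree = r := natDegree_X_pow_sub_C
  exact Polynomial.eq_of_monic_of_dvd_of_natDegree_le hmon hmon' hdvd (by rw [hdeg, hdeg'])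

/-- the kernel of a self-reciprocal polynomial in an isometry is nondegenerate -/
theorem MovHyp.ndOn_ker (H : MovHyp Q g gi r) (hQ : Nd Q) (φ : F[X]) (u : F)
    (hrev : φ.reverse = C u * φ) :
    ∀ v ∈ LinearMap.ker (aeval g φ), (∀ w ∈ LinearMap.ker (aeval g φ), polar Q w v = 0) →
      v = 0 := by
  intro v hv h
  have hss : Module.End.IsSemisimple g :=
    Cfsg.Agent.Lib.Helper2.Elus.isSemisimple_of_pow_eq_one g r H.r0 H.hr
  have hgi_pow : ∀ (k : ℕ) (z : V), (g ^ k) ((gi ^ k) z) = z := by
    intro k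
    induction k with
    | zero => intro z; rfl
    | succ k ih =>
      intro z
      rw [pow_succ, pow_succ', Module.End.mul_apply, Module.End.mul_apply, H.g_gi, ih]
  have hKgi : ∀ x ∈ LinearMap.ker (aeval g φ), gi x ∈ LinearMap.ker (aeval g φ) :=
    Cfsg.Agent.Lib.Helper5.OElus.gi_mem_of_inv g gi H.gi_g r H.rodd.pos H.hr _ (ker_aeval_inv g φ)
  apply hQ v
  intro z
  obtain ⟨k, w, hk, rfl⟩ := exists_ker_add_range (aeval g φ) (hss.aeval φ) z
  rw [polar_add_left, h k (LinearMap.mem_ker.mpr hk), zero_add]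
  have hy : (gi ^ φ.natDegree) v ∈ LinearMap.ker (aeval g φ) :=
    pow_apply_mem gi _ hKgi φ.natDegree hv
  have h1 := Cfsg.Agent.Lib.Helper5.QuadSign.polar_aeval_pow Q g H.hiso φ φ.natDegree le_rfl w
    ((gi ^ φ.natDegree) v)
  rw [hgi_pow] at h1
  rw [h1]
  have h2 : φ.reflect φ.natDegree = φ.reverse := rfl
  rw [h2, hrev, aeval_mul_apply, LinearMap.mem_ker.mp hy, map_zero, polar_zero_right]

variable [Fintype F]

/-- **the bound**: invariant totally singular subspaces of the moving part of an isometry with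
self-reciprocal types -/
theorem MovHyp.ts_bound (H : MovHyp Q g gi r) (hQ : Nd Q) [hr : Fact r.Prime]
    (hrq : ¬ r ∣ Fintype.card F) (i t : ℕ)
    (hi : i = orderOf ((Fintype.card F : ℕ) : ZMod r)) (f : Fin t → F[X])
    (Hf : FamHyp r i t f) (hti : t * i = r - 1)
    (hsd : ∀ j, Cfsg.Agent.Lib.Helper5.SemiCount.star (RingHom.id F) (f j) = f j) (n : ℕ)
    (cv : Fin t → ℕ) (hχ : LinearMap.charpoly g = Pc n i t f cv) (W : Submodule F V)
    (hWM : W ≤ LinearMap.range (g - 1)) (hWg : ∀ w ∈ W, g w ∈ W) (hts : ∀ w ∈ W, Q w = 0) :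
    finrank F W ≤ i * ∑ j, cv j / 2 := by
  classical
  have hss : Module.End.IsSemisimple g :=
    Cfsg.Agent.Lib.Helper2.Elus.isSemisimple_of_pow_eq_one g r H.r0 H.hr
  have hi0 : 0 < i := Hf.ipos
  -- (a)
  have hkill : W ≤ LinearMap.ker (aeval g (∏ j ∈ Finset.univ, f j)) := by
    intro x hx
    obtain ⟨y, rfl⟩ := (H.mem_mov x).1 (hWM hx)
    rw [LinearMap.mem_ker]
    have h1 : aeval g (∏ j, f j) (g y - y) = aeval g ((X - C 1) * ∏ j, f j) y := by
      rw [mul_comm, aeval_mul_apply, aeval_sub_one]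
    rw [h1, ← X_pow_sub_one_eq Hf hti, map_sub, map_pow, aeval_X, H.hr, map_one, sub_self,
      LinearMap.zero_apply]
  -- (b)
  have hsum := finrank_le_sum_inf_ker g f Finset.univ (by
    intro a _ b _ hab
    apply (Irreducible.coprime_iff_not_dvd (Hf.irr a)).mpr
    exact fam_not_dvd Hf (some a) (some b) (fun h => hab (Option.some_injective _ h))) W hWg hkill
  -- (c)
  have hj : ∀ j, finrank F (W ⊓ LinearMap.ker (aeval g (f j)) : Submodule F V) ≤
      i * (cv j / 2) := by
    intro j
    have hc0 : (f j).coeff 0 ≠ 0 := by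
      rw [coeff_zero_eq_eval_zero]
      exact eval_zero_fam_ne Hf (some j)
    have hrev : (f j).reverse = C ((f j).coeff 0) * f j := by
      have h1 := hsd j
      unfold Cfsg.Agent.Lib.Helper5.SemiCount.star at h1
      rw [Polynomial.map_id, RingHom.id_apply] at h1
      have h2 : C ((f j).coeff 0) * (C ((f j).coeff 0)⁻¹ * (f j).reverse) = (f j).reverse := by
        rw [← mul_assoc, ← C_mul, mul_inv_cancel₀ hc0, C_1, one_mul]
      rw [h1] at h2
      exact h2.symm
    have hnd := H.ndOn_ker hQ (f j) _ hrev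
    have h1 := two_mul_finrank_le_of_ti Q hnd (inf_le_right : W ⊓ LinearMap.ker (aeval g (f j)) ≤ _)
      (fun x hx y hy => polar_of_ts Q hts hx.1 hy.1)
    have h2 := finrank_ker_le g hss (f j) (Hf.irr j) (Hf.monic j) (cv j) (by
      intro k hk
      rw [hχ] at hk
      exact pow_dvd_Pc_le Hf cv j k hk)
    rw [Hf.deg j] at h2
    have hinv : Elus.Inv g (W ⊓ LinearMap.ker (aeval g (f j))) :=
      fun x hx => ⟨hWg x hx.1, ker_aeval_inv g _ x hx.2⟩
    have h3 := Elus.mod_inf_of_inv g r H.hr hrq _ hinv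
    have h4 : (W ⊓ LinearMap.ker (aeval g (f j))) ⊓ LinearMap.ker (g - 1) = ⊥ := by
      rw [eq_bot_iff]
      intro x hx
      rw [Submodule.mem_bot]
      exact Submodule.disjoint_def.1 H.disjoint x hx.2 (hWM hx.1.1)
    rw [h4, finrank_bot, Nat.sub_zero, ← hi] at h3
    obtain ⟨b, hb⟩ := h3
    rw [hb] at h1 ⊢
    apply Nat.mul_le_mul_left
    have h5 : i * (2 * b) ≤ i * cv j := by
      have e : i * (2 * b) = 2 * (i * b) := by ring
      rw [e]
      exact h1.trans h2
    have h6 := Nat.le_of_mul_le_mul_left h5 hi0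
    omega
  calc finrank F W ≤ ∑ j, finrank F (W ⊓ LinearMap.ker (aeval g (f j)) : Submodule F V) := hsum
    _ ≤ ∑ j, i * (cv j / 2) := Finset.sum_le_sum (fun j _ => hj j)
    _ = i * ∑ j, cv j / 2 := by rw [Finset.mul_sum]


omit [FiniteDimensional F V] in
/-- the multiplicity of `X - 1` in `Pc` -/
theorem pow_dvd_Pc_le_none {n i t : ℕ} {f : Fin t → F[X]} (Hf : FamHyp r i t f)
    (cv : Fin t → ℕ) (k : ℕ) (h : (X - C 1 : F[X]) ^ k ∣ Pc n i t f cv) :
    k ≤ n - i * ∑ j, cv j := by
  classical
  rw [Pc_eq_prod] at h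
  have key : emultiplicity (fam t f none) (∏ o, fam t f o ^
      (fun o : Option (Fin t) => o.elim (n - i * ∑ j, cv j) cv) o) =
      ((n - i * ∑ j, cv j : ℕ) : ℕ∞) := by
    rw [Finset.emultiplicity_prod (fam_irr Hf none).prime, Finset.sum_eq_single none]
    · exact emultiplicity_pow_self_of_prime (fam_irr Hf none).prime _
    · intro l _ hl
      rw [emultiplicity_pow (fam_irr Hf none).prime,
        emultiplicity_eq_zero.2 (fam_not_dvd Hf none l hl.symm), mul_zero]
    · simp
  have h1 : ((k : ℕ) : ℕ∞) ≤ emultiplicity (fam t f none) (∏ o, fam t f o ^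
      (fun o : Option (Fin t) => o.elim (n - i * ∑ j, cv j) cv) o) :=
    le_emultiplicity_of_pow_dvd h
  rw [key] at h1
  exact_mod_cast h1

/-- the fixed space is no bigger than the characteristic polynomial allows -/
theorem finrank_fix_le (g : Module.End F V) (hss : g.IsSemisimple) {n i t : ℕ}
    {f : Fin t → F[X]} (Hf : FamHyp r i t f) (cv : Fin t → ℕ)
    (hχ : LinearMap.charpoly g = Pc n i t f cv) :
    finrank F (LinearMap.ker (g - 1)) ≤ n - i * ∑ j, cv j := by
  have h1 := finrank_ker_le g hss (X - C 1) (irreducible_X_sub_C 1) (monic_X_sub_C 1)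
    (n - i * ∑ j, cv j) (by
      intro k hk
      rw [hχ] at hk
      exact pow_dvd_Pc_le_none Hf cv k hk)
  rw [natDegree_X_sub_C, one_mul] at h1
  have h2 : aeval g (X - C 1 : F[X]) = g - 1 := by
    rw [map_sub, aeval_X, aeval_C, map_one]
  rw [h2] at h1
  exact h1

end bound

end Cfsg.Agent.Lib.Helper9.BG
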