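import Mathlib
import Cfsg.Prelude
import Cfsg.Agent.Lib.Helper9.BGb
import Cfsg.Agent.Lib.Helper5.OrthCard
import Cfsg.Agent.Lib.Helper5.SpinorHyp2
import Cfsg.Agent.S0286
import Cfsg.Agent.Lib.Helper2.ElusC

set_option autoImplicit false
set_option linter.unusedSectionVars false
set_option linter.unusedVariables false
set_option linter.style.longLine false
set_option linter.unusedSimpArgs false
open Cfsg

set_option maxHeartbeats 1600000
namespace Cfsg.Agent.Lib.Helper9.BG

open QuadraticMap Module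
open Cfsg.Agent.Lib.Helper5.QuadTwo Cfsg.Agent.Lib.Helper2 Cfsg.Agent.Lib.Helper5.OrthCard
  Cfsg.Agent.Lib.Helper5.SpinorHyp2

universe u

section arith

/-- cancelling the powers of `q` in the count through frames -/
theorem count_arith (q N D m : ℕ) (hq : 0 < q) (hm : 2 * m ≤ D)
    (h : N * ∏ i : Fin m, (q ^ m - q ^ (i : ℕ)) = ∏ j ∈ Finset.range m, (q ^ (D - j) - q ^ j)) :
    N * ∏ i : Fin m, (q ^ (m - (i : ℕ)) - 1) = ∏ j ∈ Finset.range m, (q ^ (D - 2 * j) - 1) := by
  rw [Elus.prod_pow_sub q m m le_rfl] at h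
  have hR : ∏ j ∈ Finset.range m, (q ^ (D - j) - q ^ j) =
      (∏ j ∈ Finset.range m, q ^ j) * ∏ j ∈ Finset.range m, (q ^ (D - 2 * j) - 1) := by
    rw [← Finset.prod_mul_distrib]
    refine Finset.prod_congr rfl fun j hj => ?_
    have hj' := Finset.mem_range.mp hj
    have e : D - j = j + (D - 2 * j) := by omega
    rw [e, pow_add, Nat.mul_sub, mul_one]
  have e2 : ∏ i : Fin m, q ^ (i : ℕ) = ∏ j ∈ Finset.range m, q ^ j :=
    Fin.prod_univ_eq_prod_range (fun j => q ^ j) m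
  rw [hR, e2] at h
  have hQ : 0 < ∏ j ∈ Finset.range m, q ^ j := Finset.prod_pos fun j _ => pow_pos hq j
  apply Nat.eq_of_mul_eq_mul_left hQ
  rw [← h]
  ring

end arith

section oddcount
variable {F : Type u} [Field F] [Fintype F]

theorem zeros_odd (d : ℕ) :
    zeros (Cfsg.quadFormOdd d F) = Fintype.card F ^ (2 * d) := by
  have h1 := zeros_genForm_closed (Cfsg.Agent.S0286.sqForm F) Cfsg.Agent.S0286.sqForm_zeros d
  have h2 := card_zeros_reindex (Equiv.sumComm (Fin d ⊕ Fin d) Unit)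
    ⇑(genForm (Cfsg.Agent.S0286.sqForm F) d) (Cfsg.quadFormOdd d F) (Cfsg.Agent.S0286.odd_eq d)
  unfold zeros
  rw [← h2]
  rw [Fintype.card_unique (α := Unit)] at h1
  have hq : 0 < Fintype.card F := Fintype.card_pos
  have h3 : Fintype.card F * Nat.card {v : (Fin d ⊕ Fin d) ⊕ Unit → F //
      genForm (Cfsg.Agent.S0286.sqForm F) d v = 0} = Fintype.card F * Fintype.card F ^ (2 * d) := by
    have e : Fintype.card F ^ (2 * d + 1) = Fintype.card F * Fintype.card F ^ (2 * d) :=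
      pow_succ' _ _
    omega
  exact Nat.eq_of_mul_eq_mul_left hq h3

/-- the count of totally singular `m`-spaces of the odd-dimensional orthogonal space -/
theorem card_ts_odd (h2 : (2 : F) ≠ 0) (d m : ℕ) (hmd : m ≤ d) :
    Nat.card {W : Submodule F (Unit ⊕ (Fin d ⊕ Fin d) → F) // finrank F W = m ∧
      ∀ w ∈ W, Cfsg.quadFormOdd d F w = 0} *
      ∏ i : Fin m, (Fintype.card F ^ (m - (i : ℕ)) - 1) =
      ∏ j ∈ Finset.range m, (Fintype.card F ^ (2 * d - 2 * j) - 1) := by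
  have hQ : Nd (oddForm d F) := by
    intro v hv
    have hnd := oddForm_nondegenerate h2 d
    exact hnd.2 v (fun w => by
      have := hv w
      rwa [← polarBilin_apply_apply] at this)
  have hn : finrank F (Unit ⊕ (Fin d ⊕ Fin d) → F) = 2 * d + 1 := by
    rw [Module.finrank_fintype_fun_eq_card]
    simp
    ring
  have hz : zeros (oddForm d F) = Fintype.card F ^ (2 * d) := by
    rw [coe_oddForm]
    exact zeros_odd d
  have h1 := card_ts_mul (oddForm d F) hQ (fun k => Fintype.card F ^ (2 * d - k)) m (by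
    intro k hk
    rw [hn, hz, ← pow_add, ← pow_add]
    have e1 : k + 1 + (2 * d - k) = 2 * d + 1 := by omega
    have e2 : k + 1 + 2 * d = 2 * d + 1 + k := by omega
    rw [e1, e2, add_comm])
  have h3 : Nat.card {W : Submodule F (Unit ⊕ (Fin d ⊕ Fin d) → F) // finrank F W = m ∧
      ∀ w ∈ W, Cfsg.quadFormOdd d F w = 0} =
      Nat.card {W : Submodule F (Unit ⊕ (Fin d ⊕ Fin d) → F) // finrank F W = m ∧
        TS (oddForm d F) W} := by
    apply Nat.card_congr
    apply Equiv.subtypeEquivRight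
    intro W
    unfold TS
    rw [coe_oddForm]
  rw [h3]
  exact count_arith (Fintype.card F) _ (2 * d) m Fintype.card_pos (by omega) h1

theorem char_not_dvd_card_ts_odd {p : ℕ} [hp : Fact p.Prime] [CharP F p] (h2 : (2 : F) ≠ 0)
    (d m : ℕ) (hmd : m ≤ d) :
    ¬ p ∣ Nat.card {W : Submodule F (Unit ⊕ (Fin d ⊕ Fin d) → F) // finrank F W = m ∧
      ∀ w ∈ W, Cfsg.quadFormOdd d F w = 0} := by
  intro h
  have h1 : p ∣ ∏ j ∈ Finset.range m, (Fintype.card F ^ (2 * d - 2 * j) - 1) := by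
    rw [← card_ts_odd h2 d m hmd]
    exact dvd_mul_of_dvd_left h _
  obtain ⟨j, hj, hdvd⟩ := (Nat.Prime.prime hp.out).exists_mem_finset_dvd h1
  have hj' := Finset.mem_range.mp hj
  exact Elus.ne_char_of_dvd_sub_one (F := F) (p := p) p (2 * d - 2 * j) (by omega) hdvd rfl

theorem exists_dvd_of_dvd_card_ts_odd (h2 : (2 : F) ≠ 0) (d m : ℕ) (hmd : m ≤ d) (r : ℕ)
    [hr : Fact r.Prime]
    (h : r ∣ Nat.card {W : Submodule F (Unit ⊕ (Fin d ⊕ Fin d) → F) // finrank F W = m ∧
      ∀ w ∈ W, Cfsg.quadFormOdd d F w = 0}) :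
    ∃ j < m, r ∣ Fintype.card F ^ (2 * d - 2 * j) - 1 := by
  have h1 : r ∣ ∏ j ∈ Finset.range m, (Fintype.card F ^ (2 * d - 2 * j) - 1) := by
    rw [← card_ts_odd h2 d m hmd]
    exact dvd_mul_of_dvd_left h _
  obtain ⟨j, hj, hdvd⟩ := (Nat.Prime.prime hr.out).exists_mem_finset_dvd h1
  exact ⟨j, Finset.mem_range.mp hj, hdvd⟩

end oddcount

end Cfsg.Agent.Lib.Helper9.BG
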