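import Mathlib
import Cfsg.Prelude
import Cfsg.Agent.Lib.Helper9.BGe
import Cfsg.Agent.Lib.Helper9.BGf
import Cfsg.Agent.Lib.Helper5.OElus.Main

set_option autoImplicit false
set_option linter.unusedSectionVars false
set_option linter.unusedVariables false
set_option linter.style.longLine false
set_option linter.unusedSimpArgs false
open Cfsg

set_option maxHeartbeats 1600000
namespace Cfsg.Agent.Lib.Helper9.BG

universe u

section arith

/-- the arithmetic of the sufficiency direction -/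
theorem suff_arith (n i c t m NM f : ℕ) (hi0 : 0 < i) (hc : c = if Even i then i else 2 * i)
    (hf : f + NM = n) (hcNM : c ∣ NM) (hm2 : 2 * m + 1 ≤ n) (h2 : 2 * (m % i) < n % c)
    (h3 : Odd i ∨ t + 2 * (m / i) ≤ n / i) :
    ∃ a b : ℕ, a + i * b = m ∧ 2 * a + 1 ≤ f ∧
      (b = 0 ∨ i * (if Even i then t + 1 else 1) + 2 * i * (b - 1) ≤ NM) := by
  obtain ⟨j, hj⟩ := hcNM
  have hm := Nat.div_add_mod m i
  have hn := Nat.div_add_mod n c
  have hc0 : 0 < c := by
    rw [hc]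
    split_ifs <;> omega
  have hjle : j ≤ n / c := by
    apply (Nat.le_div_iff_mul_le hc0).mpr
    rw [mul_comm, ← hj]
    omega
  have hkf : n % c ≤ f := by
    have h4 : c * j ≤ c * (n / c) := Nat.mul_le_mul_left c hjle
    omega
  generalize hM : m / i = M at *
  generalize hL : m % i = l at *
  generalize hk : n % c = k at *
  by_cases hev : Even i
  · simp only [if_pos hev] at hc ⊢
    subst c
    have h3' : t + 2 * M ≤ n / i := by
      rcases h3 with h | h
      · exact absurd hev (Nat.not_even_iff_odd.mpr h)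
      · exact h
    generalize hN : n / i = N at *
    obtain ⟨b₀, hb₀⟩ : ∃ b₀, b₀ = (j + 1 - t) / 2 := ⟨_, rfl⟩
    rcases le_or_gt M b₀ with hMb | hMb
    · refine ⟨l, M, by omega, by omega, ?_⟩
      rcases Nat.eq_zero_or_pos M with h0 | h0
      · exact Or.inl h0
      · right
        have h5 : t + 1 + 2 * (M - 1) ≤ j := by omega
        have h6 := Nat.mul_le_mul_left i h5
        have e : i * (t + 1 + 2 * (M - 1)) = i * (t + 1) + 2 * i * (M - 1) := by ring
        rw [e] at h6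
        rw [hj]
        exact h6
    · have h7 : i * b₀ ≤ i * M := Nat.mul_le_mul_left i (by omega)
      have hL1 : 2 * M + j ≤ N + 2 * b₀ := by omega
      have h8 := Nat.mul_le_mul_left i hL1
      have e1 : i * (2 * M + j) = 2 * (i * M) + i * j := by ring
      have e2 : i * (N + 2 * b₀) = i * N + 2 * (i * b₀) := by ring
      rw [e1, e2] at h8
      refine ⟨m - i * b₀, b₀, by omega, by omega, ?_⟩
      rcases Nat.eq_zero_or_pos b₀ with h0 | h0
      · exact Or.inl h0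
      · right
        have h5 : t + 1 + 2 * (b₀ - 1) ≤ j := by omega
        have h6 := Nat.mul_le_mul_left i h5
        have e : i * (t + 1 + 2 * (b₀ - 1)) = i * (t + 1) + 2 * i * (b₀ - 1) := by ring
        rw [e] at h6
        rw [hj]
        exact h6
  · simp only [if_neg hev] at hc ⊢
    subst c
    rcases le_or_gt M j with hMj | hMj
    · refine ⟨l, M, by omega, by omega, ?_⟩
      rcases Nat.eq_zero_or_pos M with h0 | h0
      · exact Or.inl h0
      · right
        have h5 : 1 + 2 * (M - 1) ≤ 2 * j := by omega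
        have h6 := Nat.mul_le_mul_left i h5
        have e : i * (1 + 2 * (M - 1)) = i * 1 + 2 * i * (M - 1) := by ring
        have e' : i * (2 * j) = 2 * i * j := by ring
        rw [e, e'] at h6
        rw [hj]
        exact h6
    · have h7 : i * j ≤ i * M := Nat.mul_le_mul_left i (by omega)
      have e' : 2 * i * j = 2 * (i * j) := by ring
      refine ⟨m - i * j, j, by omega, by omega, ?_⟩
      rcases Nat.eq_zero_or_pos j with h0 | h0
      · exact Or.inl h0
      · right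
        have h5 : 1 + 2 * (j - 1) ≤ 2 * j := by omega
        have h6 := Nat.mul_le_mul_left i h5
        have e : i * (1 + 2 * (j - 1)) = i * 1 + 2 * i * (j - 1) := by ring
        have e'' : i * (2 * j) = 2 * i * j := by ring
        rw [e, e''] at h6
        rw [hj]
        exact h6

/-- the arithmetic of the element with the smallest fixed space -/
theorem nec_arith1 (n i c m a k : ℕ) (hi0 : 0 < i) (hc : c = if Even i then i else 2 * i)
    (hn : Odd n) (hk : k = n % c) (ha : 2 * a ≤ k) (hdvd : i ∣ m - a) (ham : a ≤ m) :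
    m % i = a ∧ 2 * a < k := by
  have hc0 : 0 < c := by
    rw [hc]
    split_ifs <;> omega
  have hc2 : c ≤ 2 * i := by
    rw [hc]
    split_ifs <;> omega
  have hcev : Even c := by
    rw [hc]
    split_ifs with h
    · exact h
    · exact even_two_mul i
  have hklt : k < c := by
    rw [hk]
    exact Nat.mod_lt _ hc0
  have hkodd : Odd k := by
    have h3 := Nat.div_add_mod n c
    rw [← hk] at h3
    obtain ⟨c', hc'⟩ := hcev
    obtain ⟨z, hz⟩ : ∃ z, z = c' * (n / c) := ⟨_, rfl⟩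
    have e : c * (n / c) = 2 * z := by
      rw [hz, hc']
      ring
    rw [e] at h3
    rw [Nat.odd_iff] at hn ⊢
    omega
  have halt : a < i := by omega
  obtain ⟨b, hb⟩ := hdvd
  constructor
  · have h4 : m = a + i * b := by omega
    rw [h4, Nat.add_mul_mod_self_left, Nat.mod_eq_of_lt halt]
  · rw [Nat.odd_iff] at hkodd
    omega

/-- the arithmetic excluding `m < i` -/
theorem nec_arith2 (d i c m j k : ℕ) (hi0 : 0 < i) (hc : c = if Even i then i else 2 * i)
    (hk : k = (2 * d + 1) % c) (hjm : j < m) (hmd : m ≤ d) (hdvd : c ∣ 2 * d - 2 * j)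
    (hmk : 2 * m < k) : False := by
  have hc0 : 0 < c := by
    rw [hc]
    split_ifs <;> omega
  have hklt : k < c := by
    rw [hk]
    exact Nat.mod_lt _ hc0
  have h3 := Nat.div_add_mod (2 * d + 1) c
  rw [← hk] at h3
  have e : 2 * d - 2 * j = c * ((2 * d + 1) / c) + (k - 1 - 2 * j) := by omega
  rw [e] at hdvd
  have h4 := (Nat.dvd_add_right (dvd_mul_right _ _)).mp hdvd
  have h5 := Nat.le_of_dvd (by omega) h4
  omega

/-- the arithmetic of the element with prescribed multiplicities -/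
theorem nec_arith3 (n i t m a b x S fC : ℕ) (hi0 : 0 < i) (him : i ≤ m)
    (hnot : n / i < t + 2 * (m / i)) (hx : x = (n / i - t) / 2) (hS : S = 2 * x + min t (n / i))
    (hfC : fC ≤ n - i * S) (ha : 2 * a ≤ fC) (hb : b ≤ i * x) (hm : m = a + b) : False := by
  have hn := Nat.div_add_mod n i
  have hm' := Nat.div_add_mod m i
  have hM1 : 1 ≤ m / i := Nat.div_pos him hi0
  have hklt : n % i < i := Nat.mod_lt _ hi0
  generalize hN : n / i = N at *
  generalize hM : m / i = M at *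
  have hSN : S ≤ N := by
    rw [hS, hx]
    rcases le_or_gt N t with h | h
    · have : (N - t) / 2 = 0 := by omega
      rw [this, min_eq_right h]
      omega
    · rw [min_eq_left h.le]
      omega
  have h1 : i * S ≤ i * N := Nat.mul_le_mul_left i hSN
  have e1 : i * S = 2 * (i * x) + i * min t N := by
    rw [hS]
    ring
  have h2 : i * 1 ≤ i * M := Nat.mul_le_mul_left i hM1
  rcases le_or_gt N t with h | h
  · rw [min_eq_right h] at e1
    omega
  · rw [min_eq_left h.le] at e1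
    have h3 : N - t ≤ 2 * M - 1 := by omega
    have h4 := Nat.mul_le_mul_left i h3
    have e2 : i * (N - t) = i * N - i * t := Nat.mul_sub i N t
    have e3 : i * (2 * M - 1) = 2 * (i * M) - i := by
      rw [Nat.mul_sub, mul_one]
      ring_nf
    have h5 : i * t ≤ i * N := Nat.mul_le_mul_left i h.le
    omega

end arith

section main
variable {F : Type u} [Field F] [Fintype F]

open QuadraticMap Module Polynomial
open Cfsg.Agent.Lib.Helper5.QuadTwo Cfsg.Agent.Lib.Helper5.QuadSign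
open Cfsg.Agent.Lib.Helper5.OrthPrime Cfsg.Agent.Lib.Helper5.SpinorHyp2
open Cfsg.Agent.Lib.Helper5.OElus Cfsg.Agent.Lib.Helper4.PrimeOrd Cfsg.Agent.Lib.Helper5.NsPt
open Cfsg.Agent.Lib.Helper5.SemiCount Cfsg.Agent.Lib.Helper2

/-- realising a multiplicity vector in `Ω_{2d+1}(q)` -/
theorem exists_elt_Pc_odd {p : ℕ} [Fact p.Prime] [CharP F p] (hodd : Fintype.card F % 2 = 1)
    (d r : ℕ) [hr : Fact r.Prime] (hr2 : r ≠ 2) (r0 : (r : F) ≠ 0) {i t : ℕ} {f : Fin t → F[X]}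
    (H : FamHyp r i t f) (π : Fin t → Fin t) (hπi : Function.Involutive π)
    (hπ : ∀ j, star (RingHom.id F) (f j) = f (π j)) (cv : Fin t → ℕ)
    (hcle : i * ∑ j, cv j ≤ 2 * d + 1) (hcπ : ∀ j, cv (π j) = cv j)
    (hpar : Even (i * ∑ j, cv j)) :
    ∃ g : ↥(Cfsg.isometryGroup F (Cfsg.quadFormOdd d F)), g ^ r = 1 ∧
      g ∈ Cfsg.Omega F (Cfsg.quadFormOdd d F) ∧
      LinearMap.charpoly (Matrix.toLin' ((g : GL (Unit ⊕ (Fin d ⊕ Fin d)) F) :
        Matrix (Unit ⊕ (Fin d ⊕ Fin d)) (Unit ⊕ (Fin d ⊕ Fin d)) F)) =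
        Pc (2 * d + 1) i t f cv := by
  classical
  have rodd : Odd r := hr.out.odd_of_ne_two hr2
  have two : (2 : F) ≠ 0 := Cfsg.Agent.Lib.Helper5.OrthPrime.two_ne_zero_of_odd_card hodd
  obtain ⟨g, hg, hcp⟩ := exists_orth_Pc p hodd d rodd H π hπi hπ
    (Fintype.equivFinOfCardEq (card_index d)) cv hcle hcπ hpar
  rw [QSpace.toGL_charpoly] at hcp
  refine ⟨g, hg, ?_, ?_⟩
  · have hNd : Nd (oddForm d F) := by
      intro v hv
      have hnd := oddForm_nondegenerate two d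
      exact hnd.2 v (fun w => by
        have := hv w
        rwa [← polarBilin_apply_apply] at this)
    have h1 : ∀ g : ↥(Cfsg.isometryGroup F (Cfsg.quadFormOdd d F)), g ^ r = 1 →
        g ∈ Cfsg.Omega F (Cfsg.quadFormOdd d F) := by
      rw [← coe_oddForm]
      intro g hg
      exact mem_Omega_of_odd_order _ hNd g r rodd r0 hg
    exact h1 g hg
  · rw [Matrix.charpoly_toLin']
    exact hcp


/-- splitting an invariant totally singular subspace along the fixed space -/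
theorem split_data {V : Type u} [AddCommGroup V] [Module F V] [FiniteDimensional F V]
    {Q : QuadraticForm F V} (hQ : Nd Q) {g gi : V →ₗ[F] V} {r : ℕ} [hr : Fact r.Prime]
    (MH : MovHyp Q g gi r) (hrq : ¬ r ∣ Fintype.card F) (W : Submodule F V)
    (hWg : ∀ w ∈ W, g w ∈ W) (hts : ∀ w ∈ W, Q w = 0) :
    finrank F W = finrank F (W ⊓ LinearMap.ker (g - 1) : Submodule F V) +
      finrank F (W ⊓ LinearMap.range (g - 1) : Submodule F V) ∧
    orderOf ((Fintype.card F : ℕ) : ZMod r) ∣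
      finrank F W - finrank F (W ⊓ LinearMap.ker (g - 1) : Submodule F V) ∧
    2 * finrank F (W ⊓ LinearMap.ker (g - 1) : Submodule F V) ≤
      finrank F (LinearMap.ker (g - 1)) := by
  refine ⟨?_, ?_, ?_⟩
  · apply SpTi.inv_split MH.r0 MH.hr (X := LinearMap.ker (g - 1)) (X' := LinearMap.range (g - 1))
      le_rfl MH.g_mem_mov
    · rw [inf_comm]
      exact MH.disjoint.eq_bot
    · exact MH.isCompl.sup_eq_top
    · exact hWg
  · exact Elus.mod_inf_of_inv g r MH.hr hrq W hWg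
  · exact two_mul_finrank_le_of_ti Q (MH.ndOn_fix hQ) inf_le_right
      (fun x hx y hy => polar_of_ts Q hts hx.1 hy.1)

variable {p : ℕ} [hp : Fact p.Prime] [CharP F p]

omit hp in
theorem oddForm_nd (h2 : (2 : F) ≠ 0) (d : ℕ) : Nd (oddForm d F) := by
  intro v hv
  have hnd := oddForm_nondegenerate h2 d
  exact hnd.2 v (fun w => by
    have := hv w
    rwa [← polarBilin_apply_apply] at this)

/-- sufficiency for odd primes -/
theorem odd_suff (hqodd : Odd (Fintype.card F)) (d m : ℕ) (hmd : m ≤ d)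
    (r : ℕ) [hr : Fact r.Prime] (hr2 : r ≠ 2) (hrp : r ≠ p) (i c : ℕ)
    (hi : i = orderOf ((Fintype.card F : ℕ) : ZMod r)) (hc : c = if Even i then i else 2 * i)
    (h2 : 2 * (m % i) < (2 * d + 1) % c)
    (h3 : Odd i ∨ (r - 1) / i + 2 * (m / i) ≤ (2 * d + 1) / i)
    (x : GL (Unit ⊕ (Fin d ⊕ Fin d)) F) (hxΩ : x ∈ Cfsg.Geo.omegaGL (Cfsg.quadFormOdd d F))
    (hxord : orderOf x = r) :
    ∃ W : Submodule F (Unit ⊕ (Fin d ⊕ Fin d) → F), finrank F W = m ∧
      (∀ w ∈ W, Cfsg.quadFormOdd d F w = 0) ∧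
      W.map (Matrix.toLin' (x : Matrix (Unit ⊕ (Fin d ⊕ Fin d)) (Unit ⊕ (Fin d ⊕ Fin d)) F)) ≤
        W := by
  have two : (2 : F) ≠ 0 := Cfsg.Agent.Lib.Helper5.two_ne_zero_of_odd_card hqodd
  obtain ⟨f₀, hqp⟩ : ∃ f₀ : ℕ, Fintype.card F = p ^ f₀ := by
    obtain ⟨n, -, hn⟩ := FiniteField.card F p
    exact ⟨n, hn⟩
  have hrq : ¬ r ∣ Fintype.card F := Elus.not_dvd_card_of_ne (F := F) r hrp
  have r0 : (r : F) ≠ 0 := by
    intro h
    have h1 := (CharP.cast_eq_zero_iff F p r).mp h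
    exact hrp ((Nat.prime_dvd_prime_iff_eq hp.out hr.out).mp h1).symm
  have hi0 : 0 < i := by
    rw [hi]
    exact Elus.ord_pos r (Fintype.card F) hrq
  have hcoe : ⇑(oddForm d F) = Cfsg.quadFormOdd d F := coe_oddForm d
  rw [← hcoe] at hxΩ ⊢
  have hQ₀ := oddForm_nd two d
  have hn : finrank F (Unit ⊕ (Fin d ⊕ Fin d) → F) = 2 * d + 1 := by
    rw [Module.finrank_fintype_fun_eq_card, card_index]
  have hxmem : x ∈ Cfsg.isometryGroup F ⇑(oddForm d F) := by
    obtain ⟨y, -, rfl⟩ := hxΩ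
    exact y.2
  obtain ⟨g, gi, hgdef, hiso, gi_g, g_gi, hpow⟩ := exists_lin_data (oddForm d F) x hxmem
  have hgr : g ^ r = 1 := hpow r (by rw [← hxord]; exact pow_orderOf_eq_one _)
  rw [← hgdef]
  have MH : MovHyp (oddForm d F) g gi r :=
    ⟨hiso, gi_g, g_gi, hgr, hr.out.odd_of_ne_two hr2, r0⟩
  have hsum := Submodule.finrank_add_eq_of_isCompl MH.isCompl
  rw [hn] at hsum
  have hisoB : ∀ x y, polarBilin (oddForm d F) (g x) (g y) = polarBilin (oddForm d F) x y := by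
    intro x y
    rw [polarBilin_apply_apply, polarBilin_apply_apply]
    exact MH.polar_iso x y
  have hcM : c ∣ finrank F (LinearMap.range (g - 1)) := by
    have h1 := dvd_finrank_sub_fix (polarBilin (oddForm d F)) (symm_polarBilin _) g gi hisoB g_gi r
      hr2 hrq hgr i c hi hc (LinearMap.range (g - 1)) MH.g_mem_mov MH.gi_mem_mov
      (fun w hw hwu => MH.ndOn_mov hQ₀ w hw (fun u hu => by
        have := hwu u hu
        rwa [polarBilin_apply_apply, polar_comm] at this))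
    have h4 : (LinearMap.range (g - 1) ⊓ LinearMap.ker (g - 1) : Submodule F _) = ⊥ := by
      rw [inf_comm]
      exact MH.disjoint.eq_bot
    rw [h4, finrank_bot, Nat.sub_zero] at h1
    exact h1
  obtain ⟨a, b, hab, ha, hb⟩ := suff_arith (2 * d + 1) i c ((r - 1) / i) m
    (finrank F (LinearMap.range (g - 1))) (finrank F (LinearMap.ker (g - 1))) hi0 hc hsum hcM
    (by omega) h2 h3
  obtain ⟨WM, hWMM, hWMfin, hWMts, hWMg⟩ := MH.exists_ts_mov hqp hQ₀ hr2 hrp hrq i hi b hb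
  obtain ⟨U, hUC, hUts, hUfin⟩ := exists_ts_in (oddForm d F) _ (MH.ndOn_fix hQ₀) a ha
  obtain ⟨h5, h6, h7⟩ := MH.exists_ts_glue hUC hUts hWMM hWMts hWMg
  refine ⟨U ⊔ WM, by rw [h5, hUfin, hWMfin]; exact hab, h6, ?_⟩
  rintro _ ⟨w, hw, rfl⟩
  exact h7 w hw


/-- the data of an element of `Ω` of order `r` with an invariant totally singular subspace -/
theorem elt_data (two : (2 : F) ≠ 0) (d m r : ℕ) [hr : Fact r.Prime] (hr2 : r ≠ 2)
    (r0 : (r : F) ≠ 0) (x : GL (Unit ⊕ (Fin d ⊕ Fin d)) F)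
    (hxmem : x ∈ Cfsg.isometryGroup F ⇑(oddForm d F)) (hxr : x ^ r = 1)
    (W : Submodule F (Unit ⊕ (Fin d ⊕ Fin d) → F))
    (hWinv : W.map (Matrix.toLin' (x : Matrix (Unit ⊕ (Fin d ⊕ Fin d))
      (Unit ⊕ (Fin d ⊕ Fin d)) F)) ≤ W) :
    ∃ g gi : (Unit ⊕ (Fin d ⊕ Fin d) → F) →ₗ[F] (Unit ⊕ (Fin d ⊕ Fin d) → F),
      g = Matrix.toLin' (x : Matrix (Unit ⊕ (Fin d ⊕ Fin d)) (Unit ⊕ (Fin d ⊕ Fin d)) F) ∧
      MovHyp (oddForm d F) g gi r ∧ ∀ w ∈ W, g w ∈ W := by
  obtain ⟨g, gi, hgdef, hiso, gi_g, g_gi, hpow⟩ := exists_lin_data (oddForm d F) x hxmem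
  refine ⟨g, gi, hgdef, ⟨hiso, gi_g, g_gi, hpow r hxr, hr.out.odd_of_ne_two hr2, r0⟩, ?_⟩
  intro w hw
  rw [hgdef]
  exact hWinv ⟨w, hw, rfl⟩

/-- necessity for odd primes -/
theorem odd_nec (hqodd : Odd (Fintype.card F)) (d m : ℕ) (hm : 1 ≤ m) (hmd : m ≤ d)
    (r : ℕ) [hr : Fact r.Prime] (hr2 : r ≠ 2) (hrp : r ≠ p)
    (hrΩ : r ∣ Nat.card {W : Submodule F (Unit ⊕ (Fin d ⊕ Fin d) → F) // finrank F W = m ∧
      ∀ w ∈ W, Cfsg.quadFormOdd d F w = 0}) (i c : ℕ)
    (hi : i = orderOf ((Fintype.card F : ℕ) : ZMod r)) (hc : c = if Even i then i else 2 * i)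
    (Hx : ∀ x : GL (Unit ⊕ (Fin d ⊕ Fin d)) F, x ∈ Cfsg.Geo.omegaGL (Cfsg.quadFormOdd d F) →
      orderOf x = r →
      ∃ W : Submodule F (Unit ⊕ (Fin d ⊕ Fin d) → F), finrank F W = m ∧
        (∀ w ∈ W, Cfsg.quadFormOdd d F w = 0) ∧
        W.map (Matrix.toLin' (x : Matrix (Unit ⊕ (Fin d ⊕ Fin d))
          (Unit ⊕ (Fin d ⊕ Fin d)) F)) ≤ W) :
    i ≤ m ∧ 2 * (m % i) < (2 * d + 1) % c ∧
      (Odd i ∨ (r - 1) / i + 2 * (m / i) ≤ (2 * d + 1) / i) := by
  classical
  have two : (2 : F) ≠ 0 := Cfsg.Agent.Lib.Helper5.two_ne_zero_of_odd_card hqodd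
  have hodd : Fintype.card F % 2 = 1 := Nat.odd_iff.1 hqodd
  have hrq : ¬ r ∣ Fintype.card F := Elus.not_dvd_card_of_ne (F := F) r hrp
  have r0 : (r : F) ≠ 0 := by
    intro h
    have h1 := (CharP.cast_eq_zero_iff F p r).mp h
    exact hrp ((Nat.prime_dvd_prime_iff_eq hp.out hr.out).mp h1).symm
  have hi0 : 0 < i := by
    rw [hi]
    exact Elus.ord_pos r (Fintype.card F) hrq
  have hc0 : 0 < c := by
    rw [hc]
    split_ifs <;> omega
  have hcoe : ⇑(oddForm d F) = Cfsg.quadFormOdd d F := coe_oddForm d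
  have hQ₀ := oddForm_nd two d
  have hn : finrank F (Unit ⊕ (Fin d ⊕ Fin d) → F) = 2 * d + 1 := by
    rw [Module.finrank_fintype_fun_eq_card, card_index]
  have hmem : ∀ x : GL (Unit ⊕ (Fin d ⊕ Fin d)) F,
      x ∈ Cfsg.Geo.omegaGL (Cfsg.quadFormOdd d F) →
      x ∈ Cfsg.isometryGroup F ⇑(oddForm d F) := by
    rw [hcoe]
    rintro x ⟨y, -, rfl⟩
    exact y.2
  -- the count
  obtain ⟨j, hjm, hdvd⟩ := exists_dvd_of_dvd_card_ts_odd two d m hmd r hrΩ
  have hidvd := Elus.ord_dvd_of_dvd_sub_one r (Fintype.card F) (2 * d - 2 * j) Fintype.card_pos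
    hdvd
  rw [← hi] at hidvd
  have hcdvd : c ∣ 2 * d - 2 * j := by
    by_cases hev : Even i
    · rw [hc, if_pos hev]
      exact hidvd
    · rw [hc, if_neg hev]
      have hodd' := Nat.not_even_iff_odd.mp hev
      exact Nat.Coprime.mul_dvd_of_dvd_of_dvd (Nat.coprime_two_left.mpr hodd')
        ⟨d - j, by omega⟩ hidvd
  have hcn : c ≤ 2 * d + 1 := by
    have := Nat.le_of_dvd (by omega) hcdvd
    omega
  -- the element with the smallest fixed space
  obtain ⟨g₀, hg₀r, hg₀1, hg₀Ω, hg₀fix⟩ :=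
    exists_max_elt p rfl hodd d r hr2 hrp i c hi hc hcn
  have hx₀Ω : (g₀ : GL (Unit ⊕ (Fin d ⊕ Fin d)) F) ∈
      Cfsg.Geo.omegaGL (Cfsg.quadFormOdd d F) := ⟨g₀, hg₀Ω, rfl⟩
  have hx₀ord : orderOf (g₀ : GL (Unit ⊕ (Fin d ⊕ Fin d)) F) = r := by
    rw [Subgroup.orderOf_coe]
    exact orderOf_eq_prime hg₀r hg₀1
  obtain ⟨W, hWfin, hWts, hWinv⟩ := Hx _ hx₀Ω hx₀ord
  obtain ⟨g, gi, hgdef, MH, hWg⟩ := elt_data two d m r hr2 r0 _ (hmem _ hx₀Ω)
    (by rw [← hx₀ord]; exact pow_orderOf_eq_one _) W hWinv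
  rw [← hgdef] at hg₀fix
  rw [← hcoe] at hWts
  obtain ⟨hs1, hs2, hs3⟩ := split_data hQ₀ MH hrq W hWg hWts
  rw [hg₀fix] at hs3
  rw [hWfin, ← hi] at hs2
  have ham : finrank F (W ⊓ LinearMap.ker (g - 1) : Submodule F _) ≤ m := by
    rw [← hWfin]
    exact Submodule.finrank_mono inf_le_left
  obtain ⟨hmod, hlt⟩ := nec_arith1 (2 * d + 1) i c m _ _ hi0 hc ⟨d, rfl⟩ rfl hs3 hs2 ham
  have him : i ≤ m := by
    by_contra hcon
    push Not at hcon
    rw [Nat.mod_eq_of_lt hcon] at hmod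
    rw [← hmod] at hlt
    exact nec_arith2 d i c m j _ hi0 hc rfl hjm hmd hcdvd hlt
  refine ⟨him, by rw [hmod]; exact hlt, ?_⟩
  by_cases hev : Even i
  swap
  · exact Or.inl (Nat.not_even_iff_odd.mp hev)
  right
  by_contra hnot
  push Not at hnot
  -- the element with prescribed multiplicities
  obtain ⟨hqr, t, ht⟩ := exists_order_setup p (rfl : Fintype.card F = Fintype.card F) r hr.out hrp
  rw [← hi] at ht
  obtain ⟨-, hi', ht1, f, H, π, hπi, hπ, hπe, hπo⟩ :=
    family_setup p (rfl : Fintype.card F = Fintype.card F) r i t hr.out hr2 hrp hi ht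
  have htdiv : (r - 1) / i = t := Nat.div_eq_of_eq_mul_left hi0 ht.symm
  rw [htdiv] at hnot
  have hπid : π = id := hπe hev
  obtain ⟨N, hN⟩ : ∃ N, N = (2 * d + 1) / i := ⟨_, rfl⟩
  have hN1 : 1 ≤ N := by
    rw [hN]
    exact Nat.div_pos (by omega) hi0
  obtain ⟨x₀, hx₀⟩ : ∃ x₀, x₀ = (N - t) / 2 := ⟨_, rfl⟩
  obtain ⟨cv, hcv⟩ : ∃ cv : Fin t → ℕ, cv = fun j : Fin t =>
      (if (j : ℕ) = 0 then 2 * x₀ else 0) + (if (j : ℕ) < N then 1 else 0) := ⟨_, rfl⟩
  have hsum1 : ∑ j, cv j = 2 * x₀ + min t N := by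
    rw [hcv, Finset.sum_add_distrib]
    congr 1
    · rw [Finset.sum_eq_single (⟨0, ht1⟩ : Fin t)]
      · simp
      · intro b _ hb
        have : (b : ℕ) ≠ 0 := fun h => hb (Fin.ext h)
        rw [if_neg this]
      · intro h
        exact absurd (Finset.mem_univ _) h
    · rw [Finset.sum_boole, Fin.card_filter_val_lt]
      rfl
  have hsum2 : ∑ j, cv j / 2 = x₀ := by
    rw [Finset.sum_eq_single (⟨0, ht1⟩ : Fin t)]
    · rw [hcv]
      simp only [if_true]
      rw [if_pos (by omega)]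
      omega
    · intro b _ hb
      have : (b : ℕ) ≠ 0 := fun h => hb (Fin.ext h)
      rw [hcv]
      simp only [if_neg this]
      split_ifs <;> omega
    · intro h
      exact absurd (Finset.mem_univ _) h
  have hSN : ∑ j, cv j ≤ N := by
    rw [hsum1, hx₀]
    rcases le_or_gt N t with h | h
    · have : (N - t) / 2 = 0 := by omega
      rw [this, min_eq_right h]
      omega
    · rw [min_eq_left h.le]
      omega
  have hcle : i * ∑ j, cv j ≤ 2 * d + 1 := by
    have h1 : i * ∑ j, cv j ≤ i * N := Nat.mul_le_mul_left i hSN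
    have h2 := Nat.mul_div_le (2 * d + 1) i
    rw [← hN] at h2
    omega
  obtain ⟨g₁, hg₁r, hg₁Ω, hcp⟩ := exists_elt_Pc_odd (p := p) hodd d r hr2 r0 H π hπi hπ cv hcle
    (fun j => by rw [hπid]; rfl) (hev.mul_right _)
  have hcv0 : 1 ≤ cv ⟨0, ht1⟩ := by
    rw [hcv]
    simp only [if_true]
    rw [if_pos (by omega)]
    omega
  have hg₁1 : g₁ ≠ 1 := by
    rintro rfl
    have h1 : Matrix.toLin' (((1 : ↥(Cfsg.isometryGroup F (Cfsg.quadFormOdd d F))) :
        GL (Unit ⊕ (Fin d ⊕ Fin d)) F) :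
        Matrix (Unit ⊕ (Fin d ⊕ Fin d)) (Unit ⊕ (Fin d ⊕ Fin d)) F) = 1 := by
      rw [Subgroup.coe_one, Units.val_one, Matrix.toLin'_one]
      rfl
    rw [h1, LinearMap.charpoly_one, hn] at hcp
    have h2 : Pc (2 * d + 1) i t f cv = Pc (2 * d + 1) i t f 0 := by
      rw [← hcp, Pc_zero, C_1]
    have h3 := Pc_injective H cv 0 h2
    rw [h3] at hcv0
    exact absurd hcv0 (by simp)
  have hx₁Ω : (g₁ : GL (Unit ⊕ (Fin d ⊕ Fin d)) F) ∈
      Cfsg.Geo.omegaGL (Cfsg.quadFormOdd d F) := ⟨g₁, hg₁Ω, rfl⟩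
  have hx₁ord : orderOf (g₁ : GL (Unit ⊕ (Fin d ⊕ Fin d)) F) = r := by
    rw [Subgroup.orderOf_coe]
    exact orderOf_eq_prime hg₁r hg₁1
  obtain ⟨W', hW'fin, hW'ts, hW'inv⟩ := Hx _ hx₁Ω hx₁ord
  obtain ⟨g', gi', hg'def, MH', hW'g⟩ := elt_data two d m r hr2 r0 _ (hmem _ hx₁Ω)
    (by rw [← hx₁ord]; exact pow_orderOf_eq_one _) W' hW'inv
  rw [← hg'def] at hcp
  rw [← hcoe] at hW'ts
  obtain ⟨ht1', -, ht3'⟩ := split_data hQ₀ MH' hrq W' hW'g hW'ts
  have hsd : ∀ j, star (RingHom.id F) (f j) = f j := by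
    intro j
    rw [hπ j, hπid]
    rfl
  have hbound := MH'.ts_bound hQ₀ hrq i t hi f H ht hsd (2 * d + 1) cv hcp
    (W' ⊓ LinearMap.range (g' - 1)) inf_le_right
    (fun w hw => ⟨hW'g w hw.1, MH'.g_mem_mov w hw.2⟩) (fun w hw => hW'ts w hw.1)
  rw [hsum2] at hbound
  have hfix := finrank_fix_le g'
    (Elus.isSemisimple_of_pow_eq_one g' r MH'.r0 MH'.hr) H cv hcp
  rw [hW'fin] at ht1'
  exact nec_arith3 (2 * d + 1) i t m _ _ x₀ (∑ j, cv j) _ hi0 him (by rw [← hN] at hnot ⊢; exact hnot)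
    (by rw [← hN]; exact hx₀) (by rw [← hN]; exact hsum1) hfix ht3' hbound ht1'

end main

end Cfsg.Agent.Lib.Helper9.BG
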