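import Mathlib
import Cfsg.Prelude
import Cfsg.Agent.Lib.Helper9.BGg
import Cfsg.Agent.Lib.Helper5.OParab.TwoCrit
import Cfsg.Agent.Lib.Helper5.OParab.UnipAn

set_option autoImplicit false
set_option linter.unusedSectionVars false
set_option linter.unusedVariables false
set_option linter.style.longLine false
set_option linter.unusedSimpArgs false
open Cfsg

set_option maxHeartbeats 1600000
namespace Cfsg.Agent.Lib.Helper9.BG

universe u

open QuadraticMap Module
open Cfsg.Agent.Lib.Helper5.QuadTwo Cfsg.Agent.Lib.Helper5.QuadSign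
open Cfsg.Agent.Lib.Helper5.OrthPrime Cfsg.Agent.Lib.Helper5.SpinorHyp2
open Cfsg.Agent.Lib.Helper5.OElus Cfsg.Agent.Lib.Helper5.OParab
open Cfsg.Agent.Lib.Helper5.SpinorNorm Cfsg.Agent.Lib.Helper5.SpinorHyp
open Cfsg.Agent.Lib.Helper5.SpinorDiag Cfsg.Agent.Lib.Helper5.SpinClifford
open Cfsg.Agent.Lib.Helper5.OmegaCrit Cfsg.Agent.Lib.Helper2

section invol
variable {F : Type u} [Field F] {V : Type u} [AddCommGroup V] [Module F V]

/-- eigenspaces of an isometric involution -/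
theorem invol_data (h2 : (2 : F) ≠ 0) (Q : QuadraticForm F V) (hQ : Nd Q) (g : V →ₗ[F] V)
    (hiso : ∀ x, Q (g x) = Q x) (hgg : ∀ v, g (g v) = v) :
    ∃ Ep Em : Submodule F V, (∀ x, x ∈ Ep ↔ g x = x) ∧ (∀ x, x ∈ Em ↔ g x = -x) ∧
      IsCompl Ep Em ∧ (∀ u ∈ Ep, ∀ w ∈ Em, polar Q u w = 0) ∧ NdOn Q Ep ∧ NdOn Q Em := by
  have hS : Symm (polarBilin Q) := symm_polarBilin Q
  have hB : Nondeg (polarBilin Q) := fun v hv => hQ v (fun w => by
    have := hv w
    rwa [polarBilin_apply_apply] at this)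
  have hpol : ∀ x y, polar Q (g x) (g y) = polar Q x y := by
    intro x y
    unfold polar
    rw [← map_add, hiso, hiso, hiso]
  obtain ⟨Ep, hEp⟩ : ∃ Ep : Submodule F V, Ep = LinearMap.ker (g - 1) := ⟨_, rfl⟩
  obtain ⟨Em, hEm⟩ : ∃ Em : Submodule F V, Em = LinearMap.ker (g + 1) := ⟨_, rfl⟩
  have memp : ∀ x, x ∈ Ep ↔ g x = x := by
    intro x
    rw [hEp, LinearMap.mem_ker, LinearMap.sub_apply, Module.End.one_apply, sub_eq_zero]
  have memm : ∀ x, x ∈ Em ↔ g x = -x := by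
    intro x
    rw [hEm, LinearMap.mem_ker, LinearMap.add_apply, Module.End.one_apply, add_eq_zero_iff_eq_neg]
  have hcompl : IsCompl Ep Em := by
    constructor
    · rw [disjoint_iff, eq_bot_iff]
      intro x hx
      rw [Submodule.mem_inf, memp, memm] at hx
      rw [Submodule.mem_bot]
      have h1 : (2 : F) • x = 0 := by
        rw [two_smul]
        nth_rewrite 1 [← hx.1]
        rw [hx.2, neg_add_cancel]
      exact (smul_eq_zero.1 h1).resolve_left h2
    · rw [codisjoint_iff, eq_top_iff]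
      intro x _
      have h1 : x = (2 : F)⁻¹ • (x + g x) + (2 : F)⁻¹ • (x - g x) := by
        rw [← smul_add, add_add_sub_cancel, ← two_smul F x, smul_smul, inv_mul_cancel₀ h2,
          one_smul]
      rw [h1]
      apply Submodule.add_mem
      · apply Submodule.mem_sup_left
        rw [memp, map_smul, map_add, hgg, add_comm]
      · apply Submodule.mem_sup_right
        rw [memm, map_smul, map_sub, hgg, ← smul_neg, neg_sub]
  have horth : ∀ u ∈ Ep, ∀ w ∈ Em, polar Q u w = 0 := by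
    intro u hu w hw
    have h1 := hpol u w
    rw [(memp u).1 hu, (memm w).1 hw, polar_neg_right] at h1
    have h3 : (2 : F) * polar Q u w = 0 := by linear_combination -h1
    exact (mul_eq_zero.1 h3).resolve_left h2
  have horth' : ∀ w ∈ Em, ∀ u ∈ Ep, polar Q w u = 0 := by
    intro w hw u hu
    rw [polar_comm]
    exact horth u hu w hw
  have hEpnd : NdOn Q Ep := (nondeg_res_iff Q Ep).1
    (nondeg_of_isCompl hS hB hcompl (fun u hu w hw => by
      rw [polarBilin_apply_apply]; exact horth u hu w hw))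
  have hEmnd : NdOn Q Em := (nondeg_res_iff Q Em).1
    (nondeg_of_isCompl hS hB hcompl.symm (fun u hu w hw => by
      rw [polarBilin_apply_apply]; exact horth' u hu w hw))
  exact ⟨Ep, Em, memp, memm, hcompl, horth, hEpnd, hEmnd⟩

/-- splitting off a nonsingular vector of a nondegenerate subspace -/
theorem split_vec [FiniteDimensional F V] (h2 : (2 : F) ≠ 0) (Q : QuadraticForm F V)
    (U : Submodule F V) (hU : NdOn Q U) (hpos : 0 < finrank F U) :
    ∃ v ∈ U, Q v ≠ 0 ∧ ∃ U' : Submodule F V, U' ≤ U ∧ NdOn Q U' ∧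
      finrank F U' + 1 = finrank F U ∧ (∀ x ∈ U', polar Q v x = 0) ∧
      Disjoint (Submodule.span F {v}) U' ∧ Submodule.span F {v} ⊔ U' = U := by
  obtain ⟨v, hvU, hv⟩ : ∃ v ∈ U, Q v ≠ 0 := by
    by_contra hcon
    push Not at hcon
    have hbot : U = ⊥ := by
      rw [eq_bot_iff]
      intro x hx
      rw [Submodule.mem_bot]
      apply hU x hx
      intro w hw
      unfold polar
      rw [hcon _ (U.add_mem hw hx), hcon w hw, hcon x hx]
      ring
    rw [hbot, finrank_bot] at hpos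
    exact lt_irrefl 0 hpos
  have hβ : (2 : F) * Q v ≠ 0 := mul_ne_zero h2 hv
  have hvv : polar Q v v = 2 * Q v := by rw [polar_self, nsmul_eq_mul, Nat.cast_ofNat]
  have hv0 : v ≠ 0 := by
    rintro rfl
    exact hv (map_zero Q)
  obtain ⟨U', hU'def⟩ : ∃ U' : Submodule F V, U' = U ⊓ LinearMap.ker (polarBilin Q v) :=
    ⟨_, rfl⟩
  have memU' : ∀ x, x ∈ U' ↔ x ∈ U ∧ polar Q v x = 0 := by
    intro x
    rw [hU'def, Submodule.mem_inf, LinearMap.mem_ker, polarBilin_apply_apply]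
  have hdec : ∀ x ∈ U, ∃ a : F, ∃ u' ∈ U', x = a • v + u' := by
    intro x hx
    refine ⟨(2 * Q v)⁻¹ * polar Q v x, x - ((2 * Q v)⁻¹ * polar Q v x) • v, ?_, by abel⟩
    rw [memU']
    refine ⟨U.sub_mem hx (U.smul_mem _ hvU), ?_⟩
    rw [polar_sub_right, polar_smul_right, hvv, smul_eq_mul]
    have : (2 * Q v)⁻¹ * polar Q v x * (2 * Q v) = polar Q v x := by
      field_simp
    rw [this, sub_self]
  have hU'U : U' ≤ U := fun x hx => ((memU' x).1 hx).1
  have hdisj : Disjoint (Submodule.span F {v}) U' := by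
    rw [Submodule.disjoint_def]
    intro x hxP hxU'
    obtain ⟨a, rfl⟩ := Submodule.mem_span_singleton.1 hxP
    obtain ⟨-, h1⟩ := (memU' _).1 hxU'
    rw [polar_smul_right, hvv, smul_eq_mul] at h1
    rw [(mul_eq_zero.1 h1).resolve_right hβ, zero_smul]
  have hsup : Submodule.span F {v} ⊔ U' = U := by
    apply le_antisymm (sup_le ((Submodule.span_singleton_le_iff_mem v U).2 hvU) hU'U)
    intro x hx
    obtain ⟨a, u', hu', rfl⟩ := hdec x hx
    exact Submodule.add_mem_sup (Submodule.smul_mem _ a (Submodule.mem_span_singleton_self v)) hu'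
  refine ⟨v, hvU, hv, U', hU'U, ?_, ?_, fun x hx => ((memU' x).1 hx).2, hdisj, hsup⟩
  · intro x hx hxw
    obtain ⟨hxU, h1⟩ := (memU' x).1 hx
    apply hU x hxU
    intro w hw
    obtain ⟨a, u', hu', rfl⟩ := hdec w hw
    rw [polar_add_left, polar_smul_left, h1, hxw u' hu', smul_zero, add_zero]
  · have h3 := Submodule.finrank_sup_add_finrank_inf_eq (Submodule.span F {v}) U'
    rw [hsup, hdisj.eq_bot, finrank_bot, finrank_span_singleton hv0] at h3
    omega

/-- an orthogonal list of nonsingular vectors spanning a nondegenerate subspace -/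
theorem exists_orth_list [FiniteDimensional F V] (h2 : (2 : F) ≠ 0) (Q : QuadraticForm F V) :
    ∀ (n : ℕ) (U : Submodule F V), finrank F U = n → NdOn Q U →
      ∃ vs : List V, (∀ v ∈ vs, v ∈ U ∧ Q v ≠ 0) ∧ vs.length = n ∧
        vs.Pairwise (fun u v => polar Q u v = 0) ∧ Submodule.span F {v | v ∈ vs} = U ∧
        IsDisc (resForm (polarBilin Q) U) (2 ^ n * (vs.map Q).prod) := by
  intro n
  induction n with
  | zero =>
    intro U hk _
    have hbot : U = ⊥ := Submodule.finrank_eq_zero.1 hk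
    subst hbot
    refine ⟨[], by simp, rfl, List.Pairwise.nil, by simp, ?_⟩
    rw [pow_zero, List.map_nil, List.prod_nil, mul_one]
    exact ⟨0, Basis.empty _, Matrix.det_isEmpty⟩
  | succ n ih =>
    intro U hk hU
    obtain ⟨v, hvU, hv, U', hU'U, hU'nd, hU'd, horth, hdisj, hsup⟩ :=
      split_vec h2 Q U hU (by omega)
    obtain ⟨vs', hvs', hlen, hpw, hspan, hdisc⟩ := ih U' (by omega) hU'nd
    have hv0 : v ≠ 0 := by
      rintro rfl
      exact hv (map_zero Q)
    refine ⟨v :: vs', ?_, ?_, ?_, ?_, ?_⟩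
    · intro w hw
      rcases List.mem_cons.1 hw with rfl | hw
      · exact ⟨hvU, hv⟩
      · exact ⟨hU'U (hvs' w hw).1, (hvs' w hw).2⟩
    · rw [List.length_cons, hlen]
    · rw [List.pairwise_cons]
      exact ⟨fun w hw => horth w (hvs' w hw).1, hpw⟩
    · have : {x | x ∈ v :: vs'} = insert v {x | x ∈ vs'} := by
        ext x
        simp [List.mem_cons]
      rw [this, Submodule.span_insert, hspan, hsup]
    · have h1 := isDisc_sup (symm_polarBilin Q) (Submodule.span F {v}) U' (fun u hu w hw => by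
        obtain ⟨a, rfl⟩ := Submodule.mem_span_singleton.1 hu
        rw [polarBilin_apply_apply, polar_smul_left, horth w hw, smul_zero]) hdisj
        (isDisc_span_singleton (polarBilin Q) v hv0) hdisc
      rw [hsup] at h1
      have e : polarBilin Q v v * (2 ^ n * (vs'.map Q).prod) =
          2 ^ (n + 1) * ((v :: vs').map Q).prod := by
        rw [polarBilin_apply_apply, polar_self, nsmul_eq_mul, Nat.cast_ofNat, List.map_cons,
          List.prod_cons]
        ring
      rw [← e]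
      exact h1

/-- gluing totally singular subspaces of the two eigenspaces -/
theorem invol_glue [FiniteDimensional F V] (Q : QuadraticForm F V) (g : V →ₗ[F] V)
    {Ep Em : Submodule F V}
    (memp : ∀ x, x ∈ Ep ↔ g x = x) (memm : ∀ x, x ∈ Em ↔ g x = -x) (hdisj : Disjoint Ep Em)
    (horth : ∀ u ∈ Ep, ∀ w ∈ Em, polar Q u w = 0) {U₁ U₂ : Submodule F V} (h₁ : U₁ ≤ Ep)
    (ts₁ : ∀ u ∈ U₁, Q u = 0) (h₂ : U₂ ≤ Em) (ts₂ : ∀ u ∈ U₂, Q u = 0) :
    finrank F (U₁ ⊔ U₂ : Submodule F V) = finrank F U₁ + finrank F U₂ ∧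
      (∀ x ∈ U₁ ⊔ U₂, Q x = 0) ∧ ∀ x ∈ U₁ ⊔ U₂, g x ∈ U₁ ⊔ U₂ := by
  refine ⟨?_, ?_, ?_⟩
  · exact Elus.finrank_sup_of_disjoint (hdisj.mono h₁ h₂)
  · intro x hx
    obtain ⟨u, hu, w, hw, rfl⟩ := Submodule.mem_sup.mp hx
    rw [q_add, ts₁ u hu, ts₂ w hw, horth u (h₁ hu) w (h₂ hw)]
    simp
  · intro x hx
    obtain ⟨u, hu, w, hw, rfl⟩ := Submodule.mem_sup.mp hx
    rw [map_add, (memp u).1 (h₁ hu), (memm w).1 (h₂ hw)]
    exact Submodule.add_mem_sup hu (U₂.neg_mem hw)

end invol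

section fin
variable {F : Type u} [Field F] [Fintype F] {V : Type u} [AddCommGroup V] [Module F V]
  [FiniteDimensional F V]

theorem exists_ts_in' (Q : QuadraticForm F V) (C : Submodule F V) (hnd : NdOn Q C) (a : ℕ)
    (ha : a = 0 ∨ 2 * a + 1 ≤ finrank F C) :
    ∃ U : Submodule F V, U ≤ C ∧ (∀ u ∈ U, Q u = 0) ∧ finrank F U = a := by
  rcases ha with rfl | ha
  · exact ⟨⊥, bot_le, fun u hu => by rw [(Submodule.mem_bot F).1 hu, map_zero], finrank_bot F V⟩
  · exact exists_ts_in Q C hnd a ha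

/-- involutions of an odd-dimensional space fix totally singular subspaces of every dimension
below the Witt index -/
theorem invol_suff_lt (h2 : (2 : F) ≠ 0) (Q : QuadraticForm F V) (hQ : Nd Q) (g : V →ₗ[F] V)
    (hiso : ∀ x, Q (g x) = Q x) (hgg : ∀ v, g (g v) = v) (d m : ℕ)
    (hn : finrank F V = 2 * d + 1) (hmd : m < d) :
    ∃ W : Submodule F V, finrank F W = m ∧ (∀ w ∈ W, Q w = 0) ∧ ∀ w ∈ W, g w ∈ W := by
  obtain ⟨Ep, Em, memp, memm, hcompl, horth, hEpnd, hEmnd⟩ := invol_data h2 Q hQ g hiso hgg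
  have hsum := Submodule.finrank_add_eq_of_isCompl hcompl
  rw [hn] at hsum
  obtain ⟨a, ha⟩ : ∃ a, a = min m ((finrank F Ep - 1) / 2) := ⟨_, rfl⟩
  obtain ⟨U₁, hU₁, ts₁, hf₁⟩ := exists_ts_in' Q Ep hEpnd a (by omega)
  obtain ⟨U₂, hU₂, ts₂, hf₂⟩ := exists_ts_in' Q Em hEmnd (m - a) (by omega)
  obtain ⟨h5, h6, h7⟩ := invol_glue Q g memp memm hcompl.disjoint horth hU₁ ts₁ hU₂ ts₂
  exact ⟨U₁ ⊔ U₂, by rw [h5, hf₁, hf₂]; omega, h6, h7⟩

theorem sq_add_sq_eq_zero (h43 : Fintype.card F % 4 = 3) {a b : F} (h : a ^ 2 + b ^ 2 = 0) :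
    a = 0 ∧ b = 0 := by
  have hns : ¬ IsSquare (-1 : F) := by
    rw [FiniteField.isSquare_neg_one_iff]
    omega
  by_cases hb : b = 0
  · subst hb
    have h1 : a ^ 2 = 0 := by
      rw [← h]
      ring
    exact ⟨(pow_eq_zero_iff (by norm_num)).1 h1, rfl⟩
  · exfalso
    apply hns
    refine ⟨a / b, ?_⟩
    rw [div_mul_div_comm, eq_div_iff (mul_ne_zero hb hb)]
    linear_combination -h

end fin

section omega
variable {F : Type u} [Field F] [Fintype F] {ι : Type} [Fintype ι] [DecidableEq ι]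

/-- an involution in `Ω`: the `-1`-eigenspace has even dimension and square discriminant -/
theorem invol_omega_disc (h2 : (2 : F) ≠ 0) (Q : QuadraticForm F (ι → F)) (hQ : Nd Q)
    (hn : 2 ≤ Fintype.card ι) (g : ↥(Cfsg.isometryGroup F ⇑Q)) (hΩ : g ∈ Cfsg.Omega F ⇑Q)
    (lin : (ι → F) →ₗ[F] (ι → F))
    (hlin : lin = Matrix.toLin' ((g : GL ι F) : Matrix ι ι F))
    {Ep Em : Submodule F (ι → F)} (memp : ∀ x, x ∈ Ep ↔ lin x = x)
    (memm : ∀ x, x ∈ Em ↔ lin x = -x) (hcompl : IsCompl Ep Em)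
    (horth : ∀ u ∈ Ep, ∀ w ∈ Em, polar Q u w = 0) (hEmnd : NdOn Q Em) :
    Even (finrank F Em) ∧ ∃ δ : F, IsDisc (resForm (polarBilin Q) Em) δ ∧ IsSquare δ := by
  obtain ⟨vs, hvs, hlen, hpw, hspan, hdisc⟩ := exists_orth_list h2 Q (finrank F Em) Em rfl hEmnd
  have hrep : IsRep Q g vs := by
    refine ⟨fun v hv => (hvs v hv).2, ?_⟩
    apply Matrix.toLin'.injective
    apply LinearMap.ext
    intro w
    rw [← hlin, Matrix.toLin'_apply]
    have hw : w ∈ Ep ⊔ Em := by
      rw [hcompl.sup_eq_top]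
      trivial
    obtain ⟨a, ha, b, hb, rfl⟩ := Submodule.mem_sup.mp hw
    rw [map_add, Matrix.mulVec_add, (memp a).1 ha, (memm b).1 hb,
      rprod_fix Q vs a (fun u hu => by rw [polar_comm]; exact horth a ha u (hvs u hu).1),
      rprod_neg_of_span Q vs (fun v hv => (hvs v hv).2) hpw b (by rw [hspan]; exact hb)]
  have h1 := (mem_Omega_iff Q (nd_bilin Q hQ)
    (fun _ => ⟨-1, neg_ne_zero.2 one_ne_zero, fun h => h2 (by linear_combination -h)⟩)
    hn g vs hrep).1 hΩ
  rw [hlen] at h1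
  refine ⟨h1.1, _, hdisc, ?_⟩
  obtain ⟨k, hk⟩ := h1.1
  rw [hk, pow_add]
  exact IsSquare.mul ⟨2 ^ k, rfl⟩ h1.2

/-- an involution in `Ω` which fixes no totally singular subspace of large dimension -/
theorem exists_bad_invol_gen (h2 : (2 : F) ≠ 0) (h43 : Fintype.card F % 4 = 3)
    (Q : QuadraticForm F (ι → F)) (hQ : Nd Q) (hn : 2 ≤ Fintype.card ι)
    (u v : ι → F) (hu : Q u = 1) (hv : Q v = 1) (huv : polar Q u v = 0) :
    ∃ g : ↥(Cfsg.isometryGroup F ⇑Q), g ∈ Cfsg.Omega F ⇑Q ∧ g ^ 2 = 1 ∧ g ≠ 1 ∧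
      ∀ W : Submodule F (ι → F), (∀ w ∈ W, Q w = 0) →
        (∀ w ∈ W, Matrix.toLin' ((g : GL ι F) : Matrix ι ι F) w ∈ W) →
        2 * finrank F W + 2 ≤ Fintype.card ι := by
  have hvs : ∀ w ∈ [u, v], Q w ≠ 0 := by
    intro w hw
    rcases List.mem_cons.1 hw with rfl | hw
    · rw [hu]; exact one_ne_zero
    rcases List.mem_cons.1 hw with rfl | hw
    · rw [hv]; exact one_ne_zero
    · simp at hw
  obtain ⟨g, hgdef⟩ : ∃ g : ↥(Cfsg.isometryGroup F ⇑Q), g = ofList Q [u, v] := ⟨_, rfl⟩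
  have hrep : IsRep Q g [u, v] := by
    rw [hgdef]
    exact isRep_ofList Q [u, v] hvs
  obtain ⟨M, hMdef⟩ : ∃ M : Matrix ι ι F, M = ((g : GL ι F) : Matrix ι ι F) := ⟨_, rfl⟩
  have hM : M = rprod Q [u, v] := by rw [hMdef]; exact hrep.2
  have hpvu : polar Q v u = 0 := by rw [polar_comm]; exact huv
  have hpvv : polar Q v v = 2 := by
    rw [polar_self, hv, nsmul_eq_mul, Nat.cast_ofNat, mul_one]
  have hpuu : polar Q u u = 2 := by
    rw [polar_self, hu, nsmul_eq_mul, Nat.cast_ofNat, mul_one]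
  have hact : ∀ w, M.mulVec w = w - polar Q v w • v - polar Q u w • u := by
    intro w
    rw [hM, rprod_mulVec]
    show Cfsg.Agent.Lib.Helper5.SpinClifford.refl Q u
      (Cfsg.Agent.Lib.Helper5.SpinClifford.refl Q v w) = _
    unfold Cfsg.Agent.Lib.Helper5.SpinClifford.refl
    rw [hu, hv, inv_one, one_mul, one_mul, polar_sub_right, polar_smul_right, huv, smul_zero,
      sub_zero]
  have hsq : ∀ w, M.mulVec (M.mulVec w) = w := by
    intro w
    rw [hact (M.mulVec w), hact w]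
    simp only [polar_sub_right, polar_smul_right, hpvv, hpuu, huv, hpvu, smul_eq_mul, mul_zero,
      sub_zero]
    module
  have hQuv : ∀ a b : F, Q (a • v + b • u) = a ^ 2 + b ^ 2 := by
    intro a b
    rw [q_add, q_smul, q_smul, hu, hv, polar_smul_left, polar_smul_right, hpvu]
    simp only [smul_eq_mul]
    ring
  have hgg : g ^ 2 = 1 := by
    apply Subtype.ext
    apply Units.ext
    rw [Subgroup.coe_pow, Units.val_pow_eq_pow_val, Subgroup.coe_one, Units.val_one, ← hMdef,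
      pow_two]
    apply Matrix.toLin'.injective
    apply LinearMap.ext
    intro w
    rw [Matrix.toLin'_mul, LinearMap.comp_apply, Matrix.toLin'_apply, Matrix.toLin'_apply,
      Matrix.toLin'_one, LinearMap.id_apply]
    exact hsq w
  have hu0 : u ≠ 0 := by
    rintro rfl
    rw [map_zero] at hu
    exact zero_ne_one hu
  have hg1 : g ≠ 1 := by
    intro h
    have h1 : M = 1 := by rw [hMdef, h]; rfl
    have h3 := hact u
    rw [h1, Matrix.one_mulVec, hpvu, hpuu, zero_smul, sub_zero] at h3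
    have h4 : (2 : F) • u = 0 := by
      have : (2 : F) • u = u - (u - (2 : F) • u) := by abel
      rw [this, ← h3, sub_self]
    exact hu0 ((smul_eq_zero.1 h4).resolve_left h2)
  refine ⟨g, ?_, hgg, hg1, ?_⟩
  · apply (mem_Omega_iff Q (nd_bilin Q hQ)
      (fun _ => ⟨-1, neg_ne_zero.2 one_ne_zero, fun h => h2 (by linear_combination -h)⟩)
      hn g [u, v] hrep).2
    refine ⟨⟨1, rfl⟩, ?_⟩
    rw [List.map_cons, List.map_cons, List.map_nil, List.prod_cons, List.prod_cons, List.prod_nil,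
      hu, hv]
    exact ⟨1, by ring⟩
  · intro W hts hinv
    rw [← hMdef] at hinv
    -- `W` is orthogonal to `u` and `v`
    have hperp : ∀ w ∈ W, polar Q v w = 0 ∧ polar Q u w = 0 := by
      intro w hw
      have h1 := hinv w hw
      rw [Matrix.toLin'_apply, hact w] at h1
      have h3 : polar Q v w • v + polar Q u w • u ∈ W := by
        have h4 := W.sub_mem hw h1
        have e : w - (w - polar Q v w • v - polar Q u w • u) =
            polar Q v w • v + polar Q u w • u := by abel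
        rw [e] at h4
        exact h4
      have h5 := hts _ h3
      rw [hQuv] at h5
      exact sq_add_sq_eq_zero h43 h5
    obtain ⟨S, hSdef⟩ : ∃ S : Submodule F (ι → F), S = Submodule.span F (Set.range ![v, u]) :=
      ⟨_, rfl⟩
    have memS : ∀ x, x ∈ S ↔ ∃ s t : F, s • v + t • u = x := by
      intro x
      rw [hSdef, Matrix.range_cons_cons_empty, Submodule.mem_span_pair]
    have hli : LinearIndependent F ![v, u] := by
      rw [LinearIndependent.pair_iff]
      intro s t hst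
      have h1 := hQuv s t
      rw [hst, map_zero] at h1
      exact sq_add_sq_eq_zero h43 h1.symm
    have hSfin : finrank F S = 2 := by
      rw [hSdef, finrank_span_eq_card hli, Fintype.card_fin]
    have hdisj : Disjoint W S := by
      rw [Submodule.disjoint_def]
      intro x hxW hxS
      obtain ⟨s, t, rfl⟩ := (memS x).1 hxS
      have h1 := hts _ hxW
      rw [hQuv] at h1
      obtain ⟨rfl, rfl⟩ := sq_add_sq_eq_zero h43 h1
      simp
    have hfin : finrank F (W ⊔ S : Submodule F (ι → F)) = finrank F W + 2 := by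
      rw [Elus.finrank_sup_of_disjoint hdisj, hSfin]
    have hle : W ≤ LinearMap.BilinForm.orthogonal (polarBilin Q) (W ⊔ S) := by
      intro x hx
      rw [LinearMap.BilinForm.mem_orthogonal_iff]
      intro n hn
      show polarBilin Q n x = 0
      rw [polarBilin_apply_apply]
      obtain ⟨w', hw', s', hs', rfl⟩ := Submodule.mem_sup.mp hn
      obtain ⟨s, t, rfl⟩ := (memS s').1 hs'
      rw [polar_add_left, polar_add_left, polar_smul_left, polar_smul_left,
        (hperp x hx).1, (hperp x hx).2, polar_of_ts Q hts hw' hx]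
      simp
    have h6 := Submodule.finrank_mono hle
    rw [LinearMap.BilinForm.finrank_orthogonal (nd_bilin Q hQ), hfin,
      Module.finrank_fintype_fun_eq_card] at h6
    omega

end omega

section final
variable {F : Type u} [Field F] [Fintype F]

/-- the case `r = 2`, sufficiency -/
theorem two_suff (hqodd : Odd (Fintype.card F)) (d m : ℕ) (hd : 1 ≤ d) (hmd : m ≤ d)
    (h : m < d ∨ Fintype.card F % 4 = 1)
    (x : GL (Unit ⊕ (Fin d ⊕ Fin d)) F) (hxΩ : x ∈ Cfsg.Geo.omegaGL (Cfsg.quadFormOdd d F))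
    (hxord : orderOf x = 2) :
    ∃ W : Submodule F (Unit ⊕ (Fin d ⊕ Fin d) → F), finrank F W = m ∧
      (∀ w ∈ W, Cfsg.quadFormOdd d F w = 0) ∧
      W.map (Matrix.toLin' (x : Matrix (Unit ⊕ (Fin d ⊕ Fin d)) (Unit ⊕ (Fin d ⊕ Fin d)) F)) ≤
        W := by
  have two : (2 : F) ≠ 0 := Cfsg.Agent.Lib.Helper5.two_ne_zero_of_odd_card hqodd
  have hcoe : ⇑(oddForm d F) = Cfsg.quadFormOdd d F := coe_oddForm d
  rw [← hcoe] at hxΩ ⊢
  have hQ₀ := oddForm_nd two d
  have hn : finrank F (Unit ⊕ (Fin d ⊕ Fin d) → F) = 2 * d + 1 := by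
    rw [Module.finrank_fintype_fun_eq_card, card_index]
  have hxmem : x ∈ Cfsg.isometryGroup F ⇑(oddForm d F) := by
    obtain ⟨y, -, rfl⟩ := hxΩ
    exact y.2
  obtain ⟨g, gi, hgdef, hiso, gi_g, g_gi, hpow⟩ := exists_lin_data (oddForm d F) x hxmem
  have hg2 : g ^ 2 = 1 := hpow 2 (by rw [← hxord]; exact pow_orderOf_eq_one _)
  have hgg : ∀ v, g (g v) = v := by
    intro v
    have h := LinearMap.congr_fun hg2 v
    rwa [pow_two, Module.End.mul_apply, Module.End.one_apply] at h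
  rw [← hgdef]
  rcases Nat.lt_or_ge m d with hlt | hge
  · obtain ⟨W, hW1, hW2, hW3⟩ := invol_suff_lt two (oddForm d F) hQ₀ g hiso hgg d m hn hlt
    refine ⟨W, hW1, hW2, ?_⟩
    rintro _ ⟨w, hw, rfl⟩
    exact hW3 w hw
  · have hmd' : m = d := le_antisymm hmd hge
    have h41 : Fintype.card F % 4 = 1 := by
      rcases h with h | h
      · omega
      · exact h
    subst hmd'
    obtain ⟨y, hyΩ, hyx⟩ := hxΩ
    obtain ⟨Ep, Em, memp, memm, hcompl, horth, hEpnd, hEmnd⟩ :=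
      invol_data two (oddForm m F) hQ₀ g hiso hgg
    obtain ⟨hev, δ, hδ, hsq⟩ := invol_omega_disc two (oddForm m F) hQ₀
      (by rw [card_index]; omega) y hyΩ g (by rw [hgdef, ← hyx]; rfl) memp memm hcompl horth
      hEmnd
    obtain ⟨k, hk⟩ := hev
    have hk' : finrank F Em = 2 * k := by omega
    have hsum := Submodule.finrank_add_eq_of_isCompl hcompl
    rw [hn] at hsum
    have hplus : PlusOn (oddForm m F) Em := by
      rcases Nat.eq_zero_or_pos k with h0 | h0
      · refine ⟨⊥, bot_le, fun u hu => by rw [(Submodule.mem_bot F).1 hu, map_zero], ?_⟩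
        rw [finrank_bot, hk', h0]
      · rw [plusOn_iff_disc hqodd _ Em k h0 hk' hEmnd hδ]
        exact ⟨fun _ => (even_half_iff k _ hqodd).2 (Or.inr h41), fun _ => hsq⟩
    obtain ⟨U₂, hU₂, ts₂, hf₂⟩ := hplus
    obtain ⟨U₁, hU₁, ts₁, hf₁⟩ := exists_ts_in (oddForm m F) Ep hEpnd (m - k) (by omega)
    obtain ⟨h5, h6, h7⟩ := invol_glue _ g memp memm hcompl.disjoint horth hU₁ ts₁ hU₂ ts₂
    refine ⟨U₁ ⊔ U₂, by omega, h6, ?_⟩
    rintro _ ⟨w, hw, rfl⟩
    exact h7 w hw

/-- the case `r = 2`, necessity -/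
theorem two_nec (hqodd : Odd (Fintype.card F)) (d m : ℕ) (hd : 1 ≤ d) (hmd : m ≤ d)
    (Hx : ∀ x : GL (Unit ⊕ (Fin d ⊕ Fin d)) F, x ∈ Cfsg.Geo.omegaGL (Cfsg.quadFormOdd d F) →
      orderOf x = 2 →
      ∃ W : Submodule F (Unit ⊕ (Fin d ⊕ Fin d) → F), finrank F W = m ∧
        (∀ w ∈ W, Cfsg.quadFormOdd d F w = 0) ∧
        W.map (Matrix.toLin' (x : Matrix (Unit ⊕ (Fin d ⊕ Fin d))
          (Unit ⊕ (Fin d ⊕ Fin d)) F)) ≤ W) :
    m < d ∨ Fintype.card F % 4 = 1 := by
  by_contra hcon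
  push Not at hcon
  obtain ⟨hge, h41⟩ := hcon
  have h43 : Fintype.card F % 4 = 3 := by
    obtain ⟨t, ht⟩ := hqodd
    omega
  have two : (2 : F) ≠ 0 := Cfsg.Agent.Lib.Helper5.two_ne_zero_of_odd_card hqodd
  have hcoe : ⇑(oddForm d F) = Cfsg.quadFormOdd d F := coe_oddForm d
  rw [← hcoe] at Hx
  have hQ₀ := oddForm_nd two d
  obtain ⟨j⟩ : Nonempty (Fin d) := ⟨⟨0, hd⟩⟩
  obtain ⟨u, hudef⟩ : ∃ u : Unit ⊕ (Fin d ⊕ Fin d) → F, u = Pi.single (Sum.inl ()) 1 := ⟨_, rfl⟩
  obtain ⟨v, hvdef⟩ : ∃ v : Unit ⊕ (Fin d ⊕ Fin d) → F,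
      v = Pi.single (Sum.inr (Sum.inl j)) 1 + Pi.single (Sum.inr (Sum.inr j)) 1 := ⟨_, rfl⟩
  have hu : oddForm d F u = 1 := by
    rw [oddForm_apply, hudef]
    simp [Cfsg.quadFormOdd]
  have hv : oddForm d F v = 1 := by
    rw [oddForm_apply, hvdef]
    simp [Cfsg.quadFormOdd, Pi.single_apply]
  have huv : polar (oddForm d F) u v = 0 := by
    rw [polar_oddForm, hudef, hvdef]
    simp [Pi.single_apply]
  obtain ⟨g, hgΩ, hgg, hg1, hbad⟩ := exists_bad_invol_gen two h43 (oddForm d F) hQ₀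
    (by rw [card_index]; omega) u v hu hv huv
  have hxΩ : (g : GL (Unit ⊕ (Fin d ⊕ Fin d)) F) ∈ Cfsg.Geo.omegaGL ⇑(oddForm d F) :=
    ⟨g, hgΩ, rfl⟩
  have hord : orderOf (g : GL (Unit ⊕ (Fin d ⊕ Fin d)) F) = 2 := by
    rw [Subgroup.orderOf_coe]
    exact orderOf_eq_prime hgg hg1
  obtain ⟨W, hW1, hW2, hW3⟩ := Hx _ hxΩ hord
  have h7 := hbad W hW2 (fun w hw => hW3 ⟨w, hw, rfl⟩)
  rw [card_index] at h7
  omega

end final

end Cfsg.Agent.Lib.Helper9.BG
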