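import Mathlib
import Cfsg.Prelude
import Cfsg.Agent.Lib.Helper9.BGb
import Cfsg.Agent.Lib.Helper5.QuadSign.Sign
import Cfsg.Agent.Lib.Helper2.ElusC

set_option autoImplicit false
set_option linter.unusedSectionVars false
set_option linter.unusedVariables false
set_option linter.style.longLine false
set_option linter.unusedSimpArgs false
open Cfsg

set_option maxHeartbeats 1600000
namespace Cfsg.Agent.Lib.Helper9.BG

universe u v

open QuadraticMap Module
open Cfsg.Agent.Lib.Helper5.QuadTwo Cfsg.Agent.Lib.Helper5.QuadSign Cfsg.Agent.Lib.Helper2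

section arith

/-- cancelling the powers of `q` in the count through frames -/
theorem cancel_arith (q N m : ℕ) (g : ℕ → ℕ) (hq : 0 < q)
    (h : N * ∏ i : Fin m, (q ^ m - q ^ (i : ℕ)) = ∏ k ∈ Finset.range m, (q ^ k * g k)) :
    N * ∏ i : Fin m, (q ^ (m - (i : ℕ)) - 1) = ∏ k ∈ Finset.range m, g k := by
  rw [Elus.prod_pow_sub q m m le_rfl] at h
  have hR : ∏ k ∈ Finset.range m, (q ^ k * g k) =
      (∏ k ∈ Finset.range m, q ^ k) * ∏ k ∈ Finset.range m, g k := Finset.prod_mul_distrib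
  have e2 : ∏ i : Fin m, q ^ (i : ℕ) = ∏ j ∈ Finset.range m, q ^ j :=
    Fin.prod_univ_eq_prod_range (fun j => q ^ j) m
  rw [hR, e2] at h
  have hQ : 0 < ∏ j ∈ Finset.range m, q ^ j := Finset.prod_pos fun j _ => pow_pos hq j
  apply Nat.eq_of_mul_eq_mul_left hQ
  rw [← h]
  ring

/-- the order of `q` modulo an odd prime dividing `q ^ j + 1` -/
theorem ord_of_dvd_add_one (r q j : ℕ) [hr : Fact r.Prime] (hr2 : r ≠ 2) (h : r ∣ q ^ j + 1) :
    Even (orderOf (q : ZMod r)) ∧ j % orderOf (q : ZMod r) = orderOf (q : ZMod r) / 2 := by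
  have hx : (q : ZMod r) ^ j = -1 := by
    have h1 : ((q ^ j + 1 : ℕ) : ZMod r) = 0 := (ZMod.natCast_eq_zero_iff _ _).2 h
    push_cast at h1
    exact eq_neg_of_add_eq_zero_left h1
  have h2 : (q : ZMod r) ^ (2 * j) = 1 := by
    rw [mul_comm, pow_mul, hx]
    norm_num
  have hne : (1 : ZMod r) ≠ -1 := by
    intro h1
    have h3 : ((2 : ℕ) : ZMod r) = 0 := by
      push_cast
      linear_combination h1
    have := (ZMod.natCast_eq_zero_iff 2 r).1 h3
    exact hr2 ((Nat.prime_dvd_prime_iff_eq hr.out Nat.prime_two).1 this)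
  obtain ⟨i, hi⟩ : ∃ i, i = orderOf (q : ZMod r) := ⟨_, rfl⟩
  rw [← hi]
  have hdvd : i ∣ 2 * j := by
    rw [hi]
    exact orderOf_dvd_of_pow_eq_one h2
  have hnd : ¬ i ∣ j := by
    intro hd
    have : (q : ZMod r) ^ j = 1 := by
      rw [hi] at hd
      exact orderOf_dvd_iff_pow_eq_one.1 hd
    rw [hx] at this
    exact hne this.symm
  have hj0 : 0 < j := by
    rcases Nat.eq_zero_or_pos j with h0 | h0
    · rw [h0] at hnd
      exact absurd (dvd_zero i) hnd
    · exact h0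
  have hi0 : 0 < i := Nat.pos_of_dvd_of_pos hdvd (by omega)
  have hev : Even i := by
    by_contra hodd
    have hodd' := Nat.not_even_iff_odd.1 hodd
    exact hnd ((Nat.Coprime.dvd_of_dvd_mul_left (Nat.coprime_two_right.2 hodd')) hdvd)
  refine ⟨hev, ?_⟩
  obtain ⟨i₀, hi₀⟩ := hev
  obtain ⟨e, he⟩ := hdvd
  have hj : j = i₀ * e := by
    have : 2 * j = 2 * (i₀ * e) := by
      rw [he, hi₀]
      ring
    omega
  have heodd : ¬ Even e := by
    rintro ⟨e', he'⟩
    apply hnd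
    refine ⟨e', ?_⟩
    rw [hj, he', hi₀]
    ring
  obtain ⟨e', he'⟩ := Nat.not_even_iff_odd.1 heodd
  have h5 : j = i * e' + i₀ := by
    rw [hj, he', hi₀]
    ring
  rw [h5, Nat.mul_add_mod, Nat.mod_eq_of_lt (by omega)]
  omega

end arith

section cnt
variable {F : Type u} [Field F] [Fintype F] {V : Type v} [AddCommGroup V] [Module F V]
  [FiniteDimensional F V] (Q : QuadraticForm F V)

/-- the count of totally singular `m`-spaces, plus type -/
theorem card_ts_plus (hQ : Nd Q) (d m : ℕ) (hn : finrank F V = 2 * d) (hmd : m + 1 ≤ d)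
    (hs : HasSign Q d 1) :
    Nat.card {W : Submodule F V // finrank F W = m ∧ TS Q W} *
      ∏ i : Fin m, (Fintype.card F ^ (m - (i : ℕ)) - 1) =
      ∏ k ∈ Finset.range m, ((Fintype.card F ^ (d - k) - 1) *
        (Fintype.card F ^ (d - k - 1) + 1)) := by
  have hq : 0 < Fintype.card F := Fintype.card_pos
  apply cancel_arith (Fintype.card F) _ m _ hq
  have hz : ∀ k < m, Fintype.card F ^ (k + 1) * (Fintype.card F ^ k *
      ((Fintype.card F ^ (d - k) - 1) * (Fintype.card F ^ (d - k - 1) + 1) + 1)) +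
      Fintype.card F ^ (finrank F V + k) =
      Fintype.card F ^ (k + 1) * zeros Q + Fintype.card F ^ finrank F V := by
    intro k hk
    obtain ⟨e, he⟩ : ∃ e, d = k + e + 1 := ⟨d - k - 1, by omega⟩
    have e1 : d - k = e + 1 := by omega
    have e2 : d - k - 1 = e := by omega
    rw [hn, e2, e1]
    unfold HasSign at hs
    have hA : 1 ≤ Fintype.card F ^ (e + 1) := Nat.one_le_pow _ _ hq
    zify [hA]
    rw [he] at hs ⊢
    linear_combination (-(Fintype.card F : ℤ) ^ k) * hs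
  have h1 := card_ts_mul Q hQ (fun k => Fintype.card F ^ k *
      ((Fintype.card F ^ (d - k) - 1) * (Fintype.card F ^ (d - k - 1) + 1) + 1)) m hz
  rw [h1]
  apply Finset.prod_congr rfl
  intro k _
  rw [mul_add, mul_one, Nat.add_sub_cancel]

/-- the count of totally singular `m`-spaces, minus type -/
theorem card_ts_minus (hQ : Nd Q) (d m : ℕ) (hn : finrank F V = 2 * d) (hmd : m + 1 ≤ d)
    (hs : HasSign Q d (-1)) :
    Nat.card {W : Submodule F V // finrank F W = m ∧ TS Q W} *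
      ∏ i : Fin m, (Fintype.card F ^ (m - (i : ℕ)) - 1) =
      ∏ k ∈ Finset.range m, ((Fintype.card F ^ (d - k) + 1) *
        (Fintype.card F ^ (d - k - 1) - 1)) := by
  have hq : 0 < Fintype.card F := Fintype.card_pos
  apply cancel_arith (Fintype.card F) _ m _ hq
  have hz : ∀ k < m, Fintype.card F ^ (k + 1) * (Fintype.card F ^ k *
      ((Fintype.card F ^ (d - k) + 1) * (Fintype.card F ^ (d - k - 1) - 1) + 1)) +
      Fintype.card F ^ (finrank F V + k) =
      Fintype.card F ^ (k + 1) * zeros Q + Fintype.card F ^ finrank F V := by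
    intro k hk
    obtain ⟨e, he⟩ : ∃ e, d = k + e + 1 := ⟨d - k - 1, by omega⟩
    have e1 : d - k = e + 1 := by omega
    have e2 : d - k - 1 = e := by omega
    rw [hn, e2, e1]
    unfold HasSign at hs
    have hA : 1 ≤ Fintype.card F ^ e := Nat.one_le_pow _ _ hq
    zify [hA]
    rw [he] at hs ⊢
    linear_combination (-(Fintype.card F : ℤ) ^ k) * hs
  have h1 := card_ts_mul Q hQ (fun k => Fintype.card F ^ k *
      ((Fintype.card F ^ (d - k) + 1) * (Fintype.card F ^ (d - k - 1) - 1) + 1)) m hz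
  rw [h1]
  apply Finset.prod_congr rfl
  intro k _
  rw [mul_add, mul_one, Nat.add_sub_cancel]

theorem plus_dvd (hQ : Nd Q) (d m : ℕ) (hn : finrank F V = 2 * d) (hmd : m + 1 ≤ d)
    (hs : HasSign Q d 1) (r : ℕ) [hr : Fact r.Prime]
    (h : r ∣ Nat.card {W : Submodule F V // finrank F W = m ∧ TS Q W}) :
    ∃ k < m, r ∣ Fintype.card F ^ (d - k) - 1 ∨ r ∣ Fintype.card F ^ (d - k - 1) + 1 := by
  have h1 : r ∣ ∏ k ∈ Finset.range m, ((Fintype.card F ^ (d - k) - 1) *
      (Fintype.card F ^ (d - k - 1) + 1)) := by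
    rw [← card_ts_plus Q hQ d m hn hmd hs]
    exact dvd_mul_of_dvd_left h _
  obtain ⟨k, hk, hdvd⟩ := (Nat.Prime.prime hr.out).exists_mem_finset_dvd h1
  exact ⟨k, Finset.mem_range.mp hk, (Nat.Prime.dvd_mul hr.out).1 hdvd⟩

theorem minus_dvd (hQ : Nd Q) (d m : ℕ) (hn : finrank F V = 2 * d) (hmd : m + 1 ≤ d)
    (hs : HasSign Q d (-1)) (r : ℕ) [hr : Fact r.Prime]
    (h : r ∣ Nat.card {W : Submodule F V // finrank F W = m ∧ TS Q W}) :
    ∃ k < m, r ∣ Fintype.card F ^ (d - k) + 1 ∨ r ∣ Fintype.card F ^ (d - k - 1) - 1 := by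
  have h1 : r ∣ ∏ k ∈ Finset.range m, ((Fintype.card F ^ (d - k) + 1) *
      (Fintype.card F ^ (d - k - 1) - 1)) := by
    rw [← card_ts_minus Q hQ d m hn hmd hs]
    exact dvd_mul_of_dvd_left h _
  obtain ⟨k, hk, hdvd⟩ := (Nat.Prime.prime hr.out).exists_mem_finset_dvd h1
  exact ⟨k, Finset.mem_range.mp hk, (Nat.Prime.dvd_mul hr.out).1 hdvd⟩

theorem char_not_dvd_add_one {p : ℕ} [hp : Fact p.Prime] [CharP F p] (j : ℕ) (hj : 0 < j) :
    ¬ p ∣ Fintype.card F ^ j + 1 := by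
  intro h1
  have hpq : p ∣ Fintype.card F ^ j := by
    obtain ⟨n, -, hn'⟩ := FiniteField.card F p
    rw [hn']
    exact dvd_pow (dvd_pow_self p n.ne_zero) (by omega)
  have := (Nat.dvd_add_right hpq).1 h1
  exact hp.out.one_lt.ne' (Nat.dvd_one.1 this)

theorem char_not_dvd_plus {p : ℕ} [hp : Fact p.Prime] [CharP F p] (hQ : Nd Q) (d m : ℕ)
    (hn : finrank F V = 2 * d) (hmd : m + 1 ≤ d) (hs : HasSign Q d 1) :
    ¬ p ∣ Nat.card {W : Submodule F V // finrank F W = m ∧ TS Q W} := by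
  intro h
  obtain ⟨k, hk, h1 | h1⟩ := plus_dvd Q hQ d m hn hmd hs p h
  · exact Elus.ne_char_of_dvd_sub_one (F := F) (p := p) p (d - k) (by omega) h1 rfl
  · exact char_not_dvd_add_one (F := F) (d - k - 1) (by omega) h1

theorem char_not_dvd_minus {p : ℕ} [hp : Fact p.Prime] [CharP F p] (hQ : Nd Q) (d m : ℕ)
    (hn : finrank F V = 2 * d) (hmd : m + 1 ≤ d) (hs : HasSign Q d (-1)) :
    ¬ p ∣ Nat.card {W : Submodule F V // finrank F W = m ∧ TS Q W} := by
  intro h
  obtain ⟨k, hk, h1 | h1⟩ := minus_dvd Q hQ d m hn hmd hs p h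
  · exact char_not_dvd_add_one (F := F) (d - k) (by omega) h1
  · exact Elus.ne_char_of_dvd_sub_one (F := F) (p := p) p (d - k - 1) (by omega) h1 rfl

/-- the divisibility hypothesis in terms of the order of `q`, plus type -/
theorem hweak_plus (hQ : Nd Q) (d m : ℕ) (hn : finrank F V = 2 * d) (hmd : m + 1 ≤ d)
    (hs : HasSign Q d 1) (r : ℕ) [hr : Fact r.Prime] (hr2 : r ≠ 2)
    (h : r ∣ Nat.card {W : Submodule F V // finrank F W = m ∧ TS Q W}) (i : ℕ)
    (hi : i = orderOf ((Fintype.card F : ℕ) : ZMod r)) :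
    ∃ b < m, i ∣ d - b ∨ (Even i ∧ (d - b - 1) % i = i / 2) := by
  obtain ⟨k, hk, h1 | h1⟩ := plus_dvd Q hQ d m hn hmd hs r h
  · refine ⟨k, hk, Or.inl ?_⟩
    rw [hi]
    exact Elus.ord_dvd_of_dvd_sub_one r (Fintype.card F) (d - k) Fintype.card_pos h1
  · refine ⟨k, hk, Or.inr ?_⟩
    rw [hi]
    exact ord_of_dvd_add_one r (Fintype.card F) (d - k - 1) hr2 h1

/-- the divisibility hypothesis in terms of the order of `q`, minus type -/
theorem hweak_minus (hQ : Nd Q) (d m : ℕ) (hn : finrank F V = 2 * d) (hmd : m + 1 ≤ d)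
    (hs : HasSign Q d (-1)) (r : ℕ) [hr : Fact r.Prime] (hr2 : r ≠ 2)
    (h : r ∣ Nat.card {W : Submodule F V // finrank F W = m ∧ TS Q W}) (i : ℕ)
    (hi : i = orderOf ((Fintype.card F : ℕ) : ZMod r)) :
    ∃ b < m, (Even i ∧ (d - b) % i = i / 2) ∨ i ∣ d - b - 1 := by
  obtain ⟨k, hk, h1 | h1⟩ := minus_dvd Q hQ d m hn hmd hs r h
  · refine ⟨k, hk, Or.inl ?_⟩
    rw [hi]
    exact ord_of_dvd_add_one r (Fintype.card F) (d - k) hr2 h1
  · refine ⟨k, hk, Or.inr ?_⟩
    rw [hi]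
    exact Elus.ord_dvd_of_dvd_sub_one r (Fintype.card F) (d - k - 1) Fintype.card_pos h1

end cnt

end Cfsg.Agent.Lib.Helper9.BG
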