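import Mathlib
import Cfsg.Prelude

set_option autoImplicit false
set_option linter.unusedSectionVars false
set_option linter.unusedVariables false
set_option linter.style.longLine false
set_option linter.unusedSimpArgs false
open Cfsg

set_option maxHeartbeats 1600000
namespace Cfsg.Agent.Lib.Helper9.BG

section arith

/-- decomposition of `a + i * b = m` -/
theorem decomp (i m a b : ℕ) (hi0 : 0 < i) (h : a + i * b = m) :
    b ≤ m / i ∧ (b = m / i → a = m % i) ∧ (b < m / i → m % i + i ≤ a) := by
  have hm := Nat.div_add_mod m i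
  have hl := Nat.mod_lt m hi0
  have hb : b ≤ m / i := by
    rw [Nat.le_div_iff_mul_le hi0, mul_comm]
    omega
  refine ⟨hb, ?_, ?_⟩
  · intro hb'
    rw [hb'] at h
    omega
  · intro hb'
    have h1 : i * (b + 1) ≤ i * (m / i) := Nat.mul_le_mul_left i hb'
    rw [mul_add, mul_one] at h1
    omega

/-- necessity, `i` even: the arithmetic -/
theorem nec_even (plus : Prop) (d i t m : ℕ) (hi0 : 0 < i) (hev : Even i) (ht : 1 ≤ t)
    (hm1 : 1 ≤ m) (hmd : m + 1 ≤ d)
    (hweak : ∃ b₀ < m, (plus → (i ∣ d - b₀ ∨ (d - b₀ - 1) % i = i / 2)) ∧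
      (¬ plus → ((d - b₀) % i = i / 2 ∨ i ∣ d - b₀ - 1)))
    (H : ∀ s, 1 ≤ s → i * s ≤ 2 * d → (i * s = 2 * d → (plus ↔ Even s)) →
      ∃ a b, a + i * b = m ∧ 2 * b ≤ s + 1 - t ∧
        (2 * a + 2 ≤ 2 * d - i * s ∨ ((plus ↔ Even s) ∧ 2 * a ≤ 2 * d - i * s))) :
    i ≤ m ∧ t + 2 * (m / i) ≤ 2 * d / i ∧
      ((2 * (m % i) ≤ i ∧ (2 * d) % i = 0 ∧ ¬ (plus ↔ Even (2 * d / i)) ∧
          t + 2 * (m / i) < 2 * d / i) ∨
       (2 * (m % i) ≤ (2 * d) % i ∧ (plus ↔ Even (2 * d / i))) ∨
       (2 * (m % i) < (2 * d) % i ∧ ¬ (plus ↔ Even (2 * d / i)))) := by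
  obtain ⟨i₀, hi₀⟩ := hev
  have hhalf : i / 2 = i₀ := by omega
  -- Part A
  have hA : i ≤ m := by
    by_contra hlt
    push Not at hlt
    have key : ∀ s, 1 ≤ s → i * s ≤ 2 * d → (i * s = 2 * d → (plus ↔ Even s)) →
        (2 * m + 2 ≤ 2 * d - i * s ∨ ((plus ↔ Even s) ∧ 2 * m ≤ 2 * d - i * s)) := by
      intro s h1 h2 h3
      obtain ⟨a, b, hab, -, h4⟩ := H s h1 h2 h3
      have hb0 : b = 0 := by
        rcases Nat.eq_zero_or_pos b with h | h
        · exact h
        · have : i * 1 ≤ i * b := Nat.mul_le_mul_left i h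
          omega
      rw [hb0, mul_zero, add_zero] at hab
      rw [hab] at h4
      exact h4
    obtain ⟨b₀, hb₀, hp, hnp⟩ := hweak
    by_cases hpl : plus
    · rcases hp hpl with ⟨c, hc⟩ | hmod
      · have hc1 : 1 ≤ c := by
          rcases Nat.eq_zero_or_pos c with h | h
          · rw [h, mul_zero] at hc
            omega
          · exact h
        have e : i * (2 * c) = 2 * (i * c) := by ring
        have h5 := key (2 * c) (by omega) (by rw [e]; omega)
          (fun _ => ⟨fun _ => even_two_mul c, fun _ => hpl⟩)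
        rw [e] at h5
        rcases h5 with h | ⟨-, h⟩ <;> omega
      · have hdm := Nat.div_add_mod (d - b₀ - 1) i
        obtain ⟨c, hc⟩ : ∃ c, c = (d - b₀ - 1) / i := ⟨_, rfl⟩
        rw [← hc, hmod, hhalf] at hdm
        have e : i * (2 * c + 1) = 2 * (i * c) + i := by ring
        have hnot : ¬ (plus ↔ Even (2 * c + 1)) := by
          intro h
          have h6 := h.1 hpl
          rw [Nat.even_add_one] at h6
          exact h6 (even_two_mul c)
        have h5 := key (2 * c + 1) (by omega) (by rw [e]; omega)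
          (fun h => by rw [e] at h; exfalso; omega)
        rw [e] at h5
        rcases h5 with h | ⟨h, -⟩
        · omega
        · exact hnot h
    · rcases hnp hpl with hmod | ⟨c, hc⟩
      · have hdm := Nat.div_add_mod (d - b₀) i
        obtain ⟨c, hc⟩ : ∃ c, c = (d - b₀) / i := ⟨_, rfl⟩
        rw [← hc, hmod, hhalf] at hdm
        have e : i * (2 * c + 1) = 2 * (i * c) + i := by ring
        have hyes : (plus ↔ Even (2 * c + 1)) := by
          constructor
          · intro h
            exact absurd h hpl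
          · intro h
            rw [Nat.even_add_one] at h
            exact absurd (even_two_mul c) h
        have h5 := key (2 * c + 1) (by omega) (by rw [e]; omega) (fun _ => hyes)
        rw [e] at h5
        rcases h5 with h | ⟨-, h⟩ <;> omega
      · have hc1 : 1 ≤ c := by
          rcases Nat.eq_zero_or_pos c with h | h
          · rw [h, mul_zero] at hc
            omega
          · exact h
        have e : i * (2 * c) = 2 * (i * c) := by ring
        have hnot : ¬ (plus ↔ Even (2 * c)) := fun h => hpl (h.2 (even_two_mul c))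
        have h5 := key (2 * c) (by omega) (by rw [e]; omega)
          (fun h => by rw [e] at h; exfalso; omega)
        rw [e] at h5
        rcases h5 with h | ⟨h, -⟩
        · omega
        · exact hnot h
  have hn := Nat.div_add_mod (2 * d) i
  have hk := Nat.mod_lt (2 * d) hi0
  have hm := Nat.div_add_mod m i
  have hl := Nat.mod_lt m hi0
  have hm'1 : 1 ≤ m / i := Nat.div_pos hA hi0
  have hN2 : 2 ≤ 2 * d / i := by
    rw [Nat.le_div_iff_mul_le hi0]
    omega
  have ext : ∀ s, 1 ≤ s → i * s ≤ 2 * d → (i * s = 2 * d → (plus ↔ Even s)) →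
      ∃ a b, b ≤ m / i ∧ (b = m / i → a = m % i) ∧ (b < m / i → m % i + i ≤ a) ∧
        2 * b ≤ s + 1 - t ∧
        (2 * a + 2 ≤ 2 * d - i * s ∨ ((plus ↔ Even s) ∧ 2 * a ≤ 2 * d - i * s)) := by
    intro s h1 h2 h3
    obtain ⟨a, b, hab, h4, h5⟩ := H s h1 h2 h3
    obtain ⟨h6, h7, h8⟩ := decomp i m a b hi0 hab
    exact ⟨a, b, h6, h7, h8, h4, h5⟩
  generalize 2 * d / i = N at *
  generalize (2 * d) % i = k at *
  generalize m / i = m' at *
  generalize m % i = l at *
  have e1 : i * (N - 1) + i = i * N := by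
    rw [← Nat.mul_succ]
    congr 1
    omega
  -- Part B
  have hB : t + 2 * m' ≤ N := by
    by_contra hcon
    push Not at hcon
    obtain ⟨a, b, h6, h7, h8, h4, h5⟩ := ext (N - 1) (by omega) (by omega)
      (fun h => by exfalso; omega)
    have hb : b < m' := by omega
    have h9 := h8 hb
    rcases h5 with h | ⟨-, h⟩ <;> omega
  refine ⟨hA, hB, ?_⟩
  by_cases hsp : (plus ↔ Even N)
  · right; left
    obtain ⟨a, b, h6, h7, h8, h4, h5⟩ := ext N (by omega) (by omega) (fun _ => hsp)
    have hb : b = m' := by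
      rcases Nat.lt_or_ge b m' with h | h
      · have h9 := h8 h
        rcases h5 with h' | ⟨-, h'⟩ <;> omega
      · omega
    have h9 := h7 hb
    refine ⟨?_, hsp⟩
    rcases h5 with h' | ⟨-, h'⟩ <;> omega
  · rcases Nat.eq_zero_or_pos k with hk0 | hk0
    · left
      obtain ⟨a, b, h6, h7, h8, h4, h5⟩ := ext (N - 1) (by omega) (by omega)
        (fun h => by exfalso; omega)
      have hb : b = m' := by
        rcases Nat.lt_or_ge b m' with h | h
        · have h9 := h8 h
          rcases h5 with h' | ⟨-, h'⟩ <;> omega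
        · omega
      have hal := h7 hb
      have h2l : 2 * l ≤ i := by
        rcases h5 with h' | ⟨-, h'⟩ <;> omega
      refine ⟨h2l, hk0, hsp, ?_⟩
      by_contra hD
      have hDN : N = t + 2 * m' := by omega
      have e2 : i * (N - 2) + 2 * i = i * N := by
        have : i * (N - 2) + i * 2 = i * N := by
          rw [← mul_add]
          congr 1
          omega
        omega
      have hsp2 : ¬ (plus ↔ Even (N - 2)) := by
        intro h
        apply hsp
        have h10 : Even (N - 2) ↔ Even N := by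
          rw [Nat.even_iff, Nat.even_iff]
          omega
        rwa [h10] at h
      obtain ⟨a', b', h6', h7', h8', h4', h5'⟩ := ext (N - 2) (by omega) (by omega)
        (fun h => by exfalso; omega)
      have hb' : b' < m' := by omega
      have h9 := h8' hb'
      rcases h5' with h | ⟨h, -⟩
      · omega
      · exact hsp2 h
    · right; right
      obtain ⟨a, b, h6, h7, h8, h4, h5⟩ := ext N (by omega) (by omega)
        (fun h => by exfalso; omega)
      rcases h5 with h' | ⟨h', -⟩
      · have hb : b = m' := by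
          rcases Nat.lt_or_ge b m' with h | h
          · have h9 := h8 h
            omega
          · omega
        have h9 := h7 hb
        exact ⟨by omega, hsp⟩
      · exact absurd h' hsp

/-- sufficiency, `i` even: the arithmetic -/
theorem suff_even (plus : Prop) (d i t m s f : ℕ) (hi0 : 0 < i) (hev : Even i) (ht : 1 ≤ t)
    (hmd : m + 1 ≤ d) (hs1 : 1 ≤ s) (hsf : i * s + f = 2 * d) (hf0 : f = 0 → (plus ↔ Even s))
    (hR : i ≤ m ∧ t + 2 * (m / i) ≤ 2 * d / i ∧
      ((2 * (m % i) ≤ i ∧ (2 * d) % i = 0 ∧ ¬ (plus ↔ Even (2 * d / i)) ∧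
          t + 2 * (m / i) < 2 * d / i) ∨
       (2 * (m % i) ≤ (2 * d) % i ∧ (plus ↔ Even (2 * d / i))) ∨
       (2 * (m % i) < (2 * d) % i ∧ ¬ (plus ↔ Even (2 * d / i))))) :
    ∃ a b : ℕ, a + i * b = m ∧ (b = 0 ∨ t + 2 * b ≤ s + 1) ∧
      (2 * a + 2 ≤ f ∨ ((plus ↔ Even s) ∧ 2 * a ≤ f)) := by
  obtain ⟨hA, hB, hC⟩ := hR
  obtain ⟨i₀, hi₀⟩ := hev
  have hn := Nat.div_add_mod (2 * d) i
  have hk := Nat.mod_lt (2 * d) hi0
  have hm := Nat.div_add_mod m i
  have hl := Nat.mod_lt m hi0
  have hm'1 : 1 ≤ m / i := Nat.div_pos hA hi0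
  generalize 2 * d / i = N at *
  generalize (2 * d) % i = k at *
  generalize m / i = m' at *
  generalize m % i = l at *
  have hkev : k % 2 = 0 := by
    have : i * N = 2 * (i₀ * N) := by
      rw [hi₀]
      ring
    omega
  have hsN : s ≤ N := by
    by_contra h
    push Not at h
    have h1 : i * (N + 1) ≤ i * s := Nat.mul_le_mul_left i h
    rw [mul_add, mul_one] at h1
    omega
  obtain ⟨u, hu⟩ : ∃ u, N = s + u := ⟨N - s, by omega⟩
  have hiu : i * N = i * s + i * u := by rw [hu, mul_add]
  have hf : f = i * u + k := by omega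
  obtain ⟨β, hβ⟩ : ∃ β, β = (s + 1 - t) / 2 := ⟨_, rfl⟩
  by_cases hpl : plus
  · simp only [hpl, true_iff, Nat.even_iff] at hC hf0 ⊢
    rcases Nat.lt_or_ge β m' with hβm | hβm
    · have hbm : i * m' = i * β + i * (m' - β) := by
        rw [← mul_add]
        congr 1
        omega
      refine ⟨l + i * (m' - β), β, by omega, by omega, ?_⟩
      have hule : 2 * (m' - β) ≤ u := by omega
      obtain ⟨e, he⟩ : ∃ e, u = 2 * (m' - β) + e := ⟨u - 2 * (m' - β), by omega⟩
      have hie : i * u = 2 * (i * (m' - β)) + i * e := by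
        rw [he]
        ring
      rcases Nat.lt_or_ge e 2 with he2 | he2
      · interval_cases e
        · omega
        · omega
      · left
        have h3 : i * 2 ≤ i * e := Nat.mul_le_mul_left i he2
        omega
    · refine ⟨l, m', by omega, by omega, ?_⟩
      rcases Nat.lt_or_ge u 2 with hu2 | hu2
      · interval_cases u
        · omega
        · omega
      · left
        have h3 : i * 2 ≤ i * u := Nat.mul_le_mul_left i hu2
        omega
  · simp only [hpl, false_iff, not_not, Nat.even_iff] at hC hf0 ⊢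
    rcases Nat.lt_or_ge β m' with hβm | hβm
    · have hbm : i * m' = i * β + i * (m' - β) := by
        rw [← mul_add]
        congr 1
        omega
      refine ⟨l + i * (m' - β), β, by omega, by omega, ?_⟩
      have hule : 2 * (m' - β) ≤ u := by omega
      obtain ⟨e, he⟩ : ∃ e, u = 2 * (m' - β) + e := ⟨u - 2 * (m' - β), by omega⟩
      have hie : i * u = 2 * (i * (m' - β)) + i * e := by
        rw [he]
        ring
      rcases Nat.lt_or_ge e 2 with he2 | he2
      · interval_cases e
        · omega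
        · omega
      · left
        have h3 : i * 2 ≤ i * e := Nat.mul_le_mul_left i he2
        omega
    · refine ⟨l, m', by omega, by omega, ?_⟩
      rcases Nat.lt_or_ge u 2 with hu2 | hu2
      · interval_cases u
        · omega
        · omega
      · left
        have h3 : i * 2 ≤ i * u := Nat.mul_le_mul_left i hu2
        omega

/-- sufficiency, `i` odd: the arithmetic -/
theorem suff_odd (plus : Prop) (d i m b' f : ℕ) (hi0 : 0 < i) (hmd : m + 1 ≤ d)
    (hbf : 2 * i * b' + f = 2 * d) (hf0 : f = 0 → plus)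
    (hR : i ≤ m ∧ (plus → 2 * (m % i) ≤ (2 * d) % (2 * i)) ∧
      (¬ plus → ((2 * d) % (2 * i) = 0 ∨ 2 * (m % i) < (2 * d) % (2 * i)))) :
    ∃ a b : ℕ, a + i * b = m ∧ b ≤ b' ∧ (plus → 2 * a ≤ f) ∧ (¬ plus → 2 * a + 2 ≤ f) := by
  obtain ⟨hA, hp, hnp⟩ := hR
  have hn := Nat.div_add_mod (2 * d) (2 * i)
  have hk := Nat.mod_lt (2 * d) (by omega : 0 < 2 * i)
  have hm := Nat.div_add_mod m i
  have hl := Nat.mod_lt m hi0
  generalize 2 * d / (2 * i) = B at *
  generalize (2 * d) % (2 * i) = K at *
  generalize m / i = m' at *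
  generalize m % i = l at *
  have e1 : 2 * i * B = 2 * (i * B) := by ring
  have e2 : 2 * i * b' = 2 * (i * b') := by ring
  have hbB : b' ≤ B := by
    by_contra h
    push Not at h
    have h1 : i * (B + 1) ≤ i * b' := Nat.mul_le_mul_left i h
    rw [mul_add, mul_one] at h1
    omega
  obtain ⟨u, hu⟩ : ∃ u, B = b' + u := ⟨B - b', by omega⟩
  have hiu : i * B = i * b' + i * u := by rw [hu, mul_add]
  rcases Nat.lt_or_ge b' m' with hlt | hge
  · have hbm : i * m' = i * b' + i * (m' - b') := by
      rw [← mul_add]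
      congr 1
      omega
    exact ⟨l + i * (m' - b'), b', by omega, le_rfl, fun _ => by omega, fun _ => by omega⟩
  · refine ⟨l, m', by omega, hge, fun h => ?_, fun h => ?_⟩
    · have := hp h
      omega
    · rcases hnp h with h0 | h0
      · have hf0' : f ≠ 0 := fun hf => h (hf0 hf)
        have hu1 : 1 ≤ u := by
          rcases Nat.eq_zero_or_pos u with h3 | h3
          · rw [h3, mul_zero] at hiu
            omega
          · exact h3
        have h4 : i * 1 ≤ i * u := Nat.mul_le_mul_left i hu1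
        omega
      · omega

/-- necessity, `i` odd: the arithmetic -/
theorem nec_odd (plus : Prop) (d i m : ℕ) (hi0 : 0 < i) (hm1 : 1 ≤ m) (hmd : m + 1 ≤ d)
    (hweak : ∃ b₀ < m, (plus → i ∣ d - b₀) ∧ (¬ plus → i ∣ d - b₀ - 1))
    (H : 2 * i ≤ 2 * d → (plus ∨ 0 < (2 * d) % (2 * i)) →
      ∃ a, a ≤ m ∧ i ∣ m - a ∧ (plus → 2 * a ≤ (2 * d) % (2 * i)) ∧
        (¬ plus → 2 * a + 2 ≤ (2 * d) % (2 * i))) :
    i ≤ m ∧ (plus → 2 * (m % i) ≤ (2 * d) % (2 * i)) ∧
      (¬ plus → ((2 * d) % (2 * i) = 0 ∨ 2 * (m % i) < (2 * d) % (2 * i))) := by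
  obtain ⟨b₀, hb₀, hp, hnp⟩ := hweak
  have hK : (2 * d) % (2 * i) = 2 * (d % i) := Nat.mul_mod_mul_left 2 d i
  have hl := Nat.mod_lt m hi0
  have hge : ∀ a, a ≤ m → i ∣ m - a → m % i ≤ a := by
    intro a ha ⟨e, he⟩
    have hab : a + i * e = m := by omega
    obtain ⟨h6, h7, h8⟩ := decomp i m a e hi0 hab
    rcases Nat.lt_or_ge e (m / i) with h | h
    · have := h8 h
      omega
    · have := h7 (by omega)
      omega
  by_cases hpl : plus
  · obtain ⟨c, hc⟩ := hp hpl
    have hc1 : 1 ≤ c := by
      rcases Nat.eq_zero_or_pos c with h | h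
      · rw [h, mul_zero] at hc
        omega
      · exact h
    have h4 : i * 1 ≤ i * c := Nat.mul_le_mul_left i hc1
    obtain ⟨a, ha, hdiv, h1, -⟩ := H (by omega) (Or.inl hpl)
    have hla := hge a ha hdiv
    have h1' := h1 hpl
    refine ⟨?_, fun _ => by omega, fun h => absurd hpl h⟩
    by_contra hlt
    push Not at hlt
    have hd : d = b₀ + i * c := by omega
    have hdi : d % i = b₀ := by
      rw [hd, Nat.add_mul_mod_self_left, Nat.mod_eq_of_lt (by omega)]
    have hmi : m % i = m := Nat.mod_eq_of_lt hlt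
    omega
  · obtain ⟨c, hc⟩ := hnp hpl
    have hc1 : 1 ≤ c := by
      rcases Nat.eq_zero_or_pos c with h | h
      · rw [h, mul_zero] at hc
        omega
      · exact h
    have h4 : i * 1 ≤ i * c := Nat.mul_le_mul_left i hc1
    have hd : d = (b₀ + 1) + i * c := by omega
    have hdi : d % i = (b₀ + 1) % i := by
      rw [hd, Nat.add_mul_mod_self_left]
    rcases Nat.eq_zero_or_pos ((2 * d) % (2 * i)) with hK0 | hK0
    · refine ⟨?_, fun h => absurd h hpl, fun _ => Or.inl hK0⟩
      have h5 : (b₀ + 1) % i = 0 := by omega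
      have := Nat.le_of_dvd (by omega) (Nat.dvd_of_mod_eq_zero h5)
      omega
    · obtain ⟨a, ha, hdiv, -, h1⟩ := H (by omega) (Or.inr hK0)
      have hla := hge a ha hdiv
      have h1' := h1 hpl
      refine ⟨?_, fun h => absurd h hpl, fun _ => Or.inr (by omega)⟩
      by_contra hlt
      push Not at hlt
      have hdi' : d % i = b₀ + 1 := by
        rw [hdi, Nat.mod_eq_of_lt (by omega)]
      have hmi : m % i = m := Nat.mod_eq_of_lt hlt
      omega

end arith

end Cfsg.Agent.Lib.Helper9.BG
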