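import Mathlib
import Cfsg.Prelude
import Cfsg.Agent.Lib.Helper5.ONd.Main
import Cfsg.Agent.Lib.Helper9.BGa
import Cfsg.Agent.Lib.Helper9.BGg
import Cfsg.Agent.Lib.Helper9.BGi
import Cfsg.Agent.Lib.Helper9.BGk

set_option autoImplicit false
set_option linter.unusedSectionVars false
set_option linter.unusedVariables false
set_option linter.style.longLine false
set_option linter.unusedSimpArgs false
open Cfsg

set_option maxHeartbeats 1600000
namespace Cfsg.Agent.Lib.Helper9.BG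

universe u

open QuadraticMap Module Polynomial
open Cfsg.Agent.Lib.Helper5.QuadTwo Cfsg.Agent.Lib.Helper5.QuadSign
open Cfsg.Agent.Lib.Helper5.OrthPrime Cfsg.Agent.Lib.Helper5.OElus
open Cfsg.Agent.Lib.Helper5.OParab Cfsg.Agent.Lib.Helper5.ONd
open Cfsg.Agent.Lib.Helper4.PrimeOrd Cfsg.Agent.Lib.Helper5.NsPt
open Cfsg.Agent.Lib.Helper5.SemiCount Cfsg.Agent.Lib.Helper2

section witt
variable {F : Type u} [Field F] [Fintype F] {V : Type u} [AddCommGroup V] [Module F V]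
  [FiniteDimensional F V]

/-- totally singular subspaces of a subspace of plus type -/
theorem exists_ts_of_plus (Q : QuadraticForm F V) (C : Submodule F V) (hC : NdOn Q C) (n : ℕ)
    (hn : finrank F C = 2 * n) (hs : HasSign (res Q C) n 1) (a : ℕ) (ha : a ≤ n) :
    ∃ U : Submodule F V, U ≤ C ∧ (∀ u ∈ U, Q u = 0) ∧ finrank F U = a := by
  obtain ⟨U₀, hU₀C, hU₀ts, hU₀d⟩ := (plusOn_iff_hasSign Q C n hn hC).2 hs
  obtain ⟨U, hUU₀, hUd⟩ := exists_le_finrank_eq U₀ a (by omega)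
  exact ⟨U, hUU₀.trans hU₀C, fun u hu => hU₀ts u (hUU₀ hu), hUd⟩

/-- totally singular subspaces of a subspace of minus type are small -/
theorem ts_lt_of_minus (Q : QuadraticForm F V) (C : Submodule F V) (hC : NdOn Q C) (n : ℕ)
    (hn : finrank F C = 2 * n) (hs : HasSign (res Q C) n (-1)) (U : Submodule F V)
    (hUC : U ≤ C) (hU : ∀ u ∈ U, Q u = 0) : finrank F U + 1 ≤ n := by
  have h1 := two_mul_finrank_le_of_ti Q hC hUC (fun x hx y hy => polar_of_ts Q hU hx hy)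
  by_contra hcon
  have h2 : 2 * finrank F U = finrank F C := by omega
  have h3 : PlusOn Q C := ⟨U, hUC, hU, h2⟩
  have h4 := (plusOn_iff_hasSign Q C n hn hC).1 h3
  have h5 := h4.unique hs
  norm_num at h5

theorem exists_ts_signed (Q : QuadraticForm F V) (C : Submodule F V) (hC : NdOn Q C) (n : ℕ)
    (hn : finrank F C = 2 * n) (σ : ℤ) (hs : HasSign (res Q C) n σ) (a : ℕ)
    (ha : 2 * a + 2 ≤ 2 * n ∨ (σ = 1 ∧ a ≤ n)) :
    ∃ U : Submodule F V, U ≤ C ∧ (∀ u ∈ U, Q u = 0) ∧ finrank F U = a := by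
  rcases ha with h | ⟨h1, h2⟩
  · exact exists_ts_in Q C hC a (by omega)
  · subst h1
    exact exists_ts_of_plus Q C hC n hn hs a h2

theorem sign_iff (plus : Prop) (ε : ℤ) (hplus : (plus → ε = 1) ∧ (¬ plus → ε = -1)) (s : ℕ) :
    (ε * (-1) ^ s = 1 ↔ (plus ↔ Even s)) ∧ (ε * (-1) ^ s = -1 ↔ ¬ (plus ↔ Even s)) := by
  by_cases hp : plus
  · rw [hplus.1 hp]
    rcases Nat.even_or_odd s with he | ho
    · rw [he.neg_one_pow]
      simp [hp, he]
    · rw [ho.neg_one_pow]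
      have hne : ¬ Even s := Nat.not_even_iff_odd.2 ho
      simp [hp, hne]
  · rw [hplus.2 hp]
    rcases Nat.even_or_odd s with he | ho
    · rw [he.neg_one_pow]
      simp [hp, he]
    · rw [ho.neg_one_pow]
      have hne : ¬ Even s := Nat.not_even_iff_odd.2 ho
      simp [hp, hne]

variable {Q : QuadraticForm F V} {g gi : V →ₗ[F] V} {r : ℕ}

/-- dimensions and the sign of the fixed space -/
theorem MovHyp.sign_data {p : ℕ} [hp : Fact p.Prime] [CharP F p] (H : MovHyp Q g gi r)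
    (hQ : Nd Q) (d : ℕ) (hn : finrank F V = 2 * d) (ε : ℤ) (hε : HasSign Q d ε)
    [hr : Fact r.Prime] (hr2 : r ≠ 2) (hrp : r ≠ p) (hrq : ¬ r ∣ Fintype.card F) (i c : ℕ)
    (hi : i = orderOf ((Fintype.card F : ℕ) : ZMod r)) (hc : c = if Even i then i else 2 * i) :
    ∃ s nC : ℕ, finrank F (LinearMap.range (g - 1)) = c * s ∧
      finrank F (LinearMap.ker (g - 1)) = 2 * nC ∧ 2 * d = c * s + 2 * nC ∧
      HasSign (res Q (LinearMap.ker (g - 1))) nC (ε * tau i s) := by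
  have htop : ∀ x ∈ (⊤ : Submodule F V), g x ∈ (⊤ : Submodule F V) :=
    fun _ _ => Submodule.mem_top
  obtain ⟨a, n, ha, hn', hdan, hsC⟩ := sign_parts (p := p) Q g gi H.hiso H.gi_g H.g_gi r hr2 hrp
    hrq H.hr i c hi hc ⊤ htop (ndOn_top' Q hQ) d (by rw [finrank_top]; exact hn) ε
    ((hasSign_top_iff' Q d ε).2 hε)
  rw [movPart_top] at ha
  rw [fixPart_top] at hn' hsC
  exact ⟨a, n, ha, hn', hdan, hsC⟩

/-- the data of an invariant totally singular subspace -/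
theorem MovHyp.inv_ts_data {p : ℕ} [hp : Fact p.Prime] [CharP F p] (H : MovHyp Q g gi r)
    (hQ : Nd Q) (d m : ℕ) (hn : finrank F V = 2 * d) (ε : ℤ) (hε : HasSign Q d ε)
    [hr : Fact r.Prime] (hr2 : r ≠ 2) (hrp : r ≠ p) (hrq : ¬ r ∣ Fintype.card F) (i c : ℕ)
    (hi : i = orderOf ((Fintype.card F : ℕ) : ZMod r)) (hc : c = if Even i then i else 2 * i)
    (W : Submodule F V) (hWfin : finrank F W = m) (hWts : ∀ w ∈ W, Q w = 0)
    (hWg : ∀ w ∈ W, g w ∈ W) :
    ∃ s nC a : ℕ, finrank F (LinearMap.range (g - 1)) = c * s ∧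
      finrank F (LinearMap.ker (g - 1)) = 2 * nC ∧ 2 * d = c * s + 2 * nC ∧
      a ≤ m ∧ i ∣ m - a ∧ finrank F (W ⊓ LinearMap.range (g - 1) : Submodule F V) = m - a ∧
      (2 * a + 2 ≤ 2 * nC ∨ (ε * tau i s = 1 ∧ 2 * a ≤ 2 * nC)) := by
  obtain ⟨s, nC, hM, hC, hsum, hsign⟩ := H.sign_data hQ d hn ε hε hr2 hrp hrq i c hi hc
  obtain ⟨h1, h2, h3⟩ := split_data hQ H hrq W hWg hWts
  rw [hWfin, ← hi] at h2
  rw [hWfin] at h1
  rw [hC] at h3
  refine ⟨s, nC, finrank F (W ⊓ LinearMap.ker (g - 1) : Submodule F V), hM, hC, hsum, by omega,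
    h2, by omega, ?_⟩
  have hε1 : ε = 1 ∨ ε = -1 := sign_eq_pm Q hQ d hn hε
  have hτ := tau_pm i s
  have hpm : ε * tau i s = 1 ∨ ε * tau i s = -1 := by
    rcases hε1 with h | h <;> rcases hτ with h' | h' <;> rw [h, h'] <;> norm_num
  rcases hpm with h | h
  · exact Or.inr ⟨h, h3⟩
  · left
    rw [h] at hsign
    have := ts_lt_of_minus Q _ (H.ndOn_fix hQ) nC hC hsign
      (W ⊓ LinearMap.ker (g - 1)) inf_le_right (fun u hu => hWts u hu.1)
    omega

end witt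

/-- the statement's right-hand side, `i` odd -/
def ROdd (plus : Prop) (d m i c : ℕ) : Prop :=
  i ≤ m ∧ (plus → 2 * (m % i) ≤ (2 * d) % c) ∧
    (¬ plus → ((2 * d) % c = 0 ∨ 2 * (m % i) < (2 * d) % c))

/-- the statement's right-hand side, `i` even -/
def REven (plus : Prop) (d m i t : ℕ) : Prop :=
  i ≤ m ∧ t + 2 * (m / i) ≤ 2 * d / i ∧
    ((2 * (m % i) ≤ i ∧ (2 * d) % i = 0 ∧ ¬ (plus ↔ Even (2 * d / i)) ∧
        t + 2 * (m / i) < 2 * d / i) ∨
     (2 * (m % i) ≤ (2 * d) % i ∧ (plus ↔ Even (2 * d / i))) ∨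
     (2 * (m % i) < (2 * d) % i ∧ ¬ (plus ↔ Even (2 * d / i))))

section suff
variable {F : Type u} [Field F] [Fintype F] {V : Type u} [AddCommGroup V] [Module F V]
  [FiniteDimensional F V]
variable {Q : QuadraticForm F V} {g gi : V →ₗ[F] V} {r : ℕ}

theorem one_le_t {p : ℕ} [hp : Fact p.Prime] [CharP F p] (r : ℕ) [hr : Fact r.Prime]
    (hrp : r ≠ p) (i : ℕ) (hi : i = orderOf ((Fintype.card F : ℕ) : ZMod r)) :
    ∃ t, t * i = r - 1 ∧ 1 ≤ t ∧ (r - 1) / i = t ∧ 0 < i := by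
  obtain ⟨hqr, t, ht⟩ := exists_order_setup p (rfl : Fintype.card F = Fintype.card F) r hr.out hrp
  rw [← hi] at ht
  have hr2 := hr.out.two_le
  have ht1 : 1 ≤ t := by
    rcases Nat.eq_zero_or_pos t with h | h
    · rw [h, zero_mul] at ht
      omega
    · exact h
  have hi0 : 0 < i := by
    rcases Nat.eq_zero_or_pos i with h | h
    · rw [h, mul_zero] at ht
      omega
    · exact h
  exact ⟨t, ht, ht1, Nat.div_eq_of_eq_mul_left hi0 ht.symm, hi0⟩

/-- **sufficiency**, odd primes -/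
theorem MovHyp.suff_gen {p f₀ : ℕ} [hp : Fact p.Prime] [CharP F p]
    (hqp : Fintype.card F = p ^ f₀) (H : MovHyp Q g gi r) (hQ : Nd Q) (d m : ℕ)
    (hn : finrank F V = 2 * d) (hmd : m + 1 ≤ d) (ε : ℤ) (hε : HasSign Q d ε) (plus : Prop)
    (hplus : (plus → ε = 1) ∧ (¬ plus → ε = -1)) [hr : Fact r.Prime] (hr2 : r ≠ 2)
    (hrp : r ≠ p) (i c : ℕ) (hi : i = orderOf ((Fintype.card F : ℕ) : ZMod r))
    (hc : c = if Even i then i else 2 * i)
    (hR : (¬ Even i ∧ ROdd plus d m i c) ∨ (Even i ∧ REven plus d m i ((r - 1) / i))) :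
    ∃ W : Submodule F V, finrank F W = m ∧ (∀ w ∈ W, Q w = 0) ∧ ∀ w ∈ W, g w ∈ W := by
  have hrq : ¬ r ∣ Fintype.card F := Elus.not_dvd_card_of_ne (F := F) r hrp
  obtain ⟨t, ht, ht1, htdiv, hi0⟩ := one_le_t (F := F) (p := p) r hrp i hi
  obtain ⟨s, nC, hM, hC, hsum, hsign⟩ := H.sign_data hQ d hn ε hε hr2 hrp hrq i c hi hc
  have hCnd := H.ndOn_fix hQ
  have hzero : nC = 0 → ε * tau i s = 1 := by
    intro h0
    rw [h0] at hsign hC
    exact hsign.unique (hasSign_of_finrank_zero (res Q (LinearMap.ker (g - 1))) hC)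
  have key : ∃ a b : ℕ, a + i * b = m ∧
      (b = 0 ∨ i * (if Even i then (r - 1) / i + 1 else 1) + 2 * i * (b - 1) ≤ c * s) ∧
      (2 * a + 2 ≤ 2 * nC ∨ (ε * tau i s = 1 ∧ a ≤ nC)) := by
    rcases Nat.eq_zero_or_pos s with hs0 | hs1
    · rw [hs0, mul_zero] at hsum
      exact ⟨m, 0, by simp, Or.inl rfl, Or.inl (by omega)⟩
    rcases hR with ⟨hodd, hR⟩ | ⟨hev, hR⟩
    · have hc' : c = 2 * i := by rw [hc, if_neg hodd]
      have htau : tau i s = 1 := by
        unfold tau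
        rw [if_neg hodd]
      rw [htau, mul_one] at hzero ⊢
      unfold ROdd at hR
      rw [hc'] at hR hsum ⊢
      obtain ⟨a, b, hab, hbs, hpa, hnpa⟩ := suff_odd plus d i m s (2 * nC) hi0 hmd (by omega)
        (fun h0 => by
          by_contra hnp
          have h1 := hzero (by omega)
          rw [hplus.2 hnp] at h1
          norm_num at h1) hR
      refine ⟨a, b, hab, ?_, ?_⟩
      · rcases Nat.eq_zero_or_pos b with hb0 | hb0
        · exact Or.inl hb0
        · right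
          rw [if_neg hodd]
          obtain ⟨b', rfl⟩ : ∃ b', b = b' + 1 := ⟨b - 1, by omega⟩
          have e1 : i * 1 + 2 * i * (b' + 1 - 1) = i * (2 * b' + 1) := by
            rw [Nat.add_sub_cancel]
            ring
          have e2 : 2 * i * s = i * (2 * s) := by ring
          rw [e1, e2]
          exact Nat.mul_le_mul_left i (by omega)
      · by_cases hpl : plus
        · right
          exact ⟨hplus.1 hpl, by have := hpa hpl; omega⟩
        · left
          exact hnpa hpl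
    · have hc' : c = i := by rw [hc, if_pos hev]
      have htau : tau i s = (-1) ^ s := by
        unfold tau
        rw [if_pos hev]
      rw [htau] at hzero ⊢
      unfold REven at hR
      rw [htdiv] at hR ⊢
      rw [hc'] at hsum ⊢
      obtain ⟨a, b, hab, hbs, ha⟩ := suff_even plus d i t m s (2 * nC) hi0 hev ht1 hmd hs1
        (by omega) (fun h0 => ((sign_iff plus ε hplus s).1).1 (hzero (by omega))) hR
      refine ⟨a, b, hab, ?_, ?_⟩
      · rcases hbs with hb0 | hb0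
        · exact Or.inl hb0
        · rcases Nat.eq_zero_or_pos b with hb1 | hb1
          · exact Or.inl hb1
          · right
            rw [if_pos hev]
            obtain ⟨b', rfl⟩ : ∃ b', b = b' + 1 := ⟨b - 1, by omega⟩
            have e1 : i * (t + 1) + 2 * i * (b' + 1 - 1) = i * (t + 1 + 2 * b') := by
              rw [Nat.add_sub_cancel]
              ring
            rw [e1]
            exact Nat.mul_le_mul_left i (by omega)
      · rcases ha with h | ⟨h1, h2⟩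
        · exact Or.inl h
        · exact Or.inr ⟨((sign_iff plus ε hplus s).1).2 h1, by omega⟩
  obtain ⟨a, b, hab, hb, ha⟩ := key
  obtain ⟨WM, hWMM, hWMfin, hWMts, hWMg⟩ := H.exists_ts_mov hqp hQ hr2 hrp hrq i hi b
    (by rw [hM]; exact hb)
  obtain ⟨U, hUC, hUts, hUfin⟩ := exists_ts_signed Q _ hCnd nC hC _ hsign a ha
  obtain ⟨h5, h6, h7⟩ := H.exists_ts_glue hUC hUts hWMM hWMts hWMg
  exact ⟨U ⊔ WM, by rw [h5, hUfin, hWMfin]; exact hab, h6, h7⟩

end suff

section nec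
variable {F : Type u} [Field F] [Fintype F] {ι : Type} [Fintype ι] [DecidableEq ι]
variable {p : ℕ} [hp : Fact p.Prime] [CharP F p]

omit [Fintype F] hp in
/-- the linear data of an element of order `r` with an invariant subspace -/
theorem lin_data (Q : QuadraticForm F (ι → F)) (r : ℕ) [hr : Fact r.Prime] (hr2 : r ≠ 2)
    (r0 : (r : F) ≠ 0) (x : GL ι F) (hxmem : x ∈ Cfsg.isometryGroup F ⇑Q) (hxr : x ^ r = 1)
    (W : Submodule F (ι → F)) (hWinv : W.map (Matrix.toLin' (x : Matrix ι ι F)) ≤ W) :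
    ∃ g gi : (ι → F) →ₗ[F] (ι → F), g = Matrix.toLin' (x : Matrix ι ι F) ∧
      MovHyp Q g gi r ∧ ∀ w ∈ W, g w ∈ W := by
  obtain ⟨g, gi, hgdef, hiso, gi_g, g_gi, hpow⟩ := exists_lin_data Q x hxmem
  refine ⟨g, gi, hgdef, ⟨hiso, gi_g, g_gi, hpow r hxr, hr.out.odd_of_ne_two hr2, r0⟩, ?_⟩
  intro w hw
  rw [hgdef]
  exact hWinv ⟨w, hw, rfl⟩

/-- the constraints given by an element with prescribed multiplicities, `i` even -/
theorem bad_even (Q : QuadraticForm F (ι → F)) (hQ : Nd Q) (d m : ℕ)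
    (hcard : Fintype.card ι = 2 * d) (ε : ℤ) (hε : HasSign Q d ε) (plus : Prop)
    (hplus : (plus → ε = 1) ∧ (¬ plus → ε = -1)) (r : ℕ) [hr : Fact r.Prime] (hr2 : r ≠ 2)
    (hrp : r ≠ p) (i : ℕ) (hi : i = orderOf ((Fintype.card F : ℕ) : ZMod r)) (hev : Even i)
    (Hx : ∀ x : GL ι F, x ∈ Cfsg.Geo.omegaGL ⇑Q → x ^ r = 1 → x ≠ 1 →
      ∃ W : Submodule F (ι → F), finrank F W = m ∧ (∀ w ∈ W, Q w = 0) ∧
        W.map (Matrix.toLin' (x : Matrix ι ι F)) ≤ W)
    (s : ℕ) (hs1 : 1 ≤ s) (hsn : i * s ≤ 2 * d) (hfull : i * s = 2 * d → (plus ↔ Even s)) :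
    ∃ a b, a + i * b = m ∧ 2 * b ≤ s + 1 - (r - 1) / i ∧
      (2 * a + 2 ≤ 2 * d - i * s ∨ ((plus ↔ Even s) ∧ 2 * a ≤ 2 * d - i * s)) := by
  classical
  have hrq : ¬ r ∣ Fintype.card F := Elus.not_dvd_card_of_ne (F := F) r hrp
  have rodd : Odd r := hr.out.odd_of_ne_two hr2
  obtain ⟨hqr, t, ht⟩ := exists_order_setup p (rfl : Fintype.card F = Fintype.card F) r hr.out hrp
  rw [← hi] at ht
  obtain ⟨r0, hi', ht1, f, H, π, hπi, hπ, hπe, hπo⟩ :=
    family_setup p (rfl : Fintype.card F = Fintype.card F) r i t hr.out hr2 hrp hi ht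
  have hi0 : 0 < i := H.ipos
  have htdiv : (r - 1) / i = t := Nat.div_eq_of_eq_mul_left hi0 ht.symm
  rw [htdiv]
  have hπid : π = id := hπe hev
  have hsd : ∀ j, star (RingHom.id F) (f j) = f j := by
    intro j
    rw [hπ j, hπid]
    rfl
  have hn : finrank F (ι → F) = 2 * d := by rw [Module.finrank_fintype_fun_eq_card, hcard]
  have hε1 : ε = 1 ∨ ε = -1 := sign_eq_pm Q hQ d hn hε
  obtain ⟨cv, hcv⟩ : ∃ cv : Fin t → ℕ, cv = fun j : Fin t =>
      (if (j : ℕ) = 0 then s - min s t else 0) + (if (j : ℕ) < s then 1 else 0) := ⟨_, rfl⟩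
  have hsum1 : ∑ j, cv j = s := by
    have h1 : ∑ j, cv j = (s - min s t) + min t s := by
      rw [hcv, Finset.sum_add_distrib]
      congr 1
      · rw [Finset.sum_eq_single (⟨0, ht1⟩ : Fin t)]
        · simp
        · intro b _ hb
          have : (b : ℕ) ≠ 0 := fun h => hb (Fin.ext h)
          rw [if_neg this]
        · intro h
          exact absurd (Finset.mem_univ _) h
      · rw [Finset.sum_boole, Fin.card_filter_val_lt]
        rfl
    rw [h1]
    omega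
  have hsum2 : ∑ j, cv j / 2 = (s + 1 - t) / 2 := by
    rw [Finset.sum_eq_single (⟨0, ht1⟩ : Fin t)]
    · rw [hcv]
      simp only [if_true]
      rw [if_pos (by omega)]
      omega
    · intro b _ hb
      have : (b : ℕ) ≠ 0 := fun h => hb (Fin.ext h)
      rw [hcv]
      simp only [if_neg this]
      split_ifs <;> omega
    · intro h
      exact absurd (Finset.mem_univ _) h
  have hcle : i * ∑ j, cv j ≤ 2 * d := by
    rw [hsum1]
    exact hsn
  have hP : i * ∑ j, cv j = 2 * d → (-1 : ℤ) ^ (∑ j, cv j) = ε := by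
    rw [hsum1]
    intro h
    have h1 := ((sign_iff plus ε hplus s).1).2 (hfull h)
    rcases hε1 with h2 | h2 <;> rw [h2] at h1 ⊢ <;> linarith
  obtain ⟨g₁, hg₁r, hcp⟩ := exists_even_Pc p hr2 H hsd hi' hev Q hQ d hcard ε hε1 hε cv hcle hP
  have hcv0 : 1 ≤ cv ⟨0, ht1⟩ := by
    rw [hcv]
    simp only [if_true]
    rw [if_pos (by omega)]
    omega
  have hg₁1 : g₁ ≠ 1 := by
    rintro rfl
    rw [Subgroup.coe_one, Units.val_one, Matrix.charpoly_one, hcard] at hcp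
    have h2 : Pc (2 * d) i t f cv = Pc (2 * d) i t f 0 := by
      rw [← hcp, Pc_zero, map_one]
    have h3 := Pc_injective H cv 0 h2
    rw [h3] at hcv0
    exact absurd hcv0 (by simp)
  have hg₁Ω : g₁ ∈ Cfsg.Omega F ⇑Q := mem_Omega_of_odd_order Q hQ g₁ r rodd r0 hg₁r
  have hx₁Ω : (g₁ : GL ι F) ∈ Cfsg.Geo.omegaGL ⇑Q := ⟨g₁, hg₁Ω, rfl⟩
  have hx₁r : (g₁ : GL ι F) ^ r = 1 := by rw [← Subgroup.coe_pow, hg₁r, Subgroup.coe_one]
  have hx₁1 : (g₁ : GL ι F) ≠ 1 := fun h => hg₁1 (Subtype.ext h)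
  obtain ⟨W, hWfin, hWts, hWinv⟩ := Hx _ hx₁Ω hx₁r hx₁1
  obtain ⟨g, gi, hgdef, MH, hWg⟩ := lin_data Q r hr2 r0 _ g₁.2 hx₁r W hWinv
  obtain ⟨s', nC, a, hM, hC, hsum, ham, hdiv, hWM, hsg⟩ := MH.inv_ts_data hQ d m hn ε hε hr2 hrp
    hrq i i hi (by rw [if_pos hev]) W hWfin hWts hWg
  have hfix := finrank_fix_of_charpoly_all Q r0 H (2 * d) cv g₁ hg₁r hcp
  rw [← hgdef, hC, hsum1] at hfix
  have hs' : s' = s := by
    have : i * s' = i * s := by omega
    exact Nat.eq_of_mul_eq_mul_left hi0 this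
  rw [hs'] at hsg hsum
  have hcp' : LinearMap.charpoly g = Pc (2 * d) i t f cv := by
    rw [hgdef, Matrix.charpoly_toLin']
    exact hcp
  have hbound := MH.ts_bound hQ hrq i t hi f H ht hsd (2 * d) cv hcp'
    (W ⊓ LinearMap.range (g - 1)) inf_le_right
    (fun w hw => ⟨hWg w hw.1, MH.g_mem_mov w hw.2⟩) (fun w hw => hWts w hw.1)
  rw [hsum2, hWM] at hbound
  obtain ⟨b, hb⟩ := hdiv
  have hbβ : b ≤ (s + 1 - t) / 2 := by
    rw [hb] at hbound
    exact Nat.le_of_mul_le_mul_left hbound hi0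
  refine ⟨a, b, by omega, by omega, ?_⟩
  have htau : tau i s = (-1) ^ s := by
    unfold tau
    rw [if_pos hev]
  rw [htau] at hsg
  rcases hsg with h | ⟨h1, h2⟩
  · left
    omega
  · right
    exact ⟨((sign_iff plus ε hplus s).1).1 h1, by omega⟩

/-- the constraints given by an element with the smallest fixed space, `i` odd -/
theorem bad_odd (Q : QuadraticForm F (ι → F)) (hQ : Nd Q) (d m : ℕ)
    (hcard : Fintype.card ι = 2 * d) (ε : ℤ) (hε : HasSign Q d ε) (plus : Prop)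
    (hplus : (plus → ε = 1) ∧ (¬ plus → ε = -1)) (r : ℕ) [hr : Fact r.Prime] (hr2 : r ≠ 2)
    (hrp : r ≠ p) (i : ℕ) (hi : i = orderOf ((Fintype.card F : ℕ) : ZMod r))
    (hodd : ¬ Even i) (x : GL ι F) (hxmem : x ∈ Cfsg.isometryGroup F ⇑Q) (hxr : x ^ r = 1)
    (hfix : finrank F (LinearMap.ker (Matrix.toLin' (x : Matrix ι ι F) - 1)) =
      (2 * d) % (2 * i))
    (W : Submodule F (ι → F)) (hWfin : finrank F W = m) (hWts : ∀ w ∈ W, Q w = 0)
    (hWinv : W.map (Matrix.toLin' (x : Matrix ι ι F)) ≤ W) :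
    ∃ a, a ≤ m ∧ i ∣ m - a ∧ (plus → 2 * a ≤ (2 * d) % (2 * i)) ∧
      (¬ plus → 2 * a + 2 ≤ (2 * d) % (2 * i)) := by
  have hrq : ¬ r ∣ Fintype.card F := Elus.not_dvd_card_of_ne (F := F) r hrp
  have r0 : (r : F) ≠ 0 := by
    intro h
    have h1 := (CharP.cast_eq_zero_iff F p r).mp h
    exact hrp ((Nat.prime_dvd_prime_iff_eq hp.out hr.out).mp h1).symm
  have hn : finrank F (ι → F) = 2 * d := by rw [Module.finrank_fintype_fun_eq_card, hcard]
  obtain ⟨g, gi, hgdef, MH, hWg⟩ := lin_data Q r hr2 r0 x hxmem hxr W hWinv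
  obtain ⟨s, nC, a, hM, hC, hsum, ham, hdiv, hWM, hsg⟩ := MH.inv_ts_data hQ d m hn ε hε hr2 hrp
    hrq i (2 * i) hi (by rw [if_neg hodd]) W hWfin hWts hWg
  rw [← hgdef, hC] at hfix
  have htau : tau i s = 1 := by
    unfold tau
    rw [if_neg hodd]
  rw [htau, mul_one] at hsg
  refine ⟨a, ham, hdiv, fun _ => ?_, fun hnp => ?_⟩
  · rcases hsg with h | ⟨-, h⟩ <;> omega
  · rcases hsg with h | ⟨h1, -⟩
    · omega
    · rw [hplus.2 hnp] at h1
      norm_num at h1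

end nec

section main
variable {F : Type u} [Field F] [Fintype F] {ι : Type} [Fintype ι] [DecidableEq ι]
variable {p : ℕ} [hp : Fact p.Prime] [CharP F p]

/-- **the case of odd primes**, for a nondegenerate form of even dimension and sign `ε` -/
theorem ts_main_odd {q : ℕ} (hq : Fintype.card F = q) (Q : QuadraticForm F (ι → F))
    (hQ : Nd Q) (d m : ℕ) (hcard : Fintype.card ι = 2 * d) (hm : 1 ≤ m) (hmd : m + 1 ≤ d)
    (ε : ℤ) (hε : HasSign Q d ε) (plus : Prop) (hplus : (plus → ε = 1) ∧ (¬ plus → ε = -1))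
    (r : ℕ) [hr : Fact r.Prime] (hr2 : r ≠ 2) (hrp : r ≠ p)
    (i c : ℕ) (hi : i = orderOf (q : ZMod r)) (hc : c = if Even i then i else 2 * i)
    (hweak : ∃ b₀ < m, (plus → (i ∣ d - b₀ ∨ (Even i ∧ (d - b₀ - 1) % i = i / 2))) ∧
      (¬ plus → ((Even i ∧ (d - b₀) % i = i / 2) ∨ i ∣ d - b₀ - 1)))
    (hmax : ¬ Even i → c ≤ 2 * d → (plus ∨ 0 < (2 * d) % c) →
      ∃ g : ↥(Cfsg.isometryGroup F ⇑Q), g ^ r = 1 ∧ g ≠ 1 ∧ g ∈ Cfsg.Omega F ⇑Q ∧
        finrank F (LinearMap.ker (Matrix.toLin' ((g : GL ι F) : Matrix ι ι F) - 1)) =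
          (2 * d) % c) :
    (∀ x : GL ι F, x ∈ Cfsg.Geo.omegaGL ⇑Q →
      (∃ z : F, ((x ^ r : GL ι F) : Matrix ι ι F) = z • (1 : Matrix ι ι F)) →
      (∀ z : F, (x : Matrix ι ι F) ≠ z • (1 : Matrix ι ι F)) →
      ∃ W : Submodule F (ι → F), finrank F W = m ∧ (∀ w ∈ W, Q w = 0) ∧
        W.map (Matrix.toLin' (x : Matrix ι ι F)) ≤ W) ↔
    ((¬ Even i ∧ ROdd plus d m i c) ∨ (Even i ∧ REven plus d m i ((r - 1) / i))) := by
  subst hq
  obtain ⟨f₀, hqp⟩ : ∃ f₀ : ℕ, Fintype.card F = p ^ f₀ := by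
    obtain ⟨n, -, hn⟩ := FiniteField.card F p
    exact ⟨n, hn⟩
  have : Nonempty ι := by
    rw [← Fintype.card_pos_iff, hcard]
    omega
  have hn : finrank F (ι → F) = 2 * d := by rw [Module.finrank_fintype_fun_eq_card, hcard]
  have hmem : ∀ x : GL ι F, x ∈ Cfsg.Geo.omegaGL ⇑Q → x ∈ Cfsg.isometryGroup F ⇑Q := by
    rintro x ⟨y, -, rfl⟩
    exact y.2
  have rodd : Odd r := hr.out.odd_of_ne_two hr2
  have r0 : (r : F) ≠ 0 := by
    intro h
    have h1 := (CharP.cast_eq_zero_iff F p r).mp h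
    exact hrp ((Nat.prime_dvd_prime_iff_eq hp.out hr.out).mp h1).symm
  obtain ⟨t, ht, ht1, htdiv, hi0⟩ := one_le_t (F := F) (p := p) r hrp i hi
  constructor
  · intro H
    have Hx : ∀ x : GL ι F, x ∈ Cfsg.Geo.omegaGL ⇑Q → x ^ r = 1 → x ≠ 1 →
        ∃ W : Submodule F (ι → F), finrank F W = m ∧ (∀ w ∈ W, Q w = 0) ∧
          W.map (Matrix.toLin' (x : Matrix ι ι F)) ≤ W := by
      intro x hxΩ hxr hx1
      exact H x hxΩ ⟨1, by rw [hxr, Units.val_one, one_smul]⟩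
        (not_scalar_of_odd_order Q hQ x (hmem x hxΩ) r rodd hxr hx1)
    obtain ⟨b₀, hb₀, hwp, hwn⟩ := hweak
    by_cases hev : Even i
    · right
      refine ⟨hev, ?_⟩
      unfold REven
      apply nec_even plus d i ((r - 1) / i) m hi0 hev (by rw [htdiv]; exact ht1) hm hmd
      · refine ⟨b₀, hb₀, fun hpl => ?_, fun hpl => ?_⟩
        · rcases hwp hpl with h | ⟨-, h⟩
          · exact Or.inl h
          · exact Or.inr h
        · rcases hwn hpl with ⟨-, h⟩ | h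
          · exact Or.inl h
          · exact Or.inr h
      · intro s hs1 hsn hfull
        exact bad_even Q hQ d m hcard ε hε plus hplus r hr2 hrp i hi hev Hx s hs1 hsn hfull
    · left
      refine ⟨hev, ?_⟩
      unfold ROdd
      have hc' : c = 2 * i := by rw [hc, if_neg hev]
      rw [hc'] at hmax ⊢
      apply nec_odd plus d i m hi0 hm hmd
      · refine ⟨b₀, hb₀, fun hpl => ?_, fun hpl => ?_⟩
        · rcases hwp hpl with h | ⟨h, -⟩
          · exact h
          · exact absurd h hev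
        · rcases hwn hpl with ⟨h, -⟩ | h
          · exact absurd h hev
          · exact h
      · intro hcn hpk
        obtain ⟨g₀, hg₀r, hg₀1, hg₀Ω, hg₀fix⟩ := hmax hev hcn hpk
        have hx₀Ω : (g₀ : GL ι F) ∈ Cfsg.Geo.omegaGL ⇑Q := ⟨g₀, hg₀Ω, rfl⟩
        have hx₀r : (g₀ : GL ι F) ^ r = 1 := by rw [← Subgroup.coe_pow, hg₀r, Subgroup.coe_one]
        have hx₀1 : (g₀ : GL ι F) ≠ 1 := fun h => hg₀1 (Subtype.ext h)
        obtain ⟨W, hWfin, hWts, hWinv⟩ := Hx _ hx₀Ω hx₀r hx₀1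
        exact bad_odd Q hQ d m hcard ε hε plus hplus r hr2 hrp i hi hev _ g₀.2 hx₀r hg₀fix W
          hWfin hWts hWinv
  · intro hR x hxΩ hz hns
    obtain ⟨z, hz⟩ := hz
    obtain ⟨g, gi, hgdef, hiso, gi_g, g_gi, hpow⟩ := exists_lin_data Q x (hmem x hxΩ)
    rw [← hgdef]
    have hz2 : z ^ 2 = 1 :=
      sq_eq_one_of_scalar Q hQ (x ^ r) (Subgroup.pow_mem _ (hmem x hxΩ) r) z hz
    have hzz : z * z = 1 := by rw [← pow_two]; exact hz2
    have hgr : g ^ r = z • (1 : Module.End F (ι → F)) := by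
      have h1 : Matrix.toLin' ((x : Matrix ι ι F) ^ r) = Matrix.toLin' (x : Matrix ι ι F) ^ r :=
        map_pow (Matrix.toLinAlgEquiv' (R := F) (n := ι)) _ r
      rw [hgdef, ← h1, ← Units.val_pow_eq_pow_val, hz, map_smul, Matrix.toLin'_one]
      rfl
    have hiso' : ∀ v, Q ((z • g) v) = Q v := by
      intro v
      rw [LinearMap.smul_apply, QuadraticMap.map_smul, hzz, hiso, one_smul]
    have gi_g' : ∀ v, (z • gi) ((z • g) v) = v := by
      intro v
      rw [LinearMap.smul_apply, LinearMap.smul_apply, map_smul, gi_g, smul_smul, hzz,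
        one_smul]
    have g_gi' : ∀ v, (z • g) ((z • gi) v) = v := by
      intro v
      rw [LinearMap.smul_apply, LinearMap.smul_apply, map_smul, g_gi, smul_smul, hzz,
        one_smul]
    have hgr' : (z • g) ^ r = 1 := by
      rw [_root_.smul_pow, hgr, smul_smul, ← pow_succ]
      obtain ⟨k', hk'⟩ := rodd
      rw [show r + 1 = 2 * (k' + 1) by omega, pow_mul, hz2, one_pow, one_smul]
    have MH : MovHyp Q (z • g) (z • gi) r := ⟨hiso', gi_g', g_gi', hgr', rodd, r0⟩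
    obtain ⟨W, hWfin, hWts, hWg⟩ := MH.suff_gen hqp hQ d m hn hmd ε hε plus hplus hr2 hrp i c hi
      hc hR
    refine ⟨W, hWfin, hWts, ?_⟩
    rintro _ ⟨w, hw, rfl⟩
    have h6 := W.smul_mem z (hWg w hw)
    rwa [LinearMap.smul_apply, smul_smul, hzz, one_smul] at h6

end main

end Cfsg.Agent.Lib.Helper9.BG
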