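import Mathlib
import Cfsg.Prelude
import Cfsg.Agent.Lib.Helper5.ONd.Main
import Cfsg.Agent.Lib.Helper5.OParab.TwoCrit
import Cfsg.Agent.Lib.Helper9.BGh
import Cfsg.Agent.Lib.Helper9.BGj

set_option autoImplicit false
set_option linter.unusedSectionVars false
set_option linter.unusedVariables false
set_option linter.style.longLine false
set_option linter.unusedSimpArgs false
open Cfsg

set_option maxHeartbeats 1600000
namespace Cfsg.Agent.Lib.Helper9.BG

universe u

open QuadraticMap Module Polynomial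
open Cfsg.Agent.Lib.Helper5.QuadTwo Cfsg.Agent.Lib.Helper5.QuadSign
open Cfsg.Agent.Lib.Helper5.OrthPrime Cfsg.Agent.Lib.Helper5.OElus
open Cfsg.Agent.Lib.Helper5.OParab Cfsg.Agent.Lib.Helper5.ONd
open Cfsg.Agent.Lib.Helper5.SpinorNorm Cfsg.Agent.Lib.Helper5.SpinorHyp
open Cfsg.Agent.Lib.Helper5.OmegaCrit Cfsg.Agent.Lib.Helper2

section invol
variable {F : Type u} [Field F] [Fintype F] {ι : Type} [Fintype ι] [DecidableEq ι]

/-- involutions in `Ω` of an even-dimensional space fix totally singular subspaces -/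
theorem invol_suff_even (hqodd : Odd (Fintype.card F)) (Q : QuadraticForm F (ι → F)) (hQ : Nd Q)
    (d m : ℕ) (hcard : Fintype.card ι = 2 * d) (hd2 : 1 ≤ d) (hmd : m + 1 ≤ d) (ε : ℤ)
    (hε : HasSign Q d ε) (plus : Prop) (hplus : (plus → ε = 1) ∧ (¬ plus → ε = -1))
    (hcond : plus → Fintype.card F % 4 = 3 → m + 2 ≤ d)
    (y : ↥(Cfsg.isometryGroup F ⇑Q)) (hyΩ : y ∈ Cfsg.Omega F ⇑Q)
    (g : (ι → F) →ₗ[F] (ι → F)) (hg : g = Matrix.toLin' ((y : GL ι F) : Matrix ι ι F))
    (hiso : ∀ x, Q (g x) = Q x) (hgg : ∀ v, g (g v) = v) :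
    ∃ W : Submodule F (ι → F), finrank F W = m ∧ (∀ w ∈ W, Q w = 0) ∧ ∀ w ∈ W, g w ∈ W := by
  have two : (2 : F) ≠ 0 := Cfsg.Agent.Lib.Helper5.two_ne_zero_of_odd_card hqodd
  have hn : finrank F (ι → F) = 2 * d := by rw [Module.finrank_fintype_fun_eq_card, hcard]
  obtain ⟨Ep, Em, memp, memm, hcompl, horth, hEpnd, hEmnd⟩ := invol_data two Q hQ g hiso hgg
  obtain ⟨hev, δ, hδ, hsq⟩ := invol_omega_disc two Q hQ (by rw [hcard]; omega) y hyΩ g hg memp
    memm hcompl horth hEmnd
  obtain ⟨k, hk⟩ := hev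
  have hk' : finrank F Em = 2 * k := by omega
  have hsum := Submodule.finrank_add_eq_of_isCompl hcompl
  rw [hn] at hsum
  have hkd : k ≤ d := by omega
  have hEp : finrank F Ep = 2 * (d - k) := by omega
  obtain ⟨σ, hσ1, hσ⟩ := exists_sign_on Q hEmnd k hk'
  have hperp : Perp Q Em Ep := fun u hu w hw => by rw [polar_comm]; exact horth w hw u hu
  have htop : HasSign (res Q (Em ⊔ Ep)) (k + (d - k)) ε := by
    rw [sup_comm, hcompl.sup_eq_top, show k + (d - k) = d by omega]
    exact (hasSign_top_iff' Q d ε).2 hε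
  have hσp := hasSign_of_sup hperp hEmnd hEpnd k (d - k) hk' hEp σ ε hσ htop
  have key : ∃ U₁ U₂ : Submodule F (ι → F), U₁ ≤ Ep ∧ (∀ u ∈ U₁, Q u = 0) ∧ U₂ ≤ Em ∧
      (∀ u ∈ U₂, Q u = 0) ∧ finrank F U₁ + finrank F U₂ = m := by
    rcases hσ1 with rfl | rfl
    · obtain ⟨U₂, hU₂, ts₂, hf₂⟩ := exists_ts_of_plus Q Em hEmnd k hk' hσ (min m k)
        (min_le_right _ _)
      obtain ⟨U₁, hU₁, ts₁, hf₁⟩ := exists_ts_in' Q Ep hEpnd (m - min m k) (by omega)
      exact ⟨U₁, U₂, hU₁, ts₁, hU₂, ts₂, by omega⟩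
    · -- `Em` of minus type: `q ≡ 3 (mod 4)` and `k` is odd
      have hk1 : 1 ≤ k := by
        rcases Nat.eq_zero_or_pos k with h0 | h0
        · exfalso
          subst h0
          have h1 := hasSign_of_finrank_zero (res Q Em) (by rw [hk'])
          have h2 := h1.unique hσ
          norm_num at h2
        · exact h0
      have hnE : ¬ Even (k * (Fintype.card F - 1) / 2) := by
        intro hE
        have h1 : PlusOn Q Em := (plusOn_iff_disc hqodd Q Em k hk1 hk' hEmnd hδ).2
          ⟨fun _ => hE, fun _ => hsq⟩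
        have h2 := ((plusOn_iff_hasSign Q Em k hk' hEmnd).1 h1).unique hσ
        norm_num at h2
      rw [even_half_iff k _ hqodd] at hnE
      push Not at hnE
      have h43 : Fintype.card F % 4 = 3 := by
        have := Nat.odd_iff.1 hqodd
        omega
      by_cases hpl : plus
      · have hmd2 := hcond hpl h43
        obtain ⟨U₂, hU₂, ts₂, hf₂⟩ := exists_ts_in' Q Em hEmnd (min m (k - 1)) (by omega)
        obtain ⟨U₁, hU₁, ts₁, hf₁⟩ := exists_ts_in' Q Ep hEpnd (m - min m (k - 1)) (by omega)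
        exact ⟨U₁, U₂, hU₁, ts₁, hU₂, ts₂, by omega⟩
      · rw [hplus.2 hpl] at hσp
        have hσp' : HasSign (res Q Ep) (d - k) 1 := by
          have e : (-1 : ℤ) * -1 = 1 := by norm_num
          rw [e] at hσp
          exact hσp
        obtain ⟨U₁, hU₁, ts₁, hf₁⟩ := exists_ts_of_plus Q Ep hEpnd (d - k) hEp hσp'
          (min m (d - k)) (min_le_right _ _)
        obtain ⟨U₂, hU₂, ts₂, hf₂⟩ := exists_ts_in' Q Em hEmnd (m - min m (d - k)) (by omega)
        exact ⟨U₁, U₂, hU₁, ts₁, hU₂, ts₂, by omega⟩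
  obtain ⟨U₁, U₂, hU₁, ts₁, hU₂, ts₂, hf⟩ := key
  obtain ⟨h5, h6, h7⟩ := invol_glue Q g memp memm hcompl.disjoint horth hU₁ ts₁ hU₂ ts₂
  exact ⟨U₁ ⊔ U₂, by rw [h5, hf], h6, h7⟩

end invol

section negsq
variable {F : Type u} [Field F] [Fintype F] {V : Type u} [AddCommGroup V] [Module F V]
  [FiniteDimensional F V]

omit [FiniteDimensional F V] in
theorem exists_sq_add_sq (hqodd : Odd (Fintype.card F)) (t : F) :
    ∃ a b : F, a ^ 2 + b ^ 2 = t := by
  classical
  obtain ⟨a, b, hab⟩ := FiniteField.exists_root_sum_quadratic (R := F) (f := X ^ 2)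
    (g := X ^ 2 - C t) (degree_X_pow 2) (degree_X_pow_sub_C (by decide) _) (Nat.odd_iff.1 hqodd)
  refine ⟨a, b, ?_⟩
  simp only [eval_pow, eval_X, eval_sub, eval_C] at hab
  linear_combination hab

/-- `q ≡ 1 (mod 4)`: the eigenspaces of an isometry squaring to `-1` are totally singular -/
theorem negsq_ts_one (h41 : Fintype.card F % 4 = 1) (Q : QuadraticForm F V) (g : V →ₗ[F] V)
    (hiso : ∀ x, Q (g x) = Q x) (hgg : ∀ v, g (g v) = -v) (d m : ℕ)
    (hn : finrank F V = 2 * d) (hmd : m ≤ d) :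
    ∃ W : Submodule F V, finrank F W = m ∧ (∀ w ∈ W, Q w = 0) ∧ ∀ w ∈ W, g w ∈ W := by
  have two : (2 : F) ≠ 0 :=
    Cfsg.Agent.Lib.Helper5.two_ne_zero_of_odd_card (Nat.odd_iff.2 (by omega))
  obtain ⟨e, he⟩ : IsSquare (-1 : F) := by
    rw [FiniteField.isSquare_neg_one_iff]
    omega
  have he0 : e ≠ 0 := by
    rintro rfl
    rw [mul_zero] at he
    exact one_ne_zero (neg_eq_zero.1 he)
  have key : ∀ c : F, c * c = -1 → ∀ v, g v = c • v → Q v = 0 := by
    intro c hc v hv
    have h1 := hiso v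
    rw [hv, q_smul, hc] at h1
    have h3 : (2 : F) * Q v = 0 := by linear_combination -h1
    exact (mul_eq_zero.1 h3).resolve_left two
  obtain ⟨Vp, hVp⟩ : ∃ Vp : Submodule F V, Vp = LinearMap.ker (g - e • (1 : V →ₗ[F] V)) :=
    ⟨_, rfl⟩
  obtain ⟨Vm, hVm⟩ : ∃ Vm : Submodule F V, Vm = LinearMap.ker (g + e • (1 : V →ₗ[F] V)) :=
    ⟨_, rfl⟩
  have memp : ∀ x, x ∈ Vp ↔ g x = e • x := by
    intro x
    rw [hVp, LinearMap.mem_ker, LinearMap.sub_apply, LinearMap.smul_apply, Module.End.one_apply,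
      sub_eq_zero]
  have memm : ∀ x, x ∈ Vm ↔ g x = (-e) • x := by
    intro x
    rw [hVm, LinearMap.mem_ker, LinearMap.add_apply, LinearMap.smul_apply, Module.End.one_apply,
      add_eq_zero_iff_eq_neg, neg_smul]
  have hsup : Vp ⊔ Vm = ⊤ := by
    rw [eq_top_iff]
    intro x _
    have h1 : x = (2 * e)⁻¹ • (e • x + g x) + (2 * e)⁻¹ • (e • x - g x) := by
      rw [← smul_add, add_add_sub_cancel, ← two_smul F (e • x), smul_smul, smul_smul, mul_assoc,
        inv_mul_cancel₀ (mul_ne_zero two he0), one_smul]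
    rw [h1]
    apply Submodule.add_mem
    · apply Submodule.mem_sup_left
      rw [memp, map_smul, map_add, map_smul, hgg, smul_comm e]
      congr 1
      rw [smul_add, smul_smul, ← he, neg_smul, one_smul, add_comm]
    · apply Submodule.mem_sup_right
      rw [memm, map_smul, map_sub, map_smul, hgg, smul_comm (-e)]
      congr 1
      rw [smul_sub, smul_smul, neg_mul, ← he, neg_neg, one_smul, neg_smul, sub_neg_eq_add,
        sub_neg_eq_add, add_comm]
  have hle := Submodule.finrank_add_le_finrank_add_finrank Vp Vm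
  rw [hsup, finrank_top, hn] at hle
  have hee : -e * -e = -1 := by rw [neg_mul_neg, ← he]
  rcases Nat.lt_or_ge (finrank F Vp) d with hlt | hge
  · obtain ⟨W, hWV, hWd⟩ := exists_le_finrank_eq Vm m (by omega)
    refine ⟨W, hWd, fun w hw => key (-e) hee w ((memm w).1 (hWV hw)), fun w hw => ?_⟩
    rw [(memm w).1 (hWV hw)]
    exact W.smul_mem _ hw
  · obtain ⟨W, hWV, hWd⟩ := exists_le_finrank_eq Vp m (by omega)
    refine ⟨W, hWd, fun w hw => key e he.symm w ((memp w).1 (hWV hw)), fun w hw => ?_⟩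
    rw [(memp w).1 (hWV hw)]
    exact W.smul_mem _ hw

/-- `q ≡ 3 (mod 4)`: invariant subspaces of an endomorphism squaring to `-1` have even
dimension -/
theorem even_finrank_of_negsq (h43 : Fintype.card F % 4 = 3) (g : V →ₗ[F] V)
    (hgg : ∀ v, g (g v) = -v) (W : Submodule F V) (hW : ∀ w ∈ W, g w ∈ W) :
    Even (finrank F W) := by
  have hns : ¬ IsSquare (-1 : F) := by
    rw [FiniteField.isSquare_neg_one_iff]
    omega
  obtain ⟨T, hT⟩ : ∃ T : W →ₗ[F] W, T = g.restrict hW := ⟨_, rfl⟩
  have hTT : T * T = (-1 : F) • (1 : W →ₗ[F] W) := by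
    apply LinearMap.ext
    intro w
    apply Subtype.ext
    rw [Module.End.mul_apply, hT, LinearMap.coe_restrict_apply, LinearMap.coe_restrict_apply,
      hgg, LinearMap.smul_apply, Module.End.one_apply, neg_smul, one_smul]
    rfl
  have hdet := congrArg LinearMap.det hTT
  rw [map_mul, LinearMap.det_smul, map_one, mul_one] at hdet
  by_contra hodd
  rw [Nat.not_even_iff_odd] at hodd
  rw [hodd.neg_one_pow] at hdet
  exact hns ⟨_, hdet.symm⟩

/-- `q ≡ 3 (mod 4)`: invariant totally singular subspaces of even dimension -/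
theorem negsq_ts_three (h43 : Fintype.card F % 4 = 3) (Q : QuadraticForm F V) (g : V →ₗ[F] V)
    (hiso : ∀ x, Q (g x) = Q x) (hgg : ∀ v, g (g v) = -v) :
    ∀ (j : ℕ) (U : Submodule F V), (∀ x ∈ U, g x ∈ U) → NdOn Q U → 4 * j ≤ finrank F U →
      ∃ W : Submodule F V, W ≤ U ∧ (∀ w ∈ W, Q w = 0) ∧ (∀ w ∈ W, g w ∈ W) ∧
        finrank F W = 2 * j := by
  have hqodd : Odd (Fintype.card F) := Nat.odd_iff.2 (by omega)
  have two : (2 : F) ≠ 0 := Cfsg.Agent.Lib.Helper5.two_ne_zero_of_odd_card hqodd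
  intro j
  induction j with
  | zero =>
    intro U _ _ _
    exact ⟨⊥, bot_le, fun w hw => by rw [(Submodule.mem_bot F).1 hw, map_zero],
      fun w hw => by rw [(Submodule.mem_bot F).1 hw, map_zero]; exact Submodule.zero_mem _,
      finrank_bot F V⟩
  | succ j ih =>
    intro U hUg hU hfin
    obtain ⟨v, hvU, hv, U', hU'U, hU'g, hU'nd, hU'd, horth, hdisj, hsup, -⟩ :=
      neg_sq_step two Q g hiso hgg U hUg hU (by omega)
    obtain ⟨v', hv'U', hv', U'', hU''U', hU''g, hU''nd, hU''d, horth', hdisj', hsup', -⟩ :=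
      neg_sq_step two Q g hiso hgg U' hU'g hU'nd (by omega)
    obtain ⟨W'', hW''U, hW''ts, hW''g, hW''d⟩ := ih U'' hU''g hU''nd (by omega)
    obtain ⟨a, b, hab⟩ := exists_sq_add_sq hqodd (-(Q v') / Q v)
    obtain ⟨w, hwdef⟩ : ∃ w : V, w = a • v + b • g v + v' := ⟨_, rfl⟩
    have hvgv := polar_self_neg_sq two Q g hiso hgg v
    have hQw : Q w = 0 := by
      rw [hwdef, q_add, q_add, q_smul, q_smul, hiso, polar_add_left, polar_smul_left,
        polar_smul_left, polar_smul_left, polar_smul_right, hvgv, (horth v' hv'U').1,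
        (horth v' hv'U').2]
      simp only [smul_eq_mul, mul_zero, add_zero]
      have h1 : (a ^ 2 + b ^ 2) * Q v = -(Q v') := by
        rw [hab]
        field_simp
      linear_combination h1
    have hQgw : Q (g w) = 0 := by rw [hiso, hQw]
    have hwgw := polar_self_neg_sq two Q g hiso hgg w
    have hw0 : w ≠ 0 := by
      intro h0
      apply hv'
      have h1 : v' ∈ negPlane g v := by
        rw [mem_negPlane]
        refine ⟨-a, -b, ?_⟩
        have : v' = w - (a • v + b • g v) := by rw [hwdef]; abel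
        rw [this, h0]
        module
      have h2 := (Submodule.disjoint_def.1 hdisj) v' h1 hv'U'
      rw [h2, map_zero]
    obtain ⟨P, hP⟩ : ∃ P : Submodule F V, P = negPlane g w := ⟨_, rfl⟩
    have memP : ∀ x, x ∈ P ↔ ∃ s t : F, s • w + t • g w = x := by
      intro x
      rw [hP, mem_negPlane]
    have hli : LinearIndependent F ![w, g w] := by
      rw [LinearIndependent.pair_iff]
      intro s t hst
      have h1 : s • g w - t • w = 0 := by
        have := congrArg g hst
        rw [map_add, map_smul, map_smul, hgg, map_zero] at this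
        rw [← this]
        module
      have h3 : (s ^ 2 + t ^ 2) • w = 0 := by
        have : (s ^ 2 + t ^ 2) • w = s • (s • w + t • g w) - t • (s • g w - t • w) := by module
        rw [this, hst, h1, smul_zero, smul_zero, sub_zero]
      rcases smul_eq_zero.1 h3 with h | h
      · exact sq_add_sq_eq_zero h43 h
      · exact absurd h hw0
    have hPd : finrank F P = 2 := by
      rw [hP]
      unfold negPlane
      rw [finrank_span_eq_card hli, Fintype.card_fin]
    have hwU' : v' ∈ U := hU'U hv'U'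
    have hwU : w ∈ U := by
      rw [hwdef]
      exact U.add_mem (U.add_mem (U.smul_mem _ hvU) (U.smul_mem _ (hUg v hvU))) hwU'
    have hPU : P ≤ U := by
      intro x hx
      obtain ⟨s, t, rfl⟩ := (memP x).1 hx
      exact U.add_mem (U.smul_mem _ hwU) (U.smul_mem _ (hUg w hwU))
    have hPts : ∀ x ∈ P, Q x = 0 := by
      intro x hx
      obtain ⟨s, t, rfl⟩ := (memP x).1 hx
      rw [q_add, q_smul, q_smul, hQw, hQgw, polar_smul_left, polar_smul_right, hwgw]
      simp
    have hPg : ∀ x ∈ P, g x ∈ P := by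
      intro x hx
      obtain ⟨s, t, rfl⟩ := (memP x).1 hx
      rw [memP]
      refine ⟨-t, s, ?_⟩
      rw [map_add, map_smul, map_smul, hgg]
      module
    -- `w` is orthogonal to `U''`
    have hwperp : ∀ x ∈ U'', polar Q w x = 0 ∧ polar Q (g w) x = 0 := by
      intro x hx
      have hxU' := hU''U' hx
      have h1 : polar Q w x = 0 := by
        rw [hwdef, polar_add_left, polar_add_left, polar_smul_left, polar_smul_left,
          (horth x hxU').1, (horth x hxU').2, (horth' x hx).1]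
        simp
      refine ⟨h1, ?_⟩
      have hgx : g x ∈ U'' := hU''g x hx
      have h3 : polar Q w (g x) = 0 := by
        rw [hwdef, polar_add_left, polar_add_left, polar_smul_left, polar_smul_left,
          (horth (g x) (hU''U' hgx)).1, (horth (g x) (hU''U' hgx)).2, (horth' (g x) hgx).1]
        simp
      have h4 := polar_neg_sq Q g hiso hgg w x
      rw [h3] at h4
      exact neg_eq_zero.1 h4.symm
    have hPperp : ∀ x ∈ P, ∀ y ∈ U'', polar Q x y = 0 := by
      intro x hx y hy
      obtain ⟨s, t, rfl⟩ := (memP x).1 hx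
      rw [polar_add_left, polar_smul_left, polar_smul_left, (hwperp y hy).1, (hwperp y hy).2]
      simp
    have hPdisj : Disjoint P W'' := by
      rw [Submodule.disjoint_def]
      intro x hxP hxW
      have hxU'' := hW''U hxW
      -- `x ∈ P ⊓ U''`; write `x = s w + t g w`
      obtain ⟨s, t, rfl⟩ := (memP x).1 hxP
      -- the component in `negPlane g v`
      have hcomp : s • w + t • g w = ((s * a - t * b) • v + (s * b + t * a) • g v) +
          (s • v' + t • g v') := by
        rw [hwdef, map_add, map_add, map_smul, map_smul, hgg]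
        module
      have h1 : (s * a - t * b) • v + (s * b + t * a) • g v ∈ negPlane g v :=
        (mem_negPlane g v _).2 ⟨_, _, rfl⟩
      have h2 : (s * a - t * b) • v + (s * b + t * a) • g v ∈ U' := by
        have : (s * a - t * b) • v + (s * b + t * a) • g v =
            (s • w + t • g w) - (s • v' + t • g v') := by rw [hcomp]; abel
        rw [this]
        exact U'.sub_mem (hU''U' hxU'')
          (U'.add_mem (U'.smul_mem _ hv'U') (U'.smul_mem _ (hU'g v' hv'U')))
      have h3 := (Submodule.disjoint_def.1 hdisj) _ h1 h2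
      have h4 : s • v' + t • g v' ∈ negPlane g v' := (mem_negPlane g v' _).2 ⟨_, _, rfl⟩
      have h5 : s • v' + t • g v' ∈ U'' := by
        have : s • v' + t • g v' = s • w + t • g w := by rw [hcomp, h3, zero_add]
        rw [this]
        exact hxU''
      have h6 := (Submodule.disjoint_def.1 hdisj') _ h4 h5
      rw [hcomp, h3, h6, add_zero]
    refine ⟨P ⊔ W'', sup_le hPU (hW''U.trans (hU''U'.trans hU'U)), ?_, ?_, ?_⟩
    · intro x hx
      obtain ⟨p, hp, y, hy, rfl⟩ := Submodule.mem_sup.1 hx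
      rw [q_add, hPts p hp, hW''ts y hy, hPperp p hp y (hW''U hy)]
      simp
    · intro x hx
      obtain ⟨p, hp, y, hy, rfl⟩ := Submodule.mem_sup.1 hx
      rw [map_add]
      exact Submodule.add_mem_sup (hPg p hp) (hW''g y hy)
    · rw [Elus.finrank_sup_of_disjoint hPdisj, hPd, hW''d]
      ring

end negsq

section bad
variable {F : Type u} [Field F] [Fintype F] {ι : Type} [Fintype ι] [DecidableEq ι]

/-- the product of two commuting reflections -/
theorem bad_invol_core (h2 : (2 : F) ≠ 0) (Q : QuadraticForm F (ι → F)) (hQ : Nd Q)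
    (hn : 2 ≤ Fintype.card ι) (u v : ι → F) (hu : Q u = 1) (hv : Q v = 1)
    (huv : polar Q u v = 0) :
    ∃ g : ↥(Cfsg.isometryGroup F ⇑Q), g ∈ Cfsg.Omega F ⇑Q ∧ g ^ 2 = 1 ∧
      ∀ w, ((g : GL ι F) : Matrix ι ι F).mulVec w = w - polar Q v w • v - polar Q u w • u := by
  have hvs : ∀ w ∈ [u, v], Q w ≠ 0 := by
    intro w hw
    rcases List.mem_cons.1 hw with rfl | hw
    · rw [hu]; exact one_ne_zero
    rcases List.mem_cons.1 hw with rfl | hw
    · rw [hv]; exact one_ne_zero
    · simp at hw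
  obtain ⟨g, hgdef⟩ : ∃ g : ↥(Cfsg.isometryGroup F ⇑Q), g = ofList Q [u, v] := ⟨_, rfl⟩
  have hrep : IsRep Q g [u, v] := by
    rw [hgdef]
    exact isRep_ofList Q [u, v] hvs
  obtain ⟨M, hMdef⟩ : ∃ M : Matrix ι ι F, M = ((g : GL ι F) : Matrix ι ι F) := ⟨_, rfl⟩
  have hM : M = rprod Q [u, v] := by rw [hMdef]; exact hrep.2
  have hpvu : polar Q v u = 0 := by rw [polar_comm]; exact huv
  have hpvv : polar Q v v = 2 := by
    rw [polar_self, hv, nsmul_eq_mul, Nat.cast_ofNat, mul_one]
  have hpuu : polar Q u u = 2 := by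
    rw [polar_self, hu, nsmul_eq_mul, Nat.cast_ofNat, mul_one]
  have hact : ∀ w, M.mulVec w = w - polar Q v w • v - polar Q u w • u := by
    intro w
    rw [hM, rprod_mulVec]
    show Cfsg.Agent.Lib.Helper5.SpinClifford.refl Q u
      (Cfsg.Agent.Lib.Helper5.SpinClifford.refl Q v w) = _
    unfold Cfsg.Agent.Lib.Helper5.SpinClifford.refl
    rw [hu, hv, inv_one, one_mul, one_mul, polar_sub_right, polar_smul_right, huv, smul_zero,
      sub_zero]
  have hsq : ∀ w, M.mulVec (M.mulVec w) = w := by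
    intro w
    rw [hact (M.mulVec w), hact w]
    simp only [polar_sub_right, polar_smul_right, hpvv, hpuu, huv, hpvu, smul_eq_mul, mul_zero,
      sub_zero]
    module
  have hgg : g ^ 2 = 1 := by
    apply Subtype.ext
    apply Units.ext
    rw [Subgroup.coe_pow, Units.val_pow_eq_pow_val, Subgroup.coe_one, Units.val_one, ← hMdef,
      pow_two]
    apply Matrix.toLin'.injective
    apply LinearMap.ext
    intro w
    rw [Matrix.toLin'_mul, LinearMap.comp_apply, Matrix.toLin'_apply, Matrix.toLin'_apply,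
      Matrix.toLin'_one, LinearMap.id_apply]
    exact hsq w
  refine ⟨g, ?_, hgg, fun w => by rw [← hMdef]; exact hact w⟩
  apply (mem_Omega_iff Q (nd_bilin Q hQ)
    (fun _ => ⟨-1, neg_ne_zero.2 one_ne_zero, fun h => h2 (by linear_combination -h)⟩)
    hn g [u, v] hrep).2
  refine ⟨⟨1, rfl⟩, ?_⟩
  rw [List.map_cons, List.map_cons, List.map_nil, List.prod_cons, List.prod_cons, List.prod_nil,
    hu, hv]
  exact ⟨1, by ring⟩

/-- plus type, `q ≡ 3 (mod 4)`: an involution in `Ω` whose invariant totally singular subspaces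
have dimension at most `d - 2` -/
theorem exists_bad_invol_plus (h43 : Fintype.card F % 4 = 3) (Q : QuadraticForm F (ι → F))
    (hQ : Nd Q) (d : ℕ) (hd : 2 ≤ d) (hcard : Fintype.card ι = 2 * d) (hε : HasSign Q d 1)
    (u v : ι → F) (hu : Q u = 1) (hv : Q v = 1) (huv : polar Q u v = 0) :
    ∃ g : ↥(Cfsg.isometryGroup F ⇑Q), g ∈ Cfsg.Omega F ⇑Q ∧ g ^ 2 = 1 ∧
      (∀ z : F, ((g : GL ι F) : Matrix ι ι F) ≠ z • (1 : Matrix ι ι F)) ∧
      ∀ W : Submodule F (ι → F), (∀ w ∈ W, Q w = 0) →
        (∀ w ∈ W, Matrix.toLin' ((g : GL ι F) : Matrix ι ι F) w ∈ W) →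
        finrank F W + 2 ≤ d := by
  have hqodd : Odd (Fintype.card F) := Nat.odd_iff.2 (by omega)
  have h2 : (2 : F) ≠ 0 := Cfsg.Agent.Lib.Helper5.two_ne_zero_of_odd_card hqodd
  have hn : finrank F (ι → F) = 2 * d := by rw [Module.finrank_fintype_fun_eq_card, hcard]
  obtain ⟨g, hgΩ, hgg, hact⟩ := bad_invol_core h2 Q hQ (by rw [hcard]; omega) u v hu hv huv
  have hpvu : polar Q v u = 0 := by rw [polar_comm]; exact huv
  have hpvv : polar Q v v = 2 := by
    rw [polar_self, hv, nsmul_eq_mul, Nat.cast_ofNat, mul_one]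
  have hpuu : polar Q u u = 2 := by
    rw [polar_self, hu, nsmul_eq_mul, Nat.cast_ofNat, mul_one]
  have hQuv : ∀ a b : F, Q (a • v + b • u) = a ^ 2 + b ^ 2 := by
    intro a b
    rw [q_add, q_smul, q_smul, hu, hv, polar_smul_left, polar_smul_right, hpvu]
    simp only [smul_eq_mul]
    ring
  have hu0 : u ≠ 0 := by
    rintro rfl
    rw [map_zero] at hu
    exact zero_ne_one hu
  obtain ⟨S, hSdef⟩ : ∃ S : Submodule F (ι → F), S = Submodule.span F (Set.range ![v, u]) :=
    ⟨_, rfl⟩
  have memS : ∀ x, x ∈ S ↔ ∃ s t : F, s • v + t • u = x := by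
    intro x
    rw [hSdef, Matrix.range_cons_cons_empty, Submodule.mem_span_pair]
  have hli : LinearIndependent F ![v, u] := by
    rw [LinearIndependent.pair_iff]
    intro s t hst
    have h1 := hQuv s t
    rw [hst, map_zero] at h1
    exact sq_add_sq_eq_zero h43 h1.symm
  have hSfin : finrank F S = 2 * 1 := by
    rw [hSdef, finrank_span_eq_card hli, Fintype.card_fin]
  obtain ⟨C, hCdef⟩ : ∃ C : Submodule F (ι → F),
      C = LinearMap.ker (polarBilin Q v) ⊓ LinearMap.ker (polarBilin Q u) := ⟨_, rfl⟩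
  have memC : ∀ x, x ∈ C ↔ polar Q v x = 0 ∧ polar Q u x = 0 := by
    intro x
    rw [hCdef, Submodule.mem_inf, LinearMap.mem_ker, LinearMap.mem_ker, polarBilin_apply_apply,
      polarBilin_apply_apply]
  have hperp : Perp Q S C := by
    intro x hx y hy
    obtain ⟨s, t, rfl⟩ := (memS x).1 hx
    obtain ⟨h1, h3⟩ := (memC y).1 hy
    rw [polar_add_left, polar_smul_left, polar_smul_left, h1, h3]
    simp
  have hsup : S ⊔ C = ⊤ := by
    rw [eq_top_iff]
    intro x _
    have e : x = ((2 : F)⁻¹ * polar Q v x) • v + ((2 : F)⁻¹ * polar Q u x) • u +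
        (x - ((2 : F)⁻¹ * polar Q v x) • v - ((2 : F)⁻¹ * polar Q u x) • u) := by abel
    rw [e]
    apply Submodule.add_mem_sup
    · exact (memS _).2 ⟨_, _, rfl⟩
    · rw [memC]
      constructor
      · rw [polar_sub_right, polar_sub_right, polar_smul_right, polar_smul_right, hpvv, hpvu,
          smul_eq_mul, smul_eq_mul, mul_zero, sub_zero]
        field_simp
        ring
      · rw [polar_sub_right, polar_sub_right, polar_smul_right, polar_smul_right, hpuu, huv,
          smul_eq_mul, smul_eq_mul, mul_zero, sub_zero]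
        field_simp
        ring
  have hSnd : NdOn Q S := ndOn_of_sup hsup hperp (ndOn_top' Q hQ)
  have hCnd : NdOn Q C := ndOn_of_sup (by rw [sup_comm]; exact hsup) hperp.symm (ndOn_top' Q hQ)
  have hCfin : finrank F C = 2 * (d - 1) := by
    have h1 := finrank_sup_of_perp hperp hSnd
    rw [hsup, finrank_top, hn, hSfin] at h1
    omega
  have hsS : HasSign (res Q S) 1 (-1) := by
    apply hasSign_of_aniso_plane
    intro x hx0 hQx
    apply hx0
    obtain ⟨s, t, hst⟩ := (memS x.1).1 x.2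
    have h1 : Q (x : ι → F) = 0 := hQx
    rw [← hst, hQuv] at h1
    obtain ⟨rfl, rfl⟩ := sq_add_sq_eq_zero h43 h1
    apply Subtype.ext
    rw [← hst]
    simp
  have htop : HasSign (res Q (S ⊔ C)) (1 + (d - 1)) 1 := by
    rw [hsup, show 1 + (d - 1) = d by omega]
    exact (hasSign_top_iff' Q d 1).2 hε
  have hsC := hasSign_of_sup hperp hSnd hCnd 1 (d - 1) hSfin hCfin (-1) 1 hsS htop
  have hsC' : HasSign (res Q C) (d - 1) (-1) := by
    have e : (-1 : ℤ) * 1 = -1 := by norm_num
    rw [e] at hsC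
    exact hsC
  refine ⟨g, hgΩ, hgg, ?_, ?_⟩
  · intro z hz
    have h3 := hact u
    rw [hz, Matrix.smul_mulVec, Matrix.one_mulVec, hpvu, hpuu, zero_smul, sub_zero] at h3
    have hz1 : z = -1 := by
      have h4 : (z + 1) • u = 0 := by
        rw [add_smul, h3]
        module
      rcases smul_eq_zero.1 h4 with h | h
      · exact eq_neg_of_add_eq_zero_left h
      · exact absurd h hu0
    have hCpos : 0 < finrank F C := by rw [hCfin]; omega
    obtain ⟨w', hw'⟩ := (finrank_pos_iff_exists_ne_zero).1 hCpos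
    have h5 := hact (w' : ι → F)
    rw [hz, Matrix.smul_mulVec, Matrix.one_mulVec, ((memC _).1 w'.2).1, ((memC _).1 w'.2).2,
      hz1, zero_smul, zero_smul, sub_zero, sub_zero] at h5
    have h6 : (2 : F) • (w' : ι → F) = 0 := by
      rw [two_smul]
      nth_rewrite 1 [← h5]
      rw [neg_smul, one_smul, neg_add_cancel]
    apply hw'
    apply Subtype.ext
    exact (smul_eq_zero.1 h6).resolve_left h2
  · intro W hts hinv
    have hWC : W ≤ C := by
      intro w hw
      rw [memC]
      have h1 := hinv w hw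
      rw [Matrix.toLin'_apply, hact w] at h1
      have h3 : polar Q v w • v + polar Q u w • u ∈ W := by
        have h4 := W.sub_mem hw h1
        have e : w - (w - polar Q v w • v - polar Q u w • u) =
            polar Q v w • v + polar Q u w • u := by abel
        rw [e] at h4
        exact h4
      have h5 := hts _ h3
      rw [hQuv] at h5
      exact sq_add_sq_eq_zero h43 h5
    have := ts_lt_of_minus Q C hCnd (d - 1) hCfin hsC' W hWC hts
    omega

/-- **the case `r = 2`** for totally singular subspaces of an even-dimensional space -/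
theorem ts_main_two {q : ℕ} (hq : Fintype.card F = q) (hqodd : Odd q)
    (Q : QuadraticForm F (ι → F)) (hQ : Nd Q) (d m : ℕ) (hcard : Fintype.card ι = 2 * d)
    (hd : 2 ≤ d) (hm : 1 ≤ m) (hmd : m + 1 ≤ d) (ε : ℤ) (hε : HasSign Q d ε) (plus : Prop)
    (hplus : (plus → ε = 1) ∧ (¬ plus → ε = -1))
    (huv : plus → ∃ u v : ι → F, Q u = 1 ∧ Q v = 1 ∧ polar Q u v = 0) :
    (∀ x : GL ι F, x ∈ Cfsg.Geo.omegaGL ⇑Q →
      (∃ z : F, ((x ^ 2 : GL ι F) : Matrix ι ι F) = z • (1 : Matrix ι ι F)) →
      (∀ z : F, (x : Matrix ι ι F) ≠ z • (1 : Matrix ι ι F)) →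
      ∃ W : Submodule F (ι → F), finrank F W = m ∧ (∀ w ∈ W, Q w = 0) ∧
        W.map (Matrix.toLin' (x : Matrix ι ι F)) ≤ W) ↔
    ((plus → (q % 4 = 1 ∨ (q % 4 = 3 ∧ m + 2 ≤ d ∧ (Even m ∨ ¬ Even d)))) ∧
      (¬ plus → (Even d ∨ Even m ∨ q % 8 ≠ 7))) := by
  subst hq
  have h2 : (2 : F) ≠ 0 := Cfsg.Agent.Lib.Helper5.two_ne_zero_of_odd_card hqodd
  have hq2 := Nat.odd_iff.1 hqodd
  have hn : finrank F (ι → F) = 2 * d := by rw [Module.finrank_fintype_fun_eq_card, hcard]
  have : Nonempty ι := by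
    rw [← Fintype.card_pos_iff, hcard]
    omega
  have hmem : ∀ x : GL ι F, x ∈ Cfsg.Geo.omegaGL ⇑Q → x ∈ Cfsg.isometryGroup F ⇑Q := by
    rintro x ⟨y, -, rfl⟩
    exact y.2
  have homega : ∀ x : GL ι F, x ∈ Cfsg.Geo.omegaGL ⇑Q →
      ∃ y : ↥(Cfsg.isometryGroup F ⇑Q), y ∈ Cfsg.Omega F ⇑Q ∧ (y : GL ι F) = x := by
    rintro x ⟨y, hy, rfl⟩
    exact ⟨y, hy, rfl⟩
  constructor
  · intro H
    -- an element squaring to `-1` forces `m` to be even when `q ≡ 3 (mod 4)`
    have hJ : (∃ g : ↥(Cfsg.isometryGroup F ⇑Q), g ∈ Cfsg.Omega F ⇑Q ∧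
        ((g : GL ι F) : Matrix ι ι F) * ((g : GL ι F) : Matrix ι ι F) = -1) →
        Fintype.card F % 4 = 3 → Even m := by
      rintro ⟨g, hgΩ, hgg⟩ h43
      have hxΩ : (g : GL ι F) ∈ Cfsg.Geo.omegaGL ⇑Q := ⟨g, hgΩ, rfl⟩
      have hns : ∀ z : F, ((g : GL ι F) : Matrix ι ι F) ≠ z • (1 : Matrix ι ι F) := by
        intro z hz
        have hz2 := sq_eq_one_of_scalar Q hQ _ g.2 z hz
        rw [hz, Matrix.smul_mul, Matrix.one_mul, smul_smul] at hgg
        obtain ⟨j⟩ := ‹Nonempty ι›
        have h5 := congrFun (congrFun hgg j) j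
        rw [Matrix.smul_apply, Matrix.one_apply_eq, Matrix.neg_apply, Matrix.one_apply_eq,
          smul_eq_mul, mul_one, ← pow_two, hz2] at h5
        exact h2 (by linear_combination h5)
      have hxr : ∃ z : F, (((g : GL ι F) ^ 2 : GL ι F) : Matrix ι ι F) =
          z • (1 : Matrix ι ι F) := by
        refine ⟨-1, ?_⟩
        rw [Units.val_pow_eq_pow_val, pow_two, hgg, neg_smul, one_smul]
      obtain ⟨W, hWd, hWts, hWinv⟩ := H _ hxΩ hxr hns
      have hgg' : ∀ v, Matrix.toLin' ((g : GL ι F) : Matrix ι ι F)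
          (Matrix.toLin' ((g : GL ι F) : Matrix ι ι F) v) = -v := by
        intro v
        rw [Matrix.toLin'_apply, Matrix.toLin'_apply, Matrix.mulVec_mulVec, hgg,
          Matrix.neg_mulVec, Matrix.one_mulVec]
      have := even_finrank_of_negsq h43 _ hgg' W (fun w hw => hWinv ⟨w, hw, rfl⟩)
      rwa [hWd] at this
    constructor
    · intro hpl
      by_cases h41 : Fintype.card F % 4 = 1
      · exact Or.inl h41
      have h43 : Fintype.card F % 4 = 3 := by omega
      right
      refine ⟨h43, ?_, ?_⟩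
      · obtain ⟨u, v, hu, hv, huv'⟩ := huv hpl
        have hε1 : HasSign Q d 1 := by
          rw [← hplus.1 hpl]
          exact hε
        obtain ⟨g, hgΩ, hgg, hns, hbad⟩ :=
          exists_bad_invol_plus h43 Q hQ d hd hcard hε1 u v hu hv huv'
        have hxΩ : (g : GL ι F) ∈ Cfsg.Geo.omegaGL ⇑Q := ⟨g, hgΩ, rfl⟩
        have hxr : ∃ z : F, (((g : GL ι F) ^ 2 : GL ι F) : Matrix ι ι F) =
            z • (1 : Matrix ι ι F) := by
          refine ⟨1, ?_⟩
          rw [← Subgroup.coe_pow, hgg, Subgroup.coe_one, Units.val_one, one_smul]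
        obtain ⟨W, hWd, hWts, hWinv⟩ := H _ hxΩ hxr hns
        have := hbad W hWts (fun w hw => hWinv ⟨w, hw, rfl⟩)
        omega
      · by_contra hcon
        push Not at hcon
        obtain ⟨hmo, hde⟩ := hcon
        apply hmo
        apply hJ _ h43
        apply (exists_neg_sq_iff hqodd Q hQ d (by omega) hcard ε hε).2
        rw [hplus.1 hpl]
        apply (plus_two_iff hqodd d).2
        rintro ⟨ho, -⟩
        exact (Nat.not_even_iff_odd.2 ho) hde
    · intro hpl
      by_contra hcon
      push Not at hcon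
      obtain ⟨hdo, hmo, h87⟩ := hcon
      apply hmo
      apply hJ _ (by omega)
      apply (exists_neg_sq_iff hqodd Q hQ d (by omega) hcard ε hε).2
      rw [hplus.2 hpl]
      apply (minus_two_iff hqodd d).2
      rintro (h | h)
      · exact hdo h
      · exact h h87
  · rintro ⟨Hp, Hm⟩ x hxΩ ⟨z, hz⟩ hns
    obtain ⟨g, gi, hgdef, hiso, gi_g, g_gi, hpow⟩ := exists_lin_data Q x (hmem x hxΩ)
    obtain ⟨y, hyΩ, hyx⟩ := homega x hxΩ
    rw [← hgdef]
    have hz2 : z ^ 2 = 1 :=
      sq_eq_one_of_scalar Q hQ (x ^ 2) (Subgroup.pow_mem _ (hmem x hxΩ) 2) z hz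
    have hzz : z * z = 1 := by rw [← pow_two]; exact hz2
    have hgr : g ^ 2 = z • (1 : Module.End F (ι → F)) := by
      have h1 : Matrix.toLin' ((x : Matrix ι ι F) ^ 2) =
          Matrix.toLin' (x : Matrix ι ι F) ^ 2 :=
        map_pow (Matrix.toLinAlgEquiv' (R := F) (n := ι)) _ 2
      rw [hgdef, ← h1, ← Units.val_pow_eq_pow_val, hz, map_smul, Matrix.toLin'_one]
      rfl
    have hz' : (z - 1) * (z + 1) = 0 := by linear_combination hzz
    have key : ∃ W : Submodule F (ι → F), finrank F W = m ∧ (∀ w ∈ W, Q w = 0) ∧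
        ∀ w ∈ W, g w ∈ W := by
      rcases mul_eq_zero.1 hz' with h | h
      · have hz1 : z = 1 := sub_eq_zero.1 h
        have hgg : ∀ v, g (g v) = v := by
          intro v
          have := congrArg (fun f => f v) hgr
          rwa [pow_two, hz1, one_smul] at this
        apply invol_suff_even hqodd Q hQ d m hcard (by omega) hmd ε hε plus hplus ?_ y hyΩ g
          (by rw [hgdef, ← hyx]) hiso hgg
        intro hpl h43
        rcases Hp hpl with h | ⟨-, h, -⟩
        · omega
        · exact h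
      · have hz1 : z = -1 := eq_neg_of_add_eq_zero_left h
        have hgg : ∀ v, g (g v) = -v := by
          intro v
          have := congrArg (fun f => f v) hgr
          rw [pow_two, hz1] at this
          simpa using this
        by_cases h41 : Fintype.card F % 4 = 1
        · exact negsq_ts_one h41 Q g hiso hgg d m hn (by omega)
        have h43 : Fintype.card F % 4 = 3 := by omega
        have hyy : ((y : GL ι F) : Matrix ι ι F) * ((y : GL ι F) : Matrix ι ι F) = -1 := by
          rw [hyx]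
          rw [Units.val_pow_eq_pow_val, pow_two, hz1, neg_smul, one_smul] at hz
          exact hz
        have hex := (exists_neg_sq_iff hqodd Q hQ d (by omega) hcard ε hε).1 ⟨y, hyΩ, hyy⟩
        have hme : Even m := by
          by_cases hpl : plus
          · rw [hplus.1 hpl] at hex
            have h5 := (plus_two_iff hqodd d).1 hex
            rcases Hp hpl with h | ⟨-, -, h | h⟩
            · omega
            · exact h
            · exfalso
              apply h5
              exact ⟨Nat.not_even_iff_odd.1 h, by omega⟩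
          · rw [hplus.2 hpl] at hex
            have h5 := (minus_two_iff hqodd d).1 hex
            rcases Hm hpl with h | h | h
            · exact absurd (Or.inl h) h5
            · exact h
            · exact absurd (Or.inr h) h5
        obtain ⟨j, hj⟩ := hme
        obtain ⟨W, -, hWts, hWg, hWd⟩ := negsq_ts_three h43 Q g hiso hgg j ⊤
          (fun _ _ => Submodule.mem_top) (ndOn_top' Q hQ) (by rw [finrank_top, hn]; omega)
        exact ⟨W, by omega, hWts, hWg⟩
    obtain ⟨W, hWd, hWts, hWg⟩ := key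
    refine ⟨W, hWd, hWts, ?_⟩
    rintro _ ⟨w, hw, rfl⟩
    exact hWg w hw

end bad

end Cfsg.Agent.Lib.Helper9.BG
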