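import Mathlib
import Cfsg.Prelude
import Cfsg.Agent.Lib.Helper5.ONd.PlusEll
import Cfsg.Agent.Lib.Helper9.BGl

set_option autoImplicit false
set_option linter.unusedSectionVars false
set_option linter.unusedVariables false
set_option linter.style.longLine false
set_option linter.unusedSimpArgs false
open Cfsg

set_option maxHeartbeats 1600000
namespace Cfsg.Agent.Lib.Helper9.BG

universe u

open QuadraticMap Module
open Cfsg.Agent.Lib.Helper5.QuadTwo Cfsg.Agent.Lib.Helper5.QuadSign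
open Cfsg.Agent.Lib.Helper5.OrthPrime Cfsg.Agent.Lib.Helper5.OElus
open Cfsg.Agent.Lib.Helper5.OParab Cfsg.Agent.Lib.Helper5.ONd
open Cfsg.Agent.Lib.Helper5.NsPt Cfsg.Agent.Lib.Helper2

section plus
variable {F : Type u} [Field F] [Fintype F]

theorem plus_uv (d : ℕ) (hd : 2 ≤ d) :
    ∃ u v : Fin d ⊕ Fin d → F, qPlus (F := F) d u = 1 ∧ qPlus (F := F) d v = 1 ∧
      polar (qPlus (F := F) d) u v = 0 := by
  obtain ⟨j0, hj0⟩ : ∃ j0 : Fin d, j0 = ⟨0, by omega⟩ := ⟨_, rfl⟩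
  obtain ⟨j1, hj1⟩ : ∃ j1 : Fin d, j1 = ⟨1, by omega⟩ := ⟨_, rfl⟩
  have h01 : j0 ≠ j1 := by
    rw [hj0, hj1]
    intro h
    have := congrArg Fin.val h
    simp at this
  refine ⟨Pi.single (Sum.inl j0) 1 + Pi.single (Sum.inr j0) 1,
    Pi.single (Sum.inl j1) 1 + Pi.single (Sum.inr j1) 1, ?_, ?_, ?_⟩
  · rw [qPlus_apply]
    simp [Pi.single_apply]
  · rw [qPlus_apply]
    simp [Pi.single_apply]
  · rw [polar_qPlus]
    apply Finset.sum_eq_zero
    intro k _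
    simp only [Pi.add_apply, Pi.single_apply, Sum.inl.injEq, Sum.inr.injEq, reduceCtorEq,
      if_false, add_zero, zero_add]
    by_cases hk0 : k = j0
    · have hk1 : ¬ k = j1 := fun h => h01 (hk0.symm.trans h)
      simp [hk1]
    · simp [hk0]

set_option maxHeartbeats 1600000 in
/-- **S5973** -/
theorem ts_plus_main {p : ℕ} [hp : Fact p.Prime] [CharP F p] {q : ℕ}
    (hq : Fintype.card F = q)
    (d m : ℕ) (hd : 4 ≤ d) (hm : 1 ≤ m) (hmd : m < d)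
    (r : ℕ) [hr : Fact r.Prime]
    (hrΩ : r ∣ Nat.card {W : Submodule F (Fin d ⊕ Fin d → F) // Module.finrank F ↥W = m ∧ (∀ w ∈ W, Cfsg.quadFormPlus d F w = 0)})
    (i c : ℕ) (hi : i = orderOf (q : ZMod r)) (hc : c = if Even i then i else 2 * i) :
    (∀ x : GL (Fin d ⊕ Fin d) F, x ∈ Cfsg.Geo.omegaGL (Cfsg.quadFormPlus d F) →
      (∃ z : F, ((x ^ r : GL (Fin d ⊕ Fin d) F) : Matrix (Fin d ⊕ Fin d) (Fin d ⊕ Fin d) F) = z • (1 : Matrix (Fin d ⊕ Fin d) (Fin d ⊕ Fin d) F)) →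
      (∀ z : F, (x : Matrix (Fin d ⊕ Fin d) (Fin d ⊕ Fin d) F) ≠ z • (1 : Matrix (Fin d ⊕ Fin d) (Fin d ⊕ Fin d) F)) →
      ∃ W : Submodule F (Fin d ⊕ Fin d → F), Module.finrank F ↥W = m ∧ (∀ w ∈ W, Cfsg.quadFormPlus d F w = 0) ∧
        W.map (Matrix.toLin' (x : Matrix (Fin d ⊕ Fin d) (Fin d ⊕ Fin d) F)) ≤ W) ↔
    ((r = 2 ∧ p ≠ 2 ∧ (q % 4 = 1 ∨ (q % 4 = 3 ∧ m + 2 ≤ d ∧ (Even m ∨ (2 * d) % 4 = 2)))) ∨
     (r ≠ p ∧ 2 < r ∧ Odd i ∧ i ≤ m ∧ 2 * (m % i) ≤ (2 * d) % c) ∨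
     (r ≠ p ∧ 2 < r ∧ Even i ∧ i ≤ m ∧ (r - 1) / i + 2 * (m / i) ≤ (2 * d) / i ∧
       ((2 * (m % i) ≤ i ∧ (2 * d) % c = 0 ∧ Odd ((2 * d) / i) ∧ (r - 1) / i + 2 * (m / i) < (2 * d) / i) ∨
        (2 * (m % i) ≤ (2 * d) % c ∧ Even ((2 * d) / i)) ∨
        (2 * (m % i) < (2 * d) % c ∧ Odd ((2 * d) / i))))) := by
  subst hq
  have hcard : Fintype.card (Fin d ⊕ Fin d) = 2 * d := by
    rw [Fintype.card_sum, Fintype.card_fin]
    ring
  have hn : finrank F (Fin d ⊕ Fin d → F) = 2 * d := finrank_plus d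
  have hcoe : ⇑(qPlus (F := F) d) = Cfsg.quadFormPlus d F := qPlus_coe d
  rw [← hcoe] at hrΩ ⊢
  have hQ := nd_qPlus (F := F) d
  have hε := hasSign_qPlus (F := F) d
  have hmd' : m + 1 ≤ d := hmd
  have hrΩ' : r ∣ Nat.card {W : Submodule F (Fin d ⊕ Fin d → F) //
      finrank F W = m ∧ TS (qPlus (F := F) d) W} := hrΩ
  have hrp : r ≠ p := by
    rintro rfl
    exact char_not_dvd_plus (qPlus (F := F) d) hQ d m hn hmd' hε hrΩ'
  have hplus : (True → (1 : ℤ) = 1) ∧ (¬ True → (1 : ℤ) = -1) :=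
    ⟨fun _ => rfl, fun h => absurd trivial h⟩
  by_cases hr2 : r = 2
  · subst hr2
    have hp2 : p ≠ 2 := fun h => hrp h.symm
    have hqodd : Odd (Fintype.card F) := by
      obtain ⟨n, -, hn'⟩ := FiniteField.card F p
      rw [hn']
      exact (hp.out.odd_of_ne_two hp2).pow
    have main := ts_main_two rfl hqodd (qPlus (F := F) d) hQ d m hcard (by omega) hm hmd' 1 hε
      True hplus (fun _ => plus_uv d (by omega))
    rw [main]
    constructor
    · rintro ⟨h, -⟩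
      left
      refine ⟨rfl, hp2, ?_⟩
      rcases h trivial with h | ⟨h1, h2, h3⟩
      · exact Or.inl h
      · right
        refine ⟨h1, h2, ?_⟩
        rcases h3 with h3 | h3
        · exact Or.inl h3
        · right
          rw [Nat.even_iff] at h3
          omega
    · rintro (⟨-, -, h⟩ | ⟨-, h, -⟩ | ⟨-, h, -⟩)
      · refine ⟨fun _ => ?_, fun h => absurd trivial h⟩
        rcases h with h | ⟨h1, h2, h3⟩
        · exact Or.inl h
        · right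
          refine ⟨h1, h2, ?_⟩
          rcases h3 with h3 | h3
          · exact Or.inl h3
          · right
            rw [Nat.even_iff]
            omega
      · omega
      · omega
  · have h2r : 2 < r := lt_of_le_of_ne hr.out.two_le (Ne.symm hr2)
    obtain ⟨b₀, hb₀, hweak⟩ := hweak_plus (qPlus (F := F) d) hQ d m hn hmd' hε r hr2 hrΩ' i hi
    obtain ⟨h2ex, h2no, hfpfex, hmax⟩ := plus_hyps (F := F) (p := p) d (by omega) r i c hi hc
    have hmax' : ¬ Even i → c ≤ 2 * d → (True ∨ 0 < (2 * d) % c) →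
        ∃ g : ↥(Cfsg.isometryGroup F ⇑(qPlus (F := F) d)), g ^ r = 1 ∧ g ≠ 1 ∧
          g ∈ Cfsg.Omega F ⇑(qPlus (F := F) d) ∧
          finrank F (LinearMap.ker (Matrix.toLin' ((g : GL (Fin d ⊕ Fin d) F) :
            Matrix (Fin d ⊕ Fin d) (Fin d ⊕ Fin d) F) - 1)) = (2 * d) % c := by
      intro hodd hcn _
      rcases Nat.eq_zero_or_pos ((2 * d) % c) with hk₀ | hk₀
      · obtain ⟨g, hgr, hgΩ, hfpf⟩ := hfpfex hr2 hrp hk₀ (tau_of_odd hodd _)
        refine ⟨g, hgr, ?_, hgΩ, ?_⟩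
        · intro h1
          have : Nonempty (Fin d ⊕ Fin d) := ⟨Sum.inl ⟨0, by omega⟩⟩
          have : Nontrivial (Fin d ⊕ Fin d → F) := Function.nontrivial
          obtain ⟨v, hv⟩ := exists_ne (0 : Fin d ⊕ Fin d → F)
          apply hv
          apply hfpf v
          rw [h1]
          simp
        · rw [hk₀, Submodule.finrank_eq_zero, eq_bot_iff]
          intro v hv
          rw [LinearMap.mem_ker, LinearMap.sub_apply, Module.End.one_apply, sub_eq_zero] at hv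
          rw [Submodule.mem_bot]
          exact hfpf v hv
      · exact hmax hr2 hrp hcn hk₀
    have main := ts_main_odd (p := p) rfl (qPlus (F := F) d) hQ d m hcard hm hmd' 1 hε True hplus
      r hr2 hrp i c hi hc ⟨b₀, hb₀, fun _ => hweak, fun h => absurd trivial h⟩ hmax'
    rw [main]
    unfold ROdd REven
    constructor
    · rintro (⟨hodd, h1, h2, -⟩ | ⟨hev, h1, h2, h3⟩)
      · right; left
        exact ⟨hrp, h2r, Nat.not_even_iff_odd.1 hodd, h1, h2 trivial⟩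
      · right; right
        have hci : c = i := by rw [hc, if_pos hev]
        rw [hci]
        refine ⟨hrp, h2r, hev, h1, h2, ?_⟩
        rcases h3 with ⟨a1, a2, a3, a4⟩ | ⟨a1, a2⟩ | ⟨a1, a2⟩
        · left
          exact ⟨a1, a2, Nat.not_even_iff_odd.1 (fun h => a3 ⟨fun _ => h, fun _ => trivial⟩), a4⟩
        · right; left
          exact ⟨a1, a2.1 trivial⟩
        · right; right
          exact ⟨a1, Nat.not_even_iff_odd.1 (fun h => a2 ⟨fun _ => h, fun _ => trivial⟩)⟩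
    · rintro (⟨h, -⟩ | ⟨-, -, hodd, h1, h2⟩ | ⟨-, -, hev, h1, h2, h3⟩)
      · exact absurd h hr2
      · left
        exact ⟨Nat.not_even_iff_odd.2 hodd, h1, fun _ => h2, fun h => absurd trivial h⟩
      · right
        have hci : c = i := by rw [hc, if_pos hev]
        rw [hci] at h3
        refine ⟨hev, h1, h2, ?_⟩
        rcases h3 with ⟨a1, a2, a3, a4⟩ | ⟨a1, a2⟩ | ⟨a1, a2⟩
        · left
          exact ⟨a1, a2, fun h => (Nat.not_even_iff_odd.2 a3) (h.1 trivial), a4⟩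
        · right; left
          exact ⟨a1, fun _ => a2, fun _ => trivial⟩
        · right; right
          exact ⟨a1, fun h => (Nat.not_even_iff_odd.2 a2) (h.1 trivial)⟩

end plus

section minus
variable {F : Type u} [Field F] [Fintype F]

set_option maxHeartbeats 1600000 in
/-- **S5987**, with `d = d' + 1` -/
theorem ts_minus_main {p : ℕ} [hp : Fact p.Prime] [CharP F p] {q : ℕ}
    (hq : Fintype.card F = q)
    (d' m : ℕ) (hd : 3 ≤ d') (hm : 1 ≤ m) (hmd : m ≤ d') (a b : F)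
    (hab : ∀ x y : F, x ^ 2 + a * x * y + b * y ^ 2 = 0 → x = 0 ∧ y = 0)
    (r : ℕ) [hr : Fact r.Prime]
    (hrΩ : r ∣ Nat.card {W : Submodule F ((Fin d' ⊕ Fin d') ⊕ Fin 2 → F) // Module.finrank F ↥W = m ∧ Cfsg.Geo.IsTotallySingularQuad (Cfsg.quadFormMinus d' F a b) W})
    (i c : ℕ) (hi : i = orderOf (q : ZMod r)) (hc : c = if Even i then i else 2 * i) :
    (∀ x : GL ((Fin d' ⊕ Fin d') ⊕ Fin 2) F, x ∈ Cfsg.Geo.omegaGL (Cfsg.quadFormMinus d' F a b) →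
      (∃ z : F, ((x ^ r : GL ((Fin d' ⊕ Fin d') ⊕ Fin 2) F) : Matrix ((Fin d' ⊕ Fin d') ⊕ Fin 2) ((Fin d' ⊕ Fin d') ⊕ Fin 2) F) = z • (1 : Matrix ((Fin d' ⊕ Fin d') ⊕ Fin 2) ((Fin d' ⊕ Fin d') ⊕ Fin 2) F)) →
      (∀ z : F, (x : Matrix ((Fin d' ⊕ Fin d') ⊕ Fin 2) ((Fin d' ⊕ Fin d') ⊕ Fin 2) F) ≠ z • (1 : Matrix ((Fin d' ⊕ Fin d') ⊕ Fin 2) ((Fin d' ⊕ Fin d') ⊕ Fin 2) F)) →
      ∃ W : Submodule F ((Fin d' ⊕ Fin d') ⊕ Fin 2 → F), (Module.finrank F ↥W = m ∧ Cfsg.Geo.IsTotallySingularQuad (Cfsg.quadFormMinus d' F a b) W) ∧ W.map (Matrix.toLin' (x : Matrix ((Fin d' ⊕ Fin d') ⊕ Fin 2) ((Fin d' ⊕ Fin d') ⊕ Fin 2) F)) ≤ W) ↔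
    ((r = 2 ∧ p ≠ 2 ∧ (Even (d' + 1) ∨ Even m ∨ q % 8 ≠ 7)) ∨
     (r ≠ p ∧ 2 < r ∧ Odd i ∧ i ≤ m ∧ ((2 * (d' + 1)) % c = 0 ∨ 2 * (m % i) < (2 * (d' + 1)) % c)) ∨
     (r ≠ p ∧ 2 < r ∧ Even i ∧ i ≤ m ∧ (r - 1) / i + 2 * (m / i) ≤ (2 * (d' + 1)) / i ∧
       ((2 * (m % i) ≤ i ∧ (2 * (d' + 1)) % c = 0 ∧ Even ((2 * (d' + 1)) / i) ∧ (r - 1) / i + 2 * (m / i) < (2 * (d' + 1)) / i) ∨
        (2 * (m % i) ≤ (2 * (d' + 1)) % c ∧ Odd ((2 * (d' + 1)) / i)) ∨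
        (2 * (m % i) < (2 * (d' + 1)) % c ∧ Even ((2 * (d' + 1)) / i))))) := by
  subst hq
  have hcard : Fintype.card ((Fin d' ⊕ Fin d') ⊕ Fin 2) = 2 * (d' + 1) := by
    rw [Fintype.card_sum, Fintype.card_sum, Fintype.card_fin, Fintype.card_fin]
    ring
  have hn : finrank F ((Fin d' ⊕ Fin d') ⊕ Fin 2 → F) = 2 * (d' + 1) := finrank_minus d'
  have hcoe : ⇑(qMinus (F := F) d' a b) = Cfsg.quadFormMinus d' F a b := rfl
  rw [← hcoe] at hrΩ ⊢
  have hQ := nd_qMinus (F := F) d' hab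
  have hε := hasSign_qMinus (F := F) d' hab
  have hmd' : m + 1 ≤ d' + 1 := by omega
  have hrΩ' : r ∣ Nat.card {W : Submodule F ((Fin d' ⊕ Fin d') ⊕ Fin 2 → F) //
      finrank F W = m ∧ TS (qMinus (F := F) d' a b) W} := hrΩ
  have hrp : r ≠ p := by
    rintro rfl
    exact char_not_dvd_minus (qMinus (F := F) d' a b) hQ (d' + 1) m hn hmd' hε hrΩ'
  have hplus : (False → (-1 : ℤ) = 1) ∧ (¬ False → (-1 : ℤ) = -1) :=
    ⟨fun h => h.elim, fun _ => rfl⟩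
  -- the statement with the generic shape of the invariant subspace
  have key : (∀ x : GL ((Fin d' ⊕ Fin d') ⊕ Fin 2) F,
      x ∈ Cfsg.Geo.omegaGL ⇑(qMinus (F := F) d' a b) →
      (∃ z : F, ((x ^ r : GL ((Fin d' ⊕ Fin d') ⊕ Fin 2) F) :
        Matrix ((Fin d' ⊕ Fin d') ⊕ Fin 2) ((Fin d' ⊕ Fin d') ⊕ Fin 2) F) =
        z • (1 : Matrix ((Fin d' ⊕ Fin d') ⊕ Fin 2) ((Fin d' ⊕ Fin d') ⊕ Fin 2) F)) →
      (∀ z : F, (x : Matrix ((Fin d' ⊕ Fin d') ⊕ Fin 2) ((Fin d' ⊕ Fin d') ⊕ Fin 2) F) ≠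
        z • (1 : Matrix ((Fin d' ⊕ Fin d') ⊕ Fin 2) ((Fin d' ⊕ Fin d') ⊕ Fin 2) F)) →
      ∃ W : Submodule F ((Fin d' ⊕ Fin d') ⊕ Fin 2 → F), finrank F W = m ∧
        (∀ w ∈ W, qMinus (F := F) d' a b w = 0) ∧
        W.map (Matrix.toLin' (x : Matrix ((Fin d' ⊕ Fin d') ⊕ Fin 2)
          ((Fin d' ⊕ Fin d') ⊕ Fin 2) F)) ≤ W) ↔
    ((r = 2 ∧ p ≠ 2 ∧ (Even (d' + 1) ∨ Even m ∨ Fintype.card F % 8 ≠ 7)) ∨
     (r ≠ p ∧ 2 < r ∧ Odd i ∧ i ≤ m ∧ ((2 * (d' + 1)) % c = 0 ∨ 2 * (m % i) < (2 * (d' + 1)) % c)) ∨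
     (r ≠ p ∧ 2 < r ∧ Even i ∧ i ≤ m ∧ (r - 1) / i + 2 * (m / i) ≤ (2 * (d' + 1)) / i ∧
       ((2 * (m % i) ≤ i ∧ (2 * (d' + 1)) % c = 0 ∧ Even ((2 * (d' + 1)) / i) ∧ (r - 1) / i + 2 * (m / i) < (2 * (d' + 1)) / i) ∨
        (2 * (m % i) ≤ (2 * (d' + 1)) % c ∧ Odd ((2 * (d' + 1)) / i)) ∨
        (2 * (m % i) < (2 * (d' + 1)) % c ∧ Even ((2 * (d' + 1)) / i))))) := by
    by_cases hr2 : r = 2
    · subst hr2
      have hp2 : p ≠ 2 := fun h => hrp h.symm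
      have hqodd : Odd (Fintype.card F) := by
        obtain ⟨n, -, hn'⟩ := FiniteField.card F p
        rw [hn']
        exact (hp.out.odd_of_ne_two hp2).pow
      have main := ts_main_two rfl hqodd (qMinus (F := F) d' a b) hQ (d' + 1) m hcard (by omega)
        hm hmd' (-1) hε False hplus (fun h => h.elim)
      rw [main]
      constructor
      · rintro ⟨-, h⟩
        left
        exact ⟨rfl, hp2, h not_false⟩
      · rintro (⟨-, -, h⟩ | ⟨-, h, -⟩ | ⟨-, h, -⟩)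
        · exact ⟨fun h => h.elim, fun _ => h⟩
        · omega
        · omega
    · have h2r : 2 < r := lt_of_le_of_ne hr.out.two_le (Ne.symm hr2)
      obtain ⟨b₀, hb₀, hweak⟩ := hweak_minus (qMinus (F := F) d' a b) hQ (d' + 1) m hn hmd' hε r
        hr2 hrΩ' i hi
      have hmax' : ¬ Even i → c ≤ 2 * (d' + 1) → (False ∨ 0 < (2 * (d' + 1)) % c) →
          ∃ g : ↥(Cfsg.isometryGroup F ⇑(qMinus (F := F) d' a b)), g ^ r = 1 ∧ g ≠ 1 ∧
            g ∈ Cfsg.Omega F ⇑(qMinus (F := F) d' a b) ∧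
            finrank F (LinearMap.ker (Matrix.toLin' ((g : GL ((Fin d' ⊕ Fin d') ⊕ Fin 2) F) :
              Matrix ((Fin d' ⊕ Fin d') ⊕ Fin 2) ((Fin d' ⊕ Fin d') ⊕ Fin 2) F) - 1)) =
              (2 * (d' + 1)) % c := by
        intro hodd hcn h
        rcases h with h | h
        · exact h.elim
        · exact exists_max_minus_all p rfl d' a b hab r hr2 hrp i c hi hc hcn h
      have main := ts_main_odd (p := p) rfl (qMinus (F := F) d' a b) hQ (d' + 1) m hcard hm hmd'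
        (-1) hε False hplus r hr2 hrp i c hi hc
        ⟨b₀, hb₀, fun h => h.elim, fun _ => hweak⟩ hmax'
      rw [main]
      unfold ROdd REven
      constructor
      · rintro (⟨hodd, h1, -, h2⟩ | ⟨hev, h1, h2, h3⟩)
        · right; left
          exact ⟨hrp, h2r, Nat.not_even_iff_odd.1 hodd, h1, h2 not_false⟩
        · right; right
          have hci : c = i := by rw [hc, if_pos hev]
          rw [hci]
          refine ⟨hrp, h2r, hev, h1, h2, ?_⟩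
          rcases h3 with ⟨a1, a2, a3, a4⟩ | ⟨a1, a2⟩ | ⟨a1, a2⟩
          · left
            refine ⟨a1, a2, ?_, a4⟩
            by_contra hne
            exact a3 ⟨fun h => h.elim, fun h => absurd h hne⟩
          · right; left
            exact ⟨a1, Nat.not_even_iff_odd.1 (fun h => a2.2 h)⟩
          · right; right
            refine ⟨a1, ?_⟩
            by_contra hne
            exact a2 ⟨fun h => h.elim, fun h => absurd h hne⟩
      · rintro (⟨h, -⟩ | ⟨-, -, hodd, h1, h2⟩ | ⟨-, -, hev, h1, h2, h3⟩)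
        · exact absurd h hr2
        · left
          exact ⟨Nat.not_even_iff_odd.2 hodd, h1, fun h => h.elim, fun _ => h2⟩
        · right
          have hci : c = i := by rw [hc, if_pos hev]
          rw [hci] at h3
          refine ⟨hev, h1, h2, ?_⟩
          rcases h3 with ⟨a1, a2, a3, a4⟩ | ⟨a1, a2⟩ | ⟨a1, a2⟩
          · left
            exact ⟨a1, a2, fun h => h.2 a3, a4⟩
          · right; left
            exact ⟨a1, fun h => h.elim, fun h => absurd h (Nat.not_even_iff_odd.2 a2)⟩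
          · right; right
            exact ⟨a1, fun h => h.2 a2⟩
  rw [← key]
  constructor
  · intro H x hxΩ hz hns
    obtain ⟨W, ⟨h1, h2⟩, h3⟩ := H x hxΩ hz hns
    exact ⟨W, h1, h2, h3⟩
  · intro H x hxΩ hz hns
    obtain ⟨W, h1, h2, h3⟩ := H x hxΩ hz hns
    exact ⟨W, ⟨h1, h2⟩, h3⟩

end minus

end Cfsg.Agent.Lib.Helper9.BG
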