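import Cfsg.Agent.Lib.Helper2.BMf

/-!
# BMT unit U1 (backup copy by helper9): clause 4 of `IsLeechPerpModTwoIso` for `ψ'`, `e'`
-/

set_option autoImplicit false

namespace Cfsg.Agent.Lib.Helper9.BMTu1b

open Cfsg Cfsg.Agent.Lib.Helper9.MTc Cfsg.Agent.Lib.Helper2.BM

variable {G : Type*} [Group G] [Finite G] {z : G}
  {Q : Subgroup (Subgroup.centralizer ({z} : Set G))} [Q.Normal]
  {e : (Subgroup.centralizer ({z} : Set G)) ⧸ Q ≃* Spor.Co1}
  {ψ : leechLattice → Q ⧸ Subgroup.center Q} {t : G}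
  [hn : ((Subgroup.zpowers t).subgroupOf (Subgroup.centralizer ({t} : Set G))).Normal]

theorem clause4 (S : BMS z Q e ψ t)
    (h : ↥(Subgroup.centralizer ({S.z'} : Set (↥(Subgroup.centralizer ({t} : Set G)) ⧸
      (Subgroup.zpowers t).subgroupOf (Subgroup.centralizer ({t} : Set G))))))
    (g : ↥Spor.Co2) (hg : S.e' (QuotientGroup.mk h) = g)
    (x y : leechPerpU) (hxy : g • (x : leechLattice) = (y : leechLattice))
    (q : ↥S.Q') (hq : S.psi' x = QuotientGroup.mk q) :
    S.psi' y = QuotientGroup.mk ⟨h * q * h⁻¹,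
      (inferInstance : S.Q'.Normal).conj_mem (q : _) q.2 h⟩ := by
  obtain ⟨k, hk, rfl⟩ := S.exists_rep h
  rw [S.e'_mk, S.Theta_spec k hk, S.F_apply] at hg
  subst hg
  obtain ⟨q0, hq0⟩ := QuotientGroup.mk_surjective (ψ (x : leechLattice))
  have hq0' : ψ (x : leechLattice) = QuotientGroup.mk q0 := hq0.symm
  have hx := S.psi'_eq x q0 hq0'
  have heq := S.fH_equivariant (S.jH k) (x : leechLattice) q0 hq0'
  have hy0 : ((S.fH (S.jH k) : ↥St) : Co0) • (x : leechLattice) = (y : leechLattice) := by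
    rw [← isoSt_symm_smul]; exact hxy
  rw [hy0] at heq
  have hy := S.psi'_eq y _ heq
  rw [hy]
  -- the two lifts
  set r0 : ↥S.R0 := S.liftR q0 (S.comm_of_perp x q0 hq0') with hr0
  set r1 : ↥S.R0 := S.liftR _ (S.comm_of_perp y _ heq) with hr1
  have hr1G : (r1 : G) = (k : G) * (r0 : G) * (k : G)⁻¹ := rfl
  -- conjugation in Q'
  have hconj : S.pQ r1 = ⟨⟨_, hk⟩ * (S.pQ r0 : ↥S.Q') * (⟨_, hk⟩ : ↥(Subgroup.centralizer ({S.z'} :
      Set (↥(Subgroup.centralizer ({t} : Set G)) ⧸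
      (Subgroup.zpowers t).subgroupOf (Subgroup.centralizer ({t} : Set G))))))⁻¹,
      (inferInstance : S.Q'.Normal).conj_mem _ (S.pQ r0).2 _⟩ := by
    apply Subtype.ext
    apply Subtype.ext
    rw [S.pQ_coe]
    simp only [Subgroup.coe_mul, Subgroup.coe_inv]
    rw [S.pQ_coe]
    rw [← QuotientGroup.mk_inv, ← QuotientGroup.mk_mul, ← QuotientGroup.mk_mul]
    congr 1
  -- q differs from `pQ r0` by a central element
  rw [hx] at hq
  have hc : (S.pQ r0)⁻¹ * q ∈ Subgroup.center ↥S.Q' := QuotientGroup.eq.mp hq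
  apply QuotientGroup.eq.mpr
  rw [hconj]
  rcases (S.mem_center_Q' _).mp hc with h1 | h1
  · have h2 : q = S.pQ r0 := by
      rw [← mul_one (S.pQ r0), ← h1]; group
    rw [h2]
    convert Subgroup.one_mem _
    group
  · have h2 : q = S.pQ r0 * S.z'' := by
      rw [← h1]; group
    have h3 : (⟨_, hk⟩ : ↥(Subgroup.centralizer ({S.z'} :
        Set (↥(Subgroup.centralizer ({t} : Set G)) ⧸
        (Subgroup.zpowers t).subgroupOf (Subgroup.centralizer ({t} : Set G)))))) *
        ((S.z'' : ↥S.Q') : ↥(Subgroup.centralizer ({S.z'} :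
        Set (↥(Subgroup.centralizer ({t} : Set G)) ⧸
        (Subgroup.zpowers t).subgroupOf (Subgroup.centralizer ({t} : Set G)))))) =
        ((S.z'' : ↥S.Q') : ↥(Subgroup.centralizer ({S.z'} :
        Set (↥(Subgroup.centralizer ({t} : Set G)) ⧸
        (Subgroup.zpowers t).subgroupOf (Subgroup.centralizer ({t} : Set G)))))) * ⟨_, hk⟩ := by
      apply Subtype.ext
      simp only [Subgroup.coe_mul]
      rw [S.z''_coe]
      exact (Subgroup.mem_centralizer_singleton_iff.mp hk)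
    have h4 : (⟨⟨_, hk⟩ * (S.pQ r0 : ↥S.Q') * (⟨_, hk⟩ : ↥(Subgroup.centralizer ({S.z'} :
        Set (↥(Subgroup.centralizer ({t} : Set G)) ⧸
        (Subgroup.zpowers t).subgroupOf (Subgroup.centralizer ({t} : Set G))))))⁻¹,
        (inferInstance : S.Q'.Normal).conj_mem _ (S.pQ r0).2 _⟩ : ↥S.Q')⁻¹ *
        ⟨⟨_, hk⟩ * (q : ↥(Subgroup.centralizer ({S.z'} :
        Set (↥(Subgroup.centralizer ({t} : Set G)) ⧸
        (Subgroup.zpowers t).subgroupOf (Subgroup.centralizer ({t} : Set G)))))) * (⟨_, hk⟩ : ↥(Subgroup.centralizer ({S.z'} :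
        Set (↥(Subgroup.centralizer ({t} : Set G)) ⧸
        (Subgroup.zpowers t).subgroupOf (Subgroup.centralizer ({t} : Set G))))))⁻¹,
        (inferInstance : S.Q'.Normal).conj_mem _ q.2 _⟩ = S.z'' := by
      apply Subtype.ext
      simp only [Subgroup.coe_mul, Subgroup.coe_inv, h2]
      have h5 := h3
      generalize (⟨_, hk⟩ : ↥(Subgroup.centralizer ({S.z'} :
        Set (↥(Subgroup.centralizer ({t} : Set G)) ⧸
        (Subgroup.zpowers t).subgroupOf (Subgroup.centralizer ({t} : Set G)))))) = hh at h5 ⊢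
      generalize ((S.z'' : ↥S.Q') : ↥(Subgroup.centralizer ({S.z'} :
        Set (↥(Subgroup.centralizer ({t} : Set G)) ⧸
        (Subgroup.zpowers t).subgroupOf (Subgroup.centralizer ({t} : Set G)))))) = zz at h5 ⊢
      generalize ((S.pQ r0 : ↥S.Q') : ↥(Subgroup.centralizer ({S.z'} :
        Set (↥(Subgroup.centralizer ({t} : Set G)) ⧸
        (Subgroup.zpowers t).subgroupOf (Subgroup.centralizer ({t} : Set G)))))) = pp
      calc (hh * pp * hh⁻¹)⁻¹ * (hh * (pp * zz) * hh⁻¹) = hh * zz * hh⁻¹ := by group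
        _ = zz := by rw [h5]; group
    rw [h4]
    exact S.z''_mem_center

end Cfsg.Agent.Lib.Helper9.BMTu1b
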