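import Cfsg.Agent.Lib.Helper2.BMf
import Cfsg.Agent.Lib.Helper9.MTo

/-!
# BMT unit U3: the image of `z` in `C_G(t) / ⟨t⟩` is not weakly closed in `Q'`

From `MT.bm_fusion` (an element of `C_G(t)` carrying `z` to a conjugate in `C_Q(t)` outside `{z, z t}`).
-/

set_option autoImplicit false

namespace Cfsg.Agent.Lib.Helper9.BMTu3

open Cfsg Cfsg.Agent.Lib.Helper9.MTc Cfsg.Agent.Lib.Helper2.BM

variable {G : Type*} [Group G] [Finite G] {z : G}
  {Q : Subgroup (Subgroup.centralizer ({z} : Set G))} [Q.Normal]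
  {e : (Subgroup.centralizer ({z} : Set G)) ⧸ Q ≃* Spor.Co1}
  {ψ : leechLattice → Q ⧸ Subgroup.center Q} {t : G}
  [hn : ((Subgroup.zpowers t).subgroupOf (Subgroup.centralizer ({t} : Set G))).Normal]

theorem not_weakly_closed (S : BMS z Q e ψ t)
    (hfus : ∃ g : G, (∃ hq : g * z * g⁻¹ ∈ Subgroup.centralizer ({z} : Set G),
      (⟨g * z * g⁻¹, hq⟩ : Subgroup.centralizer ({z} : Set G)) ∈ Q) ∧ g * z * g⁻¹ ≠ z) :
    ∃ g' : ↥(Subgroup.centralizer ({t} : Set G)) ⧸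
        (Subgroup.zpowers t).subgroupOf (Subgroup.centralizer ({t} : Set G)),
      (∃ hq : g' * S.z' * g'⁻¹ ∈ Subgroup.centralizer ({S.z'} : Set _),
        (⟨g' * S.z' * g'⁻¹, hq⟩ : ↥(Subgroup.centralizer ({S.z'} : Set _))) ∈ S.Q') ∧
      g' * S.z' * g'⁻¹ ≠ S.z' := by
  have ht2 : orderOf t = 2 :=
    orderOf_eq_prime (by rw [pow_two]; exact S.t_sq) S.t_ne_one
  obtain ⟨k, hkt, ⟨hsC, hsQ⟩, hst, hsz, hszt⟩ :=
    S.mt.bm_fusion hfus t S.htC S.htQ ht2 S.t_not_conj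
  obtain ⟨kK, hkK⟩ : ∃ kK : Subgroup.centralizer ({t} : Set G), (kK : G) = k :=
    ⟨⟨k, Subgroup.mem_centralizer_singleton_iff.mpr hkt⟩, rfl⟩
  obtain ⟨sK, hsK⟩ : ∃ sK : Subgroup.centralizer ({t} : Set G), (sK : G) = k * z * k⁻¹ :=
    ⟨⟨k * z * k⁻¹, Subgroup.mem_centralizer_singleton_iff.mpr hst⟩, rfl⟩
  have hzK : (S.zK : G) = z := rfl
  have hmul : kK * S.zK * kK⁻¹ = sK := by
    apply Subtype.ext
    simp only [Subgroup.coe_mul, Subgroup.coe_inv, hkK, hsK, hzK]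
  have hconj : (QuotientGroup.mk kK : ↥(Subgroup.centralizer ({t} : Set G)) ⧸
      (Subgroup.zpowers t).subgroupOf (Subgroup.centralizer ({t} : Set G))) * S.z' *
      (QuotientGroup.mk kK)⁻¹ = QuotientGroup.mk sK := by
    rw [← hmul]
    rfl
  have hsHK : sK ∈ S.HK := by
    rw [S.mem_HK, hsK]
    exact Subgroup.mem_centralizer_singleton_iff.mp hsC
  have hmemC : (QuotientGroup.mk sK : ↥(Subgroup.centralizer ({t} : Set G)) ⧸
      (Subgroup.zpowers t).subgroupOf (Subgroup.centralizer ({t} : Set G))) ∈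
      Subgroup.centralizer ({S.z'} : Set _) := by
    rw [S.centralizer_z']
    exact ⟨sK, hsHK, rfl⟩
  have hQ' := (S.mem_Q' ⟨sK, hsHK⟩ hmemC).mpr (by
    show (sK : G) ∈ QG Q
    rw [hsK]
    exact mem_QG.mpr ⟨hsC, hsQ⟩)
  refine ⟨QuotientGroup.mk kK, ⟨?_, ?_⟩, ?_⟩
  · rw [hconj]; exact hmemC
  · have h1 : (⟨QuotientGroup.mk kK * S.z' * (QuotientGroup.mk kK)⁻¹, by rw [hconj]; exact hmemC⟩ :
        ↥(Subgroup.centralizer ({S.z'} : Set _))) = ⟨QuotientGroup.mk sK, hmemC⟩ :=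
      Subtype.ext hconj
    rw [h1]
    exact hQ'
  · rw [hconj]
    intro h1
    have h2 : sK⁻¹ * S.zK ∈ (Subgroup.zpowers t).subgroupOf (Subgroup.centralizer ({t} : Set G)) :=
      QuotientGroup.eq.mp h1
    have h3 : ((sK⁻¹ * S.zK : Subgroup.centralizer ({t} : Set G)) : G) = (k * z * k⁻¹)⁻¹ * z := by
      simp only [Subgroup.coe_mul, Subgroup.coe_inv, hsK, hzK]
    rcases (S.mem_T _).mp h2 with h4 | h4
    · rw [h3] at h4
      apply hsz
      have : z = k * z * k⁻¹ := by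
        calc z = (k * z * k⁻¹) * ((k * z * k⁻¹)⁻¹ * z) := by group
          _ = k * z * k⁻¹ := by rw [h4, mul_one]
      exact this.symm
    · rw [h3] at h4
      apply hszt
      have h5 : z = k * z * k⁻¹ * t := by
        calc z = (k * z * k⁻¹) * ((k * z * k⁻¹)⁻¹ * z) := by group
          _ = k * z * k⁻¹ * t := by rw [h4]
      calc k * z * k⁻¹ = (k * z * k⁻¹ * t) * t⁻¹ := by group
        _ = z * t := by rw [← h5, S.t_inv]

end Cfsg.Agent.Lib.Helper9.BMTu3
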