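import Mathlib

set_option autoImplicit false
set_option linter.unusedSectionVars false
set_option linter.unusedVariables false
set_option linter.style.longLine false
set_option linter.unusedSimpArgs false

set_option maxHeartbeats 1600000
namespace Cfsg.Agent.Lib.Helper9.Bl

open scoped BigOperators

section Spectral

variable {V : Type*} [AddCommGroup V] [Module ℂ V]

/-- the spectral projection of an operator of order dividing `p` onto the `ζ^j`-eigenspace -/
noncomputable def spr (T : Module.End ℂ V) (ζ : ℂ) (p j : ℕ) : Module.End ℂ V :=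
  (p : ℂ)⁻¹ • ∑ k ∈ Finset.range p, (ζ⁻¹) ^ (j * k) • T ^ k

theorem geom_sum_zero (w : ℂ) (n : ℕ) (hw : w ^ n = 1) (hw1 : w ≠ 1) :
    ∑ i ∈ Finset.range n, w ^ i = 0 := by
  have h := mul_geom_sum w n
  rw [hw, sub_self] at h
  rcases mul_eq_zero.1 h with h | h
  · exact absurd (sub_eq_zero.1 h) hw1
  · exact h

variable (T : Module.End ℂ V) (ζ : ℂ) (p : ℕ) (hp : 0 < p) (hζ : IsPrimitiveRoot ζ p)
  (hT : T ^ p = 1)

include hp hζ hT

theorem T_mul_sum (j : ℕ) : T * ∑ k ∈ Finset.range p, (ζ⁻¹) ^ (j * k) • T ^ k =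
    ζ ^ j • ∑ k ∈ Finset.range p, (ζ⁻¹) ^ (j * k) • T ^ k := by
  have hζ0 : ζ ≠ 0 := hζ.ne_zero hp.ne'
  rw [Finset.mul_sum]
  have h1 : ∀ k, T * ((ζ⁻¹) ^ (j * k) • T ^ k) = ζ ^ j • ((ζ⁻¹) ^ (j * (k + 1)) • T ^ (k + 1)) := by
    intro k
    rw [mul_smul_comm, ← pow_succ', smul_smul]
    congr 1
    rw [mul_add, mul_one, pow_add, inv_pow ζ j]
    field_simp
  rw [Finset.sum_congr rfl (fun k _ => h1 k), ← Finset.smul_sum]
  congr 1
  have h2 := Finset.sum_range_succ' (fun k => (ζ⁻¹) ^ (j * k) • T ^ k) p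
  have h3 := Finset.sum_range_succ (fun k => (ζ⁻¹) ^ (j * k) • T ^ k) p
  have h4 : (ζ⁻¹) ^ (j * p) • T ^ p = (ζ⁻¹) ^ (j * 0) • T ^ 0 := by
    rw [hT, mul_zero, pow_zero, pow_zero, mul_comm, pow_mul, inv_pow, hζ.pow_eq_one, inv_one, one_pow]
  rw [h3, h4] at h2
  exact (add_right_cancel h2).symm

theorem T_mul_spr (j : ℕ) : T * spr T ζ p j = ζ ^ j • spr T ζ p j := by
  unfold spr
  rw [mul_smul_comm, T_mul_sum T ζ p hp hζ hT j, smul_comm]

theorem pow_mul_spr (j m : ℕ) : T ^ m * spr T ζ p j = ζ ^ (j * m) • spr T ζ p j := by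
  induction m with
  | zero => simp
  | succ m ih =>
    rw [pow_succ', mul_assoc, ih, mul_smul_comm, T_mul_spr T ζ p hp hζ hT, smul_smul, mul_add,
      mul_one, pow_add]

theorem spr_idem (j : ℕ) : spr T ζ p j * spr T ζ p j = spr T ζ p j := by
  have hζ0 : ζ ≠ 0 := hζ.ne_zero hp.ne'
  have hp0 : (p : ℂ) ≠ 0 := by exact_mod_cast hp.ne'
  have h0 : spr T ζ p j = (p : ℂ)⁻¹ • ∑ k ∈ Finset.range p, (ζ⁻¹) ^ (j * k) • T ^ k := rfl
  have h1 : ∀ k, ((ζ⁻¹) ^ (j * k) • T ^ k) * spr T ζ p j = spr T ζ p j := by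
    intro k
    rw [smul_mul_assoc, pow_mul_spr T ζ p hp hζ hT, smul_smul, inv_pow, inv_mul_cancel₀
      (pow_ne_zero _ hζ0), one_smul]
  have h2 : (∑ k ∈ Finset.range p, (ζ⁻¹) ^ (j * k) • T ^ k) * spr T ζ p j =
      (p : ℂ) • spr T ζ p j := by
    rw [Finset.sum_mul, Finset.sum_congr rfl (fun k _ => h1 k), Finset.sum_const, Finset.card_range,
      ← Nat.cast_smul_eq_nsmul ℂ]
  have h3 : spr T ζ p j * spr T ζ p j =
      ((p : ℂ)⁻¹ • ∑ k ∈ Finset.range p, (ζ⁻¹) ^ (j * k) • T ^ k) * spr T ζ p j :=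
    congrArg (· * spr T ζ p j) h0
  rw [h3, smul_mul_assoc, h2, smul_smul, inv_mul_cancel₀ hp0, one_smul]

theorem sum_spr : ∑ j ∈ Finset.range p, spr T ζ p j = 1 := by
  have hζ0 : ζ ≠ 0 := hζ.ne_zero hp.ne'
  have hp0 : (p : ℂ) ≠ 0 := by exact_mod_cast hp.ne'
  unfold spr
  rw [← Finset.smul_sum, Finset.sum_comm]
  have h1 : ∀ k ∈ Finset.range p, ∑ j ∈ Finset.range p, (ζ⁻¹) ^ (j * k) • T ^ k =
      if k = 0 then (p : ℂ) • (1 : Module.End ℂ V) else 0 := by
    intro k hk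
    rw [← Finset.sum_smul]
    by_cases hk0 : k = 0
    · subst hk0
      simp
    · rw [if_neg hk0]
      have h2 : ∀ j, (ζ⁻¹) ^ (j * k) = ((ζ⁻¹) ^ k) ^ j := fun j => by rw [mul_comm, pow_mul]
      rw [Finset.sum_congr rfl (fun j _ => h2 j), geom_sum_zero, zero_smul]
      · rw [← pow_mul, mul_comm, pow_mul, inv_pow, hζ.pow_eq_one, inv_one, one_pow]
      · intro h
        rw [inv_pow, inv_eq_one] at h
        have := (hζ.pow_eq_one_iff_dvd k).1 h
        have hk' := Finset.mem_range.1 hk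
        exact absurd (Nat.le_of_dvd (Nat.pos_of_ne_zero hk0) this) (by omega)
  rw [Finset.sum_congr rfl h1, Finset.sum_ite_eq' (Finset.range p) 0]
  rw [if_pos (Finset.mem_range.2 hp), smul_smul, inv_mul_cancel₀ hp0, one_smul]

theorem spr_commute (j m : ℕ) : Commute (spr T ζ p j) (T ^ m) := by
  unfold spr
  refine Commute.smul_left ?_ _
  refine Commute.sum_left _ _ _ (fun k _ => ?_)
  refine Commute.smul_left ?_ _
  exact Commute.pow_pow (Commute.refl T) k m

theorem eigen_of_pow (m : ℕ) (δ : ℂ) (hδ : Module.End.HasEigenvalue (T ^ m) δ) :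
    ∃ j ∈ Finset.range p, spr T ζ p j ≠ 0 ∧ δ = ζ ^ (j * m) := by
  obtain ⟨v, hv⟩ := hδ.exists_hasEigenvector
  have hv0 : v ≠ 0 := hv.2
  have hTv : (T ^ m) v = δ • v := Module.End.mem_eigenspace_iff.1 hv.1
  have hsum : ∑ j ∈ Finset.range p, spr T ζ p j v = v := by
    have := congrArg (fun f : Module.End ℂ V => f v) (sum_spr T ζ p hp hζ hT)
    simpa using this
  obtain ⟨j, hj, hjv⟩ : ∃ j ∈ Finset.range p, spr T ζ p j v ≠ 0 := by
    by_contra hcon
    push Not at hcon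
    rw [Finset.sum_eq_zero hcon] at hsum
    exact hv0 hsum.symm
  refine ⟨j, hj, ?_, ?_⟩
  · intro h0
    rw [h0] at hjv
    exact hjv rfl
  · have h1 : (T ^ m) (spr T ζ p j v) = ζ ^ (j * m) • spr T ζ p j v := by
      have := congrArg (fun f : Module.End ℂ V => f v) (pow_mul_spr T ζ p hp hζ hT j m)
      simpa using this
    have h2 : (T ^ m) (spr T ζ p j v) = δ • spr T ζ p j v := by
      have := congrArg (fun f : Module.End ℂ V => f v) (spr_commute T ζ p hp hζ hT j m).eq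
      simp only [Module.End.mul_apply] at this
      rw [← this, hTv, map_smul]
    have h3 : (δ - ζ ^ (j * m)) • spr T ζ p j v = 0 := by
      rw [sub_smul, ← h1, ← h2, sub_self]
    rcases smul_eq_zero.1 h3 with h | h
    · exact sub_eq_zero.1 h
    · exact absurd h hjv

theorem hasEigenvalue_pow (j m : ℕ) (hj : spr T ζ p j ≠ 0) :
    Module.End.HasEigenvalue (T ^ m) (ζ ^ (j * m)) := by
  obtain ⟨v, hv⟩ : ∃ v, spr T ζ p j v ≠ 0 := by
    by_contra hcon
    push Not at hcon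
    exact hj (LinearMap.ext hcon)
  have h1 : (T ^ m) (spr T ζ p j v) = ζ ^ (j * m) • spr T ζ p j v := by
    have := congrArg (fun f : Module.End ℂ V => f v) (pow_mul_spr T ζ p hp hζ hT j m)
    simpa using this
  exact Module.End.hasEigenvalue_of_hasEigenvector ⟨Module.End.mem_eigenspace_iff.2 h1, hv⟩

omit hp hζ hT in
theorem trace_spr [FiniteDimensional ℂ V] (j : ℕ) :
    LinearMap.trace ℂ V (spr T ζ p j) =
      (p : ℂ)⁻¹ * ∑ k ∈ Finset.range p, (ζ⁻¹) ^ (j * k) * LinearMap.trace ℂ V (T ^ k) := by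
  unfold spr
  rw [map_smul, map_sum, smul_eq_mul]
  congr 1
  refine Finset.sum_congr rfl (fun k _ => ?_)
  rw [map_smul, smul_eq_mul]

theorem trace_spr_nat [FiniteDimensional ℂ V] (j : ℕ) :
    ∃ m : ℕ, LinearMap.trace ℂ V (spr T ζ p j) = (m : ℂ) ∧ (m = 0 → spr T ζ p j = 0) := by
  have hidem : IsIdempotentElem (spr T ζ p j) := spr_idem T ζ p hp hζ hT j
  have hproj := LinearMap.IsIdempotentElem.isProj_range _ hidem
  refine ⟨_, hproj.trace, fun h0 => ?_⟩
  have h1 : LinearMap.range (spr T ζ p j) = ⊥ := Submodule.finrank_eq_zero.1 h0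
  exact LinearMap.range_eq_bot.1 h1

end Spectral

end Cfsg.Agent.Lib.Helper9.Bl
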