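import Mathlib

set_option autoImplicit false
set_option linter.unusedSectionVars false
set_option linter.unusedVariables false
set_option linter.style.longLine false
set_option linter.unusedSimpArgs false

set_option maxHeartbeats 1600000
namespace Cfsg.Agent.Lib.Helper9.Bl

open scoped BigOperators
open Real

/-- the standard primitive `p`-th root of unity -/
noncomputable def zeta (p : ℕ) : ℂ := Complex.exp (2 * π * Complex.I / p)

theorem zeta_prim (p : ℕ) (hp : 0 < p) : IsPrimitiveRoot (zeta p) p :=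
  Complex.isPrimitiveRoot_exp p hp.ne'

theorem norm_zeta_pow (p : ℕ) (hp : 0 < p) (t : ℕ) : ‖zeta p ^ t‖ = 1 := by
  rw [norm_pow]
  have : ‖zeta p‖ = 1 := (zeta_prim p hp).norm'_eq_one hp.ne'
  rw [this, one_pow]

theorem norm_zeta_pow_sub_one_lt (p t : ℕ) (hp : 0 < p) (ht : 6 * t < p) :
    ‖zeta p ^ t - 1‖ < 1 := by
  have h1 : zeta p ^ t = Complex.exp (Complex.I * ((2 * π * t / p : ℝ) : ℂ)) := by
    unfold zeta
    rw [← Complex.exp_nat_mul]
    congr 1
    push_cast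
    ring
  rw [h1, Complex.norm_exp_I_mul_ofReal_sub_one]
  have hx : (2 * π * t / p) / 2 = π * t / p := by ring
  rw [hx, Real.norm_eq_abs, abs_lt]
  have hpos : (0:ℝ) < p := by exact_mod_cast hp
  have h2 : π * t / p < π / 6 := by
    rw [div_lt_div_iff₀ hpos (by norm_num)]
    have : (6 * t : ℝ) < p := by exact_mod_cast ht
    nlinarith [Real.pi_pos]
  have h3 : 0 ≤ π * t / p := by positivity
  have h4 : Real.sin (π * t / p) < 1/2 := by
    rw [← Real.sin_pi_div_six]
    exact Real.sin_lt_sin_of_lt_of_le_pi_div_two (by linarith [Real.pi_pos])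
      (by linarith [Real.pi_pos]) h2
  have h5 : 0 ≤ Real.sin (π * t / p) :=
    Real.sin_nonneg_of_nonneg_of_le_pi h3 (by linarith [Real.pi_pos])
  constructor <;> linarith

theorem norm_zeta_pow_sub_pow_lt_aux (p r t : ℕ) (hp : 0 < p) (ht : 6 * t < p) :
    ‖zeta p ^ (r + t) - zeta p ^ r‖ < 1 := by
  have : zeta p ^ (r + t) - zeta p ^ r = zeta p ^ r * (zeta p ^ t - 1) := by
    rw [pow_add]; ring
  rw [this, norm_mul, norm_zeta_pow p hp, one_mul]
  exact norm_zeta_pow_sub_one_lt p t hp ht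

theorem norm_zeta_pow_sub_pow_lt (p r r' : ℕ) (hp : 0 < p) (h : 6 * r' < p + 6 * r)
    (h' : 6 * r < p + 6 * r') : ‖zeta p ^ r' - zeta p ^ r‖ < 1 := by
  rcases le_total r r' with hle | hle
  · obtain ⟨t, rfl⟩ := Nat.exists_eq_add_of_le hle
    exact norm_zeta_pow_sub_pow_lt_aux p r t hp (by omega)
  · obtain ⟨t, rfl⟩ := Nat.exists_eq_add_of_le hle
    rw [norm_sub_rev]
    exact norm_zeta_pow_sub_pow_lt_aux p r' t hp (by omega)

theorem zeta_pow_mod (p : ℕ) (hp : 0 < p) (x : ℕ) : zeta p ^ x = zeta p ^ (x % p) := by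
  conv_lhs => rw [← Nat.mod_add_div x p]
  rw [pow_add, pow_mul, (zeta_prim p hp).pow_eq_one, one_pow, mul_one]

theorem exists_pow_close (p : ℕ) (hp : 0 < p) (J : Finset ℕ) (hJ : ∀ j ∈ J, j < p) (a : ℕ)
    (ha : a ∈ J) (hcard : 6 ^ (J.card - 1) < p) :
    ∃ m, 0 < m ∧ m < p ∧ ∀ j ∈ J, ‖zeta p ^ (j * m) - zeta p ^ (a * m)‖ < 1 := by
  classical
  obtain ⟨f, hf⟩ : ∃ f : Fin p → (↥(J.erase a) → Fin 6), ∀ m j,
      ((f m j : Fin 6) : ℕ) = 6 * (((j.1 + p - a) * m.1) % p) / p := by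
    refine ⟨fun m j => ⟨6 * (((j.1 + p - a) * m.1) % p) / p, ?_⟩, fun m j => rfl⟩
    rw [Nat.div_lt_iff_lt_mul hp]
    have := Nat.mod_lt ((j.1 + p - a) * m.1) hp
    omega
  have hcard' : Fintype.card (↥(J.erase a) → Fin 6) < Fintype.card (Fin p) := by
    rw [Fintype.card_fun, Fintype.card_fin, Fintype.card_fin, Fintype.card_coe,
      Finset.card_erase_of_mem ha]
    exact hcard
  obtain ⟨m1, m2, hne, heq⟩ := Fintype.exists_ne_map_eq_of_card_lt f hcard'
  -- symmetric statement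
  have key : ∀ m1 m2 : Fin p, m1.1 < m2.1 → f m1 = f m2 →
      ∃ m, 0 < m ∧ m < p ∧ ∀ j ∈ J, ‖zeta p ^ (j * m) - zeta p ^ (a * m)‖ < 1 := by
    intro m1 m2 hlt heq
    refine ⟨m2.1 - m1.1, by omega, by have := m2.2; omega, ?_⟩
    intro j hj
    by_cases hja : j = a
    · subst hja
      rw [sub_self, norm_zero]
      exact one_pos
    · have hjmem : j ∈ J.erase a := Finset.mem_erase.2 ⟨hja, hj⟩
      have hjp := hJ j hj
      have hap := hJ a ha
      obtain ⟨d, hd⟩ : ∃ d, d = j + p - a := ⟨_, rfl⟩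
      have hdj : j + p = a + d := by omega
      obtain ⟨m, hm⟩ : ∃ m, m = m2.1 - m1.1 := ⟨_, rfl⟩
      have hm2 : m2.1 = m1.1 + m := by omega
      have h1 := hf m1 ⟨j, hjmem⟩
      have h2 := hf m2 ⟨j, hjmem⟩
      rw [heq] at h1
      rw [h1] at h2
      simp only at h2
      rw [← hd] at h2
      obtain ⟨r1, hr1⟩ : ∃ r1, r1 = (d * m1.1) % p := ⟨_, rfl⟩
      obtain ⟨r2, hr2⟩ : ∃ r2, r2 = (d * m2.1) % p := ⟨_, rfl⟩
      rw [← hr1, ← hr2] at h2
      have hclose : 6 * r2 < p + 6 * r1 ∧ 6 * r1 < p + 6 * r2 := by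
        have e1 := Nat.div_add_mod (6 * r1) p
        have e2 := Nat.div_add_mod (6 * r2) p
        have l1 := Nat.mod_lt (6 * r1) hp
        have l2 := Nat.mod_lt (6 * r2) hp
        rw [h2] at e1
        constructor <;> omega
      have hlt1 := norm_zeta_pow_sub_pow_lt p r1 r2 hp hclose.1 hclose.2
      -- relate
      have e3 : zeta p ^ (j * m) = zeta p ^ (a * m) * zeta p ^ (d * m) := by
        have : zeta p ^ (j * m) * zeta p ^ (p * m) = zeta p ^ (a * m) * zeta p ^ (d * m) := by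
          rw [← pow_add, ← pow_add, ← add_mul, ← add_mul, hdj]
        rw [pow_mul (zeta p) p m, (zeta_prim p hp).pow_eq_one, one_pow, mul_one] at this
        exact this
      have e4 : zeta p ^ r1 * zeta p ^ (d * m) = zeta p ^ r2 := by
        rw [hr1, hr2, ← zeta_pow_mod p hp, ← zeta_pow_mod p hp, ← pow_add, hm2, mul_add]
      rw [← hm, e3]
      have e5 : zeta p ^ (a * m) * zeta p ^ (d * m) - zeta p ^ (a * m) =
          zeta p ^ (a * m) * (zeta p ^ (d * m) - 1) := by ring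
      rw [e5, norm_mul, norm_zeta_pow p hp, one_mul]
      have e6 : zeta p ^ r2 - zeta p ^ r1 = zeta p ^ r1 * (zeta p ^ (d * m) - 1) := by
        rw [← e4]; ring
      rw [e6, norm_mul, norm_zeta_pow p hp, one_mul] at hlt1
      exact hlt1
  rcases Nat.lt_or_gt_of_ne (fun h => hne (Fin.ext h)) with h | h
  · exact key m1 m2 h heq
  · exact key m2 m1 h heq.symm

end Cfsg.Agent.Lib.Helper9.Bl
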