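import Mathlib
import Cfsg.Agent.S0907
import Cfsg.Agent.Lib.Helper6.BlkLocal
import Cfsg.Agent.Lib.Helper6.BlkPrincipal
import Cfsg.Agent.Lib.Helper6.BrPrin
import Cfsg.Agent.Lib.Helper6.BlkIdem
import Cfsg.Agent.Lib.Helper6.BlkDefect
import Cfsg.Agent.Lib.Helper6.DegreeDvd
import Cfsg.Agent.Lib.Helper6.BlkRigid

set_option autoImplicit false
set_option linter.unusedSectionVars false
set_option linter.unusedVariables false
set_option linter.style.longLine false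
set_option linter.unusedSimpArgs false

set_option maxHeartbeats 1600000
namespace Cfsg.Agent.Lib.Helper9.Bl
open Cfsg Cfsg.Agent.Lib.Helper6
open scoped ComplexConjugate BigOperators

section chi

variable {G : Type*} [Group G] [Fintype G]

theorem exists_chi (p q : ℕ) [hp : Fact p.Prime] (hq : q.Prime) (M : Ideal Cfsg.AlgInt)
    (hM : Cfsg.IsPModular p M) (y : G) (hy : p ∣ orderOf y) :
    ∃ χ : Cfsg.IrrCharacter G, χ ∈ Cfsg.principalBlock M G ∧ χ ≠ oneIrr G ∧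
      ¬ q ∣ Cfsg.charDegree (χ : G → ℂ) := by
  classical
  by_contra hcon
  push Not at hcon
  have hreg1 : ¬ p ∣ orderOf (1 : G) := by
    rw [orderOf_one]; exact hp.out.one_lt.ne' ∘ Nat.dvd_one.mp
  have h0 := Cfsg.Agent.S0907.result p M hM (Cfsg.principalBlock M G)
    isPBlock_principalBlock 1 y hreg1 hy
  haveI : Finite (Cfsg.IrrCharacter G) := inferInstance
  have hfin : (Cfsg.principalBlock M G).Finite := Set.toFinite _
  rw [finsum_mem_eq_finite_toFinset_sum _ hfin] at h0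
  have hmem : oneIrr G ∈ hfin.toFinset := by
    rw [Set.Finite.mem_toFinset]; exact oneIrr_mem_principalBlock hM
  rw [← Finset.add_sum_erase _ _ hmem] at h0
  have hone : ((oneIrr G : Cfsg.IrrCharacter G) : G → ℂ) 1 *
      conj (((oneIrr G : Cfsg.IrrCharacter G) : G → ℂ) y) = 1 := by
    show (1 : ℂ) * conj (1 : ℂ) = 1
    simp
  rw [hone] at h0
  have hdeg : ∀ χ : Cfsg.IrrCharacter G, (χ : G → ℂ) 1 = (Cfsg.charDegree (χ : G → ℂ) : ℂ) :=
    fun χ => IsCharacter.apply_one_eq_charDegree (IsIrrCharacter.isCharacter χ.2)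
  have hterm : ∀ χ ∈ hfin.toFinset.erase (oneIrr G), (χ : G → ℂ) 1 * conj ((χ : G → ℂ) y) =
      (q : ℂ) * (((Cfsg.charDegree (χ : G → ℂ) / q : ℕ) : ℂ) * conj ((χ : G → ℂ) y)) := by
    intro χ hχ
    rw [Finset.mem_erase, Set.Finite.mem_toFinset] at hχ
    have hdvd := hcon χ hχ.2 hχ.1
    rw [hdeg, ← mul_assoc]
    congr 1
    rw [← Nat.cast_mul, Nat.mul_div_cancel' hdvd]
  rw [Finset.sum_congr rfl hterm, ← Finset.mul_sum] at h0
  have hint : IsIntegral ℤ (∑ χ ∈ hfin.toFinset.erase (oneIrr G),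
      (((Cfsg.charDegree (χ : G → ℂ) / q : ℕ) : ℂ) * conj ((χ : G → ℂ) y))) := by
    refine IsIntegral.sum _ (fun χ _ => ?_)
    exact IsIntegral.mul (isIntegral_natCast _)
      (isIntegral_conj (IsCharacter.isIntegral_apply (IsIrrCharacter.isCharacter χ.2) y))
  have hq0 : (q : ℂ) ≠ 0 := by exact_mod_cast hq.ne_zero
  have h1 : ((1 : ℕ) : ℂ) / (q : ℂ) = -(∑ χ ∈ hfin.toFinset.erase (oneIrr G),
      (((Cfsg.charDegree (χ : G → ℂ) / q : ℕ) : ℂ) * conj ((χ : G → ℂ) y))) := by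
    rw [div_eq_iff hq0]
    push_cast
    linear_combination h0
  have h2 : IsIntegral ℤ (((1 : ℕ) : ℂ) / (q : ℂ)) := by
    rw [h1]; exact hint.neg
  have := nat_dvd_of_isIntegral_div hq.ne_zero h2
  exact hq.one_lt.ne' (Nat.dvd_one.1 this)

theorem exists_gamma (p : ℕ) [hp : Fact p.Prime] (M : Ideal Cfsg.AlgInt)
    (hM : Cfsg.IsPModular p M) (χ : Cfsg.IrrCharacter G) (hχ : χ ∈ Cfsg.principalBlock M G)
    (g : G) (c e v c1 : ℕ) (hc : (Subgroup.centralizer ({g} : Set G)).index = c)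
    (hpc : ¬ p ∣ c1) (hD : Cfsg.charDegree (χ : G → ℂ) = e * v) (hc1 : c = e * c1)
    (hcop : Nat.Coprime c1 v) (hv : 0 < v) (he : 0 < e) :
    ∃ γ : ℂ, IsIntegral ℤ γ ∧ (χ : G → ℂ) g = (v : ℂ) * γ ∧
      Cfsg.MemLocalIdeal M ((e : ℂ) - γ) := by
  classical
  have hchar : Cfsg.IsCharacter G (χ : G → ℂ) := IsIrrCharacter.isCharacter χ.2
  have hdeg : (χ : G → ℂ) 1 = ((e * v : ℕ) : ℂ) := by
    rw [IsCharacter.apply_one_eq_charDegree hchar, hD]
  obtain ⟨ω, hω⟩ : ∃ ω, ω = Cfsg.centralChar (χ : G → ℂ) g := ⟨_, rfl⟩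
  have hωint : IsIntegral ℤ ω := hω ▸ IsIrrCharacter.isIntegral_centralChar' χ.2 g
  have hv0 : (v : ℂ) ≠ 0 := by exact_mod_cast hv.ne'
  have he0 : (e : ℂ) ≠ 0 := by exact_mod_cast he.ne'
  have hωv : (v : ℂ) * ω = (c1 : ℂ) * (χ : G → ℂ) g := by
    rw [hω]
    unfold Cfsg.centralChar
    rw [hc, hc1, hdeg]
    push_cast
    field_simp
  have hblock : Cfsg.MemLocalIdeal M ((c : ℂ) - ω) := by
    have h1 : Cfsg.SameBlock M (fun _ : G => (1 : ℂ)) (χ : G → ℂ) := hχ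
    have h2 := h1 g
    have h3 : Cfsg.centralChar (fun _ : G => (1 : ℂ)) g = (c : ℂ) := by
      unfold Cfsg.centralChar
      rw [hc]; simp
    rw [h3, ← hω] at h2
    exact h2
  have hcopZ : IsCoprime (c1 : ℤ) (v : ℤ) := Nat.isCoprime_iff_coprime.2 hcop
  obtain ⟨s, t, hst⟩ := hcopZ
  have hstC : (s : ℂ) * (c1 : ℂ) + (t : ℂ) * (v : ℂ) = 1 := by exact_mod_cast hst
  refine ⟨(s : ℂ) * ω + (t : ℂ) * (χ : G → ℂ) g, ?_, ?_, ?_⟩
  · exact IsIntegral.add (IsIntegral.mul (isIntegral_intCast _) hωint)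
      (IsIntegral.mul (isIntegral_intCast _) (IsCharacter.isIntegral_apply hchar g))
  · linear_combination (-(χ : G → ℂ) g) * hstC - (s : ℂ) * hωv
  · have hγ1 : (c1 : ℂ) * ((s : ℂ) * ω + (t : ℂ) * (χ : G → ℂ) g) = ω := by
      linear_combination ω * hstC - (t : ℂ) * hωv
    have h4 : (c1 : ℂ) * ((e : ℂ) - ((s : ℂ) * ω + (t : ℂ) * (χ : G → ℂ) g)) = (c : ℂ) - ω := by
      rw [mul_sub, hγ1, hc1]; push_cast; ring
    rw [← h4] at hblock
    have hγint : IsIntegral ℤ ((e : ℂ) - ((s : ℂ) * ω + (t : ℂ) * (χ : G → ℂ) g)) :=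
      IsIntegral.sub (isIntegral_natCast _)
        (IsIntegral.add (IsIntegral.mul (isIntegral_intCast _) hωint)
          (IsIntegral.mul (isIntegral_intCast _) (IsCharacter.isIntegral_apply hchar g)))
    rcases memLocalIdeal_or_of_mul hM (memLocalRing_natCast hM c1)
      (memLocalRing_of_isIntegral hM hγint) hblock with h | h
    · exact absurd ((memLocalIdeal_natCast_iff hM c1).1 h) hpc
    · exact h

end chi

end Cfsg.Agent.Lib.Helper9.Bl
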