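import Mathlib
import Cfsg.Agent.Lib.Helper6.BlkLocal
import Cfsg.Agent.Lib.Helper6.DegreeDvd
import Cfsg.Agent.Lib.Helper6.BlkRigid

set_option autoImplicit false
set_option linter.unusedSectionVars false
set_option linter.unusedVariables false
set_option linter.style.longLine false
set_option linter.unusedSimpArgs false

set_option maxHeartbeats 1600000
namespace Cfsg.Agent.Lib.Helper9.Bl
open Cfsg Cfsg.Agent.Lib.Helper6
open scoped ComplexConjugate BigOperators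

theorem mult_dvd {G : Type*} [Group G] (p : ℕ) [hp : Fact p.Prime] (M : Ideal Cfsg.AlgInt)
    (hM : Cfsg.IsPModular p M) (χ : G → ℂ) (y : G) (e v : ℕ) (hv : 0 < v)
    (hγ : ∀ k ∈ Finset.range p, ∃ γ : ℂ, IsIntegral ℤ γ ∧ χ (y ^ k) = (v : ℂ) * γ ∧
      Cfsg.MemLocalIdeal M ((e : ℂ) - γ))
    (ζ : ℂ) (hζ : ζ ^ p = 1) (j m : ℕ)
    (hm : (m : ℂ) = (p : ℂ)⁻¹ * ∑ k ∈ Finset.range p, (ζ⁻¹) ^ (j * k) * χ (y ^ k)) : v ∣ m := by
  classical
  have hp0 : (p : ℂ) ≠ 0 := by exact_mod_cast hp.out.ne_zero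
  have hv0 : (v : ℂ) ≠ 0 := by exact_mod_cast hv.ne'
  -- choose γ
  obtain ⟨γ, hγ'⟩ : ∃ γ : ℕ → ℂ, ∀ k ∈ Finset.range p, IsIntegral ℤ (γ k) ∧
      χ (y ^ k) = (v : ℂ) * γ k ∧ Cfsg.MemLocalIdeal M ((e : ℂ) - γ k) := by
    have : ∀ k : ℕ, ∃ g : ℂ, k ∈ Finset.range p → (IsIntegral ℤ g ∧
        χ (y ^ k) = (v : ℂ) * g ∧ Cfsg.MemLocalIdeal M ((e : ℂ) - g)) := by
      intro k
      by_cases hk : k ∈ Finset.range p
      · obtain ⟨g, hg⟩ := hγ k hk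
        exact ⟨g, fun _ => hg⟩
      · exact ⟨0, fun h => absurd h hk⟩
    choose γ hγ'' using this
    exact ⟨γ, hγ''⟩
  obtain ⟨S, hS⟩ : ∃ S : ℂ, S = ∑ k ∈ Finset.range p, (ζ⁻¹) ^ (j * k) * γ k := ⟨_, rfl⟩
  have hwpow : ∀ k : ℕ, ((ζ⁻¹) ^ (j * k)) ^ (p ^ 1) = 1 := by
    intro k
    rw [pow_one, ← pow_mul, mul_comm, pow_mul, inv_pow, hζ, inv_one, one_pow]
  have hwint : ∀ k : ℕ, IsIntegral ℤ ((ζ⁻¹) ^ (j * k)) := by
    intro k
    refine ⟨Polynomial.X ^ (p ^ 1) - 1, ?_, ?_⟩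
    · exact Polynomial.monic_X_pow_sub_C (1 : ℤ) (by rw [pow_one]; exact hp.out.ne_zero)
    · simp only [Polynomial.eval₂_sub, Polynomial.eval₂_pow, Polynomial.eval₂_X,
        Polynomial.eval₂_one]
      rw [hwpow k, sub_self]
  have hSint : IsIntegral ℤ S := by
    rw [hS]
    exact IsIntegral.sum _ (fun k hk => IsIntegral.mul (hwint k) (hγ' k hk).1)
  have hpm : (p : ℂ) * (m : ℂ) = (v : ℂ) * S := by
    rw [hm, ← mul_assoc, mul_inv_cancel₀ hp0, one_mul, hS, Finset.mul_sum]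
    refine Finset.sum_congr rfl (fun k hk => ?_)
    rw [(hγ' k hk).2.1]; ring
  have hSloc : Cfsg.MemLocalIdeal M S := by
    have h1 : S = ∑ k ∈ Finset.range p, ((ζ⁻¹) ^ (j * k) * γ k - (e : ℂ)) + (p : ℂ) * (e : ℂ) := by
      rw [Finset.sum_sub_distrib, ← hS, Finset.sum_const, Finset.card_range, nsmul_eq_mul]
      ring
    rw [h1]
    refine MemLocalIdeal.add hM (MemLocalIdeal.sum hM _ _ (fun k hk => ?_))
      (MemLocalIdeal.mul_right hM (memLocalIdeal_prime hM) (memLocalRing_natCast hM e))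
    have h2 : (ζ⁻¹) ^ (j * k) * γ k - (e : ℂ) =
        (ζ⁻¹) ^ (j * k) * (-((e : ℂ) - γ k)) + (e : ℂ) * ((ζ⁻¹) ^ (j * k) - 1) := by ring
    rw [h2]
    exact MemLocalIdeal.add hM
      (MemLocalIdeal.mul_left hM (memLocalRing_of_isIntegral hM (hwint k))
        (MemLocalIdeal.neg (hγ' k hk).2.2))
      (MemLocalIdeal.mul_left hM (memLocalRing_natCast hM e)
        (memLocalIdeal_sub_one_of_pow_eq_one hM (hwpow k)))
  have hSeq : S = ((p * m : ℕ) : ℂ) / (v : ℂ) := by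
    rw [eq_div_iff hv0]; push_cast; rw [hpm]; ring
  have hdvd : v ∣ p * m := by
    apply nat_dvd_of_isIntegral_div hv.ne'
    rw [← hSeq]; exact hSint
  obtain ⟨n, hn⟩ := hdvd
  have hSn : S = (n : ℂ) := by
    rw [hSeq, hn]; push_cast; field_simp
  rw [hSn] at hSloc
  obtain ⟨n', rfl⟩ := (memLocalIdeal_natCast_iff hM n).1 hSloc
  refine ⟨n', ?_⟩
  have : p * m = p * (v * n') := by rw [hn]; ring
  exact Nat.eq_of_mul_eq_mul_left hp.out.pos this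

end Cfsg.Agent.Lib.Helper9.Bl
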