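import Mathlib

set_option autoImplicit false
set_option linter.unusedSectionVars false
set_option linter.unusedVariables false
set_option linter.style.longLine false
set_option linter.unusedSimpArgs false

set_option maxHeartbeats 1600000
namespace Cfsg.Agent.Lib.Helper9.Bl
open scoped BigOperators

theorem centralizer_pow_eq {G : Type*} [Group G] (y : G) (p k : ℕ) (hp : p.Prime)
    (hy : orderOf y = p) (hk0 : 0 < k) (hkp : k < p) :
    Subgroup.centralizer ({y ^ k} : Set G) = Subgroup.centralizer ({y} : Set G) := by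
  have hcop : Nat.Coprime k (orderOf y) := by
    rw [hy]
    exact (Nat.Coprime.symm ((Nat.Prime.coprime_iff_not_dvd hp).2
      (fun h => absurd (Nat.le_of_dvd hk0 h) (by omega))))
  obtain ⟨l, hl⟩ := exists_pow_eq_self_of_coprime hcop
  ext g
  rw [Subgroup.mem_centralizer_singleton_iff, Subgroup.mem_centralizer_singleton_iff]
  constructor
  · intro h
    have hc : Commute g (y ^ k) := h
    have := hc.pow_right l
    rw [hl] at this
    exact this
  · intro h
    have hc : Commute g y := h
    exact hc.pow_right k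

theorem exists_central_elt {G : Type*} [Group G] [Fintype G] (p a r : ℕ) [hp : Fact p.Prime]
    (ha : 0 < a) (hcard : Nat.card G = p ^ a * r) (hr : ¬ p ∣ r) :
    ∃ y : G, orderOf y = p ∧ ∃ c : ℕ, c ∣ r ∧
      ∀ k, 0 < k → k < p → (Subgroup.centralizer ({y ^ k} : Set G)).index = c := by
  classical
  have hr0 : r ≠ 0 := fun h => hr (h ▸ dvd_zero p)
  obtain ⟨P⟩ : Nonempty (Sylow p G) := inferInstance
  have hPcard : Nat.card P = p ^ a := by
    rw [P.card_eq_multiplicity, hcard, Nat.factorization_mul (pow_ne_zero _ hp.out.ne_zero) hr0]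
    simp [hp.out.factorization_pow, Nat.factorization_eq_zero_of_not_dvd hr]
  haveI : Nontrivial P := by
    rw [← Finite.one_lt_card_iff_nontrivial, hPcard]
    exact Nat.one_lt_pow ha.ne' hp.out.one_lt
  have hPp : IsPGroup p P := P.isPGroup'
  haveI : Nontrivial (Subgroup.center P) := hPp.center_nontrivial
  have hdvd : p ∣ Nat.card (Subgroup.center P) := by
    have h1 : IsPGroup p (Subgroup.center P) := hPp.to_subgroup _
    rcases h1.card_eq_or_dvd with h | h
    · exact absurd h (Finite.one_lt_card_iff_nontrivial.2 inferInstance).ne'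
    · exact h
  obtain ⟨z, hz⟩ := exists_prime_orderOf_dvd_card' p hdvd
  obtain ⟨y, hy⟩ : ∃ y : G, y = ((z : P) : G) := ⟨_, rfl⟩
  have hyord : orderOf y = p := by
    rw [hy, Subgroup.orderOf_coe, Subgroup.orderOf_coe, hz]
  have hPC : (P : Subgroup G) ≤ Subgroup.centralizer ({y} : Set G) := by
    intro g hg
    rw [Subgroup.mem_centralizer_singleton_iff, hy]
    have hzc := Subgroup.mem_center_iff.1 z.2 ⟨g, hg⟩
    have := congrArg (fun t : P => (t : G)) hzc
    simpa using this
  refine ⟨y, hyord, (Subgroup.centralizer ({y} : Set G)).index, ?_, ?_⟩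
  · have h1 := Subgroup.index_mul_card (Subgroup.centralizer ({y} : Set G))
    obtain ⟨t, ht⟩ := Subgroup.card_dvd_of_le hPC
    rw [hPcard] at ht
    rw [hcard, ht] at h1
    refine ⟨t, ?_⟩
    have h2 : p ^ a * ((Subgroup.centralizer ({y} : Set G)).index * t) = p ^ a * r := by
      rw [← h1]; ring
    exact (Nat.eq_of_mul_eq_mul_left (pow_pos hp.out.pos a) h2).symm
  · intro k hk0 hkp
    rw [centralizer_pow_eq y p k hp.out hyord hk0 hkp]

end Cfsg.Agent.Lib.Helper9.Bl
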