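import Mathlib
import Cfsg.Agent.Lib.Helper9.BlA
import Cfsg.Agent.Lib.Helper9.BlB
import Cfsg.Agent.Lib.Helper9.BlC
import Cfsg.Agent.Lib.Helper9.BlD
import Cfsg.Agent.Lib.Helper9.BlE
import Cfsg.Agent.Lib.Helper6.BlkVanish
import Cfsg.Agent.Lib.Helper6.Orthogonality
import Cfsg.Agent.Lib.Helper6.Multiplicity
import Cfsg.Agent.Lib.Helper6.Constituent

set_option autoImplicit false
set_option linter.unusedSectionVars false
set_option linter.unusedVariables false
set_option linter.style.longLine false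
set_option linter.unusedSimpArgs false

set_option maxHeartbeats 1600000
namespace Cfsg.Agent.Lib.Helper9.Bl
open Cfsg Cfsg.Agent.Lib.Helper6
open scoped ComplexConjugate BigOperators

theorem partA {G : Type*} [Group G] [Fintype G] [IsSimpleGroup G] (p q a b g₀ : ℕ)
    [hp : Fact p.Prime] (hq : q.Prime) (hpq : p ≠ q) (ha : 0 < a)
    (hg : Nat.card G = p ^ a * q ^ b * g₀) (hcop : ¬ p ∣ g₀) (hcoq : ¬ q ∣ g₀) :
    ∃ (n : ℕ) (ρ : Representation ℂ G (Fin n → ℂ)), ρ.IsIrreducible ∧ Function.Injective ρ ∧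
      ∃ y : G, orderOf y = p ∧ ∃ J : Finset ℕ, J.card ≤ g₀ ∧ (∀ j ∈ J, j < p) ∧
        ∀ j ∈ Finset.range p, spr (ρ y) (zeta p) p j ≠ 0 → j ∈ J := by
  classical
  have hpp : p.Prime := hp.out
  have hg0 : 0 < g₀ := by
    rcases Nat.eq_zero_or_pos g₀ with h | h
    · rw [h, mul_zero] at hg
      exact absurd hg Nat.card_pos.ne'
    · exact h
  obtain ⟨M, hM⟩ := exists_isPModular p
  have hpr : ¬ p ∣ q ^ b * g₀ := by
    intro h
    rcases (Nat.Prime.dvd_mul hpp).1 h with h | h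
    · exact hpq ((Nat.prime_dvd_prime_iff_eq hpp hq).1 (hpp.dvd_of_dvd_pow h))
    · exact hcop h
  obtain ⟨y, hyord, c, hcr, hck⟩ := exists_central_elt p a (q ^ b * g₀) ha
    (by rw [hg, mul_assoc]) hpr
  obtain ⟨χ, hχB, hχne, hχq⟩ := exists_chi p q hq M hM y (by rw [hyord])
  have hchar : Cfsg.IsCharacter G (χ : G → ℂ) := IsIrrCharacter.isCharacter χ.2
  obtain ⟨D, hD⟩ : ∃ D, D = Cfsg.charDegree (χ : G → ℂ) := ⟨_, rfl⟩
  have hDpos : 0 < D := hD ▸ IsIrrCharacter.charDegree_pos χ.2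
  have hDdvd : D ∣ Nat.card G := hD ▸ IsIrrCharacter.charDegree_dvd_card χ.2
  have hdeg : (χ : G → ℂ) 1 = (D : ℂ) := by
    rw [IsCharacter.apply_one_eq_charDegree hchar, hD]
  -- arithmetic
  obtain ⟨e, he⟩ : ∃ e, e = Nat.gcd D c := ⟨_, rfl⟩
  have hepos : 0 < e := he ▸ Nat.gcd_pos_of_pos_left c hDpos
  obtain ⟨v, hv⟩ : ∃ v, v = D / e := ⟨_, rfl⟩
  obtain ⟨c1, hc1⟩ : ∃ c1, c1 = c / e := ⟨_, rfl⟩
  have heD : e ∣ D := he ▸ Nat.gcd_dvd_left D c
  have hec : e ∣ c := he ▸ Nat.gcd_dvd_right D c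
  have hDev : D = e * v := by rw [hv, Nat.mul_div_cancel' heD]
  have hcec : c = e * c1 := by rw [hc1, Nat.mul_div_cancel' hec]
  have hvpos : 0 < v := by
    rcases Nat.eq_zero_or_pos v with h | h
    · rw [h, mul_zero] at hDev; omega
    · exact h
  have hcopcv : Nat.Coprime c1 v := by
    rw [hc1, hv, he]
    exact (Nat.coprime_div_gcd_div_gcd (he ▸ hepos)).symm
  have hpc : ¬ p ∣ c := fun h => hpr (h.trans hcr)
  have hpc1 : ¬ p ∣ c1 := fun h => hpc (hcec ▸ Dvd.dvd.mul_left h e)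
  have hpe : ¬ p ∣ e := fun h => hpc (h.trans hec)
  have hqe : ¬ q ∣ e := fun h => hχq (hD ▸ h.trans heD)
  have heg : e ∣ g₀ := by
    have h1 : e ∣ p ^ a * q ^ b * g₀ := hg ▸ heD.trans hDdvd
    have h2 : Nat.Coprime e (p ^ a * q ^ b) := by
      apply Nat.Coprime.mul_right
      · exact Nat.Coprime.pow_right a ((Nat.Prime.coprime_iff_not_dvd hpp).2 hpe).symm
      · exact Nat.Coprime.pow_right b ((Nat.Prime.coprime_iff_not_dvd hq).2 hqe).symm
    exact h2.dvd_of_dvd_mul_left h1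
  have hele : e ≤ g₀ := Nat.le_of_dvd hg0 heg
  -- the γ's
  have hγ : ∀ k ∈ Finset.range p, ∃ γ : ℂ, IsIntegral ℤ γ ∧
      (χ : G → ℂ) (y ^ k) = (v : ℂ) * γ ∧ Cfsg.MemLocalIdeal M ((e : ℂ) - γ) := by
    intro k hk
    rcases Nat.eq_zero_or_pos k with hk0 | hk0
    · subst hk0
      refine ⟨(e : ℂ), isIntegral_natCast _, ?_, ?_⟩
      · rw [pow_zero, hdeg, hDev]; push_cast; ring
      · rw [sub_self]; exact memLocalIdeal_zero hM
    · exact exists_gamma p M hM χ hχB (y ^ k) c e v c1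
        (hck k hk0 (Finset.mem_range.1 hk)) hpc1 (hD ▸ hDev) hcec hcopcv hvpos hepos
  -- the representation
  obtain ⟨n, ρ, hirr, hρχ⟩ := χ.2
  have hTp : (ρ y) ^ p = 1 := by
    rw [← map_pow, ← hyord, pow_orderOf_eq_one, map_one]
  have hζ := zeta_prim p hpp.pos
  have htr : ∀ k : ℕ, LinearMap.trace ℂ (Fin n → ℂ) ((ρ y) ^ k) = (χ : G → ℂ) (y ^ k) := by
    intro k
    rw [← map_pow, ← hρχ]
    rfl
  -- multiplicities
  have hmult : ∀ j : ℕ, ∃ m : ℕ, LinearMap.trace ℂ (Fin n → ℂ) (spr (ρ y) (zeta p) p j) = (m : ℂ) ∧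
      (m = 0 → spr (ρ y) (zeta p) p j = 0) ∧ v ∣ m := by
    intro j
    obtain ⟨m, hm1, hm2⟩ := trace_spr_nat (ρ y) (zeta p) p hpp.pos hζ hTp j
    refine ⟨m, hm1, hm2, ?_⟩
    apply mult_dvd p M hM (χ : G → ℂ) y e v hvpos hγ (zeta p) hζ.pow_eq_one j m
    rw [← hm1, trace_spr]
    congr 1
    exact Finset.sum_congr rfl (fun k _ => by rw [htr k])
  choose m hm1 hm2 hm3 using hmult
  have hsum : ∑ j ∈ Finset.range p, m j = D := by
    have h1 : ∑ j ∈ Finset.range p, LinearMap.trace ℂ (Fin n → ℂ) (spr (ρ y) (zeta p) p j) =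
        LinearMap.trace ℂ (Fin n → ℂ) 1 := by
      rw [← map_sum, sum_spr (ρ y) (zeta p) p hpp.pos hζ hTp]
    have h2 : LinearMap.trace ℂ (Fin n → ℂ) 1 = (D : ℂ) := by
      rw [← hdeg, ← hρχ]
      show _ = LinearMap.trace ℂ (Fin n → ℂ) (ρ 1)
      rw [map_one ρ]
    rw [Finset.sum_congr rfl (fun j _ => hm1 j), h2] at h1
    exact_mod_cast h1
  refine ⟨n, ρ, hirr, ?_, y, hyord,
    (Finset.range p).filter (fun j => spr (ρ y) (zeta p) p j ≠ 0), ?_,
    fun j hj => Finset.mem_range.1 (Finset.mem_filter.1 hj).1,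
    fun j hj hne => Finset.mem_filter.2 ⟨hj, hne⟩⟩
  · -- faithful
    rw [← MonoidHom.ker_eq_bot_iff]
    rcases (MonoidHom.normal_ker ρ).eq_bot_or_eq_top with h | h
    · exact h
    · exfalso
      have hall : ∀ g : G, (χ : G → ℂ) g = (D : ℂ) := by
        intro g
        have hg1 : ρ g = 1 := by
          have : g ∈ MonoidHom.ker ρ := by rw [h]; exact Subgroup.mem_top g
          exact MonoidHom.mem_ker.1 this
        rw [← hdeg, ← hρχ]
        show LinearMap.trace ℂ (Fin n → ℂ) (ρ g) = LinearMap.trace ℂ (Fin n → ℂ) (ρ 1)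
        rw [hg1, map_one ρ]
      have h1 := classInner_irrCharacter χ (oneIrr G)
      rw [if_neg hχne] at h1
      unfold Cfsg.classInner at h1
      have h2 : ∑ g : G, (χ : G → ℂ) g * conj (((oneIrr G : Cfsg.IrrCharacter G) : G → ℂ) g) =
          (Nat.card G : ℂ) * (D : ℂ) := by
        have : ∀ g : G, (χ : G → ℂ) g * conj (((oneIrr G : Cfsg.IrrCharacter G) : G → ℂ) g) =
            (D : ℂ) := by
          intro g
          rw [hall g]
          show (D : ℂ) * conj (1 : ℂ) = D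
          simp
        rw [Finset.sum_congr rfl (fun g _ => this g), Finset.sum_const, Finset.card_univ,
          nsmul_eq_mul, Nat.card_eq_fintype_card]
      rw [h2] at h1
      have hcard0 : (Nat.card G : ℂ) ≠ 0 := by exact_mod_cast Nat.card_pos.ne'
      have hD0 : (D : ℂ) ≠ 0 := by exact_mod_cast hDpos.ne'
      rw [← mul_assoc, inv_mul_cancel₀ hcard0, one_mul] at h1
      exact hD0 h1
  · -- the count
    have h1 : ∀ j ∈ (Finset.range p).filter (fun j => spr (ρ y) (zeta p) p j ≠ 0), v ≤ m j := by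
      intro j hj
      rw [Finset.mem_filter] at hj
      have hmj : m j ≠ 0 := fun h => hj.2 (hm2 j h)
      exact Nat.le_of_dvd (Nat.pos_of_ne_zero hmj) (hm3 j)
    have h2 : ((Finset.range p).filter (fun j => spr (ρ y) (zeta p) p j ≠ 0)).card * v ≤
        ∑ j ∈ (Finset.range p).filter (fun j => spr (ρ y) (zeta p) p j ≠ 0), m j := by
      rw [← smul_eq_mul, ← Finset.sum_const]
      exact Finset.sum_le_sum h1
    have h3 : ∑ j ∈ (Finset.range p).filter (fun j => spr (ρ y) (zeta p) p j ≠ 0), m j ≤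
        ∑ j ∈ Finset.range p, m j :=
      Finset.sum_le_sum_of_subset (Finset.filter_subset _ _)
    rw [hsum, hDev] at h3
    have h4 : ((Finset.range p).filter (fun j => spr (ρ y) (zeta p) p j ≠ 0)).card * v ≤ e * v :=
      h2.trans h3
    exact (Nat.le_of_mul_le_mul_right h4 hvpos).trans hele

end Cfsg.Agent.Lib.Helper9.Bl
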