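import Mathlib
import Cfsg.Agent.Lib.Helper9.BlF
import Cfsg.Agent.Lib.Helper2.BlichF
import Cfsg.Agent.Lib.Lead.SmallSimple2

set_option autoImplicit false
set_option linter.unusedSectionVars false
set_option linter.unusedVariables false
set_option linter.style.longLine false
set_option linter.unusedSimpArgs false

set_option maxHeartbeats 1600000
namespace Cfsg.Agent.Lib.Helper9.Bl
open Cfsg
open scoped BigOperators

theorem main {G : Type*} [Group G] [Finite G] [IsSimpleGroup G] (p q a b g₀ : ℕ) (hp : p.Prime)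
    (hq : q.Prime) (hpq : p ≠ q) (ha : 0 < a) (hg : Nat.card G = p ^ a * q ^ b * g₀)
    (hcop : ¬ p ∣ g₀) (hcoq : ¬ q ∣ g₀) (hne : Nat.card G ≠ p) : p < 6 ^ (g₀ - 1) := by
  classical
  haveI : Fintype G := Fintype.ofFinite G
  haveI : Fact p.Prime := ⟨hp⟩
  by_contra hcon
  push Not at hcon
  -- nonabelian
  have hnp : ¬ (Nat.card G).Prime := by
    intro hpr
    have hdvd : p ∣ Nat.card G := by
      rw [hg, mul_assoc]; exact Dvd.dvd.mul_right (dvd_pow_self p ha.ne') _
    exact hne ((Nat.prime_dvd_prime_iff_eq hp hpr).1 hdvd).symm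
  have hna : ∃ x z : G, x * z ≠ z * x := by
    by_contra h
    push Not at h
    exact Cfsg.Agent.Lib.Lead.SmallSimple2.not_comm_of_not_prime hnp (isMulCommutative_iff.2 h)
  obtain ⟨n, ρ, hirr, hinj, y, hyord, J, hJcard, hJlt, hJ⟩ :=
    partA (G := G) p q a b g₀ hq hpq ha hg hcop hcoq
  haveI := hirr
  have hTp : (ρ y) ^ p = 1 := by
    rw [← map_pow, ← hyord, pow_orderOf_eq_one, map_one]
  have hζ := zeta_prim p hp.pos
  obtain ⟨J', hJ'⟩ : ∃ J' : Finset ℕ, J' = J.filter (fun j => spr (ρ y) (zeta p) p j ≠ 0) := ⟨_, rfl⟩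
  have hJ'card : J'.card ≤ g₀ := by
    rw [hJ']; exact (Finset.card_filter_le _ _).trans hJcard
  have hJ'lt : ∀ j ∈ J', j < p := by
    intro j hj
    rw [hJ', Finset.mem_filter] at hj
    exact hJlt j hj.1
  have hJ'mem : ∀ j ∈ Finset.range p, spr (ρ y) (zeta p) p j ≠ 0 → j ∈ J' := by
    intro j hj hne
    rw [hJ', Finset.mem_filter]
    exact ⟨hJ j hj hne, hne⟩
  have hJ'ne : ∀ j ∈ J', spr (ρ y) (zeta p) p j ≠ 0 := by
    intro j hj
    rw [hJ', Finset.mem_filter] at hj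
    exact hj.2
  -- J' is nonempty
  obtain ⟨a1, ha1⟩ : ∃ a1, a1 ∈ J' := by
    by_contra hemp
    push Not at hemp
    have hall : ∀ j ∈ Finset.range p, spr (ρ y) (zeta p) p j = 0 := by
      intro j hj
      by_contra hne
      exact hemp j (hJ'mem j hj hne)
    have h1 := sum_spr (ρ y) (zeta p) p hp.pos hζ hTp
    rw [Finset.sum_eq_zero hall] at h1
    obtain ⟨x, z, hxz⟩ := hna
    have hx : ρ x = ρ z := by
      have e1 : ρ x = ρ x * 1 := (mul_one _).symm
      have e2 : ρ z = ρ z * 1 := (mul_one _).symm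
      rw [e1, e2, ← h1, mul_zero, mul_zero]
    have := hinj hx
    rw [this] at hxz
    exact hxz rfl
  have hcard : 6 ^ (J'.card - 1) < p := by
    have h1 : 6 ^ (J'.card - 1) ≤ 6 ^ (g₀ - 1) := Nat.pow_le_pow_right (by norm_num) (by omega)
    rcases Nat.lt_or_ge (6 ^ (J'.card - 1)) p with h | h
    · exact h
    · exfalso
      have heq : 6 ^ (J'.card - 1) = p := le_antisymm (h1.trans hcon) h
      rcases Nat.eq_zero_or_pos (J'.card - 1) with h0 | h0
      · rw [h0, pow_zero] at heq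
        exact hp.one_lt.ne heq
      · have h6 : 6 ∣ p := heq ▸ dvd_pow_self 6 h0.ne'
        have h2 : 2 ∣ p := (by norm_num : 2 ∣ 6).trans h6
        have h3 : 3 ∣ p := (by norm_num : 3 ∣ 6).trans h6
        have e2 := (Nat.prime_dvd_prime_iff_eq Nat.prime_two hp).1 h2
        have e3 := (Nat.prime_dvd_prime_iff_eq Nat.prime_three hp).1 h3
        omega
  obtain ⟨m, hm0, hmp, hclose⟩ := exists_pow_close p hp.pos J' hJ'lt a1 ha1 hcard
  have hym : y ^ m ≠ 1 := by
    intro h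
    have := orderOf_dvd_of_pow_eq_one h
    rw [hyord] at this
    exact absurd (Nat.le_of_dvd hm0 this) (by omega)
  have hρm : ρ (y ^ m) = (ρ y) ^ m := map_pow ρ y m
  apply hym
  refine Cfsg.Agent.Lib.Helper2.Blich.eq_one hna ρ hinj (y ^ m) (zeta p ^ (a1 * m)) ?_ ?_
  · rw [hρm]
    exact hasEigenvalue_pow (ρ y) (zeta p) p hp.pos hζ hTp a1 m (hJ'ne a1 ha1)
  · intro δ hδ
    rw [hρm] at hδ
    obtain ⟨j, hj, hjne, rfl⟩ := eigen_of_pow (ρ y) (zeta p) p hp.pos hζ hTp m δ hδ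
    exact hclose j (hJ'mem j hj hjne)

end Cfsg.Agent.Lib.Helper9.Bl
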