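import Mathlib
import Cfsg.Prelude
import Cfsg.Agent.Lib.Lead.Tw

set_option maxHeartbeats 1600000
set_option autoImplicit false
set_option linter.unusedVariables false
set_option linter.unusedSimpArgs false
set_option linter.unusedSectionVars false
set_option linter.style.longLine false

/-! S1615 piece (P-BLK): conjugation equivariance of `Dn`, `Tb`; the rank 3 constants. -/

namespace Cfsg.Agent.Lib.Helper9.Blk5

open Cfsg Cfsg.Agent.Lib.Lead.Tw

variable {G : Type*} [Group G] {D : Set G}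

theorem commute_conj (g : G) {a b : G} (hab : Commute a b) :
    Commute (g * a * g⁻¹) (g * b * g⁻¹) := by
  show g * a * g⁻¹ * (g * b * g⁻¹) = g * b * g⁻¹ * (g * a * g⁻¹)
  calc g * a * g⁻¹ * (g * b * g⁻¹) = g * (a * b) * g⁻¹ := by group
    _ = g * (b * a) * g⁻¹ := by rw [hab.eq]
    _ = g * b * g⁻¹ * (g * a * g⁻¹) := by group

theorem commute_of_conj (g : G) {a b : G} (hab : Commute (g * a * g⁻¹) (g * b * g⁻¹)) :
    Commute a b := by
  have := commute_conj g⁻¹ hab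
  have e1 : g⁻¹ * (g * a * g⁻¹) * g⁻¹⁻¹ = a := by group
  have e2 : g⁻¹ * (g * b * g⁻¹) * g⁻¹⁻¹ = b := by group
  rwa [e1, e2] at this

theorem conj_inj (g : G) {a b : G} (e : g * a * g⁻¹ = g * b * g⁻¹) : a = b := by
  simpa using e

theorem conj_injective (g : G) : Function.Injective (fun v : G => g * v * g⁻¹) :=
  fun a b e => conj_inj g e

theorem Dn_conj (h : Ctx D) (g : G) {x u : G} (hu : u ∈ Dn D x) :
    g * u * g⁻¹ ∈ Dn D (g * x * g⁻¹) :=
  ⟨h.conj g u hu.1, fun e => hu.2.1 (conj_inj g e), commute_conj g hu.2.2⟩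

theorem Dn_conj_iff (h : Ctx D) (g : G) {x u : G} :
    g * u * g⁻¹ ∈ Dn D (g * x * g⁻¹) ↔ u ∈ Dn D x := by
  constructor
  · intro hu
    have := Dn_conj h g⁻¹ hu
    have e1 : g⁻¹ * (g * u * g⁻¹) * g⁻¹⁻¹ = u := by group
    have e2 : g⁻¹ * (g * x * g⁻¹) * g⁻¹⁻¹ = x := by group
    rwa [e1, e2] at this
  · exact Dn_conj h g

theorem Dn_conj_eq (h : Ctx D) (g x : G) :
    Dn D (g * x * g⁻¹) = (fun v => g * v * g⁻¹) '' Dn D x := by
  ext w
  constructor
  · intro hw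
    refine ⟨g⁻¹ * w * g, ?_, by group⟩
    have e : w = g * (g⁻¹ * w * g) * g⁻¹ := by group
    rw [e] at hw
    exact (Dn_conj_iff h g).mp hw
  · rintro ⟨v, hv, rfl⟩
    exact Dn_conj h g hv

theorem inter_conj_eq (h : Ctx D) (g x y : G) :
    Dn D (g * x * g⁻¹) ∩ Dn D (g * y * g⁻¹) = (fun v => g * v * g⁻¹) '' (Dn D x ∩ Dn D y) := by
  rw [Dn_conj_eq h g x, Dn_conj_eq h g y, Set.image_inter (conj_injective g)]

theorem inter_conj_eq_iff (h : Ctx D) (g x u y : G) :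
    Dn D (g * x * g⁻¹) ∩ Dn D (g * u * g⁻¹) = Dn D (g * x * g⁻¹) ∩ Dn D (g * y * g⁻¹) ↔
      Dn D x ∩ Dn D u = Dn D x ∩ Dn D y := by
  rw [inter_conj_eq h g x u, inter_conj_eq h g x y]
  exact (Set.image_injective.mpr (conj_injective g)).eq_iff

theorem Tb_conj (h : Ctx D) (g : G) {x y u : G} (hu : u ∈ Tb D x y) :
    g * u * g⁻¹ ∈ Tb D (g * x * g⁻¹) (g * y * g⁻¹) := by
  refine ⟨Dn_conj h g hu.1, ?_⟩
  rcases hu.2 with e | ⟨e1, e2⟩
  · left; rw [e]
  · right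
    exact ⟨fun hc => e1 (commute_of_conj g hc), (inter_conj_eq_iff h g x u y).mpr e2⟩

theorem Tb_conj_eq (h : Ctx D) (g x y : G) :
    Tb D (g * x * g⁻¹) (g * y * g⁻¹) = (fun v => g * v * g⁻¹) '' Tb D x y := by
  ext w
  constructor
  · intro hw
    refine ⟨g⁻¹ * w * g, ?_, by group⟩
    have := Tb_conj h g⁻¹ hw
    have e1 : g⁻¹ * (g * x * g⁻¹) * g⁻¹⁻¹ = x := by group
    have e2 : g⁻¹ * (g * y * g⁻¹) * g⁻¹⁻¹ = y := by group
    have e3 : g⁻¹ * w * g⁻¹⁻¹ = g⁻¹ * w * g := by group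
    rwa [e1, e2, e3] at this
  · rintro ⟨v, hv, rfl⟩
    exact Tb_conj h g hv

theorem conj_of_commute {g d : G} (hg : Commute g d) : g * d * g⁻¹ = d := by
  rw [hg.eq, mul_assoc, mul_inv_cancel, mul_one]

section fin
variable [Finite G]

theorem ncard_Dn (h : Ctx D) {a a' : G} (ha : a ∈ D) (ha' : a' ∈ D) :
    (Dn D a).ncard = (Dn D a').ncard := by
  obtain ⟨g, rfl⟩ := h.tr a ha a' ha'
  rw [Dn_conj_eq h g a, Set.ncard_image_of_injective _ (conj_injective g)]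

theorem ncard_An (h : Ctx D) {a a' : G} (ha : a ∈ D) (ha' : a' ∈ D) :
    {c : G | c ∈ D ∧ ¬ Commute a c}.ncard = {c : G | c ∈ D ∧ ¬ Commute a' c}.ncard := by
  obtain ⟨g, rfl⟩ := h.tr a ha a' ha'
  have e : {c : G | c ∈ D ∧ ¬ Commute (g * a * g⁻¹) c}
      = (fun v => g * v * g⁻¹) '' {c : G | c ∈ D ∧ ¬ Commute a c} := by
    ext w
    constructor
    · rintro ⟨hw, hc⟩
      refine ⟨g⁻¹ * w * g, ⟨?_, ?_⟩, by group⟩
      · have := h.conj g⁻¹ w hw
        rwa [inv_inv] at this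
      · intro hc'
        apply hc
        have := commute_conj g hc'
        have e : g * (g⁻¹ * w * g) * g⁻¹ = w := by group
        rwa [e] at this
    · rintro ⟨v, ⟨hv, hc⟩, rfl⟩
      exact ⟨h.conj g v hv, fun hc' => hc (commute_of_conj g hc')⟩
  rw [e, Set.ncard_image_of_injective _ (conj_injective g)]

theorem ncard_inter_conj (h : Ctx D) (g a b : G) :
    (Dn D (g * a * g⁻¹) ∩ Dn D (g * b * g⁻¹)).ncard = (Dn D a ∩ Dn D b).ncard := by
  rw [inter_conj_eq h g a b, Set.ncard_image_of_injective _ (conj_injective g)]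

theorem ncard_lam (h : Ctx D) {a b a' b' : G} (ha : a ∈ D) (hb : b ∈ Dn D a) (ha' : a' ∈ D)
    (hb' : b' ∈ Dn D a') : (Dn D a ∩ Dn D b).ncard = (Dn D a' ∩ Dn D b').ncard := by
  obtain ⟨g, rfl⟩ := h.tr a ha a' ha'
  obtain ⟨g', hg', rfl⟩ := h.trD _ ha' _ (Dn_conj h g hb) b' hb'
  rw [← ncard_inter_conj h g a b, ← ncard_inter_conj h g' (g * a * g⁻¹) (g * b * g⁻¹),
    conj_of_commute hg']

theorem ncard_mu (h : Ctx D) {a b a' b' : G} (ha : a ∈ D) (hb : b ∈ D) (hab : ¬ Commute a b)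
    (ha' : a' ∈ D) (hb' : b' ∈ D) (hab' : ¬ Commute a' b') :
    (Dn D a ∩ Dn D b).ncard = (Dn D a' ∩ Dn D b').ncard := by
  obtain ⟨g, rfl⟩ := h.tr a ha a' ha'
  obtain ⟨g', hg', rfl⟩ := h.trA _ ha' _ (h.conj g b hb) b' hb'
    (fun hc => hab (commute_of_conj g hc)) hab'
  rw [← ncard_inter_conj h g a b, ← ncard_inter_conj h g' (g * a * g⁻¹) (g * b * g⁻¹),
    conj_of_commute hg']

theorem ncard_Tb_conj (h : Ctx D) (g a b : G) :
    (Tb D (g * a * g⁻¹) (g * b * g⁻¹)).ncard = (Tb D a b).ncard := by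
  rw [Tb_conj_eq h g a b, Set.ncard_image_of_injective _ (conj_injective g)]

theorem ncard_Tb (h : Ctx D) {a b a' b' : G} (ha : a ∈ D) (hb : b ∈ Dn D a) (ha' : a' ∈ D)
    (hb' : b' ∈ Dn D a') : (Tb D a b).ncard = (Tb D a' b').ncard := by
  obtain ⟨g, rfl⟩ := h.tr a ha a' ha'
  obtain ⟨g', hg', rfl⟩ := h.trD _ ha' _ (Dn_conj h g hb) b' hb'
  rw [← ncard_Tb_conj h g a b, ← ncard_Tb_conj h g' (g * a * g⁻¹) (g * b * g⁻¹),
    conj_of_commute hg']

end fin

/-- two distinct neighbours of `x` with the same common neighbourhood do not commute -/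
theorem not_commute_of_inter_eq {x u w : G} (hu : u ∈ Dn D x) (hw : w ∈ Dn D x) (hne : u ≠ w)
    (e : Dn D x ∩ Dn D u = Dn D x ∩ Dn D w) : ¬ Commute u w := by
  intro hc
  have h1 : u ∈ Dn D x ∩ Dn D w := ⟨hu, hu.1, hne, hc.symm⟩
  rw [← e] at h1
  exact h1.2.2.1 rfl

theorem mem_Tb_iff {x y u : G} (hy : y ∈ Dn D x) :
    u ∈ Tb D x y ↔ u ∈ Dn D x ∧ Dn D x ∩ Dn D u = Dn D x ∩ Dn D y := by
  constructor
  · rintro ⟨hu, e | ⟨_, e⟩⟩
    · exact ⟨hu, by rw [e]⟩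
    · exact ⟨hu, e⟩
  · rintro ⟨hu, e⟩
    refine ⟨hu, ?_⟩
    by_cases huy : u = y
    · exact Or.inl huy
    · exact Or.inr ⟨not_commute_of_inter_eq hu hy huy e, e⟩

theorem Tb_eq_of_mem {x y u : G} (hy : y ∈ Dn D x) (hu : u ∈ Tb D x y) :
    Tb D x u = Tb D x y := by
  have hu' := (mem_Tb_iff hy).mp hu
  ext w
  rw [mem_Tb_iff hy, mem_Tb_iff hu'.1, hu'.2]

theorem not_commute_of_mem_Tb {x y u u' : G} (hy : y ∈ Dn D x) (hu : u ∈ Tb D x y)
    (hu' : u' ∈ Tb D x y) (hne : u ≠ u') : ¬ Commute u u' := by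
  have h1 := (mem_Tb_iff hy).mp hu
  have h2 := (mem_Tb_iff hy).mp hu'
  exact not_commute_of_inter_eq h1.1 h2.1 hne (h1.2.trans h2.2.symm)

theorem mul_self_of_mem (h : Ctx D) {d : G} (hd : d ∈ D) : d * d = 1 := by
  have h2 := h.tset.1 d hd
  rw [← pow_two, ← h2, pow_orderOf_eq_one]

theorem inv_of_mem (h : Ctx D) {d : G} (hd : d ∈ D) : d⁻¹ = d :=
  inv_eq_of_mul_eq_one_left (mul_self_of_mem h hd)

theorem line_mem_Tb (h : Ctx D) {x y u u' : G} (hx : x ∈ D) (hy : y ∈ Dn D x)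
    (hu : u ∈ Tb D x y) (hu' : u' ∈ Tb D x y) : u' * u * u' ∈ Tb D x y := by
  have e := Tb_eq_of_mem hy hu'
  have hu2 : u ∈ Tb D x u' := by rw [e]; exact hu
  have := Tb_conj h u' hu2
  have hinv : u'⁻¹ = u' := inv_of_mem h hu'.1.1
  have e1 : u' * x * u'⁻¹ = x := conj_of_commute hu'.1.2.2.symm
  have e2 : u' * u' * u'⁻¹ = u' := by group
  rw [e1, e2, e] at this
  rw [hinv] at this
  exact this

theorem three_le_ncard_Tb [Finite G] (h : Ctx D) {x y y' : G} (hx : x ∈ D) (hy : y ∈ Dn D x)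
    (hy' : y' ∈ Tb D x y) (hne : y' ≠ y) : 3 ≤ (Tb D x y).ncard := by
  have hyT : y ∈ Tb D x y := ⟨hy, Or.inl rfl⟩
  have hz : y' * y * y' ∈ Tb D x y := line_mem_Tb h hx hy hyT hy'
  have hnc : ¬ Commute y' y := not_commute_of_mem_Tb hy hy' hyT hne
  have hy'2 : y' * y' = 1 := mul_self_of_mem h hy'.1.1
  have h1 : y' * y * y' ≠ y' := by
    intro e
    apply hne
    have e2 : y' * y = 1 := by
      have : y' * y * y' = 1 * y' := by rw [one_mul]; exact e
      exact mul_right_cancel this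
    calc y' = y' * (y' * y) := by rw [e2, mul_one]
      _ = (y' * y') * y := by group
      _ = y := by rw [hy'2, one_mul]
  have h2 : y' * y * y' ≠ y := by
    intro e
    apply hnc
    show y' * y = y * y'
    calc y' * y = y' * y * (y' * y') := by rw [hy'2, mul_one]
      _ = (y' * y * y') * y' := by group
      _ = y * y' := by rw [e]
  have hsub : ({y' * y * y', y', y} : Set G) ⊆ Tb D x y := by
    rintro w (rfl | rfl | rfl)
    · exact hz
    · exact hy'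
    · exact hyT
  have hc : ({y' * y * y', y', y} : Set G).ncard = 3 := by
    rw [Set.ncard_insert_of_notMem (by
      simp only [Set.mem_insert_iff, Set.mem_singleton_iff, not_or]
      exact ⟨h1, h2⟩), Set.ncard_pair hne]
  rw [← hc]
  exact Set.ncard_le_ncard hsub (Set.toFinite _)

end Cfsg.Agent.Lib.Helper9.Blk5
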