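import Mathlib

set_option autoImplicit false
set_option linter.unusedSectionVars false
set_option linter.unusedVariables false
set_option linter.style.longLine false
set_option linter.unusedSimpArgs false

set_option maxHeartbeats 1600000
namespace Cfsg.Agent.Lib.Helper9.BnM3

open scoped BigOperators

section LocalRing

variable {R Z : Type*} [CommRing R] [IsLocalRing R] [CommGroup Z] [Fintype Z] [DecidableEq Z]

theorem eq_algebraMap_add_sum (a : MonoidAlgebra R Z) :
    a = (algebraMap R (MonoidAlgebra R Z)) (∑ z, a.coeff z) +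
      ∑ z, a.coeff z • (MonoidAlgebra.single z (1:R) - 1) := by
  have h1 : a = ∑ z, MonoidAlgebra.single z (a.coeff z) := by
    conv_lhs => rw [← MonoidAlgebra.sum_coeff_single a]
    rw [Finsupp.sum_fintype]
    intro i; simp
  have h2 : ∀ z : Z, a.coeff z • (MonoidAlgebra.single z (1:R) - 1) =
      MonoidAlgebra.single z (a.coeff z) - algebraMap R (MonoidAlgebra R Z) (a.coeff z) := by
    intro z
    rw [smul_sub, MonoidAlgebra.smul_single', mul_one, Algebra.algebraMap_eq_smul_one]
  rw [Finset.sum_congr rfl (fun z _ => h2 z), Finset.sum_sub_distrib,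
    ← map_sum (algebraMap R (MonoidAlgebra R Z)), ← h1]
  abel

theorem single_sub_one_mem (p : ℕ) [Fact p.Prime] (hp : ¬ IsUnit (p : R)) (hZ : IsPGroup p Z)
    (n : Ideal (MonoidAlgebra R Z)) (hn : n.IsMaximal) (z : Z) :
    MonoidAlgebra.single z (1:R) - 1 ∈ n := by
  have hmax : (n.comap (algebraMap R (MonoidAlgebra R Z))).IsMaximal :=
    Ideal.isMaximal_comap_of_isIntegral_of_isMaximal n
  have hpn : ((p : ℕ) : MonoidAlgebra R Z) ∈ n := by
    have h1 := IsLocalRing.eq_maximalIdeal hmax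
    have h2 : (p : R) ∈ n.comap (algebraMap R (MonoidAlgebra R Z)) := by
      rw [h1]; exact hp
    simpa using h2
  haveI : Nontrivial (MonoidAlgebra R Z ⧸ n) := Ideal.Quotient.nontrivial_iff.2 hn.ne_top
  haveI : CharP (MonoidAlgebra R Z ⧸ n) p := by
    rw [CharP.charP_iff_prime_eq_zero (Fact.out)]
    have := Ideal.Quotient.eq_zero_iff_mem.2 hpn
    simpa using this
  haveI : n.IsPrime := hn.isPrime
  obtain ⟨k, hk⟩ := hZ z
  have h3 : (Ideal.Quotient.mk n (MonoidAlgebra.single z (1:R)) - 1) ^ p ^ k = 0 := by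
    rw [sub_pow_char_pow, one_pow, ← map_pow, MonoidAlgebra.single_pow, hk, one_pow,
      ← MonoidAlgebra.one_def, map_one, sub_self]
  rw [← Ideal.Quotient.eq_zero_iff_mem, map_sub, map_one]
  exact pow_eq_zero_iff (pow_ne_zero _ (Fact.out : p.Prime).ne_zero) |>.1 h3

theorem isUnit_of_isUnit_sum (p : ℕ) [Fact p.Prime] (hp : ¬ IsUnit (p : R)) (hZ : IsPGroup p Z)
    (a : MonoidAlgebra R Z) (ha : IsUnit (∑ z, a.coeff z)) : IsUnit a := by
  by_contra hna
  obtain ⟨n, hn, han⟩ := exists_max_ideal_of_mem_nonunits hna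
  have h1 : ∑ z, a.coeff z • (MonoidAlgebra.single z (1:R) - 1) ∈ n :=
    Ideal.sum_mem _ (fun z _ => by
      rw [Algebra.smul_def]
      exact Ideal.mul_mem_left _ _ (single_sub_one_mem p hp hZ n hn z))
  have h2 : (algebraMap R (MonoidAlgebra R Z)) (∑ z, a.coeff z) ∈ n := by
    have h3 := eq_algebraMap_add_sum a
    have h4 : (algebraMap R (MonoidAlgebra R Z)) (∑ z, a.coeff z) =
        a - ∑ z, a.coeff z • (MonoidAlgebra.single z (1:R) - 1) := by
      rw [eq_sub_iff_add_eq]; exact h3.symm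
    rw [h4]
    exact Ideal.sub_mem _ han h1
  exact hn.ne_top (Ideal.eq_top_of_isUnit_mem _ h2 (ha.map _))

theorem isLocalRing_monoidAlgebra (p : ℕ) [Fact p.Prime] (hp : ¬ IsUnit (p : R))
    (hZ : IsPGroup p Z) : IsLocalRing (MonoidAlgebra R Z) := by
  refine IsLocalRing.of_isUnit_or_isUnit_one_sub_self (fun a => ?_)
  rcases IsLocalRing.isUnit_or_isUnit_one_sub_self (∑ z, a.coeff z) with h | h
  · exact Or.inl (isUnit_of_isUnit_sum p hp hZ a h)
  · refine Or.inr (isUnit_of_isUnit_sum p hp hZ _ ?_)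
    have : ∑ z, (1 - a).coeff z = 1 - ∑ z, a.coeff z := by
      simp only [MonoidAlgebra.coeff_sub, Finsupp.sub_apply, Finset.sum_sub_distrib]
      congr 1
      simp [MonoidAlgebra.one_def, Finsupp.single_apply]
    rw [this]; exact h

end LocalRing

end Cfsg.Agent.Lib.Helper9.BnM3
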