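import Mathlib

set_option autoImplicit false
set_option linter.unusedSectionVars false
set_option linter.unusedVariables false
set_option linter.style.longLine false
set_option linter.unusedSimpArgs false

set_option maxHeartbeats 1600000
namespace Cfsg.Agent.Lib.Helper9.BnM3

open scoped BigOperators

section Trace

variable {A M : Type*} [CommRing A] [IsLocalRing A] [AddCommGroup M] [Module A M]
  [Module.Free A M] [Module.Finite A M]

theorem trace_idem_lin (f : M →ₗ[A] M) (hf : IsIdempotentElem f) :
    ∃ n : ℕ, LinearMap.trace A M f = (n : A) := by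
  have hff : ∀ x, f (f x) = f x := fun x => by
    have := congrArg (fun g : M →ₗ[A] M => g x) hf.eq
    simpa using this
  have hproj : LinearMap.IsProj (LinearMap.range f) f := LinearMap.IsIdempotentElem.isProj_range f hf
  haveI : Module.Projective A (LinearMap.range f) :=
    Module.Projective.of_split (Submodule.subtype _) f.rangeRestrict (by
      ext ⟨x, y, rfl⟩
      simp [hff])
  have hmem : ∀ x : M, ((LinearMap.id : M →ₗ[A] M) - f) x ∈ LinearMap.ker f := fun x => by
    simp [hff]
  haveI : Module.Projective A (LinearMap.ker f) :=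
    Module.Projective.of_split (Submodule.subtype _)
      (((LinearMap.id : M →ₗ[A] M) - f).codRestrict (LinearMap.ker f) hmem) (by
      ext ⟨x, hx⟩
      have hx' : f x = 0 := hx
      simp [hx'])
  haveI : Module.Finite A (LinearMap.ker f) :=
    Module.Finite.of_surjective (((LinearMap.id : M →ₗ[A] M) - f).codRestrict (LinearMap.ker f) hmem) (by
      rintro ⟨x, hx⟩
      have hx' : f x = 0 := hx
      refine ⟨x, ?_⟩
      ext
      simp [hx'])
  haveI : Module.Free A (LinearMap.range f) := Module.free_of_flat_of_isLocalRing
  haveI : Module.Free A (LinearMap.ker f) := Module.free_of_flat_of_isLocalRing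
  exact ⟨_, hproj.trace⟩

end Trace

theorem trace_idem_matrix {A I : Type*} [CommRing A] [IsLocalRing A] [Fintype I] [DecidableEq I]
    (C : Matrix I I A) (hC : C * C = C) : ∃ n : ℕ, C.trace = (n : A) := by
  have hidem : IsIdempotentElem (Matrix.toLin' C) := by
    unfold IsIdempotentElem
    rw [Module.End.mul_eq_comp, ← Matrix.toLin'_mul, hC]
  obtain ⟨n, hn⟩ := trace_idem_lin (Matrix.toLin' C) hidem
  exact ⟨n, by rw [← hn, Matrix.trace_toLin'_eq]⟩

end Cfsg.Agent.Lib.Helper9.BnM3
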