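import Mathlib
import Cfsg.Agent.Lib.Helper9.BnM3a
import Cfsg.Agent.Lib.Helper9.BnM3b

set_option autoImplicit false
set_option linter.unusedSectionVars false
set_option linter.unusedVariables false
set_option linter.style.longLine false
set_option linter.unusedSimpArgs false

set_option maxHeartbeats 1600000
namespace Cfsg.Agent.Lib.Helper9.BnM3

open scoped BigOperators

theorem trace_idem_prod {R Z I : Type*} [CommRing R] [IsLocalRing R] [CommGroup Z] [Fintype Z]
    [DecidableEq Z] [Fintype I] [DecidableEq I] (p : ℕ) [Fact p.Prime] (hp : ¬ IsUnit (p : R))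
    (hZ : IsPGroup p Z) (E : Matrix (I × Z) (I × Z) R) (hE : E * E = E)
    (hinv : ∀ (w : Z) a z b z', E (a, z * w) (b, z' * w) = E (a, z) (b, z'))
    (z0 : Z) (hz0 : z0 ≠ 1) : ∑ a, ∑ z, E (a, z * z0) (a, z) = 0 := by
  haveI : IsLocalRing (MonoidAlgebra R Z) := isLocalRing_monoidAlgebra p hp hZ
  obtain ⟨C, hCdef⟩ : ∃ C : Matrix I I (MonoidAlgebra R Z),
      C = fun a b => ∑ z, MonoidAlgebra.single z (E (a, z) (b, 1)) := ⟨_, rfl⟩
  have hcoef : ∀ a b w, (C a b).coeff w = E (a, w) (b, 1) := by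
    intro a b w
    rw [hCdef]
    simp only [MonoidAlgebra.coeff_sum, Finsupp.finsetSum_apply, MonoidAlgebra.coeff_single,
      Finsupp.single_apply]
    rw [Finset.sum_ite_eq' Finset.univ w]
    simp
  have hCC : C * C = C := by
    ext a c w
    rw [Matrix.mul_apply, MonoidAlgebra.coeff_sum, Finsupp.finsetSum_apply, hcoef]
    have h1 : ∀ b, (C a b * C b c).coeff w = ∑ h, E (a, w) (b, h) * E (b, h) (c, 1) := by
      intro b
      rw [MonoidAlgebra.coeff_mul_apply_right, Finsupp.sum_fintype _ _ (by intro i; simp)]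
      refine Finset.sum_congr rfl (fun h _ => ?_)
      rw [hcoef, hcoef]
      have := hinv h a (w * h⁻¹) b 1
      rw [inv_mul_cancel_right, one_mul] at this
      rw [this]
    rw [Finset.sum_congr rfl (fun b _ => h1 b)]
    have h2 := congrFun (congrFun hE (a, w)) (c, 1)
    rw [Matrix.mul_apply, Fintype.sum_prod_type] at h2
    exact h2
  obtain ⟨n, hn⟩ := trace_idem_matrix C hCC
  have h3 : ∑ a, E (a, z0) (a, 1) = 0 := by
    have h4 : (C.trace).coeff z0 = ∑ a, E (a, z0) (a, 1) := by
      rw [Matrix.trace, MonoidAlgebra.coeff_sum, Finsupp.finsetSum_apply]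
      exact Finset.sum_congr rfl (fun a _ => hcoef a a z0)
    rw [← h4, hn, MonoidAlgebra.coeff_natCast, Finsupp.single_apply, if_neg (Ne.symm hz0)]
  have h5 : ∀ a z, E (a, z * z0) (a, z) = E (a, z0) (a, 1) := by
    intro a z
    have := hinv z a z0 a 1
    rw [one_mul, mul_comm z0 z] at this
    exact this
  rw [Finset.sum_congr rfl (fun a _ => Finset.sum_congr rfl (fun z _ => h5 a z))]
  simp only [Finset.sum_const, Finset.card_univ]
  rw [← Finset.smul_sum, h3, smul_zero]

end Cfsg.Agent.Lib.Helper9.BnM3
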