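import Mathlib
import Cfsg.Agent.Lib.Helper9.BnM3a
import Cfsg.Agent.Lib.Helper9.BnM3b

set_option autoImplicit false
set_option linter.unusedSectionVars false
set_option linter.unusedVariables false
set_option linter.style.longLine false
set_option linter.unusedSimpArgs false

set_option maxHeartbeats 1600000
namespace Cfsg.Agent.Lib.Helper9.BnM3

open scoped BigOperators

section LiftMat

variable {R Z I : Type*} [CommRing R] [CommGroup Z] [Fintype Z] [DecidableEq Z]
  [Fintype I] [DecidableEq I]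

/-- the matrix over the group algebra attached to a `Z`-invariant matrix -/
noncomputable def liftMat (E : Matrix (I × Z) (I × Z) R) : Matrix I I (MonoidAlgebra R Z) :=
  fun a b => ∑ z, MonoidAlgebra.single z (E (a, z) (b, 1))

theorem liftMat_coeff (E : Matrix (I × Z) (I × Z) R) (a b : I) (w : Z) :
    (liftMat E a b).coeff w = E (a, w) (b, 1) := by
  unfold liftMat
  simp only [MonoidAlgebra.coeff_sum, Finsupp.finsetSum_apply, MonoidAlgebra.coeff_single,
    Finsupp.single_apply]
  rw [Finset.sum_ite_eq' Finset.univ w]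
  simp

theorem liftMat_idem (E : Matrix (I × Z) (I × Z) R) (hE : E * E = E)
    (hinv : ∀ (w : Z) a z b z', E (a, z * w) (b, z' * w) = E (a, z) (b, z')) :
    liftMat E * liftMat E = liftMat E := by
  ext a c w
  rw [Matrix.mul_apply, MonoidAlgebra.coeff_sum, Finsupp.finsetSum_apply, liftMat_coeff]
  have h1 : ∀ b, (liftMat E a b * liftMat E b c).coeff w =
      ∑ h, E (a, w) (b, h) * E (b, h) (c, 1) := by
    intro b
    rw [MonoidAlgebra.coeff_mul_apply_right, Finsupp.sum_fintype _ _ (by intro i; simp)]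
    refine Finset.sum_congr rfl (fun h _ => ?_)
    rw [liftMat_coeff, liftMat_coeff]
    have := hinv h a (w * h⁻¹) b 1
    rw [inv_mul_cancel_right, one_mul] at this
    rw [this]
  rw [Finset.sum_congr rfl (fun b _ => h1 b)]
  have h2 := congrFun (congrFun hE (a, w)) (c, 1)
  rw [Matrix.mul_apply, Fintype.sum_prod_type] at h2
  exact h2

theorem liftMat_trace_coeff (E : Matrix (I × Z) (I × Z) R) (w : Z) :
    ((liftMat E).trace).coeff w = ∑ a, E (a, w) (a, 1) := by
  rw [Matrix.trace, MonoidAlgebra.coeff_sum, Finsupp.finsetSum_apply]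
  exact Finset.sum_congr rfl (fun a _ => liftMat_coeff E a a w)

theorem sum_shift_eq (E : Matrix (I × Z) (I × Z) R)
    (hinv : ∀ (w : Z) a z b z', E (a, z * w) (b, z' * w) = E (a, z) (b, z')) (z0 : Z) :
    ∑ a, ∑ z, E (a, z * z0) (a, z) = Fintype.card Z • ((liftMat E).trace).coeff z0 := by
  have h5 : ∀ a z, E (a, z * z0) (a, z) = E (a, z0) (a, 1) := by
    intro a z
    have := hinv z a z0 a 1
    rw [one_mul, mul_comm z0 z] at this
    exact this
  rw [Finset.sum_congr rfl (fun a _ => Finset.sum_congr rfl (fun z _ => h5 a z))]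
  simp only [Finset.sum_const, Finset.card_univ]
  rw [← Finset.smul_sum, liftMat_trace_coeff]

end LiftMat

section Twist

variable {R H Z I : Type*} [CommRing R] [IsLocalRing R] [CommGroup H] [Fintype H] [DecidableEq H]
  [CommGroup Z] [Fintype Z] [DecidableEq Z] [Fintype I] [DecidableEq I]

/-- the twisted monoid hom `x ↦ χ x • π x` -/
noncomputable def twistHom (π : H →* Z) (χ : H →* R) : H →* MonoidAlgebra R Z where
  toFun x := MonoidAlgebra.single (π x) (χ x)
  map_one' := by rw [map_one, map_one, MonoidAlgebra.one_def]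
  map_mul' x y := by rw [map_mul, map_mul, MonoidAlgebra.single_mul_single]

theorem lift_twist_coeff (π : H →* Z) (χ : H →* R) (y : MonoidAlgebra R H) (z0 : Z) :
    (MonoidAlgebra.lift R (MonoidAlgebra R Z) H (twistHom π χ) y).coeff z0 =
      ∑ x, (if π x = z0 then χ x * y.coeff x else 0) := by
  rw [MonoidAlgebra.lift_apply, Finsupp.sum_fintype _ _ (by intro i; simp)]
  rw [MonoidAlgebra.coeff_sum, Finsupp.finsetSum_apply]
  refine Finset.sum_congr rfl (fun x _ => ?_)
  simp only [twistHom, MonoidHom.coe_mk, OneHom.coe_mk, MonoidAlgebra.smul_single',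
    MonoidAlgebra.coeff_single, Finsupp.single_apply]
  split_ifs <;> ring

theorem twisted_sum_eq_zero (p : ℕ) [Fact p.Prime] (hp : ¬ IsUnit (p : R)) (hZ : IsPGroup p Z)
    (π : H →* Z) (χ : H →* R) (C : Matrix I I (MonoidAlgebra R H)) (hC : C * C = C)
    (z0 : Z) (hz0 : z0 ≠ 1) :
    ∑ x, (if π x = z0 then χ x * (C.trace).coeff x else 0) = 0 := by
  haveI : IsLocalRing (MonoidAlgebra R Z) := isLocalRing_monoidAlgebra p hp hZ
  obtain ⟨Φ, hΦ⟩ : ∃ Φ : MonoidAlgebra R H →+* MonoidAlgebra R Z,
      Φ = (MonoidAlgebra.lift R (MonoidAlgebra R Z) H (twistHom π χ) : _ →+* _) := ⟨_, rfl⟩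
  have hC' : C.map Φ * C.map Φ = C.map Φ := by
    rw [← Matrix.map_mul, hC]
  obtain ⟨n, hn⟩ := trace_idem_matrix (C.map Φ) hC'
  have h1 : Φ C.trace = (C.map Φ).trace := by
    have := AddMonoidHom.map_trace (Φ : MonoidAlgebra R H →+ MonoidAlgebra R Z) C
    simpa using this
  have h2 : (Φ C.trace).coeff z0 = 0 := by
    rw [h1, hn, MonoidAlgebra.coeff_natCast, Finsupp.single_apply, if_neg (Ne.symm hz0)]
  rw [← lift_twist_coeff π χ C.trace z0]
  rw [hΦ] at h2
  exact h2

end Twist

end Cfsg.Agent.Lib.Helper9.BnM3
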