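import Mathlib
import Cfsg.Agent.Lib.Helper9.BnM3d

set_option autoImplicit false
set_option linter.unusedSectionVars false
set_option linter.unusedVariables false
set_option linter.style.longLine false
set_option linter.unusedSimpArgs false

set_option maxHeartbeats 1600000
namespace Cfsg.Agent.Lib.Helper9.BnM3

open scoped BigOperators

section Cyclic

variable {R H I : Type*} [CommRing R] [IsLocalRing R] [IsDomain R] [CommGroup H] [Fintype H]
  [DecidableEq H] [Fintype I] [DecidableEq I]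

theorem natCast_ne_zero_of_not_dvd (p : ℕ) [Fact p.Prime] (hp : ¬ IsUnit (p : R)) (n : ℕ)
    (hn : ¬ p ∣ n) : (n : R) ≠ 0 := by
  intro h0
  have hcop : Nat.Coprime n p := ((Fact.out : p.Prime).coprime_iff_not_dvd.2 hn).symm
  have h1 : IsCoprime (n : R) (p : R) := hcop.cast
  rw [h0, isCoprime_zero_left] at h1
  exact hp h1

theorem geom_sum_eq_zero (w : R) (n : ℕ) (hw : w ^ n = 1) (hw1 : w ≠ 1) :
    ∑ i ∈ Finset.range n, w ^ i = 0 := by
  have h := mul_geom_sum w n
  rw [hw, sub_self] at h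
  rcases mul_eq_zero.1 h with h | h
  · exact absurd (sub_eq_zero.1 h) hw1
  · exact h

theorem coeff_eq_zero_of_cyclic (p : ℕ) [Fact p.Prime] (hp : ¬ IsUnit (p : R))
    (hroot : ∀ n : ℕ, 0 < n → ¬ p ∣ n → ∃ ζ : R, IsPrimitiveRoot ζ n)
    (h0 : H) (hgen : ∀ x : H, x ∈ Subgroup.zpowers h0) (hh : p ∣ orderOf h0)
    (C : Matrix I I (MonoidAlgebra R H)) (hC : C * C = C) : (C.trace).coeff h0 = 0 := by
  classical
  have hpp : p.Prime := Fact.out
  obtain ⟨N, hN⟩ : ∃ N, N = orderOf h0 := ⟨_, rfl⟩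
  have hNpos : 0 < N := hN ▸ orderOf_pos h0
  obtain ⟨k, hk⟩ : ∃ k, k = N.factorization p := ⟨_, rfl⟩
  obtain ⟨n, hn⟩ : ∃ n, n = N / p ^ k := ⟨_, rfl⟩
  have hNkn : p ^ k * n = N := by
    rw [hn, hk]; exact Nat.ordProj_mul_ordCompl_eq_self N p
  have hnp : ¬ p ∣ n := by
    rw [hn, hk]; exact Nat.not_dvd_ordCompl hpp hNpos.ne'
  have hnpos : 0 < n := by
    rcases Nat.eq_zero_or_pos n with h | h
    · rw [h, mul_zero] at hNkn; omega
    · exact h
  have hcop : Nat.Coprime (p ^ k) n := Nat.Coprime.pow_left k (hpp.coprime_iff_not_dvd.2 hnp)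
  have hpowN : ∀ x : H, x ^ N = 1 := by
    intro x
    rw [hN, ← orderOf_dvd_iff_pow_eq_one]
    exact orderOf_dvd_of_mem_zpowers (hgen x)
  -- the quotient by the p'-part
  obtain ⟨U, hU⟩ : ∃ U : Subgroup H, U = (powMonoidHom n : H →* H).ker := ⟨_, rfl⟩
  have hmemU : ∀ x : H, x ∈ U ↔ x ^ n = 1 := by
    intro x; rw [hU, MonoidHom.mem_ker, powMonoidHom_apply]
  haveI : Fintype (H ⧸ U) := Fintype.ofFinite _
  haveI hdec : DecidableEq (H ⧸ U) := Classical.decEq _
  have hZ : IsPGroup p (H ⧸ U) := by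
    intro z
    obtain ⟨x, rfl⟩ := QuotientGroup.mk_surjective z
    refine ⟨k, ?_⟩
    rw [← QuotientGroup.mk_pow, QuotientGroup.eq_one_iff, hmemU, ← pow_mul, hNkn]
    exact hpowN x
  have hz0 : (QuotientGroup.mk' U h0) ≠ 1 := by
    intro h1
    rw [QuotientGroup.mk'_apply, QuotientGroup.eq_one_iff, hmemU] at h1
    have := orderOf_dvd_of_pow_eq_one h1
    exact hnp (hh.trans this)
  -- the character
  obtain ⟨ζ, hζ⟩ := hroot n hnpos hnp
  obtain ⟨ζu, hζu⟩ : ∃ ζu : Rˣ, (ζu : R) = ζ := (hζ.isUnit hnpos.ne')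
  have hordζ : orderOf ζu = n := by
    rw [← orderOf_units, hζu]
    exact hζ.eq_orderOf.symm
  have hdvd : orderOf ζu ∣ orderOf h0 := by
    rw [hordζ, ← hN, ← hNkn]; exact dvd_mul_left _ _
  obtain ⟨χu, hχu⟩ : ∃ χu : H →* Rˣ, χu = monoidHomOfForallMemZpowers hgen hdvd := ⟨_, rfl⟩
  have hχh0 : χu h0 = ζu := by rw [hχu]; exact monoidHomOfForallMemZpowers_apply_gen hgen hdvd
  have hker : ∀ y : H, y ∈ U → χu y = 1 → y = 1 := by
    intro y hyU hy1
    obtain ⟨j, rfl⟩ := Subgroup.mem_zpowers_iff.1 (hgen y)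
    rw [map_zpow, hχh0, ← orderOf_dvd_iff_zpow_eq_one, hordζ] at hy1
    obtain ⟨j', rfl⟩ := hy1
    have h1 : (h0 ^ ((n : ℤ) * j')) ^ (p ^ k) = 1 := by
      rw [← zpow_natCast, ← zpow_mul]
      have : (n : ℤ) * j' * ((p ^ k : ℕ) : ℤ) = ((p ^ k * n : ℕ) : ℤ) * j' := by push_cast; ring
      rw [this, hNkn, zpow_mul, zpow_natCast, hpowN, one_zpow]
    have h2 : (h0 ^ ((n : ℤ) * j')) ^ n = 1 := (hmemU _).1 hyU
    have h3 := Nat.dvd_gcd (orderOf_dvd_of_pow_eq_one h1) (orderOf_dvd_of_pow_eq_one h2)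
    rw [hcop.gcd_eq_one, Nat.dvd_one, orderOf_eq_one_iff] at h3
    exact h3
  -- the twisted sums
  obtain ⟨c, hc⟩ : ∃ c : H → R, c = fun x => (C.trace).coeff x := ⟨_, rfl⟩
  have htw : ∀ i : ℕ, ∑ x, (if QuotientGroup.mk' U x = QuotientGroup.mk' U h0 then
      ((χu x : Rˣ) : R) ^ i * c x else 0) = 0 := by
    intro i
    have := twisted_sum_eq_zero p hp hZ (QuotientGroup.mk' U)
      ((Units.coeHom R).comp (χu ^ i)) C hC _ hz0
    refine Eq.trans (Finset.sum_congr rfl (fun x _ => ?_)) this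
    simp only [hc, MonoidHom.coe_comp, Function.comp_apply, MonoidHom.pow_apply, Units.coeHom_apply,
      Units.val_pow_eq_pow_val]
  obtain ⟨u, hu⟩ : ∃ u : R, u = ((χu h0)⁻¹ : Rˣ) := ⟨_, rfl⟩
  have hsum : ∑ i ∈ Finset.range n, u ^ i * ∑ x, (if QuotientGroup.mk' U x = QuotientGroup.mk' U h0
      then ((χu x : Rˣ) : R) ^ i * c x else 0) = 0 := by
    refine Finset.sum_eq_zero (fun i _ => ?_)
    rw [htw i, mul_zero]
  simp only [Finset.mul_sum] at hsum
  rw [Finset.sum_comm] at hsum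
  have hterm : ∀ x : H, ∑ i ∈ Finset.range n, u ^ i *
      (if QuotientGroup.mk' U x = QuotientGroup.mk' U h0 then ((χu x : Rˣ) : R) ^ i * c x else 0) =
      if x = h0 then (n : R) * c h0 else 0 := by
    intro x
    by_cases hx : x = h0
    · subst hx
      rw [if_pos rfl]
      simp only [if_true]
      have : ∀ i : ℕ, u ^ i * (((χu x : Rˣ) : R) ^ i * c x) = c x := by
        intro i
        rw [← mul_assoc, ← mul_pow, hu, ← Units.val_mul, inv_mul_cancel, Units.val_one, one_pow,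
          one_mul]
      rw [Finset.sum_congr rfl (fun i _ => this i)]
      simp
    · rw [if_neg hx]
      by_cases hq : QuotientGroup.mk' U x = QuotientGroup.mk' U h0
      · simp only [if_pos hq]
        have hyU : x * h0⁻¹ ∈ U := by
          rw [← QuotientGroup.eq_one_iff, QuotientGroup.mk_mul, QuotientGroup.mk_inv]
          rw [QuotientGroup.mk'_apply, QuotientGroup.mk'_apply] at hq
          rw [hq, mul_inv_cancel]
        have hw : ∀ i : ℕ, u ^ i * (((χu x : Rˣ) : R) ^ i * c x) =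
            (((χu (x * h0⁻¹) : Rˣ) : R)) ^ i * c x := by
          intro i
          rw [← mul_assoc, ← mul_pow, hu, ← Units.val_mul, map_mul, map_inv, mul_comm (χu x)]
        rw [Finset.sum_congr rfl (fun i _ => hw i), ← Finset.sum_mul]
        have hwn : (((χu (x * h0⁻¹) : Rˣ) : R)) ^ n = 1 := by
          rw [← Units.val_pow_eq_pow_val, ← map_pow, (hmemU _).1 hyU, map_one, Units.val_one]
        have hw1 : (((χu (x * h0⁻¹) : Rˣ) : R)) ≠ 1 := by
          intro h
          have h' : χu (x * h0⁻¹) = 1 := Units.ext (by rw [h, Units.val_one])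
          have := hker _ hyU h'
          exact hx (mul_inv_eq_one.1 this)
        rw [geom_sum_eq_zero _ n hwn hw1, zero_mul]
      · simp only [if_neg hq, mul_zero, Finset.sum_const_zero]
  rw [Finset.sum_congr rfl (fun x _ => hterm x)] at hsum
  rw [Finset.sum_ite_eq' Finset.univ h0] at hsum
  simp only [Finset.mem_univ, if_true] at hsum
  rcases mul_eq_zero.1 hsum with h | h
  · exact absurd h (natCast_ne_zero_of_not_dvd p hp n hnp)
  · rw [hc] at h; exact h

end Cyclic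

end Cfsg.Agent.Lib.Helper9.BnM3
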