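import Mathlib
import Cfsg.Agent.Lib.Helper9.BnM3e

set_option autoImplicit false
set_option linter.unusedSectionVars false
set_option linter.unusedVariables false
set_option linter.style.longLine false
set_option linter.unusedSimpArgs false

set_option maxHeartbeats 1600000
namespace Cfsg.Agent.Lib.Helper9.BnM3

open scoped BigOperators

theorem sum_idem_shift_eq_zero {R G : Type*} [CommRing R] [IsLocalRing R] [IsDomain R] [Group G]
    [Fintype G] [DecidableEq G] (p : ℕ) [Fact p.Prime] (hp : ¬ IsUnit (p : R))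
    (hroot : ∀ n : ℕ, 0 < n → ¬ p ∣ n → ∃ ζ : R, IsPrimitiveRoot ζ n)
    (E : Matrix G G R) (hE : E * E = E) (hinv : ∀ g x y : G, E (x * g) (y * g) = E x y)
    (h : G) (hh : p ∣ orderOf h) : ∑ x, E (x * h) x = 0 := by
  classical
  obtain ⟨H, hH⟩ : ∃ H : Subgroup G, H = Subgroup.zpowers h := ⟨_, rfl⟩
  have hcomm : ∀ a b : H, a * b = b * a := by
    rintro ⟨a, ha⟩ ⟨b, hb⟩
    rw [hH] at ha hb
    obtain ⟨i, rfl⟩ := Subgroup.mem_zpowers_iff.1 ha
    obtain ⟨j, rfl⟩ := Subgroup.mem_zpowers_iff.1 hb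
    apply Subtype.ext
    simp only [Subgroup.coe_mul]
    rw [← zpow_add, ← zpow_add, add_comm]
  letI : CommGroup H := { (inferInstance : Group H) with mul_comm := hcomm }
  haveI : Fintype (G ⧸ H) := Fintype.ofFinite _
  have hhH : h ∈ H := by rw [hH]; exact Subgroup.mem_zpowers h
  obtain ⟨h0, hh0⟩ : ∃ h0 : H, h0 = ⟨h, hhH⟩ := ⟨_, rfl⟩
  have hgen : ∀ x : H, x ∈ Subgroup.zpowers h0 := by
    rintro ⟨x, hx⟩
    have hx' := hx
    rw [hH] at hx'
    obtain ⟨i, rfl⟩ := Subgroup.mem_zpowers_iff.1 hx'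
    refine Subgroup.mem_zpowers_iff.2 ⟨i, ?_⟩
    apply Subtype.ext
    rw [hh0]
    simp
  have hord : orderOf h0 = orderOf h := by
    rw [hh0]; exact Subgroup.orderOf_mk h hhH
  -- the reindexing
  obtain ⟨φ, hφ⟩ : ∃ φ : (G ⧸ H) × H → G, φ = fun a => a.1.out * (a.2 : G) := ⟨_, rfl⟩
  have hmk : ∀ a : (G ⧸ H) × H, (QuotientGroup.mk (φ a) : G ⧸ H) = a.1 := by
    intro a
    rw [hφ]
    have : ((a.1.out * (a.2 : G) : G) : G ⧸ H) = ((a.1.out : G) : G ⧸ H) := by
      rw [eq_comm, QuotientGroup.eq]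
      simp
    rw [this]
    exact QuotientGroup.out_eq' a.1
  have hbij : Function.Bijective φ := by
    constructor
    · intro a b hab
      have h1 : a.1 = b.1 := by rw [← hmk a, ← hmk b, hab]
      have h2 : (a.2 : G) = (b.2 : G) := by
        rw [hφ] at hab
        simp only at hab
        rw [h1] at hab
        exact mul_left_cancel hab
      exact Prod.ext h1 (Subtype.ext h2)
    · intro x
      have hx : (QuotientGroup.mk x : G ⧸ H).out⁻¹ * x ∈ H := by
        rw [← QuotientGroup.eq]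
        exact QuotientGroup.out_eq' _
      refine ⟨((QuotientGroup.mk x : G ⧸ H), ⟨_, hx⟩), ?_⟩
      rw [hφ]
      simp
  obtain ⟨e, he⟩ : ∃ e : (G ⧸ H) × H ≃ G, ∀ a, e a = φ a := ⟨Equiv.ofBijective φ hbij, fun a => rfl⟩
  obtain ⟨E', hE'⟩ : ∃ E' : Matrix ((G ⧸ H) × H) ((G ⧸ H) × H) R, E' = E.submatrix e e := ⟨_, rfl⟩
  have hE'idem : E' * E' = E' := by
    rw [hE', Matrix.submatrix_mul_equiv, hE]
  have hE'inv : ∀ (w : H) a z b z', E' (a, z * w) (b, z' * w) = E' (a, z) (b, z') := by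
    intro w a z b z'
    rw [hE']
    simp only [Matrix.submatrix_apply, he, hφ, Subgroup.coe_mul]
    rw [← mul_assoc, ← mul_assoc]
    exact hinv _ _ _
  have hsum : ∑ x, E (x * h) x = ∑ a, ∑ z, E' (a, z * h0) (a, z) := by
    rw [← Equiv.sum_comp e, Fintype.sum_prod_type]
    refine Finset.sum_congr rfl (fun a _ => Finset.sum_congr rfl (fun z _ => ?_))
    rw [hE']
    simp only [Matrix.submatrix_apply, he, hφ, Subgroup.coe_mul, hh0]
    rw [mul_assoc]
  rw [hsum, sum_shift_eq E' hE'inv h0,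
    coeff_eq_zero_of_cyclic p hp hroot h0 hgen (hord ▸ hh) (liftMat E') (liftMat_idem E' hE'idem hE'inv),
    smul_zero]

end Cfsg.Agent.Lib.Helper9.BnM3
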