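import Mathlib

set_option autoImplicit false
set_option linter.unusedSectionVars false
set_option linter.unusedVariables false
set_option linter.style.longLine false
set_option linter.unusedSimpArgs false

set_option maxHeartbeats 1600000
namespace Cfsg.Agent.Lib.Helper9.BrEnd

/-! General group theory for the S4705 endgame: `G = G' × Z(G)` from the absence of linear
characters trivial on the centre. -/

variable {G : Type*} [Group G]

/-- if every linear character trivial on the centre is trivial, then `G = G' Z(G)` -/
theorem sup_eq_top_of_hlin [Finite G]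
    (hlin : ∀ lam : G →* ℂˣ, (∀ z ∈ Subgroup.center G, lam z = 1) → ∀ g, lam g = 1) :
    commutator G ⊔ Subgroup.center G = ⊤ := by
  classical
  -- the image of the centre in the abelianization
  set Zb : Subgroup (Abelianization G) := (Subgroup.center G).map Abelianization.of with hZb
  have hZtop : Zb = ⊤ := by
    by_contra hne
    obtain ⟨a, ha⟩ : ∃ a : Abelianization G, a ∉ Zb := by
      by_contra hcon
      push Not at hcon
      exact hne (Subgroup.eq_top_iff' _ |>.mpr hcon)
    have hne1 : (QuotientGroup.mk a : Abelianization G ⧸ Zb) ≠ 1 := by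
      intro h
      exact ha ((QuotientGroup.eq_one_iff a).mp h)
    have : NeZero (Monoid.exponent (Abelianization G ⧸ Zb)) :=
      ⟨Monoid.exponent_ne_zero_of_finite⟩
    obtain ⟨φ, hφ⟩ := CommGroup.exists_apply_ne_one_of_hasEnoughRootsOfUnity
      (Abelianization G ⧸ Zb) ℂ hne1
    set lam : G →* ℂˣ := (φ.comp (QuotientGroup.mk' Zb)).comp Abelianization.of with hlam
    have h1 : ∀ z ∈ Subgroup.center G, lam z = 1 := by
      intro z hz
      have hz' : Abelianization.of z ∈ Zb := Subgroup.mem_map_of_mem _ hz
      have : (QuotientGroup.mk' Zb) (Abelianization.of z) = 1 :=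
        (QuotientGroup.eq_one_iff _).mpr hz'
      simp only [hlam, MonoidHom.comp_apply, this, map_one]
    obtain ⟨g, rfl⟩ : ∃ g : G, Abelianization.of g = a := by
      induction a using QuotientGroup.induction_on with | H g => exact ⟨g, rfl⟩
    have := hlin lam h1 g
    apply hφ
    simpa [hlam] using this
  rw [eq_top_iff]
  intro g _
  have hg : Abelianization.of g ∈ Zb := by rw [hZtop]; trivial
  obtain ⟨z, hz, hzg⟩ := hg
  have hker : g * z⁻¹ ∈ (Abelianization.of (G := G)).ker := by
    rw [MonoidHom.mem_ker, map_mul, map_inv, hzg, mul_inv_cancel]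
  rw [Abelianization.ker_of] at hker
  have : g = (g * z⁻¹) * z := by group
  rw [this]
  exact Subgroup.mul_mem _ (Subgroup.mem_sup_left hker) (Subgroup.mem_sup_right hz)

/-- every element is a product of an element of `G'` and a central element -/
theorem exists_mul_of_sup (hsup : commutator G ⊔ Subgroup.center G = ⊤) (g : G) :
    ∃ d ∈ commutator G, ∃ z ∈ Subgroup.center G, d * z = g := by
  have hg : g ∈ commutator G ⊔ Subgroup.center G := by rw [hsup]; trivial
  exact Subgroup.mem_sup_of_normal_right.mp hg

/-- the internal direct product decomposition -/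
theorem nonempty_prod_equiv (hsup : commutator G ⊔ Subgroup.center G = ⊤)
    (hdisj : commutator G ⊓ Subgroup.center G = ⊥) :
    Nonempty (G ≃* (G ⧸ Subgroup.center G) × Subgroup.center G) := by
  -- `G' ≃* G / Z`
  set f : commutator G →* G ⧸ Subgroup.center G :=
    (QuotientGroup.mk' (Subgroup.center G)).comp (commutator G).subtype with hf
  have hf_inj : Function.Injective f := by
    rw [injective_iff_map_eq_one]
    intro d hd
    have h1 : (d : G) ∈ Subgroup.center G := by
      have : (QuotientGroup.mk' (Subgroup.center G)) (d : G) = 1 := hd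
      exact (QuotientGroup.eq_one_iff _).mp this
    have h2 : (d : G) ∈ commutator G ⊓ Subgroup.center G := Subgroup.mem_inf.mpr ⟨d.2, h1⟩
    rw [hdisj, Subgroup.mem_bot] at h2
    exact Subtype.ext h2
  have hf_surj : Function.Surjective f := by
    intro x
    induction x using QuotientGroup.induction_on with | H g =>
    obtain ⟨d, hd, z, hz, rfl⟩ := exists_mul_of_sup hsup g
    refine ⟨⟨d, hd⟩, ?_⟩
    change (QuotientGroup.mk' (Subgroup.center G)) d = (QuotientGroup.mk' (Subgroup.center G)) (d * z)
    rw [map_mul]
    have : (QuotientGroup.mk' (Subgroup.center G)) z = 1 := (QuotientGroup.eq_one_iff _).mpr hz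
    rw [this, mul_one]
  have e1 : commutator G ≃* G ⧸ Subgroup.center G := MulEquiv.ofBijective f ⟨hf_inj, hf_surj⟩
  -- `G' × Z ≃* G`
  set m : commutator G × Subgroup.center G →* G :=
    { toFun := fun x => (x.1 : G) * (x.2 : G)
      map_one' := by simp
      map_mul' := by
        rintro ⟨a, b⟩ ⟨c, d⟩
        have hb : (b : G) ∈ Subgroup.center G := b.2
        have hcomm : (b : G) * (c : G) = (c : G) * (b : G) :=
          (Subgroup.mem_center_iff.mp hb (c : G)).symm
        change ((a * c : commutator G) : G) * ((b * d : Subgroup.center G) : G) = _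
        simp only [Subgroup.coe_mul]
        calc (a : G) * c * (b * d) = a * (c * b) * d := by group
          _ = a * (b * c) * d := by rw [hcomm]
          _ = a * b * (c * d) := by group } with hm
  have hm_inj : Function.Injective m := by
    rw [injective_iff_map_eq_one]
    rintro ⟨a, b⟩ hab
    have hab' : (a : G) * (b : G) = 1 := hab
    have h1 : (a : G) = (b : G)⁻¹ := eq_inv_of_mul_eq_one_left hab'
    have h2 : (a : G) ∈ commutator G ⊓ Subgroup.center G := by
      refine Subgroup.mem_inf.mpr ⟨a.2, ?_⟩
      rw [h1]; exact Subgroup.inv_mem _ b.2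
    rw [hdisj, Subgroup.mem_bot] at h2
    have h3 : (b : G) = 1 := by rw [h2, one_mul] at hab'; exact hab'
    exact Prod.ext (Subtype.ext h2) (Subtype.ext h3)
  have hm_surj : Function.Surjective m := by
    intro g
    obtain ⟨d, hd, z, hz, rfl⟩ := exists_mul_of_sup hsup g
    exact ⟨(⟨d, hd⟩, ⟨z, hz⟩), rfl⟩
  have e2 : commutator G × Subgroup.center G ≃* G := MulEquiv.ofBijective m ⟨hm_inj, hm_surj⟩
  exact ⟨e2.symm.trans (MulEquiv.prodCongr e1 (MulEquiv.refl _))⟩

/-- the central quotient is perfect -/
theorem commutator_quot_eq_top (hsup : commutator G ⊔ Subgroup.center G = ⊤) :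
    commutator (G ⧸ Subgroup.center G) = ⊤ := by
  rw [eq_top_iff]
  intro x _
  induction x using QuotientGroup.induction_on with | H g =>
  obtain ⟨d, hd, z, hz, rfl⟩ := exists_mul_of_sup hsup g
  have h1 : ((d * z : G) : G ⧸ Subgroup.center G) = (QuotientGroup.mk' (Subgroup.center G)) d := by
    change (QuotientGroup.mk' (Subgroup.center G)) (d * z) = _
    rw [map_mul]
    have : (QuotientGroup.mk' (Subgroup.center G)) z = 1 := (QuotientGroup.eq_one_iff _).mpr hz
    rw [this, mul_one]
  rw [h1]
  have h2 : (QuotientGroup.mk' (Subgroup.center G)) d ∈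
      (commutator G).map (QuotientGroup.mk' (Subgroup.center G)) := Subgroup.mem_map_of_mem _ hd
  rw [commutator_def, Subgroup.map_commutator] at h2
  rw [commutator_def]
  exact Subgroup.commutator_mono le_top le_top h2

end Cfsg.Agent.Lib.Helper9.BrEnd
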