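import Mathlib
import Cfsg.Agent.Lib.Helper6.PB1

set_option autoImplicit false
set_option linter.unusedSectionVars false
set_option linter.unusedVariables false
set_option linter.style.longLine false
set_option linter.unusedSimpArgs false

set_option maxHeartbeats 1600000
namespace Cfsg.Agent.Lib.Helper9.BrEnd

/-! The local data of the S4705 endgame transported to `G / Z(G)`. -/

open Cfsg.Agent.Lib.Helper6.PB

variable {G : Type*} [Group G] [Finite G] (p : ℕ) [hp : Fact p.Prime] (P : Sylow p G)
  (hP : Nat.card P = p)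

local notation "Zc" => Subgroup.center G
local notation "π" => QuotientGroup.mk' (Subgroup.center G)

include hP

/-- `p` does not divide the order of the centre -/
theorem not_dvd_card_center
    (hcard : Nat.card G = Nat.card (Subgroup.center G) * (p * (p - 1) * (p - 2))) :
    ¬ p ∣ Nat.card (Subgroup.center G) := by
  intro h
  apply not_sq_dvd_card P hP
  rw [hcard, pow_two]
  apply Nat.mul_dvd_mul h
  rw [mul_assoc]
  exact dvd_mul_right p _

/-- the order of the central quotient -/
theorem card_quot
    (hcard : Nat.card G = Nat.card (Subgroup.center G) * (p * (p - 1) * (p - 2))) :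
    Nat.card (G ⧸ Subgroup.center G) = p * (p - 1) * (p - 2) := by
  have h1 := Subgroup.card_eq_card_quotient_mul_card_subgroup (Subgroup.center G)
  rw [hcard, mul_comm] at h1
  have hpos : 0 < Nat.card (Subgroup.center G) := Nat.card_pos
  exact (Nat.eq_of_mul_eq_mul_right hpos h1).symm

/-- a central element of order dividing `p` is trivial -/
theorem eq_one_of_pow_eq_one (hZ : ¬ p ∣ Nat.card (Subgroup.center G)) {z : G}
    (hz : z ∈ Subgroup.center G) (hzp : z ^ p = 1) : z = 1 := by
  have h1 : orderOf z ∣ p := orderOf_dvd_of_pow_eq_one hzp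
  have h2 : orderOf z ∣ Nat.card (Subgroup.center G) := Subgroup.orderOf_dvd_natCard _ hz
  rcases (Nat.dvd_prime hp.out).mp h1 with h | h
  · exact orderOf_eq_one_iff.mp h
  · rw [h] at h2; exact absurd h2 hZ

/-- a generator of `P` is not central -/
theorem gen_not_mem_center (hZ : ¬ p ∣ Nat.card (Subgroup.center G)) {x : G}
    (hx : orderOf x = p) : x ∉ Subgroup.center G := by
  intro h
  have h1 : x = 1 := eq_one_of_pow_eq_one p P hP hZ h (by rw [← hx]; exact pow_orderOf_eq_one x)
  rw [h1, orderOf_one] at hx
  exact hp.out.one_lt.ne hx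

/-- the image of a generator has order `p` -/
theorem orderOf_mk (hZ : ¬ p ∣ Nat.card (Subgroup.center G)) {x : G}
    (hx : orderOf x = p) : orderOf (π x) = p := by
  have h1 : (π x) ^ p = 1 := by
    rw [← map_pow, ← hx, pow_orderOf_eq_one, map_one]
  have h2 : orderOf (π x) ∣ p := orderOf_dvd_of_pow_eq_one h1
  rcases (Nat.dvd_prime hp.out).mp h2 with h | h
  · exfalso
    have h3 : π x = 1 := orderOf_eq_one_iff.mp h
    exact gen_not_mem_center p P hP hZ hx ((QuotientGroup.eq_one_iff x).mp h3)
  · exact h

/-- the image of a generator is self-centralizing in the central quotient -/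
theorem centralizer_mk (hZ : ¬ p ∣ Nat.card (Subgroup.center G))
    (hCZ : ∀ c ∈ Subgroup.centralizer ((P : Subgroup G) : Set G), ¬ p ∣ orderOf c →
      c ∈ Subgroup.center G) {x : G}
    (hxP : (P : Subgroup G) = Subgroup.zpowers x) (hx : orderOf x = p) :
    Subgroup.centralizer ({π x} : Set (G ⧸ Subgroup.center G)) = Subgroup.zpowers (π x) := by
  have hxmem : x ∈ (P : Subgroup G) := by rw [hxP]; exact Subgroup.mem_zpowers x
  have hx1 : x ≠ 1 := by
    rintro rfl
    rw [orderOf_one] at hx
    exact hp.out.one_lt.ne hx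
  apply le_antisymm
  · intro gb hgb
    induction gb using QuotientGroup.induction_on with | H g =>
    rw [Subgroup.mem_centralizer_singleton_iff] at hgb
    -- `g x` and `x g` agree modulo the centre
    have h1 : ((g * x : G) : G ⧸ Subgroup.center G) = ((x * g : G) : G ⧸ Subgroup.center G) := hgb
    rw [QuotientGroup.eq] at h1
    set z' : G := (g * x)⁻¹ * (x * g) with hz'
    have hz'c : ∀ y : G, y * z' = z' * y := fun y => (Subgroup.mem_center_iff.mp h1 y)
    -- `g⁻¹ x g = x z'`
    have h2 : g⁻¹ * x * g = x * z' := by rw [hz']; group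
    have h3 : (g⁻¹ * x * g) ^ p = 1 := by
      have : g⁻¹ * x * g = MulAut.conj g⁻¹ x := by rw [MulAut.conj_apply, inv_inv]
      rw [this, ← map_pow, ← hx, pow_orderOf_eq_one, map_one]
    have h4 : (x * z') ^ p = x ^ p * z' ^ p := by
      have hc : Commute x z' := hz'c x
      exact hc.mul_pow p
    have h5 : z' ^ p = 1 := by
      rw [h2, h4, ← hx, pow_orderOf_eq_one, one_mul, hx] at h3
      exact h3
    have h6 : z' = 1 := eq_one_of_pow_eq_one p P hP hZ h1 h5
    have h7 : g * x = x * g := by
      have : (g * x)⁻¹ * (x * g) = 1 := by rw [← hz']; exact h6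
      exact (inv_mul_eq_one.mp this)
    have hgC : g ∈ Subgroup.centralizer ((P : Subgroup G) : Set G) := by
      rw [← centralizer_singleton_eq P hP hxmem hx1, Subgroup.mem_centralizer_singleton_iff]
      exact h7
    by_cases hs : p ∣ orderOf g
    · obtain ⟨u, hu, _, y, hy, hyp, rfl⟩ := exists_decomp_C P hP hgC hs
      have hyZ : y ∈ Subgroup.center G := hCZ y hy hyp
      have h8 : ((u * y : G) : G ⧸ Subgroup.center G) = π u := by
        change π (u * y) = π u
        rw [map_mul]
        have : π y = 1 := (QuotientGroup.eq_one_iff y).mpr hyZ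
        rw [this, mul_one]
      rw [h8]
      rw [hxP, Subgroup.mem_zpowers_iff] at hu
      obtain ⟨k, rfl⟩ := hu
      rw [map_zpow]
      exact Subgroup.zpow_mem_zpowers _ k
    · have hgZ : g ∈ Subgroup.center G := hCZ g hgC hs
      have : ((g : G) : G ⧸ Subgroup.center G) = 1 := (QuotientGroup.eq_one_iff g).mpr hgZ
      rw [this]
      exact Subgroup.one_mem _
  · apply Subgroup.zpowers_le.mpr
    rw [Subgroup.mem_centralizer_singleton_iff]

/-- the normalizer of the image of `P` is strictly larger than the image -/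
theorem exists_normalizer_mk
    (hNC : (Subgroup.centralizer ((P : Subgroup G) : Set G)).relIndex
      (Subgroup.normalizer ((P : Subgroup G) : Set G)) = 2) {x : G}
    (hxP : (P : Subgroup G) = Subgroup.zpowers x) :
    ∃ nb : G ⧸ Subgroup.center G,
      nb ∈ Subgroup.normalizer ((Subgroup.zpowers (π x) : Subgroup (G ⧸ Subgroup.center G)) : Set _) ∧
      nb ∉ Subgroup.zpowers (π x) := by
  have hnle : ¬ Subgroup.normalizer ((P : Subgroup G) : Set G) ≤
      Subgroup.centralizer ((P : Subgroup G) : Set G) := by
    intro h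
    have := Subgroup.relIndex_eq_one.mpr h
    rw [hNC] at this
    omega
  obtain ⟨n, hnN, hnC⟩ := SetLike.not_le_iff_exists.mp hnle
  refine ⟨π n, ?_, ?_⟩
  · apply Subgroup.mem_normalizer_fintype
    intro y hy
    have hy' : y ∈ Subgroup.zpowers (π x) := hy
    rw [Subgroup.mem_zpowers_iff] at hy'
    obtain ⟨k, rfl⟩ := hy'
    have h1 : n * x ^ k * n⁻¹ ∈ (P : Subgroup G) := by
      apply conj_mem_P P hnN
      rw [hxP]; exact Subgroup.zpow_mem_zpowers x k
    rw [hxP, Subgroup.mem_zpowers_iff] at h1
    obtain ⟨j, hj⟩ := h1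
    have h2 : π n * (π x) ^ k * (π n)⁻¹ = (π x) ^ j := by
      rw [← map_zpow, ← map_inv, ← map_mul, ← map_mul, ← hj, map_zpow]
    rw [h2]
    exact Subgroup.zpow_mem_zpowers _ j
  · intro h
    rw [Subgroup.mem_zpowers_iff] at h
    obtain ⟨k, hk⟩ := h
    rw [← map_zpow] at hk
    have h1 : ((x ^ k : G) : G ⧸ Subgroup.center G) = ((n : G) : G ⧸ Subgroup.center G) := hk
    rw [QuotientGroup.eq] at h1
    apply hnC
    have h2 : n = x ^ k * ((x ^ k)⁻¹ * n) := by group
    rw [h2]
    apply Subgroup.mul_mem
    · apply P_le_C P hP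
      rw [hxP]; exact Subgroup.zpow_mem_zpowers x k
    · exact Subgroup.center_le_centralizer _ h1

end Cfsg.Agent.Lib.Helper9.BrEnd
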