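import Mathlib
import Cfsg.Agent.Lib.Helper9.BrEndA
import Cfsg.Agent.Lib.Helper9.BrEndB
import Cfsg.Agent.Lib.Helper9.ArtQ
import Cfsg.Agent.Lib.Helper7.BReyJ
import Cfsg.Agent.Lib.Helper4.SLCenter
import Cfsg.Agent.Lib.Helper4.SLCard

set_option autoImplicit false
set_option linter.unusedSectionVars false
set_option linter.unusedVariables false
set_option linter.style.longLine false
set_option linter.unusedSimpArgs false

set_option maxHeartbeats 1600000
namespace Cfsg.Agent.Lib.Helper9.BrEnd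

/-! The S4705 endgame: assembly. -/

open Cfsg.Agent.Lib.Helper6.PB

section main

variable {G : Type*} [Group G] [Finite G] (p : ℕ) [hp : Fact p.Prime] (P : Sylow p G)
  (hP : Nat.card P = p)

local notation "π" => QuotientGroup.mk' (Subgroup.center G)


/-- `PSL₂(p)` does not have order `p (p - 1) (p - 2)` for `p > 5` -/
theorem card_psl_ne {F : Type} [Field F] [Fintype F] (q : ℕ) (hq5 : 5 < q) (hodd : q % 2 = 1)
    (hF : Fintype.card F = q) :
    Nat.card (Matrix.ProjectiveSpecialLinearGroup (Fin 2) F) ≠ q * (q - 1) * (q - 2) := by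
  intro h
  have h1 := Cfsg.Agent.Lib.Helper4.card_PSL_mul (F := F) 2 (by norm_num)
  rw [Cfsg.Agent.Lib.Helper4.card_SL2, hF, h] at h1
  have hg : Nat.gcd 2 (q - 1) = 2 := Nat.gcd_eq_left (by omega)
  rw [hg] at h1
  obtain ⟨k, rfl⟩ : ∃ k, q = k + 6 := ⟨q - 6, by omega⟩
  have e1 : k + 6 - 1 = k + 5 := by omega
  have e2 : k + 6 - 2 = k + 4 := by omega
  have e3 : (k + 6) ^ 2 - 1 = (k + 5) * (k + 7) := by
    have : (k + 6) ^ 2 = (k + 5) * (k + 7) + 1 := by ring
    omega
  rw [e1, e2, e3] at h1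
  have h2 : (k + 6) * (k + 5) * (2 * (k + 4)) = (k + 6) * (k + 5) * (k + 7) := by
    calc (k + 6) * (k + 5) * (2 * (k + 4)) = 2 * ((k + 6) * (k + 5) * (k + 4)) := by ring
      _ = (k + 6) * ((k + 5) * (k + 7)) := h1
      _ = (k + 6) * (k + 5) * (k + 7) := by ring
  have h3 := Nat.eq_of_mul_eq_mul_left (by positivity) h2
  omega

include hP

/-- few Sylow `p`-subgroups in the central quotient -/
theorem two_mul_card_sylow_quot
    (hCZ : ∀ c ∈ Subgroup.centralizer ((P : Subgroup G) : Set G), ¬ p ∣ orderOf c →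
      c ∈ Subgroup.center G)
    (hNC : (Subgroup.centralizer ((P : Subgroup G) : Set G)).relIndex
      (Subgroup.normalizer ((P : Subgroup G) : Set G)) = 2)
    (hcard : Nat.card G = Nat.card (Subgroup.center G) * (p * (p - 1) * (p - 2))) :
    2 * Nat.card (Sylow p (G ⧸ Subgroup.center G)) < (p + 1) * (p + 2) := by
  have hZ := not_dvd_card_center p P hP hcard
  obtain ⟨x, hxP, hx⟩ := exists_gen P hP
  set Q : Sylow p (G ⧸ Subgroup.center G) :=
    Sylow.mapSurjective (QuotientGroup.mk'_surjective (Subgroup.center G)) P with hQ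
  have hQc : (Q : Subgroup (G ⧸ Subgroup.center G)) = Subgroup.zpowers (π x) := by
    rw [hQ, Sylow.coe_mapSurjective, hxP, MonoidHom.map_zpowers]
  have hQcard : Nat.card (Q : Subgroup (G ⧸ Subgroup.center G)) = p := by
    rw [hQc, Nat.card_zpowers, orderOf_mk p P hP hZ hx]
  rw [Sylow.card_eq_index_normalizer Q]
  set Nb := Subgroup.normalizer ((Q : Subgroup (G ⧸ Subgroup.center G)) : Set (G ⧸ Subgroup.center G)) with hNb
  have h1 : Nat.card Nb * Nb.index = p * (p - 1) * (p - 2) := by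
    rw [Subgroup.card_mul_index, card_quot p P hP hcard]
  have hle : (Q : Subgroup (G ⧸ Subgroup.center G)) ≤ Nb := Subgroup.le_normalizer
  obtain ⟨k, hk⟩ : p ∣ Nat.card Nb := by
    have := Subgroup.card_dvd_of_le hle
    rwa [hQcard] at this
  obtain ⟨nb, hnb, hnbQ⟩ := exists_normalizer_mk p P hP hNC hxP
  have hk1 : k ≠ 1 := by
    rintro rfl
    rw [mul_one] at hk
    have heq : (Q : Subgroup (G ⧸ Subgroup.center G)) = Nb :=
      Subgroup.eq_of_le_of_card_ge hle (by rw [hk, hQcard])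
    apply hnbQ
    rw [← hQc, heq, hNb, hQc]
    exact hnb
  have hk0 : k ≠ 0 := by
    rintro rfl
    rw [mul_zero] at hk
    have : 0 < Nat.card Nb := Nat.card_pos
    omega
  have hk2 : 2 ≤ k := by omega
  have hppos : 0 < p := hp.out.pos
  have h2 : k * Nb.index = (p - 1) * (p - 2) := by
    have : p * (k * Nb.index) = p * ((p - 1) * (p - 2)) := by
      rw [← mul_assoc, ← hk, h1, mul_assoc]
    exact Nat.eq_of_mul_eq_mul_left hppos this
  have h3 : 2 * Nb.index ≤ (p - 1) * (p - 2) := by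
    rw [← h2]; exact Nat.mul_le_mul_right _ hk2
  have h4 : (p - 1) * (p - 2) < (p + 1) * (p + 2) := by
    have : (p - 1) * (p - 2) ≤ p * p := Nat.mul_le_mul (Nat.sub_le _ _) (Nat.sub_le _ _)
    nlinarith
  have h5 : 2 * Nb.index < (p + 1) * (p + 2) := by omega
  exact h5

/-- Endgame of S4705, internal form. -/
theorem endgame_aux (hp5 : 5 < p)
    (hCZ : ∀ c ∈ Subgroup.centralizer ((P : Subgroup G) : Set G), ¬ p ∣ orderOf c →
      c ∈ Subgroup.center G)
    (hNC : (Subgroup.centralizer ((P : Subgroup G) : Set G)).relIndex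
      (Subgroup.normalizer ((P : Subgroup G) : Set G)) = 2)
    (hcard : Nat.card G = Nat.card (Subgroup.center G) * (p * (p - 1) * (p - 2)))
    (hlin : ∀ lam : G →* ℂˣ, (∀ z ∈ Subgroup.center G, lam z = 1) → ∀ g, lam g = 1)
    (hdisj : commutator G ⊓ Subgroup.center G = ⊥) :
    ∃ (a : ℕ) (F : Type) (_ : Field F) (_ : Fintype F), p = 2 ^ a + 1 ∧ Fintype.card F = 2 ^ a ∧
      Nonempty (G ≃* Matrix.SpecialLinearGroup (Fin 2) F × Subgroup.center G) := by
  have hsup := sup_eq_top_of_hlin hlin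
  obtain ⟨e0⟩ := nonempty_prod_equiv hsup hdisj
  have hperf := commutator_quot_eq_top hsup
  have hZ := not_dvd_card_center p P hP hcard
  obtain ⟨x, hxP, hx⟩ := exists_gen P hP
  have hz := orderOf_mk p P hP hZ hx
  have hC := centralizer_mk p P hP hZ hCZ hxP hx
  have hn := two_mul_card_sylow_quot p P hP hCZ hNC hcard
  have hodd : p % 2 = 1 := by
    rcases hp.out.eq_two_or_odd with h | h
    · omega
    · exact h
  rcases Cfsg.Agent.Lib.Helper9.Art.brauer_few_sylow hperf p (π x) hz hC hn with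
    ⟨F, _, _, hF, _, ⟨e⟩⟩ | ⟨m, F, _, _, hF, hpm, _, ⟨e⟩⟩
  · exfalso
    have h1 : Nat.card (G ⧸ Subgroup.center G) =
        Nat.card (Matrix.ProjectiveSpecialLinearGroup (Fin 2) F) := Nat.card_congr e.toEquiv
    rw [card_quot p P hP hcard] at h1
    exact card_psl_ne p hp5 hodd hF h1.symm
  · obtain ⟨e2⟩ := Cfsg.Agent.Lib.Helper7.BReyJ.psl_equiv_sl_char_two F m hF
    exact ⟨m, F, inferInstance, inferInstance, hpm, hF,
      ⟨e0.trans (MulEquiv.prodCongr (e.trans e2) (MulEquiv.refl _))⟩⟩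

end main

/-- **Endgame of S4705** (group theory on top of S0996): the local data `C(P) = P × Z(G)`,
`|N(P) : C(P)| = 2`, `|G| = |Z(G)| p (p - 1) (p - 2)`, no linear characters trivial on the centre,
and `G' ∩ Z(G) = 1` force `G ≃ SL₂(2^a) × Z(G)` with `p = 2^a + 1`. -/
theorem s4705_endgame {G : Type*} [Group G] [Finite G] (p : ℕ) [Fact p.Prime] (hp : 5 < p)
    (P : Sylow p G) (hP : Nat.card P = p)
    (hCZ : ∀ c ∈ Subgroup.centralizer ((P : Subgroup G) : Set G), ¬ p ∣ orderOf c →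
      c ∈ Subgroup.center G)
    (hNC : (Subgroup.centralizer ((P : Subgroup G) : Set G)).relIndex
      (Subgroup.normalizer ((P : Subgroup G) : Set G)) = 2)
    (hcard : Nat.card G = Nat.card (Subgroup.center G) * (p * (p - 1) * (p - 2)))
    (hlin : ∀ lam : G →* ℂˣ, (∀ z ∈ Subgroup.center G, lam z = 1) → ∀ g, lam g = 1)
    (hdisj : commutator G ⊓ Subgroup.center G = ⊥) :
    ∃ (a : ℕ) (F : Type) (_ : Field F) (_ : Fintype F), p = 2 ^ a + 1 ∧ Fintype.card F = 2 ^ a ∧
      Nonempty (G ≃* Matrix.SpecialLinearGroup (Fin 2) F × Subgroup.center G) :=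
  endgame_aux p P hP hp hCZ hNC hcard hlin hdisj

end Cfsg.Agent.Lib.Helper9.BrEnd
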