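import Mathlib
import Cfsg.Agent.Lib.Helper5.BrauerTuan.Key
import Cfsg.Agent.S0904
import Cfsg.Agent.Lib.Helper2.OtA
import Cfsg.Agent.Lib.Helper6.PB13
import Cfsg.Agent.Lib.Helper6.BlkVanish

set_option autoImplicit false
set_option linter.unusedSectionVars false
set_option linter.unusedVariables false
set_option linter.style.longLine false
set_option linter.unusedSimpArgs false

set_option maxHeartbeats 1600000
namespace Cfsg.Agent.Lib.Helper9.Bt
open Cfsg Cfsg.Agent.Lib.Helper6

section grp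

/-- the standing hypotheses: a nonabelian group of order `s * s' * q ^ b` -/
structure Ctx (G : Type*) [Group G] [Fintype G] (s s' q b : ℕ) : Prop where
  hs : s.Prime
  hs' : s'.Prime
  hq : q.Prime
  hss' : s ≠ s'
  hsq : s ≠ q
  hs'q : s' ≠ q
  card : Nat.card G = s * s' * q ^ b
  hna : ∃ a b : G, a * b ≠ b * a

variable {G : Type*} [Group G] [Fintype G] {s s' q b : ℕ}

theorem Ctx.symm (C : Ctx G s s' q b) : Ctx G s' s q b :=
  ⟨C.hs', C.hs, C.hq, C.hss'.symm, C.hs'q, C.hsq, by rw [C.card]; ring, C.hna⟩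

theorem Ctx.prime_cases (C : Ctx G s s' q b) (w : ℕ) (hw : w.Prime) (h : w ∣ Nat.card G) :
    w = s ∨ w = s' ∨ w = q := by
  rw [C.card] at h
  rcases (Nat.Prime.dvd_mul hw).mp h with h | h
  · rcases (Nat.Prime.dvd_mul hw).mp h with h | h
    · left; exact (Nat.prime_dvd_prime_iff_eq hw C.hs).mp h
    · right; left; exact (Nat.prime_dvd_prime_iff_eq hw C.hs').mp h
  · right; right; exact (Nat.prime_dvd_prime_iff_eq hw C.hq).mp (hw.dvd_of_dvd_pow h)

/-- every element has prime power order -/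
theorem Ctx.cp [IsSimpleGroup G] (C : Ctx G s s' q b) (g : G) (u v : ℕ) (hu : u.Prime)
    (hv : v.Prime) (huv : u ≠ v) (h1 : u ∣ orderOf g) (h2 : v ∣ orderOf g) : False := by
  haveI : Fact s.Prime := ⟨C.hs⟩
  haveI : Fact s'.Prime := ⟨C.hs'⟩
  haveI : Fact q.Prime := ⟨C.hq⟩
  have c1 : Nat.card G = s' ^ 1 * q ^ b * s := by rw [C.card]; ring
  have c2 : Nat.card G = q ^ b * s' ^ 1 * s := by rw [C.card]; ring
  have c3 : Nat.card G = s ^ 1 * q ^ b * s' := by rw [C.card]; ring
  have c4 : Nat.card G = q ^ b * s ^ 1 * s' := by rw [C.card]; ring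
  have hu' := C.prime_cases u hu (h1.trans (orderOf_dvd_natCard g))
  have hv' := C.prime_cases v hv (h2.trans (orderOf_dvd_natCard g))
  rcases hu' with e1 | e1 | e1 <;> rcases hv' with e2 | e2 | e2
  · exact huv (e1.trans e2.symm)
  · rw [e1] at h1; rw [e2] at h2
    exact Cfsg.Agent.Lib.Helper5.BrauerTuan.no_sr_element C.hna s q s' 1 b C.hq C.hs' C.hss'
      C.hs'q.symm c3 g h1 h2
  · rw [e1] at h1; rw [e2] at h2
    exact Cfsg.Agent.Lib.Helper5.BrauerTuan.no_sr_element C.hna q s' s b 1 C.hs' C.hs C.hsq.symm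
      C.hss'.symm c2 g h2 h1
  · rw [e1] at h1; rw [e2] at h2
    exact Cfsg.Agent.Lib.Helper5.BrauerTuan.no_sr_element C.hna s' q s 1 b C.hq C.hs C.hss'.symm
      C.hsq.symm c1 g h1 h2
  · exact huv (e1.trans e2.symm)
  · rw [e1] at h1; rw [e2] at h2
    exact Cfsg.Agent.Lib.Helper5.BrauerTuan.no_sr_element C.hna q s s' b 1 C.hs C.hs' C.hs'q.symm
      C.hss' c4 g h2 h1
  · rw [e1] at h1; rw [e2] at h2
    exact Cfsg.Agent.Lib.Helper5.BrauerTuan.no_sr_element C.hna q s' s b 1 C.hs' C.hs C.hsq.symm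
      C.hss'.symm c2 g h1 h2
  · rw [e1] at h1; rw [e2] at h2
    exact Cfsg.Agent.Lib.Helper5.BrauerTuan.no_sr_element C.hna q s s' b 1 C.hs C.hs' C.hs'q.symm
      C.hss' c4 g h1 h2
  · exact huv (e1.trans e2.symm)

/-- a prime not dividing the order of `y ≠ 1` does not divide the order of its centralizer -/
theorem Ctx.not_dvd_card_centralizer [IsSimpleGroup G] (C : Ctx G s s' q b) (y : G) (hy1 : y ≠ 1)
    (u : ℕ) (hu : u.Prime) (huy : ¬ u ∣ orderOf y) :
    ¬ u ∣ Nat.card (Subgroup.centralizer ({y} : Set G)) := by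
  intro h
  haveI := Fact.mk hu
  obtain ⟨z, hz⟩ := exists_prime_orderOf_dvd_card' u h
  have hzc : Commute y (z : G) := by
    have := Subgroup.mem_centralizer_singleton_iff.mp z.2
    exact this.symm
  have hy2 : orderOf y ≠ 1 := by
    intro h1; exact hy1 (orderOf_eq_one_iff.mp h1)
  obtain ⟨v, hv, hvy⟩ := Nat.exists_prime_and_dvd hy2
  have hzo : orderOf (z : G) = u := by rw [Subgroup.orderOf_coe, hz]
  have hcop : Nat.Coprime (orderOf y) (orderOf (z : G)) := by
    rw [hzo]
    exact Nat.Coprime.symm ((Nat.Prime.coprime_iff_not_dvd hu).mpr huy)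
  have hord := hzc.orderOf_mul_eq_mul_orderOf_of_coprime hcop
  have huv : u ≠ v := by rintro rfl; exact huy hvy
  apply C.cp (y * (z : G)) u v hu hv huv
  · rw [hord, hzo]; exact dvd_mul_left u _
  · rw [hord]; exact Dvd.dvd.mul_right hvy _

theorem Ctx.pow_dvd_index [IsSimpleGroup G] (C : Ctx G s s' q b) (u a : ℕ) (hu : u.Prime)
    (ha : u ^ a ∣ Nat.card G) (y : G) (hy1 : y ≠ 1) (huy : ¬ u ∣ orderOf y) :
    u ^ a ∣ (Subgroup.centralizer ({y} : Set G)).index := by
  have h := Subgroup.card_mul_index (Subgroup.centralizer ({y} : Set G))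
  rw [← h] at ha
  have hcop : Nat.Coprime (u ^ a) (Nat.card (Subgroup.centralizer ({y} : Set G))) :=
    Nat.Coprime.pow_left a ((Nat.Prime.coprime_iff_not_dvd hu).mpr
      (C.not_dvd_card_centralizer y hy1 u hu huy))
  exact hcop.dvd_of_dvd_mul_left ha

theorem Ctx.dvd_card (C : Ctx G s s' q b) : s ∣ Nat.card G := by
  rw [C.card, mul_assoc]; exact dvd_mul_right s _

theorem Ctx.not_sq_dvd (C : Ctx G s s' q b) : ¬ s ^ 2 ∣ Nat.card G := by
  intro h
  rw [C.card, pow_two, mul_assoc] at h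
  have h1 : s ∣ s' * q ^ b := Nat.dvd_of_mul_dvd_mul_left C.hs.pos h
  rcases (Nat.Prime.dvd_mul C.hs).mp h1 with h2 | h2
  · exact C.hss' ((Nat.prime_dvd_prime_iff_eq C.hs C.hs').mp h2)
  · exact C.hsq ((Nat.prime_dvd_prime_iff_eq C.hs C.hq).mp (C.hs.dvd_of_dvd_pow h2))

theorem Ctx.q_pow_dvd (C : Ctx G s s' q b) : q ^ b ∣ Nat.card G := by
  rw [C.card]; exact dvd_mul_left _ _

theorem Ctx.q_pow_succ_not_dvd (C : Ctx G s s' q b) : ¬ q ^ (b + 1) ∣ Nat.card G := by
  intro h
  rw [C.card, pow_succ, mul_comm (s * s') (q ^ b)] at h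
  have h1 : q ∣ s * s' := Nat.dvd_of_mul_dvd_mul_left (pow_pos C.hq.pos b) h
  rcases (Nat.Prime.dvd_mul C.hq).mp h1 with h2 | h2
  · exact C.hsq ((Nat.prime_dvd_prime_iff_eq C.hq C.hs).mp h2).symm
  · exact C.hs'q ((Nat.prime_dvd_prime_iff_eq C.hq C.hs').mp h2).symm

theorem Ctx.card_sylow (C : Ctx G s s' q b) [Fact s.Prime] (P : Sylow s G) :
    Nat.card (P : Subgroup G) = s :=
  Cfsg.Agent.Lib.Helper2.Ot.card_sylow_eq s C.dvd_card C.not_sq_dvd P

theorem Ctx.centralizer_sylow [IsSimpleGroup G] (C : Ctx G s s' q b) [Fact s.Prime]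
    (P : Sylow s G) :
    Subgroup.centralizer ((P : Subgroup G) : Set G) = (P : Subgroup G) :=
  Cfsg.Agent.S0904.result s' q s 1 b C.hs' C.hq C.hs'q C.hss'.symm C.hsq.symm
    (by rw [C.card]; ring) P

theorem Ctx.card_order (C : Ctx G s s' q b) [Fact s.Prime] :
    Nat.card {x : G // orderOf x = s} = (s - 1) * Nat.card (Sylow s G) :=
  Cfsg.Agent.Lib.Helper2.Ot.card_order_p s C.dvd_card C.not_sq_dvd

/-- `e * n_s = s' * q ^ b` -/
theorem Ctx.e_mul_card_sylow [IsSimpleGroup G] (C : Ctx G s s' q b) [Fact s.Prime]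
    (P : Sylow s G) (e : ℕ)
    (he : (Subgroup.centralizer ((P : Subgroup G) : Set G)).relIndex
      (Subgroup.normalizer ((P : Subgroup G) : Set G)) = e) :
    e * Nat.card (Sylow s G) = s' * q ^ b := by
  have h2 : e * (Subgroup.normalizer ((P : Subgroup G) : Set G)).index
      = (Subgroup.centralizer ((P : Subgroup G) : Set G)).index := by
    rw [← he]
    exact Subgroup.relIndex_mul_index (Subgroup.centralizer_le_normalizer _)
  have h3 : (Subgroup.centralizer ((P : Subgroup G) : Set G)).index = s' * q ^ b := by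
    have := Subgroup.card_mul_index (Subgroup.centralizer ((P : Subgroup G) : Set G))
    rw [C.centralizer_sylow P, C.card_sylow P, C.card, mul_assoc] at this
    rw [C.centralizer_sylow P]
    exact Nat.eq_of_mul_eq_mul_left C.hs.pos this
  have h4 : (Subgroup.normalizer ((P : Subgroup G) : Set G)).index = Nat.card (Sylow s G) :=
    (Sylow.card_eq_index_normalizer P).symm
  rw [h3, h4] at h2
  exact h2

theorem Ctx.e_dvd_pred (C : Ctx G s s' q b) [Fact s.Prime] (P : Sylow s G) (e : ℕ)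
    (he : (Subgroup.centralizer ((P : Subgroup G) : Set G)).relIndex
      (Subgroup.normalizer ((P : Subgroup G) : Set G)) = e) : e ∣ s - 1 := by
  classical
  obtain ⟨M, hM⟩ := exists_isPModular s
  haveI : Fintype ↥(Subgroup.centralizer ((P : Subgroup G) : Set G)) := Fintype.ofFinite _
  haveI : Fintype ↥(Subgroup.normalizer ((P : Subgroup G) : Set G)) := Fintype.ofFinite _
  have hJe := (PB.prin P hM).card_J_mul_e (C.card_sylow P) hM
  rw [PB.prin_e, he] at hJe
  exact Dvd.intro_left _ hJe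

/-- Burnside: `e ≠ 1` -/
theorem Ctx.e_ne_one [IsSimpleGroup G] (C : Ctx G s s' q b) [Fact s.Prime] (P : Sylow s G)
    (e : ℕ)
    (he : (Subgroup.centralizer ((P : Subgroup G) : Set G)).relIndex
      (Subgroup.normalizer ((P : Subgroup G) : Set G)) = e) : e ≠ 1 := by
  rintro rfl
  have hle : Subgroup.normalizer ((P : Subgroup G) : Set G)
      ≤ Subgroup.centralizer ((P : Subgroup G) : Set G) := Subgroup.relIndex_eq_one.mp he
  have hc := MonoidHom.ker_transferSylow_isComplement' P hle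
  have hcard := hc.card_mul_card
  rw [C.card_sylow P] at hcard
  rcases (MonoidHom.normal_ker (MonoidHom.transferSylow P hle)).eq_bot_or_eq_top with h | h
  · rw [h, Subgroup.card_bot, one_mul, C.card, mul_assoc] at hcard
    have h1 : s' * q ^ b = 1 := by
      have := C.hs.pos
      nlinarith
    have := C.hs'.two_le
    have := pow_pos C.hq.pos b
    nlinarith
  · rw [h, Subgroup.card_top] at hcard
    have hpos : 0 < Nat.card G := Nat.card_pos
    have := C.hs.two_le
    nlinarith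

end grp

end Cfsg.Agent.Lib.Helper9.Bt
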