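import Mathlib
import Cfsg.Agent.Lib.Helper9.BtB
import Cfsg.Agent.Lib.Helper9.BtA
import Cfsg.Agent.S4441
import Cfsg.Agent.S0907
import Cfsg.Agent.S0910
import Cfsg.Agent.Lib.Helper6.SecondOrth

set_option autoImplicit false
set_option linter.unusedSectionVars false
set_option linter.unusedVariables false
set_option linter.style.longLine false
set_option linter.unusedSimpArgs false

set_option maxHeartbeats 1600000
namespace Cfsg.Agent.Lib.Helper9.Bt
open Cfsg Cfsg.Agent.Lib.Helper6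
open scoped ComplexConjugate

section br

variable {G : Type*} [Group G] [Fintype G]

/-- the output of Brauer's theorem S4441, with finsets -/
structure Br (s e : ℕ) (M : Ideal Cfsg.AlgInt) (P : Sylow s G)
    (X Y : Finset (Cfsg.IrrCharacter G)) (εX : Cfsg.IrrCharacter G → ℤ) (ε : ℤ) : Prop where
  hXY : ∀ χ, χ ∈ Cfsg.principalBlock M G ↔ χ ∈ X ∨ χ ∈ Y
  hdisj : ∀ χ, χ ∈ X → χ ∉ Y
  cardX : X.card = e
  cardY : Y.card = (s - 1) / e
  signX : ∀ χ ∈ X, εX χ = 1 ∨ εX χ = -1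
  degX : ∀ χ ∈ X, (Cfsg.charDegree (χ : G → ℂ) : ℤ) ≡ εX χ [ZMOD s]
  valX : ∀ χ ∈ X, ∀ x : G, x ∈ (P : Subgroup G) → x ≠ 1 → (χ : G → ℂ) x = (εX χ : ℂ)
  signε : ε = 1 ∨ ε = -1
  degY : ∀ θ ∈ Y, (Cfsg.charDegree (θ : G → ℂ) : ℤ) ≡ ε * (e : ℤ) [ZMOD s]
  agreeY : ∀ θ ∈ Y, ∀ θ' ∈ Y, ∀ g : G, ¬ s ∣ orderOf g → (θ : G → ℂ) g = (θ' : G → ℂ) g
  relY : ∀ θ ∈ Y, ∀ g : G, ¬ s ∣ orderOf g →
    (ε : ℂ) * (θ : G → ℂ) g = ∑ χ ∈ X, (εX χ : ℂ) * (χ : G → ℂ) g

theorem exists_br (s : ℕ) [hs : Fact s.Prime] (M : Ideal Cfsg.AlgInt)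
    (hM : Cfsg.IsPModular s M) (hodd : s ≠ 2) (P : Sylow s G) (hP : Nat.card P = s) (e : ℕ)
    (he : (Subgroup.centralizer ((P : Subgroup G) : Set G)).relIndex
      (Subgroup.normalizer ((P : Subgroup G) : Set G)) = e) :
    ∃ (X Y : Finset (Cfsg.IrrCharacter G)) (εX : Cfsg.IrrCharacter G → ℤ) (ε : ℤ),
      Br s e M P X Y εX ε := by
  classical
  obtain ⟨X, Y, hXY, hdisj, hX, hY, εX, ε, hXprop, hε, hYdeg, hYagree, hYrel⟩ :=
    Cfsg.Agent.S4441.result s M hM hodd P hP e he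
  haveI : Finite (Cfsg.IrrCharacter G) := inferInstance
  have hXfin : X.Finite := Set.toFinite X
  have hYfin : Y.Finite := Set.toFinite Y
  refine ⟨hXfin.toFinset, hYfin.toFinset, εX, ε, ?_⟩
  refine ⟨?_, ?_, ?_, ?_, ?_, ?_, ?_, hε, ?_, ?_, ?_⟩
  · intro χ
    rw [hXY, Set.mem_union, Set.Finite.mem_toFinset, Set.Finite.mem_toFinset]
  · intro χ h1 h2
    rw [Set.Finite.mem_toFinset] at h1 h2
    exact Set.disjoint_left.mp hdisj h1 h2
  · rw [← Set.ncard_eq_toFinset_card X hXfin, ← Nat.card_coe_set_eq]; exact hX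
  · rw [← Set.ncard_eq_toFinset_card Y hYfin, ← Nat.card_coe_set_eq]; exact hY
  · intro χ h; rw [Set.Finite.mem_toFinset] at h; exact (hXprop χ h).1
  · intro χ h; rw [Set.Finite.mem_toFinset] at h; exact (hXprop χ h).2.1
  · intro χ h x hx hx1
    rw [Set.Finite.mem_toFinset] at h
    have := (hXprop χ h).2.2 x hx hx1 1 (Subgroup.one_mem _) (by
      rw [orderOf_one, Nat.dvd_one]; exact hs.out.ne_one)
    rwa [mul_one] at this
  · intro θ h; rw [Set.Finite.mem_toFinset] at h; exact hYdeg θ h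
  · intro θ h θ' h' g hg
    rw [Set.Finite.mem_toFinset] at h h'
    exact hYagree θ h θ' h' g hg
  · intro θ h g hg
    rw [Set.Finite.mem_toFinset] at h
    rw [hYrel θ h g hg, finsum_mem_eq_finite_toFinset_sum _ hXfin]

end br

section sums

/-- a sum all of whose terms but one are divisible by `m` -/
theorem sum_modEq_single {ι : Type*} [DecidableEq ι] (X : Finset ι) (f : ι → ℤ) (m : ℤ) (x0 : ι)
    (hx0 : x0 ∈ X) (h : ∀ x ∈ X, x ≠ x0 → m ∣ f x) : ∑ x ∈ X, f x ≡ f x0 [ZMOD m] := by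
  rw [← Finset.add_sum_erase X f hx0]
  have : m ∣ ∑ x ∈ X.erase x0, f x := by
    apply Finset.dvd_sum
    intro x hx
    rw [Finset.mem_erase] at hx
    exact h x hx.2 hx.1
  have h2 : (f x0 + ∑ x ∈ X.erase x0, f x) - f x0 = ∑ x ∈ X.erase x0, f x := by ring
  exact (Int.modEq_iff_dvd.mpr (by rw [← h2] at this; simpa [sub_sub_cancel_left] using
    (dvd_neg.mpr this))).symm

/-- a sum all of whose terms but one are divisible by `m` -/
theorem sum_modEq_zero {ι : Type*} (X : Finset ι) (f : ι → ℤ) (m : ℤ)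
    (h : ∀ x ∈ X, m ∣ f x) : ∑ x ∈ X, f x ≡ 0 [ZMOD m] := by
  have : m ∣ ∑ x ∈ X, f x := Finset.dvd_sum h
  exact (Int.modEq_zero_iff_dvd).mpr this

/-- a sum all of whose terms but one are equal to `c` or divisible by `m` -/
theorem sum_modEq_two {ι : Type*} [DecidableEq ι] (X : Finset ι) (f : ι → ℤ) (m c : ℤ) (x0 : ι)
    (hx0 : x0 ∈ X) (h : ∀ x ∈ X, x ≠ x0 → f x = c ∨ m ∣ f x) :
    ∑ x ∈ X, f x ≡ f x0 + (((X.erase x0).filter (fun x => f x = c)).card : ℤ) * c [ZMOD m] := by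
  rw [← Finset.add_sum_erase X f hx0]
  apply Int.ModEq.add_left
  rw [← Finset.sum_filter_add_sum_filter_not (X.erase x0) (fun x => f x = c)]
  have h1 : ∑ x ∈ (X.erase x0).filter (fun x => f x = c), f x
      = (((X.erase x0).filter (fun x => f x = c)).card : ℤ) * c := by
    rw [Finset.sum_congr rfl (fun x hx => (Finset.mem_filter.mp hx).2), Finset.sum_const,
      nsmul_eq_mul]
  have h2 : ∑ x ∈ (X.erase x0).filter (fun x => ¬ f x = c), f x ≡ 0 [ZMOD m] := by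
    apply sum_modEq_zero
    intro x hx
    rw [Finset.mem_filter, Finset.mem_erase] at hx
    rcases h x hx.1.2 hx.1.1 with h3 | h3
    · exact absurd h3 hx.2
    · exact h3
  rw [h1]
  have := Int.ModEq.add_left ((((X.erase x0).filter (fun x => f x = c)).card : ℤ) * c) h2
  rwa [add_zero] at this

end sums

section ana

variable {G : Type*} [Group G] [Fintype G] {s s' q b e : ℕ}

theorem charDegree_oneIrr : Cfsg.charDegree ((oneIrr G : Cfsg.IrrCharacter G) : G → ℂ) = 1 := by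
  classical
  exact charDegree_one_fun

/-- the possible degrees of the irreducible characters of degree prime to `s` -/
theorem Ctx.deg_types [IsSimpleGroup G] (C : Ctx G s s' q b) (χ : Cfsg.IrrCharacter G)
    (h : ¬ s ∣ Cfsg.charDegree (χ : G → ℂ)) :
    χ = oneIrr G ∨ Cfsg.charDegree (χ : G → ℂ) = q ^ b ∨
      ∃ k, k ≤ b ∧ Cfsg.charDegree (χ : G → ℂ) = s' * q ^ k := by
  classical
  haveI : Fact q.Prime := ⟨C.hq⟩
  obtain ⟨Mq, hMq⟩ := exists_isPModular q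
  obtain ⟨d, hd⟩ : ∃ d, d = Cfsg.charDegree (χ : G → ℂ) := ⟨_, rfl⟩
  rw [← hd] at h ⊢
  have h1 : d ∣ s * (s' * q ^ b) := by
    rw [hd, ← mul_assoc, ← C.card]
    exact IsIrrCharacter.charDegree_dvd_card χ.2
  have h2 : d ∣ s' * q ^ b :=
    (Nat.Coprime.symm ((Nat.Prime.coprime_iff_not_dvd C.hs).mpr h)).dvd_of_dvd_mul_left h1
  obtain ⟨d1, d2, hd1, hd2, hdd⟩ := (Nat.dvd_mul).mp h2
  obtain ⟨k, hk, rfl⟩ := (Nat.dvd_prime_pow C.hq).mp hd2
  rcases (Nat.dvd_prime C.hs').mp hd1 with rfl | rfl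
  · rw [one_mul] at hdd
    by_cases hk0 : k = 0
    · left
      apply eq_oneIrr_of_degree_one C.hna
      rw [← hd, ← hdd, hk0, pow_zero]
    · right; left
      by_contra hne
      have hkb : k < b := by
        rcases Nat.lt_or_ge k b with h3 | h3
        · exact h3
        · exfalso; apply hne; rw [← hdd]; congr 1; omega
      have hmem : χ ∈ Cfsg.principalBlock Mq G := by
        apply mem_principalBlock_of_not_dvd q Mq hMq b
          (fun y hy1 hy => C.pow_dvd_index q b C.hq C.q_pow_dvd y hy1 hy) χ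
        rw [← hd, ← hdd]
        intro h4
        have := (Nat.pow_dvd_pow_iff_le_right C.hq.one_lt).mp h4
        omega
      have hdeg : (χ : G → ℂ) 1 = (q : ℂ) ^ k := by
        rw [IsCharacter.apply_one_eq_charDegree (IsIrrCharacter.isCharacter χ.2), ← hd, ← hdd]
        push_cast; rfl
      have h5 := Cfsg.Agent.S0910.result q Mq hMq C.hna χ hmem k hdeg
      have h6 : (χ : G → ℂ) 1 = 1 := by rw [h5]
      rw [hdeg] at h6
      have h7 : q ^ k = 1 := by exact_mod_cast h6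
      have := Nat.one_lt_pow hk0 C.hq.one_lt
      omega
  · right; right
    exact ⟨k, hk, hdd.symm⟩

variable [hsF : Fact s.Prime] {M : Ideal Cfsg.AlgInt} {P : Sylow s G}
  {X Y : Finset (Cfsg.IrrCharacter G)} {εX : Cfsg.IrrCharacter G → ℤ} {ε : ℤ}

theorem Br.not_dvd_X (B : Br s e M P X Y εX ε) (χ : Cfsg.IrrCharacter G) (hχ : χ ∈ X) :
    ¬ s ∣ Cfsg.charDegree (χ : G → ℂ) := by
  intro h
  have h1 := B.degX χ hχ
  have h2 : (s : ℤ) ∣ (Cfsg.charDegree (χ : G → ℂ) : ℤ) := by exact_mod_cast h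
  have h3 : (s : ℤ) ∣ εX χ := by
    have := (Int.modEq_iff_dvd.mp h1)
    have h4 : εX χ = (εX χ - (Cfsg.charDegree (χ : G → ℂ) : ℤ)) + (Cfsg.charDegree (χ : G → ℂ) : ℤ) := by
      ring
    rw [h4]
    exact dvd_add this h2
  have hs2 : (2 : ℤ) ≤ (s : ℤ) := by exact_mod_cast hsF.out.two_le
  rcases B.signX χ hχ with h5 | h5 <;> rw [h5] at h3
  · have := Int.le_of_dvd one_pos h3; omega
  · have := Int.le_of_dvd one_pos ((dvd_neg).mp h3); omega

theorem Br.not_dvd_Y (B : Br s e M P X Y εX ε) (he0 : 0 < e) (hes : e < s)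
    (θ : Cfsg.IrrCharacter G) (hθ : θ ∈ Y) :
    ¬ s ∣ Cfsg.charDegree (θ : G → ℂ) := by
  intro h
  have h1 := B.degY θ hθ
  have h2 : (s : ℤ) ∣ (Cfsg.charDegree (θ : G → ℂ) : ℤ) := by exact_mod_cast h
  have h3 : (s : ℤ) ∣ ε * (e : ℤ) := by
    have := (Int.modEq_iff_dvd.mp h1)
    have h4 : ε * (e : ℤ) = (ε * (e : ℤ) - (Cfsg.charDegree (θ : G → ℂ) : ℤ))
        + (Cfsg.charDegree (θ : G → ℂ) : ℤ) := by ring
    rw [h4]
    exact dvd_add this h2
  have h5 : (s : ℤ) ∣ (e : ℤ) := by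
    rcases B.signε with h6 | h6 <;> rw [h6] at h3
    · simpa using h3
    · simpa using h3
  have h6 : s ∣ e := by exact_mod_cast h5
  have := Nat.le_of_dvd he0 h6
  omega

/-- the degree equation -/
theorem Br.deg_eq (B : Br s e M P X Y εX ε) (θ : Cfsg.IrrCharacter G) (hθ : θ ∈ Y) :
    ε * (Cfsg.charDegree (θ : G → ℂ) : ℤ)
      = ∑ χ ∈ X, εX χ * (Cfsg.charDegree (χ : G → ℂ) : ℤ) := by
  have h := B.relY θ hθ 1 (by rw [orderOf_one, Nat.dvd_one]; exact hsF.out.ne_one)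
  rw [IsCharacter.apply_one_eq_charDegree (IsIrrCharacter.isCharacter θ.2)] at h
  have h2 : ∑ χ ∈ X, (εX χ : ℂ) * (χ : G → ℂ) 1
      = ((∑ χ ∈ X, εX χ * (Cfsg.charDegree (χ : G → ℂ) : ℤ) : ℤ) : ℂ) := by
    push_cast
    apply Finset.sum_congr rfl
    intro χ _
    rw [IsCharacter.apply_one_eq_charDegree (IsIrrCharacter.isCharacter χ.2)]
  rw [h2] at h
  exact_mod_cast h

theorem Br.one_mem (B : Br s e M P X Y εX ε) (hM : Cfsg.IsPModular s M) :
    oneIrr G ∈ X ∨ oneIrr G ∈ Y := by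
  classical
  exact (B.hXY _).mp (oneIrr_mem_principalBlock hM)

theorem Br.Y_nonempty (B : Br s e M P X Y εX ε) (he0 : 0 < e) (hed : e ∣ s - 1) :
    ∃ θ, θ ∈ Y := by
  have h1 : 0 < (s - 1) / e := by
    apply Nat.div_pos (Nat.le_of_dvd _ hed) he0
    have := hsF.out.two_le; omega
  rw [← B.cardY] at h1
  exact Finset.card_pos.mp h1

theorem Br.Y_deg_const (B : Br s e M P X Y εX ε) (θ θ' : Cfsg.IrrCharacter G) (hθ : θ ∈ Y)
    (hθ' : θ' ∈ Y) : Cfsg.charDegree (θ : G → ℂ) = Cfsg.charDegree (θ' : G → ℂ) := by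
  have h := B.agreeY θ hθ θ' hθ' 1 (by rw [orderOf_one, Nat.dvd_one]; exact hsF.out.ne_one)
  rw [IsCharacter.apply_one_eq_charDegree (IsIrrCharacter.isCharacter θ.2),
    IsCharacter.apply_one_eq_charDegree (IsIrrCharacter.isCharacter θ'.2)] at h
  exact_mod_cast h

/-- nontrivial members of the principal block of degree different from `s'` have degree
divisible by `q` -/
theorem Br.q_dvd [IsSimpleGroup G] (B : Br s e M P X Y εX ε) (C : Ctx G s s' q b) (he0 : 0 < e)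
    (hes : e < s) (χ : Cfsg.IrrCharacter G) (hχ : χ ∈ X ∨ χ ∈ Y) (h1 : χ ≠ oneIrr G)
    (h2 : Cfsg.charDegree (χ : G → ℂ) ≠ s') : (q : ℤ) ∣ (Cfsg.charDegree (χ : G → ℂ) : ℤ) := by
  have hnd : ¬ s ∣ Cfsg.charDegree (χ : G → ℂ) := by
    rcases hχ with h | h
    · exact B.not_dvd_X χ h
    · exact B.not_dvd_Y he0 hes χ h
  rcases C.deg_types χ hnd with h3 | h3 | ⟨k, hk, h3⟩
  · exact absurd h3 h1
  · rw [h3]
    have hb0 : b ≠ 0 := by
      rintro rfl
      apply h1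
      apply eq_oneIrr_of_degree_one C.hna
      rw [h3, pow_zero]
    exact_mod_cast dvd_pow_self q hb0
  · rw [h3]
    have hk0 : k ≠ 0 := by
      rintro rfl
      apply h2
      rw [h3, pow_zero, mul_one]
    exact_mod_cast Dvd.dvd.mul_left (dvd_pow_self q hk0) s'

/-- the principal block contains a character of degree `s'` -/
theorem Br.exists_deg [IsSimpleGroup G] (B : Br s e M P X Y εX ε) (C : Ctx G s s' q b)
    (hM : Cfsg.IsPModular s M) (he0 : 0 < e) (hes : e < s) (hed : e ∣ s - 1) :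
    ∃ χ, (χ ∈ X ∨ χ ∈ Y) ∧ Cfsg.charDegree (χ : G → ℂ) = s' := by
  classical
  by_contra hno
  push Not at hno
  have hq1 : ¬ (q : ℤ) ∣ 1 := by
    intro h
    have := Int.le_of_dvd one_pos h
    have : (2 : ℤ) ≤ q := by exact_mod_cast C.hq.two_le
    omega
  have hqsign : ∀ z : ℤ, z = 1 ∨ z = -1 → ¬ (q : ℤ) ∣ z := by
    intro z hz h
    rcases hz with rfl | rfl
    · exact hq1 h
    · exact hq1 ((dvd_neg).mp h)
  rcases B.one_mem hM with h1 | h1
  · obtain ⟨θ, hθ⟩ := B.Y_nonempty he0 hed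
    have hθ1 : θ ≠ oneIrr G := by
      rintro rfl
      exact B.hdisj _ h1 hθ
    have h2 := B.deg_eq θ hθ
    have h3 : ∑ χ ∈ X, εX χ * (Cfsg.charDegree (χ : G → ℂ) : ℤ)
        ≡ εX (oneIrr G) * (Cfsg.charDegree ((oneIrr G : Cfsg.IrrCharacter G) : G → ℂ) : ℤ)
          [ZMOD (q : ℤ)] := by
      apply sum_modEq_single X _ _ _ h1
      intro χ hχ hne
      exact Dvd.dvd.mul_left (B.q_dvd C he0 hes χ (Or.inl hχ) hne (hno χ (Or.inl hχ))) _
    rw [← h2, charDegree_oneIrr, Nat.cast_one, mul_one] at h3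
    have h4 : (q : ℤ) ∣ ε * (Cfsg.charDegree (θ : G → ℂ) : ℤ) :=
      Dvd.dvd.mul_left (B.q_dvd C he0 hes θ (Or.inr hθ) hθ1 (hno θ (Or.inr hθ))) _
    have h5 : (q : ℤ) ∣ εX (oneIrr G) := by
      have := (Int.modEq_iff_dvd.mp h3)
      have h6 : εX (oneIrr G) = (εX (oneIrr G) - ε * (Cfsg.charDegree (θ : G → ℂ) : ℤ))
          + ε * (Cfsg.charDegree (θ : G → ℂ) : ℤ) := by ring
      rw [h6]
      exact dvd_add this h4
    exact hqsign _ (B.signX _ h1) h5
  · have h2 := B.deg_eq _ h1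
    rw [charDegree_oneIrr, Nat.cast_one, mul_one] at h2
    have h3 : ∑ χ ∈ X, εX χ * (Cfsg.charDegree (χ : G → ℂ) : ℤ) ≡ 0 [ZMOD (q : ℤ)] := by
      apply sum_modEq_zero
      intro χ hχ
      have hne : χ ≠ oneIrr G := by
        rintro rfl
        exact B.hdisj _ hχ h1
      exact Dvd.dvd.mul_left (B.q_dvd C he0 hes χ (Or.inl hχ) hne (hno χ (Or.inl hχ))) _
    rw [← h2] at h3
    exact hqsign _ B.signε ((Int.modEq_zero_iff_dvd).mp h3)

end ana

end Cfsg.Agent.Lib.Helper9.Bt
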