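import Mathlib
import Cfsg.Agent.Lib.Helper9.BtC

set_option autoImplicit false
set_option linter.unusedSectionVars false
set_option linter.unusedVariables false
set_option linter.style.longLine false
set_option linter.unusedSimpArgs false

set_option maxHeartbeats 1600000
namespace Cfsg.Agent.Lib.Helper9.Bt
open Cfsg Cfsg.Agent.Lib.Helper6
open scoped ComplexConjugate

section arith

theorem sign_modEq (d s : ℕ) (hs : 2 ≤ s) (z : ℤ) (hz : z = 1 ∨ z = -1)
    (h : (d : ℤ) ≡ z [ZMOD s]) : (z = 1 ∧ d % s = 1) ∨ (z = -1 ∧ d % s = s - 1) := by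
  rcases hz with rfl | rfl
  · left
    refine ⟨rfl, ?_⟩
    have h1 : d ≡ 1 [MOD s] := by
      apply Int.natCast_modEq_iff.mp
      simpa using h
    unfold Nat.ModEq at h1
    rw [h1]
    exact Nat.mod_eq_of_lt (by omega)
  · right
    refine ⟨rfl, ?_⟩
    have h1 : (s : ℤ) ∣ (d : ℤ) + 1 := by
      have := Int.modEq_iff_dvd.mp h
      have h2 : (d : ℤ) + 1 = -(-1 - (d : ℤ)) := by ring
      rw [h2]
      exact (dvd_neg).mpr this
    have h2 : s ∣ d + 1 := by exact_mod_cast h1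
    obtain ⟨k, hk⟩ := h2
    have hk1 : 1 ≤ k := by
      rcases Nat.eq_zero_or_pos k with rfl | h3
      · omega
      · exact h3
    obtain ⟨j, rfl⟩ : ∃ j, k = j + 1 := ⟨k - 1, by omega⟩
    have h3 : d = (s - 1) + s * j := by
      have : s * (j + 1) = s * j + s := by ring
      omega
    rw [h3, Nat.add_mul_mod_self_left]
    exact Nat.mod_eq_of_lt (by omega)

end arith

section pa

variable {G : Type*} [Group G] [Fintype G] {s s' q b e : ℕ}
variable [hsF : Fact s.Prime] {M : Ideal Cfsg.AlgInt} {P : Sylow s G}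
  {X Y : Finset (Cfsg.IrrCharacter G)} {εX : Cfsg.IrrCharacter G → ℤ} {ε : ℤ}

/-- the analysis of the principal block for the larger of the two primes `s > s'` -/
theorem Br.analysis [IsSimpleGroup G] (B : Br s e M P X Y εX ε) (C : Ctx G s s' q b)
    (hM : Cfsg.IsPModular s M) (hlt : s' < s) (hs'3 : 3 ≤ s') (hq : q ∣ s' - 1)
    (he1 : e ≠ 1) (hed : e ∣ s - 1) :
    oneIrr G ∈ X ∧ εX (oneIrr G) = 1 ∧ (∀ θ ∈ Y, Cfsg.charDegree (θ : G → ℂ) = s') ∧
    (∀ χ ∈ X, χ ≠ oneIrr G → (Cfsg.charDegree (χ : G → ℂ) = q ^ b ∨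
      ∃ k, 1 ≤ k ∧ k ≤ b ∧ Cfsg.charDegree (χ : G → ℂ) = s' * q ^ k)) ∧
    ((ε = 1 ∧ e = s') ∨ (ε = -1 ∧ e + s' = s ∧ q = 2)) := by
  classical
  have hs2 : 2 ≤ s := hsF.out.two_le
  have hs5 : 5 ≤ s := by
    have h4 : s ≠ 4 := by
      rintro rfl
      exact absurd hsF.out (by norm_num)
    omega
  have he0 : 0 < e := by
    rcases Nat.eq_zero_or_pos e with rfl | h
    · rw [zero_dvd_iff] at hed; omega
    · exact h
  have hes : e < s := by
    have := Nat.le_of_dvd (by omega) hed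
    omega
  have hsodd : s % 2 = 1 := by
    rcases hsF.out.eq_two_or_odd with h | h
    · omega
    · exact h
  have hs'odd : s' % 2 = 1 := by
    rcases C.hs'.eq_two_or_odd with h | h
    · omega
    · exact h
  -- no member of X has degree s'
  have notX : ∀ χ ∈ X, Cfsg.charDegree (χ : G → ℂ) ≠ s' := by
    intro χ hχ hd
    have h1 := B.degX χ hχ
    rw [hd] at h1
    have hmod : s' % s = s' := Nat.mod_eq_of_lt hlt
    rcases sign_modEq s' s hs2 _ (B.signX χ hχ) h1 with ⟨_, h2⟩ | ⟨_, h2⟩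
    · omega
    · omega
  obtain ⟨χ0, hχ0, hd0⟩ := B.exists_deg C hM he0 hes hed
  have hχ0Y : χ0 ∈ Y := by
    rcases hχ0 with h | h
    · exact absurd hd0 (notX χ0 h)
    · exact h
  have hYdeg : ∀ θ ∈ Y, Cfsg.charDegree (θ : G → ℂ) = s' := by
    intro θ hθ
    rw [B.Y_deg_const θ χ0 hθ hχ0Y, hd0]
  have h1X : oneIrr G ∈ X := by
    rcases B.one_mem hM with h | h
    · exact h
    · exfalso
      have := hYdeg _ h
      rw [charDegree_oneIrr] at this
      omega
  have hε1 : εX (oneIrr G) = 1 := by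
    have h1 := B.degX _ h1X
    rw [charDegree_oneIrr] at h1
    rcases sign_modEq 1 s hs2 _ (B.signX _ h1X) h1 with ⟨h2, _⟩ | ⟨_, h2⟩
    · exact h2
    · rw [Nat.mod_eq_of_lt (by omega)] at h2; omega
  have hXdeg : ∀ χ ∈ X, χ ≠ oneIrr G → (Cfsg.charDegree (χ : G → ℂ) = q ^ b ∨
      ∃ k, 1 ≤ k ∧ k ≤ b ∧ Cfsg.charDegree (χ : G → ℂ) = s' * q ^ k) := by
    intro χ hχ hne
    rcases C.deg_types χ (B.not_dvd_X χ hχ) with h | h | ⟨k, hk, h⟩
    · exact absurd h hne
    · left; exact h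
    · right
      refine ⟨k, ?_, hk, h⟩
      rcases Nat.eq_zero_or_pos k with rfl | h3
      · exfalso
        apply notX χ hχ
        rw [h, pow_zero, mul_one]
      · exact h3
  refine ⟨h1X, hε1, hYdeg, hXdeg, ?_⟩
  -- ε s' ≡ 1 mod q
  have hmodq : ε * (s' : ℤ) ≡ 1 [ZMOD (q : ℤ)] := by
    rw [← hd0, B.deg_eq χ0 hχ0Y]
    have := sum_modEq_single X (fun χ => εX χ * (Cfsg.charDegree (χ : G → ℂ) : ℤ)) (q : ℤ)
      (oneIrr G) h1X (by
        intro χ hχ hne
        exact Dvd.dvd.mul_left (B.q_dvd C he0 hes χ (Or.inl hχ) hne (notX χ hχ)) _)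
    simp only [hε1, charDegree_oneIrr, Nat.cast_one, mul_one] at this
    exact this
  have hs'q : (s' : ℤ) ≡ 1 [ZMOD (q : ℤ)] := by
    have h1 : (q : ℤ) ∣ (s' : ℤ) - 1 := by
      have : ((s' - 1 : ℕ) : ℤ) = (s' : ℤ) - 1 := by
        rw [Nat.cast_sub (by omega)]; simp
      rw [← this]
      exact_mod_cast hq
    exact (Int.modEq_iff_dvd.mpr (by
      have h2 : (1 : ℤ) - (s' : ℤ) = -((s' : ℤ) - 1) := by ring
      rw [h2]; exact (dvd_neg).mpr h1))
  have hdY := B.degY χ0 hχ0Y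
  rw [hd0] at hdY
  rcases B.signε with hε | hε
  · left
    refine ⟨hε, ?_⟩
    rw [hε, one_mul] at hdY
    have h2 : s' ≡ e [MOD s] := Int.natCast_modEq_iff.mp hdY
    unfold Nat.ModEq at h2
    rw [Nat.mod_eq_of_lt hlt, Nat.mod_eq_of_lt hes] at h2
    exact h2.symm
  · right
    refine ⟨hε, ?_, ?_⟩
    · rw [hε] at hdY
      have h2 : (s : ℤ) ∣ (e : ℤ) + (s' : ℤ) := by
        have := Int.modEq_iff_dvd.mp hdY
        have h3 : (e : ℤ) + (s' : ℤ) = -(-1 * (e : ℤ) - (s' : ℤ)) := by ring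
        rw [h3]
        exact (dvd_neg).mpr this
      have h3 : s ∣ e + s' := by exact_mod_cast h2
      obtain ⟨k, hk⟩ := h3
      have hk1 : k = 1 := by
        rcases Nat.lt_or_ge k 1 with h | h
        · have : k = 0 := by omega
          rw [this] at hk; omega
        · rcases Nat.lt_or_ge k 2 with h' | h'
          · omega
          · exfalso
            have : s * 2 ≤ s * k := Nat.mul_le_mul_left s h'
            omega
      rw [hk1, mul_one] at hk
      exact hk
    · rw [hε] at hmodq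
      have h2 : (-1 : ℤ) * (s' : ℤ) ≡ -1 [ZMOD (q : ℤ)] := by
        have := Int.ModEq.mul_left (-1) hs'q
        simpa using this
      have h3 : (1 : ℤ) ≡ -1 [ZMOD (q : ℤ)] := hmodq.symm.trans h2
      have h4 : (q : ℤ) ∣ 2 := by
        have := Int.modEq_iff_dvd.mp h3
        have h5 : (2 : ℤ) = -(-1 - 1) := by norm_num
        rw [h5]; exact (dvd_neg).mpr this
      have h5 : q ∣ 2 := by exact_mod_cast h4
      exact (Nat.prime_dvd_prime_iff_eq C.hq Nat.prime_two).mp h5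

end pa

end Cfsg.Agent.Lib.Helper9.Bt
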