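import Mathlib
import Cfsg.Agent.Lib.Helper9.BtD
import Cfsg.Agent.Lib.Helper9.BmA
import Cfsg.Agent.Lib.Helper6.PB13

set_option autoImplicit false
set_option linter.unusedSectionVars false
set_option linter.unusedVariables false
set_option linter.style.longLine false
set_option linter.unusedSimpArgs false

set_option maxHeartbeats 1600000
namespace Cfsg.Agent.Lib.Helper9.Bt
open Cfsg Cfsg.Agent.Lib.Helper6
open scoped ComplexConjugate Pointwise

section vals

variable {G : Type*} [Group G] [Fintype G] {s s' q b e : ℕ}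
variable [hsF : Fact s.Prime] {M : Ideal Cfsg.AlgInt} {P : Sylow s G}
  {X Y : Finset (Cfsg.IrrCharacter G)} {εX : Cfsg.IrrCharacter G → ℤ} {ε : ℤ}

/-- an element of order `s` is conjugate into `P` -/
theorem exists_conj_mem (P : Sylow s G) (g : G) (hg : orderOf g = s) :
    ∃ h : G, h * g * h⁻¹ ∈ (P : Subgroup G) := by
  have hpg : IsPGroup s (Subgroup.zpowers g) := by
    apply IsPGroup.of_card (n := 1)
    rw [Nat.card_zpowers, hg, pow_one]
  obtain ⟨Q, hQ⟩ := hpg.exists_le_sylow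
  have hgQ : g ∈ (Q : Subgroup G) := hQ (Subgroup.mem_zpowers g)
  obtain ⟨h, hh⟩ := MulAction.exists_smul_eq G Q P
  refine ⟨h, ?_⟩
  have h1 : MulAut.conj h • g ∈ MulAut.conj h • (Q : Subgroup G) :=
    Subgroup.smul_mem_pointwise_smul _ _ _ hgQ
  rw [← Sylow.pointwise_smul_def, ← Sylow.smul_def, hh] at h1
  simpa [MulAut.smul_def] using h1

/-- the values of the non-exceptional characters at all elements of order `s` -/
theorem Br.val_of_order (B : Br s e M P X Y εX ε) (χ : Cfsg.IrrCharacter G) (hχ : χ ∈ X) (g : G)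
    (hg : orderOf g = s) : (χ : G → ℂ) g = (εX χ : ℂ) := by
  obtain ⟨h, hh⟩ := exists_conj_mem P g hg
  have h1 : h * g * h⁻¹ ≠ 1 := by
    intro h2
    have : g = 1 := by
      have := congrArg (fun z => h⁻¹ * z * h) h2
      simpa [mul_assoc] using this
    rw [this, orderOf_one] at hg
    exact hsF.out.ne_one hg.symm
  rw [← B.valX χ hχ _ hh h1]
  exact (IsCharacter.isClassFunction (IsIrrCharacter.isCharacter χ.2) g h).symm

/-- characters outside the principal block vanish at `s`-singular elements -/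
theorem Ctx.vanish [IsSimpleGroup G] (C : Ctx G s s' q b) (hM : Cfsg.IsPModular s M)
    (ψ : Cfsg.IrrCharacter G) (hψ : ψ ∉ Cfsg.principalBlock M G) (x : G) (hx : s ∣ orderOf x) :
    (ψ : G → ℂ) x = 0 := by
  apply vanish_of_notMem s M hM C.dvd_card C.not_sq_dvd _ ψ hψ x hx
  intro y hy1 hy
  have := C.pow_dvd_index s 1 C.hs (by simpa using C.dvd_card) y hy1 hy
  simpa using this

theorem orderOf_of_mem (C : Ctx G s s' q b) (x : G) (hx : x ∈ (P : Subgroup G)) (hx1 : x ≠ 1) :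
    orderOf x = s :=
  Cfsg.Agent.Lib.Helper2.Ot.orderOf_eq_of_mem_sylow s C.dvd_card C.not_sq_dvd P hx hx1

/-- second orthogonality at a nontrivial element of `P` -/
theorem Br.sum_Y_normSq [IsSimpleGroup G] (B : Br s e M P X Y εX ε) (C : Ctx G s s' q b)
    (hM : Cfsg.IsPModular s M) (x : G) (hx : x ∈ (P : Subgroup G)) (hx1 : x ≠ 1) :
    ∑ θ ∈ Y, Complex.normSq ((θ : G → ℂ) x) = (s : ℝ) - (e : ℝ) := by
  classical
  haveI : Fintype (Cfsg.IrrCharacter G) := Fintype.ofFinite _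
  have h := (sum_irr_mul_conj x x).1 (IsConj.refl x)
  have hc : Nat.card (Subgroup.centralizer ({x} : Set G)) = s := by
    rw [PB.centralizer_singleton_eq P (C.card_sylow P) hx hx1, C.centralizer_sylow P,
      C.card_sylow P]
  rw [hc] at h
  have h' : ∑ ψ : Cfsg.IrrCharacter G, Complex.normSq ((ψ : G → ℂ) x) = (s : ℝ) := by
    have : ((∑ ψ : Cfsg.IrrCharacter G, Complex.normSq ((ψ : G → ℂ) x) : ℝ) : ℂ)
        = ((s : ℝ) : ℂ) := by
      push_cast
      rw [← h]
      apply Finset.sum_congr rfl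
      intro ψ _
      rw [Complex.mul_conj]
    exact_mod_cast this
  have hdisj : Disjoint X Y := Finset.disjoint_left.mpr (fun χ h1 h2 => B.hdisj χ h1 h2)
  rw [← Finset.sum_sdiff (Finset.subset_univ (X ∪ Y)), Finset.sum_union hdisj] at h'
  have h1 : ∑ ψ ∈ Finset.univ \ (X ∪ Y), Complex.normSq ((ψ : G → ℂ) x) = 0 := by
    apply Finset.sum_eq_zero
    intro ψ hψ
    rw [Finset.mem_sdiff, Finset.mem_union] at hψ
    have hnot : ψ ∉ Cfsg.principalBlock M G := fun h2 => hψ.2 ((B.hXY ψ).mp h2)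
    rw [C.vanish hM ψ hnot x (by rw [orderOf_of_mem C x hx hx1])]
    simp
  have h2 : ∑ ψ ∈ X, Complex.normSq ((ψ : G → ℂ) x) = (e : ℝ) := by
    have : ∀ ψ ∈ X, Complex.normSq ((ψ : G → ℂ) x) = 1 := by
      intro ψ hψ
      rw [B.valX ψ hψ x hx hx1]
      rcases B.signX ψ hψ with h3 | h3 <;> rw [h3] <;> simp
    rw [Finset.sum_congr rfl this, Finset.sum_const, nsmul_eq_mul, mul_one, B.cardX]
  rw [h1, h2] at h'
  linarith

/-- weak block orthogonality between `1` and a nontrivial element of `P` -/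
theorem Br.sum_Y_apply (B : Br s e M P X Y εX ε) (C : Ctx G s s' q b)
    (hM : Cfsg.IsPModular s M) (x : G) (hx : x ∈ (P : Subgroup G)) (hx1 : x ≠ 1) (d : ℕ)
    (hd : ∀ θ ∈ Y, Cfsg.charDegree (θ : G → ℂ) = d) (hd0 : d ≠ 0) (hY : ∃ θ, θ ∈ Y) :
    ∑ θ ∈ Y, (θ : G → ℂ) x = -(ε : ℂ) := by
  classical
  have h := Cfsg.Agent.S0907.result s M hM (Cfsg.principalBlock M G) isPBlock_principalBlock 1 x
    (by rw [orderOf_one, Nat.dvd_one]; exact hsF.out.ne_one)
    (by rw [orderOf_of_mem C x hx hx1])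
  have hset : Cfsg.principalBlock M G = ((X ∪ Y : Finset (Cfsg.IrrCharacter G)) : Set _) := by
    ext χ
    rw [B.hXY, Finset.mem_coe, Finset.mem_union]
  have hdisj : Disjoint X Y := Finset.disjoint_left.mpr (fun χ h1 h2 => B.hdisj χ h1 h2)
  rw [hset, finsum_mem_coe_finset, Finset.sum_union hdisj] at h
  obtain ⟨θ0, hθ0⟩ := hY
  have h1 : ∑ χ ∈ X, (χ : G → ℂ) 1 * conj ((χ : G → ℂ) x) = (ε : ℂ) * (d : ℂ) := by
    have h2 := B.deg_eq θ0 hθ0
    rw [hd θ0 hθ0] at h2
    have h3 : ((ε * (d : ℤ) : ℤ) : ℂ) = (ε : ℂ) * (d : ℂ) := by push_cast; ring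
    rw [← h3, h2]
    push_cast
    apply Finset.sum_congr rfl
    intro χ hχ
    rw [B.valX χ hχ x hx hx1, IsCharacter.apply_one_eq_charDegree (IsIrrCharacter.isCharacter χ.2),
      map_intCast]
    ring
  have h2 : ∑ θ ∈ Y, (θ : G → ℂ) 1 * conj ((θ : G → ℂ) x)
      = (d : ℂ) * conj (∑ θ ∈ Y, (θ : G → ℂ) x) := by
    rw [map_sum, Finset.mul_sum]
    apply Finset.sum_congr rfl
    intro θ hθ
    rw [IsCharacter.apply_one_eq_charDegree (IsIrrCharacter.isCharacter θ.2), hd θ hθ]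
  rw [h1, h2] at h
  have hd0' : (d : ℂ) ≠ 0 := by exact_mod_cast hd0
  have h3 : conj (∑ θ ∈ Y, (θ : G → ℂ) x) = -(ε : ℂ) := by
    have : (d : ℂ) * ((ε : ℂ) + conj (∑ θ ∈ Y, (θ : G → ℂ) x)) = 0 := by
      rw [← h]; ring
    rcases mul_eq_zero.mp this with h4 | h4
    · exact absurd h4 hd0'
    · linear_combination h4
  have h4 := congrArg conj h3
  rw [Complex.conj_conj, map_neg, map_intCast] at h4
  exact h4

end vals

section lsum

variable {G : Type*} [Group G] [Fintype G] {s s' q b e : ℕ}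
variable [hsF : Fact s.Prime] {M : Ideal Cfsg.AlgInt} {P : Sylow s G}
  {X Y : Finset (Cfsg.IrrCharacter G)} {εX : Cfsg.IrrCharacter G → ℤ} {ε : ℤ}

open Classical in
/-- the nontrivial elements of `P` -/
noncomputable def PS (P : Sylow s G) : Finset G :=
  Finset.univ.filter (fun x : G => x ∈ (P : Subgroup G) ∧ x ≠ 1)

theorem mem_PS (P : Sylow s G) (x : G) : x ∈ PS P ↔ x ∈ (P : Subgroup G) ∧ x ≠ 1 := by
  unfold PS
  simp

theorem card_PS (C : Ctx G s s' q b) (P : Sylow s G) : (PS P).card = s - 1 := by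
  classical
  have h := Cfsg.Agent.Lib.Helper2.Ot.card_mem_ne_one (P : Subgroup G)
  rw [C.card_sylow P, Nat.card_eq_fintype_card, Fintype.card_subtype] at h
  rw [← h]
  unfold PS
  congr 1

/-- the sum of a character over `P` -/
theorem sum_PS_add {γ : G → ℂ} (hγ : IsCharacter G γ) (C : Ctx G s s' q b) (P : Sylow s G) :
    ∃ n : ℕ, ∑ x ∈ PS P, γ x + γ 1 = (s : ℂ) * n := by
  classical
  haveI : Fintype (P : Subgroup G) := Fintype.ofFinite _
  obtain ⟨n1, _, h1, _⟩ := Cfsg.Agent.Lib.Helper9.Bm.sub_nat hγ (P : Subgroup G)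
  rw [C.card_sylow P] at h1
  refine ⟨n1, ?_⟩
  rw [← h1]
  have h2 : ∑ h : (P : Subgroup G), γ h = ∑ x ∈ Finset.univ.filter (fun x : G => x ∈ (P : Subgroup G)), γ x := by
    rw [Finset.sum_subtype (p := fun x : G => x ∈ (P : Subgroup G))
      (Finset.univ.filter (fun x : G => x ∈ (P : Subgroup G))) (fun x => by simp) γ]
  rw [h2]
  have h3 : Finset.univ.filter (fun x : G => x ∈ (P : Subgroup G)) = insert 1 (PS P) := by
    ext x
    rw [Finset.mem_insert, mem_PS, Finset.mem_filter]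
    constructor
    · rintro ⟨_, hx⟩
      by_cases hx1 : x = 1
      · left; exact hx1
      · right; exact ⟨hx, hx1⟩
    · rintro (rfl | ⟨hx, _⟩)
      · exact ⟨Finset.mem_univ _, Subgroup.one_mem _⟩
      · exact ⟨Finset.mem_univ _, hx⟩
  rw [h3, Finset.sum_insert (by rw [mem_PS]; exact fun h => h.2 rfl)]
  ring

end lsum

end Cfsg.Agent.Lib.Helper9.Bt
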