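import Mathlib
import Cfsg.Agent.Lib.Helper9.BtE
import Cfsg.Agent.Lib.Helper6.CharOps
import Cfsg.Agent.Lib.Helper6.Norm
import Cfsg.Agent.Lib.Helper6.Orthogonality

set_option autoImplicit false
set_option linter.unusedSectionVars false
set_option linter.unusedVariables false
set_option linter.style.longLine false
set_option linter.unusedSimpArgs false

set_option maxHeartbeats 1600000
namespace Cfsg.Agent.Lib.Helper9.Bt
open Cfsg Cfsg.Agent.Lib.Helper6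
open scoped ComplexConjugate

section caseA

variable {G : Type*} [Group G] [Fintype G] {s s' q b e : ℕ}
variable [hsF : Fact s.Prime] {M : Ideal Cfsg.AlgInt} {P : Sylow s G}
  {X Y : Finset (Cfsg.IrrCharacter G)} {εX : Cfsg.IrrCharacter G → ℤ} {ε : ℤ}

/-- in Case A the exceptional characters restricted to `P` do not contain the trivial character -/
theorem Br.lsum_Y (B : Br s e M P X Y εX ε) (C : Ctx G s s' q b)
    (hM : Cfsg.IsPModular s M) (hed : e ∣ s - 1) (hes' : e = s') (hε : ε = 1)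
    (hYdeg : ∀ θ ∈ Y, Cfsg.charDegree (θ : G → ℂ) = s') (θ : Cfsg.IrrCharacter G) (hθ : θ ∈ Y) :
    ∑ x ∈ PS P, (θ : G → ℂ) x = -(s' : ℂ) := by
  classical
  have hs2 : 2 ≤ s := hsF.out.two_le
  have hs'0 : s' ≠ 0 := C.hs'.ne_zero
  have hn : ∀ ψ : Cfsg.IrrCharacter G, ∃ n : ℕ,
      ∑ x ∈ PS P, (ψ : G → ℂ) x + (ψ : G → ℂ) 1 = (s : ℂ) * n :=
    fun ψ => sum_PS_add (IsIrrCharacter.isCharacter ψ.2) C P
  choose n hn using hn
  have hst : s - 1 = e * Y.card := by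
    rw [B.cardY, Nat.mul_div_cancel' hed]
  -- the double sum
  have h1 : ∑ ψ ∈ Y, ∑ x ∈ PS P, (ψ : G → ℂ) x = -((s : ℂ) - 1) := by
    rw [Finset.sum_comm]
    have : ∀ x ∈ PS P, ∑ ψ ∈ Y, (ψ : G → ℂ) x = -(ε : ℂ) := by
      intro x hx
      rw [mem_PS] at hx
      exact B.sum_Y_apply C hM x hx.1 hx.2 s' hYdeg hs'0 ⟨θ, hθ⟩
    rw [Finset.sum_congr rfl this, Finset.sum_const, card_PS C P, hε]
    rw [nsmul_eq_mul, Nat.cast_sub (by omega)]
    push_cast; ring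
  have h2 : ∑ ψ ∈ Y, ((s : ℂ) * (n ψ : ℂ)) = 0 := by
    have : ∀ ψ ∈ Y, (s : ℂ) * (n ψ : ℂ) = ∑ x ∈ PS P, (ψ : G → ℂ) x + (s' : ℂ) := by
      intro ψ hψ
      rw [← hn ψ, IsCharacter.apply_one_eq_charDegree (IsIrrCharacter.isCharacter ψ.2),
        hYdeg ψ hψ]
    rw [Finset.sum_congr rfl this, Finset.sum_add_distrib, h1, Finset.sum_const, nsmul_eq_mul]
    have h3 : ((s - 1 : ℕ) : ℂ) = (s : ℂ) - 1 := by
      rw [Nat.cast_sub (by omega)]; simp
    rw [← h3, hst, hes']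
    push_cast; ring
  have h3 : ∑ ψ ∈ Y, n ψ = 0 := by
    have h4 : ((s * ∑ ψ ∈ Y, n ψ : ℕ) : ℂ) = 0 := by
      push_cast
      rw [Finset.mul_sum]
      exact h2
    have h5 : s * ∑ ψ ∈ Y, n ψ = 0 := by exact_mod_cast h4
    rcases Nat.mul_eq_zero.mp h5 with h6 | h6
    · omega
    · exact h6
  have h4 : n θ = 0 := (Finset.sum_eq_zero_iff.mp h3) θ hθ
  have h5 := hn θ
  rw [h4, IsCharacter.apply_one_eq_charDegree (IsIrrCharacter.isCharacter θ.2), hYdeg θ hθ] at h5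
  linear_combination h5

/-- the key inequality of Case A, from the decomposition of `∑ θ conj θ` -/
theorem Br.key_ineq [IsSimpleGroup G] (B : Br s e M P X Y εX ε) (C : Ctx G s s' q b)
    (hM : Cfsg.IsPModular s M) (hed : e ∣ s - 1) (hes' : e = s') (hε : ε = 1)
    (h1X : oneIrr G ∈ X) (hε1 : εX (oneIrr G) = 1)
    (hYdeg : ∀ θ ∈ Y, Cfsg.charDegree (θ : G → ℂ) = s')
    (D : ℕ) (hD : ∀ ψ ∈ X, ψ ≠ oneIrr G → εX ψ = 1 → D ≤ Cfsg.charDegree (ψ : G → ℂ))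
    (u : ℕ) (hu : u + s' + Y.card = s) :
    Y.card + D * u ≤ Y.card * s' ^ 2 := by
  classical
  haveI : Fintype (Cfsg.IrrCharacter G) := Fintype.ofFinite _
  have hs2 : 2 ≤ s := hsF.out.two_le
  obtain ⟨Ξ, hΞdef⟩ : ∃ Ξ : G → ℂ,
      Ξ = ∑ θ ∈ Y, ((θ : G → ℂ) * fun g => conj ((θ : G → ℂ) g)) := ⟨_, rfl⟩
  have hΞ : IsCharacter G Ξ := by
    rw [hΞdef]
    exact IsCharacter.sum Y _ (fun θ _ => IsCharacter.mul (IsIrrCharacter.isCharacter θ.2)
      (IsCharacter.conj (IsIrrCharacter.isCharacter θ.2)))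
  have hΞv : ∀ g, Ξ g = ∑ θ ∈ Y, (θ : G → ℂ) g * conj ((θ : G → ℂ) g) := by
    intro g; rw [hΞdef, Finset.sum_apply]; rfl
  obtain ⟨a, ha, ha'⟩ := IsCharacter.exists_mult hΞ
  -- the multiplicity of the principal character
  have ha1 : a (oneIrr G) = Y.card := by
    have h1 := ha' (oneIrr G)
    unfold Cfsg.classInner at h1
    have h2 : ∀ g, Ξ g * conj (((oneIrr G : Cfsg.IrrCharacter G) : G → ℂ) g)
        = ∑ θ ∈ Y, (θ : G → ℂ) g * conj ((θ : G → ℂ) g) := by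
      intro g
      have : ((oneIrr G : Cfsg.IrrCharacter G) : G → ℂ) g = 1 := rfl
      rw [this, map_one, mul_one, hΞv]
    rw [Finset.sum_congr rfl (fun g _ => h2 g), Finset.sum_comm, Finset.mul_sum] at h1
    have h3 : ∀ θ ∈ Y, (Nat.card G : ℂ)⁻¹ * ∑ g, (θ : G → ℂ) g * conj ((θ : G → ℂ) g) = 1 := by
      intro θ _
      have := classInner_irrCharacter θ θ
      rw [if_pos rfl] at this
      exact this
    rw [Finset.sum_congr rfl h3, Finset.sum_const, nsmul_eq_mul, mul_one] at h1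
    exact_mod_cast h1.symm
  -- evaluation at 1
  have hE1 : ∑ ψ, a ψ * Cfsg.charDegree (ψ : G → ℂ) = Y.card * s' ^ 2 := by
    have h1 := apply_eq_sum_mult ha 1
    rw [hΞv] at h1
    have h2 : ∑ θ ∈ Y, (θ : G → ℂ) 1 * conj ((θ : G → ℂ) 1) = ((Y.card * s' ^ 2 : ℕ) : ℂ) := by
      have : ∀ θ ∈ Y, (θ : G → ℂ) 1 * conj ((θ : G → ℂ) 1) = ((s' ^ 2 : ℕ) : ℂ) := by
        intro θ hθ
        rw [IsCharacter.apply_one_eq_charDegree (IsIrrCharacter.isCharacter θ.2), hYdeg θ hθ,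
          Complex.conj_natCast]
        push_cast; ring
      rw [Finset.sum_congr rfl this, Finset.sum_const, nsmul_eq_mul]; push_cast; ring
    have h3 : ∑ ψ : Cfsg.IrrCharacter G, (a ψ : ℂ) * (ψ : G → ℂ) 1
        = ((∑ ψ, a ψ * Cfsg.charDegree (ψ : G → ℂ) : ℕ) : ℂ) := by
      push_cast
      apply Finset.sum_congr rfl; intro ψ _
      rw [IsCharacter.apply_one_eq_charDegree (IsIrrCharacter.isCharacter ψ.2)]
    rw [h2, h3] at h1
    exact_mod_cast h1.symm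
  -- the sum over the nontrivial elements of P
  have hE2 : ((s : ℤ) - 1) * ∑ ψ ∈ X, (a ψ : ℤ) * εX ψ - (s' : ℤ) * ∑ ψ ∈ Y, (a ψ : ℤ)
      = ((s : ℤ) - 1) * ((s : ℤ) - s') := by
    have hL : ∑ x ∈ PS P, Ξ x = ((s : ℂ) - 1) * ((s : ℂ) - (s' : ℂ)) := by
      have : ∀ x ∈ PS P, Ξ x = ((s : ℂ) - (s' : ℂ)) := by
        intro x hx
        rw [mem_PS] at hx
        rw [hΞv]
        have h1 := B.sum_Y_normSq C hM x hx.1 hx.2
        have h2 : ∑ θ ∈ Y, (θ : G → ℂ) x * conj ((θ : G → ℂ) x)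
            = ((∑ θ ∈ Y, Complex.normSq ((θ : G → ℂ) x) : ℝ) : ℂ) := by
          push_cast
          apply Finset.sum_congr rfl; intro θ _; rw [Complex.mul_conj]
        rw [h2, h1, hes']; push_cast; ring
      rw [Finset.sum_congr rfl this, Finset.sum_const, card_PS C P, nsmul_eq_mul,
        Nat.cast_sub (by omega)]
      push_cast; ring
    have hL2 : ∑ x ∈ PS P, Ξ x
        = ∑ ψ : Cfsg.IrrCharacter G, (a ψ : ℂ) * ∑ x ∈ PS P, (ψ : G → ℂ) x := by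
      rw [Finset.sum_congr rfl (fun x _ => apply_eq_sum_mult ha x), Finset.sum_comm]
      apply Finset.sum_congr rfl; intro ψ _; rw [Finset.mul_sum]
    have hdisj : Disjoint X Y := Finset.disjoint_left.mpr (fun χ h1 h2 => B.hdisj χ h1 h2)
    rw [hL2, ← Finset.sum_sdiff (Finset.subset_univ (X ∪ Y)), Finset.sum_union hdisj] at hL
    have h1 : ∑ ψ ∈ Finset.univ \ (X ∪ Y), (a ψ : ℂ) * ∑ x ∈ PS P, (ψ : G → ℂ) x = 0 := by
      apply Finset.sum_eq_zero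
      intro ψ hψ
      rw [Finset.mem_sdiff, Finset.mem_union] at hψ
      have hnot : ψ ∉ Cfsg.principalBlock M G := fun h2 => hψ.2 ((B.hXY ψ).mp h2)
      rw [Finset.sum_eq_zero, mul_zero]
      intro x hx
      rw [mem_PS] at hx
      exact C.vanish hM ψ hnot x (by rw [orderOf_of_mem C x hx.1 hx.2])
    have h2 : ∑ ψ ∈ X, (a ψ : ℂ) * ∑ x ∈ PS P, (ψ : G → ℂ) x
        = (((s : ℤ) - 1) * ∑ ψ ∈ X, (a ψ : ℤ) * εX ψ : ℤ) := by
      push_cast
      rw [Finset.mul_sum]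
      apply Finset.sum_congr rfl
      intro ψ hψ
      have : ∀ x ∈ PS P, (ψ : G → ℂ) x = (εX ψ : ℂ) := by
        intro x hx
        rw [mem_PS] at hx
        exact B.valX ψ hψ x hx.1 hx.2
      rw [Finset.sum_congr rfl this, Finset.sum_const, card_PS C P, nsmul_eq_mul,
        Nat.cast_sub (by omega)]
      push_cast; ring
    have h3 : ∑ ψ ∈ Y, (a ψ : ℂ) * ∑ x ∈ PS P, (ψ : G → ℂ) x
        = ((-(s' : ℤ) * ∑ ψ ∈ Y, (a ψ : ℤ) : ℤ) : ℂ) := by
      push_cast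
      rw [Finset.mul_sum]
      apply Finset.sum_congr rfl
      intro ψ hψ
      rw [B.lsum_Y C hM hed hes' hε hYdeg ψ hψ]
      ring
    rw [h1, h2, h3, zero_add] at hL
    have h4 : ((((s : ℤ) - 1) * ∑ ψ ∈ X, (a ψ : ℤ) * εX ψ + -(s' : ℤ) * ∑ ψ ∈ Y, (a ψ : ℤ) : ℤ) : ℂ)
        = ((((s : ℤ) - 1) * ((s : ℤ) - s') : ℤ) : ℂ) := by
      push_cast
      push_cast at hL
      exact hL
    have h5 := Int.cast_injective h4
    linarith
  -- lower bound for the signed sum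
  have hSX : (s : ℤ) - s' ≤ ∑ ψ ∈ X, (a ψ : ℤ) * εX ψ := by
    have h1 : (0 : ℤ) ≤ (s' : ℤ) * ∑ ψ ∈ Y, (a ψ : ℤ) := by positivity
    have h2 : ((s : ℤ) - 1) * ((s : ℤ) - s') ≤ ((s : ℤ) - 1) * ∑ ψ ∈ X, (a ψ : ℤ) * εX ψ := by
      linarith
    have h3 : (0 : ℤ) < (s : ℤ) - 1 := by
      have : (2 : ℤ) ≤ (s : ℤ) := by exact_mod_cast hs2
      linarith
    exact le_of_mul_le_mul_left h2 h3
  -- the positive part
  obtain ⟨F, hF⟩ : ∃ F, F = (X.erase (oneIrr G)).filter (fun ψ => εX ψ = 1) := ⟨_, rfl⟩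
  have hSX2 : ∑ ψ ∈ X, (a ψ : ℤ) * εX ψ ≤ (Y.card : ℤ) + ∑ ψ ∈ F, (a ψ : ℤ) := by
    rw [← Finset.add_sum_erase X _ h1X, hε1, ha1, mul_one]
    apply add_le_add le_rfl
    rw [hF, Finset.sum_filter]
    apply Finset.sum_le_sum
    intro ψ hψ
    rw [Finset.mem_erase] at hψ
    rcases B.signX ψ hψ.2 with h | h
    · rw [if_pos h, h, mul_one]
    · rw [if_neg (by rw [h]; norm_num), h]
      have : (0 : ℤ) ≤ (a ψ : ℤ) := by positivity
      linarith
  have hdeg : Y.card + D * ∑ ψ ∈ F, a ψ ≤ Y.card * s' ^ 2 := by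
    rw [← hE1]
    calc Y.card + D * ∑ ψ ∈ F, a ψ
        = a (oneIrr G) * Cfsg.charDegree ((oneIrr G : Cfsg.IrrCharacter G) : G → ℂ)
          + ∑ ψ ∈ F, a ψ * D := by
          rw [ha1, charDegree_oneIrr, mul_one, Finset.mul_sum]
          congr 1
          apply Finset.sum_congr rfl; intro ψ _; ring
      _ ≤ a (oneIrr G) * Cfsg.charDegree ((oneIrr G : Cfsg.IrrCharacter G) : G → ℂ)
          + ∑ ψ ∈ F, a ψ * Cfsg.charDegree (ψ : G → ℂ) := by
          apply add_le_add le_rfl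
          apply Finset.sum_le_sum
          intro ψ hψ
          rw [hF, Finset.mem_filter, Finset.mem_erase] at hψ
          exact Nat.mul_le_mul_left _ (hD ψ hψ.1.2 hψ.1.1 hψ.2)
      _ ≤ a (oneIrr G) * Cfsg.charDegree ((oneIrr G : Cfsg.IrrCharacter G) : G → ℂ)
          + ∑ ψ ∈ X.erase (oneIrr G), a ψ * Cfsg.charDegree (ψ : G → ℂ) := by
          apply add_le_add le_rfl
          apply Finset.sum_le_sum_of_subset
          rw [hF]
          exact Finset.filter_subset _ _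
      _ = ∑ ψ ∈ X, a ψ * Cfsg.charDegree (ψ : G → ℂ) :=
          Finset.add_sum_erase X (fun ψ => a ψ * Cfsg.charDegree (ψ : G → ℂ)) h1X
      _ ≤ ∑ ψ, a ψ * Cfsg.charDegree (ψ : G → ℂ) :=
          Finset.sum_le_sum_of_subset (Finset.subset_univ X)
  have hu2 : (u : ℤ) ≤ ∑ ψ ∈ F, (a ψ : ℤ) := by
    have : (u : ℤ) + s' + Y.card = s := by exact_mod_cast hu
    linarith
  have hu3 : u ≤ ∑ ψ ∈ F, a ψ := by exact_mod_cast hu2
  calc Y.card + D * u ≤ Y.card + D * ∑ ψ ∈ F, a ψ :=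
        Nat.add_le_add_left (Nat.mul_le_mul_left D hu3) _
    _ ≤ Y.card * s' ^ 2 := hdeg

end caseA

end Cfsg.Agent.Lib.Helper9.Bt
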