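import Mathlib

set_option autoImplicit false
set_option linter.unusedSectionVars false
set_option linter.unusedVariables false
set_option linter.style.longLine false
set_option linter.unusedSimpArgs false

set_option maxHeartbeats 1600000
namespace Cfsg.Agent.Lib.Helper9.Bt
section arith

theorem two_pow_even_mod (j : ℕ) : 2 ^ (2 * j) % 3 = 1 := by
  rw [pow_mul, Nat.pow_mod]
  norm_num

theorem two_pow_odd_mod (j : ℕ) : 2 ^ (2 * j + 1) % 3 = 2 := by
  rw [pow_succ, Nat.mul_mod, two_pow_even_mod]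

theorem prime_eq_three {n : ℕ} (hn : n.Prime) (h : n % 3 = 0) : n = 3 :=
  ((Nat.prime_dvd_prime_iff_eq Nat.prime_three hn).mp (Nat.dvd_of_mod_eq_zero h)).symm

theorem arithA1 (s' t s u : ℕ) (hs : s = s' * t + 1) (hu : u + s' + t = s) (hs'3 : 3 ≤ s')
    (ht : 1 ≤ t) (h : t + (s + 1) * u ≤ t * s' ^ 2) : t ≤ 2 := by
  by_contra hcon
  push Not at hcon
  obtain ⟨a, rfl⟩ : ∃ a, s' = a + 3 := ⟨s' - 3, by omega⟩
  obtain ⟨c, rfl⟩ : ∃ c, t = c + 3 := ⟨t - 3, by omega⟩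
  have hu' : u = (a + 2) * (c + 2) := by
    have : u + (a + 3) + (c + 3) = (a + 3) * (c + 3) + 1 := by rw [hu, hs]
    nlinarith
  subst hu' hs
  nlinarith [Nat.zero_le (a * c), Nat.zero_le (a * a * c), Nat.zero_le (a * c * c),
    Nat.zero_le (a * a * c * c), Nat.zero_le (a * a), Nat.zero_le (c * c), Nat.zero_le a,
    Nat.zero_le c, Nat.zero_le (a * a * a * c), Nat.zero_le (a*a*a)]

theorem arithA2 (s' s u : ℕ) (hs : s = 2 * s' + 1) (hu : u + s' + 2 = s) (hs'3 : 3 ≤ s')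
    (h : 2 + (2 * s + 1) * u ≤ 2 * s' ^ 2) : False := by
  have hu' : u = s' - 1 := by omega
  obtain ⟨a, rfl⟩ : ∃ a, s' = a + 3 := ⟨s' - 3, by omega⟩
  have hu2 : u = a + 2 := by omega
  subst hu2 hs
  nlinarith

theorem arithA3 (s s' b : ℕ) (hsP : s.Prime) (hs'P : s'.Prime) (hs : s = 2 * s' + 1)
    (hb : 2 ^ b = s + 1) (hs'3 : 3 ≤ s') : s = 7 ∧ s' = 3 ∧ b = 3 := by
  have hb1 : 1 ≤ b := by
    rcases Nat.eq_zero_or_pos b with rfl | h
    · simp at hb; omega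
    · exact h
  obtain ⟨m, rfl⟩ : ∃ m, b = m + 1 := ⟨b - 1, by omega⟩
  have hm : 2 ^ m = s' + 1 := by
    rw [pow_succ] at hb; omega
  rcases Nat.even_or_odd' m with ⟨j, rfl | rfl⟩
  · have h1 := two_pow_even_mod j
    have h2 : s' % 3 = 0 := by omega
    have h3 := prime_eq_three hs'P h2
    subst h3
    have h4 : 2 ^ (2 * j) = 2 ^ 2 := by rw [hm]; norm_num
    have h5 := Nat.pow_right_injective (le_refl 2) h4
    refine ⟨by omega, rfl, by omega⟩
  · exfalso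
    have h1 := two_pow_even_mod (j + 1)
    have h2 : 2 ^ (2 * (j + 1)) = s + 1 := by rw [← hb]; ring_nf
    have h3 : s % 3 = 0 := by omega
    have h4 := prime_eq_three hsP h3
    omega

theorem arithB1 (p r b : ℕ) (hpP : p.Prime) (hrP : r.Prime) (hp : p = r + 2)
    (hb : 2 ^ b = r + 1) (hr3 : 3 ≤ r) : p = 5 ∧ r = 3 ∧ b = 2 := by
  rcases Nat.even_or_odd' b with ⟨j, rfl | rfl⟩
  · have h1 := two_pow_even_mod j
    have h2 : r % 3 = 0 := by omega
    have h3 := prime_eq_three hrP h2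
    subst h3
    have h4 : 2 ^ (2 * j) = 2 ^ 2 := by rw [hb]; norm_num
    have h5 := Nat.pow_right_injective (le_refl 2) h4
    refine ⟨by omega, rfl, by omega⟩
  · exfalso
    have h1 := two_pow_odd_mod j
    have h3 : p % 3 = 0 := by omega
    have h4 := prime_eq_three hpP h3
    omega

theorem arithB2 (p r c : ℕ) (hpP : p.Prime) (hrP : r.Prime) (hr : r = 2 ^ c + 1)
    (hp : p = 2 ^ (c + 1) + 1) (hc : 2 ≤ c) : False := by
  rcases Nat.even_or_odd' c with ⟨j, rfl | rfl⟩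
  · have h1 := two_pow_odd_mod j
    have h3 : p % 3 = 0 := by omega
    have h4 := prime_eq_three hpP h3
    have : 2 ^ (2 * j + 1) = 2 := by omega
    have h5 : 2 ^ (2 * j + 1) = 2 ^ 1 := by rw [this]; norm_num
    have h6 := Nat.pow_right_injective (le_refl 2) h5
    omega
  · have h1 := two_pow_odd_mod j
    have h3 : r % 3 = 0 := by omega
    have h4 := prime_eq_three hrP h3
    have : 2 ^ (2 * j + 1) = 2 := by omega
    have h5 : 2 ^ (2 * j + 1) = 2 ^ 1 := by rw [this]; norm_num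
    have h6 := Nat.pow_right_injective (le_refl 2) h5
    omega

/-- parity of `t` from the norm equation -/
theorem arithB3 (p r t e b : ℕ) (he4 : 4 ∣ e) (hp : p = e * t + 1) (ht : 1 ≤ t)
    (hr : r = e * (t - 1) + 1) (hb : 2 ≤ b)
    (hN : p * r = 2 ^ b + t * r + (t - 1) * p) : t % 2 = 1 := by
  have hp4 : p % 4 = 1 := by
    obtain ⟨k, rfl⟩ := he4
    rw [hp, mul_assoc, Nat.mul_add_mod]
  have hr4 : r % 4 = 1 := by
    obtain ⟨k, rfl⟩ := he4
    rw [hr, mul_assoc, Nat.mul_add_mod]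
  have hb4 : 2 ^ b % 4 = 0 := by
    obtain ⟨m, rfl⟩ : ∃ m, b = m + 2 := ⟨b - 2, by omega⟩
    rw [pow_add]
    norm_num
  have h1 : (p * r) % 4 = 1 := by rw [Nat.mul_mod, hp4, hr4]
  have h2 : (t * r) % 4 = t % 4 := by rw [Nat.mul_mod, hr4, mul_one, Nat.mod_mod]
  have h3 : ((t - 1) * p) % 4 = (t - 1) % 4 := by rw [Nat.mul_mod, hp4, mul_one, Nat.mod_mod]
  omega

/-- the value of `2 ^ b` from the norm equation -/
theorem arithB4 (p r t e b : ℕ) (he2 : 2 ≤ e) (hp : p = e * t + 1) (ht : 1 ≤ t)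
    (hr : r = e * (t - 1) + 1)
    (hN : p * r = 2 ^ b + t * r + (t - 1) * p) : 2 ^ b = r * ((e - 2) * t + 1) + 1 := by
  obtain ⟨s, rfl⟩ : ∃ s, t = s + 1 := ⟨t - 1, by omega⟩
  obtain ⟨f, rfl⟩ : ∃ f, e = f + 2 := ⟨e - 2, by omega⟩
  simp only [Nat.add_sub_cancel] at hr hN ⊢
  subst hp hr
  have : (2 : ℤ) ^ b = ((f + 2) * s + 1 : ℤ) * (f * (s + 1) + 1) + 1 := by
    have h := congrArg (fun n : ℕ => (n : ℤ)) hN
    push_cast at h
    linear_combination -h
  exact_mod_cast this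

/-- the final contradiction of sub-case II -/
theorem arithB5 (r t e : ℕ) (hr0 : 0 < r) (he4 : 4 ∣ e) (he : 4 ≤ e) (ht : t % 2 = 1)
    (h : 4 * r ∣ r * ((e - 2) * t)) : False := by
  rw [mul_comm 4 r] at h
  have h1 : 4 ∣ (e - 2) * t := Nat.dvd_of_mul_dvd_mul_left hr0 h
  obtain ⟨k, rfl⟩ := he4
  have h2 : (4 * k - 2) % 4 = 2 := by omega
  have h3 : ((4 * k - 2) * t) % 4 = (2 * (t % 4)) % 4 := by
    rw [Nat.mul_mod, h2]
  have h4 := Nat.mod_eq_zero_of_dvd h1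
  omega

end arith

end Cfsg.Agent.Lib.Helper9.Bt
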