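import Mathlib
import Cfsg.Agent.Lib.Helper9.BtF
import Cfsg.Agent.Lib.Helper9.BtG

set_option autoImplicit false
set_option linter.unusedSectionVars false
set_option linter.unusedVariables false
set_option linter.style.longLine false
set_option linter.unusedSimpArgs false

set_option maxHeartbeats 1600000
namespace Cfsg.Agent.Lib.Helper9.Bt
open Cfsg Cfsg.Agent.Lib.Helper6
open scoped ComplexConjugate

section caseA

variable {G : Type*} [Group G] [Fintype G] {s s' q b e : ℕ}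
variable [hsF : Fact s.Prime] {M : Ideal Cfsg.AlgInt} {P : Sylow s G}
  {X Y : Finset (Cfsg.IrrCharacter G)} {εX : Cfsg.IrrCharacter G → ℤ} {ε : ℤ}

/-- lower bounds for the degrees of the nontrivial characters in `X` of positive sign -/
theorem Br.deg_lower [IsSimpleGroup G] (B : Br s e M P X Y εX ε) (C : Ctx G s s' q b)
    (ψ : Cfsg.IrrCharacter G) (hψ : ψ ∈ X) (hne : ψ ≠ oneIrr G) (hsign : εX ψ = 1) :
    ∃ k, 1 ≤ k ∧ Cfsg.charDegree (ψ : G → ℂ) = s * k + 1 := by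
  have hs2 : 2 ≤ s := hsF.out.two_le
  have h1 := B.degX ψ hψ
  have h2 : Cfsg.charDegree (ψ : G → ℂ) % s = 1 := by
    rcases sign_modEq _ s hs2 _ (B.signX ψ hψ) h1 with ⟨_, h3⟩ | ⟨h3, _⟩
    · exact h3
    · rw [hsign] at h3; norm_num at h3
  have h3 := Nat.div_add_mod (Cfsg.charDegree (ψ : G → ℂ)) s
  rw [h2] at h3
  refine ⟨Cfsg.charDegree (ψ : G → ℂ) / s, ?_, h3.symm⟩
  rcases Nat.eq_zero_or_pos (Cfsg.charDegree (ψ : G → ℂ) / s) with h4 | h4
  · exfalso
    apply hne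
    apply eq_oneIrr_of_degree_one C.hna
    rw [h4, mul_zero, zero_add] at h3
    exact h3.symm
  · exact h4

theorem caseA [IsSimpleGroup G] (B : Br s e M P X Y εX ε) (C : Ctx G s s' q b)
    (hM : Cfsg.IsPModular s M) (hlt : s' < s) (hs'3 : 3 ≤ s') (hed : e ∣ s - 1)
    (h1X : oneIrr G ∈ X) (hε1 : εX (oneIrr G) = 1)
    (hYdeg : ∀ θ ∈ Y, Cfsg.charDegree (θ : G → ℂ) = s')
    (hXdeg : ∀ χ ∈ X, χ ≠ oneIrr G → (Cfsg.charDegree (χ : G → ℂ) = q ^ b ∨
      ∃ k, 1 ≤ k ∧ k ≤ b ∧ Cfsg.charDegree (χ : G → ℂ) = s' * q ^ k))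
    (hε : ε = 1) (hes' : e = s') : s = 7 ∧ s' = 3 ∧ q = 2 ∧ b = 3 := by
  classical
  have hs2 : 2 ≤ s := hsF.out.two_le
  have hs5 : 5 ≤ s := by
    have h4 : s ≠ 4 := by
      rintro rfl
      exact absurd hsF.out (by norm_num)
    omega
  have hsodd : s % 2 = 1 := by
    rcases hsF.out.eq_two_or_odd with h | h
    · omega
    · exact h
  have hs'odd : s' % 2 = 1 := by
    rcases C.hs'.eq_two_or_odd with h | h
    · omega
    · exact h
  obtain ⟨t, ht⟩ : ∃ t, t = Y.card := ⟨_, rfl⟩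
  have hst : s = s' * t + 1 := by
    have : s - 1 = e * Y.card := by rw [B.cardY, Nat.mul_div_cancel' hed]
    rw [hes', ← ht] at this
    omega
  have ht1 : 1 ≤ t := by
    rcases Nat.eq_zero_or_pos t with rfl | h
    · omega
    · exact h
  obtain ⟨u, hu⟩ : ∃ u, u + s' + t = s := by
    refine ⟨(s' - 1) * (t - 1), ?_⟩
    obtain ⟨a, rfl⟩ : ∃ a, s' = a + 1 := ⟨s' - 1, by omega⟩
    obtain ⟨c, rfl⟩ : ∃ c, t = c + 1 := ⟨t - 1, by omega⟩
    rw [hst]
    simp only [Nat.add_sub_cancel]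
    ring
  -- first bound
  have hD1 : ∀ ψ ∈ X, ψ ≠ oneIrr G → εX ψ = 1 → s + 1 ≤ Cfsg.charDegree (ψ : G → ℂ) := by
    intro ψ hψ hne hsign
    obtain ⟨k, hk, hd⟩ := B.deg_lower C ψ hψ hne hsign
    rw [hd]
    have : s * 1 ≤ s * k := Nat.mul_le_mul_left s hk
    omega
  have hk1 := B.key_ineq C hM hed hes' hε h1X hε1 hYdeg (s + 1) hD1 u (by rw [← ht]; exact hu)
  rw [← ht] at hk1
  have ht2 : t ≤ 2 := arithA1 s' t s u hst hu hs'3 ht1 hk1
  have ht2' : t = 2 := by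
    rcases Nat.lt_or_ge t 2 with h | h
    · exfalso
      have : t = 1 := by omega
      rw [this, mul_one] at hst
      omega
    · omega
  subst ht2'
  have hst2 : s = 2 * s' + 1 := by rw [hst]; ring
  -- a character of degree s + 1
  have hex : ∃ ψ ∈ X, ψ ≠ oneIrr G ∧ Cfsg.charDegree (ψ : G → ℂ) = s + 1 := by
    by_contra hno
    push Not at hno
    have hD2 : ∀ ψ ∈ X, ψ ≠ oneIrr G → εX ψ = 1 →
        2 * s + 1 ≤ Cfsg.charDegree (ψ : G → ℂ) := by
      intro ψ hψ hne hsign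
      obtain ⟨k, hk, hd⟩ := B.deg_lower C ψ hψ hne hsign
      have hk2 : 2 ≤ k := by
        rcases Nat.lt_or_ge k 2 with h | h
        · exfalso
          have : k = 1 := by omega
          rw [this, mul_one] at hd
          exact hno ψ hψ hne hd
        · exact h
      rw [hd]
      have : s * 2 ≤ s * k := Nat.mul_le_mul_left s hk2
      omega
    have hk2 := B.key_ineq C hM hed hes' hε h1X hε1 hYdeg (2 * s + 1) hD2 u
      (by rw [← ht]; exact hu)
    rw [← ht] at hk2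
    exact arithA2 s' s u hst2 hu hs'3 hk2
  obtain ⟨ψ, hψ, hne, hd⟩ := hex
  rcases hXdeg ψ hψ hne with h | ⟨k, hk1', hkb, h⟩
  · rw [hd] at h
    have h2 : 2 ∣ q ^ b := by
      rw [← h]
      omega
    have hq2 : q = 2 :=
      ((Nat.prime_dvd_prime_iff_eq Nat.prime_two C.hq).mp (Nat.prime_two.dvd_of_dvd_pow h2)).symm
    subst hq2
    obtain ⟨h3, h4, h5⟩ := arithA3 s s' b hsF.out C.hs' hst2 h.symm hs'3
    exact ⟨h3, h4, rfl, h5⟩
  · exfalso
    rw [hd] at h
    have h2 : s' ∣ s + 1 := by rw [h]; exact dvd_mul_right _ _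
    rw [hst2] at h2
    have h3 : s' ∣ 2 := by
      have : 2 * s' + 1 + 1 = 2 + s' * 2 := by ring
      rw [this] at h2
      exact (Nat.dvd_add_left (dvd_mul_right s' 2)).mp h2
    have := Nat.le_of_dvd (by norm_num) h3
    omega

end caseA

end Cfsg.Agent.Lib.Helper9.Bt
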