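import Mathlib
import Cfsg.Agent.Lib.Helper9.BtH

set_option autoImplicit false
set_option linter.unusedSectionVars false
set_option linter.unusedVariables false
set_option linter.style.longLine false
set_option linter.unusedSimpArgs false

set_option maxHeartbeats 1600000
namespace Cfsg.Agent.Lib.Helper9.Bt
open Cfsg Cfsg.Agent.Lib.Helper6
open scoped ComplexConjugate

section norm

variable {G : Type*} [Group G] [Fintype G] {s s' q b : ℕ}

/-- an element of order divisible by `s` has order `s` -/
theorem Ctx.orderOf_eq_of_dvd [IsSimpleGroup G] (C : Ctx G s s' q b) (g : G)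
    (h : s ∣ orderOf g) : orderOf g = s := by
  obtain ⟨m, hm⟩ := h
  by_cases hm1 : m = 1
  · rw [hm, hm1, mul_one]
  · exfalso
    obtain ⟨v, hv, hvm⟩ := Nat.exists_prime_and_dvd hm1
    by_cases hvs : v = s
    · subst hvs
      apply C.not_sq_dvd
      have : v ^ 2 ∣ orderOf g := by
        rw [hm, pow_two]; exact Nat.mul_dvd_mul_left v hvm
      exact this.trans (orderOf_dvd_natCard g)
    · apply C.cp g s v C.hs hv (Ne.symm hvs)
      · rw [hm]; exact dvd_mul_right s m
      · rw [hm]; exact Dvd.dvd.mul_left hvm s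

/-- the norm of an irreducible character of degree `q ^ b` taking values of absolute value one
at the elements of orders `s` and `s'` -/
theorem Ctx.norm_eq [IsSimpleGroup G] (C : Ctx G s s' q b) [Fact s.Prime] [Fact s'.Prime]
    (ψ : Cfsg.IrrCharacter G)
    (hd : Cfsg.charDegree (ψ : G → ℂ) = q ^ b)
    (h1 : ∀ g : G, orderOf g = s → Complex.normSq ((ψ : G → ℂ) g) = 1)
    (h2 : ∀ g : G, orderOf g = s' → Complex.normSq ((ψ : G → ℂ) g) = 1) :
    s * s' * q ^ b = (q ^ b) ^ 2 + (s - 1) * Nat.card (Sylow s G)
      + (s' - 1) * Nat.card (Sylow s' G) := by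
  classical
  have hnorm := classInner_irrCharacter ψ ψ
  rw [if_pos rfl] at hnorm
  unfold Cfsg.classInner at hnorm
  have hG0 : (Nat.card G : ℂ) ≠ 0 := by
    have : 0 < Nat.card G := Nat.card_pos
    exact_mod_cast this.ne'
  have hsum : ∑ g : G, (ψ : G → ℂ) g * conj ((ψ : G → ℂ) g) = (Nat.card G : ℂ) := by
    field_simp at hnorm
    exact hnorm
  have hval : ∀ g : G, (ψ : G → ℂ) g * conj ((ψ : G → ℂ) g)
      = ((((if g = 1 then (q ^ b) ^ 2 else 0) + (if orderOf g = s then 1 else 0)
        + (if orderOf g = s' then 1 else 0) : ℕ)) : ℂ) := by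
    intro g
    rw [Complex.mul_conj]
    by_cases hg1 : g = 1
    · subst hg1
      rw [if_pos rfl, if_neg (by rw [orderOf_one]; exact C.hs.ne_one.symm),
        if_neg (by rw [orderOf_one]; exact C.hs'.ne_one.symm),
        IsCharacter.apply_one_eq_charDegree (IsIrrCharacter.isCharacter ψ.2), hd]
      rw [Complex.normSq_natCast]
      push_cast; ring
    · rw [if_neg hg1]
      have ho : orderOf g ≠ 1 := fun h => hg1 (orderOf_eq_one_iff.mp h)
      obtain ⟨v, hv, hvg⟩ := Nat.exists_prime_and_dvd ho
      rcases C.prime_cases v hv (hvg.trans (orderOf_dvd_natCard g)) with rfl | rfl | rfl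
      · have hos := C.orderOf_eq_of_dvd g hvg
        rw [if_pos hos, if_neg (by rw [hos]; exact C.hss'), h1 g hos]
        norm_num
      · have hos := C.symm.orderOf_eq_of_dvd g hvg
        rw [if_neg (by rw [hos]; exact C.hss'.symm), if_pos hos, h2 g hos]
        norm_num
      · have hns : orderOf g ≠ s := by
          intro h
          rw [h] at hvg
          exact C.hsq ((Nat.prime_dvd_prime_iff_eq hv C.hs).mp hvg).symm
        have hns' : orderOf g ≠ s' := by
          intro h
          rw [h] at hvg
          exact C.hs'q ((Nat.prime_dvd_prime_iff_eq hv C.hs').mp hvg).symm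
        rw [if_neg hns, if_neg hns']
        rw [IsIrrCharacter.eq_zero_of_defect_zero ψ.2 v b hv C.q_pow_dvd C.q_pow_succ_not_dvd
          (by rw [hd]) g hvg]
        simp
  rw [Finset.sum_congr rfl (fun g _ => hval g)] at hsum
  have hsum2 : ∑ g : G, ((if g = 1 then (q ^ b) ^ 2 else 0) + (if orderOf g = s then 1 else 0)
        + (if orderOf g = s' then 1 else 0) : ℕ) = Nat.card G := by
    exact_mod_cast hsum
  rw [Finset.sum_add_distrib, Finset.sum_add_distrib, Finset.sum_ite_eq' Finset.univ (1 : G),
    if_pos (Finset.mem_univ _)] at hsum2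
  have hc1 : ∑ g : G, (if orderOf g = s then 1 else 0) = (s - 1) * Nat.card (Sylow s G) := by
    rw [← C.card_order, Nat.card_eq_fintype_card, Fintype.card_subtype, Finset.card_filter]
  have hc2 : ∑ g : G, (if orderOf g = s' then 1 else 0) = (s' - 1) * Nat.card (Sylow s' G) := by
    rw [← C.symm.card_order, Nat.card_eq_fintype_card, Fintype.card_subtype, Finset.card_filter]
  rw [hc1, hc2, C.card] at hsum2
  exact hsum2.symm

end norm

end Cfsg.Agent.Lib.Helper9.Bt
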