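import Mathlib
import Cfsg.Agent.Lib.Helper9.BtI

set_option autoImplicit false
set_option linter.unusedSectionVars false
set_option linter.unusedVariables false
set_option linter.style.longLine false
set_option linter.unusedSimpArgs false

set_option maxHeartbeats 1600000
namespace Cfsg.Agent.Lib.Helper9.Bt
open Cfsg Cfsg.Agent.Lib.Helper6
open scoped ComplexConjugate

section arith2

theorem pow_two_of (e r b n : ℕ) (hr : r.Prime) (hen : e * n = r * 2 ^ b) (hcop : ¬ r ∣ e) :
    ∃ c, c ≤ b ∧ e = 2 ^ c := by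
  have h1 : e ∣ r * 2 ^ b := ⟨n, hen.symm⟩
  have h2 : Nat.Coprime e r := Nat.Coprime.symm ((Nat.Prime.coprime_iff_not_dvd hr).mpr hcop)
  have h3 : e ∣ 2 ^ b := h2.dvd_of_dvd_mul_left h1
  exact (Nat.dvd_prime_pow Nat.prime_two).mp h3

theorem sylow_cong_neg (p e r b n : ℕ) (hp : p.Prime) (hen : e * n = r * 2 ^ b)
    (hn : n % p = 1) (her : e + r = p) (he0 : 0 < e) (hr0 : 0 < r) : p ∣ 2 ^ b + 1 := by
  have h1 := Nat.div_add_mod n p
  rw [hn] at h1
  have h2 : (p : ℤ) ∣ (e : ℤ) * ((2 : ℤ) ^ b + 1) := by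
    refine ⟨(2 : ℤ) ^ b - (e : ℤ) * ((n / p : ℕ) : ℤ), ?_⟩
    have h3 : (e : ℤ) * (n : ℤ) = (r : ℤ) * (2 : ℤ) ^ b := by exact_mod_cast hen
    have h4 : (n : ℤ) = (p : ℤ) * ((n / p : ℕ) : ℤ) + 1 := by exact_mod_cast h1.symm
    have h5 : (r : ℤ) = (p : ℤ) - (e : ℤ) := by
      have : (e : ℤ) + (r : ℤ) = (p : ℤ) := by exact_mod_cast her
      linarith
    rw [h4, h5] at h3
    linear_combination h3
  have h3 : p ∣ e * (2 ^ b + 1) := by exact_mod_cast h2
  have hcop : Nat.Coprime p e := by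
    rw [Nat.Prime.coprime_iff_not_dvd hp]
    intro h
    have := Nat.le_of_dvd he0 h
    omega
  exact hcop.dvd_of_dvd_mul_left h3

theorem sylow_cong_pos (p e r b n : ℕ) (hr : r.Prime) (hen : e * n = p * 2 ^ b)
    (hn : n % r = 1) (her : e + r = p) (he0 : 0 < e) (her' : e < r) : r ∣ 2 ^ b - 1 := by
  have h1 := Nat.div_add_mod n r
  rw [hn] at h1
  have h2 : (r : ℤ) ∣ (e : ℤ) * ((2 : ℤ) ^ b - 1) := by
    refine ⟨(e : ℤ) * ((n / r : ℕ) : ℤ) - (2 : ℤ) ^ b, ?_⟩
    have h3 : (e : ℤ) * (n : ℤ) = (p : ℤ) * (2 : ℤ) ^ b := by exact_mod_cast hen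
    have h4 : (n : ℤ) = (r : ℤ) * ((n / r : ℕ) : ℤ) + 1 := by exact_mod_cast h1.symm
    have h5 : (p : ℤ) = (e : ℤ) + (r : ℤ) := by exact_mod_cast her.symm
    rw [h4, h5] at h3
    linear_combination -h3
  have hpos : 1 ≤ 2 ^ b := Nat.one_le_two_pow
  have h3 : r ∣ e * (2 ^ b - 1) := by
    have : (((e * (2 ^ b - 1) : ℕ)) : ℤ) = (e : ℤ) * ((2 : ℤ) ^ b - 1) := by
      rw [Nat.cast_mul, Nat.cast_sub hpos]; push_cast; ring
    rw [← this] at h2
    exact_mod_cast h2
  have hcop : Nat.Coprime r e := by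
    rw [Nat.Prime.coprime_iff_not_dvd hr]
    intro h
    have := Nat.le_of_dvd he0 h
    omega
  exact hcop.dvd_of_dvd_mul_left h3

end arith2

section caseB

variable {G : Type*} [Group G] [Fintype G] {p r b e : ℕ}
variable [hpF : Fact p.Prime] {M : Ideal Cfsg.AlgInt} {P : Sylow p G}
  {X Y : Finset (Cfsg.IrrCharacter G)} {εX : Cfsg.IrrCharacter G → ℤ} {ε : ℤ}

/-- Case B with `e = 2` -/
theorem caseB_two [IsSimpleGroup G] (B : Br p e M P X Y εX ε) (C : Ctx G p r 2 b)
    (hr3 : 3 ≤ r) (hed : e ∣ p - 1)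
    (h1X : oneIrr G ∈ X) (hε1 : εX (oneIrr G) = 1)
    (hYdeg : ∀ θ ∈ Y, Cfsg.charDegree (θ : G → ℂ) = r)
    (hXdeg : ∀ χ ∈ X, χ ≠ oneIrr G → (Cfsg.charDegree (χ : G → ℂ) = 2 ^ b ∨
      ∃ k, 1 ≤ k ∧ k ≤ b ∧ Cfsg.charDegree (χ : G → ℂ) = r * 2 ^ k))
    (hε : ε = -1) (her : e + r = p) (he2 : e = 2) : p = 5 ∧ r = 3 ∧ b = 2 := by
  classical
  subst he2
  obtain ⟨θ, hθ⟩ := B.Y_nonempty (by norm_num) hed
  have h1 := B.deg_eq θ hθ
  rw [hε, hYdeg θ hθ, ← Finset.add_sum_erase X _ h1X, hε1, charDegree_oneIrr] at h1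
  have hc : (X.erase (oneIrr G)).card = 1 := by
    rw [Finset.card_erase_of_mem h1X, B.cardX]
  obtain ⟨χ, hχ⟩ := Finset.card_eq_one.mp hc
  rw [hχ, Finset.sum_singleton] at h1
  have hχm : χ ∈ X.erase (oneIrr G) := by rw [hχ]; exact Finset.mem_singleton_self χ
  rw [Finset.mem_erase] at hχm
  have hd : Cfsg.charDegree (χ : G → ℂ) = r + 1 := by
    rcases B.signX χ hχm.2 with h | h
    · rw [h] at h1
      have : (0 : ℤ) ≤ (Cfsg.charDegree (χ : G → ℂ) : ℤ) := by positivity
      have : (0 : ℤ) ≤ (r : ℤ) := by positivity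
      push_cast at h1
      linarith
    · rw [h] at h1
      push_cast at h1
      have : (Cfsg.charDegree (χ : G → ℂ) : ℤ) = (r : ℤ) + 1 := by linarith
      exact_mod_cast this
  rcases hXdeg χ hχm.2 hχm.1 with h | ⟨k, hk1, hkb, h⟩
  · rw [hd] at h
    exact arithB1 p r b hpF.out C.hs' (by omega) h.symm hr3
  · exfalso
    rw [hd] at h
    have h2 : r ∣ r + 1 := by rw [h]; exact dvd_mul_right _ _
    have h3 : r ∣ 1 := (Nat.dvd_add_right (dvd_refl r)).mp h2
    have := Nat.le_of_dvd one_pos h3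
    omega

/-- Case B with `4 ∣ e` is impossible -/
theorem caseB_four [IsSimpleGroup G] (B : Br p e M P X Y εX ε) (C : Ctx G p r 2 b)
    (hM : Cfsg.IsPModular p M) (hrp : r < p) (hr3 : 3 ≤ r) (hed : e ∣ p - 1)
    (he : (Subgroup.centralizer ((P : Subgroup G) : Set G)).relIndex
      (Subgroup.normalizer ((P : Subgroup G) : Set G)) = e)
    (h1X : oneIrr G ∈ X) (hε1 : εX (oneIrr G) = 1)
    (hYdeg : ∀ θ ∈ Y, Cfsg.charDegree (θ : G → ℂ) = r)
    (hXdeg : ∀ χ ∈ X, χ ≠ oneIrr G → (Cfsg.charDegree (χ : G → ℂ) = 2 ^ b ∨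
      ∃ k, 1 ≤ k ∧ k ≤ b ∧ Cfsg.charDegree (χ : G → ℂ) = r * 2 ^ k))
    (hε : ε = -1) (her : e + r = p) (c : ℕ) (hc : 2 ≤ c) (hcb : c ≤ b) (hec : e = 2 ^ c) :
    False := by
  classical
  have hp2 := hpF.out.two_le
  have he4 : 4 ∣ e := by
    rw [hec]
    obtain ⟨m, rfl⟩ : ∃ m, c = m + 2 := ⟨c - 2, by omega⟩
    rw [pow_add]
    exact Dvd.intro_left _ rfl
  have he0 : 0 < e := by rw [hec]; positivity
  have he4' : 4 ≤ e := Nat.le_of_dvd he0 he4
  have hep : e < p := by omega
  have her1 : e ∣ r - 1 := by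
    have : p - 1 = e + (r - 1) := by omega
    rw [this] at hed
    exact (Nat.dvd_add_right (dvd_refl e)).mp hed
  have her' : e < r := by
    have := Nat.le_of_dvd (by omega) her1
    omega
  have hrodd : r % 2 = 1 := by
    rcases C.hs'.eq_two_or_odd with h | h
    · omega
    · exact h
  obtain ⟨t, ht⟩ : ∃ t, t = Y.card := ⟨_, rfl⟩
  have hpt : p = e * t + 1 := by
    have : p - 1 = e * Y.card := by rw [B.cardY, Nat.mul_div_cancel' hed]
    rw [← ht] at this
    omega
  have ht1 : 1 ≤ t := by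
    rcases Nat.eq_zero_or_pos t with h | h
    · rw [h, mul_zero] at hpt; omega
    · exact h
  have hrt : r = e * (t - 1) + 1 := by
    obtain ⟨j, rfl⟩ : ∃ j, t = j + 1 := ⟨t - 1, by omega⟩
    simp only [Nat.add_sub_cancel]
    have : e * (j + 1) = e * j + e := by ring
    omega
  -- the prime r
  have C' := C.symm
  haveI : Fact r.Prime := ⟨C.hs'⟩
  obtain ⟨Mr, hMr⟩ := exists_isPModular r
  obtain ⟨R⟩ : Nonempty (Sylow r G) := inferInstance
  obtain ⟨f, hf⟩ : ∃ f, f = (Subgroup.centralizer ((R : Subgroup G) : Set G)).relIndex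
      (Subgroup.normalizer ((R : Subgroup G) : Set G)) := ⟨_, rfl⟩
  have hfd : f ∣ r - 1 := C'.e_dvd_pred R f hf.symm
  have hf1 : f ≠ 1 := C'.e_ne_one R f hf.symm
  have hfn := C'.e_mul_card_sylow R f hf.symm
  have hf0 : 0 < f := by
    rcases Nat.eq_zero_or_pos f with h | h
    · rw [h, zero_dvd_iff] at hfd; omega
    · exact h
  have hfr : f < r := by
    have := Nat.le_of_dvd (by omega) hfd
    omega
  have hpf : ¬ p ∣ f := fun h => by
    have := Nat.le_of_dvd hf0 h
    omega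
  obtain ⟨d, hdb, hfd2⟩ := pow_two_of f p b _ C.hs hfn hpf
  have hd1 : 1 ≤ d := by
    rcases Nat.eq_zero_or_pos d with h | h
    · rw [h, pow_zero] at hfd2; exact absurd hfd2 hf1
    · exact h
  obtain ⟨X', Y', εX', ε', B'⟩ := exists_br r Mr hMr (by omega) R (C'.card_sylow R) f hf.symm
  obtain ⟨χ0, hχ0, hd0⟩ := B'.exists_deg C' hMr hf0 hfr hfd
  have hpr : p % r = e := by rw [← her, Nat.add_mod_right, Nat.mod_eq_of_lt her']
  rcases hχ0 with hχ0 | hχ0
  · -- sub-case I
    have h1 := B'.degX χ0 hχ0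
    rw [hd0] at h1
    rcases sign_modEq p r (by omega) _ (B'.signX χ0 hχ0) h1 with ⟨_, h2⟩ | ⟨_, h2⟩
    · rw [hpr] at h2; omega
    · rw [hpr] at h2
      have hr' : r = 2 ^ c + 1 := by omega
      have hp' : p = 2 ^ (c + 1) + 1 := by rw [pow_succ]; omega
      exact arithB2 p r c hpF.out C.hs' hr' hp' hc
  · -- sub-case II
    have hY'deg : ∀ θ ∈ Y', Cfsg.charDegree (θ : G → ℂ) = p := fun θ hθ => by
      rw [B'.Y_deg_const θ χ0 hθ hχ0, hd0]
    have hdY := B'.degY χ0 hχ0
    rw [hd0] at hdY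
    have hef : e = f := by
      rcases B'.signε with hε' | hε'
      · rw [hε', one_mul] at hdY
        have h2 : p ≡ f [MOD r] := Int.natCast_modEq_iff.mp hdY
        unfold Nat.ModEq at h2
        rw [hpr, Nat.mod_eq_of_lt hfr] at h2
        exact h2
      · exfalso
        rw [hε'] at hdY
        have h2 : (r : ℤ) ∣ (p : ℤ) + (f : ℤ) := by
          have := Int.modEq_iff_dvd.mp hdY
          have h3 : (p : ℤ) + (f : ℤ) = -(-1 * (f : ℤ) - (p : ℤ)) := by ring
          rw [h3]
          exact (dvd_neg).mpr this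
        have h3 : r ∣ p + f := by exact_mod_cast h2
        have h4 : r ∣ e + f := by
          have : p + f = r + (e + f) := by omega
          rw [this] at h3
          exact (Nat.dvd_add_right (dvd_refl r)).mp h3
        obtain ⟨k, hk⟩ := h4
        have hf2 : 2 ∣ f := by rw [hfd2]; exact dvd_pow_self 2 (by omega)
        have hk1 : k = 1 := by
          rcases Nat.lt_or_ge k 1 with h | h
          · have : k = 0 := by omega
            rw [this] at hk; omega
          · rcases Nat.lt_or_ge k 2 with h' | h'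
            · omega
            · exfalso
              have : r * 2 ≤ r * k := Nat.mul_le_mul_left r h'
              omega
        rw [hk1, mul_one] at hk
        omega
    -- Sylow congruences
    have hnp : Nat.card (Sylow p G) % p = 1 := by
      have := card_sylow_modEq_one p G
      unfold Nat.ModEq at this
      rw [this, Nat.mod_eq_of_lt (by omega)]
    have hnr : Nat.card (Sylow r G) % r = 1 := by
      have := card_sylow_modEq_one r G
      unfold Nat.ModEq at this
      rw [this, Nat.mod_eq_of_lt (by omega)]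
    have hen := C.e_mul_card_sylow P e he
    have hp2b : p ∣ 2 ^ b + 1 := sylow_cong_neg p e r b _ hpF.out hen hnp her he0 (by omega)
    rw [← hef] at hfn
    have hr2b : r ∣ 2 ^ b - 1 := sylow_cong_pos p e r b _ C.hs' hfn hnr her he0 her'
    have hb2 : 2 ≤ b := by omega
    have hpow1 : 1 ≤ 2 ^ b := Nat.one_le_two_pow
    -- signs of the characters of degree 2 ^ b
    have hsign : ∀ χ ∈ X, Cfsg.charDegree (χ : G → ℂ) = 2 ^ b → εX χ = -1 := by
      intro χ hχ hd
      have h1 := B.degX χ hχ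
      rw [hd] at h1
      rcases sign_modEq (2 ^ b) p hp2 _ (B.signX χ hχ) h1 with ⟨_, h2⟩ | ⟨h2, _⟩
      · exfalso
        have h3 := Nat.mod_eq_zero_of_dvd hp2b
        rw [Nat.add_mod, h2, Nat.mod_eq_of_lt (by omega : 1 < p)] at h3
        have : (1 + 1) % p = 2 := Nat.mod_eq_of_lt (by omega)
        omega
      · exact h2
    obtain ⟨F, hF⟩ : ∃ F : Cfsg.IrrCharacter G → ℤ,
        F = fun χ => εX χ * (Cfsg.charDegree (χ : G → ℂ) : ℤ) := ⟨_, rfl⟩
    have hFv : ∀ χ, F χ = εX χ * (Cfsg.charDegree (χ : G → ℂ) : ℤ) := fun χ => by rw [hF]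
    have hF1 : F (oneIrr G) = 1 := by rw [hFv, hε1, charDegree_oneIrr]; norm_num
    obtain ⟨θ, hθ⟩ := B.Y_nonempty he0 hed
    have hsumF : ∑ χ ∈ X, F χ = -(r : ℤ) := by
      have := B.deg_eq θ hθ
      rw [hε, hYdeg θ hθ] at this
      rw [hF, ← this]; ring
    obtain ⟨S, hS⟩ : ∃ S, S = (X.erase (oneIrr G)).filter (fun χ => F χ = -(2 : ℤ) ^ b) :=
      ⟨_, rfl⟩
    -- modulo r
    have hmodr : ∑ χ ∈ X, F χ ≡ F (oneIrr G) + (S.card : ℤ) * (-(2 : ℤ) ^ b) [ZMOD (r : ℤ)] := by
      rw [hS]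
      apply sum_modEq_two X F (r : ℤ) (-(2 : ℤ) ^ b) (oneIrr G) h1X
      intro χ hχ hne
      rcases hXdeg χ hχ hne with h | ⟨k, _, _, h⟩
      · left
        rw [hFv, hsign χ hχ h, h]; push_cast; ring
      · right
        rw [hFv, h]
        push_cast
        exact Dvd.dvd.mul_left (dvd_mul_right _ _) _
    rw [hsumF, hF1] at hmodr
    have hScard : S.card = 1 := by
      have h1 : (r : ℤ) ∣ 1 - (S.card : ℤ) := by
        have h2 := Int.modEq_iff_dvd.mp hmodr
        obtain ⟨j, hj⟩ := hr2b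
        have h3 : (2 : ℤ) ^ b = 1 + (r : ℤ) * j := by
          have : ((2 ^ b - 1 : ℕ) : ℤ) = (2 : ℤ) ^ b - 1 := by
            rw [Nat.cast_sub hpow1]; push_cast; ring
          have h4 : ((2 ^ b - 1 : ℕ) : ℤ) = (r : ℤ) * (j : ℤ) := by exact_mod_cast hj
          rw [this] at h4
          linarith
        obtain ⟨m, hm⟩ := h2
        refine ⟨m - 1 + (S.card : ℤ) * j, ?_⟩
        rw [h3] at hm
        linear_combination hm
      have h2 : S.card ≤ e - 1 := by
        rw [hS]
        calc ((X.erase (oneIrr G)).filter (fun χ => F χ = -(2 : ℤ) ^ b)).card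
            ≤ (X.erase (oneIrr G)).card := Finset.card_filter_le _ _
          _ = e - 1 := by rw [Finset.card_erase_of_mem h1X, B.cardX]
      have h3 : 1 - (S.card : ℤ) = 0 := by
        apply Int.eq_zero_of_abs_lt_dvd h1
        rw [abs_lt]
        constructor <;> [skip; skip] <;> omega
      omega
    obtain ⟨St, hSt⟩ : ∃ St, St ∈ S := Finset.card_pos.mp (by omega)
    have hSt' := hSt
    rw [hS, Finset.mem_filter, Finset.mem_erase] at hSt'
    obtain ⟨⟨hStne, hStX⟩, hStF⟩ := hSt'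
    have hStd : Cfsg.charDegree (St : G → ℂ) = 2 ^ b ∧ εX St = -1 := by
      rw [hFv] at hStF
      rcases B.signX St hStX with h | h
      · exfalso
        rw [h, one_mul] at hStF
        have : (0 : ℤ) ≤ (Cfsg.charDegree (St : G → ℂ) : ℤ) := by positivity
        have : (0 : ℤ) < (2 : ℤ) ^ b := by positivity
        linarith
      · refine ⟨?_, h⟩
        rw [h] at hStF
        have : (Cfsg.charDegree (St : G → ℂ) : ℤ) = (2 : ℤ) ^ b := by linarith
        exact_mod_cast this
    -- St lies in X'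
    have hStX' : St ∈ X' := by
      have hmem : St ∈ Cfsg.principalBlock Mr G := by
        apply mem_principalBlock_of_not_dvd r Mr hMr 1
          (fun y hy1 hy => C'.pow_dvd_index r 1 C.hs' (by simpa using C'.dvd_card) y hy1 hy) St
        rw [pow_one, hStd.1]
        intro h
        have := (Nat.prime_dvd_prime_iff_eq C.hs' Nat.prime_two).mp (C.hs'.dvd_of_dvd_pow h)
        omega
      rcases (B'.hXY St).mp hmem with h | h
      · exact h
      · exfalso
        have := hY'deg St h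
        rw [hStd.1] at this
        have h2 : 2 ∣ p := by rw [← this]; exact dvd_pow_self 2 (by omega)
        have := (Nat.prime_dvd_prime_iff_eq Nat.prime_two hpF.out).mp h2
        omega
    -- the norm equation
    have hN0 := C.norm_eq St hStd.1
      (fun g hg => by
        rw [B.val_of_order St hStX g hg, hStd.2]; simp)
      (fun g hg => by
        rw [B'.val_of_order St hStX' g hg]
        rcases B'.signX St hStX' with h | h <;> rw [h] <;> simp)
    have hp1 : p - 1 = e * t := by omega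
    have hr1 : r - 1 = e * (t - 1) := by omega
    have hN : p * r = 2 ^ b + t * r + (t - 1) * p := by
      have hpos : 0 < e * 2 ^ b := by positivity
      apply Nat.eq_of_mul_eq_mul_left hpos
      calc e * 2 ^ b * (p * r) = e * (p * r * 2 ^ b) := by ring
        _ = e * ((2 ^ b) ^ 2 + (p - 1) * Nat.card (Sylow p G)
              + (r - 1) * Nat.card (Sylow r G)) := by rw [hN0]
        _ = e * (2 ^ b) ^ 2 + (p - 1) * (e * Nat.card (Sylow p G))
              + (r - 1) * (e * Nat.card (Sylow r G)) := by ring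
        _ = e * (2 ^ b) ^ 2 + (e * t) * (r * 2 ^ b) + (e * (t - 1)) * (p * 2 ^ b) := by
            rw [hen, hfn, hp1, hr1]
        _ = e * 2 ^ b * (2 ^ b + t * r + (t - 1) * p) := by ring
    have htodd := arithB3 p r t e b he4 hpt ht1 hrt hb2 hN
    have h2b := arithB4 p r t e b (by omega) hpt ht1 hrt hN
    have ht3 : 3 ≤ t := by
      rcases Nat.lt_or_ge t 3 with h | h
      · exfalso
        have : t = 1 := by omega
        rw [this] at hrt
        simp at hrt
        omega
      · exact h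
    have hp3e : 3 * e + 1 ≤ p := by
      rw [hpt]
      have : e * 3 ≤ e * t := Nat.mul_le_mul_left e ht3
      omega
    by_cases h2r : ∃ χ ∈ X, Cfsg.charDegree (χ : G → ℂ) = 2 * r
    · obtain ⟨χ, hχ, hd⟩ := h2r
      have h1 := B.degX χ hχ
      rw [hd] at h1
      have hmod : (2 * r) % p = p - 2 * e := by
        have : 2 * r = p + (p - 2 * e) := by omega
        rw [this, Nat.add_mod_left, Nat.mod_eq_of_lt (by omega)]
      rcases sign_modEq (2 * r) p hp2 _ (B.signX χ hχ) h1 with ⟨_, h2⟩ | ⟨_, h2⟩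
      · rw [hmod] at h2; omega
      · rw [hmod] at h2; omega
    · push Not at h2r
      have hmod4 : ∑ χ ∈ X, F χ ≡ F (oneIrr G) + (S.card : ℤ) * (-(2 : ℤ) ^ b)
          [ZMOD ((4 * r : ℕ) : ℤ)] := by
        rw [hS]
        apply sum_modEq_two X F ((4 * r : ℕ) : ℤ) (-(2 : ℤ) ^ b) (oneIrr G) h1X
        intro χ hχ hne
        rcases hXdeg χ hχ hne with h | ⟨k, hk1, _, h⟩
        · left
          rw [hFv, hsign χ hχ h, h]; push_cast; ring
        · right
          rw [hFv, h]
          have hk2 : 2 ≤ k := by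
            rcases Nat.lt_or_ge k 2 with h' | h'
            · exfalso
              have : k = 1 := by omega
              rw [this, pow_one, mul_comm] at h
              exact h2r χ hχ h
            · exact h'
          obtain ⟨m, rfl⟩ : ∃ m, k = m + 2 := ⟨k - 2, by omega⟩
          have : (4 * r : ℕ) ∣ r * 2 ^ (m + 2) := by
            rw [pow_add]
            exact ⟨2 ^ m, by ring⟩
          have h3 : ((4 * r : ℕ) : ℤ) ∣ ((r * 2 ^ (m + 2) : ℕ) : ℤ) := by exact_mod_cast this
          exact Dvd.dvd.mul_left h3 _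
      rw [hsumF, hF1, hScard] at hmod4
      have h1 := Int.modEq_iff_dvd.mp hmod4
      have h2 : ((4 * r : ℕ) : ℤ) ∣ ((r * ((e - 2) * t) : ℕ) : ℤ) := by
        have h3 : ((r * ((e - 2) * t) : ℕ) : ℤ) = (2 : ℤ) ^ b - 1 - (r : ℤ) := by
          have : ((2 ^ b : ℕ) : ℤ) = ((r * ((e - 2) * t + 1) + 1 : ℕ) : ℤ) := by rw [h2b]
          push_cast at this ⊢
          linarith
        rw [h3]
        have h4 : (2 : ℤ) ^ b - 1 - (r : ℤ)
            = -(((1 : ℤ) + ((1 : ℕ) : ℤ) * (-(2 : ℤ) ^ b)) - (-(r : ℤ))) := by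
          push_cast; ring
        rw [h4]
        exact (dvd_neg).mpr h1
      have h3 : 4 * r ∣ r * ((e - 2) * t) := by exact_mod_cast h2
      exact arithB5 r t e (by omega) he4 he4' htodd h3

end caseB

end Cfsg.Agent.Lib.Helper9.Bt
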