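import Mathlib
import Cfsg.Agent.Lib.Helper9.BtJ
import Cfsg.Agent.Lib.Lead.SmallSimple2

set_option autoImplicit false
set_option linter.unusedSectionVars false
set_option linter.unusedVariables false
set_option linter.style.longLine false
set_option linter.unusedSimpArgs false

set_option maxHeartbeats 1600000
namespace Cfsg.Agent.Lib.Helper9.Bt
open Cfsg Cfsg.Agent.Lib.Helper6
open scoped ComplexConjugate

section main

variable {G : Type*} [Group G] [Fintype G]

theorem card_aux [IsSimpleGroup G] (p q r b : ℕ) (hp : p.Prime) (hq : q.Prime) (hr : r.Prime)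
    (hpq : p ≠ q) (hpr : p ≠ r) (hqr : q ≠ r) (hG : Nat.card G = p * r * q ^ b) (hlt : r < p) :
    Nat.card G = 60 ∨ Nat.card G = 168 := by
  classical
  have hna : ∃ a b : G, a * b ≠ b * a := by
    by_contra hcomm
    push Not at hcomm
    have hc : IsMulCommutative G := ⟨⟨hcomm⟩⟩
    apply Cfsg.Agent.Lib.Lead.SmallSimple2.not_comm_of_not_prime _ hc
    rw [hG, mul_assoc]
    exact Nat.not_prime_mul hp.ne_one (by
      have := hr.two_le
      have := pow_pos hq.pos b
      nlinarith)
  have C : Ctx G p r q b := ⟨hp, hr, hq, hpr, hpq, hqr.symm, hG, hna⟩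
  have C' := C.symm
  haveI : Fact p.Prime := ⟨hp⟩
  haveI : Fact r.Prime := ⟨hr⟩
  -- the prime r
  obtain ⟨R⟩ : Nonempty (Sylow r G) := inferInstance
  obtain ⟨f, hf⟩ : ∃ f, f = (Subgroup.centralizer ((R : Subgroup G) : Set G)).relIndex
      (Subgroup.normalizer ((R : Subgroup G) : Set G)) := ⟨_, rfl⟩
  have hfd : f ∣ r - 1 := C'.e_dvd_pred R f hf.symm
  have hf1 : f ≠ 1 := C'.e_ne_one R f hf.symm
  have hfn := C'.e_mul_card_sylow R f hf.symm
  have hr2 := hr.two_le
  have hr3 : 3 ≤ r := by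
    rcases Nat.lt_or_ge r 3 with h | h
    · exfalso
      have : r = 2 := by omega
      rw [this] at hfd
      exact hf1 (Nat.dvd_one.mp hfd)
    · exact h
  have hf0 : 0 < f := by
    rcases Nat.eq_zero_or_pos f with h | h
    · rw [h, zero_dvd_iff] at hfd; omega
    · exact h
  have hfr : f < r := by
    have := Nat.le_of_dvd (by omega) hfd
    omega
  have hqr1 : q ∣ r - 1 := by
    have h1 : f ∣ p * q ^ b := ⟨_, hfn.symm⟩
    have hcop : Nat.Coprime f p := by
      apply Nat.Coprime.symm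
      rw [Nat.Prime.coprime_iff_not_dvd hp]
      intro h
      have := Nat.le_of_dvd hf0 h
      omega
    have h2 : f ∣ q ^ b := hcop.dvd_of_dvd_mul_left h1
    obtain ⟨d, _, hd⟩ := (Nat.dvd_prime_pow hq).mp h2
    have hd0 : d ≠ 0 := by
      rintro rfl
      rw [pow_zero] at hd
      exact hf1 hd
    have : q ∣ f := by rw [hd]; exact dvd_pow_self q hd0
    exact this.trans hfd
  -- the prime p
  obtain ⟨Mp, hMp⟩ := exists_isPModular p
  obtain ⟨P⟩ : Nonempty (Sylow p G) := inferInstance
  obtain ⟨e, he⟩ : ∃ e, e = (Subgroup.centralizer ((P : Subgroup G) : Set G)).relIndex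
      (Subgroup.normalizer ((P : Subgroup G) : Set G)) := ⟨_, rfl⟩
  have hed : e ∣ p - 1 := C.e_dvd_pred P e he.symm
  have he1 : e ≠ 1 := C.e_ne_one P e he.symm
  have hen := C.e_mul_card_sylow P e he.symm
  obtain ⟨X, Y, εX, ε, B⟩ := exists_br p Mp hMp (by omega) P (C.card_sylow P) e he.symm
  obtain ⟨h1X, hε1, hYdeg, hXdeg, hcase⟩ := B.analysis C hMp hlt hr3 hqr1 he1 hed
  rcases hcase with ⟨hε, her⟩ | ⟨hε, her, hq2⟩
  · right
    obtain ⟨h1, h2, h3, h4⟩ := caseA B C hMp hlt hr3 hed h1X hε1 hYdeg hXdeg hε her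
    rw [hG, h1, h2, h3, h4]; norm_num
  · left
    subst hq2
    have hre : ¬ r ∣ e := by
      intro h
      have h2 : r ∣ p := by
        rw [← her]
        exact (Nat.dvd_add_right h).mpr (dvd_refl r)
      exact hpr ((Nat.prime_dvd_prime_iff_eq hr hp).mp h2).symm
    obtain ⟨c, hcb, hec⟩ := pow_two_of e r b _ hr hen hre
    rcases Nat.lt_or_ge c 2 with hc | hc
    · have hc1 : c = 1 := by
        rcases Nat.eq_zero_or_pos c with h | h
        · exfalso
          rw [h, pow_zero] at hec
          exact he1 hec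
        · omega
      rw [hc1, pow_one] at hec
      obtain ⟨h1, h2, h3⟩ := caseB_two B C hr3 hed h1X hε1 hYdeg hXdeg hε her hec
      rw [hG, h1, h2, h3]; norm_num
    · exact absurd (caseB_four B C hMp hlt hr3 hed he.symm h1X hε1 hYdeg hXdeg hε her c hc hcb hec)
        not_false

end main

section final

theorem main_card {G : Type*} [Group G] [Finite G] [IsSimpleGroup G] (p q r b : ℕ) (hp : p.Prime)
    (hq : q.Prime) (hr : r.Prime) (hpq : p ≠ q) (hpr : p ≠ r) (hqr : q ≠ r)
    (hG : Nat.card G = p * r * q ^ b) : Nat.card G = 60 ∨ Nat.card G = 168 := by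
  haveI : Fintype G := Fintype.ofFinite G
  rcases Nat.lt_or_gt_of_ne hpr with h | h
  · exact card_aux r q p b hr hq hp hqr.symm hpr.symm hpq.symm (by rw [hG]; ring) h
  · exact card_aux p q r b hp hq hr hpq hpr hqr hG h

end final

end Cfsg.Agent.Lib.Helper9.Bt
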