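import Mathlib
import Cfsg.Prelude.Def_PLocal
import Cfsg.Prelude.Def_BaumannBlocks
import Cfsg.Agent.Lib.Helper6.CL0

/-! `omegaOneCenter_facts` for the S2990/S2989 assemblies (helper9). -/

namespace Cfsg.Agent.Lib.Helper9.CLP9b

variable {G : Type*} [Group G]

theorem omegaOneCenter_facts (p : Nat) (X : Subgroup G) :
    Cfsg.omegaOneCenter p X ≤ Cfsg.Agent.Lib.Helper6.CLP.zc X ∧
      ∀ e ∈ Cfsg.omegaOneCenter p X, e ^ p = 1 := by
  have hle : Cfsg.omegaOneCenter p X ≤ Cfsg.Agent.Lib.Helper6.CLP.zc X := by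
    unfold Cfsg.omegaOneCenter Cfsg.omegaOne Cfsg.Agent.Lib.Helper6.CLP.zc
    rw [Subgroup.closure_le]
    intro x hx
    exact hx.1
  refine ⟨hle, ?_⟩
  -- the centre part is abelian
  have hcomm : ∀ a ∈ Cfsg.Agent.Lib.Helper6.CLP.zc X, ∀ b ∈ Cfsg.Agent.Lib.Helper6.CLP.zc X,
      a * b = b * a := by
    intro a ha b hb
    unfold Cfsg.Agent.Lib.Helper6.CLP.zc at ha hb
    have h1 := (Subgroup.mem_centralizer_iff.mp (Subgroup.mem_inf.mp ha).2) b (Subgroup.mem_inf.mp hb).1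
    exact h1.symm
  intro e he
  have key : ∀ e ∈ Cfsg.omegaOneCenter p X,
      e ∈ Cfsg.Agent.Lib.Helper6.CLP.zc X ∧ e ^ p = 1 := by
    intro e he
    unfold Cfsg.omegaOneCenter Cfsg.omegaOne at he
    induction he using Subgroup.closure_induction with
    | mem x hx =>
      refine ⟨?_, hx.2⟩
      unfold Cfsg.Agent.Lib.Helper6.CLP.zc
      exact hx.1
    | one => exact ⟨Subgroup.one_mem _, one_pow _⟩
    | mul x y _ _ hx hy =>
      refine ⟨Subgroup.mul_mem _ hx.1 hy.1, ?_⟩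
      have hc : Commute x y := hcomm x hx.1 y hy.1
      rw [hc.mul_pow, hx.2, hy.2, one_mul]
    | inv x _ hx =>
      exact ⟨Subgroup.inv_mem _ hx.1, by rw [inv_pow, hx.2, inv_one]⟩
  exact (key e he).2

end Cfsg.Agent.Lib.Helper9.CLP9b
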