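import Mathlib
import Cfsg.Prelude.Def_Local
import Cfsg.Prelude.Def_Balance
import Cfsg.Prelude.Def_ClassificationStages

/-!
# Farm CMX (S1305, maximal components): unit STUBS (statements only).

Each unit is proved in its own file `Cfsg/Agent/Lib/<HelperN>/CMX<Name>.lean`, namespace
`Cfsg.Agent.Lib.<HelperN>.CMX`, theorem name = stub name, SAME binder list (rfl check against the
stub in a /tmp file).  This file is never imported by a proved row.

Notation: `X` is an abstract finite group (in the application `X = C_G(b)`), `a` an involution of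
`X` (only `a * a = 1` is used), `D^a := D.map (MulAut.conj a).toMonoidHom = a D a⁻¹`,
`δ(d) := d * (a * d * a⁻¹)` for `d ∈ D` (a homomorphism when `D` and `D^a` commute).
-/

set_option autoImplicit false

namespace Cfsg.Agent.Lib.Helper9.CMXStubs

open Cfsg

universe u

variable {X : Type u} [Group X]

/-- P1 (projection lemma, replaces S1322 which implies Feit-Thompson): a component `L` of `C_X(a)`
that lies in `E(X)` lies in `D D^a` for some component `D` of `X`.
Proof. `L` is perfect and nonabelian, `L ≤ E(X)`, so some component `D` has `¬ L ≤ C_X(D)`.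
`M := D ⊔ D^a` is normalized by `E(X) ≥ L` (`Helper7.LB.layer_le_normalizer`), so in the group
`C_X(a)` the component `L` normalizes `M ⊓ C_X(a)` and
`Helper2.isComponent_le_or_commutator_eq_bot_of_le_normalizer` gives `L ≤ M` (done) or
`[M ⊓ C_X(a), L] = 1`.  In the second case let `M' := E(X) ⊓ C_X(M)`; every component is `D`, `D^a`
or commutes with both, so `E(X) ≤ M ⊔ M'`; write `x = m_x m'_x` for `x ∈ L`
(`Helper7.BB.exists_mul_of_mem_sup_of_commute`).  From `a x a⁻¹ = x`: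
`m_x⁻¹ (a m_x a⁻¹) ∈ M ⊓ M'`, which centralizes `M`; hence `[m_x, m_y]` is fixed by `a`, so lies in
`M ⊓ C_X(a)` and is centralized by `L`.  As `[x, y] = [m_x, m_y] [m'_x, m'_y]` and `M'` is normal
in `E(X)` and centralizes `D`, every `⁅w, ⁅x, y⁆⁆` (`w, x, y ∈ L`) centralizes `D`; `L = [L,[L,L]]`
gives `L ≤ C_X(D)`: contradiction. -/
theorem P1 [Finite X] (a : X) (ha : a * a = 1) (L : Subgroup X)
    (hLa : L ≤ Subgroup.centralizer ({a} : Set X))
    (hL : IsComponent (L.subgroupOf (Subgroup.centralizer ({a} : Set X))))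
    (hLE : L ≤ layer X) :
    ∃ D : Subgroup X, IsComponent D ∧ L ≤ D ⊔ D.map (MulAut.conj a).toMonoidHom := by
  sorry

/-- DG (diagonal lemma): `D ≠ D^a` components, `L` perfect, `L ≤ C_{D D^a}(a)`, `|D| ≤ |L|`.
Then `L = {δ(d) | d ∈ D}` and `δ` is injective.
Proof. `[D, D^a] = 1` (`Helper2.isComponent_eq_or_commutator_eq_bot`, `Helper2.isComponent_conj`), so
`δ : D →* X` is a homomorphism.  For `x = d₁ d₂ ∈ (D ⊔ D^a) ⊓ C_X(a)` (`d₁ ∈ D`, `d₂ ∈ D^a`):
`z := d₁⁻¹ (a d₂ a⁻¹) = d₂ (a d₁ a⁻¹)⁻¹ ∈ D ⊓ D^a =: Z₀`, and `Z₀` centralizes `D` and `D^a`; so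
`x = δ(d₁) z'` with `z' ∈ Z₀`.  Hence `⁅x, y⁆ = δ(⁅d, e⁆)` and `L = [L, L] ≤ range δ`; then
`|L| ≤ |range δ| ≤ |D| ≤ |L|` forces `L = range δ` and `δ` injective. -/
theorem DG [Finite X] (a : X) (ha : a * a = 1) {D L : Subgroup X} (hD : IsComponent D)
    (hDa : D.map (MulAut.conj a).toMonoidHom ≠ D) (hLperf : ⁅L, L⁆ = L)
    (hL : L ≤ (D ⊔ D.map (MulAut.conj a).toMonoidHom) ⊓ Subgroup.centralizer ({a} : Set X))
    (hcard : Nat.card D ≤ Nat.card L) :
    (∀ d ∈ D, d * (a * d * a⁻¹) ∈ L) ∧ (∀ x ∈ L, ∃ d ∈ D, x = d * (a * d * a⁻¹)) ∧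
      (∀ d ∈ D, d * (a * d * a⁻¹) = 1 → d = 1) ∧ Nat.card D = Nat.card L := by
  sorry

/-- CORE: assembly of P1 and DG under the maximality of `|L|`. -/
theorem CORE [Finite X] (a : X) (ha : a * a = 1) (L : Subgroup X)
    (hLa : L ≤ Subgroup.centralizer ({a} : Set X))
    (hL : IsComponent (L.subgroupOf (Subgroup.centralizer ({a} : Set X))))
    (hLE : L ≤ layer X)
    (hmax : ∀ D : Subgroup X, IsComponent D → Nat.card D ≤ Nat.card L) :
    IsComponent L ∨ ∃ D : Subgroup X, IsComponent D ∧ D.map (MulAut.conj a).toMonoidHom ≠ D ∧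
      (∀ d ∈ D, d * (a * d * a⁻¹) ∈ L) ∧ (∀ x ∈ L, ∃ d ∈ D, x = d * (a * d * a⁻¹)) ∧
      (∀ d ∈ D, d * (a * d * a⁻¹) = 1 → d = 1) ∧ Nat.card D = Nat.card L := by
  sorry

/-- RK1: an element `k` centralizing `L = δ(D)` maps `D` to `D` or `D^a`.
Proof. `k D k⁻¹` is a component; if it is neither `D` nor `D^a` it commutes with both, hence with
`L ⊆ D D^a`; conjugating back by `k` (which centralizes `L`), `D` centralizes `L`.  But for
`d, e ∈ D`: `⁅δ(d), e⁆ = ⁅d, e⁆` (`D^a` commutes with `D`), and `D` is not commutative. -/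
theorem RK1 [Finite X] (a : X) (ha : a * a = 1) {D L : Subgroup X} (hD : IsComponent D)
    (hDa : D.map (MulAut.conj a).toMonoidHom ≠ D)
    (h1 : ∀ d ∈ D, d * (a * d * a⁻¹) ∈ L) (k : X) (hk : k ∈ Subgroup.centralizer (L : Set X)) :
    D.map (MulAut.conj k).toMonoidHom = D ∨
      D.map (MulAut.conj k).toMonoidHom = D.map (MulAut.conj a).toMonoidHom := by
  sorry

/-- RK2: an element `k` normalizing `D`, commuting with `a` and centralizing `L = δ(D)`
centralizes `D`.
Proof. From `k δ(d) k⁻¹ = δ(d)`: `d⁻¹ (k d k⁻¹) = (a d a⁻¹) (k (a d a⁻¹) k⁻¹)⁻¹ ∈ D ⊓ D^a ≤ Z(D)`;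
`d ↦ d⁻¹ (k d k⁻¹)` is then a homomorphism `D →* Z(D)`, trivial as `D` is perfect
(`Helper9.LBAL.hom_eq_one_of_perfect`). -/
theorem RK2 [Finite X] (a : X) (ha : a * a = 1) {D L : Subgroup X} (hD : IsComponent D)
    (hDa : D.map (MulAut.conj a).toMonoidHom ≠ D)
    (h1 : ∀ d ∈ D, d * (a * d * a⁻¹) ∈ L) (k : X) (hka : k * a = a * k)
    (hkD : k ∈ Subgroup.normalizer (D : Set X)) (hk : k ∈ Subgroup.centralizer (L : Set X)) :
    k ∈ Subgroup.centralizer (D : Set X) := by
  sorry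

/-- RK (rank argument): in the diagonal case, an elementary abelian 2-subgroup `B` of
`C_X(a) ⊓ C_X(L)` and an elementary abelian `V ≤ L` of order at least 4 give an elementary abelian
2-subgroup `W` of `C_X(D)` with `|W| > |B|`.
Proof. `B₀ := B ⊓ N_X(D)`; by RK1 `B ∖ B₀` lies in one coset of `B₀`, so `|B| ≤ 2 |B₀|`; by RK2 `B₀`
centralizes `D`, hence also `D^a` (`B` commutes with `a`).  `V₁ := {d ∈ D | δ(d) ∈ V}` (`|V₁| = |V|`
by `h2`, `h3`), `V₂ := a V₁ a⁻¹ ≤ D^a ≤ C_X(D)`.  `B₀ ⊓ V₂ = 1`: `z ∈ B₀ ⊓ D^a` commutes with `a`, so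
`z ∈ D ⊓ D^a` and `δ(z) = z² = 1`, so `z = 1` by `h3`.  `W := B₀ ⊔ V₂` is commutative of exponent 2
and `|W| = |B₀| |V₂| ≥ 4 |B₀| ≥ 2 |B| > |B|`. -/
theorem RK [Finite X] (a : X) (ha : a * a = 1) {D L B V : Subgroup X} (hD : IsComponent D)
    (hDa : D.map (MulAut.conj a).toMonoidHom ≠ D)
    (h1 : ∀ d ∈ D, d * (a * d * a⁻¹) ∈ L) (h2 : ∀ x ∈ L, ∃ d ∈ D, x = d * (a * d * a⁻¹))
    (h3 : ∀ d ∈ D, d * (a * d * a⁻¹) = 1 → d = 1)
    (hBa : B ≤ Subgroup.centralizer ({a} : Set X)) (hBL : B ≤ Subgroup.centralizer (L : Set X))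
    (hBel : IsElementaryAbelian 2 B)
    (hVL : V ≤ L) (hVel : IsElementaryAbelian 2 V) (hV4 : 4 ≤ Nat.card V) :
    ∃ W : Subgroup X, W ≤ Subgroup.centralizer (D : Set X) ∧ IsElementaryAbelian 2 W ∧
      Nat.card B < Nat.card W := by
  sorry

/-! ## Transfer between `G` and `X = C_G(b)` -/

variable {G : Type u} [Group G]

/-- T1: `O(G) = 1` and the B-property: every 2-component of `C_G(b)` is a component.
Proof. `hB` with `t = b` and `hO` give `⁅pLayer 2 C, oddCore C⁆ = ⊥` (`C = C_G(b)`; `map subtype` is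
injective).  For a 2-component `J` of `C`: `J` is subnormal and `PLike 2 J`
(`Helper7.BB.isPComponent_iff_pLike`), `J` perfect (`PLike.isPerfect`), `O(J)` maps into `O(C)`
(`Helper8.PComp.le_pPrimeCore_of_isSubnormal`), so `O(J) ≤ Z(J)` and
`Helper7.BB.isQuasisimple_of_central_quot` (with `mk' (pPrimeCore 2 J)`) shows `J` quasisimple. -/
theorem T1 [Finite G] (hO : oddCore G = ⊥) (hB : HasBProperty G) (b : G) (hb : orderOf b = 2) :
    pLayer 2 ↥(Subgroup.centralizer ({b} : Set G)) ≤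
      layer ↥(Subgroup.centralizer ({b} : Set G)) := by
  sorry

/-- T3: a component `K` of `C_G(a)` lying in `C_G(b)` (`a ∈ C_G(b)`) is, viewed inside the group
`X = C_G(b)`, a component of `C_X(a)`.  (Relative subnormality:
`Helper1.isSubnormal_subgroupOf_map_iff` along `C_G(b).subtype`, then `Helper7.BB.subn_of_le`;
quasisimple: transport along `Subgroup.subgroupOfEquivOfLe`.) -/
theorem T3 (a b : G) (hab : a ∈ Subgroup.centralizer ({b} : Set G)) (K : Subgroup G)
    (hKa : K ≤ Subgroup.centralizer ({a} : Set G)) (hKb : K ≤ Subgroup.centralizer ({b} : Set G))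
    (hK : IsComponent (K.subgroupOf (Subgroup.centralizer ({a} : Set G)))) :
    IsComponent ((K.subgroupOf (Subgroup.centralizer ({b} : Set G))).subgroupOf
      (Subgroup.centralizer
        ({(⟨a, hab⟩ : ↥(Subgroup.centralizer ({b} : Set G)))} :
          Set ↥(Subgroup.centralizer ({b} : Set G))))) := by
  sorry

/-- T2: with `L_{2'}`-balance (`hLB` = the statement of S1301 for the group `C_G(b)`), a component `K`
of `C_G(a)` of even order lying in `C_G(b)` lies in `L_{2'}(C_G(b))`.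
Proof. By T3 `K` is a component of `C_X(a)`, `X = C_G(b)`; it has even order, so its image modulo
`O(C_X(a))` is not trivial and `Helper8.PComp.isPComponent_of_isComponent` makes it a 2-component
of `C_X(a) = C_X(⟨a⟩)` (`Subgroup.centralizer_closure` / `zpowers`); `le_sSup`, then `hLB` with
`T = zpowers a`. -/
theorem T2 [Finite G] (a b : G) (ha : orderOf a = 2)
    (hab : a ∈ Subgroup.centralizer ({b} : Set G))
    (hLB : ∀ T : Subgroup ↥(Subgroup.centralizer ({b} : Set G)), IsPGroup 2 ↥T →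
      (pLayer 2 ↥(Subgroup.centralizer (T : Set ↥(Subgroup.centralizer ({b} : Set G))))).map
        (Subgroup.centralizer (T : Set ↥(Subgroup.centralizer ({b} : Set G)))).subtype ≤
        pLayer 2 ↥(Subgroup.centralizer ({b} : Set G)))
    (K : Subgroup G)
    (hKa : K ≤ Subgroup.centralizer ({a} : Set G)) (hKb : K ≤ Subgroup.centralizer ({b} : Set G))
    (hK : IsComponent (K.subgroupOf (Subgroup.centralizer ({a} : Set G))))
    (hKeven : 2 ∣ Nat.card K) :
    K.subgroupOf (Subgroup.centralizer ({b} : Set G)) ≤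
      pLayer 2 ↥(Subgroup.centralizer ({b} : Set G)) := by
  sorry

/-- FIN: S1305 with `L_{2'}`-balance as a hypothesis (assembly of T1, T2, T3, CORE, RK and the
`PRankLE` bookkeeping; see the plan in the farm tip). -/
theorem FIN [Finite G]
    (hLB : ∀ (Y : Type u) [Group Y] [Finite Y] (T : Subgroup Y), IsPGroup 2 ↥T →
      (pLayer 2 ↥(Subgroup.centralizer (T : Set Y))).map
        (Subgroup.centralizer (T : Set Y)).subtype ≤ pLayer 2 Y)
    (hO : oddCore G = ⊥) (hB : HasBProperty G) (a : G) (ha : orderOf a = 2) (K : Subgroup G)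
    (hKa : K ≤ Subgroup.centralizer ({a} : Set G))
    (hK : IsComponent (K.subgroupOf (Subgroup.centralizer ({a} : Set G))))
    (hmax : ∀ y : G, orderOf y = 2 → ∀ K' : Subgroup G, K' ≤ Subgroup.centralizer ({y} : Set G) →
      IsComponent (K'.subgroupOf (Subgroup.centralizer ({y} : Set G))) →
      Nat.card ↥K' ≤ Nat.card ↥K ∧ (Nat.card ↥K' = Nat.card ↥K → ∀ k : ℕ,
        PRankLE 2 k ↥(Subgroup.centralizer ({a} : Set G) ⊓ Subgroup.centralizer (K : Set G)) →
        PRankLE 2 k ↥(Subgroup.centralizer ({y} : Set G) ⊓ Subgroup.centralizer (K' : Set G))))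
    (hrk : ¬ PRankLE 2 1 ↥K) (B : Subgroup G)
    (hBle : B ≤ Subgroup.centralizer ({a} : Set G) ⊓ Subgroup.centralizer (K : Set G))
    (hBel : IsElementaryAbelian 2 B)
    (hBmax : ∀ B' : Subgroup G,
      B' ≤ Subgroup.centralizer ({a} : Set G) ⊓ Subgroup.centralizer (K : Set G) →
      IsElementaryAbelian 2 B' → Nat.card ↥B' ≤ Nat.card ↥B)
    (b : G) (hb : b ∈ B) (hb1 : b ≠ 1) :
    K ≤ Subgroup.centralizer ({b} : Set G) ∧
      IsComponent (K.subgroupOf (Subgroup.centralizer ({b} : Set G))) := by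
  sorry

end Cfsg.Agent.Lib.Helper9.CMXStubs
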