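import Mathlib
import Cfsg.Agent.Lib.Helper3.CPDefs
import Cfsg.Agent.Lib.Helper9.CPHg

/-!
# S3396 piece LA1: the order of a 2-local and its chief factor of order `r`.
-/

set_option autoImplicit false
set_option linter.unusedVariables false
set_option linter.deprecated false

namespace Cfsg.Agent.Lib.Helper9.CP

open Cfsg.Agent.Lib.Helper3.CP

theorem struct_order {L : Type*} [Group L] [Finite L] (hC : CC L) (hs : IsSolvable L)
    (hH : (Nat.card L).primeFactors.card ≤ 2)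
    (hN : ∀ (r : ℕ) (Y : Subgroup L), r.Prime → r ≠ 2 → IsPGroup r Y → Nat.card Y ≤ r)
    (Q : Subgroup L) [Q.Normal] (hQ2 : IsPGroup 2 Q) (hQ1 : Q ≠ ⊥)
    (hQmax : ∀ R : Subgroup L, R.Normal → IsPGroup 2 R → R ≤ Q) (hL : ¬ IsPGroup 2 L) :
    ∃ r : ℕ, r.Prime ∧ r ≠ 2 ∧ (∃ a : ℕ, Nat.card L = r * 2 ^ a) ∧
      ∃ K : Subgroup L, K.Normal ∧ Q ≤ K ∧ Nat.card K = r * Nat.card Q := by
  classical
  have hf2 : Fact (Nat.Prime 2) := ⟨Nat.prime_two⟩
  have hLpos : 0 < Nat.card L := Nat.card_pos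
  -- `2` divides `|L|`
  obtain ⟨q, hq⟩ := hQ2.exists_card_eq
  have hq0 : q ≠ 0 := by
    intro h
    rw [h, pow_zero] at hq
    exact hQ1 (Subgroup.card_eq_one.1 hq)
  have h2L : 2 ∣ Nat.card L :=
    (hq ▸ dvd_pow_self 2 hq0 : 2 ∣ Nat.card Q).trans (Subgroup.card_subgroup_dvd_card Q)
  -- an odd prime `r` divides `|L|`
  obtain ⟨r, hr, hrL, hr2⟩ : ∃ r : ℕ, r.Prime ∧ r ∣ Nat.card L ∧ r ≠ 2 := by
    by_contra hcon
    push Not at hcon
    apply hL
    have h1 : Nat.card L = 2 ^ (Nat.card L).primeFactorsList.length :=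
      Nat.eq_prime_pow_of_unique_prime_dvd hLpos.ne' (fun {d} hd hdL => hcon d hd hdL)
    exact IsPGroup.of_card h1
  have hfr : Fact r.Prime := ⟨hr⟩
  -- the prime divisors of `|L|` are `2` and `r`
  have hπ : (Nat.card L).primeFactors = {2, r} := by
    symm
    apply Finset.eq_of_subset_of_card_le
    · intro x hx
      simp only [Finset.mem_insert, Finset.mem_singleton] at hx
      rcases hx with rfl | rfl
      · exact Nat.mem_primeFactors.2 ⟨Nat.prime_two, h2L, hLpos.ne'⟩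
      · exact Nat.mem_primeFactors.2 ⟨hr, hrL, hLpos.ne'⟩
    · rw [Finset.card_pair (Ne.symm hr2)]
      exact hH
  -- `r ^ 2` does not divide `|L|`
  have hr2L : ¬ r ^ 2 ∣ Nat.card L := by
    intro h
    obtain ⟨Y, hY⟩ := Sylow.exists_subgroup_card_pow_prime r h
    have h1 := hN r Y hr hr2 (IsPGroup.of_card hY)
    rw [hY] at h1
    have := hr.two_le
    nlinarith
  -- `|L| = r * 2 ^ a`
  obtain ⟨m, hm⟩ := hrL
  have hmpos : m ≠ 0 := by
    rintro rfl
    rw [mul_zero] at hm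
    omega
  have hm2 : m = 2 ^ m.primeFactorsList.length := by
    apply Nat.eq_prime_pow_of_unique_prime_dvd hmpos
    intro d hd hdm
    have hdL : d ∣ Nat.card L := hm ▸ Dvd.dvd.mul_left hdm r
    have hdmem : d ∈ (Nat.card L).primeFactors := Nat.mem_primeFactors.2 ⟨hd, hdL, hLpos.ne'⟩
    rw [hπ] at hdmem
    simp only [Finset.mem_insert, Finset.mem_singleton] at hdmem
    rcases hdmem with h | h
    · exact h
    · exfalso
      apply hr2L
      rw [hm, pow_two]
      exact Nat.mul_dvd_mul_left r (h ▸ hdm)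
  obtain ⟨a, ha⟩ : ∃ a : ℕ, Nat.card L = r * 2 ^ a := ⟨_, by rw [hm]; congr 1⟩
  refine ⟨r, hr, hr2, ⟨a, ha⟩, ?_⟩
  -- the quotient `L / Q`
  have hCbar : CC (L ⧸ Q) := CC.quotient hC Q
  have hmulQ : Nat.card L = Nat.card (L ⧸ Q) * Nat.card Q :=
    Subgroup.card_eq_card_quotient_mul_card_subgroup Q
  have hrbar : r ∣ Nat.card (L ⧸ Q) := by
    have h1 : r ∣ Nat.card (L ⧸ Q) * Nat.card Q := hmulQ ▸ (ha ▸ Dvd.intro _ rfl)
    rcases (Nat.Prime.dvd_mul hr).1 h1 with h | h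
    · exact h
    · exfalso
      rw [hq] at h
      exact hr2 ((Nat.prime_dvd_prime_iff_eq hr Nat.prime_two).1 (hr.dvd_of_dvd_pow h))
  have hbar1 : (⊤ : Subgroup (L ⧸ Q)) ≠ ⊥ := by
    intro h
    have h1 : Nat.card (L ⧸ Q) = 1 := by
      rw [← Subgroup.card_top (G := L ⧸ Q), h, Subgroup.card_bot]
    rw [h1] at hrbar
    exact hr.one_lt.ne' (Nat.dvd_one.1 hrbar)
  have hs' : Group.IsSolvable L := hs
  have hsT : IsSolvable (⊤ : Subgroup (L ⧸ Q)) :=
    (inferInstance : Group.IsSolvable (⊤ : Subgroup (L ⧸ Q)))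
  obtain ⟨B, -, hB1, hBn, hBab⟩ := exists_normal_abelian_sub (⊤ : Subgroup (L ⧸ Q)) hbar1 hsT
  have hBN : B.Normal := ⟨fun w hw g => hBn g (Subgroup.mem_top g) w hw⟩
  obtain ⟨p, hp, hBp⟩ := CC.isPGroup_of_comm hCbar B hBab hB1
  have hfp : Fact p.Prime := ⟨hp⟩
  obtain ⟨k, hk⟩ := hBp.exists_card_eq
  have hk0 : k ≠ 0 := by
    intro h
    rw [h, pow_zero] at hk
    exact hB1 (Subgroup.card_eq_one.1 hk)
  -- the preimage of `B`
  have hKcard : Nat.card (B.comap (QuotientGroup.mk' Q)) = Nat.card Q * Nat.card B :=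
    QuotientGroup.card_preimage_mk Q (B : Set (L ⧸ Q))
  have hQK : Q ≤ B.comap (QuotientGroup.mk' Q) := by
    intro x hx
    rw [Subgroup.mem_comap]
    have : (QuotientGroup.mk' Q) x = 1 := (QuotientGroup.eq_one_iff x).2 hx
    rw [this]
    exact B.one_mem
  have hKN : (B.comap (QuotientGroup.mk' Q)).Normal := hBN.comap _
  -- `p ≠ 2`
  have hp2 : p ≠ 2 := by
    intro h
    apply hB1
    have h1 : IsPGroup 2 (B.comap (QuotientGroup.mk' Q)) := by
      apply IsPGroup.of_card (n := q + k)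
      rw [hKcard, hq, hk, h, pow_add]
    have h2 := hQmax _ hKN h1
    have h3 : Nat.card (B.comap (QuotientGroup.mk' Q)) ≤ Nat.card Q :=
      Nat.card_le_card_of_injective _ (Subgroup.inclusion_injective h2)
    rw [hKcard] at h3
    have hQpos : 0 < Nat.card Q := Nat.card_pos
    have h4 : Nat.card B ≤ 1 := by
      by_contra h5
      push Not at h5
      nlinarith
    have h5 : 0 < Nat.card B := Nat.card_pos
    exact Subgroup.card_eq_one.1 (by omega)
  -- `p = r`, `k = 1`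
  have hpL : p ^ k ∣ Nat.card L := by
    rw [← hk]
    exact (Subgroup.card_subgroup_dvd_card B).trans (Dvd.intro _ hmulQ.symm)
  have hpr : p = r := by
    have hpd : p ∣ Nat.card L := (dvd_pow_self p hk0).trans hpL
    have hpmem : p ∈ (Nat.card L).primeFactors := Nat.mem_primeFactors.2 ⟨hp, hpd, hLpos.ne'⟩
    rw [hπ] at hpmem
    simp only [Finset.mem_insert, Finset.mem_singleton] at hpmem
    rcases hpmem with h | h
    · exact absurd h hp2
    · exact h
  have hk1 : k = 1 := by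
    by_contra hk1
    have hk2 : 2 ≤ k := by omega
    apply hr2L
    rw [← hpr]
    exact (pow_dvd_pow p hk2).trans hpL
  refine ⟨B.comap (QuotientGroup.mk' Q), hKN, hQK, ?_⟩
  rw [hKcard, hk, hk1, pow_one, hpr, mul_comm]

end Cfsg.Agent.Lib.Helper9.CP
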