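import Cfsg.Agent.Lib.Helper9.M24T7

set_option autoImplicit false

namespace Cfsg.Agent.Lib.Helper9.M24T8

open Cfsg Finset Cfsg.Agent.Lib.Helper9.Golay1 Cfsg.Agent.Lib.Helper9.GolayQR1
  Cfsg.Agent.Lib.Helper9.GolayQR3 Cfsg.Agent.Lib.Helper9.GolayQR5 Cfsg.Agent.Lib.Helper9.GolayQR7
  Cfsg.Agent.Lib.Helper9.M24T1 Cfsg.Agent.Lib.Helper9.M24T2 Cfsg.Agent.Lib.Helper9.M24T3
  Cfsg.Agent.Lib.Helper9.M24T4 Cfsg.Agent.Lib.Helper9.M24T5 Cfsg.Agent.Lib.Helper9.M24T6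
  Cfsg.Agent.Lib.Helper9.M24T7 Cfsg.Agent.Lib.Helper9.Chain1
open scoped Pointwise

/-- generator `E1` of the pointwise stabilizer of the standard octad -/
def E1 : Equiv.Perm GolayPt :=
  tperm [0, 1, 2, 3, 18, 5, 15, 20, 22, 19, 21, 16, 13, 12, 14, 6, 11, 17, 4, 9, 7, 10, 8, 23]
    [0, 1, 2, 3, 18, 5, 15, 20, 22, 19, 21, 16, 13, 12, 14, 6, 11, 17, 4, 9, 7, 10, 8, 23] (by decide +kernel) (by decide +kernel)

theorem E1_def : E1 = G51 * G50 := Equiv.ext (by decide +kernel)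

theorem E1_mem : E1 ∈ C := by
  rw [E1_def]
  exact C.mul_mem G51_mem G50_mem

/-- generator `E2` of the pointwise stabilizer of the standard octad -/
def E2 : Equiv.Perm GolayPt :=
  tperm [0, 1, 2, 3, 21, 5, 16, 13, 9, 8, 18, 15, 20, 7, 14, 11, 6, 17, 10, 22, 12, 4, 19, 23]
    [0, 1, 2, 3, 21, 5, 16, 13, 9, 8, 18, 15, 20, 7, 14, 11, 6, 17, 10, 22, 12, 4, 19, 23] (by decide +kernel) (by decide +kernel)

theorem E2_def : E2 = G52 * G50 := Equiv.ext (by decide +kernel)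

theorem E2_mem : E2 ∈ C := by
  rw [E2_def]
  exact C.mul_mem G52_mem G50_mem

/-- generator `E3` of the pointwise stabilizer of the standard octad -/
def E3 : Equiv.Perm GolayPt :=
  tperm [0, 1, 2, 3, 6, 5, 4, 22, 20, 12, 11, 10, 9, 19, 14, 18, 21, 17, 15, 13, 8, 16, 7, 23]
    [0, 1, 2, 3, 6, 5, 4, 22, 20, 12, 11, 10, 9, 19, 14, 18, 21, 17, 15, 13, 8, 16, 7, 23] (by decide +kernel) (by decide +kernel)

theorem E3_def : E3 = G50 * G51 := Equiv.ext (by decide +kernel)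

theorem E3_mem : E3 ∈ C := by
  rw [E3_def]
  exact C.mul_mem G50_mem G51_mem

/-- generator `E4` of the pointwise stabilizer of the standard octad -/
def E4 : Equiv.Perm GolayPt :=
  tperm [0, 1, 2, 3, 8, 5, 20, 15, 4, 21, 19, 13, 16, 11, 14, 7, 12, 17, 22, 10, 6, 9, 18, 23]
    [0, 1, 2, 3, 8, 5, 20, 15, 4, 21, 19, 13, 16, 11, 14, 7, 12, 17, 22, 10, 6, 9, 18, 23] (by decide +kernel) (by decide +kernel)

theorem E4_def : E4 = G60 * G51 := Equiv.ext (by decide +kernel)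

theorem E4_mem : E4 ∈ C := by
  rw [E4_def]
  exact C.mul_mem G60_mem G51_mem

/-- the points of the standard octad -/
def L8 : List GolayPt := [none, some 0, some 1, some 2, some 3, some 5, some 14, some 17]

/-- select an element or the identity -/
def sel (a : Bool) (g : Equiv.Perm GolayPt) : Equiv.Perm GolayPt := bif a then g else 1

theorem sel_mem (H : Subgroup (Equiv.Perm GolayPt)) (a : Bool) (g : Equiv.Perm GolayPt)
    (hg : g ∈ H) : sel a g ∈ H := by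
  cases a
  · exact H.one_mem
  · exact hg

/-- the sixteen elements of the pointwise stabilizer of the standard octad -/
def eprod (a1 a2 a3 a4 : Bool) : Equiv.Perm GolayPt := sel a1 E1 * sel a2 E2 * sel a3 E3 * sel a4 E4

theorem E1_fix : E1 ∈ fixL M24 L8 := ⟨C_le E1_mem, by decide +kernel⟩
theorem E2_fix : E2 ∈ fixL M24 L8 := ⟨C_le E2_mem, by decide +kernel⟩
theorem E3_fix : E3 ∈ fixL M24 L8 := ⟨C_le E3_mem, by decide +kernel⟩
theorem E4_fix : E4 ∈ fixL M24 L8 := ⟨C_le E4_mem, by decide +kernel⟩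

theorem eprod_mem (a1 a2 a3 a4 : Bool) : eprod a1 a2 a3 a4 ∈ fixL M24 L8 :=
  Subgroup.mul_mem _ (Subgroup.mul_mem _ (Subgroup.mul_mem _ (sel_mem _ a1 _ E1_fix)
    (sel_mem _ a2 _ E2_fix)) (sel_mem _ a3 _ E3_fix)) (sel_mem _ a4 _ E4_fix)

theorem eprod_cover : ∀ p : GolayPt, p ∉ L8 →
    ∃ a1 a2 a3 a4, eprod a1 a2 a3 a4 (some 4) = p := by decide +kernel

theorem eprod_sq : ∀ (a1 a2 a3 a4 : Bool) (p : GolayPt),
    eprod a1 a2 a3 a4 (eprod a1 a2 a3 a4 p) = p := by decide +kernel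

theorem fixL_L8_snoc : fixL M24 (L8 ++ [some 4]) = ⊥ := by
  rw [eq_bot_iff, ← fix7_eq_bot]
  intro g hg
  refine ⟨hg.1, fun b hb => hg.2 b ?_⟩
  have : ∀ q : GolayPt, q ∈ [none, some 0, some 1, some 2, some 3, some 4, some 5] →
      q ∈ L8 ++ [some 4] := by decide
  exact this b hb

theorem fixO_eq (g : Equiv.Perm GolayPt) (hg : g ∈ fixL M24 L8) :
    ∃ a1 a2 a3 a4, g = eprod a1 a2 a3 a4 := by
  have h4 : g (some 4) ∉ L8 := apply_notMem g L8 hg.2 _ (by decide)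
  obtain ⟨a1, a2, a3, a4, ha⟩ := eprod_cover _ h4
  refine ⟨a1, a2, a3, a4, ?_⟩
  have hu := eprod_mem a1 a2 a3 a4
  have h1 : (eprod a1 a2 a3 a4)⁻¹ * g ∈ fixL M24 (L8 ++ [some 4]) := by
    rw [fixL_snoc]
    exact sift_step _ _ _ _ hg hu ha
  rw [fixL_L8_snoc, Subgroup.mem_bot] at h1
  exact (inv_mul_eq_one.mp h1).symm

theorem sq_fixO (g : Equiv.Perm GolayPt) (hg : g ∈ fixL M24 L8) : g * g = 1 := by
  obtain ⟨a1, a2, a3, a4, rfl⟩ := fixO_eq g hg
  apply Equiv.ext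
  intro p
  exact eprod_sq a1 a2 a3 a4 p

theorem card_fixO : Nat.card (fixL M24 L8) = 16 := by
  have h := card_step (fixL M24 L8) (some 4) (univ.filter fun p => p ∉ L8)
    (fun g hg => by
      rw [mem_filter]
      exact ⟨mem_univ _, apply_notMem g L8 hg.2 _ (by decide)⟩)
    (fun x hx => by
      rw [mem_filter] at hx
      obtain ⟨a1, a2, a3, a4, ha⟩ := eprod_cover x hx.2
      exact ⟨_, eprod_mem a1 a2 a3 a4, ha⟩)
  rw [← fixL_snoc, fixL_L8_snoc, Subgroup.card_bot, mul_one] at h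
  rw [h]
  decide +kernel

/-- the standard octad -/
def O8 : Finset GolayPt := supp (dec oMask)

theorem O8_mem : O8 ∈ octads :=
  word_octad _ (dec_mem_of_reprod oMask (by decide +kernel)) (by rw [wt_dec]; decide +kernel)

theorem mem_O8 (p : GolayPt) : p ∈ O8 ↔ p ∈ L8 := by
  unfold O8
  rw [mem_supp_dec]
  revert p
  decide +kernel

/-- the pointwise stabilizer of the image of the standard octad -/
theorem fixing_eq (g : Equiv.Perm GolayPt) :
    M24 ⊓ fixingSubgroup (Equiv.Perm GolayPt) ((g • O8 : Finset GolayPt) : Set GolayPt)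
      = fixL M24 (L8.map g) := by
  ext x
  rw [Subgroup.mem_inf, mem_fixingSubgroup_iff, mem_fixL]
  refine and_congr_right fun _ => ?_
  constructor
  · intro h b hb
    obtain ⟨c, hc, rfl⟩ := List.mem_map.mp hb
    apply h
    rw [Finset.mem_coe, Finset.mem_smul_finset]
    exact ⟨c, (mem_O8 c).mpr hc, rfl⟩
  · intro h y hy
    rw [Finset.mem_coe, Finset.mem_smul_finset] at hy
    obtain ⟨c, hc, rfl⟩ := hy
    exact h _ (List.mem_map.mpr ⟨c, (mem_O8 c).mp hc, rfl⟩)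

theorem octad_pointwise (o : Finset GolayPt) (ho : o ∈ octads) :
    Nat.card ↥(M24 ⊓ fixingSubgroup (Equiv.Perm GolayPt) (o : Set GolayPt)) = 16 ∧
    ∀ x ∈ M24 ⊓ fixingSubgroup (Equiv.Perm GolayPt) (o : Set GolayPt), x * x = 1 := by
  obtain ⟨g, hg, rfl⟩ := octad_transitive O8 o O8_mem ho
  rw [fixing_eq]
  refine ⟨by rw [card_fixL_map M24 g hg, card_fixO], ?_⟩
  intro x hx
  have h1 : g⁻¹ * x * g ∈ fixL M24 L8 := by
    refine ⟨M24.mul_mem (M24.mul_mem (M24.inv_mem hg) hx.1) hg, fun b hb => ?_⟩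
    rw [Equiv.Perm.mul_apply, Equiv.Perm.mul_apply, hx.2 _ (List.mem_map.mpr ⟨b, hb, rfl⟩),
      inv_apply_self']
  have h2 := sq_fixO _ h1
  have h3 : x * x = g * ((g⁻¹ * x * g) * (g⁻¹ * x * g)) * g⁻¹ := by group
  rw [h3, h2]
  group

end Cfsg.Agent.Lib.Helper9.M24T8
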