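import Mathlib
import Cfsg.Agent.Lib.Helper9.M24T8
import Cfsg.Agent.Lib.Helper9.M24U1
import Cfsg.Agent.Lib.Helper9.CZB

/-!
The centraliser in `M₂₄` of the involution `E1` (fixing the standard octad pointwise) acts faithfully
on the 16 points off the octad by affine permutations commuting with the translation by `1` (S2133).
The tables and the certificate below were found by computer and are re-verified by `decide`.
-/

set_option autoImplicit false

namespace Cfsg.Agent.Lib.Helper9.CZ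

open Cfsg Finset Cfsg.Agent.Lib.Helper9.Golay1 Cfsg.Agent.Lib.Helper9.GolayQR1
  Cfsg.Agent.Lib.Helper9.GolayQR2 Cfsg.Agent.Lib.Helper9.GolayQR3
  Cfsg.Agent.Lib.Helper9.M24T1 Cfsg.Agent.Lib.Helper9.M24T3 Cfsg.Agent.Lib.Helper9.M24T8
  Cfsg.Agent.Lib.Helper9.M24U1 Cfsg.Agent.Lib.Helper9.G2U Cfsg.Agent.Lib.Helper9.Chain1

/-- Indices of the 16 points off the standard octad, labelled by `Fin 16`. -/
def lamN : Fin 16 → ℕ := ![4, 18, 21, 10, 6, 15, 16, 11, 8, 22, 9, 19, 20, 7, 12, 13]

/-- The 16 points off the standard octad. -/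
def lam (k : Fin 16) : GolayPt := unidx (lamN k)

/-- The translations. -/
def tr (y : Fin 16) : Equiv.Perm GolayPt :=
  eprod (y.val.testBit 0) (y.val.testBit 1) (y.val.testBit 2) (y.val.testBit 3)

set_option maxRecDepth 100000 in
theorem lam_tr : ∀ x y : Fin 16, lam (x ^^^ y) = tr y (lam x) := by decide +kernel

set_option maxRecDepth 100000 in
theorem tr_surj : ∀ a1 a2 a3 a4 : Bool, ∃ y : Fin 16, ∀ q : GolayPt,
    eprod a1 a2 a3 a4 q = tr y q := by decide +kernel

theorem lam_notMem : ∀ k : Fin 16, lam k ∉ L8 := by decide +kernel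

theorem lam_cover : ∀ q : GolayPt, q ∉ L8 → ∃ j, lam j = q := by decide +kernel

theorem lam_inj : ∀ i j : Fin 16, lam i = lam j → i = j := by decide +kernel

theorem E1_fixed : ∀ p : GolayPt, E1 p = p → p ∈ L8 := by decide +kernel

theorem tr_one : ∀ q : GolayPt, tr 1 q = E1 q := by decide +kernel

theorem E1_ne : E1 (some 4) ≠ some 4 := by decide +kernel

/-- The action of permutations on points. -/
def actP (g : Equiv.Perm GolayPt) (x : GolayPt) : GolayPt := g x

theorem dataP : ActData actP Eq lam where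
  act_one := fun _ => rfl
  act_mul := fun _ _ _ => rfl
  rel_refl := fun _ => rfl
  rel_symm := fun _ _ h => h.symm
  rel_trans := fun _ _ _ h h' => h.trans h'
  rel_act := fun _ _ _ h => by rw [h]
  sep := lam_inj

section elt

variable (g : Equiv.Perm GolayPt) (hg : g ∈ M24) (hc : ∀ p, g (E1 p) = E1 (g p))

include hc in
theorem pres (p : GolayPt) : p ∈ L8 ↔ g p ∈ L8 := by
  constructor
  · intro hp
    apply E1_fixed
    rw [← hc, E1_fix.2 p hp]
  · intro hp
    apply E1_fixed
    apply g.injective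
    rw [hc, E1_fix.2 _ hp]

include hc in
theorem mem_stabP_of_comm : g ∈ dataP.stabP := by
  apply mem_stabP_of_exists dataP
  intro i
  have h1 : g (lam i) ∉ L8 := fun h => lam_notMem i ((pres g hc _).mpr h)
  obtain ⟨j, hj⟩ := lam_cover _ h1
  exact ⟨j, hj.symm⟩

include hg hc in
theorem conj_tr (y : Fin 16) : ∃ y' : Fin 16, ∀ q, g (tr y q) = tr y' (g q) := by
  have ht : tr y ∈ fixL M24 L8 := eprod_mem _ _ _ _
  have h1 : g * tr y * g⁻¹ ∈ fixL M24 L8 := by
    refine ⟨M24.mul_mem (M24.mul_mem hg ht.1) (M24.inv_mem hg), fun b hb => ?_⟩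
    have h2 : g⁻¹ b ∈ L8 := by
      rw [pres g hc]
      rw [apply_inv_self']
      exact hb
    rw [Equiv.Perm.mul_apply, Equiv.Perm.mul_apply, ht.2 _ h2, apply_inv_self']
  obtain ⟨a1, a2, a3, a4, ha⟩ := fixO_eq _ h1
  obtain ⟨y', hy'⟩ := tr_surj a1 a2 a3 a4
  refine ⟨y', fun q => ?_⟩
  rw [← hy', ← ha, Equiv.Perm.mul_apply, Equiv.Perm.mul_apply, inv_apply_self']

theorem xr_solve : ∀ a b c : Fin 16, b = a ^^^ c → c = a ^^^ b := by decide

theorem xr_id4 : ∀ a b c : Fin 16, a ^^^ (c ^^^ b) = a ^^^ b ^^^ c := by decide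

include hg hc in
theorem aff_of_comm (π : Equiv.Perm (Fin 16)) (hπ : ∀ k, g (lam k) = lam (π k)) : IsAff π := by
  constructor
  · intro x y
    obtain ⟨y', hy'⟩ := conj_tr g hg hc y
    have h1 : ∀ x, π (x ^^^ y) = π x ^^^ y' := by
      intro x
      apply lam_inj
      rw [← hπ, lam_tr, hy', hπ, ← lam_tr]
    have h2 := h1 0
    rw [zero_xr] at h2
    have h3 := xr_solve _ _ _ h2
    rw [h1, h3, xr_id4]
  · intro x
    apply lam_inj
    rw [← hπ, lam_tr, tr_one, hc, hπ, ← tr_one, ← lam_tr]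

end elt

theorem maskInv_of_fix (g : Equiv.Perm GolayPt) (F : ℕ)
    (hF : ∀ p, F.testBit (idx p) = true → g p = p) : MaskInv g F := by
  intro p
  by_cases h : F.testBit (idx p) = true
  · rw [hF p h]
  · by_cases h' : F.testBit (idx (g p)) = true
    · have h1 := hF (g p) h'
      have h2 := g.injective h1
      rw [h2] at h'
      exact absurd h' h
    · rw [Bool.not_eq_true] at h h'
      rw [h, h']

/-- Certificate: an element of `M₂₄` fixing the 16 points off the standard octad is trivial. -/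
def certF : List Step := [
  .xor 8241104 16777215,
  .oct 12325377,
  .and 12325377 8536111,
  .oct 12944642,
  .and 12944642 8536111,
  .and 8388609 8388610,
  .fix 23,
  .oct 12325377,
  .and 12325377 8536111,
  .oct 4264387,
  .and 4264387 8536111,
  .and 8388609 3,
  .fix 0,
  .oct 12944642,
  .and 12944642 8536111,
  .oct 4264387,
  .and 4264387 8536111,
  .and 8388610 3,
  .fix 1,
  .oct 9208708,
  .and 9208708 8536111,
  .oct 4721045,
  .and 4721045 8536111,
  .and 8388612 5,
  .fix 2,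
  .oct 13148440,
  .and 13148440 8536111,
  .oct 797449,
  .and 797449 8536111,
  .and 8388616 9,
  .fix 3,
  .oct 13108704,
  .and 13108704 8536111,
  .oct 5017889,
  .and 5017889 8536111,
  .and 8388640 33,
  .fix 5,
  .oct 14709264,
  .and 14709264 8536111,
  .oct 6053905,
  .and 6053905 8536111,
  .and 8404992 16385,
  .fix 14,
  .oct 11669008,
  .and 11669008 8536111,
  .oct 924689,
  .and 924689 8536111,
  .and 8519680 131073,
  .fix 17]

theorem certF_run : ∃ L', run certF [8241104, 16777215] 8241104 = some (L', 16777215) := by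
  have : (run certF [8241104, 16777215] 8241104).map Prod.snd = some 16777215 := by decide +kernel
  match h : run certF [8241104, 16777215] 8241104, this with
  | some (L', F'), this =>
    simp only [Option.map_some, Option.some.injEq] at this
    exact ⟨L', by rw [← this]⟩

theorem fmask_notMem : ∀ p : GolayPt, (8241104 : ℕ).testBit (idx p) = true → p ∉ L8 := by
  decide +kernel

theorem eq_one_of_fix_lam (g : Equiv.Perm GolayPt) (hg : g ∈ M24) (h : ∀ k, g (lam k) = lam k) :
    g = 1 := by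
  have hF : ∀ p : GolayPt, (8241104 : ℕ).testBit (idx p) = true → g p = p := by
    intro p hp
    obtain ⟨j, hj⟩ := lam_cover p (fmask_notMem p hp)
    rw [← hj]
    exact h j
  obtain ⟨L', hrun⟩ := certF_run
  refine eq_one_of_run g hg certF [8241104, 16777215] 8241104 L' ?_ hF hrun
  intro m hm
  rw [List.mem_cons, List.mem_singleton] at hm
  rcases hm with rfl | rfl
  · exact maskInv_of_fix g _ hF
  · exact maskInv_ones g

/-- The element of `M₂₄` inducing the generator `0`. -/
def GK0 : Equiv.Perm GolayPt :=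
  tperm [23, 14, 3, 2, 4, 17, 16, 13, 8, 9, 10, 15, 20, 7, 1, 11, 6, 5, 18, 19, 12, 21, 22, 0]
    [23, 14, 3, 2, 4, 17, 16, 13, 8, 9, 10, 15, 20, 7, 1, 11, 6, 5, 18, 19, 12, 21, 22, 0] (by decide +kernel) (by decide +kernel)

theorem GK0_mem : GK0 ∈ M24 :=
  tperm_mem _ _ _ _ (by decide +kernel) (by decide +kernel)

theorem GK0_comm : ∀ p : GolayPt, GK0 (E1 p) = E1 (GK0 p) := by decide +kernel

theorem GK0_act : ∀ x : Fin 16, GK0 (lam x) = lam (sgT 0 x) := by decide +kernel

/-- The element of `M₂₄` inducing the generator `1`. -/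
def GK1 : Equiv.Perm GolayPt :=
  tperm [5, 3, 23, 1, 4, 0, 6, 22, 20, 12, 10, 11, 9, 19, 17, 15, 16, 14, 18, 13, 8, 21, 7, 2]
    [5, 3, 23, 1, 4, 0, 6, 22, 20, 12, 10, 11, 9, 19, 17, 15, 16, 14, 18, 13, 8, 21, 7, 2] (by decide +kernel) (by decide +kernel)

theorem GK1_mem : GK1 ∈ M24 :=
  tperm_mem _ _ _ _ (by decide +kernel) (by decide +kernel)

theorem GK1_comm : ∀ p : GolayPt, GK1 (E1 p) = E1 (GK1 p) := by decide +kernel

theorem GK1_act : ∀ x : Fin 16, GK1 (lam x) = lam (sgT 1 x) := by decide +kernel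

/-- The element of `M₂₄` inducing the generator `2`. -/
def GK2 : Equiv.Perm GolayPt :=
  tperm [1, 0, 14, 17, 4, 23, 6, 7, 8, 21, 19, 13, 16, 11, 2, 15, 12, 3, 18, 10, 20, 9, 22, 5]
    [1, 0, 14, 17, 4, 23, 6, 7, 8, 21, 19, 13, 16, 11, 2, 15, 12, 3, 18, 10, 20, 9, 22, 5] (by decide +kernel) (by decide +kernel)

theorem GK2_mem : GK2 ∈ M24 :=
  tperm_mem _ _ _ _ (by decide +kernel) (by decide +kernel)

theorem GK2_comm : ∀ p : GolayPt, GK2 (E1 p) = E1 (GK2 p) := by decide +kernel

theorem GK2_act : ∀ x : Fin 16, GK2 (lam x) = lam (sgT 2 x) := by decide +kernel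

/-- The element of `M₂₄` inducing the generator `3`. -/
def GK3 : Equiv.Perm GolayPt :=
  tperm [17, 3, 23, 1, 4, 14, 6, 7, 8, 19, 21, 16, 13, 12, 5, 15, 11, 0, 18, 9, 20, 10, 22, 2]
    [17, 3, 23, 1, 4, 14, 6, 7, 8, 19, 21, 16, 13, 12, 5, 15, 11, 0, 18, 9, 20, 10, 22, 2] (by decide +kernel) (by decide +kernel)

theorem GK3_mem : GK3 ∈ M24 :=
  tperm_mem _ _ _ _ (by decide +kernel) (by decide +kernel)

theorem GK3_comm : ∀ p : GolayPt, GK3 (E1 p) = E1 (GK3 p) := by decide +kernel

theorem GK3_act : ∀ x : Fin 16, GK3 (lam x) = lam (sgT 3 x) := by decide +kernel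

/-- The element of `M₂₄` inducing the generator `4`. -/
def GK4 : Equiv.Perm GolayPt :=
  tperm [0, 1, 2, 3, 21, 5, 16, 13, 9, 8, 18, 15, 20, 7, 14, 11, 6, 17, 10, 22, 12, 4, 19, 23]
    [0, 1, 2, 3, 21, 5, 16, 13, 9, 8, 18, 15, 20, 7, 14, 11, 6, 17, 10, 22, 12, 4, 19, 23] (by decide +kernel) (by decide +kernel)

theorem GK4_mem : GK4 ∈ M24 :=
  tperm_mem _ _ _ _ (by decide +kernel) (by decide +kernel)

theorem GK4_comm : ∀ p : GolayPt, GK4 (E1 p) = E1 (GK4 p) := by decide +kernel

theorem GK4_act : ∀ x : Fin 16, GK4 (lam x) = lam (sgT 4 x) := by decide +kernel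

end Cfsg.Agent.Lib.Helper9.CZ
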