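import Mathlib
import Cfsg.Agent.Lib.Helper9.CZC
import Cfsg.Agent.Lib.Helper9.CZD

/-!
Assembly for S2133: the centraliser in `M₂₄` of an involution fixing an octad pointwise is isomorphic to
the centraliser of a transvection in `SL₅(2)`; both act faithfully on 16 points with the same image.
-/

set_option autoImplicit false

namespace Cfsg.Agent.Lib.Helper9.CZ

open Cfsg Cfsg.Agent.Lib.Helper9.GolayQR1 Cfsg.Agent.Lib.Helper9.M24T1 Cfsg.Agent.Lib.Helper9.M24T3
  Cfsg.Agent.Lib.Helper9.M24T8 Cfsg.Agent.Lib.Helper9.G2U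

/-- The involution `E1` as an element of `M₂₄`. -/
def z0 : ↥M24 := ⟨E1, E1_fix.1⟩

theorem orderOf_z0 : orderOf z0 = 2 := by
  apply orderOf_eq_prime
  · apply Subtype.ext
    show E1 ^ 2 = 1
    rw [pow_two]
    exact sq_fixO E1 E1_fix
  · intro h
    have h1 : E1 = 1 := congrArg Subtype.val h
    apply E1_ne
    rw [h1]
    rfl

/-- The centraliser of the involution. -/
abbrev CM : Subgroup ↥M24 := Subgroup.centralizer ({z0} : Set ↥M24)

theorem comm_of_mem (c : ↥CM) : ∀ p, c.1.1 (E1 p) = E1 (c.1.1 p) := by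
  intro p
  have h := Subgroup.mem_centralizer_singleton_iff.mp c.2
  have h1 := congrArg (fun x : ↥M24 => x.1 p) h
  exact h1

/-- The underlying permutation. -/
def iotaM : ↥CM →* Equiv.Perm GolayPt := M24.subtype.comp CM.subtype

/-- The action of the centraliser on the 16 points off the octad. -/
noncomputable def rhoM : ↥CM →* Equiv.Perm (Fin 16) :=
  dataP.permHom.comp (iotaM.codRestrict dataP.stabP
    (fun c => mem_stabP_of_comm c.1.1 (comm_of_mem c)))

theorem rhoM_spec (c : ↥CM) (k : Fin 16) : c.1.1 (lam k) = lam (rhoM c k) :=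
  dataP.permHom_spec (iotaM.codRestrict dataP.stabP
    (fun c => mem_stabP_of_comm c.1.1 (comm_of_mem c)) c) k

theorem rhoM_aff (c : ↥CM) : IsAff (rhoM c) :=
  aff_of_comm c.1.1 c.1.2 (comm_of_mem c) _ (rhoM_spec c)

theorem rhoM_injective : Function.Injective rhoM := by
  rw [injective_iff_map_eq_one]
  intro c hc
  apply Subtype.ext
  apply Subtype.ext
  show c.1.1 = 1
  apply eq_one_of_fix_lam c.1.1 c.1.2
  intro k
  have := rhoM_spec c k
  rw [hc] at this
  exact this

/-- The five elements of `M₂₄` inducing the generators. -/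
def gkP : Fin 5 → Equiv.Perm GolayPt := ![GK0, GK1, GK2, GK3, GK4]

theorem gkP_mem (k : Fin 5) : gkP k ∈ M24 := by
  fin_cases k
  · exact GK0_mem
  · exact GK1_mem
  · exact GK2_mem
  · exact GK3_mem
  · exact GK4_mem

theorem gkP_comm (k : Fin 5) : ∀ p : GolayPt, gkP k (E1 p) = E1 (gkP k p) := by
  fin_cases k
  · exact GK0_comm
  · exact GK1_comm
  · exact GK2_comm
  · exact GK3_comm
  · exact GK4_comm

theorem gkP_act (k : Fin 5) : ∀ x : Fin 16, gkP k (lam x) = lam (sgT k x) := by
  fin_cases k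
  · exact GK0_act
  · exact GK1_act
  · exact GK2_act
  · exact GK3_act
  · exact GK4_act

/-- The five elements as elements of the centraliser. -/
def gkC (k : Fin 5) : ↥CM :=
  ⟨⟨gkP k, gkP_mem k⟩, by
    rw [Subgroup.mem_centralizer_singleton_iff]
    apply Subtype.ext
    apply Equiv.ext
    intro p
    exact gkP_comm k p⟩

theorem rhoM_gk (k : Fin 5) : rhoM (gkC k) = sgPerm k :=
  dataP.permHom_eq (iotaM.codRestrict dataP.stabP
    (fun c => mem_stabP_of_comm c.1.1 (comm_of_mem c)) (gkC k)) (fun x => gkP_act k x)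

theorem QQ_le_rangeM : QQ ≤ rhoM.range := by
  unfold QQ
  rw [Subgroup.closure_le]
  rintro π ⟨k, rfl⟩
  exact ⟨gkC k, rhoM_gk k⟩

theorem rangeM_eq : rhoM.range = QQ := by
  symm
  apply Subgroup.eq_of_le_of_card_ge QQ_le_rangeM
  refine le_trans (card_le_of_aff _ ?_) card_QQ_ge
  rintro π ⟨c, rfl⟩
  exact rhoM_aff c

theorem main (s : SL5)
    (hs : (s : Matrix (Fin 5) (Fin 5) (ZMod 2)) = Matrix.transvection 0 1 1) :
    ∃ z : ↥M24, orderOf z = 2 ∧
      Nonempty (↥(Subgroup.centralizer ({z} : Set ↥M24)) ≃*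
        ↥(Subgroup.centralizer ({s} : Set SL5))) :=
  ⟨z0, orderOf_z0,
    ⟨(MonoidHom.ofInjective rhoM_injective).trans
      ((MulEquiv.subgroupCongr (rangeM_eq.trans (rangeS_eq s hs).symm)).trans
        (MonoidHom.ofInjective (rhoS_injective s hs)).symm)⟩⟩

end Cfsg.Agent.Lib.Helper9.CZ
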