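import Mathlib
import Cfsg.Prelude.Def_Solvable
import Cfsg.Prelude.Def_Transfer
import Cfsg.Prelude.Def_CaseTheorems
import Cfsg.Agent.Lib.Helper7.TvAff1

set_option autoImplicit false

/-! A finite group with a normal `2`-subgroup that is the kernel of a homomorphism onto a simple
group that is not a `2`-group: the largest normal `2`-subgroup is the kernel. The homomorphism is
obtained from two permutation representations on the same set. -/

namespace Cfsg.Agent.Lib.Helper9.CentSp

open Cfsg

/-- the largest normal `2`-subgroup is the kernel of a homomorphism onto a simple group that is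
not a `2`-group, when the kernel is a `2`-group -/
theorem pCore_eq_ker {H S : Type*} [Group H] [Group S] [IsSimpleGroup S]
    (hS : ¬ IsPGroup 2 S) (θ : H →* S) (hθ : Function.Surjective θ)
    (hker : IsPGroup 2 θ.ker) : pCore 2 H = θ.ker := by
  apply le_antisymm
  · apply sSup_le
    rintro N ⟨hN, hp⟩
    have hn : (N.map θ).Normal := hN.map θ hθ
    rcases hn.eq_bot_or_eq_top with h | h
    · intro x hx
      rw [MonoidHom.mem_ker]
      have h1 : θ x ∈ N.map θ := Subgroup.mem_map_of_mem θ hx
      rw [h] at h1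
      exact Subgroup.mem_bot.mp h1
    · exfalso
      apply hS
      have h1 : IsPGroup 2 (N.map θ) := hp.map θ
      rw [h] at h1
      exact h1.of_equiv Subgroup.topEquiv
  · apply le_sSup
    exact ⟨θ.normal_ker, hker⟩

/-- the structure of a finite group `H` from two permutation representations: `H` of order at
most `512 * #S` with a subgroup `Q` of order `512` acting trivially, and a simple group `S` acting
faithfully with image contained in the image of `H` -/
theorem structure_of_reps {H S : Type*} [Group H] [Finite H] [Group S] [Finite S]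
    [IsSimpleGroup S] (hS : ¬ IsPGroup 2 S) (Q : Subgroup H) (hQ : Nat.card Q = 2 ^ 9)
    (hcard : Nat.card H ≤ 2 ^ 9 * Nat.card S) {n : ℕ} (A : H →* Equiv.Perm (Fin n))
    (B : S →* Equiv.Perm (Fin n)) (hB : Function.Injective B) (hQA : Q ≤ A.ker)
    (hBA : B.range ≤ A.range) (hE : IsExtraspecial 2 Q) :
    IsExtraspecial 2 (pCore 2 H) ∧ Nat.card (pCore 2 H) = 2 ^ 9 ∧
      Nonempty (H ⧸ pCore 2 H ≃* S) := by
  have hS0 : 0 < Nat.card S := Nat.card_pos
  -- orders
  have h1 : Nat.card A.ker * Nat.card A.range = Nat.card H := by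
    rw [← Subgroup.index_ker, mul_comm]
    exact Subgroup.index_mul_card A.ker
  have h2 : Nat.card S = Nat.card B.range :=
    Nat.card_congr (MonoidHom.ofInjective hB).toEquiv
  have h3 : Nat.card B.range ≤ Nat.card A.range := Subgroup.card_le_of_le hBA
  have h4 : 2 ^ 9 ≤ Nat.card A.ker := by
    rw [← hQ]
    exact Subgroup.card_le_of_le hQA
  have h5 : Nat.card A.ker * Nat.card A.range ≤ 2 ^ 9 * Nat.card S := by
    rw [h1]
    exact hcard
  have hr : Nat.card A.range = Nat.card S := by
    apply le_antisymm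
    · by_contra hlt
      push Not at hlt
      have : 2 ^ 9 * Nat.card S < Nat.card A.ker * Nat.card A.range :=
        calc 2 ^ 9 * Nat.card S < 2 ^ 9 * Nat.card A.range :=
              Nat.mul_lt_mul_of_pos_left hlt (by norm_num)
          _ ≤ Nat.card A.ker * Nat.card A.range := Nat.mul_le_mul_right _ h4
      omega
    · rw [h2]
      exact h3
  have hk : Nat.card A.ker = 2 ^ 9 := by
    apply le_antisymm
    · rw [hr] at h5
      exact Nat.le_of_mul_le_mul_right h5 hS0
    · exact h4
  have hQk : Q = A.ker := by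
    apply Subgroup.eq_of_le_of_card_ge hQA
    rw [hk, hQ]
  have hAB : A.range = B.range := by
    symm
    apply Subgroup.eq_of_le_of_card_ge hBA
    rw [hr, h2]
  -- the homomorphism onto `S`
  let e1 : A.range ≃* B.range := MulEquiv.subgroupCongr hAB
  let e2 : S ≃* B.range := MonoidHom.ofInjective hB
  let θ : H →* S := (e2.symm.toMonoidHom.comp e1.toMonoidHom).comp A.rangeRestrict
  have hθs : Function.Surjective θ := by
    intro s
    obtain ⟨x, hx⟩ := A.rangeRestrict_surjective (e1.symm (e2 s))
    refine ⟨x, ?_⟩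
    show e2.symm (e1 (A.rangeRestrict x)) = s
    rw [hx, MulEquiv.apply_symm_apply, MulEquiv.symm_apply_apply]
  have hθk : θ.ker = A.ker := by
    ext x
    rw [MonoidHom.mem_ker, MonoidHom.mem_ker]
    constructor
    · intro h
      have h' : e2.symm (e1 (A.rangeRestrict x)) = 1 := h
      have h6 : e1 (A.rangeRestrict x) = 1 := by
        have := congrArg e2 h'
        rwa [MulEquiv.apply_symm_apply, map_one] at this
      have h7 : A.rangeRestrict x = 1 := by
        have := congrArg e1.symm h6
        rwa [MulEquiv.symm_apply_apply, map_one] at this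
      have := congrArg Subtype.val h7
      exact this
    · intro h
      have h7 : A.rangeRestrict x = 1 := Subtype.ext h
      show e2.symm (e1 (A.rangeRestrict x)) = 1
      rw [h7, map_one, map_one]
  have hkp : IsPGroup 2 θ.ker := by
    rw [hθk]
    exact IsPGroup.of_card hk
  have hpc : pCore 2 H = Q := by
    rw [pCore_eq_ker hS θ hθs hkp, hθk, hQk]
  refine ⟨?_, ?_, ?_⟩
  · rw [hpc]
    exact hE
  · rw [hpc]
    exact hQ
  · have hpk : pCore 2 H = θ.ker := by rw [hpc, hθk, hQk]
    exact ⟨(QuotientGroup.quotientMulEquivOfEq hpk).trans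
      (QuotientGroup.quotientKerEquivOfSurjective θ hθs)⟩

/-- the same for a group isomorphic to `H` -/
theorem structure_of_reps' {H' H S : Type*} [Group H'] [Group H] [Finite H] [Group S] [Finite S]
    [IsSimpleGroup S] (ε : H' ≃* H) (hS : ¬ IsPGroup 2 S) (Q : Subgroup H)
    (hQ : Nat.card Q = 2 ^ 9) (hcard : Nat.card H ≤ 2 ^ 9 * Nat.card S) {n : ℕ}
    (A : H →* Equiv.Perm (Fin n)) (B : S →* Equiv.Perm (Fin n)) (hB : Function.Injective B)
    (hQA : Q ≤ A.ker) (hBA : B.range ≤ A.range) (hE : IsExtraspecial 2 Q) :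
    IsExtraspecial 2 (pCore 2 H') ∧ Nat.card (pCore 2 H') = 2 ^ 9 ∧
      Nonempty (H' ⧸ pCore 2 H' ≃* S) := by
  haveI : Finite H' := Finite.of_equiv H ε.symm.toEquiv
  haveI : Fact (Nat.Prime 2) := ⟨Nat.prime_two⟩
  let eQ : ↥Q ≃* ↥(Q.map ε.symm.toMonoidHom) := ε.symm.subgroupMap Q
  apply structure_of_reps hS (Q.map ε.symm.toMonoidHom) _ _ (A.comp ε.toMonoidHom) B hB
  · rintro x ⟨y, hy, rfl⟩
    rw [MonoidHom.mem_ker]
    show A (ε (ε.symm y)) = 1
    rw [MulEquiv.apply_symm_apply]
    exact MonoidHom.mem_ker.mp (hQA hy)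
  · intro y hy
    obtain ⟨h, hh⟩ := MonoidHom.mem_range.mp (hBA hy)
    refine MonoidHom.mem_range.mpr ⟨ε.symm h, ?_⟩
    show A (ε (ε.symm h)) = y
    rw [MulEquiv.apply_symm_apply, hh]
  · exact Cfsg.Agent.Lib.Helper7.TvAff.isExtraspecial_of_mulEquiv hE eQ
  · rw [← Nat.card_congr eQ.toEquiv]
    exact hQ
  · rw [Nat.card_congr ε.toEquiv]
    exact hcard

/-- the isomorphism of centralisers induced by an isomorphism of groups -/
def centEquiv {G G' : Type*} [Group G] [Group G'] (e : G ≃* G') (t : G) (t' : G')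
    (h : e t = t') :
    ↥(Subgroup.centralizer ({t} : Set G)) ≃* ↥(Subgroup.centralizer ({t'} : Set G')) where
  toFun x := ⟨e x.1, by
    rw [Subgroup.mem_centralizer_singleton_iff, ← h, ← map_mul, ← map_mul]
    exact congrArg e (Subgroup.mem_centralizer_singleton_iff.mp x.2)⟩
  invFun y := ⟨e.symm y.1, by
    rw [Subgroup.mem_centralizer_singleton_iff]
    apply e.injective
    rw [map_mul, map_mul, e.apply_symm_apply, h]
    exact Subgroup.mem_centralizer_singleton_iff.mp y.2⟩
  left_inv x := Subtype.ext (e.symm_apply_apply x.1)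
  right_inv y := Subtype.ext (e.apply_symm_apply y.1)
  map_mul' x y := Subtype.ext (map_mul e x.1 y.1)

end Cfsg.Agent.Lib.Helper9.CentSp
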