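import Mathlib
import Cfsg.Agent.Lib.Helper1.TGCert
import Cfsg.Agent.Lib.Helper2.Ch2GY
import Cfsg.Agent.Lib.Helper5.ChevBN
import Cfsg.Agent.Lib.Helper5.ChevGen
import Cfsg.Agent.Lib.Helper5.ChevGenN

/-!
# S2405 farm, unit U9: the assembly of construction Y (`|F| = 2`), generic part

For a datum `D`, a Weyl word `w`, roots `s`, `r` with `x_s` commuting with `x_{±r}`, a list `virt` of
roots in `± ⟨w⟩ r` and a certificate `steps` for the closure of `{s}` under `w`, the commutator
formula and the virtual rule: the group over the field with two elements is generated by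
`a = x_s(1) * (x_r(1) * x_{-r}(1))` and `b = n_w`.
-/

set_option autoImplicit false

namespace Cfsg.Agent.Lib.Helper9.Ch2GYA

open Cfsg Cfsg.Lie Cfsg.Agent.Lib.Helper5.ChevStruct Cfsg.Agent.Lib.Helper5.ChevSym
  Cfsg.Agent.Lib.Helper1.TG Cfsg.Agent.Lib.Helper2.Ch2GY

variable {F : Type*} [Field F]

/-- the orbit `r, w r, w² r, …` (`n` terms) -/
def orbList (D : ChevalleyDatum) (w : List ℕ) : ℕ → ℕ → List ℕ
  | 0, _ => []
  | n + 1, r => r :: orbList D w n (wAct D w r)

/-- every member of `virt` is in the orbit or its negative is -/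
def virtCheck (D : ChevalleyDatum) (w : List ℕ) (r n : ℕ) (virt : List ℕ) : Bool :=
  virt.all fun v => decide (v < D.nroots) &&
    ((orbList D w n r).contains v || (orbList D w n r).contains (D.neg v))

/-- the element `y_v = x_v(1) x_{-v}(1)` -/
def yGL (D : ChevalleyDatum) (hD : D ∈ Seven) (v : ℕ) : GL D.Idx F :=
  xGL D hD v (1 : F) * xGL D hD (D.neg v) 1

/-- in characteristic two, `n_w y_r n_w⁻¹ = y_{w r}` -/
theorem wGL_conj_y [CharP F 2] (D : ChevalleyDatum) (hD : D ∈ Seven) (w : List ℕ) (hw : Wd D w)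
    (r : ℕ) (hr : r < D.nroots) :
    wGL D hD w * yGL (F := F) D hD r * (wGL D hD w)⁻¹ = yGL D hD (wAct D w r) := by
  have key : ∀ v < D.nroots, wGL D hD w * xGL D hD v (1 : F) * (wGL D hD w)⁻¹
      = xGL D hD (wAct D w v) 1 := by
    intro v hv
    obtain ⟨ε, hε, hc⟩ := wGL_conj (F := F) D hD w hw v hv
    apply Units.ext
    rw [hc 1 (xGL D hD v 1) (xGL_val D hD v 1), xGL_val]
    congr 1
    rcases hε with rfl | rfl
    · simp
    · rw [CharTwo.neg_eq]; simp
  have hn := (neg_lt D hD r hr).1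
  unfold yGL
  rw [← wAct_neg D hD w hw r hr, ← key r hr, ← key (D.neg r) hn]
  group

/-- in characteristic two, `y_{-v} = y_v⁻¹` -/
theorem yGL_neg [CharP F 2] (D : ChevalleyDatum) (hD : D ∈ Seven) (v : ℕ) (hv : v < D.nroots) :
    yGL (F := F) D hD (D.neg v) = (yGL D hD v)⁻¹ := by
  have h1 : ∀ u : ℕ, (xGL D hD u (1 : F))⁻¹ = xGL D hD u 1 := by
    intro u
    have := xGL_sq_char_two (F := F) D hD u 1
    rw [pow_two] at this
    exact inv_eq_of_mul_eq_one_left this
  unfold yGL
  rw [(neg_lt D hD v hv).2.2, mul_inv_rev, h1, h1]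

/-- the orbit of a virtual root consists of virtual roots -/
theorem orbList_sound [CharP F 2] (D : ChevalleyDatum) (hD : D ∈ Seven)
    (K : Subgroup (GL D.Idx F)) (w : List ℕ) (hw : Wd D w) (hn : wGL D hD w ∈ K) :
    ∀ (n r : ℕ), r < D.nroots → yGL D hD r ∈ K →
      ∀ v ∈ orbList D w n r, v < D.nroots ∧ yGL D hD v ∈ K := by
  intro n
  induction n with
  | zero => intro r _ _ v hv; simp [orbList] at hv
  | succ n ih =>
    intro r hr hy v hv
    rw [orbList, List.mem_cons] at hv
    rcases hv with rfl | hv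
    · exact ⟨hr, hy⟩
    · apply ih (wAct D w r) (wAct_lt D hD w hw r hr) _ v hv
      rw [← wGL_conj_y D hD w hw r hr]
      exact K.mul_mem (K.mul_mem hn hy) (K.inv_mem hn)

theorem virtCheck_sound [CharP F 2] (D : ChevalleyDatum) (hD : D ∈ Seven)
    (K : Subgroup (GL D.Idx F)) (w : List ℕ) (hw : Wd D w) (hn : wGL D hD w ∈ K)
    (r n : ℕ) (hr : r < D.nroots) (hy : yGL D hD r ∈ K) (virt : List ℕ)
    (h : virtCheck D w r n virt = true) :
    ∀ v ∈ virt, v < D.nroots ∧ xGL D hD v (1 : F) * xGL D hD (D.neg v) 1 ∈ K := by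
  intro v hv
  unfold virtCheck at h
  rw [List.all_eq_true] at h
  have h1 := h v hv
  rw [Bool.and_eq_true, decide_eq_true_iff, Bool.or_eq_true] at h1
  obtain ⟨hlt, h2⟩ := h1
  refine ⟨hlt, ?_⟩
  have hs := orbList_sound D hD K w hw hn n r hr hy
  rcases h2 with h2 | h2
  · exact (hs v ((contains_iff _ _).1 h2)).2
  · have h3 := (hs _ ((contains_iff _ _).1 h2)).2
    have h4 := yGL_neg (F := F) D hD (D.neg v) (neg_lt D hD v hlt).1
    rw [(neg_lt D hD v hlt).2.2] at h4
    show yGL D hD v ∈ K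
    rw [h4]
    exact K.inv_mem h3

/-- a field with two elements -/
theorem eq_zero_or_one [Fintype F] (h2 : Fintype.card F = 2) (t : F) : t = 0 ∨ t = 1 := by
  classical
  by_contra h
  push Not at h
  have : ({0, 1, t} : Finset F).card = 3 := by
    rw [Finset.card_insert_of_notMem, Finset.card_insert_of_notMem, Finset.card_singleton]
    · simpa using h.2.symm
    · simp only [Finset.mem_insert, Finset.mem_singleton, not_or]
      exact ⟨zero_ne_one, h.1.symm⟩
  have := Finset.card_le_univ ({0, 1, t} : Finset F)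
  omega

/-- **U9, generic**: construction Y generates the group over the field with two elements -/
theorem twoGenY [Fintype F] (h2 : Fintype.card F = 2) (D : ChevalleyDatum) (hD : D ∈ Seven)
    (w : List ℕ) (s r n : ℕ) (virt : List ℕ) (steps : List Step)
    (hw : Wd D w) (hs : s < D.nroots) (hr : r < D.nroots) (hsr : s ≠ r) (hsn : s ≠ D.neg r)
    (hT1 : D.commTerms r s = []) (hT2 : D.commTerms (D.neg r) s = [])
    (hvirt : virtCheck D w r n virt = true)
    (hcert : certOK D w virt [s] steps = true) :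
    ∃ a b : GL D.Idx F, a ∈ D.group F ∧ b ∈ D.group F ∧ D.group F ≤ Subgroup.closure {a, b} := by
  have : Fact (Nat.Prime 2) := ⟨Nat.prime_two⟩
  have : CharP F 2 := charP_of_card_eq_prime h2
  obtain ⟨hnlt, _, hnn⟩ := neg_lt D hD r hr
  refine ⟨xGL D hD s (1 : F) * (xGL D hD r 1 * xGL D hD (D.neg r) 1), wGL D hD w,
    (D.group F).mul_mem (xGL_mem_group D hD s 1)
      ((D.group F).mul_mem (xGL_mem_group D hD r 1) (xGL_mem_group D hD (D.neg r) 1)),
    monomial_le_group D hD (wGL_mem D hD w hw), ?_⟩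
  set K := Subgroup.closure
    ({xGL D hD s (1 : F) * (xGL D hD r 1 * xGL D hD (D.neg r) 1), wGL D hD w} :
      Set (GL D.Idx F)) with hK
  have ha : xGL D hD s (1 : F) * (xGL D hD r 1 * xGL D hD (D.neg r) 1) ∈ K :=
    Subgroup.subset_closure (Set.mem_insert _ _)
  have hn : wGL D hD w ∈ K :=
    Subgroup.subset_closure (Set.mem_insert_of_mem _ (Set.mem_singleton _))
  -- `x_s(1)` commutes with `x_{±r}(1)`
  have hc1 : Commute (xGL D hD s (1 : F)) (xGL D hD r 1) := by
    have h := comm_word_eq (F := F) D hD r s hr hs hsr hsn 1 1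
    rw [commWord_eq, hT1] at h
    show xGL D hD s (1 : F) * xGL D hD r 1 = xGL D hD r 1 * xGL D hD s 1
    simpa [wordGL] using h
  have hc2 : Commute (xGL D hD s (1 : F)) (xGL D hD (D.neg r) 1) := by
    have h := comm_word_eq (F := F) D hD (D.neg r) s hnlt hs hsn (by rw [hnn]; exact hsr) 1 1
    rw [commWord_eq, hT2] at h
    show xGL D hD s (1 : F) * xGL D hD (D.neg r) 1 = xGL D hD (D.neg r) 1 * xGL D hD s 1
    simpa [wordGL] using h
  obtain ⟨hxs, hyr⟩ := factors_mem D hD K s r hr hc1 hc2 ha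
  apply group_le_of_cert D hD K w hw hn virt
    (virtCheck_sound D hD K w hw hn r n hr hyr virt hvirt) [s] _ steps hcert
  intro r' hr'
  rw [List.mem_singleton] at hr'
  subst hr'
  refine ⟨hs, fun t => ?_⟩
  rcases eq_zero_or_one h2 t with rfl | rfl
  · have : xGL D hD r' (0 : F) = 1 := by
      apply Units.ext
      rw [xGL_val, Units.val_one]
      exact x_at_zero D r'
    rw [this]
    exact K.one_mem
  · exact hxs

end Cfsg.Agent.Lib.Helper9.Ch2GYA
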