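import Mathlib
import Cfsg.Agent.Lib.Helper9.Ch2GYA
import Cfsg.Agent.Lib.Helper1.TGDataD4
import Cfsg.Agent.Lib.Helper1.TGDataF4
import Cfsg.Agent.Lib.Helper1.TGDataE6
import Cfsg.Agent.Lib.Helper1.TGDataE7
import Cfsg.Agent.Lib.Helper1.TGDataE8

/-!
# S2405 farm, unit U9: construction Y for the types D4, F4, E6, E7, E8 over the field with two
elements (instances of `Ch2GYA.twoGenY` with helper1's certificates)
-/

set_option autoImplicit false
set_option maxRecDepth 1000000
set_option maxHeartbeats 4000000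

namespace Cfsg.Agent.Lib.Helper9.Ch2GYA

open Cfsg Cfsg.Lie Cfsg.Agent.Lib.Helper5.ChevStruct Cfsg.Agent.Lib.Helper5.ChevSym
  Cfsg.Agent.Lib.Helper1.TG

variable {F : Type*} [Field F]

theorem wd_of (D : ChevalleyDatum) (w : List ℕ)
    (h : w.all (fun i => decide (i < D.rank)) = true) : Wd D w := by
  intro i hi
  rw [List.all_eq_true] at h
  exact of_decide_eq_true (h i hi)

theorem memD4 : chevD4 ∈ Seven := by simp [Seven]
theorem memF4 : chevF4 ∈ Seven := by simp [Seven]
theorem memE6 : chevE6 ∈ Seven := by simp [Seven]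
theorem memE7 : chevE7 ∈ Seven := by simp [Seven]
theorem memE8 : chevE8 ∈ Seven := by simp [Seven]

theorem virtOK_D4 : virtCheck chevD4 wordY_D4 rootY_D4 6 virtY_D4 = true := by decide +kernel
theorem virtOK_F4 : virtCheck chevF4 wordY_F4 rootY_F4 12 virtY_F4 = true := by decide +kernel
theorem virtOK_E6 : virtCheck chevE6 wordY_E6 rootY_E6 12 virtY_E6 = true := by decide +kernel
theorem virtOK_E7 : virtCheck chevE7 wordY_E7 rootY_E7 18 virtY_E7 = true := by decide +kernel
theorem virtOK_E8 : virtCheck chevE8 wordY_E8 rootY_E8 30 virtY_E8 = true := by decide +kernel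

theorem twoGenY_D4 [Fintype F] (h2 : Fintype.card F = 2) :
    ∃ a b : GL chevD4.Idx F, a ∈ chevD4.group F ∧ b ∈ chevD4.group F ∧
      chevD4.group F ≤ Subgroup.closure {a, b} :=
  twoGenY h2 chevD4 memD4 wordY_D4 seedY_D4 rootY_D4 6 virtY_D4 stepsY_D4
    (wd_of _ _ (by decide +kernel)) (by decide +kernel) (by decide +kernel) (by decide +kernel)
    (by decide +kernel) (by decide +kernel) (by decide +kernel) virtOK_D4 certY_D4

theorem twoGenY_F4 [Fintype F] (h2 : Fintype.card F = 2) :
    ∃ a b : GL chevF4.Idx F, a ∈ chevF4.group F ∧ b ∈ chevF4.group F ∧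
      chevF4.group F ≤ Subgroup.closure {a, b} :=
  twoGenY h2 chevF4 memF4 wordY_F4 seedY_F4 rootY_F4 12 virtY_F4 stepsY_F4
    (wd_of _ _ (by decide +kernel)) (by decide +kernel) (by decide +kernel) (by decide +kernel)
    (by decide +kernel) (by decide +kernel) (by decide +kernel) virtOK_F4 certY_F4

theorem twoGenY_E6 [Fintype F] (h2 : Fintype.card F = 2) :
    ∃ a b : GL chevE6.Idx F, a ∈ chevE6.group F ∧ b ∈ chevE6.group F ∧
      chevE6.group F ≤ Subgroup.closure {a, b} :=
  twoGenY h2 chevE6 memE6 wordY_E6 seedY_E6 rootY_E6 12 virtY_E6 stepsY_E6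
    (wd_of _ _ (by decide +kernel)) (by decide +kernel) (by decide +kernel) (by decide +kernel)
    (by decide +kernel) (by decide +kernel) (by decide +kernel) virtOK_E6 certY_E6

theorem twoGenY_E7 [Fintype F] (h2 : Fintype.card F = 2) :
    ∃ a b : GL chevE7.Idx F, a ∈ chevE7.group F ∧ b ∈ chevE7.group F ∧
      chevE7.group F ≤ Subgroup.closure {a, b} :=
  twoGenY h2 chevE7 memE7 wordY_E7 seedY_E7 rootY_E7 18 virtY_E7 stepsY_E7
    (wd_of _ _ (by decide +kernel)) (by decide +kernel) (by decide +kernel) (by decide +kernel)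
    (by decide +kernel) (by decide +kernel) (by decide +kernel) virtOK_E7 certY_E7

theorem twoGenY_E8 [Fintype F] (h2 : Fintype.card F = 2) :
    ∃ a b : GL chevE8.Idx F, a ∈ chevE8.group F ∧ b ∈ chevE8.group F ∧
      chevE8.group F ≤ Subgroup.closure {a, b} :=
  twoGenY h2 chevE8 memE8 wordY_E8 seedY_E8 rootY_E8 30 virtY_E8 stepsY_E8
    (wd_of _ _ (by decide +kernel)) (by decide +kernel) (by decide +kernel) (by decide +kernel)
    (by decide +kernel) (by decide +kernel) (by decide +kernel) virtOK_E8 certY_E8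

end Cfsg.Agent.Lib.Helper9.Ch2GYA
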