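import Mathlib
import Cfsg.Prelude.Def_Blocks
import Cfsg.Agent.Lib.Helper3.SLZ1
import Cfsg.Agent.Lib.Helper6.Clifford
import Cfsg.Agent.Lib.Helper6.CliffordDeg
import Cfsg.Agent.Lib.Helper6.BlkCover3
import Cfsg.Agent.Lib.Helper6.CharOps
import Cfsg.Agent.Lib.Helper6.Mult
import Cfsg.Agent.Lib.Helper6.IrrBasis

/-!
# S2318 farm, abstract unit A2: Clifford descent from `Γ` to a normal subgroup `N`

If every irreducible character `χ` of `Γ` with `d ∣ χ 1` has `χ 1 = d` and a linear constituent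
`φ` on `B` trivial on `B0 ≤ B ⊓ N`, then every irreducible character `θ` of `N ⊴ Γ` with `d ∣ θ 1`
is the restriction of an irreducible character of `Γ`, and `1 ≤ ⟨θ|_{B0}, 1⟩`.
-/

set_option autoImplicit false

namespace Cfsg.Agent.Lib.Helper9.ChA2

open Cfsg Cfsg.Agent.Lib.Helper6

variable {Γ : Type*} [Group Γ] [Fintype Γ]

/-- A linear constituent `φ` on `B`, trivial on `B0 ≤ B`, restricts to the trivial constituent on
`B0`. -/
theorem one_le_classInner_restrict (B B0 : Subgroup Γ) [Fintype B] [Fintype B0] (hB0B : B0 ≤ B)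
    (ψ : Γ → ℂ) (hψ : IsCharacter Γ ψ) (φ : B →* ℂˣ) (hφ : ∀ b : B, (b : Γ) ∈ B0 → φ b = 1)
    (h : 1 ≤ (classInner (fun b : B => ψ b) (fun b : B => ((φ b : ℂˣ) : ℂ))).re) :
    1 ≤ (classInner (fun b : B0 => ψ b) (fun _ : B0 => (1 : ℂ))).re := by
  classical
  have hA : IsCharacter B (fun b : B => ψ b) := IsCharacter.restrict B hψ
  have hlam : IsIrrCharacter B (fun b : B => ((φ b : ℂˣ) : ℂ)) := isIrrCharacter_of_hom φ
  have hne : classInner (fun b : B => ψ b) (fun b : B => ((φ b : ℂˣ) : ℂ)) ≠ 0 := by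
    intro h0
    rw [h0] at h
    simp at h
    linarith
  obtain ⟨A', hA', hdec⟩ := IsCharacter.exists_eq_add_of_constituent hA hlam hne
  -- restrict to `B0`
  have hf2 : IsCharacter B0 (fun b : B0 => A' (Subgroup.inclusion hB0B b)) :=
    IsCharacter.comp (Subgroup.inclusion hB0B) hA'
  have hsplit : (fun b : B0 => ψ b) = (fun _ : B0 => (1 : ℂ)) +
      (fun b : B0 => A' (Subgroup.inclusion hB0B b)) := by
    funext b
    have h1 := congrFun hdec (Subgroup.inclusion hB0B b)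
    simp only [Pi.add_apply] at h1
    have h2 : φ (Subgroup.inclusion hB0B b) = 1 := hφ _ b.2
    rw [h2, Units.val_one] at h1
    simp only [Pi.add_apply]
    rw [← h1]
    rfl
  obtain ⟨m, hm⟩ := IsCharacter.classInner_irr_nat hf2 (isIrrCharacter_one (G := B0))
  have h11 : classInner (fun _ : B0 => (1 : ℂ)) (fun _ : B0 => (1 : ℂ)) = 1 := by
    have := classInner_isIrrCharacter (isIrrCharacter_one (G := B0)) (isIrrCharacter_one (G := B0))
    rw [if_pos rfl] at this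
    exact this
  rw [hsplit, classInner_add_left, h11]
  have hm' : classInner (fun b : B0 => A' (Subgroup.inclusion hB0B b)) (fun _ : B0 => (1 : ℂ))
      = (m : ℂ) := hm
  rw [hm']
  simp

/-- **A2**: Clifford descent. -/
theorem a2_descent (N B B0 : Subgroup Γ) [Fintype N] [Fintype B] [Fintype B0]
    (hN : N.Normal) (hB0N : B0 ≤ N) (hB0B : B0 ≤ B) (d : ℕ)
    (hΓ : ∀ χ : IrrCharacter Γ, d ∣ charDegree χ.1 → charDegree χ.1 = d ∧
      ∃ φ : B →* ℂˣ, (∀ b : B, (b : Γ) ∈ B0 → φ b = 1) ∧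
        1 ≤ (classInner (fun b : B => χ.1 b) (fun b : B => ((φ b : ℂˣ) : ℂ))).re)
    (θ : IrrCharacter N) (hθ : d ∣ charDegree θ.1) :
    (∃ χ : IrrCharacter Γ, (fun n : N => χ.1 n) = θ.1) ∧
      1 ≤ (classInner (fun b : B0 => θ.1 ⟨(b : Γ), hB0N b.2⟩) (fun _ : B0 => (1 : ℂ))).re := by
  classical
  obtain ⟨χ, hc⟩ := exists_irr_over N θ
  have hdv := charDegree_dvd_of_constituent N hN χ θ hc
  obtain ⟨hdeg, φ, hφ, h1⟩ := hΓ χ (hθ.trans hdv)
  have hres := Cfsg.Agent.Lib.Helper3.SLZ1.restrict_eq_of_over N hN d χ θ hc hθ hdeg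
  refine ⟨⟨χ, hres⟩, ?_⟩
  have h2 := one_le_classInner_restrict B B0 hB0B χ.1 (IsIrrCharacter.isCharacter χ.2) φ hφ h1
  have h3 : (fun b : B0 => θ.1 ⟨(b : Γ), hB0N b.2⟩) = (fun b : B0 => χ.1 b) := by
    funext b
    have := congrFun hres ⟨(b : Γ), hB0N b.2⟩
    exact this.symm
  rw [h3]
  exact h2

end Cfsg.Agent.Lib.Helper9.ChA2
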