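import Mathlib
import Cfsg.Prelude.Def_Blocks
import Cfsg.Agent.Lib.Helper9.ChST
import Cfsg.Agent.Lib.Helper1.ChevHyp
import Cfsg.Agent.Lib.Helper6.BlkNormalDef

/-!
# S2318 farm, C2 (backup): vanishing of defect-zero characters of `Γ = G ⊔ T` on `U ∖ 1`

For an extended torus `T` (diagonal matrices normalising every root subgroup), `[Γ : G]` is prime
to `p` because every diagonal matrix has order dividing `q - 1`; hence `|U|` is the full `p`-part of
`|Γ|` and an irreducible character of `Γ` of degree divisible by `|U|` vanishes on `U ∖ 1`.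
-/

set_option autoImplicit false

namespace Cfsg.Agent.Lib.Helper9.ChC2

open Cfsg Cfsg.Lie Cfsg.Agent.Lib.Helper5.ChevStruct Cfsg.Agent.Lib.Helper6
open Cfsg.Agent.Lib.Helper7.ChR1 Cfsg.Agent.Lib.Helper1.ChevHyp Cfsg.Agent.Lib.Helper9.ChST

variable {F : Type*} [Field F] [Fintype F]

/-- a diagonal invertible matrix over a finite field has order dividing `q - 1` -/
theorem pow_card_sub_one_of_mem_diagSub {ι : Type*} [Fintype ι] [DecidableEq ι] (a : GL ι F)
    (ha : a ∈ Cfsg.Agent.Lib.Helper5.UniTri.diagSub ι F) : a ^ (Fintype.card F - 1) = 1 := by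
  obtain ⟨h1, h2⟩ := ha
  have e1 := (Matrix.isDiag_iff_diagonal_diag _).1 h1
  have e2 := (Matrix.isDiag_iff_diagonal_diag _).1 h2
  have hmul : (a : Matrix ι ι F) * ((a⁻¹ : GL ι F) : Matrix ι ι F) = 1 := by
    rw [← Units.val_mul, mul_inv_cancel, Units.val_one]
  have hne : ∀ i, Matrix.diag (a : Matrix ι ι F) i ≠ 0 := by
    intro i h0
    rw [← e1, ← e2, Matrix.diagonal_mul_diagonal] at hmul
    have := congrFun (congrFun hmul i) i
    rw [Matrix.diagonal_apply_eq, Matrix.one_apply_eq, h0, zero_mul] at this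
    exact zero_ne_one this
  apply Units.ext
  rw [Units.val_pow_eq_pow_val, Units.val_one, ← e1, Matrix.diagonal_pow, ← Matrix.diagonal_one]
  congr 1
  funext i
  simp only [Pi.pow_apply, Pi.one_apply]
  exact FiniteField.pow_card_sub_one_eq_one _ (hne i)

/-- `|U| = p ^ ν_p |G|` for `U` as a subgroup of `GL`. -/
theorem card_pos_eq (p : ℕ) [Fact p.Prime] [CharP F p] (D : ChevalleyDatum) (hD : D ∈ Seven) :
    Nat.card ↥(D.posUnipotent F) = p ^ (Nat.card ↥(D.group F)).factorization p := by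
  rw [pow_factorization_eq p D hD]
  exact (Nat.card_congr (Subgroup.subgroupOfEquivOfLe (pos_le_group D hD)).toEquiv).symm

/-- the `p`-part of `|Γ|` is the `p`-part of `|G|` -/
theorem factorization_Gam (p : ℕ) [Fact p.Prime] [CharP F p] {D : ChevalleyDatum}
    {hD : D ∈ Seven} {T : Subgroup (GL D.Idx F)} (hT : ExtTorus D hD T) :
    (Nat.card ↥(Gam D T)).factorization p = (Nat.card ↥(D.group F)).factorization p := by
  classical
  have hp : p.Prime := Fact.out
  have hfinGL : Finite (GL D.Idx F) :=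
    Finite.of_injective (fun g : GL D.Idx F => (g : Matrix D.Idx D.Idx F)) Units.val_injective
  set N : Subgroup ↥(Gam D T) := (D.group F).subgroupOf (Gam D T) with hN
  have hle : Gam D T ≤ Subgroup.normalizer (D.group F : Set (GL D.Idx F)) :=
    sup_le Subgroup.le_normalizer (le_normalizer_group hT)
  have hNn : N.Normal := Subgroup.normal_subgroupOf_of_le_normalizer hle
  have hcardN : Nat.card N = Nat.card ↥(D.group F) :=
    Nat.card_congr (Subgroup.subgroupOfEquivOfLe (group_le_Gam (T := T))).toEquiv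
  have hmul := Subgroup.card_eq_card_quotient_mul_card_subgroup N
  -- the quotient has exponent dividing `q - 1`
  have hexp : ∀ x : ↥(Gam D T) ⧸ N, x ^ (Fintype.card F - 1) = 1 := by
    intro x
    obtain ⟨γ, rfl⟩ := QuotientGroup.mk_surjective x
    obtain ⟨a, ha, g, hg, e⟩ := Gam_decomp hT γ.1 γ.2
    let a' : ↥(Gam D T) := ⟨a, T_le_Gam ha⟩
    let g' : ↥(Gam D T) := ⟨g, group_le_Gam hg⟩
    have hγ : γ = a' * g' := Subtype.ext e
    have hg' : g' ∈ N := Subgroup.mem_subgroupOf.2 hg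
    rw [hγ, QuotientGroup.mk_mul_of_mem a' hg', ← QuotientGroup.mk_pow]
    have : a' ^ (Fintype.card F - 1) = 1 := by
      apply Subtype.ext
      rw [Subgroup.coe_pow]
      exact pow_card_sub_one_of_mem_diagSub a (hT.hdiag ha)
    rw [this, QuotientGroup.mk_one]
  have hnd : ¬ p ∣ Nat.card (↥(Gam D T) ⧸ N) := by
    intro hdvd
    obtain ⟨x, hx⟩ := exists_prime_orderOf_dvd_card' p hdvd
    have h1 : orderOf x ∣ Fintype.card F - 1 := orderOf_dvd_of_pow_eq_one (hexp x)
    rw [hx] at h1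
    obtain ⟨f, _, hqf⟩ := FiniteField.card F p
    rw [hqf] at h1
    have hpf : p ∣ p ^ (f : ℕ) := dvd_pow_self p f.ne_zero
    have hpos : 1 ≤ p ^ (f : ℕ) := Nat.one_le_pow _ _ hp.pos
    have h3 : p ∣ p ^ (f : ℕ) - (p ^ (f : ℕ) - 1) := Nat.dvd_sub hpf h1
    have h4 : p ^ (f : ℕ) - (p ^ (f : ℕ) - 1) = 1 := by omega
    rw [h4] at h3
    exact hp.one_lt.ne' (Nat.dvd_one.mp h3)
  have hQ0 : Nat.card (↥(Gam D T) ⧸ N) ≠ 0 := Nat.card_pos.ne'
  have hN0 : Nat.card N ≠ 0 := Nat.card_pos.ne'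
  rw [hmul, Nat.factorization_mul hQ0 hN0, Finsupp.add_apply,
    Nat.factorization_eq_zero_of_not_dvd hnd, zero_add, hcardN]

/-- **C2**: vanishing in `Γ`. -/
theorem vanish_Gam (p : ℕ) [Fact p.Prime] [CharP F p] {D : ChevalleyDatum} {hD : D ∈ Seven}
    {T : Subgroup (GL D.Idx F)} (hT : ExtTorus D hD T)
    (χ' : IrrCharacter ↥(Gam D T))
    (hd : Nat.card ↥(D.posUnipotent F) ∣ charDegree χ'.1) :
    ∀ u ∈ (D.posUnipotent F).subgroupOf (Gam D T), u ≠ 1 → χ'.1 u = 0 := by
  classical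
  intro u hu hu1
  have hp : p.Prime := Fact.out
  have hfinGL : Finite (GL D.Idx F) :=
    Finite.of_injective (fun g : GL D.Idx F => (g : Matrix D.Idx D.Idx F)) Units.val_injective
  have : Fintype ↥(Gam D T) := Fintype.ofFinite _
  have hpos : Nat.card ↥(Gam D T) ≠ 0 := Nat.card_pos.ne'
  have hfac := factorization_Gam p hT
  rw [card_pos_eq p D hD, ← hfac] at hd
  apply IsIrrCharacter.eq_zero_of_defect_zero χ'.2 p _ hp (Nat.ordProj_dvd _ _)
    (Nat.pow_succ_factorization_not_dvd hpos hp) hd u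
  -- `u` is a nontrivial `p`-element
  have huU : ((u : ↥(Gam D T)) : GL D.Idx F) ∈ D.posUnipotent F := Subgroup.mem_subgroupOf.1 hu
  obtain ⟨P, hP⟩ := pos_isSylow (F := F) p D hD
  have hPg : IsPGroup p (P : Subgroup ↥(D.group F)) := P.isPGroup'
  rw [hP] at hPg
  obtain ⟨k, hk⟩ := hPg ⟨⟨(u : GL D.Idx F), pos_le_group D hD huU⟩, Subgroup.mem_subgroupOf.2 huU⟩
  have hk' : u ^ p ^ k = 1 := by
    apply Subtype.ext
    have := congrArg (fun z : ↥((D.posUnipotent F).subgroupOf (D.group F)) =>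
      (((z : ↥(D.group F)) : GL D.Idx F))) hk
    simpa using this
  have h3 : orderOf u ∣ p ^ k := orderOf_dvd_of_pow_eq_one hk'
  obtain ⟨j, _, hj⟩ := (Nat.dvd_prime_pow hp).mp h3
  rcases Nat.eq_zero_or_pos j with h0 | h0
  · exfalso
    rw [h0, pow_zero, orderOf_eq_one_iff] at hj
    exact hu1 hj
  · rw [hj]
    exact dvd_pow_self p h0.ne'

end Cfsg.Agent.Lib.Helper9.ChC2
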