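import Mathlib
import Cfsg.Prelude.Def_Blocks
import Cfsg.Agent.Lib.Helper9.ChST
import Cfsg.Agent.Lib.Helper1.GGCore
import Cfsg.Agent.Lib.Helper2.GGA2b
import Cfsg.Agent.Lib.Helper6.Auto
import Cfsg.Agent.Lib.Helper6.BlkNormalDef
import Cfsg.Agent.Lib.Helper4.DegSet
import Cfsg.Agent.Lib.Helper5.ChevGen

/-!
# S2318 farm: final assembly (hypothesis-shaped)

`s2318_core`: the statement of S2318 from
* Part I, in the shape of the hypothesis `hyp` of helper2's `a2_ambient` (for an overgroup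
  `Gh ≥ D.group F` normalising `D.group F`, and `Bh ≥ D.borelSubgroup F`), and
* helper1's `GGCore.Hyp` on `↥(D.group F)` for `Bg`, `Ug` (Part III).
-/

set_option autoImplicit false

namespace Cfsg.Agent.Lib.Helper9.ChFin

open Cfsg Cfsg.Lie Cfsg.Agent.Lib.Helper5.ChevStruct Cfsg.Agent.Lib.Helper6
open Cfsg.Agent.Lib.Helper9.ChST

/-- Transport of an inner product from an ambient subgroup `B ≤ G` to `B.subgroupOf G`. -/
theorem classInner_subgroupOf {X : Type*} [Group X] (G B : Subgroup X) (hBG : B ≤ G)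
    [Fintype B] [Fintype (B.subgroupOf G)] (f : G → ℂ) (g : B → ℂ) :
    classInner (fun b : B.subgroupOf G => f b)
        (fun b : B.subgroupOf G => g (Subgroup.subgroupOfEquivOfLe hBG b))
      = classInner (fun b : B => f ⟨(b : X), hBG b.2⟩) g := by
  have := classInner_comp_mulEquiv (Subgroup.subgroupOfEquivOfLe hBG)
    (fun b : B => f ⟨(b : X), hBG b.2⟩) g
  rw [← this]
  rfl

section chev

variable {F : Type*} [Field F] [Fintype F]

/-- A character of `p`-defect zero of `D.group F` vanishes on `Ug ∖ 1`. -/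
theorem vanish_of_defect_zero (p : ℕ) [Fact p.Prime] [CharP F p] (D : ChevalleyDatum)
    (hD : D ∈ Seven) (χ : ↥(D.group F) → ℂ) (hχ : IsIrrCharacter ↥(D.group F) χ)
    (hd : p ^ (Nat.card ↥(D.group F)).factorization p ∣ charDegree χ)
    (u : ↥(D.group F)) (hu : u ∈ (D.posUnipotent F).subgroupOf (D.group F)) (hu1 : u ≠ 1) :
    χ u = 0 := by
  classical
  have hp : p.Prime := Fact.out
  have : Finite ↥(D.group F) :=
    Finite.of_injective (fun g : ↥(D.group F) => ((g : GL D.Idx F) : Matrix D.Idx D.Idx F))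
      (fun a b h => Subtype.ext (Units.val_injective h))
  have : Fintype ↥(D.group F) := Fintype.ofFinite _
  have hpos : Nat.card ↥(D.group F) ≠ 0 := Nat.card_pos.ne'
  apply IsIrrCharacter.eq_zero_of_defect_zero hχ p _ hp (Nat.ordProj_dvd _ _)
    (Nat.pow_succ_factorization_not_dvd hpos hp) hd u
  obtain ⟨P, hP⟩ := pos_isSylow (F := F) p D hD
  have hPg : IsPGroup p (P : Subgroup ↥(D.group F)) := P.isPGroup'
  rw [hP] at hPg
  obtain ⟨k, hk⟩ := hPg ⟨u, hu⟩
  have hk' : u ^ p ^ k = 1 := by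
    have := congrArg Subtype.val hk
    simpa using this
  have h3 : orderOf u ∣ p ^ k := orderOf_dvd_of_pow_eq_one hk'
  obtain ⟨j, _, hj⟩ := (Nat.dvd_prime_pow hp).mp h3
  rcases Nat.eq_zero_or_pos j with h0 | h0
  · exfalso
    rw [h0, pow_zero, orderOf_eq_one_iff] at hj
    exact hu1 hj
  · rw [hj]
    exact dvd_pow_self p h0.ne'

/-- **S2318, hypothesis-shaped.** -/
theorem s2318_core (p : ℕ) [Fact p.Prime] [CharP F p] (D : ChevalleyDatum) (hD : D ∈ Seven)
    [Fintype ↥(D.group F)]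
    [Fintype ↥((D.borelSubgroup F).subgroupOf (D.group F))]
    [Fintype ↥((D.posUnipotent F).subgroupOf (D.group F))]
    (Gh Bh : Subgroup (GL D.Idx F)) [Finite Gh] [Fintype Bh]
    (hGGh : D.group F ≤ Gh)
    (hnorm : ∀ g ∈ Gh, ∀ x ∈ D.group F, g * x * g⁻¹ ∈ D.group F)
    (hB0B : D.borelSubgroup F ≤ Bh) (hBGh : Bh ≤ Gh)
    (hI : ∀ χ' : IrrCharacter Gh, Nat.card ↥(D.posUnipotent F) ∣ charDegree χ'.1 →
      charDegree χ'.1 = Nat.card ↥(D.posUnipotent F) ∧
      ∃ φ : Bh →* ℂˣ, (∀ b : Bh, (b : GL D.Idx F) ∈ D.borelSubgroup F → φ b = 1) ∧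
        1 ≤ (classInner (fun b : Bh => χ'.1 ⟨(b : GL D.Idx F), hBGh b.2⟩)
          (fun b : Bh => ((φ b : ℂˣ) : ℂ))).re)
    (ψ : ↥((D.posUnipotent F).subgroupOf (D.group F)) →* ℂˣ)
    (I : Cfsg.Agent.Lib.Helper1.GGCore.Hyp ((D.borelSubgroup F).subgroupOf (D.group F))
      ((D.posUnipotent F).subgroupOf (D.group F)) ψ)
    (χ : ↥(D.group F) → ℂ) (hχ : Cfsg.IsIrrCharacter ↥(D.group F) χ)
    (hdeg : ∃ d : ℕ, χ 1 = (d : ℂ) ∧ p ^ (Nat.card ↥(D.group F)).factorization p ∣ d) :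
    χ = D.steinbergCharacter F := by
  classical
  have : Fintype ↥(D.borelSubgroup F) := Fintype.ofFinite _
  obtain ⟨d, hd1, hd2⟩ := hdeg
  have hcd : charDegree χ = d := Cfsg.Agent.Lib.Helper4.charDegree_eq_of_apply_one hd1
  have hdvd : p ^ (Nat.card ↥(D.group F)).factorization p ∣ charDegree χ := by
    rw [hcd]; exact hd2
  have hUcard : Nat.card ↥(D.posUnipotent F)
      = p ^ (Nat.card ↥(D.group F)).factorization p := by
    rw [pow_factorization_eq p D hD]
    exact (Nat.card_congr (Subgroup.subgroupOfEquivOfLe (pos_le_group D hD)).toEquiv).symm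
  -- Part II
  have h2 := Cfsg.Agent.Lib.Helper2.GGA2.a2_ambient (D.group F) Gh (D.borelSubgroup F) Bh
    hGGh hnorm (borel_le_group D hD) hB0B hBGh (Nat.card ↥(D.posUnipotent F)) ⟨χ, hχ⟩
    (by rw [hUcard]; exact hdvd) hI
  -- transport to `Bg`
  have h2' : 1 ≤ (classInner (fun b : ↥((D.borelSubgroup F).subgroupOf (D.group F)) => χ b)
      (fun _ => (1 : ℂ))).re := by
    have := classInner_subgroupOf (D.group F) (D.borelSubgroup F) (borel_le_group D hD) χ
      (fun _ => (1 : ℂ))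
    rw [this]
    exact h2
  -- Part III
  have hv1 : ∀ u ∈ (D.posUnipotent F).subgroupOf (D.group F), u ≠ 1 → χ u = 0 :=
    fun u hu hu1 => vanish_of_defect_zero p D hD χ hχ hdvd u hu hu1
  have hv2 : ∀ u ∈ (D.posUnipotent F).subgroupOf (D.group F), u ≠ 1 →
      D.steinbergCharacter F u = 0 :=
    fun u hu hu1 => st_vanish p D hD u hu hu1
  have key := Cfsg.Agent.Lib.Helper1.GGCore.gg_unique I ⟨χ, hχ⟩
    ⟨D.steinbergCharacter F, st_irr D hD⟩ hv1 hv2
    (1 : ↥((D.borelSubgroup F).subgroupOf (D.group F)) →* ℂˣ) (fun _ _ => rfl)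
    (by simpa using h2') (by simpa using st_borel (F := F) D hD)
  exact congrArg Subtype.val key

end chev

end Cfsg.Agent.Lib.Helper9.ChFin
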