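import Mathlib
import Cfsg.Prelude.Def_Blocks
import Cfsg.Agent.Lib.Helper9.ChFin
import Cfsg.Agent.Lib.Helper7.ChR3

/-!
# S2318 farm, C10: Part I in the ambient shape of `ChFin.s2318_core`'s hypothesis `hI`

Inputs (hypothesis-shaped): helper1's `GGCore.Hyp` inside `↥Γ` for `B̂ = U (H Ĥ)`, helper8's `hm2`
(root characters with a prescribed value at a simple root), and the vanishing (C2) of defect-zero
characters of `Γ` on `U ∖ 1`.
-/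

set_option autoImplicit false

namespace Cfsg.Agent.Lib.Helper9.ChP1

open Cfsg Cfsg.Lie Cfsg.Agent.Lib.Helper5.ChevStruct Cfsg.Agent.Lib.Helper6
open Cfsg.Agent.Lib.Helper7.ChR1 Cfsg.Agent.Lib.Helper7.ChR2 Cfsg.Agent.Lib.Helper7.ChR3
open Cfsg.Agent.Lib.Helper1.GGCore Cfsg.Agent.Lib.Helper9.ChFin

variable {F : Type*} [Field F] [Fintype F]

/-- **Part I** (C10). -/
theorem part_one (D : ChevalleyDatum) (hD : D ∈ Seven) (Γ : Subgroup (GL D.Idx F)) [Fintype Γ]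
    (hPΓ : ∀ i, i < D.rank → Phat D hD (That D F) i ≤ Γ)
    (hBΓ : Cfsg.Agent.Lib.Helper7.ChR1.Bhat D (That D F) ≤ Γ)
    [Fintype ↥(Cfsg.Agent.Lib.Helper7.ChR1.Bhat D (That D F))]
    [Fintype ((Cfsg.Agent.Lib.Helper7.ChR1.Bhat D (That D F)).subgroupOf Γ)]
    [Fintype ((D.posUnipotent F).subgroupOf Γ)]
    {ψ : ((D.posUnipotent F).subgroupOf Γ) →* ℂˣ}
    (I : Hyp ((Cfsg.Agent.Lib.Helper7.ChR1.Bhat D (That D F)).subgroupOf Γ)
      ((D.posUnipotent F).subgroupOf Γ) ψ)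
    (hm2 : ∀ i, i < D.rank → ∀ c : Fˣ, ∃ χ : ℕ → Fˣ, D.IsRootCharacter χ ∧ χ (D.simple i) = c)
    (hvan : ∀ χ' : IrrCharacter Γ, Nat.card ↥(D.posUnipotent F) ∣ charDegree χ'.1 →
      ∀ u ∈ (D.posUnipotent F).subgroupOf Γ, u ≠ 1 → χ'.1 u = 0) :
    ∀ χ' : IrrCharacter Γ, Nat.card ↥(D.posUnipotent F) ∣ charDegree χ'.1 →
      charDegree χ'.1 = Nat.card ↥(D.posUnipotent F) ∧
      ∃ φ : ↥(Cfsg.Agent.Lib.Helper7.ChR1.Bhat D (That D F)) →* ℂˣ,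
        (∀ b : ↥(Cfsg.Agent.Lib.Helper7.ChR1.Bhat D (That D F)),
          (b : GL D.Idx F) ∈ D.borelSubgroup F → φ b = 1) ∧
        1 ≤ (classInner (fun b : ↥(Cfsg.Agent.Lib.Helper7.ChR1.Bhat D (That D F)) =>
            χ'.1 ⟨(b : GL D.Idx F), hBΓ b.2⟩)
          (fun b : ↥(Cfsg.Agent.Lib.Helper7.ChR1.Bhat D (That D F)) => ((φ b : ℂˣ) : ℂ))).re := by
  intro χ' hd
  have hv := hvan χ' hd
  obtain ⟨hdeg, φ', hφU, hφ1⟩ := gg_step I χ' hv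
  have hUΓ : D.posUnipotent F ≤ Γ := pos_le_Bhat.trans hBΓ
  have hcd : charDegree χ'.1 = Nat.card ↥(D.posUnipotent F) := by
    rw [Cfsg.Agent.Lib.Helper4.charDegree_eq_of_apply_one hdeg]
    exact card_subgroupOf_of_le hUΓ
  refine ⟨hcd, ?_⟩
  have hT := extTorus_That (F := F) D hD
  have hinv : ∀ i, i < D.rank → ∀ s : Γ, (s : GL D.Idx F) = nGL D hD i → ∀ (y : Γ)
      (hy : y ∈ (Cfsg.Agent.Lib.Helper7.ChR1.Bhat D (That D F)).subgroupOf Γ)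
      (hsy : s * y * s⁻¹ ∈ (Cfsg.Agent.Lib.Helper7.ChR1.Bhat D (That D F)).subgroupOf Γ),
      φ' ⟨s * y * s⁻¹, hsy⟩ = φ' ⟨y, hy⟩ :=
    fun i hi s hs y hy hsy =>
      rank_one_in hT Γ i hi (hPΓ i hi) I χ' hv φ' hφU hφ1 s hs y hy hsy
  have hnΓ : ∀ i, i < D.rank → nGL D hD i ∈ Γ := fun i hi => hPΓ i hi (nGL_mem_Phat i)
  have htriv := phi_trivial_on_borel D hD Γ hBΓ hm2 φ' hφU hinv hnΓ
  let e := Subgroup.subgroupOfEquivOfLe hBΓ
  refine ⟨φ'.comp e.symm.toMonoidHom, ?_, ?_⟩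
  · intro b hb
    show φ' (e.symm b) = 1
    apply htriv (e.symm b)
    have : (((e.symm b : (Cfsg.Agent.Lib.Helper7.ChR1.Bhat D (That D F)).subgroupOf Γ) : Γ) :
        GL D.Idx F) = (b : GL D.Idx F) := by
      have := e.apply_symm_apply b
      exact congrArg Subtype.val this
    rw [this]
    exact hb
  · have key := classInner_subgroupOf Γ (Cfsg.Agent.Lib.Helper7.ChR1.Bhat D (That D F)) hBΓ χ'.1
      (fun b : ↥(Cfsg.Agent.Lib.Helper7.ChR1.Bhat D (That D F)) =>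
        (((φ'.comp e.symm.toMonoidHom) b : ℂˣ) : ℂ))
    rw [← key]
    have hfun : (fun b : (Cfsg.Agent.Lib.Helper7.ChR1.Bhat D (That D F)).subgroupOf Γ =>
        (((φ'.comp e.symm.toMonoidHom) (Subgroup.subgroupOfEquivOfLe hBΓ b) : ℂˣ) : ℂ))
        = (fun b => ((φ' b : ℂˣ) : ℂ)) := by
      funext b
      show ((φ' (e.symm (e b)) : ℂˣ) : ℂ) = _
      rw [e.symm_apply_apply]
    rw [hfun]
    exact hφ1

end Cfsg.Agent.Lib.Helper9.ChP1
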