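import Mathlib
import Cfsg.Agent.Lib.Helper5.ChevCoLin
import Cfsg.Agent.Lib.Helper5.ChevWPerm
import Cfsg.Agent.Lib.Helper5.StChar.DoubleCox
import Cfsg.Agent.Lib.Helper5.StChar.W0Cell

/-!
# S2441 farm, units D1 + D2: root combinatorics

(in coroot coordinates `co D r k`, for which positivity is the sign of the coordinates)

* `cartan_offdiag`: the off-diagonal Cartan integers are `≤ 0`;
* `co_wAct_reflect`: `v(s_j p_i) = v(p_i) + c v(p_j)` with `c = -A_{p_i,p_j}`, for every word `v`;
* `wAct_eq_self_of_simple`: a word fixing all fundamental roots fixes all roots;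
* `lemmaD`: there is no word `w` and adjacent `i ≠ j` with
  `(P_w)`: `a > 0`, `w⁻¹ a > 0` ⇒ `w a = a`, together with `w⁻¹ p_j < 0` and `w⁻¹ (s_j p_i) > 0`.
-/

set_option autoImplicit false

namespace Cfsg.Agent.Lib.Helper9.ChRootD

open Cfsg Cfsg.Lie Cfsg.Agent.Lib.Helper5.ChevSym Cfsg.Agent.Lib.Helper5.ChevStruct
  Cfsg.Agent.Lib.Helper5.StChar

set_option maxRecDepth 1000000 in
/-- the off-diagonal Cartan integers are non-positive -/
theorem cartan_offdiag (D : ChevalleyDatum) (hD : D ∈ Seven) (i j : ℕ) (hi : i < D.rank)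
    (hj : j < D.rank) (hne : i ≠ j) : D.cartan i (D.simple j) ≤ 0 := by
  have key : ∀ i ∈ List.range D.rank, ∀ j ∈ List.range D.rank, i ≠ j →
      D.cartan i (D.simple j) ≤ 0 := by
    simp only [Seven, List.mem_cons, List.mem_nil_iff, or_false] at hD
    rcases hD with rfl | rfl | rfl | rfl | rfl | rfl | rfl <;> decide +kernel
  exact key i (List.mem_range.2 hi) j (List.mem_range.2 hj) hne

theorem simple_ne (D : ChevalleyDatum) (hD : D ∈ Seven) (i j : ℕ) (hi : i < D.rank)
    (hj : j < D.rank) (hne : i ≠ j) : D.simple i ≠ D.simple j := by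
  intro h
  have h1 := co_simple D hD i hi i hi
  have h2 := co_simple D hD j hj i hi
  rw [h] at h1
  rw [h1] at h2
  simp [basisVec, hne] at h2

/-- coroot coordinates of `s_j p_i` -/
theorem co_reflect_simple (D : ChevalleyDatum) (hD : D ∈ Seven) (i j : ℕ) (hi : i < D.rank)
    (hj : j < D.rank) (m : ℕ) (hm : m < D.rank) :
    co D (D.reflectRoot j (D.simple i)) m
      = basisVec i m - (if m = j then D.cartan i (D.simple j) else 0) := by
  have h1 := (checkCoLin_spec D j (chkCoLin_all D hD j hj) (D.simple i)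
    (simple_lt D hD i hi)).1 m hm
  rw [h1]
  unfold reflVec
  rw [co_simple D hD i hi m hm]
  congr 1
  split_ifs with h
  · rw [pairVec_eq, fpair_eq]
    have : ∀ x ∈ Finset.range D.rank, co D (D.simple i) x * D.cartan x (D.simple j)
        = if x = i then D.cartan i (D.simple j) else 0 := by
      intro x hx
      rw [co_simple D hD i hi x (Finset.mem_range.1 hx)]
      unfold basisVec
      split_ifs with hxi
      · rw [hxi, one_mul]
      · rw [zero_mul]
    rw [Finset.sum_congr rfl this, Finset.sum_ite_eq' (Finset.range D.rank) i]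
    rw [if_pos (Finset.mem_range.2 hi)]
  · rfl

/-- `v(s_j p_i) = v(p_i) - A_{p_i,p_j} v(p_j)` in coroot coordinates -/
theorem co_wAct_reflect (D : ChevalleyDatum) (hD : D ∈ Seven) (v : List ℕ) (hv : Wd D v)
    (i j : ℕ) (hi : i < D.rank) (hj : j < D.rank) (k : ℕ) (hk : k < D.rank) :
    co D (wAct D v (D.reflectRoot j (D.simple i))) k
      = co D (wAct D v (D.simple i)) k
        - D.cartan i (D.simple j) * co D (wAct D v (D.simple j)) k := by
  have hb : D.reflectRoot j (D.simple i) < D.nroots :=
    wAct_lt D hD [j] (by intro x hx; rw [List.mem_singleton] at hx; rw [hx]; exact hj)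
      _ (simple_lt D hD i hi)
  rw [co_wAct_eq_sum D hD v hv _ hb k hk]
  have : ∀ m ∈ Finset.range D.rank,
      co D (D.reflectRoot j (D.simple i)) m * co D (wAct D v (D.simple m)) k
      = (if m = i then co D (wAct D v (D.simple i)) k else 0)
        - (if m = j then D.cartan i (D.simple j) * co D (wAct D v (D.simple j)) k else 0) := by
    intro m hm
    rw [co_reflect_simple D hD i j hi hj m (Finset.mem_range.1 hm)]
    unfold basisVec
    split_ifs with h1 h2 h2
    · rw [h1]; rw [h1] at h2; rw [← h2]; ring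
    · rw [h1]; ring
    · rw [h2]; ring
    · ring
  rw [Finset.sum_congr rfl this, Finset.sum_sub_distrib,
    Finset.sum_ite_eq' (Finset.range D.rank) i, Finset.sum_ite_eq' (Finset.range D.rank) j,
    if_pos (Finset.mem_range.2 hi), if_pos (Finset.mem_range.2 hj)]

/-- a word fixing all fundamental roots fixes all roots -/
theorem wAct_eq_self_of_simple (D : ChevalleyDatum) (hD : D ∈ Seven) (w : List ℕ) (hw : Wd D w)
    (h : ∀ i < D.rank, wAct D w (D.simple i) = D.simple i) (r : ℕ) (hr : r < D.nroots) :
    wAct D w r = r := by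
  apply co_inj D hD _ _ (wAct_lt D hD w hw r hr) hr
  intro k hk
  rw [co_wAct_eq_sum D hD w hw r hr k hk]
  have : ∀ j ∈ Finset.range D.rank, co D r j * co D (wAct D w (D.simple j)) k
      = if j = k then co D r k else 0 := by
    intro j hj
    rw [h j (Finset.mem_range.1 hj), co_simple D hD j (Finset.mem_range.1 hj) k hk]
    unfold basisVec
    split_ifs with h1 h2 h2
    · rw [h2, mul_one]
    · exact absurd h1.symm h2
    · exact absurd h2.symm h1
    · rw [mul_zero]
  rw [Finset.sum_congr rfl this, Finset.sum_ite_eq' (Finset.range D.rank) k,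
    if_pos (Finset.mem_range.2 hk)]

/-- **Lemma D**. -/
theorem lemmaD (D : ChevalleyDatum) (hD : D ∈ Seven) (w : List ℕ) (hw : Wd D w) (i j : ℕ)
    (hi : i < D.rank) (hj : j < D.rank) (hne : i ≠ j) (hadj : D.cartan i (D.simple j) ≠ 0)
    (hP : ∀ a, D.IsPosRoot a → D.IsPosRoot (wAct D w.reverse a) → wAct D w a = a)
    (h1 : D.IsNegRoot (wAct D w.reverse (D.simple j)))
    (h2 : D.IsPosRoot (wAct D w.reverse (D.reflectRoot j (D.simple i)))) : False := by
  have hw' : Wd D w.reverse := hw.reverse
  have hA : D.cartan i (D.simple j) < 0 :=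
    lt_of_le_of_ne (cartan_offdiag D hD i j hi hj hne) hadj
  have hsi := simple_lt D hD i hi
  have hsj := simple_lt D hD j hj
  have hb : D.reflectRoot j (D.simple i) < D.nroots :=
    wAct_lt D hD [j] (by intro x hx; rw [List.mem_singleton] at hx; rw [hx]; exact hj) _ hsi
  have hbpos : D.IsPosRoot (D.reflectRoot j (D.simple i)) :=
    (checkCoLin_spec D j (chkCoLin_all D hD j hj) (D.simple i) hsi).2 (simple_pos D hD i hi)
      (simple_ne D hD i j hi hj hne)
  have h1co := ((isNegRoot_iff_co D hD _).1 h1).2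
  have h2co := ((isPosRoot_iff_co D hD _).1 h2).2
  by_cases hpi : D.IsPosRoot (wAct D w.reverse (D.simple i))
  · -- `w⁻¹ p_i > 0`
    have e1 : wAct D w (D.simple i) = D.simple i := hP _ (simple_pos D hD i hi) hpi
    have e2 : wAct D w (D.reflectRoot j (D.simple i)) = D.reflectRoot j (D.simple i) :=
      hP _ hbpos h2
    have e3 : wAct D w (D.simple j) = D.simple j := by
      apply co_inj D hD _ _ (wAct_lt D hD w hw _ hsj) hsj
      intro k hk
      have c1 := co_wAct_reflect D hD w hw i j hi hj k hk
      have c2 := co_wAct_reflect D hD [] (by intro x hx; simp at hx) i j hi hj k hk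
      rw [e1, e2] at c1
      simp only [wAct, List.foldr_nil] at c2
      rw [c2] at c1
      have : D.cartan i (D.simple j) * co D (D.simple j) k
          = D.cartan i (D.simple j) * co D (wAct D w (D.simple j)) k := by linarith
      exact (mul_left_cancel₀ hadj this).symm
    have e4 : wAct D w.reverse (D.simple j) = D.simple j := by
      have := wAct_reverse_left D hD w hw (D.simple j) hsj
      rwa [e3] at this
    rw [e4] at h1
    exact not_pos_of_neg D hD _ h1 (simple_pos D hD j hj)
  · -- `w⁻¹ p_i < 0`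
    have hni : D.IsNegRoot (wAct D w.reverse (D.simple i)) :=
      isNegRoot_of_not_pos D hD _ (wAct_lt D hD _ hw' _ hsi) hpi
    have hnico := ((isNegRoot_iff_co D hD _).1 hni).2
    have hlt := wAct_lt D hD _ hw' _ hb
    obtain ⟨k, hk, hk0⟩ := exists_co_ne_zero D hD _ hlt
    have c1 := co_wAct_reflect D hD w.reverse hw' i j hi hj k hk
    have a1 := h2co k hk
    have a2 := hnico k hk
    have a3 := h1co k hk
    have a4 : 0 ≤ D.cartan i (D.simple j) * co D (wAct D w.reverse (D.simple j)) k :=
      mul_nonneg_of_nonpos_of_nonpos hA.le a3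
    apply hk0
    linarith

end Cfsg.Agent.Lib.Helper9.ChRootD
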