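import Mathlib
import Cfsg.Prelude.Def_Blocks
import Cfsg.Agent.Lib.Helper6.BlkPrincipal
import Cfsg.Agent.Lib.Helper6.BlkMajor
import Cfsg.Agent.Lib.Helper6.BrPrin
import Cfsg.Agent.S0953
import Cfsg.Agent.S0955
import Cfsg.Agent.S0908

/-!
# S4538 / S2440 farm, unit Z3, abstract part

For a finite group `G` with `p ∣ |G|`: if `G` has exactly one block of defect zero, every block has
defect zero or full defect, the `p`-regular elements of `C_G(P)` (`P` a Sylow `p`-subgroup) are
central and the centre is a `p'`-group, then the number of `p`-blocks is `|Z(G)| + 1`.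
-/

set_option autoImplicit false

namespace Cfsg.Agent.Lib.Helper9.SLZ3

open Cfsg Cfsg.Agent.Lib.Helper6

variable {G : Type*} [Group G] [Finite G]
variable {p : ℕ} [Fact p.Prime] {M : Ideal Cfsg.AlgInt}

/-- A block has full defect iff a given Sylow `p`-subgroup is a defect group. -/
theorem full_defect_iff (hM : IsPModular p M) (P : Sylow p G)
    (B : Set (IrrCharacter G)) (hB : IsPBlock M B) :
    blockDefect p B = (Nat.card G).factorization p ↔ IsDefectGroup p M B (P : Subgroup G) := by
  classical
  have : Fintype G := Fintype.ofFinite G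
  have hp : p.Prime := Fact.out
  constructor
  · intro hdef
    obtain ⟨D, hD⟩ := exists_isDefectGroup hM B hB
    have hcard := Cfsg.Agent.S0908.result p M hM B hB D hD
    rw [hdef] at hcard
    obtain ⟨χ₀, rfl⟩ := hB
    let S : Sylow p G := Sylow.ofCard D hcard
    obtain ⟨g, hg⟩ := MulAction.exists_smul_eq G S P
    have h1 := IsDefectGroup.map_conj hM χ₀ D hD g
    have h2 : D.map (MulAut.conj g).toMonoidHom = (P : Subgroup G) := by
      rw [← hg]
      show _ = ((g • S : Sylow p G) : Subgroup G)
      rw [Sylow.coe_subgroup_smul]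
      rfl
    rw [h2] at h1
    exact h1
  · intro hP
    have hcard := Cfsg.Agent.S0908.result p M hM B hB _ hP
    have hS := P.card_eq_multiplicity
    rw [hcard] at hS
    exact Nat.pow_right_injective hp.two_le hS

/-- **Z3, abstract**. -/
theorem count_abstract (hM : IsPModular p M)
    (hdvd : p ∣ Nat.card G)
    (h0 : Nat.card {B : Set (IrrCharacter G) // IsPBlock M B ∧ blockDefect p B = 0} = 1)
    (hdich : ∀ B : Set (IrrCharacter G), IsPBlock M B →
      blockDefect p B = 0 ∨ blockDefect p B = (Nat.card G).factorization p)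
    (P : Sylow p G)
    (hcen : ∀ x : G, x ∈ Subgroup.centralizer ((P : Subgroup G) : Set G) → ¬ p ∣ orderOf x →
      x ∈ Subgroup.center G)
    (hZ : ∀ z : G, z ∈ Subgroup.center G → ¬ p ∣ orderOf z) :
    Nat.card {B : Set (IrrCharacter G) // IsPBlock M B} = Nat.card (Subgroup.center G) + 1 := by
  classical
  have : Fintype G := Fintype.ofFinite G
  have hp : p.Prime := Fact.out
  have ha : (Nat.card G).factorization p ≠ 0 := by
    have hpos : 0 < Nat.card G := Nat.card_pos
    have := (hp.factorization_pos_of_dvd hpos.ne' hdvd)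
    omega
  -- split the blocks
  have hsplit : Nat.card {B : Set (IrrCharacter G) // IsPBlock M B}
      = Nat.card {B : Set (IrrCharacter G) // IsPBlock M B ∧ blockDefect p B = 0}
        + Nat.card {B : Set (IrrCharacter G) // IsPBlock M B ∧
            blockDefect p B = (Nat.card G).factorization p} := by
    have e : {B : Set (IrrCharacter G) // IsPBlock M B} ≃
        {B : Set (IrrCharacter G) // IsPBlock M B ∧ blockDefect p B = 0} ⊕
        {B : Set (IrrCharacter G) // IsPBlock M B ∧
            blockDefect p B = (Nat.card G).factorization p} :=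
      { toFun := fun B =>
          if h : blockDefect p B.1 = 0 then Sum.inl ⟨B.1, B.2, h⟩
          else Sum.inr ⟨B.1, B.2, (hdich B.1 B.2).resolve_left h⟩
        invFun := fun x => Sum.elim (fun B => ⟨B.1, B.2.1⟩) (fun B => ⟨B.1, B.2.1⟩) x
        left_inv := by
          intro B
          by_cases h : blockDefect p B.1 = 0
          · simp [h]
          · simp [h]
        right_inv := by
          rintro (B | B)
          · simp [B.2.2]
          · have : ¬ blockDefect p B.1 = 0 := by rw [B.2.2]; exact ha
            simp [this] }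
    rw [Nat.card_congr e, Nat.card_sum]
  -- full defect ↔ defect group `P`
  have hfull : Nat.card {B : Set (IrrCharacter G) // IsPBlock M B ∧
      blockDefect p B = (Nat.card G).factorization p}
      = Nat.card {B : Set (IrrCharacter G) // IsPBlock M B ∧
          IsDefectGroup p M B (P : Subgroup G)} := by
    apply Nat.card_congr
    apply Equiv.subtypeEquivRight
    intro B
    constructor
    · rintro ⟨hB, h⟩
      exact ⟨hB, (full_defect_iff hM P B hB).mp h⟩
    · rintro ⟨hB, h⟩
      exact ⟨hB, (full_defect_iff hM P B hB).mpr h⟩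
  rw [hsplit, h0, hfull, Cfsg.Agent.S0953.result p M hM P, add_comm]
  congr 1
  -- classes ↔ centre
  set N := Subgroup.normalizer ((P : Subgroup G) : Set G) with hN
  have hZN : ∀ z : G, z ∈ Subgroup.center G → z ∈ N := by
    intro z hz
    rw [hN, Subgroup.mem_normalizer_iff]
    intro h
    have hc := Subgroup.mem_center_iff.mp hz
    have : z * h * z⁻¹ = h := by
      rw [← hc h, mul_assoc, mul_inv_cancel, mul_one]
    rw [this]
  have hconj : ∀ (z : G) (hz : z ∈ Subgroup.center G) (n : N),
      ConjClasses.mk n = ConjClasses.mk (⟨z, hZN z hz⟩ : N) → n = ⟨z, hZN z hz⟩ := by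
    intro z hz n h
    rw [ConjClasses.mk_eq_mk_iff_isConj, isConj_iff] at h
    obtain ⟨c, hc⟩ := h
    have hcz := Subgroup.mem_center_iff.mp hz
    apply Subtype.ext
    have h2 : (c : G) * (n : G) * (c : G)⁻¹ = z := by
      have := congrArg Subtype.val hc
      simpa using this
    have h3 : (n : G) = (c : G)⁻¹ * z * (c : G) := by
      rw [← h2]; group
    rw [h3]
    show (c : G)⁻¹ * z * (c : G) = z
    rw [mul_assoc, ← hcz (c : G), ← mul_assoc, inv_mul_cancel, one_mul]
  symm
  let f : Subgroup.center G → {C : ConjClasses N // ∀ n : N, ConjClasses.mk n = C →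
      ¬ p ∣ orderOf n ∧ (n : G) ∈ Subgroup.centralizer ((P : Subgroup G) : Set G)} :=
    fun z => ⟨ConjClasses.mk ⟨(z : G), hZN z z.2⟩, by
      intro n hn
      have := hconj z z.2 n hn
      subst this
      refine ⟨?_, ?_⟩
      · rw [← Subgroup.orderOf_coe]
        exact hZ z z.2
      · exact Subgroup.center_le_centralizer _ z.2⟩
  apply Nat.card_congr
  apply Equiv.ofBijective f
  constructor
  · intro z₁ z₂ h
    have h' : ConjClasses.mk (⟨(z₁ : G), hZN z₁ z₁.2⟩ : N) = ConjClasses.mk ⟨(z₂ : G), hZN z₂ z₂.2⟩ :=
      congrArg Subtype.val h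
    have := hconj z₂ z₂.2 _ h'
    apply Subtype.ext
    exact congrArg (fun x : N => (x : G)) this
  · rintro ⟨C, hC⟩
    obtain ⟨n, rfl⟩ := ConjClasses.exists_rep C
    obtain ⟨h1, h2⟩ := hC n rfl
    have h3 : (n : G) ∈ Subgroup.center G := by
      apply hcen _ h2
      rw [Subgroup.orderOf_coe]
      exact h1
    refine ⟨⟨(n : G), h3⟩, ?_⟩
    apply Subtype.ext
    rfl

end Cfsg.Agent.Lib.Helper9.SLZ3
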