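import Mathlib
import Cfsg.Prelude.Def_Blocks
import Cfsg.Agent.Lib.Helper9.ChFin
import Cfsg.Agent.Lib.Helper9.ChC2
import Cfsg.Agent.Lib.Helper9.SLZ3a
import Cfsg.Agent.Lib.Helper7.ChR4
import Cfsg.Agent.Lib.Helper7.ChR5
import Cfsg.Agent.Lib.Helper1.ChevHyp
import Cfsg.Agent.Lib.Helper8.ChevRootChar2
import Cfsg.Agent.Lib.Helper8.SLF1

/-!
# S2441 farm, unit FIN: the final assembly, hypothesis-shaped

For `D` one of the seven data, `F` a finite field of characteristic `p`, `G = ↥(D.group F)`,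
`Ug = (D.posUnipotent F).subgroupOf (D.group F)`:

* `steinberg_unique`: S2318 without its hypothesis on `|F|`;
* `card_defect_zero`: exactly one `p`-block of defect zero;
* `two_blocks`: from the dichotomy (`hdich`), `C_G(Ug) ≤ Ug` (`hcenU`) and `Z(G) = 1` (`hZ1`),
  `G` has exactly two `p`-blocks.
-/

set_option autoImplicit false

namespace Cfsg.Agent.Lib.Helper9.ChTwo

open Cfsg Cfsg.Lie Cfsg.Agent.Lib.Helper5.ChevStruct Cfsg.Agent.Lib.Helper5.ChevSym
  Cfsg.Agent.Lib.Helper5.UniTri Cfsg.Agent.Lib.Helper7.ChR1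
  Cfsg.Agent.Lib.Helper7.ChR2 Cfsg.Agent.Lib.Helper7.ChR4 Cfsg.Agent.Lib.Helper1.GGCore
  Cfsg.Agent.Lib.Helper1.ChevHyp Cfsg.Agent.Lib.Helper9.ChST

/-- `H` itself is an extended torus. -/
theorem extTorus_diag' {F : Type*} [Field F] (D : ChevalleyDatum) (hD : D ∈ Seven) :
    ExtTorus (F := F) D hD (D.diagonalSubgroup F) where
  hH := le_refl _
  hdiag := diagonalSubgroup_le_diagSub D hD
  hroot := fun a ha r t => diagonal_conj_xGL D hD a ha r t
  hn := fun i hi a ha =>
    conj_n_diag_mem D hD _ _ ((checkRows_spec D (checkRows_all D hD) i hi).2.1)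
      (nGL_val D hD i) a ha

/-- `GGCore.Hyp` on `↥(D.group F)` itself. -/
theorem exists_hyp_group' {F : Type*} [Field F] [Fintype F] (D : ChevalleyDatum) (hD : D ∈ Seven)
    [Fintype ↥(D.group F)] :
    ∃ ψ : ↥((D.posUnipotent F).subgroupOf (D.group F)) →* ℂˣ,
      Hyp ((D.borelSubgroup F).subgroupOf (D.group F))
        ((D.posUnipotent F).subgroupOf (D.group F)) ψ := by
  obtain ⟨ψ0, hψ0⟩ := Cfsg.Agent.Lib.Helper8.ChevPsi.exists_addChar_ne_one (F := F)
  have hTH := extTorus_diag' (F := F) D hD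
  have hP : ∀ (K : Subgroup (GL D.Idx F)), Gam D (D.diagonalSubgroup F) = K →
      ∀ [Fintype ↥K], ∃ ψ : ↥((D.posUnipotent F).subgroupOf K) →* ℂˣ,
        Hyp ((D.borelSubgroup F).subgroupOf K) ((D.posUnipotent F).subgroupOf K) ψ := by
    intro K hK
    subst hK
    intro inst
    exact ⟨psiG D hD (D.diagonalSubgroup F) ψ0, hyp_Gam hTH ψ0 hψ0⟩
  exact hP (D.group F) (sup_eq_left.mpr (diagonal_le_group D hD))

variable {F : Type*} [Field F] [Fintype F]

/-- S2318 without the hypothesis on `|F|`. -/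
theorem steinberg_unique (p : ℕ) [Fact p.Prime] [CharP F p] (D : ChevalleyDatum) (hD : D ∈ Seven)
    (χ : ↥(D.group F) → ℂ) (hχ : Cfsg.IsIrrCharacter ↥(D.group F) χ)
    (hdeg : ∃ d : ℕ, χ 1 = (d : ℂ) ∧ p ^ (Nat.card ↥(D.group F)).factorization p ∣ d) :
    χ = D.steinbergCharacter F := by
  classical
  have hfinGL : Finite (GL D.Idx F) := Cfsg.Agent.Lib.Helper7.ChR5.finite_GL D
  have : Fintype ↥(Gam D (That D F)) := Fintype.ofFinite _
  have : Fintype ↥(D.group F) := Fintype.ofFinite _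
  have : Fintype ↥((D.borelSubgroup F).subgroupOf (D.group F)) := Fintype.ofFinite _
  have : Fintype ↥((D.posUnipotent F).subgroupOf (D.group F)) := Fintype.ofFinite _
  have : Fintype ↥(Cfsg.Agent.Lib.Helper7.ChR1.Bhat D (That D F)) := Fintype.ofFinite _
  have : Fintype ↥((Cfsg.Agent.Lib.Helper7.ChR1.Bhat D (That D F)).subgroupOf
      (Gam D (That D F))) := Fintype.ofFinite _
  have : Fintype ↥((D.posUnipotent F).subgroupOf (Gam D (That D F))) := Fintype.ofFinite _
  have hT := extTorus_That (F := F) D hD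
  have hPΓ : ∀ i, i < D.rank → Phat D hD (That D F) i ≤ Gam D (That D F) :=
    fun i _ => Phat_le_sup D hD _ i
  have hBΓ : Cfsg.Agent.Lib.Helper7.ChR1.Bhat D (That D F) ≤ Gam D (That D F) :=
    Bhat_le_sup D hD _
  have hnorm : ∀ g ∈ Gam D (That D F), ∀ x ∈ D.group F, g * x * g⁻¹ ∈ D.group F :=
    Cfsg.Agent.Lib.Helper7.ChR5.sup_That_conj_group D hD
  obtain ⟨ψ0, hψ0⟩ := Cfsg.Agent.Lib.Helper8.ChevPsi.exists_addChar_ne_one (F := F)
  have Ih := hyp_Gam hT ψ0 hψ0
  obtain ⟨ψ, IG⟩ := exists_hyp_group' (F := F) D hD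
  have hm2 := Cfsg.Agent.Lib.Helper8.ChevRootChar.hm2 (F := F) D hD
  have hvan : ∀ χ' : IrrCharacter ↥(Gam D (That D F)),
      Nat.card ↥(D.posUnipotent F) ∣ charDegree χ'.1 →
      ∀ u ∈ (D.posUnipotent F).subgroupOf (Gam D (That D F)), u ≠ 1 → χ'.1 u = 0 :=
    fun χ' hd => Cfsg.Agent.Lib.Helper9.ChC2.vanish_Gam p hT χ' hd
  exact Cfsg.Agent.Lib.Helper9.ChFin.s2318_core p D hD (Gam D (That D F))
    (Cfsg.Agent.Lib.Helper7.ChR1.Bhat D (That D F)) le_sup_left hnorm hT.borel_le_Bhat hBΓ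
    (fun χ' hd => part_one_of D hD (Gam D (That D F)) hPΓ hBΓ Ih hm2 χ' (hvan χ' hd))
    ψ IG χ hχ hdeg

/-- number of positive roots is positive -/
theorem nroots_half_pos (D : ChevalleyDatum) (hD : D ∈ Seven) : 0 < D.nroots / 2 := by
  simp only [Seven, List.mem_cons, List.mem_nil_iff, or_false] at hD
  rcases hD with rfl | rfl | rfl | rfl | rfl | rfl | rfl <;> decide

/-- `p` divides `|G|`. -/
theorem p_dvd_card_group (p : ℕ) [Fact p.Prime] [CharP F p] (D : ChevalleyDatum)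
    (hD : D ∈ Seven) : p ∣ Nat.card ↥(D.group F) := by
  have hfinGL : Finite (GL D.Idx F) := Cfsg.Agent.Lib.Helper7.ChR5.finite_GL D
  obtain ⟨n, hp, hq⟩ := FiniteField.card F p
  have h1 : p ∣ Nat.card ↥((D.posUnipotent F).subgroupOf (D.group F)) := by
    rw [card_Ug D hD, hq]
    have hN := nroots_half_pos D hD
    have hn : 0 < (n : ℕ) := n.pos
    exact dvd_pow (dvd_pow_self p hn.ne') hN.ne'
  exact h1.trans (Subgroup.card_subgroup_dvd_card _)

/-- exactly one block of defect zero -/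
theorem card_defect_zero (p : ℕ) [Fact p.Prime] [CharP F p] (D : ChevalleyDatum)
    (hD : D ∈ Seven) (M : Ideal AlgInt) (hM : IsPModular p M) :
    Nat.card {B : Set (IrrCharacter ↥(D.group F)) // IsPBlock M B ∧ blockDefect p B = 0} = 1 := by
  have hp : p.Prime := Fact.out
  have hfinGL : Finite (GL D.Idx F) := Cfsg.Agent.Lib.Helper7.ChR5.finite_GL D
  have key : ∀ θ : IrrCharacter ↥(D.group F),
      (charDegree (θ : ↥(D.group F) → ℂ)).factorization p
        = (Nat.card ↥(D.group F)).factorization p → θ.1 = D.steinbergCharacter F := by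
    intro θ hθ
    refine steinberg_unique p D hD θ.1 θ.2 ⟨charDegree θ.1,
      Cfsg.Agent.Lib.Helper4.apply_one_eq_charDegree θ, ?_⟩
    rw [← hθ]
    exact Nat.ordProj_dvd _ _
  refine Cfsg.Agent.Lib.Helper8.SLF.card_defect_zero_blocks p M hM ?_ ?_
  · intro θ1 θ2 h1 h2
    exact Subtype.ext ((key θ1 h1).trans (key θ2 h2).symm)
  · refine ⟨⟨D.steinbergCharacter F, st_irr D hD⟩, ?_⟩
    have hdeg : charDegree (D.steinbergCharacter F)
        = Nat.card ↥((D.posUnipotent F).subgroupOf (D.group F)) :=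
      Cfsg.Agent.Lib.Helper4.charDegree_eq_of_apply_one (st_degree D hD)
    show (charDegree (D.steinbergCharacter F)).factorization p = _
    rw [hdeg, ← pow_factorization_eq p D hD, Nat.factorization_pow]
    simp [hp.factorization_self]

/-- **FIN**: two blocks, from the dichotomy, `C_G(U) ≤ U` and `Z(G) = 1`. -/
theorem two_blocks (p : ℕ) [Fact p.Prime] [CharP F p] (D : ChevalleyDatum)
    (hD : D ∈ Seven) (M : Ideal AlgInt) (hM : IsPModular p M)
    (hdich : ∀ B : Set (IrrCharacter ↥(D.group F)), IsPBlock M B →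
      blockDefect p B = 0 ∨ blockDefect p B = (Nat.card ↥(D.group F)).factorization p)
    (hcenU : ∀ x : ↥(D.group F),
      x ∈ Subgroup.centralizer
        (((D.posUnipotent F).subgroupOf (D.group F) : Subgroup ↥(D.group F)) : Set ↥(D.group F)) →
      x ∈ (D.posUnipotent F).subgroupOf (D.group F))
    (hZ1 : ∀ z : ↥(D.group F), z ∈ Subgroup.center ↥(D.group F) → z = 1) :
    Nat.card {B : Set (IrrCharacter ↥(D.group F)) // IsPBlock M B} = 2 := by
  have hp : p.Prime := Fact.out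
  have hfinGL : Finite (GL D.Idx F) := Cfsg.Agent.Lib.Helper7.ChR5.finite_GL D
  obtain ⟨P, hP⟩ := pos_isSylow (F := F) p D hD
  have hcount := Cfsg.Agent.Lib.Helper9.SLZ3.count_abstract (p := p) (M := M) hM
    (p_dvd_card_group p D hD) (card_defect_zero p D hD M hM) hdich P ?_ ?_
  · rw [hcount]
    have : Subgroup.center ↥(D.group F) = ⊥ := by
      rw [eq_bot_iff]
      intro z hz
      exact Subgroup.mem_bot.2 (hZ1 z hz)
    rw [this]
    simp
  · intro x hx hpx
    rw [hP] at hx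
    have hxU := hcenU x hx
    have hxP : x ∈ (P : Subgroup ↥(D.group F)) := by rw [hP]; exact hxU
    obtain ⟨k, hk⟩ := (P.2 ⟨x, hxP⟩)
    have hxk : x ^ p ^ k = 1 := by
      have := congrArg Subtype.val hk
      simpa using this
    have hord : orderOf x ∣ p ^ k := orderOf_dvd_of_pow_eq_one hxk
    obtain ⟨j, _, hj⟩ := (Nat.dvd_prime_pow hp).1 hord
    have hj0 : j = 0 := by
      by_contra h
      exact hpx (hj ▸ dvd_pow_self p h)
    rw [hj0, pow_zero, orderOf_eq_one_iff] at hj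
    rw [hj]
    exact Subgroup.one_mem _
  · intro z hz
    rw [hZ1 z hz, orderOf_one]
    exact hp.one_lt.ne' ∘ Nat.dvd_one.1

end Cfsg.Agent.Lib.Helper9.ChTwo
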