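import Mathlib
import Cfsg.Agent.Lib.Helper9.ChTwo
import Cfsg.Agent.Lib.Helper7.ChZ1
import Cfsg.Agent.Lib.Helper5.StPres.StMain

/-!
# S2441 farm, unit FIN (second half): two blocks from the dichotomy alone

`hcenU` from helper7's `ChZ.centralizer_subgroupOf_le`, `hZ1` from helper5's
`StPres.center_group_eq_bot`.
-/

set_option autoImplicit false

namespace Cfsg.Agent.Lib.Helper9.ChTwo

open Cfsg Cfsg.Lie Cfsg.Agent.Lib.Helper5.ChevStruct

variable {F : Type*} [Field F] [Fintype F]

/-- two blocks, from the dichotomy alone -/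
theorem two_blocks_of_dich (p : ℕ) [Fact p.Prime] [CharP F p] (D : ChevalleyDatum)
    (hD : D ∈ Seven) (M : Ideal AlgInt) (hM : IsPModular p M)
    (hdich : ∀ B : Set (IrrCharacter ↥(D.group F)), IsPBlock M B →
      blockDefect p B = 0 ∨ blockDefect p B = (Nat.card ↥(D.group F)).factorization p) :
    Nat.card {B : Set (IrrCharacter ↥(D.group F)) // IsPBlock M B} = 2 := by
  refine two_blocks p D hD M hM hdich
    (fun x hx => Cfsg.Agent.Lib.Helper7.ChZ.centralizer_subgroupOf_le D hD hx) ?_
  intro z hz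
  have h := Cfsg.Agent.Lib.Helper5.StPres.center_group_eq_bot D hD F
  rw [h] at hz
  exact Subgroup.mem_bot.1 hz

end Cfsg.Agent.Lib.Helper9.ChTwo
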