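import Mathlib

set_option autoImplicit false

namespace Cfsg.Agent.Lib.Helper9.Chain1

open MulAction

variable {α : Type*}

theorem inv_apply_self' (u : Equiv.Perm α) (b : α) : u⁻¹ (u b) = b := u.symm_apply_apply b

theorem apply_inv_self' (u : Equiv.Perm α) (b : α) : u (u⁻¹ b) = b := u.apply_symm_apply b

theorem mem_inf_stab (H : Subgroup (Equiv.Perm α)) (b : α) (g : Equiv.Perm α) :
    g ∈ H ⊓ stabilizer (Equiv.Perm α) b ↔ g ∈ H ∧ g b = b := by
  rw [Subgroup.mem_inf, mem_stabilizer_iff, Equiv.Perm.smul_def]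

/-- one step of a stabilizer chain inside a permutation group -/
theorem card_step (H : Subgroup (Equiv.Perm α)) (b : α) (Δ : Finset α)
    (hup : ∀ h ∈ H, h b ∈ Δ) (hlow : ∀ x ∈ Δ, ∃ h ∈ H, h b = x) :
    Nat.card H = Δ.card * Nat.card ↥(H ⊓ stabilizer (Equiv.Perm α) b) := by
  have e1 : orbit H b × stabilizer H b ≃ H := orbitProdStabilizerEquivGroup H b
  have hset : orbit H b = (Δ : Set α) := by
    ext x
    constructor
    · rintro ⟨h, rfl⟩
      exact hup h.1 h.2
    · intro hx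
      obtain ⟨h, hh, rfl⟩ := hlow x hx
      exact ⟨⟨h, hh⟩, rfl⟩
  have e2 : orbit H b ≃ Δ := Equiv.setCongr hset
  have e3 : stabilizer H b ≃ ↥(H ⊓ stabilizer (Equiv.Perm α) b) :=
    { toFun := fun g => ⟨g.1.1, (mem_inf_stab H b _).mpr ⟨g.1.2, by
        have := g.2
        rw [mem_stabilizer_iff] at this
        exact this⟩⟩
      invFun := fun g => ⟨⟨g.1, ((mem_inf_stab H b _).mp g.2).1⟩, by
        rw [mem_stabilizer_iff]
        exact ((mem_inf_stab H b _).mp g.2).2⟩
      left_inv := fun g => rfl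
      right_inv := fun g => rfl }
  rw [← Nat.card_congr e1, Nat.card_prod, Nat.card_congr e2, Nat.card_congr e3,
    Nat.card_eq_fintype_card, Fintype.card_coe]

/-- sifting step -/
theorem sift_step (H : Subgroup (Equiv.Perm α)) (b : α) (g u : Equiv.Perm α) (hg : g ∈ H)
    (hu : u ∈ H) (h : u b = g b) : u⁻¹ * g ∈ H ⊓ stabilizer (Equiv.Perm α) b := by
  rw [mem_inf_stab]
  refine ⟨H.mul_mem (H.inv_mem hu) hg, ?_⟩
  rw [Equiv.Perm.mul_apply, ← h, inv_apply_self']

/-- a subgroup `C ≤ H` whose stabilizer chain has the same orbits is equal to `H`: one step -/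
theorem le_step (H C : Subgroup (Equiv.Perm α)) (b : α)
    (hlow : ∀ g ∈ H, ∃ u ∈ C, u ∈ H ∧ u b = g b)
    (hnext : H ⊓ stabilizer (Equiv.Perm α) b ≤ C) : H ≤ C := by
  intro g hg
  obtain ⟨u, huC, huH, hub⟩ := hlow g hg
  have h1 := hnext (sift_step H b g u hg huH hub)
  have : g = u * (u⁻¹ * g) := by group
  rw [this]
  exact C.mul_mem huC h1

/-- mapping a base tuple to an arbitrary injective tuple -/
theorem exists_map_tuple (H : Subgroup (Equiv.Perm α)) (b : ℕ → α) (n : ℕ)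
    (hstep : ∀ k < n, ∀ x : α, (∀ j < k, x ≠ b j) →
      ∃ u ∈ H, (∀ j < k, u (b j) = b j) ∧ u (b k) = x)
    (y : ℕ → α) (hy : ∀ i < n, ∀ j < n, y i = y j → i = j) :
    ∃ h ∈ H, ∀ i < n, h (b i) = y i := by
  suffices hk : ∀ k ≤ n, ∃ h ∈ H, ∀ i < k, h (b i) = y i from hk n le_rfl
  intro k
  induction k with
  | zero => exact fun _ => ⟨1, H.one_mem, fun i hi => absurd hi (Nat.not_lt_zero i)⟩
  | succ k ih =>
    intro hk
    obtain ⟨h, hh, hfix⟩ := ih (by omega)
    have hx : ∀ j < k, h⁻¹ (y k) ≠ b j := by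
      intro j hj heq
      have h1 : y k = h (b j) := by rw [← heq, apply_inv_self']
      rw [hfix j hj] at h1
      have := hy k (by omega) j (by omega) h1
      omega
    obtain ⟨u, hu, hufix, huk⟩ := hstep k (by omega) (h⁻¹ (y k)) hx
    refine ⟨h * u, H.mul_mem hh hu, ?_⟩
    intro i hi
    rw [Equiv.Perm.mul_apply]
    rcases Nat.lt_succ_iff_lt_or_eq.mp hi with hlt | rfl
    · rw [hufix i hlt, hfix i hlt]
    · rw [huk, apply_inv_self']

end Cfsg.Agent.Lib.Helper9.Chain1
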