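import Mathlib

set_option autoImplicit false

namespace Cfsg.Agent.Lib.Helper9.Chain2

open scoped Pointwise

variable {α : Type*} [DecidableEq α] [Fintype α]

/-- a group of permutations stabilizing a finite set `d`, in which only the identity fixes a given
injective `n`-tuple of points of `d`, has at most `|d|·(|d|-1)⋯(|d|-n+1)` elements; in case of
equality it is transitive on the injective `n`-tuples of points of `d` -/
theorem sharp_bound (S : Subgroup (Equiv.Perm α)) (d : Finset α) (n : ℕ) (b : Fin n ↪ α)
    (hb : ∀ i, b i ∈ d) (hS : ∀ g ∈ S, g • d = d)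
    (htriv : ∀ g ∈ S, (∀ i, g (b i) = b i) → g = 1) :
    Nat.card S ≤ d.card.descFactorial n ∧
    (Nat.card S = d.card.descFactorial n →
      ∀ y : Fin n ↪ α, (∀ i, y i ∈ d) → ∃ g ∈ S, ∀ i, g (b i) = y i) := by
  have hmem : ∀ g ∈ S, ∀ p ∈ d, g p ∈ d := by
    intro g hg p hp
    have := hS g hg
    rw [← this]
    exact Finset.smul_mem_smul_finset hp
  let φ : S → (Fin n ↪ d) := fun g =>
    ⟨fun i => ⟨g.1 (b i), hmem g.1 g.2 _ (hb i)⟩, fun i j h => by
      have h1 : g.1 (b i) = g.1 (b j) := congrArg Subtype.val h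
      exact b.injective (g.1.injective h1)⟩
  have hφ : Function.Injective φ := by
    intro g g' h
    have h1 : ∀ i, g.1 (b i) = g'.1 (b i) := fun i => by
      have := congrArg (fun f : Fin n ↪ d => (f i : α)) h
      exact this
    have h2 : g'.1⁻¹ * g.1 = 1 := by
      apply htriv _ (S.mul_mem (S.inv_mem g'.2) g.2)
      intro i
      rw [Equiv.Perm.mul_apply, h1 i]
      exact g'.1.symm_apply_apply _
    apply Subtype.ext
    have := inv_mul_eq_one.mp h2
    exact this.symm
  have hcard : Nat.card (Fin n ↪ d) = d.card.descFactorial n := by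
    rw [Nat.card_eq_fintype_card, Fintype.card_embedding_eq, Fintype.card_coe, Fintype.card_fin]
  constructor
  · rw [← hcard]
    exact Nat.card_le_card_of_injective φ hφ
  · intro heq y hy
    have hbij : Function.Bijective φ :=
      hφ.bijective_of_nat_card_le (by rw [hcard, heq])
    obtain ⟨g, hg⟩ := hbij.2 ⟨fun i => ⟨y i, hy i⟩, fun i j h => by
      have h1 : y i = y j := congrArg Subtype.val h
      exact y.injective h1⟩
    refine ⟨g.1, g.2, fun i => ?_⟩
    have := congrArg (fun f : Fin n ↪ d => (f i : α)) hg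
    exact this

end Cfsg.Agent.Lib.Helper9.Chain2
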