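import Mathlib

set_option autoImplicit false

namespace Cfsg.Agent.Lib.Helper9.Chain5

open MulAction

variable {G : Type*} [Group G] {X : Type*} [MulAction G X]

/-- orbit–stabilizer, with the orbit counted as a set -/
theorem ncard_orbit_mul_card_stabilizer [Finite G] (x : X) :
    (orbit G x).ncard * Nat.card (stabilizer G x) = Nat.card G := by
  rw [← Nat.card_coe_set_eq, ← Nat.card_prod]
  exact Nat.card_congr (orbitProdStabilizerEquivGroup G x)

/-- the stabilizer of `y` inside the stabilizer of `x` -/
def stabStabEquiv {Y : Type*} [MulAction G Y] (x : X) (y : Y) :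
    stabilizer (stabilizer G x) y ≃ ↥(stabilizer G x ⊓ stabilizer G y) where
  toFun k := ⟨k.1.1, Subgroup.mem_inf.mpr ⟨k.1.2, by
    have := k.2
    rw [mem_stabilizer_iff] at this ⊢
    exact this⟩⟩
  invFun k := ⟨⟨k.1, (Subgroup.mem_inf.mp k.2).1⟩, by
    have := (Subgroup.mem_inf.mp k.2).2
    rw [mem_stabilizer_iff] at this ⊢
    exact this⟩
  left_inv _ := rfl
  right_inv _ := rfl

/-- two-step orbit–stabilizer -/
theorem ncard_orbit_mul_card_inf [Finite G] {Y : Type*} [MulAction G Y] (x : X) (y : Y) :
    (orbit (stabilizer G x) y).ncard * Nat.card ↥(stabilizer G x ⊓ stabilizer G y)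
      = Nat.card (stabilizer G x) := by
  rw [← ncard_orbit_mul_card_stabilizer (G := stabilizer G x) y,
    Nat.card_congr (stabStabEquiv x y)]

end Cfsg.Agent.Lib.Helper9.Chain5
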