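import Cfsg.Agent.Lib.Helper9.NormalSeries5
import Cfsg.Agent.Lib.Helper9.GroupFusionSat
import Cfsg.Prelude.Def_TwoFusion

set_option autoImplicit false

namespace Cfsg.Agent.Lib.Helper9

open Cfsg Cfsg.FusionSystem
open scoped commutatorElement

variable {G : Type*} [Group G]

theorem groupFusion_stronglyClosed_of_isStronglyClosed {S Z : Subgroup G}
    (hZ : Cfsg.IsStronglyClosed Z S) : (groupFusionSystem S).StronglyClosed Z := by
  refine ⟨hZ.1, fun R hR φ hφ x => ?_⟩
  obtain ⟨-, hφS, g, hg⟩ := hφ
  have h1 := hφS x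
  rw [hg] at h1 ⊢
  exact hZ.2 x (hR x.2) g h1

theorem core_eq_of_normal {Ω : Type*} [Group Ω] {S : Subgroup Ω} (F : FusionSystem S)
    (h : F.IsNormal S) : F.core = S := by
  apply le_antisymm
  · exact sSup_le (fun Q hQ => hQ.1)
  · exact le_sSup h

/-- maps of a group fusion system in which `S` is normal are induced by `N_G(S)` -/
theorem groupFusion_hom_normalizer_of_normal {S : Subgroup G}
    (h : (groupFusionSystem S).IsNormal S) (P : Subgroup G) (φ : P →* G)
    (hφ : φ ∈ (groupFusionSystem S).Hom P) :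
    ∃ g ∈ Subgroup.normalizer (S : Set G), ∀ x : P, φ x = g * (x : G) * g⁻¹ := by
  obtain ⟨ψ, hψ, hψφ, hψS⟩ := h.2 P φ hφ
  obtain ⟨-, -, g, hg⟩ := hψ
  have h1 : ∀ s ∈ S, g * s * g⁻¹ ∈ S := by
    intro s hs
    have : g * s * g⁻¹ = ψ ⟨s, (le_sup_right : S ≤ P ⊔ S) hs⟩ :=
      (hg ⟨s, (le_sup_right : S ≤ P ⊔ S) hs⟩).symm
    rw [this]
    exact hψS.le ⟨_, hs, rfl⟩
  have h2 : ∀ y ∈ S, ∃ s ∈ S, g * s * g⁻¹ = y := by
    intro y hy
    obtain ⟨s, hs, hsy⟩ := hψS.ge hy
    exact ⟨s, hs, by rw [← hsy, hg]⟩
  refine ⟨g, ?_, fun x => ?_⟩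
  · rw [Subgroup.mem_normalizer_iff]
    intro y
    constructor
    · exact h1 y
    · intro hy
      obtain ⟨s, hs, hsy⟩ := h2 _ hy
      have : s = y := by
        have := mul_left_cancel (mul_right_cancel hsy)
        exact this
      rw [← this]
      exact hs
  · rw [← hψφ x, hg]
    rfl

/-- S5107 -/
theorem class_two_center_stronglyClosed [Finite G] (p : ℕ) [Fact p.Prime] (S : Sylow p G)
    (hcl : ⁅(S : Subgroup G), (S : Subgroup G)⁆ ≤
      (S : Subgroup G) ⊓ Subgroup.centralizer ((S : Subgroup G) : Set G))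
    (hZ : Cfsg.IsStronglyClosed ((S : Subgroup G) ⊓ Subgroup.centralizer ((S : Subgroup G) : Set G))
      (S : Subgroup G)) :
    (∀ (P : Subgroup G) (φ : P →* G), φ ∈ (groupFusionSystem (S : Subgroup G)).Hom P →
      ∃ g ∈ Subgroup.normalizer ((S : Subgroup G) : Set G), ∀ x : P, φ x = g * (x : G) * g⁻¹) ∧
    (groupFusionSystem (S : Subgroup G)).core = S := by
  have hF := groupFusion_saturated (p := p) S
  have hS : IsPGroup p (S : Subgroup G) := S.isPGroup'
  have hZsc := groupFusion_stronglyClosed_of_isStronglyClosed hZ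
  have hnormal : (groupFusionSystem (S : Subgroup G)).IsNormal (S : Subgroup G) := by
    apply normal_of_series p hS _ hF (S : Subgroup G)
      (fun j => if j = 0 then ⊥ else if j = 1 then
        (S : Subgroup G) ⊓ Subgroup.centralizer ((S : Subgroup G) : Set G) else (S : Subgroup G)) 2
    · simp
    · simp
    · intro j
      show (groupFusionSystem (S : Subgroup G)).StronglyClosed (if j = 0 then ⊥ else if j = 1 then
        (S : Subgroup G) ⊓ Subgroup.centralizer ((S : Subgroup G) : Set G) else (S : Subgroup G))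
      by_cases h0 : j = 0
      · rw [if_pos h0]
        exact stronglyClosed_bot _
      · rw [if_neg h0]
        by_cases h1 : j = 1
        · rw [if_pos h1]
          exact hZsc
        · rw [if_neg h1]
          exact stronglyClosed_top _
    · intro j hj
      have : j = 0 ∨ j = 1 := by omega
      rcases this with rfl | rfl
      · show ⁅(S : Subgroup G), (if (0 + 1 = 0) then ⊥ else if 0 + 1 = 1 then
          (S : Subgroup G) ⊓ Subgroup.centralizer ((S : Subgroup G) : Set G)
          else (S : Subgroup G))⁆ ≤ (if (0 = 0) then ⊥ else if 0 = 1 then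
          (S : Subgroup G) ⊓ Subgroup.centralizer ((S : Subgroup G) : Set G) else (S : Subgroup G))
        rw [if_neg (by omega), if_pos rfl, if_pos rfl, Subgroup.commutator_le]
        intro a ha b hb
        rw [Subgroup.mem_bot, commutatorElement_eq_one_iff_mul_comm]
        exact (Subgroup.mem_centralizer_iff.mp hb.2 a ha)
      · show ⁅(S : Subgroup G), (if (1 + 1 = 0) then ⊥ else if 1 + 1 = 1 then
          (S : Subgroup G) ⊓ Subgroup.centralizer ((S : Subgroup G) : Set G)
          else (S : Subgroup G))⁆ ≤ (if (1 = 0) then ⊥ else if 1 = 1 then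
          (S : Subgroup G) ⊓ Subgroup.centralizer ((S : Subgroup G) : Set G) else (S : Subgroup G))
        rw [if_neg (by omega), if_neg (by omega), if_neg (by omega), if_pos rfl]
        exact hcl
    · intro j hj
      show (if j = 0 then ⊥ else if j = 1 then
        (S : Subgroup G) ⊓ Subgroup.centralizer ((S : Subgroup G) : Set G) else (S : Subgroup G)) = S
      rw [if_neg (by omega), if_neg (by omega)]
  exact ⟨groupFusion_hom_normalizer_of_normal hnormal, core_eq_of_normal _ hnormal⟩

end Cfsg.Agent.Lib.Helper9
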