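import Mathlib
import Cfsg.Prelude
import Cfsg.Agent.Lib.Lead.Tw
import Cfsg.Agent.Lib.Helper9.Blk5A

set_option maxHeartbeats 1600000
set_option autoImplicit false
set_option linter.unusedVariables false
set_option linter.unusedSimpArgs false
set_option linter.unusedSectionVars false
set_option linter.style.longLine false


/-! S1615 piece (P-COUNT): the double counting that forces `k = t`, `lam = 0`. -/

namespace Cfsg.Agent.Lib.Helper9.Cnt5

open Cfsg Cfsg.Agent.Lib.Lead.Tw Cfsg.Agent.Lib.Helper9.Blk5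

/-- double counting for `ncard` -/
theorem double_count {α β : Type*} [Finite α] [Finite β] (U : Set α) (A : Set β)
    (Φ : α → β → Prop) (m n : ℕ)
    (h1 : ∀ u ∈ U, {c | c ∈ A ∧ Φ u c}.ncard = m)
    (h2 : ∀ c ∈ A, {u | u ∈ U ∧ Φ u c}.ncard = n) : U.ncard * m = A.ncard * n := by
  classical
  have := Fintype.ofFinite α
  have := Fintype.ofFinite β
  have e1 : ∀ u ∈ U.toFinset, (A.toFinset.filter (fun c => Φ u c)).card = m := by
    intro u hu
    rw [← h1 u (Set.mem_toFinset.mp hu), Set.ncard_eq_toFinset_card']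
    congr 1; ext c; simp
  have e2 : ∀ c ∈ A.toFinset, (U.toFinset.filter (fun u => Φ u c)).card = n := by
    intro c hc
    rw [← h2 c (Set.mem_toFinset.mp hc), Set.ncard_eq_toFinset_card']
    congr 1; ext u; simp
  calc U.ncard * m = ∑ u ∈ U.toFinset, m := by
        rw [Finset.sum_const, smul_eq_mul, Set.ncard_eq_toFinset_card']
    _ = ∑ u ∈ U.toFinset, ∑ c ∈ A.toFinset, (if Φ u c then 1 else 0) := by
        apply Finset.sum_congr rfl
        intro u hu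
        rw [← e1 u hu, Finset.card_filter]
    _ = ∑ c ∈ A.toFinset, ∑ u ∈ U.toFinset, (if Φ u c then 1 else 0) := Finset.sum_comm
    _ = ∑ c ∈ A.toFinset, n := by
        apply Finset.sum_congr rfl
        intro c hc
        rw [← e2 c hc, Finset.card_filter]
    _ = A.ncard * n := by
        rw [Finset.sum_const, smul_eq_mul, Set.ncard_eq_toFinset_card']

variable {G : Type*} [Group G] [Finite G] {D : Set G}

/-- the non-neighbours of `x` in `D` -/
def An (D : Set G) (x : G) : Set G := {c : G | c ∈ D ∧ ¬ Commute x c}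

theorem mem_An {x c : G} : c ∈ An D x ↔ c ∈ D ∧ ¬ Commute x c := Iff.rfl

omit [Finite G] in
theorem Dn_symm {x y : G} (hx : x ∈ D) (hy : y ∈ Dn D x) : x ∈ Dn D y :=
  ⟨hx, fun e => hy.2.1 e.symm, hy.2.2.symm⟩

omit [Finite G] in
theorem self_mem_Tb {x y : G} (hy : y ∈ Dn D x) : y ∈ Tb D x y := ⟨hy, Or.inl rfl⟩

omit [Finite G] in
theorem not_commute_of_Tb_ne {x y c : G} (hc : c ∈ Tb D y x) (hcx : c ≠ x) : ¬ Commute c x := by
  rcases hc.2 with h | h
  · exact absurd h hcx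
  · exact h.1

omit [Finite G] in
theorem ne_of_Dn_of_not {x c u : G} (hu : u ∈ Dn D x) (hc : ¬ Commute x c) : u ≠ c := by
  rintro rfl; exact hc hu.2.2

theorem split_count {x c u : G} (hc : c ∈ D) (hxc : ¬ Commute x c)
    (hCe : ∀ e ∈ Dn D x, e ∉ Tb D x u → Commute c e) :
    (Dn D x ∩ Dn D c).ncard + (Tb D x u).ncard
      = (Dn D x).ncard + (Tb D x u ∩ Dn D c).ncard := by
  have e : Dn D x ∩ Dn D c = (Dn D x \ Tb D x u) ∪ (Tb D x u ∩ Dn D c) := by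
    ext e
    constructor
    · rintro ⟨h1, h2⟩
      by_cases he : e ∈ Tb D x u
      · exact Or.inr ⟨he, h2⟩
      · exact Or.inl ⟨h1, he⟩
    · rintro (⟨h1, h2⟩ | ⟨h1, h2⟩)
      · exact ⟨h1, h1.1, ne_of_Dn_of_not h1 hxc, hCe e h1 h2⟩
      · exact ⟨h1.1, h2⟩
  have hd : Disjoint (Dn D x \ Tb D x u) (Tb D x u ∩ Dn D c) := by
    rw [Set.disjoint_left]
    rintro e ⟨_, h2⟩ ⟨h3, _⟩
    exact h2 h3
  rw [e, Set.ncard_union_eq hd (Set.toFinite _) (Set.toFinite _)]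
  have := Set.ncard_sdiff_add_ncard_of_subset (s := Tb D x u) (t := Dn D x)
    (fun e he => he.1) (Set.toFinite _)
  omega

theorem upper_count (h : Ctx D) {x c u p : G} (hx : x ∈ D) (hu : u ∈ Dn D x) (hcu : Commute c u)
    (hp : p ∈ Tb D x u) (hcp : ¬ Commute c p) :
    (Tb D x u ∩ Dn D c).ncard + 2 ≤ (Tb D x u).ncard := by
  have huT : u ∈ Tb D x u := self_mem_Tb hu
  have hpu : u ≠ p := by rintro rfl; exact hcp hcu
  have hnc : ¬ Commute u p := not_commute_of_mem_Tb hu huT hp hpu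
  have hq : u * p * u ∈ Tb D x u := line_mem_Tb h hx hu hp huT
  have huu : u * u = 1 := mul_self_of_mem h hu.1
  have hqp : u * p * u ≠ p := by
    intro e
    apply hnc
    show u * p = p * u
    calc u * p = u * p * (u * u) := by rw [huu, mul_one]
      _ = (u * p * u) * u := by group
      _ = p * u := by rw [e]
  have hcq : ¬ Commute c (u * p * u) := by
    intro hc
    apply hcp
    have e : p = u * (u * p * u) * u := by
      calc p = (u * u) * p * (u * u) := by rw [huu]; group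
        _ = u * (u * p * u) * u := by group
    rw [e]
    exact (hcu.mul_right hc).mul_right hcu
  have hsub : (Tb D x u ∩ Dn D c) ∪ {p, u * p * u} ⊆ Tb D x u := by
    rintro e (he | he)
    · exact he.1
    · rcases he with rfl | rfl
      · exact hp
      · exact hq
  have hdis : Disjoint (Tb D x u ∩ Dn D c) {p, u * p * u} := by
    rw [Set.disjoint_left]
    rintro e ⟨_, he⟩ (rfl | rfl)
    · exact hcp he.2.2
    · exact hcq he.2.2
  have h1 := Set.ncard_le_ncard hsub (Set.toFinite _)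
  rw [Set.ncard_union_eq hdis (Set.toFinite _) (Set.toFinite _), Set.ncard_pair hqp.symm] at h1
  exact h1

theorem fiber1_c (h : Ctx D) {x c u p : G} (hx : x ∈ D) (hxc : ¬ Commute x c)
    (hu : u ∈ Dn D x) (hcu : Commute c u) (hp : p ∈ Tb D x u) (hcp : ¬ Commute c p)
    (hCe : ∀ e ∈ Dn D x, e ∉ Tb D x u → Commute c e) :
    {v | v ∈ Dn D x ∧ (Commute c v ∧ ∃ q ∈ Tb D x v, ¬ Commute c q)} = Tb D x u ∩ Dn D c := by
  ext v
  constructor
  · rintro ⟨hv, hcv, q, hq, hcq⟩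
    have hqT : q ∈ Tb D x u := by
      by_contra hn
      exact hcq (hCe q hq.1 hn)
    have e1 : Tb D x q = Tb D x u := Tb_eq_of_mem hu hqT
    have e2 : Tb D x q = Tb D x v := Tb_eq_of_mem hv hq
    refine ⟨?_, hv.1, ne_of_Dn_of_not hv hxc, hcv⟩
    rw [← e1, e2]; exact self_mem_Tb hv
  · rintro ⟨hvT, hvc⟩
    refine ⟨hvT.1, hvc.2.2, p, ?_, hcp⟩
    rw [Tb_eq_of_mem hu hvT]; exact hp

theorem fiber1_u
    (hA : ∀ x ∈ D, ∀ y ∈ Dn D x, ∀ c ∈ Dn D y, ¬ Commute c x → ∀ y' ∈ Tb D x y,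
      ¬ Commute c y' → c ∈ Tb D y x)
    (hB3 : ∀ x ∈ D, ∀ y ∈ Dn D x, ∀ c ∈ Tb D y x, c ≠ x → ∃ p ∈ Tb D x y, ¬ Commute c p)
    {x u : G} (hx : x ∈ D) (hu : u ∈ Dn D x) :
    {c | c ∈ An D x ∧ (Commute c u ∧ ∃ q ∈ Tb D x u, ¬ Commute c q)} = Tb D u x \ {x} := by
  ext c
  constructor
  · rintro ⟨⟨hcD, hxc⟩, hcu, q, hq, hcq⟩
    refine ⟨hA x hx u hu c ⟨hcD, (ne_of_Dn_of_not hu hxc).symm, hcu.symm⟩
      (fun hc => hxc hc.symm) q hq hcq, ?_⟩
    intro hcx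
    rw [Set.mem_singleton_iff] at hcx
    rw [hcx] at hxc
    exact hxc (Commute.refl _)
  · rintro ⟨hcT, hcx⟩
    have hcx' : c ≠ x := hcx
    have hnc := not_commute_of_Tb_ne hcT hcx'
    refine ⟨⟨hcT.1.1, fun hc => hnc hc.symm⟩, hcT.1.2.2.symm, ?_⟩
    obtain ⟨p, hp, hcp⟩ := hB3 x hx u hu c hcT hcx'
    exact ⟨p, hp, hcp⟩

omit [Finite G] in
theorem fiber2_c {x c : G} (hxc : ¬ Commute x c) :
    {v | v ∈ Dn D x ∧ Commute c v} = Dn D x ∩ Dn D c := by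
  ext v
  constructor
  · rintro ⟨hv, hcv⟩
    exact ⟨hv, hv.1, ne_of_Dn_of_not hv hxc, hcv⟩
  · rintro ⟨hv, hvc⟩
    exact ⟨hv, hvc.2.2⟩

theorem fiber2_u {x u : G} (hx : x ∈ D) (hu : u ∈ Dn D x) :
    {c | c ∈ An D x ∧ Commute c u}.ncard + 1 + (Dn D u ∩ Dn D x).ncard = (Dn D u).ncard := by
  have e : Dn D u = ({c | c ∈ An D x ∧ Commute c u} ∪ {x}) ∪ (Dn D u ∩ Dn D x) := by
    ext c
    constructor
    · intro hc
      by_cases hcx : c = x
      · exact Or.inl (Or.inr hcx)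
      · by_cases hxc : Commute x c
        · exact Or.inr ⟨hc, hc.1, hcx, hxc⟩
        · exact Or.inl (Or.inl ⟨⟨hc.1, hxc⟩, hc.2.2.symm⟩)
    · rintro ((⟨⟨hcD, hxc⟩, hcu⟩ | hcx) | ⟨hc, _⟩)
      · exact ⟨hcD, (ne_of_Dn_of_not hu hxc).symm, hcu.symm⟩
      · rw [Set.mem_singleton_iff] at hcx; rw [hcx]; exact Dn_symm hx hu
      · exact hc
  have d1 : Disjoint {c | c ∈ An D x ∧ Commute c u} {x} := by
    rw [Set.disjoint_singleton_right]
    rintro ⟨⟨_, hxc⟩, _⟩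
    exact hxc (Commute.refl _)
  have d2 : Disjoint ({c | c ∈ An D x ∧ Commute c u} ∪ {x}) (Dn D u ∩ Dn D x) := by
    rw [Set.disjoint_left]
    rintro c (⟨⟨_, hxc⟩, _⟩ | hcx) ⟨_, hc2⟩
    · exact hxc hc2.2.2
    · exact hc2.2.1 hcx
  conv_rhs => rw [e]
  rw [Set.ncard_union_eq d2 (Set.toFinite _) (Set.toFinite _),
    Set.ncard_union_eq d1 (Set.toFinite _) (Set.toFinite _), Set.ncard_singleton]

/-- the arithmetic core -/
theorem arith {k t lam l mu r m2 : ℕ} (F1 : mu + t = k + r) (F2 : k * (t - 1) = l * r)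
    (F3 : k * m2 = l * mu) (F4 : m2 + 1 + lam = k) (ht : 3 ≤ t) (hr1 : 1 ≤ r) (hr2 : r + 2 ≤ t)
    (htk : t ≤ k) (hl : 1 ≤ l) : k = t ∧ lam = 0 := by
  have e1 : r * m2 = mu * (t - 1) := by
    have : l * (r * m2) = l * (mu * (t - 1)) := by
      calc l * (r * m2) = (l * r) * m2 := by ring
        _ = k * (t - 1) * m2 := by rw [F2]
        _ = (k * m2) * (t - 1) := by ring
        _ = l * mu * (t - 1) := by rw [F3]
        _ = l * (mu * (t - 1)) := by ring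
    exact Nat.eq_of_mul_eq_mul_left hl this
  obtain ⟨s, rfl⟩ : ∃ s, t = s + 1 := ⟨t - 1, by omega⟩
  obtain ⟨a, rfl⟩ : ∃ a, k = s + 1 + a := ⟨k - (s + 1), by omega⟩
  rw [Nat.add_sub_cancel] at e1
  have hmu : mu = a + r := by omega
  have hm2 : m2 + lam = s + a := by omega
  subst hmu
  have e2 : r * (m2 + lam) = r * (s + a) := by rw [hm2]
  have e3 : a * (r + 1) ≤ a * s := Nat.mul_le_mul_left a (by omega)
  have e4 : a + r * lam ≤ 0 := by nlinarith [e1, e2, e3]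
  have e5 : a = 0 := by omega
  have e6 : r * lam = 0 := by omega
  refine ⟨by omega, ?_⟩
  rcases Nat.mul_eq_zero.mp e6 with h | h
  · omega
  · exact h

theorem main_count (h : Ctx D)
    (hA : ∀ x ∈ D, ∀ y ∈ Dn D x, ∀ c ∈ Dn D y, ¬ Commute c x → ∀ y' ∈ Tb D x y,
      ¬ Commute c y' → c ∈ Tb D y x)
    (hB3 : ∀ x ∈ D, ∀ y ∈ Dn D x, ∀ c ∈ Tb D y x, c ≠ x → ∃ p ∈ Tb D x y, ¬ Commute c p)
    (hC : ∀ d ∈ D, ∀ c ∈ D, ¬ Commute d c → ∃ u ∈ Dn D d, Commute c u ∧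
      (∃ p ∈ Tb D d u, ¬ Commute c p) ∧ (∀ e ∈ Dn D d, e ∉ Tb D d u → Commute c e))
    {x y y' : G} (hx : x ∈ D) (hy : y ∈ Dn D x) (hy' : y' ∈ Tb D x y) (hne : y' ≠ y) :
    ∃ t r : ℕ, 3 ≤ t ∧ 1 ≤ r ∧ r + 2 ≤ t ∧ (∀ d ∈ D, (Dn D d).ncard = t) ∧
      (∀ d ∈ D, ∀ u ∈ Dn D d, ∀ u' ∈ Dn D d, u ≠ u' → ¬ Commute u u') ∧
      (∀ d ∈ D, ∀ c ∈ D, ¬ Commute d c → (Dn D d ∩ Dn D c).ncard = r) := by
  classical
  have ht3 : 3 ≤ (Tb D x y).ncard := three_le_ncard_Tb h hx hy hy' hne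
  have hxy : x ∈ Dn D y := Dn_symm hx hy
  have hyD : y ∈ D := hy.1
  have htyx : (Tb D y x).ncard = (Tb D x y).ncard := ncard_Tb h hyD hxy hx hy
  obtain ⟨c0, hc0T, hc0x⟩ : ∃ c0 ∈ Tb D y x, c0 ≠ x := by
    by_contra hcon
    push Not at hcon
    have h1 : Tb D y x ⊆ {x} := fun c hc => hcon c hc
    have h2 := Set.ncard_le_ncard h1 (Set.toFinite _)
    rw [Set.ncard_singleton] at h2
    omega
  have hc0D : c0 ∈ D := hc0T.1.1
  have hxc0 : ¬ Commute x c0 := fun hc => not_commute_of_Tb_ne hc0T hc0x hc.symm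
  have key : ∀ c ∈ D, ¬ Commute x c → ∃ u ∈ Dn D x,
      (Dn D x ∩ Dn D c).ncard + (Tb D x y).ncard
        = (Dn D x).ncard + (Tb D x u ∩ Dn D c).ncard ∧
      1 ≤ (Tb D x u ∩ Dn D c).ncard ∧ (Tb D x u ∩ Dn D c).ncard + 2 ≤ (Tb D x y).ncard ∧
      {v | v ∈ Dn D x ∧ (Commute c v ∧ ∃ q ∈ Tb D x v, ¬ Commute c q)}
        = Tb D x u ∩ Dn D c := by
    intro c hc hxc
    obtain ⟨u, hu, hcu, ⟨p, hp, hcp⟩, hCe⟩ := hC x hx c hc hxc
    have htu : (Tb D x u).ncard = (Tb D x y).ncard := ncard_Tb h hx hu hx hy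
    refine ⟨u, hu, ?_, ?_, ?_, ?_⟩
    · rw [← htu]; exact split_count hc hxc hCe
    · have hmem : u ∈ Tb D x u ∩ Dn D c :=
        ⟨self_mem_Tb hu, hu.1, ne_of_Dn_of_not hu hxc, hcu⟩
      exact (Set.ncard_pos (Set.toFinite _)).mpr ⟨u, hmem⟩
    · rw [← htu]; exact upper_count h hx hu hcu hp hcp
    · exact fiber1_c h hx hxc hu hcu hp hcp hCe
  obtain ⟨u0, hu0, hs0, hr1, hr2, hf0⟩ := key c0 hc0D hxc0
  have htk : (Tb D x y).ncard ≤ (Dn D x).ncard :=
    Set.ncard_le_ncard (fun e he => he.1) (Set.toFinite _)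
  have hmuc : ∀ c ∈ D, ¬ Commute x c →
      (Dn D x ∩ Dn D c).ncard = (Dn D x ∩ Dn D c0).ncard :=
    fun c hc hxc => ncard_mu h hx hc hxc hx hc0D hxc0
  have C1 : (Dn D x).ncard * ((Tb D x y).ncard - 1)
      = (An D x).ncard * (Tb D x u0 ∩ Dn D c0).ncard := by
    apply double_count (Dn D x) (An D x)
      (fun u c => Commute c u ∧ ∃ q ∈ Tb D x u, ¬ Commute c q)
    · intro u hu
      rw [fiber1_u hA hB3 hx hu,
        Set.ncard_sdiff_singleton_of_mem (self_mem_Tb (Dn_symm hx hu)) ,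
        ncard_Tb h hu.1 (Dn_symm hx hu) hx hy]
    · intro c hc
      obtain ⟨u, hu, hs, _, _, hf⟩ := key c hc.1 hc.2
      rw [hf]
      have := hmuc c hc.1 hc.2
      omega
  have F4 : {c | c ∈ An D x ∧ Commute c y}.ncard + 1 + (Dn D x ∩ Dn D y).ncard
      = (Dn D x).ncard := by
    have e := fiber2_u hx hy
    rw [Set.inter_comm, ncard_Dn h hyD hx] at e
    exact e
  have C2 : (Dn D x).ncard * {c | c ∈ An D x ∧ Commute c y}.ncard
      = (An D x).ncard * (Dn D x ∩ Dn D c0).ncard := by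
    apply double_count (Dn D x) (An D x) (fun u c => Commute c u)
    · intro u hu
      have e := fiber2_u hx hu
      have e1 : (Dn D u).ncard = (Dn D x).ncard := ncard_Dn h hu.1 hx
      have e2 : (Dn D u ∩ Dn D x).ncard = (Dn D x ∩ Dn D y).ncard :=
        ncard_lam h hu.1 (Dn_symm hx hu) hx hy
      omega
    · intro c hc
      rw [fiber2_c hc.2]; exact hmuc c hc.1 hc.2
  have hl : 1 ≤ (An D x).ncard := (Set.ncard_pos (Set.toFinite _)).mpr ⟨c0, hc0D, hxc0⟩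
  obtain ⟨hkt, hlam0⟩ := arith hs0 C1 C2 F4 ht3 hr1 hr2 htk hl
  refine ⟨(Tb D x y).ncard, (Tb D x u0 ∩ Dn D c0).ncard, ht3, hr1, hr2, ?_, ?_, ?_⟩
  · intro d hd
    rw [ncard_Dn h hd hx]; exact hkt
  · intro d hd u hu u' hu' hne' hcomm
    have hsub : Tb D d u ⊆ Dn D d := fun e he => he.1
    have hle : (Dn D d).ncard ≤ (Tb D d u).ncard := by
      rw [ncard_Tb h hd hu hx hy, ncard_Dn h hd hx]; exact hkt.le
    have heq := Set.eq_of_subset_of_ncard_le hsub hle (Set.toFinite _)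
    have hu'T : u' ∈ Tb D d u := by rw [heq]; exact hu'
    rcases hu'T.2 with e | e
    · exact hne' e.symm
    · exact e.1 hcomm.symm
  · intro d hd c hc hdc
    rw [ncard_mu h hd hc hdc hx hc0D hxc0]
    omega

end Cfsg.Agent.Lib.Helper9.Cnt5
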