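import Mathlib
import Cfsg.Prelude
import Cfsg.Agent.Lib.Lead.Tw
import Cfsg.Agent.Lib.Helper9.Blk5A
import Cfsg.Agent.Lib.Helper7.D5w

set_option maxHeartbeats 1600000
set_option autoImplicit false
set_option linter.unusedVariables false
set_option linter.unusedSimpArgs false
set_option linter.unusedSectionVars false
set_option linter.style.longLine false


/-! S1615 piece (P-AB): the lemmas (A), (B1), (B3) on twin blocks. -/

namespace Cfsg.Agent.Lib.Helper9.Cnt5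

open Cfsg Cfsg.Agent.Lib.Lead.Tw Cfsg.Agent.Lib.Helper9.Blk5

variable {G : Type*} [Group G] [Finite G] {D : Set G}

theorem lemA (h : Ctx D) {x y c y' : G} (hx : x ∈ D) (hy : y ∈ Dn D x) (hc : c ∈ Dn D y)
    (hcx : ¬ Commute c x) (hy' : y' ∈ Tb D x y) (hcy' : ¬ Commute c y') : c ∈ Tb D y x := by
  have hyD : y ∈ D := hy.1
  have hcD : c ∈ D := hc.1
  have hy'D : y' ∈ D := hy'.1.1
  have hne : y' ≠ y := by
    rintro rfl
    exact hcy' hc.2.2.symm
  obtain ⟨hyy', htw⟩ : ¬ Commute y' y ∧ Dn D x ∩ Dn D y' = Dn D x ∩ Dn D y := by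
    rcases hy'.2 with e | e
    · exact absurd e hne
    · exact e
  have hxy : x ∈ Dn D y := ⟨hx, fun e => hy.2.1 e.symm, hy.2.2.symm⟩
  have hsub : Dn D y ∩ Dn D x ⊆ Dn D y ∩ Dn D c := by
    rintro u ⟨huy, hux⟩
    refine ⟨huy, huy.1, ?_, ?_⟩
    · rintro rfl
      exact hcx hux.2.2.symm
    · by_contra hcu
      have hu' : u ∈ Dn D x ∩ Dn D y' := by rw [htw]; exact ⟨hux, huy⟩
      obtain ⟨s, hsD, hsx, hsy, hcsx, hcsy, hcsy'⟩ :=
        Cfsg.Agent.Lib.Helper7.D5w.d5_witness h.tset h.conj (x := x) (c := c) (y' := y') (y := y)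
          (u := u) hx hcD hy'D hyD huy.1 hy.2.2 hy'.1.2.2 hc.2.2.symm hux.2.2.symm huy.2.2.symm
          hu'.2.2.2.symm (fun hc' => hcx hc'.symm) hcy' (fun hc' => hyy' hc'.symm)
          (fun hc' => hcu hc'.symm) (fun e => hy.2.1 e.symm) hux.2.1 huy.2.1
      have hs : s ∈ Dn D x ∩ Dn D y' := by
        rw [htw]; exact ⟨⟨hsD, hsx, hcsx.symm⟩, ⟨hsD, hsy, hcsy.symm⟩⟩
      exact hcsy' hs.2.2.2.symm
  have hcard : (Dn D y ∩ Dn D c).ncard ≤ (Dn D y ∩ Dn D x).ncard :=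
    (ncard_lam h hyD hc hyD hxy).le
  have heq := Set.eq_of_subset_of_ncard_le hsub hcard (Set.toFinite _)
  exact ⟨hc, Or.inr ⟨hcx, heq.symm⟩⟩

theorem lemB1 (h : Ctx D) {x y c e : G} (hx : x ∈ D) (hy : y ∈ Dn D x) (hc : c ∈ Tb D y x)
    (hcx : c ≠ x) (he : e ∈ Dn D x) (heT : e ∉ Tb D x y) : Commute c e := by
  have hxy : x ∈ Dn D y := ⟨hx, fun e => hy.2.1 e.symm, hy.2.2.symm⟩
  obtain ⟨hncx, htw⟩ : ¬ Commute c x ∧ Dn D y ∩ Dn D c = Dn D y ∩ Dn D x := by
    rcases hc.2 with e | e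
    · exact absurd e hcx
    · exact e
  have hey : e ≠ y := by
    rintro rfl
    exact heT ⟨he, Or.inl rfl⟩
  by_cases hcey : Commute e y
  · have : e ∈ Dn D y ∩ Dn D c := by
      rw [htw]; exact ⟨⟨he.1, hey, hcey.symm⟩, he⟩
    exact this.2.2.2
  · by_contra hce
    exact heT (lemA h hy.1 hxy he hcey hc (fun hc' => hce hc'.symm))

theorem lemB3 (h : Ctx D) {x y c : G} (hx : x ∈ D) (hy : y ∈ Dn D x) (hc : c ∈ Tb D y x)
    (hcx : c ≠ x) : ∃ p ∈ Tb D x y, ¬ Commute c p := by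
  by_contra hcon
  push Not at hcon
  have hncx : ¬ Commute c x := by
    rcases hc.2 with e | e
    · exact absurd e hcx
    · exact e.1
  have hcD : c ∈ D := hc.1.1
  have hall : ∀ e ∈ Dn D x, Commute c e := by
    intro e he
    by_cases heT : e ∈ Tb D x y
    · exact hcon e heT
    · exact lemB1 h hx hy hc hcx he heT
  have hsub : Dn D x ⊆ Dn D c := by
    intro e he
    refine ⟨he.1, ?_, hall e he⟩
    rintro rfl
    exact hncx he.2.2.symm
  have hcard : (Dn D c).ncard ≤ (Dn D x).ncard := (ncard_Dn h hcD hx).le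
  have heq := Set.eq_of_subset_of_ncard_le hsub hcard (Set.toFinite _)
  exact hcx (h.noTwin x hx c hcD heq).symm

end Cfsg.Agent.Lib.Helper9.Cnt5
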