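import Mathlib
import Cfsg.Prelude
import Cfsg.Agent.Lib.Lead.Tw
import Cfsg.Agent.Lib.Helper9.Blk5A

set_option maxHeartbeats 1600000
set_option autoImplicit false
set_option linter.unusedVariables false
set_option linter.unusedSimpArgs false
set_option linter.unusedSectionVars false
set_option linter.style.longLine false


/-! S1615 piece (P-C): transport of the good witness to all non-commuting pairs. -/

namespace Cfsg.Agent.Lib.Helper9.Cnt5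

open Cfsg Cfsg.Agent.Lib.Lead.Tw Cfsg.Agent.Lib.Helper9.Blk5

variable {G : Type*} [Group G] {D : Set G}

/-- the property transported in (P-C) -/
def Good (D : Set G) (d c : G) : Prop :=
  ∃ u ∈ Dn D d, Commute c u ∧ (∃ p ∈ Tb D d u, ¬ Commute c p) ∧
    (∀ e ∈ Dn D d, e ∉ Tb D d u → Commute c e)

theorem Good_conj (h : Ctx D) (g : G) {d c : G} (hg : Good D d c) :
    Good D (g * d * g⁻¹) (g * c * g⁻¹) := by
  obtain ⟨u, hu, hcu, ⟨p, hp, hcp⟩, hall⟩ := hg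
  refine ⟨g * u * g⁻¹, Dn_conj h g hu, commute_conj g hcu,
    ⟨g * p * g⁻¹, Tb_conj h g hp, fun hc => hcp (commute_of_conj g hc)⟩, ?_⟩
  intro e he heT
  have e1 : g⁻¹ * (g * d * g⁻¹) * g⁻¹⁻¹ = d := by group
  have e2 : g * (g⁻¹ * e * g⁻¹⁻¹) * g⁻¹ = e := by group
  have he0 : g⁻¹ * e * g⁻¹⁻¹ ∈ Dn D d := by
    have := Dn_conj h g⁻¹ he
    rwa [e1] at this
  have hn0 : g⁻¹ * e * g⁻¹⁻¹ ∉ Tb D d u := by
    intro hmem
    have := Tb_conj h g hmem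
    rw [e2] at this
    exact heT this
  have := commute_conj g (hall _ he0 hn0)
  rwa [e2] at this

theorem lemC [Finite G] (h : Ctx D)
    (hB1 : ∀ x ∈ D, ∀ y ∈ Dn D x, ∀ c ∈ Tb D y x, c ≠ x → ∀ e ∈ Dn D x, e ∉ Tb D x y →
      Commute c e)
    (hB3 : ∀ x ∈ D, ∀ y ∈ Dn D x, ∀ c ∈ Tb D y x, c ≠ x → ∃ p ∈ Tb D x y, ¬ Commute c p)
    {x y y' : G} (hx : x ∈ D) (hy : y ∈ Dn D x) (hy' : y' ∈ Tb D x y) (hne : y' ≠ y) :
    ∀ d ∈ D, ∀ c ∈ D, ¬ Commute d c → ∃ u ∈ Dn D d, Commute c u ∧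
      (∃ p ∈ Tb D d u, ¬ Commute c p) ∧ (∀ e ∈ Dn D d, e ∉ Tb D d u → Commute c e) := by
  have ht3 : 3 ≤ (Tb D x y).ncard := three_le_ncard_Tb h hx hy hy' hne
  have hxy : x ∈ Dn D y := ⟨hx, fun e => hy.2.1 e.symm, hy.2.2.symm⟩
  have hyD : y ∈ D := hy.1
  have htyx : (Tb D y x).ncard = (Tb D x y).ncard := ncard_Tb h hyD hxy hx hy
  obtain ⟨c0, hc0T, hc0x⟩ : ∃ c0 ∈ Tb D y x, c0 ≠ x := by
    by_contra hcon
    push Not at hcon
    have h1 : Tb D y x ⊆ {x} := fun c hc => hcon c hc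
    have h2 := Set.ncard_le_ncard h1 (Set.toFinite _)
    rw [Set.ncard_singleton] at h2
    omega
  have hc0D : c0 ∈ D := hc0T.1.1
  have hc0x' : ¬ Commute c0 x := by
    rcases hc0T.2 with e | e
    · exact absurd e hc0x
    · exact e.1
  have hxc0 : ¬ Commute x c0 := fun hc => hc0x' hc.symm
  have g0 : Good D x c0 :=
    ⟨y, hy, hc0T.1.2.2.symm, hB3 x hx y hy c0 hc0T hc0x, hB1 x hx y hy c0 hc0T hc0x⟩
  intro d hd c hc hdc
  obtain ⟨g, hg⟩ := h.tr x hx d hd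
  have g1 : Good D d (g * c0 * g⁻¹) := by
    have := Good_conj h g g0
    rwa [hg] at this
  have hc1D : g * c0 * g⁻¹ ∈ D := h.conj g c0 hc0D
  have hdc1 : ¬ Commute d (g * c0 * g⁻¹) := by
    rw [← hg]
    exact fun hcm => hxc0 (commute_of_conj g hcm)
  obtain ⟨g', hg'd, hg'c⟩ := h.trA d hd _ hc1D c hc hdc1 hdc
  have hd' : g' * d * g'⁻¹ = d := by
    rw [hg'd.eq, mul_assoc, mul_inv_cancel, mul_one]
  have g2 := Good_conj h g' g1
  rw [hd', hg'c] at g2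
  exact g2

end Cfsg.Agent.Lib.Helper9.Cnt5
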