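import Cfsg.Agent.Lib.Helper9.M24V3
import Cfsg.Agent.Lib.Helper9.Chain5

set_option autoImplicit false

namespace Cfsg.Agent.Lib.Helper9.M24Y5

open Cfsg Finset Cfsg.Agent.Lib.Helper9.Golay1 Cfsg.Agent.Lib.Helper9.GolayQR1
  Cfsg.Agent.Lib.Helper9.GolayQR5 Cfsg.Agent.Lib.Helper9.GolayQR6
  Cfsg.Agent.Lib.Helper9.M24T1 Cfsg.Agent.Lib.Helper9.M24T4 Cfsg.Agent.Lib.Helper9.M24T6
  Cfsg.Agent.Lib.Helper9.M24V2 Cfsg.Agent.Lib.Helper9.M24V3 Cfsg.Agent.Lib.Helper9.Chain5
  Cfsg.Agent.Lib.Helper9.Steiner4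
open scoped Pointwise

/-- the order of an octad stabilizer -/
theorem card_stabilizer_octad (o : Finset GolayPt) (ho : o ∈ octads) :
    Nat.card (MulAction.stabilizer M24 o) = 322560 := by
  have h := ncard_orbit_mul_card_stabilizer (G := M24) o
  rw [orbit_octad o ho, card_octads, card_M24] at h
  omega

/-- the orbit of an octad under the stabilizer of another -/
theorem orbit_stab_octad (o o' : Finset GolayPt) (ho : o ∈ octads) (ho' : o' ∈ octads) :
    MulAction.orbit (MulAction.stabilizer M24 o) o' =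
      {x | x ∈ octads ∧ (x ∩ o).card = (o' ∩ o).card} := by
  ext x
  constructor
  · rintro ⟨k, rfl⟩
    have hk : k.1.1 • o = o := MulAction.mem_stabilizer_iff.mp k.2
    obtain ⟨g, hg⟩ : ∃ g : Equiv.Perm GolayPt, g = k.1.1 := ⟨_, rfl⟩
    refine ⟨smul_octad_mem k.1.1 k.1.2 o' ho', ?_⟩
    change (k.1.1 • o' ∩ o).card = _
    rw [← hg] at hk ⊢
    have := M24V2.card_smul_inter g o' o
    rw [hk] at this
    exact this
  · rintro ⟨hx, hk⟩
    obtain ⟨g, hg, hgo, hgx⟩ := octad_orbits o o' x ho ho' hx (by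
      rw [inter_comm o o', inter_comm o x, hk])
    exact ⟨⟨⟨g, hg⟩, MulAction.mem_stabilizer_iff.mpr hgo⟩, hgx⟩

theorem two_octads (o o' : Finset GolayPt) (ho : o ∈ octads) (ho' : o' ∈ octads) :
    ((o ∩ o').card = 0 → Nat.card ↥(MulAction.stabilizer M24 o ⊓ MulAction.stabilizer M24 o')
      = 10752) ∧
    ((o ∩ o').card = 4 → Nat.card ↥(MulAction.stabilizer M24 o ⊓ MulAction.stabilizer M24 o')
      = 1152) ∧
    ((o ∩ o').card = 2 → Nat.card ↥(MulAction.stabilizer M24 o ⊓ MulAction.stabilizer M24 o')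
      = 720) := by
  classical
  obtain ⟨Bf, hBf⟩ := Cfsg.Agent.Lib.Helper9.GolayQR8.exists_octads_finset
  have hB : IsSteinerSystem 5 8 (Bf : Set (Finset GolayPt)) := by
    rw [hBf]; exact octads_isSteiner
  have hBmem : ∀ b, b ∈ Bf ↔ b ∈ octads := fun b => by rw [← hBf]; exact Iff.rfl
  obtain ⟨n0, -, n2, -, n4⟩ := inter_distribution card_golayPt Bf hB o ((hBmem o).mpr ho)
  have h := ncard_orbit_mul_card_inf (G := M24) o o'
  rw [card_stabilizer_octad o ho, orbit_stab_octad o o' ho ho'] at h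
  have hset : ∀ k, {x | x ∈ octads ∧ (x ∩ o).card = k}.ncard
      = (Bf.filter (fun c => (c ∩ o).card = k)).card := by
    intro k
    rw [← Set.ncard_coe_finset]
    congr 1
    ext x
    rw [mem_coe, mem_filter, hBmem]
    rfl
  rw [inter_comm o' o, hset] at h
  refine ⟨fun hk => ?_, fun hk => ?_, fun hk => ?_⟩
  · rw [hk, n0] at h; omega
  · rw [hk, n4] at h; omega
  · rw [hk, n2] at h; omega

end Cfsg.Agent.Lib.Helper9.M24Y5
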