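import Cfsg.Agent.Lib.Helper9.LeechY1
import Cfsg.Agent.Lib.Helper9.M24Y5

set_option autoImplicit false
set_option maxRecDepth 1000000

/-! The centraliser in `Co0` of the sign change on the standard octad: the vectors of sum of
squares 64 supported on the octad. -/

namespace Cfsg.Agent.Lib.Helper9.Co1a

open scoped Pointwise
open Cfsg Finset Cfsg.Agent.Lib.Helper4.Leech Cfsg.Agent.Lib.Helper9.LeechC7
  Cfsg.Agent.Lib.Helper9.LeechM1 Cfsg.Agent.Lib.Helper9.LeechM2 Cfsg.Agent.Lib.Helper9.LeechM4
  Cfsg.Agent.Lib.Helper9.LeechC2 Cfsg.Agent.Lib.Helper9.LeechX5 Cfsg.Agent.Lib.Helper9.LeechX7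
  Cfsg.Agent.Lib.Helper9.M24T8 Cfsg.Agent.Lib.Helper9.M24T3 Cfsg.Agent.Lib.Helper9.M24U1
  Cfsg.Agent.Lib.Helper9.Golay1

theorem O8_code : O8 ∈ Code := mask_mem_Code oMask (by decide +kernel)

/-- the sign change on the standard octad -/
def e0 : ↥Co0 := ⟨eps O8 O8_code, eps_mem O8 O8_code⟩

/-- its centraliser -/
def Ct : Subgroup ↥Co0 := Subgroup.centralizer {e0}

theorem mem_Ct (g : ↥Co0) : g ∈ Ct ↔ e0 * g = g * e0 := by
  unfold Ct
  rw [Subgroup.mem_centralizer_iff]
  simp

theorem Ct_apply {g : ↥Co0} (hg : g ∈ Ct) (v : leechLattice) : e0.1 (g.1 v) = g.1 (e0.1 v) := by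
  have h := (mem_Ct g).mp hg
  have := congrArg (fun x : ↥Co0 => x.1 v) h
  exact this

/-- the vectors supported on the octad -/
def InO (v : leechLattice) : Prop := ∀ i, i ∉ O8 → v.1 i = 0

theorem inO_iff (v : leechLattice) : InO v ↔ e0.1 v = -v := by
  constructor
  · intro h
    apply Subtype.ext
    funext i
    show (if i ∈ O8 then -v.1 i else v.1 i) = -v.1 i
    by_cases hi : i ∈ O8
    · rw [if_pos hi]
    · rw [if_neg hi, h i hi]; rfl
  · intro h i hi
    have h1 := congrFun (congrArg Subtype.val h) i
    have h2 : (e0.1 v).1 i = v.1 i := by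
      show (if i ∈ O8 then -v.1 i else v.1 i) = v.1 i
      rw [if_neg hi]
    rw [h2] at h1
    have h3 : (-v).1 i = -v.1 i := rfl
    rw [h3] at h1
    omega

theorem inO_smul {g : ↥Co0} (hg : g ∈ Ct) {v : leechLattice} (hv : InO v) : InO (g.1 v) := by
  rw [inO_iff] at hv ⊢
  rw [Ct_apply hg, hv]
  exact map_neg (toHom g.1 g.2) v

/-! ### enumeration of the candidates -/

def vals0 : List ℤ := [-8, -4, 0, 4, 8]
def vals2 : List ℤ := [-6, -2, 2, 6]

/-- lists of given length with entries in `vals` and given sum of squares -/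
def gen (vals : List ℤ) : ℕ → ℤ → List (List ℤ)
  | 0, B => if B = 0 then [[]] else []
  | n + 1, B => vals.flatMap fun a =>
      if a * a ≤ B then (gen vals n (B - a * a)).map (a :: ·) else []

theorem sq_sum_nonneg (l : List ℤ) : 0 ≤ (l.map fun a => a * a).sum := by
  induction l with
  | nil => simp
  | cons a l ih =>
    rw [List.map_cons, List.sum_cons]
    have := mul_self_nonneg a
    omega

theorem mem_gen (vals : List ℤ) : ∀ (n : ℕ) (B : ℤ) (l : List ℤ), l.length = n →
    (∀ a ∈ l, a ∈ vals) → (l.map fun a => a * a).sum = B → l ∈ gen vals n B := by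
  intro n
  induction n with
  | zero =>
    intro B l hl _ hs
    rw [List.length_eq_zero_iff] at hl
    subst hl
    simp at hs
    subst hs
    simp [gen]
  | succ n ih =>
    intro B l hl hv hs
    match l, hl, hv, hs with
    | a :: l, hl, hv, hs =>
      rw [List.map_cons, List.sum_cons] at hs
      have h0 := sq_sum_nonneg l
      unfold gen
      rw [List.mem_flatMap]
      refine ⟨a, hv a List.mem_cons_self, ?_⟩
      rw [if_pos (by omega)]
      rw [List.mem_map]
      refine ⟨l, ih (B - a * a) l (by simpa using hl)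
        (fun b hb => hv b (List.mem_cons_of_mem _ hb)) (by omega), rfl⟩

/-- the candidates -/
def cands : List (List ℤ) :=
  gen vals0 8 64 ++ (gen vals2 8 64).filter fun l => decide (l.sum % 8 = 0)

theorem cands_length : cands.length = 2160 := by decide +kernel

/-! ### the vectors of sum of squares 64 supported on the octad -/

/-- vectors of sum of squares 64 supported on the octad -/
def T4 : Set leechLattice := {v | InO v ∧ sqNorm v.1 = 64}

/-- the entries on the octad -/
def tup (v : leechLattice) : List ℤ := L8.map v.1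

theorem O8_eq_toFinset : O8 = L8.toFinset := by
  ext p
  rw [mem_O8, List.mem_toFinset]

theorem L8_nodup : L8.Nodup := by decide

theorem card_O8 : O8.card = 8 := by
  rw [O8_eq_toFinset, List.toFinset_card_of_nodup L8_nodup]
  rfl

theorem sum_O8 (f : GolayPt → ℤ) (h : ∀ i, i ∉ O8 → f i = 0) : ∑ i, f i = (L8.map f).sum := by
  rw [← List.sum_toFinset f L8_nodup, ← O8_eq_toFinset]
  symm
  apply Finset.sum_subset (Finset.subset_univ _)
  intro i _ hi
  exact h i hi

theorem tup_mem {v : leechLattice} (hv : v ∈ T4) : tup v ∈ cands := by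
  obtain ⟨hO, hn⟩ := hv
  have hx' := (mem_leechLattice_iff v.1).mp v.2
  obtain ⟨hμ, -, hx4, hsum⟩ := fwd hx'
  have hb := abs_bound v.1 64 (le_refl _) hn
  have h4 : v.1 (some 4) = 0 := hO (some 4) (by rw [mem_O8]; decide)
  have hp : par v.1 = 0 := by
    have := hx4 (some 4)
    rw [h4] at this
    rcases hμ with h | h
    · exact h
    · rw [h] at this
      split_ifs at this <;> omega
  have hsub : cl v.1 ⊆ O8 := by
    intro i hi
    by_contra hiO
    have := hx4 i
    rw [hO i hiO, if_pos hi, hp] at this
    omega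
  have hsq : ((tup v).map fun a => a * a).sum = 64 := by
    unfold tup
    rw [List.map_map]
    have e : ((fun a : ℤ => a * a) ∘ v.1) = fun i => v.1 i * v.1 i := rfl
    rw [e, ← sum_O8 (fun i => v.1 i * v.1 i) (fun i hi => by rw [hO i hi]; ring), ← hn]
    unfold sqNorm
    apply Finset.sum_congr rfl
    intro i _
    ring
  have hlen : (tup v).length = 8 := by
    unfold tup
    rw [List.length_map]
    rfl
  have hcard : (cl v.1).card = 0 ∨ (cl v.1).card = 8 := by
    have h1 := card_cl_cases v.1 hx'
    have h2 := Finset.card_le_card hsub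
    rw [card_O8] at h2
    omega
  unfold cands
  rw [List.mem_append]
  rcases hcard with h0 | h8
  · left
    rw [Finset.card_eq_zero] at h0
    apply mem_gen vals0 8 64 _ hlen _ hsq
    intro a ha
    unfold tup at ha
    obtain ⟨p, -, rfl⟩ := List.mem_map.mp ha
    have h1 := hx4 p
    rw [h0, hp] at h1
    simp only [Finset.notMem_empty, if_false] at h1
    have h2 := abs_le.mp (hb p)
    simp only [vals0, List.mem_cons, List.not_mem_nil, or_false]
    omega
  · right
    have hcl : cl v.1 = O8 := Finset.eq_of_subset_of_card_le hsub (by rw [card_O8, h8])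
    rw [List.mem_filter]
    constructor
    · apply mem_gen vals2 8 64 _ hlen _ hsq
      intro a ha
      unfold tup at ha
      obtain ⟨p, hpL, rfl⟩ := List.mem_map.mp ha
      have h1 := hx4 p
      rw [hcl, hp, if_pos ((mem_O8 p).mpr hpL)] at h1
      have h2 := abs_le.mp (hb p)
      simp only [vals2, List.mem_cons, List.not_mem_nil, or_false]
      omega
    · rw [decide_eq_true_eq]
      unfold tup
      rw [← sum_O8 v.1 hO, hsum, hp]
      norm_num

theorem tup_inj {v w : leechLattice} (hv : v ∈ T4) (hw : w ∈ T4) (h : tup v = tup w) : v = w := by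
  apply Subtype.ext
  funext i
  by_cases hi : i ∈ O8
  · exact List.map_inj_left.mp h i ((mem_O8 i).mp hi)
  · rw [hv.1 i hi, hw.1 i hi]

theorem T4_finite : T4.Finite := by
  apply Set.Finite.of_injOn (f := tup) (t := (↑cands.toFinset : Set (List ℤ)))
  · intro v hv
    rw [Finset.mem_coe, List.mem_toFinset]
    exact tup_mem hv
  · intro v hv w hw h
    exact tup_inj hv hw h
  · exact Finset.finite_toSet _

theorem ncard_T4_le : T4.ncard ≤ 2160 := by
  have h1 : T4.ncard ≤ (↑cands.toFinset : Set (List ℤ)).ncard := by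
    apply Set.ncard_le_ncard_of_injOn tup
    · intro v hv
      rw [Finset.mem_coe, List.mem_toFinset]
      exact tup_mem hv
    · intro v hv w hw h
      exact tup_inj hv hw h
  rw [Set.ncard_coe_finset] at h1
  have h2 := List.toFinset_card_le cands
  rw [cands_length] at h2
  omega

end Cfsg.Agent.Lib.Helper9.Co1a
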