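import Cfsg.Agent.Lib.Helper9.Co1a

set_option autoImplicit false
set_option maxRecDepth 1000000

/-! The order of the centraliser in `Co0` of the sign change on the standard octad is at most
`2160 * 40320 * 2048`. -/

namespace Cfsg.Agent.Lib.Helper9.Co1b

open scoped Pointwise
open Cfsg Finset Cfsg.Agent.Lib.Helper4.Leech Cfsg.Agent.Lib.Helper9.LeechC7
  Cfsg.Agent.Lib.Helper9.LeechM1 Cfsg.Agent.Lib.Helper9.LeechM2 Cfsg.Agent.Lib.Helper9.LeechM4
  Cfsg.Agent.Lib.Helper9.LeechC2 Cfsg.Agent.Lib.Helper9.LeechX5 Cfsg.Agent.Lib.Helper9.LeechX7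
  Cfsg.Agent.Lib.Helper9.M24T8 Cfsg.Agent.Lib.Helper9.M24T3 Cfsg.Agent.Lib.Helper9.M24U1
  Cfsg.Agent.Lib.Helper9.Golay1 Cfsg.Agent.Lib.Helper9.Co1a Cfsg.Agent.Lib.Helper9.Chain5

theorem finite_Co0 : Finite ↥Co0 := by
  apply Nat.finite_of_card_ne_zero
  rw [Cfsg.Agent.Lib.Helper9.LeechX12.card_Co0]
  norm_num

instance : Finite ↥Co0 := finite_Co0

/-! ### codewords avoiding the point at infinity -/

theorem compl_mem_Code {c : Finset GolayPt} (hc : c ∈ Code) : cᶜ ∈ Code := by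
  rw [Cfsg.Agent.Lib.Helper9.LeechX6.mem_Code_iff] at hc ⊢
  rw [ind_compl]
  exact golayCode.add_mem one_mem_golay hc

/-- the codewords avoiding the point at infinity -/
def CodeN : Set (Finset GolayPt) := {c | c ∈ Code ∧ (none : GolayPt) ∉ c}

theorem ncard_CodeN : CodeN.ncard = 2048 := by
  have hA : (Code : Set (Finset GolayPt)) = CodeN ∪ compl '' CodeN := by
    ext c
    constructor
    · intro hc
      by_cases hn : (none : GolayPt) ∈ c
      · right
        refine ⟨cᶜ, ⟨compl_mem_Code hc, ?_⟩, compl_compl c⟩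
        rw [Finset.mem_compl]
        exact fun h => h hn
      · left
        exact ⟨hc, hn⟩
    · rintro (⟨hc, -⟩ | ⟨c', ⟨hc', -⟩, rfl⟩)
      · exact hc
      · exact compl_mem_Code hc'
  have hd : Disjoint CodeN (compl '' CodeN) := by
    rw [Set.disjoint_left]
    rintro c ⟨-, hn⟩ ⟨c', ⟨-, hn'⟩, rfl⟩
    exact hn (Finset.mem_compl.mpr hn')
  have h1 := Set.ncard_union_eq hd (Set.toFinite _) (Set.toFinite _)
  rw [← hA, Set.ncard_image_of_injective _ compl_injective] at h1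
  have h2 : (Code : Set (Finset GolayPt)).ncard = 4096 := by
    rw [← Nat.card_coe_set_eq]
    exact card_Code
  omega

/-! ### the stabiliser of the octad and the point at infinity in `M24` -/

/-- the stabiliser of the octad and of the point at infinity -/
def StabOI : Set (Equiv.Perm GolayPt) := {σ | σ ∈ M24 ∧ σ • O8 = O8 ∧ σ none = none}

theorem ncard_StabOI_le : StabOI.ncard ≤ 40320 := by
  have hA := Cfsg.Agent.Lib.Helper9.M24Y5.card_stabilizer_octad O8 O8_mem
  have horb := ncard_orbit_mul_card_stabilizer (G := ↥(MulAction.stabilizer ↥M24 O8))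
    (none : GolayPt)
  rw [hA] at horb
  have h8 : 8 ≤ (MulAction.orbit ↥(MulAction.stabilizer ↥M24 O8) (none : GolayPt)).ncard := by
    rw [← card_O8, ← Set.ncard_coe_finset]
    apply Set.ncard_le_ncard _ (Set.toFinite _)
    intro p hp
    rw [Finset.mem_coe] at hp
    obtain ⟨t, ht, hto, htp⟩ := Cfsg.Agent.Lib.Helper9.M24X1.exists_std_flag p O8 O8_mem hp
    have hti : (⟨t⁻¹, M24.inv_mem ht⟩ : ↥M24) ∈ MulAction.stabilizer ↥M24 O8 := by
      rw [MulAction.mem_stabilizer_iff]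
      show t⁻¹ • O8 = O8
      rw [inv_smul_eq_iff, hto]
    refine ⟨⟨⟨t⁻¹, M24.inv_mem ht⟩, hti⟩, ?_⟩
    show t⁻¹ none = p
    rw [← htp]
    exact t.symm_apply_apply p
  have hS : Nat.card ↥(MulAction.stabilizer ↥(MulAction.stabilizer ↥M24 O8) (none : GolayPt))
      ≤ 40320 := by
    by_contra hlt
    push Not at hlt
    have : 8 * 40321 ≤ (MulAction.orbit ↥(MulAction.stabilizer ↥M24 O8) (none : GolayPt)).ncard
        * Nat.card ↥(MulAction.stabilizer ↥(MulAction.stabilizer ↥M24 O8) (none : GolayPt)) :=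
      Nat.mul_le_mul h8 hlt
    omega
  refine le_trans ?_ hS
  rw [← Nat.card_coe_set_eq]
  apply Nat.card_le_card_of_injective
    (fun σ : ↥StabOI => (⟨⟨⟨σ.1, σ.2.1⟩, MulAction.mem_stabilizer_iff.mpr σ.2.2.1⟩,
      MulAction.mem_stabilizer_iff.mpr σ.2.2.2⟩ :
      ↥(MulAction.stabilizer ↥(MulAction.stabilizer ↥M24 O8) (none : GolayPt))))
  intro σ τ h
  apply Subtype.ext
  exact congrArg (fun k : ↥(MulAction.stabilizer ↥(MulAction.stabilizer ↥M24 O8)
    (none : GolayPt)) => k.1.1.1) h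

/-! ### the stabiliser of `8 e_∞` in the centraliser -/

theorem none_mem_O8 : (none : GolayPt) ∈ O8 := by rw [mem_O8]; decide

theorem inO_E {i : GolayPt} (hi : i ∈ O8) : InO (E i) := by
  intro j hj
  rw [E_val, Pi.single_eq_of_ne]
  rintro rfl
  exact hj hi

/-- the data of a monomial element of the centraliser fixing `8 e_∞` -/
theorem stab_data (g : ↥Co0) (hg : g ∈ Ct) (hfix : g.1 (E none) = E none) :
    ∃ (σ : Equiv.Perm GolayPt) (hσ : σ ∈ M24) (c : Finset GolayPt) (hc : c ∈ Code),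
      g.1 = mono σ hσ c hc ∧ σ ∈ StabOI ∧ c ∈ CodeN := by
  have hP : P ((1 : ↥Co0)⁻¹ * g) := Cfsg.Agent.Lib.Helper9.LeechX12.P_of_cong g 1 (by
    show Cfsg.Agent.Lib.Helper9.LeechC8.mk (g.1 (E none)).1
      = Cfsg.Agent.Lib.Helper9.LeechC8.mk ((1 : ↥Co0).1 (E none)).1
    rw [hfix]
    rfl)
  rw [inv_one, one_mul] at hP
  obtain ⟨σ, hσ, c, hc, e⟩ := mono_of_P g hP
  refine ⟨σ, hσ, c, hc, e, ?_, ?_⟩
  · have h1 : (g.1 (E none)).1 = Pi.single (σ none) (if σ none ∈ c then -8 else 8) := by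
      rw [e]; exact mono_E σ hσ c hc none
    rw [hfix, E_val] at h1
    have h2 := single_inj (by norm_num) h1
    refine ⟨hσ, ?_, h2.1.symm⟩
    apply Finset.eq_of_subset_of_card_le
    · intro x hx
      obtain ⟨i, hi, rfl⟩ := Finset.mem_smul_finset.mp hx
      have h3 := inO_smul hg (inO_E hi)
      by_contra hx'
      have h4 := h3 (σ i) hx'
      rw [e, mono_E, Pi.single_eq_same] at h4
      split_ifs at h4 <;> omega
    · rw [Finset.card_smul_finset]
  · have h1 : (g.1 (E none)).1 = Pi.single (σ none) (if σ none ∈ c then -8 else 8) := by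
      rw [e]; exact mono_E σ hσ c hc none
    rw [hfix, E_val] at h1
    have h2 := single_inj (by norm_num) h1
    refine ⟨hc, ?_⟩
    intro hn
    have h3 := h2.2
    rw [← h2.1, if_pos hn] at h3
    omega

theorem card_stab_le :
    Nat.card ↥(MulAction.stabilizer ↥Ct (E none)) ≤ 40320 * 2048 := by
  classical
  have hd : ∀ k : ↥(MulAction.stabilizer ↥Ct (E none)),
      ∃ p : Equiv.Perm GolayPt × Finset GolayPt, p.1 ∈ StabOI ∧ p.2 ∈ CodeN ∧
        ∃ (hσ : p.1 ∈ M24) (hc : p.2 ∈ Code), k.1.1.1 = mono p.1 hσ p.2 hc := by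
    intro k
    have hk : k.1.1.1 (E none) = E none := MulAction.mem_stabilizer_iff.mp k.2
    obtain ⟨σ, hσ, c, hc, e, h1, h2⟩ := stab_data k.1.1 k.1.2 hk
    exact ⟨(σ, c), h1, h2, hσ, hc, e⟩
  choose Φ hΦ1 hΦ2 hΦ3 using hd
  have hinj : Function.Injective
      (fun k => (⟨Φ k, ⟨hΦ1 k, hΦ2 k⟩⟩ : ↥(StabOI ×ˢ CodeN))) := by
    intro k k' h
    have h' : Φ k = Φ k' := congrArg Subtype.val h
    obtain ⟨hσ, hc, e⟩ := hΦ3 k
    obtain ⟨hσ', hc', e'⟩ := hΦ3 k'
    apply Subtype.ext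
    apply Subtype.ext
    apply Subtype.ext
    rw [e, e']
    congr 1
    · rw [h']
    · rw [h']
  have h1 := Nat.card_le_card_of_injective _ hinj
  rw [Nat.card_coe_set_eq, Set.ncard_prod, ncard_CodeN] at h1
  have h2 := ncard_StabOI_le
  calc Nat.card ↥(MulAction.stabilizer ↥Ct (E none)) ≤ StabOI.ncard * 2048 := h1
    _ ≤ 40320 * 2048 := Nat.mul_le_mul_right _ h2

/-- the bound for the order of the centraliser -/
theorem card_Ct_le : Nat.card ↥Ct ≤ 178362777600 := by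
  have horb := ncard_orbit_mul_card_stabilizer (G := ↥Ct) (E none)
  have h1 : (MulAction.orbit ↥Ct (E none)).ncard ≤ 2160 := by
    refine le_trans (Set.ncard_le_ncard ?_ T4_finite) ncard_T4_le
    rintro _ ⟨k, rfl⟩
    refine ⟨inO_smul k.2 (inO_E none_mem_O8), ?_⟩
    show sqNorm (k.1.1 (E none)).1 = 64
    rw [k.1.2.2 (E none)]
    exact sqNorm_E none
  have h2 := card_stab_le
  calc Nat.card ↥Ct = (MulAction.orbit ↥Ct (E none)).ncard
        * Nat.card ↥(MulAction.stabilizer ↥Ct (E none)) := horb.symm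
    _ ≤ 2160 * (40320 * 2048) := Nat.mul_le_mul h1 h2
    _ = 178362777600 := by norm_num

end Cfsg.Agent.Lib.Helper9.Co1b
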