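import Cfsg.Agent.Lib.Helper9.Co1c
import Cfsg.Agent.Lib.Helper4.O82pMain
import Cfsg.Agent.Lib.Helper4.RepLib

set_option autoImplicit false
set_option maxHeartbeats 0
set_option maxRecDepth 1000000
set_option Elab.async false

/-! The homomorphism from helper4's presented group `PO82p.P.Grp` (`Ω₈⁺(2)`) to `Ct ⧸ Qt` is
injective. -/

namespace Cfsg.Agent.Lib.Helper9.Co1d

open scoped Pointwise
open Cfsg Finset Cfsg.Agent.Lib.Helper4.Leech Cfsg.Agent.Lib.Helper9.LeechC7
  Cfsg.Agent.Lib.Helper9.LeechM1 Cfsg.Agent.Lib.Helper9.LeechM2 Cfsg.Agent.Lib.Helper9.LeechM4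
  Cfsg.Agent.Lib.Helper9.LeechX4 Cfsg.Agent.Lib.Helper9.LeechX7
  Cfsg.Agent.Lib.Helper9.M24T8 Cfsg.Agent.Lib.Helper9.M24T3 Cfsg.Agent.Lib.Helper9.M24U1
  Cfsg.Agent.Lib.Helper9.M24T1 Cfsg.Agent.Lib.Helper9.GolayQR1
  Cfsg.Agent.Lib.Helper9.OrbCert1 Cfsg.Agent.Lib.Helper9.OrbCert3
  Cfsg.Agent.Lib.Helper9.Co1a Cfsg.Agent.Lib.Helper9.Co1b Cfsg.Agent.Lib.Helper9.Co1c
  Cfsg.Agent.Lib.Helper4.TC Cfsg.Agent.Lib.Helper4.TC.Log

/-- the images of the six letters in the quotient -/
noncomputable def gQ (l : ℕ) : ↥Ct ⧸ Qt := QuotientGroup.mk (wordP G (lw l))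

theorem wordP_gQ (L : List ℕ) : wordP gQ L = QuotientGroup.mk (wordP G (expW L)) := by
  induction L with
  | nil => rfl
  | cons l L ih =>
    rw [wordP_cons, ih, expW, wordP_append]
    rfl

theorem wordP_gQ_one (L : List ℕ) (hL : L ∈ words) : wordP gQ L = 1 := by
  rw [wordP_gQ, QuotientGroup.eq_one_iff]
  exact words_ok L hL

theorem real_sub : ∀ L ∈ PO82p.P.real, L ∈ words := by decide +kernel

theorem exists_hom : ∃ ψ : PO82p.P.Grp →* (↥Ct ⧸ Qt), ∀ l, l < 6 → ψ (PO82p.P.gR l) = gQ l := by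
  apply exists_hom_of_letters PO82p.P PO82p.valid gQ
  · intro l hl
    have hl : l < 6 := hl
    have key : ∀ a b : ℕ, [a, b] ∈ words → gQ a * gQ b = 1 := by
      intro a b hab
      have := wordP_gQ_one [a, b] hab
      rwa [wordP_cons, wordP_cons, wordP_nil, mul_one] at this
    interval_cases l
    · exact key 0 1 (by decide)
    · exact key 1 0 (by decide)
    · exact key 2 3 (by decide)
    · exact key 3 2 (by decide)
    · exact key 4 5 (by decide)
    · exact key 5 4 (by decide)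
  · intro L hL
    exact wordP_gQ_one L (real_sub L hL)

/-! ### the homomorphism is not trivial -/

theorem rootC_inO : ∀ j < 8, ∀ i : GolayPt, i ∉ L8 → vecN (rootC.getD j 0) i = 0 := by
  decide +kernel

theorem Rv_inO (j : ℕ) (hj : j < 8) : InO (Rv j hj) := by
  intro i hi
  exact rootC_inO j hj i (fun h => hi ((mem_O8 i).mpr h))

/-- the path of the letter `a` on the third test vector -/
def chA : List ℕ := [62062060636173731114942762120, 42255020007607646716560967820,
  42255021188487497810119788680, 42255020007607646716560968840, 42255020007895877092708485260]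

theorem chA_ok : pathChk (lw 2) chA (rootC.getD 2 0) = true := by decide +kernel

theorem chA_ne : (¬ ∀ i, vecN 62062060636173731114942762120 i = vecN (rootC.getD 2 0) i) ∧
    ¬ ∀ i, vecN 62062060636173731114942762120 i = -vecN (rootC.getD 2 0) i := by decide +kernel

theorem gQ_two_ne : gQ 2 ≠ 1 := by
  intro h
  unfold gQ at h
  rw [QuotientGroup.eq_one_iff, mem_Qt] at h
  have hp := pathChk_sound _ _ _ chA_ok (Rv 2 (by norm_num)) rfl
  have hp' : ((wordP G (lw 2)).1.1 (Rv 2 (by norm_num))).1 = vecN 62062060636173731114942762120 := hp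
  rcases h with h | h
  · rw [h _ (Rv_inO 2 (by norm_num))] at hp'
    exact chA_ne.1 (fun i => (congrFun hp' i).symm)
  · rw [h _ (Rv_inO 2 (by norm_num))] at hp'
    exact chA_ne.2 (fun i => (congrFun hp' i).symm)

/-- the homomorphism -/
noncomputable def psi : PO82p.P.Grp →* (↥Ct ⧸ Qt) := Classical.choose exists_hom

theorem psi_gR (l : ℕ) (hl : l < 6) : psi (PO82p.P.gR l) = gQ l :=
  Classical.choose_spec exists_hom l hl

theorem psi_injective : Function.Injective psi := by
  apply Cfsg.Agent.Lib.Helper4.RepLib.injective_of_simple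
    Cfsg.Agent.Lib.Helper4.O82pMain.simple_aux psi (PO82p.P.gR 2)
  rw [psi_gR 2 (by norm_num)]
  exact gQ_two_ne

end Cfsg.Agent.Lib.Helper9.Co1d
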