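import Cfsg.Agent.Lib.Helper9.Co1d

set_option autoImplicit false
set_option maxHeartbeats 0
set_option maxRecDepth 1000000
set_option Elab.async false

/-! Monomial calculus in the centraliser `Ct`; the 1024 explicit elements of the scalar subgroup `Qt`;
the orders of `Ct`, `Qt` and `Ct ⧸ Qt`. -/

namespace Cfsg.Agent.Lib.Helper9.Co1e

open scoped Pointwise symmDiff
open Cfsg Finset Cfsg.Agent.Lib.Helper4.Leech Cfsg.Agent.Lib.Helper9.LeechC7
  Cfsg.Agent.Lib.Helper9.LeechM1 Cfsg.Agent.Lib.Helper9.LeechM2 Cfsg.Agent.Lib.Helper9.LeechM4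
  Cfsg.Agent.Lib.Helper9.LeechX4 Cfsg.Agent.Lib.Helper9.LeechX6 Cfsg.Agent.Lib.Helper9.LeechX7
  Cfsg.Agent.Lib.Helper9.M24T8 Cfsg.Agent.Lib.Helper9.M24T3 Cfsg.Agent.Lib.Helper9.M24U1
  Cfsg.Agent.Lib.Helper9.M24T1 Cfsg.Agent.Lib.Helper9.GolayQR1
  Cfsg.Agent.Lib.Helper9.Co1a Cfsg.Agent.Lib.Helper9.Co1b Cfsg.Agent.Lib.Helper9.Co1c
  Cfsg.Agent.Lib.Helper9.Co1d
  Cfsg.Agent.Lib.Helper4.TC Cfsg.Agent.Lib.Helper4.TC.Log

/-! ### monomial calculus -/

theorem eps_congr {c c' : Finset GolayPt} (h : c = c') (hc : c ∈ Code) (hc' : c' ∈ Code) :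
    eps c hc = eps c' hc' := by
  subst h
  rfl

theorem prm_congr {σ σ' : Equiv.Perm GolayPt} (h : σ = σ') (hσ : σ ∈ M24) (hσ' : σ' ∈ M24) :
    prm σ hσ = prm σ' hσ' := by
  subst h
  rfl

theorem eps_mul (c c' : Finset GolayPt) (hc : c ∈ Code) (hc' : c' ∈ Code) :
    eps c hc * eps c' hc' = eps (c ∆ c') (symmDiff_mem_Code hc hc') := by
  apply Equiv.ext
  intro v
  apply Subtype.ext
  funext i
  show (if i ∈ c then -(if i ∈ c' then -v.1 i else v.1 i) else (if i ∈ c' then -v.1 i else v.1 i))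
    = if i ∈ c ∆ c' then -v.1 i else v.1 i
  by_cases h1 : i ∈ c <;> by_cases h2 : i ∈ c' <;> simp [Finset.mem_symmDiff, h1, h2]

theorem smul_mem_Code {σ : Equiv.Perm GolayPt} (hσ : σ ∈ M24) {c : Finset GolayPt}
    (hc : c ∈ Code) : σ • c ∈ Code := by
  have ht' : σ • Code = Code := MulAction.mem_stabilizer_iff.mp hσ
  rw [← ht']
  exact Set.smul_mem_smul_set hc

theorem prm_eps (σ : Equiv.Perm GolayPt) (hσ : σ ∈ M24) (c : Finset GolayPt) (hc : c ∈ Code) :
    prm σ hσ * eps c hc = eps (σ • c) (smul_mem_Code hσ hc) * prm σ hσ := by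
  apply Equiv.ext
  intro v
  apply Subtype.ext
  funext i
  show (if σ.symm i ∈ c then -v.1 (σ.symm i) else v.1 (σ.symm i))
    = if i ∈ σ • c then -v.1 (σ.symm i) else v.1 (σ.symm i)
  have hi : i ∈ σ • c ↔ σ.symm i ∈ c := by
    have := Cfsg.Agent.Lib.Helper9.M24X1.smul_mem_iff σ (σ.symm i) c
    rw [Equiv.apply_symm_apply] at this
    exact this
  by_cases h1 : σ.symm i ∈ c
  · rw [if_pos h1, if_pos (hi.mpr h1)]
  · rw [if_neg h1, if_neg (fun h2 => h1 (hi.mp h2))]

theorem prm_mul (σ τ : Equiv.Perm GolayPt) (hσ : σ ∈ M24) (hτ : τ ∈ M24) :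
    prm σ hσ * prm τ hτ = prm (σ * τ) (M24.mul_mem hσ hτ) := by
  apply Equiv.ext
  intro v
  apply Subtype.ext
  funext i
  rfl

theorem prm_one : prm 1 M24.one_mem = 1 := by
  apply Equiv.ext
  intro v
  apply Subtype.ext
  funext i
  rfl

theorem empty_code : (∅ : Finset GolayPt) ∈ Code := by
  rw [mem_Code_iff, Cfsg.Agent.Lib.Helper4.Leech.ind_empty]
  exact golayCode.zero_mem

theorem eps_empty : eps ∅ empty_code = 1 := by
  apply Equiv.ext
  intro v
  apply Subtype.ext
  funext i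
  show (if i ∈ (∅ : Finset GolayPt) then -v.1 i else v.1 i) = v.1 i
  simp

theorem univ_code : (univ : Finset GolayPt) ∈ Code := by
  have := compl_mem_Code empty_code
  rwa [Finset.compl_empty] at this

theorem eps_univ : eps univ univ_code = neg1 := by
  apply Equiv.ext
  intro v
  apply Subtype.ext
  funext i
  show (if i ∈ (univ : Finset GolayPt) then -v.1 i else v.1 i) = -v.1 i
  simp

theorem eps_inj {c c' : Finset GolayPt} {hc : c ∈ Code} {hc' : c' ∈ Code}
    (h : eps c hc = eps c' hc') : c = c' := by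
  have h1 : mono 1 M24.one_mem c hc = mono 1 M24.one_mem c' hc' := by
    unfold mono
    rw [h]
  exact (mono_inj h1).2

/-! ### the elements of the centraliser -/

/-- sign changes as elements of the centraliser -/
def EC (c : Finset GolayPt) (hc : c ∈ Code) : ↥Ct :=
  ⟨⟨eps c hc, eps_mem c hc⟩, eps_mem_Ct c hc⟩

/-- coordinate permutations as elements of the centraliser -/
def PC (σ : Equiv.Perm GolayPt) (hσ : σ ∈ M24) (h : σ • O8 = O8) : ↥Ct :=
  ⟨⟨prm σ hσ, prm_mem σ hσ⟩, prm_mem_Ct σ hσ h⟩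

theorem Ct_ext {a b : ↥Ct} (h : a.1.1 = b.1.1) : a = b := Subtype.ext (Subtype.ext h)

theorem EC_mul (c c' : Finset GolayPt) (hc : c ∈ Code) (hc' : c' ∈ Code) :
    EC c hc * EC c' hc' = EC (c ∆ c') (symmDiff_mem_Code hc hc') :=
  Ct_ext (eps_mul c c' hc hc')

theorem EC_comm (c c' : Finset GolayPt) (hc : c ∈ Code) (hc' : c' ∈ Code) :
    EC c hc * EC c' hc' = EC c' hc' * EC c hc := by
  apply Ct_ext
  show eps c hc * eps c' hc' = eps c' hc' * eps c hc
  rw [eps_mul, eps_mul]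
  exact eps_congr (symmDiff_comm c c') _ _

theorem EC_sq (c : Finset GolayPt) (hc : c ∈ Code) : EC c hc * EC c hc = 1 := by
  apply Ct_ext
  show eps c hc * eps c hc = 1
  rw [eps_mul, eps_congr (symmDiff_self c) _ empty_code]
  exact eps_empty

theorem smul_smul_O8 {σ τ : Equiv.Perm GolayPt} (h : σ • O8 = O8) (h' : τ • O8 = O8) :
    (σ * τ) • O8 = O8 := by
  rw [mul_smul, h', h]

theorem PC_mul (σ τ : Equiv.Perm GolayPt) (hσ : σ ∈ M24) (hτ : τ ∈ M24) (h : σ • O8 = O8)
    (h' : τ • O8 = O8) :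
    PC σ hσ h * PC τ hτ h' = PC (σ * τ) (M24.mul_mem hσ hτ) (smul_smul_O8 h h') :=
  Ct_ext (prm_mul σ τ hσ hτ)

theorem PC_EC (σ : Equiv.Perm GolayPt) (hσ : σ ∈ M24) (h : σ • O8 = O8) (c : Finset GolayPt)
    (hc : c ∈ Code) : PC σ hσ h * EC c hc = EC (σ • c) (smul_mem_Code hσ hc) * PC σ hσ h :=
  Ct_ext (prm_eps σ hσ c hc)

/-! ### the pointwise stabiliser of the octad -/

theorem fix_smul_O8 {σ : Equiv.Perm GolayPt} (h : ∀ b ∈ L8, σ b = b) : σ • O8 = O8 := by
  apply Finset.eq_of_subset_of_card_le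
  · intro x hx
    obtain ⟨i, hi, rfl⟩ := Finset.mem_smul_finset.mp hx
    have := h i ((mem_O8 i).mp hi)
    rw [Equiv.Perm.smul_def, this]
    exact hi
  · rw [Finset.card_smul_finset]

theorem fix_symm {σ : Equiv.Perm GolayPt} (h : ∀ b ∈ L8, σ b = b) (i : GolayPt) (hi : i ∈ O8) :
    σ.symm i = i := by
  rw [Equiv.symm_apply_eq, h i ((mem_O8 i).mp hi)]

/-- a coordinate permutation fixing the octad pointwise fixes the vectors supported on it -/
theorem prm_fix {σ : Equiv.Perm GolayPt} (hσ : σ ∈ M24) (h : ∀ b ∈ L8, σ b = b)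
    (v : leechLattice) (hv : InO v) : prm σ hσ v = v := by
  apply Subtype.ext
  funext i
  show v.1 (σ.symm i) = v.1 i
  by_cases hi : i ∈ O8
  · rw [fix_symm h i hi]
  · have h2 : σ.symm i ∉ O8 := by
      intro h3
      have h4 := h _ ((mem_O8 _).mp h3)
      rw [Equiv.apply_symm_apply] at h4
      exact hi (h4 ▸ h3)
    rw [hv _ h2, hv _ hi]

theorem PC_mem_Qt {σ : Equiv.Perm GolayPt} (hσ : σ ∈ M24) (h : ∀ b ∈ L8, σ b = b) :
    PC σ hσ (fix_smul_O8 h) ∈ Qt :=
  Or.inl fun v hv => prm_fix hσ h v hv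

theorem EC_mem_Qt {c : Finset GolayPt} (hc : c ∈ Code)
    (h : (∀ p ∈ L8, p ∉ c) ∨ (∀ p ∈ L8, p ∈ c)) : EC c hc ∈ Qt := by
  rcases h with h | h
  · left
    intro v hv
    apply Subtype.ext
    funext i
    show (if i ∈ c then -v.1 i else v.1 i) = v.1 i
    by_cases hi : i ∈ c
    · have : i ∉ O8 := fun h2 => h i ((mem_O8 i).mp h2) hi
      rw [if_pos hi, hv i this]
      rfl
    · rw [if_neg hi]
  · right
    intro v hv
    apply Subtype.ext
    funext i
    show (if i ∈ c then -v.1 i else v.1 i) = -v.1 i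
    by_cases hi : i ∈ c
    · rw [if_pos hi]
    · have : i ∉ O8 := fun h2 => hi (h i ((mem_O8 i).mp h2))
      rw [if_neg hi, hv i this]
      rfl

/-! ### the 64 codewords meeting the octad in nothing or everything -/

def D64 : List ℕ := [0, 337856, 628112, 832080, 1161408, 1351424, 1584464, 1903248, 2141072, 2460752, 2702848, 2890176, 3216208, 3421328, 3704512, 4038912, 4202192, 4536592, 4819776, 5024896, 5350928, 5538256, 5780352, 6100032, 6337856, 6656640, 6889680, 7079696, 7409024, 7612992, 7903248, 8241104, 8536111, 8873967, 9164223, 9368191, 9697519, 9887535, 10120575, 10439359, 10677183, 10996863, 11238959, 11426287, 11752319, 11957439, 12240623, 12575023, 12738303, 13072703, 13355887, 13561007, 13887039, 14074367, 14316463, 14636143, 14873967, 15192751, 15425791, 15615807, 15945135, 16149103, 16439359, 16777215]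

theorem D64_code : ∀ k : Fin 64, Cfsg.Agent.Lib.Helper9.GolayQR3.reprod (D64.getD k 0) = D64.getD k 0 := by decide +kernel

theorem D64_cond : ∀ k : Fin 64, (∀ i ∈ [23, 0, 1, 2, 3, 5, 14, 17], (D64.getD k 0).testBit i = false) ∨
    (∀ i ∈ [23, 0, 1, 2, 3, 5, 14, 17], (D64.getD k 0).testBit i = true) := by decide +kernel

theorem L8_idx : ∀ p ∈ L8, idx p ∈ [23, 0, 1, 2, 3, 5, 14, 17] := by decide

theorem D64_inj : ∀ k k' : Fin 64,
    (∀ i < 24, (D64.getD k 0).testBit i = (D64.getD k' 0).testBit i) → k = k' := by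
  decide +kernel

/-- the codeword of an index -/
def dc (k : Fin 64) : Finset GolayPt := M (D64.getD k 0)

theorem dc_code (k : Fin 64) : dc k ∈ Code := mask_mem_Code _ (D64_code k)

theorem dc_cond (k : Fin 64) : (∀ p ∈ L8, p ∉ dc k) ∨ (∀ p ∈ L8, p ∈ dc k) := by
  rcases D64_cond k with h | h
  · left
    intro p hp
    unfold dc
    rw [mem_M, h _ (L8_idx p hp)]
    simp
  · right
    intro p hp
    unfold dc
    rw [mem_M, h _ (L8_idx p hp)]

theorem dc_inj {k k' : Fin 64} (h : dc k = dc k') : k = k' := by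
  apply D64_inj
  intro i hi
  have h1 := mem_M (D64.getD k 0) (unidx i)
  have h2 := mem_M (D64.getD k' 0) (unidx i)
  rw [idx_unidx i hi] at h1 h2
  have h3 : unidx i ∈ dc k ↔ unidx i ∈ dc k' := by rw [h]
  unfold dc at h3
  rw [h1, h2] at h3
  exact Bool.eq_iff_iff.mpr h3

/-! ### the 16 elements of the pointwise stabiliser -/

abbrev B4 : Type := Bool × Bool × Bool × Bool

/-- the element of the pointwise stabiliser of an index -/
def ep (a : B4) : Equiv.Perm GolayPt := eprod a.1 a.2.1 a.2.2.1 a.2.2.2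

theorem ep_fix (a : B4) : ep a ∈ fixL M24 L8 := eprod_mem _ _ _ _

theorem ep_inj : ∀ a a' : B4, ep a (some 4) = ep a' (some 4) → a = a' := by decide +kernel

/-- the explicit elements of the scalar subgroup -/
def qel (x : B4 × Fin 64) : ↥Qt :=
  ⟨EC (dc x.2) (dc_code x.2) * PC (ep x.1) (ep_fix x.1).1 (fix_smul_O8 (ep_fix x.1).2),
    Qt.mul_mem (EC_mem_Qt _ (dc_cond x.2)) (PC_mem_Qt _ (ep_fix x.1).2)⟩

theorem qel_val (x : B4 × Fin 64) :
    (qel x).1.1.1 = mono (ep x.1) (ep_fix x.1).1 (dc x.2) (dc_code x.2) := rfl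

theorem qel_injective : Function.Injective qel := by
  intro x y h
  have h1 : (qel x).1.1.1 = (qel y).1.1.1 := by rw [h]
  rw [qel_val, qel_val] at h1
  obtain ⟨h2, h3⟩ := mono_inj h1
  have h4 : x.1 = y.1 := ep_inj _ _ (by rw [h2])
  have h5 : x.2 = y.2 := dc_inj h3
  exact Prod.ext h4 h5

theorem card_Qt_ge : 1024 ≤ Nat.card ↥Qt := by
  have h := Nat.card_le_card_of_injective qel qel_injective
  have e : Nat.card (B4 × Fin 64) = 1024 := by
    rw [Nat.card_eq_fintype_card]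
    simp [Fintype.card_prod]
  rw [e] at h
  exact h

/-! ### the orders -/

theorem card_P : Nat.card PO82p.P.Grp = 174182400 :=
  Cfsg.Agent.Lib.Helper4.O82pMain.order_aux.2.2

theorem card_quot_ge : 174182400 ≤ Nat.card (↥Ct ⧸ Qt) := by
  rw [← card_P]
  exact Nat.card_le_card_of_injective psi psi_injective

theorem card_mul : Nat.card (↥Ct ⧸ Qt) * Nat.card ↥Qt = Nat.card ↥Ct :=
  (Subgroup.card_eq_card_quotient_mul_card_subgroup Qt).symm

theorem card_Qt : Nat.card ↥Qt = 1024 := by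
  have h1 := card_Qt_ge
  have h2 := card_quot_ge
  have h3 := card_mul
  have h4 := card_Ct_le
  by_contra hne
  have h5 : 1025 ≤ Nat.card ↥Qt := by omega
  have h6 : 174182400 * 1025 ≤ Nat.card (↥Ct ⧸ Qt) * Nat.card ↥Qt := Nat.mul_le_mul h2 h5
  omega

theorem card_quot : Nat.card (↥Ct ⧸ Qt) = 174182400 := by
  have h2 := card_quot_ge
  have h3 := card_mul
  have h4 := card_Ct_le
  rw [card_Qt] at h3
  omega

theorem card_Ct : Nat.card ↥Ct = 178362777600 := by
  rw [← card_mul, card_Qt, card_quot]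

theorem psi_bijective : Function.Bijective psi := by
  have : Finite PO82p.P.Grp := Cfsg.Agent.Lib.Helper4.O82pMain.order_aux.1
  apply psi_injective.bijective_of_nat_card_le
  rw [card_quot, card_P]

theorem qel_surjective : Function.Surjective qel := by
  have hb : Function.Bijective qel := by
    apply qel_injective.bijective_of_nat_card_le
    rw [card_Qt, Nat.card_eq_fintype_card]
    simp [Fintype.card_prod]
  exact hb.2

end Cfsg.Agent.Lib.Helper9.Co1e
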