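import Cfsg.Agent.Lib.Helper9.Co1e

set_option autoImplicit false
set_option maxHeartbeats 0
set_option maxRecDepth 1000000
set_option Elab.async false

/-! Relations in the scalar subgroup `Qt` of the centraliser `Ct`: commutators and squares lie in
`{1, d}` (`d` the sign change on the complement of the octad), and the elements that commute with all
of `Qt` up to the sign `-1` are `1, -1, d, -d`. -/

namespace Cfsg.Agent.Lib.Helper9.Co1f

open scoped Pointwise symmDiff
open Cfsg Finset Cfsg.Agent.Lib.Helper4.Leech Cfsg.Agent.Lib.Helper9.LeechC7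
  Cfsg.Agent.Lib.Helper9.LeechM1 Cfsg.Agent.Lib.Helper9.LeechM2 Cfsg.Agent.Lib.Helper9.LeechM4
  Cfsg.Agent.Lib.Helper9.LeechX4 Cfsg.Agent.Lib.Helper9.LeechX6 Cfsg.Agent.Lib.Helper9.LeechX7
  Cfsg.Agent.Lib.Helper9.M24T8 Cfsg.Agent.Lib.Helper9.M24T3 Cfsg.Agent.Lib.Helper9.M24U1
  Cfsg.Agent.Lib.Helper9.M24T1 Cfsg.Agent.Lib.Helper9.GolayQR1
  Cfsg.Agent.Lib.Helper9.Co1a Cfsg.Agent.Lib.Helper9.Co1b Cfsg.Agent.Lib.Helper9.Co1c
  Cfsg.Agent.Lib.Helper9.Co1d Cfsg.Agent.Lib.Helper9.Co1e

/-! ### the central elements -/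

theorem EC_congr' {c c' : Finset GolayPt} (h : c = c') {hc : c ∈ Code} {hc' : c' ∈ Code} :
    EC c hc = EC c' hc' := Ct_ext (eps_congr h hc hc')

/-- the sign change on the complement of the octad -/
def dC : ↥Ct := EC O8ᶜ (compl_mem_Code O8_code)

/-- the negation -/
def nC : ↥Ct := EC univ univ_code

/-- the sign change on the octad -/
def eC : ↥Ct := EC O8 O8_code

theorem dC_sq : dC * dC = 1 := EC_sq _ _

theorem nC_val : nC.1 = negOne := Subtype.ext eps_univ

theorem eC_val : eC.1 = e0 := rfl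

theorem nC_mul_eC : nC * eC = dC := by
  unfold nC eC dC
  rw [EC_mul]
  apply EC_congr'
  ext p
  simp [Finset.mem_symmDiff]

theorem nC_central (x : ↥Ct) : x * nC = nC * x := by
  apply Subtype.ext
  show x.1 * nC.1 = nC.1 * x.1
  rw [nC_val]
  exact Subgroup.mem_center_iff.mp negOne_mem_center x.1

theorem eC_central (x : ↥Ct) : x * eC = eC * x := by
  apply Subtype.ext
  show x.1 * e0 = e0 * x.1
  exact ((mem_Ct x.1).mp x.2).symm

theorem dC_central (x : ↥Ct) : x * dC = dC * x := by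
  rw [← nC_mul_eC, ← mul_assoc, nC_central, mul_assoc, eC_central, mul_assoc]

theorem EC_inj {c c' : Finset GolayPt} {hc : c ∈ Code} {hc' : c' ∈ Code}
    (h : EC c hc = EC c' hc') : c = c' :=
  eps_inj (hc := hc) (hc' := hc') (congrArg (fun x : ↥Ct => x.1.1) h)

theorem one_eq_EC : (1 : ↥Ct) = EC ∅ empty_code := Ct_ext eps_empty.symm

theorem none_mem : (none : GolayPt) ∈ O8 := none_mem_O8

theorem four_notMem : (some 4 : GolayPt) ∉ O8 := by rw [mem_O8]; decide

theorem dC_ne_one : dC ≠ 1 := by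
  intro h
  rw [one_eq_EC] at h
  have := EC_inj h
  have h4 : (some 4 : GolayPt) ∈ (O8ᶜ : Finset GolayPt) := Finset.mem_compl.mpr four_notMem
  rw [this] at h4
  exact Finset.notMem_empty _ h4

theorem dC_ne_nC : dC ≠ nC := by
  intro h
  have := EC_inj h
  have h4 : (none : GolayPt) ∈ (univ : Finset GolayPt) := Finset.mem_univ _
  rw [← this, Finset.mem_compl] at h4
  exact h4 none_mem

theorem nC_ne_one : nC ≠ 1 := by
  intro h
  rw [one_eq_EC] at h
  have := EC_inj h
  have h4 : (none : GolayPt) ∈ (univ : Finset GolayPt) := Finset.mem_univ _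
  rw [this] at h4
  exact Finset.notMem_empty _ h4

/-! ### the action of the pointwise stabiliser on the 64 codewords -/

theorem M_xor (m n : ℕ) : M (m ^^^ n) = M m ∆ M n := by
  ext p
  rw [Finset.mem_symmDiff, mem_M, mem_M, mem_M, Nat.testBit_xor]
  cases m.testBit (idx p) <;> cases n.testBit (idx p) <;> simp

def T1 : List ℕ := [0, 1, 2, 3, 18, 5, 15, 20, 22, 19, 21, 16, 13, 12, 14, 6, 11, 17, 4, 9, 7, 10, 8, 23]
def T2 : List ℕ := [0, 1, 2, 3, 21, 5, 16, 13, 9, 8, 18, 15, 20, 7, 14, 11, 6, 17, 10, 22, 12, 4, 19, 23]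
def T3 : List ℕ := [0, 1, 2, 3, 6, 5, 4, 22, 20, 12, 11, 10, 9, 19, 14, 18, 21, 17, 15, 13, 8, 16, 7, 23]
def T4 : List ℕ := [0, 1, 2, 3, 8, 5, 20, 15, 4, 21, 19, 13, 16, 11, 14, 7, 12, 17, 22, 10, 6, 9, 18, 23]

theorem E1_smul (m : ℕ) : E1 • M m = M (pull T1 m) := by
  unfold E1
  exact tperm_smul_M _ _ _ _ (by decide +kernel) m
theorem E2_smul (m : ℕ) : E2 • M m = M (pull T2 m) := by
  unfold E2
  exact tperm_smul_M _ _ _ _ (by decide +kernel) m
theorem E3_smul (m : ℕ) : E3 • M m = M (pull T3 m) := by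
  unfold E3
  exact tperm_smul_M _ _ _ _ (by decide +kernel) m
theorem E4_smul (m : ℕ) : E4 • M m = M (pull T4 m) := by
  unfold E4
  exact tperm_smul_M _ _ _ _ (by decide +kernel) m

/-- conditional pull -/
def pl (b : Bool) (l : List ℕ) (m : ℕ) : ℕ := bif b then pull l m else m

/-- the action of the pointwise stabiliser on masks -/
def act (a : B4) (m : ℕ) : ℕ := pl a.1 T1 (pl a.2.1 T2 (pl a.2.2.1 T3 (pl a.2.2.2 T4 m)))

theorem sel_smul (b : Bool) (g : Equiv.Perm GolayPt) (l : List ℕ)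
    (h : ∀ m, g • M m = M (pull l m)) (m : ℕ) : sel b g • M m = M (pl b l m) := by
  cases b
  · show (1 : Equiv.Perm GolayPt) • M m = M m
    rw [one_smul]
  · exact h m

theorem ep_smul (a : B4) (m : ℕ) : ep a • M m = M (act a m) := by
  unfold ep eprod act
  rw [mul_smul, mul_smul, mul_smul, sel_smul _ _ _ E4_smul, sel_smul _ _ _ E3_smul,
    sel_smul _ _ _ E2_smul, sel_smul _ _ _ E1_smul]

/-- the mask of the complement of the octad -/
def ocMask : ℕ := 8241104

theorem M_ocMask : M ocMask = O8ᶜ := by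
  ext p
  rw [Finset.mem_compl, mem_M, mem_O8]
  revert p
  decide +kernel

theorem act_cases : ∀ (a : B4) (k : Fin 64), act a (D64.getD k 0) = D64.getD k 0 ∨
    act a (D64.getD k 0) = ocMask ^^^ D64.getD k 0 := by decide +kernel

theorem smul_dc (a : B4) (k : Fin 64) : ep a • dc k = dc k ∨ ep a • dc k = O8ᶜ ∆ dc k := by
  unfold dc
  rw [ep_smul]
  rcases act_cases a k with h | h
  · left
    rw [h]
  · right
    rw [h, M_xor, M_ocMask]

/-- an element of the pointwise stabiliser moves a codeword -/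
def mv (a : B4) (k : Fin 64) : Prop := act a (D64.getD k 0) ≠ D64.getD k 0

instance (a : B4) (k : Fin 64) : Decidable (mv a k) := by unfold mv; infer_instance

theorem mv_exists : ∀ a : B4, a ≠ (false, false, false, false) → ∃ k : Fin 64, mv a k := by
  decide +kernel

theorem mv_none : ∀ k : Fin 64, (∀ a : B4, ¬ mv a k) →
    D64.getD k 0 = 0 ∨ D64.getD k 0 = 16777215 ∨ D64.getD k 0 = 8536111 ∨
      D64.getD k 0 = 8241104 := by decide +kernel

theorem M_zero : M 0 = ∅ := by
  ext p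
  rw [mem_M]
  simp

theorem M_full : M 16777215 = univ := by
  ext p
  rw [mem_M]
  simp only [Finset.mem_univ, iff_true]
  revert p
  decide +kernel

/-! ### the elements and their relations -/

theorem EC_congr {c c' : Finset GolayPt} (h : c = c') (hc : c ∈ Code) (hc' : c' ∈ Code) :
    EC c hc = EC c' hc' := Ct_ext (eps_congr h hc hc')

/-- the element of the pointwise stabiliser, in the centraliser -/
def Pa (a : B4) : ↥Ct := PC (ep a) (ep_fix a).1 (fix_smul_O8 (ep_fix a).2)

/-- the sign change on one of the 64 codewords, in the centraliser -/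
def Ek (k : Fin 64) : ↥Ct := EC (dc k) (dc_code k)

theorem Pa_mem (a : B4) : Pa a ∈ Qt := PC_mem_Qt _ (ep_fix a).2

theorem Ek_mem (k : Fin 64) : Ek k ∈ Qt := EC_mem_Qt _ (dc_cond k)

/-- the central factor -/
def cf (b : Prop) [Decidable b] : ↥Ct := if b then dC else 1

theorem cf_central (b : Prop) [Decidable b] (x : ↥Ct) : x * cf b = cf b * x := by
  unfold cf
  split_ifs
  · exact dC_central x
  · rw [mul_one, one_mul]

theorem PE (a : B4) (k : Fin 64) : Pa a * Ek k = cf (mv a k) * (Ek k * Pa a) := by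
  unfold Pa Ek cf
  rw [PC_EC]
  by_cases h : mv a k
  · rw [if_pos h]
    have h1 : ep a • dc k = O8ᶜ ∆ dc k := by
      unfold dc
      rw [ep_smul]
      rcases act_cases a k with h2 | h2
      · exact absurd h2 h
      · rw [h2, M_xor, M_ocMask]
    rw [EC_congr h1 _ (symmDiff_mem_Code (compl_mem_Code O8_code) (dc_code k)), ← EC_mul,
      mul_assoc]
    rfl
  · rw [if_neg h, one_mul]
    have h1 : ep a • dc k = dc k := by
      unfold dc
      rw [ep_smul]
      unfold mv at h
      push Not at h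
      rw [h]
    rw [EC_congr h1 _ (dc_code k)]

theorem Ek_comm (k k' : Fin 64) : Ek k * Ek k' = Ek k' * Ek k := EC_comm _ _ _ _

theorem Ek_sq (k : Fin 64) : Ek k * Ek k = 1 := EC_sq _ _

theorem PC_congr {σ σ' : Equiv.Perm GolayPt} (h : σ = σ') (hσ : σ ∈ M24) (hσ' : σ' ∈ M24)
    (h1 : σ • O8 = O8) (h2 : σ' • O8 = O8) : PC σ hσ h1 = PC σ' hσ' h2 :=
  Ct_ext (prm_congr h hσ hσ')

theorem PC_one : PC 1 M24.one_mem (one_smul _ _) = 1 := Ct_ext prm_one

theorem ep_sq (a : B4) : ep a * ep a = 1 := sq_fixO _ (ep_fix a)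

theorem ep_comm (a a' : B4) : ep a * ep a' = ep a' * ep a := by
  have h1 := ep_sq a
  have h2 := ep_sq a'
  have h3 : (ep a * ep a') * (ep a * ep a') = 1 :=
    sq_fixO _ (Subgroup.mul_mem _ (ep_fix a) (ep_fix a'))
  have e1 : ep a = (ep a)⁻¹ := eq_inv_of_mul_eq_one_left h1
  have e2 : ep a' = (ep a')⁻¹ := eq_inv_of_mul_eq_one_left h2
  have e3 : ep a * ep a' = (ep a * ep a')⁻¹ := eq_inv_of_mul_eq_one_left h3
  rw [e3, mul_inv_rev, ← e1, ← e2]

theorem Pa_comm (a a' : B4) : Pa a * Pa a' = Pa a' * Pa a := by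
  unfold Pa
  rw [PC_mul, PC_mul]
  exact PC_congr (ep_comm a a') _ _ _ _

theorem Pa_sq (a : B4) : Pa a * Pa a = 1 := by
  unfold Pa
  rw [PC_mul, PC_congr (ep_sq a) _ M24.one_mem _ (one_smul _ _), PC_one]

theorem Pa_zero : Pa (false, false, false, false) = 1 := by
  unfold Pa
  have h : ep (false, false, false, false) = 1 := by
    unfold ep eprod sel
    simp
  rw [PC_congr h _ M24.one_mem _ (one_smul _ _), PC_one]

/-- the product of two elements in normal form -/
theorem XY (a a' : B4) (k k' : Fin 64) :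
    (Ek k * Pa a) * (Ek k' * Pa a') = cf (mv a k') * (Ek k * Ek k' * (Pa a * Pa a')) := by
  calc (Ek k * Pa a) * (Ek k' * Pa a') = Ek k * (Pa a * Ek k') * Pa a' := by
        simp only [mul_assoc]
    _ = Ek k * (cf (mv a k') * (Ek k' * Pa a)) * Pa a' := by rw [PE]
    _ = cf (mv a k') * (Ek k * Ek k' * (Pa a * Pa a')) := by
        rw [← mul_assoc (Ek k), cf_central]
        simp only [mul_assoc]

theorem exists_form (x : ↥Ct) (hx : x ∈ Qt) : ∃ (a : B4) (k : Fin 64), x = Ek k * Pa a := by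
  obtain ⟨⟨a, k⟩, h⟩ := qel_surjective ⟨x, hx⟩
  exact ⟨a, k, (congrArg Subtype.val h).symm⟩

theorem Qt_comm (x y : ↥Ct) (hx : x ∈ Qt) (hy : y ∈ Qt) :
    x * y = y * x ∨ x * y = dC * (y * x) := by
  obtain ⟨a, k, rfl⟩ := exists_form x hx
  obtain ⟨a', k', rfl⟩ := exists_form y hy
  rw [XY, XY, Ek_comm k' k, Pa_comm a' a]
  unfold cf
  by_cases h1 : mv a k' <;> by_cases h2 : mv a' k
  · left
    rw [if_pos h1, if_pos h2]
  · right
    rw [if_pos h1, if_neg h2, one_mul]
  · right
    rw [if_neg h1, if_pos h2, one_mul, ← mul_assoc dC dC, dC_sq, one_mul]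
  · left
    rw [if_neg h1, if_neg h2]

theorem Qt_sq (x : ↥Ct) (hx : x ∈ Qt) : x * x = 1 ∨ x * x = dC := by
  obtain ⟨a, k, rfl⟩ := exists_form x hx
  rw [XY, Ek_sq, Pa_sq, mul_one, mul_one]
  unfold cf
  by_cases h1 : mv a k
  · right
    rw [if_pos h1]
  · left
    rw [if_neg h1]

theorem dC_mem : dC ∈ Qt := EC_mem_Qt _ (Or.inl fun p hp h =>
  (Finset.mem_compl.mp h) ((mem_O8 p).mpr hp))

theorem nC_mem : nC ∈ Qt := EC_mem_Qt _ (Or.inr fun p _ => Finset.mem_univ p)

theorem nC_sq : nC * nC = 1 := EC_sq _ _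

theorem Qt_cen (x : ↥Ct) (hx : x ∈ Qt)
    (H : ∀ y ∈ Qt, x * y = y * x ∨ x * y = nC * (y * x)) :
    x = 1 ∨ x = nC ∨ x = dC ∨ x = nC * dC := by
  obtain ⟨a, k, rfl⟩ := exists_form x hx
  have ha : a = (false, false, false, false) := by
    by_contra hne
    obtain ⟨k', hk'⟩ := mv_exists a hne
    have h1 : (Ek k * Pa a) * Ek k' = dC * (Ek k' * (Ek k * Pa a)) := by
      have := XY a (false, false, false, false) k k'
      rw [Pa_zero, mul_one, mul_one] at this
      rw [this]
      unfold cf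
      rw [if_pos hk', ← mul_assoc (Ek k'), Ek_comm k' k]
    rcases H (Ek k') (Ek_mem k') with h2 | h2
    · rw [h1] at h2
      exact dC_ne_one (mul_right_cancel (h2.trans (one_mul _).symm))
    · rw [h1] at h2
      exact dC_ne_nC (mul_right_cancel h2)
  subst ha
  rw [Pa_zero, mul_one] at H ⊢
  have hk : ∀ a' : B4, ¬ mv a' k := by
    intro a' hm
    have h1 : Pa a' * Ek k = dC * (Ek k * Pa a') := by
      rw [PE]
      unfold cf
      rw [if_pos hm]
    rcases H (Pa a') (Pa_mem a') with h2 | h2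
    · rw [h2] at h1
      exact dC_ne_one (mul_right_cancel ((one_mul _).trans h1)).symm
    · rw [h1, ← mul_assoc] at h2
      have h3 : nC * dC = 1 := (mul_right_cancel ((one_mul _).trans h2)).symm
      have h4 : nC = dC := by
        have := congrArg (· * dC) h3
        simp only [mul_assoc, dC_sq, mul_one, one_mul] at this
        exact this
      exact dC_ne_nC h4.symm
  unfold Ek
  rcases mv_none k hk with h | h | h | h
  · left
    have : dc k = ∅ := by unfold dc; rw [h, M_zero]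
    rw [EC_congr this _ empty_code, ← one_eq_EC]
  · right; left
    have : dc k = univ := by unfold dc; rw [h, M_full]
    rw [EC_congr this _ univ_code]
    rfl
  · right; right; right
    have : dc k = O8 := by unfold dc; rw [h]; rfl
    rw [EC_congr this _ O8_code, ← nC_mul_eC, ← mul_assoc, nC_sq, one_mul]
    rfl
  · right; right; left
    have : dc k = O8ᶜ := by unfold dc; rw [h]; exact M_ocMask
    rw [EC_congr this _ (compl_mem_Code O8_code)]
    rfl

/-- a pair of elements of the scalar subgroup that do not commute even up to sign -/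
theorem exists_noncomm : ∃ x ∈ Qt, ∃ y ∈ Qt, x * y ≠ y * x ∧ x * y ≠ nC * (y * x) := by
  obtain ⟨k', hk'⟩ := mv_exists (true, false, false, false) (by decide)
  refine ⟨Pa (true, false, false, false), Pa_mem _, Ek k', Ek_mem k', ?_, ?_⟩
  · rw [PE]
    unfold cf
    rw [if_pos hk']
    intro h
    exact dC_ne_one (mul_right_cancel (h.trans (one_mul _).symm))
  · rw [PE]
    unfold cf
    rw [if_pos hk']
    intro h
    exact dC_ne_nC (mul_right_cancel h)

end Cfsg.Agent.Lib.Helper9.Co1f
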