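import Mathlib
import Cfsg.Prelude.Def_Classical
import Cfsg.Agent.Lib.Helper4.O82Iso
import Cfsg.Agent.Lib.Helper2.UOmegaGen
import Cfsg.Agent.S0287

/-!
# Unit UOmega (support for S5388; assembly text written by helper2, compiled by helper9)

The presented group `O82p` of helper4 is isomorphic to `Ω₈⁺(2)` itself (the commutator subgroup of the
isometry group of `Σ xᵢ yᵢ` over `ZMod 2`), not only to `PΩ₈⁺(2)`.
-/

set_option autoImplicit false
set_option linter.style.haveILetI false

namespace Cfsg.Agent.Lib.Helper9.UOmega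

open Cfsg Cfsg.Agent.Lib.Helper4 Cfsg.Agent.Lib.Helper4.TC

theorem card_isometry_plus_four_two :
    Nat.card (isometryGroup (ZMod 2) (quadFormPlus 4 (ZMod 2))) = 2 * 174182400 := by
  have h := Cfsg.Agent.S0287.result (F := ZMod 2) (q := 2) (by simp [ZMod.card]) 4 (by norm_num)
  norm_num [Finset.prod_range_succ] at h
  omega

theorem psi1_bijective : Function.Bijective (O82Iso.psi1 (RingHom.id (ZMod 2))) := by
  obtain ⟨fG, _, hc⟩ := O82pMain.order_aux
  exact Cfsg.Agent.Lib.Helper2.UOmegaUnit.bijective_of_card 174182400 (by norm_num) card_isometry_plus_four_two hc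
    (O82Iso.card_POmega (F := ZMod 2) (by simp [ZMod.card]))
    (O82Iso.psi1 (RingHom.id (ZMod 2))) (O82Iso.psi_injective (RingHom.id (ZMod 2)))

/-- Unit UOmega, verbatim as requested by helper9 for S5388. -/
theorem omega_iso : Nonempty (Cfsg.Agent.Lib.Helper4.TC.PO82p.P.Grp ≃*
    ↥(Cfsg.Omega (ZMod 2) (Cfsg.quadFormPlus 4 (ZMod 2)))) :=
  ⟨MulEquiv.ofBijective _ psi1_bijective⟩

end Cfsg.Agent.Lib.Helper9.UOmega
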