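import Cfsg.Agent.Lib.Helper9.Co1f
import Cfsg.Agent.Lib.Helper9.UOmega
import Cfsg.Agent.Lib.Helper2.Co1UG
import Cfsg.Agent.Lib.Helper2.Co1UE
import Cfsg.Agent.Lib.Helper2.UF
import Cfsg.Agent.Lib.Helper6.Co1UP
import Cfsg.Prelude.Def_Spor_Conway

set_option autoImplicit false
set_option maxHeartbeats 0
set_option maxRecDepth 1000000

/-! The centraliser in `Co1` of the image `z` of the sign change on the standard octad: it is the image
of the centraliser `Ct` in `Co0`; the image `Q` of the scalar subgroup `Qt` is extraspecial of order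
`2^9`, it is the generalised Fitting subgroup, the quotient is `Ω₈⁺(2)`, and `z` is not weakly closed
in `Q`. -/

namespace Cfsg.Agent.Lib.Helper9.Co1g

open scoped Pointwise symmDiff
open Cfsg Finset Cfsg.Agent.Lib.Helper4.Leech Cfsg.Agent.Lib.Helper9.LeechC7
  Cfsg.Agent.Lib.Helper9.LeechM1 Cfsg.Agent.Lib.Helper9.LeechM2 Cfsg.Agent.Lib.Helper9.LeechM4
  Cfsg.Agent.Lib.Helper9.LeechX4 Cfsg.Agent.Lib.Helper9.LeechX6 Cfsg.Agent.Lib.Helper9.LeechX7
  Cfsg.Agent.Lib.Helper9.M24T8 Cfsg.Agent.Lib.Helper9.M24T3 Cfsg.Agent.Lib.Helper9.M24U1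
  Cfsg.Agent.Lib.Helper9.M24T1 Cfsg.Agent.Lib.Helper9.GolayQR1
  Cfsg.Agent.Lib.Helper9.Co1a Cfsg.Agent.Lib.Helper9.Co1b Cfsg.Agent.Lib.Helper9.Co1c
  Cfsg.Agent.Lib.Helper9.Co1d Cfsg.Agent.Lib.Helper9.Co1e Cfsg.Agent.Lib.Helper9.Co1f
  Cfsg.Agent.Lib.Helper4.TC

/-- the involution of `Co1` -/
def z : Cfsg.Spor.Co1 := QuotientGroup.mk e0

/-- its centraliser -/
abbrev Cz : Subgroup Cfsg.Spor.Co1 := Subgroup.centralizer ({z} : Set Cfsg.Spor.Co1)

theorem mk_eq_one_iff (g : ↥Co0) :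
    (QuotientGroup.mk g : Cfsg.Spor.Co1) = 1 ↔ g = 1 ∨ g = negOne := by
  rw [QuotientGroup.eq_one_iff]
  constructor
  · exact central_eq g
  · rintro (rfl | rfl)
    · exact Subgroup.one_mem _
    · exact negOne_mem_center

theorem e0_sq : e0 * e0 = 1 := congrArg Subtype.val (EC_sq O8 O8_code)

theorem e0_ne_one : e0 ≠ 1 := by
  intro h
  have h1 : eC = 1 := Subtype.ext h
  rw [one_eq_EC] at h1
  have h2 := EC_inj h1
  have h3 := none_mem
  rw [h2] at h3
  exact Finset.notMem_empty _ h3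

theorem e0_ne_negOne : e0 ≠ negOne := by
  intro h
  have h1 : eC = nC := Subtype.ext (h.trans nC_val.symm)
  have h2 := EC_inj h1
  have h3 : (some 4 : GolayPt) ∈ (univ : Finset GolayPt) := Finset.mem_univ _
  rw [← h2] at h3
  exact four_notMem h3

theorem z_order : orderOf z = 2 := by
  apply orderOf_eq_prime
  · show z ^ 2 = 1
    rw [pow_two]
    show (QuotientGroup.mk (e0 * e0) : Cfsg.Spor.Co1) = 1
    rw [e0_sq]
    rfl
  · intro h
    rcases (mk_eq_one_iff e0).mp h with h1 | h1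
    · exact e0_ne_one h1
    · exact e0_ne_negOne h1

/-- the map from the centraliser in `Co0` to the centraliser in `Co1` -/
def f : ↥Ct →* ↥Cz :=
  ((QuotientGroup.mk' (Subgroup.center ↥Co0)).comp (Subgroup.subtype Ct)).codRestrict Cz (by
    intro g
    rw [Subgroup.mem_centralizer_iff]
    intro h hh
    rw [Set.mem_singleton_iff] at hh
    subst hh
    show (QuotientGroup.mk (e0 * g.1) : Cfsg.Spor.Co1) = QuotientGroup.mk (g.1 * e0)
    rw [(mem_Ct g.1).mp g.2])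

theorem f_val (g : ↥Ct) : (f g).1 = QuotientGroup.mk g.1 := rfl

theorem f_surjective : Function.Surjective f := by
  intro y
  obtain ⟨g, hg, hgy⟩ := Cfsg.Agent.Lib.Helper2.Co1UG.central_lift e0 negOne central_eq
    (Cfsg.Agent.Lib.Helper6.Co1UP.no_neg_conj O8 O8_code card_O8) y.1 y.2
  exact ⟨⟨g, hg⟩, Subtype.ext hgy⟩

theorem f_eq_one_iff (g : ↥Ct) : f g = 1 ↔ g = 1 ∨ g = nC := by
  rw [Subtype.ext_iff, f_val]
  show (QuotientGroup.mk g.1 : Cfsg.Spor.Co1) = 1 ↔ _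
  rw [mk_eq_one_iff]
  constructor
  · rintro (h | h)
    · left; exact Subtype.ext h
    · right; exact Subtype.ext (h.trans nC_val.symm)
  · rintro (h | h)
    · left; rw [h]; rfl
    · right; rw [h]; exact nC_val

theorem ker_le : f.ker ≤ Qt := by
  intro g hg
  rw [MonoidHom.mem_ker, f_eq_one_iff] at hg
  rcases hg with rfl | rfl
  · exact Qt.one_mem
  · exact nC_mem

theorem card_ker : Nat.card ↥f.ker = 2 := by
  rw [Nat.card_eq_two_iff]
  refine ⟨⟨1, f.ker.one_mem⟩, ⟨nC, (MonoidHom.mem_ker).mpr ((f_eq_one_iff nC).mpr (Or.inr rfl))⟩,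
    ?_, ?_⟩
  · intro h
    exact nC_ne_one (congrArg Subtype.val h).symm
  · ext x
    simp only [Set.mem_insert_iff, Set.mem_singleton_iff, Set.mem_univ, iff_true]
    rcases (f_eq_one_iff x.1).mp (MonoidHom.mem_ker.mp x.2) with h | h
    · left; exact Subtype.ext h
    · right; exact Subtype.ext h

/-- the extraspecial subgroup -/
def Q : Subgroup ↥Cz := Qt.map f

instance Q_normal : Q.Normal := Subgroup.Normal.map Qt_normal f f_surjective

theorem card_Q : Nat.card ↥Q = 2 ^ 9 := by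
  have h := Cfsg.Agent.Lib.Helper2.Co1UG.card_map_of_ker_le f Qt ker_le
  rw [card_Qt, card_ker] at h
  unfold Q
  omega

theorem quot_equiv : Nonempty ((↥Cz ⧸ Q) ≃* (↥Ct ⧸ Qt)) := by
  have : (Qt.map f).Normal := Q_normal
  exact Cfsg.Agent.Lib.Helper2.Co1UG.quot_map_equiv f f_surjective Qt ker_le

theorem quot_equiv_P : Nonempty ((↥Cz ⧸ Q) ≃* PO82p.P.Grp) := by
  obtain ⟨e⟩ := quot_equiv
  exact ⟨e.trans (MulEquiv.ofBijective psi psi_bijective).symm⟩

theorem quot_equiv_Omega : Nonempty ((↥Cz ⧸ Q) ≃*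
    ↥(Cfsg.Omega (ZMod 2) (Cfsg.quadFormPlus 4 (ZMod 2)))) := by
  obtain ⟨e⟩ := quot_equiv_P
  obtain ⟨e'⟩ := Cfsg.Agent.Lib.Helper9.UOmega.omega_iso
  exact ⟨e.trans e'⟩

/-! ### the subgroup is extraspecial -/

/-- the restriction of the map to the scalar subgroup -/
def fQ : ↥Qt →* ↥Q := f.subgroupMap Qt

theorem fQ_surjective : Function.Surjective fQ := f.subgroupMap_surjective Qt

theorem fQ_val (x : ↥Qt) : (fQ x).1 = f x.1 := rfl

theorem fQ_eq_one_iff (x : ↥Qt) : fQ x = 1 ↔ x = 1 ∨ x = ⟨nC, nC_mem⟩ := by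
  rw [Subtype.ext_iff, fQ_val]
  show f x.1 = 1 ↔ _
  rw [f_eq_one_iff]
  constructor
  · rintro (h | h)
    · left; exact Subtype.ext h
    · right; exact Subtype.ext h
  · rintro (h | h)
    · left; rw [h]; rfl
    · right; rw [h]

theorem Q_extraspecial : IsExtraspecial 2 ↥Q := by
  apply Cfsg.Agent.Lib.Helper2.Co1UE.extraspecial_of_cover fQ fQ_surjective ⟨nC, nC_mem⟩
    ⟨dC, dC_mem⟩ fQ_eq_one_iff
  · intro h
    rcases (fQ_eq_one_iff _).mp h with h1 | h1
    · exact dC_ne_one (congrArg Subtype.val h1)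
    · exact dC_ne_nC (congrArg Subtype.val h1)
  · intro x
    exact Subtype.ext (dC_central x.1)
  · intro x y
    rcases Qt_comm x.1 y.1 x.2 y.2 with h | h
    · left; exact Subtype.ext h
    · right; exact Subtype.ext h
  · intro x
    rcases Qt_sq x.1 x.2 with h | h
    · left; exact Subtype.ext h
    · right; exact Subtype.ext h
  · intro x H
    have H' : ∀ y ∈ Qt, x.1 * y = y * x.1 ∨ x.1 * y = nC * (y * x.1) := by
      intro y hy
      rcases H ⟨y, hy⟩ with h | h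
      · left; exact congrArg Subtype.val h
      · right; exact congrArg Subtype.val h
    have hn : fQ ⟨nC, nC_mem⟩ = 1 := (fQ_eq_one_iff _).mpr (Or.inr rfl)
    rcases Qt_cen x.1 x.2 H' with h | h | h | h
    · left
      exact (fQ_eq_one_iff x).mpr (Or.inl (Subtype.ext h))
    · left
      exact (fQ_eq_one_iff x).mpr (Or.inr (Subtype.ext h))
    · right
      exact congrArg fQ (Subtype.ext h)
    · right
      have : x = ⟨nC, nC_mem⟩ * ⟨dC, dC_mem⟩ := Subtype.ext h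
      rw [this, map_mul, hn, one_mul]
  · obtain ⟨x, hx, y, hy, h1, h2⟩ := exists_noncomm
    refine ⟨⟨x, hx⟩, ⟨y, hy⟩, ?_⟩
    intro h
    have h3 : fQ ((⟨x, hx⟩ * ⟨y, hy⟩) * (⟨y, hy⟩ * ⟨x, hx⟩)⁻¹) = 1 := by
      rw [map_mul, map_inv, h, mul_inv_cancel]
    rcases (fQ_eq_one_iff _).mp h3 with h4 | h4
    · apply h1
      have := congrArg Subtype.val (mul_inv_eq_one.mp h4)
      exact this
    · apply h2
      have := congrArg Subtype.val (mul_inv_eq_iff_eq_mul.mp h4)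
      exact this
  · exact card_Q

/-! ### the generalised Fitting subgroup -/

theorem M_inj {m m' : ℕ} (hm : m < 2 ^ 24) (hm' : m' < 2 ^ 24) (h : M m = M m') : m = m' := by
  apply Nat.eq_of_testBit_eq
  intro i
  by_cases hi : i < 24
  · have h1 := mem_M m (unidx i)
    have h2 := mem_M m' (unidx i)
    rw [idx_unidx i hi] at h1 h2
    have h3 : unidx i ∈ M m ↔ unidx i ∈ M m' := by rw [h]
    rw [h1, h2] at h3
    exact Bool.eq_iff_iff.mpr h3
  · have hle : 2 ^ 24 ≤ 2 ^ i := Nat.pow_le_pow_right (by norm_num) (by omega)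
    rw [Nat.testBit_lt_two_pow (lt_of_lt_of_le hm hle),
      Nat.testBit_lt_two_pow (lt_of_lt_of_le hm' hle)]

theorem f_eq_iff (a b : ↥Ct) : f a = f b ↔ a = b ∨ a = nC * b := by
  constructor
  · intro h
    have h1 : f (a * b⁻¹) = 1 := by rw [map_mul, map_inv, h, mul_inv_cancel]
    rcases (f_eq_one_iff _).mp h1 with h2 | h2
    · left; exact mul_inv_eq_one.mp h2
    · right; exact mul_inv_eq_iff_eq_mul.mp h2
  · rintro (h | h)
    · rw [h]
    · rw [h, map_mul, (f_eq_one_iff nC).mpr (Or.inr rfl), one_mul]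

/-- the index of the codeword used below: an octad disjoint from the standard octad -/
def k0 : Fin 64 := ⟨1, by norm_num⟩

theorem dc_k0 : dc k0 = M 337856 := rfl

theorem nC_Ek (m : ℕ) (hc : M m ∈ Code) :
    ∃ hc' : M (16777215 ^^^ m) ∈ Code, nC * EC (M m) hc = EC (M (16777215 ^^^ m)) hc' := by
  have e : M (16777215 ^^^ m) = univ ∆ M m := by rw [M_xor, M_full]
  refine ⟨e ▸ symmDiff_mem_Code univ_code hc, ?_⟩
  unfold nC
  rw [EC_mul]
  exact EC_congr' e.symm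

theorem dC_Ek (m : ℕ) (hc : M m ∈ Code) :
    ∃ hc' : M (ocMask ^^^ m) ∈ Code, dC * EC (M m) hc = EC (M (ocMask ^^^ m)) hc' := by
  have e : M (ocMask ^^^ m) = O8ᶜ ∆ M m := by rw [M_xor, M_ocMask]
  refine ⟨e ▸ symmDiff_mem_Code (compl_mem_Code O8_code) hc, ?_⟩
  unfold dC
  rw [EC_mul]
  exact EC_congr' e.symm

/-- an element of `Ct` whose image is one of the four elements `± E, ± d E` -/
theorem four_cases (m1 m0 : ℕ) (h1 : m1 < 2 ^ 24) (h0 : m0 < 2 ^ 24) (hc1 : M m1 ∈ Code)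
    (hc0 : M m0 ∈ Code)
    (h : f (EC (M m1) hc1) = f (EC (M m0) hc0) ∨ f (EC (M m1) hc1) = f (dC * EC (M m0) hc0)) :
    m1 = m0 ∨ m1 = 16777215 ^^^ m0 ∨ m1 = ocMask ^^^ m0 ∨ m1 = 16777215 ^^^ (ocMask ^^^ m0) := by
  have hx : ∀ a b : ℕ, a < 2 ^ 24 → b < 2 ^ 24 → a ^^^ b < 2 ^ 24 :=
    fun a b ha hb => Nat.xor_lt_two_pow ha hb
  obtain ⟨hd, ed⟩ := dC_Ek m0 hc0
  rcases h with h | h
  · rcases (f_eq_iff _ _).mp h with h2 | h2
    · left
      exact M_inj h1 h0 (EC_inj h2)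
    · right; left
      obtain ⟨hn, en⟩ := nC_Ek m0 hc0
      rw [en] at h2
      exact M_inj h1 (hx _ _ (by norm_num) h0) (EC_inj h2)
  · rw [ed] at h
    rcases (f_eq_iff _ _).mp h with h2 | h2
    · right; right; left
      exact M_inj h1 (hx _ _ (by norm_num [ocMask]) h0) (EC_inj h2)
    · right; right; right
      obtain ⟨hn, en⟩ := nC_Ek (ocMask ^^^ m0) hd
      rw [en] at h2
      exact M_inj h1 (hx _ _ (by norm_num) (hx _ _ (by norm_num [ocMask]) h0)) (EC_inj h2)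

theorem conj_EC (σ : Equiv.Perm GolayPt) (hσ : σ ∈ M24) (h : σ • O8 = O8) (c : Finset GolayPt)
    (hc : c ∈ Code) :
    PC σ hσ h * EC c hc * (PC σ hσ h)⁻¹ = EC (σ • c) (smul_mem_Code hσ hc) := by
  rw [PC_EC, mul_assoc, mul_inv_cancel, mul_one]

theorem t1_smul_k0 : t1 • dc k0 = M 2890176 := by
  rw [dc_k0]
  unfold t1
  rw [tperm_smul_M _ _ _ _ (by decide +kernel)]
  congr 1

theorem Q_isPGroup : IsPGroup 2 ↥Q := IsPGroup.of_card card_Q

theorem quot_simple : IsSimpleGroup (↥Cz ⧸ Q) := by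
  obtain ⟨e⟩ := quot_equiv_P
  have := Cfsg.Agent.Lib.Helper4.O82pMain.simple_aux
  exact e.isSimpleGroup

theorem card_quot_Cz : Nat.card (↥Cz ⧸ Q) = 174182400 := by
  obtain ⟨e⟩ := quot_equiv_P
  rw [Nat.card_congr e.toEquiv, card_P]

theorem quot_not_pGroup : ¬ IsPGroup 2 (↥Cz ⧸ Q) := by
  intro h
  have hfin : Finite (↥Cz ⧸ Q) := by
    apply Nat.finite_of_card_ne_zero
    rw [card_quot_Cz]
    norm_num
  obtain ⟨n, hn⟩ := IsPGroup.iff_card.mp h
  rw [card_quot_Cz] at hn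
  have h3 : 3 ∣ 2 ^ n := by
    rw [← hn]
    norm_num
  have := Nat.Prime.dvd_of_dvd_pow Nat.prime_three h3
  omega

theorem gfs_eq : Cfsg.generalizedFittingSubgroup ↥Cz = Q := by
  apply Cfsg.Agent.Lib.Helper2.UFUnit.UF Q Q_isPGroup quot_simple quot_not_pGroup
    (f (PC t1 t1_mem t1_O8)) (f (Ek k0)) ⟨Ek k0, Ek_mem k0, rfl⟩
  rintro q' ⟨y, hy, rfl⟩ h
  rw [← map_mul, ← map_inv, ← map_mul, ← map_mul, ← map_inv, ← map_mul] at h
  unfold Ek at h
  rw [conj_EC] at h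
  have hE : y * EC (dc k0) (dc_code k0) * y⁻¹ = EC (dc k0) (dc_code k0) ∨
      y * EC (dc k0) (dc_code k0) * y⁻¹ = dC * EC (dc k0) (dc_code k0) := by
    rcases Qt_comm y (Ek k0) hy (Ek_mem k0) with h1 | h1
    · left
      unfold Ek at h1
      rw [h1, mul_assoc, mul_inv_cancel, mul_one]
    · right
      unfold Ek at h1
      rw [h1, mul_assoc, mul_assoc, mul_inv_cancel, mul_one]
  have h5 : f (EC (M 2890176) (t1_smul_k0 ▸ smul_mem_Code t1_mem (dc_code k0)))
      = f (EC (M 337856) (dc_code k0)) ∨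
      f (EC (M 2890176) (t1_smul_k0 ▸ smul_mem_Code t1_mem (dc_code k0)))
      = f (dC * EC (M 337856) (dc_code k0)) := by
    have e1 : EC (t1 • dc k0) (smul_mem_Code t1_mem (dc_code k0))
        = EC (M 2890176) (t1_smul_k0 ▸ smul_mem_Code t1_mem (dc_code k0)) :=
      EC_congr' t1_smul_k0
    rw [← e1, h]
    rcases hE with h2 | h2
    · left; rw [h2]; rfl
    · right; rw [h2]; rfl
  have h6 := four_cases 2890176 337856 (by norm_num) (by norm_num) _ _ h5
  revert h6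
  decide

/-! ### the involution is not weakly closed -/

def lt : List ℕ := [10, 13, 8, 9, 0, 7, 19, 14, 17, 5, 20, 1, 21, 2, 16, 3, 4, 6, 11, 12, 22, 23, 15, 18]
def lt' : List ℕ := [4, 11, 13, 15, 16, 9, 17, 5, 2, 3, 0, 18, 19, 1, 7, 22, 14, 8, 23, 6, 10, 12, 20, 21]

/-- an element of `M24` mapping the standard octad to an octad disjoint from it -/
def tau : Equiv.Perm GolayPt := tperm lt lt' (by decide +kernel) (by decide +kernel)

theorem tau_mem : tau ∈ M24 := tperm_mem _ _ _ _ (by decide +kernel) (by decide +kernel)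

theorem tau_O8 : tau • O8 = dc k0 := by
  rw [dc_k0, O8_eq_M]
  unfold tau
  rw [tperm_smul_M _ _ _ _ (by decide +kernel)]
  congr 1

/-- the conjugating element -/
def gT : ↥Co0 := ⟨prm tau tau_mem, prm_mem tau tau_mem⟩

theorem gT_conj : gT * e0 * gT⁻¹ = (Ek k0).1 := by
  have h1 : gT * e0 = (Ek k0).1 * gT := by
    apply Subtype.ext
    show prm tau tau_mem * eps O8 O8_code = eps (dc k0) (dc_code k0) * prm tau tau_mem
    rw [prm_eps]
    congr 1
    exact eps_congr tau_O8 _ _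
  rw [h1, mul_assoc, mul_inv_cancel, mul_one]

theorem conj_z : (QuotientGroup.mk gT : Cfsg.Spor.Co1) * z * (QuotientGroup.mk gT)⁻¹
    = (f (Ek k0)).1 := by
  rw [f_val, ← gT_conj]
  rfl

theorem conj_z_ne : (QuotientGroup.mk gT : Cfsg.Spor.Co1) * z * (QuotientGroup.mk gT)⁻¹ ≠ z := by
  rw [conj_z]
  intro h
  have h1 : f (Ek k0) = f eC := Subtype.ext h
  have h2 : f (EC (M 337856) (dc_code k0)) = f (EC (M 8536111) O8_code) ∨
      f (EC (M 337856) (dc_code k0)) = f (dC * EC (M 8536111) O8_code) := Or.inl h1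
  have h6 := four_cases 337856 8536111 (by norm_num) (by norm_num) _ _ h2
  revert h6
  decide

/-- the first Conway group satisfies the large extraspecial hypothesis -/
theorem main : ∃ z : Cfsg.Spor.Co1, orderOf z = 2 ∧
    ∃ (Q : Subgroup (Subgroup.centralizer ({z} : Set Cfsg.Spor.Co1))) (_ : Q.Normal),
      Cfsg.generalizedFittingSubgroup (Subgroup.centralizer ({z} : Set Cfsg.Spor.Co1)) = Q ∧
      Cfsg.IsExtraspecial 2 Q ∧ Nat.card Q = 2 ^ 9 ∧
      Nonempty ((Subgroup.centralizer ({z} : Set Cfsg.Spor.Co1)) ⧸ Q ≃*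
        Cfsg.Omega (ZMod 2) (Cfsg.quadFormPlus 4 (ZMod 2))) ∧
      ∃ g : Cfsg.Spor.Co1, (∃ hq : g * z * g⁻¹ ∈ Subgroup.centralizer ({z} : Set Cfsg.Spor.Co1),
        (⟨g * z * g⁻¹, hq⟩ : Subgroup.centralizer ({z} : Set Cfsg.Spor.Co1)) ∈ Q) ∧
        g * z * g⁻¹ ≠ z := by
  refine ⟨z, z_order, Q, Q_normal, gfs_eq, Q_extraspecial, card_Q, quot_equiv_Omega,
    QuotientGroup.mk gT, ⟨?_, ?_⟩, conj_z_ne⟩
  · rw [conj_z]
    exact (f (Ek k0)).2
  · refine ⟨Ek k0, Ek_mem k0, ?_⟩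
    apply Subtype.ext
    exact conj_z.symm

end Cfsg.Agent.Lib.Helper9.Co1g
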