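import Cfsg.Agent.Lib.Helper9.LeechC3

set_option autoImplicit false

/-! Counting lattice vectors of given sum of squares with entries in a prescribed set. -/

namespace Cfsg.Agent.Lib.Helper9.LeechC4

open Cfsg Finset Cfsg.Agent.Lib.Helper4.Leech Cfsg.Agent.Lib.Helper9.LeechC3

/-- the key of a value: `256 * a^2 + (a mod 8)` -/
def kvN (a : ℤ) : ℕ := 256 * a.natAbs ^ 2 + (a % 8).toNat

/-- shift form of the digit sums -/
def GS (U : Finset ℤ) (kv : ℤ → ℕ) (K0 : Finset ℕ) (μ : ℤ) (w : ℕ) : ℕ :=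
  ∑ k ∈ K0.filter (fun k : ℕ => (k : ℤ) % 8 = 4 * μ),
    ((PA U kv (2 ^ 100) μ ^ w * PB U kv (2 ^ 100) μ ^ (24 - w)) >>> (100 * k)) % 2 ^ 100

theorem G_shift (U : Finset ℤ) (kv : ℤ → ℕ) (K0 : Finset ℕ) (μ : ℤ) (w : ℕ) :
    G U kv (2 ^ 100) K0 μ w = GS U kv K0 μ w := by
  unfold G GS
  apply Finset.sum_congr rfl
  intro k _
  rw [Nat.shiftRight_eq_div_pow, pow_mul]

/-- the total over both parities and all weights -/
def TS (U : Finset ℤ) (kv : ℤ → ℕ) (K0 : Finset ℕ) : ℕ :=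
  (GS U kv K0 0 0 + 759 * GS U kv K0 0 8 + 2576 * GS U kv K0 0 12 + 759 * GS U kv K0 0 16
    + GS U kv K0 0 24)
  + (GS U kv K0 1 0 + 759 * GS U kv K0 1 8 + 2576 * GS U kv K0 1 12 + 759 * GS U kv K0 1 16
    + GS U kv K0 1 24)

theorem count_TS (U : Finset ℤ) (kv : ℤ → ℕ) (hkv : ∀ a ∈ U, ((kv a : ℤ) - a) % 8 = 0)
    (K0 : Finset ℕ) (hU : U.card ^ 24 < 2 ^ 100) :
    {x : GolayPt → ℤ | x ∈ leechSet ∧ (∀ i, x i ∈ U) ∧ ∑ i, kv (x i) ∈ K0}.ncard
      = TS U kv K0 := by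
  rw [count_main U kv hkv K0 (2 ^ 100) hU, Finset.sum_insert (by decide), Finset.sum_singleton]
  simp only [G_shift]
  rfl

theorem kvN_congr (a : ℤ) : ((kvN a : ℤ) - a) % 8 = 0 := by
  unfold kvN
  push_cast
  rw [Int.toNat_of_nonneg (Int.emod_nonneg _ (by norm_num))]
  omega

theorem kvN_sum (x : GolayPt → ℤ) :
    ((∑ i, kvN (x i) : ℕ) : ℤ) = 256 * sqNorm x + ∑ i, x i % 8 := by
  unfold sqNorm kvN
  push_cast
  rw [Finset.sum_add_distrib, Finset.mul_sum]
  congr 1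
  · apply Finset.sum_congr rfl
    intro i _
    rw [sq_abs]
  · apply Finset.sum_congr rfl
    intro i _
    rw [Int.toNat_of_nonneg (Int.emod_nonneg _ (by norm_num))]

theorem sum_mod_bounds (x : GolayPt → ℤ) : 0 ≤ ∑ i, x i % 8 ∧ ∑ i, x i % 8 < 256 := by
  constructor
  · apply Finset.sum_nonneg
    intro i _
    exact Int.emod_nonneg _ (by norm_num)
  · calc ∑ i, x i % 8 ≤ ∑ _i : GolayPt, (7 : ℤ) := by
          apply Finset.sum_le_sum
          intro i _
          have := Int.emod_lt_of_pos (x i) (show (0 : ℤ) < 8 by norm_num)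
          omega
      _ = 168 := by
          rw [Finset.sum_const, card_univ, Cfsg.Agent.Lib.Helper9.GolayQR5.card_golayPt]
          norm_num
      _ < 256 := by norm_num

theorem key_iff (x : GolayPt → ℤ) (N : ℕ) :
    ∑ i, kvN (x i) ∈ Ico (256 * N) (256 * N + 256) ↔ sqNorm x = N := by
  have h1 := kvN_sum x
  obtain ⟨h2, h3⟩ := sum_mod_bounds x
  rw [mem_Ico]
  constructor
  · rintro ⟨ha, hb⟩
    have ha' : ((256 * N : ℕ) : ℤ) ≤ ((∑ i, kvN (x i) : ℕ) : ℤ) := by exact_mod_cast ha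
    have hb' : ((∑ i, kvN (x i) : ℕ) : ℤ) < ((256 * N + 256 : ℕ) : ℤ) := by exact_mod_cast hb
    push_cast at ha' hb'
    omega
  · intro h
    have ha' : ((256 * N : ℕ) : ℤ) ≤ ((∑ i, kvN (x i) : ℕ) : ℤ) := by rw [h1]; push_cast; omega
    have hb' : ((∑ i, kvN (x i) : ℕ) : ℤ) < ((256 * N + 256 : ℕ) : ℤ) := by rw [h1]; push_cast; omega
    exact ⟨by exact_mod_cast ha', by exact_mod_cast hb'⟩

theorem card_pow_lt (U : Finset ℤ) (hU : U ⊆ Icc (-8) 8) : U.card ^ 24 < 2 ^ 100 := by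
  have h : U.card ≤ 17 := by
    have := card_le_card hU
    simpa using this
  calc U.card ^ 24 ≤ 17 ^ 24 := Nat.pow_le_pow_left h 24
    _ < 2 ^ 100 := by norm_num

/-- lattice vectors with sum of squares `N` and entries in `U` -/
theorem norm_count (U : Finset ℤ) (hU : U ⊆ Icc (-8) 8) (N : ℕ) :
    {x : GolayPt → ℤ | x ∈ leechLattice ∧ sqNorm x = N ∧ ∀ i, x i ∈ U}.ncard
      = TS U kvN (Ico (256 * N) (256 * N + 256)) := by
  rw [← count_TS U kvN (fun a _ => kvN_congr a) _ (card_pow_lt U hU)]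
  congr 1
  ext x
  simp only [Set.mem_setOf_eq, mem_leechLattice_iff, key_iff]
  tauto

theorem entry_bound (x : GolayPt → ℤ) (N : ℤ) (hN : N ≤ 64) (hx : sqNorm x = N) (i : GolayPt) :
    x i ∈ Icc (-8 : ℤ) 8 := by
  have h1 : x i ^ 2 ≤ sqNorm x := by
    unfold sqNorm
    exact Finset.single_le_sum (f := fun i => x i ^ 2) (fun j _ => sq_nonneg (x j)) (mem_univ i)
  rw [mem_Icc]
  constructor <;> nlinarith

/-- all lattice vectors with sum of squares `N ≤ 64` -/
theorem norm_count_all (N : ℕ) (hN : N ≤ 64) :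
    {x : GolayPt → ℤ | x ∈ leechLattice ∧ sqNorm x = N}.ncard
      = TS (Icc (-8) 8) kvN (Ico (256 * N) (256 * N + 256)) := by
  rw [← norm_count (Icc (-8) 8) (subset_refl _) N]
  congr 1
  ext x
  simp only [Set.mem_setOf_eq]
  constructor
  · rintro ⟨h1, h2⟩
    exact ⟨h1, h2, entry_bound x N (by exact_mod_cast hN) h2⟩
  · rintro ⟨h1, h2, -⟩
    exact ⟨h1, h2⟩

set_option maxRecDepth 100000 in
theorem TS_32 : TS (Icc (-8) 8) kvN (Ico (256 * 32) (256 * 32 + 256)) = 196560 := by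
  decide +kernel

set_option maxRecDepth 100000 in
theorem TS_48 : TS (Icc (-8) 8) kvN (Ico (256 * 48) (256 * 48 + 256)) = 16773120 := by
  decide +kernel

set_option maxRecDepth 100000 in
theorem TS_64 : TS (Icc (-8) 8) kvN (Ico (256 * 64) (256 * 64 + 256)) = 398034000 := by
  decide +kernel

theorem count_32 : {x : GolayPt → ℤ | x ∈ leechLattice ∧ sqNorm x = 32}.ncard = 196560 := by
  have := norm_count_all 32 (by norm_num)
  rw [TS_32] at this
  exact_mod_cast this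

theorem count_48 : {x : GolayPt → ℤ | x ∈ leechLattice ∧ sqNorm x = 48}.ncard = 16773120 := by
  have := norm_count_all 48 (by norm_num)
  rw [TS_48] at this
  exact_mod_cast this

theorem count_64 : {x : GolayPt → ℤ | x ∈ leechLattice ∧ sqNorm x = 64}.ncard = 398034000 := by
  have := norm_count_all 64 (by norm_num)
  rw [TS_64] at this
  exact_mod_cast this

end Cfsg.Agent.Lib.Helper9.LeechC4
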