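import Cfsg.Agent.Lib.Helper9.LeechP3

set_option autoImplicit false

/-! Pairs of minimal vectors with inner product `-16` form a single orbit. -/

namespace Cfsg.Agent.Lib.Helper9.LeechP4

open Cfsg Finset Cfsg.Agent.Lib.Helper4.Leech Cfsg.Agent.Lib.Helper9.Golay1
  Cfsg.Agent.Lib.Helper9.LeechM1 Cfsg.Agent.Lib.Helper9.LeechX4
  Cfsg.Agent.Lib.Helper9.LeechX5 Cfsg.Agent.Lib.Helper9.LeechX6
  Cfsg.Agent.Lib.Helper9.LeechX7 Cfsg.Agent.Lib.Helper9.LeechX8
  Cfsg.Agent.Lib.Helper9.LeechX10 Cfsg.Agent.Lib.Helper9.LeechX11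
  Cfsg.Agent.Lib.Helper9.LeechP1 Cfsg.Agent.Lib.Helper9.LeechP2 Cfsg.Agent.Lib.Helper9.LeechP3
  Cfsg.Agent.Lib.Helper9.LeechC7
open Cfsg.Agent.Lib.Helper9.LeechC2 (fwd bwd par cl mem_lev')

theorem sup2_rA : Sup2 rA := by
  intro i hi
  by_contra hne
  apply hi
  rw [rA_vals, if_neg hne]

theorem sup2_r8 : Sup2 r8 := by
  intro i hi
  by_contra hne
  apply hi
  rw [r8_vals, if_neg (fun h => hne (Or.inl h))]

/-- the structure of an odd minimal vector with an entry `±3` at `p` -/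
theorem odd_abs (x : leechLattice) (p : GolayPt) (h3 : cnt x.1 3 = 1) (h1 : cnt x.1 1 = 23)
    (hp : |x.1 p| = 3) : ∀ i, |x.1 i| = if i = p then 3 else 1 := by
  obtain ⟨q, hq, huniq⟩ := cnt_one x.1 3 h3
  have hcov := cover x.1 {1, 3} (by rw [Finset.sum_pair (by norm_num)]; omega)
  have hpq : p = q := huniq p hp
  intro i
  by_cases hi : i = p
  · rw [if_pos hi, hi, hp]
  · rw [if_neg hi]
    have := hcov i
    simp only [mem_insert, mem_singleton] at this
    rcases this with h | h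
    · exact h
    · exact absurd ((huniq i h).trans hpq.symm) hi

/-- classification of the minimal vectors with entry sum `-4` at the two standard points -/
theorem classify16 (x : leechLattice) (hn : sqNorm x.1 = 32)
    (hs : x.1 none + x.1 (some 0) = -4) :
    (x.1 none = -4 ∧ x.1 (some 0) = 0 ∧ cnt x.1 4 = 2 ∧ cnt x.1 0 = 22) ∨
    (x.1 none = 0 ∧ x.1 (some 0) = -4 ∧ cnt x.1 4 = 2 ∧ cnt x.1 0 = 22) ∨
    (x.1 none = -2 ∧ x.1 (some 0) = -2 ∧ par x.1 = 0 ∧ cnt x.1 2 = 8 ∧ cnt x.1 0 = 16 ∧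
      (cl x.1).card = 8) ∨
    (x.1 none = -3 ∧ x.1 (some 0) = -1 ∧ par x.1 = 1 ∧ cnt x.1 3 = 1 ∧ cnt x.1 1 = 23) ∨
    (x.1 none = -1 ∧ x.1 (some 0) = -3 ∧ par x.1 = 1 ∧ cnt x.1 3 = 1 ∧ cnt x.1 1 = 23) := by
  rcases shapes32 x.1 x.2 hn with ⟨hp, h4, h0⟩ | ⟨hp, h2, h0, hc⟩ | ⟨hp, h3, h1⟩
  · have hcov := cover x.1 {0, 4} (by rw [Finset.sum_pair (by norm_num)]; omega)
    have a := hcov none
    have b := hcov (some 0)
    simp only [mem_insert, mem_singleton] at a b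
    have h6 : (x.1 none = -4 ∧ x.1 (some 0) = 0) ∨ (x.1 none = 0 ∧ x.1 (some 0) = -4) := by
      rcases abs_cases (x.1 none) with ⟨a1, a2⟩ | ⟨a1, a2⟩ <;>
        rcases abs_cases (x.1 (some 0)) with ⟨b1, b2⟩ | ⟨b1, b2⟩ <;> omega
    rcases h6 with ⟨e1, e2⟩ | ⟨e1, e2⟩
    · exact Or.inl ⟨e1, e2, h4, h0⟩
    · exact Or.inr (Or.inl ⟨e1, e2, h4, h0⟩)
  · have hcov := cover x.1 {0, 2} (by rw [Finset.sum_pair (by norm_num)]; omega)
    have a := hcov none
    have b := hcov (some 0)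
    simp only [mem_insert, mem_singleton] at a b
    have h6 : x.1 none = -2 ∧ x.1 (some 0) = -2 := by
      rcases abs_cases (x.1 none) with ⟨a1, a2⟩ | ⟨a1, a2⟩ <;>
        rcases abs_cases (x.1 (some 0)) with ⟨b1, b2⟩ | ⟨b1, b2⟩ <;> omega
    exact Or.inr (Or.inr (Or.inl ⟨h6.1, h6.2, hp, h2, h0, hc⟩))
  · have hcov := cover x.1 {1, 3} (by rw [Finset.sum_pair (by norm_num)]; omega)
    have a := hcov none
    have b := hcov (some 0)
    simp only [mem_insert, mem_singleton] at a b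
    have h6 : (x.1 none = -3 ∧ x.1 (some 0) = -1) ∨ (x.1 none = -1 ∧ x.1 (some 0) = -3) := by
      rcases abs_cases (x.1 none) with ⟨a1, a2⟩ | ⟨a1, a2⟩ <;>
        rcases abs_cases (x.1 (some 0)) with ⟨b1, b2⟩ | ⟨b1, b2⟩ <;> omega
    rcases h6 with ⟨e1, e2⟩ | ⟨e1, e2⟩
    · exact Or.inr (Or.inr (Or.inr (Or.inl ⟨e1, e2, hp, h3, h1⟩)))
    · exact Or.inr (Or.inr (Or.inr (Or.inr ⟨e1, e2, hp, h3, h1⟩)))

theorem rA1_n : rA1.1 none = -4 ∧ rA1.1 (some 0) = 0 := by decide +kernel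
theorem rA2_n : rA2.1 none = 0 ∧ rA2.1 (some 0) = -4 := by decide +kernel
theorem rBm_n : rBm.1 none = -2 ∧ rBm.1 (some 0) = -2 := by decide +kernel

/-- minimal vectors with the same entries at the two standard points, of sum `-4`, are in one
orbit of the group fixing the vectors supported on these two points -/
theorem L1_16 (w w' : leechLattice) (hw : sqNorm w.1 = 32) (hw' : sqNorm w'.1 = 32)
    (hn : w.1 none = w'.1 none) (h0 : w.1 (some 0) = w'.1 (some 0))
    (hs : w.1 none + w.1 (some 0) = -4) : RelF w w' := by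
  have hs' : w'.1 none + w'.1 (some 0) = -4 := by rw [← hn, ← h0]; exact hs
  rcases classify16 w hw hs with ⟨a1, a2, a3, a4⟩ | ⟨a1, a2, a3, a4⟩ | ⟨a1, a2, a3, a4, a5, a6⟩ |
      ⟨a1, a2, a3, a4, a5⟩ | ⟨a1, a2, a3, a4, a5⟩ <;>
    rcases classify16 w' hw' hs' with ⟨b1, b2, b3, b4⟩ | ⟨b1, b2, b3, b4⟩ |
      ⟨b1, b2, b3, b4, b5, b6⟩ | ⟨b1, b2, b3, b4, b5⟩ | ⟨b1, b2, b3, b4, b5⟩ <;>
    first
    | (exfalso; omega)
    | skip
  · have key : ∀ x : leechLattice, x.1 none = -4 → x.1 (some 0) = 0 → cnt x.1 4 = 2 →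
        cnt x.1 0 = 22 → RelF x rA1 := by
      intro x e1 e2 e3 e4
      refine nf_A x rA1 none e3 e4 (Or.inl rfl) (by rw [e1]; rfl) ?_ rA1_abs fixA1
        (by rw [e1, rA1_n.1]) (by rw [e2, rA1_n.2])
      intro q hq hqp
      rcases hq with rfl | rfl
      · exact absurd rfl hqp
      · exact e2
    exact (key w a1 a2 a3 a4).trans (key w' b1 b2 b3 b4).symm
  · have key : ∀ x : leechLattice, x.1 none = 0 → x.1 (some 0) = -4 → cnt x.1 4 = 2 →
        cnt x.1 0 = 22 → RelF x rA2 := by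
      intro x e1 e2 e3 e4
      refine nf_A x rA2 (some 0) e3 e4 (Or.inr rfl) (by rw [e2]; rfl) ?_ rA2_abs fixA2
        (by rw [e1, rA2_n.1]) (by rw [e2, rA2_n.2])
      intro q hq hqp
      rcases hq with rfl | rfl
      · exact e1
      · exact absurd rfl hqp
    exact (key w a1 a2 a3 a4).trans (key w' b1 b2 b3 b4).symm
  · exact (nf_Bm w a3 a4 a5 a6 a1 a2).trans (nf_Bm w' b3 b4 b5 b6 b1 b2).symm
  · refine sign_fix_odd_F w w' a3 b3 (fun i => ?_) hn h0
    rw [odd_abs w none a4 a5 (by rw [a1]; rfl) i, odd_abs w' none b4 b5 (by rw [b1]; rfl) i]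
  · refine sign_fix_odd_F w w' a3 b3 (fun i => ?_) hn h0
    rw [odd_abs w (some 0) a4 a5 (by rw [a2]; rfl) i, odd_abs w' (some 0) b4 b5 (by rw [b2]; rfl) i]

/-- general position: the stabiliser of `v` and `t` is transitive on the vectors with given
inner products -/
theorem gen_pos (s : ℤ) (L1 : ∀ w w' : leechLattice, sqNorm w.1 = 32 → sqNorm w'.1 = 32 →
      w.1 none = w'.1 none → w.1 (some 0) = w'.1 (some 0) → 4 * w.1 none + 4 * w.1 (some 0) = s →
      RelF w w')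
    (v t w w' : leechLattice) (hv : sqNorm v.1 = 32) (ht : sqNorm t.1 = 64)
    (hvt : dotInt v.1 t.1 = 32) (hw : sqNorm w.1 = 32) (hw' : sqNorm w'.1 = 32)
    (hd : dotInt v.1 w.1 = s) (hd' : dotInt v.1 w'.1 = s)
    (he : dotInt t.1 w.1 = dotInt t.1 w'.1) : Rel2 v w v w' := by
  have ha : sqNorm (t - v).1 = 32 := by
    show sqNorm (t.1 - v.1) = 32
    rw [sqNorm_sub, ht, hv]
    have : dotInt t.1 v.1 = 32 := by
      rw [← hvt]; unfold dotInt
      exact Finset.sum_congr rfl (fun i _ => mul_comm _ _)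
    rw [this]; norm_num
  have hva : dotInt v.1 (t - v).1 = 0 := by
    show dotInt v.1 (t.1 - v.1) = 0
    have : dotInt v.1 (t.1 - v.1) = dotInt v.1 t.1 - sqNorm v.1 := by
      unfold dotInt sqNorm
      rw [← Finset.sum_sub_distrib]
      apply Finset.sum_congr rfl
      intro i _
      simp only [Pi.sub_apply]
      ring
    rw [this, hvt, hv]; norm_num
  obtain ⟨k, hk, hkt, hkv⟩ := to_std v (t - v) hv ha hva
  rw [add_sub_cancel] at hkt
  have hx : dotInt rA.1 (k w).1 = s := by rw [← hkv, dot_pres k hk]; exact hd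
  have hx' : dotInt rA.1 (k w').1 = s := by rw [← hkv, dot_pres k hk]; exact hd'
  have h8 : dotInt r8.1 (k w).1 = dotInt r8.1 (k w').1 := by
    rw [← hkt, dot_pres k hk, dot_pres k hk]; exact he
  rw [dot_rA] at hx hx'
  rw [dot_r8, dot_r8] at h8
  obtain ⟨n, hn, hnx, hnf⟩ := L1 (k w) (k w') (by rw [hk.2, hw]) (by rw [hk.2, hw']) (by omega)
    (by omega) hx
  refine ⟨k⁻¹ * n * k, Co0.mul_mem (Co0.mul_mem (Co0.inv_mem hk) hn) hk, ?_, ?_⟩
  · rw [Equiv.Perm.mul_apply, Equiv.Perm.mul_apply, hkv, hnf rA sup2_rA, ← hkv]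
    simp
  · rw [Equiv.Perm.mul_apply, Equiv.Perm.mul_apply, hnx]
    simp

/-! ### representatives of the five classes -/

def Le4 : List ℤ := [0, 0, 0, 4, 0, 0, 0, 0, 0, 0, 0, 0, 0, 0, 0, 0, 0, 0, 0, 0, 0, 0, 0, -4]
def Le0 : List ℤ := [-4, 0, 0, 4, 0, 0, 0, 0, 0, 0, 0, 0, 0, 0, 0, 0, 0, 0, 0, 0, 0, 0, 0, 0]
def Le2 : List ℤ := [-2, 2, -2, -2, 0, 2, 0, 0, 0, 0, 0, 0, 0, 0, 2, 0, 0, 2, 0, 0, 0, 0, 0, -2]
def Le3 : List ℤ := [-1, -1, 1, 1, -1, 1, -1, -1, -1, -1, 1, -1, 1, 1, -1, -1, 1, -1, 1, 1, 1, 1, -1, -3]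
def Le1 : List ℤ := [-3, -1, 1, -1, 1, -1, 1, 1, -1, -1, -1, -1, -1, -1, 1, 1, -1, 1, -1, 1, 1, 1, 1, -1]

theorem Le4_mem : vecL Le4 ∈ leechLattice :=
  mem_of_data _ 0 0 (Or.inl rfl) (by decide +kernel) (by decide +kernel) (by decide +kernel)
theorem Le0_mem : vecL Le0 ∈ leechLattice :=
  mem_of_data _ 0 0 (Or.inl rfl) (by decide +kernel) (by decide +kernel) (by decide +kernel)
theorem Le2_mem : vecL Le2 ∈ leechLattice :=
  mem_of_data _ 0 8536111 (Or.inl rfl) (by decide +kernel) (by decide +kernel) (by decide +kernel)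
theorem Le3_mem : vecL Le3 ∈ leechLattice :=
  mem_of_data _ 1 12399660 (Or.inr rfl) (by decide +kernel) (by decide +kernel) (by decide +kernel)
theorem Le1_mem : vecL Le1 ∈ leechLattice :=
  mem_of_data _ 1 8044757 (Or.inr rfl) (by decide +kernel) (by decide +kernel) (by decide +kernel)

def e4 : leechLattice := ⟨vecL Le4, Le4_mem⟩
def e0 : leechLattice := ⟨vecL Le0, Le0_mem⟩
def e2 : leechLattice := ⟨vecL Le2, Le2_mem⟩
def e3 : leechLattice := ⟨vecL Le3, Le3_mem⟩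
def e1 : leechLattice := ⟨vecL Le1, Le1_mem⟩

theorem L1_16' (w w' : leechLattice) (hw : sqNorm w.1 = 32) (hw' : sqNorm w'.1 = 32)
    (hn : w.1 none = w'.1 none) (h0 : w.1 (some 0) = w'.1 (some 0))
    (hs : 4 * w.1 none + 4 * w.1 (some 0) = -16) : RelF w w' :=
  L1_16 w w' hw hw' hn h0 (by omega)

/-- every minimal vector with inner product `-16` with `(4, 4, 0, …)` is in the orbit of `e4` -/
theorem hub16 (w : leechLattice) (hw : sqNorm w.1 = 32) (hd : dotInt rA.1 w.1 = -16) :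
    Rel2 rA w rA e4 := by
  have hs : w.1 none + w.1 (some 0) = -4 := by
    rw [dot_rA] at hd; omega
  have link : ∀ e : leechLattice, sqNorm e.1 = 32 → dotInt rA.1 e.1 = -16 →
      dotInt r44.1 e.1 = -16 → Rel2 rA e rA e4 := by
    intro e h1 h2 h3
    exact gen_pos (-16) L1_16' rA r44 e e4 (by decide +kernel) (by decide +kernel)
      (by decide +kernel) h1 (by decide +kernel) h2 (by decide +kernel)
      (by rw [h3]; decide +kernel)
  have step : ∀ e : leechLattice, sqNorm e.1 = 32 → w.1 none = e.1 none →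
      w.1 (some 0) = e.1 (some 0) → Rel2 rA w rA e := by
    intro e h1 h2 h3
    exact (L1_16 w e hw h1 h2 h3 hs).rel2 rA sup2_rA
  rcases classify16 w hw hs with ⟨a1, a2, -⟩ | ⟨a1, a2, -⟩ | ⟨a1, a2, -⟩ | ⟨a1, a2, -⟩ |
      ⟨a1, a2, -⟩
  · exact step e4 (by decide +kernel) (by rw [a1]; decide +kernel) (by rw [a2]; decide +kernel)
  · exact (step e0 (by decide +kernel) (by rw [a1]; decide +kernel)
      (by rw [a2]; decide +kernel)).trans
      (link e0 (by decide +kernel) (by decide +kernel) (by decide +kernel))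
  · exact (step e2 (by decide +kernel) (by rw [a1]; decide +kernel)
      (by rw [a2]; decide +kernel)).trans
      (link e2 (by decide +kernel) (by decide +kernel) (by decide +kernel))
  · exact (step e3 (by decide +kernel) (by rw [a1]; decide +kernel)
      (by rw [a2]; decide +kernel)).trans
      (link e3 (by decide +kernel) (by decide +kernel) (by decide +kernel))
  · exact (step e1 (by decide +kernel) (by rw [a1]; decide +kernel)
      (by rw [a2]; decide +kernel)).trans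
      (link e1 (by decide +kernel) (by decide +kernel) (by decide +kernel))

/-- ordered pairs of minimal vectors with inner product `-16` form a single orbit -/
theorem pairs16 (v w v' w' : leechLattice) (hv : sqNorm v.1 = 32) (hw : sqNorm w.1 = 32)
    (hv' : sqNorm v'.1 = 32) (hw' : sqNorm w'.1 = 32) (hd : dotInt v.1 w.1 = -16)
    (hd' : dotInt v'.1 w'.1 = -16) : Rel2 v w v' w' := by
  have key : ∀ v w : leechLattice, sqNorm v.1 = 32 → sqNorm w.1 = 32 → dotInt v.1 w.1 = -16 →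
      Rel2 v w rA e4 := by
    intro v w hv hw hd
    obtain ⟨k, hk, hkv⟩ := trans32 v rA hv (by decide +kernel)
    have h1 : Rel2 v w rA (k w) := ⟨k, hk, hkv, rfl⟩
    refine h1.trans (hub16 (k w) (by rw [hk.2, hw]) ?_)
    rw [← hkv, dot_pres k hk]; exact hd
  exact (key v w hv hw hd).trans (key v' w' hv' hw' hd').symm

end Cfsg.Agent.Lib.Helper9.LeechP4
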