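import Cfsg.Agent.Lib.Helper9.PrimSimple4

set_option autoImplicit false

/-! The normal subgroups of a transitive group with a simple point stabiliser: the cases left
by the arithmetic of the sizes of the classes. -/

namespace Cfsg.Agent.Lib.Helper9.PrimSimple5

open MulAction Cfsg.Agent.Lib.Helper9.PrimSimple2 Cfsg.Agent.Lib.Helper9.PrimSimple3
  Cfsg.Agent.Lib.Helper9.PrimSimple4

variable {G X : Type*} [Group G] [Finite G] [MulAction G X] [Finite X]
variable {ι : Type*} [Fintype ι]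

section
variable (htrans : ∀ y z : X, ∃ g : G, g • y = z)
  (x : X) (C : ι → Set X) (n : ι → ℕ)
  (hcover : ∀ y : X, y = x ∨ ∃ i, y ∈ C i)
  (hx : ∀ i, x ∉ C i)
  (hdisj : ∀ i j, i ≠ j → Disjoint (C i) (C j))
  (hC : ∀ i, ∀ a ∈ C i, ∀ a' ∈ C i, ∃ g : G, g • x = x ∧ g • a = a')
  (hn : ∀ i, (C i).ncard = n i)

include htrans hcover hx hdisj hC hn in
theorem normal_cases (P : Finset ι → Prop)
    (hdiv : ∀ S : Finset ι, (1 + ∑ i ∈ S, n i) ∣ Nat.card X → S = ∅ ∨ S = Finset.univ ∨ P S)
    (hbig : ∃ i, 1 < n i)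
    (hsimple : IsSimpleGroup ↥(MulAction.stabilizer G x))
    (K : Subgroup G) [hKn : K.Normal] :
    K = ⊥ ∨ K = ⊤ ∨ (Disjoint K (MulAction.stabilizer G x) ∧ Nat.card ↥K = Nat.card X) ∨
      ∃ S, P S ∧ orb K x = insert x (⋃ i ∈ S, C i) ∧ (orb K x).ncard = 1 + ∑ i ∈ S, n i := by
  obtain ⟨S, hO, -, hc⟩ := orb_shape x C n hcover hx hdisj hC hn (Nat.card G) rfl K
  have hd : (1 + ∑ i ∈ S, n i) ∣ Nat.card X := hc ▸ orb_card_dvd htrans K x
  rcases hdiv S hd with hS | hS | hS
  · left
    apply fix_trivial htrans x C n hC hn hsimple hbig K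
    rw [hO, hS]
    simp
  · have htr : orb K x = Set.univ := by
      ext y
      simp only [Set.mem_univ, iff_true]
      rw [hO]
      rcases hcover y with h' | ⟨i, hi⟩
      · exact Or.inl h'
      · right
        rw [Set.mem_iUnion₂]
        exact ⟨i, hS ▸ Finset.mem_univ i, hi⟩
    have hn' : (K.subgroupOf (MulAction.stabilizer G x)).Normal := inferInstance
    rcases hsimple.eq_bot_or_eq_top_of_normal _ hn' with h | h
    · right; right; left
      rw [Subgroup.subgroupOf_eq_bot] at h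
      exact ⟨h, by rw [card_of_disjoint K x h, htr, Set.ncard_univ]⟩
    · right; left
      rw [Subgroup.subgroupOf_eq_top] at h
      rw [eq_top_iff]
      intro g _
      have hgx : g • x ∈ orb K x := by rw [htr]; exact Set.mem_univ _
      obtain ⟨k, hk, hkx⟩ := hgx
      have h1 : k⁻¹ * g ∈ MulAction.stabilizer G x := by
        rw [MulAction.mem_stabilizer_iff, mul_smul, inv_smul_eq_iff, hkx]
      have h2 : k⁻¹ * g ∈ K := h h1
      have : g = k * (k⁻¹ * g) := by group
      rw [this]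
      exact K.mul_mem hk h2
  · right; right; right
    exact ⟨S, hS, hO, hc⟩

end

/-- a normal subgroup with two elements is central -/
theorem central_of_card_two (K : Subgroup G) [hKn : K.Normal] (hK : Nat.card ↥K = 2) :
    K ≤ Subgroup.center G := by
  obtain ⟨z, hz1, hzu⟩ := (Nat.card_eq_two_iff' (1 : ↥K)).mp hK
  have hcomm : ∀ g : G, g * z.1 = z.1 * g := by
    intro g
    have hc : g * z.1 * g⁻¹ ∈ K := hKn.conj_mem z.1 z.2 g
    have hne : (⟨g * z.1 * g⁻¹, hc⟩ : ↥K) ≠ 1 := by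
      intro h1
      apply hz1
      have h2 : g * z.1 * g⁻¹ = 1 := congrArg Subtype.val h1
      have h3 : z.1 = 1 := by
        have : z.1 = g⁻¹ * (g * z.1 * g⁻¹) * g := by group
        rw [this, h2]; group
      exact Subtype.ext h3
    have h4 := hzu ⟨g * z.1 * g⁻¹, hc⟩ hne
    have h5 : g * z.1 * g⁻¹ = z.1 := congrArg Subtype.val h4
    calc g * z.1 = g * z.1 * g⁻¹ * g := by group
      _ = z.1 * g := by rw [h5]
  intro k hk
  rw [Subgroup.mem_center_iff]
  intro g
  by_cases h1 : (⟨k, hk⟩ : ↥K) = 1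
  · have : k = 1 := congrArg Subtype.val h1
    rw [this]; simp
  · have := hzu ⟨k, hk⟩ h1
    have hkz : k = z.1 := congrArg Subtype.val this
    rw [hkz]
    exact hcomm g

end Cfsg.Agent.Lib.Helper9.PrimSimple5
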