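import Cfsg.Agent.Lib.Helper9.Co2simple2
import Cfsg.Agent.Lib.Helper9.PrimSimple5
import Cfsg.Agent.Lib.Helper9.LeechC4
import Cfsg.Agent.Lib.Helper9.LeechP4

set_option autoImplicit false

/-! The action of the automorphism group of the lattice on the 196560 minimal vectors. -/

namespace Cfsg.Agent.Lib.Helper9.Co1simple1

open Cfsg Finset Cfsg.Agent.Lib.Helper4.Leech
  Cfsg.Agent.Lib.Helper9.LeechE4 Cfsg.Agent.Lib.Helper9.LeechE5
  Cfsg.Agent.Lib.Helper9.LeechX4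
  Cfsg.Agent.Lib.Helper9.LeechX8
  Cfsg.Agent.Lib.Helper9.LeechX9 Cfsg.Agent.Lib.Helper9.LeechX11
  Cfsg.Agent.Lib.Helper9.LeechP1 Cfsg.Agent.Lib.Helper9.LeechP4 Cfsg.Agent.Lib.Helper9.LeechP6
  Cfsg.Agent.Lib.Helper9.LeechC7
  Cfsg.Agent.Lib.Helper9.PrimSimple2
  Cfsg.Agent.Lib.Helper9.PrimSimple3 Cfsg.Agent.Lib.Helper9.PrimSimple4
  Cfsg.Agent.Lib.Helper9.Co2orba Cfsg.Agent.Lib.Helper9.Co2orbg

/-- the minimal vectors -/
def min2 : SubMulAction ↥Co0 leechLattice where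
  carrier := {y | sqNorm y.1 = 32}
  smul_mem' := by
    rintro g y h
    have hc : g.1 ∈ Co0 := g.2
    show sqNorm (g.1 y).1 = 32
    rw [hc.2, h]

theorem mem_min2 (y : ↥min2) : sqNorm y.1.1 = 32 := y.2

theorem smul_val (g : ↥Co0) (y : ↥min2) : (g • y).1 = g.1 y.1 := rfl

/-- the base point -/
def x0 : ↥min2 := ⟨a3, a3_norm⟩

theorem htrans (y z : ↥min2) : ∃ g : ↥Co0, g • y = z := by
  obtain ⟨g, hg, h⟩ := trans32 y.1 z.1 (mem_min2 y) (mem_min2 z)
  exact ⟨⟨g, hg⟩, Subtype.ext h⟩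

theorem hX : Nat.card ↥min2 = 196560 := by
  have e : Nat.card ↥min2 = ({y : leechLattice | sqNorm y.1 = 32} : Set leechLattice).ncard := rfl
  rw [e, ← Cfsg.Agent.Lib.Helper9.LeechC4.count_32,
    ← Set.ncard_image_of_injective _ Subtype.val_injective]
  congr 1
  ext y
  constructor
  · rintro ⟨z, h1, rfl⟩
    exact ⟨z.2, h1⟩
  · rintro ⟨hm, h1⟩
    exact ⟨⟨y, hm⟩, h1, rfl⟩

instance : Finite ↥min2 := by
  apply Nat.finite_of_card_ne_zero
  rw [hX]
  norm_num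

/-! ### the classes -/

def cval : Fin 6 → ℤ := ![-32, -16, -8, 0, 8, 16]

def cls (i : Fin 6) : Set ↥min2 := {y | dotInt a3.1 y.1.1 = cval i}

def cnt : Fin 6 → ℕ := ![1, 4600, 47104, 93150, 47104, 4600]

theorem cval_ne : ∀ i : Fin 6, cval i ≠ 32 := by decide

theorem cval_inj : ∀ i j : Fin 6, cval i = cval j → i = j := by decide

theorem hx (i : Fin 6) : x0 ∉ cls i := by
  intro h
  have h' : dotInt a3.1 a3.1 = cval i := h
  rw [dot_self, a3_norm] at h'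
  exact cval_ne i h'.symm

theorem hdisj (i j : Fin 6) (hij : i ≠ j) : Disjoint (cls i) (cls j) := by
  rw [Set.disjoint_left]
  intro y hi hj
  have hi' : dotInt a3.1 y.1.1 = cval i := hi
  have hj' : dotInt a3.1 y.1.1 = cval j := hj
  exact hij (cval_inj i j (hi'.symm.trans hj'))

theorem card_sub (d : ℤ) :
    ({y : ↥min2 | dotInt a3.1 y.1.1 = d} : Set ↥min2).ncard =
      {y : GolayPt → ℤ | y ∈ leechLattice ∧ sqNorm y = 32 ∧ dotInt a3.1 y = d}.ncard := by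
  rw [← Set.ncard_image_of_injective _ Subtype.val_injective,
    ← Set.ncard_image_of_injective _ Subtype.val_injective]
  congr 1
  ext y
  constructor
  · rintro ⟨z, ⟨w, hw, rfl⟩, rfl⟩
    exact ⟨w.1.2, mem_min2 w, hw⟩
  · rintro ⟨hm, h1, h3⟩
    exact ⟨⟨y, hm⟩, ⟨⟨⟨y, hm⟩, h1⟩, h3, rfl⟩, rfl⟩

theorem level_neg (d : ℤ) :
    {y : GolayPt → ℤ | y ∈ leechLattice ∧ sqNorm y = 32 ∧ dotInt a3.1 y = d}.ncard =
      {y : GolayPt → ℤ | y ∈ leechLattice ∧ sqNorm y = 32 ∧ dotInt a3.1 y = -d}.ncard := by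
  rw [← Set.ncard_image_of_injective
    {y : GolayPt → ℤ | y ∈ leechLattice ∧ sqNorm y = 32 ∧ dotInt a3.1 y = -d} neg_injective]
  congr 1
  ext y
  simp only [Set.mem_setOf_eq, Set.mem_image]
  constructor
  · rintro ⟨h1, h2, h3⟩
    refine ⟨-y, ⟨leechLattice.neg_mem h1, by rw [sqNorm_neg, h2], by rw [dot_neg_right, h3]⟩,
      neg_neg y⟩
  · rintro ⟨z, ⟨h1, h2, h3⟩, rfl⟩
    exact ⟨leechLattice.neg_mem h1, by rw [sqNorm_neg, h2], by rw [dot_neg_right, h3, neg_neg]⟩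

/-- the opposite of the base point -/
def xn : ↥min2 := ⟨-a3, by
  show sqNorm (-a3.1) = 32
  rw [sqNorm_neg, a3_norm]⟩

theorem cls0_eq : cls 0 = {xn} := by
  ext y
  constructor
  · intro hy
    have hy' : dotInt a3.1 y.1.1 = -32 := hy
    rw [Set.mem_singleton_iff]
    have hn : sqNorm (-y.1).1 = 32 := by
      show sqNorm (-y.1.1) = 32
      rw [sqNorm_neg, mem_min2 y]
    have hd : dotInt a3.1 (-y.1).1 = 32 := by
      show dotInt a3.1 (-y.1.1) = 32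
      rw [dot_neg_right, hy']; norm_num
    have := Cfsg.Agent.Lib.Helper9.Co3simple1.eq_of_dot32 a3 (-y.1) a3_norm hn hd
    apply Subtype.ext
    show y.1 = -a3
    rw [this, neg_neg]
  · intro hy
    rw [Set.mem_singleton_iff] at hy
    rw [hy]
    show dotInt a3.1 (-a3.1) = -32
    rw [dot_neg_right, dot_self, a3_norm]

theorem hn (i : Fin 6) : (cls i).ncard = cnt i := by
  have hc := Cfsg.Agent.Lib.Helper9.LeechD5.census32 a3 a3_norm
  fin_cases i
  · show (cls 0).ncard = 1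
    rw [cls0_eq, Set.ncard_singleton]
  · show ({y : ↥min2 | dotInt a3.1 y.1.1 = -16} : Set ↥min2).ncard = 4600
    rw [card_sub]; exact hc.1
  · show ({y : ↥min2 | dotInt a3.1 y.1.1 = -8} : Set ↥min2).ncard = 47104
    rw [card_sub]; exact hc.2.1
  · show ({y : ↥min2 | dotInt a3.1 y.1.1 = 0} : Set ↥min2).ncard = 93150
    rw [card_sub]; exact hc.2.2
  · show ({y : ↥min2 | dotInt a3.1 y.1.1 = 8} : Set ↥min2).ncard = 47104
    rw [card_sub, level_neg]; exact hc.2.1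
  · show ({y : ↥min2 | dotInt a3.1 y.1.1 = 16} : Set ↥min2).ncard = 4600
    rw [card_sub, level_neg]; exact hc.1

theorem hcover (y : ↥min2) : y = x0 ∨ ∃ i, y ∈ cls i := by
  have hU : (⋃ i ∈ (Finset.univ : Finset (Fin 6)), cls i).ncard = ∑ i, cnt i :=
    ncard_biUnion cls cnt hdisj hn Finset.univ
  have hsum : ∑ i, cnt i = 196559 := by decide
  have hx1 : x0 ∉ ⋃ i ∈ (Finset.univ : Finset (Fin 6)), cls i := by
    rw [Set.mem_iUnion₂]
    rintro ⟨i, -, hi⟩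
    exact hx i hi
  have hall : insert x0 (⋃ i ∈ (Finset.univ : Finset (Fin 6)), cls i) = Set.univ := by
    apply Set.eq_of_subset_of_ncard_le (Set.subset_univ _) _ (Set.toFinite _)
    rw [Set.ncard_insert_of_notMem hx1 (Set.toFinite _), hU, hsum, Set.ncard_univ, hX]
  have hy : y ∈ insert x0 (⋃ i ∈ (Finset.univ : Finset (Fin 6)), cls i) := by
    rw [hall]; exact Set.mem_univ _
  rcases hy with h | h
  · exact Or.inl h
  · rw [Set.mem_iUnion₂] at h
    obtain ⟨i, -, hi⟩ := h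
    exact Or.inr ⟨i, hi⟩

/-- the stabiliser of the base point is transitive on the vectors with a given inner product -/
theorem level_trans (a a' : leechLattice) (ha : sqNorm a.1 = 32) (ha' : sqNorm a'.1 = 32)
    (d : ℤ) (hd : d = -16 ∨ d = -8 ∨ d = 0) (h1 : dotInt a3.1 a.1 = d)
    (h2 : dotInt a3.1 a'.1 = d) : ∃ g ∈ Co0, g a3 = a3 ∧ g a = a' := by
  rcases hd with rfl | rfl | rfl
  · exact pairs16 a3 a a3 a' a3_norm ha a3_norm ha' h1 h2
  · exact pairs8 a3 a a3 a' a3_norm ha a3_norm ha' h1 h2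
  · exact orth_pairs a3 a a' a3_norm ha ha' h1 h2

theorem level_trans_neg (a a' : leechLattice) (ha : sqNorm a.1 = 32) (ha' : sqNorm a'.1 = 32)
    (d : ℤ) (hd : d = -16 ∨ d = -8 ∨ d = 0) (h1 : dotInt a3.1 a.1 = -d)
    (h2 : dotInt a3.1 a'.1 = -d) : ∃ g ∈ Co0, g a3 = a3 ∧ g a = a' := by
  have n1 : sqNorm (-a).1 = 32 := by
    show sqNorm (-a.1) = 32
    rw [sqNorm_neg, ha]
  have n2 : sqNorm (-a').1 = 32 := by
    show sqNorm (-a'.1) = 32
    rw [sqNorm_neg, ha']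
  have d1 : dotInt a3.1 (-a).1 = d := by
    show dotInt a3.1 (-a.1) = d
    rw [dot_neg_right, h1, neg_neg]
  have d2 : dotInt a3.1 (-a').1 = d := by
    show dotInt a3.1 (-a'.1) = d
    rw [dot_neg_right, h2, neg_neg]
  obtain ⟨g, hg, g1, g2⟩ := level_trans (-a) (-a') n1 n2 d hd d1 d2
  refine ⟨g, hg, g1, ?_⟩
  rw [co0_neg g hg] at g2
  exact neg_injective g2

theorem hC (i : Fin 6) (a : ↥min2) (ha : a ∈ cls i) (a' : ↥min2) (ha' : a' ∈ cls i) :
    ∃ g : ↥Co0, g • x0 = x0 ∧ g • a = a' := by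
  have key : ∃ g ∈ Co0, g a3 = a3 ∧ g a.1 = a'.1 := by
    fin_cases i
    · have e1 : a ∈ cls 0 := ha
      have e2 : a' ∈ cls 0 := ha'
      rw [cls0_eq, Set.mem_singleton_iff] at e1 e2
      exact ⟨1, Co0.one_mem, rfl, by rw [e1, e2]; rfl⟩
    · exact level_trans a.1 a'.1 (mem_min2 a) (mem_min2 a') (-16) (Or.inl rfl) ha ha'
    · exact level_trans a.1 a'.1 (mem_min2 a) (mem_min2 a') (-8) (Or.inr (Or.inl rfl)) ha ha'
    · exact level_trans a.1 a'.1 (mem_min2 a) (mem_min2 a') 0 (Or.inr (Or.inr rfl)) ha ha'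
    · exact level_trans_neg a.1 a'.1 (mem_min2 a) (mem_min2 a') (-8) (Or.inr (Or.inl rfl)) ha ha'
    · exact level_trans_neg a.1 a'.1 (mem_min2 a) (mem_min2 a') (-16) (Or.inl rfl) ha ha'
  obtain ⟨g, hg, g1, g2⟩ := key
  exact ⟨⟨g, hg⟩, Subtype.ext g1, Subtype.ext g2⟩

end Cfsg.Agent.Lib.Helper9.Co1simple1
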