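import Cfsg.Agent.Lib.Helper9.LeechM1

set_option autoImplicit false

/-! The centre of the automorphism group of the rank-24 lattice. -/

namespace Cfsg.Agent.Lib.Helper9.LeechM2

open scoped Pointwise
open Cfsg Finset Cfsg.Agent.Lib.Helper4.Leech Cfsg.Agent.Lib.Helper9.LeechC7
  Cfsg.Agent.Lib.Helper9.LeechM1

theorem sqNorm_E (i : GolayPt) : sqNorm (E i : GolayPt → ℤ) = 64 := by
  unfold sqNorm
  rw [Finset.sum_eq_single i]
  · simp [E_val]
  · intro j _ hj
    simp [E_val, Pi.single_eq_of_ne hj]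
  · intro h; exact absurd (mem_univ i) h

theorem eps_E (c : Finset GolayPt) (hc : c ∈ Code) (i : GolayPt) (hi : i ∉ c) :
    eps c hc (E i) = E i := by
  apply Subtype.ext
  funext k
  rw [eps_val]
  by_cases hk : k ∈ c
  · have : k ≠ i := fun h => hi (h ▸ hk)
    simp [hk, E_val, Pi.single_eq_of_ne this]
  · simp [hk]

theorem prm_E (σ : Equiv.Perm GolayPt) (hσ : σ ∈ M24) (i : GolayPt) :
    prm σ hσ (E i) = E (σ i) := by
  apply Subtype.ext
  funext k
  rw [prm_val, E_val, E_val]
  by_cases hk : k = σ i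
  · subst hk; simp
  · have : σ.symm k ≠ i := fun h => hk (by rw [← h]; simp)
    simp [Pi.single_eq_of_ne hk, Pi.single_eq_of_ne this]

theorem comm_apply (z g : ↥Co0) (hz : z ∈ Subgroup.center ↥Co0) (v : leechLattice) :
    g.1 (z.1 v) = z.1 (g.1 v) := by
  have h := Subgroup.mem_center_iff.mp hz g
  have h2 := congrArg (fun k : ↥Co0 => k.1 v) h
  exact h2

theorem central_E (z : ↥Co0) (hz : z ∈ Subgroup.center ↥Co0) (i : GolayPt) :
    ∃ s : ℤ, (s = 1 ∨ s = -1) ∧ z.1 (E i) = s • E i := by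
  have hzero : ∀ j, j ≠ i → (z.1 (E i)).1 j = 0 := by
    intro j hj
    obtain ⟨c, hc, hjc, hic⟩ := sep i j (Ne.symm hj)
    have h : eps c hc (z.1 (E i)) = z.1 (eps c hc (E i)) :=
      comm_apply z ⟨eps c hc, eps_mem c hc⟩ hz (E i)
    rw [eps_E c hc i hic] at h
    have h2 : (eps c hc (z.1 (E i))).1 j = (z.1 (E i)).1 j := by rw [h]
    rw [eps_val, if_pos hjc] at h2
    omega
  have hn : sqNorm ((z.1 (E i)).1) = 64 := by
    rw [z.2.2 (E i)]; exact sqNorm_E i
  have hn2 : sqNorm ((z.1 (E i)).1) = ((z.1 (E i)).1 i) ^ 2 := by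
    unfold sqNorm
    rw [Finset.sum_eq_single i]
    · intro j _ hj
      rw [hzero j hj]; norm_num
    · intro h; exact absurd (mem_univ i) h
  rw [hn2] at hn
  have h8 : (z.1 (E i)).1 i = 8 ∨ (z.1 (E i)).1 i = -8 := by
    have : ((z.1 (E i)).1 i - 8) * ((z.1 (E i)).1 i + 8) = 0 := by ring_nf; omega
    rcases mul_eq_zero.mp this with h | h
    · left; omega
    · right; omega
  rcases h8 with h | h
  · refine ⟨1, Or.inl rfl, ?_⟩
    apply Subtype.ext
    funext j
    by_cases hj : j = i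
    · subst hj; simp [h, E_val]
    · rw [hzero j hj]; simp [E_val, Pi.single_eq_of_ne hj]
  · refine ⟨-1, Or.inr rfl, ?_⟩
    apply Subtype.ext
    funext j
    by_cases hj : j = i
    · subst hj; simp [h, E_val]
    · rw [hzero j hj]; simp [E_val, Pi.single_eq_of_ne hj]

theorem central_sign (z : ↥Co0) (hz : z ∈ Subgroup.center ↥Co0) :
    ∃ s : ℤ, (s = 1 ∨ s = -1) ∧ ∀ i, z.1 (E i) = s • E i := by
  obtain ⟨s, hs, h0⟩ := central_E z hz none
  refine ⟨s, hs, fun i => ?_⟩
  by_cases hi : i = none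
  · rw [hi]; exact h0
  · obtain ⟨t, ht, h1, -⟩ := Cfsg.Agent.Lib.Helper9.M24X10.exists_map_pair none i i none
      (Ne.symm hi) hi
    have h : prm t ht (z.1 (E none)) = z.1 (prm t ht (E none)) :=
      comm_apply z ⟨prm t ht, prm_mem t ht⟩ hz (E none)
    rw [prm_E, h1, h0] at h
    rw [← h]
    have := map_zsmul (toHom (prm t ht) (prm_mem t ht)) s (E none)
    rw [toHom_apply, toHom_apply, prm_E, h1] at this
    exact this

/-- negation as an element of the group -/
def negOne : ↥Co0 := ⟨neg1, neg1_mem⟩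

theorem central_eq (z : ↥Co0) (hz : z ∈ Subgroup.center ↥Co0) : z = 1 ∨ z = negOne := by
  obtain ⟨s, hs, h⟩ := central_sign z hz
  have key : ∀ v : leechLattice, z.1 v = s • v := by
    intro v
    have h1 := apply_eight z.1 z.2 v
    have h2 : ∑ i, v.1 i • z.1 (E i) = s • ((8 : ℤ) • v) := by
      rw [eight_smul, Finset.smul_sum]
      apply Finset.sum_congr rfl
      intro i _
      rw [h i, smul_comm]
    rw [h2] at h1
    apply Subtype.ext
    funext j
    have h3 := congrArg (fun w : leechLattice => w.1 j) h1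
    simp only [AddSubgroup.coe_zsmul, Pi.smul_apply, smul_eq_mul] at h3
    simp only [AddSubgroup.coe_zsmul, Pi.smul_apply, smul_eq_mul]
    rcases hs with rfl | rfl <;> omega
  rcases hs with rfl | rfl
  · left
    apply Subtype.ext
    apply Equiv.ext
    intro v
    rw [key v, one_smul]
    rfl
  · right
    apply Subtype.ext
    apply Equiv.ext
    intro v
    rw [key v]
    show (-1 : ℤ) • v = -v
    simp

theorem negOne_mem_center : negOne ∈ Subgroup.center ↥Co0 := by
  rw [Subgroup.mem_center_iff]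
  intro g
  apply Subtype.ext
  apply Equiv.ext
  intro v
  show g.1 (-v) = -(g.1 v)
  exact map_neg (toHom g.1 g.2) v

theorem negOne_ne_one : negOne ≠ 1 := by
  intro h
  have h2 := congrArg (fun k : ↥Co0 => (k.1 (E none)).1 none) h
  simp only [negOne, neg1_apply] at h2
  have : ((-(E none) : leechLattice) : GolayPt → ℤ) none = -8 := by
    simp [E_val]
  rw [this] at h2
  have : (((1 : ↥Co0).1 (E none) : leechLattice) : GolayPt → ℤ) none = 8 := by
    simp [E_val]
  rw [this] at h2
  omega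

theorem card_center : Nat.card (Subgroup.center ↥Co0) = 2 := by
  rw [Nat.card_eq_two_iff]
  refine ⟨⟨1, Subgroup.one_mem _⟩, ⟨negOne, negOne_mem_center⟩, ?_, ?_⟩
  · intro h
    exact negOne_ne_one (Subtype.ext_iff.mp h).symm
  · ext ⟨z, hz⟩
    simp only [Set.mem_insert_iff, Set.mem_singleton_iff, Set.mem_univ, iff_true, Subtype.mk.injEq]
    exact central_eq z hz

end Cfsg.Agent.Lib.Helper9.LeechM2
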