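import Cfsg.Agent.Lib.Helper9.Co1simple1
import Cfsg.Agent.Lib.Helper9.LeechX12
import Cfsg.Agent.Lib.Helper9.LeechM2

set_option autoImplicit false

/-! The automorphism group of the lattice modulo its centre is simple. -/

namespace Cfsg.Agent.Lib.Helper9.Co1simple2

open Cfsg Finset Cfsg.Agent.Lib.Helper4.Leech
  Cfsg.Agent.Lib.Helper9.LeechE4 Cfsg.Agent.Lib.Helper9.LeechE5
  Cfsg.Agent.Lib.Helper9.LeechX4
  Cfsg.Agent.Lib.Helper9.LeechX8
  Cfsg.Agent.Lib.Helper9.LeechX9 Cfsg.Agent.Lib.Helper9.LeechX11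
  Cfsg.Agent.Lib.Helper9.PrimSimple2
  Cfsg.Agent.Lib.Helper9.PrimSimple3 Cfsg.Agent.Lib.Helper9.PrimSimple4
  Cfsg.Agent.Lib.Helper9.PrimSimple5
  Cfsg.Agent.Lib.Helper9.Co2orba Cfsg.Agent.Lib.Helper9.Co2orbg
  Cfsg.Agent.Lib.Helper9.Co1simple1

instance : Finite ↥Co0 := by
  apply Nat.finite_of_card_ne_zero
  rw [Cfsg.Agent.Lib.Helper9.LeechX12.card_Co0]
  norm_num

theorem stab_eq : MulAction.stabilizer ↥Co0 x0 = Cfsg.Agent.Lib.Helper9.Co2simple1.G2 :=
  SubMulAction.stabilizer_of_subMul x0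

theorem stab_simple : IsSimpleGroup ↥(MulAction.stabilizer ↥Co0 x0) := by
  haveI : IsSimpleGroup ↥Cfsg.Agent.Lib.Helper9.Co2simple1.G2 :=
    Cfsg.Agent.Lib.Helper9.Co2simple2.simple_G2
  exact (MulEquiv.subgroupCongr stab_eq).isSimpleGroup

/-! ### the vectors of sum of squares 48 -/

def min3 : SubMulAction ↥Co0 leechLattice where
  carrier := {y | sqNorm y.1 = 48}
  smul_mem' := by
    rintro g y h
    have hc : g.1 ∈ Co0 := g.2
    show sqNorm (g.1 y).1 = 48
    rw [hc.2, h]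

/-- the base point -/
def u0 : ↥min3 := ⟨rG, rG_norm⟩

theorem htrans3 (y z : ↥min3) : ∃ g : ↥Co0, g • y = z := by
  obtain ⟨g, hg, h⟩ := trans48 y.1 z.1 y.2 z.2
  exact ⟨⟨g, hg⟩, Subtype.ext h⟩

theorem hX3 : Nat.card ↥min3 = 16773120 := by
  have e : Nat.card ↥min3 = ({y : leechLattice | sqNorm y.1 = 48} : Set leechLattice).ncard := rfl
  rw [e, ← Cfsg.Agent.Lib.Helper9.LeechC4.count_48,
    ← Set.ncard_image_of_injective _ Subtype.val_injective]
  congr 1
  ext y
  constructor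
  · rintro ⟨z, h1, rfl⟩
    exact ⟨z.2, h1⟩
  · rintro ⟨hm, h1⟩
    exact ⟨⟨y, hm⟩, h1, rfl⟩

instance : Finite ↥min3 := by
  apply Nat.finite_of_card_ne_zero
  rw [hX3]
  norm_num

theorem stab3_eq : MulAction.stabilizer ↥Co0 u0 = Cfsg.Agent.Lib.Helper9.Co3simple1.G3 :=
  SubMulAction.stabilizer_of_subMul u0

theorem stab3_simple : IsSimpleGroup ↥(MulAction.stabilizer ↥Co0 u0) := by
  haveI : IsSimpleGroup ↥Cfsg.Agent.Lib.Helper9.Co3simple1.G3 :=
    Cfsg.Agent.Lib.Helper9.Co3simple3.simple_G3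
  exact (MulEquiv.subgroupCongr stab3_eq).isSimpleGroup

theorem stab3_card : Nat.card ↥(MulAction.stabilizer ↥Co0 u0) = 495766656000 := by
  rw [Nat.card_congr (MulEquiv.subgroupCongr stab3_eq).toEquiv]
  exact Cfsg.Agent.Lib.Helper9.Co3simple2.card_G3

/-- no normal subgroup has 196560 elements -/
theorem hreg (K : Subgroup ↥Co0) [K.Normal] (hcK : Nat.card ↥K = 196560) : False := by
  have hn' : (K.subgroupOf (MulAction.stabilizer ↥Co0 u0)).Normal := inferInstance
  rcases stab3_simple.eq_bot_or_eq_top_of_normal _ hn' with h | h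
  · rw [Subgroup.subgroupOf_eq_bot] at h
    have h1 := card_of_disjoint K u0 h
    have h2 := orb_card_dvd htrans3 K u0
    rw [← h1, hcK, hX3] at h2
    norm_num at h2
  · rw [Subgroup.subgroupOf_eq_top] at h
    have h3 := Subgroup.card_dvd_of_le h
    rw [hcK, stab3_card] at h3
    norm_num at h3

theorem hdiv : ∀ S : Finset (Fin 6), (1 + ∑ i ∈ S, cnt i) ∣ Nat.card ↥min2 →
    S = ∅ ∨ S = Finset.univ ∨ S = {0} := by
  rw [hX]
  decide

/-- the normal subgroups of the automorphism group -/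
theorem normal_cases_co0 (K : Subgroup ↥Co0) [K.Normal] :
    K = ⊥ ∨ K = ⊤ ∨ K ≤ Subgroup.center ↥Co0 := by
  rcases normal_cases htrans x0 cls cnt hcover hx hdisj hC hn (fun S => S = {0}) hdiv
    ⟨1, by decide⟩ stab_simple K with h | h | ⟨-, hc⟩ | ⟨S, hS, -, hc⟩
  · exact Or.inl h
  · exact Or.inr (Or.inl h)
  · exfalso
    rw [hX] at hc
    exact hreg K hc
  · right; right
    have hS' : S = {0} := hS
    subst hS'
    have hc2 : (orb K x0).ncard = 2 := by
      rw [hc, Finset.sum_singleton]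
      rfl
    have hn' : (K.subgroupOf (MulAction.stabilizer ↥Co0 x0)).Normal := inferInstance
    rcases stab_simple.eq_bot_or_eq_top_of_normal _ hn' with h | h
    · rw [Subgroup.subgroupOf_eq_bot] at h
      have hcK : Nat.card ↥K = 2 := by rw [card_of_disjoint K x0 h, hc2]
      exact central_of_card_two K hcK
    · exfalso
      rw [Subgroup.subgroupOf_eq_top] at h
      have hne : (cls 1).Nonempty := by
        rw [← Set.ncard_pos (Set.toFinite _), hn 1]
        decide
      obtain ⟨a, ha⟩ := hne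
      obtain ⟨g, hg⟩ := htrans x0 a
      have e1 := ncard_orb_smul K g x0
      rw [hg, hc2] at e1
      have e2 := class_subset_orb x0 cls hC K h 1 a ha
      have e3 := Set.ncard_le_ncard e2 (Set.toFinite _)
      rw [hn 1, e1] at e3
      have : cnt 1 = 4600 := rfl
      omega

theorem card_quot : Nat.card (↥Co0 ⧸ Subgroup.center ↥Co0) = 4157776806543360000 := by
  have h1 := Subgroup.index_mul_card (Subgroup.center ↥Co0)
  rw [Cfsg.Agent.Lib.Helper9.LeechM2.card_center, Cfsg.Agent.Lib.Helper9.LeechX12.card_Co0] at h1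
  have h2 : (Subgroup.center ↥Co0).index = Nat.card (↥Co0 ⧸ Subgroup.center ↥Co0) := rfl
  rw [h2] at h1
  omega

theorem co1_simple : IsSimpleGroup (↥Co0 ⧸ Subgroup.center ↥Co0) := by
  have hnt : Nontrivial (↥Co0 ⧸ Subgroup.center ↥Co0) := by
    haveI : Finite (↥Co0 ⧸ Subgroup.center ↥Co0) := by
      apply Nat.finite_of_card_ne_zero
      rw [card_quot]
      norm_num
    rw [← Finite.one_lt_card_iff_nontrivial, card_quot]
    norm_num
  refine ⟨fun H hH => ?_⟩
  have hsurj : Function.Surjective (QuotientGroup.mk' (Subgroup.center ↥Co0)) :=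
    QuotientGroup.mk'_surjective _
  have hmap : (H.comap (QuotientGroup.mk' (Subgroup.center ↥Co0))).map
      (QuotientGroup.mk' (Subgroup.center ↥Co0)) = H :=
    Subgroup.map_comap_eq_self_of_surjective hsurj H
  haveI : (H.comap (QuotientGroup.mk' (Subgroup.center ↥Co0))).Normal := hH.comap _
  rcases normal_cases_co0 (H.comap (QuotientGroup.mk' (Subgroup.center ↥Co0))) with h | h | h
  · left
    rw [← hmap, h, Subgroup.map_bot]
  · right
    rw [← hmap, h, ← MonoidHom.range_eq_map, MonoidHom.range_eq_top]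
    exact hsurj
  · left
    rw [← hmap, eq_bot_iff]
    rintro _ ⟨k, hk, rfl⟩
    rw [Subgroup.mem_bot]
    exact (QuotientGroup.eq_one_iff k).mpr (h hk)

end Cfsg.Agent.Lib.Helper9.Co1simple2
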