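import Cfsg.Agent.Lib.Helper9.Co2d
import Cfsg.Agent.Lib.Helper4.U62Iso

set_option autoImplicit false
set_option maxHeartbeats 0
set_option maxRecDepth 1000000

/-! The point stabiliser of the permutation group of degree 4600 (`Co2a`, the second Conway group on
the 4600 minimal vectors of inner product `-2` with a fixed minimal vector) is isomorphic to the
presented group `PU62p.P.Grp` of helper4 (the unitary group `U₆(2)`): images of the generators
`a, b, w, u, v` are given as words in the tables `24, …, 35` (found off line by matching the actions on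
the 891 maximal totally isotropic subspaces of the unitary space and on a suborbit of length 891), the
relators are checked on the base points. -/

namespace Cfsg.Agent.Lib.Helper9.Co2U62

open Cfsg.Agent.Lib.Helper8.SQ Cfsg.Agent.Lib.Helper8.MatN Cfsg.Agent.Lib.Helper8.FastDec
  Cfsg.Agent.Lib.Helper9.PW Cfsg.Agent.Lib.Helper9.Co2a
  Cfsg.Agent.Lib.Helper4.TC Cfsg.Agent.Lib.Helper4.TC.Log

/-- the fixed point -/
def b0 : Fin 4600 := ⟨2523, by norm_num⟩

/-- the point stabiliser -/
noncomputable def H : Subgroup (Equiv.Perm (Fin 4600)) := fixG K [b0]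

theorem mem_H {g : Equiv.Perm (Fin 4600)} : g ∈ H ↔ g ∈ K ∧ g b0 = b0 := by
  unfold H
  rw [mem_fixG]
  simp

theorem bF_L0 : bF 4600 L0 = b0 := by
  apply Fin.ext
  rw [bF_val (by decide : L0.b < 4600)]
  rfl

theorem tail_sizes : sizesN 4600 [L1, L2, L3, L4] = 9196830720 := by decide +kernel

theorem head_size : cntB 4600 (fun p => !(Nat.beq (L0.lab p) 0)) = 4600 := by decide +kernel

theorem card_H : Nat.card ↥H = 9196830720 := by
  have gf : GensFix K [] [L0, L1, L2, L3, L4] := chain.gf
  have good : Good K [] ([L0, L1, L2, L3, L4].map (pairOf 4600)) := good_of_gensFix _ [] gf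
  obtain ⟨g1, g2⟩ : (∀ p ∈ orbF 4600 L0, ∃ v ∈ fixG K [], v p = bF 4600 L0) ∧
      Good K [bF 4600 L0] ([L1, L2, L3, L4].map (pairOf 4600)) := good
  rw [bF_L0] at g1 g2
  apply le_antisymm
  · obtain ⟨F, hF, -⟩ := step_inj K [] b0 (orbF 4600 L0) g1
    have h1 := Nat.card_le_card_of_injective F hF
    rw [Nat.card_prod, Nat.card_eq_fintype_card, Fintype.card_coe, card_orbF, head_size, fixG_nil,
      card_K] at h1
    have h2 : Nat.card ↥(fixG K [b0]) = Nat.card ↥H := rfl
    omega
  · have h := card_ge K _ [b0] g2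
    rw [sizes_eq, tail_sizes] at h
    exact h

instance : Finite ↥H := Nat.finite_of_card_ne_zero (by rw [card_H]; norm_num)

/-- the words of the ten letters `a, a⁻¹, b, b⁻¹, w, w⁻¹, u, u⁻¹, v, v⁻¹` -/
def LW : List (List ℕ) := [[29, 33, 27, 24, 28, 30, 27, 27, 27, 33, 30, 33, 30, 30],
  [29, 33, 27, 24, 28, 30, 27, 27, 27, 33, 30, 33, 30, 30],
  [26, 32, 27, 29, 24, 27, 29, 28, 29, 27, 31, 32, 32, 30, 30, 30, 33],
  [28, 27, 25, 33, 24, 33, 31, 28, 27, 27, 32, 31, 33, 31, 32],
  [33, 31, 25, 25, 31, 27, 29, 27, 30, 32, 32, 31, 32, 30],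
  [33, 25, 25, 24, 27, 31, 28, 33, 31, 30, 32, 30],
  [31, 27, 32, 27, 24, 27, 28, 31, 31, 27, 31, 30, 30, 33, 30, 31, 33],
  [31, 27, 32, 27, 24, 27, 28, 31, 31, 27, 31, 30, 30, 33, 30, 31, 33],
  [30, 30, 30, 24, 27, 31, 30, 29, 33, 32, 31, 31],
  [31, 24, 29, 25, 24, 31, 33, 29, 33, 27, 33, 30, 32, 32, 31, 32]]

/-- the word of a letter -/
def lw (l : ℕ) : List ℕ := LW.getD l []

/-- the word of a list of letters -/
def expW : List ℕ → List ℕ
  | [] => []
  | l :: L => lw l ++ expW L

theorem lw_fix : ∀ l, l < 10 → evW tabN (lw l) 2523 = 2523 := by decide +kernel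

theorem lw_fix' (l : ℕ) : evW tabN (lw l) 2523 = 2523 := by
  by_cases h : l < 10
  · exact lw_fix l h
  · have : lw l = [] := by
      unfold lw
      rw [List.getD_eq_default]
      have : LW.length = 10 := by decide
      omega
    rw [this]
    rfl

theorem KW_mem_H (l : ℕ) : KW K tabN (lw l) ∈ H := by
  rw [mem_H]
  refine ⟨KW_mem K tabN _, ?_⟩
  apply Fin.ext
  have h := KW_apply allReal (lw l) (by norm_num : 2523 < 4600)
  rw [lw_fix' l] at h
  rw [gN_of_lt _ (by norm_num : 2523 < 4600)] at h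
  exact h

/-- the images of the letters -/
noncomputable def gH (l : ℕ) : ↥H := ⟨KW K tabN (lw l), KW_mem_H l⟩

theorem wordP_gH (L : List ℕ) : (wordP gH L).1 = KW K tabN (expW L) := by
  induction L with
  | nil => exact (KW_nil allReal).symm
  | cons l L ih =>
    rw [wordP_cons, expW, KW_append allReal, ← ih]
    rfl

/-- the relators (and the inverse pairs) hold on the base points -/
theorem rel_chk : ∀ L ∈ PU62p.P.real ++
    [[0, 1], [1, 0], [2, 3], [3, 2], [4, 5], [5, 4], [6, 7], [7, 6], [8, 9], [9, 8]],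
    eqW tabN BASE (expW L) [] = true := by decide +kernel

theorem wordP_eq_one (L : List ℕ) (hL : L ∈ PU62p.P.real ++
    [[0, 1], [1, 0], [2, 3], [3, 2], [4, 5], [5, 4], [6, 7], [7, 6], [8, 9], [9, 8]]) :
    wordP gH L = 1 := by
  apply Subtype.ext
  rw [wordP_gH, KW_eq_of_eqW allReal chain base_ok (rel_chk L hL), KW_nil allReal]
  rfl

theorem a_ne : ∃ x < 4600, evW tabN (lw 0) x ≠ x := by decide +kernel

theorem gH_zero_ne : gH 0 ≠ 1 := by
  intro h
  obtain ⟨x, hx, hne⟩ := a_ne
  apply hne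
  have e : KW K tabN (lw 0) = KW K tabN [] := by
    rw [KW_nil allReal]
    exact congrArg Subtype.val h
  exact ev_eq_of_KW allReal e x hx

theorem exists_hom : ∃ ψ : PU62p.P.Grp →* ↥H, ∀ l, l < 10 → ψ (PU62p.P.gR l) = gH l := by
  apply exists_hom_of_letters PU62p.P PU62p.valid gH
  · intro l hl
    have hl : l < 10 := hl
    have key : ∀ a b : ℕ, [a, b] ∈ PU62p.P.real ++
        [[0, 1], [1, 0], [2, 3], [3, 2], [4, 5], [5, 4], [6, 7], [7, 6], [8, 9], [9, 8]] →
        gH a * gH b = 1 := by
      intro a b hab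
      have := wordP_eq_one [a, b] hab
      rwa [wordP_cons, wordP_cons, wordP_nil, mul_one] at this
    interval_cases l
    · exact key 0 1 (by simp)
    · exact key 1 0 (by simp)
    · exact key 2 3 (by simp)
    · exact key 3 2 (by simp)
    · exact key 4 5 (by simp)
    · exact key 5 4 (by simp)
    · exact key 6 7 (by simp)
    · exact key 7 6 (by simp)
    · exact key 8 9 (by simp)
    · exact key 9 8 (by simp)
  · intro L hL
    exact wordP_eq_one L (List.mem_append_left _ hL)

/-- the point stabiliser is the presented group `U₆(2)` -/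
theorem equiv_H : Nonempty (PU62p.P.Grp ≃* ↥H) := by
  obtain ⟨ψ, hψ⟩ := exists_hom
  obtain ⟨fG, _, hcard⟩ := Cfsg.Agent.Lib.Helper4.U62pMain.order_aux
  have hinj : Function.Injective ψ := by
    apply Cfsg.Agent.Lib.Helper4.RepLib.injective_of_simple
      Cfsg.Agent.Lib.Helper4.U62pMain.simple_aux ψ (PU62p.P.gR 0)
    rw [hψ 0 (by norm_num)]
    exact gH_zero_ne
  have hbij : Function.Bijective ψ := by
    apply hinj.bijective_of_nat_card_le
    rw [hcard, card_H]
  exact ⟨MulEquiv.ofBijective ψ hbij⟩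

end Cfsg.Agent.Lib.Helper9.Co2U62
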