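import Cfsg.Agent.Lib.Helper9.Co2U62
import Cfsg.Agent.Lib.Helper9.LeechP4

set_option autoImplicit false
set_option maxHeartbeats 1000000

/-! The joint stabiliser of two minimal vectors of the Leech lattice with inner product `-2` is the
unitary group `PSU₆(2)`. -/

namespace Cfsg.Agent.Lib.Helper9.Co2U62

open Cfsg Cfsg.Agent.Lib.Helper4.Leech
  Cfsg.Agent.Lib.Helper9.LeechX11 Cfsg.Agent.Lib.Helper9.LeechP1
  Cfsg.Agent.Lib.Helper8.SQ Cfsg.Agent.Lib.Helper8.MatN
  Cfsg.Agent.Lib.Helper9.PW Cfsg.Agent.Lib.Helper9.Co2a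
  Cfsg.Agent.Lib.Helper9.Co2simple1
open Cfsg.Agent.Lib.Helper9.Co2orba (a3)
open Cfsg.Agent.Lib.Helper9.Co2orbg (a3_norm)

/-- conjugating the stabiliser of a pair -/
theorem stab2_conj {G α : Type*} [Group G] [MulAction G α] (g : G) (u v : α) :
    Nonempty (↥(MulAction.stabilizer G u ⊓ MulAction.stabilizer G v) ≃*
      ↥(MulAction.stabilizer G (g • u) ⊓ MulAction.stabilizer G (g • v))) := by
  have hinj : Function.Injective (MulAut.conj g).toMonoidHom := (MulAut.conj g).injective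
  have e : MulAction.stabilizer G (g • u) ⊓ MulAction.stabilizer G (g • v) =
      (MulAction.stabilizer G u ⊓ MulAction.stabilizer G v).map (MulAut.conj g).toMonoidHom := by
    rw [Subgroup.map_inf _ _ _ hinj, MulAction.stabilizer_smul_eq_stabilizer_map_conj,
      MulAction.stabilizer_smul_eq_stabilizer_map_conj]
  rw [e]
  exact ⟨(MulAut.conj g).subgroupMap _⟩

/-- the second vector of the standard pair -/
noncomputable def w0 : leechLattice := (pt b0).1

theorem w0_props : sqNorm w0.1 = 32 ∧ dotInt a3.1 w0.1 = -16 := (pt b0).2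

/-- the stabiliser of the standard pair -/
noncomputable abbrev TS : Subgroup ↥Co0 := MulAction.stabilizer ↥Co0 a3 ⊓ MulAction.stabilizer ↥Co0 w0

theorem mem_TS (g : ↥Co0) : g ∈ TS ↔ g.1 a3 = a3 ∧ g.1 w0 = w0 := by
  show (g ∈ MulAction.stabilizer ↥Co0 a3 ∧ g ∈ MulAction.stabilizer ↥Co0 w0) ↔ _
  rw [MulAction.mem_stabilizer_iff, MulAction.mem_stabilizer_iff]
  rfl

theorem TS_le : TS ≤ G2 := inf_le_left

/-- the action of the stabiliser of the standard pair on the 4600 points -/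
noncomputable def Phi : ↥TS →* Equiv.Perm (Fin 4600) := phi.comp (Subgroup.inclusion TS_le)

theorem Phi_inj : Function.Injective Phi :=
  phi_inj.comp (Subgroup.inclusion_injective TS_le)

theorem Phi_range : Phi.range = H := by
  apply le_antisymm
  · rintro _ ⟨g, rfl⟩
    rw [mem_H]
    constructor
    · have h : phi (Subgroup.inclusion TS_le g) ∈ phi.range := ⟨_, rfl⟩
      rw [range_phi] at h
      exact h
    · apply phi_eq
      apply Subtype.ext
      show g.1.1 (pt b0).1 = (pt b0).1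
      exact ((mem_TS g.1).mp g.2).2
  · intro k hk
    obtain ⟨hkK, hfix⟩ := mem_H.mp hk
    rw [← range_phi] at hkK
    obtain ⟨g', rfl⟩ := hkK
    have h1 : g' • pt b0 = pt b0 := by
      have h2 : e4.symm (g' • e4 b0) = b0 := hfix
      rw [Equiv.symm_apply_eq] at h2
      exact h2
    have hx : g'.1.1 w0 = w0 := congrArg Subtype.val h1
    have ha : g'.1.1 a3 = a3 := (mem_G2 g'.1).mp g'.2
    have hT : g'.1 ∈ TS := (mem_TS g'.1).mpr ⟨ha, hx⟩
    refine ⟨⟨g'.1, hT⟩, ?_⟩
    show phi (Subgroup.inclusion TS_le ⟨g'.1, hT⟩) = phi g'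
    congr 1

theorem TS_equiv_H : Nonempty (↥TS ≃* ↥H) :=
  ⟨(MonoidHom.ofInjective Phi_inj).trans (MulEquiv.subgroupCongr Phi_range)⟩

/-- the joint stabiliser of two minimal vectors with inner product `-16` is `PSU₆(2)` -/
theorem stab_equiv_PSU (v w : leechLattice) (hv : sqNorm v.1 = 32) (hw : sqNorm w.1 = 32)
    (hd : dotInt v.1 w.1 = -16) (F : Type) [Field F] [Fintype F] (hF : Fintype.card F = 4) :
    Nonempty (↥(MulAction.stabilizer ↥Co0 v ⊓ MulAction.stabilizer ↥Co0 w) ≃* Cfsg.PSU 6 F 2) := by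
  obtain ⟨δ, e1, e2⟩ := (Cfsg.Agent.Lib.Helper9.LeechP4.pairs16 v w a3 w0 hv hw a3_norm w0_props.1
    hd w0_props.2).exists_smul
  obtain ⟨f1⟩ := stab2_conj δ v w
  rw [e1, e2] at f1
  obtain ⟨f2⟩ := TS_equiv_H
  obtain ⟨f3⟩ := equiv_H
  obtain ⟨f4⟩ := Cfsg.Agent.Lib.Helper4.U62Iso.iso (F := F) hF
  exact ⟨f1.trans (f2.trans (f3.symm.trans f4))⟩

end Cfsg.Agent.Lib.Helper9.Co2U62
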