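import Cfsg.Agent.Lib.Helper9.Co2a

set_option autoImplicit false
set_option maxRecDepth 100000
set_option maxHeartbeats 0
set_option Elab.async false

/-! The second Conway group on 4600 points: kernel-checked certificates of the tables and of the
stabiliser chain (generated). -/

namespace Cfsg.Agent.Lib.Helper9.Co2a

open Cfsg.Agent.Lib.Helper8.SQ Cfsg.Agent.Lib.Helper8.MatN Cfsg.Agent.Lib.Helper8.FastDec
  Cfsg.Agent.Lib.Helper9.PW

theorem id_ok : allLt 4600 (fun x => Nat.beq (g13 T0 x) x) = true := by decide +kernel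

theorem gen_lt : allLt 4 (fun g => withVal (gtabN g) (fun T => allLt 4600 (fun x => Nat.blt (g13 T x) 4600))) = true := by
  decide +kernel

/-- the words of the two generators in the generators of the stabiliser of the vector -/
def wX : List ℕ := [0, 2, 0, 3]
def wR : List ℕ := [0, 0, 2, 3, 1, 1, 0, 0, 2, 3, 1, 1, 0, 0, 2, 3, 1, 1, 0, 0, 2, 3, 1, 1]

theorem certX : certG tabN gtabN 4600 2 wX = true := by decide +kernel
theorem certR : certG tabN gtabN 4600 1 wR = true := by decide +kernel

theorem cert_3 : certB tabN 4600 3 [2, 2] [] = true := by decide +kernel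
theorem cert_4 : certB tabN 4600 4 [2, 3] [] = true := by decide +kernel
theorem cert_5 : certB tabN 4600 5 [2, 4] [] = true := by decide +kernel
theorem cert_6 : certB tabN 4600 6 [2, 5] [] = true := by decide +kernel
theorem cert_7 : certB tabN 4600 7 [2, 6] [] = true := by decide +kernel
theorem cert_8 : certB tabN 4600 8 [2, 7] [] = true := by decide +kernel
theorem cert_9 : certB tabN 4600 9 [2, 8] [] = true := by decide +kernel
theorem cert_10 : certB tabN 4600 10 [2, 9] [] = true := by decide +kernel
theorem cert_11 : certB tabN 4600 11 [2, 10] [] = true := by decide +kernel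
theorem cert_12 : certB tabN 4600 12 [2, 11] [] = true := by decide +kernel
theorem cert_13 : certB tabN 4600 13 [2, 12] [] = true := by decide +kernel
theorem cert_14 : certB tabN 4600 14 [2, 13] [] = true := by decide +kernel
theorem cert_15 : certB tabN 4600 15 [2, 14] [] = true := by decide +kernel
theorem cert_16 : certB tabN 4600 16 [2, 15] [] = true := by decide +kernel
theorem cert_17 : certB tabN 4600 17 [2, 16] [] = true := by decide +kernel
theorem cert_18 : certB tabN 4600 18 [2, 17] [] = true := by decide +kernel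
theorem cert_19 : certB tabN 4600 19 [2, 18] [] = true := by decide +kernel
theorem cert_20 : certB tabN 4600 20 [2, 19] [] = true := by decide +kernel
theorem cert_21 : certB tabN 4600 21 [2, 20] [] = true := by decide +kernel
theorem cert_22 : certB tabN 4600 22 [2, 21] [] = true := by decide +kernel
theorem cert_23 : certB tabN 4600 23 [2, 22] [] = true := by decide +kernel
theorem cert_24 : certB tabN 4600 24 [1, 10, 1, 18, 1, 5] [11, 1, 2, 1, 3] = true := by decide +kernel
theorem cert_25 : certB tabN 4600 25 [5, 1, 18, 1, 17, 11] [1, 16, 1, 18, 1] = true := by decide +kernel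
theorem cert_26 : certB tabN 4600 26 [1, 15, 1, 22, 1, 14] [19, 1, 4, 1, 17] = true := by decide +kernel
theorem cert_27 : certB tabN 4600 27 [25, 24, 26, 24, 24, 25, 24] [25, 26, 26, 24, 26] = true := by decide +kernel
theorem cert_28 : certB tabN 4600 28 [25, 25, 26, 26, 24, 24, 24, 26, 26] [26, 25, 25, 24, 24, 26, 25] = true := by decide +kernel
theorem cert_29 : certB tabN 4600 29 [24, 26, 25, 24, 24, 24] [24, 25, 24, 26, 25, 26] = true := by decide +kernel
theorem cert_30 : certB tabN 4600 30 [29, 27, 28, 29, 28, 28, 27, 28] [27, 29, 27, 29, 28, 29] = true := by decide +kernel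
theorem cert_31 : certB tabN 4600 31 [27, 29, 28, 27, 27, 27, 27, 27, 29] [28, 28, 29, 29, 28, 28] = true := by decide +kernel
theorem cert_32 : certB tabN 4600 32 [27, 28, 28, 29, 27, 29, 27, 29, 27] [27, 27, 28, 28, 28, 27, 29] = true := by decide +kernel
theorem cert_33 : certB tabN 4600 33 [30, 31, 32, 31, 31, 32, 30, 30] [30, 30, 31, 31, 32, 30, 30, 32] = true := by decide +kernel
theorem cert_34 : certB tabN 4600 34 [32, 32, 31, 32, 31, 31] [30, 30, 32, 32, 30, 32] = true := by decide +kernel
theorem cert_35 : certB tabN 4600 35 [30, 30, 32, 30, 30, 31, 32, 31, 32] [30, 32, 32, 32, 31] = true := by decide +kernel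
theorem cert_36 : certB tabN 4600 36 [] [33, 31, 32, 32, 30, 31, 28, 27, 29, 29, 27, 27, 24, 26, 25, 26, 24, 25, 25, 5, 1, 3] = true := by decide +kernel
theorem cert_37 : certB tabN 4600 37 [33, 32, 30, 31, 32, 30, 32, 27, 27, 27, 29, 28, 27, 24, 25, 24, 25, 25, 24, 26, 24, 8, 1, 12, 1, 9] [] = true := by decide +kernel
theorem cert_38 : certB tabN 4600 38 [33, 32, 30, 30, 29, 29, 28, 28, 27, 28, 26, 26, 26, 24, 25, 26, 2, 1, 14, 1, 21] [] = true := by decide +kernel
theorem cert_39 : certB tabN 4600 39 [30, 30, 31, 30, 32, 31, 29, 28, 28, 27, 29, 27, 28, 26, 24, 5, 1, 9, 1, 3] [] = true := by decide +kernel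
theorem cert_40 : certB tabN 4600 40 [31, 30, 30, 32, 30, 28, 28, 27, 28, 29, 27, 28, 24, 26, 24, 24, 24, 26, 24, 25, 23, 1, 23, 1, 8] [] = true := by decide +kernel
theorem cert_41 : certB tabN 4600 41 [33, 31, 31, 32, 30, 30, 31, 29, 28, 29, 29, 28, 29, 24, 24, 26, 25, 24, 25, 2, 1, 2, 1, 12] [] = true := by decide +kernel
theorem cert_42 : certB tabN 4600 42 [33, 30, 31, 30, 32, 31, 30, 32, 28, 27, 27, 28, 28, 29, 27, 29, 24, 24, 25, 25, 26, 24, 26, 24, 11, 1, 11, 1, 6] [] = true := by decide +kernel
theorem cert_43 : certB tabN 4600 43 [33, 32, 32, 32, 30, 32, 32, 29, 27, 29, 28, 29, 28, 25, 25, 26, 26, 24, 24, 24, 26, 1, 15, 1, 20, 1, 6] [] = true := by decide +kernel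
theorem cert_44 : certB tabN 4600 44 [33, 31, 31, 32, 32, 30, 27, 27, 27, 28, 27, 27, 29, 28, 26, 26, 25, 26, 24, 9, 1, 13, 1, 7] [] = true := by decide +kernel

theorem tab_default : ∀ k, 45 ≤ k → tabN k = tabN 0 := by
  intro k hk
  unfold tabN
  rw [nthR_eq, nthR_eq, List.getD_eq_default _ _ (by simpa [TL] using hk)]
  rfl

theorem lv_ok0 : lvOK 4600 L0 = true := by decide +kernel
theorem lv_ok1 : lvOK 4600 L1 = true := by decide +kernel
theorem lv_ok2 : lvOK 4600 L2 = true := by decide +kernel
theorem lv_ok3 : lvOK 4600 L3 = true := by decide +kernel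
theorem lv_ok4 : lvOK 4600 L4 = true := by decide +kernel

theorem fix_ok : fixOK [] Ls = true := by decide +kernel

theorem sizes_ok : sizesN 4600 Ls = 42305421312000 := by decide +kernel

theorem base_ok : Ls.map (fun L => L.b) = BASE := by decide +kernel

end Cfsg.Agent.Lib.Helper9.Co2a
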