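import Cfsg.Agent.Lib.Helper9.Co3simple2

set_option autoImplicit false

/-! The stabiliser of a vector of sum of squares 48 is simple of order 495766656000. -/

namespace Cfsg.Agent.Lib.Helper9.Co3simple3

open Cfsg Finset Cfsg.Agent.Lib.Helper4.Leech
  Cfsg.Agent.Lib.Helper9.LeechE3
  Cfsg.Agent.Lib.Helper9.LeechE4 Cfsg.Agent.Lib.Helper9.LeechE5 Cfsg.Agent.Lib.Helper9.LeechE8
  Cfsg.Agent.Lib.Helper9.LeechF1
  Cfsg.Agent.Lib.Helper9.LeechX4
  Cfsg.Agent.Lib.Helper9.LeechX8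
  Cfsg.Agent.Lib.Helper9.LeechX9 Cfsg.Agent.Lib.Helper9.LeechX10 Cfsg.Agent.Lib.Helper9.LeechX11
  Cfsg.Agent.Lib.Helper9.LeechP1 Cfsg.Agent.Lib.Helper9.LeechP2
  Cfsg.Agent.Lib.Helper9.LeechP6 Cfsg.Agent.Lib.Helper9.LeechQ2
  Cfsg.Agent.Lib.Helper9.LeechC7 Cfsg.Agent.Lib.Helper9.McL275a Cfsg.Agent.Lib.Helper9.McL275b
  Cfsg.Agent.Lib.Helper9.McL275c Cfsg.Agent.Lib.Helper9.PrimSimple2
  Cfsg.Agent.Lib.Helper9.PrimSimple3 Cfsg.Agent.Lib.Helper9.Co3simple1
  Cfsg.Agent.Lib.Helper9.Co3simple2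

theorem x3_ne_xc : x3 ≠ xc := by
  intro h
  have h0 : xc ∈ cls 0 := by rw [cls0_eq]; rfl
  rw [← h] at h0
  exact hx 0 h0

theorem compl_val (g : ↥G3) : (g • xc).1 = rG - (g • x3).1 := by
  show g.1.1 rBb = rG - g.1.1 rA
  rw [rBb_eq, co0_sub g.1.1 g.1.2, (mem_G3 g.1).mp g.2]

theorem hbad0 (K : Subgroup ↥G3) [hKn : K.Normal]
    (hO : orb K x3 = insert x3 (cls 0)) : False := by
  have hc2 : (orb K x3).ncard = 2 := by
    rw [hO, cls0_eq, Set.ncard_insert_of_notMem (by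
      rw [Set.mem_singleton_iff]; exact x3_ne_xc) (Set.toFinite _), Set.ncard_singleton]
  have hn' : (K.subgroupOf (MulAction.stabilizer ↥G3 x3)).Normal := inferInstance
  rcases stab_simple.eq_bot_or_eq_top_of_normal _ hn' with h | h
  · -- a central involution exchanging each vector with its complement
    rw [Subgroup.subgroupOf_eq_bot] at h
    have hcK : Nat.card ↥K = 2 := by rw [card_of_disjoint K x3 h, hc2]
    obtain ⟨z, hz1, hzu⟩ := (Nat.card_eq_two_iff' (1 : ↥K)).mp hcK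
    have hzx : z.1 • x3 = xc := by
      have hmem : z.1 • x3 ∈ orb K x3 := ⟨z.1, z.2, rfl⟩
      rw [hO, cls0_eq] at hmem
      rcases hmem with h' | h'
      · exfalso
        apply hz1
        have : z.1 ∈ K ⊓ MulAction.stabilizer ↥G3 x3 :=
          ⟨z.2, MulAction.mem_stabilizer_iff.mpr h'⟩
        rw [disjoint_iff.mp h, Subgroup.mem_bot] at this
        exact Subtype.ext this
      · exact h'
    have hcomm : ∀ g : ↥G3, g * z.1 = z.1 * g := by
      intro g
      have hc : g * z.1 * g⁻¹ ∈ K := hKn.conj_mem z.1 z.2 g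
      have hne : (⟨g * z.1 * g⁻¹, hc⟩ : ↥K) ≠ 1 := by
        intro h1
        apply hz1
        have h2 : g * z.1 * g⁻¹ = 1 := congrArg Subtype.val h1
        have h3 : z.1 = 1 := by
          have : z.1 = g⁻¹ * (g * z.1 * g⁻¹) * g := by group
          rw [this, h2]; group
        exact Subtype.ext h3
      have h4 := hzu ⟨g * z.1 * g⁻¹, hc⟩ hne
      have h5 : g * z.1 * g⁻¹ = z.1 := congrArg Subtype.val h4
      calc g * z.1 = g * z.1 * g⁻¹ * g := by group
        _ = z.1 * g := by rw [h5]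
    apply no_swap z.1.1.1 z.1.1.2 ((mem_G3 z.1.1).mp z.1.2)
    intro y h1 h2
    obtain ⟨g, hg⟩ := htrans x3 ⟨y, h1, h2⟩
    have e1 : z.1 • (g • x3) = g • xc := by
      rw [← mul_smul, ← hcomm g, mul_smul, hzx]
    have e2 := congrArg Subtype.val e1
    rw [compl_val g, hg] at e2
    exact e2
  · rw [Subgroup.subgroupOf_eq_top] at h
    obtain ⟨g, hg⟩ := htrans x3 (mk1 y1 y1_S)
    have e1 := ncard_orb_smul K g x3
    rw [hg, hc2] at e1
    have e2 := class_subset_orb x3 cls hC K h 1 (mk1 y1 y1_S) (mk1_mem y1 y1_S)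
    have e3 := Set.ncard_le_ncard e2 (Set.toFinite _)
    rw [hn 1, e1] at e3
    have : Co3simple1.cnt 1 = 275 := rfl
    omega

theorem hbad (S : Finset (Fin 3)) (hS : Bad S) (K : Subgroup ↥G3) (hKn : K.Normal)
    (hO : orb K x3 = insert x3 (⋃ i ∈ S, cls i)) : False := by
  rcases hS with rfl | rfl | rfl
  · rw [Finset.set_biUnion_singleton] at hO
    exact hbad0 K hO
  · rw [Finset.set_biUnion_singleton] at hO
    refine block_contra K 1 hO (mk1 y1 y1_S) (mk1 y3 y3_S) (mk1_mem _ _) (mk1_mem _ _) ?_ ?_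
    · show dotInt y1.1 y3.1 ≠ 32
      rw [y1_y3]; norm_num
    · show dotInt y1.1 y3.1 ≠ 16
      rw [y1_y3]; norm_num
  · rw [Finset.set_biUnion_singleton] at hO
    refine block_contra K 2 hO (mk2 y1 y1_S) (mk2 z1 z1_S) (mk2_mem _ _) (mk2_mem _ _) ?_ ?_
    · rw [mk2_dot, y1_z1]; norm_num
    · rw [mk2_dot, y1_z1]
      show (16 : ℤ) ≠ 8
      norm_num

theorem hreg (K : Subgroup ↥G3) (hKn : K.Normal)
    (hd : Disjoint K (MulAction.stabilizer ↥G3 x3)) (hcK : Nat.card ↥K = Nat.card ↥co3Sub) :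
    False := by
  rw [hX] at hcK
  obtain ⟨P, hPc, hP⟩ := Cfsg.Agent.Lib.Helper9.Ord552.exists_char hcK
  haveI := hPc
  have hPn : (P.map K.subtype).Normal := inferInstance
  have hcM : Nat.card ↥(P.map K.subtype) = Nat.card ↥P :=
    Subgroup.card_map_of_injective K.subtype_injective
  have hle : P.map K.subtype ≤ K := by
    rintro _ ⟨p, -, rfl⟩
    exact p.2
  have hd' : Disjoint (P.map K.subtype) (MulAction.stabilizer ↥G3 x3) := hd.mono_left hle
  obtain ⟨S, -, -, hc⟩ := orb_shape x3 cls Co3simple1.cnt hcover hx hdisj hC hn 495766656000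
    card_G3 (P.map K.subtype)
  rw [← card_of_disjoint _ x3 hd', hcM] at hc
  obtain ⟨n1, n2⟩ := no_small S
  rcases hP with h | h
  · rw [h] at hc; exact n1 hc.symm
  · rw [h] at hc; exact n2 hc.symm

theorem simple_G3 : IsSimpleGroup ↥G3 := by
  have hnt : Nontrivial ↥G3 := by
    rw [← Finite.one_lt_card_iff_nontrivial, card_G3]
    norm_num
  exact simple_of_prim' htrans x3 cls Co3simple1.cnt hcover hx hdisj hC hn 495766656000 card_G3
    Bad hdiv hbad ⟨1, by decide⟩ hnt hreg stab_simple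

/-- conjugating a point stabiliser -/
noncomputable def stabConjEquiv {G α : Type*} [Group G] [MulAction G α] (γ : G) (a : α) :
    ↥(MulAction.stabilizer G a) ≃* ↥(MulAction.stabilizer G (γ • a)) :=
  ((MulAut.conj γ).subgroupMap _).trans (MulEquiv.subgroupCongr
    (MulAction.stabilizer_smul_eq_stabilizer_map_conj γ a).symm)

theorem co3_general (v : leechLattice) (hv : sqNorm v.1 = 48) :
    IsSimpleGroup ↥(MulAction.stabilizer ↥Co0 v) ∧
      Nat.card ↥(MulAction.stabilizer ↥Co0 v) = 495766656000 := by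
  obtain ⟨g, hg, g1⟩ := trans48 v rG hv rG_norm
  let γ : ↥Co0 := ⟨g, hg⟩
  have e1 : γ • v = rG := g1
  have e := stabConjEquiv γ v
  rw [e1] at e
  haveI : IsSimpleGroup ↥G3 := simple_G3
  exact ⟨e.isSimpleGroup, (Nat.card_congr e.toEquiv).trans card_G3⟩

end Cfsg.Agent.Lib.Helper9.Co3simple3
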