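import Cfsg.Agent.Lib.Helper9.Co2b
import Cfsg.Agent.Lib.Helper9.Co2c
import Cfsg.Agent.Lib.Helper9.Co3simple3
import Cfsg.Prelude.Def_Spor_Conway

set_option autoImplicit false
set_option maxHeartbeats 0
set_option maxRecDepth 1000000

/-! The stabiliser of the standard minimal vector acts on the 4600 minimal vectors with inner
product `-16` with it; the images of two of its elements generate a permutation group of degree
4600 of the same order, with a verified stabiliser chain; the second Conway group of the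
definitions is isomorphic to it. -/

namespace Cfsg.Agent.Lib.Helper9.Co2a

open Cfsg Finset Cfsg.Agent.Lib.Helper4.Leech Cfsg.Agent.Lib.Helper9.Golay1
  Cfsg.Agent.Lib.Helper9.LeechM1 Cfsg.Agent.Lib.Helper9.LeechX4
  Cfsg.Agent.Lib.Helper9.LeechX5 Cfsg.Agent.Lib.Helper9.LeechX7 Cfsg.Agent.Lib.Helper9.LeechX8
  Cfsg.Agent.Lib.Helper9.LeechX9 Cfsg.Agent.Lib.Helper9.LeechX11
  Cfsg.Agent.Lib.Helper9.LeechE3 Cfsg.Agent.Lib.Helper9.LeechE4 Cfsg.Agent.Lib.Helper9.LeechE5
  Cfsg.Agent.Lib.Helper9.LeechC7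
  Cfsg.Agent.Lib.Helper9.GolayQR1 Cfsg.Agent.Lib.Helper9.GolayQR3
  Cfsg.Agent.Lib.Helper9.M24U1 Cfsg.Agent.Lib.Helper9.M24T5 Cfsg.Agent.Lib.Helper9.M24T1
  Cfsg.Agent.Lib.Helper9.M24X1 Cfsg.Agent.Lib.Helper9.OrbCert1 Cfsg.Agent.Lib.Helper9.OrbCert3
  Cfsg.Agent.Lib.Helper8.SQ Cfsg.Agent.Lib.Helper8.MatN Cfsg.Agent.Lib.Helper8.FastDec
  Cfsg.Agent.Lib.Helper9.PW
  Cfsg.Agent.Lib.Helper9.Co2simple1 Cfsg.Agent.Lib.Helper9.Co2simple2
open Cfsg.Agent.Lib.Helper9.LeechX1 (xiFun)
open Cfsg.Agent.Lib.Helper9.Co2orba (a3 sa sb ss sa_mem sb_mem ss_mem FA FB FC GC cA cB cC tabA tabB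
  FA_a3 FB_a3 FC_a3)
open Cfsg.Agent.Lib.Helper9.Co2orbg (a3_norm)

/-- the elements of the stabiliser of the base vector -/
def Good (n : Equiv.Perm leechLattice) : Prop := n ∈ Co0 ∧ n a3 = a3

/-- the four generators -/
def gen : ℕ → Equiv.Perm leechLattice
  | 0 => prm sa sa_mem
  | 1 => prm sb sb_mem
  | 2 => xi * prm ss ss_mem * xi
  | _ => prm st st_mem

theorem gen_good (g : ℕ) : Good (gen g) := by
  match g with
  | 0 => exact ⟨prm_mem sa sa_mem, Subtype.ext (funext FA_a3)⟩
  | 1 => exact ⟨prm_mem sb sb_mem, Subtype.ext (funext FB_a3)⟩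
  | 2 => exact ⟨Co0.mul_mem (Co0.mul_mem xi_mem (prm_mem ss ss_mem)) xi_mem,
      Subtype.ext (funext FC_a3)⟩
  | (k + 3) => exact ⟨prm_mem st st_mem, Subtype.ext (funext FS_a3)⟩

theorem step_spec (g p c : ℕ) (h : stepOK g p c = true) (v : leechLattice) (hv : v.1 = vecN p) :
    ((gen g) v).1 = vecN c := by
  match g, h with
  | 0, h =>
    have : ((gen 0) v).1 = FA v.1 := rfl
    rw [this, hv]
    exact perm_step tabA cA p c h
  | 1, h =>
    have : ((gen 1) v).1 = FB v.1 := rfl
    rw [this, hv]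
    exact perm_step tabB cB p c h
  | 2, h =>
    have : ((gen 2) v).1 = FC v.1 := rfl
    rw [this, hv]
    exact gen_step cC p c h
  | (k + 3), h =>
    have : ((gen (k + 3)) v).1 = FS v.1 := rfl
    rw [this, hv]
    exact perm_step tabS cS p c h

/-- the set of the 4600 vectors, as functions -/
def S4 : Set (GolayPt → ℤ) := {w | w ∈ leechLattice ∧ sqNorm w = 32 ∧ dotInt a3.1 w = -16}

theorem S4_card : S4.ncard = 4600 := (Cfsg.Agent.Lib.Helper9.LeechD5.census32 a3 a3_norm).1

theorem S4_inv (n : Equiv.Perm leechLattice) (hn : Good n) (y : leechLattice) (hy : y.1 ∈ S4) :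
    (n y).1 ∈ S4 := by
  obtain ⟨-, h2, h3⟩ := hy
  refine ⟨(n y).2, by rw [hn.1.2, h2], ?_⟩
  have := dot_pres n hn.1 a3 y
  rw [hn.2] at this
  rw [this, h3]

theorem act_ok (g : ℕ) (hg : g < 4) : ∀ i < 4600, actP g i = true := by
  interval_cases g
  · exact act_ok_0
  · exact act_ok_1
  · exact act_ok_2
  · exact act_ok_3

theorem trGen_lt (m : ℕ) : trGen m < 4 := by
  unfold trGen
  exact Nat.lt_succ_of_le Nat.and_le_right

theorem root_mem : vecN (cE ROOT) ∈ S4 := by
  rw [funext root_eq]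
  exact ⟨rootV.2, root_norm, root_dot⟩

theorem mem_all : ∀ m < 4600, vecN (cE m) ∈ S4 := by
  have key : ∀ d m, trDep m = d → m < 4600 → vecN (cE m) ∈ S4 := by
    intro d
    induction d using Nat.strong_induction_on with
    | _ d ih =>
      intro m hd hm
      have h := (allLt_iff _ _).mp tree_ok' m hm
      unfold treeP at h
      rw [Bool.or_eq_true, Bool.and_eq_true, Bool.and_eq_true, Nat.blt_eq] at h
      rcases h with h | ⟨⟨h1, h2⟩, h3⟩
      · rw [Nat.eq_of_beq_eq_true h]
        exact root_mem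
      · have h2' : Nat.succ (trDep (trPar m)) = trDep m := Nat.eq_of_beq_eq_true h2
        have h3' := Nat.eq_of_beq_eq_true h3
        have hp := ih (trDep (trPar m)) (by omega) (trPar m) rfl h1
        have hs := act_ok (trGen m) (trGen_lt m) (trPar m) h1
        unfold actP at hs
        rw [h3'] at hs
        have := step_spec _ _ _ hs ⟨_, hp.1⟩ rfl
        rw [← this]
        exact S4_inv _ (gen_good _) ⟨_, hp.1⟩ hp
  intro m hm
  exact key _ m rfl hm

/-! ### the action -/

/-- the 4600 vectors as a set with an action of the stabiliser -/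
def co2bSub : SubMulAction ↥G2 leechLattice where
  carrier := {y | sqNorm y.1 = 32 ∧ dotInt a3.1 y.1 = -16}
  smul_mem' := by
    rintro g y ⟨h1, h2⟩
    have hg := (mem_G2 g.1).mp g.2
    have hc : g.1.1 ∈ Co0 := g.1.2
    show sqNorm (g.1.1 y).1 = 32 ∧ dotInt a3.1 (g.1.1 y).1 = -16
    refine ⟨by rw [hc.2, h1], ?_⟩
    have := dot_pres g.1.1 hc a3 y
    rw [hg] at this
    rw [this, h2]

theorem hXb : Nat.card ↥co2bSub = 4600 := by
  have e : Nat.card ↥co2bSub =
      ({y : leechLattice | sqNorm y.1 = 32 ∧ dotInt a3.1 y.1 = -16} : Set leechLattice).ncard := rfl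
  rw [e, ← S4_card, ← Set.ncard_image_of_injective _ Subtype.val_injective]
  congr 1
  ext y
  constructor
  · rintro ⟨z, ⟨h1, h2⟩, rfl⟩
    exact ⟨z.2, h1, h2⟩
  · rintro ⟨hm, h1, h2⟩
    exact ⟨⟨y, hm⟩, ⟨h1, h2⟩, rfl⟩

instance : Finite ↥co2bSub := Nat.finite_of_card_ne_zero (by rw [hXb]; norm_num)

/-- the points -/
noncomputable def pt (i : Fin 4600) : ↥co2bSub :=
  ⟨⟨vecN (cE i.1), (mem_all i.1 i.2).1⟩, (mem_all i.1 i.2).2⟩

theorem pt_val (i : Fin 4600) : (pt i).1.1 = vecN (cE i.1) := rfl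

theorem cE_mono {i j : ℕ} (hj : j < 4600) (hij : i < j) : cE i < cE j := by
  induction j with
  | zero => exact absurd hij (Nat.not_lt_zero _)
  | succ j ih =>
    have h1 := (allLt_iff _ _).mp C_mono' j (by omega)
    rw [Nat.blt_eq] at h1
    rcases Nat.lt_succ_iff_lt_or_eq.mp hij with h | rfl
    · exact lt_trans (ih (by omega) h) h1
    · exact h1

theorem cE_lt (i : ℕ) (hi : i < 4600) : cE i < 79228162514264337593543950336 := by
  have := (allLt_iff _ _).mp C_lt' i hi
  rwa [Nat.blt_eq] at this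

theorem pt_inj : Function.Injective pt := by
  intro i j h
  have h1 : vecN (cE i.1) = vecN (cE j.1) := by
    rw [← pt_val, ← pt_val, h]
  have h2 : cE i.1 = cE j.1 := by
    apply code_inj _ _ (cE_lt i.1 i.2) (cE_lt j.1 j.2)
    intro k hk
    rw [← vecN_unidx _ k hk, ← vecN_unidx _ k hk, h1]
  apply Fin.ext
  rcases Nat.lt_trichotomy i.1 j.1 with h3 | h3 | h3
  · exact absurd h2 (ne_of_lt (cE_mono j.2 h3))
  · exact h3
  · exact absurd h2.symm (ne_of_lt (cE_mono i.2 h3))

theorem pt_bij : Function.Bijective pt := by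
  apply Function.Injective.bijective_of_nat_card_le pt_inj
  rw [hXb, Nat.card_eq_fintype_card, Fintype.card_fin]

/-- the numbering of the points -/
noncomputable def e4 : Fin 4600 ≃ ↥co2bSub := Equiv.ofBijective pt pt_bij

theorem e4_apply (i : Fin 4600) : e4 i = pt i := rfl

/-- the action on the numbers of the points -/
noncomputable def phi : ↥G2 →* Equiv.Perm (Fin 4600) :=
  (e4.symm.permCongrHom : Equiv.Perm ↥co2bSub ≃* Equiv.Perm (Fin 4600)).toMonoidHom.comp
    (MulAction.toPermHom ↥G2 ↥co2bSub)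

theorem phi_eq (g : ↥G2) (i j : Fin 4600) (h : g • pt i = pt j) : phi g i = j := by
  show e4.symm (g • (e4.symm.symm i)) = j
  rw [Equiv.symm_symm, e4_apply, h, ← e4_apply, Equiv.symm_apply_apply]

/-- the generators in the stabiliser -/
def genG (g : ℕ) : ↥G2 := mkG (gen g) (gen_good g).1 (gen_good g).2

theorem gen_tab_lt {g : ℕ} (hg : g < 4) {x : ℕ} (hx : x < 4600) : g13 (gtabN g) x < 4600 := by
  have h := (allLt_iff _ _).mp gen_lt g hg
  rw [withVal_eq, allLt_iff] at h
  have := h x hx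
  rwa [Nat.blt_eq] at this

theorem gN_phi_gen (g : ℕ) (hg : g < 4) (x : ℕ) (hx : x < 4600) :
    gN (phi (genG g)) x = g13 (gtabN g) x := by
  rw [gN_of_lt _ hx]
  have := phi_eq (genG g) ⟨x, hx⟩ ⟨g13 (gtabN g) x, gen_tab_lt hg hx⟩ (by
    apply Subtype.ext
    apply Subtype.ext
    show ((gen g) (pt ⟨x, hx⟩).1).1 = vecN (cE (g13 (gtabN g) x))
    exact step_spec g _ _ (act_ok g hg x hx) (pt ⟨x, hx⟩).1 rfl)
  rw [this]

/-- the product of the generators of a word -/
def wordG : List ℕ → ↥G2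
  | [] => 1
  | k :: w => genG k * wordG w

theorem gN_phi_word : ∀ w : List ℕ, (∀ k ∈ w, k < 4) → ∀ x, x < 4600 →
    gN (phi (wordG w)) x = evW gtabN w x := by
  intro w
  induction w with
  | nil =>
    intro _ x _
    show gN (phi 1) x = x
    rw [map_one, gN_one]
  | cons k w ih =>
    intro hw x hx
    show gN (phi (genG k * wordG w)) x = _
    rw [map_mul, gN_mul, evW_cons, ← ih (fun k' hk' => hw k' (List.mem_cons_of_mem _ hk')) x hx]
    exact gN_phi_gen k (hw k List.mem_cons_self) _ (gN_lt _ hx)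

/-- the element of order `23` -/
noncomputable def x0 : Equiv.Perm (Fin 4600) := phi (wordG wX)

/-- the involution -/
noncomputable def r0 : Equiv.Perm (Fin 4600) := phi (wordG wR)

theorem gN_x0 (x : ℕ) (hx : x < 4600) : gN x0 x = g13 (tabN 2) x := by
  unfold x0
  rw [gN_phi_word wX (by decide) x hx]
  exact (certG_spec tabN certX x hx).symm

theorem gN_r0 (x : ℕ) (hx : x < 4600) : gN r0 x = g13 (tabN 1) x := by
  unfold r0
  rw [gN_phi_word wR (by decide) x hx]
  exact (certG_spec tabN certR x hx).symm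

/-- the permutation group -/
noncomputable def K : Subgroup (Equiv.Perm (Fin 4600)) := Subgroup.closure {x0, r0}

theorem x0_mem : x0 ∈ K := Subgroup.subset_closure (Set.mem_insert _ _)

theorem r0_mem : r0 ∈ K := Subgroup.subset_closure (Set.mem_insert_of_mem _ rfl)

instance : NeZero 4600 := ⟨by norm_num⟩

theorem realTo_3 : RealTo K tabN 3 := by
  intro k hk
  interval_cases k
  · refine ⟨1, K.one_mem, fun x hx => ?_⟩
    rw [gN_one]
    exact (Nat.eq_of_beq_eq_true ((allLt_iff _ _).mp id_ok x hx)).symm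
  · exact ⟨r0, r0_mem, gN_r0⟩
  · exact ⟨x0, x0_mem, gN_x0⟩

theorem realTo_45 : RealTo K tabN 45 := by
  have h3 := realTo_3
  have h4 := realTo_succ tabN h3 _ _ cert_3
  have h5 := realTo_succ tabN h4 _ _ cert_4
  have h6 := realTo_succ tabN h5 _ _ cert_5
  have h7 := realTo_succ tabN h6 _ _ cert_6
  have h8 := realTo_succ tabN h7 _ _ cert_7
  have h9 := realTo_succ tabN h8 _ _ cert_8
  have h10 := realTo_succ tabN h9 _ _ cert_9
  have h11 := realTo_succ tabN h10 _ _ cert_10
  have h12 := realTo_succ tabN h11 _ _ cert_11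
  have h13 := realTo_succ tabN h12 _ _ cert_12
  have h14 := realTo_succ tabN h13 _ _ cert_13
  have h15 := realTo_succ tabN h14 _ _ cert_14
  have h16 := realTo_succ tabN h15 _ _ cert_15
  have h17 := realTo_succ tabN h16 _ _ cert_16
  have h18 := realTo_succ tabN h17 _ _ cert_17
  have h19 := realTo_succ tabN h18 _ _ cert_18
  have h20 := realTo_succ tabN h19 _ _ cert_19
  have h21 := realTo_succ tabN h20 _ _ cert_20
  have h22 := realTo_succ tabN h21 _ _ cert_21
  have h23 := realTo_succ tabN h22 _ _ cert_22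
  have h24 := realTo_succ tabN h23 _ _ cert_23
  have h25 := realTo_succ tabN h24 _ _ cert_24
  have h26 := realTo_succ tabN h25 _ _ cert_25
  have h27 := realTo_succ tabN h26 _ _ cert_26
  have h28 := realTo_succ tabN h27 _ _ cert_27
  have h29 := realTo_succ tabN h28 _ _ cert_28
  have h30 := realTo_succ tabN h29 _ _ cert_29
  have h31 := realTo_succ tabN h30 _ _ cert_30
  have h32 := realTo_succ tabN h31 _ _ cert_31
  have h33 := realTo_succ tabN h32 _ _ cert_32
  have h34 := realTo_succ tabN h33 _ _ cert_33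
  have h35 := realTo_succ tabN h34 _ _ cert_34
  have h36 := realTo_succ tabN h35 _ _ cert_35
  have h37 := realTo_succ tabN h36 _ _ cert_36
  have h38 := realTo_succ tabN h37 _ _ cert_37
  have h39 := realTo_succ tabN h38 _ _ cert_38
  have h40 := realTo_succ tabN h39 _ _ cert_39
  have h41 := realTo_succ tabN h40 _ _ cert_40
  have h42 := realTo_succ tabN h41 _ _ cert_41
  have h43 := realTo_succ tabN h42 _ _ cert_42
  have h44 := realTo_succ tabN h43 _ _ cert_43
  exact realTo_succ tabN h44 _ _ cert_44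

/-- all tables are realised in the group -/
theorem allReal : AllReal K tabN := allReal_of_realTo tabN (by norm_num) realTo_45 tab_default

/-! ### the order -/

theorem ne1 : ∃ x < 4600, g13 (gtabN 0) x ≠ x := by decide +kernel

theorem phi_inj : Function.Injective phi := by
  haveI := simple_G2
  rw [← MonoidHom.ker_eq_bot_iff]
  rcases (MonoidHom.normal_ker phi).eq_bot_or_eq_top with h | h
  · exact h
  · exfalso
    have hm : genG 0 ∈ phi.ker := by rw [h]; trivial
    rw [MonoidHom.mem_ker] at hm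
    obtain ⟨x, hx, hne⟩ := ne1
    apply hne
    rw [← gN_phi_gen 0 (by norm_num) x hx, hm, gN_one]

theorem card_range : Nat.card phi.range = 42305421312000 := by
  rw [← card_G2]
  exact (Nat.card_congr (MonoidHom.ofInjective phi_inj).toEquiv).symm

theorem K_le : K ≤ phi.range := by
  unfold K
  rw [Subgroup.closure_le]
  rintro g (rfl | rfl)
  · exact ⟨_, rfl⟩
  · exact ⟨_, rfl⟩

theorem mem_Ls {L : Lv} (hL : L ∈ Ls) : L = L0 ∨ L = L1 ∨ L = L2 ∨ L = L3 ∨ L = L4 := by
  simpa [Ls] using hL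

theorem lv_real : ∀ L ∈ Ls, ∀ l, 2 ≤ l → l < L.ng + 2 → Real K (L.step l) := by
  intro L hL l _ _
  rcases mem_Ls hL with rfl | rfl | rfl | rfl | rfl <;> exact mkLv_real tabN allReal _ _ _ _ l

theorem lv_ok : ∀ L ∈ Ls, lvOK 4600 L = true := by
  intro L hL
  rcases mem_Ls hL with rfl | rfl | rfl | rfl | rfl
  · exact lv_ok0
  · exact lv_ok1
  · exact lv_ok2
  · exact lv_ok3
  · exact lv_ok4

theorem card_K : Nat.card K = 42305421312000 := by
  apply le_antisymm
  · rw [← card_range]
    exact Subgroup.card_le_of_le K_le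
  · rw [← sizes_ok]
    exact card_ge_of_checks K Ls lv_real lv_ok fix_ok

theorem range_phi : phi.range = K := by
  symm
  apply Subgroup.eq_of_le_of_card_ge K_le
  rw [card_K, card_range]

/-- the verified chain -/
theorem chain : ChainOK K Ls :=
  chainOK_of_checks K Ls lv_real lv_ok fix_ok (by rw [card_K, sizes_ok])

instance : Finite ↥K := Nat.finite_of_card_ne_zero (by rw [card_K]; norm_num)

/-! ### the isomorphism -/

/-- the isomorphism with the permutation group -/
noncomputable def iso2 : ↥G2 ≃* ↥K :=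
  (MonoidHom.ofInjective phi_inj).trans (MulEquiv.subgroupCongr range_phi)

/-- the group of the definitions as a subgroup of the automorphism group of the lattice -/
def isoA : ↥Spor.Co2 ≃* ↥(MulAction.stabilizer ↥Co0 Spor.leechU) where
  toFun f := ⟨⟨f.1, (Subgroup.mem_inf.mp f.2).1⟩, by
    rw [MulAction.mem_stabilizer_iff]
    exact MulAction.mem_stabilizer_iff.mp (Subgroup.mem_inf.mp f.2).2⟩
  invFun g := ⟨g.1.1, Subgroup.mem_inf.mpr ⟨g.1.2, by
    rw [MulAction.mem_stabilizer_iff]
    exact MulAction.mem_stabilizer_iff.mp g.2⟩⟩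
  left_inv _ := rfl
  right_inv _ := rfl
  map_mul' _ _ := rfl

theorem leechU_norm : sqNorm Spor.leechU.1 = 32 := by decide +kernel

/-- the second Conway group is the permutation group of degree 4600 -/
theorem iso_K : Nonempty (↥Spor.Co2 ≃* ↥K) := by
  obtain ⟨g, hg, g1⟩ := trans32 Spor.leechU a3 leechU_norm a3_norm
  let γ : ↥Co0 := ⟨g, hg⟩
  have e1 : γ • Spor.leechU = a3 := g1
  have e := Cfsg.Agent.Lib.Helper9.Co3simple3.stabConjEquiv γ Spor.leechU
  rw [e1] at e
  exact ⟨(isoA.trans e).trans iso2⟩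

end Cfsg.Agent.Lib.Helper9.Co2a
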