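import Cfsg.Agent.Lib.Helper9.OutH
import Cfsg.Agent.Lib.Helper8.SS2

set_option autoImplicit false

/-! Lemmas for outer automorphism groups computed from a rigid generating pair, in a form free
of the model of the group: an involution whose centraliser in a `2`-subgroup is of order two,
a subgroup listed by a table, the conjugates of an involution listed modulo an element of order
23, and the conclusion that all automorphisms are inner. -/

namespace Cfsg.Agent.Lib.Helper9.OutI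

open Cfsg.Agent.Lib.Helper9.J1O Cfsg.Agent.Lib.Helper9.GrpCount Cfsg.Agent.Lib.Helper9.OutG
  Cfsg.Agent.Lib.Helper9.OutH

variable {G : Type*} [Group G]

/-- an automorphism maps an element `t` to a conjugate when some `p`-subgroup containing `t` has
centraliser `{1, t}` -/
theorem central_conj_of_cent [Finite G] (p : ℕ) [Fact p.Prime] (Q : Subgroup G)
    (hQ : IsPGroup p Q) (t : G) (ht1 : t ≠ 1) (htQ : t ∈ Q)
    (hc : ∀ x : G, (∀ y ∈ Q, x * y = y * x) → x = 1 ∨ x = t) (φ : G ≃* G) :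
    ∃ g : G, φ t = g * t * g⁻¹ := by
  obtain ⟨S, hS⟩ := hQ.exists_le_sylow
  have hSp : IsPGroup p (S : Subgroup G) := S.isPGroup'
  have hidx : ¬ p ∣ (S : Subgroup G).index := S.not_dvd_index
  have htS : t ∈ (S : Subgroup G) := hS htQ
  haveI : Nontrivial (S : Subgroup G) :=
    ⟨⟨⟨t, htS⟩, 1, fun h => ht1 (congrArg Subtype.val h)⟩⟩
  haveI := hSp.center_nontrivial
  obtain ⟨z, hz⟩ := exists_ne (1 : Subgroup.center (S : Subgroup G))
  have hzc : ∀ y : (S : Subgroup G), y * z.1 = z.1 * y := fun y =>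
    Subgroup.mem_center_iff.mp z.2 y
  have hzt : z.1.1 = t := by
    rcases hc z.1.1 (by
      intro y hy
      have := hzc ⟨y, hS hy⟩
      have h2 := congrArg Subtype.val this
      rw [Subgroup.coe_mul, Subgroup.coe_mul] at h2
      exact h2.symm) with h | h
    · exfalso
      apply hz
      apply Subtype.ext
      apply Subtype.ext
      exact h
    · exact h
  have ht : ∀ y ∈ (S : Subgroup G), t * y = y * t := by
    intro y hy
    have := hzc ⟨y, hy⟩
    have h2 := congrArg Subtype.val this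
    rw [Subgroup.coe_mul, Subgroup.coe_mul, hzt] at h2
    exact h2.symm
  apply central_conj p (S : Subgroup G) hSp hidx t ht1 htS ht _ φ
  intro x _ hx
  exact hc x (fun y hy => hx y (hS hy))

/-- a subgroup listed by a table: the products of the generators with the listed elements are
listed -/
theorem mem_closure_iff_listed [Finite G] (gens : Set G) (sw : ℕ → G) (n : ℕ) (hn : 0 < n)
    (h0 : sw 0 = 1) (hmem : ∀ m < n, sw m ∈ Subgroup.closure gens)
    (hmul : ∀ s ∈ gens, ∀ m < n, ∃ m' < n, s * sw m = sw m') (g : G) :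
    g ∈ Subgroup.closure gens ↔ ∃ m < n, sw m = g := by
  constructor
  · intro hg
    have key := Cfsg.Agent.Lib.Helper8.SS.closure_mul_mem (S := gens)
      (T := {g | ∃ m < n, sw m = g})
      (by
        rintro s hs t ⟨m, hm, rfl⟩
        obtain ⟨m', hm', e⟩ := hmul s hs m hm
        exact ⟨m', hm', e.symm⟩) g hg 1 ⟨0, hn, h0⟩
    rwa [mul_one] at key
  · rintro ⟨m, hm, rfl⟩
    exact hmem m hm

/-- the order of a subgroup listed without repetition -/
theorem card_of_listed (Q : Subgroup G) (sw : ℕ → G) (n : ℕ)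
    (hQ : ∀ g, g ∈ Q ↔ ∃ m < n, sw m = g)
    (hinj : ∀ m < n, ∀ m' < n, sw m = sw m' → m = m') : Nat.card Q = n := by
  let f : Fin n → Q := fun m => ⟨sw m.1, (hQ _).mpr ⟨m.1, m.2, rfl⟩⟩
  have hf : Function.Bijective f := by
    constructor
    · intro m m' h
      exact Fin.ext (hinj m.1 m.2 m'.1 m'.2 (congrArg Subtype.val h))
    · rintro ⟨g, hg⟩
      obtain ⟨m, hm, rfl⟩ := (hQ g).mp hg
      exact ⟨⟨m, hm⟩, rfl⟩
  rw [← Nat.card_congr (Equiv.ofBijective f hf), Nat.card_fin]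

/-! ### the conjugates of an involution modulo an element of order 23 -/

section cls

variable (x0 r0 : G) (rr : ℕ → G) (n : ℕ)

/-- the listed conjugates -/
def LL : Set G := {u | ∃ i < 23, ∃ j < n, u = x0 ^ i * rr j * (x0 ^ i)⁻¹}

variable {x0 r0 rr n}

theorem LL_x0 (hx : x0 ^ 23 = 1) : ∀ u ∈ LL x0 rr n, x0 * u * x0⁻¹ ∈ LL x0 rr n := by
  rintro u ⟨i, hi, j, hj, rfl⟩
  by_cases h : i + 1 < 23
  · refine ⟨i + 1, h, j, hj, ?_⟩
    rw [pow_succ']
    group
  · have hi22 : i = 22 := by omega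
    subst hi22
    refine ⟨0, by norm_num, j, hj, ?_⟩
    have : x0 * (x0 ^ 22 * rr j * (x0 ^ 22)⁻¹) * x0⁻¹ = x0 ^ 23 * rr j * (x0 ^ 23)⁻¹ := by
      rw [pow_succ' x0 22]
      group
    rw [this, hx, pow_zero]

theorem LL_x0' (hx : x0 ^ 23 = 1) : ∀ u ∈ LL x0 rr n, x0⁻¹ * u * x0 ∈ LL x0 rr n := by
  rintro u ⟨i, hi, j, hj, rfl⟩
  rcases Nat.eq_zero_or_pos i with h | h
  · subst h
    refine ⟨22, by norm_num, j, hj, ?_⟩
    have e : x0 ^ 22 = x0⁻¹ := by
      symm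
      apply inv_eq_of_mul_eq_one_right
      rw [← pow_succ', hx]
    rw [pow_zero, e, inv_inv]
    group
  · refine ⟨i - 1, by omega, j, hj, ?_⟩
    have e : x0 ^ i = x0 * x0 ^ (i - 1) := by
      rw [← pow_succ']
      congr 1
      omega
    rw [e]
    group

/-- the table of the conjugation by the involution: an entry `32 * j' + i'` at `(j, i)` is valid
and either smaller than `32 * j + i`, and then the entry at `(j', i')` is `32 * j + i`, or the
conjugation is verified -/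
theorem LL_r0 (hr : r0 * r0 = 1) (cc : ℕ → ℕ → ℕ)
    (h : ∀ j < n, ∀ i < 23, cc j i / 32 < n ∧ cc j i % 32 < 23 ∧
      (cc j i < 32 * j + i → cc (cc j i / 32) (cc j i % 32) = 32 * j + i) ∧
      (¬ cc j i < 32 * j + i → r0 * (x0 ^ i * rr j * (x0 ^ i)⁻¹) * r0 =
        x0 ^ (cc j i % 32) * rr (cc j i / 32) * (x0 ^ (cc j i % 32))⁻¹)) :
    ∀ u ∈ LL x0 rr n, r0 * u * r0⁻¹ ∈ LL x0 rr n := by
  have hinv : r0⁻¹ = r0 := inv_eq_of_mul_eq_one_right hr
  rintro u ⟨i, hi, j, hj, rfl⟩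
  obtain ⟨hj', hi', hlt, hge⟩ := h j hj i hi
  rw [hinv]
  by_cases hc : cc j i < 32 * j + i
  · have e1 := hlt hc
    obtain ⟨-, -, -, hge2⟩ := h _ hj' _ hi'
    have hd : 32 * (cc j i / 32) + cc j i % 32 = cc j i := Nat.div_add_mod (cc j i) 32
    have hn2 : ¬ cc (cc j i / 32) (cc j i % 32) < 32 * (cc j i / 32) + cc j i % 32 := by
      rw [e1, hd]
      omega
    have h5 := hge2 hn2
    rw [e1] at h5
    have hm : (32 * j + i) % 32 = i := by omega
    have hd2 : (32 * j + i) / 32 = j := by omega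
    rw [hm, hd2] at h5
    refine ⟨_, hi', _, hj', ?_⟩
    rw [← h5]
    have : ∀ c : G, r0 * (r0 * c * r0) * r0 = c := by
      intro c
      calc r0 * (r0 * c * r0) * r0 = (r0 * r0) * c * (r0 * r0) := by group
        _ = c := by rw [hr, one_mul, mul_one]
    exact this _
  · exact ⟨_, hi', _, hj', hge hc⟩

/-- every conjugate of the involution is listed -/
theorem conj_listed (hx : x0 ^ 23 = 1) (hr : r0 * r0 = 1)
    (htop : Subgroup.closure ({x0, r0} : Set G) = ⊤) (hn : 0 < n) (rr0 : rr 0 = r0)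
    (cc : ℕ → ℕ → ℕ)
    (h : ∀ j < n, ∀ i < 23, cc j i / 32 < n ∧ cc j i % 32 < 23 ∧
      (cc j i < 32 * j + i → cc (cc j i / 32) (cc j i % 32) = 32 * j + i) ∧
      (¬ cc j i < 32 * j + i → r0 * (x0 ^ i * rr j * (x0 ^ i)⁻¹) * r0 =
        x0 ^ (cc j i % 32) * rr (cc j i / 32) * (x0 ^ (cc j i % 32))⁻¹)) (g : G) :
    ∃ i < 23, ∃ j < n, g * r0 * g⁻¹ = x0 ^ i * rr j * (x0 ^ i)⁻¹ := by
  have hinv : r0⁻¹ = r0 := inv_eq_of_mul_eq_one_right hr
  have hmem : r0 ∈ LL x0 rr n := by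
    refine ⟨0, by norm_num, 0, hn, ?_⟩
    rw [pow_zero, rr0]
    group
  have hr0 := LL_r0 (x0 := x0) (rr := rr) (n := n) hr cc h
  exact conj_closed_of_closure (LL x0 rr n) x0 r0 ⊤ htop (LL_x0 hx) (LL_x0' hx) hr0
    (by
      intro u hu
      have := hr0 u hu
      rwa [hinv] at this ⊢) g (Subgroup.mem_top g) r0 hmem

end cls

/-! ### all automorphisms are inner -/

/-- a group generated by an element `x0` of order 23, normalised by an element squaring it, and
an involution `r0` whose images under automorphisms are conjugates, listed modulo `x0`, such that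
no listed conjugate other than `r0` satisfies with `x0` or `x0 ^ 5` the relations of the pair,
has only inner automorphisms -/
theorem aut_inner_of_pair [Finite G] (hfac : (Nat.card G).factorization 23 = 1)
    (x0 r0 nn : G) (hx23 : x0 ^ 23 = 1) (hx1 : x0 ≠ 1) (hn : nn * x0 * nn⁻¹ = x0 ^ 2)
    (htop : Subgroup.closure ({x0, r0} : Set G) = ⊤)
    (haut : ∀ φ : G ≃* G, ∃ h : G, φ r0 = h * r0 * h⁻¹)
    (rr : ℕ → G) (n : ℕ) (rr0 : rr 0 = r0)
    (hlist : ∀ g : G, ∃ i < 23, ∃ j < n, g * r0 * g⁻¹ = x0 ^ i * rr j * (x0 ^ i)⁻¹)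
    (REL : List (List ℕ)) (hrel : ∀ ρ ∈ REL, evalG x0 r0 ρ = 1)
    (helim : ∀ k0, (k0 = 1 ∨ k0 = 5) → ∀ j < n,
      (∀ ρ ∈ REL, evalG (x0 ^ k0) (rr j) ρ = 1) → k0 = 1 ∧ j = 0)
    (φ : G ≃* G) : ∃ k : G, ∀ g : G, φ g = k * g * k⁻¹ := by
  obtain ⟨g, hg⟩ := exists_conj_of_23 hfac x0 nn hx23 hx1 hn φ
  obtain ⟨k0, hk0, hgk⟩ : ∃ k0, (k0 = 1 ∨ k0 = 5) ∧ φ x0 = g * x0 ^ k0 * g⁻¹ := by
    rcases hg with h | h
    · exact ⟨1, Or.inl rfl, by rw [pow_one]; exact h⟩
    · exact ⟨5, Or.inr rfl, h⟩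
  obtain ⟨h, hh⟩ := haut φ
  obtain ⟨i, hi, j, hj, hzij⟩ := hlist (g⁻¹ * h)
  obtain ⟨k, hk⟩ : ∃ k : G, k = g * x0 ^ i := ⟨_, rfl⟩
  obtain ⟨ψ, hψ⟩ : ∃ ψ : G →* G, ∀ y, ψ y = k⁻¹ * φ y * k :=
    ⟨(MulAut.conj k⁻¹).toMonoidHom.comp φ.toMonoidHom, fun y => by
      show MulAut.conj k⁻¹ (φ y) = _
      rw [MulAut.conj_apply, inv_inv]⟩
  have hψx : ψ x0 = x0 ^ k0 := by
    rw [hψ, hgk, hk]
    group
  have hψr : ψ r0 = rr j := by
    have h1 : ψ r0 = (x0 ^ i)⁻¹ * ((g⁻¹ * h) * r0 * (g⁻¹ * h)⁻¹) * x0 ^ i := by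
      rw [hψ, hh, hk]
      group
    rw [h1, hzij]
    group
  have hrel' : ∀ ρ ∈ REL, evalG (x0 ^ k0) (rr j) ρ = 1 := by
    intro ρ hρ
    have h2 := map_evalG ψ x0 r0 ρ
    rw [hrel ρ hρ, map_one, hψx, hψr] at h2
    exact h2.symm
  obtain ⟨rfl, rfl⟩ := helim k0 hk0 j hj hrel'
  rw [pow_one] at hψx
  refine ⟨k, ?_⟩
  have heq : ψ = MonoidHom.id G := by
    apply hom_eq_of_closure _ htop
    rintro t (rfl | rfl)
    · rw [hψx]; rfl
    · rw [hψr, rr0]; rfl
  intro y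
  have h1 : ψ y = y := by rw [heq]; rfl
  rw [hψ] at h1
  calc φ y = k * (k⁻¹ * φ y * k) * k⁻¹ := by group
    _ = k * y * k⁻¹ := by rw [h1]

end Cfsg.Agent.Lib.Helper9.OutI
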