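import Cfsg.Agent.Lib.Helper9.Co2h
import Cfsg.Agent.Lib.Helper9.OutI

set_option autoImplicit false
set_option maxRecDepth 100000

/-! The permutation group of degree 4600: the element of order 23 and its normaliser, the
involution, the normal `2`-subgroup of its centraliser (listed, of order 512, with centraliser of
order two), and the images of the involution under automorphisms. -/

namespace Cfsg.Agent.Lib.Helper9.Co2a

open Cfsg.Agent.Lib.Helper8.SQ Cfsg.Agent.Lib.Helper8.SS Cfsg.Agent.Lib.Helper8.MatN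
  Cfsg.Agent.Lib.Helper8.FastDec Cfsg.Agent.Lib.Helper9.PW Cfsg.Agent.Lib.Helper9.OutI

/-- equality of the elements of two words from the check on the base points -/
theorem kw_eq {w w' : List ℕ} (e : eqW tabN BASE w w' = true) : KW K tabN w = KW K tabN w' :=
  KW_eq_of_eqW allReal chain base_ok e

theorem kws_eq {w w' : List ℕ} (e : eqW tabN BASE w w' = true) : KWs K tabN w = KWs K tabN w' :=
  Subtype.ext (kw_eq e)

theorem kw_x0 : KW K tabN [2] = x0 := by
  apply ext_gN
  intro x hx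
  rw [KW_apply allReal [2] hx, gN_x0 x hx]
  rfl

theorem kw_r0 : KW K tabN [1] = r0 := by
  apply ext_gN
  intro x hx
  rw [KW_apply allReal [1] hx, gN_r0 x hx]
  rfl

theorem kw_zero : KW K tabN [0] = 1 := by
  apply ext_gN
  intro x hx
  rw [KW_apply allReal [0] hx, gN_one]
  exact Nat.eq_of_beq_eq_true ((allLt_iff _ _).mp id_ok x hx)

theorem kw_pair (a b : ℕ) : KW K tabN [a, b] = KW K tabN [a] * KW K tabN [b] :=
  KW_cons allReal a [b]

/-- the normalising element -/
noncomputable def nn : Equiv.Perm (Fin 4600) := KW K tabN [36]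

theorem nn_mem : nn ∈ K := KW_mem K tabN [36]

/-! ### the element of order 23 -/

theorem kw_pow : ∀ i, i < 22 → KW K tabN [i + 2] = x0 ^ (i + 1) := by
  intro i
  induction i with
  | zero =>
    intro _
    rw [pow_one]
    exact kw_x0
  | succ i ih =>
    intro hi
    have h1 := (allLt_iff _ _).mp X_pow i (by omega)
    have h2 := kw_eq h1
    have e1 : Nat.add 2 i = i + 2 := Nat.add_comm 2 i
    have e2 : Nat.add 3 i = i + 1 + 2 := by show 3 + i = i + 1 + 2; omega
    rw [e1, e2, kw_pair, kw_x0, ih (by omega)] at h2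
    rw [← h2, ← pow_succ']

theorem xi_lt {i : ℕ} (hi : i < 23) : xi i < 24 := by
  unfold xi
  cases h : Nat.beq i 0
  · rw [cond_false]
    show i + 1 < 24
    omega
  · rw [cond_true]
    norm_num

theorem kw_xi : ∀ i < 23, KW K tabN [xi i] = x0 ^ i := by
  intro i hi
  rcases Nat.eq_zero_or_pos i with rfl | hpos
  · rw [pow_zero]
    exact kw_zero
  · have e : xi i = (i - 1) + 2 := by
      unfold xi
      have : Nat.beq i 0 = false := by
        cases h : Nat.beq i 0
        · rfl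
        · exact absurd (Nat.eq_of_beq_eq_true h) (by omega)
      rw [this, cond_false]
      show i + 1 = i - 1 + 2
      omega
    rw [e, kw_pow (i - 1) (by omega)]
    congr 1
    omega

theorem x0_pow_23 : x0 ^ 23 = 1 := by
  have h1 := kw_eq X_23
  have h2 : KW K tabN [23] = x0 ^ 22 := kw_pow 21 (by norm_num)
  rw [kw_pair, kw_x0, h2, KW_nil allReal, ← pow_succ'] at h1
  exact h1

theorem x0_ne_one : x0 ≠ 1 := by
  intro h
  have h1 := gN_x0 0 (by norm_num)
  rw [h, gN_one] at h1
  have h2 := X_ne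
  rw [← h1] at h2
  exact absurd (Nat.beq_refl 0) (by rw [h2]; exact Bool.false_ne_true)

theorem nn_conj : nn * x0 * nn⁻¹ = x0 ^ 2 := by
  have h := kw_eq N_ok
  have h3 : KW K tabN [3] = x0 ^ 2 := kw_pow 1 (by norm_num)
  rw [kw_pair, kw_pair, kw_x0, h3] at h
  have h' : nn * x0 = x0 ^ 2 * nn := h
  calc nn * x0 * nn⁻¹ = x0 ^ 2 * nn * nn⁻¹ := by rw [h']
    _ = x0 ^ 2 := by group

/-! ### inverses -/

theorem inv_letter : ∀ k < 24, KW K tabN [ι k] * KW K tabN [k] = 1 := by
  intro k hk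
  have h := kw_eq ((allLt_iff _ _).mp inv_ok k hk)
  rw [kw_pair, KW_nil allReal] at h
  exact h

theorem r0_sq : r0 * r0 = 1 := by
  have h := inv_letter 1 (by norm_num)
  have e : ι 1 = 1 := rfl
  rw [e, kw_r0] at h
  exact h

theorem r0_ne_one : r0 ≠ 1 := by
  intro h
  have h1 := gN_r0 2523 (by norm_num)
  rw [h, gN_one, r_b0] at h1
  exact absurd h1 (by norm_num)

/-! ### the `2`-subgroup -/

/-- the involution in the group -/
noncomputable def r0K : ↥K := ⟨r0, r0_mem⟩

/-- the generators of the `2`-subgroup -/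
noncomputable def sg (a : ℕ) : ↥K := KWs K tabN [37 + a]

/-- the elements of the `2`-subgroup -/
noncomputable def sw (m : ℕ) : ↥K := KWs K tabN (swE m)

/-- the `2`-subgroup -/
noncomputable def Qg : Subgroup ↥K := Subgroup.closure {g | ∃ a < 8, sg a = g}

theorem sw_zero : sw 0 = 1 := by
  unfold sw
  rw [SW_zero]
  exact KWs_nil allReal

theorem S_tab (a : ℕ) (ha : a < 8) : ∀ m < 512, stabP a m = true := by
  interval_cases a
  · exact (allLt_iff _ _).mp S_tab0
  · exact (allLt_iff _ _).mp S_tab1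
  · exact (allLt_iff _ _).mp S_tab2
  · exact (allLt_iff _ _).mp S_tab3
  · exact (allLt_iff _ _).mp S_tab4
  · exact (allLt_iff _ _).mp S_tab5
  · exact (allLt_iff _ _).mp S_tab6
  · exact (allLt_iff _ _).mp S_tab7

theorem sg_mul_sw (a m : ℕ) (ha : a < 8) (hm : m < 512) :
    gtE a m < 512 ∧ sg a * sw m = sw (gtE a m) := by
  have h := S_tab a ha m hm
  unfold stabP at h
  rw [Bool.and_eq_true, Nat.blt_eq] at h
  refine ⟨h.1, ?_⟩
  have h2 := kws_eq h.2
  unfold sg sw
  rw [← h2]
  exact (KWs_append allReal [37 + a] (swE m)).symm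

theorem S_tree : ∀ m < 512, m = 0 ∨ ((stE m).2 < m ∧ (stE m).1 < 8 ∧
    gtE (stE m).1 (stE m).2 = m) := by
  intro m hm
  have h := (allLt_iff _ _).mp S_tree' m hm
  unfold streeP at h
  rw [Bool.or_eq_true, Bool.and_eq_true, Bool.and_eq_true, Nat.blt_eq, Nat.blt_eq] at h
  rcases h with h | ⟨⟨h1, h2⟩, h3⟩
  · exact Or.inl (Nat.eq_of_beq_eq_true h)
  · exact Or.inr ⟨h1, h2, Nat.eq_of_beq_eq_true h3⟩

theorem sw_mem_Qg : ∀ m < 512, sw m ∈ Qg := by
  intro m
  induction m using Nat.strong_induction_on with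
  | _ m ih =>
    intro hm
    rcases S_tree m hm with rfl | ⟨h1, h2, h3⟩
    · rw [sw_zero]; exact Qg.one_mem
    · have := (sg_mul_sw _ _ h2 (lt_trans h1 hm)).2
      rw [h3] at this
      rw [← this]
      apply Qg.mul_mem
      · exact Subgroup.subset_closure ⟨_, h2, rfl⟩
      · exact ih _ h1 (lt_trans h1 hm)

theorem mem_Qg_iff (g : ↥K) : g ∈ Qg ↔ ∃ m < 512, sw m = g := by
  apply mem_closure_iff_listed _ sw 512 (by norm_num) sw_zero sw_mem_Qg
  rintro s ⟨a, ha, rfl⟩ m hm
  obtain ⟨h1, h2⟩ := sg_mul_sw a m ha hm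
  exact ⟨_, h1, h2⟩

theorem SW_nodup : ((List.range 512).map (fun m => evW tabN (swE m) 2523)).Nodup := by
  apply nodup_of_nodupB
  have := S_fp
  rwa [forceList_eq] at this

theorem sw_inj : ∀ m < 512, ∀ m' < 512, sw m = sw m' → m = m' := by
  intro m hm m' hm' e
  apply List.inj_on_of_nodup_map SW_nodup (List.mem_range.mpr hm) (List.mem_range.mpr hm')
  have e' : KW K tabN (swE m) = KW K tabN (swE m') := congrArg Subtype.val e
  exact ev_eq_of_KW allReal e' 2523 (by norm_num)

theorem card_Qg : Nat.card Qg = 2 ^ 9 := by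
  rw [card_of_listed Qg sw 512 mem_Qg_iff sw_inj]
  norm_num

theorem r0K_eq : r0K = sw 9 := by
  apply Subtype.ext
  show r0 = KW K tabN (swE 9)
  rw [SW_r, kw_eq r_eq, kw_r0]

theorem r0K_mem_Qg : r0K ∈ Qg := by
  rw [r0K_eq]
  exact sw_mem_Qg 9 (by norm_num)

/-- the tables of the generators of the `2`-subgroup -/
def QL : List ℕ := [37, 38, 39, 40, 41, 42, 43, 44]

theorem QL_mem : ∀ k ∈ QL, ∃ a < 8, k = 37 + a := by decide

theorem base_cent : Ls.map (fun L => L.b) = WsQ.map (fun w => evW tabN w 2523) :=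
  base_ok.trans base_Q

theorem r0_comm_letter : ∀ w ∈ WsQ, ∀ k ∈ w, r0 * KW K tabN [k] = KW K tabN [k] * r0 := by
  intro w hw k hk
  have hk' : k ∈ QL := by
    revert k
    revert w
    decide
  obtain ⟨a, ha, rfl⟩ := QL_mem k hk'
  have h := kw_eq ((allLt_iff _ _).mp commR a ha)
  have e : Nat.add 37 a = 37 + a := rfl
  rw [e, kw_pair, kw_pair, kw_r0] at h
  exact h

/-- the centraliser of the `2`-subgroup is of order two -/
theorem cent_Qg (x : ↥K) (hx : ∀ y ∈ Qg, x * y = y * x) : x = 1 ∨ x = r0K := by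
  have hcomm : ∀ k ∈ QL, x.1 * KW K tabN [k] = KW K tabN [k] * x.1 := by
    intro k hk
    obtain ⟨a, ha, rfl⟩ := QL_mem k hk
    have h1 := hx (sg a) (Subgroup.subset_closure ⟨a, ha, rfl⟩)
    have h2 := congrArg Subtype.val h1
    rw [Subgroup.coe_mul, Subgroup.coe_mul] at h2
    exact h2
  have hWs : ∀ w ∈ WsQ, ∀ k ∈ w, k ∈ QL := by decide
  have hE : ∀ k ∈ EQ, k ∈ QL := by decide
  have hb0 : 2523 < 4600 := by norm_num
  have h1 := cent_cases allReal chain WsQ EQ 2523 hb0 base_cent x.2 QL hcomm hWs hE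
  have h2 := cent_ok (gN x.1 2523) (gN_lt _ hb0)
  unfold centP at h2
  rw [h1] at h2
  have h3 : gN x.1 2523 = 2523 ∨ gN x.1 2523 = 2076 := by
    rw [Bool.or_eq_true, Bool.or_eq_true] at h2
    rcases h2 with (h | h) | h
    · exact absurd h (by decide)
    · exact Or.inl (Nat.eq_of_beq_eq_true h)
    · exact Or.inr (Nat.eq_of_beq_eq_true h)
  have hcW : ∀ w ∈ WsQ, ∀ k ∈ w, x.1 * KW K tabN [k] = KW K tabN [k] * x.1 :=
    fun w hw k hk => hcomm k (hWs w hw k hk)
  rcases h3 with h | h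
  · left
    apply Subtype.ext
    apply eq_of_cent allReal chain WsQ 2523 hb0 base_cent x.2 K.one_mem hcW
    · intro w _ k _
      rw [one_mul, mul_one]
    · rw [h]
      exact (gN_one 2523).symm
  · right
    apply Subtype.ext
    apply eq_of_cent allReal chain WsQ 2523 hb0 base_cent x.2 r0_mem hcW r0_comm_letter
    rw [h, gN_r0 2523 hb0, r_b0]

/-- the image of the involution under an automorphism is a conjugate -/
theorem aut_r0 (φ : ↥K ≃* ↥K) : ∃ h : ↥K, φ r0K = h * r0K * h⁻¹ := by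
  haveI : Fact (Nat.Prime 2) := ⟨Nat.prime_two⟩
  apply central_conj_of_cent 2 Qg (IsPGroup.of_card card_Qg) r0K
  · intro h
    exact r0_ne_one (congrArg Subtype.val h)
  · exact r0K_mem_Qg
  · exact cent_Qg

end Cfsg.Agent.Lib.Helper9.Co2a
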