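import Cfsg.Agent.Lib.Helper9.Co2d
import Cfsg.Agent.Lib.Helper9.Chunk

/-! Data and kernel-checked certificates for the normal `2`-subgroup of the centraliser of an
involution, the conjugates of the involution and the automorphisms of the permutation group of
degree 4600 (generated; see the journal of helper9). -/

set_option autoImplicit false
set_option maxHeartbeats 0
set_option maxRecDepth 1000000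
set_option Elab.async false

namespace Cfsg.Agent.Lib.Helper9.Co2a

open Cfsg.Agent.Lib.Helper8.SQ Cfsg.Agent.Lib.Helper8.SS Cfsg.Agent.Lib.Helper8.MatN
  Cfsg.Agent.Lib.Helper8.FastDec Cfsg.Agent.Lib.Helper9.PW Cfsg.Agent.Lib.Helper9.Chunk

/-- the words of the elements of the `2`-subgroup, in blocks of 32 -/
def SWn : List (List (List ℕ)) := [[[], [37], [38], [39], [40], [41], [42], [43], [44], [37, 37], [38, 37], [39, 37], [40, 37], [41, 37], [42, 37], [43, 37], [44, 37], [37, 38], [39, 38], [40, 38], [41, 38], [42, 38], [43, 38], [44, 38], [37, 39], [38, 39], [40, 39], [41, 39], [42, 39], [43, 39], [44, 39], [37, 40]],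
  [[38, 40], [39, 40], [41, 40], [42, 40], [43, 40], [44, 40], [38, 41], [39, 41], [42, 41], [43, 41], [44, 41], [37, 42], [40, 42], [41, 42], [43, 42], [44, 42], [37, 43], [38, 43], [39, 43], [44, 43], [38, 44], [41, 44], [43, 44], [37, 37, 37], [38, 37, 37], [39, 37, 37], [40, 37, 37], [41, 37, 37], [42, 37, 37], [43, 37, 37], [44, 37, 37], [39, 38, 37]],
  [[40, 38, 37], [41, 38, 37], [42, 38, 37], [43, 38, 37], [44, 38, 37], [38, 39, 37], [40, 39, 37], [41, 39, 37], [42, 39, 37], [43, 39, 37], [44, 39, 37], [38, 40, 37], [39, 40, 37], [41, 40, 37], [42, 40, 37], [43, 40, 37], [44, 40, 37], [38, 41, 37], [39, 41, 37], [42, 41, 37], [43, 41, 37], [44, 41, 37], [40, 42, 37], [41, 42, 37], [43, 42, 37], [44, 42, 37], [38, 43, 37], [39, 43, 37], [44, 43, 37], [38, 44, 37], [41, 44, 37], [43,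 44, 37]],
  [[42, 37, 38], [40, 39, 38], [41, 39, 38], [42, 39, 38], [43, 39, 38], [44, 39, 38], [39, 40, 38], [41, 40, 38], [42, 40, 38], [43, 40, 38], [44, 40, 38], [39, 41, 38], [42, 41, 38], [43, 41, 38], [44, 41, 38], [40, 42, 38], [41, 42, 38], [43, 42, 38], [44, 42, 38], [39, 43, 38], [44, 43, 38], [41, 44, 38], [43, 44, 38], [42, 37, 39], [44, 37, 39], [42, 38, 39], [44, 38, 39], [41, 40, 39], [42, 40, 39], [43, 40, 39], [44, 40, 39], [42, 41, 39]],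
  [[43, 41, 39], [44, 41, 39], [40, 42, 39], [41, 42, 39], [43, 42, 39], [44, 42, 39], [44, 43, 39], [41, 44, 39], [43, 44, 39], [41, 37, 40], [43, 37, 40], [44, 37, 40], [41, 38, 40], [43, 38, 40], [44, 38, 40], [41, 39, 40], [43, 39, 40], [44, 39, 40], [42, 41, 40], [43, 41, 40], [44, 41, 40], [41, 42, 40], [43, 42, 40], [44, 42, 40], [44, 43, 40], [41, 44, 40], [43, 44, 40], [43, 38, 41], [43, 39, 41], [43, 42, 41], [44, 42, 41], [37, 43, 41]],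
  [[44, 43, 41], [43, 44, 41], [43, 37, 42], [44, 37, 42], [43, 40, 42], [44, 40, 42], [43, 41, 42], [44, 41, 42], [38, 43, 42], [39, 43, 42], [44, 43, 42], [38, 44, 42], [43, 44, 42], [41, 37, 37, 37], [44, 37, 37, 37], [42, 38, 37, 37], [42, 39, 37, 37], [44, 39, 37, 37], [41, 40, 37, 37], [43, 40, 37, 37], [44, 40, 37, 37], [43, 41, 37, 37], [43, 42, 37, 37], [44, 42, 37, 37], [40, 39, 38, 37], [41, 39, 38, 37], [42, 39, 38, 37], [43, 39, 38, 37], [44, 39, 38, 37], [39, 40, 38, 37], [41, 40, 38, 37], [42, 40, 38, 37]],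
  [[43, 40, 38, 37], [44, 40, 38, 37], [39, 41, 38, 37], [42, 41, 38, 37], [43, 41, 38, 37], [44, 41, 38, 37], [40, 42, 38, 37], [41, 42, 38, 37], [43, 42, 38, 37], [44, 42, 38, 37], [39, 43, 38, 37], [44, 43, 38, 37], [41, 44, 38, 37], [43, 44, 38, 37], [42, 38, 39, 37], [44, 38, 39, 37], [41, 40, 39, 37], [42, 40, 39, 37], [43, 40, 39, 37], [44, 40, 39, 37], [42, 41, 39, 37], [43, 41, 39, 37], [44, 41, 39, 37], [40, 42, 39, 37], [41, 42, 39, 37], [43, 42, 39, 37], [44, 42, 39, 37], [44, 43, 39, 37], [41, 44, 39, 37], [43, 44, 39, 37], [41, 38, 40, 37], [43, 38, 40, 37]],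
  [[44, 38, 40, 37], [41, 39, 40, 37], [43, 39, 40, 37], [44, 39, 40, 37], [42, 41, 40, 37], [43, 41, 40, 37], [44, 41, 40, 37], [41, 42, 40, 37], [43, 42, 40, 37], [44, 42, 40, 37], [44, 43, 40, 37], [41, 44, 40, 37], [43, 44, 40, 37], [43, 38, 41, 37], [43, 39, 41, 37], [43, 42, 41, 37], [44, 42, 41, 37], [44, 43, 41, 37], [43, 44, 41, 37], [43, 40, 42, 37], [44, 40, 42, 37], [43, 41, 42, 37], [44, 41, 42, 37], [38, 43, 42, 37], [39, 43, 42, 37], [44, 43, 42, 37], [38, 44, 42, 37], [43, 44, 42, 37], [41, 40, 39, 38], [42, 40, 39, 38], [43, 40, 39, 38], [44, 40, 39, 38]],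
  [[42, 41, 39, 38], [43, 41, 39, 38], [44, 41, 39, 38], [40, 42, 39, 38], [41, 42, 39, 38], [43, 42, 39, 38], [44, 42, 39, 38], [44, 43, 39, 38], [41, 44, 39, 38], [43, 44, 39, 38], [41, 39, 40, 38], [43, 39, 40, 38], [44, 39, 40, 38], [42, 41, 40, 38], [43, 41, 40, 38], [44, 41, 40, 38], [41, 42, 40, 38], [43, 42, 40, 38], [44, 42, 40, 38], [44, 43, 40, 38], [41, 44, 40, 38], [43, 44, 40, 38], [43, 39, 41, 38], [43, 42, 41, 38], [44, 42, 41, 38], [44, 43, 41, 38], [43, 44, 41, 38], [43, 40, 42, 38], [44, 40, 42, 38], [43, 41, 42, 38], [44, 41, 42, 38], [39, 43, 42, 38]],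
  [[44, 43, 42, 38], [43, 44, 42, 38], [44, 42, 37, 39], [44, 42, 38, 39], [42, 41, 40, 39], [43, 41, 40, 39], [44, 41, 40, 39], [41, 42, 40, 39], [43, 42, 40, 39], [44, 42, 40, 39], [44, 43, 40, 39], [41, 44, 40, 39], [43, 44, 40, 39], [43, 42, 41, 39], [44, 42, 41, 39], [44, 43, 41, 39], [43, 44, 41, 39], [43, 40, 42, 39], [44, 40, 42, 39], [43, 41, 42, 39], [44, 41, 42, 39], [44, 43, 42, 39], [43, 44, 42, 39], [43, 41, 37, 40], [43, 41, 38, 40], [43, 41, 39, 40], [43, 42, 41, 40], [44, 42, 41, 40], [44, 43, 41, 40], [43, 44, 41, 40], [43, 41, 42, 40], [44, 41, 42, 40]],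
  [[44, 43, 42, 40], [43, 44, 42, 40], [44, 43, 42, 41], [43, 44, 42, 41], [44, 42, 39, 37, 37], [43, 41, 40, 37, 37], [41, 40, 39, 38, 37], [42, 40, 39, 38, 37], [43, 40, 39, 38, 37], [44, 40, 39, 38, 37], [42, 41, 39, 38, 37], [43, 41, 39, 38, 37], [44, 41, 39, 38, 37], [40, 42, 39, 38, 37], [41, 42, 39, 38, 37], [43, 42, 39, 38, 37], [44, 42, 39, 38, 37], [44, 43, 39, 38, 37], [41, 44, 39, 38, 37], [43, 44, 39, 38, 37], [41, 39, 40, 38, 37], [43, 39, 40, 38, 37], [44, 39, 40, 38, 37], [42, 41, 40, 38, 37], [43, 41, 40, 38, 37], [44, 41, 40, 38, 37], [41, 42, 40, 38, 37], [43, 42, 40, 38, 37], [44, 42, 40, 38, 37], [44, 43, 40, 38, 37], [41, 44, 40, 38, 37], [43, 44, 40, 38, 37]],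
  [[43, 39, 41, 38, 37], [43, 42, 41, 38, 37], [44, 42, 41, 38, 37], [44, 43, 41, 38, 37], [43, 44, 41, 38, 37], [43, 40, 42, 38, 37], [44, 40, 42, 38, 37], [43, 41, 42, 38, 37], [44, 41, 42, 38, 37], [39, 43, 42, 38, 37], [44, 43, 42, 38, 37], [43, 44, 42, 38, 37], [44, 42, 38, 39, 37], [42, 41, 40, 39, 37], [43, 41, 40, 39, 37], [44, 41, 40, 39, 37], [41, 42, 40, 39, 37], [43, 42, 40, 39, 37], [44, 42, 40, 39, 37], [44, 43, 40, 39, 37], [41, 44, 40, 39, 37], [43, 44, 40, 39, 37], [43, 42, 41, 39, 37], [44, 42, 41, 39, 37], [44, 43, 41, 39, 37], [43, 44, 41, 39, 37], [43, 40, 42, 39, 37], [44, 40, 42, 39, 37], [43, 41, 42, 39, 37], [44, 41, 42, 39, 37], [44, 43, 42, 39, 37], [43, 44, 42, 39, 37]],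
  [[43, 41, 38, 40, 37], [43, 41, 39, 40, 37], [43, 42, 41, 40, 37], [44, 42, 41, 40, 37], [44, 43, 41, 40, 37], [43, 44, 41, 40, 37], [43, 41, 42, 40, 37], [44, 41, 42, 40, 37], [44, 43, 42, 40, 37], [43, 44, 42, 40, 37], [44, 43, 42, 41, 37], [43, 44, 42, 41, 37], [42, 41, 40, 39, 38], [43, 41, 40, 39, 38], [44, 41, 40, 39, 38], [41, 42, 40, 39, 38], [43, 42, 40, 39, 38], [44, 42, 40, 39, 38], [44, 43, 40, 39, 38], [41, 44, 40, 39, 38], [43, 44, 40, 39, 38], [43, 42, 41, 39, 38], [44, 42, 41, 39, 38], [44, 43, 41, 39, 38], [43, 44, 41, 39, 38], [43, 40, 42, 39, 38], [44, 40, 42, 39, 38], [43, 41, 42, 39, 38], [44, 41, 42, 39, 38], [44, 43, 42, 39, 38], [43, 44, 42, 39, 38], [43, 41, 39, 40, 38]],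
  [[43, 42, 41, 40, 38], [44, 42, 41, 40, 38], [44, 43, 41, 40, 38], [43, 44, 41, 40, 38], [43, 41, 42, 40, 38], [44, 41, 42, 40, 38], [44, 43, 42, 40, 38], [43, 44, 42, 40, 38], [44, 43, 42, 41, 38], [43, 44, 42, 41, 38], [43, 42, 41, 40, 39], [44, 42, 41, 40, 39], [44, 43, 41, 40, 39], [43, 44, 41, 40, 39], [43, 41, 42, 40, 39], [44, 41, 42, 40, 39], [44, 43, 42, 40, 39], [43, 44, 42, 40, 39], [44, 43, 42, 41, 39], [43, 44, 42, 41, 39], [44, 43, 42, 41, 40], [43, 44, 42, 41, 40], [42, 41, 40, 39, 38, 37], [43, 41, 40, 39, 38, 37], [44, 41, 40, 39, 38, 37], [41, 42, 40, 39, 38, 37], [43, 42, 40, 39, 38, 37], [44, 42, 40, 39, 38, 37], [44, 43, 40, 39, 38, 37], [41, 44, 40, 39, 38, 37], [43, 44, 40, 39, 38, 37], [43, 42, 41, 39, 38, 37]],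
  [[44, 42, 41, 39, 38, 37], [44, 43, 41, 39, 38, 37], [43, 44, 41, 39, 38, 37], [43, 40, 42, 39, 38, 37], [44, 40, 42, 39, 38, 37], [43, 41, 42, 39, 38, 37], [44, 41, 42, 39, 38, 37], [44, 43, 42, 39, 38, 37], [43, 44, 42, 39, 38, 37], [43, 41, 39, 40, 38, 37], [43, 42, 41, 40, 38, 37], [44, 42, 41, 40, 38, 37], [44, 43, 41, 40, 38, 37], [43, 44, 41, 40, 38, 37], [43, 41, 42, 40, 38, 37], [44, 41, 42, 40, 38, 37], [44, 43, 42, 40, 38, 37], [43, 44, 42, 40, 38, 37], [44, 43, 42, 41, 38, 37], [43, 44, 42, 41, 38, 37], [43, 42, 41, 40, 39, 37], [44, 42, 41, 40, 39, 37], [44, 43, 41, 40, 39, 37], [43, 44, 41, 40, 39, 37], [43, 41, 42, 40, 39, 37], [44, 41, 42, 40, 39, 37], [44, 43, 42, 40, 39, 37], [43, 44, 42, 40, 39, 37], [44, 43, 42, 41, 39, 37], [43, 44, 42, 41, 39, 37], [44, 43, 42, 41,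 40, 37], [43, 44, 42, 41, 40, 37]],
  [[43, 42, 41, 40, 39, 38], [44, 42, 41, 40, 39, 38], [44, 43, 41, 40, 39, 38], [43, 44, 41, 40, 39, 38], [43, 41, 42, 40, 39, 38], [44, 41, 42, 40, 39, 38], [44, 43, 42, 40, 39, 38], [43, 44, 42, 40, 39, 38], [44, 43, 42, 41, 39, 38], [43, 44, 42, 41, 39, 38], [44, 43, 42, 41, 40, 38], [43, 44, 42, 41, 40, 38], [44, 43, 42, 41, 40, 39], [43, 44, 42, 41, 40, 39], [43, 42, 41, 40, 39, 38, 37], [44, 42, 41, 40, 39, 38, 37], [44, 43, 41, 40, 39, 38, 37], [43, 44, 41, 40, 39, 38, 37], [43, 41, 42, 40, 39, 38, 37], [44, 41, 42, 40, 39, 38, 37], [44, 43, 42, 40, 39, 38, 37], [43, 44, 42, 40, 39, 38, 37], [44, 43, 42, 41, 39, 38, 37], [43, 44, 42, 41, 39, 38, 37], [44, 43, 42, 41, 40, 38, 37], [43, 44, 42, 41, 40, 38, 37], [44, 43, 42, 41, 40, 39, 37], [43, 44,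 42, 41, 40, 39, 37], [44, 43, 42, 41, 40, 39, 38], [43, 44, 42, 41, 40, 39, 38], [44, 43, 42, 41, 40, 39, 38, 37], [43, 44, 42, 41, 40, 39, 38, 37]]]

/-- the multiplication table of the `2`-subgroup -/
def GTn : List (List (List ℕ)) := [[[1, 9, 17, 24, 31, 13, 43, 48, 16, 55, 2, 3, 4, 59, 6, 7, 62, 56, 63, 64, 81, 66, 67, 93, 57, 69, 70, 82, 72, 73, 120, 58], [75, 76, 137, 78, 79, 139, 65, 71, 87, 159, 85, 60, 86, 83, 88, 163, 61, 90, 91, 95, 68, 94, 92, 0, 10, 11, 12, 173, 14, 15, 174, 25], [32, 20, 175, 49, 23, 18, 33, 27, 176, 50, 30, 19, 26, 34, 44, 179, 37, 38, 39, 40, 41, 53, 35, 45, 182, 47, 22, 29, 51, 52, 42, 54], [21, 189, 185, 206, 202, 188, 184, 190, 198, 223, 193, 194, 195, 196, 204, 191, 199, 247, 201, 187, 203, 197, 205, 28, 177, 186, 207, 208, 215, 226, 211, 212], [213, 220,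 209, 216, 248, 218, 219, 214, 221, 178, 36, 180, 222, 192, 224, 225, 210, 227, 228, 229, 235, 231, 243, 233, 234, 230, 236, 237, 238, 239, 246, 181], [242, 241, 46, 183, 232, 244, 245, 240, 200, 217, 249, 250, 251, 5, 8, 96, 119, 74, 77, 138, 80, 84, 162, 89, 97, 107, 99, 100, 122, 102, 140, 104], [105, 142, 98, 112, 155, 110, 111, 108, 113, 171, 115, 118, 117, 116, 121, 101, 143, 124, 125, 145, 131, 156, 129, 130, 127, 132, 324, 136, 135, 134, 103, 141], [106, 123, 144, 126, 149, 325, 148, 146, 150, 165, 154, 153, 152, 109, 128, 166, 158, 160, 161, 164, 151, 157, 167, 168, 169, 172, 114, 170, 340, 327, 328, 342], [334, 352, 332, 333, 330, 335, 364, 339, 338, 337, 326, 341, 329, 346, 384, 345, 343, 347, 358, 351, 350, 349, 331, 359, 354, 355, 356, 357, 348, 353, 360, 361], [363, 362, 133,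 336, 368, 385, 367, 365, 369, 379, 373, 372, 371, 380, 375, 376, 377, 378, 370, 374, 381, 383, 382, 147, 344, 366, 390, 387, 388, 389, 386, 391], [393, 392, 394, 395, 290, 311, 252, 259, 267, 255, 256, 257, 264, 253, 260, 287, 262, 263, 258, 265, 266, 254, 268, 269, 270, 276, 272, 283, 274, 275, 271, 277], [278, 279, 286, 282, 281, 273, 284, 285, 280, 261, 288, 289, 291, 292, 293, 299, 295, 305, 297, 298, 294, 300, 301, 308, 304, 303, 296, 306, 307, 302, 309, 310], [312, 313, 314, 319, 317, 316, 318, 315, 320, 321, 323, 322, 438, 439, 445, 441, 451, 443, 444, 440, 446, 447, 454, 450, 449, 442, 452, 453, 448, 455, 456, 457], [458, 463, 461, 460, 462, 459, 464, 465, 467, 466, 468, 473, 471, 470, 472, 469, 474, 475, 477, 476, 479, 478, 399, 415, 398, 396, 400, 410, 404, 403, 402, 411], [406,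 407, 408, 409, 401, 405, 412, 414, 413, 397, 420, 417, 418, 419, 416, 421, 423, 422, 424, 425, 430, 427, 428, 429, 426, 431, 433, 432, 434, 435, 436, 437], [498, 495, 496, 497, 494, 499, 501, 500, 502, 503, 504, 505, 506, 507, 480, 485, 483, 482, 484, 481, 486, 487, 489, 488, 491, 490, 493, 492, 511, 510, 508, 509]],
  [[2, 10, 9, 25, 32, 38, 21, 49, 52, 56, 55, 69, 75, 81, 66, 90, 93, 1, 3, 4, 5, 60, 7, 8, 63, 57, 97, 98, 121, 100, 101, 64], [58, 102, 103, 111, 105, 106, 59, 107, 112, 109, 110, 96, 104, 108, 168, 171, 67, 61, 115, 116, 62, 117, 118, 17, 0, 18, 19, 20, 175, 22, 23, 11], [12, 13, 43, 15, 16, 24, 184, 185, 206, 187, 188, 31, 189, 190, 198, 192, 193, 173, 194, 199, 196, 197, 191, 195, 247, 250, 48, 202, 203, 174, 204, 205], [14, 33, 39, 28, 50, 177, 26, 178, 35, 179, 180, 27,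 40, 181, 53, 44, 45, 46, 47, 29, 54, 42, 51, 186, 207, 176, 30, 266, 253, 267, 268, 256], [278, 264, 259, 260, 261, 262, 265, 258, 263, 222, 223, 224, 34, 36, 37, 252, 254, 255, 269, 312, 276, 272, 273, 274, 277, 271, 275, 41, 257, 279, 280, 237], [282, 281, 200, 201, 283, 284, 285, 286, 182, 287, 288, 183, 289, 65, 68, 6, 99, 122, 140, 141, 142, 155, 113, 114, 76, 82, 72, 91, 120, 70, 137, 78], [138, 139, 71, 83, 159, 94, 86, 87, 88, 89, 73, 95, 85, 92, 119, 74, 340, 327, 341, 342, 330, 352, 338, 333, 334, 335, 336, 339, 332, 337, 77, 79], [80, 326, 328, 329, 343, 384, 350, 346, 347, 348, 351, 345, 349, 84, 331, 353, 354, 356, 355, 357, 358, 359, 360, 162, 361, 362, 163, 363, 123, 130, 125, 126], [131, 128, 129, 124, 127, 169, 324, 134, 135, 136, 143, 144, 145, 149, 147, 148, 146, 164, 165,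 152, 153, 154, 156, 166, 167, 160, 161, 150, 151, 157, 158, 132], [172, 170, 364, 133, 399, 397, 398, 396, 409, 410, 402, 403, 404, 411, 412, 407, 408, 400, 401, 405, 406, 414, 413, 344, 325, 415, 420, 421, 418, 419, 416, 417], [423, 422, 425, 424, 291, 270, 208, 215, 210, 211, 216, 213, 214, 209, 212, 248, 290, 219, 220, 221, 225, 226, 227, 231, 229, 230, 228, 243, 244, 234, 235, 236], [238, 245, 246, 241, 242, 232, 233, 239, 240, 217, 251, 249, 218, 441, 439, 440, 438, 451, 452, 444, 445, 446, 453, 454, 449, 450, 442, 443, 447, 448, 456, 455], [311, 457, 462, 463, 460, 461, 458, 459, 465, 464, 467, 466, 292, 313, 299, 295, 296, 297, 300, 294, 298, 301, 302, 304, 303, 305, 306, 307, 308, 309, 310, 293], [314, 315, 317, 316, 318, 319, 320, 321, 322, 323, 480, 481, 483, 482, 484, 485, 486,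 487, 488, 489, 490, 491, 365, 385, 372, 368, 369, 370, 373, 367, 371, 374], [375, 377, 376, 378, 379, 380, 381, 382, 383, 366, 386, 387, 389, 388, 390, 391, 392, 393, 394, 395, 494, 495, 497, 496, 498, 499, 500, 501, 502, 503, 504, 505], [430, 431, 428, 429, 426, 427, 433, 432, 435, 434, 437, 436, 509, 508, 472, 473, 470, 471, 468, 469, 475, 474, 477, 476, 479, 478, 511, 510, 492, 493, 506, 507]],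
  [[3, 11, 18, 9, 33, 39, 28, 50, 30, 57, 63, 55, 76, 82, 72, 91, 74, 69, 56, 102, 107, 99, 115, 101, 1, 2, 4, 5, 60, 7, 62, 70], [97, 58, 123, 130, 125, 145, 98, 59, 131, 128, 135, 119, 124, 127, 169, 133, 73, 100, 61, 136, 122, 129, 134, 24, 25, 0, 26, 27, 176, 29, 177, 17], [189, 194, 186, 202, 188, 10, 12, 13, 43, 15, 174, 184, 31, 208, 215, 210, 227, 185, 173, 216, 213, 220, 209, 212, 248, 218, 187, 48, 221, 207, 214, 219], [206, 19, 20, 175, 22, 52, 32, 252, 259, 254, 268, 38, 260, 257, 264, 253, 256, 287, 262, 49, 265, 258, 263, 14, 16, 21, 23, 178, 35, 179, 37, 40], [181, 42, 44, 45, 46, 183, 51, 53, 54, 225, 226, 211, 266, 267, 255, 34, 36, 180, 292, 313, 294, 295, 296, 306, 298, 299, 300, 278, 41, 301, 308, 238], [303, 304, 217, 290, 305, 297, 307, 302, 261, 182, 310, 291, 309,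 71, 120, 121, 6, 8, 143, 144, 126, 156, 132, 324, 64, 65, 96, 67, 93, 75, 326, 333], [328, 342, 81, 334, 331, 338, 327, 330, 361, 336, 90, 339, 332, 337, 66, 68, 137, 78, 138, 80, 83, 159, 85, 86, 87, 88, 163, 92, 94, 95, 340, 341], [329, 77, 79, 139, 365, 385, 367, 368, 369, 379, 371, 372, 373, 352, 84, 374, 381, 376, 377, 378, 370, 380, 375, 335, 162, 383, 364, 382, 140, 104, 141, 106], [108, 155, 110, 111, 112, 113, 171, 116, 117, 118, 103, 105, 142, 396, 415, 398, 399, 400, 410, 402, 403, 404, 109, 405, 412, 407, 408, 409, 401, 411, 406, 168], [414, 413, 89, 114, 149, 147, 153, 146, 164, 151, 154, 148, 152, 166, 158, 161, 160, 150, 165, 157, 167, 170, 172, 366, 397, 325, 430, 427, 429, 428, 426, 431], [432, 433, 434, 435, 47, 293, 222, 191, 223, 193, 195, 237, 197, 198, 199, 200, 250,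 203, 204, 205, 190, 192, 224, 438, 457, 440, 441, 442, 452, 444, 445, 446], [196, 447, 454, 449, 450, 451, 443, 453, 448, 247, 456, 455, 201, 231, 229, 235, 228, 243, 233, 236, 230, 234, 245, 240, 242, 241, 232, 244, 239, 246, 249, 251], [439, 311, 472, 469, 471, 470, 468, 473, 474, 475, 476, 477, 272, 270, 276, 269, 283, 274, 277, 271, 275, 285, 280, 282, 281, 273, 284, 279, 286, 288, 289, 312], [484, 481, 483, 482, 480, 485, 486, 487, 488, 489, 314, 319, 316, 317, 318, 315, 321, 320, 323, 322, 493, 492, 346, 344, 350, 343, 357, 348, 351, 345, 349, 359], [354, 356, 355, 347, 358, 353, 360, 362, 363, 384, 498, 495, 497, 496, 494, 499, 500, 501, 502, 503, 386, 391, 388, 389, 390, 387, 393, 392, 395, 394, 507, 506], [416, 421, 418, 419, 420, 417, 423, 422, 425, 424, 509, 508, 436, 437, 458,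 463, 460, 461, 462, 459, 465, 464, 467, 466, 511, 510, 478, 479, 490, 491, 504, 505]],
  [[4, 12, 19, 26, 0, 34, 44, 36, 37, 58, 64, 70, 1, 77, 86, 79, 80, 75, 97, 2, 103, 111, 105, 106, 76, 102, 3, 123, 130, 125, 126, 55], [56, 57, 5, 60, 7, 8, 140, 143, 149, 147, 148, 78, 6, 146, 164, 165, 138, 141, 144, 152, 142, 153, 154, 31, 32, 33, 9, 178, 35, 179, 180, 184], [10, 190, 198, 192, 193, 189, 11, 208, 215, 210, 211, 17, 24, 13, 43, 15, 16, 222, 225, 231, 229, 230, 14, 228, 243, 244, 223, 226, 234, 224, 235, 236], [191, 18, 252, 259, 254, 255, 25, 20, 175, 22, 23, 266, 272, 270, 271, 21, 269, 283, 284, 267, 275, 276, 277, 209, 227, 253, 268, 27, 176, 29, 30, 295], [293, 294, 28, 292, 305, 306, 298, 299, 300, 173, 48, 174, 38, 49, 52, 39, 50, 177, 45, 41, 42, 40, 182, 183, 51, 53, 54, 312,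 313, 318, 319, 311], [316, 317, 232, 233, 46, 47, 314, 315, 273, 296, 321, 274, 320, 137, 139, 104, 124, 145, 59, 61, 62, 325, 150, 151, 63, 326, 333, 328, 329, 69, 65, 96], [67, 68, 340, 346, 344, 345, 66, 343, 357, 358, 341, 349, 350, 351, 327, 342, 71, 119, 73, 74, 368, 366, 367, 72, 365, 378, 379, 371, 372, 373, 81, 90], [93, 82, 91, 120, 87, 84, 85, 83, 162, 163, 92, 94, 95, 384, 385, 390, 391, 388, 389, 88, 89, 386, 387, 347, 369, 393, 348, 392, 98, 121, 100, 101], [399, 397, 398, 99, 396, 409, 410, 402, 403, 404, 107, 115, 122, 112, 109, 110, 108, 168, 171, 116, 117, 118, 415, 420, 421, 418, 419, 113, 114, 416, 417, 400], [423, 422, 370, 401, 131, 128, 129, 127, 169, 324, 134, 135, 136, 430, 431, 428, 429, 132, 133, 426, 427, 433, 432, 159, 155, 156, 166, 167, 160, 161, 157, 158],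 [172, 170, 437, 436, 297, 181, 185, 206, 187, 188, 441, 439, 440, 186, 438, 451, 452, 444, 445, 446, 194, 202, 207, 199, 196, 197, 195, 247, 250, 203, 204, 205], [457, 462, 463, 460, 461, 200, 201, 458, 459, 442, 465, 464, 443, 216, 213, 214, 212, 248, 290, 219, 220, 221, 472, 473, 470, 471, 217, 218, 468, 469, 475, 474], [237, 238, 245, 246, 241, 242, 239, 240, 251, 249, 479, 478, 260, 257, 258, 256, 287, 291, 263, 264, 265, 484, 485, 482, 483, 261, 262, 480, 481, 487, 486, 278], [285, 286, 281, 282, 279, 280, 289, 288, 491, 490, 307, 308, 303, 304, 301, 302, 310, 309, 493, 492, 323, 322, 334, 331, 332, 330, 361, 364, 337, 338, 339, 498], [499, 496, 497, 335, 336, 494, 495, 501, 500, 352, 359, 360, 355, 356, 353, 354, 363, 362, 505, 504, 380, 381, 376, 377, 374, 375, 383, 382, 507, 506,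 395, 394], [411, 412, 407, 408, 405, 406, 414, 413, 509, 508, 425, 424, 435, 434, 453, 454, 449, 450, 447, 448, 456, 455, 511, 510, 467, 466, 477, 476, 489, 488, 503, 502]],
  [[5, 13, 20, 27, 34, 0, 45, 41, 53, 59, 65, 71, 77, 1, 87, 84, 94, 81, 98, 103, 2, 112, 109, 117, 82, 107, 123, 3, 131, 128, 135, 137], [140, 143, 4, 149, 147, 153, 56, 57, 60, 7, 62, 83, 146, 6, 166, 158, 159, 155, 156, 161, 110, 8, 160, 173, 38, 39, 178, 9, 40, 181, 42, 185], [190, 10, 199, 196, 204, 194, 208, 11, 216, 213, 220, 222, 225, 12, 231, 229, 235, 17, 24, 43, 15, 174, 228, 14, 245, 240, 237, 238, 242, 197, 16, 241], [195, 252, 18, 260, 257, 264, 266, 19, 272, 270, 276, 25, 175, 22, 52, 269, 21, 285, 280, 278, 282, 23, 281, 212, 214, 256, 258, 26, 295, 293, 299, 176], [29, 177, 292, 28, 307, 302, 304, 30,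 303, 31, 311, 230, 32, 312, 271, 33, 313, 294, 44, 36, 180, 35, 318, 315, 317, 37, 316, 49, 50, 182, 47, 48], [54, 51, 239, 246, 314, 319, 46, 183, 279, 301, 322, 286, 323, 55, 85, 108, 127, 129, 58, 325, 148, 61, 157, 167, 326, 63, 334, 331, 338, 340, 64, 346], [344, 350, 69, 96, 67, 93, 343, 66, 359, 354, 352, 356, 68, 355, 330, 332, 70, 368, 366, 372, 119, 73, 120, 365, 72, 380, 375, 377, 74, 376, 75, 384], [345, 76, 385, 367, 86, 79, 139, 78, 390, 387, 389, 80, 388, 90, 91, 162, 89, 95, 92, 386, 391, 88, 163, 353, 374, 394, 360, 395, 97, 399, 397, 403], [121, 100, 122, 396, 99, 411, 406, 408, 101, 407, 102, 415, 398, 111, 105, 142, 104, 420, 417, 419, 106, 418, 115, 168, 114, 118, 116, 416, 421, 113, 171, 405], [424, 425, 381, 412, 130, 125, 145, 124, 430, 427, 429, 126, 428, 169, 133,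 136, 134, 426, 431, 132, 324, 434, 435, 138, 141, 144, 164, 151, 154, 152, 150, 165], [436, 437, 170, 172, 308, 179, 184, 441, 439, 445, 206, 187, 207, 438, 186, 453, 448, 450, 188, 449, 189, 457, 440, 198, 192, 224, 191, 462, 459, 461, 193, 460], [202, 247, 201, 205, 203, 458, 463, 200, 250, 447, 466, 467, 454, 215, 210, 227, 209, 472, 469, 471, 211, 470, 248, 218, 221, 219, 468, 473, 217, 290, 476, 477], [223, 226, 243, 233, 236, 234, 232, 244, 478, 479, 249, 251, 259, 254, 268, 253, 484, 481, 483, 255, 482, 287, 262, 265, 263, 480, 485, 261, 291, 488, 489, 267], [283, 274, 277, 275, 273, 284, 490, 491, 288, 289, 305, 297, 300, 298, 296, 306, 492, 493, 309, 310, 320, 321, 333, 328, 342, 327, 498, 495, 497, 329, 496, 361], [336, 339, 337, 494, 499, 335, 364, 502, 503, 341, 357, 348, 351,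 349, 347, 358, 504, 505, 362, 363, 378, 370, 373, 371, 369, 379, 506, 507, 382, 383, 392, 393], [409, 401, 404, 402, 400, 410, 508, 509, 413, 414, 422, 423, 432, 433, 451, 443, 446, 444, 442, 452, 510, 511, 455, 456, 464, 465, 474, 475, 486, 487, 500, 501]],
  [[6, 14, 21, 28, 35, 40, 9, 46, 47, 60, 66, 72, 78, 83, 55, 88, 89, 96, 99, 104, 108, 56, 113, 114, 119, 121, 124, 127, 57, 132, 133, 86], [111, 130, 146, 58, 150, 151, 112, 131, 59, 157, 158, 1, 4, 5, 61, 62, 162, 168, 169, 170, 171, 167, 172, 43, 175, 176, 44, 45, 0, 182, 183, 186], [191, 195, 17, 200, 201, 206, 209, 212, 24, 217, 218, 198, 215, 228, 31, 232, 233, 199, 216, 173, 239, 240, 12, 13, 48, 174, 247, 248, 249, 250, 246, 251], [10, 253, 256, 25, 261, 262, 259, 269, 32, 273, 274, 260, 38, 279, 280, 19, 20, 49, 52, 287, 288,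 286, 289, 11, 290, 18, 291, 292, 33, 296, 297, 39], [301, 302, 26, 27, 50, 177, 309, 308, 310, 231, 243, 244, 272, 283, 284, 295, 305, 306, 178, 314, 315, 34, 179, 180, 320, 319, 321, 285, 307, 181, 53, 245], [322, 323, 15, 16, 36, 37, 41, 42, 22, 29, 54, 23, 51, 87, 163, 2, 3, 324, 149, 164, 165, 166, 7, 8, 327, 330, 69, 335, 336, 333, 343, 75], [347, 348, 334, 81, 353, 354, 64, 65, 90, 93, 361, 362, 360, 363, 63, 364, 365, 76, 369, 370, 82, 374, 375, 70, 71, 91, 120, 382, 381, 383, 346, 357], [358, 368, 378, 379, 137, 386, 387, 77, 138, 139, 392, 391, 393, 359, 380, 159, 94, 394, 395, 79, 80, 84, 85, 67, 73, 95, 68, 92, 396, 102, 400, 401], [107, 405, 406, 97, 98, 115, 122, 413, 412, 414, 399, 409, 410, 140, 416, 417, 103, 141, 142, 422, 421, 423, 411, 155, 117, 424, 425, 105, 106, 109,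 110, 100], [118, 116, 74, 101, 143, 426, 427, 123, 144, 145, 432, 431, 433, 156, 135, 434, 435, 125, 126, 128, 129, 136, 134, 390, 420, 430, 325, 153, 436, 437, 147, 148], [154, 152, 161, 160, 30, 318, 438, 189, 442, 443, 194, 447, 448, 184, 185, 202, 207, 455, 454, 456, 441, 451, 452, 222, 458, 459, 190, 223, 224, 464, 463, 465], [453, 237, 204, 466, 467, 192, 193, 196, 197, 187, 205, 203, 188, 225, 468, 469, 208, 226, 227, 474, 473, 475, 238, 220, 476, 477, 210, 211, 213, 214, 221, 219], [462, 472, 311, 235, 478, 479, 229, 230, 236, 234, 242, 241, 266, 480, 481, 252, 267, 268, 486, 485, 487, 278, 264, 488, 489, 254, 255, 257, 258, 265, 263, 484], [312, 276, 490, 491, 270, 271, 277, 275, 282, 281, 313, 299, 492, 493, 293, 294, 300, 298, 304, 303, 317, 316, 340, 494, 495, 326, 341, 342, 500,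 499, 501, 352], [338, 502, 503, 328, 329, 331, 332, 339, 337, 498, 384, 350, 504, 505, 344, 345, 351, 349, 356, 355, 385, 372, 506, 507, 366, 367, 373, 371, 377, 376, 389, 388], [415, 403, 508, 509, 397, 398, 404, 402, 408, 407, 419, 418, 429, 428, 457, 445, 510, 511, 439, 440, 446, 444, 450, 449, 461, 460, 471, 470, 483, 482, 497, 496]],
  [[7, 15, 22, 29, 36, 41, 46, 0, 54, 61, 67, 73, 79, 84, 88, 1, 95, 90, 100, 105, 109, 113, 2, 118, 91, 115, 125, 128, 132, 3, 136, 138], [141, 144, 147, 150, 4, 154, 155, 156, 157, 5, 161, 162, 164, 166, 6, 172, 55, 56, 57, 62, 116, 160, 8, 48, 49, 50, 179, 181, 182, 9, 51, 187], [192, 196, 200, 10, 205, 202, 210, 213, 217, 11, 221, 223, 226, 229, 232, 12, 236, 237, 238, 239, 13, 242, 243, 245, 14, 251, 17, 24, 174, 203, 241, 16], [247, 254, 257, 261,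 18, 265, 267, 270, 273, 19, 277, 278, 279, 20, 282, 283, 285, 21, 289, 25, 52, 281, 23, 248, 219, 287, 263, 293, 296, 26, 300, 301], [27, 304, 305, 307, 28, 310, 177, 303, 30, 311, 31, 234, 312, 32, 275, 313, 33, 298, 314, 34, 317, 318, 35, 321, 180, 316, 37, 38, 39, 40, 323, 173], [53, 42, 43, 249, 44, 320, 45, 322, 175, 176, 183, 288, 47, 159, 92, 168, 169, 134, 325, 58, 152, 59, 60, 170, 328, 331, 335, 63, 339, 341, 344, 347], [64, 351, 352, 353, 65, 356, 357, 359, 66, 363, 69, 93, 355, 68, 361, 337, 366, 369, 70, 373, 374, 71, 377, 378, 380, 72, 383, 120, 376, 74, 384, 75], [349, 385, 76, 371, 386, 77, 389, 390, 78, 393, 139, 388, 80, 81, 82, 83, 395, 94, 85, 86, 392, 87, 394, 96, 119, 163, 362, 89, 397, 400, 97, 404], [405, 98, 408, 409, 411, 99, 414, 122, 407, 101, 415, 102, 402, 416,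 103, 419, 420, 104, 423, 142, 418, 106, 107, 108, 425, 117, 110, 111, 422, 112, 424, 121], [171, 114, 382, 413, 426, 123, 429, 430, 124, 433, 145, 428, 126, 127, 435, 135, 129, 130, 432, 131, 434, 324, 133, 137, 140, 143, 146, 437, 153, 148, 149, 436], [165, 151, 167, 158, 309, 178, 439, 442, 184, 446, 447, 185, 450, 451, 453, 186, 456, 207, 449, 188, 457, 189, 444, 458, 190, 461, 462, 191, 465, 224, 460, 193], [194, 195, 467, 204, 197, 198, 464, 199, 466, 206, 250, 201, 455, 468, 208, 471, 472, 209, 475, 227, 470, 211, 212, 477, 220, 214, 215, 474, 216, 476, 290, 218], [222, 225, 228, 479, 235, 230, 231, 478, 244, 233, 246, 240, 480, 252, 483, 484, 253, 487, 268, 482, 255, 256, 489, 264, 258, 259, 486, 260, 488, 291, 262, 266], [269, 491, 276, 271, 272, 490, 284, 274, 286, 280, 292, 493,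 299, 294, 295, 492, 306, 297, 308, 302, 319, 315, 494, 326, 497, 498, 327, 501, 342, 496, 329, 330], [503, 338, 332, 333, 500, 334, 502, 364, 336, 340, 343, 505, 350, 345, 346, 504, 358, 348, 360, 354, 365, 507, 372, 367, 368, 506, 379, 370, 381, 375, 391, 387], [396, 509, 403, 398, 399, 508, 410, 401, 412, 406, 421, 417, 431, 427, 438, 511, 445, 440, 441, 510, 452, 443, 454, 448, 463, 459, 473, 469, 485, 481, 499, 495]],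
  [[8, 16, 23, 30, 37, 42, 47, 51, 9, 62, 68, 74, 80, 85, 89, 92, 55, 93, 101, 106, 110, 114, 116, 56, 120, 122, 126, 129, 133, 134, 57, 139], [142, 145, 148, 151, 152, 58, 117, 135, 158, 160, 59, 163, 165, 167, 170, 60, 95, 118, 136, 61, 2, 5, 7, 174, 52, 177, 180, 53, 183, 54, 0, 188], [193, 197, 201, 203, 17, 207, 211, 214, 218, 219, 24, 224, 227, 230, 233, 234, 31, 204, 220, 240, 241, 173, 244, 246, 249, 43, 205, 221, 48, 10, 13, 15], [250, 255, 258, 262, 263, 25, 268, 271, 274, 275, 32, 264, 280, 281, 38, 284, 286, 288, 175, 265, 49, 20, 22, 290, 11, 291, 18, 294, 297, 298, 33, 302], [303, 39, 306, 308, 309, 176, 50, 27, 29, 235, 236, 12, 276, 277, 19, 299, 300, 26, 315, 316, 178, 319, 320, 44, 179, 34, 36, 282, 304, 322, 45, 242], [181, 41, 251, 14, 321, 35, 323, 40, 289, 310, 182,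 21, 46, 94, 1, 171, 324, 3, 153, 154, 4, 161, 172, 6, 329, 332, 336, 337, 69, 342, 345, 348], [349, 75, 338, 354, 355, 81, 358, 360, 362, 96, 339, 90, 65, 67, 364, 63, 367, 370, 371, 76, 375, 376, 82, 379, 381, 382, 119, 91, 71, 73, 350, 351], [64, 372, 373, 70, 387, 388, 137, 391, 392, 86, 138, 77, 79, 356, 377, 394, 87, 159, 84, 393, 78, 395, 83, 363, 383, 162, 66, 88, 398, 401, 402, 102], [406, 407, 107, 410, 412, 413, 121, 115, 98, 100, 403, 404, 97, 417, 418, 140, 421, 422, 111, 141, 103, 105, 408, 424, 112, 155, 109, 423, 104, 425, 108, 414], [168, 113, 72, 99, 427, 428, 143, 431, 432, 130, 144, 123, 125, 434, 131, 156, 128, 433, 124, 435, 127, 169, 132, 389, 419, 429, 436, 149, 325, 147, 437, 146], [164, 150, 166, 157, 28, 317, 440, 443, 444, 189, 448, 449, 194, 452, 454, 455, 206,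 202, 185, 187, 445, 446, 184, 459, 460, 222, 463, 464, 198, 223, 190, 192], [450, 466, 199, 237, 196, 465, 191, 467, 195, 456, 247, 200, 186, 469, 470, 225, 473, 474, 215, 226, 208, 210, 476, 216, 238, 213, 475, 209, 477, 212, 248, 217], [461, 471, 478, 231, 311, 229, 479, 228, 243, 232, 245, 239, 481, 482, 266, 485, 486, 259, 267, 252, 254, 488, 260, 278, 257, 487, 253, 489, 256, 287, 261, 483], [490, 272, 312, 270, 491, 269, 283, 273, 285, 279, 492, 295, 313, 293, 493, 292, 305, 296, 307, 301, 318, 314, 495, 496, 340, 499, 500, 333, 341, 326, 328, 502], [334, 352, 331, 501, 327, 503, 330, 361, 335, 497, 504, 346, 384, 344, 505, 343, 357, 347, 359, 353, 506, 368, 385, 366, 507, 365, 378, 369, 380, 374, 390, 386], [508, 399, 415, 397, 509, 396, 409, 400, 411, 405, 420, 416, 430, 426, 510,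 441, 457, 439, 511, 438, 451, 442, 453, 447, 462, 458, 472, 468, 484, 480, 498, 494]]]

/-- the tree of the `2`-subgroup: generator and earlier element -/
def StN : List (List (ℕ × ℕ)) := [[(0, 0), (0, 0), (1, 0), (2, 0), (3, 0), (4, 0), (5, 0), (6, 0), (7, 0), (0, 1), (1, 1), (2, 1), (3, 1), (4, 1), (5, 1), (6, 1), (7, 1), (0, 2), (2, 2), (3, 2), (4, 2), (5, 2), (6, 2), (7, 2), (0, 3), (1, 3), (3, 3), (4, 3), (5, 3), (6, 3), (7, 3), (0, 4)],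
  [(1, 4), (2, 4), (4, 4), (5, 4), (6, 4), (7, 4), (1, 5), (2, 5), (5, 5), (6, 5), (7, 5), (0, 6), (3, 6), (4, 6), (6, 6), (7, 6), (0, 7), (1, 7), (2, 7), (7, 7), (1, 8), (4, 8), (6, 8), (0, 9), (1, 9), (2, 9), (3, 9), (4, 9), (5, 9), (6, 9), (7, 9), (2, 10)],
  [(3, 10), (4, 10), (5, 10), (6, 10), (7, 10), (1, 11), (3, 11), (4, 11), (5, 11), (6, 11), (7, 11), (1, 12), (2, 12), (4, 12), (5, 12), (6, 12), (7, 12), (1, 13), (2, 13), (5, 13), (6, 13), (7, 13), (3, 14), (4, 14), (6, 14), (7, 14), (1, 15), (2, 15), (7, 15), (1, 16), (4, 16), (6, 16)],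
  [(5, 17), (3, 18), (4, 18), (5, 18), (6, 18), (7, 18), (2, 19), (4, 19), (5, 19), (6, 19), (7, 19), (2, 20), (5, 20), (6, 20), (7, 20), (3, 21), (4, 21), (6, 21), (7, 21), (2, 22), (7, 22), (4, 23), (6, 23), (5, 24), (7, 24), (5, 25), (7, 25), (4, 26), (5, 26), (6, 26), (7, 26), (5, 27)],
  [(6, 27), (7, 27), (3, 28), (4, 28), (6, 28), (7, 28), (7, 29), (4, 30), (6, 30), (4, 31), (6, 31), (7, 31), (4, 32), (6, 32), (7, 32), (4, 33), (6, 33), (7, 33), (5, 34), (6, 34), (7, 34), (4, 35), (6, 35), (7, 35), (7, 36), (4, 37), (6, 37), (6, 38), (6, 39), (6, 40), (7, 40), (0, 41)],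
  [(7, 41), (6, 42), (6, 43), (7, 43), (6, 44), (7, 44), (6, 45), (7, 45), (1, 46), (2, 46), (7, 46), (1, 47), (6, 47), (4, 55), (7, 55), (5, 56), (5, 57), (7, 57), (4, 58), (6, 58), (7, 58), (6, 59), (6, 60), (7, 60), (3, 63), (4, 63), (5, 63), (6, 63), (7, 63), (2, 64), (4, 64), (5, 64)],
  [(6, 64), (7, 64), (2, 65), (5, 65), (6, 65), (7, 65), (3, 66), (4, 66), (6, 66), (7, 66), (2, 67), (7, 67), (4, 68), (6, 68), (5, 69), (7, 69), (4, 70), (5, 70), (6, 70), (7, 70), (5, 71), (6, 71), (7, 71), (3, 72), (4, 72), (6, 72), (7, 72), (7, 73), (4, 74), (6, 74), (4, 75), (6, 75)],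
  [(7, 75), (4, 76), (6, 76), (7, 76), (5, 77), (6, 77), (7, 77), (4, 78), (6, 78), (7, 78), (7, 79), (4, 80), (6, 80), (6, 81), (6, 82), (6, 83), (7, 83), (7, 84), (6, 85), (6, 86), (7, 86), (6, 87), (7, 87), (1, 88), (2, 88), (7, 88), (1, 89), (6, 89), (4, 97), (5, 97), (6, 97), (7, 97)],
  [(5, 98), (6, 98), (7, 98), (3, 99), (4, 99), (6, 99), (7, 99), (7, 100), (4, 101), (6, 101), (4, 102), (6, 102), (7, 102), (5, 103), (6, 103), (7, 103), (4, 104), (6, 104), (7, 104), (7, 105), (4, 106), (6, 106), (6, 107), (6, 108), (7, 108), (7, 109), (6, 110), (6, 111), (7, 111), (6, 112), (7, 112), (2, 113)],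
  [(7, 113), (6, 114), (7, 119), (7, 121), (5, 123), (6, 123), (7, 123), (4, 124), (6, 124), (7, 124), (7, 125), (4, 126), (6, 126), (6, 127), (7, 127), (7, 128), (6, 129), (6, 130), (7, 130), (6, 131), (7, 131), (7, 132), (6, 133), (6, 137), (6, 140), (6, 143), (6, 146), (7, 146), (7, 147), (6, 148), (6, 149), (7, 149)],
  [(7, 150), (6, 151), (7, 157), (6, 158), (7, 176), (6, 178), (4, 184), (5, 184), (6, 184), (7, 184), (5, 185), (6, 185), (7, 185), (3, 186), (4, 186), (6, 186), (7, 186), (7, 187), (4, 188), (6, 188), (4, 189), (6, 189), (7, 189), (5, 190), (6, 190), (7, 190), (4, 191), (6, 191), (7, 191), (7, 192), (4, 193), (6, 193)],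
  [(6, 194), (6, 195), (7, 195), (7, 196), (6, 197), (6, 198), (7, 198), (6, 199), (7, 199), (2, 200), (7, 200), (6, 201), (7, 206), (5, 208), (6, 208), (7, 208), (4, 209), (6, 209), (7, 209), (7, 210), (4, 211), (6, 211), (6, 212), (7, 212), (7, 213), (6, 214), (6, 215), (7, 215), (6, 216), (7, 216), (7, 217), (6, 218)],
  [(6, 222), (6, 225), (6, 228), (7, 228), (7, 229), (6, 230), (6, 231), (7, 231), (7, 232), (6, 233), (7, 239), (6, 240), (5, 252), (6, 252), (7, 252), (4, 253), (6, 253), (7, 253), (7, 254), (4, 255), (6, 255), (6, 256), (7, 256), (7, 257), (6, 258), (6, 259), (7, 259), (6, 260), (7, 260), (7, 261), (6, 262), (6, 266)],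
  [(6, 269), (7, 269), (7, 270), (6, 271), (6, 272), (7, 272), (7, 273), (6, 274), (7, 279), (6, 280), (6, 292), (7, 292), (7, 293), (6, 294), (6, 295), (7, 295), (7, 296), (6, 297), (7, 301), (6, 302), (7, 314), (6, 315), (5, 326), (6, 326), (7, 326), (4, 327), (6, 327), (7, 327), (7, 328), (4, 329), (6, 329), (6, 330)],
  [(7, 330), (7, 331), (6, 332), (6, 333), (7, 333), (6, 334), (7, 334), (7, 335), (6, 336), (6, 340), (6, 343), (7, 343), (7, 344), (6, 345), (6, 346), (7, 346), (7, 347), (6, 348), (7, 353), (6, 354), (6, 365), (7, 365), (7, 366), (6, 367), (6, 368), (7, 368), (7, 369), (6, 370), (7, 374), (6, 375), (7, 386), (6, 387)],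
  [(6, 396), (7, 396), (7, 397), (6, 398), (6, 399), (7, 399), (7, 400), (6, 401), (7, 405), (6, 406), (7, 416), (6, 417), (7, 426), (6, 427), (6, 438), (7, 438), (7, 439), (6, 440), (6, 441), (7, 441), (7, 442), (6, 443), (7, 447), (6, 448), (7, 458), (6, 459), (7, 468), (6, 469), (7, 480), (6, 481), (7, 494), (6, 495)]]

/-- the word of an element of the `2`-subgroup -/
noncomputable def swE (m : ℕ) : List ℕ :=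
  withVal m (fun m => nthR (nthR SWn (Nat.div m 32) []) (Nat.mod m 32) [])

noncomputable def gtE (a m : ℕ) : ℕ :=
  withVal m (fun m => nthR (nthR (nthR GTn a []) (Nat.div m 32) []) (Nat.mod m 32) 0)

noncomputable def stE (m : ℕ) : ℕ × ℕ :=
  withVal m (fun m => nthR (nthR StN (Nat.div m 32) []) (Nat.mod m 32) (0, 0))

theorem SW_zero : swE 0 = [] := by decide +kernel
theorem SW_r : swE 9 = [37, 37] := by decide +kernel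

/-- the check of an entry of the multiplication table -/
noncomputable def stabP (a m : ℕ) : Bool :=
  Nat.blt (gtE a m) 512 && eqW tabN BASE (Nat.add 37 a :: swE m) (swE (gtE a m))

theorem S_tab0 : allLt 512 (stabP 0) = true := by decide +kernel
theorem S_tab1 : allLt 512 (stabP 1) = true := by decide +kernel
theorem S_tab2 : allLt 512 (stabP 2) = true := by decide +kernel
theorem S_tab3 : allLt 512 (stabP 3) = true := by decide +kernel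
theorem S_tab4 : allLt 512 (stabP 4) = true := by decide +kernel
theorem S_tab5 : allLt 512 (stabP 5) = true := by decide +kernel
theorem S_tab6 : allLt 512 (stabP 6) = true := by decide +kernel
theorem S_tab7 : allLt 512 (stabP 7) = true := by decide +kernel

/-- the check of an entry of the tree -/
noncomputable def streeP (m : ℕ) : Bool :=
  Nat.beq m 0 || (Nat.blt (stE m).2 m && Nat.blt (stE m).1 8 &&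
    Nat.beq (gtE (stE m).1 (stE m).2) m)

theorem S_tree' : allLt 512 streeP = true := by decide +kernel

theorem S_fp : forceList ((List.range 512).map (fun m => evW tabN (swE m) 2523)) nodupB = true := by
  decide +kernel

theorem r_eq : eqW tabN BASE [37, 37] [1] = true := by decide +kernel

theorem commR : allLt 8 (fun a => eqW tabN BASE [1, Nat.add 37 a] [Nat.add 37 a, 1]) = true := by
  decide +kernel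

/-- the words moving the first base point to the base points -/
def WsQ : List (List ℕ) := [[], [37], [38], [39], [40]]

/-- the tables of the extra tests -/
def EQ : List ℕ := [41, 42, 43, 44]

theorem base_Q : BASE = WsQ.map (fun w => evW tabN w 2523) := by decide +kernel

theorem r_b0 : g13 (tabN 1) 2523 = 2076 := by decide +kernel

/-- the test for the image of the first base point under an element centralising the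
`2`-subgroup -/
noncomputable def centP (c : ℕ) : Bool :=
  !(centB (tabN := tabN) Ls WsQ EQ 2523 c) || Nat.beq c 2523 || Nat.beq c 2076

theorem cent_ok_0 : chunkB centP 575 4600 0 = true := by decide +kernel
theorem cent_ok_1 : chunkB centP 575 4600 1 = true := by decide +kernel
theorem cent_ok_2 : chunkB centP 575 4600 2 = true := by decide +kernel
theorem cent_ok_3 : chunkB centP 575 4600 3 = true := by decide +kernel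
theorem cent_ok_4 : chunkB centP 575 4600 4 = true := by decide +kernel
theorem cent_ok_5 : chunkB centP 575 4600 5 = true := by decide +kernel
theorem cent_ok_6 : chunkB centP 575 4600 6 = true := by decide +kernel
theorem cent_ok_7 : chunkB centP 575 4600 7 = true := by decide +kernel

theorem cent_ok : ∀ c < 4600, centP c = true := by
  apply all_of_chunks centP 575 8 4600 (by norm_num) (by norm_num)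
  intro k hk
  interval_cases k
  · exact cent_ok_0
  · exact cent_ok_1
  · exact cent_ok_2
  · exact cent_ok_3
  · exact cent_ok_4
  · exact cent_ok_5
  · exact cent_ok_6
  · exact cent_ok_7

/-! ### powers, inverses, the normalising element -/

/-- the table of the inverse, for the tables of the involution and of the powers of the element
of order `23` -/
def ι (k : ℕ) : ℕ := bif Nat.blt k 2 then k else Nat.sub 25 k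

/-- the table of a power of the element of order `23` -/
def xi (i : ℕ) : ℕ := bif Nat.beq i 0 then 0 else Nat.succ i

theorem X_pow : allLt 21 (fun i => eqW tabN BASE [2, Nat.add 2 i] [Nat.add 3 i]) = true := by
  decide +kernel

theorem X_23 : eqW tabN BASE [2, 23] [] = true := by decide +kernel

theorem inv_ok : allLt 24 (fun k => eqW tabN BASE [ι k, k] []) = true := by decide +kernel

theorem N_ok : eqW tabN BASE [36, 2] [3, 36] = true := by decide +kernel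

theorem X_ne : Nat.beq (g13 (tabN 2) 0) 0 = false := by decide +kernel

/-- the representatives of the conjugates of the involution: conjugating word, failing relation and point for the first and the fifth power -/
def RD : List (List (List ℕ × (ℕ × ℕ) × (ℕ × ℕ))) := [[([], (999, 0), (0, 0)), ([1, 2], (0, 0), (0, 0)), ([1, 3], (0, 0), (0, 0)), ([1, 4], (0, 0), (3, 0)), ([1, 5], (3, 0), (0, 0)), ([1, 6], (0, 0), (0, 0)), ([1, 7], (0, 0), (0, 0)), ([1, 8], (0, 0), (0, 0)), ([1, 9], (3, 0), (0, 0)), ([1, 10], (0, 0), (0, 0)), ([1, 11], (0, 0), (0, 0)), ([1, 12], (0, 0), (0, 0)), ([1, 13], (0, 0), (0, 0)), ([1, 14], (0, 0), (0, 0)), ([1, 15], (0, 0), (0, 0)), ([1, 16], (0, 0), (0, 0)), ([1, 17], (0, 0), (0, 0)), ([1, 18], (0, 0), (0, 0)), ([1, 19], (3, 0), (0, 0)), ([1, 20], (3, 0), (3, 0)),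 ([1, 21], (0, 0), (0, 0)), ([1, 22], (0, 0), (0, 0)), ([1, 2, 1, 2], (0, 0), (0, 0)), ([1, 3, 1, 2], (0, 0), (0, 0)), ([1, 4, 1, 2], (0, 0), (0, 0)), ([1, 5, 1, 2], (3, 0), (0, 0)), ([1, 6, 1, 2], (0, 0), (0, 0)), ([1, 7, 1, 2], (0, 0), (0, 0)), ([1, 8, 1, 2], (0, 0), (3, 0)), ([1, 9, 1, 2], (0, 0), (0, 0)), ([1, 10, 1, 2], (0, 0), (0, 0)), ([1, 11, 1, 2], (3, 0), (0, 0)), ([1, 12, 1, 2], (0, 0), (0, 0)), ([1, 13, 1, 2], (0, 0), (0, 0)), ([1, 14, 1, 2], (0, 0), (0, 0)), ([1, 15, 1, 2], (0, 0), (0, 0)), ([1, 16, 1, 2], (0, 0), (0, 0)), ([1, 17, 1, 2], (0, 0), (0, 0)), ([1, 18, 1, 2], (0, 0), (0, 0)), ([1, 19, 1, 2], (0, 0), (0, 0)), ([1, 20, 1, 2], (0, 0), (0, 0)), ([1, 21, 1, 2], (0, 0), (0, 0)), ([1, 22, 1, 2], (0, 0), (0, 0)), ([1, 2, 1, 3], (0, 0), (3, 0)), ([1, 3, 1, 3], (0, 0), (0, 0)),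 ([1, 4, 1, 3], (3, 0), (0, 0)), ([1, 5, 1, 3], (0, 0), (0, 0)), ([1, 6, 1, 3], (0, 0), (0, 0)), ([1, 7, 1, 3], (0, 0), (0, 0)), ([1, 8, 1, 3], (0, 0), (3, 0)), ([1, 9, 1, 3], (0, 0), (3, 0)), ([1, 10, 1, 3], (0, 0), (0, 0)), ([1, 11, 1, 3], (0, 0), (0, 0)), ([1, 12, 1, 3], (3, 0), (3, 0)), ([1, 13, 1, 3], (3, 0), (0, 0)), ([1, 14, 1, 3], (0, 0), (1, 0)), ([1, 15, 1, 3], (3, 0), (3, 0)), ([1, 16, 1, 3], (0, 0), (0, 0)), ([1, 17, 1, 3], (0, 0), (0, 0)), ([1, 18, 1, 3], (3, 0), (0, 0)), ([1, 19, 1, 3], (0, 0), (0, 0)), ([1, 20, 1, 3], (0, 0), (0, 0)), ([1, 21, 1, 3], (0, 0), (0, 0)), ([1, 23, 1, 3], (3, 0), (3, 0)), ([1, 2, 1, 4], (0, 0), (3, 0)), ([1, 3, 1, 4], (3, 0), (0, 0)), ([1, 5, 1, 4], (0, 0), (0, 0)), ([1, 6, 1, 4], (0, 0), (3, 0)), ([1, 7, 1, 4], (0, 0), (0, 0)), ([1, 9, 1, 4], (0,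 0), (3, 0)), ([1, 10, 1, 4], (3, 0), (0, 0)), ([1, 11, 1, 4], (0, 0), (0, 0)), ([1, 12, 1, 4], (0, 0), (0, 0)), ([1, 13, 1, 4], (0, 0), (0, 0)), ([1, 14, 1, 4], (3, 0), (0, 0)), ([1, 15, 1, 4], (0, 0), (0, 0)), ([1, 16, 1, 4], (0, 0), (3, 0)), ([1, 18, 1, 4], (0, 0), (0, 0)), ([1, 19, 1, 4], (0, 0), (0, 0)), ([1, 20, 1, 4], (0, 0), (0, 0)), ([1, 23, 1, 4], (3, 0), (0, 0)), ([1, 2, 1, 5], (0, 0), (0, 0)), ([1, 3, 1, 5], (0, 0), (0, 0)), ([1, 4, 1, 5], (3, 0), (0, 0)), ([1, 5, 1, 5], (3, 0), (0, 0)), ([1, 6, 1, 5], (3, 0), (0, 0)), ([1, 7, 1, 5], (0, 0), (0, 0)), ([1, 8, 1, 5], (0, 0), (3, 0)), ([1, 9, 1, 5], (3, 0), (0, 0)), ([1, 10, 1, 5], (0, 0), (0, 0)), ([1, 11, 1, 5], (0, 0), (0, 0)), ([1, 12, 1, 5], (0, 0), (0, 0)), ([1, 13, 1, 5], (0, 0), (3, 0)), ([1, 14, 1, 5], (0, 0), (3, 0)), ([1,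 15, 1, 5], (0, 0), (3, 0)), ([1, 17, 1, 5], (0, 0), (0, 0)), ([1, 18, 1, 5], (0, 1), (3, 0)), ([1, 19, 1, 5], (0, 0), (0, 0)), ([1, 21, 1, 5], (0, 0), (0, 0)), ([1, 22, 1, 5], (0, 0), (0, 0)), ([1, 23, 1, 5], (0, 0), (3, 0)), ([1, 2, 1, 6], (0, 0), (0, 0)), ([1, 3, 1, 6], (0, 0), (0, 0)), ([1, 4, 1, 6], (0, 0), (3, 0)), ([1, 5, 1, 6], (0, 0), (3, 0)), ([1, 6, 1, 6], (0, 0), (0, 0)), ([1, 7, 1, 6], (0, 0), (0, 0)), ([1, 8, 1, 6], (3, 0), (0, 0)), ([1, 9, 1, 6], (0, 0), (0, 0)), ([1, 11, 1, 6], (0, 0), (0, 0)), ([1, 12, 1, 6], (3, 0), (3, 1)), ([1, 13, 1, 6], (0, 0), (0, 0)), ([1, 14, 1, 6], (0, 0), (3, 0)), ([1, 15, 1, 6], (0, 0), (0, 0)), ([1, 17, 1, 6], (0, 0), (0, 0)), ([1, 18, 1, 6], (0, 0), (0, 0)), ([1, 20, 1, 6], (3, 0), (0, 0)), ([1, 21, 1, 6], (0, 0), (0, 0)), ([1, 22, 1, 6], (3,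 0), (3, 0)), ([1, 23, 1, 6], (0, 0), (0, 0)), ([1, 3, 1, 7], (0, 0), (0, 0)), ([1, 4, 1, 7], (3, 0), (0, 0)), ([1, 5, 1, 7], (0, 0), (0, 0)), ([1, 6, 1, 7], (3, 0), (0, 0)), ([1, 7, 1, 7], (0, 0), (0, 0)), ([1, 8, 1, 7], (0, 0), (3, 0)), ([1, 9, 1, 7], (0, 0), (0, 0)), ([1, 10, 1, 7], (0, 0), (0, 0))],
  [([1, 12, 1, 7], (3, 0), (0, 0)), ([1, 13, 1, 7], (3, 0), (3, 0)), ([1, 14, 1, 7], (0, 0), (0, 0)), ([1, 15, 1, 7], (0, 0), (0, 0)), ([1, 16, 1, 7], (0, 0), (0, 0)), ([1, 17, 1, 7], (3, 0), (0, 0)), ([1, 19, 1, 7], (3, 0), (0, 0)), ([1, 20, 1, 7], (0, 0), (0, 0)), ([1, 21, 1, 7], (0, 0), (0, 0)), ([1, 22, 1, 7], (0, 0), (0, 0)), ([1, 23, 1, 7], (0, 0), (0, 0)), ([1, 2, 1, 8], (0, 0), (3, 0)), ([1, 3, 1, 8], (0, 0), (0, 0)), ([1, 4, 1, 8], (0, 0), (0, 0)), ([1, 5, 1, 8], (0, 0), (3, 0)), ([1,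 6, 1, 8], (0, 0), (3, 0)), ([1, 7, 1, 8], (0, 0), (0, 0)), ([1, 8, 1, 8], (0, 0), (0, 0)), ([1, 9, 1, 8], (0, 0), (0, 0)), ([1, 10, 1, 8], (0, 0), (0, 0)), ([1, 11, 1, 8], (0, 0), (0, 0)), ([1, 12, 1, 8], (0, 0), (0, 0)), ([1, 13, 1, 8], (0, 0), (0, 0)), ([1, 14, 1, 8], (0, 0), (0, 0)), ([1, 15, 1, 8], (0, 0), (3, 0)), ([1, 16, 1, 8], (0, 1), (0, 0)), ([1, 18, 1, 8], (0, 0), (0, 0)), ([1, 19, 1, 8], (0, 0), (0, 0)), ([1, 20, 1, 8], (0, 0), (0, 0)), ([1, 21, 1, 8], (3, 0), (0, 0)), ([1, 22, 1, 8], (3, 0), (0, 0)), ([1, 23, 1, 8], (3, 0), (0, 0)), ([1, 2, 1, 9], (0, 0), (0, 0)), ([1, 3, 1, 9], (3, 0), (0, 0)), ([1, 5, 1, 9], (0, 0), (3, 0)), ([1, 6, 1, 9], (0, 0), (0, 0)), ([1, 7, 1, 9], (0, 0), (3, 0)), ([1, 8, 1, 9], (0, 0), (0, 0)), ([1, 9, 1, 9], (0, 0), (3, 0)), ([1, 10, 1, 9], (0, 0),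 (0, 0)), ([1, 11, 1, 9], (0, 0), (0, 0)), ([1, 12, 1, 9], (0, 0), (0, 0)), ([1, 13, 1, 9], (0, 0), (3, 0)), ([1, 15, 1, 9], (0, 0), (0, 0)), ([1, 17, 1, 9], (0, 0), (0, 0)), ([1, 18, 1, 9], (3, 0), (0, 0)), ([1, 21, 1, 9], (0, 0), (0, 0)), ([1, 22, 1, 9], (3, 0), (0, 0)), ([1, 23, 1, 9], (0, 0), (0, 0)), ([1, 2, 1, 10], (3, 0), (0, 0)), ([1, 4, 1, 10], (0, 0), (0, 0)), ([1, 5, 1, 10], (3, 0), (0, 0)), ([1, 6, 1, 10], (0, 0), (0, 0)), ([1, 7, 1, 10], (0, 0), (0, 0)), ([1, 8, 1, 10], (0, 0), (0, 0)), ([1, 9, 1, 10], (0, 0), (3, 0)), ([1, 10, 1, 10], (0, 0), (0, 0)), ([1, 11, 1, 10], (0, 0), (0, 0)), ([1, 12, 1, 10], (0, 0), (3, 0)), ([1, 13, 1, 10], (0, 0), (0, 0)), ([1, 14, 1, 10], (3, 0), (0, 1)), ([1, 16, 1, 10], (0, 0), (3, 0)), ([1, 18, 1, 10], (0, 0), (0, 0)), ([1, 19, 1, 10], (0, 0),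 (0, 0)), ([1, 21, 1, 10], (0, 0), (3, 0)), ([1, 22, 1, 10], (0, 0), (0, 0)), ([1, 23, 1, 10], (0, 0), (0, 0)), ([1, 2, 1, 11], (0, 0), (3, 0)), ([1, 3, 1, 11], (0, 0), (3, 0)), ([1, 4, 1, 11], (3, 0), (0, 0)), ([1, 5, 1, 11], (0, 0), (0, 0)), ([1, 6, 1, 11], (0, 0), (0, 0)), ([1, 7, 1, 11], (0, 0), (0, 0)), ([1, 8, 1, 11], (0, 0), (0, 0)), ([1, 9, 1, 11], (0, 0), (0, 0)), ([1, 11, 1, 11], (0, 0), (3, 0)), ([1, 12, 1, 11], (0, 0), (0, 0)), ([1, 13, 1, 11], (0, 0), (3, 0)), ([1, 15, 1, 11], (3, 0), (0, 0)), ([1, 16, 1, 11], (0, 0), (0, 0)), ([1, 17, 1, 11], (3, 0), (0, 0)), ([1, 18, 1, 11], (0, 0), (0, 0)), ([1, 19, 1, 11], (0, 0), (3, 0)), ([1, 20, 1, 11], (0, 0), (0, 0)), ([1, 21, 1, 11], (0, 0), (3, 0)), ([1, 22, 1, 11], (0, 0), (0, 0)), ([1, 2, 1, 12], (0, 0), (0, 0)), ([1, 3, 1, 12], (0,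 0), (0, 0)), ([1, 4, 1, 12], (3, 0), (0, 0)), ([1, 5, 1, 12], (0, 0), (0, 0)), ([1, 6, 1, 12], (0, 0), (0, 0)), ([1, 7, 1, 12], (0, 0), (3, 0)), ([1, 8, 1, 12], (0, 0), (0, 0)), ([1, 9, 1, 12], (0, 0), (0, 0)), ([1, 10, 1, 12], (0, 0), (0, 0)), ([1, 11, 1, 12], (0, 0), (0, 0)), ([1, 12, 1, 12], (0, 0), (0, 0)), ([1, 14, 1, 12], (0, 0), (3, 0)), ([1, 15, 1, 12], (0, 0), (0, 0)), ([1, 16, 1, 12], (3, 0), (0, 0)), ([1, 17, 1, 12], (3, 0), (0, 0)), ([1, 18, 1, 12], (0, 0), (0, 0)), ([1, 19, 1, 12], (3, 0), (0, 0)), ([1, 20, 1, 12], (1, 0), (0, 0)), ([1, 21, 1, 12], (0, 0), (0, 0)), ([1, 22, 1, 12], (3, 0), (0, 0)), ([1, 23, 1, 12], (3, 0), (0, 0)), ([1, 2, 1, 13], (0, 0), (0, 0)), ([1, 4, 1, 13], (0, 0), (0, 0)), ([1, 5, 1, 13], (0, 0), (0, 0)), ([1, 6, 1, 13], (0, 0), (0, 0)), ([1, 7, 1, 13],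 (0, 0), (0, 0)), ([1, 8, 1, 13], (0, 0), (0, 0)), ([1, 9, 1, 13], (0, 0), (0, 0)), ([1, 10, 1, 13], (0, 0), (0, 0)), ([1, 11, 1, 13], (0, 0), (0, 0)), ([1, 13, 1, 13], (0, 0), (3, 0)), ([1, 14, 1, 13], (0, 0), (0, 0)), ([1, 15, 1, 13], (3, 0), (3, 0)), ([1, 16, 1, 13], (0, 0), (3, 0)), ([1, 17, 1, 13], (0, 0), (0, 0)), ([1, 18, 1, 13], (0, 0), (3, 0)), ([1, 19, 1, 13], (0, 0), (0, 0)), ([1, 20, 1, 13], (0, 0), (3, 0)), ([1, 21, 1, 13], (0, 0), (3, 0)), ([1, 23, 1, 13], (3, 0), (0, 0)), ([1, 2, 1, 14], (0, 0), (0, 0)), ([1, 3, 1, 14], (0, 0), (3, 0))],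
  [([1, 4, 1, 14], (0, 0), (0, 0)), ([1, 5, 1, 14], (0, 0), (0, 0)), ([1, 6, 1, 14], (0, 0), (0, 0)), ([1, 7, 1, 14], (0, 0), (0, 0)), ([1, 8, 1, 14], (0, 0), (3, 0)), ([1, 10, 1, 14], (0, 0), (0, 0)), ([1, 12, 1, 14], (3, 0), (3, 0)), ([1, 13, 1, 14], (0, 0), (3, 0)), ([1, 15, 1, 14], (0, 0), (3, 0)), ([1, 18, 1, 14], (0, 0), (0, 0)), ([1, 20, 1, 14], (0, 0), (0, 0)), ([1, 21, 1, 14], (3, 0), (3, 0)), ([1, 22, 1, 14], (3, 0), (0, 0)), ([1, 23, 1, 14], (0, 0), (3, 0)), ([1, 2, 1, 15], (0, 0), (0, 0)), ([1, 3, 1, 15], (0, 0), (3, 0)), ([1, 4, 1, 15], (0, 0), (0, 0)), ([1, 5, 1, 15], (0, 0), (0, 0)), ([1, 7, 1, 15], (0, 0), (3, 0)), ([1, 8, 1, 15], (3, 0), (3, 0)), ([1, 9, 1, 15], (0, 0), (3, 0)), ([1, 11, 1, 15], (0, 0), (0, 0)), ([1, 12, 1, 15], (0, 0), (0, 0)), ([1, 13, 1, 15], (0, 0), (0,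 0)), ([1, 14, 1, 15], (0, 0), (0, 0)), ([1, 15, 1, 15], (3, 0), (0, 0)), ([1, 16, 1, 15], (3, 0), (0, 0)), ([1, 17, 1, 15], (0, 0), (0, 0)), ([1, 18, 1, 15], (3, 0), (0, 0)), ([1, 19, 1, 15], (0, 0), (0, 1)), ([1, 20, 1, 15], (0, 0), (0, 0)), ([1, 21, 1, 15], (0, 0), (3, 0)), ([1, 22, 1, 15], (0, 0), (0, 0)), ([1, 23, 1, 15], (0, 0), (0, 0)), ([1, 2, 1, 16], (0, 0), (0, 0)), ([1, 3, 1, 16], (0, 0), (0, 0)), ([1, 4, 1, 16], (0, 0), (0, 0)), ([1, 5, 1, 16], (0, 0), (0, 0)), ([1, 6, 1, 16], (0, 0), (0, 0)), ([1, 7, 1, 16], (0, 0), (0, 0)), ([1, 8, 1, 16], (0, 0), (3, 0)), ([1, 10, 1, 16], (0, 0), (0, 0)), ([1, 11, 1, 16], (0, 0), (0, 0)), ([1, 12, 1, 16], (0, 0), (0, 0)), ([1, 13, 1, 16], (3, 0), (0, 0)), ([1, 14, 1, 16], (0, 0), (0, 0)), ([1, 15, 1, 16], (0, 0), (0, 0)), ([1, 16, 1, 16], (3,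 0), (0, 0)), ([1, 17, 1, 16], (0, 0), (0, 0)), ([1, 18, 1, 16], (0, 0), (0, 0)), ([1, 20, 1, 16], (0, 0), (0, 0)), ([1, 2, 1, 17], (3, 0), (0, 0)), ([1, 3, 1, 17], (3, 0), (3, 0)), ([1, 4, 1, 17], (3, 0), (3, 0)), ([1, 5, 1, 17], (0, 0), (0, 0)), ([1, 7, 1, 17], (3, 0), (0, 0)), ([1, 9, 1, 17], (3, 0), (0, 0)), ([1, 10, 1, 17], (0, 0), (0, 0)), ([1, 11, 1, 17], (0, 0), (0, 1)), ([1, 12, 1, 17], (0, 0), (3, 0)), ([1, 13, 1, 17], (0, 0), (0, 0)), ([1, 14, 1, 17], (0, 0), (3, 0)), ([1, 15, 1, 17], (3, 0), (0, 0)), ([1, 16, 1, 17], (0, 0), (0, 0)), ([1, 17, 1, 17], (0, 0), (3, 0)), ([1, 18, 1, 17], (0, 0), (3, 0)), ([1, 19, 1, 17], (0, 0), (0, 0)), ([1, 20, 1, 17], (3, 0), (3, 0)), ([1, 22, 1, 17], (0, 0), (0, 0)), ([1, 23, 1, 17], (0, 0), (3, 0)), ([1, 2, 1, 18], (0, 0), (0, 0)), ([1, 3, 1,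 18], (0, 0), (0, 2)), ([1, 4, 1, 18], (0, 0), (3, 0)), ([1, 5, 1, 18], (0, 0), (0, 0)), ([1, 9, 1, 18], (0, 0), (3, 0)), ([1, 10, 1, 18], (3, 0), (0, 0)), ([1, 11, 1, 18], (3, 0), (0, 0)), ([1, 12, 1, 18], (0, 0), (0, 0)), ([1, 16, 1, 18], (0, 0), (0, 0)), ([1, 17, 1, 18], (0, 0), (0, 0)), ([1, 18, 1, 18], (0, 0), (0, 0)), ([1, 19, 1, 18], (0, 0), (0, 0)), ([1, 20, 1, 18], (3, 0), (0, 0)), ([1, 21, 1, 18], (0, 0), (0, 0)), ([1, 22, 1, 18], (0, 0), (0, 0)), ([1, 23, 1, 18], (0, 0), (0, 0)), ([1, 2, 1, 19], (0, 0), (0, 0)), ([1, 3, 1, 19], (0, 0), (0, 0)), ([1, 4, 1, 19], (0, 0), (3, 0)), ([1, 5, 1, 19], (3, 0), (3, 0)), ([1, 8, 1, 19], (0, 0), (0, 0)), ([1, 9, 1, 19], (0, 0), (3, 0)), ([1, 11, 1, 19], (0, 0), (0, 0)), ([1, 12, 1, 19], (0, 0), (3, 0)), ([1, 14, 1, 19], (3, 0), (0, 0)), ([1,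 15, 1, 19], (0, 0), (3, 0)), ([1, 16, 1, 19], (0, 0), (0, 0)), ([1, 18, 1, 19], (3, 0), (0, 0)), ([1, 19, 1, 19], (0, 0), (0, 0)), ([1, 21, 1, 19], (0, 0), (3, 0)), ([1, 22, 1, 19], (0, 0), (0, 0)), ([1, 23, 1, 19], (0, 0), (0, 0)), ([1, 2, 1, 20], (0, 0), (0, 0)), ([1, 3, 1, 20], (0, 0), (0, 0)), ([1, 6, 1, 20], (3, 0), (0, 0)), ([1, 8, 1, 20], (0, 0), (3, 0)), ([1, 9, 1, 20], (3, 0), (0, 0)), ([1, 10, 1, 20], (3, 0), (0, 0)), ([1, 11, 1, 20], (0, 0), (0, 0)), ([1, 12, 1, 20], (1, 0), (0, 0)), ([1, 13, 1, 20], (0, 0), (3, 0)), ([1, 14, 1, 20], (3, 0), (0, 0)), ([1, 15, 1, 20], (0, 0), (3, 0)), ([1, 16, 1, 20], (3, 0), (0, 0)), ([1, 17, 1, 20], (3, 0), (3, 0)), ([1, 18, 1, 20], (0, 0), (0, 0)), ([1, 19, 1, 20], (0, 0), (0, 0)), ([1, 20, 1, 20], (0, 0), (3, 0)), ([1, 21, 1, 20], (0, 0), (0,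 0)), ([1, 22, 1, 20], (0, 0), (0, 0)), ([1, 23, 1, 20], (3, 0), (3, 0)), ([1, 2, 1, 21], (3, 0), (3, 0)), ([1, 3, 1, 21], (0, 0), (0, 0)), ([1, 6, 1, 21], (0, 0), (0, 0)), ([1, 8, 1, 21], (0, 0), (0, 0)), ([1, 9, 1, 21], (0, 0), (3, 0)), ([1, 10, 1, 21], (0, 0), (0, 0)), ([1, 11, 1, 21], (0, 0), (0, 0))],
  [([1, 12, 1, 21], (0, 0), (0, 0)), ([1, 13, 1, 21], (0, 0), (0, 0)), ([1, 14, 1, 21], (0, 0), (0, 0)), ([1, 15, 1, 21], (3, 0), (3, 0)), ([1, 16, 1, 21], (3, 0), (0, 0)), ([1, 17, 1, 21], (0, 0), (0, 0)), ([1, 18, 1, 21], (3, 0), (0, 0)), ([1, 19, 1, 21], (0, 0), (0, 0)), ([1, 20, 1, 21], (0, 0), (0, 0)), ([1, 21, 1, 21], (3, 0), (0, 0)), ([1, 22, 1, 21], (0, 0), (0, 0)), ([1, 23, 1, 21], (0, 0), (0, 0)), ([1, 4, 1, 22], (0, 0), (0, 0)), ([1, 5, 1, 22], (3, 0), (3, 0)), ([1, 6, 1, 22],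 (0, 0), (0, 0)), ([1, 7, 1, 22], (0, 0), (0, 0)), ([1, 8, 1, 22], (0, 0), (3, 0)), ([1, 10, 1, 22], (0, 0), (0, 0)), ([1, 11, 1, 22], (0, 0), (0, 0)), ([1, 12, 1, 22], (0, 0), (0, 1)), ([1, 13, 1, 22], (0, 0), (0, 0)), ([1, 15, 1, 22], (3, 0), (0, 0)), ([1, 16, 1, 22], (3, 0), (0, 0)), ([1, 17, 1, 22], (0, 0), (3, 0)), ([1, 18, 1, 22], (0, 0), (3, 0)), ([1, 20, 1, 22], (3, 0), (0, 0)), ([1, 21, 1, 22], (0, 0), (3, 0)), ([1, 22, 1, 22], (0, 0), (0, 0)), ([1, 2, 1, 2, 1, 2], (0, 0), (0, 0)), ([1, 3, 1, 2, 1, 2], (0, 0), (0, 0)), ([1, 4, 1, 2, 1, 2], (0, 0), (0, 0)), ([1, 5, 1, 2, 1, 2], (3, 0), (0, 0)), ([1, 6, 1, 2, 1, 2], (0, 0), (0, 0)), ([1, 7, 1, 2, 1, 2], (0, 0), (0, 0)), ([1, 8, 1, 2, 1, 2], (0, 0), (0, 0)), ([1, 9, 1, 2, 1, 2], (0, 0), (0, 0)), ([1, 10, 1, 2, 1, 2], (3, 0), (3, 0)),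 ([1, 11, 1, 2, 1, 2], (3, 1), (0, 0)), ([1, 12, 1, 2, 1, 2], (0, 0), (0, 1)), ([1, 13, 1, 2, 1, 2], (0, 0), (0, 0)), ([1, 14, 1, 2, 1, 2], (0, 0), (0, 0)), ([1, 15, 1, 2, 1, 2], (1, 0), (0, 0)), ([1, 21, 1, 2, 1, 2], (0, 0), (3, 0)), ([1, 22, 1, 2, 1, 2], (0, 0), (0, 0)), ([1, 3, 1, 3, 1, 2], (0, 0), (0, 0)), ([1, 4, 1, 3, 1, 2], (0, 0), (0, 0)), ([1, 5, 1, 3, 1, 2], (3, 0), (0, 0)), ([1, 6, 1, 3, 1, 2], (0, 0), (0, 0)), ([1, 7, 1, 3, 1, 2], (0, 0), (0, 0)), ([1, 9, 1, 3, 1, 2], (0, 0), (0, 0)), ([1, 10, 1, 3, 1, 2], (0, 0), (0, 0)), ([1, 12, 1, 3, 1, 2], (0, 0), (3, 0)), ([1, 13, 1, 3, 1, 2], (0, 0), (3, 0)), ([1, 15, 1, 3, 1, 2], (0, 0), (0, 0)), ([1, 16, 1, 3, 1, 2], (3, 0), (0, 0)), ([1, 17, 1, 3, 1, 2], (0, 0), (0, 0)), ([1, 18, 1, 3, 1, 2], (0, 0), (0, 0)), ([1, 20, 1, 3, 1, 2], (0,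 0), (3, 0)), ([1, 23, 1, 3, 1, 2], (0, 0), (0, 0)), ([1, 2, 1, 4, 1, 2], (0, 0), (0, 0)), ([1, 3, 1, 4, 1, 2], (0, 0), (0, 0)), ([1, 4, 1, 4, 1, 2], (3, 0), (0, 0)), ([1, 6, 1, 4, 1, 2], (3, 0), (0, 0)), ([1, 7, 1, 4, 1, 2], (0, 0), (0, 0)), ([1, 8, 1, 4, 1, 2], (0, 0), (0, 0)), ([1, 9, 1, 4, 1, 2], (0, 0), (0, 0)), ([1, 10, 1, 4, 1, 2], (0, 0), (3, 0)), ([1, 11, 1, 4, 1, 2], (0, 0), (0, 0)), ([1, 12, 1, 4, 1, 2], (0, 0), (0, 0)), ([1, 13, 1, 4, 1, 2], (0, 0), (0, 0)), ([1, 15, 1, 4, 1, 2], (0, 0), (0, 0)), ([1, 16, 1, 4, 1, 2], (3, 0), (0, 0)), ([1, 18, 1, 4, 1, 2], (0, 0), (0, 0)), ([1, 19, 1, 4, 1, 2], (0, 0), (3, 0)), ([1, 20, 1, 4, 1, 2], (0, 0), (0, 0)), ([1, 21, 1, 4, 1, 2], (3, 0), (0, 0)), ([1, 22, 1, 4, 1, 2], (3, 0), (0, 0)), ([1, 23, 1, 4, 1, 2], (0, 0), (0, 0)), ([1, 3, 1, 5,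 1, 2], (0, 0), (3, 0)), ([1, 4, 1, 5, 1, 2], (0, 0), (0, 0)), ([1, 6, 1, 5, 1, 2], (0, 0), (0, 0)), ([1, 7, 1, 5, 1, 2], (3, 0), (3, 0)), ([1, 8, 1, 5, 1, 2], (0, 0), (3, 0)), ([1, 9, 1, 5, 1, 2], (0, 0), (3, 0)), ([1, 12, 1, 5, 1, 2], (0, 0), (0, 0)), ([1, 13, 1, 5, 1, 2], (3, 0), (3, 0)), ([1, 14, 1, 5, 1, 2], (3, 0), (0, 0)), ([1, 15, 1, 5, 1, 2], (0, 0), (3, 0)), ([1, 16, 1, 5, 1, 2], (0, 0), (0, 0)), ([1, 17, 1, 5, 1, 2], (0, 0), (0, 0)), ([1, 18, 1, 5, 1, 2], (0, 0), (0, 0)), ([1, 19, 1, 5, 1, 2], (0, 0), (0, 0)), ([1, 20, 1, 5, 1, 2], (0, 0), (0, 0)), ([1, 21, 1, 5, 1, 2], (3, 0), (0, 0)), ([1, 23, 1, 5, 1, 2], (0, 0), (0, 0)), ([1, 2, 1, 6, 1, 2], (0, 0), (0, 0)), ([1, 3, 1, 6, 1, 2], (3, 0), (0, 0)), ([1, 4, 1, 6, 1, 2], (0, 0), (0, 0)), ([1, 5, 1, 6, 1, 2], (3, 0), (3, 0)), ([1,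 6, 1, 6, 1, 2], (0, 0), (0, 0)), ([1, 7, 1, 6, 1, 2], (0, 1), (3, 0)), ([1, 9, 1, 6, 1, 2], (0, 0), (0, 0)), ([1, 11, 1, 6, 1, 2], (3, 0), (0, 1)), ([1, 12, 1, 6, 1, 2], (0, 0), (0, 0)), ([1, 13, 1, 6, 1, 2], (0, 0), (0, 0)), ([1, 14, 1, 6, 1, 2], (0, 0), (0, 0)), ([1, 16, 1, 6, 1, 2], (0, 0), (0, 0)), ([1, 17, 1, 6, 1, 2], (3, 0), (0, 0)), ([1, 18, 1, 6, 1, 2], (0, 0), (0, 0)), ([1, 19, 1, 6, 1, 2], (0, 0), (0, 0)), ([1, 20, 1, 6, 1, 2], (3, 0), (0, 0)), ([1, 21, 1, 6, 1, 2], (0, 0), (0, 0)), ([1, 22, 1, 6, 1, 2], (3, 0), (3, 0)), ([1, 2, 1, 7, 1, 2], (3, 0), (3, 0)), ([1, 4, 1, 7, 1, 2], (0, 0), (0, 0)), ([1, 5, 1, 7, 1, 2], (0, 0), (3, 0)), ([1, 7, 1, 7, 1, 2], (0, 0), (0, 0)), ([1, 8, 1, 7, 1, 2], (0, 1), (0, 0)), ([1, 11, 1, 7, 1, 2], (3, 0), (0, 0)), ([1, 12, 1, 7, 1, 2], (0, 0), (0,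 0)), ([1, 13, 1, 7, 1, 2], (0, 0), (0, 0)), ([1, 14, 1, 7, 1, 2], (2, 0), (0, 0)), ([1, 15, 1, 7, 1, 2], (3, 0), (0, 0)), ([1, 17, 1, 7, 1, 2], (3, 0), (0, 0)), ([1, 19, 1, 7, 1, 2], (0, 0), (0, 0)), ([1, 20, 1, 7, 1, 2], (0, 0), (3, 0)), ([1, 21, 1, 7, 1, 2], (0, 0), (0, 0)), ([1, 22, 1, 7, 1, 2], (3, 0), (0, 0))],
  [([1, 23, 1, 7, 1, 2], (0, 0), (3, 0)), ([1, 3, 1, 8, 1, 2], (0, 0), (0, 0)), ([1, 4, 1, 8, 1, 2], (0, 0), (3, 0)), ([1, 5, 1, 8, 1, 2], (3, 0), (0, 1)), ([1, 6, 1, 8, 1, 2], (0, 0), (0, 0)), ([1, 7, 1, 8, 1, 2], (3, 0), (0, 0)), ([1, 8, 1, 8, 1, 2], (3, 0), (3, 0)), ([1, 12, 1, 8, 1, 2], (0, 0), (0, 0)), ([1, 13, 1, 8, 1, 2], (0, 0), (0, 1)), ([1, 14, 1, 8, 1, 2], (0, 0), (0, 0)), ([1, 16, 1, 8, 1, 2], (3, 0), (0, 0)), ([1, 18, 1, 8, 1, 2], (3, 0), (0, 0)), ([1, 20, 1, 8, 1,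 2], (0, 0), (0, 0)), ([1, 21, 1, 8, 1, 2], (0, 0), (3, 0)), ([1, 22, 1, 8, 1, 2], (0, 0), (3, 0)), ([1, 23, 1, 8, 1, 2], (0, 0), (0, 0)), ([1, 2, 1, 9, 1, 2], (3, 0), (3, 0)), ([1, 3, 1, 9, 1, 2], (0, 0), (0, 0)), ([1, 4, 1, 9, 1, 2], (0, 0), (0, 0)), ([1, 5, 1, 9, 1, 2], (0, 0), (0, 0)), ([1, 6, 1, 9, 1, 2], (3, 0), (0, 0)), ([1, 7, 1, 9, 1, 2], (3, 0), (0, 0)), ([1, 8, 1, 9, 1, 2], (0, 0), (0, 0)), ([1, 9, 1, 9, 1, 2], (0, 0), (0, 0)), ([1, 10, 1, 9, 1, 2], (0, 0), (0, 0)), ([1, 11, 1, 9, 1, 2], (3, 0), (0, 0)), ([1, 12, 1, 9, 1, 2], (3, 0), (0, 0)), ([1, 13, 1, 9, 1, 2], (0, 0), (0, 0)), ([1, 14, 1, 9, 1, 2], (0, 0), (3, 0)), ([1, 15, 1, 9, 1, 2], (0, 0), (0, 0)), ([1, 16, 1, 9, 1, 2], (0, 0), (0, 0)), ([1, 17, 1, 9, 1, 2], (0, 0), (3, 0)), ([1, 18, 1, 9, 1, 2], (3, 0), (3, 0)), ([1, 19,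 1, 9, 1, 2], (3, 0), (3, 0)), ([1, 20, 1, 9, 1, 2], (3, 0), (0, 0)), ([1, 22, 1, 9, 1, 2], (0, 0), (0, 0)), ([1, 2, 1, 10, 1, 2], (3, 0), (0, 0)), ([1, 5, 1, 10, 1, 2], (3, 0), (0, 0)), ([1, 6, 1, 10, 1, 2], (3, 0), (0, 0)), ([1, 7, 1, 10, 1, 2], (0, 0), (0, 0)), ([1, 8, 1, 10, 1, 2], (0, 0), (0, 0)), ([1, 9, 1, 10, 1, 2], (0, 0), (0, 0)), ([1, 10, 1, 10, 1, 2], (0, 0), (3, 0)), ([1, 11, 1, 10, 1, 2], (3, 0), (0, 0)), ([1, 12, 1, 10, 1, 2], (0, 0), (3, 0)), ([1, 13, 1, 10, 1, 2], (0, 0), (0, 0)), ([1, 14, 1, 10, 1, 2], (0, 0), (0, 0)), ([1, 16, 1, 10, 1, 2], (0, 0), (3, 0)), ([1, 17, 1, 10, 1, 2], (3, 0), (3, 0)), ([1, 18, 1, 10, 1, 2], (0, 0), (0, 0)), ([1, 19, 1, 10, 1, 2], (0, 0), (0, 0)), ([1, 23, 1, 10, 1, 2], (3, 0), (0, 0)), ([1, 2, 1, 11, 1, 2], (0, 0), (3, 0)), ([1, 4, 1, 11, 1,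 2], (0, 0), (0, 0)), ([1, 6, 1, 11, 1, 2], (0, 0), (0, 0)), ([1, 7, 1, 11, 1, 2], (0, 0), (0, 0)), ([1, 8, 1, 11, 1, 2], (3, 0), (3, 0)), ([1, 9, 1, 11, 1, 2], (0, 0), (3, 0)), ([1, 11, 1, 11, 1, 2], (0, 0), (0, 0)), ([1, 12, 1, 11, 1, 2], (0, 0), (0, 0)), ([1, 13, 1, 11, 1, 2], (0, 0), (0, 0)), ([1, 14, 1, 11, 1, 2], (0, 0), (3, 0)), ([1, 15, 1, 11, 1, 2], (0, 0), (0, 1)), ([1, 16, 1, 11, 1, 2], (0, 0), (0, 0)), ([1, 18, 1, 11, 1, 2], (0, 0), (0, 0)), ([1, 19, 1, 11, 1, 2], (0, 0), (3, 0)), ([1, 20, 1, 11, 1, 2], (0, 0), (0, 0)), ([1, 21, 1, 11, 1, 2], (0, 0), (0, 0)), ([1, 22, 1, 11, 1, 2], (3, 0), (3, 0)), ([1, 23, 1, 11, 1, 2], (0, 0), (0, 0)), ([1, 2, 1, 12, 1, 2], (0, 0), (0, 0)), ([1, 3, 1, 12, 1, 2], (0, 0), (0, 1)), ([1, 4, 1, 12, 1, 2], (0, 0), (3, 0)), ([1, 5, 1, 12, 1, 2], (0,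 0), (0, 0)), ([1, 6, 1, 12, 1, 2], (0, 0), (0, 0)), ([1, 7, 1, 12, 1, 2], (0, 0), (0, 0)), ([1, 8, 1, 12, 1, 2], (3, 0), (3, 0)), ([1, 10, 1, 12, 1, 2], (3, 0), (0, 0)), ([1, 11, 1, 12, 1, 2], (0, 0), (0, 0)), ([1, 13, 1, 12, 1, 2], (0, 0), (3, 0)), ([1, 14, 1, 12, 1, 2], (0, 0), (0, 0)), ([1, 15, 1, 12, 1, 2], (0, 0), (1, 0)), ([1, 16, 1, 12, 1, 2], (0, 0), (0, 0)), ([1, 17, 1, 12, 1, 2], (0, 0), (0, 0)), ([1, 18, 1, 12, 1, 2], (0, 0), (0, 0)), ([1, 19, 1, 12, 1, 2], (0, 0), (0, 0)), ([1, 22, 1, 12, 1, 2], (0, 0), (0, 0)), ([1, 23, 1, 12, 1, 2], (0, 0), (0, 0)), ([1, 2, 1, 13, 1, 2], (3, 0), (3, 0)), ([1, 3, 1, 13, 1, 2], (0, 0), (0, 0)), ([1, 5, 1, 13, 1, 2], (0, 0), (0, 0)), ([1, 6, 1, 13, 1, 2], (0, 0), (0, 0)), ([1, 10, 1, 13, 1, 2], (3, 0), (0, 0)), ([1, 11, 1, 13, 1, 2], (0, 0), (0,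 0)), ([1, 12, 1, 13, 1, 2], (0, 0), (0, 1)), ([1, 14, 1, 13, 1, 2], (0, 0), (0, 0)), ([1, 16, 1, 13, 1, 2], (0, 0), (3, 0)), ([1, 18, 1, 13, 1, 2], (0, 0), (0, 0)), ([1, 20, 1, 13, 1, 2], (0, 0), (0, 0)), ([1, 22, 1, 13, 1, 2], (0, 0), (3, 0)), ([1, 2, 1, 14, 1, 2], (0, 0), (0, 0)), ([1, 3, 1, 14, 1, 2], (3, 0), (3, 0)), ([1, 4, 1, 14, 1, 2], (0, 0), (0, 0)), ([1, 5, 1, 14, 1, 2], (0, 0), (0, 0)), ([1, 8, 1, 14, 1, 2], (3, 0), (0, 0)), ([1, 9, 1, 14, 1, 2], (3, 0), (0, 0)), ([1, 10, 1, 14, 1, 2], (0, 0), (0, 0)), ([1, 11, 1, 14, 1, 2], (0, 0), (3, 0)), ([1, 12, 1, 14, 1, 2], (0, 0), (0, 0)), ([1, 14, 1, 14, 1, 2], (0, 0), (0, 0)), ([1, 16, 1, 14, 1, 2], (3, 0), (0, 0)), ([1, 17, 1, 14, 1, 2], (3, 0), (0, 1)), ([1, 18, 1, 14, 1, 2], (0, 0), (0, 0)), ([1, 19, 1, 14, 1, 2], (3, 0), (0, 0)),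 ([1, 20, 1, 14, 1, 2], (0, 0), (3, 0)), ([1, 23, 1, 14, 1, 2], (0, 0), (0, 0)), ([1, 3, 1, 15, 1, 2], (0, 0), (0, 0)), ([1, 4, 1, 15, 1, 2], (0, 0), (0, 0)), ([1, 5, 1, 15, 1, 2], (0, 0), (0, 0)), ([1, 6, 1, 15, 1, 2], (3, 0), (0, 0)), ([1, 8, 1, 15, 1, 2], (3, 0), (3, 0)), ([1, 10, 1, 15, 1, 2], (0, 0), (0, 0)), ([1, 11, 1, 15, 1, 2], (0, 0), (0, 0)), ([1, 12, 1, 15, 1, 2], (0, 0), (0, 0)), ([1, 15, 1, 15, 1, 2], (0, 0), (0, 0)), ([1, 16, 1, 15, 1, 2], (0, 0), (0, 0)), ([1, 17, 1, 15, 1, 2], (0, 0), (0, 0)), ([1, 18, 1, 15, 1, 2], (0, 0), (0, 0))],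
  [([1, 20, 1, 15, 1, 2], (0, 0), (0, 0)), ([1, 2, 1, 16, 1, 2], (3, 0), (3, 0)), ([1, 3, 1, 16, 1, 2], (0, 0), (3, 0)), ([1, 4, 1, 16, 1, 2], (1, 0), (0, 0)), ([1, 5, 1, 16, 1, 2], (0, 0), (3, 0)), ([1, 6, 1, 16, 1, 2], (3, 0), (0, 0)), ([1, 7, 1, 16, 1, 2], (0, 0), (0, 0)), ([1, 8, 1, 16, 1, 2], (0, 0), (0, 0)), ([1, 9, 1, 16, 1, 2], (0, 0), (3, 0)), ([1, 10, 1, 16, 1, 2], (0, 0), (0, 0)), ([1, 12, 1, 16, 1, 2], (3, 0), (0, 0)), ([1, 13, 1, 16, 1, 2], (1, 0), (0, 0)), ([1, 14, 1, 16, 1, 2], (0, 0), (0, 1)), ([1, 15, 1, 16, 1, 2], (0, 0), (0, 0)), ([1, 16, 1, 16, 1, 2], (3, 0), (0, 0)), ([1, 17, 1, 16, 1, 2], (0, 0), (0, 0)), ([1, 18, 1, 16, 1, 2], (3, 0), (0, 0)), ([1, 19, 1, 16, 1, 2], (0, 0), (3, 0)), ([1, 20, 1, 16, 1, 2], (0, 0), (0, 0)), ([1, 21, 1, 16, 1, 2], (3, 0), (0, 0)), ([1,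 22, 1, 16, 1, 2], (3, 0), (0, 0)), ([1, 23, 1, 16, 1, 2], (3, 0), (0, 0)), ([1, 3, 1, 17, 1, 2], (0, 0), (0, 0)), ([1, 5, 1, 17, 1, 2], (0, 0), (0, 0)), ([1, 6, 1, 17, 1, 2], (0, 0), (0, 0)), ([1, 7, 1, 17, 1, 2], (0, 0), (0, 0)), ([1, 8, 1, 17, 1, 2], (0, 0), (0, 0)), ([1, 9, 1, 17, 1, 2], (0, 0), (0, 0)), ([1, 13, 1, 17, 1, 2], (0, 0), (0, 0)), ([1, 15, 1, 17, 1, 2], (0, 0), (0, 0)), ([1, 17, 1, 17, 1, 2], (0, 0), (0, 0)), ([1, 18, 1, 17, 1, 2], (3, 0), (0, 0)), ([1, 19, 1, 17, 1, 2], (0, 0), (0, 0)), ([1, 20, 1, 17, 1, 2], (0, 0), (0, 0)), ([1, 21, 1, 17, 1, 2], (0, 0), (0, 0)), ([1, 2, 1, 18, 1, 2], (0, 0), (0, 0)), ([1, 3, 1, 18, 1, 2], (0, 0), (3, 0)), ([1, 4, 1, 18, 1, 2], (0, 0), (0, 0)), ([1, 5, 1, 18, 1, 2], (0, 0), (3, 0)), ([1, 8, 1, 18, 1, 2], (3, 0), (0, 0)), ([1, 9, 1, 18,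 1, 2], (0, 0), (3, 0)), ([1, 10, 1, 18, 1, 2], (0, 1), (0, 0)), ([1, 12, 1, 18, 1, 2], (0, 0), (0, 0)), ([1, 13, 1, 18, 1, 2], (0, 0), (0, 0)), ([1, 14, 1, 18, 1, 2], (0, 0), (0, 0)), ([1, 15, 1, 18, 1, 2], (0, 0), (0, 0)), ([1, 17, 1, 18, 1, 2], (0, 0), (0, 0)), ([1, 19, 1, 18, 1, 2], (0, 0), (0, 0)), ([1, 20, 1, 18, 1, 2], (0, 0), (0, 0)), ([1, 22, 1, 18, 1, 2], (0, 0), (3, 0)), ([1, 23, 1, 18, 1, 2], (0, 0), (0, 0)), ([1, 2, 1, 19, 1, 2], (0, 0), (0, 0)), ([1, 5, 1, 19, 1, 2], (3, 0), (3, 0)), ([1, 6, 1, 19, 1, 2], (0, 0), (0, 0)), ([1, 8, 1, 19, 1, 2], (3, 0), (0, 0)), ([1, 9, 1, 19, 1, 2], (0, 0), (0, 0)), ([1, 10, 1, 19, 1, 2], (0, 0), (3, 0)), ([1, 11, 1, 19, 1, 2], (0, 0), (0, 0)), ([1, 12, 1, 19, 1, 2], (0, 0), (0, 0)), ([1, 13, 1, 19, 1, 2], (0, 0), (0, 0)), ([1, 14, 1, 19, 1, 2],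 (3, 0), (0, 0)), ([1, 15, 1, 19, 1, 2], (0, 0), (0, 0)), ([1, 17, 1, 19, 1, 2], (0, 0), (0, 0)), ([1, 22, 1, 19, 1, 2], (0, 0), (3, 0)), ([1, 2, 1, 20, 1, 2], (1, 0), (3, 0)), ([1, 3, 1, 20, 1, 2], (0, 0), (0, 0)), ([1, 6, 1, 20, 1, 2], (0, 0), (0, 0)), ([1, 7, 1, 20, 1, 2], (3, 0), (0, 0)), ([1, 10, 1, 20, 1, 2], (0, 0), (0, 0)), ([1, 11, 1, 20, 1, 2], (0, 0), (3, 0)), ([1, 12, 1, 20, 1, 2], (3, 0), (0, 0)), ([1, 14, 1, 20, 1, 2], (3, 0), (0, 0)), ([1, 15, 1, 20, 1, 2], (0, 0), (0, 0)), ([1, 20, 1, 20, 1, 2], (0, 0), (0, 0)), ([1, 22, 1, 20, 1, 2], (3, 0), (0, 0)), ([1, 23, 1, 20, 1, 2], (0, 0), (3, 0)), ([1, 4, 1, 21, 1, 2], (0, 0), (0, 0)), ([1, 5, 1, 21, 1, 2], (0, 0), (3, 0)), ([1, 6, 1, 21, 1, 2], (0, 0), (0, 0)), ([1, 9, 1, 21, 1, 2], (0, 0), (0, 0)), ([1, 10, 1, 21, 1, 2], (3, 0),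 (3, 0)), ([1, 11, 1, 21, 1, 2], (0, 1), (0, 0)), ([1, 12, 1, 21, 1, 2], (3, 0), (0, 0)), ([1, 14, 1, 21, 1, 2], (0, 0), (3, 0)), ([1, 16, 1, 21, 1, 2], (0, 0), (0, 0)), ([1, 17, 1, 21, 1, 2], (0, 0), (0, 0)), ([1, 18, 1, 21, 1, 2], (0, 0), (0, 0)), ([1, 19, 1, 21, 1, 2], (0, 0), (0, 0)), ([1, 22, 1, 21, 1, 2], (0, 0), (0, 0)), ([1, 23, 1, 21, 1, 2], (0, 0), (3, 0)), ([1, 4, 1, 22, 1, 2], (0, 0), (0, 0)), ([1, 5, 1, 22, 1, 2], (3, 0), (3, 0)), ([1, 10, 1, 22, 1, 2], (3, 0), (0, 0)), ([1, 12, 1, 22, 1, 2], (0, 0), (3, 0)), ([1, 13, 1, 22, 1, 2], (3, 0), (0, 0)), ([1, 14, 1, 22, 1, 2], (0, 0), (0, 0)), ([1, 15, 1, 22, 1, 2], (0, 0), (0, 0)), ([1, 16, 1, 22, 1, 2], (3, 0), (0, 0)), ([1, 17, 1, 22, 1, 2], (0, 0), (0, 0)), ([1, 19, 1, 22, 1, 2], (3, 0), (3, 0)), ([1, 20, 1, 22, 1, 2], (0, 0), (3,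 0)), ([1, 21, 1, 22, 1, 2], (0, 0), (3, 0)), ([1, 22, 1, 22, 1, 2], (0, 0), (0, 0)), ([1, 23, 1, 22, 1, 2], (3, 0), (3, 0)), ([1, 2, 1, 2, 1, 3], (0, 0), (3, 0)), ([1, 3, 1, 2, 1, 3], (3, 0), (0, 0)), ([1, 6, 1, 2, 1, 3], (0, 0), (0, 0)), ([1, 7, 1, 2, 1, 3], (0, 0), (3, 0)), ([1, 8, 1, 2, 1, 3], (0, 0), (0, 0)), ([1, 9, 1, 2, 1, 3], (3, 0), (0, 0)), ([1, 10, 1, 2, 1, 3], (0, 0), (0, 0)), ([1, 11, 1, 2, 1, 3], (0, 0), (0, 0)), ([1, 12, 1, 2, 1, 3], (0, 0), (0, 0)), ([1, 13, 1, 2, 1, 3], (0, 0), (0, 0)), ([1, 14, 1, 2, 1, 3], (0, 0), (0, 0)), ([1, 15, 1, 2, 1, 3], (3, 0), (3, 0)), ([1, 18, 1, 2, 1, 3], (0, 0), (3, 0)), ([1, 19, 1, 2, 1, 3], (0, 0), (3, 0)), ([1, 20, 1, 2, 1, 3], (0, 0), (0, 0)), ([1, 22, 1, 2, 1, 3], (0, 0), (3, 0)), ([1, 3, 1, 3, 1, 3], (0, 0), (0, 0)), ([1, 4, 1, 3, 1, 3],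 (0, 0), (0, 0)), ([1, 5, 1, 3, 1, 3], (0, 0), (0, 0)), ([1, 6, 1, 3, 1, 3], (0, 0), (3, 0)), ([1, 7, 1, 3, 1, 3], (0, 0), (3, 0)), ([1, 8, 1, 3, 1, 3], (0, 0), (3, 0)), ([1, 12, 1, 3, 1, 3], (3, 0), (0, 0)), ([1, 14, 1, 3, 1, 3], (0, 0), (0, 0))],
  [([1, 15, 1, 3, 1, 3], (0, 0), (0, 0)), ([1, 17, 1, 3, 1, 3], (0, 0), (3, 0)), ([1, 20, 1, 3, 1, 3], (0, 0), (0, 1)), ([1, 21, 1, 3, 1, 3], (3, 0), (3, 0)), ([1, 22, 1, 3, 1, 3], (0, 0), (0, 0)), ([1, 4, 1, 4, 1, 3], (0, 0), (0, 1)), ([1, 5, 1, 4, 1, 3], (3, 0), (0, 0)), ([1, 6, 1, 4, 1, 3], (0, 0), (3, 0)), ([1, 7, 1, 4, 1, 3], (3, 0), (0, 0)), ([1, 8, 1, 4, 1, 3], (0, 0), (0, 0)), ([1, 9, 1, 4, 1, 3], (3, 0), (3, 0)), ([1, 10, 1, 4, 1, 3], (3, 0), (3, 0)), ([1, 11, 1, 4, 1, 3], (0, 0), (0, 0)), ([1, 12, 1, 4, 1, 3], (0, 0), (3, 0)), ([1, 13,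 1, 4, 1, 3], (0, 0), (0, 0)), ([1, 16, 1, 4, 1, 3], (3, 0), (0, 0)), ([1, 17, 1, 4, 1, 3], (0, 0), (0, 0)), ([1, 19, 1, 4, 1, 3], (0, 0), (0, 0)), ([1, 20, 1, 4, 1, 3], (0, 0), (0, 0)), ([1, 4, 1, 5, 1, 3], (0, 0), (0, 0)), ([1, 5, 1, 5, 1, 3], (0, 0), (0, 0)), ([1, 6, 1, 5, 1, 3], (3, 0), (0, 0)), ([1, 9, 1, 5, 1, 3], (0, 0), (0, 0)), ([1, 10, 1, 5, 1, 3], (3, 0), (0, 0)), ([1, 11, 1, 5, 1, 3], (3, 0), (0, 0)), ([1, 12, 1, 5, 1, 3], (0, 0), (0, 0)), ([1, 16, 1, 5, 1, 3], (0, 0), (0, 0)), ([1, 18, 1, 5, 1, 3], (0, 0), (2, 0)), ([1, 19, 1, 5, 1, 3], (0, 0), (0, 0)), ([1, 22, 1, 5, 1, 3], (0, 0), (3, 0)), ([1, 3, 1, 6, 1, 3], (0, 0), (0, 0)), ([1, 5, 1, 6, 1, 3], (0, 0), (0, 0)), ([1, 6, 1, 6, 1, 3], (0, 0), (0, 0)), ([1, 8, 1, 6, 1, 3], (0, 0), (3, 0)), ([1, 12, 1, 6, 1, 3], (0, 0), (0, 0)),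 ([1, 13, 1, 6, 1, 3], (0, 0), (3, 0)), ([1, 15, 1, 6, 1, 3], (0, 0), (0, 0)), ([1, 17, 1, 6, 1, 3], (0, 0), (0, 0)), ([1, 18, 1, 6, 1, 3], (0, 0), (0, 0)), ([1, 19, 1, 6, 1, 3], (0, 0), (0, 0)), ([1, 23, 1, 6, 1, 3], (0, 0), (0, 0)), ([1, 3, 1, 7, 1, 3], (0, 0), (0, 0)), ([1, 4, 1, 7, 1, 3], (0, 0), (0, 0)), ([1, 5, 1, 7, 1, 3], (0, 0), (3, 0)), ([1, 6, 1, 7, 1, 3], (0, 0), (0, 0)), ([1, 7, 1, 7, 1, 3], (0, 0), (0, 0)), ([1, 8, 1, 7, 1, 3], (0, 0), (3, 0)), ([1, 11, 1, 7, 1, 3], (0, 0), (0, 0)), ([1, 12, 1, 7, 1, 3], (0, 1), (0, 0)), ([1, 14, 1, 7, 1, 3], (0, 0), (0, 0)), ([1, 16, 1, 7, 1, 3], (0, 0), (0, 0)), ([1, 17, 1, 7, 1, 3], (0, 0), (0, 0)), ([1, 19, 1, 7, 1, 3], (0, 0), (0, 0)), ([1, 20, 1, 7, 1, 3], (0, 0), (0, 0)), ([1, 21, 1, 7, 1, 3], (0, 0), (0, 0)), ([1, 22, 1, 7, 1, 3], (0,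 0), (0, 0)), ([1, 2, 1, 8, 1, 3], (0, 0), (3, 0)), ([1, 3, 1, 8, 1, 3], (0, 0), (0, 0)), ([1, 4, 1, 8, 1, 3], (3, 0), (0, 0)), ([1, 5, 1, 8, 1, 3], (3, 0), (0, 0)), ([1, 6, 1, 8, 1, 3], (0, 0), (0, 0)), ([1, 9, 1, 8, 1, 3], (3, 0), (3, 0)), ([1, 11, 1, 8, 1, 3], (0, 0), (3, 0)), ([1, 12, 1, 8, 1, 3], (0, 0), (0, 0)), ([1, 13, 1, 8, 1, 3], (0, 0), (0, 0)), ([1, 15, 1, 8, 1, 3], (0, 0), (3, 0)), ([1, 16, 1, 8, 1, 3], (0, 0), (0, 0)), ([1, 18, 1, 8, 1, 3], (3, 0), (0, 0)), ([1, 21, 1, 8, 1, 3], (0, 0), (0, 0)), ([1, 3, 1, 9, 1, 3], (3, 0), (0, 0)), ([1, 4, 1, 9, 1, 3], (0, 0), (0, 0)), ([1, 6, 1, 9, 1, 3], (3, 0), (3, 0)), ([1, 7, 1, 9, 1, 3], (3, 0), (0, 0)), ([1, 9, 1, 9, 1, 3], (0, 0), (0, 0)), ([1, 10, 1, 9, 1, 3], (0, 0), (0, 0)), ([1, 12, 1, 9, 1, 3], (0, 0), (3, 0)), ([1, 13, 1, 9, 1,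 3], (0, 0), (0, 0)), ([1, 14, 1, 9, 1, 3], (0, 0), (3, 0)), ([1, 15, 1, 9, 1, 3], (0, 0), (0, 0)), ([1, 17, 1, 9, 1, 3], (0, 0), (3, 0)), ([1, 18, 1, 9, 1, 3], (0, 0), (3, 0)), ([1, 21, 1, 9, 1, 3], (0, 0), (3, 0)), ([1, 22, 1, 9, 1, 3], (0, 0), (0, 0)), ([1, 23, 1, 9, 1, 3], (0, 0), (0, 0)), ([1, 5, 1, 10, 1, 3], (0, 0), (3, 0)), ([1, 7, 1, 10, 1, 3], (0, 0), (0, 0)), ([1, 8, 1, 10, 1, 3], (0, 0), (0, 0)), ([1, 9, 1, 10, 1, 3], (0, 0), (0, 0)), ([1, 10, 1, 10, 1, 3], (0, 0), (0, 0)), ([1, 11, 1, 10, 1, 3], (0, 0), (0, 0)), ([1, 12, 1, 10, 1, 3], (0, 0), (0, 0)), ([1, 13, 1, 10, 1, 3], (0, 0), (0, 0)), ([1, 15, 1, 10, 1, 3], (0, 0), (3, 0)), ([1, 18, 1, 10, 1, 3], (0, 0), (0, 0)), ([1, 19, 1, 10, 1, 3], (0, 0), (0, 0)), ([1, 20, 1, 10, 1, 3], (0, 0), (3, 0)), ([1, 21, 1, 10, 1, 3], (0, 0),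 (0, 0)), ([1, 22, 1, 10, 1, 3], (0, 0), (0, 0)), ([1, 23, 1, 10, 1, 3], (0, 0), (0, 0)), ([1, 2, 1, 11, 1, 3], (3, 0), (0, 0)), ([1, 3, 1, 11, 1, 3], (0, 0), (3, 0)), ([1, 4, 1, 11, 1, 3], (0, 0), (3, 0)), ([1, 7, 1, 11, 1, 3], (0, 0), (0, 0)), ([1, 8, 1, 11, 1, 3], (0, 0), (0, 0)), ([1, 9, 1, 11, 1, 3], (3, 0), (0, 0)), ([1, 12, 1, 11, 1, 3], (0, 0), (0, 0)), ([1, 17, 1, 11, 1, 3], (0, 0), (0, 0)), ([1, 18, 1, 11, 1, 3], (0, 0), (0, 0)), ([1, 20, 1, 11, 1, 3], (0, 0), (3, 0)), ([1, 2, 1, 12, 1, 3], (3, 0), (0, 0)), ([1, 4, 1, 12, 1, 3], (3, 0), (0, 0)), ([1, 6, 1, 12, 1, 3], (0, 0), (0, 0)), ([1, 8, 1, 12, 1, 3], (3, 0), (0, 0)), ([1, 9, 1, 12, 1, 3], (3, 0), (3, 0)), ([1, 10, 1, 12, 1, 3], (0, 0), (0, 0)), ([1, 11, 1, 12, 1, 3], (0, 0), (0, 0)), ([1, 15, 1, 12, 1, 3], (0, 0), (3, 0)), ([1,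 17, 1, 12, 1, 3], (0, 0), (0, 0)), ([1, 19, 1, 12, 1, 3], (3, 0), (0, 0)), ([1, 21, 1, 12, 1, 3], (0, 0), (0, 0)), ([1, 23, 1, 12, 1, 3], (0, 0), (0, 0)), ([1, 2, 1, 13, 1, 3], (3, 0), (3, 0)), ([1, 5, 1, 13, 1, 3], (0, 0), (0, 0)), ([1, 7, 1, 13, 1, 3], (0, 0), (3, 0)), ([1, 8, 1, 13, 1, 3], (3, 0), (3, 0)), ([1, 10, 1, 13, 1, 3], (0, 0), (0, 0)), ([1, 12, 1, 13, 1, 3], (0, 0), (0, 0)), ([1, 13, 1, 13, 1, 3], (0, 0), (3, 0))],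
  [([1, 18, 1, 13, 1, 3], (0, 0), (3, 0)), ([1, 19, 1, 13, 1, 3], (0, 0), (0, 0)), ([1, 20, 1, 13, 1, 3], (0, 0), (0, 0)), ([1, 3, 1, 14, 1, 3], (3, 0), (0, 0)), ([1, 5, 1, 14, 1, 3], (3, 0), (0, 0)), ([1, 10, 1, 14, 1, 3], (0, 0), (0, 0)), ([1, 14, 1, 14, 1, 3], (3, 0), (3, 0)), ([1, 15, 1, 14, 1, 3], (3, 0), (0, 0)), ([1, 16, 1, 14, 1, 3], (0, 0), (0, 0)), ([1, 17, 1, 14, 1, 3], (0, 0), (0, 0)), ([1, 18, 1, 14, 1, 3], (0, 0), (3, 0)), ([1, 19, 1, 14, 1, 3], (3, 0), (0, 0)), ([1, 20, 1, 14, 1, 3], (0, 0), (3, 0)), ([1, 23, 1, 14, 1, 3], (0, 0), (0, 0)), ([1, 2, 1, 15, 1, 3], (0, 0), (0, 0)), ([1, 3, 1, 15, 1, 3], (0, 0), (0, 0)), ([1, 4, 1, 15, 1, 3], (0, 0), (0, 0)), ([1, 6, 1, 15, 1, 3], (0, 0), (0, 0)), ([1, 7, 1, 15, 1, 3], (3, 0), (0, 0)), ([1, 8, 1, 15, 1, 3], (3, 0), (0, 0)), ([1,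 11, 1, 15, 1, 3], (0, 0), (0, 0)), ([1, 13, 1, 15, 1, 3], (0, 0), (0, 0)), ([1, 14, 1, 15, 1, 3], (3, 0), (3, 0)), ([1, 15, 1, 15, 1, 3], (0, 0), (0, 0)), ([1, 22, 1, 15, 1, 3], (0, 0), (0, 0)), ([1, 2, 1, 16, 1, 3], (0, 0), (0, 0)), ([1, 3, 1, 16, 1, 3], (0, 0), (0, 0)), ([1, 4, 1, 16, 1, 3], (0, 0), (0, 0)), ([1, 7, 1, 16, 1, 3], (0, 0), (3, 0)), ([1, 8, 1, 16, 1, 3], (0, 0), (3, 0)), ([1, 9, 1, 16, 1, 3], (3, 0), (0, 0)), ([1, 10, 1, 16, 1, 3], (0, 0), (0, 0)), ([1, 14, 1, 16, 1, 3], (0, 0), (0, 0)), ([1, 15, 1, 16, 1, 3], (0, 0), (3, 0)), ([1, 16, 1, 16, 1, 3], (3, 0), (0, 0)), ([1, 17, 1, 16, 1, 3], (3, 0), (0, 0)), ([1, 18, 1, 16, 1, 3], (3, 0), (3, 0)), ([1, 19, 1, 16, 1, 3], (0, 0), (0, 0)), ([1, 20, 1, 16, 1, 3], (0, 0), (3, 0)), ([1, 23, 1, 16, 1, 3], (0, 0), (0, 0)), ([1, 2, 1,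 17, 1, 3], (3, 0), (0, 0)), ([1, 3, 1, 17, 1, 3], (0, 0), (0, 0)), ([1, 4, 1, 17, 1, 3], (0, 0), (0, 0)), ([1, 5, 1, 17, 1, 3], (0, 0), (0, 0)), ([1, 7, 1, 17, 1, 3], (0, 0), (0, 0)), ([1, 8, 1, 17, 1, 3], (0, 0), (0, 0)), ([1, 9, 1, 17, 1, 3], (0, 0), (3, 0)), ([1, 10, 1, 17, 1, 3], (0, 0), (0, 0)), ([1, 13, 1, 17, 1, 3], (0, 0), (0, 0)), ([1, 14, 1, 17, 1, 3], (0, 0), (0, 0)), ([1, 15, 1, 17, 1, 3], (0, 0), (3, 0)), ([1, 16, 1, 17, 1, 3], (0, 0), (0, 0)), ([1, 19, 1, 17, 1, 3], (0, 0), (0, 0)), ([1, 20, 1, 17, 1, 3], (0, 0), (3, 0)), ([1, 21, 1, 17, 1, 3], (0, 0), (3, 0)), ([1, 22, 1, 17, 1, 3], (0, 0), (0, 0)), ([1, 23, 1, 17, 1, 3], (3, 0), (0, 0)), ([1, 4, 1, 18, 1, 3], (3, 0), (0, 0)), ([1, 5, 1, 18, 1, 3], (3, 0), (0, 0)), ([1, 6, 1, 18, 1, 3], (3, 0), (0, 0)), ([1, 8, 1, 18, 1, 3],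 (3, 0), (0, 0)), ([1, 11, 1, 18, 1, 3], (0, 0), (3, 0)), ([1, 12, 1, 18, 1, 3], (0, 0), (0, 0)), ([1, 13, 1, 18, 1, 3], (3, 0), (0, 0)), ([1, 16, 1, 18, 1, 3], (0, 0), (3, 0)), ([1, 18, 1, 18, 1, 3], (0, 0), (0, 0)), ([1, 19, 1, 18, 1, 3], (3, 0), (3, 0)), ([1, 20, 1, 18, 1, 3], (0, 0), (3, 0)), ([1, 21, 1, 18, 1, 3], (0, 0), (0, 0)), ([1, 22, 1, 18, 1, 3], (0, 0), (0, 0)), ([1, 23, 1, 18, 1, 3], (0, 0), (0, 0)), ([1, 2, 1, 19, 1, 3], (0, 0), (0, 0)), ([1, 3, 1, 19, 1, 3], (3, 0), (3, 0)), ([1, 5, 1, 19, 1, 3], (0, 0), (3, 0)), ([1, 8, 1, 19, 1, 3], (0, 0), (0, 0)), ([1, 9, 1, 19, 1, 3], (0, 0), (0, 0)), ([1, 11, 1, 19, 1, 3], (3, 0), (0, 0)), ([1, 12, 1, 19, 1, 3], (3, 0), (0, 0)), ([1, 14, 1, 19, 1, 3], (3, 0), (0, 0)), ([1, 15, 1, 19, 1, 3], (0, 0), (0, 0)), ([1, 17, 1, 19, 1, 3], (0,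 0), (0, 0)), ([1, 18, 1, 19, 1, 3], (0, 0), (0, 0)), ([1, 19, 1, 19, 1, 3], (3, 0), (0, 0)), ([1, 20, 1, 19, 1, 3], (3, 0), (3, 0)), ([1, 21, 1, 19, 1, 3], (0, 0), (0, 0)), ([1, 3, 1, 20, 1, 3], (0, 0), (3, 0)), ([1, 5, 1, 20, 1, 3], (3, 0), (0, 0)), ([1, 6, 1, 20, 1, 3], (0, 0), (0, 0)), ([1, 8, 1, 20, 1, 3], (0, 0), (0, 0)), ([1, 9, 1, 20, 1, 3], (0, 0), (0, 0)), ([1, 10, 1, 20, 1, 3], (0, 0), (0, 0)), ([1, 15, 1, 20, 1, 3], (3, 0), (0, 0)), ([1, 16, 1, 20, 1, 3], (0, 0), (3, 0)), ([1, 17, 1, 20, 1, 3], (0, 0), (0, 0)), ([1, 18, 1, 20, 1, 3], (0, 0), (0, 0)), ([1, 19, 1, 20, 1, 3], (3, 0), (0, 0)), ([1, 21, 1, 20, 1, 3], (0, 0), (0, 0)), ([1, 3, 1, 21, 1, 3], (3, 0), (0, 0)), ([1, 4, 1, 21, 1, 3], (3, 0), (0, 0)), ([1, 5, 1, 21, 1, 3], (3, 0), (0, 0)), ([1, 6, 1, 21, 1, 3], (0, 0), (3,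 0)), ([1, 7, 1, 21, 1, 3], (0, 0), (0, 0)), ([1, 8, 1, 21, 1, 3], (0, 0), (0, 0)), ([1, 10, 1, 21, 1, 3], (0, 0), (0, 0)), ([1, 13, 1, 21, 1, 3], (0, 0), (0, 0)), ([1, 15, 1, 21, 1, 3], (0, 0), (0, 0)), ([1, 17, 1, 21, 1, 3], (3, 0), (3, 0)), ([1, 19, 1, 21, 1, 3], (0, 0), (0, 0)), ([1, 21, 1, 21, 1, 3], (0, 0), (0, 0)), ([1, 23, 1, 21, 1, 3], (0, 0), (0, 0)), ([1, 4, 1, 23, 1, 3], (0, 0), (0, 0)), ([1, 5, 1, 23, 1, 3], (0, 0), (0, 0)), ([1, 6, 1, 23, 1, 3], (3, 0), (0, 0)), ([1, 9, 1, 23, 1, 3], (0, 0), (0, 0)), ([1, 11, 1, 23, 1, 3], (0, 0), (3, 0)), ([1, 12, 1, 23, 1, 3], (0, 0), (0, 0)), ([1, 13, 1, 23, 1, 3], (0, 0), (3, 0)), ([1, 14, 1, 23, 1, 3], (0, 0), (0, 0)), ([1, 15, 1, 23, 1, 3], (0, 0), (3, 0)), ([1, 21, 1, 23, 1, 3], (0, 0), (0, 0)), ([1, 22, 1, 23, 1, 3], (0, 0), (3, 0)),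 ([1, 7, 1, 2, 1, 4], (3, 0), (0, 0)), ([1, 8, 1, 2, 1, 4], (3, 0), (0, 0)), ([1, 11, 1, 2, 1, 4], (0, 0), (0, 0)), ([1, 13, 1, 2, 1, 4], (0, 0), (0, 0)), ([1, 14, 1, 2, 1, 4], (0, 0), (0, 0)), ([1, 16, 1, 2, 1, 4], (3, 0), (0, 0)), ([1, 17, 1, 2, 1, 4], (3, 0), (0, 0))],
  [([1, 18, 1, 2, 1, 4], (0, 0), (3, 0)), ([1, 21, 1, 2, 1, 4], (0, 0), (0, 0)), ([1, 3, 1, 3, 1, 4], (0, 0), (0, 0)), ([1, 4, 1, 3, 1, 4], (0, 0), (0, 0)), ([1, 5, 1, 3, 1, 4], (0, 0), (0, 0)), ([1, 7, 1, 3, 1, 4], (0, 0), (0, 0)), ([1, 8, 1, 3, 1, 4], (0, 0), (0, 0)), ([1, 9, 1, 3, 1, 4], (3, 0), (0, 0)), ([1, 10, 1, 3, 1, 4], (0, 0), (0, 0)), ([1, 11, 1, 3, 1, 4], (0, 0), (0, 0)), ([1, 12, 1, 3, 1, 4], (3, 0), (0, 0)), ([1, 14, 1, 3, 1, 4], (0, 0), (0, 0)), ([1, 16, 1, 3, 1, 4], (0, 0), (0, 0)), ([1, 20, 1, 3, 1, 4], (0,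 0), (0, 1)), ([1, 21, 1, 3, 1, 4], (0, 0), (0, 0)), ([1, 23, 1, 3, 1, 4], (0, 0), (0, 0)), ([1, 8, 1, 5, 1, 4], (0, 0), (0, 0)), ([1, 14, 1, 5, 1, 4], (0, 0), (0, 0)), ([1, 15, 1, 5, 1, 4], (3, 0), (0, 0)), ([1, 17, 1, 5, 1, 4], (3, 0), (0, 0)), ([1, 20, 1, 5, 1, 4], (3, 0), (0, 0)), ([1, 21, 1, 5, 1, 4], (0, 0), (0, 0)), ([1, 22, 1, 5, 1, 4], (0, 0), (0, 0)), ([1, 2, 1, 6, 1, 4], (0, 0), (0, 0)), ([1, 5, 1, 6, 1, 4], (0, 0), (3, 0)), ([1, 7, 1, 6, 1, 4], (0, 0), (0, 0)), ([1, 8, 1, 6, 1, 4], (0, 0), (0, 0)), ([1, 9, 1, 6, 1, 4], (0, 0), (0, 0)), ([1, 10, 1, 6, 1, 4], (0, 0), (3, 0)), ([1, 14, 1, 6, 1, 4], (0, 0), (0, 0)), ([1, 17, 1, 6, 1, 4], (0, 0), (3, 0)), ([1, 21, 1, 6, 1, 4], (0, 0), (0, 0)), ([1, 23, 1, 6, 1, 4], (0, 0), (3, 0)), ([1, 4, 1, 7, 1, 4], (3, 0), (0, 0)), ([1, 5, 1, 7,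 1, 4], (0, 0), (0, 0)), ([1, 9, 1, 7, 1, 4], (0, 0), (3, 0)), ([1, 11, 1, 7, 1, 4], (0, 0), (0, 0)), ([1, 12, 1, 7, 1, 4], (3, 0), (3, 0)), ([1, 13, 1, 7, 1, 4], (0, 0), (0, 0)), ([1, 15, 1, 7, 1, 4], (0, 0), (0, 0)), ([1, 17, 1, 7, 1, 4], (0, 0), (0, 0)), ([1, 18, 1, 7, 1, 4], (0, 0), (3, 0)), ([1, 21, 1, 7, 1, 4], (3, 0), (0, 0)), ([1, 3, 1, 9, 1, 4], (0, 0), (0, 0)), ([1, 9, 1, 9, 1, 4], (0, 0), (3, 0)), ([1, 12, 1, 9, 1, 4], (0, 0), (0, 0)), ([1, 13, 1, 9, 1, 4], (3, 0), (0, 0)), ([1, 14, 1, 9, 1, 4], (0, 0), (3, 0)), ([1, 15, 1, 9, 1, 4], (0, 0), (3, 0)), ([1, 17, 1, 9, 1, 4], (3, 0), (0, 0)), ([1, 18, 1, 9, 1, 4], (0, 0), (0, 0)), ([1, 19, 1, 9, 1, 4], (3, 0), (0, 0)), ([1, 20, 1, 9, 1, 4], (0, 0), (0, 0)), ([1, 21, 1, 9, 1, 4], (0, 0), (0, 0)), ([1, 22, 1, 9, 1, 4], (0, 0), (0, 0)),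 ([1, 2, 1, 10, 1, 4], (0, 0), (0, 0)), ([1, 8, 1, 10, 1, 4], (0, 0), (0, 0)), ([1, 14, 1, 10, 1, 4], (0, 0), (0, 0)), ([1, 15, 1, 10, 1, 4], (0, 0), (0, 0)), ([1, 18, 1, 10, 1, 4], (0, 0), (0, 0)), ([1, 20, 1, 10, 1, 4], (3, 0), (3, 0)), ([1, 3, 1, 11, 1, 4], (0, 0), (0, 0)), ([1, 4, 1, 11, 1, 4], (0, 0), (0, 0)), ([1, 5, 1, 11, 1, 4], (0, 0), (3, 0)), ([1, 6, 1, 11, 1, 4], (0, 0), (0, 0)), ([1, 7, 1, 11, 1, 4], (0, 0), (0, 0)), ([1, 9, 1, 11, 1, 4], (0, 0), (0, 0)), ([1, 11, 1, 11, 1, 4], (0, 0), (0, 0)), ([1, 13, 1, 11, 1, 4], (3, 0), (0, 0)), ([1, 20, 1, 11, 1, 4], (0, 0), (0, 0)), ([1, 22, 1, 11, 1, 4], (0, 0), (0, 0)), ([1, 3, 1, 12, 1, 4], (0, 0), (0, 0)), ([1, 4, 1, 12, 1, 4], (0, 0), (0, 0)), ([1, 5, 1, 12, 1, 4], (0, 0), (0, 0)), ([1, 6, 1, 12, 1, 4], (0, 0), (3, 0)), ([1, 8, 1,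 12, 1, 4], (0, 0), (0, 0)), ([1, 9, 1, 12, 1, 4], (0, 0), (3, 0)), ([1, 11, 1, 12, 1, 4], (3, 0), (0, 0)), ([1, 12, 1, 12, 1, 4], (0, 0), (0, 0)), ([1, 13, 1, 12, 1, 4], (3, 0), (0, 0)), ([1, 16, 1, 12, 1, 4], (0, 0), (0, 0)), ([1, 17, 1, 12, 1, 4], (0, 0), (0, 0)), ([1, 19, 1, 12, 1, 4], (0, 0), (0, 0)), ([1, 21, 1, 12, 1, 4], (0, 0), (0, 1)), ([1, 22, 1, 12, 1, 4], (3, 0), (0, 0)), ([1, 7, 1, 13, 1, 4], (0, 0), (0, 0)), ([1, 8, 1, 13, 1, 4], (0, 0), (3, 0)), ([1, 9, 1, 13, 1, 4], (0, 0), (0, 0)), ([1, 11, 1, 13, 1, 4], (0, 0), (3, 0)), ([1, 13, 1, 13, 1, 4], (0, 0), (0, 0)), ([1, 15, 1, 13, 1, 4], (0, 0), (0, 0)), ([1, 18, 1, 13, 1, 4], (3, 0), (0, 1)), ([1, 19, 1, 13, 1, 4], (0, 0), (0, 0)), ([1, 4, 1, 14, 1, 4], (0, 0), (3, 0)), ([1, 8, 1, 14, 1, 4], (0, 0), (0, 0)), ([1, 14, 1, 14, 1,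 4], (0, 0), (0, 0)), ([1, 19, 1, 14, 1, 4], (0, 0), (0, 0)), ([1, 21, 1, 14, 1, 4], (0, 0), (0, 0)), ([1, 22, 1, 14, 1, 4], (0, 0), (3, 0)), ([1, 2, 1, 15, 1, 4], (0, 0), (0, 0)), ([1, 9, 1, 15, 1, 4], (0, 0), (0, 0)), ([1, 11, 1, 15, 1, 4], (3, 0), (0, 0)), ([1, 12, 1, 15, 1, 4], (3, 0), (3, 0)), ([1, 14, 1, 15, 1, 4], (0, 0), (0, 0)), ([1, 15, 1, 15, 1, 4], (3, 0), (3, 0)), ([1, 17, 1, 15, 1, 4], (0, 0), (0, 0)), ([1, 19, 1, 15, 1, 4], (0, 0), (0, 0)), ([1, 20, 1, 15, 1, 4], (0, 0), (0, 0)), ([1, 22, 1, 15, 1, 4], (3, 0), (0, 0)), ([1, 23, 1, 15, 1, 4], (0, 0), (3, 0)), ([1, 2, 1, 16, 1, 4], (3, 0), (0, 0)), ([1, 4, 1, 16, 1, 4], (0, 0), (0, 0)), ([1, 5, 1, 16, 1, 4], (0, 0), (0, 0)), ([1, 7, 1, 16, 1, 4], (0, 0), (0, 0)), ([1, 8, 1, 16, 1, 4], (0, 0), (0, 0)), ([1, 11, 1, 16, 1, 4], (0,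 0), (0, 0)), ([1, 12, 1, 16, 1, 4], (0, 0), (0, 0)), ([1, 13, 1, 16, 1, 4], (0, 0), (0, 0)), ([1, 15, 1, 16, 1, 4], (0, 0), (0, 0)), ([1, 17, 1, 16, 1, 4], (0, 0), (0, 0)), ([1, 21, 1, 16, 1, 4], (3, 0), (0, 0)), ([1, 22, 1, 16, 1, 4], (0, 0), (0, 0)), ([1, 23, 1, 16, 1, 4], (0, 0), (0, 0)), ([1, 2, 1, 18, 1, 4], (0, 0), (0, 0)), ([1, 4, 1, 18, 1, 4], (0, 0), (0, 0)), ([1, 5, 1, 18, 1, 4], (0, 0), (0, 0)), ([1, 6, 1, 18, 1, 4], (0, 0), (3, 0)), ([1, 7, 1, 18, 1, 4], (3, 0), (0, 0))],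
  [([1, 9, 1, 18, 1, 4], (0, 0), (3, 0)), ([1, 10, 1, 18, 1, 4], (0, 0), (0, 0)), ([1, 11, 1, 18, 1, 4], (0, 0), (3, 0)), ([1, 12, 1, 18, 1, 4], (3, 0), (0, 0)), ([1, 14, 1, 18, 1, 4], (3, 0), (0, 0)), ([1, 16, 1, 18, 1, 4], (0, 0), (0, 0)), ([1, 17, 1, 18, 1, 4], (0, 0), (0, 0)), ([1, 18, 1, 18, 1, 4], (0, 0), (0, 0)), ([1, 19, 1, 18, 1, 4], (0, 0), (0, 0)), ([1, 20, 1, 18, 1, 4], (3, 0), (0, 0)), ([1, 21, 1, 18, 1, 4], (3, 0), (0, 0)), ([1, 2, 1, 19, 1, 4], (0, 0), (0, 0)), ([1, 3, 1, 19, 1, 4], (0, 0), (0, 0)), ([1, 4, 1, 19, 1, 4], (3, 0), (0, 0)), ([1, 5, 1, 19, 1, 4], (0, 0), (0, 0)), ([1, 6, 1, 19, 1, 4], (0, 0), (0, 0)), ([1, 7, 1, 19, 1, 4], (3, 0), (0, 0)), ([1, 10, 1, 19, 1, 4], (0, 0), (0, 0)), ([1, 11, 1, 19, 1, 4], (0, 0), (3, 0)), ([1, 12, 1, 19, 1, 4], (0, 0), (3, 0)), ([1,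 13, 1, 19, 1, 4], (3, 0), (0, 0)), ([1, 14, 1, 19, 1, 4], (0, 0), (0, 0)), ([1, 17, 1, 19, 1, 4], (0, 0), (0, 0)), ([1, 21, 1, 19, 1, 4], (3, 0), (3, 0)), ([1, 2, 1, 20, 1, 4], (0, 0), (0, 0)), ([1, 3, 1, 20, 1, 4], (0, 0), (0, 0)), ([1, 4, 1, 20, 1, 4], (0, 0), (3, 0)), ([1, 6, 1, 20, 1, 4], (3, 0), (0, 0)), ([1, 7, 1, 20, 1, 4], (0, 0), (0, 0)), ([1, 8, 1, 20, 1, 4], (0, 0), (0, 0)), ([1, 10, 1, 20, 1, 4], (0, 0), (0, 0)), ([1, 14, 1, 20, 1, 4], (0, 0), (0, 0)), ([1, 17, 1, 20, 1, 4], (0, 0), (3, 0)), ([1, 20, 1, 20, 1, 4], (0, 0), (0, 0)), ([1, 22, 1, 20, 1, 4], (3, 0), (0, 0)), ([1, 6, 1, 23, 1, 4], (0, 0), (0, 0)), ([1, 8, 1, 23, 1, 4], (0, 0), (0, 0)), ([1, 9, 1, 23, 1, 4], (0, 0), (0, 0)), ([1, 10, 1, 23, 1, 4], (0, 0), (0, 0)), ([1, 11, 1, 23, 1, 4], (3, 0), (3, 0)), ([1, 13, 1, 23,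 1, 4], (0, 0), (0, 0)), ([1, 15, 1, 23, 1, 4], (0, 0), (0, 0)), ([1, 16, 1, 23, 1, 4], (0, 0), (0, 0)), ([1, 17, 1, 23, 1, 4], (0, 0), (0, 0)), ([1, 18, 1, 23, 1, 4], (0, 0), (0, 0)), ([1, 20, 1, 23, 1, 4], (0, 0), (0, 0)), ([1, 21, 1, 23, 1, 4], (0, 0), (0, 0)), ([1, 23, 1, 23, 1, 4], (3, 0), (3, 1)), ([1, 2, 1, 2, 1, 5], (0, 0), (0, 0)), ([1, 4, 1, 2, 1, 5], (3, 0), (0, 0)), ([1, 6, 1, 2, 1, 5], (0, 0), (1, 0)), ([1, 8, 1, 2, 1, 5], (3, 0), (0, 0)), ([1, 10, 1, 2, 1, 5], (0, 0), (0, 0)), ([1, 12, 1, 2, 1, 5], (0, 0), (0, 0)), ([1, 14, 1, 2, 1, 5], (0, 0), (0, 0)), ([1, 17, 1, 2, 1, 5], (0, 0), (0, 0)), ([1, 19, 1, 2, 1, 5], (0, 0), (3, 0)), ([1, 22, 1, 2, 1, 5], (3, 0), (0, 0)), ([1, 23, 1, 2, 1, 5], (3, 0), (0, 0)), ([1, 2, 1, 3, 1, 5], (3, 0), (0, 0)), ([1, 3, 1, 3, 1, 5], (0, 0), (0,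 0)), ([1, 4, 1, 3, 1, 5], (0, 0), (0, 0)), ([1, 5, 1, 3, 1, 5], (0, 0), (3, 0)), ([1, 7, 1, 3, 1, 5], (0, 0), (3, 0)), ([1, 8, 1, 3, 1, 5], (0, 0), (0, 0)), ([1, 9, 1, 3, 1, 5], (0, 0), (0, 0)), ([1, 10, 1, 3, 1, 5], (3, 0), (0, 0)), ([1, 11, 1, 3, 1, 5], (0, 0), (0, 0)), ([1, 13, 1, 3, 1, 5], (0, 0), (0, 0)), ([1, 16, 1, 3, 1, 5], (0, 0), (0, 1)), ([1, 17, 1, 3, 1, 5], (3, 0), (0, 0)), ([1, 19, 1, 3, 1, 5], (0, 0), (0, 0)), ([1, 23, 1, 3, 1, 5], (0, 0), (0, 0)), ([1, 2, 1, 4, 1, 5], (0, 0), (0, 0)), ([1, 5, 1, 4, 1, 5], (0, 0), (0, 0)), ([1, 8, 1, 4, 1, 5], (3, 0), (0, 0)), ([1, 9, 1, 4, 1, 5], (0, 0), (0, 0)), ([1, 10, 1, 4, 1, 5], (0, 0), (0, 0)), ([1, 12, 1, 4, 1, 5], (3, 0), (0, 0)), ([1, 14, 1, 4, 1, 5], (0, 0), (0, 0)), ([1, 15, 1, 4, 1, 5], (3, 0), (0, 0)), ([1, 18, 1, 4, 1, 5], (0,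 0), (0, 0)), ([1, 19, 1, 4, 1, 5], (0, 0), (0, 0)), ([1, 22, 1, 4, 1, 5], (0, 0), (0, 0)), ([1, 4, 1, 5, 1, 5], (0, 0), (3, 0)), ([1, 6, 1, 5, 1, 5], (0, 0), (0, 0)), ([1, 7, 1, 5, 1, 5], (0, 0), (3, 0)), ([1, 8, 1, 5, 1, 5], (0, 0), (0, 0)), ([1, 9, 1, 5, 1, 5], (0, 0), (0, 0)), ([1, 10, 1, 5, 1, 5], (0, 0), (0, 0)), ([1, 11, 1, 5, 1, 5], (0, 0), (0, 0)), ([1, 13, 1, 5, 1, 5], (3, 0), (3, 0)), ([1, 14, 1, 5, 1, 5], (0, 0), (0, 0)), ([1, 15, 1, 5, 1, 5], (0, 0), (0, 0)), ([1, 17, 1, 5, 1, 5], (0, 0), (0, 0)), ([1, 19, 1, 5, 1, 5], (0, 0), (0, 0)), ([1, 6, 1, 6, 1, 5], (0, 0), (0, 0)), ([1, 8, 1, 6, 1, 5], (0, 0), (0, 0)), ([1, 9, 1, 6, 1, 5], (0, 0), (0, 0)), ([1, 13, 1, 6, 1, 5], (0, 0), (0, 0)), ([1, 15, 1, 6, 1, 5], (0, 0), (3, 0)), ([1, 19, 1, 6, 1, 5], (0, 0), (3, 0)), ([1, 2, 1, 7,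 1, 5], (0, 0), (0, 0)), ([1, 3, 1, 7, 1, 5], (0, 0), (0, 0)), ([1, 9, 1, 7, 1, 5], (0, 0), (3, 0)), ([1, 12, 1, 7, 1, 5], (3, 0), (3, 0)), ([1, 13, 1, 7, 1, 5], (0, 0), (0, 0)), ([1, 15, 1, 7, 1, 5], (3, 0), (3, 0)), ([1, 19, 1, 7, 1, 5], (0, 0), (3, 0)), ([1, 23, 1, 7, 1, 5], (0, 0), (0, 0)), ([1, 2, 1, 8, 1, 5], (0, 0), (0, 0)), ([1, 3, 1, 8, 1, 5], (0, 0), (0, 0)), ([1, 4, 1, 8, 1, 5], (0, 0), (0, 0)), ([1, 5, 1, 8, 1, 5], (0, 0), (0, 0)), ([1, 6, 1, 8, 1, 5], (3, 0), (0, 0)), ([1, 8, 1, 8, 1, 5], (0, 0), (0, 0)), ([1, 10, 1, 8, 1, 5], (0, 0), (0, 0)), ([1, 11, 1, 8, 1, 5], (0, 0), (0, 0)), ([1, 12, 1, 8, 1, 5], (0, 0), (0, 0)), ([1, 16, 1, 8, 1, 5], (0, 0), (0, 0)), ([1, 17, 1, 8, 1, 5], (0, 0), (0, 0)), ([1, 19, 1, 8, 1, 5], (0, 0), (0, 0)), ([1, 22, 1, 8, 1, 5], (0, 0), (0, 0)), ([1,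 2, 1, 9, 1, 5], (0, 0), (0, 0)), ([1, 3, 1, 9, 1, 5], (0, 0), (0, 0)), ([1, 10, 1, 9, 1, 5], (0, 0), (0, 0)), ([1, 11, 1, 9, 1, 5], (0, 0), (0, 0)), ([1, 12, 1, 9, 1, 5], (0, 1), (0, 1))],
  [([1, 13, 1, 9, 1, 5], (0, 0), (0, 0)), ([1, 14, 1, 9, 1, 5], (0, 0), (0, 0)), ([1, 16, 1, 9, 1, 5], (0, 0), (0, 0)), ([1, 17, 1, 9, 1, 5], (0, 0), (0, 0)), ([1, 18, 1, 9, 1, 5], (0, 0), (0, 0)), ([1, 21, 1, 9, 1, 5], (0, 0), (0, 0)), ([1, 2, 1, 10, 1, 5], (0, 0), (3, 0)), ([1, 5, 1, 10, 1, 5], (0, 0), (0, 0)), ([1, 7, 1, 10, 1, 5], (0, 0), (3, 0)), ([1, 10, 1, 10, 1, 5], (3, 0), (0, 0)), ([1, 14, 1, 10, 1, 5], (0, 0), (0, 0)), ([1, 15, 1, 10, 1, 5], (0, 0), (0, 0)), ([1, 16, 1, 10, 1, 5], (0, 0), (0, 0)), ([1, 17, 1, 10, 1, 5], (0, 0), (0, 0)), ([1, 18, 1, 10, 1, 5], (0, 0), (0, 0)), ([1, 19, 1, 10,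 1, 5], (0, 0), (0, 0)), ([1, 20, 1, 10, 1, 5], (0, 0), (0, 0)), ([1, 21, 1, 10, 1, 5], (0, 0), (0, 0)), ([1, 23, 1, 10, 1, 5], (3, 0), (0, 0)), ([1, 3, 1, 11, 1, 5], (3, 0), (3, 0)), ([1, 4, 1, 11, 1, 5], (3, 0), (3, 0)), ([1, 8, 1, 11, 1, 5], (0, 0), (0, 0)), ([1, 11, 1, 11, 1, 5], (0, 0), (0, 0)), ([1, 13, 1, 11, 1, 5], (0, 0), (0, 0)), ([1, 14, 1, 11, 1, 5], (0, 0), (0, 0)), ([1, 15, 1, 11, 1, 5], (0, 0), (3, 0)), ([1, 17, 1, 11, 1, 5], (0, 0), (0, 0)), ([1, 20, 1, 11, 1, 5], (0, 0), (0, 0)), ([1, 21, 1, 11, 1, 5], (0, 0), (0, 0)), ([1, 22, 1, 11, 1, 5], (0, 0), (3, 0)), ([1, 2, 1, 12, 1, 5], (0, 0), (0, 0)), ([1, 3, 1, 12, 1, 5], (3, 0), (0, 0)), ([1, 4, 1, 12, 1, 5], (0, 0), (0, 0)), ([1, 6, 1, 12, 1, 5], (0, 0), (3, 0)), ([1, 7, 1, 12, 1, 5], (0, 0), (3, 0)), ([1, 8, 1, 12, 1, 5], (3,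 0), (0, 0)), ([1, 9, 1, 12, 1, 5], (0, 0), (0, 0)), ([1, 10, 1, 12, 1, 5], (0, 0), (3, 0)), ([1, 11, 1, 12, 1, 5], (0, 0), (0, 0)), ([1, 12, 1, 12, 1, 5], (0, 0), (0, 0)), ([1, 15, 1, 12, 1, 5], (0, 0), (0, 0)), ([1, 16, 1, 12, 1, 5], (0, 0), (0, 0)), ([1, 18, 1, 12, 1, 5], (3, 0), (3, 0)), ([1, 19, 1, 12, 1, 5], (0, 0), (0, 0)), ([1, 20, 1, 12, 1, 5], (0, 0), (0, 0)), ([1, 21, 1, 12, 1, 5], (0, 0), (0, 0)), ([1, 3, 1, 13, 1, 5], (0, 0), (0, 0)), ([1, 4, 1, 13, 1, 5], (0, 0), (0, 0)), ([1, 6, 1, 13, 1, 5], (0, 0), (0, 0)), ([1, 7, 1, 13, 1, 5], (0, 0), (0, 0)), ([1, 10, 1, 13, 1, 5], (0, 0), (0, 0)), ([1, 11, 1, 13, 1, 5], (0, 0), (0, 0)), ([1, 12, 1, 13, 1, 5], (0, 0), (3, 0)), ([1, 13, 1, 13, 1, 5], (0, 0), (1, 0)), ([1, 16, 1, 13, 1, 5], (0, 0), (0, 0)), ([1, 17, 1, 13, 1, 5], (3, 0),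 (0, 0)), ([1, 19, 1, 13, 1, 5], (0, 0), (3, 0)), ([1, 20, 1, 13, 1, 5], (0, 0), (3, 0)), ([1, 22, 1, 13, 1, 5], (0, 0), (0, 0)), ([1, 23, 1, 13, 1, 5], (3, 0), (0, 0)), ([1, 2, 1, 14, 1, 5], (0, 0), (0, 0)), ([1, 3, 1, 14, 1, 5], (3, 0), (3, 0)), ([1, 5, 1, 14, 1, 5], (3, 0), (3, 0)), ([1, 8, 1, 14, 1, 5], (0, 0), (0, 0)), ([1, 11, 1, 14, 1, 5], (0, 0), (0, 0)), ([1, 12, 1, 14, 1, 5], (3, 0), (0, 0)), ([1, 14, 1, 14, 1, 5], (0, 0), (0, 0)), ([1, 18, 1, 14, 1, 5], (0, 0), (0, 0)), ([1, 2, 1, 15, 1, 5], (0, 0), (0, 0)), ([1, 3, 1, 15, 1, 5], (0, 0), (0, 0)), ([1, 5, 1, 15, 1, 5], (3, 0), (3, 0)), ([1, 7, 1, 15, 1, 5], (0, 0), (0, 0)), ([1, 8, 1, 15, 1, 5], (0, 0), (0, 1)), ([1, 9, 1, 15, 1, 5], (3, 0), (3, 0)), ([1, 11, 1, 15, 1, 5], (0, 0), (3, 0)), ([1, 13, 1, 15, 1, 5], (3, 0), (0, 0)),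 ([1, 16, 1, 15, 1, 5], (0, 0), (0, 0)), ([1, 17, 1, 15, 1, 5], (0, 0), (0, 0)), ([1, 19, 1, 15, 1, 5], (0, 0), (3, 0)), ([1, 20, 1, 15, 1, 5], (0, 0), (0, 0)), ([1, 21, 1, 15, 1, 5], (0, 0), (0, 0)), ([1, 22, 1, 15, 1, 5], (0, 0), (0, 0)), ([1, 3, 1, 17, 1, 5], (0, 0), (0, 0)), ([1, 9, 1, 17, 1, 5], (0, 0), (0, 0)), ([1, 10, 1, 17, 1, 5], (0, 0), (0, 0)), ([1, 12, 1, 17, 1, 5], (0, 1), (0, 0)), ([1, 13, 1, 17, 1, 5], (3, 0), (0, 0)), ([1, 15, 1, 17, 1, 5], (0, 0), (0, 0)), ([1, 19, 1, 17, 1, 5], (3, 0), (0, 0)), ([1, 22, 1, 17, 1, 5], (0, 0), (0, 0)), ([1, 23, 1, 17, 1, 5], (3, 0), (0, 0)), ([1, 2, 1, 18, 1, 5], (0, 0), (3, 0)), ([1, 12, 1, 18, 1, 5], (0, 0), (0, 0)), ([1, 14, 1, 18, 1, 5], (0, 0), (0, 0)), ([1, 17, 1, 18, 1, 5], (0, 0), (0, 0)), ([1, 18, 1, 18, 1, 5], (0, 0), (0, 0)), ([1,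 19, 1, 18, 1, 5], (0, 0), (0, 0)), ([1, 21, 1, 18, 1, 5], (0, 0), (0, 0)), ([1, 22, 1, 18, 1, 5], (0, 0), (3, 0)), ([1, 23, 1, 18, 1, 5], (0, 1), (3, 0)), ([1, 2, 1, 19, 1, 5], (0, 0), (3, 0)), ([1, 3, 1, 19, 1, 5], (0, 0), (4, 0)), ([1, 12, 1, 19, 1, 5], (0, 0), (0, 0)), ([1, 13, 1, 19, 1, 5], (0, 0), (3, 0)), ([1, 14, 1, 19, 1, 5], (0, 0), (0, 0)), ([1, 15, 1, 19, 1, 5], (0, 0), (0, 0)), ([1, 16, 1, 19, 1, 5], (0, 0), (0, 0)), ([1, 19, 1, 19, 1, 5], (3, 0), (0, 0)), ([1, 23, 1, 19, 1, 5], (0, 0), (0, 0)), ([1, 2, 1, 21, 1, 5], (1, 0), (3, 0)), ([1, 5, 1, 21, 1, 5], (0, 0), (0, 0)), ([1, 6, 1, 21, 1, 5], (0, 0), (0, 0)), ([1, 8, 1, 21, 1, 5], (0, 0), (0, 0)), ([1, 10, 1, 21, 1, 5], (0, 0), (0, 0)), ([1, 13, 1, 21, 1, 5], (0, 0), (0, 0)), ([1, 14, 1, 21, 1, 5], (0, 0), (0, 0)), ([1, 16, 1,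 21, 1, 5], (0, 0), (0, 0)), ([1, 18, 1, 21, 1, 5], (0, 0), (0, 0)), ([1, 19, 1, 21, 1, 5], (3, 0), (0, 0)), ([1, 3, 1, 22, 1, 5], (3, 0), (0, 0)), ([1, 5, 1, 22, 1, 5], (0, 0), (0, 0)), ([1, 6, 1, 22, 1, 5], (0, 0), (3, 0)), ([1, 11, 1, 22, 1, 5], (0, 0), (3, 0)), ([1, 12, 1, 22, 1, 5], (2, 0), (0, 0)), ([1, 13, 1, 22, 1, 5], (0, 0), (0, 0)), ([1, 14, 1, 22, 1, 5], (0, 0), (0, 0)), ([1, 15, 1, 22, 1, 5], (0, 0), (0, 0)), ([1, 17, 1, 22, 1, 5], (0, 0), (3, 0))],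
  [([1, 19, 1, 22, 1, 5], (0, 0), (0, 0)), ([1, 20, 1, 22, 1, 5], (0, 0), (0, 0)), ([1, 22, 1, 22, 1, 5], (0, 0), (0, 0)), ([1, 3, 1, 23, 1, 5], (0, 0), (0, 0)), ([1, 7, 1, 23, 1, 5], (0, 0), (0, 0)), ([1, 9, 1, 23, 1, 5], (0, 0), (0, 0)), ([1, 12, 1, 23, 1, 5], (0, 0), (0, 0)), ([1, 14, 1, 23, 1, 5], (0, 0), (0, 0)), ([1, 17, 1, 23, 1, 5], (0, 0), (0, 0)), ([1, 18, 1, 23, 1, 5], (0, 0), (0, 0)), ([1, 19, 1, 23, 1, 5], (3, 0), (0, 0)), ([1, 20, 1, 23, 1, 5], (3, 0), (0, 0)), ([1, 3, 1, 2, 1, 6], (3, 0), (0, 0)), ([1, 5, 1, 2, 1, 6], (3, 0), (0, 0)), ([1, 6, 1, 2, 1, 6], (0, 0), (0, 0)), ([1, 7, 1, 2, 1, 6], (0, 0), (3, 0)), ([1, 10, 1, 2, 1, 6], (3, 0), (0, 0)), ([1, 11, 1, 2, 1, 6], (0, 0), (0, 0)), ([1, 12, 1, 2, 1, 6], (0, 0), (0, 0)), ([1, 13, 1, 2, 1, 6], (0, 0), (0, 0)), ([1, 14, 1,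 2, 1, 6], (3, 0), (0, 0)), ([1, 17, 1, 2, 1, 6], (0, 0), (0, 0)), ([1, 18, 1, 2, 1, 6], (0, 0), (0, 0)), ([1, 19, 1, 2, 1, 6], (3, 0), (0, 0)), ([1, 20, 1, 2, 1, 6], (0, 0), (3, 0)), ([1, 21, 1, 2, 1, 6], (0, 0), (3, 0)), ([1, 22, 1, 2, 1, 6], (0, 0), (0, 0)), ([1, 3, 1, 3, 1, 6], (0, 0), (0, 0)), ([1, 6, 1, 3, 1, 6], (0, 0), (0, 0)), ([1, 7, 1, 3, 1, 6], (3, 0), (0, 0)), ([1, 8, 1, 3, 1, 6], (0, 0), (0, 0)), ([1, 15, 1, 3, 1, 6], (0, 0), (0, 0)), ([1, 19, 1, 3, 1, 6], (3, 0), (0, 0)), ([1, 21, 1, 3, 1, 6], (3, 0), (0, 0)), ([1, 2, 1, 4, 1, 6], (3, 0), (3, 0)), ([1, 6, 1, 4, 1, 6], (0, 0), (3, 0)), ([1, 8, 1, 4, 1, 6], (3, 0), (0, 0)), ([1, 10, 1, 4, 1, 6], (0, 1), (0, 0)), ([1, 12, 1, 4, 1, 6], (0, 0), (0, 0)), ([1, 15, 1, 4, 1, 6], (0, 1), (3, 0)), ([1, 16, 1, 4, 1, 6], (0, 0), (3, 0)),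 ([1, 18, 1, 4, 1, 6], (0, 0), (0, 0)), ([1, 20, 1, 4, 1, 6], (0, 0), (0, 0)), ([1, 21, 1, 4, 1, 6], (3, 0), (0, 0)), ([1, 2, 1, 5, 1, 6], (0, 0), (0, 0)), ([1, 3, 1, 5, 1, 6], (0, 0), (0, 0)), ([1, 6, 1, 5, 1, 6], (3, 0), (0, 0)), ([1, 8, 1, 5, 1, 6], (0, 0), (0, 0)), ([1, 19, 1, 5, 1, 6], (0, 0), (0, 0)), ([1, 2, 1, 6, 1, 6], (0, 0), (0, 0)), ([1, 8, 1, 6, 1, 6], (3, 0), (0, 0)), ([1, 9, 1, 6, 1, 6], (0, 0), (3, 0)), ([1, 10, 1, 6, 1, 6], (3, 0), (0, 0)), ([1, 12, 1, 6, 1, 6], (0, 0), (0, 0)), ([1, 15, 1, 6, 1, 6], (0, 0), (0, 0)), ([1, 19, 1, 6, 1, 6], (0, 0), (0, 0)), ([1, 2, 1, 7, 1, 6], (3, 0), (0, 0)), ([1, 3, 1, 7, 1, 6], (3, 0), (0, 0)), ([1, 5, 1, 7, 1, 6], (0, 0), (0, 0)), ([1, 6, 1, 7, 1, 6], (0, 0), (3, 1)), ([1, 8, 1, 7, 1, 6], (0, 0), (0, 0)), ([1, 9, 1, 7, 1, 6], (0, 0), (3,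 0)), ([1, 10, 1, 7, 1, 6], (0, 0), (0, 0)), ([1, 13, 1, 7, 1, 6], (3, 0), (3, 0)), ([1, 14, 1, 7, 1, 6], (0, 0), (0, 0)), ([1, 15, 1, 7, 1, 6], (0, 0), (3, 0)), ([1, 16, 1, 7, 1, 6], (0, 0), (0, 0)), ([1, 18, 1, 7, 1, 6], (3, 0), (3, 0)), ([1, 19, 1, 7, 1, 6], (0, 0), (0, 0)), ([1, 21, 1, 7, 1, 6], (3, 0), (0, 0)), ([1, 8, 1, 8, 1, 6], (0, 0), (0, 0)), ([1, 9, 1, 8, 1, 6], (0, 0), (0, 0)), ([1, 18, 1, 8, 1, 6], (0, 0), (0, 0)), ([1, 20, 1, 8, 1, 6], (0, 0), (0, 0)), ([1, 3, 1, 9, 1, 6], (0, 0), (0, 0)), ([1, 7, 1, 9, 1, 6], (0, 0), (0, 0)), ([1, 9, 1, 9, 1, 6], (0, 0), (3, 0)), ([1, 10, 1, 9, 1, 6], (0, 0), (0, 0)), ([1, 13, 1, 9, 1, 6], (0, 0), (3, 0)), ([1, 14, 1, 9, 1, 6], (0, 0), (0, 0)), ([1, 16, 1, 9, 1, 6], (0, 0), (0, 0)), ([1, 17, 1, 9, 1, 6], (0, 0), (3, 0)), ([1, 23, 1, 9, 1, 6],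 (0, 0), (0, 0)), ([1, 3, 1, 11, 1, 6], (0, 0), (0, 0)), ([1, 4, 1, 11, 1, 6], (3, 0), (0, 0)), ([1, 7, 1, 11, 1, 6], (0, 0), (0, 0)), ([1, 10, 1, 11, 1, 6], (3, 0), (0, 0)), ([1, 20, 1, 11, 1, 6], (0, 0), (0, 0)), ([1, 22, 1, 11, 1, 6], (0, 0), (0, 0)), ([1, 5, 1, 12, 1, 6], (3, 0), (0, 0)), ([1, 7, 1, 12, 1, 6], (0, 0), (0, 0)), ([1, 14, 1, 12, 1, 6], (3, 0), (0, 0)), ([1, 16, 1, 12, 1, 6], (0, 0), (0, 0)), ([1, 18, 1, 12, 1, 6], (0, 0), (3, 0)), ([1, 19, 1, 12, 1, 6], (0, 0), (3, 0)), ([1, 21, 1, 12, 1, 6], (0, 0), (0, 0)), ([1, 22, 1, 12, 1, 6], (0, 0), (0, 0)), ([1, 2, 1, 13, 1, 6], (0, 0), (0, 0)), ([1, 3, 1, 13, 1, 6], (0, 0), (3, 0)), ([1, 12, 1, 13, 1, 6], (0, 0), (3, 0)), ([1, 19, 1, 13, 1, 6], (0, 0), (0, 0)), ([1, 2, 1, 14, 1, 6], (0, 0), (0, 0)), ([1, 4, 1, 14, 1, 6], (0, 0),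 (0, 0)), ([1, 6, 1, 14, 1, 6], (3, 0), (3, 0)), ([1, 7, 1, 14, 1, 6], (3, 0), (0, 0)), ([1, 19, 1, 14, 1, 6], (0, 0), (0, 0)), ([1, 23, 1, 14, 1, 6], (0, 0), (0, 0)), ([1, 3, 1, 15, 1, 6], (3, 0), (0, 0)), ([1, 5, 1, 15, 1, 6], (0, 0), (0, 0)), ([1, 7, 1, 15, 1, 6], (0, 0), (3, 0)), ([1, 8, 1, 15, 1, 6], (0, 0), (3, 0)), ([1, 11, 1, 15, 1, 6], (3, 0), (3, 0)), ([1, 12, 1, 15, 1, 6], (0, 0), (0, 0)), ([1, 14, 1, 15, 1, 6], (0, 0), (0, 0)), ([1, 15, 1, 15, 1, 6], (0, 0), (0, 0)), ([1, 16, 1, 15, 1, 6], (0, 0), (0, 0)), ([1, 19, 1, 15, 1, 6], (0, 0), (0, 0)), ([1, 20, 1, 15, 1, 6], (0, 0), (0, 0)), ([1, 21, 1, 15, 1, 6], (3, 0), (0, 0)), ([1, 22, 1, 15, 1, 6], (3, 0), (0, 0)), ([1, 3, 1, 17, 1, 6], (0, 0), (0, 0)), ([1, 9, 1, 17, 1, 6], (0, 0), (0, 0)), ([1, 12, 1, 17, 1, 6], (0, 0), (0, 0)),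 ([1, 16, 1, 17, 1, 6], (3, 0), (0, 0)), ([1, 21, 1, 17, 1, 6], (3, 0), (0, 0)), ([1, 22, 1, 17, 1, 6], (0, 0), (3, 0)), ([1, 2, 1, 18, 1, 6], (0, 1), (0, 1)), ([1, 3, 1, 18, 1, 6], (3, 0), (0, 0))],
  [([1, 5, 1, 18, 1, 6], (3, 0), (3, 0)), ([1, 6, 1, 18, 1, 6], (0, 0), (0, 0)), ([1, 10, 1, 18, 1, 6], (0, 0), (3, 0)), ([1, 15, 1, 18, 1, 6], (3, 0), (0, 0)), ([1, 23, 1, 18, 1, 6], (3, 0), (0, 0)), ([1, 2, 1, 20, 1, 6], (0, 0), (3, 0)), ([1, 3, 1, 20, 1, 6], (0, 0), (0, 0)), ([1, 4, 1, 20, 1, 6], (0, 0), (0, 0)), ([1, 15, 1, 20, 1, 6], (3, 0), (1, 0)), ([1, 16, 1, 20, 1, 6], (3, 0), (0, 0)), ([1, 17, 1, 20, 1, 6], (0, 0), (0, 0)), ([1, 18, 1, 20, 1, 6], (0, 0), (3, 0)), ([1, 20, 1, 20, 1, 6], (0, 0), (0, 0)), ([1, 23, 1, 20, 1, 6], (0, 0), (0, 0)), ([1, 3, 1, 21, 1, 6], (0, 0), (0, 0)), ([1,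 6, 1, 21, 1, 6], (0, 0), (0, 0)), ([1, 10, 1, 21, 1, 6], (0, 0), (0, 0)), ([1, 11, 1, 21, 1, 6], (0, 0), (3, 0)), ([1, 14, 1, 21, 1, 6], (0, 0), (0, 0)), ([1, 16, 1, 21, 1, 6], (3, 0), (0, 0)), ([1, 19, 1, 21, 1, 6], (0, 0), (3, 0)), ([1, 23, 1, 21, 1, 6], (0, 0), (0, 0)), ([1, 2, 1, 22, 1, 6], (0, 0), (0, 0)), ([1, 8, 1, 22, 1, 6], (0, 0), (0, 0)), ([1, 9, 1, 22, 1, 6], (0, 0), (0, 0)), ([1, 11, 1, 22, 1, 6], (0, 0), (0, 0)), ([1, 12, 1, 22, 1, 6], (0, 0), (0, 0)), ([1, 14, 1, 22, 1, 6], (0, 0), (0, 0)), ([1, 15, 1, 22, 1, 6], (0, 0), (3, 0)), ([1, 20, 1, 22, 1, 6], (0, 0), (0, 0)), ([1, 22, 1, 22, 1, 6], (0, 0), (0, 0)), ([1, 3, 1, 23, 1, 6], (0, 0), (0, 0)), ([1, 4, 1, 23, 1, 6], (0, 0), (3, 0)), ([1, 8, 1, 23, 1, 6], (0, 0), (0, 0)), ([1, 12, 1, 23, 1, 6], (0, 0), (0, 0)), ([1, 16, 1,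 23, 1, 6], (0, 0), (0, 0)), ([1, 18, 1, 23, 1, 6], (3, 0), (0, 0)), ([1, 22, 1, 23, 1, 6], (0, 0), (0, 0)), ([1, 23, 1, 23, 1, 6], (0, 0), (0, 0)), ([1, 2, 1, 3, 1, 7], (0, 0), (0, 0)), ([1, 17, 1, 3, 1, 7], (0, 0), (0, 0)), ([1, 22, 1, 3, 1, 7], (0, 0), (0, 0)), ([1, 4, 1, 4, 1, 7], (0, 0), (0, 0)), ([1, 8, 1, 4, 1, 7], (0, 0), (3, 0)), ([1, 9, 1, 4, 1, 7], (3, 0), (0, 0)), ([1, 10, 1, 4, 1, 7], (0, 0), (3, 0)), ([1, 18, 1, 4, 1, 7], (3, 0), (3, 0)), ([1, 22, 1, 4, 1, 7], (0, 0), (0, 0)), ([1, 4, 1, 5, 1, 7], (0, 0), (0, 0)), ([1, 6, 1, 5, 1, 7], (0, 0), (0, 0)), ([1, 7, 1, 5, 1, 7], (0, 0), (0, 0)), ([1, 14, 1, 5, 1, 7], (0, 0), (0, 0)), ([1, 20, 1, 5, 1, 7], (3, 0), (0, 0)), ([1, 3, 1, 6, 1, 7], (3, 0), (0, 0)), ([1, 5, 1, 6, 1, 7], (0, 0), (0, 0)), ([1, 7, 1, 6, 1, 7], (3, 0), (0, 0)),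 ([1, 14, 1, 6, 1, 7], (0, 0), (0, 0)), ([1, 15, 1, 6, 1, 7], (0, 0), (0, 0)), ([1, 16, 1, 6, 1, 7], (0, 0), (3, 0)), ([1, 19, 1, 6, 1, 7], (0, 0), (0, 0)), ([1, 22, 1, 6, 1, 7], (0, 0), (0, 0)), ([1, 2, 1, 7, 1, 7], (0, 0), (0, 0)), ([1, 4, 1, 7, 1, 7], (0, 0), (0, 0)), ([1, 5, 1, 7, 1, 7], (3, 0), (3, 0)), ([1, 9, 1, 7, 1, 7], (0, 0), (0, 0)), ([1, 14, 1, 7, 1, 7], (3, 0), (0, 0)), ([1, 20, 1, 7, 1, 7], (0, 0), (0, 0)), ([1, 3, 1, 8, 1, 7], (0, 0), (0, 0)), ([1, 4, 1, 8, 1, 7], (0, 0), (0, 0)), ([1, 8, 1, 8, 1, 7], (0, 0), (0, 0)), ([1, 9, 1, 8, 1, 7], (0, 0), (0, 0)), ([1, 11, 1, 8, 1, 7], (0, 0), (0, 0)), ([1, 13, 1, 8, 1, 7], (0, 0), (0, 0)), ([1, 16, 1, 8, 1, 7], (0, 0), (0, 0)), ([1, 18, 1, 8, 1, 7], (0, 0), (0, 0)), ([1, 2, 1, 9, 1, 7], (0, 0), (0, 0)), ([1, 3, 1, 9, 1, 7], (0, 0),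 (0, 0)), ([1, 6, 1, 9, 1, 7], (0, 0), (3, 0)), ([1, 9, 1, 9, 1, 7], (0, 0), (0, 0)), ([1, 10, 1, 9, 1, 7], (0, 0), (0, 0)), ([1, 15, 1, 9, 1, 7], (0, 0), (0, 0)), ([1, 20, 1, 9, 1, 7], (0, 0), (3, 0)), ([1, 5, 1, 10, 1, 7], (0, 0), (0, 0)), ([1, 7, 1, 10, 1, 7], (0, 0), (0, 0)), ([1, 11, 1, 10, 1, 7], (0, 0), (0, 0)), ([1, 5, 1, 12, 1, 7], (0, 0), (3, 0)), ([1, 11, 1, 12, 1, 7], (0, 0), (3, 0)), ([1, 13, 1, 12, 1, 7], (3, 0), (0, 0)), ([1, 14, 1, 12, 1, 7], (3, 0), (0, 0)), ([1, 15, 1, 12, 1, 7], (3, 0), (0, 0)), ([1, 23, 1, 12, 1, 7], (3, 0), (0, 0)), ([1, 5, 1, 13, 1, 7], (3, 0), (0, 0)), ([1, 6, 1, 13, 1, 7], (0, 0), (0, 0)), ([1, 8, 1, 13, 1, 7], (0, 0), (0, 0)), ([1, 15, 1, 13, 1, 7], (0, 0), (0, 0)), ([1, 18, 1, 13, 1, 7], (0, 0), (0, 0)), ([1, 20, 1, 13, 1, 7], (3, 0), (3, 0)), ([1,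 21, 1, 13, 1, 7], (0, 1), (0, 0)), ([1, 11, 1, 14, 1, 7], (0, 0), (0, 0)), ([1, 18, 1, 14, 1, 7], (3, 0), (0, 0)), ([1, 23, 1, 14, 1, 7], (0, 0), (0, 0)), ([1, 8, 1, 15, 1, 7], (0, 0), (3, 0)), ([1, 14, 1, 15, 1, 7], (3, 0), (0, 0)), ([1, 15, 1, 15, 1, 7], (3, 0), (3, 0)), ([1, 20, 1, 15, 1, 7], (0, 0), (0, 0)), ([1, 21, 1, 15, 1, 7], (3, 0), (3, 0)), ([1, 22, 1, 15, 1, 7], (0, 0), (0, 0)), ([1, 2, 1, 16, 1, 7], (0, 0), (0, 0)), ([1, 4, 1, 16, 1, 7], (0, 0), (0, 0)), ([1, 7, 1, 16, 1, 7], (0, 0), (0, 0)), ([1, 10, 1, 16, 1, 7], (0, 0), (0, 0)), ([1, 11, 1, 16, 1, 7], (0, 0), (3, 0)), ([1, 12, 1, 16, 1, 7], (0, 0), (0, 0)), ([1, 16, 1, 16, 1, 7], (0, 1), (3, 0)), ([1, 17, 1, 16, 1, 7], (0, 0), (0, 0)), ([1, 19, 1, 16, 1, 7], (0, 0), (0, 0)), ([1, 21, 1, 16, 1, 7], (0, 0), (0, 0)), ([1, 22,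 1, 16, 1, 7], (3, 0), (0, 0)), ([1, 3, 1, 17, 1, 7], (0, 0), (0, 0)), ([1, 12, 1, 17, 1, 7], (0, 0), (0, 0)), ([1, 14, 1, 17, 1, 7], (3, 0), (0, 0)), ([1, 15, 1, 17, 1, 7], (0, 0), (3, 0)), ([1, 16, 1, 17, 1, 7], (0, 0), (3, 0)), ([1, 18, 1, 17, 1, 7], (0, 0), (0, 0)), ([1, 19, 1, 17, 1, 7], (0, 0), (3, 0)), ([1, 11, 1, 19, 1, 7], (0, 0), (0, 0)), ([1, 14, 1, 19, 1, 7], (0, 0), (0, 0)), ([1, 16, 1, 19, 1, 7], (0, 0), (0, 0))],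
  [([1, 17, 1, 19, 1, 7], (0, 0), (0, 0)), ([1, 18, 1, 19, 1, 7], (0, 0), (0, 0)), ([1, 22, 1, 19, 1, 7], (3, 0), (0, 0)), ([1, 2, 1, 20, 1, 7], (3, 0), (0, 0)), ([1, 3, 1, 20, 1, 7], (0, 0), (3, 0)), ([1, 4, 1, 20, 1, 7], (3, 0), (0, 0)), ([1, 13, 1, 20, 1, 7], (0, 0), (0, 0)), ([1, 14, 1, 20, 1, 7], (0, 0), (0, 0)), ([1, 15, 1, 20, 1, 7], (3, 0), (0, 0)), ([1, 16, 1, 20, 1, 7], (0, 0), (3, 0)), ([1, 19, 1, 20, 1, 7], (0, 0), (3, 0)), ([1, 20, 1, 20, 1, 7], (0, 0), (3, 0)), ([1, 10, 1, 21, 1, 7], (0, 0), (0, 0)), ([1, 12, 1, 21, 1, 7], (3, 0), (0, 0)), ([1, 13, 1, 21, 1, 7], (3, 0), (3, 0)), ([1, 18, 1, 21, 1, 7], (0, 0), (3, 0)), ([1, 21, 1, 21, 1, 7], (3, 0), (0, 0)), ([1, 9, 1, 22, 1, 7], (3, 0), (0, 0)), ([1, 10, 1, 22, 1, 7], (0, 0), (3, 0)), ([1, 14, 1, 22, 1, 7], (0, 0), (0, 0)),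 ([1, 21, 1, 22, 1, 7], (0, 0), (0, 0)), ([1, 4, 1, 23, 1, 7], (3, 0), (0, 0)), ([1, 5, 1, 23, 1, 7], (0, 0), (0, 0)), ([1, 7, 1, 23, 1, 7], (0, 0), (0, 0)), ([1, 9, 1, 23, 1, 7], (3, 0), (0, 0)), ([1, 10, 1, 23, 1, 7], (0, 1), (0, 0)), ([1, 17, 1, 23, 1, 7], (0, 0), (0, 0)), ([1, 20, 1, 23, 1, 7], (0, 0), (0, 0)), ([1, 3, 1, 2, 1, 8], (0, 0), (3, 0)), ([1, 4, 1, 2, 1, 8], (0, 0), (0, 0)), ([1, 6, 1, 2, 1, 8], (3, 0), (0, 0)), ([1, 8, 1, 2, 1, 8], (0, 0), (0, 0)), ([1, 9, 1, 2, 1, 8], (0, 0), (0, 0)), ([1, 11, 1, 2, 1, 8], (0, 0), (0, 0)), ([1, 13, 1, 2, 1, 8], (0, 0), (3, 0)), ([1, 14, 1, 2, 1, 8], (0, 1), (0, 0)), ([1, 15, 1, 2, 1, 8], (0, 0), (0, 0)), ([1, 18, 1, 2, 1, 8], (0, 0), (3, 0)), ([1, 19, 1, 2, 1, 8], (0, 0), (0, 0)), ([1, 4, 1, 3, 1, 8], (0, 0), (0, 0)), ([1, 5, 1, 3, 1, 8],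 (0, 0), (0, 0)), ([1, 7, 1, 3, 1, 8], (0, 0), (0, 0)), ([1, 8, 1, 3, 1, 8], (0, 0), (0, 0)), ([1, 14, 1, 3, 1, 8], (3, 0), (0, 0)), ([1, 15, 1, 3, 1, 8], (0, 0), (3, 0)), ([1, 17, 1, 3, 1, 8], (3, 0), (3, 0)), ([1, 18, 1, 3, 1, 8], (0, 0), (3, 0)), ([1, 20, 1, 3, 1, 8], (0, 0), (3, 0)), ([1, 22, 1, 3, 1, 8], (0, 0), (3, 0)), ([1, 3, 1, 4, 1, 8], (0, 0), (3, 0)), ([1, 8, 1, 4, 1, 8], (0, 0), (0, 0)), ([1, 21, 1, 4, 1, 8], (0, 0), (0, 0)), ([1, 22, 1, 4, 1, 8], (3, 0), (0, 0)), ([1, 7, 1, 5, 1, 8], (3, 0), (0, 0)), ([1, 2, 1, 6, 1, 8], (3, 0), (0, 0)), ([1, 3, 1, 6, 1, 8], (0, 0), (0, 0)), ([1, 7, 1, 6, 1, 8], (3, 0), (0, 0)), ([1, 9, 1, 6, 1, 8], (0, 0), (0, 0)), ([1, 10, 1, 6, 1, 8], (0, 0), (0, 0)), ([1, 16, 1, 6, 1, 8], (0, 0), (0, 0)), ([1, 17, 1, 6, 1, 8], (3, 0), (0, 0)), ([1, 18, 1,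 6, 1, 8], (0, 0), (0, 0)), ([1, 20, 1, 6, 1, 8], (0, 0), (0, 0)), ([1, 22, 1, 6, 1, 8], (0, 0), (3, 0)), ([1, 23, 1, 6, 1, 8], (0, 0), (0, 0)), ([1, 2, 1, 7, 1, 8], (0, 0), (0, 0)), ([1, 6, 1, 7, 1, 8], (0, 1), (0, 0)), ([1, 19, 1, 7, 1, 8], (0, 0), (3, 0)), ([1, 21, 1, 7, 1, 8], (3, 0), (3, 0)), ([1, 22, 1, 7, 1, 8], (0, 0), (0, 0)), ([1, 23, 1, 7, 1, 8], (0, 0), (0, 0)), ([1, 8, 1, 8, 1, 8], (3, 0), (3, 0)), ([1, 13, 1, 8, 1, 8], (0, 0), (0, 0)), ([1, 14, 1, 8, 1, 8], (0, 0), (0, 0)), ([1, 19, 1, 8, 1, 8], (3, 0), (0, 0)), ([1, 21, 1, 8, 1, 8], (0, 0), (3, 0)), ([1, 22, 1, 8, 1, 8], (3, 0), (0, 0)), ([1, 23, 1, 8, 1, 8], (0, 0), (0, 0)), ([1, 5, 1, 9, 1, 8], (0, 0), (0, 0)), ([1, 8, 1, 9, 1, 8], (0, 0), (3, 0)), ([1, 15, 1, 9, 1, 8], (0, 0), (3, 0)), ([1, 19, 1, 9, 1, 8], (0, 0), (0, 0)),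 ([1, 3, 1, 10, 1, 8], (0, 0), (0, 0)), ([1, 7, 1, 10, 1, 8], (3, 0), (0, 0)), ([1, 11, 1, 10, 1, 8], (0, 0), (0, 1)), ([1, 13, 1, 10, 1, 8], (0, 0), (1, 0)), ([1, 14, 1, 10, 1, 8], (0, 0), (3, 0)), ([1, 21, 1, 10, 1, 8], (0, 0), (0, 0)), ([1, 22, 1, 10, 1, 8], (3, 0), (3, 0)), ([1, 23, 1, 10, 1, 8], (3, 0), (3, 0)), ([1, 2, 1, 11, 1, 8], (0, 0), (0, 0)), ([1, 5, 1, 11, 1, 8], (3, 0), (0, 0)), ([1, 9, 1, 11, 1, 8], (0, 0), (0, 0)), ([1, 10, 1, 11, 1, 8], (0, 0), (0, 0)), ([1, 14, 1, 11, 1, 8], (0, 0), (0, 0)), ([1, 19, 1, 11, 1, 8], (0, 0), (0, 0)), ([1, 20, 1, 11, 1, 8], (0, 0), (0, 0)), ([1, 3, 1, 12, 1, 8], (0, 0), (0, 0)), ([1, 8, 1, 12, 1, 8], (0, 0), (0, 0)), ([1, 20, 1, 12, 1, 8], (0, 0), (0, 0)), ([1, 21, 1, 12, 1, 8], (3, 0), (0, 0)), ([1, 2, 1, 13, 1, 8], (0, 1), (0, 0)), ([1, 4,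 1, 13, 1, 8], (0, 0), (0, 0)), ([1, 5, 1, 13, 1, 8], (3, 0), (0, 0)), ([1, 6, 1, 13, 1, 8], (3, 0), (0, 0)), ([1, 10, 1, 13, 1, 8], (0, 0), (3, 0)), ([1, 11, 1, 13, 1, 8], (0, 0), (3, 0)), ([1, 12, 1, 13, 1, 8], (0, 0), (0, 0)), ([1, 14, 1, 13, 1, 8], (0, 0), (3, 0)), ([1, 11, 1, 14, 1, 8], (0, 0), (0, 0)), ([1, 13, 1, 14, 1, 8], (3, 0), (0, 0)), ([1, 15, 1, 14, 1, 8], (3, 0), (3, 0)), ([1, 3, 1, 15, 1, 8], (0, 0), (0, 0)), ([1, 7, 1, 15, 1, 8], (0, 0), (0, 0)), ([1, 11, 1, 15, 1, 8], (0, 0), (0, 0)), ([1, 13, 1, 15, 1, 8], (3, 0), (0, 0)), ([1, 18, 1, 15, 1, 8], (3, 0), (3, 0)), ([1, 23, 1, 15, 1, 8], (0, 0), (3, 0)), ([1, 3, 1, 16, 1, 8], (0, 0), (0, 0)), ([1, 4, 1, 16, 1, 8], (3, 0), (3, 0)), ([1, 13, 1, 16, 1, 8], (0, 0), (0, 0)), ([1, 19, 1, 16, 1, 8], (3, 0), (0, 0)), ([1, 20, 1, 16,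 1, 8], (0, 0), (3, 0)), ([1, 22, 1, 16, 1, 8], (0, 0), (3, 0)), ([1, 7, 1, 18, 1, 8], (0, 0), (0, 0)), ([1, 8, 1, 18, 1, 8], (0, 0), (0, 0)), ([1, 13, 1, 18, 1, 8], (3, 0), (0, 0)), ([1, 21, 1, 18, 1, 8], (0, 0), (0, 0))],
  [([1, 22, 1, 18, 1, 8], (0, 0), (0, 0)), ([1, 2, 1, 19, 1, 8], (0, 0), (0, 0)), ([1, 13, 1, 19, 1, 8], (0, 0), (3, 0)), ([1, 18, 1, 19, 1, 8], (3, 0), (3, 0)), ([1, 19, 1, 19, 1, 8], (3, 0), (0, 0)), ([1, 22, 1, 19, 1, 8], (0, 0), (0, 1)), ([1, 5, 1, 20, 1, 8], (0, 0), (0, 1)), ([1, 19, 1, 20, 1, 8], (0, 0), (0, 0)), ([1, 20, 1, 20, 1, 8], (0, 0), (0, 0)), ([1, 23, 1, 20, 1, 8], (0, 0), (0, 0)), ([1, 2, 1, 21, 1, 8], (0, 0), (0, 0)), ([1, 7, 1, 21, 1, 8], (0, 0), (0, 0)), ([1, 12, 1, 21, 1, 8], (0, 0), (3, 0)), ([1, 18, 1, 21, 1, 8], (3, 0), (0, 0)), ([1, 4, 1, 22, 1,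 8], (3, 0), (0, 0)), ([1, 8, 1, 22, 1, 8], (0, 0), (3, 0)), ([1, 13, 1, 22, 1, 8], (3, 0), (3, 0)), ([1, 17, 1, 22, 1, 8], (0, 0), (0, 0)), ([1, 19, 1, 22, 1, 8], (3, 0), (3, 0)), ([1, 21, 1, 22, 1, 8], (0, 0), (3, 0)), ([1, 3, 1, 23, 1, 8], (3, 0), (3, 0)), ([1, 13, 1, 23, 1, 8], (0, 0), (3, 0)), ([1, 15, 1, 23, 1, 8], (0, 0), (0, 0)), ([1, 7, 1, 2, 1, 9], (0, 0), (0, 0)), ([1, 11, 1, 2, 1, 9], (0, 0), (0, 0)), ([1, 16, 1, 2, 1, 9], (0, 0), (0, 0)), ([1, 23, 1, 2, 1, 9], (3, 0), (0, 0)), ([1, 3, 1, 3, 1, 9], (0, 0), (3, 0)), ([1, 11, 1, 3, 1, 9], (0, 0), (3, 0)), ([1, 12, 1, 3, 1, 9], (3, 0), (3, 0)), ([1, 2, 1, 5, 1, 9], (3, 0), (0, 0)), ([1, 6, 1, 5, 1, 9], (0, 0), (0, 0)), ([1, 12, 1, 5, 1, 9], (0, 0), (0, 0)), ([1, 18, 1, 5, 1, 9], (0, 0), (0, 0)), ([1, 19, 1, 5, 1, 9], (0, 0), (0, 0)),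 ([1, 22, 1, 5, 1, 9], (0, 0), (0, 0)), ([1, 23, 1, 5, 1, 9], (0, 0), (0, 0)), ([1, 4, 1, 6, 1, 9], (0, 0), (0, 0)), ([1, 10, 1, 6, 1, 9], (0, 0), (0, 0)), ([1, 11, 1, 6, 1, 9], (3, 0), (3, 0)), ([1, 12, 1, 6, 1, 9], (0, 0), (0, 0)), ([1, 14, 1, 6, 1, 9], (0, 0), (3, 0)), ([1, 16, 1, 6, 1, 9], (0, 0), (0, 0)), ([1, 18, 1, 6, 1, 9], (3, 0), (0, 0)), ([1, 21, 1, 6, 1, 9], (0, 0), (3, 0)), ([1, 23, 1, 6, 1, 9], (0, 0), (0, 0)), ([1, 3, 1, 7, 1, 9], (0, 0), (0, 0)), ([1, 7, 1, 7, 1, 9], (0, 0), (3, 0)), ([1, 11, 1, 7, 1, 9], (0, 0), (0, 0)), ([1, 13, 1, 7, 1, 9], (0, 0), (0, 0)), ([1, 19, 1, 7, 1, 9], (3, 0), (0, 0)), ([1, 2, 1, 8, 1, 9], (0, 0), (0, 0)), ([1, 4, 1, 8, 1, 9], (0, 0), (0, 0)), ([1, 6, 1, 8, 1, 9], (0, 1), (3, 0)), ([1, 11, 1, 8, 1, 9], (0, 0), (0, 0)), ([1, 12, 1, 8, 1, 9], (0,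 0), (0, 0)), ([1, 13, 1, 8, 1, 9], (0, 0), (0, 0)), ([1, 15, 1, 8, 1, 9], (0, 0), (3, 0)), ([1, 22, 1, 8, 1, 9], (0, 0), (0, 0)), ([1, 4, 1, 9, 1, 9], (0, 0), (0, 0)), ([1, 10, 1, 9, 1, 9], (0, 0), (3, 0)), ([1, 13, 1, 9, 1, 9], (0, 0), (0, 0)), ([1, 15, 1, 9, 1, 9], (0, 0), (0, 0)), ([1, 19, 1, 9, 1, 9], (0, 0), (0, 0)), ([1, 21, 1, 9, 1, 9], (3, 0), (0, 0)), ([1, 7, 1, 10, 1, 9], (0, 0), (0, 0)), ([1, 11, 1, 10, 1, 9], (0, 0), (3, 0)), ([1, 12, 1, 10, 1, 9], (0, 0), (0, 0)), ([1, 17, 1, 10, 1, 9], (0, 0), (0, 0)), ([1, 20, 1, 10, 1, 9], (0, 0), (0, 0)), ([1, 22, 1, 10, 1, 9], (0, 0), (3, 0)), ([1, 2, 1, 11, 1, 9], (3, 0), (0, 0)), ([1, 3, 1, 11, 1, 9], (0, 0), (0, 0)), ([1, 5, 1, 11, 1, 9], (0, 0), (0, 0)), ([1, 7, 1, 11, 1, 9], (0, 0), (0, 0)), ([1, 8, 1, 11, 1, 9], (0, 0), (0, 0)), ([1,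 12, 1, 11, 1, 9], (0, 0), (0, 0)), ([1, 14, 1, 11, 1, 9], (0, 0), (0, 0)), ([1, 19, 1, 11, 1, 9], (3, 0), (0, 0)), ([1, 23, 1, 11, 1, 9], (0, 0), (0, 0)), ([1, 3, 1, 12, 1, 9], (0, 0), (3, 0)), ([1, 8, 1, 12, 1, 9], (3, 0), (3, 0)), ([1, 9, 1, 12, 1, 9], (0, 0), (3, 0)), ([1, 11, 1, 12, 1, 9], (0, 0), (3, 0)), ([1, 16, 1, 12, 1, 9], (0, 0), (0, 0)), ([1, 20, 1, 12, 1, 9], (0, 0), (0, 0)), ([1, 22, 1, 12, 1, 9], (0, 0), (0, 0)), ([1, 23, 1, 12, 1, 9], (0, 0), (0, 0)), ([1, 8, 1, 13, 1, 9], (0, 0), (3, 0)), ([1, 9, 1, 13, 1, 9], (0, 0), (0, 0)), ([1, 15, 1, 13, 1, 9], (0, 0), (0, 0)), ([1, 21, 1, 13, 1, 9], (0, 0), (0, 0)), ([1, 6, 1, 15, 1, 9], (0, 0), (0, 0)), ([1, 9, 1, 15, 1, 9], (0, 0), (0, 0)), ([1, 11, 1, 15, 1, 9], (3, 0), (0, 0)), ([1, 14, 1, 15, 1, 9], (3, 0), (0, 0)), ([1, 19, 1,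 15, 1, 9], (0, 0), (0, 0)), ([1, 20, 1, 15, 1, 9], (0, 0), (0, 0)), ([1, 21, 1, 15, 1, 9], (3, 0), (0, 0)), ([1, 9, 1, 17, 1, 9], (0, 0), (0, 0)), ([1, 16, 1, 17, 1, 9], (0, 0), (0, 0)), ([1, 17, 1, 17, 1, 9], (0, 0), (0, 0)), ([1, 18, 1, 17, 1, 9], (0, 0), (0, 0)), ([1, 3, 1, 18, 1, 9], (0, 0), (0, 0)), ([1, 11, 1, 18, 1, 9], (3, 0), (0, 0)), ([1, 15, 1, 18, 1, 9], (0, 0), (3, 0)), ([1, 20, 1, 18, 1, 9], (3, 0), (3, 0)), ([1, 3, 1, 21, 1, 9], (3, 0), (0, 0)), ([1, 6, 1, 21, 1, 9], (3, 0), (0, 0)), ([1, 9, 1, 21, 1, 9], (3, 0), (0, 0)), ([1, 18, 1, 21, 1, 9], (0, 0), (0, 0)), ([1, 19, 1, 21, 1, 9], (0, 0), (3, 0)), ([1, 4, 1, 22, 1, 9], (0, 0), (0, 0)), ([1, 6, 1, 22, 1, 9], (0, 0), (0, 0)), ([1, 21, 1, 22, 1, 9], (0, 0), (0, 0)), ([1, 22, 1, 22, 1, 9], (0, 0), (3, 0)), ([1, 8, 1, 2, 1, 10],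 (0, 0), (0, 0)), ([1, 9, 1, 2, 1, 10], (0, 0), (3, 0)), ([1, 11, 1, 2, 1, 10], (0, 0), (0, 0)), ([1, 12, 1, 2, 1, 10], (0, 0), (3, 0)), ([1, 13, 1, 2, 1, 10], (0, 0), (0, 0)), ([1, 15, 1, 2, 1, 10], (0, 0), (0, 0)), ([1, 16, 1, 2, 1, 10], (0, 0), (0, 0)), ([1, 19, 1, 2, 1, 10], (3, 0), (3, 0)), ([1, 2, 1, 4, 1, 10], (0, 0), (3, 0)), ([1, 3, 1, 4, 1, 10], (0, 0), (3, 0)), ([1, 5, 1, 4, 1, 10], (3, 0), (0, 0)), ([1, 8, 1, 4, 1, 10], (0, 0), (0, 0))],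
  [([1, 11, 1, 4, 1, 10], (0, 0), (0, 0)), ([1, 21, 1, 4, 1, 10], (0, 0), (0, 0)), ([1, 3, 1, 5, 1, 10], (0, 0), (0, 0)), ([1, 12, 1, 5, 1, 10], (0, 0), (0, 0)), ([1, 13, 1, 5, 1, 10], (0, 0), (0, 0)), ([1, 17, 1, 5, 1, 10], (0, 0), (3, 0)), ([1, 18, 1, 5, 1, 10], (0, 0), (0, 0)), ([1, 21, 1, 5, 1, 10], (0, 0), (3, 0)), ([1, 5, 1, 6, 1, 10], (0, 0), (0, 0)), ([1, 20, 1, 6, 1, 10], (0, 0), (3, 0)), ([1, 5, 1, 7, 1, 10], (0, 0), (0, 0)), ([1, 6, 1, 7, 1, 10], (0, 0), (0, 0)), ([1, 17, 1, 7, 1, 10], (0, 0), (0, 0)), ([1, 22, 1, 7, 1, 10], (0, 0), (0, 0)), ([1, 5, 1, 8, 1, 10], (0, 0), (0, 0)), ([1, 9, 1, 8, 1, 10], (3, 0), (3, 0)), ([1, 10, 1, 8, 1, 10], (0, 0), (0, 0)), ([1, 11, 1, 8, 1, 10], (3, 0), (0, 0)), ([1, 13, 1, 8, 1, 10], (0, 0), (0, 0)), ([1, 15, 1, 8, 1, 10], (3, 0), (0, 0)), ([1,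 18, 1, 8, 1, 10], (0, 0), (0, 0)), ([1, 19, 1, 8, 1, 10], (3, 0), (3, 0)), ([1, 22, 1, 8, 1, 10], (0, 0), (3, 0)), ([1, 23, 1, 8, 1, 10], (3, 0), (0, 0)), ([1, 6, 1, 9, 1, 10], (0, 0), (0, 0)), ([1, 8, 1, 9, 1, 10], (0, 0), (0, 0)), ([1, 10, 1, 9, 1, 10], (3, 0), (0, 0)), ([1, 12, 1, 9, 1, 10], (0, 0), (0, 0)), ([1, 14, 1, 9, 1, 10], (0, 0), (0, 0)), ([1, 17, 1, 9, 1, 10], (0, 0), (0, 0)), ([1, 23, 1, 9, 1, 10], (0, 0), (0, 0)), ([1, 7, 1, 10, 1, 10], (0, 0), (0, 0)), ([1, 8, 1, 10, 1, 10], (0, 0), (0, 0)), ([1, 11, 1, 10, 1, 10], (0, 0), (0, 0)), ([1, 13, 1, 10, 1, 10], (0, 0), (0, 0)), ([1, 5, 1, 11, 1, 10], (0, 0), (0, 0)), ([1, 10, 1, 11, 1, 10], (3, 0), (0, 0)), ([1, 21, 1, 11, 1, 10], (0, 0), (0, 0)), ([1, 23, 1, 11, 1, 10], (3, 0), (0, 0)), ([1, 3, 1, 12, 1, 10], (0, 0), (0, 0)), ([1,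 10, 1, 12, 1, 10], (3, 0), (3, 0)), ([1, 16, 1, 12, 1, 10], (0, 0), (3, 0)), ([1, 18, 1, 12, 1, 10], (0, 0), (3, 0)), ([1, 19, 1, 12, 1, 10], (0, 0), (0, 0)), ([1, 5, 1, 13, 1, 10], (0, 0), (0, 0)), ([1, 10, 1, 13, 1, 10], (0, 0), (0, 0)), ([1, 21, 1, 13, 1, 10], (0, 0), (3, 0)), ([1, 11, 1, 14, 1, 10], (3, 0), (3, 0)), ([1, 12, 1, 14, 1, 10], (3, 0), (0, 0)), ([1, 15, 1, 14, 1, 10], (3, 0), (2, 0)), ([1, 21, 1, 14, 1, 10], (0, 0), (0, 0)), ([1, 23, 1, 14, 1, 10], (0, 0), (0, 0)), ([1, 7, 1, 16, 1, 10], (3, 0), (0, 0)), ([1, 8, 1, 16, 1, 10], (0, 0), (3, 0)), ([1, 15, 1, 16, 1, 10], (0, 0), (0, 0)), ([1, 16, 1, 16, 1, 10], (0, 0), (3, 0)), ([1, 20, 1, 16, 1, 10], (0, 0), (0, 0)), ([1, 8, 1, 18, 1, 10], (0, 0), (0, 0)), ([1, 15, 1, 18, 1, 10], (0, 0), (3, 0)), ([1, 16, 1, 18, 1, 10], (0, 0),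 (0, 0)), ([1, 2, 1, 19, 1, 10], (0, 0), (0, 0)), ([1, 8, 1, 19, 1, 10], (0, 0), (0, 0)), ([1, 9, 1, 19, 1, 10], (0, 0), (0, 0)), ([1, 11, 1, 19, 1, 10], (0, 0), (3, 0)), ([1, 23, 1, 19, 1, 10], (0, 0), (0, 0)), ([1, 8, 1, 21, 1, 10], (0, 0), (3, 0)), ([1, 9, 1, 21, 1, 10], (3, 0), (3, 0)), ([1, 14, 1, 21, 1, 10], (0, 0), (0, 0)), ([1, 21, 1, 21, 1, 10], (0, 0), (3, 0)), ([1, 22, 1, 21, 1, 10], (0, 0), (0, 0)), ([1, 5, 1, 22, 1, 10], (3, 0), (0, 0)), ([1, 11, 1, 22, 1, 10], (0, 0), (3, 0)), ([1, 15, 1, 22, 1, 10], (0, 0), (0, 0)), ([1, 19, 1, 22, 1, 10], (0, 0), (0, 0)), ([1, 5, 1, 23, 1, 10], (0, 0), (3, 0)), ([1, 9, 1, 23, 1, 10], (0, 0), (3, 0)), ([1, 10, 1, 23, 1, 10], (0, 0), (3, 0)), ([1, 13, 1, 23, 1, 10], (0, 0), (0, 0)), ([1, 16, 1, 23, 1, 10], (0, 0), (0, 0)), ([1, 23, 1, 23, 1,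 10], (3, 0), (0, 0)), ([1, 6, 1, 2, 1, 11], (0, 0), (0, 0)), ([1, 7, 1, 2, 1, 11], (3, 0), (3, 0)), ([1, 10, 1, 2, 1, 11], (0, 0), (0, 0)), ([1, 15, 1, 2, 1, 11], (0, 0), (0, 0)), ([1, 2, 1, 3, 1, 11], (0, 0), (0, 0)), ([1, 11, 1, 3, 1, 11], (3, 0), (0, 0)), ([1, 13, 1, 3, 1, 11], (0, 0), (0, 0)), ([1, 14, 1, 3, 1, 11], (0, 0), (3, 0)), ([1, 2, 1, 4, 1, 11], (3, 0), (3, 0)), ([1, 13, 1, 4, 1, 11], (0, 0), (0, 0)), ([1, 15, 1, 4, 1, 11], (0, 0), (0, 0)), ([1, 17, 1, 4, 1, 11], (3, 0), (0, 0)), ([1, 22, 1, 4, 1, 11], (0, 0), (3, 0)), ([1, 5, 1, 5, 1, 11], (0, 0), (0, 0)), ([1, 8, 1, 5, 1, 11], (0, 0), (3, 0)), ([1, 16, 1, 5, 1, 11], (0, 0), (0, 0)), ([1, 20, 1, 5, 1, 11], (0, 0), (0, 0)), ([1, 21, 1, 5, 1, 11], (0, 0), (0, 0)), ([1, 2, 1, 6, 1, 11], (3, 0), (0, 0)), ([1, 12, 1, 6, 1, 11], (3,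 0), (0, 0)), ([1, 3, 1, 7, 1, 11], (0, 0), (0, 0)), ([1, 4, 1, 7, 1, 11], (0, 0), (0, 0)), ([1, 9, 1, 7, 1, 11], (0, 0), (3, 0)), ([1, 11, 1, 7, 1, 11], (0, 0), (0, 0)), ([1, 12, 1, 7, 1, 11], (0, 0), (0, 0)), ([1, 15, 1, 7, 1, 11], (0, 0), (0, 0)), ([1, 17, 1, 7, 1, 11], (0, 0), (0, 0)), ([1, 20, 1, 7, 1, 11], (0, 0), (0, 0)), ([1, 7, 1, 8, 1, 11], (0, 0), (0, 0)), ([1, 13, 1, 8, 1, 11], (3, 0), (0, 0)), ([1, 21, 1, 8, 1, 11], (0, 0), (0, 0)), ([1, 16, 1, 9, 1, 11], (0, 0), (3, 0)), ([1, 17, 1, 9, 1, 11], (3, 0), (3, 0)), ([1, 4, 1, 11, 1, 11], (0, 0), (0, 0)), ([1, 6, 1, 11, 1, 11], (0, 0), (0, 0)), ([1, 19, 1, 11, 1, 11], (0, 0), (0, 0)), ([1, 20, 1, 11, 1, 11], (3, 0), (0, 0)), ([1, 6, 1, 12, 1, 11], (0, 0), (0, 0)), ([1, 7, 1, 12, 1, 11], (0, 0), (3, 0)), ([1, 8, 1, 12, 1, 11], (3, 0),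 (0, 0)), ([1, 10, 1, 12, 1, 11], (0, 0), (0, 0)), ([1, 13, 1, 12, 1, 11], (0, 0), (0, 0)), ([1, 21, 1, 12, 1, 11], (3, 0), (0, 0)), ([1, 22, 1, 12, 1, 11], (0, 0), (0, 0)), ([1, 8, 1, 13, 1, 11], (0, 0), (0, 0)), ([1, 9, 1, 13, 1, 11], (0, 0), (0, 0)), ([1, 16, 1, 13, 1, 11], (0, 0), (0, 0)), ([1, 18, 1, 13, 1, 11], (0, 0), (0, 0))],
  [([1, 20, 1, 13, 1, 11], (0, 0), (0, 0)), ([1, 21, 1, 13, 1, 11], (3, 0), (3, 0)), ([1, 6, 1, 15, 1, 11], (0, 0), (3, 0)), ([1, 7, 1, 15, 1, 11], (3, 0), (0, 0)), ([1, 8, 1, 15, 1, 11], (3, 0), (0, 0)), ([1, 12, 1, 15, 1, 11], (0, 0), (3, 0)), ([1, 13, 1, 15, 1, 11], (0, 0), (0, 0)), ([1, 19, 1, 15, 1, 11], (0, 0), (3, 0)), ([1, 15, 1, 16, 1, 11], (0, 0), (3, 0)), ([1, 18, 1, 16, 1, 11], (0, 0), (0, 0)), ([1, 22, 1, 16, 1, 11], (3, 0), (0, 1)), ([1, 23, 1,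 16, 1, 11], (0, 0), (0, 0)), ([1, 11, 1, 17, 1, 11], (0, 0), (0, 0)), ([1, 9, 1, 18, 1, 11], (3, 0), (0, 0)), ([1, 22, 1, 18, 1, 11], (0, 0), (0, 0)), ([1, 13, 1, 19, 1, 11], (0, 0), (3, 0)), ([1, 14, 1, 19, 1, 11], (3, 0), (0, 0)), ([1, 15, 1, 19, 1, 11], (0, 0), (0, 0)), ([1, 20, 1, 19, 1, 11], (0, 0), (0, 0)), ([1, 2, 1, 20, 1, 11], (3, 0), (0, 0)), ([1, 3, 1, 20, 1, 11], (0, 0), (0, 0)), ([1, 4, 1, 20, 1, 11], (0, 0), (0, 0)), ([1, 16, 1, 20, 1, 11], (3, 0), (3, 0)), ([1, 23, 1, 20, 1, 11], (0, 0), (0, 0)), ([1, 8, 1, 21, 1, 11], (0, 0), (0, 0)), ([1, 9, 1, 21, 1, 11], (3, 0), (0, 0)), ([1, 7, 1, 22, 1, 11], (0, 0), (0, 0)), ([1, 13, 1, 22, 1, 11], (0, 0), (3, 0)), ([1, 19, 1, 22, 1, 11], (0, 0), (0, 0)), ([1, 22, 1, 22, 1, 11], (0, 0), (0, 0)), ([1, 2, 1, 2, 1, 12], (3, 0), (0, 0)),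 ([1, 5, 1, 2, 1, 12], (3, 0), (0, 0)), ([1, 9, 1, 2, 1, 12], (0, 0), (0, 0)), ([1, 18, 1, 2, 1, 12], (0, 0), (0, 0)), ([1, 21, 1, 2, 1, 12], (0, 0), (0, 0)), ([1, 13, 1, 3, 1, 12], (0, 0), (0, 0)), ([1, 16, 1, 3, 1, 12], (0, 0), (0, 0)), ([1, 20, 1, 3, 1, 12], (0, 0), (0, 0)), ([1, 2, 1, 4, 1, 12], (3, 0), (0, 0)), ([1, 22, 1, 4, 1, 12], (0, 0), (0, 0)), ([1, 6, 1, 5, 1, 12], (0, 0), (0, 0)), ([1, 15, 1, 5, 1, 12], (0, 0), (0, 0)), ([1, 16, 1, 5, 1, 12], (0, 0), (0, 0)), ([1, 18, 1, 5, 1, 12], (0, 0), (0, 0)), ([1, 20, 1, 5, 1, 12], (0, 0), (0, 0)), ([1, 7, 1, 6, 1, 12], (0, 0), (0, 0)), ([1, 12, 1, 6, 1, 12], (3, 0), (0, 0)), ([1, 14, 1, 6, 1, 12], (0, 0), (0, 0)), ([1, 17, 1, 6, 1, 12], (0, 0), (0, 0)), ([1, 18, 1, 6, 1, 12], (0, 0), (0, 0)), ([1, 21, 1, 6, 1, 12], (0, 0), (0, 0)), ([1,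 21, 1, 7, 1, 12], (0, 0), (0, 0)), ([1, 8, 1, 8, 1, 12], (0, 0), (0, 0)), ([1, 10, 1, 8, 1, 12], (0, 0), (0, 0)), ([1, 8, 1, 9, 1, 12], (0, 0), (0, 0)), ([1, 10, 1, 9, 1, 12], (0, 0), (3, 0)), ([1, 18, 1, 9, 1, 12], (0, 0), (0, 0)), ([1, 18, 1, 10, 1, 12], (3, 0), (0, 0)), ([1, 20, 1, 10, 1, 12], (3, 0), (0, 0)), ([1, 10, 1, 11, 1, 12], (0, 0), (0, 0)), ([1, 13, 1, 11, 1, 12], (0, 0), (0, 0)), ([1, 18, 1, 11, 1, 12], (0, 0), (0, 0)), ([1, 19, 1, 11, 1, 12], (0, 0), (3, 0)), ([1, 4, 1, 12, 1, 12], (0, 0), (0, 0)), ([1, 8, 1, 12, 1, 12], (0, 0), (0, 0)), ([1, 19, 1, 12, 1, 12], (3, 0), (0, 0)), ([1, 9, 1, 14, 1, 12], (0, 0), (0, 0)), ([1, 16, 1, 14, 1, 12], (3, 0), (3, 0)), ([1, 14, 1, 15, 1, 12], (0, 0), (0, 0)), ([1, 5, 1, 16, 1, 12], (0, 0), (0, 0)), ([1, 12, 1, 16, 1, 12], (0, 0), (0, 0)),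 ([1, 23, 1, 16, 1, 12], (0, 0), (0, 0)), ([1, 4, 1, 17, 1, 12], (3, 0), (0, 0)), ([1, 10, 1, 17, 1, 12], (0, 0), (0, 0)), ([1, 7, 1, 18, 1, 12], (0, 0), (0, 0)), ([1, 5, 1, 19, 1, 12], (0, 0), (0, 0)), ([1, 6, 1, 19, 1, 12], (0, 0), (0, 0)), ([1, 8, 1, 19, 1, 12], (3, 0), (0, 0)), ([1, 20, 1, 19, 1, 12], (0, 0), (0, 0)), ([1, 23, 1, 19, 1, 12], (0, 0), (3, 0)), ([1, 6, 1, 20, 1, 12], (0, 0), (0, 0)), ([1, 12, 1, 20, 1, 12], (0, 0), (0, 0)), ([1, 8, 1, 21, 1, 12], (0, 0), (3, 0)), ([1, 14, 1, 21, 1, 12], (3, 0), (0, 0)), ([1, 18, 1, 21, 1, 12], (3, 0), (0, 0)), ([1, 6, 1, 22, 1, 12], (3, 0), (0, 0)), ([1, 7, 1, 22, 1, 12], (3, 0), (0, 0)), ([1, 10, 1, 22, 1, 12], (3, 0), (0, 0)), ([1, 15, 1, 22, 1, 12], (0, 0), (0, 1)), ([1, 17, 1, 22, 1, 12], (0, 0), (0, 0)), ([1, 21, 1, 22, 1, 12], (3, 0),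 (0, 0)), ([1, 5, 1, 23, 1, 12], (3, 0), (0, 0)), ([1, 6, 1, 23, 1, 12], (3, 0), (0, 0)), ([1, 17, 1, 23, 1, 12], (0, 0), (0, 0)), ([1, 18, 1, 23, 1, 12], (3, 0), (3, 0)), ([1, 19, 1, 23, 1, 12], (0, 0), (3, 0)), ([1, 16, 1, 2, 1, 13], (0, 0), (0, 0)), ([1, 23, 1, 2, 1, 13], (0, 0), (3, 0)), ([1, 18, 1, 4, 1, 13], (0, 0), (3, 0)), ([1, 10, 1, 6, 1, 13], (0, 0), (3, 0)), ([1, 12, 1, 6, 1, 13], (0, 0), (0, 0)), ([1, 15, 1, 6, 1, 13], (0, 0), (0, 0)), ([1, 23, 1, 6, 1, 13], (3, 0), (3, 0)), ([1, 6, 1, 7, 1, 13], (0, 0), (0, 0)), ([1, 17, 1, 7, 1, 13], (0, 0), (0, 0)), ([1, 6, 1, 8, 1, 13], (3, 0), (0, 0)), ([1, 18, 1, 8, 1, 13], (0, 0), (0, 0)), ([1, 5, 1, 9, 1, 13], (0, 0), (0, 0)), ([1, 7, 1, 9, 1, 13], (0, 0), (0, 0)), ([1, 16, 1, 10, 1, 13], (0, 0), (0, 0)), ([1, 22, 1, 10, 1, 13], (0, 0),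 (0, 0)), ([1, 10, 1, 11, 1, 13], (3, 0), (0, 0)), ([1, 20, 1, 11, 1, 13], (0, 0), (3, 0)), ([1, 21, 1, 11, 1, 13], (0, 0), (3, 0)), ([1, 22, 1, 11, 1, 13], (0, 0), (0, 0)), ([1, 2, 1, 13, 1, 13], (0, 0), (0, 0)), ([1, 5, 1, 13, 1, 13], (3, 0), (3, 0)), ([1, 12, 1, 14, 1, 13], (0, 0), (3, 0)), ([1, 3, 1, 15, 1, 13], (0, 0), (0, 0)), ([1, 19, 1, 15, 1, 13], (3, 0), (0, 0)), ([1, 22, 1, 15, 1, 13], (3, 0), (0, 0)), ([1, 18, 1, 16, 1, 13], (0, 0), (0, 0)), ([1, 23, 1, 16, 1, 13], (0, 0), (0, 0)), ([1, 19, 1, 17, 1, 13], (0, 0), (0, 0)), ([1, 22, 1, 17, 1, 13], (0, 0), (3, 0)), ([1, 12, 1, 18, 1, 13], (0, 0), (0, 0)), ([1, 14, 1, 18, 1, 13], (0, 0), (0, 0)), ([1, 22, 1, 18, 1, 13], (3, 0), (0, 0))],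
  [([1, 23, 1, 18, 1, 13], (0, 0), (0, 0)), ([1, 4, 1, 19, 1, 13], (0, 0), (0, 0)), ([1, 5, 1, 19, 1, 13], (0, 0), (0, 0)), ([1, 11, 1, 19, 1, 13], (0, 0), (3, 0)), ([1, 2, 1, 20, 1, 13], (0, 0), (0, 0)), ([1, 6, 1, 20, 1, 13], (0, 0), (3, 0)), ([1, 9, 1, 20, 1, 13], (3, 0), (3, 0)), ([1, 14, 1, 20, 1, 13], (0, 0), (0, 0)), ([1, 23, 1, 20, 1, 13], (3, 0), (0, 0)), ([1, 19, 1, 21, 1, 13], (3, 0), (3, 0)), ([1, 6, 1, 23, 1, 13], (0, 0), (0, 0)), ([1, 7, 1, 23, 1, 13], (3, 0), (0, 0)), ([1, 11, 1, 23, 1, 13], (3, 0), (0, 0)), ([1, 22, 1, 23, 1, 13], (0, 0), (0, 0)), ([1, 3, 1, 2, 1, 14], (3, 0), (0, 0)), ([1, 6, 1, 2, 1, 14], (0, 0), (0, 0)), ([1, 2, 1, 3, 1, 14], (3, 0), (0, 0)), ([1, 9, 1, 4, 1, 14], (0, 0), (0, 0)), ([1, 18, 1, 4, 1, 14], (0, 0), (0, 0)), ([1, 11, 1, 5, 1, 14], (0, 0), (0,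 0)), ([1, 19, 1, 5, 1, 14], (0, 0), (3, 0)), ([1, 15, 1, 6, 1, 14], (0, 1), (0, 0)), ([1, 17, 1, 7, 1, 14], (0, 0), (3, 0)), ([1, 21, 1, 7, 1, 14], (0, 0), (0, 0)), ([1, 4, 1, 8, 1, 14], (0, 0), (0, 0)), ([1, 3, 1, 10, 1, 14], (0, 0), (0, 0)), ([1, 10, 1, 10, 1, 14], (0, 0), (0, 0)), ([1, 22, 1, 10, 1, 14], (3, 0), (0, 0)), ([1, 3, 1, 12, 1, 14], (0, 0), (0, 0)), ([1, 11, 1, 12, 1, 14], (0, 0), (3, 0)), ([1, 13, 1, 13, 1, 14], (0, 0), (0, 0)), ([1, 3, 1, 15, 1, 14], (3, 0), (0, 0)), ([1, 5, 1, 15, 1, 14], (3, 0), (0, 0)), ([1, 12, 1, 15, 1, 14], (0, 0), (0, 0)), ([1, 16, 1, 15, 1, 14], (0, 0), (0, 0)), ([1, 17, 1, 15, 1, 14], (0, 0), (0, 0)), ([1, 22, 1, 15, 1, 14], (3, 0), (0, 0)), ([1, 17, 1, 18, 1, 14], (0, 0), (0, 0)), ([1, 3, 1, 20, 1, 14], (3, 0), (0, 0)), ([1, 8, 1, 20, 1, 14], (0,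 0), (0, 0)), ([1, 11, 1, 20, 1, 14], (0, 0), (0, 0)), ([1, 5, 1, 21, 1, 14], (0, 0), (0, 0)), ([1, 6, 1, 21, 1, 14], (0, 0), (0, 0)), ([1, 4, 1, 22, 1, 14], (0, 0), (0, 0)), ([1, 11, 1, 23, 1, 14], (0, 0), (0, 0)), ([1, 21, 1, 23, 1, 14], (0, 0), (0, 0)), ([1, 23, 1, 23, 1, 14], (0, 0), (0, 0)), ([1, 8, 1, 2, 1, 15], (0, 0), (0, 0)), ([1, 21, 1, 3, 1, 15], (0, 0), (0, 0)), ([1, 23, 1, 3, 1, 15], (0, 0), (0, 0)), ([1, 4, 1, 4, 1, 15], (0, 0), (0, 0)), ([1, 10, 1, 4, 1, 15], (0, 0), (3, 0)), ([1, 11, 1, 4, 1, 15], (0, 0), (0, 0)), ([1, 18, 1, 4, 1, 15], (0, 0), (0, 0)), ([1, 22, 1, 4, 1, 15], (3, 0), (0, 0)), ([1, 19, 1, 5, 1, 15], (0, 0), (0, 0)), ([1, 2, 1, 7, 1, 15], (0, 0), (0, 0)), ([1, 6, 1, 7, 1, 15], (0, 0), (0, 0)), ([1, 13, 1, 7, 1, 15], (0, 0), (0, 0)), ([1, 23, 1, 7, 1, 15], (0,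 0), (3, 0)), ([1, 4, 1, 8, 1, 15], (0, 0), (0, 0)), ([1, 10, 1, 8, 1, 15], (0, 0), (0, 0)), ([1, 6, 1, 9, 1, 15], (0, 0), (0, 0)), ([1, 23, 1, 9, 1, 15], (0, 0), (3, 0)), ([1, 8, 1, 11, 1, 15], (0, 0), (0, 0)), ([1, 19, 1, 11, 1, 15], (0, 0), (3, 0)), ([1, 21, 1, 11, 1, 15], (0, 0), (0, 0)), ([1, 6, 1, 12, 1, 15], (3, 0), (3, 0)), ([1, 9, 1, 12, 1, 15], (0, 0), (3, 0)), ([1, 17, 1, 12, 1, 15], (0, 0), (0, 0)), ([1, 2, 1, 13, 1, 15], (0, 0), (0, 0)), ([1, 5, 1, 13, 1, 15], (0, 0), (3, 0)), ([1, 10, 1, 13, 1, 15], (0, 0), (0, 0)), ([1, 20, 1, 15, 1, 15], (0, 0), (0, 0)), ([1, 20, 1, 16, 1, 15], (0, 0), (0, 0)), ([1, 17, 1, 17, 1, 15], (3, 0), (0, 0)), ([1, 11, 1, 18, 1, 15], (3, 0), (0, 0)), ([1, 22, 1, 18, 1, 15], (0, 0), (0, 0)), ([1, 2, 1, 19, 1, 15], (0, 0), (0, 0)), ([1, 7, 1, 19, 1, 15],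 (3, 0), (0, 0)), ([1, 9, 1, 19, 1, 15], (0, 0), (0, 0)), ([1, 17, 1, 19, 1, 15], (3, 0), (0, 0)), ([1, 8, 1, 20, 1, 15], (0, 0), (0, 0)), ([1, 16, 1, 21, 1, 15], (0, 0), (0, 0)), ([1, 8, 1, 22, 1, 15], (0, 0), (0, 0)), ([1, 15, 1, 23, 1, 15], (0, 0), (0, 0)), ([1, 5, 1, 2, 1, 16], (0, 0), (0, 0)), ([1, 17, 1, 2, 1, 16], (0, 0), (0, 0)), ([1, 18, 1, 2, 1, 16], (3, 0), (3, 0)), ([1, 22, 1, 2, 1, 16], (0, 0), (3, 0)), ([1, 2, 1, 3, 1, 16], (0, 0), (3, 0)), ([1, 23, 1, 3, 1, 16], (0, 0), (3, 0)), ([1, 5, 1, 4, 1, 16], (0, 0), (3, 0)), ([1, 9, 1, 4, 1, 16], (0, 0), (0, 0)), ([1, 14, 1, 4, 1, 16], (0, 0), (0, 0)), ([1, 15, 1, 4, 1, 16], (0, 0), (0, 0)), ([1, 17, 1, 4, 1, 16], (3, 0), (0, 0)), ([1, 20, 1, 5, 1, 16], (0, 0), (0, 0)), ([1, 2, 1, 6, 1, 16], (0, 0), (3, 0)), ([1, 7, 1, 6, 1, 16], (0,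 0), (0, 0)), ([1, 21, 1, 6, 1, 16], (3, 0), (3, 0)), ([1, 8, 1, 7, 1, 16], (0, 0), (1, 0)), ([1, 16, 1, 7, 1, 16], (0, 0), (0, 0)), ([1, 6, 1, 10, 1, 16], (3, 0), (0, 0)), ([1, 7, 1, 10, 1, 16], (0, 0), (0, 0)), ([1, 8, 1, 11, 1, 16], (3, 0), (0, 0)), ([1, 6, 1, 12, 1, 16], (0, 0), (0, 0)), ([1, 15, 1, 12, 1, 16], (0, 0), (3, 0)), ([1, 20, 1, 12, 1, 16], (0, 0), (0, 0)), ([1, 17, 1, 13, 1, 16], (0, 0), (3, 0)), ([1, 7, 1, 15, 1, 16], (0, 0), (0, 0)), ([1, 9, 1, 15, 1, 16], (0, 0), (0, 0)), ([1, 13, 1, 16, 1, 16], (3, 0), (3, 0)), ([1, 22, 1, 16, 1, 16], (3, 0), (0, 0)), ([1, 17, 1, 17, 1, 16], (0, 0), (0, 0)), ([1, 11, 1, 18, 1, 16], (0, 0), (0, 0)), ([1, 18, 1, 18, 1, 16], (0, 0), (0, 0)), ([1, 19, 1, 20, 1, 16], (0, 0), (0, 0)), ([1, 3, 1, 4, 1, 17], (0, 0), (0, 0)), ([1, 13, 1, 4, 1, 17],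 (0, 0), (0, 0)), ([1, 23, 1, 4, 1, 17], (0, 0), (0, 0)), ([1, 2, 1, 5, 1, 17], (0, 0), (3, 0)), ([1, 14, 1, 5, 1, 17], (0, 0), (0, 0)), ([1, 22, 1, 5, 1, 17], (0, 0), (3, 0)), ([1, 23, 1, 5, 1, 17], (0, 0), (3, 0)), ([1, 9, 1, 7, 1, 17], (0, 0), (0, 0)), ([1, 12, 1, 9, 1, 17], (3, 0), (3, 0)), ([1, 21, 1, 9, 1, 17], (0, 0), (0, 0))],
  [([1, 18, 1, 10, 1, 17], (0, 0), (0, 0)), ([1, 23, 1, 10, 1, 17], (0, 0), (0, 0)), ([1, 15, 1, 11, 1, 17], (0, 0), (3, 0)), ([1, 12, 1, 12, 1, 17], (0, 0), (0, 0)), ([1, 19, 1, 12, 1, 17], (0, 0), (0, 0)), ([1, 22, 1, 12, 1, 17], (3, 0), (0, 0)), ([1, 9, 1, 13, 1, 17], (0, 0), (0, 0)), ([1, 16, 1, 14, 1, 17], (0, 0), (0, 0)), ([1, 21, 1, 14, 1, 17], (0, 0), (0, 0)), ([1, 5, 1, 15, 1, 17], (3, 0), (0, 0)), ([1, 6, 1, 15, 1, 17], (0, 0), (0, 0)), ([1, 2, 1, 16,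 1, 17], (0, 0), (0, 0)), ([1, 22, 1, 16, 1, 17], (0, 0), (3, 0)), ([1, 8, 1, 17, 1, 17], (0, 0), (0, 0)), ([1, 12, 1, 18, 1, 17], (0, 0), (3, 0)), ([1, 16, 1, 18, 1, 17], (3, 0), (0, 0)), ([1, 15, 1, 19, 1, 17], (0, 0), (0, 0)), ([1, 21, 1, 20, 1, 17], (3, 0), (3, 0)), ([1, 8, 1, 22, 1, 17], (0, 0), (0, 0)), ([1, 11, 1, 22, 1, 17], (0, 0), (3, 0)), ([1, 12, 1, 22, 1, 17], (3, 0), (3, 0)), ([1, 7, 1, 23, 1, 17], (0, 0), (0, 0)), ([1, 23, 1, 2, 1, 18], (0, 0), (0, 0)), ([1, 19, 1, 3, 1, 18], (0, 0), (3, 0)), ([1, 6, 1, 4, 1, 18], (0, 0), (0, 1)), ([1, 9, 1, 5, 1, 18], (0, 0), (0, 0)), ([1, 23, 1, 5, 1, 18], (3, 0), (0, 0)), ([1, 12, 1, 9, 1, 18], (0, 0), (0, 0)), ([1, 3, 1, 10, 1, 18], (0, 0), (0, 0)), ([1, 4, 1, 10, 1, 18], (0, 0), (0, 0)), ([1, 18, 1, 10, 1, 18], (0, 0), (0, 0)), ([1, 21,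 1, 12, 1, 18], (3, 0), (0, 0)), ([1, 12, 1, 16, 1, 18], (3, 0), (0, 0)), ([1, 2, 1, 17, 1, 18], (0, 0), (0, 0)), ([1, 5, 1, 17, 1, 18], (3, 0), (0, 0)), ([1, 14, 1, 17, 1, 18], (0, 0), (0, 0)), ([1, 20, 1, 17, 1, 18], (0, 0), (3, 0)), ([1, 14, 1, 18, 1, 18], (0, 0), (0, 0)), ([1, 2, 1, 19, 1, 18], (0, 0), (3, 0)), ([1, 3, 1, 19, 1, 18], (0, 0), (3, 0)), ([1, 23, 1, 19, 1, 18], (3, 0), (0, 0)), ([1, 9, 1, 20, 1, 18], (0, 0), (0, 0)), ([1, 23, 1, 20, 1, 18], (3, 0), (0, 0)), ([1, 16, 1, 21, 1, 18], (3, 0), (0, 0)), ([1, 19, 1, 21, 1, 18], (3, 0), (0, 0)), ([1, 10, 1, 2, 1, 19], (0, 0), (3, 0)), ([1, 14, 1, 2, 1, 19], (0, 0), (0, 0)), ([1, 18, 1, 2, 1, 19], (3, 0), (0, 0)), ([1, 2, 1, 3, 1, 19], (0, 0), (0, 0)), ([1, 21, 1, 4, 1, 19], (0, 0), (0, 0)), ([1, 17, 1, 8, 1, 19], (0, 0), (0, 0)),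 ([1, 13, 1, 9, 1, 19], (0, 0), (0, 0)), ([1, 4, 1, 11, 1, 19], (0, 0), (0, 0)), ([1, 18, 1, 11, 1, 19], (0, 0), (0, 0)), ([1, 6, 1, 14, 1, 19], (0, 0), (3, 0)), ([1, 12, 1, 14, 1, 19], (0, 0), (3, 0)), ([1, 23, 1, 14, 1, 19], (0, 0), (0, 0)), ([1, 4, 1, 15, 1, 19], (0, 0), (3, 0)), ([1, 11, 1, 15, 1, 19], (0, 0), (0, 0)), ([1, 22, 1, 15, 1, 19], (0, 0), (0, 0)), ([1, 15, 1, 19, 1, 19], (0, 0), (0, 0)), ([1, 20, 1, 22, 1, 19], (0, 0), (0, 0)), ([1, 3, 1, 23, 1, 19], (0, 0), (0, 0)), ([1, 8, 1, 2, 1, 20], (0, 0), (0, 0)), ([1, 23, 1, 3, 1, 20], (3, 0), (0, 0)), ([1, 7, 1, 8, 1, 20], (0, 0), (3, 0)), ([1, 12, 1, 8, 1, 20], (0, 0), (0, 0)), ([1, 10, 1, 9, 1, 20], (3, 0), (3, 0)), ([1, 9, 1, 14, 1, 20], (0, 0), (0, 0)), ([1, 22, 1, 16, 1, 20], (3, 0), (0, 0)), ([1, 9, 1, 18, 1, 20], (0, 0), (3,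 0)), ([1, 4, 1, 20, 1, 20], (0, 0), (0, 0)), ([1, 16, 1, 20, 1, 20], (0, 0), (0, 0)), ([1, 21, 1, 21, 1, 20], (0, 0), (0, 0)), ([1, 13, 1, 22, 1, 20], (0, 0), (0, 0)), ([1, 3, 1, 23, 1, 20], (3, 0), (3, 0)), ([1, 7, 1, 23, 1, 20], (0, 0), (0, 0)), ([1, 13, 1, 23, 1, 20], (0, 0), (3, 0)), ([1, 5, 1, 6, 1, 21], (0, 0), (0, 0)), ([1, 10, 1, 6, 1, 21], (3, 0), (3, 0)), ([1, 20, 1, 8, 1, 21], (3, 0), (0, 0)), ([1, 18, 1, 11, 1, 21], (0, 0), (3, 0)), ([1, 5, 1, 12, 1, 21], (0, 0), (0, 0)), ([1, 22, 1, 17, 1, 21], (0, 0), (0, 0)), ([1, 23, 1, 21, 1, 21], (0, 0), (0, 0)), ([1, 10, 1, 6, 1, 22], (0, 0), (3, 0)), ([1, 3, 1, 7, 1, 22], (0, 0), (0, 0)), ([1, 21, 1, 10, 1, 22], (0, 0), (3, 0)), ([1, 22, 1, 10, 1, 22], (0, 0), (0, 0)), ([1, 10, 1, 12, 1, 22], (0, 0), (0, 0)), ([1, 22, 1, 12, 1, 22], (0,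 0), (3, 0)), ([1, 22, 1, 16, 1, 22], (0, 0), (0, 0)), ([1, 3, 1, 17, 1, 22], (0, 0), (3, 0)), ([1, 16, 1, 18, 1, 22], (3, 0), (3, 0)), ([1, 5, 1, 20, 1, 22], (0, 0), (0, 0)), ([1, 11, 1, 20, 1, 22], (3, 0), (0, 0)), ([1, 8, 1, 2, 1, 2, 1, 2], (0, 0), (0, 0)), ([1, 10, 1, 2, 1, 2, 1, 2], (3, 0), (0, 0)), ([1, 14, 1, 5, 1, 2, 1, 2], (0, 0), (0, 0)), ([1, 11, 1, 7, 1, 2, 1, 2], (0, 0), (0, 0)), ([1, 6, 1, 9, 1, 2, 1, 2], (0, 0), (3, 0)), ([1, 7, 1, 10, 1, 2, 1, 2], (3, 0), (3, 0)), ([1, 18, 1, 11, 1, 2, 1, 2], (0, 0), (0, 0)), ([1, 16, 1, 14, 1, 2, 1, 2], (3, 0), (3, 0)), ([1, 22, 1, 4, 1, 3, 1, 2], (0, 0), (0, 0)), ([1, 4, 1, 5, 1, 3, 1, 2], (0, 0), (1, 0)), ([1, 15, 1, 5, 1, 3, 1, 2], (0, 0), (0, 0)), ([1, 20, 1, 7, 1, 3, 1, 2], (3, 0), (3, 0)), ([1, 7, 1, 9, 1, 3, 1, 2], (3, 0), (0, 0)),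 ([1, 12, 1, 9, 1, 3, 1, 2], (0, 1), (0, 0)), ([1, 22, 1, 9, 1, 3, 1, 2], (0, 0), (3, 0)), ([1, 10, 1, 12, 1, 3, 1, 2], (3, 0), (0, 0)), ([1, 2, 1, 15, 1, 3, 1, 2], (3, 0), (0, 0)), ([1, 6, 1, 15, 1, 3, 1, 2], (0, 0), (0, 0)), ([1, 14, 1, 15, 1, 3, 1, 2], (3, 0), (0, 0)), ([1, 23, 1, 15, 1, 3, 1, 2], (0, 0), (3, 0)), ([1, 2, 1, 16, 1, 3, 1, 2], (0, 0), (0, 0)), ([1, 7, 1, 2, 1, 4, 1, 2], (0, 0), (3, 0)), ([1, 2, 1, 3, 1, 4, 1, 2], (0, 0), (0, 0)), ([1, 13, 1, 4, 1, 4, 1, 2], (0, 0), (3, 0)), ([1, 18, 1, 4, 1, 4, 1, 2], (3, 0), (0, 0)), ([1, 5, 1, 9, 1, 4, 1, 2], (3, 0), (0, 0)), ([1, 2, 1, 10, 1, 4, 1, 2], (3, 0), (0, 0)), ([1, 3, 1, 11, 1, 4, 1, 2], (3, 0), (0, 0)), ([1, 20, 1, 15, 1, 4, 1, 2], (0, 0), (0, 0)), ([1, 10, 1, 18, 1, 4, 1, 2], (0, 0), (0, 0)), ([1, 13, 1, 6, 1, 5, 1, 2], (3,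 0), (0, 0)), ([1, 9, 1, 8, 1, 5, 1, 2], (3, 0), (0, 0))],
  [([1, 15, 1, 8, 1, 5, 1, 2], (3, 0), (3, 0)), ([1, 12, 1, 13, 1, 5, 1, 2], (0, 0), (0, 0)), ([1, 17, 1, 18, 1, 5, 1, 2], (0, 0), (0, 0)), ([1, 17, 1, 3, 1, 6, 1, 2], (3, 0), (0, 0)), ([1, 8, 1, 5, 1, 6, 1, 2], (0, 0), (3, 0)), ([1, 6, 1, 12, 1, 6, 1, 2], (0, 0), (0, 0)), ([1, 10, 1, 7, 1, 7, 1, 2], (0, 0), (0, 0)), ([1, 16, 1, 13, 1, 7, 1, 2], (3, 0), (3, 0)), ([1, 19, 1, 20, 1, 7, 1, 2], (3, 0), (0, 0)), ([1, 3, 1, 3, 1, 8, 1, 2], (0, 0), (0, 0)), ([1, 13, 1, 12, 1, 8, 1, 2], (0, 0), (0, 0)), ([1, 7, 1, 16, 1, 8, 1, 2], (0, 0), (0, 0)), ([1, 14, 1, 20, 1, 8, 1, 2], (0, 0), (0, 0)), ([1, 13, 1, 22, 1, 8, 1, 2], (0, 0), (0, 0)), ([1, 14, 1, 3, 1, 9, 1, 2], (1, 0), (3, 0)), ([1, 20, 1, 3, 1, 9, 1, 2], (0, 0), (0, 0)), ([1, 19, 1, 4,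 1, 9, 1, 2], (0, 0), (3, 0)), ([1, 8, 1, 10, 1, 9, 1, 2], (3, 0), (0, 0)), ([1, 14, 1, 11, 1, 9, 1, 2], (0, 0), (0, 0)), ([1, 11, 1, 17, 1, 9, 1, 2], (0, 0), (3, 0)), ([1, 19, 1, 18, 1, 9, 1, 2], (3, 0), (3, 0)), ([1, 14, 1, 10, 1, 10, 1, 2], (3, 0), (0, 0)), ([1, 12, 1, 23, 1, 10, 1, 2], (0, 0), (0, 0)), ([1, 18, 1, 6, 1, 11, 1, 2], (0, 0), (3, 0)), ([1, 21, 1, 9, 1, 11, 1, 2], (0, 0), (3, 0)), ([1, 11, 1, 13, 1, 11, 1, 2], (0, 0), (0, 0)), ([1, 4, 1, 22, 1, 11, 1, 2], (0, 0), (0, 0)), ([1, 22, 1, 7, 1, 12, 1, 2], (0, 0), (0, 0)), ([1, 5, 1, 13, 1, 12, 1, 2], (3, 0), (0, 0)), ([1, 2, 1, 16, 1, 12, 1, 2], (0, 0), (0, 0)), ([1, 2, 1, 5, 1, 14, 1, 2], (0, 0), (3, 0)), ([1, 11, 1, 12, 1, 16, 1, 2], (0, 0), (0, 0)), ([1, 20, 1, 22, 1, 18, 1, 2], (0, 0), (0, 0)), ([1, 10, 1, 11, 1, 19, 1, 2],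 (0, 0), (0, 0)), ([1, 12, 1, 7, 1, 20, 1, 2], (0, 0), (3, 0)), ([1, 15, 1, 22, 1, 20, 1, 2], (0, 0), (3, 0)), ([1, 8, 1, 22, 1, 21, 1, 2], (0, 0), (0, 0)), ([1, 3, 1, 12, 1, 2, 1, 3], (3, 0), (3, 0)), ([1, 22, 1, 7, 1, 3, 1, 3], (0, 0), (0, 0)), ([1, 3, 1, 12, 1, 7, 1, 3], (0, 0), (3, 0)), ([1, 7, 1, 21, 1, 8, 1, 3], (0, 0), (3, 0)), ([1, 18, 1, 8, 1, 15, 1, 3], (0, 0), (0, 0)), ([1, 17, 1, 11, 1, 3, 1, 4], (0, 0), (0, 0))]]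

/-- relations of the generating pair -/
def REL : List (List ℕ) := [[0, 2, 1, 2, 0, 2, 1, 2, 0, 2, 1, 2], [0, 0, 0, 2, 0, 0, 0, 2, 0, 0, 0, 2, 0, 0, 0, 2, 0, 0, 0, 2, 0, 0, 0, 2, 0, 0, 0, 2, 0, 0, 0, 2, 0, 0, 0, 2, 0, 0, 0, 2, 0, 0, 0, 2, 0, 0, 0, 2], [0, 0, 0, 0, 2, 0, 0, 0, 0, 2, 0, 0, 0, 0, 2, 0, 0, 0, 0, 2, 0, 0, 0, 0, 2, 0, 0, 0, 0, 2, 0, 0, 0, 0, 2, 0, 0, 0, 0, 2, 0, 0, 0, 0, 2, 0, 0, 0, 0, 2], [0, 0, 2, 1, 2, 0, 0, 2, 1, 2, 0, 0, 2, 1, 2, 0, 0, 2, 1, 2, 0, 0, 2, 1, 2], [1, 1, 1, 1, 1, 1, 1, 2, 0, 0, 0, 0, 0, 0, 2, 0, 0, 2, 1, 1, 1, 1, 1, 1, 1, 2, 0, 0, 0, 0, 0, 0, 2, 0, 0, 2, 1, 1, 1, 1, 1, 1, 1, 2, 0, 0, 0, 0, 0, 0, 2, 0, 0, 2, 1, 1, 1, 1, 1, 1, 1, 2, 0, 0, 0, 0, 0, 0, 2, 0, 0, 2, 1, 1, 1, 1, 1, 1, 1, 2, 0, 0, 0, 0, 0, 0, 2, 0, 0, 2, 1, 1, 1, 1, 1, 1, 1, 2, 0, 0, 0, 0, 0, 0, 2, 0,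 0, 2, 1, 1, 1, 1, 1, 1, 1, 2, 0, 0, 0, 0, 0, 0, 2, 0, 0, 2, 1, 1, 1, 1, 1, 1, 1, 2, 0, 0, 0, 0, 0, 0, 2, 0, 0, 2]]

/-- default entry -/
def RDd : List ℕ × (ℕ × ℕ) × (ℕ × ℕ) := ([], (0, 0), (0, 0))

/-- the entry of a representative -/
noncomputable def rdE (j : ℕ) : List ℕ × (ℕ × ℕ) × (ℕ × ℕ) :=
  withVal j (fun j => nthR (nthR RD (Nat.div j 128) []) (Nat.mod j 128) RDd)

/-- the word of a representative of the conjugates of the involution -/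
noncomputable def rrW (j : ℕ) : List ℕ := conjW ι (rdE j).1 [1]

/-- the word of a conjugate of the involution -/
noncomputable def clsW (i j : ℕ) : List ℕ := conjW ι [xi i] (rrW j)

theorem rrW_zero : rrW 0 = [1] := by decide +kernel

theorem REL_len : REL.length = 5 := by decide +kernel

theorem RD_lt : RD.all (fun blk => blk.all (fun d => ltB 24 d.1)) = true := by decide +kernel

theorem REL_ok : REL.all (fun w => eqW tabN BASE (expandW [2] [23] [1] w) []) = true := by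
  decide +kernel

/-- a relation fails at a point -/
noncomputable def candB (x x' j ρ p : ℕ) : Bool :=
  Nat.blt p 4600 && Nat.blt ρ 5 &&
    !(Nat.beq (evW tabN (expandW [x] [x'] (rrW j) (nthR REL ρ [])) p) p)

/-- the candidates are eliminated -/
noncomputable def candChk (j : ℕ) : Bool :=
  (bif Nat.beq (rdE j).2.1.1 999 then Nat.beq j 0
    else candB 2 23 j (rdE j).2.1.1 (rdE j).2.1.2) &&
  candB 6 19 j (rdE j).2.2.1 (rdE j).2.2.2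

theorem CAND_ok_0 : chunkB candChk 275 2475 0 = true := by decide +kernel
theorem CAND_ok_1 : chunkB candChk 275 2475 1 = true := by decide +kernel
theorem CAND_ok_2 : chunkB candChk 275 2475 2 = true := by decide +kernel
theorem CAND_ok_3 : chunkB candChk 275 2475 3 = true := by decide +kernel
theorem CAND_ok_4 : chunkB candChk 275 2475 4 = true := by decide +kernel
theorem CAND_ok_5 : chunkB candChk 275 2475 5 = true := by decide +kernel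
theorem CAND_ok_6 : chunkB candChk 275 2475 6 = true := by decide +kernel
theorem CAND_ok_7 : chunkB candChk 275 2475 7 = true := by decide +kernel
theorem CAND_ok_8 : chunkB candChk 275 2475 8 = true := by decide +kernel

theorem CAND_ok : ∀ j < 2475, candChk j = true := by
  apply all_of_chunks candChk 275 9 2475 (by norm_num) (by norm_num)
  intro k hk
  interval_cases k
  · exact CAND_ok_0
  · exact CAND_ok_1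
  · exact CAND_ok_2
  · exact CAND_ok_3
  · exact CAND_ok_4
  · exact CAND_ok_5
  · exact CAND_ok_6
  · exact CAND_ok_7
  · exact CAND_ok_8

end Cfsg.Agent.Lib.Helper9.Co2a
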