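import Cfsg.Agent.Lib.Helper9.Co2g
import Cfsg.Agent.Lib.Helper9.Co2n

set_option autoImplicit false
set_option maxRecDepth 100000

/-! The automorphisms of the permutation group of degree 4600: the conjugates of the involution
are the conjugates of 2475 of them under the powers of the element of order 23, relations of the
generating pair, elimination of the candidate images; all automorphisms are inner. -/

namespace Cfsg.Agent.Lib.Helper9.Co2a

open Cfsg.Agent.Lib.Helper8.SQ Cfsg.Agent.Lib.Helper8.SS Cfsg.Agent.Lib.Helper8.MatN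
  Cfsg.Agent.Lib.Helper8.FastDec Cfsg.Agent.Lib.Helper9.PW Cfsg.Agent.Lib.Helper9.OutI
  Cfsg.Agent.Lib.Helper9.J1O Cfsg.Agent.Lib.Helper9.GrpCount Cfsg.Agent.Lib.Helper9.OutG

/-- the element of order `23` in the group -/
noncomputable def x0K : ↥K := ⟨x0, x0_mem⟩

/-- the normalising element in the group -/
noncomputable def nnK : ↥K := ⟨nn, nn_mem⟩

theorem pair_top : Subgroup.closure ({x0K, r0K} : Set ↥K) = ⊤ := by
  apply closure_subtype_top
  have : (Subtype.val '' ({x0K, r0K} : Set ↥K)) = ({x0, r0} : Set (Equiv.Perm (Fin 4600))) := by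
    rw [Set.image_pair]
    rfl
  rw [this]
  rfl

/-! ### the conjugates of the involution -/

theorem nthR_mem_or {α : Type} (l : List α) (n : ℕ) (d : α) : nthR l n d ∈ l ∨ nthR l n d = d := by
  rw [nthR_eq]
  by_cases h : n < l.length
  · left
    rw [List.getD_eq_getElem _ _ h]
    exact List.getElem_mem h
  · right
    exact List.getD_eq_default _ _ (not_lt.mp h)

theorem rdE_lt (j : ℕ) : ∀ a ∈ (rdE j).1, a < 24 := by
  unfold rdE
  rw [withVal_eq]
  have h := RD_lt
  rw [List.all_eq_true] at h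
  rcases nthR_mem_or RD (Nat.div j 128) [] with h1 | h1
  · have h2 := h _ h1
    rw [List.all_eq_true] at h2
    rcases nthR_mem_or (nthR RD (Nat.div j 128) []) (Nat.mod j 128) RDd with h3 | h3
    · exact lt_of_ltB (h2 _ h3)
    · rw [h3]
      simp [RDd]
  · rw [h1]
    have : nthR ([] : List (List ℕ × (ℕ × ℕ) × (ℕ × ℕ))) (Nat.mod j 128) RDd = RDd := rfl
    rw [this]
    simp [RDd]

/-- the representatives of the conjugates, as permutations -/
noncomputable def rrP (j : ℕ) : Equiv.Perm (Fin 4600) := KW K tabN (rrW j)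

/-- the representatives of the conjugates -/
noncomputable def rr (j : ℕ) : ↥K := KWs K tabN (rrW j)

theorem rr_val (j : ℕ) : (rr j).1 = rrP j := rfl

theorem rrP_zero : rrP 0 = r0 := by
  unfold rrP
  rw [rrW_zero]
  exact kw_r0

theorem rr_zero : rr 0 = r0K := Subtype.ext rrP_zero

theorem kw_clsW {i : ℕ} (hi : i < 23) (j : ℕ) :
    KW K tabN (clsW i j) = x0 ^ i * rrP j * (x0 ^ i)⁻¹ := by
  unfold clsW
  rw [KW_conjW allReal inv_letter [xi i] (rrW j) (by
    intro k hk
    rw [List.mem_singleton] at hk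
    rw [hk]
    exact xi_lt hi), kw_xi i hi]
  rfl

theorem cc_spec {i j : ℕ} (hi : i < 23) (hj : j < 2475) :
    Nat.div (ccE j i) 32 < 2475 ∧ Nat.mod (ccE j i) 32 < 23 ∧
    (bif Nat.blt (ccE j i) (Nat.add (Nat.mul 32 j) i)
      then Nat.beq (ccE (Nat.div (ccE j i) 32) (Nat.mod (ccE j i) 32)) (Nat.add (Nat.mul 32 j) i)
      else eqW tabN BASE (1 :: (clsW i j ++ [1]))
        (clsW (Nat.mod (ccE j i) 32) (Nat.div (ccE j i) 32))) = true := by
  have h := CC_ok j hj
  unfold chkCC at h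
  rw [withVal_eq, allLt_iff] at h
  have h2 := h i hi
  rw [withVal_eq, Bool.and_eq_true, Bool.and_eq_true, Nat.blt_eq, Nat.blt_eq] at h2
  exact ⟨h2.1.1, h2.1.2, h2.2⟩

theorem conj_of_eqW {i j i' j' : ℕ} (hi : i < 23) (hi' : i' < 23)
    (he : eqW tabN BASE (1 :: (clsW i j ++ [1])) (clsW i' j') = true) :
    r0 * (x0 ^ i * rrP j * (x0 ^ i)⁻¹) * r0 = x0 ^ i' * rrP j' * (x0 ^ i')⁻¹ := by
  have h3 := kw_eq he
  have h4 : KW K tabN (1 :: (clsW i j ++ [1])) = r0 * KW K tabN (clsW i j) * r0 := by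
    rw [KW_cons allReal, KW_append allReal, kw_r0, mul_assoc]
  rw [h4, kw_clsW hi, kw_clsW hi'] at h3
  exact h3

theorem cc_table : ∀ j < 2475, ∀ i < 23, ccE j i / 32 < 2475 ∧ ccE j i % 32 < 23 ∧
    (ccE j i < 32 * j + i → ccE (ccE j i / 32) (ccE j i % 32) = 32 * j + i) ∧
    (¬ ccE j i < 32 * j + i → r0K * (x0K ^ i * rr j * (x0K ^ i)⁻¹) * r0K =
      x0K ^ (ccE j i % 32) * rr (ccE j i / 32) * (x0K ^ (ccE j i % 32))⁻¹) := by
  intro j hj i hi
  obtain ⟨hj', hi', he⟩ := cc_spec hi hj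
  refine ⟨hj', hi', ?_, ?_⟩
  · intro hlt
    have hb : Nat.blt (ccE j i) (Nat.add (Nat.mul 32 j) i) = true := by
      rw [Nat.blt_eq]
      exact hlt
    rw [hb, cond_true] at he
    exact Nat.eq_of_beq_eq_true he
  · intro hnlt
    have hb : Nat.blt (ccE j i) (Nat.add (Nat.mul 32 j) i) = false := by
      cases h : Nat.blt (ccE j i) (Nat.add (Nat.mul 32 j) i)
      · rfl
      · rw [Nat.blt_eq] at h
        exact absurd h hnlt
    rw [hb, cond_false] at he
    apply Subtype.ext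
    simp only [Subgroup.coe_mul, Subgroup.coe_inv, Subgroup.coe_pow]
    exact conj_of_eqW hi hi' he

theorem x0K_pow_23 : x0K ^ 23 = 1 := Subtype.ext (by
  rw [Subgroup.coe_pow]
  exact x0_pow_23)

theorem r0K_sq : r0K * r0K = 1 := Subtype.ext (by
  rw [Subgroup.coe_mul]
  exact r0_sq)

/-- every conjugate of the involution is in the list -/
theorem conj_list (g : ↥K) :
    ∃ i < 23, ∃ j < 2475, g * r0K * g⁻¹ = x0K ^ i * rr j * (x0K ^ i)⁻¹ :=
  conj_listed x0K_pow_23 r0K_sq pair_top (by norm_num) rr_zero ccE cc_table g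

/-! ### relations -/

theorem kw_inv_x : KW K tabN [23] = (KW K tabN [2])⁻¹ := by
  have h := inv_letter 2 (by norm_num)
  have e : ι 2 = 23 := rfl
  rw [e] at h
  exact eq_inv_of_mul_eq_one_left h

theorem kw_inv_x5 : KW K tabN [19] = (KW K tabN [6])⁻¹ := by
  have h := inv_letter 6 (by norm_num)
  have e : ι 6 = 19 := rfl
  rw [e] at h
  exact eq_inv_of_mul_eq_one_left h

theorem rel_base {ρ : List ℕ} (hρ : ρ ∈ REL) : evalG x0 r0 ρ = 1 := by
  have h := REL_ok
  rw [List.all_eq_true] at h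
  have h2 := kw_eq (h ρ hρ)
  rw [KW_expandW allReal [2] [23] [1] kw_inv_x, kw_x0, kw_r0, KW_nil allReal] at h2
  exact h2

theorem nthR_REL_mem {ρ : ℕ} (hρ : ρ < 5) : nthR REL ρ [] ∈ REL := by
  have h : ρ < REL.length := by rw [REL_len]; exact hρ
  rw [nthR_eq, List.getD_eq_getElem _ _ h]
  exact List.getElem_mem h

/-- a failing relation -/
theorem cand_false {x x' : ℕ} (hx : KW K tabN [x'] = (KW K tabN [x])⁻¹) (j ρ p : ℕ)
    (h : candB x x' j ρ p = true) :
    evalG (KW K tabN [x]) (rrP j) (nthR REL ρ []) ≠ 1 := by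
  intro he
  unfold candB at h
  rw [Bool.and_eq_true, Bool.and_eq_true] at h
  obtain ⟨⟨hp, -⟩, hne⟩ := h
  rw [Nat.blt_eq] at hp
  rw [Bool.not_eq_true', ← Bool.not_eq_true] at hne
  apply hne
  have h3 := KW_expandW allReal [x] [x'] (rrW j) hx (nthR REL ρ [])
  have h4 : KW K tabN (expandW [x] [x'] (rrW j) (nthR REL ρ [])) = 1 := by
    rw [h3]
    exact he
  have h5 := KW_apply allReal (expandW [x] [x'] (rrW j) (nthR REL ρ [])) hp
  rw [h4, gN_one] at h5
  rw [← h5]
  exact Nat.beq_refl _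

theorem candB_lt {x x' j ρ p : ℕ} (h : candB x x' j ρ p = true) : ρ < 5 := by
  unfold candB at h
  rw [Bool.and_eq_true, Bool.and_eq_true] at h
  have := h.1.2
  rwa [Nat.blt_eq] at this

theorem cand_elim (k0 : ℕ) (hk : k0 = 1 ∨ k0 = 5) (j : ℕ) (hj : j < 2475)
    (hrel : ∀ ρ ∈ REL, evalG (x0 ^ k0) (rrP j) ρ = 1) : k0 = 1 ∧ j = 0 := by
  have h := CAND_ok j hj
  unfold candChk at h
  rw [Bool.and_eq_true] at h
  obtain ⟨h1, h2⟩ := h
  have hx1 : KW K tabN [2] = x0 ^ 1 := by rw [pow_one]; exact kw_x0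
  have hx5 : KW K tabN [6] = x0 ^ 5 := kw_pow 4 (by norm_num)
  rcases hk with rfl | rfl
  · refine ⟨rfl, ?_⟩
    cases hm : Nat.beq (rdE j).2.1.1 999
    · exfalso
      rw [hm, cond_false] at h1
      have := cand_false kw_inv_x j _ _ h1
      rw [hx1] at this
      exact this (hrel _ (nthR_REL_mem (candB_lt h1)))
    · rw [hm, cond_true] at h1
      exact Nat.eq_of_beq_eq_true h1
  · exfalso
    have := cand_false kw_inv_x5 j _ _ h2
    rw [hx5] at this
    exact this (hrel _ (nthR_REL_mem (candB_lt h2)))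

/-! ### all automorphisms are inner -/

theorem card_K_fac : (Nat.card ↥K).factorization 23 = 1 := by
  rw [card_K]
  exact factorization_of_dvd 23 42305421312000 1 (by norm_num) (by norm_num) (by norm_num)
    (by norm_num)

theorem rel_K {ρ : List ℕ} (hρ : ρ ∈ REL) : evalG x0K r0K ρ = 1 := by
  apply Subtype.ext
  have := map_evalG K.subtype x0K r0K ρ
  exact this.trans (rel_base hρ)

/-- every automorphism is inner -/
theorem aut_inner (φ : ↥K ≃* ↥K) : ∃ k : ↥K, ∀ g : ↥K, φ g = k * g * k⁻¹ := by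
  have hx1 : x0K ≠ 1 := fun h => x0_ne_one (congrArg Subtype.val h)
  have hn : nnK * x0K * nnK⁻¹ = x0K ^ 2 := Subtype.ext (by
    rw [Subgroup.coe_mul, Subgroup.coe_mul, Subgroup.coe_inv, Subgroup.coe_pow]
    exact nn_conj)
  apply aut_inner_of_pair card_K_fac x0K r0K nnK x0K_pow_23 hx1 hn pair_top aut_r0 rr 2475
    rr_zero conj_list REL (fun ρ hρ => rel_K hρ)
  intro k0 hk0 j hj hrel
  apply cand_elim k0 hk0 j hj
  intro ρ hρ
  have h3 := map_evalG K.subtype (x0K ^ k0) (rr j) ρ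
  rw [hrel ρ hρ, map_one] at h3
  have e1 : K.subtype (x0K ^ k0) = x0 ^ k0 := by
    show ((x0K ^ k0 : ↥K) : Equiv.Perm (Fin 4600)) = _
    rw [Subgroup.coe_pow]
    rfl
  have e2 : K.subtype (rr j) = rrP j := rfl
  rw [e1, e2] at h3
  exact h3.symm

theorem card_out_K : Nat.card (Cfsg.Out ↥K) = 1 :=
  card_out_one aut_inner

end Cfsg.Agent.Lib.Helper9.Co2a
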