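import Cfsg.Agent.Lib.Helper9.LeechP8

set_option autoImplicit false

/-! Pairs consisting of a minimal vector and a vector of sum of squares 48 with inner
product `-16` form a single orbit: fusion of the classes. -/

namespace Cfsg.Agent.Lib.Helper9.LeechP9

open Cfsg Finset Cfsg.Agent.Lib.Helper4.Leech Cfsg.Agent.Lib.Helper9.Golay1
  Cfsg.Agent.Lib.Helper9.LeechM1 Cfsg.Agent.Lib.Helper9.LeechX4
  Cfsg.Agent.Lib.Helper9.LeechX5 Cfsg.Agent.Lib.Helper9.LeechX6
  Cfsg.Agent.Lib.Helper9.LeechX7 Cfsg.Agent.Lib.Helper9.LeechX8 Cfsg.Agent.Lib.Helper9.LeechX9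
  Cfsg.Agent.Lib.Helper9.LeechX10 Cfsg.Agent.Lib.Helper9.LeechX11
  Cfsg.Agent.Lib.Helper9.LeechP1 Cfsg.Agent.Lib.Helper9.LeechP2 Cfsg.Agent.Lib.Helper9.LeechP3
  Cfsg.Agent.Lib.Helper9.LeechP4 Cfsg.Agent.Lib.Helper9.LeechP5 Cfsg.Agent.Lib.Helper9.LeechP7
  Cfsg.Agent.Lib.Helper9.LeechP8
  Cfsg.Agent.Lib.Helper9.LeechC7
open Cfsg.Agent.Lib.Helper9.LeechC2 (fwd bwd par cl mem_lev')

def Lea : List ℤ := [-2, 2, 0, 0, 2, 2, 0, 0, 0, 0, 0, 0, 2, 2, 2, 2, 2, 2, 0, 0, 0, 2, 0, -2]
def Leb1 : List ℤ := [0, 2, 0, -2, 0, 0, 2, 2, 0, 0, 2, 0, 0, 0, 0, 0, 0, 0, 2, 0, 0, 2, 2, -4]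
def Leb2 : List ℤ := [-4, 2, 0, -2, 0, 0, 2, 2, 0, 0, 2, 0, 0, 0, 0, 0, 0, 0, 2, 0, 0, 2, 2, 0]
def Leb3 : List ℤ := [-2, 2, 0, 4, 0, -2, 0, 0, 0, 0, 2, 0, 2, 0, 0, 0, 2, 0, 0, 2, 0, 0, 0, -2]
def Lec1 : List ℤ := [-1, 1, 1, 3, 3, 1, -1, 1, 1, 1, 1, -1, -1, -1, 1, 1, -1, 1, -1, -1, -1, -1, 1, -3]
def Lec2 : List ℤ := [-3, 1, 1, -3, -3, -1, 1, -1, 1, 1, -1, -1, 1, 1, -1, -1, 1, -1, 1, -1, -1, -1, -1, -1]
def Led1 : List ℤ := [1, 1, 1, 1, 1, -1, 1, -1, 1, 1, -1, -1, 1, 1, -1, -1, 1, -1, 1, -1, -1, -1, -1, -5]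
def Led2 : List ℤ := [-5, 1, 1, -1, -1, 1, -1, 1, 1, 1, 1, -1, -1, -1, 1, 1, -1, 1, -1, -1, -1, -1, 1, 1]

theorem Lea_mem : vecL Lea ∈ leechLattice :=
  mem_of_data _ 0 10743859 (Or.inl rfl) (by decide +kernel) (by decide +kernel) (by decide +kernel)
theorem Leb1_mem : vecL Leb1 ∈ leechLattice :=
  mem_of_data _ 0 6554826 (Or.inl rfl) (by decide +kernel) (by decide +kernel) (by decide +kernel)
theorem Leb2_mem : vecL Leb2 ∈ leechLattice :=
  mem_of_data _ 0 6554826 (Or.inl rfl) (by decide +kernel) (by decide +kernel) (by decide +kernel)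
theorem Leb3_mem : vecL Leb3 ∈ leechLattice :=
  mem_of_data _ 0 8983587 (Or.inl rfl) (by decide +kernel) (by decide +kernel) (by decide +kernel)
theorem Lec1_mem : vecL Lec1 ∈ leechLattice :=
  mem_of_data _ 1 12765094 (Or.inr rfl) (by decide +kernel) (by decide +kernel) (by decide +kernel)
theorem Lec2_mem : vecL Lec2 ∈ leechLattice :=
  mem_of_data _ 1 340831 (Or.inr rfl) (by decide +kernel) (by decide +kernel) (by decide +kernel)
theorem Led1_mem : vecL Led1 ∈ leechLattice :=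
  mem_of_data _ 1 340831 (Or.inr rfl) (by decide +kernel) (by decide +kernel) (by decide +kernel)
theorem Led2_mem : vecL Led2 ∈ leechLattice :=
  mem_of_data _ 1 12765094 (Or.inr rfl) (by decide +kernel) (by decide +kernel) (by decide +kernel)

def ea : leechLattice := ⟨vecL Lea, Lea_mem⟩
def eb1 : leechLattice := ⟨vecL Leb1, Leb1_mem⟩
def eb2 : leechLattice := ⟨vecL Leb2, Leb2_mem⟩
def eb3 : leechLattice := ⟨vecL Leb3, Leb3_mem⟩
def ec1 : leechLattice := ⟨vecL Lec1, Lec1_mem⟩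
def ec2 : leechLattice := ⟨vecL Lec2, Lec2_mem⟩
def ed1 : leechLattice := ⟨vecL Led1, Led1_mem⟩
def ed2 : leechLattice := ⟨vecL Led2, Led2_mem⟩

/-- vectors of sum of squares 48 with entries `-1`, `-3` at the two standard points -/
theorem L1c2 (w w' : leechLattice) (hw : sqNorm w.1 = 48) (hw' : sqNorm w'.1 = 48)
    (hn : w.1 none = -1) (hn' : w'.1 none = -1) (h0 : w.1 (some 0) = -3)
    (h0' : w'.1 (some 0) = -3) : RelF w w' := by
  have key : ∀ x : leechLattice, sqNorm x.1 = 48 → x.1 none = -1 → x.1 (some 0) = -3 →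
      RelF x c2 := by
    intro x hx e1 e2
    rcases classify48 x hx (by rw [e1, e2]; norm_num) with ⟨a1, -⟩ | ⟨a1, -⟩ | ⟨a1, -⟩ |
      ⟨a1, -⟩ | ⟨a1, -⟩ | ⟨-, -, a3, a4, a5⟩ | ⟨a1, -⟩ | ⟨a1, -⟩
    · omega
    · omega
    · omega
    · omega
    · omega
    · exact nf_c x c2 (some 0) none (Or.inr ⟨rfl, rfl⟩) c2_abs (by decide +kernel) a4 a5
        (by rw [e2]; rfl) (by rw [e1]; rfl) (by rw [e1]; decide +kernel)
        (by rw [e2]; decide +kernel)
    · omega
    · omega
  exact (key w hw hn h0).trans (key w' hw' hn' h0').symm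

/-- every vector of sum of squares 48 with inner product `-16` with `(4, 4, 0, …)` is in the
orbit of `ec2` -/
theorem hub48 (w : leechLattice) (hw : sqNorm w.1 = 48) (hd : dotInt rA.1 w.1 = -16) :
    Rel2 rA w rA ec2 := by
  have hs : w.1 none + w.1 (some 0) = -4 := by
    rw [dot_rA] at hd; omega
  have link : ∀ e : leechLattice, sqNorm e.1 = 48 → dotInt rA.1 e.1 = -16 →
      dotInt r44.1 e.1 = -8 → Rel2 rA e rA ec2 := by
    intro e h1 h2 h3
    exact gen_pos' 48 (-1) (-3) L1c2 rA r44 e ec2 (by decide +kernel) (by decide +kernel)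
      (by decide +kernel) h1 (by decide +kernel) (by rw [h2]; norm_num) (by decide +kernel)
      (by rw [h3]; norm_num) (by decide +kernel)
  have fin : ∀ e : leechLattice, RelF w e → sqNorm e.1 = 48 → dotInt rA.1 e.1 = -16 →
      dotInt r44.1 e.1 = -8 → Rel2 rA w rA ec2 := by
    intro e h0 h1 h2 h3
    exact (h0.rel2 rA sup2_rA).trans (link e h1 h2 h3)
  rcases classify48 w hw hs with ⟨a1, a2, a3, a4, a5, a6⟩ | ⟨a1, a2, a3, a4, a5, a6, a7⟩ |
    ⟨a1, a2, a3, a4, a5, a6, a7⟩ | ⟨a1, a2, a3, a4, a5, a6, a7⟩ | ⟨a1, a2, a3, a4, a5⟩ |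
    ⟨a1, a2, a3, a4, a5⟩ | ⟨a1, a2, a3, a4, a5⟩ | ⟨a1, a2, a3, a4, a5⟩
  · refine fin ea ?_ (by decide +kernel) (by decide +kernel) (by decide +kernel)
    exact (nf_a0 w a3 a4 a5 a6 a1 a2).trans
      (nf_a0 ea (by decide +kernel) (by decide +kernel) (by decide +kernel) (by decide +kernel)
        (by decide +kernel) (by decide +kernel)).symm
  · refine fin eb1 ?_ (by decide +kernel) (by decide +kernel) (by decide +kernel)
    exact (nf_b12 w b1 none (some 0) (Or.inl ⟨rfl, rfl⟩) b1_abs fixb1 a3 a4 a5 a6 a7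
        (by rw [a1]; rfl) a2 (by rw [a1]; decide +kernel) (by rw [a2]; decide +kernel)).trans
      (nf_b12 eb1 b1 none (some 0) (Or.inl ⟨rfl, rfl⟩) b1_abs fixb1 (by decide +kernel)
        (by decide +kernel) (by decide +kernel) (by decide +kernel) (by decide +kernel)
        (by decide +kernel) (by decide +kernel) (by decide +kernel) (by decide +kernel)).symm
  · refine fin eb2 ?_ (by decide +kernel) (by decide +kernel) (by decide +kernel)
    exact (nf_b12 w b2 (some 0) none (Or.inr ⟨rfl, rfl⟩) b2_abs fixb2 a3 a4 a5 a6 a7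
        (by rw [a2]; rfl) a1 (by rw [a1]; decide +kernel) (by rw [a2]; decide +kernel)).trans
      (nf_b12 eb2 b2 (some 0) none (Or.inr ⟨rfl, rfl⟩) b2_abs fixb2 (by decide +kernel)
        (by decide +kernel) (by decide +kernel) (by decide +kernel) (by decide +kernel)
        (by decide +kernel) (by decide +kernel) (by decide +kernel) (by decide +kernel)).symm
  · refine fin eb3 ?_ (by decide +kernel) (by decide +kernel) (by decide +kernel)
    exact (nf_b3 w a3 a4 a5 a6 a7 a1 a2).trans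
      (nf_b3 eb3 (by decide +kernel) (by decide +kernel) (by decide +kernel) (by decide +kernel)
        (by decide +kernel) (by decide +kernel) (by decide +kernel)).symm
  · refine fin ec1 ?_ (by decide +kernel) (by decide +kernel) (by decide +kernel)
    exact (nf_c w c1 none (some 0) (Or.inl ⟨rfl, rfl⟩) c1_abs (by decide +kernel) a4 a5
        (by rw [a1]; rfl) (by rw [a2]; rfl) (by rw [a1]; decide +kernel)
        (by rw [a2]; decide +kernel)).trans
      (nf_c ec1 c1 none (some 0) (Or.inl ⟨rfl, rfl⟩) c1_abs (by decide +kernel)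
        (by decide +kernel) (by decide +kernel) (by decide +kernel) (by decide +kernel)
        (by decide +kernel) (by decide +kernel)).symm
  · exact (L1c2 w ec2 hw (by decide +kernel) a1 (by decide +kernel) a2
      (by decide +kernel)).rel2 rA sup2_rA
  · refine fin ed1 ?_ (by decide +kernel) (by decide +kernel) (by decide +kernel)
    refine sign_fix_odd_F w ed1 a3 (by decide +kernel) (fun i => ?_)
      (by rw [a1]; decide +kernel) (by rw [a2]; decide +kernel)
    rw [odd_abs5 w none a4 a5 (by rw [a1]; rfl) i]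
    revert i
    decide +kernel
  · refine fin ed2 ?_ (by decide +kernel) (by decide +kernel) (by decide +kernel)
    refine sign_fix_odd_F w ed2 a3 (by decide +kernel) (fun i => ?_)
      (by rw [a1]; decide +kernel) (by rw [a2]; decide +kernel)
    rw [odd_abs5 w (some 0) a4 a5 (by rw [a2]; rfl) i]
    revert i
    decide +kernel

/-- the pairs `(x, u)` with `x` minimal, `u` of sum of squares 48 and inner product `-16` form a
single orbit -/
theorem pairs48 (x u x' u' : leechLattice) (hx : sqNorm x.1 = 32) (hu : sqNorm u.1 = 48)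
    (hx' : sqNorm x'.1 = 32) (hu' : sqNorm u'.1 = 48) (hd : dotInt x.1 u.1 = -16)
    (hd' : dotInt x'.1 u'.1 = -16) : Rel2 x u x' u' := by
  have key : ∀ x u : leechLattice, sqNorm x.1 = 32 → sqNorm u.1 = 48 → dotInt x.1 u.1 = -16 →
      Rel2 x u rA ec2 := by
    intro x u hx hu hd
    obtain ⟨k, hk, hkx⟩ := trans32 x rA hx (by decide +kernel)
    have h1 : Rel2 x u rA (k u) := ⟨k, hk, hkx, rfl⟩
    refine h1.trans (hub48 (k u) (by rw [hk.2, hu]) ?_)
    rw [← hkx, dot_pres k hk]; exact hd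
  exact (key x u hx hu hd).trans (key x' u' hx' hu' hd').symm

theorem dot_comm' (a b : GolayPt → ℤ) : dotInt a b = dotInt b a := by
  unfold dotInt
  exact Finset.sum_congr rfl (fun i _ => mul_comm _ _)

/-- the stabiliser of a vector `u` of sum of squares 48 is transitive on the minimal vectors
with inner product `-16` with `u` -/
theorem co3_trans16 (u x x' : leechLattice) (hu : sqNorm u.1 = 48) (hx : sqNorm x.1 = 32)
    (hx' : sqNorm x'.1 = 32) (hd : dotInt u.1 x.1 = -16) (hd' : dotInt u.1 x'.1 = -16) :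
    Rel2 u x u x' := by
  obtain ⟨g, hg, h1, h2⟩ := pairs48 x u x' u hx hu hx' hu (by rw [dot_comm']; exact hd)
    (by rw [dot_comm']; exact hd')
  exact ⟨g, hg, h2, h1⟩

/-- two vectors of sum of squares 48 with inner product `-32` are exchanged by an automorphism -/
theorem hs_swap (v w : leechLattice) (hv : sqNorm v.1 = 48) (hw : sqNorm w.1 = 48)
    (hd : dotInt v.1 w.1 = -32) : Rel2 v w w v := by
  have hz : sqNorm (-(v + w)).1 = 32 := by
    show sqNorm (-(v.1 + w.1)) = 32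
    rw [sqNorm_neg, sqNorm_add, hv, hw, hd]; norm_num
  have dneg : ∀ a b : GolayPt → ℤ, dotInt (-a) b = -dotInt a b := by
    intro a b
    unfold dotInt
    rw [← Finset.sum_neg_distrib]
    exact Finset.sum_congr rfl (fun i _ => by simp)
  have dadd : ∀ a b c : GolayPt → ℤ, dotInt (a + b) c = dotInt a c + dotInt b c := by
    intro a b c
    unfold dotInt
    rw [← Finset.sum_add_distrib]
    exact Finset.sum_congr rfl (fun i _ => by simp only [Pi.add_apply]; ring)
  have dself : ∀ a : GolayPt → ℤ, dotInt a a = sqNorm a := by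
    intro a
    unfold dotInt sqNorm
    exact Finset.sum_congr rfl (fun i _ => by ring)
  have h1 : dotInt (-(v + w)).1 v.1 = -16 := by
    show dotInt (-(v.1 + w.1)) v.1 = -16
    rw [dneg, dadd, dself, hv, dot_comm' w.1 v.1, hd]; norm_num
  have h2 : dotInt (-(v + w)).1 w.1 = -16 := by
    show dotInt (-(v.1 + w.1)) w.1 = -16
    rw [dneg, dadd, dself, hw, hd]; norm_num
  obtain ⟨g, hg, g1, g2⟩ := pairs48 (-(v + w)) v (-(v + w)) w hz hv hz hw h1 h2
  refine ⟨g, hg, g2, ?_⟩
  -- `g` fixes `v + w`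
  have gneg : ∀ y : leechLattice, g (-y) = -g y := by
    intro y
    have e := hg.1 y (-y)
    rw [add_neg_cancel] at e
    have e0 : g 0 = 0 := by
      have := hg.1 0 0
      rw [add_zero] at this
      exact left_eq_add.mp this
    rw [e0] at e
    exact (neg_eq_of_add_eq_zero_right e.symm).symm
  have g3 : g (v + w) = v + w := by
    have := gneg (v + w)
    rw [g1] at this
    exact neg_injective this.symm
  rw [hg.1, g2] at g3
  have : g w = v + w - w := by rw [← g3]; abel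
  rw [this]; abel

end Cfsg.Agent.Lib.Helper9.LeechP9
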