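import Cfsg.Agent.Lib.Helper9.OrbCert2

set_option autoImplicit false

/-! Orbit certificates cut into pieces: each piece is a search from a root that occurs in an
earlier piece; the check of distinctness is cut into pieces too. -/

namespace Cfsg.Agent.Lib.Helper9.OrbCert5

open Cfsg Cfsg.Agent.Lib.Helper9.OrbCert0 Cfsg.Agent.Lib.Helper9.OrbCert1
  Cfsg.Agent.Lib.Helper9.OrbCert2

/-- membership test -/
def memB : List ℕ → ℕ → Bool
  | [], _ => false
  | a :: l, c => Nat.beq a c || memB l c

theorem memB_sound : ∀ (l : List ℕ) (c : ℕ), memB l c = true → c ∈ l := by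
  intro l
  induction l with
  | nil => intro c h; simp [memB] at h
  | cons a l ih =>
    intro c h
    unfold memB at h
    rw [Bool.or_eq_true] at h
    rcases h with h | h
    · have h' : a = c := Nat.eq_of_beq_eq_true h
      rw [h']; exact List.mem_cons_self
    · exact List.mem_cons_of_mem _ (ih c h)

/-- the codes of the entries -/
def ecodes (E : List ℕ) : List ℕ := E.map (Nat.shiftRight · 24)

/-- the pieces are checked, each root occurring before -/
def PiecesOK (stepOK : ℕ → ℕ → ℕ → Bool) : List ℕ → List (ℕ × List ℕ) → Prop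
  | _, [] => True
  | known, p :: ps => memB known p.1 = true ∧ chk stepOK (p.1 :: ecodes p.2) 1 p.2 = true ∧
      PiecesOK stepOK (ecodes p.2 ++ known) ps

theorem PiecesOK.nil (stepOK : ℕ → ℕ → ℕ → Bool) (known : List ℕ) :
    PiecesOK stepOK known [] := trivial

theorem PiecesOK.cons (stepOK : ℕ → ℕ → ℕ → Bool) (known : List ℕ) (q : ℕ) (E : List ℕ)
    (ps : List (ℕ × List ℕ)) (h1 : memB known q = true)
    (h2 : chk stepOK (q :: ecodes E) 1 E = true)
    (h3 : PiecesOK stepOK (ecodes E ++ known) ps) : PiecesOK stepOK known ((q, E) :: ps) :=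
  ⟨h1, h2, h3⟩

/-- the codes of a block cut into pieces -/
def pcodes (c0 : ℕ) (ps : List (ℕ × List ℕ)) : List ℕ :=
  c0 :: (ps.map (fun p => ecodes p.2)).flatten

variable {Good : Equiv.Perm leechLattice → Prop}

theorem pieces_sound (stepOK : ℕ → ℕ → ℕ → Bool)
    (good_mul : ∀ a b, Good a → Good b → Good (a * b))
    (hok : ∀ g p c, stepOK g p c = true → ∃ n, Good n ∧ ∃ F : Fn,
      (∀ v : leechLattice, (n v).1 = F v.1) ∧ F (vecN p) = vecN c)
    (r : leechLattice) :
    ∀ (ps : List (ℕ × List ℕ)) (known : List ℕ), (∀ x ∈ known, InOrb Good r x) →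
      PiecesOK stepOK known ps → ∀ p ∈ ps, ∀ x ∈ ecodes p.2, InOrb Good r x := by
  intro ps
  induction ps with
  | nil => intro known _ _ p hp; simp at hp
  | cons p ps ih =>
    intro known hk hP p' hp' x hx
    obtain ⟨h1, h2, h3⟩ := hP
    have hroot : InOrb Good r p.1 := hk _ (memB_sound _ _ h1)
    have hall : ∀ y ∈ ecodes p.2, InOrb Good r y := by
      intro y hy
      unfold ecodes at hy
      rw [List.mem_map] at hy
      obtain ⟨e, he, rfl⟩ := hy
      exact chk_sound stepOK (InOrb Good r) (hstep stepOK good_mul hok r) p.2 [p.1] 1 rfl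
        (fun y hy => by rw [List.mem_singleton] at hy; rw [hy]; exact hroot) h2 e he
    rw [List.mem_cons] at hp'
    rcases hp' with rfl | hp'
    · exact hall x hx
    · refine ih (ecodes p.2 ++ known) ?_ h3 p' hp' x hx
      intro y hy
      rw [List.mem_append] at hy
      rcases hy with hy | hy
      · exact hall y hy
      · exact hk y hy

theorem pieces_inorb (stepOK : ℕ → ℕ → ℕ → Bool) (good_one : Good 1)
    (good_mul : ∀ a b, Good a → Good b → Good (a * b))
    (hok : ∀ g p c, stepOK g p c = true → ∃ n, Good n ∧ ∃ F : Fn,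
      (∀ v : leechLattice, (n v).1 = F v.1) ∧ F (vecN p) = vecN c)
    (r : leechLattice) (c0 : ℕ) (hr : r.1 = vecN c0) (ps : List (ℕ × List ℕ))
    (h : PiecesOK stepOK [c0] ps) : ∀ x ∈ pcodes c0 ps, InOrb Good r x := by
  have hroot : InOrb Good r c0 := ⟨1, good_one, hr⟩
  intro x hx
  unfold pcodes at hx
  rw [List.mem_cons] at hx
  rcases hx with rfl | hx
  · exact hroot
  · rw [List.mem_flatten] at hx
    obtain ⟨l, hl, hxl⟩ := hx
    rw [List.mem_map] at hl
    obtain ⟨p, hp, rfl⟩ := hl
    exact pieces_sound stepOK good_mul hok r ps [c0]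
      (fun y hy => by rw [List.mem_singleton] at hy; rw [hy]; exact hroot) h p hp x hxl

/-! ### distinctness in pieces -/

theorem idxChk_append (T : BT) : ∀ (l1 l2 : List ℕ) (i : ℕ), idxChk T l1 i = true →
    idxChk T l2 (i + l1.length) = true → idxChk T (l1 ++ l2) i = true := by
  intro l1
  induction l1 with
  | nil => intro l2 i _ h2; simpa using h2
  | cons c cs ih =>
    intro l2 i h1 h2
    unfold idxChk at h1
    simp only [Bool.and_eq_true] at h1
    rw [List.cons_append]
    unfold idxChk
    simp only [Bool.and_eq_true]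
    refine ⟨h1.1, ih l2 (i + 1) h1.2 ?_⟩
    rw [List.length_cons] at h2
    rw [show i + 1 + cs.length = i + (cs.length + 1) by omega]
    exact h2

/-- the lists, with their lengths, are checked with the right offsets -/
def IdxOK (T : BT) : List (List ℕ × ℕ) → ℕ → Prop
  | [], _ => True
  | q :: ls, i => idxChk T q.1 i = true ∧ q.1.length = q.2 ∧ IdxOK T ls (i + q.2)

theorem IdxOK.nil (T : BT) (i : ℕ) : IdxOK T [] i := trivial

theorem IdxOK.cons (T : BT) (l : List ℕ) (n : ℕ) (ls : List (List ℕ × ℕ)) (i j : ℕ)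
    (h1 : idxChk T l i = true) (h2 : l.length = n) (hj : i + n = j) (h3 : IdxOK T ls j) :
    IdxOK T ((l, n) :: ls) i :=
  ⟨h1, h2, hj ▸ h3⟩

theorem IdxOK_sound (T : BT) : ∀ (L : List (List ℕ × ℕ)) (i : ℕ), IdxOK T L i →
    idxChk T (L.map Prod.fst).flatten i = true := by
  intro L
  induction L with
  | nil => intro i _; rfl
  | cons q ls ih =>
    intro i h
    obtain ⟨h1, h2, h3⟩ := h
    rw [List.map_cons, List.flatten_cons]
    apply idxChk_append T _ _ i h1
    rw [h2]
    exact ih _ h3

theorem IdxOK_length (T : BT) : ∀ (L : List (List ℕ × ℕ)) (i : ℕ), IdxOK T L i →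
    (L.map Prod.fst).flatten.length = (L.map Prod.snd).sum := by
  intro L
  induction L with
  | nil => intro i _; rfl
  | cons q ls ih =>
    intro i h
    obtain ⟨-, h2, h3⟩ := h
    rw [List.map_cons, List.flatten_cons, List.length_append, h2, ih _ h3, List.map_cons,
      List.sum_cons]

end Cfsg.Agent.Lib.Helper9.OrbCert5
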