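import Cfsg.Agent.Lib.Helper9.Co2orba
import Cfsg.Agent.Lib.Helper9.Co2orbb0
import Cfsg.Agent.Lib.Helper9.OrbCert5

set_option autoImplicit false

/-! The checks of the certificates for the 47104 vectors. -/

namespace Cfsg.Agent.Lib.Helper9.Co2orbd0

open Cfsg Cfsg.Agent.Lib.Helper9.OrbCert0 Cfsg.Agent.Lib.Helper9.OrbCert1
  Cfsg.Agent.Lib.Helper9.OrbCert2 Cfsg.Agent.Lib.Helper9.OrbCert5
  Cfsg.Agent.Lib.Helper9.Co2orba Cfsg.Agent.Lib.Helper9.Co2orbb0

set_option maxRecDepth 10000000 in
theorem cert0 : chk stepOK (q0 :: ecodes E0) 1 E0 = true := by decide +kernel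

set_option maxRecDepth 10000000 in
theorem cert1 : chk stepOK (q1 :: ecodes E1) 1 E1 = true := by decide +kernel

set_option maxRecDepth 10000000 in
theorem cert2 : chk stepOK (q2 :: ecodes E2) 1 E2 = true := by decide +kernel

set_option maxRecDepth 10000000 in
theorem cert3 : chk stepOK (q3 :: ecodes E3) 1 E3 = true := by decide +kernel

set_option maxRecDepth 10000000 in
theorem cert4 : chk stepOK (q4 :: ecodes E4) 1 E4 = true := by decide +kernel

set_option maxRecDepth 10000000 in
theorem cert5 : chk stepOK (q5 :: ecodes E5) 1 E5 = true := by decide +kernel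

set_option maxRecDepth 10000000 in
theorem cert6 : chk stepOK (q6 :: ecodes E6) 1 E6 = true := by decide +kernel

set_option maxRecDepth 10000000 in
theorem cert7 : chk stepOK (q7 :: ecodes E7) 1 E7 = true := by decide +kernel

set_option maxRecDepth 10000000 in
theorem cert8 : chk stepOK (q8 :: ecodes E8) 1 E8 = true := by decide +kernel

end Cfsg.Agent.Lib.Helper9.Co2orbd0
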