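import Cfsg.Agent.Lib.Helper9.Co2orba
import Cfsg.Agent.Lib.Helper9.Co2orbb1
import Cfsg.Agent.Lib.Helper9.OrbCert5

set_option autoImplicit false

/-! The checks of the certificates for the 47104 vectors. -/

namespace Cfsg.Agent.Lib.Helper9.Co2orbd1

open Cfsg Cfsg.Agent.Lib.Helper9.OrbCert0 Cfsg.Agent.Lib.Helper9.OrbCert1
  Cfsg.Agent.Lib.Helper9.OrbCert2 Cfsg.Agent.Lib.Helper9.OrbCert5
  Cfsg.Agent.Lib.Helper9.Co2orba Cfsg.Agent.Lib.Helper9.Co2orbb1

set_option maxRecDepth 10000000 in
theorem cert9 : chk stepOK (q9 :: ecodes E9) 1 E9 = true := by decide +kernel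

set_option maxRecDepth 10000000 in
theorem cert10 : chk stepOK (q10 :: ecodes E10) 1 E10 = true := by decide +kernel

set_option maxRecDepth 10000000 in
theorem cert11 : chk stepOK (q11 :: ecodes E11) 1 E11 = true := by decide +kernel

set_option maxRecDepth 10000000 in
theorem cert12 : chk stepOK (q12 :: ecodes E12) 1 E12 = true := by decide +kernel

set_option maxRecDepth 10000000 in
theorem cert13 : chk stepOK (q13 :: ecodes E13) 1 E13 = true := by decide +kernel

set_option maxRecDepth 10000000 in
theorem cert14 : chk stepOK (q14 :: ecodes E14) 1 E14 = true := by decide +kernel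

set_option maxRecDepth 10000000 in
theorem cert15 : chk stepOK (q15 :: ecodes E15) 1 E15 = true := by decide +kernel

end Cfsg.Agent.Lib.Helper9.Co2orbd1
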