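import Cfsg.Agent.Lib.Helper9.Co2orba
import Cfsg.Agent.Lib.Helper9.Co2orbb2
import Cfsg.Agent.Lib.Helper9.OrbCert5

set_option autoImplicit false

/-! The checks of the certificates for the 47104 vectors. -/

namespace Cfsg.Agent.Lib.Helper9.Co2orbd2

open Cfsg Cfsg.Agent.Lib.Helper9.OrbCert0 Cfsg.Agent.Lib.Helper9.OrbCert1
  Cfsg.Agent.Lib.Helper9.OrbCert2 Cfsg.Agent.Lib.Helper9.OrbCert5
  Cfsg.Agent.Lib.Helper9.Co2orba Cfsg.Agent.Lib.Helper9.Co2orbb2

set_option maxRecDepth 10000000 in
theorem cert16 : chk stepOK (q16 :: ecodes E16) 1 E16 = true := by decide +kernel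

set_option maxRecDepth 10000000 in
theorem cert17 : chk stepOK (q17 :: ecodes E17) 1 E17 = true := by decide +kernel

set_option maxRecDepth 10000000 in
theorem cert18 : chk stepOK (q18 :: ecodes E18) 1 E18 = true := by decide +kernel

set_option maxRecDepth 10000000 in
theorem cert19 : chk stepOK (q19 :: ecodes E19) 1 E19 = true := by decide +kernel

set_option maxRecDepth 10000000 in
theorem cert20 : chk stepOK (q20 :: ecodes E20) 1 E20 = true := by decide +kernel

set_option maxRecDepth 10000000 in
theorem cert21 : chk stepOK (q21 :: ecodes E21) 1 E21 = true := by decide +kernel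

set_option maxRecDepth 10000000 in
theorem cert22 : chk stepOK (q22 :: ecodes E22) 1 E22 = true := by decide +kernel

set_option maxRecDepth 10000000 in
theorem cert23 : chk stepOK (q23 :: ecodes E23) 1 E23 = true := by decide +kernel

end Cfsg.Agent.Lib.Helper9.Co2orbd2
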