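import Cfsg.Agent.Lib.Helper9.Co2orba
import Cfsg.Agent.Lib.Helper9.Co2orbb3
import Cfsg.Agent.Lib.Helper9.OrbCert5

set_option autoImplicit false

/-! The checks of the certificates for the 47104 vectors. -/

namespace Cfsg.Agent.Lib.Helper9.Co2orbd3

open Cfsg Cfsg.Agent.Lib.Helper9.OrbCert0 Cfsg.Agent.Lib.Helper9.OrbCert1
  Cfsg.Agent.Lib.Helper9.OrbCert2 Cfsg.Agent.Lib.Helper9.OrbCert5
  Cfsg.Agent.Lib.Helper9.Co2orba Cfsg.Agent.Lib.Helper9.Co2orbb3

set_option maxRecDepth 10000000 in
theorem cert24 : chk stepOK (q24 :: ecodes E24) 1 E24 = true := by decide +kernel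

set_option maxRecDepth 10000000 in
theorem cert25 : chk stepOK (q25 :: ecodes E25) 1 E25 = true := by decide +kernel

set_option maxRecDepth 10000000 in
theorem cert26 : chk stepOK (q26 :: ecodes E26) 1 E26 = true := by decide +kernel

set_option maxRecDepth 10000000 in
theorem cert27 : chk stepOK (q27 :: ecodes E27) 1 E27 = true := by decide +kernel

set_option maxRecDepth 10000000 in
theorem cert28 : chk stepOK (q28 :: ecodes E28) 1 E28 = true := by decide +kernel

set_option maxRecDepth 10000000 in
theorem cert29 : chk stepOK (q29 :: ecodes E29) 1 E29 = true := by decide +kernel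

set_option maxRecDepth 10000000 in
theorem cert30 : chk stepOK (q30 :: ecodes E30) 1 E30 = true := by decide +kernel

set_option maxRecDepth 10000000 in
theorem cert31 : chk stepOK (q31 :: ecodes E31) 1 E31 = true := by decide +kernel

end Cfsg.Agent.Lib.Helper9.Co2orbd3
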