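import Cfsg.Agent.Lib.Helper9.Co2orba
import Cfsg.Agent.Lib.Helper9.Co2orbb4
import Cfsg.Agent.Lib.Helper9.OrbCert5

set_option autoImplicit false

/-! The checks of the certificates for the 47104 vectors. -/

namespace Cfsg.Agent.Lib.Helper9.Co2orbd4

open Cfsg Cfsg.Agent.Lib.Helper9.OrbCert0 Cfsg.Agent.Lib.Helper9.OrbCert1
  Cfsg.Agent.Lib.Helper9.OrbCert2 Cfsg.Agent.Lib.Helper9.OrbCert5
  Cfsg.Agent.Lib.Helper9.Co2orba Cfsg.Agent.Lib.Helper9.Co2orbb4

set_option maxRecDepth 10000000 in
theorem cert32 : chk stepOK (q32 :: ecodes E32) 1 E32 = true := by decide +kernel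

set_option maxRecDepth 10000000 in
theorem cert33 : chk stepOK (q33 :: ecodes E33) 1 E33 = true := by decide +kernel

set_option maxRecDepth 10000000 in
theorem cert34 : chk stepOK (q34 :: ecodes E34) 1 E34 = true := by decide +kernel

set_option maxRecDepth 10000000 in
theorem cert35 : chk stepOK (q35 :: ecodes E35) 1 E35 = true := by decide +kernel

set_option maxRecDepth 10000000 in
theorem cert36 : chk stepOK (q36 :: ecodes E36) 1 E36 = true := by decide +kernel

set_option maxRecDepth 10000000 in
theorem cert37 : chk stepOK (q37 :: ecodes E37) 1 E37 = true := by decide +kernel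

end Cfsg.Agent.Lib.Helper9.Co2orbd4
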