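import Cfsg.Agent.Lib.Helper9.Co2orba
import Cfsg.Agent.Lib.Helper9.Co2orbb5
import Cfsg.Agent.Lib.Helper9.OrbCert5

set_option autoImplicit false

/-! The checks of the certificates for the 47104 vectors. -/

namespace Cfsg.Agent.Lib.Helper9.Co2orbd5

open Cfsg Cfsg.Agent.Lib.Helper9.OrbCert0 Cfsg.Agent.Lib.Helper9.OrbCert1
  Cfsg.Agent.Lib.Helper9.OrbCert2 Cfsg.Agent.Lib.Helper9.OrbCert5
  Cfsg.Agent.Lib.Helper9.Co2orba Cfsg.Agent.Lib.Helper9.Co2orbb5

set_option maxRecDepth 10000000 in
theorem cert38 : chk stepOK (q38 :: ecodes E38) 1 E38 = true := by decide +kernel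

set_option maxRecDepth 10000000 in
theorem cert39 : chk stepOK (q39 :: ecodes E39) 1 E39 = true := by decide +kernel

set_option maxRecDepth 10000000 in
theorem cert40 : chk stepOK (q40 :: ecodes E40) 1 E40 = true := by decide +kernel

set_option maxRecDepth 10000000 in
theorem cert41 : chk stepOK (q41 :: ecodes E41) 1 E41 = true := by decide +kernel

set_option maxRecDepth 10000000 in
theorem cert42 : chk stepOK (q42 :: ecodes E42) 1 E42 = true := by decide +kernel

set_option maxRecDepth 10000000 in
theorem cert43 : chk stepOK (q43 :: ecodes E43) 1 E43 = true := by decide +kernel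

set_option maxRecDepth 10000000 in
theorem cert44 : chk stepOK (q44 :: ecodes E44) 1 E44 = true := by decide +kernel

set_option maxRecDepth 10000000 in
theorem cert45 : chk stepOK (q45 :: ecodes E45) 1 E45 = true := by decide +kernel

end Cfsg.Agent.Lib.Helper9.Co2orbd5
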