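import Cfsg.Agent.Lib.Helper9.Co2orba
import Cfsg.Agent.Lib.Helper9.Co2orbb6
import Cfsg.Agent.Lib.Helper9.OrbCert5

set_option autoImplicit false

/-! The checks of the certificates for the 47104 vectors. -/

namespace Cfsg.Agent.Lib.Helper9.Co2orbd6

open Cfsg Cfsg.Agent.Lib.Helper9.OrbCert0 Cfsg.Agent.Lib.Helper9.OrbCert1
  Cfsg.Agent.Lib.Helper9.OrbCert2 Cfsg.Agent.Lib.Helper9.OrbCert5
  Cfsg.Agent.Lib.Helper9.Co2orba Cfsg.Agent.Lib.Helper9.Co2orbb6

set_option maxRecDepth 10000000 in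
theorem cert46 : chk stepOK (q46 :: ecodes E46) 1 E46 = true := by decide +kernel

set_option maxRecDepth 10000000 in
theorem cert47 : chk stepOK (q47 :: ecodes E47) 1 E47 = true := by decide +kernel

end Cfsg.Agent.Lib.Helper9.Co2orbd6
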