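import Cfsg.Agent.Lib.Helper9.Co2orbb0
import Cfsg.Agent.Lib.Helper9.Co2orbc
import Cfsg.Agent.Lib.Helper9.OrbCert5

set_option autoImplicit false

/-! The checks of distinctness for the 47104 vectors. -/

namespace Cfsg.Agent.Lib.Helper9.Co2orbi0

open Cfsg Cfsg.Agent.Lib.Helper9.OrbCert0 Cfsg.Agent.Lib.Helper9.OrbCert1
  Cfsg.Agent.Lib.Helper9.OrbCert5
  Cfsg.Agent.Lib.Helper9.Co2orbb0 Cfsg.Agent.Lib.Helper9.Co2orbc

set_option maxRecDepth 10000000 in
theorem idx0 : idxChk T (ecodes E0) 2 = true := by decide +kernel

set_option maxRecDepth 10000000 in
theorem len0 : (ecodes E0).length = 274 := by decide +kernel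

set_option maxRecDepth 10000000 in
theorem idx1 : idxChk T (ecodes E1) 277 = true := by decide +kernel

set_option maxRecDepth 10000000 in
theorem len1 : (ecodes E1).length = 620 := by decide +kernel

set_option maxRecDepth 10000000 in
theorem idx2 : idxChk T (ecodes E2) 897 = true := by decide +kernel

set_option maxRecDepth 10000000 in
theorem len2 : (ecodes E2).length = 1052 := by decide +kernel

set_option maxRecDepth 10000000 in
theorem idx3 : idxChk T (ecodes E3) 1949 = true := by decide +kernel

set_option maxRecDepth 10000000 in
theorem len3 : (ecodes E3).length = 858 := by decide +kernel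

set_option maxRecDepth 10000000 in
theorem idx4 : idxChk T (ecodes E4) 2807 = true := by decide +kernel

set_option maxRecDepth 10000000 in
theorem len4 : (ecodes E4).length = 908 := by decide +kernel

set_option maxRecDepth 10000000 in
theorem idx5 : idxChk T (ecodes E5) 3715 = true := by decide +kernel

set_option maxRecDepth 10000000 in
theorem len5 : (ecodes E5).length = 1263 := by decide +kernel

set_option maxRecDepth 10000000 in
theorem idx6 : idxChk T (ecodes E6) 4978 = true := by decide +kernel

set_option maxRecDepth 10000000 in
theorem len6 : (ecodes E6).length = 838 := by decide +kernel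

set_option maxRecDepth 10000000 in
theorem idx7 : idxChk T (ecodes E7) 5816 = true := by decide +kernel

set_option maxRecDepth 10000000 in
theorem len7 : (ecodes E7).length = 888 := by decide +kernel

set_option maxRecDepth 10000000 in
theorem idx8 : idxChk T (ecodes E8) 6704 = true := by decide +kernel

set_option maxRecDepth 10000000 in
theorem len8 : (ecodes E8).length = 700 := by decide +kernel

end Cfsg.Agent.Lib.Helper9.Co2orbi0
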