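import Cfsg.Agent.Lib.Helper9.Co2orbb1
import Cfsg.Agent.Lib.Helper9.Co2orbc
import Cfsg.Agent.Lib.Helper9.OrbCert5

set_option autoImplicit false

/-! The checks of distinctness for the 47104 vectors. -/

namespace Cfsg.Agent.Lib.Helper9.Co2orbi1

open Cfsg Cfsg.Agent.Lib.Helper9.OrbCert0 Cfsg.Agent.Lib.Helper9.OrbCert1
  Cfsg.Agent.Lib.Helper9.OrbCert5
  Cfsg.Agent.Lib.Helper9.Co2orbb1 Cfsg.Agent.Lib.Helper9.Co2orbc

set_option maxRecDepth 10000000 in
theorem idx9 : idxChk T (ecodes E9) 7405 = true := by decide +kernel

set_option maxRecDepth 10000000 in
theorem len9 : (ecodes E9).length = 1227 := by decide +kernel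

set_option maxRecDepth 10000000 in
theorem idx10 : idxChk T (ecodes E10) 8632 = true := by decide +kernel

set_option maxRecDepth 10000000 in
theorem len10 : (ecodes E10).length = 1337 := by decide +kernel

set_option maxRecDepth 10000000 in
theorem idx11 : idxChk T (ecodes E11) 9969 = true := by decide +kernel

set_option maxRecDepth 10000000 in
theorem len11 : (ecodes E11).length = 1292 := by decide +kernel

set_option maxRecDepth 10000000 in
theorem idx12 : idxChk T (ecodes E12) 11261 = true := by decide +kernel

set_option maxRecDepth 10000000 in
theorem len12 : (ecodes E12).length = 903 := by decide +kernel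

set_option maxRecDepth 10000000 in
theorem idx13 : idxChk T (ecodes E13) 12164 = true := by decide +kernel

set_option maxRecDepth 10000000 in
theorem len13 : (ecodes E13).length = 1043 := by decide +kernel

set_option maxRecDepth 10000000 in
theorem idx14 : idxChk T (ecodes E14) 13207 = true := by decide +kernel

set_option maxRecDepth 10000000 in
theorem len14 : (ecodes E14).length = 906 := by decide +kernel

set_option maxRecDepth 10000000 in
theorem idx15 : idxChk T (ecodes E15) 14113 = true := by decide +kernel

set_option maxRecDepth 10000000 in
theorem len15 : (ecodes E15).length = 818 := by decide +kernel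

end Cfsg.Agent.Lib.Helper9.Co2orbi1
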