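import Cfsg.Agent.Lib.Helper9.Co2orbb2
import Cfsg.Agent.Lib.Helper9.Co2orbc
import Cfsg.Agent.Lib.Helper9.OrbCert5

set_option autoImplicit false

/-! The checks of distinctness for the 47104 vectors. -/

namespace Cfsg.Agent.Lib.Helper9.Co2orbi2

open Cfsg Cfsg.Agent.Lib.Helper9.OrbCert0 Cfsg.Agent.Lib.Helper9.OrbCert1
  Cfsg.Agent.Lib.Helper9.OrbCert5
  Cfsg.Agent.Lib.Helper9.Co2orbb2 Cfsg.Agent.Lib.Helper9.Co2orbc

set_option maxRecDepth 10000000 in
theorem idx16 : idxChk T (ecodes E16) 14931 = true := by decide +kernel

set_option maxRecDepth 10000000 in
theorem len16 : (ecodes E16).length = 805 := by decide +kernel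

set_option maxRecDepth 10000000 in
theorem idx17 : idxChk T (ecodes E17) 15736 = true := by decide +kernel

set_option maxRecDepth 10000000 in
theorem len17 : (ecodes E17).length = 1349 := by decide +kernel

set_option maxRecDepth 10000000 in
theorem idx18 : idxChk T (ecodes E18) 17085 = true := by decide +kernel

set_option maxRecDepth 10000000 in
theorem len18 : (ecodes E18).length = 821 := by decide +kernel

set_option maxRecDepth 10000000 in
theorem idx19 : idxChk T (ecodes E19) 17906 = true := by decide +kernel

set_option maxRecDepth 10000000 in
theorem len19 : (ecodes E19).length = 1231 := by decide +kernel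

set_option maxRecDepth 10000000 in
theorem idx20 : idxChk T (ecodes E20) 19137 = true := by decide +kernel

set_option maxRecDepth 10000000 in
theorem len20 : (ecodes E20).length = 973 := by decide +kernel

set_option maxRecDepth 10000000 in
theorem idx21 : idxChk T (ecodes E21) 20110 = true := by decide +kernel

set_option maxRecDepth 10000000 in
theorem len21 : (ecodes E21).length = 855 := by decide +kernel

set_option maxRecDepth 10000000 in
theorem idx22 : idxChk T (ecodes E22) 20965 = true := by decide +kernel

set_option maxRecDepth 10000000 in
theorem len22 : (ecodes E22).length = 982 := by decide +kernel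

set_option maxRecDepth 10000000 in
theorem idx23 : idxChk T (ecodes E23) 21947 = true := by decide +kernel

set_option maxRecDepth 10000000 in
theorem len23 : (ecodes E23).length = 938 := by decide +kernel

end Cfsg.Agent.Lib.Helper9.Co2orbi2
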