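import Cfsg.Agent.Lib.Helper9.Co2orbb3
import Cfsg.Agent.Lib.Helper9.Co2orbc
import Cfsg.Agent.Lib.Helper9.OrbCert5

set_option autoImplicit false

/-! The checks of distinctness for the 47104 vectors. -/

namespace Cfsg.Agent.Lib.Helper9.Co2orbi3

open Cfsg Cfsg.Agent.Lib.Helper9.OrbCert0 Cfsg.Agent.Lib.Helper9.OrbCert1
  Cfsg.Agent.Lib.Helper9.OrbCert5
  Cfsg.Agent.Lib.Helper9.Co2orbb3 Cfsg.Agent.Lib.Helper9.Co2orbc

set_option maxRecDepth 10000000 in
theorem idx24 : idxChk T (ecodes E24) 22885 = true := by decide +kernel

set_option maxRecDepth 10000000 in
theorem len24 : (ecodes E24).length = 716 := by decide +kernel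

set_option maxRecDepth 10000000 in
theorem idx25 : idxChk T (ecodes E25) 23601 = true := by decide +kernel

set_option maxRecDepth 10000000 in
theorem len25 : (ecodes E25).length = 837 := by decide +kernel

set_option maxRecDepth 10000000 in
theorem idx26 : idxChk T (ecodes E26) 24438 = true := by decide +kernel

set_option maxRecDepth 10000000 in
theorem len26 : (ecodes E26).length = 818 := by decide +kernel

set_option maxRecDepth 10000000 in
theorem idx27 : idxChk T (ecodes E27) 25256 = true := by decide +kernel

set_option maxRecDepth 10000000 in
theorem len27 : (ecodes E27).length = 734 := by decide +kernel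

set_option maxRecDepth 10000000 in
theorem idx28 : idxChk T (ecodes E28) 25990 = true := by decide +kernel

set_option maxRecDepth 10000000 in
theorem len28 : (ecodes E28).length = 1244 := by decide +kernel

set_option maxRecDepth 10000000 in
theorem idx29 : idxChk T (ecodes E29) 27234 = true := by decide +kernel

set_option maxRecDepth 10000000 in
theorem len29 : (ecodes E29).length = 956 := by decide +kernel

set_option maxRecDepth 10000000 in
theorem idx30 : idxChk T (ecodes E30) 28190 = true := by decide +kernel

set_option maxRecDepth 10000000 in
theorem len30 : (ecodes E30).length = 749 := by decide +kernel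

set_option maxRecDepth 10000000 in
theorem idx31 : idxChk T (ecodes E31) 28939 = true := by decide +kernel

set_option maxRecDepth 10000000 in
theorem len31 : (ecodes E31).length = 740 := by decide +kernel

end Cfsg.Agent.Lib.Helper9.Co2orbi3
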