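import Cfsg.Agent.Lib.Helper9.Co2orbb4
import Cfsg.Agent.Lib.Helper9.Co2orbc
import Cfsg.Agent.Lib.Helper9.OrbCert5

set_option autoImplicit false

/-! The checks of distinctness for the 47104 vectors. -/

namespace Cfsg.Agent.Lib.Helper9.Co2orbi4

open Cfsg Cfsg.Agent.Lib.Helper9.OrbCert0 Cfsg.Agent.Lib.Helper9.OrbCert1
  Cfsg.Agent.Lib.Helper9.OrbCert5
  Cfsg.Agent.Lib.Helper9.Co2orbb4 Cfsg.Agent.Lib.Helper9.Co2orbc

set_option maxRecDepth 10000000 in
theorem idx32 : idxChk T (ecodes E32) 29680 = true := by decide +kernel

set_option maxRecDepth 10000000 in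
theorem len32 : (ecodes E32).length = 1758 := by decide +kernel

set_option maxRecDepth 10000000 in
theorem idx33 : idxChk T (ecodes E33) 31438 = true := by decide +kernel

set_option maxRecDepth 10000000 in
theorem len33 : (ecodes E33).length = 727 := by decide +kernel

set_option maxRecDepth 10000000 in
theorem idx34 : idxChk T (ecodes E34) 32165 = true := by decide +kernel

set_option maxRecDepth 10000000 in
theorem len34 : (ecodes E34).length = 1257 := by decide +kernel

set_option maxRecDepth 10000000 in
theorem idx35 : idxChk T (ecodes E35) 33422 = true := by decide +kernel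

set_option maxRecDepth 10000000 in
theorem len35 : (ecodes E35).length = 1059 := by decide +kernel

set_option maxRecDepth 10000000 in
theorem idx36 : idxChk T (ecodes E36) 34481 = true := by decide +kernel

set_option maxRecDepth 10000000 in
theorem len36 : (ecodes E36).length = 1317 := by decide +kernel

set_option maxRecDepth 10000000 in
theorem idx37 : idxChk T (ecodes E37) 35798 = true := by decide +kernel

set_option maxRecDepth 10000000 in
theorem len37 : (ecodes E37).length = 1287 := by decide +kernel

end Cfsg.Agent.Lib.Helper9.Co2orbi4
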