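import Cfsg.Agent.Lib.Helper9.Co2orbb6
import Cfsg.Agent.Lib.Helper9.Co2orbc
import Cfsg.Agent.Lib.Helper9.OrbCert5

set_option autoImplicit false

/-! The checks of distinctness for the 47104 vectors. -/

namespace Cfsg.Agent.Lib.Helper9.Co2orbi6

open Cfsg Cfsg.Agent.Lib.Helper9.OrbCert0 Cfsg.Agent.Lib.Helper9.OrbCert1
  Cfsg.Agent.Lib.Helper9.OrbCert5
  Cfsg.Agent.Lib.Helper9.Co2orbb6 Cfsg.Agent.Lib.Helper9.Co2orbc

set_option maxRecDepth 10000000 in
theorem idx46 : idxChk T (ecodes E46) 45080 = true := by decide +kernel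

set_option maxRecDepth 10000000 in
theorem len46 : (ecodes E46).length = 964 := by decide +kernel

set_option maxRecDepth 10000000 in
theorem idx47 : idxChk T (ecodes E47) 46044 = true := by decide +kernel

set_option maxRecDepth 10000000 in
theorem len47 : (ecodes E47).length = 1060 := by decide +kernel

end Cfsg.Agent.Lib.Helper9.Co2orbi6
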