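import Cfsg.Agent.Lib.Helper9.Co2orbd0
import Cfsg.Agent.Lib.Helper9.Co2orbi0
import Cfsg.Agent.Lib.Helper9.Co2orbd1
import Cfsg.Agent.Lib.Helper9.Co2orbi1
import Cfsg.Agent.Lib.Helper9.Co2orbd2
import Cfsg.Agent.Lib.Helper9.Co2orbi2
import Cfsg.Agent.Lib.Helper9.Co2orbd3
import Cfsg.Agent.Lib.Helper9.Co2orbi3
import Cfsg.Agent.Lib.Helper9.Co2orbd4
import Cfsg.Agent.Lib.Helper9.Co2orbi4
import Cfsg.Agent.Lib.Helper9.Co2orbd5
import Cfsg.Agent.Lib.Helper9.Co2orbi5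
import Cfsg.Agent.Lib.Helper9.Co2orbd6
import Cfsg.Agent.Lib.Helper9.Co2orbi6

set_option autoImplicit false

/-! The certificates for the 47104 vectors, put together. -/

namespace Cfsg.Agent.Lib.Helper9.Co2orbf

open Cfsg Cfsg.Agent.Lib.Helper4.Leech Cfsg.Agent.Lib.Helper9.LeechX7
  Cfsg.Agent.Lib.Helper9.OrbCert0 Cfsg.Agent.Lib.Helper9.OrbCert1
  Cfsg.Agent.Lib.Helper9.OrbCert2 Cfsg.Agent.Lib.Helper9.OrbCert5
  Cfsg.Agent.Lib.Helper9.Co2orba Cfsg.Agent.Lib.Helper9.Co2orbc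
  Cfsg.Agent.Lib.Helper9.Co2orbb0 Cfsg.Agent.Lib.Helper9.Co2orbd0 Cfsg.Agent.Lib.Helper9.Co2orbi0 Cfsg.Agent.Lib.Helper9.Co2orbb1 Cfsg.Agent.Lib.Helper9.Co2orbd1 Cfsg.Agent.Lib.Helper9.Co2orbi1 Cfsg.Agent.Lib.Helper9.Co2orbb2 Cfsg.Agent.Lib.Helper9.Co2orbd2 Cfsg.Agent.Lib.Helper9.Co2orbi2 Cfsg.Agent.Lib.Helper9.Co2orbb3 Cfsg.Agent.Lib.Helper9.Co2orbd3 Cfsg.Agent.Lib.Helper9.Co2orbi3 Cfsg.Agent.Lib.Helper9.Co2orbb4 Cfsg.Agent.Lib.Helper9.Co2orbd4 Cfsg.Agent.Lib.Helper9.Co2orbi4 Cfsg.Agent.Lib.Helper9.Co2orbb5 Cfsg.Agent.Lib.Helper9.Co2orbd5 Cfsg.Agent.Lib.Helper9.Co2orbi5 Cfsg.Agent.Lib.Helper9.Co2orbb6 Cfsg.Agent.Lib.Helper9.Co2orbd6 Cfsg.Agent.Lib.Helper9.Co2orbi6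

theorem rm16_mem : vecN q0 ∈ leechLattice :=
  mem_of_data _ 0 12656663 (Or.inl rfl) (by decide +kernel) (by decide +kernel) (by decide +kernel)

/-- the root of a block -/
def ym16 : leechLattice := ⟨vecN q0, rm16_mem⟩

/-- the pieces of a block -/
def pieces_m16 : List (ℕ × List ℕ) :=
  [(q0, E0)]

set_option maxRecDepth 10000000 in
theorem mem0 : memB [q0] q0 = true := by decide +kernel

theorem ok_m16 : PiecesOK stepOK [q0] pieces_m16 :=
  PiecesOK.cons stepOK [q0] q0 E0 _ (mem0) cert0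
    (PiecesOK.nil stepOK (ecodes E0 ++ [q0]))

/-- the codes of a block -/
def codes_m16 : List ℕ := pcodes q0 pieces_m16

theorem len_m16 : codes_m16.length = 275 := by
  simp only [codes_m16, pcodes, pieces_m16, List.map_cons, List.map_nil, List.flatten_cons, List.flatten_nil,
    List.length_cons, List.length_append, List.length_nil, len0]

theorem inorb_m16 : ∀ x ∈ codes_m16, InOrb Good ym16 x :=
  pieces_inorb stepOK good_one good_mul hok ym16 q0 rfl pieces_m16 ok_m16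

theorem rm8_mem : vecN q1 ∈ leechLattice :=
  mem_of_data _ 1 2422785 (Or.inr rfl) (by decide +kernel) (by decide +kernel) (by decide +kernel)

/-- the root of a block -/
def ym8 : leechLattice := ⟨vecN q1, rm8_mem⟩

/-- the pieces of a block -/
def pieces_m8 : List (ℕ × List ℕ) :=
  [(q1, E1), (q2, E2), (q3, E3), (q4, E4), (q5, E5), (q6, E6), (q7, E7), (q8, E8)]

set_option maxRecDepth 10000000 in
theorem mem1 : memB [q1] q1 = true := by decide +kernel

set_option maxRecDepth 10000000 in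
theorem mem2 : memB (ecodes E1 ++ [q1]) q2 = true := by decide +kernel

set_option maxRecDepth 10000000 in
theorem mem3 : memB (ecodes E2 ++ (ecodes E1 ++ [q1])) q3 = true := by decide +kernel

set_option maxRecDepth 10000000 in
theorem mem4 : memB (ecodes E3 ++ (ecodes E2 ++ (ecodes E1 ++ [q1]))) q4 = true := by decide +kernel

set_option maxRecDepth 10000000 in
theorem mem5 : memB (ecodes E4 ++ (ecodes E3 ++ (ecodes E2 ++ (ecodes E1 ++ [q1])))) q5 = true := by decide +kernel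

set_option maxRecDepth 10000000 in
theorem mem6 : memB (ecodes E5 ++ (ecodes E4 ++ (ecodes E3 ++ (ecodes E2 ++ (ecodes E1 ++ [q1]))))) q6 = true := by decide +kernel

set_option maxRecDepth 10000000 in
theorem mem7 : memB (ecodes E6 ++ (ecodes E5 ++ (ecodes E4 ++ (ecodes E3 ++ (ecodes E2 ++ (ecodes E1 ++ [q1])))))) q7 = true := by decide +kernel

set_option maxRecDepth 10000000 in
theorem mem8 : memB (ecodes E7 ++ (ecodes E6 ++ (ecodes E5 ++ (ecodes E4 ++ (ecodes E3 ++ (ecodes E2 ++ (ecodes E1 ++ [q1]))))))) q8 = true := by decide +kernel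

theorem ok_m8 : PiecesOK stepOK [q1] pieces_m8 :=
  PiecesOK.cons stepOK [q1] q1 E1 _ (mem1) cert1
    (PiecesOK.cons stepOK (ecodes E1 ++ [q1]) q2 E2 _ (mem2) cert2
    (PiecesOK.cons stepOK (ecodes E2 ++ (ecodes E1 ++ [q1])) q3 E3 _ (mem3) cert3
    (PiecesOK.cons stepOK (ecodes E3 ++ (ecodes E2 ++ (ecodes E1 ++ [q1]))) q4 E4 _ (mem4) cert4
    (PiecesOK.cons stepOK (ecodes E4 ++ (ecodes E3 ++ (ecodes E2 ++ (ecodes E1 ++ [q1])))) q5 E5 _ (mem5) cert5
    (PiecesOK.cons stepOK (ecodes E5 ++ (ecodes E4 ++ (ecodes E3 ++ (ecodes E2 ++ (ecodes E1 ++ [q1]))))) q6 E6 _ (mem6) cert6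
    (PiecesOK.cons stepOK (ecodes E6 ++ (ecodes E5 ++ (ecodes E4 ++ (ecodes E3 ++ (ecodes E2 ++ (ecodes E1 ++ [q1])))))) q7 E7 _ (mem7) cert7
    (PiecesOK.cons stepOK (ecodes E7 ++ (ecodes E6 ++ (ecodes E5 ++ (ecodes E4 ++ (ecodes E3 ++ (ecodes E2 ++ (ecodes E1 ++ [q1]))))))) q8 E8 _ (mem8) cert8
    (PiecesOK.nil stepOK (ecodes E8 ++ (ecodes E7 ++ (ecodes E6 ++ (ecodes E5 ++ (ecodes E4 ++ (ecodes E3 ++ (ecodes E2 ++ (ecodes E1 ++ [q1]))))))))))))))))

/-- the codes of a block -/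
def codes_m8 : List ℕ := pcodes q1 pieces_m8

theorem len_m8 : codes_m8.length = 7128 := by
  simp only [codes_m8, pcodes, pieces_m8, List.map_cons, List.map_nil, List.flatten_cons, List.flatten_nil,
    List.length_cons, List.length_append, List.length_nil, len1, len2, len3, len4, len5, len6, len7, len8]

theorem inorb_m8 : ∀ x ∈ codes_m8, InOrb Good ym8 x :=
  pieces_inorb stepOK good_one good_mul hok ym8 q1 rfl pieces_m8 ok_m8

theorem rp0_mem : vecN q9 ∈ leechLattice :=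
  mem_of_data _ 1 6273537 (Or.inr rfl) (by decide +kernel) (by decide +kernel) (by decide +kernel)

/-- the root of a block -/
def yp0 : leechLattice := ⟨vecN q9, rp0_mem⟩

/-- the pieces of a block -/
def pieces_p0 : List (ℕ × List ℕ) :=
  [(q9, E9), (q10, E10), (q11, E11), (q12, E12), (q13, E13), (q14, E14), (q15, E15), (q16, E16), (q17, E17), (q18, E18), (q19, E19), (q20, E20), (q21, E21), (q22, E22), (q23, E23), (q24, E24), (q25, E25), (q26, E26), (q27, E27), (q28, E28), (q29, E29), (q30, E30), (q31, E31)]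

set_option maxRecDepth 10000000 in
theorem mem9 : memB [q9] q9 = true := by decide +kernel

set_option maxRecDepth 10000000 in
theorem mem10 : memB (ecodes E9 ++ [q9]) q10 = true := by decide +kernel

set_option maxRecDepth 10000000 in
theorem mem11 : memB (ecodes E10 ++ (ecodes E9 ++ [q9])) q11 = true := by decide +kernel

set_option maxRecDepth 10000000 in
theorem mem12 : memB (ecodes E11 ++ (ecodes E10 ++ (ecodes E9 ++ [q9]))) q12 = true := by decide +kernel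

set_option maxRecDepth 10000000 in
theorem mem13 : memB (ecodes E12 ++ (ecodes E11 ++ (ecodes E10 ++ (ecodes E9 ++ [q9])))) q13 = true := by decide +kernel

set_option maxRecDepth 10000000 in
theorem mem14 : memB (ecodes E13 ++ (ecodes E12 ++ (ecodes E11 ++ (ecodes E10 ++ (ecodes E9 ++ [q9]))))) q14 = true := by decide +kernel

set_option maxRecDepth 10000000 in
theorem mem15 : memB (ecodes E14 ++ (ecodes E13 ++ (ecodes E12 ++ (ecodes E11 ++ (ecodes E10 ++ (ecodes E9 ++ [q9])))))) q15 = true := by decide +kernel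

set_option maxRecDepth 10000000 in
theorem mem16 : memB (ecodes E15 ++ (ecodes E14 ++ (ecodes E13 ++ (ecodes E12 ++ (ecodes E11 ++ (ecodes E10 ++ (ecodes E9 ++ [q9]))))))) q16 = true := by decide +kernel

set_option maxRecDepth 10000000 in
theorem mem17 : memB (ecodes E16 ++ (ecodes E15 ++ (ecodes E14 ++ (ecodes E13 ++ (ecodes E12 ++ (ecodes E11 ++ (ecodes E10 ++ (ecodes E9 ++ [q9])))))))) q17 = true := by decide +kernel

set_option maxRecDepth 10000000 in
theorem mem18 : memB (ecodes E17 ++ (ecodes E16 ++ (ecodes E15 ++ (ecodes E14 ++ (ecodes E13 ++ (ecodes E12 ++ (ecodes E11 ++ (ecodes E10 ++ (ecodes E9 ++ [q9]))))))))) q18 = true := by decide +kernel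

set_option maxRecDepth 10000000 in
theorem mem19 : memB (ecodes E18 ++ (ecodes E17 ++ (ecodes E16 ++ (ecodes E15 ++ (ecodes E14 ++ (ecodes E13 ++ (ecodes E12 ++ (ecodes E11 ++ (ecodes E10 ++ (ecodes E9 ++ [q9])))))))))) q19 = true := by decide +kernel

set_option maxRecDepth 10000000 in
theorem mem20 : memB (ecodes E19 ++ (ecodes E18 ++ (ecodes E17 ++ (ecodes E16 ++ (ecodes E15 ++ (ecodes E14 ++ (ecodes E13 ++ (ecodes E12 ++ (ecodes E11 ++ (ecodes E10 ++ (ecodes E9 ++ [q9]))))))))))) q20 = true := by decide +kernel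

set_option maxRecDepth 10000000 in
theorem mem21 : memB (ecodes E20 ++ (ecodes E19 ++ (ecodes E18 ++ (ecodes E17 ++ (ecodes E16 ++ (ecodes E15 ++ (ecodes E14 ++ (ecodes E13 ++ (ecodes E12 ++ (ecodes E11 ++ (ecodes E10 ++ (ecodes E9 ++ [q9])))))))))))) q21 = true := by decide +kernel

set_option maxRecDepth 10000000 in
theorem mem22 : memB (ecodes E21 ++ (ecodes E20 ++ (ecodes E19 ++ (ecodes E18 ++ (ecodes E17 ++ (ecodes E16 ++ (ecodes E15 ++ (ecodes E14 ++ (ecodes E13 ++ (ecodes E12 ++ (ecodes E11 ++ (ecodes E10 ++ (ecodes E9 ++ [q9]))))))))))))) q22 = true := by decide +kernel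

set_option maxRecDepth 10000000 in
theorem mem23 : memB (ecodes E22 ++ (ecodes E21 ++ (ecodes E20 ++ (ecodes E19 ++ (ecodes E18 ++ (ecodes E17 ++ (ecodes E16 ++ (ecodes E15 ++ (ecodes E14 ++ (ecodes E13 ++ (ecodes E12 ++ (ecodes E11 ++ (ecodes E10 ++ (ecodes E9 ++ [q9])))))))))))))) q23 = true := by decide +kernel

set_option maxRecDepth 10000000 in
theorem mem24 : memB (ecodes E23 ++ (ecodes E22 ++ (ecodes E21 ++ (ecodes E20 ++ (ecodes E19 ++ (ecodes E18 ++ (ecodes E17 ++ (ecodes E16 ++ (ecodes E15 ++ (ecodes E14 ++ (ecodes E13 ++ (ecodes E12 ++ (ecodes E11 ++ (ecodes E10 ++ (ecodes E9 ++ [q9]))))))))))))))) q24 = true := by decide +kernel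

set_option maxRecDepth 10000000 in
theorem mem25 : memB (ecodes E24 ++ (ecodes E23 ++ (ecodes E22 ++ (ecodes E21 ++ (ecodes E20 ++ (ecodes E19 ++ (ecodes E18 ++ (ecodes E17 ++ (ecodes E16 ++ (ecodes E15 ++ (ecodes E14 ++ (ecodes E13 ++ (ecodes E12 ++ (ecodes E11 ++ (ecodes E10 ++ (ecodes E9 ++ [q9])))))))))))))))) q25 = true := by decide +kernel

set_option maxRecDepth 10000000 in
theorem mem26 : memB (ecodes E25 ++ (ecodes E24 ++ (ecodes E23 ++ (ecodes E22 ++ (ecodes E21 ++ (ecodes E20 ++ (ecodes E19 ++ (ecodes E18 ++ (ecodes E17 ++ (ecodes E16 ++ (ecodes E15 ++ (ecodes E14 ++ (ecodes E13 ++ (ecodes E12 ++ (ecodes E11 ++ (ecodes E10 ++ (ecodes E9 ++ [q9]))))))))))))))))) q26 = true := by decide +kernel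

set_option maxRecDepth 10000000 in
theorem mem27 : memB (ecodes E26 ++ (ecodes E25 ++ (ecodes E24 ++ (ecodes E23 ++ (ecodes E22 ++ (ecodes E21 ++ (ecodes E20 ++ (ecodes E19 ++ (ecodes E18 ++ (ecodes E17 ++ (ecodes E16 ++ (ecodes E15 ++ (ecodes E14 ++ (ecodes E13 ++ (ecodes E12 ++ (ecodes E11 ++ (ecodes E10 ++ (ecodes E9 ++ [q9])))))))))))))))))) q27 = true := by decide +kernel

set_option maxRecDepth 10000000 in
theorem mem28 : memB (ecodes E27 ++ (ecodes E26 ++ (ecodes E25 ++ (ecodes E24 ++ (ecodes E23 ++ (ecodes E22 ++ (ecodes E21 ++ (ecodes E20 ++ (ecodes E19 ++ (ecodes E18 ++ (ecodes E17 ++ (ecodes E16 ++ (ecodes E15 ++ (ecodes E14 ++ (ecodes E13 ++ (ecodes E12 ++ (ecodes E11 ++ (ecodes E10 ++ (ecodes E9 ++ [q9]))))))))))))))))))) q28 = true := by decide +kernel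

set_option maxRecDepth 10000000 in
theorem mem29 : memB (ecodes E28 ++ (ecodes E27 ++ (ecodes E26 ++ (ecodes E25 ++ (ecodes E24 ++ (ecodes E23 ++ (ecodes E22 ++ (ecodes E21 ++ (ecodes E20 ++ (ecodes E19 ++ (ecodes E18 ++ (ecodes E17 ++ (ecodes E16 ++ (ecodes E15 ++ (ecodes E14 ++ (ecodes E13 ++ (ecodes E12 ++ (ecodes E11 ++ (ecodes E10 ++ (ecodes E9 ++ [q9])))))))))))))))))))) q29 = true := by decide +kernel

set_option maxRecDepth 10000000 in
theorem mem30 : memB (ecodes E29 ++ (ecodes E28 ++ (ecodes E27 ++ (ecodes E26 ++ (ecodes E25 ++ (ecodes E24 ++ (ecodes E23 ++ (ecodes E22 ++ (ecodes E21 ++ (ecodes E20 ++ (ecodes E19 ++ (ecodes E18 ++ (ecodes E17 ++ (ecodes E16 ++ (ecodes E15 ++ (ecodes E14 ++ (ecodes E13 ++ (ecodes E12 ++ (ecodes E11 ++ (ecodes E10 ++ (ecodes E9 ++ [q9]))))))))))))))))))))) q30 = true := by decide +kernel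

set_option maxRecDepth 10000000 in
theorem mem31 : memB (ecodes E30 ++ (ecodes E29 ++ (ecodes E28 ++ (ecodes E27 ++ (ecodes E26 ++ (ecodes E25 ++ (ecodes E24 ++ (ecodes E23 ++ (ecodes E22 ++ (ecodes E21 ++ (ecodes E20 ++ (ecodes E19 ++ (ecodes E18 ++ (ecodes E17 ++ (ecodes E16 ++ (ecodes E15 ++ (ecodes E14 ++ (ecodes E13 ++ (ecodes E12 ++ (ecodes E11 ++ (ecodes E10 ++ (ecodes E9 ++ [q9])))))))))))))))))))))) q31 = true := by decide +kernel

theorem ok_p0 : PiecesOK stepOK [q9] pieces_p0 :=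
  PiecesOK.cons stepOK [q9] q9 E9 _ (mem9) cert9
    (PiecesOK.cons stepOK (ecodes E9 ++ [q9]) q10 E10 _ (mem10) cert10
    (PiecesOK.cons stepOK (ecodes E10 ++ (ecodes E9 ++ [q9])) q11 E11 _ (mem11) cert11
    (PiecesOK.cons stepOK (ecodes E11 ++ (ecodes E10 ++ (ecodes E9 ++ [q9]))) q12 E12 _ (mem12) cert12
    (PiecesOK.cons stepOK (ecodes E12 ++ (ecodes E11 ++ (ecodes E10 ++ (ecodes E9 ++ [q9])))) q13 E13 _ (mem13) cert13
    (PiecesOK.cons stepOK (ecodes E13 ++ (ecodes E12 ++ (ecodes E11 ++ (ecodes E10 ++ (ecodes E9 ++ [q9]))))) q14 E14 _ (mem14) cert14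
    (PiecesOK.cons stepOK (ecodes E14 ++ (ecodes E13 ++ (ecodes E12 ++ (ecodes E11 ++ (ecodes E10 ++ (ecodes E9 ++ [q9])))))) q15 E15 _ (mem15) cert15
    (PiecesOK.cons stepOK (ecodes E15 ++ (ecodes E14 ++ (ecodes E13 ++ (ecodes E12 ++ (ecodes E11 ++ (ecodes E10 ++ (ecodes E9 ++ [q9]))))))) q16 E16 _ (mem16) cert16
    (PiecesOK.cons stepOK (ecodes E16 ++ (ecodes E15 ++ (ecodes E14 ++ (ecodes E13 ++ (ecodes E12 ++ (ecodes E11 ++ (ecodes E10 ++ (ecodes E9 ++ [q9])))))))) q17 E17 _ (mem17) cert17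
    (PiecesOK.cons stepOK (ecodes E17 ++ (ecodes E16 ++ (ecodes E15 ++ (ecodes E14 ++ (ecodes E13 ++ (ecodes E12 ++ (ecodes E11 ++ (ecodes E10 ++ (ecodes E9 ++ [q9]))))))))) q18 E18 _ (mem18) cert18
    (PiecesOK.cons stepOK (ecodes E18 ++ (ecodes E17 ++ (ecodes E16 ++ (ecodes E15 ++ (ecodes E14 ++ (ecodes E13 ++ (ecodes E12 ++ (ecodes E11 ++ (ecodes E10 ++ (ecodes E9 ++ [q9])))))))))) q19 E19 _ (mem19) cert19
    (PiecesOK.cons stepOK (ecodes E19 ++ (ecodes E18 ++ (ecodes E17 ++ (ecodes E16 ++ (ecodes E15 ++ (ecodes E14 ++ (ecodes E13 ++ (ecodes E12 ++ (ecodes E11 ++ (ecodes E10 ++ (ecodes E9 ++ [q9]))))))))))) q20 E20 _ (mem20) cert20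
    (PiecesOK.cons stepOK (ecodes E20 ++ (ecodes E19 ++ (ecodes E18 ++ (ecodes E17 ++ (ecodes E16 ++ (ecodes E15 ++ (ecodes E14 ++ (ecodes E13 ++ (ecodes E12 ++ (ecodes E11 ++ (ecodes E10 ++ (ecodes E9 ++ [q9])))))))))))) q21 E21 _ (mem21) cert21
    (PiecesOK.cons stepOK (ecodes E21 ++ (ecodes E20 ++ (ecodes E19 ++ (ecodes E18 ++ (ecodes E17 ++ (ecodes E16 ++ (ecodes E15 ++ (ecodes E14 ++ (ecodes E13 ++ (ecodes E12 ++ (ecodes E11 ++ (ecodes E10 ++ (ecodes E9 ++ [q9]))))))))))))) q22 E22 _ (mem22) cert22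
    (PiecesOK.cons stepOK (ecodes E22 ++ (ecodes E21 ++ (ecodes E20 ++ (ecodes E19 ++ (ecodes E18 ++ (ecodes E17 ++ (ecodes E16 ++ (ecodes E15 ++ (ecodes E14 ++ (ecodes E13 ++ (ecodes E12 ++ (ecodes E11 ++ (ecodes E10 ++ (ecodes E9 ++ [q9])))))))))))))) q23 E23 _ (mem23) cert23
    (PiecesOK.cons stepOK (ecodes E23 ++ (ecodes E22 ++ (ecodes E21 ++ (ecodes E20 ++ (ecodes E19 ++ (ecodes E18 ++ (ecodes E17 ++ (ecodes E16 ++ (ecodes E15 ++ (ecodes E14 ++ (ecodes E13 ++ (ecodes E12 ++ (ecodes E11 ++ (ecodes E10 ++ (ecodes E9 ++ [q9]))))))))))))))) q24 E24 _ (mem24) cert24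
    (PiecesOK.cons stepOK (ecodes E24 ++ (ecodes E23 ++ (ecodes E22 ++ (ecodes E21 ++ (ecodes E20 ++ (ecodes E19 ++ (ecodes E18 ++ (ecodes E17 ++ (ecodes E16 ++ (ecodes E15 ++ (ecodes E14 ++ (ecodes E13 ++ (ecodes E12 ++ (ecodes E11 ++ (ecodes E10 ++ (ecodes E9 ++ [q9])))))))))))))))) q25 E25 _ (mem25) cert25
    (PiecesOK.cons stepOK (ecodes E25 ++ (ecodes E24 ++ (ecodes E23 ++ (ecodes E22 ++ (ecodes E21 ++ (ecodes E20 ++ (ecodes E19 ++ (ecodes E18 ++ (ecodes E17 ++ (ecodes E16 ++ (ecodes E15 ++ (ecodes E14 ++ (ecodes E13 ++ (ecodes E12 ++ (ecodes E11 ++ (ecodes E10 ++ (ecodes E9 ++ [q9]))))))))))))))))) q26 E26 _ (mem26) cert26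
    (PiecesOK.cons stepOK (ecodes E26 ++ (ecodes E25 ++ (ecodes E24 ++ (ecodes E23 ++ (ecodes E22 ++ (ecodes E21 ++ (ecodes E20 ++ (ecodes E19 ++ (ecodes E18 ++ (ecodes E17 ++ (ecodes E16 ++ (ecodes E15 ++ (ecodes E14 ++ (ecodes E13 ++ (ecodes E12 ++ (ecodes E11 ++ (ecodes E10 ++ (ecodes E9 ++ [q9])))))))))))))))))) q27 E27 _ (mem27) cert27
    (PiecesOK.cons stepOK (ecodes E27 ++ (ecodes E26 ++ (ecodes E25 ++ (ecodes E24 ++ (ecodes E23 ++ (ecodes E22 ++ (ecodes E21 ++ (ecodes E20 ++ (ecodes E19 ++ (ecodes E18 ++ (ecodes E17 ++ (ecodes E16 ++ (ecodes E15 ++ (ecodes E14 ++ (ecodes E13 ++ (ecodes E12 ++ (ecodes E11 ++ (ecodes E10 ++ (ecodes E9 ++ [q9]))))))))))))))))))) q28 E28 _ (mem28) cert28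
    (PiecesOK.cons stepOK (ecodes E28 ++ (ecodes E27 ++ (ecodes E26 ++ (ecodes E25 ++ (ecodes E24 ++ (ecodes E23 ++ (ecodes E22 ++ (ecodes E21 ++ (ecodes E20 ++ (ecodes E19 ++ (ecodes E18 ++ (ecodes E17 ++ (ecodes E16 ++ (ecodes E15 ++ (ecodes E14 ++ (ecodes E13 ++ (ecodes E12 ++ (ecodes E11 ++ (ecodes E10 ++ (ecodes E9 ++ [q9])))))))))))))))))))) q29 E29 _ (mem29) cert29
    (PiecesOK.cons stepOK (ecodes E29 ++ (ecodes E28 ++ (ecodes E27 ++ (ecodes E26 ++ (ecodes E25 ++ (ecodes E24 ++ (ecodes E23 ++ (ecodes E22 ++ (ecodes E21 ++ (ecodes E20 ++ (ecodes E19 ++ (ecodes E18 ++ (ecodes E17 ++ (ecodes E16 ++ (ecodes E15 ++ (ecodes E14 ++ (ecodes E13 ++ (ecodes E12 ++ (ecodes E11 ++ (ecodes E10 ++ (ecodes E9 ++ [q9]))))))))))))))))))))) q30 E30 _ (mem30) cert30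
    (PiecesOK.cons stepOK (ecodes E30 ++ (ecodes E29 ++ (ecodes E28 ++ (ecodes E27 ++ (ecodes E26 ++ (ecodes E25 ++ (ecodes E24 ++ (ecodes E23 ++ (ecodes E22 ++ (ecodes E21 ++ (ecodes E20 ++ (ecodes E19 ++ (ecodes E18 ++ (ecodes E17 ++ (ecodes E16 ++ (ecodes E15 ++ (ecodes E14 ++ (ecodes E13 ++ (ecodes E12 ++ (ecodes E11 ++ (ecodes E10 ++ (ecodes E9 ++ [q9])))))))))))))))))))))) q31 E31 _ (mem31) cert31
    (PiecesOK.nil stepOK (ecodes E31 ++ (ecodes E30 ++ (ecodes E29 ++ (ecodes E28 ++ (ecodes E27 ++ (ecodes E26 ++ (ecodes E25 ++ (ecodes E24 ++ (ecodes E23 ++ (ecodes E22 ++ (ecodes E21 ++ (ecodes E20 ++ (ecodes E19 ++ (ecodes E18 ++ (ecodes E17 ++ (ecodes E16 ++ (ecodes E15 ++ (ecodes E14 ++ (ecodes E13 ++ (ecodes E12 ++ (ecodes E11 ++ (ecodes E10 ++ (ecodes E9 ++ [q9]))))))))))))))))))))))))))))))))))))))))))))))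

/-- the codes of a block -/
def codes_p0 : List ℕ := pcodes q9 pieces_p0

theorem len_p0 : codes_p0.length = 22275 := by
  simp only [codes_p0, pcodes, pieces_p0, List.map_cons, List.map_nil, List.flatten_cons, List.flatten_nil,
    List.length_cons, List.length_append, List.length_nil, len9, len10, len11, len12, len13, len14, len15, len16, len17, len18, len19, len20, len21, len22, len23, len24, len25, len26, len27, len28, len29, len30, len31]

theorem inorb_p0 : ∀ x ∈ codes_p0, InOrb Good yp0 x :=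
  pieces_inorb stepOK good_one good_mul hok yp0 q9 rfl pieces_p0 ok_p0

theorem rp8_mem : vecN q32 ∈ leechLattice :=
  mem_of_data _ 1 8093601 (Or.inr rfl) (by decide +kernel) (by decide +kernel) (by decide +kernel)

/-- the root of a block -/
def yp8 : leechLattice := ⟨vecN q32, rp8_mem⟩

/-- the pieces of a block -/
def pieces_p8 : List (ℕ × List ℕ) :=
  [(q32, E32), (q33, E33), (q34, E34), (q35, E35), (q36, E36), (q37, E37), (q38, E38), (q39, E39), (q40, E40), (q41, E41), (q42, E42), (q43, E43), (q44, E44), (q45, E45)]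

set_option maxRecDepth 10000000 in
theorem mem32 : memB [q32] q32 = true := by decide +kernel

set_option maxRecDepth 10000000 in
theorem mem33 : memB (ecodes E32 ++ [q32]) q33 = true := by decide +kernel

set_option maxRecDepth 10000000 in
theorem mem34 : memB (ecodes E33 ++ (ecodes E32 ++ [q32])) q34 = true := by decide +kernel

set_option maxRecDepth 10000000 in
theorem mem35 : memB (ecodes E34 ++ (ecodes E33 ++ (ecodes E32 ++ [q32]))) q35 = true := by decide +kernel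

set_option maxRecDepth 10000000 in
theorem mem36 : memB (ecodes E35 ++ (ecodes E34 ++ (ecodes E33 ++ (ecodes E32 ++ [q32])))) q36 = true := by decide +kernel

set_option maxRecDepth 10000000 in
theorem mem37 : memB (ecodes E36 ++ (ecodes E35 ++ (ecodes E34 ++ (ecodes E33 ++ (ecodes E32 ++ [q32]))))) q37 = true := by decide +kernel

set_option maxRecDepth 10000000 in
theorem mem38 : memB (ecodes E37 ++ (ecodes E36 ++ (ecodes E35 ++ (ecodes E34 ++ (ecodes E33 ++ (ecodes E32 ++ [q32])))))) q38 = true := by decide +kernel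

set_option maxRecDepth 10000000 in
theorem mem39 : memB (ecodes E38 ++ (ecodes E37 ++ (ecodes E36 ++ (ecodes E35 ++ (ecodes E34 ++ (ecodes E33 ++ (ecodes E32 ++ [q32]))))))) q39 = true := by decide +kernel

set_option maxRecDepth 10000000 in
theorem mem40 : memB (ecodes E39 ++ (ecodes E38 ++ (ecodes E37 ++ (ecodes E36 ++ (ecodes E35 ++ (ecodes E34 ++ (ecodes E33 ++ (ecodes E32 ++ [q32])))))))) q40 = true := by decide +kernel

set_option maxRecDepth 10000000 in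
theorem mem41 : memB (ecodes E40 ++ (ecodes E39 ++ (ecodes E38 ++ (ecodes E37 ++ (ecodes E36 ++ (ecodes E35 ++ (ecodes E34 ++ (ecodes E33 ++ (ecodes E32 ++ [q32]))))))))) q41 = true := by decide +kernel

set_option maxRecDepth 10000000 in
theorem mem42 : memB (ecodes E41 ++ (ecodes E40 ++ (ecodes E39 ++ (ecodes E38 ++ (ecodes E37 ++ (ecodes E36 ++ (ecodes E35 ++ (ecodes E34 ++ (ecodes E33 ++ (ecodes E32 ++ [q32])))))))))) q42 = true := by decide +kernel

set_option maxRecDepth 10000000 in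
theorem mem43 : memB (ecodes E42 ++ (ecodes E41 ++ (ecodes E40 ++ (ecodes E39 ++ (ecodes E38 ++ (ecodes E37 ++ (ecodes E36 ++ (ecodes E35 ++ (ecodes E34 ++ (ecodes E33 ++ (ecodes E32 ++ [q32]))))))))))) q43 = true := by decide +kernel

set_option maxRecDepth 10000000 in
theorem mem44 : memB (ecodes E43 ++ (ecodes E42 ++ (ecodes E41 ++ (ecodes E40 ++ (ecodes E39 ++ (ecodes E38 ++ (ecodes E37 ++ (ecodes E36 ++ (ecodes E35 ++ (ecodes E34 ++ (ecodes E33 ++ (ecodes E32 ++ [q32])))))))))))) q44 = true := by decide +kernel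

set_option maxRecDepth 10000000 in
theorem mem45 : memB (ecodes E44 ++ (ecodes E43 ++ (ecodes E42 ++ (ecodes E41 ++ (ecodes E40 ++ (ecodes E39 ++ (ecodes E38 ++ (ecodes E37 ++ (ecodes E36 ++ (ecodes E35 ++ (ecodes E34 ++ (ecodes E33 ++ (ecodes E32 ++ [q32]))))))))))))) q45 = true := by decide +kernel

theorem ok_p8 : PiecesOK stepOK [q32] pieces_p8 :=
  PiecesOK.cons stepOK [q32] q32 E32 _ (mem32) cert32
    (PiecesOK.cons stepOK (ecodes E32 ++ [q32]) q33 E33 _ (mem33) cert33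
    (PiecesOK.cons stepOK (ecodes E33 ++ (ecodes E32 ++ [q32])) q34 E34 _ (mem34) cert34
    (PiecesOK.cons stepOK (ecodes E34 ++ (ecodes E33 ++ (ecodes E32 ++ [q32]))) q35 E35 _ (mem35) cert35
    (PiecesOK.cons stepOK (ecodes E35 ++ (ecodes E34 ++ (ecodes E33 ++ (ecodes E32 ++ [q32])))) q36 E36 _ (mem36) cert36
    (PiecesOK.cons stepOK (ecodes E36 ++ (ecodes E35 ++ (ecodes E34 ++ (ecodes E33 ++ (ecodes E32 ++ [q32]))))) q37 E37 _ (mem37) cert37
    (PiecesOK.cons stepOK (ecodes E37 ++ (ecodes E36 ++ (ecodes E35 ++ (ecodes E34 ++ (ecodes E33 ++ (ecodes E32 ++ [q32])))))) q38 E38 _ (mem38) cert38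
    (PiecesOK.cons stepOK (ecodes E38 ++ (ecodes E37 ++ (ecodes E36 ++ (ecodes E35 ++ (ecodes E34 ++ (ecodes E33 ++ (ecodes E32 ++ [q32]))))))) q39 E39 _ (mem39) cert39
    (PiecesOK.cons stepOK (ecodes E39 ++ (ecodes E38 ++ (ecodes E37 ++ (ecodes E36 ++ (ecodes E35 ++ (ecodes E34 ++ (ecodes E33 ++ (ecodes E32 ++ [q32])))))))) q40 E40 _ (mem40) cert40
    (PiecesOK.cons stepOK (ecodes E40 ++ (ecodes E39 ++ (ecodes E38 ++ (ecodes E37 ++ (ecodes E36 ++ (ecodes E35 ++ (ecodes E34 ++ (ecodes E33 ++ (ecodes E32 ++ [q32]))))))))) q41 E41 _ (mem41) cert41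
    (PiecesOK.cons stepOK (ecodes E41 ++ (ecodes E40 ++ (ecodes E39 ++ (ecodes E38 ++ (ecodes E37 ++ (ecodes E36 ++ (ecodes E35 ++ (ecodes E34 ++ (ecodes E33 ++ (ecodes E32 ++ [q32])))))))))) q42 E42 _ (mem42) cert42
    (PiecesOK.cons stepOK (ecodes E42 ++ (ecodes E41 ++ (ecodes E40 ++ (ecodes E39 ++ (ecodes E38 ++ (ecodes E37 ++ (ecodes E36 ++ (ecodes E35 ++ (ecodes E34 ++ (ecodes E33 ++ (ecodes E32 ++ [q32]))))))))))) q43 E43 _ (mem43) cert43
    (PiecesOK.cons stepOK (ecodes E43 ++ (ecodes E42 ++ (ecodes E41 ++ (ecodes E40 ++ (ecodes E39 ++ (ecodes E38 ++ (ecodes E37 ++ (ecodes E36 ++ (ecodes E35 ++ (ecodes E34 ++ (ecodes E33 ++ (ecodes E32 ++ [q32])))))))))))) q44 E44 _ (mem44) cert44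
    (PiecesOK.cons stepOK (ecodes E44 ++ (ecodes E43 ++ (ecodes E42 ++ (ecodes E41 ++ (ecodes E40 ++ (ecodes E39 ++ (ecodes E38 ++ (ecodes E37 ++ (ecodes E36 ++ (ecodes E35 ++ (ecodes E34 ++ (ecodes E33 ++ (ecodes E32 ++ [q32]))))))))))))) q45 E45 _ (mem45) cert45
    (PiecesOK.nil stepOK (ecodes E45 ++ (ecodes E44 ++ (ecodes E43 ++ (ecodes E42 ++ (ecodes E41 ++ (ecodes E40 ++ (ecodes E39 ++ (ecodes E38 ++ (ecodes E37 ++ (ecodes E36 ++ (ecodes E35 ++ (ecodes E34 ++ (ecodes E33 ++ (ecodes E32 ++ [q32]))))))))))))))))))))))))))))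

/-- the codes of a block -/
def codes_p8 : List ℕ := pcodes q32 pieces_p8

theorem len_p8 : codes_p8.length = 15400 := by
  simp only [codes_p8, pcodes, pieces_p8, List.map_cons, List.map_nil, List.flatten_cons, List.flatten_nil,
    List.length_cons, List.length_append, List.length_nil, len32, len33, len34, len35, len36, len37, len38, len39, len40, len41, len42, len43, len44, len45]

theorem inorb_p8 : ∀ x ∈ codes_p8, InOrb Good yp8 x :=
  pieces_inorb stepOK good_one good_mul hok yp8 q32 rfl pieces_p8 ok_p8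

theorem rp16_mem : vecN q46 ∈ leechLattice :=
  mem_of_data _ 0 4900873 (Or.inl rfl) (by decide +kernel) (by decide +kernel) (by decide +kernel)

/-- the root of a block -/
def yp16 : leechLattice := ⟨vecN q46, rp16_mem⟩

/-- the pieces of a block -/
def pieces_p16 : List (ℕ × List ℕ) :=
  [(q46, E46), (q47, E47)]

set_option maxRecDepth 10000000 in
theorem mem46 : memB [q46] q46 = true := by decide +kernel

set_option maxRecDepth 10000000 in
theorem mem47 : memB (ecodes E46 ++ [q46]) q47 = true := by decide +kernel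

theorem ok_p16 : PiecesOK stepOK [q46] pieces_p16 :=
  PiecesOK.cons stepOK [q46] q46 E46 _ (mem46) cert46
    (PiecesOK.cons stepOK (ecodes E46 ++ [q46]) q47 E47 _ (mem47) cert47
    (PiecesOK.nil stepOK (ecodes E47 ++ (ecodes E46 ++ [q46]))))

/-- the codes of a block -/
def codes_p16 : List ℕ := pcodes q46 pieces_p16

theorem len_p16 : codes_p16.length = 2025 := by
  simp only [codes_p16, pcodes, pieces_p16, List.map_cons, List.map_nil, List.flatten_cons, List.flatten_nil,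
    List.length_cons, List.length_append, List.length_nil, len46, len47]

theorem inorb_p16 : ∀ x ∈ codes_p16, InOrb Good yp16 x :=
  pieces_inorb stepOK good_one good_mul hok yp16 q46 rfl pieces_p16 ok_p16

/-- all the lists of codes, with their lengths -/
def codeLists : List (List ℕ × ℕ) :=
  [([cb3], 1), ([q0], 1), (ecodes E0, 274), ([q1], 1), (ecodes E1, 620), (ecodes E2, 1052), (ecodes E3, 858), (ecodes E4, 908), (ecodes E5, 1263), (ecodes E6, 838), (ecodes E7, 888), (ecodes E8, 700), ([q9], 1), (ecodes E9, 1227), (ecodes E10, 1337), (ecodes E11, 1292), (ecodes E12, 903), (ecodes E13, 1043), (ecodes E14, 906), (ecodes E15, 818), (ecodes E16, 805), (ecodes E17, 1349), (ecodes E18, 821), (ecodes E19, 1231), (ecodes E20, 973), (ecodes E21, 855), (ecodes E22, 982), (ecodes E23, 938), (ecodes E24, 716), (ecodes E25, 837), (ecodes E26, 818), (ecodes E27, 734), (ecodes E28, 1244), (ecodes E29, 956), (ecodes E30, 749), (ecodes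 E31, 740), ([q32], 1), (ecodes E32, 1758), (ecodes E33, 727), (ecodes E34, 1257), (ecodes E35, 1059), (ecodes E36, 1317), (ecodes E37, 1287), (ecodes E38, 1016), (ecodes E39, 1097), (ecodes E40, 1627), (ecodes E41, 709), (ecodes E42, 1106), (ecodes E43, 812), (ecodes E44, 880), (ecodes E45, 747), ([q46], 1), (ecodes E46, 964), (ecodes E47, 1060)]

set_option maxRecDepth 10000000 in
theorem idx_all : IdxOK T codeLists 0 :=
  IdxOK.cons T ([cb3]) 1 _ 0 1 (by decide +kernel) rfl rfl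
    (IdxOK.cons T ([q0]) 1 _ 1 2 (by decide +kernel) rfl rfl
    (IdxOK.cons T (ecodes E0) 274 _ 2 276 idx0 len0 rfl
    (IdxOK.cons T ([q1]) 1 _ 276 277 (by decide +kernel) rfl rfl
    (IdxOK.cons T (ecodes E1) 620 _ 277 897 idx1 len1 rfl
    (IdxOK.cons T (ecodes E2) 1052 _ 897 1949 idx2 len2 rfl
    (IdxOK.cons T (ecodes E3) 858 _ 1949 2807 idx3 len3 rfl
    (IdxOK.cons T (ecodes E4) 908 _ 2807 3715 idx4 len4 rfl
    (IdxOK.cons T (ecodes E5) 1263 _ 3715 4978 idx5 len5 rfl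
    (IdxOK.cons T (ecodes E6) 838 _ 4978 5816 idx6 len6 rfl
    (IdxOK.cons T (ecodes E7) 888 _ 5816 6704 idx7 len7 rfl
    (IdxOK.cons T (ecodes E8) 700 _ 6704 7404 idx8 len8 rfl
    (IdxOK.cons T ([q9]) 1 _ 7404 7405 (by decide +kernel) rfl rfl
    (IdxOK.cons T (ecodes E9) 1227 _ 7405 8632 idx9 len9 rfl
    (IdxOK.cons T (ecodes E10) 1337 _ 8632 9969 idx10 len10 rfl
    (IdxOK.cons T (ecodes E11) 1292 _ 9969 11261 idx11 len11 rfl
    (IdxOK.cons T (ecodes E12) 903 _ 11261 12164 idx12 len12 rfl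
    (IdxOK.cons T (ecodes E13) 1043 _ 12164 13207 idx13 len13 rfl
    (IdxOK.cons T (ecodes E14) 906 _ 13207 14113 idx14 len14 rfl
    (IdxOK.cons T (ecodes E15) 818 _ 14113 14931 idx15 len15 rfl
    (IdxOK.cons T (ecodes E16) 805 _ 14931 15736 idx16 len16 rfl
    (IdxOK.cons T (ecodes E17) 1349 _ 15736 17085 idx17 len17 rfl
    (IdxOK.cons T (ecodes E18) 821 _ 17085 17906 idx18 len18 rfl
    (IdxOK.cons T (ecodes E19) 1231 _ 17906 19137 idx19 len19 rfl
    (IdxOK.cons T (ecodes E20) 973 _ 19137 20110 idx20 len20 rfl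
    (IdxOK.cons T (ecodes E21) 855 _ 20110 20965 idx21 len21 rfl
    (IdxOK.cons T (ecodes E22) 982 _ 20965 21947 idx22 len22 rfl
    (IdxOK.cons T (ecodes E23) 938 _ 21947 22885 idx23 len23 rfl
    (IdxOK.cons T (ecodes E24) 716 _ 22885 23601 idx24 len24 rfl
    (IdxOK.cons T (ecodes E25) 837 _ 23601 24438 idx25 len25 rfl
    (IdxOK.cons T (ecodes E26) 818 _ 24438 25256 idx26 len26 rfl
    (IdxOK.cons T (ecodes E27) 734 _ 25256 25990 idx27 len27 rfl
    (IdxOK.cons T (ecodes E28) 1244 _ 25990 27234 idx28 len28 rfl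
    (IdxOK.cons T (ecodes E29) 956 _ 27234 28190 idx29 len29 rfl
    (IdxOK.cons T (ecodes E30) 749 _ 28190 28939 idx30 len30 rfl
    (IdxOK.cons T (ecodes E31) 740 _ 28939 29679 idx31 len31 rfl
    (IdxOK.cons T ([q32]) 1 _ 29679 29680 (by decide +kernel) rfl rfl
    (IdxOK.cons T (ecodes E32) 1758 _ 29680 31438 idx32 len32 rfl
    (IdxOK.cons T (ecodes E33) 727 _ 31438 32165 idx33 len33 rfl
    (IdxOK.cons T (ecodes E34) 1257 _ 32165 33422 idx34 len34 rfl
    (IdxOK.cons T (ecodes E35) 1059 _ 33422 34481 idx35 len35 rfl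
    (IdxOK.cons T (ecodes E36) 1317 _ 34481 35798 idx36 len36 rfl
    (IdxOK.cons T (ecodes E37) 1287 _ 35798 37085 idx37 len37 rfl
    (IdxOK.cons T (ecodes E38) 1016 _ 37085 38101 idx38 len38 rfl
    (IdxOK.cons T (ecodes E39) 1097 _ 38101 39198 idx39 len39 rfl
    (IdxOK.cons T (ecodes E40) 1627 _ 39198 40825 idx40 len40 rfl
    (IdxOK.cons T (ecodes E41) 709 _ 40825 41534 idx41 len41 rfl
    (IdxOK.cons T (ecodes E42) 1106 _ 41534 42640 idx42 len42 rfl
    (IdxOK.cons T (ecodes E43) 812 _ 42640 43452 idx43 len43 rfl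
    (IdxOK.cons T (ecodes E44) 880 _ 43452 44332 idx44 len44 rfl
    (IdxOK.cons T (ecodes E45) 747 _ 44332 45079 idx45 len45 rfl
    (IdxOK.cons T ([q46]) 1 _ 45079 45080 (by decide +kernel) rfl rfl
    (IdxOK.cons T (ecodes E46) 964 _ 45080 46044 idx46 len46 rfl
    (IdxOK.cons T (ecodes E47) 1060 _ 46044 47104 idx47 len47 rfl
    (IdxOK.nil T 47104))))))))))))))))))))))))))))))))))))))))))))))))))))))

/-- the blocks -/
def blocks : List (leechLattice × List ℕ) :=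
  [(b3, [cb3]), (ym16, codes_m16), (ym8, codes_m8), (yp0, codes_p0), (yp8, codes_p8), (yp16, codes_p16)]

theorem allCodes_eq : allCodes blocks = (codeLists.map Prod.fst).flatten := by
  simp only [allCodes, blocks, codeLists, codes_m16, pieces_m16, codes_m8, pieces_m8, codes_p0, pieces_p0, codes_p8, pieces_p8, codes_p16, pieces_p16, pcodes, List.map_cons, List.map_nil,
    List.flatten_cons, List.flatten_nil, List.cons_append, List.nil_append, List.append_assoc,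
    List.append_nil]

theorem hnd : ((allCodes blocks).map vecN).Nodup := by
  rw [allCodes_eq]
  exact nodup_of_idxChk T _ (IdxOK_sound T codeLists 0 idx_all)

theorem len_all : (allCodes blocks).length = 47104 := by
  rw [allCodes_eq, IdxOK_length T codeLists 0 idx_all]
  rfl

end Cfsg.Agent.Lib.Helper9.Co2orbf
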