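import Cfsg.Agent.Lib.Helper9.LeechC6
import Cfsg.Agent.S0391

set_option autoImplicit false

/-! Geometry of congruences modulo twice the lattice. -/

namespace Cfsg.Agent.Lib.Helper9.LeechC7

open Cfsg Finset Cfsg.Agent.Lib.Helper4.Leech

abbrev G := GolayPt → ℤ

theorem sqNorm_add (a b : G) : sqNorm (a + b) = sqNorm a + 2 * dotInt a b + sqNorm b := by
  unfold sqNorm dotInt
  rw [Finset.mul_sum, ← Finset.sum_add_distrib, ← Finset.sum_add_distrib]
  apply Finset.sum_congr rfl
  intro i _
  simp only [Pi.add_apply]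
  ring

theorem sqNorm_sub (a b : G) : sqNorm (a - b) = sqNorm a - 2 * dotInt a b + sqNorm b := by
  unfold sqNorm dotInt
  rw [Finset.mul_sum, ← Finset.sum_sub_distrib, ← Finset.sum_add_distrib]
  apply Finset.sum_congr rfl
  intro i _
  simp only [Pi.sub_apply]
  ring

theorem sqNorm_two (z : G) : sqNorm (2 • z) = 4 * sqNorm z := by
  unfold sqNorm
  rw [Finset.mul_sum]
  apply Finset.sum_congr rfl
  intro i _
  simp only [Pi.smul_apply, smul_eq_mul, nsmul_eq_mul, Nat.cast_ofNat]
  ring

theorem sqNorm_neg (a : G) : sqNorm (-a) = sqNorm a := by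
  unfold sqNorm
  apply Finset.sum_congr rfl
  intro i _
  simp only [Pi.neg_apply]
  ring

theorem sqNorm_eq_zero {a : G} (h : sqNorm a = 0) : a = 0 := by
  unfold sqNorm at h
  ext i
  have := (Finset.sum_eq_zero_iff_of_nonneg (fun j _ => sq_nonneg (a j))).mp h i (mem_univ i)
  simpa using this

theorem geom (y y' z : G) (hy : y ∈ leechLattice) (hy' : y' ∈ leechLattice)
    (hz : z ∈ leechLattice) (h : y - y' = 2 • z) (hne : y' ≠ y) (hne' : y' ≠ -y)
    (hn : sqNorm y ≤ 64) (hn' : sqNorm y' ≤ 64) :
    sqNorm y = 64 ∧ sqNorm y' = 64 ∧ dotInt y y' = 0 := by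
  have hz0 : z ≠ 0 := by
    rintro rfl
    apply hne
    have : y - y' = 0 := by rw [h]; simp
    exact (sub_eq_zero.mp this).symm
  have hw : z + y' ∈ leechLattice := leechLattice.add_mem hz hy'
  have hw2 : y + y' = 2 • (z + y') := by
    rw [smul_add, ← h]
    rw [two_nsmul]
    abel
  have hw0 : z + y' ≠ 0 := by
    intro h0
    apply hne'
    rw [h0] at hw2
    have : y + y' = 0 := by rw [hw2]; simp
    exact (neg_eq_of_add_eq_zero_right this).symm
  have h1 := Cfsg.Agent.S0391.result z hz hz0
  have h2 := Cfsg.Agent.S0391.result (z + y') hw hw0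
  have e1 : sqNorm (y - y') = 4 * sqNorm z := by rw [h, sqNorm_two]
  have e2 : sqNorm (y + y') = 4 * sqNorm (z + y') := by rw [hw2, sqNorm_two]
  rw [sqNorm_sub] at e1
  rw [sqNorm_add] at e2
  refine ⟨by omega, by omega, by omega⟩

/-- a family of vectors of sum of squares 64, pairwise equal, opposite or orthogonal, has at
most 48 members -/
theorem orth_bound (F : Finset G) (h64 : ∀ y ∈ F, sqNorm y = 64)
    (hF : ∀ y ∈ F, ∀ y' ∈ F, y' = y ∨ y' = -y ∨ dotInt y y' = 0) : F.card ≤ 48 := by
  classical
  obtain ⟨P, hP⟩ : ∃ P : Finset G, P = F.filter (fun y => -y ∈ F → WellOrderingRel y (-y)) :=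
    ⟨_, rfl⟩
  have hne0 : ∀ y ∈ F, y ≠ -y := by
    intro y hy h
    have h0 : y = 0 := by
      have : y + y = 0 := by nth_rewrite 2 [h]; simp
      ext i
      have := congrFun this i
      simp only [Pi.add_apply, Pi.zero_apply] at this ⊢
      omega
    have := h64 y hy
    rw [h0] at this
    simp [sqNorm] at this
  have hcover : F ⊆ P ∪ P.image (fun y => -y) := by
    intro y hy
    rw [mem_union, mem_image]
    by_cases hyP : y ∈ P
    · exact Or.inl hyP
    · right
      rw [hP, mem_filter] at hyP
      push Not at hyP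
      obtain ⟨hny, hnot⟩ := hyP hy
      refine ⟨-y, ?_, neg_neg y⟩
      rw [hP, mem_filter]
      refine ⟨hny, fun _ => ?_⟩
      rw [neg_neg]
      rcases trichotomous_of WellOrderingRel y (-y) with h | h | h
      · exact absurd h hnot
      · exact absurd h (hne0 y hy)
      · exact h
  have hcard : F.card ≤ 2 * P.card := by
    calc F.card ≤ (P ∪ P.image (fun y => -y)).card := card_le_card hcover
      _ ≤ P.card + (P.image (fun y => -y)).card := card_union_le _ _
      _ ≤ P.card + P.card := Nat.add_le_add_left card_image_le _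
      _ = 2 * P.card := by ring
  -- P is pairwise orthogonal
  have hPF : ∀ y ∈ P, y ∈ F := fun y hy => by rw [hP] at hy; exact (mem_filter.mp hy).1
  have horth : ∀ y ∈ P, ∀ y' ∈ P, y ≠ y' → dotInt y y' = 0 := by
    intro y hy y' hy' hne
    rcases hF y (hPF y hy) y' (hPF y' hy') with h | h | h
    · exact absurd h.symm hne
    · exfalso
      rw [hP, mem_filter] at hy hy'
      have a1 := hy.2 (h ▸ hy'.1)
      have a2 := hy'.2 (by rw [h, neg_neg]; exact hy.1)
      rw [h, neg_neg] at a2
      exact asymm_of WellOrderingRel a1 a2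
    · exact h
  -- linear independence in Euclidean space
  let v : ↥P → EuclideanSpace ℝ GolayPt := fun y => WithLp.toLp 2 (fun i => ((y.1 i : ℤ) : ℝ))
  have hinner : ∀ a b : ↥P, inner ℝ (v a) (v b) = ((dotInt a.1 b.1 : ℤ) : ℝ) := by
    intro a b
    simp only [v, PiLp.inner_apply, dotInt]
    push_cast
    apply Finset.sum_congr rfl
    intro i _
    simp only [RCLike.inner_apply, conj_trivial]
    ring
  have hli : LinearIndependent ℝ v := by
    apply linearIndependent_of_ne_zero_of_inner_eq_zero
    · intro a h0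
      have h1 : inner ℝ (v a) (v a) = 0 := by rw [h0]; simp
      rw [hinner] at h1
      have h2 : dotInt a.1 a.1 = 0 := by exact_mod_cast h1
      have h3 : sqNorm a.1 = 64 := h64 _ (hPF _ a.2)
      have h4 : sqNorm a.1 = dotInt a.1 a.1 := by
        unfold sqNorm dotInt
        apply Finset.sum_congr rfl
        intro i _
        ring
      omega
    · intro a b hab
      rw [hinner, horth a.1 a.2 b.1 b.2 (fun h => hab (Subtype.ext h))]
      simp
  have hle := hli.fintype_card_le_finrank
  rw [finrank_euclideanSpace, Fintype.card_coe, Cfsg.Agent.Lib.Helper9.GolayQR5.card_golayPt]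
    at hle
  omega

end Cfsg.Agent.Lib.Helper9.LeechC7
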