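import Cfsg.Agent.Lib.Helper9.LeechX8
import Cfsg.Agent.Lib.Helper9.M24T10
import Cfsg.Agent.Lib.Helper9.M24X1

set_option autoImplicit false

/-! Transitivity of the automorphism group on the lattice vectors of sum of squares 48. -/

namespace Cfsg.Agent.Lib.Helper9.LeechX9

open Cfsg Finset Cfsg.Agent.Lib.Helper4.Leech Cfsg.Agent.Lib.Helper9.Golay1
  Cfsg.Agent.Lib.Helper9.LeechM1 Cfsg.Agent.Lib.Helper9.LeechX4
  Cfsg.Agent.Lib.Helper9.LeechX5 Cfsg.Agent.Lib.Helper9.LeechX6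
  Cfsg.Agent.Lib.Helper9.LeechX7 Cfsg.Agent.Lib.Helper9.LeechX8
  Cfsg.Agent.Lib.Helper9.GolayQR1 Cfsg.Agent.Lib.Helper9.GolayQR3
  Cfsg.Agent.Lib.Helper9.M24U1 Cfsg.Agent.Lib.Helper9.M24T5
open Cfsg.Agent.Lib.Helper9.LeechC2 (fwd bwd par cl mem_lev')
open Cfsg.Agent.Lib.Helper9.LeechX1 (xiFun)
open scoped Pointwise

/-! ### shape `(2¹², 0¹²)` -/

def LD : List ℤ := [2, 2, 2, 2, 2, 2, 0, 2, 0, 0, 0, 2, 0, 0, 0, 0, 0, 0, 2, 0, 0, 2, 2, 2]

theorem LD_mem : vecL LD ∈ leechLattice :=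
  mem_of_data _ 0 14944447 (Or.inl rfl) (by decide +kernel) (by decide +kernel)
    (by decide +kernel)

def rD : leechLattice := ⟨vecL LD, LD_mem⟩

theorem fixD (w : leechLattice) (habs : ∀ i, |w.1 i| = |rD.1 i|) : RelN w rD :=
  sign_fix_lists rD []
    [some 0, some 1, some 2, some 3, some 4, some 5, some 7, some 11, some 18, some 21, some 22,
      none]
    [185603, 530245, 1618953, 1737489, 684577, 582081, 1661185, 902657, 3172097, 4924673, 8499969,
      705094, 1728778, 1594898, 567074, 668866, 1805314, 987906, 3322370, 4845570, 8611330,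
      1090380, 1217620, 157028, 63108, 1134148, 381252, 3698756, 4403780, 9020484, 145176,
      1230376, 1070536, 126216, 1405448, 2675464, 5476616, 10028808, 1110320, 1204944, 252432,
      1525008, 2810896, 5350928, 10170384, 168928, 1256224, 504864, 3806496, 4282144, 9158944,
      1161408, 337856, 3704512, 4441280, 8999616, 1351424, 2702848, 5405696, 10021376, 4038912,
      4645632, 9204992, 8077824, 11654144, 13276672]
    (by decide +kernel) (by decide +kernel) (by decide +kernel) (by decide +kernel)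
    (by decide +kernel) w habs

theorem rD_abs : ∀ k : GolayPt, |rD.1 k| = if (14944447).testBit (idx k) = true then 2 else 0 := by
  decide +kernel

theorem Dstd_mem : M 14944447 ∈ dodecads :=
  ⟨mask_mem_Code _ (by decide +kernel), by rw [card_M]; decide +kernel⟩

theorem nf_d (x : leechLattice) (hp : par x.1 = 0) (h2 : cnt x.1 2 = 12) (h0 : cnt x.1 0 = 12)
    (hc : (cl x.1).card = 12) : RelN x rD := by
  have hst := cl_of_two x hp 12 h2 (by omega)
  have hO : cl x.1 ∈ dodecads := ⟨cl_mem_Code x, hc⟩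
  obtain ⟨g, hg, hgO⟩ := Cfsg.Agent.Lib.Helper9.M24T10.dodecad_transitive _ _ hO Dstd_mem
  refine relN_of_perm rD x g⁻¹ (M24.inv_mem hg) fixD fun k => ?_
  rw [rD_abs k]
  have hk : (14944447).testBit (idx k) = true ↔ g⁻¹ k ∈ cl x.1 := by
    rw [← mem_M, ← hgO]
    have := Cfsg.Agent.Lib.Helper9.M24X1.smul_mem_iff g (g⁻¹ k) (cl x.1)
    rwa [Cfsg.Agent.Lib.Helper9.Chain1.apply_inv_self'] at this
  by_cases hm : g⁻¹ k ∈ cl x.1
  · rw [if_pos (hk.mpr hm)]
    exact (hst _).1.mp hm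
  · rw [if_neg (fun h => hm (hk.mp h)), (hst _).2 hm]
    rfl

/-! ### shape `(4, 2⁸, 0¹⁵)` -/

def LE : List ℤ := [-2, 2, 2, 2, 4, 2, 0, 0, 0, 0, 0, 0, 0, 0, 2, 0, 0, 2, 0, 0, 0, 0, 0, 2]

theorem LE_mem : vecL LE ∈ leechLattice :=
  mem_of_data _ 0 8536111 (Or.inl rfl) (by decide +kernel) (by decide +kernel)
    (by decide +kernel)

def rE : leechLattice := ⟨vecL LE, LE_mem⟩

theorem fixE (w : leechLattice) (habs : ∀ i, |w.1 i| = |rE.1 i|) : RelN w rE :=
  sign_fix_lists rE [some 4]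
    [none, some 0, some 1, some 2, some 3, some 5, some 14, some 17]
    [7903248, 12325377, 13909442, 10861956, 11548936, 14760928, 10021376, 13276672, 6827971,
      1683333, 797449, 6105569, 2422785, 7767041, 7438406, 6554826, 3474978, 5035970, 2010050,
      1410188, 4490852, 4020100, 7285636, 5309160, 2675464, 8040200, 7983584, 2862560, 5405696]
    (by decide +kernel) (by decide +kernel) (by decide +kernel) (by decide +kernel)
    (by decide +kernel) w habs

theorem rE_abs : ∀ k : GolayPt, |rE.1 k| =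
    if k = some 4 then 4 else if (8536111).testBit (idx k) = true then 2 else 0 := by
  decide +kernel

/-- the structure of a vector with entries `0, ±2, ±4` -/
theorem cl_of_024 (x : leechLattice) (hp : par x.1 = 0)
    (h : cnt x.1 0 + cnt x.1 2 + cnt x.1 4 = 24) :
    ∀ i, (i ∈ cl x.1 ↔ |x.1 i| = 2) ∧ (i ∉ cl x.1 → |x.1 i| = 0 ∨ |x.1 i| = 4) := by
  have hcov := cover x.1 {0, 2, 4} (by
    rw [Finset.sum_insert (by norm_num), Finset.sum_pair (by norm_num)]
    omega)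
  intro i
  have h := hcov i
  simp only [mem_insert, mem_singleton] at h
  have hm : i ∈ cl x.1 ↔ x.1 i % 4 = 2 := by
    unfold cl
    rw [mem_lev', hp]
    norm_num
  rw [hm]
  constructor
  · rcases abs_cases (x.1 i) with ⟨a1, a2⟩ | ⟨a1, a2⟩ <;> omega
  · intro hn
    rcases h with h | h | h
    · exact Or.inl h
    · exfalso
      apply hn
      rcases abs_cases (x.1 i) with ⟨a1, a2⟩ | ⟨a1, a2⟩ <;> omega
    · exact Or.inr h

theorem nf_e (x : leechLattice) (hp : par x.1 = 0) (h4 : cnt x.1 4 = 1) (h2 : cnt x.1 2 = 8)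
    (h0 : cnt x.1 0 = 15) (hc : (cl x.1).card = 8) : RelN x rE := by
  have hst := cl_of_024 x hp (by omega)
  have hO : cl x.1 ∈ octads := ⟨cl_mem_Code x, hc⟩
  obtain ⟨p, hp4, huniq⟩ := cnt_one x.1 4 h4
  have hpO : p ∉ cl x.1 := by
    intro h
    have := (hst p).1.mp h
    omega
  obtain ⟨t, ht, htO, htp⟩ := Cfsg.Agent.Lib.Helper9.M24X1.exists_std_antiflag p _ hO hpO
  refine relN_of_perm rE x t⁻¹ (M24.inv_mem ht) fixE fun k => ?_
  rw [rE_abs k]
  have hk : (8536111).testBit (idx k) = true ↔ t⁻¹ k ∈ cl x.1 := by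
    rw [← mem_M]
    have e : M 8536111 = Cfsg.Agent.Lib.Helper9.M24T8.O8 := rfl
    rw [e, ← htO]
    have := Cfsg.Agent.Lib.Helper9.M24X1.smul_mem_iff t (t⁻¹ k) (cl x.1)
    rwa [Cfsg.Agent.Lib.Helper9.Chain1.apply_inv_self'] at this
  by_cases hk4 : k = some 4
  · rw [if_pos hk4, hk4, ← htp, Cfsg.Agent.Lib.Helper9.Chain1.inv_apply_self']
    exact hp4
  rw [if_neg hk4]
  have hne : t⁻¹ k ≠ p := by
    intro h
    apply hk4
    rw [← htp, ← h, Cfsg.Agent.Lib.Helper9.Chain1.apply_inv_self']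
  by_cases hm : t⁻¹ k ∈ cl x.1
  · rw [if_pos (hk.mpr hm)]
    exact (hst _).1.mp hm
  · rw [if_neg (fun h => hm (hk.mp h))]
    rcases (hst _).2 hm with h | h
    · exact h
    · exact absurd (huniq _ h) hne

/-! ### shape `(3³, 1²¹)` -/

def LF : List ℤ := [-3, -3, 1, 1, 1, 1, 1, 1, 1, 1, 1, 1, 1, 1, 1, 1, 1, 1, 1, 1, 1, 1, 1, -3]

theorem LF_mem : vecL LF ∈ leechLattice :=
  mem_of_data _ 1 16777215 (Or.inr rfl) (by decide +kernel) (by decide +kernel)
    (by decide +kernel)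

def rF : leechLattice := ⟨vecL LF, LF_mem⟩

theorem rF_abs : ∀ k : GolayPt, |rF.1 k| = if k = none ∨ k = some 0 ∨ k = some 1 then 3 else 1 := by
  decide +kernel

theorem rF_par : par rF.1 = 1 := by decide +kernel

theorem nf_f (x : leechLattice) (hp : par x.1 = 1) (h3 : cnt x.1 3 = 3) (h1 : cnt x.1 1 = 21) :
    RelN x rF := by
  obtain ⟨i, j, l, hij, hil, hjl, hi, hj, hl, huniq⟩ := cnt_three x.1 3 h3
  have hcov := cover x.1 {3, 1} (by rw [Finset.sum_pair (by norm_num)]; omega)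
  obtain ⟨h, hh, hmap⟩ := Cfsg.Agent.Lib.Helper9.M24T7.exists_mapn 3 (by norm_num)
    (fun n => if n = 0 then i else if n = 1 then j else l) (by
      intro a ha b hb hab
      have : a = 0 ∨ a = 1 ∨ a = 2 := by omega
      have : b = 0 ∨ b = 1 ∨ b = 2 := by omega
      rcases ‹a = 0 ∨ a = 1 ∨ a = 2› with rfl | rfl | rfl <;>
        rcases ‹b = 0 ∨ b = 1 ∨ b = 2› with rfl | rfl | rfl <;> simp_all)
  have e0 : h none = i := hmap 0 (by norm_num)
  have e1 : h (some 0) = j := hmap 1 (by norm_num)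
  have e2 : h (some 1) = l := hmap 2 (by norm_num)
  refine (relN_prm h⁻¹ (M24.inv_mem hh) x).trans (sign_fix_odd _ rF ?_ rF_par fun k => ?_)
  · unfold par
    rw [prm_inv_val h hh]
    exact odd_of_par x.1 x.2 hp _
  · rw [prm_inv_val h hh, rF_abs k]
    by_cases hk0 : k = none
    · rw [if_pos (Or.inl hk0), hk0, e0, hi]
    by_cases hk1 : k = some 0
    · rw [if_pos (Or.inr (Or.inl hk1)), hk1, e1, hj]
    by_cases hk2 : k = some 1
    · rw [if_pos (Or.inr (Or.inr hk2)), hk2, e2, hl]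
    rw [if_neg (by tauto)]
    have hne : |x.1 (h k)| ≠ 3 := by
      intro h'
      rcases huniq _ h' with h'' | h'' | h''
      · rw [← e0] at h''
        exact hk0 (h.injective h'')
      · rw [← e1] at h''
        exact hk1 (h.injective h'')
      · rw [← e2] at h''
        exact hk2 (h.injective h'')
    have := hcov (h k)
    simp only [mem_insert, mem_singleton] at this
    tauto

/-! ### shape `(5, 1²³)` -/

def LG : List ℤ := [1, 1, 1, 1, 1, 1, 1, 1, 1, 1, 1, 1, 1, 1, 1, 1, 1, 1, 1, 1, 1, 1, 1, 5]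

theorem LG_mem : vecL LG ∈ leechLattice :=
  mem_of_data _ 1 16777215 (Or.inr rfl) (by decide +kernel) (by decide +kernel)
    (by decide +kernel)

def rG : leechLattice := ⟨vecL LG, LG_mem⟩

theorem rG_abs : ∀ k : GolayPt, |rG.1 k| = if k = none then 5 else 1 := by decide +kernel

theorem rG_par : par rG.1 = 1 := by decide +kernel

theorem nf_g (x : leechLattice) (hp : par x.1 = 1) (h5 : cnt x.1 5 = 1) (h1 : cnt x.1 1 = 23) :
    RelN x rG :=
  nf_odd_one rG x rG_par hp 5 1 (by norm_num) h5 h1 rG_abs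

/-! ### fusion -/

def Lu5 : List ℤ := [1, 1, 1, 5, 1, 1, 1, 1, 1, 1, 1, 1, 1, 1, 1, 1, 1, 1, 1, 1, 1, 1, 1, 1]

def Lu5' : List ℤ :=
  [1, 1, 1, 1, -1, -3, -1, -1, -1, -1, -1, -1, -1, -1, -3, -1, -1, -3, -1, -1, -1, -1, -1, 1]

theorem Lu5_mem : vecL Lu5 ∈ leechLattice :=
  mem_of_data _ 1 16777215 (Or.inr rfl) (by decide +kernel) (by decide +kernel)
    (by decide +kernel)

def u5 : leechLattice := ⟨vecL Lu5, Lu5_mem⟩

theorem xi_u5 : (xi u5).1 = vecL Lu5' := by
  rw [xi_val]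
  funext i
  revert i
  decide +kernel

def LuD : List ℤ := [0, 2, 2, 0, 0, 2, 0, 2, 2, 2, 2, 0, 0, 0, 2, 2, 0, 2, 0, 0, 0, 0, 2, 2]

def LuD' : List ℤ :=
  [3, 1, 1, -3, -1, -1, -1, 1, 1, -1, -1, -1, -1, -1, -1, -1, -1, -1, -1, -1, -3, -1, 1, 1]

theorem LuD_mem : vecL LuD ∈ leechLattice :=
  mem_of_data _ 0 12765094 (Or.inl rfl) (by decide +kernel) (by decide +kernel)
    (by decide +kernel)

def uD : leechLattice := ⟨vecL LuD, LuD_mem⟩

theorem xi_uD : (xi uD).1 = vecL LuD' := by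
  rw [xi_val]
  funext i
  revert i
  decide +kernel

def LuE : List ℤ := [-2, 0, 2, 0, 4, 2, 2, 0, 0, 2, 0, 0, 0, 0, 0, 0, 0, 2, 0, 0, 2, 2, 0, 0]

def LuE' : List ℤ :=
  [2, 0, -2, -2, 2, 0, 0, -2, 0, 0, -2, 0, 0, -2, -2, -2, -2, 0, 0, -2, 0, 0, -2, 0]

theorem LuE_mem : vecL LuE ∈ leechLattice :=
  mem_of_data _ 0 3277413 (Or.inl rfl) (by decide +kernel) (by decide +kernel)
    (by decide +kernel)

def uE : leechLattice := ⟨vecL LuE, LuE_mem⟩

theorem xi_uE : (xi uE).1 = vecL LuE' := by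
  rw [xi_val]
  funext i
  revert i
  decide +kernel

theorem relGF : Rel rG rF := by
  have h1 : RelN u5 rG := by
    apply nf_g <;> decide +kernel
  have h2 : RelN (xi u5) rF := by
    apply nf_f <;> rw [xi_u5] <;> decide +kernel
  exact h1.symm.rel.trans ((rel_xi u5).trans h2.rel)

theorem relDF : Rel rD rF := by
  have h1 : RelN uD rD := by
    apply nf_d <;> decide +kernel
  have h2 : RelN (xi uD) rF := by
    apply nf_f <;> rw [xi_uD] <;> decide +kernel
  exact h1.symm.rel.trans ((rel_xi uD).trans h2.rel)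

theorem relED : Rel rE rD := by
  have h1 : RelN uE rE := by
    apply nf_e <;> decide +kernel
  have h2 : RelN (xi uE) rD := by
    apply nf_d <;> rw [xi_uE] <;> decide +kernel
  exact h1.symm.rel.trans ((rel_xi uE).trans h2.rel)

/-- every lattice vector of sum of squares 48 is in the orbit of the standard one -/
theorem rel48 (x : leechLattice) (hn : sqNorm x.1 = 48) : Rel x rF := by
  rcases shapes48 x.1 x.2 hn with ⟨hp, h2, h0, hc⟩ | ⟨hp, h4, h2, h0, hc⟩ | ⟨hp, h3, h1⟩ |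
    ⟨hp, h5, h1⟩
  · exact (nf_d x hp h2 h0 hc).rel.trans relDF
  · exact (nf_e x hp h4 h2 h0 hc).rel.trans (relED.trans relDF)
  · exact (nf_f x hp h3 h1).rel
  · exact (nf_g x hp h5 h1).rel.trans relGF

theorem trans48 (v w : leechLattice) (hv : sqNorm v.1 = 48) (hw : sqNorm w.1 = 48) : Rel v w :=
  (rel48 v hv).trans (rel48 w hw).symm

end Cfsg.Agent.Lib.Helper9.LeechX9
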