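import Cfsg.Agent.Lib.Helper9.LeechD4
import Cfsg.Agent.Lib.Helper9.LeechX9
import Cfsg.Agent.Lib.Helper9.LeechC7

set_option autoImplicit false

/-! Census of lattice vectors by inner product with a fixed short vector. -/

namespace Cfsg.Agent.Lib.Helper9.LeechD5

open Cfsg Finset Cfsg.Agent.Lib.Helper4.Leech
  Cfsg.Agent.Lib.Helper9.LeechD3 Cfsg.Agent.Lib.Helper9.LeechD4
  Cfsg.Agent.Lib.Helper9.LeechX4 Cfsg.Agent.Lib.Helper9.LeechX7
  Cfsg.Agent.Lib.Helper9.LeechX8 Cfsg.Agent.Lib.Helper9.LeechX9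
  Cfsg.Agent.Lib.Helper9.LeechC7

theorem dot_pres' (g : Equiv.Perm leechLattice) (hg : g ∈ Co0) (v w : leechLattice) :
    dotInt (g v).1 (g w).1 = dotInt v.1 w.1 := by
  have h1 := hg.2 (v + w)
  rw [hg.1 v w] at h1
  have h2 : sqNorm ((g v).1 + (g w).1) = sqNorm (v.1 + w.1) := h1
  rw [sqNorm_add, sqNorm_add, hg.2 v, hg.2 w] at h2
  linarith

/-- the census by inner product is the same for two vectors in one orbit -/
theorem census_rel {v r : leechLattice} (h : Rel v r) (N s : ℤ) :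
    {w : GolayPt → ℤ | w ∈ leechLattice ∧ sqNorm w = N ∧ dotInt v.1 w = s}.ncard
      = {w : GolayPt → ℤ | w ∈ leechLattice ∧ sqNorm w = N ∧ dotInt r.1 w = s}.ncard := by
  obtain ⟨g, hg, rfl⟩ := h
  refine Set.ncard_congr (fun w hw => (g ⟨w, hw.1⟩).1) ?_ ?_ ?_
  · intro w hw
    refine ⟨(g ⟨w, hw.1⟩).2, ?_, ?_⟩
    · rw [hg.2 ⟨w, hw.1⟩]; exact hw.2.1
    · rw [dot_pres' g hg v ⟨w, hw.1⟩]; exact hw.2.2
  · intro w w' hw hw' he
    have := g.injective (Subtype.ext he)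
    exact congrArg Subtype.val this
  · intro w hw
    refine ⟨(g.symm ⟨w, hw.1⟩).1, ⟨(g.symm ⟨w, hw.1⟩).2, ?_, ?_⟩, ?_⟩
    · have := hg.2 (g.symm ⟨w, hw.1⟩)
      rw [Equiv.apply_symm_apply] at this
      rw [← this]; exact hw.2.1
    · have := dot_pres' g hg v (g.symm ⟨w, hw.1⟩)
      rw [Equiv.apply_symm_apply] at this
      rw [← this]; exact hw.2.2
    · show (g ⟨(g.symm ⟨w, hw.1⟩).1, _⟩).1 = w
      rw [Subtype.coe_eta, Equiv.apply_symm_apply]

theorem LC_vals : vecL LC none = -3 ∧ ∀ j : ZMod 23, vecL LC (some j) = 1 := by decide +kernel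

theorem LG_vals : vecL LG none = 5 ∧ ∀ j : ZMod 23, vecL LG (some j) = 1 := by decide +kernel

theorem dot_rC (w : GolayPt → ℤ) : dotInt rC.1 w = lin (-3) w := by
  unfold dotInt lin
  rw [Fintype.sum_option, Fintype.sum_option]
  show vecL LC none * w none + ∑ j : ZMod 23, vecL LC (some j) * w (some j) = _
  rw [LC_vals.1, Finset.sum_congr rfl (fun j _ => by rw [LC_vals.2 j, one_mul])]
  ring

theorem dot_rG (w : GolayPt → ℤ) : dotInt rG.1 w = lin 5 w := by
  unfold dotInt lin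
  rw [Fintype.sum_option, Fintype.sum_option]
  show vecL LG none * w none + ∑ j : ZMod 23, vecL LG (some j) * w (some j) = _
  rw [LG_vals.1, Finset.sum_congr rfl (fun j _ => by rw [LG_vals.2 j, one_mul])]
  ring

theorem hoffC : ∀ a ∈ Icc (-8 : ℤ) 8, 0 ≤ (-3 : ℤ) * a + 24 ∧ (-3 : ℤ) * a + 24 ≤ 143 := by
  intro a ha
  have := mem_Icc.mp ha
  constructor <;> omega

theorem hoffG : ∀ a ∈ Icc (-8 : ℤ) 8, 0 ≤ (5 : ℤ) * a + 40 ∧ (5 : ℤ) * a + 40 ≤ 143 := by
  intro a ha
  have := mem_Icc.mp ha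
  constructor <;> omega

/-- census for the standard vector `(1^23, -3)` -/
theorem census_rC (s : ℤ) (hs : s % 8 = 0) (hs0 : 0 ≤ s + 208) (hs1 : s + 208 < 512) :
    {w : GolayPt → ℤ | w ∈ leechLattice ∧ sqNorm w = (32 : ℕ) ∧ dotInt rC.1 w = s}.ncard
      = T1S (Icc (-8) 8) kF (kI (-3) 24) (512 * 32 + (s + 184 + 24).toNat) := by
  rw [← dot_count_all (-3) 24 (by norm_num) hoffC 32 (by norm_num) s hs (by omega) (by omega)]
  congr 1
  ext w
  simp only [Set.mem_setOf_eq, dot_rC]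

/-- census for the standard vector `(1^23, 5)` -/
theorem census_rG (s : ℤ) (hs : s % 8 = 0) (hs0 : 0 ≤ s + 224) (hs1 : s + 224 < 512) :
    {w : GolayPt → ℤ | w ∈ leechLattice ∧ sqNorm w = (32 : ℕ) ∧ dotInt rG.1 w = s}.ncard
      = T1S (Icc (-8) 8) kF (kI 5 40) (512 * 32 + (s + 184 + 40).toNat) := by
  rw [← dot_count_all 5 40 (by norm_num) hoffG 32 (by norm_num) s hs (by omega) (by omega)]
  congr 1
  ext w
  simp only [Set.mem_setOf_eq, dot_rG]

theorem census32 (v : leechLattice) (hv : sqNorm v.1 = 32) :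
    {w : GolayPt → ℤ | w ∈ leechLattice ∧ sqNorm w = 32 ∧ dotInt v.1 w = -16}.ncard = 4600 ∧
    {w : GolayPt → ℤ | w ∈ leechLattice ∧ sqNorm w = 32 ∧ dotInt v.1 w = -8}.ncard = 47104 ∧
    {w : GolayPt → ℤ | w ∈ leechLattice ∧ sqNorm w = 32 ∧ dotInt v.1 w = 0}.ncard = 93150 := by
  have hr := rel32 v hv
  refine ⟨?_, ?_, ?_⟩
  · rw [census_rel hr 32 (-16)]
    have := census_rC (-16) (by norm_num) (by norm_num) (by norm_num)
    rw [show ((-16 : ℤ) + 184 + 24).toNat = 192 by decide, T_m16] at this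
    exact_mod_cast this
  · rw [census_rel hr 32 (-8)]
    have := census_rC (-8) (by norm_num) (by norm_num) (by norm_num)
    rw [show ((-8 : ℤ) + 184 + 24).toNat = 200 by decide, T_m8] at this
    exact_mod_cast this
  · rw [census_rel hr 32 0]
    have := census_rC 0 (by norm_num) (by norm_num) (by norm_num)
    rw [show ((0 : ℤ) + 184 + 24).toNat = 208 by decide, T_0] at this
    exact_mod_cast this

theorem census48 (u : leechLattice) (hu : sqNorm u.1 = 48) :
    {w : GolayPt → ℤ | w ∈ leechLattice ∧ sqNorm w = 32 ∧ dotInt u.1 w = 24}.ncard = 552 ∧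
    {w : GolayPt → ℤ | w ∈ leechLattice ∧ sqNorm w = 32 ∧ dotInt u.1 w = -16}.ncard = 11178 := by
  have hr : Rel u rG := trans48 u rG hu (by decide +kernel)
  refine ⟨?_, ?_⟩
  · rw [census_rel hr 32 24]
    have := census_rG 24 (by norm_num) (by norm_num) (by norm_num)
    rw [show ((24 : ℤ) + 184 + 40).toNat = 248 by decide, T_24] at this
    exact_mod_cast this
  · rw [census_rel hr 32 (-16)]
    have := census_rG (-16) (by norm_num) (by norm_num) (by norm_num)
    rw [show ((-16 : ℤ) + 184 + 40).toNat = 208 by decide, T_u16] at this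
    exact_mod_cast this

end Cfsg.Agent.Lib.Helper9.LeechD5
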