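import Cfsg.Agent.Lib.Helper9.LeechE3
import Cfsg.Agent.Lib.Helper9.LeechX9

set_option autoImplicit false

/-! The hundred minimal vectors attached to the standard pair `(5, 1^23)`, `(-4, 4, 0^22)`. -/

namespace Cfsg.Agent.Lib.Helper9.LeechE4

open Cfsg Finset Cfsg.Agent.Lib.Helper4.Leech Cfsg.Agent.Lib.Helper9.LeechE3
  Cfsg.Agent.Lib.Helper9.LeechX7 Cfsg.Agent.Lib.Helper9.LeechX9 Cfsg.Agent.Lib.Helper9.LeechC7

/-! ### algebra of the inner product -/

theorem dot_comm (a b : GolayPt → ℤ) : dotInt a b = dotInt b a := by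
  unfold dotInt
  exact Finset.sum_congr rfl (fun i _ => mul_comm _ _)

theorem dot_neg_left (a b : GolayPt → ℤ) : dotInt (-a) b = -dotInt a b := by
  unfold dotInt
  rw [← Finset.sum_neg_distrib]
  exact Finset.sum_congr rfl (fun i _ => by simp)

theorem dot_neg_right (a b : GolayPt → ℤ) : dotInt a (-b) = -dotInt a b := by
  rw [dot_comm, dot_neg_left, dot_comm]

theorem dot_add_left (a b c : GolayPt → ℤ) : dotInt (a + b) c = dotInt a c + dotInt b c := by
  unfold dotInt
  rw [← Finset.sum_add_distrib]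
  exact Finset.sum_congr rfl (fun i _ => by simp only [Pi.add_apply]; ring)

theorem dot_add_right (a b c : GolayPt → ℤ) : dotInt a (b + c) = dotInt a b + dotInt a c := by
  rw [dot_comm, dot_add_left, dot_comm b a, dot_comm c a]

theorem dot_sub_left (a b c : GolayPt → ℤ) : dotInt (a - b) c = dotInt a c - dotInt b c := by
  rw [sub_eq_add_neg, dot_add_left, dot_neg_left]; ring

theorem dot_sub_right (a b c : GolayPt → ℤ) : dotInt a (b - c) = dotInt a b - dotInt a c := by
  rw [sub_eq_add_neg, dot_add_right, dot_neg_right]; ring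

theorem dot_self (a : GolayPt → ℤ) : dotInt a a = sqNorm a := by
  unfold dotInt sqNorm
  exact Finset.sum_congr rfl (fun i _ => by ring)

/-- inner product with a vector constant outside the two standard positions -/
theorem dot_eq_lin2 (a x : GolayPt → ℤ) (r p q : ℤ) (ha : ∀ k, a k = cf r p q k) :
    dotInt a x = lin2 r p q x := by
  unfold dotInt
  rw [← sum_cf_mul]
  exact Finset.sum_congr rfl (fun i _ => by rw [ha i])

theorem lin2_comb (r p q r' p' q' m : ℤ) (x : GolayPt → ℤ) :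
    lin2 r p q x + m * lin2 r' p' q' x = lin2 (r + m * r') (p + m * p') (q + m * q') x := by
  unfold lin2; ring

/-! ### the standard pair -/

def Lz0 : List ℤ := [4, 0, 0, 0, 0, 0, 0, 0, 0, 0, 0, 0, 0, 0, 0, 0, 0, 0, 0, 0, 0, 0, 0, -4]

theorem Lz0_mem : vecL Lz0 ∈ leechLattice :=
  mem_of_data _ 0 0 (Or.inl rfl) (by decide +kernel) (by decide +kernel) (by decide +kernel)

/-- the vector `(-4, 4, 0, …)` -/
def z0 : leechLattice := ⟨vecL Lz0, Lz0_mem⟩

theorem z0_vals : ∀ k : GolayPt, z0.1 k = cf 0 (-4) 4 k := by decide +kernel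

theorem rG_vals : ∀ k : GolayPt, rG.1 k = cf 1 5 1 k := by decide +kernel

theorem z0_norm : sqNorm z0.1 = 32 := by decide +kernel

theorem rG_norm : sqNorm rG.1 = 48 := by decide +kernel

theorem rG_z0 : dotInt rG.1 z0.1 = -16 := by decide +kernel

theorem dot_z0 (x : GolayPt → ℤ) : dotInt z0.1 x = lin2 0 (-4) 4 x :=
  dot_eq_lin2 _ _ _ _ _ z0_vals

theorem dot_rG' (x : GolayPt → ℤ) : dotInt rG.1 x = lin2 1 5 1 x :=
  dot_eq_lin2 _ _ _ _ _ rG_vals

set_option maxRecDepth 100000 in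
theorem T_hs100 : T2S (Icc (-5) 5) (kG 1024 1 5) (kG 1024 (-31) 155) (kG 1024 37 185)
    (1024 * 32 + 474) = 100 := by
  decide +kernel

theorem hpos_hs : ∀ i, ∀ a ∈ Icc (-5 : ℤ) 5, 0 ≤ cf 1 (-31) 37 i * a + cf 5 155 185 i ∧
    cf 1 (-31) 37 i * a + cf 5 155 185 i ≤ cf 10 310 370 i := by
  decide +kernel

/-- a bound from the Cauchy–Schwarz inequality -/
theorem dot_abs_lt (a b : GolayPt → ℤ) (M : ℤ) (hM : 0 ≤ M) (h : sqNorm a * sqNorm b < M ^ 2) :
    -M < dotInt a b ∧ dotInt a b < M := by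
  have h1 := dot_sq_le a b
  have h2 : dotInt a b ^ 2 < M ^ 2 := lt_of_le_of_lt h1 h
  have h3 := abs_lt_of_sq_lt_sq h2 hM
  exact abs_lt.mp h3

/-- the standard count: a hundred minimal vectors -/
theorem count_std :
    {x : GolayPt → ℤ | x ∈ leechLattice ∧ sqNorm x = 32 ∧ dotInt rG.1 x = 24 ∧
      dotInt z0.1 x = 0}.ncard = 100 := by
  have h := lin2_count_all 1024 1 (-31) 37 5 155 185 10 310 370 hpos_hs (by norm_num) 32
    (by norm_num) 24 (by norm_num) (by norm_num) (Or.inr ⟨by norm_num, by norm_num⟩)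
    (by norm_num) (by norm_num)
  rw [show ((24 : ℤ) + (22 * 5 + 155 + 185)).toNat = 474 by decide, T_hs100] at h
  rw [← h]
  congr 1
  ext x
  simp only [Set.mem_setOf_eq]
  have hcomb : dotInt rG.1 x + 9 * dotInt z0.1 x = lin2 1 (-31) 37 x := by
    rw [dot_rG', dot_z0, lin2_comb]
    norm_num
  constructor
  · rintro ⟨h1, h2, h3, h4⟩
    refine ⟨h1, by exact_mod_cast h2, ?_⟩
    rw [← hcomb, h3, h4]; norm_num
  · rintro ⟨h1, h2, h3⟩
    have h2' : sqNorm x = 32 := by exact_mod_cast h2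
    rw [← hcomb] at h3
    obtain ⟨k, hk⟩ := dot_dvd8 z0.1 x z0.2 h1
    obtain ⟨b1, b2⟩ := dot_abs_lt rG.1 x 40 (by norm_num) (by rw [rG_norm, h2']; norm_num)
    have hk0 : k = 0 := by omega
    refine ⟨h1, h2', by omega, by omega⟩

end Cfsg.Agent.Lib.Helper9.LeechE4
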