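import Cfsg.Agent.Lib.Helper9.Co2orbf
import Cfsg.Agent.Lib.Helper9.LeechD5
import Cfsg.Agent.Lib.Helper9.LeechE4

set_option autoImplicit false

/-! The orbits of the stabiliser of the standard pair of minimal vectors with inner product `-8`
on the 47104 minimal vectors with inner product `-8` with the first of them. -/

namespace Cfsg.Agent.Lib.Helper9.Co2orbg

open Cfsg Cfsg.Agent.Lib.Helper4.Leech
  Cfsg.Agent.Lib.Helper9.LeechX5 Cfsg.Agent.Lib.Helper9.LeechX7 Cfsg.Agent.Lib.Helper9.LeechX8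
  Cfsg.Agent.Lib.Helper9.LeechX9 Cfsg.Agent.Lib.Helper9.LeechX11 Cfsg.Agent.Lib.Helper9.LeechE4
  Cfsg.Agent.Lib.Helper9.OrbCert0 Cfsg.Agent.Lib.Helper9.OrbCert1
  Cfsg.Agent.Lib.Helper9.OrbCert2 Cfsg.Agent.Lib.Helper9.OrbCert5
  Cfsg.Agent.Lib.Helper9.Co2orba Cfsg.Agent.Lib.Helper9.Co2orbb0 Cfsg.Agent.Lib.Helper9.Co2orbf

theorem b3_code : b3.1 = vecN cb3 := by
  funext i
  revert i
  decide +kernel

theorem a3_norm : sqNorm a3.1 = 32 := by decide +kernel
theorem b3_norm : sqNorm b3.1 = 32 := by decide +kernel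
theorem a3_b3 : dotInt a3.1 b3.1 = -8 := by decide +kernel

/-- the set of the 47104 vectors, as functions -/
def SF : Set (GolayPt → ℤ) := {w | w ∈ leechLattice ∧ sqNorm w = 32 ∧ dotInt a3.1 w = -8}

theorem SF_card : SF.ncard = 47104 := (Cfsg.Agent.Lib.Helper9.LeechD5.census32 a3 a3_norm).2.1

/-- the invariant separating the orbits -/
def phi (y : leechLattice) : ℤ := dotInt b3.1 y.1

theorem phi_inv (n : Equiv.Perm leechLattice) (hn : Good n) (y : leechLattice) :
    phi (n y) = phi y := by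
  have := dot_pres n hn.1 b3 y
  rw [hn.2.2] at this
  exact this

theorem SF_inv (n : Equiv.Perm leechLattice) (hn : Good n) (y : leechLattice) (hy : y.1 ∈ SF) :
    (n y).1 ∈ SF := by
  obtain ⟨-, h2, h3⟩ := hy
  refine ⟨(n y).2, by rw [hn.1.2, h2], ?_⟩
  have := dot_pres n hn.1 a3 y
  rw [hn.2.1] at this
  rw [this, h3]

theorem hroot : ∀ b ∈ blocks, b.1.1 ∈ SF := by
  intro b hb
  simp only [blocks, List.mem_cons, List.not_mem_nil, or_false] at hb
  rcases hb with rfl | rfl | rfl | rfl | rfl | rfl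
  · exact ⟨b3.2, by decide +kernel, by decide +kernel⟩
  · exact ⟨ym16.2, by decide +kernel, by decide +kernel⟩
  · exact ⟨ym8.2, by decide +kernel, by decide +kernel⟩
  · exact ⟨yp0.2, by decide +kernel, by decide +kernel⟩
  · exact ⟨yp8.2, by decide +kernel, by decide +kernel⟩
  · exact ⟨yp16.2, by decide +kernel, by decide +kernel⟩

theorem hin : ∀ b ∈ blocks, ∀ c ∈ b.2, InOrb Good b.1 c := by
  intro b hb
  simp only [blocks, List.mem_cons, List.not_mem_nil, or_false] at hb
  rcases hb with rfl | rfl | rfl | rfl | rfl | rfl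
  · intro c hc
    rw [List.mem_singleton] at hc
    rw [hc]
    exact ⟨1, good_one, b3_code⟩
  · exact inorb_m16
  · exact inorb_m8
  · exact inorb_p0
  · exact inorb_p8
  · exact inorb_p16

theorem hsub : ∀ b ∈ blocks, ∀ c ∈ b.2, vecN c ∈ SF := by
  intro b hb c hc
  obtain ⟨n, hn, hnc⟩ := hin b hb c hc
  rw [← hnc]
  exact SF_inv n hn b.1 (hroot b hb)

theorem hcov : ∀ w ∈ SF, ∃ b ∈ blocks, ∃ c ∈ b.2, w = vecN c :=
  cover SF 47104 SF_card (by norm_num) blocks hsub hnd len_all

theorem phi_b3 : phi b3 = 32 := by decide +kernel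
theorem phi_m16 : phi ym16 = -16 := by decide +kernel
theorem phi_m8 : phi ym8 = -8 := by decide +kernel
theorem phi_p0 : phi yp0 = 0 := by decide +kernel
theorem phi_p8 : phi yp8 = 8 := by decide +kernel
theorem phi_p16 : phi yp16 = 16 := by decide +kernel

theorem hsep : ∀ b ∈ blocks, ∀ b' ∈ blocks, phi b.1 = phi b'.1 → b = b' := by
  intro b hb b' hb' h
  simp only [blocks, List.mem_cons, List.not_mem_nil, or_false] at hb hb'
  rcases hb with rfl | rfl | rfl | rfl | rfl | rfl <;>
    rcases hb' with rfl | rfl | rfl | rfl | rfl | rfl <;>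
    first
    | rfl
    | (exfalso; simp only [phi_b3, phi_m16, phi_m8, phi_p0, phi_p8, phi_p16] at h; omega)

theorem orb (b : leechLattice × List ℕ) (hb : b ∈ blocks) :
    Orb Good b.1 = {y : leechLattice | y.1 ∈ SF ∧ phi y = phi b.1} ∧
      (Orb Good b.1).ncard = b.2.length :=
  orbit_eq_card SF blocks phi phi_inv hin hcov SF_inv hroot hsep hnd b hb

theorem card_m16 : {y : leechLattice | y.1 ∈ SF ∧ phi y = -16}.ncard = 275 := by
  have h := orb (ym16, codes_m16) (by simp [blocks])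
  rw [h.1, phi_m16] at h
  exact h.2.trans len_m16

theorem card_m8 : {y : leechLattice | y.1 ∈ SF ∧ phi y = -8}.ncard = 7128 := by
  have h := orb (ym8, codes_m8) (by simp [blocks])
  rw [h.1, phi_m8] at h
  exact h.2.trans len_m8

theorem card_p0 : {y : leechLattice | y.1 ∈ SF ∧ phi y = 0}.ncard = 22275 := by
  have h := orb (yp0, codes_p0) (by simp [blocks])
  rw [h.1, phi_p0] at h
  exact h.2.trans len_p0

theorem card_p8 : {y : leechLattice | y.1 ∈ SF ∧ phi y = 8}.ncard = 15400 := by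
  have h := orb (yp8, codes_p8) (by simp [blocks])
  rw [h.1, phi_p8] at h
  exact h.2.trans len_p8

theorem card_p16 : {y : leechLattice | y.1 ∈ SF ∧ phi y = 16}.ncard = 2025 := by
  have h := orb (yp16, codes_p16) (by simp [blocks])
  rw [h.1, phi_p16] at h
  exact h.2.trans len_p16

/-- the values of the invariant -/
theorem phi_cases (y : leechLattice) (hy : y.1 ∈ SF) :
    phi y = 32 ∨ phi y = -16 ∨ phi y = -8 ∨ phi y = 0 ∨ phi y = 8 ∨ phi y = 16 := by
  obtain ⟨b, hb, c, hc, hyc⟩ := hcov y.1 hy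
  obtain ⟨n, hn, hnc⟩ := hin b hb c hc
  have e1 : n b.1 = y := Subtype.ext (by rw [hnc, hyc])
  have e2 : phi y = phi b.1 := by rw [← e1, phi_inv n hn]
  simp only [blocks, List.mem_cons, List.not_mem_nil, or_false] at hb
  rcases hb with rfl | rfl | rfl | rfl | rfl | rfl
  · left; rw [e2, phi_b3]
  · right; left; rw [e2, phi_m16]
  · right; right; left; rw [e2, phi_m8]
  · right; right; right; left; rw [e2, phi_p0]
  · right; right; right; right; left; rw [e2, phi_p8]
  · right; right; right; right; right; rw [e2, phi_p16]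

/-- two of the 47104 vectors with the same inner product with the base point are conjugate -/
theorem trans (y y' : leechLattice) (hy : y.1 ∈ SF) (hy' : y'.1 ∈ SF) (h : phi y = phi y') :
    ∃ n, Good n ∧ n y = y' := by
  obtain ⟨b, hb, c, hc, hyc⟩ := hcov y.1 hy
  obtain ⟨n, hn, hnc⟩ := hin b hb c hc
  have e1 : n b.1 = y := Subtype.ext (by rw [hnc, hyc])
  obtain ⟨b', hb', c', hc', hyc'⟩ := hcov y'.1 hy'
  obtain ⟨n', hn', hnc'⟩ := hin b' hb' c' hc'
  have e2 : n' b'.1 = y' := Subtype.ext (by rw [hnc', hyc'])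
  have hbb : b = b' := by
    apply hsep b hb b' hb'
    rw [← phi_inv n hn b.1, ← phi_inv n' hn' b'.1, e1, e2, h]
  subst hbb
  refine ⟨n' * n⁻¹, good_mul _ _ hn' (good_inv _ hn), ?_⟩
  rw [Equiv.Perm.mul_apply, ← e1]
  have : n⁻¹ (n b.1) = b.1 := by simp
  rw [this, e2]

end Cfsg.Agent.Lib.Helper9.Co2orbg
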