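import Cfsg.Agent.Lib.Helper9.Co2orbb5
import Cfsg.Agent.Lib.Helper9.Co2orbc
import Cfsg.Agent.Lib.Helper9.OrbCert5

set_option autoImplicit false

/-! The checks of distinctness for the 47104 vectors. -/

namespace Cfsg.Agent.Lib.Helper9.Co2orbi5

open Cfsg Cfsg.Agent.Lib.Helper9.OrbCert0 Cfsg.Agent.Lib.Helper9.OrbCert1
  Cfsg.Agent.Lib.Helper9.OrbCert5
  Cfsg.Agent.Lib.Helper9.Co2orbb5 Cfsg.Agent.Lib.Helper9.Co2orbc

set_option maxRecDepth 10000000 in
theorem idx38 : idxChk T (ecodes E38) 37085 = true := by decide +kernel

set_option maxRecDepth 10000000 in
theorem len38 : (ecodes E38).length = 1016 := by decide +kernel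

set_option maxRecDepth 10000000 in
theorem idx39 : idxChk T (ecodes E39) 38101 = true := by decide +kernel

set_option maxRecDepth 10000000 in
theorem len39 : (ecodes E39).length = 1097 := by decide +kernel

set_option maxRecDepth 10000000 in
theorem idx40 : idxChk T (ecodes E40) 39198 = true := by decide +kernel

set_option maxRecDepth 10000000 in
theorem len40 : (ecodes E40).length = 1627 := by decide +kernel

set_option maxRecDepth 10000000 in
theorem idx41 : idxChk T (ecodes E41) 40825 = true := by decide +kernel

set_option maxRecDepth 10000000 in
theorem len41 : (ecodes E41).length = 709 := by decide +kernel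

set_option maxRecDepth 10000000 in
theorem idx42 : idxChk T (ecodes E42) 41534 = true := by decide +kernel

set_option maxRecDepth 10000000 in
theorem len42 : (ecodes E42).length = 1106 := by decide +kernel

set_option maxRecDepth 10000000 in
theorem idx43 : idxChk T (ecodes E43) 42640 = true := by decide +kernel

set_option maxRecDepth 10000000 in
theorem len43 : (ecodes E43).length = 812 := by decide +kernel

set_option maxRecDepth 10000000 in
theorem idx44 : idxChk T (ecodes E44) 43452 = true := by decide +kernel

set_option maxRecDepth 10000000 in
theorem len44 : (ecodes E44).length = 880 := by decide +kernel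

set_option maxRecDepth 10000000 in
theorem idx45 : idxChk T (ecodes E45) 44332 = true := by decide +kernel

set_option maxRecDepth 10000000 in
theorem len45 : (ecodes E45).length = 747 := by decide +kernel

end Cfsg.Agent.Lib.Helper9.Co2orbi5
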