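import Cfsg.Agent.Lib.Helper5.ThreeTransSp
import Cfsg.Agent.Lib.Helper5.SympCard
import Cfsg.Agent.S0270
import Cfsg.Agent.S0246
import Cfsg.Agent.Lib.Helper9.Sp6D

set_option autoImplicit false
set_option maxRecDepth 100000

/-! The symplectic group of dimension six over the field with two elements acts on the 28
quadratic forms of minus type with polar form the symplectic form: the permutation representation
of degree 28, faithful, with the images of the transvections given by a table. -/

namespace Cfsg.Agent.Lib.Helper9.Sp6F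

open Matrix Cfsg Cfsg.Agent.Lib.Helper5.SympTv Cfsg.Agent.Lib.Helper5.SympPerfect
  Cfsg.Agent.Lib.Helper5.ThreeTransSp Cfsg.Agent.Lib.Helper5.SympBridge
  Cfsg.Agent.Lib.Helper9.Sp6D

/-- the vectors -/
abbrev V : Type := Fin 3 ⊕ Fin 3 → ZMod 2

/-- the group -/
abbrev Sp : Type := ↥(symplecticGroup (Fin 3) (ZMod 2))

/-- the symplectic form, written out -/
def bf (u v : V) : ZMod 2 :=
  ∑ i : Fin 3, (u (Sum.inr i) * v (Sum.inl i) + u (Sum.inl i) * v (Sum.inr i))

theorem sub_eq_add2 (a b : ZMod 2) : a - b = a + b := by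
  revert a b
  decide

theorem sympForm_eq_bf (u v : V) : sympForm 3 (ZMod 2) u v = bf u v := by
  unfold sympForm Matrix.J bf
  rw [Matrix.fromBlocks_mulVec]
  simp only [dotProduct, Fintype.sum_sum_type, Sum.elim_inl, Sum.elim_inr, Matrix.zero_mulVec,
    Matrix.neg_mulVec, Matrix.one_mulVec, zero_add, add_zero, Pi.neg_apply, Function.comp_apply]
  rw [← Finset.sum_add_distrib]
  apply Finset.sum_congr rfl
  intro i _
  rw [mul_neg]
  generalize u (Sum.inl i) * v (Sum.inr i) = a
  generalize u (Sum.inr i) * v (Sum.inl i) = b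
  revert a b
  decide

/-- the standard quadratic form -/
def q0 (x : V) : ZMod 2 := ∑ i : Fin 3, x (Sum.inl i) * x (Sum.inr i)

theorem q0_add (x y : V) : q0 (x + y) = q0 x + q0 y + bf x y := by
  unfold q0 bf
  rw [← Finset.sum_add_distrib, ← Finset.sum_add_distrib]
  apply Finset.sum_congr rfl
  intro i _
  simp only [Pi.add_apply]
  ring

theorem mul_self2 (a : ZMod 2) : a * a = a := by
  revert a
  decide

theorem add_self2 (a : ZMod 2) : a + a = 0 := by
  revert a
  decide

theorem q0_smul (a : ZMod 2) (x : V) : q0 (a • x) = a * q0 x := by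
  unfold q0
  rw [Finset.mul_sum]
  apply Finset.sum_congr rfl
  intro i _
  simp only [Pi.smul_apply, smul_eq_mul]
  calc a * x (Sum.inl i) * (a * x (Sum.inr i)) = (a * a) * (x (Sum.inl i) * x (Sum.inr i)) := by ring
    _ = a * (x (Sum.inl i) * x (Sum.inr i)) := by rw [mul_self2]

/-- the quadratic form of a vector -/
def qv (v : V) : V → ZMod 2 := fun x => q0 x + sympForm 3 (ZMod 2) v x

theorem qv_injective : Function.Injective qv := by
  intro v v' h
  have h1 : ∀ x, sympForm 3 (ZMod 2) (v - v') x = 0 := by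
    intro x
    have := congrFun h x
    unfold qv at this
    rw [sympForm_sub_left, add_left_cancel this, sub_self]
  have := eq_zero_of_sympForm_right 3 (v - v') h1
  exact sub_eq_zero.mp this

/-! ### the action on functions -/

theorem inv_mulVec_mulVec' (g : Sp) (x : V) : g.1 *ᵥ ((g⁻¹).1 *ᵥ x) = x := by
  have := inv_mulVec_mulVec 3 g⁻¹ x
  rwa [inv_inv] at this

/-- the action of the group on functions on the vectors -/
def actF : Sp →* Equiv.Perm (V → ZMod 2) where
  toFun g :=
    { toFun := fun f x => f ((g⁻¹).1 *ᵥ x)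
      invFun := fun f x => f (g.1 *ᵥ x)
      left_inv := fun f => by
        funext x
        show f ((g⁻¹).1 *ᵥ (g.1 *ᵥ x)) = f x
        rw [inv_mulVec_mulVec]
      right_inv := fun f => by
        funext x
        show f (g.1 *ᵥ ((g⁻¹).1 *ᵥ x)) = f x
        rw [inv_mulVec_mulVec'] }
  map_one' := by
    apply Equiv.ext
    intro f
    funext x
    show f (((1 : Sp)⁻¹).1 *ᵥ x) = f x
    rw [inv_one]
    show f ((1 : Matrix (Fin 3 ⊕ Fin 3) (Fin 3 ⊕ Fin 3) (ZMod 2)) *ᵥ x) = f x
    rw [Matrix.one_mulVec]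
  map_mul' g h := by
    apply Equiv.ext
    intro f
    funext x
    show f (((g * h)⁻¹).1 *ᵥ x) = f ((h⁻¹).1 *ᵥ ((g⁻¹).1 *ᵥ x))
    rw [_root_.mul_inv_rev, Matrix.mulVec_mulVec]
    rfl

theorem actF_apply (g : Sp) (f : V → ZMod 2) (x : V) : actF g f x = f ((g⁻¹).1 *ᵥ x) := rfl

/-- the coefficient of the translation of a form by a transvection -/
def kap (w v : V) : ZMod 2 := q0 w + 1 + sympForm 3 (ZMod 2) v w

theorem q0_add' (x y : V) : q0 (x + y) = q0 x + q0 y + sympForm 3 (ZMod 2) x y := by
  rw [q0_add, sympForm_eq_bf]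

theorem sympForm_symm (x y : V) : sympForm 3 (ZMod 2) x y = sympForm 3 (ZMod 2) y x := by
  rw [sympForm_swap]
  generalize sympForm 3 (ZMod 2) y x = a
  revert a
  decide

/-- a transvection maps the form of a vector to the form of a translate of the vector -/
theorem actF_tv (w v : V) : actF (tv 3 w 1) (qv v) = qv (v + kap w v • w) := by
  funext x
  rw [actF_apply, tv_inv, tv_coe, sympTransvection_mulVec, one_mul]
  show q0 (x + sympForm 3 (ZMod 2) x w • w) +
      sympForm 3 (ZMod 2) v (x + sympForm 3 (ZMod 2) x w • w) =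
    q0 x + sympForm 3 (ZMod 2) (v + kap w v • w) x
  rw [q0_add', q0_smul, sympForm_smul_right, sympForm_add_right, sympForm_smul_right,
    sympForm_add_left, sympForm_smul_left, sympForm_symm w x]
  unfold kap
  generalize sympForm 3 (ZMod 2) x w = a
  generalize sympForm 3 (ZMod 2) v w = b
  generalize sympForm 3 (ZMod 2) v x = c
  generalize q0 w = d
  generalize q0 x = e
  revert a b c d e
  decide

theorem q0_translate (w v : V) : q0 (v + kap w v • w) = q0 v := by
  rw [q0_add', q0_smul, sympForm_smul_right]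
  unfold kap
  generalize sympForm 3 (ZMod 2) v w = b
  generalize q0 w = d
  generalize q0 v = e
  revert b d e
  decide

/-! ### the forms of minus type -/

/-- the forms of minus type -/
def Om : Set (V → ZMod 2) := {f | ∃ v, q0 v = 1 ∧ f = qv v}

theorem tv_Om (w : V) (f : V → ZMod 2) (hf : f ∈ Om) : actF (tv 3 w 1) f ∈ Om := by
  obtain ⟨v, hv, rfl⟩ := hf
  exact ⟨_, by rw [q0_translate, hv], actF_tv w v⟩

theorem tv_Om_iff (w : V) (f : V → ZMod 2) : f ∈ Om ↔ actF (tv 3 w 1) f ∈ Om := by
  constructor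
  · exact tv_Om w f
  · intro h
    have := tv_Om w _ h
    rwa [← Equiv.Perm.mul_apply, ← map_mul, tv_sq, map_one, Equiv.Perm.one_apply] at this

theorem act_Om_iff (g : Sp) : ∀ f, f ∈ Om ↔ actF g f ∈ Om := by
  have hg : g ∈ Subgroup.closure (D 3) := by
    rw [closure_D]
    trivial
  induction hg using Subgroup.closure_induction with
  | mem x hx =>
    obtain ⟨u, -, rfl⟩ := (mem_D_iff 3 x).mp hx
    exact tv_Om_iff u
  | one =>
    intro f
    rw [map_one, Equiv.Perm.one_apply]
  | mul x y _ _ hx hy =>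
    intro f
    rw [map_mul, Equiv.Perm.mul_apply, ← hx, ← hy]
  | inv x _ hx =>
    intro f
    rw [hx (actF x⁻¹ f), ← Equiv.Perm.mul_apply, ← map_mul, mul_inv_cancel, map_one,
      Equiv.Perm.one_apply]

/-- the action on the forms of minus type -/
def actOm : Sp →* Equiv.Perm ↥Om where
  toFun g := (actF g).subtypePerm (fun f => (act_Om_iff g f).symm)
  map_one' := by
    apply Equiv.ext
    intro f
    apply Subtype.ext
    show actF 1 f.1 = f.1
    rw [map_one, Equiv.Perm.one_apply]
  map_mul' g h := by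
    apply Equiv.ext
    intro f
    apply Subtype.ext
    show actF (g * h) f.1 = actF g (actF h f.1)
    rw [map_mul, Equiv.Perm.mul_apply]

theorem actOm_val (g : Sp) (f : ↥Om) : (actOm g f).1 = actF g f.1 := rfl

/-! ### numbering -/

/-- the vector of a number below `64` -/
def vecOf (n : ℕ) : V := fun s =>
  match s with
  | Sum.inl i => if n.testBit i.1 then 1 else 0
  | Sum.inr i => if n.testBit (i.1 + 3) then 1 else 0

/-- the number of the vector of a form -/
def labF (i : Fin 28) : ℕ := LAB.getD i.1 0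

theorem lab_q0 : ∀ i : Fin 28, q0 (vecOf (labF i)) = 1 := by decide

theorem lab_all : ∀ v : V, q0 v = 1 → ∃ i : Fin 28, vecOf (labF i) = v := by decide

theorem lab_inj : ∀ i j : Fin 28, labF i = labF j → i = j := by decide

theorem vecOf_inj : ∀ a b : Fin 64, vecOf a.1 = vecOf b.1 → a = b := by decide

theorem vecOf_surj : ∀ v : V, ∃ a : Fin 64, vecOf a.1 = v := by decide

theorem lab_lt : ∀ i : Fin 28, labF i < 64 := by decide

/-- the numbering of the forms -/
def pt (i : Fin 28) : ↥Om := ⟨qv (vecOf (labF i)), _, lab_q0 i, rfl⟩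

theorem pt_bijective : Function.Bijective pt := by
  constructor
  · intro i j h
    have h1 : qv (vecOf (labF i)) = qv (vecOf (labF j)) := congrArg Subtype.val h
    have h2 := qv_injective h1
    have h3 := vecOf_inj ⟨labF i, lab_lt i⟩ ⟨labF j, lab_lt j⟩ h2
    exact lab_inj i j (congrArg Fin.val h3)
  · rintro ⟨f, v, hv, rfl⟩
    obtain ⟨i, hi⟩ := lab_all v hv
    refine ⟨i, ?_⟩
    apply Subtype.ext
    show qv (vecOf (labF i)) = qv v
    rw [hi]

/-- the numbering of the forms -/
noncomputable def e28 : Fin 28 ≃ ↥Om := Equiv.ofBijective pt pt_bijective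

/-- the permutation representation of degree 28 -/
noncomputable def rep : Sp →* Equiv.Perm (Fin 28) :=
  (e28.symm.permCongrHom : Equiv.Perm ↥Om ≃* Equiv.Perm (Fin 28)).toMonoidHom.comp actOm

theorem rep_eq (g : Sp) (i j : Fin 28) (h : actF g (qv (vecOf (labF i))) = qv (vecOf (labF j))) :
    rep g i = j := by
  show e28.symm (actOm g (e28.symm.symm i)) = j
  rw [Equiv.symm_symm]
  have : actOm g (e28 i) = e28 j := by
    apply Subtype.ext
    exact h
  rw [this, Equiv.symm_apply_apply]

theorem pit_lt : ∀ n : Fin 64, ∀ i : Fin 28, pit n.1 i.1 < 28 := by decide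

theorem pit_spec : ∀ n : Fin 64, ∀ i : Fin 28,
    vecOf (LAB.getD (pit n.1 i.1) 0) =
      vecOf (labF i) + kap (vecOf n.1) (vecOf (labF i)) • vecOf n.1 := by
  intro n i
  unfold kap
  rw [sympForm_eq_bf]
  revert n i
  decide +kernel

/-- the image of a transvection -/
theorem rep_tv (n : Fin 64) (i : Fin 28) : (rep (tv 3 (vecOf n.1) 1) i).1 = pit n.1 i.1 := by
  have h := rep_eq (tv 3 (vecOf n.1) 1) i ⟨pit n.1 i.1, pit_lt n i⟩ (by
    rw [actF_tv]
    congr 1
    exact (pit_spec n i).symm)
  rw [h]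

/-! ### the group -/

theorem card_Sp : Nat.card Sp = 1451520 := by
  rw [Cfsg.Agent.Lib.Helper5.SympCard.card_symplecticGroup 3, ZMod.card]
  decide

theorem center_Sp : Subgroup.center Sp = ⊥ := by
  apply Subgroup.eq_bot_of_card_eq
  rw [Cfsg.Agent.S0246.result (F := ZMod 2) (q := 2) (ZMod.card 2) 3 (by norm_num)]
  decide

instance simple_Sp : IsSimpleGroup Sp := by
  haveI : IsSimpleGroup (Cfsg.PSp 3 (ZMod 2)) :=
    Cfsg.Agent.S0270.result (F := ZMod 2) 3 (by norm_num) (by intro h; norm_num at h)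
  have e : Cfsg.PSp 3 (ZMod 2) ≃* Sp :=
    (QuotientGroup.quotientMulEquivOfEq center_Sp).trans QuotientGroup.quotientBot
  exact e.symm.isSimpleGroup

theorem not_two_group : ¬ IsPGroup 2 Sp := by
  intro h
  obtain ⟨n, hn⟩ := IsPGroup.iff_card.mp h
  rw [card_Sp] at hn
  have h3 : 3 ∣ 2 ^ n := by
    rw [← hn]
    norm_num
  have := (Nat.Prime.dvd_of_dvd_pow Nat.prime_three h3)
  omega

theorem rep_ne : rep (tv 3 (vecOf 1) 1) ≠ 1 := by
  intro h
  have h1 := rep_tv ⟨1, by norm_num⟩ ⟨2, by norm_num⟩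
  rw [h] at h1
  have h2 : pit 1 2 = 2 := h1.symm
  exact absurd h2 (by decide)

theorem rep_injective : Function.Injective rep := by
  rw [← MonoidHom.ker_eq_bot_iff]
  rcases (MonoidHom.normal_ker rep).eq_bot_or_eq_top with h | h
  · exact h
  · exfalso
    apply rep_ne
    have : tv 3 (vecOf 1) 1 ∈ rep.ker := by
      rw [h]
      trivial
    exact MonoidHom.mem_ker.mp this

/-- the image of the group is generated by the images of the transvections -/
theorem range_le (T : Subgroup (Equiv.Perm (Fin 28)))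
    (h : ∀ n : Fin 64, n.1 ≠ 0 → rep (tv 3 (vecOf n.1) 1) ∈ T) : rep.range ≤ T := by
  rw [MonoidHom.range_eq_map, ← closure_D 3, MonoidHom.map_closure, Subgroup.closure_le]
  rintro _ ⟨g, hg, rfl⟩
  obtain ⟨u, hu, rfl⟩ := (mem_D_iff 3 g).mp hg
  obtain ⟨a, rfl⟩ := vecOf_surj u
  apply h a
  intro h0
  apply hu
  rw [h0]
  funext s
  rcases s with i | i <;> simp [vecOf]

end Cfsg.Agent.Lib.Helper9.Sp6F
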