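import Cfsg.Agent.Lib.Helper9.Co2j
import Cfsg.Agent.Lib.Helper9.Co2p
import Cfsg.Agent.Lib.Helper9.Sp6F
import Cfsg.Agent.Lib.Helper9.CentSp
import Cfsg.Agent.Lib.Helper9.ExtraCl
import Cfsg.Agent.Lib.Helper7.TvAff1

set_option autoImplicit false
set_option maxRecDepth 100000

/-! The centraliser of an involution of the permutation group of degree 4600: its order from
the 56925 distinct conjugates of the involution, its action on the 28 blocks of fixed points
of the involution, with kernel the extraspecial group of order `2 ^ 9` and image the symplectic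
group of dimension six over the field with two elements. -/

namespace Cfsg.Agent.Lib.Helper9.Co2a

open Cfsg Cfsg.Agent.Lib.Helper8.SQ Cfsg.Agent.Lib.Helper8.SS Cfsg.Agent.Lib.Helper8.MatN
  Cfsg.Agent.Lib.Helper8.FastDec Cfsg.Agent.Lib.Helper9.PW Cfsg.Agent.Lib.Helper9.OutI
  Cfsg.Agent.Lib.Helper9.GrpCount Cfsg.Agent.Lib.Helper9.Sp6D Cfsg.Agent.Lib.Helper9.Sp6F
  Cfsg.Agent.Lib.Helper5.SympPerfect

/-! ### the conjugates of the involution -/

theorem rrP_conj (j : ℕ) :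
    rrP j = KW K tabN (rdE j).1 * r0 * (KW K tabN (rdE j).1)⁻¹ := by
  unfold rrP rrW
  rw [KW_conjW allReal inv_letter (rdE j).1 [1] (rdE_lt j), kw_r0]

theorem clsW_conj {i : ℕ} (hi : i < 23) (j : ℕ) :
    ∃ g : ↥K, KWs K tabN (clsW i j) = g * r0K * g⁻¹ := by
  refine ⟨x0K ^ i * KWs K tabN (rdE j).1, ?_⟩
  apply Subtype.ext
  rw [Subgroup.coe_mul, Subgroup.coe_mul, Subgroup.coe_inv, Subgroup.coe_mul, Subgroup.coe_pow]
  show KW K tabN (clsW i j) =
    x0 ^ i * KW K tabN (rdE j).1 * r0 * (x0 ^ i * KW K tabN (rdE j).1)⁻¹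
  rw [kw_clsW hi, rrP_conj]
  group

/-- the `k`-th conjugate -/
noncomputable def clsK (k : ℕ) : ↥K :=
  KWs K tabN (clsW (Nat.mod (ordE k) 32) (Nat.div (ordE k) 32))

theorem fpO_eq (k : ℕ) :
    fpO k = fpW tabN BASE (clsW (Nat.mod (ordE k) 32) (Nat.div (ordE k) 32)) := by
  unfold fpO
  rw [withVal_eq]

theorem ord_valid {k : ℕ} (hk : k < 56925) :
    Nat.mod (ordE k) 32 < 23 ∧ Nat.div (ordE k) 32 < 2475 := by
  have h := ORD_ok k hk
  unfold ordChk at h
  rw [Bool.and_eq_true, withVal_eq, Bool.and_eq_true, Nat.blt_eq, Nat.blt_eq] at h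
  exact h.1

theorem fpO_lt_succ {k : ℕ} (hk : k < 56924) : fpO k < fpO (k + 1) := by
  have h := ORD_ok k (by omega)
  unfold ordChk at h
  rw [Bool.and_eq_true, Bool.or_eq_true] at h
  rcases h.2 with h1 | h1
  · exfalso
    have := Nat.eq_of_beq_eq_true h1
    omega
  · rw [Nat.blt_eq] at h1
    exact h1

theorem fpO_strict : ∀ b, b < 56925 → ∀ a, a < b → fpO a < fpO b := by
  intro b
  induction b with
  | zero => intro _ a ha; exact absurd ha (Nat.not_lt_zero _)
  | succ b ih =>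
    intro hb a ha
    have h1 : fpO b < fpO (b + 1) := fpO_lt_succ (by omega)
    rcases Nat.lt_succ_iff_lt_or_eq.mp ha with h | rfl
    · exact lt_trans (ih (by omega) a h) h1
    · exact h1

theorem BASE_lt : ∀ x ∈ BASE, x < 4600 := by decide

theorem clsK_inj {a b : ℕ} (ha : a < 56925) (hb : b < 56925) (h : clsK a = clsK b) : a = b := by
  have h1 : KW K tabN (clsW (Nat.mod (ordE a) 32) (Nat.div (ordE a) 32)) =
      KW K tabN (clsW (Nat.mod (ordE b) 32) (Nat.div (ordE b) 32)) := congrArg Subtype.val h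
  have h2 := fpW_eq_of_KW allReal BASE_lt h1
  rw [← fpO_eq, ← fpO_eq] at h2
  rcases Nat.lt_trichotomy a b with h3 | h3 | h3
  · exact absurd h2 (ne_of_lt (fpO_strict b hb a h3))
  · exact h3
  · exact absurd h2.symm (ne_of_lt (fpO_strict a ha b h3))

theorem card_centralizer_le' {A : Type*} [Group A] (H : Subgroup A) [Finite H] (t : A) (m : ℕ)
    (f : Fin m → A) (hf : Function.Injective f) (hc : ∀ k, ∃ g ∈ H, f k = g * t * g⁻¹) :
    m * Nat.card ↥(H ⊓ Subgroup.centralizer {t}) ≤ Nat.card H := by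
  choose c hc1 hc2 using hc
  apply card_centralizer_le H t m c hc1
  intro a b h
  apply hf
  rw [hc2, hc2]
  exact h

/-- the centraliser of the involution -/
noncomputable def Cr : Subgroup ↥K := Subgroup.centralizer {r0K}

theorem card_Cr_le : Nat.card ↥Cr ≤ 743178240 := by
  have h := card_centralizer_le' (⊤ : Subgroup ↥K) r0K 56925 (fun k => clsK k.1)
    (fun a b h => Fin.ext (clsK_inj a.2 b.2 h))
    (fun k => by
      obtain ⟨g, hg⟩ := clsW_conj (ord_valid k.2).1 (Nat.div (ordE k.1) 32)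
      exact ⟨g, Subgroup.mem_top g, hg⟩)
  rw [top_inf_eq, Subgroup.card_top, card_K] at h
  unfold Cr
  omega

theorem mem_Cr (c : ↥K) : c ∈ Cr ↔ c.1 * r0 = r0 * c.1 := by
  unfold Cr
  rw [Subgroup.mem_centralizer_singleton_iff]
  constructor
  · intro h
    have := congrArg Subtype.val h
    rw [Subgroup.coe_mul, Subgroup.coe_mul] at this
    exact this
  · intro h
    apply Subtype.ext
    rw [Subgroup.coe_mul, Subgroup.coe_mul]
    exact h

/-! ### the pairing of the points and the blocks -/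

theorem tau_tab {p : ℕ} (hp : p < 4600) :
    g13 (tabN 1) (4599 - p) = 4599 - g13 (tabN 1) p ∧
      g13 (tabN 2) (4599 - p) = 4599 - g13 (tabN 2) p := by
  have h := tau_ok
  rw [withVal_eq, withVal_eq, allLt_iff] at h
  have h1 := h p hp
  rw [Bool.and_eq_true] at h1
  exact ⟨Nat.eq_of_beq_eq_true h1.1, Nat.eq_of_beq_eq_true h1.2⟩

theorem tau_K : ∀ g ∈ K, ∀ p, p < 4600 → gN g (4599 - p) = 4599 - gN g p := by
  intro g hg
  unfold K at hg
  induction hg using Subgroup.closure_induction with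
  | mem y hy =>
    intro p hp
    have hq : 4599 - p < 4600 := by omega
    rcases hy with h | h
    · rw [h, gN_x0 _ hq, gN_x0 _ hp]
      exact (tau_tab hp).2
    · rw [Set.mem_singleton_iff.mp h, gN_r0 _ hq, gN_r0 _ hp]
      exact (tau_tab hp).1
  | one =>
    intro p _
    rw [gN_one, gN_one]
  | mul a b _ _ iha ihb =>
    intro p hp
    rw [gN_mul, gN_mul, ihb p hp, iha _ (gN_lt b hp)]
  | inv a _ iha =>
    intro p hp
    have hq : gN a⁻¹ p < 4600 := gN_lt _ hp
    have h1 := iha _ hq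
    rw [gN_gN_inv] at h1
    rw [← h1, gN_inv_gN]

theorem blk_spec {i : ℕ} (hi : i < 28) :
    g13 (tabN 1) (pbE i) = pbE i ∧ bnE (pbE i) = i ∧ pbE i < 4600 := by
  have h := (allLt_iff _ _).mp blk_ok i hi
  rw [Bool.and_eq_true, Bool.and_eq_true, Nat.blt_eq] at h
  exact ⟨Nat.eq_of_beq_eq_true h.1.1, Nat.eq_of_beq_eq_true h.1.2, h.2⟩

theorem fix_spec {q : ℕ} (hq : q < 4600) (hf : g13 (tabN 1) q = q) :
    bnE q < 28 ∧ (pbE (bnE q) = q ∨ 4599 - pbE (bnE q) = q) ∧ bnE (4599 - q) = bnE q := by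
  have h := fix_blk
  rw [withVal_eq, allLt_iff] at h
  have h1 := h q hq
  rw [Bool.or_eq_true] at h1
  rcases h1 with h1 | h1
  · exfalso
    rw [Bool.not_eq_true', ← Bool.not_eq_true] at h1
    apply h1
    rw [hf]
    exact Nat.beq_refl q
  · rw [Bool.and_eq_true, Bool.and_eq_true, Nat.blt_eq, Bool.or_eq_true] at h1
    refine ⟨h1.1.1, ?_, Nat.eq_of_beq_eq_true h1.2⟩
    rcases h1.1.2 with h2 | h2
    · exact Or.inl (Nat.eq_of_beq_eq_true h2)
    · exact Or.inr (Nat.eq_of_beq_eq_true h2)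

/-- an element of the centraliser maps fixed points of the involution to fixed points -/
theorem Cr_fix {c : ↥K} (hc : c ∈ Cr) {q : ℕ} (hq : q < 4600) (hf : g13 (tabN 1) q = q) :
    g13 (tabN 1) (gN c.1 q) = gN c.1 q := by
  have h := (mem_Cr c).mp hc
  have h1 : gN (c.1 * r0) q = gN (r0 * c.1) q := by rw [h]
  rw [gN_mul, gN_mul, gN_r0 _ (gN_lt _ hq), gN_r0 _ hq, hf] at h1
  exact h1.symm

/-- the action on the blocks, as a function -/
noncomputable def Aend (c : ↥Cr) (i : Fin 28) : Fin 28 :=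
  ⟨bnE (gN c.1.1 (pbE i.1)) % 28, Nat.mod_lt _ (by norm_num)⟩

theorem Aend_one (i : Fin 28) : Aend 1 i = i := by
  apply Fin.ext
  show bnE (gN ((1 : ↥Cr) : ↥K).1 (pbE i.1)) % 28 = i.1
  have : (((1 : ↥Cr) : ↥K) : Equiv.Perm (Fin 4600)) = 1 := rfl
  rw [this, gN_one, (blk_spec i.2).2.1]
  exact Nat.mod_eq_of_lt i.2

theorem Aend_mul (c d : ↥Cr) (i : Fin 28) : Aend (c * d) i = Aend c (Aend d i) := by
  apply Fin.ext
  show bnE (gN ((c * d : ↥Cr) : ↥K).1 (pbE i.1)) % 28 =
    bnE (gN c.1.1 (pbE (bnE (gN d.1.1 (pbE i.1)) % 28))) % 28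
  have e : (((c * d : ↥Cr) : ↥K) : Equiv.Perm (Fin 4600)) = c.1.1 * d.1.1 := rfl
  rw [e, gN_mul]
  obtain ⟨hf, -, hlt⟩ := blk_spec i.2
  have hq : gN d.1.1 (pbE i.1) < 4600 := gN_lt _ hlt
  have hqf := Cr_fix d.2 hlt hf
  obtain ⟨q, hqdef⟩ : ∃ q, q = gN d.1.1 (pbE i.1) := ⟨_, rfl⟩
  rw [← hqdef] at hq hqf ⊢
  obtain ⟨hj, hor, -⟩ := fix_spec hq hqf
  rw [Nat.mod_eq_of_lt hj]
  obtain ⟨hf', -, hlt'⟩ := blk_spec hj
  rcases hor with h | h
  · rw [h]
  · have h2 := Cr_fix c.2 hlt' hf'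
    have h3 : gN c.1.1 q = 4599 - gN c.1.1 (pbE (bnE q)) := by
      rw [← tau_K c.1.1 c.1.2 _ hlt', h]
    rw [h3, (fix_spec (gN_lt _ hlt') h2).2.2]

/-- the action on the blocks -/
noncomputable def blkAct : ↥Cr →* Equiv.Perm (Fin 28) where
  toFun c :=
    { toFun := Aend c
      invFun := Aend c⁻¹
      left_inv := fun i => by rw [← Aend_mul, inv_mul_cancel, Aend_one]
      right_inv := fun i => by rw [← Aend_mul, mul_inv_cancel, Aend_one] }
  map_one' := Equiv.ext fun i => Aend_one i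
  map_mul' c d := Equiv.ext fun i => Aend_mul c d i

theorem blkAct_apply (c : ↥Cr) (i : Fin 28) :
    (blkAct c i).1 = bnE (gN c.1.1 (pbE i.1)) % 28 := rfl

/-! ### the `2`-subgroup -/

theorem sg_comm_r0 {a : ℕ} (ha : a < 8) : r0K * sg a = sg a * r0K := by
  have h := kw_eq ((allLt_iff _ _).mp commR a ha)
  have e : Nat.add 37 a = 37 + a := rfl
  rw [e, kw_pair, kw_pair, kw_r0] at h
  apply Subtype.ext
  rw [Subgroup.coe_mul, Subgroup.coe_mul]
  exact h

theorem Qg_le_Cr : Qg ≤ Cr := by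
  unfold Qg
  rw [Subgroup.closure_le]
  rintro g ⟨a, ha, rfl⟩
  show sg a ∈ Subgroup.centralizer {r0K}
  rw [Subgroup.mem_centralizer_singleton_iff]
  exact (sg_comm_r0 ha).symm

/-- the elements fixing the first points of the blocks -/
def Tfix : Subgroup ↥K where
  carrier := {g | ∀ i < 28, gN g.1 (pbE i) = pbE i}
  mul_mem' := by
    intro a b ha hb i hi
    rw [Subgroup.coe_mul, gN_mul, hb i hi, ha i hi]
  one_mem' := by
    intro i _
    rw [Subgroup.coe_one, gN_one]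
  inv_mem' := by
    intro a ha i hi
    have h := gN_inv_gN a.1 (pbE i)
    rw [ha i hi] at h
    rw [Subgroup.coe_inv]
    exact h

theorem Qg_le_Tfix : Qg ≤ Tfix := by
  unfold Qg
  rw [Subgroup.closure_le]
  rintro g ⟨a, ha, rfl⟩ i hi
  have h := (allLt_iff _ _).mp q_fix a ha
  rw [withVal_eq, allLt_iff] at h
  have h1 := Nat.eq_of_beq_eq_true (h i hi)
  have e : Nat.add 37 a = 37 + a := rfl
  rw [e] at h1
  show gN (KW K tabN [37 + a]) (pbE i) = pbE i
  rw [KW_apply allReal [37 + a] (blk_spec hi).2.2]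
  exact h1

/-- the `2`-subgroup inside the centraliser -/
noncomputable def Qc : Subgroup ↥Cr := Qg.subgroupOf Cr

theorem Qc_le_ker : Qc ≤ blkAct.ker := by
  intro y hy
  rw [MonoidHom.mem_ker]
  apply Equiv.ext
  intro i
  apply Fin.ext
  rw [blkAct_apply]
  have h : y.1 ∈ Tfix := Qg_le_Tfix (Subgroup.mem_subgroupOf.mp hy)
  rw [h i.1 i.2, (blk_spec i.2).2.1]
  exact Nat.mod_eq_of_lt i.2

/-- the isomorphism of the two versions of the `2`-subgroup -/
noncomputable def QcEquiv : ↥Qc ≃* ↥Qg := Subgroup.subgroupOfEquivOfLe Qg_le_Cr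

theorem card_Qc : Nat.card ↥Qc = 2 ^ 9 := by
  rw [Nat.card_congr QcEquiv.toEquiv]
  exact card_Qg

/-! ### the `2`-subgroup is extraspecial -/

theorem sg_val (a : ℕ) : (sg a).1 = KW K tabN [37 + a] := rfl

theorem sg_comm {a b : ℕ} (ha : a < 8) (hb : b < 8) :
    sg a * sg b = sg b * sg a ∨ sg a * sg b = r0K * (sg b * sg a) := by
  have h := (allLt_iff _ _).mp ((allLt_iff _ _).mp es_comm a ha) b hb
  have e1 : Nat.add 37 a = 37 + a := rfl
  have e2 : Nat.add 37 b = 37 + b := rfl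
  rw [e1, e2, Bool.or_eq_true] at h
  rcases h with h | h
  · left
    have h1 := kw_eq h
    rw [kw_pair, kw_pair] at h1
    apply Subtype.ext
    rw [Subgroup.coe_mul, Subgroup.coe_mul]
    exact h1
  · right
    have h1 := kw_eq h
    rw [kw_pair, KW_cons allReal 1 [37 + b, 37 + a], kw_pair, kw_r0] at h1
    apply Subtype.ext
    rw [Subgroup.coe_mul, Subgroup.coe_mul, Subgroup.coe_mul]
    exact h1

theorem sg_sq {a : ℕ} (ha : a < 8) : sg a * sg a = 1 ∨ sg a * sg a = r0K := by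
  have h := (allLt_iff _ _).mp es_sq a ha
  have e1 : Nat.add 37 a = 37 + a := rfl
  rw [e1, Bool.or_eq_true] at h
  rcases h with h | h
  · left
    have h1 := kw_eq h
    rw [kw_pair, KW_nil allReal] at h1
    apply Subtype.ext
    rw [Subgroup.coe_mul]
    exact h1
  · right
    have h1 := kw_eq h
    rw [kw_pair, kw_r0] at h1
    apply Subtype.ext
    rw [Subgroup.coe_mul]
    exact h1

theorem Qg_center (x : ↥K) (hx : x ∈ Qg) (hc : ∀ a < 8, sg a * x = x * sg a) :
    x = 1 ∨ x = r0K := by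
  obtain ⟨m, hm, rfl⟩ := (mem_Qg_iff x).mp hx
  have h := (allLt_iff _ _).mp es_cen m hm
  rw [Bool.or_eq_true, Bool.or_eq_true] at h
  rcases h with (h | h) | h
  · left
    rw [Nat.eq_of_beq_eq_true h]
    exact sw_zero
  · right
    rw [Nat.eq_of_beq_eq_true h]
    exact r0K_eq.symm
  · exfalso
    rw [Bool.and_eq_true, Nat.blt_eq, Bool.not_eq_true', ← Bool.not_eq_true] at h
    apply h.2
    have e1 : Nat.add 37 (cenE m) = 37 + cenE m := rfl
    rw [e1]
    have h1 := congrArg Subtype.val (hc (cenE m) h.1)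
    rw [Subgroup.coe_mul, Subgroup.coe_mul] at h1
    have h2 : KW K tabN ((37 + cenE m) :: swE m) = KW K tabN (swE m ++ [37 + cenE m]) := by
      rw [KW_cons allReal, KW_append allReal]
      exact h1
    rw [ev_eq_of_KW allReal h2 2523 (by norm_num)]
    exact Nat.beq_refl _

theorem sg_na : sg 0 * sg 1 ≠ sg 1 * sg 0 := by
  intro h
  have h1 := congrArg Subtype.val h
  rw [Subgroup.coe_mul, Subgroup.coe_mul] at h1
  have h2 : KW K tabN [37, 38] = KW K tabN [38, 37] := by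
    rw [kw_pair, kw_pair]
    exact h1
  have h3 := ev_eq_of_KW allReal h2 2523 (by norm_num)
  have h4 := es_na
  rw [h3, Nat.beq_refl] at h4
  exact Bool.noConfusion h4

theorem Qg_extraspecial : IsExtraspecial 2 ↥Qg := by
  unfold Qg
  apply Cfsg.Agent.Lib.Helper9.ExtraCl.extraspecial_closure _ r0K 9 card_Qg r0K_mem_Qg
  · intro h
    exact r0_ne_one (congrArg Subtype.val h)
  · rintro s ⟨a, ha, rfl⟩
    exact (sg_comm_r0 ha).symm
  · rintro s ⟨a, ha, rfl⟩ t ⟨b, hb, rfl⟩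
    exact sg_comm ha hb
  · rintro s ⟨a, ha, rfl⟩
    exact sg_sq ha
  · intro x hx hc
    exact Qg_center x hx (fun a ha => hc (sg a) ⟨a, ha, rfl⟩)
  · exact ⟨sg 0, ⟨0, by norm_num, rfl⟩, sg 1, ⟨1, by norm_num, rfl⟩, sg_na⟩

theorem Qc_extraspecial : IsExtraspecial 2 ↥Qc := by
  haveI : Fact (Nat.Prime 2) := ⟨Nat.prime_two⟩
  exact Cfsg.Agent.Lib.Helper7.TvAff.isExtraspecial_of_mulEquiv Qg_extraspecial QcEquiv.symm

/-! ### the elements acting as transvections -/

theorem cw_mem_Cr (n : ℕ) (hn : n < 64) : KWs K tabN (cwE n) ∈ Cr := by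
  rw [mem_Cr]
  have h := kw_eq ((allLt_iff _ _).mp cw_comm n hn)
  rw [KW_cons allReal, KW_append allReal, kw_r0] at h
  exact h.symm

/-- the elements acting as transvections -/
noncomputable def cK (n : Fin 64) : ↥Cr := ⟨KWs K tabN (cwE n.1), cw_mem_Cr n.1 n.2⟩

theorem blkAct_cK (n : Fin 64) (i : Fin 28) : (blkAct (cK n) i).1 = pit n.1 i.1 := by
  rw [blkAct_apply]
  show bnE (gN (KW K tabN (cwE n.1)) (pbE i.1)) % 28 = pit n.1 i.1
  rw [KW_apply allReal _ (blk_spec i.2).2.2]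
  have h := (allLt_iff _ _).mp cw_act n.1 n.2
  rw [forceList_eq, allLt_iff] at h
  have h1 := Nat.eq_of_beq_eq_true (h i.1 i.2)
  have e : evW tabN (cwE n.1) (pbE i.1) = PW.evC ((cwE n.1).map tabN) (pbE i.1) := rfl
  rw [e, h1]
  exact Nat.mod_eq_of_lt (pit_lt n i)

theorem rep_range_le : rep.range ≤ blkAct.range := by
  apply range_le
  intro n _
  refine MonoidHom.mem_range.mpr ⟨cK n, ?_⟩
  apply Equiv.ext
  intro i
  apply Fin.ext
  rw [blkAct_cK, rep_tv]

/-! ### the structure of the centraliser -/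

instance : Finite ↥Cr := Subtype.finite

theorem r0K_order : orderOf r0K = 2 := by
  haveI : Fact (Nat.Prime 2) := ⟨Nat.prime_two⟩
  apply orderOf_eq_prime
  · rw [sq]
    exact r0K_sq
  · intro h
    exact r0_ne_one (congrArg Subtype.val h)

end Cfsg.Agent.Lib.Helper9.Co2a
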