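import Cfsg.Agent.Lib.Helper9.McLsimple2

set_option autoImplicit false

/-! The point stabiliser is the Mathieu group of degree 22; simplicity and order of the
stabiliser of a pair of minimal vectors with inner product −8. -/

namespace Cfsg.Agent.Lib.Helper9.McLsimple3

open Cfsg Finset Cfsg.Agent.Lib.Helper4.Leech Cfsg.Agent.Lib.Helper9.LeechM1
  Cfsg.Agent.Lib.Helper9.LeechM2 Cfsg.Agent.Lib.Helper9.LeechM4
  Cfsg.Agent.Lib.Helper9.LeechX8 Cfsg.Agent.Lib.Helper9.LeechX9
  Cfsg.Agent.Lib.Helper9.LeechX11 Cfsg.Agent.Lib.Helper9.LeechP1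
  Cfsg.Agent.Lib.Helper9.LeechP6
  Cfsg.Agent.Lib.Helper9.LeechE3 Cfsg.Agent.Lib.Helper9.LeechE4 Cfsg.Agent.Lib.Helper9.LeechE5
  Cfsg.Agent.Lib.Helper9.LeechE8 Cfsg.Agent.Lib.Helper9.LeechQ2
  Cfsg.Agent.Lib.Helper9.LeechF1 Cfsg.Agent.Lib.Helper9.LeechF3
  Cfsg.Agent.Lib.Helper9.McLsimple1 Cfsg.Agent.Lib.Helper9.McLsimple2
  Cfsg.Agent.Lib.Helper9.PrimSimple2

/-- the Mathieu group of degree 22 -/
abbrev M22 : Type := ↥(MulAction.stabilizer Cfsg.M24 (none : GolayPt) ⊓
  MulAction.stabilizer Cfsg.M24 (some 0 : GolayPt))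

theorem M22_fix (t : M22) : t.1.1 none = none ∧ t.1.1 (some 0) = some 0 := by
  have h := t.2
  have h1 : t.1 ∈ MulAction.stabilizer Cfsg.M24 (none : GolayPt) := h.1
  have h2 : t.1 ∈ MulAction.stabilizer Cfsg.M24 (some 0 : GolayPt) := h.2
  rw [MulAction.mem_stabilizer_iff] at h1 h2
  exact ⟨h1, h2⟩

/-- the embedding of the Mathieu group -/
def psi : M22 →* ↥G1 where
  toFun t := mkG (prm t.1.1 t.1.2) (prm_mem _ _)
    (prm_fix t.1.1 t.1.2 (M22_fix t).1 (M22_fix t).2).1
    (prm_fix t.1.1 t.1.2 (M22_fix t).1 (M22_fix t).2).2.1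
  map_one' := by
    apply Subtype.ext
    apply Subtype.ext
    apply Equiv.ext
    intro v
    rfl
  map_mul' s t := by
    apply Subtype.ext
    apply Subtype.ext
    apply Equiv.ext
    intro v
    apply Subtype.ext
    funext i
    rfl

theorem psi_val (t : M22) : (psi t).1.1 = prm t.1.1 t.1.2 := rfl

theorem prm_inj (σ τ : Equiv.Perm GolayPt) (hσ : σ ∈ M24) (hτ : τ ∈ M24)
    (h : prm σ hσ = prm τ hτ) : σ = τ := by
  apply Equiv.ext
  intro i
  have e := congrArg (fun f : Equiv.Perm leechLattice => f (E i)) h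
  simp only [prm_E] at e
  have e2 := congrArg Subtype.val e
  rw [E_val, E_val] at e2
  exact (single_inj (by norm_num) e2).1

theorem psi_inj : Function.Injective psi := by
  intro s t h
  have h1 : (psi s).1.1 = (psi t).1.1 := by rw [h]
  rw [psi_val, psi_val] at h1
  exact Subtype.ext (Subtype.ext (prm_inj _ _ _ _ h1))

theorem psi_range : psi.range = MulAction.stabilizer ↥G1 x1 := by
  ext g
  rw [MonoidHom.mem_range, MulAction.mem_stabilizer_iff]
  constructor
  · rintro ⟨t, rfl⟩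
    apply Subtype.ext
    show (psi t).1.1 rAc = rAc
    rw [psi_val]
    exact (prm_fix t.1.1 t.1.2 (M22_fix t).1 (M22_fix t).2).2.2
  · intro hg
    have h3 : g.1.1 rAc = rAc := congrArg Subtype.val hg
    have h12 := (mem_G1 g.1).mp g.2
    obtain ⟨σ, hσ, hn, h0, hf⟩ := fix_triple g.1.1 g.1.2 h12.1 h12.2 h3
    refine ⟨⟨⟨σ, hσ⟩, ?_, ?_⟩, ?_⟩
    · exact MulAction.mem_stabilizer_iff.mpr hn
    · exact MulAction.mem_stabilizer_iff.mpr h0
    · apply Subtype.ext
      apply Subtype.ext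
      rw [psi_val]
      exact hf.symm

/-- the point stabiliser is the Mathieu group -/
noncomputable def stabEquiv : M22 ≃* ↥(MulAction.stabilizer ↥G1 x1) :=
  (MonoidHom.ofInjective psi_inj).trans (MulEquiv.subgroupCongr psi_range)

theorem stab_simple : IsSimpleGroup ↥(MulAction.stabilizer ↥G1 x1) := by
  have : IsSimpleGroup M22 := Cfsg.Agent.S0379.result none (some 0) (by decide)
  exact stabEquiv.symm.isSimpleGroup

theorem stab_card : Nat.card ↥(MulAction.stabilizer ↥G1 x1) = 443520 := by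
  rw [← Nat.card_congr stabEquiv.toEquiv]
  exact Cfsg.Agent.S0378.result none (some 0) (by decide)

theorem card_G1 : Nat.card ↥G1 = 898128000 := by
  have h1 := Nat.card_congr (MulAction.orbitProdStabilizerEquivGroup ↥G1 x1)
  rw [Nat.card_prod, stab_card] at h1
  have h2 : MulAction.orbit ↥G1 x1 = Set.univ := by
    ext y
    simp only [Set.mem_univ, iff_true]
    obtain ⟨g, hg⟩ := htrans x1 y
    exact ⟨g, hg⟩
  rw [h2, Nat.card_congr (Equiv.Set.univ _), hX] at h1
  omega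

instance : Finite ↥G1 := by
  apply Nat.finite_of_card_ne_zero
  rw [card_G1]
  norm_num

theorem hdiv : ∀ S : Finset (Fin 3), (1 + ∑ i ∈ S, cnt i) ∣ 898128000 →
    S = ∅ ∨ S = Finset.univ := by
  decide

theorem simple_G1 : IsSimpleGroup ↥G1 := by
  have hnt : Nontrivial ↥G1 := by
    rw [← Finite.one_lt_card_iff_nontrivial, card_G1]
    norm_num
  refine simple_of_prim htrans x1 cls cnt hcover hx hdisj hC hn 898128000 card_G1 hdiv
    ⟨0, by decide⟩ hnt ?_ stab_simple
  intro K hK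
  rw [hX] at hK
  exact Cfsg.Agent.Lib.Helper9.Ord2025.exists_char hK

/-- conjugating a pair stabiliser -/
noncomputable def pairStabEquiv {G α : Type*} [Group G] [MulAction G α] (γ : G) (a b : α) :
    ↥(MulAction.stabilizer G a ⊓ MulAction.stabilizer G b) ≃*
      ↥(MulAction.stabilizer G (γ • a) ⊓ MulAction.stabilizer G (γ • b)) :=
  ((MulAut.conj γ).subgroupMap _).trans (MulEquiv.subgroupCongr (by
    rw [MulAction.stabilizer_smul_eq_stabilizer_map_conj,
      MulAction.stabilizer_smul_eq_stabilizer_map_conj]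
    exact Subgroup.map_inf _ _ _ (MulAut.conj γ).injective))

theorem mcl_general (v w : leechLattice) (hv : sqNorm v.1 = 32) (hw : sqNorm w.1 = 32)
    (hd : dotInt v.1 w.1 = -8) :
    IsSimpleGroup ↥(MulAction.stabilizer ↥Co0 v ⊓ MulAction.stabilizer ↥Co0 w) ∧
      Nat.card ↥(MulAction.stabilizer ↥Co0 v ⊓ MulAction.stabilizer ↥Co0 w) = 898128000 := by
  obtain ⟨g, hg, g1, g2⟩ := pairs8 v w rA rBb hv hw rA_norm rBb_norm hd rA_rBb
  let γ : ↥Co0 := ⟨g, hg⟩
  have e1 : γ • v = rA := g1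
  have e2 : γ • w = rBb := g2
  have e := pairStabEquiv γ v w
  rw [e1, e2] at e
  haveI : IsSimpleGroup ↥G1 := simple_G1
  exact ⟨e.isSimpleGroup, (Nat.card_congr e.toEquiv).trans card_G1⟩

end Cfsg.Agent.Lib.Helper9.McLsimple3
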