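import Mathlib

set_option autoImplicit false

/-! A group of order 552 has a characteristic subgroup of order 23 or 24. -/

namespace Cfsg.Agent.Lib.Helper9.Ord552

theorem fact23 : (552 : ℕ).factorization 23 = 1 := by
  have : (552 : ℕ) = 24 * 23 := by norm_num
  rw [this, Nat.factorization_mul (by norm_num) (by norm_num)]
  have h1 : Nat.factorization 24 23 = 0 := Nat.factorization_eq_zero_of_not_dvd (by norm_num)
  have h2 : Nat.factorization 23 23 = 1 := Nat.Prime.factorization_self (by norm_num)
  simp [h1, h2]

theorem dvd24 (n : ℕ) (h : n ∣ 24) (h5 : n % 23 = 1) : n = 1 ∨ n = 24 := by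
  have hle : n ≤ 24 := Nat.le_of_dvd (by norm_num) h
  interval_cases n <;> omega

theorem exists_char {K : Type*} [Group K] [Finite K] (hK : Nat.card K = 552) :
    ∃ P : Subgroup K, P.Characteristic ∧ (Nat.card ↥P = 23 ∨ Nat.card ↥P = 24) := by
  haveI : Fact (Nat.Prime 23) := ⟨by norm_num⟩
  obtain ⟨P⟩ : Nonempty (Sylow 23 K) := Sylow.nonempty
  have hcP : Nat.card ↥(P : Subgroup K) = 23 := by
    have h0 := Sylow.card_eq_multiplicity P
    rw [hK, fact23] at h0
    simpa using h0
  have hidx : (P : Subgroup K).index = 24 := by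
    have := Subgroup.card_mul_index (P : Subgroup K)
    rw [hcP, hK] at this
    omega
  have h1 : Nat.card (Sylow 23 K) % 23 = 1 % 23 := card_sylow_modEq_one 23 K
  have h2 := P.card_dvd_index
  rw [hidx] at h2
  rcases dvd24 _ h2 (by omega) with hn | hn
  · haveI : Subsingleton (Sylow 23 K) := (Nat.card_eq_one_iff_unique.mp hn).1
    exact ⟨_, Sylow.characteristic_of_subsingleton P, Or.inl hcP⟩
  · -- the normaliser of `P` is `P`
    have hN : Subgroup.normalizer ((P : Subgroup K) : Set K) = (P : Subgroup K) := by
      have e1 : 24 = (Subgroup.normalizer ((P : Subgroup K) : Set K)).index := by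
        rw [← hn]; exact P.card_eq_index_normalizer
      have e2 := Subgroup.card_mul_index (Subgroup.normalizer ((P : Subgroup K) : Set K))
      rw [← e1, hK] at e2
      have e3 : Nat.card ↥(Subgroup.normalizer ((P : Subgroup K) : Set K)) = 23 := by omega
      symm
      apply Subgroup.eq_of_le_of_card_ge Subgroup.le_normalizer
      rw [e3, hcP]
    have hcomm : ∀ a b : ↥(P : Subgroup K), a * b = b * a := by
      haveI : IsCyclic ↥(P : Subgroup K) := isCyclic_of_prime_card (p := 23) hcP
      have hc : IsMulCommutative ↥(P : Subgroup K) := IsCyclic.isMulCommutative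
      exact hc.is_comm.comm
    have hP : Subgroup.normalizer ((P : Subgroup K) : Set K) ≤
        Subgroup.centralizer ((P : Subgroup K) : Set K) := by
      rw [hN]
      intro a ha b hb
      have := hcomm ⟨b, hb⟩ ⟨a, ha⟩
      exact congrArg Subtype.val this
    have hcomp := MonoidHom.ker_transferSylow_isComplement' P hP
    have hcm := hcomp.card_mul_card
    rw [hcP, hK] at hcm
    have hcQ : Nat.card ↥(MonoidHom.transferSylow P hP).ker = 24 := by omega
    refine ⟨(MonoidHom.transferSylow P hP).ker, ?_, Or.inr hcQ⟩
    rw [Subgroup.characteristic_iff_map_le]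
    intro ϕ k hk
    obtain ⟨k0, hk0, rfl⟩ := hk
    rw [MonoidHom.mem_ker]
    -- the image of `ϕ k0` in `P` has order dividing 24 and 23
    have h24 : k0 ^ 24 = 1 := by
      have : (⟨k0, hk0⟩ : ↥(MonoidHom.transferSylow P hP).ker) ^ 24 = 1 := by
        rw [← hcQ]; exact pow_card_eq_one'
      exact congrArg Subtype.val this
    set t := MonoidHom.transferSylow P hP (ϕ.toMonoidHom k0) with ht
    have e24 : t ^ 24 = 1 := by
      rw [ht, ← map_pow, ← map_pow, h24, map_one, map_one]
    have e23 : t ^ 23 = 1 := by
      have := pow_card_eq_one' (x := t)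
      rwa [hcP] at this
    have : t ^ 24 = t ^ 23 * t := pow_succ t 23
    rw [e24, e23, one_mul] at this
    exact this.symm

end Cfsg.Agent.Lib.Helper9.Ord552
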