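import Cfsg.Agent.Lib.Helper9.PrimSimple2

set_option autoImplicit false

/-! A simplicity criterion allowing some imprimitivity: the possible shapes of the orbit of the
base point under a normal subgroup are listed, and the bad ones are excluded by hand. -/

namespace Cfsg.Agent.Lib.Helper9.PrimSimple3

open MulAction Cfsg.Agent.Lib.Helper9.PrimSimple2

variable {G X : Type*} [Group G] [Finite G] [MulAction G X] [Finite X]
variable {ι : Type*} [Fintype ι]

/-- the orbits of a normal subgroup are translates of each other -/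
theorem orb_smul (K : Subgroup G) [K.Normal] (g : G) (x : X) :
    orb K (g • x) = (fun y => g • y) '' orb K x := by
  ext y
  constructor
  · rintro ⟨k, hk, rfl⟩
    refine ⟨(g⁻¹ * k * g) • x, ⟨g⁻¹ * k * g, ?_, rfl⟩, ?_⟩
    · have := ‹K.Normal›.conj_mem k hk g⁻¹
      rwa [inv_inv] at this
    · show g • ((g⁻¹ * k * g) • x) = k • g • x
      rw [← mul_smul, ← mul_smul]
      congr 1
      group
  · rintro ⟨_, ⟨k, hk, rfl⟩, rfl⟩
    refine ⟨g * k * g⁻¹, ‹K.Normal›.conj_mem k hk g, ?_⟩
    show (g * k * g⁻¹) • g • x = g • k • x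
    rw [← mul_smul, ← mul_smul]
    congr 1
    group

theorem ncard_orb_smul (K : Subgroup G) [K.Normal] (g : G) (x : X) :
    (orb K (g • x)).ncard = (orb K x).ncard := by
  rw [orb_smul]
  exact Set.ncard_image_of_injective _ (MulAction.injective g)

/-- a subgroup meeting the stabiliser trivially has as many elements as its orbit -/
theorem card_of_disjoint (K : Subgroup G) (x : X)
    (h : Disjoint K (MulAction.stabilizer G x)) : Nat.card ↥K = (orb K x).ncard := by
  have h1 := Nat.card_congr (MulAction.orbitProdStabilizerEquivGroup ↥K x)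
  rw [Nat.card_prod] at h1
  have h3 : Nat.card ↥(MulAction.stabilizer ↥K x) = 1 := by
    rw [Nat.card_eq_one_iff_unique]
    refine ⟨⟨fun a b => ?_⟩, ⟨1⟩⟩
    have ha : (a.1.1 : G) ∈ K ⊓ MulAction.stabilizer G x :=
      ⟨a.1.2, MulAction.mem_stabilizer_iff.mpr (MulAction.mem_stabilizer_iff.mp a.2)⟩
    have hb : (b.1.1 : G) ∈ K ⊓ MulAction.stabilizer G x :=
      ⟨b.1.2, MulAction.mem_stabilizer_iff.mpr (MulAction.mem_stabilizer_iff.mp b.2)⟩
    rw [disjoint_iff.mp h, Subgroup.mem_bot] at ha hb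
    exact Subtype.ext (Subtype.ext (ha.trans hb.symm))
  rw [h3, mul_one] at h1
  rw [← h1, orb_eq]
  rfl

section
variable (htrans : ∀ y z : X, ∃ g : G, g • y = z)
  (x : X) (C : ι → Set X) (n : ι → ℕ)
  (hcover : ∀ y : X, y = x ∨ ∃ i, y ∈ C i)
  (hx : ∀ i, x ∉ C i)
  (hdisj : ∀ i j, i ≠ j → Disjoint (C i) (C j))
  (hC : ∀ i, ∀ a ∈ C i, ∀ a' ∈ C i, ∃ g : G, g • x = x ∧ g • a = a')
  (hn : ∀ i, (C i).ncard = n i)
  (N : ℕ) (hcard : Nat.card G = N)

include hcover hx hdisj hC hn hcard in
/-- the orbit of `x` under a normal subgroup is a union of classes -/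
theorem orb_shape (K : Subgroup G) [K.Normal] :
    ∃ S : Finset ι, orb K x = insert x (⋃ i ∈ S, C i) ∧ (1 + ∑ i ∈ S, n i) ∣ N ∧
      (orb K x).ncard = 1 + ∑ i ∈ S, n i := by
  classical
  have hxO : x ∈ orb K x := ⟨1, K.one_mem, one_smul _ _⟩
  have hinv : ∀ g : G, g • x = x → ∀ y ∈ orb K x, g • y ∈ orb K x := by
    rintro g hg y ⟨k, hk, rfl⟩
    refine ⟨g * k * g⁻¹, ‹K.Normal›.conj_mem k hk g, ?_⟩
    rw [mul_smul, mul_smul]
    congr 1
    congr 1
    rw [inv_smul_eq_iff, hg]
  have hCO : ∀ i, (∃ a ∈ C i, a ∈ orb K x) → C i ⊆ orb K x := by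
    rintro i ⟨a, haC, haO⟩ a' ha'
    obtain ⟨g, hg, hga⟩ := hC i a haC a' ha'
    rw [← hga]
    exact hinv g hg a haO
  let S : Finset ι := Finset.univ.filter (fun i => ∃ a ∈ C i, a ∈ orb K x)
  have hS : ∀ i, i ∈ S ↔ ∃ a ∈ C i, a ∈ orb K x := by
    intro i
    simp [S]
  have hO : orb K x = insert x (⋃ i ∈ S, C i) := by
    ext y
    constructor
    · intro hy
      rcases hcover y with h | ⟨i, hi⟩
      · exact Or.inl h
      · right
        rw [Set.mem_iUnion₂]
        exact ⟨i, (hS i).mpr ⟨y, hi, hy⟩, hi⟩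
    · rintro (h | h)
      · rw [h]; exact hxO
      · rw [Set.mem_iUnion₂] at h
        obtain ⟨i, hi, hy⟩ := h
        exact hCO i ((hS i).mp hi) hy
  have hxU : x ∉ ⋃ i ∈ S, C i := by
    rw [Set.mem_iUnion₂]
    rintro ⟨i, -, hi⟩
    exact hx i hi
  have hdvd := card_orb_dvd K x
  have hc : (orb K x).ncard = 1 + ∑ i ∈ S, n i := by
    rw [hO, Set.ncard_insert_of_notMem hxU (Set.toFinite _),
      ncard_biUnion C n hdisj hn S, add_comm]
  rw [hcard, hc] at hdvd
  exact ⟨S, hO, hdvd, hc⟩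

include hC in
/-- a subgroup containing the stabiliser of `x` has orbits containing the classes -/
theorem class_subset_orb (K : Subgroup G) (hK : MulAction.stabilizer G x ≤ K) (i : ι)
    (a : X) (ha : a ∈ C i) : C i ⊆ orb K a := by
  intro a' ha'
  obtain ⟨g, hg, hga⟩ := hC i a ha a' ha'
  exact ⟨g, hK (MulAction.mem_stabilizer_iff.mpr hg), hga⟩

include htrans hcover hx hdisj hC hn hcard in
theorem simple_of_prim' (P : Finset ι → Prop)
    (hdiv : ∀ S : Finset ι, (1 + ∑ i ∈ S, n i) ∣ N → S = ∅ ∨ S = Finset.univ ∨ P S)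
    (hbad : ∀ S, P S → ∀ K : Subgroup G, K.Normal → orb K x = insert x (⋃ i ∈ S, C i) → False)
    (hbig : ∃ i, 1 < n i)
    (hnt : Nontrivial G)
    (hreg : ∀ K : Subgroup G, K.Normal → Disjoint K (MulAction.stabilizer G x) →
      Nat.card ↥K = Nat.card X → False)
    (hsimple : IsSimpleGroup ↥(MulAction.stabilizer G x)) :
    IsSimpleGroup G := by
  refine ⟨fun K hKn => ?_⟩
  by_cases hK : K = ⊥
  · exact Or.inl hK
  right
  obtain ⟨S, hO, hdvd, -⟩ := orb_shape x C n hcover hx hdisj hC hn N hcard K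
  rcases hdiv S hdvd with hS | hS | hS
  · exfalso
    apply hK
    apply fix_trivial htrans x C n hC hn hsimple hbig K
    rw [hO, hS]
    simp
  · have htr : orb K x = Set.univ := by
      ext y
      simp only [Set.mem_univ, iff_true]
      rw [hO]
      rcases hcover y with h' | ⟨i, hi⟩
      · exact Or.inl h'
      · right
        rw [Set.mem_iUnion₂]
        exact ⟨i, hS ▸ Finset.mem_univ i, hi⟩
    have hn' : (K.subgroupOf (MulAction.stabilizer G x)).Normal := inferInstance
    rcases hsimple.eq_bot_or_eq_top_of_normal _ hn' with h | h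
    · exfalso
      rw [Subgroup.subgroupOf_eq_bot] at h
      apply hreg K hKn h
      rw [card_of_disjoint K x h, htr, Set.ncard_univ]
    · rw [Subgroup.subgroupOf_eq_top] at h
      rw [eq_top_iff]
      intro g _
      have hgx : g • x ∈ orb K x := by rw [htr]; exact Set.mem_univ _
      obtain ⟨k, hk, hkx⟩ := hgx
      have h1 : k⁻¹ * g ∈ MulAction.stabilizer G x := by
        rw [MulAction.mem_stabilizer_iff, mul_smul, inv_smul_eq_iff, hkx]
      have h2 : k⁻¹ * g ∈ K := h h1
      have : g = k * (k⁻¹ * g) := by group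
      rw [this]
      exact K.mul_mem hk h2
  · exact absurd (hbad S hS K hKn hO) id

end

end Cfsg.Agent.Lib.Helper9.PrimSimple3
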