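import Cfsg.Agent.Lib.Helper9.McL275c
import Cfsg.Agent.Lib.Helper9.McLsimple3
import Cfsg.Agent.Lib.Helper9.PrimSimple3
import Cfsg.Agent.Lib.Helper9.Ord552

set_option autoImplicit false

/-! The stabiliser of the standard vector `(5, 1^23)` of sum of squares 48: its action on the 552
minimal vectors `y` with `u - y` minimal. -/

namespace Cfsg.Agent.Lib.Helper9.Co3simple1

open Cfsg Finset Cfsg.Agent.Lib.Helper4.Leech
  Cfsg.Agent.Lib.Helper9.LeechE3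
  Cfsg.Agent.Lib.Helper9.LeechE4 Cfsg.Agent.Lib.Helper9.LeechE5 Cfsg.Agent.Lib.Helper9.LeechE8
  Cfsg.Agent.Lib.Helper9.LeechF1
  Cfsg.Agent.Lib.Helper9.LeechX8
  Cfsg.Agent.Lib.Helper9.LeechX9 Cfsg.Agent.Lib.Helper9.LeechX10 Cfsg.Agent.Lib.Helper9.LeechX11
  Cfsg.Agent.Lib.Helper9.LeechP1 Cfsg.Agent.Lib.Helper9.LeechP2
  Cfsg.Agent.Lib.Helper9.LeechP6 Cfsg.Agent.Lib.Helper9.LeechQ2
  Cfsg.Agent.Lib.Helper9.LeechC7 Cfsg.Agent.Lib.Helper9.McL275a Cfsg.Agent.Lib.Helper9.McL275b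
  Cfsg.Agent.Lib.Helper9.McL275c Cfsg.Agent.Lib.Helper9.PrimSimple2
  Cfsg.Agent.Lib.Helper9.PrimSimple3

/-- the stabiliser of the standard vector -/
abbrev G3 : Subgroup ↥Co0 := MulAction.stabilizer ↥Co0 rG

theorem mem_G3 (g : ↥Co0) : g ∈ G3 ↔ g.1 rG = rG := by
  show g ∈ MulAction.stabilizer ↥Co0 rG ↔ _
  rw [MulAction.mem_stabilizer_iff]
  rfl

/-- the 552 vectors -/
def co3Set : Set leechLattice := {y | sqNorm y.1 = 32 ∧ dotInt rG.1 y.1 = 24}

def co3Sub : SubMulAction ↥G3 leechLattice where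
  carrier := co3Set
  smul_mem' := by
    rintro g y ⟨h1, h2⟩
    have hg := (mem_G3 g.1).mp g.2
    have hc : g.1.1 ∈ Co0 := g.1.2
    show sqNorm (g.1.1 y).1 = 32 ∧ dotInt rG.1 (g.1.1 y).1 = 24
    refine ⟨by rw [hc.2, h1], ?_⟩
    have := dot_pres g.1.1 hc rG y
    rw [hg] at this
    rw [this, h2]

theorem smul_val (g : ↥G3) (y : ↥co3Sub) : (g • y).1 = g.1.1 y.1 := rfl

theorem mem_co3 (y : ↥co3Sub) : sqNorm y.1.1 = 32 ∧ dotInt rG.1 y.1.1 = 24 := y.2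

/-- the base point -/
def x3 : ↥co3Sub := ⟨rA, rA_norm, rG_rA⟩

/-- building elements of the group -/
def mkG (g : Equiv.Perm leechLattice) (hg : g ∈ Co0) (h1 : g rG = rG) : ↥G3 :=
  ⟨⟨g, hg⟩, (mem_G3 _).mpr h1⟩

/-- the complementary vector -/
theorem compl_mem (y : leechLattice) (hy : sqNorm y.1 = 32 ∧ dotInt rG.1 y.1 = 24) :
    sqNorm (rG - y).1 = 32 ∧ dotInt rG.1 (rG - y).1 = 24 := by
  constructor
  · show sqNorm (rG.1 - y.1) = 32
    rw [sqNorm_sub, rG_norm, hy.1, hy.2]; norm_num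
  · show dotInt rG.1 (rG.1 - y.1) = 24
    rw [dot_sub_right, dot_self, rG_norm, hy.2]; norm_num

theorem htrans (y z : ↥co3Sub) : ∃ g : ↥G3, g • y = z := by
  obtain ⟨hy1, hy2⟩ := mem_co3 y
  obtain ⟨hz1, hz2⟩ := mem_co3 z
  have hy' := compl_mem y.1 ⟨hy1, hy2⟩
  have hz' := compl_mem z.1 ⟨hz1, hz2⟩
  have d1 : dotInt y.1.1 (rG - y.1).1 = -8 := by
    show dotInt y.1.1 (rG.1 - y.1.1) = -8
    rw [dot_sub_right, dot_self, hy1, dot_comm, hy2]; norm_num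
  have d2 : dotInt z.1.1 (rG - z.1).1 = -8 := by
    show dotInt z.1.1 (rG.1 - z.1.1) = -8
    rw [dot_sub_right, dot_self, hz1, dot_comm, hz2]; norm_num
  obtain ⟨g, hg, g1, g2⟩ := pairs8 y.1 (rG - y.1) z.1 (rG - z.1) hy1 hy'.1 hz1 hz'.1 d1 d2
  have g3 : g rG = rG := by
    have : rG = y.1 + (rG - y.1) := by abel
    rw [this, hg.1, g1, g2]; abel
  exact ⟨mkG g hg g3, Subtype.ext g1⟩

/-! ### counts -/

set_option maxRecDepth 100000 in
theorem T_552 : T2S (Icc (-5) 5) (kG 512 1 5) (kG 512 5 25) (kG 512 1 5)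
    (512 * 32 + 164) = 552 := by
  decide +kernel

theorem hpos_552 : ∀ i, ∀ a ∈ Icc (-5 : ℤ) 5, 0 ≤ cf 1 5 1 i * a + cf 5 25 5 i ∧
    cf 1 5 1 i * a + cf 5 25 5 i ≤ cf 10 50 10 i := by
  decide +kernel

theorem count552_std :
    {x : GolayPt → ℤ | x ∈ leechLattice ∧ sqNorm x = 32 ∧ dotInt rG.1 x = 24}.ncard = 552 := by
  have h := lin2_count_all 512 1 5 1 5 25 5 10 50 10 hpos_552 (by norm_num) 32
    (by norm_num) 24 (by norm_num) (by norm_num) (Or.inl ⟨by norm_num, by norm_num⟩)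
    (by norm_num) (by norm_num)
  rw [show ((24 : ℤ) + (22 * 5 + 25 + 5)).toNat = 164 by decide, T_552] at h
  refine (congrArg Set.ncard ?_).trans h
  ext x
  simp only [Set.mem_setOf_eq, dot_rG']
  constructor
  · rintro ⟨h1, h2, h3⟩
    exact ⟨h1, by exact_mod_cast h2, h3⟩
  · rintro ⟨h1, h2, h3⟩
    exact ⟨h1, by exact_mod_cast h2, h3⟩

set_option maxRecDepth 100000 in
theorem T_275' : T2S (Icc (-5) 5) (kG 1024 1 5) (kG 1024 41 205) (kG 1024 37 185)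
    (1024 * 32 + 596) = 275 := by
  decide +kernel

theorem count275'_std :
    {x : GolayPt → ℤ | x ∈ leechLattice ∧ sqNorm x = 32 ∧ dotInt rG.1 x = 24 ∧
      dotInt rA.1 x = 8}.ncard = 275 := by
  have h := lin2_count_all 1024 1 41 37 5 205 185 10 410 370 hpos_275 (by norm_num) 32
    (by norm_num) 96 (by norm_num) (by norm_num) (Or.inr ⟨by norm_num, by norm_num⟩)
    (by norm_num) (by norm_num)
  rw [show ((96 : ℤ) + (22 * 5 + 205 + 185)).toNat = 596 by decide, T_275'] at h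
  refine (congrArg Set.ncard ?_).trans h
  ext x
  simp only [Set.mem_setOf_eq]
  have hcomb : dotInt rG.1 x + 9 * dotInt rA.1 x = lin2 1 41 37 x := by
    rw [dot_rG', dot_rA', lin2_comb]
    norm_num
  constructor
  · rintro ⟨h1, h2, h3, h4⟩
    refine ⟨h1, by exact_mod_cast h2, ?_⟩
    rw [← hcomb, h3, h4]; norm_num
  · rintro ⟨h1, h2, h3⟩
    have h2' : sqNorm x = 32 := by exact_mod_cast h2
    rw [← hcomb] at h3
    obtain ⟨k, hk⟩ := dot_dvd8 rA.1 x rA.2 h1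
    obtain ⟨k', hk'⟩ := dot_dvd8 rG.1 x rG.2 h1
    obtain ⟨b1, b2⟩ := dot_abs_lt rA.1 x 33 (by norm_num) (by rw [rA_norm, h2']; norm_num)
    obtain ⟨c1, c2⟩ := dot_abs_lt rG.1 x 40 (by norm_num) (by rw [rG_norm, h2']; norm_num)
    refine ⟨h1, h2', by omega, by omega⟩

theorem hX : Nat.card ↥co3Sub = 552 := by
  have e : Nat.card ↥co3Sub = co3Set.ncard := rfl
  rw [e, ← count552_std, ← Set.ncard_image_of_injective _ Subtype.val_injective]
  congr 1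
  ext y
  constructor
  · rintro ⟨z, ⟨h1, h2⟩, rfl⟩
    exact ⟨z.2, h1, h2⟩
  · rintro ⟨hm, h1, h2⟩
    exact ⟨⟨y, hm⟩, ⟨h1, h2⟩, rfl⟩

instance : Finite ↥co3Sub := by
  apply Nat.finite_of_card_ne_zero
  rw [hX]
  norm_num

/-! ### the classes -/

def cval : Fin 3 → ℤ := ![-8, 16, 8]

def cls (i : Fin 3) : Set ↥co3Sub := {y | dotInt rA.1 y.1.1 = cval i}

def cnt : Fin 3 → ℕ := ![1, 275, 275]

theorem cval_ne : ∀ i : Fin 3, cval i ≠ 32 := by decide

theorem cval_inj : ∀ i j : Fin 3, cval i = cval j → i = j := by decide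

theorem hx (i : Fin 3) : x3 ∉ cls i := by
  intro h
  have h' : dotInt rA.1 rA.1 = cval i := h
  rw [dot_self, rA_norm] at h'
  exact cval_ne i h'.symm

theorem hdisj (i j : Fin 3) (hij : i ≠ j) : Disjoint (cls i) (cls j) := by
  rw [Set.disjoint_left]
  intro y hi hj
  have hi' : dotInt rA.1 y.1.1 = cval i := hi
  have hj' : dotInt rA.1 y.1.1 = cval j := hj
  exact hij (cval_inj i j (hi'.symm.trans hj'))

theorem card_sub (d : ℤ) :
    ({y : ↥co3Sub | dotInt rA.1 y.1.1 = d} : Set ↥co3Sub).ncard =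
      {y : GolayPt → ℤ | y ∈ leechLattice ∧ sqNorm y = 32 ∧ dotInt rG.1 y = 24 ∧
        dotInt rA.1 y = d}.ncard := by
  rw [← Set.ncard_image_of_injective _ Subtype.val_injective,
    ← Set.ncard_image_of_injective _ Subtype.val_injective]
  congr 1
  ext y
  constructor
  · rintro ⟨z, ⟨w, hw, rfl⟩, rfl⟩
    obtain ⟨h1, h2⟩ := mem_co3 w
    exact ⟨w.1.2, h1, h2, hw⟩
  · rintro ⟨hm, h1, h2, h3⟩
    exact ⟨⟨y, hm⟩, ⟨⟨⟨y, hm⟩, h1, h2⟩, h3, rfl⟩, rfl⟩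

/-- the complementary base point -/
def xc : ↥co3Sub := ⟨rBb, rBb_norm, by
  show dotInt rG.1 rBb.1 = 24
  decide +kernel⟩

/-- two minimal vectors with inner product 32 coincide -/
theorem eq_of_dot32 (a b : leechLattice) (ha : sqNorm a.1 = 32) (hb : sqNorm b.1 = 32)
    (h : dotInt a.1 b.1 = 32) : a = b := by
  have h0 : sqNorm (a - b).1 = 0 := by
    show sqNorm (a.1 - b.1) = 0
    rw [sqNorm_sub, ha, hb, h]; norm_num
  have h1 : (a - b).1 = 0 := by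
    by_contra hne
    have := Cfsg.Agent.S0391.result (a - b).1 (a - b).2 hne
    omega
  have h2 : a - b = 0 := Subtype.ext h1
  exact sub_eq_zero.mp h2

theorem cls0_eq : cls 0 = {xc} := by
  ext y
  constructor
  · intro hy
    have hy' : dotInt rA.1 y.1.1 = -8 := hy
    obtain ⟨h1, h2⟩ := mem_co3 y
    obtain ⟨c1, c2⟩ := compl_mem y.1 ⟨h1, h2⟩
    have hd : dotInt rA.1 (rG - y.1).1 = 32 := by
      show dotInt rA.1 (rG.1 - y.1.1) = 32
      rw [dot_sub_right, dot_comm, rG_rA, hy']; norm_num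
    have := eq_of_dot32 rA (rG - y.1) rA_norm c1 hd
    rw [Set.mem_singleton_iff]
    apply Subtype.ext
    show y.1 = rBb
    rw [rBb_eq]
    rw [this]; abel
  · intro hy
    rw [Set.mem_singleton_iff] at hy
    rw [hy]
    show dotInt rA.1 rBb.1 = -8
    exact rA_rBb

theorem hn (i : Fin 3) : (cls i).ncard = cnt i := by
  fin_cases i
  · show (cls 0).ncard = 1
    rw [cls0_eq, Set.ncard_singleton]
  · show ({y : ↥co3Sub | dotInt rA.1 y.1.1 = 16} : Set ↥co3Sub).ncard = 275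
    rw [card_sub]; exact count275_std
  · show ({y : ↥co3Sub | dotInt rA.1 y.1.1 = 8} : Set ↥co3Sub).ncard = 275
    rw [card_sub]; exact count275'_std

theorem hcover (y : ↥co3Sub) : y = x3 ∨ ∃ i, y ∈ cls i := by
  have hU : (⋃ i ∈ (Finset.univ : Finset (Fin 3)), cls i).ncard = ∑ i, cnt i :=
    ncard_biUnion cls cnt hdisj hn Finset.univ
  have hsum : ∑ i, cnt i = 551 := by decide
  have hx1 : x3 ∉ ⋃ i ∈ (Finset.univ : Finset (Fin 3)), cls i := by
    rw [Set.mem_iUnion₂]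
    rintro ⟨i, -, hi⟩
    exact hx i hi
  have hall : insert x3 (⋃ i ∈ (Finset.univ : Finset (Fin 3)), cls i) = Set.univ := by
    apply Set.eq_of_subset_of_ncard_le (Set.subset_univ _) _ (Set.toFinite _)
    rw [Set.ncard_insert_of_notMem hx1 (Set.toFinite _), hU, hsum, Set.ncard_univ, hX]
  have hy : y ∈ insert x3 (⋃ i ∈ (Finset.univ : Finset (Fin 3)), cls i) := by
    rw [hall]; exact Set.mem_univ _
  rcases hy with h | h
  · exact Or.inl h
  · rw [Set.mem_iUnion₂] at h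
    obtain ⟨i, -, hi⟩ := h
    exact Or.inr ⟨i, hi⟩

theorem hC (i : Fin 3) (a : ↥co3Sub) (ha : a ∈ cls i) (a' : ↥co3Sub) (ha' : a' ∈ cls i) :
    ∃ g : ↥G3, g • x3 = x3 ∧ g • a = a' := by
  obtain ⟨hy1, hy2⟩ := mem_co3 a
  obtain ⟨hz1, hz2⟩ := mem_co3 a'
  have huv : sqNorm (rG.1 - rA.1) = 32 := by
    rw [sqNorm_sub, rG_norm, rA_norm, rG_rA]; norm_num
  fin_cases i
  · have e1 : a ∈ cls 0 := ha
    have e2 : a' ∈ cls 0 := ha'
    rw [cls0_eq, Set.mem_singleton_iff] at e1 e2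
    exact ⟨1, one_smul _ _, by rw [one_smul, e1, e2]⟩
  · have e1 : dotInt rA.1 a.1.1 = 16 := ha
    have e2 : dotInt rA.1 a'.1.1 = 16 := ha'
    obtain ⟨g, hg, g1, g2, g3⟩ := trans275 rG rA a.1 a'.1 rG_norm rA_norm huv
      ⟨hy1, (norm_sub_iff rG a.1 rG_norm hy1).mpr hy2, e1⟩
      ⟨hz1, (norm_sub_iff rG a'.1 rG_norm hz1).mpr hz2, e2⟩
    exact ⟨mkG g hg g1, Subtype.ext g2, Subtype.ext g3⟩
  · have e1 : dotInt rA.1 a.1.1 = 8 := ha
    have e2 : dotInt rA.1 a'.1.1 = 8 := ha'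
    obtain ⟨c1, c2⟩ := compl_mem a.1 ⟨hy1, hy2⟩
    obtain ⟨c1', c2'⟩ := compl_mem a'.1 ⟨hz1, hz2⟩
    have f1 : dotInt rA.1 (rG - a.1).1 = 16 := by
      show dotInt rA.1 (rG.1 - a.1.1) = 16
      rw [dot_sub_right, dot_comm, rG_rA, e1]; norm_num
    have f2 : dotInt rA.1 (rG - a'.1).1 = 16 := by
      show dotInt rA.1 (rG.1 - a'.1.1) = 16
      rw [dot_sub_right, dot_comm, rG_rA, e2]; norm_num
    obtain ⟨g, hg, g1, g2, g3⟩ := trans275 rG rA (rG - a.1) (rG - a'.1) rG_norm rA_norm huv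
      ⟨c1, (norm_sub_iff rG _ rG_norm c1).mpr c2, f1⟩
      ⟨c1', (norm_sub_iff rG _ rG_norm c1').mpr c2', f2⟩
    refine ⟨mkG g hg g1, Subtype.ext g2, Subtype.ext ?_⟩
    show g a.1 = a'.1
    rw [co0_sub g hg, g1] at g3
    have : rG - g a.1 = rG - a'.1 := g3
    exact sub_right_injective this

end Cfsg.Agent.Lib.Helper9.Co3simple1
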