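import Mathlib

set_option autoImplicit false

/-! A group of order `m * p`, with `p` a prime not dividing `m` such that the only divisors of `m`
congruent to 1 modulo `p` are `1` and `m`, has a characteristic subgroup of order `p` or `m`. -/

namespace Cfsg.Agent.Lib.Helper9.OrdPM

theorem fact_p (p m : ℕ) (hp : p.Prime) (hm : ¬ p ∣ m) : (m * p).factorization p = 1 := by
  have hm0 : m ≠ 0 := by
    rintro rfl
    exact hm (dvd_zero p)
  rw [Nat.factorization_mul hm0 hp.ne_zero]
  have h1 : Nat.factorization m p = 0 := Nat.factorization_eq_zero_of_not_dvd hm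
  have h2 : Nat.factorization p p = 1 := Nat.Prime.factorization_self hp
  simp [h1, h2]

theorem exists_char {K : Type*} [Group K] [Finite K] (p m : ℕ) [hp : Fact p.Prime]
    (hK : Nat.card K = m * p) (hm : ¬ p ∣ m)
    (hdiv : ∀ n : ℕ, n ∣ m → n % p = 1 → n = 1 ∨ n = m) :
    ∃ P : Subgroup K, P.Characteristic ∧ (Nat.card ↥P = p ∨ Nat.card ↥P = m) := by
  have hp1 : 1 < p := hp.out.one_lt
  have hp0 : 0 < p := hp.out.pos
  obtain ⟨P⟩ : Nonempty (Sylow p K) := Sylow.nonempty
  have hcP : Nat.card ↥(P : Subgroup K) = p := by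
    have h0 := Sylow.card_eq_multiplicity P
    rw [hK, fact_p p m hp.out hm] at h0
    simpa using h0
  have hidx : (P : Subgroup K).index = m := by
    have := Subgroup.card_mul_index (P : Subgroup K)
    rw [hcP, hK, mul_comm] at this
    exact Nat.eq_of_mul_eq_mul_right hp0 this
  have h1 : Nat.card (Sylow p K) % p = 1 % p := card_sylow_modEq_one p K
  rw [Nat.mod_eq_of_lt hp1] at h1
  have h2 := P.card_dvd_index
  rw [hidx] at h2
  rcases hdiv _ h2 h1 with hn | hn
  · haveI : Subsingleton (Sylow p K) := (Nat.card_eq_one_iff_unique.mp hn).1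
    exact ⟨_, Sylow.characteristic_of_subsingleton P, Or.inl hcP⟩
  · -- the normaliser of `P` is `P`
    have hN : Subgroup.normalizer ((P : Subgroup K) : Set K) = (P : Subgroup K) := by
      have e1 : m = (Subgroup.normalizer ((P : Subgroup K) : Set K)).index := by
        rw [← hn]; exact P.card_eq_index_normalizer
      have e2 := Subgroup.card_mul_index (Subgroup.normalizer ((P : Subgroup K) : Set K))
      rw [← e1, hK] at e2
      have hm0 : 0 < m := by
        rcases Nat.eq_zero_or_pos m with h | h
        · exfalso; rw [h] at hm; exact hm (dvd_zero p)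
        · exact h
      have e3 : Nat.card ↥(Subgroup.normalizer ((P : Subgroup K) : Set K)) = p := by
        rw [mul_comm] at e2
        exact Nat.eq_of_mul_eq_mul_left hm0 e2
      symm
      apply Subgroup.eq_of_le_of_card_ge Subgroup.le_normalizer
      rw [e3, hcP]
    have hcomm : ∀ a b : ↥(P : Subgroup K), a * b = b * a := by
      haveI : IsCyclic ↥(P : Subgroup K) := isCyclic_of_prime_card (p := p) hcP
      have hc : IsMulCommutative ↥(P : Subgroup K) := IsCyclic.isMulCommutative
      exact hc.is_comm.comm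
    have hP : Subgroup.normalizer ((P : Subgroup K) : Set K) ≤
        Subgroup.centralizer ((P : Subgroup K) : Set K) := by
      rw [hN]
      intro a ha b hb
      have := hcomm ⟨b, hb⟩ ⟨a, ha⟩
      exact congrArg Subtype.val this
    have hcomp := MonoidHom.ker_transferSylow_isComplement' P hP
    have hcm := hcomp.card_mul_card
    rw [hcP, hK] at hcm
    have hcQ : Nat.card ↥(MonoidHom.transferSylow P hP).ker = m :=
      Nat.eq_of_mul_eq_mul_right hp0 hcm
    refine ⟨(MonoidHom.transferSylow P hP).ker, ?_, Or.inr hcQ⟩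
    rw [Subgroup.characteristic_iff_map_le]
    intro ϕ k hk
    obtain ⟨k0, hk0, rfl⟩ := hk
    rw [MonoidHom.mem_ker]
    have hm1 : k0 ^ m = 1 := by
      have : (⟨k0, hk0⟩ : ↥(MonoidHom.transferSylow P hP).ker) ^ m = 1 := by
        rw [← hcQ]; exact pow_card_eq_one'
      exact congrArg Subtype.val this
    set t := MonoidHom.transferSylow P hP (ϕ.toMonoidHom k0) with ht
    have em : t ^ m = 1 := by
      rw [ht, ← map_pow, ← map_pow, hm1, map_one, map_one]
    have ep : t ^ p = 1 := by
      have := pow_card_eq_one' (x := t)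
      rwa [hcP] at this
    have d1 : orderOf t ∣ m := orderOf_dvd_of_pow_eq_one em
    have d2 : orderOf t ∣ p := orderOf_dvd_of_pow_eq_one ep
    have hcop : Nat.Coprime m p := (Nat.Prime.coprime_iff_not_dvd hp.out).mpr hm |>.symm
    have d3 : orderOf t ∣ 1 := by
      have := Nat.dvd_gcd d1 d2
      rwa [hcop] at this
    exact orderOf_eq_one_iff.mp (Nat.dvd_one.mp d3)

theorem dvd2048 (n : ℕ) (h : n ∣ 2048) (h23 : n % 23 = 1) : n = 1 ∨ n = 2048 := by
  have e : (2048 : ℕ) = 2 ^ 11 := by norm_num
  rw [e] at h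
  obtain ⟨k, hk, rfl⟩ := (Nat.dvd_prime_pow Nat.prime_two).mp h
  interval_cases k <;> simp_all

/-- a group of order 47104 has a characteristic subgroup of order 23 or 2048 -/
theorem exists_char_47104 {K : Type*} [Group K] [Finite K] (hK : Nat.card K = 47104) :
    ∃ P : Subgroup K, P.Characteristic ∧ (Nat.card ↥P = 23 ∨ Nat.card ↥P = 2048) := by
  haveI : Fact (Nat.Prime 23) := ⟨by norm_num⟩
  exact exists_char 23 2048 (by rw [hK]) (by norm_num) dvd2048

end Cfsg.Agent.Lib.Helper9.OrdPM
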