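import Cfsg.Agent.Lib.Helper9.PrimSimple3

set_option autoImplicit false

/-! A simplicity criterion using only the degree: the orbits of a normal subgroup of a transitive
group have a common size dividing the degree. -/

namespace Cfsg.Agent.Lib.Helper9.PrimSimple4

open MulAction Cfsg.Agent.Lib.Helper9.PrimSimple2 Cfsg.Agent.Lib.Helper9.PrimSimple3

variable {G X : Type*} [Group G] [Finite G] [MulAction G X] [Finite X]
variable {ι : Type*} [Fintype ι]

/-- the orbits of a normal subgroup of a transitive group have a size dividing the degree -/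
theorem orb_card_dvd (htrans : ∀ y z : X, ∃ g : G, g • y = z) (K : Subgroup G) [K.Normal]
    (x : X) : (orb K x).ncard ∣ Nat.card X := by
  classical
  haveI : Fintype (MulAction.orbitRel.Quotient ↥K X) := Fintype.ofFinite _
  have e := MulAction.selfEquivSigmaOrbits ↥K X
  have h1 := Nat.card_congr e
  rw [Nat.card_sigma] at h1
  have h2 : ∀ ω : MulAction.orbitRel.Quotient ↥K X,
      Nat.card ↥(MulAction.orbit ↥K ω.out) = (orb K x).ncard := by
    intro ω
    obtain ⟨g, hg⟩ := htrans x ω.out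
    rw [← ncard_orb_smul K g x, hg, orb_eq]
    rfl
  rw [h1]
  simp only [h2, Finset.sum_const, smul_eq_mul]
  exact Dvd.intro_left _ rfl

section
variable (htrans : ∀ y z : X, ∃ g : G, g • y = z)
  (x : X) (C : ι → Set X) (n : ι → ℕ)
  (hcover : ∀ y : X, y = x ∨ ∃ i, y ∈ C i)
  (hx : ∀ i, x ∉ C i)
  (hdisj : ∀ i j, i ≠ j → Disjoint (C i) (C j))
  (hC : ∀ i, ∀ a ∈ C i, ∀ a' ∈ C i, ∃ g : G, g • x = x ∧ g • a = a')
  (hn : ∀ i, (C i).ncard = n i)

include htrans hcover hx hdisj hC hn in
/-- the size of the orbit of the base point under a normal subgroup -/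
theorem orb_size (K : Subgroup G) [K.Normal] :
    ∃ S : Finset ι, (orb K x).ncard = 1 + ∑ i ∈ S, n i ∧ (1 + ∑ i ∈ S, n i) ∣ Nat.card X := by
  obtain ⟨S, -, -, hc⟩ := orb_shape x C n hcover hx hdisj hC hn (Nat.card G) rfl K
  exact ⟨S, hc, hc ▸ orb_card_dvd htrans K x⟩

include htrans hcover hx hdisj hC hn in
theorem simple_of_prim_deg
    (hdiv : ∀ S : Finset ι, (1 + ∑ i ∈ S, n i) ∣ Nat.card X → S = ∅ ∨ S = Finset.univ)
    (hbig : ∃ i, 1 < n i)
    (hnt : Nontrivial G)
    (hreg : ∀ K : Subgroup G, K.Normal → Disjoint K (MulAction.stabilizer G x) →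
      Nat.card ↥K = Nat.card X → False)
    (hsimple : IsSimpleGroup ↥(MulAction.stabilizer G x)) :
    IsSimpleGroup G := by
  classical
  refine simple_of_prim' htrans x C n hcover hx hdisj hC hn (Nat.card G) rfl
    (fun S => ¬ (1 + ∑ i ∈ S, n i) ∣ Nat.card X) ?_ ?_ hbig hnt hreg hsimple
  · intro S _
    by_cases h : (1 + ∑ i ∈ S, n i) ∣ Nat.card X
    · rcases hdiv S h with h' | h'
      · exact Or.inl h'
      · exact Or.inr (Or.inl h')
    · exact Or.inr (Or.inr h)
  · intro S hS K hKn hO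
    haveI := hKn
    apply hS
    have hxU : x ∉ ⋃ i ∈ S, C i := by
      rw [Set.mem_iUnion₂]
      rintro ⟨i, -, hi⟩
      exact hx i hi
    have hc : (orb K x).ncard = 1 + ∑ i ∈ S, n i := by
      rw [hO, Set.ncard_insert_of_notMem hxU (Set.toFinite _),
        ncard_biUnion C n hdisj hn S, add_comm]
    rw [← hc]
    exact orb_card_dvd htrans K x

end

end Cfsg.Agent.Lib.Helper9.PrimSimple4
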