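import Cfsg.Agent.Lib.Helper9.Co2orbg
import Cfsg.Agent.Lib.Helper9.Co3simple1
import Cfsg.Agent.Lib.Helper9.PrimSimple4
import Cfsg.Agent.Lib.Helper9.OrdPM

set_option autoImplicit false

/-! The stabiliser of the standard minimal vector `(4, 4, 0^22)`: its action on the 47104 minimal
vectors with inner product `-8` with it. -/

namespace Cfsg.Agent.Lib.Helper9.Co2simple1

open Cfsg Finset Cfsg.Agent.Lib.Helper4.Leech
  Cfsg.Agent.Lib.Helper9.LeechE4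
  Cfsg.Agent.Lib.Helper9.LeechX8
  Cfsg.Agent.Lib.Helper9.LeechX9 Cfsg.Agent.Lib.Helper9.LeechX11
  Cfsg.Agent.Lib.Helper9.LeechP6
  Cfsg.Agent.Lib.Helper9.PrimSimple2
  Cfsg.Agent.Lib.Helper9.PrimSimple3 Cfsg.Agent.Lib.Helper9.PrimSimple4
  Cfsg.Agent.Lib.Helper9.Co2orba Cfsg.Agent.Lib.Helper9.Co2orbg

/-- the stabiliser of the standard minimal vector -/
abbrev G2 : Subgroup ↥Co0 := MulAction.stabilizer ↥Co0 a3

theorem mem_G2 (g : ↥Co0) : g ∈ G2 ↔ g.1 a3 = a3 := by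
  show g ∈ MulAction.stabilizer ↥Co0 a3 ↔ _
  rw [MulAction.mem_stabilizer_iff]
  rfl

/-- the 47104 vectors -/
def co2Set : Set leechLattice := {y | sqNorm y.1 = 32 ∧ dotInt a3.1 y.1 = -8}

def co2Sub : SubMulAction ↥G2 leechLattice where
  carrier := co2Set
  smul_mem' := by
    rintro g y ⟨h1, h2⟩
    have hg := (mem_G2 g.1).mp g.2
    have hc : g.1.1 ∈ Co0 := g.1.2
    show sqNorm (g.1.1 y).1 = 32 ∧ dotInt a3.1 (g.1.1 y).1 = -8
    refine ⟨by rw [hc.2, h1], ?_⟩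
    have := dot_pres g.1.1 hc a3 y
    rw [hg] at this
    rw [this, h2]

theorem smul_val (g : ↥G2) (y : ↥co2Sub) : (g • y).1 = g.1.1 y.1 := rfl

theorem mem_co2 (y : ↥co2Sub) : sqNorm y.1.1 = 32 ∧ dotInt a3.1 y.1.1 = -8 := y.2

theorem mem_SF (y : ↥co2Sub) : y.1.1 ∈ SF := ⟨y.1.2, y.2.1, y.2.2⟩

/-- the base point -/
def x2 : ↥co2Sub := ⟨b3, b3_norm, a3_b3⟩

/-- building elements of the group -/
def mkG (g : Equiv.Perm leechLattice) (hg : g ∈ Co0) (h1 : g a3 = a3) : ↥G2 :=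
  ⟨⟨g, hg⟩, (mem_G2 _).mpr h1⟩

theorem htrans (y z : ↥co2Sub) : ∃ g : ↥G2, g • y = z := by
  obtain ⟨hy1, hy2⟩ := mem_co2 y
  obtain ⟨hz1, hz2⟩ := mem_co2 z
  obtain ⟨g, hg, g1, g2⟩ := pairs8 a3 y.1 a3 z.1 a3_norm hy1 a3_norm hz1 hy2 hz2
  exact ⟨mkG g hg g1, Subtype.ext g2⟩

theorem hX : Nat.card ↥co2Sub = 47104 := by
  have e : Nat.card ↥co2Sub = co2Set.ncard := rfl
  rw [e, ← SF_card, ← Set.ncard_image_of_injective _ Subtype.val_injective]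
  congr 1
  ext y
  constructor
  · rintro ⟨z, ⟨h1, h2⟩, rfl⟩
    exact ⟨z.2, h1, h2⟩
  · rintro ⟨hm, h1, h2⟩
    exact ⟨⟨y, hm⟩, ⟨h1, h2⟩, rfl⟩

instance : Finite ↥co2Sub := by
  apply Nat.finite_of_card_ne_zero
  rw [hX]
  norm_num

/-! ### the classes -/

def cval : Fin 5 → ℤ := ![-16, -8, 0, 8, 16]

def cls (i : Fin 5) : Set ↥co2Sub := {y | dotInt b3.1 y.1.1 = cval i}

def cnt : Fin 5 → ℕ := ![275, 7128, 22275, 15400, 2025]

theorem cval_ne : ∀ i : Fin 5, cval i ≠ 32 := by decide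

theorem cval_inj : ∀ i j : Fin 5, cval i = cval j → i = j := by decide

theorem hx (i : Fin 5) : x2 ∉ cls i := by
  intro h
  have h' : dotInt b3.1 b3.1 = cval i := h
  rw [dot_self, b3_norm] at h'
  exact cval_ne i h'.symm

theorem hdisj (i j : Fin 5) (hij : i ≠ j) : Disjoint (cls i) (cls j) := by
  rw [Set.disjoint_left]
  intro y hi hj
  have hi' : dotInt b3.1 y.1.1 = cval i := hi
  have hj' : dotInt b3.1 y.1.1 = cval j := hj
  exact hij (cval_inj i j (hi'.symm.trans hj'))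

theorem card_sub (d : ℤ) :
    ({y : ↥co2Sub | dotInt b3.1 y.1.1 = d} : Set ↥co2Sub).ncard =
      {y : leechLattice | y.1 ∈ SF ∧ phi y = d}.ncard := by
  rw [← Set.ncard_image_of_injective _ Subtype.val_injective]
  congr 1
  ext y
  constructor
  · rintro ⟨w, hw, rfl⟩
    exact ⟨mem_SF w, hw⟩
  · rintro ⟨⟨hm, h1, h2⟩, h3⟩
    exact ⟨⟨y, h1, h2⟩, h3, rfl⟩

theorem hn (i : Fin 5) : (cls i).ncard = cnt i := by
  fin_cases i
  · show ({y : ↥co2Sub | dotInt b3.1 y.1.1 = -16} : Set ↥co2Sub).ncard = 275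
    rw [card_sub]; exact card_m16
  · show ({y : ↥co2Sub | dotInt b3.1 y.1.1 = -8} : Set ↥co2Sub).ncard = 7128
    rw [card_sub]; exact card_m8
  · show ({y : ↥co2Sub | dotInt b3.1 y.1.1 = 0} : Set ↥co2Sub).ncard = 22275
    rw [card_sub]; exact card_p0
  · show ({y : ↥co2Sub | dotInt b3.1 y.1.1 = 8} : Set ↥co2Sub).ncard = 15400
    rw [card_sub]; exact card_p8
  · show ({y : ↥co2Sub | dotInt b3.1 y.1.1 = 16} : Set ↥co2Sub).ncard = 2025
    rw [card_sub]; exact card_p16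

theorem hcover (y : ↥co2Sub) : y = x2 ∨ ∃ i, y ∈ cls i := by
  rcases phi_cases y.1 (mem_SF y) with h | h | h | h | h | h
  · left
    apply Subtype.ext
    exact (Cfsg.Agent.Lib.Helper9.Co3simple1.eq_of_dot32 b3 y.1 b3_norm (mem_co2 y).1 h).symm
  · exact Or.inr ⟨0, h⟩
  · exact Or.inr ⟨1, h⟩
  · exact Or.inr ⟨2, h⟩
  · exact Or.inr ⟨3, h⟩
  · exact Or.inr ⟨4, h⟩

theorem hC (i : Fin 5) (a : ↥co2Sub) (ha : a ∈ cls i) (a' : ↥co2Sub) (ha' : a' ∈ cls i) :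
    ∃ g : ↥G2, g • x2 = x2 ∧ g • a = a' := by
  have e1 : phi a.1 = cval i := ha
  have e2 : phi a'.1 = cval i := ha'
  obtain ⟨n, hn, hna⟩ := trans a.1 a'.1 (mem_SF a) (mem_SF a') (e1.trans e2.symm)
  exact ⟨mkG n hn.1 hn.2.1, Subtype.ext hn.2.2, Subtype.ext hna⟩

end Cfsg.Agent.Lib.Helper9.Co2simple1
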