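import Cfsg.Agent.Lib.Helper9.Co2simple1
import Cfsg.Agent.Lib.Helper9.Co3simple3

set_option autoImplicit false

/-! The stabiliser of a minimal vector is simple of order 42305421312000. -/

namespace Cfsg.Agent.Lib.Helper9.Co2simple2

open Cfsg Finset Cfsg.Agent.Lib.Helper4.Leech
  Cfsg.Agent.Lib.Helper9.LeechE4
  Cfsg.Agent.Lib.Helper9.LeechX8
  Cfsg.Agent.Lib.Helper9.LeechX9 Cfsg.Agent.Lib.Helper9.LeechX11
  Cfsg.Agent.Lib.Helper9.PrimSimple2
  Cfsg.Agent.Lib.Helper9.PrimSimple3 Cfsg.Agent.Lib.Helper9.PrimSimple4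
  Cfsg.Agent.Lib.Helper9.Co2orba Cfsg.Agent.Lib.Helper9.Co2orbg
  Cfsg.Agent.Lib.Helper9.Co2simple1

/-! ### the point stabiliser -/

/-- the stabiliser of the standard pair -/
abbrev H2 : Subgroup ↥Co0 := MulAction.stabilizer ↥Co0 a3 ⊓ MulAction.stabilizer ↥Co0 b3

theorem H2_le : H2 ≤ G2 := inf_le_left

theorem range_incl : (Subgroup.inclusion H2_le).range = MulAction.stabilizer ↥G2 x2 := by
  ext g
  rw [MonoidHom.mem_range, MulAction.mem_stabilizer_iff]
  constructor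
  · rintro ⟨t, rfl⟩
    apply Subtype.ext
    show t.1.1 b3 = b3
    exact MulAction.mem_stabilizer_iff.mp t.2.2
  · intro hg
    have h3 : g.1.1 b3 = b3 := congrArg Subtype.val hg
    refine ⟨⟨g.1, ⟨g.2, MulAction.mem_stabilizer_iff.mpr h3⟩⟩, ?_⟩
    apply Subtype.ext; rfl

/-- the point stabiliser is the stabiliser of the standard pair -/
noncomputable def stabEquiv : ↥H2 ≃* ↥(MulAction.stabilizer ↥G2 x2) :=
  (MonoidHom.ofInjective (Subgroup.inclusion_injective H2_le)).trans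
    (MulEquiv.subgroupCongr range_incl)

theorem stab_simple : IsSimpleGroup ↥(MulAction.stabilizer ↥G2 x2) := by
  have : IsSimpleGroup ↥H2 :=
    (Cfsg.Agent.Lib.Helper9.McLsimple3.mcl_general a3 b3 a3_norm b3_norm a3_b3).1
  exact stabEquiv.symm.isSimpleGroup

theorem stab_card : Nat.card ↥(MulAction.stabilizer ↥G2 x2) = 898128000 := by
  rw [← Nat.card_congr stabEquiv.toEquiv]
  exact (Cfsg.Agent.Lib.Helper9.McLsimple3.mcl_general a3 b3 a3_norm b3_norm a3_b3).2

theorem card_G2 : Nat.card ↥G2 = 42305421312000 := by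
  have h1 := Nat.card_congr (MulAction.orbitProdStabilizerEquivGroup ↥G2 x2)
  rw [Nat.card_prod, stab_card] at h1
  have h2 : MulAction.orbit ↥G2 x2 = Set.univ := by
    ext y
    simp only [Set.mem_univ, iff_true]
    obtain ⟨g, hg⟩ := htrans x2 y
    exact ⟨g, hg⟩
  rw [h2, Nat.card_congr (Equiv.Set.univ _), hX] at h1
  omega

instance : Finite ↥G2 := by
  apply Nat.finite_of_card_ne_zero
  rw [card_G2]
  norm_num

/-! ### arithmetic -/

theorem hdiv : ∀ S : Finset (Fin 5), (1 + ∑ i ∈ S, cnt i) ∣ Nat.card ↥co2Sub →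
    S = ∅ ∨ S = Finset.univ := by
  rw [hX]
  decide

theorem no_small : ∀ S : Finset (Fin 5), 1 + ∑ i ∈ S, cnt i ≠ 23 ∧ 1 + ∑ i ∈ S, cnt i ≠ 2048 := by
  decide

theorem hreg (K : Subgroup ↥G2) (hKn : K.Normal)
    (hd : Disjoint K (MulAction.stabilizer ↥G2 x2)) (hcK : Nat.card ↥K = Nat.card ↥co2Sub) :
    False := by
  rw [hX] at hcK
  obtain ⟨P, hPc, hP⟩ := Cfsg.Agent.Lib.Helper9.OrdPM.exists_char_47104 hcK
  haveI := hPc
  have hPn : (P.map K.subtype).Normal := inferInstance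
  have hcM : Nat.card ↥(P.map K.subtype) = Nat.card ↥P :=
    Subgroup.card_map_of_injective K.subtype_injective
  have hle : P.map K.subtype ≤ K := by
    rintro _ ⟨p, -, rfl⟩
    exact p.2
  have hd' : Disjoint (P.map K.subtype) (MulAction.stabilizer ↥G2 x2) := hd.mono_left hle
  obtain ⟨S, hc, -⟩ := orb_size htrans x2 cls cnt hcover hx hdisj hC hn (P.map K.subtype)
  rw [← card_of_disjoint _ x2 hd', hcM] at hc
  obtain ⟨n1, n2⟩ := no_small S
  rcases hP with h | h
  · rw [h] at hc; exact n1 hc.symm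
  · rw [h] at hc; exact n2 hc.symm

theorem simple_G2 : IsSimpleGroup ↥G2 := by
  have hnt : Nontrivial ↥G2 := by
    rw [← Finite.one_lt_card_iff_nontrivial, card_G2]
    norm_num
  exact simple_of_prim_deg htrans x2 cls cnt hcover hx hdisj hC hn hdiv ⟨0, by decide⟩ hnt hreg
    stab_simple

theorem co2_general (v : leechLattice) (hv : sqNorm v.1 = 32) :
    IsSimpleGroup ↥(MulAction.stabilizer ↥Co0 v) ∧
      Nat.card ↥(MulAction.stabilizer ↥Co0 v) = 42305421312000 := by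
  obtain ⟨g, hg, g1⟩ := trans32 v a3 hv a3_norm
  let γ : ↥Co0 := ⟨g, hg⟩
  have e1 : γ • v = a3 := g1
  have e := Cfsg.Agent.Lib.Helper9.Co3simple3.stabConjEquiv γ v
  rw [e1] at e
  haveI : IsSimpleGroup ↥G2 := simple_G2
  exact ⟨e.isSimpleGroup, (Nat.card_congr e.toEquiv).trans card_G2⟩

end Cfsg.Agent.Lib.Helper9.Co2simple2
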