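import Cfsg.Agent.Lib.Helper8.SS5

set_option autoImplicit false
set_option linter.unusedSectionVars false
set_option linter.unusedVariables false

/-! Verified stabiliser chains: the groups of the chain are the successive point stabilisers, so
an element of the group is determined by the images of the base points. -/

namespace Cfsg.Agent.Lib.Helper9.SSB

open Cfsg.Agent.Lib.Helper8.SS Subgroup MulAction

variable {n : ℕ} [NeZero n] {pN pM : ℕ → ℕ} {np : ℕ}

/-- the next group of a chain is the stabiliser of the base point -/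
theorem stab_spec (hv : ∀ i < np, Valid n (pN i) (pM i)) (hid : ∀ x < n, get (pN 0) x = x)
    (L : Level) (Snext deep : List ℕ) (hok : LevelOK n pN np L Snext deep)
    (hdeep : ∀ i ∈ deep, i < np ∧ P n pN pM i ∈ grp n pN pM Snext)
    (g : Equiv.Perm (Fin n)) (hg : g ∈ grp n pN pM L.S)
    (hfix : g ⟨L.b, hok.1⟩ = ⟨L.b, hok.1⟩) : g ∈ grp n pN pM Snext := by
  classical
  obtain ⟨hU, hle, hcard⟩ := level_spec (pM := pM) hv hid L Snext deep hok hdeep
  obtain ⟨hb, hSlt, hUlt, hhead, htree, hsift, hnest, hfixS, hnodup⟩ := hok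
  set p : Fin n := ⟨L.b, hb⟩ with hp
  have hHfix : ∀ h ∈ grp n pN pM Snext, h p = p :=
    grp_fix hv (fun i hi => hSlt i (hnest i hi)) hb hfixS
  -- the orbit is large
  have horb : L.U.length ≤ (orbit (grp n pN pM L.S) p).ncard := by
    have hnd := nodup_points hv hUlt p hnodup
    have h1 : (L.U.map (fun i => (P n pN pM i) p)).toFinset.card = L.U.length := by
      rw [List.toFinset_card_of_nodup hnd, List.length_map]
    rw [← h1, ← Set.ncard_coe_finset]
    apply Set.ncard_le_ncard _ (Set.toFinite _)
    intro q hq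
    rw [Finset.mem_coe, List.mem_toFinset, List.mem_map] at hq
    obtain ⟨i, hi, rfl⟩ := hq
    exact ⟨⟨P n pN pM i, hU i hi⟩, rfl⟩
  have hos : Nat.card (stabilizer (grp n pN pM L.S) p) * (orbit (grp n pN pM L.S) p).ncard =
      Nat.card (grp n pN pM L.S) := by
    rw [← index_stabilizer (grp n pN pM L.S) p]
    exact (stabilizer (grp n pN pM L.S) p).card_mul_index
  -- the stabiliser is small
  have hpos : 0 < L.U.length := by
    cases hUl : L.U with
    | nil => rw [hUl] at hhead; simp at hhead
    | cons a l => simp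
  have hHpos : 0 < Nat.card (grp n pN pM Snext) := Nat.card_pos
  have hstab : Nat.card (stabilizer (grp n pN pM L.S) p) ≤ Nat.card (grp n pN pM Snext) := by
    have h2 : L.U.length * Nat.card (stabilizer (grp n pN pM L.S) p) ≤
        L.U.length * Nat.card (grp n pN pM Snext) := by
      rw [← hcard, ← hos, mul_comm]
      exact Nat.mul_le_mul_left _ horb
    exact Nat.le_of_mul_le_mul_left h2 hpos
  have hsub : (grp n pN pM Snext).subgroupOf (grp n pN pM L.S) ≤
      stabilizer (grp n pN pM L.S) p := by
    intro h hh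
    rw [mem_stabilizer_iff]
    exact hHfix h.1 (Subgroup.mem_subgroupOf.mp hh)
  have hcs : Nat.card ((grp n pN pM Snext).subgroupOf (grp n pN pM L.S)) =
      Nat.card (grp n pN pM Snext) :=
    Nat.card_congr (Subgroup.subgroupOfEquivOfLe hle).toEquiv
  have heq : (grp n pN pM Snext).subgroupOf (grp n pN pM L.S) =
      stabilizer (grp n pN pM L.S) p :=
    Subgroup.eq_of_le_of_card_ge hsub (by rw [hcs]; exact hstab)
  have hgs : (⟨g, hg⟩ : grp n pN pM L.S) ∈ stabilizer (grp n pN pM L.S) p := by
    rw [mem_stabilizer_iff]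
    exact hfix
  rw [← heq] at hgs
  exact Subgroup.mem_subgroupOf.mp hgs

/-- the base points of a chain -/
def baseOf (Ls : List Level) : List ℕ := Ls.map (fun L => L.b)

/-- an element of the group of a chain fixing the base points is trivial -/
theorem base_spec (hv : ∀ i < np, Valid n (pN i) (pM i)) (hid : ∀ x < n, get (pN 0) x = x) :
    ∀ Ls : List Level, ChainOK n pN np Ls → ∀ g ∈ grp n pN pM (headS Ls),
      (∀ b ∈ baseOf Ls, ∀ hb : b < n, g ⟨b, hb⟩ = ⟨b, hb⟩) → g = 1 := by
  intro Ls
  induction Ls with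
  | nil =>
    intro _ g hg _
    have : grp n pN pM (headS ([] : List Level)) = ⊥ := grp_nil
    rw [this, Subgroup.mem_bot] at hg
    exact hg
  | cons L rest ih =>
    rintro ⟨hL, hrest⟩ g hg hfix
    obtain ⟨ih1, -⟩ := chain_spec (pM := pM) hv hid rest hrest
    have h1 := stab_spec hv hid L (headS rest) (deepOf rest) hL ih1 g hg
      (hfix L.b (by unfold baseOf; simp) hL.1)
    apply ih hrest g h1
    intro b hb hbn
    apply hfix b _ hbn
    unfold baseOf at hb ⊢
    rw [List.map_cons]
    exact List.mem_cons_of_mem _ hb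

/-- two elements of the group of a chain with the same images of the base points are equal -/
theorem eq_of_base (hv : ∀ i < np, Valid n (pN i) (pM i)) (hid : ∀ x < n, get (pN 0) x = x)
    (Ls : List Level) (hc : ChainOK n pN np Ls) (g h : Equiv.Perm (Fin n))
    (hg : g ∈ grp n pN pM (headS Ls)) (hh : h ∈ grp n pN pM (headS Ls))
    (heq : ∀ b ∈ baseOf Ls, ∀ hb : b < n, g ⟨b, hb⟩ = h ⟨b, hb⟩) : g = h := by
  have h1 : h⁻¹ * g = 1 := by
    apply base_spec hv hid Ls hc _ (Subgroup.mul_mem _ (Subgroup.inv_mem _ hh) hg)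
    intro b hb hbn
    rw [Equiv.Perm.mul_apply, heq b hb hbn]
    exact h.symm_apply_apply _
  calc g = h * (h⁻¹ * g) := by group
    _ = h := by rw [h1, mul_one]

end Cfsg.Agent.Lib.Helper9.SSB
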