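import Cfsg.Agent.Lib.Helper8.SS8
import Cfsg.Agent.Lib.Helper9.SSB
import Cfsg.Agent.Lib.Helper9.Chunk

set_option autoImplicit false
set_option linter.unusedSectionVars false
set_option linter.unusedVariables false

/-! Stabiliser chains without sifting words: when an upper bound for the order of the group is
known from elsewhere, the transversals of a chain whose sizes multiply to that bound are complete,
so the chain has all the usual consequences. -/

namespace Cfsg.Agent.Lib.Helper9.SST

open Cfsg.Agent.Lib.Helper8.SS Cfsg.Agent.Lib.Helper8.FastDec Cfsg.Agent.Lib.Helper8.MatN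
  Cfsg.Agent.Lib.Helper9.SSB Cfsg.Agent.Lib.Helper9.Chunk Subgroup MulAction

variable (n : ℕ) [NeZero n] (pN pM : ℕ → ℕ) (np : ℕ)

/-- the certificate for one level, without sifting words -/
def LevelT (L : Level) (Snext : List ℕ) : Prop :=
  L.b < n ∧
  (∀ i ∈ L.S, i < np) ∧ (∀ i ∈ L.U, i < np) ∧
  L.U.head? = some 0 ∧
  (∀ m < L.U.length, m = 0 ∨ ((L.tree.getD m (0, 0)).2 < m ∧ (L.tree.getD m (0, 0)).1 ∈ L.S ∧
    ∀ x < n, get (pN (L.U.getD m 0)) x =
      get (pN (L.tree.getD m (0, 0)).1) (get (pN (L.U.getD (L.tree.getD m (0, 0)).2 0)) x))) ∧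
  (∀ i ∈ Snext, i ∈ L.S) ∧
  (∀ i ∈ Snext, get (pN i) L.b = L.b) ∧
  (L.U.map (fun i => get (pN i) L.b)).Nodup

/-- the certificate for a whole chain, without sifting words -/
def ChainT : List Level → Prop
  | [] => True
  | L :: rest => LevelT n pN np L (headS rest) ∧ ChainT rest

/-- the product of the sizes of the transversals -/
def sizeOf (Ls : List Level) : ℕ := (Ls.map (fun L => L.U.length)).prod

/-- the check of one entry of the Schreier tree of a level -/
noncomputable def treeP (L : Level) (m : ℕ) : Bool :=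
  Nat.beq m 0 ||
    withVal (nthR L.tree m (0, 0)).1 (fun g => withVal (nthR L.tree m (0, 0)).2 (fun q =>
      withVal (nthR L.U m 0) (fun u => withVal (nthR L.U q 0) (fun u' =>
        Nat.blt q m && (memB g L.S && eqWordB n pN [u] [g, u'])))))

theorem treeB_eq (L : Level) : treeB n pN L = allLt L.U.length (treeP n pN L) := rfl

/-- the Schreier tree of a level checked in chunks -/
theorem treeB_of_chunks (L : Level) (c M : ℕ) (hc : 0 < c) (hn : L.U.length ≤ c * M)
    (h : ∀ k < M, chunkB (treeP n pN L) c L.U.length k = true) : treeB n pN L = true := by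
  rw [treeB_eq, allLt_iff]
  exact all_of_chunks _ c M _ hc hn h

variable {n pN pM np}

theorem levelT_of {L : Level} {Snext : List ℕ} (h1 : LevelCheap n pN np L Snext)
    (hnd' : nodupB (L.U.map (fun i => get (pN i) L.b)) = true)
    (h2 : treeB n pN L = true) : LevelT n pN np L Snext := by
  obtain ⟨hb, hS, hU, hhead, hnest, hfix⟩ := h1
  have hnd := nodup_of_nodupB _ hnd'
  unfold treeB at h2
  rw [allLt_iff] at h2
  refine ⟨hb, hS, hU, hhead, ?_, hnest, hfix, hnd⟩
  intro m hm
  have := h2 m hm
  rw [Bool.or_eq_true] at this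
  rcases this with h0 | h
  · exact Or.inl (Nat.eq_of_beq_eq_true h0)
  · right
    rw [withVal_eq, withVal_eq, withVal_eq, withVal_eq, Bool.and_eq_true, Bool.and_eq_true,
      blt_iff, nthR_eq, nthR_eq, nthR_eq] at h
    obtain ⟨ha, hb', hc⟩ := h
    exact ⟨ha, (memB_iff _ _).mp hb', eqWordB_spec hc⟩

/-- the lower bound of one level -/
theorem levelT_lower (hv : ∀ i < np, Valid n (pN i) (pM i)) (hid : ∀ x < n, get (pN 0) x = x)
    (L : Level) (Snext : List ℕ) (hok : LevelT n pN np L Snext) :
    (∀ i ∈ L.U, P n pN pM i ∈ grp n pN pM L.S) ∧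
    grp n pN pM Snext ≤ grp n pN pM L.S ∧
    L.U.length * Nat.card (grp n pN pM Snext) ≤ Nat.card (grp n pN pM L.S) := by
  obtain ⟨hb, hSlt, hUlt, hhead, htree, hnest, hfix, hnodup⟩ := hok
  have h0U : 0 ∈ L.U := by
    cases hU : L.U with
    | nil => rw [hU] at hhead; simp at hhead
    | cons a l =>
      rw [hU] at hhead
      simp only [List.head?_cons, Option.some.injEq] at hhead
      rw [hhead]
      exact List.mem_cons_self ..
  have hU0 : L.U.getD 0 0 = 0 := by
    cases hU : L.U with
    | nil => rfl
    | cons a l =>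
      rw [hU] at hhead
      simp only [List.head?_cons, Option.some.injEq] at hhead
      rw [hhead]
      rfl
  have hP0 : P n pN pM 0 = 1 := P_zero (hv 0 (hUlt 0 h0U)) hid
  have ha : ∀ m, m < L.U.length → P n pN pM (L.U.getD m 0) ∈ grp n pN pM L.S := by
    intro m
    induction m using Nat.strong_induction_on with
    | _ m ih =>
      intro hm
      rcases htree m hm with rfl | ⟨hp, hg, htab⟩
      · rw [hU0, hP0]
        exact Subgroup.one_mem _
      · have hpl : (L.tree.getD m (0, 0)).2 < L.U.length := lt_trans hp hm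
        have e : prodW n pN pM [L.U.getD m 0] =
            prodW n pN pM [(L.tree.getD m (0, 0)).1, L.U.getD (L.tree.getD m (0, 0)).2 0] := by
          apply prodW_eq_of_ev
          · intro i hi
            simp only [List.mem_singleton] at hi
            rw [hi]
            exact hv _ (hUlt _ (getD_mem hm))
          · intro i hi
            simp only [List.mem_cons, List.mem_nil_iff, or_false] at hi
            rcases hi with rfl | rfl
            · exact hv _ (hSlt _ hg)
            · exact hv _ (hUlt _ (getD_mem hpl))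
          · intro x hx
            exact htab x hx
        rw [prodW_cons, prodW_nil, mul_one, prodW_cons, prodW_cons, prodW_nil, mul_one] at e
        rw [e]
        exact Subgroup.mul_mem _ (P_mem_grp hg) (ih _ hp hpl)
  have haU : ∀ i ∈ L.U, P n pN pM i ∈ grp n pN pM L.S := by
    intro i hi
    obtain ⟨m, hm, rfl⟩ := List.getElem_of_mem hi
    have := ha m hm
    rwa [List.getD_eq_getElem _ _ hm] at this
  have hle : grp n pN pM Snext ≤ grp n pN pM L.S := by
    apply Subgroup.closure_mono
    rintro g ⟨i, hi, rfl⟩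
    exact ⟨i, hnest i hi, rfl⟩
  refine ⟨haU, hle, ?_⟩
  classical
  let p : Fin n := ⟨L.b, hb⟩
  have hnd : (L.U.map (fun i => (P n pN pM i) p)).Nodup := nodup_points hv hUlt p hnodup
  have hge := card_ge_of_fix (K := grp n pN pM L.S) (K' := grp n pN pM Snext) hle p
    (grp_fix hv (fun i hi => hSlt i (hnest i hi)) hb hfix)
    (L.U.map (fun i => (P n pN pM i) p)).toFinset
    (by
      intro q hq
      rw [List.mem_toFinset, List.mem_map] at hq
      obtain ⟨i, hi, rfl⟩ := hq
      exact ⟨_, haU i hi, rfl⟩)
  rw [List.toFinset_card_of_nodup hnd, List.length_map] at hge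
  exact hge

/-- the lower bound of a chain -/
theorem chainT_lower (hv : ∀ i < np, Valid n (pN i) (pM i)) (hid : ∀ x < n, get (pN 0) x = x) :
    ∀ Ls : List Level, ChainT n pN np Ls → sizeOf Ls ≤ Nat.card (grp n pN pM (headS Ls)) := by
  intro Ls
  induction Ls with
  | nil =>
    intro _
    show 1 ≤ Nat.card (grp n pN pM [])
    rw [grp_nil, Subgroup.card_bot]
  | cons L rest ih =>
    rintro ⟨hL, hrest⟩
    obtain ⟨-, -, h3⟩ := levelT_lower (pM := pM) hv hid L (headS rest) hL
    show (List.map (fun L => L.U.length) (L :: rest)).prod ≤ Nat.card (grp n pN pM L.S)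
    rw [List.map_cons, List.prod_cons]
    exact (Nat.mul_le_mul_left _ (ih hrest)).trans h3

/-- the next group is the stabiliser of the base point when the level is tight -/
theorem stab_of_card (hv : ∀ i < np, Valid n (pN i) (pM i)) (hid : ∀ x < n, get (pN 0) x = x)
    (L : Level) (Snext : List ℕ) (hok : LevelT n pN np L Snext)
    (hcard : Nat.card (grp n pN pM L.S) = L.U.length * Nat.card (grp n pN pM Snext))
    (g : Equiv.Perm (Fin n)) (hg : g ∈ grp n pN pM L.S)
    (hfix : g ⟨L.b, hok.1⟩ = ⟨L.b, hok.1⟩) : g ∈ grp n pN pM Snext := by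
  classical
  obtain ⟨hU, hle, -⟩ := levelT_lower (pM := pM) hv hid L Snext hok
  obtain ⟨hb, hSlt, hUlt, hhead, htree, hnest, hfixS, hnodup⟩ := hok
  set p : Fin n := ⟨L.b, hb⟩ with hp
  have hHfix : ∀ h ∈ grp n pN pM Snext, h p = p :=
    grp_fix hv (fun i hi => hSlt i (hnest i hi)) hb hfixS
  have horb : L.U.length ≤ (orbit (grp n pN pM L.S) p).ncard := by
    have hnd := nodup_points hv hUlt p hnodup
    have h1 : (L.U.map (fun i => (P n pN pM i) p)).toFinset.card = L.U.length := by
      rw [List.toFinset_card_of_nodup hnd, List.length_map]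
    rw [← h1, ← Set.ncard_coe_finset]
    apply Set.ncard_le_ncard _ (Set.toFinite _)
    intro q hq
    rw [Finset.mem_coe, List.mem_toFinset, List.mem_map] at hq
    obtain ⟨i, hi, rfl⟩ := hq
    exact ⟨⟨P n pN pM i, hU i hi⟩, rfl⟩
  have hos : Nat.card (stabilizer (grp n pN pM L.S) p) * (orbit (grp n pN pM L.S) p).ncard =
      Nat.card (grp n pN pM L.S) := by
    rw [← index_stabilizer (grp n pN pM L.S) p]
    exact (stabilizer (grp n pN pM L.S) p).card_mul_index
  have hpos : 0 < L.U.length := by
    cases hUl : L.U with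
    | nil => rw [hUl] at hhead; simp at hhead
    | cons a l => simp
  have hstab : Nat.card (stabilizer (grp n pN pM L.S) p) ≤ Nat.card (grp n pN pM Snext) := by
    have h2 : L.U.length * Nat.card (stabilizer (grp n pN pM L.S) p) ≤
        L.U.length * Nat.card (grp n pN pM Snext) := by
      rw [← hcard, ← hos, mul_comm]
      exact Nat.mul_le_mul_left _ horb
    exact Nat.le_of_mul_le_mul_left h2 hpos
  have hsub : (grp n pN pM Snext).subgroupOf (grp n pN pM L.S) ≤
      stabilizer (grp n pN pM L.S) p := by
    intro h hh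
    rw [mem_stabilizer_iff]
    exact hHfix h.1 (Subgroup.mem_subgroupOf.mp hh)
  have hcs : Nat.card ((grp n pN pM Snext).subgroupOf (grp n pN pM L.S)) =
      Nat.card (grp n pN pM Snext) :=
    Nat.card_congr (Subgroup.subgroupOfEquivOfLe hle).toEquiv
  have heq : (grp n pN pM Snext).subgroupOf (grp n pN pM L.S) =
      stabilizer (grp n pN pM L.S) p :=
    Subgroup.eq_of_le_of_card_ge hsub (by rw [hcs]; exact hstab)
  have hgs : (⟨g, hg⟩ : grp n pN pM L.S) ∈ stabilizer (grp n pN pM L.S) p := by
    rw [mem_stabilizer_iff]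
    exact hfix
  rw [← heq] at hgs
  exact Subgroup.mem_subgroupOf.mp hgs

/-- a chain is tight when the order of the group is at most the product of the sizes -/
theorem chainT_tight (hv : ∀ i < np, Valid n (pN i) (pM i)) (hid : ∀ x < n, get (pN 0) x = x) :
    ∀ Ls : List Level, ChainT n pN np Ls → Nat.card (grp n pN pM (headS Ls)) ≤ sizeOf Ls →
      Nat.card (grp n pN pM (headS Ls)) = sizeOf Ls ∧
      ∀ g ∈ grp n pN pM (headS Ls),
        (∀ b ∈ baseOf Ls, ∀ hb : b < n, g ⟨b, hb⟩ = ⟨b, hb⟩) → g = 1 := by
  intro Ls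
  induction Ls with
  | nil =>
    intro _ _
    refine ⟨?_, ?_⟩
    · show Nat.card (grp n pN pM []) = 1
      rw [grp_nil, Subgroup.card_bot]
    · intro g hg _
      have : grp n pN pM (headS ([] : List Level)) = ⊥ := grp_nil
      rw [this, Subgroup.mem_bot] at hg
      exact hg
  | cons L rest ih =>
    rintro ⟨hL, hrest⟩ hle
    obtain ⟨-, -, h3⟩ := levelT_lower (pM := pM) hv hid L (headS rest) hL
    have hlow := chainT_lower (pM := pM) hv hid rest hrest
    have hsz : sizeOf (L :: rest) = L.U.length * sizeOf rest := by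
      show (List.map (fun L => L.U.length) (L :: rest)).prod = _
      rw [List.map_cons, List.prod_cons]
      rfl
    have hle' : Nat.card (grp n pN pM L.S) ≤ L.U.length * sizeOf rest := by
      rw [← hsz]; exact hle
    have hpos : 0 < L.U.length := by
      obtain ⟨-, -, -, hhead, -⟩ := hL
      cases hUl : L.U with
      | nil => rw [hUl] at hhead; simp at hhead
      | cons a l => simp
    have hB : Nat.card (grp n pN pM (headS rest)) ≤ sizeOf rest :=
      Nat.le_of_mul_le_mul_left (h3.trans hle') hpos
    have hBeq : Nat.card (grp n pN pM (headS rest)) = sizeOf rest := le_antisymm hB hlow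
    have hA : Nat.card (grp n pN pM L.S) = L.U.length * sizeOf rest := by
      apply le_antisymm hle'
      rw [← hBeq]
      exact h3
    obtain ⟨-, ih2⟩ := ih hrest hB
    refine ⟨?_, ?_⟩
    · show Nat.card (grp n pN pM L.S) = _
      rw [hsz]; exact hA
    · intro g hg hfix
      have hcard : Nat.card (grp n pN pM L.S) =
          L.U.length * Nat.card (grp n pN pM (headS rest)) := by rw [hBeq]; exact hA
      have h1 := stab_of_card hv hid L (headS rest) hL hcard g hg
        (hfix L.b (by unfold baseOf; simp) hL.1)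
      apply ih2 g h1
      intro b hb hbn
      apply hfix b _ hbn
      unfold baseOf at hb ⊢
      rw [List.map_cons]
      exact List.mem_cons_of_mem _ hb

/-- two elements of the group of a tight chain with the same images of the base points are
equal -/
theorem eq_of_baseT (hv : ∀ i < np, Valid n (pN i) (pM i)) (hid : ∀ x < n, get (pN 0) x = x)
    (Ls : List Level) (hc : ChainT n pN np Ls)
    (hle : Nat.card (grp n pN pM (headS Ls)) ≤ sizeOf Ls) (g h : Equiv.Perm (Fin n))
    (hg : g ∈ grp n pN pM (headS Ls)) (hh : h ∈ grp n pN pM (headS Ls))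
    (heq : ∀ b ∈ baseOf Ls, ∀ hb : b < n, g ⟨b, hb⟩ = h ⟨b, hb⟩) : g = h := by
  have h1 : h⁻¹ * g = 1 := by
    apply (chainT_tight hv hid Ls hc hle).2 _ (Subgroup.mul_mem _ (Subgroup.inv_mem _ hh) hg)
    intro b hb hbn
    rw [Equiv.Perm.mul_apply, heq b hb hbn]
    exact h.symm_apply_apply _
  calc g = h * (h⁻¹ * g) := by group
    _ = h := by rw [h1, mul_one]

end Cfsg.Agent.Lib.Helper9.SST
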