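import Cfsg.Agent.Lib.Helper9.SlpS

set_option autoImplicit false
set_option linter.unusedSectionVars false
set_option linter.unusedVariables false

/-! The certificate of a signed straight-line program assembled from chunks, so that the kernel
checks each chunk in a declaration of its own. -/

namespace Cfsg.Agent.Lib.Helper9.SlpS

open Cfsg.Agent.Lib.Helper8.SS

variable (n : ℕ) [NeZero n] (pN pM : ℕ → ℕ) (np : ℕ)

/-- the certificate for the positions `c * k + d`, `d < c` -/
def SlpPart (S W : List ℕ) (ws : List (List (ℕ × Bool))) (c k : ℕ) : Prop :=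
  ∀ d < c, W.length ≤ c * k + d ∨ W.getD (c * k + d) 0 ∈ S ∨
    ((∀ l ∈ ws.getD (c * k + d) [], l.1 < c * k + d) ∧
      ∀ x < n, get (pN (W.getD (c * k + d) 0)) x =
        evS pN pM (toIdx W (ws.getD (c * k + d) [])) x)

instance (S W : List ℕ) (ws : List (List (ℕ × Bool))) (c k : ℕ) :
    Decidable (SlpPart n pN pM S W ws c k) := by
  unfold SlpPart
  infer_instance

variable {n pN pM np}

theorem slpS_of_parts {S W : List ℕ} {ws : List (List (ℕ × Bool))} (h0 : ∀ i ∈ W, i < np)
    (c M : ℕ) (hc : 0 < c) (hn : W.length ≤ c * M)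
    (h : ∀ k < M, SlpPart n pN pM S W ws c k) : SlpS n pN pM np S W ws := by
  refine ⟨h0, fun m hm => ?_⟩
  have hk : m / c < M := by
    apply Nat.div_lt_of_lt_mul
    omega
  have h1 := h (m / c) hk (m % c) (Nat.mod_lt _ hc)
  rw [Nat.div_add_mod] at h1
  rcases h1 with h2 | h2
  · omega
  · exact h2

end Cfsg.Agent.Lib.Helper9.SlpS
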