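import Cfsg.Agent.Lib.Helper9.Co3a
import Cfsg.Agent.Lib.Helper9.SlpC
import Cfsg.Agent.Lib.Helper9.SST

/-! Kernel-checked certificates for the tables of `Co3a` (generated). -/

set_option autoImplicit false
set_option maxHeartbeats 0
set_option maxRecDepth 1000000

namespace Cfsg.Agent.Lib.Helper9.Co3a

open Cfsg.Agent.Lib.Helper8.SS Cfsg.Agent.Lib.Helper8.MatN Cfsg.Agent.Lib.Helper9.SlpS
  Cfsg.Agent.Lib.Helper9.SST Cfsg.Agent.Lib.Helper9.Chunk

theorem tr0_0 : chunkB (treeP 552 pN L0) 100 L0.U.length 0 = true := by decide +kernel

theorem tr0_1 : chunkB (treeP 552 pN L0) 100 L0.U.length 1 = true := by decide +kernel

theorem tr0_2 : chunkB (treeP 552 pN L0) 100 L0.U.length 2 = true := by decide +kernel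

theorem tr0_3 : chunkB (treeP 552 pN L0) 100 L0.U.length 3 = true := by decide +kernel

theorem tr0_4 : chunkB (treeP 552 pN L0) 100 L0.U.length 4 = true := by decide +kernel

theorem tr0_5 : chunkB (treeP 552 pN L0) 100 L0.U.length 5 = true := by decide +kernel

theorem tr0 : treeB 552 pN L0 = true := by
  apply treeB_of_chunks 552 pN L0 100 6 (by norm_num) (by decide)
  intro k hk
  interval_cases k
  · exact tr0_0
  · exact tr0_1
  · exact tr0_2
  · exact tr0_3
  · exact tr0_4
  · exact tr0_5

theorem lv0 : LevelT 552 pN 1191 L0 L1.S :=
  levelT_of (by decide +kernel) (by decide +kernel) tr0

theorem tr1_0 : chunkB (treeP 552 pN L1) 100 L1.U.length 0 = true := by decide +kernel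

theorem tr1_1 : chunkB (treeP 552 pN L1) 100 L1.U.length 1 = true := by decide +kernel

theorem tr1_2 : chunkB (treeP 552 pN L1) 100 L1.U.length 2 = true := by decide +kernel

theorem tr1 : treeB 552 pN L1 = true := by
  apply treeB_of_chunks 552 pN L1 100 3 (by norm_num) (by decide)
  intro k hk
  interval_cases k
  · exact tr1_0
  · exact tr1_1
  · exact tr1_2

theorem lv1 : LevelT 552 pN 1191 L1 L2.S :=
  levelT_of (by decide +kernel) (by decide +kernel) tr1

theorem tr2_0 : chunkB (treeP 552 pN L2) 100 L2.U.length 0 = true := by decide +kernel

theorem tr2_1 : chunkB (treeP 552 pN L2) 100 L2.U.length 1 = true := by decide +kernel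

theorem tr2 : treeB 552 pN L2 = true := by
  apply treeB_of_chunks 552 pN L2 100 2 (by norm_num) (by decide)
  intro k hk
  interval_cases k
  · exact tr2_0
  · exact tr2_1

theorem lv2 : LevelT 552 pN 1191 L2 L3.S :=
  levelT_of (by decide +kernel) (by decide +kernel) tr2

theorem tr3_0 : chunkB (treeP 552 pN L3) 100 L3.U.length 0 = true := by decide +kernel

theorem tr3_1 : chunkB (treeP 552 pN L3) 100 L3.U.length 1 = true := by decide +kernel

theorem tr3 : treeB 552 pN L3 = true := by
  apply treeB_of_chunks 552 pN L3 100 2 (by norm_num) (by decide)
  intro k hk
  interval_cases k
  · exact tr3_0
  · exact tr3_1

theorem lv3 : LevelT 552 pN 1191 L3 L4.S :=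
  levelT_of (by decide +kernel) (by decide +kernel) tr3

theorem tr4_0 : chunkB (treeP 552 pN L4) 100 L4.U.length 0 = true := by decide +kernel

theorem tr4 : treeB 552 pN L4 = true := by
  apply treeB_of_chunks 552 pN L4 100 1 (by norm_num) (by decide)
  intro k hk
  interval_cases k
  · exact tr4_0

theorem lv4 : LevelT 552 pN 1191 L4 L5.S :=
  levelT_of (by decide +kernel) (by decide +kernel) tr4

theorem tr5_0 : chunkB (treeP 552 pN L5) 100 L5.U.length 0 = true := by decide +kernel

theorem tr5 : treeB 552 pN L5 = true := by
  apply treeB_of_chunks 552 pN L5 100 1 (by norm_num) (by decide)
  intro k hk
  interval_cases k
  · exact tr5_0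

theorem lv5 : LevelT 552 pN 1191 L5 [] :=
  levelT_of (by decide +kernel) (by decide +kernel) tr5

theorem chain : ChainT 552 pN 1191 [L0, L1, L2, L3, L4, L5] :=
  ⟨lv0, lv1, lv2, lv3, lv4, lv5, trivial⟩

def W : List ℕ := List.range 1191

def slpW : List (List (ℕ × Bool)) := [[], [], [], [(2, true), (0, true)], [(1, true), (3, true)], [(2, true), (4, true)], [(2, true), (5, true)], [(1, true), (6, true)], [(2, true), (6, true)], [(2, true), (7, true)], [(2, true), (8, true)], [(1, true), (9, true)], [(2, true), (9, true)], [(1, true), (10, true)], [(2, true), (10, true)], [(2, true), (11, true)], [(1, true), (12, true)], [(2, true), (12, true)], [(2, true), (13, true)], [(1, true), (14, true)], [(2, true), (14, true)], [(1, true), (15, true)], [(2, true), (15, true)], [(2, true), (16, true)], [(1, true), (17, true)], [(2, true), (17, true)], [(1, true), (18, true)], [(2, true), (18, true)], [(2, true), (19, true)], [(1, true), (20, true)], [(2, true), (20, true)], [(2, true), (21, true)], [(1, true), (22, true)], [(2, true), (22, true)], [(2, true), (23, true)], [(2, true), (24, true)], [(1, true), (25, true)], [(2, true), (25, true)], [(1, true), (27, true)], [(2, true), (27, true)], [(1, true), (28, true)], [(2, true), (28, true)], [(2, true), (29, true)], [(1,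 true), (30, true)], [(2, true), (30, true)], [(1, true), (31, true)], [(2, true), (31, true)], [(2, true), (32, true)], [(2, true), (33, true)], [(1, true), (34, true)], [(2, true), (34, true)], [(1, true), (35, true)], [(2, true), (35, true)], [(2, true), (36, true)], [(1, true), (37, true)], [(2, true), (37, true)], [(2, true), (38, true)], [(1, true), (39, true)], [(2, true), (40, true)], [(1, true), (41, true)], [(2, true), (41, true)], [(1, true), (42, true)], [(2, true), (42, true)], [(2, true), (43, true)], [(1, true), (44, true)], [(2, true), (44, true)], [(2, true), (45, true)], [(1, true), (46, true)], [(2, true), (46, true)], [(1, true), (47, true)], [(2, true), (47, true)], [(2, true), (48, true)], [(2, true), (49, true)], [(1, true), (50, true)], [(2, true), (50, true)], [(2, true), (51, true)], [(2, true), (52, true)], [(2, true), (53, true)], [(2, true), (54, true)], [(1, true), (55, true)], [(2, true), (55, true)], [(1, true), (56, true)], [(1, true), (58, true)], [(2, true), (59, true)], [(1, true), (60, true)], [(2, true), (60, true)], [(2, true), (61, true)], [(1, true), (62, true)], [(2, true), (62, true)], [(2, true), (63, true)], [(2, true), (64, true)], [(1, true), (65, true)], [(2, true), (65, true)], [(1, true), (66, true)], [(2, true),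 (66, true)], [(2, true), (67, true)], [(1, true), (68, true)], [(2, true), (68, true)], [(2, true), (69, true)], [(1, true), (70, true)], [(2, true), (70, true)], [(2, true), (71, true)], [(1, true), (72, true)], [(2, true), (73, true)], [(1, true), (74, true)], [(2, true), (74, true)], [(1, true), (75, true)], [(1, true), (76, true)], [(2, true), (76, true)], [(1, true), (77, true)], [(2, true), (77, true)], [(1, true), (78, true)], [(2, true), (78, true)], [(2, true), (79, true)], [(1, true), (80, true)], [(2, true), (80, true)], [(2, true), (81, true)], [(2, true), (82, true)], [(1, true), (83, true)], [(2, true), (83, true)], [(2, true), (84, true)], [(1, true), (85, true)], [(2, true), (85, true)], [(1, true), (86, true)], [(2, true), (86, true)], [(2, true), (87, true)], [(1, true), (88, true)], [(2, true), (88, true)], [(2, true), (89, true)], [(1, true), (90, true)], [(2, true), (91, true)], [(2, true), (92, true)], [(2, true), (93, true)], [(2, true), (94, true)], [(1, true), (95, true)], [(2, true), (95, true)], [(2, true), (96, true)], [(2, true), (97, true)], [(1, true), (98, true)], [(2, true), (99, true)], [(1, true), (100, true)], [(2, true), (100, true)], [(2, true), (101, true)], [(2, true), (102, true)], [(1, true), (103, true)], [(2, true), (103,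 true)], [(2, true), (104, true)], [(1, true), (105, true)], [(2, true), (105, true)], [(2, true), (106, true)], [(2, true), (107, true)], [(1, true), (108, true)], [(2, true), (108, true)], [(2, true), (109, true)], [(1, true), (110, true)], [(2, true), (110, true)], [(1, true), (112, true)], [(2, true), (112, true)], [(1, true), (113, true)], [(2, true), (113, true)], [(2, true), (114, true)], [(1, true), (115, true)], [(2, true), (115, true)], [(1, true), (116, true)], [(2, true), (116, true)], [(1, true), (117, true)], [(2, true), (118, true)], [(2, true), (119, true)], [(1, true), (120, true)], [(2, true), (120, true)], [(2, true), (121, true)], [(1, true), (122, true)], [(2, true), (122, true)], [(2, true), (123, true)], [(2, true), (124, true)], [(1, true), (125, true)], [(2, true), (125, true)], [(2, true), (128, true)], [(2, true), (129, true)], [(1, true), (131, true)], [(2, true), (131, true)], [(1, true), (132, true)], [(2, true), (132, true)], [(2, true), (133, true)], [(2, true), (134, true)], [(1, true), (135, true)], [(2, true), (135, true)], [(1, true), (136, true)], [(2, true), (137, true)], [(2, true), (138, true)], [(1, true), (139, true)], [(2, true), (140, true)], [(1, true), (141, true)], [(2, true), (141, true)], [(1, true), (142, true)],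 [(1, true), (143, true)], [(2, true), (143, true)], [(2, true), (144, true)], [(2, true), (145, true)], [(1, true), (146, true)], [(2, true), (147, true)], [(1, true), (148, true)], [(2, true), (148, true)], [(1, true), (149, true)], [(2, true), (149, true)], [(1, true), (150, true)], [(2, true), (151, true)], [(2, true), (152, true)], [(1, true), (153, true)], [(2, true), (153, true)], [(2, true), (154, true)], [(1, true), (155, true)], [(2, true), (155, true)], [(2, true), (156, true)], [(1, true), (157, true)], [(2, true), (157, true)], [(2, true), (158, true)], [(2, true), (159, true)], [(1, true), (160, true)], [(2, true), (160, true)], [(2, true), (161, true)], [(1, true), (162, true)], [(2, true), (162, true)], [(2, true), (163, true)], [(1, true), (164, true)], [(2, true), (164, true)], [(2, true), (166, true)], [(1, true), (167, true)], [(2, true), (167, true)], [(2, true), (168, true)], [(1, true), (169, true)], [(2, true), (169, true)], [(2, true), (170, true)], [(2, true), (171, true)], [(1, true), (172, true)], [(2, true), (172, true)], [(1, true), (173, true)], [(2, true), (173, true)], [(1, true), (174, true)], [(2, true), (174, true)], [(1, true), (176, true)], [(2, true), (176, true)], [(1, true), (178, true)], [(2, true), (179, true)], [(1, true),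 (180, true)], [(2, true), (180, true)], [(2, true), (181, true)], [(1, true), (182, true)], [(2, true), (182, true)], [(2, true), (183, true)], [(1, true), (184, true)], [(2, true), (184, true)], [(2, true), (185, true)], [(2, true), (187, true)], [(1, true), (188, true)], [(2, true), (188, true)], [(1, true), (189, true)], [(2, true), (191, true)], [(2, true), (193, true)], [(2, true), (194, true)], [(1, true), (196, true)], [(2, true), (196, true)], [(1, true), (197, true)], [(2, true), (197, true)], [(2, true), (198, true)], [(2, true), (199, true)], [(1, true), (200, true)], [(2, true), (201, true)], [(1, true), (202, true)], [(2, true), (202, true)], [(2, true), (203, true)], [(1, true), (204, true)], [(2, true), (204, true)], [(2, true), (205, true)], [(1, true), (206, true)], [(2, true), (206, true)], [(1, true), (207, true)], [(2, true), (207, true)], [(1, true), (209, true)], [(2, true), (209, true)], [(2, true), (210, true)], [(2, true), (211, true)], [(1, true), (212, true)], [(2, true), (212, true)], [(1, true), (213, true)], [(2, true), (214, true)], [(1, true), (215, true)], [(2, true), (215, true)], [(1, true), (216, true)], [(2, true), (216, true)], [(2, true), (217, true)], [(2, true), (218, true)], [(1, true), (219, true)], [(2, true), (219, true)],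 [(1, true), (220, true)], [(1, true), (222, true)], [(2, true), (222, true)], [(1, true), (223, true)], [(2, true), (224, true)], [(1, true), (225, true)], [(2, true), (225, true)], [(2, true), (226, true)], [(2, true), (227, true)], [(2, true), (229, true)], [(2, true), (231, true)], [(2, true), (232, true)], [(1, true), (233, true)], [(2, true), (234, true)], [(1, true), (235, true)], [(2, true), (235, true)], [(2, true), (236, true)], [(1, true), (237, true)], [(2, true), (237, true)], [(2, true), (240, true)], [(1, true), (241, true)], [(2, true), (242, true)], [(1, true), (243, true)], [(2, true), (244, true)], [(1, true), (245, true)], [(2, true), (245, true)], [(2, true), (246, true)], [(2, true), (247, true)], [(2, true), (248, true)], [(1, true), (249, true)], [(2, true), (249, true)], [(1, true), (251, true)], [(1, true), (253, true)], [(2, true), (253, true)], [(1, true), (255, true)], [(2, true), (255, true)], [(2, true), (256, true)], [(2, true), (257, true)], [(1, true), (258, true)], [(1, true), (259, true)], [(2, true), (260, true)], [(1, true), (261, true)], [(2, true), (261, true)], [(2, true), (262, true)], [(1, true), (264, true)], [(2, true), (264, true)], [(2, true), (266, true)], [(1, true), (269, true)], [(1, true), (270, true)], [(2, true),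 (270, true)], [(2, true), (271, true)], [(2, true), (272, true)], [(1, true), (273, true)], [(2, true), (273, true)], [(2, true), (274, true)], [(2, true), (276, true)], [(2, true), (277, true)], [(1, true), (279, true)], [(2, true), (279, true)], [(1, true), (280, true)], [(1, true), (281, true)], [(2, true), (282, true)], [(1, true), (283, true)], [(2, true), (283, true)], [(2, true), (284, true)], [(2, true), (286, true)], [(1, true), (287, true)], [(2, true), (287, true)], [(2, true), (288, true)], [(2, true), (289, true)], [(1, true), (291, true)], [(2, true), (291, true)], [(2, true), (292, true)], [(1, true), (293, true)], [(2, true), (294, true)], [(2, true), (295, true)], [(1, true), (296, true)], [(2, true), (296, true)], [(2, true), (297, true)], [(1, true), (298, true)], [(2, true), (299, true)], [(1, true), (300, true)], [(2, true), (300, true)], [(2, true), (301, true)], [(1, true), (302, true)], [(1, true), (303, true)], [(2, true), (303, true)], [(1, true), (305, true)], [(1, true), (307, true)], [(2, true), (308, true)], [(1, true), (309, true)], [(2, true), (309, true)], [(1, true), (310, true)], [(2, true), (311, true)], [(1, true), (313, true)], [(2, true), (314, true)], [(1, true), (315, true)], [(2, true), (316, true)], [(2, true), (318, true)],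 [(2, true), (319, true)], [(1, true), (320, true)], [(2, true), (320, true)], [(1, true), (321, true)], [(2, true), (322, true)], [(2, true), (323, true)], [(1, true), (324, true)], [(1, true), (327, true)], [(1, true), (330, true)], [(2, true), (330, true)], [(2, true), (335, true)], [(1, true), (336, true)], [(2, true), (336, true)], [(1, true), (337, true)], [(2, true), (338, true)], [(2, true), (340, true)], [(2, true), (342, true)], [(2, true), (343, true)], [(2, true), (344, true)], [(1, true), (345, true)], [(2, true), (345, true)], [(2, true), (346, true)], [(2, true), (347, true)], [(1, true), (348, true)], [(1, true), (349, true)], [(2, true), (349, true)], [(1, true), (350, true)], [(2, true), (350, true)], [(2, true), (352, true)], [(1, true), (355, true)], [(2, true), (355, true)], [(2, true), (357, true)], [(1, true), (359, true)], [(2, true), (359, true)], [(2, true), (360, true)], [(1, true), (361, true)], [(2, true), (361, true)], [(2, true), (362, true)], [(1, true), (363, true)], [(2, true), (363, true)], [(2, true), (364, true)], [(1, true), (365, true)], [(2, true), (365, true)], [(2, true), (368, true)], [(1, true), (369, true)], [(1, true), (371, true)], [(2, true), (371, true)], [(1, true), (372, true)], [(2, true), (372, true)], [(2, true),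 (373, true)], [(1, true), (376, true)], [(2, true), (376, true)], [(1, true), (377, true)], [(2, true), (377, true)], [(2, true), (379, true)], [(2, true), (380, true)], [(2, true), (382, true)], [(2, true), (383, true)], [(1, true), (385, true)], [(2, true), (385, true)], [(2, true), (386, true)], [(1, true), (387, true)], [(2, true), (387, true)], [(2, true), (389, true)], [(2, true), (390, true)], [(2, true), (393, true)], [(2, true), (394, true)], [(1, true), (395, true)], [(1, true), (397, true)], [(1, true), (398, true)], [(2, true), (399, true)], [(2, true), (400, true)], [(1, true), (402, true)], [(2, true), (402, true)], [(1, true), (403, true)], [(1, true), (405, true)], [(2, true), (405, true)], [(2, true), (406, true)], [(1, true), (409, true)], [(2, true), (409, true)], [(1, true), (410, true)], [(2, true), (410, true)], [(1, true), (411, true)], [(2, true), (412, true)], [(1, true), (413, true)], [(2, true), (414, true)], [(1, true), (415, true)], [(2, true), (415, true)], [(2, true), (416, true)], [(2, true), (417, true)], [(2, true), (418, true)], [(2, true), (419, true)], [(1, true), (420, true)], [(2, true), (420, true)], [(2, true), (421, true)], [(2, true), (424, true)], [(2, true), (425, true)], [(1, true), (427, true)], [(2, true), (429, true)],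 [(1, true), (433, true)], [(1, true), (435, true)], [(2, true), (435, true)], [(2, true), (440, true)], [(2, true), (441, true)], [(2, true), (442, true)], [(2, true), (443, true)], [(2, true), (444, true)], [(1, true), (446, true)], [(2, true), (447, true)], [(1, true), (448, true)], [(2, true), (448, true)], [(1, true), (450, true)], [(2, true), (452, true)], [(2, true), (453, true)], [(1, true), (455, true)], [(2, true), (455, true)], [(2, true), (456, true)], [(1, true), (458, true)], [(2, true), (458, true)], [(1, true), (459, true)], [(2, true), (459, true)], [(2, true), (460, true)], [(2, true), (461, true)], [(2, true), (463, true)], [(2, true), (465, true)], [(2, true), (466, true)], [(2, true), (468, true)], [(2, true), (471, true)], [(1, true), (472, true)], [(2, true), (472, true)], [(2, true), (475, true)], [(1, true), (476, true)], [(1, true), (478, true)], [(2, true), (478, true)], [(1, true), (483, true)], [(2, true), (486, true)], [(1, true), (489, true)], [(2, true), (489, true)], [(2, true), (491, true)], [(2, true), (494, true)], [(1, true), (498, true)], [(1, true), (499, true)], [(1, true), (501, true)], [(2, true), (502, true)], [(2, true), (503, true)], [(1, true), (505, true)], [(2, true), (509, true)], [(2, true), (510, true)], [(1, true),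 (514, true)], [(1, true), (516, true)], [(2, true), (517, true)], [(1, true), (520, true)], [(1, true), (522, true)], [(2, true), (524, true)], [(2, true), (537, true)], [(2, true), (543, true)], [(2, true), (546, true)], [(2, true), (547, true)], [(2, true), (548, true)], [(1, true), (551, true)], [(2, true), (552, true)], [(467, false), (2, true), (545, true)], [(536, false), (1, true), (518, true)], [(554, true), (0, true)], [(555, true), (0, true)], [(554, true), (556, true)], [(555, true), (556, true)], [(554, true), (557, true)], [(555, true), (557, true)], [(554, true), (558, true)], [(555, true), (558, true)], [(554, true), (559, true)], [(555, true), (559, true)], [(554, true), (560, true)], [(555, true), (560, true)], [(554, true), (561, true)], [(555, true), (561, true)], [(554, true), (562, true)], [(555, true), (562, true)], [(554, true), (563, true)], [(555, true), (563, true)], [(554, true), (564, true)], [(555, true), (564, true)], [(554, true), (565, true)], [(555, true), (565, true)], [(555, true), (566, true)], [(554, true), (567, true)], [(555, true), (567, true)], [(555, true), (568, true)], [(554, true), (569, true)], [(555, true), (569, true)], [(554, true), (570, true)], [(555, true), (570, true)], [(554, true), (571, true)], [(555, true),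 (571, true)], [(554, true), (572, true)], [(555, true), (572, true)], [(554, true), (573, true)], [(555, true), (573, true)], [(555, true), (574, true)], [(554, true), (575, true)], [(555, true), (575, true)], [(555, true), (576, true)], [(554, true), (577, true)], [(554, true), (578, true)], [(555, true), (578, true)], [(554, true), (579, true)], [(555, true), (579, true)], [(554, true), (580, true)], [(555, true), (580, true)], [(554, true), (581, true)], [(554, true), (582, true)], [(555, true), (582, true)], [(554, true), (583, true)], [(555, true), (583, true)], [(554, true), (584, true)], [(555, true), (584, true)], [(554, true), (585, true)], [(555, true), (585, true)], [(554, true), (586, true)], [(554, true), (587, true)], [(555, true), (587, true)], [(554, true), (588, true)], [(554, true), (589, true)], [(555, true), (589, true)], [(554, true), (590, true)], [(554, true), (592, true)], [(555, true), (592, true)], [(554, true), (593, true)], [(555, true), (593, true)], [(554, true), (594, true)], [(555, true), (594, true)], [(554, true), (595, true)], [(555, true), (595, true)], [(554, true), (596, true)], [(555, true), (596, true)], [(555, true), (597, true)], [(554, true), (598, true)], [(555, true), (598, true)], [(554, true), (599, true)], [(555, true),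 (599, true)], [(554, true), (600, true)], [(555, true), (600, true)], [(554, true), (601, true)], [(555, true), (601, true)], [(554, true), (602, true)], [(555, true), (602, true)], [(554, true), (603, true)], [(555, true), (603, true)], [(554, true), (604, true)], [(555, true), (604, true)], [(554, true), (605, true)], [(555, true), (605, true)], [(554, true), (606, true)], [(555, true), (606, true)], [(555, true), (607, true)], [(554, true), (608, true)], [(555, true), (608, true)], [(554, true), (609, true)], [(554, true), (610, true)], [(555, true), (610, true)], [(554, true), (611, true)], [(555, true), (611, true)], [(554, true), (612, true)], [(555, true), (612, true)], [(554, true), (613, true)], [(555, true), (613, true)], [(554, true), (615, true)], [(555, true), (615, true)], [(554, true), (616, true)], [(555, true), (616, true)], [(555, true), (617, true)], [(554, true), (619, true)], [(555, true), (619, true)], [(554, true), (620, true)], [(555, true), (621, true)], [(554, true), (622, true)], [(555, true), (622, true)], [(554, true), (623, true)], [(555, true), (623, true)], [(554, true), (624, true)], [(555, true), (624, true)], [(554, true), (625, true)], [(555, true), (625, true)], [(554, true), (626, true)], [(555, true), (626, true)], [(554, true),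 (627, true)], [(555, true), (627, true)], [(555, true), (628, true)], [(554, true), (629, true)], [(555, true), (629, true)], [(554, true), (630, true)], [(554, true), (631, true)], [(555, true), (631, true)], [(554, true), (632, true)], [(555, true), (632, true)], [(555, true), (633, true)], [(554, true), (634, true)], [(555, true), (634, true)], [(554, true), (635, true)], [(555, true), (635, true)], [(554, true), (636, true)], [(555, true), (636, true)], [(554, true), (637, true)], [(555, true), (637, true)], [(554, true), (638, true)], [(555, true), (639, true)], [(554, true), (640, true)], [(555, true), (641, true)], [(554, true), (642, true)], [(555, true), (642, true)], [(554, true), (643, true)], [(554, true), (644, true)], [(555, true), (644, true)], [(554, true), (645, true)], [(555, true), (645, true)], [(555, true), (646, true)], [(554, true), (647, true)], [(555, true), (647, true)], [(554, true), (649, true)], [(555, true), (649, true)], [(554, true), (650, true)], [(555, true), (650, true)], [(554, true), (651, true)], [(555, true), (651, true)], [(554, true), (652, true)], [(555, true), (653, true)], [(555, true), (654, true)], [(554, true), (655, true)], [(554, true), (657, true)], [(554, true), (658, true)], [(555, true), (658, true)], [(554, true),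 (659, true)], [(555, true), (659, true)], [(554, true), (661, true)], [(555, true), (661, true)], [(555, true), (662, true)], [(554, true), (663, true)], [(555, true), (663, true)], [(554, true), (666, true)], [(554, true), (668, true)], [(554, true), (669, true)], [(555, true), (669, true)], [(554, true), (670, true)], [(555, true), (670, true)], [(554, true), (671, true)], [(554, true), (674, true)], [(555, true), (674, true)], [(554, true), (675, true)], [(555, true), (675, true)], [(554, true), (676, true)], [(555, true), (677, true)], [(554, true), (679, true)], [(555, true), (679, true)], [(555, true), (680, true)], [(554, true), (682, true)], [(555, true), (682, true)], [(554, true), (684, true)], [(555, true), (684, true)], [(554, true), (685, true)], [(555, true), (685, true)], [(554, true), (686, true)], [(555, true), (686, true)], [(555, true), (687, true)], [(554, true), (688, true)], [(554, true), (689, true)], [(555, true), (689, true)], [(554, true), (690, true)], [(555, true), (690, true)], [(555, true), (691, true)], [(554, true), (692, true)], [(554, true), (693, true)], [(555, true), (693, true)], [(555, true), (694, true)], [(554, true), (696, true)], [(555, true), (696, true)], [(554, true), (697, true)], [(555, true), (697, true)], [(555, true),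 (698, true)], [(554, true), (699, true)], [(555, true), (701, true)], [(554, true), (702, true)], [(554, true), (703, true)], [(555, true), (703, true)], [(554, true), (705, true)], [(555, true), (706, true)], [(554, true), (707, true)], [(555, true), (708, true)], [(554, true), (709, true)], [(555, true), (709, true)], [(555, true), (710, true)], [(554, true), (712, true)], [(555, true), (713, true)], [(555, true), (714, true)], [(555, true), (715, true)], [(554, true), (717, true)], [(555, true), (718, true)], [(554, true), (719, true)], [(554, true), (721, true)], [(554, true), (722, true)], [(555, true), (723, true)], [(554, true), (728, true)], [(555, true), (728, true)], [(554, true), (731, true)], [(554, true), (732, true)], [(554, true), (734, true)], [(554, true), (737, true)], [(554, true), (738, true)], [(554, true), (739, true)], [(554, true), (741, true)], [(555, true), (743, true)], [(554, true), (747, true)], [(555, true), (747, true)], [(554, true), (749, true)], [(554, true), (752, true)], [(555, true), (752, true)], [(555, true), (753, true)], [(554, true), (754, true)], [(554, true), (756, true)], [(554, true), (757, true)], [(555, true), (758, true)], [(554, true), (759, true)], [(554, true), (760, true)], [(555, true), (762, true)], [(554, true),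 (765, true)], [(554, true), (766, true)], [(555, true), (766, true)], [(554, true), (771, true)], [(554, true), (776, true)], [(554, true), (780, true)], [(555, true), (783, true)], [(554, true), (792, true)], [(554, true), (795, true)], [(555, true), (795, true)], [(555, true), (803, true)], [(555, true), (805, true)], [(555, true), (824, true)], [(689, false), (554, true), (701, true)], [(720, false), (554, true), (767, true)], [(830, true), (0, true)], [(831, true), (0, true)], [(830, true), (832, true)], [(831, true), (832, true)], [(830, true), (833, true)], [(831, true), (833, true)], [(830, true), (834, true)], [(831, true), (834, true)], [(830, true), (835, true)], [(831, true), (835, true)], [(830, true), (836, true)], [(831, true), (836, true)], [(830, true), (837, true)], [(831, true), (837, true)], [(830, true), (838, true)], [(831, true), (838, true)], [(830, true), (839, true)], [(831, true), (839, true)], [(830, true), (840, true)], [(831, true), (840, true)], [(830, true), (841, true)], [(830, true), (842, true)], [(831, true), (842, true)], [(830, true), (843, true)], [(831, true), (843, true)], [(830, true), (844, true)], [(831, true), (844, true)], [(830, true), (845, true)], [(831, true), (845, true)], [(830, true), (846, true)], [(831, true),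 (846, true)], [(830, true), (847, true)], [(831, true), (847, true)], [(830, true), (848, true)], [(831, true), (848, true)], [(830, true), (849, true)], [(831, true), (849, true)], [(830, true), (850, true)], [(831, true), (850, true)], [(831, true), (851, true)], [(830, true), (852, true)], [(831, true), (852, true)], [(830, true), (853, true)], [(831, true), (853, true)], [(830, true), (854, true)], [(831, true), (854, true)], [(830, true), (855, true)], [(831, true), (855, true)], [(830, true), (856, true)], [(830, true), (857, true)], [(831, true), (857, true)], [(830, true), (858, true)], [(831, true), (858, true)], [(831, true), (859, true)], [(830, true), (860, true)], [(831, true), (860, true)], [(831, true), (861, true)], [(830, true), (862, true)], [(831, true), (862, true)], [(830, true), (863, true)], [(831, true), (864, true)], [(830, true), (865, true)], [(831, true), (865, true)], [(830, true), (866, true)], [(831, true), (866, true)], [(830, true), (867, true)], [(830, true), (868, true)], [(831, true), (868, true)], [(830, true), (869, true)], [(831, true), (869, true)], [(830, true), (871, true)], [(831, true), (871, true)], [(831, true), (872, true)], [(831, true), (873, true)], [(831, true), (874, true)], [(831, true), (875, true)], [(831, true),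 (877, true)], [(830, true), (878, true)], [(830, true), (879, true)], [(831, true), (880, true)], [(830, true), (881, true)], [(831, true), (881, true)], [(831, true), (882, true)], [(830, true), (883, true)], [(831, true), (883, true)], [(830, true), (884, true)], [(830, true), (885, true)], [(830, true), (886, true)], [(831, true), (886, true)], [(831, true), (887, true)], [(830, true), (888, true)], [(830, true), (889, true)], [(831, true), (889, true)], [(830, true), (890, true)], [(831, true), (890, true)], [(830, true), (891, true)], [(831, true), (891, true)], [(830, true), (892, true)], [(831, true), (892, true)], [(830, true), (893, true)], [(831, true), (893, true)], [(830, true), (894, true)], [(830, true), (895, true)], [(831, true), (895, true)], [(830, true), (896, true)], [(830, true), (897, true)], [(831, true), (897, true)], [(830, true), (898, true)], [(831, true), (898, true)], [(831, true), (900, true)], [(830, true), (901, true)], [(831, true), (901, true)], [(830, true), (902, true)], [(830, true), (903, true)], [(831, true), (905, true)], [(831, true), (906, true)], [(830, true), (909, true)], [(831, true), (909, true)], [(831, true), (911, true)], [(830, true), (913, true)], [(831, true), (913, true)], [(831, true), (914, true)], [(830, true),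 (915, true)], [(831, true), (915, true)], [(830, true), (916, true)], [(830, true), (917, true)], [(831, true), (917, true)], [(830, true), (918, true)], [(831, true), (918, true)], [(830, true), (919, true)], [(831, true), (919, true)], [(831, true), (920, true)], [(831, true), (923, true)], [(830, true), (924, true)], [(831, true), (924, true)], [(830, true), (926, true)], [(831, true), (927, true)], [(831, true), (928, true)], [(830, true), (929, true)], [(831, true), (929, true)], [(830, true), (930, true)], [(831, true), (931, true)], [(831, true), (932, true)], [(830, true), (933, true)], [(830, true), (935, true)], [(831, true), (935, true)], [(830, true), (937, true)], [(830, true), (938, true)], [(830, true), (940, true)], [(831, true), (941, true)], [(831, true), (946, true)], [(831, true), (947, true)], [(831, true), (949, true)], [(830, true), (951, true)], [(830, true), (953, true)], [(830, true), (956, true)], [(831, true), (956, true)], [(831, true), (958, true)], [(831, true), (961, true)], [(830, true), (966, true)], [(830, true), (972, true)], [(862, false), (830, true), (978, true)], [(964, false), (830, true), (927, true)], [(993, true), (0, true)], [(994, true), (0, true)], [(993, true), (995, true)], [(994, true), (995, true)], [(993, true),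 (996, true)], [(993, true), (997, true)], [(994, true), (997, true)], [(993, true), (998, true)], [(993, true), (999, true)], [(994, true), (999, true)], [(993, true), (1000, true)], [(994, true), (1000, true)], [(993, true), (1001, true)], [(993, true), (1002, true)], [(994, true), (1002, true)], [(994, true), (1003, true)], [(993, true), (1004, true)], [(994, true), (1005, true)], [(993, true), (1006, true)], [(993, true), (1007, true)], [(994, true), (1007, true)], [(993, true), (1008, true)], [(994, true), (1008, true)], [(993, true), (1009, true)], [(993, true), (1010, true)], [(993, true), (1011, true)], [(994, true), (1011, true)], [(993, true), (1012, true)], [(994, true), (1013, true)], [(993, true), (1014, true)], [(994, true), (1014, true)], [(993, true), (1015, true)], [(994, true), (1016, true)], [(993, true), (1017, true)], [(994, true), (1018, true)], [(993, true), (1019, true)], [(994, true), (1019, true)], [(993, true), (1020, true)], [(994, true), (1020, true)], [(993, true), (1021, true)], [(993, true), (1022, true)], [(994, true), (1022, true)], [(993, true), (1023, true)], [(993, true), (1024, true)], [(994, true), (1024, true)], [(993, true), (1026, true)], [(994, true), (1026, true)], [(993, true), (1027, true)], [(993, true), (1028, true)],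 [(993, true), (1029, true)], [(993, true), (1030, true)], [(993, true), (1031, true)], [(993, true), (1032, true)], [(994, true), (1032, true)], [(993, true), (1033, true)], [(994, true), (1034, true)], [(993, true), (1035, true)], [(994, true), (1035, true)], [(993, true), (1036, true)], [(994, true), (1037, true)], [(994, true), (1038, true)], [(994, true), (1040, true)], [(993, true), (1042, true)], [(994, true), (1042, true)], [(993, true), (1043, true)], [(994, true), (1043, true)], [(993, true), (1044, true)], [(993, true), (1045, true)], [(994, true), (1045, true)], [(993, true), (1046, true)], [(994, true), (1046, true)], [(994, true), (1047, true)], [(993, true), (1049, true)], [(994, true), (1049, true)], [(993, true), (1050, true)], [(993, true), (1051, true)], [(993, true), (1053, true)], [(994, true), (1053, true)], [(993, true), (1054, true)], [(993, true), (1056, true)], [(993, true), (1058, true)], [(993, true), (1059, true)], [(994, true), (1059, true)], [(994, true), (1062, true)], [(993, true), (1063, true)], [(994, true), (1064, true)], [(993, true), (1065, true)], [(993, true), (1066, true)], [(994, true), (1067, true)], [(993, true), (1068, true)], [(993, true), (1069, true)], [(993, true), (1071, true)], [(994, true), (1071, true)], [(993,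 true), (1072, true)], [(993, true), (1075, true)], [(994, true), (1075, true)], [(994, true), (1079, true)], [(993, true), (1081, true)], [(993, true), (1084, true)], [(994, true), (1084, true)], [(993, true), (1086, true)], [(993, true), (1089, true)], [(993, true), (1091, true)], [(993, true), (1092, true)], [(1072, false), (993, true), (1074, true)], [(1006, false), (993, true), (1003, true)], [(1015, false), (993, true), (1034, true)], [(1099, true), (0, true)], [(1100, true), (0, true)], [(1101, true), (0, true)], [(1099, true), (1102, true)], [(1100, true), (1102, true)], [(1101, true), (1102, true)], [(1099, true), (1103, true)], [(1100, true), (1103, true)], [(1101, true), (1103, true)], [(1099, true), (1104, true)], [(1100, true), (1104, true)], [(1101, true), (1104, true)], [(1100, true), (1105, true)], [(1101, true), (1105, true)], [(1100, true), (1106, true)], [(1101, true), (1106, true)], [(1099, true), (1107, true)], [(1100, true), (1107, true)], [(1101, true), (1107, true)], [(1099, true), (1108, true)], [(1101, true), (1108, true)], [(1101, true), (1109, true)], [(1099, true), (1110, true)], [(1100, true), (1110, true)], [(1099, true), (1111, true)], [(1100, true), (1111, true)], [(1101, true), (1111, true)], [(1099, true), (1112, true)], [(1100,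 true), (1112, true)], [(1101, true), (1112, true)], [(1101, true), (1113, true)], [(1101, true), (1114, true)], [(1099, true), (1115, true)], [(1100, true), (1115, true)], [(1101, true), (1115, true)], [(1099, true), (1117, true)], [(1100, true), (1117, true)], [(1100, true), (1118, true)], [(1101, true), (1118, true)], [(1100, true), (1119, true)], [(1101, true), (1119, true)], [(1099, true), (1120, true)], [(1101, true), (1120, true)], [(1101, true), (1121, true)], [(1099, true), (1122, true)], [(1100, true), (1122, true)], [(1099, true), (1123, true)], [(1100, true), (1123, true)], [(1099, true), (1124, true)], [(1100, true), (1124, true)], [(1100, true), (1125, true)], [(1101, true), (1126, true)], [(1100, true), (1127, true)], [(1100, true), (1128, true)], [(1099, true), (1129, true)], [(1099, true), (1131, true)], [(1100, true), (1131, true)], [(1101, true), (1133, true)], [(1101, true), (1134, true)], [(1099, true), (1137, true)], [(1100, true), (1139, true)], [(1100, true), (1140, true)], [(1101, true), (1145, true)], [(1142, false), (1100, true), (1138, true)], [(1108, false), (1101, true), (1110, true)], [(1165, true), (0, true)], [(1166, true), (0, true)], [(2, true), (2, true)], [(2, true), (1169, true)], [(2, true), (1170, true)], [(2, true), (1171,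 true)], [(2, true), (1172, true)], [(2, true), (1173, true)], [(2, true), (1174, true)], [(2, true), (1175, true)], [(2, true), (1176, true)], [(2, true), (1177, true)], [(2, true), (1178, true)], [(2, true), (1179, true)], [(2, true), (1180, true)], [(2, true), (1181, true)], [(2, true), (1182, true)], [(2, true), (1183, true)], [(2, true), (1184, true)], [(2, true), (1185, true)], [(2, true), (1186, true)], [(2, true), (1187, true)], [(2, true), (1188, true)], [(679, true), (844, true), (1025, true), (1126, true), (1168, true)]]

theorem slp_0 : SlpPart 552 pN pM [1, 2] W slpW 100 0 := by
  unfold SlpPart; decide +kernel

theorem slp_1 : SlpPart 552 pN pM [1, 2] W slpW 100 1 := by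
  unfold SlpPart; decide +kernel

theorem slp_2 : SlpPart 552 pN pM [1, 2] W slpW 100 2 := by
  unfold SlpPart; decide +kernel

theorem slp_3 : SlpPart 552 pN pM [1, 2] W slpW 100 3 := by
  unfold SlpPart; decide +kernel

theorem slp_4 : SlpPart 552 pN pM [1, 2] W slpW 100 4 := by
  unfold SlpPart; decide +kernel

theorem slp_5 : SlpPart 552 pN pM [1, 2] W slpW 100 5 := by
  unfold SlpPart; decide +kernel

theorem slp_6 : SlpPart 552 pN pM [1, 2] W slpW 100 6 := by
  unfold SlpPart; decide +kernel

theorem slp_7 : SlpPart 552 pN pM [1, 2] W slpW 100 7 := by
  unfold SlpPart; decide +kernel

theorem slp_8 : SlpPart 552 pN pM [1, 2] W slpW 100 8 := by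
  unfold SlpPart; decide +kernel

theorem slp_9 : SlpPart 552 pN pM [1, 2] W slpW 100 9 := by
  unfold SlpPart; decide +kernel

theorem slp_10 : SlpPart 552 pN pM [1, 2] W slpW 100 10 := by
  unfold SlpPart; decide +kernel

theorem slp_11 : SlpPart 552 pN pM [1, 2] W slpW 100 11 := by
  unfold SlpPart; decide +kernel

theorem slp_ok : SlpS 552 pN pM 1191 [1, 2] W slpW := by
  apply slpS_of_parts (by decide +kernel) 100 12 (by norm_num) (by decide +kernel)
  intro k hk
  interval_cases k
  · exact slp_0
  · exact slp_1
  · exact slp_2
  · exact slp_3
  · exact slp_4
  · exact slp_5
  · exact slp_6
  · exact slp_7
  · exact slp_8
  · exact slp_9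
  · exact slp_10
  · exact slp_11

theorem S0_sub : ∀ i ∈ L0.S, i ∈ W := by decide +kernel

end Cfsg.Agent.Lib.Helper9.Co3a
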