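import Cfsg.Agent.Lib.Helper9.Co3b

set_option autoImplicit false

/-! The permutation group of degree 552 and order 495766656000 generated by two of the tables of
`Co3a`. -/

namespace Cfsg.Agent.Lib.Helper9.Co3a

open Cfsg.Agent.Lib.Helper8.SS Cfsg.Agent.Lib.Helper9.SlpS

/-- the permutation group -/
noncomputable def K : Subgroup (Equiv.Perm (Fin 552)) := grp 552 pN pM L0.S

theorem K_eq : K = grp 552 pN pM [1, 2] :=
  grp_eq_of_slp valid_all slp_ok S0_sub (by decide)

/-- all tables of the chain lie in the group -/
theorem P_mem_K : ∀ i < 1191, P 552 pN pM i ∈ K := by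
  intro i hi
  rw [K_eq]
  apply slpS_mem valid_all slp_ok
  unfold W
  simp only [List.mem_range]
  exact hi

end Cfsg.Agent.Lib.Helper9.Co3a
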