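import Mathlib

set_option autoImplicit false

/-! Two counting lemmas: the centraliser of an element with many conjugates is small, and a list
of distinct elements of a small set exhausts it. -/

namespace Cfsg.Agent.Lib.Helper9.GrpCount

/-- the centraliser of an element with `m` distinct conjugates under `H` -/
theorem card_centralizer_le {A : Type*} [Group A] (H : Subgroup A) [Finite H] (t : A) (m : ℕ)
    (c : Fin m → A) (hc : ∀ j, c j ∈ H)
    (hinj : Function.Injective (fun j => c j * t * (c j)⁻¹)) :
    m * Nat.card ↥(H ⊓ Subgroup.centralizer {t}) ≤ Nat.card H := by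
  let f : Fin m × ↥(H ⊓ Subgroup.centralizer {t}) → H :=
    fun x => ⟨c x.1 * x.2.1, H.mul_mem (hc _) (Subgroup.mem_inf.mp x.2.2).1⟩
  have hcomm : ∀ z : ↥(H ⊓ Subgroup.centralizer {t}), z.1 * t * z.1⁻¹ = t := by
    intro z
    have h := (Subgroup.mem_centralizer_iff.mp (Subgroup.mem_inf.mp z.2).2) t (Set.mem_singleton t)
    rw [← h, mul_inv_cancel_right]
  have hf : Function.Injective f := by
    rintro ⟨j, z⟩ ⟨j', z'⟩ h
    have h1 : c j * z.1 = c j' * z'.1 := congrArg Subtype.val h
    have h2 : c j * t * (c j)⁻¹ = c j' * t * (c j')⁻¹ := by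
      calc c j * t * (c j)⁻¹ = c j * (z.1 * t * z.1⁻¹) * (c j)⁻¹ := by rw [hcomm z]
        _ = (c j * z.1) * t * (c j * z.1)⁻¹ := by group
        _ = (c j' * z'.1) * t * (c j' * z'.1)⁻¹ := by rw [h1]
        _ = c j' * (z'.1 * t * z'.1⁻¹) * (c j')⁻¹ := by group
        _ = c j' * t * (c j')⁻¹ := by rw [hcomm z']
    have hj : j = j' := hinj h2
    subst hj
    have hz : z.1 = z'.1 := mul_left_cancel h1
    rw [Subtype.ext hz]
  have := Nat.card_le_card_of_injective f hf
  rwa [Nat.card_prod, Nat.card_fin] at this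

/-- a list of distinct elements of a small finite set exhausts it -/
theorem exists_of_card_le {α : Type*} (T : Set α) [Finite T] (m : ℕ) (f : Fin m → α)
    (hf : Function.Injective f) (hT : ∀ j, f j ∈ T) (hcard : Nat.card T ≤ m) :
    ∀ x ∈ T, ∃ j, f j = x := by
  let f' : Fin m → T := fun j => ⟨f j, hT j⟩
  have hf' : Function.Injective f' := by
    intro i j h
    exact hf (congrArg Subtype.val h)
  have hb : Function.Bijective f' := by
    apply Function.Injective.bijective_of_nat_card_le hf'
    rw [Nat.card_fin]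
    exact hcard
  intro x hx
  obtain ⟨j, hj⟩ := hb.2 ⟨x, hx⟩
  exact ⟨j, congrArg Subtype.val hj⟩

end Cfsg.Agent.Lib.Helper9.GrpCount
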