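import Cfsg.Agent.Lib.Helper9.SSB
import Cfsg.Agent.Lib.Helper8.SS8

set_option autoImplicit false
set_option linter.unusedSectionVars false
set_option linter.unusedVariables false

/-! Signed words in a verified stabiliser chain: fingerprints on the base points and equality
tests that the kernel evaluates quickly. -/

namespace Cfsg.Agent.Lib.Helper9.SSC

open Cfsg.Agent.Lib.Helper8.SS Cfsg.Agent.Lib.Helper8.FastDec Cfsg.Agent.Lib.Helper8.MatN
  Cfsg.Agent.Lib.Helper9.SSB

variable (n : ℕ) [NeZero n] (pN pM : ℕ → ℕ) (np : ℕ)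

/-- the codes of the letters of a signed word -/
def codesOf (w : List (ℕ × Bool)) : List ℕ := w.map (fun l => bif l.2 then pN l.1 else pM l.1)

theorem evC_codesOf (w : List (ℕ × Bool)) (x : ℕ) : evC (codesOf pN pM w) x = evS pN pM w x := by
  induction w with
  | nil => rfl
  | cons l w ih =>
    show getR (bif l.2 then pN l.1 else pM l.1) (evC (codesOf pN pM w) x) = _
    rw [ih, getR_eq]
    show _ = (if l.2 then _ else _)
    cases h : l.2
    · simp; rfl
    · simp; rfl

/-- packed images of the points of a list under a list of codes -/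
noncomputable def fpC (c : List ℕ) (pts : List ℕ) : ℕ :=
  List.rec (motive := fun _ => ℕ) 0 (fun b _ ih => Nat.add (evC c b) (Nat.mul 1024 ih)) pts

/-- the fingerprint of a signed word on a list of points -/
noncomputable def fpS (pts : List ℕ) (w : List (ℕ × Bool)) : ℕ :=
  forceList (codesOf pN pM w) (fun c => fpC c pts)

theorem fpC_congr {c c' : List ℕ} {pts : List ℕ} (h : ∀ b ∈ pts, evC c b = evC c' b) :
    fpC c pts = fpC c' pts := by
  induction pts with
  | nil => rfl
  | cons b pts ih =>
    show Nat.add (evC c b) (Nat.mul 1024 (fpC c pts)) = Nat.add (evC c' b) (Nat.mul 1024 (fpC c' pts))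
    rw [h b (List.mem_cons_self ..), ih (fun x hx => h x (List.mem_cons_of_mem _ hx))]

/-- equality of two signed words on a list of points (boolean) -/
noncomputable def eqP (pts : List ℕ) (w w' : List (ℕ × Bool)) : Bool :=
  forceList (codesOf pN pM w) (fun c => forceList (codesOf pN pM w') (fun c' =>
    List.rec (motive := fun _ => Bool) true
      (fun b _ ih => Nat.beq (evC c b) (evC c' b) && ih) pts))

theorem eqP_spec {pts : List ℕ} {w w' : List (ℕ × Bool)} (h : eqP pN pM pts w w' = true) :
    ∀ b ∈ pts, evS pN pM w b = evS pN pM w' b := by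
  unfold eqP at h
  rw [forceList_eq, forceList_eq] at h
  induction pts with
  | nil => intro b hb; simp at hb
  | cons a pts ih =>
    have e : (List.rec (motive := fun _ => Bool) true
        (fun b _ ih => Nat.beq (evC (codesOf pN pM w) b) (evC (codesOf pN pM w') b) && ih)
        (a :: pts)) =
      (Nat.beq (evC (codesOf pN pM w) a) (evC (codesOf pN pM w') a) &&
        List.rec (motive := fun _ => Bool) true
        (fun b _ ih => Nat.beq (evC (codesOf pN pM w) b) (evC (codesOf pN pM w') b) && ih)
        pts) := rfl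
    rw [e, Bool.and_eq_true] at h
    intro b hb
    rcases List.mem_cons.mp hb with rfl | hb
    · have := Nat.eq_of_beq_eq_true h.1
      rwa [evC_codesOf, evC_codesOf] at this
    · exact ih h.2 b hb

variable {n pN pM np}

/-- equal permutations have equal fingerprints -/
theorem fpS_eq_of_prodS (hv : ∀ i < np, Valid n (pN i) (pM i)) {pts : List ℕ}
    (hp : ∀ x ∈ pts, x < n) {w w' : List (ℕ × Bool)} (hw : ∀ l ∈ w, l.1 < np)
    (hw' : ∀ l ∈ w', l.1 < np) (e : prodS n pN pM w = prodS n pN pM w') :
    fpS pN pM pts w = fpS pN pM pts w' := by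
  unfold fpS
  rw [forceList_eq, forceList_eq]
  apply fpC_congr
  intro b hb
  rw [evC_codesOf, evC_codesOf,
    ← prodS_apply n pN pM (fun l hl => hv _ (hw l hl)) ⟨b, hp b hb⟩,
    ← prodS_apply n pN pM (fun l hl => hv _ (hw' l hl)) ⟨b, hp b hb⟩, e]

theorem prodS_mem' {H : Subgroup (Equiv.Perm (Fin n))} {w : List (ℕ × Bool)}
    (h : ∀ l ∈ w, P n pN pM l.1 ∈ H) : prodS n pN pM w ∈ H := by
  unfold prodS
  apply Subgroup.list_prod_mem
  intro g hg
  rw [List.mem_map] at hg
  obtain ⟨l, hl, rfl⟩ := hg
  unfold PS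
  by_cases h2 : l.2 = true
  · rw [if_pos h2]; exact h l hl
  · rw [if_neg h2]; exact H.inv_mem (h l hl)

/-- two signed words in the group of a chain that agree on the base points are equal -/
theorem prodS_eq_of_eqP (hv : ∀ i < np, Valid n (pN i) (pM i)) (hid : ∀ x < n, get (pN 0) x = x)
    (Ls : List Level) (hc : ChainOK n pN np Ls) {w w' : List (ℕ × Bool)}
    (hw : ∀ l ∈ w, l.1 < np ∧ P n pN pM l.1 ∈ grp n pN pM (headS Ls))
    (hw' : ∀ l ∈ w', l.1 < np ∧ P n pN pM l.1 ∈ grp n pN pM (headS Ls))
    (h : eqP pN pM (baseOf Ls) w w' = true) : prodS n pN pM w = prodS n pN pM w' := by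
  apply eq_of_base hv hid Ls hc _ _ (prodS_mem' (fun l hl => (hw l hl).2))
    (prodS_mem' (fun l hl => (hw' l hl).2))
  intro b hb hbn
  apply Fin.ext
  rw [prodS_apply n pN pM (fun l hl => hv _ (hw l hl).1),
    prodS_apply n pN pM (fun l hl => hv _ (hw' l hl).1)]
  exact eqP_spec pN pM h b hb

/-- the conjugate of a signed word by a signed word -/
def conjS (c w : List (ℕ × Bool)) : List (ℕ × Bool) :=
  c ++ w ++ (c.reverse.map (fun l => (l.1, !l.2)))

theorem prodS_inv (c : List (ℕ × Bool)) :
    prodS n pN pM (c.reverse.map (fun l => (l.1, !l.2))) = (prodS n pN pM c)⁻¹ := by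
  induction c with
  | nil =>
    show (1 : Equiv.Perm (Fin n)) = (1 : Equiv.Perm (Fin n))⁻¹
    rw [inv_one]
  | cons l c ih =>
    rw [List.reverse_cons, List.map_append, prodS_append, ih, prodS_cons, mul_inv_rev]
    congr 1
    show prodS n pN pM [(l.1, !l.2)] = _
    rw [prodS_cons]
    show PS n pN pM (l.1, !l.2) * 1 = _
    rw [mul_one]
    unfold PS
    cases h : l.2
    · simp
    · simp

theorem prodS_conjS (c w : List (ℕ × Bool)) :
    prodS n pN pM (conjS c w) = prodS n pN pM c * prodS n pN pM w * (prodS n pN pM c)⁻¹ := by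
  unfold conjS
  rw [prodS_append, prodS_append, prodS_inv]

end Cfsg.Agent.Lib.Helper9.SSC
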