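import Cfsg.Agent.Lib.Helper9.Co3e
import Cfsg.Agent.Lib.Helper9.SSC
import Cfsg.Agent.Lib.Helper9.GrpCount

set_option autoImplicit false
set_option maxRecDepth 100000

/-! Words in the tables of the permutation group of degree 552: membership, equality on the base
points, the stabiliser of the first base point. -/

namespace Cfsg.Agent.Lib.Helper9.Co3a

open Cfsg.Agent.Lib.Helper8.SS Cfsg.Agent.Lib.Helper8.MatN Cfsg.Agent.Lib.Helper8.FastDec
  Cfsg.Agent.Lib.Helper9.SSB Cfsg.Agent.Lib.Helper9.SSC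

/-- the base points of the chain -/
def BASE : List ℕ := [0, 1, 2, 3, 4, 5]

/-- the fingerprint of a word -/
noncomputable def fpw (w : List ℕ) : ℕ := fpS pN pM BASE (fwd w)

/-- equality of words on the base points -/
noncomputable def eqw (w w' : List ℕ) : Bool := eqP pN pM BASE (fwd w) (fwd w')

/-- the conjugate of a word by a word -/
def conjw (c w : List ℕ) : List (ℕ × Bool) := conjS (fwd c) (fwd w)

/-- the permutation of a word -/
noncomputable abbrev KW (w : List ℕ) : Equiv.Perm (Fin 552) := prodW 552 pN pM w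

/-- the permutation of a signed word -/
noncomputable abbrev KS (w : List (ℕ × Bool)) : Equiv.Perm (Fin 552) := prodS 552 pN pM w

theorem KW_mem_K {w : List ℕ} (hw : ∀ i ∈ w, i < 1191) : KW w ∈ K :=
  prodW_mem (fun i hi => P_mem_K i (hw i hi))

theorem fwd_lt {w : List ℕ} (hw : ∀ i ∈ w, i < 1191) : ∀ l ∈ fwd w, l.1 < 1191 := by
  intro l hl
  unfold fwd at hl
  rw [List.mem_map] at hl
  obtain ⟨i, hi, rfl⟩ := hl
  exact hw i hi

theorem KS_mem_K {w : List (ℕ × Bool)} (hw : ∀ l ∈ w, l.1 < 1191) : KS w ∈ K :=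
  prodS_mem' (fun l hl => P_mem_K l.1 (hw l hl))

theorem base_eq : baseOf [L0, L1, L2, L3, L4, L5] = BASE := by decide

/-- signed words that agree on the base points are equal -/
theorem KS_eq_of_eqP {w w' : List (ℕ × Bool)} (hw : ∀ l ∈ w, l.1 < 1191)
    (hw' : ∀ l ∈ w', l.1 < 1191) (h : eqP pN pM BASE w w' = true) : KS w = KS w' := by
  rw [← base_eq] at h
  have hle : Nat.card (grp 552 pN pM (headS [L0, L1, L2, L3, L4, L5])) ≤
      Cfsg.Agent.Lib.Helper9.SST.sizeOf [L0, L1, L2, L3, L4, L5] := by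
    have h3 : Cfsg.Agent.Lib.Helper9.SST.sizeOf [L0, L1, L2, L3, L4, L5] = 495766656000 := by
      decide +kernel
    rw [h3]
    exact le_of_eq card_K
  apply Cfsg.Agent.Lib.Helper9.SST.eq_of_baseT valid_all id_tab [L0, L1, L2, L3, L4, L5] chain hle
    _ _ (prodS_mem' (fun l hl => P_mem_K l.1 (hw l hl)))
    (prodS_mem' (fun l hl => P_mem_K l.1 (hw' l hl)))
  intro b hb hbn
  apply Fin.ext
  rw [prodS_apply 552 pN pM (fun l hl => valid_all _ (hw l hl)),
    prodS_apply 552 pN pM (fun l hl => valid_all _ (hw' l hl))]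
  exact eqP_spec pN pM h b hb

theorem KS_fwd (w : List ℕ) : KS (fwd w) = KW w := prodS_fwd 552 pN pM w

theorem KW_eq_of_eqw {w w' : List ℕ} (hw : ∀ i ∈ w, i < 1191) (hw' : ∀ i ∈ w', i < 1191)
    (h : eqw w w' = true) : KW w = KW w' := by
  have := KS_eq_of_eqP (fwd_lt hw) (fwd_lt hw') h
  rwa [KS_fwd, KS_fwd] at this

theorem BASE_lt : ∀ x ∈ BASE, x < 552 := by decide

theorem fpS_eq {w w' : List (ℕ × Bool)} (hw : ∀ l ∈ w, l.1 < 1191) (hw' : ∀ l ∈ w', l.1 < 1191)
    (e : KS w = KS w') : fpS pN pM BASE w = fpS pN pM BASE w' :=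
  fpS_eq_of_prodS valid_all BASE_lt hw hw' e

theorem fpw_eq {w w' : List ℕ} (hw : ∀ i ∈ w, i < 1191) (hw' : ∀ i ∈ w', i < 1191)
    (e : KW w = KW w') : fpw w = fpw w' := by
  apply fpS_eq (fwd_lt hw) (fwd_lt hw')
  rw [KS_fwd, KS_fwd]
  exact e

theorem conjw_lt {c w : List ℕ} (hc : ∀ i ∈ c, i < 1191) (hw : ∀ i ∈ w, i < 1191) :
    ∀ l ∈ conjw c w, l.1 < 1191 := by
  intro l hl
  unfold conjw conjS at hl
  rw [List.mem_append, List.mem_append] at hl
  rcases hl with (h | h) | h
  · exact fwd_lt hc l h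
  · exact fwd_lt hw l h
  · rw [List.mem_map] at h
    obtain ⟨l', hl', rfl⟩ := h
    exact fwd_lt hc l' (List.mem_reverse.mp hl')

theorem KS_conjw (c w : List ℕ) : KS (conjw c w) = KW c * KW w * (KW c)⁻¹ := by
  have h : KS (conjS (fwd c) (fwd w)) = KS (fwd c) * KS (fwd w) * (KS (fwd c))⁻¹ :=
    prodS_conjS _ _
  rw [KS_fwd, KS_fwd] at h
  exact h

theorem append_lt {w w' : List ℕ} (hw : ∀ i ∈ w, i < 1191) (hw' : ∀ i ∈ w', i < 1191) :
    ∀ i ∈ w ++ w', i < 1191 := by
  intro i hi
  rcases List.mem_append.mp hi with h | h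
  · exact hw i h
  · exact hw' i h

theorem getD_forall {α : Type*} {l : List (List α)} {p : α → Prop} (h : ∀ w ∈ l, ∀ i ∈ w, p i)
    (a : ℕ) : ∀ i ∈ l.getD a [], p i := by
  intro i hi
  by_cases ha : a < l.length
  · rw [List.getD_eq_getElem _ _ ha] at hi
    exact h _ (List.getElem_mem ha) i hi
  · rw [List.getD_eq_default _ _ (not_lt.mp ha)] at hi
    simp at hi

theorem idx_eq_of_nodup {α β : Type*} (l : List α) (d : α) (F : α → β) (h : (l.map F).Nodup)
    {i j : ℕ} (hi : i < l.length) (hj : j < l.length) (e : F (l.getD i d) = F (l.getD j d)) :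
    i = j := by
  rw [List.getD_eq_getElem _ _ hi, List.getD_eq_getElem _ _ hj] at e
  have hi' : i < (l.map F).length := by rw [List.length_map]; exact hi
  have hj' : j < (l.map F).length := by rw [List.length_map]; exact hj
  have : (l.map F)[i] = (l.map F)[j] := by rw [List.getElem_map, List.getElem_map]; exact e
  exact (List.Nodup.getElem_inj_iff h).mp this

theorem KW_single (a : ℕ) : KW [a] = P 552 pN pM a := by
  show prodW 552 pN pM [a] = _
  rw [prodW_cons, prodW_nil, mul_one]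

theorem KS_single (a : ℕ) : KS [(a, true)] = P 552 pN pM a := by
  have := KS_fwd [a]
  rw [KW_single] at this
  exact this

theorem KS_single_inv (a : ℕ) : KS [(a, false)] = (P 552 pN pM a)⁻¹ := by
  show prodS 552 pN pM [(a, false)] = _
  rw [prodS_cons]
  show PS 552 pN pM (a, false) * 1 = _
  rw [mul_one]
  unfold PS
  simp

theorem KW_nil : KW [] = 1 := rfl

theorem KS_nil : KS [] = 1 := rfl

theorem P0 : P 552 pN pM 0 = 1 := P_zero (valid_all 0 (by norm_num)) id_tab

theorem lt_pair {a b : ℕ} (ha : a < 1191) (hb : b < 1191) : ∀ i ∈ [a, b], i < 1191 := by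
  intro i hi
  simp only [List.mem_cons, List.not_mem_nil, or_false] at hi
  rcases hi with rfl | rfl
  · exact ha
  · exact hb

theorem lt_single {a : ℕ} (ha : a < 1191) : ∀ i ∈ [a], i < 1191 := by
  intro i hi
  simp only [List.mem_cons, List.not_mem_nil, or_false] at hi
  rw [hi]
  exact ha

theorem lt_sing {a : ℕ} (ha : a < 1191) : ∀ l ∈ [((a, true) : ℕ × Bool)], l.1 < 1191 := by
  intro l hl
  simp only [List.mem_cons, List.not_mem_nil, or_false] at hl
  rw [hl]
  exact ha

/-- words whose letters are below the number of tables (boolean) -/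
def ltB (w : List ℕ) : Bool := w.all (fun i => Nat.blt i 1191)

theorem lt_of_ltB {w : List ℕ} (h : ltB w = true) : ∀ i ∈ w, i < 1191 := by
  intro i hi
  unfold ltB at h
  rw [List.all_eq_true] at h
  have := h i hi
  rwa [Nat.blt_eq] at this

end Cfsg.Agent.Lib.Helper9.Co3a
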