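import Cfsg.Agent.Lib.Helper9.OutG

set_option autoImplicit false

/-! More general lemmas for outer automorphism groups computed from a rigid generating pair:
the image of an element of order 23, the image of an involution that is central in a Sylow
`2`-subgroup with centre of order two, sets closed under conjugation by generators, and the case
where all automorphisms are inner. -/

namespace Cfsg.Agent.Lib.Helper9.OutH

open Cfsg.Agent.Lib.Helper9.J1O Cfsg.Agent.Lib.Helper9.GrpCount Cfsg.Agent.Lib.Helper9.OutG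

variable {G : Type*} [Group G]

theorem conj_pow_iter' (n x : G) (c : ℕ) (h : n * x * n⁻¹ = x ^ c) (a m : ℕ) :
    n ^ a * x ^ m * (n ^ a)⁻¹ = x ^ (m * c ^ a) := by
  induction a with
  | zero => simp
  | succ a ih =>
    have h1 : n ^ (a + 1) * x ^ m * (n ^ (a + 1))⁻¹ = n * (n ^ a * x ^ m * (n ^ a)⁻¹) * n⁻¹ := by
      rw [pow_succ']
      group
    rw [h1, ih, ← conj_pow, h, ← pow_mul]
    congr 1
    ring

/-- the image of an element of order `23` under an automorphism is conjugate to the element or to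
its fifth power, when some element conjugates it to its square -/
theorem exists_conj_of_23 [Finite G] (hfac : (Nat.card G).factorization 23 = 1) (x n : G)
    (hx : x ^ 23 = 1) (hx1 : x ≠ 1) (hn : n * x * n⁻¹ = x ^ 2) (φ : G ≃* G) :
    ∃ g : G, φ x = g * x * g⁻¹ ∨ φ x = g * x ^ 5 * g⁻¹ := by
  haveI : Fact (Nat.Prime 23) := ⟨by norm_num⟩
  have hy : (φ x) ^ 23 = 1 := by rw [← map_pow, hx, map_one]
  have hy1 : φ x ≠ 1 := fun h => hx1 (φ.injective (by rw [h, map_one]))
  obtain ⟨h, j, hj0, hj, e⟩ := exists_conj_pow_of_prime 23 hfac (φ x) x hy hy1 hx hx1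
  have key : ∀ (a k : ℕ), (k * 2 ^ a) % 23 = j → φ x = (h * n ^ a) * x ^ k * (h * n ^ a)⁻¹ := by
    intro a k hak
    have h1 := conj_pow_iter' n x 2 hn a k
    rw [pow_eq_pow_mod (k * 2 ^ a) hx, hak] at h1
    rw [e, ← h1]
    group
  have k1 : ∀ a : ℕ, (1 * 2 ^ a) % 23 = j → ∃ g : G, φ x = g * x * g⁻¹ ∨ φ x = g * x ^ 5 * g⁻¹ := by
    intro a ha
    refine ⟨h * n ^ a, Or.inl ?_⟩
    have := key a 1 ha
    rwa [pow_one] at this
  have k5 : ∀ a : ℕ, (5 * 2 ^ a) % 23 = j → ∃ g : G, φ x = g * x * g⁻¹ ∨ φ x = g * x ^ 5 * g⁻¹ :=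
    fun a ha => ⟨h * n ^ a, Or.inr (key a 5 ha)⟩
  interval_cases j
  · exact k1 0 (by norm_num)
  · exact k1 1 (by norm_num)
  · exact k1 8 (by norm_num)
  · exact k1 2 (by norm_num)
  · exact k5 0 (by norm_num)
  · exact k1 9 (by norm_num)
  · exact k5 9 (by norm_num)
  · exact k1 3 (by norm_num)
  · exact k1 5 (by norm_num)
  · exact k5 1 (by norm_num)
  · exact k5 4 (by norm_num)
  · exact k1 10 (by norm_num)
  · exact k1 7 (by norm_num)
  · exact k5 10 (by norm_num)
  · exact k5 8 (by norm_num)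
  · exact k1 4 (by norm_num)
  · exact k5 3 (by norm_num)
  · exact k1 6 (by norm_num)
  · exact k5 7 (by norm_num)
  · exact k5 2 (by norm_num)
  · exact k5 6 (by norm_num)
  · exact k5 5 (by norm_num)

/-- an automorphism maps the central involution of a Sylow subgroup with centre of order two to a
conjugate of it -/
theorem central_conj [Finite G] (p : ℕ) [Fact p.Prime] (S : Subgroup G) (hS : IsPGroup p S)
    (hidx : ¬ p ∣ S.index) (t : G) (ht1 : t ≠ 1) (htS : t ∈ S) (ht : ∀ y ∈ S, t * y = y * t)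
    (hc : ∀ x ∈ S, (∀ y ∈ S, x * y = y * x) → x = 1 ∨ x = t) (φ : G ≃* G) :
    ∃ g : G, φ t = g * t * g⁻¹ := by
  have hT : IsPGroup p (S.map φ.toMonoidHom) := hS.map _
  obtain ⟨R, hR⟩ := hT.exists_le_sylow
  obtain ⟨g, hg⟩ := MulAction.exists_smul_eq G (hS.toSylow hidx) R
  have hmem : ∀ y ∈ S, g⁻¹ * φ y * g ∈ S := by
    intro y hy
    have h1 : φ y ∈ (R : Subgroup G) := hR ⟨y, hy, rfl⟩
    rw [← hg, Sylow.coe_subgroup_smul] at h1
    obtain ⟨e, he, hte⟩ := (Subgroup.mem_smul_pointwise_iff_exists _ _ _).mp h1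
    rw [MulAut.smul_def, MulAut.conj_apply] at hte
    have he' : e ∈ S := (IsPGroup.mem_toSylow hS hidx).mp he
    rw [← hte]
    have : g⁻¹ * (g * e * g⁻¹) * g = e := by group
    rw [this]
    exact he'
  -- the map `y ↦ g⁻¹ φ(y) g` is an injective map of `S` into itself, hence onto
  let f : S → S := fun y => ⟨g⁻¹ * φ y.1 * g, hmem y.1 y.2⟩
  have hf : Function.Injective f := by
    intro a b hab
    have h1 : g⁻¹ * φ a.1 * g = g⁻¹ * φ b.1 * g := congrArg Subtype.val hab
    have h2 : φ a.1 = φ b.1 := by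
      have : g * (g⁻¹ * φ a.1 * g) * g⁻¹ = g * (g⁻¹ * φ b.1 * g) * g⁻¹ := by rw [h1]
      calc φ a.1 = g * (g⁻¹ * φ a.1 * g) * g⁻¹ := by group
        _ = g * (g⁻¹ * φ b.1 * g) * g⁻¹ := this
        _ = φ b.1 := by group
    exact Subtype.ext (φ.injective h2)
  have hsurj : Function.Surjective f := Finite.surjective_of_injective hf
  have hz : g⁻¹ * φ t * g = 1 ∨ g⁻¹ * φ t * g = t := by
    apply hc _ (hmem t htS)
    intro y hy
    obtain ⟨⟨a, ha⟩, hfa⟩ := hsurj ⟨y, hy⟩
    have hya : y = g⁻¹ * φ a * g := (congrArg Subtype.val hfa).symm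
    rw [hya]
    have h3 : φ t * φ a = φ a * φ t := by rw [← map_mul, ← map_mul, ht a ha]
    calc g⁻¹ * φ t * g * (g⁻¹ * φ a * g) = g⁻¹ * (φ t * φ a) * g := by group
      _ = g⁻¹ * (φ a * φ t) * g := by rw [h3]
      _ = g⁻¹ * φ a * g * (g⁻¹ * φ t * g) := by group
  rcases hz with h | h
  · exfalso
    apply ht1
    apply φ.injective
    rw [map_one]
    calc φ t = g * (g⁻¹ * φ t * g) * g⁻¹ := by group
      _ = 1 := by rw [h]; group
  · refine ⟨g, ?_⟩
    calc φ t = g * (g⁻¹ * φ t * g) * g⁻¹ := by group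
      _ = g * t * g⁻¹ := by rw [h]

/-- a set closed under conjugation by two elements of finite order, and under their powers, is
closed under conjugation by the subgroup they generate -/
theorem conj_closed_of_closure (L : Set G) (x r : G) (K : Subgroup G)
    (hK : Subgroup.closure {x, r} = K)
    (hx : ∀ u ∈ L, x * u * x⁻¹ ∈ L) (hx' : ∀ u ∈ L, x⁻¹ * u * x ∈ L)
    (hr : ∀ u ∈ L, r * u * r⁻¹ ∈ L) (hr' : ∀ u ∈ L, r⁻¹ * u * r ∈ L) :
    ∀ g ∈ K, ∀ u ∈ L, g * u * g⁻¹ ∈ L := by
  intro g hg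
  rw [← hK] at hg
  induction hg using Subgroup.closure_induction'' with
  | one => intro u hu; simpa using hu
  | mem y hy =>
    rcases hy with rfl | rfl
    · exact hx
    · exact hr
  | inv_mem y hy =>
    rcases hy with rfl | rfl
    · intro u hu
      rw [inv_inv]
      exact hx' u hu
    · intro u hu
      rw [inv_inv]
      exact hr' u hu
  | mul a b _ _ iha ihb =>
    intro u hu
    have : a * b * u * (a * b)⁻¹ = a * (b * u * b⁻¹) * a⁻¹ := by group
    rw [this]
    exact iha _ (ihb u hu)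

end Cfsg.Agent.Lib.Helper9.OutH
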