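import Cfsg.Agent.Lib.Helper9.Co3n
import Cfsg.Agent.Lib.Helper9.OutH

set_option autoImplicit false
set_option maxRecDepth 100000

/-! An explicit Sylow `2`-subgroup of the permutation group of degree 552 with centre of order
two, an element of order 23, and the conjugates of the central involution: they are the
conjugates of 7425 of them under the powers of the element of order 23. -/

namespace Cfsg.Agent.Lib.Helper9.Co3a

open Cfsg.Agent.Lib.Helper8.SS Cfsg.Agent.Lib.Helper8.MatN Cfsg.Agent.Lib.Helper8.FastDec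
  Cfsg.Agent.Lib.Helper9.SSB Cfsg.Agent.Lib.Helper9.SSC Cfsg.Agent.Lib.Helper9.SSE
  Cfsg.Agent.Lib.Helper9.GrpCount Cfsg.Agent.Lib.Helper9.OutG Cfsg.Agent.Lib.Helper9.OutH
  Cfsg.Agent.Lib.Helper9.J1O

/-! ### the Sylow subgroup -/

/-- the generators of the Sylow subgroup -/
noncomputable def sg (a : ℕ) : Equiv.Perm (Fin 552) := KW (SGW.getD a [])

/-- the elements of the Sylow subgroup -/
noncomputable def sw (m : ℕ) : Equiv.Perm (Fin 552) := KW (swE m)

/-- the Sylow subgroup -/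
noncomputable def Sg : Subgroup (Equiv.Perm (Fin 552)) :=
  Subgroup.closure {g | ∃ a < 5, sg a = g}

/-- the involution -/
noncomputable def r0 : Equiv.Perm (Fin 552) := P 552 pN pM 1

/-- the element of order `23` -/
noncomputable def x0 : Equiv.Perm (Fin 552) := P 552 pN pM 2

/-- an element normalizing it -/
noncomputable def nn : Equiv.Perm (Fin 552) := P 552 pN pM 1190

theorem r0_mem : r0 ∈ K := P_mem_K 1 (by norm_num)

theorem x0_mem : x0 ∈ K := P_mem_K 2 (by norm_num)

theorem nn_mem : nn ∈ K := P_mem_K 1190 (by norm_num)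

theorem SGW_l (a : ℕ) : ∀ i ∈ SGW.getD a [], i < 1191 := getD_forall SGW_lt a

theorem nthR_mem_or {α : Type} (l : List α) (n : ℕ) (d : α) : nthR l n d ∈ l ∨ nthR l n d = d := by
  rw [nthR_eq]
  by_cases h : n < l.length
  · left
    rw [List.getD_eq_getElem _ _ h]
    exact List.getElem_mem h
  · right
    exact List.getD_eq_default _ _ (not_lt.mp h)

theorem SW_l (m : ℕ) : ∀ i ∈ swE m, i < 1191 := by
  unfold swE
  rw [withVal_eq]
  have h := SW_lt
  rw [List.all_eq_true] at h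
  rcases nthR_mem_or SWn (Nat.div m 32) [] with h1 | h1
  · have h2 := h _ h1
    rw [List.all_eq_true] at h2
    rcases nthR_mem_or (nthR SWn (Nat.div m 32) []) (Nat.mod m 32) [] with h3 | h3
    · exact lt_of_ltB (h2 _ h3)
    · rw [h3]
      simp
  · rw [h1]
    have : nthR ([] : List (List ℕ)) (Nat.mod m 32) [] = [] := rfl
    rw [this]
    simp

theorem sw_zero : sw 0 = 1 := by
  unfold sw
  rw [SW_zero]
  rfl

theorem sw_one : sw 1 = r0 := by
  unfold sw
  rw [SW_one]
  exact KW_single 1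

theorem sg_mem_K (a : ℕ) : sg a ∈ K := KW_mem_K (SGW_l a)

theorem Sg_le_K : Sg ≤ K := by
  unfold Sg
  rw [Subgroup.closure_le]
  rintro g ⟨a, -, rfl⟩
  exact sg_mem_K a

theorem sg_mul_sw (a m : ℕ) (ha : a < 5) (hm : m < 1024) :
    gtE a m < 1024 ∧ sg a * sw m = sw (gtE a m) := by
  obtain ⟨h1, h2⟩ := S_tab a ha m hm
  refine ⟨h1, ?_⟩
  have := KW_eq_of_eqw (append_lt (SGW_l a) (SW_l m)) (SW_l _) h2
  unfold sg sw
  rw [← this]
  exact (prodW_append 552 pN pM _ _).symm

theorem sw_mem_Sg : ∀ m < 1024, sw m ∈ Sg := by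
  intro m
  induction m using Nat.strong_induction_on with
  | _ m ih =>
    intro hm
    rcases S_tree m hm with rfl | ⟨h1, h2, h3⟩
    · rw [sw_zero]; exact Sg.one_mem
    · have := (sg_mul_sw _ _ h2 (lt_trans h1 hm)).2
      rw [h3] at this
      rw [← this]
      apply Sg.mul_mem
      · exact Subgroup.subset_closure ⟨_, h2, rfl⟩
      · exact ih _ h1 (lt_trans h1 hm)

theorem mem_Sg_iff (g : Equiv.Perm (Fin 552)) : g ∈ Sg ↔ ∃ m < 1024, sw m = g := by
  constructor
  · intro hg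
    have key := closure_mul_mem (S := {g | ∃ a < 5, sg a = g}) (T := {g | ∃ m < 1024, sw m = g})
      (by
        rintro s ⟨a, ha, rfl⟩ t ⟨m, hm, rfl⟩
        obtain ⟨h1, h2⟩ := sg_mul_sw a m ha hm
        exact ⟨_, h1, h2.symm⟩) g hg 1 ⟨0, by norm_num, sw_zero⟩
    rwa [mul_one] at key
  · rintro ⟨m, hm, rfl⟩
    exact sw_mem_Sg m hm

theorem SW_nodup : ((List.range 1024).map (fun m => fpw (swE m))).Nodup := by
  apply nodup_of_nodupB
  have := S_fp
  rwa [forceList_eq] at this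

theorem sw_inj {m m' : ℕ} (hm : m < 1024) (hm' : m' < 1024) (e : sw m = sw m') : m = m' := by
  apply List.inj_on_of_nodup_map SW_nodup (List.mem_range.mpr hm) (List.mem_range.mpr hm')
  exact fpw_eq (SW_l m) (SW_l m') e

theorem card_Sg : Nat.card Sg = 2 ^ 10 := by
  let f : Fin 1024 → Sg := fun m => ⟨sw m.1, sw_mem_Sg m.1 m.2⟩
  have hf : Function.Bijective f := by
    constructor
    · intro m m' h
      exact Fin.ext (sw_inj m.2 m'.2 (congrArg Subtype.val h))
    · rintro ⟨g, hg⟩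
      obtain ⟨m, hm, rfl⟩ := (mem_Sg_iff g).mp hg
      exact ⟨⟨m, hm⟩, rfl⟩
  rw [← Nat.card_congr (Equiv.ofBijective f hf), Nat.card_fin]
  norm_num

instance : Finite Sg := Nat.finite_of_card_ne_zero (by rw [card_Sg]; norm_num)

theorem r0_mem_Sg : r0 ∈ Sg := by
  rw [← sw_one]
  exact sw_mem_Sg 1 (by norm_num)

theorem r0_ne_one : r0 ≠ 1 := by
  intro h
  apply r_ne
  apply fpw_eq (lt_single (by norm_num : 1 < 1191)) (by simp)
  rw [KW_single, KW_nil]
  exact h

theorem r0_sq : r0 * r0 = 1 := by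
  have h := KW_eq_of_eqw (lt_pair (by norm_num : 1 < 1191) (by norm_num : 1 < 1191)) (by simp)
    r_sq
  rw [KW_nil] at h
  rw [← h]
  show _ = prodW 552 pN pM [1, 1]
  rw [prodW_cons, prodW_cons, prodW_nil, mul_one]
  rfl

theorem r0_inv : r0⁻¹ = r0 := inv_eq_of_mul_eq_one_right r0_sq

theorem r0_comm (x : Equiv.Perm (Fin 552)) (hx : x ∈ Sg) : r0 * x = x * r0 := by
  obtain ⟨m, hm, rfl⟩ := (mem_Sg_iff x).mp hx
  have := KW_eq_of_eqw (append_lt (SW_l m) (lt_single (by norm_num : 1 < 1191)))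
    (append_lt (lt_single (by norm_num : 1 < 1191)) (SW_l m)) (t_comm m hm)
  have this' : prodW 552 pN pM (swE m ++ [1]) = prodW 552 pN pM ([1] ++ swE m) := this
  rw [prodW_append, prodW_append] at this'
  have e1 : prodW 552 pN pM [1] = r0 := KW_single 1
  rw [e1] at this'
  exact this'.symm

theorem center_Sg (x : Equiv.Perm (Fin 552)) (hx : x ∈ Sg) (hc : ∀ y ∈ Sg, x * y = y * x) :
    x = 1 ∨ x = r0 := by
  obtain ⟨m, hm, rfl⟩ := (mem_Sg_iff x).mp hx
  rcases Z_ok m hm with rfl | rfl | ⟨h1, h2⟩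
  · left; exact sw_zero
  · right; exact sw_one
  · exfalso
    apply h2
    apply fpw_eq (append_lt (SW_l m) (SW_l _)) (append_lt (SW_l _) (SW_l m))
    have := hc _ (sw_mem_Sg _ h1)
    unfold sw at this
    rw [← prodW_append, ← prodW_append] at this
    exact this

theorem card_SgK : Nat.card (Sg.subgroupOf K) = 2 ^ 10 := by
  rw [Nat.card_congr (Subgroup.subgroupOfEquivOfLe Sg_le_K).toEquiv, card_Sg]

/-! ### the element of order 23 -/

theorem xi_lt {i : ℕ} (hi : i < 23) : xi i < 1191 := by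
  unfold xi
  cases h : Nat.beq i 0
  · rw [cond_false]
    cases h1 : Nat.beq i 1
    · rw [cond_false]; omega
    · rw [cond_true]; norm_num
  · rw [cond_true]; norm_num

theorem xi_zero : xi 0 = 0 := rfl

theorem xi_one : xi 1 = 2 := rfl

theorem P_xi : ∀ i < 23, P 552 pN pM (xi i) = x0 ^ i := by
  intro i
  induction i with
  | zero =>
    intro _
    rw [xi_zero, P0, pow_zero]
  | succ i ih =>
    intro hi
    have h1 := KW_eq_of_eqw (lt_pair (by norm_num : 2 < 1191) (xi_lt (by omega : i < 23)))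
      (lt_single (xi_lt hi)) (X_pow i (by omega))
    rw [KW_single] at h1
    rw [← h1]
    show prodW 552 pN pM [2, xi i] = _
    rw [prodW_cons, prodW_cons, prodW_nil, mul_one, ih (by omega), pow_succ']
    rfl

theorem x0_pow_23 : x0 ^ 23 = 1 := by
  have h1 := KW_eq_of_eqw (lt_pair (by norm_num : 2 < 1191) (by norm_num : 1189 < 1191))
    (by simp) X_23
  have h2 : P 552 pN pM 1189 = x0 ^ 22 := P_xi 22 (by norm_num)
  rw [KW_nil] at h1
  rw [← h1]
  show _ = prodW 552 pN pM [2, 1189]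
  rw [prodW_cons, prodW_cons, prodW_nil, mul_one, h2]
  show x0 ^ 23 = x0 * x0 ^ 22
  rw [← pow_succ']

theorem x0_ne_one : x0 ≠ 1 := by
  intro h
  apply X_ne
  apply fpw_eq (lt_single (by norm_num : 2 < 1191)) (by simp)
  rw [KW_single, KW_nil]
  exact h

theorem nn_conj : nn * x0 * nn⁻¹ = x0 ^ 2 := by
  have h := KS_eq_of_eqP (conjw_lt (lt_single (by norm_num : 1190 < 1191))
    (lt_single (by norm_num : 2 < 1191))) (fwd_lt (lt_single (by norm_num : 1169 < 1191))) N_ok
  rw [KS_conjw, KS_fwd, KW_single, KW_single, KW_single] at h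
  have h3 : P 552 pN pM 1169 = x0 ^ 2 := P_xi 2 (by norm_num)
  rw [h3] at h
  exact h

/-! ### the conjugates of the involution -/

theorem rdE_lt (j : ℕ) : ∀ a ∈ (rdE j).1, a < 1191 := by
  unfold rdE
  rw [withVal_eq]
  have h := RD_lt
  rw [List.all_eq_true] at h
  rcases nthR_mem_or RD (Nat.div j 128) [] with h1 | h1
  · have h2 := h _ h1
    rw [List.all_eq_true] at h2
    rcases nthR_mem_or (nthR RD (Nat.div j 128) []) (Nat.mod j 128) RDd with h3 | h3
    · exact lt_of_ltB (h2 _ h3)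
    · rw [h3]
      simp [RDd]
  · rw [h1]
    have : nthR ([] : List (List ℕ × (ℕ × ℕ) × (ℕ × ℕ))) (Nat.mod j 128) RDd = RDd := rfl
    rw [this]
    simp [RDd]

theorem rrW_lt (j : ℕ) : ∀ l ∈ rrW j, l.1 < 1191 :=
  conjw_lt (rdE_lt j) (lt_single (by norm_num : 1 < 1191))

/-- the representatives of the conjugates -/
noncomputable def rr (j : ℕ) : Equiv.Perm (Fin 552) := KS (rrW j)

/-- the conjugates -/
noncomputable def cl (i j : ℕ) : Equiv.Perm (Fin 552) := KS (clsW i j)

theorem rr_mem_K (j : ℕ) : rr j ∈ K := KS_mem_K (rrW_lt j)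

theorem rr_zero : rr 0 = r0 := by
  unfold rr
  rw [rrW_zero]
  exact KS_single 1

theorem clsW_lt {i : ℕ} (hi : i < 23) (j : ℕ) : ∀ l ∈ clsW i j, l.1 < 1191 := by
  intro l hl
  unfold clsW at hl
  rw [List.mem_cons, List.mem_append] at hl
  rcases hl with rfl | h | h
  · exact xi_lt hi
  · exact rrW_lt j l h
  · simp only [List.mem_cons, List.not_mem_nil, or_false] at h
    rw [h]
    exact xi_lt hi

theorem cl_eq {i : ℕ} (hi : i < 23) (j : ℕ) : cl i j = x0 ^ i * rr j * (x0 ^ i)⁻¹ := by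
  unfold cl clsW rr
  show prodS 552 pN pM _ = _
  rw [prodS_cons, prodS_append]
  have h1 : PS 552 pN pM (xi i, true) = x0 ^ i := by
    unfold PS
    rw [if_pos rfl]
    exact P_xi i hi
  have h2 : prodS 552 pN pM [(xi i, false)] = (x0 ^ i)⁻¹ := by
    have := KS_single_inv (xi i)
    rw [P_xi i hi] at this
    exact this
  rw [h1, h2, mul_assoc]

/-- the list of the conjugates -/
def LL : Set (Equiv.Perm (Fin 552)) :=
  {u | ∃ i < 23, ∃ j < 7425, u = x0 ^ i * rr j * (x0 ^ i)⁻¹}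

theorem r0_mem_LL : r0 ∈ LL := by
  refine ⟨0, by norm_num, 0, by norm_num, ?_⟩
  rw [pow_zero, rr_zero]
  group

theorem LL_x0 : ∀ u ∈ LL, x0 * u * x0⁻¹ ∈ LL := by
  rintro u ⟨i, hi, j, hj, rfl⟩
  by_cases h : i + 1 < 23
  · refine ⟨i + 1, h, j, hj, ?_⟩
    rw [pow_succ']
    group
  · have hi22 : i = 22 := by omega
    subst hi22
    refine ⟨0, by norm_num, j, hj, ?_⟩
    have : x0 * (x0 ^ 22 * rr j * (x0 ^ 22)⁻¹) * x0⁻¹ = x0 ^ 23 * rr j * (x0 ^ 23)⁻¹ := by
      rw [pow_succ' x0 22]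
      group
    rw [this, x0_pow_23, pow_zero]

theorem LL_x0' : ∀ u ∈ LL, x0⁻¹ * u * x0 ∈ LL := by
  rintro u ⟨i, hi, j, hj, rfl⟩
  rcases Nat.eq_zero_or_pos i with h | h
  · subst h
    refine ⟨22, by norm_num, j, hj, ?_⟩
    have e : x0 ^ 22 = x0⁻¹ := by
      symm
      apply inv_eq_of_mul_eq_one_right
      rw [← pow_succ', x0_pow_23]
    rw [pow_zero, e, inv_inv]
    group
  · refine ⟨i - 1, by omega, j, hj, ?_⟩
    have e : x0 ^ i = x0 * x0 ^ (i - 1) := by
      rw [← pow_succ']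
      congr 1
      omega
    rw [e]
    group

/-- the entry of the table is valid; when it is not smaller than the index the conjugation is
verified, otherwise the entry at the entry is the index -/
theorem cc_spec {i j : ℕ} (hi : i < 23) (hj : j < 7425) :
    Nat.div (ccE j i) 32 < 7425 ∧ Nat.mod (ccE j i) 32 < 23 ∧
    (bif Nat.blt (ccE j i) (Nat.add (Nat.mul 32 j) i)
      then Nat.beq (ccE (Nat.div (ccE j i) 32) (Nat.mod (ccE j i) 32)) (Nat.add (Nat.mul 32 j) i)
      else eqP pN pM BASE ((1, true) :: (clsW i j ++ [(1, true)]))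
        (clsW (Nat.mod (ccE j i) 32) (Nat.div (ccE j i) 32))) = true := by
  have h := CC_ok j hj
  unfold chkCC at h
  rw [withVal_eq, allLt_iff] at h
  have h2 := h i hi
  rw [withVal_eq, Bool.and_eq_true, Bool.and_eq_true, Nat.blt_eq, Nat.blt_eq] at h2
  exact ⟨h2.1.1, h2.1.2, h2.2⟩

theorem conj_of_eqP {i j i' j' : ℕ} (hi : i < 23) (hi' : i' < 23)
    (he : eqP pN pM BASE ((1, true) :: (clsW i j ++ [(1, true)])) (clsW i' j') = true) :
    r0 * (x0 ^ i * rr j * (x0 ^ i)⁻¹) * r0 = x0 ^ i' * rr j' * (x0 ^ i')⁻¹ := by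
  have hlt : ∀ l ∈ ((1, true) :: (clsW i j ++ [(1, true)]) : List (ℕ × Bool)), l.1 < 1191 := by
    intro l hl
    rw [List.mem_cons, List.mem_append] at hl
    rcases hl with rfl | h | h
    · norm_num
    · exact clsW_lt hi j l h
    · simp only [List.mem_cons, List.not_mem_nil, or_false] at h
      rw [h]
      norm_num
  have h3 := KS_eq_of_eqP hlt (clsW_lt hi' _) he
  have h4 : KS ((1, true) :: (clsW i j ++ [(1, true)])) = r0 * cl i j * r0 := by
    show prodS 552 pN pM _ = _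
    rw [prodS_cons, prodS_append]
    have e1 : PS 552 pN pM (1, true) = r0 := by
      unfold PS
      rw [if_pos rfl]
      rfl
    have e2 : prodS 552 pN pM [(1, true)] = r0 := KS_single 1
    rw [e1, e2, mul_assoc]
    rfl
  rw [h4, cl_eq hi] at h3
  rw [h3]
  exact cl_eq hi' _

theorem LL_r0 : ∀ u ∈ LL, r0 * u * r0⁻¹ ∈ LL := by
  rintro u ⟨i, hi, j, hj, rfl⟩
  obtain ⟨hj', hi', he⟩ := cc_spec hi hj
  rw [r0_inv]
  cases hlt : Nat.blt (ccE j i) (Nat.add (Nat.mul 32 j) i)
  · rw [hlt, cond_false] at he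
    exact ⟨_, hi', _, hj', conj_of_eqP hi hi' he⟩
  · rw [hlt, cond_true] at he
    have e1 := Nat.eq_of_beq_eq_true he
    obtain ⟨-, -, he2⟩ := cc_spec hi' hj'
    rw [e1] at he2
    have hlt' : ccE j i < Nat.add (Nat.mul 32 j) i := by rwa [Nat.blt_eq] at hlt
    have hnlt : Nat.blt (Nat.add (Nat.mul 32 j) i) (ccE j i) = false := by
      cases h : Nat.blt (Nat.add (Nat.mul 32 j) i) (ccE j i)
      · rfl
      · rw [Nat.blt_eq] at h
        exact absurd h (Nat.lt_asymm hlt')
    have hd : Nat.add (Nat.mul 32 (Nat.div (ccE j i) 32)) (Nat.mod (ccE j i) 32) = ccE j i :=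
      Nat.div_add_mod (ccE j i) 32
    rw [hd, hnlt, cond_false] at he2
    have hm : Nat.mod (Nat.add (Nat.mul 32 j) i) 32 = i := by
      show (32 * j + i) % 32 = i
      omega
    have hd2 : Nat.div (Nat.add (Nat.mul 32 j) i) 32 = j := by
      show (32 * j + i) / 32 = j
      omega
    rw [hm, hd2] at he2
    have h5 := conj_of_eqP hi' hi he2
    refine ⟨_, hi', _, hj', ?_⟩
    rw [← h5]
    have : ∀ c : Equiv.Perm (Fin 552), r0 * (r0 * c * r0) * r0 = c := by
      intro c
      calc r0 * (r0 * c * r0) * r0 = (r0 * r0) * c * (r0 * r0) := by group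
        _ = c := by rw [r0_sq, one_mul, mul_one]
    exact this _

theorem K_pair : Subgroup.closure ({x0, r0} : Set (Equiv.Perm (Fin 552))) = K := by
  rw [K_eq]
  unfold grp
  congr 1
  ext g
  simp only [List.mem_cons, List.not_mem_nil, or_false, Set.mem_setOf_eq, Set.mem_insert_iff,
    Set.mem_singleton_iff]
  constructor
  · rintro (rfl | rfl)
    · exact ⟨2, Or.inr rfl, rfl⟩
    · exact ⟨1, Or.inl rfl, rfl⟩
  · rintro ⟨i, rfl | rfl, rfl⟩
    · right; rfl
    · left; rfl

/-- every conjugate of the involution is in the list -/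
theorem conj_list (g : Equiv.Perm (Fin 552)) (hg : g ∈ K) :
    ∃ i < 23, ∃ j < 7425, g * r0 * g⁻¹ = x0 ^ i * rr j * (x0 ^ i)⁻¹ := by
  have h := conj_closed_of_closure LL x0 r0 K K_pair LL_x0 LL_x0' LL_r0
    (by
      intro u hu
      have := LL_r0 u hu
      rwa [r0_inv] at this ⊢) g hg r0 r0_mem_LL
  exact h

end Cfsg.Agent.Lib.Helper9.Co3a
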