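import Cfsg.Agent.Lib.Helper9.Co3j

set_option autoImplicit false
set_option maxRecDepth 100000

/-! The automorphisms of the permutation group of degree 552: relations of the generating pair,
elimination of the candidate images, all automorphisms are inner. -/

namespace Cfsg.Agent.Lib.Helper9.Co3a

open Cfsg.Agent.Lib.Helper8.SS Cfsg.Agent.Lib.Helper8.MatN Cfsg.Agent.Lib.Helper8.FastDec
  Cfsg.Agent.Lib.Helper9.SSB Cfsg.Agent.Lib.Helper9.SSC
  Cfsg.Agent.Lib.Helper9.SSE Cfsg.Agent.Lib.Helper9.SlpS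
  Cfsg.Agent.Lib.Helper9.GrpCount Cfsg.Agent.Lib.Helper9.OutG Cfsg.Agent.Lib.Helper9.OutH
  Cfsg.Agent.Lib.Helper9.J1O

/-- the element of order `23` in the group -/
noncomputable def x0K : ↥K := ⟨x0, x0_mem⟩

/-- the involution in the group -/
noncomputable def r0K : ↥K := ⟨r0, r0_mem⟩

/-- the normalizing element in the group -/
noncomputable def nnK : ↥K := ⟨nn, nn_mem⟩

theorem pair_top : Subgroup.closure ({x0K, r0K} : Set ↥K) = ⊤ := by
  apply closure_subtype_top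
  have : (Subtype.val '' ({x0K, r0K} : Set ↥K)) = ({x0, r0} : Set (Equiv.Perm (Fin 552))) := by
    rw [Set.image_pair]
    rfl
  rw [this]
  exact K_pair

/-! ### relations -/

theorem REL_getD_mem {ρ : ℕ} (hρ : ρ < 6) : REL.getD ρ [] ∈ REL := by
  have h : ρ < REL.length := by rw [REL_len]; exact hρ
  rw [List.getD_eq_getElem _ _ h]
  exact List.getElem_mem h

theorem rel_base {ρ : ℕ} (hρ : ρ < 6) : evalG x0 r0 (REL.getD ρ []) = 1 := by
  have h := REL_ok
  rw [List.all_eq_true] at h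
  have h1 := h _ (REL_getD_mem hρ)
  have h2 := KS_eq_of_eqP (expand_lt (lt_sing (by norm_num : 2 < 1191))
    (lt_sing (by norm_num : 1 < 1191)) _) (by simp) h1
  have h3 : KS (expand [(2, true)] [(1, true)] (REL.getD ρ [])) =
      evalG (KS [(2, true)]) (KS [(1, true)]) (REL.getD ρ []) := prodS_expand _ _ _
  rw [h3, KS_single, KS_single, KS_nil] at h2
  exact h2

/-- a failing relation -/
theorem cand_false {x : ℕ} (hx : x < 1191) (j ρ p : ℕ) (h : candB x j ρ p = true) :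
    evalG (P 552 pN pM x) (rr j) (REL.getD ρ []) ≠ 1 := by
  intro he
  unfold candB at h
  rw [Bool.and_eq_true, Bool.and_eq_true] at h
  obtain ⟨⟨hp, -⟩, hne⟩ := h
  rw [Nat.blt_eq] at hp
  rw [nthR_eq, Bool.not_eq_true', ← Bool.not_eq_true] at hne
  apply hne
  rw [evC_codesOf]
  suffices hs : evS pN pM (expand [(x, true)] (rrW j) (REL.getD ρ [])) p = p by
    rw [hs]
    exact Nat.beq_refl _
  have h3 : KS (expand [(x, true)] (rrW j) (REL.getD ρ [])) =
      evalG (KS [(x, true)]) (KS (rrW j)) (REL.getD ρ []) := prodS_expand _ _ _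
  rw [KS_single] at h3
  have h4 : KS (expand [(x, true)] (rrW j) (REL.getD ρ [])) = 1 := by
    rw [h3]
    exact he
  have h5 := prodS_apply 552 pN pM (w := expand [(x, true)] (rrW j) (REL.getD ρ []))
    (fun l hl => valid_all _ (expand_lt (lt_sing hx) (rrW_lt j) _ l hl)) ⟨p, hp⟩
  have h6 : prodS 552 pN pM (expand [(x, true)] (rrW j) (REL.getD ρ [])) = 1 := h4
  rw [h6] at h5
  exact h5.symm

theorem candB_lt {x j ρ p : ℕ} (h : candB x j ρ p = true) : ρ < 6 := by
  unfold candB at h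
  rw [Bool.and_eq_true, Bool.and_eq_true] at h
  have := h.1.2
  rwa [Nat.blt_eq] at this

theorem cand_elim (k0 : ℕ) (hk : k0 = 1 ∨ k0 = 5) (j : ℕ) (hj : j < 7425)
    (hrel : ∀ ρ < 6, evalG (x0 ^ k0) (rr j) (REL.getD ρ []) = 1) : k0 = 1 ∧ j = 0 := by
  have h := CAND_ok j hj
  unfold candChk at h
  rw [Bool.and_eq_true] at h
  obtain ⟨h1, h2⟩ := h
  have hx1 : P 552 pN pM 2 = x0 ^ 1 := by rw [pow_one]; rfl
  have hx5 : P 552 pN pM 1172 = x0 ^ 5 := P_xi 5 (by norm_num)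
  rcases hk with rfl | rfl
  · refine ⟨rfl, ?_⟩
    cases hm : Nat.beq (rdE j).2.1.1 999
    · exfalso
      rw [hm, cond_false] at h1
      have := cand_false (by norm_num : 2 < 1191) j _ _ h1
      rw [hx1] at this
      exact this (hrel _ (candB_lt h1))
    · rw [hm, cond_true] at h1
      exact Nat.eq_of_beq_eq_true h1
  · exfalso
    have := cand_false (by norm_num : 1172 < 1191) j _ _ h2
    rw [hx5] at this
    exact this (hrel _ (candB_lt h2))

/-! ### all automorphisms are inner -/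

theorem card_K_fac : (Nat.card ↥K).factorization 23 = 1 := by
  rw [card_K]
  exact factorization_of_dvd 23 495766656000 1 (by norm_num) (by norm_num) (by norm_num)
    (by norm_num)

theorem rel_K {ρ : ℕ} (hρ : ρ < 6) : evalG x0K r0K (REL.getD ρ []) = 1 := by
  apply Subtype.ext
  have := map_evalG K.subtype x0K r0K (REL.getD ρ [])
  exact this.trans (rel_base hρ)

/-- the image of the involution under an automorphism is a conjugate -/
theorem aut_r0 (φ : ↥K ≃* ↥K) : ∃ h : ↥K, φ r0K = h * r0K * h⁻¹ := by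
  haveI : Fact (Nat.Prime 2) := ⟨Nat.prime_two⟩
  have hE : IsPGroup 2 (Sg.subgroupOf K) := IsPGroup.of_card card_SgK
  have hidx : ¬ 2 ∣ (Sg.subgroupOf K).index := by
    have h := (Sg.subgroupOf K).card_mul_index
    rw [card_SgK, card_K] at h
    have : (Sg.subgroupOf K).index = 484147125 := by omega
    rw [this]
    decide
  apply central_conj 2 (Sg.subgroupOf K) hE hidx r0K
  · intro h
    exact r0_ne_one (congrArg Subtype.val h)
  · exact Subgroup.mem_subgroupOf.mpr r0_mem_Sg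
  · intro y hy
    apply Subtype.ext
    rw [Subgroup.coe_mul, Subgroup.coe_mul]
    exact r0_comm y.1 (Subgroup.mem_subgroupOf.mp hy)
  · intro x hx hc
    have hx' : x.1 ∈ Sg := Subgroup.mem_subgroupOf.mp hx
    rcases center_Sg x.1 hx' (by
      intro y hy
      have := hc ⟨y, Sg_le_K hy⟩ (Subgroup.mem_subgroupOf.mpr hy)
      have h2 := congrArg Subtype.val this
      rwa [Subgroup.coe_mul, Subgroup.coe_mul] at h2) with h | h
    · left; exact Subtype.ext h
    · right; exact Subtype.ext h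

/-- every automorphism is inner -/
theorem aut_inner (φ : ↥K ≃* ↥K) : ∃ k : ↥K, ∀ g : ↥K, φ g = k * g * k⁻¹ := by
  have hx23 : x0K ^ 23 = 1 := Subtype.ext (by
    rw [Subgroup.coe_pow]
    exact x0_pow_23)
  have hx1 : x0K ≠ 1 := fun h => x0_ne_one (congrArg Subtype.val h)
  have hn : nnK * x0K * nnK⁻¹ = x0K ^ 2 := Subtype.ext (by
    rw [Subgroup.coe_mul, Subgroup.coe_mul, Subgroup.coe_inv, Subgroup.coe_pow]
    exact nn_conj)
  obtain ⟨g, hg⟩ := exists_conj_of_23 card_K_fac x0K nnK hx23 hx1 hn φ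
  obtain ⟨k0, hk0, hgk⟩ : ∃ k0, (k0 = 1 ∨ k0 = 5) ∧ φ x0K = g * x0K ^ k0 * g⁻¹ := by
    rcases hg with h | h
    · exact ⟨1, Or.inl rfl, by rw [pow_one]; exact h⟩
    · exact ⟨5, Or.inr rfl, h⟩
  -- the image of the involution
  obtain ⟨h, hh⟩ := aut_r0 φ
  obtain ⟨i, hi, j, hj, hzij⟩ := conj_list (g⁻¹ * h).1 (g⁻¹ * h).2
  obtain ⟨k, hk⟩ : ∃ k : ↥K, k = g * x0K ^ i := ⟨_, rfl⟩
  obtain ⟨ψ, hψ⟩ : ∃ ψ : ↥K →* ↥K, ∀ y, ψ y = k⁻¹ * φ y * k :=
    ⟨(MulAut.conj k⁻¹).toMonoidHom.comp φ.toMonoidHom, fun y => by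
      show MulAut.conj k⁻¹ (φ y) = _
      rw [MulAut.conj_apply, inv_inv]⟩
  have hψx : ψ x0K = x0K ^ k0 := by
    rw [hψ, hgk, hk]
    group
  have hψr : (ψ r0K).1 = rr j := by
    have h1 : ψ r0K = (x0K ^ i)⁻¹ * ((g⁻¹ * h) * r0K * (g⁻¹ * h)⁻¹) * x0K ^ i := by
      rw [hψ, hh, hk]
      group
    rw [h1, Subgroup.coe_mul, Subgroup.coe_mul, Subgroup.coe_inv, Subgroup.coe_pow,
      Subgroup.coe_mul, Subgroup.coe_mul, Subgroup.coe_inv]
    show (x0 ^ i)⁻¹ * ((g⁻¹ * h).1 * r0 * ((g⁻¹ * h).1)⁻¹) * x0 ^ i = rr j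
    rw [hzij]
    group
  have hrel : ∀ ρ < 6, evalG (x0 ^ k0) (rr j) (REL.getD ρ []) = 1 := by
    intro ρ hρ
    have h2 := map_evalG ψ x0K r0K (REL.getD ρ [])
    rw [rel_K hρ, map_one] at h2
    have h3 := map_evalG K.subtype (ψ x0K) (ψ r0K) (REL.getD ρ [])
    rw [← h2, map_one] at h3
    have e1 : K.subtype (ψ x0K) = x0 ^ k0 := by
      rw [hψx]
      show ((x0K ^ k0 : ↥K) : Equiv.Perm (Fin 552)) = _
      rw [Subgroup.coe_pow]
      rfl
    have e2 : K.subtype (ψ r0K) = rr j := hψr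
    rw [e1, e2] at h3
    exact h3.symm
  obtain ⟨rfl, rfl⟩ := cand_elim k0 hk0 j hj hrel
  rw [pow_one] at hψx
  refine ⟨k, ?_⟩
  have heq : ψ = MonoidHom.id ↥K := by
    apply hom_eq_of_closure _ pair_top
    rintro t (rfl | rfl)
    · rw [hψx]; rfl
    · apply Subtype.ext
      rw [hψr, rr_zero]
      rfl
  intro y
  have h1 : ψ y = y := by rw [heq]; rfl
  rw [hψ] at h1
  calc φ y = k * (k⁻¹ * φ y * k) * k⁻¹ := by group
    _ = k * y * k⁻¹ := by rw [h1]

theorem card_out_K : Nat.card (Cfsg.Out ↥K) = 1 :=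
  card_out_one aut_inner

end Cfsg.Agent.Lib.Helper9.Co3a
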