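import Cfsg.Agent.Lib.Helper9.Co3simple1

set_option autoImplicit false

/-! The stabiliser of the standard vector of sum of squares 48 is simple of order
495766656000. -/

namespace Cfsg.Agent.Lib.Helper9.Co3simple2

open Cfsg Finset Cfsg.Agent.Lib.Helper4.Leech
  Cfsg.Agent.Lib.Helper9.LeechE3
  Cfsg.Agent.Lib.Helper9.LeechE4 Cfsg.Agent.Lib.Helper9.LeechE5 Cfsg.Agent.Lib.Helper9.LeechE8
  Cfsg.Agent.Lib.Helper9.LeechF1
  Cfsg.Agent.Lib.Helper9.LeechX4 Cfsg.Agent.Lib.Helper9.LeechX5 Cfsg.Agent.Lib.Helper9.LeechX7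
  Cfsg.Agent.Lib.Helper9.LeechX8
  Cfsg.Agent.Lib.Helper9.LeechX9 Cfsg.Agent.Lib.Helper9.LeechX10 Cfsg.Agent.Lib.Helper9.LeechX11
  Cfsg.Agent.Lib.Helper9.LeechP1 Cfsg.Agent.Lib.Helper9.LeechP2
  Cfsg.Agent.Lib.Helper9.LeechP6 Cfsg.Agent.Lib.Helper9.LeechQ2
  Cfsg.Agent.Lib.Helper9.LeechC7 Cfsg.Agent.Lib.Helper9.McL275a Cfsg.Agent.Lib.Helper9.McL275b
  Cfsg.Agent.Lib.Helper9.McL275c Cfsg.Agent.Lib.Helper9.PrimSimple2
  Cfsg.Agent.Lib.Helper9.PrimSimple3 Cfsg.Agent.Lib.Helper9.Co3simple1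
open Cfsg.Agent.Lib.Helper9.LeechC2 (fwd bwd par cl mem_lev')

/-! ### the point stabiliser -/

theorem G1_le_G3 : Cfsg.Agent.Lib.Helper9.McLsimple2.G1 ≤ G3 := by
  intro g hg
  have h := (Cfsg.Agent.Lib.Helper9.McLsimple2.mem_G1 g).mp hg
  rw [mem_G3, McL275b.rG_eq, g.2.1, h.1, h.2]

theorem range_incl :
    (Subgroup.inclusion G1_le_G3).range = MulAction.stabilizer ↥G3 x3 := by
  ext g
  rw [MonoidHom.mem_range, MulAction.mem_stabilizer_iff]
  constructor
  · rintro ⟨t, rfl⟩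
    apply Subtype.ext
    show t.1.1 rA = rA
    exact ((Cfsg.Agent.Lib.Helper9.McLsimple2.mem_G1 t.1).mp t.2).1
  · intro hg
    have h3 : g.1.1 rA = rA := congrArg Subtype.val hg
    have hG := (mem_G3 g.1).mp g.2
    refine ⟨⟨g.1, (Cfsg.Agent.Lib.Helper9.McLsimple2.mem_G1 g.1).mpr ⟨h3, ?_⟩⟩, ?_⟩
    · rw [rBb_eq, co0_sub g.1.1 g.1.2, hG, h3]
    · apply Subtype.ext; rfl

/-- the point stabiliser is the stabiliser of the standard pair -/
noncomputable def stabEquiv :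
    ↥Cfsg.Agent.Lib.Helper9.McLsimple2.G1 ≃* ↥(MulAction.stabilizer ↥G3 x3) :=
  (MonoidHom.ofInjective (Subgroup.inclusion_injective G1_le_G3)).trans
    (MulEquiv.subgroupCongr range_incl)

theorem stab_simple : IsSimpleGroup ↥(MulAction.stabilizer ↥G3 x3) := by
  have : IsSimpleGroup ↥Cfsg.Agent.Lib.Helper9.McLsimple2.G1 :=
    Cfsg.Agent.Lib.Helper9.McLsimple3.simple_G1
  exact stabEquiv.symm.isSimpleGroup

theorem stab_card : Nat.card ↥(MulAction.stabilizer ↥G3 x3) = 898128000 := by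
  rw [← Nat.card_congr stabEquiv.toEquiv]
  exact Cfsg.Agent.Lib.Helper9.McLsimple3.card_G1

theorem card_G3 : Nat.card ↥G3 = 495766656000 := by
  have h1 := Nat.card_congr (MulAction.orbitProdStabilizerEquivGroup ↥G3 x3)
  rw [Nat.card_prod, stab_card] at h1
  have h2 : MulAction.orbit ↥G3 x3 = Set.univ := by
    ext y
    simp only [Set.mem_univ, iff_true]
    obtain ⟨g, hg⟩ := htrans x3 y
    exact ⟨g, hg⟩
  rw [h2, Nat.card_congr (Equiv.Set.univ _), hX] at h1
  omega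

instance : Finite ↥G3 := by
  apply Nat.finite_of_card_ne_zero
  rw [card_G3]
  norm_num

/-! ### arithmetic -/

/-- the bad shapes -/
def Bad (S : Finset (Fin 3)) : Prop := S = {0} ∨ S = {1} ∨ S = {2}

theorem hdiv : ∀ S : Finset (Fin 3), (1 + ∑ i ∈ S, Co3simple1.cnt i) ∣ 495766656000 →
    S = ∅ ∨ S = Finset.univ ∨ Bad S := by
  unfold Bad
  decide

theorem no_small : ∀ S : Finset (Fin 3), 1 + ∑ i ∈ S, Co3simple1.cnt i ≠ 23 ∧ 1 + ∑ i ∈ S, Co3simple1.cnt i ≠ 24 := by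
  decide

/-! ### the classes of 275 are not blocks -/

theorem orb_eq_of_mem (K : Subgroup ↥G3) (a b : ↥co3Sub) (h : a ∈ orb K b) :
    orb K a = orb K b := by
  obtain ⟨k, hk, rfl⟩ := h
  ext y
  constructor
  · rintro ⟨k', hk', rfl⟩
    exact ⟨k' * k, K.mul_mem hk' hk, mul_smul _ _ _⟩
  · rintro ⟨k', hk', rfl⟩
    refine ⟨k' * k⁻¹, K.mul_mem hk' (K.inv_mem hk), ?_⟩
    rw [mul_smul, inv_smul_smul]

theorem dot_smul (g : ↥G3) (a b : ↥co3Sub) :
    dotInt (g • a).1.1 (g • b).1.1 = dotInt a.1.1 b.1.1 :=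
  dot_pres g.1.1 g.1.2 a.1 b.1

theorem block_contra (K : Subgroup ↥G3) [K.Normal] (i : Fin 3)
    (hO : orb K x3 = insert x3 (cls i)) (a b : ↥co3Sub) (ha : a ∈ cls i) (hb : b ∈ cls i)
    (h1 : dotInt a.1.1 b.1.1 ≠ 32) (h2 : dotInt a.1.1 b.1.1 ≠ cval i) : False := by
  have haO : a ∈ orb K x3 := by rw [hO]; exact Or.inr ha
  have hbO : b ∈ orb K x3 := by rw [hO]; exact Or.inr hb
  obtain ⟨g, hg⟩ := htrans x3 a
  have e1 : orb K a = orb K x3 := orb_eq_of_mem K a x3 haO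
  rw [← hg, orb_smul K g x3, hO] at e1
  rw [hO, ← e1] at hbO
  obtain ⟨c, hc, rfl⟩ := hbO
  have e2 : dotInt a.1.1 (g • c).1.1 = dotInt x3.1.1 c.1.1 := by
    rw [← hg]; exact dot_smul g x3 c
  rw [e2] at h1 h2
  rcases hc with hc | hc
  · rw [hc] at h1
    apply h1
    show dotInt rA.1 rA.1 = 32
    rw [dot_self, rA_norm]
  · exact h2 hc

def Lz1 : List ℤ := [0, 0, 4, 0, 0, 0, 0, 0, 0, 0, 0, 0, 0, 0, 0, 0, 0, 0, 0, 0, 0, 0, 0, 4]

theorem Lz1_mem : vecL Lz1 ∈ leechLattice :=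
  mem_of_data _ 0 0 (Or.inl rfl) (by decide +kernel) (by decide +kernel) (by decide +kernel)

/-- a second vector of the class of 22 -/
def z1 : leechLattice := ⟨vecL Lz1, Lz1_mem⟩

theorem z1_S : S275 z1 := ⟨by decide +kernel, by decide +kernel, by decide +kernel⟩

theorem y1_y3 : dotInt y1.1 y3.1 = 8 := by decide +kernel
theorem y1_z1 : dotInt y1.1 z1.1 = 16 := by decide +kernel

/-- the elements of the class of inner product 16 -/
def mk1 (y : leechLattice) (hy : S275 y) : ↥co3Sub := ⟨y, hy.1, hy.2.1⟩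

theorem mk1_mem (y : leechLattice) (hy : S275 y) : mk1 y hy ∈ cls 1 := hy.2.2

/-- the elements of the class of inner product 8 -/
def mk2 (y : leechLattice) (hy : S275 y) : ↥co3Sub :=
  ⟨rG - y, compl_mem y ⟨hy.1, hy.2.1⟩⟩

theorem mk2_mem (y : leechLattice) (hy : S275 y) : mk2 y hy ∈ cls 2 := by
  show dotInt rA.1 (rG.1 - y.1) = 8
  rw [dot_sub_right, dot_comm, rG_rA, hy.2.2]; norm_num

theorem mk2_dot (y z : leechLattice) (hy : S275 y) (hz : S275 z) :
    dotInt (mk2 y hy).1.1 (mk2 z hz).1.1 = dotInt y.1 z.1 := by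
  show dotInt (rG.1 - y.1) (rG.1 - z.1) = dotInt y.1 z.1
  rw [dot_sub_left, dot_sub_right, dot_sub_right, dot_self, rG_norm, hz.2.1, dot_comm y.1 rG.1,
    hy.2.1]
  ring

/-! ### no automorphism exchanges each of the 552 vectors with its complement -/

/-- `(4, 4)` at `none` and `j` -/
def A4 (j : GolayPt) : GolayPt → ℤ := Pi.single none 4 + Pi.single j 4

theorem dot_A4 (j : GolayPt) (w : GolayPt → ℤ) : dotInt (A4 j) w = 4 * w none + 4 * w j := by
  unfold dotInt A4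
  simp only [Pi.add_apply, add_mul, Finset.sum_add_distrib, Pi.single_apply, ite_mul, zero_mul,
    Finset.sum_ite_eq', Finset.mem_univ, if_true]

theorem A4_val (j : GolayPt) (hj : j ≠ none) (k : GolayPt) :
    A4 j k = if k = none ∨ k = j then 4 else 0 := by
  unfold A4
  simp only [Pi.add_apply, Pi.single_apply]
  by_cases h1 : k = none
  · subst h1
    simp [Ne.symm hj]
  · by_cases h2 : k = j
    · subst h2; simp [h1]
    · simp [h1, h2]

theorem A4_mem (j : GolayPt) (hj : j ≠ none) : A4 j ∈ leechLattice := by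
  rw [mem_leechLattice_iff]
  refine (bwd (μ := 0) (c := ∅) (Or.inl rfl) ?_ (fun i => ?_) ?_).1
  · rw [ind_empty]; exact golayCode.zero_mem
  · simp only [notMem_empty, if_false]
    rw [A4_val j hj]
    split_ifs <;> norm_num
  · have : ∑ i, A4 j i = 8 := by
      unfold A4
      simp only [Pi.add_apply, Finset.sum_add_distrib, Finset.sum_pi_single', Finset.mem_univ,
        if_true]
      norm_num
    rw [this]; norm_num

theorem A4_norm (j : GolayPt) (hj : j ≠ none) : sqNorm (A4 j) = 32 := by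
  rw [← dot_self, dot_A4, A4_val j hj, A4_val j hj]
  simp

theorem A4_rG (j : GolayPt) (hj : j ≠ none) : dotInt rG.1 (A4 j) = 24 := by
  rw [dot_comm, dot_A4, rG_none, rG_gen j hj]
  norm_num

def Ly0 : List ℤ := [4, 4, 0, 0, 0, 0, 0, 0, 0, 0, 0, 0, 0, 0, 0, 0, 0, 0, 0, 0, 0, 0, 0, 0]

theorem Ly0_mem : vecL Ly0 ∈ leechLattice :=
  mem_of_data _ 0 0 (Or.inl rfl) (by decide +kernel) (by decide +kernel) (by decide +kernel)

/-- a vector with inner product 8 with the standard vector -/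
def y0 : leechLattice := ⟨vecL Ly0, Ly0_mem⟩

theorem rG_y0 : dotInt rG.1 y0.1 = 8 := by decide +kernel

theorem rB_sum : ∑ k, rB.1 k = 16 := by decide +kernel
theorem rB_none : rB.1 none = 2 := by decide +kernel
theorem rB_norm : sqNorm rB.1 = 32 := by decide +kernel
theorem rG_rB : dotInt rG.1 rB.1 = 24 := by decide +kernel

theorem no_swap (z : Equiv.Perm leechLattice) (hz : z ∈ Co0) (hG : z rG = rG)
    (hsw : ∀ y : leechLattice, sqNorm y.1 = 32 → dotInt rG.1 y.1 = 24 → z y = rG - y) :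
    False := by
  obtain ⟨w, hw⟩ : ∃ w : leechLattice, w = z y0 + y0 := ⟨_, rfl⟩
  -- the inner products of `w` with the 552 vectors
  have key : ∀ y : leechLattice, sqNorm y.1 = 32 → dotInt rG.1 y.1 = 24 →
      dotInt w.1 y.1 = 8 := by
    intro y h1 h2
    obtain ⟨c1, c2⟩ := compl_mem y ⟨h1, h2⟩
    have e1 : z (rG - y) = y := by
      rw [hsw _ c1 c2]; abel
    have e2 : dotInt (z y0).1 y.1 = dotInt y0.1 (rG - y).1 := by
      rw [← dot_pres z hz y0 (rG - y), e1]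
    rw [hw]
    show dotInt ((z y0).1 + y0.1) y.1 = 8
    rw [dot_add_left, e2]
    show dotInt y0.1 (rG.1 - y.1) + dotInt y0.1 y.1 = 8
    rw [dot_sub_right, dot_comm y0.1 rG.1, rG_y0]
    ring
  have hA : ∀ j : GolayPt, j ≠ none → w.1 j = 2 - w.1 none := by
    intro j hj
    have := key ⟨A4 j, A4_mem j hj⟩ (A4_norm j hj) (A4_rG j hj)
    rw [dot_comm] at this
    have h2 : dotInt (A4 j) w.1 = 8 := this
    rw [dot_A4] at h2
    omega
  have hB := key rB rB_norm rG_rB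
  rw [dot_comm] at hB
  have hB' : dotInt rB.1 w.1 = (2 - w.1 none) * ∑ k, rB.1 k + rB.1 none * (2 * w.1 none - 2) := by
    unfold dotInt
    rw [Finset.mul_sum]
    have hsplit : ∀ k, rB.1 k * w.1 k = (2 - w.1 none) * rB.1 k +
        (if k = none then rB.1 none * (2 * w.1 none - 2) else 0) := by
      intro k
      by_cases hk : k = none
      · subst hk
        rw [if_pos rfl]; ring
      · rw [if_neg hk, hA k hk]; ring
    simp only [hsplit, Finset.sum_add_distrib, Finset.sum_ite_eq', Finset.mem_univ, if_true]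
  rw [hB', rB_sum, rB_none] at hB
  omega

end Cfsg.Agent.Lib.Helper9.Co3simple2
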