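import Cfsg.Agent.Lib.Helper9.CentralFactor

set_option autoImplicit false

namespace Cfsg.Agent.Lib.Helper9

open Cfsg Cfsg.FusionSystem

variable {G : Type*} [Group G]

/-- S5147, general prime and subnormal subgroup -/
theorem groupFusion_center_quotient_constrained_of_subnormal [Finite G] (p : ℕ) [Fact p.Prime]
    (S : Sylow p G) (hF : (groupFusionSystem (S : Subgroup G)).IsConstrained p)
    (L : Subgroup G) (hL : L.IsSubnormal) :
    (groupFusionSystem (((S : Subgroup G).subgroupOf L).map
      (QuotientGroup.mk' (Subgroup.center L)))).IsConstrained p := by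
  obtain ⟨-, R, hR⟩ := fusionSystemOfSubgroup_constrained_of_subnormal p S hF L hL
  have hcon := groupFusion_subgroupOf_constrained_of_subnormal p S hF L hL
  rw [Subgroup.inf_subgroupOf_right] at hR
  rw [← hR] at hcon ⊢
  have hfac := groupFusion_isFactorSystem p R (Subgroup.center L)
  refine constrained_central_factor p R.isPGroup' _ hcon
    (inf_normal_stronglyClosed (R : Subgroup L) (Subgroup.center L)) ?_ _ _ hfac
  intro z hz s _
  exact (Subgroup.mem_center_iff.mp hz.2 s)

end Cfsg.Agent.Lib.Helper9
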