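import Cfsg.Agent.Lib.Helper9.Solvable5

set_option autoImplicit false

namespace Cfsg.Agent.Lib.Helper9

open Cfsg Cfsg.FusionSystem
open scoped commutatorElement

variable {Ω : Type*} [Group Ω] {S : Subgroup Ω}

/-- in a constrained system the core contains its centralizer -/
theorem centralizerIn_core_le_of_constrained (p : ℕ) (F : FusionSystem S)
    (h : F.IsConstrained p) : centralizerIn S F.core ≤ F.core := by
  obtain ⟨-, Q, hQ, hQc⟩ := h
  have h1 : Q ≤ F.core := le_sSup hQ
  have h2 := hQc.2 Q (isConj_refl F hQ.1)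
  intro x hx
  apply h1
  apply h2
  refine ⟨hx.1, ?_⟩
  show x ∈ Subgroup.centralizer (Q : Set Ω)
  rw [Subgroup.mem_centralizer_iff]
  intro q hq
  have h3 : x ∈ Subgroup.centralizer (F.core : Set Ω) := hx.2
  rw [Subgroup.mem_centralizer_iff] at h3
  exact h3 q (h1 hq)

/-- the intersection of a normal subgroup of `F` with a strongly closed subgroup `T` has a central
series of strongly closed subgroups -/
theorem normal_inf_stronglyClosed_aux [Finite S] (p : ℕ) [Fact p.Prime] (hS : IsPGroup p S)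
    (F : FusionSystem S) {Q T : Subgroup Ω} (hQ : F.IsNormal Q) (hT : F.StronglyClosed T) :
    ∃ (m : ℕ) (c : ℕ → Subgroup Ω), c 0 = ⊥ ∧ c m = Q ⊓ T ∧ (∀ j, F.StronglyClosed (c j)) ∧
      (∀ j, c j ≤ T) ∧ (∀ j < m, ⁅Q ⊓ T, c (j + 1)⁆ ≤ c j) ∧ ∀ j, m < j → c j = S ⊓ T := by
  have hfinQ : Finite Q := finite_of_le hQ.1
  have hnil : Group.IsNilpotent Q := (isPGroup_of_le hS hQ.1).isNilpotent
  obtain ⟨m, hm⟩ := hnil.nilpotent'
  have hZm : (Subgroup.upperCentralSeries Q m).map Q.subtype = Q := by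
    rw [hm, ← MonoidHom.range_eq_map, Subgroup.range_subtype]
  refine ⟨m, fun j => (if j ≤ m then (Subgroup.upperCentralSeries Q j).map Q.subtype else S) ⊓ T,
    ?_, ?_, ?_, ?_, ?_, ?_⟩
  · show (if 0 ≤ m then (Subgroup.upperCentralSeries Q 0).map Q.subtype else S) ⊓ T = ⊥
    rw [if_pos (Nat.zero_le m), Subgroup.upperCentralSeries_zero, Subgroup.map_bot, bot_inf_eq]
  · show (if m ≤ m then (Subgroup.upperCentralSeries Q m).map Q.subtype else S) ⊓ T = Q ⊓ T
    rw [if_pos le_rfl, hZm]
  · intro j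
    show F.StronglyClosed ((if j ≤ m then (Subgroup.upperCentralSeries Q j).map Q.subtype else S)
      ⊓ T)
    apply stronglyClosed_inf F _ hT
    split_ifs
    · exact stronglyClosed_of_normal F (upperCentralSeries_map_normal F hQ j)
    · exact stronglyClosed_top F
  · intro j
    exact inf_le_right
  · intro j hj
    show ⁅Q ⊓ T, (if j + 1 ≤ m then (Subgroup.upperCentralSeries Q (j + 1)).map Q.subtype else S)
      ⊓ T⁆ ≤ (if j ≤ m then (Subgroup.upperCentralSeries Q j).map Q.subtype else S) ⊓ T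
    rw [if_pos (by omega), if_pos (by omega)]
    apply le_inf
    · exact (Subgroup.commutator_mono inf_le_left inf_le_left).trans
        (commutator_upperCentralSeries_map_le Q j)
    · rw [Subgroup.commutator_le]
      intro a ha b hb
      rw [commutatorElement_def]
      exact T.mul_mem (T.mul_mem (T.mul_mem ha.2 hb.2) (T.inv_mem ha.2)) (T.inv_mem hb.2)
  · intro j hj
    show (if j ≤ m then (Subgroup.upperCentralSeries Q j).map Q.subtype else S) ⊓ T = S ⊓ T
    rw [if_neg (by omega)]

/-- `Q ∩ T` is normal in `F` for `Q` normal and `T` strongly closed -/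
theorem normal_inf_stronglyClosed [Finite S] (p : ℕ) [Fact p.Prime] (hS : IsPGroup p S)
    (F : FusionSystem S) (hF : F.IsSaturated p) {Q T : Subgroup Ω} (hQ : F.IsNormal Q)
    (hT : F.StronglyClosed T) : F.IsNormal (Q ⊓ T) := by
  obtain ⟨m, c, hc0, hcm, hcsc, -, hccomm, hctop⟩ := normal_inf_stronglyClosed_aux p hS F hQ hT
  apply normal_of_series p hS F hF (Q ⊓ T) (fun j => if j ≤ m then c j else S) m
  · show (if 0 ≤ m then c 0 else S) = ⊥
    rw [if_pos (Nat.zero_le m), hc0]
  · show (if m ≤ m then c m else S) = Q ⊓ T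
    rw [if_pos le_rfl, hcm]
  · intro j
    show F.StronglyClosed (if j ≤ m then c j else S)
    split_ifs
    · exact hcsc j
    · exact stronglyClosed_top F
  · intro j hj
    show ⁅Q ⊓ T, (if j + 1 ≤ m then c (j + 1) else S)⁆ ≤ (if j ≤ m then c j else S)
    rw [if_pos (by omega), if_pos (by omega)]
    exact hccomm j hj
  · intro j hj
    show (if j ≤ m then c j else S) = S
    rw [if_neg (by omega)]

/-- `Q ∩ T` is normal in a saturated subsystem `E` over the strongly closed `T` -/
theorem normal_inf_in_subsystem [Finite S] (p : ℕ) [Fact p.Prime] (hS : IsPGroup p S)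
    (F : FusionSystem S) {Q T : Subgroup Ω} (hQ : F.IsNormal Q)
    (hT : F.StronglyClosed T) (E : FusionSystem T) (hE : E.IsSaturated p)
    (hEF : E.IsSubsystemOf F) : E.IsNormal (Q ⊓ T) := by
  obtain ⟨m, c, hc0, hcm, hcsc, hcT, hccomm, hctop⟩ := normal_inf_stronglyClosed_aux p hS F hQ hT
  have : Finite T := finite_of_le hT.1
  apply normal_of_series p (isPGroup_of_le hS hT.1) E hE (Q ⊓ T) c m hc0 hcm
  · intro j
    exact stronglyClosed_of_subsystem E F hEF (hcT j) (hcsc j)
  · exact hccomm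
  · intro j hj
    rw [hctop j hj]
    exact inf_eq_right.mpr hT.1

/-- a saturated subsystem of a constrained system over a strongly closed subgroup is constrained -/
theorem constrained_of_sub_stronglyClosed [Finite S] (p : ℕ) [Fact p.Prime] (hS : IsPGroup p S)
    (F : FusionSystem S) (h : F.IsConstrained p) {T : Subgroup Ω}
    (hT : F.StronglyClosed T) (E : FusionSystem T) (hE : E.IsSaturated p)
    (hEF : E.IsSubsystemOf F) : E.IsConstrained p := by
  have hF := h.1
  have hQ : F.IsNormal F.core := Cfsg.Agent.S5145.result F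
  have hQsc := stronglyClosed_of_normal F hQ
  have hCQ := centralizerIn_core_le_of_constrained p F h
  have hR : F.IsNormal (F.core ⊓ T) := normal_inf_stronglyClosed p hS F hF hQ hT
  have hRsc := stronglyClosed_of_normal F hR
  have hXsc : F.StronglyClosed (centralizerIn S (F.core ⊓ T) ⊓ T) :=
    stronglyClosed_inf F (centralizerIn_stronglyClosed_of_normal F hR) hT
  -- `X = C_T(R)` centralizes `R`
  have hXR : ∀ x ∈ centralizerIn S (F.core ⊓ T) ⊓ T, ∀ r ∈ F.core ⊓ T, r * x = x * r := by
    intro x hx r hr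
    have h3 : x ∈ Subgroup.centralizer ((F.core ⊓ T : Subgroup Ω) : Set Ω) := hx.1.2
    rw [Subgroup.mem_centralizer_iff] at h3
    exact h3 r hr
  -- `[X, Q] ≤ R`
  have hXQ : ⁅centralizerIn S (F.core ⊓ T) ⊓ T, F.core⁆ ≤ F.core ⊓ T := by
    rw [Subgroup.commutator_le]
    intro x hx q hq
    refine ⟨?_, ?_⟩
    · rw [commutatorElement_def]
      have h1 : x * q * x⁻¹ ∈ F.core := conj_mem_of_stronglyClosed F hQsc hx.1.1 hq
      exact F.core.mul_mem h1 (F.core.inv_mem hq)
    · rw [commutatorElement_def]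
      have h1 : q * x⁻¹ * q⁻¹ ∈ T :=
        conj_mem_of_stronglyClosed F hT (hQ.1 hq) (T.inv_mem hx.2)
      have h2 : x * q * x⁻¹ * q⁻¹ = x * (q * x⁻¹ * q⁻¹) := by group
      rw [h2]
      exact T.mul_mem hx.2 h1
  have hRX : ⁅F.core ⊓ T, centralizerIn S (F.core ⊓ T) ⊓ T⁆ = ⊥ := by
    rw [Subgroup.commutator_eq_bot_iff_le_centralizer]
    intro r hr
    rw [Subgroup.mem_centralizer_iff]
    intro x hx
    exact (hXR x hx r hr).symm
  -- three subgroups lemma
  have h3s : ⁅⁅centralizerIn S (F.core ⊓ T) ⊓ T, centralizerIn S (F.core ⊓ T) ⊓ T⁆, F.core⁆ = ⊥ := by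
    apply Subgroup.commutator_commutator_eq_bot_of_rotate
    · rw [eq_bot_iff, ← hRX]
      exact Subgroup.commutator_mono hXQ le_rfl
    · rw [eq_bot_iff, ← hRX]
      rw [Subgroup.commutator_comm F.core]
      exact Subgroup.commutator_mono hXQ le_rfl
  have hXX : ⁅centralizerIn S (F.core ⊓ T) ⊓ T, centralizerIn S (F.core ⊓ T) ⊓ T⁆ ≤ F.core ⊓ T := by
    apply le_inf
    · refine le_trans ?_ hCQ
      intro y hy
      refine ⟨?_, ?_⟩
      · exact (Subgroup.commutator_le_self S) (Subgroup.commutator_mono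
          (inf_le_left.trans inf_le_left) (inf_le_left.trans inf_le_left) hy)
      · rw [Subgroup.commutator_eq_bot_iff_le_centralizer] at h3s
        exact h3s hy
    · exact (Subgroup.commutator_mono inf_le_right inf_le_right).trans (Subgroup.commutator_le_self T)
  have hXRn := normal_sup_of_centralizing p hS F hF hR hXsc inf_le_left hXX
  have hXle : centralizerIn S (F.core ⊓ T) ⊓ T ≤ F.core ⊓ T :=
    le_inf (le_sup_left.trans (le_sSup hXRn)) inf_le_right
  have hRE : E.IsNormal (F.core ⊓ T) := normal_inf_in_subsystem p hS F hQ hT E hE hEF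
  have : Finite T := finite_of_le hT.1
  refine ⟨hE, F.core ⊓ T, hRE, inf_le_right, fun R' hR' => ?_⟩
  have hEq := eq_of_isConj_of_stronglyClosed E (stronglyClosed_of_normal E hRE) hR'
  rw [hEq]
  intro x hx
  exact hXle ⟨⟨hT.1 hx.1, hx.2⟩, hx.1⟩

end Cfsg.Agent.Lib.Helper9
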