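import Cfsg.Agent.Lib.Helper9.Constrained1

set_option autoImplicit false

namespace Cfsg.Agent.Lib.Helper9

open Cfsg Cfsg.FusionSystem

variable {Ω : Type*} [Group Ω]

/-- S5342: subnormal subsystems of constrained systems are constrained -/
theorem constrained_of_subnormal {T : Subgroup Ω} (E : FusionSystem T) {S : Subgroup Ω}
    (F : FusionSystem S) (p : ℕ) (h : E.IsSubnormalIn F p) :
    ∀ [Fact p.Prime], Finite S → IsPGroup p S → F.IsConstrained p → E.IsConstrained p := by
  induction h with
  | refl F p =>
    intro _ _ _ h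
    exact h
  | step hED hDF ih =>
    intro _ hfin hS hF
    have hU := hDF.1.2.2.2.1
    have hD := constrained_of_sub_stronglyClosed _ hS _ hF hU _ hDF.1.1 hDF.1.2.2.1
    exact ih (finite_of_le hU.1) (isPGroup_of_le hS hU.1) hD

end Cfsg.Agent.Lib.Helper9
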