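import Mathlib
import Cfsg.Prelude
import Cfsg.Agent.Lib.Lead.Tw
import Cfsg.Agent.Lib.Helper3.TT19
import Cfsg.Agent.Lib.Helper3.TT18

set_option maxHeartbeats 1600000
set_option autoImplicit false
set_option linter.unusedVariables false
set_option linter.unusedSimpArgs false
set_option linter.unusedSectionVars false
set_option linter.style.longLine false

/-! S1615 assembly: the rank 3 context from Fischer's hypotheses. -/

namespace Cfsg.Agent.Lib.Helper9.Ctx5

open Cfsg Cfsg.Agent.Lib.Lead.Tw Cfsg.Agent.Lib.Helper3.TT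

variable {G : Type*} [Group G] {D : Set G}

theorem commute_of_conj_eq {g d : G} (e : g * d * g⁻¹ = d) : Commute g d := by
  show g * d = d * g
  calc g * d = g * d * g⁻¹ * g := by group
    _ = d * g := by rw [e]

theorem ctx_of_fischer [Finite G]
    (hsol : ∀ N : Subgroup G, N.Normal → Group.IsSolvable ↥N → N = ⊥)
    (hperf : ⁅commutator G, commutator G⁆ = commutator G)
    (hD : IsThreeTranspositionClass D) : Ctx D := by
  obtain ⟨hG, hprim, hw⟩ := fischer_hyp hsol hperf hD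
  have hT := TSet.of_class hD
  refine ⟨hD.1, hT.conj, hprim.1, ?_, ?_, ?_⟩
  · intro d hd b hb b' hb'
    obtain ⟨g, hg1, hg2⟩ := pair_trans_D hT hG hprim hw ⟨d, hd⟩ ⟨b, hb.1⟩ ⟨d, hd⟩ ⟨b', hb'.1⟩
      (fun e => hb.2.1 (congrArg Subtype.val e).symm) (fun e => e hb.2.2.eq)
      (fun e => hb'.2.1 (congrArg Subtype.val e).symm) (fun e => e hb'.2.2.eq)
    exact ⟨g, commute_of_conj_eq (congrArg Subtype.val hg1), congrArg Subtype.val hg2⟩
  · intro d hd b hb b' hb' h1 h2
    obtain ⟨g, hg1, hg2⟩ := pair_trans_A hT hG hprim hw ⟨d, hd⟩ ⟨b, hb⟩ ⟨d, hd⟩ ⟨b', hb'⟩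
      (fun e => h1 e) (fun e => h2 e)
    exact ⟨g, commute_of_conj_eq (congrArg Subtype.val hg1), congrArg Subtype.val hg2⟩
  · intro a ha b hb e
    exact (primitive_W_trivial hG hprim hw ha ⟨hb, e⟩).symm

end Cfsg.Agent.Lib.Helper9.Ctx5
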