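import Mathlib
import Cfsg.Agent.Lib.Helper9.D3670Tab

/-!
# S3670, unit G3: the Borel data for the permutation model `RR ≅ SU₃(3) ≅ PSU₃(3)` on 63 points
-/

set_option autoImplicit false
set_option maxRecDepth 100000

namespace Cfsg.Agent.Lib.Helper9.D3670

open Cfsg.Agent.Lib.Helper9.G2U Cfsg.Agent.Lib.Helper9.U33

/-- Permutations of the 63 points. -/
abbrev P63 : Type := Equiv.Perm (Fin 63)

/-- The 27 elements of `U` as permutations. -/
def uP (a : Fin 27) : P63 := ⟨uT a, uT (uI a), uI_left a, uI_right a⟩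

/-- The element `t` of order 8. -/
def tP : P63 := ⟨tpT 1, tIT, tI_left, tI_right⟩

/-- The element `w`. -/
def wP : P63 := ⟨pwT 5, wIT, wI_left, wI_right⟩

theorem uP_apply (a : Fin 27) (i : Fin 63) : uP a i = uT a i := rfl

theorem tP_apply (i : Fin 63) : tP i = tpT 1 i := rfl

theorem tP_inv_apply (i : Fin 63) : tP⁻¹ i = tIT i := rfl

theorem wP_apply (i : Fin 63) : wP i = pwT 5 i := rfl

theorem wP_inv_apply (i : Fin 63) : wP⁻¹ i = wIT i := rfl

theorem uP_mul (a b : Fin 27) : uP a * uP b = uP (uM a b) :=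
  Equiv.ext fun i => (uM_spec a b i).symm

theorem uP_zero : uP 0 = 1 := Equiv.ext u_zero

theorem uP_inv (a : Fin 27) : (uP a)⁻¹ = uP (uI a) := Equiv.ext fun _ => rfl

theorem uP_injective : Function.Injective uP := by
  intro a b h
  by_contra hab
  obtain ⟨i, hi⟩ := u_inj a b hab
  exact hi (by rw [← uP_apply, ← uP_apply, h])

/-- The subgroup `U`. -/
def US : Subgroup P63 where
  carrier := Set.range uP
  mul_mem' := by
    rintro _ _ ⟨a, rfl⟩ ⟨b, rfl⟩
    exact ⟨uM a b, (uP_mul a b).symm⟩
  one_mem' := ⟨0, uP_zero⟩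
  inv_mem' := by
    rintro _ ⟨a, rfl⟩
    exact ⟨uI a, (uP_inv a).symm⟩

theorem mem_US {π : P63} : π ∈ US ↔ ∃ a, uP a = π := Iff.rfl

theorem card_US : Nat.card US = 27 := by
  have h : Nat.card (Set.range uP) = Nat.card (Fin 27) :=
    Nat.card_congr (Equiv.ofInjective uP uP_injective).symm
  rw [Nat.card_eq_fintype_card (α := Fin 27), Fintype.card_fin] at h
  exact h

theorem ofNat_succ (n : ℕ) : Fin.ofNat 8 (n + 1) = Fin.ofNat 8 n + 1 := by
  apply Fin.ext
  simp [Fin.ofNat, Fin.val_add, Nat.add_mod]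

theorem tP_pow_apply (n : ℕ) (i : Fin 63) : (tP ^ n) i = tpT (Fin.ofNat 8 n) i := by
  induction n generalizing i with
  | zero =>
    rw [pow_zero, Equiv.Perm.one_apply]
    exact (tp_zero i).symm
  | succ n ih =>
    rw [pow_succ', Equiv.Perm.mul_apply, ih, tP_apply, ofNat_succ, tp_succ]

theorem tP_pow_eight : tP ^ 8 = 1 := by
  apply Equiv.ext
  intro i
  rw [tP_pow_apply]
  exact tp_zero i

theorem tP_pow_four_ne : ¬ tP ^ 2 ^ 2 = 1 := by
  intro h
  obtain ⟨i, hi⟩ := t4_ne
  apply hi
  have := tP_pow_apply 4 i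
  rw [show (2 : ℕ) ^ 2 = 4 by norm_num] at h
  rw [h] at this
  exact this.symm

theorem orderOf_tP : orderOf tP = 8 := by
  haveI : Fact (Nat.Prime 2) := ⟨Nat.prime_two⟩
  have := orderOf_eq_prime_pow (x := tP) (p := 2) (n := 2) tP_pow_four_ne (by
    rw [show (2 : ℕ) ^ (2 + 1) = 8 by norm_num]; exact tP_pow_eight)
  rw [this]
  norm_num

/-- The Borel data inside `Equiv.Perm (Fin 63)`. -/
def D63 : BData P63 where
  U := US
  t := tP
  w := wP
  k := 5
  cardU := card_US
  ordt := orderOf_tP
  tU := by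
    rintro _ ⟨a, rfl⟩
    refine ⟨cT a, ?_⟩
    apply Equiv.ext
    intro i
    rw [Equiv.Perm.mul_apply, Equiv.Perm.mul_apply, tP_inv_apply, uP_apply, tP_apply, uP_apply]
    exact (c_spec a i).symm
  fpf := by
    rintro _ ⟨a, rfl⟩ h
    by_contra hne
    have ha : a ≠ 0 := by
      rintro rfl
      exact hne uP_zero
    obtain ⟨i, hi⟩ := fpf_spec a ha
    apply hi
    have := congrArg (fun π : P63 => π i) h
    simpa [Equiv.Perm.mul_apply, tP_apply, uP_apply] using this
  wt := by
    apply Equiv.ext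
    intro i
    rw [Equiv.Perm.mul_apply, Equiv.Perm.mul_apply, wP_inv_apply, tP_apply, wP_apply, tP_pow_apply]
    exact wt_spec i
  wt_ne := by
    intro h
    obtain ⟨i, hi⟩ := t5_ne
    apply hi
    have := congrArg (fun π : P63 => π i) h
    simp only [tP_pow_apply, tP_apply] at this
    exact this
  wU := by
    rintro _ ⟨a, rfl⟩ hne _ ⟨b, rfl⟩ n h
    have ha : a ≠ 0 := by
      rintro rfl
      exact hne uP_zero
    obtain ⟨i, hi⟩ := wU_spec a ha b (Fin.ofNat 8 n)
    apply hi
    have := congrArg (fun π : P63 => π i) h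
    simp only [Equiv.Perm.mul_apply, wP_inv_apply, uP_apply, wP_apply, tP_pow_apply] at this
    exact this

/-! ### membership in `RR = tau.range` -/

theorem prod_eval (l : List (Fin 12)) (x : Fin 63) :
    ((l.map (fun r => tau (wSU r))).prod) x = evW l x := by
  induction l with
  | nil => rfl
  | cons r l ih =>
    rw [List.map_cons, List.prod_cons, Equiv.Perm.mul_apply, ih, tau_w]
    rfl

theorem tau_w_mem (r : Fin 12) : tau (wSU r) ∈ RR := ⟨wSU r, rfl⟩

theorem prod_mem_RR (l : List (Fin 12)) : (l.map (fun r => tau (wSU r))).prod ∈ RR := by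
  apply Subgroup.list_prod_mem
  intro x hx
  obtain ⟨r, _, rfl⟩ := List.mem_map.mp hx
  exact tau_w_mem r

theorem uP_mem_RR (a : Fin 27) : uP a ∈ RR := by
  have h : uP a = ((uW a).map (fun r => tau (wSU r))).prod := by
    apply Equiv.ext
    intro i
    rw [prod_eval, uP_apply, uW_spec]
  rw [h]
  exact prod_mem_RR _

theorem US_le_RR : US ≤ RR := by
  rintro _ ⟨a, rfl⟩
  exact uP_mem_RR a

theorem tP_mem_RR : tP ∈ RR := by
  have h : tP = tau (wSU 1) * tau (wSU 7) := by
    apply Equiv.ext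
    intro i
    rw [Equiv.Perm.mul_apply, tau_w, tau_w, tP_apply, t_spec]
  rw [h]
  exact RR.mul_mem (tau_w_mem 1) (tau_w_mem 7)

theorem wP_mem_RR : wP ∈ RR := by
  have h : wP = tau (wSU 5) := by
    apply Equiv.ext
    intro i
    rw [tau_w, wP_apply]
  rw [h]
  exact tau_w_mem 5

/-! ### restriction of Borel data to a subgroup containing it -/

/-- Borel data of a group restrict to any subgroup containing `U`, `t`, `w`. -/
def BData.restrict {P : Type*} [Group P] (D : BData P) (R : Subgroup P) (hU : D.U ≤ R)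
    (ht : D.t ∈ R) (hw : D.w ∈ R) : BData ↥R where
  U := D.U.subgroupOf R
  t := ⟨D.t, ht⟩
  w := ⟨D.w, hw⟩
  k := D.k
  cardU := by
    rw [Nat.card_congr (Subgroup.subgroupOfEquivOfLe hU).toEquiv]
    exact D.cardU
  ordt := by
    rw [← D.ordt]
    exact Subgroup.orderOf_mk D.t ht
  tU := by
    intro u hu
    rw [Subgroup.mem_subgroupOf] at hu ⊢
    simpa using D.tU _ hu
  fpf := by
    intro u hu h
    rw [Subgroup.mem_subgroupOf] at hu
    apply Subtype.ext
    apply D.fpf _ hu
    have := congrArg Subtype.val h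
    simpa using this
  wt := by
    apply Subtype.ext
    simpa using D.wt
  wt_ne := by
    intro h
    apply D.wt_ne
    have := congrArg Subtype.val h
    simpa using this
  wU := by
    intro u hu hne u' hu' i h
    rw [Subgroup.mem_subgroupOf] at hu hu'
    apply D.wU _ hu (fun h1 => hne (Subtype.ext h1)) _ hu' i
    have := congrArg Subtype.val h
    simpa using this

/-- The Borel data of the permutation model. -/
noncomputable def DRR : BData ↥RR := D63.restrict RR US_le_RR tP_mem_RR wP_mem_RR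

/-! ### the model group -/

theorem pw_not_comm : ∃ i : Fin 63, pwT 5 (pwT 6 i) ≠ pwT 6 (pwT 5 i) := by decide +kernel

theorem perfect_RR : commutator ↥RR = ⊤ := by
  haveI : IsSimpleGroup ↥SU3 := simple_SU (F := GF9) card_GF9
  haveI : IsSimpleGroup ↥RR := (MonoidHom.ofInjective tau_injective).symm.isSimpleGroup
  rcases (inferInstance : (commutator ↥RR).Normal).eq_bot_or_eq_top with h | h
  · exfalso
    obtain ⟨i, hi⟩ := pw_not_comm
    apply hi
    have hc : ∀ a b : ↥RR, a * b = b * a := by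
      intro a b
      have h1 : a * b * a⁻¹ * b⁻¹ ∈ commutator ↥RR := by
        rw [commutator_def]
        exact Subgroup.commutator_mem_commutator (Subgroup.mem_top a) (Subgroup.mem_top b)
      rw [h, Subgroup.mem_bot, mul_inv_eq_one, mul_inv_eq_iff_eq_mul] at h1
      exact h1
    have h2 := hc ⟨tau (wSU 5), tau_w_mem 5⟩ ⟨tau (wSU 6), tau_w_mem 6⟩
    have h3 := congrArg (fun π : ↥RR => (π : P63) i) h2
    simp only [Subgroup.coe_mul, Equiv.Perm.mul_apply, tau_w] at h3
    exact h3
  · exact h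

/-- The model is isomorphic to `PSU₃(3)` over any field with 9 elements. -/
noncomputable def equivRR {F : Type*} [Field F] [Fintype F] (hF : Fintype.card F = 9) :
    ↥RR ≃* Cfsg.PSU 3 F 3 :=
  ((MonoidHom.ofInjective tau_injective).symm.trans
    (suEquiv hF9 (by rw [hF]; norm_num)
      (FiniteField.ringEquivOfCardEq (by rw [hF, card_GF9])))).trans (psuEquiv hF)

end Cfsg.Agent.Lib.Helper9.D3670
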