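import Mathlib
import Cfsg.Prelude.Def_SporadicB

set_option autoImplicit false

/-! Abstract lemmas on double covers: a subgroup of a product no larger than its first projection
is the graph of a homomorphism; a surjection with kernel of order two onto a group with trivial
centre, such that some element has a nontrivial square in the kernel, is a non-split double cover;
transport of non-split double covers along isomorphisms. -/

namespace Cfsg.Agent.Lib.Helper9.DblCover

/-- a subgroup of a product no larger than its first projection is the graph of a homomorphism -/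
theorem graph_hom {A B : Type*} [Group A] [Group B] (D : Subgroup (A × B)) [Finite D]
    (h : Nat.card D ≤ Nat.card (D.map (MonoidHom.fst A B))) :
    ∃ ρ : ↥(D.map (MonoidHom.fst A B)) →* B,
      (∀ d : A × B, ∀ hd : d ∈ D, ρ ⟨d.1, Subgroup.mem_map_of_mem (MonoidHom.fst A B) hd⟩ = d.2) ∧
      ρ.range = D.map (MonoidHom.snd A B) := by
  have hb1 : Function.Bijective ((MonoidHom.fst A B).subgroupMap D) :=
    Function.Surjective.bijective_of_nat_card_le
      ((MonoidHom.fst A B).subgroupMap_surjective D) h
  let e1 : D ≃* D.map (MonoidHom.fst A B) := MulEquiv.ofBijective _ hb1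
  let ρ : ↥(D.map (MonoidHom.fst A B)) →* B :=
    ((MonoidHom.snd A B).comp D.subtype).comp e1.symm.toMonoidHom
  have hρ : ∀ d : A × B, ∀ hd : d ∈ D,
      ρ ⟨d.1, Subgroup.mem_map_of_mem (MonoidHom.fst A B) hd⟩ = d.2 := by
    intro d hd
    have he : e1 ⟨d, hd⟩ = ⟨d.1, Subgroup.mem_map_of_mem (MonoidHom.fst A B) hd⟩ := rfl
    have he' : e1.symm ⟨d.1, Subgroup.mem_map_of_mem (MonoidHom.fst A B) hd⟩ = ⟨d, hd⟩ := by
      rw [← he, MulEquiv.symm_apply_apply]
    show (e1.symm ⟨d.1, Subgroup.mem_map_of_mem (MonoidHom.fst A B) hd⟩).1.2 = d.2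
    rw [he']
  refine ⟨ρ, hρ, ?_⟩
  ext b
  constructor
  · rintro ⟨x, rfl⟩
    exact ⟨(e1.symm x).1, (e1.symm x).2, rfl⟩
  · rintro ⟨d, hd, rfl⟩
    exact ⟨⟨d.1, Subgroup.mem_map_of_mem (MonoidHom.fst A B) hd⟩, hρ d hd⟩

/-- a normal subgroup of order two is central -/
theorem le_center_of_card_two {H : Type*} [Group H] (N : Subgroup H) [N.Normal]
    (hN : Nat.card N = 2) : N ≤ Subgroup.center H := by
  intro n hn
  rw [Subgroup.mem_center_iff]
  intro g
  by_cases h1 : n = 1
  · rw [h1, mul_one, one_mul]
  · have hconj : g * n * g⁻¹ ∈ N := ‹N.Normal›.conj_mem n hn g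
    haveI : Finite N := Nat.finite_of_card_ne_zero (by rw [hN]; norm_num)
    obtain ⟨x, y, hxy, huniv⟩ := Nat.card_eq_two_iff.mp hN
    have hmem : ∀ z : N, z = x ∨ z = y := by
      intro z
      have : z ∈ ({x, y} : Set N) := by rw [huniv]; trivial
      simpa using this
    have hne : g * n * g⁻¹ ≠ 1 := by
      intro h
      apply h1
      have : n = g⁻¹ * (g * n * g⁻¹) * g := by group
      rw [this, h]
      group
    have key : ∀ a b : N, a.1 ≠ 1 → b.1 ≠ 1 → a = b := by
      intro a b ha hb
      have h1N : (1 : N) = x ∨ (1 : N) = y := hmem 1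
      rcases hmem a with rfl | rfl <;> rcases hmem b with rfl | rfl
      · rfl
      · rcases h1N with h | h
        · exact absurd (congrArg Subtype.val h.symm) ha
        · exact absurd (congrArg Subtype.val h.symm) hb
      · rcases h1N with h | h
        · exact absurd (congrArg Subtype.val h.symm) hb
        · exact absurd (congrArg Subtype.val h.symm) ha
      · rfl
    have := key ⟨g * n * g⁻¹, hconj⟩ ⟨n, hn⟩ hne h1
    have h2 : g * n * g⁻¹ = n := congrArg Subtype.val this
    calc g * n = g * n * g⁻¹ * g := by group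
      _ = n * g := by rw [h2]

/-- the criterion for a non-split double cover -/
theorem nonsplit_of_hom {H A : Type*} [Group H] [Group A] (ρ : H →* A)
    (hsurj : Function.Surjective ρ) (hcenter : Subgroup.center A = ⊥)
    (hker : Nat.card ρ.ker = 2) (w : H) (hw : ρ (w ^ 2) = 1) (hw1 : w ^ 2 ≠ 1) :
    Cfsg.IsNonsplitDoubleCover H A := by
  have h1 : ρ.ker ≤ Subgroup.center H := le_center_of_card_two ρ.ker hker
  have h2 : Subgroup.center H ≤ ρ.ker := by
    intro z hz
    rw [MonoidHom.mem_ker]
    have : ρ z ∈ Subgroup.center A := by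
      rw [Subgroup.mem_center_iff]
      intro a
      obtain ⟨x, rfl⟩ := hsurj a
      rw [← map_mul, ← map_mul, (Subgroup.mem_center_iff.mp hz) x]
    rw [hcenter] at this
    exact Subgroup.mem_bot.mp this
  have hZ : Subgroup.center H = ρ.ker := le_antisymm h2 h1
  refine ⟨?_, ?_, ?_⟩
  · rw [hZ, hker]
  · exact ⟨(QuotientGroup.quotientMulEquivOfEq hZ).trans
      (QuotientGroup.quotientKerEquivOfSurjective ρ hsurj)⟩
  · intro L hL
    have hidx : L.index = 2 := by
      rw [hL.index_eq_card, hZ, hker]
    have hwL : w ^ 2 ∈ L := Subgroup.sq_mem_of_index_two hidx w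
    have hwZ : w ^ 2 ∈ Subgroup.center H := by
      rw [hZ, MonoidHom.mem_ker]
      exact hw
    have := Subgroup.disjoint_def.mp hL.disjoint hwZ hwL
    exact hw1 this

theorem center_map_equiv {A B : Type*} [Group A] [Group B] (e : A ≃* B) :
    (Subgroup.center A).map e.toMonoidHom = Subgroup.center B := by
  ext b
  constructor
  · rintro ⟨a, ha, rfl⟩
    have ha' : a ∈ Subgroup.center A := ha
    rw [Subgroup.mem_center_iff] at ha' ⊢
    intro y
    obtain ⟨x, rfl⟩ := e.surjective y
    show e x * e a = e a * e x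
    rw [← map_mul, ← map_mul, ha' x]
  · intro hb
    have hsym : e.symm b ∈ Subgroup.center A := by
      rw [Subgroup.mem_center_iff] at hb ⊢
      intro x
      apply e.injective
      rw [map_mul, map_mul, e.apply_symm_apply]
      exact hb (e x)
    exact ⟨e.symm b, hsym, by simp⟩

/-- transport of non-split double covers along isomorphisms -/
theorem nonsplit_of_equiv {A B X : Type*} [Group A] [Group B] [Group X] [Finite A] (e : A ≃* B)
    (h : Cfsg.IsNonsplitDoubleCover A X) : Cfsg.IsNonsplitDoubleCover B X := by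
  obtain ⟨h1, ⟨i⟩, h3⟩ := h
  have hc := center_map_equiv e
  refine ⟨?_, ?_, ?_⟩
  · rw [← hc]
    rw [← h1]
    exact (Nat.card_congr (e.subgroupMap (Subgroup.center A)).toEquiv).symm
  · have q : A ⧸ Subgroup.center A ≃* B ⧸ Subgroup.center B :=
      QuotientGroup.congr (Subgroup.center A) (Subgroup.center B) e hc
    exact ⟨q.symm.trans i⟩
  · intro L hL
    have hfB : Finite B := Finite.of_equiv A e.toEquiv
    apply h3 (L.map e.symm.toMonoidHom)
    rw [Subgroup.isComplement'_iff_card_mul_and_disjoint] at hL ⊢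
    obtain ⟨c1, c2⟩ := hL
    refine ⟨?_, ?_⟩
    · have e1 : Nat.card (L.map e.symm.toMonoidHom) = Nat.card L :=
        (Nat.card_congr (e.symm.subgroupMap L).toEquiv).symm
      have e2 : Nat.card (Subgroup.center A) = Nat.card (Subgroup.center B) := by
        rw [← hc]
        exact Nat.card_congr (e.subgroupMap (Subgroup.center A)).toEquiv
      rw [e1, e2, c1]
      exact (Nat.card_congr e.toEquiv).symm
    · rw [Subgroup.disjoint_def] at c2 ⊢
      intro x hx1 hx2
      obtain ⟨y, hy, rfl⟩ := hx2
      have hy1 : y ∈ Subgroup.center B := by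
        rw [← hc]
        exact ⟨e.symm y, hx1, by simp⟩
      have := c2 hy1 hy
      rw [this]
      simp

/-- the isomorphism of centralisers induced by an isomorphism of groups -/
def centralizerEquiv {G G' : Type*} [Group G] [Group G'] (e : G ≃* G') (t : G) (t' : G')
    (h : e t = t') :
    ↥(Subgroup.centralizer ({t} : Set G)) ≃* ↥(Subgroup.centralizer ({t'} : Set G')) where
  toFun x := ⟨e x.1, by
    rw [Subgroup.mem_centralizer_singleton_iff, ← h, ← map_mul, ← map_mul]
    exact congrArg e (Subgroup.mem_centralizer_singleton_iff.mp x.2)⟩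
  invFun y := ⟨e.symm y.1, by
    rw [Subgroup.mem_centralizer_singleton_iff]
    apply e.injective
    rw [map_mul, map_mul, e.apply_symm_apply, h]
    exact Subgroup.mem_centralizer_singleton_iff.mp y.2⟩
  left_inv x := Subtype.ext (e.symm_apply_apply x.1)
  right_inv y := Subtype.ext (e.apply_symm_apply y.1)
  map_mul' x y := Subtype.ext (map_mul e x.1 y.1)

/-- the centraliser inside a subgroup -/
def centSubEquiv {A : Type*} [Group A] (K : Subgroup A) (t : A) (ht : t ∈ K) :
    ↥(Subgroup.centralizer ({(⟨t, ht⟩ : ↥K)} : Set ↥K)) ≃* ↥(K ⊓ Subgroup.centralizer {t}) where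
  toFun x := ⟨x.1.1, Subgroup.mem_inf.mpr ⟨x.1.2, by
    rw [Subgroup.mem_centralizer_singleton_iff]
    exact congrArg Subtype.val (Subgroup.mem_centralizer_singleton_iff.mp x.2)⟩⟩
  invFun y := ⟨⟨y.1, (Subgroup.mem_inf.mp y.2).1⟩, by
    rw [Subgroup.mem_centralizer_singleton_iff]
    exact Subtype.ext (Subgroup.mem_centralizer_singleton_iff.mp (Subgroup.mem_inf.mp y.2).2)⟩
  left_inv x := rfl
  right_inv y := rfl
  map_mul' x y := rfl

/-- transport of the statement on involutions along an isomorphism -/
theorem transport {G G' X : Type*} [Group G] [Group G'] [Group X] [Finite G'] (e : G ≃* G')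
    (h : (∀ x y : G', orderOf x = 2 → orderOf y = 2 → IsConj x y) ∧
      ∃ t : G', orderOf t = 2 ∧
        Cfsg.IsNonsplitDoubleCover ↥(Subgroup.centralizer ({t} : Set G')) X) :
    (∀ x y : G, orderOf x = 2 → orderOf y = 2 → IsConj x y) ∧
      ∃ t : G, orderOf t = 2 ∧
        Cfsg.IsNonsplitDoubleCover ↥(Subgroup.centralizer ({t} : Set G)) X := by
  obtain ⟨h1, t, ht, hc⟩ := h
  refine ⟨?_, e.symm t, ?_, ?_⟩
  · intro x y hx hy
    have := h1 (e x) (e y) (by rw [MulEquiv.orderOf_eq]; exact hx)
      (by rw [MulEquiv.orderOf_eq]; exact hy)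
    have h2 := e.symm.toMonoidHom.map_isConj this
    simpa using h2
  · rw [MulEquiv.orderOf_eq]
    exact ht
  · have ε : ↥(Subgroup.centralizer ({e.symm t} : Set G)) ≃*
        ↥(Subgroup.centralizer ({t} : Set G')) :=
      centralizerEquiv e (e.symm t) t (e.apply_symm_apply t)
    exact nonsplit_of_equiv ε.symm hc

end Cfsg.Agent.Lib.Helper9.DblCover
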