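import Mathlib
import Cfsg.Agent.Lib.Helper9.DihedralPair

set_option autoImplicit false

namespace Cfsg.Agent.Lib.Helper9

variable {G : Type*} [Group G]

/-- two involutions whose product has odd order are conjugate under an INVOLUTION
(the reflection `r ^ k * t` of the dihedral group `⟨t, u⟩`, `r = t * u`, `orderOf r = 2 k + 1`). -/
theorem exists_invol_conj_of_odd {t u : G} (ht : orderOf t = 2) (hu : orderOf u = 2)
    (hodd : Odd (orderOf (t * u))) : ∃ w : G, orderOf w = 2 ∧ w * t * w⁻¹ = u := by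
  have htt : t * t = 1 := by
    have := pow_orderOf_eq_one t
    rwa [ht, pow_two] at this
  have huu : u * u = 1 := by
    have := pow_orderOf_eq_one u
    rwa [hu, pow_two] at this
  have hti : t⁻¹ = t := inv_eq_of_mul_eq_one_right htt
  obtain ⟨k, hk⟩ := hodd
  have hrn : (t * u) ^ (2 * k + 1) = 1 := by rw [← hk]; exact pow_orderOf_eq_one _
  have hrpow : ∀ j : ℕ, t * (t * u) ^ j * t⁻¹ = ((t * u) ^ j)⁻¹ :=
    fun j => (dih_conj_rot_pow htt huu j).1
  -- `u = r^k t r^-k`
  have hconj : u = (t * u) ^ k * t * ((t * u) ^ k)⁻¹ := by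
    have h3 : u = t * (t * u) := by rw [← mul_assoc, htt, one_mul]
    have h5 : t * ((t * u) ^ k)⁻¹ * t⁻¹ = (t * u) ^ k := by
      have : t * ((t * u) ^ k)⁻¹ * t⁻¹ = (t * (t * u) ^ k * t⁻¹)⁻¹ := by group
      rw [this, hrpow, inv_inv]
    have h7 : (t * u) ^ k * (t * u) ^ k * (t * u) = 1 := by
      rw [← pow_add, ← pow_succ]
      have : k + k + 1 = 2 * k + 1 := by ring
      rw [this]
      exact hrn
    have h8 : (t * u) ^ k * (t * u) ^ k = (t * u)⁻¹ := eq_inv_of_mul_eq_one_left h7
    calc u = t * (t * u) := h3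
      _ = (t * (t * u) * t⁻¹) * t := by group
      _ = (t * u)⁻¹ * t := by rw [(dih_conj_rot htt huu).1]
      _ = (t * u) ^ k * (t * u) ^ k * t := by rw [h8]
      _ = (t * u) ^ k * (t * ((t * u) ^ k)⁻¹ * t⁻¹) * t := by rw [h5]
      _ = (t * u) ^ k * t * ((t * u) ^ k)⁻¹ := by group
  refine ⟨(t * u) ^ k * t, ?_, ?_⟩
  · -- order two
    have hsq : ((t * u) ^ k * t) * ((t * u) ^ k * t) = 1 := by
      calc ((t * u) ^ k * t) * ((t * u) ^ k * t)
          = (t * u) ^ k * (t * (t * u) ^ k * t⁻¹) := by rw [hti]; group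
        _ = 1 := by rw [hrpow, mul_inv_cancel]
    have hne : (t * u) ^ k * t ≠ 1 := by
      intro h
      -- then `t = (r^k)⁻¹` has odd order
      have h1 : t = ((t * u) ^ k)⁻¹ := by
        have := congrArg (fun x => ((t * u) ^ k)⁻¹ * x) h
        simpa using this
      have h2 : t ^ (2 * k + 1) = 1 := by
        rw [h1, inv_pow, ← pow_mul, mul_comm, pow_mul, hrn, one_pow, inv_one]
      have h3 : orderOf t ∣ 2 * k + 1 := orderOf_dvd_of_pow_eq_one h2
      rw [ht] at h3
      omega
    exact orderOf_eq_prime (by rw [pow_two]; exact hsq) hne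
  · have : ((t * u) ^ k * t)⁻¹ = t * ((t * u) ^ k)⁻¹ := by rw [mul_inv_rev, hti]
    rw [this]
    calc (t * u) ^ k * t * t * (t * ((t * u) ^ k)⁻¹)
        = (t * u) ^ k * (t * t) * t * ((t * u) ^ k)⁻¹ := by group
      _ = (t * u) ^ k * t * ((t * u) ^ k)⁻¹ := by rw [htt, mul_one]
      _ = u := hconj.symm

/-- two involutions whose product has even order commute with a common involution. -/
theorem exists_invol_commute_of_even {t u : G} (ht : orderOf t = 2) (hu : orderOf u = 2)
    (heven : Even (orderOf (t * u))) (h0 : orderOf (t * u) ≠ 0) :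
    ∃ z : G, orderOf z = 2 ∧ t * z = z * t ∧ u * z = z * u := by
  have htt : t * t = 1 := by
    have := pow_orderOf_eq_one t
    rwa [ht, pow_two] at this
  have huu : u * u = 1 := by
    have := pow_orderOf_eq_one u
    rwa [hu, pow_two] at this
  obtain ⟨m, hm⟩ := heven
  have hm0 : 0 < m := by omega
  obtain ⟨h1, h2, h3, h4⟩ := dih_central_invol htt huu hm0 hm
  exact ⟨(t * u) ^ m, orderOf_eq_prime (by rw [pow_two]; exact h1) h2, h3, h4⟩

end Cfsg.Agent.Lib.Helper9
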