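import Mathlib
import Cfsg.Agent.Lib.Helper9.E7EvDefs
import Cfsg.Agent.Lib.Helper5.ChevWTbl

set_option autoImplicit false

/-!
# Farm E7EV (S2181), unit C7 : every non-trivial involutive local maximum of `W(E₇)` gives an
element `n_w` conjugate to the product of the `x_r(1)` over one of the nine frames
-/

namespace Cfsg.Agent.Lib.Helper9.E7Ev

open Cfsg Cfsg.Lie Cfsg.Agent.Lib.Helper5.ChevSym Cfsg.Agent.Lib.Helper5.ChevStruct
  Cfsg.Agent.Lib.Helper6.F4Ev Cfsg.Agent.Lib.Helper9.InvFrame

/-- the check for the `k`-th local maximum -/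
def chkC7 (k : ℕ) : Bool :=
  let c := (lmConj7.getD k (0, [])).1
  let u := (lmConj7.getD k (0, [])).2
  Nat.blt c 9 && u.all (fun i => Nat.blt i 7) && (lmE7.getD k []).all (fun i => Nat.blt i 7) &&
    (List.range 7).all fun j =>
      wActC chevE7 (u ++ lmE7.getD k [] ++ u.reverse) (chevE7.simple j) ==
        wActC chevE7 (fwWord (fwE7.getD c [])) (chevE7.simple j)

set_option maxRecDepth 1000000 in
theorem chkC7_a : ∀ k < 10, chkC7 k = true := by decide +kernel

set_option maxRecDepth 1000000 in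
theorem chkC7_b : ∀ k < 10, chkC7 (10 + k) = true := by decide +kernel

set_option maxRecDepth 1000000 in
theorem chkC7_c : ∀ k < 10, chkC7 (20 + k) = true := by decide +kernel

set_option maxRecDepth 1000000 in
theorem chkC7_d : ∀ k < 9, chkC7 (30 + k) = true := by decide +kernel

theorem chkC7_all : ∀ k < 39, chkC7 k = true := by
  intro k hk
  by_cases h1 : k < 10
  · exact chkC7_a k h1
  by_cases h2 : k < 20
  · have := chkC7_b (k - 10) (by omega)
    rwa [show 10 + (k - 10) = k by omega] at this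
  by_cases h3 : k < 30
  · have := chkC7_c (k - 20) (by omega)
    rwa [show 20 + (k - 20) = k by omega] at this
  · have := chkC7_d (k - 30) (by omega)
    rwa [show 30 + (k - 30) = k by omega] at this

/-- the check for the `c`-th frame -/
def chkF7 (c : ℕ) : Bool :=
  fwOK chevE7 (fwE7.getD c []) && frameOK chevE7 (fwRoots chevE7 (fwE7.getD c [])) &&
    (fwRoots chevE7 (fwE7.getD c []) == frE7.getD c [])

set_option maxRecDepth 1000000 in
theorem chkF7_all : ∀ c < 9, chkF7 c = true := by decide +kernel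

variable {F : Type*} [Field F]

/-- **Unit C7.** -/
theorem C_lm_conj_frame7 [CharP F 2] (k : ℕ) (hk : k < 39) :
    ∃ c < 9, ConjG chevE7 (wGL chevE7 memE7v (lmE7.getD k []) : GL chevE7.Idx F)
      (fprod chevE7 memE7v (frE7.getD c [])) := by
  have h := chkC7_all k hk
  unfold chkC7 at h
  simp only [Bool.and_eq_true, List.all_eq_true, List.mem_range, beq_iff_eq, Nat.blt_eq,
    wActC_eq] at h
  obtain ⟨⟨⟨hc, hu⟩, hl⟩, hact⟩ := h
  have hu' : Wd chevE7 (lmConj7.getD k (0, [])).2 := hu
  have hl' : Wd chevE7 (lmE7.getD k []) := hl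
  have hf := chkF7_all _ hc
  unfold chkF7 at hf
  simp only [Bool.and_eq_true, beq_iff_eq] at hf
  obtain ⟨⟨hf1, hf2⟩, hf3⟩ := hf
  refine ⟨_, hc, ?_⟩
  -- `n_u n_{lm} n_u⁻¹ = n_{u lm u⁻¹}` is conjugate to the frame product
  have hact' := wAct_eq_of_simple chevE7 memE7v _ _ ((hu'.append hl').append hu'.reverse)
    (fwWord_wd chevE7 _ hf1) hact
  have h1 := conjG_fw (F := F) chevE7 memE7v _ hf1 hf2 _
    ((hu'.append hl').append hu'.reverse) hact'
  rw [hf3] at h1
  have h2 : ConjG chevE7 (wGL chevE7 memE7v (lmE7.getD k []) : GL chevE7.Idx F)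
      (wGL chevE7 memE7v ((lmConj7.getD k (0, [])).2 ++ lmE7.getD k [] ++
        ((lmConj7.getD k (0, [])).2).reverse)) := by
    refine ⟨wGL chevE7 memE7v (lmConj7.getD k (0, [])).2, wGL_mem_group_of chevE7 memE7v _ hu', ?_⟩
    rw [wGL_reverse_char2 chevE7 memE7v _ hu', ← wGL_append, ← wGL_append]
  exact conjG_trans h2 (conjG_symm h1)

end Cfsg.Agent.Lib.Helper9.E7Ev
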