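import Mathlib
import Cfsg.Agent.Lib.Helper9.E7EvDefs
import Cfsg.Agent.Lib.Helper6.EvLocMax

set_option autoImplicit false

/-!
# Farm E7EV (S2181), unit T7 : the involutive local maxima of `W(E₇)`
-/

namespace Cfsg.Agent.Lib.Helper9.E7Ev

open Cfsg Cfsg.Lie Cfsg.Agent.Lib.Helper5.ChevSym Cfsg.Agent.Lib.Helper5.ChevStruct
  Cfsg.Agent.Lib.Helper6.F4Ev Cfsg.Agent.Lib.Helper6.EvLocMax

/-- a faster form of `chkRow`: the matching local maximum is given by its index `k`, and the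
actions are computed with `wActC` -/
def chkRowI (D : ChevalleyDatum) (w0 : List ℕ) (tbl : List (List ℕ × List ℕ))
    (lm : List (List ℕ)) (I : List ℕ) (k : ℕ) : Bool :=
  let L := lookupL tbl I
  let w' := w0 ++ L.reverse
  L.all (fun i => I.contains i) &&
  I.all (fun i => !decide (D.IsPosRoot (wActC D L.reverse (D.simple i)))) &&
  (!((List.range D.rank).all fun i =>
      let a := wActC D w' (D.simple i)
      ((a == D.simple i) == I.contains i) && (!decide (D.IsPosRoot a) || a == D.simple i) &&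
        (wActC D w' a == D.simple i)) ||
    (Nat.blt k lm.length && ((lm.getD k []).all (fun i => Nat.blt i D.rank) &&
      (List.range D.rank).all fun i =>
        wActC D (lm.getD k []) (D.simple i) == wActC D w' (D.simple i))))

theorem chkRow_of_chkRowI (D : ChevalleyDatum) (w0 : List ℕ) (tbl : List (List ℕ × List ℕ))
    (lm : List (List ℕ)) (I : List ℕ) (k : ℕ) (h : chkRowI D w0 tbl lm I k = true) :
    chkRow D w0 tbl lm I = true := by
  unfold chkRowI at h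
  unfold chkRow
  simp only [wActC_eq] at h
  simp only [Bool.and_eq_true, Bool.or_eq_true] at h ⊢
  obtain ⟨⟨h1, h2⟩, h3⟩ := h
  refine ⟨⟨h1, h2⟩, ?_⟩
  rcases h3 with h3 | ⟨hk, h4⟩
  · exact Or.inl h3
  · right
    rw [Nat.blt_eq] at hk
    rw [List.any_eq_true]
    refine ⟨lm.getD k [], ?_, ?_⟩
    · rw [List.getD_eq_getElem _ _ hk]
      exact List.getElem_mem hk
    · rw [Bool.and_eq_true]
      exact h4

/-- for each subset `I`, the index of the local maximum `w₀ w_I` in `lmE7` (`99`: none) -/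
def liK7 : List (List ℕ × ℕ) :=
  [([], 0), ([0], 1), ([1], 2), ([2], 3), ([3], 4), ([4], 5), ([5], 6), ([6], 7), ([0, 1], 8),
   ([0, 2], 99), ([0, 3], 9), ([0, 4], 10), ([0, 5], 11), ([0, 6], 12), ([1, 2], 13),
   ([1, 3], 99), ([1, 4], 14), ([1, 5], 15), ([1, 6], 16), ([2, 3], 99), ([2, 4], 17),
   ([2, 5], 18), ([2, 6], 19), ([3, 4], 99), ([3, 5], 20), ([3, 6], 21), ([4, 5], 99),
   ([4, 6], 22), ([5, 6], 99), ([0, 1, 2], 99), ([0, 1, 3], 99), ([0, 1, 4], 23),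
   ([0, 1, 5], 24), ([0, 1, 6], 25), ([0, 2, 3], 99), ([0, 2, 4], 99), ([0, 2, 5], 99),
   ([0, 2, 6], 99), ([0, 3, 4], 99), ([0, 3, 5], 26), ([0, 3, 6], 27), ([0, 4, 5], 99),
   ([0, 4, 6], 28), ([0, 5, 6], 99), ([1, 2, 3], 99), ([1, 2, 4], 29), ([1, 2, 5], 30),
   ([1, 2, 6], 31), ([1, 3, 4], 99), ([1, 3, 5], 99), ([1, 3, 6], 99), ([1, 4, 5], 99),
   ([1, 4, 6], 32), ([1, 5, 6], 99), ([2, 3, 4], 99), ([2, 3, 5], 99), ([2, 3, 6], 99),
   ([2, 4, 5], 99), ([2, 4, 6], 33), ([2, 5, 6], 99), ([3, 4, 5], 99), ([3, 4, 6], 99),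
   ([3, 5, 6], 99), ([4, 5, 6], 99), ([0, 1, 2, 3], 99), ([0, 1, 2, 4], 99), ([0, 1, 2, 5], 99),
   ([0, 1, 2, 6], 99), ([0, 1, 3, 4], 99), ([0, 1, 3, 5], 99), ([0, 1, 3, 6], 99),
   ([0, 1, 4, 5], 99), ([0, 1, 4, 6], 34), ([0, 1, 5, 6], 99), ([0, 2, 3, 4], 99),
   ([0, 2, 3, 5], 99), ([0, 2, 3, 6], 99), ([0, 2, 4, 5], 99), ([0, 2, 4, 6], 99),
   ([0, 2, 5, 6], 99), ([0, 3, 4, 5], 99), ([0, 3, 4, 6], 99), ([0, 3, 5, 6], 99),
   ([0, 4, 5, 6], 99), ([1, 2, 3, 4], 35), ([1, 2, 3, 5], 99), ([1, 2, 3, 6], 99),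
   ([1, 2, 4, 5], 99), ([1, 2, 4, 6], 36), ([1, 2, 5, 6], 99), ([1, 3, 4, 5], 99),
   ([1, 3, 4, 6], 99), ([1, 3, 5, 6], 99), ([1, 4, 5, 6], 99), ([2, 3, 4, 5], 99),
   ([2, 3, 4, 6], 99), ([2, 3, 5, 6], 99), ([2, 4, 5, 6], 99), ([3, 4, 5, 6], 99),
   ([0, 1, 2, 3, 4], 99), ([0, 1, 2, 3, 5], 99), ([0, 1, 2, 3, 6], 99), ([0, 1, 2, 4, 5], 99),
   ([0, 1, 2, 4, 6], 99), ([0, 1, 2, 5, 6], 99), ([0, 1, 3, 4, 5], 99), ([0, 1, 3, 4, 6], 99),
   ([0, 1, 3, 5, 6], 99), ([0, 1, 4, 5, 6], 99), ([0, 2, 3, 4, 5], 99), ([0, 2, 3, 4, 6], 99),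
   ([0, 2, 3, 5, 6], 99), ([0, 2, 4, 5, 6], 99), ([0, 3, 4, 5, 6], 99), ([1, 2, 3, 4, 5], 99),
   ([1, 2, 3, 4, 6], 37), ([1, 2, 3, 5, 6], 99), ([1, 2, 4, 5, 6], 99), ([1, 3, 4, 5, 6], 99),
   ([2, 3, 4, 5, 6], 99), ([0, 1, 2, 3, 4, 5], 99), ([0, 1, 2, 3, 4, 6], 99),
   ([0, 1, 2, 3, 5, 6], 99), ([0, 1, 2, 4, 5, 6], 99), ([0, 1, 3, 4, 5, 6], 99),
   ([0, 2, 3, 4, 5, 6], 99), ([1, 2, 3, 4, 5, 6], 38), ([0, 1, 2, 3, 4, 5, 6], 39)]

def lookupK (tbl : List (List ℕ × ℕ)) (I : List ℕ) : ℕ :=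
  match tbl.find? (fun p => p.1 == I) with
  | some p => p.2
  | none => 99

/-- the check of the `n`-th subset -/
def chkRowN (n : ℕ) : Bool :=
  let I := (List.range 7).sublists.getD n []
  chkRowI chevE7 w0E7 liE7 lmE7 I (lookupK liK7 I)

set_option maxRecDepth 1000000 in
theorem chkT7_0 : ∀ n < 16, chkRowN (0 + n) = true := by decide +kernel

set_option maxRecDepth 1000000 in
theorem chkT7_1 : ∀ n < 16, chkRowN (16 + n) = true := by decide +kernel

set_option maxRecDepth 1000000 in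
theorem chkT7_2 : ∀ n < 16, chkRowN (32 + n) = true := by decide +kernel

set_option maxRecDepth 1000000 in
theorem chkT7_3 : ∀ n < 16, chkRowN (48 + n) = true := by decide +kernel

set_option maxRecDepth 1000000 in
theorem chkT7_4 : ∀ n < 16, chkRowN (64 + n) = true := by decide +kernel

set_option maxRecDepth 1000000 in
theorem chkT7_5 : ∀ n < 16, chkRowN (80 + n) = true := by decide +kernel

set_option maxRecDepth 1000000 in
theorem chkT7_6 : ∀ n < 16, chkRowN (96 + n) = true := by decide +kernel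

set_option maxRecDepth 1000000 in
theorem chkT7_7 : ∀ n < 16, chkRowN (112 + n) = true := by decide +kernel

theorem chkRow_E7 : ∀ I ∈ (List.range chevE7.rank).sublists,
    chkRow chevE7 w0E7 liE7 lmE7 I = true := by
  intro I hI
  have hr : chevE7.rank = 7 := rfl
  rw [hr] at hI
  rw [List.mem_iff_getElem] at hI
  obtain ⟨n, hn, e⟩ := hI
  have hlen : (List.range 7).sublists.length = 128 := by
    rw [List.length_sublists, List.length_range]
  rw [hlen] at hn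
  have e2 : (List.range 7).sublists.getD n [] = I := by
    rw [List.getD_eq_getElem _ _ (by rw [hlen]; exact hn)]
    exact e
  have key : chkRowN n = true := by
    have h8 : n / 16 < 8 := by omega
    have hm : n % 16 < 16 := Nat.mod_lt _ (by norm_num)
    have hn' : n = 16 * (n / 16) + n % 16 := (Nat.div_add_mod n 16).symm
    rw [hn']
    interval_cases (n / 16)
    · exact chkT7_0 _ hm
    · exact chkT7_1 _ hm
    · exact chkT7_2 _ hm
    · exact chkT7_3 _ hm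
    · exact chkT7_4 _ hm
    · exact chkT7_5 _ hm
    · exact chkT7_6 _ hm
    · exact chkT7_7 _ hm
  unfold chkRowN at key
  rw [e2] at key
  exact chkRow_of_chkRowI _ _ _ _ _ _ key

/-- **Unit T7.** an involutive local maximum of `W(E₇)` acts like one of the 40 words `lmE7` -/
theorem T_locmax_cases7 (w : List ℕ) (hw : Wd chevE7 w)
    (hw2 : ∀ r < chevE7.nroots, wAct chevE7 (w ++ w) r = r) (hl : LocMax chevE7 w) :
    ∃ k < 40, Wd chevE7 (lmE7.getD k []) ∧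
      ∀ r < chevE7.nroots, wAct chevE7 w r = wAct chevE7 (lmE7.getD k []) r := by
  obtain ⟨v, hv, hvwd, hact⟩ :=
    locmax_cases_of_table chevE7 memE7v w0E7 chkW0_w0E7 liE7 lmE7 chkRow_E7 w hw hw2 hl
  rw [List.mem_iff_getElem] at hv
  obtain ⟨k, hk, e⟩ := hv
  have hk40 : k < 40 := hk
  have e2 : lmE7.getD k [] = v := by
    rw [List.getD_eq_getElem _ _ hk]
    exact e
  exact ⟨k, hk40, e2 ▸ hvwd, e2 ▸ hact⟩

end Cfsg.Agent.Lib.Helper9.E7Ev
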