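import Mathlib
import Cfsg.Agent.Lib.Helper9.E7EvT
import Cfsg.Agent.Lib.Helper9.E7EvC
import Cfsg.Agent.Lib.Helper7.E7EvD
import Cfsg.Agent.Lib.Helper7.InvGenHyp
import Cfsg.Agent.Lib.Helper3.F4EvB
import Cfsg.Agent.Lib.Helper2.E7EvRank

set_option autoImplicit false

/-!
# Farm E7EV (S2181): assembly — the five classes of involutions of `E₇(q)`, `q` even
-/

namespace Cfsg.Agent.Lib.Helper9.E7Ev

open Cfsg Cfsg.Lie Cfsg.Agent.Lib.Helper5.ChevSym Cfsg.Agent.Lib.Helper5.ChevStruct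
  Cfsg.Agent.Lib.Helper6.F4Ev Cfsg.Agent.Lib.Helper9.InvFrame

variable {F : Type*} [Field F]

theorem fprod_val (D : ChevalleyDatum) (hD : D ∈ Seven) (R : List ℕ) :
    ((fprod D hD R : GL D.Idx F) : Matrix D.Idx D.Idx F) = (R.map fun r => D.x F r 1).prod := by
  induction R with
  | nil => simp [fprod]
  | cons r R ih => rw [fprod_cons, Units.val_mul, ih, xGL_val, List.map_cons, List.prod_cons]

/-! ### Ranks -/

theorem rank_yGL7 [CharP F 2] :
    ((yGL7 F 0 : Matrix chevE7.Idx chevE7.Idx F) - 1).rank = 34 ∧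
    ((yGL7 F 1 : Matrix chevE7.Idx chevE7.Idx F) - 1).rank = 52 ∧
    ((yGL7 F 2 : Matrix chevE7.Idx chevE7.Idx F) - 1).rank = 53 ∧
    ((yGL7 F 3 : Matrix chevE7.Idx chevE7.Idx F) - 1).rank = 62 ∧
    ((yGL7 F 4 : Matrix chevE7.Idx chevE7.Idx F) - 1).rank = 63 := by
  have hp : ((2 : ℕ) : F) = 0 := CharP.cast_eq_zero F 2
  refine ⟨?_, ?_, ?_, ?_, ?_⟩
  · unfold yGL7; rw [fprod_val]; exact Cfsg.Agent.Lib.Helper2.E7EvRank.rank_y0 (K := F) hp
  · unfold yGL7; rw [fprod_val]; exact Cfsg.Agent.Lib.Helper2.E7EvRank.rank_y1 (K := F) hp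
  · unfold yGL7; rw [fprod_val]; exact Cfsg.Agent.Lib.Helper2.E7EvRank.rank_y2 (K := F) hp
  · unfold yGL7; rw [fprod_val]; exact Cfsg.Agent.Lib.Helper2.E7EvRank.rank_y3 (K := F) hp
  · unfold yGL7; rw [fprod_val]; exact Cfsg.Agent.Lib.Helper2.E7EvRank.rank_y4 (K := F) hp

/-- the rank of `y_k - 1` -/
def rk7 : ℕ → ℕ
  | 0 => 34
  | 1 => 52
  | 2 => 53
  | 3 => 62
  | _ => 63

theorem rank_yGL7_eq [CharP F 2] (k : ℕ) (hk : k < 5) :
    ((yGL7 F k : Matrix chevE7.Idx chevE7.Idx F) - 1).rank = rk7 k := by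
  obtain ⟨h0, h1, h2, h3, h4⟩ := rank_yGL7 (F := F)
  interval_cases k
  · exact h0
  · exact h1
  · exact h2
  · exact h3
  · exact h4

/-- **Unit R7.** the representatives are pairwise not conjugate in `GL` -/
theorem R_not_conj7 [CharP F 2] (k l : ℕ) (hk : k < 5) (hl : l < 5) (h : GL chevE7.Idx F)
    (e : h * yGL7 F k * h⁻¹ = yGL7 F l) : k = l := by
  have hr := Cfsg.Agent.Lib.Helper2.RankGen.rank_conj h (yGL7 F k)
  rw [e, rank_yGL7_eq k hk, rank_yGL7_eq l hl] at hr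
  interval_cases k <;> interval_cases l <;> simp_all [rk7]

theorem R_ne_one7 [CharP F 2] (k : ℕ) (hk : k < 5) : yGL7 F k ≠ 1 := by
  intro h
  have hr := rank_yGL7_eq (F := F) k hk
  rw [h, Units.val_one, sub_self, Matrix.rank_zero] at hr
  interval_cases k <;> simp [rk7] at hr

/-! ### Orders -/

theorem frameOK_ys7 : ∀ k < 5, frameOK chevE7 (ysE7.getD k []) = true := by decide +kernel

/-- **Unit P7.** -/
theorem P_order7 [CharP F 2] (k : ℕ) (hk : k < 5) : orderOf (yGL7 F k) = 2 := by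
  have h2 : (yGL7 F k) ^ 2 = 1 := by
    rw [pow_two]
    exact fprod_sq chevE7 memE7v _ (frameOK_ys7 k hk)
  exact orderOf_eq_prime h2 (R_ne_one7 k hk)

/-! ### The drops -/

theorem D_frame_to_y7 [CharP F 2] (c : ℕ) (hc : c < 9) :
    ConjG chevE7 (fprod chevE7 memE7v (frE7.getD c []) : GL chevE7.Idx F)
      (yGL7 F (clsK7.getD c 0)) := by
  obtain ⟨d1, d2, d3, d4⟩ := Cfsg.Agent.Lib.Helper7.E7Ev.h7_D_drop7 (F := F)
  have m1 := wordGL_mem_group (F := F) chevE7 memE7v ([22, 94, 125, 17].map fun r => (r, (1 : F)))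
  have m2 := wordGL_mem_group (F := F) chevE7 memE7v ([26, 96, 125, 8].map fun r => (r, (1 : F)))
  have m3 := wordGL_mem_group (F := F) chevE7 memE7v ([24, 98, 125, 10].map fun r => (r, (1 : F)))
  -- the four drops as conjugacies
  have c43 : ConjG chevE7 (fprod chevE7 memE7v [125, 92, 87, 73] : GL chevE7.Idx F)
      (fprod chevE7 memE7v [125, 92, 87]) := conjG_symm ⟨_, m1, d1⟩
  have c54 : ConjG chevE7 (fprod chevE7 memE7v [125, 92, 87, 73, 78] : GL chevE7.Idx F)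
      (fprod chevE7 memE7v [125, 92, 87, 78]) := conjG_symm ⟨_, m1, d2⟩
  have c65 : ConjG chevE7 (fprod chevE7 memE7v [125, 92, 87, 73, 78, 66] : GL chevE7.Idx F)
      (fprod chevE7 memE7v [125, 92, 87, 73, 78]) := conjG_symm ⟨_, m2, d3⟩
  have c76 : ConjG chevE7 (fprod chevE7 memE7v [125, 92, 87, 73, 78, 66, 63] : GL chevE7.Idx F)
      (fprod chevE7 memE7v [125, 92, 87, 73, 78, 66]) := conjG_symm ⟨_, m3, d4⟩
  interval_cases c
  · exact conjG_refl _ _
  · exact conjG_refl _ _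
  · exact conjG_refl _ _
  · exact conjG_refl _ _
  · exact c43
  · exact conjG_refl _ _
  · exact c54
  · exact conjG_trans c65 c54
  · exact conjG_trans c76 (conjG_trans c65 c54)

/-! ### Every involution is conjugate to a representative -/

theorem exists_conj_yGL7 [Fintype F] [CharP F 2] (g : GL chevE7.Idx F)
    (hg : g ∈ chevE7.group F) (ho : orderOf g = 2) :
    ∃ k < 5, ∃ h ∈ chevE7.group F, h * g * h⁻¹ = yGL7 F k := by
  have hg2 : g * g = 1 := by
    have := pow_orderOf_eq_one g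
    rwa [ho, pow_two] at this
  have hg1 : g ≠ 1 := by
    intro h
    rw [h, orderOf_one] at ho
    omega
  obtain ⟨a, ha, w, hw, hw2, hloc, c, hc, e⟩ :=
    invol_conj_cell chevE7 memE7v w0E7 chkW0_w0E7
      (Cfsg.Agent.Lib.Helper7.InvGen.hypB_gen chevE7 memE7v w0E7 chkW0_w0E7) g hg hg2
  obtain ⟨k, hk, hwdk, hact⟩ := T_locmax_cases7 w hw hw2 hloc
  have hwk : (wGL chevE7 memE7v w : GL chevE7.Idx F) = wGL chevE7 memE7v (lmE7.getD k []) :=
    A1h_wGL_congr chevE7 memE7v w _ hw hwdk hact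
  have hsq : (wGL chevE7 memE7v w * c) * (wGL chevE7 memE7v w * c) = 1 := by
    rw [← e]
    have : a * g * a⁻¹ * (a * g * a⁻¹) = a * (g * g) * a⁻¹ := by group
    rw [this, hg2]; group
  have hk39 : k < 39 := by
    by_contra hk0
    have hk0' : k = 39 := by omega
    subst hk0'
    have h1 : (wGL chevE7 memE7v w : GL chevE7.Idx F) = 1 := by
      rw [hwk]
      have : lmE7.getD 39 [] = [] := by decide
      rw [this, wGL_nil]
    rw [h1, one_mul] at hsq e
    have hc1 := Cfsg.Agent.Lib.Helper3.F4Ev.h3_B1_diag_invol chevE7 memE7v c hc hsq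
    rw [hc1] at e
    apply hg1
    have : g = a⁻¹ * (a * g * a⁻¹) * a := by group
    rw [this, e]; group
  obtain ⟨d, hd, e2⟩ :=
    Cfsg.Agent.Lib.Helper3.F4Ev.h3_B2_invol_lift chevE7 memE7v w hw hw2 c hc hsq
  have hdG : d ∈ chevE7.group F :=
    borel_le_group chevE7 memE7v (diagonal_le_borel chevE7 hd)
  obtain ⟨cc, hcc, hconj⟩ := C_lm_conj_frame7 (F := F) k hk39
  obtain ⟨h, hh, e4⟩ := conjG_trans hconj (D_frame_to_y7 cc hcc)
  have hcls : clsK7.getD cc 0 < 5 := by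
    interval_cases cc <;> decide
  refine ⟨_, hcls, h * d * a, mul_mem (mul_mem hh hdG) ha, ?_⟩
  rw [← e4, ← hwk, ← e2, ← e]
  group

end Cfsg.Agent.Lib.Helper9.E7Ev
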