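import Mathlib
import Cfsg.Prelude.Def_ChevE8
import Cfsg.Agent.Lib.Helper5.ChevCoLinDef
import Cfsg.Agent.Lib.Helper9.InvolXD

set_option autoImplicit false

/-!
`E₈(q)`, `q` odd: the table of the 256 subsets `J` of the fundamental roots (mask `m`, bit `j` =
`p_j ∈ J`): the greedy longest word `u` of `W_J`, and the status of the word `u.reverse`: the mask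
is `0`, or `w_J` does not negate some root of `J` (witness `c.i`), or a certificate of
`u.reverse`.
-/

namespace Cfsg.Agent.Lib.Helper9.E8Inv

open Cfsg Cfsg.Lie Cfsg.Agent.Lib.Helper5.ChevSym Cfsg.Agent.Lib.Helper5.ChevStruct
  Cfsg.Agent.Lib.Helper9.InvolX

set_option maxRecDepth 1000000 in
/-- the greedy longest words of the `W_J` -/
def uTab : List (List ℕ) := [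
  [],
  [0],
  [1],
  [0, 1],
  [2],
  [0, 2, 0],
  [1, 2],
  [0, 1, 2, 0],
  [3],
  [0, 3],
  [1, 3, 1],
  [0, 1, 3, 1],
  [2, 3, 2],
  [0, 2, 3, 0, 2, 0],
  [1, 2, 3, 1, 2, 3],
  [0, 1, 2, 3, 0, 1, 2, 3, 0, 2],
  [4],
  [0, 4],
  [1, 4],
  [0, 1, 4],
  [2, 4],
  [0, 2, 4, 0],
  [1, 2, 4],
  [0, 1, 2, 4, 0],
  [3, 4, 3],
  [0, 3, 4, 3],
  [1, 3, 4, 1, 3, 1],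
  [0, 1, 3, 4, 1, 3, 1],
  [2, 3, 4, 2, 3, 2],
  [0, 2, 3, 4, 0, 2, 3, 0, 2, 0],
  [1, 2, 3, 4, 1, 2, 3, 4, 1, 2, 3, 4],
  [0, 1, 2, 3, 4, 0, 1, 2, 3, 4, 0, 1, 2, 3, 4, 0, 1, 2, 3, 1],
  [5],
  [0, 5],
  [1, 5],
  [0, 1, 5],
  [2, 5],
  [0, 2, 5, 0],
  [1, 2, 5],
  [0, 1, 2, 5, 0],
  [3, 5],
  [0, 3, 5],
  [1, 3, 5, 1],
  [0, 1, 3, 5, 1],
  [2, 3, 5, 2],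
  [0, 2, 3, 5, 0, 2, 0],
  [1, 2, 3, 5, 1, 2, 3],
  [0, 1, 2, 3, 5, 0, 1, 2, 3, 0, 2],
  [4, 5, 4],
  [0, 4, 5, 4],
  [1, 4, 5, 4],
  [0, 1, 4, 5, 4],
  [2, 4, 5, 4],
  [0, 2, 4, 5, 0, 4],
  [1, 2, 4, 5, 4],
  [0, 1, 2, 4, 5, 0, 4],
  [3, 4, 5, 3, 4, 3],
  [0, 3, 4, 5, 3, 4, 3],
  [1, 3, 4, 5, 1, 3, 4, 1, 3, 1],
  [0, 1, 3, 4, 5, 1, 3, 4, 1, 3, 1],
  [2, 3, 4, 5, 2, 3, 4, 2, 3, 2],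
  [0, 2, 3, 4, 5, 0, 2, 3, 4, 0, 2, 3, 0, 2, 0],
  [1, 2, 3, 4, 5, 1, 2, 3, 4, 5, 1, 2, 3, 4, 5, 1, 2, 3, 4, 5],
  [0, 1, 2, 3, 4, 5, 0, 1, 2, 3, 4, 5, 0, 1, 2, 3, 4, 5, 0, 1, 2, 3, 4, 5, 0, 1, 2, 3, 4, 0, 1, 2, 3, 0, 2, 0],
  [6],
  [0, 6],
  [1, 6],
  [0, 1, 6],
  [2, 6],
  [0, 2, 6, 0],
  [1, 2, 6],
  [0, 1, 2, 6, 0],
  [3, 6],
  [0, 3, 6],
  [1, 3, 6, 1],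
  [0, 1, 3, 6, 1],
  [2, 3, 6, 2],
  [0, 2, 3, 6, 0, 2, 0],
  [1, 2, 3, 6, 1, 2, 3],
  [0, 1, 2, 3, 6, 0, 1, 2, 3, 0, 2],
  [4, 6],
  [0, 4, 6],
  [1, 4, 6],
  [0, 1, 4, 6],
  [2, 4, 6],
  [0, 2, 4, 6, 0],
  [1, 2, 4, 6],
  [0, 1, 2, 4, 6, 0],
  [3, 4, 6, 3],
  [0, 3, 4, 6, 3],
  [1, 3, 4, 6, 1, 3, 1],
  [0, 1, 3, 4, 6, 1, 3, 1],
  [2, 3, 4, 6, 2, 3, 2],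
  [0, 2, 3, 4, 6, 0, 2, 3, 0, 2, 0],
  [1, 2, 3, 4, 6, 1, 2, 3, 4, 1, 2, 3, 4],
  [0, 1, 2, 3, 4, 6, 0, 1, 2, 3, 4, 0, 1, 2, 3, 4, 0, 1, 2, 3, 1],
  [5, 6, 5],
  [0, 5, 6, 5],
  [1, 5, 6, 5],
  [0, 1, 5, 6, 5],
  [2, 5, 6, 5],
  [0, 2, 5, 6, 0, 5],
  [1, 2, 5, 6, 5],
  [0, 1, 2, 5, 6, 0, 5],
  [3, 5, 6, 5],
  [0, 3, 5, 6, 5],
  [1, 3, 5, 6, 1, 5],
  [0, 1, 3, 5, 6, 1, 5],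
  [2, 3, 5, 6, 2, 5],
  [0, 2, 3, 5, 6, 0, 2, 5, 0],
  [1, 2, 3, 5, 6, 1, 2, 3, 5],
  [0, 1, 2, 3, 5, 6, 0, 1, 2, 3, 5, 0, 2],
  [4, 5, 6, 4, 5, 4],
  [0, 4, 5, 6, 4, 5, 4],
  [1, 4, 5, 6, 4, 5, 4],
  [0, 1, 4, 5, 6, 4, 5, 4],
  [2, 4, 5, 6, 4, 5, 4],
  [0, 2, 4, 5, 6, 0, 4, 5, 4],
  [1, 2, 4, 5, 6, 4, 5, 4],
  [0, 1, 2, 4, 5, 6, 0, 4, 5, 4],
  [3, 4, 5, 6, 3, 4, 5, 3, 4, 3],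
  [0, 3, 4, 5, 6, 3, 4, 5, 3, 4, 3],
  [1, 3, 4, 5, 6, 1, 3, 4, 5, 1, 3, 4, 1, 3, 1],
  [0, 1, 3, 4, 5, 6, 1, 3, 4, 5, 1, 3, 4, 1, 3, 1],
  [2, 3, 4, 5, 6, 2, 3, 4, 5, 2, 3, 4, 2, 3, 2],
  [0, 2, 3, 4, 5, 6, 0, 2, 3, 4, 5, 0, 2, 3, 4, 0, 2, 3, 0, 2, 0],
  [1, 2, 3, 4, 5, 6, 1, 2, 3, 4, 5, 6, 1, 2, 3, 4, 5, 6, 1, 2, 3, 4, 5, 6, 1, 2, 3, 4, 5, 6],
  [0, 1, 2, 3, 4, 5, 6, 0, 1, 2, 3, 4, 5, 6, 0, 1, 2, 3, 4, 5, 6, 0, 1, 2, 3, 4, 5, 6, 0, 1, 2, 3, 4, 5, 6, 0, 1, 2, 3, 4, 5, 6, 0, 1, 2, 3, 4, 5, 6, 0, 1, 2, 3, 4, 5, 6, 0, 1, 2, 3, 4, 5, 6],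
  [7],
  [0, 7],
  [1, 7],
  [0, 1, 7],
  [2, 7],
  [0, 2, 7, 0],
  [1, 2, 7],
  [0, 1, 2, 7, 0],
  [3, 7],
  [0, 3, 7],
  [1, 3, 7, 1],
  [0, 1, 3, 7, 1],
  [2, 3, 7, 2],
  [0, 2, 3, 7, 0, 2, 0],
  [1, 2, 3, 7, 1, 2, 3],
  [0, 1, 2, 3, 7, 0, 1, 2, 3, 0, 2],
  [4, 7],
  [0, 4, 7],
  [1, 4, 7],
  [0, 1, 4, 7],
  [2, 4, 7],
  [0, 2, 4, 7, 0],
  [1, 2, 4, 7],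
  [0, 1, 2, 4, 7, 0],
  [3, 4, 7, 3],
  [0, 3, 4, 7, 3],
  [1, 3, 4, 7, 1, 3, 1],
  [0, 1, 3, 4, 7, 1, 3, 1],
  [2, 3, 4, 7, 2, 3, 2],
  [0, 2, 3, 4, 7, 0, 2, 3, 0, 2, 0],
  [1, 2, 3, 4, 7, 1, 2, 3, 4, 1, 2, 3, 4],
  [0, 1, 2, 3, 4, 7, 0, 1, 2, 3, 4, 0, 1, 2, 3, 4, 0, 1, 2, 3, 1],
  [5, 7],
  [0, 5, 7],
  [1, 5, 7],
  [0, 1, 5, 7],
  [2, 5, 7],
  [0, 2, 5, 7, 0],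
  [1, 2, 5, 7],
  [0, 1, 2, 5, 7, 0],
  [3, 5, 7],
  [0, 3, 5, 7],
  [1, 3, 5, 7, 1],
  [0, 1, 3, 5, 7, 1],
  [2, 3, 5, 7, 2],
  [0, 2, 3, 5, 7, 0, 2, 0],
  [1, 2, 3, 5, 7, 1, 2, 3],
  [0, 1, 2, 3, 5, 7, 0, 1, 2, 3, 0, 2],
  [4, 5, 7, 4],
  [0, 4, 5, 7, 4],
  [1, 4, 5, 7, 4],
  [0, 1, 4, 5, 7, 4],
  [2, 4, 5, 7, 4],
  [0, 2, 4, 5, 7, 0, 4],
  [1, 2, 4, 5, 7, 4],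
  [0, 1, 2, 4, 5, 7, 0, 4],
  [3, 4, 5, 7, 3, 4, 3],
  [0, 3, 4, 5, 7, 3, 4, 3],
  [1, 3, 4, 5, 7, 1, 3, 4, 1, 3, 1],
  [0, 1, 3, 4, 5, 7, 1, 3, 4, 1, 3, 1],
  [2, 3, 4, 5, 7, 2, 3, 4, 2, 3, 2],
  [0, 2, 3, 4, 5, 7, 0, 2, 3, 4, 0, 2, 3, 0, 2, 0],
  [1, 2, 3, 4, 5, 7, 1, 2, 3, 4, 5, 1, 2, 3, 4, 5, 1, 2, 3, 4, 5],
  [0, 1, 2, 3, 4, 5, 7, 0, 1, 2, 3, 4, 5, 0, 1, 2, 3, 4, 5, 0, 1, 2, 3, 4, 5, 0, 1, 2, 3, 4, 0, 1, 2, 3, 0, 2, 0],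
  [6, 7, 6],
  [0, 6, 7, 6],
  [1, 6, 7, 6],
  [0, 1, 6, 7, 6],
  [2, 6, 7, 6],
  [0, 2, 6, 7, 0, 6],
  [1, 2, 6, 7, 6],
  [0, 1, 2, 6, 7, 0, 6],
  [3, 6, 7, 6],
  [0, 3, 6, 7, 6],
  [1, 3, 6, 7, 1, 6],
  [0, 1, 3, 6, 7, 1, 6],
  [2, 3, 6, 7, 2, 6],
  [0, 2, 3, 6, 7, 0, 2, 6, 0],
  [1, 2, 3, 6, 7, 1, 2, 3, 6],
  [0, 1, 2, 3, 6, 7, 0, 1, 2, 3, 6, 0, 2],
  [4, 6, 7, 6],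
  [0, 4, 6, 7, 6],
  [1, 4, 6, 7, 6],
  [0, 1, 4, 6, 7, 6],
  [2, 4, 6, 7, 6],
  [0, 2, 4, 6, 7, 0, 6],
  [1, 2, 4, 6, 7, 6],
  [0, 1, 2, 4, 6, 7, 0, 6],
  [3, 4, 6, 7, 3, 6],
  [0, 3, 4, 6, 7, 3, 6],
  [1, 3, 4, 6, 7, 1, 3, 6, 1],
  [0, 1, 3, 4, 6, 7, 1, 3, 6, 1],
  [2, 3, 4, 6, 7, 2, 3, 6, 2],
  [0, 2, 3, 4, 6, 7, 0, 2, 3, 6, 0, 2, 0],
  [1, 2, 3, 4, 6, 7, 1, 2, 3, 4, 6, 1, 2, 3, 4],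
  [0, 1, 2, 3, 4, 6, 7, 0, 1, 2, 3, 4, 6, 0, 1, 2, 3, 4, 0, 1, 2, 3, 1],
  [5, 6, 7, 5, 6, 5],
  [0, 5, 6, 7, 5, 6, 5],
  [1, 5, 6, 7, 5, 6, 5],
  [0, 1, 5, 6, 7, 5, 6, 5],
  [2, 5, 6, 7, 5, 6, 5],
  [0, 2, 5, 6, 7, 0, 5, 6, 5],
  [1, 2, 5, 6, 7, 5, 6, 5],
  [0, 1, 2, 5, 6, 7, 0, 5, 6, 5],
  [3, 5, 6, 7, 5, 6, 5],
  [0, 3, 5, 6, 7, 5, 6, 5],
  [1, 3, 5, 6, 7, 1, 5, 6, 5],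
  [0, 1, 3, 5, 6, 7, 1, 5, 6, 5],
  [2, 3, 5, 6, 7, 2, 5, 6, 5],
  [0, 2, 3, 5, 6, 7, 0, 2, 5, 6, 0, 5],
  [1, 2, 3, 5, 6, 7, 1, 2, 3, 5, 6, 5],
  [0, 1, 2, 3, 5, 6, 7, 0, 1, 2, 3, 5, 6, 0, 2, 5],
  [4, 5, 6, 7, 4, 5, 6, 4, 5, 4],
  [0, 4, 5, 6, 7, 4, 5, 6, 4, 5, 4],
  [1, 4, 5, 6, 7, 4, 5, 6, 4, 5, 4],
  [0, 1, 4, 5, 6, 7, 4, 5, 6, 4, 5, 4],
  [2, 4, 5, 6, 7, 4, 5, 6, 4, 5, 4],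
  [0, 2, 4, 5, 6, 7, 0, 4, 5, 6, 4, 5, 4],
  [1, 2, 4, 5, 6, 7, 4, 5, 6, 4, 5, 4],
  [0, 1, 2, 4, 5, 6, 7, 0, 4, 5, 6, 4, 5, 4],
  [3, 4, 5, 6, 7, 3, 4, 5, 6, 3, 4, 5, 3, 4, 3],
  [0, 3, 4, 5, 6, 7, 3, 4, 5, 6, 3, 4, 5, 3, 4, 3],
  [1, 3, 4, 5, 6, 7, 1, 3, 4, 5, 6, 1, 3, 4, 5, 1, 3, 4, 1, 3, 1],
  [0, 1, 3, 4, 5, 6, 7, 1, 3, 4, 5, 6, 1, 3, 4, 5, 1, 3, 4, 1, 3, 1],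
  [2, 3, 4, 5, 6, 7, 2, 3, 4, 5, 6, 2, 3, 4, 5, 2, 3, 4, 2, 3, 2],
  [0, 2, 3, 4, 5, 6, 7, 0, 2, 3, 4, 5, 6, 0, 2, 3, 4, 5, 0, 2, 3, 4, 0, 2, 3, 0, 2, 0],
  [1, 2, 3, 4, 5, 6, 7, 1, 2, 3, 4, 5, 6, 7, 1, 2, 3, 4, 5, 6, 7, 1, 2, 3, 4, 5, 6, 7, 1, 2, 3, 4, 5, 6, 7, 1, 2, 3, 4, 5, 6, 7],
  [0, 1, 2, 3, 4, 5, 6, 7, 0, 1, 2, 3, 4, 5, 6, 7, 0, 1, 2, 3, 4, 5, 6, 7, 0, 1, 2, 3, 4, 5, 6, 7, 0, 1, 2, 3, 4, 5, 6, 7, 0, 1, 2, 3, 4, 5, 6, 7, 0, 1, 2, 3, 4, 5, 6, 7, 0, 1, 2, 3, 4, 5, 6, 7, 0, 1, 2, 3, 4, 5, 6, 7, 0, 1, 2, 3, 4, 5, 6, 7, 0, 1, 2, 3, 4, 5, 6, 7, 0, 1, 2, 3, 4, 5, 6, 7, 0, 1, 2, 3, 4, 5, 6, 7, 0, 1, 2, 3, 4, 5, 6, 7, 0, 1, 2, 3, 4, 5, 6, 7]]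

set_option maxRecDepth 1000000 in
/-- the status of the rows -/
def cTab : List (ℕ × Cert) := [
  (0, ⟨false, [], 0, 0⟩),
  (2, ⟨false, [], 0, 14⟩),
  (2, ⟨false, [], 1, 7⟩),
  (2, ⟨false, [], 0, 16⟩),
  (2, ⟨false, [], 2, 6⟩),
  (1, ⟨false, [], 0, 0⟩),
  (2, ⟨false, [], 1, 15⟩),
  (1, ⟨false, [], 0, 0⟩),
  (2, ⟨false, [], 3, 5⟩),
  (2, ⟨false, [], 0, 14⟩),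
  (1, ⟨false, [], 1, 0⟩),
  (1, ⟨false, [], 1, 0⟩),
  (1, ⟨false, [], 2, 0⟩),
  (1, ⟨false, [], 0, 0⟩),
  (1, ⟨false, [], 1, 0⟩),
  (1, ⟨false, [], 0, 0⟩),
  (2, ⟨false, [], 4, 4⟩),
  (2, ⟨false, [], 0, 14⟩),
  (2, ⟨false, [], 1, 7⟩),
  (2, ⟨false, [], 0, 18⟩),
  (2, ⟨false, [], 2, 6⟩),
  (1, ⟨false, [], 0, 0⟩),
  (2, ⟨false, [], 1, 15⟩),
  (1, ⟨false, [], 0, 0⟩),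
  (1, ⟨false, [], 3, 0⟩),
  (1, ⟨false, [], 3, 0⟩),
  (1, ⟨false, [], 1, 0⟩),
  (1, ⟨false, [], 1, 0⟩),
  (1, ⟨false, [], 2, 0⟩),
  (1, ⟨false, [], 0, 0⟩),
  (2, ⟨true, [], 1, 91⟩),
  (1, ⟨false, [], 1, 0⟩),
  (2, ⟨false, [], 5, 3⟩),
  (2, ⟨false, [], 0, 14⟩),
  (2, ⟨false, [], 1, 7⟩),
  (2, ⟨false, [], 0, 16⟩),
  (2, ⟨false, [], 2, 6⟩),
  (1, ⟨false, [], 0, 0⟩),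
  (2, ⟨false, [], 1, 15⟩),
  (1, ⟨false, [], 0, 0⟩),
  (2, ⟨false, [], 3, 5⟩),
  (2, ⟨false, [], 0, 14⟩),
  (1, ⟨false, [], 1, 0⟩),
  (1, ⟨false, [], 1, 0⟩),
  (1, ⟨false, [], 2, 0⟩),
  (1, ⟨false, [], 0, 0⟩),
  (1, ⟨false, [], 1, 0⟩),
  (1, ⟨false, [], 0, 0⟩),
  (1, ⟨false, [], 4, 0⟩),
  (1, ⟨false, [], 4, 0⟩),
  (1, ⟨false, [], 4, 0⟩),
  (1, ⟨false, [], 4, 0⟩),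
  (1, ⟨false, [], 4, 0⟩),
  (1, ⟨false, [], 0, 0⟩),
  (1, ⟨false, [], 4, 0⟩),
  (1, ⟨false, [], 0, 0⟩),
  (1, ⟨false, [], 3, 0⟩),
  (1, ⟨false, [], 3, 0⟩),
  (1, ⟨false, [], 1, 0⟩),
  (1, ⟨false, [], 1, 0⟩),
  (1, ⟨false, [], 2, 0⟩),
  (1, ⟨false, [], 0, 0⟩),
  (1, ⟨false, [], 1, 0⟩),
  (1, ⟨false, [], 0, 0⟩),
  (2, ⟨false, [], 6, 2⟩),
  (2, ⟨false, [], 0, 14⟩),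
  (2, ⟨false, [], 1, 7⟩),
  (2, ⟨false, [], 0, 16⟩),
  (2, ⟨false, [], 2, 6⟩),
  (1, ⟨false, [], 0, 0⟩),
  (2, ⟨false, [], 1, 15⟩),
  (1, ⟨false, [], 0, 0⟩),
  (2, ⟨false, [], 3, 5⟩),
  (2, ⟨false, [], 0, 14⟩),
  (1, ⟨false, [], 1, 0⟩),
  (1, ⟨false, [], 1, 0⟩),
  (1, ⟨false, [], 2, 0⟩),
  (1, ⟨false, [], 0, 0⟩),
  (1, ⟨false, [], 1, 0⟩),
  (1, ⟨false, [], 0, 0⟩),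
  (2, ⟨false, [], 4, 4⟩),
  (2, ⟨false, [], 0, 14⟩),
  (2, ⟨false, [], 1, 7⟩),
  (2, ⟨false, [], 0, 20⟩),
  (2, ⟨false, [], 2, 6⟩),
  (1, ⟨false, [], 0, 0⟩),
  (2, ⟨false, [], 1, 15⟩),
  (1, ⟨false, [], 0, 0⟩),
  (1, ⟨false, [], 3, 0⟩),
  (1, ⟨false, [], 3, 0⟩),
  (1, ⟨false, [], 1, 0⟩),
  (1, ⟨false, [], 1, 0⟩),
  (1, ⟨false, [], 2, 0⟩),
  (1, ⟨false, [], 0, 0⟩),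
  (2, ⟨true, [], 1, 91⟩),
  (1, ⟨false, [], 1, 0⟩),
  (1, ⟨false, [], 5, 0⟩),
  (1, ⟨false, [], 5, 0⟩),
  (1, ⟨false, [], 5, 0⟩),
  (1, ⟨false, [], 5, 0⟩),
  (1, ⟨false, [], 5, 0⟩),
  (1, ⟨false, [], 0, 0⟩),
  (1, ⟨false, [], 5, 0⟩),
  (1, ⟨false, [], 0, 0⟩),
  (1, ⟨false, [], 5, 0⟩),
  (1, ⟨false, [], 5, 0⟩),
  (1, ⟨false, [], 1, 0⟩),
  (1, ⟨false, [], 1, 0⟩),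
  (1, ⟨false, [], 2, 0⟩),
  (1, ⟨false, [], 0, 0⟩),
  (1, ⟨false, [], 1, 0⟩),
  (1, ⟨false, [], 0, 0⟩),
  (1, ⟨false, [], 4, 0⟩),
  (1, ⟨false, [], 4, 0⟩),
  (1, ⟨false, [], 4, 0⟩),
  (1, ⟨false, [], 4, 0⟩),
  (1, ⟨false, [], 4, 0⟩),
  (1, ⟨false, [], 0, 0⟩),
  (1, ⟨false, [], 4, 0⟩),
  (1, ⟨false, [], 0, 0⟩),
  (1, ⟨false, [], 3, 0⟩),
  (1, ⟨false, [], 3, 0⟩),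
  (1, ⟨false, [], 1, 0⟩),
  (1, ⟨false, [], 1, 0⟩),
  (1, ⟨false, [], 2, 0⟩),
  (1, ⟨false, [], 0, 0⟩),
  (2, ⟨true, [], 1, 89⟩),
  (2, ⟨true, [], 0, 13⟩),
  (2, ⟨false, [], 7, 1⟩),
  (2, ⟨false, [], 0, 14⟩),
  (2, ⟨false, [], 1, 7⟩),
  (2, ⟨false, [], 0, 16⟩),
  (2, ⟨false, [], 2, 6⟩),
  (1, ⟨false, [], 0, 0⟩),
  (2, ⟨false, [], 1, 15⟩),
  (1, ⟨false, [], 0, 0⟩),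
  (2, ⟨false, [], 3, 5⟩),
  (2, ⟨false, [], 0, 14⟩),
  (1, ⟨false, [], 1, 0⟩),
  (1, ⟨false, [], 1, 0⟩),
  (1, ⟨false, [], 2, 0⟩),
  (1, ⟨false, [], 0, 0⟩),
  (1, ⟨false, [], 1, 0⟩),
  (1, ⟨false, [], 0, 0⟩),
  (2, ⟨false, [], 4, 4⟩),
  (2, ⟨false, [], 0, 14⟩),
  (2, ⟨false, [], 1, 7⟩),
  (2, ⟨false, [], 0, 18⟩),
  (2, ⟨false, [], 2, 6⟩),
  (1, ⟨false, [], 0, 0⟩),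
  (2, ⟨false, [], 1, 15⟩),
  (1, ⟨false, [], 0, 0⟩),
  (1, ⟨false, [], 3, 0⟩),
  (1, ⟨false, [], 3, 0⟩),
  (1, ⟨false, [], 1, 0⟩),
  (1, ⟨false, [], 1, 0⟩),
  (1, ⟨false, [], 2, 0⟩),
  (1, ⟨false, [], 0, 0⟩),
  (2, ⟨true, [], 1, 91⟩),
  (1, ⟨false, [], 1, 0⟩),
  (2, ⟨false, [], 5, 3⟩),
  (2, ⟨false, [], 0, 14⟩),
  (2, ⟨false, [], 1, 7⟩),
  (2, ⟨false, [], 0, 16⟩),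
  (2, ⟨false, [], 2, 6⟩),
  (1, ⟨false, [], 0, 0⟩),
  (2, ⟨false, [], 1, 15⟩),
  (1, ⟨false, [], 0, 0⟩),
  (2, ⟨false, [], 3, 5⟩),
  (2, ⟨false, [], 0, 14⟩),
  (1, ⟨false, [], 1, 0⟩),
  (1, ⟨false, [], 1, 0⟩),
  (1, ⟨false, [], 2, 0⟩),
  (1, ⟨false, [], 0, 0⟩),
  (1, ⟨false, [], 1, 0⟩),
  (1, ⟨false, [], 0, 0⟩),
  (1, ⟨false, [], 4, 0⟩),
  (1, ⟨false, [], 4, 0⟩),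
  (1, ⟨false, [], 4, 0⟩),
  (1, ⟨false, [], 4, 0⟩),
  (1, ⟨false, [], 4, 0⟩),
  (1, ⟨false, [], 0, 0⟩),
  (1, ⟨false, [], 4, 0⟩),
  (1, ⟨false, [], 0, 0⟩),
  (1, ⟨false, [], 3, 0⟩),
  (1, ⟨false, [], 3, 0⟩),
  (1, ⟨false, [], 1, 0⟩),
  (1, ⟨false, [], 1, 0⟩),
  (1, ⟨false, [], 2, 0⟩),
  (1, ⟨false, [], 0, 0⟩),
  (1, ⟨false, [], 1, 0⟩),
  (1, ⟨false, [], 0, 0⟩),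
  (1, ⟨false, [], 6, 0⟩),
  (1, ⟨false, [], 6, 0⟩),
  (1, ⟨false, [], 6, 0⟩),
  (1, ⟨false, [], 6, 0⟩),
  (1, ⟨false, [], 6, 0⟩),
  (1, ⟨false, [], 0, 0⟩),
  (1, ⟨false, [], 6, 0⟩),
  (1, ⟨false, [], 0, 0⟩),
  (1, ⟨false, [], 6, 0⟩),
  (1, ⟨false, [], 6, 0⟩),
  (1, ⟨false, [], 1, 0⟩),
  (1, ⟨false, [], 1, 0⟩),
  (1, ⟨false, [], 2, 0⟩),
  (1, ⟨false, [], 0, 0⟩),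
  (1, ⟨false, [], 1, 0⟩),
  (1, ⟨false, [], 0, 0⟩),
  (1, ⟨false, [], 6, 0⟩),
  (1, ⟨false, [], 6, 0⟩),
  (1, ⟨false, [], 6, 0⟩),
  (1, ⟨false, [], 6, 0⟩),
  (1, ⟨false, [], 6, 0⟩),
  (1, ⟨false, [], 0, 0⟩),
  (1, ⟨false, [], 6, 0⟩),
  (1, ⟨false, [], 0, 0⟩),
  (1, ⟨false, [], 3, 0⟩),
  (1, ⟨false, [], 3, 0⟩),
  (1, ⟨false, [], 1, 0⟩),
  (1, ⟨false, [], 1, 0⟩),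
  (1, ⟨false, [], 2, 0⟩),
  (1, ⟨false, [], 0, 0⟩),
  (1, ⟨false, [], 6, 0⟩),
  (1, ⟨false, [], 1, 0⟩),
  (1, ⟨false, [], 5, 0⟩),
  (1, ⟨false, [], 5, 0⟩),
  (1, ⟨false, [], 5, 0⟩),
  (1, ⟨false, [], 5, 0⟩),
  (1, ⟨false, [], 5, 0⟩),
  (1, ⟨false, [], 0, 0⟩),
  (1, ⟨false, [], 5, 0⟩),
  (1, ⟨false, [], 0, 0⟩),
  (1, ⟨false, [], 5, 0⟩),
  (1, ⟨false, [], 5, 0⟩),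
  (1, ⟨false, [], 1, 0⟩),
  (1, ⟨false, [], 1, 0⟩),
  (1, ⟨false, [], 2, 0⟩),
  (1, ⟨false, [], 0, 0⟩),
  (1, ⟨false, [], 1, 0⟩),
  (1, ⟨false, [], 0, 0⟩),
  (1, ⟨false, [], 4, 0⟩),
  (1, ⟨false, [], 4, 0⟩),
  (1, ⟨false, [], 4, 0⟩),
  (1, ⟨false, [], 4, 0⟩),
  (1, ⟨false, [], 4, 0⟩),
  (1, ⟨false, [], 0, 0⟩),
  (1, ⟨false, [], 4, 0⟩),
  (1, ⟨false, [], 0, 0⟩),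
  (1, ⟨false, [], 3, 0⟩),
  (1, ⟨false, [], 3, 0⟩),
  (1, ⟨false, [], 1, 0⟩),
  (1, ⟨false, [], 1, 0⟩),
  (1, ⟨false, [], 2, 0⟩),
  (1, ⟨false, [], 0, 0⟩),
  (1, ⟨false, [], 1, 0⟩),
  (2, ⟨true, [], 0, 6⟩)]

/-- the hypotheses of the comparison lemma for the mask `m` and the word `u` -/
def cox2OK (m : ℕ) (u : List ℕ) : Bool :=
  u.all (fun i => Nat.blt i 8) &&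
  (List.range 8).all fun j =>
    if m.testBit j then
      (List.range 8).any fun j' => m.testBit j' &&
        Nat.beq (wActC chevE8 u (chevE8.simple j)) (chevE8.neg (chevE8.simple j'))
    else
      decide (chevE8.IsPosRoot (wActC chevE8 u (chevE8.simple j))) &&
      (List.range 8).any fun k' => !(m.testBit k') &&
        decide (0 < co chevE8 (wActC chevE8 u (chevE8.simple j)) k')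

/-- the check of the row of the mask `m` -/
def rowOK8 (m : ℕ) (u : List ℕ) (tag : ℕ) (c : Cert) : Bool :=
  cox2OK m u &&
  match tag with
  | 0 => Nat.beq m 0
  | 1 => Nat.blt c.i 8 && m.testBit c.i &&
      !(Nat.beq (wActC chevE8 u.reverse (chevE8.simple c.i)) (chevE8.neg (chevE8.simple c.i)))
  | _ => certOK chevE8 u.reverse c

/-- the check of the rows `lo ≤ m < hi` -/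
def rowsOKRange (lo hi : ℕ) : Bool :=
  (List.range (hi - lo)).all fun d =>
    rowOK8 (lo + d) (uTab.getD (lo + d) []) (cTab.getD (lo + d) default).1
      (cTab.getD (lo + d) default).2

theorem rowsOKRange_spec (lo hi : ℕ) (h : rowsOKRange lo hi = true) (m : ℕ) (h1 : lo ≤ m)
    (h2 : m < hi) :
    rowOK8 m (uTab.getD m []) (cTab.getD m default).1 (cTab.getD m default).2 = true := by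
  unfold rowsOKRange at h
  rw [List.all_eq_true] at h
  have := h (m - lo) (List.mem_range.2 (by omega))
  rwa [Nat.add_sub_cancel' h1] at this

end Cfsg.Agent.Lib.Helper9.E8Inv
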