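import Mathlib
import Cfsg.Prelude.Def_ChevE8
import Cfsg.Agent.Lib.Helper9.E8InvCertA

set_option autoImplicit false
set_option Elab.async false

/-!
`E₈(q)`, `q` odd: the check of the 256 rows of the table of `E8InvCertA`, in small chunks (one
after the other, to bound the memory of the kernel).
-/

namespace Cfsg.Agent.Lib.Helper9.E8Inv

open Cfsg Cfsg.Lie Cfsg.Agent.Lib.Helper5.ChevSym Cfsg.Agent.Lib.Helper5.ChevStruct
  Cfsg.Agent.Lib.Helper9.InvolX

set_option maxRecDepth 1000000 in
theorem rows_ok_0 : rowsOKRange 0 4 = true := by decide +kernel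

set_option maxRecDepth 1000000 in
theorem rows_ok_1 : rowsOKRange 4 9 = true := by decide +kernel

set_option maxRecDepth 1000000 in
theorem rows_ok_2 : rowsOKRange 9 18 = true := by decide +kernel

set_option maxRecDepth 1000000 in
theorem rows_ok_3 : rowsOKRange 18 21 = true := by decide +kernel

set_option maxRecDepth 1000000 in
theorem rows_ok_4 : rowsOKRange 21 30 = true := by decide +kernel

set_option maxRecDepth 1000000 in
theorem rows_ok_5 : rowsOKRange 30 31 = true := by decide +kernel

set_option maxRecDepth 1000000 in
theorem rows_ok_6 : rowsOKRange 31 35 = true := by decide +kernel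

set_option maxRecDepth 1000000 in
theorem rows_ok_7 : rowsOKRange 35 39 = true := by decide +kernel

set_option maxRecDepth 1000000 in
theorem rows_ok_8 : rowsOKRange 39 65 = true := by decide +kernel

set_option maxRecDepth 1000000 in
theorem rows_ok_9 : rowsOKRange 65 68 = true := by decide +kernel

set_option maxRecDepth 1000000 in
theorem rows_ok_10 : rowsOKRange 68 73 = true := by decide +kernel

set_option maxRecDepth 1000000 in
theorem rows_ok_11 : rowsOKRange 73 82 = true := by decide +kernel

set_option maxRecDepth 1000000 in
theorem rows_ok_12 : rowsOKRange 82 85 = true := by decide +kernel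

set_option maxRecDepth 1000000 in
theorem rows_ok_13 : rowsOKRange 85 94 = true := by decide +kernel

set_option maxRecDepth 1000000 in
theorem rows_ok_14 : rowsOKRange 94 95 = true := by decide +kernel

set_option maxRecDepth 1000000 in
theorem rows_ok_15 : rowsOKRange 95 126 = true := by decide +kernel

set_option maxRecDepth 1000000 in
theorem rows_ok_16 : rowsOKRange 126 127 = true := by decide +kernel

set_option maxRecDepth 1000000 in
theorem rows_ok_17 : rowsOKRange 127 128 = true := by decide +kernel

set_option maxRecDepth 1000000 in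
theorem rows_ok_18 : rowsOKRange 128 131 = true := by decide +kernel

set_option maxRecDepth 1000000 in
theorem rows_ok_19 : rowsOKRange 131 135 = true := by decide +kernel

set_option maxRecDepth 1000000 in
theorem rows_ok_20 : rowsOKRange 135 145 = true := by decide +kernel

set_option maxRecDepth 1000000 in
theorem rows_ok_21 : rowsOKRange 145 148 = true := by decide +kernel

set_option maxRecDepth 1000000 in
theorem rows_ok_22 : rowsOKRange 148 158 = true := by decide +kernel

set_option maxRecDepth 1000000 in
theorem rows_ok_23 : rowsOKRange 158 159 = true := by decide +kernel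

set_option maxRecDepth 1000000 in
theorem rows_ok_24 : rowsOKRange 159 163 = true := by decide +kernel

set_option maxRecDepth 1000000 in
theorem rows_ok_25 : rowsOKRange 163 167 = true := by decide +kernel

set_option maxRecDepth 1000000 in
theorem rows_ok_26 : rowsOKRange 167 255 = true := by decide +kernel

set_option maxRecDepth 1000000 in
theorem rows_ok_27 : rowsOKRange 255 256 = true := by decide +kernel

/-- every row of the table passes its check -/
theorem rows_ok (m : ℕ) (hm : m < 256) :
    rowOK8 m (uTab.getD m []) (cTab.getD m default).1 (cTab.getD m default).2 = true := by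
  by_cases h0 : m < 4
  · exact rowsOKRange_spec 0 4 rows_ok_0 m (by omega) h0
  by_cases h1 : m < 9
  · exact rowsOKRange_spec 4 9 rows_ok_1 m (by omega) h1
  by_cases h2 : m < 18
  · exact rowsOKRange_spec 9 18 rows_ok_2 m (by omega) h2
  by_cases h3 : m < 21
  · exact rowsOKRange_spec 18 21 rows_ok_3 m (by omega) h3
  by_cases h4 : m < 30
  · exact rowsOKRange_spec 21 30 rows_ok_4 m (by omega) h4
  by_cases h5 : m < 31
  · exact rowsOKRange_spec 30 31 rows_ok_5 m (by omega) h5
  by_cases h6 : m < 35
  · exact rowsOKRange_spec 31 35 rows_ok_6 m (by omega) h6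
  by_cases h7 : m < 39
  · exact rowsOKRange_spec 35 39 rows_ok_7 m (by omega) h7
  by_cases h8 : m < 65
  · exact rowsOKRange_spec 39 65 rows_ok_8 m (by omega) h8
  by_cases h9 : m < 68
  · exact rowsOKRange_spec 65 68 rows_ok_9 m (by omega) h9
  by_cases h10 : m < 73
  · exact rowsOKRange_spec 68 73 rows_ok_10 m (by omega) h10
  by_cases h11 : m < 82
  · exact rowsOKRange_spec 73 82 rows_ok_11 m (by omega) h11
  by_cases h12 : m < 85
  · exact rowsOKRange_spec 82 85 rows_ok_12 m (by omega) h12
  by_cases h13 : m < 94
  · exact rowsOKRange_spec 85 94 rows_ok_13 m (by omega) h13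
  by_cases h14 : m < 95
  · exact rowsOKRange_spec 94 95 rows_ok_14 m (by omega) h14
  by_cases h15 : m < 126
  · exact rowsOKRange_spec 95 126 rows_ok_15 m (by omega) h15
  by_cases h16 : m < 127
  · exact rowsOKRange_spec 126 127 rows_ok_16 m (by omega) h16
  by_cases h17 : m < 128
  · exact rowsOKRange_spec 127 128 rows_ok_17 m (by omega) h17
  by_cases h18 : m < 131
  · exact rowsOKRange_spec 128 131 rows_ok_18 m (by omega) h18
  by_cases h19 : m < 135
  · exact rowsOKRange_spec 131 135 rows_ok_19 m (by omega) h19
  by_cases h20 : m < 145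
  · exact rowsOKRange_spec 135 145 rows_ok_20 m (by omega) h20
  by_cases h21 : m < 148
  · exact rowsOKRange_spec 145 148 rows_ok_21 m (by omega) h21
  by_cases h22 : m < 158
  · exact rowsOKRange_spec 148 158 rows_ok_22 m (by omega) h22
  by_cases h23 : m < 159
  · exact rowsOKRange_spec 158 159 rows_ok_23 m (by omega) h23
  by_cases h24 : m < 163
  · exact rowsOKRange_spec 159 163 rows_ok_24 m (by omega) h24
  by_cases h25 : m < 167
  · exact rowsOKRange_spec 163 167 rows_ok_25 m (by omega) h25
  by_cases h26 : m < 255
  · exact rowsOKRange_spec 167 255 rows_ok_26 m (by omega) h26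
  exact rowsOKRange_spec 255 256 rows_ok_27 m (by omega) hm

end Cfsg.Agent.Lib.Helper9.E8Inv
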