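import Mathlib
import Cfsg.Prelude.Def_ChevE8
import Cfsg.Agent.Lib.Helper8.E8InvCox
import Cfsg.Agent.Lib.Helper9.E8InvCertB

set_option autoImplicit false

/-!
`E₈(q)`, `q` odd: every involution of the group is conjugate into the diagonal subgroup `H`.

An involution of `N` is `n_w h` with `w` acting as an involution; after a conjugation `w` maps
every fundamental root to its negative or to a positive root (`exists_conj_std`), and then it acts
as the longest element of `W_J`, `J` the set of the negated fundamental roots (`std_act_eq`); the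
table of the 256 subsets `J` gives a certified step, which decreases the number of negated roots.
-/

namespace Cfsg.Agent.Lib.Helper9.E8Inv

open Cfsg Cfsg.Lie Cfsg.Agent.Lib.Helper5.ChevSym Cfsg.Agent.Lib.Helper5.ChevStruct
  Cfsg.Agent.Lib.Helper1.InvolN Cfsg.Agent.Lib.Helper1.InvolMoves
  Cfsg.Agent.Lib.Helper9.InvolX Cfsg.Agent.Lib.Helper8.E8Inv

variable {F : Type*} [Field F]

/-- a mask with prescribed bits -/
theorem exists_mask (n : ℕ) : ∀ b : ℕ → Bool, ∃ m < 2 ^ n, ∀ j < n, m.testBit j = b j := by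
  induction n with
  | zero => intro b; exact ⟨0, by norm_num, fun j hj => absurd hj (Nat.not_lt_zero j)⟩
  | succ n ih =>
    intro b
    obtain ⟨m, hm, h⟩ := ih (fun j => b (j + 1))
    refine ⟨Nat.bit (b 0) m, ?_, ?_⟩
    · rw [Nat.bit_val]
      cases b 0 <;> simp <;> omega
    · intro j hj
      cases j with
      | zero => exact Nat.testBit_bit_zero _ _
      | succ j =>
        rw [Nat.testBit_bit_succ]
        exact h j (by omega)

/-- what the check of the hypotheses of the comparison lemma gives -/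
theorem cox2OK_spec (m : ℕ) (u : List ℕ) (h : cox2OK m u = true) :
    Wd chevE8 u ∧
    (∀ j < chevE8.rank, m.testBit j = true → ∃ j' < chevE8.rank, m.testBit j' = true ∧
      wAct chevE8 u (chevE8.simple j) = chevE8.neg (chevE8.simple j')) ∧
    (∀ k < chevE8.rank, m.testBit k = false →
      chevE8.IsPosRoot (wAct chevE8 u (chevE8.simple k)) ∧
      ∃ k' < chevE8.rank, m.testBit k' = false ∧
        0 < co chevE8 (wAct chevE8 u (chevE8.simple k)) k') := by
  unfold cox2OK at h
  rw [Bool.and_eq_true, List.all_eq_true, List.all_eq_true] at h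
  obtain ⟨h1, h2⟩ := h
  refine ⟨?_, ?_, ?_⟩
  · intro i hi
    have := h1 i hi
    rwa [Nat.blt_eq] at this
  · intro j hj hb
    have := h2 j (List.mem_range.2 hj)
    rw [if_pos hb, List.any_eq_true] at this
    obtain ⟨j', hj', h3⟩ := this
    rw [Bool.and_eq_true, wActC_eq] at h3
    exact ⟨j', List.mem_range.1 hj', h3.1, Nat.eq_of_beq_eq_true h3.2⟩
  · intro k hk hb
    have := h2 k (List.mem_range.2 hk)
    rw [if_neg (by rw [hb]; exact Bool.false_ne_true), Bool.and_eq_true, List.any_eq_true,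
      wActC_eq] at this
    obtain ⟨h3, k', hk', h4⟩ := this
    rw [Bool.and_eq_true] at h4
    refine ⟨of_decide_eq_true h3, k', List.mem_range.1 hk', ?_, of_decide_eq_true h4.2⟩
    have := h4.1
    simpa using this

/-- the step: an involution `n_w h` is conjugate into `H`, or to an involution `n_{w'} h'` with
fewer negated roots -/
theorem step_E8 [Fintype F] (hodd : Odd (Fintype.card F)) (w : List ℕ) (hw : Wd chevE8 w)
    (h : GL chevE8.Idx F) (hh : h ∈ chevE8.diagonalSubgroup F)
    (hmm : (wGL chevE8 memE8' w * h) * (wGL chevE8 memE8' w * h) = 1) :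
    (∃ g ∈ chevE8.group F, g * (wGL chevE8 memE8' w * h) * g⁻¹ ∈ chevE8.diagonalSubgroup F) ∨
    ∃ g ∈ chevE8.group F, ∃ w' : List ℕ, Wd chevE8 w' ∧
      phiCount chevE8 w' < phiCount chevE8 w ∧
      ∃ h' ∈ chevE8.diagonalSubgroup F,
        (wGL chevE8 memE8' w' * h') * (wGL chevE8 memE8' w' * h') = 1 ∧
        g * (wGL chevE8 memE8' w * h) * g⁻¹ = wGL chevE8 memE8' w' * h' := by
  have hinv := act_invol chevE8 memE8' w hw h hh hmm
  obtain ⟨v, hv, hstd⟩ := exists_conj_std w hw hinv
  obtain ⟨h1, hh1, e1⟩ := conj_word chevE8 memE8' w v hw hv h hh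
  have hw1 : Wd chevE8 (v ++ w ++ v.reverse) := (hv.append hw).append hv.reverse
  have hmm1 : (wGL chevE8 memE8' (v ++ w ++ v.reverse) * h1)
      * (wGL chevE8 memE8' (v ++ w ++ v.reverse) * h1) = 1 := by
    rw [← e1]
    exact conj_sq_eq_one _ _ hmm
  have hinv1 := act_invol chevE8 memE8' _ hw1 h1 hh1 hmm1
  have hphi1 := phiCount_conj v w hv hw
  have hvG : wGL chevE8 memE8' v ∈ chevE8.group F :=
    monomial_le_group chevE8 memE8' (wGL_mem chevE8 memE8' v hv)
  obtain ⟨m, hm, hbits⟩ := exists_mask 8 (fun j =>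
    decide (wAct chevE8 (v ++ w ++ v.reverse) (chevE8.simple j) = chevE8.neg (chevE8.simple j)))
  have hrow := rows_ok m hm
  unfold rowOK8 at hrow
  rw [Bool.and_eq_true] at hrow
  obtain ⟨hc2, hrow⟩ := hrow
  obtain ⟨hu, hu1, hu0⟩ := cox2OK_spec m _ hc2
  have hJ1 : ∀ j < chevE8.rank, m.testBit j = true →
      wAct chevE8 (v ++ w ++ v.reverse) (chevE8.simple j) = chevE8.neg (chevE8.simple j) := by
    intro j hj hb
    rw [hbits j hj] at hb
    exact of_decide_eq_true hb
  have hJ0 : ∀ j < chevE8.rank, m.testBit j = false →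
      chevE8.IsPosRoot (wAct chevE8 (v ++ w ++ v.reverse) (chevE8.simple j)) := by
    intro j hj hb
    rw [hbits j hj] at hb
    rcases hstd j hj with h3 | h3
    · exact absurd h3 (of_decide_eq_false hb)
    · exact h3
  have hact := std_act_eq _ hw1 hinv1 (fun j => m.testBit j) hJ1 hJ0 _ hu hu1 hu0
  obtain ⟨h2, hh2, e2⟩ := replace_word chevE8 memE8' _ _ hw1 hu.reverse hact h1 hh1
  split at hrow
  · -- the mask is zero: the word acts trivially
    left
    have hm0 : m = 0 := Nat.eq_of_beq_eq_true hrow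
    have htriv := act_trivial_of_simple_pos _ hw1 (fun j hj => hJ0 j hj (by rw [hm0]; simp))
    refine ⟨wGL chevE8 memE8' v, hvG, ?_⟩
    rw [e1]
    exact mem_diag_of_act_trivial chevE8 memE8' _ hw1 h1 hh1 htriv
  · -- the longest element of `W_J` does not negate `J`: impossible
    exfalso
    rw [Bool.and_eq_true, Bool.and_eq_true, Nat.blt_eq, wActC_eq] at hrow
    obtain ⟨⟨hi, hb⟩, hne⟩ := hrow
    have h3 := hJ1 _ hi hb
    rw [hact _ (simple_lt chevE8 memE8' _ hi)] at h3
    rw [h3] at hne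
    simp at hne
  · -- a certified step
    right
    have hmm2 : (wGL chevE8 memE8' (uTab.getD m []).reverse * h2)
        * (wGL chevE8 memE8' (uTab.getD m []).reverse * h2) = 1 := by
      rw [← e2]
      exact hmm1
    obtain ⟨g, hg, w', hw', hlt, h', hh', k1, k2⟩ :=
      step_of_cert chevE8 memE8' hodd _ hu.reverse _ hrow h2 hh2 hmm2
    rw [← phiCount_congr chevE8 _ _ hact, hphi1] at hlt
    refine ⟨g * wGL chevE8 memE8' v, mul_mem hg hvG, w', hw', hlt, h', hh', k1, ?_⟩
    rw [← k2, ← e2, ← e1]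
    group

/-- the induction: every involution `n_w h` of `N` is conjugate into `H` -/
theorem invol_monomial_to_diag_E8 [Fintype F] (hodd : Odd (Fintype.card F)) :
    ∀ (n : ℕ) (w : List ℕ), Wd chevE8 w → phiCount chevE8 w = n →
      ∀ h ∈ chevE8.diagonalSubgroup F,
      (wGL chevE8 memE8' w * h) * (wGL chevE8 memE8' w * h) = 1 →
      ∃ g ∈ chevE8.group F, g * (wGL chevE8 memE8' w * h) * g⁻¹ ∈ chevE8.diagonalSubgroup F := by
  intro n
  induction n using Nat.strong_induction_on with
  | _ n ih =>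
    intro w hw hn h hh hmm
    rcases step_E8 hodd w hw h hh hmm with h1 | ⟨g, hg, w', hw', hlt, h', hh', k1, k2⟩
    · exact h1
    · rw [hn] at hlt
      obtain ⟨g', hg', k3⟩ := ih _ hlt w' hw' rfl h' hh' k1
      refine ⟨g' * g, mul_mem hg' hg, ?_⟩
      have : g' * g * (wGL chevE8 memE8' w * h) * (g' * g)⁻¹
          = g' * (g * (wGL chevE8 memE8' w * h) * g⁻¹) * g'⁻¹ := by group
      rw [this, k2]
      exact k3

/-- **P1**: every involution of `E₈(q)`, `q` odd, is conjugate to an element of `H` -/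
theorem invol_to_diag_E8 [Fintype F] (hodd : Odd (Fintype.card F)) (t : GL chevE8.Idx F)
    (ht : t ∈ chevE8.group F) (ht2 : t * t = 1) :
    ∃ g ∈ chevE8.group F, g * t * g⁻¹ ∈ chevE8.diagonalSubgroup F := by
  obtain ⟨g₁, hg₁, n, hn, hnn, e⟩ := invol_conj_monomial chevE8 memE8' hodd t ht ht2
  obtain ⟨w, hw, h, hh, rfl⟩ := exists_word_of_mem_monomial chevE8 memE8' n hn
  obtain ⟨g, hg, k⟩ := invol_monomial_to_diag_E8 hodd _ w hw rfl h hh hnn
  refine ⟨g * g₁, mul_mem hg hg₁, ?_⟩
  have : g * g₁ * t * (g * g₁)⁻¹ = g * (g₁ * t * g₁⁻¹) * g⁻¹ := by group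
  rw [this, e]
  exact k

end Cfsg.Agent.Lib.Helper9.E8Inv
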