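import Mathlib
import Cfsg.Prelude
import Cfsg.Agent.Lib.Helper3.TTS7
import Cfsg.Agent.Lib.Helper3.TT1
import Cfsg.Agent.Lib.Helper1.PCore

set_option maxHeartbeats 1600000
set_option autoImplicit false
set_option linter.unusedVariables false
set_option linter.unusedSimpArgs false
set_option linter.unusedSectionVars false
set_option linter.style.longLine false

namespace Cfsg.Agent.Lib.Helper9.End5

open Cfsg Cfsg.Agent.Lib.Helper3.TT

variable {G : Type*} [Group G]

/-- the commuting neighbours of `d` in `D` -/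
abbrev Nbr (D : Set G) (d : G) : Set G := {y : G | y ∈ D ∧ y ≠ d ∧ Commute d y}

/-- In a 3-set of pairwise non-commuting neighbours, two distinct members and their conjugate exhaust the set. -/
theorem nbr_eq_triple [Finite G] {D : Set G} (h : TSet D)
    (hk : ∀ d ∈ D, (Nbr D d).ncard = 3)
    (hlam : ∀ d ∈ D, ∀ y ∈ D, ∀ y' ∈ D, y ≠ d → y' ≠ d → Commute d y → Commute d y' → y ≠ y' → ¬ Commute y y')
    {u a b : G} (hu : u ∈ D) (ha : a ∈ Nbr D u) (hb : b ∈ Nbr D u) (hab : a ≠ b) :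
    Nbr D u = {a, b, a * b * a} ∧ ¬ Commute a b := by
  have hnc : ¬ Commute a b := hlam u hu a ha.1 b hb.1 ha.2.1 hb.2.1 ha.2.2 hb.2.2 hab
  refine ⟨?_, hnc⟩
  have ha2 := h.sq a ha.1
  have hb2 := h.sq b hb.1
  have hmem : a * b * a ∈ Nbr D u := by
    refine ⟨h.conj_mem ha.1 hb.1, ?_, ?_⟩
    · intro he
      apply hb.2.1
      have h1 : b = a * (a * b * a) * a := by
        calc b = (a * a) * b * (a * a) := by rw [ha2]; simp
          _ = a * (a * b * a) * a := by group
      rw [h1, he]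
      have := ha.2.2.eq
      calc a * u * a = u * a * a := by rw [← this]
        _ = u := by rw [mul_assoc, ha2, mul_one]
    · exact (ha.2.2.mul_right hb.2.2).mul_right ha.2.2
  have hne1 : a * b * a ≠ a := by
    intro he
    apply hab
    have : b * a = 1 := by
      have : a * (b * a) = a * 1 := by rw [mul_one, ← mul_assoc]; exact he
      exact mul_left_cancel this
    calc a = (b * b) * a := by rw [hb2, one_mul]
      _ = b * (b * a) := by group
      _ = b := by rw [this, mul_one]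
  have hne2 : a * b * a ≠ b := by
    intro he
    apply hnc
    show a * b = b * a
    calc a * b = a * b * (a * a) := by rw [ha2, mul_one]
      _ = (a * b * a) * a := by group
      _ = b * a := by rw [he]
  symm
  apply Set.eq_of_subset_of_ncard_le
  · intro z hz
    rcases hz with rfl | rfl | rfl
    · exact ha
    · exact hb
    · exact hmem
  · rw [hk u hu]
    have : ({a, b, a * b * a} : Set G).ncard = 3 := by
      rw [Set.ncard_eq_three]
      exact ⟨a, b, a * b * a, hab, hne1.symm, hne2.symm, rfl⟩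
    rw [this]
  · exact Set.toFinite _


theorem comm_of_conj_eq {g c : G} (h : g * c * g⁻¹ = c) : Commute g c := by
  show g * c = c * g
  calc g * c = (g * c * g⁻¹) * g := by group
    _ = c * g := by rw [h]

theorem conj_inj {g a b : G} (h : g * a * g⁻¹ = g * b * g⁻¹) : a = b := by
  simpa using h

theorem conj_eq_of_comm {g c : G} (h : Commute g c) : g * c * g⁻¹ = c := by
  rw [h.eq]; group

/-- an element centralizing `d` and two of its three neighbours has central square -/
theorem sq_comm_all [Finite G] {D : Set G} (h : TSet D)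
    (hk : ∀ d ∈ D, (Nbr D d).ncard = 3)
    (hlam : ∀ d ∈ D, ∀ y ∈ D, ∀ y' ∈ D, y ≠ d → y' ≠ d → Commute d y → Commute d y' → y ≠ y' → ¬ Commute y y')
    (hmu : ∀ d ∈ D, ∀ c ∈ D, ¬ Commute d c → ∃ u ∈ D, u ≠ d ∧ u ≠ c ∧ Commute d u ∧ Commute c u)
    {d y1 y2 g : G} (hd : d ∈ D) (h1 : y1 ∈ Nbr D d) (h2 : y2 ∈ Nbr D d) (h12 : y1 ≠ y2)
    (hgd : Commute g d) (hg1 : Commute g y1) (hg2 : Commute g y2) :
    ∀ c ∈ D, Commute (g * g) c := by
  obtain ⟨hN, hnc⟩ := nbr_eq_triple h hk hlam hd h1 h2 h12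
  have hgN : ∀ z ∈ Nbr D d, Commute g z := by
    intro z hz
    rw [hN] at hz
    rcases hz with rfl | rfl | rfl
    · exact hg1
    · exact hg2
    · exact (hg1.mul_right hg2).mul_right hg1
  intro c hc
  by_cases hcd : Commute d c
  · by_cases hcd' : c = d
    · rw [hcd']; exact hgd.mul_left hgd
    · have := hgN c ⟨hc, hcd', hcd⟩
      exact this.mul_left this
  · obtain ⟨u, hu, hud, huc, hdu, hcu⟩ := hmu d hd c hc hcd
    have hgu : Commute g u := hgN u ⟨hu, hud, hdu⟩
    have hdc : d ≠ c := by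
      intro he; apply hcd; rw [he]
    have hdU : d ∈ Nbr D u := ⟨hd, hud.symm, hdu.symm⟩
    have hcU : c ∈ Nbr D u := ⟨hc, huc.symm, hcu.symm⟩
    obtain ⟨hU, -⟩ := nbr_eq_triple h hk hlam hu hdU hcU hdc
    have hc' : g * c * g⁻¹ ∈ Nbr D u := by
      refine ⟨h.conj g c hc, ?_, ?_⟩
      · intro he
        apply huc
        have : g * c * g⁻¹ = g * u * g⁻¹ := by rw [he, conj_eq_of_comm hgu]
        exact (conj_inj this).symm
      · have : Commute (g * u * g⁻¹) (g * c * g⁻¹) := by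
          show g * u * g⁻¹ * (g * c * g⁻¹) = g * c * g⁻¹ * (g * u * g⁻¹)
          have := hcu.symm.eq
          calc g * u * g⁻¹ * (g * c * g⁻¹) = g * (u * c) * g⁻¹ := by group
            _ = g * (c * u) * g⁻¹ := by rw [this]
            _ = g * c * g⁻¹ * (g * u * g⁻¹) := by group
        rwa [conj_eq_of_comm hgu] at this
    rw [hU] at hc'
    rcases hc' with he | he | he
    · exfalso
      apply hdc
      have : g * c * g⁻¹ = g * d * g⁻¹ := by rw [he, conj_eq_of_comm hgd]
      exact (conj_inj this).symm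
    · have := comm_of_conj_eq he
      exact this.mul_left this
    · apply comm_of_conj_eq
      have hd2 := h.sq d hd
      calc g * g * c * (g * g)⁻¹ = g * (g * c * g⁻¹) * g⁻¹ := by group
        _ = g * (d * c * d) * g⁻¹ := by rw [he]
        _ = (g * d * g⁻¹) * (g * c * g⁻¹) * (g * d * g⁻¹) := by group
        _ = d * (d * c * d) * d := by rw [conj_eq_of_comm hgd, he]
        _ = (d * d) * c * (d * d) := by group
        _ = c := by rw [hd2]; simp


/-- the neighbours of `d` generate a copy of `S₃` -/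
theorem local_S3 [Finite G] {D : Set G} (h : TSet D)
    (hk : ∀ d ∈ D, (Nbr D d).ncard = 3)
    (hlam : ∀ d ∈ D, ∀ y ∈ D, ∀ y' ∈ D, y ≠ d → y' ≠ d → Commute d y → Commute d y' → y ≠ y' → ¬ Commute y y')
    {d : G} (hd : d ∈ D) :
    Nonempty (↥(Subgroup.closure (Nbr D d)) ≃* Equiv.Perm (Fin 3)) := by
  obtain ⟨y1, y2, y3, h12, h13, h23, hN⟩ := Set.ncard_eq_three.mp (hk d hd)
  have h1 : y1 ∈ Nbr D d := by rw [hN]; simp
  have h2 : y2 ∈ Nbr D d := by rw [hN]; simp
  obtain ⟨hN', hnc⟩ := nbr_eq_triple h hk hlam hd h1 h2 h12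
  have hcl : Subgroup.closure (Nbr D d) = Subgroup.closure {y1, y2} := by
    apply le_antisymm
    · rw [Subgroup.closure_le, hN']
      intro z hz
      rcases hz with rfl | rfl | rfl
      · exact Subgroup.subset_closure (by simp)
      · exact Subgroup.subset_closure (by simp)
      · exact Subgroup.mul_mem _ (Subgroup.mul_mem _ (Subgroup.subset_closure (by simp))
          (Subgroup.subset_closure (by simp))) (Subgroup.subset_closure (by simp))
    · apply Subgroup.closure_mono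
      intro z hz
      rcases hz with rfl | rfl
      · exact h1
      · exact h2
  rw [hcl]
  let a : ↥(Subgroup.closure ({y1, y2} : Set G)) := ⟨y1, Subgroup.subset_closure (by simp)⟩
  let b : ↥(Subgroup.closure ({y1, y2} : Set G)) := ⟨y2, Subgroup.subset_closure (by simp)⟩
  have hrel : Cfsg.Agent.Lib.Helper3.TTS.Rel6 a b :=
    ⟨Subtype.ext (h.sq y1 h1.1), Subtype.ext (h.sq y2 h2.1),
      Subtype.ext (by simpa [a, b] using h.cube h1.1 h2.1 hnc)⟩
  have hne : a ≠ b := fun he => h12 (congrArg Subtype.val he)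
  have htop : Subgroup.closure ({a, b} : Set ↥(Subgroup.closure ({y1, y2} : Set G))) = ⊤ := by
    have := Subgroup.closure_closure_coe_preimage (k := ({y1, y2} : Set G))
    convert this using 2
    ext z
    simp [a, b, Subtype.ext_iff]
  exact Cfsg.Agent.Lib.Helper3.TTS.iso_S3 a b hrel hne htop


/-- if `k` centralizes `d` and `y1`, then `k * k` centralizes the other neighbours -/
theorem sq_comm_nbr [Finite G] {D : Set G} (h : TSet D)
    (hk : ∀ d ∈ D, (Nbr D d).ncard = 3)
    (hlam : ∀ d ∈ D, ∀ y ∈ D, ∀ y' ∈ D, y ≠ d → y' ≠ d → Commute d y → Commute d y' → y ≠ y' → ¬ Commute y y')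
    {d y1 y2 k : G} (hd : d ∈ D) (h1 : y1 ∈ Nbr D d) (h2 : y2 ∈ Nbr D d) (h12 : y1 ≠ y2)
    (hkd : Commute k d) (hk1 : Commute k y1) : Commute (k * k) y2 := by
  obtain ⟨hN, hnc⟩ := nbr_eq_triple h hk hlam hd h1 h2 h12
  have hc' : k * y2 * k⁻¹ ∈ Nbr D d := by
    refine ⟨h.conj k y2 h2.1, ?_, ?_⟩
    · intro he
      apply h2.2.1
      have : k * y2 * k⁻¹ = k * d * k⁻¹ := by rw [he, conj_eq_of_comm hkd]
      exact conj_inj this
    · have : Commute (k * d * k⁻¹) (k * y2 * k⁻¹) := by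
        show k * d * k⁻¹ * (k * y2 * k⁻¹) = k * y2 * k⁻¹ * (k * d * k⁻¹)
        have := h2.2.2.eq
        calc k * d * k⁻¹ * (k * y2 * k⁻¹) = k * (d * y2) * k⁻¹ := by group
          _ = k * (y2 * d) * k⁻¹ := by rw [this]
          _ = k * y2 * k⁻¹ * (k * d * k⁻¹) := by group
      rwa [conj_eq_of_comm hkd] at this
  rw [hN] at hc'
  rcases hc' with he | he | he
  · exfalso
    apply h12
    have : k * y2 * k⁻¹ = k * y1 * k⁻¹ := by rw [he, conj_eq_of_comm hk1]
    exact (conj_inj this).symm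
  · have := comm_of_conj_eq he
    exact this.mul_left this
  · apply comm_of_conj_eq
    have hd2 := h.sq y1 h1.1
    calc k * k * y2 * (k * k)⁻¹ = k * (k * y2 * k⁻¹) * k⁻¹ := by group
      _ = k * (y1 * y2 * y1) * k⁻¹ := by rw [he]
      _ = (k * y1 * k⁻¹) * (k * y2 * k⁻¹) * (k * y1 * k⁻¹) := by group
      _ = y1 * (y1 * y2 * y1) * y1 := by rw [conj_eq_of_comm hk1, he]
      _ = (y1 * y1) * y2 * (y1 * y1) := by group
      _ = y2 := by rw [hd2]; simp

/-- an element commuting with all of a generating set is central -/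
theorem mem_center_of_comm_all {D : Set G} (hgen : Subgroup.closure D = ⊤) {z : G}
    (hz : ∀ c ∈ D, Commute z c) : z ∈ Subgroup.center G := by
  rw [Subgroup.mem_center_iff]
  intro x
  have hzc : z ∈ Subgroup.centralizer D := by
    rw [Subgroup.mem_centralizer_iff]
    intro c hc
    exact (hz c hc).eq.symm
  have hx : x ∈ Subgroup.centralizer (Subgroup.centralizer D : Set G) :=
    Subgroup.closure_le_centralizer_centralizer D (by rw [hgen]; exact Subgroup.mem_top x)
  rw [Subgroup.mem_centralizer_iff] at hx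
  exact (hx z hzc).symm

/-- a `3`-element centralizing `d` and one neighbour is trivial -/
theorem eq_one_of_fix [Finite G] {D : Set G} (h : TSet D) (hgen : Subgroup.closure D = ⊤)
    (hZ : Subgroup.center G = ⊥)
    (hk : ∀ d ∈ D, (Nbr D d).ncard = 3)
    (hlam : ∀ d ∈ D, ∀ y ∈ D, ∀ y' ∈ D, y ≠ d → y' ≠ d → Commute d y → Commute d y' → y ≠ y' → ¬ Commute y y')
    (hmu : ∀ d ∈ D, ∀ c ∈ D, ¬ Commute d c → ∃ u ∈ D, u ≠ d ∧ u ≠ c ∧ Commute d u ∧ Commute c u)
    {d y1 y2 k : G} (hd : d ∈ D) (h1 : y1 ∈ Nbr D d) (h2 : y2 ∈ Nbr D d) (h12 : y1 ≠ y2)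
    (hkd : Commute k d) (hk1 : Commute k y1) {m : ℕ} (hkm : k ^ (3 ^ m) = 1) : k = 1 := by
  have hk2 : Commute (k * k) y2 := sq_comm_nbr h hk hlam hd h1 h2 h12 hkd hk1
  have hall := sq_comm_all h hk hlam hmu hd h1 h2 h12 (hkd.mul_left hkd) (hk1.mul_left hk1) hk2
  have hc := mem_center_of_comm_all hgen hall
  rw [hZ, Subgroup.mem_bot] at hc
  have h4 : k ^ 4 = 1 := by
    rw [← hc]; simp only [pow_succ, pow_zero, one_mul, mul_assoc]
  have hcop : Nat.Coprime (3 ^ m) 4 := by
    apply Nat.Coprime.pow_left; norm_num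
  have := orderOf_dvd_of_pow_eq_one hkm
  have h4' := orderOf_dvd_of_pow_eq_one h4
  have : orderOf k = 1 := Nat.eq_one_of_dvd_coprimes hcop this h4'
  exact orderOf_eq_one_iff.mp this


theorem conj_mem_nbr {D : Set G} (h : TSet D) {d g y : G} (hgd : Commute g d) (hy : y ∈ Nbr D d) :
    g * y * g⁻¹ ∈ Nbr D d := by
  refine ⟨h.conj g y hy.1, ?_, ?_⟩
  · intro he
    apply hy.2.1
    have : g * y * g⁻¹ = g * d * g⁻¹ := by rw [he, conj_eq_of_comm hgd]
    exact conj_inj this
  · have : Commute (g * d * g⁻¹) (g * y * g⁻¹) := by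
      show g * d * g⁻¹ * (g * y * g⁻¹) = g * y * g⁻¹ * (g * d * g⁻¹)
      have := hy.2.2.eq
      calc g * d * g⁻¹ * (g * y * g⁻¹) = g * (d * y) * g⁻¹ := by group
        _ = g * (y * d) * g⁻¹ := by rw [this]
        _ = g * y * g⁻¹ * (g * d * g⁻¹) := by group
    rwa [conj_eq_of_comm hgd] at this

/-- the rotation subgroup of the local `S₃` is normalized by the centralizer of `d` -/
theorem conj_rot_mem [Finite G] {D : Set G} (h : TSet D)
    (hk : ∀ d ∈ D, (Nbr D d).ncard = 3)
    (hlam : ∀ d ∈ D, ∀ y ∈ D, ∀ y' ∈ D, y ≠ d → y' ≠ d → Commute d y → Commute d y' → y ≠ y' → ¬ Commute y y')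
    {d y1 y2 g : G} (hd : d ∈ D) (h1 : y1 ∈ Nbr D d) (h2 : y2 ∈ Nbr D d) (h12 : y1 ≠ y2)
    (hgd : Commute g d) : g * (y1 * y2) * g⁻¹ ∈ Subgroup.zpowers (y1 * y2) := by
  obtain ⟨hN, hnc⟩ := nbr_eq_triple h hk hlam hd h1 h2 h12
  have hs1 := h.sq y1 h1.1
  have hs2 := h.sq y2 h2.1
  have hbr := h.braid h1.1 h2.1 hnc
  have hinv : (y1 * y2)⁻¹ = y2 * y1 := by rw [mul_inv_rev, h.inv h1.1, h.inv h2.1]
  have hself : y1 * y2 ∈ Subgroup.zpowers (y1 * y2) := Subgroup.mem_zpowers _
  have hinvm : y2 * y1 ∈ Subgroup.zpowers (y1 * y2) := by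
    rw [← hinv]; exact Subgroup.inv_mem _ hself
  have hsplit : g * (y1 * y2) * g⁻¹ = (g * y1 * g⁻¹) * (g * y2 * g⁻¹) := by group
  rw [hsplit]
  have ha := conj_mem_nbr h hgd h1
  have hb := conj_mem_nbr h hgd h2
  have hne : g * y1 * g⁻¹ ≠ g * y2 * g⁻¹ := fun he => h12 (conj_inj he)
  rw [hN] at ha hb
  rcases ha with e1 | e1 | e1 <;> rcases hb with e2 | e2 | e2
  · exact absurd (e1.trans e2.symm) hne
  · rw [e1, e2]; exact hself
  · rw [e1, e2]
    have : y1 * (y1 * y2 * y1) = y2 * y1 := by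
      calc y1 * (y1 * y2 * y1) = (y1 * y1) * y2 * y1 := by group
        _ = y2 * y1 := by rw [hs1, one_mul]
    rw [this]; exact hinvm
  · rw [e1, e2]; exact hinvm
  · exact absurd (e1.trans e2.symm) hne
  · rw [e1, e2]
    have : y2 * (y1 * y2 * y1) = y1 * y2 := by
      rw [hbr]
      calc y2 * (y2 * y1 * y2) = (y2 * y2) * y1 * y2 := by group
        _ = y1 * y2 := by rw [hs2, one_mul]
    rw [this]; exact hself
  · rw [e1, e2]
    have : y1 * y2 * y1 * y1 = y1 * y2 := by
      rw [mul_assoc, hs1, mul_one]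
    rw [this]; exact hself
  · rw [e1, e2]
    have : y1 * y2 * y1 * y2 = y2 * y1 := by
      rw [hbr, mul_assoc, hs2, mul_one]
    rw [this]; exact hinvm
  · exact absurd (e1.trans e2.symm) hne

end Cfsg.Agent.Lib.Helper9.End5
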