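import Mathlib
import Cfsg.Prelude
import Cfsg.Agent.Lib.Helper9.End5A
import Cfsg.Agent.Lib.Helper1.Dv8
import Cfsg.Agent.S5365

set_option maxHeartbeats 1600000
set_option autoImplicit false
set_option linter.unusedVariables false
set_option linter.unusedSimpArgs false
set_option linter.unusedSectionVars false
set_option linter.style.longLine false

namespace Cfsg.Agent.Lib.Helper9.End5

open Cfsg Cfsg.Agent.Lib.Helper3.TT

variable {G : Type*} [Group G]

theorem card_pCore_three [Finite G] {D : Set G} (h : TSet D) (hgen : Subgroup.closure D = ⊤)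
    (hZ : Subgroup.center G = ⊥)
    (hk : ∀ d ∈ D, (Nbr D d).ncard = 3)
    (hlam : ∀ d ∈ D, ∀ y ∈ D, ∀ y' ∈ D, y ≠ d → y' ≠ d → Commute d y → Commute d y' → y ≠ y' → ¬ Commute y y')
    (hmu : ∀ d ∈ D, ∀ c ∈ D, ¬ Commute d c → ∃ u ∈ D, u ≠ d ∧ u ≠ c ∧ Commute d u ∧ Commute c u)
    {d : G} (hd : d ∈ D) :
    Nat.card (Cfsg.pCore 3 ↥(Subgroup.centralizer ({d} : Set G))) = 3 := by
  classical
  have : Fact (Nat.Prime 3) := ⟨Nat.prime_three⟩
  obtain ⟨y1, y2, y3, h12, h13, h23, hN⟩ := Set.ncard_eq_three.mp (hk d hd)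
  have h1 : y1 ∈ Nbr D d := by rw [hN]; simp
  have h2 : y2 ∈ Nbr D d := by rw [hN]; simp
  obtain ⟨hN', hnc⟩ := nbr_eq_triple h hk hlam hd h1 h2 h12
  have hmemC : ∀ g : G, g ∈ Subgroup.centralizer ({d} : Set G) ↔ Commute g d := by
    intro g
    rw [Subgroup.mem_centralizer_iff]
    constructor
    · intro hg; exact (hg d rfl).symm
    · intro hg x hx; rw [Set.mem_singleton_iff.mp hx]; exact hg.eq.symm
  have hO : IsPGroup 3 (Cfsg.pCore 3 ↥(Subgroup.centralizer ({d} : Set G))) :=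
    Cfsg.Agent.Lib.Helper1.pCore_isPGroup 3
  apply le_antisymm
  · -- upper bound
    have hcardN : Nat.card ↥(Nbr D d) = 3 := by rw [Nat.card_coe_set_eq, hk d hd]
    let f : ↥(Cfsg.pCore 3 ↥(Subgroup.centralizer ({d} : Set G))) → ↥(Nbr D d) := fun g =>
      ⟨g.1.1 * y1 * (g.1.1)⁻¹, conj_mem_nbr h ((hmemC _).mp g.1.2) h1⟩
    refine le_trans (Nat.card_le_card_of_injective f ?_) hcardN.le
    intro g g' hgg
    have hval : g.1.1 * y1 * (g.1.1)⁻¹ = g'.1.1 * y1 * (g'.1.1)⁻¹ := congrArg Subtype.val hgg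
    obtain ⟨m, hm⟩ := hO (g'⁻¹ * g)
    have hm' : ((g'.1.1)⁻¹ * g.1.1) ^ (3 ^ m) = 1 := by
      have := congrArg (fun x : ↥(Cfsg.pCore 3 ↥(Subgroup.centralizer ({d} : Set G))) => x.1.1) hm
      simpa using this
    have hkd : Commute ((g'.1.1)⁻¹ * g.1.1) d :=
      (((hmemC _).mp g'.1.2).inv_left).mul_left ((hmemC _).mp g.1.2)
    have hk1 : Commute ((g'.1.1)⁻¹ * g.1.1) y1 := by
      apply comm_of_conj_eq
      calc (g'.1.1)⁻¹ * g.1.1 * y1 * ((g'.1.1)⁻¹ * g.1.1)⁻¹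
          = (g'.1.1)⁻¹ * (g.1.1 * y1 * (g.1.1)⁻¹) * g'.1.1 := by group
        _ = (g'.1.1)⁻¹ * (g'.1.1 * y1 * (g'.1.1)⁻¹) * g'.1.1 := by rw [hval]
        _ = y1 := by group
    have := eq_one_of_fix h hgen hZ hk hlam hmu hd h1 h2 h12 hkd hk1 hm'
    have heq : g.1.1 = g'.1.1 := by
      have := inv_mul_eq_one.mp this
      exact this.symm
    exact Subtype.ext (Subtype.ext heq)
  · -- lower bound
    have hn3 : (y1 * y2) ^ 3 = 1 := h.cube h1.1 h2.1 hnc
    have hn1 : y1 * y2 ≠ 1 := by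
      intro he
      apply h12
      have : y1 = y2⁻¹ := eq_inv_of_mul_eq_one_left he
      rw [this, h.inv h2.1]
    have hord : orderOf (y1 * y2) = 3 := orderOf_eq_prime hn3 hn1
    have hcz : Nat.card (Subgroup.zpowers (y1 * y2)) = 3 := by rw [Nat.card_zpowers, hord]
    have hnC : Commute (y1 * y2) d := (h1.2.2.symm).mul_left h2.2.2.symm
    have hzle : Subgroup.zpowers (y1 * y2) ≤ Subgroup.centralizer ({d} : Set G) := by
      rw [Subgroup.zpowers_le]; exact (hmemC _).mpr hnC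
    set Z3 : Subgroup ↥(Subgroup.centralizer ({d} : Set G)) :=
      (Subgroup.zpowers (y1 * y2)).subgroupOf (Subgroup.centralizer ({d} : Set G)) with hZ3
    have hcZ3 : Nat.card Z3 = 3 := by
      rw [← hcz]; exact Nat.card_congr (Subgroup.subgroupOfEquivOfLe hzle).toEquiv
    have hnorm : Z3.Normal := by
      constructor
      intro x hx g
      rw [hZ3, Subgroup.mem_subgroupOf] at hx ⊢
      obtain ⟨j, hj⟩ := Subgroup.mem_zpowers_iff.mp hx
      have : ((g * x * g⁻¹ : ↥(Subgroup.centralizer ({d} : Set G))) : G)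
          = (g.1 * (y1 * y2) * g.1⁻¹) ^ j := by
        rw [conj_zpow, hj]; simp
      rw [this]
      exact Subgroup.zpow_mem _ (conj_rot_mem h hk hlam hd h1 h2 h12 ((hmemC _).mp g.2)) j
    have hp : IsPGroup 3 Z3 := IsPGroup.of_card (n := 1) (by rw [hcZ3]; norm_num)
    have hle := Cfsg.Agent.Lib.Helper1.le_pCore hnorm hp
    calc 3 = Nat.card Z3 := hcZ3.symm
      _ ≤ _ := Subgroup.card_le_of_le hle


/-- END piece of S1615: a 3-transposition group without solvable normal subgroups whose commuting graph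
is locally a 3-coclique with `μ ≥ 1` is `S₅`. -/
theorem end_s5 {G : Type*} [Group G] [Finite G] (hsol : ∀ N : Subgroup G, N.Normal → Group.IsSolvable ↥N → N = ⊥) {D : Set G} (hD : Cfsg.IsThreeTranspositionSet D) (hconj : ∀ g : G, ∀ d ∈ D, g * d * g⁻¹ ∈ D) (hgen : Subgroup.closure D = ⊤) (hne : D.Nonempty) (hk : ∀ d ∈ D, {y : G | y ∈ D ∧ y ≠ d ∧ Commute d y}.ncard = 3) (hlam : ∀ d ∈ D, ∀ y ∈ D, ∀ y' ∈ D, y ≠ d → y' ≠ d → Commute d y → Commute d y' → y ≠ y' → ¬ Commute y y') (hmu : ∀ d ∈ D, ∀ c ∈ D, ¬ Commute d c → ∃ u ∈ D, u ≠ d ∧ u ≠ c ∧ Commute d u ∧ Commute c u) : Nonempty (G ≃* Equiv.Perm (Fin 5)) := by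
  have h := TSet.of_set hD hconj
  have hZ : Subgroup.center G = ⊥ :=
    hsol _ inferInstance (Group.isSolvable_of_comm (fun x y => Subtype.ext (Subgroup.mem_center_iff.mp y.2 x.1)))
  have hloc : ∀ d ∈ D, Nonempty (↥(Subgroup.closure {y : G | y ∈ D ∧ y ≠ d ∧ Commute d y}) ≃* Equiv.Perm (Fin 3)) ∧ Nat.card (Cfsg.pCore 3 ↥(Subgroup.centralizer ({d} : Set G))) = 3 :=
    fun d hd => ⟨local_S3 h hk hlam hd, card_pCore_three h hgen hZ hk hlam hmu hd⟩
  rcases Cfsg.Agent.S5365.result hD hconj hne hloc with ⟨⟨e⟩⟩ | ⟨⟨e⟩⟩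
  · exact ⟨((MulEquiv.subgroupCongr hgen).trans Subgroup.topEquiv).symm.trans e⟩
  · exfalso
    have e' : G ≃* Equiv.Perm (Fin 3) × Equiv.Perm (Fin 3) :=
      ((MulEquiv.subgroupCongr hgen).trans Subgroup.topEquiv).symm.trans e
    have : Group.IsSolvable (Equiv.Perm (Fin 3)) :=
      Cfsg.Agent.Lib.Helper1.Dv.perm_solvable_le_four (by simp)
    have hsG : Group.IsSolvable G := Group.isSolvable_of_isSolvable_injective (f := e'.toMonoidHom) e'.injective
    have hsT : Group.IsSolvable ↥(⊤ : Subgroup G) :=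
      Group.isSolvable_of_isSolvable_injective (f := (⊤ : Subgroup G).subtype) (Subgroup.subtype_injective ⊤)
    have htop : (⊤ : Subgroup G) = ⊥ := hsol ⊤ inferInstance hsT
    obtain ⟨d, hd⟩ := hne
    have : d ∈ (⊥ : Subgroup G) := htop ▸ Subgroup.mem_top d
    exact h.ne_one d hd (Subgroup.mem_bot.mp this)

end Cfsg.Agent.Lib.Helper9.End5
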