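import Mathlib

set_option maxHeartbeats 1600000
set_option linter.unusedVariables false
set_option linter.unusedSimpArgs false
set_option linter.unusedSectionVars false
set_option linter.style.longLine false

namespace Cfsg.Agent.Lib.Helper9.Srg

/-- trace of an idempotent real matrix is a natural number -/
theorem trace_idem_nat {V : Type*} [Fintype V] [DecidableEq V] (P : Matrix V V ℝ) (hP : P * P = P) :
    ∃ f : ℕ, P.trace = (f : ℝ) := by
  have hidem : IsIdempotentElem (Matrix.toLin' P) := by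
    show Matrix.toLin' P * Matrix.toLin' P = Matrix.toLin' P
    rw [Module.End.mul_eq_comp, ← Matrix.toLin'_mul, hP]
  refine ⟨Module.finrank ℝ (LinearMap.range (Matrix.toLin' P)), ?_⟩
  rw [← Matrix.trace_toLin'_eq]
  exact (LinearMap.IsIdempotentElem.isProj_range _ hidem).trace

section
variable {V : Type*} [Fintype V] [DecidableEq V] (adj : V → V → Prop) [DecidableRel adj]

/-- adjacency matrix -/
def adjM : Matrix V V ℝ := Matrix.of fun a b => if adj a b then (1:ℝ) else 0

/-- all ones matrix -/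
def onesM : Matrix V V ℝ := Matrix.of fun _ _ => (1:ℝ)

theorem adjM_mul_apply (symm : ∀ a b, adj a b → adj b a) (a b : V) :
    (adjM adj * adjM adj) a b = ((Finset.univ.filter (fun c => adj a c ∧ adj b c)).card : ℝ) := by
  rw [Matrix.mul_apply, Finset.card_filter]
  push_cast
  apply Finset.sum_congr rfl
  intro c _
  have hs : adj c b ↔ adj b c := ⟨symm c b, symm b c⟩
  by_cases h1 : adj a c <;> by_cases h2 : adj b c <;> simp [adjM, h1, h2, hs]

theorem adjM_sq (symm : ∀ a b, adj a b → adj b a) (irrefl : ∀ a, ¬ adj a a) (t r : ℕ)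
    (hdeg : ∀ a, (Finset.univ.filter (fun c => adj a c)).card = t)
    (hlam : ∀ a b, adj a b → (Finset.univ.filter (fun c => adj a c ∧ adj b c)).card = 0)
    (hmu : ∀ a b, a ≠ b → ¬ adj a b → (Finset.univ.filter (fun c => adj a c ∧ adj b c)).card = r) :
    adjM adj * adjM adj = ((t:ℝ) - r) • (1 : Matrix V V ℝ) - (r:ℝ) • adjM adj + (r:ℝ) • onesM := by
  ext a b
  rw [adjM_mul_apply adj symm]
  simp only [Matrix.add_apply, Matrix.sub_apply, Matrix.smul_apply, Matrix.one_apply, smul_eq_mul, adjM, onesM, Matrix.of_apply]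
  by_cases hab : a = b
  · subst hab
    have : (Finset.univ.filter (fun c => adj a c ∧ adj a c)) = (Finset.univ.filter (fun c => adj a c)) := by
      ext c; simp
    rw [this, hdeg a]
    simp [irrefl a]
  · by_cases h : adj a b
    · rw [hlam a b h]; simp [hab, h]
    · rw [hmu a b hab h]; simp [hab, h]

theorem adjM_mul_ones (t : ℕ) (hdeg : ∀ a, (Finset.univ.filter (fun c => adj a c)).card = t) :
    adjM adj * onesM = (t:ℝ) • (onesM : Matrix V V ℝ) := by
  ext a b
  rw [Matrix.mul_apply]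
  simp only [adjM, onesM, Matrix.of_apply, Matrix.smul_apply, smul_eq_mul, mul_one]
  rw [← hdeg a, Finset.card_filter]
  push_cast
  rfl

theorem ones_mul_adjM (symm : ∀ a b, adj a b → adj b a) (t : ℕ) (hdeg : ∀ a, (Finset.univ.filter (fun c => adj a c)).card = t) :
    onesM * adjM adj = (t:ℝ) • (onesM : Matrix V V ℝ) := by
  ext a b
  rw [Matrix.mul_apply]
  simp only [adjM, onesM, Matrix.of_apply, Matrix.smul_apply, smul_eq_mul, mul_one, one_mul]
  rw [← hdeg b, Finset.card_filter]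
  push_cast
  apply Finset.sum_congr rfl
  intro c _
  have hs : adj c b ↔ adj b c := ⟨symm c b, symm b c⟩
  simp [hs]

theorem ones_mul_ones : (onesM : Matrix V V ℝ) * onesM = (Fintype.card V : ℝ) • (onesM : Matrix V V ℝ) := by
  ext a b
  rw [Matrix.mul_apply]
  simp [onesM]

theorem trace_adjM (irrefl : ∀ a, ¬ adj a a) : (adjM adj).trace = 0 := by
  simp [Matrix.trace, adjM, irrefl]

theorem trace_onesM : (onesM : Matrix V V ℝ).trace = (Fintype.card V : ℝ) := by
  simp [Matrix.trace, onesM]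

end


theorem srg_integrality {V : Type*} [Fintype V] [DecidableEq V] [Nonempty V] (adj : V → V → Prop) [DecidableRel adj] (symm : ∀ a b, adj a b → adj b a) (irrefl : ∀ a, ¬ adj a a) (t r : ℕ) (ht : 3 ≤ t) (hr : 1 ≤ r) (hrt : r ≤ t) (hdeg : ∀ a, (Finset.univ.filter (fun c => adj a c)).card = t) (hlam : ∀ a b, adj a b → (Finset.univ.filter (fun c => adj a c ∧ adj b c)).card = 0) (hmu : ∀ a b, a ≠ b → ¬ adj a b → (Finset.univ.filter (fun c => adj a c ∧ adj b c)).card = r) : ∃ s : ℕ, s * s = r * r + 4 * (t - r) := by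
  classical
  set n : ℕ := Fintype.card V with hn
  have hn0 : 0 < n := Fintype.card_pos
  have hn0' : (n:ℝ) ≠ 0 := by exact_mod_cast hn0.ne'
  set A := adjM adj with hA
  set J : Matrix V V ℝ := onesM with hJ
  have hAA : A * A = ((t:ℝ) - r) • (1 : Matrix V V ℝ) - (r:ℝ) • A + (r:ℝ) • J := adjM_sq adj symm irrefl t r hdeg hlam hmu
  have hAJ : A * J = (t:ℝ) • J := adjM_mul_ones adj t hdeg
  have hJA : J * A = (t:ℝ) • J := ones_mul_adjM adj symm t hdeg
  have hJJ : J * J = (n:ℝ) • J := ones_mul_ones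
  have hcount : (r:ℝ) * n = t^2 + r * t - t + r := by
    have h1 : A * A * J = ((t:ℝ)^2) • J := by
      rw [Matrix.mul_assoc, hAJ, Matrix.mul_smul, hAJ, smul_smul]; ring_nf
    rw [hAA] at h1
    simp only [add_mul, sub_mul, smul_mul_assoc, Matrix.one_mul, hAJ, hJJ, smul_smul] at h1
    obtain ⟨a₀⟩ := ‹Nonempty V›
    have h2 := congrFun (congrFun h1 a₀) a₀
    simp [onesM, J] at h2
    linarith
  by_contra hns
  have hirr : Irrational (Real.sqrt ((r * r + 4 * (t - r) : ℕ) : ℝ)) := by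
    rw [irrational_sqrt_natCast_iff]
    rintro ⟨s, hs⟩
    exact hns ⟨s, hs.symm⟩
  set Δ : ℝ := ((r * r + 4 * (t - r) : ℕ) : ℝ) with hΔ
  have hr1 : (1:ℝ) ≤ r := by exact_mod_cast hr
  have hrt' : (r:ℝ) ≤ t := by exact_mod_cast hrt
  have ht3 : (3:ℝ) ≤ t := by exact_mod_cast ht
  have hΔ' : Δ = (r:ℝ)^2 + 4 * ((t:ℝ) - r) := by
    rw [hΔ]; push_cast [Nat.cast_sub hrt]; ring
  set δ := Real.sqrt Δ with hδ
  have hΔpos : 0 < Δ := by rw [hΔ']; nlinarith
  have hδ2 : δ * δ = Δ := Real.mul_self_sqrt hΔpos.le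
  have hδpos : 0 < δ := Real.sqrt_pos.mpr hΔpos
  set τ : ℝ := (-(r:ℝ) - δ) / 2 with hτ
  set c : ℝ := ((t:ℝ) - τ) / n with hc
  have hcn : c * n = t - τ := by rw [hc]; field_simp
  set F : Matrix V V ℝ := A - τ • (1 : Matrix V V ℝ) - c • J with hF
  have hτ' : 2 * τ + r + δ = 0 := by rw [hτ]; ring
  have hR2 : δ * δ - (r:ℝ)^2 - 4 * ((t:ℝ) - r) = 0 := by rw [hδ2, hΔ']; ring
  have hR3 : c * n - t + τ = 0 := by linarith [hcn]
  have hR4 : (r:ℝ) * n - (t:ℝ)^2 - r*t + t - r = 0 := by linarith [hcount]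
  have key : ((r:ℝ) - c * (t - τ - δ)) * n = 0 := by
    linear_combination hR4 - (t - τ - δ) * hR3 + (t:ℝ) * hτ' - ((2*τ + r + δ - 2*r)/4) * hτ' + (1/4 : ℝ) * hR2
  have key2 : (r:ℝ) - c * (t - τ - δ) = 0 := by
    rcases mul_eq_zero.mp key with h | h
    · exact h
    · exact absurd h hn0'
  have hFF : F * F = δ • F := by
    simp only [hF, sub_mul, mul_sub, smul_mul_assoc, mul_smul_comm, Matrix.one_mul, Matrix.mul_one, hAA, hAJ, hJA, hJJ, smul_smul, smul_sub, smul_add]
    ext a b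
    simp only [Matrix.sub_apply, Matrix.add_apply, Matrix.smul_apply, smul_eq_mul, Matrix.one_apply]
    have hJab : J a b = 1 := by simp [hJ, onesM]
    rw [hJab]
    generalize A a b = x
    generalize (if a = b then (1:ℝ) else 0) = e
    linear_combination (-x) * hτ' + e * ((2*τ - r + δ)/4) * hτ' - (e/4) * hR2 + key2 + c * hR3
  set P : Matrix V V ℝ := δ⁻¹ • F with hP
  have hPP : P * P = P := by
    simp only [hP, smul_mul_assoc, mul_smul_comm, hFF, smul_smul]
    congr 1
    field_simp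
  obtain ⟨f, hf⟩ := trace_idem_nat P hPP
  have htrF : F.trace = 0 - τ * n - c * n := by
    rw [hF, Matrix.trace_sub, Matrix.trace_sub, Matrix.trace_smul, Matrix.trace_smul, Matrix.trace_one, hA, trace_adjM adj irrefl, hJ, trace_onesM]
    simp [hn]
  have htr : δ⁻¹ * (0 - τ * n - c * n) = f := by
    rw [← hf, hP, Matrix.trace_smul, htrF]; simp
  have h1 : 0 - τ * n - c * n = f * δ := by
    field_simp at htr
    linarith
  -- r(n-1) - 2t = δ (2f - (n-1))
  have h2 : (r:ℝ) * (n - 1) - 2 * t = δ * (2 * f - (n - 1)) := by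
    linear_combination 2 * h1 + 2 * hR3 - ((n:ℝ) - 1) * hτ'
  by_cases hq : (2 * (f:ℝ) - (n - 1)) = 0
  · rw [hq, mul_zero] at h2
    have h3 : (t:ℝ) * ((t:ℝ) + r - 3) = 0 := by linear_combination h2 - hR4
    have : (0:ℝ) < (t:ℝ) * ((t:ℝ) + r - 3) := by
      apply mul_pos <;> linarith
    linarith
  · apply hirr
    refine ⟨((r:ℚ) * (n - 1) - 2 * t) / (2 * f - (n - 1)), ?_⟩
    push_cast
    rw [h2]
    field_simp


/-- same with an explicit nonemptiness hypothesis -/
theorem srg_integrality' {V : Type*} [Fintype V] [DecidableEq V] (hV : Nonempty V) (adj : V → V → Prop) [DecidableRel adj] (symm : ∀ a b, adj a b → adj b a) (irrefl : ∀ a, ¬ adj a a) (t r : ℕ) (ht : 3 ≤ t) (hr : 1 ≤ r) (hrt : r ≤ t) (hdeg : ∀ a, (Finset.univ.filter (fun c => adj a c)).card = t) (hlam : ∀ a b, adj a b → (Finset.univ.filter (fun c => adj a c ∧ adj b c)).card = 0) (hmu : ∀ a b, a ≠ b → ¬ adj a b → (Finset.univ.filter (fun c => adj a c ∧ adj b c)).card = r) : ∃ s : ℕ, s * s = r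 * r + 4 * (t - r) :=
  srg_integrality adj symm irrefl t r ht hr hrt hdeg hlam hmu

end Cfsg.Agent.Lib.Helper9.Srg
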