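import Mathlib
import Cfsg.Agent.Lib.Helper9.SrgA

set_option maxHeartbeats 1600000
set_option autoImplicit false
set_option linter.unusedVariables false
set_option linter.unusedSimpArgs false
set_option linter.unusedSectionVars false
set_option linter.style.longLine false

namespace Cfsg.Agent.Lib.Helper9.Srg

/-- group form of `srg_integrality`: the commuting graph on a set `D` of a finite group, locally a coclique of size `t`
with `μ = r`. -/
theorem srg_of_group {G : Type*} [Group G] [Finite G] {D : Set G} (hne : D.Nonempty) (t r : ℕ) (ht : 3 ≤ t) (hr : 1 ≤ r) (hrt : r ≤ t)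
    (hk : ∀ d ∈ D, {y : G | y ∈ D ∧ y ≠ d ∧ Commute d y}.ncard = t)
    (hlam : ∀ d ∈ D, ∀ y ∈ D, ∀ y' ∈ D, y ≠ d → y' ≠ d → Commute d y → Commute d y' → y ≠ y' → ¬ Commute y y')
    (hmu : ∀ d ∈ D, ∀ c ∈ D, ¬ Commute d c → {u : G | u ∈ D ∧ u ≠ d ∧ u ≠ c ∧ Commute d u ∧ Commute c u}.ncard = r) :
    ∃ s : ℕ, s * s = r * r + 4 * (t - r) := by
  classical
  have : Fintype ↥D := Fintype.ofFinite _
  have : Nonempty ↥D := hne.to_subtype
  let adj : ↥D → ↥D → Prop := fun a b => a.1 ≠ b.1 ∧ Commute a.1 b.1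
  have key : ∀ (P : G → Prop) [DecidablePred P], (Finset.univ.filter (fun c : ↥D => P c.1)).card = {y : G | y ∈ D ∧ P y}.ncard := by
    intro P _
    rw [← Fintype.card_subtype, ← Nat.card_eq_fintype_card, ← Nat.card_coe_set_eq]
    exact Nat.card_congr (Equiv.subtypeSubtypeEquivSubtypeInter (fun x => x ∈ D) P)
  refine srg_integrality adj ?_ ?_ t r ht hr hrt ?_ ?_ ?_
  · intro a b hab; exact ⟨hab.1.symm, hab.2.symm⟩
  · intro a ha; exact ha.1 rfl
  · intro a
    rw [key (fun y => a.1 ≠ y ∧ Commute a.1 y), ← hk a.1 a.2]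
    congr 1
    ext y
    simp only [Set.mem_ofPred_eq]
    constructor
    · rintro ⟨h1, h2, h3⟩; exact ⟨h1, fun e => h2 e.symm, h3⟩
    · rintro ⟨h1, h2, h3⟩; exact ⟨h1, fun e => h2 e.symm, h3⟩
  · intro a b hab
    rw [Finset.card_eq_zero, Finset.filter_eq_empty_iff]
    intro c _ hc
    exact hlam c.1 c.2 a.1 a.2 b.1 b.2 hc.1.1 hc.2.1 hc.1.2.symm hc.2.2.symm hab.1 hab.2
  · intro a b hab hnadj
    have hnc : ¬ Commute a.1 b.1 := by
      intro hc
      exact hnadj ⟨fun e => hab (Subtype.ext e), hc⟩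
    rw [key (fun y => (a.1 ≠ y ∧ Commute a.1 y) ∧ (b.1 ≠ y ∧ Commute b.1 y)), ← hmu a.1 a.2 b.1 b.2 hnc]
    congr 1
    ext y
    simp only [Set.mem_ofPred_eq]
    constructor
    · rintro ⟨h1, ⟨h2, h3⟩, h4, h5⟩; exact ⟨h1, fun e => h2 e.symm, fun e => h4 e.symm, h3, h5⟩
    · rintro ⟨h1, h2, h3, h4, h5⟩; exact ⟨h1, ⟨fun e => h2 e.symm, h4⟩, fun e => h3 e.symm, h5⟩

end Cfsg.Agent.Lib.Helper9.Srg
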