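import Mathlib
import Cfsg.Prelude
import Cfsg.Agent.Lib.Helper9.SrgG
import Cfsg.Agent.Lib.Helper7.Pw3
import Cfsg.Agent.Lib.Helper3.TT1

set_option maxHeartbeats 1600000
set_option autoImplicit false
set_option linter.unusedVariables false
set_option linter.unusedSimpArgs false
set_option linter.unusedSectionVars false
set_option linter.style.longLine false

namespace Cfsg.Agent.Lib.Helper9.Srg

open Cfsg Cfsg.Agent.Lib.Helper3.TT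

/-- numerics of S1615: a conjugation-closed 3-transposition set whose commuting graph is locally a coclique of size `t ≥ 3`
with `μ = r`, `1 ≤ r ≤ t - 2`, has `t = 3` and `r = 1` (given the power-of-three lemma `hpow` = P-3POW). -/
theorem t_eq_three {G : Type*} [Group G] [Finite G] {D : Set G} (h : TSet D) (hne : D.Nonempty)
    (hpow : ∀ S : Set G, S ⊆ D → S.Nonempty → (∀ a ∈ S, ∀ b ∈ S, a ≠ b → ¬ Commute a b) →
      (∀ a ∈ S, ∀ b ∈ S, a * b * a ∈ S) → ∃ n : ℕ, S.ncard = 3 ^ n)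
    (t r : ℕ) (ht : 3 ≤ t) (hr : 1 ≤ r) (hr2 : r + 2 ≤ t)
    (hk : ∀ d ∈ D, {y : G | y ∈ D ∧ y ≠ d ∧ Commute d y}.ncard = t)
    (hlam : ∀ d ∈ D, ∀ y ∈ D, ∀ y' ∈ D, y ≠ d → y' ≠ d → Commute d y → Commute d y' → y ≠ y' → ¬ Commute y y')
    (hmu : ∀ d ∈ D, ∀ c ∈ D, ¬ Commute d c → {u : G | u ∈ D ∧ u ≠ d ∧ u ≠ c ∧ Commute d u ∧ Commute c u}.ncard = r) :
    t = 3 ∧ r = 1 := by
  obtain ⟨s, hs⟩ := srg_of_group hne t r ht hr (by omega) hk hlam hmu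
  obtain ⟨d0, hd0⟩ := hne
  -- helper: a * b * a ≠ e when b ≠ e and a commutes with e
  have hconj_ne : ∀ a b e : G, a * a = 1 → Commute e a → b ≠ e → a * b * a ≠ e := by
    intro a b e ha hea hbe he
    apply hbe
    calc b = (a * a) * b * (a * a) := by rw [ha]; simp
      _ = a * (a * b * a) * a := by group
      _ = a * e * a := by rw [he]
      _ = e * (a * a) := by rw [← hea.eq]; group
      _ = e := by rw [ha, mul_one]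
  -- t is a power of 3
  have hS1ne : {y : G | y ∈ D ∧ y ≠ d0 ∧ Commute d0 y}.Nonempty := by
    rw [← Set.ncard_pos (Set.toFinite _), hk d0 hd0]; omega
  obtain ⟨a, ha⟩ := hpow {y : G | y ∈ D ∧ y ≠ d0 ∧ Commute d0 y} (fun y hy => hy.1) hS1ne
    (fun x hx y hy hxy => hlam d0 hd0 x hx.1 y hy.1 hx.2.1 hy.2.1 hx.2.2 hy.2.2 hxy)
    (fun x hx y hy => ⟨h.conj_mem hx.1 hy.1, hconj_ne x y d0 (h.sq x hx.1) hx.2.2 hy.2.1,
      (hx.2.2.mul_right hy.2.2).mul_right hx.2.2⟩)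
  rw [hk d0 hd0] at ha
  -- a non-commuting pair
  obtain ⟨y1, hy1, y2, hy2, h12⟩ : ∃ y1 ∈ {y : G | y ∈ D ∧ y ≠ d0 ∧ Commute d0 y},
      ∃ y2 ∈ {y : G | y ∈ D ∧ y ≠ d0 ∧ Commute d0 y}, y1 ≠ y2 := by
    have : 1 < {y : G | y ∈ D ∧ y ≠ d0 ∧ Commute d0 y}.ncard := by rw [hk d0 hd0]; omega
    obtain ⟨y1, hy1, y2, hy2, h12⟩ := (Set.one_lt_ncard (Set.toFinite _)).mp this
    exact ⟨y1, hy1, y2, hy2, h12⟩
  have hnc : ¬ Commute y1 y2 := hlam d0 hd0 y1 hy1.1 y2 hy2.1 hy1.2.1 hy2.2.1 hy1.2.2 hy2.2.2 h12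
  -- r is a power of 3
  have hS2ne : {u : G | u ∈ D ∧ u ≠ y1 ∧ u ≠ y2 ∧ Commute y1 u ∧ Commute y2 u}.Nonempty := by
    rw [← Set.ncard_pos (Set.toFinite _), hmu y1 hy1.1 y2 hy2.1 hnc]; omega
  obtain ⟨j, hj⟩ := hpow {u : G | u ∈ D ∧ u ≠ y1 ∧ u ≠ y2 ∧ Commute y1 u ∧ Commute y2 u} (fun y hy => hy.1) hS2ne
    (fun x hx y hy hxy => hlam y1 hy1.1 x hx.1 y hy.1 hx.2.1 hy.2.1 hx.2.2.2.1 hy.2.2.2.1 hxy)
    (fun x hx y hy => ⟨h.conj_mem hx.1 hy.1, hconj_ne x y y1 (h.sq x hx.1) hx.2.2.2.1 hy.2.1,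
      hconj_ne x y y2 (h.sq x hx.1) hx.2.2.2.2 hy.2.2.1,
      (hx.2.2.2.1.mul_right hy.2.2.2.1).mul_right hx.2.2.2.1,
      (hx.2.2.2.2.mul_right hy.2.2.2.2).mul_right hx.2.2.2.2⟩)
  rw [hmu y1 hy1.1 y2 hy2.1 hnc] at hj
  subst ha hj
  obtain ⟨h1, h2⟩ := Cfsg.Agent.Lib.Helper7.Pw3.pow3_solve a j s hr2 hs
  subst h1 h2
  simp

end Cfsg.Agent.Lib.Helper9.Srg
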