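import Mathlib
import Cfsg.Prelude
import Cfsg.Agent.Lib.Helper9.End5B
import Cfsg.Agent.Lib.Helper9.SrgN

set_option maxHeartbeats 1600000
set_option autoImplicit false
set_option linter.unusedVariables false
set_option linter.unusedSimpArgs false
set_option linter.unusedSectionVars false
set_option linter.style.longLine false

namespace Cfsg.Agent.Lib.Helper9.End5

open Cfsg Cfsg.Agent.Lib.Helper3.TT

/-- S1615 after the COUNT step: if the commuting graph on `D` is locally a coclique of size `t ≥ 3` with constant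
`μ = r`, `1 ≤ r ≤ t - 2`, then `G ≃ S₅` (modulo the power-of-three lemma `hpow` = P-3POW). -/
theorem s5_of_coclique {G : Type*} [Group G] [Finite G] (hsol : ∀ N : Subgroup G, N.Normal → Group.IsSolvable ↥N → N = ⊥) {D : Set G} (hD : Cfsg.IsThreeTranspositionSet D) (hconj : ∀ g : G, ∀ d ∈ D, g * d * g⁻¹ ∈ D) (hgen : Subgroup.closure D = ⊤) (hne : D.Nonempty)
    (hpow : ∀ S : Set G, S ⊆ D → S.Nonempty → (∀ a ∈ S, ∀ b ∈ S, a ≠ b → ¬ Commute a b) →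
      (∀ a ∈ S, ∀ b ∈ S, a * b * a ∈ S) → ∃ n : ℕ, S.ncard = 3 ^ n)
    (t r : ℕ) (ht : 3 ≤ t) (hr : 1 ≤ r) (hr2 : r + 2 ≤ t)
    (hk : ∀ d ∈ D, {y : G | y ∈ D ∧ y ≠ d ∧ Commute d y}.ncard = t)
    (hlam : ∀ d ∈ D, ∀ y ∈ D, ∀ y' ∈ D, y ≠ d → y' ≠ d → Commute d y → Commute d y' → y ≠ y' → ¬ Commute y y')
    (hmu : ∀ d ∈ D, ∀ c ∈ D, ¬ Commute d c → {u : G | u ∈ D ∧ u ≠ d ∧ u ≠ c ∧ Commute d u ∧ Commute c u}.ncard = r) :
    Nonempty (G ≃* Equiv.Perm (Fin 5)) := by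
  have h := TSet.of_set hD hconj
  obtain ⟨ht3, hr1⟩ := Cfsg.Agent.Lib.Helper9.Srg.t_eq_three h hne hpow t r ht hr hr2 hk hlam hmu
  subst ht3 hr1
  refine end_s5 hsol hD hconj hgen hne hk hlam ?_
  intro d hd c hc hdc
  have h1 := hmu d hd c hc hdc
  have hne' : {u : G | u ∈ D ∧ u ≠ d ∧ u ≠ c ∧ Commute d u ∧ Commute c u}.Nonempty := by
    rw [← Set.ncard_pos (Set.toFinite _), h1]; norm_num
  obtain ⟨u, hu⟩ := hne'
  exact ⟨u, hu.1, hu.2.1, hu.2.2.1, hu.2.2.2.1, hu.2.2.2.2⟩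

end Cfsg.Agent.Lib.Helper9.End5
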