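import Mathlib

set_option autoImplicit false

/-! Even root-free lattices of rank 24 with the vector counts of the rank-24 code lattice:
congruence classes of short vectors modulo twice the lattice. -/

namespace Cfsg.Agent.Lib.Helper9.EvenLat1

open Matrix Finset

abbrev V := Fin 24 → ℤ

/-- reduction modulo 2 -/
def red (x : V) : Fin 24 → ZMod 2 := fun i => ((x i : ℤ) : ZMod 2)

theorem red_eq_iff (x y : V) : red x = red y ↔ ∀ i, (2 : ℤ) ∣ (x - y) i := by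
  constructor
  · intro h i
    have := congrFun h i
    unfold red at this
    rw [Pi.sub_apply]
    have h2 : ((x i - y i : ℤ) : ZMod 2) = 0 := by push_cast; rw [this, sub_self]
    exact (ZMod.intCast_zmod_eq_zero_iff_dvd _ 2).mp h2
  · intro h
    funext i
    have h2 : ((x i - y i : ℤ) : ZMod 2) = 0 :=
      (ZMod.intCast_zmod_eq_zero_iff_dvd _ 2).mpr (by have := h i; rwa [Pi.sub_apply] at this)
    unfold red
    push_cast at h2
    exact sub_eq_zero.mp h2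

theorem symm_form (B : Matrix (Fin 24) (Fin 24) ℤ) (hsymm : B.IsSymm) (x y : Fin 24 → ℤ) :
    y ⬝ᵥ (B *ᵥ x) = x ⬝ᵥ (B *ᵥ y) := by
  rw [dotProduct_comm, ← Matrix.vecMul_transpose, hsymm.eq, Matrix.dotProduct_mulVec]

theorem q_sub (B : Matrix (Fin 24) (Fin 24) ℤ) (hsymm : B.IsSymm) (x y : Fin 24 → ℤ) :
    (x - y) ⬝ᵥ (B *ᵥ (x - y)) = x ⬝ᵥ (B *ᵥ x) + y ⬝ᵥ (B *ᵥ y) - 2 * (x ⬝ᵥ (B *ᵥ y)) := by
  rw [Matrix.mulVec_sub, sub_dotProduct, dotProduct_sub, dotProduct_sub, symm_form B hsymm x y]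
  ring

theorem q_add (B : Matrix (Fin 24) (Fin 24) ℤ) (hsymm : B.IsSymm) (x y : Fin 24 → ℤ) :
    (x + y) ⬝ᵥ (B *ᵥ (x + y)) = x ⬝ᵥ (B *ᵥ x) + y ⬝ᵥ (B *ᵥ y) + 2 * (x ⬝ᵥ (B *ᵥ y)) := by
  rw [Matrix.mulVec_add, add_dotProduct, dotProduct_add, dotProduct_add, symm_form B hsymm x y]
  ring

theorem q_two (B : Matrix (Fin 24) (Fin 24) ℤ) (z : Fin 24 → ℤ) :
    ((2 : ℤ) • z) ⬝ᵥ (B *ᵥ ((2 : ℤ) • z)) = 4 * (z ⬝ᵥ (B *ᵥ z)) := by
  rw [Matrix.mulVec_smul, smul_dotProduct, dotProduct_smul, smul_eq_mul, smul_eq_mul]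
  ring

/-- possible values of the form -/
theorem q_values (B : Matrix (Fin 24) (Fin 24) ℤ)
    (hpos : ∀ x : Fin 24 → ℤ, x ≠ 0 → 0 < x ⬝ᵥ (B *ᵥ x))
    (heven : ∀ x : Fin 24 → ℤ, (2 : ℤ) ∣ x ⬝ᵥ (B *ᵥ x))
    (h2 : ∀ x : Fin 24 → ℤ, x ⬝ᵥ (B *ᵥ x) ≠ 2) (z : Fin 24 → ℤ) :
    z = 0 ∨ 4 ≤ z ⬝ᵥ (B *ᵥ z) := by
  by_cases hz : z = 0
  · exact Or.inl hz
  · right
    have h1 := hpos z hz
    have h3 := h2 z
    obtain ⟨k, hk⟩ := heven z
    omega

section lattice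

variable (B : Matrix (Fin 24) (Fin 24) ℤ) (hsymm : B.IsSymm)
  (hpos : ∀ x : V, x ≠ 0 → 0 < x ⬝ᵥ (B *ᵥ x))
  (heven : ∀ x : V, (2 : ℤ) ∣ x ⬝ᵥ (B *ᵥ x))
  (h2 : ∀ x : V, x ⬝ᵥ (B *ᵥ x) ≠ 2)

include hsymm hpos heven h2

/-- congruent short vectors -/
theorem geom (x y : V) (hx : x ⬝ᵥ (B *ᵥ x) ≤ 8) (hy : y ⬝ᵥ (B *ᵥ y) ≤ 8)
    (hc : red x = red y) :
    y = x ∨ y = -x ∨ (x ⬝ᵥ (B *ᵥ x) = 8 ∧ y ⬝ᵥ (B *ᵥ y) = 8 ∧ x ⬝ᵥ (B *ᵥ y) = 0) := by
  rw [red_eq_iff] at hc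
  choose z hz using hc
  have hxy : x - y = (2 : ℤ) • z := by
    funext i
    rw [hz i]; simp
  have hxy' : x + y = (2 : ℤ) • (x - z) := by
    have : y = x - (2 : ℤ) • z := by rw [← hxy]; abel
    rw [this]
    funext i
    simp
    ring
  have e1 := q_sub B hsymm x y
  have e2 := q_add B hsymm x y
  rw [hxy, q_two] at e1
  rw [hxy', q_two] at e2
  rcases q_values B hpos heven h2 z with h | h
  · left
    rw [h, smul_zero] at hxy
    exact (sub_eq_zero.mp hxy).symm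
  rcases q_values B hpos heven h2 (x - z) with h' | h'
  · right; left
    rw [h', smul_zero] at hxy'
    exact eq_neg_of_add_eq_zero_right hxy'
  · right; right
    refine ⟨?_, ?_, ?_⟩ <;> omega

theorem ne_neg (x : V) (hx : x ≠ 0) : x ≠ -x := by
  intro h
  apply hx
  funext i
  have := congrFun h i
  simp only [Pi.neg_apply, Pi.zero_apply] at this ⊢
  omega

theorem q_neg (x : V) : (-x) ⬝ᵥ (B *ᵥ (-x)) = x ⬝ᵥ (B *ᵥ x) := by
  rw [Matrix.mulVec_neg, neg_dotProduct, dotProduct_neg, neg_neg]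

theorem q_ne_zero (x : V) (N : ℤ) (hN : 0 < N) (hx : x ⬝ᵥ (B *ᵥ x) = N) : x ≠ 0 := by
  intro h
  rw [h] at hx
  simp at hx
  omega

/-- a family of vectors of norm 8, pairwise equal, opposite or orthogonal, has at most 48
members -/
theorem orth_bound (F : Finset V) (h8 : ∀ y ∈ F, y ⬝ᵥ (B *ᵥ y) = 8)
    (hF : ∀ y ∈ F, ∀ y' ∈ F, y' = y ∨ y' = -y ∨ y ⬝ᵥ (B *ᵥ y') = 0) : F.card ≤ 48 := by
  classical
  obtain ⟨P, hP⟩ : ∃ P : Finset V, P = F.filter (fun y => -y ∈ F → WellOrderingRel y (-y)) :=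
    ⟨_, rfl⟩
  have hne0 : ∀ y ∈ F, y ≠ -y := fun y hy =>
    ne_neg B hsymm hpos heven h2 y (q_ne_zero B hsymm hpos heven h2 y 8 (by norm_num) (h8 y hy))
  have hcover : F ⊆ P ∪ P.image (fun y => -y) := by
    intro y hy
    rw [mem_union, mem_image]
    by_cases hyP : y ∈ P
    · exact Or.inl hyP
    · right
      rw [hP, mem_filter] at hyP
      push Not at hyP
      obtain ⟨hny, hnot⟩ := hyP hy
      refine ⟨-y, ?_, neg_neg y⟩
      rw [hP, mem_filter]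
      refine ⟨hny, fun _ => ?_⟩
      rw [neg_neg]
      rcases trichotomous_of WellOrderingRel y (-y) with h | h | h
      · exact absurd h hnot
      · exact absurd h (hne0 y hy)
      · exact h
  have hcard : F.card ≤ 2 * P.card := by
    calc F.card ≤ (P ∪ P.image (fun y => -y)).card := card_le_card hcover
      _ ≤ P.card + (P.image (fun y => -y)).card := card_union_le _ _
      _ ≤ P.card + P.card := Nat.add_le_add_left card_image_le _
      _ = 2 * P.card := by ring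
  have hPF : ∀ y ∈ P, y ∈ F := fun y hy => by rw [hP] at hy; exact (mem_filter.mp hy).1
  have horth : ∀ y ∈ P, ∀ y' ∈ P, y ≠ y' → y ⬝ᵥ (B *ᵥ y') = 0 := by
    intro y hy y' hy' hne
    rcases hF y (hPF y hy) y' (hPF y' hy') with h | h | h
    · exact absurd h.symm hne
    · exfalso
      rw [hP, mem_filter] at hy hy'
      have a1 := hy.2 (h ▸ hy'.1)
      have a2 := hy'.2 (by rw [h, neg_neg]; exact hy.1)
      rw [h, neg_neg] at a2
      exact asymm_of WellOrderingRel a1 a2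
    · exact h
  -- linear independence over the integers
  have hli : LinearIndependent ℤ (fun y : ↥P => (y.1 : V)) := by
    rw [linearIndependent_iff']
    intro s g hg j hj
    have h1 : (∑ i ∈ s, g i • (i.1 : V)) ⬝ᵥ (B *ᵥ j.1) = 0 := by rw [hg]; simp
    rw [sum_dotProduct] at h1
    rw [Finset.sum_eq_single j] at h1
    · rw [smul_dotProduct, h8 _ (hPF _ j.2), smul_eq_mul] at h1
      omega
    · intro i _ hij
      rw [smul_dotProduct, horth i.1 i.2 j.1 j.2 (fun h => hij (Subtype.ext h)), smul_zero]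
    · intro h; exact absurd hj h
  have hle := hli.fintype_card_le_finrank
  rw [Fintype.card_coe, Module.finrank_fin_fun] at hle
  omega

end lattice

end Cfsg.Agent.Lib.Helper9.EvenLat1
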