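import Cfsg.Agent.Lib.Helper9.EvenLat1

set_option autoImplicit false

/-! Counting congruence classes of short vectors in an even root-free lattice of rank 24. -/

namespace Cfsg.Agent.Lib.Helper9.EvenLat2

open Matrix Finset Cfsg.Agent.Lib.Helper9.EvenLat1

section lattice

variable (B : Matrix (Fin 24) (Fin 24) ℤ) (hsymm : B.IsSymm)
  (hpos : ∀ x : V, x ≠ 0 → 0 < x ⬝ᵥ (B *ᵥ x))
  (heven : ∀ x : V, (2 : ℤ) ∣ x ⬝ᵥ (B *ᵥ x))
  (h2 : ∀ x : V, x ⬝ᵥ (B *ᵥ x) ≠ 2)
  (S4 S6 S8 : Finset V)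
  (hS4 : ∀ x, x ∈ S4 ↔ x ⬝ᵥ (B *ᵥ x) = 4)
  (hS6 : ∀ x, x ∈ S6 ↔ x ⬝ᵥ (B *ᵥ x) = 6)
  (hS8 : ∀ x, x ∈ S8 ↔ x ⬝ᵥ (B *ᵥ x) = 8)

include hsymm hpos heven h2

omit hS4 hS6 hS8 in
/-- fibres of the reduction on vectors of a norm `N < 8` -/
theorem fiber_two (S : Finset V) (N : ℤ) (hN0 : 0 < N) (hN8 : N < 8)
    (hS : ∀ x, x ∈ S ↔ x ⬝ᵥ (B *ᵥ x) = N) (y0 : V) (hy0 : y0 ∈ S) :
    (S.filter fun y => red y = red y0).card = 2 := by
  classical
  have hq0 := (hS y0).mp hy0
  have hne : y0 ≠ -y0 :=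
    ne_neg B hsymm hpos heven h2 y0 (q_ne_zero B hsymm hpos heven h2 y0 N hN0 hq0)
  have : S.filter (fun y => red y = red y0) = {y0, -y0} := by
    ext y
    rw [mem_filter, mem_insert, mem_singleton]
    constructor
    · rintro ⟨hy, h⟩
      have hq := (hS y).mp hy
      rcases geom B hsymm hpos heven h2 y0 y (by omega) (by omega) h.symm with e | e | ⟨e1, -, -⟩
      · exact Or.inl e
      · exact Or.inr e
      · omega
    · rintro (rfl | rfl)
      · exact ⟨hy0, rfl⟩
      · refine ⟨(hS _).mpr (by rw [q_neg B hsymm hpos heven h2, hq0]), ?_⟩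
        rw [red_eq_iff]
        intro i
        simp only [Pi.sub_apply, Pi.neg_apply]
        exact ⟨-y0 i, by ring⟩
  rw [this, card_pair hne]

omit hS4 hS6 hS8 in
theorem card_two (S : Finset V) (N : ℤ) (hN0 : 0 < N) (hN8 : N < 8)
    (hS : ∀ x, x ∈ S ↔ x ⬝ᵥ (B *ᵥ x) = N) : S.card = 2 * (S.image red).card := by
  classical
  rw [card_eq_sum_card_image red S]
  rw [Finset.sum_congr rfl (g := fun _ => 2), Finset.sum_const, smul_eq_mul, mul_comm]
  intro κ hκ
  obtain ⟨y0, hy0, rfl⟩ := mem_image.mp hκ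
  exact fiber_two B hsymm hpos heven h2 S N hN0 hN8 hS y0 hy0

omit hS4 hS6 in
include hS8 in
theorem fiber_le (y0 : V) : (S8.filter fun y => red y = red y0).card ≤ 48 := by
  classical
  apply orth_bound B hsymm hpos heven h2
  · intro y hy
    exact (hS8 y).mp (mem_filter.mp hy).1
  · intro y hy y' hy'
    rw [mem_filter] at hy hy'
    have q1 := (hS8 y).mp hy.1
    have q2 := (hS8 y').mp hy'.1
    rcases geom B hsymm hpos heven h2 y y' (by omega) (by omega) (hy.2.trans hy'.2.symm)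
      with e | e | ⟨-, -, e⟩
    · exact Or.inl e
    · exact Or.inr (Or.inl e)
    · exact Or.inr (Or.inr e)

include hS4 hS6 hS8 in
/-- the four families of classes are disjoint -/
theorem disjoint_images :
    Disjoint (S4.image red) (S6.image red) ∧ Disjoint (S4.image red) (S8.image red) ∧
    Disjoint (S6.image red) (S8.image red) ∧ (0 : Fin 24 → ZMod 2) ∉ S4.image red ∧
    (0 : Fin 24 → ZMod 2) ∉ S6.image red ∧ (0 : Fin 24 → ZMod 2) ∉ S8.image red := by
  classical
  have key : ∀ (x y : V) (N N' : ℤ), 0 ≤ N → N ≤ 8 → 0 ≤ N' → N' ≤ 8 → N ≠ N' →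
      x ⬝ᵥ (B *ᵥ x) = N → y ⬝ᵥ (B *ᵥ y) = N' → red x = red y → False := by
    intro x y N N' h0 h8 h0' h8' hne hx hy h
    rcases geom B hsymm hpos heven h2 x y (by omega) (by omega) h with e | e | ⟨e1, e2, -⟩
    · rw [e, hx] at hy; exact hne hy
    · rw [e, q_neg B hsymm hpos heven h2, hx] at hy; exact hne hy
    · omega
  have dj : ∀ (S S' : Finset V) (N N' : ℤ), 0 ≤ N → N ≤ 8 → 0 ≤ N' → N' ≤ 8 → N ≠ N' →
      (∀ x, x ∈ S ↔ x ⬝ᵥ (B *ᵥ x) = N) → (∀ x, x ∈ S' ↔ x ⬝ᵥ (B *ᵥ x) = N') →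
      Disjoint (S.image red) (S'.image red) := by
    intro S S' N N' h0 h8 h0' h8' hne hS hS'
    rw [Finset.disjoint_left]
    intro κ h1 h2'
    obtain ⟨x, hx, rfl⟩ := mem_image.mp h1
    obtain ⟨y, hy, h⟩ := mem_image.mp h2'
    exact key x y N N' h0 h8 h0' h8' hne ((hS x).mp hx) ((hS' y).mp hy) h.symm
  have z : ∀ (S : Finset V) (N : ℤ), 0 < N → N ≤ 8 → (∀ x, x ∈ S ↔ x ⬝ᵥ (B *ᵥ x) = N) →
      (0 : Fin 24 → ZMod 2) ∉ S.image red := by
    intro S N h0 h8 hS h
    obtain ⟨x, hx, hx0⟩ := mem_image.mp h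
    have h00 : red (0 : V) = 0 := by funext i; simp [red]
    exact key x 0 N 0 (by omega) h8 (le_refl _) (by norm_num) (by omega) ((hS x).mp hx)
      (by simp) (hx0.trans h00.symm)
  exact ⟨dj S4 S6 4 6 (by norm_num) (by norm_num) (by norm_num) (by norm_num) (by norm_num) hS4 hS6,
    dj S4 S8 4 8 (by norm_num) (by norm_num) (by norm_num) (by norm_num) (by norm_num) hS4 hS8,
    dj S6 S8 6 8 (by norm_num) (by norm_num) (by norm_num) (by norm_num) (by norm_num) hS6 hS8,
    z S4 4 (by norm_num) (by norm_num) hS4, z S6 6 (by norm_num) (by norm_num) hS6,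
    z S8 8 (by norm_num) (by norm_num) hS8⟩

include hS4 hS6 hS8 in
/-- every fibre of the reduction on the vectors of norm 8 has exactly 48 elements -/
theorem fiber_eq (c4 : S4.card = 196560) (c6 : S6.card = 16773120) (c8 : S8.card = 398034000)
    (y0 : V) (hy0 : y0 ∈ S8) : (S8.filter fun y => red y = red y0).card = 48 := by
  classical
  obtain ⟨d46, d48, d68, z4, z6, z8⟩ := disjoint_images B hsymm hpos heven h2 S4 S6 S8 hS4 hS6 hS8
  have t4 := card_two B hsymm hpos heven h2 S4 4 (by norm_num) (by norm_num) hS4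
  have t6 := card_two B hsymm hpos heven h2 S6 6 (by norm_num) (by norm_num) hS6
  -- the classes
  have hU : (insert (0 : Fin 24 → ZMod 2) (S4.image red ∪ S6.image red ∪ S8.image red)).card
      = 1 + (S4.image red).card + (S6.image red).card + (S8.image red).card := by
    rw [card_insert_of_notMem, card_union_of_disjoint, card_union_of_disjoint d46]
    · ring
    · rw [disjoint_union_left]; exact ⟨d48, d68⟩
    · simp only [mem_union, not_or]; exact ⟨⟨z4, z6⟩, z8⟩
  have htot : (insert (0 : Fin 24 → ZMod 2) (S4.image red ∪ S6.image red ∪ S8.image red)).card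
      ≤ 2 ^ 24 := by
    have := Finset.card_le_univ
      (insert (0 : Fin 24 → ZMod 2) (S4.image red ∪ S6.image red ∪ S8.image red))
    have hc : Fintype.card (Fin 24 → ZMod 2) = 2 ^ 24 := by
      rw [Fintype.card_fun, ZMod.card, Fintype.card_fin]
    rwa [hc] at this
  have hle : ∀ κ ∈ S8.image red, (S8.filter fun y => red y = κ).card ≤ 48 := by
    intro κ hκ
    obtain ⟨y1, hy1, rfl⟩ := mem_image.mp hκ
    exact fiber_le B hsymm hpos heven h2 S8 hS8 y1
  have h8le : S8.card ≤ 48 * (S8.image red).card := by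
    rw [card_eq_sum_card_image red S8, mul_comm, ← smul_eq_mul, ← Finset.sum_const]
    exact Finset.sum_le_sum hle
  have hc8 : (S8.image red).card = 8292375 := by
    rw [hU] at htot
    norm_num at htot
    omega
  have hsum : ∑ κ ∈ S8.image red, (S8.filter fun y => red y = κ).card
      = ∑ _κ ∈ S8.image red, 48 := by
    rw [Finset.sum_const, smul_eq_mul, hc8, ← card_eq_sum_card_image red S8, c8]
  exact (Finset.sum_eq_sum_iff_of_le hle).mp hsum (red y0) (mem_image_of_mem _ hy0)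

end lattice

end Cfsg.Agent.Lib.Helper9.EvenLat2
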