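import Cfsg.Agent.Lib.Helper9.ExtMod1
import Cfsg.Agent.Lib.Helper9.StabChain
import Cfsg.Agent.Lib.Helper2.SylowNormal

set_option autoImplicit false

namespace Cfsg.Agent.Lib.Helper9

open Cfsg Cfsg.FusionSystem

variable {Ω : Type*} [Group Ω] {S : Subgroup Ω}

/-- the subsystem of maps which, when their source has more than `k` elements, extend modulo `T` -/
def extModSystem [Finite S] (F : FusionSystem S) (T : Subgroup Ω) (hT : F.StronglyClosed T)
    (k : ℕ) : FusionSystem S where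
  Hom P := {φ | φ ∈ F.Hom P ∧ (k < Nat.card P → ExtendsMod F T φ)}
  le_of_mem h := F.le_of_mem h.1
  injective_of_mem h := F.injective_of_mem h.1
  conj_mem hP hg := ⟨F.conj_mem hP hg, fun _ => extendsMod_conj F hT.1 hP hg⟩
  comp_mem := by
    rintro P Q φ ψ ⟨hφ, hφe⟩ ⟨hψ, hψe⟩ h
    refine ⟨F.comp_mem hφ hψ h, fun hk => ?_⟩
    have hfinQ : Finite Q := finite_of_le (hom_le F hψ)
    have hinj : Function.Injective (φ.codRestrict Q h) := by
      intro a b hab
      exact F.injective_of_mem hφ (congrArg Subtype.val hab)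
    have hcard : Nat.card P ≤ Nat.card Q := Nat.card_le_card_of_injective _ hinj
    exact extendsMod_comp F hT hφ h (hφe hk) (hψe (lt_of_lt_of_le hk hcard))
  inv_mem := by
    rintro P φ ⟨hφ, hφe⟩
    obtain ⟨φ', hφ', hφ'φ⟩ := F.inv_mem hφ
    refine ⟨φ', ⟨hφ', fun hk => ?_⟩, hφ'φ⟩
    have hc : Nat.card φ.range = Nat.card P :=
      (Nat.card_congr (MonoidHom.ofInjective (F.injective_of_mem hφ)).toEquiv).symm
    rw [hc] at hk
    exact extendsMod_inv F hT hφ (hφe hk) hφ'φ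

theorem extendsMod_of_le (F : FusionSystem S) {T R : Subgroup Ω} {φ : R →* Ω} (hφ : φ ∈ F.Hom R)
    (hTR : T ≤ R) : ExtendsMod F T φ := by
  have hle : R ⊔ T ≤ R := sup_le le_rfl hTR
  refine ⟨φ.comp (Subgroup.inclusion hle), restrict_mem F hφ hle, fun x => ?_⟩
  have h1 : Subgroup.inclusion hle (Subgroup.inclusion le_sup_left x) = x := Subtype.ext rfl
  show (φ x)⁻¹ * φ (Subgroup.inclusion hle (Subgroup.inclusion le_sup_left x)) ∈ T
  rw [h1, inv_mul_cancel]
  exact T.one_mem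

/-- the chain `T ∩ R ≤ T ∩ R ≤ R` -/
def modChain (T R : Subgroup Ω) : ℕ → Subgroup R := fun j => if j ≤ 1 then T.subgroupOf R else ⊤

theorem modChain_inv (F : FusionSystem S) {T : Subgroup Ω} (hT : F.StronglyClosed T)
    {R : Subgroup Ω} (hRS : R ≤ S) :
    ∀ α ∈ F.autGroup R, ∀ j, ∀ x ∈ modChain T R j, α x ∈ modChain T R j := by
  intro α hα j x hx
  unfold modChain at hx ⊢
  split_ifs with hj
  · rw [if_pos hj] at hx
    exact map_mem_of_stronglyClosed F hT (hom_of_mem_autGroup F hRS hα) x hx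
  · trivial

theorem mem_stabChain_modChain (F : FusionSystem S) {T : Subgroup Ω} (hT : F.StronglyClosed T)
    {R : Subgroup Ω} (hRS : R ≤ S) {β : MulAut R} :
    β ∈ stabChain (F.autGroup R) (modChain T R) (modChain_inv F hT hRS) ↔
      β ∈ F.autGroup R ∧ ∀ x : R, (x : Ω)⁻¹ * ((β x : R) : Ω) ∈ T := by
  rw [mem_stabChain]
  constructor
  · rintro ⟨hβ, h⟩
    refine ⟨hβ, fun x => ?_⟩
    have h1 := h 1 x (by unfold modChain; rw [if_neg (by norm_num)]; trivial)
    unfold modChain at h1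
    rw [if_pos le_rfl] at h1
    exact h1
  · rintro ⟨hβ, h⟩
    refine ⟨hβ, fun j x _ => ?_⟩
    unfold modChain
    split_ifs with hj
    · exact h x
    · trivial

/-- key step: automorphisms of a fully normalized subgroup extend modulo `T`, if all maps defined
on larger subgroups do -/
theorem extendsMod_aut_of_fullyNormalized [Finite S] {p : ℕ} [Fact p.Prime] (hS : IsPGroup p S)
    (F : FusionSystem S) (hF : F.IsSaturated p) {T : Subgroup Ω} (hT : F.StronglyClosed T)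
    {R : Subgroup Ω} (hR : F.IsFullyNormalized R)
    (H : ∀ P : Subgroup Ω, P ≤ S → Nat.card R < Nat.card P → ∀ φ ∈ F.Hom P, ExtendsMod F T φ)
    {α : MulAut R} (hα : α ∈ F.autGroup R) : ExtendsMod F T (R.subtype.comp α.toMonoidHom) := by
  have hRS := hR.1
  by_cases hTR : T ≤ R
  · exact extendsMod_of_le F (hom_of_mem_autGroup F hRS hα) hTR
  -- an element of `N_T(R)` outside `R`
  have hRTS : R ⊔ T ≤ S := sup_le hRS hT.1
  have hlt : R < R ⊔ T := by
    refine lt_of_le_of_ne le_sup_left ?_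
    intro h
    apply hTR
    rw [h]
    exact le_sup_right
  have hRTp : IsPGroup p (R ⊔ T : Subgroup Ω) := isPGroup_of_le hS hRTS
  have hfinRT : Finite (R ⊔ T : Subgroup Ω) := finite_of_le hRTS
  obtain ⟨g, hgN, hgR⟩ := exists_mem_normalizerIn_not_mem hRTp hlt
  obtain ⟨r, hr, t, ht, hg⟩ := exists_mul_of_mem_sup_stronglyClosed F hT hRS hgN.1
  have htN : t ∈ Subgroup.normalizer (R : Set Ω) := by
    have h1 : t = r⁻¹ * g := by rw [hg]; group
    rw [h1]
    exact Subgroup.mul_mem _ (Subgroup.inv_mem _ (Subgroup.le_normalizer hr)) hgN.2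
  have htR : t ∉ R := fun h => hgR (hg ▸ R.mul_mem hr h)
  have htS : t ∈ S := hT.1 ht
  -- the normal subgroup of `Aut_F(R)` acting trivially modulo `T`
  have hfinR : Finite R := finite_of_le hRS
  have hnormal := stabChain_normal (F.autGroup R) (modChain T R) (modChain_inv F hT hRS)
  set N₁ : Subgroup (F.autGroup R) :=
    (stabChain (F.autGroup R) (modChain T R) (modChain_inv F hT hRS)).subgroupOf (F.autGroup R)
    with hN₁
  have hmemN₁ : ∀ β : F.autGroup R, β ∈ N₁ ↔ ∀ x : R, (x : Ω)⁻¹ * (((β : MulAut R) x : R) : Ω) ∈ T := by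
    intro β
    rw [hN₁, Subgroup.mem_subgroupOf, mem_stabChain_modChain F hT hRS]
    exact ⟨fun h => h.2, fun h => ⟨β.2, h⟩⟩
  obtain ⟨-, Sy, hSy⟩ := fullyAutomized_of_fullyNormalized hS F hF hR
  obtain ⟨Q, hQ⟩ := Cfsg.Agent.Lib.Helper2.exists_sylow_eq_inf_normal Sy N₁
  have hfr := Sylow.normalizer_sup_eq_top Q
  have hQmap : (Q : Subgroup N₁).map N₁.subtype = (Sy : Subgroup (F.autGroup R)) ⊓ N₁ := by
    rw [hQ, Subgroup.subgroupOf_map_subtype, inf_assoc, inf_idem]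
  rw [hQmap] at hfr
  have hαtop : (⟨α, hα⟩ : F.autGroup R) ∈
      Subgroup.normalizer ((((Sy : Subgroup (F.autGroup R)) ⊓ N₁ : Subgroup (F.autGroup R))) :
        Set (F.autGroup R)) ⊔ N₁ := by
    rw [hfr]; trivial
  have hAC : Subgroup.normalizer ((((Sy : Subgroup (F.autGroup R)) ⊓ N₁ :
      Subgroup (F.autGroup R))) : Set (F.autGroup R)) ≤
      Subgroup.normalizer ((N₁ : Subgroup (F.autGroup R)) : Set (F.autGroup R)) := by
    have htop : Subgroup.normalizer ((N₁ : Subgroup (F.autGroup R)) : Set (F.autGroup R)) = ⊤ :=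
      Subgroup.normalizer_eq_top N₁
    rw [htop]
    exact le_top
  obtain ⟨n, hn, a₁, ha₁, hna⟩ := exists_mul_of_mem_sup hAC hαtop
  -- `t` lies in the extender of `n`
  have hct : conjAut R ⟨t, htN⟩ ∈ autInducedBy S R :=
    (mem_autInducedBy_iff S R _).mpr ⟨t, htS, fun x => rfl⟩
  have hctA : conjAut R ⟨t, htN⟩ ∈ F.autGroup R := autInducedBy_le_autGroup F hRS hct
  have hctSy : (⟨conjAut R ⟨t, htN⟩, hctA⟩ : F.autGroup R) ∈ (Sy : Subgroup (F.autGroup R)) := by
    rw [hSy]; exact hct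
  have hctN₁ : (⟨conjAut R ⟨t, htN⟩, hctA⟩ : F.autGroup R) ∈ N₁ := by
    rw [hmemN₁]
    intro x
    show (x : Ω)⁻¹ * (t * (x : Ω) * t⁻¹) ∈ T
    have h1 : (x : Ω)⁻¹ * t * ((x : Ω)⁻¹)⁻¹ ∈ T :=
      conj_mem_of_stronglyClosed F hT (S.inv_mem (hRS x.2)) ht
    have h2 : (x : Ω)⁻¹ * (t * (x : Ω) * t⁻¹) = ((x : Ω)⁻¹ * t * ((x : Ω)⁻¹)⁻¹) * t⁻¹ := by group
    rw [h2]
    exact T.mul_mem h1 (T.inv_mem ht)
  have hconj := (Subgroup.mem_normalizer_iff.mp hn _).mp (Subgroup.mem_inf.mpr ⟨hctSy, hctN₁⟩)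
  have hconjSy : n * ⟨conjAut R ⟨t, htN⟩, hctA⟩ * n⁻¹ ∈ (Sy : Subgroup (F.autGroup R)) := hconj.1
  rw [hSy] at hconjSy
  have hconj' : (n : MulAut R) * conjAut R ⟨t, htN⟩ * (n : MulAut R)⁻¹ ∈ autInducedBy S R :=
    hconjSy
  obtain ⟨h, hhS, hh⟩ := (mem_autInducedBy_iff S R _).mp hconj'
  have htN' : t ∈ normalizerIn S R := ⟨htS, htN⟩
  have htext : t ∈ extender S R (R.subtype.comp (n : MulAut R).toMonoidHom) := by
    apply mem_extender_of_conj (n : MulAut R) htN' hhS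
    intro x hx
    have h1 := hh ((n : MulAut R) x)
    rw [← h1]
    show _ = (((n : MulAut R) (conjAut R ⟨t, htN⟩ ((n : MulAut R)⁻¹ ((n : MulAut R) x))) : R) : Ω)
    rw [MulAut.inv_apply_self]
    rfl
  -- extend `n`
  have hrec := receptive_of_fullyCentralized hS F hF (fullyCentralized_of_fullyNormalized hS F hF hR)
  have hφn := hom_of_mem_autGroup F hRS n.2
  have hφnr : (R.subtype.comp (n : MulAut R).toMonoidHom).range = R := by
    apply le_antisymm
    · rintro _ ⟨x, rfl⟩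
      exact ((n : MulAut R) x).2
    · intro y hy
      refine ⟨(n : MulAut R)⁻¹ ⟨y, hy⟩, ?_⟩
      show (((n : MulAut R) ((n : MulAut R)⁻¹ ⟨y, hy⟩) : R) : Ω) = y
      rw [MulAut.apply_inv_self]
  obtain ⟨n', hn', hn'e⟩ := hrec.2 R _ hφn hφnr
  have hRN : R ≤ extender S R (R.subtype.comp (n : MulAut R).toMonoidHom) :=
    le_extender hRS _ (fun x => hom_mem F hφn x)
  have hNS : extender S R (R.subtype.comp (n : MulAut R).toMonoidHom) ≤ S :=
    (extender_le_normalizerIn R _).trans inf_le_left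
  have hfinN : Finite (extender S R (R.subtype.comp (n : MulAut R).toMonoidHom)) :=
    finite_of_le hNS
  have hltN : R < extender S R (R.subtype.comp (n : MulAut R).toMonoidHom) := by
    refine lt_of_le_of_ne hRN ?_
    intro h
    apply htR
    rw [h]
    exact htext
  obtain ⟨ψ₀, hψ₀, hψ₀e⟩ := H _ hNS (card_lt_of_lt' hltN) n' hn'
  have hle : R ⊔ T ≤ extender S R (R.subtype.comp (n : MulAut R).toMonoidHom) ⊔ T :=
    sup_le_sup_right hRN T
  refine ⟨ψ₀.comp (Subgroup.inclusion hle), restrict_mem F hψ₀ hle, fun x => ?_⟩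
  have h1 := hψ₀e ⟨x, hRN x.2⟩
  rw [hn'e x x.2 (hRN x.2)] at h1
  have h2 : Subgroup.inclusion hle (Subgroup.inclusion le_sup_left x) =
      Subgroup.inclusion le_sup_left (⟨x, hRN x.2⟩ :
        extender S R (R.subtype.comp (n : MulAut R).toMonoidHom)) := Subtype.ext rfl
  show (((α x : R) : Ω))⁻¹ * ψ₀ (Subgroup.inclusion hle (Subgroup.inclusion le_sup_left x)) ∈ T
  rw [h2]
  have h3 : ((R.subtype.comp (n : MulAut R).toMonoidHom) ⟨(x : Ω), x.2⟩) =
      (((n : MulAut R) x : R) : Ω) := rfl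
  rw [h3] at h1
  -- `α x = n (a₁ x)` and `a₁ x ≡ x` modulo `T`
  have h4 : α = (n : MulAut R) * (a₁ : MulAut R) := by
    have := congrArg Subtype.val hna
    exact this
  have h5 := (hmemN₁ a₁).mp ha₁ x
  have h6 : ((α x : R) : Ω) = (((n : MulAut R) x : R) : Ω) *
      (((n : MulAut R) (x⁻¹ * (a₁ : MulAut R) x) : R) : Ω) := by
    rw [h4, MulAut.mul_apply, ← Subgroup.coe_mul, ← map_mul, mul_inv_cancel_left]
  have h7 : (((n : MulAut R) (x⁻¹ * (a₁ : MulAut R) x) : R) : Ω) ∈ T :=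
    map_mem_of_stronglyClosed F hT hφn (x⁻¹ * (a₁ : MulAut R) x) h5
  rw [h6, mul_inv_rev, mul_assoc]
  exact T.mul_mem (T.inv_mem h7) h1

end Cfsg.Agent.Lib.Helper9
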