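import Mathlib
import Cfsg.Prelude.Def_ChevF4
import Cfsg.Agent.Lib.Helper5.F4WCover
import Cfsg.Agent.Lib.Helper9.InvolXD

set_option autoImplicit false

/-!
The status table of the 1152 words of `wtblF4_full`: the identity, the words not acting as an
involution (with a witness root), and the 139 involutive words with their certificates.
-/

namespace Cfsg.Agent.Lib.Helper9.F4Inv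

open Cfsg Cfsg.Lie Cfsg.Agent.Lib.Helper5.ChevSym Cfsg.Agent.Lib.Helper5.ChevStruct
  Cfsg.Agent.Lib.Helper9.InvolX

set_option maxRecDepth 1000000 in
/-- the status table (same order as `wtblF4_full`) -/
def statF4 : List (ℕ × Cert) := [
  (0, ⟨false, [], 0, 0⟩),
  (2, ⟨false, [], 0, 7⟩),
  (2, ⟨false, [], 1, 8⟩),
  (2, ⟨false, [], 2, 2⟩),
  (2, ⟨false, [], 3, 1⟩),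
  (1, ⟨false, [], 0, 2⟩),
  (2, ⟨false, [], 2, 2⟩),
  (2, ⟨false, [], 3, 1⟩),
  (1, ⟨false, [], 0, 2⟩),
  (1, ⟨false, [], 0, 1⟩),
  (2, ⟨false, [], 3, 1⟩),
  (1, ⟨false, [], 0, 1⟩),
  (1, ⟨false, [], 0, 0⟩),
  (1, ⟨false, [], 0, 0⟩),
  (2, ⟨false, [0], 1, 8⟩),
  (1, ⟨false, [], 0, 1⟩),
  (1, ⟨false, [], 0, 2⟩),
  (1, ⟨false, [], 0, 1⟩),
  (1, ⟨false, [], 0, 0⟩),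
  (1, ⟨false, [], 0, 0⟩),
  (1, ⟨false, [], 0, 1⟩),
  (1, ⟨false, [], 0, 2⟩),
  (2, ⟨false, [1], 2, 2⟩),
  (1, ⟨false, [], 0, 0⟩),
  (1, ⟨false, [], 0, 0⟩),
  (1, ⟨false, [], 0, 1⟩),
  (2, ⟨false, [2], 1, 8⟩),
  (1, ⟨false, [], 0, 0⟩),
  (2, ⟨false, [2], 3, 1⟩),
  (1, ⟨false, [], 0, 0⟩),
  (1, ⟨false, [], 0, 1⟩),
  (2, ⟨false, [], 3, 1⟩),
  (1, ⟨false, [], 0, 1⟩),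
  (1, ⟨false, [], 0, 0⟩),
  (1, ⟨false, [], 0, 0⟩),
  (1, ⟨false, [], 0, 1⟩),
  (1, ⟨false, [], 0, 1⟩),
  (1, ⟨false, [], 0, 0⟩),
  (2, ⟨false, [2], 3, 1⟩),
  (1, ⟨false, [], 0, 0⟩),
  (2, ⟨false, [1], 2, 2⟩),
  (1, ⟨false, [], 0, 0⟩),
  (1, ⟨false, [], 0, 0⟩),
  (1, ⟨false, [], 0, 1⟩),
  (2, ⟨true, [], 1, 17⟩),
  (1, ⟨false, [], 0, 0⟩),
  (1, ⟨false, [], 0, 0⟩),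
  (1, ⟨false, [], 0, 0⟩),
  (1, ⟨false, [], 0, 1⟩),
  (1, ⟨false, [], 0, 0⟩),
  (1, ⟨false, [], 0, 0⟩),
  (2, ⟨false, [2], 3, 1⟩),
  (1, ⟨false, [], 0, 0⟩),
  (1, ⟨false, [], 0, 0⟩),
  (1, ⟨false, [], 0, 0⟩),
  (1, ⟨false, [], 0, 1⟩),
  (1, ⟨false, [], 0, 0⟩),
  (1, ⟨false, [], 0, 0⟩),
  (2, ⟨false, [1, 0], 2, 2⟩),
  (1, ⟨false, [], 0, 1⟩),
  (1, ⟨false, [], 0, 0⟩),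
  (1, ⟨false, [], 0, 0⟩),
  (1, ⟨false, [], 0, 0⟩),
  (2, ⟨false, [2, 0], 1, 8⟩),
  (1, ⟨false, [], 0, 0⟩),
  (1, ⟨false, [], 0, 0⟩),
  (1, ⟨false, [], 0, 1⟩),
  (1, ⟨false, [], 0, 0⟩),
  (1, ⟨false, [], 0, 0⟩),
  (1, ⟨false, [], 0, 0⟩),
  (1, ⟨false, [], 0, 1⟩),
  (1, ⟨false, [], 0, 1⟩),
  (1, ⟨false, [], 0, 0⟩),
  (1, ⟨false, [], 0, 0⟩),
  (1, ⟨false, [], 0, 0⟩),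
  (1, ⟨false, [], 0, 1⟩),
  (1, ⟨false, [], 0, 0⟩),
  (1, ⟨false, [], 0, 0⟩),
  (1, ⟨false, [], 0, 0⟩),
  (2, ⟨false, [2, 1], 3, 1⟩),
  (1, ⟨false, [], 0, 0⟩),
  (1, ⟨false, [], 0, 0⟩),
  (1, ⟨false, [], 0, 1⟩),
  (1, ⟨false, [], 0, 0⟩),
  (1, ⟨false, [], 0, 1⟩),
  (1, ⟨false, [], 0, 0⟩),
  (1, ⟨false, [], 0, 0⟩),
  (1, ⟨false, [], 0, 0⟩),
  (1, ⟨false, [], 0, 0⟩),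
  (1, ⟨false, [], 0, 0⟩),
  (2, ⟨false, [2, 3], 1, 8⟩),
  (2, ⟨false, [], 1, 8⟩),
  (1, ⟨false, [], 0, 1⟩),
  (1, ⟨false, [], 0, 0⟩),
  (1, ⟨false, [], 0, 0⟩),
  (1, ⟨false, [], 0, 0⟩),
  (2, ⟨true, [0], 1, 17⟩),
  (1, ⟨false, [], 0, 0⟩),
  (1, ⟨false, [], 0, 0⟩),
  (1, ⟨false, [], 0, 0⟩),
  (1, ⟨false, [], 0, 0⟩),
  (1, ⟨false, [], 0, 0⟩),
  (1, ⟨false, [], 0, 0⟩),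
  (1, ⟨false, [], 0, 1⟩),
  (1, ⟨false, [], 0, 0⟩),
  (2, ⟨false, [2], 3, 1⟩),
  (1, ⟨false, [], 0, 0⟩),
  (1, ⟨false, [], 0, 0⟩),
  (1, ⟨false, [], 0, 0⟩),
  (1, ⟨false, [], 0, 0⟩),
  (1, ⟨false, [], 0, 0⟩),
  (1, ⟨false, [], 0, 0⟩),
  (1, ⟨false, [], 0, 1⟩),
  (1, ⟨false, [], 0, 0⟩),
  (1, ⟨false, [], 0, 0⟩),
  (1, ⟨false, [], 0, 0⟩),
  (2, ⟨false, [2, 1], 3, 1⟩),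
  (1, ⟨false, [], 0, 0⟩),
  (1, ⟨false, [], 0, 0⟩),
  (1, ⟨false, [], 0, 1⟩),
  (1, ⟨false, [], 0, 0⟩),
  (1, ⟨false, [], 0, 0⟩),
  (1, ⟨false, [], 0, 0⟩),
  (2, ⟨false, [2], 1, 11⟩),
  (1, ⟨false, [], 0, 0⟩),
  (1, ⟨false, [], 0, 0⟩),
  (1, ⟨false, [], 0, 0⟩),
  (2, ⟨true, [], 1, 16⟩),
  (2, ⟨false, [1], 2, 5⟩),
  (1, ⟨false, [], 0, 0⟩),
  (1, ⟨false, [], 0, 0⟩),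
  (1, ⟨false, [], 0, 0⟩),
  (1, ⟨false, [], 0, 0⟩),
  (1, ⟨false, [], 0, 0⟩),
  (1, ⟨false, [], 0, 0⟩),
  (1, ⟨false, [], 0, 0⟩),
  (2, ⟨false, [], 2, 2⟩),
  (1, ⟨false, [], 0, 0⟩),
  (1, ⟨false, [], 0, 0⟩),
  (1, ⟨false, [], 0, 1⟩),
  (1, ⟨false, [], 0, 0⟩),
  (1, ⟨false, [], 0, 0⟩),
  (1, ⟨false, [], 0, 0⟩),
  (1, ⟨false, [], 0, 0⟩),
  (1, ⟨false, [], 0, 0⟩),
  (1, ⟨false, [], 0, 0⟩),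
  (1, ⟨false, [], 0, 1⟩),
  (1, ⟨false, [], 0, 0⟩),
  (1, ⟨false, [], 0, 0⟩),
  (1, ⟨false, [], 0, 0⟩),
  (1, ⟨false, [], 0, 0⟩),
  (2, ⟨false, [2, 1, 0], 3, 1⟩),
  (1, ⟨false, [], 0, 0⟩),
  (1, ⟨false, [], 0, 0⟩),
  (1, ⟨false, [], 0, 0⟩),
  (1, ⟨false, [], 0, 2⟩),
  (1, ⟨false, [], 0, 0⟩),
  (1, ⟨false, [], 0, 0⟩),
  (1, ⟨false, [], 0, 0⟩),
  (1, ⟨false, [], 0, 0⟩),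
  (1, ⟨false, [], 0, 0⟩),
  (1, ⟨false, [], 0, 0⟩),
  (1, ⟨false, [], 0, 0⟩),
  (1, ⟨false, [], 0, 0⟩),
  (1, ⟨false, [], 0, 0⟩),
  (2, ⟨false, [2, 3, 0], 1, 8⟩),
  (2, ⟨false, [2, 0, 1], 1, 8⟩),
  (1, ⟨false, [], 0, 0⟩),
  (1, ⟨false, [], 0, 0⟩),
  (1, ⟨false, [], 0, 0⟩),
  (1, ⟨false, [], 0, 1⟩),
  (1, ⟨false, [], 0, 0⟩),
  (1, ⟨false, [], 0, 0⟩),
  (1, ⟨false, [], 0, 0⟩),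
  (1, ⟨false, [], 0, 0⟩),
  (1, ⟨false, [], 0, 2⟩),
  (1, ⟨false, [], 0, 0⟩),
  (1, ⟨false, [], 0, 0⟩),
  (1, ⟨false, [], 0, 1⟩),
  (1, ⟨false, [], 0, 0⟩),
  (1, ⟨false, [], 0, 0⟩),
  (1, ⟨false, [], 0, 0⟩),
  (1, ⟨false, [], 0, 0⟩),
  (1, ⟨false, [], 0, 1⟩),
  (1, ⟨false, [], 0, 0⟩),
  (1, ⟨false, [], 0, 0⟩),
  (1, ⟨false, [], 0, 0⟩),
  (1, ⟨false, [], 0, 0⟩),
  (1, ⟨false, [], 0, 0⟩),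
  (1, ⟨false, [], 0, 0⟩),
  (1, ⟨false, [], 0, 0⟩),
  (1, ⟨false, [], 0, 0⟩),
  (2, ⟨false, [2, 1, 2], 3, 1⟩),
  (1, ⟨false, [], 0, 0⟩),
  (1, ⟨false, [], 0, 1⟩),
  (1, ⟨false, [], 0, 0⟩),
  (1, ⟨false, [], 0, 0⟩),
  (1, ⟨false, [], 0, 0⟩),
  (1, ⟨false, [], 0, 0⟩),
  (2, ⟨true, [], 0, 6⟩),
  (1, ⟨false, [], 0, 0⟩),
  (1, ⟨false, [], 0, 0⟩),
  (1, ⟨false, [], 0, 0⟩),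
  (1, ⟨false, [], 0, 0⟩),
  (2, ⟨false, [], 1, 8⟩),
  (1, ⟨false, [], 0, 0⟩),
  (1, ⟨false, [], 0, 0⟩),
  (1, ⟨false, [], 0, 0⟩),
  (2, ⟨false, [2], 1, 8⟩),
  (1, ⟨false, [], 0, 0⟩),
  (1, ⟨false, [], 0, 0⟩),
  (1, ⟨false, [], 0, 0⟩),
  (1, ⟨false, [], 0, 0⟩),
  (2, ⟨false, [2, 0], 1, 11⟩),
  (1, ⟨false, [], 0, 0⟩),
  (1, ⟨false, [], 0, 0⟩),
  (1, ⟨false, [], 0, 0⟩),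
  (1, ⟨false, [], 0, 0⟩),
  (2, ⟨true, [0], 1, 16⟩),
  (1, ⟨false, [], 0, 0⟩),
  (1, ⟨false, [], 0, 0⟩),
  (1, ⟨false, [], 0, 0⟩),
  (1, ⟨false, [], 0, 0⟩),
  (1, ⟨false, [], 0, 0⟩),
  (1, ⟨false, [], 0, 0⟩),
  (1, ⟨false, [], 0, 0⟩),
  (1, ⟨false, [], 0, 0⟩),
  (1, ⟨false, [], 0, 0⟩),
  (1, ⟨false, [], 0, 0⟩),
  (2, ⟨false, [], 2, 2⟩),
  (1, ⟨false, [], 0, 0⟩),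
  (1, ⟨false, [], 0, 0⟩),
  (2, ⟨false, [], 2, 5⟩),
  (1, ⟨false, [], 0, 0⟩),
  (1, ⟨false, [], 0, 0⟩),
  (2, ⟨false, [2, 1], 3, 1⟩),
  (1, ⟨false, [], 0, 0⟩),
  (1, ⟨false, [], 0, 0⟩),
  (1, ⟨false, [], 0, 0⟩),
  (1, ⟨false, [], 0, 0⟩),
  (1, ⟨false, [], 0, 0⟩),
  (1, ⟨false, [], 0, 0⟩),
  (1, ⟨false, [], 0, 0⟩),
  (1, ⟨false, [], 0, 0⟩),
  (1, ⟨false, [], 0, 0⟩),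
  (1, ⟨false, [], 0, 0⟩),
  (1, ⟨false, [], 0, 0⟩),
  (1, ⟨false, [], 0, 0⟩),
  (1, ⟨false, [], 0, 0⟩),
  (2, ⟨false, [], 1, 11⟩),
  (1, ⟨false, [], 0, 0⟩),
  (2, ⟨false, [2, 3], 1, 11⟩),
  (1, ⟨false, [], 0, 0⟩),
  (1, ⟨false, [], 0, 0⟩),
  (1, ⟨false, [], 0, 0⟩),
  (1, ⟨false, [], 0, 0⟩),
  (1, ⟨false, [], 0, 0⟩),
  (1, ⟨false, [], 0, 0⟩),
  (1, ⟨false, [], 0, 0⟩),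
  (2, ⟨false, [2, 1, 2], 3, 1⟩),
  (1, ⟨false, [], 0, 0⟩),
  (1, ⟨false, [], 0, 0⟩),
  (1, ⟨false, [], 0, 0⟩),
  (2, ⟨true, [2], 1, 16⟩),
  (1, ⟨false, [], 0, 0⟩),
  (1, ⟨false, [], 0, 0⟩),
  (1, ⟨false, [], 0, 0⟩),
  (1, ⟨false, [], 0, 0⟩),
  (2, ⟨false, [2, 1], 3, 6⟩),
  (1, ⟨false, [], 0, 0⟩),
  (2, ⟨true, [], 1, 10⟩),
  (1, ⟨false, [], 0, 0⟩),
  (1, ⟨false, [], 0, 0⟩),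
  (1, ⟨false, [], 0, 0⟩),
  (1, ⟨false, [], 0, 0⟩),
  (1, ⟨false, [], 0, 1⟩),
  (1, ⟨false, [], 0, 0⟩),
  (1, ⟨false, [], 0, 0⟩),
  (1, ⟨false, [], 0, 0⟩),
  (1, ⟨false, [], 0, 0⟩),
  (1, ⟨false, [], 0, 0⟩),
  (1, ⟨false, [], 0, 0⟩),
  (1, ⟨false, [], 0, 0⟩),
  (1, ⟨false, [], 0, 0⟩),
  (1, ⟨false, [], 0, 1⟩),
  (1, ⟨false, [], 0, 0⟩),
  (1, ⟨false, [], 0, 0⟩),
  (1, ⟨false, [], 0, 0⟩),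
  (1, ⟨false, [], 0, 0⟩),
  (1, ⟨false, [], 0, 0⟩),
  (1, ⟨false, [], 0, 0⟩),
  (1, ⟨false, [], 0, 1⟩),
  (1, ⟨false, [], 0, 0⟩),
  (1, ⟨false, [], 0, 0⟩),
  (1, ⟨false, [], 0, 0⟩),
  (1, ⟨false, [], 0, 0⟩),
  (1, ⟨false, [], 0, 0⟩),
  (1, ⟨false, [], 0, 0⟩),
  (1, ⟨false, [], 0, 0⟩),
  (1, ⟨false, [], 0, 0⟩),
  (2, ⟨false, [2, 1, 2, 0], 3, 1⟩),
  (1, ⟨false, [], 0, 0⟩),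
  (1, ⟨false, [], 0, 0⟩),
  (1, ⟨false, [], 0, 1⟩),
  (1, ⟨false, [], 0, 0⟩),
  (1, ⟨false, [], 0, 0⟩),
  (1, ⟨false, [], 0, 2⟩),
  (1, ⟨false, [], 0, 0⟩),
  (1, ⟨false, [], 0, 0⟩),
  (1, ⟨false, [], 0, 0⟩),
  (1, ⟨false, [], 0, 0⟩),
  (1, ⟨false, [], 0, 0⟩),
  (1, ⟨false, [], 0, 0⟩),
  (1, ⟨false, [], 0, 0⟩),
  (1, ⟨false, [], 0, 0⟩),
  (1, ⟨false, [], 0, 0⟩),
  (1, ⟨false, [], 0, 0⟩),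
  (1, ⟨false, [], 0, 0⟩),
  (1, ⟨false, [], 0, 0⟩),
  (1, ⟨false, [], 0, 0⟩),
  (2, ⟨false, [2, 3, 0, 1], 1, 8⟩),
  (1, ⟨false, [], 0, 0⟩),
  (1, ⟨false, [], 0, 0⟩),
  (1, ⟨false, [], 0, 0⟩),
  (1, ⟨false, [], 0, 1⟩),
  (1, ⟨false, [], 0, 0⟩),
  (1, ⟨false, [], 0, 0⟩),
  (1, ⟨false, [], 0, 0⟩),
  (2, ⟨true, [], 3, 16⟩),
  (1, ⟨false, [], 0, 0⟩),
  (1, ⟨false, [], 0, 0⟩),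
  (1, ⟨false, [], 0, 0⟩),
  (1, ⟨false, [], 0, 0⟩),
  (1, ⟨false, [], 0, 2⟩),
  (1, ⟨false, [], 0, 0⟩),
  (1, ⟨false, [], 0, 0⟩),
  (1, ⟨false, [], 0, 0⟩),
  (1, ⟨false, [], 0, 1⟩),
  (1, ⟨false, [], 0, 0⟩),
  (1, ⟨false, [], 0, 0⟩),
  (1, ⟨false, [], 0, 0⟩),
  (1, ⟨false, [], 0, 0⟩),
  (1, ⟨false, [], 0, 0⟩),
  (1, ⟨false, [], 0, 0⟩),
  (1, ⟨false, [], 0, 0⟩),
  (1, ⟨false, [], 0, 0⟩),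
  (1, ⟨false, [], 0, 0⟩),
  (1, ⟨false, [], 0, 0⟩),
  (1, ⟨false, [], 0, 0⟩),
  (1, ⟨false, [], 0, 0⟩),
  (1, ⟨false, [], 0, 0⟩),
  (1, ⟨false, [], 0, 0⟩),
  (1, ⟨false, [], 0, 0⟩),
  (2, ⟨false, [2, 0, 1], 1, 11⟩),
  (1, ⟨false, [], 0, 0⟩),
  (1, ⟨false, [], 0, 0⟩),
  (1, ⟨false, [], 0, 0⟩),
  (1, ⟨false, [], 0, 0⟩),
  (1, ⟨false, [], 0, 0⟩),
  (1, ⟨false, [], 0, 0⟩),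
  (1, ⟨false, [], 0, 0⟩),
  (1, ⟨false, [], 0, 0⟩),
  (2, ⟨true, [], 0, 5⟩),
  (1, ⟨false, [], 0, 0⟩),
  (1, ⟨false, [], 0, 0⟩),
  (1, ⟨false, [], 0, 0⟩),
  (1, ⟨false, [], 0, 0⟩),
  (1, ⟨false, [], 0, 0⟩),
  (1, ⟨false, [], 0, 0⟩),
  (2, ⟨false, [0], 1, 11⟩),
  (1, ⟨false, [], 0, 0⟩),
  (1, ⟨false, [], 0, 0⟩),
  (2, ⟨false, [2, 3, 0], 1, 11⟩),
  (1, ⟨false, [], 0, 0⟩),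
  (1, ⟨false, [], 0, 0⟩),
  (2, ⟨false, [2, 3], 1, 8⟩),
  (1, ⟨false, [], 0, 0⟩),
  (1, ⟨false, [], 0, 0⟩),
  (1, ⟨false, [], 0, 0⟩),
  (1, ⟨false, [], 0, 0⟩),
  (2, ⟨false, [2], 1, 8⟩),
  (1, ⟨false, [], 0, 0⟩),
  (1, ⟨false, [], 0, 0⟩),
  (1, ⟨false, [], 0, 0⟩),
  (1, ⟨false, [], 0, 0⟩),
  (2, ⟨true, [2, 0], 1, 16⟩),
  (1, ⟨false, [], 0, 0⟩),
  (1, ⟨false, [], 0, 0⟩),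
  (1, ⟨false, [], 0, 0⟩),
  (1, ⟨false, [], 0, 0⟩),
  (1, ⟨false, [], 0, 0⟩),
  (1, ⟨false, [], 0, 0⟩),
  (1, ⟨false, [], 0, 0⟩),
  (1, ⟨false, [], 0, 0⟩),
  (1, ⟨false, [], 0, 0⟩),
  (1, ⟨false, [], 0, 0⟩),
  (1, ⟨false, [], 0, 0⟩),
  (1, ⟨false, [], 0, 0⟩),
  (1, ⟨false, [], 0, 0⟩),
  (1, ⟨false, [], 0, 0⟩),
  (1, ⟨false, [], 0, 0⟩),
  (1, ⟨false, [], 0, 0⟩),
  (1, ⟨false, [], 0, 0⟩),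
  (2, ⟨false, [1], 2, 2⟩),
  (2, ⟨false, [2], 3, 6⟩),
  (1, ⟨false, [], 0, 0⟩),
  (1, ⟨false, [], 0, 0⟩),
  (1, ⟨false, [], 0, 0⟩),
  (2, ⟨false, [2, 1, 2], 3, 1⟩),
  (1, ⟨false, [], 0, 0⟩),
  (1, ⟨false, [], 0, 0⟩),
  (1, ⟨false, [], 0, 0⟩),
  (1, ⟨false, [], 0, 0⟩),
  (1, ⟨false, [], 0, 0⟩),
  (1, ⟨false, [], 0, 0⟩),
  (1, ⟨false, [], 0, 0⟩),
  (1, ⟨false, [], 0, 0⟩),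
  (1, ⟨false, [], 0, 0⟩),
  (1, ⟨false, [], 0, 0⟩),
  (1, ⟨false, [], 0, 0⟩),
  (1, ⟨false, [], 0, 0⟩),
  (1, ⟨false, [], 0, 0⟩),
  (1, ⟨false, [], 0, 0⟩),
  (1, ⟨false, [], 0, 0⟩),
  (1, ⟨false, [], 0, 0⟩),
  (1, ⟨false, [], 0, 0⟩),
  (1, ⟨false, [], 0, 0⟩),
  (1, ⟨false, [], 0, 0⟩),
  (1, ⟨false, [], 0, 0⟩),
  (1, ⟨false, [], 0, 0⟩),
  (1, ⟨false, [], 0, 0⟩),
  (1, ⟨false, [], 0, 0⟩),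
  (1, ⟨false, [], 0, 0⟩),
  (2, ⟨false, [2, 1, 2], 3, 6⟩),
  (1, ⟨false, [], 0, 0⟩),
  (1, ⟨false, [], 0, 0⟩),
  (1, ⟨false, [], 0, 0⟩),
  (1, ⟨false, [], 0, 0⟩),
  (1, ⟨false, [], 0, 0⟩),
  (1, ⟨false, [], 0, 0⟩),
  (1, ⟨false, [], 0, 0⟩),
  (1, ⟨false, [], 0, 0⟩),
  (1, ⟨false, [], 0, 0⟩),
  (1, ⟨false, [], 0, 0⟩),
  (1, ⟨false, [], 0, 0⟩),
  (1, ⟨false, [], 0, 0⟩),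
  (1, ⟨false, [], 0, 0⟩),
  (1, ⟨false, [], 0, 0⟩),
  (1, ⟨false, [], 0, 1⟩),
  (2, ⟨true, [], 1, 9⟩),
  (1, ⟨false, [], 0, 0⟩),
  (1, ⟨false, [], 0, 0⟩),
  (1, ⟨false, [], 0, 0⟩),
  (1, ⟨false, [], 0, 0⟩),
  (1, ⟨false, [], 0, 1⟩),
  (1, ⟨false, [], 0, 0⟩),
  (1, ⟨false, [], 0, 0⟩),
  (1, ⟨false, [], 0, 0⟩),
  (1, ⟨false, [], 0, 0⟩),
  (2, ⟨true, [], 3, 5⟩),
  (1, ⟨false, [], 0, 0⟩),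
  (1, ⟨false, [], 0, 0⟩),
  (1, ⟨false, [], 0, 0⟩),
  (1, ⟨false, [], 0, 0⟩),
  (1, ⟨false, [], 0, 0⟩),
  (1, ⟨false, [], 0, 0⟩),
  (1, ⟨false, [], 0, 0⟩),
  (1, ⟨false, [], 0, 0⟩),
  (1, ⟨false, [], 0, 1⟩),
  (1, ⟨false, [], 0, 0⟩),
  (1, ⟨false, [], 0, 0⟩),
  (1, ⟨false, [], 0, 0⟩),
  (1, ⟨false, [], 0, 0⟩),
  (1, ⟨false, [], 0, 0⟩),
  (1, ⟨false, [], 0, 0⟩),
  (1, ⟨false, [], 0, 0⟩),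
  (1, ⟨false, [], 0, 0⟩),
  (1, ⟨false, [], 0, 0⟩),
  (1, ⟨false, [], 0, 1⟩),
  (1, ⟨false, [], 0, 0⟩),
  (1, ⟨false, [], 0, 0⟩),
  (1, ⟨false, [], 0, 0⟩),
  (1, ⟨false, [], 0, 0⟩),
  (1, ⟨false, [], 0, 0⟩),
  (1, ⟨false, [], 0, 0⟩),
  (1, ⟨false, [], 0, 0⟩),
  (1, ⟨false, [], 0, 0⟩),
  (1, ⟨false, [], 0, 0⟩),
  (1, ⟨false, [], 0, 0⟩),
  (2, ⟨false, [2, 1, 2, 0, 1], 3, 1⟩),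
  (1, ⟨false, [], 0, 0⟩),
  (1, ⟨false, [], 0, 0⟩),
  (1, ⟨false, [], 0, 1⟩),
  (1, ⟨false, [], 0, 0⟩),
  (1, ⟨false, [], 0, 0⟩),
  (1, ⟨false, [], 0, 0⟩),
  (1, ⟨false, [], 0, 0⟩),
  (1, ⟨false, [], 0, 0⟩),
  (1, ⟨false, [], 0, 0⟩),
  (1, ⟨false, [], 0, 0⟩),
  (1, ⟨false, [], 0, 0⟩),
  (1, ⟨false, [], 0, 0⟩),
  (1, ⟨false, [], 0, 0⟩),
  (1, ⟨false, [], 0, 0⟩),
  (1, ⟨false, [], 0, 0⟩),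
  (1, ⟨false, [], 0, 0⟩),
  (1, ⟨false, [], 0, 0⟩),
  (1, ⟨false, [], 0, 0⟩),
  (1, ⟨false, [], 0, 0⟩),
  (1, ⟨false, [], 0, 0⟩),
  (1, ⟨false, [], 0, 0⟩),
  (1, ⟨false, [], 0, 0⟩),
  (1, ⟨false, [], 0, 0⟩),
  (1, ⟨false, [], 0, 0⟩),
  (1, ⟨false, [], 0, 0⟩),
  (1, ⟨false, [], 0, 0⟩),
  (1, ⟨false, [], 0, 0⟩),
  (1, ⟨false, [], 0, 0⟩),
  (1, ⟨false, [], 0, 0⟩),
  (1, ⟨false, [], 0, 0⟩),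
  (2, ⟨false, [2, 3, 0, 1, 2], 1, 8⟩),
  (1, ⟨false, [], 0, 0⟩),
  (1, ⟨false, [], 0, 0⟩),
  (1, ⟨false, [], 0, 1⟩),
  (1, ⟨false, [], 0, 0⟩),
  (1, ⟨false, [], 0, 0⟩),
  (1, ⟨false, [], 0, 0⟩),
  (1, ⟨false, [], 0, 0⟩),
  (1, ⟨false, [], 0, 0⟩),
  (1, ⟨false, [], 0, 0⟩),
  (1, ⟨false, [], 0, 0⟩),
  (1, ⟨false, [], 0, 0⟩),
  (1, ⟨false, [], 0, 0⟩),
  (1, ⟨false, [], 0, 0⟩),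
  (1, ⟨false, [], 0, 0⟩),
  (1, ⟨false, [], 0, 0⟩),
  (2, ⟨false, [], 0, 18⟩),
  (1, ⟨false, [], 0, 0⟩),
  (1, ⟨false, [], 0, 0⟩),
  (2, ⟨false, [2, 3, 0, 1], 1, 11⟩),
  (1, ⟨false, [], 0, 0⟩),
  (1, ⟨false, [], 0, 0⟩),
  (1, ⟨false, [], 0, 0⟩),
  (1, ⟨false, [], 0, 0⟩),
  (1, ⟨false, [], 0, 0⟩),
  (1, ⟨false, [], 0, 0⟩),
  (2, ⟨false, [2, 0, 1], 1, 11⟩),
  (1, ⟨false, [], 0, 0⟩),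
  (1, ⟨false, [], 0, 0⟩),
  (1, ⟨false, [], 0, 0⟩),
  (1, ⟨false, [], 0, 0⟩),
  (1, ⟨false, [], 0, 0⟩),
  (1, ⟨false, [], 0, 0⟩),
  (1, ⟨false, [], 0, 0⟩),
  (1, ⟨false, [], 0, 0⟩),
  (1, ⟨false, [], 0, 0⟩),
  (1, ⟨false, [], 0, 0⟩),
  (1, ⟨false, [], 0, 0⟩),
  (1, ⟨false, [], 0, 0⟩),
  (1, ⟨false, [], 0, 0⟩),
  (1, ⟨false, [], 0, 0⟩),
  (1, ⟨false, [], 0, 0⟩),
  (1, ⟨false, [], 0, 0⟩),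
  (1, ⟨false, [], 0, 0⟩),
  (1, ⟨false, [], 0, 0⟩),
  (1, ⟨false, [], 0, 0⟩),
  (1, ⟨false, [], 0, 0⟩),
  (2, ⟨true, [], 0, 4⟩),
  (1, ⟨false, [], 0, 0⟩),
  (1, ⟨false, [], 0, 0⟩),
  (2, ⟨false, [2, 3], 1, 8⟩),
  (1, ⟨false, [], 0, 0⟩),
  (1, ⟨false, [], 0, 0⟩),
  (1, ⟨false, [], 0, 0⟩),
  (1, ⟨false, [], 0, 0⟩),
  (1, ⟨false, [], 0, 0⟩),
  (1, ⟨false, [], 0, 0⟩),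
  (1, ⟨false, [], 0, 0⟩),
  (1, ⟨false, [], 0, 0⟩),
  (1, ⟨false, [], 0, 0⟩),
  (2, ⟨false, [2], 1, 11⟩),
  (1, ⟨false, [], 0, 0⟩),
  (1, ⟨false, [], 0, 0⟩),
  (1, ⟨false, [], 0, 0⟩),
  (1, ⟨false, [], 0, 0⟩),
  (2, ⟨true, [2, 0, 1], 1, 16⟩),
  (1, ⟨false, [], 0, 0⟩),
  (1, ⟨false, [], 0, 0⟩),
  (1, ⟨false, [], 0, 0⟩),
  (1, ⟨false, [], 0, 0⟩),
  (1, ⟨false, [], 0, 0⟩),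
  (1, ⟨false, [], 0, 0⟩),
  (1, ⟨false, [], 0, 0⟩),
  (1, ⟨false, [], 0, 0⟩),
  (1, ⟨false, [], 0, 0⟩),
  (1, ⟨false, [], 0, 0⟩),
  (1, ⟨false, [], 0, 0⟩),
  (1, ⟨false, [], 0, 0⟩),
  (1, ⟨false, [], 0, 0⟩),
  (1, ⟨false, [], 0, 0⟩),
  (1, ⟨false, [], 0, 0⟩),
  (1, ⟨false, [], 0, 0⟩),
  (1, ⟨false, [], 0, 0⟩),
  (1, ⟨false, [], 0, 0⟩),
  (2, ⟨false, [2, 1, 2], 3, 6⟩),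
  (1, ⟨false, [], 0, 0⟩),
  (1, ⟨false, [], 0, 0⟩),
  (1, ⟨false, [], 0, 0⟩),
  (1, ⟨false, [], 0, 0⟩),
  (1, ⟨false, [], 0, 0⟩),
  (1, ⟨false, [], 0, 0⟩),
  (1, ⟨false, [], 0, 0⟩),
  (1, ⟨false, [], 0, 0⟩),
  (2, ⟨false, [1], 2, 5⟩),
  (2, ⟨false, [], 3, 6⟩),
  (1, ⟨false, [], 0, 0⟩),
  (1, ⟨false, [], 0, 0⟩),
  (1, ⟨false, [], 0, 0⟩),
  (1, ⟨false, [], 0, 0⟩),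
  (1, ⟨false, [], 0, 0⟩),
  (1, ⟨false, [], 0, 0⟩),
  (1, ⟨false, [], 0, 0⟩),
  (1, ⟨false, [], 0, 0⟩),
  (1, ⟨false, [], 0, 0⟩),
  (1, ⟨false, [], 0, 0⟩),
  (1, ⟨false, [], 0, 0⟩),
  (1, ⟨false, [], 0, 0⟩),
  (1, ⟨false, [], 0, 1⟩),
  (1, ⟨false, [], 0, 0⟩),
  (1, ⟨false, [], 0, 0⟩),
  (1, ⟨false, [], 0, 0⟩),
  (1, ⟨false, [], 0, 0⟩),
  (2, ⟨true, [], 3, 5⟩),
  (1, ⟨false, [], 0, 0⟩),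
  (1, ⟨false, [], 0, 0⟩),
  (1, ⟨false, [], 0, 0⟩),
  (1, ⟨false, [], 0, 0⟩),
  (1, ⟨false, [], 0, 0⟩),
  (1, ⟨false, [], 0, 0⟩),
  (1, ⟨false, [], 0, 0⟩),
  (1, ⟨false, [], 0, 0⟩),
  (1, ⟨false, [], 0, 0⟩),
  (1, ⟨false, [], 0, 0⟩),
  (1, ⟨false, [], 0, 0⟩),
  (1, ⟨false, [], 0, 0⟩),
  (1, ⟨false, [], 0, 0⟩),
  (1, ⟨false, [], 0, 0⟩),
  (1, ⟨false, [], 0, 0⟩),
  (1, ⟨false, [], 0, 0⟩),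
  (1, ⟨false, [], 0, 0⟩),
  (1, ⟨false, [], 0, 0⟩),
  (1, ⟨false, [], 0, 0⟩),
  (1, ⟨false, [], 0, 0⟩),
  (1, ⟨false, [], 0, 0⟩),
  (1, ⟨false, [], 0, 0⟩),
  (1, ⟨false, [], 0, 0⟩),
  (1, ⟨false, [], 0, 0⟩),
  (1, ⟨false, [], 0, 0⟩),
  (1, ⟨false, [], 0, 0⟩),
  (1, ⟨false, [], 0, 0⟩),
  (1, ⟨false, [], 0, 1⟩),
  (2, ⟨true, [2], 1, 9⟩),
  (1, ⟨false, [], 0, 0⟩),
  (1, ⟨false, [], 0, 0⟩),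
  (1, ⟨false, [], 0, 0⟩),
  (1, ⟨false, [], 0, 0⟩),
  (1, ⟨false, [], 0, 0⟩),
  (1, ⟨false, [], 0, 0⟩),
  (1, ⟨false, [], 0, 0⟩),
  (1, ⟨false, [], 0, 0⟩),
  (1, ⟨false, [], 0, 0⟩),
  (1, ⟨false, [], 0, 0⟩),
  (1, ⟨false, [], 0, 1⟩),
  (1, ⟨false, [], 0, 0⟩),
  (1, ⟨false, [], 0, 0⟩),
  (1, ⟨false, [], 0, 0⟩),
  (1, ⟨false, [], 0, 0⟩),
  (1, ⟨false, [], 0, 0⟩),
  (1, ⟨false, [], 0, 0⟩),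
  (1, ⟨false, [], 0, 0⟩),
  (1, ⟨false, [], 0, 0⟩),
  (1, ⟨false, [], 0, 0⟩),
  (1, ⟨false, [], 0, 1⟩),
  (1, ⟨false, [], 0, 0⟩),
  (1, ⟨false, [], 0, 0⟩),
  (1, ⟨false, [], 0, 0⟩),
  (1, ⟨false, [], 0, 0⟩),
  (1, ⟨false, [], 0, 0⟩),
  (1, ⟨false, [], 0, 0⟩),
  (1, ⟨false, [], 0, 0⟩),
  (1, ⟨false, [], 0, 0⟩),
  (1, ⟨false, [], 0, 0⟩),
  (1, ⟨false, [], 0, 0⟩),
  (2, ⟨false, [2, 3, 0, 1, 2, 1], 1, 8⟩),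
  (1, ⟨false, [], 0, 0⟩),
  (1, ⟨false, [], 0, 0⟩),
  (1, ⟨false, [], 0, 1⟩),
  (1, ⟨false, [], 0, 0⟩),
  (1, ⟨false, [], 0, 0⟩),
  (1, ⟨false, [], 0, 0⟩),
  (1, ⟨false, [], 0, 0⟩),
  (2, ⟨false, [2, 1, 2, 0, 1, 2], 3, 1⟩),
  (1, ⟨false, [], 0, 0⟩),
  (1, ⟨false, [], 0, 0⟩),
  (1, ⟨false, [], 0, 1⟩),
  (1, ⟨false, [], 0, 0⟩),
  (1, ⟨false, [], 0, 0⟩),
  (1, ⟨false, [], 0, 0⟩),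
  (1, ⟨false, [], 0, 0⟩),
  (1, ⟨false, [], 0, 0⟩),
  (1, ⟨false, [], 0, 0⟩),
  (1, ⟨false, [], 0, 0⟩),
  (1, ⟨false, [], 0, 0⟩),
  (1, ⟨false, [], 0, 0⟩),
  (1, ⟨false, [], 0, 0⟩),
  (1, ⟨false, [], 0, 0⟩),
  (1, ⟨false, [], 0, 0⟩),
  (2, ⟨false, [2, 0], 1, 11⟩),
  (1, ⟨false, [], 0, 0⟩),
  (1, ⟨false, [], 0, 0⟩),
  (1, ⟨false, [], 0, 0⟩),
  (1, ⟨false, [], 0, 0⟩),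
  (1, ⟨false, [], 0, 0⟩),
  (1, ⟨false, [], 0, 0⟩),
  (1, ⟨false, [], 0, 0⟩),
  (1, ⟨false, [], 0, 0⟩),
  (1, ⟨false, [], 0, 0⟩),
  (1, ⟨false, [], 0, 0⟩),
  (1, ⟨false, [], 0, 0⟩),
  (1, ⟨false, [], 0, 0⟩),
  (1, ⟨false, [], 0, 0⟩),
  (1, ⟨false, [], 0, 0⟩),
  (1, ⟨false, [], 0, 0⟩),
  (1, ⟨false, [], 0, 0⟩),
  (1, ⟨false, [], 0, 0⟩),
  (1, ⟨false, [], 0, 0⟩),
  (1, ⟨false, [], 0, 0⟩),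
  (1, ⟨false, [], 0, 0⟩),
  (1, ⟨false, [], 0, 0⟩),
  (1, ⟨false, [], 0, 0⟩),
  (1, ⟨false, [], 0, 0⟩),
  (1, ⟨false, [], 0, 0⟩),
  (1, ⟨false, [], 0, 0⟩),
  (2, ⟨false, [2, 3, 0, 1], 1, 11⟩),
  (1, ⟨false, [], 0, 0⟩),
  (1, ⟨false, [], 0, 0⟩),
  (2, ⟨false, [], 0, 18⟩),
  (1, ⟨false, [], 0, 0⟩),
  (1, ⟨false, [], 0, 0⟩),
  (2, ⟨false, [2, 3, 0, 1, 2], 1, 11⟩),
  (1, ⟨false, [], 0, 0⟩),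
  (1, ⟨false, [], 0, 0⟩),
  (1, ⟨false, [], 0, 0⟩),
  (1, ⟨false, [], 0, 0⟩),
  (1, ⟨false, [], 0, 0⟩),
  (1, ⟨false, [], 0, 0⟩),
  (1, ⟨false, [], 0, 0⟩),
  (1, ⟨false, [], 0, 0⟩),
  (1, ⟨false, [], 0, 0⟩),
  (1, ⟨false, [], 0, 0⟩),
  (1, ⟨false, [], 0, 0⟩),
  (1, ⟨false, [], 0, 0⟩),
  (1, ⟨false, [], 0, 0⟩),
  (1, ⟨false, [], 0, 0⟩),
  (1, ⟨false, [], 0, 0⟩),
  (1, ⟨false, [], 0, 0⟩),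
  (1, ⟨false, [], 0, 0⟩),
  (2, ⟨true, [0], 1, 2⟩),
  (1, ⟨false, [], 0, 0⟩),
  (1, ⟨false, [], 0, 0⟩),
  (2, ⟨false, [2, 3], 1, 11⟩),
  (1, ⟨false, [], 0, 0⟩),
  (1, ⟨false, [], 0, 0⟩),
  (1, ⟨false, [], 0, 0⟩),
  (1, ⟨false, [], 0, 0⟩),
  (2, ⟨false, [], 1, 11⟩),
  (1, ⟨false, [], 0, 0⟩),
  (1, ⟨false, [], 0, 0⟩),
  (1, ⟨false, [], 0, 0⟩),
  (1, ⟨false, [], 0, 0⟩),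
  (2, ⟨false, [], 2, 5⟩),
  (2, ⟨false, [], 3, 6⟩),
  (1, ⟨false, [], 0, 0⟩),
  (1, ⟨false, [], 0, 0⟩),
  (1, ⟨false, [], 0, 0⟩),
  (1, ⟨false, [], 0, 0⟩),
  (1, ⟨false, [], 0, 0⟩),
  (1, ⟨false, [], 0, 0⟩),
  (1, ⟨false, [], 0, 0⟩),
  (1, ⟨false, [], 0, 0⟩),
  (2, ⟨true, [2, 0, 1], 1, 2⟩),
  (1, ⟨false, [], 0, 0⟩),
  (1, ⟨false, [], 0, 0⟩),
  (1, ⟨false, [], 0, 0⟩),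
  (1, ⟨false, [], 0, 0⟩),
  (1, ⟨false, [], 0, 0⟩),
  (1, ⟨false, [], 0, 0⟩),
  (1, ⟨false, [], 0, 0⟩),
  (2, ⟨false, [2, 1], 3, 6⟩),
  (1, ⟨false, [], 0, 0⟩),
  (1, ⟨false, [], 0, 0⟩),
  (1, ⟨false, [], 0, 0⟩),
  (1, ⟨false, [], 0, 0⟩),
  (1, ⟨false, [], 0, 0⟩),
  (1, ⟨false, [], 0, 0⟩),
  (1, ⟨false, [], 0, 0⟩),
  (1, ⟨false, [], 0, 0⟩),
  (1, ⟨false, [], 0, 0⟩),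
  (1, ⟨false, [], 0, 0⟩),
  (1, ⟨false, [], 0, 0⟩),
  (1, ⟨false, [], 0, 0⟩),
  (1, ⟨false, [], 0, 0⟩),
  (1, ⟨false, [], 0, 0⟩),
  (1, ⟨false, [], 0, 0⟩),
  (1, ⟨false, [], 0, 1⟩),
  (1, ⟨false, [], 0, 0⟩),
  (1, ⟨false, [], 0, 0⟩),
  (1, ⟨false, [], 0, 2⟩),
  (1, ⟨false, [], 0, 0⟩),
  (1, ⟨false, [], 0, 0⟩),
  (1, ⟨false, [], 0, 0⟩),
  (1, ⟨false, [], 0, 0⟩),
  (1, ⟨false, [], 0, 0⟩),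
  (1, ⟨false, [], 0, 0⟩),
  (2, ⟨false, [2, 3, 0, 1, 2, 1, 0], 1, 8⟩),
  (1, ⟨false, [], 0, 0⟩),
  (1, ⟨false, [], 0, 0⟩),
  (1, ⟨false, [], 0, 1⟩),
  (1, ⟨false, [], 0, 0⟩),
  (1, ⟨false, [], 0, 0⟩),
  (1, ⟨false, [], 0, 0⟩),
  (1, ⟨false, [], 0, 0⟩),
  (2, ⟨true, [2], 3, 5⟩),
  (1, ⟨false, [], 0, 0⟩),
  (1, ⟨false, [], 0, 0⟩),
  (1, ⟨false, [], 0, 0⟩),
  (1, ⟨false, [], 0, 0⟩),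
  (1, ⟨false, [], 0, 0⟩),
  (1, ⟨false, [], 0, 0⟩),
  (1, ⟨false, [], 0, 0⟩),
  (1, ⟨false, [], 0, 0⟩),
  (1, ⟨false, [], 0, 0⟩),
  (1, ⟨false, [], 0, 0⟩),
  (1, ⟨false, [], 0, 0⟩),
  (1, ⟨false, [], 0, 2⟩),
  (1, ⟨false, [], 0, 0⟩),
  (1, ⟨false, [], 0, 0⟩),
  (1, ⟨false, [], 0, 0⟩),
  (1, ⟨false, [], 0, 0⟩),
  (1, ⟨false, [], 0, 1⟩),
  (2, ⟨true, [2], 1, 7⟩),
  (1, ⟨false, [], 0, 0⟩),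
  (1, ⟨false, [], 0, 0⟩),
  (1, ⟨false, [], 0, 0⟩),
  (1, ⟨false, [], 0, 0⟩),
  (1, ⟨false, [], 0, 0⟩),
  (1, ⟨false, [], 0, 0⟩),
  (1, ⟨false, [], 0, 0⟩),
  (1, ⟨false, [], 0, 0⟩),
  (1, ⟨false, [], 0, 0⟩),
  (1, ⟨false, [], 0, 0⟩),
  (1, ⟨false, [], 0, 1⟩),
  (1, ⟨false, [], 0, 0⟩),
  (1, ⟨false, [], 0, 0⟩),
  (1, ⟨false, [], 0, 0⟩),
  (1, ⟨false, [], 0, 0⟩),
  (1, ⟨false, [], 0, 0⟩),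
  (1, ⟨false, [], 0, 1⟩),
  (1, ⟨false, [], 0, 0⟩),
  (1, ⟨false, [], 0, 0⟩),
  (1, ⟨false, [], 0, 0⟩),
  (1, ⟨false, [], 0, 0⟩),
  (1, ⟨false, [], 0, 0⟩),
  (1, ⟨false, [], 0, 0⟩),
  (1, ⟨false, [], 0, 0⟩),
  (1, ⟨false, [], 0, 0⟩),
  (1, ⟨false, [], 0, 1⟩),
  (1, ⟨false, [], 0, 0⟩),
  (1, ⟨false, [], 0, 0⟩),
  (1, ⟨false, [], 0, 0⟩),
  (1, ⟨false, [], 0, 0⟩),
  (2, ⟨false, [2, 1, 2, 0, 1, 2, 3], 3, 1⟩),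
  (2, ⟨false, [0], 1, 11⟩),
  (1, ⟨false, [], 0, 0⟩),
  (1, ⟨false, [], 0, 0⟩),
  (1, ⟨false, [], 0, 0⟩),
  (1, ⟨false, [], 0, 0⟩),
  (1, ⟨false, [], 0, 0⟩),
  (1, ⟨false, [], 0, 0⟩),
  (2, ⟨true, [], 1, 2⟩),
  (1, ⟨false, [], 0, 0⟩),
  (1, ⟨false, [], 0, 0⟩),
  (2, ⟨false, [2, 3, 0], 1, 11⟩),
  (1, ⟨false, [], 0, 0⟩),
  (1, ⟨false, [], 0, 0⟩),
  (1, ⟨false, [], 0, 0⟩),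
  (1, ⟨false, [], 0, 0⟩),
  (1, ⟨false, [], 0, 0⟩),
  (1, ⟨false, [], 0, 0⟩),
  (1, ⟨false, [], 0, 0⟩),
  (1, ⟨false, [], 0, 0⟩),
  (2, ⟨false, [], 2, 16⟩),
  (2, ⟨false, [], 3, 17⟩),
  (1, ⟨false, [], 0, 0⟩),
  (1, ⟨false, [], 0, 0⟩),
  (1, ⟨false, [], 0, 0⟩),
  (1, ⟨false, [], 0, 0⟩),
  (1, ⟨false, [], 0, 0⟩),
  (1, ⟨false, [], 0, 0⟩),
  (1, ⟨false, [], 0, 0⟩),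
  (1, ⟨false, [], 0, 0⟩),
  (1, ⟨false, [], 0, 0⟩),
  (1, ⟨false, [], 0, 0⟩),
  (1, ⟨false, [], 0, 0⟩),
  (1, ⟨false, [], 0, 0⟩),
  (1, ⟨false, [], 0, 0⟩),
  (2, ⟨false, [2, 3, 0, 1, 2], 1, 11⟩),
  (1, ⟨false, [], 0, 0⟩),
  (1, ⟨false, [], 0, 0⟩),
  (2, ⟨false, [], 0, 19⟩),
  (1, ⟨false, [], 0, 0⟩),
  (1, ⟨false, [], 0, 0⟩),
  (1, ⟨false, [], 0, 0⟩),
  (2, ⟨false, [2, 3, 0, 1, 2, 1], 1, 11⟩),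
  (1, ⟨false, [], 0, 0⟩),
  (1, ⟨false, [], 0, 0⟩),
  (1, ⟨false, [], 0, 0⟩),
  (1, ⟨false, [], 0, 0⟩),
  (1, ⟨false, [], 0, 0⟩),
  (1, ⟨false, [], 0, 0⟩),
  (1, ⟨false, [], 0, 0⟩),
  (1, ⟨false, [], 0, 0⟩),
  (1, ⟨false, [], 0, 0⟩),
  (1, ⟨false, [], 0, 0⟩),
  (2, ⟨true, [2, 0], 1, 2⟩),
  (1, ⟨false, [], 0, 0⟩),
  (1, ⟨false, [], 0, 0⟩),
  (1, ⟨false, [], 0, 0⟩),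
  (2, ⟨false, [2], 3, 6⟩),
  (1, ⟨false, [], 0, 0⟩),
  (1, ⟨false, [], 0, 0⟩),
  (1, ⟨false, [], 0, 0⟩),
  (1, ⟨false, [], 0, 0⟩),
  (2, ⟨false, [], 1, 12⟩),
  (1, ⟨false, [], 0, 0⟩),
  (1, ⟨false, [], 0, 0⟩),
  (1, ⟨false, [], 0, 0⟩),
  (2, ⟨false, [2, 3], 1, 12⟩),
  (1, ⟨false, [], 0, 0⟩),
  (1, ⟨false, [], 0, 0⟩),
  (1, ⟨false, [], 0, 0⟩),
  (1, ⟨false, [], 0, 0⟩),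
  (2, ⟨true, [2, 3, 0, 1], 1, 2⟩),
  (1, ⟨false, [], 0, 0⟩),
  (1, ⟨false, [], 0, 0⟩),
  (1, ⟨false, [], 0, 0⟩),
  (1, ⟨false, [], 0, 0⟩),
  (1, ⟨false, [], 0, 0⟩),
  (1, ⟨false, [], 0, 1⟩),
  (2, ⟨true, [], 1, 2⟩),
  (1, ⟨false, [], 0, 0⟩),
  (1, ⟨false, [], 0, 0⟩),
  (1, ⟨false, [], 0, 0⟩),
  (1, ⟨false, [], 0, 0⟩),
  (1, ⟨false, [], 0, 0⟩),
  (1, ⟨false, [], 0, 0⟩),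
  (1, ⟨false, [], 0, 0⟩),
  (1, ⟨false, [], 0, 0⟩),
  (1, ⟨false, [], 0, 0⟩),
  (1, ⟨false, [], 0, 1⟩),
  (1, ⟨false, [], 0, 0⟩),
  (1, ⟨false, [], 0, 0⟩),
  (1, ⟨false, [], 0, 0⟩),
  (1, ⟨false, [], 0, 1⟩),
  (1, ⟨false, [], 0, 0⟩),
  (1, ⟨false, [], 0, 0⟩),
  (1, ⟨false, [], 0, 2⟩),
  (1, ⟨false, [], 0, 0⟩),
  (1, ⟨false, [], 0, 0⟩),
  (1, ⟨false, [], 0, 0⟩),
  (1, ⟨false, [], 0, 0⟩),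
  (1, ⟨false, [], 0, 1⟩),
  (1, ⟨false, [], 0, 0⟩),
  (1, ⟨false, [], 0, 0⟩),
  (1, ⟨false, [], 0, 0⟩),
  (2, ⟨true, [], 2, 4⟩),
  (1, ⟨false, [], 0, 0⟩),
  (2, ⟨true, [], 2, 1⟩),
  (1, ⟨false, [], 0, 0⟩),
  (1, ⟨false, [], 0, 0⟩),
  (1, ⟨false, [], 0, 0⟩),
  (1, ⟨false, [], 0, 0⟩),
  (1, ⟨false, [], 0, 0⟩),
  (1, ⟨false, [], 0, 0⟩),
  (1, ⟨false, [], 0, 0⟩),
  (1, ⟨false, [], 0, 0⟩),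
  (1, ⟨false, [], 0, 2⟩),
  (1, ⟨false, [], 0, 0⟩),
  (1, ⟨false, [], 0, 0⟩),
  (1, ⟨false, [], 0, 0⟩),
  (2, ⟨true, [], 1, 7⟩),
  (1, ⟨false, [], 0, 0⟩),
  (1, ⟨false, [], 0, 0⟩),
  (1, ⟨false, [], 0, 0⟩),
  (1, ⟨false, [], 0, 0⟩),
  (1, ⟨false, [], 0, 1⟩),
  (1, ⟨false, [], 0, 0⟩),
  (1, ⟨false, [], 0, 0⟩),
  (1, ⟨false, [], 0, 0⟩),
  (1, ⟨false, [], 0, 0⟩),
  (1, ⟨false, [], 0, 0⟩),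
  (1, ⟨false, [], 0, 0⟩),
  (1, ⟨false, [], 0, 1⟩),
  (1, ⟨false, [], 0, 0⟩),
  (1, ⟨false, [], 0, 0⟩),
  (1, ⟨false, [], 0, 0⟩),
  (2, ⟨false, [1], 2, 16⟩),
  (1, ⟨false, [], 0, 0⟩),
  (1, ⟨false, [], 0, 0⟩),
  (1, ⟨false, [], 0, 0⟩),
  (1, ⟨false, [], 0, 0⟩),
  (1, ⟨false, [], 0, 0⟩),
  (1, ⟨false, [], 0, 0⟩),
  (2, ⟨false, [0], 1, 12⟩),
  (1, ⟨false, [], 0, 0⟩),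
  (2, ⟨true, [2], 1, 2⟩),
  (1, ⟨false, [], 0, 0⟩),
  (1, ⟨false, [], 0, 0⟩),
  (2, ⟨false, [2], 3, 17⟩),
  (1, ⟨false, [], 0, 0⟩),
  (1, ⟨false, [], 0, 0⟩),
  (1, ⟨false, [], 0, 0⟩),
  (1, ⟨false, [], 0, 1⟩),
  (1, ⟨false, [], 0, 0⟩),
  (1, ⟨false, [], 0, 0⟩),
  (2, ⟨false, [2, 3, 0], 1, 12⟩),
  (1, ⟨false, [], 0, 0⟩),
  (1, ⟨false, [], 0, 0⟩),
  (1, ⟨false, [], 0, 0⟩),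
  (1, ⟨false, [], 0, 1⟩),
  (1, ⟨false, [], 0, 0⟩),
  (1, ⟨false, [], 0, 0⟩),
  (1, ⟨false, [], 0, 0⟩),
  (1, ⟨false, [], 0, 0⟩),
  (1, ⟨false, [], 0, 0⟩),
  (1, ⟨false, [], 0, 0⟩),
  (2, ⟨false, [2, 3, 0, 1, 2, 1], 1, 11⟩),
  (1, ⟨false, [], 0, 0⟩),
  (1, ⟨false, [], 0, 1⟩),
  (1, ⟨false, [], 0, 0⟩),
  (1, ⟨false, [], 0, 0⟩),
  (1, ⟨false, [], 0, 0⟩),
  (1, ⟨false, [], 0, 0⟩),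
  (1, ⟨false, [], 0, 0⟩),
  (1, ⟨false, [], 0, 0⟩),
  (2, ⟨true, [2, 3, 0], 1, 2⟩),
  (1, ⟨false, [], 0, 0⟩),
  (1, ⟨false, [], 0, 0⟩),
  (1, ⟨false, [], 0, 0⟩),
  (1, ⟨false, [], 0, 1⟩),
  (2, ⟨false, [2], 1, 12⟩),
  (1, ⟨false, [], 0, 0⟩),
  (2, ⟨true, [], 2, 1⟩),
  (1, ⟨false, [], 0, 0⟩),
  (1, ⟨false, [], 0, 0⟩),
  (1, ⟨false, [], 0, 0⟩),
  (1, ⟨false, [], 0, 0⟩),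
  (1, ⟨false, [], 0, 1⟩),
  (1, ⟨false, [], 0, 0⟩),
  (1, ⟨false, [], 0, 1⟩),
  (1, ⟨false, [], 0, 0⟩),
  (1, ⟨false, [], 0, 0⟩),
  (2, ⟨true, [2], 1, 2⟩),
  (1, ⟨false, [], 0, 0⟩),
  (1, ⟨false, [], 0, 0⟩),
  (1, ⟨false, [], 0, 0⟩),
  (1, ⟨false, [], 0, 1⟩),
  (1, ⟨false, [], 0, 0⟩),
  (1, ⟨false, [], 0, 0⟩),
  (1, ⟨false, [], 0, 0⟩),
  (1, ⟨false, [], 0, 1⟩),
  (1, ⟨false, [], 0, 1⟩),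
  (1, ⟨false, [], 0, 0⟩),
  (1, ⟨false, [], 0, 0⟩),
  (1, ⟨false, [], 0, 0⟩),
  (1, ⟨false, [], 0, 1⟩),
  (1, ⟨false, [], 0, 0⟩),
  (1, ⟨false, [], 0, 0⟩),
  (2, ⟨true, [2], 3, 0⟩),
  (1, ⟨false, [], 0, 0⟩),
  (1, ⟨false, [], 0, 0⟩),
  (1, ⟨false, [], 0, 0⟩),
  (1, ⟨false, [], 0, 1⟩),
  (2, ⟨true, [], 1, 7⟩),
  (1, ⟨false, [], 0, 0⟩),
  (1, ⟨false, [], 0, 0⟩),
  (1, ⟨false, [], 0, 1⟩),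
  (1, ⟨false, [], 0, 0⟩),
  (1, ⟨false, [], 0, 0⟩),
  (1, ⟨false, [], 0, 0⟩),
  (2, ⟨false, [2, 1], 3, 17⟩),
  (1, ⟨false, [], 0, 0⟩),
  (1, ⟨false, [], 0, 0⟩),
  (1, ⟨false, [], 0, 1⟩),
  (1, ⟨false, [], 0, 0⟩),
  (1, ⟨false, [], 0, 0⟩),
  (1, ⟨false, [], 0, 0⟩),
  (2, ⟨true, [2, 3], 1, 2⟩),
  (1, ⟨false, [], 0, 1⟩),
  (1, ⟨false, [], 0, 0⟩),
  (1, ⟨false, [], 0, 0⟩),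
  (2, ⟨false, [2, 0], 1, 12⟩),
  (1, ⟨false, [], 0, 0⟩),
  (2, ⟨false, [2, 3, 0, 1], 1, 12⟩),
  (1, ⟨false, [], 0, 0⟩),
  (1, ⟨false, [], 0, 1⟩),
  (1, ⟨false, [], 0, 1⟩),
  (1, ⟨false, [], 0, 0⟩),
  (1, ⟨false, [], 0, 0⟩),
  (1, ⟨false, [], 0, 1⟩),
  (2, ⟨false, [2, 3, 0, 1, 2, 1], 1, 12⟩),
  (1, ⟨false, [], 0, 1⟩),
  (1, ⟨false, [], 0, 0⟩),
  (2, ⟨true, [2], 1, 2⟩),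
  (1, ⟨false, [], 0, 0⟩),
  (2, ⟨true, [2], 3, 0⟩),
  (1, ⟨false, [], 0, 1⟩),
  (1, ⟨false, [], 0, 0⟩),
  (1, ⟨false, [], 0, 0⟩),
  (2, ⟨true, [2, 3], 1, 2⟩),
  (1, ⟨false, [], 0, 2⟩),
  (1, ⟨false, [], 0, 1⟩),
  (1, ⟨false, [], 0, 0⟩),
  (1, ⟨false, [], 0, 0⟩),
  (1, ⟨false, [], 0, 1⟩),
  (1, ⟨false, [], 0, 2⟩),
  (1, ⟨false, [], 0, 1⟩),
  (2, ⟨true, [], 3, 0⟩),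
  (1, ⟨false, [], 0, 0⟩),
  (1, ⟨false, [], 0, 0⟩),
  (1, ⟨false, [], 0, 1⟩),
  (2, ⟨false, [2, 1, 2], 3, 17⟩),
  (1, ⟨false, [], 0, 1⟩),
  (1, ⟨false, [], 0, 2⟩),
  (2, ⟨false, [2, 3, 0, 1, 2], 1, 12⟩),
  (2, ⟨false, [2, 0, 1], 1, 12⟩),
  (1, ⟨false, [], 0, 2⟩),
  (2, ⟨true, [], 1, 2⟩),
  (2, ⟨true, [2, 3], 1, 2⟩),
  (2, ⟨true, [], 3, 0⟩),
  (2, ⟨true, [], 3, 0⟩),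
  (2, ⟨true, [], 3, 0⟩)]

/-- the check of the rows `lo ≤ t < hi` -/
def rowsOKRange (lo hi : ℕ) : Bool :=
  (List.range (hi - lo)).all fun d =>
    rowOK chevF4 (wtblF4_full.getD (lo + d) default).wd (statF4.getD (lo + d) default).1
      (statF4.getD (lo + d) default).2

theorem rowsOKRange_spec (lo hi : ℕ) (h : rowsOKRange lo hi = true) (t : ℕ) (h1 : lo ≤ t)
    (h2 : t < hi) :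
    rowOK chevF4 (wtblF4_full.getD t default).wd (statF4.getD t default).1
      (statF4.getD t default).2 = true := by
  unfold rowsOKRange at h
  rw [List.all_eq_true] at h
  have := h (t - lo) (List.mem_range.2 (by omega))
  rwa [Nat.add_sub_cancel' h1] at this

set_option maxRecDepth 1000000 in
theorem rows_ok_0 : rowsOKRange 0 144 = true := by decide +kernel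

set_option maxRecDepth 1000000 in
theorem rows_ok_1 : rowsOKRange 144 288 = true := by decide +kernel

set_option maxRecDepth 1000000 in
theorem rows_ok_2 : rowsOKRange 288 432 = true := by decide +kernel

set_option maxRecDepth 1000000 in
theorem rows_ok_3 : rowsOKRange 432 576 = true := by decide +kernel

set_option maxRecDepth 1000000 in
theorem rows_ok_4 : rowsOKRange 576 720 = true := by decide +kernel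

set_option maxRecDepth 1000000 in
theorem rows_ok_5 : rowsOKRange 720 864 = true := by decide +kernel

set_option maxRecDepth 1000000 in
theorem rows_ok_6 : rowsOKRange 864 1008 = true := by decide +kernel

set_option maxRecDepth 1000000 in
theorem rows_ok_7 : rowsOKRange 1008 1152 = true := by decide +kernel

theorem rows_ok (t : ℕ) (ht : t < 1152) :
    rowOK chevF4 (wtblF4_full.getD t default).wd (statF4.getD t default).1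
      (statF4.getD t default).2 = true := by
  by_cases h0 : t < 144
  · exact rowsOKRange_spec 0 144 rows_ok_0 t (by omega) h0
  by_cases h1 : t < 288
  · exact rowsOKRange_spec 144 288 rows_ok_1 t (by omega) h1
  by_cases h2 : t < 432
  · exact rowsOKRange_spec 288 432 rows_ok_2 t (by omega) h2
  by_cases h3 : t < 576
  · exact rowsOKRange_spec 432 576 rows_ok_3 t (by omega) h3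
  by_cases h4 : t < 720
  · exact rowsOKRange_spec 576 720 rows_ok_4 t (by omega) h4
  by_cases h5 : t < 864
  · exact rowsOKRange_spec 720 864 rows_ok_5 t (by omega) h5
  by_cases h6 : t < 1008
  · exact rowsOKRange_spec 864 1008 rows_ok_6 t (by omega) h6
  exact rowsOKRange_spec 1008 1152 rows_ok_7 t (by omega) ht

end Cfsg.Agent.Lib.Helper9.F4Inv
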