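import Mathlib
import Cfsg.Prelude.Def_ChevF4
import Cfsg.Agent.Lib.Helper9.F4InvXA

set_option autoImplicit false

/-!
`F₄(q)`, `q` odd: every involution of the group is conjugate into the diagonal subgroup `H`.
-/

namespace Cfsg.Agent.Lib.Helper9.F4Inv

open Cfsg Cfsg.Lie Cfsg.Agent.Lib.Helper5.ChevSym Cfsg.Agent.Lib.Helper5.ChevStruct
  Cfsg.Agent.Lib.Helper9.InvolX

variable {F : Type*} [Field F]

/-- every word of `W(F₄)` is covered by a word of the table with a status -/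
theorem cover_F4 (w : List ℕ) (hw : Wd chevF4 w) :
    ∃ u : List ℕ, Wd chevF4 u ∧ (∀ r < chevF4.nroots, wAct chevF4 w r = wAct chevF4 u r) ∧
      Covered chevF4 u := by
  obtain ⟨t, ht, h⟩ := Cfsg.Agent.Lib.Helper5.F4W.cover_act w hw
  exact ⟨_, (Cfsg.Agent.Lib.Helper5.F4W.tbl_facts t ht).1, h, rowOK_spec _ _ _ _ (rows_ok t ht)⟩

/-- **P1**: every involution of `F₄(q)`, `q` odd, is conjugate to an element of `H` -/
theorem invol_to_diag_F4 [Fintype F] (hodd : Odd (Fintype.card F)) (t : GL chevF4.Idx F)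
    (ht : t ∈ chevF4.group F) (ht2 : t * t = 1) :
    ∃ g ∈ chevF4.group F, g * t * g⁻¹ ∈ chevF4.diagonalSubgroup F :=
  invol_to_diag_of_cover chevF4 Cfsg.Agent.Lib.Helper5.F4W.memF4 hodd cover_F4 t ht ht2

end Cfsg.Agent.Lib.Helper9.F4Inv
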