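import Mathlib
import Cfsg.Agent.Lib.Helper1.F4Out.Defs
import Cfsg.Agent.Lib.Helper5.F4Out.FieldAut

set_option autoImplicit false

/-!
# F4OUT farm (S2128), unit F: field automorphisms
-/

namespace Cfsg.Agent.Lib.Helper9.F4Out

open Cfsg Cfsg.Lie Cfsg.Agent.Lib.Helper5.ChevSym Cfsg.Agent.Lib.Helper5.ChevSymP
  Cfsg.Agent.Lib.Helper5.ChevStruct Cfsg.Agent.Lib.Helper5.Ree Cfsg.Agent.Lib.Helper5.TwX
  Cfsg.Agent.Lib.Helper5.MatPow Cfsg.Agent.Lib.Helper5.F4T Cfsg.Agent.Lib.Helper5.TwAut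
  Cfsg.Agent.Lib.Helper1.F4Out

variable {K : Type*} [Field K] [Fintype K] [CharP K 2] (m : ℕ)
  (hq : ∀ x : K, x ^ 2 ^ (2 * m + 1) = x)

include hq in
theorem glMap_mem_fix (hK : Fintype.card K = 2 ^ (2 * m + 1)) (ψ : K ≃+* K)
    (g : GL chevF4.Idx K) (hg : g ∈ fixG (K := K) m) :
    Matrix.GeneralLinearGroup.map ψ.toRingHom g ∈ fixG (K := K) m := by
  rw [← twisted_eq_fixG m hK hq] at hg ⊢
  exact Cfsg.Agent.Lib.Helper5.F4Out.glMap_mem_twisted ψ.toRingHom (2 ^ m) ⟨g, hg, rfl⟩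

theorem ringEquiv_ph (ψ : K ≃+* K) (t : K) : ψ (ph m t) = ph m (ψ t) := by
  rw [ph_apply, ph_apply, map_pow]

theorem ringEquiv_ps (ψ : K ≃+* K) (t : K) : ψ (ps m t) = ps m (ψ t) := by
  rw [ps_apply, ps_apply, map_pow]

theorem glMap_x1 (ψ : K ≃+* K) (t : K) :
    Matrix.GeneralLinearGroup.map ψ.toRingHom (x1 m t) = x1 m (ψ t) := by
  unfold x1
  rw [Cfsg.Agent.Lib.Helper5.F4Out.glMap_wordGL]
  simp only [List.map_cons, List.map_nil, RingEquiv.toRingHom_eq_coe, RingHom.coe_coe]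
  rw [ringEquiv_ph]

theorem glMap_x2 (ψ : K ≃+* K) (t u : K) :
    Matrix.GeneralLinearGroup.map ψ.toRingHom (x2 m t u) = x2 m (ψ t) (ψ u) := by
  unfold x2
  rw [Cfsg.Agent.Lib.Helper5.F4Out.glMap_wordGL]
  simp only [List.map_cons, List.map_nil, RingEquiv.toRingHom_eq_coe, RingHom.coe_coe]
  rw [ringEquiv_ph, ringEquiv_ps, map_add, map_mul, ringEquiv_ph]

/-- the generic statement: `GL.map f` maps a subgroup generated by root elements into itself -/
theorem glMap_closure_le (f : K →+* K) (P : ℕ → Prop) :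
    (Subgroup.closure {g : GL chevF4.Idx K | ∃ (r : ℕ) (t : K), P r ∧
        (g : Matrix chevF4.Idx chevF4.Idx K) = chevF4.x K r t}).map
        (Matrix.GeneralLinearGroup.map f)
      ≤ Subgroup.closure {g : GL chevF4.Idx K | ∃ (r : ℕ) (t : K), P r ∧
        (g : Matrix chevF4.Idx chevF4.Idx K) = chevF4.x K r t} := by
  rw [MonoidHom.map_closure, Subgroup.closure_le]
  rintro _ ⟨g, ⟨r, t, hr, hg⟩, rfl⟩
  apply Subgroup.subset_closure
  refine ⟨r, f t, hr, ?_⟩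
  rw [glMap_val, hg, x_map]

theorem glMap_symm_apply (ψ : K ≃+* K) (g : GL chevF4.Idx K) :
    Matrix.GeneralLinearGroup.map ψ.symm.toRingHom
      (Matrix.GeneralLinearGroup.map ψ.toRingHom g) = g := by
  apply Units.ext
  rw [glMap_val, glMap_val]
  ext i j
  simp

theorem glMap_mem_pos (ψ : K ≃+* K) (g : GL chevF4.Idx K) :
    Matrix.GeneralLinearGroup.map ψ.toRingHom g ∈ chevF4.posUnipotent K ↔
      g ∈ chevF4.posUnipotent K := by
  constructor
  · intro h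
    have := glMap_closure_le ψ.symm.toRingHom chevF4.IsPosRoot
      ⟨_, h, rfl⟩
    rwa [glMap_symm_apply] at this
  · intro h
    exact glMap_closure_le ψ.toRingHom chevF4.IsPosRoot ⟨_, h, rfl⟩

theorem glMap_mem_neg (ψ : K ≃+* K) (g : GL chevF4.Idx K) :
    Matrix.GeneralLinearGroup.map ψ.toRingHom g ∈ chevF4.negUnipotent K ↔
      g ∈ chevF4.negUnipotent K := by
  constructor
  · intro h
    have := glMap_closure_le ψ.symm.toRingHom chevF4.IsNegRoot
      ⟨_, h, rfl⟩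
    rwa [glMap_symm_apply] at this
  · intro h
    exact glMap_closure_le ψ.toRingHom chevF4.IsNegRoot ⟨_, h, rfl⟩

end Cfsg.Agent.Lib.Helper9.F4Out
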