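import Mathlib

set_option autoImplicit false
set_option linter.unusedSimpArgs false
set_option linter.unusedSectionVars false

namespace Cfsg.Agent.Lib.Helper9.FHAlg

variable {R : Type*} [Ring R] [Algebra ℝ R]

/-- the central element `z = ab + (b-(t-1))(a-(s-1))`. -/
def zz (a b : R) (s t : ℝ) : R := a * b + (b - (t - 1) • (1:R)) * (a - (s - 1) • (1:R))

lemma haa (a : R) (s : ℝ) (ha : a * a = (s - 1) • a + s • (1:R)) (X : R) :
    a * (a * X) = (s - 1) • (a * X) + s • X := by
  rw [← mul_assoc, ha, add_mul, smul_mul_assoc, smul_mul_assoc, one_mul]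

section
variable (a b : R) (s t : ℝ) (ha : a * a = (s - 1) • a + s • (1:R))
  (hb : b * b = (t - 1) • b + t • (1:R))
include ha hb

omit hb in
lemma a_mul_ap : a * (a - (s - 1) • (1:R)) = s • (1:R) := by
  rw [mul_sub, ha, mul_smul_comm, mul_one]; abel

omit hb in
lemma ap_mul_a : (a - (s - 1) • (1:R)) * a = s • (1:R) := by
  rw [sub_mul, ha, smul_mul_assoc, one_mul]; abel

omit ha hb in
lemma zz_expand : zz a b s t = a * b + b * a - (s - 1) • b - (t - 1) • a + ((s - 1) * (t - 1)) • (1:R) := by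
  unfold zz
  simp only [mul_sub, sub_mul, mul_smul_comm, smul_mul_assoc, mul_one, one_mul, smul_sub, smul_smul]
  module

lemma M_mul_Mp : (a * b) * ((b - (t - 1) • (1:R)) * (a - (s - 1) • (1:R))) = (s * t) • (1:R) := by
  rw [mul_assoc, ← mul_assoc b, a_mul_ap b t hb, smul_mul_assoc, one_mul, mul_smul_comm, a_mul_ap a s ha,
    smul_smul, mul_comm]

lemma Mp_mul_M : ((b - (t - 1) • (1:R)) * (a - (s - 1) • (1:R))) * (a * b) = (s * t) • (1:R) := by
  rw [mul_assoc, ← mul_assoc _ a, ap_mul_a a s ha, smul_mul_assoc, one_mul, mul_smul_comm, ap_mul_a b t hb,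
    smul_smul]

lemma zz_mul_a : zz a b s t * a = a * b * a + s • (b - (t - 1) • (1:R)) := by
  simp only [zz, mul_add, add_mul, mul_sub, sub_mul, mul_smul_comm, smul_mul_assoc, mul_one, one_mul,
    mul_assoc, haa a s ha, haa b t hb, ha, hb, smul_add, smul_sub, smul_smul]
  module

lemma a_mul_zz : a * zz a b s t = a * b * a + s • (b - (t - 1) • (1:R)) := by
  simp only [zz, mul_add, add_mul, mul_sub, sub_mul, mul_smul_comm, smul_mul_assoc, mul_one, one_mul,
    mul_assoc, haa a s ha, haa b t hb, ha, hb, smul_add, smul_sub, smul_smul]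
  module

lemma zz_comm_a : zz a b s t * a = a * zz a b s t := by
  rw [zz_mul_a a b s t ha hb, a_mul_zz a b s t ha hb]

lemma b_mul_zz : b * zz a b s t = b * a * b + t • (a - (s - 1) • (1:R)) := by
  simp only [zz, mul_add, add_mul, mul_sub, sub_mul, mul_smul_comm, smul_mul_assoc, mul_one, one_mul,
    mul_assoc, haa a s ha, haa b t hb, ha, hb, smul_add, smul_sub, smul_smul]
  module

lemma zz_mul_b : zz a b s t * b = b * a * b + t • (a - (s - 1) • (1:R)) := by
  simp only [zz, mul_add, add_mul, mul_sub, sub_mul, mul_smul_comm, smul_mul_assoc, mul_one, one_mul,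
    mul_assoc, haa a s ha, haa b t hb, ha, hb, smul_add, smul_sub, smul_smul]
  module

lemma zz_comm_b : zz a b s t * b = b * zz a b s t := by
  rw [zz_mul_b a b s t ha hb, b_mul_zz a b s t ha hb]

lemma zz_comm_M : zz a b s t * (a * b) = (a * b) * zz a b s t := by
  rw [← mul_assoc, zz_comm_a a b s t ha hb, mul_assoc, zz_comm_b a b s t ha hb, ← mul_assoc]

lemma M_sq : (a * b) * (a * b) = zz a b s t * (a * b) - (s * t) • (1:R) := by
  unfold zz
  rw [add_mul, Mp_mul_M a b s t ha hb]; abel

end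

end Cfsg.Agent.Lib.Helper9.FHAlg
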