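import Mathlib

set_option autoImplicit false
set_option linter.unusedSectionVars false

namespace Cfsg.Agent.Lib.Helper9.FHDih

variable {W : Type*} [Group W]

/-- alternating words -/
def altW : ℕ → W → W → W
  | 0, _, _ => 1
  | (k+1), σ, τ => σ * altW k τ σ

@[simp] lemma altW_zero (σ τ : W) : altW 0 σ τ = 1 := rfl
lemma altW_succ (k : ℕ) (σ τ : W) : altW (k+1) σ τ = σ * altW k τ σ := rfl

lemma altW_add_two (k : ℕ) (σ τ : W) : altW (k+2) σ τ = (σ * τ) * altW k σ τ := by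
  rw [altW_succ, altW_succ, mul_assoc]

lemma altW_even (k : ℕ) (σ τ : W) : altW (2*k) σ τ = (σ * τ) ^ k := by
  induction k with
  | zero => simp
  | succ k ih => rw [show 2 * (k+1) = 2 * k + 2 by ring, altW_add_two, ih, pow_succ']

lemma altW_odd (k : ℕ) (σ τ : W) : altW (2*k+1) σ τ = (σ * τ) ^ k * σ := by
  induction k with
  | zero => simp [altW_succ]
  | succ k ih =>
    rw [show 2 * (k+1) + 1 = (2 * k + 1) + 2 by ring, altW_add_two, ih, pow_succ']; simp only [mul_assoc]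

/-- a pair of distinct generating involutions -/
structure DihPair (σ τ : W) : Prop where
  hσ : σ * σ = 1
  hτ : τ * τ = 1
  hσ1 : σ ≠ 1
  hτ1 : τ ≠ 1
  hne : σ ≠ τ
  gen : Subgroup.closure ({σ, τ} : Set W) = ⊤

namespace DihPair

variable {σ τ : W} (H : DihPair σ τ)
include H

lemma symm : DihPair τ σ :=
  ⟨H.hτ, H.hσ, H.hτ1, H.hσ1, H.hne.symm, by rw [Set.pair_comm]; exact H.gen⟩

lemma σ_inv : σ⁻¹ = σ := by
  rw [inv_eq_iff_mul_eq_one]; exact H.hσ

lemma τ_inv : τ⁻¹ = τ := by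
  rw [inv_eq_iff_mul_eq_one]; exact H.hτ

lemma rho_inv : (σ * τ)⁻¹ = τ * σ := by
  rw [mul_inv_rev, H.σ_inv, H.τ_inv]

lemma σ_mul_altW_self (k : ℕ) : σ * altW (k+1) σ τ = altW k τ σ := by
  rw [altW_succ, ← mul_assoc, H.hσ, one_mul]

/-- every element is an alternating word. -/
lemma exists_altW (w : W) : ∃ k, w = altW k σ τ ∨ w = altW k τ σ := by
  have key : ∀ g ∈ Subgroup.closure ({σ, τ} : Set W),
      (∀ w : W, (∃ k, w = altW k σ τ ∨ w = altW k τ σ) → ∃ k, g * w = altW k σ τ ∨ g * w = altW k τ σ) ∧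
      (∀ w : W, (∃ k, w = altW k σ τ ∨ w = altW k τ σ) → ∃ k, g⁻¹ * w = altW k σ τ ∨ g⁻¹ * w = altW k τ σ) := by
    intro g hg
    induction hg using Subgroup.closure_induction with
    | mem g hg =>
      have hgen : ∀ (σ τ : W), DihPair σ τ → ∀ w : W, (∃ k, w = altW k σ τ ∨ w = altW k τ σ) →
          ∃ k, σ * w = altW k σ τ ∨ σ * w = altW k τ σ := by
        intro σ τ H w hw
        obtain ⟨k, rfl | rfl⟩ := hw
        · rcases k with _ | k
          · exact ⟨1, Or.inl (by simp [altW_succ])⟩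
          · exact ⟨k, Or.inr (H.σ_mul_altW_self k)⟩
        · exact ⟨k+1, Or.inl rfl⟩
      rcases hg with rfl | rfl
      · exact ⟨hgen g τ H, by rw [H.σ_inv]; exact hgen g τ H⟩
      · have h1 : ∀ w : W, (∃ k, w = altW k σ g ∨ w = altW k g σ) →
            ∃ k, g * w = altW k σ g ∨ g * w = altW k g σ := by
          intro w hw
          have hw' : ∃ k, w = altW k g σ ∨ w = altW k σ g := by
            obtain ⟨k, h | h⟩ := hw
            · exact ⟨k, Or.inr h⟩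
            · exact ⟨k, Or.inl h⟩
          obtain ⟨k, h | h⟩ := hgen g σ H.symm w hw'
          · exact ⟨k, Or.inr h⟩
          · exact ⟨k, Or.inl h⟩
        exact ⟨h1, by rw [H.τ_inv]; exact h1⟩
    | one => exact ⟨fun w hw => by simpa using hw, fun w hw => by simpa using hw⟩
    | mul g h _ _ hg hh =>
      refine ⟨fun w hw => ?_, fun w hw => ?_⟩
      · rw [mul_assoc]; exact hg.1 _ (hh.1 w hw)
      · rw [mul_inv_rev, mul_assoc]; exact hh.2 _ (hg.2 w hw)
    | inv g _ hg => exact ⟨hg.2, by rw [inv_inv]; exact hg.1⟩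
  have := (key w (by rw [H.gen]; trivial)).1 1 ⟨0, Or.inl rfl⟩
  simpa using this

end DihPair

/-- the length of an element -/
noncomputable def DihPair.len {σ τ : W} (_H : DihPair σ τ) (w : W) : ℕ :=
  sInf {k | w = altW k σ τ ∨ w = altW k τ σ}

namespace DihPair

variable {σ τ : W} (H : DihPair σ τ)
include H

lemma len_spec (w : W) : w = altW (H.len w) σ τ ∨ w = altW (H.len w) τ σ :=
  Nat.sInf_mem (s := {k | w = altW k σ τ ∨ w = altW k τ σ}) (H.exists_altW w)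

lemma len_le (w : W) (k : ℕ) (h : w = altW k σ τ ∨ w = altW k τ σ) : H.len w ≤ k :=
  Nat.sInf_le (s := {k | w = altW k σ τ ∨ w = altW k τ σ}) h

lemma len_one : H.len 1 = 0 := Nat.le_zero.mp (H.len_le 1 0 (Or.inl rfl))

lemma len_eq_zero (w : W) (h : H.len w = 0) : w = 1 := by
  have := H.len_spec w
  rw [h] at this
  simpa using this

lemma len_symm (w : W) : H.symm.len w = H.len w := by
  apply le_antisymm
  · exact H.symm.len_le w _ (H.len_spec w).symm
  · exact H.len_le w _ (H.symm.len_spec w).symm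

/-- left descent -/
lemma exists_left (w : W) (hw : w ≠ 1) :
    ∃ ς w', (ς = σ ∨ ς = τ) ∧ w = ς * w' ∧ H.len w' < H.len w := by
  have hpos : 0 < H.len w := Nat.pos_of_ne_zero (fun h => hw (H.len_eq_zero w h))
  obtain ⟨k, hk⟩ : ∃ k, H.len w = k + 1 := ⟨H.len w - 1, by omega⟩
  rcases H.len_spec w with h | h
  · rw [hk, altW_succ] at h
    exact ⟨σ, altW k τ σ, Or.inl rfl, h, by rw [hk]; exact Nat.lt_succ_of_le (H.len_le _ k (Or.inr rfl))⟩
  · rw [hk, altW_succ] at h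
    exact ⟨τ, altW k σ τ, Or.inr rfl, h, by rw [hk]; exact Nat.lt_succ_of_le (H.len_le _ k (Or.inl rfl))⟩

lemma len_mul_le_σ (w : W) : H.len (σ * w) ≤ H.len w + 1 := by
  rcases H.len_spec w with h | h
  · rcases hk : H.len w with _ | k
    · rw [hk] at h; rw [h]; simp only [altW_zero, mul_one]
      exact H.len_le _ 1 (Or.inl (by simp [altW_succ]))
    · rw [hk] at h
      have : σ * w = altW k τ σ := by rw [h]; exact H.σ_mul_altW_self k
      exact le_trans (H.len_le _ k (Or.inr this)) (by omega)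
  · have : σ * w = altW (H.len w + 1) σ τ := by rw [altW_succ, ← h]
    exact H.len_le _ _ (Or.inl this)

lemma len_mul_le (ς : W) (hς : ς = σ ∨ ς = τ) (w : W) : H.len (ς * w) ≤ H.len w + 1 := by
  rcases hς with rfl | rfl
  · exact H.len_mul_le_σ w
  · rw [← H.len_symm, ← H.len_symm w]; exact H.symm.len_mul_le_σ w

lemma gen_sq (ς : W) (hς : ς = σ ∨ ς = τ) : ς * ς = 1 := by
  rcases hς with rfl | rfl
  · exact H.hσ
  · exact H.hτ

lemma len_le_mul (ς : W) (hς : ς = σ ∨ ς = τ) (w : W) : H.len w ≤ H.len (ς * w) + 1 := by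
  have := H.len_mul_le ς hς (ς * w)
  rwa [← mul_assoc, H.gen_sq ς hς, one_mul] at this

/-- inverse of an alternating word -/
lemma altW_inv (k : ℕ) : (altW k σ τ)⁻¹ = altW k σ τ ∨ (altW k σ τ)⁻¹ = altW k τ σ := by
  rcases Nat.even_or_odd' k with ⟨i, rfl | rfl⟩
  · right
    rw [altW_even, altW_even, ← inv_pow, H.rho_inv]
  · left
    rw [altW_odd, mul_inv_rev, ← inv_pow, H.rho_inv, H.σ_inv]
    clear H
    induction i with
    | zero => simp
    | succ i ih => rw [pow_succ, ← mul_assoc, ih, pow_succ]; simp only [mul_assoc]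

lemma len_inv_le (w : W) : H.len w⁻¹ ≤ H.len w := by
  rcases H.len_spec w with h | h
  · rcases H.altW_inv (H.len w) with h2 | h2
    · exact H.len_le _ _ (Or.inl (by rw [← h2, ← h]))
    · exact H.len_le _ _ (Or.inr (by rw [← h2, ← h]))
  · rcases H.symm.altW_inv (H.len w) with h2 | h2
    · exact H.len_le _ _ (Or.inr (by rw [← h2, ← h]))
    · exact H.len_le _ _ (Or.inl (by rw [← h2, ← h]))

lemma len_inv (w : W) : H.len w⁻¹ = H.len w := by
  apply le_antisymm (H.len_inv_le w)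
  have := H.len_inv_le w⁻¹
  rwa [inv_inv] at this

lemma gen_inv (ς : W) (hς : ς = σ ∨ ς = τ) : ς⁻¹ = ς := by
  rcases hς with rfl | rfl
  · exact H.σ_inv
  · exact H.τ_inv

/-- right descent -/
lemma exists_right (w : W) (hw : w ≠ 1) :
    ∃ ς w', (ς = σ ∨ ς = τ) ∧ w = w' * ς ∧ H.len w' < H.len w := by
  obtain ⟨ς, w', hς, hw', hlen⟩ := H.exists_left w⁻¹ (by simpa using hw)
  refine ⟨ς, w'⁻¹, hς, ?_, ?_⟩
  · have := congrArg Inv.inv hw'
    rw [inv_inv, mul_inv_rev, H.gen_inv ς hς] at this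
    exact this
  · rw [H.len_inv, ← H.len_inv w]; exact hlen

lemma len_le_mul_right (ς : W) (hς : ς = σ ∨ ς = τ) (w : W) : H.len w ≤ H.len (w * ς) + 1 := by
  have := H.len_le_mul ς hς w⁻¹
  rw [H.len_inv] at this
  have h2 : H.len (ς * w⁻¹) = H.len (w * ς) := by
    rw [← H.len_inv (w * ς), mul_inv_rev, H.gen_inv ς hς]
  rwa [h2] at this

/-! ### the rotation `ρ = σ τ` -/

lemma conj_rho : σ * (σ * τ) * σ⁻¹ = (σ * τ)⁻¹ := by
  rw [H.rho_inv, H.σ_inv, ← mul_assoc, H.hσ, one_mul]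

lemma σ_mul_zpow (n : ℤ) : σ * (σ * τ) ^ n = (σ * τ) ^ (-n) * σ := by
  have h1 : (σ * (σ * τ) * σ⁻¹) ^ n = σ * (σ * τ) ^ n * σ⁻¹ := conj_zpow
  rw [H.conj_rho, inv_zpow, ← zpow_neg] at h1
  rw [h1, mul_assoc, mul_assoc, inv_mul_cancel, mul_one]

lemma σ_mul_rho : σ * (σ * τ) = τ := by rw [← mul_assoc, H.hσ, one_mul]

lemma σ_not_mem : σ ∉ Subgroup.zpowers (σ * τ) := by
  intro hmem
  have hc := H.conj_rho
  have hsr := H.σ_mul_rho
  have hσ1 := H.hσ1
  have hτ1 := H.hτ1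
  have hne := H.hne
  clear H
  generalize hρ : σ * τ = ρ at hc hsr hmem
  obtain ⟨k, hk⟩ := Subgroup.mem_zpowers_iff.mp hmem
  -- σ commutes with ρ, so ρ = ρ⁻¹
  have hcomm : σ * ρ = ρ * σ := by
    rw [← hk, ← zpow_add_one, ← zpow_one_add]; congr 1; ring
  have hinv : ρ⁻¹ = ρ := by
    rw [← hc, hcomm, mul_assoc, mul_inv_cancel, mul_one]
  have hsq : ρ ^ (2:ℤ) = 1 := by
    rw [zpow_two]; nth_rewrite 1 [← hinv]; rw [inv_mul_cancel]
  have hτmem : τ ∈ Subgroup.zpowers ρ := by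
    rw [← hsr]
    exact Subgroup.mul_mem _ hmem (Subgroup.mem_zpowers _)
  have hall : ∀ w ∈ Subgroup.zpowers ρ, w = 1 ∨ w = ρ := by
    intro w hw
    obtain ⟨n, rfl⟩ := Subgroup.mem_zpowers_iff.mp hw
    rw [zpow_eq_zpow_emod n hsq]
    rcases Int.emod_two_eq_zero_or_one n with h | h
    · left; rw [h, zpow_zero]
    · right; rw [h, zpow_one]
  have h1 := (hall σ hmem).resolve_left hσ1
  have h2 := (hall τ hτmem).resolve_left hτ1
  exact hne (h1.trans h2.symm)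

/-- normal forms -/
lemma nf_ab (k : ℕ) : altW k σ τ = (σ * τ) ^ ((k / 2 : ℕ) : ℤ) * σ ^ (k % 2) := by
  rcases Nat.even_or_odd' k with ⟨i, rfl | rfl⟩
  · rw [altW_even, show 2 * i / 2 = i by omega, show 2 * i % 2 = 0 by omega, pow_zero, mul_one,
      zpow_natCast]
  · rw [altW_odd, show (2 * i + 1) / 2 = i by omega, show (2 * i + 1) % 2 = 1 by omega, pow_one,
      zpow_natCast]

lemma nf_ba (k : ℕ) : altW k τ σ = (σ * τ) ^ (-(((k + 1) / 2 : ℕ) : ℤ)) * σ ^ (k % 2) := by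
  rcases Nat.even_or_odd' k with ⟨i, rfl | rfl⟩
  · rw [altW_even, show (2 * i + 1) / 2 = i by omega, show 2 * i % 2 = 0 by omega, pow_zero, mul_one,
      zpow_neg, ← inv_zpow, H.rho_inv, zpow_natCast]
  · rw [altW_odd, show (2 * i + 1 + 1) / 2 = i + 1 by omega, show (2 * i + 1) % 2 = 1 by omega, pow_one]
    have h1 : (τ * σ) ^ i = (σ * τ) ^ (-(i:ℤ)) := by
      rw [zpow_neg, ← inv_zpow, H.rho_inv, zpow_natCast]
    have h2 : τ = (σ * τ) ^ (-(1:ℤ)) * σ := by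
      rw [← H.σ_mul_zpow 1, zpow_one, H.σ_mul_rho]
    rw [h1]
    generalize σ * τ = ρ at h2 ⊢
    have h3 : ρ ^ (-(i:ℤ)) * τ = ρ ^ (-(i:ℤ)) * (ρ ^ (-(1:ℤ)) * σ) := by rw [← h2]
    rw [h3, ← mul_assoc, ← zpow_add]
    congr 2; push_cast; ring

/-- the core comparison lemma -/
lemma nf_eq_iff (n n' : ℤ) (ε ε' : ℕ) (hε : ε < 2) (hε' : ε' < 2) :
    (σ * τ) ^ n * σ ^ ε = (σ * τ) ^ n' * σ ^ ε' ↔
      ε = ε' ∧ ((orderOf (σ * τ) : ℕ) : ℤ) ∣ n - n' := by
  constructor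
  · intro h
    have hεε : ε = ε' := by
      by_contra hne
      apply H.σ_not_mem
      have : (ε = 0 ∧ ε' = 1) ∨ (ε = 1 ∧ ε' = 0) := by omega
      rcases this with ⟨rfl, rfl⟩ | ⟨rfl, rfl⟩
      · rw [pow_zero, mul_one, pow_one] at h
        have : σ = (σ * τ) ^ (-n' + n) := by
          rw [zpow_add, h, ← mul_assoc, ← zpow_add, neg_add_cancel, zpow_zero, one_mul]
        have hm : (σ * τ) ^ (-n' + n) ∈ Subgroup.zpowers (σ * τ) := Subgroup.zpow_mem_zpowers _ _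
        rwa [← this] at hm
      · rw [pow_zero, mul_one, pow_one] at h
        have : σ = (σ * τ) ^ (-n + n') := by
          rw [zpow_add, ← h, ← mul_assoc, ← zpow_add, neg_add_cancel, zpow_zero, one_mul]
        have hm : (σ * τ) ^ (-n + n') ∈ Subgroup.zpowers (σ * τ) := Subgroup.zpow_mem_zpowers _ _
        rwa [← this] at hm
    refine ⟨hεε, ?_⟩
    subst hεε
    have h2 := mul_right_cancel h
    rw [orderOf_dvd_iff_zpow_eq_one, zpow_sub, h2, mul_inv_cancel]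
  · rintro ⟨rfl, hdvd⟩
    congr 1
    rw [orderOf_dvd_iff_zpow_eq_one, zpow_sub, mul_inv_eq_one] at hdvd
    exact hdvd

lemma eq_ab_ab (k j : ℕ) : altW k σ τ = altW j σ τ ↔
    k % 2 = j % 2 ∧ ((orderOf (σ * τ) : ℕ) : ℤ) ∣ ((k / 2 : ℕ) : ℤ) - ((j / 2 : ℕ) : ℤ) := by
  rw [H.nf_ab, H.nf_ab, H.nf_eq_iff _ _ _ _ (Nat.mod_lt _ (by norm_num)) (Nat.mod_lt _ (by norm_num))]

lemma eq_ab_ba (k j : ℕ) : altW k σ τ = altW j τ σ ↔
    k % 2 = j % 2 ∧ ((orderOf (σ * τ) : ℕ) : ℤ) ∣ ((k / 2 : ℕ) : ℤ) + (((j + 1) / 2 : ℕ) : ℤ) := by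
  rw [H.nf_ab, H.nf_ba, H.nf_eq_iff _ _ _ _ (Nat.mod_lt _ (by norm_num)) (Nat.mod_lt _ (by norm_num)),
    sub_neg_eq_add]

section finite

variable [Finite W]

lemma m_pos : 0 < orderOf (σ * τ) := orderOf_pos _

lemma m_ge_two : 2 ≤ orderOf (σ * τ) := by
  have h0 := H.m_pos
  by_contra hlt
  have h1 : orderOf (σ * τ) = 1 := by omega
  rw [orderOf_eq_one_iff] at h1
  have : σ = τ := by
    have h2 : σ * τ = σ * σ := by rw [h1, H.hσ]
    exact (mul_left_cancel h2).symm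
  exact H.hne this

lemma orderOf_symm : orderOf (τ * σ) = orderOf (σ * τ) := by
  rw [← H.rho_inv, orderOf_inv]

lemma braidW : altW (orderOf (σ * τ)) σ τ = altW (orderOf (σ * τ)) τ σ := by
  rw [H.eq_ab_ba]
  refine ⟨rfl, ?_⟩
  have : ((orderOf (σ * τ) / 2 : ℕ) : ℤ) + (((orderOf (σ * τ) + 1) / 2 : ℕ) : ℤ) = (orderOf (σ * τ) : ℤ) := by
    omega
  rw [this]

lemma not_eq_ab_ab (k j : ℕ) (hj : j < k) (hk : k ≤ orderOf (σ * τ)) : altW k σ τ ≠ altW j σ τ := by
  rw [Ne, H.eq_ab_ab]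
  rintro ⟨hpar, hdvd⟩
  have h0 := H.m_pos
  have := Int.le_of_dvd (by omega) hdvd
  omega

lemma not_eq_ab_ba (k j : ℕ) (hj : j < k) (hk : k ≤ orderOf (σ * τ)) : altW k σ τ ≠ altW j τ σ := by
  rw [Ne, H.eq_ab_ba]
  rintro ⟨hpar, hdvd⟩
  have h0 := H.m_pos
  have := Int.le_of_dvd (by omega) hdvd
  omega

lemma not_eq_same (k : ℕ) (hk1 : 1 ≤ k) (hk : k < orderOf (σ * τ)) : altW k σ τ ≠ altW k τ σ := by
  rw [Ne, H.eq_ab_ba]
  rintro ⟨hpar, hdvd⟩
  have := Int.le_of_dvd (by omega) hdvd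
  omega

lemma len_altW (k : ℕ) (hk : k ≤ orderOf (σ * τ)) : H.len (altW k σ τ) = k := by
  have hle := H.len_le (altW k σ τ) k (Or.inl rfl)
  by_contra hne
  have hlt : H.len (altW k σ τ) < k := lt_of_le_of_ne hle hne
  rcases H.len_spec (altW k σ τ) with h | h
  · exact H.not_eq_ab_ab k _ hlt hk h
  · exact H.not_eq_ab_ba k _ hlt hk h

lemma len_altW' (k : ℕ) (hk : k ≤ orderOf (σ * τ)) : H.len (altW k τ σ) = k := by
  rw [← H.len_symm]
  exact H.symm.len_altW k (by rw [H.orderOf_symm]; exact hk)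

/-- `W` has order `2m`. -/
lemma card_eq : Nat.card W = 2 * orderOf (σ * τ) := by
  have hidx : (Subgroup.zpowers (σ * τ)).index = 2 := by
    rw [Subgroup.index_eq_two_iff]
    refine ⟨σ, fun w => ?_⟩
    obtain ⟨k, hw | hw⟩ := H.exists_altW w
    · rw [hw, H.nf_ab]
      rcases Nat.mod_two_eq_zero_or_one k with hk | hk
      · rw [hk, pow_zero, mul_one]
        refine Or.inr ⟨Subgroup.zpow_mem_zpowers _ _, fun hmem => ?_⟩
        have := Subgroup.mul_mem _ (Subgroup.inv_mem _ (Subgroup.zpow_mem_zpowers (σ * τ) ((k / 2 : ℕ) : ℤ))) hmem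
        rw [inv_mul_cancel_left] at this
        exact H.σ_not_mem this
      · rw [hk, pow_one, mul_assoc, H.hσ, mul_one]
        refine Or.inl ⟨Subgroup.zpow_mem_zpowers _ _, fun hmem => ?_⟩
        have := Subgroup.mul_mem _ (Subgroup.inv_mem _ (Subgroup.zpow_mem_zpowers (σ * τ) ((k / 2 : ℕ) : ℤ))) hmem
        rw [inv_mul_cancel_left] at this
        exact H.σ_not_mem this
    · rw [hw, H.nf_ba]
      rcases Nat.mod_two_eq_zero_or_one k with hk | hk
      · rw [hk, pow_zero, mul_one]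
        refine Or.inr ⟨Subgroup.zpow_mem_zpowers _ _, fun hmem => ?_⟩
        have := Subgroup.mul_mem _ (Subgroup.inv_mem _ (Subgroup.zpow_mem_zpowers (σ * τ) (-(((k + 1) / 2 : ℕ) : ℤ)))) hmem
        rw [inv_mul_cancel_left] at this
        exact H.σ_not_mem this
      · rw [hk, pow_one, mul_assoc, H.hσ, mul_one]
        refine Or.inl ⟨Subgroup.zpow_mem_zpowers _ _, fun hmem => ?_⟩
        have := Subgroup.mul_mem _ (Subgroup.inv_mem _ (Subgroup.zpow_mem_zpowers (σ * τ) (-(((k + 1) / 2 : ℕ) : ℤ)))) hmem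
        rw [inv_mul_cancel_left] at this
        exact H.σ_not_mem this
  have := Subgroup.card_mul_index (Subgroup.zpowers (σ * τ))
  rw [hidx, Nat.card_zpowers] at this
  omega

end finite

end DihPair

end Cfsg.Agent.Lib.Helper9.FHDih
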