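import Mathlib
import Cfsg.Prelude.Def_LieExceptional
import Cfsg.Agent.Lib.Helper9.FHDih

set_option autoImplicit false
set_option linter.unusedSectionVars false

namespace Cfsg.Agent.Lib.Helper9.FHBN

open Cfsg Cfsg.Agent.Lib.Helper9.FHDih DoubleCoset

variable {G : Type*} [Group G] (P : Cfsg.BNPair G)

/-- `T = B ∩ N` as a subgroup of `N`. -/
def TT : Subgroup P.N := (P.B ⊓ P.N).subgroupOf P.N

instance TT_normal : (TT P).Normal := by
  constructor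
  intro t ht n
  rw [TT, Subgroup.mem_subgroupOf] at ht ⊢
  refine ⟨?_, ?_⟩
  · have := P.conj_mem n n.2 t ht
    simpa using this
  · simp only [Subgroup.coe_mul, InvMemClass.coe_inv]
    exact P.N.mul_mem (P.N.mul_mem n.2 t.2) (P.N.inv_mem n.2)

/-- the Weyl group -/
abbrev WW := P.N ⧸ TT P

/-- the image in `W` of an element of `N`. -/
def toW (n : G) (hn : n ∈ P.N) : WW P := QuotientGroup.mk ⟨n, hn⟩

lemma toW_mul (n n' : G) (hn : n ∈ P.N) (hn' : n' ∈ P.N) :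
    toW P (n * n') (P.N.mul_mem hn hn') = toW P n hn * toW P n' hn' := rfl

lemma toW_eq_one_iff (n : G) (hn : n ∈ P.N) : toW P n hn = 1 ↔ n ∈ P.B := by
  rw [toW, QuotientGroup.eq_one_iff, TT, Subgroup.mem_subgroupOf]
  simp only [Subgroup.mem_inf]
  exact ⟨fun h => h.1, fun h => ⟨h, hn⟩⟩

lemma toW_surj (w : WW P) : ∃ n, ∃ hn : n ∈ P.N, toW P n hn = w := by
  obtain ⟨⟨n, hn⟩, rfl⟩ := QuotientGroup.mk_surjective w
  exact ⟨n, hn, rfl⟩

lemma toW_eq_iff (n n' : G) (hn : n ∈ P.N) (hn' : n' ∈ P.N) :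
    toW P n hn = toW P n' hn' ↔ n⁻¹ * n' ∈ P.B := by
  rw [toW, toW, QuotientGroup.eq, TT, Subgroup.mem_subgroupOf]
  simp only [Subgroup.coe_mul, InvMemClass.coe_inv, Subgroup.mem_inf]
  exact ⟨fun h => h.1, fun h => ⟨h, P.N.mul_mem (P.N.inv_mem hn) hn'⟩⟩

lemma s_not_mem_B (s : G) (hs : s ∈ P.S) : s ∉ P.B := by
  intro hB
  apply P.conj_ne s hs
  ext x
  constructor
  · rintro ⟨b, hb, rfl⟩
    exact P.B.mul_mem (P.B.mul_mem hB hb) hB
  · intro hx
    refine ⟨s⁻¹ * x * s⁻¹, P.B.mul_mem (P.B.mul_mem (P.B.inv_mem hB) hx) (P.B.inv_mem hB), ?_⟩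
    simp only; group

/-- the two distinguished generators give a `DihPair` in `W`. -/
lemma dihPair (s₁ s₂ : G) (h₁ : s₁ ∈ P.S) (h₂ : s₂ ∈ P.S) (hne : s₁ ≠ s₂) (hS : P.S = {s₁, s₂}) :
    DihPair (toW P s₁ (P.subset h₁)) (toW P s₂ (P.subset h₂)) := by
  refine ⟨?_, ?_, ?_, ?_, ?_, ?_⟩
  · rw [← toW_mul, toW_eq_one_iff]; exact P.sq_mem s₁ h₁
  · rw [← toW_mul, toW_eq_one_iff]; exact P.sq_mem s₂ h₂
  · rw [Ne, toW_eq_one_iff]; exact s_not_mem_B P s₁ h₁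
  · rw [Ne, toW_eq_one_iff]; exact s_not_mem_B P s₂ h₂
  · rw [Ne, toW_eq_iff]; intro h; exact hne (P.inj s₁ h₁ s₂ h₂ h)
  · -- generation
    rw [eq_top_iff]
    intro w _
    obtain ⟨n, hn, rfl⟩ := toW_surj P w
    set C := Subgroup.closure ({toW P s₁ (P.subset h₁), toW P s₂ (P.subset h₂)} : Set (WW P)) with hC
    let K : Subgroup G := (C.comap (QuotientGroup.mk' (TT P))).map P.N.subtype
    have hK : ∀ g, g ∈ K ↔ ∃ hg : g ∈ P.N, toW P g hg ∈ C := by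
      intro g
      constructor
      · rintro ⟨⟨g', hg'⟩, hmem, rfl⟩
        exact ⟨hg', hmem⟩
      · rintro ⟨hg, hmem⟩
        exact ⟨⟨g, hg⟩, hmem, rfl⟩
    have h1 : Subgroup.closure P.S ≤ K := by
      rw [Subgroup.closure_le]
      intro s hs
      rw [hS] at hs
      rcases hs with rfl | rfl
      · exact (hK _).mpr ⟨P.subset h₁, Subgroup.subset_closure (by simp)⟩
      · exact (hK _).mpr ⟨P.subset h₂, Subgroup.subset_closure (by simp)⟩
    have h2 : P.B ⊓ P.N ≤ K := by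
      intro g hg
      refine (hK _).mpr ⟨hg.2, ?_⟩
      have : toW P g hg.2 = 1 := (toW_eq_one_iff P g hg.2).mpr hg.1
      rw [this]; exact C.one_mem
    have h3 : P.N ≤ K := by
      rw [← P.closure_sup]; exact sup_le h1 h2
    obtain ⟨_, hmem⟩ := (hK n).mp (h3 hn)
    exact hmem

/-- the double coset `B w B` of an element of `W`. -/
def CC (w : WW P) : Set G := {x | ∃ n, ∃ hn : n ∈ P.N, toW P n hn = w ∧ x ∈ doubleCoset n (P.B : Set G) P.B}

lemma mem_CC_iff (w : WW P) (n : G) (hn : n ∈ P.N) (hw : toW P n hn = w) (x : G) :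
    x ∈ CC P w ↔ ∃ b ∈ P.B, ∃ b' ∈ P.B, x = b * n * b' := by
  constructor
  · rintro ⟨n', hn', hw', hx⟩
    obtain ⟨b, hb, b', hb', rfl⟩ := mem_doubleCoset.mp hx
    have h1 : n⁻¹ * n' ∈ P.B := (toW_eq_iff P n n' hn hn').mp (hw.trans hw'.symm)
    refine ⟨b, hb, (n⁻¹ * n') * b', P.B.mul_mem h1 hb', ?_⟩
    group
  · rintro ⟨b, hb, b', hb', rfl⟩
    exact ⟨n, hn, hw, mem_doubleCoset.mpr ⟨b, hb, b', hb', rfl⟩⟩

lemma mem_CC_toW (n : G) (hn : n ∈ P.N) : n ∈ CC P (toW P n hn) :=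
  (mem_CC_iff P _ n hn rfl n).mpr ⟨1, P.B.one_mem, 1, P.B.one_mem, by simp⟩

lemma CC_nonempty (w : WW P) : ∃ n, n ∈ P.N ∧ n ∈ CC P w := by
  obtain ⟨n, hn, rfl⟩ := toW_surj P w
  exact ⟨n, hn, mem_CC_toW P n hn⟩

lemma CC_mul_B (w : WW P) (x b : G) (hx : x ∈ CC P w) (hb : b ∈ P.B) : x * b ∈ CC P w := by
  obtain ⟨n, hn, hw⟩ := toW_surj P w
  rw [mem_CC_iff P w n hn hw] at hx ⊢
  obtain ⟨b1, hb1, b2, hb2, rfl⟩ := hx
  exact ⟨b1, hb1, b2 * b, P.B.mul_mem hb2 hb, by group⟩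

lemma B_mul_CC (w : WW P) (x b : G) (hx : x ∈ CC P w) (hb : b ∈ P.B) : b * x ∈ CC P w := by
  obtain ⟨n, hn, hw⟩ := toW_surj P w
  rw [mem_CC_iff P w n hn hw] at hx ⊢
  obtain ⟨b1, hb1, b2, hb2, rfl⟩ := hx
  exact ⟨b * b1, P.B.mul_mem hb hb1, b2, hb2, by group⟩

lemma CC_one (x : G) : x ∈ CC P 1 ↔ x ∈ P.B := by
  have h1 : toW P 1 P.N.one_mem = 1 := rfl
  rw [mem_CC_iff P 1 1 P.N.one_mem h1]
  constructor
  · rintro ⟨b, hb, b', hb', rfl⟩
    exact P.B.mul_mem (P.B.mul_mem hb P.B.one_mem) hb'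
  · intro hx
    exact ⟨x, hx, 1, P.B.one_mem, by simp⟩

lemma CC_inv (w : WW P) (x : G) (hx : x ∈ CC P w) : x⁻¹ ∈ CC P w⁻¹ := by
  obtain ⟨n, hn, hw⟩ := toW_surj P w
  rw [mem_CC_iff P w n hn hw] at hx
  obtain ⟨b1, hb1, b2, hb2, rfl⟩ := hx
  have hw' : toW P n⁻¹ (P.N.inv_mem hn) = w⁻¹ := by rw [← hw]; rfl
  rw [mem_CC_iff P w⁻¹ n⁻¹ (P.N.inv_mem hn) hw']
  exact ⟨b2⁻¹, P.B.inv_mem hb2, b1⁻¹, P.B.inv_mem hb1, by group⟩

/-- two double cosets with a common element are equal (as `W`-indexed sets). -/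
lemma CC_eq_of_mem (w w' : WW P) (x : G) (hx : x ∈ CC P w) (hx' : x ∈ CC P w') : CC P w = CC P w' := by
  obtain ⟨n, hn, hw⟩ := toW_surj P w
  obtain ⟨n', hn', hw'⟩ := toW_surj P w'
  rw [mem_CC_iff P w n hn hw] at hx
  rw [mem_CC_iff P w' n' hn' hw'] at hx'
  obtain ⟨b1, hb1, b2, hb2, rfl⟩ := hx
  obtain ⟨c1, hc1, c2, hc2, hc⟩ := hx'
  ext y
  rw [mem_CC_iff P w n hn hw, mem_CC_iff P w' n' hn' hw']
  have hn_eq : n = b1⁻¹ * c1 * n' * c2 * b2⁻¹ := by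
    have : b1⁻¹ * (b1 * n * b2) * b2⁻¹ = n := by group
    rw [← this, hc]; group
  have hn'_eq : n' = c1⁻¹ * b1 * n * b2 * c2⁻¹ := by
    have : c1⁻¹ * (c1 * n' * c2) * c2⁻¹ = n' := by group
    rw [← this, ← hc]; group
  constructor
  · rintro ⟨d1, hd1, d2, hd2, rfl⟩
    refine ⟨d1 * b1⁻¹ * c1, P.B.mul_mem (P.B.mul_mem hd1 (P.B.inv_mem hb1)) hc1,
      c2 * b2⁻¹ * d2, P.B.mul_mem (P.B.mul_mem hc2 (P.B.inv_mem hb2)) hd2, ?_⟩
    nth_rewrite 1 [hn_eq]; group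
  · rintro ⟨d1, hd1, d2, hd2, rfl⟩
    refine ⟨d1 * c1⁻¹ * b1, P.B.mul_mem (P.B.mul_mem hd1 (P.B.inv_mem hc1)) hb1,
      b2 * c2⁻¹ * d2, P.B.mul_mem (P.B.mul_mem hb2 (P.B.inv_mem hc2)) hd2, ?_⟩
    nth_rewrite 1 [hn'_eq]; group

/-- products of lifts -/
lemma CC_mul_lift (u v : WW P) : ∃ g ∈ CC P u, ∃ h ∈ CC P v, g * h ∈ CC P (u * v) := by
  obtain ⟨n, hn, rfl⟩ := toW_surj P u
  obtain ⟨n', hn', rfl⟩ := toW_surj P v
  exact ⟨n, mem_CC_toW P n hn, n', mem_CC_toW P n' hn', by rw [← toW_mul]; exact mem_CC_toW P _ _⟩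

/-- splitting on the right -/
lemma CC_split_right (u v : WW P) (h : G) (hh : h ∈ CC P (u * v)) :
    ∃ y ∈ CC P v, h * y⁻¹ ∈ CC P u := by
  obtain ⟨n, hn, rfl⟩ := toW_surj P u
  obtain ⟨n', hn', rfl⟩ := toW_surj P v
  rw [mem_CC_iff P _ (n * n') (P.N.mul_mem hn hn') (toW_mul P n n' hn hn')] at hh
  obtain ⟨b1, hb1, b2, hb2, rfl⟩ := hh
  refine ⟨n' * b2, CC_mul_B P _ _ _ (mem_CC_toW P n' hn') hb2, ?_⟩
  have : b1 * (n * n') * b2 * (n' * b2)⁻¹ = b1 * n := by group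
  rw [this]
  exact B_mul_CC P _ _ _ (mem_CC_toW P n hn) hb1

/-- splitting on the left -/
lemma CC_split_left (u v : WW P) (h : G) (hh : h ∈ CC P (u * v)) :
    ∃ y ∈ CC P u, y⁻¹ * h ∈ CC P v := by
  obtain ⟨n, hn, rfl⟩ := toW_surj P u
  obtain ⟨n', hn', rfl⟩ := toW_surj P v
  rw [mem_CC_iff P _ (n * n') (P.N.mul_mem hn hn') (toW_mul P n n' hn hn')] at hh
  obtain ⟨b1, hb1, b2, hb2, rfl⟩ := hh
  refine ⟨b1 * n, B_mul_CC P _ _ _ (mem_CC_toW P n hn) hb1, ?_⟩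
  have : (b1 * n)⁻¹ * (b1 * (n * n') * b2) = n' * b2 := by group
  rw [this]
  exact CC_mul_B P _ _ _ (mem_CC_toW P n' hn') hb2

/-- if `1 ∈ B w B` then `w = 1`... more generally an element of `N` in `B w B`... -/
lemma eq_one_of_one_mem (w : WW P) (h : (1 : G) ∈ CC P w) : w = 1 := by
  obtain ⟨n, hn, hw⟩ := toW_surj P w
  rw [mem_CC_iff P w n hn hw] at h
  obtain ⟨b1, hb1, b2, hb2, h1⟩ := h
  rw [← hw, toW_eq_one_iff]
  have : n = b1⁻¹ * b2⁻¹ := by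
    have : b1⁻¹ * (b1 * n * b2) * b2⁻¹ = n := by group
    rw [← this, ← h1]; group
  rw [this]
  exact P.B.mul_mem (P.B.inv_mem hb1) (P.B.inv_mem hb2)

/-- the BN-pair axiom at the level of `W`. -/
lemma CC_axiom (s : G) (hs : s ∈ P.S) (w : WW P) (g h : G) (hg : g ∈ CC P (toW P s (P.subset hs)))
    (hh : h ∈ CC P w) : g * h ∈ CC P (toW P s (P.subset hs) * w) ∨ g * h ∈ CC P w := by
  obtain ⟨n, hn, rfl⟩ := toW_surj P w
  rw [mem_CC_iff P _ s (P.subset hs) rfl] at hg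
  rw [mem_CC_iff P _ n hn rfl] at hh
  obtain ⟨b1, hb1, b2, hb2, rfl⟩ := hg
  obtain ⟨b3, hb3, b4, hb4, rfl⟩ := hh
  have key := P.mul_mem_union s hs n hn (b2 * b3) (P.B.mul_mem hb2 hb3)
  have e : b1 * s * b2 * (b3 * n * b4) = b1 * (s * (b2 * b3) * n) * b4 := by group
  rw [e]
  rcases key with h1 | h1
  · left
    have h2 : s * (b2 * b3) * n ∈ CC P (toW P s (P.subset hs) * toW P n hn) :=
      ⟨s * n, P.N.mul_mem (P.subset hs) hn, rfl, h1⟩
    exact CC_mul_B P _ _ _ (B_mul_CC P _ _ _ h2 hb1) hb4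
  · right
    have h2 : s * (b2 * b3) * n ∈ CC P (toW P n hn) := ⟨n, hn, rfl, h1⟩
    exact CC_mul_B P _ _ _ (B_mul_CC P _ _ _ h2 hb1) hb4

section tits

variable (s₁ s₂ : G) (h₁ : s₁ ∈ P.S) (h₂ : s₂ ∈ P.S)
  (H : DihPair (toW P s₁ (P.subset h₁)) (toW P s₂ (P.subset h₂)))

include H

lemma ax (ς : WW P) (hς : ς = toW P s₁ (P.subset h₁) ∨ ς = toW P s₂ (P.subset h₂)) (w : WW P)
    (g h : G) (hg : g ∈ CC P ς) (hh : h ∈ CC P w) : g * h ∈ CC P (ς * w) ∨ g * h ∈ CC P w := by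
  rcases hς with rfl | rfl
  · exact CC_axiom P s₁ h₁ w g h hg hh
  · exact CC_axiom P s₂ h₂ w g h hg hh

lemma ax_right (ς : WW P) (hς : ς = toW P s₁ (P.subset h₁) ∨ ς = toW P s₂ (P.subset h₂)) (w : WW P)
    (g h : G) (hg : g ∈ CC P w) (hh : h ∈ CC P ς) : g * h ∈ CC P (w * ς) ∨ g * h ∈ CC P w := by
  have hinv := H.gen_inv ς hς
  have h1 : h⁻¹ ∈ CC P ς := by
    have := CC_inv P ς h hh
    rwa [hinv] at this
  have h2 := CC_inv P w g hg
  rcases ax P s₁ s₂ h₁ h₂ H ς hς w⁻¹ h⁻¹ g⁻¹ h1 h2 with h3 | h3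
  · left
    have := CC_inv P _ _ h3
    rwa [mul_inv_rev, inv_inv, mul_inv_rev, inv_inv, inv_inv, hinv] at this
  · right
    have := CC_inv P _ _ h3
    rwa [mul_inv_rev, inv_inv, inv_inv, inv_inv] at this

/-- uniqueness in the Bruhat decomposition -/
theorem bruhat_aux : ∀ k : ℕ, ∀ w w' : WW P, H.len w = k → H.len w ≤ H.len w' →
    CC P w = CC P w' → w = w' := by
  intro k
  induction k using Nat.strong_induction_on with
  | _ k ih =>
    intro w w' hk hle hC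
    by_cases hw : w = 1
    · subst hw
      have : (1 : G) ∈ CC P w' := by rw [← hC, CC_one]; exact P.B.one_mem
      exact (eq_one_of_one_mem P w' this).symm
    · obtain ⟨ς, w'', hς, hww, hlen⟩ := H.exists_left w hw
      obtain ⟨g0, hg0, h0, hh0, hgh⟩ := CC_mul_lift P ς w''
      rw [← hww, hC] at hgh
      have hg0' : g0⁻¹ ∈ CC P ς := by
        have := CC_inv P ς g0 hg0
        rwa [H.gen_inv ς hς] at this
      have hh0' : h0 = g0⁻¹ * (g0 * h0) := by group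
      have hlen2 : H.len w'' ≤ H.len w' := by omega
      have hlen3 : H.len w'' ≤ H.len (ς * w') := by
        have := H.len_le_mul ς hς w'
        omega
      rcases ax P s₁ s₂ h₁ h₂ H ς hς w' g0⁻¹ (g0 * h0) hg0' hgh with h3 | h3
      · rw [← hh0'] at h3
        have hCC := CC_eq_of_mem P w'' (ς * w') h0 hh0 h3
        have := ih (H.len w'') (by omega) w'' (ς * w') rfl hlen3 hCC
        rw [hww, this, ← mul_assoc, H.gen_sq ς hς, one_mul]
      · rw [← hh0'] at h3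
        have hCC := CC_eq_of_mem P w'' w' h0 hh0 h3
        have := ih (H.len w'') (by omega) w'' w' rfl hlen2 hCC
        rw [this] at hlen
        omega

theorem bruhat (w w' : WW P) (hC : CC P w = CC P w') : w = w' := by
  rcases le_total (H.len w) (H.len w') with h | h
  · exact bruhat_aux P s₁ s₂ h₁ h₂ H _ w w' rfl h hC
  · exact (bruhat_aux P s₁ s₂ h₁ h₂ H _ w' w rfl h hC.symm).symm

lemma gen_ne_one (ς : WW P) (hς : ς = toW P s₁ (P.subset h₁) ∨ ς = toW P s₂ (P.subset h₂)) : ς ≠ 1 := by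
  rcases hς with rfl | rfl
  · exact H.hσ1
  · exact H.hτ1

/-- the product lemma: if `l(ς w) > l(w)` then `(B ς B)(B w B) ⊆ B ς w B`. -/
theorem prod_lemma : ∀ k : ℕ, ∀ (ς : WW P) (hς : ς = toW P s₁ (P.subset h₁) ∨ ς = toW P s₂ (P.subset h₂))
    (w : WW P), H.len w = k → H.len w < H.len (ς * w) → ∀ g h : G, g ∈ CC P ς → h ∈ CC P w →
    g * h ∈ CC P (ς * w) := by
  intro k
  induction k using Nat.strong_induction_on with
  | _ k ih =>
    intro ς hς w hk hlen g h hg hh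
    by_cases hw : w = 1
    · subst hw
      rw [mul_one]
      exact CC_mul_B P ς g h hg ((CC_one P h).mp hh)
    · obtain ⟨ς', w', hς', hww, hlen'⟩ := H.exists_right w hw
      rcases ax P s₁ s₂ h₁ h₂ H ς hς w g h hg hh with h3 | h3
      · exact h3
      · exfalso
        -- l(ς w') > l(w')
        have e1 : ς * w = (ς * w') * ς' := by rw [hww, mul_assoc]
        have hl1 : H.len (ς * w) ≤ H.len (ς * w') + 1 := by
          rw [e1]
          have := H.len_le_mul_right ς' hς' (ς * w' * ς')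
          rw [mul_assoc (ς * w'), H.gen_sq ς' hς', mul_one] at this
          have h5 := H.len_le_mul_right ς' hς' (ς * w')
          have h6 : H.len (ς * w' * ς') ≤ H.len (ς * w') + 1 := by
            have := H.len_inv (ς * w' * ς')
            have h7 := H.len_mul_le ς' hς' (ς * w')⁻¹
            rw [H.len_inv] at h7
            have h8 : (ς' * (ς * w')⁻¹) = (ς * w' * ς')⁻¹ := by
              rw [mul_inv_rev (ς * w') ς', H.gen_inv ς' hς']
            rw [h8, H.len_inv] at h7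
            exact h7
          exact h6
        have hl2 : H.len w' < H.len (ς * w') := by omega
        obtain ⟨y, hy, hhy⟩ := CC_split_right P w' ς' h (by rw [← hww]; exact hh)
        have hy' : y⁻¹ ∈ CC P ς' := by
          have := CC_inv P ς' y hy
          rwa [H.gen_inv ς' hς'] at this
        have i1 := ih (H.len w') (by omega) ς hς w' rfl hl2 g (h * y⁻¹) hg hhy
        have i2 := ax_right P s₁ s₂ h₁ h₂ H ς' hς' w (g * h) y⁻¹ h3 hy'
        have hw' : w * ς' = w' := by rw [hww, mul_assoc, H.gen_sq ς' hς', mul_one]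
        rw [hw', mul_assoc] at i2
        rcases i2 with i2 | i2
        · have := bruhat P s₁ s₂ h₁ h₂ H _ _ (CC_eq_of_mem P _ _ _ i1 i2)
          have : ς = 1 := by
            have h9 : ς * w' = 1 * w' := by rw [one_mul]; exact this
            exact mul_right_cancel h9
          exact gen_ne_one P s₁ s₂ h₁ h₂ H ς hς this
        · have := bruhat P s₁ s₂ h₁ h₂ H _ _ (CC_eq_of_mem P _ _ _ i1 i2)
          have h10 : ς * w = w' := by
            rw [← this, ← mul_assoc, H.gen_sq ς hς, one_mul]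
          rw [h10] at hlen
          omega

end tits

end Cfsg.Agent.Lib.Helper9.FHBN
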