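import Mathlib
import Cfsg.Agent.Lib.Helper9.FHAlg

set_option autoImplicit false
set_option linter.unusedSimpArgs false
set_option linter.unusedSectionVars false

namespace Cfsg.Agent.Lib.Helper9.FHData

open Matrix Cfsg.Agent.Lib.Helper9.FHAlg

variable {Ω : Type*} [Fintype Ω] [DecidableEq Ω]

/-- alternating product `a b a ...` (`k` factors). -/
def altM : ℕ → Matrix Ω Ω ℝ → Matrix Ω Ω ℝ → Matrix Ω Ω ℝ
  | 0, _, _ => 1
  | (k+1), a, b => a * altM k b a

/-- alternating product of scalars. -/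
def altq : ℕ → ℝ → ℝ → ℝ
  | 0, _, _ => 1
  | (k+1), s, t => s * altq k t s

@[simp] lemma altM_zero (a b : Matrix Ω Ω ℝ) : altM 0 a b = 1 := rfl
lemma altM_succ (k : ℕ) (a b : Matrix Ω Ω ℝ) : altM (k+1) a b = a * altM k b a := rfl
@[simp] lemma altq_zero (s t : ℝ) : altq 0 s t = 1 := rfl
lemma altq_succ (k : ℕ) (s t : ℝ) : altq (k+1) s t = s * altq k t s := rfl

lemma altM_add_two (k : ℕ) (a b : Matrix Ω Ω ℝ) : altM (k+2) a b = (a * b) * altM k a b := by
  rw [altM_succ, altM_succ, mul_assoc]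

lemma altM_even (k : ℕ) (a b : Matrix Ω Ω ℝ) : altM (2*k) a b = (a * b) ^ k := by
  induction k with
  | zero => simp
  | succ k ih => rw [show 2 * (k+1) = 2 * k + 2 by ring, altM_add_two, ih, pow_succ']

lemma altM_odd (k : ℕ) (a b : Matrix Ω Ω ℝ) : altM (2*k+1) a b = (a * b) ^ k * a := by
  induction k with
  | zero => simp [altM_succ]
  | succ k ih => rw [show 2 * (k+1) + 1 = (2 * k + 1) + 2 by ring, altM_add_two, ih, pow_succ']; simp only [mul_assoc]

lemma altq_add_two (k : ℕ) (s t : ℝ) : altq (k+2) s t = (s * t) * altq k s t := by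
  rw [altq_succ, altq_succ, mul_assoc]

lemma altq_even (k : ℕ) (s t : ℝ) : altq (2*k) s t = (s * t) ^ k := by
  induction k with
  | zero => simp
  | succ k ih => rw [show 2 * (k+1) = 2 * k + 2 by ring, altq_add_two, ih, pow_succ']

lemma altq_odd (k : ℕ) (s t : ℝ) : altq (2*k+1) s t = (s * t) ^ k * s := by
  induction k with
  | zero => simp [altq_succ]
  | succ k ih => rw [show 2 * (k+1) + 1 = (2 * k + 1) + 2 by ring, altq_add_two, ih, pow_succ']; ring

lemma altq_pos (k : ℕ) (s t : ℝ) (hs : 0 < s) (ht : 0 < t) : 0 < altq k s t := by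
  induction k generalizing s t with
  | zero => simp
  | succ k ih => rw [altq_succ]; exact mul_pos hs (ih t s ht hs)

/-- the family of `2m` matrices -/
def fam (m : ℕ) (a b : Matrix Ω Ω ℝ) : Fin m ⊕ Fin m → Matrix Ω Ω ℝ
  | Sum.inl k => altM k a b
  | Sum.inr k => altM (k+1) b a

/-- the corresponding indices -/
def famq (m : ℕ) (s t : ℝ) : Fin m ⊕ Fin m → ℝ
  | Sum.inl k => altq k s t
  | Sum.inr k => altq (k+1) t s

/-- Hecke data of a rank 2 BN pair, matrix form. -/
structure FHD (m s t : ℕ) (a b : Matrix Ω Ω ℝ) : Prop where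
  hm : 2 ≤ m
  hs : 2 ≤ s
  ht : 2 ≤ t
  ha_symm : aᵀ = a
  hb_symm : bᵀ = b
  ha : a * a = ((s:ℝ) - 1) • a + (s:ℝ) • (1 : Matrix Ω Ω ℝ)
  hb : b * b = ((t:ℝ) - 1) • b + (t:ℝ) • (1 : Matrix Ω Ω ℝ)
  braid : altM m a b = altM m b a
  orth : ∀ i j : Fin m ⊕ Fin m, (fam m a b i * (fam m a b j)ᵀ).trace =
    if i = j then (Fintype.card Ω : ℝ) * famq m s t i else 0

/-- the span of the family -/
def spanS (m : ℕ) (a b : Matrix Ω Ω ℝ) : Submodule ℝ (Matrix Ω Ω ℝ) :=
  Submodule.span ℝ (Set.range (fam m a b))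

variable {m s t : ℕ} {a b : Matrix Ω Ω ℝ}

namespace FHD

variable (D : FHD m s t a b)
include D

lemma a_altM_succ (k : ℕ) : a * altM (k+1) a b = ((s:ℝ) - 1) • altM (k+1) a b + (s:ℝ) • altM k b a := by
  rw [altM_succ, haa a s D.ha]

lemma b_altM_succ (k : ℕ) : b * altM (k+1) b a = ((t:ℝ) - 1) • altM (k+1) b a + (t:ℝ) • altM k a b := by
  rw [altM_succ, haa b t D.hb]


lemma altM_ab_mem (k : ℕ) (hk : k ≤ m) : altM k a b ∈ spanS m a b := by
  rcases Nat.lt_or_ge k m with h | h
  · exact Submodule.subset_span ⟨Sum.inl ⟨k, h⟩, rfl⟩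
  · have : k = m := le_antisymm hk h
    subst this
    rw [D.braid]
    have hm := D.hm
    exact Submodule.subset_span ⟨Sum.inr ⟨k - 1, by omega⟩, by
      show altM (k - 1 + 1) b a = _
      rw [Nat.sub_add_cancel (by omega)]⟩

lemma altM_ba_mem (k : ℕ) (hk : k ≤ m) : altM k b a ∈ spanS m a b := by
  rcases Nat.eq_zero_or_pos k with h | h
  · subst h
    have := D.altM_ab_mem 0 (by omega)
    simpa using this
  · exact Submodule.subset_span ⟨Sum.inr ⟨k - 1, by omega⟩, by
      show altM (k - 1 + 1) b a = _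
      rw [Nat.sub_add_cancel (by omega)]⟩

lemma a_mul_mem (X : Matrix Ω Ω ℝ) (hX : X ∈ spanS m a b) : a * X ∈ spanS m a b := by
  have hm := D.hm
  induction hX using Submodule.span_induction with
  | mem X hX =>
    obtain ⟨i, rfl⟩ := hX
    rcases i with ⟨k, hk⟩ | ⟨k, hk⟩
    · show a * altM k a b ∈ spanS m a b
      rcases k with _ | k
      · have := D.altM_ab_mem 1 (by omega)
        simpa [altM_succ] using this
      · rw [D.a_altM_succ]
        exact Submodule.add_mem _ (Submodule.smul_mem _ _ (D.altM_ab_mem _ (by omega)))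
          (Submodule.smul_mem _ _ (D.altM_ba_mem _ (by omega)))
    · show a * altM (k+1) b a ∈ spanS m a b
      rcases Nat.lt_or_ge (k+1) m with h | h
      · have := D.altM_ab_mem (k+2) (by omega)
        rwa [altM_succ] at this
      · have hk1 : k + 1 = m := by omega
        rw [hk1, ← D.braid]
        obtain ⟨m', rfl⟩ : ∃ m', m = m' + 1 := ⟨m - 1, by omega⟩
        rw [D.a_altM_succ]
        exact Submodule.add_mem _ (Submodule.smul_mem _ _ (D.altM_ab_mem _ (by omega)))
          (Submodule.smul_mem _ _ (D.altM_ba_mem _ (by omega)))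
  | zero => simp
  | add X Y _ _ hX hY => rw [mul_add]; exact Submodule.add_mem _ hX hY
  | smul c X _ hX => rw [mul_smul_comm]; exact Submodule.smul_mem _ _ hX

lemma b_mul_mem (X : Matrix Ω Ω ℝ) (hX : X ∈ spanS m a b) : b * X ∈ spanS m a b := by
  have hm := D.hm
  induction hX using Submodule.span_induction with
  | mem X hX =>
    obtain ⟨i, rfl⟩ := hX
    rcases i with ⟨k, hk⟩ | ⟨k, hk⟩
    · show b * altM k a b ∈ spanS m a b
      have := D.altM_ba_mem (k+1) (by omega)
      rwa [altM_succ] at this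
    · show b * altM (k+1) b a ∈ spanS m a b
      rw [D.b_altM_succ]
      exact Submodule.add_mem _ (Submodule.smul_mem _ _ (D.altM_ba_mem _ (by omega)))
        (Submodule.smul_mem _ _ (D.altM_ab_mem _ (by omega)))
  | zero => simp
  | add X Y _ _ hX hY => rw [mul_add]; exact Submodule.add_mem _ hX hY
  | smul c X _ hX => rw [mul_smul_comm]; exact Submodule.smul_mem _ _ hX

lemma one_mem_S : (1 : Matrix Ω Ω ℝ) ∈ spanS m a b := by
  have := D.altM_ab_mem 0 (by omega)
  simpa using this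

lemma adjoin_le : ∀ X ∈ Algebra.adjoin ℝ ({a, b} : Set (Matrix Ω Ω ℝ)), ∀ Y ∈ spanS m a b, X * Y ∈ spanS m a b := by
  intro X hX
  induction hX using Algebra.adjoin_induction with
  | mem X hX =>
    intro Y hY
    rcases hX with rfl | rfl
    · exact D.a_mul_mem Y hY
    · exact D.b_mul_mem Y hY
  | algebraMap r =>
    intro Y hY
    rw [Algebra.algebraMap_eq_smul_one, smul_mul_assoc, one_mul]
    exact Submodule.smul_mem _ _ hY
  | add X Y _ _ hX hY =>
    intro Z hZ
    rw [add_mul]; exact Submodule.add_mem _ (hX Z hZ) (hY Z hZ)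
  | mul X Y _ _ hX hY =>
    intro Z hZ
    rw [mul_assoc]; exact hX _ (hY Z hZ)

lemma adjoin_mem (X : Matrix Ω Ω ℝ) (hX : X ∈ Algebra.adjoin ℝ ({a, b} : Set (Matrix Ω Ω ℝ))) :
    X ∈ spanS m a b := by
  have := D.adjoin_le X hX 1 D.one_mem_S
  rwa [mul_one] at this

lemma card_pos [Nonempty Ω] : (0:ℝ) < Fintype.card Ω := by
  exact_mod_cast Fintype.card_pos

lemma famq_pos (i : Fin m ⊕ Fin m) : 0 < famq m (s:ℝ) (t:ℝ) i := by
  have hs : (0:ℝ) < s := by have := D.hs; positivity
  have ht : (0:ℝ) < t := by have := D.ht; positivity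
  rcases i with k | k
  · exact altq_pos _ _ _ hs ht
  · exact altq_pos _ _ _ ht hs

/-- the key trace formula for a symmetric idempotent in the span. -/
lemma trace_idem [Nonempty Ω] (E : Matrix Ω Ω ℝ) (hE : E ∈ spanS m a b) (hEt : Eᵀ = E) (hEE : E * E = E) :
    E.trace = ∑ i, (E * fam m a b i).trace ^ 2 / ((Fintype.card Ω : ℝ) * famq m s t i) := by
  obtain ⟨c, hc⟩ := (Submodule.mem_span_range_iff_exists_fun ℝ).mp hE
  have hn := D.card_pos
  have key : ∀ j, (E * fam m a b j).trace = c j * ((Fintype.card Ω : ℝ) * famq m s t j) := by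
    intro j
    have h1 : (E * fam m a b j).trace = (E * (fam m a b j)ᵀ).trace := by
      rw [← Matrix.trace_transpose (E * (fam m a b j)ᵀ), Matrix.transpose_mul, Matrix.transpose_transpose,
        hEt, Matrix.trace_mul_comm]
    rw [h1, ← hc, Finset.sum_mul, Matrix.trace_sum]
    simp only [smul_mul_assoc, Matrix.trace_smul, D.orth, smul_eq_mul]
    rw [Finset.sum_eq_single j]
    · simp
    · intro i _ hij; simp [hij]
    · simp
  have h2 : E.trace = (E * Eᵀ).trace := by rw [hEt, hEE]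
  rw [h2]
  conv_lhs => rw [← hc, Matrix.transpose_sum, Finset.mul_sum, Matrix.trace_sum]
  apply Finset.sum_congr rfl
  intro j _
  rw [Matrix.transpose_smul, mul_smul_comm, Matrix.trace_smul, smul_eq_mul]
  have h1 : (E * (fam m a b j)ᵀ).trace = (E * fam m a b j).trace := by
    rw [← Matrix.trace_transpose (E * (fam m a b j)ᵀ), Matrix.transpose_mul, Matrix.transpose_transpose,
      hEt, Matrix.trace_mul_comm]
  have hq := D.famq_pos j
  rw [hc, h1, key j]
  field_simp

end FHD

end Cfsg.Agent.Lib.Helper9.FHData
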