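import Mathlib

set_option autoImplicit false

namespace Cfsg.Agent.Lib.Helper9.FHSeq

/-- second-order linear recurrence `y (k+2) = x * y (k+1) - P * y k`. -/
noncomputable def rec2 (x P y0 y1 : ℝ) : ℕ → ℝ
  | 0 => y0
  | 1 => y1
  | (k+2) => x * rec2 x P y0 y1 (k+1) - P * rec2 x P y0 y1 k

@[simp] lemma rec2_zero (x P y0 y1 : ℝ) : rec2 x P y0 y1 0 = y0 := by
  rw [rec2]

@[simp] lemma rec2_one (x P y0 y1 : ℝ) : rec2 x P y0 y1 1 = y1 := by
  rw [rec2]

lemma rec2_succ_succ (x P y0 y1 : ℝ) (k : ℕ) :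
    rec2 x P y0 y1 (k+2) = x * rec2 x P y0 y1 (k+1) - P * rec2 x P y0 y1 k := by
  rw [rec2]

/-- uniqueness -/
lemma eq_rec2 {x P y0 y1 : ℝ} {y : ℕ → ℝ} (h0 : y 0 = y0) (h1 : y 1 = y1)
    (hr : ∀ k, y (k+2) = x * y (k+1) - P * y k) : ∀ k, y k = rec2 x P y0 y1 k := by
  intro k
  induction k using Nat.strong_induction_on with
  | _ k ih =>
    match k with
    | 0 => simpa using h0
    | 1 => simpa using h1
    | (k+2) =>
      rw [hr, rec2_succ_succ, ih (k+1) (by omega), ih k (by omega)]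

/-- scaling -/
lemma rec2_smul (x P y0 y1 c : ℝ) (k : ℕ) :
    rec2 x P (c * y0) (c * y1) k = c * rec2 x P y0 y1 k := by
  symm
  apply eq_rec2 (y := fun k => c * rec2 x P y0 y1 k)
  · simp
  · simp
  · intro k; simp only [rec2_succ_succ]; ring

/-- shifting -/
lemma rec2_shift (x P y0 y1 : ℝ) (n k : ℕ) :
    rec2 x P y0 y1 (n + k) = rec2 x P (rec2 x P y0 y1 n) (rec2 x P y0 y1 (n+1)) k := by
  apply eq_rec2 (y := fun k => rec2 x P y0 y1 (n + k))
  · simp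
  · simp
  · intro k
    show rec2 x P y0 y1 (n + (k+2)) = _
    rw [show n + (k+2) = (n+k) + 2 by ring, rec2_succ_succ]
    rfl

/-- the quadratic invariant -/
lemma rec2_inv (x P y0 y1 : ℝ) (k : ℕ) :
    rec2 x P y0 y1 (k+1) ^ 2 - x * rec2 x P y0 y1 (k+1) * rec2 x P y0 y1 k
      + P * rec2 x P y0 y1 k ^ 2 = P ^ k * (y1 ^ 2 - x * y1 * y0 + P * y0 ^ 2) := by
  induction k with
  | zero => simp
  | succ k ih =>
    rw [rec2_succ_succ, pow_succ]
    linear_combination P * ih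

/-- partial sum identity -/
lemma rec2_sum (x P y0 y1 : ℝ) (hP : P ≠ 0) (N : ℕ) :
    (4 * P - x ^ 2) * ∑ k ∈ Finset.range (N+1), rec2 x P y0 y1 k ^ 2 / P ^ k =
      2 * (N + 1) * (y1 ^ 2 - x * y1 * y0 + P * y0 ^ 2)
      + (P * rec2 x P y0 y1 N ^ 2 - rec2 x P y0 y1 (N+1) ^ 2) / P ^ N
      - ((x * y0 - y1) ^ 2 - P * y0 ^ 2) := by
  induction N with
  | zero => simp; ring
  | succ N ih =>
    rw [Finset.sum_range_succ, mul_add, ih]
    have hinv := rec2_inv x P y0 y1 (N+1)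
    have hPN : P ^ N ≠ 0 := pow_ne_zero _ hP
    have hPN1 : P ^ (N+1) ≠ 0 := pow_ne_zero _ hP
    rw [rec2_succ_succ] at hinv ⊢
    set A := rec2 x P y0 y1 (N+1) with hA
    set B := rec2 x P y0 y1 N with hB
    set J := (y1 ^ 2 - x * y1 * y0 + P * y0 ^ 2) with hJ
    have hJ' : J = ((x * A - P * B) ^ 2 - x * (x * A - P * B) * A + P * A ^ 2) / P ^ (N+1) := by
      rw [eq_div_iff hPN1]; linear_combination (-1 : ℝ) * hinv
    push_cast
    rw [pow_succ] at hPN1 ⊢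
    have : (2 * ((N:ℝ) + 1 + 1)) * J = 2 * ((N:ℝ)+1) * J + 2 * J := by ring
    rw [this]
    rw [show 2 * J = 2 * (((x * A - P * B) ^ 2 - x * (x * A - P * B) * A + P * A ^ 2) / (P ^ N * P))
      by rw [← pow_succ, ← hJ']]
    field_simp
    ring

/-- periodic sum -/
lemma rec2_sum_periodic (x P y0 y1 κ : ℝ) (hP : P ≠ 0) (hx : 4 * P - x ^ 2 ≠ 0) (n : ℕ)
    (hn : 1 ≤ n) (hκ : κ ^ 2 = P ^ n)
    (h0 : rec2 x P y0 y1 n = κ * y0) (h1 : rec2 x P y0 y1 (n+1) = κ * y1) :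
    ∑ k ∈ Finset.range n, rec2 x P y0 y1 k ^ 2 / P ^ k =
      2 * n * (y1 ^ 2 - x * y1 * y0 + P * y0 ^ 2) / (4 * P - x ^ 2) := by
  obtain ⟨N, rfl⟩ : ∃ N, n = N + 1 := ⟨n - 1, by omega⟩
  rw [eq_div_iff hx, mul_comm, rec2_sum x P y0 y1 hP N]
  have hPN : P ^ N ≠ 0 := pow_ne_zero _ hP
  -- P * y N = x * y (N+1) - y (N+2)
  have hr := rec2_succ_succ x P y0 y1 N
  rw [h0] at hr
  rw [h1] at hr
  rw [h0]
  have hyN : P * rec2 x P y0 y1 N = κ * (x * y0 - y1) := by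
    linear_combination (1:ℝ) * hr
  have key : (P * rec2 x P y0 y1 N ^ 2 - (κ * y0) ^ 2) / P ^ N = ((x * y0 - y1) ^ 2 - P * y0 ^ 2) := by
    rw [div_eq_iff hPN]
    have h2 : P * (P * rec2 x P y0 y1 N ^ 2) = κ^2 * (x * y0 - y1)^2 := by
      have : (P * rec2 x P y0 y1 N) ^ 2 = (κ * (x * y0 - y1)) ^ 2 := by rw [hyN]
      linear_combination this
    have hκ' : κ ^ 2 = P ^ N * P := by rw [hκ, pow_succ]
    apply mul_left_cancel₀ hP
    rw [mul_sub, h2]; rw [mul_pow, hκ']; ring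
  rw [key]; push_cast; ring

/-- reversal of a recurrence sequence -/
lemma rec2_reverse (x P y0 y1 : ℝ) (n : ℕ) :
    ∀ j i, i + j = n + 1 → rec2 x P y0 y1 i * P ^ j =
      rec2 x P (rec2 x P y0 y1 (n+1)) (P * rec2 x P y0 y1 n) j := by
  intro j
  induction j using Nat.strong_induction_on with
  | _ j ih =>
    intro i hij
    match j with
    | 0 =>
      have : i = n + 1 := by omega
      subst this; simp
    | 1 =>
      have : i = n := by omega
      subst this; simp [mul_comm]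
    | (j+2) =>
      rw [rec2_succ_succ, ← ih (j+1) (by omega) (i+1) (by omega), ← ih j (by omega) (i+2) (by omega),
        rec2_succ_succ]
      ring

end Cfsg.Agent.Lib.Helper9.FHSeq
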