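import Mathlib
import Cfsg.Agent.Lib.Helper9.FHSeq

set_option autoImplicit false

namespace Cfsg.Agent.Lib.Helper9.FHTrig

open Cfsg.Agent.Lib.Helper9.FHSeq Polynomial Real

/-- the Chebyshev-like sequence `α 0 = 0, α 1 = 1, α (k+2) = x α (k+1) - P α k`. -/
noncomputable def al (x P : ℝ) : ℕ → ℝ := rec2 x P 0 1

lemma al_zero (x P : ℝ) : al x P 0 = 0 := by simp [al]
lemma al_one (x P : ℝ) : al x P 1 = 1 := by simp [al]
lemma al_succ_succ (x P : ℝ) (k : ℕ) : al x P (k+2) = x * al x P (k+1) - P * al x P k :=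
  rec2_succ_succ _ _ _ _ _

lemma al_casorati (x P : ℝ) (k : ℕ) :
    al x P (k+1) ^ 2 - x * al x P (k+1) * al x P k + P * al x P k ^ 2 = P ^ k := by
  have := rec2_inv x P 0 1 k
  simpa [al] using this

/-- if `α h = 0` then `(-P α (h-1))^2 = P^h`. -/
lemma al_kappa_sq (x P : ℝ) (h : ℕ) (hz : al x P (h+1) = 0) :
    (-(P * al x P h)) ^ 2 = P ^ (h+1) := by
  have := al_casorati x P h
  rw [hz] at this
  rw [pow_succ]; linear_combination P * this

/-- link with Chebyshev `U`. -/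
lemma al_eq_U (x Q : ℝ) (hQ : 0 < Q) (k : ℕ) :
    al x (Q^2) (k+1) = Q ^ k * (Chebyshev.U ℝ (k : ℤ)).eval (x / (2 * Q)) := by
  have hshift : ∀ k, al x (Q^2) (k+1) = rec2 x (Q^2) 1 x k := by
    intro k
    have := rec2_shift x (Q^2) 0 1 1 k
    rw [al, add_comm k 1, this]
    simp [rec2_succ_succ]
  rw [hshift]
  symm
  apply eq_rec2 (y := fun k : ℕ => Q ^ k * (Chebyshev.U ℝ (k : ℤ)).eval (x / (2 * Q)))
  · simp
  · simp; field_simp
  · intro k
    have : ((k + 2 : ℕ) : ℤ) = (k : ℤ) + 2 := by push_cast; ring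
    have h1 : ((k + 1 : ℕ) : ℤ) = (k : ℤ) + 1 := by push_cast; ring
    simp only [this, h1, Chebyshev.U_add_two, eval_sub, eval_mul, eval_ofNat, eval_X]
    field_simp
    ring

/-- roots of `α`. -/
lemma al_root (x Q : ℝ) (hQ : 0 < Q) (h : ℕ) (hz : al x (Q^2) (h+1) = 0) :
    ∃ j : ℕ, 1 ≤ j ∧ j < h + 1 ∧ x = 2 * Q * cos (j * π / (h+1)) := by
  rw [al_eq_U x Q hQ] at hz
  have hU : (Chebyshev.U ℝ (h : ℤ)).eval (x / (2 * Q)) = 0 := by
    rcases mul_eq_zero.mp hz with h1 | h1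
    · exact absurd h1 (pow_ne_zero _ hQ.ne')
    · exact h1
  have hne : Chebyshev.U ℝ (h : ℤ) ≠ 0 := Chebyshev.U_ne_zero ℝ _ (by omega)
  have hmem : x / (2 * Q) ∈ (Chebyshev.U ℝ (h : ℤ)).roots := (mem_roots hne).mpr hU
  rw [Chebyshev.roots_U_real] at hmem
  obtain ⟨k, hk, hkx⟩ := Finset.mem_image.mp (Finset.mem_val.mp hmem)
  refine ⟨k + 1, by omega, by simpa using Finset.mem_range.mp hk, ?_⟩
  have : x = 2 * Q * (x / (2 * Q)) := by field_simp
  rw [this, ← hkx]; push_cast; ring_nf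

/-- value of `-P α (m-1)` at a root `2 Q cos (i π / m)`. -/
lemma al_pred_at_root (Q : ℝ) (hQ : 0 < Q) (m i : ℕ) (hm : 2 ≤ m) (hi1 : 1 ≤ i) (hi : i < m) :
    -(Q^2 * al (2 * Q * cos (i * π / m)) (Q^2) (m-1)) = (-1) ^ i * Q ^ m := by
  obtain ⟨k, rfl⟩ : ∃ k, m = k + 2 := ⟨m - 2, by omega⟩
  rw [show k + 2 - 1 = k + 1 by omega, al_eq_U _ Q hQ]
  set θ : ℝ := i * π / ((k + 2 : ℕ) : ℝ) with hθ
  have hx : 2 * Q * cos θ / (2 * Q) = cos θ := by field_simp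
  rw [hx]
  have hsin : sin θ ≠ 0 := by
    apply ne_of_gt
    apply sin_pos_of_pos_of_lt_pi
    · rw [hθ]; positivity
    · rw [hθ, div_lt_iff₀ (by positivity)]
      have : (i : ℝ) < ((k + 2 : ℕ) : ℝ) := by exact_mod_cast hi
      nlinarith [pi_pos]
  have hU := Chebyshev.U_real_cos θ (k : ℤ)
  have h2 : sin (((k : ℤ) + 1 : ℝ) * θ) = -((-1) ^ i * sin θ) := by
    have : ((k : ℤ) + 1 : ℝ) * θ = i * π - θ := by
      rw [hθ]; push_cast; field_simp; ring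
    rw [this, sin_sub, sin_nat_mul_pi, cos_nat_mul_pi]; ring
  have h3 : (Chebyshev.U ℝ (k : ℤ)).eval (cos θ) = -((-1) ^ i) := by
    have : (Chebyshev.U ℝ (k : ℤ)).eval (cos θ) * sin θ = -((-1) ^ i) * sin θ := by
      rw [hU]; push_cast at h2 ⊢; rw [h2]; ring
    exact mul_right_cancel₀ hsin this
  rw [h3]; ring

end Cfsg.Agent.Lib.Helper9.FHTrig
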