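import Mathlib
import Cfsg.Agent.Lib.Helper9.FHAlg
import Cfsg.Agent.Lib.Helper9.FHSeq
import Cfsg.Agent.Lib.Helper9.FHTrig
import Cfsg.Agent.Lib.Helper9.FHData

set_option autoImplicit false
set_option linter.unusedSimpArgs false
set_option linter.unusedSectionVars false

namespace Cfsg.Agent.Lib.Helper9.FHPhi

open Matrix Cfsg.Agent.Lib.Helper9.FHAlg Cfsg.Agent.Lib.Helper9.FHSeq Cfsg.Agent.Lib.Helper9.FHTrig
  Cfsg.Agent.Lib.Helper9.FHData

variable {Ω : Type*} [Fintype Ω] [DecidableEq Ω]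

/-- a central symmetric idempotent on which `z` acts by the scalar `x`. -/
structure EP (a b : Matrix Ω Ω ℝ) (s t : ℝ) (E : Matrix Ω Ω ℝ) (x : ℝ) : Prop where
  hEt : Eᵀ = E
  hEE : E * E = E
  hEa : E * a = a * E
  hEb : E * b = b * E
  hzE : zz a b s t * E = x • E

variable {a b : Matrix Ω Ω ℝ} {s t : ℝ} {E : Matrix Ω Ω ℝ} {x : ℝ}

/-- the trace functional -/
def phi (E X : Matrix Ω Ω ℝ) : ℝ := (E * X).trace

lemma phi_add (E X Y : Matrix Ω Ω ℝ) : phi E (X + Y) = phi E X + phi E Y := by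
  simp [phi, mul_add]

lemma phi_sub (E X Y : Matrix Ω Ω ℝ) : phi E (X - Y) = phi E X - phi E Y := by
  simp [phi, mul_sub]

lemma phi_smul (E : Matrix Ω Ω ℝ) (c : ℝ) (X : Matrix Ω Ω ℝ) : phi E (c • X) = c * phi E X := by
  simp [phi]

namespace EP

variable (ha : a * a = (s - 1) • a + s • (1 : Matrix Ω Ω ℝ))
  (hb : b * b = (t - 1) • b + t • (1 : Matrix Ω Ω ℝ))
  (hat : aᵀ = a) (hbt : bᵀ = b)
  (P : EP a b s t E x)
include P

lemma phi_comm_a (X : Matrix Ω Ω ℝ) : phi E (X * a) = phi E (a * X) := by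
  unfold phi
  rw [← mul_assoc, Matrix.trace_mul_comm, ← mul_assoc, ← P.hEa, mul_assoc]

lemma phi_comm_b (X : Matrix Ω Ω ℝ) : phi E (X * b) = phi E (b * X) := by
  unfold phi
  rw [← mul_assoc, Matrix.trace_mul_comm, ← mul_assoc, ← P.hEb, mul_assoc]

include hat hbt in
lemma zz_transpose : (zz a b s t)ᵀ = zz a b s t := by
  rw [zz_expand]
  simp only [Matrix.transpose_add, Matrix.transpose_sub, Matrix.transpose_mul, Matrix.transpose_smul,
    Matrix.transpose_one, hat, hbt]
  abel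

include hat hbt in
lemma hEz : E * zz a b s t = x • E := by
  have := congrArg Matrix.transpose P.hzE
  rwa [Matrix.transpose_mul, Matrix.transpose_smul, P.hEt, zz_transpose hat hbt P] at this

include hat hbt in
lemma phi_z (X : Matrix Ω Ω ℝ) : phi E (zz a b s t * X) = x * phi E X := by
  unfold phi
  rw [← mul_assoc, hEz hat hbt P, smul_mul_assoc, Matrix.trace_smul, smul_eq_mul]

lemma phi_one : phi E 1 = E.trace := by simp [phi]

include ha hb hat hbt in
/-- the three linear equations. -/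
lemma eqs :
    2 * phi E (a * b) - (s - 1) * phi E b - (t - 1) * phi E a + (s - 1) * (t - 1) * E.trace
        - x * E.trace = 0 ∧
    (s - 1) * phi E (a * b) + 2 * s * phi E b - s * (t - 1) * E.trace - x * phi E a = 0 ∧
    (t - 1) * phi E (a * b) + 2 * t * phi E a - t * (s - 1) * E.trace - x * phi E b = 0 := by
  have hba : phi E (b * a) = phi E (a * b) := P.phi_comm_a b
  refine ⟨?_, ?_, ?_⟩
  · have h1 := phi_z hat hbt P 1
    rw [mul_one, phi_one P, zz_expand] at h1
    simp only [phi_add, phi_sub, phi_smul, hba, phi_one P] at h1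
    linarith
  · have h1 := phi_z hat hbt P a
    rw [zz_mul_a a b s t ha hb] at h1
    have h2 : phi E (a * b * a) = (s - 1) * phi E (a * b) + s * phi E b := by
      rw [P.phi_comm_a, haa a s ha, phi_add, phi_smul, phi_smul]
    simp only [phi_add, phi_sub, phi_smul, phi_one P, h2] at h1
    linarith
  · have h1 := phi_z hat hbt P b
    rw [zz_mul_b a b s t ha hb] at h1
    have h2 : phi E (b * a * b) = (t - 1) * phi E (a * b) + t * phi E a := by
      rw [P.phi_comm_b, haa b t hb, phi_add, phi_smul, phi_smul, hba]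
    simp only [phi_add, phi_sub, phi_smul, phi_one P, h2] at h1
    linarith

include ha hb hat hbt in
lemma phi_a (hx1 : x ≠ 1 + s * t) (hx2 : x ≠ -(s + t)) : phi E a = (s - 1) * E.trace / 2 := by
  obtain ⟨e1, e2, e3⟩ := eqs ha hb hat hbt P
  have hdet : 2 * (x - (1 + s * t)) * (x + (s + t)) ≠ 0 := by
    apply mul_ne_zero (mul_ne_zero two_ne_zero (sub_ne_zero.mpr hx1))
    intro h; apply hx2; linarith
  have : 2 * (x - (1 + s * t)) * (x + (s + t)) * (phi E a - (s - 1) * E.trace / 2) = 0 := by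
    linear_combination (2 * s * (t - 1) + x * (s - 1)) * e1 + ((s - 1) * (t - 1) - 2 * x) * e2
      - (s + 1) ^ 2 * e3
  have := (mul_eq_zero.mp this).resolve_left hdet
  linarith

include ha hb hat hbt in
lemma phi_b (hx1 : x ≠ 1 + s * t) (hx2 : x ≠ -(s + t)) : phi E b = (t - 1) * E.trace / 2 := by
  obtain ⟨e1, e2, e3⟩ := eqs ha hb hat hbt P
  have hdet : 2 * (x - (1 + s * t)) * (x + (s + t)) ≠ 0 := by
    apply mul_ne_zero (mul_ne_zero two_ne_zero (sub_ne_zero.mpr hx1))
    intro h; apply hx2; linarith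
  have : 2 * (x - (1 + s * t)) * (x + (s + t)) * (phi E b - (t - 1) * E.trace / 2) = 0 := by
    linear_combination (x * (t - 1) + 2 * t * (s - 1)) * e1 - (t + 1) ^ 2 * e2
      + ((s - 1) * (t - 1) - 2 * x) * e3
  have := (mul_eq_zero.mp this).resolve_left hdet
  linarith

include ha hb hat hbt in
lemma phi_ab (hx1 : x ≠ 1 + s * t) (hx2 : x ≠ -(s + t)) : phi E (a * b) = x * E.trace / 2 := by
  obtain ⟨e1, e2, e3⟩ := eqs ha hb hat hbt P
  have hdet : 2 * (x - (1 + s * t)) * (x + (s + t)) ≠ 0 := by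
    apply mul_ne_zero (mul_ne_zero two_ne_zero (sub_ne_zero.mpr hx1))
    intro h; apply hx2; linarith
  have : 2 * (x - (1 + s * t)) * (x + (s + t)) * (phi E (a * b) - x * E.trace / 2) = 0 := by
    linear_combination (x ^ 2 - 4 * s * t) * e1 - (x * (t - 1) + 2 * t * (s - 1)) * e2
      - (2 * s * (t - 1) + x * (s - 1)) * e3
  have := (mul_eq_zero.mp this).resolve_left hdet
  linarith

include ha hb in
lemma M_pow_succ_succ (k : ℕ) :
    (a * b) ^ (k+2) = zz a b s t * (a * b) ^ (k+1) - (s * t) • (a * b) ^ k := by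
  have hc : Commute (zz a b s t) (a * b) := zz_comm_M a b s t ha hb
  rw [pow_add, pow_two, M_sq a b s t ha hb, mul_sub, mul_smul_comm, mul_one, ← mul_assoc,
    ((hc.pow_right k).eq).symm, mul_assoc, ← pow_succ]

include ha hb hat hbt in
lemma phi_pow (Y : Matrix Ω Ω ℝ) (k : ℕ) :
    phi E ((a * b) ^ k * Y) = rec2 x (s * t) (phi E Y) (phi E (a * b * Y)) k := by
  apply eq_rec2 (y := fun k => phi E ((a * b) ^ k * Y))
  · simp
  · simp
  · intro k
    show phi E ((a * b) ^ (k+2) * Y) = _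
    rw [M_pow_succ_succ ha hb P, sub_mul, phi_sub, smul_mul_assoc, phi_smul, mul_assoc,
      phi_z hat hbt P]

include ha hb hat hbt in
lemma phi_Mk (hx1 : x ≠ 1 + s * t) (hx2 : x ≠ -(s + t)) (k : ℕ) :
    phi E ((a * b) ^ k) = E.trace / 2 * rec2 x (s * t) 2 x k := by
  have := phi_pow ha hb hat hbt P 1 k
  rw [mul_one, mul_one, phi_one P, phi_ab ha hb hat hbt P hx1 hx2] at this
  rw [this, ← rec2_smul]
  congr 1 <;> ring

include ha hb hat hbt in
lemma phi_Mk_a (hx1 : x ≠ 1 + s * t) (hx2 : x ≠ -(s + t)) (k : ℕ) :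
    phi E ((a * b) ^ k * a) = E.trace / 2 * rec2 x (s * t) (s - 1) ((s - 1) * x + s * (t - 1)) k := by
  have := phi_pow ha hb hat hbt P a k
  have h2 : phi E (a * b * a) = (s - 1) * phi E (a * b) + s * phi E b := by
    rw [P.phi_comm_a, haa a s ha, phi_add, phi_smul, phi_smul]
  rw [h2, phi_a ha hb hat hbt P hx1 hx2, phi_b ha hb hat hbt P hx1 hx2,
    phi_ab ha hb hat hbt P hx1 hx2] at this
  rw [this, ← rec2_smul]
  congr 1 <;> ring

include ha hb hat hbt in
lemma phi_Mk_b (hx1 : x ≠ 1 + s * t) (hx2 : x ≠ -(s + t)) (k : ℕ) :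
    phi E ((a * b) ^ k * b) = E.trace / 2 * rec2 x (s * t) (t - 1) ((t - 1) * x + t * (s - 1)) k := by
  have := phi_pow ha hb hat hbt P b k
  have h2 : phi E (a * b * b) = (t - 1) * phi E (a * b) + t * phi E a := by
    rw [mul_assoc, hb, mul_add, mul_smul_comm, mul_smul_comm, mul_one, phi_add, phi_smul, phi_smul]
  rw [h2, phi_a ha hb hat hbt P hx1 hx2, phi_b ha hb hat hbt P hx1 hx2,
    phi_ab ha hb hat hbt P hx1 hx2] at this
  rw [this, ← rec2_smul]
  congr 1 <;> ring

omit P in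
lemma mul_pow_swap (a b : Matrix Ω Ω ℝ) (j : ℕ) : b * (a * b) ^ j = (b * a) ^ j * b := by
  induction j with
  | zero => simp
  | succ j ih => rw [pow_succ, ← mul_assoc, ih, pow_succ, mul_assoc, mul_assoc, mul_assoc]

lemma phi_Nk_b (j : ℕ) : phi E ((b * a) ^ j * b) = phi E ((a * b) ^ j * b) := by
  rw [← mul_pow_swap, ← P.phi_comm_b]

lemma phi_Nk (j : ℕ) : phi E ((b * a) ^ (j+1)) = phi E ((a * b) ^ (j+1)) := by
  rw [pow_succ (b * a), ← mul_assoc, ← mul_pow_swap, mul_assoc, ← P.phi_comm_b, mul_assoc, ← pow_succ]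

/-- `E` commutes with powers of `M`. -/
lemma E_comm_M : Commute E (a * b) := by
  show E * (a * b) = a * b * E
  rw [← mul_assoc, P.hEa, mul_assoc, P.hEb, mul_assoc]

include ha hb hat hbt in
/-- the commutator of `a` and `b` does not vanish on `E`. -/
lemma comm_ne (hd : E.trace ≠ 0) (hx1 : x ≠ 1 + s * t) (hx2 : x ≠ -(s + t)) :
    (b * a - a * b) * E ≠ 0 := by
  intro h0
  have hE0 : E * (b * a - a * b) = 0 := by
    rw [mul_sub, ← mul_assoc, ← mul_assoc, P.hEa, P.hEb, mul_assoc, mul_assoc, P.hEa, P.hEb,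
      ← mul_assoc, ← mul_assoc, ← sub_mul]
    exact h0
  have h1 : phi E ((b * a - a * b) * (a * b - b * a)) = 0 := by
    unfold phi; rw [← mul_assoc, hE0, zero_mul, Matrix.trace_zero]
  have hα := phi_a ha hb hat hbt P hx1 hx2
  have hβ := phi_b ha hb hat hbt P hx1 hx2
  have hγ := phi_ab ha hb hat hbt P hx1 hx2
  have hbb : phi E (b * b) = (t - 1) * phi E b + t * E.trace := by
    rw [hb, phi_add, phi_smul, phi_smul, phi_one P]
  have habb : phi E (a * (b * b)) = (t - 1) * phi E (a * b) + t * phi E a := by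
    rw [hb, mul_add, mul_smul_comm, mul_smul_comm, mul_one, phi_add, phi_smul, phi_smul]
  have hT1' : phi E (a * (a * (b * b))) =
      (s - 1) * ((t - 1) * phi E (a * b) + t * phi E a) + s * ((t - 1) * phi E b + t * E.trace) := by
    rw [haa a s ha, phi_add, phi_smul, phi_smul, habb, hbb]
  have hT1 : phi E (b * a * (a * b)) = phi E (a * (a * (b * b))) := by
    rw [mul_assoc b, ← P.phi_comm_b]; simp only [mul_assoc]
  have hT4 : phi E (a * b * (b * a)) = phi E (a * (a * (b * b))) := by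
    rw [← mul_assoc, P.phi_comm_a]; simp only [mul_assoc]
  have hT3 : phi E (a * b * (a * b)) = x * phi E (a * b) - s * t * E.trace := by
    rw [M_sq a b s t ha hb, phi_sub, phi_smul, phi_z hat hbt P, phi_one P]
  have hT2 : phi E (b * a * (b * a)) = phi E (a * b * (a * b)) := by
    rw [← mul_assoc, P.phi_comm_a]; simp only [mul_assoc]
  have hexp : phi E ((b * a - a * b) * (a * b - b * a)) =
      phi E (b * a * (a * b)) - phi E (b * a * (b * a)) - phi E (a * b * (a * b))
        + phi E (a * b * (b * a)) := by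
    simp only [sub_mul, mul_sub, phi_sub]; ring
  rw [hexp, hT1, hT4, hT2, hT3, hT1', hα, hβ, hγ] at h1
  have : E.trace * ((x - (1 + s * t)) * (x + (s + t))) = 0 := by linear_combination (-1:ℝ) * h1
  rcases mul_eq_zero.mp this with h | h
  · exact hd h
  · rcases mul_eq_zero.mp h with h | h
    · exact hx1 (by linarith)
    · exact hx2 (by linarith)

include ha hb hat hbt in
lemma z_M_E : zz a b s t * (a * b * E) = x • (a * b * E) := by
  rw [← mul_assoc, (zz_comm_M a b s t ha hb), mul_assoc, P.hzE, mul_smul_comm]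

include ha hb hat hbt in
/-- powers of `M` on `E`. -/
lemma Mpow_E (k : ℕ) :
    (a * b) ^ (k+1) * E = al x (s * t) (k+1) • (a * b * E) - (s * t * al x (s * t) k) • E := by
  induction k using Nat.strong_induction_on with
  | _ k ih =>
    match k with
    | 0 => simp [al_one, al_zero]
    | 1 =>
      rw [pow_two, M_sq a b s t ha hb, sub_mul, smul_mul_assoc, one_mul, mul_assoc,
        z_M_E ha hb hat hbt P]
      have h2 : al x (s * t) 2 = x := by
        rw [al_succ_succ, al_one, al_zero]; ring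
      rw [h2, al_one, mul_one]
    | (k+2) =>
      have h1 := ih (k+1) (by omega)
      have h0 := ih k (by omega)
      rw [show k + 2 + 1 = (k+1) + 2 by ring, M_pow_succ_succ ha hb P, sub_mul, mul_assoc, smul_mul_assoc]
      rw [show k + 1 + 1 = k + 2 by ring] at h1 ⊢
      rw [show k + 1 + 2 = k + 3 by ring]
      rw [h1, h0, mul_sub, mul_smul_comm, mul_smul_comm, z_M_E ha hb hat hbt P, P.hzE]
      rw [al_succ_succ x (s*t) (k+1), al_succ_succ x (s*t) k]
      module

include ha hb hat hbt in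
/-- if `M^n` commutes with `a` then `α_n(x) = 0` (nonspecial `x`). -/
lemma al_eq_zero_of_comm (hs : s ≠ 0) (hd : E.trace ≠ 0) (hx1 : x ≠ 1 + s * t) (hx2 : x ≠ -(s + t))
    (n : ℕ) (hn : 1 ≤ n) (hc : a * (a * b) ^ n = (a * b) ^ n * a) : al x (s * t) n = 0 := by
  obtain ⟨k, rfl⟩ : ∃ k, n = k + 1 := ⟨n - 1, by omega⟩
  by_contra hal
  have hME := Mpow_E ha hb hat hbt P k
  -- a * (M^n E) = (M^n E) * a
  have h1 : a * ((a * b) ^ (k+1) * E) = (a * b) ^ (k+1) * E * a := by
    rw [← mul_assoc, hc, mul_assoc, mul_assoc, P.hEa]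
  rw [hME, mul_sub, sub_mul, mul_smul_comm, mul_smul_comm, smul_mul_assoc, smul_mul_assoc, P.hEa] at h1
  have h2 : al x (s * t) (k+1) • (a * (a * b * E)) = al x (s * t) (k+1) • (a * b * E * a) := by
    have := h1
    rwa [sub_left_inj] at this
  have h3 : a * (a * b * E) = a * b * E * a := smul_right_injective _ hal h2
  -- hence a * (a*b - b*a) * E = 0
  have h4 : a * ((a * b - b * a) * E) = 0 := by
    rw [sub_mul, mul_sub, sub_eq_zero]
    rw [mul_assoc (a*b) E a, P.hEa, ← mul_assoc (a*b) a E, mul_assoc a b a] at h3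
    rw [h3]; simp only [mul_assoc]
  have h5 : (a - (s - 1) • (1 : Matrix Ω Ω ℝ)) * (a * ((a * b - b * a) * E)) = 0 := by rw [h4, mul_zero]
  rw [← mul_assoc, ap_mul_a a s ha, smul_mul_assoc, one_mul] at h5
  have h6 : (a * b - b * a) * E = 0 := by
    rcases smul_eq_zero.mp h5 with h | h
    · exact absurd h hs
    · exact h
  apply comm_ne ha hb hat hbt P hd hx1 hx2
  rw [← neg_sub, neg_mul, h6, neg_zero]

include ha hb hat hbt in
/-- `M^n` acts on `E` by the scalar `κ = -P α_{n-1}` when `α_n = 0`. -/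
lemma Mpow_E_scalar (n : ℕ) (hal : al x (s * t) (n+1) = 0) :
    (a * b) ^ (n+1) * E = (-(s * t * al x (s * t) n)) • E := by
  rw [Mpow_E ha hb hat hbt P n, hal, zero_smul, zero_sub, neg_smul]

/-- periodicity of `phi` sequences -/
lemma phi_periodic (n : ℕ) (κ : ℝ) (hκ : (a * b) ^ n * E = κ • E) (X : Matrix Ω Ω ℝ) :
    phi E ((a * b) ^ n * X) = κ * phi E X := by
  unfold phi
  rw [← mul_assoc, ((E_comm_M P).pow_right n).eq, hκ, smul_mul_assoc, Matrix.trace_smul, smul_eq_mul]

end EP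

end Cfsg.Agent.Lib.Helper9.FHPhi
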