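import Mathlib
import Cfsg.Agent.Lib.Helper9.FHPhi

set_option autoImplicit false
set_option linter.unusedSimpArgs false
set_option linter.unusedSectionVars false

namespace Cfsg.Agent.Lib.Helper9.FHEven

open Matrix Cfsg.Agent.Lib.Helper9.FHAlg Cfsg.Agent.Lib.Helper9.FHSeq Cfsg.Agent.Lib.Helper9.FHTrig
  Cfsg.Agent.Lib.Helper9.FHData Cfsg.Agent.Lib.Helper9.FHPhi

variable {Ω : Type*} [Fintype Ω] [DecidableEq Ω]

lemma sum_range_two_mul (f : ℕ → ℝ) (h : ℕ) :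
    ∑ k ∈ Finset.range (2 * h), f k = ∑ j ∈ Finset.range h, (f (2 * j) + f (2 * j + 1)) := by
  induction h with
  | zero => simp
  | succ h ih =>
    rw [show 2 * (h + 1) = 2 * h + 1 + 1 by ring, Finset.sum_range_succ, Finset.sum_range_succ, ih,
      Finset.sum_range_succ]
    ring

variable {m s t : ℕ} {a b : Matrix Ω Ω ℝ} {E : Matrix Ω Ω ℝ} {x : ℝ}

/-- the sum over the family, reindexed over `range m`. -/
lemma sum_fam (F : Fin m ⊕ Fin m → ℝ) (F1 F2 : ℕ → ℝ)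
    (h1 : ∀ k : Fin m, F (Sum.inl k) = F1 k) (h2 : ∀ k : Fin m, F (Sum.inr k) = F2 k) :
    ∑ i, F i = ∑ k ∈ Finset.range m, F1 k + ∑ k ∈ Finset.range m, F2 k := by
  rw [Fintype.sum_sum_type]
  congr 1
  · rw [← Fin.sum_univ_eq_sum_range]; exact Finset.sum_congr rfl (fun k _ => h1 k)
  · rw [← Fin.sum_univ_eq_sum_range]; exact Finset.sum_congr rfl (fun k _ => h2 k)

/-- the trace formula in the even case. -/
theorem even_formula [Nonempty Ω] (D : FHD m s t a b) (h : ℕ) (hm : m = 2 * h)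
    (P : EP a b (s:ℝ) (t:ℝ) E x) (hES : E ∈ spanS m a b) (hd : E.trace ≠ 0)
    (hx1 : x ≠ 1 + (s:ℝ) * t) (hx2 : x ≠ -((s:ℝ) + t)) :
    al x ((s:ℝ) * t) h = 0 ∧
    (4 * ((s:ℝ) * t) - x ^ 2 ≠ 0 →
      2 * (Fintype.card Ω : ℝ) * (4 * ((s:ℝ) * t) - x ^ 2) =
      m * E.trace * ((1 + (s:ℝ) * t - x) * ((s:ℝ) + t + x))) := by
  have hs : (0:ℝ) < s := by have := D.hs; positivity
  have ht : (0:ℝ) < t := by have := D.ht; positivity
  have hh : 1 ≤ h := by have := D.hm; omega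
  have ha := D.ha
  have hb := D.hb
  have hat := D.ha_symm
  have hbt := D.hb_symm
  -- braid
  have hbraid : (a * b) ^ h = (b * a) ^ h := by
    have := D.braid
    rwa [hm, altM_even, altM_even] at this
  have hcomm : a * (a * b) ^ h = (a * b) ^ h * a := by
    rw [hbraid, EP.mul_pow_swap b a h, hbraid]
  have hal : al x ((s:ℝ) * t) h = 0 :=
    EP.al_eq_zero_of_comm ha hb hat hbt P hs.ne' hd hx1 hx2 h hh hcomm
  refine ⟨hal, fun hx4 => ?_⟩
  obtain ⟨h', rfl⟩ : ∃ h', h = h' + 1 := ⟨h - 1, by omega⟩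
  set Pst : ℝ := (s:ℝ) * t with hPst
  have hP0 : Pst ≠ 0 := (mul_pos hs ht).ne'
  set κ : ℝ := -(Pst * al x Pst h') with hκ
  have hκE : (a * b) ^ (h'+1) * E = κ • E := EP.Mpow_E_scalar ha hb hat hbt P h' hal
  have hκ2 : κ ^ 2 = Pst ^ (h'+1) := al_kappa_sq x Pst h' hal
  set d := E.trace with hd'
  -- the three sequences
  set p := rec2 x Pst 2 x with hp
  set g := rec2 x Pst ((s:ℝ) - 1) (((s:ℝ) - 1) * x + s * ((t:ℝ) - 1)) with hg
  set hh' := rec2 x Pst ((t:ℝ) - 1) (((t:ℝ) - 1) * x + t * ((s:ℝ) - 1)) with hhh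
  have hpk : ∀ k, phi E ((a * b) ^ k) = d / 2 * p k := EP.phi_Mk ha hb hat hbt P hx1 hx2
  have hgk : ∀ k, phi E ((a * b) ^ k * a) = d / 2 * g k := EP.phi_Mk_a ha hb hat hbt P hx1 hx2
  have hhk : ∀ k, phi E ((a * b) ^ k * b) = d / 2 * hh' k := EP.phi_Mk_b ha hb hat hbt P hx1 hx2
  have hd2 : d / 2 ≠ 0 := by positivity
  -- periodicity
  have per : ∀ (y : ℕ → ℝ) (Y : Matrix Ω Ω ℝ), (∀ k, phi E ((a * b) ^ k * Y) = d / 2 * y k) →
      y (h'+1) = κ * y 0 ∧ y (h'+1+1) = κ * y 1 := by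
    intro y Y hy
    constructor
    · have := EP.phi_periodic P (h'+1) κ hκE Y
      rw [hy] at this
      have h0 := hy 0
      rw [pow_zero, one_mul] at h0
      rw [h0] at this
      apply mul_left_cancel₀ hd2
      rw [this]; ring
    · have := EP.phi_periodic P (h'+1) κ hκE ((a * b) * Y)
      rw [← mul_assoc, ← pow_succ, hy] at this
      have h0 := hy 1
      rw [pow_one] at h0
      rw [h0] at this
      apply mul_left_cancel₀ hd2
      rw [this]; ring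
  have hp' : ∀ k, phi E ((a * b) ^ k * 1) = d / 2 * p k := by intro k; rw [mul_one]; exact hpk k
  obtain ⟨pp0, pp1⟩ := per p 1 hp'
  obtain ⟨gp0, gp1⟩ := per g a hgk
  obtain ⟨hp0, hp1⟩ := per hh' b hhk
  have sp := rec2_sum_periodic x Pst 2 x κ hP0 hx4 (h'+1) (by omega) hκ2
    (by simpa [hp] using pp0) (by simpa [hp] using pp1)
  have sg := rec2_sum_periodic x Pst ((s:ℝ) - 1) (((s:ℝ) - 1) * x + s * ((t:ℝ) - 1)) κ hP0 hx4 (h'+1)
    (by omega) hκ2 (by simpa [hg] using gp0) (by simpa [hg] using gp1)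
  have sh := rec2_sum_periodic x Pst ((t:ℝ) - 1) (((t:ℝ) - 1) * x + t * ((s:ℝ) - 1)) κ hP0 hx4 (h'+1)
    (by omega) hκ2 (by simpa [hhh] using hp0) (by simpa [hhh] using hp1)
  rw [← hp] at sp
  rw [← hg] at sg
  rw [← hhh] at sh
  -- shifted p-sum
  have sp' : ∑ j ∈ Finset.range (h'+1), p (j+1) ^ 2 / Pst ^ (j+1) =
      ∑ j ∈ Finset.range (h'+1), p j ^ 2 / Pst ^ j := by
    have e1 := Finset.sum_range_succ (fun j => p j ^ 2 / Pst ^ j) (h'+1)
    have e2 := Finset.sum_range_succ' (fun j => p j ^ 2 / Pst ^ j) (h'+1)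
    have e3 : p (h'+1) ^ 2 / Pst ^ (h'+1) = p 0 ^ 2 / Pst ^ 0 := by
      rw [pp0, mul_pow, hκ2]; field_simp
    linarith
  -- the trace formula
  have hn : (0:ℝ) < Fintype.card Ω := D.card_pos
  have key := D.trace_idem E hES P.hEt P.hEE
  rw [sum_fam (m := m) _
    (fun k => (phi E (altM k a b)) ^ 2 / ((Fintype.card Ω : ℝ) * altq k s t))
    (fun k => (phi E (altM (k+1) b a)) ^ 2 / ((Fintype.card Ω : ℝ) * altq (k+1) t s))
    (fun k => rfl) (fun k => rfl)] at key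
  rw [hm, sum_range_two_mul, sum_range_two_mul] at key
  have e1 : ∀ j, (phi E (altM (2 * j) a b)) ^ 2 / ((Fintype.card Ω : ℝ) * altq (2 * j) s t)
      = d ^ 2 / (4 * Fintype.card Ω) * (p j ^ 2 / Pst ^ j) := by
    intro j
    rw [altM_even, altq_even, hpk, ← hPst]; field_simp; ring
  have e2 : ∀ j, (phi E (altM (2 * j + 1) a b)) ^ 2 / ((Fintype.card Ω : ℝ) * altq (2 * j + 1) s t)
      = d ^ 2 / (4 * Fintype.card Ω * s) * (g j ^ 2 / Pst ^ j) := by
    intro j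
    rw [altM_odd, altq_odd, hgk, ← hPst]; field_simp; ring
  have e3 : ∀ j, (phi E (altM (2 * j + 1) b a)) ^ 2 / ((Fintype.card Ω : ℝ) * altq (2 * j + 1) t s)
      = d ^ 2 / (4 * Fintype.card Ω * t) * (hh' j ^ 2 / Pst ^ j) := by
    intro j
    rw [altM_odd, altq_odd, EP.phi_Nk_b P, hhk, mul_comm (t:ℝ) s, ← hPst]; field_simp; ring
  have e4 : ∀ j, (phi E (altM (2 * j + 1 + 1) b a)) ^ 2 / ((Fintype.card Ω : ℝ) * altq (2 * j + 1 + 1) t s)
      = d ^ 2 / (4 * Fintype.card Ω) * (p (j+1) ^ 2 / Pst ^ (j+1)) := by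
    intro j
    rw [show 2 * j + 1 + 1 = 2 * (j+1) by ring, altM_even, altq_even, EP.phi_Nk P, hpk,
      mul_comm (t:ℝ) s, ← hPst]; field_simp; ring
  simp only [e1, e2, e3, e4, Finset.sum_add_distrib, ← Finset.mul_sum] at key
  rw [sp', sp, sg, sh] at key
  -- now algebra
  have hd0 : d ≠ 0 := hd
  have hsne := hs.ne'
  have htne := ht.ne'
  have hnne := hn.ne'
  rw [hm]
  field_simp at key
  push_cast at key ⊢
  apply mul_left_cancel₀ hd0
  apply mul_left_cancel₀ (mul_ne_zero (mul_ne_zero two_ne_zero hsne) htne)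
  rw [hPst] at key ⊢
  linear_combination key

end Cfsg.Agent.Lib.Helper9.FHEven
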