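import Mathlib

set_option autoImplicit false

namespace Cfsg.Agent.Lib.Helper9.FHNum

open Real

/-- from the two multiplicity formulas at `x` and `-x`, `x` is rational. -/
lemma rat_of_pair (s t : ℕ) (hs : 2 ≤ s) (ht : 2 ≤ t) (x : ℝ) (A Bp Bm : ℕ)
    (hBp : 0 < Bp) (hBm : 0 < Bm)
    (hp : (A:ℝ) * (4 * ((s:ℝ) * t) - x ^ 2) = Bp * ((1 + (s:ℝ) * t - x) * ((s:ℝ) + t + x)))
    (hm : (A:ℝ) * (4 * ((s:ℝ) * t) - x ^ 2) = Bm * ((1 + (s:ℝ) * t + x) * ((s:ℝ) + t - x))) :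
    ∃ r : ℚ, x = r := by
  have hs' : (2:ℝ) ≤ s := by exact_mod_cast hs
  have ht' : (2:ℝ) ≤ t := by exact_mod_cast ht
  have hBp' : (0:ℝ) < Bp := by exact_mod_cast hBp
  have hBm' : (0:ℝ) < Bm := by exact_mod_cast hBm
  set c0 : ℝ := (1 + (s:ℝ) * t) * ((s:ℝ) + t) with hc0
  set c1 : ℝ := ((s:ℝ) - 1) * ((t:ℝ) - 1) with hc1
  have hc1pos : 0 < c1 := by rw [hc1]; apply mul_pos <;> linarith
  have hc0gt : 4 * ((s:ℝ) * t) < c0 := by
    rw [hc0]; nlinarith [mul_pos (by linarith : (0:ℝ) < s) (by linarith : (0:ℝ) < t)]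
  -- step 1: x^2 rational
  have e1 : x ^ 2 * (2 * Bp * Bm - A * (Bp + Bm)) = 2 * Bp * Bm * c0 - 4 * ((s:ℝ) * t) * (A * (Bp + Bm)) := by
    rw [hc0]; linear_combination (Bm:ℝ) * hp + (Bp:ℝ) * hm
  have hne : (2 * (Bp:ℝ) * Bm - A * (Bp + Bm)) ≠ 0 := by
    intro h0
    rw [h0, mul_zero] at e1
    have h1 : (A:ℝ) * (Bp + Bm) = 2 * Bp * Bm := by linarith
    rw [h1] at e1
    have : 2 * (Bp:ℝ) * Bm * (c0 - 4 * ((s:ℝ) * t)) = 0 := by linarith
    rcases mul_eq_zero.mp this with h | h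
    · have : 0 < 2 * (Bp:ℝ) * Bm := by positivity
      linarith
    · linarith
  have hx2 : x ^ 2 = (2 * Bp * Bm * c0 - 4 * ((s:ℝ) * t) * (A * (Bp + Bm))) / (2 * Bp * Bm - A * (Bp + Bm)) := by
    rw [eq_div_iff hne]; exact e1
  -- step 2
  have e2 : 2 * (Bp:ℝ) * Bm * c1 * x = A * (4 * ((s:ℝ) * t) - x ^ 2) * (Bm - Bp) := by
    rw [hc1]; linear_combination (-(Bm:ℝ)) * hp + (Bp:ℝ) * hm
  have hne2 : 2 * (Bp:ℝ) * Bm * c1 ≠ 0 := by positivity
  have hx : x = A * (4 * ((s:ℝ) * t) - x ^ 2) * (Bm - Bp) / (2 * (Bp:ℝ) * Bm * c1) := by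
    rw [eq_div_iff hne2]; linarith
  -- rationality
  have hc0q : c0 = (((1 + (s:ℚ) * t) * ((s:ℚ) + t) : ℚ) : ℝ) := by rw [hc0]; push_cast; ring
  have hc1q : c1 = ((((s:ℚ) - 1) * ((t:ℚ) - 1) : ℚ) : ℝ) := by rw [hc1]; push_cast; ring
  obtain ⟨r2, hr2⟩ : ∃ r2 : ℚ, x ^ 2 = r2 := by
    refine ⟨(2 * Bp * Bm * ((1 + (s:ℚ) * t) * ((s:ℚ) + t)) - 4 * ((s:ℚ) * t) * (A * (Bp + Bm))) /
      (2 * Bp * Bm - A * (Bp + Bm)), ?_⟩
    rw [hx2, hc0q]; push_cast; ring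
  refine ⟨A * (4 * ((s:ℚ) * t) - r2) * (Bm - Bp) / (2 * Bp * Bm * (((s:ℚ) - 1) * ((t:ℚ) - 1))), ?_⟩
  rw [hx, hr2, hc1q]; push_cast; ring

/-- rationality of `cos (2π/n)` forces `n ∈ {2,3,4,6}` (for `n ≥ 2`). -/
lemma niven_two_div (n : ℕ) (hn : 2 ≤ n) (h : ∃ q : ℚ, cos (2 * π / n) = q) :
    n = 2 ∨ n = 3 ∨ n = 4 ∨ n = 6 := by
  have hn' : (2:ℚ) ≤ n := by exact_mod_cast hn
  have hnpos : (0:ℚ) < n := by linarith
  have e : (2 * π / n : ℝ) = ((2 / n : ℚ) : ℝ) * π := by push_cast; ring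
  rw [e] at h
  have hb : (2 / n : ℚ) ∈ Set.Icc (0:ℚ) 1 := by
    constructor
    · positivity
    · rw [div_le_one hnpos]; exact hn'
  have := niven_angle_div_pi_eq h hb
  simp only [Set.mem_insert_iff, Set.mem_singleton_iff] at this
  have hnq : (n:ℚ) ≠ 0 := hnpos.ne'
  rcases this with h0 | h1 | h2 | h3 | h4
  · rw [div_eq_zero_iff] at h0; rcases h0 with h0 | h0
    · norm_num at h0
    · exact absurd h0 hnq
  · right; right; right
    have : (n:ℚ) = 6 := by field_simp at h1; linarith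
    exact_mod_cast this
  · right; right; left
    have : (n:ℚ) = 4 := by field_simp at h2; linarith
    exact_mod_cast this
  · right; left
    have : (n:ℚ) = 3 := by field_simp at h3; linarith
    exact_mod_cast this
  · left
    have : (n:ℚ) = 2 := by field_simp at h4; linarith
    exact_mod_cast this

/-- even endgame -/
lemma even_end (Q : ℝ) (hQ : 0 < Q) (P : ℚ) (hP : Q ^ 2 = P) (h : ℕ) (hh : 5 ≤ h)
    (hrat : ∀ j : ℕ, 1 ≤ j → j < h → ∃ r : ℚ, 2 * Q * cos (j * π / h) = r) : False := by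
  obtain ⟨r1, hr1⟩ := hrat 1 le_rfl (by omega)
  have hPpos : (0:ℝ) < P := by rw [← hP]; positivity
  rw [Nat.cast_one, one_mul] at hr1
  have hcos : cos (2 * π / h) = 2 * cos (π / h) ^ 2 - 1 := by
    rw [← cos_two_mul]; congr 1; ring
  have hq : ∃ q : ℚ, cos (2 * π / h) = q := by
    refine ⟨r1 ^ 2 / (2 * P) - 1, ?_⟩
    rw [hcos]
    have : cos (π / h) = r1 / (2 * Q) := by
      rw [← hr1]; field_simp
    rw [this, div_pow, mul_pow, hP]; push_cast; ring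
  rcases niven_two_div h (by omega) hq with h2 | h3 | h4 | h6
  · omega
  · omega
  · omega
  · subst h6
    obtain ⟨r2, hr2⟩ := hrat 2 (by omega) (by omega)
    have c1 : cos (π / (6:ℕ)) = √3 / 2 := by
      rw [show (π / (6:ℕ) : ℝ) = π / 6 by push_cast; ring]; exact cos_pi_div_six
    have c2 : cos ((2:ℕ) * π / (6:ℕ)) = 1 / 2 := by
      rw [show ((2:ℕ) * π / (6:ℕ) : ℝ) = π / 3 by push_cast; ring]; exact cos_pi_div_three
    rw [c1] at hr1
    rw [c2] at hr2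
    have hQ2 : Q = r2 := by linarith
    have hr2pos : (0:ℝ) < r2 := by rw [← hQ2]; exact hQ
    have : √3 = r1 / r2 := by
      rw [eq_div_iff hr2pos.ne', ← hr1, ← hQ2]; ring
    have hirr : Irrational (√3) := by
      have := Nat.Prime.irrational_sqrt (p := 3) (by norm_num)
      simpa using this
    exact hirr ⟨r1 / r2, by push_cast; exact this.symm⟩

/-- odd endgame -/
lemma odd_end (s : ℕ) (hs : 2 ≤ s) (m : ℕ) (hm : 5 ≤ m) (hodd : Odd m) (A B : ℕ) (hB : 0 < B)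
    (x : ℝ) (hx : x = 2 * s * cos (2 * π / m))
    (hf : (A:ℝ) * (4 * ((s:ℝ) * s) - x ^ 2) = B * ((1 + (s:ℝ) * s - x) * ((s:ℝ) + s + x))) : False := by
  have hs' : (2:ℝ) ≤ s := by exact_mod_cast hs
  have hB' : (0:ℝ) < B := by exact_mod_cast hB
  have hcosgt : -1 < cos (2 * π / m) := by
    have h1 : 0 < 2 * π / m := by positivity
    have h2 : 2 * π / m < π := by
      rw [div_lt_iff₀ (by positivity)]
      have : (5:ℝ) ≤ m := by exact_mod_cast hm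
      nlinarith [pi_pos]
    rw [← cos_pi]
    exact cos_lt_cos_of_nonneg_of_le_pi h1.le le_rfl h2
  have h2sx : (s:ℝ) + s + x ≠ 0 := by
    rw [hx]; intro h0
    have : (s:ℝ) * (1 + cos (2 * π / m)) = 0 := by linarith
    rcases mul_eq_zero.mp this with h | h
    · linarith
    · linarith
  have e1 : (A:ℝ) * (2 * s - x) = B * (1 + (s:ℝ) * s - x) := by
    apply mul_right_cancel₀ h2sx
    linear_combination hf
  have hAB : (A:ℝ) ≠ B := by
    intro hab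
    rw [hab] at e1
    have := mul_left_cancel₀ hB'.ne' e1
    nlinarith
  have hxq : x = (B * (1 + (s:ℝ) * s) - 2 * s * A) / (B - A) := by
    rw [eq_div_iff (sub_ne_zero.mpr (Ne.symm hAB))]; linarith
  have hq : ∃ q : ℚ, cos (2 * π / m) = q := by
    refine ⟨(B * (1 + (s:ℚ) * s) - 2 * s * A) / (B - A) / (2 * s), ?_⟩
    have : cos (2 * π / m) = x / (2 * s) := by rw [hx]; field_simp
    rw [this, hxq]; push_cast; ring
  obtain ⟨k, hk⟩ := hodd
  rcases niven_two_div m (by omega) hq with h2 | h3 | h4 | h6 <;> omega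

end Cfsg.Agent.Lib.Helper9.FHNum
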