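import Mathlib

set_option autoImplicit false

namespace Cfsg.Agent.Lib.Helper9.FHSpec

open Matrix Polynomial

variable {n : Type*} [Fintype n] [DecidableEq n]

/-- functional calculus of a symmetric real matrix, by hand. -/
noncomputable def fz {z : Matrix n n ℝ} (hz : z.IsHermitian) (f : ℝ → ℝ) : Matrix n n ℝ :=
  Unitary.conjStarAlgAut ℝ _ hz.eigenvectorUnitary (Matrix.diagonal (f ∘ hz.eigenvalues))

variable {z : Matrix n n ℝ} (hz : z.IsHermitian)

lemma fz_mul (f g : ℝ → ℝ) : fz hz (fun y => f y * g y) = fz hz f * fz hz g := by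
  unfold fz
  rw [← map_mul, Matrix.diagonal_mul_diagonal]
  rfl

lemma fz_one : fz hz (fun _ => 1) = 1 := by
  unfold fz
  have : (Matrix.diagonal ((fun _ : ℝ => (1:ℝ)) ∘ hz.eigenvalues)) = 1 := by
    ext i j; simp [Matrix.diagonal, Matrix.one_apply]
  rw [this, map_one]

lemma fz_zero : fz hz (fun _ => 0) = 0 := by
  unfold fz
  have : (Matrix.diagonal ((fun _ : ℝ => (0:ℝ)) ∘ hz.eigenvalues)) = 0 := by
    ext i j; simp [Matrix.diagonal]
  rw [this, map_zero]

lemma fz_add (f g : ℝ → ℝ) : fz hz (fun y => f y + g y) = fz hz f + fz hz g := by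
  unfold fz
  rw [← map_add, Matrix.diagonal_add]
  rfl

lemma fz_smul (c : ℝ) (f : ℝ → ℝ) : fz hz (fun y => c * f y) = c • fz hz f := by
  unfold fz
  rw [← map_smul]
  congr 1
  ext i j
  simp [Matrix.diagonal, Matrix.smul_apply]

lemma fz_id : fz hz (fun y => y) = z := by
  unfold fz
  conv_rhs => rw [hz.spectral_theorem]
  rfl

lemma fz_congr (f g : ℝ → ℝ) (h : ∀ i, f (hz.eigenvalues i) = g (hz.eigenvalues i)) :
    fz hz f = fz hz g := by
  unfold fz
  congr 2
  ext i
  exact h i

lemma fz_pow (f : ℝ → ℝ) (k : ℕ) : fz hz (fun y => f y ^ k) = fz hz f ^ k := by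
  induction k with
  | zero => simp [fz_one]
  | succ k ih => 
    have : (fun y => f y ^ (k+1)) = fun y => f y ^ k * f y := by ext y; rw [pow_succ]
    rw [this, fz_mul, ih, pow_succ]

lemma fz_poly (p : ℝ[X]) : aeval z p = fz hz (fun y => p.eval y) := by
  induction p using Polynomial.induction_on' with
  | add p q hp hq =>
    rw [map_add, hp, hq, ← fz_add]
    congr 1; ext y; simp
  | monomial k c =>
    rw [aeval_monomial]
    have : (fun y => (monomial k c).eval y) = fun y => c * (fun y => y) y ^ k := by
      ext y; simp [eval_monomial]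
    rw [this, fz_smul, fz_pow, fz_id, Algebra.algebraMap_eq_smul_one, smul_mul_assoc, one_mul]

lemma fz_transpose (f : ℝ → ℝ) : (fz hz f)ᵀ = fz hz f := by
  have h1 : star (fz hz f) = fz hz f := by
    unfold fz
    rw [← map_star]
    congr 1
    rw [Matrix.star_eq_conjTranspose, Matrix.diagonal_conjTranspose]
    congr 1
  rwa [Matrix.star_eq_conjTranspose, Matrix.conjTranspose_eq_transpose_of_trivial] at h1

lemma trace_fz (f : ℝ → ℝ) : (fz hz f).trace = ∑ i, f (hz.eigenvalues i) := by
  unfold fz
  rw [Unitary.conjStarAlgAut_apply, Matrix.trace_mul_cycle, Unitary.coe_star_mul_self, one_mul,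
    Matrix.trace_diagonal]
  rfl

/-- spectral projection -/
noncomputable def specProj (x : ℝ) : Matrix n n ℝ := fz hz (fun y => if y = x then 1 else 0)

lemma specProj_idem (x : ℝ) : specProj hz x * specProj hz x = specProj hz x := by
  unfold specProj
  rw [← fz_mul]
  congr 1; ext y; split_ifs <;> simp

lemma specProj_transpose (x : ℝ) : (specProj hz x)ᵀ = specProj hz x := fz_transpose hz _

lemma z_mul_specProj (x : ℝ) : z * specProj hz x = x • specProj hz x := by
  unfold specProj
  have h1 : z * fz hz (fun y => if y = x then 1 else 0)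
      = fz hz (fun y => y) * fz hz (fun y => if y = x then 1 else 0) := by rw [fz_id]
  rw [h1, ← fz_mul, ← fz_smul]
  congr 1; ext y; split_ifs with h <;> simp [h]

lemma trace_specProj (x : ℝ) :
    (specProj hz x).trace = ((Finset.univ.filter (fun i => hz.eigenvalues i = x)).card : ℝ) := by
  unfold specProj
  rw [trace_fz, Finset.sum_ite, Finset.sum_const_zero, add_zero, Finset.sum_const, nsmul_eq_mul, mul_one]

lemma specProj_eq_aeval (x : ℝ) : ∃ p : ℝ[X], specProj hz x = aeval z p := by
  classical
  let S : Finset ℝ := Finset.univ.image hz.eigenvalues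
  refine ⟨Lagrange.interpolate S id (fun y => if y = x then 1 else 0), ?_⟩
  rw [fz_poly hz]
  unfold specProj
  apply fz_congr
  intro i
  have hi : hz.eigenvalues i ∈ S := Finset.mem_image_of_mem _ (Finset.mem_univ i)
  have := Lagrange.eval_interpolate_at_node (s := S) (v := id) (fun y => if y = x then (1:ℝ) else 0)
    (Set.injOn_id _) hi
  simpa using this.symm

lemma specProj_ne_zero_iff (x : ℝ) : specProj hz x ≠ 0 ↔ ∃ i, hz.eigenvalues i = x := by
  constructor
  · intro h
    by_contra hne
    push Not at hne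
    apply h
    unfold specProj
    rw [← fz_zero hz]
    apply fz_congr
    intro i; simp [hne i]
  · rintro ⟨i, hi⟩ h0
    have := trace_specProj hz x
    rw [h0, Matrix.trace_zero] at this
    have hpos : 0 < (Finset.univ.filter (fun i => hz.eigenvalues i = x)).card :=
      Finset.card_pos.mpr ⟨i, by simp [hi]⟩
    have : ((Finset.univ.filter (fun i => hz.eigenvalues i = x)).card : ℝ) = 0 := this.symm
    exact absurd (by exact_mod_cast this) hpos.ne'

/-- the set of eigenvalues -/
noncomputable def spec : Finset ℝ := Finset.univ.image hz.eigenvalues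

lemma mem_spec (x : ℝ) : x ∈ spec hz ↔ ∃ i, hz.eigenvalues i = x := by
  simp [spec]

/-- the squarefree annihilating polynomial -/
lemma aeval_prod_spec : aeval z (∏ y ∈ spec hz, (X - C y)) = 0 := by
  rw [fz_poly hz, ← fz_zero hz]
  apply fz_congr
  intro i
  rw [eval_prod]
  apply Finset.prod_eq_zero (i := hz.eigenvalues i)
  · exact (mem_spec hz _).mpr ⟨i, rfl⟩
  · simp

end Cfsg.Agent.Lib.Helper9.FHSpec
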