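import Mathlib
import Cfsg.Agent.Lib.Helper9.FHData
import Cfsg.Agent.Lib.Helper9.FHSpec

set_option autoImplicit false
set_option linter.unusedSimpArgs false
set_option linter.unusedSectionVars false

namespace Cfsg.Agent.Lib.Helper9.FHOcc

open Matrix Polynomial Cfsg.Agent.Lib.Helper9.FHAlg Cfsg.Agent.Lib.Helper9.FHData
  Cfsg.Agent.Lib.Helper9.FHSpec

variable {Ω : Type*} [Fintype Ω] [DecidableEq Ω]

/-- the word-length filtration -/
def Fil (a b : Matrix Ω Ω ℝ) (i : ℕ) : Submodule ℝ (Matrix Ω Ω ℝ) :=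
  Submodule.span ℝ {X | ∃ j ≤ i, X = altM j a b ∨ X = altM j b a}

lemma Fil_mono (a b : Matrix Ω Ω ℝ) {i i' : ℕ} (h : i ≤ i') : Fil a b i ≤ Fil a b i' := by
  apply Submodule.span_mono
  rintro X ⟨j, hj, hX⟩
  exact ⟨j, le_trans hj h, hX⟩

lemma altM_ab_mem_Fil (a b : Matrix Ω Ω ℝ) {i j : ℕ} (h : j ≤ i) : altM j a b ∈ Fil a b i :=
  Submodule.subset_span ⟨j, h, Or.inl rfl⟩

lemma altM_ba_mem_Fil (a b : Matrix Ω Ω ℝ) {i j : ℕ} (h : j ≤ i) : altM j b a ∈ Fil a b i :=
  Submodule.subset_span ⟨j, h, Or.inr rfl⟩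

lemma Fil_swap (a b : Matrix Ω Ω ℝ) (i : ℕ) : Fil a b i = Fil b a i := by
  unfold Fil
  congr 1
  ext X
  constructor
  · rintro ⟨j, hj, h | h⟩
    · exact ⟨j, hj, Or.inr h⟩
    · exact ⟨j, hj, Or.inl h⟩
  · rintro ⟨j, hj, h | h⟩
    · exact ⟨j, hj, Or.inr h⟩
    · exact ⟨j, hj, Or.inl h⟩

variable {a b : Matrix Ω Ω ℝ} {s t : ℝ}

lemma a_mul_Fil (ha : a * a = (s - 1) • a + s • (1 : Matrix Ω Ω ℝ)) (i : ℕ) (X : Matrix Ω Ω ℝ)
    (hX : X ∈ Fil a b i) : a * X ∈ Fil a b (i+1) := by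
  induction hX using Submodule.span_induction with
  | mem X hX =>
    obtain ⟨j, hj, rfl | rfl⟩ := hX
    · rcases j with _ | j
      · have := altM_ab_mem_Fil a b (i := i+1) (j := 1) (by omega)
        simpa [altM_succ] using this
      · rw [altM_succ, haa a s ha]
        refine Submodule.add_mem _ (Submodule.smul_mem _ _ ?_) (Submodule.smul_mem _ _ ?_)
        · rw [← altM_succ]; exact altM_ab_mem_Fil a b (by omega)
        · exact altM_ba_mem_Fil a b (by omega)
    · rw [← altM_succ]; exact altM_ab_mem_Fil a b (by omega)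
  | zero => simp
  | add X Y _ _ hX hY => rw [mul_add]; exact Submodule.add_mem _ hX hY
  | smul c X _ hX => rw [mul_smul_comm]; exact Submodule.smul_mem _ _ hX

lemma b_mul_Fil (hb : b * b = (t - 1) • b + t • (1 : Matrix Ω Ω ℝ)) (i : ℕ) (X : Matrix Ω Ω ℝ)
    (hX : X ∈ Fil a b i) : b * X ∈ Fil a b (i+1) := by
  rw [Fil_swap] at hX ⊢
  exact a_mul_Fil hb i X hX

lemma zz_mul_Fil (ha : a * a = (s - 1) • a + s • (1 : Matrix Ω Ω ℝ))
    (hb : b * b = (t - 1) • b + t • (1 : Matrix Ω Ω ℝ)) (i : ℕ) (X : Matrix Ω Ω ℝ)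
    (hX : X ∈ Fil a b i) : zz a b s t * X ∈ Fil a b (i+2) := by
  rw [zz_expand]
  simp only [add_mul, sub_mul, smul_mul_assoc, one_mul, mul_assoc]
  have h1 : a * (b * X) ∈ Fil a b (i+2) := a_mul_Fil ha _ _ (b_mul_Fil hb _ _ hX)
  have h2 : b * (a * X) ∈ Fil a b (i+2) := b_mul_Fil hb _ _ (a_mul_Fil ha _ _ hX)
  have h3 : b * X ∈ Fil a b (i+2) := Fil_mono a b (by omega) (b_mul_Fil hb _ _ hX)
  have h4 : a * X ∈ Fil a b (i+2) := Fil_mono a b (by omega) (a_mul_Fil ha _ _ hX)
  have h5 : X ∈ Fil a b (i+2) := Fil_mono a b (by omega) hX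
  exact Submodule.add_mem _ (Submodule.sub_mem _ (Submodule.sub_mem _ (Submodule.add_mem _ h1 h2)
    (Submodule.smul_mem _ _ h3)) (Submodule.smul_mem _ _ h4)) (Submodule.smul_mem _ _ h5)

lemma zz_pow_mem_Fil (ha : a * a = (s - 1) • a + s • (1 : Matrix Ω Ω ℝ))
    (hb : b * b = (t - 1) • b + t • (1 : Matrix Ω Ω ℝ)) (k : ℕ) :
    zz a b s t ^ k ∈ Fil a b (2 * k) := by
  induction k with
  | zero =>
    have := altM_ab_mem_Fil a b (i := 0) (j := 0) le_rfl
    simpa using this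
  | succ k ih =>
    rw [pow_succ', show 2 * (k+1) = 2 * k + 2 by ring]
    exact zz_mul_Fil ha hb _ _ ih

/-- `z * A_{2k} - A_{2k+2} ∈ Fil (2k+1)` for `k ≥ 1`. -/
lemma zz_mul_altM_sub (ha : a * a = (s - 1) • a + s • (1 : Matrix Ω Ω ℝ))
    (hb : b * b = (t - 1) • b + t • (1 : Matrix Ω Ω ℝ)) (k : ℕ) (hk : 1 ≤ k) :
    zz a b s t * altM (2 * k) a b - altM (2 * k + 2) a b ∈ Fil a b (2 * k + 1) := by
  have hA : altM (2 * k) a b ∈ Fil a b (2 * k) := altM_ab_mem_Fil a b le_rfl
  have e1 : a * (b * altM (2 * k) a b) = altM (2 * k + 2) a b := by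
    rw [altM_add_two, mul_assoc]
  have h2 : a * altM (2 * k) a b ∈ Fil a b (2 * k) := by
    obtain ⟨j, hj⟩ : ∃ j, 2 * k = j + 1 := ⟨2 * k - 1, by omega⟩
    rw [hj, altM_succ, haa a s ha]
    refine Submodule.add_mem _ (Submodule.smul_mem _ _ ?_) (Submodule.smul_mem _ _ ?_)
    · rw [← altM_succ]; exact altM_ab_mem_Fil a b le_rfl
    · exact altM_ba_mem_Fil a b (by omega)
  have h2' : b * (a * altM (2 * k) a b) ∈ Fil a b (2 * k + 1) := b_mul_Fil hb _ _ h2
  have h3 : b * altM (2 * k) a b ∈ Fil a b (2 * k + 1) := b_mul_Fil hb _ _ hA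
  have h4 : a * altM (2 * k) a b ∈ Fil a b (2 * k + 1) := Fil_mono a b (by omega) h2
  have h5 : altM (2 * k) a b ∈ Fil a b (2 * k + 1) := Fil_mono a b (by omega) hA
  have key : zz a b s t * altM (2 * k) a b - altM (2 * k + 2) a b =
      b * (a * altM (2 * k) a b) - (s - 1) • (b * altM (2 * k) a b)
      - (t - 1) • (a * altM (2 * k) a b) + ((s - 1) * (t - 1)) • altM (2 * k) a b := by
    rw [zz_expand]
    simp only [add_mul, sub_mul, smul_mul_assoc, one_mul, mul_assoc]
    rw [e1]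
    module
  rw [key]
  exact Submodule.add_mem _ (Submodule.sub_mem _ (Submodule.sub_mem _ h2'
    (Submodule.smul_mem _ _ h3)) (Submodule.smul_mem _ _ h4)) (Submodule.smul_mem _ _ h5)

lemma zz_swap (a b : Matrix Ω Ω ℝ) (s t : ℝ) : zz b a t s = zz a b s t := by
  rw [zz_expand, zz_expand]
  module

/-- leading term of `z^k`. -/
lemma zz_pow_lead (ha : a * a = (s - 1) • a + s • (1 : Matrix Ω Ω ℝ))
    (hb : b * b = (t - 1) • b + t • (1 : Matrix Ω Ω ℝ)) (k : ℕ) (hk : 1 ≤ k) :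
    zz a b s t ^ k - altM (2 * k) a b - altM (2 * k) b a ∈ Fil a b (2 * k - 1) := by
  induction k with
  | zero => omega
  | succ k ih =>
    rcases Nat.eq_zero_or_pos k with h0 | hpos
    · subst h0
      rw [pow_one, zz_expand]
      have e1 : altM (2 * (0+1)) a b = a * b := by simp [altM_succ]
      have e2 : altM (2 * (0+1)) b a = b * a := by simp [altM_succ]
      rw [e1, e2]
      have : a * b + b * a - (s - 1) • b - (t - 1) • a + ((s - 1) * (t - 1)) • (1 : Matrix Ω Ω ℝ)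
          - a * b - b * a = - (s - 1) • b - (t - 1) • a + ((s - 1) * (t - 1)) • (1 : Matrix Ω Ω ℝ) := by
        module
      rw [this]
      have hb1 : b ∈ Fil a b (2 * (0+1) - 1) := by
        have := altM_ba_mem_Fil a b (i := 1) (j := 1) le_rfl
        simpa [altM_succ] using this
      have ha1 : a ∈ Fil a b (2 * (0+1) - 1) := by
        have := altM_ab_mem_Fil a b (i := 1) (j := 1) le_rfl
        simpa [altM_succ] using this
      have h1 : (1 : Matrix Ω Ω ℝ) ∈ Fil a b (2 * (0+1) - 1) := by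
        have := altM_ab_mem_Fil a b (i := 1) (j := 0) (by omega)
        simpa using this
      exact Submodule.add_mem _ (Submodule.sub_mem _ (Submodule.smul_mem _ _ hb1)
        (Submodule.smul_mem _ _ ha1)) (Submodule.smul_mem _ _ h1)
    · have ih' := ih hpos
      have h1 : zz a b s t * (zz a b s t ^ k - altM (2 * k) a b - altM (2 * k) b a)
          ∈ Fil a b (2 * k + 1) := by
        have := zz_mul_Fil ha hb _ _ ih'
        rwa [show 2 * k - 1 + 2 = 2 * k + 1 by omega] at this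
      have h2 := zz_mul_altM_sub ha hb k hpos
      have h3 : zz a b s t * altM (2 * k) b a - altM (2 * k + 2) b a ∈ Fil a b (2 * k + 1) := by
        have := zz_mul_altM_sub (a := b) (b := a) hb ha k hpos
        rwa [zz_swap, Fil_swap] at this
      rw [show 2 * (k+1) - 1 = 2 * k + 1 by omega, show 2 * (k+1) = 2 * k + 2 by ring, pow_succ']
      have : zz a b s t * zz a b s t ^ k - altM (2 * k + 2) a b - altM (2 * k + 2) b a
          = zz a b s t * (zz a b s t ^ k - altM (2 * k) a b - altM (2 * k) b a)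
            + (zz a b s t * altM (2 * k) a b - altM (2 * k + 2) a b)
            + (zz a b s t * altM (2 * k) b a - altM (2 * k + 2) b a) := by
        rw [mul_sub, mul_sub]; abel
      rw [this]
      exact Submodule.add_mem _ (Submodule.add_mem _ h1 h2) h3

section orth

variable {m s t : ℕ} {a b : Matrix Ω Ω ℝ} (D : FHD m s t a b)
include D

lemma tr_ab_ab (i j : ℕ) (hi : i < m) (hj : j < m) :
    (altM i a b * (altM j a b)ᵀ).trace = if i = j then (Fintype.card Ω : ℝ) * altq i s t else 0 := by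
  have := D.orth (Sum.inl ⟨i, hi⟩) (Sum.inl ⟨j, hj⟩)
  simpa [fam, famq] using this

lemma tr_ab_ba (i j : ℕ) (hi : i < m) (hj : j < m) :
    (altM i a b * (altM (j+1) b a)ᵀ).trace = 0 := by
  have := D.orth (Sum.inl ⟨i, hi⟩) (Sum.inr ⟨j, hj⟩)
  simpa [fam, famq] using this

lemma tr_ba_ab (i j : ℕ) (hi : i < m) (hj : j < m) :
    (altM (i+1) b a * (altM j a b)ᵀ).trace = 0 := by
  have := D.orth (Sum.inr ⟨i, hi⟩) (Sum.inl ⟨j, hj⟩)
  simpa [fam, famq] using this

lemma tr_ba_ba (i j : ℕ) (hi : i < m) (hj : j < m) :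
    (altM (i+1) b a * (altM (j+1) b a)ᵀ).trace =
      if i = j then (Fintype.card Ω : ℝ) * altq (i+1) t s else 0 := by
  have := D.orth (Sum.inr ⟨i, hi⟩) (Sum.inr ⟨j, hj⟩)
  simpa [fam, famq] using this

/-- the functional `ψ_k` vanishes on `Fil (2k-1)`. -/
lemma psi_vanish (k : ℕ) (hk1 : 1 ≤ k) (hk : 2 * k ≤ m) (X : Matrix Ω Ω ℝ)
    (hX : X ∈ Fil a b (2 * k - 1)) : (X * (altM (2 * k) a b)ᵀ).trace = 0 := by
  induction hX using Submodule.span_induction with
  | mem X hX =>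
    obtain ⟨j, hj, rfl | rfl⟩ := hX
    · rcases Nat.lt_or_ge (2 * k) m with h | h
      · rw [tr_ab_ab D j (2 * k) (by omega) h, if_neg (by omega)]
      · have hm : 2 * k = m := by omega
        rw [hm, D.braid]
        obtain ⟨m', rfl⟩ : ∃ m', m = m' + 1 := ⟨m - 1, by omega⟩
        exact tr_ab_ba D j m' (by omega) (by omega)
    · rcases Nat.eq_zero_or_pos j with h0 | hpos
      · subst h0
        have e : altM 0 b a = altM 0 a b := rfl
        rw [e]
        rcases Nat.lt_or_ge (2 * k) m with h | h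
        · rw [tr_ab_ab D 0 (2 * k) (by omega) h, if_neg (by omega)]
        · have hm : 2 * k = m := by omega
          rw [hm, D.braid]
          obtain ⟨m', rfl⟩ : ∃ m', m = m' + 1 := ⟨m - 1, by omega⟩
          exact tr_ab_ba D 0 m' (by omega) (by omega)
      · obtain ⟨j', rfl⟩ : ∃ j', j = j' + 1 := ⟨j - 1, by omega⟩
        rcases Nat.lt_or_ge (2 * k) m with h | h
        · exact tr_ba_ab D j' (2 * k) (by omega) h
        · have hm : 2 * k = m := by omega
          rw [hm, D.braid]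
          obtain ⟨m', rfl⟩ : ∃ m', m = m' + 1 := ⟨m - 1, by omega⟩
          rw [tr_ba_ba D j' m' (by omega) (by omega), if_neg (by omega)]
  | zero => simp
  | add X Y _ _ hX hY => rw [add_mul, Matrix.trace_add, hX, hY, add_zero]
  | smul c X _ hX => rw [smul_mul_assoc, Matrix.trace_smul, hX, smul_zero]

lemma psi_lead_pos [Nonempty Ω] (k : ℕ) (hk : 2 * k ≤ m) :
    0 < (altM (2 * k) a b * (altM (2 * k) a b)ᵀ).trace := by
  have hs : (0:ℝ) < s := by have := D.hs; positivity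
  have ht : (0:ℝ) < t := by have := D.ht; positivity
  have hn := D.card_pos
  rcases Nat.lt_or_ge (2 * k) m with h | h
  · rw [tr_ab_ab D _ _ h h, if_pos rfl]
    exact mul_pos hn (altq_pos _ _ _ hs ht)
  · have hm : 2 * k = m := by omega
    have hm2 := D.hm
    rw [hm, D.braid]
    obtain ⟨m', rfl⟩ : ∃ m', m = m' + 1 := ⟨m - 1, by omega⟩
    rw [tr_ba_ba D m' m' (by omega) (by omega), if_pos rfl]
    exact mul_pos hn (altq_pos _ _ _ ht hs)

lemma psi_lead_nonneg [Nonempty Ω] (k : ℕ) (hk1 : 1 ≤ k) (hk : 2 * k ≤ m) :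
    0 ≤ (altM (2 * k) b a * (altM (2 * k) a b)ᵀ).trace := by
  rcases Nat.lt_or_ge (2 * k) m with h | h
  · obtain ⟨j', hj'⟩ : ∃ j', 2 * k = j' + 1 := ⟨2 * k - 1, by omega⟩
    have := tr_ba_ab D j' (2 * k) (by omega) h
    rw [← hj'] at this
    rw [this]
  · have hm : 2 * k = m := by omega
    rw [hm, ← D.braid, ← hm]
    exact (psi_lead_pos D k hk).le

/-- no monic polynomial of degree `k` with `2k ≤ m` kills `z`. -/
theorem aeval_ne_zero [Nonempty Ω] (q : ℝ[X]) (hq : q.Monic) (hk : 2 * q.natDegree ≤ m) :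
    aeval (zz a b (s:ℝ) (t:ℝ)) q ≠ 0 := by
  intro h0
  set k := q.natDegree with hkdef
  rcases Nat.eq_zero_or_pos k with hk0 | hkpos
  · have : q = 1 := by
      rw [hq.as_sum, ← hkdef, hk0]; simp
    rw [this, map_one] at h0
    have h1 := congrArg Matrix.trace h0
    rw [Matrix.trace_one, Matrix.trace_zero] at h1
    have := D.card_pos
    rw [h1] at this
    exact lt_irrefl _ this
  · have hsum := hq.as_sum
    rw [← hkdef] at hsum
    rw [hsum, map_add, map_pow, aeval_X, map_sum] at h0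
    have h1 := congrArg (fun X => (X * (altM (2 * k) a b)ᵀ).trace) h0
    simp only [add_mul, Matrix.trace_add, Finset.sum_mul, Matrix.trace_sum, zero_mul,
      Matrix.trace_zero] at h1
    have hlow : ∀ i ∈ Finset.range k,
        ((aeval (zz a b (s:ℝ) (t:ℝ))) (C (q.coeff i) * X ^ i) * (altM (2 * k) a b)ᵀ).trace = 0 := by
      intro i hi
      have hi' := Finset.mem_range.mp hi
      rw [map_mul, aeval_C, map_pow, aeval_X, Algebra.algebraMap_eq_smul_one, smul_mul_assoc, one_mul,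
        smul_mul_assoc, Matrix.trace_smul]
      rw [psi_vanish D k hkpos hk _ (Fil_mono a b (by omega) (zz_pow_mem_Fil D.ha D.hb i)), smul_zero]
    rw [Finset.sum_eq_zero hlow, add_zero] at h1
    have hlead := zz_pow_lead D.ha D.hb k hkpos
    have h2 := psi_vanish D k hkpos hk _ hlead
    rw [sub_mul, sub_mul, Matrix.trace_sub, Matrix.trace_sub, h1] at h2
    have h3 := psi_lead_pos D k hk
    have h4 := psi_lead_nonneg D k hkpos hk
    linarith

/-- the number of distinct eigenvalues of `z`. -/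
theorem card_spec_gt [Nonempty Ω] (hz : (zz a b (s:ℝ) (t:ℝ)).IsHermitian) :
    m < 2 * (spec hz).card := by
  by_contra hcon
  push Not at hcon
  have hmonic : (∏ y ∈ spec hz, (X - C y : ℝ[X])).Monic := monic_prod_of_monic _ _ (fun y _ => monic_X_sub_C y)
  have hdeg : (∏ y ∈ spec hz, (X - C y : ℝ[X])).natDegree = (spec hz).card := by
    rw [natDegree_prod_of_monic _ _ (fun y _ => monic_X_sub_C y)]
    simp
  exact aeval_ne_zero D _ hmonic (by rw [hdeg]; exact hcon) (aeval_prod_spec hz)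

end orth

end Cfsg.Agent.Lib.Helper9.FHOcc
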