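import Mathlib
import Cfsg.Agent.Lib.Helper9.FHEven

set_option autoImplicit false
set_option linter.unusedSimpArgs false
set_option linter.unusedSectionVars false

namespace Cfsg.Agent.Lib.Helper9.FHOdd

open Matrix Cfsg.Agent.Lib.Helper9.FHAlg Cfsg.Agent.Lib.Helper9.FHSeq Cfsg.Agent.Lib.Helper9.FHTrig
  Cfsg.Agent.Lib.Helper9.FHData Cfsg.Agent.Lib.Helper9.FHPhi Cfsg.Agent.Lib.Helper9.FHEven

variable {Ω : Type*} [Fintype Ω] [DecidableEq Ω]

lemma sum_range_two_mul_succ (f : ℕ → ℝ) (h : ℕ) :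
    ∑ k ∈ Finset.range (2 * h + 1), f k =
      ∑ j ∈ Finset.range h, (f (2 * j) + f (2 * j + 1)) + f (2 * h) := by
  rw [Finset.sum_range_succ, sum_range_two_mul]

lemma trace_mul_transpose_nonneg (X : Matrix Ω Ω ℝ) : 0 ≤ (X * Xᵀ).trace := by
  simp only [Matrix.trace, Matrix.diag_apply, Matrix.mul_apply, Matrix.transpose_apply]
  exact Finset.sum_nonneg (fun i _ => Finset.sum_nonneg (fun j _ => mul_self_nonneg _))

variable {m s t : ℕ} {a b : Matrix Ω Ω ℝ} {E : Matrix Ω Ω ℝ} {x : ℝ}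

/-- in an `FHD`, `altq m t s = altq m s t`. -/
lemma altq_symm [Nonempty Ω] (D : FHD m s t a b) : altq m (t:ℝ) s = altq m (s:ℝ) t := by
  have hm := D.hm
  obtain ⟨m', rfl⟩ : ∃ m', m = m' + 2 := ⟨m - 2, by omega⟩
  have hn : (0:ℝ) < Fintype.card Ω := D.card_pos
  have o1 := D.orth (Sum.inr ⟨m'+1, by omega⟩) (Sum.inr ⟨m'+1, by omega⟩)
  have o2 := D.orth (Sum.inr ⟨m'+1, by omega⟩) (Sum.inr ⟨m', by omega⟩)
  have o3 := D.orth (Sum.inr ⟨m', by omega⟩) (Sum.inr ⟨m', by omega⟩)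
  simp only [fam, famq, if_true] at o1 o3
  have hne : (Sum.inr ⟨m'+1, by omega⟩ : Fin (m'+2) ⊕ Fin (m'+2)) ≠ Sum.inr ⟨m', by omega⟩ := by
    intro h
    have := Sum.inr.inj h
    simp only [Fin.mk.injEq] at this
    omega
  rw [if_neg hne] at o2
  simp only [fam] at o2
  set B := altM (m'+1) b a with hB
  have hbr : altM (m'+1+1) b a = a * B := by
    rw [show m' + 1 + 1 = m' + 2 by ring, ← D.braid, altM_succ]
  rw [hbr] at o1 o2
  have h1 : (a * B * (a * B)ᵀ).trace = ((s:ℝ) - 1) * (a * B * Bᵀ).trace + s * (B * Bᵀ).trace := by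
    rw [Matrix.transpose_mul, D.ha_symm, ← mul_assoc, Matrix.trace_mul_comm, ← mul_assoc, ← mul_assoc,
      D.ha, add_mul, add_mul, Matrix.trace_add, smul_mul_assoc, smul_mul_assoc, smul_mul_assoc,
      smul_mul_assoc, Matrix.trace_smul, Matrix.trace_smul, one_mul, smul_eq_mul, smul_eq_mul]
  rw [h1, o2, o3] at o1
  have : (Fintype.card Ω : ℝ) * altq (m'+1+1) (t:ℝ) s = (Fintype.card Ω : ℝ) * (s * altq (m'+1) (t:ℝ) s) := by
    linarith
  have h2 := mul_left_cancel₀ hn.ne' this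
  rw [show m' + 2 = (m'+1) + 1 by ring, altq_succ (m'+1) (s:ℝ) t, ← h2]

/-- for odd `m`, `s = t`. -/
lemma s_eq_t_of_odd [Nonempty Ω] (D : FHD m s t a b) (h : ℕ) (hm : m = 2 * h + 1) : s = t := by
  have := altq_symm D
  rw [hm, altq_odd, altq_odd] at this
  have hs : (0:ℝ) < s := by have := D.hs; positivity
  have ht : (0:ℝ) < t := by have := D.ht; positivity
  rw [mul_comm (t:ℝ) s] at this
  have h2 := mul_left_cancel₀ (pow_pos (mul_pos hs ht) h).ne' this
  exact_mod_cast h2.symm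

/-- folding a sum using a reflection symmetry. -/
lemma sum_fold (w : ℕ → ℝ) (h : ℕ) (u : ℕ → ℝ) (hu : ∀ j, j < h → u j = w (2 * h - j)) :
    ∑ i ∈ Finset.range (h+1), w i + ∑ j ∈ Finset.range h, u j = ∑ i ∈ Finset.range (2 * h + 1), w i := by
  conv_rhs => rw [show 2 * h + 1 = (h + 1) + h by ring, Finset.sum_range_add]
  congr 1
  rw [← Finset.sum_range_reflect (fun i => w (h + 1 + i)) h]
  apply Finset.sum_congr rfl
  intro j hj
  have hj' := Finset.mem_range.mp hj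
  rw [hu j hj']
  congr 1
  omega

/-- the trace formula in the odd case (`s = t`). -/
theorem odd_formula [Nonempty Ω] (D : FHD m s s a b) (h : ℕ) (hm : m = 2 * h + 1)
    (P : EP a b (s:ℝ) (s:ℝ) E x) (hES : E ∈ spanS m a b) (hd : E.trace ≠ 0)
    (hx1 : x ≠ 1 + (s:ℝ) * s) (hx2 : x ≠ -((s:ℝ) + s)) :
    al x ((s:ℝ) * s) m = 0 ∧ 0 ≤ -((s:ℝ) * s * al x ((s:ℝ) * s) (m - 1)) ∧
    (4 * ((s:ℝ) * s) - x ^ 2 ≠ 0 →
      2 * (Fintype.card Ω : ℝ) * (4 * ((s:ℝ) * s) - x ^ 2) =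
      m * E.trace * ((1 + (s:ℝ) * s - x) * ((s:ℝ) + s + x))) := by
  have hs : (0:ℝ) < s := by have := D.hs; positivity
  have hh : 1 ≤ h := by have := D.hm; omega
  have ha := D.ha
  have hb := D.hb
  have hat := D.ha_symm
  have hbt := D.hb_symm
  -- braid
  have hT : (a * b) ^ h * a = b * (a * b) ^ h := by
    have := D.braid
    rwa [hm, altM_odd, altM_odd, ← EP.mul_pow_swap a b h] at this
  obtain ⟨T, hTdef⟩ : ∃ T, T = (a * b) ^ h * a := ⟨_, rfl⟩
  have hTdef' : T = b * (a * b) ^ h := by rw [hTdef, hT]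
  have hTT : T * T = (a * b) ^ (2 * h + 1) := by
    have : T * T = ((a * b) ^ h * a) * (b * (a * b) ^ h) := by rw [← hTdef, ← hTdef']
    rw [this, mul_assoc, ← mul_assoc a b, ← mul_assoc, ← pow_succ, ← pow_add]
    congr 1; ring
  have haT : a * T = T * b := by
    rw [hTdef, mul_assoc ((a*b)^h) a b, ← pow_succ, ← hTdef, hTdef', ← mul_assoc, ← pow_succ']
  have hbT : b * T = T * a := by
    conv_rhs => rw [hTdef']
    rw [hTdef, mul_assoc]
  have hcomm : a * (a * b) ^ (2 * h + 1) = (a * b) ^ (2 * h + 1) * a := by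
    rw [← hTT, ← mul_assoc, haT, mul_assoc, hbT, mul_assoc]
  have hal : al x ((s:ℝ) * s) (2 * h + 1) = 0 :=
    EP.al_eq_zero_of_comm ha hb hat hbt P hs.ne' hd hx1 hx2 (2 * h + 1) (by omega) hcomm
  set Pst : ℝ := (s:ℝ) * s with hPst
  have hP0 : Pst ≠ 0 := (mul_pos hs hs).ne'
  set κ : ℝ := -(Pst * al x Pst (2 * h)) with hκ
  have hκE : (a * b) ^ (2 * h + 1) * E = κ • E := EP.Mpow_E_scalar ha hb hat hbt P (2 * h) hal
  have hκ2 : κ ^ 2 = Pst ^ (2 * h + 1) := al_kappa_sq x Pst (2 * h) hal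
  set d := E.trace with hd'
  clear_value κ
  -- positivity
  have hdpos : 0 < d := by
    have : d = (E * Eᵀ).trace := by rw [P.hEt, P.hEE]
    have h0 := trace_mul_transpose_nonneg E
    rw [← this] at h0
    exact lt_of_le_of_ne h0 (Ne.symm hd)
  have hTt : Tᵀ = T := by
    rw [hTdef, Matrix.transpose_mul, Matrix.transpose_pow, Matrix.transpose_mul, hat, hbt,
      ← EP.mul_pow_swap b a h]
  have hET : E * T = T * E := by
    rw [hTdef, ← mul_assoc, ((EP.E_comm_M P).pow_right h).eq, mul_assoc, P.hEa, mul_assoc]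
  have hκnn : 0 ≤ κ := by
    have hTEt : (T * E)ᵀ = T * E := by rw [Matrix.transpose_mul, P.hEt, hTt, hET]
    have h1 : ((T * E) * (T * E)ᵀ).trace = κ * d := by
      rw [hTEt, mul_assoc, ← mul_assoc E T E, hET, mul_assoc T E E, P.hEE, ← mul_assoc, hTT, hκE,
        Matrix.trace_smul, smul_eq_mul]
    have h2 := trace_mul_transpose_nonneg (T * E)
    rw [h1] at h2
    by_contra hneg
    push Not at hneg
    nlinarith
  refine ⟨by rw [hm]; exact hal, by rw [hm]; simpa [hκ] using hκnn, fun hx4 => ?_⟩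
  -- the sequences
  set p := rec2 x Pst 2 x with hp
  set g := rec2 x Pst ((s:ℝ) - 1) (((s:ℝ) - 1) * x + s * ((s:ℝ) - 1)) with hg
  have hpk : ∀ k, phi E ((a * b) ^ k) = d / 2 * p k := EP.phi_Mk ha hb hat hbt P hx1 hx2
  have hgk : ∀ k, phi E ((a * b) ^ k * a) = d / 2 * g k := EP.phi_Mk_a ha hb hat hbt P hx1 hx2
  have hhk : ∀ k, phi E ((a * b) ^ k * b) = d / 2 * g k := EP.phi_Mk_b ha hb hat hbt P hx1 hx2
  have hd2 : d / 2 ≠ 0 := by positivity
  have per : ∀ (y : ℕ → ℝ) (Y : Matrix Ω Ω ℝ), (∀ k, phi E ((a * b) ^ k * Y) = d / 2 * y k) →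
      y (2 * h + 1) = κ * y 0 ∧ y (2 * h + 1 + 1) = κ * y 1 := by
    intro y Y hy
    constructor
    · have := EP.phi_periodic P (2 * h + 1) κ hκE Y
      rw [hy] at this
      have h0 := hy 0
      rw [pow_zero, one_mul] at h0
      rw [h0] at this
      apply mul_left_cancel₀ hd2
      rw [this]; ring
    · have := EP.phi_periodic P (2 * h + 1) κ hκE ((a * b) * Y)
      rw [← mul_assoc, ← pow_succ, hy] at this
      have h0 := hy 1
      rw [pow_one] at h0
      rw [h0] at this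
      apply mul_left_cancel₀ hd2
      rw [this]; ring
  have hp' : ∀ k, phi E ((a * b) ^ k * 1) = d / 2 * p k := by intro k; rw [mul_one]; exact hpk k
  obtain ⟨pp0, pp1⟩ := per p 1 hp'
  obtain ⟨gp0, gp1⟩ := per g a hgk
  have sp := rec2_sum_periodic x Pst 2 x κ hP0 hx4 (2 * h + 1) (by omega) hκ2
    (by simpa [hp] using pp0) (by simpa [hp] using pp1)
  have sg := rec2_sum_periodic x Pst ((s:ℝ) - 1) (((s:ℝ) - 1) * x + s * ((s:ℝ) - 1)) κ hP0 hx4 (2 * h + 1)
    (by omega) hκ2 (by simpa [hg] using gp0) (by simpa [hg] using gp1)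
  rw [← hp] at sp
  rw [← hg] at sg
  -- reflection symmetries
  have hp0 : p 0 = 2 := by simp [hp]
  have hp1 : p 1 = x := by simp [hp]
  have hg0 : g 0 = (s:ℝ) - 1 := by simp [hg]
  have hg1 : g 1 = ((s:ℝ) - 1) * x + s * ((s:ℝ) - 1) := by simp [hg]
  have precur : ∀ k, p (k+2) = x * p (k+1) - Pst * p k := fun k => rec2_succ_succ _ _ _ _ k
  have grecur : ∀ k, g (k+2) = x * g (k+1) - Pst * g k := fun k => rec2_succ_succ _ _ _ _ k
  have prev : ∀ i j, i + j = 2 * h + 1 → p i * Pst ^ j = κ * p j := by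
    intro i j hij
    have := rec2_reverse x Pst 2 x (2 * h) j i hij
    rw [← hp] at this
    rw [this, pp0, hp0]
    have h2 : Pst * p (2 * h) = κ * x := by
      have := precur (2 * h)
      rw [pp1, pp0, hp0, hp1] at this
      linarith
    rw [h2, hp, rec2_smul]
  obtain ⟨h', rfl⟩ : ∃ h', h = h' + 1 := ⟨h - 1, by omega⟩
  have grev : ∀ i j, i + j = 2 * (h' + 1) → g i * Pst ^ j = -(κ / s) * g j := by
    intro i j hij
    have := rec2_reverse x Pst ((s:ℝ) - 1) (((s:ℝ) - 1) * x + s * ((s:ℝ) - 1)) (2 * h' + 1) j i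
      (by omega)
    rw [← hg] at this
    have e1 : Pst * g (2 * (h'+1)) = κ * (x * g 0 - g 1) := by
      have := grecur (2 * (h'+1))
      rw [gp1, gp0] at this
      linarith
    have e1' : g (2 * h' + 1 + 1) = -(κ / s) * g 0 := by
      rw [show 2 * h' + 1 + 1 = 2 * (h'+1) by ring]
      apply mul_left_cancel₀ hP0
      rw [e1, hg0, hg1, hPst]; field_simp; ring
    have e2 : Pst * g (2 * h' + 1) = -(κ / s) * g 1 := by
      have := grecur (2 * h' + 1)
      rw [show 2 * h' + 1 + 2 = 2 * (h'+1) + 1 by ring, gp0, e1'] at this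
      simp only [hg0, hg1] at this ⊢
      field_simp at this ⊢
      linarith
    rw [this, e1', e2, hg0, hg1, rec2_smul]
  have hsne := hs.ne'
  have wp : ∀ i j, i + j = 2 * (h'+1) + 1 → p i ^ 2 / Pst ^ i = p j ^ 2 / Pst ^ j := by
    intro i j hij
    have := prev i j hij
    have hPi : Pst ^ i ≠ 0 := pow_ne_zero _ hP0
    have hPj : Pst ^ j ≠ 0 := pow_ne_zero _ hP0
    rw [div_eq_div_iff hPi hPj]
    have h2 : (p i * Pst ^ j) ^ 2 = (κ * p j) ^ 2 := by rw [this]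
    rw [mul_pow (p i), mul_pow κ, hκ2, ← hij, pow_add] at h2
    have : Pst ^ j * (p i ^ 2 * Pst ^ j) = Pst ^ j * (p j ^ 2 * Pst ^ i) := by
      linear_combination h2
    exact mul_left_cancel₀ hPj this
  have wg : ∀ i j, i + j = 2 * (h'+1) → g i ^ 2 / Pst ^ i = g j ^ 2 / Pst ^ j := by
    intro i j hij
    have := grev i j hij
    have hPi : Pst ^ i ≠ 0 := pow_ne_zero _ hP0
    have hPj : Pst ^ j ≠ 0 := pow_ne_zero _ hP0
    rw [div_eq_div_iff hPi hPj]
    have h2 : (g i * Pst ^ j) ^ 2 = (-(κ / s) * g j) ^ 2 := by rw [this]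
    have h3 : (-(κ / s)) ^ 2 = Pst ^ (2 * (h'+1)) := by
      rw [neg_sq, div_pow, hκ2, pow_succ, hPst]; field_simp
    rw [mul_pow (g i), mul_pow (-(κ / s)), h3, ← hij, pow_add] at h2
    have : Pst ^ j * (g i ^ 2 * Pst ^ j) = Pst ^ j * (g j ^ 2 * Pst ^ i) := by
      linear_combination h2
    exact mul_left_cancel₀ hPj this
  -- the trace formula
  have hn : (0:ℝ) < Fintype.card Ω := D.card_pos
  have key := D.trace_idem E hES P.hEt P.hEE
  rw [sum_fam (m := m) _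
    (fun k => (phi E (altM k a b)) ^ 2 / ((Fintype.card Ω : ℝ) * altq k s s))
    (fun k => (phi E (altM (k+1) b a)) ^ 2 / ((Fintype.card Ω : ℝ) * altq (k+1) s s))
    (fun k => rfl) (fun k => rfl)] at key
  rw [hm, sum_range_two_mul_succ, sum_range_two_mul_succ] at key
  have e1 : ∀ j, (phi E (altM (2 * j) a b)) ^ 2 / ((Fintype.card Ω : ℝ) * altq (2 * j) s s)
      = d ^ 2 / (4 * Fintype.card Ω) * (p j ^ 2 / Pst ^ j) := by
    intro j
    rw [altM_even, altq_even, hpk, ← hPst]; field_simp; ring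
  have e2 : ∀ j, (phi E (altM (2 * j + 1) a b)) ^ 2 / ((Fintype.card Ω : ℝ) * altq (2 * j + 1) s s)
      = d ^ 2 / (4 * Fintype.card Ω * s) * (g j ^ 2 / Pst ^ j) := by
    intro j
    rw [altM_odd, altq_odd, hgk, ← hPst]; field_simp; ring
  have e3 : ∀ j, (phi E (altM (2 * j + 1) b a)) ^ 2 / ((Fintype.card Ω : ℝ) * altq (2 * j + 1) s s)
      = d ^ 2 / (4 * Fintype.card Ω * s) * (g j ^ 2 / Pst ^ j) := by
    intro j
    rw [altM_odd, altq_odd, EP.phi_Nk_b P, hhk, ← hPst]; field_simp; ring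
  have e4 : ∀ j, (phi E (altM (2 * j + 1 + 1) b a)) ^ 2 / ((Fintype.card Ω : ℝ) * altq (2 * j + 1 + 1) s s)
      = d ^ 2 / (4 * Fintype.card Ω) * (p (j+1) ^ 2 / Pst ^ (j+1)) := by
    intro j
    rw [show 2 * j + 1 + 1 = 2 * (j+1) by ring, altM_even, altq_even, EP.phi_Nk P, hpk, ← hPst]
    field_simp; ring
  simp only [e1, e2, e3, e4, Finset.sum_add_distrib, ← Finset.mul_sum] at key
  -- fold
  have fp := sum_fold (fun i => p i ^ 2 / Pst ^ i) (h'+1) (fun j => p (j+1) ^ 2 / Pst ^ (j+1))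
    (fun j hj => wp (j+1) (2 * (h'+1) - j) (by omega))
  have fg := sum_fold (fun i => g i ^ 2 / Pst ^ i) (h'+1) (fun j => g j ^ 2 / Pst ^ j)
    (fun j hj => wg j (2 * (h'+1) - j) (by omega))
  rw [Finset.sum_range_succ] at fp fg
  simp only at fp fg
  rw [sp] at fp
  rw [sg] at fg
  have hd0 : d ≠ 0 := hd
  have hnne := hn.ne'
  -- combine
  set Sp := ∑ j ∈ Finset.range (h'+1), p j ^ 2 / Pst ^ j with hSp
  set Sp' := ∑ j ∈ Finset.range (h'+1), p (j+1) ^ 2 / Pst ^ (j+1) with hSp'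
  set Sg := ∑ j ∈ Finset.range (h'+1), g j ^ 2 / Pst ^ j with hSg
  have key2 : d = d ^ 2 / (4 * Fintype.card Ω) * (Sp + p (h'+1) ^ 2 / Pst ^ (h'+1) + Sp')
      + d ^ 2 / (4 * Fintype.card Ω * s) * (Sg + g (h'+1) ^ 2 / Pst ^ (h'+1) + Sg) := by
    refine key.trans ?_; ring
  rw [fp, fg] at key2
  rw [hm]
  field_simp at key2
  push_cast at key2 ⊢
  apply mul_left_cancel₀ (mul_ne_zero two_ne_zero hsne)
  rw [hPst] at key2 ⊢
  linear_combination key2

end Cfsg.Agent.Lib.Helper9.FHOdd
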