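import Mathlib
import Cfsg.Agent.Lib.Helper9.FHOdd
import Cfsg.Agent.Lib.Helper9.FHOcc
import Cfsg.Agent.Lib.Helper9.FHNum

set_option autoImplicit false
set_option linter.unusedSimpArgs false
set_option linter.unusedSectionVars false

namespace Cfsg.Agent.Lib.Helper9.FHMainA

open Matrix Polynomial Cfsg.Agent.Lib.Helper9.FHAlg Cfsg.Agent.Lib.Helper9.FHSeq
  Cfsg.Agent.Lib.Helper9.FHTrig Cfsg.Agent.Lib.Helper9.FHData Cfsg.Agent.Lib.Helper9.FHPhi
  Cfsg.Agent.Lib.Helper9.FHEven Cfsg.Agent.Lib.Helper9.FHOdd Cfsg.Agent.Lib.Helper9.FHOcc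
  Cfsg.Agent.Lib.Helper9.FHSpec Cfsg.Agent.Lib.Helper9.FHNum

variable {Ω : Type*} [Fintype Ω] [DecidableEq Ω]

lemma comm_aeval (a z : Matrix Ω Ω ℝ) (h : a * z = z * a) (p : ℝ[X]) :
    a * aeval z p = aeval z p * a := by
  induction p using Polynomial.induction_on' with
  | add p q hp hq => rw [map_add, mul_add, add_mul, hp, hq]
  | monomial n c =>
    rw [aeval_monomial]
    have h1 : Commute a (z ^ n) := (show Commute a z from h).pow_right n
    rw [← mul_assoc, ← Algebra.commutes c a, mul_assoc, h1.eq, mul_assoc]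

lemma trace_mul_transpose_eq_zero (X : Matrix Ω Ω ℝ) (h : (X * Xᵀ).trace = 0) : X = 0 := by
  simp only [Matrix.trace, Matrix.diag_apply, Matrix.mul_apply, Matrix.transpose_apply] at h
  ext i j
  have h1 := (Finset.sum_eq_zero_iff_of_nonneg
    (fun i _ => Finset.sum_nonneg (fun j _ => mul_self_nonneg (X i j)))).mp h i (Finset.mem_univ i)
  have h2 := (Finset.sum_eq_zero_iff_of_nonneg (fun j _ => mul_self_nonneg (X i j))).mp h1 j
    (Finset.mem_univ j)
  simpa using mul_self_eq_zero.mp h2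

variable {m s t : ℕ} {a b : Matrix Ω Ω ℝ}

lemma zz_transpose' (hat : aᵀ = a) (hbt : bᵀ = b) (s t : ℝ) : (zz a b s t)ᵀ = zz a b s t := by
  rw [zz_expand]
  simp only [Matrix.transpose_add, Matrix.transpose_sub, Matrix.transpose_mul, Matrix.transpose_smul,
    Matrix.transpose_one, hat, hbt]
  abel

lemma zz_hermitian (hat : aᵀ = a) (hbt : bᵀ = b) (s t : ℝ) : (zz a b s t).IsHermitian := by
  rw [Matrix.IsHermitian, Matrix.conjTranspose_eq_transpose_of_trivial]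
  exact zz_transpose' hat hbt s t

lemma zz_mem_adjoin (s t : ℝ) : zz a b s t ∈ Algebra.adjoin ℝ ({a, b} : Set (Matrix Ω Ω ℝ)) := by
  have ha : a ∈ Algebra.adjoin ℝ ({a, b} : Set (Matrix Ω Ω ℝ)) := Algebra.subset_adjoin (by simp)
  have hb : b ∈ Algebra.adjoin ℝ ({a, b} : Set (Matrix Ω Ω ℝ)) := Algebra.subset_adjoin (by simp)
  unfold zz
  exact Subalgebra.add_mem _ (Subalgebra.mul_mem _ ha hb)
    (Subalgebra.mul_mem _ (Subalgebra.sub_mem _ hb (Subalgebra.smul_mem _ (Subalgebra.one_mem _) _))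
      (Subalgebra.sub_mem _ ha (Subalgebra.smul_mem _ (Subalgebra.one_mem _) _)))

section

variable (D : FHD m s t a b)
include D

/-- spectral projections of `z` are `EP`s in the span. -/
lemma specProj_EP (hz : (zz a b (s:ℝ) (t:ℝ)).IsHermitian) (x : ℝ) :
    EP a b (s:ℝ) (t:ℝ) (specProj hz x) x ∧ specProj hz x ∈ spanS m a b := by
  obtain ⟨p, hp⟩ := specProj_eq_aeval hz x
  refine ⟨⟨specProj_transpose hz x, specProj_idem hz x, ?_, ?_, z_mul_specProj hz x⟩, ?_⟩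
  · rw [hp]; exact (comm_aeval a _ (zz_comm_a a b s t D.ha D.hb).symm p).symm
  · rw [hp]; exact (comm_aeval b _ (zz_comm_b a b s t D.ha D.hb).symm p).symm
  · apply D.adjoin_mem
    rw [hp]
    have h1 : aeval (zz a b (s:ℝ) (t:ℝ)) p ∈ Algebra.adjoin ℝ {zz a b (s:ℝ) (t:ℝ)} :=
      aeval_mem_adjoin_singleton ℝ _
    have h2 : Algebra.adjoin ℝ {zz a b (s:ℝ) (t:ℝ)} ≤ Algebra.adjoin ℝ ({a, b} : Set (Matrix Ω Ω ℝ)) := by
      apply Algebra.adjoin_le
      intro y hy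
      rw [Set.mem_singleton_iff] at hy
      rw [hy]; exact zz_mem_adjoin _ _
    exact h2 h1

lemma trace_specProj_pos (hz : (zz a b (s:ℝ) (t:ℝ)).IsHermitian) (x : ℝ) (hx : x ∈ spec hz) :
    ∃ d : ℕ, 0 < d ∧ (specProj hz x).trace = d := by
  refine ⟨_, ?_, trace_specProj hz x⟩
  obtain ⟨i, hi⟩ := (mem_spec hz x).mp hx
  exact Finset.card_pos.mpr ⟨i, by simp [hi]⟩

end

end Cfsg.Agent.Lib.Helper9.FHMainA
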