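import Mathlib
import Cfsg.Agent.Lib.Helper9.FHMainA

set_option autoImplicit false
set_option linter.unusedSimpArgs false
set_option linter.unusedSectionVars false

namespace Cfsg.Agent.Lib.Helper9.FHMainB

open Matrix Polynomial Real Cfsg.Agent.Lib.Helper9.FHAlg Cfsg.Agent.Lib.Helper9.FHSeq
  Cfsg.Agent.Lib.Helper9.FHTrig Cfsg.Agent.Lib.Helper9.FHData Cfsg.Agent.Lib.Helper9.FHPhi
  Cfsg.Agent.Lib.Helper9.FHEven Cfsg.Agent.Lib.Helper9.FHOdd Cfsg.Agent.Lib.Helper9.FHOcc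
  Cfsg.Agent.Lib.Helper9.FHSpec Cfsg.Agent.Lib.Helper9.FHNum Cfsg.Agent.Lib.Helper9.FHMainA

variable {Ω : Type*} [Fintype Ω] [DecidableEq Ω]
variable {m s t : ℕ} {a b : Matrix Ω Ω ℝ}

/-- the even case: `m = 2h` with `h ≥ 5` is impossible. -/
theorem even_case [Nonempty Ω] (D : FHD m s t a b) (h : ℕ) (hm : m = 2 * h) (hh : 5 ≤ h) : False := by
  have hs2 := D.hs
  have ht2 := D.ht
  have hs : (2:ℝ) ≤ s := by exact_mod_cast hs2
  have ht : (2:ℝ) ≤ t := by exact_mod_cast ht2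
  have hst : (0:ℝ) < (s:ℝ) * t := by positivity
  have hz := zz_hermitian (a := a) (b := b) D.ha_symm D.hb_symm (s:ℝ) (t:ℝ)
  set Q : ℝ := √((s:ℝ) * t) with hQ
  have hQpos : 0 < Q := Real.sqrt_pos.mpr hst
  have hQ2 : Q ^ 2 = (s:ℝ) * t := Real.sq_sqrt hst.le
  have h2Q1 : 2 * Q ≤ 1 + (s:ℝ) * t := by nlinarith [sq_nonneg (Q - 1)]
  have h2Q2 : 2 * Q ≤ (s:ℝ) + t := by
    by_contra hc
    push Not at hc
    have h1 : ((s:ℝ) + t) ^ 2 < (2 * Q) ^ 2 := pow_lt_pow_left₀ hc (by positivity) two_ne_zero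
    nlinarith [sq_nonneg ((s:ℝ) - t)]
  let xf : ℕ → ℝ := fun j => 2 * Q * cos (j * π / h)
  have hhpos : (0:ℝ) < h := by positivity
  -- properties of the candidate eigenvalues
  have hxf : ∀ j, 1 ≤ j → j < h → |cos (j * π / h)| < 1 := by
    intro j hj1 hjh
    have h1 : 0 < (j:ℝ) * π / h := by positivity
    have h2 : (j:ℝ) * π / h < π := by
      rw [div_lt_iff₀ hhpos]
      have : (j:ℝ) < h := by exact_mod_cast hjh
      nlinarith [pi_pos]
    rw [abs_lt]
    constructor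
    · rw [← cos_pi]; exact cos_lt_cos_of_nonneg_of_le_pi h1.le le_rfl h2
    · rw [← cos_zero]; exact cos_lt_cos_of_nonneg_of_le_pi le_rfl h2.le h1
  have hxf_lt : ∀ j, 1 ≤ j → j < h → |xf j| < 2 * Q := by
    intro j hj1 hjh
    have := hxf j hj1 hjh
    show |2 * Q * cos (j * π / h)| < 2 * Q
    rw [abs_mul, abs_of_pos (by positivity : 0 < 2 * Q)]
    nlinarith
  -- Step A
  have stepA : ∀ x ∈ spec hz, x = 1 + (s:ℝ) * t ∨ x = -((s:ℝ) + t) ∨ ∃ j, 1 ≤ j ∧ j < h ∧ x = xf j := by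
    intro x hx
    by_cases hx1 : x = 1 + (s:ℝ) * t
    · exact Or.inl hx1
    by_cases hx2 : x = -((s:ℝ) + t)
    · exact Or.inr (Or.inl hx2)
    right; right
    obtain ⟨hEP, hES⟩ := specProj_EP D hz x
    obtain ⟨d, hdpos, hd⟩ := trace_specProj_pos D hz x hx
    have hdne : (specProj hz x).trace ≠ 0 := by rw [hd]; positivity
    have hal := (even_formula D h hm hEP hES hdne hx1 hx2).1
    obtain ⟨h', rfl⟩ : ∃ h', h = h' + 1 := ⟨h - 1, by omega⟩
    rw [← hQ2] at hal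
    obtain ⟨j, hj1, hj2, hjx⟩ := al_root x Q hQpos h' hal
    refine ⟨j, hj1, hj2, ?_⟩
    rw [hjx]; show _ = 2 * Q * cos (j * π / ((h'+1 : ℕ) : ℝ)); push_cast; rfl
  -- counting
  have hcard := card_spec_gt D hz
  have stepB : ∀ j, 1 ≤ j → j < h → xf j ∈ spec hz := by
    intro j0 hj1 hjh
    by_contra hnot
    have hsub : spec hz ⊆ insert (1 + (s:ℝ) * t) (insert (-((s:ℝ) + t))
        (((Finset.Ico 1 h).erase j0).image xf)) := by
      intro x hx
      rcases stepA x hx with h1 | h1 | ⟨j, hj1', hjh', hjx⟩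
      · simp [h1]
      · simp [h1]
      · have hne : j ≠ j0 := by
          rintro rfl; exact hnot (hjx ▸ hx)
        simp only [Finset.mem_insert, Finset.mem_image, Finset.mem_erase, Finset.mem_Ico]
        right; right
        exact ⟨j, ⟨hne, hj1', hjh'⟩, hjx.symm⟩
    have hc := Finset.card_le_card hsub
    have h1 : (insert (1 + (s:ℝ) * t) (insert (-((s:ℝ) + t))
        (((Finset.Ico 1 h).erase j0).image xf))).card ≤ h := by
      refine le_trans (Finset.card_insert_le _ _) ?_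
      refine le_trans (Nat.succ_le_succ (Finset.card_insert_le _ _)) ?_
      have := Finset.card_image_le (s := (Finset.Ico 1 h).erase j0) (f := xf)
      rw [Finset.card_erase_of_mem (by simp; omega), Nat.card_Ico] at this
      omega
    omega
  -- formulas
  have stepC : ∀ j, 1 ≤ j → j < h → ∃ d : ℕ, 0 < d ∧
      2 * (Fintype.card Ω : ℝ) * (4 * ((s:ℝ) * t) - xf j ^ 2) =
        m * d * ((1 + (s:ℝ) * t - xf j) * ((s:ℝ) + t + xf j)) := by
    intro j hj1 hjh
    have hx := stepB j hj1 hjh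
    have hlt := hxf_lt j hj1 hjh
    have habs := abs_lt.mp hlt
    have hx1 : xf j ≠ 1 + (s:ℝ) * t := by intro h0; linarith
    have hx2 : xf j ≠ -((s:ℝ) + t) := by intro h0; linarith
    have hx4 : 4 * ((s:ℝ) * t) - xf j ^ 2 ≠ 0 := by
      have : xf j ^ 2 < (2 * Q) ^ 2 := by
        apply sq_lt_sq' <;> linarith
      have h4 : (2 * Q) ^ 2 = 4 * ((s:ℝ) * t) := by rw [mul_pow, hQ2]; ring
      intro h0; linarith
    obtain ⟨hEP, hES⟩ := specProj_EP D hz (xf j)
    obtain ⟨d, hdpos, hd⟩ := trace_specProj_pos D hz (xf j) hx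
    have hdne : (specProj hz (xf j)).trace ≠ 0 := by rw [hd]; positivity
    have hf := (even_formula D h hm hEP hES hdne hx1 hx2).2 hx4
    rw [hd] at hf
    exact ⟨d, hdpos, hf⟩
  -- rationality
  have stepD : ∀ j : ℕ, 1 ≤ j → j < h → ∃ r : ℚ, 2 * Q * cos (j * π / h) = r := by
    intro j hj1 hjh
    obtain ⟨d1, hd1, hf1⟩ := stepC j hj1 hjh
    obtain ⟨d2, hd2, hf2⟩ := stepC (h - j) (by omega) (by omega)
    have hneg : xf (h - j) = - xf j := by
      show 2 * Q * cos (((h - j : ℕ) : ℝ) * π / h) = -(2 * Q * cos (j * π / h))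
      rw [Nat.cast_sub hjh.le]
      have : ((h:ℝ) - j) * π / h = π - j * π / h := by field_simp
      rw [this, cos_pi_sub]; ring
    rw [hneg] at hf2
    have hmpos : 0 < m := by omega
    have := rat_of_pair s t hs2 ht2 (xf j) (2 * Fintype.card Ω) (m * d1) (m * d2)
      (Nat.mul_pos hmpos hd1) (Nat.mul_pos hmpos hd2)
      (by push_cast; linarith) (by push_cast; rw [neg_sq] at hf2; linarith)
    exact this
  exact even_end Q hQpos ((s:ℚ) * t) (by rw [hQ2]; push_cast; ring) h hh stepD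

end Cfsg.Agent.Lib.Helper9.FHMainB
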