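import Mathlib
import Cfsg.Agent.Lib.Helper9.FHMainA

set_option autoImplicit false
set_option linter.unusedSimpArgs false
set_option linter.unusedSectionVars false

namespace Cfsg.Agent.Lib.Helper9.FHMainC

open Matrix Polynomial Real Cfsg.Agent.Lib.Helper9.FHAlg Cfsg.Agent.Lib.Helper9.FHSeq
  Cfsg.Agent.Lib.Helper9.FHTrig Cfsg.Agent.Lib.Helper9.FHData Cfsg.Agent.Lib.Helper9.FHPhi
  Cfsg.Agent.Lib.Helper9.FHEven Cfsg.Agent.Lib.Helper9.FHOdd Cfsg.Agent.Lib.Helper9.FHOcc
  Cfsg.Agent.Lib.Helper9.FHSpec Cfsg.Agent.Lib.Helper9.FHNum Cfsg.Agent.Lib.Helper9.FHMainA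

variable {Ω : Type*} [Fintype Ω] [DecidableEq Ω]
variable {m s : ℕ} {a b : Matrix Ω Ω ℝ}

/-- in the odd case, `-(s+s)` is not an eigenvalue of `z`. -/
lemma odd_no_neg (D : FHD m s s a b) (h : ℕ) (hm : m = 2 * h + 1) (E : Matrix Ω Ω ℝ)
    (P : EP a b (s:ℝ) (s:ℝ) E (-((s:ℝ) + s))) : E = 0 := by
  have hs : (0:ℝ) < s := by have := D.hs; positivity
  have ha := D.ha
  have hb := D.hb
  have hat := D.ha_symm
  have hbt := D.hb_symm
  -- w = a + b + (1-s)
  obtain ⟨w, hw⟩ : ∃ w, w = a + b + (1 - (s:ℝ)) • (1 : Matrix Ω Ω ℝ) := ⟨_, rfl⟩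
  have hww : w * w = zz a b (s:ℝ) (s:ℝ) + (2 * (s:ℝ)) • (1 : Matrix Ω Ω ℝ) := by
    rw [hw, zz_expand]
    simp only [mul_add, add_mul, mul_smul_comm, smul_mul_assoc, mul_one, one_mul, ha, hb, smul_add,
      smul_smul]
    module
  have hwt : wᵀ = w := by
    rw [hw]
    simp only [Matrix.transpose_add, Matrix.transpose_smul, Matrix.transpose_one, hat, hbt]
  have hwE : w * E = E * w := by
    rw [hw]
    simp only [mul_add, add_mul, mul_smul_comm, smul_mul_assoc, mul_one, one_mul, P.hEa, P.hEb]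
  have h0 : ((w * E) * (w * E)ᵀ).trace = 0 := by
    rw [Matrix.transpose_mul, P.hEt, hwt, mul_assoc, ← mul_assoc E E w, P.hEE, ← hwE, ← mul_assoc, hww,
      add_mul, P.hzE, smul_mul_assoc, one_mul, ← add_smul]
    rw [show -((s:ℝ) + s) + 2 * s = 0 by ring, zero_smul, Matrix.trace_zero]
  have hwE0 : w * E = 0 := trace_mul_transpose_eq_zero _ h0
  -- b E = (s-1) E - a E
  have hbE : b * E = ((s:ℝ) - 1) • E - a * E := by
    rw [hw] at hwE0
    simp only [add_mul, smul_mul_assoc, one_mul] at hwE0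
    have : b * E = -(a * E) - (1 - (s:ℝ)) • E := by
      rw [eq_sub_iff_add_eq, eq_neg_iff_add_eq_zero]
      rw [← hwE0]; abel
    rw [this]; module
  -- M E = - s E
  have hME : a * b * E = (-(s:ℝ)) • E := by
    rw [mul_assoc, hbE, mul_sub, mul_smul_comm, ← mul_assoc, ha, add_mul, smul_mul_assoc, smul_mul_assoc,
      one_mul]
    module
  have hMkE : ∀ k : ℕ, (a * b) ^ k * E = ((-(s:ℝ)) ^ k) • E := by
    intro k
    induction k with
    | zero => simp
    | succ k ih => rw [pow_succ, mul_assoc, hME, mul_smul_comm, ih, smul_smul, pow_succ, mul_comm]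
  -- braid
  have hT : (a * b) ^ h * a = b * (a * b) ^ h := by
    have := D.braid
    rwa [hm, altM_odd, altM_odd, ← EP.mul_pow_swap a b h] at this
  have h1 : (a * b) ^ h * a * E = ((-(s:ℝ)) ^ h) • (a * E) := by
    rw [mul_assoc, ← P.hEa, ← mul_assoc, hMkE, smul_mul_assoc, P.hEa]
  have h2 : b * (a * b) ^ h * E = ((-(s:ℝ)) ^ h) • (b * E) := by
    rw [mul_assoc, hMkE, mul_smul_comm]
  rw [hT, h2] at h1
  have hne : (-(s:ℝ)) ^ h ≠ 0 := pow_ne_zero _ (neg_ne_zero.mpr hs.ne')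
  have h3 : b * E = a * E := smul_right_injective _ hne h1
  -- 2 a E = (s-1) E
  have h4 : (2:ℝ) • (a * E) = ((s:ℝ) - 1) • E := by
    rw [h3] at hbE
    rw [two_smul]
    nth_rewrite 1 [hbE]
    abel
  -- a (2 a E) = (s-1) a E
  have h5 : (2:ℝ) • (a * (a * E)) = ((s:ℝ) - 1) • (a * E) := by
    rw [← mul_smul_comm, h4, mul_smul_comm]
  rw [haa a s ha] at h5
  have h6 : ((s:ℝ) - 1) • ((2:ℝ) • (a * E)) + (4 * (s:ℝ)) • E = 0 := by
    have : ((s:ℝ) - 1) • (a * E) + (2 * (s:ℝ)) • E = 0 := by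
      rw [smul_add, smul_smul, smul_smul] at h5
      have h5' := sub_eq_zero.mpr h5
      rw [← h5']; module
    rw [smul_smul, mul_comm, ← smul_smul]
    have e : (4 * (s:ℝ)) • E = (2:ℝ) • ((2 * (s:ℝ)) • E) := by rw [smul_smul]; ring_nf
    rw [e, ← smul_add, this, smul_zero]
  rw [h4, smul_smul, ← add_smul] at h6
  rcases smul_eq_zero.mp h6 with h7 | h7
  · exfalso; nlinarith
  · exact h7

/-- the odd case: odd `m ≥ 5` is impossible. -/
theorem odd_case [Nonempty Ω] {t : ℕ} (D' : FHD m s t a b) (h : ℕ) (hm : m = 2 * h + 1) (h5 : 5 ≤ m) :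
    False := by
  obtain rfl : s = t := s_eq_t_of_odd D' h hm
  have D := D'
  have hs2 := D.hs
  have hs : (2:ℝ) ≤ s := by exact_mod_cast hs2
  have hspos : (0:ℝ) < s := by linarith
  have hz := zz_hermitian (a := a) (b := b) D.ha_symm D.hb_symm (s:ℝ) (s:ℝ)
  have hmpos : (0:ℝ) < m := by have : 0 < m := by omega
                               exact_mod_cast this
  let xf : ℕ → ℝ := fun j => 2 * s * cos (2 * j * π / m)
  have hss : (s:ℝ) * s = (s:ℝ) ^ 2 := by ring
  -- Step A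
  have stepA : ∀ x ∈ spec hz, x = 1 + (s:ℝ) * s ∨ ∃ j, 1 ≤ j ∧ j ≤ h ∧ x = xf j := by
    intro x hx
    by_cases hx1 : x = 1 + (s:ℝ) * s
    · exact Or.inl hx1
    right
    obtain ⟨hEP, hES⟩ := specProj_EP D hz x
    obtain ⟨d, hdpos, hd⟩ := trace_specProj_pos D hz x hx
    have hdne : (specProj hz x).trace ≠ 0 := by rw [hd]; positivity
    have hx2 : x ≠ -((s:ℝ) + s) := by
      intro h0
      rw [h0] at hEP
      have := odd_no_neg D h hm _ hEP
      rw [← h0] at this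
      rw [this, Matrix.trace_zero] at hdne
      exact hdne rfl
    obtain ⟨hal, hκ, -⟩ := odd_formula D h hm hEP hES hdne hx1 hx2
    rw [hss] at hal hκ
    have hm1 : m - 1 + 1 = m := by omega
    rw [← hm1] at hal
    obtain ⟨i, hi1, hi2, hix⟩ := al_root x s hspos (m - 1) hal
    have hcast : (((m - 1 : ℕ) : ℝ) + 1) = m := by
      have : (((m - 1 : ℕ) + 1 : ℕ) : ℝ) = m := by rw [hm1]
      push_cast at this; exact this
    rw [hcast] at hix
    rw [hm1] at hi2
    have hpred := al_pred_at_root (s:ℝ) hspos m i (by omega) hi1 hi2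
    rw [← hix] at hpred
    rw [hpred] at hκ
    have hev : Even i := by
      by_contra hodd
      rw [Nat.not_even_iff_odd] at hodd
      rw [hodd.neg_one_pow] at hκ
      have : 0 < (s:ℝ) ^ m := by positivity
      linarith
    obtain ⟨j, hj⟩ := hev
    refine ⟨j, by omega, by omega, ?_⟩
    rw [hix, hj]
    show _ = 2 * s * cos (2 * j * π / m)
    push_cast; ring_nf
  -- counting
  have hcard := card_spec_gt D hz
  have stepB : xf 1 ∈ spec hz := by
    by_contra hnot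
    have hsub : spec hz ⊆ insert (1 + (s:ℝ) * s) (((Finset.Icc 1 h).erase 1).image xf) := by
      intro x hx
      rcases stepA x hx with h1 | ⟨j, hj1', hjh', hjx⟩
      · simp [h1]
      · have hne : j ≠ 1 := by
          rintro rfl; exact hnot (hjx ▸ hx)
        simp only [Finset.mem_insert, Finset.mem_image, Finset.mem_erase, Finset.mem_Icc]
        right
        exact ⟨j, ⟨hne, hj1', hjh'⟩, hjx.symm⟩
    have hc := Finset.card_le_card hsub
    have h1 : (insert (1 + (s:ℝ) * s) (((Finset.Icc 1 h).erase 1).image xf)).card ≤ h := by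
      refine le_trans (Finset.card_insert_le _ _) ?_
      have := Finset.card_image_le (s := (Finset.Icc 1 h).erase 1) (f := xf)
      rw [Finset.card_erase_of_mem (by simp; omega), Nat.card_Icc] at this
      omega
    omega
  -- the formula at x₁
  have hcos : |cos (2 * ((1:ℕ):ℝ) * π / m)| < 1 := by
    have h1 : 0 < 2 * ((1:ℕ):ℝ) * π / m := by positivity
    have h2 : 2 * ((1:ℕ):ℝ) * π / m < π := by
      rw [div_lt_iff₀ hmpos]
      have : (5:ℝ) ≤ m := by exact_mod_cast h5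
      push_cast
      nlinarith [pi_pos]
    rw [abs_lt]
    constructor
    · rw [← cos_pi]; exact cos_lt_cos_of_nonneg_of_le_pi h1.le le_rfl h2
    · rw [← cos_zero]; exact cos_lt_cos_of_nonneg_of_le_pi le_rfl h2.le h1
  have hlt : |xf 1| < 2 * s := by
    show |2 * s * cos (2 * ((1:ℕ):ℝ) * π / m)| < 2 * s
    rw [abs_mul, abs_of_pos (by positivity : (0:ℝ) < 2 * s)]
    nlinarith
  have habs := abs_lt.mp hlt
  have hx1 : xf 1 ≠ 1 + (s:ℝ) * s := by intro h0; nlinarith [sq_nonneg ((s:ℝ) - 1)]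
  have hx2 : xf 1 ≠ -((s:ℝ) + s) := by intro h0; linarith
  have hx4 : 4 * ((s:ℝ) * s) - xf 1 ^ 2 ≠ 0 := by
    have : xf 1 ^ 2 < (2 * s) ^ 2 := by
      apply sq_lt_sq' <;> linarith
    intro h0; nlinarith
  obtain ⟨hEP, hES⟩ := specProj_EP D hz (xf 1)
  obtain ⟨d, hdpos, hd⟩ := trace_specProj_pos D hz (xf 1) stepB
  have hdne : (specProj hz (xf 1)).trace ≠ 0 := by rw [hd]; positivity
  have hf := (odd_formula D h hm hEP hES hdne hx1 hx2).2.2 hx4
  rw [hd] at hf
  have hm0 : 0 < m := by omega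
  exact odd_end s hs2 m h5 ⟨h, hm⟩ (2 * Fintype.card Ω) (m * d) (Nat.mul_pos hm0 hdpos) (xf 1)
    (by show 2 * s * cos (2 * ((1:ℕ):ℝ) * π / m) = _; push_cast; ring_nf)
    (by push_cast; linarith)

end Cfsg.Agent.Lib.Helper9.FHMainC
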