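import Mathlib
import Cfsg.Agent.Lib.Helper9.FHMainB
import Cfsg.Agent.Lib.Helper9.FHMainC

set_option autoImplicit false

namespace Cfsg.Agent.Lib.Helper9.FHMain

open Matrix Cfsg.Agent.Lib.Helper9.FHData Cfsg.Agent.Lib.Helper9.FHMainB Cfsg.Agent.Lib.Helper9.FHMainC

variable {Ω : Type*} [Fintype Ω] [DecidableEq Ω]
variable {m s t : ℕ} {a b : Matrix Ω Ω ℝ}

/-- Feit–Higman for abstract Hecke data: `m ∈ {2,3,4,6,8}`. -/
theorem main [Nonempty Ω] (D : FHD m s t a b) : m = 2 ∨ m = 3 ∨ m = 4 ∨ m = 6 ∨ m = 8 := by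
  have hm2 := D.hm
  rcases Nat.even_or_odd' m with ⟨h, hm | hm⟩
  · by_cases hh : 5 ≤ h
    · exact (even_case D h hm hh).elim
    · omega
  · by_cases h5 : 5 ≤ m
    · exact (odd_case D h hm h5).elim
    · omega

end Cfsg.Agent.Lib.Helper9.FHMain
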