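import Mathlib
import Cfsg.Prelude.Def_LieExceptional
import Cfsg.Agent.Lib.Helper9.FHDih
import Cfsg.Agent.Lib.Helper9.FHBN
import Cfsg.Agent.Lib.Helper9.FHData

set_option autoImplicit false
set_option linter.unusedSectionVars false
set_option linter.unusedSimpArgs false

namespace Cfsg.Agent.Lib.Helper9.FHMat

open Cfsg Cfsg.Agent.Lib.Helper9.FHDih Cfsg.Agent.Lib.Helper9.FHBN
  Cfsg.Agent.Lib.Helper9.FHData Matrix

variable {G : Type*} [Group G] (P : Cfsg.BNPair G)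

/-- the relation on `G ⧸ B` given by the double coset of `w`. -/
def rel (w : WW P) (x y : G ⧸ P.B) : Prop := x.out⁻¹ * y.out ∈ CC P w

lemma rel_mk (w : WW P) (g h : G) :
    rel P w (QuotientGroup.mk g) (QuotientGroup.mk h) ↔ g⁻¹ * h ∈ CC P w := by
  obtain ⟨⟨b, hb⟩, hb'⟩ := QuotientGroup.mk_out_eq_mul P.B g
  obtain ⟨⟨c, hc⟩, hc'⟩ := QuotientGroup.mk_out_eq_mul P.B h
  simp only at hb' hc'
  rw [rel, hb', hc']
  have e : (g * b)⁻¹ * (h * c) = b⁻¹ * (g⁻¹ * h) * c := by group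
  rw [e]
  constructor
  · intro hx
    have h1 := CC_mul_B P w _ c⁻¹ (B_mul_CC P w _ b hx hb) (P.B.inv_mem hc)
    have e2 : b * (b⁻¹ * (g⁻¹ * h) * c) * c⁻¹ = g⁻¹ * h := by group
    rwa [e2] at h1
  · intro hx
    exact CC_mul_B P w _ c (B_mul_CC P w _ b⁻¹ hx (P.B.inv_mem hb)) hc

lemma rel_iff (w : WW P) (x y : G ⧸ P.B) (g h : G) (hg : QuotientGroup.mk g = x)
    (hh : QuotientGroup.mk h = y) : rel P w x y ↔ g⁻¹ * h ∈ CC P w := by
  subst hg hh
  exact rel_mk P w g h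

lemma rel_smul (w : WW P) (g : G) (x y : G ⧸ P.B) : rel P w (g • x) (g • y) ↔ rel P w x y := by
  obtain ⟨a, rfl⟩ := QuotientGroup.mk_surjective x
  obtain ⟨b, rfl⟩ := QuotientGroup.mk_surjective y
  have e1 : g • (QuotientGroup.mk a : G ⧸ P.B) = QuotientGroup.mk (g * a) := rfl
  have e2 : g • (QuotientGroup.mk b : G ⧸ P.B) = QuotientGroup.mk (g * b) := rfl
  rw [e1, e2, rel_mk, rel_mk]
  have e : (g * a)⁻¹ * (g * b) = a⁻¹ * b := by group
  rw [e]

lemma rel_one (x y : G ⧸ P.B) : rel P 1 x y ↔ x = y := by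
  obtain ⟨a, rfl⟩ := QuotientGroup.mk_surjective x
  obtain ⟨b, rfl⟩ := QuotientGroup.mk_surjective y
  rw [rel_mk, CC_one, QuotientGroup.eq]

lemma rel_symm (w : WW P) (x y : G ⧸ P.B) (h : rel P w x y) : rel P w⁻¹ y x := by
  have := CC_inv P w _ h
  rwa [_root_.mul_inv_rev, inv_inv] at this

lemma rel_symm_iff (w : WW P) (x y : G ⧸ P.B) : rel P w⁻¹ y x ↔ rel P w x y := by
  constructor
  · intro h
    have := rel_symm P _ _ _ h
    rwa [inv_inv] at this
  · exact rel_symm P w x y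

/-- composition of relations lands in the product of double cosets -/
lemma rel_comp (u v : WW P) (x y z : G ⧸ P.B) (h1 : rel P u x y) (h2 : rel P v y z) :
    ∃ g ∈ CC P u, ∃ h ∈ CC P v, x.out⁻¹ * z.out = g * h :=
  ⟨_, h1, _, h2, by group⟩

section mat

variable [Fintype (G ⧸ P.B)] [DecidableEq (G ⧸ P.B)]

open Classical in
/-- the 0/1 matrix of the double coset of `w`. -/
noncomputable def Mat (w : WW P) : Matrix (G ⧸ P.B) (G ⧸ P.B) ℝ :=
  fun x y => if rel P w x y then 1 else 0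

lemma Mat_apply_of (w : WW P) (x y : G ⧸ P.B) (h : rel P w x y) : Mat P w x y = 1 := by
  unfold Mat; rw [if_pos h]

lemma Mat_apply_not (w : WW P) (x y : G ⧸ P.B) (h : ¬ rel P w x y) : Mat P w x y = 0 := by
  unfold Mat; rw [if_neg h]

lemma Mat_one : Mat P 1 = 1 := by
  ext x y
  by_cases h : x = y
  · rw [Mat_apply_of P 1 x y ((rel_one P x y).mpr h), h, Matrix.one_apply_eq]
  · rw [Mat_apply_not P 1 x y (fun h' => h ((rel_one P x y).mp h')), Matrix.one_apply_ne h]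

lemma Mat_transpose (w : WW P) : (Mat P w)ᵀ = Mat P w⁻¹ := by
  ext x y
  rw [Matrix.transpose_apply]
  by_cases h : rel P w y x
  · rw [Mat_apply_of P w y x h, Mat_apply_of P w⁻¹ x y (rel_symm P w y x h)]
  · rw [Mat_apply_not P w y x h, Mat_apply_not P w⁻¹ x y (fun h' => h ((rel_symm_iff P w y x).mp h'))]

lemma Mat_smul (w : WW P) (g : G) (x y : G ⧸ P.B) : Mat P w (g • x) (g • y) = Mat P w x y := by
  by_cases h : rel P w x y
  · rw [Mat_apply_of P w x y h, Mat_apply_of P w _ _ ((rel_smul P w g x y).mpr h)]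
  · rw [Mat_apply_not P w x y h, Mat_apply_not P w _ _ (fun h' => h ((rel_smul P w g x y).mp h'))]

lemma Mat_sq (w : WW P) (x y : G ⧸ P.B) : Mat P w x y * Mat P w x y = Mat P w x y := by
  by_cases h : rel P w x y
  · rw [Mat_apply_of P w x y h, mul_one]
  · rw [Mat_apply_not P w x y h, mul_zero]

lemma Mat_nonneg (w : WW P) (x y : G ⧸ P.B) : 0 ≤ Mat P w x y := by
  by_cases h : rel P w x y
  · rw [Mat_apply_of P w x y h]; exact zero_le_one
  · rw [Mat_apply_not P w x y h]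

/-- the row sum (number of `B`-cosets in `B w B`). -/
noncomputable def rsum (w : WW P) : ℝ := ∑ y, Mat P w (QuotientGroup.mk 1) y

lemma rsum_eq (w : WW P) (x : G ⧸ P.B) : ∑ y, Mat P w x y = rsum P w := by
  obtain ⟨a, rfl⟩ := QuotientGroup.mk_surjective x
  rw [rsum, ← Equiv.sum_comp (MulAction.toPerm a : Equiv.Perm (G ⧸ P.B))]
  apply Finset.sum_congr rfl
  intro y _
  have e1 : (QuotientGroup.mk a : G ⧸ P.B) = a • (QuotientGroup.mk 1 : G ⧸ P.B) := by
    show _ = QuotientGroup.mk (a * 1); rw [mul_one]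
  rw [e1, MulAction.toPerm_apply, Mat_smul]


open Classical in
/-- the row sum as a natural number -/
noncomputable def rnat (w : WW P) : ℕ :=
  (Finset.univ.filter (fun y : G ⧸ P.B => rel P w (QuotientGroup.mk 1) y)).card

lemma rsum_eq_rnat (w : WW P) : rsum P w = (rnat P w : ℝ) := by
  classical
  rw [rsum, rnat]
  unfold Mat
  rw [Finset.sum_boole]

lemma two_le_rnat (s : G) (hs : s ∈ P.S) : 2 ≤ rnat P (toW P s (P.subset hs)) := by
  classical
  by_contra hlt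
  have hle : rnat P (toW P s (P.subset hs)) ≤ 1 := by omega
  rw [rnat, Finset.card_le_one] at hle
  have hmem : ∀ b ∈ P.B, (QuotientGroup.mk (b * s) : G ⧸ P.B) ∈
      Finset.univ.filter (fun y : G ⧸ P.B => rel P (toW P s (P.subset hs)) (QuotientGroup.mk 1) y) := by
    intro b hb
    rw [Finset.mem_filter]
    refine ⟨Finset.mem_univ _, ?_⟩
    rw [rel_mk, inv_one, one_mul]
    exact B_mul_CC P _ _ _ (mem_CC_toW P s (P.subset hs)) hb
  have hconj : ∀ b ∈ P.B, s⁻¹ * b * s ∈ P.B := by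
    intro b hb
    have h1 := hle _ (hmem 1 P.B.one_mem) _ (hmem b hb)
    rw [one_mul, QuotientGroup.eq] at h1
    rwa [mul_assoc]
  have hs2 : s * s ∈ P.B := P.sq_mem s hs
  apply P.conj_ne s hs
  ext x
  constructor
  · rintro ⟨b, hb, rfl⟩
    have e : s * b * s = (s * s) * (s⁻¹ * b * s) := by group
    show s * b * s ∈ P.B
    rw [e]
    exact P.B.mul_mem hs2 (hconj b hb)
  · intro hx
    refine ⟨s⁻¹ * (x * (s * s)⁻¹) * s, hconj _ (P.B.mul_mem hx (P.B.inv_mem hs2)), ?_⟩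
    simp only
    group


section tits

variable (s₁ s₂ : G) (h₁ : s₁ ∈ P.S) (h₂ : s₂ ∈ P.S)
  (H : DihPair (toW P s₁ (P.subset h₁)) (toW P s₂ (P.subset h₂)))

include H

lemma rel_disjoint (w w' : WW P) (x y : G ⧸ P.B) (h : rel P w x y) (h' : rel P w' x y) : w = w' :=
  bruhat P s₁ s₂ h₁ h₂ H w w' (CC_eq_of_mem P w w' _ h h')

lemma not_rel_self (ς : WW P) (hς : ς = toW P s₁ (P.subset h₁) ∨ ς = toW P s₂ (P.subset h₂))
    (x : G ⧸ P.B) : ¬ rel P ς x x := by
  intro h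
  have h1 : rel P 1 x x := (rel_one P x x).mpr rfl
  exact gen_ne_one P s₁ s₂ h₁ h₂ H ς hς (rel_disjoint P s₁ s₂ h₁ h₂ H _ _ x x h h1)

lemma rel_gen_symm (ς : WW P) (hς : ς = toW P s₁ (P.subset h₁) ∨ ς = toW P s₂ (P.subset h₂))
    (x y : G ⧸ P.B) (h : rel P ς x y) : rel P ς y x := by
  have := rel_symm P ς x y h
  rwa [H.gen_inv ς hς] at this

lemma rel_gen_trans (ς : WW P) (hς : ς = toW P s₁ (P.subset h₁) ∨ ς = toW P s₂ (P.subset h₂))
    (x y z : G ⧸ P.B) (h : rel P ς x y) (h' : rel P ς y z) : x = z ∨ rel P ς x z := by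
  obtain ⟨g, hg, k, hk, e⟩ := rel_comp P ς ς x y z h h'
  rcases ax P s₁ s₂ h₁ h₂ H ς hς ς g k hg hk with h3 | h3
  · left
    rw [H.gen_sq ς hς, ← e] at h3
    exact (rel_one P x z).mp h3
  · right
    rw [← e] at h3
    exact h3

/-- multiplicativity of the matrices when the length goes up. -/
theorem Mat_mul (ς : WW P) (hς : ς = toW P s₁ (P.subset h₁) ∨ ς = toW P s₂ (P.subset h₂))
    (w : WW P) (hlen : H.len w < H.len (ς * w)) : Mat P ς * Mat P w = Mat P (ς * w) := by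
  have hprod : ∀ x y z : G ⧸ P.B, rel P ς x y → rel P w y z → rel P (ς * w) x z := by
    intro x y z h1 h2
    obtain ⟨g, hg, h, hh, e⟩ := rel_comp P ς w x y z h1 h2
    rw [rel, e]
    exact prod_lemma P s₁ s₂ h₁ h₂ H _ ς hς w rfl hlen g h hg hh
  ext x z
  rw [Matrix.mul_apply]
  by_cases hxz : rel P (ς * w) x z
  · rw [Mat_apply_of _ _ _ _ hxz]
    obtain ⟨y₀, hy₀, hy₀'⟩ := CC_split_left P ς w _ hxz
    obtain ⟨y, hy⟩ : ∃ y : G ⧸ P.B, y = QuotientGroup.mk (x.out * y₀) := ⟨_, rfl⟩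
    have hxy : rel P ς x y :=
      (rel_iff P ς x y x.out (x.out * y₀) (QuotientGroup.out_eq' x) hy.symm).mpr (by
        rw [inv_mul_cancel_left]; exact hy₀)
    have hyz : rel P w y z :=
      (rel_iff P w y z (x.out * y₀) z.out hy.symm (QuotientGroup.out_eq' z)).mpr (by
        have e : (x.out * y₀)⁻¹ * z.out = y₀⁻¹ * (x.out⁻¹ * z.out) := by group
        rw [e]; exact hy₀')
    rw [Finset.sum_eq_single y]
    · rw [Mat_apply_of _ _ _ _ hxy, Mat_apply_of _ _ _ _ hyz, mul_one]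
    · intro y' _ hne
      by_cases h1 : rel P ς x y'
      · by_cases h2 : rel P w y' z
        · exfalso
          rcases rel_gen_trans P s₁ s₂ h₁ h₂ H ς hς y x y' (rel_gen_symm P s₁ s₂ h₁ h₂ H ς hς x y hxy) h1
            with h3 | h3
          · exact hne h3.symm
          · have h4 := hprod y y' z h3 h2
            have h5 := rel_disjoint P s₁ s₂ h₁ h₂ H _ _ y z hyz h4
            have h6 : ς = 1 := by
              have h7 : 1 * w = ς * w := by rw [one_mul]; exact h5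
              exact (mul_right_cancel h7).symm
            exact gen_ne_one P s₁ s₂ h₁ h₂ H ς hς h6
        · rw [Mat_apply_not _ _ _ _ h2, mul_zero]
      · rw [Mat_apply_not _ _ _ _ h1, zero_mul]
    · intro h; exact absurd (Finset.mem_univ _) h
  · rw [Mat_apply_not _ _ _ _ hxz]
    apply Finset.sum_eq_zero
    intro y _
    by_cases h1 : rel P ς x y
    · by_cases h2 : rel P w y z
      · exact absurd (hprod x y z h1 h2) hxz
      · rw [Mat_apply_not _ _ _ _ h2, mul_zero]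
    · rw [Mat_apply_not _ _ _ _ h1, zero_mul]

/-- multiplicativity of the row sums. -/
theorem rsum_mul (ς : WW P) (hς : ς = toW P s₁ (P.subset h₁) ∨ ς = toW P s₂ (P.subset h₂))
    (w : WW P) (hlen : H.len w < H.len (ς * w)) : rsum P (ς * w) = rsum P ς * rsum P w := by
  have h1 := Mat_mul P s₁ s₂ h₁ h₂ H ς hς w hlen
  rw [rsum, ← h1]
  simp only [Matrix.mul_apply]
  rw [Finset.sum_comm]
  simp only [← Finset.mul_sum, rsum_eq]
  rw [← Finset.sum_mul]
  rfl

/-- the quadratic relation. -/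
theorem Mat_quad (ς : WW P) (hς : ς = toW P s₁ (P.subset h₁) ∨ ς = toW P s₂ (P.subset h₂)) :
    Mat P ς * Mat P ς = (rsum P ς - 1) • Mat P ς + rsum P ς • (1 : Matrix (G ⧸ P.B) (G ⧸ P.B) ℝ) := by
  obtain ⟨J, hJ⟩ : ∃ J : Matrix (G ⧸ P.B) (G ⧸ P.B) ℝ, J = Mat P ς + 1 := ⟨_, rfl⟩
  have hJ1 : ∀ x y, (x = y ∨ rel P ς x y) → J x y = 1 := by
    intro x y h
    rw [hJ, Matrix.add_apply]
    by_cases hxy : x = y
    · subst hxy
      rw [Mat_apply_not _ _ _ _ (not_rel_self P s₁ s₂ h₁ h₂ H ς hς x), Matrix.one_apply_eq, zero_add]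
    · rw [Mat_apply_of _ _ _ _ (h.resolve_left hxy), Matrix.one_apply_ne hxy, add_zero]
  have hJ0 : ∀ x y, ¬ (x = y ∨ rel P ς x y) → J x y = 0 := by
    intro x y h
    rw [not_or] at h
    rw [hJ, Matrix.add_apply, Mat_apply_not _ _ _ _ h.2, Matrix.one_apply_ne h.1, add_zero]
  have hE : ∀ x y z, (x = y ∨ rel P ς x y) → ((y = z ∨ rel P ς y z) ↔ (x = z ∨ rel P ς x z)) := by
    intro x y z hxy
    rcases hxy with rfl | hxy
    · rfl
    · constructor
      · rintro (rfl | hyz)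
        · exact Or.inr hxy
        · exact rel_gen_trans P s₁ s₂ h₁ h₂ H ς hς x y z hxy hyz
      · rintro (rfl | hxz)
        · exact Or.inr (rel_gen_symm P s₁ s₂ h₁ h₂ H ς hς x y hxy)
        · exact rel_gen_trans P s₁ s₂ h₁ h₂ H ς hς y x z (rel_gen_symm P s₁ s₂ h₁ h₂ H ς hς x y hxy) hxz
  have hpt : ∀ x y z, J x y * J y z = J x y * J x z := by
    intro x y z
    by_cases hxy : (x = y ∨ rel P ς x y)
    · by_cases hyz : (y = z ∨ rel P ς y z)
      · rw [hJ1 y z hyz, hJ1 x z ((hE x y z hxy).mp hyz)]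
      · rw [hJ0 y z hyz, hJ0 x z (fun h => hyz ((hE x y z hxy).mpr h))]
    · rw [hJ0 x y hxy, zero_mul, zero_mul]
  have hrow : ∀ x, ∑ y, J x y = rsum P ς + 1 := by
    intro x
    rw [hJ]
    simp only [Matrix.add_apply]
    rw [Finset.sum_add_distrib, rsum_eq]
    congr 1
    simp [Matrix.one_apply]
  have hJJ : J * J = (rsum P ς + 1) • J := by
    ext x z
    rw [Matrix.mul_apply, Matrix.smul_apply, smul_eq_mul]
    simp only [hpt]
    rw [← Finset.sum_mul, hrow]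
  rw [hJ] at hJJ
  simp only [add_mul, mul_add, mul_one, one_mul] at hJJ
  have e : Mat P ς * Mat P ς = (Mat P ς * Mat P ς + Mat P ς + (Mat P ς + 1)) - Mat P ς - (Mat P ς + 1) := by
    abel
  rw [e, hJJ]
  module

end tits


/-- the family of `2m` Weyl group elements. -/
def famW (m : ℕ) (σ τ : WW P) : Fin m ⊕ Fin m → WW P
  | Sum.inl k => altW k σ τ
  | Sum.inr k => altW (k+1) τ σ

section assemble

variable (s₁ s₂ : G) (h₁ : s₁ ∈ P.S) (h₂ : s₂ ∈ P.S)
  (H : DihPair (toW P s₁ (P.subset h₁)) (toW P s₂ (P.subset h₂)))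

include H

lemma altM_eq_aux (σ τ : WW P)
    (hσ : σ = toW P s₁ (P.subset h₁) ∨ σ = toW P s₂ (P.subset h₂))
    (hτ : τ = toW P s₁ (P.subset h₁) ∨ τ = toW P s₂ (P.subset h₂)) (k : ℕ)
    (hlen : ∀ j ≤ k, H.len (altW j σ τ) = j ∧ H.len (altW j τ σ) = j) :
    (altM k (Mat P σ) (Mat P τ) = Mat P (altW k σ τ) ∧ altM k (Mat P τ) (Mat P σ) = Mat P (altW k τ σ)) ∧
    (rsum P (altW k σ τ) = altq k (rsum P σ) (rsum P τ) ∧
      rsum P (altW k τ σ) = altq k (rsum P τ) (rsum P σ)) := by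
  induction k with
  | zero =>
    have h1 : rsum P (1 : WW P) = 1 := by
      rw [rsum, Mat_one]
      simp [Matrix.one_apply]
    refine ⟨⟨?_, ?_⟩, ?_, ?_⟩
    · rw [altM_zero, altW_zero, Mat_one]
    · rw [altM_zero, altW_zero, Mat_one]
    · rw [altW_zero, altq_zero, h1]
    · rw [altW_zero, altq_zero, h1]
  | succ k ih =>
    obtain ⟨⟨ih1, ih2⟩, ih3, ih4⟩ := ih (fun j hj => hlen j (by omega))
    have hk := hlen k (by omega)
    have hk1 := hlen (k+1) le_rfl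
    have l1 : H.len (altW k τ σ) < H.len (σ * altW k τ σ) := by
      rw [← altW_succ, hk.2, hk1.1]; omega
    have l2 : H.len (altW k σ τ) < H.len (τ * altW k σ τ) := by
      rw [← altW_succ, hk.1, hk1.2]; omega
    refine ⟨⟨?_, ?_⟩, ?_, ?_⟩
    · rw [altM_succ, altW_succ, ih2, Mat_mul P s₁ s₂ h₁ h₂ H σ hσ _ l1]
    · rw [altM_succ, altW_succ, ih1, Mat_mul P s₁ s₂ h₁ h₂ H τ hτ _ l2]
    · rw [altq_succ, altW_succ, rsum_mul P s₁ s₂ h₁ h₂ H σ hσ _ l1, ih4]
    · rw [altq_succ, altW_succ, rsum_mul P s₁ s₂ h₁ h₂ H τ hτ _ l2, ih3]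

open Classical in
/-- the trace form on the matrices `Mat w`. -/
lemma trace_Mat (w w' : WW P) : (Mat P w * (Mat P w')ᵀ).trace =
    if w = w' then (Fintype.card (G ⧸ P.B) : ℝ) * rsum P w else 0 := by
  simp only [Matrix.trace, Matrix.diag_apply, Matrix.mul_apply, Matrix.transpose_apply]
  by_cases hww : w = w'
  · subst hww
    rw [if_pos rfl]
    simp only [Mat_sq, rsum_eq]
    rw [Finset.sum_const, Finset.card_univ, nsmul_eq_mul]
  · rw [if_neg hww]
    apply Finset.sum_eq_zero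
    intro x _
    apply Finset.sum_eq_zero
    intro y _
    by_cases h : rel P w x y
    · have h' : ¬ rel P w' x y := fun h' => hww (rel_disjoint P s₁ s₂ h₁ h₂ H w w' x y h h')
      rw [Mat_apply_not _ _ _ _ h', mul_zero]
    · rw [Mat_apply_not _ _ _ _ h, zero_mul]

variable [Finite G]

lemma famW_inj : Function.Injective
    (famW P (orderOf (toW P s₁ (P.subset h₁) * toW P s₂ (P.subset h₂)))
      (toW P s₁ (P.subset h₁)) (toW P s₂ (P.subset h₂))) := by
  have hsymm := H.orderOf_symm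
  rintro (⟨k, hk⟩ | ⟨k, hk⟩) (⟨j, hj⟩ | ⟨j, hj⟩) h
  · simp only [famW] at h
    rcases lt_trichotomy k j with hlt | heq | hgt
    · exact absurd h.symm (H.not_eq_ab_ab j k hlt (by omega))
    · subst heq; rfl
    · exact absurd h (H.not_eq_ab_ab k j hgt (by omega))
  · simp only [famW] at h
    rcases lt_trichotomy k (j+1) with hlt | heq | hgt
    · exact absurd h.symm (H.symm.not_eq_ab_ba (j+1) k hlt (by rw [hsymm]; omega))
    · subst heq
      exact absurd h (H.not_eq_same (j+1) (by omega) hk)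
    · exact absurd h (H.not_eq_ab_ba k (j+1) hgt (by omega))
  · simp only [famW] at h
    rcases lt_trichotomy j (k+1) with hlt | heq | hgt
    · exact absurd h (H.symm.not_eq_ab_ba (k+1) j hlt (by rw [hsymm]; omega))
    · subst heq
      exact absurd h.symm (H.not_eq_same (k+1) (by omega) hj)
    · exact absurd h.symm (H.not_eq_ab_ba j (k+1) hgt (by omega))
  · simp only [famW] at h
    rcases lt_trichotomy k j with hlt | heq | hgt
    · exact absurd h.symm (H.symm.not_eq_ab_ab (j+1) (k+1) (by omega) (by rw [hsymm]; omega))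
    · subst heq; rfl
    · exact absurd h (H.symm.not_eq_ab_ab (k+1) (j+1) (by omega) (by rw [hsymm]; omega))

/-- the Hecke data of a rank two BN-pair. -/
theorem fhd : FHD (orderOf (toW P s₁ (P.subset h₁) * toW P s₂ (P.subset h₂)))
    (rnat P (toW P s₁ (P.subset h₁))) (rnat P (toW P s₂ (P.subset h₂)))
    (Mat P (toW P s₁ (P.subset h₁))) (Mat P (toW P s₂ (P.subset h₂))) := by
  obtain ⟨σ, hσ⟩ : ∃ σ, σ = toW P s₁ (P.subset h₁) := ⟨_, rfl⟩
  obtain ⟨τ, hτ⟩ : ∃ τ, τ = toW P s₂ (P.subset h₂) := ⟨_, rfl⟩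
  have gσ : σ = toW P s₁ (P.subset h₁) ∨ σ = toW P s₂ (P.subset h₂) := Or.inl hσ
  have gτ : τ = toW P s₁ (P.subset h₁) ∨ τ = toW P s₂ (P.subset h₂) := Or.inr hτ
  have hlen : ∀ k ≤ orderOf (toW P s₁ (P.subset h₁) * toW P s₂ (P.subset h₂)), ∀ j ≤ k,
      H.len (altW j (toW P s₁ (P.subset h₁)) (toW P s₂ (P.subset h₂))) = j ∧
      H.len (altW j (toW P s₂ (P.subset h₂)) (toW P s₁ (P.subset h₁))) = j :=
    fun k hk j hj => ⟨H.len_altW j (by omega), H.len_altW' j (by omega)⟩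
  have key := fun k hk => altM_eq_aux P s₁ s₂ h₁ h₂ H _ _ (Or.inl rfl) (Or.inr rfl) k (hlen k hk)
  have hfam : ∀ i, fam (orderOf (toW P s₁ (P.subset h₁) * toW P s₂ (P.subset h₂)))
      (Mat P (toW P s₁ (P.subset h₁))) (Mat P (toW P s₂ (P.subset h₂))) i =
      Mat P (famW P _ (toW P s₁ (P.subset h₁)) (toW P s₂ (P.subset h₂)) i) := by
    rintro (⟨k, hk⟩ | ⟨k, hk⟩)
    · exact (key k (by omega)).1.1
    · exact (key (k+1) (by omega)).1.2
  have hfamq : ∀ i, famq (orderOf (toW P s₁ (P.subset h₁) * toW P s₂ (P.subset h₂)))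
      ((rnat P (toW P s₁ (P.subset h₁)) : ℕ) : ℝ) ((rnat P (toW P s₂ (P.subset h₂)) : ℕ) : ℝ) i =
      rsum P (famW P _ (toW P s₁ (P.subset h₁)) (toW P s₂ (P.subset h₂)) i) := by
    rw [← rsum_eq_rnat, ← rsum_eq_rnat]
    rintro (⟨k, hk⟩ | ⟨k, hk⟩)
    · exact (key k (by omega)).2.1.symm
    · exact (key (k+1) (by omega)).2.2.symm
  refine ⟨H.m_ge_two, two_le_rnat P s₁ h₁, two_le_rnat P s₂ h₂, ?_, ?_, ?_, ?_, ?_, ?_⟩
  · rw [Mat_transpose, H.σ_inv]
  · rw [Mat_transpose, H.τ_inv]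
  · rw [← rsum_eq_rnat]; exact Mat_quad P s₁ s₂ h₁ h₂ H _ (Or.inl rfl)
  · rw [← rsum_eq_rnat]; exact Mat_quad P s₁ s₂ h₁ h₂ H _ (Or.inr rfl)
  · rw [(key _ le_rfl).1.1, (key _ le_rfl).1.2, H.braidW]
  · intro i j
    rw [hfam, hfam, trace_Mat P s₁ s₂ h₁ h₂ H, hfamq]
    by_cases hij : i = j
    · subst hij; rw [if_pos rfl, if_pos rfl]
    · rw [if_neg hij, if_neg (fun h => hij (famW_inj P s₁ s₂ h₁ h₂ H h))]

end assemble

end mat

end Cfsg.Agent.Lib.Helper9.FHMat
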