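import Cfsg.Agent.Lib.Helper9.FactorSys3

set_option autoImplicit false

namespace Cfsg.Agent.Lib.Helper9

open Cfsg Cfsg.FusionSystem

variable {Ω : Type*} [Group Ω] {S : Subgroup Ω} {Ω' : Type*} [Group Ω']

theorem range_eq_preimageAlong_of_induced [Finite S] (F : FusionSystem S) {S₀ : Subgroup Ω}
    (hS₀ : F.StronglyClosed S₀) (θ : S →* Ω') (hker : ∀ s : S, θ s = 1 ↔ (s : Ω) ∈ S₀)
    {S' : Subgroup Ω'} (hrange : θ.range = S') {P' : Subgroup Ω'} (hP' : P' ≤ S')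
    {φ : (preimageAlong θ P' : Subgroup Ω) →* Ω} (hφ : φ ∈ F.Hom (preimageAlong θ P'))
    {φ' : P' →* Ω'} (hind : InducedAlong θ φ φ') : φ.range = preimageAlong θ φ'.range := by
  obtain ⟨hD, hφS, hDP', hind⟩ := hind
  have hS₀D : S₀ ≤ preimageAlong θ P' := ker_le_preimageAlong θ hS₀.1 hker P'
  apply le_antisymm
  · rintro _ ⟨d, rfl⟩
    rw [mem_preimageAlong]
    refine ⟨hφS d, ?_⟩
    rw [← hind d]
    exact ⟨_, rfl⟩
  · intro y hy
    obtain ⟨hyS, hy'⟩ := (mem_preimageAlong θ _ y).mp hy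
    obtain ⟨x', hx'⟩ := hy'
    obtain ⟨d, hd⟩ := exists_preimage_of_mem_range θ hrange hP' x'
    have h1 : x' = ⟨θ ⟨d, hD d.2⟩, hDP' d⟩ := Subtype.ext hd.symm
    rw [h1, hind] at hx'
    have h2 : θ (⟨φ d, hφS d⟩⁻¹ * ⟨y, hyS⟩) = 1 := by
      rw [map_mul, map_inv, hx', inv_mul_cancel]
    have h3 : (φ d)⁻¹ * y ∈ S₀ := (hker _).mp h2
    obtain ⟨z, -, hz⟩ := exists_preimage_of_stronglyClosed F hS₀ hS₀D hφ _ h3
    refine ⟨d * z, ?_⟩
    rw [map_mul, hz]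
    group

theorem isConj_preimageAlong_of_isConj [Finite S] (F : FusionSystem S) {S₀ : Subgroup Ω}
    (hS₀ : F.StronglyClosed S₀) {S' : Subgroup Ω'} (θ : S →* Ω') (E : FusionSystem S')
    (hE : F.IsFactorSystem S₀ θ E) {P' Q' : Subgroup Ω'} (h : E.IsConj P' Q') :
    F.IsConj (preimageAlong θ P') (preimageAlong θ Q') := by
  obtain ⟨-, hker, hrange, hHom⟩ := hE
  obtain ⟨φ', hφ', hr⟩ := h
  obtain ⟨hP', φ, hφ, hind⟩ := (hHom P' φ').mp hφ'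
  refine ⟨φ, hφ, ?_⟩
  rw [range_eq_preimageAlong_of_induced F hS₀ θ hker hrange hP' hφ hind, hr]

theorem isConj_imageAlong_of_isConj [Finite S] (F : FusionSystem S) {S₀ : Subgroup Ω}
    (hS₀ : F.StronglyClosed S₀) {S' : Subgroup Ω'} (θ : S →* Ω') (E : FusionSystem S')
    (hE : F.IsFactorSystem S₀ θ E) {P' : Subgroup Ω'} (hP' : P' ≤ S') {Q : Subgroup Ω}
    (h : F.IsConj (preimageAlong θ P') Q) :
    E.IsConj P' (imageAlong θ Q) ∧ preimageAlong θ (imageAlong θ Q) = Q := by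
  obtain ⟨-, hker, hrange, hHom⟩ := hE
  obtain ⟨φ, hφ, hr⟩ := h
  have hD : preimageAlong θ P' ≤ S := preimageAlong_le θ P'
  have hS₀D : S₀ ≤ preimageAlong θ P' := ker_le_preimageAlong θ hS₀.1 hker P'
  have hφS : ∀ x, φ x ∈ S := fun x => hom_mem F hφ x
  have hDP' := map_mem_of_mem_preimageAlong θ P'
  have hsurj : ∀ y ∈ P', ∃ x : (preimageAlong θ P' : Subgroup Ω), θ ⟨x, hD x.2⟩ = y :=
    fun y hy => exists_preimage_of_mem_range θ hrange hP' ⟨y, hy⟩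
  have hker' : ∀ x : (preimageAlong θ P' : Subgroup Ω),
      θ ⟨x, hD x.2⟩ = 1 → θ ⟨φ x, hφS x⟩ = 1 := by
    intro x hx
    have h1 : (x : Ω) ∈ S₀ := (hker _).mp hx
    exact (hker _).mpr (map_mem_of_stronglyClosed F hS₀ hφ x h1)
  have hQS : Q ≤ S := hr ▸ range_le F hφ
  have hS₀Q : S₀ ≤ Q := by
    intro t ht
    obtain ⟨z, -, hz⟩ := exists_preimage_of_stronglyClosed F hS₀ hS₀D hφ t ht
    rw [← hr]
    exact ⟨z, hz⟩
  refine ⟨⟨inducedHom θ hD φ hφS P' hDP' hsurj hker',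
    (hHom _ _).mpr ⟨hP', φ, hφ, inducedAlong_inducedHom θ hD φ hφS P' hDP' hsurj hker'⟩, ?_⟩,
    preimageAlong_imageAlong θ hker hQS hS₀Q⟩
  apply le_antisymm
  · rintro _ ⟨x', rfl⟩
    obtain ⟨d, hd⟩ := exists_preimage_of_mem_range θ hrange hP' x'
    have h1 : x' = ⟨θ ⟨d, hD d.2⟩, hDP' d⟩ := Subtype.ext hd.symm
    rw [h1, inducedHom_apply]
    exact (mem_imageAlong θ Q _).mpr ⟨φ d, hφS d, hr ▸ ⟨d, rfl⟩, rfl⟩
  · intro y hy
    obtain ⟨q, hqS, hqQ, rfl⟩ := (mem_imageAlong θ Q y).mp hy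
    rw [← hr] at hqQ
    obtain ⟨d, rfl⟩ := hqQ
    exact ⟨⟨θ ⟨d, hD d.2⟩, hDP' d⟩, inducedHom_apply θ hD φ hφS P' hDP' hsurj hker' d⟩

theorem fullyNormalized_preimageAlong [Finite S] (F : FusionSystem S) {S₀ : Subgroup Ω}
    (hS₀ : F.StronglyClosed S₀) {S' : Subgroup Ω'} (θ : S →* Ω') (E : FusionSystem S')
    (hE : F.IsFactorSystem S₀ θ E) {P' : Subgroup Ω'} (hP'n : E.IsFullyNormalized P') :
    F.IsFullyNormalized (preimageAlong θ P') := by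
  obtain ⟨hP', hmax⟩ := hP'n
  refine ⟨preimageAlong_le θ P', fun Q hQ => ?_⟩
  obtain ⟨hconj, hQeq⟩ := isConj_imageAlong_of_isConj F hS₀ θ E hE hP' hQ
  obtain ⟨hS₀S, hker, hrange, -⟩ := hE
  have h1 := hmax _ hconj
  have hQ'S' : imageAlong θ Q ≤ S' := hrange ▸ imageAlong_le_range θ Q
  have h2 := preimageAlong_normalizerIn θ hrange hQ'S'
  have h3 := preimageAlong_normalizerIn θ hrange hP'
  rw [hQeq] at h2
  have h4 : normalizerIn S' (imageAlong θ Q) ≤ S' := inf_le_left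
  have h5 : normalizerIn S' P' ≤ S' := inf_le_left
  rw [← h2, ← h3, card_preimageAlong θ hS₀S hker hrange h4,
    card_preimageAlong θ hS₀S hker hrange h5]
  exact Nat.mul_le_mul_right _ h1

end Cfsg.Agent.Lib.Helper9
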