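import Cfsg.Agent.Lib.Helper9.SylowConj2

set_option autoImplicit false

namespace Cfsg.Agent.Lib.Helper9

variable {G : Type*} [Group G]

/-- a `p`-subgroup of `P K` (`P` Sylow, `K` normal) is conjugate into `P` by an element of `K` -/
theorem exists_conj_le_sylow_of_le_sup_normal [Finite G] {p : ℕ} [Fact p.Prime] (Sy : Sylow p G)
    (K : Subgroup G) [K.Normal] (B : Subgroup G) (hB : IsPGroup p B)
    (hBM : B ≤ (Sy : Subgroup G) ⊔ K) : ∃ κ ∈ K, ∀ b ∈ B, κ * b * κ⁻¹ ∈ (Sy : Subgroup G) := by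
  have hle : (Sy : Subgroup G) ≤ (Sy : Subgroup G) ⊔ K := le_sup_left
  obtain ⟨m, hm, hmB⟩ := exists_cj_le_of_sylowIn (Sy.subtype hle) (Sylow.coe_subtype Sy hle) hBM hB
  have hAC : (Sy : Subgroup G) ≤ Subgroup.normalizer ((K : Subgroup G) : Set G) := by
    rw [Subgroup.normalizer_eq_top K]
    exact le_top
  obtain ⟨a, ha, κ, hκ, rfl⟩ := exists_mul_of_mem_sup hAC hm
  refine ⟨κ, hκ, fun b hb => ?_⟩
  have h1 : (a * κ) * b * (a * κ)⁻¹ ∈ (Sy : Subgroup G) := hmB ⟨b, hb, rfl⟩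
  have h2 : κ * b * κ⁻¹ = a⁻¹ * ((a * κ) * b * (a * κ)⁻¹) * a := by group
  rw [h2]
  exact Subgroup.mul_mem _ (Subgroup.mul_mem _ (Subgroup.inv_mem _ ha) h1) ha

end Cfsg.Agent.Lib.Helper9
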