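import Cfsg.Agent.Lib.Helper9.FactorSys5
import Cfsg.Agent.Lib.Helper9.ExtenderIff
import Cfsg.Agent.Lib.Helper9.SylowSupNormal

set_option autoImplicit false

namespace Cfsg.Agent.Lib.Helper9

open Cfsg Cfsg.FusionSystem

variable {Ω : Type*} [Group Ω] {S : Subgroup Ω} {Ω' : Type*} [Group Ω']

/-- first step: elements of the preimage of the extender act, modulo `S₀`, like elements of `S` -/
theorem factor_extender_key [Finite S] (F : FusionSystem S) {S₀ : Subgroup Ω}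
    {S' : Subgroup Ω'} (θ : S →* Ω') (E : FusionSystem S')
    (hE : F.IsFactorSystem S₀ θ E) {P' Q' : Subgroup Ω'} (hP' : P' ≤ S')
    {φ' : Q' →* Ω'} (hr' : φ'.range = P')
    {φ : (preimageAlong θ Q' : Subgroup Ω) →* Ω} (hind : InducedAlong θ φ φ')
    (g : Ω) (hg : g ∈ preimageAlong θ (extender S' Q' φ')) :
    ∃ h ∈ normalizerIn S (preimageAlong θ P'),
      ∀ (x : (preimageAlong θ Q' : Subgroup Ω)) (hx : g * (x : Ω) * g⁻¹ ∈ preimageAlong θ Q'),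
        (h * φ x * h⁻¹)⁻¹ * φ ⟨g * x * g⁻¹, hx⟩ ∈ S₀ := by
  obtain ⟨hS₀S, hker, hrange, hHom⟩ := hE
  obtain ⟨hD, hφS, hDP', hind⟩ := hind
  have hfinS' : Finite S' := finite_of_range_eq θ hrange
  have hfinP' : Finite P' := finite_of_le hP'
  have hθS' : ∀ s : S, θ s ∈ S' := fun s => hrange ▸ ⟨s, rfl⟩
  obtain ⟨hgS, hg'⟩ := (mem_preimageAlong θ _ g).mp hg
  obtain ⟨-, hg'N, h', hh'S', hh'⟩ := (mem_extender_iff φ' _).mp hg'
  rw [← hrange] at hh'S'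
  obtain ⟨h, rfl⟩ := hh'S'
  have hhP : (h : Ω) ∈ normalizerIn S (preimageAlong θ P') := by
    rw [← preimageAlong_normalizerIn θ hrange hP', mem_preimageAlong]
    refine ⟨h.2, hθS' h, ?_⟩
    have : Finite ((P' : Set Ω')) := hfinP'
    apply Subgroup.mem_normalizer_fintype
    intro y hy
    rw [← hr'] at hy
    obtain ⟨x', rfl⟩ := hy
    have hx'' : θ ⟨g, hgS⟩ * (x' : Ω') * (θ ⟨g, hgS⟩)⁻¹ ∈ Q' :=
      (Subgroup.mem_normalizer_iff.mp hg'N _).mp x'.2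
    have h1 := hh' x' hx''
    have h2 : θ h * φ' x' * (θ h)⁻¹ ∈ φ'.range := h1 ▸ ⟨_, rfl⟩
    rw [hr'] at h2
    exact h2
  refine ⟨h, hhP, fun x hx => ?_⟩
  have hmemS : (h * φ x * (h : Ω)⁻¹)⁻¹ * φ ⟨g * x * g⁻¹, hx⟩ ∈ S :=
    S.mul_mem (S.inv_mem (S.mul_mem (S.mul_mem h.2 (hφS x)) (S.inv_mem h.2))) (hφS _)
  apply (hker ⟨_, hmemS⟩).mp
  have h3 : (⟨(h * φ x * (h : Ω)⁻¹)⁻¹ * φ ⟨g * x * g⁻¹, hx⟩, hmemS⟩ : S) =
      (h * ⟨φ x, hφS x⟩ * h⁻¹)⁻¹ * ⟨φ ⟨g * x * g⁻¹, hx⟩, hφS _⟩ := Subtype.ext rfl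
  rw [h3, map_mul, map_inv, map_mul, map_mul, map_inv, ← hind x, ← hind ⟨g * x * g⁻¹, hx⟩]
  have hx'' : θ ⟨g, hgS⟩ * ((⟨θ ⟨x, hD x.2⟩, hDP' x⟩ : Q') : Ω') * (θ ⟨g, hgS⟩)⁻¹ ∈ Q' :=
    (Subgroup.mem_normalizer_iff.mp hg'N _).mp (hDP' x)
  have h4 := hh' ⟨θ ⟨x, hD x.2⟩, hDP' x⟩ hx''
  have h5 : (⟨θ ⟨((⟨g * x * g⁻¹, hx⟩ : (preimageAlong θ Q' : Subgroup Ω)) : Ω), hD hx⟩,
      hDP' ⟨g * x * g⁻¹, hx⟩⟩ : Q') =
      ⟨θ ⟨g, hgS⟩ * ((⟨θ ⟨x, hD x.2⟩, hDP' x⟩ : Q') : Ω') * (θ ⟨g, hgS⟩)⁻¹, hx''⟩ := by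
    apply Subtype.ext
    show θ ⟨g * x * g⁻¹, _⟩ = θ ⟨g, hgS⟩ * θ ⟨x, hD x.2⟩ * (θ ⟨g, hgS⟩)⁻¹
    rw [← map_inv, ← map_mul, ← map_mul]
    rfl
  rw [h5, h4]
  group

/-- fully normalized subgroups of a factor system of a saturated system are receptive -/
theorem factorSystem_receptive [Finite S] (p : ℕ) [Fact p.Prime] (hS : IsPGroup p S)
    (F : FusionSystem S) (hF : F.IsSaturated p) {S₀ : Subgroup Ω} (hS₀ : F.StronglyClosed S₀)
    {S' : Subgroup Ω'} (θ : S →* Ω') (E : FusionSystem S') (hE : F.IsFactorSystem S₀ θ E)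
    {P' : Subgroup Ω'} (hP'n : E.IsFullyNormalized P') : E.IsReceptive P' := by
  have hPn := fullyNormalized_preimageAlong F hS₀ θ E hE hP'n
  have hP' := hP'n.1
  have hPS : preimageAlong θ P' ≤ S := preimageAlong_le θ P'
  have hfinP : Finite (preimageAlong θ P' : Subgroup Ω) := finite_of_le hPS
  refine ⟨hP', ?_⟩
  intro Q' φ' hφ' hr'
  have hE' := hE
  obtain ⟨hS₀S, hker, hrange, hHom⟩ := hE'
  have hθS' : ∀ s : S, θ s ∈ S' := fun s => hrange ▸ ⟨s, rfl⟩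
  obtain ⟨hQ', φ, hφ, hind⟩ := (hHom Q' φ').mp hφ'
  have hr : φ.range = preimageAlong θ P' := by
    rw [range_eq_preimageAlong_of_induced F hS₀ θ hker hrange hQ' hφ hind, hr']
  have hkey := factor_extender_key F θ E hE hP' hr' hind
  obtain ⟨hD, hφS, hDP', hind⟩ := hind
  have hN'S' : extender S' Q' φ' ≤ S' := (extender_le_normalizerIn Q' φ').trans inf_le_left
  have hφ'S' : ∀ x, φ' x ∈ S' := fun x => hom_mem E hφ' x
  have hQ'N' : Q' ≤ extender S' Q' φ' := le_extender hQ' φ' hφ'S'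
  have hNS : preimageAlong θ (extender S' Q' φ') ≤ S := preimageAlong_le θ _
  have hQN : preimageAlong θ Q' ≤ preimageAlong θ (extender S' Q' φ') :=
    preimageAlong_mono θ hQ'N'
  have hNnorm : preimageAlong θ (extender S' Q' φ') ≤ normalizerIn S (preimageAlong θ Q') := by
    rw [← preimageAlong_normalizerIn θ hrange hQ']
    exact preimageAlong_mono θ (extender_le_normalizerIn Q' φ')
  -- the transported automorphisms
  set e := equivOfRange φ (F.injective_of_mem hφ) hr with he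
  have heφ : ∀ x, ((e x : (preimageAlong θ P' : Subgroup Ω)) : Ω) = φ x := fun x => rfl
  set B : Subgroup (MulAut (preimageAlong θ P' : Subgroup Ω)) :=
    (autInducedBy (preimageAlong θ (extender S' Q' φ')) (preimageAlong θ Q')).map
      (MulAut.congr e).toMonoidHom with hB
  have hBA : B ≤ F.autGroup (preimageAlong θ P') := by
    rintro _ ⟨γ, hγ, rfl⟩
    apply congr_mem_autGroup F hφ hr
    exact autInducedBy_le_autGroup F hD (autInducedBy_mono hNS _ hγ)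
  have hBp : IsPGroup p B := by
    apply IsPGroup.map
    have hNp : IsPGroup p (preimageAlong θ (extender S' Q' φ') : Subgroup Ω) :=
      isPGroup_of_le hS hNS
    exact isPGroup_autInducedBy hNp _
  -- the kernel `K` of the action modulo `S₀`
  have hnormal := stabChain_normal (F.autGroup (preimageAlong θ P'))
    (modChain S₀ (preimageAlong θ P')) (modChain_inv F hS₀ hPS)
  set K : Subgroup (F.autGroup (preimageAlong θ P')) :=
    (stabChain (F.autGroup (preimageAlong θ P')) (modChain S₀ (preimageAlong θ P'))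
      (modChain_inv F hS₀ hPS)).subgroupOf (F.autGroup (preimageAlong θ P')) with hK
  have hmemK : ∀ β : F.autGroup (preimageAlong θ P'), β ∈ K ↔
      ∀ x : (preimageAlong θ P' : Subgroup Ω),
        (x : Ω)⁻¹ * (((β : MulAut (preimageAlong θ P' : Subgroup Ω)) x :
          (preimageAlong θ P' : Subgroup Ω)) : Ω) ∈ S₀ := by
    intro β
    rw [hK, Subgroup.mem_subgroupOf, mem_stabChain_modChain F hS₀ hPS]
    exact ⟨fun h => h.2, fun h => ⟨β.2, h⟩⟩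
  obtain ⟨-, Sy, hSy⟩ := fullyAutomized_of_fullyNormalized hS F hF hPn
  have hBM : B.subgroupOf (F.autGroup (preimageAlong θ P')) ≤
      (Sy : Subgroup (F.autGroup (preimageAlong θ P'))) ⊔ K := by
    rintro ⟨_, hβA⟩ ⟨γ, hγ, rfl⟩
    obtain ⟨g, hgN, hgγ⟩ := (mem_autInducedBy_iff _ _ γ).mp hγ
    obtain ⟨h, hhP, hh⟩ := hkey g hgN
    -- conjugation by `h` on `P`
    have hc : conjAut (preimageAlong θ P') ⟨h, hhP.2⟩ ∈ autInducedBy S (preimageAlong θ P') :=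
      (mem_autInducedBy_iff _ _ _).mpr ⟨h, hhP.1, fun x => rfl⟩
    have hcA := autInducedBy_le_autGroup F hPS hc
    have hdecomp : (⟨(MulAut.congr e).toMonoidHom γ, hβA⟩ : F.autGroup (preimageAlong θ P')) =
        ⟨conjAut (preimageAlong θ P') ⟨h, hhP.2⟩, hcA⟩ *
          (⟨conjAut (preimageAlong θ P') ⟨h, hhP.2⟩, hcA⟩⁻¹ *
            ⟨(MulAut.congr e).toMonoidHom γ, hβA⟩) := by group
    rw [hdecomp]
    apply Subgroup.mul_mem_sup
    · rw [hSy]; exact hc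
    · rw [hmemK]
      intro y
      obtain ⟨x, rfl⟩ := e.surjective y
      show ((e x : (preimageAlong θ P' : Subgroup Ω)) : Ω)⁻¹ *
        (((conjAut (preimageAlong θ P') ⟨h, hhP.2⟩)⁻¹ (e (γ (e.symm (e x)))) :
          (preimageAlong θ P' : Subgroup Ω)) : Ω) ∈ S₀
      rw [MulEquiv.symm_apply_apply]
      have hγx : g * (x : Ω) * g⁻¹ ∈ preimageAlong θ Q' := by
        rw [← hgγ x]; exact (γ x).2
      have hγx' : γ x = ⟨g * (x : Ω) * g⁻¹, hγx⟩ := Subtype.ext (hgγ x)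
      rw [hγx']
      have h1 := hh x hγx
      have h2 : (((conjAut (preimageAlong θ P') ⟨h, hhP.2⟩)⁻¹ (e ⟨g * (x : Ω) * g⁻¹, hγx⟩) :
          (preimageAlong θ P' : Subgroup Ω)) : Ω) = h⁻¹ * φ ⟨g * (x : Ω) * g⁻¹, hγx⟩ * h := rfl
      rw [h2, heφ]
      have h3 : (φ x)⁻¹ * (h⁻¹ * φ ⟨g * (x : Ω) * g⁻¹, hγx⟩ * h) =
          h⁻¹ * ((h * φ x * h⁻¹)⁻¹ * φ ⟨g * (x : Ω) * g⁻¹, hγx⟩) * h⁻¹⁻¹ := by group
      rw [h3]
      exact conj_mem_of_stronglyClosed F hS₀ (S.inv_mem hhP.1) h1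
  have hB'p : IsPGroup p (B.subgroupOf (F.autGroup (preimageAlong θ P'))) := hBp.comap_subtype
  obtain ⟨κ, hκK, hκ⟩ := exists_conj_le_sylow_of_le_sup_normal Sy K _ hB'p hBM
  -- the modified map `φ₁ = κ ∘ φ`
  have hκP := hom_of_mem_autGroup F hPS κ.2
  have hφP : ∀ x, φ x ∈ preimageAlong θ P' := fun x => hr.le ⟨x, rfl⟩
  obtain ⟨φ₁, hφ₁, hφ₁e⟩ := comp_hom F hφ hκP hφP
  have hφ₁e' : ∀ x, φ₁ x = (((κ : MulAut (preimageAlong θ P' : Subgroup Ω)) (e x) :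
      (preimageAlong θ P' : Subgroup Ω)) : Ω) := fun x => hφ₁e x
  have hr₁ : φ₁.range = preimageAlong θ P' := by
    apply le_antisymm
    · rintro _ ⟨x, rfl⟩
      rw [hφ₁e']
      exact ((κ : MulAut (preimageAlong θ P' : Subgroup Ω)) (e x)).2
    · intro y hy
      refine ⟨e.symm ((κ : MulAut (preimageAlong θ P' : Subgroup Ω))⁻¹ ⟨y, hy⟩), ?_⟩
      rw [hφ₁e', MulEquiv.apply_symm_apply, MulAut.apply_inv_self]
  have hNext : preimageAlong θ (extender S' Q' φ') ≤ extender S (preimageAlong θ Q') φ₁ := by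
    intro g hgN
    rw [mem_extender_iff]
    have hgnorm := hNnorm hgN
    refine ⟨hgnorm.1, hgnorm.2, ?_⟩
    have hγ : conjAut (preimageAlong θ Q') ⟨g, hgnorm.2⟩ ∈
        autInducedBy (preimageAlong θ (extender S' Q' φ')) (preimageAlong θ Q') :=
      (mem_autInducedBy_iff _ _ _).mpr ⟨g, hgN, fun x => rfl⟩
    have hβB : (MulAut.congr e).toMonoidHom (conjAut (preimageAlong θ Q') ⟨g, hgnorm.2⟩) ∈ B :=
      ⟨_, hγ, rfl⟩
    have h1 := hκ ⟨_, hBA hβB⟩ hβB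
    rw [hSy] at h1
    obtain ⟨h₁, hh₁S, hh₁⟩ := (mem_autInducedBy_iff S _ _).mp h1
    refine ⟨h₁, hh₁S, fun x hx => ?_⟩
    have h2 := hh₁ ((κ : MulAut (preimageAlong θ P' : Subgroup Ω)) (e x))
    rw [hφ₁e', hφ₁e', ← h2]
    show _ = (((κ : MulAut (preimageAlong θ P' : Subgroup Ω))
      (e (conjAut (preimageAlong θ Q') ⟨g, hgnorm.2⟩ (e.symm
        ((κ : MulAut (preimageAlong θ P' : Subgroup Ω))⁻¹
          ((κ : MulAut (preimageAlong θ P' : Subgroup Ω)) (e x)))))) :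
        (preimageAlong θ P' : Subgroup Ω)) : Ω)
    rw [MulAut.inv_apply_self, MulEquiv.symm_apply_apply]
    rfl
  -- extend `φ₁`
  have hrec := receptive_of_fullyCentralized hS F hF (fullyCentralized_of_fullyNormalized hS F hF hPn)
  obtain ⟨φh, hφh, hφhe⟩ := hrec.2 _ φ₁ hφ₁ hr₁
  have hφN := restrict_mem F hφh hNext
  set φN := φh.comp (Subgroup.inclusion hNext) with hφNdef
  have hφNS : ∀ x, φN x ∈ S := fun x => hom_mem F hφN x
  have hDP'N := map_mem_of_mem_preimageAlong θ (extender S' Q' φ')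
  have hsurj : ∀ y ∈ extender S' Q' φ',
      ∃ x : (preimageAlong θ (extender S' Q' φ') : Subgroup Ω), θ ⟨x, hNS x.2⟩ = y :=
    fun y hy => exists_preimage_of_mem_range θ hrange hN'S' ⟨y, hy⟩
  have hker' : ∀ x : (preimageAlong θ (extender S' Q' φ') : Subgroup Ω),
      θ ⟨x, hNS x.2⟩ = 1 → θ ⟨φN x, hφNS x⟩ = 1 := by
    intro x hx
    have h1 : (x : Ω) ∈ S₀ := (hker _).mp hx
    exact (hker _).mpr (map_mem_of_stronglyClosed F hS₀ hφN x h1)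
  refine ⟨inducedHom θ hNS φN hφNS _ hDP'N hsurj hker',
    (hHom _ _).mpr ⟨hN'S', φN, hφN, inducedAlong_inducedHom θ hNS φN hφNS _ hDP'N hsurj hker'⟩, ?_⟩
  intro x' hx'Q hx'N
  obtain ⟨d, hd⟩ := exists_preimage_of_mem_range θ hrange hQ' ⟨x', hx'Q⟩
  have h1 : (⟨x', hx'N⟩ : extender S' Q' φ') =
      ⟨θ ⟨((⟨d, hQN d.2⟩ : (preimageAlong θ (extender S' Q' φ') : Subgroup Ω)) : Ω),
        hNS (hQN d.2)⟩, hDP'N ⟨d, hQN d.2⟩⟩ := Subtype.ext hd.symm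
  have h2 : (⟨x', hx'Q⟩ : Q') = ⟨θ ⟨d, hD d.2⟩, hDP' d⟩ := Subtype.ext hd.symm
  rw [h1, inducedHom_apply, h2, hind d]
  have h3 : φN ⟨d, hQN d.2⟩ = φ₁ d := hφhe d d.2 (hNext (hQN d.2))
  have h4 := (hmemK κ).mp hκK (e d)
  rw [heφ, ← hφ₁e'] at h4
  have h5 : (⟨φN ⟨d, hQN d.2⟩, hφNS _⟩ : S) =
      ⟨φ d, hφS d⟩ * ⟨(φ d)⁻¹ * φ₁ d, hS₀S h4⟩ := by
    apply Subtype.ext
    show φN ⟨d, hQN d.2⟩ = φ d * ((φ d)⁻¹ * φ₁ d)
    rw [h3]; group
  have h6 : θ ⟨(φ d)⁻¹ * φ₁ d, hS₀S h4⟩ = 1 := (hker _).mpr h4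
  rw [h5, map_mul, h6, mul_one]

end Cfsg.Agent.Lib.Helper9
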