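import Mathlib
import Cfsg.Agent.Lib.Helper9.SylowConj

set_option autoImplicit false

namespace Cfsg.Agent.Lib.Helper9

variable {G : Type*} [Group G]

theorem smul_mk_eq_iff (H : Subgroup G) (x g : G) :
    x • (QuotientGroup.mk g : G ⧸ H) = QuotientGroup.mk g ↔ g⁻¹ * x * g ∈ H := by
  rw [MulAction.Quotient.smul_mk, QuotientGroup.eq]
  constructor
  · intro h
    have := H.inv_mem h
    have e : ((x • g)⁻¹ * g)⁻¹ = g⁻¹ * x * g := by
      show ((x * g)⁻¹ * g)⁻¹ = _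
      group
    rwa [e] at this
  · intro h
    have := H.inv_mem h
    have e : (g⁻¹ * x * g)⁻¹ = (x • g)⁻¹ * g := by
      show _ = (x * g)⁻¹ * g
      group
    rwa [e] at this

/-- S5437 -/
theorem fix_unique_coset_iff [Finite G] (I : Set G) (hI : ∀ x ∈ I, orderOf x = 2)
    (hIc : ∀ g : G, ∀ x ∈ I, g * x * g⁻¹ ∈ I) (H : Subgroup G) :
    ((∀ x ∈ I, x ∈ H → (∀ g : G, g * x * g⁻¹ ∈ H → ∃ h ∈ H, h * x * h⁻¹ = g * x * g⁻¹) ∧
        Subgroup.centralizer ({x} : Set G) ≤ H) ↔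
      (∀ g : G, g ∉ H → ∀ x ∈ I,
        ¬ (x ∈ H ∧ x ∈ (H : Subgroup G).map (MulAut.conj g).toMonoidHom))) ∧
    ((∀ g : G, g ∉ H → ∀ x ∈ I,
        ¬ (x ∈ H ∧ x ∈ (H : Subgroup G).map (MulAut.conj g).toMonoidHom)) ↔
      ∀ x ∈ I, x ∈ H → ∃! c : G ⧸ H, x • c = c) := by
  refine ⟨⟨?_, ?_⟩, ⟨?_, ?_⟩⟩
  · -- (1) ⇒ (2)
    intro h1 g hg x hxI ⟨hxH, hxg⟩
    rw [mem_cj] at hxg
    have hx'I : g⁻¹ * x * g ∈ I := by
      have := hIc g⁻¹ x hxI
      rwa [inv_inv] at this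
    obtain ⟨h2, h3⟩ := h1 _ hx'I hxg
    have e : g * (g⁻¹ * x * g) * g⁻¹ = x := by group
    obtain ⟨h, hh, hhx⟩ := h2 g (by rw [e]; exact hxH)
    apply hg
    have hc : h⁻¹ * g ∈ Subgroup.centralizer ({g⁻¹ * x * g} : Set G) := by
      rw [Subgroup.mem_centralizer_iff]
      intro w hw
      rw [Set.mem_singleton_iff] at hw
      rw [hw]
      calc g⁻¹ * x * g * (h⁻¹ * g) = h⁻¹ * (h * (g⁻¹ * x * g) * h⁻¹) * g := by group
        _ = h⁻¹ * (g * (g⁻¹ * x * g) * g⁻¹) * g := by rw [hhx]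
        _ = h⁻¹ * g * (g⁻¹ * x * g) := by group
    have := H.mul_mem hh (h3 hc)
    have e2 : h * (h⁻¹ * g) = g := by group
    rwa [e2] at this
  · -- (2) ⇒ (1)
    intro h2 x hxI hxH
    constructor
    · intro g hg
      refine ⟨g, ?_, rfl⟩
      by_contra hgH
      apply h2 g hgH _ (hIc g x hxI)
      refine ⟨hg, ?_⟩
      rw [mem_cj]
      have e : g⁻¹ * (g * x * g⁻¹) * g = x := by group
      rw [e]
      exact hxH
    · intro c hc
      by_contra hcH
      apply h2 c hcH x hxI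
      refine ⟨hxH, ?_⟩
      rw [mem_cj]
      rw [Subgroup.mem_centralizer_iff] at hc
      have := hc x (Set.mem_singleton x)
      have e : c⁻¹ * x * c = x := by
        calc c⁻¹ * x * c = c⁻¹ * (x * c) := by group
          _ = c⁻¹ * (c * x) := by rw [this]
          _ = x := by group
      rw [e]
      exact hxH
  · -- (2) ⇒ (3)
    intro h2 x hxI hxH
    refine ⟨(QuotientGroup.mk 1 : G ⧸ H), ?_, ?_⟩
    · show x • (QuotientGroup.mk 1 : G ⧸ H) = QuotientGroup.mk 1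
      rw [smul_mk_eq_iff]
      simpa using hxH
    · intro c hc
      obtain ⟨g, rfl⟩ := QuotientGroup.mk_surjective c
      have hc' : x • (QuotientGroup.mk g : G ⧸ H) = QuotientGroup.mk g := hc
      rw [smul_mk_eq_iff] at hc'
      have hgH : g ∈ H := by
        by_contra hgH
        exact h2 g hgH x hxI ⟨hxH, mem_cj.mpr hc'⟩
      rw [QuotientGroup.eq]
      exact H.mul_mem (H.inv_mem hgH) H.one_mem
  · -- (3) ⇒ (2)
    intro h3 g hg x hxI ⟨hxH, hxg⟩
    obtain ⟨c, -, huniq⟩ := h3 x hxI hxH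
    have e1 : (QuotientGroup.mk 1 : G ⧸ H) = c := by
      apply huniq
      show x • (QuotientGroup.mk 1 : G ⧸ H) = QuotientGroup.mk 1
      rw [smul_mk_eq_iff]
      simpa using hxH
    have e2 : (QuotientGroup.mk g : G ⧸ H) = c := by
      apply huniq
      show x • (QuotientGroup.mk g : G ⧸ H) = QuotientGroup.mk g
      rw [smul_mk_eq_iff]
      exact mem_cj.mp hxg
    apply hg
    have := e1.trans e2.symm
    rw [QuotientGroup.eq] at this
    simpa using this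

end Cfsg.Agent.Lib.Helper9
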