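import Mathlib

/-!
# S3390, step (I.2): the sign of a free action of a non-cyclic `2`-group

* `sign_of_semiregular` : a semiregular permutation of order `2^k` (`k ≠ 0`) has sign
  `(-1)^(card Ω / 2^k)`.
* `sign_eq_one_of_free` : every element of a non-cyclic `2`-group acting freely is even.
* `exists_index_two_of_sign` : the kernel of the sign of a permutation action meets a non-cyclic
  Sylow-like `2`-subgroup `S` (fixing `{α, β}`, free elsewhere) in the stabilizer `T` of `α`.
-/

set_option autoImplicit false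

namespace Cfsg.Agent.Lib.Helper9.FixSign

theorem sign_of_semiregular {Ω : Type*} [Fintype Ω] [DecidableEq Ω] (τ : Equiv.Perm Ω) (k : ℕ)
    (hk1 : k ≠ 0) (hk : orderOf τ = 2 ^ k)
    (hsr : ∀ w : Ω, ∀ n : ℕ, (τ ^ n) w = w → τ ^ n = 1) :
    Equiv.Perm.sign τ = (-1) ^ (Fintype.card Ω / 2 ^ k) := by
  have hall : ∀ b ∈ τ.cycleType, b = 2 ^ k := by
    intro b hb
    have hd : b ∣ 2 ^ k := hk ▸ Equiv.Perm.dvd_of_mem_cycleType hb
    rw [Equiv.Perm.cycleType_def, Multiset.mem_map] at hb
    obtain ⟨c, hc, rfl⟩ := hb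
    have hc' : c ∈ τ.cycleFactorsFinset := hc
    obtain ⟨hcyc, -⟩ := Equiv.Perm.mem_cycleFactorsFinset_iff.mp hc'
    obtain ⟨x, hx⟩ := hcyc.nonempty_support
    have hca : c = τ.cycleOf x := Equiv.Perm.cycle_is_cycleOf hx hc'
    have hord : orderOf c = c.support.card := hcyc.orderOf
    have h1 : (τ ^ c.support.card) x = x := by
      rw [← Equiv.Perm.cycleOf_pow_apply_self, ← hca, ← hord, pow_orderOf_eq_one]
      rfl
    have h2 : τ ^ c.support.card = 1 := hsr x _ h1
    have h3 : 2 ^ k ∣ c.support.card := hk ▸ orderOf_dvd_of_pow_eq_one h2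
    exact Nat.dvd_antisymm hd h3
  have hrep : τ.cycleType = Multiset.replicate (Multiset.card τ.cycleType) (2 ^ k) :=
    Multiset.eq_replicate_card.mpr hall
  have hτ1 : τ ≠ 1 := by
    intro h
    rw [h, orderOf_one] at hk
    have : 2 ≤ 2 ^ k := by
      calc 2 = 2 ^ 1 := by norm_num
        _ ≤ 2 ^ k := Nat.pow_le_pow_right (by norm_num) (Nat.pos_of_ne_zero hk1)
    omega
  have hfix : Fintype.card (Function.fixedPoints τ) = 0 := by
    rw [Fintype.card_eq_zero_iff]
    constructor
    rintro ⟨w, hw⟩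
    apply hτ1
    have := hsr w 1 (by rw [pow_one]; exact hw)
    simpa using this
  have hev : ¬ Odd (2 ^ k) := by
    rw [Nat.not_odd_iff_even]
    exact (Nat.even_pow.mpr ⟨even_two, hk1⟩)
  rw [Equiv.Perm.sign_of_cycleType_eq_replicate (by positivity) hrep, if_neg hev, hfix,
    Nat.sub_zero]

theorem sign_eq_one_of_free {H X : Type*} [Group H] [Finite H] [Fintype X] [DecidableEq X]
    [MulAction H X] (a : ℕ) (hH : Nat.card H = 2 ^ a) (hnc : ¬ IsCyclic H)
    (hfree : ∀ x : X, MulAction.stabilizer H x = ⊥) (h : H) :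
    Equiv.Perm.sign (MulAction.toPerm h : Equiv.Perm X) = 1 := by
  classical
  set τ : Equiv.Perm X := MulAction.toPerm h with hτ
  by_cases hτ1 : τ = 1
  · rw [hτ1, map_one]
  have hone : (MulAction.toPerm (1 : H) : Equiv.Perm X) = 1 := by
    ext x
    simp
  have hpow : ∀ n : ℕ, τ ^ n = MulAction.toPerm (h ^ n) := by
    intro n
    rw [hτ, ← MulAction.toPermHom_apply, ← map_pow]
    rfl
  have hsr : ∀ w : X, ∀ n : ℕ, (τ ^ n) w = w → h ^ n = 1 := by
    intro w n hw
    rw [hpow n] at hw
    have h1 : h ^ n ∈ MulAction.stabilizer H w := hw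
    rw [hfree w, Subgroup.mem_bot] at h1
    exact h1
  -- `X` is nonempty
  obtain ⟨w₀⟩ : Nonempty X := by
    by_contra hne
    rw [not_nonempty_iff] at hne
    exact hτ1 (Subsingleton.elim _ _)
  have hord : orderOf τ = orderOf h := by
    apply Nat.dvd_antisymm
    · apply orderOf_dvd_of_pow_eq_one
      rw [hpow, pow_orderOf_eq_one]
      exact hone
    · apply orderOf_dvd_of_pow_eq_one
      apply hsr w₀
      rw [pow_orderOf_eq_one]
      rfl
  have hdvd : orderOf h ∣ 2 ^ a := hH ▸ orderOf_dvd_natCard h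
  obtain ⟨k, hka, hk⟩ := (Nat.dvd_prime_pow Nat.prime_two).mp hdvd
  have hk1 : k ≠ 0 := by
    rintro rfl
    rw [pow_zero, orderOf_eq_one_iff] at hk
    apply hτ1
    rw [hτ, hk]
    exact hone
  have hklt : k < a := by
    rcases Nat.lt_or_ge k a with h1 | h1
    · exact h1
    · exfalso
      have : k = a := le_antisymm hka h1
      apply hnc
      apply isCyclic_of_orderOf_eq_card h
      rw [hk, this, hH]
  have hcard : Fintype.card X = Nat.card (Quotient (MulAction.orbitRel H X)) * 2 ^ a := by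
    have e := MulAction.selfEquivOrbitsQuotientProd hfree
    rw [← Nat.card_eq_fintype_card, Nat.card_congr e, Nat.card_prod, hH]
  have hsign := sign_of_semiregular τ k hk1 (hord.trans hk)
    (fun w n hw => by rw [hpow, hsr w n hw]; exact hone)
  rw [hsign, hcard]
  obtain ⟨d, hd⟩ : ∃ d, a = k + 1 + d := ⟨a - (k + 1), by omega⟩
  have : Nat.card (Quotient (MulAction.orbitRel H X)) * 2 ^ a / 2 ^ k
      = 2 * (Nat.card (Quotient (MulAction.orbitRel H X)) * 2 ^ d) := by
    rw [hd, pow_add, pow_add, pow_one]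
    have h2k : 0 < 2 ^ k := by positivity
    rw [show Nat.card (Quotient (MulAction.orbitRel H X)) * (2 ^ k * 2 * 2 ^ d)
      = (2 * (Nat.card (Quotient (MulAction.orbitRel H X)) * 2 ^ d)) * 2 ^ k by ring]
    exact Nat.mul_div_cancel _ h2k
  rw [this, pow_mul]
  simp

theorem exists_index_two_of_sign {G Ω : Type*} [Group G] [Finite G] [Fintype Ω] [DecidableEq Ω]
    [MulAction G Ω] (S T : Subgroup G) (hTS : T ≤ S) (a : ℕ) (hS : Nat.card S = 2 ^ a)
    (hnc : ¬ IsCyclic S) (α β : Ω) (hαβ : α ≠ β)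
    (hT : ∀ x ∈ T, x • α = α ∧ x • β = β)
    (hswap : ∀ u ∈ S, u ∉ T → u • α = β ∧ u • β = α)
    (hsemi : ∀ s ∈ S, ∀ w : Ω, w ≠ α → w ≠ β → s • w = w → s = 1) :
    ∃ N : Subgroup G, N.Normal ∧ (N.index = 2 ∨ S ≤ T) ∧ N ⊓ S = T := by
  classical
  let p : Ω → Prop := fun w => w = α ∨ w = β
  have hinv : ∀ s ∈ S, ∀ w : Ω, p (s • w) ↔ p w := by
    intro s hs w
    by_cases hsT : s ∈ T
    · obtain ⟨h1, h2⟩ := hT s hsT
      constructor
      · rintro (h | h)
        · left; exact MulAction.injective s (h.trans h1.symm)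
        · right; exact MulAction.injective s (h.trans h2.symm)
      · rintro (rfl | rfl)
        · left; exact h1
        · right; exact h2
    · obtain ⟨h1, h2⟩ := hswap s hs hsT
      constructor
      · rintro (h | h)
        · right; exact MulAction.injective s (h.trans h2.symm)
        · left; exact MulAction.injective s (h.trans h1.symm)
      · rintro (rfl | rfl)
        · right; exact h1
        · left; exact h2
  letI act : MulAction S {w : Ω // ¬ p w} :=
    { smul := fun s w => ⟨(s : G) • w.1, fun h => w.2 ((hinv s s.2 w.1).mp h)⟩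
      one_smul := fun w => Subtype.ext (one_smul G w.1)
      mul_smul := fun s t w => Subtype.ext (mul_smul (s : G) (t : G) w.1) }
  have hact : ∀ (s : S) (w : {w : Ω // ¬ p w}), ((s • w : {w : Ω // ¬ p w}) : Ω) = (s : G) • w.1 :=
    fun _ _ => rfl
  have hfree : ∀ x : {w : Ω // ¬ p w}, MulAction.stabilizer S x = ⊥ := by
    intro x
    ext s
    rw [MulAction.mem_stabilizer_iff, Subgroup.mem_bot]
    constructor
    · intro h
      have h1 : (s : G) • x.1 = x.1 := by rw [← hact, h]
      have hx := x.2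
      have h2 : (s : G) = 1 :=
        hsemi s s.2 x.1 (fun h => hx (Or.inl h)) (fun h => hx (Or.inr h)) h1
      exact Subtype.ext h2
    · rintro rfl
      exact one_smul _ _
  have key : ∀ s (hs : s ∈ S),
      Equiv.Perm.sign (MulAction.toPerm s : Equiv.Perm Ω) = if s ∈ T then 1 else -1 := by
    intro s hs
    set σ : Equiv.Perm Ω := MulAction.toPerm s with hσ
    set σp : Equiv.Perm {w : Ω // p w} := σ.subtypePerm (hinv s hs) with hσp
    set σn : Equiv.Perm {w : Ω // ¬ p w} := MulAction.toPerm (⟨s, hs⟩ : S) with hσn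
    have hdecomp : σ = σp.subtypeCongr σn := by
      ext w
      by_cases hw : p w
      · rw [Equiv.Perm.subtypeCongr.left_apply _ _ hw]
        rfl
      · rw [Equiv.Perm.subtypeCongr.right_apply _ _ hw]
        rfl
    have hσn1 : Equiv.Perm.sign σn = 1 := sign_eq_one_of_free a hS hnc hfree ⟨s, hs⟩
    rw [hdecomp, Equiv.Perm.sign_subtypeCongr, hσn1, mul_one]
    by_cases hsT : s ∈ T
    · rw [if_pos hsT]
      obtain ⟨h1, h2⟩ := hT s hsT
      have : σp = 1 := by
        ext ⟨w, hw⟩
        rcases hw with rfl | rfl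
        · exact h1
        · exact h2
      rw [this, map_one]
    · rw [if_neg hsT]
      obtain ⟨h1, h2⟩ := hswap s hs hsT
      have hne : (⟨α, Or.inl rfl⟩ : {w : Ω // p w}) ≠ ⟨β, Or.inr rfl⟩ := by
        intro h
        exact hαβ (congrArg Subtype.val h)
      have : σp = Equiv.swap (⟨α, Or.inl rfl⟩ : {w : Ω // p w}) ⟨β, Or.inr rfl⟩ := by
        ext ⟨w, hw⟩
        rcases hw with rfl | rfl
        · rw [Equiv.swap_apply_left]
          exact h1
        · rw [Equiv.swap_apply_right]
          exact h2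
      rw [this, Equiv.Perm.sign_swap hne]
  set sgn : G →* ℤˣ := Equiv.Perm.sign.comp (MulAction.toPermHom G Ω) with hsgn
  have hsgn_apply : ∀ g : G, sgn g = Equiv.Perm.sign (MulAction.toPerm g : Equiv.Perm Ω) :=
    fun _ => rfl
  refine ⟨sgn.ker, inferInstance, ?_, ?_⟩
  · by_cases hex : ∃ u ∈ S, u ∉ T
    · left
      obtain ⟨u, huS, huT⟩ := hex
      have hu : sgn u = -1 := by rw [hsgn_apply, key u huS, if_neg huT]
      have hsurj : Function.Surjective sgn := by
        intro ε
        rcases Int.units_eq_one_or ε with rfl | rfl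
        · exact ⟨1, map_one _⟩
        · exact ⟨u, hu⟩
      rw [Subgroup.index_ker, MonoidHom.range_eq_top.mpr hsurj, Subgroup.card_top,
        Nat.card_eq_fintype_card, Fintype.card_units_int]
    · right
      push_neg at hex
      exact hex
  · ext s
    rw [Subgroup.mem_inf, MonoidHom.mem_ker]
    constructor
    · rintro ⟨h1, h2⟩
      rw [hsgn_apply, key s h2] at h1
      by_contra hsT
      rw [if_neg hsT] at h1
      exact absurd h1 (by decide)
    · intro hsT
      refine ⟨?_, hTS hsT⟩
      rw [hsgn_apply, key s (hTS hsT), if_pos hsT]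

end Cfsg.Agent.Lib.Helper9.FixSign
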