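import Cfsg.Agent.Lib.Helper9.FixSign
import Cfsg.Agent.Lib.Helper7.HSubC

/-!
# S3390, step (I.2), full form: a normal subgroup `N` of index `2` with `N ⊓ S = T`

Cyclic `S`: normal `2`-complement `K` (helper7's `hasNormalPComplement_of_isCyclic_sylow`),
`N := K ⊔ T`.  Non-cyclic `S`: the sign of the permutation action (`FixSign`).
-/

set_option autoImplicit false

namespace Cfsg.Agent.Lib.Helper9.FixSign

theorem exists_index_two_of_cyclic {G : Type*} [Group G] [Finite G] (S : Sylow 2 G)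
    (hcyc : IsCyclic (S : Subgroup G)) (T : Subgroup G) (hTS : T ≤ (S : Subgroup G))
    (hidx : T.relIndex (S : Subgroup G) = 2) :
    ∃ N : Subgroup G, N.Normal ∧ N.index = 2 ∧ N ⊓ (S : Subgroup G) = T := by
  classical
  haveI : Fact (Nat.Prime 2) := ⟨Nat.prime_two⟩
  have hmin : ∀ q : ℕ, q.Prime → q ∣ Nat.card G → 2 ≤ q := fun q hq _ => hq.two_le
  obtain ⟨P', K, hKn, hKP'⟩ :=
    Cfsg.Agent.Lib.Helper7.hasNormalPComplement_of_isCyclic_sylow S hmin hcyc
  have hcardP : Nat.card (P' : Subgroup G) = Nat.card (S : Subgroup G) := by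
    rw [Sylow.card_eq_multiplicity, Sylow.card_eq_multiplicity]
  have hmul : Nat.card K * Nat.card (S : Subgroup G) = Nat.card G := by
    rw [← hcardP]; exact hKP'.card_mul_card
  have hKodd : ¬ 2 ∣ Nat.card K := by
    rw [← hKP'.index_eq_card]
    exact P'.not_dvd_index
  obtain ⟨a, ha⟩ := IsPGroup.iff_card.mp S.isPGroup'
  have hcop : Nat.Coprime (Nat.card K) (Nat.card (S : Subgroup G)) := by
    rw [ha]
    apply Nat.Coprime.pow_right
    exact (Nat.Prime.coprime_iff_not_dvd Nat.prime_two).mpr hKodd |>.symm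
  have hKS : K.IsComplement' (S : Subgroup G) := Subgroup.isComplement'_of_coprime hmul hcop
  have hdisj : K ⊓ (S : Subgroup G) = ⊥ := hKS.disjoint.eq_bot
  set N : Subgroup G := K ⊔ T with hN
  have hNS : N ⊓ (S : Subgroup G) = T := by
    ext x
    rw [Subgroup.mem_inf]
    constructor
    · rintro ⟨hxN, hxS⟩
      have hx' : x ∈ ((K ⊔ T : Subgroup G) : Set G) := hxN
      rw [Subgroup.normal_mul K T, Set.mem_mul] at hx'
      obtain ⟨k, hk, t, ht, rfl⟩ := hx'
      have hkS : k ∈ (S : Subgroup G) := by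
        have : k = (k * t) * t⁻¹ := by group
        rw [this]
        exact Subgroup.mul_mem _ hxS (Subgroup.inv_mem _ (hTS ht))
      have hk1 : k ∈ K ⊓ (S : Subgroup G) := ⟨hk, hkS⟩
      rw [hdisj, Subgroup.mem_bot] at hk1
      rw [hk1, one_mul]
      exact ht
    · intro hxT
      exact ⟨Subgroup.mem_sup_right hxT, hTS hxT⟩
  have hKT : K ⊓ T = ⊥ := by
    apply le_antisymm _ bot_le
    rw [← hdisj]
    exact inf_le_inf_left K hTS
  have hKN : K ≤ N := le_sup_left
  have h1 : K.relIndex N * N.index = K.index := Subgroup.relIndex_mul_index hKN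
  have h2 : K.relIndex N = Nat.card T := by
    rw [hN, Subgroup.relIndex_sup_left, ← Subgroup.inf_relIndex_right, hKT,
      Subgroup.relIndex_bot_left]
  have h3 : K.index = Nat.card (S : Subgroup G) := hKS.symm.index_eq_card
  have h4 : Nat.card T * 2 = Nat.card (S : Subgroup G) := by
    have := Subgroup.relIndex_mul_relIndex (⊥ : Subgroup G) T (S : Subgroup G) bot_le hTS
    rw [Subgroup.relIndex_bot_left, Subgroup.relIndex_bot_left, hidx] at this
    exact this
  have hTpos : 0 < Nat.card T := Nat.card_pos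
  have hidx2 : N.index = 2 := by
    rw [h2, h3, ← h4] at h1
    exact Nat.eq_of_mul_eq_mul_left hTpos h1
  exact ⟨N, Subgroup.normal_of_index_eq_two hidx2, hidx2, hNS⟩

/-- **(I.2)** of the proof of S3390. -/
theorem exists_index_two {G Ω : Type*} [Group G] [Finite G] [Fintype Ω] [DecidableEq Ω]
    [MulAction G Ω] (S : Sylow 2 G) (T : Subgroup G) (hTS : T ≤ (S : Subgroup G))
    (hidx : T.relIndex (S : Subgroup G) = 2) (α β : Ω) (hαβ : α ≠ β)
    (hT : ∀ x ∈ T, x • α = α ∧ x • β = β)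
    (hswap : ∀ u ∈ (S : Subgroup G), u ∉ T → u • α = β ∧ u • β = α)
    (hsemi : ∀ s ∈ (S : Subgroup G), ∀ w : Ω, w ≠ α → w ≠ β → s • w = w → s = 1) :
    ∃ N : Subgroup G, N.Normal ∧ N.index = 2 ∧ N ⊓ (S : Subgroup G) = T := by
  by_cases hcyc : IsCyclic (S : Subgroup G)
  · exact exists_index_two_of_cyclic S hcyc T hTS hidx
  · obtain ⟨a, ha⟩ := IsPGroup.iff_card.mp S.isPGroup'
    obtain ⟨N, hN, hor, hNS⟩ :=
      exists_index_two_of_sign (S : Subgroup G) T hTS a ha hcyc α β hαβ hT hswap hsemi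
    refine ⟨N, hN, ?_, hNS⟩
    rcases hor with h | h
    · exact h
    · exfalso
      rw [Subgroup.relIndex_eq_one.mpr h] at hidx
      omega

end Cfsg.Agent.Lib.Helper9.FixSign
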