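import Cfsg.Agent.Lib.Helper9.AlperinCor
import Cfsg.Agent.Lib.Helper9.StabChain

set_option autoImplicit false

namespace Cfsg.Agent.Lib.Helper9

open Cfsg Cfsg.FusionSystem

variable {Ω : Type*} [Group Ω] {S : Subgroup Ω}

/-- the "focal subgroup" of a subgroup `R`: generated by `x⁻¹ φ(x)`, `x ∈ R`, `φ` a map on `⟨x⟩` -/
def focOf (F : FusionSystem S) (R : Subgroup Ω) : Subgroup Ω :=
  Subgroup.closure {y : Ω | ∃ x ∈ R, ∃ φ ∈ F.Hom (Subgroup.zpowers x),
    y = x⁻¹ * φ ⟨x, Subgroup.mem_zpowers x⟩}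

theorem focOf_mono (F : FusionSystem S) {R R' : Subgroup Ω} (h : R ≤ R') :
    focOf F R ≤ focOf F R' := by
  apply Subgroup.closure_mono
  rintro y ⟨x, hx, φ, hφ, rfl⟩
  exact ⟨x, h hx, φ, hφ, rfl⟩

theorem focOf_le (F : FusionSystem S) (R : Subgroup Ω) : focOf F R ≤ S := by
  rw [focOf, Subgroup.closure_le]
  rintro y ⟨x, hx, φ, hφ, rfl⟩
  have h1 : x ∈ S := hom_le F hφ (Subgroup.mem_zpowers x)
  exact S.mul_mem (S.inv_mem h1) (hom_mem F hφ _)

/-- the iterated focal series -/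
def focSeries (F : FusionSystem S) : ℕ → Subgroup Ω
  | 0 => S
  | (i + 1) => focOf F (focSeries F i)

theorem focSeries_succ_le (F : FusionSystem S) (i : ℕ) : focSeries F (i + 1) ≤ focSeries F i := by
  induction i with
  | zero => exact focOf_le F _
  | succ i ih => exact focOf_mono F ih

theorem focSeries_antitone (F : FusionSystem S) {i j : ℕ} (h : i ≤ j) :
    focSeries F j ≤ focSeries F i := by
  induction h with
  | refl => exact le_rfl
  | step _ ih => exact (focSeries_succ_le F _).trans ih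

theorem aut_mem_focOf (F : FusionSystem S) {P : Subgroup Ω} (hP : P ≤ S) {α : MulAut P}
    (hα : α ∈ F.autGroup P) (R : Subgroup Ω) (x : P) (hx : (x : Ω) ∈ R) :
    (x : Ω)⁻¹ * ((α x : P) : Ω) ∈ focOf F R := by
  apply Subgroup.subset_closure
  have hle : Subgroup.zpowers (x : Ω) ≤ P := by
    rw [Subgroup.zpowers_le]; exact x.2
  have h1 := restrict_mem F (hom_of_mem_autGroup F hP hα) hle
  exact ⟨x, hx, _, h1, rfl⟩

theorem autGroup_isPGroup_of_focSeries [Finite S] {p : ℕ} [Fact p.Prime] (hS : IsPGroup p S)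
    (F : FusionSystem S) (n : ℕ) (hn : focSeries F n = ⊥) {P : Subgroup Ω} (hP : P ≤ S) :
    IsPGroup p (F.autGroup P) := by
  have hfinP : Finite P := finite_of_le hP
  have hPp : IsPGroup p P := isPGroup_of_le hS hP
  set e : ℕ → Subgroup P := fun j => (focSeries F (n - j)).subgroupOf P with he
  have hstab : ∀ α ∈ F.autGroup P, ∀ j, ∀ x ∈ e (j + 1), x⁻¹ * α x ∈ e j := by
    intro α hα j x hx
    show ((x⁻¹ * α x : P) : Ω) ∈ focSeries F (n - j)
    have hx' : (x : Ω) ∈ focSeries F (n - (j + 1)) := hx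
    by_cases hj : j + 1 ≤ n
    · have h1 : n - j = (n - (j + 1)) + 1 := by omega
      rw [h1]
      exact aut_mem_focOf F hP hα _ x hx'
    · have h1 : n - j = 0 := by omega
      rw [h1]
      exact hP (x⁻¹ * α x).2
  have hinv : ∀ α ∈ F.autGroup P, ∀ j, ∀ x ∈ e j, α x ∈ e j := by
    intro α hα j x hx
    have hx' : (x : Ω) ∈ focSeries F (n - j) := hx
    have h1 : (x : Ω)⁻¹ * ((α x : P) : Ω) ∈ focSeries F (n - j + 1) :=
      aut_mem_focOf F hP hα _ x hx'
    have h2 := focSeries_succ_le F _ h1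
    show ((α x : P) : Ω) ∈ focSeries F (n - j)
    have h3 : ((α x : P) : Ω) = (x : Ω) * ((x : Ω)⁻¹ * ((α x : P) : Ω)) := by group
    rw [h3]
    exact Subgroup.mul_mem _ hx' h2
  have h0 : e 0 = ⊥ := by
    show (focSeries F (n - 0)).subgroupOf P = ⊥
    rw [Nat.sub_zero, hn]
    exact Subgroup.bot_subgroupOf P
  have hm : e n = ⊤ := by
    show (focSeries F (n - n)).subgroupOf P = ⊤
    rw [Nat.sub_self]
    exact Subgroup.subgroupOf_eq_top.mpr hP
  have h1 := stabChain_isPGroup hPp (F.autGroup P) e hinv h0 n hm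
  have h2 : stabChain (F.autGroup P) e hinv = F.autGroup P := by
    apply le_antisymm (stabChain_le _ _ _)
    intro α hα
    exact ⟨hα, hstab α hα⟩
  rw [h2] at h1
  exact h1

theorem eq_inner_of_focal_chain [Finite S] (p : ℕ) [Fact p.Prime] (hS : IsPGroup p S)
    (F : FusionSystem S) (hF : F.IsSaturated p) (n : ℕ) (Q : Fin (n + 1) → Subgroup Ω)
    (hQ0 : Q 0 = S) (hQn : Q (Fin.last n) = ⊥)
    (hstep : ∀ i : Fin n, Subgroup.closure {y : Ω | ∃ x ∈ Q i.castSucc,
      ∃ φ ∈ F.Hom (Subgroup.zpowers x), y = x⁻¹ * φ ⟨x, Subgroup.mem_zpowers x⟩} ≤ Q i.succ) :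
    F = innerFusionSystem S := by
  have hle : ∀ i (hi : i ≤ n), focSeries F i ≤ Q ⟨i, Nat.lt_succ_of_le hi⟩ := by
    intro i
    induction i with
    | zero =>
      intro _
      show S ≤ _
      rw [← hQ0]
      exact le_rfl
    | succ i ih =>
      intro hi
      have h1 := ih (Nat.le_of_succ_le hi)
      have h2 := hstep ⟨i, hi⟩
      exact (focOf_mono F h1).trans h2
  have hn : focSeries F n = ⊥ := by
    have := hle n le_rfl
    rw [eq_bot_iff]
    refine this.trans ?_
    rw [← hQn]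
    exact le_rfl
  apply eq_inner_of_autGroups_pGroups p hS F hF
  intro P hP
  exact autGroup_isPGroup_of_focSeries hS F n hn hP

end Cfsg.Agent.Lib.Helper9
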