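import Cfsg.Agent.Lib.Helper9.FusionIso

set_option autoImplicit false

namespace Cfsg.Agent.Lib.Helper9

open Cfsg Cfsg.FusionSystem

variable {Ω : Type*} [Group Ω] {S : Subgroup Ω}

/-- A saturated system with `Aut_F(S) = Inn(S)` and no proper nontrivial strongly closed
subgroup is simple. -/
theorem simple_of_inner_top (p : ℕ) (F : FusionSystem S) (hF : F.IsSaturated p) (hS1 : S ≠ ⊥)
    (htop : F.autGroup S = Cfsg.Inn ↥S)
    (hsc : ∀ T : Subgroup Ω, F.StronglyClosed T → T = ⊥ ∨ T = S) : F.IsSimple p := by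
  refine ⟨hF, hS1, ?_⟩
  intro T E hE
  obtain ⟨⟨-, -, hsub, hT, -, hfrat⟩, -⟩ := hE
  rcases hsc T hT with h | h
  · exact Or.inl h
  · right
    refine ⟨h, ?_⟩
    subst h
    intro P
    apply Set.Subset.antisymm (hsub P)
    intro φ hφ
    have hPT : P ≤ T := hom_le F hφ
    obtain ⟨α, hα, φ₀, hφ₀, hφe⟩ := hfrat P hPT φ hφ
    rw [htop] at hα
    obtain ⟨s, rfl⟩ := hα
    have hφ₀T : ∀ x : P, φ₀ x ∈ T := fun x => hom_mem E hφ₀ x
    have hcs : conjHom T (s : Ω) ∈ E.Hom T := E.conj_mem le_rfl s.2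
    have h1 := E.comp_mem hφ₀ hcs hφ₀T
    have h2 : (conjHom T (s : Ω)).comp (φ₀.codRestrict T hφ₀T) = φ := by
      ext x
      rw [hφe x (hφ₀T x)]
      rfl
    rw [← h2]
    exact h1

end Cfsg.Agent.Lib.Helper9
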