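import Mathlib
import Cfsg.Prelude.Def_Solvable
import Cfsg.Agent.Lib.Helper1.FrobeniusTheorem
import Cfsg.Agent.Lib.Helper1.FrobeniusKernelNilpotent

/-!
# S3390, step (I.5), plain form (one-complement version)

If every nonidentity element fixes at most two points, `T` is a nontrivial Sylow `2`-subgroup of
`G_α` fixing `β ≠ α`, and `G_α ⊓ G_γ` has odd order (`γ ∉ {α, β}`), then `G_α ⊓ G_γ = ⊥`.
-/

set_option autoImplicit false
open scoped Pointwise

namespace Cfsg.Agent.Lib.Helper9.Fx2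

theorem stabilizer_inf_eq_bot {G Ω : Type*} [Group G] [Finite G] [MulAction G Ω]
    (hfix : ∀ g : G, g ≠ 1 → ∀ a b c : Ω, a ≠ b → a ≠ c → b ≠ c →
      g • a = a → g • b = b → g • c ≠ c)
    (α β γ : Ω) (hαβ : α ≠ β) (hαγ : α ≠ γ) (hβγ : β ≠ γ)
    (T : Subgroup G) (hT1 : T ≠ ⊥) (hT2 : IsPGroup 2 T)
    (hTα : T ≤ MulAction.stabilizer G α) (hTβ : T ≤ MulAction.stabilizer G β)
    (hTsyl : ¬ 2 ∣ T.relIndex (MulAction.stabilizer G α))
    (hodd : Odd (Nat.card ↥(MulAction.stabilizer G α ⊓ MulAction.stabilizer G γ))) :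
    MulAction.stabilizer G α ⊓ MulAction.stabilizer G γ = ⊥ := by
  classical
  haveI : Fact (Nat.Prime 2) := ⟨Nat.prime_two⟩
  by_contra hne
  set A : Subgroup G := MulAction.stabilizer G α with hA
  set H : Subgroup G := A ⊓ MulAction.stabilizer G γ with hH
  have hHA : H ≤ A := inf_le_left
  set H' : Subgroup A := H.subgroupOf A with hH'
  set T' : Subgroup A := T.subgroupOf A with hT'
  have hcardH' : Nat.card H' = Nat.card H :=
    Nat.card_congr (Subgroup.subgroupOfEquivOfLe hHA).toEquiv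
  have hcardT' : Nat.card T' = Nat.card T :=
    Nat.card_congr (Subgroup.subgroupOfEquivOfLe hTα).toEquiv
  -- a nonidentity element of `T`
  obtain ⟨x, hxT, hx1⟩ : ∃ x ∈ T, x ≠ 1 := by
    by_contra hcon
    push_neg at hcon
    exact hT1 ((Subgroup.eq_bot_iff_forall _).mpr hcon)
  have h2T : 2 ∣ Nat.card T := by
    obtain ⟨n, hn⟩ := IsPGroup.iff_card.mp hT2
    have hn0 : n ≠ 0 := by
      rintro rfl
      rw [pow_zero] at hn
      exact hT1 (Subgroup.card_eq_one.mp hn)
    rw [hn]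
    exact dvd_pow_self 2 hn0
  -- `H'` is a Frobenius complement in `A`
  have hFrob : Cfsg.IsFrobeniusComplement H' := by
    refine ⟨?_, ?_, ?_⟩
    · rw [hH', Ne, Subgroup.subgroupOf_eq_bot, disjoint_iff, inf_of_le_left hHA]
      exact hne
    · rw [hH', Ne, Subgroup.subgroupOf_eq_top]
      intro hAH
      have h1 : Nat.card T ∣ Nat.card H := Subgroup.card_dvd_of_le (hTα.trans hAH)
      have h2 : 2 ∣ Nat.card H := h2T.trans h1
      exact (Nat.not_even_iff_odd.mpr hodd) (even_iff_two_dvd.mpr h2)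
    · intro g hg
      rw [Subgroup.eq_bot_iff_forall]
      rintro y ⟨hy1, hy2⟩
      have hgγ : (g : G) • γ ≠ γ := by
        intro h
        apply hg
        rw [hH', Subgroup.mem_subgroupOf]
        exact ⟨g.2, h⟩
      have hgα : (g : G) • α = α := g.2
      have hy1' : (y : G) ∈ H := Subgroup.mem_subgroupOf.mp hy1
      have hyα : (y : G) • α = α := y.2
      have hyγ : (y : G) • γ = γ := hy1'.2
      obtain ⟨z, hz, hzy⟩ := (Subgroup.mem_smul_pointwise_iff_exists _ _ _).mp hy2
      have hz' : (z : G) ∈ H := Subgroup.mem_subgroupOf.mp hz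
      have hzγ : (z : G) • γ = γ := hz'.2
      have hyg : (y : G) • ((g : G) • γ) = (g : G) • γ := by
        have : (y : G) = (g : G) * (z : G) * (g : G)⁻¹ := by
          rw [← hzy]; rfl
        rw [this, mul_smul, mul_smul, inv_smul_smul, hzγ]
      by_contra hy
      have hyG : (y : G) ≠ 1 := fun h => hy (Subtype.ext h)
      have hαg : α ≠ (g : G) • γ := by
        intro h
        apply hαγ
        have : (g : G) • α = (g : G) • γ := hgα.trans h
        exact MulAction.injective (g : G) this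
      exact hfix (y : G) hyG α γ ((g : G) • γ) hαγ hαg (Ne.symm hgγ) hyα hyγ hyg
  obtain ⟨K, hKset, hKn, hKc⟩ := Cfsg.Agent.Lib.Helper1.frobenius_theorem H' hFrob
  obtain ⟨K₂, hK₂set, -, hK₂nil⟩ :=
    Cfsg.Agent.Lib.Helper1.ThompsonFPF.frobenius_kernel_nilpotent H' hFrob
  have hKK : K₂ = K := SetLike.coe_injective (hK₂set.trans hKset.symm)
  rw [hKK] at hK₂nil
  haveI := hK₂nil
  haveI := hKn
  -- `K` has odd index
  have hKidx : K.index = Nat.card H := by
    rw [← hcardH']; exact hKc.symm.index_eq_card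
  -- `T' ≤ K`
  have hT'p : IsPGroup 2 T' := hT2.comap_subtype
  have hT'K : T' ≤ K := by
    intro t ht
    obtain ⟨j, hj⟩ := (IsPGroup.iff_orderOf.mp hT'p) ⟨t, ht⟩
    have hj' : orderOf t = 2 ^ j := by
      rw [← hj]; exact (Subgroup.orderOf_mk t ht).symm
    have hd1 : orderOf (QuotientGroup.mk' K t) ∣ 2 ^ j := hj' ▸ orderOf_map_dvd _ t
    have hd2 : orderOf (QuotientGroup.mk' K t) ∣ Nat.card H := by
      rw [← hKidx, Subgroup.index_eq_card]
      exact orderOf_dvd_natCard _
    have hcop : Nat.Coprime (2 ^ j) (Nat.card H) :=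
      Nat.Coprime.pow_left j (Nat.coprime_two_left.mpr hodd)
    have h1 : orderOf (QuotientGroup.mk' K t) ∣ 1 := by
      have := Nat.dvd_gcd hd1 hd2
      rwa [hcop.gcd_eq_one] at this
    have h2 : QuotientGroup.mk' K t = 1 := orderOf_eq_one_iff.mp (Nat.dvd_one.mp h1)
    exact (QuotientGroup.eq_one_iff t).mp h2
  -- the Sylow `2`-subgroup of `K` containing `T'`
  obtain ⟨Q, hQ⟩ := (hT'p.comap_subtype (K := K)).exists_le_sylow
  haveI hQn : (Q : Subgroup K).Normal := inferInstance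
  haveI hQc : (Q : Subgroup K).Characteristic := Sylow.characteristic_of_normal Q hQn
  set Q' : Subgroup A := (Q : Subgroup K).map K.subtype with hQ'
  have hQ'n : Q'.Normal := ConjAct.normal_of_characteristic_of_normal
  have hQ'p : IsPGroup 2 Q' := Q.isPGroup'.map _
  have hTQ : T' ≤ Q' := by
    intro t ht
    exact ⟨⟨t, hT'K ht⟩, hQ (by simpa [Subgroup.mem_subgroupOf] using ht), rfl⟩
  -- `Q' = T'` since `T'` is Sylow in `A`
  have hT'idx : ¬ 2 ∣ T'.index := hTsyl
  have hQT : Q' ≤ T' := by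
    have hmul := Subgroup.relIndex_mul_index hTQ
    have h1 : ¬ 2 ∣ T'.relIndex Q' := fun hd => hT'idx (hmul ▸ Dvd.dvd.mul_right hd _)
    obtain ⟨n, hn⟩ := IsPGroup.index hQ'p (T'.subgroupOf Q')
    have hn' : T'.relIndex Q' = 2 ^ n := hn
    have : n = 0 := by
      by_contra h0
      exact h1 (hn' ▸ dvd_pow_self 2 h0)
    rw [this, pow_zero] at hn'
    exact Subgroup.relIndex_eq_one.mp hn'
  have hT'n : T'.Normal := by
    have : T' = Q' := le_antisymm hTQ hQT
    rw [this]; exact hQ'n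
  -- every element of `A` fixes `β`
  have hAβ : ∀ g ∈ A, g • β = β := by
    intro g hg
    by_contra hgβ
    have hx' : (⟨x, hTα hxT⟩ : A) ∈ T' := Subgroup.mem_subgroupOf.mpr hxT
    have hconj := hT'n.conj_mem _ hx' (⟨g, hg⟩ : A)⁻¹
    have hconj' : g⁻¹ * x * g ∈ T := by
      have := Subgroup.mem_subgroupOf.mp hconj
      simpa using this
    have h1 : (g⁻¹ * x * g) • β = β := hTβ hconj'
    have h2 : x • (g • β) = g • β := by
      have : x • (g • β) = g • ((g⁻¹ * x * g) • β) := by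
        rw [mul_smul, mul_smul, smul_inv_smul]
      rw [this, h1]
    have hgα : g • α = α := hg
    have hαg : α ≠ g • β := by
      intro h
      apply hαβ
      exact MulAction.injective g (hgα.trans h)
    exact hfix x hx1 α β (g • β) hαβ hαg (Ne.symm hgβ) (hTα hxT) (hTβ hxT) h2
  -- contradiction
  obtain ⟨h, hhH, hh1⟩ : ∃ h ∈ H, h ≠ 1 := by
    by_contra hcon
    push_neg at hcon
    exact hne ((Subgroup.eq_bot_iff_forall _).mpr hcon)
  exact hfix h hh1 α β γ hαβ hαγ hβγ hhH.1 (hAβ h hhH.1) hhH.2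

end Cfsg.Agent.Lib.Helper9.Fx2
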