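import Cfsg.Agent.Lib.Helper9.G23CYD

/-! Kernel checks of the strong generating set data and of the centraliser search. -/

namespace Cfsg.Agent.Lib.Helper9.G23CY

open Cfsg.Agent.Lib.Helper4.TC Cfsg.Agent.Lib.Helper4.TCD.G23pA Cfsg.Agent.Lib.Helper9.Sift

set_option maxRecDepth 1000000
set_option Elab.async false

theorem c_km : Nat.ble 6 18 = true := by decide +kernel
theorem c_words : allRange S.wordsOK 6 12 = true := by decide +kernel
theorem c_fix : allGrid S.fixOK 0 18 3 = true := by decide +kernel
theorem c_root : allBelow (fun j => Nat.ble (Nat.succ (S.root j)) (S.n j)) 3 = true := by decide +kernel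
theorem c_n0 : S.n 0 = 702 := by decide +kernel
theorem c_n1 : S.n 1 = 224 := by decide +kernel
theorem c_n2 : S.n 2 = 27 := by decide +kernel
theorem c_p6 : allRange (S.permOK 6) 0 702 = true := by decide +kernel
theorem c_p7 : allRange (S.permOK 7) 0 702 = true := by decide +kernel
theorem c_p8 : allRange (S.permOK 8) 0 702 = true := by decide +kernel
theorem c_p9 : allRange (S.permOK 9) 0 702 = true := by decide +kernel
theorem c_p10 : allRange (S.permOK 10) 0 702 = true := by decide +kernel
theorem c_p11 : allRange (S.permOK 11) 0 702 = true := by decide +kernel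
theorem c_p12 : allRange (S.permOK 12) 0 702 = true := by decide +kernel
theorem c_p13 : allRange (S.permOK 13) 0 702 = true := by decide +kernel
theorem c_p14 : allRange (S.permOK 14) 0 702 = true := by decide +kernel
theorem c_p15 : allRange (S.permOK 15) 0 702 = true := by decide +kernel
theorem c_p16 : allRange (S.permOK 16) 0 702 = true := by decide +kernel
theorem c_p17 : allRange (S.permOK 17) 0 702 = true := by decide +kernel
theorem c_nd0 : allRange (S.nodeOK 0) 0 702 = true := by decide +kernel
theorem c_nd1 : allRange (S.nodeOK 1) 0 224 = true := by decide +kernel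
theorem c_nd2 : allRange (S.nodeOK 2) 0 27 = true := by decide +kernel
theorem c_F0 : allBelow (fun idx => Nat.ble (Nat.succ (S.dep 0 idx)) FF) 702 = true := by decide +kernel
theorem c_F1 : allBelow (fun idx => Nat.ble (Nat.succ (S.dep 1 idx)) FF) 224 = true := by decide +kernel
theorem c_F2 : allBelow (fun idx => Nat.ble (Nat.succ (S.dep 2 idx)) FF) 27 = true := by decide +kernel
theorem c_Ilt : allBelow (fun i => Nat.ble (Nat.succ (invIF i)) 18) 18 = true := by decide +kernel
theorem c_Iinv : allGrid (fun i p => Nat.beq (S.tab (invIF i) (S.tab i p)) p) 0 18 702 = true := by decide +kernel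
theorem c_b1 : Nat.beq (S.beta 1) (S.tab 6 (S.beta 0)) = true := by decide +kernel
theorem c_b2 : Nat.beq (S.beta 2) (S.tab 6 (S.beta 1)) = true := by decide +kernel
theorem c_ne : Nat.beq (S.beta 1) (S.beta 0) = false := by decide +kernel
theorem c_ord : allBelow (fun p => Nat.beq (iter (S.tab 6) 13 p) p) 702 = true := by decide +kernel
theorem c_srch : allBelow (fun i0 => bor (inOrb S 6 13 (S.pt 0 i0)) (srch S invIF 6 FF i0)) 702 = true := by decide +kernel
theorem c_six : allBelow (fun p => Nat.beq (iter (S.tab 16) 6 p) p) 702 = true := by decide +kernel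
theorem c_six2 : Nat.beq (iter (S.tab 16) 2 1) 1 = false := by decide +kernel
theorem c_six3 : Nat.beq (iter (S.tab 16) 3 1) 1 = false := by decide +kernel

theorem ok : S.OK where
  hkm := Nat.le_of_ble_eq_true c_km
  hperm := by
    intro i p h1 h2 hp
    have h1 : 6 ≤ i := h1
    have h2 : i < 18 := h2
    have hp : p < 702 := hp
    interval_cases i
    · exact range_of_allRange c_p6 p (Nat.zero_le _) (by omega)
    · exact range_of_allRange c_p7 p (Nat.zero_le _) (by omega)
    · exact range_of_allRange c_p8 p (Nat.zero_le _) (by omega)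
    · exact range_of_allRange c_p9 p (Nat.zero_le _) (by omega)
    · exact range_of_allRange c_p10 p (Nat.zero_le _) (by omega)
    · exact range_of_allRange c_p11 p (Nat.zero_le _) (by omega)
    · exact range_of_allRange c_p12 p (Nat.zero_le _) (by omega)
    · exact range_of_allRange c_p13 p (Nat.zero_le _) (by omega)
    · exact range_of_allRange c_p14 p (Nat.zero_le _) (by omega)
    · exact range_of_allRange c_p15 p (Nat.zero_le _) (by omega)
    · exact range_of_allRange c_p16 p (Nat.zero_le _) (by omega)
    · exact range_of_allRange c_p17 p (Nat.zero_le _) (by omega)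
  hwords := fun i h1 h2 => range_of_allRange c_words i h1 (by have h : i < 18 := h2; omega)
  hfix := fun i t hi ht => range_of_allGrid c_fix i (Nat.zero_le _) (by have h : i < 18 := hi; omega) t ht
  hroot := fun j hj => ble_succ (allBelow_eq_true.1 c_root j hj)
  hnode := by
    intro j idx hj hidx
    have hj : j < 3 := hj
    interval_cases j
    · rw [c_n0] at hidx; exact range_of_allRange c_nd0 idx (Nat.zero_le _) (by omega)
    · rw [c_n1] at hidx; exact range_of_allRange c_nd1 idx (Nat.zero_le _) (by omega)
    · rw [c_n2] at hidx; exact range_of_allRange c_nd2 idx (Nat.zero_le _) (by omega)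

theorem centOK : CentOK S invIF 6 FF 13 where
  hr := rfl
  hiz := by show 6 < 18; omega
  hF := by
    intro j hj idx hidx
    interval_cases j
    · rw [c_n0] at hidx; exact ble_succ (allBelow_eq_true.1 c_F0 idx hidx)
    · rw [c_n1] at hidx; exact ble_succ (allBelow_eq_true.1 c_F1 idx hidx)
    · rw [c_n2] at hidx; exact ble_succ (allBelow_eq_true.1 c_F2 idx hidx)
  hIlt := fun i hi => ble_succ (allBelow_eq_true.1 c_Ilt i hi)
  hIinv := fun i p hi hp => beq_eq (range_of_allGrid c_Iinv i (Nat.zero_le _) (by have h : i < 18 := hi; omega) p hp)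
  hb1 := beq_eq c_b1
  hb2 := beq_eq c_b2
  hne := fun h => by have := c_ne; rw [h, Nat.beq_refl] at this; exact absurd this (by decide)
  hord := fun p hp => beq_eq (allBelow_eq_true.1 c_ord p hp)
  hsrch := fun i0 hi0 => allBelow_eq_true.1 c_srch i0 (by rw [c_n0] at hi0; exact hi0)

end Cfsg.Agent.Lib.Helper9.G23CY
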