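import Mathlib
import Cfsg.Agent.Lib.Helper4.G23pMain
import Cfsg.Agent.Lib.Helper9.G23CYC
import Cfsg.Agent.Lib.Helper9.G23CXC

/-!
Element orders of the presented group `G23p` (the group `G₂(3)`): there is an element of order `6`, and an element
whose order is divisible by `7` (by `13`) has order `7` (`13`).
-/

set_option autoImplicit false

namespace Cfsg.Agent.Lib.Helper9.G23Cent

open Cfsg.Agent.Lib.Helper4 Cfsg.Agent.Lib.Helper4.TC Cfsg.Agent.Lib.Helper4.TCD Cfsg.Agent.Lib.Helper4.TC.Log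
  Cfsg.Agent.Lib.Helper9.Sift
open scoped Pointwise

/-! ### a Sylow argument -/

/-- If the centraliser of an element `z` of prime order `p` is a `p`-group of exponent `p` and `p ^ 2` does not
divide the order of the group, then every element of order divisible by `p` has order `p`. -/
theorem orderOf_eq_of_prime_dvd {G : Type*} [Group G] [Finite G] (p : ℕ) [hp : Fact p.Prime] (z : G)
    (hz : orderOf z = p) (hp2 : ¬ p ^ 2 ∣ Nat.card G) (hC : ∀ c : G, Commute c z → c ^ p = 1) :
    ∀ g : G, p ∣ orderOf g → orderOf g = p := by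
  intro g hg
  obtain ⟨m, hm⟩ := hg
  have hpos : 0 < orderOf g := orderOf_pos g
  have hm0 : m ≠ 0 := by
    rintro rfl
    rw [mul_zero] at hm
    omega
  have hpdvd : p ∣ Nat.card G := hz ▸ orderOf_dvd_natCard z
  have hfac : (Nat.card G).factorization p = 1 := by
    have h1 : 1 ≤ (Nat.card G).factorization p :=
      (hp.out.dvd_iff_one_le_factorization Nat.card_pos.ne').1 hpdvd
    have h2 : ¬ 2 ≤ (Nat.card G).factorization p := by
      intro h
      exact hp2 ((hp.out.pow_dvd_iff_le_factorization Nat.card_pos.ne').2 h)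
    omega
  have hcz : Nat.card (Subgroup.zpowers z) = p ^ (Nat.card G).factorization p := by
    rw [hfac, pow_one, Nat.card_zpowers, hz]
  set h := g ^ m with hh
  have hoh : orderOf h = p := by
    rw [hh, orderOf_pow_of_dvd hm0 ⟨p, by rw [hm, mul_comm]⟩, hm, Nat.mul_div_cancel _ (Nat.pos_of_ne_zero hm0)]
  have hch : Nat.card (Subgroup.zpowers h) = p ^ (Nat.card G).factorization p := by
    rw [hfac, pow_one, Nat.card_zpowers, hoh]
  obtain ⟨k, hk⟩ := MulAction.exists_smul_eq G (Sylow.ofCard (Subgroup.zpowers h) hch)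
    (Sylow.ofCard (Subgroup.zpowers z) hcz)
  have hk' : (k • (Sylow.ofCard (Subgroup.zpowers h) hch) : Sylow p G).toSubgroup = Subgroup.zpowers z := by
    rw [hk]; rfl
  rw [Sylow.coe_subgroup_smul] at hk'
  have hmem : MulAut.conj k • h ∈ MulAut.conj k • (Subgroup.zpowers h) :=
    Subgroup.smul_mem_pointwise_smul _ _ _ (Subgroup.mem_zpowers h)
  have hmem' : k * h * k⁻¹ ∈ Subgroup.zpowers z := by
    have e : (Sylow.ofCard (Subgroup.zpowers h) hch).toSubgroup = Subgroup.zpowers h := rfl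
    rw [e] at hk'
    rw [hk'] at hmem
    exact hmem
  set g' := k * g * k⁻¹ with hg'
  have hg'o : orderOf g' = orderOf g := by
    have : g' = MulAut.conj k g := rfl
    rw [this, MulEquiv.orderOf_eq]
  have hh' : k * h * k⁻¹ = g' ^ m := by
    rw [hg', conj_pow]
  have hoh' : orderOf (k * h * k⁻¹) = p := by
    have : k * h * k⁻¹ = MulAut.conj k h := rfl
    rw [this, MulEquiv.orderOf_eq, hoh]
  have hle : Subgroup.zpowers (k * h * k⁻¹) ≤ Subgroup.zpowers z := by
    rw [Subgroup.zpowers_le]; exact hmem'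
  have heq : Subgroup.zpowers (k * h * k⁻¹) = Subgroup.zpowers z := by
    apply Subgroup.eq_of_le_of_card_ge hle
    rw [Nat.card_zpowers, Nat.card_zpowers, hz, hoh']
  have hzmem : z ∈ Subgroup.zpowers (k * h * k⁻¹) := by rw [heq]; exact Subgroup.mem_zpowers z
  obtain ⟨n, hn⟩ := Subgroup.mem_zpowers_iff.1 hzmem
  have hcomm : Commute g' z := by
    rw [← hn, hh']
    exact ((Commute.refl g').pow_right m).zpow_right n
  have h1 := hC g' hcomm
  have h2 : orderOf g' ∣ p := orderOf_dvd_of_pow_eq_one h1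
  rw [hg'o, hm] at h2
  have hm1 : m = 1 := by
    have hp0 : 0 < p := hp.out.pos
    have := Nat.le_of_dvd hp0 h2
    have hmpos : 0 < m := Nat.pos_of_ne_zero hm0
    nlinarith
  rw [hm, hm1, mul_one]

/-! ### the permutation representation -/

/-- the presented group -/
abbrev Grp : Type := PG23p.P.Grp

/-- the permutation representation on 702 points -/
noncomputable def phi : Grp →* Equiv.Perm (Fin 702) := G23pA.inst.phi

theorem phi_injective : Function.Injective phi := G23pMain.order_aux.2.1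

theorem card_grp : Nat.card Grp = 4245696 := G23pMain.order_aux.2.2

instance : Finite Grp := G23pMain.order_aux.1

/-- the images of the letters -/
noncomputable def q0 : ℕ → Equiv.Perm (Fin 702) := fun i => phi (PG23p.P.gR i)

theorem q0_val (i : ℕ) (hi : i < 6) (p : Fin 702) : (q0 i p).1 = G23pA.T.tbl p.1 (G23pA.D.inv i) := by
  have hg : Inst.gE PG23p.P G23pA.subs i = PG23p.P.gR i := extG_le (le_of_lt hi)
  have := G23pA.inst.hphi i hi p
  rw [hg] at this
  exact this

theorem range_eq : phi.range = Subgroup.closure (q0 '' Set.Iio 6) := by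
  have h1 : (⊤ : Subgroup Grp) = Subgroup.closure (PG23p.P.gR '' Set.Iio 6) := PG23p.valid.gen_top.symm
  rw [MonoidHom.range_eq_map, h1, MonoidHom.map_closure, Set.image_image]
  rfl

theorem card_range : Nat.card (Subgroup.closure (q0 '' Set.Iio 6)) = 4245696 := by
  rw [← range_eq, ← card_grp]
  exact (Nat.card_congr (MonoidHom.ofInjective phi_injective).toEquiv).symm

/-- from the centraliser of an element of prime order to the orders of elements -/
theorem grp_of_cent (p : ℕ) [hp : Fact p.Prime] (hp2 : ¬ p ^ 2 ∣ 4245696) (z : Equiv.Perm (Fin 702))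
    (hz : z ∈ Subgroup.closure (q0 '' Set.Iio 6)) (hzp : z ^ p = 1) (hz1 : z ≠ 1)
    (hC : ∀ c ∈ Subgroup.closure (q0 '' Set.Iio 6), Commute c z → ∃ t : ℕ, c = z ^ t) :
    ∀ g : Grp, p ∣ orderOf g → orderOf g = p := by
  rw [← range_eq] at hz
  obtain ⟨zG, rfl⟩ := hz
  have hzo : orderOf zG = p := by
    apply orderOf_eq_prime
    · apply phi_injective; rw [map_pow, hzp, map_one]
    · rintro rfl; exact hz1 (map_one _)
  apply orderOf_eq_of_prime_dvd p zG hzo (by rw [card_grp]; exact hp2)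
  intro c hc
  obtain ⟨t, ht⟩ := hC (phi c) (by rw [← range_eq]; exact ⟨c, rfl⟩) (hc.map phi)
  apply phi_injective
  rw [map_pow, ht, ← pow_mul, mul_comm, pow_mul, hzp, one_pow, map_one]

/-- the letters act as the first six stored permutations -/
theorem h0Y : ∀ i, i < G23CY.S.k → ∀ p : Fin G23CY.S.N, ((q0 i : Equiv.Perm (Fin G23CY.S.N)) p).1 =
    G23CY.S.tab i p.1 := by
  intro i hi p
  have hi : i < 6 := hi
  rw [q0_val i hi p]
  interval_cases i <;> rfl

theorem h0X : ∀ i, i < G23CX.S.k → ∀ p : Fin G23CX.S.N, ((q0 i : Equiv.Perm (Fin G23CX.S.N)) p).1 =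
    G23CX.S.tab i p.1 := by
  intro i hi p
  have hi : i < 6 := hi
  rw [q0_val i hi p]
  interval_cases i <;> rfl

theorem order_thirteen : ∀ g : Grp, 13 ∣ orderOf g → orderOf g = 13 := by
  haveI : Fact (Nat.Prime 13) := ⟨by norm_num⟩
  have hcard : Nat.card (Subgroup.closure ((q0 : ℕ → Equiv.Perm (Fin G23CY.S.N)) '' Set.Iio G23CY.S.k)) ≤
      G23CY.S.n 0 * G23CY.S.n 1 * G23CY.S.n 2 := by
    rw [G23CY.c_n0, G23CY.c_n1, G23CY.c_n2]
    exact le_of_eq card_range
  obtain ⟨h1, h2, h3, h4⟩ := cent_main G23CY.ok q0 h0Y G23CY.invIF 6 G23CY.FF 13 G23CY.centOK hcard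
  exact grp_of_cent 13 (by norm_num) _ h1 h2 h3 h4

theorem order_seven : ∀ g : Grp, 7 ∣ orderOf g → orderOf g = 7 := by
  haveI : Fact (Nat.Prime 7) := ⟨by norm_num⟩
  have hcard : Nat.card (Subgroup.closure ((q0 : ℕ → Equiv.Perm (Fin G23CX.S.N)) '' Set.Iio G23CX.S.k)) ≤
      G23CX.S.n 0 * G23CX.S.n 1 * G23CX.S.n 2 := by
    rw [G23CX.c_n0, G23CX.c_n1, G23CX.c_n2]
    exact le_of_eq card_range
  obtain ⟨h1, h2, h3, h4⟩ := cent_main G23CX.ok q0 h0X G23CX.invIF 6 G23CX.FF 7 G23CX.centOK hcard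
  exact grp_of_cent 7 (by norm_num) _ h1 h2 h3 h4

theorem exists_order_six : ∃ g : Grp, orderOf g = 6 := by
  have h6 : orderOf (G23CY.S.perm (q0 : ℕ → Equiv.Perm (Fin G23CY.S.N)) 16) = 6 :=
    orderOf_perm_six G23CY.ok q0 h0Y 16 (by show 16 < 18; omega)
      (fun p hp => beq_eq (allBelow_eq_true.1 G23CY.c_six p hp)) 1 1 (by show 1 < 702; omega)
      (by show 1 < 702; omega)
      (fun h => by have := G23CY.c_six2; rw [h, Nat.beq_refl] at this; exact absurd this (by decide))
      (fun h => by have := G23CY.c_six3; rw [h, Nat.beq_refl] at this; exact absurd this (by decide))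
  have hm : G23CY.S.perm (q0 : ℕ → Equiv.Perm (Fin G23CY.S.N)) 16 ∈ phi.range := by
    rw [range_eq]
    exact Sgs.perm_mem G23CY.ok q0 h0Y 16 (by show 16 < 18; omega)
  obtain ⟨g, hg⟩ := hm
  refine ⟨g, ?_⟩
  rw [← orderOf_injective phi phi_injective g, hg]
  exact h6

end Cfsg.Agent.Lib.Helper9.G23Cent
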