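import Mathlib
import Cfsg.Agent.Lib.Helper4.SLCenter
import Cfsg.Agent.Lib.Helper4.K4Field

/-!
Element orders of `PSL₂(13)`: every element has order dividing `6`, `7` or `13`, and there is an element of
order `6`.  The powers of a `2 × 2` matrix of determinant `1` are computed from its trace.
-/

set_option autoImplicit false

namespace Cfsg.Agent.Lib.Helper9.PSL213

open Matrix

/-- the coefficients of `M ^ n = a • M + b • 1` when `M * M = t • M - 1` -/
def ab {R : Type*} [CommRing R] (t : R) : ℕ → R × R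
  | 0 => (0, 1)
  | n+1 => (t * (ab t n).1 + (ab t n).2, -(ab t n).1)

theorem pow_eq_ab {R : Type*} [CommRing R] (M : Matrix (Fin 2) (Fin 2) R) (t : R)
    (h : M * M = t • M - 1) (n : ℕ) :
    M ^ n = (ab t n).1 • M + (ab t n).2 • (1 : Matrix (Fin 2) (Fin 2) R) := by
  induction n with
  | zero => simp [ab]
  | succ n ih =>
    rw [pow_succ, ih, add_mul, smul_mul_assoc, smul_mul_assoc, h, one_mul]
    show _ = (t * (ab t n).1 + (ab t n).2) • M + (-(ab t n).1) • (1 : Matrix (Fin 2) (Fin 2) R)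
    rw [smul_sub, smul_smul, add_smul, neg_smul, mul_comm]
    abel

theorem cayley_hamilton_two {R : Type*} [CommRing R] (M : Matrix (Fin 2) (Fin 2) R) (hdet : M.det = 1) :
    M * M = (M 0 0 + M 1 1) • M - 1 := by
  rw [Matrix.det_fin_two] at hdet
  ext i j
  fin_cases i <;> fin_cases j
  · simp [Matrix.mul_apply, Fin.sum_univ_two]
    linear_combination (-1 : R) * hdet
  · simp [Matrix.mul_apply, Fin.sum_univ_two]
    ring
  · simp [Matrix.mul_apply, Fin.sum_univ_two]
    ring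
  · simp [Matrix.mul_apply, Fin.sum_univ_two]
    linear_combination (-1 : R) * hdet

theorem orderOf_eq_six_of {G : Type*} [Group G] (x : G) (h6 : x ^ 6 = 1) (h2 : x ^ 2 ≠ 1) (h3 : x ^ 3 ≠ 1) :
    orderOf x = 6 := by
  have hd : orderOf x ∣ 6 := orderOf_dvd_of_pow_eq_one h6
  have hle : orderOf x ≤ 6 := Nat.le_of_dvd (by norm_num) hd
  have hpow := pow_orderOf_eq_one x
  generalize orderOf x = o at hd hle hpow
  interval_cases o
  · exact absurd hd (by decide)
  · rw [pow_one] at hpow; rw [hpow, one_pow] at h2; exact absurd rfl h2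
  · exact absurd hpow h2
  · exact absurd hpow h3
  · exact absurd hd (by decide)
  · exact absurd hd (by decide)
  · rfl

set_option maxRecDepth 100000 in
theorem ab_cases : ∀ t : ZMod 13,
    ((ab t 6).1 = 0 ∧ ((ab t 6).2 = 1 ∨ (ab t 6).2 = -1)) ∨
    ((ab t 7).1 = 0 ∧ ((ab t 7).2 = 1 ∨ (ab t 7).2 = -1)) ∨
    ((ab t 13).1 = 0 ∧ ((ab t 13).2 = 1 ∨ (ab t 13).2 = -1)) := by decide +kernel

abbrev SL13 : Type := Matrix.SpecialLinearGroup (Fin 2) (ZMod 13)
abbrev PSL13 : Type := Matrix.ProjectiveSpecialLinearGroup (Fin 2) (ZMod 13)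

/-- a power which is `± 1` as a matrix is central -/
theorem mem_center_of_pow (Y : SL13) (n : ℕ) (b : ZMod 13) (hb : b = 1 ∨ b = -1)
    (h : (Y.1) ^ n = b • (1 : Matrix (Fin 2) (Fin 2) (ZMod 13))) :
    Y ^ n ∈ Subgroup.center SL13 := by
  rw [Matrix.SpecialLinearGroup.mem_center_iff]
  refine ⟨b, ?_, ?_⟩
  · rcases hb with rfl | rfl <;> simp
  · rw [Matrix.SpecialLinearGroup.coe_pow, h, Matrix.scalar_apply, Matrix.smul_one_eq_diagonal]

theorem pow_cases (y : PSL13) : y ^ 6 = 1 ∨ y ^ 7 = 1 ∨ y ^ 13 = 1 := by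
  obtain ⟨Y, rfl⟩ := QuotientGroup.mk_surjective y
  have hCH := cayley_hamilton_two Y.1 Y.2
  have key : ∀ n : ℕ, (ab (Y.1 0 0 + Y.1 1 1) n).1 = 0 →
      ((ab (Y.1 0 0 + Y.1 1 1) n).2 = 1 ∨ (ab (Y.1 0 0 + Y.1 1 1) n).2 = -1) →
      (QuotientGroup.mk Y : PSL13) ^ n = 1 := by
    intro n ha hb
    rw [← QuotientGroup.mk_pow, QuotientGroup.eq_one_iff]
    apply mem_center_of_pow Y n _ hb
    rw [pow_eq_ab Y.1 _ hCH n, ha, zero_smul, zero_add]
  rcases ab_cases (Y.1 0 0 + Y.1 1 1) with ⟨h1, h2⟩ | ⟨h1, h2⟩ | ⟨h1, h2⟩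
  · exact Or.inl (key 6 h1 h2)
  · exact Or.inr (Or.inl (key 7 h1 h2))
  · exact Or.inr (Or.inr (key 13 h1 h2))

/-- a diagonal matrix of order `12` -/
def Y0 : SL13 := ⟨!![2, 0; 0, 7], by rw [Matrix.det_fin_two_of]; decide⟩

theorem exists_order_six13 : ∃ y : PSL13, orderOf y = 6 := by
  refine ⟨QuotientGroup.mk Y0, ?_⟩
  have hCH := cayley_hamilton_two Y0.1 Y0.2
  have ht : Y0.1 0 0 + Y0.1 1 1 = 9 := by decide
  rw [ht] at hCH
  have hpow := pow_eq_ab Y0.1 9 hCH
  have notc : ∀ n : ℕ, (ab (9 : ZMod 13) n).1 * 2 + (ab (9 : ZMod 13) n).2 ≠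
      (ab (9 : ZMod 13) n).1 * 7 + (ab (9 : ZMod 13) n).2 →
      (QuotientGroup.mk Y0 : PSL13) ^ n ≠ 1 := by
    intro n hne h
    rw [← QuotientGroup.mk_pow, QuotientGroup.eq_one_iff, Matrix.SpecialLinearGroup.mem_center_iff] at h
    obtain ⟨r, _, hr⟩ := h
    rw [Matrix.SpecialLinearGroup.coe_pow, hpow n] at hr
    have h00 := congrFun (congrFun hr 0) 0
    have h11 := congrFun (congrFun hr 1) 1
    simp [Y0, Matrix.scalar_apply] at h00 h11
    apply hne
    rw [← h00, ← h11]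
  apply orderOf_eq_six_of
  · rw [← QuotientGroup.mk_pow, QuotientGroup.eq_one_iff]
    apply mem_center_of_pow Y0 6 (-1) (Or.inr rfl)
    rw [hpow 6]
    have e1 : (ab (9 : ZMod 13) 6).1 = 0 := by decide
    have e2 : (ab (9 : ZMod 13) 6).2 = -1 := by decide
    rw [e1, e2, zero_smul, zero_add]
  · exact notc 2 (by decide)
  · exact notc 3 (by decide)

/-! ### any field with 13 elements -/

variable {E : Type*} [Field E] [Fintype E]

theorem card_psl (hE : Fintype.card E = 13) :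
    Nat.card (Matrix.ProjectiveSpecialLinearGroup (Fin 2) E) = 1092 := by
  have h1 := Cfsg.Agent.Lib.Helper4.card_PSL_mul (F := E) 2 (by norm_num)
  rw [Cfsg.Agent.Lib.Helper4.card_SL2, hE] at h1
  have h2 : Nat.gcd 2 (13 - 1) = 2 := by decide
  rw [h2] at h1
  omega

/-- the isomorphism with `PSL₂` over `ZMod 13` -/
noncomputable def equiv13 (hE : Fintype.card E = 13) :
    Matrix.ProjectiveSpecialLinearGroup (Fin 2) E ≃* PSL13 :=
  Cfsg.Agent.Lib.Helper4.K4Field.pslEquivN 2 (ZMod.ringEquivOfPrime E (by norm_num) hE).symm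

theorem pow_cases_E (hE : Fintype.card E = 13) (y : Matrix.ProjectiveSpecialLinearGroup (Fin 2) E) :
    y ^ 6 = 1 ∨ y ^ 7 = 1 ∨ y ^ 13 = 1 := by
  have h := pow_cases (equiv13 hE y)
  simp only [← map_pow, MulEquiv.map_eq_one_iff] at h
  exact h

theorem exists_order_six_E (hE : Fintype.card E = 13) :
    ∃ y : Matrix.ProjectiveSpecialLinearGroup (Fin 2) E, orderOf y = 6 := by
  obtain ⟨y, hy⟩ := exists_order_six13
  exact ⟨(equiv13 hE).symm y, by rw [MulEquiv.orderOf_eq, hy]⟩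

/-- the only product of two distinct primes which is the order of an element is `6` -/
theorem rs_eq_six_of_pow_cases {G : Type*} [Group G] (h : ∀ y : G, y ^ 6 = 1 ∨ y ^ 7 = 1 ∨ y ^ 13 = 1)
    (y : G) (r s : ℕ) (hr : r.Prime) (hs : s.Prime) (hy : orderOf y = r * s) : r * s = 6 := by
  have hr2 := hr.two_le
  have hs2 := hs.two_le
  have h4 : 4 ≤ r * s := by nlinarith
  have hnp : ¬ (r * s).Prime := Nat.not_prime_mul (by omega) (by omega)
  rcases h y with h1 | h1 | h1
  · have hd : r * s ∣ 6 := hy ▸ orderOf_dvd_of_pow_eq_one h1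
    have hle : r * s ≤ 6 := Nat.le_of_dvd (by norm_num) hd
    generalize r * s = k at hd hle h4
    interval_cases k
    · exact absurd hd (by decide)
    · exact absurd hd (by decide)
    · rfl
  · have hd : r * s ∣ 7 := hy ▸ orderOf_dvd_of_pow_eq_one h1
    rcases (Nat.dvd_prime (by norm_num : Nat.Prime 7)).1 hd with h2 | h2
    · omega
    · rw [h2] at hnp; exact absurd (by norm_num) hnp
  · have hd : r * s ∣ 13 := hy ▸ orderOf_dvd_of_pow_eq_one h1
    rcases (Nat.dvd_prime (by norm_num : Nat.Prime 13)).1 hd with h2 | h2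
    · omega
    · rw [h2] at hnp; exact absurd (by norm_num) hnp

end Cfsg.Agent.Lib.Helper9.PSL213
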