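import Mathlib
import Cfsg.Agent.S1059
import Cfsg.Agent.Lib.Helper4.G23pIso
import Cfsg.Agent.Lib.Helper9.G23Cent
import Cfsg.Agent.Lib.Helper9.PSL213

/-!
The groups `G₂(3)` and `PSL₂(13)` have the same prime graph: the primes are `2, 3, 7, 13` and the only edge
joins `2` and `3`.
-/

set_option autoImplicit false

namespace Cfsg.Agent.Lib.Helper9.G23Graph

open Cfsg.Lie

theorem prime_dvd_g2 (r : ℕ) (hr : r.Prime) (h : r ∣ 4245696) : r = 2 ∨ r = 3 ∨ r = 7 ∨ r = 13 := by
  have e : 4245696 = 2 ^ 6 * 3 ^ 6 * 7 * 13 := by norm_num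
  rw [e] at h
  rcases (Nat.Prime.dvd_mul hr).1 h with h | h
  · rcases (Nat.Prime.dvd_mul hr).1 h with h | h
    · rcases (Nat.Prime.dvd_mul hr).1 h with h | h
      · left; exact (Nat.prime_dvd_prime_iff_eq hr (by norm_num)).1 (hr.dvd_of_dvd_pow h)
      · right; left; exact (Nat.prime_dvd_prime_iff_eq hr (by norm_num)).1 (hr.dvd_of_dvd_pow h)
    · right; right; left; exact (Nat.prime_dvd_prime_iff_eq hr (by norm_num)).1 h
  · right; right; right; exact (Nat.prime_dvd_prime_iff_eq hr (by norm_num)).1 h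

theorem prime_dvd_psl (r : ℕ) (hr : r.Prime) (h : r ∣ 1092) : r = 2 ∨ r = 3 ∨ r = 7 ∨ r = 13 := by
  have e : 1092 = 2 ^ 2 * 3 * 7 * 13 := by norm_num
  rw [e] at h
  rcases (Nat.Prime.dvd_mul hr).1 h with h | h
  · rcases (Nat.Prime.dvd_mul hr).1 h with h | h
    · rcases (Nat.Prime.dvd_mul hr).1 h with h | h
      · left; exact (Nat.prime_dvd_prime_iff_eq hr (by norm_num)).1 (hr.dvd_of_dvd_pow h)
      · right; left; exact (Nat.prime_dvd_prime_iff_eq hr (by norm_num)).1 h
    · right; right; left; exact (Nat.prime_dvd_prime_iff_eq hr (by norm_num)).1 h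
  · right; right; right; exact (Nat.prime_dvd_prime_iff_eq hr (by norm_num)).1 h

theorem prime_dvd_iff (r : ℕ) (hr : r.Prime) : r ∣ 4245696 ↔ r ∣ 1092 := by
  constructor
  · intro h
    rcases prime_dvd_g2 r hr h with rfl | rfl | rfl | rfl <;> decide
  · intro h
    rcases prime_dvd_psl r hr h with rfl | rfl | rfl | rfl <;> decide

/-- the only product of two distinct primes which is the order of an element is `6` -/
theorem rs_eq_six_g2 {G : Type*} [Group G] [Finite G] (hcard : Nat.card G = 4245696)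
    (h7 : ∀ g : G, 7 ∣ orderOf g → orderOf g = 7) (h13 : ∀ g : G, 13 ∣ orderOf g → orderOf g = 13)
    (x : G) (r s : ℕ) (hr : r.Prime) (hs : s.Prime) (hrs : r ≠ s) (hx : orderOf x = r * s) :
    r * s = 6 := by
  have hr2 := hr.two_le
  have hs2 := hs.two_le
  have hnp : ¬ (r * s).Prime := Nat.not_prime_mul (by omega) (by omega)
  have n7 : ¬ 7 ∣ r * s := by
    intro h
    have := h7 x (hx ▸ h)
    rw [hx] at this
    rw [this] at hnp
    exact hnp (by norm_num)
  have n13 : ¬ 13 ∣ r * s := by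
    intro h
    have := h13 x (hx ▸ h)
    rw [hx] at this
    rw [this] at hnp
    exact hnp (by norm_num)
  have hd : r * s ∣ 4245696 := by rw [← hx, ← hcard]; exact orderOf_dvd_natCard x
  have hrd : r ∣ 4245696 := dvd_trans (dvd_mul_right r s) hd
  have hsd : s ∣ 4245696 := dvd_trans (dvd_mul_left s r) hd
  rcases prime_dvd_g2 r hr hrd with rfl | rfl | rfl | rfl
  · rcases prime_dvd_g2 s hs hsd with rfl | rfl | rfl | rfl
    · exact absurd rfl hrs
    · rfl
    · exact absurd (dvd_mul_left 7 2) n7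
    · exact absurd (dvd_mul_left 13 2) n13
  · rcases prime_dvd_g2 s hs hsd with rfl | rfl | rfl | rfl
    · rfl
    · exact absurd rfl hrs
    · exact absurd (dvd_mul_left 7 3) n7
    · exact absurd (dvd_mul_left 13 3) n13
  · exact absurd (dvd_mul_right 7 s) n7
  · exact absurd (dvd_mul_right 13 s) n13

variable {F : Type*} [Field F] [Fintype F]

theorem card_g2 (hF : Fintype.card F = 3) : Nat.card ↥(chevG2.group F) = 4245696 := by
  rw [Cfsg.Agent.S1059.result (F := F) (q := 3) hF]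
  norm_num

/-- the isomorphism with the presented group -/
theorem exists_iso (hF : Fintype.card F = 3) :
    Nonempty (Cfsg.Agent.Lib.Helper9.G23Cent.Grp ≃* ↥(chevG2.group F)) :=
  Cfsg.Agent.Lib.Helper4.G23Iso.iso hF (card_g2 (ZMod.card 3))

theorem main (hF : Fintype.card F = 3) {E : Type*} [Field E] [Fintype E] (hE : Fintype.card E = 13) :
    ((∀ r : ℕ, r.Prime → (r ∣ Nat.card ↥(chevG2.group F) ↔
        r ∣ Nat.card (Matrix.ProjectiveSpecialLinearGroup (Fin 2) E))) ∧
      (∀ r s : ℕ, r.Prime → s.Prime → r ≠ s → ((∃ x : ↥(chevG2.group F), orderOf x = r * s) ↔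
        (∃ y : (Matrix.ProjectiveSpecialLinearGroup (Fin 2) E), orderOf y = r * s)))) := by
  obtain ⟨e⟩ := exists_iso hF
  have hfin : Finite ↥(chevG2.group F) := Finite.of_equiv _ e.toEquiv
  have hc := card_g2 hF
  refine ⟨?_, ?_⟩
  · intro r hr
    rw [hc, Cfsg.Agent.Lib.Helper9.PSL213.card_psl hE]
    exact prime_dvd_iff r hr
  · intro r s hr hs hrs
    have h7 : ∀ g : ↥(chevG2.group F), 7 ∣ orderOf g → orderOf g = 7 := by
      intro g hg
      have := Cfsg.Agent.Lib.Helper9.G23Cent.order_seven (e.symm g) (by rw [MulEquiv.orderOf_eq]; exact hg)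
      rwa [MulEquiv.orderOf_eq] at this
    have h13 : ∀ g : ↥(chevG2.group F), 13 ∣ orderOf g → orderOf g = 13 := by
      intro g hg
      have := Cfsg.Agent.Lib.Helper9.G23Cent.order_thirteen (e.symm g) (by rw [MulEquiv.orderOf_eq]; exact hg)
      rwa [MulEquiv.orderOf_eq] at this
    constructor
    · rintro ⟨x, hx⟩
      have h6 := rs_eq_six_g2 hc h7 h13 x r s hr hs hrs hx
      obtain ⟨y, hy⟩ := Cfsg.Agent.Lib.Helper9.PSL213.exists_order_six_E hE
      exact ⟨y, by rw [hy, h6]⟩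
    · rintro ⟨y, hy⟩
      have h6 := Cfsg.Agent.Lib.Helper9.PSL213.rs_eq_six_of_pow_cases
        (Cfsg.Agent.Lib.Helper9.PSL213.pow_cases_E hE) y r s hr hs hy
      obtain ⟨g, hg⟩ := Cfsg.Agent.Lib.Helper9.G23Cent.exists_order_six
      exact ⟨e g, by rw [MulEquiv.orderOf_eq, hg, h6]⟩

end Cfsg.Agent.Lib.Helper9.G23Graph
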