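import Mathlib
import Cfsg.Agent.Lib.Helper4.TC11

/-!
Sifting through a strong generating set certificate (`Cfsg.Agent.Lib.Helper4.TC.Sgs`) with three levels whose
orbit lengths multiply to the order of the group, and a verified search for the centraliser of an element `z`
when the base is `b, z b, z (z b)`.
-/

set_option autoImplicit false

namespace Cfsg.Agent.Lib.Helper9.Sift

open Cfsg.Agent.Lib.Helper4.TC Cfsg.Agent.Lib.Helper4.TC.Log Cfsg.Agent.Lib.Helper4.TC.Sgs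

/-! ### computable parts -/

/-- Boolean `or` by `Bool.rec` on the first argument. -/
def bor (a b : Bool) : Bool := @Bool.rec (fun _ => Bool) b true a

theorem bor_eq_true {a b : Bool} : bor a b = true ↔ a = true ∨ b = true := by
  cases a <;> cases b <;> simp [bor]

/-- Boolean negation by `Bool.rec`. -/
def bnot (a : Bool) : Bool := @Bool.rec (fun _ => Bool) true false a

/-- `f i` for some `i < n`. -/
def anyBelow (f : ℕ → Bool) (n : ℕ) : Bool :=
  @Nat.rec (fun _ => Bool) false (fun i ih => bor (f i) ih) n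

theorem anyBelow_succ (f : ℕ → Bool) (n : ℕ) : anyBelow f (n+1) = bor (f n) (anyBelow f n) := rfl

theorem anyBelow_eq_true {f : ℕ → Bool} {n : ℕ} :
    anyBelow f n = true ↔ ∃ i, i < n ∧ f i = true := by
  induction n with
  | zero => simp [anyBelow]
  | succ n ih =>
    rw [anyBelow_succ, bor_eq_true, ih]
    constructor
    · rintro (h | ⟨i, hi, h⟩)
      · exact ⟨n, Nat.lt_succ_self n, h⟩
      · exact ⟨i, Nat.lt_succ_of_lt hi, h⟩
    · rintro ⟨i, hi, h⟩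
      rcases Nat.lt_succ_iff_lt_or_eq.1 hi with h' | rfl
      · exact Or.inr ⟨i, h', h⟩
      · exact Or.inl h

/-- the action of the transversal element of the node `idx` of level `j`, with fuel -/
def trAct (S : Sgs) (j : ℕ) : ℕ → ℕ → ℕ → ℕ
  | 0, _, p => p
  | f+1, idx, p =>
    bsel (Nat.beq idx (S.root j)) (S.tab (S.gi j idx) (trAct S j f (S.par j idx) p)) p

/-- the action of the inverse of the transversal element -/
def trInv (S : Sgs) (invI : ℕ → ℕ) (j : ℕ) : ℕ → ℕ → ℕ → ℕ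
  | 0, _, p => p
  | f+1, idx, p =>
    bsel (Nat.beq idx (S.root j)) (trInv S invI j f (S.par j idx) (S.tab (invI (S.gi j idx)) p)) p

/-- one plus the index of the node with point `η` among the first `k` nodes of level `j`; `0` if there is none -/
def findIdx (S : Sgs) (j η : ℕ) : ℕ → ℕ
  | 0 => 0
  | u+1 => bsel (Nat.beq (S.pt j u) η) (findIdx S j η u) (u+1)

/-- iterate a table -/
def iter (f : ℕ → ℕ) : ℕ → ℕ → ℕ
  | 0, p => p
  | t+1, p => f (iter f t p)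

/-- the function `c` commutes with the stored permutation `iz` on all points -/
def commOK (S : Sgs) (iz : ℕ) (c : ℕ → ℕ) : Bool :=
  allBelow (fun p => Nat.beq (c (S.tab iz p)) (S.tab iz (c p))) S.N

/-- last step of the search: the candidate is known -/
def srch2 (S : Sgs) (iz F i0 i1 : ℕ) (k2 : ℕ) : Bool :=
  @Nat.rec (fun _ => Bool) true (fun i2 _ =>
    bnot (commOK S iz fun p => trAct S 0 F i0 (trAct S 1 F i1 (trAct S 2 F i2 p)))) k2

/-- second step of the search -/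
def srch1 (S : Sgs) (invI : ℕ → ℕ) (iz F i0 : ℕ) (k1 : ℕ) : Bool :=
  @Nat.rec (fun _ => Bool) true (fun i1 _ =>
    srch2 S iz F i0 i1
      (findIdx S 2 (trInv S invI 1 F i1 (trInv S invI 0 F i0 (S.tab iz (S.tab iz (S.pt 0 i0))))) (S.n 2))) k1

/-- `true` when no element of the group commuting with `z` maps the first base point to the point of node `i0`
of level `0` -/
def srch (S : Sgs) (invI : ℕ → ℕ) (iz F i0 : ℕ) : Bool :=
  srch1 S invI iz F i0 (findIdx S 1 (trInv S invI 0 F i0 (S.tab iz (S.pt 0 i0))) (S.n 1))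

/-- the point `d` lies in the orbit of the first base point under the stored permutation `iz` -/
def inOrb (S : Sgs) (iz ord d : ℕ) : Bool :=
  anyBelow (fun t => Nat.beq (iter (S.tab iz) t (S.beta 0)) d) ord

/-- what is checked for the centraliser of the stored permutation `iz` -/
structure CentOK (S : Sgs) (invI : ℕ → ℕ) (iz F ord : ℕ) : Prop where
  hr : S.r = 3
  hiz : iz < S.m
  hF : ∀ j, j < 3 → ∀ idx, idx < S.n j → S.dep j idx < F
  hIlt : ∀ i, i < S.m → invI i < S.m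
  hIinv : ∀ i p, i < S.m → p < S.N → S.tab (invI i) (S.tab i p) = p
  hb1 : S.beta 1 = S.tab iz (S.beta 0)
  hb2 : S.beta 2 = S.tab iz (S.beta 1)
  hne : S.beta 1 ≠ S.beta 0
  hord : ∀ p, p < S.N → iter (S.tab iz) ord p = p
  hsrch : ∀ i0, i0 < S.n 0 → bor (inOrb S iz ord (S.pt 0 i0)) (srch S invI iz F i0) = true

/-! ### the transversal elements -/

variable {S : Sgs}

/-- the transversal element of the node `idx` of level `j`, with fuel -/
noncomputable def tr (S : Sgs) (q0 : ℕ → Equiv.Perm (Fin S.N)) (j : ℕ) : ℕ → ℕ → Equiv.Perm (Fin S.N)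
  | 0, _ => 1
  | f+1, idx => if idx = S.root j then 1 else S.perm q0 (S.gi j idx) * tr S q0 j f (S.par j idx)

theorem tr_root (q0 : ℕ → Equiv.Perm (Fin S.N)) (j f : ℕ) : tr S q0 j f (S.root j) = 1 := by
  cases f with
  | zero => rfl
  | succ f => show (if S.root j = S.root j then _ else _) = _; rw [if_pos rfl]

theorem tr_succ (q0 : ℕ → Equiv.Perm (Fin S.N)) (j f idx : ℕ) (h : idx ≠ S.root j) :
    tr S q0 j (f+1) idx = S.perm q0 (S.gi j idx) * tr S q0 j f (S.par j idx) := by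
  show (if idx = S.root j then _ else _) = _; rw [if_neg h]

theorem trAct_root (j f p : ℕ) : trAct S j f (S.root j) p = p := by
  cases f with
  | zero => rfl
  | succ f =>
    show bsel (Nat.beq (S.root j) (S.root j)) _ _ = _
    rw [Nat.beq_refl, bsel_true]

theorem beq_false_of_ne {a b : ℕ} (h : a ≠ b) : Nat.beq a b = false := by
  cases hb : Nat.beq a b
  · rfl
  · exact absurd (beq_eq hb) h

theorem trAct_succ (j f idx p : ℕ) (h : idx ≠ S.root j) :
    trAct S j (f+1) idx p = S.tab (S.gi j idx) (trAct S j f (S.par j idx) p) := by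
  show bsel (Nat.beq idx (S.root j)) _ _ = _
  rw [beq_false_of_ne h, bsel_false]

theorem trInv_root (invI : ℕ → ℕ) (j f p : ℕ) : trInv S invI j f (S.root j) p = p := by
  cases f with
  | zero => rfl
  | succ f =>
    show bsel (Nat.beq (S.root j) (S.root j)) _ _ = _
    rw [Nat.beq_refl, bsel_true]

theorem trInv_succ (invI : ℕ → ℕ) (j f idx p : ℕ) (h : idx ≠ S.root j) :
    trInv S invI j (f+1) idx p = trInv S invI j f (S.par j idx) (S.tab (invI (S.gi j idx)) p) := by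
  show bsel (Nat.beq idx (S.root j)) _ _ = _
  rw [beq_false_of_ne h, bsel_false]

/-- what the check of a node other than the root says -/
theorem node_facts (hok : S.OK) (j idx : ℕ) (hj : j < S.r) (hidx : idx < S.n j) (hr : idx ≠ S.root j) :
    S.par j idx < S.n j ∧ S.dep j (S.par j idx) < S.dep j idx ∧ S.gi j idx < S.m ∧
      j ≤ S.lev (S.gi j idx) ∧ S.tab (S.gi j idx) (S.pt j (S.par j idx)) = S.pt j idx := by
  have hn := hok.hnode j idx hj hidx
  rw [nodeOK, band_eq_true, band_eq_true] at hn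
  have h3 := hn.2.2
  rw [beq_false_of_ne hr, bsel_false, band_eq_true, band_eq_true, band_eq_true, band_eq_true] at h3
  obtain ⟨c1, c2, c3, c4, c5⟩ := h3
  exact ⟨ble_succ c1, ble_succ c2, ble_succ c3, Nat.le_of_ble_eq_true c4, beq_eq c5⟩

theorem tr_mem (hok : S.OK) (q0 : ℕ → Equiv.Perm (Fin S.N)) (j : ℕ) (hj : j < S.r) :
    ∀ f idx, idx < S.n j → tr S q0 j f idx ∈ S.Gam q0 j := by
  intro f
  induction f with
  | zero => intro _ _; exact one_mem _
  | succ f ih =>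
    intro idx hidx
    by_cases h : idx = S.root j
    · rw [h, tr_root]; exact one_mem _
    · obtain ⟨h1, _, h3, h4, _⟩ := node_facts hok j idx hj hidx h
      rw [tr_succ q0 j f idx h]
      exact mul_mem (Subgroup.subset_closure ⟨_, h3, h4, rfl⟩) (ih _ h1)

theorem tr_val (hok : S.OK) (q0 : ℕ → Equiv.Perm (Fin S.N))
    (h0 : ∀ i, i < S.k → ∀ p : Fin S.N, (q0 i p).1 = S.tab i p.1) (j : ℕ) (hj : j < S.r) :
    ∀ f idx, idx < S.n j → ∀ p : Fin S.N, (tr S q0 j f idx p).1 = trAct S j f idx p.1 := by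
  intro f
  induction f with
  | zero => intro _ _ _; rfl
  | succ f ih =>
    intro idx hidx p
    by_cases h : idx = S.root j
    · rw [h, tr_root, trAct_root]; rfl
    · obtain ⟨h1, _, h3, _, _⟩ := node_facts hok j idx hj hidx h
      rw [tr_succ q0 j f idx h, trAct_succ j f idx p.1 h, Equiv.Perm.mul_apply,
        perm_val hok q0 h0 _ h3, ih _ h1]

theorem tr_base (hok : S.OK) (q0 : ℕ → Equiv.Perm (Fin S.N))
    (h0 : ∀ i, i < S.k → ∀ p : Fin S.N, (q0 i p).1 = S.tab i p.1) (j : ℕ) (hj : j < S.r) :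
    ∀ f idx (hidx : idx < S.n j), S.dep j idx < f →
      tr S q0 j f idx ⟨S.beta j, beta_lt hok j hj⟩ = ⟨S.pt j idx, pt_lt hok j idx hj hidx⟩ := by
  intro f
  induction f with
  | zero => intro _ _ h; exact absurd h (Nat.not_lt_zero _)
  | succ f ih =>
    intro idx hidx hd
    by_cases h : idx = S.root j
    · subst h
      rw [tr_root]
      apply Fin.ext
      exact (root_pt hok j hj).symm
    · obtain ⟨h1, h2, h3, _, h5⟩ := node_facts hok j idx hj hidx h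
      rw [tr_succ q0 j f idx h, Equiv.Perm.mul_apply, ih _ h1 (by omega)]
      apply Fin.ext
      rw [perm_val hok q0 h0 _ h3]
      exact h5

theorem perm_invI (hok : S.OK) (q0 : ℕ → Equiv.Perm (Fin S.N))
    (h0 : ∀ i, i < S.k → ∀ p : Fin S.N, (q0 i p).1 = S.tab i p.1) (invI : ℕ → ℕ)
    (hIlt : ∀ i, i < S.m → invI i < S.m)
    (hIinv : ∀ i p, i < S.m → p < S.N → S.tab (invI i) (S.tab i p) = p) (i : ℕ) (hi : i < S.m) :
    S.perm q0 (invI i) = (S.perm q0 i)⁻¹ := by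
  rw [eq_inv_iff_mul_eq_one]
  apply Equiv.Perm.ext
  intro p
  apply Fin.ext
  rw [Equiv.Perm.mul_apply, perm_val hok q0 h0 _ (hIlt i hi), perm_val hok q0 h0 i hi]
  exact hIinv i p.1 hi p.2

theorem trInv_val (hok : S.OK) (q0 : ℕ → Equiv.Perm (Fin S.N))
    (h0 : ∀ i, i < S.k → ∀ p : Fin S.N, (q0 i p).1 = S.tab i p.1) (invI : ℕ → ℕ)
    (hIlt : ∀ i, i < S.m → invI i < S.m)
    (hIinv : ∀ i p, i < S.m → p < S.N → S.tab (invI i) (S.tab i p) = p) (j : ℕ) (hj : j < S.r) :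
    ∀ f idx, idx < S.n j → ∀ p : Fin S.N, ((tr S q0 j f idx)⁻¹ p).1 = trInv S invI j f idx p.1 := by
  intro f
  induction f with
  | zero =>
    intro _ _ p
    show ((1 : Equiv.Perm (Fin S.N))⁻¹ p).1 = p.1
    rw [inv_one]; rfl
  | succ f ih =>
    intro idx hidx p
    by_cases h : idx = S.root j
    · rw [h, tr_root, trInv_root, inv_one]; rfl
    · obtain ⟨h1, _, h3, _, _⟩ := node_facts hok j idx hj hidx h
      rw [tr_succ q0 j f idx h, trInv_succ invI j f idx p.1 h, mul_inv_rev, Equiv.Perm.mul_apply, ih _ h1,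
        ← perm_invI hok q0 h0 invI hIlt hIinv _ h3, perm_val hok q0 h0 _ (hIlt _ h3)]

theorem perm_pow_val (hok : S.OK) (q0 : ℕ → Equiv.Perm (Fin S.N))
    (h0 : ∀ i, i < S.k → ∀ p : Fin S.N, (q0 i p).1 = S.tab i p.1) (i : ℕ) (hi : i < S.m) (t : ℕ)
    (p : Fin S.N) : ((S.perm q0 i ^ t) p).1 = iter (S.tab i) t p.1 := by
  induction t with
  | zero => rfl
  | succ t ih =>
    rw [pow_succ', Equiv.Perm.mul_apply, perm_val hok q0 h0 i hi, ih]
    rfl

/-- the order of a stored permutation from its table -/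
theorem orderOf_perm_six (hok : S.OK) (q0 : ℕ → Equiv.Perm (Fin S.N))
    (h0 : ∀ i, i < S.k → ∀ p : Fin S.N, (q0 i p).1 = S.tab i p.1) (i : ℕ) (hi : i < S.m)
    (h6 : ∀ p, p < S.N → iter (S.tab i) 6 p = p) (p2 p3 : ℕ) (hp2 : p2 < S.N) (hp3 : p3 < S.N)
    (h2 : iter (S.tab i) 2 p2 ≠ p2) (h3 : iter (S.tab i) 3 p3 ≠ p3) : orderOf (S.perm q0 i) = 6 := by
  have e6 : S.perm q0 i ^ 6 = 1 := by
    apply Equiv.Perm.ext
    intro p
    apply Fin.ext
    rw [perm_pow_val hok q0 h0 i hi, h6 p.1 p.2]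
    rfl
  have e2 : S.perm q0 i ^ 2 ≠ 1 := by
    intro h
    have := perm_pow_val hok q0 h0 i hi 2 ⟨p2, hp2⟩
    rw [h] at this
    exact h2 this.symm
  have e3 : S.perm q0 i ^ 3 ≠ 1 := by
    intro h
    have := perm_pow_val hok q0 h0 i hi 3 ⟨p3, hp3⟩
    rw [h] at this
    exact h3 this.symm
  have hd : orderOf (S.perm q0 i) ∣ 6 := orderOf_dvd_of_pow_eq_one e6
  have hle : orderOf (S.perm q0 i) ≤ 6 := Nat.le_of_dvd (by norm_num) hd
  have hpow := pow_orderOf_eq_one (S.perm q0 i)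
  generalize orderOf (S.perm q0 i) = o at hd hle hpow
  interval_cases o
  · exact absurd hd (by decide)
  · rw [pow_one] at hpow; rw [hpow, one_pow] at e2; exact absurd rfl e2
  · exact absurd hpow e2
  · exact absurd hpow e3
  · exact absurd hd (by decide)
  · exact absurd hd (by decide)
  · rfl

/-! ### sifting -/

section sift

variable (hok : S.OK) (q0 : ℕ → Equiv.Perm (Fin S.N))
  (h0 : ∀ i, i < S.k → ∀ p : Fin S.N, (q0 i p).1 = S.tab i p.1) (hr : S.r = 3)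

include hok h0 hr

theorem apply_b0 (A0 A1 A2 : Equiv.Perm (Fin S.N)) (hA1 : A1 ∈ S.Gam q0 1) (hA2 : A2 ∈ S.Gam q0 2) :
    (A0 * A1 * A2) ⟨S.beta 0, beta_lt hok 0 (by omega)⟩ = A0 ⟨S.beta 0, beta_lt hok 0 (by omega)⟩ := by
  rw [Equiv.Perm.mul_apply, Equiv.Perm.mul_apply,
    Gam_succ_fix hok q0 h0 0 (by omega) A2 (Gam_succ_le q0 1 hA2),
    Gam_succ_fix hok q0 h0 0 (by omega) A1 hA1]

theorem apply_b1 (A1 A2 : Equiv.Perm (Fin S.N)) (hA2 : A2 ∈ S.Gam q0 2) :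
    (A1 * A2) ⟨S.beta 1, beta_lt hok 1 (by omega)⟩ = A1 ⟨S.beta 1, beta_lt hok 1 (by omega)⟩ := by
  rw [Equiv.Perm.mul_apply, Gam_succ_fix hok q0 h0 1 (by omega) A2 hA2]

/-- every element of the group is a product of three transversal elements -/
theorem sift (F : ℕ) (hF : ∀ j, j < 3 → ∀ idx, idx < S.n j → S.dep j idx < F)
    (hcard : Nat.card (Subgroup.closure (q0 '' Set.Iio S.k)) ≤ S.n 0 * S.n 1 * S.n 2) :
    ∀ c ∈ Subgroup.closure (q0 '' Set.Iio S.k), ∃ i0, i0 < S.n 0 ∧ ∃ i1, i1 < S.n 1 ∧ ∃ i2, i2 < S.n 2 ∧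
      c = tr S q0 0 F i0 * tr S q0 1 F i1 * tr S q0 2 F i2 := by
  have hj0 : 0 < S.r := by omega
  have hj1 : 1 < S.r := by omega
  have hj2 : 2 < S.r := by omega
  have hG0 : S.Gam q0 0 ≤ Subgroup.closure (q0 '' Set.Iio S.k) := Gam_zero_le hok q0 h0
  have hG1 : S.Gam q0 1 ≤ S.Gam q0 0 := Gam_succ_le q0 0
  have hG2 : S.Gam q0 2 ≤ S.Gam q0 1 := Gam_succ_le q0 1
  let f : Fin (S.n 0) × Fin (S.n 1) × Fin (S.n 2) → Subgroup.closure (q0 '' Set.Iio S.k) := fun x =>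
    ⟨tr S q0 0 F x.1.1 * tr S q0 1 F x.2.1.1 * tr S q0 2 F x.2.2.1,
      mul_mem (mul_mem (hG0 (tr_mem hok q0 0 hj0 F _ x.1.2)) (hG0 (hG1 (tr_mem hok q0 1 hj1 F _ x.2.1.2))))
        (hG0 (hG1 (hG2 (tr_mem hok q0 2 hj2 F _ x.2.2.2))))⟩
  have hinj : Function.Injective f := by
    rintro ⟨a0, a1, a2⟩ ⟨c0, c1, c2⟩ hac
    have e : tr S q0 0 F a0.1 * tr S q0 1 F a1.1 * tr S q0 2 F a2.1 =
        tr S q0 0 F c0.1 * tr S q0 1 F c1.1 * tr S q0 2 F c2.1 := congrArg Subtype.val hac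
    have e0 := DFunLike.congr_fun e ⟨S.beta 0, beta_lt hok 0 hj0⟩
    rw [apply_b0 hok q0 h0 hr _ _ _ (tr_mem hok q0 1 hj1 F _ a1.2) (tr_mem hok q0 2 hj2 F _ a2.2),
      apply_b0 hok q0 h0 hr _ _ _ (tr_mem hok q0 1 hj1 F _ c1.2) (tr_mem hok q0 2 hj2 F _ c2.2),
      tr_base hok q0 h0 0 hj0 F _ a0.2 (hF 0 (by omega) _ a0.2),
      tr_base hok q0 h0 0 hj0 F _ c0.2 (hF 0 (by omega) _ c0.2)] at e0
    have i0eq : a0 = c0 := Fin.ext (pt_injective hok 0 hj0 _ _ a0.2 c0.2 (congrArg Fin.val e0))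
    subst i0eq
    rw [mul_assoc, mul_assoc] at e
    have e' := mul_left_cancel e
    have e1 := DFunLike.congr_fun e' ⟨S.beta 1, beta_lt hok 1 hj1⟩
    rw [apply_b1 hok q0 h0 hr _ _ (tr_mem hok q0 2 hj2 F _ a2.2),
      apply_b1 hok q0 h0 hr _ _ (tr_mem hok q0 2 hj2 F _ c2.2),
      tr_base hok q0 h0 1 hj1 F _ a1.2 (hF 1 (by omega) _ a1.2),
      tr_base hok q0 h0 1 hj1 F _ c1.2 (hF 1 (by omega) _ c1.2)] at e1
    have i1eq : a1 = c1 := Fin.ext (pt_injective hok 1 hj1 _ _ a1.2 c1.2 (congrArg Fin.val e1))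
    subst i1eq
    have e'' := mul_left_cancel e'
    have e2 := DFunLike.congr_fun e'' ⟨S.beta 2, beta_lt hok 2 hj2⟩
    rw [tr_base hok q0 h0 2 hj2 F _ a2.2 (hF 2 (by omega) _ a2.2),
      tr_base hok q0 h0 2 hj2 F _ c2.2 (hF 2 (by omega) _ c2.2)] at e2
    have i2eq : a2 = c2 := Fin.ext (pt_injective hok 2 hj2 _ _ a2.2 c2.2 (congrArg Fin.val e2))
    subst i2eq
    rfl
  have hbij : Function.Bijective f := by
    apply hinj.bijective_of_nat_card_le
    rw [Nat.card_prod, Nat.card_prod, Nat.card_fin, Nat.card_fin, Nat.card_fin, ← mul_assoc]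
    exact hcard
  intro c hc
  obtain ⟨x, hx⟩ := hbij.2 ⟨c, hc⟩
  exact ⟨x.1.1, x.1.2, x.2.1.1, x.2.1.2, x.2.2.1, x.2.2.2, (congrArg Subtype.val hx).symm⟩

end sift

/-! ### the centraliser -/

theorem findIdx_spec (hok : S.OK) (j : ℕ) (hj : j < S.r) (η i : ℕ) :
    ∀ u, u ≤ S.n j → i < u → S.pt j i = η → findIdx S j η u = i + 1 := by
  intro u
  induction u with
  | zero => intro _ h _; exact absurd h (Nat.not_lt_zero _)
  | succ u ih =>
    intro hu hi he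
    show bsel (Nat.beq (S.pt j u) η) (findIdx S j η u) (u+1) = i+1
    by_cases h : S.pt j u = η
    · have hui : u = i := pt_injective hok j hj u i (by omega) (by omega) (h.trans he.symm)
      rw [h, Nat.beq_refl, bsel_true, hui]
    · rw [beq_false_of_ne h, bsel_false]
      have hne : i ≠ u := fun e => h (e ▸ he)
      exact ih (by omega) (by omega) he

section cent

variable (hok : S.OK) (q0 : ℕ → Equiv.Perm (Fin S.N))
  (h0 : ∀ i, i < S.k → ∀ p : Fin S.N, (q0 i p).1 = S.tab i p.1)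
  (invI : ℕ → ℕ) (iz F ord : ℕ) (hC : CentOK S invI iz F ord)

include hok h0 hC

theorem z_val (p : Fin S.N) : (S.perm q0 iz p).1 = S.tab iz p.1 := perm_val hok q0 h0 iz hC.hiz p

theorem z_b0 : S.perm q0 iz ⟨S.beta 0, beta_lt hok 0 (by rw [hC.hr]; omega)⟩ =
    ⟨S.beta 1, beta_lt hok 1 (by rw [hC.hr]; omega)⟩ := by
  apply Fin.ext
  rw [z_val hok q0 h0 invI iz F ord hC]
  exact hC.hb1.symm

theorem z_b1 : S.perm q0 iz ⟨S.beta 1, beta_lt hok 1 (by rw [hC.hr]; omega)⟩ =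
    ⟨S.beta 2, beta_lt hok 2 (by rw [hC.hr]; omega)⟩ := by
  apply Fin.ext
  rw [z_val hok q0 h0 invI iz F ord hC]
  exact hC.hb2.symm

theorem zpow_val (t : ℕ) (p : Fin S.N) : ((S.perm q0 iz ^ t) p).1 = iter (S.tab iz) t p.1 := by
  induction t with
  | zero => rfl
  | succ t ih =>
    rw [pow_succ', Equiv.Perm.mul_apply, z_val hok q0 h0 invI iz F ord hC, ih]
    rfl

theorem srch_false (i0 i1 i2 : ℕ) (hi0 : i0 < S.n 0) (hi1 : i1 < S.n 1) (hi2 : i2 < S.n 2)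
    (hcomm : Commute (tr S q0 0 F i0 * tr S q0 1 F i1 * tr S q0 2 F i2) (S.perm q0 iz)) :
    srch S invI iz F i0 = false := by
  have hr := hC.hr
  have hj0 : 0 < S.r := by omega
  have hj1 : 1 < S.r := by omega
  have hj2 : 2 < S.r := by omega
  have hA1 := tr_mem hok q0 1 hj1 F i1 hi1
  have hA2 := tr_mem hok q0 2 hj2 F i2 hi2
  set A0 := tr S q0 0 F i0 with hA0d
  set A1 := tr S q0 1 F i1 with hA1d
  set A2 := tr S q0 2 F i2 with hA2d
  set z := S.perm q0 iz with hz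
  have cz : ∀ p, (A0 * A1 * A2) (z p) = z ((A0 * A1 * A2) p) := by
    intro p
    have := DFunLike.congr_fun hcomm.eq p
    rwa [Equiv.Perm.mul_apply, Equiv.Perm.mul_apply] at this
  have cb0 : (A0 * A1 * A2) ⟨S.beta 0, beta_lt hok 0 hj0⟩ = ⟨S.pt 0 i0, pt_lt hok 0 i0 hj0 hi0⟩ := by
    rw [apply_b0 hok q0 h0 hr A0 A1 A2 hA1 hA2]
    exact tr_base hok q0 h0 0 hj0 F i0 hi0 (hC.hF 0 (by omega) i0 hi0)
  have cb1 : (A0 * A1 * A2) ⟨S.beta 1, beta_lt hok 1 hj1⟩ = z ⟨S.pt 0 i0, pt_lt hok 0 i0 hj0 hi0⟩ := by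
    rw [← z_b0 hok q0 h0 invI iz F ord hC, cz, cb0]
  have cb1' : (A0 * A1 * A2) ⟨S.beta 1, beta_lt hok 1 hj1⟩ = A0 ⟨S.pt 1 i1, pt_lt hok 1 i1 hj1 hi1⟩ := by
    rw [mul_assoc, Equiv.Perm.mul_apply, apply_b1 hok q0 h0 hr A1 A2 hA2]
    congr 1
    exact tr_base hok q0 h0 1 hj1 F i1 hi1 (hC.hF 1 (by omega) i1 hi1)
  have cb2 : (A0 * A1 * A2) ⟨S.beta 2, beta_lt hok 2 hj2⟩ =
      z (z ⟨S.pt 0 i0, pt_lt hok 0 i0 hj0 hi0⟩) := by
    rw [← z_b1 hok q0 h0 invI iz F ord hC, cz, cb1]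
  have cb2' : (A0 * A1 * A2) ⟨S.beta 2, beta_lt hok 2 hj2⟩ =
      A0 (A1 ⟨S.pt 2 i2, pt_lt hok 2 i2 hj2 hi2⟩) := by
    rw [Equiv.Perm.mul_apply, Equiv.Perm.mul_apply]
    congr 2
    exact tr_base hok q0 h0 2 hj2 F i2 hi2 (hC.hF 2 (by omega) i2 hi2)
  have he2 : S.pt 1 i1 = trInv S invI 0 F i0 (S.tab iz (S.pt 0 i0)) := by
    have h1 : (⟨S.pt 1 i1, pt_lt hok 1 i1 hj1 hi1⟩ : Fin S.N) =
        A0⁻¹ (z ⟨S.pt 0 i0, pt_lt hok 0 i0 hj0 hi0⟩) :=
      Equiv.Perm.eq_inv_iff_eq.2 (cb1'.symm.trans cb1)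
    have h2 := congrArg Fin.val h1
    rw [trInv_val hok q0 h0 invI hC.hIlt hC.hIinv 0 hj0 F i0 hi0, z_val hok q0 h0 invI iz F ord hC] at h2
    exact h2
  have he3 : S.pt 2 i2 =
      trInv S invI 1 F i1 (trInv S invI 0 F i0 (S.tab iz (S.tab iz (S.pt 0 i0)))) := by
    have h1 : (⟨S.pt 2 i2, pt_lt hok 2 i2 hj2 hi2⟩ : Fin S.N) =
        A1⁻¹ (A0⁻¹ (z (z ⟨S.pt 0 i0, pt_lt hok 0 i0 hj0 hi0⟩))) :=
      Equiv.Perm.eq_inv_iff_eq.2 (Equiv.Perm.eq_inv_iff_eq.2 (cb2'.symm.trans cb2))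
    have h2 := congrArg Fin.val h1
    rw [trInv_val hok q0 h0 invI hC.hIlt hC.hIinv 1 hj1 F i1 hi1,
      trInv_val hok q0 h0 invI hC.hIlt hC.hIinv 0 hj0 F i0 hi0, z_val hok q0 h0 invI iz F ord hC,
      z_val hok q0 h0 invI iz F ord hC] at h2
    exact h2
  have hf1 := findIdx_spec hok 1 hj1 _ i1 (S.n 1) (le_refl _) hi1 he2
  have hf2 := findIdx_spec hok 2 hj2 _ i2 (S.n 2) (le_refl _) hi2 he3
  unfold srch
  rw [hf1]
  show srch2 S iz F i0 i1 _ = false
  rw [hf2]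
  show bnot (commOK S iz fun p => trAct S 0 F i0 (trAct S 1 F i1 (trAct S 2 F i2 p))) = false
  have hcm : commOK S iz (fun p => trAct S 0 F i0 (trAct S 1 F i1 (trAct S 2 F i2 p))) = true := by
    unfold commOK
    rw [allBelow_eq_true]
    intro p hp
    have cval : ∀ x : Fin S.N, ((A0 * A1 * A2) x).1 =
        trAct S 0 F i0 (trAct S 1 F i1 (trAct S 2 F i2 x.1)) := by
      intro x
      rw [Equiv.Perm.mul_apply, Equiv.Perm.mul_apply, tr_val hok q0 h0 0 hj0 F i0 hi0,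
        tr_val hok q0 h0 1 hj1 F i1 hi1, tr_val hok q0 h0 2 hj2 F i2 hi2]
    have h1 := congrArg Fin.val (cz ⟨p, hp⟩)
    rw [cval, z_val hok q0 h0 invI iz F ord hC, z_val hok q0 h0 invI iz F ord hC, cval] at h1
    have h1' : trAct S 0 F i0 (trAct S 1 F i1 (trAct S 2 F i2 (S.tab iz p))) =
        S.tab iz (trAct S 0 F i0 (trAct S 1 F i1 (trAct S 2 F i2 p))) := h1
    show Nat.beq (trAct S 0 F i0 (trAct S 1 F i1 (trAct S 2 F i2 (S.tab iz p))))
      (S.tab iz (trAct S 0 F i0 (trAct S 1 F i1 (trAct S 2 F i2 p)))) = true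
    rw [h1']
    exact Nat.beq_refl _
  rw [hcm]
  rfl

variable (hcard : Nat.card (Subgroup.closure (q0 '' Set.Iio S.k)) ≤ S.n 0 * S.n 1 * S.n 2)

include hcard

theorem img_in_orbit (c : Equiv.Perm (Fin S.N)) (hc : c ∈ Subgroup.closure (q0 '' Set.Iio S.k))
    (hcomm : Commute c (S.perm q0 iz)) :
    ∃ t, t < ord ∧ (c ⟨S.beta 0, beta_lt hok 0 (by rw [hC.hr]; omega)⟩).1 = iter (S.tab iz) t (S.beta 0) := by
  have hr := hC.hr
  have hj0 : 0 < S.r := by omega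
  have hj1 : 1 < S.r := by omega
  have hj2 : 2 < S.r := by omega
  obtain ⟨i0, hi0, i1, hi1, i2, hi2, rfl⟩ := sift hok q0 h0 hr F hC.hF hcard c hc
  have cb0 : (tr S q0 0 F i0 * tr S q0 1 F i1 * tr S q0 2 F i2) ⟨S.beta 0, beta_lt hok 0 hj0⟩ =
      ⟨S.pt 0 i0, pt_lt hok 0 i0 hj0 hi0⟩ := by
    rw [apply_b0 hok q0 h0 hr _ _ _ (tr_mem hok q0 1 hj1 F i1 hi1) (tr_mem hok q0 2 hj2 F i2 hi2)]
    exact tr_base hok q0 h0 0 hj0 F i0 hi0 (hC.hF 0 (by omega) i0 hi0)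
  have hs := hC.hsrch i0 hi0
  rw [bor_eq_true] at hs
  rcases hs with hs | hs
  · unfold inOrb at hs
    rw [anyBelow_eq_true] at hs
    obtain ⟨t, ht, hb⟩ := hs
    refine ⟨t, ht, ?_⟩
    rw [cb0]
    exact (beq_eq hb).symm
  · rw [srch_false hok q0 h0 invI iz F ord hC i0 i1 i2 hi0 hi1 hi2 hcomm] at hs
    exact absurd hs (by decide)

theorem fix_eq_one (c : Equiv.Perm (Fin S.N)) (hc : c ∈ Subgroup.closure (q0 '' Set.Iio S.k))
    (hcomm : Commute c (S.perm q0 iz))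
    (hfix : c ⟨S.beta 0, beta_lt hok 0 (by rw [hC.hr]; omega)⟩ = ⟨S.beta 0, beta_lt hok 0 (by rw [hC.hr]; omega)⟩) :
    c = 1 := by
  have hr := hC.hr
  have hj0 : 0 < S.r := by omega
  have hj1 : 1 < S.r := by omega
  have hj2 : 2 < S.r := by omega
  obtain ⟨i0, hi0, i1, hi1, i2, hi2, rfl⟩ := sift hok q0 h0 hr F hC.hF hcard c hc
  have hA1 := tr_mem hok q0 1 hj1 F i1 hi1
  have hA2 := tr_mem hok q0 2 hj2 F i2 hi2
  have cz : ∀ p, (tr S q0 0 F i0 * tr S q0 1 F i1 * tr S q0 2 F i2) (S.perm q0 iz p) =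
      S.perm q0 iz ((tr S q0 0 F i0 * tr S q0 1 F i1 * tr S q0 2 F i2) p) := by
    intro p
    have := DFunLike.congr_fun hcomm.eq p
    rwa [Equiv.Perm.mul_apply, Equiv.Perm.mul_apply] at this
  -- level 0
  have e0 : i0 = S.root 0 := by
    have h1 := hfix
    rw [apply_b0 hok q0 h0 hr _ _ _ hA1 hA2, tr_base hok q0 h0 0 hj0 F i0 hi0 (hC.hF 0 (by omega) i0 hi0)] at h1
    have h2 : S.pt 0 i0 = S.pt 0 (S.root 0) := by
      rw [root_pt hok 0 hj0]; exact congrArg Fin.val h1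
    exact pt_injective hok 0 hj0 _ _ hi0 (hok.hroot 0 hj0) h2
  have hfix1 : (tr S q0 0 F i0 * tr S q0 1 F i1 * tr S q0 2 F i2) ⟨S.beta 1, beta_lt hok 1 hj1⟩ =
      ⟨S.beta 1, beta_lt hok 1 hj1⟩ := by
    rw [← z_b0 hok q0 h0 invI iz F ord hC, cz, hfix]
  have hfix2 : (tr S q0 0 F i0 * tr S q0 1 F i1 * tr S q0 2 F i2) ⟨S.beta 2, beta_lt hok 2 hj2⟩ =
      ⟨S.beta 2, beta_lt hok 2 hj2⟩ := by
    rw [← z_b1 hok q0 h0 invI iz F ord hC, cz, hfix1]
  rw [e0, tr_root, one_mul] at hfix1 hfix2 ⊢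
  have e1 : i1 = S.root 1 := by
    have h1 := hfix1
    rw [apply_b1 hok q0 h0 hr _ _ hA2, tr_base hok q0 h0 1 hj1 F i1 hi1 (hC.hF 1 (by omega) i1 hi1)] at h1
    have h2 : S.pt 1 i1 = S.pt 1 (S.root 1) := by
      rw [root_pt hok 1 hj1]; exact congrArg Fin.val h1
    exact pt_injective hok 1 hj1 _ _ hi1 (hok.hroot 1 hj1) h2
  rw [e1, tr_root, one_mul] at hfix2 ⊢
  have e2 : i2 = S.root 2 := by
    have h1 := hfix2
    rw [tr_base hok q0 h0 2 hj2 F i2 hi2 (hC.hF 2 (by omega) i2 hi2)] at h1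
    have h2 : S.pt 2 i2 = S.pt 2 (S.root 2) := by
      rw [root_pt hok 2 hj2]; exact congrArg Fin.val h1
    exact pt_injective hok 2 hj2 _ _ hi2 (hok.hroot 2 hj2) h2
  rw [e2, tr_root]

/-- the centraliser of the stored permutation `iz` consists of its powers -/
theorem cent_main :
    S.perm q0 iz ∈ Subgroup.closure (q0 '' Set.Iio S.k) ∧ S.perm q0 iz ^ ord = 1 ∧ S.perm q0 iz ≠ 1 ∧
      ∀ c ∈ Subgroup.closure (q0 '' Set.Iio S.k), Commute c (S.perm q0 iz) → ∃ t : ℕ, c = S.perm q0 iz ^ t := by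
  have hr := hC.hr
  have hj0 : 0 < S.r := by omega
  have hzmem := perm_mem hok q0 h0 iz hC.hiz
  refine ⟨hzmem, ?_, ?_, ?_⟩
  · apply Equiv.Perm.ext
    intro p
    apply Fin.ext
    rw [zpow_val hok q0 h0 invI iz F ord hC, hC.hord p.1 p.2]
    rfl
  · intro h1
    have h2 := z_b0 hok q0 h0 invI iz F ord hC
    rw [h1] at h2
    exact hC.hne (congrArg Fin.val h2).symm
  · intro c hc hcomm
    obtain ⟨t, _, ht⟩ := img_in_orbit hok q0 h0 invI iz F ord hC hcard c hc hcomm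
    refine ⟨t, ?_⟩
    have hcomm' : Commute ((S.perm q0 iz ^ t)⁻¹ * c) (S.perm q0 iz) :=
      (((Commute.refl (S.perm q0 iz)).pow_left t).inv_left).mul_left hcomm
    have hmem' : (S.perm q0 iz ^ t)⁻¹ * c ∈ Subgroup.closure (q0 '' Set.Iio S.k) :=
      mul_mem (inv_mem (pow_mem hzmem t)) hc
    have hfix : ((S.perm q0 iz ^ t)⁻¹ * c) ⟨S.beta 0, beta_lt hok 0 hj0⟩ = ⟨S.beta 0, beta_lt hok 0 hj0⟩ := by
      rw [Equiv.Perm.mul_apply, Equiv.Perm.inv_eq_iff_eq]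
      apply Fin.ext
      rw [ht, zpow_val hok q0 h0 invI iz F ord hC]
    have := fix_eq_one hok q0 h0 invI iz F ord hC hcard _ hmem' hcomm' hfix
    rw [inv_mul_eq_one] at this
    exact this.symm

end cent

end Cfsg.Agent.Lib.Helper9.Sift
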