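import Mathlib
import Cfsg.Prelude.Def_ChevStructure
import Cfsg.Prelude.Def_ChevG2
import Cfsg.Agent.Lib.Helper7.ChG2A
import Cfsg.Agent.Lib.Helper5.G2Cent.Invol3
import Cfsg.Agent.Lib.Helper5.ChevBNPair

set_option autoImplicit false

namespace Cfsg.Agent.Lib.Helper9.G2Lev

open Cfsg Cfsg.Lie Cfsg.Agent.Lib.Helper5.ChevSym Cfsg.Agent.Lib.Helper5.ChevStruct
  Cfsg.Agent.Lib.Helper5.RankOneHom Cfsg.Agent.Lib.Helper5.G2Cent

variable {F : Type*} [Field F]

theorem uu_zero_mul_dd_one : (uu (0 : F)) * dd (1 : F) one_ne_zero = 1 := by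
  apply Subtype.ext
  rw [Matrix.SpecialLinearGroup.coe_mul]
  ext i j
  fin_cases i <;> fin_cases j <;> simp [uu, dd, Matrix.mul_apply, Fin.sum_univ_two]

theorem eq_of_prod_eq_one {G : Type*} [Group G] (a b n c : G) (h : a * b * n * c = 1) :
    n = (a * b)⁻¹ * c⁻¹ := by
  have : n = (a * b)⁻¹ * (a * b * n * c) * c⁻¹ := by group
  rw [this, h]
  group

/-- generic injectivity criterion for the rank-one homomorphism -/
theorem hom_injective_of {G : Type*} [Group G] {X Y H : F → G} {n : G} (h : Rel X Y H n)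
    (B : Subgroup G) (hX : ∀ t, X t ∈ B) (hH : ∀ s, s ≠ 0 → H s ∈ B) (hn : n ∉ B)
    (hXH : ∀ t s, s ≠ 0 → X t * H s = 1 → t = 0 ∧ s = 1) : Function.Injective h.hom := by
  rw [injective_iff_map_eq_one]
  intro g hg
  by_cases hc : (g : Matrix (Fin 2) (Fin 2) F) 1 0 = 0
  · obtain ⟨ha, e⟩ := decomp_zero g hc
    rw [e, map_mul, h.hom_uu, h.hom_dd] at hg
    obtain ⟨h1, h2⟩ := hXH _ _ ha hg
    rw [e]
    have : dd ((g : Matrix (Fin 2) (Fin 2) F) 0 0) ha = dd (1 : F) one_ne_zero := by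
      congr 1
    rw [this, h1, uu_zero_mul_dd_one]
  · exfalso
    have e := decomp_ne g hc
    rw [e, map_mul, map_mul, map_mul, h.hom_uu, h.hom_uu, h.hom_dd, h.hom_nn] at hg
    apply hn
    have : n = (X ((g : Matrix (Fin 2) (Fin 2) F) 0 0 / (g : Matrix (Fin 2) (Fin 2) F) 1 0) *
        H (-((g : Matrix (Fin 2) (Fin 2) F) 1 0)⁻¹))⁻¹ *
        (X ((g : Matrix (Fin 2) (Fin 2) F) 1 1 / (g : Matrix (Fin 2) (Fin 2) F) 1 0))⁻¹ := by
      exact eq_of_prod_eq_one _ _ _ _ hg
    rw [this]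
    exact B.mul_mem (B.inv_mem (B.mul_mem (hX _) (hH _ (by simp [hc])))) (B.inv_mem (hX _))

/-! ### the fundamental rank-one groups of `G₂` -/

theorem rank_cases (i : ℕ) (hi : i < chevG2.rank) : i = 0 ∨ i = 1 := by
  have : chevG2.rank = 2 := rfl
  omega

theorem hGL_simple_eq_one (i : ℕ) (hi : i < chevG2.rank) (s : F) (hs : s ≠ 0)
    (h : hGL chevG2 memG2 (chevG2.simple i) s = 1) : s = 1 := by
  have hex : ∃ r, r < chevG2.nroots ∧ chevG2.cartan i r = -1 := by
    rcases rank_cases i hi with rfl | rfl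
    · exact ⟨8, by decide, by decide⟩
    · exact ⟨7, by decide, by decide⟩
  obtain ⟨r, hr, hc⟩ := hex
  have h1 := conj_h i hi s hs r (1 : F)
  rw [h, one_mul, inv_one, mul_one, hc] at h1
  have h2 := xGL_inj r hr _ _ h1
  rw [mul_one, zpow_neg_one] at h2
  have h3 : s⁻¹ = 1 := h2.symm
  rw [← inv_inv s, h3, inv_one]

theorem simple_isPos (i : ℕ) (hi : i < chevG2.rank) : chevG2.IsPosRoot (chevG2.simple i) := by
  rw [isPos_iff]
  rcases rank_cases i hi with rfl | rfl <;> decide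

theorem nGL_not_mem_borel (i : ℕ) (hi : i < chevG2.rank) :
    (nGL chevG2 memG2 i : GL chevG2.Idx F) ∉ chevG2.borelSubgroup F := by
  intro hn
  obtain ⟨b, hb, hnb⟩ := nGL_conj_borel_ne (F := F) chevG2 memG2 i hi
  exact hnb (mul_mem (mul_mem hn hb) hn)

/-- the rank-one homomorphism of a fundamental root of `G₂` -/
noncomputable def phiS (F : Type*) [Field F] (i : ℕ) (hi : i < chevG2.rank) :
    Matrix.SpecialLinearGroup (Fin 2) F →* GL chevG2.Idx F :=
  (rel_simple (F := F) chevG2 memG2 i hi).hom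

theorem phiS_uu (i : ℕ) (hi : i < chevG2.rank) (t : F) :
    phiS F i hi (uu t) = xGL chevG2 memG2 (chevG2.simple i) t :=
  (rel_simple (F := F) chevG2 memG2 i hi).hom_uu t

theorem phiS_ll (i : ℕ) (hi : i < chevG2.rank) (t : F) :
    phiS F i hi (ll t) = xGL chevG2 memG2 (chevG2.neg (chevG2.simple i)) t :=
  (rel_simple (F := F) chevG2 memG2 i hi).hom_ll t

theorem phiS_dd (i : ℕ) (hi : i < chevG2.rank) (s : F) (hs : s ≠ 0) :
    phiS F i hi (dd s hs) = hGL chevG2 memG2 (chevG2.simple i) s :=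
  (rel_simple (F := F) chevG2 memG2 i hi).hom_dd s hs

theorem phiS_nn (i : ℕ) (hi : i < chevG2.rank) :
    phiS F i hi nn = nGL chevG2 memG2 i :=
  (rel_simple (F := F) chevG2 memG2 i hi).hom_nn

theorem phiS_injective (i : ℕ) (hi : i < chevG2.rank) : Function.Injective (phiS F i hi) := by
  have hp := simple_isPos i hi
  have hr : chevG2.simple i < chevG2.nroots := simple_lt chevG2 memG2 i hi
  apply hom_injective_of _ (chevG2.borelSubgroup F)
  · intro t
    exact pos_le_borel chevG2 (xGL_mem_pos chevG2 memG2 _ hp t)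
  · intro s hs
    exact diagonal_le_borel chevG2
      (Cfsg.Agent.Lib.Helper7.Ch2G.hGL_simple_mem_diagonal chevG2 memG2 i hi s hs)
  · exact nGL_not_mem_borel i hi
  · intro t s hs h
    have hH := Cfsg.Agent.Lib.Helper7.Ch2G.hGL_simple_mem_diagonal chevG2 memG2 i hi s hs
    have hxt : xGL chevG2 memG2 (chevG2.simple i) t
        ∈ chevG2.posUnipotent F ⊓ chevG2.diagonalSubgroup F := by
      refine ⟨xGL_mem_pos chevG2 memG2 _ hp t, ?_⟩
      rw [eq_inv_of_mul_eq_one_left h]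
      exact (chevG2.diagonalSubgroup F).inv_mem hH
    rw [pos_inf_diagonal chevG2 memG2, Subgroup.mem_bot] at hxt
    have ht := xGL_eq_one _ hr t hxt
    rw [hxt, one_mul] at h
    exact ⟨ht, hGL_simple_eq_one i hi s hs h⟩

theorem phiS_range (i : ℕ) (hi : i < chevG2.rank) :
    (phiS F i hi).range = chevG2.rootSubgroup F (chevG2.simple i)
      ⊔ chevG2.rootSubgroup F (chevG2.neg (chevG2.simple i)) := by
  have e1 : (fun t => phiS F i hi (uu t)) = fun t : F => xGL chevG2 memG2 (chevG2.simple i) t :=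
    funext (phiS_uu i hi)
  have e2 : (fun t => phiS F i hi (ll t))
      = fun t : F => xGL chevG2 memG2 (chevG2.neg (chevG2.simple i)) t :=
    funext (phiS_ll i hi)
  rw [range_eq_closure, Subgroup.closure_union, rootSubgroup_eq_closure_range chevG2 memG2,
    rootSubgroup_eq_closure_range chevG2 memG2, e1, e2]

end Cfsg.Agent.Lib.Helper9.G2Lev
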