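import Cfsg.Agent.Lib.Helper9.G2LevA

set_option autoImplicit false

namespace Cfsg.Agent.Lib.Helper9.G2Lev

open Cfsg Cfsg.Lie Cfsg.Agent.Lib.Helper5.ChevSym Cfsg.Agent.Lib.Helper5.ChevStruct
  Cfsg.Agent.Lib.Helper5.RankOneHom Cfsg.Agent.Lib.Helper5.G2Cent

variable {F : Type*} [Field F]

example : wAct chevG2 [0,1] 7 = 9 ∧ wAct chevG2 [0,1] 4 = 2 := by decide
example : chevG2.simple 0 = 7 ∧ chevG2.simple 1 = 6 ∧ chevG2.neg 7 = 4 ∧ chevG2.neg 6 = 5 ∧ chevG2.neg 9 = 2 := by decide

/-- conjugation by `n_w` permutes the root subgroups -/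
theorem map_conj_rootSubgroup (w : List ℕ) (hw : ∀ i ∈ w, i < chevG2.rank) (r : ℕ) (hr : r < 12) :
    (chevG2.rootSubgroup F r).map (MulAut.conj (wGL chevG2 memG2 w)).toMonoidHom
      = chevG2.rootSubgroup F (wAct chevG2 w r) := by
  obtain ⟨ε, hε, h⟩ := wGL_conj_x (F := F) w hw r hr
  rw [rootSubgroup_eq_closure_range chevG2 memG2, rootSubgroup_eq_closure_range chevG2 memG2,
    MonoidHom.map_closure, ← Set.range_comp]
  congr 1
  ext g
  constructor
  · rintro ⟨t, rfl⟩
    refine ⟨ε * t, ?_⟩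
    simp only [Function.comp_apply, MulEquiv.coe_toMonoidHom, MulAut.conj_apply]
    rw [h t]
  · rintro ⟨t, rfl⟩
    refine ⟨ε * t, ?_⟩
    simp only [Function.comp_apply, MulEquiv.coe_toMonoidHom, MulAut.conj_apply]
    rw [h (ε * t), ← mul_assoc]
    have : ε * ε = 1 := by rcases hε with rfl | rfl <;> ring
    rw [this, one_mul]

/-- root elements of roots `r`, `s` with no `i r + j s` a root commute -/
theorem x_comm (r s : ℕ) (hr : r < chevG2.nroots) (hs : s < chevG2.nroots) (h1 : s ≠ r)
    (h2 : s ≠ chevG2.neg r) (h0 : chevG2.commTerms r s = []) (a u : F) :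
    xGL chevG2 memG2 s u * xGL chevG2 memG2 r a = xGL chevG2 memG2 r a * xGL chevG2 memG2 s u := by
  apply Units.ext
  rw [Units.val_mul, Units.val_mul, xGL_val, xGL_val]
  exact Cfsg.Agent.Lib.Helper5.RootCent.x_comm_of_zero chevG2 memG2 r s hr hs h1 h2
    (fun c hc => by rw [h0] at hc; simp at hc) a u

/-- the long-root `SL₂`: `⟨X_β, X_{-β}⟩` -/
def La (F : Type*) [Field F] : Subgroup (GL chevG2.Idx F) :=
  chevG2.rootSubgroup F 6 ⊔ chevG2.rootSubgroup F 5

/-- the short-root `SL₂`: `⟨X_{2α+β}, X_{-2α-β}⟩` -/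
def Lb (F : Type*) [Field F] : Subgroup (GL chevG2.Idx F) :=
  chevG2.rootSubgroup F 9 ⊔ chevG2.rootSubgroup F 2

theorem La_eq_closure : La F = Subgroup.closure
    (Set.range (fun t : F => xGL chevG2 memG2 6 t) ∪ Set.range (fun t : F => xGL chevG2 memG2 5 t)) := by
  unfold La
  rw [Subgroup.closure_union, rootSubgroup_eq_closure_range chevG2 memG2,
    rootSubgroup_eq_closure_range chevG2 memG2]

theorem Lb_eq_closure : Lb F = Subgroup.closure
    (Set.range (fun t : F => xGL chevG2 memG2 9 t) ∪ Set.range (fun t : F => xGL chevG2 memG2 2 t)) := by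
  unfold Lb
  rw [Subgroup.closure_union, rootSubgroup_eq_closure_range chevG2 memG2,
    rootSubgroup_eq_closure_range chevG2 memG2]

theorem La_le_group : La F ≤ chevG2.group F := by
  rw [La_eq_closure, Subgroup.closure_le]
  rintro g (⟨t, rfl⟩ | ⟨t, rfl⟩) <;> exact xGL_mem_group chevG2 memG2 _ _

theorem Lb_le_group : Lb F ≤ chevG2.group F := by
  rw [Lb_eq_closure, Subgroup.closure_le]
  rintro g (⟨t, rfl⟩ | ⟨t, rfl⟩) <;> exact xGL_mem_group chevG2 memG2 _ _

/-- the generators of `L_a` commute with the generators of `L_b` -/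
theorem gen_comm (r s : ℕ) (hr : r = 6 ∨ r = 5) (hs : s = 9 ∨ s = 2) (a u : F) :
    xGL chevG2 memG2 s u * xGL chevG2 memG2 r a = xGL chevG2 memG2 r a * xGL chevG2 memG2 s u := by
  rcases hr with rfl | rfl <;> rcases hs with rfl | rfl <;>
    exact x_comm _ _ (by decide) (by decide) (by decide) (by decide) (by decide +kernel) a u

/-- `L_a` and `L_b` commute elementwise -/
theorem comm_La_Lb (x : GL chevG2.Idx F) (hx : x ∈ La F) (y : GL chevG2.Idx F) (hy : y ∈ Lb F) :
    x * y = y * x := by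
  -- first: every generator of `L_a` commutes with every element of `L_b`
  have h1 : ∀ (r : ℕ), (r = 6 ∨ r = 5) → ∀ (a : F) (y : GL chevG2.Idx F), y ∈ Lb F →
      xGL chevG2 memG2 r a * y = y * xGL chevG2 memG2 r a := by
    intro r hr a y hy
    rw [Lb_eq_closure] at hy
    induction hy using Subgroup.closure_induction with
    | mem y hy =>
      rcases hy with ⟨t, rfl⟩ | ⟨t, rfl⟩
      · exact (gen_comm r 9 hr (Or.inl rfl) a t).symm
      · exact (gen_comm r 2 hr (Or.inr rfl) a t).symm
    | one => rw [mul_one, one_mul]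
    | mul y z _ _ hy hz => rw [← mul_assoc, hy, mul_assoc, hz, mul_assoc]
    | inv y _ hy =>
      have : Commute (xGL chevG2 memG2 r a) y := hy
      exact this.inv_right
  rw [La_eq_closure] at hx
  induction hx using Subgroup.closure_induction with
  | mem x hx =>
    rcases hx with ⟨t, rfl⟩ | ⟨t, rfl⟩
    · exact h1 6 (Or.inl rfl) t y hy
    · exact h1 5 (Or.inr rfl) t y hy
  | one => rw [mul_one, one_mul]
  | mul x z _ _ hx hz => rw [mul_assoc, hz, ← mul_assoc, hx, mul_assoc]
  | inv x _ hx =>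
    have : Commute x y := hx
    exact this.inv_left

/-- the homomorphism `SL₂(F) → L_a` -/
noncomputable def phiA (F : Type*) [Field F] :
    Matrix.SpecialLinearGroup (Fin 2) F →* GL chevG2.Idx F := phiS F 1 (by decide)

/-- the element `n_α n_β` carrying `α` to `2α+β` -/
noncomputable def wB (F : Type*) [Field F] : GL chevG2.Idx F := wGL chevG2 memG2 [0, 1]

/-- the homomorphism `SL₂(F) → L_b` -/
noncomputable def phiB (F : Type*) [Field F] :
    Matrix.SpecialLinearGroup (Fin 2) F →* GL chevG2.Idx F :=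
  (MulAut.conj (wB F)).toMonoidHom.comp (phiS F 0 (by decide))

theorem phiA_injective : Function.Injective (phiA F) := phiS_injective 1 (by decide)

theorem phiB_injective : Function.Injective (phiB F) := by
  unfold phiB
  rw [MonoidHom.coe_comp]
  exact (MulAut.conj (wB F)).injective.comp (phiS_injective 0 (by decide))

theorem phiA_range : (phiA F).range = La F := by
  unfold phiA La
  rw [phiS_range]
  rfl

theorem wd01 : ∀ i ∈ [0, 1], i < chevG2.rank := by decide

theorem phiB_range : (phiB F).range = Lb F := by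
  unfold phiB Lb
  rw [MonoidHom.range_comp, phiS_range, Subgroup.map_sup]
  have e0 : chevG2.simple 0 = 7 := by decide
  have e1 : chevG2.neg 7 = 4 := by decide
  rw [e0, e1]
  unfold wB
  rw [map_conj_rootSubgroup [0, 1] wd01 7 (by decide), map_conj_rootSubgroup [0, 1] wd01 4 (by decide)]
  have e2 : wAct chevG2 [0, 1] 7 = 9 := by decide
  have e3 : wAct chevG2 [0, 1] 4 = 2 := by decide
  rw [e2, e3]

/-- `SL₂(F) ≃* L_a` -/
noncomputable def equivA (F : Type*) [Field F] :
    Matrix.SpecialLinearGroup (Fin 2) F ≃* La F :=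
  (MonoidHom.ofInjective phiA_injective).trans (MulEquiv.subgroupCongr phiA_range)

/-- `SL₂(F) ≃* L_b` -/
noncomputable def equivB (F : Type*) [Field F] :
    Matrix.SpecialLinearGroup (Fin 2) F ≃* Lb F :=
  (MonoidHom.ofInjective phiB_injective).trans (MulEquiv.subgroupCongr phiB_range)

theorem equivA_coe (g : Matrix.SpecialLinearGroup (Fin 2) F) :
    ((equivA F g : La F) : GL chevG2.Idx F) = phiA F g := rfl

theorem equivB_coe (g : Matrix.SpecialLinearGroup (Fin 2) F) :
    ((equivB F g : Lb F) : GL chevG2.Idx F) = phiB F g := rfl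

end Cfsg.Agent.Lib.Helper9.G2Lev
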