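import Cfsg.Agent.Lib.Helper9.G2LevB

set_option autoImplicit false

namespace Cfsg.Agent.Lib.Helper9.G2Lev

open Cfsg Cfsg.Lie Cfsg.Agent.Lib.Helper5.ChevSym Cfsg.Agent.Lib.Helper5.ChevStruct
  Cfsg.Agent.Lib.Helper5.RankOneHom Cfsg.Agent.Lib.Helper5.G2Cent
  Cfsg.Agent.Lib.Helper7.Ch2G Cfsg.Agent.Lib.Helper7.ChG2

variable {F : Type*} [Field F]

/-- the involution `t₀ = h_β(-1)` -/
noncomputable def t0 (F : Type*) [Field F] : GL chevG2.Idx F := hGL chevG2 memG2 6 (-1)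

theorem dd_neg_one : dd (-1 : F) (neg_ne_zero.2 one_ne_zero) = -1 := by
  apply Subtype.ext
  ext i j
  fin_cases i <;> fin_cases j <;> simp [dd, inv_neg]

theorem phiA_neg_one : phiA F (-1) = t0 F := by
  rw [← dd_neg_one]
  unfold phiA
  rw [phiS_dd]
  rfl

theorem phiS0_neg_one : phiS F 0 (by decide) (-1) = hGL chevG2 memG2 7 (-1) := by
  rw [← dd_neg_one, phiS_dd]
  rfl

theorem t0_eq_hLam : t0 F = hLam chevG2 F (-1) (Pi.single i1 1) :=
  hGL_neg_one_eq chevG2 memG2 i1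

theorem h7_eq_hLam : hGL chevG2 memG2 7 (-1 : F) = hLam chevG2 F (-1) (Pi.single i0 1) :=
  hGL_neg_one_eq chevG2 memG2 i0

/-- `n_α n_β h_α(-1) (n_α n_β)⁻¹ = h_β(-1)` -/
theorem wB_conj : wB F * hGL chevG2 memG2 7 (-1 : F) * (wB F)⁻¹ = t0 F := by
  have e : wB F = nGL chevG2 memG2 0 * nGL chevG2 memG2 1 := by
    unfold wB wGL
    simp
  have e' : wB F * hGL chevG2 memG2 7 (-1 : F) * (wB F)⁻¹
      = nGL chevG2 memG2 0 * (nGL chevG2 memG2 1 * hGL chevG2 memG2 7 (-1 : F)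
          * (nGL chevG2 memG2 1)⁻¹) * (nGL chevG2 memG2 0)⁻¹ := by
    rw [e]; group
  have o1 : Odd (pairLam chevG2 (Pi.single i0 1) (chevG2.simple i1.val)) := by
    rw [pairLam_G2]
    have : (Pi.single i0 (1 : ℤ) : Fin chevG2.rank → ℤ) i1 = 0 := by decide
    rw [this]
    have : (Pi.single i0 (1 : ℤ) : Fin chevG2.rank → ℤ) i0 = 1 := by decide
    rw [this]
    decide
  have o2 : Odd (pairLam chevG2 (Pi.single i0 1 + Pi.single i1 1) (chevG2.simple i0.val)) := by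
    rw [pairLam_G2]
    have : (Pi.single i0 (1 : ℤ) + Pi.single i1 1 : Fin chevG2.rank → ℤ) i1 = 1 := by decide
    rw [this]
    have : (Pi.single i0 (1 : ℤ) + Pi.single i1 1 : Fin chevG2.rank → ℤ) i0 = 1 := by decide
    rw [this]
    decide
  have s1 := nGL_conj_hLam_odd (F := F) chevG2 memG2 i1 (Pi.single i0 1) o1
  have s2 := nGL_conj_hLam_odd (F := F) chevG2 memG2 i0 (Pi.single i0 1 + Pi.single i1 1) o2
  have v0 : i0.val = 0 := rfl
  have v1 : i1.val = 1 := rfl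
  rw [v1] at s1
  rw [v0] at s2
  rw [e', h7_eq_hLam, s1, s2, t0_eq_hLam]
  have : (Pi.single i0 (1 : ℤ) + Pi.single i1 1 + Pi.single i0 1 : Fin chevG2.rank → ℤ)
      = Pi.single i0 1 + (Pi.single i0 1 + Pi.single i1 1) := by abel
  rw [this, hLam_add, hLam_add, ← mul_assoc, hLam_neg_one_sq, one_mul]

theorem phiB_neg_one : phiB F (-1) = t0 F := by
  unfold phiB
  rw [MonoidHom.comp_apply, phiS0_neg_one, MulEquiv.coe_toMonoidHom, MulAut.conj_apply, wB_conj]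

theorem t0_mem_La : t0 F ∈ La F := by
  rw [← phiA_range, ← phiA_neg_one]
  exact ⟨_, rfl⟩

theorem t0_mem_Lb : t0 F ∈ Lb F := by
  rw [← phiB_range, ← phiB_neg_one]
  exact ⟨_, rfl⟩

theorem t0_mul_self : t0 F * t0 F = 1 := by
  rw [← phiA_neg_one, ← map_mul]
  simp

end Cfsg.Agent.Lib.Helper9.G2Lev
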