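import Cfsg.Agent.Lib.Helper9.G2LevC
import Cfsg.Agent.Lib.Helper4.SLCard

set_option autoImplicit false

namespace Cfsg.Agent.Lib.Helper9.G2Lev

open Cfsg Cfsg.Lie Cfsg.Agent.Lib.Helper5.ChevSym Cfsg.Agent.Lib.Helper5.ChevStruct
  Cfsg.Agent.Lib.Helper5.RankOneHom Cfsg.Agent.Lib.Helper5.G2Cent
  Cfsg.Agent.Lib.Helper7.Ch2G Cfsg.Agent.Lib.Helper7.ChG2

variable {F : Type*} [Field F]

/-- an element of `SL₂(F)` commuting with both elementary unipotents is `±1` -/
theorem sl2_central (g : Matrix.SpecialLinearGroup (Fin 2) F)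
    (h1 : g * uu 1 = uu 1 * g) (h2 : g * ll 1 = ll 1 * g) : g = 1 ∨ g = -1 := by
  have hdet := det_rel g
  have e1 := congrArg (fun m : Matrix.SpecialLinearGroup (Fin 2) F =>
    (m : Matrix (Fin 2) (Fin 2) F)) h1
  have e2 := congrArg (fun m : Matrix.SpecialLinearGroup (Fin 2) F =>
    (m : Matrix (Fin 2) (Fin 2) F)) h2
  simp only [Matrix.SpecialLinearGroup.coe_mul] at e1 e2
  have a1 := congrFun (congrFun e1 0) 0
  have a2 := congrFun (congrFun e1 0) 1
  have b1 := congrFun (congrFun e2 0) 0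
  simp [uu, ll, Matrix.mul_apply, Fin.sum_univ_two] at a1 a2 b1
  have hd : (g : Matrix (Fin 2) (Fin 2) F) 1 1 = (g : Matrix (Fin 2) (Fin 2) F) 0 0 := by
    linear_combination -a2
  rw [a1, b1, hd, zero_mul, sub_zero] at hdet
  rcases mul_self_eq_one_iff.1 hdet with ha | ha
  · left
    apply Subtype.ext
    ext i j
    fin_cases i <;> fin_cases j <;> simp [a1, b1, hd, ha]
  · right
    apply Subtype.ext
    ext i j
    fin_cases i <;> fin_cases j <;> simp [a1, b1, hd, ha]

/-- `-1` is central in `SL₂(F)` -/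
theorem neg_one_comm (g : Matrix.SpecialLinearGroup (Fin 2) F) : (-1) * g = g * (-1) := by
  apply Subtype.ext
  simp

theorem neg_one_ne_one (h : (-1 : F) ≠ 1) : (-1 : Matrix.SpecialLinearGroup (Fin 2) F) ≠ 1 := by
  intro e
  have := congrArg (fun m : Matrix.SpecialLinearGroup (Fin 2) F =>
    (m : Matrix (Fin 2) (Fin 2) F) 0 0) e
  simp at this
  exact h this

theorem t0_ne_one (h : (-1 : F) ≠ 1) : t0 F ≠ 1 := by
  rw [← phiA_neg_one]
  intro e
  rw [← map_one (phiA F)] at e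
  exact neg_one_ne_one h (phiA_injective e)

/-- `L_a ∩ L_b = ⟨t₀⟩` -/
theorem La_inf_Lb : La F ⊓ Lb F = Subgroup.zpowers (t0 F) := by
  apply le_antisymm
  · rintro x ⟨hxa, hxb⟩
    have hxa' := hxa
    rw [← phiA_range] at hxa'
    obtain ⟨g, rfl⟩ := hxa'
    have hu : phiA F (uu 1) ∈ La F := by rw [← phiA_range]; exact ⟨_, rfl⟩
    have hl : phiA F (ll 1) ∈ La F := by rw [← phiA_range]; exact ⟨_, rfl⟩
    have c1 : g * uu 1 = uu 1 * g := by
      apply phiA_injective
      rw [map_mul, map_mul]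
      exact (comm_La_Lb _ hu _ hxb).symm
    have c2 : g * ll 1 = ll 1 * g := by
      apply phiA_injective
      rw [map_mul, map_mul]
      exact (comm_La_Lb _ hl _ hxb).symm
    rcases sl2_central g c1 c2 with rfl | rfl
    · rw [map_one]; exact one_mem _
    · rw [phiA_neg_one]; exact Subgroup.mem_zpowers _
  · rw [Subgroup.zpowers_le]
    exact ⟨t0_mem_La, t0_mem_Lb⟩

/-- `L_a L_b ≤ C(t₀)` -/
theorem sup_le_centralizer : La F ⊔ Lb F ≤ Subgroup.centralizer ({t0 F} : Set (GL chevG2.Idx F)) := by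
  rw [sup_le_iff]
  constructor
  · intro x hx
    rw [Subgroup.mem_centralizer_singleton_iff]
    exact (comm_La_Lb x hx _ t0_mem_Lb)
  · intro y hy
    rw [Subgroup.mem_centralizer_singleton_iff]
    exact (comm_La_Lb _ t0_mem_La y hy).symm

end Cfsg.Agent.Lib.Helper9.G2Lev
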