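import Cfsg.Agent.Lib.Helper9.G2LevD

set_option autoImplicit false

namespace Cfsg.Agent.Lib.Helper9.G2Lev

open Cfsg Cfsg.Lie Cfsg.Agent.Lib.Helper5.ChevSym Cfsg.Agent.Lib.Helper5.ChevStruct
  Cfsg.Agent.Lib.Helper5.RankOneHom Cfsg.Agent.Lib.Helper5.G2Cent
  Cfsg.Agent.Lib.Helper7.Ch2G Cfsg.Agent.Lib.Helper7.ChG2

variable {F : Type*} [Field F]

theorem mem_zpowers_of_sq {G : Type*} [Group G] (t x : G) (ht : t * t = 1)
    (hx : x ∈ Subgroup.zpowers t) : x = 1 ∨ x = t := by
  obtain ⟨k, rfl⟩ := Subgroup.mem_zpowers_iff.1 hx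
  have h2 : t ^ (2 : ℤ) = 1 := by
    rw [zpow_two, ht]
  rcases Int.even_or_odd' k with ⟨m, rfl | rfl⟩
  · left
    rw [zpow_mul, h2, one_zpow]
  · right
    rw [zpow_add, zpow_mul, h2, one_zpow, one_mul, zpow_one]

theorem phi_comm (g g' : Matrix.SpecialLinearGroup (Fin 2) F) :
    Commute (phiA F g) (phiB F g') := by
  have ha : phiA F g ∈ La F := by rw [← phiA_range]; exact ⟨_, rfl⟩
  have hb : phiB F g' ∈ Lb F := by rw [← phiB_range]; exact ⟨_, rfl⟩
  exact comm_La_Lb _ ha _ hb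

/-- the multiplication map `SL₂ × SL₂ → L_a L_b` -/
noncomputable def psi (F : Type*) [Field F] :
    Matrix.SpecialLinearGroup (Fin 2) F × Matrix.SpecialLinearGroup (Fin 2) F →* GL chevG2.Idx F :=
  (phiA F).noncommCoprod (phiB F) phi_comm

theorem psi_range : (psi F).range = La F ⊔ Lb F := by
  unfold psi
  rw [MonoidHom.noncommCoprod_range, phiA_range, phiB_range]

theorem mem_ker_psi (x : Matrix.SpecialLinearGroup (Fin 2) F × Matrix.SpecialLinearGroup (Fin 2) F) :
    x ∈ (psi F).ker ↔ x = 1 ∨ x = (-1, -1) := by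
  rw [MonoidHom.mem_ker]
  unfold psi
  rw [MonoidHom.noncommCoprod_apply]
  constructor
  · intro h
    have h1 : phiA F x.1 = phiB F (x.2)⁻¹ := by
      rw [map_inv]
      exact eq_inv_of_mul_eq_one_left h
    have hm : phiA F x.1 ∈ La F ⊓ Lb F := by
      refine ⟨by rw [← phiA_range]; exact ⟨_, rfl⟩, ?_⟩
      rw [h1, ← phiB_range]
      exact ⟨_, rfl⟩
    rw [La_inf_Lb] at hm
    rcases mem_zpowers_of_sq _ _ t0_mul_self hm with e | e
    · have e1 : x.1 = 1 := phiA_injective (by rw [e, map_one])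
      rw [e, one_mul] at h
      have e2 : x.2 = 1 := phiB_injective (by rw [h, map_one])
      left
      exact Prod.ext e1 e2
    · have e1 : x.1 = -1 := phiA_injective (by rw [e, phiA_neg_one])
      rw [e] at h
      have h3 : phiB F x.2 = t0 F := by
        have : phiB F x.2 = (t0 F)⁻¹ := eq_inv_of_mul_eq_one_right h
        rw [this]
        exact inv_eq_of_mul_eq_one_left t0_mul_self
      have e2 : x.2 = -1 := phiB_injective (by rw [h3, phiB_neg_one])
      right
      exact Prod.ext e1 e2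
  · rintro (rfl | rfl)
    · simp
    · show phiA F (-1) * phiB F (-1) = 1
      rw [phiA_neg_one, phiB_neg_one, t0_mul_self]

theorem card_ker_psi (h : (-1 : F) ≠ 1) : Nat.card (psi F).ker = 2 := by
  rw [Nat.card_eq_two_iff]
  refine ⟨⟨1, one_mem _⟩, ⟨(-1, -1), (mem_ker_psi _).2 (Or.inr rfl)⟩, ?_, ?_⟩
  · intro e
    have := congrArg (fun z : (psi F).ker => (z : Matrix.SpecialLinearGroup (Fin 2) F ×
      Matrix.SpecialLinearGroup (Fin 2) F).1) e
    exact neg_one_ne_one h this.symm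
  · ext z
    simp only [Set.mem_insert_iff, Set.mem_singleton_iff, Set.mem_univ, iff_true]
    rcases (mem_ker_psi z.1).1 z.2 with e | e
    · left; exact Subtype.ext e
    · right; exact Subtype.ext e

/-- `|L_a L_b| · 2 = (q (q² - 1))²` -/
theorem card_sup [Fintype F] (h : (-1 : F) ≠ 1) :
    Nat.card ↥(La F ⊔ Lb F) * 2 = (Fintype.card F * (Fintype.card F ^ 2 - 1)) ^ 2 := by
  have h1 := Subgroup.card_eq_card_quotient_mul_card_subgroup (psi F).ker
  rw [Nat.card_congr (QuotientGroup.quotientKerEquivRange (psi F)).toEquiv, card_ker_psi h,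
    Nat.card_prod, Cfsg.Agent.Lib.Helper4.card_SL2] at h1
  rw [← psi_range, ← h1]
  exact (sq _).symm

end Cfsg.Agent.Lib.Helper9.G2Lev
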