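import Cfsg.Agent.Lib.Helper9.G2LevE

set_option autoImplicit false

namespace Cfsg.Agent.Lib.Helper9.G2Lev

open Cfsg Cfsg.Lie Cfsg.Agent.Lib.Helper5.ChevSym Cfsg.Agent.Lib.Helper5.ChevStruct
  Cfsg.Agent.Lib.Helper5.RankOneHom Cfsg.Agent.Lib.Helper5.G2Cent

variable {F : Type*} [Field F]

theorem t0_def : t0 F = hGL chevG2 memG2 6 (-1) := rfl

/-- `L_a`, `L_b` as subgroups of the Chevalley group `G₂(F)` -/
theorem exists_levi (t : ↥(chevG2.group F))
    (ht : (t : GL chevG2.Idx F) = hGL chevG2 memG2 6 (-1)) :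
    ∃ L1 L2 : Subgroup ↥(chevG2.group F),
      Nonempty (L1 ≃* Matrix.SpecialLinearGroup (Fin 2) F) ∧
      Nonempty (L2 ≃* Matrix.SpecialLinearGroup (Fin 2) F) ∧
      (∀ x ∈ L1, ∀ y ∈ L2, x * y = y * x) ∧
      L1 ⊓ L2 = Subgroup.zpowers t ∧
      L1 ⊔ L2 ≤ Subgroup.centralizer ({t} : Set ↥(chevG2.group F)) := by
  have ht' : (t : GL chevG2.Idx F) = t0 F := ht
  refine ⟨(La F).subgroupOf (chevG2.group F), (Lb F).subgroupOf (chevG2.group F),
    ⟨(Subgroup.subgroupOfEquivOfLe La_le_group).trans (equivA F).symm⟩,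
    ⟨(Subgroup.subgroupOfEquivOfLe Lb_le_group).trans (equivB F).symm⟩, ?_, ?_, ?_⟩
  · intro x hx y hy
    apply Subtype.ext
    rw [Subgroup.coe_mul, Subgroup.coe_mul]
    exact comm_La_Lb _ (Subgroup.mem_subgroupOf.1 hx) _ (Subgroup.mem_subgroupOf.1 hy)
  · ext x
    rw [Subgroup.mem_inf, Subgroup.mem_subgroupOf, Subgroup.mem_subgroupOf]
    have h1 : ((x : GL chevG2.Idx F) ∈ La F ∧ (x : GL chevG2.Idx F) ∈ Lb F)
        ↔ (x : GL chevG2.Idx F) ∈ Subgroup.zpowers (t0 F) := by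
      rw [← La_inf_Lb, Subgroup.mem_inf]
    rw [h1, Subgroup.mem_zpowers_iff, Subgroup.mem_zpowers_iff]
    constructor
    · rintro ⟨k, hk⟩
      refine ⟨k, Subtype.ext ?_⟩
      rw [Subgroup.coe_zpow, ht', hk]
    · rintro ⟨k, hk⟩
      refine ⟨k, ?_⟩
      rw [← hk, Subgroup.coe_zpow, ht']
  · rw [sup_le_iff]
    constructor
    · intro x hx
      rw [Subgroup.mem_centralizer_singleton_iff]
      apply Subtype.ext
      rw [Subgroup.coe_mul, Subgroup.coe_mul, ht']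
      exact comm_La_Lb _ (Subgroup.mem_subgroupOf.1 hx) _ t0_mem_Lb
    · intro y hy
      rw [Subgroup.mem_centralizer_singleton_iff]
      apply Subtype.ext
      rw [Subgroup.coe_mul, Subgroup.coe_mul, ht']
      exact (comm_La_Lb _ t0_mem_La _ (Subgroup.mem_subgroupOf.1 hy)).symm

/-- the cardinality of `L₁ ⊔ L₂` inside the Chevalley group -/
theorem card_sup_subgroupOf [Fintype F] (h2 : (-1 : F) ≠ 1) :
    Nat.card ↥((La F).subgroupOf (chevG2.group F) ⊔ (Lb F).subgroupOf (chevG2.group F)) * 2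
      = (Fintype.card F * (Fintype.card F ^ 2 - 1)) ^ 2 := by
  rw [← Subgroup.subgroupOf_sup La_le_group Lb_le_group,
    Nat.card_congr (Subgroup.subgroupOfEquivOfLe (sup_le La_le_group Lb_le_group)).toEquiv]
  exact card_sup h2

end Cfsg.Agent.Lib.Helper9.G2Lev
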