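import Mathlib
import Cfsg.Agent.Lib.Helper9.GH5V
import Cfsg.Agent.Lib.Helper2.GH5Dict

set_option autoImplicit false
set_option linter.unusedVariables false
set_option linter.unusedSectionVars false
set_option linter.style.longLine false

/-! GH5 (S3106): the wrappers (V1), (V2), (Wd) in the owner's `Dict` form. -/

namespace Cfsg.Agent.Lib.Helper9.GH5V

open Cfsg.Agent.Lib.Helper9.GH5M
open Cfsg.Agent.Lib.Helper2.GH5 (Dict)
open scoped commutatorElement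

universe u

variable {Y : Type u} [Group Y] [Finite Y] {Q W : Subgroup Y} [hQn : Q.Normal] [hWn : W.Normal]
  {V Wt : Type u} [AddCommGroup V] [AddCommGroup Wt] [Finite V] [Finite Wt]
  {ρV : (Y ⧸ Q) →* AddMonoid.End V} {ρW : (Y ⧸ Q) →* AddMonoid.End Wt}
  {πV : ↥Q → V} {πW : ↥W → Wt} {s : V → Wt} {c : V → V → Wt}

/-- (V1) -/
theorem injV (d : Dict Q W ρV ρW πV πW s c)
    (hfaith : ∀ g : Y, (∀ a ∈ Q, g * a * g⁻¹ * a⁻¹ ∈ W) → g ∈ Q) : Function.Injective ρV :=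
  rhoV_injective Q W ρV πV d.V2 d.πV_mul d.πV_ker d.ρV_mk hfaith

/-- `|V| ≤ 16` by (R5) -/
theorem cardV_le (d : Dict Q W ρV ρW πV πW s c)
    (hr : Cfsg.SectionalPRankLE 2 4 Y) (hWQ : W ≤ Q) : Nat.card V ≤ 16 := by
  have hV2 := d.V2
  have hπVa := d.πV_mul
  have hπV0 := d.πV_ker
  have hinv := piV_inv Q πV hV2 hπVa
  have hcomm : ∀ x ∈ Q, ∀ y ∈ Q, ⁅x, y⁆ ∈ W := by
    intro x hx y hy
    have h1 : πV (⟨x, hx⟩ * ⟨y, hy⟩ * (⟨x, hx⟩ : ↥Q)⁻¹ * (⟨y, hy⟩ : ↥Q)⁻¹) = 0 := by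
      rw [hπVa, hπVa, hπVa, hinv, hinv]
      have : πV ⟨x, hx⟩ + πV ⟨y, hy⟩ + πV ⟨x, hx⟩ + πV ⟨y, hy⟩ =
          (πV ⟨x, hx⟩ + πV ⟨x, hx⟩) + (πV ⟨y, hy⟩ + πV ⟨y, hy⟩) := by abel
      rw [this, hV2, hV2, add_zero]
    have h2 := (hπV0 _).mp h1
    rw [commutatorElement_def]
    simpa using h2
  have hsq : ∀ x ∈ Q, x ^ 2 ∈ W := by
    intro x hx
    have h1 : πV (⟨x, hx⟩ * ⟨x, hx⟩) = 0 := by rw [hπVa, hV2]
    have h2 := (hπV0 _).mp h1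
    rw [pow_two]
    simpa using h2
  have hle : W.relIndex Q ≤ 2 ^ 4 :=
    Cfsg.Agent.Lib.Helper6.GH5.relIndex_le_of_sectional hr W Q hcomm hsq
  have hmul : Nat.card ↥W * W.relIndex Q = Nat.card ↥Q := by
    have := Subgroup.relIndex_mul_relIndex ⊥ W Q bot_le hWQ
    rwa [Subgroup.relIndex_bot_left, Subgroup.relIndex_bot_left] at this
  have hWpos : 0 < Nat.card ↥W := Nat.card_pos
  have h1 : Nat.card V * Nat.card ↥W = W.relIndex Q * Nat.card ↥W := by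
    rw [d.card_V, ← hmul, mul_comm]
  have h2 := Nat.eq_of_mul_eq_mul_right hWpos h1
  rw [h2]; exact hle

/-- (V2) -/
theorem cardV16 (d : Dict Q W ρV ρW πV πW s c) (e : Y ⧸ Q ≃* alternatingGroup (Fin 5))
    (hr : Cfsg.SectionalPRankLE 2 4 Y) (hWQ : W ≤ Q) (hsq : ∀ q ∈ Q, q * q ∈ W)
    (hinj : Function.Injective ρV) : Nat.card V = 16 := by
  rcases f1 e d.V2 ρV (cardV_le d hr hWQ) with htriv | ⟨h16, _⟩
  · exfalso
    haveI : Fact (Nat.Prime 3) := ⟨by norm_num⟩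
    obtain ⟨g, hg⟩ := exists_orderOf e 3 (by norm_num)
    have h1 : ρV g = ρV 1 := by
      apply AddMonoidHom.ext
      intro v
      exact (htriv g v).trans (htriv 1 v).symm
    have h2 := hinj h1
    rw [h2, orderOf_one] at hg
    norm_num at hg
  · exact h16

/-- (Wd) -/
theorem Wdich (d : Dict Q W ρV ρW πV πW s c) (e : Y ⧸ Q ≃* alternatingGroup (Fin 5))
    (hr : Cfsg.SectionalPRankLE 2 4 Y) (hcen : ∀ w ∈ W, ∀ q ∈ Q, w * q = q * w) (hWQ : W ≤ Q)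
    (hexp : ∀ w ∈ W, w * w = 1) (hW : W ≠ ⊥)
    (hmin : ∀ M : Subgroup Y, M.Normal → M ≤ W → M = ⊥ ∨ M = W) :
    (Nat.card Wt = 2 ∧ ∀ g w, ρW g w = w) ∨ (Nat.card Wt = 16 ∧ Function.Injective ρW) :=
  W_dichotomy Q W ρW πW hr e d.W2 d.πW_bij d.πW_mul d.ρW_mk d.card_Wt hW hmin

end Cfsg.Agent.Lib.Helper9.GH5V
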