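import Mathlib
import Cfsg.Agent.Lib.Helper2.GH7Defs

set_option autoImplicit false

/-! GH7, S★a nonsplit, sub-lemma N1, part a: explicit facts on `L = SL(3,2)` acting on `𝔽₂³`
(stabilisers of nonzero vectors are `S4`; "odd" elements). -/

namespace Cfsg.Agent.Lib.Helper9.GH7N1

open Cfsg.Agent.Lib.Helper2.GH7

abbrev V3 := Fin 3 → ZMod 2

/-- the action of `L` on column vectors -/
def mv (M : L) (v : V3) : V3 := Matrix.mulVec (M : Matrix (Fin 3) (Fin 3) (ZMod 2)) v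

theorem mv_mul (M N : L) (v : V3) : mv (M * N) v = mv M (mv N v) := by
  unfold mv
  rw [Matrix.SpecialLinearGroup.coe_mul, Matrix.mulVec_mulVec]

theorem mv_one (v : V3) : mv 1 v = v := by
  unfold mv
  rw [Matrix.SpecialLinearGroup.coe_one, Matrix.one_mulVec]

theorem mv_inv_mv (M : L) (v : V3) : mv M⁻¹ (mv M v) = v := by
  rw [← mv_mul, inv_mul_cancel, mv_one]

theorem mv_mv_inv (M : L) (v : V3) : mv M (mv M⁻¹ v) = v := by
  rw [← mv_mul, mul_inv_cancel, mv_one]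

theorem mv_add (M : L) (v w : V3) : mv M (v + w) = mv M v + mv M w := by
  unfold mv
  exact Matrix.mulVec_add _ _ _

theorem mv_zero (M : L) : mv M 0 = 0 := by
  unfold mv
  exact Matrix.mulVec_zero _

theorem mv_eq_zero {M : L} {v : V3} (h : mv M v = 0) : v = 0 := by
  have := congrArg (mv M⁻¹) h
  rwa [mv_inv_mv, mv_zero] at this

theorem mv_inj {M : L} {v w : V3} (h : mv M v = mv M w) : v = w := by
  have := congrArg (mv M⁻¹) h
  rwa [mv_inv_mv, mv_inv_mv] at this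

theorem v3_add_self (v : V3) : v + v = 0 := by
  revert v; decide

theorem v3_add_eq_zero {v w : V3} (h : v + w = 0) : v = w := by
  revert v w; decide

/-- `M` fixes `v` and induces an element of order 2 on `𝔽₂³ / ⟨v⟩`: the elements of `Stab(v) ≅ S4` outside `A4` -/
def IsOdd (M : L) (v : V3) : Prop :=
  mv M v = v ∧ (∃ x : V3, mv M x + x ≠ 0 ∧ mv M x + x ≠ v) ∧
    (∀ x : V3, mv M (mv M x) + x = 0 ∨ mv M (mv M x) + x = v)

instance (M : L) (v : V3) : Decidable (IsOdd M v) := by unfold IsOdd; infer_instance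

/-- `L` is transitive on the nonzero vectors -/
theorem trans1 : ∀ v : V3, v ≠ 0 → ∀ w : V3, w ≠ 0 → ∃ M : L, mv M v = w := by decide +kernel

def ve1 : V3 := ![1, 0, 0]
def ve2 : V3 := ![0, 1, 0]

set_option synthInstance.maxSize 2048 in
set_option synthInstance.maxHeartbeats 400000 in
/-- `L` is 2-transitive on the nonzero vectors (to a fixed pair) -/
theorem trans2_fixed : ∀ v : V3, v ≠ 0 → ∀ v' : V3, v' ≠ 0 → v ≠ v' →
    ∃ M : L, mv M v = ve1 ∧ mv M v' = ve2 := by decide +kernel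

/-- `L` is 2-transitive on the nonzero vectors -/
theorem trans2 (v v' w w' : V3) (hv : v ≠ 0) (hv' : v' ≠ 0) (hvv : v ≠ v') (hw : w ≠ 0) (hw' : w' ≠ 0)
    (hww : w ≠ w') : ∃ M : L, mv M v = w ∧ mv M v' = w' := by
  obtain ⟨M1, h1, h1'⟩ := trans2_fixed v hv v' hv' hvv
  obtain ⟨M2, h2, h2'⟩ := trans2_fixed w hw w' hw' hww
  refine ⟨M2⁻¹ * M1, ?_, ?_⟩
  · rw [mv_mul, h1, ← h2, mv_inv_mv]
  · rw [mv_mul, h1', ← h2', mv_inv_mv]

end Cfsg.Agent.Lib.Helper9.GH7N1
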