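import Mathlib
import Cfsg.Agent.Lib.Helper9.GH7N1a

set_option autoImplicit false

/-! GH7 N1: heavy `decide` fact 1. -/

namespace Cfsg.Agent.Lib.Helper9.GH7N1

open Cfsg.Agent.Lib.Helper2.GH7

/-- the even elements of `Stab(v)` have order 3 or are squares in `Stab(v)` -/
theorem even_cases : ∀ v : V3, v ≠ 0 → ∀ M : L, mv M v = v → ¬ IsOdd M v →
    (M * M * M = 1 ∨ ∃ N : L, mv N v = v ∧ N * N = M) := by decide +kernel

end Cfsg.Agent.Lib.Helper9.GH7N1
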