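import Mathlib
import Cfsg.Agent.Lib.Helper9.GH7N1a

set_option autoImplicit false

/-! GH7 N1: heavy `decide` fact 2. -/

namespace Cfsg.Agent.Lib.Helper9.GH7N1

open Cfsg.Agent.Lib.Helper2.GH7

/-- odd times odd is even -/
theorem odd_mul_odd : ∀ v : V3, v ≠ 0 → ∀ M₀ M : L, IsOdd M₀ v → IsOdd M v → ¬ IsOdd (M₀⁻¹ * M) v := by
  decide +kernel

end Cfsg.Agent.Lib.Helper9.GH7N1
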