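import Mathlib
import Cfsg.Agent.Lib.Helper9.GH7N1a
import Cfsg.Agent.Lib.Helper9.GH7N1d1
import Cfsg.Agent.Lib.Helper9.GH7N1d2

set_option autoImplicit false

/-! GH7, S★a nonsplit, sub-lemma N1, part b: if an odd element of `Stab(v)` fixes a lift `o₀` of `v`, then all of
`Stab(v)` does, and the conjugacy class of `o₀` has one element over each nonzero vector. -/

namespace Cfsg.Agent.Lib.Helper9.GH7N1

open Cfsg.Agent.Lib.Helper2.GH7

universe u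

variable {G : Type u} [Group G]

/-- the context: `O = Ω₁(Q)` with coordinates `φ : O → 𝔽₂³` of kernel `W = {1, w0}` -/
structure NCtx (θ : G →* L) (Q O W : Subgroup G) (α : L ≃* L) (φ : G → V3) (w0 : G) : Prop where
  surj : Function.Surjective θ
  ker : θ.ker = Q
  ab : ∀ a ∈ Q, ∀ b ∈ Q, a * b = b * a
  OQ : O ≤ Q
  On : O.Normal
  O2 : ∀ o ∈ O, o * o = 1
  WO : W ≤ O
  w0W : w0 ∈ W
  Wcases : ∀ w ∈ W, w = 1 ∨ w = w0
  w0c : ∀ g : G, g * w0 = w0 * g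
  add : ∀ a ∈ O, ∀ b ∈ O, φ (a * b) = φ a + φ b
  phsurj : ∀ v : V3, ∃ o ∈ O, φ o = v
  phker : ∀ o ∈ O, φ o = 0 ↔ o ∈ W
  equiv : ∀ g : G, ∀ o ∈ O, φ (g * o * g⁻¹) = mv (α (θ g)) (φ o)

variable {θ : G →* L} {Q O W : Subgroup G} {α : L ≃* L} {φ : G → V3} {w0 : G}

theorem NCtx.conj_mem (h : NCtx θ Q O W α φ w0) (g : G) {o : G} (ho : o ∈ O) : g * o * g⁻¹ ∈ O :=
  h.On.conj_mem o ho g

theorem NCtx.lift (h : NCtx θ Q O W α φ w0) (M : L) : ∃ g : G, α (θ g) = M := by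
  obtain ⟨g, hg⟩ := h.surj (α.symm M)
  exact ⟨g, by rw [hg, MulEquiv.apply_symm_apply]⟩

theorem NCtx.mem_Q_of (h : NCtx θ Q O W α φ w0) {g : G} (hg : α (θ g) = 1) : g ∈ Q := by
  rw [← h.ker, MonoidHom.mem_ker]
  exact (map_eq_one_iff α α.injective).mp hg

theorem NCtx.Q_comm (h : NCtx θ Q O W α φ w0) {q o : G} (hq : q ∈ Q) (ho : o ∈ O) : q * o = o * q :=
  h.ab q hq o (h.OQ ho)

theorem NCtx.phi_one (h : NCtx θ Q O W α φ w0) : φ 1 = 0 :=
  (h.phker 1 O.one_mem).mpr W.one_mem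

theorem NCtx.phi_w0 (h : NCtx θ Q O W α φ w0) : φ w0 = 0 :=
  (h.phker w0 (h.WO h.w0W)).mpr h.w0W

theorem NCtx.inv_eq (h : NCtx θ Q O W α φ w0) {o : G} (ho : o ∈ O) : o⁻¹ = o :=
  inv_eq_of_mul_eq_one_right (h.O2 o ho)

/-- two elements of `O` with the same coordinates differ by an element of `W` -/
theorem NCtx.eq_or_of_phi (h : NCtx θ Q O W α φ w0) {a b : G} (ha : a ∈ O) (hb : b ∈ O)
    (hab : φ a = φ b) : a = b ∨ a = b * w0 := by
  have h1 : φ (a * b) = 0 := by rw [h.add a ha b hb, hab, v3_add_self]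
  have h2 : a * b ∈ W := (h.phker _ (O.mul_mem ha hb)).mp h1
  have hb' : b * b = 1 := h.O2 b hb
  rcases h.Wcases _ h2 with h3 | h3
  · left
    calc a = a * (b * b) := by rw [hb', mul_one]
      _ = (a * b) * b := by group
      _ = b := by rw [h3, one_mul]
  · right
    calc a = a * (b * b) := by rw [hb', mul_one]
      _ = (a * b) * b := by group
      _ = w0 * b := by rw [h3]
      _ = b * w0 := (h.w0c b).symm

/-- squares of elements of the stabiliser fix `o₀` -/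
theorem NCtx.sq_comm (h : NCtx θ Q O W α φ w0) {o₀ : G} (ho₀ : o₀ ∈ O) (n : G)
    (hn : mv (α (θ n)) (φ o₀) = φ o₀) : (n * n) * o₀ = o₀ * (n * n) := by
  have h1 : φ (n * o₀ * n⁻¹) = φ o₀ := by rw [h.equiv n o₀ ho₀, hn]
  have hw2 : w0 * w0 = 1 := h.O2 w0 (h.WO h.w0W)
  rcases h.eq_or_of_phi (h.conj_mem n ho₀) ho₀ h1 with h2 | h2
  · have h3 : n * o₀ = o₀ * n := by
      calc n * o₀ = (n * o₀ * n⁻¹) * n := by group
        _ = o₀ * n := by rw [h2]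
    calc n * n * o₀ = n * (n * o₀) := by group
      _ = n * (o₀ * n) := by rw [h3]
      _ = (n * o₀) * n := by group
      _ = o₀ * n * n := by rw [h3]
      _ = o₀ * (n * n) := by group
  · have h3 : n * o₀ = o₀ * w0 * n := by
      calc n * o₀ = (n * o₀ * n⁻¹) * n := by group
        _ = o₀ * w0 * n := by rw [h2]
    calc n * n * o₀ = n * (n * o₀) := by group
      _ = n * (o₀ * w0 * n) := by rw [h3]
      _ = (n * o₀) * (w0 * n) := by group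
      _ = o₀ * w0 * n * (w0 * n) := by rw [h3]
      _ = o₀ * w0 * (n * w0) * n := by group
      _ = o₀ * w0 * (w0 * n) * n := by rw [h.w0c n]
      _ = o₀ * (w0 * w0) * (n * n) := by group
      _ = o₀ * (n * n) := by rw [hw2, mul_one]

/-- elements of order 3 of the stabiliser fix `o₀` -/
theorem NCtx.ord3_comm (h : NCtx θ Q O W α φ w0) {o₀ : G} (ho₀ : o₀ ∈ O) (g : G)
    (hg : mv (α (θ g)) (φ o₀) = φ o₀) (h3 : α (θ g) * α (θ g) * α (θ g) = 1) : g * o₀ = o₀ * g := by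
  have hq : g * g * g ∈ Q := by
    apply h.mem_Q_of
    rw [map_mul, map_mul, map_mul, map_mul, h3]
  have c3 := h.Q_comm hq ho₀
  have c2 := h.sq_comm ho₀ g hg
  -- g = (g*g)*(g*g) * (g*g*g)⁻¹
  have c4 : (g * g) * (g * g) * o₀ = o₀ * ((g * g) * (g * g)) := by
    calc (g * g) * (g * g) * o₀ = (g * g) * ((g * g) * o₀) := by group
      _ = (g * g) * (o₀ * (g * g)) := by rw [c2]
      _ = ((g * g) * o₀) * (g * g) := by group
      _ = o₀ * (g * g) * (g * g) := by rw [c2]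
      _ = o₀ * ((g * g) * (g * g)) := by group
  have c3' : (g * g * g)⁻¹ * o₀ = o₀ * (g * g * g)⁻¹ := by
    calc (g * g * g)⁻¹ * o₀ = (g * g * g)⁻¹ * (o₀ * (g * g * g)) * (g * g * g)⁻¹ := by group
      _ = (g * g * g)⁻¹ * ((g * g * g) * o₀) * (g * g * g)⁻¹ := by rw [c3]
      _ = o₀ * (g * g * g)⁻¹ := by group
  calc g * o₀ = ((g * g) * (g * g)) * ((g * g * g)⁻¹ * o₀) := by group
    _ = ((g * g) * (g * g)) * (o₀ * (g * g * g)⁻¹) := by rw [c3']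
    _ = ((g * g) * (g * g) * o₀) * (g * g * g)⁻¹ := by group
    _ = o₀ * ((g * g) * (g * g)) * (g * g * g)⁻¹ := by rw [c4]
    _ = o₀ * g := by group

/-- even elements of the stabiliser fix `o₀` -/
theorem NCtx.even_comm (h : NCtx θ Q O W α φ w0) {o₀ : G} (ho₀ : o₀ ∈ O) (hv : φ o₀ ≠ 0) (g : G)
    (hg : mv (α (θ g)) (φ o₀) = φ o₀) (hev : ¬ IsOdd (α (θ g)) (φ o₀)) : g * o₀ = o₀ * g := by
  rcases even_cases (φ o₀) hv (α (θ g)) hg hev with h3 | ⟨N, hN, hNN⟩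
  · exact h.ord3_comm ho₀ g hg h3
  · obtain ⟨n, hn⟩ := h.lift N
    have c2 := h.sq_comm ho₀ n (by rw [hn]; exact hN)
    have hq : (n * n)⁻¹ * g ∈ Q := by
      apply h.mem_Q_of
      rw [map_mul, map_mul, map_inv, map_inv, map_mul, map_mul, hn, hNN, inv_mul_cancel]
    have c3 := h.Q_comm hq ho₀
    calc g * o₀ = (n * n) * (((n * n)⁻¹ * g) * o₀) := by group
      _ = (n * n) * (o₀ * ((n * n)⁻¹ * g)) := by rw [c3]
      _ = ((n * n) * o₀) * ((n * n)⁻¹ * g) := by group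
      _ = o₀ * (n * n) * ((n * n)⁻¹ * g) := by rw [c2]
      _ = o₀ * g := by group

/-- if one odd element fixes `o₀`, the whole stabiliser does -/
theorem NCtx.stab_comm (h : NCtx θ Q O W α φ w0) {o₀ : G} (ho₀ : o₀ ∈ O) (hv : φ o₀ ≠ 0) (g₀ : G)
    (hodd : IsOdd (α (θ g₀)) (φ o₀)) (hfix : g₀ * o₀ = o₀ * g₀) (g : G)
    (hg : mv (α (θ g)) (φ o₀) = φ o₀) : g * o₀ = o₀ * g := by
  by_cases hev : IsOdd (α (θ g)) (φ o₀)
  · have h1 : ¬ IsOdd (α (θ (g₀⁻¹ * g))) (φ o₀) := by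
      rw [map_mul, map_mul, map_inv, map_inv]
      exact odd_mul_odd (φ o₀) hv _ _ hodd hev
    have h2 : mv (α (θ (g₀⁻¹ * g))) (φ o₀) = φ o₀ := by
      rw [map_mul, map_mul, map_inv, map_inv, mv_mul, hg]
      have := hodd.1
      calc mv (α (θ g₀))⁻¹ (φ o₀) = mv (α (θ g₀))⁻¹ (mv (α (θ g₀)) (φ o₀)) := by rw [this]
        _ = φ o₀ := mv_inv_mv _ _
    have c := h.even_comm ho₀ hv (g₀⁻¹ * g) h2 h1
    calc g * o₀ = g₀ * ((g₀⁻¹ * g) * o₀) := by group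
      _ = g₀ * (o₀ * (g₀⁻¹ * g)) := by rw [c]
      _ = (g₀ * o₀) * (g₀⁻¹ * g) := by group
      _ = o₀ * g₀ * (g₀⁻¹ * g) := by rw [hfix]
      _ = o₀ * g := by group
  · exact h.even_comm ho₀ hv g hg hev

end Cfsg.Agent.Lib.Helper9.GH7N1
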