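import Mathlib
import Cfsg.Agent.Lib.Helper9.GH7N1b

set_option autoImplicit false

/-! GH7, S★a nonsplit, sub-lemma N1, part c: the conjugacy class of a lift fixed by its stabiliser gives a
`G`-invariant complement. -/

namespace Cfsg.Agent.Lib.Helper9.GH7N1

open Cfsg.Agent.Lib.Helper2.GH7

universe u

variable {G : Type u} [Group G]
variable {θ : G →* L} {Q O W : Subgroup G} {α : L ≃* L} {φ : G → V3} {w0 : G}

/-- `o₀` is a lift of a nonzero vector fixed by the whole stabiliser of that vector -/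
structure Fixed (θ : G →* L) (O : Subgroup G) (α : L ≃* L) (φ : G → V3) (o₀ : G) : Prop where
  mem : o₀ ∈ O
  ne : φ o₀ ≠ 0
  stab : ∀ g : G, mv (α (θ g)) (φ o₀) = φ o₀ → g * o₀ = o₀ * g

/-- the conjugacy class -/
def cls (o₀ : G) : Set G := {x | ∃ g : G, x = g * o₀ * g⁻¹}

theorem cls_conj {o₀ x : G} (hx : x ∈ cls o₀) (k : G) : k * x * k⁻¹ ∈ cls o₀ := by
  obtain ⟨g, rfl⟩ := hx
  exact ⟨k * g, by group⟩

theorem NCtx.cls_mem (h : NCtx θ Q O W α φ w0) {o₀ : G} (hf : Fixed θ O α φ o₀) {x : G}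
    (hx : x ∈ cls o₀) : x ∈ O := by
  obtain ⟨g, rfl⟩ := hx
  exact h.conj_mem g hf.mem

theorem NCtx.cls_ne (h : NCtx θ Q O W α φ w0) {o₀ : G} (hf : Fixed θ O α φ o₀) {x : G}
    (hx : x ∈ cls o₀) : φ x ≠ 0 := by
  obtain ⟨g, rfl⟩ := hx
  rw [h.equiv g o₀ hf.mem]
  intro hc
  exact hf.ne (mv_eq_zero hc)

theorem NCtx.cls_inj (h : NCtx θ Q O W α φ w0) {o₀ : G} (hf : Fixed θ O α φ o₀) {x x' : G}
    (hx : x ∈ cls o₀) (hx' : x' ∈ cls o₀) (hφ : φ x = φ x') : x = x' := by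
  obtain ⟨g, rfl⟩ := hx
  obtain ⟨k, rfl⟩ := hx'
  rw [h.equiv g o₀ hf.mem, h.equiv k o₀ hf.mem] at hφ
  have h1 : mv (α (θ (k⁻¹ * g))) (φ o₀) = φ o₀ := by
    rw [map_mul, map_mul, map_inv, map_inv, mv_mul, hφ, mv_inv_mv]
  have c := hf.stab _ h1
  calc g * o₀ * g⁻¹ = k * ((k⁻¹ * g) * o₀) * g⁻¹ := by group
    _ = k * (o₀ * (k⁻¹ * g)) * g⁻¹ := by rw [c]
    _ = k * o₀ * k⁻¹ := by group

theorem NCtx.cls_surj (h : NCtx θ Q O W α φ w0) {o₀ : G} (hf : Fixed θ O α φ o₀) (w : V3) (hw : w ≠ 0) :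
    ∃ x ∈ cls o₀, φ x = w := by
  obtain ⟨M, hM⟩ := trans1 (φ o₀) hf.ne w hw
  obtain ⟨g, hg⟩ := h.lift M
  exact ⟨g * o₀ * g⁻¹, ⟨g, rfl⟩, by rw [h.equiv g o₀ hf.mem, hg, hM]⟩

theorem NCtx.two_trans (h : NCtx θ Q O W α φ w0) {o₀ : G} (hf : Fixed θ O α φ o₀) {x x' y y' : G}
    (hx : x ∈ cls o₀) (hx' : x' ∈ cls o₀) (hxx : x ≠ x') (hy : y ∈ cls o₀) (hy' : y' ∈ cls o₀)
    (hyy : y ≠ y') : ∃ g : G, g * x * g⁻¹ = y ∧ g * x' * g⁻¹ = y' := by
  obtain ⟨M, hM, hM'⟩ := trans2 (φ x) (φ x') (φ y) (φ y') (h.cls_ne hf hx) (h.cls_ne hf hx')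
    (fun hc => hxx (h.cls_inj hf hx hx' hc)) (h.cls_ne hf hy) (h.cls_ne hf hy')
    (fun hc => hyy (h.cls_inj hf hy hy' hc))
  obtain ⟨g, hg⟩ := h.lift M
  refine ⟨g, ?_, ?_⟩
  · apply h.cls_inj hf (cls_conj hx g) hy
    rw [h.equiv g x (h.cls_mem hf hx), hg, hM]
  · apply h.cls_inj hf (cls_conj hx' g) hy'
    rw [h.equiv g x' (h.cls_mem hf hx'), hg, hM']

/-- products of distinct elements: all in the class, or none -/
theorem NCtx.closed_or (h : NCtx θ Q O W α φ w0) {o₀ : G} (hf : Fixed θ O α φ o₀) :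
    (∀ x ∈ cls o₀, ∀ x' ∈ cls o₀, x ≠ x' → x * x' ∈ cls o₀) ∨
    (∀ x ∈ cls o₀, ∀ x' ∈ cls o₀, x ≠ x' → x * x' ∉ cls o₀) := by
  by_cases hex : ∃ x ∈ cls o₀, ∃ x' ∈ cls o₀, x ≠ x' ∧ x * x' ∈ cls o₀
  · left
    obtain ⟨x, hx, x', hx', hxx, hprod⟩ := hex
    intro y hy y' hy' hyy
    obtain ⟨g, rfl, rfl⟩ := h.two_trans hf hx hx' hxx hy hy' hyy
    have := cls_conj hprod g
    have e : g * (x * x') * g⁻¹ = g * x * g⁻¹ * (g * x' * g⁻¹) := by group
    rwa [e] at this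
  · right
    intro x hx x' hx' hxx hc
    exact hex ⟨x, hx, x', hx', hxx, hc⟩

/-- the complement when the class is closed under products of distinct elements -/
theorem NCtx.complement_of_closed (h : NCtx θ Q O W α φ w0) {o₀ : G} (hf : Fixed θ O α φ o₀)
    (hA : ∀ x ∈ cls o₀, ∀ x' ∈ cls o₀, x ≠ x' → x * x' ∈ cls o₀) :
    ∃ U' : Subgroup G, U'.Normal ∧ U' ≤ Q ∧ Nat.card U' = 8 ∧ ∀ x ∈ U', x * x = 1 := by
  classical
  let R : Subgroup G :=
    { carrier := {r | r = 1 ∨ r ∈ cls o₀}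
      one_mem' := Or.inl rfl
      mul_mem' := by
        rintro a b (rfl | ha) (rfl | hb)
        · left; rw [one_mul]
        · right; rw [one_mul]; exact hb
        · right; rw [mul_one]; exact ha
        · by_cases hab : a = b
          · left
            rw [hab]
            exact h.O2 b (h.cls_mem hf hb)
          · right
            exact hA a ha b hb hab
      inv_mem' := by
        rintro a (rfl | ha)
        · left; exact inv_one
        · right
          rw [h.inv_eq (h.cls_mem hf ha)]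
          exact ha }
  have hmemR : ∀ r : G, r ∈ R ↔ (r = 1 ∨ r ∈ cls o₀) := fun r => Iff.rfl
  have hRO : R ≤ O := by
    rintro r (rfl | hr)
    · exact O.one_mem
    · exact h.cls_mem hf hr
  refine ⟨R, ⟨?_⟩, hRO.trans h.OQ, ?_, fun x hx => h.O2 x (hRO hx)⟩
  · rintro r (rfl | hr) k
    · left; group
    · right; exact cls_conj hr k
  · -- cardinality via `φ`
    have hbij : Function.Bijective (fun r : R => φ (r : G)) := by
      constructor
      · rintro ⟨a, ha⟩ ⟨b, hb⟩ hab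
        apply Subtype.ext
        show a = b
        have hab' : φ a = φ b := hab
        rcases ha with rfl | ha <;> rcases hb with rfl | hb
        · rfl
        · exact absurd (hab'.symm.trans h.phi_one) (h.cls_ne hf hb)
        · exact absurd (hab'.trans h.phi_one) (h.cls_ne hf ha)
        · exact h.cls_inj hf ha hb hab'
      · intro w
        by_cases hw : w = 0
        · exact ⟨⟨1, Or.inl rfl⟩, by rw [hw]; exact h.phi_one⟩
        · obtain ⟨x, hx, hxw⟩ := h.cls_surj hf w hw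
          exact ⟨⟨x, Or.inr hx⟩, hxw⟩
    rw [Nat.card_congr (Equiv.ofBijective _ hbij), Nat.card_eq_fintype_card]
    decide

/-- **N1** (context form): a lift fixed by its stabiliser gives a `G`-invariant complement -/
theorem NCtx.complement_of_fixed (h : NCtx θ Q O W α φ w0) {o₀ : G} (hf : Fixed θ O α φ o₀) :
    ∃ U' : Subgroup G, U'.Normal ∧ U' ≤ Q ∧ Nat.card U' = 8 ∧ ∀ x ∈ U', x * x = 1 := by
  rcases h.closed_or hf with hA | hB
  · exact h.complement_of_closed hf hA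
  · -- switch to `o₀ * w0`
    have hw0O : w0 ∈ O := h.WO h.w0W
    have hw2 : w0 * w0 = 1 := h.O2 w0 hw0O
    have hφ : φ (o₀ * w0) = φ o₀ := by rw [h.add o₀ hf.mem w0 hw0O, h.phi_w0, add_zero]
    have hf' : Fixed θ O α φ (o₀ * w0) :=
      { mem := O.mul_mem hf.mem hw0O
        ne := by rw [hφ]; exact hf.ne
        stab := by
          intro g hg
          rw [hφ] at hg
          have c := hf.stab g hg
          calc g * (o₀ * w0) = (g * o₀) * w0 := by group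
            _ = o₀ * g * w0 := by rw [c]
            _ = o₀ * (g * w0) := by group
            _ = o₀ * (w0 * g) := by rw [h.w0c g]
            _ = o₀ * w0 * g := by group }
    have hcl : ∀ y : G, y ∈ cls (o₀ * w0) ↔ ∃ x ∈ cls o₀, y = x * w0 := by
      intro y
      constructor
      · rintro ⟨g, rfl⟩
        refine ⟨g * o₀ * g⁻¹, ⟨g, rfl⟩, ?_⟩
        calc g * (o₀ * w0) * g⁻¹ = g * o₀ * (w0 * g⁻¹) := by group
          _ = g * o₀ * (g⁻¹ * w0) := by rw [h.w0c g⁻¹]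
          _ = g * o₀ * g⁻¹ * w0 := by group
      · rintro ⟨x, ⟨g, rfl⟩, rfl⟩
        refine ⟨g, ?_⟩
        calc g * o₀ * g⁻¹ * w0 = g * o₀ * (g⁻¹ * w0) := by group
          _ = g * o₀ * (w0 * g⁻¹) := by rw [h.w0c g⁻¹]
          _ = g * (o₀ * w0) * g⁻¹ := by group
    apply h.complement_of_closed hf'
    intro y hy y' hy' hyy
    obtain ⟨x, hx, rfl⟩ := (hcl y).mp hy
    obtain ⟨x', hx', rfl⟩ := (hcl y').mp hy'
    have hxx : x ≠ x' := fun hc => hyy (by rw [hc])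
    have hprod : x * w0 * (x' * w0) = x * x' := by
      calc x * w0 * (x' * w0) = x * (w0 * x') * w0 := by group
        _ = x * (x' * w0) * w0 := by rw [h.w0c x']
        _ = x * x' * (w0 * w0) := by group
        _ = x * x' := by rw [hw2, mul_one]
    rw [hprod, hcl]
    have hxO := h.cls_mem hf hx
    have hx'O := h.cls_mem hf hx'
    have hne : φ (x * x') ≠ 0 := by
      rw [h.add x hxO x' hx'O]
      intro hc
      exact hxx (h.cls_inj hf hx hx' (v3_add_eq_zero hc))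
    obtain ⟨k, hk, hkφ⟩ := h.cls_surj hf _ hne
    rcases h.eq_or_of_phi (O.mul_mem hxO hx'O) (h.cls_mem hf hk) hkφ.symm with h1 | h1
    · exact absurd (h1 ▸ hk) (hB x hx x' hx' hxx)
    · exact ⟨k, hk, h1⟩

end Cfsg.Agent.Lib.Helper9.GH7N1
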