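import Mathlib
import Cfsg.Agent.Lib.Helper9.GH7N1c
import Cfsg.Agent.Lib.Helper1.GH7Sb0

set_option autoImplicit false

/-! GH7, S★a nonsplit / OMEGA-SPLIT, sub-lemma **N1**: an odd element of `Stab(v)` fixing a lift of `v` gives a
`G`-invariant complement of `Φ(Q)` in `Ω₁(Q)`. -/

namespace Cfsg.Agent.Lib.Helper9.GH7N1

open Cfsg.Agent.Lib.Helper2.GH7
open Cfsg.Agent.Lib.Helper3.A8Emb (sqSub)
open Cfsg.Agent.Lib.Helper1.GH7Sb (omega1)

universe u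

variable {G : Type u} [Group G] [Finite G] {Q : Subgroup G} [Q.Normal]

/-- **N1** -/
theorem complement_of_fixed (θ : G →* L) (hsurj : Function.Surjective θ) (hker : θ.ker = Q)
    (hcomm : ∀ a ∈ Q, ∀ b ∈ Q, a * b = b * a) (hΦ : Nat.card (sqSub Q) = 2)
    (α : L ≃* L) (φ : G → (Fin 3 → ZMod 2))
    (hadd : ∀ a ∈ omega1 Q hcomm, ∀ b ∈ omega1 Q hcomm, φ (a * b) = φ a + φ b)
    (hsurjφ : ∀ v : Fin 3 → ZMod 2, ∃ o ∈ omega1 Q hcomm, φ o = v)
    (hkerφ : ∀ o ∈ omega1 Q hcomm, φ o = 0 ↔ o ∈ sqSub Q)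
    (hequiv : ∀ g : G, ∀ o ∈ omega1 Q hcomm,
      φ (g * o * g⁻¹) = Matrix.mulVec (α (θ g) : Matrix (Fin 3) (Fin 3) (ZMod 2)) (φ o))
    (g₀ o₀ : G) (ho₀ : o₀ ∈ omega1 Q hcomm) (hv : φ o₀ ≠ 0) (hodd : IsOdd (α (θ g₀)) (φ o₀))
    (hfix : g₀ * o₀ = o₀ * g₀) :
    ∃ U' : Subgroup G, U'.Normal ∧ U' ≤ Q ∧ Nat.card U' = 8 ∧ ∀ x ∈ U', x * x = 1 := by
  -- the generator of `Φ(Q)`
  obtain ⟨w0, hw0, hne⟩ : ∃ w0 ∈ sqSub Q, w0 ≠ 1 := by
    by_contra hcon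
    push Not at hcon
    have hbot : sqSub Q = ⊥ := (Subgroup.eq_bot_iff_forall _).mpr hcon
    rw [hbot, Subgroup.card_bot] at hΦ
    omega
  have hcases : ∀ w ∈ sqSub Q, w = 1 ∨ w = w0 := fun w hw =>
    Cfsg.Agent.Lib.Helper1.GH7Sb.mem_sqSub_cases hΦ hw0 hne hw
  have hnΦ : (sqSub Q).Normal := inferInstance
  have hw0c : ∀ g : G, g * w0 = w0 * g := by
    intro g
    have h1 := hnΦ.conj_mem w0 hw0 g
    rcases hcases _ h1 with h2 | h2
    · exfalso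
      apply hne
      calc w0 = g⁻¹ * (g * w0 * g⁻¹) * g := by group
        _ = 1 := by rw [h2]; group
    · calc g * w0 = (g * w0 * g⁻¹) * g := by group
        _ = w0 * g := by rw [h2]
  have hctx : NCtx θ Q (omega1 Q hcomm) (sqSub Q) α φ w0 :=
    { surj := hsurj
      ker := hker
      ab := hcomm
      OQ := Cfsg.Agent.Lib.Helper1.GH7Sb.omega1_le hcomm
      On := Cfsg.Agent.Lib.Helper1.GH7Sb.omega1_normal hcomm
      O2 := fun o ho => ho.2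
      WO := Cfsg.Agent.Lib.Helper1.GH7Sb.sqSub_le_omega1 hcomm hΦ
      w0W := hw0
      Wcases := hcases
      w0c := hw0c
      add := hadd
      phsurj := hsurjφ
      phker := hkerφ
      equiv := hequiv }
  have hf : Fixed θ (omega1 Q hcomm) α φ o₀ :=
    { mem := ho₀
      ne := hv
      stab := fun g hg => hctx.stab_comm ho₀ hv g₀ hodd hfix g hg }
  exact hctx.complement_of_fixed hf

end Cfsg.Agent.Lib.Helper9.GH7N1
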