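import Cfsg.Prelude.Def_Sporadic_a

set_option autoImplicit false
set_option linter.unusedSectionVars false

namespace Cfsg.Agent.Lib.Helper9.Golay1

open Finset

variable {ι : Type*} [Fintype ι] [DecidableEq ι]

/-- support of a binary word -/
def supp (u : ι → ZMod 2) : Finset ι := univ.filter fun i => u i ≠ 0

theorem wt_eq (u : ι → ZMod 2) : hammingNorm u = (supp u).card := rfl

theorem mem_supp {u : ι → ZMod 2} {i : ι} : i ∈ supp u ↔ u i ≠ 0 := by simp [supp]

theorem supp_eq_support₂ (u : ι → ZMod 2) : supp u = Cfsg.support₂ u := by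
  ext i
  simp [supp, Cfsg.support₂]

theorem zmod2_cases (a : ZMod 2) : a = 0 ∨ a = 1 := by revert a; decide

theorem sub_eq_add' (u v : ι → ZMod 2) : u - v = u + v := by
  ext i
  have : ∀ a b : ZMod 2, a - b = a + b := by decide
  exact this _ _

theorem add_self' (u : ι → ZMod 2) : u + u = 0 := by
  ext i
  have : ∀ a : ZMod 2, a + a = 0 := by decide
  exact this _

theorem supp_add (u v : ι → ZMod 2) : supp (u + v) = symmDiff (supp u) (supp v) := by
  ext i
  simp only [mem_supp, Finset.mem_symmDiff, Pi.add_apply]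
  have : ∀ a b : ZMod 2, a + b ≠ 0 ↔ (a ≠ 0 ∧ ¬ b ≠ 0) ∨ (b ≠ 0 ∧ ¬ a ≠ 0) := by decide
  exact this _ _

theorem wt_add (u v : ι → ZMod 2) :
    hammingNorm (u + v) + 2 * (supp u ∩ supp v).card = hammingNorm u + hammingNorm v := by
  rw [wt_eq, wt_eq, wt_eq, supp_add]
  have h1 : (symmDiff (supp u) (supp v)).card
      = (supp u \ supp v).card + (supp v \ supp u).card := by
    rw [symmDiff_def, sup_eq_union, card_union_of_disjoint disjoint_sdiff_sdiff]
  have h2 := card_sdiff_add_card_inter (supp u) (supp v)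
  have h3 := card_sdiff_add_card_inter (supp v) (supp u)
  rw [inter_comm] at h3
  omega

theorem supp_eq_iff (u v : ι → ZMod 2) : supp u = supp v ↔ u = v := by
  constructor
  · intro h
    ext i
    have hi : i ∈ supp u ↔ i ∈ supp v := by rw [h]
    rw [mem_supp, mem_supp] at hi
    rcases zmod2_cases (u i) with h1 | h1 <;> rcases zmod2_cases (v i) with h2 | h2 <;>
      simp_all
  · rintro rfl; rfl

/-- indicator word -/
def ind (s : Finset ι) : ι → ZMod 2 := fun i => if i ∈ s then 1 else 0

theorem supp_ind (s : Finset ι) : supp (ind s) = s := by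
  ext i
  simp [mem_supp, ind]

theorem ind_supp (u : ι → ZMod 2) : ind (supp u) = u := by
  rw [← supp_eq_iff, supp_ind]

theorem wt_ind (s : Finset ι) : hammingNorm (ind s) = s.card := by
  rw [wt_eq, supp_ind]

/-- words ≃ subsets -/
def suppEquiv : (ι → ZMod 2) ≃ Finset ι where
  toFun := supp
  invFun := ind
  left_inv := ind_supp
  right_inv := supp_ind

theorem card_wt_eq (k : ℕ) :
    (univ.filter fun u : ι → ZMod 2 => hammingNorm u = k).card = (Fintype.card ι).choose k := by
  rw [← card_univ (α := ι), ← card_powersetCard]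
  refine card_equiv suppEquiv ?_
  intro u
  simp only [mem_filter, mem_univ, true_and, mem_powersetCard, subset_univ]
  rfl

/-- dot product parity -/
theorem dot_eq_card (u v : ι → ZMod 2) :
    ∑ i, u i * v i = ((supp u ∩ supp v).card : ZMod 2) := by
  have h : ∀ i, u i * v i = if i ∈ supp u ∩ supp v then 1 else 0 := by
    intro i
    simp only [mem_inter, mem_supp]
    have : ∀ a b : ZMod 2, a * b = if a ≠ 0 ∧ b ≠ 0 then 1 else 0 := by decide
    exact this _ _
  simp_rw [h]
  rw [sum_boole]
  congr 2
  ext i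
  simp

theorem even_inter_of_dot_eq_zero (u v : ι → ZMod 2) (h : ∑ i, u i * v i = 0) :
    2 ∣ (supp u ∩ supp v).card := by
  rw [dot_eq_card] at h
  exact (ZMod.natCast_eq_zero_iff _ 2).mp h

end Cfsg.Agent.Lib.Helper9.Golay1
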