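import Cfsg.Agent.Lib.Helper9.Golay3

set_option autoImplicit false
set_option linter.unusedSectionVars false

namespace Cfsg.Agent.Lib.Helper9.Golay4

open Finset Cfsg.Agent.Lib.Helper9.Golay1 Cfsg.Agent.Lib.Helper9.Golay2
  Cfsg.Agent.Lib.Helper9.Golay3

/-- reduction step: a non-zero codeword plus a suitable octad has smaller weight -/
theorem exists_reduce (C : Submodule (ZMod 2) (Fin 24 → ZMod 2))
    (hdim : Module.finrank (ZMod 2) C = 12)
    (hmin : ∀ w ∈ C, w ≠ 0 → 8 ≤ hammingNorm w) (c : Fin 24 → ZMod 2) (hc : c ∈ C)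
    (hc0 : c ≠ 0) :
    ∃ o ∈ C, hammingNorm o = 8 ∧ c + o ∈ C ∧ hammingNorm (c + o) < hammingNorm c ∧
      (c + o) + o = c := by
  have h8 := hmin c hc hc0
  rw [wt_eq] at h8
  obtain ⟨s, hsc, hs⟩ := exists_subset_card_eq (s := supp c) (n := 5) (by omega)
  obtain ⟨o, ho, ho8, hso⟩ := exists_octad C hdim hmin s hs
  refine ⟨o, ho, ho8, C.add_mem hc ho, ?_, ?_⟩
  · have h1 := wt_add c o
    have h2 : s.card ≤ (supp c ∩ supp o).card := card_le_card (subset_inter hsc hso)
    omega
  · rw [add_assoc, add_self', add_zero]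

theorem span_octads (C : Submodule (ZMod 2) (Fin 24 → ZMod 2))
    (hdim : Module.finrank (ZMod 2) C = 12)
    (hmin : ∀ w ∈ C, w ≠ 0 → 8 ≤ hammingNorm w) :
    Submodule.span (ZMod 2) {w : Fin 24 → ZMod 2 | w ∈ C ∧ hammingNorm w = 8} = C := by
  apply le_antisymm
  · rw [Submodule.span_le]
    intro w hw
    exact hw.1
  · have key : ∀ n : ℕ, ∀ c ∈ C, hammingNorm c = n →
        c ∈ Submodule.span (ZMod 2) {w : Fin 24 → ZMod 2 | w ∈ C ∧ hammingNorm w = 8} := by
      intro n
      induction n using Nat.strong_induction_on with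
      | _ n ih =>
        intro c hc hn
        by_cases hc0 : c = 0
        · rw [hc0]
          exact Submodule.zero_mem _
        · obtain ⟨o, ho, ho8, hco, hlt, heq⟩ := exists_reduce C hdim hmin c hc hc0
          have h1 := ih (hammingNorm (c + o)) (by omega) (c + o) hco rfl
          have h2 : o ∈ Submodule.span (ZMod 2)
              {w : Fin 24 → ZMod 2 | w ∈ C ∧ hammingNorm w = 8} :=
            Submodule.subset_span ⟨ho, ho8⟩
          rw [← heq]
          exact Submodule.add_mem _ h1 h2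
    intro c hc
    exact key _ c hc rfl

theorem doubly_even (C : Submodule (ZMod 2) (Fin 24 → ZMod 2))
    (hdim : Module.finrank (ZMod 2) C = 12)
    (horth : ∀ v ∈ C, ∀ w ∈ C, ∑ i, v i * w i = 0)
    (hmin : ∀ w ∈ C, w ≠ 0 → 8 ≤ hammingNorm w) : ∀ w ∈ C, 4 ∣ hammingNorm w := by
  have key : ∀ n : ℕ, ∀ c ∈ C, hammingNorm c = n → 4 ∣ hammingNorm c := by
    intro n
    induction n using Nat.strong_induction_on with
    | _ n ih =>
      intro c hc hn
      by_cases hc0 : c = 0
      · rw [hc0, hammingNorm_zero]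
        exact dvd_zero 4
      · obtain ⟨o, ho, ho8, hco, hlt, heq⟩ := exists_reduce C hdim hmin c hc hc0
        have h1 := ih (hammingNorm (c + o)) (by omega) (c + o) hco rfl
        have h2 := wt_add (c + o) o
        rw [heq, ho8] at h2
        have h3 := even_inter_of_dot_eq_zero (c + o) o (horth _ hco _ ho)
        omega
  intro c hc
  exact key _ c hc rfl

end Cfsg.Agent.Lib.Helper9.Golay4
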