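import Cfsg.Agent.Lib.Helper9.M24P8
import Cfsg.Agent.Lib.Helper9.M24F6
import Cfsg.Agent.Lib.Helper9.M24T7

set_option autoImplicit false

/-! The number of octads meeting a small set of points in an odd number of points. -/

namespace Cfsg.Agent.Lib.Helper9.GolayDual1

open Cfsg Finset Cfsg.Agent.Lib.Helper9.Golay1 Cfsg.Agent.Lib.Helper9.GolayQR1
  Cfsg.Agent.Lib.Helper9.M24T1 Cfsg.Agent.Lib.Helper9.M24T5 Cfsg.Agent.Lib.Helper9.M24U1
  Cfsg.Agent.Lib.Helper9.M24F1 Cfsg.Agent.Lib.Helper9.M24F6 Cfsg.Agent.Lib.Helper9.M24X1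
open scoped Pointwise

/-- the number of octads meeting `T` in an odd number of points -/
noncomputable def No (T : Finset GolayPt) : ℕ :=
  {o : Finset GolayPt | o ∈ octads ∧ (o ∩ T).card % 2 = 1}.ncard

theorem count_octads (P : Finset GolayPt → Prop) (f : ℕ → Bool)
    (hf : ∀ r < 759, (f r = true ↔ P (M (litO r)))) :
    {o : Finset GolayPt | o ∈ octads ∧ P o}.ncard = countB 759 f := by
  classical
  have hset : {o : Finset GolayPt | o ∈ octads ∧ P o} =
      ↑(((Finset.range 759).filter fun r => f r = true).image fun r => M (litO r)) := by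
    ext o
    rw [Finset.mem_coe, Finset.mem_image]
    constructor
    · rintro ⟨ho, hP⟩
      obtain ⟨r, hr, rfl⟩ := (mem_octads_iff'' o).mp ho
      refine ⟨r, ?_, rfl⟩
      rw [Finset.mem_filter, Finset.mem_range]
      exact ⟨hr, (hf r hr).mpr hP⟩
    · rintro ⟨r, hr, rfl⟩
      rw [Finset.mem_filter, Finset.mem_range] at hr
      exact ⟨(mem_octads_iff'' _).mpr ⟨r, hr.1, rfl⟩, (hf r hr.1).mp hr.2⟩
  rw [hset, Set.ncard_coe_finset, Finset.card_image_of_injOn, countB_eq]
  intro r hr r' hr' h
  rw [Finset.mem_coe, Finset.mem_filter, Finset.mem_range] at hr hr'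
  exact litO_inj r hr.1 r' hr'.1 h

/-- the standard four points -/
def T4 : Finset GolayPt := {none, some 0, some 1, some 2}

/-- the standard two points -/
def T2 : Finset GolayPt := {none, some 0}

theorem bcases : ∀ a b c d : Bool,
    ((if a = true then 1 else 0) + ((if b = true then 1 else 0) +
      ((if c = true then 1 else 0) + (if d = true then 1 else 0)))) % 2 = 1 ↔
    (xor a (xor b (xor c d))) = true := by decide

theorem card_inter_T4 (m : ℕ) : ((M m) ∩ T4).card % 2 = 1 ↔
    (xor (m.testBit 23) (xor (m.testBit 0) (xor (m.testBit 1) (m.testBit 2)))) = true := by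
  have h : ((M m) ∩ T4).card = (if m.testBit 23 = true then 1 else 0) +
      ((if m.testBit 0 = true then 1 else 0) + ((if m.testBit 1 = true then 1 else 0) +
        (if m.testBit 2 = true then 1 else 0))) := by
    rw [Finset.inter_comm, ← Finset.filter_mem_eq_inter, Finset.card_filter]
    unfold T4
    rw [Finset.sum_insert (by decide), Finset.sum_insert (by decide), Finset.sum_insert (by decide),
      Finset.sum_singleton]
    simp only [mem_M]
    rfl
  rw [h]
  exact bcases _ _ _ _

theorem bcases2 : ∀ a b : Bool,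
    ((if a = true then 1 else 0) + (if b = true then 1 else 0)) % 2 = 1 ↔ (xor a b) = true := by
  decide

theorem card_inter_T2 (m : ℕ) : ((M m) ∩ T2).card % 2 = 1 ↔
    (xor (m.testBit 23) (m.testBit 0)) = true := by
  have h : ((M m) ∩ T2).card = (if m.testBit 23 = true then 1 else 0) +
      (if m.testBit 0 = true then 1 else 0) := by
    rw [Finset.inter_comm, ← Finset.filter_mem_eq_inter, Finset.card_filter]
    unfold T2
    rw [Finset.sum_insert (by decide), Finset.sum_singleton]
    simp only [mem_M]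
    rfl
  rw [h]
  exact bcases2 _ _

theorem No_T4 : No T4 = 384 := by
  unfold No
  rw [count_octads (fun o => (o ∩ T4).card % 2 = 1)
    (fun r => xor ((litO r).testBit 23) (xor ((litO r).testBit 0)
      (xor ((litO r).testBit 1) ((litO r).testBit 2))))
    (fun r _ => (card_inter_T4 (litO r)).symm)]
  decide +kernel

theorem No_T2 : No T2 = 352 := by
  unfold No
  rw [count_octads (fun o => (o ∩ T2).card % 2 = 1)
    (fun r => xor ((litO r).testBit 23) ((litO r).testBit 0))
    (fun r _ => (card_inter_T2 (litO r)).symm)]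
  decide +kernel

theorem No_empty : No ∅ = 0 := by
  unfold No
  have : {o : Finset GolayPt | o ∈ octads ∧ (o ∩ ∅).card % 2 = 1} = ∅ := by
    ext o
    simp
  rw [this, Set.ncard_empty]

theorem No_smul (σ : Equiv.Perm GolayPt) (hσ : σ ∈ M24) (T : Finset GolayPt) :
    No (σ • T) = No T := by
  unfold No
  apply ncard_smul σ octads (fun s hs => smul_octad_mem σ hσ s hs)
    (fun s hs => smul_octad_mem σ⁻¹ (M24.inv_mem hσ) s hs)
  intro s
  rw [← Finset.smul_finset_inter, Finset.card_smul_finset]

theorem exists_map_set (s : Finset GolayPt) (n : ℕ) (hn : n ≤ 5) (hs : s.card = n) :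
    ∃ h ∈ M24, ∀ k, h k ∈ s ↔ ∃ m < n, k = bpt m := by
  classical
  let e := Finset.equivFinOfCardEq hs
  obtain ⟨h, hh, hmap⟩ := Cfsg.Agent.Lib.Helper9.M24T7.exists_mapn n hn
    (fun m => if hm : m < n then (e.symm ⟨m, hm⟩).1 else none) (by
      intro a ha b hb hab
      simp only [dif_pos ha, dif_pos hb] at hab
      have := e.symm.injective (Subtype.ext hab)
      exact Fin.mk.inj_iff.mp this)
  refine ⟨h, hh, fun k => ⟨fun hk => ?_, ?_⟩⟩
  · obtain ⟨m, hm⟩ : ∃ m : Fin n, e.symm m = ⟨h k, hk⟩ := e.symm.surjective _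
    refine ⟨m.1, m.2, ?_⟩
    apply h.injective
    rw [hmap m.1 m.2, dif_pos m.2]
    have := congrArg Subtype.val hm
    exact this.symm
  · rintro ⟨m, hm, rfl⟩
    rw [hmap m hm, dif_pos hm]
    exact (e.symm ⟨m, hm⟩).2

theorem bpt4 (k : GolayPt) : (∃ m < 4, k = bpt m) ↔ k ∈ T4 := by
  unfold T4
  constructor
  · rintro ⟨m, hm, rfl⟩
    interval_cases m <;> simp [bpt]
  · intro h
    simp only [Finset.mem_insert, Finset.mem_singleton] at h
    rcases h with rfl | rfl | rfl | rfl
    · exact ⟨0, by norm_num, rfl⟩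
    · exact ⟨1, by norm_num, rfl⟩
    · exact ⟨2, by norm_num, rfl⟩
    · exact ⟨3, by norm_num, rfl⟩

theorem bpt2 (k : GolayPt) : (∃ m < 2, k = bpt m) ↔ k ∈ T2 := by
  unfold T2
  constructor
  · rintro ⟨m, hm, rfl⟩
    interval_cases m <;> simp [bpt]
  · intro h
    simp only [Finset.mem_insert, Finset.mem_singleton] at h
    rcases h with rfl | rfl
    · exact ⟨0, by norm_num, rfl⟩
    · exact ⟨1, by norm_num, rfl⟩

theorem No_four (T : Finset GolayPt) (hT : T.card = 4) : No T = 384 := by
  obtain ⟨h, hh, hk⟩ := exists_map_set T 4 (by norm_num) hT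
  have : T = h • T4 := by
    ext p
    rw [Finset.mem_smul_finset]
    constructor
    · intro hp
      refine ⟨h⁻¹ p, ?_, by simp⟩
      rw [← bpt4, ← hk]
      simpa using hp
    · rintro ⟨k, hk4, rfl⟩
      exact (hk k).mpr ((bpt4 k).mpr hk4)
  rw [this, No_smul h hh, No_T4]

theorem No_two (T : Finset GolayPt) (hT : T.card = 2) : No T = 352 := by
  obtain ⟨h, hh, hk⟩ := exists_map_set T 2 (by norm_num) hT
  have : T = h • T2 := by
    ext p
    rw [Finset.mem_smul_finset]
    constructor
    · intro hp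
      refine ⟨h⁻¹ p, ?_, by simp⟩
      rw [← bpt2, ← hk]
      simpa using hp
    · rintro ⟨k, hk4, rfl⟩
      exact (hk k).mpr ((bpt2 k).mpr hk4)
  rw [this, No_smul h hh, No_T2]

end Cfsg.Agent.Lib.Helper9.GolayDual1
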