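import Cfsg.Agent.Lib.Helper9.GolayDual1

set_option autoImplicit false

/-! Linear functionals on the code, and the maps of the code preserving weights up to
complementation. -/

namespace Cfsg.Agent.Lib.Helper9.GolayDual2

open Cfsg Finset Cfsg.Agent.Lib.Helper9.Golay1 Cfsg.Agent.Lib.Helper9.GolayQR1
  Cfsg.Agent.Lib.Helper9.GolayQR4 Cfsg.Agent.Lib.Helper9.GolayQR5 Cfsg.Agent.Lib.Helper9.GolayQR6
  Cfsg.Agent.Lib.Helper9.GolayQR7 Cfsg.Agent.Lib.Helper9.M24N1
  Cfsg.Agent.Lib.Helper9.GolayDual1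
open scoped Pointwise symmDiff

/-- the sum of the coordinates in `T` -/
def dwS (T : Finset GolayPt) (c : GolayPt → ZMod 2) : ZMod 2 := ∑ i ∈ T, c i

theorem dwS_eq_dot (T : Finset GolayPt) (c : GolayPt → ZMod 2) :
    dwS T c = ∑ i, ind T i * c i := by
  unfold dwS ind
  rw [← Finset.sum_filter_add_sum_filter_not univ (fun i => i ∈ T)]
  have h1 : ∑ i ∈ univ.filter (fun i => i ∈ T), (if i ∈ T then (1 : ZMod 2) else 0) * c i =
      ∑ i ∈ T, c i := by
    rw [Finset.filter_mem_eq_inter, Finset.univ_inter]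
    exact Finset.sum_congr rfl (fun i hi => by rw [if_pos hi, one_mul])
  have h2 : ∑ i ∈ univ.filter (fun i => ¬ i ∈ T), (if i ∈ T then (1 : ZMod 2) else 0) * c i = 0 := by
    apply Finset.sum_eq_zero
    intro i hi
    rw [if_neg (Finset.mem_filter.mp hi).2, zero_mul]
  rw [h1, h2, add_zero]

theorem dwS_card (T : Finset GolayPt) (c : GolayPt → ZMod 2) :
    dwS T c = ((T ∩ supp c).card : ZMod 2) := by
  rw [dwS_eq_dot, dot_eq_card, supp_ind]

theorem ind_symmDiff (s t : Finset GolayPt) : ind (s ∆ t) = ind s + ind t := by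
  rw [← supp_eq_iff, supp_add, supp_ind, supp_ind, supp_ind]

theorem dwS_symmDiff (A B : Finset GolayPt) (c : GolayPt → ZMod 2) :
    dwS (A ∆ B) c = dwS A c + dwS B c := by
  rw [dwS_eq_dot, dwS_eq_dot, dwS_eq_dot, ind_symmDiff, ← Finset.sum_add_distrib]
  exact Finset.sum_congr rfl (fun i _ => by rw [Pi.add_apply, add_mul])

theorem dwS_pair (p q : GolayPt) (hpq : p ≠ q) (c : GolayPt → ZMod 2) :
    dwS {p, q} c = c p + c q := by
  unfold dwS
  rw [Finset.sum_pair hpq]

theorem dwS_one (T : Finset GolayPt) : dwS T 1 = (T.card : ZMod 2) := by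
  unfold dwS
  simp

/-- the number of words of weight eight on which a function takes the value one -/
noncomputable def Nf (g : ↥golayCode → ZMod 2) : ℕ :=
  {c : ↥golayCode | hammingNorm c.1 = 8 ∧ g c = 1}.ncard

theorem Nf_congr (g g' : ↥golayCode → ZMod 2) (h : ∀ c, g c = g' c) : Nf g = Nf g' := by
  have : g = g' := funext h
  rw [this]

theorem Nf_dwS (T : Finset GolayPt) : Nf (fun c => dwS T c.1) = No T := by
  unfold Nf No
  have hinj : Function.Injective (fun c : ↥golayCode => supp c.1) := by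
    intro c c' h
    exact Subtype.ext ((supp_eq_iff _ _).mp h)
  rw [← Set.ncard_image_of_injective _ hinj]
  congr 1
  ext o
  constructor
  · rintro ⟨c, ⟨h8, h1⟩, rfl⟩
    refine ⟨word_octad c.1 c.2 h8, ?_⟩
    have h1' : dwS T c.1 = 1 := h1
    rw [dwS_card, Finset.inter_comm] at h1'
    have h2 : (((supp c.1 ∩ T).card : ℕ) : ZMod 2) = ((1 : ℕ) : ZMod 2) := by
      rw [h1']; simp
    have h3 := (ZMod.natCast_eq_natCast_iff' _ _ 2).mp h2
    exact h3
  · rintro ⟨ho, hodd⟩
    obtain ⟨⟨c, hc, hco⟩, hcard⟩ := ho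
    refine ⟨⟨c, hc⟩, ⟨?_, ?_⟩, ?_⟩
    · rw [wt_eq, supp_eq_support₂, hco]
      exact hcard
    · show dwS T c = 1
      rw [dwS_card, Finset.inter_comm, supp_eq_support₂, hco]
      have : (((o ∩ T).card : ℕ) : ZMod 2) = ((1 : ℕ) : ZMod 2) :=
        (ZMod.natCast_eq_natCast_iff' _ _ 2).mpr hodd
      rw [this]; simp
    · show supp c = o
      rw [supp_eq_support₂, hco]

/-- the all-ones word as an element of the code -/
def oneC : ↥golayCode := ⟨1, one_mem⟩

/-- admissible maps: they fix the all-ones word and preserve weights up to complementation -/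
structure Adm (x : ↥golayCode ≃ₗ[ZMod 2] ↥golayCode) : Prop where
  one : x oneC = oneC
  wt : ∀ c : ↥golayCode, hammingNorm (x c).1 = hammingNorm c.1 ∨
    hammingNorm (x c).1 + hammingNorm c.1 = 24

theorem Adm.symm {x : ↥golayCode ≃ₗ[ZMod 2] ↥golayCode} (hx : Adm x) : Adm x.symm where
  one := by
    have := congrArg x.symm hx.one
    rw [LinearEquiv.symm_apply_apply] at this
    exact this.symm
  wt := by
    intro c
    have := hx.wt (x.symm c)
    rw [LinearEquiv.apply_symm_apply] at this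
    rcases this with h | h
    · exact Or.inl h.symm
    · exact Or.inr (by omega)

theorem wt_add_oneC (c : ↥golayCode) : hammingNorm (c + oneC).1 + hammingNorm c.1 = 24 :=
  wt_add_one c.1

theorem add_oneC_cancel (c : ↥golayCode) : c + oneC + oneC = c := by
  apply Subtype.ext
  show c.1 + 1 + 1 = c.1
  rw [add_assoc, add_self', add_zero]

theorem Nf_comp_le (x : ↥golayCode ≃ₗ[ZMod 2] ↥golayCode) (hx : Adm x)
    (g : ↥golayCode → ZMod 2) (hg : ∀ c, g (c + oneC) = g c) :
    Nf (fun c => g (x c)) ≤ Nf g := by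
  classical
  unfold Nf
  refine Set.ncard_le_ncard_of_injOn
    (fun c => if hammingNorm (x c).1 = 8 then x c else x c + oneC) ?_ ?_ (Set.toFinite _)
  · rintro c ⟨h8, h1⟩
    show hammingNorm (if hammingNorm (x c).1 = 8 then x c else x c + oneC).1 = 8 ∧
      g (if hammingNorm (x c).1 = 8 then x c else x c + oneC) = 1
    by_cases h : hammingNorm (x c).1 = 8
    · rw [if_pos h]
      exact ⟨h, h1⟩
    · rw [if_neg h]
      refine ⟨?_, by rw [hg]; exact h1⟩
      have h2 := wt_add_oneC (x c)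
      rcases hx.wt c with h3 | h3
      · exact absurd (h3.trans h8) h
      · omega
  · rintro c ⟨h8, _⟩ c' ⟨h8', _⟩ hcc
    have key : ∀ d d' : ↥golayCode, hammingNorm d.1 = 8 → hammingNorm d'.1 = 8 →
        x d = x d' + oneC → False := by
      intro d d' hd hd' h
      have h2 : x d = x (d' + oneC) := by rw [map_add, hx.one]; exact h
      have h3 := x.injective h2
      have h4 := wt_add_oneC d'
      rw [← h3] at h4
      omega
    simp only at hcc
    by_cases h : hammingNorm (x c).1 = 8 <;> by_cases h' : hammingNorm (x c').1 = 8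
    · rw [if_pos h, if_pos h'] at hcc
      exact x.injective hcc
    · rw [if_pos h, if_neg h'] at hcc
      exact (key c c' h8 h8' hcc).elim
    · rw [if_neg h, if_pos h'] at hcc
      exact (key c' c h8' h8 hcc.symm).elim
    · rw [if_neg h, if_neg h'] at hcc
      exact x.injective (add_right_cancel hcc)

theorem Nf_comp_eq (x : ↥golayCode ≃ₗ[ZMod 2] ↥golayCode) (hx : Adm x)
    (g : ↥golayCode → ZMod 2) (hg : ∀ c, g (c + oneC) = g c) :
    Nf (fun c => g (x c)) = Nf g := by
  apply le_antisymm (Nf_comp_le x hx g hg)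
  have h := Nf_comp_le x.symm hx.symm (fun c => g (x c)) (by
    intro c
    show g (x (c + oneC)) = g (x c)
    rw [map_add, hx.one, hg])
  have e : (fun c => (fun c => g (x c)) (x.symm c)) = g := by
    funext c
    show g (x (x.symm c)) = g c
    rw [LinearEquiv.apply_symm_apply]
  rw [e] at h
  exact h

/-- every linear functional on the code is the product with a word -/
theorem exists_repr (g : ↥golayCode →ₗ[ZMod 2] ZMod 2) :
    ∃ w : GolayPt → ZMod 2, ∀ c : ↥golayCode, g c = ∑ i, w i * c.1 i := by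
  obtain ⟨g', hg'⟩ := LinearMap.exists_extend g
  refine ⟨fun i => g' (fun j => if i = j then 1 else 0), fun c => ?_⟩
  have h1 : g c = g' c.1 := by
    rw [← hg']
    rfl
  rw [h1, LinearMap.pi_apply_eq_sum_univ g' c.1]
  exact Finset.sum_congr rfl (fun i _ => by rw [smul_eq_mul, mul_comm])

/-- every linear functional on the code is the product with a word of weight at most four -/
theorem exists_repr4 (g : ↥golayCode →ₗ[ZMod 2] ZMod 2) :
    ∃ T : Finset GolayPt, T.card ≤ 4 ∧ ∀ c : ↥golayCode, g c = dwS T c.1 := by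
  obtain ⟨w, hw⟩ := exists_repr g
  obtain ⟨v, hv4, hwv⟩ : ∃ v : GolayPt → ZMod 2, hammingNorm v ≤ 4 ∧ w - v ∈ golayCode := by
    rcases coset_reps w with ⟨-, v, hv, h⟩ | ⟨h6, -⟩
    · exact ⟨v, by omega, h⟩
    · have hne : {v : GolayPt → ZMod 2 | hammingNorm v ≤ 4 ∧ w - v ∈ golayCode}.Nonempty := by
        apply Set.nonempty_of_ncard_ne_zero
        rw [h6]
        norm_num
      obtain ⟨v, hv⟩ := hne
      exact ⟨v, hv.1, hv.2⟩
  refine ⟨supp v, by rw [← wt_eq]; exact hv4, fun c => ?_⟩
  rw [hw c, dwS_eq_dot, ind_supp]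
  have h := self_orth' (w - v) hwv c.1 c.2
  have e : ∑ i, w i * c.1 i = ∑ i, (w - v) i * c.1 i + ∑ i, v i * c.1 i := by
    rw [← Finset.sum_add_distrib]
    exact Finset.sum_congr rfl (fun i _ => by rw [Pi.sub_apply]; ring)
  rw [e, h, zero_add]

end Cfsg.Agent.Lib.Helper9.GolayDual2
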