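import Cfsg.Agent.Lib.Helper9.GolayDual2

set_option autoImplicit false

/-! A linear map of the code that fixes the all-ones word and preserves weights up to
complementation is induced, up to the all-ones word, by a permutation of the points. -/

namespace Cfsg.Agent.Lib.Helper9.GolayDual3

open Cfsg Finset Cfsg.Agent.Lib.Helper9.Golay1 Cfsg.Agent.Lib.Helper9.GolayQR1
  Cfsg.Agent.Lib.Helper9.GolayQR4 Cfsg.Agent.Lib.Helper9.GolayQR5 Cfsg.Agent.Lib.Helper9.GolayQR6
  Cfsg.Agent.Lib.Helper9.GolayQR7 Cfsg.Agent.Lib.Helper9.M24N1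
  Cfsg.Agent.Lib.Helper9.GolayDual1 Cfsg.Agent.Lib.Helper9.GolayDual2
open scoped Pointwise symmDiff

theorem dwS_add (T : Finset GolayPt) (c d : GolayPt → ZMod 2) :
    dwS T (c + d) = dwS T c + dwS T d := by
  unfold dwS
  rw [← Finset.sum_add_distrib]
  rfl

theorem two_zero : (2 : ZMod 2) = 0 := by decide

theorem card_symmDiff' (A B : Finset GolayPt) :
    (A ∆ B).card + 2 * (A ∩ B).card = A.card + B.card := by
  have h := wt_add (ind A) (ind B)
  rw [← ind_symmDiff, wt_ind, wt_ind, wt_ind, supp_ind, supp_ind] at h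
  omega

theorem card_of_No (T : Finset GolayPt) (h4 : T.card ≤ 4) (hev : 2 ∣ T.card) (h : No T = 352) :
    T.card = 2 := by
  obtain ⟨k, hk⟩ := hev
  have hk2 : k = 0 ∨ k = 1 ∨ k = 2 := by omega
  rcases hk2 with rfl | rfl | rfl
  · have : T = ∅ := Finset.card_eq_zero.mp (by omega)
    rw [this, No_empty] at h
    omega
  · omega
  · rw [No_four T (by omega)] at h
    omega

theorem empty_of_No (T : Finset GolayPt) (h4 : T.card ≤ 4) (hev : 2 ∣ T.card) (h : No T = 0) :
    T = ∅ := by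
  obtain ⟨k, hk⟩ := hev
  have hk2 : k = 0 ∨ k = 1 ∨ k = 2 := by omega
  rcases hk2 with rfl | rfl | rfl
  · exact Finset.card_eq_zero.mp (by omega)
  · rw [No_two T (by omega)] at h
    omega
  · rw [No_four T (by omega)] at h
    omega

/-- two small sets of even size defining the same functional on the code are equal -/
theorem eq_of_dwS (P P' : Finset GolayPt) (hP : P.card = 2) (hP' : P'.card = 2)
    (h : ∀ c : ↥golayCode, dwS P c.1 = dwS P' c.1) : P = P' := by
  have h0 : ∀ c : ↥golayCode, dwS (P ∆ P') c.1 = 0 := by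
    intro c
    rw [dwS_symmDiff, h c]
    have : ∀ t : ZMod 2, t + t = 0 := by decide
    exact this _
  have hN : No (P ∆ P') = 0 := by
    rw [← Nf_dwS]
    unfold Nf
    have : {c : ↥golayCode | hammingNorm c.1 = 8 ∧ dwS (P ∆ P') c.1 = 1} = ∅ := by
      ext c
      simp only [Set.mem_setOf_eq, Set.mem_empty_iff_false, iff_false, not_and]
      intro _
      rw [h0 c]
      decide
    rw [this, Set.ncard_empty]
  have hc := card_symmDiff' P P'
  have he := empty_of_No (P ∆ P') (by omega) ⟨2 - (P ∩ P').card, by omega⟩ hN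
  exact symmDiff_eq_bot.mp he

/-- the linear functional `dwS` -/
def dwSL (P : Finset GolayPt) : (GolayPt → ZMod 2) →ₗ[ZMod 2] ZMod 2 :=
  ∑ i ∈ P, LinearMap.proj i

theorem dwSL_apply (P : Finset GolayPt) (c : GolayPt → ZMod 2) : dwSL P c = dwS P c := by
  unfold dwSL dwS
  rw [LinearMap.sum_apply]
  rfl

theorem Nf_x (x : ↥golayCode ≃ₗ[ZMod 2] ↥golayCode) (hx : Adm x) (P : Finset GolayPt)
    (hP : 2 ∣ P.card) : Nf (fun c => dwS P (x c).1) = No P := by
  rw [← Nf_dwS]
  apply Nf_comp_eq x hx (fun c => dwS P c.1)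
  intro c
  show dwS P (c.1 + 1) = dwS P c.1
  rw [dwS_add, dwS_one]
  obtain ⟨k, hk⟩ := hP
  rw [hk]
  push_cast
  rw [two_zero, zero_mul, add_zero]

/-- the image of a pair -/
theorem exists_pair (x : ↥golayCode ≃ₗ[ZMod 2] ↥golayCode) (hx : Adm x) (P : Finset GolayPt)
    (hP : P.card = 2) :
    ∃ P' : Finset GolayPt, P'.card = 2 ∧ ∀ c : ↥golayCode, dwS P (x c).1 = dwS P' c.1 := by
  obtain ⟨T, hT4, hT⟩ := exists_repr4
    ((dwSL P).comp (golayCode.subtype.comp x.toLinearMap))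
  have hT' : ∀ c : ↥golayCode, dwS P (x c).1 = dwS T c.1 := by
    intro c
    rw [← hT c, ← dwSL_apply]
    rfl
  refine ⟨T, ?_, hT'⟩
  have hev : 2 ∣ T.card := by
    have h1 := hT' oneC
    rw [hx.one] at h1
    have e1 : dwS P oneC.1 = 0 := by
      show dwS P 1 = 0
      rw [dwS_one, hP]
      exact two_zero
    have e2 : dwS T oneC.1 = (T.card : ZMod 2) := dwS_one T
    rw [e1, e2] at h1
    exact (ZMod.natCast_eq_zero_iff _ 2).mp h1.symm
  apply card_of_No T hT4 hev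
  rw [← Nf_dwS, ← Nf_congr _ _ hT', Nf_x x hx P ⟨1, by omega⟩, No_two P hP]

/-- adjacent pairs have adjacent images -/
theorem adj (x : ↥golayCode ≃ₗ[ZMod 2] ↥golayCode) (hx : Adm x) (A B A' B' : Finset GolayPt)
    (hAB : (A ∆ B).card = 2)
    (hA' : A'.card = 2) (hB' : B'.card = 2)
    (hA : ∀ c : ↥golayCode, dwS A (x c).1 = dwS A' c.1)
    (hB : ∀ c : ↥golayCode, dwS B (x c).1 = dwS B' c.1) :
    (A' ∆ B').card = 2 ∧ ∀ c : ↥golayCode, dwS (A ∆ B) (x c).1 = dwS (A' ∆ B') c.1 := by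
  have h1 : ∀ c : ↥golayCode, dwS (A ∆ B) (x c).1 = dwS (A' ∆ B') c.1 := by
    intro c
    rw [dwS_symmDiff, dwS_symmDiff, hA, hB]
  refine ⟨?_, h1⟩
  have hc := card_symmDiff' A' B'
  apply card_of_No (A' ∆ B') (by omega) ⟨2 - (A' ∩ B').card, by omega⟩
  rw [← Nf_dwS, ← Nf_congr _ _ h1, Nf_x x hx (A ∆ B) ⟨1, by omega⟩, No_two _ hAB]

end Cfsg.Agent.Lib.Helper9.GolayDual3
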