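import Cfsg.Agent.Lib.Helper9.GolayDual3

set_option autoImplicit false

/-! The point permutation induced by an admissible map of the code. -/

namespace Cfsg.Agent.Lib.Helper9.GolayDual4

open Cfsg Finset Cfsg.Agent.Lib.Helper9.Golay1 Cfsg.Agent.Lib.Helper9.GolayQR1
  Cfsg.Agent.Lib.Helper9.GolayQR4 Cfsg.Agent.Lib.Helper9.GolayQR5 Cfsg.Agent.Lib.Helper9.GolayQR6
  Cfsg.Agent.Lib.Helper9.GolayQR7 Cfsg.Agent.Lib.Helper9.M24N1
  Cfsg.Agent.Lib.Helper9.GolayDual1 Cfsg.Agent.Lib.Helper9.GolayDual2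
  Cfsg.Agent.Lib.Helper9.GolayDual3
open scoped Pointwise symmDiff

theorem mem_M24_of_act (σ : Equiv.Perm GolayPt)
    (h : ∀ c ∈ golayCode, act σ c ∈ golayCode) : σ ∈ M24 := by
  rw [MulAction.mem_stabilizer_iff]
  apply Set.eq_of_subset_of_ncard_le
  · rintro y ⟨s0, ⟨c, hc, rfl⟩, rfl⟩
    refine ⟨act σ c, h c hc, ?_⟩
    show support₂ (act σ c) = σ • support₂ c
    rw [← supp_eq_support₂, ← supp_eq_support₂, supp_act]
  · have : (σ • supports (golayCode : Set (GolayPt → ZMod 2))) =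
        (fun s : Finset GolayPt => σ • s) '' supports (golayCode : Set (GolayPt → ZMod 2)) := rfl
    rw [this, Set.ncard_image_of_injective _ (MulAction.injective σ)]
  · exact Set.toFinite _

theorem No_zero_of (T : Finset GolayPt) (h0 : ∀ c : ↥golayCode, dwS T c.1 = 0) : No T = 0 := by
  rw [← Nf_dwS]
  unfold Nf
  have : {c : ↥golayCode | hammingNorm c.1 = 8 ∧ dwS T c.1 = 1} = ∅ := by
    ext c
    simp only [Set.mem_ofPred_eq, Set.mem_empty_iff_false, iff_false, not_and]
    intro _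
    rw [h0 c]
    decide
  rw [this, Set.ncard_empty]

theorem pair_symmDiff (a f b : GolayPt) (hfa : f ≠ a) (hba : b ≠ a) (hfb : f ≠ b) :
    ({a, f} : Finset GolayPt) ∆ {a, b} = {f, b} := by
  ext y
  simp only [Finset.mem_symmDiff, Finset.mem_insert, Finset.mem_singleton]
  constructor
  · rintro (⟨h1 | h1, h2⟩ | ⟨h1 | h1, h2⟩)
    · exact absurd (Or.inl h1) h2
    · exact Or.inl h1
    · exact absurd (Or.inl h1) h2
    · exact Or.inr h1
  · rintro (h | h)
    · left
      refine ⟨Or.inr h, ?_⟩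
      rintro (h2 | h2)
      · exact hfa (h ▸ h2)
      · exact hfb (h ▸ h2)
    · right
      refine ⟨Or.inr h, ?_⟩
      rintro (h2 | h2)
      · exact hba (h ▸ h2)
      · exact hfb (h2.symm.trans h)

theorem z4 : ∀ p q r u : ZMod 2, p + q = r + u → q + u = p + r := by decide

theorem z3 : ∀ p q e : ZMod 2, p + q = e → p = q + e := by decide

theorem main (x : ↥golayCode ≃ₗ[ZMod 2] ↥golayCode) (hx : Adm x) :
    ∃ σ ∈ M24, ∀ c : ↥golayCode, (x c).1 = act σ c.1 ∨ (x c).1 = act σ c.1 + 1 := by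
  classical
  have hp := exists_pair x hx
  obtain ⟨a, b, d, ha, hb, hd⟩ : ∃ a b d : GolayPt, a = none ∧ b = some 0 ∧ d = some 1 :=
    ⟨_, _, _, rfl, rfl, rfl⟩
  have hba : b ≠ a := by rw [ha, hb]; decide
  have hda : d ≠ a := by rw [ha, hd]; decide
  have hbd : b ≠ d := by rw [hb, hd]; decide
  obtain ⟨B1, hB1c, hB1⟩ := hp {a, b} (Finset.card_pair hba.symm)
  obtain ⟨B2, hB2c, hB2⟩ := hp {a, d} (Finset.card_pair hda.symm)
  have hsd : ({a, b} : Finset GolayPt) ∆ {a, d} = {b, d} := pair_symmDiff a b d hba hda hbd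
  obtain ⟨h12c, h12⟩ := adj x hx {a, b} {a, d} B1 B2
    (by rw [hsd]; exact Finset.card_pair hbd) hB1c hB2c hB1 hB2
  have hi : (B1 ∩ B2).card = 1 := by
    have := card_symmDiff' B1 B2
    omega
  obtain ⟨s, hs⟩ := Finset.card_eq_one.mp hi
  have hs1 : s ∈ B1 := (Finset.mem_inter.mp (by rw [hs]; exact Finset.mem_singleton_self s)).1
  have hs2 : s ∈ B2 := (Finset.mem_inter.mp (by rw [hs]; exact Finset.mem_singleton_self s)).2
  -- all images of the pairs through `a` contain `s`
  have key : ∀ f, f ≠ a → ∃ Bf : Finset GolayPt, Bf.card = 2 ∧ s ∈ Bf ∧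
      ∀ c : ↥golayCode, dwS {a, f} (x c).1 = dwS Bf c.1 := by
    intro f hfa
    by_cases hfb : f = b
    · rw [hfb]; exact ⟨B1, hB1c, hs1, hB1⟩
    by_cases hfd : f = d
    · rw [hfd]; exact ⟨B2, hB2c, hs2, hB2⟩
    obtain ⟨Bf, hBfc, hBf⟩ := hp {a, f} (Finset.card_pair (Ne.symm hfa))
    refine ⟨Bf, hBfc, ?_, hBf⟩
    by_contra hsf
    obtain ⟨hf1c, -⟩ := adj x hx {a, f} {a, b} Bf B1
      (by rw [pair_symmDiff a f b hfa hba hfb]; exact Finset.card_pair hfb) hBfc hB1c hBf hB1
    obtain ⟨hf2c, -⟩ := adj x hx {a, f} {a, d} Bf B2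
      (by rw [pair_symmDiff a f d hfa hda hfd]; exact Finset.card_pair hfd) hBfc hB2c hBf hB2
    have i1 : (Bf ∩ B1).card = 1 := by
      have := card_symmDiff' Bf B1
      omega
    have i2 : (Bf ∩ B2).card = 1 := by
      have := card_symmDiff' Bf B2
      omega
    have hdisj : Disjoint (Bf ∩ B1) (Bf ∩ B2) := by
      rw [Finset.disjoint_left]
      intro y h1 h2
      have : y ∈ B1 ∩ B2 :=
        Finset.mem_inter.mpr ⟨(Finset.mem_inter.mp h1).2, (Finset.mem_inter.mp h2).2⟩
      rw [hs, Finset.mem_singleton] at this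
      exact hsf (this ▸ (Finset.mem_inter.mp h1).1)
    have hun : (Bf ∩ B1) ∪ (Bf ∩ B2) = Bf := by
      apply Finset.eq_of_subset_of_card_le
        (Finset.union_subset Finset.inter_subset_left Finset.inter_subset_left)
      rw [Finset.card_union_of_disjoint hdisj, i1, i2, hBfc]
    have hsub : Bf ⊆ B1 ∆ B2 := by
      intro y hy
      have hy' := hy
      rw [← hun] at hy'
      rw [Finset.mem_symmDiff]
      rcases Finset.mem_union.mp hy' with h | h
      · left
        refine ⟨(Finset.mem_inter.mp h).2, fun h2 => ?_⟩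
        have : y ∈ B1 ∩ B2 := Finset.mem_inter.mpr ⟨(Finset.mem_inter.mp h).2, h2⟩
        rw [hs, Finset.mem_singleton] at this
        exact hsf (this ▸ hy)
      · right
        refine ⟨(Finset.mem_inter.mp h).2, fun h2 => ?_⟩
        have : y ∈ B1 ∩ B2 := Finset.mem_inter.mpr ⟨h2, (Finset.mem_inter.mp h).2⟩
        rw [hs, Finset.mem_singleton] at this
        exact hsf (this ▸ hy)
    have heq : Bf = B1 ∆ B2 := Finset.eq_of_subset_of_card_le hsub (by omega)
    have e1 : ∀ c : ↥golayCode, dwS {a, f} (x c).1 = dwS {b, d} (x c).1 := by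
      intro c
      rw [hBf, heq, ← h12, hsd]
    have e2 : ∀ c : ↥golayCode, dwS {a, f} c.1 = dwS {b, d} c.1 := by
      intro c
      have := e1 (x.symm c)
      rw [LinearEquiv.apply_symm_apply] at this
      exact this
    have e3 := eq_of_dwS {a, f} {b, d} (Finset.card_pair (Ne.symm hfa)) (Finset.card_pair hbd) e2
    have : a ∈ ({b, d} : Finset GolayPt) := by
      rw [← e3]
      exact Finset.mem_insert_self a _
    rcases Finset.mem_insert.mp this with h | h
    · exact hba h.symm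
    · exact hda (Finset.mem_singleton.mp h).symm
  -- the point map
  have hτ : ∀ f, ∃ t, ∀ c : ↥golayCode, (x c).1 f + c.1 t = (x c).1 a + c.1 s := by
    intro f
    by_cases hfa : f = a
    · exact ⟨s, fun c => by rw [hfa]⟩
    · obtain ⟨Bf, hBfc, hsBf, hBf⟩ := key f hfa
      obtain ⟨t, hts, hBft⟩ : ∃ t, t ≠ s ∧ Bf = {s, t} := by
        obtain ⟨u, v, huv, rfl⟩ := Finset.card_eq_two.mp hBfc
        rcases Finset.mem_insert.mp hsBf with h | h
        · exact ⟨v, fun hv => huv (h ▸ hv.symm), by rw [h]⟩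
        · rw [Finset.mem_singleton] at h
          exact ⟨u, fun hu => huv (hu.trans h), by rw [h, Finset.pair_comm]⟩
      refine ⟨t, fun c => ?_⟩
      have := hBf c
      rw [hBft, dwS_pair a f (Ne.symm hfa), dwS_pair s t hts.symm] at this
      exact z4 _ _ _ _ this
  choose τ hτ using hτ
  have hinj : Function.Injective τ := by
    intro f f' hff
    by_contra hne
    have h0 : ∀ c : ↥golayCode, dwS {f, f'} c.1 = 0 := by
      intro c
      have h1 := hτ f (x.symm c)
      have h2 := hτ f' (x.symm c)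
      rw [LinearEquiv.apply_symm_apply] at h1 h2
      rw [hff] at h1
      rw [dwS_pair f f' hne]
      have : ∀ p q r e : ZMod 2, p + r = e → q + r = e → p + q = 0 := by decide
      exact this _ _ _ _ h1 h2
    have h1 := No_zero_of _ h0
    rw [No_two _ (Finset.card_pair hne)] at h1
    omega
  have hval : ∀ (c : ↥golayCode) (p : GolayPt),
      (x c).1 p = c.1 (τ p) + ((x c).1 a + c.1 s) := fun c p => z3 _ _ _ (hτ p c)
  let σ : Equiv.Perm GolayPt :=
    (Equiv.ofBijective τ ⟨hinj, Finite.surjective_of_injective hinj⟩).symm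
  have hσ : ∀ (w : GolayPt → ZMod 2) (p : GolayPt), act σ w p = w (τ p) := by
    intro w p
    show w (σ.symm p) = w (τ p)
    rfl
  have hcases : ∀ c : ↥golayCode, (x c).1 = act σ c.1 ∨ (x c).1 = act σ c.1 + 1 := by
    intro c
    rcases zmod2_cases ((x c).1 a + c.1 s) with h | h
    · left
      funext p
      rw [hval c p, h, add_zero, hσ]
    · right
      funext p
      rw [hval c p, h, Pi.add_apply, hσ]
      rfl
  refine ⟨σ, ?_, hcases⟩
  apply mem_M24_of_act
  intro c hc
  rcases hcases ⟨c, hc⟩ with h | h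
  · have : act σ c = (x ⟨c, hc⟩).1 := h.symm
    rw [this]
    exact (x ⟨c, hc⟩).2
  · have : act σ c = (x ⟨c, hc⟩).1 + 1 := by
      have h' : (x ⟨c, hc⟩).1 = act σ c + 1 := h
      rw [h', add_assoc, add_self', add_zero]
    rw [this]
    exact golayCode.add_mem (x ⟨c, hc⟩).2 one_mem

end Cfsg.Agent.Lib.Helper9.GolayDual4
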