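import Cfsg.Agent.Lib.Helper9.Golay1

set_option autoImplicit false
set_option linter.unusedSectionVars false

namespace Cfsg.Agent.Lib.Helper9.GolayG2

open Finset Cfsg.Agent.Lib.Helper9.Golay1

variable {ι : Type*} [Fintype ι] [DecidableEq ι]

/-- words of weight at most 4 -/
def lead : Finset (ι → ZMod 2) := univ.filter fun u => hammingNorm u ≤ 4

/-- weights for the counting argument -/
def mu (u : ι → ZMod 2) : ℕ := if hammingNorm u ≤ 3 then 6 else 1

theorem total (hι : Fintype.card ι = 24) :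
    ∑ u ∈ (lead : Finset (ι → ZMod 2)), mu u = 24576 := by
  rw [← sum_fiberwise_of_maps_to (s := (lead : Finset (ι → ZMod 2))) (t := range 5) (g := fun u => hammingNorm u)
    (fun u hu => by
      have : hammingNorm u ≤ 4 := (mem_filter.mp hu).2
      exact mem_range.mpr (by omega))]
  have h : ∀ k ∈ range 5, ∑ u ∈ (lead : Finset (ι → ZMod 2)) with hammingNorm u = k, mu u
      = (Nat.choose 24 k) * (if k ≤ 3 then 6 else 1) := by
    intro k hk
    have e : (lead : Finset (ι → ZMod 2)).filter (fun u => hammingNorm u = k)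
        = univ.filter (fun u : ι → ZMod 2 => hammingNorm u = k) := by
      ext u
      simp only [lead, mem_filter, mem_univ, true_and, and_iff_right_iff_imp]
      intro hu
      rw [hu]
      have := mem_range.mp hk
      omega
    have hc := card_wt_eq (ι := ι) k
    rw [hι] at hc
    rw [sum_congr rfl (g := fun _ => if k ≤ 3 then 6 else 1), sum_const, smul_eq_mul, e, hc]
    intro u hu
    simp only [mu, (mem_filter.mp hu).2]
  rw [sum_congr rfl h]
  decide

theorem fiber_pair (C : Submodule (ZMod 2) (ι → ZMod 2))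
    (hmin : ∀ w ∈ C, w ≠ 0 → 8 ≤ hammingNorm w) (u u' : ι → ZMod 2) (h : u - u' ∈ C)
    (hne : u ≠ u') (hu : hammingNorm u ≤ 4) (hu' : hammingNorm u' ≤ 4) :
    hammingNorm u = 4 ∧ hammingNorm u' = 4 ∧ Disjoint (supp u) (supp u') := by
  have h8 := hmin _ h (sub_ne_zero.mpr hne)
  rw [sub_eq_add'] at h8
  have := wt_add u u'
  have hc : (supp u ∩ supp u').card = 0 := by omega
  refine ⟨by omega, by omega, ?_⟩
  rw [disjoint_iff_inter_eq_empty]
  exact card_eq_zero.mp hc

/-- fiber of the leaders over the coset of `w` -/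
noncomputable def fib (C : Submodule (ZMod 2) (ι → ZMod 2)) (w : ι → ZMod 2) :
    Finset (ι → ZMod 2) := by
  classical
  exact lead.filter fun u => u - w ∈ C

theorem mem_fib (C : Submodule (ZMod 2) (ι → ZMod 2)) (w u : ι → ZMod 2) :
    u ∈ fib C w ↔ u - w ∈ C ∧ hammingNorm u ≤ 4 := by
  classical
  simp only [fib, lead, mem_filter, mem_univ, true_and]
  tauto

theorem fib_struct (C : Submodule (ZMod 2) (ι → ZMod 2))
    (hmin : ∀ w ∈ C, w ≠ 0 → 8 ≤ hammingNorm w) (w : ι → ZMod 2) :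
    (∃ u, fib C w = {u} ∧ hammingNorm u ≤ 3) ∨
    (∀ u ∈ fib C w, hammingNorm u = 4 ∧ ∀ u' ∈ fib C w, u ≠ u' →
      Disjoint (supp u) (supp u')) := by
  have hpair : ∀ u ∈ fib C w, ∀ u' ∈ fib C w, u ≠ u' →
      hammingNorm u = 4 ∧ hammingNorm u' = 4 ∧ Disjoint (supp u) (supp u') := by
    intro u hu u' hu' hne
    rw [mem_fib] at hu hu'
    have : u - u' ∈ C := by
      have := C.sub_mem hu.1 hu'.1
      simpa using this
    exact fiber_pair C hmin u u' this hne hu.2 hu'.2
  by_cases h : ∃ u ∈ fib C w, hammingNorm u ≤ 3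
  · left
    obtain ⟨u, hu, hu3⟩ := h
    refine ⟨u, ?_, hu3⟩
    ext u'
    rw [mem_singleton]
    constructor
    · intro hu'
      by_contra hne
      have := (hpair u hu u' hu' (fun h => hne h.symm)).1
      omega
    · rintro rfl
      exact hu
  · right
    push Not at h
    intro u hu
    have h4 : hammingNorm u ≤ 4 := ((mem_fib C w u).mp hu).2
    have h3 := h u hu
    refine ⟨by omega, fun u' hu' hne => (hpair u hu u' hu' hne).2.2⟩

theorem fib_weight_le (hι : Fintype.card ι = 24) (C : Submodule (ZMod 2) (ι → ZMod 2))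
    (hmin : ∀ w ∈ C, w ≠ 0 → 8 ≤ hammingNorm w) (w : ι → ZMod 2) :
    ∑ u ∈ fib C w, mu u ≤ 6 := by
  rcases fib_struct C hmin w with ⟨u, hu, hu3⟩ | h
  · rw [hu, sum_singleton]
    simp [mu, hu3]
  · have h1 : ∑ u ∈ fib C w, mu u = (fib C w).card := by
      rw [card_eq_sum_ones]
      refine sum_congr rfl fun u hu => ?_
      simp [mu, (h u hu).1]
    have h2 : ((fib C w).biUnion supp).card = ∑ u ∈ fib C w, (supp u).card :=
      card_biUnion fun u hu u' hu' hne => (h u hu).2 u' hu' hne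
    have h3 : ∑ u ∈ fib C w, (supp u).card = ∑ u ∈ fib C w, 4 :=
      sum_congr rfl fun u hu => by rw [← wt_eq, (h u hu).1]
    rw [h3, sum_const, smul_eq_mul] at h2
    have h4 : ((fib C w).biUnion supp).card ≤ 24 := by
      have := card_le_univ ((fib C w).biUnion supp)
      rwa [hι] at this
    omega

theorem fib_weight_eq (hι : Fintype.card ι = 24) (C : Submodule (ZMod 2) (ι → ZMod 2))
    (hdim : Module.finrank (ZMod 2) C = 12)
    (hmin : ∀ w ∈ C, w ≠ 0 → 8 ≤ hammingNorm w) (w : ι → ZMod 2) :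
    ∑ u ∈ fib C w, mu u = 6 := by
  haveI : DecidableEq ((ι → ZMod 2) ⧸ C) := Classical.decEq _
  haveI : Fintype ((ι → ZMod 2) ⧸ C) := Fintype.ofFinite _
  have hcardQ : Fintype.card ((ι → ZMod 2) ⧸ C) = 4096 := by
    have h1 := Submodule.card_eq_card_quotient_mul_card C
    have h2 : Nat.card (ι → ZMod 2) = 2 ^ 24 := by
      rw [Nat.card_eq_fintype_card, Fintype.card_fun, ZMod.card, hι]
    have h3 : Nat.card C = 2 ^ 12 := by
      rw [Module.natCard_eq_pow_finrank (K := ZMod 2), hdim, Nat.card_eq_fintype_card, ZMod.card]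
    rw [h2, h3] at h1
    rw [← Nat.card_eq_fintype_card]
    have h4 : (2 : ℕ) ^ 24 = 2 ^ 12 * 4096 := by norm_num
    exact Nat.eq_of_mul_eq_mul_left (by norm_num : 0 < 2 ^ 12) (h1.symm.trans h4)
  have hm : ∀ w : ι → ZMod 2,
      ∑ u ∈ lead with (Submodule.Quotient.mk u : (ι → ZMod 2) ⧸ C) = Submodule.Quotient.mk w,
        mu u = ∑ u ∈ fib C w, mu u := by
    intro w
    refine sum_congr ?_ fun _ _ => rfl
    ext u
    rw [mem_filter, mem_fib, Submodule.Quotient.eq]
    simp only [lead, mem_filter, mem_univ, true_and]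
    tauto
  have hle : ∀ q ∈ (univ : Finset ((ι → ZMod 2) ⧸ C)),
      ∑ u ∈ lead with (Submodule.Quotient.mk u : (ι → ZMod 2) ⧸ C) = q, mu u ≤ 6 := by
    intro q _
    obtain ⟨w, rfl⟩ := Submodule.Quotient.mk_surjective C q
    rw [hm]
    exact fib_weight_le hι C hmin w
  have hsum : ∑ q : (ι → ZMod 2) ⧸ C,
      ∑ u ∈ lead with (Submodule.Quotient.mk u : (ι → ZMod 2) ⧸ C) = q, mu u
        = ∑ _q : (ι → ZMod 2) ⧸ C, 6 := by
    rw [sum_fiberwise, total hι, sum_const, card_univ, hcardQ]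
    rfl
  have := (sum_eq_sum_iff_of_le hle).mp hsum (Submodule.Quotient.mk w) (mem_univ _)
  rw [← hm]
  exact this

/-- The coset leader theorem (structure of cosets of an abstract Golay code). -/
theorem fib_cases (hι : Fintype.card ι = 24) (C : Submodule (ZMod 2) (ι → ZMod 2))
    (hdim : Module.finrank (ZMod 2) C = 12)
    (hmin : ∀ w ∈ C, w ≠ 0 → 8 ≤ hammingNorm w) (w : ι → ZMod 2) :
    (∃ u, fib C w = {u} ∧ hammingNorm u ≤ 3) ∨
    ((fib C w).card = 6 ∧ ∀ u ∈ fib C w, hammingNorm u = 4 ∧ ∀ u' ∈ fib C w, u ≠ u' →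
      Disjoint (supp u) (supp u')) := by
  rcases fib_struct C hmin w with h | h
  · exact Or.inl h
  · right
    refine ⟨?_, h⟩
    have h1 : ∑ u ∈ fib C w, mu u = (fib C w).card := by
      rw [card_eq_sum_ones]
      refine sum_congr rfl fun u hu => ?_
      simp [mu, (h u hu).1]
    rw [← h1]
    exact fib_weight_eq hι C hdim hmin w

theorem coe_fib (C : Submodule (ZMod 2) (ι → ZMod 2)) (w : ι → ZMod 2) :
    {u : ι → ZMod 2 | u - w ∈ C ∧ hammingNorm u ≤ 4} = (fib C w : Set _) := by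
  ext u
  simp only [Set.mem_ofPred_eq, mem_coe, mem_fib]

end Cfsg.Agent.Lib.Helper9.GolayG2
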