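import Cfsg.Agent.Lib.Helper9.GolayG2

set_option autoImplicit false
set_option linter.unusedSectionVars false

namespace Cfsg.Agent.Lib.Helper9.GolayG3

open Finset Cfsg.Agent.Lib.Helper9.Golay1 Cfsg.Agent.Lib.Helper9.GolayG2

variable {ι : Type*} [Fintype ι] [DecidableEq ι]

/-- an octad through any five points -/
theorem exists_octad (hι : Fintype.card ι = 24) (C : Submodule (ZMod 2) (ι → ZMod 2))
    (hdim : Module.finrank (ZMod 2) C = 12)
    (hmin : ∀ w ∈ C, w ≠ 0 → 8 ≤ hammingNorm w) (s : Finset ι) (hs : s.card = 5) :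
    ∃ c ∈ C, hammingNorm c = 8 ∧ s ⊆ supp c := by
  have hne : s.Nonempty := card_pos.mp (by omega)
  obtain ⟨p, hp⟩ := hne
  obtain ⟨T, hT⟩ : ∃ T, T = s.erase p := ⟨_, rfl⟩
  have hTc : T.card = 4 := by rw [hT, card_erase_of_mem hp, hs]
  have hpT : p ∉ T := by rw [hT]; exact notMem_erase p s
  obtain ⟨u, hu⟩ : ∃ u, u = ind T := ⟨_, rfl⟩
  have hsu : supp u = T := by rw [hu, supp_ind]
  have hwu : hammingNorm u = 4 := by rw [wt_eq, hsu, hTc]
  have humem : u ∈ fib C u := by
    rw [mem_fib]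
    exact ⟨by simp, by omega⟩
  rcases fib_cases hι C hdim hmin u with ⟨u', hu', h3⟩ | ⟨h6, h⟩
  · rw [hu', mem_singleton] at humem
    rw [humem] at hwu
    omega
  · have h2 : ((fib C u).biUnion supp).card = ∑ v ∈ fib C u, (supp v).card :=
      card_biUnion fun v hv v' hv' hne => (h v hv).2 v' hv' hne
    have h3 : ∑ v ∈ fib C u, (supp v).card = ∑ v ∈ fib C u, 4 :=
      sum_congr rfl fun v hv => by rw [← wt_eq, (h v hv).1]
    rw [h3, sum_const, smul_eq_mul, h6] at h2
    have h4 : (fib C u).biUnion supp = univ := by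
      apply eq_univ_of_card
      rw [h2, hι]
    have hp' : p ∈ (fib C u).biUnion supp := by rw [h4]; exact mem_univ p
    obtain ⟨u', hu', hpu'⟩ := mem_biUnion.mp hp'
    have hne : u' ≠ u := by
      rintro rfl
      rw [hsu] at hpu'
      exact hpT hpu'
    have hdisj : Disjoint (supp u') (supp u) := (h u' hu').2 u humem hne
    have hmemC : u' + u ∈ C := by
      have := ((mem_fib C u u').mp hu').1
      rwa [sub_eq_add'] at this
    refine ⟨u' + u, hmemC, ?_, ?_⟩
    · have := wt_add u' u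
      rw [disjoint_iff_inter_eq_empty.mp hdisj, card_empty, (h u' hu').1, hwu] at this
      omega
    · rw [supp_add]
      intro i hi
      rw [Finset.mem_symmDiff]
      by_cases hip : i = p
      · left
        rw [hip]
        refine ⟨hpu', ?_⟩
        rw [hsu]
        exact hpT
      · right
        have hiT : i ∈ T := by rw [hT]; exact mem_erase.mpr ⟨hip, hi⟩
        have hiu : i ∈ supp u := by rw [hsu]; exact hiT
        exact ⟨hiu, fun hiu' => (disjoint_left.mp hdisj) hiu' hiu⟩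

theorem octad_unique (C : Submodule (ZMod 2) (ι → ZMod 2))
    (hmin : ∀ w ∈ C, w ≠ 0 → 8 ≤ hammingNorm w) (s : Finset ι) (hs : s.card = 5)
    (c c' : ι → ZMod 2) (hc : c ∈ C) (hc' : c' ∈ C) (h8 : hammingNorm c = 8)
    (h8' : hammingNorm c' = 8) (hsc : s ⊆ supp c) (hsc' : s ⊆ supp c') : c = c' := by
  by_contra hne
  have hmem : c + c' ∈ C := C.add_mem hc hc'
  have hnz : c + c' ≠ 0 := by
    intro h
    apply hne
    have : c - c' = 0 := by rw [sub_eq_add']; exact h
    exact sub_eq_zero.mp this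
  have h1 := hmin _ hmem hnz
  have h2 := wt_add c c'
  have h3 : s.card ≤ (supp c ∩ supp c').card := card_le_card (subset_inter hsc hsc')
  omega

theorem octads_steiner (hι : Fintype.card ι = 24) (C : Submodule (ZMod 2) (ι → ZMod 2))
    (hdim : Module.finrank (ZMod 2) C = 12)
    (hmin : ∀ w ∈ C, w ≠ 0 → 8 ≤ hammingNorm w) :
    (∃ w ∈ C, hammingNorm w = 8) ∧
      Cfsg.IsSteinerSystem 5 8 (Cfsg.wordsOfWeight (C : Set (ι → ZMod 2)) 8) := by
  refine ⟨?_, ?_, ?_⟩
  · obtain ⟨s, -, hs⟩ := exists_subset_card_eq (s := (univ : Finset ι)) (n := 5)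
      (by rw [card_univ, hι]; omega)
    obtain ⟨c, hc, h8, -⟩ := exists_octad hι C hdim hmin s hs
    exact ⟨c, hc, h8⟩
  · intro b hb
    exact hb.2
  · intro s hs
    obtain ⟨c, hc, h8, hsc⟩ := exists_octad hι C hdim hmin s hs
    refine ⟨supp c, ⟨⟨⟨c, hc, (supp_eq_support₂ c).symm⟩, by rw [← wt_eq, h8]⟩, hsc⟩, ?_⟩
    rintro b ⟨⟨⟨c', hc', rfl⟩, hb8⟩, hsb⟩
    rw [← supp_eq_support₂] at hb8 hsb ⊢
    have h8' : hammingNorm c' = 8 := by rw [wt_eq, hb8]
    rw [octad_unique C hmin s hs c c' hc hc' h8 h8' hsc hsb]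

end Cfsg.Agent.Lib.Helper9.GolayG3
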