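import Cfsg.Agent.Lib.Helper9.GolayG4

set_option autoImplicit false
set_option linter.unusedSectionVars false

namespace Cfsg.Agent.Lib.Helper9.GolayG5

open Finset Cfsg.Agent.Lib.Helper9.Golay1 Cfsg.Agent.Lib.Helper9.GolayG2
  Cfsg.Agent.Lib.Helper9.GolayG3

variable {ι : Type*} [Fintype ι] [DecidableEq ι]

/-- weight of a sum of words with disjoint supports -/
theorem wt_add_of_disjoint (u v : ι → ZMod 2) (h : Disjoint (supp u) (supp v)) :
    hammingNorm (u + v) = hammingNorm u + hammingNorm v := by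
  have := wt_add u v
  rw [disjoint_iff_inter_eq_empty.mp h, card_empty] at this
  omega

theorem supp_add_of_disjoint (u v : ι → ZMod 2) (h : Disjoint (supp u) (supp v)) :
    supp (u + v) = supp u ∪ supp v := by
  rw [supp_add]
  ext i
  rw [Finset.mem_symmDiff, mem_union]
  constructor
  · rintro (⟨h1, -⟩ | ⟨h1, -⟩)
    · exact Or.inl h1
    · exact Or.inr h1
  · rintro (h1 | h1)
    · exact Or.inl ⟨h1, fun h2 => disjoint_left.mp h h1 h2⟩
    · exact Or.inr ⟨h1, fun h2 => disjoint_left.mp h h2 h1⟩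

/-- the sextet of a tetrad: structure of the fibre -/
theorem sextet_struct (hι : Fintype.card ι = 24) (C : Submodule (ZMod 2) (ι → ZMod 2))
    (hdim : Module.finrank (ZMod 2) C = 12)
    (hmin : ∀ w ∈ C, w ≠ 0 → 8 ≤ hammingNorm w) (T : Finset ι) (hT : T.card = 4) :
    ind T ∈ fib C (ind T) ∧ (fib C (ind T)).card = 6 ∧
    (∀ u ∈ fib C (ind T), hammingNorm u = 4) ∧
    (∀ u ∈ fib C (ind T), ∀ u' ∈ fib C (ind T), u ≠ u' → Disjoint (supp u) (supp u')) ∧
    (fib C (ind T)).biUnion supp = univ := by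
  have hwu : hammingNorm (ind T) = 4 := by rw [wt_ind, hT]
  have humem : ind T ∈ fib C (ind T) := by
    rw [mem_fib]
    exact ⟨by simp, by omega⟩
  rcases fib_cases hι C hdim hmin (ind T) with ⟨u', hu', h3⟩ | ⟨h6, h⟩
  · rw [hu', mem_singleton] at humem
    rw [humem] at hwu
    omega
  · refine ⟨humem, h6, fun u hu => (h u hu).1, fun u hu u' hu' hne => (h u hu).2 u' hu' hne, ?_⟩
    have h2 : ((fib C (ind T)).biUnion supp).card = ∑ v ∈ fib C (ind T), (supp v).card :=
      card_biUnion fun v hv v' hv' hne => (h v hv).2 v' hv' hne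
    have h3 : ∑ v ∈ fib C (ind T), (supp v).card = ∑ v ∈ fib C (ind T), 4 :=
      sum_congr rfl fun v hv => by rw [← wt_eq, (h v hv).1]
    rw [h3, sum_const, smul_eq_mul, h6] at h2
    apply eq_univ_of_card
    rw [h2, hι]

/-- two members of a fibre add up to a codeword -/
theorem fib_add_mem (C : Submodule (ZMod 2) (ι → ZMod 2)) (w u u' : ι → ZMod 2)
    (hu : u ∈ fib C w) (hu' : u' ∈ fib C w) : u + u' ∈ C := by
  have h1 := ((mem_fib C w u).mp hu).1
  have h2 := ((mem_fib C w u').mp hu').1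
  have := C.sub_mem h1 h2
  have e : u - w - (u' - w) = u + u' := by
    rw [sub_sub_sub_cancel_right, sub_eq_add']
  rwa [e] at this

/-- a codeword of weight 8 containing the tetrad gives a member of the fibre -/
theorem octad_sub_mem_fib (C : Submodule (ZMod 2) (ι → ZMod 2)) (T : Finset ι) (c : ι → ZMod 2)
    (hc : c ∈ C) (h8 : hammingNorm c = 8) (hT : T.card = 4) (hTc : T ⊆ supp c) :
    c + ind T ∈ fib C (ind T) ∧ supp (c + ind T) = supp c \ T := by
  have hs : supp (c + ind T) = supp c \ T := by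
    rw [supp_add, supp_ind]
    ext i
    rw [Finset.mem_symmDiff, mem_sdiff]
    constructor
    · rintro (h | ⟨h1, h2⟩)
      · exact h
      · exact absurd (hTc h1) h2
    · intro h
      exact Or.inl h
  refine ⟨?_, hs⟩
  rw [mem_fib]
  constructor
  · have : c + ind T - ind T = c := by rw [add_sub_cancel_right]
    rw [this]
    exact hc
  · rw [wt_eq, hs, card_sdiff_of_subset hTc, ← wt_eq, h8, hT]

end Cfsg.Agent.Lib.Helper9.GolayG5
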