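import Cfsg.Agent.Lib.Helper9.GolayG5

set_option autoImplicit false
set_option linter.unusedSectionVars false

namespace Cfsg.Agent.Lib.Helper9.GolayG6

open Finset Cfsg.Agent.Lib.Helper9.Golay1 Cfsg.Agent.Lib.Helper9.GolayG2
  Cfsg.Agent.Lib.Helper9.GolayG3 Cfsg.Agent.Lib.Helper9.GolayG5

variable {ι : Type*} [Fintype ι] [DecidableEq ι]

theorem supp_one' : supp (1 : ι → ZMod 2) = univ := by
  ext p
  simp [mem_supp]

theorem wt_add_one' (hι : Fintype.card ι = 24) (c : ι → ZMod 2) :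
    hammingNorm (c + 1) + hammingNorm c = 24 := by
  have h := wt_add c 1
  rw [supp_one', inter_univ, ← wt_eq] at h
  have h1 : hammingNorm (1 : ι → ZMod 2) = 24 := by
    rw [wt_eq, supp_one', card_univ, hι]
  omega

/-- L1: distinct octads meet in 0, 2 or 4 points -/
theorem octad_inter (C : Submodule (ZMod 2) (ι → ZMod 2))
    (horth : ∀ v ∈ C, ∀ w ∈ C, ∑ i, v i * w i = 0)
    (hmin : ∀ w ∈ C, w ≠ 0 → 8 ≤ hammingNorm w) (c c' : ι → ZMod 2) (hc : c ∈ C) (hc' : c' ∈ C)
    (h8 : hammingNorm c = 8) (h8' : hammingNorm c' = 8) (hne : c ≠ c') :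
    (supp c ∩ supp c').card = 0 ∨ (supp c ∩ supp c').card = 2 ∨ (supp c ∩ supp c').card = 4 := by
  have heven := even_inter_of_dot_eq_zero c c' (horth c hc c' hc')
  have hle : (supp c ∩ supp c').card ≤ 4 := by
    by_contra hgt
    push Not at hgt
    obtain ⟨s, hs, hs5⟩ := exists_subset_card_eq (s := supp c ∩ supp c') (n := 5) (by omega)
    exact hne (octad_unique C hmin s hs5 c c' hc hc' h8 h8'
      (hs.trans inter_subset_left) (hs.trans inter_subset_right))
  omega

/-- L3: octads meeting in two points have no common disjoint octad -/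
theorem no_common_disjoint (hι : Fintype.card ι = 24) (C : Submodule (ZMod 2) (ι → ZMod 2))
    (hmin : ∀ w ∈ C, w ≠ 0 → 8 ≤ hammingNorm w) (h1 : (1 : ι → ZMod 2) ∈ C)
    (c c' c'' : ι → ZMod 2) (hc : c ∈ C) (hc' : c' ∈ C) (hc'' : c'' ∈ C)
    (h8 : hammingNorm c = 8) (h8' : hammingNorm c' = 8) (h8'' : hammingNorm c'' = 8)
    (h2 : (supp c ∩ supp c').card = 2) (hd : Disjoint (supp c'') (supp c))
    (hd' : Disjoint (supp c'') (supp c')) : False := by
  have e1 : hammingNorm (c + c') = 12 := by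
    have := wt_add c c'
    omega
  have hd2 : Disjoint (supp (c + c')) (supp c'') := by
    rw [supp_add]
    refine disjoint_of_subset_left symmDiff_subset_union ?_
    exact disjoint_union_left.mpr ⟨hd.symm, hd'.symm⟩
  have e2 : hammingNorm (c + c' + c'') = 20 := by
    rw [wt_add_of_disjoint _ _ hd2, e1, h8'']
  have e3 := wt_add_one' hι (c + c' + c'')
  have hmem : c + c' + c'' + 1 ∈ C := C.add_mem (C.add_mem (C.add_mem hc hc') hc'') h1
  have hne : c + c' + c'' + 1 ≠ 0 := by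
    intro h
    rw [h, hammingNorm_zero] at e3
    omega
  have := hmin _ hmem hne
  omega

/-- L2: octads meeting in four points have a common disjoint octad -/
theorem exists_common_disjoint (hι : Fintype.card ι = 24) (C : Submodule (ZMod 2) (ι → ZMod 2))
    (hdim : Module.finrank (ZMod 2) C = 12)
    (hmin : ∀ w ∈ C, w ≠ 0 → 8 ≤ hammingNorm w)
    (c c' : ι → ZMod 2) (hc : c ∈ C) (hc' : c' ∈ C)
    (h8 : hammingNorm c = 8) (h8' : hammingNorm c' = 8)
    (h4 : (supp c ∩ supp c').card = 4) :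
    ∃ c'' ∈ C, hammingNorm c'' = 8 ∧ Disjoint (supp c'') (supp c) ∧
      Disjoint (supp c'') (supp c') := by
  obtain ⟨T, hT⟩ : ∃ T, T = supp c ∩ supp c' := ⟨_, rfl⟩
  have hT4 : T.card = 4 := by rw [hT, h4]
  obtain ⟨hTmem, h6, hw4, hdisj, -⟩ := sextet_struct hι C hdim hmin T hT4
  obtain ⟨hu1, hs1⟩ := octad_sub_mem_fib C T c hc h8 hT4 (by rw [hT]; exact inter_subset_left)
  obtain ⟨hu2, hs2⟩ := octad_sub_mem_fib C T c' hc' h8' hT4 (by rw [hT]; exact inter_subset_right)
  have hcard : 1 < ((fib C (ind T)) \ {ind T, c + ind T, c' + ind T}).card := by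
    have h := le_card_sdiff ({ind T, c + ind T, c' + ind T} : Finset (ι → ZMod 2))
      (fib C (ind T))
    have h3 : ({ind T, c + ind T, c' + ind T} : Finset (ι → ZMod 2)).card ≤ 3 :=
      card_le_three
    omega
  obtain ⟨u3, hu3, u4, hu4, hne34⟩ := one_lt_card.mp hcard
  simp only [mem_sdiff, mem_insert, mem_singleton, not_or] at hu3 hu4
  obtain ⟨hu3F, hu3a, hu3b, hu3c⟩ := hu3
  obtain ⟨hu4F, hu4a, hu4b, hu4c⟩ := hu4
  have hd34 := hdisj u3 hu3F u4 hu4F hne34
  have hsT : supp (ind T) = T := supp_ind T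
  have hcsub : supp c ⊆ T ∪ supp (c + ind T) := by
    rw [hs1]
    intro i hi
    by_cases hiT : i ∈ T
    · exact mem_union_left _ hiT
    · exact mem_union_right _ (mem_sdiff.mpr ⟨hi, hiT⟩)
  have hc'sub : supp c' ⊆ T ∪ supp (c' + ind T) := by
    rw [hs2]
    intro i hi
    by_cases hiT : i ∈ T
    · exact mem_union_left _ hiT
    · exact mem_union_right _ (mem_sdiff.mpr ⟨hi, hiT⟩)
  have d3T : Disjoint (supp u3) T := hsT ▸ hdisj u3 hu3F _ hTmem hu3a
  have d4T : Disjoint (supp u4) T := hsT ▸ hdisj u4 hu4F _ hTmem hu4a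
  have d31 := hdisj u3 hu3F _ hu1 hu3b
  have d41 := hdisj u4 hu4F _ hu1 hu4b
  have d32 := hdisj u3 hu3F _ hu2 hu3c
  have d42 := hdisj u4 hu4F _ hu2 hu4c
  refine ⟨u3 + u4, fib_add_mem C _ u3 u4 hu3F hu4F, ?_, ?_, ?_⟩
  · rw [wt_add_of_disjoint _ _ hd34, hw4 u3 hu3F, hw4 u4 hu4F]
  · rw [supp_add_of_disjoint _ _ hd34]
    refine disjoint_of_subset_right hcsub ?_
    rw [disjoint_union_left, disjoint_union_right, disjoint_union_right]
    exact ⟨⟨d3T, d31⟩, ⟨d4T, d41⟩⟩
  · rw [supp_add_of_disjoint _ _ hd34]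
    refine disjoint_of_subset_right hc'sub ?_
    rw [disjoint_union_left, disjoint_union_right, disjoint_union_right]
    exact ⟨⟨d3T, d32⟩, ⟨d4T, d42⟩⟩

end Cfsg.Agent.Lib.Helper9.GolayG6
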