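import Cfsg.Agent.Lib.Helper9.GolayG6

set_option autoImplicit false
set_option linter.unusedSectionVars false

namespace Cfsg.Agent.Lib.Helper9.GolayG7

open Finset Cfsg.Agent.Lib.Helper9.Golay1 Cfsg.Agent.Lib.Helper9.GolayG2
  Cfsg.Agent.Lib.Helper9.GolayG3 Cfsg.Agent.Lib.Helper9.GolayG5 Cfsg.Agent.Lib.Helper9.GolayG6

variable {ι : Type*} [Fintype ι] [DecidableEq ι]

/-- L4: octads meeting in two points are joined by a path of length three in the octad graph -/
theorem exists_path_three (hι : Fintype.card ι = 24) (C : Submodule (ZMod 2) (ι → ZMod 2))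
    (hdim : Module.finrank (ZMod 2) C = 12)
    (horth : ∀ v ∈ C, ∀ w ∈ C, ∑ i, v i * w i = 0)
    (hmin : ∀ w ∈ C, w ≠ 0 → 8 ≤ hammingNorm w)
    (c c' : ι → ZMod 2) (hc : c ∈ C) (hc' : c' ∈ C)
    (h8 : hammingNorm c = 8) (h8' : hammingNorm c' = 8)
    (h2 : (supp c ∩ supp c').card = 2) :
    ∃ c₁ ∈ C, ∃ c₂ ∈ C, hammingNorm c₁ = 8 ∧ hammingNorm c₂ = 8 ∧
      Disjoint (supp c) (supp c₁) ∧ Disjoint (supp c₁) (supp c₂) ∧
      Disjoint (supp c₂) (supp c') := by
  -- choose a tetrad inside supp c' \ supp c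
  have h6 : (supp c' \ supp c).card = 6 := by
    have := card_sdiff_add_card_inter (supp c') (supp c)
    rw [inter_comm, h2, ← wt_eq, h8'] at this
    omega
  obtain ⟨T, hTsub, hT4⟩ := exists_subset_card_eq (s := supp c' \ supp c) (n := 4) (by omega)
  have hTc' : T ⊆ supp c' := hTsub.trans sdiff_subset
  have hTc : Disjoint T (supp c) :=
    disjoint_of_subset_left hTsub sdiff_disjoint
  obtain ⟨hTmem, hF6, hw4, hdisj, hunion⟩ := sextet_struct hι C hdim hmin T hT4
  obtain ⟨hu2, hs2⟩ := octad_sub_mem_fib C T c' hc' h8' hT4 hTc'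
  have hsT : supp (ind T) = T := supp_ind T
  obtain ⟨F, hF⟩ : ∃ F, F = fib C (ind T) := ⟨_, rfl⟩
  rw [← hF] at hTmem hF6 hw4 hdisj hunion hu2
  have hneT2 : ind T ≠ c' + ind T := by
    intro h
    have h1 : supp (ind T) = supp (c' + ind T) := by rw [← h]
    rw [hsT, hs2] at h1
    have hTne : T.Nonempty := card_pos.mp (by omega)
    obtain ⟨i, hi⟩ := hTne
    have := hi
    rw [h1] at this
    exact (mem_sdiff.mp this).2 hi
  -- the intersections of supp c with the tetrads
  have hsum : ∑ u ∈ F, (supp c ∩ supp u).card = 8 := by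
    rw [← card_biUnion]
    · rw [← inter_biUnion, hunion, inter_univ, ← wt_eq, h8]
    · intro u hu u' hu' hne
      exact disjoint_of_subset_left inter_subset_right
        (disjoint_of_subset_right inter_subset_right (hdisj u hu u' hu' hne))
  have hf1 : (supp c ∩ supp (ind T)).card = 0 := by
    rw [hsT, card_eq_zero, ← disjoint_iff_inter_eq_empty]
    exact hTc.symm
  have hf2 : (supp c ∩ supp (c' + ind T)).card = 2 := by
    rw [hs2, ← h2]
    congr 1
    ext i
    simp only [mem_inter, mem_sdiff]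
    constructor
    · rintro ⟨h1, h2, -⟩
      exact ⟨h1, h2⟩
    · rintro ⟨h1, h2⟩
      exact ⟨h1, h2, fun h3 => disjoint_left.mp hTc h3 h1⟩
  -- claim: some other tetrad is disjoint from supp c
  have hclaim : ∃ u ∈ F, u ≠ ind T ∧ u ≠ c' + ind T ∧ Disjoint (supp u) (supp c) := by
    by_contra hcon
    push Not at hcon
    have hge : ∀ u ∈ (F.erase (ind T)).erase (c' + ind T), 2 ≤ (supp c ∩ supp u).card := by
      intro u hu
      rw [mem_erase, mem_erase] at hu
      obtain ⟨hu2', hu1', huF⟩ := hu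
      have hnd := hcon u huF hu1' hu2'
      have hpos : 0 < (supp c ∩ supp u).card := by
        rw [card_pos]
        rw [disjoint_iff_inter_eq_empty, ← ne_eq, ← nonempty_iff_ne_empty, inter_comm] at hnd
        exact hnd
      have hmem : u + ind T ∈ C := fib_add_mem C _ u (ind T) (hF ▸ huF) (hF ▸ hTmem)
      have hdu : Disjoint (supp u) (supp (ind T)) := hdisj u huF _ hTmem hu1'
      have heven := even_inter_of_dot_eq_zero c (u + ind T) (horth c hc _ hmem)
      rw [supp_add_of_disjoint _ _ hdu, inter_union_distrib_left,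
        card_union_of_disjoint (disjoint_of_subset_left inter_subset_right
          (disjoint_of_subset_right inter_subset_right hdu)), hf1, add_zero] at heven
      omega
    have hcard : ((F.erase (ind T)).erase (c' + ind T)).card = 4 := by
      rw [card_erase_of_mem (mem_erase.mpr ⟨hneT2.symm, hu2⟩), card_erase_of_mem hTmem, hF6]
    have h1 := add_sum_erase F (fun u => (supp c ∩ supp u).card) hTmem
    have h2' := add_sum_erase (F.erase (ind T)) (fun u => (supp c ∩ supp u).card)
      (mem_erase.mpr ⟨hneT2.symm, hu2⟩)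
    have h3 : 2 * 4 ≤ ∑ u ∈ (F.erase (ind T)).erase (c' + ind T), (supp c ∩ supp u).card := by
      rw [← hcard, mul_comm, ← smul_eq_mul, ← sum_const]
      exact sum_le_sum hge
    omega
  obtain ⟨u, huF, hu1, hu2', hduc⟩ := hclaim
  have hduT : Disjoint (supp u) (supp (ind T)) := hdisj u huF _ hTmem hu1
  have hdu2 : Disjoint (supp u) (supp (c' + ind T)) := hdisj u huF _ hu2 hu2'
  have hc1 : u + ind T ∈ C := fib_add_mem C _ u (ind T) (hF ▸ huF) (hF ▸ hTmem)
  have hc1w : hammingNorm (u + ind T) = 8 := by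
    rw [wt_add_of_disjoint _ _ hduT, hw4 u huF, hw4 _ hTmem]
  have hc1s : supp (u + ind T) = supp u ∪ T := by
    rw [supp_add_of_disjoint _ _ hduT, hsT]
  have hc1c : Disjoint (supp c) (supp (u + ind T)) := by
    rw [hc1s, disjoint_union_right]
    exact ⟨hduc.symm, hTc.symm⟩
  have hc1c' : (supp (u + ind T) ∩ supp c').card = 4 := by
    rw [← hT4]
    congr 1
    rw [hc1s]
    ext i
    simp only [mem_inter, mem_union]
    constructor
    · rintro ⟨h | h, h'⟩
      · exfalso
        by_cases hiT : i ∈ T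
        · rw [hsT] at hduT
          exact disjoint_left.mp hduT h hiT
        · have : i ∈ supp (c' + ind T) := by
            rw [hs2]
            exact mem_sdiff.mpr ⟨h', hiT⟩
          exact disjoint_left.mp hdu2 h this
      · exact h
    · intro h
      exact ⟨Or.inr h, hTc' h⟩
  obtain ⟨c₂, hc₂, hc₂w, hd1, hd2⟩ :=
    exists_common_disjoint hι C hdim hmin (u + ind T) c' hc1 hc' hc1w h8' hc1c'
  exact ⟨u + ind T, hc1, c₂, hc₂, hc1w, hc₂w, hc1c, hd1.symm, hd2⟩

end Cfsg.Agent.Lib.Helper9.GolayG7
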