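import Cfsg.Agent.Lib.Helper9.LeechC1
import Cfsg.Agent.Lib.Helper4.Leech
import Cfsg.Agent.Lib.Helper9.GolayQR6

set_option autoImplicit false

/-! Decomposition of the rank-24 lattice into (parity, codeword) classes, and the resulting
counting formula. -/

namespace Cfsg.Agent.Lib.Helper9.LeechC2

open Cfsg Finset Cfsg.Agent.Lib.Helper9.Golay1 Cfsg.Agent.Lib.Helper4.Leech
  Cfsg.Agent.Lib.Helper9.GolayQR4 Cfsg.Agent.Lib.Helper9.GolayQR6

/-- allowed values at a position -/
def S (U : Finset ℤ) (μ : ℤ) (c : Finset GolayPt) (i : GolayPt) : Finset ℤ :=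
  U.filter fun a => a % 4 = if i ∈ c then 2 - μ else 3 * μ

/-- parity of a vector -/
def par (x : GolayPt → ℤ) : ℤ := x none % 2

/-- the distinguished level set -/
def cl (x : GolayPt → ℤ) : Finset GolayPt := lev x (2 - par x)

theorem ind_compl (c : Finset GolayPt) : ind cᶜ = 1 + ind c := by
  ext i
  by_cases h : i ∈ c <;> simp [ind, h]
  decide

theorem mem_lev' {x : GolayPt → ℤ} {k : ℤ} {i : GolayPt} : i ∈ lev x k ↔ x i % 4 = k % 4 := by
  rw [mem_lev]; rfl

theorem fwd {x : GolayPt → ℤ} (hx : x ∈ leechSet) :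
    (par x = 0 ∨ par x = 1) ∧ ind (cl x) ∈ golayCode ∧
      (∀ i, x i % 4 = if i ∈ cl x then 2 - par x else 3 * par x) ∧
      (∑ i, x i) % 8 = 4 * par x := by
  obtain ⟨m, h1, h2, h3⟩ := (mem_leechSet_iff x).mp hx
  have hp : par x = m % 2 := h1 none
  have hp01 : par x = 0 ∨ par x = 1 := by rw [hp]; omega
  refine ⟨hp01, h3 _, fun i => ?_, ?_⟩
  · have hi : x i % 2 = m % 2 := h1 i
    by_cases hc : i ∈ cl x
    · rw [if_pos hc]
      have := mem_lev'.mp hc
      omega
    · rw [if_neg hc]
      have : ¬ x i % 4 = (2 - par x) % 4 := fun h => hc (mem_lev'.mpr h)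
      omega
  · have : (∑ i, x i) % 8 = (4 * m) % 8 := h2
    omega

theorem bwd {x : GolayPt → ℤ} {μ : ℤ} {c : Finset GolayPt} (hμ : μ = 0 ∨ μ = 1)
    (hc : ind c ∈ golayCode)
    (h : ∀ i, x i % 4 = if i ∈ c then 2 - μ else 3 * μ) (hs : (∑ i, x i) % 8 = 4 * μ) :
    x ∈ leechSet ∧ par x = μ ∧ cl x = c := by
  have h2 : ∀ i, x i % 2 = μ := by
    intro i
    have := h i
    split_ifs at this <;> omega
  have hpar : par x = μ := h2 none
  have hlev1 : ∀ k : ℤ, k % 4 = 2 - μ → lev x k = c := by
    intro k hk
    ext i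
    rw [mem_lev']
    have := h i
    by_cases hi : i ∈ c
    · rw [if_pos hi] at this
      simp only [hi, iff_true]; omega
    · rw [if_neg hi] at this
      simp only [hi, iff_false]; omega
  have hlev2 : ∀ k : ℤ, k % 4 = 3 * μ → lev x k = cᶜ := by
    intro k hk
    ext i
    rw [mem_lev', mem_compl]
    have := h i
    by_cases hi : i ∈ c
    · rw [if_pos hi] at this
      simp only [hi, not_true_eq_false, iff_false]; omega
    · rw [if_neg hi] at this
      simp only [hi, not_false_eq_true, iff_true]; omega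
  have hlev3 : ∀ k : ℤ, k % 4 ≠ 2 - μ → k % 4 ≠ 3 * μ → lev x k = ∅ := by
    intro k hk1 hk2
    ext i
    rw [mem_lev']
    have := h i
    simp only [notMem_empty, iff_false]
    split_ifs at this <;> omega
  refine ⟨?_, hpar, ?_⟩
  · rw [mem_leechSet_iff]
    refine ⟨μ, fun i => ?_, ?_, fun k => ?_⟩
    · have := h2 i
      show x i % 2 = μ % 2
      omega
    · show (∑ i, x i) % 8 = (4 * μ) % 8
      omega
    · by_cases hk1 : k % 4 = 2 - μ
      · rw [hlev1 k hk1]; exact hc
      · by_cases hk2 : k % 4 = 3 * μ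
        · rw [hlev2 k hk2, ind_compl]
          exact golayCode.add_mem one_mem_golay hc
        · rw [hlev3 k hk1 hk2, ind_empty]
          exact golayCode.zero_mem
  · unfold cl
    rw [hpar]
    apply hlev1
    omega

/-- supports of codewords, as a finset -/
noncomputable def codeS : Finset (Finset GolayPt) := by
  classical
  exact univ.filter fun c => ind c ∈ golayCode

theorem mem_codeS (c : Finset GolayPt) : c ∈ codeS ↔ ind c ∈ golayCode := by
  classical
  simp [codeS]

theorem card_words8 : (wordsN 8).card = 759 := by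
  rw [← wordsOfWeight_ncard]; exact card_octads

theorem card_words12 : (wordsN 12).card = 2576 := by
  rw [← wordsOfWeight_ncard]; exact card_dodecads

theorem card_words16 : (wordsN 16).card = 759 := by
  have := card_words_compl 8 (by norm_num)
  rw [card_words8] at this
  exact this

theorem card_codeS_wt (n : ℕ) : (codeS.filter fun c => c.card = n).card = (wordsN n).card := by
  refine card_nbij' (fun c => ind c) (fun w => supp w) ?_ ?_ ?_ ?_
  · intro c hc
    rw [mem_coe, mem_filter, mem_codeS] at hc
    rw [mem_coe, mem_wordsN, wt_ind]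
    exact hc
  · intro w hw
    rw [mem_coe, mem_wordsN] at hw
    rw [mem_coe, mem_filter, mem_codeS, ind_supp, ← wt_eq]
    exact hw
  · intro c _
    exact supp_ind c
  · intro w _
    exact ind_supp w

theorem sum_code (g : ℕ → ℕ) :
    ∑ c ∈ codeS, g c.card = g 0 + 759 * g 8 + 2576 * g 12 + 759 * g 16 + g 24 := by
  have hmaps : ∀ c ∈ codeS, c.card ∈ ({0, 8, 12, 16, 24} : Finset ℕ) := by
    intro c hc
    rw [mem_codeS] at hc
    have := weight_values _ hc
    rw [wt_ind] at this
    simp only [mem_insert, mem_singleton]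
    exact this
  rw [← Finset.sum_fiberwise_of_maps_to hmaps]
  have hfib : ∀ n, ∑ c ∈ codeS.filter (fun c => c.card = n), g c.card = (wordsN n).card * g n := by
    intro n
    rw [← card_codeS_wt, Finset.sum_congr rfl (g := fun _ => g n), Finset.sum_const, smul_eq_mul]
    intro c hc
    rw [(mem_filter.mp hc).2]
  simp only [hfib]
  rw [Finset.sum_insert (by decide), Finset.sum_insert (by decide), Finset.sum_insert (by decide),
    Finset.sum_insert (by decide), Finset.sum_singleton, card_words_zero, card_words8,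
    card_words12, card_words16, card_words_full]
  ring

end Cfsg.Agent.Lib.Helper9.LeechC2
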