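import Cfsg.Agent.Lib.Helper9.M24P7
import Cfsg.Agent.Lib.Helper9.M24Y1
import Cfsg.Agent.Lib.Helper9.LeechC2

set_option autoImplicit false

/-! The punctured Golay code of length 23. -/

namespace Cfsg.Agent.Lib.Helper9.GolayP1

open Cfsg Finset Cfsg.Agent.Lib.Helper9.Golay1 Cfsg.Agent.Lib.Helper9.GolayQR4
  Cfsg.Agent.Lib.Helper9.GolayQR5 Cfsg.Agent.Lib.Helper9.GolayQR6
  Cfsg.Agent.Lib.Helper9.M24N1 Cfsg.Agent.Lib.Helper9.M24P7 Cfsg.Agent.Lib.Helper9.LeechC2
open scoped Pointwise

/-- number of weight-`n` codewords through the point `p` -/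
noncomputable def cnt (n : ℕ) (p : GolayPt) : ℕ := ((wordsN n).filter (fun w => w p ≠ 0)).card

theorem cnt_eq (n : ℕ) (p : GolayPt) : cnt n p = cnt n none := by
  obtain ⟨g, hg, hmap⟩ := Cfsg.Agent.Lib.Helper9.M24Y1.exists_map_list [none] [p]
    (by simp) (by simp) rfl (by simp)
  simp only [List.map_cons, List.map_nil, List.cons.injEq, and_true] at hmap
  symm
  unfold cnt
  refine card_nbij' (fun w => act g w) (fun w => act g⁻¹ w) ?_ ?_ ?_ ?_
  · intro w hw
    rw [mem_coe, mem_filter, mem_wordsN] at hw ⊢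
    refine ⟨⟨act_mem g hg w hw.1.1, by rw [wt_act]; exact hw.1.2⟩, ?_⟩
    show w (g.symm p) ≠ 0
    rw [← hmap, Equiv.symm_apply_apply]
    exact hw.2
  · intro w hw
    rw [mem_coe, mem_filter, mem_wordsN] at hw ⊢
    refine ⟨⟨act_mem g⁻¹ (M24.inv_mem hg) w hw.1.1, by rw [wt_act]; exact hw.1.2⟩, ?_⟩
    show w ((g⁻¹).symm none) ≠ 0
    have : (g⁻¹).symm none = p := by
      rw [← hmap]; rfl
    rw [this]
    exact hw.2
  · intro w _
    funext q
    show w (g.symm ((g⁻¹).symm q)) = w q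
    congr 1
    show g.symm (g q) = q
    exact g.symm_apply_apply q
  · intro w _
    funext q
    show w ((g⁻¹).symm (g.symm q)) = w q
    congr 1
    show g (g.symm q) = q
    exact g.apply_symm_apply q

theorem sum_cnt (n : ℕ) : ∑ p : GolayPt, cnt n p = n * (wordsN n).card := by
  unfold cnt
  simp_rw [card_filter]
  rw [sum_comm]
  rw [sum_congr rfl (g := fun _ => n), sum_const, smul_eq_mul, mul_comm]
  intro w hw
  rw [← card_filter]
  exact ((mem_wordsN n w).mp hw).2

theorem cnt_mul (n : ℕ) : 24 * cnt n none = n * (wordsN n).card := by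
  rw [← sum_cnt, sum_congr rfl (fun p _ => cnt_eq n p), sum_const, smul_eq_mul, card_univ,
    card_golayPt]

theorem cnt8 : cnt 8 none = 253 := by
  have := cnt_mul 8
  rw [card_words8] at this
  omega

theorem cnt12 : cnt 12 none = 1288 := by
  have := cnt_mul 12
  rw [card_words12] at this
  omega

theorem cnt16 : cnt 16 none = 506 := by
  have := cnt_mul 16
  rw [card_words16] at this
  omega

/-- codewords of weight `n` avoiding `none` -/
noncomputable def cnt0 (n : ℕ) : ℕ := ((wordsN n).filter (fun w => w none = 0)).card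

theorem cnt_add (n : ℕ) : cnt n none + cnt0 n = (wordsN n).card := by
  unfold cnt cnt0
  have := card_filter_add_card_filter_not (s := wordsN n) (fun w => w none ≠ 0)
  simp only [not_not] at this
  exact this

theorem cnt0_8 : cnt0 8 = 506 := by
  have := cnt_add 8
  rw [cnt8, card_words8] at this
  omega

theorem cnt0_12 : cnt0 12 = 1288 := by
  have := cnt_add 12
  rw [cnt12, card_words12] at this
  omega

theorem cnt0_16 : cnt0 16 = 253 := by
  have := cnt_add 16
  rw [cnt16, card_words16] at this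
  omega

theorem words_empty (n : ℕ) (h0 : n ≠ 0) (h8 : n ≠ 8) (h12 : n ≠ 12) (h16 : n ≠ 16)
    (h24 : n ≠ 24) : wordsN n = ∅ := by
  rw [eq_empty_iff_forall_notMem]
  intro w hw
  rw [mem_wordsN] at hw
  rcases weight_values w hw.1 with h | h | h | h | h <;> omega

/-- puncturing -/
def pun (w : GolayPt → ZMod 2) : ZMod 23 → ZMod 2 := fun x => w (some x)

theorem wt_pun (w : GolayPt → ZMod 2) :
    hammingNorm w = hammingNorm (pun w) + (if w none = 0 then 0 else 1) := by
  unfold hammingNorm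
  rw [card_filter, card_filter, Fintype.sum_option, add_comm]
  congr 1
  by_cases h : w none = 0 <;> simp [h]

theorem pun_sub (w w' : GolayPt → ZMod 2) : pun (w - w') = pun w - pun w' := rfl

theorem pun_injOn : Set.InjOn pun (golayCode : Set (GolayPt → ZMod 2)) := by
  intro w hw w' hw' h
  by_contra hne
  have h1 : w - w' ≠ 0 := sub_ne_zero.mpr hne
  have h2 := min_weight (w - w') (golayCode.sub_mem hw hw') h1
  have h3 := wt_pun (w - w')
  rw [pun_sub, h, sub_self, hammingNorm_zero] at h3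
  split_ifs at h3 <;> omega

/-- the punctured code -/
def P : Set (ZMod 23 → ZMod 2) := {u | ∃ w ∈ golayCode, ∀ x : ZMod 23, u x = w (some x)}

theorem P_eq : P = pun '' (golayCode : Set (GolayPt → ZMod 2)) := by
  ext u
  constructor
  · rintro ⟨w, hw, h⟩
    exact ⟨w, hw, (funext h).symm⟩
  · rintro ⟨w, hw, rfl⟩
    exact ⟨w, hw, fun _ => rfl⟩

theorem card_P : P.ncard = 4096 := by
  classical
  rw [P_eq, Set.ncard_image_of_injOn pun_injOn]
  have := card_code
  rw [← this, ← Set.ncard_coe_finset]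
  congr 1
  ext w
  simp

theorem card_P_wt (k : ℕ) :
    {u : ZMod 23 → ZMod 2 | u ∈ P ∧ hammingNorm u = k}.ncard = cnt (k + 1) none + cnt0 k := by
  classical
  have hset : {u : ZMod 23 → ZMod 2 | u ∈ P ∧ hammingNorm u = k}
      = pun '' ((((wordsN (k + 1)).filter (fun w => w none ≠ 0)) ∪
          ((wordsN k).filter (fun w => w none = 0)) : Finset (GolayPt → ZMod 2)) :
            Set (GolayPt → ZMod 2)) := by
    ext u
    constructor
    · rintro ⟨hu, hk⟩
      rw [P_eq] at hu
      obtain ⟨w, hw, rfl⟩ := hu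
      refine ⟨w, ?_, rfl⟩
      rw [mem_coe, mem_union, mem_filter, mem_filter, mem_wordsN, mem_wordsN]
      have h3 := wt_pun w
      by_cases h0 : w none = 0
      · right
        rw [if_pos h0] at h3
        exact ⟨⟨hw, by omega⟩, h0⟩
      · left
        rw [if_neg h0] at h3
        exact ⟨⟨hw, by omega⟩, h0⟩
    · rintro ⟨w, hw, rfl⟩
      rw [mem_coe, mem_union, mem_filter, mem_filter, mem_wordsN, mem_wordsN] at hw
      have h3 := wt_pun w
      rcases hw with ⟨⟨hw, hk⟩, h0⟩ | ⟨⟨hw, hk⟩, h0⟩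
      · rw [if_neg h0] at h3
        exact ⟨by rw [P_eq]; exact ⟨w, hw, rfl⟩, by omega⟩
      · rw [if_pos h0] at h3
        exact ⟨by rw [P_eq]; exact ⟨w, hw, rfl⟩, by omega⟩
  rw [hset, Set.ncard_image_of_injOn, Set.ncard_coe_finset, card_union_of_disjoint]
  · rfl
  · rw [disjoint_left]
    intro w h1 h2
    exact (mem_filter.mp h1).2 (mem_filter.mp h2).2
  · intro w hw w' hw' h
    apply pun_injOn _ _ h
    · rw [mem_coe, mem_union, mem_filter, mem_filter, mem_wordsN, mem_wordsN] at hw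
      rcases hw with h | h <;> exact h.1.1
    · rw [mem_coe, mem_union, mem_filter, mem_filter, mem_wordsN, mem_wordsN] at hw'
      rcases hw' with h | h <;> exact h.1.1

theorem cnt_empty (n : ℕ) (h : wordsN n = ∅) : cnt n none = 0 := by
  unfold cnt; rw [h]; rfl

theorem cnt0_empty (n : ℕ) (h : wordsN n = ∅) : cnt0 n = 0 := by
  unfold cnt0; rw [h]; rfl

theorem min_wt_P (u : ZMod 23 → ZMod 2) (hu : u ∈ P) (hne : u ≠ 0) : 7 ≤ hammingNorm u := by
  rw [P_eq] at hu
  obtain ⟨w, hw, rfl⟩ := hu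
  have hw0 : w ≠ 0 := by
    rintro rfl
    exact hne rfl
  have h1 := min_weight w hw hw0
  have h3 := wt_pun w
  split_ifs at h3 <;> omega

theorem weight_dist :
    P.ncard = 4096 ∧
    {u : ZMod 23 → ZMod 2 | u ∈ P ∧ hammingNorm u = 7}.ncard = 253 ∧
    {u : ZMod 23 → ZMod 2 | u ∈ P ∧ hammingNorm u = 8}.ncard = 506 ∧
    {u : ZMod 23 → ZMod 2 | u ∈ P ∧ hammingNorm u = 11}.ncard = 1288 ∧
    {u : ZMod 23 → ZMod 2 | u ∈ P ∧ hammingNorm u = 12}.ncard = 1288 ∧
    {u : ZMod 23 → ZMod 2 | u ∈ P ∧ hammingNorm u = 15}.ncard = 506 ∧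
    {u : ZMod 23 → ZMod 2 | u ∈ P ∧ hammingNorm u = 16}.ncard = 253 ∧
    ∀ u ∈ P, u ≠ 0 → 7 ≤ hammingNorm u := by
  refine ⟨card_P, ?_, ?_, ?_, ?_, ?_, ?_, min_wt_P⟩
  · rw [card_P_wt, cnt8, cnt0_empty 7 (words_empty 7 (by omega) (by omega) (by omega) (by omega)
      (by omega))]
  · rw [card_P_wt, cnt0_8, cnt_empty 9 (words_empty 9 (by omega) (by omega) (by omega) (by omega)
      (by omega))]
  · rw [card_P_wt, cnt12, cnt0_empty 11 (words_empty 11 (by omega) (by omega) (by omega)
      (by omega) (by omega))]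
  · rw [card_P_wt, cnt0_12, cnt_empty 13 (words_empty 13 (by omega) (by omega) (by omega)
      (by omega) (by omega))]
  · rw [card_P_wt, cnt16, cnt0_empty 15 (words_empty 15 (by omega) (by omega) (by omega)
      (by omega) (by omega))]
  · rw [card_P_wt, cnt0_16, cnt_empty 17 (words_empty 17 (by omega) (by omega) (by omega)
      (by omega) (by omega))]

end Cfsg.Agent.Lib.Helper9.GolayP1
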