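import Cfsg.Agent.Lib.Helper9.GolayP1
import Cfsg.Agent.Lib.Helper9.GolayG2

set_option autoImplicit false

/-! The punctured Golay code is perfect. -/

namespace Cfsg.Agent.Lib.Helper9.GolayP2

open Cfsg Finset Cfsg.Agent.Lib.Helper9.Golay1 Cfsg.Agent.Lib.Helper9.GolayQR4
  Cfsg.Agent.Lib.Helper9.GolayQR5 Cfsg.Agent.Lib.Helper9.GolayQR6
  Cfsg.Agent.Lib.Helper9.GolayP1 Cfsg.Agent.Lib.Helper9.GolayG2

theorem P_sub (c c' : ZMod 23 → ZMod 2) (hc : c ∈ P) (hc' : c' ∈ P) : c - c' ∈ P := by
  rw [P_eq] at hc hc' ⊢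
  obtain ⟨w, hw, rfl⟩ := hc
  obtain ⟨w', hw', rfl⟩ := hc'
  exact ⟨w - w', golayCode.sub_mem hw hw', rfl⟩

theorem wt_pun_le (v : GolayPt → ZMod 2) : hammingNorm (pun v) ≤ hammingNorm v := by
  have := wt_pun v
  omega

theorem exists_close (u : ZMod 23 → ZMod 2) : ∃ c ∈ P, hammingDist u c ≤ 3 := by
  classical
  set w : GolayPt → ZMod 2 := fun p => p.elim 0 u with hw
  have hpw : pun w = u := rfl
  have key : ∀ v : GolayPt → ZMod 2, v - w ∈ golayCode → hammingNorm (pun v) ≤ 3 →
      ∃ c ∈ P, hammingDist u c ≤ 3 := by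
    intro v hv h3
    refine ⟨pun (w - v), ?_, ?_⟩
    · rw [P_eq]
      refine ⟨w - v, ?_, rfl⟩
      have := golayCode.neg_mem hv
      rwa [neg_sub] at this
    · rw [hammingDist_eq_hammingNorm, pun_sub, hpw]
      have : -u + (u - pun v) = -(pun v) := by abel
      have hneg : -(pun v) = pun v := funext fun i => ZMod.neg_eq_self_mod_two _
      rw [this, hneg]
      exact h3
  rcases fib_cases card_golayPt golayCode finrank_golayCode min_weight w with
    ⟨v, hv, h3⟩ | ⟨h6, h⟩
  · have hmem : v ∈ fib golayCode w := by rw [hv]; exact mem_singleton_self v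
    exact key v ((mem_fib golayCode w v).mp hmem).1 ((wt_pun_le v).trans h3)
  · -- six tetrads covering all points
    have hcard : ((fib golayCode w).biUnion supp).card = 24 := by
      rw [card_biUnion]
      · rw [sum_congr rfl (g := fun _ => 4), sum_const, smul_eq_mul, h6]
        intro v hv
        rw [← wt_eq]
        exact (h v hv).1
      · intro v hv v' hv' hne
        exact (h v hv).2 v' hv' hne
    have huniv : (fib golayCode w).biUnion supp = univ := by
      apply eq_univ_of_card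
      rw [hcard, card_golayPt]
    have hnone : (none : GolayPt) ∈ (fib golayCode w).biUnion supp := by
      rw [huniv]; exact mem_univ _
    obtain ⟨v, hv, hvn⟩ := mem_biUnion.mp hnone
    have h4 := (h v hv).1
    have hn0 : v none ≠ 0 := mem_supp.mp hvn
    have h3 := wt_pun v
    rw [if_neg hn0] at h3
    exact key v ((mem_fib golayCode w v).mp hv).1 (by omega)

theorem perfect (u : ZMod 23 → ZMod 2) :
    ∃! c : ZMod 23 → ZMod 2, c ∈ P ∧ hammingDist u c ≤ 3 := by
  obtain ⟨c, hc, hd⟩ := exists_close u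
  refine ⟨c, ⟨hc, hd⟩, ?_⟩
  rintro c' ⟨hc', hd'⟩
  by_contra hne
  have h1 : -c' + c ≠ 0 := by
    rw [neg_add_eq_sub]
    exact sub_ne_zero.mpr (Ne.symm hne)
  have h2 := min_wt_P (-c' + c) (by rw [neg_add_eq_sub]; exact P_sub c c' hc hc') h1
  have h3 : hammingDist c' c ≤ hammingDist c' u + hammingDist u c := hammingDist_triangle c' u c
  rw [hammingDist_comm c' u] at h3
  rw [← hammingDist_eq_hammingNorm] at h2
  omega

end Cfsg.Agent.Lib.Helper9.GolayP2
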