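import Cfsg.Agent.Lib.Helper9.GolayQR1

set_option autoImplicit false

namespace Cfsg.Agent.Lib.Helper9.GolayQR2

open Cfsg Cfsg.Agent.Lib.Helper9.GolayQR1

/-- masks of a systematic basis (pivot of the `i`-th word at bit `12 + i`) -/
def bmask (i : Fin 12) : ℕ :=
  [5279, 10558, 18147, 36294, 69395, 133817, 262637, 525274, 1050548, 2101096, 4196943,
    8391797].getD i.val 0

/-- select a mask by a Boolean -/
def sel (a : Bool) (m : ℕ) : ℕ := bif a then m else 0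

/-- the mask of the codeword with given systematic coordinates -/
def m12 (a0 a1 a2 a3 a4 a5 a6 a7 a8 a9 a10 a11 : Bool) : ℕ :=
  sel a0 5279 ^^^ (sel a1 10558 ^^^ (sel a2 18147 ^^^ (sel a3 36294 ^^^ (sel a4 69395 ^^^
  (sel a5 133817 ^^^ (sel a6 262637 ^^^ (sel a7 525274 ^^^ (sel a8 1050548 ^^^
  (sel a9 2101096 ^^^ (sel a10 4196943 ^^^ sel a11 8391797))))))))))

theorem wt_check : ∀ a0 a1 a2 a3 a4 a5 a6 a7 a8 a9 a10 a11 : Bool,
    (a0 || a1 || a2 || a3 || a4 || a5 || a6 || a7 || a8 || a9 || a10 || a11) = false ∨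
      8 ≤ wt24 (m12 a0 a1 a2 a3 a4 a5 a6 a7 a8 a9 a10 a11) := by
  decide +kernel

theorem wt_values : ∀ a0 a1 a2 a3 a4 a5 a6 a7 a8 a9 a10 a11 : Bool,
    wt24 (m12 a0 a1 a2 a3 a4 a5 a6 a7 a8 a9 a10 a11) ∈ [0, 8, 12, 16, 24] := by
  decide +kernel

/-- the Boolean attached to a scalar -/
def bit (c : ZMod 2) : Bool := decide (c = 1)

theorem smul_dec (c : ZMod 2) (m : ℕ) : c • dec m = dec (sel (bit c) m) := by
  have h : c = 0 ∨ c = 1 := by revert c; decide
  rcases h with rfl | rfl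
  · rw [zero_smul]
    exact dec_zero.symm
  · rw [one_smul]
    rfl

/-- the basis words -/
def bw (i : Fin 12) : GolayPt → ZMod 2 := dec (bmask i)

theorem sum_eq_dec (g : Fin 12 → ZMod 2) :
    ∑ i, g i • bw i = dec (m12 (bit (g 0)) (bit (g 1)) (bit (g 2)) (bit (g 3)) (bit (g 4))
      (bit (g 5)) (bit (g 6)) (bit (g 7)) (bit (g 8)) (bit (g 9)) (bit (g 10)) (bit (g 11))) := by
  simp only [Fin.sum_univ_succ, Fin.sum_univ_zero, add_zero, bw, smul_dec, ← dec_xor]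
  rfl

end Cfsg.Agent.Lib.Helper9.GolayQR2
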