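import Cfsg.Agent.Lib.Helper9.GolayQR2

set_option autoImplicit false

namespace Cfsg.Agent.Lib.Helper9.GolayQR3

open Cfsg Cfsg.Agent.Lib.Helper9.GolayQR1 Cfsg.Agent.Lib.Helper9.GolayQR2

/-- systematic coordinates of a mask -/
def coordsOf (m : ℕ) : Fin 12 → ZMod 2 := fun i => if m.testBit (12 + i.val) then 1 else 0

theorem bit_coordsOf (m : ℕ) (i : Fin 12) : bit (coordsOf m i) = m.testBit (12 + i.val) := by
  unfold bit coordsOf
  cases m.testBit (12 + i.val) <;> decide

/-- membership test for masks: a mask is in the code iff it is reproduced from its systematic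
coordinates -/
def reprod (m : ℕ) : ℕ :=
  m12 (m.testBit 12) (m.testBit 13) (m.testBit 14) (m.testBit 15) (m.testBit 16) (m.testBit 17)
    (m.testBit 18) (m.testBit 19) (m.testBit 20) (m.testBit 21) (m.testBit 22) (m.testBit 23)

theorem dec_mem_span_of_reprod (m : ℕ) (h : reprod m = m) :
    dec m ∈ Submodule.span (ZMod 2) (Set.range bw) := by
  have h1 := sum_eq_dec (coordsOf m)
  simp only [bit_coordsOf] at h1
  have h2 : dec m = ∑ i, coordsOf m i • bw i := by
    rw [h1]
    conv_lhs => rw [← h]
    rfl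
  rw [h2]
  exact Submodule.sum_mem _ fun i _ =>
    Submodule.smul_mem _ _ (Submodule.subset_span (Set.mem_range_self i))

theorem qr_reprod : ∀ t : ZMod 23, reprod (qrMask t) = qrMask t := by decide +kernel

theorem ones_reprod : reprod 16777215 = 16777215 := by decide +kernel

/-- the basis masks as combinations of the generators -/
def bcomb (i : Fin 12) : List (ZMod 23) × Bool :=
  [([0, 3, 4, 6, 8], false), ([1, 4, 5, 7, 9], false), ([0, 2, 3, 4, 5, 10], false),
    ([0, 3, 4, 7, 9], false), ([0, 1, 3, 5, 6, 10], false), ([2, 3, 5, 6, 8, 9], false),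
    ([0, 7, 8, 9, 10], false), ([0, 5, 6, 7, 8, 10], false), ([0, 5, 8], false),
    ([1, 6, 9], false), ([0, 2, 3, 4, 6, 7, 8, 10], false),
    ([1, 2, 4, 7, 9, 10], true)].getD i.val ([], false)

theorem bmask_comb : ∀ i : Fin 12,
    bmask i = (bcomb i).1.foldr (fun t acc => qrMask t ^^^ acc) (sel (bcomb i).2 16777215) := by
  decide +kernel

theorem dec_foldr_mem (L : List (ZMod 23)) (m0 : ℕ) (h0 : dec m0 ∈ golayCode) :
    dec (L.foldr (fun t acc => qrMask t ^^^ acc) m0) ∈ golayCode := by
  induction L with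
  | nil => exact h0
  | cons t L ih =>
    rw [List.foldr_cons, dec_xor]
    refine Submodule.add_mem _ ?_ ih
    rw [← qrWord_eq]
    exact Submodule.subset_span (Or.inl (Set.mem_range_self t))

theorem bw_mem (i : Fin 12) : bw i ∈ golayCode := by
  unfold bw
  rw [bmask_comb i]
  apply dec_foldr_mem
  cases (bcomb i).2
  · exact (dec_zero ▸ Submodule.zero_mem _ : dec 0 ∈ golayCode)
  · change dec 16777215 ∈ golayCode
    rw [← one_eq]
    exact Submodule.subset_span (Or.inr rfl)

theorem golayCode_eq_span : golayCode = Submodule.span (ZMod 2) (Set.range bw) := by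
  apply le_antisymm
  · unfold golayCode
    rw [Submodule.span_le]
    rintro w (⟨t, rfl⟩ | hw)
    · rw [qrWord_eq]
      exact dec_mem_span_of_reprod _ (qr_reprod t)
    · rw [Set.mem_singleton_iff] at hw
      rw [hw, one_eq]
      exact dec_mem_span_of_reprod _ ones_reprod
  · rw [Submodule.span_le]
    rintro w ⟨i, rfl⟩
    exact bw_mem i

end Cfsg.Agent.Lib.Helper9.GolayQR3
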