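import Cfsg.Agent.Lib.Helper9.GolayQR6
import Cfsg.Agent.Lib.Helper9.GolayG7

set_option autoImplicit false

namespace Cfsg.Agent.Lib.Helper9.GolayQR7

open Cfsg Finset Cfsg.Agent.Lib.Helper9.Golay1 Cfsg.Agent.Lib.Helper9.GolayQR4
  Cfsg.Agent.Lib.Helper9.GolayQR5 Cfsg.Agent.Lib.Helper9.GolayQR6

theorem self_orth' : ∀ v ∈ golayCode, ∀ w ∈ golayCode, ∑ i, v i * w i = 0 :=
  fun v hv w hw => self_orth v w hv hw

/-- an octad is the support of a codeword of weight 8 -/
theorem octad_word (o : Finset GolayPt) (ho : o ∈ octads) :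
    ∃ c ∈ golayCode, hammingNorm c = 8 ∧ supp c = o := by
  obtain ⟨⟨c, hc, rfl⟩, h8⟩ := ho
  refine ⟨c, hc, ?_, supp_eq_support₂ c⟩
  rw [wt_eq, supp_eq_support₂]
  exact h8

theorem word_octad (c : GolayPt → ZMod 2) (hc : c ∈ golayCode) (h8 : hammingNorm c = 8) :
    supp c ∈ octads := by
  refine ⟨⟨c, hc, (supp_eq_support₂ c).symm⟩, ?_⟩
  rw [← wt_eq]
  exact h8

theorem adj_iff (a b : octads) :
    (blockGraph octads).Adj a b ↔ a ≠ b ∧ Disjoint (a : Finset GolayPt) (b : Finset GolayPt) := by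
  unfold blockGraph
  rw [SimpleGraph.fromRel_adj]
  constructor
  · rintro ⟨h1, h2 | h2⟩
    · exact ⟨h1, h2⟩
    · exact ⟨h1, h2.symm⟩
  · rintro ⟨h1, h2⟩
    exact ⟨h1, Or.inl h2⟩

theorem dist_cases (a b : octads) (hne : a ≠ b) :
    (((a : Finset GolayPt) ∩ b).card = 0 ∧ (blockGraph octads).dist a b = 1) ∨
    (((a : Finset GolayPt) ∩ b).card = 4 ∧ (blockGraph octads).dist a b = 2) ∨
    (((a : Finset GolayPt) ∩ b).card = 2 ∧ (blockGraph octads).dist a b = 3) := by
  obtain ⟨ca, hca, hca8, hcas⟩ := octad_word a.1 a.2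
  obtain ⟨cb, hcb, hcb8, hcbs⟩ := octad_word b.1 b.2
  have hcne : ca ≠ cb := by
    intro h
    apply hne
    apply Subtype.ext
    rw [← hcas, ← hcbs, h]
  rcases Cfsg.Agent.Lib.Helper9.GolayG6.octad_inter golayCode self_orth' min_weight ca cb hca hcb
    hca8 hcb8 hcne with h0 | h2 | h4
  · left
    rw [hcas, hcbs] at h0
    refine ⟨h0, ?_⟩
    rw [SimpleGraph.dist_eq_one_iff_adj, adj_iff]
    refine ⟨hne, ?_⟩
    rw [disjoint_iff_inter_eq_empty]
    exact card_eq_zero.mp h0
  · right; right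
    have h2' := h2
    rw [hcas, hcbs] at h2'
    refine ⟨h2', ?_⟩
    have hnadj : ¬(blockGraph octads).Adj a b := by
      rw [adj_iff]
      rintro ⟨-, hd⟩
      rw [disjoint_iff_inter_eq_empty] at hd
      rw [hd, card_empty] at h2'
      omega
    have hnocommon : (blockGraph octads).commonNeighbors a b = ∅ := by
      rw [Set.eq_empty_iff_forall_notMem]
      intro x hx
      rw [SimpleGraph.mem_commonNeighbors, adj_iff, adj_iff] at hx
      obtain ⟨cx, hcx, hcx8, hcxs⟩ := octad_word x.1 x.2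
      refine Cfsg.Agent.Lib.Helper9.GolayG6.no_common_disjoint card_golayPt golayCode min_weight
        one_mem ca cb cx hca hcb hcx hca8 hcb8 hcx8 h2 ?_ ?_
      · rw [hcxs, hcas]
        exact hx.1.2.symm
      · rw [hcxs, hcbs]
        exact hx.2.2.symm
    have hlt : 2 < (blockGraph octads).edist a b :=
      SimpleGraph.two_lt_edist_iff.mpr ⟨hne, hnadj, hnocommon⟩
    obtain ⟨c₁, hc₁, c₂, hc₂, hc₁8, hc₂8, hd1, hd2, hd3⟩ :=
      Cfsg.Agent.Lib.Helper9.GolayG7.exists_path_three card_golayPt golayCode finrank_golayCode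
        self_orth' min_weight ca cb hca hcb hca8 hcb8 h2
    obtain ⟨x1, hx1⟩ : ∃ x1 : octads, (x1 : Finset GolayPt) = supp c₁ :=
      ⟨⟨supp c₁, word_octad c₁ hc₁ hc₁8⟩, rfl⟩
    obtain ⟨x2, hx2⟩ : ∃ x2 : octads, (x2 : Finset GolayPt) = supp c₂ :=
      ⟨⟨supp c₂, word_octad c₂ hc₂ hc₂8⟩, rfl⟩
    have hne_of_disj : ∀ u v : octads, Disjoint (u : Finset GolayPt) (v : Finset GolayPt) →
        u ≠ v := by
      intro u v hd huv
      rw [huv, disjoint_self] at hd
      have := (v.2).2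
      rw [show (v : Finset GolayPt) = ⊥ from hd] at this
      simp at this
    have a1 : (blockGraph octads).Adj a x1 := by
      rw [adj_iff]
      have : Disjoint (a : Finset GolayPt) (x1 : Finset GolayPt) := by
        rw [hx1, ← hcas]; exact hd1
      exact ⟨hne_of_disj _ _ this, this⟩
    have a2 : (blockGraph octads).Adj x1 x2 := by
      rw [adj_iff]
      have : Disjoint (x1 : Finset GolayPt) (x2 : Finset GolayPt) := by
        rw [hx1, hx2]; exact hd2
      exact ⟨hne_of_disj _ _ this, this⟩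
    have a3 : (blockGraph octads).Adj x2 b := by
      rw [adj_iff]
      have : Disjoint (x2 : Finset GolayPt) (b : Finset GolayPt) := by
        rw [hx2, ← hcbs]; exact hd3
      exact ⟨hne_of_disj _ _ this, this⟩
    have hle : (blockGraph octads).edist a b ≤ 3 := by
      have := SimpleGraph.edist_le
        (SimpleGraph.Walk.cons a1 (SimpleGraph.Walk.cons a2 (SimpleGraph.Walk.cons a3
          SimpleGraph.Walk.nil)))
      simpa using this
    have h3 : (blockGraph octads).edist a b = 3 := by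
      apply le_antisymm hle
      have := Order.add_one_le_of_lt hlt
      have e : (2 : ℕ∞) + 1 = 3 := by norm_num
      rwa [e] at this
    unfold SimpleGraph.dist
    rw [h3]
    rfl
  · right; left
    have h4' := h4
    rw [hcas, hcbs] at h4'
    refine ⟨h4', ?_⟩
    have hnadj : ¬(blockGraph octads).Adj a b := by
      rw [adj_iff]
      rintro ⟨-, hd⟩
      rw [disjoint_iff_inter_eq_empty] at hd
      rw [hd, card_empty] at h4'
      omega
    obtain ⟨cx, hcx, hcx8, hdx1, hdx2⟩ :=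
      Cfsg.Agent.Lib.Helper9.GolayG6.exists_common_disjoint card_golayPt golayCode
        finrank_golayCode min_weight ca cb hca hcb hca8 hcb8 h4
    obtain ⟨x, hx⟩ : ∃ x : octads, (x : Finset GolayPt) = supp cx :=
      ⟨⟨supp cx, word_octad cx hcx hcx8⟩, rfl⟩
    have hne_of_disj : ∀ u v : octads, Disjoint (u : Finset GolayPt) (v : Finset GolayPt) →
        u ≠ v := by
      intro u v hd huv
      rw [huv, disjoint_self] at hd
      have := (v.2).2
      rw [show (v : Finset GolayPt) = ⊥ from hd] at this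
      simp at this
    have hcommon : ((blockGraph octads).commonNeighbors a b).Nonempty := by
      refine ⟨x, ?_⟩
      rw [SimpleGraph.mem_commonNeighbors, adj_iff, adj_iff]
      have d1 : Disjoint (a : Finset GolayPt) (x : Finset GolayPt) := by
        rw [hx, ← hcas]; exact hdx1.symm
      have d2 : Disjoint (b : Finset GolayPt) (x : Finset GolayPt) := by
        rw [hx, ← hcbs]; exact hdx2.symm
      exact ⟨⟨hne_of_disj _ _ d1, d1⟩, ⟨hne_of_disj _ _ d2, d2⟩⟩
    have h2e : (blockGraph octads).edist a b = 2 :=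
      SimpleGraph.edist_eq_two_iff.mpr ⟨hne, hnadj, hcommon⟩
    unfold SimpleGraph.dist
    rw [h2e]
    rfl

theorem octad_graph_preconnected : (blockGraph octads).Preconnected := by
  intro a b
  by_cases hab : a = b
  · rw [hab]
  · apply SimpleGraph.Reachable.of_dist_ne_zero
    rcases dist_cases a b hab with ⟨-, h⟩ | ⟨-, h⟩ | ⟨-, h⟩ <;> rw [h] <;> norm_num

theorem octad_graph (o o' : Finset GolayPt) (ho : o ∈ octads) (ho' : o' ∈ octads) (hne : o ≠ o') :
    (blockGraph octads).Connected ∧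
    ((blockGraph octads).dist ⟨o, ho⟩ ⟨o', ho'⟩ = 1 ↔ (o ∩ o').card = 0) ∧
    ((blockGraph octads).dist ⟨o, ho⟩ ⟨o', ho'⟩ = 2 ↔ (o ∩ o').card = 4) ∧
    ((blockGraph octads).dist ⟨o, ho⟩ ⟨o', ho'⟩ = 3 ↔ (o ∩ o').card = 2) := by
  refine ⟨(SimpleGraph.connected_iff _).mpr ⟨octad_graph_preconnected, ⟨⟨o, ho⟩⟩⟩, ?_⟩
  have hne' : (⟨o, ho⟩ : octads) ≠ ⟨o', ho'⟩ := fun h => hne (congrArg Subtype.val h)
  rcases dist_cases ⟨o, ho⟩ ⟨o', ho'⟩ hne' with ⟨h1, h2⟩ | ⟨h1, h2⟩ | ⟨h1, h2⟩
  · simp only at h1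
    rw [h1, h2]
    norm_num
  · simp only at h1
    rw [h1, h2]
    norm_num
  · simp only at h1
    rw [h1, h2]
    norm_num

end Cfsg.Agent.Lib.Helper9.GolayQR7
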