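import Cfsg.Agent.Lib.Helper9.GolayQR8
import Cfsg.Prelude.Def_SporadicCombinatorics

set_option autoImplicit false

namespace Cfsg.Agent.Lib.Helper9.GolaySextet1

open Cfsg Finset Cfsg.Agent.Lib.Helper9.Golay1 Cfsg.Agent.Lib.Helper9.GolayQR4
  Cfsg.Agent.Lib.Helper9.GolayQR5 Cfsg.Agent.Lib.Helper9.GolayQR6
  Cfsg.Agent.Lib.Helper9.GolayQR7 Cfsg.Agent.Lib.Helper9.GolayG2
  Cfsg.Agent.Lib.Helper9.GolayG5

/-- the sextet determined by a tetrad -/
noncomputable def sextetOf (t : Finset GolayPt) : Finset (Finset GolayPt) :=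
  (fib golayCode (ind t)).image supp

theorem sextetOf_struct (t : Finset GolayPt) (ht : t.card = 4) :
    t ∈ sextetOf t ∧ (sextetOf t).card = 6 ∧ (∀ u ∈ sextetOf t, u.card = 4) ∧
    (∀ u ∈ sextetOf t, ∀ u' ∈ sextetOf t, u ≠ u' → Disjoint u u' ∧ u ∪ u' ∈ octads) := by
  obtain ⟨h1, h2, h3, h4, h5⟩ := sextet_struct card_golayPt golayCode finrank_golayCode
    min_weight t ht
  refine ⟨?_, ?_, ?_, ?_⟩
  · unfold sextetOf
    rw [mem_image]
    exact ⟨ind t, h1, supp_ind t⟩
  · unfold sextetOf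
    rw [card_image_of_injective _ supp_injective, h2]
  · intro u hu
    unfold sextetOf at hu
    obtain ⟨v, hv, rfl⟩ := mem_image.mp hu
    rw [← wt_eq, h3 v hv]
  · intro u hu u' hu' hne
    unfold sextetOf at hu hu'
    obtain ⟨v, hv, rfl⟩ := mem_image.mp hu
    obtain ⟨v', hv', rfl⟩ := mem_image.mp hu'
    have hne' : v ≠ v' := fun h => hne (by rw [h])
    have hd := h4 v hv v' hv' hne'
    refine ⟨hd, ?_⟩
    rw [← supp_add_of_disjoint v v' hd]
    have hmem0 := @fib_add_mem GolayPt _ _ golayCode (ind t) v v'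
    have hmem : v + v' ∈ golayCode := hmem0 hv hv'
    apply word_octad _ hmem
    have e1 := wt_add_of_disjoint v v' hd
    have e2 := h3 v hv
    have e3 := h3 v' hv'
    omega

theorem sextetOf_mem (t : Finset GolayPt) (ht : t.card = 4) : sextetOf t ∈ sextets := by
  obtain ⟨-, h2, h3, h4⟩ := sextetOf_struct t ht
  exact ⟨h2, h3, fun u hu u' hu' hne => (h4 u hu u' hu' hne).2⟩

theorem sextet_eq (S : Finset (Finset GolayPt)) (hS : S ∈ sextets) (t : Finset GolayPt)
    (ht : t ∈ S) : S = sextetOf t := by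
  obtain ⟨h6, h4, hoct⟩ := hS
  have ht4 : t.card = 4 := h4 t ht
  obtain ⟨k1, k2, -, -⟩ := sextetOf_struct t ht4
  apply eq_of_subset_of_card_le
  · intro u hu
    by_cases hut : u = t
    · rw [hut]; exact k1
    · have ho := hoct t ht u hu (fun h => hut h.symm)
      obtain ⟨c, hc, hc8, hcs⟩ := octad_word _ ho
      have hu4 := h4 u hu
      have hcard : (t ∪ u).card = 8 := by rw [← hcs, ← wt_eq, hc8]
      have hdisj : Disjoint t u := by
        rw [disjoint_iff_inter_eq_empty, ← card_eq_zero]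
        have := card_union_add_card_inter t u
        omega
      obtain ⟨m1, m2⟩ := octad_sub_mem_fib golayCode t c hc hc8 ht4
        (by rw [hcs]; exact subset_union_left)
      unfold sextetOf
      rw [mem_image]
      refine ⟨c + ind t, m1, ?_⟩
      rw [m2, hcs, union_sdiff_left]
      exact sdiff_eq_self_of_disjoint hdisj.symm
  · rw [k2, h6]

theorem unique_sextet (t : Finset GolayPt) (ht : t.card = 4) :
    ∃! S : Finset (Finset GolayPt), S ∈ sextets ∧ t ∈ S := by
  refine ⟨sextetOf t, ⟨sextetOf_mem t ht, (sextetOf_struct t ht).1⟩, ?_⟩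
  rintro S ⟨hS, htS⟩
  exact sextet_eq S hS t htS

theorem card_sextets : sextets.ncard = 1771 := by
  classical
  obtain ⟨Sx, hSx⟩ : ∃ Sx : Finset (Finset (Finset GolayPt)), (Sx : Set _) = sextets :=
    ⟨sextets.toFinset, Set.coe_toFinset _⟩
  have hmem : ∀ S, S ∈ Sx ↔ S ∈ sextets := fun S => by rw [← hSx]; exact Iff.rfl
  rw [← hSx, Set.ncard_coe_finset]
  have key := sum_card_bipartiteAbove_eq_sum_card_bipartiteBelow
    (s := powersetCard 4 (univ : Finset GolayPt)) (t := Sx) (fun t S => t ∈ S)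
  have h1 : ∀ t ∈ powersetCard 4 (univ : Finset GolayPt),
      (bipartiteAbove (fun t S => t ∈ S) Sx t).card = 1 := by
    intro t ht
    have ht4 : t.card = 4 := (mem_powersetCard.mp ht).2
    rw [card_eq_one]
    refine ⟨sextetOf t, ?_⟩
    ext S
    rw [mem_bipartiteAbove, mem_singleton, hmem]
    constructor
    · rintro ⟨hS, htS⟩
      exact sextet_eq S hS t htS
    · rintro rfl
      exact ⟨sextetOf_mem t ht4, (sextetOf_struct t ht4).1⟩
  have h2 : ∀ S ∈ Sx, (bipartiteBelow (fun t S => t ∈ S)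
      (powersetCard 4 (univ : Finset GolayPt)) S).card = 6 := by
    intro S hS
    have hS' := (hmem S).mp hS
    have : bipartiteBelow (fun t S => t ∈ S) (powersetCard 4 (univ : Finset GolayPt)) S = S := by
      ext t
      rw [mem_bipartiteBelow, mem_powersetCard]
      constructor
      · exact fun h => h.2
      · exact fun h => ⟨⟨subset_univ _, hS'.2.1 t h⟩, h⟩
    rw [this, hS'.1]
  rw [sum_congr rfl h1, sum_congr rfl h2, sum_const, sum_const, card_powersetCard, card_univ,
    card_golayPt, smul_eq_mul, smul_eq_mul] at key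
  have : Nat.choose 24 4 = 10626 := by decide
  omega

end Cfsg.Agent.Lib.Helper9.GolaySextet1
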