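import Cfsg.Agent.Lib.Helper9.GolayQR8
import Cfsg.Prelude.Def_SporadicCombinatorics

set_option autoImplicit false

namespace Cfsg.Agent.Lib.Helper9.GolayTrio1

open Cfsg Finset Cfsg.Agent.Lib.Helper9.Golay1 Cfsg.Agent.Lib.Helper9.GolayQR4
  Cfsg.Agent.Lib.Helper9.GolayQR5 Cfsg.Agent.Lib.Helper9.GolayQR6
  Cfsg.Agent.Lib.Helper9.GolayQR7 Cfsg.Agent.Lib.Helper9.GolayG5

theorem supp_add_one (c : GolayPt → ZMod 2) : supp (c + 1) = (supp c)ᶜ := by
  ext i
  rw [mem_compl, mem_supp, mem_supp, Pi.add_apply, Pi.one_apply]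
  rcases zmod2_cases (c i) with h | h <;> rw [h] <;> decide

theorem octad_card (o : Finset GolayPt) (ho : o ∈ octads) : o.card = 8 := ho.2

/-- the complement of two disjoint octads is an octad -/
theorem compl_union_mem (o o' : Finset GolayPt) (ho : o ∈ octads) (ho' : o' ∈ octads)
    (hd : Disjoint o o') : (o ∪ o')ᶜ ∈ octads := by
  obtain ⟨c, hc, hc8, rfl⟩ := octad_word o ho
  obtain ⟨c', hc', hc8', rfl⟩ := octad_word o' ho'
  rw [← supp_add_of_disjoint c c' hd, ← supp_add_one]
  apply word_octad _ (golayCode.add_mem (golayCode.add_mem hc hc') one_mem)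
  have h1 := wt_add_one (c + c')
  have h2 := wt_add_of_disjoint c c' hd
  omega

theorem compl_union_disjoint (o o' : Finset GolayPt) :
    Disjoint o (o ∪ o')ᶜ ∧ Disjoint o' (o ∪ o')ᶜ := by
  constructor
  · rw [disjoint_left]
    intro x hx hx'
    exact (mem_compl.mp hx') (mem_union_left _ hx)
  · rw [disjoint_left]
    intro x hx hx'
    exact (mem_compl.mp hx') (mem_union_right _ hx)

theorem ne_of_disjoint_octad (o o' : Finset GolayPt) (ho : o ∈ octads) (hd : Disjoint o o') :
    o ≠ o' := by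
  rintro rfl
  rw [disjoint_self] at hd
  have := octad_card o ho
  rw [hd] at this
  simp at this

/-- the trio determined by two disjoint octads -/
def trioOf (o o' : Finset GolayPt) : Finset (Finset GolayPt) := {o, o', (o ∪ o')ᶜ}

theorem trioOf_mem (o o' : Finset GolayPt) (ho : o ∈ octads) (ho' : o' ∈ octads)
    (hd : Disjoint o o') : trioOf o o' ∈ trios := by
  have h3 := compl_union_mem o o' ho ho' hd
  obtain ⟨d1, d2⟩ := compl_union_disjoint o o'
  have n1 := ne_of_disjoint_octad o o' ho hd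
  have n2 := ne_of_disjoint_octad o _ ho d1
  have n3 := ne_of_disjoint_octad o' _ ho' d2
  refine ⟨?_, ?_, ?_⟩
  · unfold trioOf
    rw [card_insert_of_notMem, card_insert_of_notMem, card_singleton]
    · rw [mem_singleton]; exact n3
    · rw [mem_insert, mem_singleton]
      rintro (h | h)
      · exact n1 h
      · exact n2 h
  · intro x hx
    unfold trioOf at hx
    rw [mem_insert, mem_insert, mem_singleton] at hx
    rcases hx with rfl | rfl | rfl
    · exact ho
    · exact ho'
    · exact h3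
  · intro x hx y hy hne
    unfold trioOf at hx hy
    rw [mem_insert, mem_insert, mem_singleton] at hx hy
    rcases hx with rfl | rfl | rfl <;> rcases hy with rfl | rfl | rfl
    · exact absurd rfl hne
    · exact hd
    · exact d1
    · exact hd.symm
    · exact absurd rfl hne
    · exact d2
    · exact d1.symm
    · exact d2.symm
    · exact absurd rfl hne

theorem trio_eq (T : Finset (Finset GolayPt)) (hT : T ∈ trios) (o o' : Finset GolayPt)
    (ho : o ∈ T) (ho' : o' ∈ T) (hne : o ≠ o') : T = trioOf o o' := by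
  obtain ⟨h3, hoct, hdisj⟩ := hT
  have hd := hdisj o ho o' ho' hne
  have hT' := trioOf_mem o o' (hoct o ho) (hoct o' ho') hd
  apply eq_of_subset_of_card_le
  · intro x hx
    unfold trioOf
    rw [mem_insert, mem_insert, mem_singleton]
    by_cases h1 : x = o
    · exact Or.inl h1
    by_cases h2 : x = o'
    · exact Or.inr (Or.inl h2)
    right; right
    have d1 := hdisj x hx o ho h1
    have d2 := hdisj x hx o' ho' h2
    apply eq_of_subset_of_card_le
    · intro i hi
      rw [mem_compl, mem_union]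
      rintro (h | h)
      · exact disjoint_left.mp d1 hi h
      · exact disjoint_left.mp d2 hi h
    · rw [octad_card _ (hoct x hx), octad_card _ (compl_union_mem o o' (hoct o ho) (hoct o' ho') hd)]
  · rw [hT'.1, h3]

theorem card_trios : trios.ncard = 3795 := by
  classical
  obtain ⟨Tx, hTx⟩ : ∃ Tx : Finset (Finset (Finset GolayPt)), (Tx : Set _) = trios :=
    ⟨trios.toFinset, Set.coe_toFinset _⟩
  have hmem : ∀ T, T ∈ Tx ↔ T ∈ trios := fun T => by rw [← hTx]; exact Iff.rfl
  rw [← hTx, Set.ncard_coe_finset]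
  obtain ⟨Bf, hBf⟩ := Cfsg.Agent.Lib.Helper9.GolayQR8.exists_octads_finset
  have hBmem : ∀ o, o ∈ Bf ↔ o ∈ octads := fun o => by rw [← hBf]; exact Iff.rfl
  obtain ⟨P, hP⟩ : ∃ P, P = (Bf ×ˢ Bf).filter (fun p => Disjoint p.1 p.2) := ⟨_, rfl⟩
  have hPmem : ∀ p : Finset GolayPt × Finset GolayPt,
      p ∈ P ↔ p.1 ∈ octads ∧ p.2 ∈ octads ∧ Disjoint p.1 p.2 := by
    intro p
    rw [hP, mem_filter, mem_product, hBmem, hBmem, and_assoc]
  have hPc : P.card = 759 * 30 := by
    have h759 : Bf.card = 759 := by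
      rw [← Set.ncard_coe_finset, hBf]; exact card_octads
    rw [hP, ← h759]
    rw [card_filter, sum_product]
    rw [sum_congr rfl (g := fun _ => 30), sum_const, smul_eq_mul]
    intro b hb
    rw [← card_filter]
    have hb' : b ∈ octads := (hBmem b).mp hb
    have := Cfsg.Agent.Lib.Helper9.Steiner5.card_disjoint_blocks card_golayPt octads_isSteiner hb'
    rw [← this, ← Set.ncard_coe_finset]
    congr 1
    ext c
    rw [mem_coe, mem_filter, hBmem]
    exact Iff.rfl
  have key := sum_card_bipartiteAbove_eq_sum_card_bipartiteBelow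
    (s := P) (t := Tx) (fun p T => p.1 ∈ T ∧ p.2 ∈ T)
  have h1 : ∀ p ∈ P, (bipartiteAbove (fun (p : Finset GolayPt × Finset GolayPt) T =>
      p.1 ∈ T ∧ p.2 ∈ T) Tx p).card = 1 := by
    intro p hp
    obtain ⟨ho, ho', hd⟩ := (hPmem p).mp hp
    rw [card_eq_one]
    refine ⟨trioOf p.1 p.2, ?_⟩
    ext T
    rw [mem_bipartiteAbove, mem_singleton, hmem]
    constructor
    · rintro ⟨hT, h1, h2⟩
      exact trio_eq T hT p.1 p.2 h1 h2 (ne_of_disjoint_octad _ _ ho hd)
    · rintro rfl
      refine ⟨trioOf_mem _ _ ho ho' hd, ?_, ?_⟩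
      · unfold trioOf; exact mem_insert_self _ _
      · unfold trioOf; exact mem_insert_of_mem (mem_insert_self _ _)
  have h2 : ∀ T ∈ Tx, (bipartiteBelow (fun (p : Finset GolayPt × Finset GolayPt) T =>
      p.1 ∈ T ∧ p.2 ∈ T) P T).card = 6 := by
    intro T hT
    obtain ⟨h3, hoct, hdisj⟩ := (hmem T).mp hT
    have : bipartiteBelow (fun (p : Finset GolayPt × Finset GolayPt) T =>
        p.1 ∈ T ∧ p.2 ∈ T) P T = T.offDiag := by
      ext p
      rw [mem_bipartiteBelow, mem_offDiag, hPmem]
      constructor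
      · rintro ⟨⟨ho, ho', hd⟩, h1, h2⟩
        exact ⟨h1, h2, ne_of_disjoint_octad _ _ ho hd⟩
      · rintro ⟨h1, h2, hne⟩
        exact ⟨⟨hoct _ h1, hoct _ h2, hdisj _ h1 _ h2 hne⟩, h1, h2⟩
    rw [this, offDiag_card, h3]
  rw [sum_congr rfl h1, sum_congr rfl h2, sum_const, sum_const, hPc, smul_eq_mul,
    smul_eq_mul] at key
  omega

end Cfsg.Agent.Lib.Helper9.GolayTrio1
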