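import Mathlib

set_option autoImplicit false

/-! A group of order 72 containing `3^2` normalized by a quaternion group. -/

namespace Cfsg.Agent.Lib.Helper9.Grp72

theorem card_mult9 : Nat.card (Multiplicative (ZMod 3 × ZMod 3)) = 9 := by
  rw [Nat.card_eq_fintype_card]
  rfl

theorem cube_one : ∀ z : Multiplicative (ZMod 3 × ZMod 3), z ^ 3 = 1 := by decide

theorem struct72 {G : Type*} [Group G] [Finite G] (h72 : Nat.card G = 72)
    (φK : Multiplicative (ZMod 3 × ZMod 3) →* G) (hK : Function.Injective φK)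
    (φT : QuaternionGroup 2 →* G) (hT : Function.Injective φT)
    (hconj : ∀ q z, ∃ z', φT q * φK z * (φT q)⁻¹ = φK z') :
    (∀ Q : Sylow 3 G, (Q : Subgroup G).Normal ∧ Nat.card Q = 9 ∧
      ∀ x ∈ (Q : Subgroup G), x ^ 3 = 1) ∧
    ∀ P : Sylow 2 G, Nonempty (P ≃* QuaternionGroup 2) := by
  haveI : Fact (Nat.Prime 3) := ⟨by norm_num⟩
  haveI : Fact (Nat.Prime 2) := ⟨by norm_num⟩
  set K : Subgroup G := φK.range with hKdef
  set T : Subgroup G := φT.range with hTdef
  have hKcard : Nat.card K = 9 := by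
    rw [← card_mult9]
    exact (Nat.card_congr (MonoidHom.ofInjective hK).toEquiv).symm
  have hTcard : Nat.card T = 8 := by
    have h1 : Nat.card (QuaternionGroup 2) = 8 := by
      rw [Nat.card_eq_fintype_card, QuaternionGroup.card]
    rw [← h1]
    exact (Nat.card_congr (MonoidHom.ofInjective hT).toEquiv).symm
  have hconjK : ∀ q : QuaternionGroup 2, ∀ x ∈ K, φT q * x * (φT q)⁻¹ ∈ K := by
    rintro q x ⟨z, rfl⟩
    obtain ⟨z', hz'⟩ := hconj q z
    exact ⟨z', hz'.symm⟩
  have hTN : T ≤ Subgroup.normalizer (K : Set G) := by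
    rintro t ⟨q, rfl⟩
    rw [Subgroup.mem_set_normalizer_iff]
    intro x
    constructor
    · intro hx
      exact hconjK q x hx
    · intro hx
      have := hconjK q⁻¹ _ hx
      rw [map_inv, inv_inv] at this
      have e : (φT q)⁻¹ * (φT q * x * (φT q)⁻¹) * φT q = x := by group
      rwa [e] at this
  have hKN : K ≤ Subgroup.normalizer (K : Set G) := Subgroup.le_normalizer
  have hNtop : Subgroup.normalizer (K : Set G) = ⊤ := by
    apply Subgroup.eq_top_of_card_eq
    have h9 : 9 ∣ Nat.card (Subgroup.normalizer (K : Set G)) := by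
      rw [← hKcard]; exact Subgroup.card_dvd_of_le hKN
    have h8 : 8 ∣ Nat.card (Subgroup.normalizer (K : Set G)) := by
      rw [← hTcard]; exact Subgroup.card_dvd_of_le hTN
    have h72' : 72 ∣ Nat.card (Subgroup.normalizer (K : Set G)) :=
      (Nat.Coprime.mul_dvd_of_dvd_of_dvd (by norm_num : Nat.Coprime 9 8) h9 h8)
    have hle : Nat.card (Subgroup.normalizer (K : Set G)) ≤ Nat.card G :=
      Subgroup.card_le_card_group _
    have hpos : 0 < Nat.card (Subgroup.normalizer (K : Set G)) := Nat.card_pos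
    rw [h72] at hle ⊢
    exact le_antisymm hle (Nat.le_of_dvd hpos h72')
  have hKnormal : K.Normal := Subgroup.normalizer_eq_top_iff.mp hNtop
  have hKp : IsPGroup 3 K := IsPGroup.of_card (n := 2) (by rw [hKcard]; norm_num)
  have hTp : IsPGroup 2 T := IsPGroup.of_card (n := 3) (by rw [hTcard]; norm_num)
  -- a p-subgroup whose order is the full p-part is a Sylow subgroup
  have hsyl3 : ∀ Q : Sylow 3 G, K ≤ (Q : Subgroup G) → (Q : Subgroup G) = K := by
    intro Q hle
    symm
    apply Subgroup.eq_of_le_of_card_ge hle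
    obtain ⟨k, hk⟩ := (IsPGroup.iff_card).mp Q.isPGroup'
    have hdvd : 3 ^ k ∣ 72 := by rw [← hk, ← h72]; exact Subgroup.card_subgroup_dvd_card _
    have hk2 : k ≤ 2 := by
      by_contra hcon
      push Not at hcon
      have : 3 ^ 3 ∣ 72 := (pow_dvd_pow 3 hcon).trans hdvd
      norm_num at this
    rw [hk, hKcard]
    calc 3 ^ k ≤ 3 ^ 2 := Nat.pow_le_pow_right (by norm_num) hk2
      _ = 9 := by norm_num
  have hsyl2 : ∀ P : Sylow 2 G, T ≤ (P : Subgroup G) → (P : Subgroup G) = T := by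
    intro P hle
    symm
    apply Subgroup.eq_of_le_of_card_ge hle
    obtain ⟨k, hk⟩ := (IsPGroup.iff_card).mp P.isPGroup'
    have hdvd : 2 ^ k ∣ 72 := by rw [← hk, ← h72]; exact Subgroup.card_subgroup_dvd_card _
    have hk3 : k ≤ 3 := by
      by_contra hcon
      push Not at hcon
      have : 2 ^ 4 ∣ 72 := (pow_dvd_pow 2 hcon).trans hdvd
      norm_num at this
    rw [hk, hTcard]
    calc 2 ^ k ≤ 2 ^ 3 := Nat.pow_le_pow_right (by norm_num) hk3
      _ = 8 := by norm_num
  obtain ⟨Q0, hQ0⟩ := hKp.exists_le_sylow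
  obtain ⟨P0, hP0⟩ := hTp.exists_le_sylow
  have hQ0K := hsyl3 Q0 hQ0
  have hP0T := hsyl2 P0 hP0
  constructor
  · intro Q
    obtain ⟨g, hg⟩ := MulAction.exists_smul_eq G Q0 Q
    haveI : (Q0 : Subgroup G).Normal := by rw [hQ0K]; exact hKnormal
    have hQQ0 : Q = Q0 := by rw [← hg]; exact Sylow.smul_eq_of_normal
    have hQK : (Q : Subgroup G) = K := by rw [hQQ0]; exact hQ0K
    refine ⟨by rw [hQK]; exact hKnormal, by rw [hQK]; exact hKcard, ?_⟩
    intro x hx
    rw [hQK] at hx
    obtain ⟨z, rfl⟩ := hx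
    rw [← map_pow, cube_one, map_one]
  · intro P
    obtain ⟨g, hg⟩ := MulAction.exists_smul_eq G P0 P
    have e1 : ↥(P0 : Subgroup G) ≃* ↥((g • P0 : Sylow 2 G) : Subgroup G) := Sylow.equivSMul P0 g
    rw [hg] at e1
    have e2 : ↥(P0 : Subgroup G) ≃* ↥T := MulEquiv.subgroupCongr hP0T
    have e3 : QuaternionGroup 2 ≃* ↥T := MonoidHom.ofInjective hT
    exact ⟨e1.symm.trans (e2.trans e3.symm)⟩

end Cfsg.Agent.Lib.Helper9.Grp72
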