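import Cfsg.Agent.Lib.Helper9.Grun1

set_option autoImplicit false

namespace Cfsg.Agent.Lib.Helper9

open Cfsg Cfsg.FusionSystem

variable {Ω : Type*} [Group Ω] {S : Subgroup Ω}

theorem pow_conj_relation {P X : Subgroup Ω} (α : MulAut P) (a : MulAut X)
    (hXn : ∀ (u : P) (x : X), (u : Ω) * x * (u : Ω)⁻¹ ∈ X)
    (hrel : ∀ (u : P) (x : X) (hx : (u : Ω) * x * (u : Ω)⁻¹ ∈ X),
      ((α u : P) : Ω) * (a x : X) * ((α u : P) : Ω)⁻¹ =
        ((a ⟨(u : Ω) * x * (u : Ω)⁻¹, hx⟩ : X) : Ω)) (j : ℕ) :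
    ∀ (u : P) (x : X) (hx : (u : Ω) * x * (u : Ω)⁻¹ ∈ X),
      (((α ^ j) u : P) : Ω) * ((a ^ j) x : X) * (((α ^ j) u : P) : Ω)⁻¹ =
        (((a ^ j) ⟨(u : Ω) * x * (u : Ω)⁻¹, hx⟩ : X) : Ω) := by
  induction j with
  | zero => intro u x hx; simp
  | succ j ih =>
    intro u x hx
    rw [pow_succ', pow_succ', MulAut.mul_apply, MulAut.mul_apply, MulAut.mul_apply]
    have h1 := ih u x hx
    have hx' := hXn ((α ^ j) u) ((a ^ j) x)
    have h2 := hrel ((α ^ j) u) ((a ^ j) x) hx'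
    rw [h2]
    congr 2
    exact Subtype.ext h1

/-- Grün-type lemma, abstract form: if `hyp(F) = S`, an abelian subgroup `X` containing the
central subgroup `Z` on which all maps act trivially modulo `Z` is central. -/
theorem isCentral_of_trivial_mod_central [Finite S] (p : ℕ) [Fact p.Prime] (hS : IsPGroup p S)
    (F : FusionSystem S) (hF : F.IsSaturated p) (hhyp : F.hyperfocalSubgroup p = S)
    {Z X : Subgroup Ω} (hZ : F.IsCentral Z) (hZX : Z ≤ X) (hXS : X ≤ S)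
    (hab : ∀ a ∈ X, ∀ b ∈ X, a * b = b * a)
    (hmod : ∀ (P : Subgroup Ω) (φ : P →* Ω), φ ∈ F.Hom P → ∀ u : P, (u : Ω) ∈ X →
      (u : Ω)⁻¹ * φ u ∈ Z) : F.IsCentral X := by
  have hXsc : F.StronglyClosed X := by
    refine ⟨hXS, fun R hR φ hφ u => ?_⟩
    have h1 := hmod R φ hφ u (hR u.2)
    have h2 : φ u = (u : Ω) * ((u : Ω)⁻¹ * φ u) := by group
    rw [h2]
    exact X.mul_mem (hR u.2) (hZX h1)
  have hXn : F.IsNormal X :=
    normal_of_abelian_stronglyClosed p hS F hF X (commutator_le_bot_of_forall_comm hab) hXsc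
  have hAp : IsPGroup p (F.autGroup X) :=
    autGroup_isPGroup_of_trivial_mod_central' hS F hZ hXS (fun φ hφ x => hmod X φ hφ x x.2)
  have hAS : F.autGroup X ≤ autInducedBy S X :=
    autGroup_le_autInducedBy_of_isPGroup hS F hF (fullyNormalized_of_stronglyClosed F hXsc) hAp
  have hYsc := centralizerIn_stronglyClosed_of_normal F hXn
  have hfinX : Finite X := finite_of_le hXS
  obtain ⟨k, hk⟩ := IsPGroup.iff_card.mp hAp
  have hpow : ∀ a ∈ F.autGroup X, a ^ (p ^ k) = 1 := by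
    intro a ha
    have h1 : (⟨a, ha⟩ : F.autGroup X) ^ Nat.card (F.autGroup X) = 1 := pow_card_eq_one'
    rw [hk] at h1
    exact congrArg Subtype.val h1
  have hXconj : ∀ {P : Subgroup Ω}, P ≤ S → ∀ (u : P) (x : X), (u : Ω) * x * (u : Ω)⁻¹ ∈ X :=
    fun hP u x => conj_mem_of_stronglyClosed F hXsc (hP u.2) x.2
  have key : ∀ (P : Subgroup Ω), P ≤ S → ∀ α ∈ F.autGroup P, ∀ u : P,
      (u : Ω)⁻¹ * (((α ^ (p ^ k)) u : P) : Ω) ∈ centralizerIn S X := by
    intro P hP α hα u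
    obtain ⟨a, ha, hrel⟩ := exists_aut_conj_relation F hXn hP hα
    have h1 := pow_conj_relation α a (hXconj hP) hrel (p ^ k) u
    rw [hpow a ha] at h1
    refine ⟨S.mul_mem (S.inv_mem (hP u.2)) (hP ((α ^ (p ^ k)) u).2), ?_⟩
    show _ ∈ Subgroup.centralizer (X : Set Ω)
    rw [Subgroup.mem_centralizer_iff]
    intro x hx
    have h2 := h1 ⟨x, hx⟩ (hXconj hP u ⟨x, hx⟩)
    have h3 : (((α ^ (p ^ k)) u : P) : Ω) * x * (((α ^ (p ^ k)) u : P) : Ω)⁻¹ =
        (u : Ω) * x * (u : Ω)⁻¹ := h2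
    calc x * ((u : Ω)⁻¹ * (((α ^ (p ^ k)) u : P) : Ω))
        = (u : Ω)⁻¹ * ((u : Ω) * x * (u : Ω)⁻¹) * (((α ^ (p ^ k)) u : P) : Ω) := by group
      _ = (u : Ω)⁻¹ * ((((α ^ (p ^ k)) u : P) : Ω) * x * (((α ^ (p ^ k)) u : P) : Ω)⁻¹) *
            (((α ^ (p ^ k)) u : P) : Ω) := by rw [h3]
      _ = (u : Ω)⁻¹ * (((α ^ (p ^ k)) u : P) : Ω) * x := by group
  have hres : ∀ (P : Subgroup Ω) (hP : P ≤ S), pResidual p (F.autGroup P) ≤
      (stabChain (F.autGroup P) (modChain (centralizerIn S X) P)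
        (modChain_inv F hYsc hP)).subgroupOf (F.autGroup P) := by
    intro P hP
    rw [pResidual, Subgroup.closure_le]
    intro g hg
    have hfinP : Finite P := finite_of_le hP
    have hgo : (orderOf (g : MulAut P)).Coprime p := by
      rw [Subgroup.orderOf_coe]; exact hg
    have hcop : (p ^ k).Coprime (orderOf (g : MulAut P)) :=
      Nat.Coprime.pow_left k hgo.symm
    obtain ⟨m, hm⟩ := exists_pow_eq_self_of_coprime hcop
    show (g : MulAut P) ∈ stabChain (F.autGroup P) (modChain (centralizerIn S X) P)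
        (modChain_inv F hYsc hP)
    rw [← hm]
    apply Subgroup.pow_mem
    rw [mem_stabChain_modChain F hYsc hP]
    exact ⟨Subgroup.pow_mem _ g.2 _, key P hP g g.2⟩
  have hhypY : F.hyperfocalSubgroup p ≤ centralizerIn S X := by
    rw [hyperfocalSubgroup, Subgroup.closure_le]
    rintro y ⟨P, α, x, hP, hα, rfl⟩
    have h1 := hres P hP hα
    have h2 : (α : MulAut P) ∈ stabChain (F.autGroup P) (modChain (centralizerIn S X) P)
        (modChain_inv F hYsc hP) := h1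
    rw [mem_stabChain_modChain F hYsc hP] at h2
    exact h2.2 x
  rw [hhyp] at hhypY
  have hfixX : ∀ (P : Subgroup Ω) (φ : P →* Ω), φ ∈ F.Hom P → ∀ u : P, (u : Ω) ∈ X →
      φ u = u := by
    intro P φ hφ u hu
    obtain ⟨ψ, hψ, hψφ, hψX⟩ := hXn.2 P φ hφ
    have hle : X ≤ P ⊔ X := le_sup_right
    have hψ' := restrict_mem F hψ hle
    have hrange : (ψ.comp (Subgroup.inclusion hle)).range = X :=
      (range_comp_inclusion hle ψ).trans hψX
    obtain ⟨a, ha, haψ⟩ := exists_aut_of_hom F hψ' hrange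
    obtain ⟨s, hs, hsa⟩ := (mem_autInducedBy_iff S X a).mp (hAS ha)
    have h1 := hsa ⟨u, hu⟩
    rw [haψ] at h1
    have h2 : (ψ.comp (Subgroup.inclusion hle)) ⟨u, hu⟩ = ψ (Subgroup.inclusion le_sup_left u) := by
      show ψ _ = ψ _
      congr 1
    rw [h2, hψφ u] at h1
    rw [h1]
    have h3 := (hhypY hs).2 u hu
    show s * (u : Ω) * s⁻¹ = u
    calc s * (u : Ω) * s⁻¹ = (u : Ω) * s * s⁻¹ := by rw [h3]
      _ = u := by group
  rw [central_iff_singleton_classes p hS F hF X]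
  refine ⟨hXS, ?_⟩
  rintro x hx y ⟨φ, hφ, hφx⟩
  rw [← hφx]
  exact hfixX _ φ hφ ⟨x, Subgroup.mem_zpowers x⟩ hx

end Cfsg.Agent.Lib.Helper9
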