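import Cfsg.Agent.Lib.Helper9.Grun2

set_option autoImplicit false

namespace Cfsg.Agent.Lib.Helper9

open Cfsg Cfsg.FusionSystem

variable {Ω : Type*} [Group Ω] {S : Subgroup Ω} {Ω' : Type*} [Group Ω']

/-- S5315: Grün's lemma for fusion systems -/
theorem factor_center_eq_bot [Finite S] (p : ℕ) [Fact p.Prime] (hS : IsPGroup p S)
    (F : FusionSystem S) (hF : F.IsSaturated p) (hhyp : F.hyperfocalSubgroup p = S)
    {S' : Subgroup Ω'} (θ : S →* Ω') (E : FusionSystem S')
    (hE : F.IsFactorSystem F.center θ E) : E.center = ⊥ := by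
  have hZc := isCentral_center F
  have hZsc := center_stronglyClosed F
  have hmor := factor_isSurjectiveMorphism p hS F hF F.center hZsc θ E hE
  obtain ⟨hS₀S, hker, hrange, hHom⟩ := hE
  have hfin' : Finite S' := finite_of_range_eq θ hrange
  have hZ'c := isCentral_center E
  have G1 : ∀ (P : Subgroup Ω) (φ : P →* Ω), φ ∈ F.Hom P → ∀ u : P,
      (u : Ω) ∈ preimageAlong θ E.center → (u : Ω)⁻¹ * φ u ∈ F.center := by
    intro P φ hφ u hu
    obtain ⟨φ', hφ', hP, hφS, hPP', hind⟩ := hmor.1.2 P φ hφ
    obtain ⟨huS, hu'⟩ := (mem_preimageAlong θ _ _).mp hu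
    have h1 := map_eq_of_isCentral E hZ'c hφ' ⟨θ ⟨u, hP u.2⟩, hPP' u⟩ hu'
    rw [hind u] at h1
    have h2 : θ ((⟨u, hP u.2⟩ : S)⁻¹ * ⟨φ u, hφS u⟩) = 1 := by
      rw [map_mul, map_inv, h1]
      exact inv_mul_cancel _
    exact (hker _).mp h2
  have hZ₂ : preimageAlong θ E.center ≤ F.center := by
    intro x hx
    have hxS : x ∈ S := preimageAlong_le θ _ hx
    have hXZ₂ : F.center ⊔ Subgroup.zpowers x ≤ preimageAlong θ E.center :=
      sup_le (ker_le_preimageAlong θ hS₀S hker _) ((Subgroup.zpowers_le).mpr hx)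
    have hXS : F.center ⊔ Subgroup.zpowers x ≤ S := hXZ₂.trans (preimageAlong_le θ _)
    have hZcent : ∀ z ∈ F.center, ∀ s ∈ S, s * z = z * s := by
      intro z hz s hs
      have := F.center_le_centralizer hz
      rw [Subgroup.mem_centralizer_iff] at this
      exact this s hs
    have hXx : F.center ⊔ Subgroup.zpowers x ≤ Subgroup.centralizer ({x} : Set Ω) := by
      apply sup_le
      · intro z hz
        rw [Subgroup.mem_centralizer_iff]
        intro y hy
        rw [Set.mem_singleton_iff] at hy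
        rw [hy]
        exact hZcent z hz x hxS
      · rw [Subgroup.zpowers_le, Subgroup.mem_centralizer_iff]
        intro y hy
        rw [Set.mem_singleton_iff] at hy
        rw [hy]
    have hXX : F.center ⊔ Subgroup.zpowers x ≤
        Subgroup.centralizer ((F.center ⊔ Subgroup.zpowers x : Subgroup Ω) : Set Ω) := by
      apply sup_le
      · intro z hz
        rw [Subgroup.mem_centralizer_iff]
        intro y hy
        exact hZcent z hz y (hXS hy)
      · rw [Subgroup.zpowers_le, Subgroup.mem_centralizer_iff]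
        intro y hy
        have := hXx hy
        rw [Subgroup.mem_centralizer_iff] at this
        exact (this x rfl).symm
    have hab : ∀ a ∈ F.center ⊔ Subgroup.zpowers x, ∀ b ∈ F.center ⊔ Subgroup.zpowers x,
        a * b = b * a := by
      intro a ha b hb
      have := hXX hb
      rw [Subgroup.mem_centralizer_iff] at this
      exact this a ha
    have hXc := isCentral_of_trivial_mod_central p hS F hF hhyp hZc le_sup_left hXS hab
      (fun P φ hφ u hu => G1 P φ hφ u (hXZ₂ hu))
    have hle : F.center ⊔ Subgroup.zpowers x ≤ F.center := le_sSup hXc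
    exact hle (Subgroup.mem_sup_right (Subgroup.mem_zpowers x))
  rw [eq_bot_iff]
  intro y hy
  have hyS' : y ∈ S' := hZ'c.1 hy
  rw [← hrange] at hyS'
  obtain ⟨s, rfl⟩ := hyS'
  have h1 : (s : Ω) ∈ preimageAlong θ E.center := (mem_preimageAlong θ _ _).mpr ⟨s.2, hy⟩
  rw [Subgroup.mem_bot]
  exact (hker s).mpr (hZ₂ h1)

end Cfsg.Agent.Lib.Helper9
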