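import Mathlib

/-!
# HIG (S3050) unit U0: matrix identities in `SL(2,K)`, `char K = 2`; conjugacy of elements of order 3;
generation by the upper unitriangular matrices and the Weyl element.
-/

namespace Cfsg.Agent.Lib.Helper9.HIG

open Matrix

variable {K : Type*} [Field K] [CharP K 2]

/-- upper unitriangular -/
def uu (a : K) : Matrix.SpecialLinearGroup (Fin 2) K :=
  ⟨!![1, a; 0, 1], by simp [Matrix.det_fin_two]⟩

/-- lower unitriangular -/
def ll (a : K) : Matrix.SpecialLinearGroup (Fin 2) K :=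
  ⟨!![1, 0; a, 1], by simp [Matrix.det_fin_two]⟩

/-- the Weyl element (characteristic 2) -/
def ww : Matrix.SpecialLinearGroup (Fin 2) K :=
  ⟨!![0, 1; 1, 0], by simp [Matrix.det_fin_two, CharTwo.neg_eq]⟩

/-- the standard element of order 3 -/
def x0 : Matrix.SpecialLinearGroup (Fin 2) K :=
  ⟨!![0, 1; 1, 1], by simp [Matrix.det_fin_two, CharTwo.neg_eq]⟩

/-- `w(c) = [[0,c],[c⁻¹,0]]` -/
def wc (c : K) (hc : c ≠ 0) : Matrix.SpecialLinearGroup (Fin 2) K :=
  ⟨!![0, c; c⁻¹, 0], by simp [Matrix.det_fin_two, CharTwo.neg_eq, hc]⟩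

/-- `d(c) = diag(c, c⁻¹)` -/
def dd (c : K) (hc : c ≠ 0) : Matrix.SpecialLinearGroup (Fin 2) K :=
  ⟨!![c, 0; 0, c⁻¹], by simp [Matrix.det_fin_two, hc]⟩

@[simp] theorem uu_val (a : K) : (uu a : Matrix (Fin 2) (Fin 2) K) = !![1, a; 0, 1] := rfl
@[simp] theorem ll_val (a : K) : (ll a : Matrix (Fin 2) (Fin 2) K) = !![1, 0; a, 1] := rfl
@[simp] theorem ww_val : ((ww : Matrix.SpecialLinearGroup (Fin 2) K) : Matrix (Fin 2) (Fin 2) K) = !![0, 1; 1, 0] := rfl
@[simp] theorem x0_val : ((x0 : Matrix.SpecialLinearGroup (Fin 2) K) : Matrix (Fin 2) (Fin 2) K) = !![0, 1; 1, 1] := rfl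
@[simp] theorem wc_val (c : K) (hc : c ≠ 0) : (wc c hc : Matrix (Fin 2) (Fin 2) K) = !![0, c; c⁻¹, 0] := rfl
@[simp] theorem dd_val (c : K) (hc : c ≠ 0) : (dd c hc : Matrix (Fin 2) (Fin 2) K) = !![c, 0; 0, c⁻¹] := rfl

theorem sl_ext {A B : Matrix.SpecialLinearGroup (Fin 2) K}
    (h00 : (A : Matrix (Fin 2) (Fin 2) K) 0 0 = (B : Matrix (Fin 2) (Fin 2) K) 0 0)
    (h01 : (A : Matrix (Fin 2) (Fin 2) K) 0 1 = (B : Matrix (Fin 2) (Fin 2) K) 0 1)
    (h10 : (A : Matrix (Fin 2) (Fin 2) K) 1 0 = (B : Matrix (Fin 2) (Fin 2) K) 1 0)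
    (h11 : (A : Matrix (Fin 2) (Fin 2) K) 1 1 = (B : Matrix (Fin 2) (Fin 2) K) 1 1) : A = B := by
  apply Subtype.ext
  ext i j
  fin_cases i <;> fin_cases j <;> assumption

theorem uu_mul (a b : K) : uu a * uu b = uu (a + b) := by
  apply sl_ext <;> simp [Matrix.mul_apply, Fin.sum_univ_two, add_comm]

theorem ll_mul (a b : K) : ll a * ll b = ll (a + b) := by
  apply sl_ext <;> simp [Matrix.mul_apply, Fin.sum_univ_two, add_comm]

theorem uu_zero : uu (0 : K) = 1 := by
  apply sl_ext <;> simp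

theorem ll_zero : ll (0 : K) = 1 := by
  apply sl_ext <;> simp

theorem uu_mul_self (a : K) : uu a * uu a = 1 := by
  rw [uu_mul, CharTwo.add_self_eq_zero, uu_zero]

theorem ll_mul_self (a : K) : ll a * ll a = 1 := by
  rw [ll_mul, CharTwo.add_self_eq_zero, ll_zero]

theorem ww_mul_self : (ww : Matrix.SpecialLinearGroup (Fin 2) K) * ww = 1 := by
  apply sl_ext <;> simp [Matrix.mul_apply, Fin.sum_univ_two]

theorem ww_uu_ww (a : K) : ww * uu a * ww = ll a := by
  apply sl_ext <;> simp [Matrix.mul_apply, Fin.sum_univ_two]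

theorem ww_ll_ww (a : K) : ww * ll a * ww = uu a := by
  apply sl_ext <;> simp [Matrix.mul_apply, Fin.sum_univ_two]

theorem uu_ll_uu_one : uu (1 : K) * ll 1 * uu 1 = ww := by
  apply sl_ext <;> simp [Matrix.mul_apply, Fin.sum_univ_two, CharTwo.add_self_eq_zero]

theorem x0_eq : (x0 : Matrix.SpecialLinearGroup (Fin 2) K) = uu 1 * ll 1 := by
  apply sl_ext <;> simp [Matrix.mul_apply, Fin.sum_univ_two, CharTwo.add_self_eq_zero]

theorem x0_pow_three : (x0 : Matrix.SpecialLinearGroup (Fin 2) K) ^ 3 = 1 := by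
  rw [pow_succ, pow_two]
  apply sl_ext <;> simp [Matrix.mul_apply, Fin.sum_univ_two, CharTwo.add_self_eq_zero]

theorem x0_ne_one : (x0 : Matrix.SpecialLinearGroup (Fin 2) K) ≠ 1 := by
  intro h
  have := congrArg (fun A : Matrix.SpecialLinearGroup (Fin 2) K => (A : Matrix (Fin 2) (Fin 2) K) 0 0) h
  simp at this

theorem orderOf_x0 : orderOf (x0 : Matrix.SpecialLinearGroup (Fin 2) K) = 3 := by
  have h3 : Fact (Nat.Prime 3) := ⟨by norm_num⟩
  exact orderOf_eq_prime x0_pow_three x0_ne_one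

theorem wc_eq (c : K) (hc : c ≠ 0) : wc c hc = uu c * ll c⁻¹ * uu c := by
  apply sl_ext <;> simp [Matrix.mul_apply, Fin.sum_univ_two, hc, CharTwo.add_self_eq_zero]

theorem wc_mul_self (c : K) (hc : c ≠ 0) : wc c hc * wc c hc = 1 := by
  apply sl_ext <;> simp [Matrix.mul_apply, Fin.sum_univ_two, hc]

theorem dd_eq (c : K) (hc : c ≠ 0) : dd c hc = wc c hc * ww := by
  apply sl_ext <;> simp [Matrix.mul_apply, Fin.sum_univ_two]

theorem dd_mul (c m : K) (hc : c ≠ 0) (hm : m ≠ 0) :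
    dd c hc * dd m hm = dd (c * m) (mul_ne_zero hc hm) := by
  apply sl_ext <;> simp [Matrix.mul_apply, Fin.sum_univ_two, mul_comm]

theorem dd_inv (c : K) (hc : c ≠ 0) : (dd c hc)⁻¹ = dd c⁻¹ (inv_ne_zero hc) := by
  rw [inv_eq_iff_mul_eq_one, dd_mul]
  apply sl_ext <;> simp [hc]

theorem dd_uu_dd (c a : K) (hc : c ≠ 0) : dd c hc * uu a * (dd c hc)⁻¹ = uu (c ^ 2 * a) := by
  rw [dd_inv]
  apply sl_ext <;> simp [Matrix.mul_apply, Fin.sum_univ_two, hc]
  ring

theorem dd_ll_dd (c a : K) (hc : c ≠ 0) : dd c hc * ll a * (dd c hc)⁻¹ = ll (c⁻¹ ^ 2 * a) := by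
  rw [dd_inv]
  apply sl_ext <;> simp [Matrix.mul_apply, Fin.sum_univ_two, hc]
  ring

/-- helper8's (S0), first identity -/
theorem wc_ll_wc (c : K) (hc : c ≠ 0) : wc c hc * ll 1 * wc c hc = uu (c ^ 2) := by
  apply sl_ext <;> simp [Matrix.mul_apply, Fin.sum_univ_two, hc]
  ring

/-- helper8's (S0), second identity -/
theorem wc_uu_wc (c : K) (hc : c ≠ 0) : wc c hc * uu 1 * wc c hc = ll (c⁻¹ ^ 2) := by
  apply sl_ext <;> simp [Matrix.mul_apply, Fin.sum_univ_two, hc]
  ring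

theorem uu_ll_eq_conj (c m : K) (hc : c ≠ 0) (hm : m ≠ 0) (hmc : m ^ 2 = c) :
    uu c * ll c⁻¹ = dd m hm * x0 * (dd m hm)⁻¹ := by
  rw [dd_inv]
  subst hmc
  apply sl_ext <;> simp [Matrix.mul_apply, Fin.sum_univ_two, hm, CharTwo.add_self_eq_zero]
  all_goals (field_simp)

/-! ### Step 0: elements of order 3 are conjugate to `x0` -/

theorem two_eq_zero' : (2 : K) = 0 := CharTwo.two_eq_zero

/-- the trace of an element of order 3 is 1 -/
theorem trace_of_order_three (y : Matrix.SpecialLinearGroup (Fin 2) K) (hy : orderOf y = 3) :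
    (y : Matrix (Fin 2) (Fin 2) K) 0 0 + (y : Matrix (Fin 2) (Fin 2) K) 1 1 = 1 := by
  have h2 : (2 : K) = 0 := CharTwo.two_eq_zero
  have hy3 : y ^ 3 = 1 := by rw [← hy]; exact pow_orderOf_eq_one y
  have hy1 : y ≠ 1 := by
    intro h; rw [h, orderOf_one] at hy; omega
  set a := (y : Matrix (Fin 2) (Fin 2) K) 0 0 with ha
  set b := (y : Matrix (Fin 2) (Fin 2) K) 0 1 with hb
  set c := (y : Matrix (Fin 2) (Fin 2) K) 1 0 with hc
  set d := (y : Matrix (Fin 2) (Fin 2) K) 1 1 with hd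
  have hdet : a * d - b * c = 1 := by
    have := y.2
    rw [Matrix.det_fin_two] at this
    exact this
  have hM : ((y ^ 3 : Matrix.SpecialLinearGroup (Fin 2) K) : Matrix (Fin 2) (Fin 2) K) = 1 := by
    rw [hy3]; rfl
  rw [pow_succ, pow_two] at hM
  have e00 := congrFun (congrFun hM 0) 0
  have e01 := congrFun (congrFun hM 0) 1
  have e10 := congrFun (congrFun hM 1) 0
  have e11 := congrFun (congrFun hM 1) 1
  simp only [Matrix.SpecialLinearGroup.coe_mul, Matrix.mul_apply, Fin.sum_univ_two,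
    Matrix.one_apply_eq, Matrix.one_apply_ne, ne_eq, one_ne_zero, zero_ne_one, not_false_eq_true,
    Fin.isValue] at e00 e01 e10 e11
  simp only [← ha, ← hb, ← hc, ← hd] at e00 e01 e10 e11
  -- t (t+1)^2 = 0
  have key : (a + d) * ((a + d) + 1) ^ 2 = 0 := by
    linear_combination e00 + e11 + 3 * (a + d) * hdet + ((a + d) + 1) ^ 2 * h2
  rcases mul_eq_zero.mp key with h0 | h1
  · -- t = 0 : y = 1
    exfalso
    have hd' : d = a := by linear_combination h0 - a * h2
    have ha1 : a = 1 := by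
      linear_combination (-1) * e00 - 3 * a * hdet + (3 * a ^ 2 + b * c) * hd' + (2 * a ^ 3 - a - 1) * h2
    have hd1 : d = 1 := hd'.trans ha1
    have hbc : b * c = 0 := by linear_combination -hdet + d * ha1 + hd1
    have hb0 : b = 0 := by
      have h := e01
      rw [ha1, hd1] at h
      linear_combination h - b * hbc - b * h2
    have hc0 : c = 0 := by
      have h := e10
      rw [ha1, hd1] at h
      linear_combination h - c * hbc - c * h2
    apply hy1
    apply sl_ext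
    · simpa using ha1
    · simpa using hb0
    · simpa using hc0
    · simpa using hd1
  · have : a + d + 1 = 0 := by simpa using h1
    have h3 : a + d = -1 := by linear_combination this
    rw [h3, CharTwo.neg_eq]

/-- every element of `K` (finite, characteristic 2) is a square -/
theorem exists_sq [Finite K] (a : K) : ∃ s : K, s ^ 2 = a := by
  haveI := Fintype.ofFinite K
  obtain ⟨r, hr⟩ := FiniteField.isSquare_of_char_two (ringChar.eq K 2) a
  exact ⟨r, by rw [hr, pow_two]⟩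

/-- the conjugating matrix with columns `v`, `y v` -/
theorem conj_x0_aux (y : Matrix.SpecialLinearGroup (Fin 2) K)
    (htr : (y : Matrix (Fin 2) (Fin 2) K) 0 0 + (y : Matrix (Fin 2) (Fin 2) K) 1 1 = 1)
    (v0 v1 : K)
    (hv : (y : Matrix (Fin 2) (Fin 2) K) 1 0 * v0 ^ 2 + v0 * v1
      + (y : Matrix (Fin 2) (Fin 2) K) 0 1 * v1 ^ 2 = 1) :
    ∃ P : Matrix.SpecialLinearGroup (Fin 2) K, P⁻¹ * y * P = x0 := by
  have h2 : (2 : K) = 0 := CharTwo.two_eq_zero
  set a := (y : Matrix (Fin 2) (Fin 2) K) 0 0 with ha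
  set b := (y : Matrix (Fin 2) (Fin 2) K) 0 1 with hb
  set c := (y : Matrix (Fin 2) (Fin 2) K) 1 0 with hc
  set d := (y : Matrix (Fin 2) (Fin 2) K) 1 1 with hd
  have hdet : a * d - b * c = 1 := by
    have := y.2
    rw [Matrix.det_fin_two] at this
    exact this
  have hdetP : (!![v0, a * v0 + b * v1; v1, c * v0 + d * v1] : Matrix (Fin 2) (Fin 2) K).det = 1 := by
    rw [Matrix.det_fin_two]
    simp only [Matrix.of_apply, Matrix.cons_val', Matrix.cons_val_zero, Matrix.cons_val_one,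
      Matrix.cons_val_fin_one]
    linear_combination hv - v0 * v1 * htr + (v0 * d * v1 - v0 * v1 - b * v1 ^ 2) * h2
  obtain ⟨P, hP⟩ : ∃ P : Matrix.SpecialLinearGroup (Fin 2) K,
      (P : Matrix (Fin 2) (Fin 2) K) = !![v0, a * v0 + b * v1; v1, c * v0 + d * v1] :=
    ⟨⟨_, hdetP⟩, rfl⟩
  refine ⟨P, ?_⟩
  rw [mul_assoc, inv_mul_eq_iff_eq_mul]
  apply sl_ext
  · simp [Matrix.mul_apply, Fin.sum_univ_two, hP, ← ha, ← hb]
  · simp only [Matrix.SpecialLinearGroup.coe_mul, Matrix.mul_apply, Fin.sum_univ_two, x0_val, hP,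
      Matrix.of_apply, Matrix.cons_val', Matrix.cons_val_zero, Matrix.cons_val_one,
      Matrix.cons_val_fin_one, ← ha, ← hb]
    linear_combination (v0 * a + v1 * b) * htr - v0 * hdet - v0 * h2
  · simp [Matrix.mul_apply, Fin.sum_univ_two, hP, ← hc, ← hd]
  · simp only [Matrix.SpecialLinearGroup.coe_mul, Matrix.mul_apply, Fin.sum_univ_two, x0_val, hP,
      Matrix.of_apply, Matrix.cons_val', Matrix.cons_val_zero, Matrix.cons_val_one,
      Matrix.cons_val_fin_one, ← hc, ← hd]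
    linear_combination (c * v0 + v1 * d) * htr - v1 * hdet - v1 * h2

/-- **Step 0.** In `SL(2,K)`, `K` finite of characteristic 2, every element of order 3 is conjugate to `x0`. -/
theorem conj_x0 [Finite K] (y : Matrix.SpecialLinearGroup (Fin 2) K) (hy : orderOf y = 3) :
    ∃ P : Matrix.SpecialLinearGroup (Fin 2) K, P⁻¹ * y * P = x0 := by
  have htr := trace_of_order_three y hy
  by_cases hc : (y : Matrix (Fin 2) (Fin 2) K) 1 0 = 0
  · by_cases hb : (y : Matrix (Fin 2) (Fin 2) K) 0 1 = 0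
    · exact conj_x0_aux y htr 1 1 (by rw [hc, hb]; ring)
    · obtain ⟨s, hs⟩ := exists_sq ((y : Matrix (Fin 2) (Fin 2) K) 0 1)⁻¹
      refine conj_x0_aux y htr 0 s ?_
      rw [hs, hc]
      field_simp
      ring
  · obtain ⟨s, hs⟩ := exists_sq ((y : Matrix (Fin 2) (Fin 2) K) 1 0)⁻¹
    refine conj_x0_aux y htr s 0 ?_
    rw [hs]
    field_simp
    ring

end Cfsg.Agent.Lib.Helper9.HIG
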