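import Mathlib
import Cfsg.Agent.Lib.Helper2.HIGDefs
import Cfsg.Agent.Lib.Helper9.HIGU0

/-!
HIG farm (S3050), unit U0b: elements of order three of `SL₂(K)` (`K` finite of characteristic two)
are conjugate to `x0 K`, in the exact shape of the owner's stub.
-/

namespace Cfsg.Agent.Lib.Helper9.HIGb

open Cfsg.Agent.Lib.Helper2.HIG

theorem x0_bridge {K : Type*} [Field K] [CharP K 2] :
    (Cfsg.Agent.Lib.Helper9.HIG.x0 : SL2 K) = x0 K := by
  rw [Cfsg.Agent.Lib.Helper9.HIG.x0_eq]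
  rfl

/-- U0b: elements of order three are conjugate to `x0` (perfect field of char 2; here finite). -/
theorem order3_conj {K : Type*} [Field K] [Finite K] [CharP K 2] (y : SL2 K) (hy : orderOf y = 3) :
    ∃ g : SL2 K, g * y * g⁻¹ = x0 K := by
  obtain ⟨P, hP⟩ := Cfsg.Agent.Lib.Helper9.HIG.conj_x0 y hy
  refine ⟨P⁻¹, ?_⟩
  rw [inv_inv, hP, x0_bridge]

end Cfsg.Agent.Lib.Helper9.HIGb
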