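import Cfsg.Agent.Lib.Helper9.HS11178d
import Cfsg.Agent.Lib.Helper9.LeechE4

set_option autoImplicit false

/-! The orbits of the stabiliser of the standard pair on the 11178 vectors. -/

namespace Cfsg.Agent.Lib.Helper9.HS11178e

open Cfsg Cfsg.Agent.Lib.Helper4.Leech
  Cfsg.Agent.Lib.Helper9.LeechX5 Cfsg.Agent.Lib.Helper9.LeechX7 Cfsg.Agent.Lib.Helper9.LeechX8
  Cfsg.Agent.Lib.Helper9.LeechX9 Cfsg.Agent.Lib.Helper9.LeechX11 Cfsg.Agent.Lib.Helper9.LeechE4
  Cfsg.Agent.Lib.Helper9.OrbCert0 Cfsg.Agent.Lib.Helper9.OrbCert1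
  Cfsg.Agent.Lib.Helper9.OrbCert2
  Cfsg.Agent.Lib.Helper9.HS11178a Cfsg.Agent.Lib.Helper9.HS11178b Cfsg.Agent.Lib.Helper9.HS11178c
  Cfsg.Agent.Lib.Helper9.HS11178d

theorem rm8_mem : vecN rm8 ∈ leechLattice :=
  mem_of_data _ 0 5279 (Or.inl rfl) (by decide +kernel) (by decide +kernel) (by decide +kernel)

theorem rp16_mem : vecN rp16 ∈ leechLattice :=
  mem_of_data _ 0 8536111 (Or.inl rfl) (by decide +kernel) (by decide +kernel) (by decide +kernel)

theorem rp0_mem : vecN rp0 ∈ leechLattice :=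
  mem_of_data _ 1 2422785 (Or.inr rfl) (by decide +kernel) (by decide +kernel) (by decide +kernel)

theorem rp8_mem : vecN rp8 ∈ leechLattice :=
  mem_of_data _ 1 4900873 (Or.inr rfl) (by decide +kernel) (by decide +kernel) (by decide +kernel)

def ym8 : leechLattice := ⟨vecN rm8, rm8_mem⟩
def yp16 : leechLattice := ⟨vecN rp16, rp16_mem⟩
def yp0 : leechLattice := ⟨vecN rp0, rp0_mem⟩
def yp8 : leechLattice := ⟨vecN rp8, rp8_mem⟩

theorem z3_code : z3.1 = vecN cz3 := by
  funext i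
  revert i
  decide +kernel

/-- the set of the 11178 vectors, as functions -/
def SF : Set (GolayPt → ℤ) := {w | w ∈ leechLattice ∧ sqNorm w = 32 ∧ dotInt rG.1 w = -16}

theorem SF_card : SF.ncard = 11178 := (Cfsg.Agent.Lib.Helper9.LeechD5.census48 rG rG_norm).2

/-- the invariant separating the orbits -/
def phi (y : leechLattice) : ℤ := dotInt z3.1 y.1

theorem phi_inv (n : Equiv.Perm leechLattice) (hn : Good n) (y : leechLattice) :
    phi (n y) = phi y := by
  have := dot_pres n hn.1 z3 y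
  rw [hn.2.2] at this
  exact this

theorem SF_inv (n : Equiv.Perm leechLattice) (hn : Good n) (y : leechLattice) (hy : y.1 ∈ SF) :
    (n y).1 ∈ SF := by
  obtain ⟨-, h2, h3⟩ := hy
  refine ⟨(n y).2, by rw [hn.1.2, h2], ?_⟩
  have := dot_pres n hn.1 rG y
  rw [hn.2.1] at this
  rw [this, h3]

/-- the blocks -/
def blocks : List (leechLattice × List ℕ) :=
  [(z3, [cz3]), (ym8, codes rm8 Em8), (yp16, codes rp16 Ep16), (yp0, codes rp0 Ep0),
    (yp8, codes rp8 Ep8)]

theorem allCodes_eq : allCodes blocks = codeBlocks.flatten := rfl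

theorem hroot : ∀ b ∈ blocks, b.1.1 ∈ SF := by
  intro b hb
  simp only [blocks, List.mem_cons, List.not_mem_nil, or_false] at hb
  rcases hb with rfl | rfl | rfl | rfl | rfl
  · exact ⟨z3.2, by decide +kernel, by decide +kernel⟩
  · exact ⟨ym8.2, by decide +kernel, by decide +kernel⟩
  · exact ⟨yp16.2, by decide +kernel, by decide +kernel⟩
  · exact ⟨yp0.2, by decide +kernel, by decide +kernel⟩
  · exact ⟨yp8.2, by decide +kernel, by decide +kernel⟩

theorem hin : ∀ b ∈ blocks, ∀ c ∈ b.2, InOrb Good b.1 c := by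
  intro b hb
  simp only [blocks, List.mem_cons, List.not_mem_nil, or_false] at hb
  rcases hb with rfl | rfl | rfl | rfl | rfl
  · intro c hc
    rw [List.mem_singleton] at hc
    rw [hc]
    exact ⟨1, good_one, z3_code⟩
  · exact all_inorb stepOK good_one good_mul hok ym8 rm8 Em8 rfl cert_m8
  · exact all_inorb stepOK good_one good_mul hok yp16 rp16 Ep16 rfl cert_p16
  · exact all_inorb stepOK good_one good_mul hok yp0 rp0 Ep0 rfl cert_p0
  · exact all_inorb stepOK good_one good_mul hok yp8 rp8 Ep8 rfl cert_p8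

theorem hnd : ((allCodes blocks).map vecN).Nodup := by
  rw [allCodes_eq]
  exact nodup_of_idxChk T _ idx_ok

theorem hsub : ∀ b ∈ blocks, ∀ c ∈ b.2, vecN c ∈ SF := by
  intro b hb c hc
  obtain ⟨n, hn, hnc⟩ := hin b hb c hc
  rw [← hnc]
  exact SF_inv n hn b.1 (hroot b hb)

theorem hcov : ∀ w ∈ SF, ∃ b ∈ blocks, ∃ c ∈ b.2, w = vecN c :=
  cover SF 11178 SF_card (by norm_num) blocks hsub hnd (by rw [allCodes_eq]; exact len_all)

theorem phi_z3 : phi z3 = 32 := by decide +kernel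
theorem phi_m8 : phi ym8 = -8 := by decide +kernel
theorem phi_p16 : phi yp16 = 16 := by decide +kernel
theorem phi_p0 : phi yp0 = 0 := by decide +kernel
theorem phi_p8 : phi yp8 = 8 := by decide +kernel

theorem hsep : ∀ b ∈ blocks, ∀ b' ∈ blocks, phi b.1 = phi b'.1 → b = b' := by
  intro b hb b' hb' h
  simp only [blocks, List.mem_cons, List.not_mem_nil, or_false] at hb hb'
  rcases hb with rfl | rfl | rfl | rfl | rfl <;> rcases hb' with rfl | rfl | rfl | rfl | rfl <;>
    first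
    | rfl
    | (exfalso; simp only [phi_z3, phi_m8, phi_p16, phi_p0, phi_p8] at h; omega)

theorem orb (b : leechLattice × List ℕ) (hb : b ∈ blocks) :
    Orb Good b.1 = {y : leechLattice | y.1 ∈ SF ∧ phi y = phi b.1} ∧
      (Orb Good b.1).ncard = b.2.length :=
  orbit_eq_card SF blocks phi phi_inv hin hcov SF_inv hroot hsep hnd b hb

/-- every one of the 11178 vectors is in one of the five orbits -/
theorem all_orb (y : leechLattice) (h1 : sqNorm y.1 = 32) (h2 : dotInt rG.1 y.1 = -16) :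
    y = z3 ∨ y ∈ Orb Good ym8 ∨ y ∈ Orb Good yp16 ∨ y ∈ Orb Good yp0 ∨ y ∈ Orb Good yp8 := by
  obtain ⟨b, hb, c, hc, hyc⟩ := hcov y.1 ⟨y.2, h1, h2⟩
  obtain ⟨n, hn, hnc⟩ := hin b hb c hc
  have hy : n b.1 = y := Subtype.ext (by rw [hnc, hyc])
  simp only [blocks, List.mem_cons, List.not_mem_nil, or_false] at hb
  rcases hb with rfl | rfl | rfl | rfl | rfl
  · left; rw [← hy]; exact hn.2.2
  · right; left; exact ⟨n, hn, hy⟩
  · right; right; left; exact ⟨n, hn, hy⟩
  · right; right; right; left; exact ⟨n, hn, hy⟩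
  · right; right; right; right; exact ⟨n, hn, hy⟩

theorem card_m8 : (Orb Good ym8).ncard = 352 :=
  (orb (ym8, codes rm8 Em8) (by simp [blocks])).2.trans len_m8
theorem card_p16 : (Orb Good yp16).ncard = 1100 :=
  (orb (yp16, codes rp16 Ep16) (by simp [blocks])).2.trans len_p16
theorem card_p0 : (Orb Good yp0).ncard = 4125 :=
  (orb (yp0, codes rp0 Ep0) (by simp [blocks])).2.trans len_p0
theorem card_p8 : (Orb Good yp8).ncard = 5600 :=
  (orb (yp8, codes rp8 Ep8) (by simp [blocks])).2.trans len_p8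

theorem orb_sub (r : leechLattice) (hr : r.1 ∈ SF) (y : leechLattice) (hy : y ∈ Orb Good r) :
    sqNorm y.1 = 32 ∧ dotInt rG.1 y.1 = -16 := by
  obtain ⟨n, hn, rfl⟩ := hy
  exact (SF_inv n hn r hr).2

end Cfsg.Agent.Lib.Helper9.HS11178e
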