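import Cfsg.Agent.Lib.Helper9.LeechE4
import Cfsg.Agent.Lib.Helper9.LeechP9

set_option autoImplicit false

/-! Pairs of vectors of sum of squares 48 with inner product `-32`: the hundred minimal vectors
attached to such a pair and the transitivity of the joint stabiliser on them. -/

namespace Cfsg.Agent.Lib.Helper9.LeechE5

open Cfsg Finset Cfsg.Agent.Lib.Helper4.Leech Cfsg.Agent.Lib.Helper9.LeechE3
  Cfsg.Agent.Lib.Helper9.LeechE4
  Cfsg.Agent.Lib.Helper9.LeechX4 Cfsg.Agent.Lib.Helper9.LeechX7 Cfsg.Agent.Lib.Helper9.LeechX8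
  Cfsg.Agent.Lib.Helper9.LeechX9 Cfsg.Agent.Lib.Helper9.LeechX10 Cfsg.Agent.Lib.Helper9.LeechX11
  Cfsg.Agent.Lib.Helper9.LeechP1 Cfsg.Agent.Lib.Helper9.LeechP2 Cfsg.Agent.Lib.Helper9.LeechP4
  Cfsg.Agent.Lib.Helper9.LeechP8 Cfsg.Agent.Lib.Helper9.LeechP9 Cfsg.Agent.Lib.Helper9.LeechC7

/-! ### automorphisms are additive maps -/

theorem co0_zero (g : Equiv.Perm leechLattice) (hg : g ∈ Co0) : g 0 = 0 := by
  have := hg.1 0 0
  rw [add_zero] at this
  exact left_eq_add.mp this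

theorem co0_neg (g : Equiv.Perm leechLattice) (hg : g ∈ Co0) (y : leechLattice) :
    g (-y) = -g y := by
  have e := hg.1 y (-y)
  rw [add_neg_cancel, co0_zero g hg] at e
  exact (neg_eq_of_add_eq_zero_right e.symm).symm

theorem co0_sub (g : Equiv.Perm leechLattice) (hg : g ∈ Co0) (x y : leechLattice) :
    g (x - y) = g x - g y := by
  rw [sub_eq_add_neg, hg.1, co0_neg g hg, ← sub_eq_add_neg]

/-! ### the third side of the triangle -/

theorem hs_z_norm (v w : leechLattice) (hv : sqNorm v.1 = 48) (hw : sqNorm w.1 = 48)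
    (hd : dotInt v.1 w.1 = -32) : sqNorm (-(v + w)).1 = 32 := by
  show sqNorm (-(v.1 + w.1)) = 32
  rw [sqNorm_neg, sqNorm_add, hv, hw, hd]; norm_num

theorem hs_z_dot (v w : leechLattice) (hv : sqNorm v.1 = 48)
    (hd : dotInt v.1 w.1 = -32) : dotInt (-(v + w)).1 v.1 = -16 := by
  show dotInt (-(v.1 + w.1)) v.1 = -16
  rw [dot_neg_left, dot_add_left, dot_self, hv, dot_comm w.1 v.1, hd]; norm_num

/-- the partner of `(5, 1^23)` -/
def w0 : leechLattice := -(rG + z0)

theorem w0_norm : sqNorm w0.1 = 48 := by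
  show sqNorm (-(rG.1 + z0.1)) = 48
  rw [sqNorm_neg, sqNorm_add, rG_norm, z0_norm, rG_z0]; norm_num

theorem rG_w0 : dotInt rG.1 w0.1 = -32 := by
  show dotInt rG.1 (-(rG.1 + z0.1)) = -32
  rw [dot_neg_right, dot_add_right, dot_self, rG_norm, rG_z0]; norm_num

/-- every pair is in the orbit of the standard pair -/
theorem hs_pair_std (v w : leechLattice) (hv : sqNorm v.1 = 48) (hw : sqNorm w.1 = 48)
    (hd : dotInt v.1 w.1 = -32) : Rel2 v w rG w0 := by
  obtain ⟨g, hg, g1, g2⟩ := pairs48 (-(v + w)) v z0 rG (hs_z_norm v w hv hw hd) hv z0_norm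
    rG_norm (hs_z_dot v w hv hd) (by rw [dot_comm]; exact rG_z0)
  refine ⟨g, hg, g2, ?_⟩
  have e : w = -(-(v + w)) - v := by abel
  rw [e, co0_sub g hg, co0_neg g hg, g1, g2]
  show -z0 - rG = -(rG + z0)
  abel

/-! ### transport of counts -/

theorem ncard_transport (g : Equiv.Perm leechLattice) (hg : g ∈ Co0) (v w : leechLattice)
    (P : ℤ → ℤ → ℤ → Prop) :
    {x : leechLattice | P (sqNorm x.1) (dotInt v.1 x.1) (dotInt w.1 x.1)}.ncard
      = {x : leechLattice | P (sqNorm x.1) (dotInt (g v).1 x.1) (dotInt (g w).1 x.1)}.ncard := by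
  have himg : {x : leechLattice | P (sqNorm x.1) (dotInt (g v).1 x.1) (dotInt (g w).1 x.1)}
      = g '' {x : leechLattice | P (sqNorm x.1) (dotInt v.1 x.1) (dotInt w.1 x.1)} := by
    ext y
    simp only [Set.mem_setOf_eq, Set.mem_image]
    constructor
    · intro hy
      refine ⟨g.symm y, ?_, Equiv.apply_symm_apply g y⟩
      have e1 := hg.2 (g.symm y)
      have e2 := dot_pres g hg v (g.symm y)
      have e3 := dot_pres g hg w (g.symm y)
      rw [Equiv.apply_symm_apply] at e1 e2 e3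
      rw [← e1, ← e2, ← e3]
      exact hy
    · rintro ⟨x, hx, rfl⟩
      rw [hg.2 x, dot_pres g hg, dot_pres g hg]
      exact hx
  rw [himg, Set.ncard_image_of_injective _ g.injective]

/-- the count for an arbitrary pair -/
theorem hs_count (v w : leechLattice) (hv : sqNorm v.1 = 48) (hw : sqNorm w.1 = 48)
    (hd : dotInt v.1 w.1 = -32) :
    {x : leechLattice | sqNorm x.1 = 32 ∧ dotInt v.1 x.1 = 24 ∧ dotInt w.1 x.1 = -24}.ncard
      = 100 := by
  obtain ⟨g, hg, g1, g2⟩ := hs_pair_std v w hv hw hd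
  have h := ncard_transport g hg v w (fun n a b => n = 32 ∧ a = 24 ∧ b = -24)
  rw [h, g1, g2, ← count_std]
  have himg : {x : GolayPt → ℤ | x ∈ leechLattice ∧ sqNorm x = 32 ∧ dotInt rG.1 x = 24 ∧
      dotInt z0.1 x = 0}
      = Subtype.val '' {x : leechLattice | sqNorm x.1 = 32 ∧ dotInt rG.1 x.1 = 24 ∧
          dotInt w0.1 x.1 = -24} := by
    ext x
    simp only [Set.mem_setOf_eq, Set.mem_image]
    have hw0 : ∀ y : GolayPt → ℤ, dotInt w0.1 y = -(dotInt rG.1 y + dotInt z0.1 y) := by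
      intro y
      show dotInt (-(rG.1 + z0.1)) y = _
      rw [dot_neg_left, dot_add_left]
    constructor
    · rintro ⟨h1, h2, h3, h4⟩
      refine ⟨⟨x, h1⟩, ⟨h2, h3, ?_⟩, rfl⟩
      rw [hw0, h3, h4]; norm_num
    · rintro ⟨y, ⟨h2, h3, h4⟩, rfl⟩
      refine ⟨y.2, h2, h3, ?_⟩
      rw [hw0, h3] at h4
      linarith
  rw [himg, Set.ncard_image_of_injective _ Subtype.val_injective]

/-! ### the standard form of a triple -/

/-- vectors of sum of squares 48 with entries `1`, `-5` at the standard points -/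
theorem relF_ed2 (w : leechLattice) (hw : sqNorm w.1 = 48) (hn : w.1 none = 1)
    (h0 : w.1 (some 0) = -5) : RelF w ed2 := by
  rcases classify48 w hw (by rw [hn, h0]; norm_num) with ⟨a1, -⟩ | ⟨a1, -⟩ | ⟨a1, -⟩ |
    ⟨a1, -⟩ | ⟨a1, -⟩ | ⟨a1, -⟩ | ⟨a1, -⟩ | ⟨a1, a2, a3, a4, a5⟩
  · omega
  · omega
  · omega
  · omega
  · omega
  · omega
  · omega
  · refine sign_fix_odd_F w ed2 a3 (by decide +kernel) (fun i => ?_)
      (by rw [a1]; decide +kernel) (by rw [a2]; decide +kernel)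
    rw [odd_abs5 w (some 0) a4 a5 (by rw [a2]; rfl) i]
    revert i
    decide +kernel

/-- the other half of the standard frame vector -/
def rAc : leechLattice := r8 - rA

theorem sup2_rAc : Sup2 rAc := by
  intro i hi
  by_contra hcon
  push Not at hcon
  apply hi
  show r8.1 i - rA.1 i = 0
  rw [r8_vals, rA_vals, if_neg hcon.1, if_neg (by tauto)]
  norm_num

/-- a pair together with one of its hundred vectors can be moved to a standard position -/
theorem hs_triple_std (v w x : leechLattice) (hv : sqNorm v.1 = 48) (hw : sqNorm w.1 = 48)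
    (hd : dotInt v.1 w.1 = -32) (hx : sqNorm x.1 = 32) (hvx : dotInt v.1 x.1 = 24)
    (hwx : dotInt w.1 x.1 = -24) :
    ∃ g ∈ Co0, g v = ed2 ∧ g (-(v + w)) = rA ∧ g x = rAc := by
  have hz := hs_z_norm v w hv hw hd
  have hzv := hs_z_dot v w hv hd
  have hzx : dotInt (-(v + w)).1 x.1 = 0 := by
    show dotInt (-(v.1 + w.1)) x.1 = 0
    rw [dot_neg_left, dot_add_left, hvx, hwx]; norm_num
  obtain ⟨k, hk, hk8, hkA⟩ := to_std (-(v + w)) x hz hx hzx
  have hkx : k x = rAc := by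
    have := hk.1 (-(v + w)) x
    rw [hk8, hkA] at this
    show k x = r8 - rA
    rw [this]; abel
  -- the image of `v`
  have e1 : dotInt rA.1 (k v).1 = -16 := by
    rw [← hkA, dot_pres k hk]; exact hzv
  have e2 : dotInt r8.1 (k v).1 = 8 := by
    rw [← hk8, dot_pres k hk]
    show dotInt ((-(v + w)).1 + x.1) v.1 = 8
    rw [dot_add_left, hzv, dot_comm, hvx]; norm_num
  rw [dot_rA] at e1
  rw [dot_r8] at e2
  obtain ⟨n, hn, hnv, hnf⟩ := relF_ed2 (k v) (by rw [hk.2, hv]) (by omega) (by omega)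
  refine ⟨n * k, Co0.mul_mem hn hk, ?_, ?_, ?_⟩
  · rw [Equiv.Perm.mul_apply, hnv]
  · rw [Equiv.Perm.mul_apply, hkA, hnf rA sup2_rA]
  · rw [Equiv.Perm.mul_apply, hkx, hnf rAc sup2_rAc]

/-- the joint stabiliser of the pair is transitive on the hundred vectors -/
theorem hs_trans100 (v w x x' : leechLattice) (hv : sqNorm v.1 = 48) (hw : sqNorm w.1 = 48)
    (hd : dotInt v.1 w.1 = -32) (hx : sqNorm x.1 = 32) (hvx : dotInt v.1 x.1 = 24)
    (hwx : dotInt w.1 x.1 = -24) (hx' : sqNorm x'.1 = 32) (hvx' : dotInt v.1 x'.1 = 24)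
    (hwx' : dotInt w.1 x'.1 = -24) :
    ∃ g ∈ Co0, g v = v ∧ g w = w ∧ g x = x' := by
  obtain ⟨g, hg, g1, g2, g3⟩ := hs_triple_std v w x hv hw hd hx hvx hwx
  obtain ⟨g', hg', g1', g2', g3'⟩ := hs_triple_std v w x' hv hw hd hx' hvx' hwx'
  have hm : g'⁻¹ * g ∈ Co0 := Co0.mul_mem (Co0.inv_mem hg') hg
  have ev : (g'⁻¹ * g) v = v := by
    rw [Equiv.Perm.mul_apply, g1, ← g1']; simp
  have ez : (g'⁻¹ * g) (-(v + w)) = -(v + w) := by
    rw [Equiv.Perm.mul_apply, g2, ← g2']; simp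
  refine ⟨g'⁻¹ * g, hm, ev, ?_, ?_⟩
  · have e : w = -(-(v + w)) - v := by abel
    rw [e, co0_sub _ hm, co0_neg _ hm, ez, ev]
  · rw [Equiv.Perm.mul_apply, g3, ← g3']; simp

end Cfsg.Agent.Lib.Helper9.LeechE5
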