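import Cfsg.Agent.Lib.Helper9.HS11178e
import Cfsg.Agent.Lib.Helper9.LeechE5
import Cfsg.Agent.Lib.Helper9.LeechC7

set_option autoImplicit false

/-! The 352 minimal vectors `x` with `v·x = 16`, `w·x = -24` attached to a pair `v`, `w` of vectors
of sum of squares 48 with inner product `-32`: their number, the symmetry `x ↦ -w - x` and the
transitivity of the stabiliser of the pair; all from the orbits of the stabiliser of the standard
pair on the 11178 vectors (`HS11178e`). -/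

namespace Cfsg.Agent.Lib.Helper9.HS352a

open Cfsg Cfsg.Agent.Lib.Helper4.Leech
  Cfsg.Agent.Lib.Helper9.LeechX9 Cfsg.Agent.Lib.Helper9.LeechX11 Cfsg.Agent.Lib.Helper9.LeechE4
  Cfsg.Agent.Lib.Helper9.LeechE5 Cfsg.Agent.Lib.Helper9.LeechC7 Cfsg.Agent.Lib.Helper9.LeechP1
  Cfsg.Agent.Lib.Helper9.OrbCert2
  Cfsg.Agent.Lib.Helper9.HS11178a Cfsg.Agent.Lib.Helper9.HS11178e

/-- the set of the 352 vectors -/
def S352 (v w : leechLattice) : Set leechLattice :=
  {x | sqNorm x.1 = 32 ∧ dotInt v.1 x.1 = 16 ∧ dotInt w.1 x.1 = -24}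

theorem neg_val (a : leechLattice) : (-a).1 = -a.1 := rfl
theorem sub_val (a b : leechLattice) : (a - b).1 = a.1 - b.1 := rfl

theorem p_apply_inv (g : Equiv.Perm leechLattice) (x : leechLattice) : g (g⁻¹ x) = x :=
  g.apply_symm_apply x

theorem p_inv_apply (g : Equiv.Perm leechLattice) (x : leechLattice) : g⁻¹ (g x) = x :=
  g.symm_apply_apply x

theorem z3_norm : sqNorm z3.1 = 32 := by decide +kernel
theorem z3_rG : dotInt z3.1 rG.1 = -16 := by decide +kernel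

theorem good_inv (n : Equiv.Perm leechLattice) (hn : Good n) : Good n⁻¹ := by
  refine ⟨Co0.inv_mem hn.1, ?_, ?_⟩
  · rw [Equiv.Perm.inv_eq_iff_eq, hn.2.1]
  · rw [Equiv.Perm.inv_eq_iff_eq, hn.2.2]

theorem mem_orb_iff (y : leechLattice) :
    y ∈ Orb Good ym8 ↔ sqNorm y.1 = 32 ∧ dotInt rG.1 y.1 = -16 ∧ dotInt z3.1 y.1 = -8 := by
  have h := (orb (ym8, HS11178d.codes HS11178b.rm8 HS11178b.Em8) (by simp [blocks])).1
  have h' : Orb Good ym8 = {y : leechLattice | y.1 ∈ SF ∧ phi y = phi ym8} := h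
  rw [h', phi_m8]
  constructor
  · rintro ⟨⟨-, h1, h2⟩, h3⟩
    exact ⟨h1, h2, h3⟩
  · rintro ⟨h1, h2, h3⟩
    exact ⟨⟨y.2, h1, h2⟩, h3⟩

/-- moving the standard pair to a given pair -/
theorem exists_std (v w : leechLattice) (hv : sqNorm v.1 = 48) (hw : sqNorm w.1 = 48)
    (hvw : dotInt v.1 w.1 = -32) :
    ∃ g ∈ Co0, g rG = v ∧ g z3 = -v - w := by
  have hz : sqNorm (-v - w).1 = 32 := by
    rw [sub_val, neg_val, sqNorm_sub, sqNorm_neg, dot_neg_left, hv, hw, hvw]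
    norm_num
  have hd : dotInt (-v - w).1 v.1 = -16 := by
    rw [sub_val, neg_val, dot_sub_left, dot_neg_left, dot_self, hv, Cfsg.Agent.Lib.Helper9.LeechP9.dot_comm' w.1 v.1, hvw]
    norm_num
  obtain ⟨g, hg, g1, g2⟩ := Cfsg.Agent.Lib.Helper9.LeechP9.pairs48 z3 rG (-v - w) v z3_norm rG_norm
    hz hv z3_rG hd
  exact ⟨g, hg, g2, g1⟩

/-- the set of the 352 vectors is the image of an orbit of the stabiliser of the standard pair -/
theorem mem_S352_iff (v w : leechLattice) (g : Equiv.Perm leechLattice) (hg : g ∈ Co0)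
    (g1 : g rG = v) (g2 : g z3 = -v - w) (y : leechLattice) :
    -(g y) ∈ S352 v w ↔ y ∈ Orb Good ym8 := by
  rw [mem_orb_iff]
  have e1 : dotInt v.1 (g y).1 = dotInt rG.1 y.1 := by
    rw [← g1]
    exact dot_pres g hg rG y
  have e2 : dotInt (-v - w).1 (g y).1 = dotInt z3.1 y.1 := by
    rw [← g2]
    exact dot_pres g hg z3 y
  rw [sub_val, neg_val, dot_sub_left, dot_neg_left, e1] at e2
  show (sqNorm (-(g y)).1 = 32 ∧ dotInt v.1 (-(g y)).1 = 16 ∧ dotInt w.1 (-(g y)).1 = -24) ↔ _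
  rw [neg_val, sqNorm_neg, dot_neg_right, dot_neg_right, hg.2, e1]
  constructor
  · rintro ⟨h1, h2, h3⟩
    refine ⟨h1, by omega, by omega⟩
  · rintro ⟨h1, h2, h3⟩
    refine ⟨h1, by omega, by omega⟩

theorem card_S352 (v w : leechLattice) (hv : sqNorm v.1 = 48) (hw : sqNorm w.1 = 48)
    (hvw : dotInt v.1 w.1 = -32) : (S352 v w).ncard = 352 := by
  obtain ⟨g, hg, g1, g2⟩ := exists_std v w hv hw hvw
  have e : S352 v w = (fun y => -(g y)) '' Orb Good ym8 := by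
    ext x
    constructor
    · intro hx
      refine ⟨g⁻¹ (-x), ?_, ?_⟩
      · rw [← mem_S352_iff v w g hg g1 g2]
        rw [p_apply_inv, neg_neg]
        exact hx
      · show -(g (g⁻¹ (-x))) = x
        rw [p_apply_inv, neg_neg]
    · rintro ⟨y, hy, rfl⟩
      exact (mem_S352_iff v w g hg g1 g2 y).mpr hy
  have hinj : Function.Injective (fun y : leechLattice => -(g y)) :=
    neg_injective.comp g.injective
  rw [e, Set.ncard_image_of_injective _ hinj]
  exact card_m8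

theorem closed_S352 (v w : leechLattice) (hw : sqNorm w.1 = 48)
    (hvw : dotInt v.1 w.1 = -32) (x : leechLattice) (hx : x ∈ S352 v w) :
    -w - x ∈ S352 v w := by
  obtain ⟨h1, h2, h3⟩ := hx
  refine ⟨?_, ?_, ?_⟩
  · rw [sub_val, neg_val, sqNorm_sub, sqNorm_neg, dot_neg_left, hw, h1, h3]
    norm_num
  · rw [sub_val, neg_val, dot_sub_right, dot_neg_right, hvw, h2]
    norm_num
  · rw [sub_val, neg_val, dot_sub_right, dot_neg_right, dot_self, hw, h3]
    norm_num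

theorem trans_S352 (v w : leechLattice) (hv : sqNorm v.1 = 48) (hw : sqNorm w.1 = 48)
    (hvw : dotInt v.1 w.1 = -32) (x x' : leechLattice) (hx : x ∈ S352 v w)
    (hx' : x' ∈ S352 v w) : ∃ h ∈ Co0, h v = v ∧ h w = w ∧ h x = x' := by
  obtain ⟨g, hg, g1, g2⟩ := exists_std v w hv hw hvw
  have hy : g⁻¹ (-x) ∈ Orb Good ym8 := by
    rw [← mem_S352_iff v w g hg g1 g2, p_apply_inv, neg_neg]
    exact hx
  have hy' : g⁻¹ (-x') ∈ Orb Good ym8 := by
    rw [← mem_S352_iff v w g hg g1 g2, p_apply_inv, neg_neg]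
    exact hx'
  obtain ⟨n1, hn1, e1⟩ := hy
  obtain ⟨n2, hn2, e2⟩ := hy'
  have hn : Good (n2 * n1⁻¹) := good_mul _ _ hn2 (good_inv n1 hn1)
  have hnx : (n2 * n1⁻¹) (g⁻¹ (-x)) = g⁻¹ (-x') := by
    rw [Equiv.Perm.mul_apply, ← e1, p_inv_apply, e2]
  have hh : g * (n2 * n1⁻¹) * g⁻¹ ∈ Co0 := Co0.mul_mem (Co0.mul_mem hg hn.1) (Co0.inv_mem hg)
  have hv' : (g * (n2 * n1⁻¹) * g⁻¹) v = v := by
    rw [Equiv.Perm.mul_apply, Equiv.Perm.mul_apply, ← g1, p_inv_apply, hn.2.1]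
  have hz' : (g * (n2 * n1⁻¹) * g⁻¹) (-v - w) = -v - w := by
    rw [Equiv.Perm.mul_apply, Equiv.Perm.mul_apply, ← g2, p_inv_apply, hn.2.2]
  refine ⟨g * (n2 * n1⁻¹) * g⁻¹, hh, hv', ?_, ?_⟩
  · rw [co0_sub _ hh, co0_neg _ hh, hv'] at hz'
    have := sub_right_injective hz'
    exact this
  · have e : (g * (n2 * n1⁻¹) * g⁻¹) (-x) = -x' := by
      rw [Equiv.Perm.mul_apply, Equiv.Perm.mul_apply, hnx, p_apply_inv]
    rw [co0_neg _ hh] at e
    exact neg_injective e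

end Cfsg.Agent.Lib.Helper9.HS352a
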