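import Cfsg.Agent.Lib.Helper9.HSc
import Cfsg.Agent.Lib.Helper9.SSC
import Cfsg.Agent.Lib.Helper9.GrpCount

set_option autoImplicit false
set_option maxRecDepth 100000

/-! Words in the tables of the permutation group of degree 100: membership, equality on the base
points, the stabiliser of the first base point. -/

namespace Cfsg.Agent.Lib.Helper9.HSa

open Cfsg.Agent.Lib.Helper8.SS Cfsg.Agent.Lib.Helper8.MatN Cfsg.Agent.Lib.Helper8.FastDec
  Cfsg.Agent.Lib.Helper9.SSB Cfsg.Agent.Lib.Helper9.SSC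

/-- the base points of the chain -/
def BASE : List ℕ := [0, 1, 2, 3, 4, 5]

/-- the fingerprint of a word -/
noncomputable def fpw (w : List ℕ) : ℕ := fpS pN pM BASE (fwd w)

/-- equality of words on the base points -/
noncomputable def eqw (w w' : List ℕ) : Bool := eqP pN pM BASE (fwd w) (fwd w')

/-- the conjugate of a word by a word -/
def conjw (c w : List ℕ) : List (ℕ × Bool) := conjS (fwd c) (fwd w)

/-- the permutation of a word -/
noncomputable abbrev KW (w : List ℕ) : Equiv.Perm (Fin 100) := prodW 100 pN pM w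

/-- the permutation of a signed word -/
noncomputable abbrev KS (w : List (ℕ × Bool)) : Equiv.Perm (Fin 100) := prodS 100 pN pM w

/-- the first base point -/
def p0 : Fin 100 := ⟨0, by norm_num⟩

/-- the stabiliser of the first base point -/
noncomputable def K0 : Subgroup (Equiv.Perm (Fin 100)) := grp 100 pN pM L1.S

theorem chain1 : ChainOK 100 pN 273 [L1, L2, L3, L4, L5] := chain.2

/-- the tables of the deeper levels -/
def deep1 : List ℕ := deepOf [L1, L2, L3, L4, L5]

theorem deep1_mem : ∀ i ∈ deep1, i < 273 ∧ P 100 pN pM i ∈ K0 :=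
  (chain_spec (pM := pM) valid_all id_tab _ chain1).1

theorem K0_le : K0 ≤ K :=
  (level_spec (pM := pM) valid_all id_tab L0 L1.S (deepOf [L1, L2, L3, L4, L5]) chain.1
    deep1_mem).2.1

theorem K0_fix (g : Equiv.Perm (Fin 100)) (hg : g ∈ K0) : g p0 = p0 :=
  grp_fix valid_all chain1.1.2.1 (by norm_num : 0 < 100) chain.1.2.2.2.2.2.2.2.1 g hg

theorem mem_K0_of_fix (g : Equiv.Perm (Fin 100)) (hg : g ∈ K) (h : g p0 = p0) : g ∈ K0 :=
  stab_spec valid_all id_tab L0 L1.S (deepOf [L1, L2, L3, L4, L5]) chain.1 deep1_mem g hg h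

theorem KW_mem_K {w : List ℕ} (hw : ∀ i ∈ w, i < 273) : KW w ∈ K :=
  prodW_mem (fun i hi => P_mem_K i (hw i hi))

theorem fwd_lt {w : List ℕ} (hw : ∀ i ∈ w, i < 273) : ∀ l ∈ fwd w, l.1 < 273 := by
  intro l hl
  unfold fwd at hl
  rw [List.mem_map] at hl
  obtain ⟨i, hi, rfl⟩ := hl
  exact hw i hi

theorem KS_mem_K {w : List (ℕ × Bool)} (hw : ∀ l ∈ w, l.1 < 273) : KS w ∈ K :=
  prodS_mem' (fun l hl => P_mem_K l.1 (hw l hl))

theorem base_eq : baseOf [L0, L1, L2, L3, L4, L5] = BASE := by decide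

/-- signed words that agree on the base points are equal -/
theorem KS_eq_of_eqP {w w' : List (ℕ × Bool)} (hw : ∀ l ∈ w, l.1 < 273)
    (hw' : ∀ l ∈ w', l.1 < 273) (h : eqP pN pM BASE w w' = true) : KS w = KS w' := by
  rw [← base_eq] at h
  exact prodS_eq_of_eqP valid_all id_tab [L0, L1, L2, L3, L4, L5] chain
    (fun l hl => ⟨hw l hl, P_mem_K l.1 (hw l hl)⟩)
    (fun l hl => ⟨hw' l hl, P_mem_K l.1 (hw' l hl)⟩) h

theorem KS_fwd (w : List ℕ) : KS (fwd w) = KW w := prodS_fwd 100 pN pM w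

theorem KW_eq_of_eqw {w w' : List ℕ} (hw : ∀ i ∈ w, i < 273) (hw' : ∀ i ∈ w', i < 273)
    (h : eqw w w' = true) : KW w = KW w' := by
  have := KS_eq_of_eqP (fwd_lt hw) (fwd_lt hw') h
  rwa [KS_fwd, KS_fwd] at this

theorem BASE_lt : ∀ x ∈ BASE, x < 100 := by decide

theorem fpS_eq {w w' : List (ℕ × Bool)} (hw : ∀ l ∈ w, l.1 < 273) (hw' : ∀ l ∈ w', l.1 < 273)
    (e : KS w = KS w') : fpS pN pM BASE w = fpS pN pM BASE w' :=
  fpS_eq_of_prodS valid_all BASE_lt hw hw' e

theorem fpw_eq {w w' : List ℕ} (hw : ∀ i ∈ w, i < 273) (hw' : ∀ i ∈ w', i < 273)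
    (e : KW w = KW w') : fpw w = fpw w' := by
  apply fpS_eq (fwd_lt hw) (fwd_lt hw')
  rw [KS_fwd, KS_fwd]
  exact e

theorem conjw_lt {c w : List ℕ} (hc : ∀ i ∈ c, i < 273) (hw : ∀ i ∈ w, i < 273) :
    ∀ l ∈ conjw c w, l.1 < 273 := by
  intro l hl
  unfold conjw conjS at hl
  rw [List.mem_append, List.mem_append] at hl
  rcases hl with (h | h) | h
  · exact fwd_lt hc l h
  · exact fwd_lt hw l h
  · rw [List.mem_map] at h
    obtain ⟨l', hl', rfl⟩ := h
    exact fwd_lt hc l' (List.mem_reverse.mp hl')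

theorem KS_conjw (c w : List ℕ) : KS (conjw c w) = KW c * KW w * (KW c)⁻¹ := by
  have h : KS (conjS (fwd c) (fwd w)) = KS (fwd c) * KS (fwd w) * (KS (fwd c))⁻¹ :=
    prodS_conjS _ _
  rw [KS_fwd, KS_fwd] at h
  exact h

theorem append_lt {w w' : List ℕ} (hw : ∀ i ∈ w, i < 273) (hw' : ∀ i ∈ w', i < 273) :
    ∀ i ∈ w ++ w', i < 273 := by
  intro i hi
  rcases List.mem_append.mp hi with h | h
  · exact hw i h
  · exact hw' i h

theorem getD_forall {α : Type*} {l : List (List α)} {p : α → Prop} (h : ∀ w ∈ l, ∀ i ∈ w, p i)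
    (a : ℕ) : ∀ i ∈ l.getD a [], p i := by
  intro i hi
  by_cases ha : a < l.length
  · rw [List.getD_eq_getElem _ _ ha] at hi
    exact h _ (List.getElem_mem ha) i hi
  · rw [List.getD_eq_default _ _ (not_lt.mp ha)] at hi
    simp at hi

theorem idx_eq_of_nodup {α β : Type*} (l : List α) (d : α) (F : α → β) (h : (l.map F).Nodup)
    {i j : ℕ} (hi : i < l.length) (hj : j < l.length) (e : F (l.getD i d) = F (l.getD j d)) :
    i = j := by
  rw [List.getD_eq_getElem _ _ hi, List.getD_eq_getElem _ _ hj] at e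
  have hi' : i < (l.map F).length := by rw [List.length_map]; exact hi
  have hj' : j < (l.map F).length := by rw [List.length_map]; exact hj
  have : (l.map F)[i] = (l.map F)[j] := by rw [List.getElem_map, List.getElem_map]; exact e
  exact (List.Nodup.getElem_inj_iff h).mp this

theorem KW_single (a : ℕ) : KW [a] = P 100 pN pM a := by
  show prodW 100 pN pM [a] = _
  rw [prodW_cons, prodW_nil, mul_one]

theorem KS_single (a : ℕ) : KS [(a, true)] = P 100 pN pM a := by
  have := KS_fwd [a]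
  rw [KW_single] at this
  exact this

theorem KS_single_inv (a : ℕ) : KS [(a, false)] = (P 100 pN pM a)⁻¹ := by
  show prodS 100 pN pM [(a, false)] = _
  rw [prodS_cons]
  show PS 100 pN pM (a, false) * 1 = _
  rw [mul_one]
  unfold PS
  simp

theorem KW_nil : KW [] = 1 := rfl

theorem KS_nil : KS [] = 1 := rfl

theorem P0 : P 100 pN pM 0 = 1 := P_zero (valid_all 0 (by norm_num)) id_tab

theorem lt_pair {a b : ℕ} (ha : a < 273) (hb : b < 273) : ∀ i ∈ [a, b], i < 273 := by
  intro i hi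
  simp only [List.mem_cons, List.not_mem_nil, or_false] at hi
  rcases hi with rfl | rfl
  · exact ha
  · exact hb

theorem lt_single {a : ℕ} (ha : a < 273) : ∀ i ∈ [a], i < 273 := by
  intro i hi
  simp only [List.mem_cons, List.not_mem_nil, or_false] at hi
  rw [hi]
  exact ha

theorem lt_sing {a : ℕ} (ha : a < 273) : ∀ l ∈ [((a, true) : ℕ × Bool)], l.1 < 273 := by
  intro l hl
  simp only [List.mem_cons, List.not_mem_nil, or_false] at hl
  rw [hl]
  exact ha

/-- words whose letters are below the number of tables (boolean) -/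
def ltB (w : List ℕ) : Bool := w.all (fun i => Nat.blt i 273)

theorem lt_of_ltB {w : List ℕ} (h : ltB w = true) : ∀ i ∈ w, i < 273 := by
  intro i hi
  unfold ltB at h
  rw [List.all_eq_true] at h
  have := h i hi
  rwa [Nat.blt_eq] at this

end Cfsg.Agent.Lib.Helper9.HSa
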