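import Cfsg.Agent.Lib.Helper9.HS352a
import Cfsg.Agent.Lib.Helper9.HSe
import Cfsg.Agent.Lib.Helper9.HSg

set_option autoImplicit false
set_option maxHeartbeats 1000000
set_option maxRecDepth 1000000

/-! The stabiliser of a vector of the 352-set in the stabiliser of the standard pair, as a subgroup
of the permutation group of degree 100 (`HSc`): it is the stabiliser of the function
`i ↦ (i-th point) · x` on the 100 points, because the 100 points and the first base vector span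
the space. -/

namespace Cfsg.Agent.Lib.Helper9.HS352b

open Cfsg Cfsg.Agent.Lib.Helper4.Leech Cfsg.Agent.Lib.Helper9.Golay1
  Cfsg.Agent.Lib.Helper9.LeechM1 Cfsg.Agent.Lib.Helper9.LeechX4
  Cfsg.Agent.Lib.Helper9.LeechX7 Cfsg.Agent.Lib.Helper9.LeechX8 Cfsg.Agent.Lib.Helper9.LeechX9
  Cfsg.Agent.Lib.Helper9.LeechX11
  Cfsg.Agent.Lib.Helper9.LeechE3 Cfsg.Agent.Lib.Helper9.LeechE4 Cfsg.Agent.Lib.Helper9.LeechE5
  Cfsg.Agent.Lib.Helper9.LeechC7
  Cfsg.Agent.Lib.Helper9.OrbCert1 Cfsg.Agent.Lib.Helper9.OrbCert3 Cfsg.Agent.Lib.Helper9.GolayQR1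
  Cfsg.Agent.Lib.Helper9.HSsimple2 Cfsg.Agent.Lib.Helper9.HSsimple3
  Cfsg.Agent.Lib.Helper9.HSa Cfsg.Agent.Lib.Helper9.HSd
  Cfsg.Agent.Lib.Helper9.HSe Cfsg.Agent.Lib.Helper9.HS352a
  Cfsg.Agent.Lib.Helper8.SS

/-- the base vector of the 352-set -/
def Lx : List ℤ := [2, 0, 2, 0, 0, 0, 0, 0, 0, 0, 0, 0, 0, 2, 2, 2, 2, 2, 0, 0, 2, 0, 0, 0]

theorem Lx_mem : vecL Lx ∈ leechLattice :=
  mem_of_data _ 0 1302533 (Or.inl rfl) (by decide +kernel) (by decide +kernel) (by decide +kernel)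

def xB : leechLattice := ⟨vecL Lx, Lx_mem⟩

theorem xB_mem : xB ∈ S352 rG w0 := ⟨by decide +kernel, by decide +kernel, by decide +kernel⟩

/-- the inner products of the 100 points with the base vector -/
def DL : List ℤ := [8, 8, 16, 8, 8, 8, 16, 8, 8, 16, 8, 16, 16, 16, 16, 16, 8, 8, 16, 16, 8, 16, 16, 8, 16, 8, 8, 16, 8, 16, 16, 16, 8, 8, 8, 16, 16, 16, 8, 8, 8, 16, 16, 8, 16, 16, 16, 8, 8, 16, 8, 16, 16, 8, 16, 16, 8, 8, 16, 16, 8, 8, 8, 16, 16, 16, 16, 8, 8, 16, 16, 8, 16, 16, 8, 8, 16, 16, 8, 16, 8, 8, 8, 8, 8, 16, 8, 8, 16, 8, 8, 8, 16, 16, 16, 8, 16, 8, 16, 8]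

theorem DL_ok : ∀ i < 100, dotInt (vecN (C.getD i 0)) xB.1 = DL.getD i 0 := by decide +kernel

/-- the code of the first vector of the standard pair -/
def cG : ℕ := 67343938137124686954512357785

theorem rG_code : rG.1 = vecN cG := by
  funext i
  revert i
  decide +kernel

/-- the coefficients expressing 96 times the unit vectors by the first base vector and the first 23 points -/
def NC : List (List ℤ) := [[-24, -1, 1, 2, -4, -3, -3, -3, 6, 7, 5, 14, 11, 5, 8, 1, -12, -5, 8, -6, 9, 12, 3, -3],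
  [0, -25, 1, 2, -4, -3, -3, -27, 6, 7, 5, 14, 11, 5, 8, 1, -12, -5, 8, -6, 9, 12, 3, -3],
  [0, -19, -5, 14, -4, 15, -9, -9, -6, 13, -1, 2, 17, -1, 8, -5, -12, 1, -16, 6, 3, 12, 9, -9],
  [0, 11, -35, 26, -4, 9, 9, 9, 6, -29, -7, 14, -1, -7, -40, 13, 12, 31, -16, -6, -3, 12, 15, -15],
  [0, 17, 7, -10, -4, 3, 3, 3, -6, -23, 11, 2, -19, -13, -16, 7, 12, 13, 8, 6, 15, -12, -3, 3],
  [0, 11, -11, 2, -4, 9, 9, 9, 6, -5, -7, -10, -1, -7, -16, 13, 12, 7, 8, -6, -3, -12, -9, 9],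
  [0, 5, -5, -10, 8, 3, 15, 3, -18, 1, -1, 2, -19, 11, -4, -5, 12, 1, -4, 6, -9, 0, 9, 3],
  [0, 17, -17, 38, 8, 15, 3, 15, -18, -11, -13, 2, -7, -1, -28, 7, 12, 37, -28, 6, -21, 0, -3, -9],
  [0, -25, 1, 2, -4, -3, -3, -3, 6, 7, 5, 14, 11, 5, 8, 1, -36, -5, 8, -6, 9, 12, 3, -3],
  [0, 17, 7, -34, -4, -21, 3, 3, -6, 25, 11, 2, -19, 11, 8, -17, 12, -11, 8, 6, -9, -12, -3, 27],
  [0, -25, 1, 2, 8, 9, -3, -15, 18, -5, 5, 14, 23, -7, 20, 1, -12, -5, -4, -6, -3, 0, 3, -15],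
  [0, -13, 13, 2, -4, 9, -15, 9, 6, 19, -7, -10, -1, 17, 8, -11, -12, -17, 8, -6, -3, 12, -9, 9],
  [0, -25, 25, -22, 8, -15, -3, -15, 18, 19, 5, -10, -1, -7, 20, 1, -12, -29, 20, -6, 21, 0, 3, 9],
  [0, -25, 1, 2, -4, -3, -3, -3, 6, 7, 5, 14, 11, 5, 8, 1, -12, -29, 8, -6, 9, 12, 3, -3],
  [0, 11, -11, 26, -4, 9, 9, 9, 6, -29, -7, -10, -1, -7, -16, 13, 12, 31, -16, 18, -3, -12, -9, -15],
  [0, 17, -17, -10, 8, -9, 3, 15, -18, 13, 11, 2, -7, 23, -4, -17, 12, -11, -4, -18, 3, 0, -3, 15],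
  [0, -19, 19, -10, -4, -9, -9, -9, 18, -11, -1, 2, 17, -1, 8, 19, -12, 1, 8, 6, 3, -12, 9, -9],
  [0, -13, 13, -22, -4, -15, -15, -15, 6, 19, 17, -10, -1, -7, 32, 13, -12, -17, 8, -6, 21, 12, -9, 9],
  [0, -13, 13, 2, 8, -3, -15, -3, 18, -17, -7, -10, 11, -19, -4, 13, -12, 7, 20, 18, 9, 0, -9, -3],
  [0, -25, 1, 2, -4, -3, -3, -3, 6, 7, -19, 14, 11, 5, 8, 1, -12, -5, 8, -6, 9, 12, 3, -3],
  [0, 23, 1, 2, -4, -3, -3, 21, -18, 7, 5, -10, -13, 5, 8, -23, 12, -5, 8, -6, -15, -12, 3, 21],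
  [0, -1, 1, 2, -4, -3, 21, -3, -18, 7, 5, 14, 11, 5, 8, -23, 12, -5, -16, -6, -15, 12, 3, -3],
  [0, -25, 1, 2, -4, -3, -3, -3, 6, 7, 5, 14, 11, 5, 8, 1, -12, -5, 8, -6, 9, 12, 3, -27],
  [24, 25, -1, -2, 4, 3, 3, 3, -6, -7, -5, -14, -11, -5, -8, -1, 12, 5, -8, 6, -9, -12, -3, 3]]

/-- the codes of the spanning vectors -/
def BC : List ℕ := cG :: (List.range 23).map (fun j => C.getD j 0)

/-- a linear combination of coded vectors -/
def lcomb (cs : List (ℤ × ℕ)) : GolayPt → ℤ := fun i => (cs.map (fun p => p.1 * vecN p.2 i)).sum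

theorem dot_mul_left (c : ℤ) (a y : GolayPt → ℤ) :
    dotInt (fun i => c * a i) y = c * dotInt a y := by
  unfold dotInt
  rw [Finset.mul_sum]
  exact Finset.sum_congr rfl (fun i _ => mul_assoc _ _ _)

theorem dot_zero_left (y : GolayPt → ℤ) : dotInt (fun _ => 0) y = 0 := by
  unfold dotInt
  simp

theorem dot_lcomb (cs : List (ℤ × ℕ)) (y : GolayPt → ℤ) :
    dotInt (lcomb cs) y = (cs.map (fun p => p.1 * dotInt (vecN p.2) y)).sum := by
  induction cs with
  | nil => exact dot_zero_left y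
  | cons p cs ih =>
    have e : lcomb (p :: cs) = (fun i => p.1 * vecN p.2 i) + lcomb cs := by
      funext i
      show ((p :: cs).map (fun p => p.1 * vecN p.2 i)).sum = _
      rw [List.map_cons, List.sum_cons]
      rfl
    rw [e, dot_add_left, dot_mul_left, ih, List.map_cons, List.sum_cons]

theorem lcomb_ok : ∀ k i : GolayPt,
    lcomb ((NC.getD (idx k) []).zip BC) i = if i = k then 96 else 0 := by decide +kernel

theorem dot_single (k : GolayPt) (y : GolayPt → ℤ) :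
    dotInt (fun i => if i = k then 96 else 0) y = 96 * y k := by
  unfold dotInt
  rw [Finset.sum_eq_single k]
  · show (if k = k then (96 : ℤ) else 0) * y k = 96 * y k
    rw [if_pos rfl]
  · intro b _ hb
    show (if b = k then (96 : ℤ) else 0) * y b = 0
    rw [if_neg hb, zero_mul]
  · intro h
    exact absurd (Finset.mem_univ k) h

/-- a vector orthogonal to the spanning vectors is zero -/
theorem zero_of_dots (y : GolayPt → ℤ) (h : ∀ c ∈ BC, dotInt (vecN c) y = 0) : y = 0 := by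
  funext k
  have e1 : dotInt (lcomb ((NC.getD (idx k) []).zip BC)) y = 96 * y k := by
    rw [funext (lcomb_ok k), dot_single]
  rw [dot_lcomb] at e1
  have e2 : (((NC.getD (idx k) []).zip BC).map (fun p => p.1 * dotInt (vecN p.2) y)).sum = 0 := by
    apply List.sum_eq_zero
    intro t ht
    rw [List.mem_map] at ht
    obtain ⟨p, hp, rfl⟩ := ht
    rw [h p.2 (List.of_mem_zip hp).2, mul_zero]
  rw [e2] at e1
  have : y k = 0 := by omega
  exact this

/-- the inner product with the base vector, on the numbers of the points -/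
def dd (i : Fin 100) : ℤ := DL.getD i.1 0

theorem dd_eq (i : Fin 100) : dotInt (pt i).1.1 xB.1 = dd i := DL_ok i.1 i.2

/-- the stabiliser of the function `dd` in the permutation group -/
def Kd : Subgroup (Equiv.Perm (Fin 100)) where
  carrier := {σ | σ ∈ K ∧ ∀ i : Fin 100, dd (σ i) = dd i}
  mul_mem' := by
    rintro a b ⟨ha, ha'⟩ ⟨hb, hb'⟩
    refine ⟨K.mul_mem ha hb, fun i => ?_⟩
    rw [Equiv.Perm.mul_apply, ha', hb']
  one_mem' := ⟨K.one_mem, fun _ => rfl⟩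
  inv_mem' := by
    rintro a ⟨ha, ha'⟩
    refine ⟨K.inv_mem ha, fun i => ?_⟩
    have := ha' (a⁻¹ i)
    rw [show a (a⁻¹ i) = i from a.apply_symm_apply i] at this
    exact this.symm

theorem mem_Kd (σ : Equiv.Perm (Fin 100)) : σ ∈ Kd ↔ σ ∈ K ∧ ∀ i : Fin 100, dd (σ i) = dd i :=
  Iff.rfl

/-- the stabiliser of the base vector in the stabiliser of the standard pair -/
abbrev TB : Subgroup ↥G0 := MulAction.stabilizer ↥G0 xB

theorem mem_TB (g : ↥G0) : g ∈ TB ↔ g.1.1 xB = xB := MulAction.mem_stabilizer_iff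

/-- its action on the numbers of the 100 points -/
noncomputable def PhiB : ↥TB →* Equiv.Perm (Fin 100) := phi.comp TB.subtype

theorem PhiB_inj : Function.Injective PhiB := phi_inj.comp TB.subtype_injective

theorem pt_phi (g : ↥G0) (i : Fin 100) : (pt (phi g i)).1 = g.1.1 (pt i).1 := by
  have h : e3 (phi g i) = g • e3 i := by
    show e3 (e3.symm (g • (e3.symm.symm i))) = g • e3 i
    rw [Equiv.apply_symm_apply, Equiv.symm_symm]
  rw [e3_apply, e3_apply] at h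
  rw [h]
  rfl

theorem PhiB_range : PhiB.range = Kd := by
  apply le_antisymm
  · rintro _ ⟨g, rfl⟩
    refine ⟨?_, ?_⟩
    · have h : phi g.1 ∈ phi.range := ⟨_, rfl⟩
      rw [range_phi] at h
      exact h
    · intro i
      show dd (phi g.1 i) = dd i
      rw [← dd_eq, ← dd_eq, pt_phi]
      have hx : g.1.1.1 xB = xB := (mem_TB g.1).mp g.2
      have := dot_pres g.1.1.1 g.1.1.2 (pt i).1 xB
      rw [hx] at this
      exact this
  · rintro σ ⟨hσ, hd⟩
    rw [← range_phi] at hσ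
    obtain ⟨g, rfl⟩ := hσ
    have hg := (mem_G0 g.1).mp g.2
    have hc : g.1.1 ∈ Co0 := g.1.2
    have hz : (g.1.1 xB).1 - xB.1 = 0 := by
      apply zero_of_dots
      intro c hc'
      rw [dot_sub_right, sub_eq_zero]
      simp only [BC, List.mem_cons, List.mem_map, List.mem_range] at hc'
      rcases hc' with rfl | ⟨j, hj, rfl⟩
      · rw [← rG_code]
        have := dot_pres g.1.1 hc rG xB
        rw [hg.1] at this
        exact this
      · have hj' : j < 100 := by omega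
        let i : Fin 100 := ⟨j, hj'⟩
        let i' : Fin 100 := (phi g)⁻¹ i
        have hi : phi g i' = i := (phi g).apply_symm_apply i
        have h1 : (pt i).1 = g.1.1 (pt i').1 := by rw [← hi, pt_phi]
        show dotInt (pt i).1.1 (g.1.1 xB).1 = dotInt (pt i).1.1 xB.1
        rw [dd_eq i, h1, dot_pres g.1.1 hc, dd_eq i', ← hd i', hi]
    have hx : g.1.1 xB = xB := Subtype.ext (sub_eq_zero.mp hz)
    exact ⟨⟨g, (mem_TB g).mpr hx⟩, rfl⟩

/-- the orbit of the base vector is the 352-set -/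
theorem orbit_xB : MulAction.orbit ↥G0 xB = S352 rG w0 := by
  ext y
  constructor
  · rintro ⟨g, rfl⟩
    have hg := (mem_G0 g.1).mp g.2
    have hc : g.1.1 ∈ Co0 := g.1.2
    obtain ⟨h1, h2, h3⟩ := xB_mem
    show sqNorm (g.1.1 xB).1 = 32 ∧ dotInt rG.1 (g.1.1 xB).1 = 16 ∧ dotInt w0.1 (g.1.1 xB).1 = -24
    refine ⟨by rw [hc.2, h1], ?_, ?_⟩
    · have := dot_pres g.1.1 hc rG xB
      rw [hg.1] at this
      rw [this, h2]
    · have := dot_pres g.1.1 hc w0 xB
      rw [hg.2] at this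
      rw [this, h3]
  · intro hy
    obtain ⟨h, hh, h1, h2, h3⟩ := trans_S352 rG w0 rG_norm w0_norm rG_w0 xB y xB_mem hy
    exact ⟨mkG h hh h1 h2, h3⟩

theorem card_TB : Nat.card ↥TB = 126000 := by
  have h1 := Nat.card_congr (MulAction.orbitProdStabilizerEquivGroup ↥G0 xB)
  rw [Nat.card_prod, card_G0, orbit_xB, Nat.card_coe_set_eq,
    card_S352 rG w0 rG_norm w0_norm rG_w0] at h1
  have h2 : 352 * Nat.card ↥TB = 44352000 := h1
  omega

theorem card_Kd : Nat.card ↥Kd = 126000 := by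
  rw [← PhiB_range, ← card_TB]
  exact (Nat.card_congr (MonoidHom.ofInjective PhiB_inj).toEquiv).symm

/-- the stabiliser of the base vector, as a permutation group -/
noncomputable def TB_equiv_Kd : ↥TB ≃* ↥Kd :=
  (MonoidHom.ofInjective PhiB_inj).trans (MulEquiv.subgroupCongr PhiB_range)

end Cfsg.Agent.Lib.Helper9.HS352b
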