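import Cfsg.Agent.Lib.Helper9.HS352b

set_option autoImplicit false
set_option maxHeartbeats 1000000

/-! The stabiliser in the automorphism group of the Leech lattice of a triple `v`, `w`, `x`
(`v`, `w` of sum of squares 48 with inner product `-32`, `x` one of the 352 vectors) is isomorphic
to the subgroup `Kd` of the permutation group of degree 100. -/

namespace Cfsg.Agent.Lib.Helper9.HS352c

open Cfsg Cfsg.Agent.Lib.Helper4.Leech
  Cfsg.Agent.Lib.Helper9.LeechX9 Cfsg.Agent.Lib.Helper9.LeechX11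
  Cfsg.Agent.Lib.Helper9.LeechE4 Cfsg.Agent.Lib.Helper9.LeechE5
  Cfsg.Agent.Lib.Helper9.HSsimple2 Cfsg.Agent.Lib.Helper9.HSsimple3
  Cfsg.Agent.Lib.Helper9.HS352a Cfsg.Agent.Lib.Helper9.HS352b

/-- conjugating the stabiliser of a triple -/
theorem stab3_conj {G α : Type*} [Group G] [MulAction G α] (g : G) (u v x : α) :
    Nonempty (↥(MulAction.stabilizer G u ⊓ MulAction.stabilizer G v ⊓ MulAction.stabilizer G x) ≃*
      ↥(MulAction.stabilizer G (g • u) ⊓ MulAction.stabilizer G (g • v) ⊓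
        MulAction.stabilizer G (g • x))) := by
  have hinj : Function.Injective (MulAut.conj g).toMonoidHom := (MulAut.conj g).injective
  have e : MulAction.stabilizer G (g • u) ⊓ MulAction.stabilizer G (g • v) ⊓
      MulAction.stabilizer G (g • x) =
      (MulAction.stabilizer G u ⊓ MulAction.stabilizer G v ⊓ MulAction.stabilizer G x).map
        (MulAut.conj g).toMonoidHom := by
    rw [Subgroup.map_inf _ _ _ hinj, Subgroup.map_inf _ _ _ hinj,
      MulAction.stabilizer_smul_eq_stabilizer_map_conj,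
      MulAction.stabilizer_smul_eq_stabilizer_map_conj,
      MulAction.stabilizer_smul_eq_stabilizer_map_conj]
  rw [e]
  exact ⟨(MulAut.conj g).subgroupMap _⟩

/-- the stabiliser of the standard triple -/
abbrev TS : Subgroup ↥Co0 :=
  MulAction.stabilizer ↥Co0 rG ⊓ MulAction.stabilizer ↥Co0 w0 ⊓ MulAction.stabilizer ↥Co0 xB

theorem TS_le : TS ≤ G0 := inf_le_left

theorem TB_eq : TB = TS.subgroupOf G0 := by
  ext g
  rw [Subgroup.mem_subgroupOf, mem_TB]
  constructor
  · intro h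
    exact ⟨g.2, MulAction.mem_stabilizer_iff.mpr (by exact h)⟩
  · rintro ⟨-, h⟩
    exact MulAction.mem_stabilizer_iff.mp h

/-- the stabiliser of the standard triple as a subgroup of the stabiliser of the standard pair -/
noncomputable def TS_equiv_TB : ↥TS ≃* ↥TB :=
  (Subgroup.subgroupOfEquivOfLe TS_le).symm.trans (MulEquiv.subgroupCongr TB_eq.symm)

/-- moving a triple to the standard triple -/
theorem to_std (v w x : leechLattice) (hv : sqNorm v.1 = 48) (hw : sqNorm w.1 = 48)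
    (hvw : dotInt v.1 w.1 = -32) (hx : x ∈ S352 v w) :
    ∃ g ∈ Co0, g v = rG ∧ g w = w0 ∧ g x = xB := by
  obtain ⟨g, hg, g1, g2⟩ := hs_pair_std v w hv hw hvw
  have hx1 : g x ∈ S352 rG w0 := by
    obtain ⟨h1, h2, h3⟩ := hx
    refine ⟨by rw [hg.2, h1], ?_, ?_⟩
    · rw [← g1, dot_pres g hg, h2]
    · rw [← g2, dot_pres g hg, h3]
  obtain ⟨h, hh, h1, h2, h3⟩ := trans_S352 rG w0 rG_norm w0_norm rG_w0 (g x) xB hx1 xB_mem
  refine ⟨h * g, Co0.mul_mem hh hg, ?_, ?_, ?_⟩
  · rw [Equiv.Perm.mul_apply, g1, h1]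
  · rw [Equiv.Perm.mul_apply, g2, h2]
  · rw [Equiv.Perm.mul_apply, h3]

/-- the stabiliser of a triple is isomorphic to the subgroup `Kd` of the permutation group -/
theorem stab_equiv_Kd (v w x : leechLattice) (hv : sqNorm v.1 = 48) (hw : sqNorm w.1 = 48)
    (hvw : dotInt v.1 w.1 = -32) (hx : x ∈ S352 v w) :
    Nonempty (↥(MulAction.stabilizer ↥Co0 v ⊓ MulAction.stabilizer ↥Co0 w ⊓
      MulAction.stabilizer ↥Co0 x) ≃* ↥Kd) := by
  obtain ⟨g, hg, g1, g2, g3⟩ := to_std v w x hv hw hvw hx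
  let δ : ↥Co0 := ⟨g, hg⟩
  have e1 : δ • v = rG := g1
  have e2 : δ • w = w0 := g2
  have e3 : δ • x = xB := g3
  obtain ⟨f1⟩ := stab3_conj δ v w x
  rw [e1, e2, e3] at f1
  exact ⟨f1.trans (TS_equiv_TB.trans TB_equiv_Kd)⟩

end Cfsg.Agent.Lib.Helper9.HS352c
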