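import Cfsg.Agent.Lib.Helper9.HS352c
import Cfsg.Agent.Lib.Helper4.U35Iso

set_option autoImplicit false
set_option maxHeartbeats 0
set_option maxRecDepth 1000000

/-! The subgroup `Kd` (the stabiliser of one of the 352 vectors) of the permutation group of degree
100 (`HSa`) is isomorphic to the presented group `PU35p.P.Grp` of helper4 (the unitary group `U₃(5)`):
images of the generators `c, d` are given as words in the strong generators (found off line by a random
search in the stabiliser), the relators are checked on the base points. -/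

namespace Cfsg.Agent.Lib.Helper9.HSU35

open Cfsg Cfsg.Agent.Lib.Helper8.SS Cfsg.Agent.Lib.Helper8.MatN
  Cfsg.Agent.Lib.Helper9.SSB Cfsg.Agent.Lib.Helper9.SSC Cfsg.Agent.Lib.Helper9.HSa
  Cfsg.Agent.Lib.Helper9.HS352a Cfsg.Agent.Lib.Helper9.HS352b Cfsg.Agent.Lib.Helper9.HS352c
  Cfsg.Agent.Lib.Helper4.TC Cfsg.Agent.Lib.Helper4.TC.Log

/-- the words of the four letters `c, c⁻¹, d, d⁻¹` -/
def LW : List (List ℕ) := [[70, 112, 202, 258], [93, 169, 223, 244, 250, 260],
  [100, 175, 218, 245, 253, 258], [46, 162, 209, 245, 249, 259]]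

/-- the word of a letter -/
def lw (l : ℕ) : List ℕ := LW.getD l []

/-- the word of a list of letters -/
def expW : List ℕ → List ℕ
  | [] => []
  | l :: L => lw l ++ expW L

theorem LW_lt : ∀ w ∈ LW, ∀ i ∈ w, i < 273 := by decide +kernel

theorem LW_dd : ∀ w ∈ LW, ∀ x < 100, DL.getD (ev pN w x) 0 = DL.getD x 0 := by decide +kernel

theorem lw_cases (l : ℕ) : lw l ∈ LW ∨ lw l = [] := by
  unfold lw
  by_cases h : l < LW.length
  · left
    rw [List.getD_eq_getElem _ _ h]
    exact List.getElem_mem h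
  · right
    exact List.getD_eq_default _ _ (by omega)

theorem lw_lt (l : ℕ) : ∀ i ∈ lw l, i < 273 := by
  intro i hi
  rcases lw_cases l with h | h
  · exact LW_lt _ h i hi
  · rw [h] at hi
    simp at hi

theorem expW_lt (L : List ℕ) : ∀ i ∈ expW L, i < 273 := by
  induction L with
  | nil => intro i hi; simp [expW] at hi
  | cons l L ih =>
    intro i hi
    rw [expW, List.mem_append] at hi
    rcases hi with h | h
    · exact lw_lt l i h
    · exact ih i h

theorem lw_dd (l : ℕ) (x : Fin 100) : dd (KW (lw l) x) = dd x := by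
  have hv : ∀ i ∈ lw l, Valid 100 (pN i) (pM i) := fun i hi => valid_all i (lw_lt l i hi)
  show DL.getD ((prodW 100 pN pM (lw l)) x).1 0 = DL.getD x.1 0
  rw [prodW_apply 100 pN pM hv x]
  rcases lw_cases l with h | h
  · exact LW_dd _ h x.1 x.2
  · rw [h]
    rfl

/-- the images of the letters -/
noncomputable def gK (l : ℕ) : ↥Kd :=
  ⟨KW (lw l), KW_mem_K (lw_lt l), fun i => lw_dd l i⟩

theorem wordP_gK (L : List ℕ) : (wordP gK L).1 = KW (expW L) := by
  induction L with
  | nil => rfl
  | cons l L ih =>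
    rw [wordP_cons, expW]
    show (gK l).1 * (wordP gK L).1 = prodW 100 pN pM (lw l ++ expW L)
    rw [prodW_append, ih]
    rfl

/-- the relators (and the inverse pairs) hold on the base points -/
theorem rel_chk : ∀ L ∈ PU35p.P.real ++ [[0, 1], [1, 0], [2, 3], [3, 2]],
    eqw (expW L) [] = true := by decide +kernel

theorem wordP_eq_one (L : List ℕ)
    (hL : L ∈ PU35p.P.real ++ [[0, 1], [1, 0], [2, 3], [3, 2]]) :
    wordP gK L = 1 := by
  apply Subtype.ext
  rw [wordP_gK]
  have h := KW_eq_of_eqw (expW_lt L) (by intro i hi; simp at hi) (rel_chk L hL)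
  rw [h]
  rfl

theorem c_ne : fpw (lw 0) ≠ fpw [] := by decide +kernel

theorem gK_zero_ne : gK 0 ≠ 1 := by
  intro h
  apply c_ne
  apply fpw_eq (lw_lt 0) (by intro i hi; simp at hi)
  have := congrArg Subtype.val h
  exact this

theorem exists_hom : ∃ ψ : PU35p.P.Grp →* ↥Kd, ∀ l, l < 4 → ψ (PU35p.P.gR l) = gK l := by
  apply exists_hom_of_letters PU35p.P PU35p.valid gK
  · intro l hl
    have hl : l < 4 := hl
    have key : ∀ a b : ℕ, [a, b] ∈ PU35p.P.real ++ [[0, 1], [1, 0], [2, 3], [3, 2]] →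
        gK a * gK b = 1 := by
      intro a b hab
      have := wordP_eq_one [a, b] hab
      rwa [wordP_cons, wordP_cons, wordP_nil, mul_one] at this
    interval_cases l
    · exact key 0 1 (by simp)
    · exact key 1 0 (by simp)
    · exact key 2 3 (by simp)
    · exact key 3 2 (by simp)
  · intro L hL
    exact wordP_eq_one L (List.mem_append_left _ hL)

/-- the stabiliser of one of the 352 vectors is the presented group `U₃(5)` -/
theorem equiv_Kd : Nonempty (PU35p.P.Grp ≃* ↥Kd) := by
  obtain ⟨ψ, hψ⟩ := exists_hom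
  obtain ⟨fG, _, hcard⟩ := Cfsg.Agent.Lib.Helper4.U35pMain.order_aux
  have hinj : Function.Injective ψ := by
    apply Cfsg.Agent.Lib.Helper4.RepLib.injective_of_simple
      Cfsg.Agent.Lib.Helper4.U35pMain.simple_aux ψ (PU35p.P.gR 0)
    rw [hψ 0 (by norm_num)]
    exact gK_zero_ne
  have hfin : Finite ↥Kd := by
    apply Nat.finite_of_card_ne_zero
    rw [card_Kd]
    norm_num
  have hbij : Function.Bijective ψ := by
    apply hinj.bijective_of_nat_card_le
    rw [hcard, card_Kd]
  exact ⟨MulEquiv.ofBijective ψ hbij⟩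

/-- the stabiliser of a triple is `PSU₃(5)` -/
theorem stab_equiv_PSU (v w x : leechLattice) (hv : sqNorm v.1 = 48) (hw : sqNorm w.1 = 48)
    (hvw : dotInt v.1 w.1 = -32) (hx : x ∈ S352 v w)
    (F : Type) [Field F] [Fintype F] (hF : Fintype.card F = 25) :
    Nonempty (↥(MulAction.stabilizer ↥Co0 v ⊓ MulAction.stabilizer ↥Co0 w ⊓
      MulAction.stabilizer ↥Co0 x) ≃* Cfsg.PSU 3 F 5) := by
  obtain ⟨f1⟩ := stab_equiv_Kd v w x hv hw hvw hx
  obtain ⟨f2⟩ := equiv_Kd
  obtain ⟨f3⟩ := Cfsg.Agent.Lib.Helper4.U35Iso.equiv_PSU (F := F) hF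
  exact ⟨f1.trans (f2.symm.trans f3)⟩

end Cfsg.Agent.Lib.Helper9.HSU35
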