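import Cfsg.Agent.Lib.Helper8.SS5

set_option autoImplicit false
set_option linter.unusedSectionVars false
set_option linter.unusedVariables false

/-! Signed straight-line programs over coded permutation tables: every table of a list is one of
the generators or a signed word in earlier tables of the list. -/

namespace Cfsg.Agent.Lib.Helper9.SlpS

open Cfsg.Agent.Lib.Helper8.SS

variable (n : ℕ) [NeZero n] (pN pM : ℕ → ℕ) (np : ℕ)

/-- the word of table indices of a word of positions -/
def toIdx (W : List ℕ) (w : List (ℕ × Bool)) : List (ℕ × Bool) :=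
  w.map (fun l => (W.getD l.1 0, l.2))

/-- certificate: every table with index in `W` is a generator from `S` or the product of the
signed word (in positions of earlier entries of `W`). -/
def SlpS (S W : List ℕ) (ws : List (List (ℕ × Bool))) : Prop :=
  (∀ i ∈ W, i < np) ∧
  ∀ m < W.length, W.getD m 0 ∈ S ∨ ((∀ l ∈ ws.getD m [], l.1 < m) ∧
    ∀ x < n, get (pN (W.getD m 0)) x = evS pN pM (toIdx W (ws.getD m [])) x)

instance (S W : List ℕ) (ws : List (List (ℕ × Bool))) : Decidable (SlpS n pN pM np S W ws) := by
  unfold SlpS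
  infer_instance

variable {n pN pM np}

theorem PS_mem {H : Subgroup (Equiv.Perm (Fin n))} {l : ℕ × Bool} (h : P n pN pM l.1 ∈ H) :
    PS n pN pM l ∈ H := by
  unfold PS
  by_cases h2 : l.2 = true
  · rw [if_pos h2]; exact h
  · rw [if_neg h2]; exact H.inv_mem h

theorem prodS_mem {H : Subgroup (Equiv.Perm (Fin n))} {w : List (ℕ × Bool)}
    (h : ∀ l ∈ w, P n pN pM l.1 ∈ H) : prodS n pN pM w ∈ H := by
  unfold prodS
  apply Subgroup.list_prod_mem
  intro g hg
  rw [List.mem_map] at hg
  obtain ⟨l, hl, rfl⟩ := hg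
  exact PS_mem (h l hl)

/-- a table equal to a signed word is the product of the word -/
theorem P_eq_prodS (hv : ∀ i < np, Valid n (pN i) (pM i)) {i : ℕ} (hi : i < np)
    {w : List (ℕ × Bool)} (hw : ∀ l ∈ w, l.1 < np)
    (h : ∀ x < n, get (pN i) x = evS pN pM w x) : P n pN pM i = prodS n pN pM w := by
  apply Equiv.ext
  intro x
  apply Fin.ext
  rw [prodS_apply n pN pM (fun l hl => hv _ (hw l hl)), P_apply_val hv hi]
  exact h x.1 x.2

theorem slpS_mem (hv : ∀ i < np, Valid n (pN i) (pM i)) {S W : List ℕ}
    {ws : List (List (ℕ × Bool))} (hok : SlpS n pN pM np S W ws) :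
    ∀ i ∈ W, P n pN pM i ∈ grp n pN pM S := by
  obtain ⟨hW, hslp⟩ := hok
  have ha : ∀ m, m < W.length → P n pN pM (W.getD m 0) ∈ grp n pN pM S := by
    intro m
    induction m using Nat.strong_induction_on with
    | _ m ih =>
      intro hm
      rcases hslp m hm with h | ⟨h1, h2⟩
      · exact P_mem_grp h
      · have hlt : ∀ l ∈ toIdx W (ws.getD m []), l.1 < np := by
          intro l hl
          unfold toIdx at hl
          rw [List.mem_map] at hl
          obtain ⟨l', hl', rfl⟩ := hl
          exact hW _ (getD_mem (lt_trans (h1 l' hl') hm))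
        rw [P_eq_prodS hv (hW _ (getD_mem hm)) hlt h2]
        apply prodS_mem
        intro l hl
        unfold toIdx at hl
        rw [List.mem_map] at hl
        obtain ⟨l', hl', rfl⟩ := hl
        exact ih l'.1 (h1 l' hl') (lt_trans (h1 l' hl') hm)
  intro i hi
  obtain ⟨m, hm, rfl⟩ := List.getElem_of_mem hi
  have := ha m hm
  rwa [List.getD_eq_getElem _ _ hm] at this

/-- the groups generated by two lists of tables agree if each list lies in the group of the
other -/
theorem grp_eq_of_slp (hv : ∀ i < np, Valid n (pN i) (pM i)) {S S' W : List ℕ}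
    {ws : List (List (ℕ × Bool))} (hok : SlpS n pN pM np S W ws) (h1 : ∀ i ∈ S', i ∈ W)
    (h2 : ∀ i ∈ S, i ∈ S') : grp n pN pM S' = grp n pN pM S := by
  apply le_antisymm
  · apply (Subgroup.closure_le _).mpr
    rintro g ⟨i, hi, rfl⟩
    exact slpS_mem hv hok i (h1 i hi)
  · apply Subgroup.closure_mono
    rintro g ⟨i, hi, rfl⟩
    exact ⟨i, h2 i hi, rfl⟩

end Cfsg.Agent.Lib.Helper9.SlpS
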