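import Cfsg.Agent.Lib.Helper9.HSa
import Cfsg.Agent.Lib.Helper9.SlpS

/-! Kernel-checked certificates for the tables of `HSa` (generated). -/

set_option autoImplicit false
set_option maxHeartbeats 0
set_option maxRecDepth 1000000

namespace Cfsg.Agent.Lib.Helper9.HSa

open Cfsg.Agent.Lib.Helper8.SS Cfsg.Agent.Lib.Helper8.MatN Cfsg.Agent.Lib.Helper9.SlpS

theorem lv0 : LevelOK 100 pN 273 L0 L1.S (deepOf [L1, L2, L3, L4, L5]) :=
  levelOK_of (by decide +kernel) (by decide +kernel) (by decide +kernel)
    (by decide +kernel)

theorem lv1 : LevelOK 100 pN 273 L1 L2.S (deepOf [L2, L3, L4, L5]) :=
  levelOK_of (by decide +kernel) (by decide +kernel) (by decide +kernel)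
    (by decide +kernel)

theorem lv2 : LevelOK 100 pN 273 L2 L3.S (deepOf [L3, L4, L5]) :=
  levelOK_of (by decide +kernel) (by decide +kernel) (by decide +kernel)
    (by decide +kernel)

theorem lv3 : LevelOK 100 pN 273 L3 L4.S (deepOf [L4, L5]) :=
  levelOK_of (by decide +kernel) (by decide +kernel) (by decide +kernel)
    (by decide +kernel)

theorem lv4 : LevelOK 100 pN 273 L4 L5.S (deepOf [L5]) :=
  levelOK_of (by decide +kernel) (by decide +kernel) (by decide +kernel)
    (by decide +kernel)

theorem lv5 : LevelOK 100 pN 273 L5 [] (deepOf []) :=
  levelOK_of (by decide +kernel) (by decide +kernel) (by decide +kernel)
    (by decide +kernel)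

theorem chain : ChainOK 100 pN 273 [L0, L1, L2, L3, L4, L5] :=
  ⟨lv0, lv1, lv2, lv3, lv4, lv5, trivial⟩

def W : List ℕ := List.range 273

def slpW : List (List (ℕ × Bool)) := [[], [], [], [], [(3, true), (0, true)], [(1, true), (4, true)], [(2, true), (4, true)], [(3, true), (4, true)], [(1, true), (5, true)], [(3, true), (5, true)], [(1, true), (6, true)], [(2, true), (6, true)], [(3, true), (6, true)], [(1, true), (7, true)], [(2, true), (7, true)], [(3, true), (7, true)], [(1, true), (8, true)], [(3, true), (8, true)], [(1, true), (9, true)], [(2, true), (9, true)], [(3, true), (9, true)], [(1, true), (10, true)], [(2, true), (10, true)], [(3, true), (10, true)], [(3, true), (11, true)], [(1, true), (12, true)], [(2, true), (12, true)], [(2, true), (13, true)], [(1, true), (14, true)], [(2, true), (14, true)], [(3, true), (14, true)], [(1, true), (15, true)], [(2, true), (15, true)], [(3, true), (15, true)], [(2, true), (16, true)], [(3, true), (16, true)], [(1, true), (17, true)], [(2, true), (17, true)], [(3, true), (17, true)], [(3, true), (18, true)], [(1, true), (19, true)], [(2, true), (19, true)], [(1, true), (20, true)], [(2, true), (20, true)], [(3, true), (20, true)], [(3, true), (21, true)], [(1, true), (22, true)], [(2, true), (22,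 true)], [(3, true), (22, true)], [(1, true), (23, true)], [(2, true), (23, true)], [(1, true), (24, true)], [(3, true), (24, true)], [(1, true), (25, true)], [(2, true), (25, true)], [(3, true), (25, true)], [(1, true), (26, true)], [(2, true), (26, true)], [(3, true), (26, true)], [(2, true), (27, true)], [(1, true), (28, true)], [(2, true), (28, true)], [(1, true), (29, true)], [(3, true), (29, true)], [(1, true), (30, true)], [(1, true), (31, true)], [(2, true), (31, true)], [(3, true), (31, true)], [(2, true), (32, true)], [(2, true), (33, true)], [(3, true), (33, true)], [(1, true), (34, true)], [(2, true), (34, true)], [(1, true), (35, true)], [(1, true), (36, true)], [(2, true), (36, true)], [(3, true), (36, true)], [(1, true), (37, true)], [(2, true), (37, true)], [(2, true), (40, true)], [(1, true), (42, true)], [(3, true), (42, true)], [(3, true), (43, true)], [(2, true), (44, true)], [(3, true), (47, true)], [(3, true), (49, true)], [(1, true), (50, true)], [(2, true), (50, true)], [(3, true), (50, true)], [(1, true), (51, true)], [(1, true), (55, true)], [(1, true), (57, true)], [(2, true), (58, true)], [(1, true), (59, true)], [(3, true), (59, true)], [(1, true), (60, true)], [(3, true), (61, true)], [(1, true), (63, true)], [(1, true),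 (64, true)], [(3, true), (66, true)], [(3, true), (68, true)], [(2, true), (81, true)], [(3, true), (86, true)], [(32, false), (3, true), (48, true)], [(45, false), (1, true), (96, true)], [(103, true), (0, true)], [(104, true), (0, true)], [(103, true), (105, true)], [(104, true), (105, true)], [(103, true), (106, true)], [(104, true), (106, true)], [(103, true), (107, true)], [(104, true), (107, true)], [(103, true), (108, true)], [(104, true), (108, true)], [(103, true), (109, true)], [(104, true), (109, true)], [(103, true), (110, true)], [(104, true), (110, true)], [(104, true), (111, true)], [(103, true), (112, true)], [(104, true), (112, true)], [(103, true), (113, true)], [(103, true), (114, true)], [(103, true), (115, true)], [(104, true), (115, true)], [(103, true), (116, true)], [(104, true), (116, true)], [(103, true), (118, true)], [(104, true), (118, true)], [(103, true), (119, true)], [(104, true), (119, true)], [(103, true), (120, true)], [(103, true), (121, true)], [(103, true), (122, true)], [(104, true), (122, true)], [(104, true), (123, true)], [(104, true), (124, true)], [(103, true), (125, true)], [(104, true), (125, true)], [(103, true), (126, true)], [(104, true), (128, true)], [(103, true), (129, true)], [(104, true), (129,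 true)], [(103, true), (131, true)], [(104, true), (131, true)], [(103, true), (132, true)], [(104, true), (132, true)], [(104, true), (133, true)], [(104, true), (134, true)], [(103, true), (135, true)], [(104, true), (135, true)], [(103, true), (136, true)], [(104, true), (136, true)], [(103, true), (137, true)], [(104, true), (137, true)], [(103, true), (138, true)], [(104, true), (139, true)], [(103, true), (140, true)], [(104, true), (140, true)], [(103, true), (141, true)], [(104, true), (141, true)], [(104, true), (142, true)], [(104, true), (143, true)], [(103, true), (144, true)], [(104, true), (145, true)], [(104, true), (146, true)], [(103, true), (148, true)], [(104, true), (148, true)], [(103, true), (149, true)], [(104, true), (149, true)], [(104, true), (151, true)], [(103, true), (153, true)], [(104, true), (154, true)], [(103, true), (156, true)], [(104, true), (156, true)], [(103, true), (157, true)], [(104, true), (159, true)], [(103, true), (168, true)], [(103, true), (172, true)], [(104, true), (172, true)], [(167, false), (104, true), (171, true)], [(165, false), (103, true), (178, true)], [(181, true), (0, true)], [(182, true), (0, true)], [(181, true), (183, true)], [(182, true), (183, true)], [(181, true), (184, true)], [(182,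 true), (184, true)], [(181, true), (185, true)], [(182, true), (185, true)], [(182, true), (186, true)], [(181, true), (187, true)], [(182, true), (187, true)], [(181, true), (188, true)], [(182, true), (189, true)], [(182, true), (190, true)], [(182, true), (191, true)], [(181, true), (192, true)], [(182, true), (193, true)], [(181, true), (194, true)], [(182, true), (194, true)], [(181, true), (195, true)], [(182, true), (195, true)], [(181, true), (196, true)], [(182, true), (196, true)], [(181, true), (197, true)], [(182, true), (197, true)], [(182, true), (198, true)], [(181, true), (199, true)], [(182, true), (199, true)], [(182, true), (200, true)], [(182, true), (201, true)], [(181, true), (202, true)], [(181, true), (203, true)], [(182, true), (203, true)], [(181, true), (204, true)], [(182, true), (204, true)], [(182, true), (206, true)], [(181, true), (207, true)], [(181, true), (209, true)], [(181, true), (210, true)], [(182, true), (210, true)], [(181, true), (211, true)], [(181, true), (212, true)], [(181, true), (214, true)], [(181, true), (215, true)], [(182, true), (215, true)], [(182, true), (216, true)], [(182, true), (218, true)], [(182, true), (219, true)], [(182, true), (220, true)], [(182, true), (221, true)], [(181, true), (222,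 true)], [(181, true), (223, true)], [(182, true), (223, true)], [(181, true), (224, true)], [(181, true), (225, true)], [(182, true), (225, true)], [(181, true), (228, true)], [(182, true), (231, true)], [(182, true), (232, true)], [(212, false), (181, true), (241, true)], [(211, false), (181, true), (239, true)], [(242, true), (0, true)], [(243, true), (0, true)], [(0, false), (242, true), (245, true)], [(0, false), (243, true), (245, true)], [(244, false), (243, true), (244, true)], [(246, true), (0, true)], [(247, true), (0, true)], [(248, true), (0, true)], [(247, true), (249, true)], [(246, true), (250, true)], [(246, true), (251, true)], [(248, true), (251, true)], [(253, false), (247, true), (251, true)], [(254, false), (247, true), (255, true)], [(256, true), (0, true)], [(257, true), (0, true)], [(257, true), (258, true)], [(2, true), (2, true), (1, true)], [(261, true), (261, true)], [(261, true), (262, true)], [(261, true), (263, true)], [(261, true), (264, true)], [(261, true), (265, true)], [(261, true), (266, true)], [(261, true), (267, true)], [(261, true), (268, true)], [(261, true), (269, true)], [(133, true), (191, true), (255, true), (260, true)], [(9, true), (133, true), (230, true), (245, true), (259, true)]]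

theorem slp_ok : SlpS 100 pN pM 273 [1, 2, 3] W slpW := by
  unfold SlpS; decide +kernel

theorem S0_sub : ∀ i ∈ L0.S, i ∈ W := by decide +kernel

end Cfsg.Agent.Lib.Helper9.HSa
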