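import Cfsg.Agent.Lib.Helper9.OrbCert2

set_option autoImplicit false

/-! Orbit certificates: the standard generators on indices. -/

namespace Cfsg.Agent.Lib.Helper9.OrbCert3

open Cfsg Cfsg.Agent.Lib.Helper9.GolayQR1 Cfsg.Agent.Lib.Helper9.OrbCert1
  Cfsg.Agent.Lib.Helper9.LeechX1 Cfsg.Agent.Lib.Helper9.LeechM1 Cfsg.Agent.Lib.Helper9.M24T1

/-- the tetrad number of an index -/
def tetI (k : ℕ) : ℕ := tetInv.getD k 0 % 6

/-- the `m`-th index of the `a`-th tetrad -/
def ptI (a m : ℕ) : ℕ := (tetTab.getD a []).getD m 0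

def sgnI (a : ℕ) : ℤ := if a = 0 then -1 else 1

/-- the non-monomial map on indices -/
def xiI : FnI := fun y k =>
  sgnI (tetI k) * (y k - (y (ptI (tetI k) 0) + y (ptI (tetI k) 1) + y (ptI (tetI k) 2)
    + y (ptI (tetI k) 3)) / 2)

theorem compat_xi : Compat xiFun xiI := by
  intro y i
  rcases i with _ | j
  · rfl
  · fin_cases j <;> rfl

/-- a step by a coordinate permutation, checked digit by digit -/
theorem perm_step {F : Fn} (tab : ℕ) (h : Compat F (permT tab)) (p c : ℕ)
    (hc : permChk tab p c 24 = true) : F (vecN p) = vecN c :=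
  compat_apply h p c (permChk_sound tab p c 24 hc)

/-- a general step -/
theorem gen_step {F : Fn} {G : FnI} (h : Compat F G) (p c : ℕ)
    (hc : eqI (G (vecI p)) (vecI c) = true) : F (vecN p) = vecN c :=
  compat_apply h p c (eqI_sound _ _ hc)

/-- coordinate permutation by a table permutation, as a map of vectors -/
theorem compat_tperm (l l' : List ℕ) (h1 : ∀ p, tfun l' (tfun l p) = p)
    (h2 : ∀ p, tfun l (tfun l' p) = p) (hl' : ∀ p : GolayPt, l'.getD (idx p) 0 < 24) :
    Compat (fun x i => x ((tperm l l' h1 h2).symm i)) (permI l') :=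
  compat_perm l' hl'

end Cfsg.Agent.Lib.Helper9.OrbCert3
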