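import Cfsg.Agent.Lib.Helper9.HSc
import Cfsg.Agent.Lib.Helper9.HSsimple3
import Cfsg.Agent.Lib.Helper9.OrbCert3
import Cfsg.Agent.Lib.Helper9.LeechP9

set_option autoImplicit false
set_option maxHeartbeats 0
set_option maxRecDepth 1000000

/-! The stabiliser of the standard pair of vectors of sum of squares 48 with inner product `-32`,
acting on its 100 vectors, is the permutation group of `HSc`. -/

namespace Cfsg.Agent.Lib.Helper9.HSd

open Cfsg Finset Cfsg.Agent.Lib.Helper4.Leech Cfsg.Agent.Lib.Helper9.Golay1
  Cfsg.Agent.Lib.Helper9.LeechM1 Cfsg.Agent.Lib.Helper9.LeechX4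
  Cfsg.Agent.Lib.Helper9.LeechX5 Cfsg.Agent.Lib.Helper9.LeechX7 Cfsg.Agent.Lib.Helper9.LeechX8
  Cfsg.Agent.Lib.Helper9.LeechX9 Cfsg.Agent.Lib.Helper9.LeechX11
  Cfsg.Agent.Lib.Helper9.LeechE3 Cfsg.Agent.Lib.Helper9.LeechE4 Cfsg.Agent.Lib.Helper9.LeechE5
  Cfsg.Agent.Lib.Helper9.LeechC7
  Cfsg.Agent.Lib.Helper9.GolayQR1 Cfsg.Agent.Lib.Helper9.GolayQR3
  Cfsg.Agent.Lib.Helper9.M24U1 Cfsg.Agent.Lib.Helper9.M24T5 Cfsg.Agent.Lib.Helper9.M24T1
  Cfsg.Agent.Lib.Helper9.M24X1 Cfsg.Agent.Lib.Helper9.OrbCert1 Cfsg.Agent.Lib.Helper9.OrbCert3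
  Cfsg.Agent.Lib.Helper9.HSa Cfsg.Agent.Lib.Helper8.SS
open Cfsg.Agent.Lib.Helper9.LeechX1 (xiFun)

def la : List ℕ := [0, 8, 4, 18, 7, 19, 10, 12, 17, 2, 9, 13, 14, 5, 6, 3, 1, 16, 11, 22, 21, 20, 15, 23]
def la' : List ℕ := [0, 16, 9, 15, 2, 13, 14, 4, 1, 10, 6, 18, 7, 11, 12, 22, 17, 8, 3, 5, 21, 20, 19, 23]
def lb : List ℕ := [0, 13, 16, 19, 18, 21, 5, 7, 8, 4, 2, 15, 12, 20, 14, 22, 10, 3, 9, 17, 1, 6, 11, 23]
def lb' : List ℕ := [0, 20, 10, 17, 9, 6, 21, 7, 8, 18, 16, 22, 12, 1, 14, 11, 2, 19, 4, 3, 13, 5, 15, 23]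
def ls1 : List ℕ := [21, 16, 4, 1, 0, 19, 22, 3, 14, 10, 5, 17, 6, 7, 15, 13, 11, 9, 2, 20, 8, 18, 12, 23]
def ls1' : List ℕ := [4, 3, 18, 7, 2, 10, 12, 13, 20, 17, 9, 16, 22, 15, 8, 14, 1, 11, 21, 5, 19, 0, 6, 23]
def ls2 : List ℕ := [4, 2, 0, 3, 5, 10, 17, 15, 16, 6, 20, 13, 22, 9, 12, 14, 18, 7, 23, 11, 8, 21, 19, 1]
def ls2' : List ℕ := [2, 23, 1, 3, 0, 4, 9, 17, 20, 13, 5, 19, 14, 11, 15, 7, 8, 6, 16, 22, 10, 21, 12, 18]
def ls3 : List ℕ := [18, 17, 7, 2, 21, 23, 22, 6, 11, 10, 13, 8, 15, 5, 4, 3, 1, 20, 16, 19, 14, 9, 12, 0]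
def ls3' : List ℕ := [23, 16, 3, 15, 14, 13, 7, 2, 11, 21, 9, 8, 22, 10, 20, 12, 18, 1, 0, 19, 17, 4, 6, 5]

def sa : Equiv.Perm GolayPt := tperm la la' (by decide +kernel) (by decide +kernel)
def sb : Equiv.Perm GolayPt := tperm lb lb' (by decide +kernel) (by decide +kernel)
def s1 : Equiv.Perm GolayPt := tperm ls1 ls1' (by decide +kernel) (by decide +kernel)
def s2 : Equiv.Perm GolayPt := tperm ls2 ls2' (by decide +kernel) (by decide +kernel)
def s3 : Equiv.Perm GolayPt := tperm ls3 ls3' (by decide +kernel) (by decide +kernel)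

theorem sa_mem : sa ∈ M24 := tperm_mem _ _ _ _ (by decide +kernel) (by decide +kernel)
theorem sb_mem : sb ∈ M24 := tperm_mem _ _ _ _ (by decide +kernel) (by decide +kernel)
theorem s1_mem : s1 ∈ M24 := tperm_mem _ _ _ _ (by decide +kernel) (by decide +kernel)
theorem s2_mem : s2 ∈ M24 := tperm_mem _ _ _ _ (by decide +kernel) (by decide +kernel)
theorem s3_mem : s3 ∈ M24 := tperm_mem _ _ _ _ (by decide +kernel) (by decide +kernel)

/-- the generators as maps of vectors -/
def FA : Fn := fun x i => x (sa.symm i)
def FB : Fn := fun x i => x (sb.symm i)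
def F1 : Fn := fun x i => x (s1.symm i)
def F2 : Fn := fun x i => x (s2.symm i)
def F3 : Fn := fun x i => x (s3.symm i)
def FC : Fn := fun x => F1 (xiFun (F2 (xiFun (F3 x))))

/-- the generators on indices -/
def GA : FnI := permI la'
def GB : FnI := permI lb'
def GC : FnI := fun y => permI ls1' (xiI (permI ls2' (xiI (permI ls3' y))))

theorem cA : Compat FA GA := by
  unfold FA GA sa
  exact compat_tperm _ _ _ _ (by decide +kernel)

theorem cB : Compat FB GB := by
  unfold FB GB sb
  exact compat_tperm _ _ _ _ (by decide +kernel)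

theorem c1 : Compat F1 (permI ls1') := by
  unfold F1 s1
  exact compat_tperm _ _ _ _ (by decide +kernel)

theorem c2 : Compat F2 (permI ls2') := by
  unfold F2 s2
  exact compat_tperm _ _ _ _ (by decide +kernel)

theorem c3 : Compat F3 (permI ls3') := by
  unfold F3 s3
  exact compat_tperm _ _ _ _ (by decide +kernel)

theorem cC : Compat FC GC := by
  have h3 : Compat (fun x => xiFun (F3 x)) (fun y => xiI (permI ls3' y)) :=
    Compat.comp compat_xi c3
  have h2 : Compat (fun x => F2 (xiFun (F3 x))) (fun y => permI ls2' (xiI (permI ls3' y))) :=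
    Compat.comp c2 h3
  have h1 : Compat (fun x => xiFun (F2 (xiFun (F3 x))))
      (fun y => xiI (permI ls2' (xiI (permI ls3' y)))) :=
    Compat.comp compat_xi h2
  exact Compat.comp (F1 := F1) (F2 := fun x => xiFun (F2 (xiFun (F3 x))))
    (G1 := permI ls1') (G2 := fun y => xiI (permI ls2' (xiI (permI ls3' y)))) c1 h1

/-- the check of one step -/
def stepOK (g p c : ℕ) : Bool :=
  match g with
  | 0 => eqI (GA (vecI p)) (vecI c)
  | 1 => eqI (GB (vecI p)) (vecI c)
  | _ => eqI (GC (vecI p)) (vecI c)

/-- the elements of the stabiliser of the base vectors -/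
def Good (n : Equiv.Perm leechLattice) : Prop := n ∈ Co0 ∧ n rG = rG ∧ n w0 = w0

theorem FA_rG : ∀ i, FA rG.1 i = rG.1 i := by decide +kernel
theorem FA_w0 : ∀ i, FA w0.1 i = w0.1 i := by decide +kernel
theorem FB_rG : ∀ i, FB rG.1 i = rG.1 i := by decide +kernel
theorem FB_w0 : ∀ i, FB w0.1 i = w0.1 i := by decide +kernel
theorem FC_rG : ∀ i, FC rG.1 i = rG.1 i := by decide +kernel
theorem FC_w0 : ∀ i, FC w0.1 i = w0.1 i := by decide +kernel

/-- the codes of the 100 vectors -/
def C : List ℕ := [62062060636173731114942761100, 52197225985012443331621980298, 52160958173683603511920068778, 52158549768930062813800990858, 52158540321890726299180894858, 52197225948263035195995228298, 47536897508558602556126370137, 52158540322035404574613350538, 52777510341533942141130672778, 47536595277103698898832693657, 52158691437627150280650557578, 52197235432050653945265687178, 52158540361234170444864063658, 52161109879697297748584335498, 52158540949088994621701785738, 47536897508558602538946501017, 47536897508540588157616888217, 52779937637905574050874820778,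 52158549766776777179843299978, 52158691440068661891639708298, 52197235983147168331742095498, 52160958210423969271505267338, 46298957469273222281227245977, 47536896327966981838715066777, 52160968208558694272632261258, 52161109289257405187118246058, 52816196004654537670704793738, 52777510378435874399873305258, 52158540321899698322651261098, 52777510343992346648768972938, 52158540912339656854748170378, 52158540912330614462533380778, 47536897508558602556126369177, 52158691474512194040794482858, 52199643799757588507252009098, 52160958210567521647035320458, 47536897508558602555052628377, 47536897508558602556122175897, 47532061805280144039427545497, 52197377066151689279186176138, 52197225948127399570408245418, 52158540361099590367619614858, 47536897508558598158079859097, 52777510341677494241845749898, 52777520413600321436643788938, 47536897508558602281248463257, 52160967655165416643458795658, 52158691439923983891084912778, 52197235392995440175730034858, 52199643802072436516191897738, 47536897503946916537698982297, 47536897508558532187382192537,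 47536897508557476656219527577, 47536897434771626261288163737, 47536897508558602556126353817, 52777510934135032429742164618, 52158549803517142940435130538, 52816205412503020134461900938, 52158701474961767050861119658, 52160958175835763519775083178, 52158540912187062361881479338, 52158540324196531934092495018, 52158550356919467358800087178, 52161109289266377210592791178, 52197226540864125743311390858, 52818613819544426817587284618, 52160967620712842119269099658, 52158700882495256856673945738, 52158700919244594639729756298, 52197377100892419412736911498, 47536897508558602556126108057, 52777661457404946215950911658, 52197226538423739756277435018, 52158540951385832630111611018, 52199804360218566963019417738, 52197377063845808878557629098, 47459526256103266288945174937, 52779928783477426006948096138, 52777510931829226795837196458, 52158692064807474572332403338, 52779928193173173469115484298, 52158549766633224804250593418, 52777519788572223123514624138, 52777670901993798820159859338, 52816347673784309374144645258, 52199644426946884822404466858,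 52160958173529953505070581898, 47536897508270372179974658457, 47536878619092671077545515417, 52777510378426902393582561418, 52158549766624252797955639978, 52197225948118357195369392778, 52160958766132169676346132618, 47536897508558602556059261337, 52158540358928294459394787978, 52158692027914514062182492298, 52780079348099391297365248138, 52777661457270436215459973258, 52158540324205574309127170698, 52816195970067453145957050538]

/-- a spanning tree: generator and earlier point -/
def gtree : List (ℕ × ℕ) := [(0, 0), (2, 0), (0, 1), (1, 1), (2, 1), (0, 2), (2, 2), (0, 3), (1, 3), (2, 3), (0, 4), (1, 4), (2, 4), (0, 5), (2, 5), (0, 6), (1, 6), (2, 6), (0, 7), (0, 8), (2, 7), (2, 8), (0, 9), (0, 15), (1, 10), (0, 11), (0, 13), (2, 11), (0, 12), (1, 12), (2, 12), (1, 13), (2, 13), (0, 14), (1, 14), (1, 18), (2, 15), (0, 16), (1, 16), (0, 17), (1, 17), (2, 17), (2, 18), (0, 19), (1, 19), (0, 42), (0, 20), (0, 29), (0, 21), (1, 40), (0, 22), (1, 22), (0, 36), (0, 23), (0, 50), (1, 39), (1, 24), (0, 25), (1, 25), (0, 26), (2, 26), (0, 27),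 (0, 28), (0, 40), (2, 28), (1, 29), (1, 30), (1, 43), (0, 31), (1, 31), (0, 32), (0, 33), (1, 33), (0, 55), (0, 34), (0, 35), (0, 38), (0, 39), (0, 68), (0, 62), (0, 75), (1, 60), (2, 46), (0, 47), (0, 63), (1, 63), (0, 48), (0, 52), (0, 54), (0, 58), (0, 56), (0, 59), (0, 57), (0, 87), (0, 60), (0, 61), (0, 84), (0, 67), (0, 82), (0, 96)]

theorem act_ok : ∀ g < 3, ∀ i < 100,
    stepOK g (C.getD i 0) (C.getD (get (pN (g + 1)) i) 0) = true := by decide +kernel

theorem tree_ok : ∀ m < 100, m = 0 ∨ ((gtree.getD m (0, 0)).2 < m ∧ (gtree.getD m (0, 0)).1 < 3 ∧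
    get (pN ((gtree.getD m (0, 0)).1 + 1)) (gtree.getD m (0, 0)).2 = m) := by decide +kernel

theorem C_lt : ∀ i < 100, C.getD i 0 < 79228162514264337593543950336 := by decide +kernel

theorem C_inj : ∀ i < 100, ∀ j < 100, C.getD i 0 = C.getD j 0 → i = j := by decide +kernel

/-- the three generators -/
def gen : ℕ → Equiv.Perm leechLattice
  | 0 => prm sa sa_mem
  | 1 => prm sb sb_mem
  | _ => prm s1 s1_mem * xi * prm s2 s2_mem * xi * prm s3 s3_mem

theorem gen_good (g : ℕ) : Good (gen g) := by
  match g with
  | 0 => exact ⟨prm_mem sa sa_mem, Subtype.ext (funext FA_rG), Subtype.ext (funext FA_w0)⟩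
  | 1 => exact ⟨prm_mem sb sb_mem, Subtype.ext (funext FB_rG), Subtype.ext (funext FB_w0)⟩
  | (k + 2) =>
    exact ⟨Co0.mul_mem (Co0.mul_mem (Co0.mul_mem (Co0.mul_mem (prm_mem s1 s1_mem) xi_mem)
      (prm_mem s2 s2_mem)) xi_mem) (prm_mem s3 s3_mem), Subtype.ext (funext FC_rG),
      Subtype.ext (funext FC_w0)⟩

theorem step_spec (g p c : ℕ) (h : stepOK g p c = true) (v : leechLattice) (hv : v.1 = vecN p) :
    ((gen g) v).1 = vecN c := by
  match g, h with
  | 0, h =>
    have : ((gen 0) v).1 = FA v.1 := rfl
    rw [this, hv]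
    exact gen_step cA p c h
  | 1, h =>
    have : ((gen 1) v).1 = FB v.1 := rfl
    rw [this, hv]
    exact gen_step cB p c h
  | (k + 2), h =>
    have : ((gen (k + 2)) v).1 = FC v.1 := rfl
    rw [this, hv]
    exact gen_step cC p c h

theorem root_eq : ∀ i, vecN (C.getD 0 0) i = rA.1 i := by decide +kernel

theorem root_mem : vecN (C.getD 0 0) ∈ leechLattice := by
  rw [funext root_eq]
  exact rA.2

theorem mem_all : ∀ m < 100, vecN (C.getD m 0) ∈ leechLattice := by
  intro m
  induction m using Nat.strong_induction_on with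
  | _ m ih =>
    intro hm
    rcases tree_ok m hm with rfl | ⟨h1, h2, h3⟩
    · exact root_mem
    · have hq : (gtree.getD m (0, 0)).2 < 100 := lt_trans h1 hm
      have hs := act_ok _ h2 _ hq
      rw [h3] at hs
      have := step_spec _ _ _ hs ⟨_, ih _ h1 hq⟩ rfl
      rw [← this]
      exact Subtype.property _

theorem props_all : ∀ i < 100, sqNorm (vecN (C.getD i 0)) = 32 ∧
    dotInt rG.1 (vecN (C.getD i 0)) = 24 ∧ dotInt w0.1 (vecN (C.getD i 0)) = -24 := by
  decide +kernel

end Cfsg.Agent.Lib.Helper9.HSd
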