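import Mathlib

set_option autoImplicit false

/-! General lemmas used for the outer automorphism group of `J₁`: finite sets stable under
conjugation by generators, conjugacy of `p`-elements into a Sylow subgroup, and transport of
"all automorphisms are inner" along an isomorphism. -/

namespace Cfsg.Agent.Lib.Helper9.J1O

open scoped Pointwise

section general

variable {G : Type*} [Group G]

/-- a finite set stable under conjugation by a set `T` is stable under conjugation by the
subgroup generated by `T` -/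
theorem conj_stable_closure (S : Set G) (hS : S.Finite) (T : Set G)
    (h : ∀ g ∈ T, ∀ s ∈ S, g * s * g⁻¹ ∈ S) :
    ∀ g ∈ Subgroup.closure T, ∀ s ∈ S, g * s * g⁻¹ ∈ S := by
  have key : Subgroup.closure T ≤
      (MulAction.stabilizer (MulAut G) S).comap (MulAut.conj : G →* MulAut G) := by
    rw [Subgroup.closure_le]
    intro g hg
    show MulAut.conj g ∈ MulAction.stabilizer (MulAut G) S
    rw [MulAction.mem_stabilizer_set' hS]
    intro b hb
    rw [MulAut.smul_def, MulAut.conj_apply]
    exact h g hg b hb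
  intro g hg s hs
  have h1 : MulAut.conj g ∈ MulAction.stabilizer (MulAut G) S := key hg
  rw [MulAction.mem_stabilizer_set' hS] at h1
  have h2 := h1 hs
  rwa [MulAut.smul_def, MulAut.conj_apply] at h2

/-- an element of `p`-power order is conjugate into a given `p`-subgroup of index prime to `p` -/
theorem exists_conj_mem_sylow [Finite G] (p : ℕ) [Fact p.Prime] (E : Subgroup G)
    (hE : IsPGroup p E) (hidx : ¬ p ∣ E.index) (t : G) (j : ℕ) (ht : t ^ p ^ j = 1) :
    ∃ g : G, ∃ e ∈ E, t = g * e * g⁻¹ := by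
  have hZ : IsPGroup p (Subgroup.zpowers t) := by
    rintro ⟨x, hx⟩
    obtain ⟨i, rfl⟩ := Subgroup.mem_zpowers_iff.mp hx
    refine ⟨j, Subtype.ext ?_⟩
    show (t ^ i) ^ p ^ j = 1
    rw [← zpow_natCast, ← zpow_mul, mul_comm, zpow_mul, zpow_natCast, ht, one_zpow]
  obtain ⟨R, hR⟩ := hZ.exists_le_sylow
  obtain ⟨g, hg⟩ := MulAction.exists_smul_eq G (hE.toSylow hidx) R
  have h1 : t ∈ (R : Subgroup G) := hR (Subgroup.mem_zpowers _)
  rw [← hg, Sylow.coe_subgroup_smul] at h1
  obtain ⟨e, he, hte⟩ := (Subgroup.mem_smul_pointwise_iff_exists _ _ _).mp h1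
  refine ⟨g, e, ?_, ?_⟩
  · exact (IsPGroup.mem_toSylow hE hidx).mp he
  · rw [← hte, MulAut.smul_def, MulAut.conj_apply]

/-- an element of prime order `p` in a group whose order is divisible by `p` exactly once is
conjugate to a nontrivial power of any given element of order `p` -/
theorem exists_conj_pow_of_prime [Finite G] (p : ℕ) [Fact p.Prime]
    (hfac : (Nat.card G).factorization p = 1) (y y0 : G) (hy : y ^ p = 1) (hy1 : y ≠ 1)
    (hy0 : y0 ^ p = 1) (hy01 : y0 ≠ 1) :
    ∃ (h : G) (j : ℕ), 0 < j ∧ j < p ∧ y = h * y0 ^ j * h⁻¹ := by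
  have hp : p.Prime := Fact.out
  have ho : orderOf y = p := orderOf_eq_prime hy hy1
  have ho0 : orderOf y0 = p := orderOf_eq_prime hy0 hy01
  have hE : IsPGroup p (Subgroup.zpowers y0) := by
    apply IsPGroup.of_card (n := 1)
    rw [Nat.card_zpowers, ho0, pow_one]
  have hidx : ¬ p ∣ (Subgroup.zpowers y0).index := by
    intro hd
    have h1 : Nat.card (Subgroup.zpowers y0) * (Subgroup.zpowers y0).index = Nat.card G :=
      Subgroup.card_mul_index _
    rw [Nat.card_zpowers, ho0] at h1
    have h2 : p ^ 2 ∣ Nat.card G := by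
      rw [← h1, pow_two]
      exact Nat.mul_dvd_mul_left p hd
    have h3 : 2 ≤ (Nat.card G).factorization p :=
      (hp.pow_dvd_iff_le_factorization Nat.card_pos.ne').mp h2
    omega
  obtain ⟨g, e, he, hte⟩ := exists_conj_mem_sylow p (Subgroup.zpowers y0) hE hidx y 1
    (by rw [pow_one]; exact hy)
  obtain ⟨z, rfl⟩ := Subgroup.mem_zpowers_iff.mp he
  have h2 : y0 ^ (z % (p : ℤ)) = y0 ^ z := by
    have := zpow_mod_orderOf y0 z
    rwa [ho0] at this
  have hp0 : (0 : ℤ) < p := by exact_mod_cast hp.pos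
  have h3 : 0 ≤ z % (p : ℤ) := Int.emod_nonneg z hp0.ne'
  have h4 : z % (p : ℤ) < p := Int.emod_lt_of_pos z hp0
  obtain ⟨j, hj⟩ := Int.eq_ofNat_of_zero_le h3
  rw [hj, zpow_natCast] at h2
  refine ⟨g, j, ?_, ?_, ?_⟩
  · rcases Nat.eq_zero_or_pos j with h0 | h0
    · exfalso
      apply hy1
      rw [hte, ← h2, h0, pow_zero]
      group
    · exact h0
  · rw [hj] at h4
    exact_mod_cast h4
  · rw [h2]
    exact hte

/-- "every automorphism is inner" transports along an isomorphism -/
theorem inner_transport {H : Type*} [Group H] (e : G ≃* H)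
    (h : ∀ φ : H ≃* H, ∃ k : H, ∀ g : H, φ g = k * g * k⁻¹) :
    ∀ φ : G ≃* G, ∃ k : G, ∀ g : G, φ g = k * g * k⁻¹ := by
  intro φ
  obtain ⟨k, hk⟩ := h ((e.symm.trans φ).trans e)
  refine ⟨e.symm k, fun g => ?_⟩
  have h1 := hk (e g)
  rw [MulEquiv.trans_apply, MulEquiv.trans_apply, MulEquiv.symm_apply_apply] at h1
  apply e.injective
  rw [h1, map_mul, map_mul, map_inv, MulEquiv.apply_symm_apply]

/-- all automorphisms inner: the outer automorphism group is trivial -/
theorem card_out_one
    (h : ∀ φ : G ≃* G, ∃ k : G, ∀ g : G, φ g = k * g * k⁻¹) :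
    Nat.card (MulAut G ⧸ (MulAut.conj : G →* MulAut G).range) = 1 := by
  have htop : (MulAut.conj : G →* MulAut G).range = ⊤ := by
    rw [eq_top_iff]
    intro φ _
    obtain ⟨k, hk⟩ := h φ
    refine ⟨k, ?_⟩
    ext g
    rw [MulAut.conj_apply, hk g]
  rw [← Subgroup.index_eq_card, htop, Subgroup.index_top]

/-- two homomorphisms that agree on a generating set agree -/
theorem hom_eq_of_closure {H : Type*} [Group H] (T : Set G) (hT : Subgroup.closure T = ⊤)
    (φ ψ : G →* H) (h : ∀ t ∈ T, φ t = ψ t) : φ = ψ :=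
  MonoidHom.eq_of_eqOn_dense hT h

end general

end Cfsg.Agent.Lib.Helper9.J1O
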