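import Cfsg.Prelude.Def_KGroupFacts
import Cfsg.Agent.Lib.Helper9.J1OG
import Cfsg.Agent.Lib.Helper9.GrpCount

set_option autoImplicit false

/-! General lemmas for outer automorphism groups computed from a rigid generating pair: words in
two generators, conjugation by a normalizing element, reduction of the image of an element of
prime order, counting conjugates. -/

namespace Cfsg.Agent.Lib.Helper9.OutG

open Cfsg.Agent.Lib.Helper9.J1O Cfsg.Agent.Lib.Helper9.GrpCount

variable {G : Type*} [Group G]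

/-- evaluate a word in two generators: letter `0` is `x`, letter `1` is `x⁻¹`, any other letter
is `r` -/
def evalG (x r : G) : List ℕ → G
  | [] => 1
  | c :: w => (bif Nat.beq c 0 then x else bif Nat.beq c 1 then x⁻¹ else r) * evalG x r w

theorem evalG_nil (x r : G) : evalG x r [] = 1 := rfl

theorem evalG_cons (x r : G) (c : ℕ) (w : List ℕ) :
    evalG x r (c :: w) =
      (bif Nat.beq c 0 then x else bif Nat.beq c 1 then x⁻¹ else r) * evalG x r w := rfl

theorem map_evalG {H : Type*} [Group H] (f : G →* H) (x r : G) (w : List ℕ) :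
    f (evalG x r w) = evalG (f x) (f r) w := by
  induction w with
  | nil => exact map_one f
  | cons c w ih =>
    rw [evalG_cons, evalG_cons, map_mul, ih]
    congr 1
    cases Nat.beq c 0 <;> cases Nat.beq c 1 <;> simp

/-- conjugation by an element normalizing a subgroup, as an automorphism of the subgroup -/
noncomputable def conjAutK {A : Type*} [Group A] (K : Subgroup A) (t : A)
    (h1 : ∀ g ∈ K, t * g * t⁻¹ ∈ K) (h2 : ∀ g ∈ K, t⁻¹ * g * t ∈ K) : ↥K ≃* ↥K where
  toFun g := ⟨t * g.1 * t⁻¹, h1 g.1 g.2⟩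
  invFun g := ⟨t⁻¹ * g.1 * t, h2 g.1 g.2⟩
  left_inv g := by
    apply Subtype.ext
    show t⁻¹ * (t * g.1 * t⁻¹) * t = g.1
    group
  right_inv g := by
    apply Subtype.ext
    show t * (t⁻¹ * g.1 * t) * t⁻¹ = g.1
    group
  map_mul' a b := by
    apply Subtype.ext
    show t * (a.1 * b.1) * t⁻¹ = (t * a.1 * t⁻¹) * (t * b.1 * t⁻¹)
    group

theorem conjAutK_apply {A : Type*} [Group A] (K : Subgroup A) (t : A)
    (h1 : ∀ g ∈ K, t * g * t⁻¹ ∈ K) (h2 : ∀ g ∈ K, t⁻¹ * g * t ∈ K) (g : ↥K) :
    (conjAutK K t h1 h2 g).1 = t * g.1 * t⁻¹ := rfl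

/-- a subgroup generated by a set is normalized by an element conjugating the generators into
it -/
theorem conj_mem_of_closure {A : Type*} [Group A] (T : Set A) (K : Subgroup A)
    (hK : K = Subgroup.closure T) (t : A) (h : ∀ g ∈ T, t * g * t⁻¹ ∈ K) :
    ∀ g ∈ K, t * g * t⁻¹ ∈ K := by
  intro g hg
  rw [hK] at hg
  induction hg using Subgroup.closure_induction with
  | mem s hs => exact h s hs
  | one =>
    have : t * 1 * t⁻¹ = 1 := by group
    rw [this]
    exact K.one_mem
  | mul a b _ _ iha ihb =>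
    have : t * (a * b) * t⁻¹ = (t * a * t⁻¹) * (t * b * t⁻¹) := by group
    rw [this]
    exact K.mul_mem iha ihb
  | inv a _ iha =>
    have : t * a⁻¹ * t⁻¹ = (t * a * t⁻¹)⁻¹ := by group
    rw [this]
    exact K.inv_mem iha

theorem conj_pow_iter (n x : G) (h : n * x * n⁻¹ = x ^ 3) (a m : ℕ) :
    n ^ a * x ^ m * (n ^ a)⁻¹ = x ^ (m * 3 ^ a) := by
  induction a with
  | zero => simp
  | succ a ih =>
    have h1 : n ^ (a + 1) * x ^ m * (n ^ (a + 1))⁻¹ = n * (n ^ a * x ^ m * (n ^ a)⁻¹) * n⁻¹ := by
      rw [pow_succ']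
      group
    rw [h1, ih, ← conj_pow, h, ← pow_mul]
    congr 1
    ring

/-- the image of an element of order `11` under an automorphism is conjugate to the element or to
its square, when some element conjugates it to its cube -/
theorem exists_conj_of_eleven [Finite G] (hfac : (Nat.card G).factorization 11 = 1) (x n : G)
    (hx : x ^ 11 = 1) (hx1 : x ≠ 1) (hn : n * x * n⁻¹ = x ^ 3) (φ : G ≃* G) :
    ∃ g : G, φ x = g * x * g⁻¹ ∨ φ x = g * x ^ 2 * g⁻¹ := by
  haveI : Fact (Nat.Prime 11) := ⟨by norm_num⟩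
  have hy : (φ x) ^ 11 = 1 := by rw [← map_pow, hx, map_one]
  have hy1 : φ x ≠ 1 := fun h => hx1 (φ.injective (by rw [h, map_one]))
  obtain ⟨h, j, hj0, hj, e⟩ := exists_conj_pow_of_prime 11 hfac (φ x) x hy hy1 hx hx1
  have key : ∀ (a k : ℕ), (k * 3 ^ a) % 11 = j → φ x = (h * n ^ a) * x ^ k * (h * n ^ a)⁻¹ := by
    intro a k hak
    have h1 := conj_pow_iter n x hn a k
    rw [pow_eq_pow_mod (k * 3 ^ a) hx, hak] at h1
    rw [e, ← h1]
    group
  interval_cases j
  · exact ⟨_, Or.inl (by have := key 0 1 (by norm_num); simp only [pow_one] at this; exact this)⟩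
  · exact ⟨h * n ^ 0, Or.inr (key 0 2 (by norm_num))⟩
  · exact ⟨_, Or.inl (by have := key 1 1 (by norm_num); simp only [pow_one] at this; exact this)⟩
  · exact ⟨_, Or.inl (by have := key 4 1 (by norm_num); simp only [pow_one] at this; exact this)⟩
  · exact ⟨_, Or.inl (by have := key 3 1 (by norm_num); simp only [pow_one] at this; exact this)⟩
  · exact ⟨h * n ^ 1, Or.inr (key 1 2 (by norm_num))⟩
  · exact ⟨h * n ^ 2, Or.inr (key 2 2 (by norm_num))⟩
  · exact ⟨h * n ^ 4, Or.inr (key 4 2 (by norm_num))⟩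
  · exact ⟨_, Or.inl (by have := key 2 1 (by norm_num); simp only [pow_one] at this; exact this)⟩
  · exact ⟨h * n ^ 3, Or.inr (key 3 2 (by norm_num))⟩

/-- the number of conjugates of an element times the order of its centralizer is at most the
order of the group -/
theorem card_conj_mul_le {A : Type*} [Group A] (H : Subgroup A) [Finite H] (t : A)
    [Finite {u : A | ∃ c ∈ H, c * t * c⁻¹ = u}] :
    Nat.card {u : A | ∃ c ∈ H, c * t * c⁻¹ = u} * Nat.card ↥(H ⊓ Subgroup.centralizer {t}) ≤
      Nat.card H := by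
  classical
  let e := Finite.equivFin {u : A | ∃ c ∈ H, c * t * c⁻¹ = u}
  apply card_centralizer_le H t _ (fun j => Classical.choose (e.symm j).2)
    (fun j => (Classical.choose_spec (e.symm j).2).1)
  intro j j' hjj
  have h1 : ((e.symm j : {u : A | ∃ c ∈ H, c * t * c⁻¹ = u}) : A) = (e.symm j' : _) := by
    rw [← (Classical.choose_spec (e.symm j).2).2, ← (Classical.choose_spec (e.symm j').2).2]
    exact hjj
  exact e.symm.injective (Subtype.ext h1)

/-- cosets of a subgroup of the centralizer fixing a point, moving the point to different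
places -/
theorem card_centralizer_ge {α : Type*} (C M : Subgroup (Equiv.Perm α)) [Finite C] (hM : M ≤ C)
    (p : α) (hfix : ∀ g ∈ M, g p = p) (m : ℕ) (d : Fin m → Equiv.Perm α) (hd : ∀ i, d i ∈ C)
    (hinj : Function.Injective (fun i => d i p)) : m * Nat.card M ≤ Nat.card C := by
  let f : Fin m × M → C := fun z => ⟨d z.1 * z.2.1, C.mul_mem (hd _) (hM z.2.2)⟩
  have hf : Function.Injective f := by
    rintro ⟨i, g⟩ ⟨i', g'⟩ h
    have h1 : d i * g.1 = d i' * g'.1 := congrArg Subtype.val h
    have h2 : d i p = d i' p := by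
      have := congrArg (fun z => z p) h1
      simp only [Equiv.Perm.mul_apply] at this
      rwa [hfix g.1 g.2, hfix g'.1 g'.2] at this
    have hi : i = i' := hinj h2
    subst hi
    have hg : g.1 = g'.1 := mul_left_cancel h1
    rw [Subtype.ext hg]
  have := Nat.card_le_card_of_injective f hf
  rwa [Nat.card_prod, Nat.card_fin] at this

/-- a set of elements of a subgroup whose images generate the subgroup generates it -/
theorem closure_subtype_top {A : Type*} [Group A] (K : Subgroup A) (T : Set ↥K)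
    (h : Subgroup.closure (Subtype.val '' T) = K) : Subgroup.closure T = ⊤ := by
  rw [eq_top_iff]
  intro g _
  have h1 : (Subgroup.closure T).map K.subtype = K := by
    rw [MonoidHom.map_closure]
    exact h
  have h2 : g.1 ∈ (Subgroup.closure T).map K.subtype := by
    rw [h1]
    exact g.2
  obtain ⟨y, hy, hyg⟩ := h2
  have : y = g := Subtype.ext hyg
  rw [← this]
  exact hy

theorem factorization_of_dvd (p N k : ℕ) (hp : p.Prime) (hN : N ≠ 0) (h1 : p ^ k ∣ N)
    (h2 : ¬ p ^ (k + 1) ∣ N) : N.factorization p = k := by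
  have a := (hp.pow_dvd_iff_le_factorization hN).mp h1
  have b : ¬ (k + 1 ≤ N.factorization p) := fun h =>
    h2 ((hp.pow_dvd_iff_le_factorization hN).mpr h)
  omega

theorem inner_iff {H : Type*} [Group H] (φ : MulAut H) :
    φ ∈ (MulAut.conj : H →* MulAut H).range ↔ ∃ k : H, ∀ g : H, φ g = k * g * k⁻¹ := by
  constructor
  · rintro ⟨k, rfl⟩
    exact ⟨k, fun g => MulAut.conj_apply k g⟩
  · rintro ⟨k, hk⟩
    refine ⟨k, ?_⟩
    ext g
    rw [MulAut.conj_apply, hk g]

/-- the outer automorphism group has order two when some non-inner automorphism represents every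
non-inner class -/
theorem card_out_eq_two {H : Type*} [Group H] (τ : MulAut H)
    (hτ : ¬ ∃ k : H, ∀ g : H, τ g = k * g * k⁻¹)
    (hcl : ∀ φ : MulAut H, (∃ k : H, ∀ g : H, φ g = k * g * k⁻¹) ∨
      (∃ k : H, ∀ g : H, φ g = k * τ g * k⁻¹)) :
    Nat.card (MulAut H ⧸ (MulAut.conj : H →* MulAut H).range) = 2 := by
  rw [← Subgroup.index_eq_card, Subgroup.index_eq_two_iff]
  have hτn : τ ∉ (MulAut.conj : H →* MulAut H).range := by
    rw [inner_iff]
    exact hτ
  refine ⟨τ⁻¹, ?_⟩
  intro b
  rcases hcl b with hb | hb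
  · right
    have hbI : b ∈ (MulAut.conj : H →* MulAut H).range := (inner_iff b).mpr hb
    refine ⟨hbI, ?_⟩
    intro h
    apply hτn
    have h3 := Subgroup.mul_mem _ (Subgroup.inv_mem _ h) hbI
    have e : (b * τ⁻¹)⁻¹ * b = τ := by group
    rwa [e] at h3
  · left
    obtain ⟨k, hk⟩ := hb
    have hbe : b = MulAut.conj k * τ := by
      apply MulEquiv.ext
      intro g
      rw [hk g, MulAut.mul_apply, MulAut.conj_apply]
    have hbt : b * τ⁻¹ = MulAut.conj k := by
      rw [hbe]
      group
    refine ⟨by rw [hbt]; exact ⟨k, rfl⟩, ?_⟩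
    intro h
    apply hτn
    have h3 := Subgroup.mul_mem _ (Subgroup.inv_mem _ (show MulAut.conj k ∈
      (MulAut.conj : H →* MulAut H).range from ⟨k, rfl⟩)) h
    have e : (MulAut.conj k)⁻¹ * b = τ := by
      rw [hbe]
      group
    rwa [e] at h3

/-- isomorphic groups have outer automorphism groups of the same cardinality -/
theorem card_out_iso {G H : Type*} [Group G] [Group H] (e : G ≃* H) :
    Nat.card (Cfsg.Out G) = Nat.card (Cfsg.Out H) := by
  have he : (Cfsg.Inn G).map ((MulAut.congr e : MulAut G ≃* MulAut H) : MulAut G →* MulAut H)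
      = Cfsg.Inn H := by
    ext φ
    constructor
    · rintro ⟨_, ⟨g, rfl⟩, rfl⟩
      refine ⟨e g, ?_⟩
      apply MulEquiv.ext
      intro x
      simp [MulAut.congr, MulAut.conj_apply]
    · rintro ⟨h, rfl⟩
      refine ⟨MulAut.conj (e.symm h), ⟨e.symm h, rfl⟩, ?_⟩
      apply MulEquiv.ext
      intro x
      simp [MulAut.congr, MulAut.conj_apply]
  exact Nat.card_congr (QuotientGroup.congr (Cfsg.Inn G) (Cfsg.Inn H) (MulAut.congr e) he).toEquiv

end Cfsg.Agent.Lib.Helper9.OutG
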