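import Cfsg.Agent.Lib.Helper9.HSn
import Cfsg.Agent.Lib.Helper9.OutG

set_option autoImplicit false
set_option maxRecDepth 100000

/-! An explicit Sylow `2`-subgroup of the permutation group of degree 100, the two classes of
involutions, lower bounds for the centralisers, and the list of all involutions as conjugates of
1925 of them under the powers of an element of order 11. -/

namespace Cfsg.Agent.Lib.Helper9.HSa

open Cfsg.Agent.Lib.Helper8.SS Cfsg.Agent.Lib.Helper8.MatN Cfsg.Agent.Lib.Helper8.FastDec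
  Cfsg.Agent.Lib.Helper9.SSB Cfsg.Agent.Lib.Helper9.SSC Cfsg.Agent.Lib.Helper9.SSE
  Cfsg.Agent.Lib.Helper9.GrpCount Cfsg.Agent.Lib.Helper9.OutG Cfsg.Agent.Lib.Helper9.J1O

/-! ### the Sylow subgroup -/

/-- the generators of the Sylow subgroup -/
noncomputable def sg (a : ℕ) : Equiv.Perm (Fin 100) := KW (SGW.getD a [])

/-- the elements of the Sylow subgroup -/
noncomputable def sw (m : ℕ) : Equiv.Perm (Fin 100) := KW (SW.getD m [])

/-- the Sylow subgroup -/
noncomputable def Sg : Subgroup (Equiv.Perm (Fin 100)) :=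
  Subgroup.closure {g | ∃ a < 4, sg a = g}

theorem SGW_l (a : ℕ) : ∀ i ∈ SGW.getD a [], i < 273 := getD_forall SGW_lt a

theorem SW_lt' : ∀ w ∈ SW, ∀ i ∈ w, i < 273 := by
  intro w hw
  have h := SW_lt
  rw [List.all_eq_true] at h
  exact lt_of_ltB (h w hw)

theorem SW_l (m : ℕ) : ∀ i ∈ SW.getD m [], i < 273 := getD_forall SW_lt' m

theorem sw_zero : sw 0 = 1 := by
  unfold sw
  rw [SW_zero]
  rfl

theorem sg_mem_K (a : ℕ) : sg a ∈ K := KW_mem_K (SGW_l a)

theorem Sg_le_K : Sg ≤ K := by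
  unfold Sg
  rw [Subgroup.closure_le]
  rintro g ⟨a, -, rfl⟩
  exact sg_mem_K a

theorem sg_mul_sw (a m : ℕ) (ha : a < 4) (hm : m < 512) :
    (GT.getD a []).getD m 0 < 512 ∧ sg a * sw m = sw ((GT.getD a []).getD m 0) := by
  obtain ⟨h1, h2⟩ := S_tab a ha m hm
  refine ⟨h1, ?_⟩
  have := KW_eq_of_eqw (append_lt (SGW_l a) (SW_l m)) (SW_l _) h2
  unfold sg sw
  rw [← this]
  exact (prodW_append 100 pN pM _ _).symm

theorem sw_mem_Sg : ∀ m < 512, sw m ∈ Sg := by
  intro m
  induction m using Nat.strong_induction_on with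
  | _ m ih =>
    intro hm
    rcases S_tree m hm with rfl | ⟨h1, h2, h3⟩
    · rw [sw_zero]; exact Sg.one_mem
    · have := (sg_mul_sw _ _ h2 (lt_trans h1 hm)).2
      rw [h3] at this
      rw [← this]
      apply Sg.mul_mem
      · exact Subgroup.subset_closure ⟨_, h2, rfl⟩
      · exact ih _ h1 (lt_trans h1 hm)

theorem mem_Sg_iff (g : Equiv.Perm (Fin 100)) : g ∈ Sg ↔ ∃ m < 512, sw m = g := by
  constructor
  · intro hg
    have key := closure_mul_mem (S := {g | ∃ a < 4, sg a = g}) (T := {g | ∃ m < 512, sw m = g})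
      (by
        rintro s ⟨a, ha, rfl⟩ t ⟨m, hm, rfl⟩
        obtain ⟨h1, h2⟩ := sg_mul_sw a m ha hm
        exact ⟨_, h1, h2.symm⟩) g hg 1 ⟨0, by norm_num, sw_zero⟩
    rwa [mul_one] at key
  · rintro ⟨m, hm, rfl⟩
    exact sw_mem_Sg m hm

theorem SW_nodup : (SW.map fpw).Nodup := by
  apply nodup_of_nodupB
  have := S_fp
  rwa [forceList_eq] at this

theorem sw_inj {m m' : ℕ} (hm : m < 512) (hm' : m' < 512) (e : sw m = sw m') : m = m' := by
  apply idx_eq_of_nodup SW [] fpw SW_nodup (by rw [SW_len]; exact hm) (by rw [SW_len]; exact hm')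
  exact fpw_eq (SW_l m) (SW_l m') e

theorem card_Sg : Nat.card Sg = 2 ^ 9 := by
  let f : Fin 512 → Sg := fun m => ⟨sw m.1, sw_mem_Sg m.1 m.2⟩
  have hf : Function.Bijective f := by
    constructor
    · intro m m' h
      exact Fin.ext (sw_inj m.2 m'.2 (congrArg Subtype.val h))
    · rintro ⟨g, hg⟩
      obtain ⟨m, hm, rfl⟩ := (mem_Sg_iff g).mp hg
      exact ⟨⟨m, hm⟩, rfl⟩
  rw [← Nat.card_congr (Equiv.ofBijective f hf), Nat.card_fin]
  norm_num

instance : Finite Sg := Nat.finite_of_card_ne_zero (by rw [card_Sg]; norm_num)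

/-! ### the involutions of the Sylow subgroup -/

/-- the involution of a class -/
noncomputable def tF (f : ℕ) : Equiv.Perm (Fin 100) := KW (wtF f)

theorem wtF_l (f : ℕ) : ∀ i ∈ wtF f, i < 273 := by
  unfold wtF
  cases Nat.beq f 0
  · exact wtB_lt
  · exact wtA_lt

theorem tF_mem_K (f : ℕ) : tF f ∈ K := KW_mem_K (wtF_l f)

theorem wtF_cases (f : ℕ) : wtF f = wtF 0 ∨ wtF f = wtF 1 := by
  unfold wtF
  cases Nat.beq f 0
  · right; rfl
  · left; rfl

theorem tF_cases (f : ℕ) : tF f = tF 0 ∨ tF f = tF 1 := by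
  unfold tF
  rcases wtF_cases f with h | h
  · left; rw [h]
  · right; rw [h]

theorem inv_Sg (m : ℕ) (hm : m < 512) :
    m = 0 ∨ sw m * sw m ≠ 1 ∨ ∃ f, ∃ c ∈ K, c * tF f * c⁻¹ = sw m := by
  have h := INVC_ok m hm
  unfold chkInv at h
  cases h0 : Nat.beq (nthR INVC m (0, [])).1 0
  · rw [h0, cond_false] at h
    cases h1 : Nat.beq (nthR INVC m (0, [])).1 1
    · rw [h1, cond_false, Bool.and_eq_true] at h
      right; right
      have hlt := lt_of_ltB h.1
      refine ⟨(nthR INVC m (0, [])).1 - 2, KW (nthR INVC m (0, [])).2, KW_mem_K hlt, ?_⟩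
      have h2 := h.2
      rw [nthR_eq SW m []] at h2
      have := KS_eq_of_eqP (conjw_lt hlt (wtF_l _)) (fwd_lt (SW_l m)) h2
      rw [KS_conjw, KS_fwd] at this
      exact this
    · rw [h1, cond_true] at h
      right; left
      intro hsq
      rw [nthR_eq, Bool.not_eq_true', ← Bool.not_eq_true] at h
      apply h
      have e : fpw (SW.getD m [] ++ SW.getD m []) = fpw [] := by
        apply fpw_eq (append_lt (SW_l m) (SW_l m)) (by simp)
        show prodW 100 pN pM _ = _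
        rw [prodW_append]
        exact hsq
      rw [e]
      exact Nat.beq_refl _
  · rw [h0, cond_true] at h
    left
    exact Nat.eq_of_beq_eq_true h

theorem card_SgK : Nat.card (Sg.subgroupOf K) = 2 ^ 9 := by
  rw [Nat.card_congr (Subgroup.subgroupOfEquivOfLe Sg_le_K).toEquiv, card_Sg]

/-- the conjugates of the involution of a class -/
def Cl (f : ℕ) : Set (Equiv.Perm (Fin 100)) := {u | ∃ c ∈ K, c * tF f * c⁻¹ = u}

/-- every involution is conjugate to one of the two -/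
theorem inv_conj (u : Equiv.Perm (Fin 100)) (hu : u ∈ K) (h2 : u * u = 1) (h1 : u ≠ 1) :
    u ∈ Cl 0 ∪ Cl 1 := by
  haveI : Fact (Nat.Prime 2) := ⟨Nat.prime_two⟩
  have hE : IsPGroup 2 (Sg.subgroupOf K) := IsPGroup.of_card card_SgK
  have hidx : ¬ 2 ∣ (Sg.subgroupOf K).index := by
    have h := (Sg.subgroupOf K).card_mul_index
    rw [card_SgK, card_K] at h
    have : (Sg.subgroupOf K).index = 86625 := by omega
    rw [this]
    decide
  obtain ⟨g, e, he, hue⟩ := exists_conj_mem_sylow 2 (Sg.subgroupOf K) hE hidx (⟨u, hu⟩ : ↥K) 1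
    (by
      apply Subtype.ext
      show u ^ 2 ^ 1 = 1
      rw [pow_one, pow_two]
      exact h2)
  have hv : u = g.1 * e.1 * g.1⁻¹ := congrArg Subtype.val hue
  have heS : e.1 ∈ Sg := Subgroup.mem_subgroupOf.mp he
  obtain ⟨m, hm, hme⟩ := (mem_Sg_iff e.1).mp heS
  have he1 : e.1 ≠ 1 := by
    intro h
    apply h1
    rw [hv, h]
    group
  have he2 : e.1 * e.1 = 1 := by
    have : e.1 * e.1 = g.1⁻¹ * (u * u) * g.1 := by
      rw [hv]
      group
    rw [this, h2]
    group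
  rcases inv_Sg m hm with rfl | h | ⟨f, c, hc, hce⟩
  · exfalso
    apply he1
    rw [← hme, sw_zero]
  · exfalso
    apply h
    rw [hme]
    exact he2
  · have hmem : ∀ f', tF f = tF f' → u ∈ Cl f' := by
      intro f' hf
      refine ⟨g.1 * c, K.mul_mem g.2 hc, ?_⟩
      rw [hv, ← hme, ← hce, hf]
      group
    rcases tF_cases f with h | h
    · exact Or.inl (hmem 0 h)
    · exact Or.inr (hmem 1 h)

/-! ### the centralisers of the involutions -/

/-- the permutations fixing the first `k` points -/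
def fixK (k : ℕ) : Subgroup (Equiv.Perm (Fin 100)) where
  carrier := {g | ∀ q : Fin 100, q.1 < k → g q = q}
  mul_mem' := by
    intro a b ha hb q hq
    rw [Equiv.Perm.mul_apply, hb q hq, ha q hq]
  one_mem' := fun q _ => rfl
  inv_mem' := by
    intro a ha q hq
    rw [Equiv.Perm.inv_eq_iff_eq]
    exact (ha q hq).symm

/-- the centraliser of an involution, fixing the first `k` points -/
noncomputable def CF (wt : List ℕ) (k : ℕ) : Subgroup (Equiv.Perm (Fin 100)) :=
  (K ⊓ Subgroup.centralizer {KW wt}) ⊓ fixK k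

instance (wt : List ℕ) (k : ℕ) : Finite (CF wt k) := inferInstance

theorem CF_succ_le (wt : List ℕ) (k : ℕ) : CF wt (k + 1) ≤ CF wt k := by
  intro g hg
  unfold CF at hg ⊢
  rw [Subgroup.mem_inf] at hg ⊢
  exact ⟨hg.1, fun q hq => hg.2 q (by omega)⟩

theorem mem_CF_of_chk {wt : List ℕ} (hwt : ∀ i ∈ wt, i < 273) {k : ℕ} {d : List ℕ}
    (h : (ltB d && eqw (d ++ wt) (wt ++ d) && allLt k (fun q => Nat.beq (ev pN d q) q)) = true) :
    (∀ i ∈ d, i < 273) ∧ KW d ∈ CF wt k := by
  rw [Bool.and_eq_true, Bool.and_eq_true, allLt_iff] at h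
  obtain ⟨⟨h1, h2⟩, h3⟩ := h
  have hd := lt_of_ltB h1
  refine ⟨hd, ?_⟩
  unfold CF
  rw [Subgroup.mem_inf, Subgroup.mem_inf]
  refine ⟨⟨KW_mem_K hd, ?_⟩, ?_⟩
  · rw [Subgroup.mem_centralizer_iff]
    intro z hz
    rw [Set.mem_singleton_iff] at hz
    rw [hz]
    have := KW_eq_of_eqw (append_lt hd hwt) (append_lt hwt hd) h2
    rw [← prodW_append, ← prodW_append]
    exact this.symm
  · intro q hq
    apply Fin.ext
    rw [prodW_apply 100 pN pM (fun a ha => valid_all a (hd a ha))]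
    exact Nat.eq_of_beq_eq_true (h3 q.1 hq)

/-- one step of the lower bound for the order of a centraliser -/
theorem CF_step {wt : List ℕ} (hwt : ∀ i ∈ wt, i < 273) (k : ℕ) (hk : k < 100)
    (ds : List (List ℕ)) (m : ℕ) (hlen : ds.length = m)
    (hok : ds.all (fun d => ltB d && eqw (d ++ wt) (wt ++ d) &&
      allLt k (fun q => Nat.beq (ev pN d q) q)) = true)
    (hpts : (ds.map (fun d => ev pN d k)).Nodup) (c : ℕ) (hc : c ≤ Nat.card (CF wt (k + 1))) :
    m * c ≤ Nat.card (CF wt k) := by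
  rw [List.all_eq_true] at hok
  have hmem : ∀ i : Fin m, ds.getD i.1 [] ∈ ds := by
    intro i
    have hi : i.1 < ds.length := by rw [hlen]; exact i.2
    rw [List.getD_eq_getElem _ _ hi]
    exact List.getElem_mem hi
  have h := card_centralizer_ge (CF wt k) (CF wt (k + 1)) (CF_succ_le wt k) (⟨k, hk⟩ : Fin 100)
    (fun g hg => (Subgroup.mem_inf.mp hg).2 ⟨k, hk⟩ (by simp)) m
    (fun i => KW (ds.getD i.1 []))
    (fun i => (mem_CF_of_chk hwt (hok _ (hmem i))).2)
    (by
      intro i i' e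
      apply Fin.ext
      apply idx_eq_of_nodup ds [] (fun d => ev pN d k) hpts (by rw [hlen]; exact i.2)
        (by rw [hlen]; exact i'.2)
      have e' := congrArg Fin.val e
      simp only at e'
      rw [prodW_apply 100 pN pM (fun a ha => valid_all a
          ((mem_CF_of_chk hwt (hok _ (hmem i))).1 a ha)),
        prodW_apply 100 pN pM (fun a ha => valid_all a
          ((mem_CF_of_chk hwt (hok _ (hmem i'))).1 a ha))] at e'
      exact e')
  exact le_trans (Nat.mul_le_mul_left m hc) h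

theorem card_CA_ge : 7680 ≤ Nat.card ↥(K ⊓ Subgroup.centralizer {tF 0}) := by
  have h3 : 1 ≤ Nat.card (CF wtA 3) := Nat.one_le_iff_ne_zero.mpr Nat.card_pos.ne'
  have h2 := CF_step wtA_lt 2 (by norm_num) CHA2 3 CHA2_len CHA2_ok CHA2_pts 1 h3
  have h1 := CF_step wtA_lt 1 (by norm_num) CHA1 32 CHA1_len CHA1_ok CHA1_pts _ h2
  have h0 := CF_step wtA_lt 0 (by norm_num) CHA0 80 CHA0_len CHA0_ok CHA0_pts _ h1
  have hle : Nat.card (CF wtA 0) ≤ Nat.card ↥(K ⊓ Subgroup.centralizer {tF 0}) :=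
    Subgroup.card_le_of_le (by unfold CF; exact inf_le_left)
  omega

theorem card_CB_ge : 2880 ≤ Nat.card ↥(K ⊓ Subgroup.centralizer {tF 1}) := by
  have h3 : 1 ≤ Nat.card (CF wtB 3) := Nat.one_le_iff_ne_zero.mpr Nat.card_pos.ne'
  have h2 := CF_step wtB_lt 2 (by norm_num) CHB2 2 CHB2_len CHB2_ok CHB2_pts 1 h3
  have h1 := CF_step wtB_lt 1 (by norm_num) CHB1 36 CHB1_len CHB1_ok CHB1_pts _ h2
  have h0 := CF_step wtB_lt 0 (by norm_num) CHB0 40 CHB0_len CHB0_ok CHB0_pts _ h1
  have hle : Nat.card (CF wtB 0) ≤ Nat.card ↥(K ⊓ Subgroup.centralizer {tF 1}) :=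
    Subgroup.card_le_of_le (by unfold CF; exact inf_le_left)
  omega

instance (f : ℕ) : Finite (Cl f) := Set.toFinite _

theorem card_ClA_le : Nat.card (Cl 0) ≤ 5775 := by
  have h := card_conj_mul_le K (tF 0)
  rw [card_K] at h
  have h2 := card_CA_ge
  have h3 : Nat.card (Cl 0) * 7680 ≤ 5775 * 7680 :=
    le_trans (Nat.mul_le_mul_left _ h2) (by unfold Cl; omega)
  omega

theorem card_ClB_le : Nat.card (Cl 1) ≤ 15400 := by
  have h := card_conj_mul_le K (tF 1)
  rw [card_K] at h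
  have h2 := card_CB_ge
  have h3 : Nat.card (Cl 1) * 2880 ≤ 15400 * 2880 :=
    le_trans (Nat.mul_le_mul_left _ h2) (by unfold Cl; omega)
  omega

theorem card_inv_le : Nat.card ↥(Cl 0 ∪ Cl 1) ≤ 21175 := by
  have h := Set.ncard_union_le (Cl 0) (Cl 1)
  have e1 : (Cl 0 ∪ Cl 1).ncard = Nat.card ↥(Cl 0 ∪ Cl 1) := rfl
  have e2 : (Cl 0).ncard = Nat.card (Cl 0) := rfl
  have e3 : (Cl 1).ncard = Nat.card (Cl 1) := rfl
  rw [e1, e2, e3] at h
  have := card_ClA_le
  have := card_ClB_le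
  omega

/-! ### the element of order 11 -/

/-- the element of order `11` -/
noncomputable def x0 : Equiv.Perm (Fin 100) := P 100 pN pM 261

/-- an element normalizing it -/
noncomputable def nn : Equiv.Perm (Fin 100) := P 100 pN pM 271

theorem x0_mem : x0 ∈ K := P_mem_K 261 (by norm_num)

theorem nn_mem : nn ∈ K := P_mem_K 271 (by norm_num)

theorem xi_lt {i : ℕ} (hi : i < 11) : xi i < 273 := by
  unfold xi
  cases h : Nat.beq i 0
  · rw [cond_false]; omega
  · rw [cond_true]; norm_num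

theorem xi_zero : xi 0 = 0 := rfl

theorem xi_succ (i : ℕ) : xi (i + 1) = 261 + i := by
  unfold xi
  have : Nat.beq (i + 1) 0 = false := rfl
  rw [this, cond_false]
  omega

theorem P_xi : ∀ i < 11, P 100 pN pM (xi i) = x0 ^ i := by
  intro i
  induction i with
  | zero =>
    intro _
    rw [xi_zero, P0, pow_zero]
  | succ i ih =>
    intro hi
    have h1 := KW_eq_of_eqw (lt_pair (by norm_num : 261 < 273) (xi_lt (by omega : i < 11)))
      (lt_single (xi_lt hi)) (X_pow i (by omega))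
    rw [KW_single] at h1
    rw [← h1]
    show prodW 100 pN pM [261, xi i] = _
    rw [prodW_cons, prodW_cons, prodW_nil, mul_one, ih (by omega), pow_succ']
    rfl

theorem x0_pow_eleven : x0 ^ 11 = 1 := by
  have h1 := KW_eq_of_eqw (lt_pair (by norm_num : 261 < 273) (by norm_num : 270 < 273))
    (by simp) X_11
  have h2 : P 100 pN pM 270 = x0 ^ 10 := P_xi 10 (by norm_num)
  rw [KW_nil] at h1
  rw [← h1]
  show _ = prodW 100 pN pM [261, 270]
  rw [prodW_cons, prodW_cons, prodW_nil, mul_one, h2]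
  show x0 ^ 11 = x0 * x0 ^ 10
  rw [← pow_succ']

theorem x0_ne_one : x0 ≠ 1 := by
  intro h
  apply X_ne
  apply fpw_eq (lt_single (by norm_num : 261 < 273)) (by simp)
  rw [KW_single, KW_nil]
  exact h

theorem nn_conj : nn * x0 * nn⁻¹ = x0 ^ 3 := by
  have h := KS_eq_of_eqP (conjw_lt (lt_single (by norm_num : 271 < 273))
    (lt_single (by norm_num : 261 < 273))) (fwd_lt (lt_single (by norm_num : 263 < 273))) N_ok
  rw [KS_conjw, KS_fwd, KW_single, KW_single, KW_single] at h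
  have h3 : P 100 pN pM 263 = x0 ^ 3 := P_xi 3 (by norm_num)
  rw [h3] at h
  exact h

/-! ### the list of the involutions -/

theorem RD_l (j : ℕ) : ∀ a ∈ (RD.getD j RDd).2.1, a < 273 := by
  by_cases hj : j < RD.length
  · rw [List.getD_eq_getElem _ _ hj]
    have h := RD_lt
    rw [List.all_eq_true] at h
    exact lt_of_ltB (h _ (List.getElem_mem hj))
  · rw [List.getD_eq_default _ _ (not_lt.mp hj)]
    simp [RDd]

theorem rrW_eq (j : ℕ) : rrW j = conjw (RD.getD j RDd).2.1 (wtF (RD.getD j RDd).1) := by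
  unfold rrW
  rw [nthR_eq]

theorem rrW_lt (j : ℕ) : ∀ l ∈ rrW j, l.1 < 273 := by
  rw [rrW_eq]
  exact conjw_lt (RD_l j) (wtF_l _)

/-- the signed word of a conjugate of an involution by a power of the element of order `11` -/
noncomputable def clsW (i j : ℕ) : List (ℕ × Bool) :=
  (xi i, true) :: (rrW j ++ [(xi i, false)])

/-- the representatives of the involutions -/
noncomputable def rr (j : ℕ) : Equiv.Perm (Fin 100) := KS (rrW j)

/-- the involutions -/
noncomputable def cl (i j : ℕ) : Equiv.Perm (Fin 100) := KS (clsW i j)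

theorem rr_eq (j : ℕ) : rr j = KW (RD.getD j RDd).2.1 * tF (RD.getD j RDd).1 *
    (KW (RD.getD j RDd).2.1)⁻¹ := by
  unfold rr
  rw [rrW_eq]
  exact KS_conjw _ _

theorem rr_mem_K (j : ℕ) : rr j ∈ K := KS_mem_K (rrW_lt j)

theorem clsW_lt {i : ℕ} (hi : i < 11) (j : ℕ) : ∀ l ∈ clsW i j, l.1 < 273 := by
  intro l hl
  unfold clsW at hl
  rw [List.mem_cons, List.mem_append] at hl
  rcases hl with rfl | h | h
  · exact xi_lt hi
  · exact rrW_lt j l h
  · simp only [List.mem_cons, List.not_mem_nil, or_false] at h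
    rw [h]
    exact xi_lt hi

theorem cl_eq {i : ℕ} (hi : i < 11) (j : ℕ) : cl i j = x0 ^ i * rr j * (x0 ^ i)⁻¹ := by
  unfold cl clsW rr
  show prodS 100 pN pM _ = _
  rw [prodS_cons, prodS_append]
  have h1 : PS 100 pN pM (xi i, true) = x0 ^ i := by
    unfold PS
    rw [if_pos rfl]
    exact P_xi i hi
  have h2 : prodS 100 pN pM [(xi i, false)] = (x0 ^ i)⁻¹ := by
    have := KS_single_inv (xi i)
    rw [P_xi i hi] at this
    exact this
  rw [h1, h2, mul_assoc]

theorem cl_mem {i : ℕ} (hi : i < 11) (j : ℕ) : cl i j ∈ Cl 0 ∪ Cl 1 := by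
  have hmem : ∀ f', tF (RD.getD j RDd).1 = tF f' → cl i j ∈ Cl f' := by
    intro f' hf
    refine ⟨x0 ^ i * KW (RD.getD j RDd).2.1,
      K.mul_mem (K.pow_mem x0_mem i) (KW_mem_K (RD_l j)), ?_⟩
    rw [cl_eq hi, rr_eq, hf]
    group
  rcases tF_cases (RD.getD j RDd).1 with h | h
  · exact Or.inl (hmem 0 h)
  · exact Or.inr (hmem 1 h)

theorem codes_clsW (i j : ℕ) :
    codesOf pN pM (clsW i j) = pN (xi i) :: (codesOf pN pM (rrW j) ++ [pM (xi i)]) := by
  unfold clsW codesOf
  rw [List.map_cons, List.map_append, List.map_cons, List.map_nil]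
  rfl

theorem look_cl {i j : ℕ} (hi : i < 11) (hj : j < 1925) :
    lookH (fpS pN pM BASE (clsW i j)) = 11 * j + i := by
  have h := FL_ok j hj
  unfold chkFL at h
  rw [forceList_eq, allLt_iff] at h
  have h2 := h i hi
  rw [withVal_eq] at h2
  have h3 := Nat.eq_of_beq_eq_true h2
  unfold fpS
  rw [forceList_eq, codes_clsW]
  exact h3

theorem cl_inj {i i' j j' : ℕ} (hi : i < 11) (hi' : i' < 11) (hj : j < 1925) (hj' : j' < 1925)
    (e : cl i j = cl i' j') : i = i' ∧ j = j' := by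
  have hfp : fpS pN pM BASE (clsW i j) = fpS pN pM BASE (clsW i' j') :=
    fpS_eq (clsW_lt hi j) (clsW_lt hi' j') e
  have h1 := look_cl hi hj
  have h2 := look_cl hi' hj'
  rw [hfp, h2] at h1
  omega

/-- every involution is in the list -/
theorem inv_list (u : Equiv.Perm (Fin 100)) (hu : u ∈ K) (h2 : u * u = 1) (h1 : u ≠ 1) :
    ∃ i < 11, ∃ j < 1925, u = x0 ^ i * rr j * (x0 ^ i)⁻¹ := by
  have hcl : u ∈ Cl 0 ∪ Cl 1 := inv_conj u hu h2 h1
  haveI : Finite ↥(Cl 0 ∪ Cl 1) := Set.toFinite _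
  have := exists_of_card_le (Cl 0 ∪ Cl 1) 21175 (fun k => cl (k.1 % 11) (k.1 / 11))
    (by
      intro k k' e
      have hk : k.1 / 11 < 1925 := by have := k.2; omega
      have hk' : k'.1 / 11 < 1925 := by have := k'.2; omega
      obtain ⟨e1, e2⟩ := cl_inj (Nat.mod_lt _ (by norm_num)) (Nat.mod_lt _ (by norm_num)) hk hk' e
      apply Fin.ext
      omega)
    (fun k => cl_mem (Nat.mod_lt _ (by norm_num)) _) card_inv_le u hcl
  obtain ⟨k, hk⟩ := this
  have hk' : k.1 / 11 < 1925 := by have := k.2; omega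
  refine ⟨k.1 % 11, Nat.mod_lt _ (by norm_num), k.1 / 11, hk', ?_⟩
  rw [← hk]
  exact cl_eq (Nat.mod_lt _ (by norm_num)) _

end Cfsg.Agent.Lib.Helper9.HSa
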