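import Cfsg.Agent.Lib.Helper9.SSB

set_option autoImplicit false
set_option linter.unusedSectionVars false
set_option linter.unusedVariables false

/-! Verified stabiliser chains: the orbit of the base point of a level is the set of images under
the transversal. -/

namespace Cfsg.Agent.Lib.Helper9.SSD

open Cfsg.Agent.Lib.Helper8.SS Cfsg.Agent.Lib.Helper9.SSB Subgroup MulAction

variable {n : ℕ} [NeZero n] {pN pM : ℕ → ℕ} {np : ℕ}

/-- an element of the group of a level maps the base point to the image under an element of the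
transversal -/
theorem orbit_spec (hv : ∀ i < np, Valid n (pN i) (pM i)) (hid : ∀ x < n, get (pN 0) x = x)
    (L : Level) (Snext deep : List ℕ) (hok : LevelOK n pN np L Snext deep)
    (hdeep : ∀ i ∈ deep, i < np ∧ P n pN pM i ∈ grp n pN pM Snext)
    (g : Equiv.Perm (Fin n)) (hg : g ∈ grp n pN pM L.S) :
    ∃ i ∈ L.U, g ⟨L.b, hok.1⟩ = P n pN pM i ⟨L.b, hok.1⟩ := by
  classical
  obtain ⟨hU, hle, hcard⟩ := level_spec (pM := pM) hv hid L Snext deep hok hdeep
  have hstabspec := stab_spec hv hid L Snext deep hok hdeep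
  obtain ⟨hb, hSlt, hUlt, hhead, htree, hsift, hnest, hfixS, hnodup⟩ := hok
  set p : Fin n := ⟨L.b, hb⟩ with hp
  have hHfix : ∀ h ∈ grp n pN pM Snext, h p = p :=
    grp_fix hv (fun i hi => hSlt i (hnest i hi)) hb hfixS
  have hnd := nodup_points hv hUlt p hnodup
  have h1 : (L.U.map (fun i => (P n pN pM i) p)).toFinset.card = L.U.length := by
    rw [List.toFinset_card_of_nodup hnd, List.length_map]
  have hsub : ((L.U.map (fun i => (P n pN pM i) p)).toFinset : Set (Fin n)) ⊆
      orbit (grp n pN pM L.S) p := by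
    intro q hq
    rw [Finset.mem_coe, List.mem_toFinset, List.mem_map] at hq
    obtain ⟨i, hi, rfl⟩ := hq
    exact ⟨⟨P n pN pM i, hU i hi⟩, rfl⟩
  have hos : Nat.card (stabilizer (grp n pN pM L.S) p) * (orbit (grp n pN pM L.S) p).ncard =
      Nat.card (grp n pN pM L.S) := by
    rw [← index_stabilizer (grp n pN pM L.S) p]
    exact (stabilizer (grp n pN pM L.S) p).card_mul_index
  have heq : (grp n pN pM Snext).subgroupOf (grp n pN pM L.S) =
      stabilizer (grp n pN pM L.S) p := by
    ext h
    rw [Subgroup.mem_subgroupOf, mem_stabilizer_iff]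
    constructor
    · intro hh
      exact hHfix h.1 hh
    · intro hh
      exact hstabspec h.1 h.2 hh
  have hcs : Nat.card ((grp n pN pM Snext).subgroupOf (grp n pN pM L.S)) =
      Nat.card (grp n pN pM Snext) :=
    Nat.card_congr (Subgroup.subgroupOfEquivOfLe hle).toEquiv
  have hHpos : 0 < Nat.card (grp n pN pM Snext) := Nat.card_pos
  have horb : (orbit (grp n pN pM L.S) p).ncard = L.U.length := by
    rw [← heq, hcs, hcard, mul_comm] at hos
    exact Nat.eq_of_mul_eq_mul_right hHpos hos
  have hfin : (orbit (grp n pN pM L.S) p).Finite := Set.toFinite _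
  have hEq : ((L.U.map (fun i => (P n pN pM i) p)).toFinset : Set (Fin n)) =
      orbit (grp n pN pM L.S) p := by
    apply Set.eq_of_subset_of_ncard_le hsub _ hfin
    rw [horb, Set.ncard_coe_finset, h1]
  have hgp : g p ∈ orbit (grp n pN pM L.S) p := ⟨⟨g, hg⟩, rfl⟩
  rw [← hEq, Finset.mem_coe, List.mem_toFinset, List.mem_map] at hgp
  obtain ⟨i, hi, e⟩ := hgp
  exact ⟨i, hi, e.symm⟩

end Cfsg.Agent.Lib.Helper9.SSD
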