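import Cfsg.Agent.Lib.Helper9.HSj
import Cfsg.Agent.Lib.Helper9.SSD

set_option autoImplicit false
set_option maxRecDepth 100000

/-! The automorphisms of the permutation group of degree 100: generation by an element of order
11 and an involution, elimination of the candidate images, the outer automorphism. -/

namespace Cfsg.Agent.Lib.Helper9.HSa

open Cfsg.Agent.Lib.Helper8.SS Cfsg.Agent.Lib.Helper8.MatN Cfsg.Agent.Lib.Helper8.FastDec
  Cfsg.Agent.Lib.Helper9.SSB Cfsg.Agent.Lib.Helper9.SSC Cfsg.Agent.Lib.Helper9.SSD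
  Cfsg.Agent.Lib.Helper9.SSE Cfsg.Agent.Lib.Helper9.SlpS
  Cfsg.Agent.Lib.Helper9.GrpCount Cfsg.Agent.Lib.Helper9.OutG Cfsg.Agent.Lib.Helper9.J1O

/-! ### generation -/

/-- the involution of the generating pair -/
noncomputable def r0 : Equiv.Perm (Fin 100) := P 100 pN pM 272

theorem r0_mem : r0 ∈ K := P_mem_K 272 (by norm_num)

theorem K_pair : Subgroup.closure ({x0, r0} : Set (Equiv.Perm (Fin 100))) = K := by
  have h1 : grp 100 pN pM [1, 2, 3, 261, 272] = grp 100 pN pM [261, 272] :=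
    grp_eq_of_slp valid_all slp2_ok (by decide) (by decide)
  have h2 : grp 100 pN pM [1, 2, 3, 261, 272] = K := by
    apply le_antisymm
    · apply (Subgroup.closure_le _).mpr
      rintro g ⟨i, hi, rfl⟩
      simp only [List.mem_cons, List.not_mem_nil, or_false] at hi
      rcases hi with rfl | rfl | rfl | rfl | rfl <;> exact P_mem_K _ (by norm_num)
    · rw [K_eq]
      apply Subgroup.closure_mono
      rintro g ⟨i, hi, rfl⟩
      refine ⟨i, ?_, rfl⟩
      simp only [List.mem_cons, List.not_mem_nil, or_false] at hi ⊢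
      rcases hi with rfl | rfl | rfl <;> simp
  rw [← h2, h1]
  unfold grp
  congr 1
  ext g
  simp only [List.mem_cons, List.not_mem_nil, or_false, Set.mem_setOf_eq, Set.mem_insert_iff,
    Set.mem_singleton_iff]
  constructor
  · rintro (rfl | rfl)
    · exact ⟨261, Or.inl rfl, rfl⟩
    · exact ⟨272, Or.inr rfl, rfl⟩
  · rintro ⟨i, rfl | rfl, rfl⟩
    · left; rfl
    · right; rfl

/-- the element of order `11` in the group -/
noncomputable def x0K : ↥K := ⟨x0, x0_mem⟩

/-- the involution in the group -/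
noncomputable def r0K : ↥K := ⟨r0, r0_mem⟩

/-- the normalizing element in the group -/
noncomputable def nnK : ↥K := ⟨nn, nn_mem⟩

theorem pair_top : Subgroup.closure ({x0K, r0K} : Set ↥K) = ⊤ := by
  apply closure_subtype_top
  have : (Subtype.val '' ({x0K, r0K} : Set ↥K)) = ({x0, r0} : Set (Equiv.Perm (Fin 100))) := by
    rw [Set.image_pair]
    rfl
  rw [this]
  exact K_pair

/-! ### relations -/

theorem REL_getD_mem {ρ : ℕ} (hρ : ρ < 5) : REL.getD ρ [] ∈ REL := by
  have h : ρ < REL.length := by rw [REL_len]; exact hρ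
  rw [List.getD_eq_getElem _ _ h]
  exact List.getElem_mem h

theorem rel_base {ρ : ℕ} (hρ : ρ < 5) : evalG x0 r0 (REL.getD ρ []) = 1 := by
  have h := REL_ok
  rw [List.all_eq_true] at h
  have h1 := h _ (REL_getD_mem hρ)
  have h2 := KS_eq_of_eqP (expand_lt (lt_sing (by norm_num : 261 < 273))
    (lt_sing (by norm_num : 272 < 273)) _) (by simp) h1
  have h3 : KS (expand [(261, true)] [(272, true)] (REL.getD ρ [])) =
      evalG (KS [(261, true)]) (KS [(272, true)]) (REL.getD ρ []) := prodS_expand _ _ _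
  rw [h3, KS_single, KS_single, KS_nil] at h2
  exact h2

/-- a failing relation -/
theorem cand_false {x : ℕ} (hx : x < 273) (j ρ p : ℕ) (h : candB x j ρ p = true) :
    evalG (P 100 pN pM x) (rr j) (REL.getD ρ []) ≠ 1 := by
  intro he
  unfold candB at h
  rw [Bool.and_eq_true, Bool.and_eq_true] at h
  obtain ⟨⟨hp, -⟩, hne⟩ := h
  rw [Nat.blt_eq] at hp
  rw [nthR_eq, Bool.not_eq_true', ← Bool.not_eq_true] at hne
  apply hne
  rw [evC_codesOf]
  suffices hs : evS pN pM (expand [(x, true)] (rrW j) (REL.getD ρ [])) p = p by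
    rw [hs]
    exact Nat.beq_refl _
  have h3 : KS (expand [(x, true)] (rrW j) (REL.getD ρ [])) =
      evalG (KS [(x, true)]) (KS (rrW j)) (REL.getD ρ []) := prodS_expand _ _ _
  rw [KS_single] at h3
  have h4 : KS (expand [(x, true)] (rrW j) (REL.getD ρ [])) = 1 := by
    rw [h3]
    exact he
  have h5 := prodS_apply 100 pN pM (w := expand [(x, true)] (rrW j) (REL.getD ρ []))
    (fun l hl => valid_all _ (expand_lt (lt_sing hx) (rrW_lt j) _ l hl)) ⟨p, hp⟩
  have h6 : prodS 100 pN pM (expand [(x, true)] (rrW j) (REL.getD ρ [])) = 1 := h4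
  rw [h6] at h5
  exact h5.symm

theorem candB_lt {x j ρ p : ℕ} (h : candB x j ρ p = true) : ρ < 5 := by
  unfold candB at h
  rw [Bool.and_eq_true, Bool.and_eq_true] at h
  have := h.1.2
  rwa [Nat.blt_eq] at this

theorem cand_elim (k0 : ℕ) (hk : k0 = 1 ∨ k0 = 2) (j : ℕ) (hj : j < 1925)
    (hrel : ∀ ρ < 5, evalG (x0 ^ k0) (rr j) (REL.getD ρ []) = 1) :
    (k0 = 1 ∧ j = 0) ∨ (k0 = 2 ∧ j = J2) := by
  have h := CAND_ok j hj
  unfold candChk at h
  rw [Bool.and_eq_true] at h
  obtain ⟨h1, h2⟩ := h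
  have hx1 : P 100 pN pM 261 = x0 ^ 1 := by rw [pow_one]; rfl
  have hx2 : P 100 pN pM 262 = x0 ^ 2 := P_xi 2 (by norm_num)
  rcases hk with rfl | rfl
  · left
    refine ⟨rfl, ?_⟩
    cases hm : Nat.beq (nthR RD j RDd).2.2.1.1 999
    · exfalso
      rw [hm, cond_false] at h1
      have := cand_false (by norm_num : 261 < 273) j _ _ h1
      rw [hx1] at this
      exact this (hrel _ (candB_lt h1))
    · rw [hm, cond_true] at h1
      exact Nat.eq_of_beq_eq_true h1
  · right
    refine ⟨rfl, ?_⟩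
    cases hm : Nat.beq (nthR RD j RDd).2.2.2.1 999
    · exfalso
      rw [hm, cond_false] at h2
      have := cand_false (by norm_num : 262 < 273) j _ _ h2
      rw [hx2] at this
      exact this (hrel _ (candB_lt h2))
    · rw [hm, cond_true] at h2
      exact Nat.eq_of_beq_eq_true h2

theorem rr_zero : rr 0 = r0 := by
  have := KS_eq_of_eqP (rrW_lt 0) (lt_sing (by norm_num : 272 < 273)) r0_ok
  rw [KS_single] at this
  exact this

/-! ### the outer automorphism -/

/-- the permutation inducing the outer automorphism -/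
noncomputable def sig : Equiv.Perm (Fin 100) := perm 100 sN sM

theorem sig_apply (x : Fin 100) : (sig x).1 = get sN x.1 := perm_apply 100 sig_valid x

theorem sig_inv_apply (x : Fin 100) : (sig⁻¹ x).1 = get sM x.1 := perm_inv_apply 100 sig_valid x

theorem SIGW_l (a : ℕ) : ∀ i ∈ SIGW.getD a [], i < 273 := getD_forall SIGW_lt a

theorem SIGWi_l (a : ℕ) : ∀ i ∈ SIGWi.getD a [], i < 273 := getD_forall SIGWi_lt a

theorem sig_conj_gen (a : ℕ) (ha : a < 3) :
    sig * P 100 pN pM (a + 1) * sig⁻¹ = KW (SIGW.getD a []) := by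
  rw [mul_inv_eq_iff_eq_mul]
  apply Equiv.ext
  intro x
  apply Fin.ext
  rw [Equiv.Perm.mul_apply, Equiv.Perm.mul_apply, sig_apply,
    P_apply_val valid_all (by omega : a + 1 < 273),
    prodW_apply 100 pN pM (fun i hi => valid_all i (SIGW_l a i hi)), sig_apply]
  have := sig_gen a ha x.1 x.2
  rw [nthR_eq] at this
  exact this

theorem sig_conj_gen' (a : ℕ) (ha : a < 3) :
    sig⁻¹ * P 100 pN pM (a + 1) * sig = KW (SIGWi.getD a []) := by
  have : sig⁻¹ * P 100 pN pM (a + 1) * sig = sig⁻¹ * P 100 pN pM (a + 1) * (sig⁻¹)⁻¹ := by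
    rw [inv_inv]
  rw [this, mul_inv_eq_iff_eq_mul]
  apply Equiv.ext
  intro x
  apply Fin.ext
  rw [Equiv.Perm.mul_apply, Equiv.Perm.mul_apply, sig_inv_apply,
    P_apply_val valid_all (by omega : a + 1 < 273),
    prodW_apply 100 pN pM (fun i hi => valid_all i (SIGWi_l a i hi)), sig_inv_apply]
  have := sig_gen' a ha x.1 x.2
  rw [nthR_eq] at this
  exact this

theorem K_closure : K = Subgroup.closure {g | ∃ a < 3, P 100 pN pM (a + 1) = g} := by
  rw [K_eq]
  unfold grp
  congr 1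
  ext g
  simp only [List.mem_cons, List.not_mem_nil, or_false, Set.mem_setOf_eq]
  constructor
  · rintro ⟨i, rfl | rfl | rfl, rfl⟩
    · exact ⟨0, by norm_num, rfl⟩
    · exact ⟨1, by norm_num, rfl⟩
    · exact ⟨2, by norm_num, rfl⟩
  · rintro ⟨a, ha, rfl⟩
    interval_cases a
    · exact ⟨1, Or.inl rfl, rfl⟩
    · exact ⟨2, Or.inr (Or.inl rfl), rfl⟩
    · exact ⟨3, Or.inr (Or.inr rfl), rfl⟩

theorem sig_norm : ∀ g ∈ K, sig * g * sig⁻¹ ∈ K := by
  apply conj_mem_of_closure _ K K_closure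
  rintro g ⟨a, ha, rfl⟩
  rw [sig_conj_gen a ha]
  exact KW_mem_K (SIGW_l a)

theorem sig_norm' : ∀ g ∈ K, sig⁻¹ * g * sig ∈ K := by
  have := conj_mem_of_closure _ K K_closure sig⁻¹ (by
    rintro g ⟨a, ha, rfl⟩
    rw [inv_inv, sig_conj_gen' a ha]
    exact KW_mem_K (SIGWi_l a))
  intro g hg
  have h := this g hg
  rwa [inv_inv] at h

/-- the outer automorphism -/
noncomputable def tau : ↥K ≃* ↥K := conjAutK K sig sig_norm sig_norm'

theorem tau_val (g : ↥K) : (tau g).1 = sig * g.1 * sig⁻¹ := rfl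

theorem sig_x0 : sig * x0 * sig⁻¹ = x0 ^ 2 := by
  rw [← P_xi 2 (by norm_num), mul_inv_eq_iff_eq_mul]
  apply Equiv.ext
  intro x
  apply Fin.ext
  unfold x0
  have e2 : xi 2 = 262 := rfl
  rw [e2, Equiv.Perm.mul_apply, Equiv.Perm.mul_apply, sig_apply,
    P_apply_val valid_all (by norm_num : 261 < 273),
    P_apply_val valid_all (by norm_num : 262 < 273), sig_apply]
  exact sig_x x.1 x.2

theorem sig_r0 : sig * r0 * sig⁻¹ = rr J2 := by
  rw [mul_inv_eq_iff_eq_mul]
  apply Equiv.ext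
  intro x
  apply Fin.ext
  unfold r0 rr
  rw [Equiv.Perm.mul_apply, Equiv.Perm.mul_apply, sig_apply,
    P_apply_val valid_all (by norm_num : 272 < 273)]
  have h5 := prodS_apply 100 pN pM (w := rrW J2)
    (fun l hl => valid_all _ (rrW_lt J2 l hl)) (sig x)
  rw [sig_apply] at h5
  rw [sig_r x.1 x.2]
  exact h5.symm

/-! ### the permutation is not in the group -/

theorem sig_not_mem : sig ∉ K := by
  intro hs
  have hρK : KS (bwd SIFT) * sig ∈ K := K.mul_mem (KS_mem_K (by
    intro l hl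
    unfold bwd at hl
    rw [List.mem_map] at hl
    obtain ⟨i, hi, rfl⟩ := hl
    exact SIFT_lt i (List.mem_reverse.mp hi))) hs
  have hval : ∀ b (hb : b < 100), ((KS (bwd SIFT) * sig) ⟨b, hb⟩).1 =
      evS pN pM (bwd SIFT) (get sN b) := by
    intro b hb
    rw [Equiv.Perm.mul_apply]
    have h5 := prodS_apply 100 pN pM (w := bwd SIFT) (by
      intro l hl
      unfold bwd at hl
      rw [List.mem_map] at hl
      obtain ⟨i, hi, rfl⟩ := hl
      exact valid_all _ (SIFT_lt i (List.mem_reverse.mp hi))) (sig ⟨b, hb⟩)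
    rw [sig_apply] at h5
    exact h5
  have hf0 : (KS (bwd SIFT) * sig) ⟨0, by norm_num⟩ = ⟨0, by norm_num⟩ :=
    Fin.ext ((hval 0 (by norm_num)).trans (sig_sift 0 (by norm_num)))
  have hf1 : (KS (bwd SIFT) * sig) ⟨1, by norm_num⟩ = ⟨1, by norm_num⟩ :=
    Fin.ext ((hval 1 (by norm_num)).trans (sig_sift 1 (by norm_num)))
  have hf2 : (KS (bwd SIFT) * sig) ⟨2, by norm_num⟩ = ⟨2, by norm_num⟩ :=
    Fin.ext ((hval 2 (by norm_num)).trans (sig_sift 2 (by norm_num)))
  have hf3 : (KS (bwd SIFT) * sig) ⟨3, by norm_num⟩ = ⟨3, by norm_num⟩ :=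
    Fin.ext ((hval 3 (by norm_num)).trans (sig_sift 3 (by norm_num)))
  have hf4 : (KS (bwd SIFT) * sig) ⟨4, by norm_num⟩ = ⟨4, by norm_num⟩ :=
    Fin.ext ((hval 4 (by norm_num)).trans (sig_sift 4 (by norm_num)))
  have hc := chain
  obtain ⟨hl0, hl1, hl2, hl3, hl4, hl5, -⟩ := hc
  have hd1 := (chain_spec (pM := pM) valid_all id_tab [L1, L2, L3, L4, L5]
    ⟨hl1, hl2, hl3, hl4, hl5, trivial⟩).1
  have hd2 := (chain_spec (pM := pM) valid_all id_tab [L2, L3, L4, L5]
    ⟨hl2, hl3, hl4, hl5, trivial⟩).1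
  have hd3 := (chain_spec (pM := pM) valid_all id_tab [L3, L4, L5] ⟨hl3, hl4, hl5, trivial⟩).1
  have hd4 := (chain_spec (pM := pM) valid_all id_tab [L4, L5] ⟨hl4, hl5, trivial⟩).1
  have hd5 := (chain_spec (pM := pM) valid_all id_tab [L5] ⟨hl5, trivial⟩).1
  have m1 := stab_spec valid_all id_tab L0 L1.S (deepOf [L1, L2, L3, L4, L5]) hl0 hd1 _ hρK hf0
  have m2 := stab_spec valid_all id_tab L1 L2.S (deepOf [L2, L3, L4, L5]) hl1 hd2 _ m1 hf1
  have m3 := stab_spec valid_all id_tab L2 L3.S (deepOf [L3, L4, L5]) hl2 hd3 _ m2 hf2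
  have m4 := stab_spec valid_all id_tab L3 L4.S (deepOf [L4, L5]) hl3 hd4 _ m3 hf3
  have m5 := stab_spec valid_all id_tab L4 L5.S (deepOf [L5]) hl4 hd5 _ m4 hf4
  obtain ⟨i, hi, e⟩ := orbit_spec valid_all id_tab L5 [] (deepOf []) hl5
    (chain_spec (pM := pM) valid_all id_tab [] trivial).1 _ m5
  apply sig_out
  rw [List.mem_map]
  refine ⟨i, hi, ?_⟩
  have e' : ((KS (bwd SIFT) * sig) ⟨5, by norm_num⟩).1 =
      ((P 100 pN pM i) ⟨5, by norm_num⟩).1 := congrArg Fin.val e
  rw [hval 5 (by norm_num), sig_sift5, P_apply_val valid_all (hl5.2.2.1 i hi)] at e'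
  exact e'.symm

end Cfsg.Agent.Lib.Helper9.HSa
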