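import Cfsg.Agent.Lib.Helper9.HSp

set_option autoImplicit false
set_option maxRecDepth 100000

/-! The outer automorphism group of the permutation group of degree 100 has order two. -/

namespace Cfsg.Agent.Lib.Helper9.HSa

open Cfsg.Agent.Lib.Helper8.SS Cfsg.Agent.Lib.Helper8.MatN Cfsg.Agent.Lib.Helper8.FastDec
  Cfsg.Agent.Lib.Helper9.SSB Cfsg.Agent.Lib.Helper9.SSC Cfsg.Agent.Lib.Helper9.SSD
  Cfsg.Agent.Lib.Helper9.SSE Cfsg.Agent.Lib.Helper9.SlpS
  Cfsg.Agent.Lib.Helper9.GrpCount Cfsg.Agent.Lib.Helper9.OutG Cfsg.Agent.Lib.Helper9.J1O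

theorem K_trans (p : Fin 100) : ∃ g ∈ K, g p0 = p := by
  have hU : ∀ i ∈ L0.U, i < 273 := chain.1.2.2.1
  obtain ⟨i, hi, h⟩ := exists_of_mem_points (pM := pM) valid_all hU p0 p (cover0 p.1 p.2)
  exact ⟨P 100 pN pM i, P_mem_K i (hU i hi), h⟩

/-- the point stabiliser fixes no other point -/
theorem fix_K0 (y : Fin 100) (h : ∀ x ∈ K0, x y = y) : y = p0 := by
  rcases fix0_ok y.1 y.2 with h0 | ⟨a, ha, hne⟩
  · exact Fin.ext h0
  · exfalso
    apply hne
    have hmem : P 100 pN pM a ∈ K0 := Subgroup.subset_closure ⟨a, ha, rfl⟩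
    have h2 := congrArg Fin.val (h _ hmem)
    have halt : a < 273 := chain1.1.2.1 a ha
    rw [P_apply_val valid_all halt] at h2
    exact h2

/-- the centraliser of the group in the symmetric group is trivial -/
theorem centralizer_trivial (c : Equiv.Perm (Fin 100)) (hc : ∀ g ∈ K, c * g = g * c) : c = 1 := by
  have h0 : c p0 = p0 := by
    apply fix_K0
    intro s hs
    have h1 := hc s (K0_le hs)
    have h2 := congrArg (fun z => z p0) h1
    simp only [Equiv.Perm.mul_apply] at h2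
    rw [K0_fix s hs] at h2
    exact h2.symm
  apply Equiv.ext
  intro p
  obtain ⟨g, hg, rfl⟩ := K_trans p
  have h1 := hc g hg
  have h2 := congrArg (fun z => z p0) h1
  simp only [Equiv.Perm.mul_apply] at h2
  rw [h0] at h2
  exact h2

theorem tau_not_inner : ¬ ∃ k : ↥K, ∀ g : ↥K, tau g = k * g * k⁻¹ := by
  rintro ⟨k, hk⟩
  apply sig_not_mem
  have hc : k.1⁻¹ * sig = 1 := by
    apply centralizer_trivial
    intro g hg
    have h1 := congrArg Subtype.val (hk ⟨g, hg⟩)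
    rw [tau_val] at h1
    have h2 : sig * g * sig⁻¹ = k.1 * g * k.1⁻¹ := h1
    calc k.1⁻¹ * sig * g = k.1⁻¹ * (sig * g * sig⁻¹) * sig := by group
      _ = k.1⁻¹ * (k.1 * g * k.1⁻¹) * sig := by rw [h2]
      _ = g * (k.1⁻¹ * sig) := by group
  have : sig = k.1 := by
    calc sig = k.1 * (k.1⁻¹ * sig) := by group
      _ = k.1 := by rw [hc, mul_one]
  rw [this]
  exact k.2

theorem r0_sq : r0 * r0 = 1 := by
  have h := KW_eq_of_eqw (lt_pair (by norm_num : 272 < 273) (by norm_num : 272 < 273)) (by simp)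
    r_sq
  rw [KW_nil] at h
  rw [← h]
  show _ = prodW 100 pN pM [272, 272]
  rw [prodW_cons, prodW_cons, prodW_nil, mul_one]
  rfl

theorem r0_ne_one : r0 ≠ 1 := by
  intro h
  apply r_ne
  apply fpw_eq (lt_single (by norm_num : 272 < 273)) (by simp)
  rw [KW_single, KW_nil]
  exact h

theorem card_K_fac : (Nat.card ↥K).factorization 11 = 1 := by
  rw [card_K]
  exact factorization_of_dvd 11 44352000 1 (by norm_num) (by norm_num) (by norm_num)
    (by norm_num)

theorem rel_K {ρ : ℕ} (hρ : ρ < 5) : evalG x0K r0K (REL.getD ρ []) = 1 := by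
  apply Subtype.ext
  have := map_evalG K.subtype x0K r0K (REL.getD ρ [])
  exact this.trans (rel_base hρ)

/-- every automorphism is inner or the product of an inner automorphism and the outer one -/
theorem aut_cases (φ : ↥K ≃* ↥K) : (∃ k : ↥K, ∀ g : ↥K, φ g = k * g * k⁻¹) ∨
    (∃ k : ↥K, ∀ g : ↥K, φ g = k * tau g * k⁻¹) := by
  have hx11 : x0K ^ 11 = 1 := Subtype.ext (by
    rw [Subgroup.coe_pow]
    exact x0_pow_eleven)
  have hx1 : x0K ≠ 1 := fun h => x0_ne_one (congrArg Subtype.val h)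
  have hn : nnK * x0K * nnK⁻¹ = x0K ^ 3 := Subtype.ext (by
    rw [Subgroup.coe_mul, Subgroup.coe_mul, Subgroup.coe_inv, Subgroup.coe_pow]
    exact nn_conj)
  obtain ⟨g, hg⟩ := exists_conj_of_eleven card_K_fac x0K nnK hx11 hx1 hn φ
  obtain ⟨k0, hk0, hgk⟩ : ∃ k0, (k0 = 1 ∨ k0 = 2) ∧ φ x0K = g * x0K ^ k0 * g⁻¹ := by
    rcases hg with h | h
    · exact ⟨1, Or.inl rfl, by rw [pow_one]; exact h⟩
    · exact ⟨2, Or.inr rfl, h⟩
  -- the image of the involution
  have hr2 : r0K * r0K = 1 := Subtype.ext (by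
    rw [Subgroup.coe_mul]
    exact r0_sq)
  have hr1 : r0K ≠ 1 := fun h => r0_ne_one (congrArg Subtype.val h)
  obtain ⟨z, hz⟩ : ∃ z : ↥K, z = g⁻¹ * φ r0K * g := ⟨_, rfl⟩
  have hz2 : z.1 * z.1 = 1 := by
    have : z * z = 1 := by
      rw [hz]
      calc g⁻¹ * φ r0K * g * (g⁻¹ * φ r0K * g) = g⁻¹ * (φ r0K * φ r0K) * g := by group
        _ = 1 := by rw [← map_mul, hr2, map_one]; group
    have h := congrArg Subtype.val this
    rwa [Subgroup.coe_mul] at h
  have hz1 : z.1 ≠ 1 := by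
    intro h
    have h' : z = 1 := Subtype.ext h
    apply hr1
    apply φ.injective
    rw [map_one]
    calc φ r0K = g * (g⁻¹ * φ r0K * g) * g⁻¹ := by group
      _ = 1 := by rw [← hz, h']; group
  obtain ⟨i, hi, j, hj, hzij⟩ := inv_list z.1 z.2 hz2 hz1
  obtain ⟨k, hk⟩ : ∃ k : ↥K, k = g * x0K ^ i := ⟨_, rfl⟩
  obtain ⟨ψ, hψ⟩ : ∃ ψ : ↥K →* ↥K, ∀ y, ψ y = k⁻¹ * φ y * k :=
    ⟨(MulAut.conj k⁻¹).toMonoidHom.comp φ.toMonoidHom, fun y => by
      show MulAut.conj k⁻¹ (φ y) = _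
      rw [MulAut.conj_apply, inv_inv]⟩
  have hψx : ψ x0K = x0K ^ k0 := by
    rw [hψ, hgk, hk]
    group
  have hψr : (ψ r0K).1 = rr j := by
    have h1 : ψ r0K = (x0K ^ i)⁻¹ * z * x0K ^ i := by
      rw [hψ, hz, hk]
      group
    rw [h1, Subgroup.coe_mul, Subgroup.coe_mul, Subgroup.coe_inv, Subgroup.coe_pow, hzij]
    show (x0 ^ i)⁻¹ * (x0 ^ i * rr j * (x0 ^ i)⁻¹) * x0 ^ i = rr j
    group
  have hrel : ∀ ρ < 5, evalG (x0 ^ k0) (rr j) (REL.getD ρ []) = 1 := by
    intro ρ hρ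
    have h2 := map_evalG ψ x0K r0K (REL.getD ρ [])
    rw [rel_K hρ, map_one] at h2
    have h3 := map_evalG K.subtype (ψ x0K) (ψ r0K) (REL.getD ρ [])
    rw [← h2, map_one] at h3
    have e1 : K.subtype (ψ x0K) = x0 ^ k0 := by
      rw [hψx]
      show ((x0K ^ k0 : ↥K) : Equiv.Perm (Fin 100)) = _
      rw [Subgroup.coe_pow]
      rfl
    have e2 : K.subtype (ψ r0K) = rr j := hψr
    rw [e1, e2] at h3
    exact h3.symm
  rcases cand_elim k0 hk0 j hj hrel with ⟨rfl, rfl⟩ | ⟨rfl, rfl⟩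
  · -- inner
    left
    rw [pow_one] at hψx
    refine ⟨k, ?_⟩
    have heq : ψ = MonoidHom.id ↥K := by
      apply hom_eq_of_closure _ pair_top
      rintro t (rfl | rfl)
      · rw [hψx]; rfl
      · apply Subtype.ext
        rw [hψr, rr_zero]
        rfl
    intro y
    have h1 : ψ y = y := by rw [heq]; rfl
    rw [hψ] at h1
    calc φ y = k * (k⁻¹ * φ y * k) * k⁻¹ := by group
      _ = k * y * k⁻¹ := by rw [h1]
  · -- outer
    right
    refine ⟨k, ?_⟩
    have heq : ψ = tau.toMonoidHom := by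
      apply hom_eq_of_closure _ pair_top
      rintro t (rfl | rfl)
      · rw [hψx]
        apply Subtype.ext
        show ((x0K ^ 2 : ↥K) : Equiv.Perm (Fin 100)) = (tau x0K).1
        rw [tau_val, Subgroup.coe_pow]
        exact sig_x0.symm
      · apply Subtype.ext
        rw [hψr]
        show _ = (tau r0K).1
        rw [tau_val]
        exact sig_r0.symm
    intro y
    have h1 : ψ y = tau y := by rw [heq]; rfl
    rw [hψ] at h1
    calc φ y = k * (k⁻¹ * φ y * k) * k⁻¹ := by group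
      _ = k * tau y * k⁻¹ := by rw [h1]

theorem card_out_K : Nat.card (Cfsg.Out ↥K) = 2 :=
  card_out_eq_two tau tau_not_inner aut_cases

end Cfsg.Agent.Lib.Helper9.HSa
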