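import Cfsg.Agent.Lib.Helper9.LeechM2
import Cfsg.Agent.Lib.Helper9.M24T4
import Cfsg.Prelude.Def_SporadicCombinatorics

set_option autoImplicit false

/-! The stabilizer of the standard cross in the automorphism group of the rank-24 lattice is
the monomial group. -/

namespace Cfsg.Agent.Lib.Helper9.LeechM4

open scoped Pointwise
open Cfsg Finset Cfsg.Agent.Lib.Helper4.Leech Cfsg.Agent.Lib.Helper9.LeechC7
  Cfsg.Agent.Lib.Helper9.LeechM1 Cfsg.Agent.Lib.Helper9.LeechM2 Cfsg.Agent.Lib.Helper9.LeechC2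
  Cfsg.Agent.Lib.Helper9.Golay1

/-- the stabilizing property -/
def P (g : ↥Co0) : Prop :=
  ∀ v : ↥leechLattice, (v : GolayPt → ℤ) ∈ stdCross → ((g • v : ↥leechLattice) : GolayPt → ℤ) ∈ stdCross

/-- the monomial map as a permutation of the lattice -/
def mono (σ : Equiv.Perm GolayPt) (hσ : σ ∈ M24) (c : Finset GolayPt) (hc : c ∈ Code) :
    Equiv.Perm leechLattice := eps c hc * prm σ hσ

theorem mono_mem (σ : Equiv.Perm GolayPt) (hσ : σ ∈ M24) (c : Finset GolayPt) (hc : c ∈ Code) :
    mono σ hσ c hc ∈ Co0 := Co0.mul_mem (eps_mem _ _) (prm_mem _ _)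

theorem mono_val (σ : Equiv.Perm GolayPt) (hσ : σ ∈ M24) (c : Finset GolayPt) (hc : c ∈ Code)
    (v : leechLattice) : (mono σ hσ c hc v : GolayPt → ℤ) = signedPerm σ c v.1 := rfl

theorem signedPerm_single (σ : Equiv.Perm GolayPt) (c : Finset GolayPt) (i : GolayPt) (s : ℤ) :
    signedPerm σ c (Pi.single i s) = Pi.single (σ i) (if σ i ∈ c then -s else s) := by
  funext k
  unfold signedPerm
  by_cases hk : k = σ i
  · subst hk
    simp
  · have : σ.symm k ≠ i := fun h => hk (by rw [← h]; simp)
    simp [Pi.single_eq_of_ne hk, Pi.single_eq_of_ne this]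

theorem mono_P (σ : Equiv.Perm GolayPt) (hσ : σ ∈ M24) (c : Finset GolayPt) (hc : c ∈ Code) :
    P ⟨mono σ hσ c hc, mono_mem σ hσ c hc⟩ := by
  rintro v ⟨i, s, hs, hv⟩
  show (mono σ hσ c hc v : GolayPt → ℤ) ∈ stdCross
  rw [mono_val, hv, signedPerm_single]
  refine ⟨σ i, _, ?_, rfl⟩
  by_cases h : σ i ∈ c <;> simp only [h, if_true, if_false] <;> rcases hs with rfl | rfl <;> simp

theorem mono_E (σ : Equiv.Perm GolayPt) (hσ : σ ∈ M24) (c : Finset GolayPt) (hc : c ∈ Code)
    (i : GolayPt) :
    (mono σ hσ c hc (E i) : GolayPt → ℤ) = Pi.single (σ i) (if σ i ∈ c then -8 else 8) := by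
  rw [mono_val, E_val, signedPerm_single]

theorem single_inj {i j : GolayPt} {s t : ℤ} (hs : s ≠ 0) (h : (Pi.single i s : GolayPt → ℤ) = Pi.single j t) :
    i = j ∧ s = t := by
  have h1 := congrFun h i
  rw [Pi.single_eq_same] at h1
  by_cases hij : i = j
  · subst hij
    rw [Pi.single_eq_same] at h1
    exact ⟨rfl, h1⟩
  · rw [Pi.single_eq_of_ne hij] at h1
    exact absurd h1 hs

theorem mono_inj {σ σ' : Equiv.Perm GolayPt} {hσ : σ ∈ M24} {hσ' : σ' ∈ M24}
    {c c' : Finset GolayPt} {hc : c ∈ Code} {hc' : c' ∈ Code}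
    (h : mono σ hσ c hc = mono σ' hσ' c' hc') : σ = σ' ∧ c = c' := by
  have key : ∀ i, σ i = σ' i ∧ (σ i ∈ c ↔ σ i ∈ c') := by
    intro i
    have h1 : (mono σ hσ c hc (E i) : GolayPt → ℤ) = (mono σ' hσ' c' hc' (E i) : GolayPt → ℤ) := by
      rw [h]
    rw [mono_E, mono_E] at h1
    obtain ⟨e1, e2⟩ := single_inj (by split_ifs <;> norm_num) h1
    refine ⟨e1, ?_⟩
    rw [← e1] at e2
    by_cases a : σ i ∈ c <;> by_cases b : σ i ∈ c' <;> simp only [a, b, if_true, if_false] at e2 ⊢
      <;> omega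
  have hσσ : σ = σ' := Equiv.ext fun i => (key i).1
  refine ⟨hσσ, ?_⟩
  ext k
  have := (key (σ.symm k)).2
  simpa using this

/-! ### every stabilizing element is monomial -/

theorem two_ind_mem (s : Finset GolayPt) (hs : s ∈ Code) :
    (fun i => if i ∈ s then (2 : ℤ) else 0) ∈ leechLattice := by
  rw [mem_leechLattice_iff]
  have hs' : ind s ∈ golayCode := (mem_supports_iff _ s).mp hs
  refine (bwd (μ := 0) (c := s) (Or.inl rfl) hs' (fun i => ?_) ?_).1
  · by_cases h : i ∈ s <;> simp [h]
  · have h4 : 4 ∣ s.card := by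
      have := Cfsg.Agent.Lib.Helper9.GolayQR4.weight_values _ hs'
      rw [wt_ind] at this
      rcases this with h | h | h | h | h <;> rw [h] <;> norm_num
    have : ∑ i, (if i ∈ s then (2 : ℤ) else 0) = 2 * s.card := by
      rw [Finset.sum_ite_mem, Finset.univ_inter, Finset.sum_const]
      simp; ring
    rw [this]
    obtain ⟨k, hk⟩ := h4
    rw [hk]
    push_cast
    omega

theorem y0_mem : (fun i : GolayPt => if i = none then (-3 : ℤ) else 1) ∈ leechLattice := by
  rw [mem_leechLattice_iff]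
  refine (bwd (μ := 1) (c := univ) (Or.inr rfl) ?_ (fun i => ?_) ?_).1
  · rw [ind_univ]; exact one_mem_golay
  · by_cases h : i = none <;> simp [h]
  · decide

theorem mono_of_P (g : ↥Co0) (hg : P g) :
    ∃ (σ : Equiv.Perm GolayPt) (hσ : σ ∈ M24) (c : Finset GolayPt) (hc : c ∈ Code),
      g.1 = mono σ hσ c hc := by
  classical
  have hE : ∀ i, ∃ j s, (s = 8 ∨ s = -8) ∧ (g.1 (E i) : GolayPt → ℤ) = Pi.single j s := by
    intro i
    exact hg (E i) ⟨i, 8, Or.inl rfl, rfl⟩
  choose τ sg hsg hτ using hE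
  have hsg0 : ∀ i, sg i ≠ 0 := by
    intro i; rcases hsg i with h | h <;> rw [h] <;> norm_num
  have hneg : ∀ v : leechLattice, g.1 (-v) = -(g.1 v) := fun v => map_neg (toHom g.1 g.2) v
  have hτinj : Function.Injective τ := by
    intro i j hij
    have hi := hτ i
    have hj := hτ j
    rw [hij] at hi
    rcases hsg i with a | a <;> rcases hsg j with b | b
    · have : g.1 (E i) = g.1 (E j) := Subtype.ext (by rw [hi, hj, a, b])
      have := g.1.injective this
      have h2 := congrArg (fun w : leechLattice => w.1 i) this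
      simp only [E_val, Pi.single_eq_same] at h2
      by_contra hne
      rw [Pi.single_eq_of_ne hne] at h2
      omega
    · have : g.1 (E i) = g.1 (-(E j)) := by
        rw [hneg]
        apply Subtype.ext
        rw [AddSubgroup.coe_neg, hi, hj, a, b]
        funext k
        by_cases hk : k = τ j
        · subst hk; simp
        · simp [Pi.single_eq_of_ne hk]
      have := g.1.injective this
      have h2 := congrArg (fun w : leechLattice => w.1 i) this
      simp only [E_val, Pi.single_eq_same, AddSubgroup.coe_neg, Pi.neg_apply] at h2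
      by_cases hne : i = j
      · exact hne
      · rw [Pi.single_eq_of_ne hne] at h2
        omega
    · have : g.1 (E i) = g.1 (-(E j)) := by
        rw [hneg]
        apply Subtype.ext
        rw [AddSubgroup.coe_neg, hi, hj, a, b]
        funext k
        by_cases hk : k = τ j
        · subst hk; simp
        · simp [Pi.single_eq_of_ne hk]
      have := g.1.injective this
      have h2 := congrArg (fun w : leechLattice => w.1 i) this
      simp only [E_val, Pi.single_eq_same, AddSubgroup.coe_neg, Pi.neg_apply] at h2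
      by_cases hne : i = j
      · exact hne
      · rw [Pi.single_eq_of_ne hne] at h2
        omega
    · have : g.1 (E i) = g.1 (E j) := Subtype.ext (by rw [hi, hj, a, b])
      have := g.1.injective this
      have h2 := congrArg (fun w : leechLattice => w.1 i) this
      simp only [E_val, Pi.single_eq_same] at h2
      by_contra hne
      rw [Pi.single_eq_of_ne hne] at h2
      omega
  have hτbij : Function.Bijective τ := hτinj.bijective_of_finite
  obtain ⟨σ, hσdef⟩ : ∃ σ : Equiv.Perm GolayPt, ∀ i, σ i = τ i :=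
    ⟨Equiv.ofBijective τ hτbij, fun _ => rfl⟩
  obtain ⟨c, hcdef⟩ : ∃ c : Finset GolayPt, ∀ k, k ∈ c ↔ sg (σ.symm k) = -8 :=
    ⟨univ.filter fun k => sg (σ.symm k) = -8, fun k => by simp⟩
  -- the formula
  have hform : ∀ (v : leechLattice) (k : GolayPt), (g.1 v).1 k = signedPerm σ c v.1 k := by
    intro v k
    have h1 := apply_eight g.1 g.2 v
    have h2 := congrArg (fun w : leechLattice => w.1 k) h1
    simp only [AddSubgroup.coe_zsmul, Pi.smul_apply, smul_eq_mul] at h2
    rw [AddSubgroup.val_finset_sum, Finset.sum_apply] at h2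
    rw [Finset.sum_eq_single (σ.symm k)] at h2
    · simp only [AddSubgroup.coe_zsmul, Pi.smul_apply, smul_eq_mul] at h2
      rw [hτ, ← hσdef, Equiv.apply_symm_apply, Pi.single_eq_same] at h2
      unfold signedPerm
      by_cases hk : k ∈ c
      · rw [if_pos hk]
        rw [(hcdef k).mp hk] at h2
        omega
      · rw [if_neg hk]
        have : sg (σ.symm k) = 8 := by
          rcases hsg (σ.symm k) with h | h
          · exact h
          · exact absurd ((hcdef k).mpr h) hk
        rw [this] at h2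
        omega
    · intro i _ hi
      simp only [AddSubgroup.coe_zsmul, Pi.smul_apply, smul_eq_mul]
      rw [hτ]
      have : k ≠ τ i := by
        intro h
        apply hi
        rw [h, ← hσdef, Equiv.symm_apply_apply]
      rw [Pi.single_eq_of_ne this, mul_zero]
    · intro h; exact absurd (mem_univ _) h
  -- σ preserves the code
  have hσcode : ∀ s ∈ Code, σ • s ∈ Code := by
    intro s hs
    have hx := two_ind_mem s hs
    have hgx := (g.1 ⟨_, hx⟩).2
    rw [mem_leechLattice_iff] at hgx
    obtain ⟨-, h2, h3, -⟩ := fwd hgx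
    have hval : ∀ k, (g.1 ⟨_, hx⟩).1 k
        = if k ∈ c then -(if σ.symm k ∈ s then (2 : ℤ) else 0) else (if σ.symm k ∈ s then 2 else 0) :=
      fun k => hform ⟨_, hx⟩ k
    have hpar : par (g.1 ⟨_, hx⟩).1 = 0 := by
      unfold par
      rw [hval]
      split_ifs <;> norm_num
    rw [hpar] at h3
    have hcl : cl (g.1 ⟨_, hx⟩).1 = σ • s := by
      ext k
      have := h3 k
      rw [hval] at this
      have hk : k ∈ σ • s ↔ σ.symm k ∈ s := by
        rw [← Cfsg.Agent.Lib.Helper9.M24X1.smul_mem_iff σ (σ.symm k) s, Equiv.apply_symm_apply]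
      rw [hk]
      by_cases a : k ∈ cl (g.1 ⟨_, hx⟩).1 <;> by_cases b : σ.symm k ∈ s <;> by_cases d : k ∈ c <;>
        simp only [a, b, d, if_true, if_false] at this ⊢ <;> omega
    rw [hcl] at h2
    exact (mem_supports_iff _ _).mpr h2
  have hσ : σ ∈ M24 := by
    rw [MulAction.mem_stabilizer_iff]
    have hsub : σ • Code ⊆ Code := by
      rintro _ ⟨s, hs, rfl⟩
      exact hσcode s hs
    have hfin : (Code : Set (Finset GolayPt)).Finite := Set.toFinite _
    apply Set.eq_of_subset_of_ncard_le hsub _ hfin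
    rw [← Set.image_smul, Set.ncard_image_of_injective _ (MulAction.injective σ)]
  -- c is a codeword
  have hc : c ∈ Code := by
    have hgx := (g.1 ⟨_, y0_mem⟩).2
    rw [mem_leechLattice_iff] at hgx
    obtain ⟨-, h2, h3, -⟩ := fwd hgx
    have hval : ∀ k, (g.1 ⟨_, y0_mem⟩).1 k
        = if k ∈ c then -(if σ.symm k = none then (-3 : ℤ) else 1)
          else (if σ.symm k = none then -3 else 1) :=
      fun k => hform ⟨_, y0_mem⟩ k
    have hpar : par (g.1 ⟨_, y0_mem⟩).1 = 1 := by
      unfold par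
      rw [hval]
      split_ifs <;> norm_num
    rw [hpar] at h3
    have hcl : cl (g.1 ⟨_, y0_mem⟩).1 = cᶜ := by
      ext k
      have := h3 k
      rw [hval] at this
      rw [mem_compl]
      by_cases a : k ∈ cl (g.1 ⟨_, y0_mem⟩).1 <;> by_cases b : σ.symm k = none <;>
        by_cases d : k ∈ c <;> simp only [a, b, d, if_true, if_false, not_true_eq_false,
          not_false_eq_true, iff_true, iff_false, true_iff, false_iff] at this ⊢ <;> omega
    rw [hcl, ind_compl] at h2
    have : ind c ∈ golayCode := by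
      have h5 := golayCode.add_mem one_mem_golay h2
      rw [← add_assoc] at h5
      have e : (1 : GolayPt → ZMod 2) + 1 = 0 := by
        funext i; simp; decide
      rwa [e, zero_add] at h5
    exact (mem_supports_iff _ _).mpr this
  refine ⟨σ, hσ, c, hc, ?_⟩
  apply Equiv.ext
  intro v
  apply Subtype.ext
  funext k
  rw [mono_val]
  exact hform v k

theorem part1 (g : ↥Co0) (hg : P g) :
    ∃ f ∈ golayMonomialMaps, ∀ v : ↥leechLattice,
      ((g • v : ↥leechLattice) : GolayPt → ℤ) = f (v : GolayPt → ℤ) := by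
  obtain ⟨σ, hσ, c, hc, h⟩ := mono_of_P g hg
  refine ⟨signedPerm σ c, ⟨σ, hσ, c, hc, rfl⟩, fun v => ?_⟩
  show (g.1 v : GolayPt → ℤ) = _
  rw [h, mono_val]

/-! ### the order -/

theorem card_Code : Nat.card ↥Code = 4096 := by
  have h : (Code : Set (Finset GolayPt)) = ↑codeS := by
    ext s
    rw [mem_coe, mem_codeS]
    exact mem_supports_iff _ s
  rw [Nat.card_coe_set_eq, h, Set.ncard_coe_finset]
  have := sum_code (fun _ => 1)
  simp only [Finset.sum_const, smul_eq_mul, mul_one] at this
  rw [this]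

theorem card_stab : Nat.card {g : ↥Co0 // P g} = 4096 * 244823040 := by
  have e : (↥M24 × ↥Code) ≃ {g : ↥Co0 // P g} := by
    refine Equiv.ofBijective
      (fun p => ⟨⟨mono p.1.1 p.1.2 p.2.1 p.2.2, mono_mem _ _ _ _⟩, mono_P _ _ _ _⟩) ⟨?_, ?_⟩
    · rintro ⟨⟨σ, hσ⟩, ⟨c, hc⟩⟩ ⟨⟨σ', hσ'⟩, ⟨c', hc'⟩⟩ h
      have h1 : mono σ hσ c hc = mono σ' hσ' c' hc' := by
        have := congrArg (fun x : {g : ↥Co0 // P g} => x.1.1) h
        exact this
      obtain ⟨rfl, rfl⟩ := mono_inj h1
      rfl
    · rintro ⟨g, hg⟩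
      obtain ⟨σ, hσ, c, hc, h⟩ := mono_of_P g hg
      refine ⟨⟨⟨σ, hσ⟩, ⟨c, hc⟩⟩, ?_⟩
      apply Subtype.ext
      apply Subtype.ext
      exact h.symm
  rw [← Nat.card_congr e, Nat.card_prod, card_Code, Cfsg.Agent.Lib.Helper9.M24T4.card_M24]

end Cfsg.Agent.Lib.Helper9.LeechM4
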