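import Cfsg.Agent.Lib.Helper9.LeechE9
import Cfsg.Agent.Lib.Helper9.LeechX12
import Cfsg.Agent.Lib.Helper9.LeechM4

set_option autoImplicit false

/-! The automorphisms fixing the three standard vectors `(5, 1^23)`, `(-1, -5, -1^22)`,
`(4, 4, 0^22)` are the coordinate permutations fixing the two standard points. -/

namespace Cfsg.Agent.Lib.Helper9.HSsimple1

open Cfsg Finset Cfsg.Agent.Lib.Helper4.Leech Cfsg.Agent.Lib.Helper9.LeechM1
  Cfsg.Agent.Lib.Helper9.LeechM2 Cfsg.Agent.Lib.Helper9.LeechM4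
  Cfsg.Agent.Lib.Helper9.LeechX8 Cfsg.Agent.Lib.Helper9.LeechX9
  Cfsg.Agent.Lib.Helper9.LeechX12 Cfsg.Agent.Lib.Helper9.LeechC8
  Cfsg.Agent.Lib.Helper9.LeechE3 Cfsg.Agent.Lib.Helper9.LeechE4 Cfsg.Agent.Lib.Helper9.LeechE5

theorem rG_pos : ∀ k : GolayPt, 0 < rG.1 k := by decide +kernel

theorem rG_five : ∀ k : GolayPt, rG.1 k = 5 → k = none := by decide +kernel

theorem rG_val : ∀ k : GolayPt, rG.1 k = if k = none then 5 else 1 := by decide +kernel

theorem z0_val : ∀ k : GolayPt, z0.1 k = if k = none then -4 else if k = some 0 then 4 else 0 := by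
  decide +kernel

theorem rA_val : ∀ k : GolayPt, rA.1 k = if k = none ∨ k = some 0 then 4 else 0 := by
  decide +kernel

theorem E0_eq : E (some 0) = z0 + rA := by
  apply Subtype.ext
  funext k
  show (E (some 0)).1 k = z0.1 k + rA.1 k
  rw [E_val, z0_val, rA_val, Pi.single_apply]
  by_cases h1 : k = none
  · subst h1; simp
  · by_cases h2 : k = some 0
    · subst h2; simp
    · simp [h1, h2]

theorem z0_eq : z0 = -w0 - rG := by
  show z0 = -(-(rG + z0)) - rG
  abel

/-- an automorphism fixing the three standard vectors is a coordinate permutation -/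
theorem fix_triple (f : Equiv.Perm leechLattice) (hf : f ∈ Co0) (h1 : f rG = rG)
    (h2 : f w0 = w0) (h3 : f rA = rA) :
    ∃ (σ : Equiv.Perm GolayPt) (hσ : σ ∈ M24), σ none = none ∧ σ (some 0) = some 0 ∧
      f = prm σ hσ := by
  have hz : f z0 = z0 := by
    rw [z0_eq, co0_sub f hf, co0_neg f hf, h1, h2]
  have hE : f (E (some 0)) = E (some 0) := by
    rw [E0_eq, hf.1, hz, h3]
  -- the standard cross is preserved
  have hP : P (⟨f, hf⟩ : ↥Co0) := by
    have hc : mk ((⟨f, hf⟩ : ↥Co0).1 (E none)).1 = mk ((1 : ↥Co0).1 (E none)).1 := by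
      show mk (f (E none)).1 = mk (E none).1
      have := cong_pres f hf (E none) (E (some 0)) (E_cong (some 0)).symm
      rw [this, hE]
      exact E_cong (some 0)
    have := P_of_cong ⟨f, hf⟩ 1 hc
    rwa [inv_one, one_mul] at this
  obtain ⟨σ, hσ, c, hc, hmono⟩ := mono_of_P ⟨f, hf⟩ hP
  have hmono' : f = mono σ hσ c hc := hmono
  have hval : ∀ (v : leechLattice) (i : GolayPt),
      (f v).1 i = if i ∈ c then -v.1 (σ.symm i) else v.1 (σ.symm i) := by
    intro v i
    rw [hmono', mono_val]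
    rfl
  -- no sign changes
  have hcempty : ∀ i, i ∉ c := by
    intro i hi
    have e := hval rG i
    rw [h1, if_pos hi] at e
    have p1 := rG_pos i
    have p2 := rG_pos (σ.symm i)
    omega
  have hval' : ∀ (v : leechLattice) (i : GolayPt), (f v).1 i = v.1 (σ.symm i) := by
    intro v i
    rw [hval v i, if_neg (hcempty i)]
  have hfp : f = prm σ hσ := by
    apply Equiv.ext
    intro v
    apply Subtype.ext
    funext i
    rw [hval', prm_val]
  refine ⟨σ, hσ, ?_, ?_, hfp⟩
  · have e := hval' rG none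
    rw [h1] at e
    have e2 : rG.1 none = 5 := by rw [rG_val, if_pos rfl]
    rw [e2] at e
    have := rG_five _ e.symm
    have h4 : σ (σ.symm none) = σ none := by rw [this]
    rw [Equiv.apply_symm_apply] at h4
    exact h4.symm
  · have e := hE
    rw [hfp, prm_E] at e
    have e2 := congrArg Subtype.val e
    rw [E_val, E_val] at e2
    exact (single_inj (by norm_num) e2).1

/-- conversely -/
theorem prm_fix (σ : Equiv.Perm GolayPt) (hσ : σ ∈ M24) (hn : σ none = none)
    (h0 : σ (some 0) = some 0) :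
    prm σ hσ rG = rG ∧ prm σ hσ w0 = w0 ∧ prm σ hσ rA = rA := by
  have hn' : ∀ k, σ.symm k = none ↔ k = none := by
    intro k
    rw [Equiv.symm_apply_eq, hn]
  have h0' : ∀ k, σ.symm k = some 0 ↔ k = some 0 := by
    intro k
    rw [Equiv.symm_apply_eq, h0]
  have e1 : prm σ hσ rG = rG := by
    apply Subtype.ext
    funext k
    rw [prm_val, rG_val, rG_val]
    simp only [hn']
  have e2 : prm σ hσ z0 = z0 := by
    apply Subtype.ext
    funext k
    rw [prm_val, z0_val, z0_val]
    simp only [hn', h0']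
  have e3 : prm σ hσ rA = rA := by
    apply Subtype.ext
    funext k
    rw [prm_val, rA_val, rA_val]
    simp only [hn', h0']
  refine ⟨e1, ?_, e3⟩
  have hm := prm_mem σ hσ
  show prm σ hσ (-(rG + z0)) = -(rG + z0)
  rw [co0_neg _ hm, hm.1, e1, e2]

theorem prm_mul (σ τ : Equiv.Perm GolayPt) (hσ : σ ∈ M24) (hτ : τ ∈ M24) :
    prm (σ * τ) (M24.mul_mem hσ hτ) = prm σ hσ * prm τ hτ := by
  apply Equiv.ext
  intro v
  apply Subtype.ext
  funext i
  rfl

theorem prm_inj (σ τ : Equiv.Perm GolayPt) (hσ : σ ∈ M24) (hτ : τ ∈ M24)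
    (h : prm σ hσ = prm τ hτ) : σ = τ := by
  apply Equiv.ext
  intro i
  have e := congrArg (fun f : Equiv.Perm leechLattice => f (E i)) h
  simp only [prm_E] at e
  have e2 := congrArg Subtype.val e
  rw [E_val, E_val] at e2
  exact (single_inj (by norm_num) e2).1

end Cfsg.Agent.Lib.Helper9.HSsimple1
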