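import Mathlib

set_option autoImplicit false

/-! A transitive group of degree 100 whose point stabiliser is simple with orbits of sizes
1, 22, 77 and whose order is 44352000 is simple. -/

namespace Cfsg.Agent.Lib.Helper9.PrimSimple1

open MulAction

variable {G X : Type*} [Group G] [Finite G] [MulAction G X] [Finite X]

/-- the orbit of `x` under a subgroup -/
def orb (K : Subgroup G) (x : X) : Set X := {y | ∃ k ∈ K, k • x = y}

theorem orb_eq (K : Subgroup G) (x : X) : orb K x = MulAction.orbit ↥K x := by
  ext y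
  constructor
  · rintro ⟨k, hk, rfl⟩
    exact ⟨⟨k, hk⟩, rfl⟩
  · rintro ⟨k, rfl⟩
    exact ⟨k.1, k.2, rfl⟩

theorem card_orb_dvd (K : Subgroup G) (x : X) : (orb K x).ncard ∣ Nat.card G := by
  rw [orb_eq]
  have h1 := Nat.card_congr (MulAction.orbitProdStabilizerEquivGroup ↥K x)
  rw [Nat.card_prod] at h1
  have h2 : Nat.card ↥K ∣ Nat.card G := Subgroup.card_subgroup_dvd_card K
  have h3 : Nat.card ↥(MulAction.orbit ↥K x) ∣ Nat.card ↥K := ⟨_, h1.symm⟩
  have h4 : (MulAction.orbit ↥K x).ncard = Nat.card ↥(MulAction.orbit ↥K x) := rfl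
  rw [h4]
  exact h3.trans h2

theorem card_orb_dvd' (K : Subgroup G) (x : X) : (orb K x).ncard ∣ Nat.card ↥K := by
  rw [orb_eq]
  have h1 := Nat.card_congr (MulAction.orbitProdStabilizerEquivGroup ↥K x)
  rw [Nat.card_prod] at h1
  exact ⟨_, h1.symm⟩

section
variable (htrans : ∀ y z : X, ∃ g : G, g • y = z)
  (x : X) (A B : Set X)
  (hcover : ∀ y : X, y = x ∨ y ∈ A ∨ y ∈ B)
  (hxA : x ∉ A) (hxB : x ∉ B)
  (hA : ∀ a ∈ A, ∀ a' ∈ A, ∃ g : G, g • x = x ∧ g • a = a')
  (hB : ∀ b ∈ B, ∀ b' ∈ B, ∃ g : G, g • x = x ∧ g • b = b')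
  (hcA : A.ncard = 22) (hcB : B.ncard = 77) (hX : Nat.card X = 100)
  (hcard : Nat.card G = 44352000)

include hcover hxA hxB hA hB hcA hcB hX hcard in
/-- the orbit of `x` under a normal subgroup is trivial or everything -/
theorem orb_cases (K : Subgroup G) [K.Normal] : orb K x = {x} ∨ orb K x = Set.univ := by
  classical
  have hxO : x ∈ orb K x := ⟨1, K.one_mem, one_smul _ _⟩
  have hinv : ∀ g : G, g • x = x → ∀ y ∈ orb K x, g • y ∈ orb K x := by
    rintro g hg y ⟨k, hk, rfl⟩
    refine ⟨g * k * g⁻¹, ‹K.Normal›.conj_mem k hk g, ?_⟩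
    rw [mul_smul, mul_smul]
    congr 1
    congr 1
    rw [inv_smul_eq_iff, hg]
  have hAO : (∀ a ∈ A, a ∉ orb K x) ∨ A ⊆ orb K x := by
    by_cases h : ∃ a ∈ A, a ∈ orb K x
    · right
      obtain ⟨a, haA, haO⟩ := h
      intro a' ha'
      obtain ⟨g, hg, hga⟩ := hA a haA a' ha'
      rw [← hga]
      exact hinv g hg a haO
    · left
      intro a ha hO
      exact h ⟨a, ha, hO⟩
  have hBO : (∀ b ∈ B, b ∉ orb K x) ∨ B ⊆ orb K x := by
    by_cases h : ∃ b ∈ B, b ∈ orb K x
    · right
      obtain ⟨b, hbB, hbO⟩ := h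
      intro b' hb'
      obtain ⟨g, hg, hgb⟩ := hB b hbB b' hb'
      rw [← hgb]
      exact hinv g hg b hbO
    · left
      intro b hb hO
      exact h ⟨b, hb, hO⟩
  have hdvd := card_orb_dvd K x
  rw [hcard] at hdvd
  rcases hAO with hA1 | hA1 <;> rcases hBO with hB1 | hB1
  · left
    ext y
    constructor
    · intro hy
      rcases hcover y with h | h | h
      · exact h
      · exact absurd hy (hA1 y h)
      · exact absurd hy (hB1 y h)
    · intro hy
      rw [Set.mem_singleton_iff] at hy
      rw [hy]; exact hxO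
  · exfalso
    have : orb K x = insert x B := by
      ext y
      constructor
      · intro hy
        rcases hcover y with h | h | h
        · exact Or.inl h
        · exact absurd hy (hA1 y h)
        · exact Or.inr h
      · rintro (h | h)
        · rw [h]; exact hxO
        · exact hB1 h
    rw [this, Set.ncard_insert_of_notMem hxB (Set.toFinite _), hcB] at hdvd
    omega
  · exfalso
    have : orb K x = insert x A := by
      ext y
      constructor
      · intro hy
        rcases hcover y with h | h | h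
        · exact Or.inl h
        · exact Or.inr h
        · exact absurd hy (hB1 y h)
      · rintro (h | h)
        · rw [h]; exact hxO
        · exact hA1 h
    rw [this, Set.ncard_insert_of_notMem hxA (Set.toFinite _), hcA] at hdvd
    omega
  · right
    ext y
    simp only [Set.mem_univ, iff_true]
    rcases hcover y with h | h | h
    · rw [h]; exact hxO
    · exact hA1 h
    · exact hB1 h

include htrans hA hcA in
/-- a normal subgroup fixing `x` and meeting the stabiliser trivially or fully is trivial -/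
theorem fix_trivial (hsimple : IsSimpleGroup ↥(MulAction.stabilizer G x))
    (K : Subgroup G) [K.Normal] (hK : orb K x = {x}) : K = ⊥ := by
  have hfix : ∀ k ∈ K, ∀ y : X, k • y = y := by
    intro k hk y
    obtain ⟨g, rfl⟩ := htrans x y
    have h1 : g⁻¹ * k * g ∈ K := by
      have := ‹K.Normal›.conj_mem k hk g⁻¹
      rwa [inv_inv] at this
    have h2 : (g⁻¹ * k * g) • x ∈ orb K x := ⟨_, h1, rfl⟩
    rw [hK, Set.mem_singleton_iff, mul_smul, mul_smul, inv_smul_eq_iff] at h2
    exact h2
  have hle : K ≤ MulAction.stabilizer G x := fun k hk => hfix k hk x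
  have hn : (K.subgroupOf (MulAction.stabilizer G x)).Normal := inferInstance
  rcases hsimple.eq_bot_or_eq_top_of_normal _ hn with h | h
  · rw [Subgroup.subgroupOf_eq_bot] at h
    rw [disjoint_iff, inf_eq_left.mpr hle] at h
    exact h
  · exfalso
    rw [Subgroup.subgroupOf_eq_top] at h
    -- two distinct points of `A`
    have h2 : 1 < A.ncard := by rw [hcA]; norm_num
    obtain ⟨a, ha, a', ha', hne⟩ := (Set.one_lt_ncard (Set.toFinite A)).mp h2
    obtain ⟨g, hg, hga⟩ := hA a ha a' ha'
    have hgK : g ∈ K := h (MulAction.mem_stabilizer_iff.mpr hg)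
    exact hne ((hfix g hgK a).symm.trans hga)

include htrans hcover hxA hxB hA hB hcA hcB hX hcard in
/-- nontrivial normal subgroups are transitive, and their order is divisible by 100 -/
theorem normal_trans (hsimple : IsSimpleGroup ↥(MulAction.stabilizer G x))
    (K : Subgroup G) [K.Normal] (hK : K ≠ ⊥) : orb K x = Set.univ ∧ 100 ∣ Nat.card ↥K := by
  rcases orb_cases x A B hcover hxA hxB hA hB hcA hcB hX hcard K with h | h
  · exact absurd (fix_trivial htrans x A hA hcA hsimple K h) hK
  · refine ⟨h, ?_⟩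
    have h1 := card_orb_dvd' K x
    rw [h, Set.ncard_univ, hX] at h1
    exact h1

include htrans hcover hxA hxB hA hB hcA hcB hX hcard in
theorem simple_of_rank3 (hsimple : IsSimpleGroup ↥(MulAction.stabilizer G x)) :
    IsSimpleGroup G := by
  have hnt : Nontrivial G := by
    rw [← Finite.one_lt_card_iff_nontrivial, hcard]
    norm_num
  refine ⟨fun K hKn => ?_⟩
  by_cases hK : K = ⊥
  · exact Or.inl hK
  right
  obtain ⟨htr, h100⟩ := normal_trans htrans x A B hcover hxA hxB hA hB hcA hcB hX hcard hsimple K hK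
  have hn : (K.subgroupOf (MulAction.stabilizer G x)).Normal := inferInstance
  rcases hsimple.eq_bot_or_eq_top_of_normal _ hn with h | h
  · exfalso
    rw [Subgroup.subgroupOf_eq_bot] at h
    -- the order of `K` is 100
    have hcK : Nat.card ↥K = 100 := by
      have h1 := Nat.card_congr (MulAction.orbitProdStabilizerEquivGroup ↥K x)
      rw [Nat.card_prod] at h1
      have h2 : Nat.card ↥(MulAction.orbit ↥K x) = 100 := by
        have : (MulAction.orbit ↥K x) = orb K x := (orb_eq K x).symm
        rw [this, htr]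
        rw [Nat.card_congr (Equiv.Set.univ X), hX]
      have h3 : Nat.card ↥(MulAction.stabilizer ↥K x) = 1 := by
        rw [Nat.card_eq_one_iff_unique]
        refine ⟨⟨fun a b => ?_⟩, ⟨1⟩⟩
        have ha : (a.1.1 : G) ∈ K ⊓ MulAction.stabilizer G x :=
          ⟨a.1.2, MulAction.mem_stabilizer_iff.mpr (MulAction.mem_stabilizer_iff.mp a.2)⟩
        have hb : (b.1.1 : G) ∈ K ⊓ MulAction.stabilizer G x :=
          ⟨b.1.2, MulAction.mem_stabilizer_iff.mpr (MulAction.mem_stabilizer_iff.mp b.2)⟩
        rw [disjoint_iff.mp h, Subgroup.mem_bot] at ha hb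
        exact Subtype.ext (Subtype.ext (ha.trans hb.symm))
      rw [h2, h3, mul_one] at h1
      exact h1.symm
    -- its Sylow 5-subgroup is normal in `G`
    haveI : Fact (Nat.Prime 5) := ⟨by norm_num⟩
    obtain ⟨P⟩ : Nonempty (Sylow 5 ↥K) := Sylow.nonempty
    have hcP : Nat.card ↥(P : Subgroup ↥K) = 25 := by
      have h0 := Sylow.card_eq_multiplicity P
      have hf : Nat.factorization 100 5 = 2 := by
        have : (100 : ℕ) = 4 * 5 ^ 2 := by norm_num
        rw [this, Nat.factorization_mul (by norm_num) (by norm_num), Nat.factorization_pow]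
        have h4 : Nat.factorization 4 5 = 0 :=
          Nat.factorization_eq_zero_of_not_dvd (by norm_num)
        have h5 : Nat.factorization 5 5 = 1 := Nat.Prime.factorization_self (by norm_num)
        simp [h4, h5]
      rw [hcK, hf] at h0
      exact h0
    have hidx : (P : Subgroup ↥K).index = 4 := by
      have := Subgroup.card_mul_index (P : Subgroup ↥K)
      rw [hcP, hcK] at this
      omega
    have hn5 : Nat.card (Sylow 5 ↥K) = 1 := by
      have h1 := card_sylow_modEq_one 5 ↥K
      have h2 := P.card_dvd_index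
      rw [hidx] at h2
      have h3 : Nat.card (Sylow 5 ↥K) ≤ 4 := Nat.le_of_dvd (by norm_num) h2
      have h4 : Nat.card (Sylow 5 ↥K) % 5 = 1 % 5 := h1
      have h5 : 0 < Nat.card (Sylow 5 ↥K) := Nat.pos_of_dvd_of_pos h2 (by norm_num)
      omega
    haveI : Subsingleton (Sylow 5 ↥K) := (Nat.card_eq_one_iff_unique.mp hn5).1
    haveI : (P : Subgroup ↥K).Characteristic := Sylow.characteristic_of_subsingleton P
    have hPn : ((P : Subgroup ↥K).map K.subtype).Normal := inferInstance
    have hPc : Nat.card ↥((P : Subgroup ↥K).map K.subtype) = 25 := by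
      rw [Subgroup.card_map_of_injective K.subtype_injective, hcP]
    have hPne : (P : Subgroup ↥K).map K.subtype ≠ ⊥ := by
      intro h0
      rw [h0, Subgroup.card_bot] at hPc
      omega
    obtain ⟨-, hd⟩ := normal_trans htrans x A B hcover hxA hxB hA hB hcA hcB hX hcard hsimple
      ((P : Subgroup ↥K).map K.subtype) hPne
    rw [hPc] at hd
    omega
  · rw [Subgroup.subgroupOf_eq_top] at h
    rw [eq_top_iff]
    intro g _
    have hgx : g • x ∈ orb K x := by rw [htr]; exact Set.mem_univ _
    obtain ⟨k, hk, hkx⟩ := hgx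
    have h1 : k⁻¹ * g ∈ MulAction.stabilizer G x := by
      rw [MulAction.mem_stabilizer_iff, mul_smul, inv_smul_eq_iff, hkx]
    have h2 : k⁻¹ * g ∈ K := h h1
    have : g = k * (k⁻¹ * g) := by group
    rw [this]
    exact K.mul_mem hk h2

end

end Cfsg.Agent.Lib.Helper9.PrimSimple1
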