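import Cfsg.Agent.Lib.Helper9.HSsimple1
import Cfsg.Agent.Lib.Helper9.PrimSimple1
import Cfsg.Agent.S0378
import Cfsg.Agent.S0379

set_option autoImplicit false

/-! The stabiliser of the standard pair of vectors of sum of squares 48 with inner product −32
is simple of order 44352000. -/

namespace Cfsg.Agent.Lib.Helper9.HSsimple2

open Cfsg Finset Cfsg.Agent.Lib.Helper4.Leech Cfsg.Agent.Lib.Helper9.LeechM1
  Cfsg.Agent.Lib.Helper9.LeechM2 Cfsg.Agent.Lib.Helper9.LeechM4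
  Cfsg.Agent.Lib.Helper9.LeechX8 Cfsg.Agent.Lib.Helper9.LeechX9
  Cfsg.Agent.Lib.Helper9.LeechX11
  Cfsg.Agent.Lib.Helper9.LeechE3 Cfsg.Agent.Lib.Helper9.LeechE4 Cfsg.Agent.Lib.Helper9.LeechE5
  Cfsg.Agent.Lib.Helper9.LeechE8 Cfsg.Agent.Lib.Helper9.LeechE9
  Cfsg.Agent.Lib.Helper9.HSsimple1 Cfsg.Agent.Lib.Helper9.PrimSimple1

/-- the stabiliser of the standard pair -/
abbrev G0 : Subgroup ↥Co0 := MulAction.stabilizer ↥Co0 rG ⊓ MulAction.stabilizer ↥Co0 w0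

theorem mem_G0 (g : ↥Co0) : g ∈ G0 ↔ g.1 rG = rG ∧ g.1 w0 = w0 := by
  show (g ∈ MulAction.stabilizer ↥Co0 rG ∧ g ∈ MulAction.stabilizer ↥Co0 w0) ↔ _
  rw [MulAction.mem_stabilizer_iff, MulAction.mem_stabilizer_iff]
  rfl

/-- the hundred vectors -/
def hsSet : Set leechLattice :=
  {y | sqNorm y.1 = 32 ∧ dotInt rG.1 y.1 = 24 ∧ dotInt w0.1 y.1 = -24}

def hsSub : SubMulAction ↥G0 leechLattice where
  carrier := hsSet
  smul_mem' := by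
    rintro g y ⟨h1, h2, h3⟩
    have hg := (mem_G0 g.1).mp g.2
    have hc : g.1.1 ∈ Co0 := g.1.2
    show sqNorm (g.1.1 y).1 = 32 ∧ dotInt rG.1 (g.1.1 y).1 = 24 ∧ dotInt w0.1 (g.1.1 y).1 = -24
    refine ⟨by rw [hc.2, h1], ?_, ?_⟩
    · have := dot_pres g.1.1 hc rG y
      rw [hg.1] at this
      rw [this, h2]
    · have := dot_pres g.1.1 hc w0 y
      rw [hg.2] at this
      rw [this, h3]

theorem smul_val (g : ↥G0) (y : ↥hsSub) : (g • y).1 = g.1.1 y.1 := rfl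

theorem mem_hs (y : ↥hsSub) :
    sqNorm y.1.1 = 32 ∧ dotInt rG.1 y.1.1 = 24 ∧ dotInt w0.1 y.1.1 = -24 := y.2

/-- the base point -/
def x0 : ↥hsSub := ⟨rA, rA_norm, rG_rA, w0_rA⟩

/-- building elements of the group -/
def mkG (g : Equiv.Perm leechLattice) (hg : g ∈ Co0) (h1 : g rG = rG) (h2 : g w0 = w0) : ↥G0 :=
  ⟨⟨g, hg⟩, (mem_G0 _).mpr ⟨h1, h2⟩⟩

theorem htrans (y z : ↥hsSub) : ∃ g : ↥G0, g • y = z := by
  obtain ⟨hy1, hy2, hy3⟩ := mem_hs y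
  obtain ⟨hz1, hz2, hz3⟩ := mem_hs z
  obtain ⟨g, hg, g1, g2, g3⟩ := hs_trans100 rG w0 y.1 z.1 rG_norm w0_norm rG_w0 hy1 hy2 hy3
    hz1 hz2 hz3
  exact ⟨mkG g hg g1 g2, Subtype.ext g3⟩

def setA : Set ↥hsSub := {y | dotInt rA.1 y.1.1 = 8}
def setB : Set ↥hsSub := {y | dotInt rA.1 y.1.1 = 16}

theorem hcover (y : ↥hsSub) : y = x0 ∨ y ∈ setA ∨ y ∈ setB := by
  obtain ⟨hy1, hy2, hy3⟩ := mem_hs y
  rcases hs_other rG w0 rA y.1 rG_norm w0_norm rG_w0 rA_norm rG_rA w0_rA hy1 hy2 hy3 with h | h | h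
  · exact Or.inl (Subtype.ext h)
  · exact Or.inr (Or.inl h)
  · exact Or.inr (Or.inr h)

theorem hxA : x0 ∉ setA := by
  intro h
  have h' : dotInt rA.1 rA.1 = 8 := h
  rw [dot_self, rA_norm] at h'
  omega

theorem hxB : x0 ∉ setB := by
  intro h
  have h' : dotInt rA.1 rA.1 = 16 := h
  rw [dot_self, rA_norm] at h'
  omega

theorem hA (a : ↥hsSub) (ha : a ∈ setA) (a' : ↥hsSub) (ha' : a' ∈ setA) :
    ∃ g : ↥G0, g • x0 = x0 ∧ g • a = a' := by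
  obtain ⟨hy1, hy2, hy3⟩ := mem_hs a
  obtain ⟨hz1, hz2, hz3⟩ := mem_hs a'
  obtain ⟨g, hg, g1, g2, g3, g4⟩ := hs_rank3 rG w0 rA a.1 a'.1 rG_norm w0_norm rG_w0 rA_norm
    rG_rA w0_rA hy1 hy2 hy3 hz1 hz2 hz3 8 (Or.inl rfl) ha ha'
  exact ⟨mkG g hg g1 g2, Subtype.ext g3, Subtype.ext g4⟩

theorem hB (a : ↥hsSub) (ha : a ∈ setB) (a' : ↥hsSub) (ha' : a' ∈ setB) :
    ∃ g : ↥G0, g • x0 = x0 ∧ g • a = a' := by
  obtain ⟨hy1, hy2, hy3⟩ := mem_hs a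
  obtain ⟨hz1, hz2, hz3⟩ := mem_hs a'
  obtain ⟨g, hg, g1, g2, g3, g4⟩ := hs_rank3 rG w0 rA a.1 a'.1 rG_norm w0_norm rG_w0 rA_norm
    rG_rA w0_rA hy1 hy2 hy3 hz1 hz2 hz3 16 (Or.inr rfl) ha ha'
  exact ⟨mkG g hg g1 g2, Subtype.ext g3, Subtype.ext g4⟩

theorem card_sub (d : ℤ) :
    ({y : ↥hsSub | dotInt rA.1 y.1.1 = d} : Set ↥hsSub).ncard =
      {y : leechLattice | sqNorm y.1 = 32 ∧ dotInt rG.1 y.1 = 24 ∧ dotInt w0.1 y.1 = -24 ∧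
        dotInt rA.1 y.1 = d}.ncard := by
  rw [← Set.ncard_image_of_injective _ Subtype.val_injective]
  congr 1
  ext y
  constructor
  · rintro ⟨z, hz, rfl⟩
    obtain ⟨h1, h2, h3⟩ := mem_hs z
    exact ⟨h1, h2, h3, hz⟩
  · rintro ⟨h1, h2, h3, h4⟩
    exact ⟨⟨y, h1, h2, h3⟩, h4, rfl⟩

theorem hcA : setA.ncard = 22 := by
  unfold setA
  rw [card_sub 8]
  exact hs_count22 rG w0 rA rG_norm w0_norm rG_w0 rA_norm rG_rA w0_rA

theorem hcB : setB.ncard = 77 := by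
  unfold setB
  rw [card_sub 16]
  exact hs_count77 rG w0 rA rG_norm w0_norm rG_w0 rA_norm rG_rA w0_rA

theorem hX : Nat.card ↥hsSub = 100 := by
  have h := hs_count rG w0 rG_norm w0_norm rG_w0
  have e : Nat.card ↥hsSub = hsSet.ncard := rfl
  rw [e]
  exact h

instance : Finite ↥hsSub := by
  apply Nat.finite_of_card_ne_zero
  rw [hX]
  norm_num

end Cfsg.Agent.Lib.Helper9.HSsimple2
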