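import Cfsg.Agent.Lib.Helper9.HSsimple3

set_option autoImplicit false

/-! Transfer of the structure of the standard pair stabiliser to any pair. -/

namespace Cfsg.Agent.Lib.Helper9.HSsimple4

open Cfsg Cfsg.Agent.Lib.Helper4.Leech Cfsg.Agent.Lib.Helper9.LeechP1
  Cfsg.Agent.Lib.Helper9.LeechE3 Cfsg.Agent.Lib.Helper9.LeechE4 Cfsg.Agent.Lib.Helper9.LeechE5
  Cfsg.Agent.Lib.Helper9.HSsimple2 Cfsg.Agent.Lib.Helper9.HSsimple3
  Cfsg.Agent.Lib.Helper9.LeechX9

/-- conjugating a pair stabiliser -/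
noncomputable def pairStabEquiv {G α : Type*} [Group G] [MulAction G α] (γ : G) (a b : α) :
    ↥(MulAction.stabilizer G a ⊓ MulAction.stabilizer G b) ≃*
      ↥(MulAction.stabilizer G (γ • a) ⊓ MulAction.stabilizer G (γ • b)) :=
  ((MulAut.conj γ).subgroupMap _).trans (MulEquiv.subgroupCongr (by
    rw [MulAction.stabilizer_smul_eq_stabilizer_map_conj,
      MulAction.stabilizer_smul_eq_stabilizer_map_conj]
    exact Subgroup.map_inf _ _ _ (MulAut.conj γ).injective))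

theorem hs_general (v w : leechLattice) (hv : sqNorm v.1 = 48) (hw : sqNorm w.1 = 48)
    (hd : dotInt v.1 w.1 = -32) :
    IsSimpleGroup ↥(MulAction.stabilizer ↥Co0 v ⊓ MulAction.stabilizer ↥Co0 w) ∧
      Nat.card ↥(MulAction.stabilizer ↥Co0 v ⊓ MulAction.stabilizer ↥Co0 w) = 44352000 := by
  obtain ⟨g, hg, g1, g2⟩ := hs_pair_std v w hv hw hd
  let γ : ↥Co0 := ⟨g, hg⟩
  have e1 : γ • v = rG := g1
  have e2 : γ • w = w0 := g2
  have e := pairStabEquiv γ v w
  rw [e1, e2] at e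
  haveI : IsSimpleGroup ↥G0 := simple_G0
  exact ⟨e.isSimpleGroup, (Nat.card_congr e.toEquiv).trans card_G0⟩

end Cfsg.Agent.Lib.Helper9.HSsimple4
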