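import Cfsg.Agent.Lib.Helper9.Focal

set_option autoImplicit false

namespace Cfsg.Agent.Lib.Helper9

open Cfsg Cfsg.FusionSystem

variable {Ω : Type*} [Group Ω] {S : Subgroup Ω}

/-- transport of `Aut_F(Q)` to `Aut_F(P)` along an isomorphism of the system, as a group
homomorphism -/
noncomputable def autGroupCongr (F : FusionSystem S) {P Q : Subgroup Ω} {ψ : Q →* Ω}
    (hψ : ψ ∈ F.Hom Q) (hP : ψ.range = P) : ↥(F.autGroup Q) →* ↥(F.autGroup P) :=
  ((MulAut.congr (equivOfRange ψ (F.injective_of_mem hψ) hP)).toMonoidHom.comp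
    (F.autGroup Q).subtype).codRestrict (F.autGroup P)
    (fun α => congr_mem_autGroup F hψ hP α.2)

theorem autGroupCongr_injective (F : FusionSystem S) {P Q : Subgroup Ω} {ψ : Q →* Ω}
    (hψ : ψ ∈ F.Hom Q) (hP : ψ.range = P) : Function.Injective (autGroupCongr F hψ hP) := by
  intro a b hab
  have h1 : MulAut.congr (equivOfRange ψ (F.injective_of_mem hψ) hP) (a : MulAut Q) =
      MulAut.congr (equivOfRange ψ (F.injective_of_mem hψ) hP) (b : MulAut Q) :=
    congrArg Subtype.val hab
  exact Subtype.ext ((MulAut.congr _).injective h1)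

theorem map_pResidual_le {A B : Type*} [Group A] [Group B] (p : ℕ) (f : A →* B)
    (hf : Function.Injective f) : (pResidual p A).map f ≤ pResidual p B := by
  unfold pResidual
  rw [MonoidHom.map_closure]
  apply Subgroup.closure_mono
  rintro _ ⟨g, hg, rfl⟩
  show Nat.Coprime (orderOf (f g)) p
  rw [orderOf_injective f hf]
  exact hg

theorem autGroupCongr_mem_pResidual (F : FusionSystem S) (p : ℕ) {P Q : Subgroup Ω} {ψ : Q →* Ω}
    (hψ : ψ ∈ F.Hom Q) (hP : ψ.range = P) {α : F.autGroup Q}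
    (hα : α ∈ pResidual p (F.autGroup Q)) :
    autGroupCongr F hψ hP α ∈ pResidual p (F.autGroup P) :=
  map_pResidual_le p _ (autGroupCongr_injective F hψ hP) ⟨α, hα, rfl⟩

/-- the hyperfocal subgroup is normalized by `S` -/
theorem hyperfocal_conj_mem (F : FusionSystem S) (p : ℕ) {s h : Ω} (hs : s ∈ S)
    (hh : h ∈ F.hyperfocalSubgroup p) : s * h * s⁻¹ ∈ F.hyperfocalSubgroup p := by
  unfold hyperfocalSubgroup at hh ⊢
  induction hh using Subgroup.closure_induction with
  | mem y hy =>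
    obtain ⟨P, α, x, hPS, hα, rfl⟩ := hy
    have hψ : conjHom P s ∈ F.Hom P := F.conj_mem hPS hs
    have hP'S : (conjHom P s).range ≤ S := range_le F hψ
    apply Subgroup.subset_closure
    refine ⟨(conjHom P s).range, autGroupCongr F hψ rfl α,
      equivOfRange (conjHom P s) (F.injective_of_mem hψ) rfl x, hP'S,
      autGroupCongr_mem_pResidual F p hψ rfl hα, ?_⟩
    show s * ((x : Ω)⁻¹ * ((α : MulAut P) x : P)) * s⁻¹ = (s * (x : Ω) * s⁻¹)⁻¹ *
      (conjHom P s ((α : MulAut P) ((equivOfRange (conjHom P s) (F.injective_of_mem hψ) rfl).symm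
        (equivOfRange (conjHom P s) (F.injective_of_mem hψ) rfl x))))
    rw [MulEquiv.symm_apply_apply, conjHom_apply]
    group
  | one => simp
  | mul a b _ _ ha hb =>
    have : s * (a * b) * s⁻¹ = (s * a * s⁻¹) * (s * b * s⁻¹) := by group
    rw [this]
    exact Subgroup.mul_mem _ ha hb
  | inv a _ ha =>
    have : s * a⁻¹ * s⁻¹ = (s * a * s⁻¹)⁻¹ := by group
    rw [this]
    exact Subgroup.inv_mem _ ha

end Cfsg.Agent.Lib.Helper9
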