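import Cfsg.Agent.Lib.Helper9.FactorSys8
import Cfsg.Agent.Lib.Helper9.Hyperfocal3

set_option autoImplicit false

namespace Cfsg.Agent.Lib.Helper9

open Cfsg Cfsg.FusionSystem

variable {Ω : Type*} [Group Ω] {S : Subgroup Ω} {Ω' : Type*} [Group Ω']

theorem map_mem_imageAlong (θ : S →* Ω') {R : Subgroup Ω} (hRS : R ≤ S) (x : R) :
    θ ⟨x, hRS x.2⟩ ∈ imageAlong θ R :=
  (mem_imageAlong θ R _).mpr ⟨x, hRS x.2, x.2, rfl⟩

/-- the homomorphism `Aut_F(R) → Aut_{F/S₀}(R/S₀)` for `S₀ ≤ R`; it is onto -/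
theorem exists_autFactorHom [Finite S] (F : FusionSystem S) {S₀ : Subgroup Ω}
    (hS₀ : F.StronglyClosed S₀) {S' : Subgroup Ω'} (θ : S →* Ω') (E : FusionSystem S')
    (hE : F.IsFactorSystem S₀ θ E) {R : Subgroup Ω} (hRS : R ≤ S) (hS₀R : S₀ ≤ R) :
    ∃ Φ : F.autGroup R →* E.autGroup (imageAlong θ R), Function.Surjective Φ ∧
      ∀ (β : F.autGroup R) (x : R),
        (((Φ β : MulAut (imageAlong θ R)) ⟨θ ⟨x, hRS x.2⟩, map_mem_imageAlong θ hRS x⟩ :
          imageAlong θ R) : Ω') = θ ⟨((β : MulAut R) x : R), hRS ((β : MulAut R) x).2⟩ := by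
  obtain ⟨hS₀S, hker, hrange, hHom⟩ := hE
  have hR'S' : imageAlong θ R ≤ S' := hrange ▸ imageAlong_le_range θ R
  set π : R →* imageAlong θ R :=
    (θ.comp (Subgroup.inclusion hRS)).codRestrict _ (map_mem_imageAlong θ hRS) with hπdef
  have hπ : Function.Surjective π := by
    rintro ⟨y, hy⟩
    obtain ⟨x, hxS, hxR, rfl⟩ := (mem_imageAlong θ R y).mp hy
    exact ⟨⟨x, hxR⟩, rfl⟩
  have hG : ∀ β ∈ F.autGroup R, ∀ a, π a = 1 → π (β a) = 1 := by
    intro β hβ a ha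
    have h1 : θ ⟨a, hRS a.2⟩ = 1 := congrArg Subtype.val ha
    have h2 : (a : Ω) ∈ S₀ := (hker _).mp h1
    have h3 : ((β a : R) : Ω) ∈ S₀ :=
      map_mem_of_stronglyClosed F hS₀ (hom_of_mem_autGroup F hRS hβ) a h2
    exact Subtype.ext ((hker ⟨_, hRS (β a).2⟩).mpr h3)
  set Φ := autQuotHom π hπ (F.autGroup R) hG with hΦdef
  have hΦapp : ∀ (β : F.autGroup R) (x : R),
      ((Φ β (π x) : imageAlong θ R) : Ω') = θ ⟨((β : MulAut R) x : R), hRS ((β : MulAut R) x).2⟩ := by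
    intro β x
    rw [hΦdef, autQuotHom_apply]
    rfl
  have hpre : preimageAlong θ (imageAlong θ R) = R := preimageAlong_imageAlong θ hker hRS hS₀R
  have hpreR : preimageAlong θ (imageAlong θ R) ≤ R := hpre.le
  have hRpre : R ≤ preimageAlong θ (imageAlong θ R) := hpre.ge
  have hA : ∀ β : F.autGroup R, Φ β ∈ E.autGroup (imageAlong θ R) := by
    intro β
    rw [mem_autGroup_iff E hR'S', hHom]
    refine ⟨hR'S', (R.subtype.comp (β : MulAut R).toMonoidHom).comp (Subgroup.inclusion hpreR),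
      restrict_mem F (hom_of_mem_autGroup F hRS β.2) hpreR, preimageAlong_le θ _, fun x => ?_,
      map_mem_of_mem_preimageAlong θ _, fun x => ?_⟩
    · exact hRS ((β : MulAut R) _).2
    · exact hΦapp β ⟨x, hpreR x.2⟩
  have hB : ∀ β' ∈ E.autGroup (imageAlong θ R), ∃ β : F.autGroup R, Φ β = β' := by
    intro β' hβ'
    have h1 := hom_of_mem_autGroup E hR'S' hβ'
    obtain ⟨-, φ, hφ, hD, hφS, hDP', hind⟩ := (hHom _ _).mp h1
    have hφ₀ := restrict_mem F hφ hRpre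
    have hr : (φ.comp (Subgroup.inclusion hRpre)).range = R := by
      apply range_eq_of_forall_mem F hφ₀
      intro x
      -- `θ (φ x) ∈ imageAlong θ R`, so `φ x ∈ R`
      have h2 := hind ⟨x, hRpre x.2⟩
      have h3 : θ ⟨φ ⟨x, hRpre x.2⟩, hφS _⟩ ∈ imageAlong θ R := by
        rw [← h2]
        exact (β' _).2
      apply hpreR
      exact (mem_preimageAlong θ _ _).mpr ⟨hφS _, h3⟩
    obtain ⟨β, hβ, hβφ⟩ := exists_aut_of_hom F hφ₀ hr
    refine ⟨⟨β, hβ⟩, ?_⟩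
    ext y
    obtain ⟨x, rfl⟩ := hπ y
    rw [hΦapp]
    have h2 := hind ⟨x, hRpre x.2⟩
    have h3 : (⟨θ ⟨((⟨x, hRpre x.2⟩ : (preimageAlong θ (imageAlong θ R) : Subgroup Ω)) : Ω),
        hD (hRpre x.2)⟩, hDP' ⟨x, hRpre x.2⟩⟩ : imageAlong θ R) = π x := Subtype.ext rfl
    rw [h3] at h2
    show θ ⟨(β x : R), _⟩ = ((β' (π x) : imageAlong θ R) : Ω')
    have h4 : ((imageAlong θ R).subtype.comp β'.toMonoidHom) (π x) =
        ((β' (π x) : imageAlong θ R) : Ω') := rfl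
    rw [← h4, h2]
    congr 1
    exact Subtype.ext (hβφ x)
  refine ⟨Φ.codRestrict _ hA, ?_, ?_⟩
  · rintro ⟨β', hβ'⟩
    obtain ⟨β, hβ⟩ := hB β' hβ'
    exact ⟨β, Subtype.ext hβ⟩
  · intro β x
    exact hΦapp β x

end Cfsg.Agent.Lib.Helper9
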