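import Cfsg.Agent.Lib.Helper9.Hyperfocal3
import Cfsg.Agent.Lib.Helper9.Hyperfocal2
import Cfsg.Agent.Lib.Helper9.GroupFusionAut

set_option autoImplicit false

namespace Cfsg.Agent.Lib.Helper9

open Cfsg Cfsg.FusionSystem

variable {G : Type*} [Group G]

/-- powers of an automorphism induced by conjugation -/
theorem pow_apply_of_conj {P : Subgroup G} (a : MulAut P) (g : G)
    (hg : ∀ x : P, ((a x : P) : G) = g * (x : G) * g⁻¹) (j : ℕ) :
    ∀ x : P, (((a ^ j) x : P) : G) = g ^ j * (x : G) * (g ^ j)⁻¹ := by
  induction j with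
  | zero => intro x; simp
  | succ j ih =>
    intro x
    rw [pow_succ, MulAut.mul_apply, ih, hg, pow_succ]
    group

/-- the easy half of the hyperfocal subgroup theorem -/
theorem hyperfocal_groupFusion_le [Finite G] (p : ℕ) [Fact p.Prime] (S : Subgroup G) :
    (groupFusionSystem S).hyperfocalSubgroup p ≤ S ⊓ pResidual p G := by
  apply le_inf (hyperfocal_le _ p)
  have hN : (pResidual p G).Normal := pResidual_normal p G
  unfold hyperfocalSubgroup
  rw [Subgroup.closure_le]
  rintro y ⟨P, α, x, hPS, hα, rfl⟩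
  show (x : G)⁻¹ * (((α : MulAut P) x : P) : G) ∈ pResidual p G
  have key : ∀ α ∈ pResidual p ((groupFusionSystem S).autGroup P), ∀ x : P,
      (x : G)⁻¹ * (((α : MulAut P) x : P) : G) ∈ pResidual p G := by
    intro α hα
    unfold pResidual at hα
    induction hα using Subgroup.closure_induction with
    | mem a ha =>
      intro x
      have ha' : Nat.Coprime (orderOf a) p := ha
      have h1 : (a : MulAut P) ∈ autInducedBy ⊤ P := by
        rw [← groupFusion_autGroup_eq hPS]
        exact a.2
      obtain ⟨g, -, hg⟩ := (mem_autInducedBy_iff ⊤ P _).mp h1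
      obtain ⟨k, hk1, hk2⟩ := exists_pow_pPrime p g (orderOf a) ha'
      have h2 : a ^ k = a := by
        have := (pow_eq_pow_iff_modEq (x := a) (n := k) (m := 1)).mpr hk1
        rwa [pow_one] at this
      have h3 : (((a : MulAut P) x : P) : G) = g ^ k * (x : G) * (g ^ k)⁻¹ := by
        have h4 := pow_apply_of_conj (a : MulAut P) g hg k x
        have h5 : ((a : MulAut P)) ^ k = (a : MulAut P) := by
          have := congrArg Subtype.val h2
          simpa using this
        rw [h5] at h4
        exact h4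
      rw [h3]
      have h6 : g ^ k ∈ pResidual p G := Subgroup.subset_closure hk2
      have h7 : (x : G)⁻¹ * g ^ k * (x : G)⁻¹⁻¹ ∈ pResidual p G := hN.conj_mem _ h6 _
      have h8 : (x : G)⁻¹ * (g ^ k * (x : G) * (g ^ k)⁻¹) =
          ((x : G)⁻¹ * g ^ k * (x : G)⁻¹⁻¹) * (g ^ k)⁻¹ := by group
      rw [h8]
      exact Subgroup.mul_mem _ h7 (Subgroup.inv_mem _ h6)
    | one =>
      intro x
      simp
    | mul a b _ _ iha ihb =>
      intro x
      have h1 : (x : G)⁻¹ * ((((a * b : (groupFusionSystem S).autGroup P) : MulAut P) x : P) : G) =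
          ((x : G)⁻¹ * (((b : MulAut P) x : P) : G)) *
          ((((b : MulAut P) x : P) : G)⁻¹ * (((a : MulAut P) ((b : MulAut P) x) : P) : G)) := by
        show (x : G)⁻¹ * (((a : MulAut P) ((b : MulAut P) x) : P) : G) = _
        group
      rw [h1]
      exact Subgroup.mul_mem _ (ihb x) (iha _)
    | inv a _ iha =>
      intro x
      have h1 := iha ((a : MulAut P)⁻¹ x)
      rw [MulAut.apply_inv_self] at h1
      have h2 : (x : G)⁻¹ * ((((a⁻¹ : (groupFusionSystem S).autGroup P) : MulAut P) x : P) : G) =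
          ((((a : MulAut P)⁻¹ x : P) : G)⁻¹ * (x : G))⁻¹ := by
        show (x : G)⁻¹ * ((((a : MulAut P)⁻¹ x : P)) : G) = _
        group
      rw [h2]
      exact Subgroup.inv_mem _ h1
  exact key α hα x

/-- in a finite `p`-group, a normal subgroup that together with the derived subgroup generates
everything is everything -/
theorem le_of_le_sup_commutator {p : ℕ} [Fact p.Prime] {S H : Subgroup G} [Finite S]
    (hS : IsPGroup p S) (hHS : H ≤ S) (hnorm : ∀ s ∈ S, ∀ h ∈ H, s * h * s⁻¹ ∈ H)
    (h : S ≤ H ⊔ ⁅S, S⁆) : S ≤ H := by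
  have hN : (H.subgroupOf S).Normal := ⟨fun n hn g => hnorm g g.2 n hn⟩
  have hnil : Group.IsNilpotent S := hS.isNilpotent
  have hsol : Group.IsSolvable (S ⧸ H.subgroupOf S) := inferInstance
  have hcomm : ⁅S, S⁆.subgroupOf S = commutator S := by
    rw [← Subgroup.map_subtype_commutator]
    exact Subgroup.comap_map_eq_self_of_injective (Subgroup.subtype_injective _) _
  have htop : H.subgroupOf S ⊔ commutator S = ⊤ := by
    rw [← hcomm, ← Subgroup.subgroupOf_sup hHS (Subgroup.commutator_le_self S),
      Subgroup.subgroupOf_eq_top]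
    exact h
  have hQ : commutator (S ⧸ H.subgroupOf S) = ⊤ := by
    have h1 : (H.subgroupOf S ⊔ commutator S).map (QuotientGroup.mk' (H.subgroupOf S)) = ⊤ := by
      rw [htop, ← MonoidHom.range_eq_map]
      exact MonoidHom.range_eq_top.mpr (QuotientGroup.mk'_surjective _)
    rw [Subgroup.map_sup, QuotientGroup.map_mk'_self, bot_sup_eq, commutator_def,
      Subgroup.map_commutator, ← MonoidHom.range_eq_map,
      MonoidHom.range_eq_top.mpr (QuotientGroup.mk'_surjective _)] at h1
    exact h1
  have hsub : Subsingleton (S ⧸ H.subgroupOf S) := by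
    by_contra hns
    rw [not_subsingleton_iff_nontrivial] at hns
    exact (Group.IsSolvable.commutator_lt_top_of_nontrivial (S ⧸ H.subgroupOf S)).ne hQ
  have h2 : H.subgroupOf S = ⊤ := QuotientGroup.subgroup_eq_top_of_subsingleton _ hsub
  exact Subgroup.subgroupOf_eq_top.mp h2

end Cfsg.Agent.Lib.Helper9
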