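import Cfsg.Agent.Lib.Helper9.IdxA1

set_option autoImplicit false

/-! The stabilizer of two points in `M24` has no subgroup of order 2112. -/

namespace Cfsg.Agent.Lib.Helper9.Idx

open Cfsg Finset MulAction Cfsg.Agent.Lib.Helper9.GolayQR1 Cfsg.Agent.Lib.Helper9.M24T3
  Cfsg.Agent.Lib.Helper9.OutM
open scoped Pointwise

/-- a group of order `2112` has an involution commuting with an element of order `11` -/
theorem exists_commuting_2112 {A : Type*} [Group A] (hA : Nat.card A = 2112) :
    ∃ h v : A, h ≠ 1 ∧ h ^ 11 = 1 ∧ v ≠ 1 ∧ v ^ 2 = 1 ∧ h * v = v * h := by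
  haveI : Finite A := Nat.finite_of_card_ne_zero (by rw [hA]; norm_num)
  haveI : Fact (Nat.Prime 11) := ⟨by norm_num⟩
  haveI : Fact (Nat.Prime 2) := ⟨by norm_num⟩
  obtain ⟨P⟩ : Nonempty (Sylow 11 A) := inferInstance
  have hfac : (2112 : ℕ).factorization 11 = 1 := by
    have h1 : (2112 : ℕ) = 11 ^ 1 * 192 := by norm_num
    rw [h1, Nat.factorization_mul (by norm_num) (by norm_num), Nat.Prime.factorization_pow (by norm_num)]
    have : (192 : ℕ).factorization 11 = 0 := Nat.factorization_eq_zero_of_not_dvd (by norm_num)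
    simp [this]
  have hP : Nat.card (P : Subgroup A) = 11 := by
    have := Sylow.card_eq_multiplicity P
    rw [hA, hfac, pow_one] at this
    exact this
  have hidx : (P : Subgroup A).index = 192 := by
    have := Subgroup.card_mul_index (P : Subgroup A)
    rw [hP, hA] at this
    omega
  have h1 := card_sylow_modEq_one 11 A
  have h2 := Sylow.card_dvd_index P
  rw [hidx] at h2
  have h3 := Sylow.card_eq_index_normalizer P
  have hn : Nat.card (Sylow 11 A) = 1 ∨ Nat.card (Sylow 11 A) = 12 := by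
    unfold Nat.ModEq at h1
    generalize Nat.card (Sylow 11 A) = n at *
    have hmem : n ∈ (Nat.divisors 192).filter (fun d => d % 11 = 1) := by
      rw [mem_filter, Nat.mem_divisors]
      exact ⟨⟨h2, by norm_num⟩, by omega⟩
    have hset : (Nat.divisors 192).filter (fun d => d % 11 = 1) = {1, 12} := by decide
    rw [hset, mem_insert, mem_singleton] at hmem
    exact hmem
  have hN : 2 ^ 4 ∣ Nat.card ↥(Subgroup.normalizer (P : Set A)) := by
    have := Subgroup.card_mul_index (Subgroup.normalizer (P : Set A))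
    rw [← h3, hA] at this
    rcases hn with hn | hn
    · rw [hn] at this
      exact ⟨132, by omega⟩
    · rw [hn] at this
      exact ⟨11, by omega⟩
  obtain ⟨T, hT⟩ := Sylow.exists_subgroup_card_pow_prime 2 hN
  obtain ⟨h, hhP, hh1⟩ := exists_ne_one_of_card (P : Subgroup A) (by rw [hP]; norm_num)
  have hh11 : h ^ 11 = 1 := by
    have : (⟨h, hhP⟩ : ↥(P : Subgroup A)) ^ Nat.card ↥(P : Subgroup A) = 1 := pow_card_eq_one'
    rw [hP] at this
    exact congrArg Subtype.val this
  -- conjugation map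
  let φ : ↥T → ↥(P : Subgroup A) := fun t => ⟨(t : ↥(Subgroup.normalizer (P : Set A))).1 * h *
    ((t : ↥(Subgroup.normalizer (P : Set A))).1)⁻¹,
    (Subgroup.mem_normalizer_iff.mp (t : ↥(Subgroup.normalizer (P : Set A))).2 h).mp hhP⟩
  haveI : Finite ↥T := Nat.finite_of_card_ne_zero (by rw [hT]; norm_num)
  haveI : Fintype ↥T := Fintype.ofFinite _
  haveI : Fintype ↥(P : Subgroup A) := Fintype.ofFinite _
  obtain ⟨t1, t2, hne, heq⟩ := Fintype.exists_ne_map_eq_of_card_lt φ (by
    rw [← Nat.card_eq_fintype_card, ← Nat.card_eq_fintype_card, hT, hP]; norm_num)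
  have heq' : (t1 : ↥(Subgroup.normalizer (P : Set A))).1 * h *
      ((t1 : ↥(Subgroup.normalizer (P : Set A))).1)⁻¹ =
      (t2 : ↥(Subgroup.normalizer (P : Set A))).1 * h *
      ((t2 : ↥(Subgroup.normalizer (P : Set A))).1)⁻¹ := congrArg Subtype.val heq
  -- the element `u = t2⁻¹ t1`
  obtain ⟨u, hu⟩ : ∃ u : ↥T, u = t2⁻¹ * t1 := ⟨_, rfl⟩
  have hu1 : u ≠ 1 := by
    intro h1
    rw [hu] at h1
    exact hne (inv_mul_eq_one.mp h1).symm
  have hucomm : ((u : ↥(Subgroup.normalizer (P : Set A))) : A) * h =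
      h * ((u : ↥(Subgroup.normalizer (P : Set A))) : A) := by
    rw [hu]
    simp only [Subgroup.coe_mul, Subgroup.coe_inv]
    have : ∀ a b : A, a * h * a⁻¹ = b * h * b⁻¹ → b⁻¹ * a * h = h * (b⁻¹ * a) := by
      intro a b hab
      have : b⁻¹ * a * h = b⁻¹ * (a * h * a⁻¹) * a := by group
      rw [this, hab]
      group
    exact this _ _ heq'
  have hu16 : orderOf u ∣ 2 ^ 4 := by
    rw [← hT]
    exact orderOf_dvd_natCard u
  have ho1 : orderOf u ≠ 1 := fun h => hu1 (orderOf_eq_one_iff.mp h)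
  have ho2 : 2 ∣ orderOf u := by
    obtain ⟨k, hk, hk'⟩ := (Nat.dvd_prime_pow Nat.prime_two).mp hu16
    rw [hk']
    rcases k with _ | k
    · rw [hk', pow_zero] at ho1
      exact absurd rfl ho1
    · exact ⟨2 ^ k, by rw [pow_succ, mul_comm]⟩
  have ho0 : orderOf u ≠ 0 := by
    intro h0
    rw [h0] at hu16
    norm_num at hu16
  have hv := orderOf_pow_orderOf_div ho0 ho2
  obtain ⟨v, hvdef⟩ : ∃ v : ↥T, v = u ^ (orderOf u / 2) := ⟨_, rfl⟩
  rw [← hvdef] at hv
  refine ⟨h, ((v : ↥(Subgroup.normalizer (P : Set A))) : A), hh1, hh11, ?_, ?_, ?_⟩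
  · intro h1
    have : v = 1 := by
      apply Subtype.ext
      apply Subtype.ext
      exact h1
    rw [this, orderOf_one] at hv
    norm_num at hv
  · have := pow_orderOf_eq_one v
    rw [hv] at this
    have h2 := congrArg (fun w : ↥T => ((w : ↥(Subgroup.normalizer (P : Set A))) : A)) this
    simpa using h2
  · rw [hvdef]
    simp only [Subgroup.coe_pow]
    exact ((Commute.pow_left (show Commute ((u : ↥(Subgroup.normalizer (P : Set A))) : A) h from hucomm) _).eq).symm

/-- no subgroup of order `2112` fixes two points -/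
theorem no_2112 (p q : GolayPt) (hpq : p ≠ q) (K : Subgroup (Equiv.Perm GolayPt))
    (hL : Lvl K {p, q}) (hc : Nat.card K = 2112) : False := by
  haveI : Fact (Nat.Prime 11) := ⟨by norm_num⟩
  obtain ⟨h, v, hh1, hh11, hv1, hv2, hcomm⟩ := exists_commuting_2112 hc
  have hh1' : (h : Equiv.Perm GolayPt) ≠ 1 := fun e => hh1 (Subtype.ext e)
  have hv1' : (v : Equiv.Perm GolayPt) ≠ 1 := fun e => hv1 (Subtype.ext e)
  have hh11' : (h : Equiv.Perm GolayPt) ^ 11 = 1 := by
    have := congrArg Subtype.val hh11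
    simpa using this
  have hv2' : (v : Equiv.Perm GolayPt) ^ 2 = 1 := by
    have := congrArg Subtype.val hv2
    simpa using this
  have hcomm' : (h : Equiv.Perm GolayPt) * v = v * h := by
    have := congrArg Subtype.val hcomm
    simpa using this
  have hfh := card_fixF_prime h (hL.le h.2) hh1' 11 (by norm_num) hh11'
  have hfv := card_fixF_involution v (hL.le v.2) hv2' hv1'
  have hpv : p ∈ fixF (v : Equiv.Perm GolayPt) :=
    (mem_fixF _ _).mpr (hL.fix v v.2 p (by simp))
  have hfv8 : (fixF (v : Equiv.Perm GolayPt)).card = 8 := by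
    rcases hfv with h0 | h8
    · rw [card_eq_zero] at h0
      rw [h0] at hpv
      exact absurd hpv (notMem_empty _)
    · exact h8
  have hinv : ∀ b ∈ fixF (v : Equiv.Perm GolayPt), (h : Equiv.Perm GolayPt) b ∈
      fixF (v : Equiv.Perm GolayPt) := by
    intro b hb
    rw [mem_fixF] at hb ⊢
    rw [← Equiv.Perm.mul_apply, ← hcomm', Equiv.Perm.mul_apply, hb]
  have hmod := card_modEq_fix (h : Equiv.Perm GolayPt) 11 hh11' _ hinv
  have hle : (fixF (v : Equiv.Perm GolayPt) ∩ fixF (h : Equiv.Perm GolayPt)).card ≤ 2 := by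
    have := card_le_card (inter_subset_right (s₁ := fixF (v : Equiv.Perm GolayPt))
      (s₂ := fixF (h : Equiv.Perm GolayPt)))
    rw [hfh] at this
    exact this
  rw [hfv8] at hmod
  unfold Nat.ModEq at hmod
  omega

end Cfsg.Agent.Lib.Helper9.Idx
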