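import Cfsg.Agent.Lib.Helper9.IdxA1

set_option autoImplicit false

/-! The stabilizer of two points in `M24` has no subgroup of order 7920: preliminaries. -/

namespace Cfsg.Agent.Lib.Helper9.Idx

open Cfsg Finset MulAction Cfsg.Agent.Lib.Helper9.GolayQR1 Cfsg.Agent.Lib.Helper9.M24T3
  Cfsg.Agent.Lib.Helper9.OutM
open scoped Pointwise

/-- orbit–stabilizer arithmetic: the orbit length is divisible by the part of the group order
not visible in the ambient point stabilizer -/
theorem nt_dvd (N D g r m k : ℕ) (h : m * k = N) (hk : k ∣ D) (hg : Nat.gcd N D = g)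
    (hN : N = r * g) (hN0 : N ≠ 0) : r ∣ m := by
  have hk' : k ∣ N := ⟨m, by rw [mul_comm]; exact h.symm⟩
  have hkg : k ∣ g := hg ▸ Nat.dvd_gcd hk' hk
  obtain ⟨j, hj⟩ := hkg
  have hk0 : 0 < k := by
    rcases Nat.eq_zero_or_pos k with h0 | h0
    · rw [h0, mul_zero] at h
      exact absurd h.symm hN0
    · exact h0
  refine ⟨j, ?_⟩
  apply Nat.eq_of_mul_eq_mul_right hk0
  rw [h, hN, hj]
  ring

theorem nt_360 (m k : ℕ) (h : m * k = 360) (hk : k ∣ 960) (hm : m ≤ 21) :
    m = 3 ∨ m = 6 ∨ m = 9 ∨ m = 12 ∨ m = 15 ∨ m = 18 := by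
  obtain ⟨j, rfl⟩ := nt_dvd 360 960 120 3 m k h hk (by norm_num) (by norm_num) (by norm_num)
  have hj : j ≤ 7 := by omega
  interval_cases j <;> omega

section general

variable {α : Type*} [Fintype α] [DecidableEq α]

/-- a set partitioned into blocks of size `m` has size divisible by `m` -/
theorem dvd_card_of_blocks (C : α → Finset α) (m : ℕ) :
    ∀ (n : ℕ) (Ω : Finset α), Ω.card = n →
      (∀ a ∈ Ω, C a ⊆ Ω ∧ (C a).card = m ∧ a ∈ C a ∧ ∀ b ∈ C a, C b = C a) → m ∣ Ω.card := by
  intro n
  induction n using Nat.strong_induction_on with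
  | _ n ih =>
    intro Ω hn hC
    by_cases hE : Ω = ∅
    · rw [hE, card_empty]
      exact dvd_zero m
    · obtain ⟨a, ha⟩ := nonempty_iff_ne_empty.mpr hE
      obtain ⟨hsub, hcard, haC, hblk⟩ := hC a ha
      have hpos : 0 < (C a).card := card_pos.mpr ⟨a, haC⟩
      have hsplit := card_sdiff_add_card_eq_card hsub
      have hlt : (Ω \ C a).card < n := by omega
      have h1 := ih _ hlt (Ω \ C a) rfl (by
        intro a' ha'
        rw [mem_sdiff] at ha'
        obtain ⟨hsub', hcard', haC', hblk'⟩ := hC a' ha'.1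
        refine ⟨?_, hcard', haC', hblk'⟩
        intro c hc
        rw [mem_sdiff]
        refine ⟨hsub' hc, fun hca => ha'.2 ?_⟩
        have e1 := hblk' c hc
        have e2 := hblk c hca
        rw [← e2, e1]
        exact haC')
      rw [← hsplit, hcard]
      exact dvd_add h1 (dvd_refl m)

end general

end Cfsg.Agent.Lib.Helper9.Idx
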