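import Cfsg.Agent.Lib.Helper9.IdxA3

set_option autoImplicit false

/-! The stabilizer of two points in `M24` has no subgroup of order 7920. -/

namespace Cfsg.Agent.Lib.Helper9.Idx

open Cfsg Finset MulAction Cfsg.Agent.Lib.Helper9.GolayQR1 Cfsg.Agent.Lib.Helper9.M24T3
  Cfsg.Agent.Lib.Helper9.OutM Cfsg.Agent.Lib.Helper9.Chain1
open scoped Pointwise

theorem nodup4 (p q a b : GolayPt) (hpq : p ≠ q) (ha : a ∉ ({p, q} : Finset GolayPt))
    (hb : b ∉ insert a ({p, q} : Finset GolayPt)) : [p, q, a, b].Nodup := by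
  simp only [mem_insert, mem_singleton, not_or] at ha hb
  simp only [List.nodup_cons, List.mem_cons, List.not_mem_nil, or_false, not_or, not_false_eq_true,
    List.nodup_nil, and_true]
  exact ⟨⟨hpq, Ne.symm ha.1, Ne.symm hb.2.1⟩, ⟨Ne.symm ha.2, Ne.symm hb.2.2⟩, Ne.symm hb.1⟩

theorem nodup5 (p q a b c : GolayPt) (hpq : p ≠ q) (ha : a ∉ ({p, q} : Finset GolayPt))
    (hb : b ∉ insert a ({p, q} : Finset GolayPt))
    (hc : c ∉ insert b (insert a ({p, q} : Finset GolayPt))) : [p, q, a, b, c].Nodup := by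
  simp only [mem_insert, mem_singleton, not_or] at ha hb hc
  simp only [List.nodup_cons, List.mem_cons, List.not_mem_nil, or_false, not_or, not_false_eq_true,
    List.nodup_nil, and_true]
  exact ⟨⟨hpq, Ne.symm ha.1, Ne.symm hb.2.1, Ne.symm hc.2.2.1⟩,
    ⟨Ne.symm ha.2, Ne.symm hb.2.2, Ne.symm hc.2.2.2⟩, ⟨Ne.symm hb.1, Ne.symm hc.2.1⟩, Ne.symm hc.1⟩

theorem mem4 (p q a b : GolayPt) :
    ∀ x ∈ [p, q, a, b], x ∈ insert b (insert a ({p, q} : Finset GolayPt)) := by
  intro x hx
  simp only [List.mem_cons, List.not_mem_nil, or_false] at hx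
  rcases hx with rfl | rfl | rfl | rfl <;> simp

theorem mem5 (p q a b c : GolayPt) :
    ∀ x ∈ [p, q, a, b, c], x ∈ insert c (insert b (insert a ({p, q} : Finset GolayPt))) := by
  intro x hx
  simp only [List.mem_cons, List.not_mem_nil, or_false] at hx
  rcases hx with rfl | rfl | rfl | rfl | rfl <;> simp

/-- the orbits of a subgroup of order 7920 fixing two points, on the other points -/
theorem orb_11_or_22 (p q : GolayPt) (hpq : p ≠ q) (K : Subgroup (Equiv.Perm GolayPt))
    (hL : Lvl K {p, q}) (hc : Nat.card K = 7920) (a : GolayPt)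
    (ha : a ∉ ({p, q} : Finset GolayPt)) : (orbF K a).card = 11 ∨ (orbF K a).card = 22 := by
  haveI : Fact (Nat.Prime 11) := ⟨by norm_num⟩
  obtain ⟨h, hh, hh1, hh11⟩ := exists_prime_order K 11 (by rw [hc]; norm_num) (by rw [hc]; norm_num)
  have hf := card_fixF_prime h (hL.le hh) hh1 11 (by norm_num) hh11
  have hfix : fixF h = {p, q} := hL.fixF_eq h hh (by rw [hf, card_pair hpq])
  have h1 := hL.orb_mod_zero a ha h hh 11 hh11 hfix
  have h2 := hL.orb_card_le a ha
  rw [card_pair hpq] at h2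
  have h3 := orb_card_pos K a
  omega

/-- the intransitive case -/
theorem no_7920_intrans (p q : GolayPt) (hpq : p ≠ q) (K : Subgroup (Equiv.Perm GolayPt))
    (hL : Lvl K {p, q}) (hc : Nat.card K = 7920) (a : GolayPt)
    (ha : a ∉ ({p, q} : Finset GolayPt)) (h11 : (orbF K a).card = 11) : False := by
  have hKa : Nat.card ↥(K ⊓ stabilizer (Equiv.Perm GolayPt) a) = 720 := by
    have := card_orbF K a
    rw [hc, h11] at this
    omega
  have hLa := hL.next a
  have hdisj := hL.orb_disjoint a ha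
  have hsubΩ : orbF K a ⊆ univ \ {p, q} := by
    intro x hx
    rw [mem_sdiff]
    exact ⟨mem_univ _, fun h => disjoint_left.mp hdisj hx h⟩
  have hBcard : ((univ \ {p, q}) \ orbF K a).card = 11 := by
    rw [card_sdiff_of_subset hsubΩ, card_sdiff_of_subset (subset_univ _), card_univ,
      Cfsg.Agent.Lib.Helper9.GolayQR5.card_golayPt, card_pair hpq, h11]
  have hBinv : ∀ x ∈ K ⊓ stabilizer (Equiv.Perm GolayPt) a,
      ∀ b ∈ (univ \ {p, q}) \ orbF K a, x b ∈ (univ \ {p, q}) \ orbF K a := by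
    intro x hx b hb
    have hxK : x ∈ K := hx.1
    simp only [mem_sdiff, mem_univ, true_and] at hb ⊢
    refine ⟨?_, ?_⟩
    · intro hmem
      apply hb.1
      rw [mem_insert, mem_singleton] at hmem ⊢
      rcases hmem with e | e
      · left
        have := hL.fix x hxK p (by simp)
        rw [← this] at e
        exact x.injective e
      · right
        have := hL.fix x hxK q (by simp)
        rw [← this] at e
        exact x.injective e
    · intro hmem
      apply hb.2
      have := orbF_invariant K a x⁻¹ (K.inv_mem hxK) _ hmem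
      rwa [inv_apply_self'] at this
  have hdiv : ∀ b ∈ (univ \ {p, q}) \ orbF K a,
      3 ∣ (orbF (K ⊓ stabilizer (Equiv.Perm GolayPt) a) b).card := by
    intro b hb
    simp only [mem_sdiff, mem_univ, true_and] at hb
    have hba : b ≠ a := fun e => hb.2 (e ▸ self_mem_orbF K a)
    have hbF : b ∉ insert a ({p, q} : Finset GolayPt) := by
      rw [mem_insert, not_or]
      exact ⟨hba, hb.1⟩
    have hLab := hLa.next b
    have hd := lvl_card_dvd hLab [p, q, a, b] (mem4 p q a b) 960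
      (card_fix_four p q a b (nodup4 p q a b hpq ha hbF))
    have ho := card_orbF (K ⊓ stabilizer (Equiv.Perm GolayPt) a) b
    rw [hKa] at ho
    exact nt_dvd 720 960 240 3 _ _ ho.symm hd (by norm_num) (by norm_num) (by norm_num)
  have := dvd_card_of_orbits (K ⊓ stabilizer (Equiv.Perm GolayPt) a) 3 11 _ hBcard hBinv hdiv
  rw [hBcard] at this
  omega

section

variable (p q : GolayPt) (K : Subgroup (Equiv.Perm GolayPt))

/-- the neighbours of a point: the points whose joint stabilizer has order 60 -/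
noncomputable def nbr (a : GolayPt) : Finset GolayPt := by
  classical exact univ.filter (fun b => b ∉ ({p, q} : Finset GolayPt) ∧ b ≠ a ∧
    Nat.card ↥(K ⊓ stabilizer (Equiv.Perm GolayPt) a ⊓ stabilizer (Equiv.Perm GolayPt) b) = 60)

theorem mem_nbr (a b : GolayPt) : b ∈ nbr p q K a ↔ b ∉ ({p, q} : Finset GolayPt) ∧ b ≠ a ∧
    Nat.card ↥(K ⊓ stabilizer (Equiv.Perm GolayPt) a ⊓ stabilizer (Equiv.Perm GolayPt) b) = 60 := by
  classical
  unfold nbr
  rw [mem_filter]
  simp

theorem nbr_symm (a b : GolayPt) (ha : a ∉ ({p, q} : Finset GolayPt)) (h : b ∈ nbr p q K a) :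
    a ∈ nbr p q K b := by
  rw [mem_nbr] at h ⊢
  refine ⟨ha, Ne.symm h.2.1, ?_⟩
  rw [inf_right_comm]
  exact h.2.2

variable {p q K}

/-- the neighbours form an orbit of length six of the point stabilizer -/
theorem nbr_eq_orbit (hpq : p ≠ q) (hL : Lvl K {p, q}) (a : GolayPt)
    (ha : a ∉ ({p, q} : Finset GolayPt))
    (hKa : Nat.card ↥(K ⊓ stabilizer (Equiv.Perm GolayPt) a) = 360) :
    ∃ b0, b0 ∉ insert a ({p, q} : Finset GolayPt) ∧
      nbr p q K a = orbF (K ⊓ stabilizer (Equiv.Perm GolayPt) a) b0 ∧ (nbr p q K a).card = 6 := by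
  haveI : Fact (Nat.Prime 5) := ⟨by norm_num⟩
  have hLa := hL.next a
  obtain ⟨f, hf, hf1, hf5⟩ := exists_prime_order (K ⊓ stabilizer (Equiv.Perm GolayPt) a) 5
    (by rw [hKa]; norm_num) (by rw [hKa]; norm_num)
  have hcf := card_fixF_prime f (hLa.le hf) hf1 5 (by norm_num) hf5
  have hFc : (insert a ({p, q} : Finset GolayPt)).card = 3 := by
    rw [card_insert_of_notMem ha, card_pair hpq]
  obtain ⟨b0, hb0, hfix⟩ := hLa.fixF_insert f hf (by rw [hcf, hFc])
  have hsz : ∀ b, b ∉ insert a ({p, q} : Finset GolayPt) →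
      ((orbF (K ⊓ stabilizer (Equiv.Perm GolayPt) a) b).card = 3 ∨
        (orbF (K ⊓ stabilizer (Equiv.Perm GolayPt) a) b).card = 6 ∨
        (orbF (K ⊓ stabilizer (Equiv.Perm GolayPt) a) b).card = 9 ∨
        (orbF (K ⊓ stabilizer (Equiv.Perm GolayPt) a) b).card = 12 ∨
        (orbF (K ⊓ stabilizer (Equiv.Perm GolayPt) a) b).card = 15 ∨
        (orbF (K ⊓ stabilizer (Equiv.Perm GolayPt) a) b).card = 18) ∧
      (orbF (K ⊓ stabilizer (Equiv.Perm GolayPt) a) b).card *
        Nat.card ↥(K ⊓ stabilizer (Equiv.Perm GolayPt) a ⊓ stabilizer (Equiv.Perm GolayPt) b)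
          = 360 := by
    intro b hb
    have hLab := hLa.next b
    have hd := lvl_card_dvd hLab [p, q, a, b] (mem4 p q a b) 960
      (card_fix_four p q a b (nodup4 p q a b hpq ha hb))
    have ho := card_orbF (K ⊓ stabilizer (Equiv.Perm GolayPt) a) b
    rw [hKa] at ho
    have hle := hLa.orb_card_le b hb
    rw [hFc] at hle
    exact ⟨nt_360 _ _ ho.symm hd (by omega), ho.symm⟩
  have h6 : (orbF (K ⊓ stabilizer (Equiv.Perm GolayPt) a) b0).card = 6 := by
    have h1 := hLa.orb_mod_one b0 hb0 f hf 5 hf5 hfix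
    rcases (hsz b0 hb0).1 with h | h | h | h | h | h <;> rw [h] at h1 <;> omega
  have hsub : ∀ b ∈ orbF (K ⊓ stabilizer (Equiv.Perm GolayPt) a) b0, b ∈ nbr p q K a := by
    intro b hb
    have hbF : b ∉ insert a ({p, q} : Finset GolayPt) :=
      fun h => disjoint_left.mp (hLa.orb_disjoint b0 hb0) hb h
    have h1 := (hsz b hbF).2
    rw [orbF_eq_of_mem _ b0 b hb, h6] at h1
    rw [mem_insert, not_or] at hbF
    rw [mem_nbr]
    refine ⟨hbF.2, hbF.1, ?_⟩
    omega
  have hsup : ∀ b ∈ nbr p q K a, b ∈ orbF (K ⊓ stabilizer (Equiv.Perm GolayPt) a) b0 := by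
    intro b hb
    rw [mem_nbr] at hb
    by_contra hnot
    have hbF : b ∉ insert a ({p, q} : Finset GolayPt) := by
      rw [mem_insert, not_or]
      exact ⟨hb.2.1, hb.1⟩
    have hdis : orbF (K ⊓ stabilizer (Equiv.Perm GolayPt) a) b ∩ fixF f = ∅ := by
      rw [hfix]
      apply eq_empty_of_forall_notMem
      intro x hx
      rw [mem_inter, mem_insert] at hx
      rcases hx.2 with rfl | hxF
      · apply hnot
        rw [orbF_eq_of_mem _ b x hx.1]
        exact self_mem_orbF _ b
      · exact disjoint_left.mp (hLa.orb_disjoint b hbF) hx.1 hxF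
    have hmod := card_modEq_fix f 5 hf5 _ (orbF_invariant (K ⊓ stabilizer (Equiv.Perm GolayPt) a) b f hf)
    rw [hdis, card_empty] at hmod
    unfold Nat.ModEq at hmod
    obtain ⟨hcases, hprod⟩ := hsz b hbF
    have h15 : (orbF (K ⊓ stabilizer (Equiv.Perm GolayPt) a) b).card = 15 := by
      rcases hcases with h | h | h | h | h | h <;> rw [h] at hmod <;> omega
    rw [h15, hb.2.2] at hprod
    omega
  have heq : nbr p q K a = orbF (K ⊓ stabilizer (Equiv.Perm GolayPt) a) b0 :=
    Finset.ext fun b => ⟨hsup b, hsub b⟩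
  exact ⟨b0, hb0, heq, by rw [heq, h6]⟩

/-- the neighbours of `a` other than `b` are permuted by the stabilizer of `a` and `b` -/
theorem nbr_erase_invariant (hpq : p ≠ q) (hL : Lvl K {p, q}) (a : GolayPt)
    (ha : a ∉ ({p, q} : Finset GolayPt))
    (hKa : Nat.card ↥(K ⊓ stabilizer (Equiv.Perm GolayPt) a) = 360) (b : GolayPt) :
    ∀ g ∈ K ⊓ stabilizer (Equiv.Perm GolayPt) a ⊓ stabilizer (Equiv.Perm GolayPt) b,
      ∀ x ∈ (nbr p q K a).erase b, g x ∈ (nbr p q K a).erase b := by
  obtain ⟨b0, -, heq, -⟩ := nbr_eq_orbit hpq hL a ha hKa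
  apply erase_invariant
  · intro g hg
    rw [heq]
    exact orbF_invariant _ b0 g hg.1
  · intro g hg
    exact mem_stabilizer_iff.mp hg.2

/-- the stabilizer of `a` and a neighbour `b` is transitive on the other neighbours of `a` -/
theorem nbr_trans (hpq : p ≠ q) (hL : Lvl K {p, q}) (a : GolayPt)
    (ha : a ∉ ({p, q} : Finset GolayPt))
    (hKa : Nat.card ↥(K ⊓ stabilizer (Equiv.Perm GolayPt) a) = 360) (b : GolayPt)
    (hb : b ∈ nbr p q K a) (c : GolayPt) (hc : c ∈ (nbr p q K a).erase b) :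
    orbF (K ⊓ stabilizer (Equiv.Perm GolayPt) a ⊓ stabilizer (Equiv.Perm GolayPt) b) c =
      (nbr p q K a).erase b := by
  obtain ⟨b0, -, -, h6⟩ := nbr_eq_orbit hpq hL a ha hKa
  have hLa := hL.next a
  have hLab := hLa.next b
  have hbm := (mem_nbr p q K a b).mp hb
  have hinv := nbr_erase_invariant hpq hL a ha hKa b
  have hsub := orbF_subset _ c _ hc hinv
  have hcard5 : ((nbr p q K a).erase b).card = 5 := by rw [card_erase_of_mem hb, h6]
  obtain ⟨hcb, hcN⟩ := mem_erase.mp hc
  have hcm := (mem_nbr p q K a c).mp hcN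
  have hbF : b ∉ insert a ({p, q} : Finset GolayPt) := by
    rw [mem_insert, not_or]
    exact ⟨hbm.2.1, hbm.1⟩
  have hcF : c ∉ insert b (insert a ({p, q} : Finset GolayPt)) := by
    rw [mem_insert, mem_insert, not_or, not_or]
    exact ⟨hcb, hcm.2.1, hcm.1⟩
  have hLabc := hLab.next c
  have hd := lvl_card_dvd hLabc [p, q, a, b, c] (mem5 p q a b c) 48
    (card_fix_five p q a b c (nodup5 p q a b c hpq ha hbF hcF))
  have ho := card_orbF (K ⊓ stabilizer (Equiv.Perm GolayPt) a ⊓ stabilizer (Equiv.Perm GolayPt) b) c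
  rw [hbm.2.2] at ho
  have h5 := nt_dvd 60 48 12 5 _ _ ho.symm hd (by norm_num) (by norm_num) (by norm_num)
  have hle := card_le_card hsub
  rw [hcard5] at hle
  have hpos := orb_card_pos (K ⊓ stabilizer (Equiv.Perm GolayPt) a ⊓ stabilizer (Equiv.Perm GolayPt) b) c
  have h55 : (orbF (K ⊓ stabilizer (Equiv.Perm GolayPt) a ⊓
      stabilizer (Equiv.Perm GolayPt) b) c).card = 5 := by
    obtain ⟨j, hj⟩ := h5
    omega
  exact eq_of_subset_of_card_le hsub (by rw [hcard5, h55])

end

end Cfsg.Agent.Lib.Helper9.Idx
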