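import Cfsg.Agent.Lib.Helper9.IdxA4
import Cfsg.Agent.Lib.Helper9.IdxA2

set_option autoImplicit false

/-! The stabilizer of two points in `M24` has no subgroup of order 7920 or 2112. -/

namespace Cfsg.Agent.Lib.Helper9.Idx

open Cfsg Finset MulAction Cfsg.Agent.Lib.Helper9.GolayQR1 Cfsg.Agent.Lib.Helper9.M24T3
  Cfsg.Agent.Lib.Helper9.OutM Cfsg.Agent.Lib.Helper9.Chain1
open scoped Pointwise

variable {p q : GolayPt} {K : Subgroup (Equiv.Perm GolayPt)}

/-- adjacent points have the same closed neighbourhood -/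
theorem nbr_erase_eq (hpq : p ≠ q) (hL : Lvl K {p, q})
    (hall : ∀ a, a ∉ ({p, q} : Finset GolayPt) →
      Nat.card ↥(K ⊓ stabilizer (Equiv.Perm GolayPt) a) = 360)
    (a : GolayPt) (ha : a ∉ ({p, q} : Finset GolayPt)) (b : GolayPt) (hb : b ∈ nbr p q K a) :
    (nbr p q K a).erase b = (nbr p q K b).erase a := by
  haveI : Fact (Nat.Prime 3) := ⟨by norm_num⟩
  have hbm := (mem_nbr p q K a b).mp hb
  have hab : a ∈ nbr p q K b := nbr_symm p q K a b ha hb
  have hLa := hL.next a
  have hLab := hLa.next b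
  have hKab : Nat.card ↥(K ⊓ stabilizer (Equiv.Perm GolayPt) a ⊓
      stabilizer (Equiv.Perm GolayPt) b) = 60 := hbm.2.2
  obtain ⟨s, hs, hs1, hs3⟩ := exists_prime_order (K ⊓ stabilizer (Equiv.Perm GolayPt) a ⊓
      stabilizer (Equiv.Perm GolayPt) b) 3 (by rw [hKab]; norm_num) (by rw [hKab]; norm_num)
  have hF4sub := hLab.subset_fixF s hs
  have hfs : (fixF s).card = 6 := by
    rcases card_fixF_three s (hLab.le hs) hs1 hs3 with h0 | h6
    · exfalso
      rw [card_eq_zero] at h0
      have : p ∈ fixF s := hF4sub (by simp)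
      rw [h0] at this
      exact absurd this (notMem_empty _)
    · exact h6
  obtain ⟨_, -, -, h6a⟩ := nbr_eq_orbit hpq hL a ha (hall a ha)
  obtain ⟨_, -, -, h6b⟩ := nbr_eq_orbit hpq hL b hbm.1 (hall b hbm.1)
  have hA5 : ((nbr p q K a).erase b).card = 5 := by rw [card_erase_of_mem hb, h6a]
  have hB5 : ((nbr p q K b).erase a).card = 5 := by rw [card_erase_of_mem hab, h6b]
  have hinvA := nbr_erase_invariant hpq hL a ha (hall a ha) b
  have hinvB : ∀ g ∈ K ⊓ stabilizer (Equiv.Perm GolayPt) a ⊓ stabilizer (Equiv.Perm GolayPt) b,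
      ∀ x ∈ (nbr p q K b).erase a, g x ∈ (nbr p q K b).erase a := by
    intro g hg
    apply nbr_erase_invariant hpq hL b hbm.1 (hall b hbm.1) a g
    rw [inf_right_comm]
    exact hg
  have hmA := card_modEq_fix s 3 hs3 _ (hinvA s hs)
  have hmB := card_modEq_fix s 3 hs3 _ (hinvB s hs)
  rw [hA5] at hmA
  rw [hB5] at hmB
  have hne : ∃ c, c ∈ (nbr p q K a).erase b ∧ c ∈ (nbr p q K b).erase a := by
    by_contra hcon
    push Not at hcon
    have hdisj : Disjoint ((nbr p q K a).erase b ∩ fixF s) ((nbr p q K b).erase a ∩ fixF s) :=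
      disjoint_left.mpr (fun x hx hx' => hcon x (mem_inter.mp hx).1 (mem_inter.mp hx').1)
    have hF4 : (insert b (insert a ({p, q} : Finset GolayPt))).card = 4 := by
      rw [card_insert_of_notMem, card_insert_of_notMem ha, card_pair hpq]
      rw [mem_insert, not_or]
      exact ⟨hbm.2.1, hbm.1⟩
    have hdisjA : Disjoint ((nbr p q K a).erase b ∩ fixF s)
        (insert b (insert a ({p, q} : Finset GolayPt))) := by
      rw [disjoint_left]
      intro x hx hx'
      obtain ⟨hxb, hxN⟩ := mem_erase.mp (mem_inter.mp hx).1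
      have hxm := (mem_nbr p q K a x).mp hxN
      rw [mem_insert, mem_insert] at hx'
      rcases hx' with e | e | e
      · exact hxb e
      · exact hxm.2.1 e
      · exact hxm.1 e
    have hdisjB : Disjoint ((nbr p q K b).erase a ∩ fixF s)
        (insert b (insert a ({p, q} : Finset GolayPt))) := by
      rw [disjoint_left]
      intro x hx hx'
      obtain ⟨hxa, hxN⟩ := mem_erase.mp (mem_inter.mp hx).1
      have hxm := (mem_nbr p q K b x).mp hxN
      rw [mem_insert, mem_insert] at hx'
      rcases hx' with e | e | e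
      · exact hxm.2.1 e
      · exact hxa e
      · exact hxm.1 e
    have hle : (((nbr p q K a).erase b ∩ fixF s) ∪ ((nbr p q K b).erase a ∩ fixF s) ∪
        (insert b (insert a ({p, q} : Finset GolayPt)))).card ≤ 6 := by
      rw [← hfs]
      exact card_le_card (union_subset (union_subset inter_subset_right inter_subset_right) hF4sub)
    rw [card_union_of_disjoint (disjoint_union_left.mpr ⟨hdisjA, hdisjB⟩),
      card_union_of_disjoint hdisj, hF4] at hle
    unfold Nat.ModEq at hmA hmB
    omega
  obtain ⟨c, hcA, hcB⟩ := hne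
  have h1 := nbr_trans hpq hL a ha (hall a ha) b hb c hcA
  have h2 := orbF_subset _ c _ hcB hinvB
  rw [h1] at h2
  exact eq_of_subset_of_card_le h2 (by rw [hA5, hB5])

/-- the transitive case -/
theorem no_7920_trans (hpq : p ≠ q) (hL : Lvl K {p, q}) (hc : Nat.card K = 7920)
    (hall : ∀ a, a ∉ ({p, q} : Finset GolayPt) → (orbF K a).card = 22) : False := by
  have hKa : ∀ a, a ∉ ({p, q} : Finset GolayPt) →
      Nat.card ↥(K ⊓ stabilizer (Equiv.Perm GolayPt) a) = 360 := by
    intro a ha
    have := card_orbF K a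
    rw [hc, hall a ha] at this
    omega
  have hΩ : ((univ : Finset GolayPt) \ {p, q}).card = 22 := by
    rw [card_sdiff_of_subset (subset_univ _), card_univ,
      Cfsg.Agent.Lib.Helper9.GolayQR5.card_golayPt, card_pair hpq]
  have := dvd_card_of_blocks (fun a => insert a (nbr p q K a)) 7 22 (univ \ {p, q}) hΩ (by
    intro a ha
    have ha' : a ∉ ({p, q} : Finset GolayPt) := (mem_sdiff.mp ha).2
    obtain ⟨b0, hb0, heq, h6⟩ := nbr_eq_orbit hpq hL a ha' (hKa a ha')
    have hself : a ∉ nbr p q K a := fun h => ((mem_nbr p q K a a).mp h).2.1 rfl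
    refine ⟨?_, ?_, mem_insert_self _ _, ?_⟩
    · intro x hx
      rw [mem_insert] at hx
      rcases hx with rfl | hx
      · exact ha
      · rw [mem_sdiff]
        exact ⟨mem_univ _, ((mem_nbr p q K a x).mp hx).1⟩
    · rw [card_insert_of_notMem hself, h6]
    · intro b hb
      rw [mem_insert] at hb
      rcases hb with rfl | hb
      · rfl
      · have hab := nbr_symm p q K a b ha' hb
        have he := nbr_erase_eq hpq hL hKa a ha' b hb
        show insert b (nbr p q K b) = insert a (nbr p q K a)
        rw [← insert_erase hb, ← insert_erase hab, he, Finset.insert_comm])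
  rw [hΩ] at this
  omega

/-- no subgroup of order `7920` fixes two points -/
theorem no_7920 (hpq : p ≠ q) (hL : Lvl K {p, q}) (hc : Nat.card K = 7920) : False := by
  by_cases h : ∃ a, a ∉ ({p, q} : Finset GolayPt) ∧ (orbF K a).card = 11
  · obtain ⟨a, ha, h11⟩ := h
    exact no_7920_intrans p q hpq K hL hc a ha h11
  · push Not at h
    apply no_7920_trans hpq hL hc
    intro a ha
    rcases orb_11_or_22 p q hpq K hL hc a ha with h1 | h1
    · exact absurd h1 (h a ha)
    · exact h1

end Cfsg.Agent.Lib.Helper9.Idx
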