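import Cfsg.Agent.Lib.Helper9.IdxA1
import Cfsg.Agent.Lib.Helper9.M24P1

set_option autoImplicit false

/-! Tools for subgroups of index 253 in `M23`: elements with many fixed points, restriction to an
invariant set, the stabilizer of an octad and one of its points. -/

namespace Cfsg.Agent.Lib.Helper9.Idx

open Cfsg Finset MulAction Cfsg.Agent.Lib.Helper9.GolayQR1 Cfsg.Agent.Lib.Helper9.M24T3
  Cfsg.Agent.Lib.Helper9.OutM Cfsg.Agent.Lib.Helper9.M24T9
open scoped Pointwise

section general

variable {α : Type*} [Fintype α] [DecidableEq α]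

theorem fixF_subset_pow (g : Equiv.Perm α) (n : ℕ) : fixF g ⊆ fixF (g ^ n) := by
  intro b hb
  rw [mem_fixF] at hb ⊢
  induction n with
  | zero => rfl
  | succ n ih => rw [pow_succ, Equiv.Perm.mul_apply, hb, ih]

/-- a nontrivial permutation has a power of prime order -/
theorem exists_prime_pow (g : Equiv.Perm α) (hg : g ≠ 1) :
    ∃ r : ℕ, r.Prime ∧ ∃ n : ℕ, g ^ n ≠ 1 ∧ (g ^ n) ^ r = 1 := by
  have h1 : orderOf g ≠ 1 := fun h => hg (orderOf_eq_one_iff.mp h)
  have h0 : orderOf g ≠ 0 := by
    have := orderOf_pos g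
    omega
  have hr := Nat.minFac_prime h1
  have hd := Nat.minFac_dvd (orderOf g)
  have ho := orderOf_pow_orderOf_div h0 hd
  refine ⟨_, hr, orderOf g / (orderOf g).minFac, ?_, ?_⟩
  · intro h
    rw [h, orderOf_one] at ho
    exact hr.one_lt.ne ho
  · have := pow_orderOf_eq_one (g ^ (orderOf g / (orderOf g).minFac))
    rwa [ho] at this

/-- restriction of a subgroup to an invariant set -/
noncomputable def resK (K : Subgroup (Equiv.Perm α)) (B : Finset α)
    (hB : ∀ g ∈ K, ∀ b ∈ B, g b ∈ B) : ↥K →* Equiv.Perm ↥B where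
  toFun g := (g : Equiv.Perm α).subtypePerm (p := fun x => x ∈ B) (fun x => by
    constructor
    · intro h
      have := hB _ (K.inv_mem g.2) _ h
      rwa [Cfsg.Agent.Lib.Helper9.Chain1.inv_apply_self'] at this
    · exact hB g g.2 x)
  map_one' := by
    ext x
    rfl
  map_mul' := by
    intro a b
    ext x
    rfl

theorem resK_apply (K : Subgroup (Equiv.Perm α)) (B : Finset α)
    (hB : ∀ g ∈ K, ∀ b ∈ B, g b ∈ B) (g : ↥K) (x : ↥B) :
    ((resK K B hB g) x : α) = (g : Equiv.Perm α) x := rfl

theorem mem_ker_resK (K : Subgroup (Equiv.Perm α)) (B : Finset α)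
    (hB : ∀ g ∈ K, ∀ b ∈ B, g b ∈ B) (g : ↥K) :
    g ∈ (resK K B hB).ker ↔ ∀ b ∈ B, (g : Equiv.Perm α) b = b := by
  rw [MonoidHom.mem_ker]
  constructor
  · intro h b hb
    have := congrArg (fun e : Equiv.Perm ↥B => ((e ⟨b, hb⟩ : ↥B) : α)) h
    exact this
  · intro h
    ext x
    exact h x.1 x.2

/-- the order of a subgroup is at most the order of the symmetric group on an invariant set times
the order of the kernel of the action -/
theorem card_le_factorial_mul (K : Subgroup (Equiv.Perm α)) [Finite ↥K] (B : Finset α)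
    (hB : ∀ g ∈ K, ∀ b ∈ B, g b ∈ B) :
    Nat.card K ≤ B.card.factorial * Nat.card (resK K B hB).ker := by
  have h1 := Subgroup.card_mul_index (resK K B hB).ker
  rw [Subgroup.index_ker] at h1
  have h2 : Nat.card (resK K B hB).range ≤ B.card.factorial := by
    have h := Subgroup.card_le_card_group (resK K B hB).range
    have e : Nat.card (Equiv.Perm ↥B) = B.card.factorial := by
      rw [Nat.card_eq_fintype_card, Fintype.card_perm, Fintype.card_coe]
    rwa [e] at h
  rw [← h1, mul_comm]
  exact Nat.mul_le_mul_right _ h2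

end general

/-- at least eight points fixed by a nontrivial element of `M24` form an octad -/
theorem octad_of_fix8 (g : Equiv.Perm GolayPt) (hg : g ∈ M24) (hg1 : g ≠ 1) (F : Finset GolayPt)
    (hF : F ⊆ fixF g) (h8 : 8 ≤ F.card) : F ∈ octads := by
  obtain ⟨r, hr, n, hn1, hnr⟩ := exists_prime_pow g hg1
  have hF' : F ⊆ fixF (g ^ n) := hF.trans (fixF_subset_pow g n)
  have hc := card_le_card hF'
  have hmem : g ^ n ∈ M24 := M24.pow_mem hg n
  have hr2 : r = 2 := by
    by_contra h2
    by_cases h3 : r = 3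
    · subst h3
      rcases card_fixF_three _ hmem hn1 hnr with h | h <;> omega
    · have h5 : 5 ≤ r := by
        have := hr.two_le
        by_contra hlt
        have : r = 4 := by omega
        subst this
        norm_num at hr
      have := card_fixF_le_five _ hmem hn1 r hr h5 hnr
      omega
  subst hr2
  rcases fixF_involution _ hmem hnr hn1 with h | h
  · rw [h, card_empty] at hc
    omega
  · have : F = fixF (g ^ n) := eq_of_subset_of_card_le hF' (by rw [h.2]; exact h8)
    rw [this]
    exact h

/-- an element of `M24` fixing nine points is trivial -/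
theorem eq_one_of_fix9 (g : Equiv.Perm GolayPt) (hg : g ∈ M24) (F : Finset GolayPt)
    (hF : F ⊆ fixF g) (h9 : 9 ≤ F.card) : g = 1 := by
  by_contra h1
  obtain ⟨G, hG, hG9⟩ := exists_subset_card_eq h9
  have := octad_of_fix8 g hg h1 G (hG.trans hF) (by omega)
  rw [this.2] at hG9
  omega

/-- octads sharing five points are equal -/
theorem octad_eq_of_inter (o o' : Finset GolayPt) (ho : o ∈ octads) (ho' : o' ∈ octads)
    (h5 : 5 ≤ (o ∩ o').card) : o = o' := by
  obtain ⟨s, hs, hs5⟩ := exists_subset_card_eq h5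
  obtain ⟨b, -, huniq⟩ := Cfsg.Agent.Lib.Helper9.GolayQR5.octads_isSteiner.2 s hs5
  rw [huniq o ⟨ho, hs.trans inter_subset_left⟩, huniq o' ⟨ho', hs.trans inter_subset_right⟩]

/-- the stabilizer of an octad is transitive on it -/
theorem orbF_stabF_octad (o : Finset GolayPt) (ho : o ∈ octads) (x : GolayPt) (hx : x ∈ o) :
    orbF (stabF o) x = o := by
  apply Subset.antisymm
  · apply orbF_subset _ x o hx
    intro g hg b hb
    exact ((Cfsg.Agent.Lib.Helper9.M24P1.stab_iff o g).mp ((mem_stabF o g).mp hg).2 b).mpr hb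
  · intro x' hx'
    by_cases hxx : x' = x
    · rw [hxx]
      exact self_mem_orbF _ x
    · -- a third point of the octad
      have h3 : 0 < ((o.erase x).erase x').card := by
        rw [card_erase_of_mem (mem_erase.mpr ⟨hxx, hx'⟩), card_erase_of_mem hx, ho.2]
        norm_num
      obtain ⟨z, hz⟩ := card_pos.mp h3
      obtain ⟨hzx', hz'⟩ := mem_erase.mp hz
      obtain ⟨hzx, hzo⟩ := mem_erase.mp hz'
      have hcyc : Equiv.swap (⟨x, hx⟩ : ↥o) ⟨z, hzo⟩ * Equiv.swap (⟨x, hx⟩ : ↥o) ⟨x', hx'⟩ ∈
          alternatingGroup ↥o := by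
        apply Equiv.Perm.IsThreeCycle.mem_alternatingGroup
        apply Equiv.Perm.isThreeCycle_swap_mul_swap_same
        · intro h
          exact hzx (congrArg Subtype.val h).symm
        · intro h
          exact hxx (congrArg Subtype.val h).symm
        · intro h
          exact hzx' (congrArg Subtype.val h)
      rw [← Cfsg.Agent.Lib.Helper9.M24P1.range_res o ho] at hcyc
      obtain ⟨g, hg⟩ := hcyc
      rw [mem_orbF]
      refine ⟨g.1, g.2, ?_⟩
      have := congrArg (fun e : Equiv.Perm ↥o => ((e ⟨x, hx⟩ : ↥o) : GolayPt)) hg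
      simp only [Cfsg.Agent.Lib.Helper9.M24P1.resHom_apply, Equiv.Perm.mul_apply,
        Equiv.swap_apply_left] at this
      rw [this, Equiv.swap_apply_of_ne_of_ne]
      · intro h
        exact hxx (congrArg Subtype.val h)
      · intro h
        exact hzx' (congrArg Subtype.val h).symm

theorem card_stabF_octad_point (o : Finset GolayPt) (ho : o ∈ octads) (x : GolayPt) (hx : x ∈ o) :
    Nat.card ↥(stabF o ⊓ stabilizer (Equiv.Perm GolayPt) x) = 40320 := by
  have h1 := card_orbF (stabF o) x
  rw [orbF_stabF_octad o ho x hx, ho.2, Cfsg.Agent.Lib.Helper9.M24P1.card_stabF_octad o ho] at h1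
  omega

end Cfsg.Agent.Lib.Helper9.Idx
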