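import Cfsg.Agent.Lib.Helper9.IdxB1
import Cfsg.Agent.Lib.Helper9.IdxA3

set_option autoImplicit false

/-! Subgroups of order 40320 of `M23`: no orbit of length eight, no fixed point. -/

namespace Cfsg.Agent.Lib.Helper9.Idx

open Cfsg Finset MulAction Cfsg.Agent.Lib.Helper9.GolayQR1 Cfsg.Agent.Lib.Helper9.M24T3
  Cfsg.Agent.Lib.Helper9.OutM Cfsg.Agent.Lib.Helper9.M24T9
open scoped Pointwise

/-- an element inducing a transposition on an invariant set avoiding the fixed point `x` -/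
theorem swap_elt (x : GolayPt) (K : Subgroup (Equiv.Perm GolayPt)) (hL : Lvl K {x})
    (B : Finset GolayPt) (hinv : ∀ g ∈ K, ∀ b ∈ B, g b ∈ B)
    (hinj : Function.Injective (resK K B hinv)) (c1 c2 : GolayPt) (h1 : c1 ∈ B) (h2 : c2 ∈ B)
    (hne : c1 ≠ c2) (t : ↥K) (ht : resK K B hinv t = Equiv.swap ⟨c1, h1⟩ ⟨c2, h2⟩) :
    fixF (t : Equiv.Perm GolayPt) ∈ octads ∧
      (∀ b ∈ B, b ≠ c1 → b ≠ c2 → b ∈ fixF (t : Equiv.Perm GolayPt)) ∧
      x ∈ fixF (t : Equiv.Perm GolayPt) ∧ c1 ∉ fixF (t : Equiv.Perm GolayPt) := by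
  have happ : ∀ b (hb : b ∈ B), (t : Equiv.Perm GolayPt) b =
      ((Equiv.swap (⟨c1, h1⟩ : ↥B) ⟨c2, h2⟩ ⟨b, hb⟩ : ↥B) : GolayPt) := by
    intro b hb
    rw [← ht]
    rfl
  have hc1 : (t : Equiv.Perm GolayPt) c1 = c2 := by
    rw [happ c1 h1, Equiv.swap_apply_left]
  have hx : x ∈ fixF (t : Equiv.Perm GolayPt) :=
    (mem_fixF _ _).mpr (hL.fix t t.2 x (mem_singleton_self x))
  have hc1' : c1 ∉ fixF (t : Equiv.Perm GolayPt) := by
    rw [mem_fixF, hc1]
    exact Ne.symm hne
  have hfixB : ∀ b ∈ B, b ≠ c1 → b ≠ c2 → b ∈ fixF (t : Equiv.Perm GolayPt) := by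
    intro b hb hb1 hb2
    rw [mem_fixF, happ b hb, Equiv.swap_apply_of_ne_of_ne]
    · intro h
      exact hb1 (congrArg Subtype.val h)
    · intro h
      exact hb2 (congrArg Subtype.val h)
  have ht1 : (t : Equiv.Perm GolayPt) ≠ 1 := by
    intro h
    apply hc1'
    rw [h, mem_fixF]
    rfl
  have ht2 : (t : Equiv.Perm GolayPt) ^ 2 = 1 := by
    have h : resK K B hinv (t * t) = resK K B hinv 1 := by
      rw [map_mul, ht, Equiv.swap_mul_self, map_one]
    have := congrArg Subtype.val (hinj h)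
    rw [pow_two]
    exact this
  refine ⟨?_, hfixB, hx, hc1'⟩
  rcases fixF_involution _ (hL.le t.2) ht2 ht1 with h | h
  · rw [h] at hx
    exact absurd hx (notMem_empty _)
  · exact h

/-- a subgroup of order 40320 of `M23` has no orbit of length eight -/
theorem no_orbit_eight (x : GolayPt) (K : Subgroup (Equiv.Perm GolayPt)) (hL : Lvl K {x})
    (hc : Nat.card K = 40320) (a : GolayPt) (ha : a ∉ ({x} : Finset GolayPt))
    (h8 : (orbF K a).card = 8) : False := by
  haveI : Finite ↥K := Nat.finite_of_card_ne_zero (by rw [hc]; norm_num)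
  have hinv : ∀ g ∈ K, ∀ b ∈ orbF K a, g b ∈ orbF K a := fun g hg => orbF_invariant K a g hg
  have hxB : x ∉ orbF K a :=
    fun h => disjoint_left.mp (hL.orb_disjoint a ha) h (mem_singleton_self x)
  have hinj : Function.Injective (resK K (orbF K a) hinv) := by
    rw [injective_iff_map_eq_one]
    intro g hg
    have hk := (mem_ker_resK K (orbF K a) hinv g).mp (MonoidHom.mem_ker.mpr hg)
    apply Subtype.ext
    apply eq_one_of_fix9 g.1 (hL.le g.2) (insert x (orbF K a))
    · intro b hb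
      rw [mem_insert] at hb
      rcases hb with rfl | hb
      · exact (mem_fixF _ _).mpr (hL.fix g g.2 _ (mem_singleton_self _))
      · exact (mem_fixF _ _).mpr (hk b hb)
    · rw [card_insert_of_notMem hxB, h8]
  have hbij : Function.Bijective (resK K (orbF K a) hinv) := by
    apply hinj.bijective_of_nat_card_le
    rw [hc, Nat.card_eq_fintype_card, Fintype.card_perm, Fintype.card_coe, h8]
    decide
  obtain ⟨c1, hc1, c2, hc2, c3, hc3, h12, h13, h23⟩ :=
    two_lt_card.mp (show 2 < (orbF K a).card by rw [h8]; norm_num)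
  obtain ⟨t, ht⟩ := hbij.2 (Equiv.swap ⟨c1, hc1⟩ ⟨c2, hc2⟩)
  obtain ⟨t', ht'⟩ := hbij.2 (Equiv.swap ⟨c3, hc3⟩ ⟨c2, hc2⟩)
  obtain ⟨ho, hB, hx, hn⟩ := swap_elt x K hL _ hinv hinj c1 c2 hc1 hc2 h12 t ht
  obtain ⟨ho', hB', hx', -⟩ := swap_elt x K hL _ hinv hinj c3 c2 hc3 hc2 (Ne.symm h23) t' ht'
  have h5 : 5 ≤ (fixF (t : Equiv.Perm GolayPt) ∩ fixF (t' : Equiv.Perm GolayPt)).card := by
    have hsub : (((orbF K a).erase c1).erase c2).erase c3 ⊆
        fixF (t : Equiv.Perm GolayPt) ∩ fixF (t' : Equiv.Perm GolayPt) := by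
      intro b hb
      obtain ⟨hb3, hb⟩ := mem_erase.mp hb
      obtain ⟨hb2, hb⟩ := mem_erase.mp hb
      obtain ⟨hb1, hb⟩ := mem_erase.mp hb
      exact mem_inter.mpr ⟨hB b hb hb1 hb2, hB' b hb hb3 hb2⟩
    have hcard : ((((orbF K a).erase c1).erase c2).erase c3).card = 5 := by
      rw [card_erase_of_mem, card_erase_of_mem, card_erase_of_mem hc1, h8]
      · exact mem_erase.mpr ⟨Ne.symm h12, hc2⟩
      · exact mem_erase.mpr ⟨Ne.symm h23, mem_erase.mpr ⟨Ne.symm h13, hc3⟩⟩
    rw [← hcard]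
    exact card_le_card hsub
  have heq := octad_eq_of_inter _ _ ho ho' h5
  apply hn
  rw [heq]
  exact hB' c1 hc1 h13 h12

/-- a subgroup of order 40320 of `M23` fixes no further point -/
theorem no_fixed (x : GolayPt) (K : Subgroup (Equiv.Perm GolayPt)) (hL : Lvl K {x})
    (hc : Nat.card K = 40320) (a : GolayPt) (ha : a ∉ ({x} : Finset GolayPt))
    (hfix : ∀ g ∈ K, g a = a) : False := by
  haveI : Fact (Nat.Prime 7) := ⟨by norm_num⟩
  have hax : a ≠ x := fun e => ha (e ▸ mem_singleton_self _)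
  have hL2 : Lvl K (insert a {x}) := by
    constructor
    · exact hL.le
    · intro g hg b hb
      rw [mem_insert] at hb
      rcases hb with rfl | hb
      · exact hfix g hg
      · exact hL.fix g hg b hb
  obtain ⟨y, hy, hy1, hy7⟩ := exists_prime_order K 7 (by rw [hc]; norm_num) (by rw [hc]; norm_num)
  have hcy := card_fixF_prime y (hL.le hy) hy1 7 (by norm_num) hy7
  obtain ⟨w, hw, hfixy⟩ := hL2.fixF_insert y hy (by
    rw [hcy, card_insert_of_notMem ha, card_singleton])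
  have h1 := hL2.orb_mod_one w hw y hy 7 hy7 hfixy
  have h2 := hL2.orb_card_le w hw
  rw [card_insert_of_notMem ha, card_singleton] at h2
  rw [mem_insert, mem_singleton, not_or] at hw
  have hLw := hL2.next w
  have hd := lvl_card_dvd hLw [x, a, w] (by
    intro b hb
    simp only [List.mem_cons, List.not_mem_nil, or_false] at hb
    rcases hb with rfl | rfl | rfl <;> simp) 20160
    (Cfsg.Agent.Lib.Helper9.M24T7.card_fix_three x a w (Ne.symm hax) (Ne.symm hw.2) (Ne.symm hw.1))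
  have ho := card_orbF K w
  rw [hc] at ho
  have h2dvd := nt_dvd 40320 20160 20160 2 _ _ ho.symm hd (by norm_num) (by norm_num) (by norm_num)
  have hm : (orbF K w).card ∣ 40320 := ⟨_, ho⟩
  have h8 : (orbF K w).card = 8 := by
    obtain ⟨j, hj⟩ := h2dvd
    have : (orbF K w).card = 8 ∨ (orbF K w).card = 22 := by omega
    rcases this with h | h
    · exact h
    · rw [h] at hm
      norm_num at hm
  exact no_orbit_eight x K hL hc w (by rw [mem_singleton]; exact hw.2) h8

end Cfsg.Agent.Lib.Helper9.Idx
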