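import Cfsg.Agent.Lib.Helper9.IdxB2

set_option autoImplicit false

/-! Subgroups of order 40320 of `M23` are stabilizers of a pair of points or of an octad. -/

namespace Cfsg.Agent.Lib.Helper9.Idx

open Cfsg Finset MulAction Cfsg.Agent.Lib.Helper9.GolayQR1 Cfsg.Agent.Lib.Helper9.M24T3
  Cfsg.Agent.Lib.Helper9.OutM Cfsg.Agent.Lib.Helper9.M24T9
open scoped Pointwise

/-- a permutation mapping a finite set into itself stabilizes it -/
theorem smul_eq_of_maps (g : Equiv.Perm GolayPt) (o : Finset GolayPt) (h : ∀ b ∈ o, g b ∈ o) :
    g • o = o := by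
  apply eq_of_subset_of_card_le
  · intro b hb
    obtain ⟨c, hc, rfl⟩ := mem_smul_finset.mp hb
    exact h c hc
  · rw [card_smul_finset]

/-- the stabilizer of a pair of points in `M23` has order at most 40320 -/
theorem card_stab_pair_le (x u v : GolayPt) (hux : u ≠ x) (hvx : v ≠ x) (huv : u ≠ v) :
    Nat.card ↥(stabF {u, v} ⊓ stabilizer (Equiv.Perm GolayPt) x) ≤ 40320 := by
  have hinv : ∀ g ∈ stabF {u, v} ⊓ stabilizer (Equiv.Perm GolayPt) x,
      ∀ b ∈ ({u, v} : Finset GolayPt), g b ∈ ({u, v} : Finset GolayPt) := by
    intro g hg b hb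
    exact ((Cfsg.Agent.Lib.Helper9.M24P1.stab_iff _ g).mp ((mem_stabF _ g).mp hg.1).2 b).mpr hb
  have h1 := card_le_mul_stab _ {u, v} u (by simp) hinv
  rw [card_pair huv] at h1
  have hle : stabF {u, v} ⊓ stabilizer (Equiv.Perm GolayPt) x ⊓ stabilizer (Equiv.Perm GolayPt) u ≤
      fixL M24 [x, u, v] := by
    intro g hg
    have hgx : g x = x := mem_stabilizer_iff.mp hg.1.2
    have hgu : g u = u := mem_stabilizer_iff.mp hg.2
    refine ⟨((mem_stabF _ g).mp hg.1.1).1, ?_⟩
    intro b hb
    simp only [List.mem_cons, List.not_mem_nil, or_false] at hb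
    rcases hb with rfl | rfl | rfl
    · exact hgx
    · exact hgu
    · have := hinv g hg.1 b (by simp)
      rw [mem_insert, mem_singleton] at this
      rcases this with h | h
      · rw [← hgu] at h
        exact absurd (g.injective h) (Ne.symm huv)
      · exact h
  have h2 := Subgroup.card_le_of_le hle
  rw [Cfsg.Agent.Lib.Helper9.M24T7.card_fix_three x u v (Ne.symm hux) (Ne.symm hvx) huv] at h2
  omega

theorem index253 (x : GolayPt) (K : Subgroup (Equiv.Perm GolayPt)) (hL : Lvl K {x})
    (hc : Nat.card K = 40320) :
    (∃ s : Finset GolayPt, s.card = 2 ∧ x ∉ s ∧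
      K = stabF s ⊓ stabilizer (Equiv.Perm GolayPt) x) ∨
    (∃ o ∈ octads, x ∈ o ∧ K = stabF o ⊓ stabilizer (Equiv.Perm GolayPt) x) := by
  haveI : Fact (Nat.Prime 7) := ⟨by norm_num⟩
  haveI : Fact (Nat.Prime 5) := ⟨by norm_num⟩
  haveI : Finite ↥K := Nat.finite_of_card_ne_zero (by rw [hc]; norm_num)
  obtain ⟨y, hy, hy1, hy7⟩ := exists_prime_order K 7 (by rw [hc]; norm_num) (by rw [hc]; norm_num)
  have hcy := card_fixF_prime y (hL.le hy) hy1 7 (by norm_num) hy7
  have hxy : {x} ⊆ fixF y := hL.subset_fixF y hy
  have h2 : (fixF y \ {x}).card = 2 := by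
    rw [card_sdiff_of_subset hxy, hcy, card_singleton]
  obtain ⟨u, v, huv, huvE⟩ := card_eq_two.mp h2
  have hu : u ∈ fixF y \ {x} := by rw [huvE]; simp
  have hv : v ∈ fixF y \ {x} := by rw [huvE]; simp
  rw [mem_sdiff] at hu hv
  have hux : u ≠ x := fun e => hu.2 (e ▸ mem_singleton_self _)
  have hvx : v ≠ x := fun e => hv.2 (e ▸ mem_singleton_self _)
  have hfy : ∀ b, b ∈ fixF y → b = x ∨ b = u ∨ b = v := by
    intro b hb
    by_cases hbx : b = x
    · exact Or.inl hbx
    · have : b ∈ fixF y \ {x} := mem_sdiff.mpr ⟨hb, by rw [mem_singleton]; exact hbx⟩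
      rw [huvE, mem_insert, mem_singleton] at this
      exact Or.inr this
  obtain ⟨f, hf, hf1, hf5⟩ := exists_prime_order K 5 (by rw [hc]; norm_num) (by rw [hc]; norm_num)
  have hcf := card_fixF_prime f (hL.le hf) hf1 5 (by norm_num) hf5
  have hxf : {x} ⊆ fixF f := hL.subset_fixF f hf
  -- orbits of the points fixed by `y`
  have key : ∀ w w', w ∈ fixF y → w ∉ ({x} : Finset GolayPt) → w' ∈ fixF y →
      w' ∉ ({x} : Finset GolayPt) → w ≠ w' → (∀ b, b ∈ fixF y → b = x ∨ b = w ∨ b = w') →
      w' ∉ orbF K w → (orbF K w).card = 15 := by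
    intro w w' hw hwx hw' hwx' hww hall hnot
    have hint : orbF K w ∩ fixF y = {w} := by
      ext b
      rw [mem_inter, mem_singleton]
      constructor
      · rintro ⟨hb1, hb2⟩
        rcases hall b hb2 with rfl | rfl | rfl
        · exact absurd (mem_singleton_self _) (disjoint_left.mp (hL.orb_disjoint w hwx) hb1)
        · rfl
        · exact absurd hb1 hnot
      · rintro rfl
        exact ⟨self_mem_orbF K b, hw⟩
    have hmod := card_modEq_fix y 7 hy7 (orbF K w) (orbF_invariant K w y hy)
    rw [hint, card_singleton] at hmod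
    unfold Nat.ModEq at hmod
    have hle := hL.orb_card_le w hwx
    rw [card_singleton] at hle
    have hou := card_orbF K w
    rw [hc] at hou
    have hm : (orbF K w).card ∣ 40320 := ⟨_, hou⟩
    have hcases : (orbF K w).card = 1 ∨ (orbF K w).card = 8 ∨ (orbF K w).card = 15 ∨
        (orbF K w).card = 22 := by omega
    rcases hcases with h | h | h | h
    · exact absurd (fixed_of_orb_one K w h) (fun hfix => no_fixed x K hL hc w hwx hfix)
    · exact (no_orbit_eight x K hL hc w hwx h).elim
    · exact h
    · rw [h] at hm
      norm_num at hm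
  by_cases hvO : v ∈ orbF K u
  · have hint : orbF K u ∩ fixF y = {u, v} := by
      ext b
      rw [mem_inter, mem_insert, mem_singleton]
      constructor
      · rintro ⟨hb1, hb2⟩
        rcases hfy b hb2 with rfl | h
        · exact absurd (mem_singleton_self _) (disjoint_left.mp (hL.orb_disjoint u hu.2) hb1)
        · exact h
      · rintro (rfl | rfl)
        · exact ⟨self_mem_orbF K b, hu.1⟩
        · exact ⟨hvO, hv.1⟩
    have hmod := card_modEq_fix y 7 hy7 (orbF K u) (orbF_invariant K u y hy)
    rw [hint, card_pair huv] at hmod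
    unfold Nat.ModEq at hmod
    have hle := hL.orb_card_le u hu.2
    rw [card_singleton] at hle
    have hou := card_orbF K u
    rw [hc] at hou
    have hm : (orbF K u).card ∣ 40320 := ⟨_, hou⟩
    have hcases : (orbF K u).card = 2 ∨ (orbF K u).card = 9 ∨ (orbF K u).card = 16 ∨
        (orbF K u).card = 23 := by omega
    rcases hcases with h | h | h | h
    · -- a pair of points
      left
      have hO : orbF K u = {u, v} := by
        symm
        apply eq_of_subset_of_card_le
        · intro b hb
          rw [mem_insert, mem_singleton] at hb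
          rcases hb with rfl | rfl
          · exact self_mem_orbF K b
          · exact hvO
        · rw [h, card_pair huv]
      refine ⟨{u, v}, card_pair huv, ?_, ?_⟩
      · rw [mem_insert, mem_singleton, not_or]
        exact ⟨Ne.symm hux, Ne.symm hvx⟩
      · have hKle : K ≤ stabF {u, v} ⊓ stabilizer (Equiv.Perm GolayPt) x := by
          intro g hg
          refine ⟨(mem_stabF _ g).mpr ⟨hL.le hg, ?_⟩,
            mem_stabilizer_iff.mpr (hL.fix g hg x (mem_singleton_self _))⟩
          rw [← hO]
          exact smul_eq_of_maps g _ (orbF_invariant K u g hg)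
        have hT := card_stab_pair_le x u v hux hvx huv
        haveI : Finite ↥(stabF {u, v} ⊓ stabilizer (Equiv.Perm GolayPt) x) :=
          Finite.of_injective (fun g => (g : Equiv.Perm GolayPt)) Subtype.val_injective
        exact Subgroup.eq_of_le_of_card_ge hKle (by rw [hc]; exact hT)
    · -- nine points: impossible
      exfalso
      have hmod5 := card_modEq_fix f 5 hf5 (orbF K u) (orbF_invariant K u f hf)
      rw [h] at hmod5
      unfold Nat.ModEq at hmod5
      have hsub : orbF K u ∩ fixF f ⊆ fixF f \ {x} := by
        intro b hb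
        rw [mem_inter] at hb
        rw [mem_sdiff]
        exact ⟨hb.2, fun hbx => disjoint_left.mp (hL.orb_disjoint u hu.2) hb.1 hbx⟩
      have := card_le_card hsub
      rw [card_sdiff_of_subset hxf, hcf, card_singleton] at this
      omega
    · -- an octad
      right
      have hxO : x ∉ orbF K u :=
        fun hx => disjoint_left.mp (hL.orb_disjoint u hu.2) hx (mem_singleton_self _)
      have hScard : (univ \ insert x (orbF K u)).card = 7 := by
        rw [card_sdiff_of_subset (subset_univ _), card_univ,
          Cfsg.Agent.Lib.Helper9.GolayQR5.card_golayPt, card_insert_of_notMem hxO, h]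
      have hS : ∀ g ∈ K, ∀ b ∈ univ \ insert x (orbF K u), g b ∈ univ \ insert x (orbF K u) := by
        intro g hg b hb
        rw [mem_sdiff] at hb ⊢
        refine ⟨mem_univ _, fun hmem => hb.2 ?_⟩
        rw [mem_insert] at hmem ⊢
        rcases hmem with e | e
        · left
          have := hL.fix g hg x (mem_singleton_self _)
          rw [← this] at e
          exact g.injective e
        · right
          have := orbF_invariant K u g⁻¹ (K.inv_mem hg) _ e
          rwa [Cfsg.Agent.Lib.Helper9.Chain1.inv_apply_self'] at this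
      have hN := card_le_factorial_mul K _ hS
      rw [hc, hScard] at hN
      have hfac : (7 : ℕ).factorial = 5040 := by decide
      rw [hfac] at hN
      obtain ⟨g, hgN, hg1⟩ := exists_ne_one_of_card (resK K _ hS).ker (by omega)
      have hgfix := (mem_ker_resK K _ hS g).mp hgN
      have hg1' : (g : Equiv.Perm GolayPt) ≠ 1 := fun e => hg1 (Subtype.ext e)
      have hxS : x ∉ univ \ insert x (orbF K u) := by
        rw [mem_sdiff, not_and, not_not]
        exact fun _ => mem_insert_self _ _
      have ho : insert x (univ \ insert x (orbF K u)) ∈ octads := by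
        apply octad_of_fix8 g.1 (hL.le g.2) hg1'
        · intro b hb
          rw [mem_insert] at hb
          rcases hb with rfl | hb
          · exact (mem_fixF _ _).mpr (hL.fix g g.2 _ (mem_singleton_self _))
          · exact (mem_fixF _ _).mpr (hgfix b hb)
        · rw [card_insert_of_notMem hxS, hScard]
      refine ⟨_, ho, mem_insert_self _ _, ?_⟩
      have hKle : K ≤ stabF (insert x (univ \ insert x (orbF K u))) ⊓
          stabilizer (Equiv.Perm GolayPt) x := by
        intro k hk
        have hkx := hL.fix k hk x (mem_singleton_self _)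
        refine ⟨(mem_stabF _ k).mpr ⟨hL.le hk, ?_⟩, mem_stabilizer_iff.mpr hkx⟩
        apply smul_eq_of_maps
        intro b hb
        rw [mem_insert] at hb ⊢
        rcases hb with rfl | hb
        · exact Or.inl hkx
        · exact Or.inr (hS k hk b hb)
      have hT := card_stabF_octad_point _ ho x (mem_insert_self _ _)
      haveI : Finite ↥(stabF (insert x (univ \ insert x (orbF K u))) ⊓
          stabilizer (Equiv.Perm GolayPt) x) :=
        Finite.of_injective (fun g => (g : Equiv.Perm GolayPt)) Subtype.val_injective
      exact Subgroup.eq_of_le_of_card_ge hKle (by rw [hc, hT])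
    · exfalso
      rw [h] at hm
      norm_num at hm
  · -- two orbits of length 15
    exfalso
    have h15u := key u v hu.1 hu.2 hv.1 hv.2 huv hfy hvO
    have huO : u ∉ orbF K v := by
      intro h
      apply hvO
      rw [orbF_eq_of_mem K v u h]
      exact self_mem_orbF K v
    have h15v := key v u hv.1 hv.2 hu.1 hu.2 (Ne.symm huv) (by
      intro b hb
      rcases hfy b hb with h | h | h
      · exact Or.inl h
      · exact Or.inr (Or.inr h)
      · exact Or.inr (Or.inl h)) huO
    have hdisj : Disjoint (orbF K u) (orbF K v) := by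
      rw [disjoint_left]
      intro b hb hb'
      apply hvO
      rw [← orbF_eq_of_mem K u b hb, orbF_eq_of_mem K v b hb']
      exact self_mem_orbF K v
    have := card_le_univ (orbF K u ∪ orbF K v)
    rw [card_union_of_disjoint hdisj, h15u, h15v,
      Cfsg.Agent.Lib.Helper9.GolayQR5.card_golayPt] at this
    omega

end Cfsg.Agent.Lib.Helper9.Idx
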