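import Cfsg.Agent.Lib.Helper9.InnerSat
import Cfsg.Agent.Lib.Helper9.NormalSeries4

set_option autoImplicit false

namespace Cfsg.Agent.Lib.Helper9

open Cfsg Cfsg.FusionSystem

variable {Ω : Type*} [Group Ω] {S : Subgroup Ω}

theorem inner_isSubsystemOf (F : FusionSystem S) {Q : Subgroup Ω} (hQ : Q ≤ S) :
    (innerFusionSystem Q).IsSubsystemOf F := by
  rintro P φ ⟨hP, g, hg, hφ⟩
  have : φ = conjHom P g := by
    ext x
    exact hφ x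
  rw [this]
  exact F.conj_mem (hP.trans hQ) (hQ hg)

/-- S5290 -/
theorem normal_iff_inner_weaklyNormal [Finite S] (p : ℕ) [Fact p.Prime] (hS : IsPGroup p S)
    (F : FusionSystem S) (hF : F.IsSaturated p) (Q : Subgroup Ω) (hQ : Q ≤ S) :
    F.IsNormal Q ↔ (innerFusionSystem Q).IsWeaklyNormalIn F p := by
  constructor
  · intro hQn
    refine ⟨inner_saturated (isPGroup_of_le hS hQ), hF, inner_isSubsystemOf F hQ,
      stronglyClosed_of_normal F hQn, ?_, ?_⟩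
    · rintro P hPQ φ ⟨-, g, hg, hφ⟩ α hα
      refine ⟨conjHom _ ((α ⟨g, hg⟩ : Q) : Ω), ⟨?_, _, (α ⟨g, hg⟩).2, fun _ => rfl⟩, ?_⟩
      · rintro _ ⟨y, -, rfl⟩
        exact (α y).2
      · intro x hφx hαx
        rw [conjHom_apply]
        show ((α ⟨g, hg⟩ : Q) : Ω) * ((α ⟨x, hPQ x.2⟩ : Q) : Ω) * ((α ⟨g, hg⟩ : Q) : Ω)⁻¹ = _
        have h1 : (⟨φ x, hφx⟩ : Q) = ⟨g, hg⟩ * ⟨x, hPQ x.2⟩ * ⟨g, hg⟩⁻¹ := Subtype.ext (hφ x)
        rw [h1, map_mul, map_mul, map_inv]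
        rfl
    · intro P hPQ φ hφ
      obtain ⟨α, hα, hαφ⟩ := exists_aut_of_normal F hQn hPQ hφ
      refine ⟨α, hα, P.subtype, ⟨hPQ, 1, Q.one_mem, fun x => by simp⟩, fun x hx => ?_⟩
      exact (hαφ x).symm
  · rintro ⟨-, -, -, -, -, hfr⟩
    rw [normal_iff_maps_extend p hS F hF Q hQ]
    intro P hPQ φ hφ
    obtain ⟨α₀, hα₀, φ₀, ⟨-, g, hg, hφ₀⟩, hφα⟩ := hfr P hPQ φ hφ
    have hInn : (MulAut.conj (⟨g, hg⟩ : Q) : MulAut Q) ∈ F.autGroup Q :=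
      autInducedBy_le_autGroup F hQ (inn_le_autInducedBy hQ ⟨_, rfl⟩)
    refine ⟨α₀ * MulAut.conj (⟨g, hg⟩ : Q), Subgroup.mul_mem _ hα₀ hInn, fun x => ?_⟩
    have hx : φ₀ x ∈ Q := by
      rw [hφ₀]
      exact Q.mul_mem (Q.mul_mem hg (hPQ x.2)) (Q.inv_mem hg)
    rw [hφα x hx]
    show ((α₀ ((⟨g, hg⟩ : Q) * Subgroup.inclusion hPQ x * (⟨g, hg⟩ : Q)⁻¹) : Q) : Ω) = _
    congr 2
    apply Subtype.ext
    exact (hφ₀ x).symm

end Cfsg.Agent.Lib.Helper9
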