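import Mathlib
import Cfsg.Agent.Lib.Helper9.Gl23A

set_option maxHeartbeats 1600000
set_option linter.unusedVariables false
set_option linter.unusedSimpArgs false
set_option linter.unusedSectionVars false
set_option linter.style.longLine false

namespace Cfsg.Agent.Lib.Helper9.Ix13

open Cfsg.Agent.Lib.Helper9.Gl23

open Matrix

/-! ## matrix facts -/

def pw (M : M3) : Prop := M ^ 4 = Tm ∨ M ^ 3 = Tm ∨ M ^ 2 = Tm ∨ M = Tm

instance : DecidablePred pw := fun M => by unfold pw; infer_instance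

theorem dec_star8 : ∀ a b c d : ZMod 3, (!![a, b; c, d] : M3) ^ 3 = 1 → (!![a, b; c, d] : M3) ≠ 1 →
    ∀ a' b' c' d' : ZMod 3, (!![a', b'; c', d'] : M3) ^ 4 = 1 →
      (!![a', b'; c', d'] : M3) * !![a, b; c, d] = !![a, b; c, d] * (!![a', b'; c', d'] : M3) →
      (!![a', b'; c', d'] : M3) = 1 ∨ (!![a', b'; c', d'] : M3) = Tm := by decide

theorem dec_star (B A : M3) (h1 : B ^ 3 = 1) (h2 : B ≠ 1) (h3 : A ^ 4 = 1) (h4 : A * B = B * A) :
    A = 1 ∨ A = Tm := by
  rw [Matrix.eta_fin_two B] at h1 h2 h4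
  rw [Matrix.eta_fin_two A] at h3 h4 ⊢
  exact dec_star8 _ _ _ _ h1 h2 _ _ _ _ h3 h4

set_option maxRecDepth 8000 in
theorem dec_unit (M : M3) : pw M → M * M ^ 23 = 1 ∧ M ^ 23 * M = 1 :=
  forall_M3 (P := fun M => pw M → M * M ^ 23 = 1 ∧ M ^ 23 * M = 1) (by beta_reduce; decide) M

theorem dec_pw (M : M3) : M 0 0 * M 1 1 - M 0 1 * M 1 0 ≠ 0 →
    (M ^ 8 = 1 ∧ ∀ r : Fin 8, M ^ (r : ℕ) = Tm → pw M) ∨
    (M ^ 6 = 1 ∧ ∀ r : Fin 6, M ^ (r : ℕ) = Tm → pw M) :=
  forall_M3 (P := fun M => M 0 0 * M 1 1 - M 0 1 * M 1 0 ≠ 0 →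
    (M ^ 8 = 1 ∧ ∀ r : Fin 8, M ^ (r : ℕ) = Tm → pw M) ∨
    (M ^ 6 = 1 ∧ ∀ r : Fin 6, M ^ (r : ℕ) = Tm → pw M)) (by beta_reduce; decide) M

abbrev Q4 := ZMod 3 × ZMod 3 × ZMod 3 × ZMod 3

def toM (q : Q4) : M3 := !![q.1, q.2.1; q.2.2.1, q.2.2.2]

theorem card_pw_q : Fintype.card {q : Q4 // pw (toM q)} = 27 := by decide

theorem toM_entries (M : M3) : toM (M 0 0, M 0 1, M 1 0, M 1 1) = M := by
  unfold toM; exact (Matrix.eta_fin_two M).symm

/-- the `27` elements of `GL(2,3)` having `-1` as a power -/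
theorem card_roots_GL : Nat.card {A : GL3 // ∃ k : ℕ, A ^ k = Tu} = 27 := by
  have hpw : ∀ A : GL3, (∃ k : ℕ, A ^ k = Tu) → pw A.val := by
    rintro A ⟨k, hk⟩
    have hM : A.val ^ k = Tm := by rw [← Units.val_pow_eq_pow_val, hk]; rfl
    rcases dec_pw A.val (det_ne A) with ⟨h8, h⟩ | ⟨h6, h⟩
    · rw [pow_eq_pow_mod k h8] at hM
      exact h ⟨k % 8, Nat.mod_lt _ (by norm_num)⟩ hM
    · rw [pow_eq_pow_mod k h6] at hM
      exact h ⟨k % 6, Nat.mod_lt _ (by norm_num)⟩ hM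
  let f : {A : GL3 // ∃ k : ℕ, A ^ k = Tu} → {q : Q4 // pw (toM q)} := fun A =>
    ⟨(A.1.val 0 0, A.1.val 0 1, A.1.val 1 0, A.1.val 1 1), by
      rw [toM_entries]; exact hpw A.1 A.2⟩
  have hinj : Function.Injective f := by
    rintro ⟨A, hA⟩ ⟨B, hB⟩ h
    have h1 : toM (A.val 0 0, A.val 0 1, A.val 1 0, A.val 1 1)
        = toM (B.val 0 0, B.val 0 1, B.val 1 0, B.val 1 1) := congrArg (fun x => toM x.1) h
    rw [toM_entries, toM_entries] at h1
    exact Subtype.ext (Units.ext h1)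
  have hsurj : Function.Surjective f := by
    rintro ⟨q, hq⟩
    have hu := dec_unit (toM q) hq
    let A : GL3 := ⟨toM q, toM q ^ 23, hu.1, hu.2⟩
    have hA : ∃ k : ℕ, A ^ k = Tu := by
      rcases hq with h | h | h | h
      · exact ⟨4, Units.ext (by rw [Units.val_pow_eq_pow_val]; exact h)⟩
      · exact ⟨3, Units.ext (by rw [Units.val_pow_eq_pow_val]; exact h)⟩
      · exact ⟨2, Units.ext (by rw [Units.val_pow_eq_pow_val]; exact h)⟩
      · exact ⟨1, Units.ext (by rw [Units.val_pow_eq_pow_val, pow_one]; exact h)⟩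
    refine ⟨⟨A, hA⟩, Subtype.ext ?_⟩
    show (toM q 0 0, toM q 0 1, toM q 1 0, toM q 1 1) = q
    obtain ⟨a, b, c, d⟩ := q
    rfl
  rw [Nat.card_eq_of_bijective f ⟨hinj, hsurj⟩, Nat.card_eq_fintype_card, card_pw_q]

section loc

variable {G : Type*} [Group G] {t : G} (e : Subgroup.centralizer ({t} : Set G) ≃* GL3)

include e in
/-- local star fact: in `C(t) = GL(2,3)` the centralizer of an element of order `3` has a unique
involution -/
theorem star_loc (ht : orderOf t = 2) (d u : G) (hd3 : d ^ 3 = 1) (hd1 : d ≠ 1)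
    (hdt : d * t = t * d) (hut : u * t = t * u) (hud : u * d = d * u) (hu4 : u ^ 4 = 1) :
    u = 1 ∨ u = t := by
  obtain ⟨B, rfl⟩ := exists_of_comm e d hdt
  obtain ⟨A, rfl⟩ := exists_of_comm e u hut
  have hB3 : B ^ 3 = 1 := by apply phi_inj e; rw [map_pow, map_one]; exact hd3
  have hB1 : B ≠ 1 := by rintro rfl; exact hd1 (map_one _)
  have hA4 : A ^ 4 = 1 := by apply phi_inj e; rw [map_pow, map_one]; exact hu4
  have hAB : A * B = B * A := by apply phi_inj e; rw [map_mul, map_mul]; exact hud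
  have h1 : B.val ^ 3 = 1 := by rw [← Units.val_pow_eq_pow_val, hB3]; rfl
  have h2 : B.val ≠ 1 := fun h => hB1 (Units.ext h)
  have h3 : A.val ^ 4 = 1 := by rw [← Units.val_pow_eq_pow_val, hA4]; rfl
  have h4 : A.val * B.val = B.val * A.val := by rw [← Units.val_mul, hAB, Units.val_mul]
  rcases dec_star B.val A.val h1 h2 h3 h4 with h | h
  · left; rw [show A = 1 from Units.ext h, map_one]
  · right; rw [show A = Tu from Units.ext h, phi_Tu e ht]

include e in
theorem card_roots (ht : orderOf t = 2) : Nat.card {g : G // ∃ k : ℕ, g ^ k = t} = 27 := by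
  let f : {A : GL3 // ∃ k : ℕ, A ^ k = Tu} → {g : G // ∃ k : ℕ, g ^ k = t} := fun A =>
    ⟨phi e A.1, by
      obtain ⟨k, hk⟩ := A.2
      exact ⟨k, by rw [← map_pow, hk, phi_Tu e ht]⟩⟩
  have hinj : Function.Injective f := by
    rintro ⟨A, hA⟩ ⟨B, hB⟩ h
    have h1 : phi e A = phi e B := congrArg (fun x : {g : G // ∃ k : ℕ, g ^ k = t} => x.1) h
    exact Subtype.ext (phi_inj e h1)
  have hsurj : Function.Surjective f := by
    rintro ⟨g, k, hk⟩
    have hc : g * t = t * g := by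
      rw [← hk]; exact (pow_succ' g k).symm.trans (pow_succ g k)
    obtain ⟨A, hA⟩ := exists_of_comm e g hc
    refine ⟨⟨A, k, ?_⟩, Subtype.ext hA⟩
    apply phi_inj e
    rw [map_pow, hA, hk, phi_Tu e ht]
  rw [← Nat.card_eq_of_bijective f ⟨hinj, hsurj⟩, card_roots_GL]

end loc

/-! ## global consequences -/

theorem arith_aux : ∀ c ∈ Nat.divisors 432, ¬ 4 ∣ c → c ∣ 54 := by decide

theorem arith54 (c : ℕ) (h : c ∣ 5616) (h4 : ¬ 4 ∣ c) (h13 : ¬ 13 ∣ c) : c ∣ 54 := by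
  have hc : Nat.Coprime c 13 := ((Nat.Prime.coprime_iff_not_dvd (by norm_num)).2 h13).symm
  have h1 : c ∣ 432 := hc.dvd_of_dvd_mul_right (show c ∣ 432 * 13 from h)
  exact arith_aux c (Nat.mem_divisors.2 ⟨h1, by norm_num⟩) h4

section glob

variable {G : Type*} [Group G]

theorem conj_comm (c x s : G) (h : x * s = s * x) :
    (c * x * c⁻¹) * (c * s * c⁻¹) = (c * s * c⁻¹) * (c * x * c⁻¹) := by
  have h1 : c * x * c⁻¹ * (c * s * c⁻¹) = c * (x * s) * c⁻¹ := by group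
  have h2 : c * s * c⁻¹ * (c * x * c⁻¹) = c * (s * x) * c⁻¹ := by group
  rw [h1, h2, h]

/-- conjugation isomorphism between centralizers of conjugate elements -/
noncomputable def conjEquiv {s t : G} (c : G) (hc : c * s * c⁻¹ = t) :
    Subgroup.centralizer ({s} : Set G) ≃* Subgroup.centralizer ({t} : Set G) where
  toFun x := ⟨c * x.1 * c⁻¹, by
    rw [mem_cent_iff, ← hc]; exact conj_comm c x.1 s ((mem_cent_iff _).mp x.2)⟩
  invFun y := ⟨c⁻¹ * y.1 * c, by
    have h1 := conj_comm c⁻¹ y.1 t ((mem_cent_iff _).mp y.2)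
    rw [inv_inv] at h1
    have hs : c⁻¹ * t * c = s := by rw [← hc]; group
    rw [hs] at h1
    exact (mem_cent_iff _).mpr h1⟩
  left_inv x := Subtype.ext (by
    show c⁻¹ * (c * x.1 * c⁻¹) * c = x.1
    group)
  right_inv y := Subtype.ext (by
    show c * (c⁻¹ * y.1 * c) * c⁻¹ = y.1
    group)
  map_mul' x y := Subtype.ext (by
    show c * (x.1 * y.1) * c⁻¹ = (c * x.1 * c⁻¹) * (c * y.1 * c⁻¹)
    group)

theorem hloc_of {t : G} (e : Subgroup.centralizer ({t} : Set G) ≃* GL3)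
    (hconj : ∀ s : G, orderOf s = 2 → IsConj s t) (s : G) (hs : orderOf s = 2) :
    Nonempty (Subgroup.centralizer ({s} : Set G) ≃* GL3) := by
  obtain ⟨c, hc⟩ := isConj_iff.mp (hconj s hs)
  exact ⟨(conjEquiv c hc).trans e⟩

variable [Finite G]
  (hloc : ∀ s : G, orderOf s = 2 → Nonempty (Subgroup.centralizer ({s} : Set G) ≃* GL3))

include hloc

theorem card_cent_inv (s : G) (hs : orderOf s = 2) :
    Nat.card (Subgroup.centralizer ({s} : Set G)) = 48 := by
  obtain ⟨e⟩ := hloc s hs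
  exact card_cent e

theorem card_roots_inv (s : G) (hs : orderOf s = 2) :
    Nat.card {g : G // ∃ k : ℕ, g ^ k = s} = 27 := by
  obtain ⟨e⟩ := hloc s hs
  exact card_roots e hs

theorem hstar (d : G) (U : Subgroup G) (hd : orderOf d = 3) (hU : ∀ u ∈ U, u * d = d * u) :
    Nat.card U ≠ 4 := by
  intro h4
  have hd3 : d ^ 3 = 1 := by rw [← hd]; exact pow_orderOf_eq_one d
  have hd1 : d ≠ 1 := by rintro rfl; rw [orderOf_one] at hd; omega
  have : Fact (Nat.Prime 2) := ⟨Nat.prime_two⟩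
  obtain ⟨s, hs⟩ := exists_prime_orderOf_dvd_card' (G := U) 2 (by rw [h4]; norm_num)
  have hs2 : orderOf (s : G) = 2 := by rw [Subgroup.orderOf_coe]; exact hs
  obtain ⟨e⟩ := hloc (s : G) hs2
  have hcomm : ∀ a b : U, a * b = b * a :=
    (IsPGroup.isMulCommutative_of_card_eq_prime_sq (p := 2) (by rw [h4]; norm_num)).is_comm.comm
  have hle : U ≤ Subgroup.zpowers (s : G) := by
    intro u hu
    have h1 : u * (s : G) = (s : G) * u := congrArg Subtype.val (hcomm ⟨u, hu⟩ s)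
    have h2 : u ^ 4 = 1 := by
      have := pow_card_eq_one' (x := (⟨u, hu⟩ : U))
      rw [h4] at this
      exact congrArg Subtype.val this
    have h3 : d * (s : G) = (s : G) * d := (hU s s.2).symm
    rcases star_loc e hs2 d u hd3 hd1 h3 h1 (hU u hu) h2 with h | h
    · rw [h]; exact one_mem _
    · rw [h]; exact Subgroup.mem_zpowers _
  have := Subgroup.card_le_of_le hle
  rw [Nat.card_zpowers, hs2, h4] at this
  omega

theorem hstar' (d : G) (U : Subgroup G) (hd3 : d ^ 3 = 1) (hd1 : d ≠ 1)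
    (hU : ∀ u ∈ U, u * d = d * u) : ¬ 4 ∣ Nat.card U := by
  intro h4
  have : Fact (Nat.Prime 2) := ⟨Nat.prime_two⟩
  have : Fact (Nat.Prime 3) := ⟨Nat.prime_three⟩
  have hd : orderOf d = 3 := orderOf_eq_prime hd3 hd1
  obtain ⟨K, hK⟩ := Sylow.exists_subgroup_card_pow_prime (G := U) 2 (n := 2) (by simpa using h4)
  apply hstar hloc d (K.map U.subtype) hd
  · rintro _ ⟨k, hk, rfl⟩
    exact hU _ k.2
  · rw [Subgroup.card_map_of_injective U.subtype_injective, hK]; norm_num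

theorem h9 (s : G) (hs : orderOf s = 2) (E : Subgroup G) (hE : ∀ x ∈ E, x * s = s * x) :
    ¬ 9 ∣ Nat.card E := by
  intro h
  have hle : E ≤ Subgroup.centralizer ({s} : Set G) := fun x hx => (mem_cent_iff x).mpr (hE x hx)
  have h1 := Subgroup.card_dvd_of_le hle
  rw [card_cent_inv hloc s hs] at h1
  have h2 := h.trans h1
  omega

theorem cent3 (hG : Nat.card G = 5616) (h13 : ∀ g : G, 13 ∣ orderOf g → orderOf g = 13)
    (d : G) (hd3 : d ^ 3 = 1) (hd1 : d ≠ 1) :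
    Nat.card (Subgroup.centralizer ({d} : Set G)) ∣ 54 := by
  have : Fact (Nat.Prime 3) := ⟨Nat.prime_three⟩
  have : Fact (Nat.Prime 13) := ⟨by norm_num⟩
  have hd : orderOf d = 3 := orderOf_eq_prime hd3 hd1
  apply arith54
  · rw [← hG]; exact Subgroup.card_subgroup_dvd_card _
  · exact hstar' hloc d _ hd3 hd1 (fun u hu => (mem_cent_iff u).mp hu)
  · intro h
    obtain ⟨r, hr⟩ := exists_prime_orderOf_dvd_card' (G := Subgroup.centralizer ({d} : Set G)) 13 h
    have hr13 : orderOf (r : G) = 13 := by rw [Subgroup.orderOf_coe]; exact hr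
    have hc : Commute d (r : G) := ((mem_cent_iff (r : G)).mp r.2).symm
    have h1 := hc.orderOf_mul_eq_mul_orderOf_of_coprime (by rw [hd, hr13]; norm_num)
    rw [hd, hr13] at h1
    have h2 := h13 (d * r) (by rw [h1]; norm_num)
    omega

end glob

end Cfsg.Agent.Lib.Helper9.Ix13
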