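import Mathlib
import Cfsg.Agent.Lib.Helper9.Gl23A
import Cfsg.Agent.Lib.Helper9.Ix13A
import Cfsg.Agent.Lib.Lead.SylowCount

set_option maxHeartbeats 1600000
set_option linter.unusedVariables false
set_option linter.unusedSimpArgs false
set_option linter.unusedSectionVars false
set_option linter.style.longLine false

namespace Cfsg.Agent.Lib.Helper9.Ix13

open Cfsg.Agent.Lib.Helper9.Gl23

open Cfsg.Agent.Lib.Lead.SylowCount

/-! ## generic tools -/

section tools

variable {G : Type*} [Group G] [Finite G]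

theorem le_sylow_of_normalizes {p : ℕ} [Fact p.Prime] (P : Sylow p G) (Q : Subgroup G)
    (hQ : IsPGroup p Q) (h : (P : Subgroup G) ≤ Subgroup.normalizer (Q : Set G)) :
    Q ≤ (P : Subgroup G) := by
  have h1 : IsPGroup p ((P : Subgroup G) ⊔ Q : Subgroup G) :=
    IsPGroup.to_sup_of_normal_right' P.2 hQ h
  have h2 := P.is_maximal' h1 le_sup_left
  exact le_sup_right.trans h2.le

theorem le_sylow_of_le_normalizer {p : ℕ} [Fact p.Prime] (P : Sylow p G) (Q : Subgroup G)
    (hQ : IsPGroup p Q) (h : Q ≤ Subgroup.normalizer ((P : Subgroup G) : Set G)) :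
    Q ≤ (P : Subgroup G) := by
  have h1 : IsPGroup p ((P : Subgroup G) ⊔ Q : Subgroup G) :=
    IsPGroup.to_sup_of_normal_left' P.2 hQ h
  have h2 := P.is_maximal' h1 le_sup_left
  exact le_sup_right.trans h2.le

theorem sylow_eq_of_le_normalizer {p : ℕ} [Fact p.Prime] (P P' : Sylow p G)
    (h : (P' : Subgroup G) ≤ Subgroup.normalizer ((P : Subgroup G) : Set G)) : P = P' := by
  have h1 := le_sylow_of_le_normalizer P P' P'.2 h
  exact Sylow.ext (P'.is_maximal' P.2 h1)

theorem exists_subgroup_between {p : ℕ} [Fact p.Prime] (M H : Subgroup G) (hHM : H ≤ M) {n m : ℕ}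
    (hH : Nat.card H = p ^ n) (hdvd : p ^ m ∣ Nat.card M) (hnm : n ≤ m) :
    ∃ K : Subgroup G, H ≤ K ∧ K ≤ M ∧ Nat.card K = p ^ m := by
  have hH' : Nat.card (H.subgroupOf M) = p ^ n := by
    rw [← hH]; exact Nat.card_congr (Subgroup.subgroupOfEquivOfLe hHM).toEquiv
  obtain ⟨K, hK, hle⟩ := Sylow.exists_subgroup_card_pow_prime_le p hdvd (H.subgroupOf M) hH' hnm
  refine ⟨K.map M.subtype, ?_, ?_, ?_⟩
  · intro x hx
    exact ⟨⟨x, hHM hx⟩, hle (Subgroup.mem_subgroupOf.mpr hx), rfl⟩
  · rintro _ ⟨k, _, rfl⟩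
    exact k.2
  · rw [Subgroup.card_map_of_injective M.subtype_injective, hK]

/-- Sylow's congruence inside a subgroup `M` (copy of helper7's lemma). -/
theorem relIndex_normalizer_modEq_one {p : ℕ} [hp : Fact p.Prime] (M Q : Subgroup G) (hQM : Q ≤ M)
    {k r : ℕ} (hQ : Nat.card Q = p ^ k) (hM : Nat.card M = p ^ k * r) (hr : ¬ p ∣ r) :
    (Subgroup.normalizer (Q : Set G)).relIndex M ≡ 1 [MOD p] := by
  have hfac : (Nat.card M).factorization p = k := by
    rw [hM]
    have hr0 : r ≠ 0 := fun h => hr (h ▸ dvd_zero p)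
    rw [Nat.factorization_mul (pow_ne_zero k hp.out.ne_zero) hr0]
    simp [hp.out.factorization_self, Nat.factorization_eq_zero_of_not_dvd hr]
  have hc : Nat.card (Q.subgroupOf M) = p ^ (Nat.card M).factorization p := by
    rw [hfac, ← hQ]; exact Nat.card_congr (Subgroup.subgroupOfEquivOfLe hQM).toEquiv
  have h1 := card_sylow_modEq_one p M
  have h2 : Nat.card (Sylow p M) =
      (Subgroup.normalizer ((Q.subgroupOf M : Subgroup M) : Set M)).index :=
    Sylow.card_eq_index_normalizer (Sylow.ofCard (Q.subgroupOf M) hc)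
  rw [h2, ← Subgroup.subgroupOf_normalizer_eq hQM] at h1
  exact h1

/-- the normalizer of `H` normalizes the centralizer of `H` -/
theorem normalizer_le_normalizer_centralizer (H : Subgroup G) :
    Subgroup.normalizer (H : Set G) ≤
      Subgroup.normalizer ((Subgroup.centralizer (H : Set G) : Subgroup G) : Set G) := by
  have key : ∀ g : G, g ∈ Subgroup.normalizer (H : Set G) →
      ∀ c ∈ Subgroup.centralizer (H : Set G), g * c * g⁻¹ ∈ Subgroup.centralizer (H : Set G) := by
    intro g hg c hc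
    rw [Subgroup.mem_centralizer_iff]
    intro h hh
    have h1 : g⁻¹ * h * g ∈ H := ((Subgroup.mem_normalizer_iff'' ).mp hg h).mp hh
    have h2 := Subgroup.mem_centralizer_iff.mp hc _ h1
    calc h * (g * c * g⁻¹) = g * ((g⁻¹ * h * g) * c) * g⁻¹ := by group
      _ = g * (c * (g⁻¹ * h * g)) * g⁻¹ := by rw [h2]
      _ = g * c * g⁻¹ * h := by group
  intro g hg
  rw [Subgroup.mem_normalizer_iff]
  intro c
  constructor
  · exact key g hg c
  · intro h
    have := key g⁻¹ (inv_mem hg) _ h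
    rw [inv_inv] at this
    have h2 : g⁻¹ * (g * c * g⁻¹) * g = c := by group
    rwa [h2] at this

theorem mem_normalizer_of_conj (H : Subgroup G) (z : G) (h : ∀ x ∈ H, z * x * z⁻¹ ∈ H)
    (h' : ∀ x ∈ H, z⁻¹ * x * z ∈ H) : z ∈ Subgroup.normalizer (H : Set G) := by
  rw [Subgroup.mem_normalizer_iff]
  intro x
  constructor
  · exact h x
  · intro hx
    have := h' _ hx
    have h2 : z⁻¹ * (z * x * z⁻¹) * z = x := by group
    rwa [h2] at this

/-- two distinct Sylow `3`-subgroups of order `27` inside `K` -/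
theorem sylow_pair_facts (P P' : Sylow 3 G) (hne : P ≠ P') (hPc : Nat.card P = 27)
    (K : Subgroup G) (hP : (P : Subgroup G) ≤ K) (hP' : (P' : Subgroup G) ≤ K) (r : ℕ)
    (hK : Nat.card K = 27 * r) (hr : ¬ 3 ∣ r) :
    ∃ n j : ℕ, n % 3 = 1 ∧ n ≠ 1 ∧ n * j = r ∧
      Nat.card (Subgroup.normalizer ((P : Subgroup G) : Set G) ⊓ K : Subgroup G) = 27 * j := by
  have : Fact (Nat.Prime 3) := ⟨Nat.prime_three⟩
  have h1 := relIndex_normalizer_modEq_one (p := 3) K (P : Subgroup G) hP (k := 3) (r := r)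
    (by rw [hPc]; norm_num) (by rw [hK]; norm_num) hr
  have h2 : (Subgroup.normalizer ((P : Subgroup G) : Set G)).relIndex K ≠ 1 := by
    intro h
    rw [Subgroup.relIndex_eq_one] at h
    exact hne (sylow_eq_of_le_normalizer P P' (hP'.trans h))
  have h3 := card_mul_relIndex (inf_le_right :
    (Subgroup.normalizer ((P : Subgroup G) : Set G) ⊓ K : Subgroup G) ≤ K)
  rw [Subgroup.inf_relIndex_right] at h3
  have h4 : (P : Subgroup G) ≤ Subgroup.normalizer ((P : Subgroup G) : Set G) ⊓ K :=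
    le_inf Subgroup.le_normalizer hP
  obtain ⟨j, hj⟩ := Subgroup.card_dvd_of_le h4
  rw [hPc] at hj
  refine ⟨_, j, h1, h2, ?_, hj⟩
  rw [hj, hK] at h3
  have : 27 * (j * (Subgroup.normalizer ((P : Subgroup G) : Set G)).relIndex K) = 27 * r := by
    rw [← h3]; ring
  have := Nat.eq_of_mul_eq_mul_left (by norm_num) this
  rw [← this]; ring

end tools

end Cfsg.Agent.Lib.Helper9.Ix13
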