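import Mathlib
import Cfsg.Agent.Lib.Helper9.Gl23A
import Cfsg.Agent.Lib.Helper9.Ix13A
import Cfsg.Agent.Lib.Helper9.Ix13B
import Cfsg.Agent.Lib.Lead.SylowCount

set_option maxHeartbeats 1600000
set_option linter.unusedVariables false
set_option linter.unusedSimpArgs false
set_option linter.unusedSectionVars false
set_option linter.style.longLine false

namespace Cfsg.Agent.Lib.Helper9.Ix13

open Cfsg.Agent.Lib.Helper9.Gl23

open Cfsg.Agent.Lib.Lead.SylowCount

theorem arith_aux2 : ∀ c ∈ Nat.divisors 432, ¬ 2 ∣ c → c ∣ 27 := by decide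

theorem arith27 (c : ℕ) (h : c ∣ 5616) (h2 : ¬ 2 ∣ c) (h13 : ¬ 13 ∣ c) : c ∣ 27 := by
  have hc : Nat.Coprime c 13 := ((Nat.Prime.coprime_iff_not_dvd (by norm_num)).2 h13).symm
  have h1 : c ∣ 432 := hc.dvd_of_dvd_mul_right (show c ∣ 432 * 13 from h)
  exact arith_aux2 c (Nat.mem_divisors.2 ⟨h1, by norm_num⟩) h2

section main

variable {G : Type*} [Group G] [Finite G]

theorem card_sylow3 (hG : Nat.card G = 5616) (Q : Sylow 3 G) : Nat.card Q = 27 := by
  have : Fact (Nat.Prime 3) := ⟨Nat.prime_three⟩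
  have := card_sylow_of_card_eq_pow 3 3 208 (by rw [hG]; norm_num) (by norm_num) Q
  simpa using this

theorem le_normalizer_of_card (Q D : Subgroup G) (hDQ : D ≤ Q) (hQ : Nat.card Q = 27)
    (hD : Nat.card D = 9) : Q ≤ Subgroup.normalizer (D : Set G) := by
  have h1 := card_mul_relIndex hDQ
  rw [hD, hQ] at h1
  have h2 : D.relIndex Q = 3 := by omega
  have h3 : (D.subgroupOf Q).Normal := by
    apply Subgroup.normal_of_index_eq_minFac_card
    rw [hQ]
    show D.relIndex Q = _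
    rw [h2]; norm_num
  exact Subgroup.le_normalizer_of_normal_subgroupOf hDQ

theorem comm_of_card_nine (D : Subgroup G) (hD : Nat.card D = 9) :
    ∀ a ∈ D, ∀ b ∈ D, a * b = b * a := by
  have : Fact (Nat.Prime 3) := ⟨Nat.prime_three⟩
  have h := (IsPGroup.isMulCommutative_of_card_eq_prime_sq (p := 3) (G := D)
    (by rw [hD]; norm_num)).is_comm.comm
  intro a ha b hb
  exact congrArg Subtype.val (h ⟨a, ha⟩ ⟨b, hb⟩)

theorem no_pair_small (P P' : Sylow 3 G) (hne : P ≠ P') (hPc : Nat.card P = 27)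
    (K : Subgroup G) (hP : (P : Subgroup G) ≤ K) (hP' : (P' : Subgroup G) ≤ K)
    (hK : Nat.card K = 27 ∨ Nat.card K = 54) : False := by
  rcases hK with hK | hK
  · obtain ⟨n, j, h1, h2, h3, -⟩ := sylow_pair_facts P P' hne hPc K hP hP' 1 (by rw [hK])
      (by norm_num)
    have : n = 1 := Nat.eq_one_of_mul_eq_one_right h3
    exact h2 this
  · obtain ⟨n, j, h1, h2, h3, -⟩ := sylow_pair_facts P P' hne hPc K hP hP' 2 (by rw [hK])
      (by norm_num)
    have hn : n ∣ 2 := ⟨j, h3.symm⟩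
    have hn2 : n ≤ 2 := Nat.le_of_dvd (by norm_num) hn
    interval_cases n <;> omega

variable (hG : Nat.card G = 5616)
  (h13 : ∀ g : G, 13 ∣ orderOf g → orderOf g = 13)
  (hloc : ∀ s : G, orderOf s = 2 → Nonempty (Subgroup.centralizer ({s} : Set G) ≃* GL3))
  (P P' : Sylow 3 G) (hne : P ≠ P') (D : Subgroup G) (hDP : D ≤ (P : Subgroup G))
  (hDP' : D ≤ (P' : Subgroup G)) (hD : Nat.card D = 9)

include hG h13 hloc hne hDP hDP' hD

theorem centralizer_eq : Subgroup.centralizer (D : Set G) = D := by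
  have : Fact (Nat.Prime 2) := ⟨Nat.prime_two⟩
  have : Fact (Nat.Prime 3) := ⟨Nat.prime_three⟩
  have : Fact (Nat.Prime 13) := ⟨by norm_num⟩
  have hcomm := comm_of_card_nine D hD
  have hDC : D ≤ Subgroup.centralizer (D : Set G) := by
    intro x hx
    rw [Subgroup.mem_centralizer_iff]
    intro h hh
    exact hcomm h hh x hx
  have h2 : ¬ 2 ∣ Nat.card (Subgroup.centralizer (D : Set G)) := by
    intro h
    obtain ⟨s, hs⟩ := exists_prime_orderOf_dvd_card' (G := Subgroup.centralizer (D : Set G)) 2 h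
    have hs2 : orderOf (s : G) = 2 := by rw [Subgroup.orderOf_coe]; exact hs
    refine h9 hloc (s : G) hs2 D (fun x hx => ?_) (by rw [hD])
    exact Subgroup.mem_centralizer_iff.mp s.2 x hx
  have h13' : ¬ 13 ∣ Nat.card (Subgroup.centralizer (D : Set G)) := by
    intro h
    obtain ⟨r, hr⟩ := exists_prime_orderOf_dvd_card' (G := Subgroup.centralizer (D : Set G)) 13 h
    have hr13 : orderOf (r : G) = 13 := by rw [Subgroup.orderOf_coe]; exact hr
    have hnt : Nontrivial D := Finite.one_lt_card_iff_nontrivial.mp (by rw [hD]; norm_num)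
    obtain ⟨d, hd⟩ := exists_ne (1 : D)
    have hd9 : orderOf (d : G) ∣ 9 := by
      rw [Subgroup.orderOf_coe, ← hD]; exact orderOf_dvd_natCard d
    have hc : Commute (d : G) (r : G) := Subgroup.mem_centralizer_iff.mp r.2 d d.2
    have hcop : Nat.Coprime (orderOf (d : G)) (orderOf (r : G)) := by
      rw [hr13]; exact Nat.Coprime.coprime_dvd_left hd9 (by norm_num)
    have h1 := hc.orderOf_mul_eq_mul_orderOf_of_coprime hcop
    rw [hr13] at h1
    have h2 := h13 ((d : G) * r) (by rw [h1]; exact dvd_mul_left _ _)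
    rw [h1] at h2
    have h3 : orderOf (d : G) = 1 := by omega
    rw [orderOf_eq_one_iff] at h3
    exact hd (Subtype.ext h3)
  have hdvd : Nat.card (Subgroup.centralizer (D : Set G)) ∣ 27 :=
    arith27 _ (by rw [← hG]; exact Subgroup.card_subgroup_dvd_card _) h2 h13'
  have h9dvd : 9 ∣ Nat.card (Subgroup.centralizer (D : Set G)) := by
    rw [← hD]; exact Subgroup.card_dvd_of_le hDC
  have hcases : Nat.card (Subgroup.centralizer (D : Set G)) = 9 ∨
      Nat.card (Subgroup.centralizer (D : Set G)) = 27 := by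
    obtain ⟨k, hk⟩ := h9dvd
    rw [hk] at hdvd ⊢
    have hk3 : k ∣ 3 := Nat.dvd_of_mul_dvd_mul_left (by norm_num) (show 9 * k ∣ 9 * 3 from hdvd)
    have hk3' : k ≤ 3 := Nat.le_of_dvd (by norm_num) hk3
    interval_cases k <;> omega
  rcases hcases with h | h
  · exact (Subgroup.eq_of_le_of_card_ge hDC (by rw [h, hD])).symm
  · exfalso
    have hCp : IsPGroup 3 (Subgroup.centralizer (D : Set G)) :=
      IsPGroup.of_card (n := 3) (by rw [h]; norm_num)
    have hPc := card_sylow3 hG P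
    have hP'c := card_sylow3 hG P'
    have hN := normalizer_le_normalizer_centralizer D
    have e1 : Subgroup.centralizer (D : Set G) = P :=
      Subgroup.eq_of_le_of_card_ge (le_sylow_of_normalizes P _ hCp
        ((le_normalizer_of_card P D hDP hPc hD).trans hN)) (by rw [h, hPc])
    have e2 : Subgroup.centralizer (D : Set G) = P' :=
      Subgroup.eq_of_le_of_card_ge (le_sylow_of_normalizes P' _ hCp
        ((le_normalizer_of_card P' D hDP' hP'c hD).trans hN)) (by rw [h, hP'c])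
    exact hne (Sylow.ext (e1.symm.trans e2))

theorem exp_three (hCD : Subgroup.centralizer (D : Set G) = D) : ∀ d ∈ D, d ^ 3 = 1 := by
  intro d hd
  by_contra hne3
  have : Fact (Nat.Prime 3) := ⟨Nat.prime_three⟩
  have hPc := card_sylow3 hG P
  have hP'c := card_sylow3 hG P'
  have hd9 : orderOf d ∣ 9 := by
    have := orderOf_dvd_natCard (⟨d, hd⟩ : D)
    rwa [Subgroup.orderOf_mk, hD] at this
  have ho : orderOf d = 9 := by
    obtain ⟨k, hk, hk'⟩ := (Nat.dvd_prime_pow Nat.prime_three (m := 2)).mp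
      (by simpa using hd9)
    interval_cases k
    · exfalso; apply hne3
      rw [pow_zero] at hk'
      rw [orderOf_eq_one_iff.mp hk', one_pow]
    · exfalso; apply hne3
      rw [pow_one] at hk'
      rw [← hk']; exact pow_orderOf_eq_one d
    · simpa using hk'
  have hcyc : IsCyclic D :=
    isCyclic_of_orderOf_eq_card (⟨d, hd⟩ : D) (by rw [Subgroup.orderOf_mk, ho, hD])
  have haut : Nat.card (MulAut D) = 6 := by rw [IsCyclic.card_mulAut, hD]; decide
  have h1 := relIndex_centralizer_normalizer_dvd D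
  rw [haut, hCD] at h1
  have h2 := card_mul_relIndex (Subgroup.centralizer_le_normalizer (D : Set G))
  rw [hCD, hD] at h2
  have hPN := le_normalizer_of_card P D hDP hPc hD
  have hP'N := le_normalizer_of_card P' D hDP' hP'c hD
  have h27 : 27 ∣ Nat.card (Subgroup.normalizer (D : Set G)) := by
    rw [← hPc]; exact Subgroup.card_dvd_of_le hPN
  have hx6 : D.relIndex (Subgroup.normalizer (D : Set G)) ≤ 6 := Nat.le_of_dvd (by norm_num) h1
  refine no_pair_small P P' hne hPc (Subgroup.normalizer (D : Set G)) hPN hP'N ?_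
  rw [← h2] at h27 ⊢
  generalize D.relIndex (Subgroup.normalizer (D : Set G)) = x at *
  interval_cases x <;> omega

theorem card_normalizer_form (hCD : Subgroup.centralizer (D : Set G) = D) :
    ∃ m, m ∣ 16 ∧ Nat.card (Subgroup.normalizer (D : Set G)) = 27 * m := by
  have hPc := card_sylow3 hG P
  have h1 := relIndex_centralizer_normalizer_dvd D
  have h2 := card_mul_relIndex (Subgroup.centralizer_le_normalizer (D : Set G))
  rw [hCD] at h1 h2
  rw [hD] at h2
  have h3 : Nat.card (MulAut D) ∣ (9).factorial := by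
    have := Subgroup.card_dvd_of_injective (MulAut.toPerm D)
      (fun a b h => MulEquiv.ext (fun x => Equiv.congr_fun h x))
    rwa [Nat.card_perm, hD] at this
  have h13N : ¬ 13 ∣ Nat.card (Subgroup.normalizer (D : Set G)) := by
    intro h
    rw [← h2] at h
    rcases (Nat.Prime.dvd_mul (by norm_num)).mp h with h | h
    · omega
    · have := (h.trans h1).trans h3
      rw [Nat.Prime.dvd_factorial (by norm_num)] at this
      omega
  have hdvd : Nat.card (Subgroup.normalizer (D : Set G)) ∣ 432 := by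
    have hc : Nat.Coprime (Nat.card (Subgroup.normalizer (D : Set G))) 13 :=
      ((Nat.Prime.coprime_iff_not_dvd (by norm_num)).2 h13N).symm
    refine hc.dvd_of_dvd_mul_right (show _ ∣ 432 * 13 from ?_)
    have := Subgroup.card_subgroup_dvd_card (Subgroup.normalizer (D : Set G))
    rwa [hG] at this
  have h27 : 27 ∣ Nat.card (Subgroup.normalizer (D : Set G)) := by
    rw [← hPc]; exact Subgroup.card_dvd_of_le (le_normalizer_of_card P D hDP hPc hD)
  obtain ⟨m, hm⟩ := h27
  refine ⟨m, ?_, hm⟩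
  rw [hm] at hdvd
  exact Nat.dvd_of_mul_dvd_mul_left (by norm_num) (show 27 * m ∣ 27 * 16 from hdvd)

end main

section inv

variable {G : Type*} [Group G]

theorem inv_norm (D : Subgroup G) (hCD : Subgroup.centralizer (D : Set G) = D) (z : G)
    (hz2 : z * z = 1) (hz : ∀ d ∈ D, z * d * z⁻¹ = d⁻¹) (n : G)
    (hn : n ∈ Subgroup.normalizer (D : Set G)) : n⁻¹ * z * n * z⁻¹ ∈ D := by
  have key : n⁻¹ * z * n * z⁻¹ ∈ Subgroup.centralizer (D : Set G) := by
    rw [Subgroup.mem_centralizer_iff]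
    intro d hd
    have zinv : z⁻¹ = z := inv_eq_of_mul_eq_one_right hz2
    have h0 : z⁻¹ * d * z = d⁻¹ := by
      have := hz d hd
      rw [zinv] at this ⊢
      exact this
    have h1 : z⁻¹ * d = d⁻¹ * z⁻¹ := by
      calc z⁻¹ * d = (z⁻¹ * d * z) * z⁻¹ := by group
        _ = d⁻¹ * z⁻¹ := by rw [h0]
    have he : n * d⁻¹ * n⁻¹ ∈ D := (Subgroup.mem_normalizer_iff.mp hn d⁻¹).mp (inv_mem hd)
    have h2 : n * d⁻¹ = (n * d⁻¹ * n⁻¹) * n := by group
    have h3 : z * (n * d⁻¹ * n⁻¹) = (n * d⁻¹ * n⁻¹)⁻¹ * z := by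
      calc z * (n * d⁻¹ * n⁻¹) = (z * (n * d⁻¹ * n⁻¹) * z⁻¹) * z := by group
        _ = (n * d⁻¹ * n⁻¹)⁻¹ * z := by rw [hz _ he]
    have h4 : n⁻¹ * (n * d⁻¹ * n⁻¹)⁻¹ = d * n⁻¹ := by group
    symm
    calc n⁻¹ * z * n * z⁻¹ * d = n⁻¹ * z * n * (z⁻¹ * d) := by simp only [mul_assoc]
      _ = n⁻¹ * z * n * (d⁻¹ * z⁻¹) := by rw [h1]
      _ = n⁻¹ * z * (n * d⁻¹) * z⁻¹ := by simp only [mul_assoc]
      _ = n⁻¹ * z * ((n * d⁻¹ * n⁻¹) * n) * z⁻¹ := by rw [← h2]
      _ = n⁻¹ * (z * (n * d⁻¹ * n⁻¹)) * n * z⁻¹ := by simp only [mul_assoc]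
      _ = n⁻¹ * ((n * d⁻¹ * n⁻¹)⁻¹ * z) * n * z⁻¹ := by rw [h3]
      _ = (n⁻¹ * (n * d⁻¹ * n⁻¹)⁻¹) * z * n * z⁻¹ := by simp only [mul_assoc]
      _ = (d * n⁻¹) * z * n * z⁻¹ := by rw [h4]
      _ = d * (n⁻¹ * z * n * z⁻¹) := by simp only [mul_assoc]
  rwa [hCD] at key

/-- an element of `N(D)` of order dividing `3` inverted by `z` lies in `D` -/
theorem mem_of_inverted (D : Subgroup G) (hCD : Subgroup.centralizer (D : Set G) = D) (z : G)
    (hz2 : z * z = 1) (hz : ∀ d ∈ D, z * d * z⁻¹ = d⁻¹) (x : G)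
    (hx : x ∈ Subgroup.normalizer (D : Set G)) (hx3 : x ^ 3 = 1) (hzx : z * x * z⁻¹ = x⁻¹) :
    x ∈ D := by
  have h1 := inv_norm D hCD z hz2 hz x hx
  have h2 : x⁻¹ * z * x * z⁻¹ = x⁻¹ * (z * x * z⁻¹) := by simp only [mul_assoc]
  rw [h2, hzx] at h1
  have h3 : x = x⁻¹ * x⁻¹ := by
    have : x⁻¹ * x⁻¹ = x⁻¹ * x⁻¹ * x ^ 3 := by rw [hx3, mul_one]
    rw [this]; group
  rw [h3]; exact h1

end inv

end Cfsg.Agent.Lib.Helper9.Ix13
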