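import Mathlib
import Cfsg.Agent.Lib.Helper9.Gl23A
import Cfsg.Agent.Lib.Helper9.Ix13A
import Cfsg.Agent.Lib.Helper9.Ix13B
import Cfsg.Agent.Lib.Helper9.Ix13C
import Cfsg.Agent.Lib.Lead.SylowCount

set_option maxHeartbeats 1600000
set_option linter.unusedVariables false
set_option linter.unusedSimpArgs false
set_option linter.unusedSectionVars false
set_option linter.style.longLine false

namespace Cfsg.Agent.Lib.Helper9.Ix13

open Cfsg.Agent.Lib.Helper9.Gl23

open Cfsg.Agent.Lib.Lead.SylowCount

section fin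

variable {G : Type*} [Group G] [Finite G]

theorem card_normalizer_eq (hG : Nat.card G = 5616)
    (h13 : ∀ g : G, 13 ∣ orderOf g → orderOf g = 13)
    (hloc : ∀ s : G, orderOf s = 2 → Nonempty (Subgroup.centralizer ({s} : Set G) ≃* GL3))
    (hB3 : ∀ (D U : Subgroup G), Nat.card D = 9 → (∀ d ∈ D, d ^ 3 = 1) →
      Subgroup.centralizer (D : Set G) = D → U ≤ Subgroup.normalizer (D : Set G) →
      Nat.card U = 4 → ∃ z ∈ U, ∀ d ∈ D, z * d * z⁻¹ = d⁻¹)
    (P P' : Sylow 3 G) (hne : P ≠ P') (D : Subgroup G) (hDP : D ≤ (P : Subgroup G))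
    (hDP' : D ≤ (P' : Subgroup G)) (hD : Nat.card D = 9) :
    (∀ d ∈ D, d ^ 3 = 1) ∧ Subgroup.centralizer (D : Set G) = D ∧
      Nat.card (Subgroup.normalizer (D : Set G)) = 432 := by
  have : Fact (Nat.Prime 2) := ⟨Nat.prime_two⟩
  have : Fact (Nat.Prime 3) := ⟨Nat.prime_three⟩
  have hPc := card_sylow3 hG P
  have hP'c := card_sylow3 hG P'
  have hCD := centralizer_eq hG h13 hloc P P' hne D hDP hDP' hD
  have hD3 := exp_three hG h13 hloc P P' hne D hDP hDP' hD hCD
  refine ⟨hD3, hCD, ?_⟩
  obtain ⟨m, hm16, hNm⟩ := card_normalizer_form hG h13 hloc P P' hne D hDP hDP' hD hCD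
  have hPN := le_normalizer_of_card P D hDP hPc hD
  have hP'N := le_normalizer_of_card P' D hDP' hP'c hD
  have hm3 : ¬ 3 ∣ m := fun h => by
    have := h.trans hm16
    omega
  obtain ⟨n, j, hn3, hn1, hnj, hcard⟩ :=
    sylow_pair_facts P P' hne hPc (Subgroup.normalizer (D : Set G)) hPN hP'N m hNm hm3
  have hnm : n ∣ m := Dvd.intro j hnj
  have hn16 : n ∣ 16 := hnm.trans hm16
  have hn : n = 4 ∨ n = 16 := by
    have : n ≤ 16 := Nat.le_of_dvd (by norm_num) hn16
    interval_cases n <;> omega
  have h4m : 4 ∣ m := by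
    rcases hn with rfl | rfl
    · exact hnm
    · exact (by norm_num : 4 ∣ 16).trans hnm
  -- a subgroup of order 4 of N(D), and the inverting involution
  have h4N : 2 ^ 2 ∣ Nat.card (Subgroup.normalizer (D : Set G)) := by
    rw [hNm]; exact Dvd.dvd.mul_left (by simpa using h4m) 27
  obtain ⟨U, -, hUN, hU4⟩ := exists_subgroup_between (p := 2) (Subgroup.normalizer (D : Set G)) ⊥
    bot_le (n := 0) (m := 2) (by simp) h4N (Nat.zero_le 2)
  obtain ⟨z, hzU, hz⟩ := hB3 D U hD hD3 hCD hUN (by rw [hU4]; norm_num)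
  have hzN : z ∈ Subgroup.normalizer (D : Set G) := hUN hzU
  have hz4 : z ^ 4 = 1 := by
    have := pow_card_eq_one' (x := (⟨z, hzU⟩ : U))
    rw [hU4] at this
    exact congrArg Subtype.val this
  have e1 : ∀ d ∈ D, z * d = d⁻¹ * z := fun d hd => by
    calc z * d = (z * d * z⁻¹) * z := by group
      _ = d⁻¹ * z := by rw [hz d hd]
  have hzzD : z * z ∈ D := by
    have key : z * z ∈ Subgroup.centralizer (D : Set G) := by
      rw [Subgroup.mem_centralizer_iff]
      intro d hd
      have h1 := e1 d hd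
      have h2 := e1 d⁻¹ (inv_mem hd)
      rw [inv_inv] at h2
      calc d * (z * z) = (d * z) * z := by rw [mul_assoc]
        _ = (z * d⁻¹) * z := by rw [h2]
        _ = z * (d⁻¹ * z) := by rw [mul_assoc]
        _ = z * (z * d) := by rw [h1]
        _ = z * z * d := by rw [mul_assoc]
    rwa [hCD] at key
  have hzz : z * z = 1 := by
    have hx3 := hD3 _ hzzD
    have hx2 : (z * z) ^ 2 = 1 := by
      rw [← pow_two, ← pow_mul]; exact hz4
    calc z * z = (z * z) ^ 3 * ((z * z) ^ 2)⁻¹ := by group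
      _ = 1 := by rw [hx3, hx2]; simp
  have hntD : Nontrivial D := Finite.one_lt_card_iff_nontrivial.mp (by rw [hD]; norm_num)
  have hz1 : z ≠ 1 := by
    rintro rfl
    obtain ⟨d, hd⟩ := exists_ne (1 : D)
    have h1 := hz d d.2
    rw [one_mul, inv_one, mul_one] at h1
    have hdd : (d : G) * d = 1 := mul_eq_one_iff_eq_inv.mpr h1
    have h3 := hD3 d d.2
    apply hd
    apply Subtype.ext
    calc (d : G) = (d : G) ^ 3 * ((d : G) * d)⁻¹ := by group
      _ = 1 := by rw [h3, hdd]; simp
  have hoz : orderOf z = 2 := orderOf_eq_prime (by rw [pow_two]; exact hzz) hz1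
  have zinv : z⁻¹ = z := inv_eq_of_mul_eq_one_right hzz
  -- z normalizes P
  have hzP : z ∈ Subgroup.normalizer ((P : Subgroup G) : Set G) := by
    have key : ∀ p ∈ (P : Subgroup G), z * p * z⁻¹ ∈ (P : Subgroup G) := by
      intro p hp
      have h1 := inv_norm D hCD z hzz hz p (hPN hp)
      have h2 : z * p * z⁻¹ = p * (p⁻¹ * z * p * z⁻¹) := by group
      rw [h2]
      exact mul_mem hp (hDP h1)
    apply mem_normalizer_of_conj _ z key
    intro x hx
    have := key x hx
    rw [zinv] at this ⊢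
    exact this
  -- the centre of P
  have hZD : (P : Subgroup G) ⊓ Subgroup.centralizer ((P : Subgroup G) : Set G) ≤ D := by
    intro x hx
    have : x ∈ Subgroup.centralizer (D : Set G) :=
      Subgroup.centralizer_le (show (D : Set G) ⊆ ((P : Subgroup G) : Set G) from hDP)
        (Subgroup.mem_inf.mp hx).2
    rwa [hCD] at this
  have hntP : Nontrivial (P : Subgroup G) :=
    Finite.one_lt_card_iff_nontrivial.mp (by rw [hPc]; norm_num)
  have hcn : Nontrivial (Subgroup.center (P : Subgroup G)) := IsPGroup.center_nontrivial P.2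
  obtain ⟨y, hy⟩ := exists_ne (1 : Subgroup.center (P : Subgroup G))
  have hyZ : (y.1.1 : G) ∈ (P : Subgroup G) ⊓ Subgroup.centralizer ((P : Subgroup G) : Set G) := by
    refine Subgroup.mem_inf.mpr ⟨y.1.2, ?_⟩
    rw [Subgroup.mem_centralizer_iff]
    intro q hq
    have := Subgroup.mem_center_iff.mp y.2 ⟨q, hq⟩
    exact congrArg Subtype.val this
  have hy1 : (y.1.1 : G) ≠ 1 := by
    intro h
    apply hy
    apply Subtype.ext
    apply Subtype.ext
    exact h
  have hZ3 : Nat.card ((P : Subgroup G) ⊓ Subgroup.centralizer ((P : Subgroup G) : Set G) :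
      Subgroup G) = 3 := by
    have h1 : Nat.card ((P : Subgroup G) ⊓ Subgroup.centralizer ((P : Subgroup G) : Set G) :
      Subgroup G) ∣ 9 := by rw [← hD]; exact Subgroup.card_dvd_of_le hZD
    have h2 : Nat.card ((P : Subgroup G) ⊓ Subgroup.centralizer ((P : Subgroup G) : Set G) :
      Subgroup G) ≠ 1 := by
      intro h
      rw [Subgroup.card_eq_one] at h
      rw [h] at hyZ
      exact hy1 (Subgroup.mem_bot.mp hyZ)
    have h3 : Nat.card ((P : Subgroup G) ⊓ Subgroup.centralizer ((P : Subgroup G) : Set G) :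
      Subgroup G) ≠ 9 := by
      intro h
      have hZeq := Subgroup.eq_of_le_of_card_ge hZD (by rw [h, hD])
      have hPD : (P : Subgroup G) ≤ D := by
        intro p hp
        have : p ∈ Subgroup.centralizer (D : Set G) := by
          rw [Subgroup.mem_centralizer_iff]
          intro d hd
          have hdZ : d ∈ (P : Subgroup G) ⊓ Subgroup.centralizer ((P : Subgroup G) : Set G) := by
            rw [hZeq]; exact hd
          exact (Subgroup.mem_centralizer_iff.mp (Subgroup.mem_inf.mp hdZ).2 p hp).symm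
        rwa [hCD] at this
      have := Subgroup.card_le_of_le hPD
      rw [hPc, hD] at this
      omega
    have hpos : 0 < Nat.card ((P : Subgroup G) ⊓
      Subgroup.centralizer ((P : Subgroup G) : Set G) : Subgroup G) := Nat.card_pos
    have hle : Nat.card ((P : Subgroup G) ⊓ Subgroup.centralizer ((P : Subgroup G) : Set G) :
      Subgroup G) ≤ 9 := Nat.le_of_dvd (by norm_num) h1
    generalize Nat.card ((P : Subgroup G) ⊓ Subgroup.centralizer ((P : Subgroup G) : Set G) :
      Subgroup G) = c at *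
    interval_cases c <;> omega
  have hy3 : (y.1.1 : G) ^ 3 = 1 := hD3 _ (hZD hyZ)
  have hcy := cent3 hloc hG h13 (y.1.1 : G) hy3 hy1
  have hCZ : Nat.card (Subgroup.centralizer (((P : Subgroup G) ⊓
      Subgroup.centralizer ((P : Subgroup G) : Set G) : Subgroup G) : Set G)) ∣ 54 := by
    refine (Subgroup.card_dvd_of_le (Subgroup.centralizer_le ?_)).trans hcy
    intro x hx
    rw [Set.mem_singleton_iff] at hx
    rw [hx]; exact hyZ
  have hcycZ : IsCyclic ((P : Subgroup G) ⊓ Subgroup.centralizer ((P : Subgroup G) : Set G) :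
      Subgroup G) := isCyclic_of_prime_card hZ3
  have hautZ : Nat.card (MulAut ((P : Subgroup G) ⊓
      Subgroup.centralizer ((P : Subgroup G) : Set G) : Subgroup G)) = 2 := by
    rw [IsCyclic.card_mulAut, hZ3]; decide
  have h1 := relIndex_centralizer_normalizer_dvd ((P : Subgroup G) ⊓
      Subgroup.centralizer ((P : Subgroup G) : Set G) : Subgroup G)
  rw [hautZ] at h1
  have h2 := card_mul_relIndex (Subgroup.centralizer_le_normalizer (((P : Subgroup G) ⊓
      Subgroup.centralizer ((P : Subgroup G) : Set G) : Subgroup G) : Set G))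
  have hNZ : Nat.card (Subgroup.normalizer (((P : Subgroup G) ⊓
      Subgroup.centralizer ((P : Subgroup G) : Set G) : Subgroup G) : Set G)) ∣ 108 := by
    rw [← h2]; exact Nat.mul_dvd_mul hCZ h1
  have hMZ : Subgroup.normalizer ((P : Subgroup G) : Set G) ≤
      Subgroup.normalizer (((P : Subgroup G) ⊓
      Subgroup.centralizer ((P : Subgroup G) : Set G) : Subgroup G) : Set G) := by
    intro g hg
    have hg2 := normalizer_le_normalizer_centralizer (P : Subgroup G) hg
    rw [Subgroup.mem_normalizer_iff] at hg hg2 ⊢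
    intro h
    rw [Subgroup.mem_inf, Subgroup.mem_inf, ← hg h, ← hg2 h]
  have hM108 : Nat.card (Subgroup.normalizer ((P : Subgroup G) : Set G)) ∣ 108 :=
    (Subgroup.card_dvd_of_le hMZ).trans hNZ
  have hM27 : 27 ∣ Nat.card (Subgroup.normalizer ((P : Subgroup G) : Set G)) := by
    rw [← hPc]; exact Subgroup.card_dvd_of_le Subgroup.le_normalizer
  have hzM : Subgroup.zpowers z ≤ Subgroup.normalizer ((P : Subgroup G) : Set G) :=
    Subgroup.zpowers_le.mpr hzP
  have hM2 : 2 ∣ Nat.card (Subgroup.normalizer ((P : Subgroup G) : Set G)) := by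
    have h := Subgroup.card_dvd_of_le hzM
    rwa [Nat.card_zpowers, hoz] at h
  have hM54 : 54 ∣ Nat.card (Subgroup.normalizer ((P : Subgroup G) : Set G)) :=
    Nat.Coprime.mul_dvd_of_dvd_of_dvd (by norm_num : Nat.Coprime 27 2) hM27 hM2
  have hsyl : Nat.card (Sylow 3 G) *
      Nat.card (Subgroup.normalizer ((P : Subgroup G) : Set G)) = Nat.card G :=
    card_sylow_mul_card_normalizer 3 P
  have hmod := card_sylow_modEq_one 3 G
  have hM : Nat.card (Subgroup.normalizer ((P : Subgroup G) : Set G)) = 108 := by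
    obtain ⟨k, hk⟩ := hM54
    rw [hk] at hM108 hsyl
    have hk2 : k ∣ 2 := Nat.dvd_of_mul_dvd_mul_left (by norm_num) (show 54 * k ∣ 54 * 2 from hM108)
    have hk2' : k ≤ 2 := Nat.le_of_dvd (by norm_num) hk2
    interval_cases k
    · omega
    · exfalso
      rw [hG] at hsyl
      have h104 : Nat.card (Sylow 3 G) = 104 := by omega
      rw [h104] at hmod
      exact absurd hmod (by decide)
    · rw [hk]
  -- a Sylow 2-subgroup of N(P) containing z
  obtain ⟨U2, hzU2, hU2M, hU2c⟩ := exists_subgroup_between (p := 2)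
    (Subgroup.normalizer ((P : Subgroup G) : Set G)) (Subgroup.zpowers z) hzM (n := 1) (m := 2)
    (by rw [Nat.card_zpowers, hoz]; norm_num) (by rw [hM]; norm_num) (by norm_num)
  have hU2comm : ∀ a b : U2, a * b = b * a :=
    (IsPGroup.isMulCommutative_of_card_eq_prime_sq (p := 2) hU2c).is_comm.comm
  have hzU2' : z ∈ U2 := hzU2 (Subgroup.mem_zpowers z)
  have hU2N : U2 ≤ Subgroup.normalizer (D : Set G) := by
    have key : ∀ w ∈ U2, ∀ d ∈ D, w * d * w⁻¹ ∈ D := by
      intro w hw d hd
      have hwz : w * z = z * w := congrArg Subtype.val (hU2comm ⟨w, hw⟩ ⟨z, hzU2'⟩)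
      have hwP : w ∈ Subgroup.normalizer ((P : Subgroup G) : Set G) := hU2M hw
      have hxP : w * d * w⁻¹ ∈ (P : Subgroup G) :=
        (Subgroup.mem_normalizer_iff.mp hwP d).mp (hDP hd)
      apply mem_of_inverted D hCD z hzz hz _ (hPN hxP)
      · rw [conj_pow, hD3 d hd]; group
      · calc z * (w * d * w⁻¹) * z⁻¹ = (z * w) * d * (z * w)⁻¹ := by group
          _ = (w * z) * d * (w * z)⁻¹ := by rw [hwz]
          _ = w * (z * d * z⁻¹) * w⁻¹ := by group
          _ = w * d⁻¹ * w⁻¹ := by rw [hz d hd]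
          _ = (w * d * w⁻¹)⁻¹ := by group
    intro w hw
    refine mem_normalizer_of_conj D w (key w hw) (fun d hd => ?_)
    have := key w⁻¹ (inv_mem hw) d hd
    rwa [inv_inv] at this
  have hU2le : U2 ≤ Subgroup.normalizer ((P : Subgroup G) : Set G) ⊓
      Subgroup.normalizer (D : Set G) := le_inf hU2M hU2N
  have h4 : 4 ∣ Nat.card (Subgroup.normalizer ((P : Subgroup G) : Set G) ⊓
      Subgroup.normalizer (D : Set G) : Subgroup G) := by
    have := Subgroup.card_dvd_of_le hU2le
    rw [hU2c] at this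
    simpa using this
  have hdvdM : Nat.card (Subgroup.normalizer ((P : Subgroup G) : Set G) ⊓
      Subgroup.normalizer (D : Set G) : Subgroup G) ∣ 108 := by
    rw [← hM]; exact Subgroup.card_dvd_of_le inf_le_left
  rw [hcard] at h4 hdvdM
  have hj : j = 4 := by
    have hj4 : j ∣ 4 := Nat.dvd_of_mul_dvd_mul_left (by norm_num) (show 27 * j ∣ 27 * 4 from hdvdM)
    have : j ≤ 4 := Nat.le_of_dvd (by norm_num) hj4
    interval_cases j <;> omega
  subst hj
  rw [hNm, ← hnj]
  rcases hn with rfl | rfl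
  · norm_num
  · exfalso
    rw [← hnj] at hm16
    omega

end fin

end Cfsg.Agent.Lib.Helper9.Ix13
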