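import Mathlib
import Cfsg.Agent.Lib.Helper9.Gl23A
import Cfsg.Agent.Lib.Helper9.Ix13A
import Cfsg.Agent.Lib.Helper9.Ix13B
import Cfsg.Agent.Lib.Helper9.Ix13C
import Cfsg.Agent.Lib.Helper9.Ix13D
import Cfsg.Agent.Lib.Helper7.Ct5616
import Cfsg.Agent.Lib.Helper4.Ix13B2
import Cfsg.Agent.Lib.Helper7.Ix13B3

set_option maxHeartbeats 1600000
set_option linter.unusedVariables false
set_option linter.unusedSimpArgs false
set_option linter.unusedSectionVars false
set_option linter.style.longLine false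

namespace Cfsg.Agent.Lib.Helper9.Ix13

open Cfsg.Agent.Lib.Helper9.Gl23


/-- S2916 piece (B): a self-centralizing elementary abelian subgroup of order `9` whose
normalizer has order `432` (index `13`). -/
theorem exists_index13 {G : Type*} [Group G] [Finite G] [IsSimpleGroup G]
    (hG : Nat.card G = 5616) (t : G) (ht : orderOf t = 2)
    (e : Subgroup.centralizer ({t} : Set G) ≃* Matrix.GeneralLinearGroup (Fin 2) (ZMod 3))
    (hconj : ∀ s : G, orderOf s = 2 → IsConj s t) :
    ∃ D : Subgroup G, Nat.card D = 9 ∧ (∀ d ∈ D, d ^ 3 = 1) ∧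
      Subgroup.centralizer (D : Set G) = D ∧
      Nat.card (Subgroup.normalizer (D : Set G)) = 432 := by
  have hloc := hloc_of e hconj
  have h48 := card_cent_inv hloc
  have h27 := card_roots_inv hloc
  have hconj2 : ∀ s s' : G, orderOf s = 2 → orderOf s' = 2 → IsConj s s' :=
    fun s s' hs hs' => (hconj s hs).trans (hconj s' hs').symm
  obtain ⟨h13, h729⟩ := Cfsg.Agent.Lib.Helper7.Ct5616.count_three_elements hG h48 hconj2 h27
  obtain ⟨P, P', hne, hcard⟩ :=
    Cfsg.Agent.Lib.Helper4.Ix13B2.exists_sylow_inter_nine hG h13 h729 (hstar hloc)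
  obtain ⟨h3, hC, hN⟩ := card_normalizer_eq hG h13 hloc
    (fun D U => Cfsg.Agent.Lib.Helper7.Ix13B3.exists_inverting D U) P P' hne _
    inf_le_left inf_le_right hcard
  exact ⟨_, hcard, h3, hC, hN⟩

end Cfsg.Agent.Lib.Helper9.Ix13
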