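import Mathlib
import Cfsg.Agent.Lib.Helper8.J1c

set_option autoImplicit false

/-! Elements of the permutation model of `J₁` are determined by their values at the four base
points of the certified stabiliser chain. -/

namespace Cfsg.Agent.Lib.Helper9.J1Base

open Cfsg Cfsg.Agent.Lib.Helper8.SS Cfsg.Agent.Lib.Helper8.J1 MulAction

section general

variable {α : Type*} [Fintype α] [DecidableEq α]

/-- one level of a stabiliser chain: when the orders match, the stabiliser is the next group -/
theorem mem_of_fix {K K' : Subgroup (Equiv.Perm α)} (hK : K' ≤ K) (p : α)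
    (hfix : ∀ g ∈ K', g p = p) (T : Finset α) (hT : ∀ q ∈ T, ∃ g ∈ K, g p = q)
    (hpos : 0 < T.card) (hcard : Nat.card K = T.card * Nat.card K') :
    ∀ g ∈ K, g p = p → g ∈ K' := by
  have h1 := index_stabilizer K p
  have h2 := (stabilizer K p).card_mul_index
  have h3 : T.card ≤ (orbit K p).ncard := by
    rw [← Set.ncard_coe_finset T]
    apply Set.ncard_le_ncard _ (Set.toFinite _)
    intro q hq
    obtain ⟨g, hg, hgq⟩ := hT q (Finset.mem_coe.mp hq)
    exact ⟨⟨g, hg⟩, hgq⟩
  obtain ⟨ι, hι⟩ : ∃ ι : K' → stabilizer K p, ∀ x, ((ι x : K) : Equiv.Perm α) = x.1 :=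
    ⟨fun x => ⟨⟨x.1, hK x.2⟩, hfix x.1 x.2⟩, fun _ => rfl⟩
  have hinj : Function.Injective ι := by
    intro x y hxy
    apply Subtype.ext
    rw [← hι x, ← hι y, hxy]
  have h4 : Nat.card K' ≤ Nat.card (stabilizer K p) := Nat.card_le_card_of_injective ι hinj
  rw [h1] at h2
  have h5 : Nat.card (stabilizer K p) ≤ Nat.card K' := by
    by_contra hlt
    have hlt' : Nat.card K' < Nat.card (stabilizer K p) := by omega
    have : T.card * Nat.card K' < (orbit K p).ncard * Nat.card (stabilizer K p) :=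
      calc T.card * Nat.card K' < T.card * Nat.card (stabilizer K p) :=
            Nat.mul_lt_mul_of_pos_left hlt' hpos
        _ ≤ (orbit K p).ncard * Nat.card (stabilizer K p) := Nat.mul_le_mul_right _ h3
    rw [mul_comm ((orbit K p).ncard), h2, hcard] at this
    exact lt_irrefl _ this
  have hbij : Function.Bijective ι := by
    haveI : Finite (stabilizer K p) := inferInstance
    exact Function.Injective.bijective_of_nat_card_le hinj h5
  intro g hg hgp
  obtain ⟨x, hx⟩ := hbij.2 (⟨⟨g, hg⟩, hgp⟩ : stabilizer K p)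
  have : x.1 = g := by
    rw [← hι x, hx]
  rw [← this]
  exact x.2

end general

section level

variable {n : ℕ} [NeZero n] {pN pM : ℕ → ℕ} {np : ℕ}

theorem level_stab (hv : ∀ i < np, Valid n (pN i) (pM i)) (hid : ∀ x < n, get (pN 0) x = x)
    (L : Level) (Snext deep : List ℕ) (hok : LevelOK n pN np L Snext deep)
    (hdeep : ∀ i ∈ deep, i < np ∧ P n pN pM i ∈ grp n pN pM Snext) :
    ∀ g ∈ grp n pN pM L.S, g ⟨L.b, hok.1⟩ = ⟨L.b, hok.1⟩ → g ∈ grp n pN pM Snext := by
  classical
  obtain ⟨hU, hle, hcard⟩ := level_spec hv hid L Snext deep hok hdeep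
  obtain ⟨hb, hSlt, hUlt, hhead, htree, hsift, hnest, hfix, hnodup⟩ := hok
  have hnd := nodup_points (pM := pM) hv hUlt ⟨L.b, hb⟩ hnodup
  have hlen : 0 < L.U.length := by
    cases hUl : L.U with
    | nil => rw [hUl] at hhead; simp at hhead
    | cons a l => simp
  apply mem_of_fix hle ⟨L.b, hb⟩
    (grp_fix hv (fun i hi => hSlt i (hnest i hi)) hb hfix)
    (L.U.map (fun i => (P n pN pM i) ⟨L.b, hb⟩)).toFinset
  · intro q hq
    rw [List.mem_toFinset, List.mem_map] at hq
    obtain ⟨i, hi, rfl⟩ := hq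
    exact ⟨_, hU i hi, rfl⟩
  · rw [List.toFinset_card_of_nodup hnd, List.length_map]
    exact hlen
  · rw [List.toFinset_card_of_nodup hnd, List.length_map]
    exact hcard

end level

/-! ### the model of `J₁` -/

theorem chain1 : ChainOK 266 pN 301 [L1, L2, L3] := ⟨lv1, lv2, lv3, trivial⟩
theorem chain2 : ChainOK 266 pN 301 [L2, L3] := ⟨lv2, lv3, trivial⟩
theorem chain3 : ChainOK 266 pN 301 [L3] := ⟨lv3, trivial⟩
theorem chain4 : ChainOK 266 pN 301 [] := trivial

/-- an element of the model fixing the four base points is trivial -/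
theorem base_trivial (g : Equiv.Perm (Fin 266)) (hg : g ∈ K) (h0 : g ⟨0, by norm_num⟩ = ⟨0, by norm_num⟩)
    (h1 : g ⟨11, by norm_num⟩ = ⟨11, by norm_num⟩) (h2 : g ⟨144, by norm_num⟩ = ⟨144, by norm_num⟩)
    (h3 : g ⟨1, by norm_num⟩ = ⟨1, by norm_num⟩) : g = 1 := by
  have s0 := level_stab (pM := pM) valid_all id_tab L0 L1.S (deepOf [L1, L2, L3]) lv0
    (chain_spec (pM := pM) valid_all id_tab _ chain1).1 g hg h0
  have s1 := level_stab (pM := pM) valid_all id_tab L1 L2.S (deepOf [L2, L3]) lv1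
    (chain_spec (pM := pM) valid_all id_tab _ chain2).1 g s0 h1
  have s2 := level_stab (pM := pM) valid_all id_tab L2 L3.S (deepOf [L3]) lv2
    (chain_spec (pM := pM) valid_all id_tab _ chain3).1 g s1 h2
  have s3 := level_stab (pM := pM) valid_all id_tab L3 [] (deepOf []) lv3
    (chain_spec (pM := pM) valid_all id_tab _ chain4).1 g s2 h3
  rw [grp_nil] at s3
  exact Subgroup.mem_bot.mp s3

/-- the four base points -/
def base : List ℕ := [0, 11, 144, 1]

/-- two elements of the model that agree at the base points are equal -/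
theorem eq_of_base (g h : Equiv.Perm (Fin 266)) (hg : g ∈ K) (hh : h ∈ K)
    (hb : ∀ b : Fin 266, b.val ∈ base → g b = h b) : g = h := by
  have key : h⁻¹ * g = 1 := by
    apply base_trivial _ (Subgroup.mul_mem _ (Subgroup.inv_mem _ hh) hg)
    · rw [Equiv.Perm.mul_apply, hb _ (by decide)]; exact Equiv.Perm.inv_eq_iff_eq.mpr rfl
    · rw [Equiv.Perm.mul_apply, hb _ (by decide)]; exact Equiv.Perm.inv_eq_iff_eq.mpr rfl
    · rw [Equiv.Perm.mul_apply, hb _ (by decide)]; exact Equiv.Perm.inv_eq_iff_eq.mpr rfl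
    · rw [Equiv.Perm.mul_apply, hb _ (by decide)]; exact Equiv.Perm.inv_eq_iff_eq.mpr rfl
  calc g = h * (h⁻¹ * g) := by group
    _ = h := by rw [key, mul_one]

end Cfsg.Agent.Lib.Helper9.J1Base
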