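import Mathlib

set_option autoImplicit false

/-! Groups given by a multiplication table on `Fin n`: the range of an injective map
`f : Fin n → G` that is closed under multiplication according to a table is a subgroup of order `n`,
and two such subgroups with the same table are isomorphic.  Also: any two subgroups of order
`p ^ k` in a finite group whose order has `p`-adic valuation `k` are isomorphic. -/

namespace Cfsg.Agent.Lib.Helper9.SyT

/-- a multiplication table realised inside a group -/
structure TabGrp (G : Type*) [Group G] (n : ℕ) where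
  f : Fin n → G
  m : Fin n → Fin n → Fin n
  e : Fin n
  iv : Fin n → Fin n
  inj : Function.Injective f
  hm : ∀ i j, f i * f j = f (m i j)
  he : f e = 1
  hiv : ∀ i, m i (iv i) = e

variable {G H : Type*} [Group G] [Group H] {n : ℕ}

theorem TabGrp.mul_iv (T : TabGrp G n) (i : Fin n) : T.f i * T.f (T.iv i) = 1 := by
  rw [T.hm, T.hiv, T.he]

theorem TabGrp.inv_eq (T : TabGrp G n) (i : Fin n) : (T.f i)⁻¹ = T.f (T.iv i) :=
  inv_eq_of_mul_eq_one_right (T.mul_iv i)

/-- the subgroup with underlying set the range of `f` -/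
def TabGrp.sub (T : TabGrp G n) : Subgroup G where
  carrier := Set.range T.f
  mul_mem' := by
    rintro _ _ ⟨i, rfl⟩ ⟨j, rfl⟩
    exact ⟨T.m i j, (T.hm i j).symm⟩
  one_mem' := ⟨T.e, T.he⟩
  inv_mem' := by
    rintro _ ⟨i, rfl⟩
    exact ⟨T.iv i, (T.inv_eq i).symm⟩

theorem TabGrp.mem_sub (T : TabGrp G n) (x : G) : x ∈ T.sub ↔ ∃ i, T.f i = x := Iff.rfl

/-- the parametrisation of the subgroup by `Fin n` -/
noncomputable def TabGrp.par (T : TabGrp G n) : Fin n ≃ ↥T.sub :=
  Equiv.ofBijective (fun i => ⟨T.f i, ⟨i, rfl⟩⟩)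
    ⟨fun i j h => T.inj (congrArg Subtype.val h), fun ⟨_, i, hi⟩ => ⟨i, Subtype.ext hi⟩⟩

theorem TabGrp.par_apply (T : TabGrp G n) (i : Fin n) : (T.par i : G) = T.f i := rfl

theorem TabGrp.card_sub (T : TabGrp G n) : Nat.card ↥T.sub = n := by
  rw [← Nat.card_congr T.par, Nat.card_eq_fintype_card, Fintype.card_fin]

theorem TabGrp.par_mul (T : TabGrp G n) (i j : Fin n) : T.par (T.m i j) = T.par i * T.par j :=
  Subtype.ext (T.hm i j).symm

/-- two realisations of the same table are isomorphic -/
noncomputable def TabGrp.iso (T : TabGrp G n) (T' : TabGrp H n) (h : T.m = T'.m) :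
    ↥T.sub ≃* ↥T'.sub where
  toEquiv := T.par.symm.trans T'.par
  map_mul' := by
    intro x y
    obtain ⟨i, rfl⟩ := T.par.surjective x
    obtain ⟨j, rfl⟩ := T.par.surjective y
    rw [← T.par_mul]
    simp only [Equiv.toFun_as_coe, Equiv.trans_apply, Equiv.symm_apply_apply]
    rw [h, T'.par_mul]

/-- left cancellation in the table -/
theorem TabGrp.m_left_cancel (T : TabGrp G n) (a j j' : Fin n) (h : T.m a j = T.m a j') :
    j = j' := by
  apply T.inj
  have := congrArg T.f h
  rw [← T.hm, ← T.hm] at this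
  exact mul_left_cancel this

theorem TabGrp.iv_mul (T : TabGrp G n) (i : Fin n) : T.m (T.iv i) i = T.e := by
  apply T.inj
  rw [← T.hm, T.he, ← T.inv_eq]
  exact inv_mul_cancel _

/-- a map compatible with the table and with trivial kernel is injective -/
theorem TabGrp.inj_of_kernel (T : TabGrp G n) (g : Fin n → H)
    (hg : ∀ i j, g i * g j = g (T.m i j)) (he : g T.e = 1) (hk : ∀ k, g k = 1 → k = T.e) :
    Function.Injective g := by
  intro i j hij
  have h1 : g (T.iv i) * g i = 1 := by rw [hg, T.iv_mul, he]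
  have h2 : g (T.m (T.iv i) j) = 1 := by rw [← hg, ← hij, h1]
  have h3 := hk _ h2
  have h4 : T.m (T.iv i) j = T.m (T.iv i) i := by rw [h3, T.iv_mul]
  exact (T.m_left_cancel _ _ _ h4).symm

/-- transport of the table to another group -/
def TabGrp.push (T : TabGrp G n) (g : Fin n → H)
    (hg : ∀ i j, g i * g j = g (T.m i j)) (he : g T.e = 1) (hk : ∀ k, g k = 1 → k = T.e) :
    TabGrp H n where
  f := g
  m := T.m
  e := T.e
  iv := T.iv
  inj := T.inj_of_kernel g hg he hk
  hm := hg
  he := he
  hiv := T.hiv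

/-- subgroups of full `p`-power order are isomorphic -/
theorem iso_of_card_eq {p k : ℕ} [Fact p.Prime] [Finite G]
    (hG : (Nat.card G).factorization p = k) (A B : Subgroup G)
    (hA : Nat.card A = p ^ k) (hB : Nat.card B = p ^ k) : Nonempty (↥A ≃* ↥B) := by
  let P : Sylow p G := Sylow.ofCard A (by rw [hA, hG])
  let Q : Sylow p G := Sylow.ofCard B (by rw [hB, hG])
  obtain ⟨g, hg⟩ := MulAction.exists_smul_eq G P Q
  have e1 := Sylow.equivSMul P g
  rw [hg] at e1
  exact ⟨e1⟩

/-- every Sylow subgroup is isomorphic to a given subgroup of full `p`-power order -/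
theorem sylow_iso {p k : ℕ} [Fact p.Prime] [Finite G]
    (hG : (Nat.card G).factorization p = k) (A : Subgroup G) (hA : Nat.card A = p ^ k)
    (P : Sylow p G) : Nonempty (↥(P : Subgroup G) ≃* ↥A) := by
  apply iso_of_card_eq hG
  · rw [P.card_eq_multiplicity, hG]
  · exact hA

theorem factorization_two_of_dvd (N k : ℕ) (hN : N ≠ 0) (h1 : 2 ^ k ∣ N) (h2 : ¬ 2 ^ (k + 1) ∣ N) :
    N.factorization 2 = k := by
  have a := (Nat.prime_two.pow_dvd_iff_le_factorization hN).mp h1
  have b : ¬ (k + 1 ≤ N.factorization 2) := fun h =>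
    h2 ((Nat.prime_two.pow_dvd_iff_le_factorization hN).mpr h)
  omega

section cayley
variable {M : Type*} [Monoid M] {n k : ℕ}

theorem foldl_mul (QB : Fin n → M) (BT : Fin k → M) (r : Fin n → Fin k → Fin n)
    (h2 : ∀ i t, QB i * BT t = QB (r i t)) (w : List (Fin k)) (i : Fin n) :
    QB i * (w.map BT).prod = QB (w.foldl r i) := by
  induction w generalizing i with
  | nil => simp
  | cons t w ih => rw [List.map_cons, List.prod_cons, ← mul_assoc, h2, ih, List.foldl_cons]

theorem cayley_mul (QB : Fin n → M) (BT : Fin k → M) (r : Fin n → Fin k → Fin n)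
    (h2 : ∀ i t, QB i * BT t = QB (r i t)) (e : Fin n) (he : QB e = 1)
    (wd : Fin n → List (Fin k)) (hW : ∀ j, (wd j).foldl r e = j) (i j : Fin n) :
    QB i * QB j = QB ((wd j).foldl r i) := by
  have hj : QB j = ((wd j).map BT).prod := by
    have := foldl_mul QB BT r h2 (wd j) e
    rw [he, one_mul, hW] at this
    exact this.symm
  conv_lhs => rw [hj]
  exact foldl_mul QB BT r h2 (wd j) i

/-- a table group from Cayley graph data: right multiplication by generators, and a word
reaching each element from the identity -/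
def TabGrp.ofCayley {G : Type*} [Group G] (f : Fin n → G) (a : Fin k → G)
    (r : Fin n → Fin k → Fin n) (wd : Fin n → List (Fin k)) (e : Fin n) (iv : Fin n → Fin n)
    (inj : Function.Injective f) (he : f e = 1) (h2 : ∀ i t, f i * a t = f (r i t))
    (hW : ∀ j, (wd j).foldl r e = j) (hiv : ∀ i, (wd (iv i)).foldl r i = e) : TabGrp G n where
  f := f
  m := fun i j => (wd j).foldl r i
  e := e
  iv := iv
  inj := inj
  hm := cayley_mul f a r h2 e he wd hW
  he := he
  hiv := hiv

end cayley

end Cfsg.Agent.Lib.Helper9.SyT
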