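import Mathlib
import Cfsg.Agent.Lib.Helper9.SyTA

set_option autoImplicit false

/-! The alternating group `A₅` as a table group of permutations of `Fin 5` (generated data). -/

namespace Cfsg.Agent.Lib.Helper9.J1C

open Cfsg.Agent.Lib.Helper9.SyT

def P5 : List (List ℕ) := [[0, 1, 2, 3, 4], [1, 0, 3, 2, 4], [0, 2, 4, 3, 1], [1, 3, 4, 2, 0], [2, 0, 3, 4, 1], [0, 4, 1, 3, 2], [3, 1, 2, 4, 0], [1, 4, 0, 2, 3], [2, 3, 1, 4, 0], [4, 0, 3, 1, 2], [3, 2, 0, 4, 1], [4, 1, 2, 0, 3], [3, 2, 4, 1, 0], [2, 1, 0, 4, 3], [4, 3, 2, 1, 0], [2, 3, 4, 0, 1], [3, 0, 1, 4, 2], [4, 2, 3, 0, 1], [3, 4, 0, 1, 2], [1, 2, 4, 0, 3], [3, 4, 1, 2, 0], [4, 2, 0, 1, 3], [2, 4, 1, 0, 3], [0, 3, 4, 1, 2], [2, 4, 0, 3, 1], [4, 3, 1, 0, 2], [3, 0, 2, 1, 4], [1, 4, 3, 0, 2], [3, 1, 0, 2, 4], [2, 1, 3, 0, 4], [0, 4, 2, 1, 3], [2, 0,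 1, 3, 4], [0, 3, 1, 2, 4], [4, 1, 0, 3, 2], [1, 3, 2, 0, 4], [3, 0, 4, 2, 1], [1, 2, 0, 3, 4], [4, 0, 1, 2, 3], [0, 2, 3, 1, 4], [2, 1, 4, 3, 0], [0, 1, 4, 2, 3], [4, 0, 2, 3, 1], [0, 3, 2, 4, 1], [1, 0, 4, 3, 2], [4, 1, 3, 2, 0], [1, 2, 3, 4, 0], [1, 0, 2, 4, 3], [0, 4, 3, 2, 1], [4, 2, 1, 3, 0], [0, 2, 1, 4, 3], [0, 1, 3, 4, 2], [1, 4, 2, 3, 0], [4, 3, 0, 2, 1], [1, 3, 0, 4, 2], [2, 4, 3, 1, 0], [2, 0, 4, 1, 3], [3, 4, 2, 0, 1], [3, 1, 4, 0, 2], [2, 3, 0, 1, 4], [3, 2, 1, 0, 4]]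

def IV : List ℕ := [0, 1, 5, 9, 7, 2, 11, 4, 21, 3, 22, 6, 25, 13, 14, 18, 19, 20, 15, 16, 17, 8, 10, 23, 24, 12, 34, 35, 29, 28, 42, 36, 38, 39, 26, 27, 31, 45, 32, 33, 50, 51, 30, 43, 44, 37, 46, 47, 48, 49, 40, 41, 54, 55, 52, 53, 56, 57, 58, 59]

def RT : List (List ℕ) := [[1, 2], [0, 3], [4, 5], [6, 7], [2, 8], [9, 0], [3, 10], [11, 1], [12, 13], [5, 14], [15, 16], [7, 17], [8, 18], [19, 4], [20, 21], [10, 22], [23, 6], [24, 25], [25, 26], [13, 27], [14, 28], [22, 9], [21, 29], [16, 30], [17, 31], [18, 11], [32, 12], [33, 34], [34, 35], [36, 15], [37, 38], [38, 39], [26, 40], [27, 41], [28, 19], [42, 20], [29, 43], [30, 44], [31, 23], [45, 24], [46, 47], [47, 48], [35, 49], [50, 51], [51, 52], [39, 53], [40, 45], [41, 32], [54, 33], [55, 50], [43, 42], [44, 36], [56, 37], [57, 46], [48, 58], [49,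 54], [52, 59], [53, 56], [59, 55], [58, 57]]

def WD : List (List (Fin 2)) := [[], [0], [1], [0, 1], [1, 0], [1, 1], [0, 1, 0], [0, 1, 1], [1, 0, 1], [1, 1, 0], [0, 1, 0, 1], [0, 1, 1, 0], [1, 0, 1, 0], [1, 0, 1, 1], [1, 1, 0, 1], [0, 1, 0, 1, 0], [0, 1, 0, 1, 1], [0, 1, 1, 0, 1], [1, 0, 1, 0, 1], [1, 0, 1, 1, 0], [1, 1, 0, 1, 0], [1, 1, 0, 1, 1], [0, 1, 0, 1, 0, 1], [0, 1, 0, 1, 1, 0], [0, 1, 1, 0, 1, 0], [0, 1, 1, 0, 1, 1], [1, 0, 1, 0, 1, 1], [1, 0, 1, 1, 0, 1], [1, 1, 0, 1, 0, 1], [0, 1, 0, 1, 0, 1, 1], [0, 1, 0, 1, 1, 0, 1], [0, 1, 1, 0, 1, 0, 1], [1, 0, 1, 0, 1, 1, 0], [1, 0, 1, 1, 0, 1, 0], [1, 0, 1, 1, 0, 1, 1], [1, 1, 0, 1, 0, 1, 1], [0, 1, 0, 1, 0, 1, 1, 0], [0, 1, 0, 1, 1, 0, 1, 0], [0, 1, 0, 1, 1, 0, 1, 1], [0, 1, 1, 0, 1, 0, 1, 1], [1, 0, 1, 0, 1, 1, 0, 1], [1, 0, 1, 1, 0, 1, 0, 1], [1,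 1, 0, 1, 0, 1, 1, 0], [0, 1, 0, 1, 0, 1, 1, 0, 1], [0, 1, 0, 1, 1, 0, 1, 0, 1], [0, 1, 1, 0, 1, 0, 1, 1, 0], [1, 0, 1, 0, 1, 1, 0, 1, 0], [1, 0, 1, 0, 1, 1, 0, 1, 1], [1, 0, 1, 1, 0, 1, 0, 1, 1], [1, 1, 0, 1, 0, 1, 1, 0, 1], [0, 1, 0, 1, 0, 1, 1, 0, 1, 0], [0, 1, 0, 1, 0, 1, 1, 0, 1, 1], [0, 1, 0, 1, 1, 0, 1, 0, 1, 1], [0, 1, 1, 0, 1, 0, 1, 1, 0, 1], [1, 0, 1, 1, 0, 1, 0, 1, 1, 0], [1, 1, 0, 1, 0, 1, 1, 0, 1, 0], [0, 1, 0, 1, 1, 0, 1, 0, 1, 1, 0], [0, 1, 1, 0, 1, 0, 1, 1, 0, 1, 0], [1, 0, 1, 1, 0, 1, 0, 1, 1, 0, 1], [0, 1, 0, 1, 1, 0, 1, 0, 1, 1, 0, 1]]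

def pg (i : Fin 60) (x : Fin 5) : Fin 5 :=
  ⟨(P5.getD i.val []).getD x.val 0 % 5, Nat.mod_lt _ (by norm_num)⟩

def ivF (i : Fin 60) : Fin 60 := ⟨IV.getD i.val 0 % 60, Nat.mod_lt _ (by norm_num)⟩

def rF (i : Fin 60) (c : Fin 2) : Fin 60 :=
  ⟨(RT.getD i.val []).getD c.val 0 % 60, Nat.mod_lt _ (by norm_num)⟩

def wdF (j : Fin 60) : List (Fin 2) := WD.getD j.val []

theorem pg_iv : ∀ i x, pg (ivF i) (pg i x) = x := by decide +kernel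

theorem pg_iv' : ∀ i x, pg i (pg (ivF i) x) = x := by decide +kernel

/-- the permutation with index `i` -/
def fP (i : Fin 60) : Equiv.Perm (Fin 5) := ⟨pg i, pg (ivF i), pg_iv i, pg_iv' i⟩

/-- the two generators -/
def aG (c : Fin 2) : Equiv.Perm (Fin 5) := fP (rF 0 c)

theorem step_b : ∀ i c x, pg i (pg (rF 0 c) x) = pg (rF i c) x := by decide +kernel

theorem h2 (i : Fin 60) (c : Fin 2) : fP i * aG c = fP (rF i c) :=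
  Equiv.ext (step_b i c)

theorem pg_zero : ∀ x, pg 0 x = x := by decide +kernel

theorem he : fP 0 = 1 := Equiv.ext pg_zero

theorem hW : ∀ j, (wdF j).foldl rF 0 = j := by decide +kernel

theorem hiv : ∀ i, (wdF (ivF i)).foldl rF i = 0 := by decide +kernel

theorem inj_b : ∀ i j : Fin 60, (∀ x, pg i x = pg j x) → i = j := by decide +kernel

theorem inj : Function.Injective fP := by
  intro i j h
  apply inj_b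
  intro x
  exact congrFun (congrArg (fun f : Equiv.Perm (Fin 5) => (f : Fin 5 → Fin 5)) h) x

/-- the table group -/
def T1 : TabGrp (Equiv.Perm (Fin 5)) 60 := TabGrp.ofCayley fP aG rF wdF 0 ivF inj he h2 hW hiv

theorem T1_sub : T1.sub = alternatingGroup (Fin 5) := by
  apply Equiv.Perm.eq_alternatingGroup_of_index_eq_two
  have h1 := Subgroup.card_mul_index T1.sub
  rw [T1.card_sub, Nat.card_eq_fintype_card, Fintype.card_perm, Fintype.card_fin] at h1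
  have h2 : (5 : ℕ).factorial = 60 * 2 := by decide
  rw [h2] at h1
  exact Nat.eq_of_mul_eq_mul_left (by norm_num) h1

end Cfsg.Agent.Lib.Helper9.J1C
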