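import Mathlib
import Cfsg.Agent.Lib.Helper9.J1C1
import Cfsg.Agent.Lib.Helper8.J1c

set_option autoImplicit false

/-! A copy of `A₅` inside the centraliser of an involution of the permutation model of `J₁`
(generated data, kernel-checked). -/

namespace Cfsg.Agent.Lib.Helper9.J1C

open Cfsg Cfsg.Agent.Lib.Helper9.SyT Cfsg.Agent.Lib.Helper8.SS Cfsg.Agent.Lib.Helper8.J1

/-- words (in the transversal elements of the stabiliser chain) of the sixty elements -/
def KW : List (List ℕ) := [[], [235, 16, 298], [257, 284, 298], [136, 281, 294, 300], [108, 285, 295, 298], [185, 281, 296, 298], [132, 21, 300], [219, 281, 291, 23], [204, 288, 291, 23], [100, 287, 21], [123, 282, 291, 298], [240, 17, 293, 298], [37, 287, 291, 299], [165, 17, 290, 299], [200, 286, 293, 298], [113, 16, 291, 300], [237, 9, 21, 300], [256, 9, 295, 299], [40, 16, 290, 299], [239, 292, 299], [90, 288, 294], [223, 283, 291, 23], [73, 21, 299], [151, 288, 296, 300],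 [106, 292, 298], [45, 286, 292], [230, 17, 294, 299], [62, 288, 297, 298], [258, 290, 23], [212, 288, 297, 300], [188, 283, 292, 299], [48, 283, 289, 299], [273, 286, 291, 298], [255, 16, 296, 300], [231, 293, 23], [175, 281, 296, 300], [60, 286, 291, 23], [39, 287, 294, 299], [47, 16, 290, 298], [126, 287, 297, 298], [272, 281, 297, 298], [125, 17, 21, 298], [161, 283, 295, 300], [211, 287, 291, 299], [206, 17, 295, 298], [178, 16, 21, 300], [44, 285, 297, 23], [88, 281, 297, 299], [56, 284, 294, 300], [152, 281, 295, 299], [164, 286, 300], [115, 281, 297, 23], [154, 281, 23], [138, 17, 21], [226, 284, 295, 300], [75, 290, 23], [79, 290, 300], [244, 288, 297, 23], [27, 285, 292, 299], [6, 285, 292, 300]]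

/-- the word of the involution -/
def TW : List ℕ := [140, 291, 298]

/-- a point moved by the element with index `i` -/
def MV : List ℕ := [0, 0, 0, 0, 0, 0, 0, 0, 0, 0, 0, 0, 0, 0, 0, 0, 0, 0, 0, 0, 0, 0, 0, 0, 0, 0, 0, 0, 0, 0, 0, 0, 0, 0, 0, 0, 0, 0, 0, 0, 0, 0, 0, 0, 0, 0, 0, 0, 0, 0, 0, 0, 0, 0, 0, 0, 0, 0, 0, 0]

/-- a point at which the element with index `i` differs from the involution -/
def DF : List ℕ := [0, 0, 0, 0, 0, 0, 0, 0, 0, 0, 0, 0, 0, 0, 0, 0, 0, 0, 0, 0, 0, 0, 0, 0, 0, 0, 0, 0, 0, 0, 0, 0, 0, 0, 0, 0, 0, 0, 0, 0, 0, 0, 0, 0, 0, 0, 0, 0, 0, 0, 0, 0, 0, 0, 0, 0, 0, 0, 0, 0]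

def kwF (i : Fin 60) : List ℕ := KW.getD i.val []

theorem deep_mem (i : ℕ) (hi : i ∈ deepOf [L0, L1, L2, L3]) :
    i < 301 ∧ P 266 pN pM i ∈ K :=
  (chain_spec (pM := pM) valid_all id_tab _ chain).1 i hi

theorem wordD_mem (w : List ℕ) (h : ∀ i ∈ w, i ∈ deepOf [L0, L1, L2, L3]) :
    prodW 266 pN pM w ∈ K :=
  prodW_mem (fun i hi => (deep_mem i (h i hi)).2)

theorem wordD_valid (w : List ℕ) (h : ∀ i ∈ w, i ∈ deepOf [L0, L1, L2, L3]) :
    ∀ i ∈ w, Valid 266 (pN i) (pM i) :=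
  fun i hi => valid_all i (deep_mem i (h i hi)).1

theorem wordD_eq (w w' : List ℕ) (h : ∀ i ∈ w, i ∈ deepOf [L0, L1, L2, L3])
    (h' : ∀ i ∈ w', i ∈ deepOf [L0, L1, L2, L3])
    (hev : ∀ x < 266, ev pN w x = ev pN w' x) : prodW 266 pN pM w = prodW 266 pN pM w' :=
  prodW_eq_of_ev 266 pN pM (wordD_valid w h) (wordD_valid w' h') hev

theorem mem_append_deep {w w' : List ℕ} (h : ∀ i ∈ w, i ∈ deepOf [L0, L1, L2, L3])
    (h' : ∀ i ∈ w', i ∈ deepOf [L0, L1, L2, L3]) :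
    ∀ i ∈ w ++ w', i ∈ deepOf [L0, L1, L2, L3] := by
  intro i hi
  rcases List.mem_append.mp hi with hi | hi
  · exact h i hi
  · exact h' i hi

theorem kw_mem : ∀ i : Fin 60, ∀ l ∈ kwF i, l ∈ deepOf [L0, L1, L2, L3] := by decide +kernel

theorem tw_mem : ∀ l ∈ TW, l ∈ deepOf [L0, L1, L2, L3] := by decide +kernel

theorem step_k : ∀ (i : Fin 60) (c : Fin 2), ∀ x < 266,
    ev pN (kwF i ++ kwF (rF 0 c)) x = ev pN (kwF (rF i c)) x := by decide +kernel

theorem comm_k : ∀ i : Fin 60, ∀ x < 266, ev pN (kwF i ++ TW) x = ev pN (TW ++ kwF i) x := by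
  decide +kernel

theorem moved_k : ∀ i : Fin 60, i = 0 ∨
    (MV.getD i.val 0 < 266 ∧ ev pN (kwF i) (MV.getD i.val 0) ≠ MV.getD i.val 0) := by
  decide +kernel

theorem differ_k : ∀ i : Fin 60,
    DF.getD i.val 0 < 266 ∧ ev pN (kwF i) (DF.getD i.val 0) ≠ ev pN TW (DF.getD i.val 0) := by
  decide +kernel

theorem tw_sq : ∀ x < 266, ev pN (TW ++ TW) x = ev pN [] x := by decide +kernel

theorem tw_ne : ev pN TW 0 ≠ 0 := by decide +kernel

end Cfsg.Agent.Lib.Helper9.J1C
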