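import Mathlib
import Cfsg.Agent.Lib.Helper9.J1C3

set_option autoImplicit false

/-! The centraliser of an involution of `J₁` is isomorphic to `C₂ × A₅`. -/

namespace Cfsg.Agent.Lib.Helper9.J1C

open Cfsg Cfsg.Agent.Lib.Helper9.SyT Cfsg.Agent.Lib.Helper8.SS Cfsg.Agent.Lib.Helper8.J1

/-! ### the copy of `A₅` -/

noncomputable def gK (i : Fin 60) : ↥K := ⟨prodW 266 pN pM (kwF i), wordD_mem _ (kw_mem i)⟩

noncomputable def tK : ↥K := ⟨prodW 266 pN pM TW, wordD_mem _ tw_mem⟩

theorem gK_val (i : Fin 60) : ((gK i : ↥K) : Equiv.Perm (Fin 266)) = prodW 266 pN pM (kwF i) := rfl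

theorem tK_val : ((tK : ↥K) : Equiv.Perm (Fin 266)) = prodW 266 pN pM TW := rfl

theorem gK_step (i : Fin 60) (c : Fin 2) : gK i * gK (rF 0 c) = gK (rF i c) := by
  apply Subtype.ext
  rw [Subgroup.coe_mul, gK_val, gK_val, gK_val, ← prodW_append]
  exact wordD_eq _ _ (mem_append_deep (kw_mem i) (kw_mem _)) (kw_mem _) (step_k i c)

theorem kwF_zero : kwF 0 = [] := by decide

theorem gK_zero : gK 0 = 1 := by
  apply Subtype.ext
  rw [gK_val, kwF_zero]
  rfl

theorem gK_mul (i j : Fin 60) : gK i * gK j = gK (T1.m i j) :=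
  cayley_mul gK (fun c => gK (rF 0 c)) rF gK_step 0 gK_zero wdF hW i j

theorem gK_ker (k : Fin 60) (h : gK k = 1) : k = T1.e := by
  rcases moved_k k with h0 | ⟨hlt, hne⟩
  · exact h0
  · exfalso
    apply hne
    have h1 : prodW 266 pN pM (kwF k) = 1 := by rw [← gK_val, h]; rfl
    have h2 := prodW_apply 266 pN pM (wordD_valid _ (kw_mem k)) ⟨MV.getD k.val 0, hlt⟩
    rw [h1] at h2
    exact h2.symm

/-- the table group inside the permutation model -/
noncomputable def T2 : TabGrp ↥K 60 := T1.push gK gK_mul gK_zero gK_ker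

/-- the copy of `A₅` -/
noncomputable def A : Subgroup ↥K := T2.sub

theorem card_A : Nat.card ↥A = 60 := T2.card_sub

theorem mem_A (x : ↥K) : x ∈ A ↔ ∃ i, gK i = x := Iff.rfl

noncomputable def isoA : ↥(alternatingGroup (Fin 5)) ≃* ↥A :=
  (MulEquiv.subgroupCongr T1_sub).symm.trans (T1.iso T2 rfl)

/-! ### the involution -/

theorem tK_sq : tK * tK = 1 := by
  apply Subtype.ext
  rw [Subgroup.coe_mul, tK_val, ← prodW_append]
  exact wordD_eq _ [] (mem_append_deep tw_mem tw_mem) (by simp) tw_sq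

theorem tK_ne : tK ≠ 1 := by
  intro h
  apply tw_ne
  have h1 : prodW 266 pN pM TW = 1 := by rw [← tK_val, h]; rfl
  have h2 := prodW_apply 266 pN pM (wordD_valid _ tw_mem) (0 : Fin 266)
  rw [h1] at h2
  exact h2.symm

theorem orderOf_tK : orderOf tK = 2 := by
  haveI : Fact (Nat.Prime 2) := ⟨Nat.prime_two⟩
  exact orderOf_eq_prime (by rw [pow_two]; exact tK_sq) tK_ne

theorem gK_comm (i : Fin 60) : gK i * tK = tK * gK i := by
  apply Subtype.ext
  rw [Subgroup.coe_mul, Subgroup.coe_mul, gK_val, tK_val, ← prodW_append, ← prodW_append]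
  exact wordD_eq _ _ (mem_append_deep (kw_mem i) tw_mem) (mem_append_deep tw_mem (kw_mem i))
    (comm_k i)

theorem gK_ne_t (i : Fin 60) : gK i ≠ tK := by
  intro h
  obtain ⟨hlt, hne⟩ := differ_k i
  apply hne
  have h1 : prodW 266 pN pM (kwF i) = prodW 266 pN pM TW := by rw [← gK_val, h]; rfl
  have h2 := prodW_apply 266 pN pM (wordD_valid _ (kw_mem i)) ⟨DF.getD i.val 0, hlt⟩
  have h3 := prodW_apply 266 pN pM (wordD_valid _ tw_mem) ⟨DF.getD i.val 0, hlt⟩
  rw [h1] at h2
  rw [← h2, ← h3]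

/-! ### the centraliser -/

/-- the centraliser of the involution -/
noncomputable def C : Subgroup ↥K := Subgroup.centralizer ({tK} : Set ↥K)

theorem mem_C (g : ↥K) : g ∈ C ↔ tK * g = g * tK := by
  unfold C
  rw [Subgroup.mem_centralizer_iff]
  simp only [Set.mem_singleton_iff, forall_eq]

theorem A_le_C : A ≤ C := by
  intro x hx
  obtain ⟨i, rfl⟩ := (mem_A x).mp hx
  rw [mem_C]
  exact (gK_comm i).symm

theorem tK_mem_C : tK ∈ C := by rw [mem_C]

/-- the key of the conjugate of the involution by `g` -/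
noncomputable def kap (g : ↥K) : ℕ :=
  (((g * tK * g⁻¹ : ↥K) : Equiv.Perm (Fin 266)) (⟨8, by norm_num⟩ : Fin 266)).1 +
    1024 * (((g * tK * g⁻¹ : ↥K) : Equiv.Perm (Fin 266)) (⟨99, by norm_num⟩ : Fin 266)).1 +
    1048576 * (((g * tK * g⁻¹ : ↥K) : Equiv.Perm (Fin 266)) (⟨242, by norm_num⟩ : Fin 266)).1

theorem kap_coset (g g' : ↥K) (h : g⁻¹ * g' ∈ C) : kap g = kap g' := by
  have h1 : g' * tK * g'⁻¹ = g * tK * g⁻¹ := by
    rw [mem_C] at h
    have h2 : g' = g * (g⁻¹ * g') := by group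
    rw [h2]
    calc g * (g⁻¹ * g') * tK * (g * (g⁻¹ * g'))⁻¹
        = g * (g⁻¹ * g' * tK) * (g⁻¹ * g')⁻¹ * g⁻¹ := by group
      _ = g * (tK * (g⁻¹ * g')) * (g⁻¹ * g')⁻¹ * g⁻¹ := by rw [h]
      _ = g * tK * g⁻¹ := by group
  unfold kap
  rw [h1]

theorem valid_signed (w : List ℕ) (hw : ∀ i ∈ w, i ∈ deepOf [L0, L1, L2, L3]) :
    ∀ l ∈ fwd w ++ fwd TW ++ bwd w, Valid 266 (pN l.1) (pM l.1) := by
  intro l hl
  simp only [List.mem_append, fwd, bwd, List.mem_map, List.mem_reverse] at hl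
  rcases hl with (⟨i, hi, rfl⟩ | ⟨i, hi, rfl⟩) | ⟨i, hi, rfl⟩
  · exact wordD_valid w hw i hi
  · exact wordD_valid TW tw_mem i hi
  · exact wordD_valid w hw i hi

theorem kap_word (w : List ℕ) (hw : ∀ i ∈ w, i ∈ deepOf [L0, L1, L2, L3]) :
    kap ⟨prodW 266 pN pM w, wordD_mem w hw⟩ = keyW w := by
  have h1 : (((⟨prodW 266 pN pM w, wordD_mem w hw⟩ : ↥K) * tK *
      (⟨prodW 266 pN pM w, wordD_mem w hw⟩ : ↥K)⁻¹ : ↥K) : Equiv.Perm (Fin 266)) =
      prodS 266 pN pM (fwd w ++ fwd TW ++ bwd w) := by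
    rw [prodS_append, prodS_append, prodS_fwd, prodS_fwd, prodS_bwd]
    rfl
  unfold kap keyW
  rw [h1, prodS_apply 266 pN pM (valid_signed w hw), prodS_apply 266 pN pM (valid_signed w hw),
    prodS_apply 266 pN pM (valid_signed w hw)]

theorem sortedB_pairwise : ∀ l : List ℕ, sortedB l = true → l.Pairwise (· < ·)
  | [], _ => List.Pairwise.nil
  | [a], _ => List.pairwise_singleton _ _
  | a :: b :: l, h => by
    simp only [sortedB, Bool.and_eq_true, decide_eq_true_eq] at h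
    have ih := sortedB_pairwise (b :: l) h.2
    rw [List.pairwise_cons]
    refine ⟨?_, ih⟩
    intro c hc
    rcases List.mem_cons.mp hc with rfl | hc
    · exact h.1
    · exact lt_trans h.1 ((List.pairwise_cons.mp ih).1 c hc)

theorem index_ge : 1463 ≤ C.index := by
  classical
  obtain ⟨gl, hgl⟩ : ∃ gl : List ↥K, gl =
      CW.pmap (fun w hw => (⟨prodW 266 pN pM w, wordD_mem w hw⟩ : ↥K)) cw_mem := ⟨_, rfl⟩
  have hκ : gl.map kap = CW.map keyW := by
    rw [hgl, List.map_pmap]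
    rw [List.pmap_congr_left (g := fun w (_ : ∀ i ∈ w, i ∈ deepOf [L0, L1, L2, L3]) => keyW w)
      (H₂ := cw_mem) CW (fun w _ h₁ _ => kap_word w h₁)]
    exact List.pmap_eq_map cw_mem
  have hnd : (gl.map kap).Nodup := by
    rw [hκ]
    exact (sortedB_pairwise _ cw_sorted).imp (fun h => ne_of_lt h)
  have hglnd : gl.Nodup := List.Nodup.of_map kap hnd
  have hq : (gl.map (QuotientGroup.mk : ↥K → ↥K ⧸ C)).Nodup := by
    apply List.Nodup.map_on _ hglnd
    intro x hx y hy hxy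
    apply List.inj_on_of_nodup_map hnd hx hy
    exact kap_coset x y (QuotientGroup.eq.mp hxy)
  haveI : Fintype (↥K ⧸ C) := Fintype.ofFinite _
  have hlen := List.Nodup.length_le_card hq
  rw [List.length_map, hgl, List.length_pmap, cw_length] at hlen
  rw [Subgroup.index, Nat.card_eq_fintype_card]
  exact hlen

theorem card_C_le : Nat.card ↥C ≤ 120 := by
  have h1 := Subgroup.card_mul_index C
  rw [card_K] at h1
  have h2 := index_ge
  by_contra hlt
  have h3 : 121 ≤ Nat.card ↥C := by omega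
  have h4 : 121 * 1463 ≤ Nat.card ↥C * C.index := Nat.mul_le_mul h3 h2
  omega

/-! ### the direct product -/

theorem comm_tA (m : ↥(Subgroup.zpowers tK)) (n : ↥A) :
    Commute ((Subgroup.zpowers tK).subtype m) (A.subtype n) := by
  obtain ⟨k, hk⟩ := Subgroup.mem_zpowers_iff.mp m.2
  have hn := (mem_C _).mp (A_le_C n.2)
  show (m : ↥K) * (n : ↥K) = (n : ↥K) * (m : ↥K)
  rw [← hk]
  exact ((show Commute tK (n : ↥K) from hn).zpow_left k).eq

/-- the product map -/
noncomputable def psi : ↥(Subgroup.zpowers tK) × ↥A →* ↥K :=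
  ((Subgroup.zpowers tK).subtype).noncommCoprod A.subtype comm_tA

theorem psi_apply (x : ↥(Subgroup.zpowers tK) × ↥A) : psi x = (x.1 : ↥K) * (x.2 : ↥K) := rfl

theorem psi_injective : Function.Injective psi := by
  unfold psi
  rw [MonoidHom.noncommCoprod_injective]
  refine ⟨Subgroup.subtype_injective _, Subgroup.subtype_injective _, ?_⟩
  rw [Subgroup.range_subtype, Subgroup.range_subtype, Subgroup.disjoint_def]
  intro x hx hxA
  rw [mem_zpowers_iff_mem_range_orderOf, orderOf_tK] at hx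
  simp only [Finset.mem_image, Finset.mem_range] at hx
  obtain ⟨j, hj, rfl⟩ := hx
  interval_cases j
  · exact pow_zero tK
  · exfalso
    rw [pow_one] at hxA
    obtain ⟨i, hi⟩ := (mem_A _).mp hxA
    exact gK_ne_t i hi

theorem psi_range : psi.range = C := by
  have hle : psi.range ≤ C := by
    rintro _ ⟨x, rfl⟩
    rw [psi_apply]
    apply Subgroup.mul_mem
    · obtain ⟨k, hk⟩ := Subgroup.mem_zpowers_iff.mp x.1.2
      rw [← hk]
      exact Subgroup.zpow_mem _ tK_mem_C k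
    · exact A_le_C x.2.2
  apply Subgroup.eq_of_le_of_card_ge hle
  have h1 : Nat.card ↥psi.range = 120 := by
    rw [← Nat.card_congr (MonoidHom.ofInjective psi_injective).toEquiv, Nat.card_prod,
      Nat.card_zpowers, orderOf_tK, card_A]
  rw [h1]
  exact card_C_le

theorem cent_iso : Nonempty (↥C ≃* Multiplicative (ZMod 2) × ↥(alternatingGroup (Fin 5))) := by
  haveI : Fact (Nat.Prime 2) := ⟨Nat.prime_two⟩
  have e1 : ↥C ≃* ↥psi.range := MulEquiv.subgroupCongr psi_range.symm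
  have e2 : ↥psi.range ≃* ↥(Subgroup.zpowers tK) × ↥A :=
    (MonoidHom.ofInjective psi_injective).symm
  have e3 : ↥(Subgroup.zpowers tK) ≃* Multiplicative (ZMod 2) := by
    apply mulEquivOfCyclicCardEq
    rw [Nat.card_zpowers, orderOf_tK, Nat.card_eq_fintype_card]
    rfl
  exact ⟨(e1.trans e2).trans (MulEquiv.prodCongr e3 isoA.symm)⟩

/-! ### transport to the matrix group -/

theorem centralizer_equiv {G H : Type*} [Group G] [Group H] (e : G ≃* H) (x : G) :
    Nonempty (↥(Subgroup.centralizer ({x} : Set G)) ≃*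
      ↥(Subgroup.centralizer ({e x} : Set H))) := by
  have hmap : (Subgroup.centralizer ({x} : Set G)).map e.toMonoidHom =
      Subgroup.centralizer ({e x} : Set H) := by
    ext y
    simp only [Subgroup.mem_map, Subgroup.mem_centralizer_iff, Set.mem_singleton_iff, forall_eq]
    constructor
    · rintro ⟨g, hg, rfl⟩
      show e x * e g = e g * e x
      rw [← map_mul, ← map_mul, hg]
    · intro hy
      refine ⟨e.symm y, ?_, e.apply_symm_apply y⟩
      apply e.injective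
      rw [map_mul, map_mul, e.apply_symm_apply]
      exact hy
  exact ⟨(e.subgroupMap _).trans (MulEquiv.subgroupCongr hmap)⟩

theorem QQ_one : QQ 1 = Spor.jankoX := Units.ext QQ_one_val

theorem QQ_two : QQ 2 = Spor.jankoY := Units.ext QQ_two_val

theorem main : ∃ t : ↥Spor.J1, orderOf t = 2 ∧
    Nonempty (↥(Subgroup.centralizer ({t} : Set ↥Spor.J1)) ≃*
      Multiplicative (ZMod 2) × ↥(alternatingGroup (Fin 5))) := by
  obtain ⟨e0⟩ := iso
  rw [QQ_one, QQ_two] at e0
  obtain ⟨e, -⟩ : ∃ e : ↥Spor.J1 ≃* ↥K, e = e0 := ⟨e0, rfl⟩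
  refine ⟨e.symm tK, ?_, ?_⟩
  · rw [MulEquiv.orderOf_eq, orderOf_tK]
  · obtain ⟨f1⟩ := centralizer_equiv e (e.symm tK)
    rw [e.apply_symm_apply] at f1
    obtain ⟨f2⟩ := cent_iso
    exact ⟨f1.trans f2⟩

end Cfsg.Agent.Lib.Helper9.J1C
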