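import Mathlib
import Cfsg.Agent.Lib.Helper8.J1c

set_option autoImplicit false

/-! Word identities in the permutation representation of `J₁` of degree 266 (kernel-checked). -/

namespace Cfsg.Agent.Lib.Helper9.SchurJ1

open Cfsg Cfsg.Agent.Lib.Helper8.SS Cfsg.Agent.Lib.Helper8.J1

/-! ### words -/

def w0 : List ℕ := [1, 2, 1, 2, 2, 2, 2]
def w1 : List ℕ := 1 :: (w0 ++ [1, 1, 1, 1, 1, 1])
def w2 : List ℕ := 1 :: 1 :: (w0 ++ [1, 1, 1, 1, 1])

theorem word_eq (w w' : List ℕ) (h : ∀ i ∈ w, i < 301) (h' : ∀ i ∈ w', i < 301)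
    (hev : ∀ x < 266, ev pN w x = ev pN w' x) : prodW 266 pN pM w = prodW 266 pN pM w' :=
  prodW_eq_of_ev 266 pN pM (fun i hi => valid_all i (h i hi)) (fun i hi => valid_all i (h' i hi))
    hev

theorem word_mem (w : List ℕ) (h : ∀ i ∈ w, i ∈ L0.S) : prodW 266 pN pM w ∈ K :=
  prodW_mem (fun i hi => P_mem_grp (h i hi))

theorem R1 : prodW 266 pN pM ([1] ++ w0) = prodW 266 pN pM (w1 ++ [1]) :=
  word_eq _ _ (by decide) (by decide) (by decide +kernel)

theorem R2 : prodW 266 pN pM ([1] ++ w1) = prodW 266 pN pM (w2 ++ [1]) :=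
  word_eq _ _ (by decide) (by decide) (by decide +kernel)

theorem R3 : prodW 266 pN pM ([1] ++ w2) = prodW 266 pN pM (w0 ++ w1 ++ [1]) :=
  word_eq _ _ (by decide) (by decide) (by decide +kernel)

theorem C01 : prodW 266 pN pM (w0 ++ w1) = prodW 266 pN pM (w1 ++ w0) :=
  word_eq _ _ (by decide) (by decide) (by decide +kernel)

theorem C02 : prodW 266 pN pM (w0 ++ w2) = prodW 266 pN pM (w2 ++ w0) :=
  word_eq _ _ (by decide) (by decide) (by decide +kernel)

theorem C12 : prodW 266 pN pM (w1 ++ w2) = prodW 266 pN pM (w2 ++ w1) :=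
  word_eq _ _ (by decide) (by decide) (by decide +kernel)

theorem I0 : prodW 266 pN pM (w0 ++ w0) = prodW 266 pN pM [] :=
  word_eq _ _ (by decide) (by decide) (by decide +kernel)

theorem I1 : prodW 266 pN pM (w1 ++ w1) = prodW 266 pN pM [] :=
  word_eq _ _ (by decide) (by decide) (by decide +kernel)

theorem I2 : prodW 266 pN pM (w2 ++ w2) = prodW 266 pN pM [] :=
  word_eq _ _ (by decide) (by decide) (by decide +kernel)

theorem word_at (w : List ℕ) (h : ∀ i ∈ w, i < 301) :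
    ((prodW 266 pN pM w) (0 : Fin 266)).1 = ev pN w 0 :=
  prodW_apply 266 pN pM (fun i hi => valid_all i (h i hi)) 0

theorem at0 : ev pN [] 0 = 0 ∧ ev pN w0 0 = 23 ∧ ev pN w1 0 = 74 ∧ ev pN w2 0 = 106 ∧
    ev pN (w0 ++ w1) 0 = 174 := by decide +kernel

end Cfsg.Agent.Lib.Helper9.SchurJ1
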