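import Mathlib
import Cfsg.Agent.Lib.Helper9.J1O1
import Cfsg.Agent.Lib.Helper9.J1Base
import Cfsg.Agent.Lib.Helper9.SchurJ1a

set_option autoImplicit false
set_option maxRecDepth 100000

/-! Kernel-checked facts about the data of `J1O1`. -/

namespace Cfsg.Agent.Lib.Helper9.J1O

open Cfsg Cfsg.Agent.Lib.Helper8.SS Cfsg.Agent.Lib.Helper8.J1 Cfsg.Agent.Lib.Helper9.BL
  Cfsg.Agent.Lib.Helper9.J1C Cfsg.Agent.Lib.Helper9.J1Base

/-- the code of the `i`-th element of the class -/
def blC (i : ℕ) : ℕ := (BLN >>> (36 * i)) % 68719476736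

/-- the word of the `i`-th element of the class -/
def blW (i : ℕ) : List ℕ :=
  [(blC i >>> 27) % 512, (blC i >>> 18) % 512, (blC i >>> 9) % 512, blC i % 512]

/-- the index of the conjugate of the `i`-th element by the `k`-th generator -/
def cjN (k i : ℕ) : ℕ :=
  match k with
  | 0 => (CJ0 >>> (13 * i)) % 8192
  | 1 => (CJ1 >>> (13 * i)) % 8192
  | 2 => (CJ2 >>> (13 * i)) % 8192
  | 3 => (CJ3 >>> (13 * i)) % 8192
  | _ => (CJ4 >>> (13 * i)) % 8192

/-- the five generators -/
def gS (k : ℕ) : ℕ :=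
  match k with
  | 0 => 1
  | 1 => 2
  | 2 => 9
  | 3 => 21
  | _ => 23

def deepB (l : ℕ) : Bool := (DM >>> l) % 2 == 1

/-- all first components of a signed word are transversal indices -/
def deepS (w : List (ℕ × Bool)) : Bool := w.all fun l => deepB l.1

/-- two signed words agree at the base points -/
noncomputable def agreeB (w w' : List (ℕ × Bool)) : Bool :=
  base.all fun b => evS pN pM w b == evS pN pM w' b

def rep (k : ℕ) (w : List (ℕ × Bool)) : List (ℕ × Bool) := (List.replicate k w).flatten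

def w7 (i : ℕ) : List (ℕ × Bool) := rep 7 (fwd TW ++ fwd (blW i))

def w19 (i : ℕ) : List (ℕ × Bool) :=
  rep 19 (fwd TW ++ fwd (blW i) ++ fwd TW ++ bwd (blW i))

/-- the expansion of a word in the involution and the element of order three -/
def expand (w : List ℕ) : List ℕ := w.flatMap fun c => if c = 0 then TW else blW 0

theorem deepB_sound : ∀ l : Fin 512, deepB l.val = true → l.val ∈ deepOf [L0, L1, L2, L3] := by
  decide +kernel

theorem deepB_lt : ∀ l : Fin 600, deepB l.val = true → l.val < 512 := by decide +kernel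

theorem bl_deep : (allF fun i : Fin 5852 => deepS (fwd (blW i.val))) = true := by decide +kernel

theorem conj_b : (allF fun i : Fin 5852 => allF fun k : Fin 5 =>
    decide (cjN k.val i.val < 5852) &&
    agreeB ((gS k.val, true) :: (fwd (blW i.val) ++ [(gS k.val, false)]))
      (fwd (blW (cjN k.val i.val)))) = true := by decide +kernel

theorem filter_b : (allF fun i : Fin 5852 =>
    !(agreeB (w7 i.val) []) || (!(agreeB (w19 i.val) []) || decide (i.val ∈ GI))) = true := by
  decide +kernel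

theorem good_b : (allF fun j : Fin 120 =>
    deepS (fwd (GC.getD j.val [])) &&
    (agreeB (fwd (GC.getD j.val []) ++ fwd TW) (fwd TW ++ fwd (GC.getD j.val [])) &&
    (decide (GI.getD j.val 0 < 5852) &&
    agreeB (fwd (GC.getD j.val []) ++ fwd (blW 0) ++ bwd (GC.getD j.val []))
      (fwd (blW (GI.getD j.val 0)))))) = true := by decide +kernel

theorem gi_length : GI.length = 120 := by decide +kernel

theorem b0_b : agreeB (rep 3 (fwd (blW 0))) [] = true ∧ agreeB (w7 0) [] = true ∧
    agreeB (w19 0) [] = true ∧ agreeB (fwd (blW IB0) ++ fwd (blW 0)) [] = true ∧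
    ev pN (blW 0) 0 ≠ 0 ∧ IB0 < 5852 := by decide +kernel

theorem gen_b : (allF fun k : Fin 5 =>
    agreeB (fwd (expand (GWD.getD k.val []))) [(gS k.val, true)]) = true := by decide +kernel

theorem gS_mem : ∀ k : Fin 5, gS k.val ∈ L0.S := by decide

theorem gS_deep : ∀ k : Fin 5, deepB (gS k.val) = true := by decide +kernel

theorem gS_surj : ∀ s ∈ L0.S, ∃ k : Fin 5, gS k.val = s := by decide

theorem el_b : (allF fun i : Fin 8 => deepS (fwd (EL.getD i.val [])) &&
    (deepS (fwd (EG.getD i.val [])) &&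
    (decide (i.val = 0) ||
      agreeB (fwd (EG.getD i.val []) ++ fwd TW ++ bwd (EG.getD i.val []))
        (fwd (EL.getD i.val []))))) = true := by decide +kernel

theorem em_b : (allF fun i : Fin 8 =>
    decide ((EM.getD 0 []).getD i.val 0 < 8) && (decide ((EM.getD 1 []).getD i.val 0 < 8) &&
    (decide ((EM.getD 2 []).getD i.val 0 < 8) &&
    (agreeB (fwd Cfsg.Agent.Lib.Helper9.SchurJ1.w0 ++ fwd (EL.getD i.val []))
      (fwd (EL.getD ((EM.getD 0 []).getD i.val 0) [])) &&
    (agreeB (fwd Cfsg.Agent.Lib.Helper9.SchurJ1.w1 ++ fwd (EL.getD i.val []))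
      (fwd (EL.getD ((EM.getD 1 []).getD i.val 0) [])) &&
    agreeB (fwd Cfsg.Agent.Lib.Helper9.SchurJ1.w2 ++ fwd (EL.getD i.val []))
      (fwd (EL.getD ((EM.getD 2 []).getD i.val 0) []))))))) = true := by decide +kernel

theorem e0_b : agreeB (fwd Cfsg.Agent.Lib.Helper9.SchurJ1.w0) (fwd TW) = true ∧
    deepS (fwd Cfsg.Agent.Lib.Helper9.SchurJ1.w0) = true ∧
    deepS (fwd Cfsg.Agent.Lib.Helper9.SchurJ1.w1) = true ∧
    deepS (fwd Cfsg.Agent.Lib.Helper9.SchurJ1.w2) = true ∧ EL.getD 0 [] = [] ∧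
    deepS (fwd TW) = true := by decide +kernel

end Cfsg.Agent.Lib.Helper9.J1O
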