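import Mathlib
import Cfsg.Agent.Lib.Helper9.J1O2

set_option autoImplicit false

/-! Signed words in the permutation model of `J₁`: equality from agreement at the base points,
and the consequences of the kernel-checked tables of `J1O2`. -/

namespace Cfsg.Agent.Lib.Helper9.J1O

open Cfsg Cfsg.Agent.Lib.Helper8.SS Cfsg.Agent.Lib.Helper8.J1 Cfsg.Agent.Lib.Helper9.BL
  Cfsg.Agent.Lib.Helper9.J1C Cfsg.Agent.Lib.Helper9.J1Base

abbrev PG := Equiv.Perm (Fin 266)

/-! ### signed words -/

theorem DM_lt : DM < 2 ^ 512 := by decide +kernel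

theorem deepB_lt' (l : ℕ) (h : deepB l = true) : l < 512 := by
  by_contra hge
  have h1 : DM >>> l = 0 := by
    rw [Nat.shiftRight_eq_div_pow]
    apply Nat.div_eq_of_lt
    calc DM < 2 ^ 512 := DM_lt
      _ ≤ 2 ^ l := Nat.pow_le_pow_right (by norm_num) (by omega)
  unfold deepB at h
  rw [h1] at h
  revert h
  decide

theorem deep_of_B (l : ℕ) (h : deepB l = true) : l ∈ deepOf [L0, L1, L2, L3] :=
  deepB_sound ⟨l, deepB_lt' l h⟩ h

theorem deepS_mem {w : List (ℕ × Bool)} (h : deepS w = true) :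
    ∀ l ∈ w, l.1 ∈ deepOf [L0, L1, L2, L3] := by
  intro l hl
  exact deep_of_B l.1 (List.all_eq_true.mp h l hl)

theorem deepS_append (w w' : List (ℕ × Bool)) :
    deepS (w ++ w') = (deepS w && deepS w') := by
  unfold deepS
  rw [List.all_append]

theorem deepS_cons (l : ℕ × Bool) (w : List (ℕ × Bool)) :
    deepS (l :: w) = (deepB l.1 && deepS w) := by
  unfold deepS
  rw [List.all_cons]

theorem deepS_nil : deepS [] = true := rfl

theorem deepS_bwd {w : List ℕ} (h : deepS (fwd w) = true) : deepS (bwd w) = true := by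
  unfold deepS at h ⊢
  rw [List.all_eq_true] at h ⊢
  intro l hl
  unfold bwd at hl
  rw [List.mem_map] at hl
  obtain ⟨i, hi, rfl⟩ := hl
  rw [List.mem_reverse] at hi
  exact h (i, true) (by unfold fwd; exact List.mem_map.mpr ⟨i, hi, rfl⟩)

theorem deepS_fwd_mem {w : List ℕ} (h : deepS (fwd w) = true) :
    ∀ i ∈ w, i ∈ deepOf [L0, L1, L2, L3] := by
  intro i hi
  exact deepS_mem h (i, true) (by unfold fwd; exact List.mem_map.mpr ⟨i, hi, rfl⟩)

theorem validS {w : List (ℕ × Bool)} (h : deepS w = true) :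
    ∀ l ∈ w, Valid 266 (pN l.1) (pM l.1) :=
  fun l hl => valid_all l.1 (deep_mem l.1 (deepS_mem h l hl)).1

theorem PS_mem (l : ℕ × Bool) (h : l.1 ∈ deepOf [L0, L1, L2, L3]) : PS 266 pN pM l ∈ K := by
  unfold PS
  split_ifs
  · exact (deep_mem l.1 h).2
  · exact Subgroup.inv_mem _ (deep_mem l.1 h).2

theorem prodS_mem {w : List (ℕ × Bool)} (h : deepS w = true) : prodS 266 pN pM w ∈ K := by
  unfold prodS
  apply Subgroup.list_prod_mem
  intro g hg
  rw [List.mem_map] at hg
  obtain ⟨l, hl, rfl⟩ := hg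
  exact PS_mem l (deepS_mem h l hl)

theorem prodS_nilG (n : ℕ) [NeZero n] (qN qM : ℕ → ℕ) : prodS n qN qM [] = 1 := by
  unfold prodS
  rw [List.map_nil, List.prod_nil]

theorem PS_trueG (n : ℕ) [NeZero n] (qN qM : ℕ → ℕ) (s : ℕ) :
    PS n qN qM (s, true) = P n qN qM s := by
  unfold PS
  rw [if_pos rfl]

theorem PS_falseG (n : ℕ) [NeZero n] (qN qM : ℕ → ℕ) (s : ℕ) :
    PS n qN qM (s, false) = (P n qN qM s)⁻¹ := by
  unfold PS
  rw [if_neg (by simp)]

theorem prodS_nil : prodS 266 pN pM [] = 1 := prodS_nilG 266 pN pM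

theorem prodS_single_true (s : ℕ) : prodS 266 pN pM [(s, true)] = P 266 pN pM s := by
  rw [prodS_cons, prodS_nil, mul_one, PS_trueG]

theorem prodS_single_false (s : ℕ) : prodS 266 pN pM [(s, false)] = (P 266 pN pM s)⁻¹ := by
  rw [prodS_cons, prodS_nil, mul_one, PS_falseG]

/-- signed words with transversal letters that agree at the base points are equal -/
theorem prodS_eq_of_agree {w w' : List (ℕ × Bool)} (hw : deepS w = true) (hw' : deepS w' = true)
    (h : agreeB w w' = true) : prodS 266 pN pM w = prodS 266 pN pM w' := by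
  apply eq_of_base _ _ (prodS_mem hw) (prodS_mem hw')
  intro b hb
  apply Fin.ext
  rw [prodS_apply 266 pN pM (validS hw), prodS_apply 266 pN pM (validS hw')]
  exact beq_iff_eq.mp (List.all_eq_true.mp h b.val hb)

/-- a signed word equal to the identity fixes the base points -/
theorem agree_of_eq_one {w : List (ℕ × Bool)} (hw : deepS w = true)
    (h : prodS 266 pN pM w = 1) : agreeB w [] = true := by
  unfold agreeB
  rw [List.all_eq_true]
  intro b hb
  have hb' : b < 266 := by
    unfold base at hb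
    simp only [List.mem_cons, List.mem_nil_iff, or_false] at hb
    omega
  have h1 := prodS_apply 266 pN pM (validS hw) ⟨b, hb'⟩
  rw [h] at h1
  rw [beq_iff_eq]
  exact h1.symm

theorem rep_succ (k : ℕ) (w : List (ℕ × Bool)) : rep (k + 1) w = w ++ rep k w := by
  unfold rep
  rw [List.replicate_succ, List.flatten_cons]

theorem prodS_rep (k : ℕ) (w : List (ℕ × Bool)) :
    prodS 266 pN pM (rep k w) = prodS 266 pN pM w ^ k := by
  induction k with
  | zero =>
    rw [pow_zero]
    unfold rep
    rw [List.replicate_zero, List.flatten_nil, prodS_nil]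
  | succ k ih => rw [rep_succ, prodS_append, ih, pow_succ']

theorem deepS_rep (k : ℕ) {w : List (ℕ × Bool)} (h : deepS w = true) : deepS (rep k w) = true := by
  induction k with
  | zero => rfl
  | succ k ih => rw [rep_succ, deepS_append, h, ih]; rfl

/-! ### the class -/

/-- the `i`-th element of the class -/
noncomputable def blP (i : ℕ) : PG := prodW 266 pN pM (blW i)

/-- the involution -/
noncomputable def aP : PG := prodW 266 pN pM TW

theorem tw_deep : deepS (fwd TW) = true := e0_b.2.2.2.2.2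

theorem bl_deepS (i : ℕ) (hi : i < 5852) : deepS (fwd (blW i)) = true :=
  allF_spec bl_deep ⟨i, hi⟩

theorem blP_eq (i : ℕ) : blP i = prodS 266 pN pM (fwd (blW i)) := (prodS_fwd 266 pN pM _).symm

theorem aP_eq : aP = prodS 266 pN pM (fwd TW) := (prodS_fwd 266 pN pM _).symm

theorem blP_mem (i : ℕ) (hi : i < 5852) : blP i ∈ K := by
  rw [blP_eq]
  exact prodS_mem (bl_deepS i hi)

theorem aP_mem : aP ∈ K := by
  rw [aP_eq]
  exact prodS_mem tw_deep

theorem cj_lt (k : Fin 5) (i : Fin 5852) : cjN k.val i.val < 5852 :=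
  of_decide_eq_true ((Bool.and_eq_true _ _).mp (allF_spec (allF_spec conj_b i) k)).1

theorem conj_gen (k : Fin 5) (i : Fin 5852) :
    P 266 pN pM (gS k.val) * blP i.val * (P 266 pN pM (gS k.val))⁻¹ = blP (cjN k.val i.val) := by
  have h := ((Bool.and_eq_true _ _).mp (allF_spec (allF_spec conj_b i) k)).2
  have hd : deepS ((gS k.val, true) :: (fwd (blW i.val) ++ [(gS k.val, false)])) = true := by
    rw [deepS_cons, deepS_append, deepS_cons, deepS_nil, bl_deepS i.val i.isLt]
    simp only [gS_deep k, Bool.and_self]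
  have := prodS_eq_of_agree hd (bl_deepS _ (cj_lt k i)) h
  rw [prodS_cons, prodS_append, prodS_single_false, ← blP_eq, ← blP_eq, PS_trueG] at this
  rw [← this, mul_assoc]

end Cfsg.Agent.Lib.Helper9.J1O
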