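import Mathlib
import Cfsg.Agent.Lib.Helper9.SchurLoc4
import Cfsg.Agent.Lib.Helper9.SchurJ1a
import Cfsg.Agent.Lib.Helper9.G42E

set_option autoImplicit false

/-! The Schur multiplier of `J₁` is trivial. -/

namespace Cfsg.Agent.Lib.Helper9.SchurJ1

open Cfsg Cfsg.Agent.Lib.Helper9.SchurLoc Cfsg.Agent.Lib.Helper8.SS Cfsg.Agent.Lib.Helper8.J1

/-! ### the elements -/

noncomputable def sK : ↥K := ⟨prodW 266 pN pM [1], word_mem _ (by decide)⟩
noncomputable def e0 : ↥K := ⟨prodW 266 pN pM w0, word_mem _ (by decide)⟩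
noncomputable def e1 : ↥K := ⟨prodW 266 pN pM w1, word_mem _ (by decide)⟩
noncomputable def e2 : ↥K := ⟨prodW 266 pN pM w2, word_mem _ (by decide)⟩

theorem h1 : sK * e0 * sK⁻¹ = e1 := by
  rw [mul_inv_eq_iff_eq_mul]
  apply Subtype.ext
  show prodW 266 pN pM [1] * prodW 266 pN pM w0 = prodW 266 pN pM w1 * prodW 266 pN pM [1]
  rw [← prodW_append, ← prodW_append]
  exact R1

theorem h2 : sK * e1 * sK⁻¹ = e2 := by
  rw [mul_inv_eq_iff_eq_mul]
  apply Subtype.ext
  show prodW 266 pN pM [1] * prodW 266 pN pM w1 = prodW 266 pN pM w2 * prodW 266 pN pM [1]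
  rw [← prodW_append, ← prodW_append]
  exact R2

theorem h3 : sK * e2 * sK⁻¹ = e0 * e1 := by
  rw [mul_inv_eq_iff_eq_mul]
  apply Subtype.ext
  show prodW 266 pN pM [1] * prodW 266 pN pM w2 =
    prodW 266 pN pM w0 * prodW 266 pN pM w1 * prodW 266 pN pM [1]
  rw [← prodW_append, ← prodW_append, ← prodW_append]
  exact R3

theorem c01 : e0 * e1 = e1 * e0 := by
  apply Subtype.ext
  show prodW 266 pN pM w0 * prodW 266 pN pM w1 = prodW 266 pN pM w1 * prodW 266 pN pM w0
  rw [← prodW_append, ← prodW_append]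
  exact C01

theorem c02 : e0 * e2 = e2 * e0 := by
  apply Subtype.ext
  show prodW 266 pN pM w0 * prodW 266 pN pM w2 = prodW 266 pN pM w2 * prodW 266 pN pM w0
  rw [← prodW_append, ← prodW_append]
  exact C02

theorem c12 : e1 * e2 = e2 * e1 := by
  apply Subtype.ext
  show prodW 266 pN pM w1 * prodW 266 pN pM w2 = prodW 266 pN pM w2 * prodW 266 pN pM w1
  rw [← prodW_append, ← prodW_append]
  exact C12

theorem i0 : e0 ^ 2 = 1 := by
  rw [pow_two]
  apply Subtype.ext
  show prodW 266 pN pM w0 * prodW 266 pN pM w0 = 1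
  rw [← prodW_append]
  exact I0

theorem i1 : e1 ^ 2 = 1 := by
  rw [pow_two]
  apply Subtype.ext
  show prodW 266 pN pM w1 * prodW 266 pN pM w1 = 1
  rw [← prodW_append]
  exact I1

theorem i2 : e2 ^ 2 = 1 := by
  rw [pow_two]
  apply Subtype.ext
  show prodW 266 pN pM w2 * prodW 266 pN pM w2 = 1
  rw [← prodW_append]
  exact I2

theorem good2 : StemGood (Subgroup.closure {e0, e1, e2}) :=
  stemGood_frob3 sK e0 e1 e2 h1 h2 h3 c01 c02 c12

/-! ### the order of the elementary abelian subgroup -/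

noncomputable def at0f (g : ↥K) : ℕ := ((g : Equiv.Perm (Fin 266)) (0 : Fin 266)).1

theorem at0f_one : at0f 1 = 0 := rfl

theorem e0_val : ((e0 : ↥K) : Equiv.Perm (Fin 266)) = prodW 266 pN pM w0 := rfl

theorem e1_val : ((e1 : ↥K) : Equiv.Perm (Fin 266)) = prodW 266 pN pM w1 := rfl

theorem e2_val : ((e2 : ↥K) : Equiv.Perm (Fin 266)) = prodW 266 pN pM w2 := rfl

theorem e01_val : ((e0 * e1 : ↥K) : Equiv.Perm (Fin 266)) = prodW 266 pN pM (w0 ++ w1) := by
  rw [prodW_append]
  rfl

theorem at0f_e0 : at0f e0 = 23 := by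
  unfold at0f
  rw [e0_val, word_at _ (by decide)]
  exact at0.2.1

theorem at0f_e1 : at0f e1 = 74 := by
  unfold at0f
  rw [e1_val, word_at _ (by decide)]
  exact at0.2.2.1

theorem at0f_e2 : at0f e2 = 106 := by
  unfold at0f
  rw [e2_val, word_at _ (by decide)]
  exact at0.2.2.2.1

theorem at0f_e01 : at0f (e0 * e1) = 174 := by
  unfold at0f
  rw [e01_val, word_at _ (by decide)]
  exact at0.2.2.2.2

theorem card_gt : 4 < Nat.card (Subgroup.closure ({e0, e1, e2} : Set ↥K)) := by
  have hm0 : e0 ∈ Subgroup.closure ({e0, e1, e2} : Set ↥K) := Subgroup.subset_closure (by simp)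
  have hm1 : e1 ∈ Subgroup.closure ({e0, e1, e2} : Set ↥K) := Subgroup.subset_closure (by simp)
  have hm2 : e2 ∈ Subgroup.closure ({e0, e1, e2} : Set ↥K) := Subgroup.subset_closure (by simp)
  have h := card_ge_of_nodup (Subgroup.closure ({e0, e1, e2} : Set ↥K)) at0f
    [1, e0, e1, e2, e0 * e1] (by
      intro g hg
      simp only [List.mem_cons, List.mem_nil_iff, or_false] at hg
      rcases hg with rfl | rfl | rfl | rfl | rfl
      · exact Subgroup.one_mem _
      · exact hm0
      · exact hm1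
      · exact hm2
      · exact Subgroup.mul_mem _ hm0 hm1) (by
      simp only [List.map_cons, List.map_nil, at0f_one, at0f_e0, at0f_e1, at0f_e2, at0f_e01]
      decide)
  simp only [List.length_cons, List.length_nil] at h
  omega

theorem index2 : ¬ 2 ∣ (Subgroup.closure ({e0, e1, e2} : Set ↥K)).index := by
  apply index_odd_of_elem_abelian _ _ _ card_gt
  · rw [card_K]
    norm_num
  · intro x hx y hy
    rcases hx with rfl | rfl | rfl <;> rcases hy with rfl | rfl | rfl
    · rfl
    · exact c01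
    · exact c02
    · exact c01.symm
    · rfl
    · exact c12
    · exact c02.symm
    · exact c12.symm
    · rfl
  · intro x hx
    rcases hx with rfl | rfl | rfl
    · exact i0
    · exact i1
    · exact i2

/-! ### the main statement -/

theorem prime_cases (p : ℕ) (hp : p.Prime) (h : p ∣ 175560) :
    p = 2 ∨ p = 3 ∨ p = 5 ∨ p = 7 ∨ p = 11 ∨ p = 19 := by
  have e : 175560 = 2 ^ 3 * 3 * 5 * 7 * 11 * 19 := by norm_num
  rw [e] at h
  rcases (Nat.Prime.dvd_mul hp).mp h with h | h
  · rcases (Nat.Prime.dvd_mul hp).mp h with h | h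
    · rcases (Nat.Prime.dvd_mul hp).mp h with h | h
      · rcases (Nat.Prime.dvd_mul hp).mp h with h | h
        · rcases (Nat.Prime.dvd_mul hp).mp h with h | h
          · left
            exact (Nat.prime_dvd_prime_iff_eq hp Nat.prime_two).mp (hp.dvd_of_dvd_pow h)
          · right; left
            exact (Nat.prime_dvd_prime_iff_eq hp Nat.prime_three).mp h
        · right; right; left
          exact (Nat.prime_dvd_prime_iff_eq hp Nat.prime_five).mp h
      · right; right; right; left
        exact (Nat.prime_dvd_prime_iff_eq hp (by norm_num)).mp h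
    · right; right; right; right; left
      exact (Nat.prime_dvd_prime_iff_eq hp (by norm_num)).mp h
  · right; right; right; right; right
    exact (Nat.prime_dvd_prime_iff_eq hp (by norm_num)).mp h

theorem fac1 (p : ℕ) (hp : p.Prime) (h1 : p ∣ 175560) (h2 : ¬ p ^ 2 ∣ 175560) :
    (Nat.card ↥K).factorization p = 1 := by
  rw [card_K]
  exact Cfsg.Agent.Lib.Helper9.G42.factorization_of_dvd p 175560 1 hp (by norm_num)
    (by rw [pow_one]; exact h1) h2

theorem K_trivial : Cfsg.HasCyclicSchurMultiplier ↥K 1 := by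
  apply trivial_of_good
  intro p hp hpd
  rw [card_K] at hpd
  haveI : Fact p.Prime := ⟨hp⟩
  rcases prime_cases p hp hpd with rfl | rfl | rfl | rfl | rfl | rfl
  · exact ⟨_, good2, index2⟩
  · exact good_of_prime_sylow 3 (fac1 3 hp (by norm_num) (by norm_num))
  · exact good_of_prime_sylow 5 (fac1 5 hp (by norm_num) (by norm_num))
  · exact good_of_prime_sylow 7 (fac1 7 hp (by norm_num) (by norm_num))
  · exact good_of_prime_sylow 11 (fac1 11 hp (by norm_num) (by norm_num))
  · exact good_of_prime_sylow 19 (fac1 19 hp (by norm_num) (by norm_num))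

/-! ### transport to the matrix group -/

theorem QQ_one : QQ 1 = Spor.jankoX := Units.ext QQ_one_val

theorem QQ_two : QQ 2 = Spor.jankoY := Units.ext QQ_two_val

theorem main : Cfsg.HasCyclicSchurMultiplier ↥Spor.J1 1 := by
  obtain ⟨e⟩ := iso
  rw [QQ_one, QQ_two] at e
  haveI : Finite ↥Spor.J1 := inferInstance
  exact trivial_of_equiv e.symm K_trivial

end Cfsg.Agent.Lib.Helper9.SchurJ1
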