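import Mathlib
import Cfsg.Agent.Lib.Helper9.J1O3
import Cfsg.Agent.Lib.Helper9.J1OG
import Cfsg.Agent.Lib.Helper9.SchurJ1
import Cfsg.Agent.Lib.Helper9.J1C4

set_option autoImplicit false

/-! The class of elements of order three of `J₁` in the permutation model, and the rigidity of
the pair (involution, element of order three). -/

namespace Cfsg.Agent.Lib.Helper9.J1O

open Cfsg Cfsg.Agent.Lib.Helper8.SS Cfsg.Agent.Lib.Helper8.J1 Cfsg.Agent.Lib.Helper9.BL
  Cfsg.Agent.Lib.Helper9.J1C Cfsg.Agent.Lib.Helper9.J1Base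

/-! ### the elements -/

/-- the `i`-th element of the class, in the group -/
noncomputable def bK (i : Fin 5852) : ↥K := ⟨blP i.val, blP_mem i.val i.isLt⟩

theorem bK_val (i : Fin 5852) : ((bK i : ↥K) : PG) = blP i.val := rfl

/-- the involution, in the group -/
noncomputable def aK : ↥K := ⟨aP, aP_mem⟩

theorem aK_val : ((aK : ↥K) : PG) = aP := rfl

theorem P_mem (k : Fin 5) : P 266 pN pM (gS k.val) ∈ K :=
  Subgroup.subset_closure ⟨gS k.val, gS_mem k, rfl⟩

/-- the generators, in the group -/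
noncomputable def gG (k : Fin 5) : ↥K := ⟨P 266 pN pM (gS k.val), P_mem k⟩

theorem gG_val (k : Fin 5) : ((gG k : ↥K) : PG) = P 266 pN pM (gS k.val) := by
  unfold gG
  exact Subtype.coe_mk _ _

/-- the class of elements of order three -/
def clS : Set ↥K := Set.range bK

theorem clS_finite : clS.Finite := Set.finite_range bK

theorem gen_conj (k : Fin 5) (i : Fin 5852) :
    gG k * bK i * (gG k)⁻¹ = bK ⟨cjN k.val i.val, cj_lt k i⟩ := by
  apply Subtype.ext
  rw [Subgroup.coe_mul, Subgroup.coe_mul, Subgroup.coe_inv, gG_val, bK_val, bK_val]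
  exact conj_gen k i

theorem gens_top : Subgroup.closure (Set.range gG) = ⊤ := by
  have h : Subgroup.closure
      (((↑) : ↥K → PG) ⁻¹' {g | ∃ i ∈ L0.S, P 266 pN pM i = g}) = ⊤ :=
    Subgroup.closure_closure_coe_preimage
  rw [eq_top_iff, ← h]
  apply Subgroup.closure_mono
  rintro x ⟨i, hi, hx⟩
  obtain ⟨k, hk⟩ := gS_surj i hi
  refine ⟨k, Subtype.ext ?_⟩
  rw [gG_val, hk, hx]

theorem clS_conj (g : ↥K) (s : ↥K) (hs : s ∈ clS) : g * s * g⁻¹ ∈ clS := by
  refine conj_stable_closure clS clS_finite (Set.range gG) ?_ g (by rw [gens_top]; trivial) s hs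
  rintro _ ⟨k, rfl⟩ _ ⟨i, rfl⟩
  exact ⟨_, (gen_conj k i).symm⟩

/-! ### elements of order three -/

theorem prodS_one_of_agree {w : List (ℕ × Bool)} (hw : deepS w = true)
    (h : agreeB w [] = true) : prodS 266 pN pM w = 1 := by
  rw [prodS_eq_of_agree hw deepS_nil h, prodS_nil]

theorem b0_deep : deepS (fwd (blW 0)) = true := bl_deepS 0 (by norm_num)

theorem blP0_cube : blP 0 ^ 3 = 1 := by
  rw [blP_eq, ← prodS_rep]
  exact prodS_one_of_agree (deepS_rep 3 b0_deep) b0_b.1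

theorem blP0_ne : blP 0 ≠ 1 := by
  intro h
  apply b0_b.2.2.2.2.1
  have h2 := prodW_apply 266 pN pM (wordD_valid _ (deepS_fwd_mem b0_deep))
    (⟨0, by norm_num⟩ : Fin 266)
  have h3 : prodW 266 pN pM (blW 0) = 1 := h
  rw [h3] at h2
  exact h2.symm

theorem blP_IB0 : blP IB0 = (blP 0)⁻¹ := by
  rw [eq_inv_iff_mul_eq_one, blP_eq, blP_eq, ← prodS_append]
  apply prodS_one_of_agree _ b0_b.2.2.2.1
  rw [deepS_append, bl_deepS IB0 b0_b.2.2.2.2.2, b0_deep]
  rfl

/-- the chosen element of order three -/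
noncomputable def b0K : ↥K := bK ⟨0, by norm_num⟩

theorem b0K_val : ((b0K : ↥K) : PG) = blP 0 := rfl

theorem b0K_cube : b0K ^ 3 = 1 := by
  apply Subtype.ext
  rw [Subgroup.coe_pow, b0K_val, blP0_cube]
  rfl

theorem b0K_ne : b0K ≠ 1 := by
  intro h
  apply blP0_ne
  rw [← b0K_val, h]
  rfl

theorem b0K_inv : b0K⁻¹ = bK ⟨IB0, b0_b.2.2.2.2.2⟩ := by
  apply Subtype.ext
  rw [Subgroup.coe_inv, b0K_val, bK_val, blP_IB0]

instance fact_three : Fact (Nat.Prime 3) := ⟨Nat.prime_three⟩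

/-- every element of order three lies in the class -/
theorem order_three_mem (y : ↥K) (hy : y ^ 3 = 1) (hy1 : y ≠ 1) : y ∈ clS := by
  have hfac : (Nat.card ↥K).factorization 3 = 1 :=
    Cfsg.Agent.Lib.Helper9.SchurJ1.fac1 3 Nat.prime_three (by norm_num) (by norm_num)
  obtain ⟨h, j, hj0, hj3, rfl⟩ := exists_conj_pow_of_prime 3 hfac y b0K hy hy1 b0K_cube b0K_ne
  apply clS_conj
  have hj : j = 1 ∨ j = 2 := by omega
  rcases hj with rfl | rfl
  · rw [pow_one]
    exact ⟨_, rfl⟩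
  · have : b0K ^ 2 = b0K⁻¹ := by
      rw [eq_inv_iff_mul_eq_one, ← pow_succ, b0K_cube]
    rw [this, b0K_inv]
    exact ⟨_, rfl⟩

/-! ### involutions -/

open Cfsg.Agent.Lib.Helper9.SchurJ1 in
theorem el_deep (i : Fin 8) : deepS (fwd (EL.getD i.val [])) = true :=
  ((Bool.and_eq_true _ _).mp (allF_spec el_b i)).1

theorem eg_deep (i : Fin 8) : deepS (fwd (EG.getD i.val [])) = true :=
  ((Bool.and_eq_true _ _).mp ((Bool.and_eq_true _ _).mp (allF_spec el_b i)).2).1

/-- the elements of the Sylow `2`-subgroup -/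
noncomputable def eK (i : Fin 8) : ↥K :=
  ⟨prodW 266 pN pM (EL.getD i.val []), by
    rw [← prodS_fwd]
    exact prodS_mem (el_deep i)⟩

theorem eK_val (i : Fin 8) : ((eK i : ↥K) : PG) = prodW 266 pN pM (EL.getD i.val []) := rfl

/-- the conjugating elements -/
noncomputable def cE (i : Fin 8) : ↥K :=
  ⟨prodW 266 pN pM (EG.getD i.val []), by
    rw [← prodS_fwd]
    exact prodS_mem (eg_deep i)⟩

theorem cE_val (i : Fin 8) : ((cE i : ↥K) : PG) = prodW 266 pN pM (EG.getD i.val []) := rfl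

theorem eK_zero : eK 0 = 1 := by
  apply Subtype.ext
  rw [eK_val]
  have h : EL.getD (0 : Fin 8).val [] = [] := e0_b.2.2.2.2.1
  rw [h, prodW_nil]
  rfl

theorem eK_conj (i : Fin 8) (hi : i ≠ 0) : eK i = cE i * aK * (cE i)⁻¹ := by
  have h := ((Bool.and_eq_true _ _).mp ((Bool.and_eq_true _ _).mp (allF_spec el_b i)).2).2
  rw [Bool.or_eq_true, decide_eq_true_eq] at h
  rcases h with h | h
  · exact absurd (Fin.ext h) hi
  · apply Subtype.ext
    rw [Subgroup.coe_mul, Subgroup.coe_mul, Subgroup.coe_inv, eK_val, cE_val, aK_val, aP_eq,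
      ← prodS_bwd, ← prodS_fwd, ← prodS_fwd, ← prodS_append, ← prodS_append]
    refine (prodS_eq_of_agree ?_ (el_deep i) h).symm
    rw [deepS_append, deepS_append, eg_deep i, tw_deep, deepS_bwd (eg_deep i)]
    rfl

theorem aK_eq_tK : aK = tK := Subtype.ext rfl

theorem aK_sq : aK ^ 2 = 1 := by
  rw [aK_eq_tK, pow_two]
  exact tK_sq

theorem aK_ne : aK ≠ 1 := by
  rw [aK_eq_tK]
  exact tK_ne

theorem eK_sq (i : Fin 8) : eK i ^ 2 = 1 := by
  by_cases hi : i = 0
  · rw [hi, eK_zero, one_pow]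
  · rw [eK_conj i hi, conj_pow, aK_sq, mul_one, mul_inv_cancel]

open Cfsg.Agent.Lib.Helper9.SchurJ1

theorem em_lt0 (i : Fin 8) : (EM.getD 0 []).getD i.val 0 < 8 :=
  of_decide_eq_true ((Bool.and_eq_true _ _).mp (allF_spec em_b i)).1

theorem em_lt1 (i : Fin 8) : (EM.getD 1 []).getD i.val 0 < 8 :=
  of_decide_eq_true ((Bool.and_eq_true _ _).mp ((Bool.and_eq_true _ _).mp (allF_spec em_b i)).2).1

theorem em_lt2 (i : Fin 8) : (EM.getD 2 []).getD i.val 0 < 8 :=
  of_decide_eq_true ((Bool.and_eq_true _ _).mp ((Bool.and_eq_true _ _).mp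
    ((Bool.and_eq_true _ _).mp (allF_spec em_b i)).2).2).1

theorem em_ag (i : Fin 8) :
    agreeB (fwd w0 ++ fwd (EL.getD i.val [])) (fwd (EL.getD ((EM.getD 0 []).getD i.val 0) []))
      = true ∧
    agreeB (fwd w1 ++ fwd (EL.getD i.val [])) (fwd (EL.getD ((EM.getD 1 []).getD i.val 0) []))
      = true ∧
    agreeB (fwd w2 ++ fwd (EL.getD i.val [])) (fwd (EL.getD ((EM.getD 2 []).getD i.val 0) []))
      = true := by
  have h := ((Bool.and_eq_true _ _).mp ((Bool.and_eq_true _ _).mp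
    ((Bool.and_eq_true _ _).mp (allF_spec em_b i)).2).2).2
  have h1 := (Bool.and_eq_true _ _).mp h
  have h2 := (Bool.and_eq_true _ _).mp h1.2
  exact ⟨h1.1, h2.1, h2.2⟩

theorem mul_eK_aux (w : List ℕ) (hw : deepS (fwd w) = true) (i j : Fin 8)
    (h : agreeB (fwd w ++ fwd (EL.getD i.val [])) (fwd (EL.getD j.val [])) = true) :
    prodW 266 pN pM w * prodW 266 pN pM (EL.getD i.val []) =
      prodW 266 pN pM (EL.getD j.val []) := by
  rw [← prodS_fwd, ← prodS_fwd, ← prodS_fwd, ← prodS_append]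
  refine prodS_eq_of_agree ?_ (el_deep j) h
  rw [deepS_append, hw, el_deep i]
  rfl

theorem e0_mul (i : Fin 8) : e0 * eK i = eK ⟨_, em_lt0 i⟩ := by
  apply Subtype.ext
  rw [Subgroup.coe_mul, e0_val, eK_val, eK_val]
  exact mul_eK_aux w0 e0_b.2.1 i ⟨_, em_lt0 i⟩ (em_ag i).1

theorem e1_mul (i : Fin 8) : e1 * eK i = eK ⟨_, em_lt1 i⟩ := by
  apply Subtype.ext
  rw [Subgroup.coe_mul, e1_val, eK_val, eK_val]
  exact mul_eK_aux w1 e0_b.2.2.1 i ⟨_, em_lt1 i⟩ (em_ag i).2.1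

theorem e2_mul (i : Fin 8) : e2 * eK i = eK ⟨_, em_lt2 i⟩ := by
  apply Subtype.ext
  rw [Subgroup.coe_mul, e2_val, eK_val, eK_val]
  exact mul_eK_aux w2 e0_b.2.2.2.1 i ⟨_, em_lt2 i⟩ (em_ag i).2.2

theorem inv_of_sq {G : Type*} [Group G] (x : G) (h : x ^ 2 = 1) : x⁻¹ = x := by
  rw [inv_eq_iff_mul_eq_one, ← pow_two, h]

/-- the Sylow `2`-subgroup consists of the listed elements -/
theorem E_le (x : ↥K) (hx : x ∈ Subgroup.closure ({e0, e1, e2} : Set ↥K)) :
    ∃ i : Fin 8, eK i = x := by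
  induction hx using Subgroup.closure_induction_left with
  | one => exact ⟨0, eK_zero⟩
  | mul_left x hx y _ ih =>
    obtain ⟨i, rfl⟩ := ih
    rcases hx with rfl | rfl | rfl
    · exact ⟨_, (e0_mul i).symm⟩
    · exact ⟨_, (e1_mul i).symm⟩
    · exact ⟨_, (e2_mul i).symm⟩
  | inv_mul_cancel x hx y _ ih =>
    obtain ⟨i, rfl⟩ := ih
    rcases hx with rfl | rfl | rfl
    · rw [inv_of_sq _ i0]
      exact ⟨_, (e0_mul i).symm⟩
    · rw [inv_of_sq _ i1]
      exact ⟨_, (e1_mul i).symm⟩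
    · rw [inv_of_sq _ i2]
      exact ⟨_, (e2_mul i).symm⟩

instance fact_two : Fact (Nat.Prime 2) := ⟨Nat.prime_two⟩

theorem E_pgroup : IsPGroup 2 ↥(Subgroup.closure ({e0, e1, e2} : Set ↥K)) := by
  rintro ⟨x, hx⟩
  obtain ⟨i, rfl⟩ := E_le x hx
  refine ⟨1, Subtype.ext ?_⟩
  rw [pow_one, Subgroup.coe_pow, Subgroup.coe_one]
  exact eK_sq i

/-- every involution is conjugate to the chosen one -/
theorem involution_conj (t : ↥K) (ht : t ^ 2 = 1) (ht1 : t ≠ 1) :
    ∃ g : ↥K, t = g * aK * g⁻¹ := by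
  obtain ⟨g, e, he, rfl⟩ := exists_conj_mem_sylow 2 _ E_pgroup index2 t 1
    (by rw [pow_one]; exact ht)
  obtain ⟨i, rfl⟩ := E_le e he
  have hi : i ≠ 0 := by
    rintro rfl
    apply ht1
    rw [eK_zero]
    group
  refine ⟨g * cE i, ?_⟩
  rw [eK_conj i hi]
  group

/-! ### the rigid pair -/

theorem w7_deep (i : Fin 5852) : deepS (w7 i.val) = true := by
  unfold w7
  apply deepS_rep
  rw [deepS_append, tw_deep, bl_deepS i.val i.isLt]
  rfl

theorem w19_deep (i : Fin 5852) : deepS (w19 i.val) = true := by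
  unfold w19
  apply deepS_rep
  rw [deepS_append, deepS_append, deepS_append, tw_deep, bl_deepS i.val i.isLt,
    deepS_bwd (bl_deepS i.val i.isLt)]
  rfl

theorem blP_inv (i : ℕ) : prodS 266 pN pM (bwd (blW i)) = (blP i)⁻¹ := by
  rw [prodS_bwd]
  rfl

theorem prodS_w7 (i : ℕ) : prodS 266 pN pM (w7 i) = (aP * blP i) ^ 7 := by
  unfold w7
  rw [prodS_rep, prodS_append, ← aP_eq, ← blP_eq]

theorem prodS_w19 (i : ℕ) :
    prodS 266 pN pM (w19 i) = (aP * blP i * aP * (blP i)⁻¹) ^ 19 := by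
  unfold w19
  rw [prodS_rep, prodS_append, prodS_append, prodS_append, ← aP_eq, ← blP_eq, blP_inv]

theorem rel7 : (aK * b0K) ^ 7 = 1 := by
  apply Subtype.ext
  rw [Subgroup.coe_pow, Subgroup.coe_mul, aK_val, b0K_val, ← prodS_w7]
  exact prodS_one_of_agree (w7_deep ⟨0, by norm_num⟩) b0_b.2.1

theorem rel19 : (aK * b0K * aK * b0K⁻¹) ^ 19 = 1 := by
  apply Subtype.ext
  rw [Subgroup.coe_pow, Subgroup.coe_mul, Subgroup.coe_mul, Subgroup.coe_mul, Subgroup.coe_inv,
    aK_val, b0K_val, ← prodS_w19]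
  exact prodS_one_of_agree (w19_deep ⟨0, by norm_num⟩) b0_b.2.2.1

theorem gc_spec (j : Fin 120) : deepS (fwd (GC.getD j.val [])) = true ∧
    agreeB (fwd (GC.getD j.val []) ++ fwd TW) (fwd TW ++ fwd (GC.getD j.val [])) = true ∧
    GI.getD j.val 0 < 5852 ∧
    agreeB (fwd (GC.getD j.val []) ++ fwd (blW 0) ++ bwd (GC.getD j.val []))
      (fwd (blW (GI.getD j.val 0))) = true := by
  have h1 := (Bool.and_eq_true _ _).mp (allF_spec good_b j)
  have h2 := (Bool.and_eq_true _ _).mp h1.2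
  have h3 := (Bool.and_eq_true _ _).mp h2.2
  exact ⟨h1.1, h2.1, of_decide_eq_true h3.1, h3.2⟩

/-- the centralising elements -/
noncomputable def cG (j : Fin 120) : ↥K :=
  ⟨prodW 266 pN pM (GC.getD j.val []), by
    rw [← prodS_fwd]
    exact prodS_mem (gc_spec j).1⟩

theorem cG_val (j : Fin 120) : ((cG j : ↥K) : PG) = prodW 266 pN pM (GC.getD j.val []) := rfl

theorem cG_comm (j : Fin 120) : cG j * aK = aK * cG j := by
  apply Subtype.ext
  rw [Subgroup.coe_mul, Subgroup.coe_mul, cG_val, aK_val, aP_eq, ← prodS_fwd, ← prodS_append,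
    ← prodS_append]
  refine prodS_eq_of_agree ?_ ?_ (gc_spec j).2.1
  · rw [deepS_append, (gc_spec j).1, tw_deep]
    rfl
  · rw [deepS_append, (gc_spec j).1, tw_deep]
    rfl

theorem cG_conj (j : Fin 120) :
    cG j * b0K * (cG j)⁻¹ = bK ⟨GI.getD j.val 0, (gc_spec j).2.2.1⟩ := by
  apply Subtype.ext
  rw [Subgroup.coe_mul, Subgroup.coe_mul, Subgroup.coe_inv, cG_val, b0K_val, bK_val, blP_eq,
    blP_eq, ← prodS_bwd, ← prodS_fwd, ← prodS_append, ← prodS_append]
  refine prodS_eq_of_agree ?_ (bl_deepS _ (gc_spec j).2.2.1) (gc_spec j).2.2.2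
  rw [deepS_append, deepS_append, (gc_spec j).1, b0_deep, deepS_bwd (gc_spec j).1]
  rfl

/-- an element of the class satisfying the two relations with the involution is conjugate to
the chosen element of order three under the centraliser of the involution -/
theorem filter_sound (i : Fin 5852) (h7 : (aK * bK i) ^ 7 = 1)
    (h19 : (aK * bK i * aK * (bK i)⁻¹) ^ 19 = 1) :
    ∃ c : ↥K, c * aK * c⁻¹ = aK ∧ c * b0K * c⁻¹ = bK i := by
  have h7' : (aP * blP i.val) ^ 7 = 1 := by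
    have h := congrArg Subtype.val h7
    rwa [Subgroup.coe_pow, Subgroup.coe_mul, aK_val, bK_val] at h
  have h19' : (aP * blP i.val * aP * (blP i.val)⁻¹) ^ 19 = 1 := by
    have h := congrArg Subtype.val h19
    rwa [Subgroup.coe_pow, Subgroup.coe_mul, Subgroup.coe_mul, Subgroup.coe_mul,
      Subgroup.coe_inv, aK_val, bK_val] at h
  have a7 : agreeB (w7 i.val) [] = true :=
    agree_of_eq_one (w7_deep i) (by rw [prodS_w7]; exact h7')
  have a19 : agreeB (w19 i.val) [] = true :=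
    agree_of_eq_one (w19_deep i) (by rw [prodS_w19]; exact h19')
  have hf := allF_spec filter_b i
  rw [a7, a19, Bool.not_true, Bool.false_or, Bool.false_or, decide_eq_true_eq] at hf
  obtain ⟨j, hj, hji⟩ := List.getElem_of_mem hf
  have hj' : j < 120 := by rw [← gi_length]; exact hj
  have hget : GI.getD (⟨j, hj'⟩ : Fin 120).val 0 = i.val := by
    rw [List.getD_eq_getElem _ _ hj]
    exact hji
  refine ⟨cG ⟨j, hj'⟩, ?_, ?_⟩
  · rw [cG_comm, mul_assoc, mul_inv_cancel, mul_one]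
  · rw [cG_conj]
    exact congrArg bK (Fin.ext hget)

end Cfsg.Agent.Lib.Helper9.J1O
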