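import Mathlib
import Cfsg.Agent.Lib.Helper9.J1O4

set_option autoImplicit false

/-! Every automorphism of `J₁` is inner. -/

namespace Cfsg.Agent.Lib.Helper9.J1O

open Cfsg Cfsg.Agent.Lib.Helper8.SS Cfsg.Agent.Lib.Helper8.J1 Cfsg.Agent.Lib.Helper9.BL
  Cfsg.Agent.Lib.Helper9.J1C Cfsg.Agent.Lib.Helper9.J1Base

/-! ### generation by the rigid pair -/

theorem expand_nil : expand [] = [] := by
  unfold expand
  rw [List.flatMap_nil]

theorem expand_cons (c : ℕ) (w : List ℕ) :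
    expand (c :: w) = (if c = 0 then TW else blW 0) ++ expand w := by
  unfold expand
  rw [List.flatMap_cons]

theorem fwd_append (w w' : List ℕ) : fwd (w ++ w') = fwd w ++ fwd w' := by
  unfold fwd
  rw [List.map_append]

theorem expand_deep (w : List ℕ) : deepS (fwd (expand w)) = true := by
  induction w with
  | nil =>
    rw [expand_nil]
    exact deepS_nil
  | cons c w ih =>
    rw [expand_cons, fwd_append, deepS_append, ih]
    by_cases hc : c = 0
    · rw [if_pos hc, tw_deep]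
      rfl
    · rw [if_neg hc, b0_deep]
      rfl

theorem aP_def : aP = prodW 266 pN pM TW := rfl

theorem blP_def (i : ℕ) : blP i = prodW 266 pN pM (blW i) := rfl

theorem expand_mem (w : List ℕ) : ∃ x ∈ Subgroup.closure ({aK, b0K} : Set ↥K),
    ((x : ↥K) : PG) = prodW 266 pN pM (expand w) := by
  induction w with
  | nil =>
    refine ⟨1, Subgroup.one_mem _, ?_⟩
    rw [expand_nil, prodW_nil, Subgroup.coe_one]
  | cons c w ih =>
    obtain ⟨x, hx, hxv⟩ := ih
    rw [expand_cons, prodW_append]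
    by_cases hc : c = 0
    · rw [if_pos hc]
      refine ⟨aK * x, Subgroup.mul_mem _ (Subgroup.subset_closure (by simp)) hx, ?_⟩
      rw [Subgroup.coe_mul, hxv, aK_val, aP_def]
    · rw [if_neg hc]
      refine ⟨b0K * x, Subgroup.mul_mem _ (Subgroup.subset_closure (by simp)) hx, ?_⟩
      rw [Subgroup.coe_mul, hxv, b0K_val, blP_def]

theorem gG_mem (k : Fin 5) : gG k ∈ Subgroup.closure ({aK, b0K} : Set ↥K) := by
  obtain ⟨x, hx, hxv⟩ := expand_mem (GWD.getD k.val [])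
  have h : x = gG k := by
    apply Subtype.ext
    rw [hxv, gG_val, ← prodS_fwd, ← prodS_single_true]
    refine prodS_eq_of_agree (expand_deep _) ?_ (allF_spec gen_b k)
    rw [deepS_cons, deepS_nil, gS_deep k]
    rfl
  rw [← h]
  exact hx

theorem pair_top : Subgroup.closure ({aK, b0K} : Set ↥K) = ⊤ := by
  rw [eq_top_iff, ← gens_top, Subgroup.closure_le]
  rintro _ ⟨k, rfl⟩
  exact gG_mem k

/-! ### automorphisms -/

theorem aut_inner (φ : ↥K ≃* ↥K) : ∃ k : ↥K, ∀ g : ↥K, φ g = k * g * k⁻¹ := by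
  have ht2 : (φ aK) ^ 2 = 1 := by rw [← map_pow, aK_sq, map_one]
  have ht1 : φ aK ≠ 1 := fun h => aK_ne (φ.injective (by rw [h, map_one]))
  obtain ⟨g, hg⟩ := involution_conj (φ aK) ht2 ht1
  obtain ⟨ψ, hψ⟩ : ∃ ψ : ↥K ≃* ↥K, ∀ x, ψ x = g⁻¹ * φ x * g :=
    ⟨φ.trans (MulAut.conj g⁻¹), fun x => by
      rw [MulEquiv.trans_apply, MulAut.conj_apply, inv_inv]⟩
  have hψa : ψ aK = aK := by
    rw [hψ, hg]
    group
  have hb3 : (ψ b0K) ^ 3 = 1 := by rw [← map_pow, b0K_cube, map_one]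
  have hb1 : ψ b0K ≠ 1 := fun h => b0K_ne (ψ.injective (by rw [h, map_one]))
  obtain ⟨i, hi⟩ := order_three_mem _ hb3 hb1
  have h7 : (ψ aK * ψ b0K) ^ 7 = 1 := by rw [← map_mul, ← map_pow, rel7, map_one]
  have h19 : (ψ aK * ψ b0K * ψ aK * (ψ b0K)⁻¹) ^ 19 = 1 := by
    rw [← map_inv, ← map_mul, ← map_mul, ← map_mul, ← map_pow, rel19, map_one]
  rw [hψa, ← hi] at h7 h19
  obtain ⟨c, hca, hcb⟩ := filter_sound i h7 h19
  have heq : ψ.toMonoidHom = (MulAut.conj c).toMonoidHom := by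
    apply hom_eq_of_closure _ pair_top
    rintro t (rfl | rfl)
    · show ψ aK = MulAut.conj c aK
      rw [MulAut.conj_apply, hca, hψa]
    · show ψ b0K = MulAut.conj c b0K
      rw [MulAut.conj_apply, hcb, hi]
  refine ⟨g * c, fun x => ?_⟩
  have h1 : ψ x = c * x * c⁻¹ := by
    have h := DFunLike.congr_fun heq x
    rwa [MulEquiv.coe_toMonoidHom, MulEquiv.coe_toMonoidHom, MulAut.conj_apply] at h
  have h2 : φ x = g * ψ x * g⁻¹ := by
    rw [hψ]
    group
  rw [h2, h1]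
  group

theorem main : Nat.card (Cfsg.Out ↥Cfsg.Spor.J1) = 1 := by
  obtain ⟨e⟩ := iso
  rw [Cfsg.Agent.Lib.Helper9.SchurJ1.QQ_one, Cfsg.Agent.Lib.Helper9.SchurJ1.QQ_two] at e
  exact card_out_one (inner_transport e aut_inner)

end Cfsg.Agent.Lib.Helper9.J1O
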