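import Mathlib
import Cfsg.Prelude.Def_MonsterType
import Cfsg.Prelude.Def_Transfer
import Cfsg.Agent.Lib.Helper7.OmA5

/-!
# Stubs for S5403 (the Hall–Janko section of `Co0`), farm `J2S` (owner helper9)

Units for free seats.  Copy the statement VERBATIM into your own file
`Cfsg/Agent/Lib/HelperK/J2S<UNIT>.lean` (namespace `Cfsg.Agent.Lib.HelperK.J2S<UNIT>`), prove it, land it,
post `J2S-DONE <UNIT>`.  This file contains `sorry` and is imported by nothing.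

Available tools: `Cfsg.Agent.Lib.Helper2.UFUnit.UF` (Lib/Helper2/UF.lean), 
`Cfsg.Agent.Lib.Helper2.Co1UE.extraspecial_of_cover`, `Cfsg.Agent.Lib.Helper2.Co1UG.{central_lift,
quot_map_equiv, card_map_of_ker_le}`, `Cfsg.Agent.Lib.Helper4.isSimpleGroup_of_card_sixty` (Sixty5.lean),
`Cfsg.Agent.Lib.Helper4.simple_sixty_iso` (Simple60.lean), `Cfsg.Agent.Lib.Helper7.OmA5.omegaM4_equiv`;
the pattern of `Cfsg/Agent/Lib/Helper9/Co1g.lean` (same bookkeeping for `Co1`); the proved statements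
`Cfsg.Agent.S1721.result`, `Cfsg.Agent.S1722.result`, `Cfsg.Agent.S1724.result` (for FINAL).
-/

set_option autoImplicit false

namespace Cfsg.Agent.Lib.Helper9.J2SStubs

open Cfsg

/-- Unit SIMPLE.  Case `7 ∣ |N|`: Frattini gives `|G : N| ∣ 6`, so some normal subgroup of index 2 or 3
contains the commutator subgroup: impossible.  Case `7 ∤ |N|`: a Sylow 7-subgroup acts on `N` with
trivial fixed points (`IsPGroup.card_modEq_card_fixedPoints`), so it fixes a Sylow `p`-subgroup of `N`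
for every `p`, of order `≡ 1 mod 7`: `N` is a 2-group of order 8 or 64; then a Sylow 5-subgroup acts
on it with trivial fixed points: `5 ∣ 7` or `5 ∣ 63`. -/
theorem simple_of_local {G : Type*} [Group G] [Finite G]
    (hcard : Nat.card G = 604800)
    (hc2 : 2 ^ 7 ∣ Nat.card ↥(commutator G)) (hc3 : 3 ^ 3 ∣ Nat.card ↥(commutator G))
    (h7 : ∀ P : Sylow 7 G, Subgroup.centralizer ((P : Subgroup G) : Set G) = P ∧
      Nat.card (Subgroup.normalizer ((P : Subgroup G) : Set G)) = 42)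
    (h5 : ∀ P : Sylow 5 G, Subgroup.centralizer ((P : Subgroup G) : Set G) = P) :
    IsSimpleGroup G := by
  sorry

/-- Unit TWOCLS. -/
theorem not_isConj_of_pow {C : Type*} [Group C] (N : Subgroup C) [N.Normal]
    (hNc : N ≤ Subgroup.center C) (hN10 : ∀ c ∈ N, c ^ 10 = 1) (x y : C) (hx : x ^ 10 = 1)
    (hy : y ^ 10 ≠ 1) :
    ¬ IsConj (QuotientGroup.mk x : C ⧸ N) (QuotientGroup.mk y : C ⧸ N) := by
  sorry

/-- Unit TYPE: the Hall–Janko-type hypothesis for a central quotient `C ⧸ N` from data in `C`.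
`D = C_C(t)` has order `19200`, `N` is central of order `10`, `Q2 ⊴ D` has order `64` with commutators
and squares in `{1, d}` and centre `{1, n, d, n d}`; the quotient `D ⧸ (Q2 ⊔ N)` has order `60` and a
non-normal Sylow 5-subgroup (so it is simple, hence `A5`, hence `Ω₄⁻(2)` by `OmA5.omegaM4_equiv`). -/
theorem j2type_of_data {C : Type} [Group C] [Finite C] (N : Subgroup C) [N.Normal]
    (hNc : N ≤ Subgroup.center C) (hNcard : Nat.card N = 10)
    (n : C) (hnN : n ∈ N) (hn1 : n ≠ 1)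
    (t : C) (htt : t * t = 1) (htN : t ∉ N)
    (hconj : ∀ g : C, ∀ c ∈ N, g * t * g⁻¹ = c * t → c = 1)
    (hD : Nat.card ↥(Subgroup.centralizer ({t} : Set C)) = 19200)
    (Q2 : Subgroup C) (hQ2D : Q2 ≤ Subgroup.centralizer ({t} : Set C))
    (hQ2n : ∀ g ∈ Subgroup.centralizer ({t} : Set C), ∀ q ∈ Q2, g * q * g⁻¹ ∈ Q2)
    (hQ2card : Nat.card Q2 = 64) (hnQ : n ∈ Q2)
    (hQN : ∀ x ∈ Q2, x ∈ N → x = 1 ∨ x = n)
    (d : C) (hdQ : d ∈ Q2) (hd1 : d ≠ 1) (hdn : d ≠ n)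
    (hdc : ∀ x ∈ Q2, x * d = d * x)
    (hcomm : ∀ x ∈ Q2, ∀ y ∈ Q2, x * y = y * x ∨ x * y = d * (y * x))
    (hsq : ∀ x ∈ Q2, x * x = 1 ∨ x * x = d)
    (hcen : ∀ x ∈ Q2, (∀ y ∈ Q2, x * y = y * x) → x = 1 ∨ x = n ∨ x = d ∨ x = n * d)
    (hna : ∃ x ∈ Q2, ∃ y ∈ Q2, x * y ≠ y * x)
    (b g : C) (hbD : b ∈ Subgroup.centralizer ({t} : Set C))
    (hgD : g ∈ Subgroup.centralizer ({t} : Set C))
    (hb5 : b ^ 5 ∈ Q2 ⊔ N) (hbne : b ∉ Q2 ⊔ N)
    (hgb : ∀ k : ℕ, k < 5 → g * b * g⁻¹ * (b ^ k)⁻¹ ∉ Q2 ⊔ N)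
    (x q : C) (hxD : x ∈ Subgroup.centralizer ({t} : Set C)) (hqQ : q ∈ Q2)
    (hxq : ∀ q' ∈ Q2, ∀ c ∈ N, x * q * x⁻¹ ≠ c * (q' * q * q'⁻¹))
    (u : C) (huQ : u * t * u⁻¹ ∈ Q2) (hut : ∀ c ∈ N, u * t * u⁻¹ ≠ c * t) :
    orderOf (QuotientGroup.mk t : C ⧸ N) = 2 ∧
    Nat.card ↥(Subgroup.centralizer ({(QuotientGroup.mk t : C ⧸ N)} : Set (C ⧸ N))) = 1920 ∧
    (∀ y ∈ Subgroup.centralizer ({(QuotientGroup.mk t : C ⧸ N)} : Set (C ⧸ N)),
      ∃ g ∈ Subgroup.centralizer ({t} : Set C), (QuotientGroup.mk g : C ⧸ N) = y) ∧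
    ∃ (Q : Subgroup (Subgroup.centralizer ({(QuotientGroup.mk t : C ⧸ N)} : Set (C ⧸ N))))
      (_ : Q.Normal),
      Cfsg.generalizedFittingSubgroup
        (Subgroup.centralizer ({(QuotientGroup.mk t : C ⧸ N)} : Set (C ⧸ N))) = Q ∧
      Cfsg.IsExtraspecial 2 Q ∧ Nat.card Q = 2 ^ 5 ∧
      Nonempty ((Subgroup.centralizer ({(QuotientGroup.mk t : C ⧸ N)} : Set (C ⧸ N))) ⧸ Q ≃*
        Cfsg.Omega (ZMod 2) (Cfsg.quadFormMinus 1 (ZMod 2) 1 1)) ∧
      ∃ g : C ⧸ N,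
        (∃ hq : g * (QuotientGroup.mk t : C ⧸ N) * g⁻¹ ∈
            Subgroup.centralizer ({(QuotientGroup.mk t : C ⧸ N)} : Set (C ⧸ N)),
          (⟨g * (QuotientGroup.mk t : C ⧸ N) * g⁻¹, hq⟩ :
            Subgroup.centralizer ({(QuotientGroup.mk t : C ⧸ N)} : Set (C ⧸ N))) ∈ Q) ∧
        g * (QuotientGroup.mk t : C ⧸ N) * g⁻¹ ≠ QuotientGroup.mk t := by
  sorry

/-- Unit FINAL: a group of Hall–Janko type with two classes of involutions, whose commutator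
subgroup contains the involution centraliser (order 1920) and a subgroup of order 27, is simple:
`Cfsg.Agent.S1721.result` (order 604800), `S1722.result`, `S1724.result` and `simple_of_local`. -/
theorem simple_of_j2type {S : Type} [Group S] [Finite S] (z : S) (hz : orderOf z = 2)
    (Q : Subgroup (Subgroup.centralizer ({z} : Set S))) (hQn : Q.Normal)
    (hF : Cfsg.generalizedFittingSubgroup (Subgroup.centralizer ({z} : Set S)) = Q)
    (hQ : Cfsg.IsExtraspecial 2 Q) (hcard : Nat.card Q = 2 ^ 5)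
    (e : Nonempty ((Subgroup.centralizer ({z} : Set S)) ⧸ Q ≃*
      Cfsg.Omega (ZMod 2) (Cfsg.quadFormMinus 1 (ZMod 2) 1 1)))
    (hnwc : ∃ g : S, (∃ hq : g * z * g⁻¹ ∈ Subgroup.centralizer ({z} : Set S),
      (⟨g * z * g⁻¹, hq⟩ : Subgroup.centralizer ({z} : Set S)) ∈ Q) ∧ g * z * g⁻¹ ≠ z)
    (hcl : ∃ x y : S, orderOf x = 2 ∧ orderOf y = 2 ∧ ¬ IsConj x y)
    (hCz : Subgroup.centralizer ({z} : Set S) ≤ commutator S)
    (hCzcard : Nat.card ↥(Subgroup.centralizer ({z} : Set S)) = 1920)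
    (R : Subgroup S) (hR : Nat.card R = 27) (hRS : R ≤ commutator S) :
    IsSimpleGroup S := by
  sorry

end Cfsg.Agent.Lib.Helper9.J2SStubs
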