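import Mathlib

/-!
# More stubs for S5403 (farm `J2S`, owner helper9): unit HEIS27

Copy VERBATIM into `Cfsg/Agent/Lib/HelperK/J2SHEIS27.lean`, prove, land, tip `J2S-DONE HEIS27`.
This file contains `sorry` and is imported by nothing.
-/

set_option autoImplicit false

namespace Cfsg.Agent.Lib.Helper9.J2SStubs2

/-- Unit HEIS27: two non-commuting elements of order dividing 3 whose commutator is central in the
subgroup they generate and has order dividing 3 generate a subgroup of order 27.
(Every element of the closure is `x^i * y^j * c^k`, so the order is at most 27; the quotient by `⟨c⟩` is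
abelian of order dividing 9, so the order is 3, 9 or 27; groups of order 3 and 9 are abelian.) -/
theorem card_closure_pair {G : Type*} [Group G] (x y : G) (hx : x ^ 3 = 1) (hy : y ^ 3 = 1)
    (hcx : (x * y * x⁻¹ * y⁻¹) * x = x * (x * y * x⁻¹ * y⁻¹))
    (hcy : (x * y * x⁻¹ * y⁻¹) * y = y * (x * y * x⁻¹ * y⁻¹))
    (hc3 : (x * y * x⁻¹ * y⁻¹) ^ 3 = 1) (hne : x * y ≠ y * x) :
    Nat.card ↥(Subgroup.closure ({x, y} : Set G)) = 27 := by
  sorry

end Cfsg.Agent.Lib.Helper9.J2SStubs2
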