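import Cfsg.Agent.Lib.Helper9.Co1g

/-!
# Stubs for S5403 (farm `J2S`, owner helper9), SEMI-CONCRETE generic units: NSTR, ROOTS, KBOUND

These units live in the concrete group `↥Co0` but do not depend on the particular element `a`
(it is a variable).  Copy the relevant definitions and statements VERBATIM into
`Cfsg/Agent/Lib/HelperK/J2S<UNIT>.lean` (namespace `Cfsg.Agent.Lib.HelperK.J2S<UNIT>`), prove, land,
tip `J2S-DONE <UNIT>`.  This file contains `sorry` and is imported by nothing.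

Library: `Lib/Helper9/Co1a` (`e0`, `Ct`, `mem_Ct`, `InO`, `tup`, `gen`, `mem_gen`, `tup_mem` = the model for
ROOTS), `Co1c` (`Qt` = elements of `Ct` acting as `±1` on the vectors supported on the octad), `Co1e`
(`card_Qt : Nat.card ↥Qt = 1024`), `Co1f` (`nC`, `nC_mem`, `nC_val`), `Co1g` (`e0_sq`, `e0_ne_one`,
`e0_ne_negOne`), `LeechM2` (`negOne`, `central_eq`, `negOne_mem_center`), `Helper6.Co1UP.no_neg_conj`,
`Co1b.finite_Co0`, `OrbCert1` (`vecN`, `vecI`, `dg`).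
-/

set_option autoImplicit false
set_option maxRecDepth 1000000

namespace Cfsg.Agent.Lib.Helper9.J2SStubs3

open scoped Pointwise
open Cfsg Finset Cfsg.Agent.Lib.Helper4.Leech Cfsg.Agent.Lib.Helper9.LeechC7
  Cfsg.Agent.Lib.Helper9.LeechM1 Cfsg.Agent.Lib.Helper9.LeechM2 Cfsg.Agent.Lib.Helper9.LeechM4
  Cfsg.Agent.Lib.Helper9.LeechX4 Cfsg.Agent.Lib.Helper9.LeechX7
  Cfsg.Agent.Lib.Helper9.M24T8 Cfsg.Agent.Lib.Helper9.M24T3 Cfsg.Agent.Lib.Helper9.M24U1
  Cfsg.Agent.Lib.Helper9.M24T1 Cfsg.Agent.Lib.Helper9.GolayQR1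
  Cfsg.Agent.Lib.Helper9.OrbCert1 Cfsg.Agent.Lib.Helper9.OrbCert3
  Cfsg.Agent.Lib.Helper9.Co1a Cfsg.Agent.Lib.Helper9.Co1b Cfsg.Agent.Lib.Helper9.Co1c
  Cfsg.Agent.Lib.Helper9.Co1e Cfsg.Agent.Lib.Helper9.Co1f Cfsg.Agent.Lib.Helper9.Co1g

/-! ## Unit NSTR: the subgroup `N = ⟨a, -1⟩` of the centraliser of `a` -/

/-- the centraliser of `⟨a⟩` -/
abbrev CA (a : ↥Co0) : Subgroup ↥Co0 :=
  Subgroup.centralizer ((Subgroup.zpowers a : Subgroup ↥Co0) : Set ↥Co0)

/-- the subgroup `⟨a, -1⟩` of it -/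
abbrev NA (a : ↥Co0) : Subgroup ↥(CA a) :=
  (Subgroup.zpowers a ⊔ Subgroup.center ↥Co0).subgroupOf (CA a)

theorem mem_CA (a g : ↥Co0) : g ∈ CA a ↔ g * a = a * g := by
  sorry

theorem card_zpowers (a : ↥Co0) (ha5 : a ^ 5 = 1) (ha1 : a ≠ 1) :
    Nat.card ↥(Subgroup.zpowers a) = 5 := by
  sorry

theorem NA_normal (a : ↥Co0) : (NA a).Normal := by
  sorry

theorem NA_le_center (a : ↥Co0) : NA a ≤ Subgroup.center ↥(CA a) := by
  sorry

theorem mem_NA (a : ↥Co0) (ha5 : a ^ 5 = 1) (x : ↥(CA a)) :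
    x ∈ NA a ↔ ∃ k : ℕ, k < 5 ∧ (x.1 = a ^ k ∨ x.1 = a ^ k * negOne) := by
  sorry

theorem card_NA (a : ↥Co0) (ha5 : a ^ 5 = 1) (ha1 : a ≠ 1) : Nat.card ↥(NA a) = 10 := by
  sorry

theorem NA_pow_ten (a : ↥Co0) (ha5 : a ^ 5 = 1) : ∀ c ∈ NA a, c ^ 10 = 1 := by
  sorry

/-- the only elements of `N` of order dividing 4 are `±1` -/
theorem NA_pow_four (a : ↥Co0) (ha5 : a ^ 5 = 1) (x : ↥(CA a)) (hx : x ∈ NA a)
    (h4 : x ^ 4 = 1) : x.1 = 1 ∨ x.1 = negOne := by
  sorry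

/-- the sign change on the octad is not in `N` -/
theorem e0_notMem_NA (a : ↥Co0) (ha5 : a ^ 5 = 1) (he : e0 ∈ CA a) :
    (⟨e0, he⟩ : ↥(CA a)) ∉ NA a := by
  sorry

/-- hypothesis `hconj` of `j2type_of_data` -/
theorem conj_e0 (a : ↥Co0) (ha5 : a ^ 5 = 1) (he : e0 ∈ CA a) (g : ↥(CA a)) (c : ↥(CA a))
    (hc : c ∈ NA a) (h : g * ⟨e0, he⟩ * g⁻¹ = c * ⟨e0, he⟩) : c = 1 := by
  sorry

/-- the centraliser of the sign change inside the centraliser of `a` -/
theorem card_centralizer_e0 (a : ↥Co0) (he : e0 ∈ CA a) :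
    Nat.card ↥(Subgroup.centralizer ({(⟨e0, he⟩ : ↥(CA a))} : Set ↥(CA a)))
      = Nat.card ↥(CA a ⊓ Ct) := by
  sorry

/-! ## Unit ROOTS: the 240 vectors of sum of squares 32 supported on the octad

Model: `Co1a.tup_mem` (the 2160 vectors of sum of squares 64).  `RL` is to be DEFINED by you (any explicit
or computed list of the 240 codes; code of a vector `x` = `∑ k < 24, (x_k + 8) <<< (4 k)`, with the
coordinates indexed by `idx : GolayPt → ℕ`, `idx none = 23`; `vecN c` decodes). -/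

/-- the codes of the 240 roots (placeholder: define it yourself) -/
def RL : List ℕ := []

theorem RL_length : RL.length = 240 := by
  sorry

theorem root_code (v : leechLattice) (hO : InO v) (hn : sqNorm v.1 = 32) :
    ∃ c ∈ RL, v.1 = vecN c := by
  sorry

/-! ## Unit KBOUND: counting -/

/-- a subgroup of the pointwise stabiliser of the vectors supported on the octad (a group of order `512`,
of index 2 in `Qt`, whose order `1024` is `Co1e.card_Qt`) which meets a set of 16 elements of that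
stabiliser, closed under quotients, trivially, has order at most 32:
`(s, i) ↦ s * φ i` is injective into the pointwise stabiliser `K`, and `(k, b) ↦ k * nC ^ b` is
injective from `K × Bool` into `Qt`. -/
theorem stab_card_le (S : Subgroup ↥Co0)
    (hS : ∀ g ∈ S, g ∈ Ct ∧ ∀ v : leechLattice, InO v → g.1 v = v)
    (φ : Fin 16 → ↥Co0) (hφ : ∀ i, φ i ∈ Ct ∧ ∀ v : leechLattice, InO v → (φ i).1 v = v)
    (hinj : ∀ i j, φ i * (φ j)⁻¹ ∈ S → i = j) : Nat.card ↥S ≤ 32 := by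
  sorry

/-- orbit counting without a `MulAction` instance -/
theorem card_eq_of_fibres {G : Type*} [Group G] [Finite G] {X : Type*} (f : G → X)
    (S : Subgroup G) (hf : ∀ g h : G, f g = f h ↔ g⁻¹ * h ∈ S) (m k : ℕ)
    (hr : (Set.range f).ncard = m) (hS : Nat.card ↥S = k) : Nat.card G = m * k := by
  sorry

end Cfsg.Agent.Lib.Helper9.J2SStubs3
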