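import Mathlib
import Cfsg.Agent.Lib.Helper9.JRDefs
import Cfsg.Agent.Lib.Helper6.JRG1b
import Cfsg.Agent.Lib.Helper7.JRklein

set_option autoImplicit false

/-! Farm JR (S3206), unit G1c: `S = ⟨t⟩ × (S ∩ NG)` is elementary abelian of order 8. -/

namespace Cfsg.Agent.Lib.Helper9.JRG1c

open Cfsg.Agent.Lib.Helper9.JRDefs

section aux
variable {T : Type*} [Group T]

theorem relIndex_eq_two_of' {A B : Subgroup T} {a : T} (haB : a ∈ B) (haA : a ∉ A)
    (h : ∀ x ∈ B, ∀ y ∈ B, x ∉ A → y ∉ A → x * y⁻¹ ∈ A) : A.relIndex B = 2 := by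
  rw [Subgroup.relIndex_eq_two_iff]
  refine ⟨a⁻¹, B.inv_mem haB, fun b hb => ?_⟩
  by_cases hbA : b ∈ A
  · refine Or.inr ⟨hbA, fun hba => haA ?_⟩
    have e : a = (b * a⁻¹)⁻¹ * b := by group
    rw [e]; exact A.mul_mem (A.inv_mem hba) hbA
  · exact Or.inl ⟨h b hb a haB hbA haA, hbA⟩

theorem card_eq_relIndex_mul' [Finite T] {K W : Subgroup T} (h : K ≤ W) :
    Nat.card W = K.relIndex W * Nat.card K := by
  have h1 : Nat.card (K.subgroupOf W) = Nat.card K :=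
    Nat.card_congr (Subgroup.subgroupOfEquivOfLe h).toEquiv
  have h2 := (K.subgroupOf W).index_mul_card
  rw [h1] at h2
  exact h2.symm

end aux

variable {G : Type*} [Group G] [Finite G] {F : Type*} [Field F] [Fintype F]

theorem G1c (X : JR G F) (S : Sylow 2 G) (htS : X.t ∈ S) :
    Nat.card S = 8 ∧ (∀ s ∈ S, s * s = 1) ∧
    (∀ s ∈ S, ∃ w ∈ S, w ∈ X.NG ∧ (s = w ∨ s = X.t * w)) := by
  obtain ⟨hq, hSE, ⟨V, hV⟩, -⟩ := Cfsg.Agent.Lib.Helper6.JRG1b.G1b X S htS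
  obtain ⟨e⟩ := X.iso
  obtain ⟨hV4, hVexp⟩ := Cfsg.Agent.Lib.Helper7.JRklein.klein hq e V
  have htt := X.t_mul_self
  have htinv : X.t⁻¹ = X.t := inv_eq_of_mul_eq_one_right htt
  -- decomposition
  have hdec : ∀ s ∈ S, ∃ w ∈ S, w ∈ X.NG ∧ (s = w ∨ s = X.t * w) := by
    intro s hs
    obtain ⟨e0, he0, h⟩ := X.mem_C s (X.sylow_le S htS hs)
    have he0S : e0 ∈ S := by
      rcases h with rfl | rfl
      · exact hs
      · have : e0 = X.t⁻¹ * (X.t * e0) := by group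
        rw [this]
        exact mul_mem (inv_mem htS) hs
    exact ⟨e0, he0S, hSE e0 he0S he0, h⟩
  have hsq : ∀ w ∈ S, w ∈ X.NG → w * w = 1 := by
    intro w hwS hwN
    have := hVexp ⟨w, hwN⟩ ((hV _).2 hwS)
    exact congrArg Subtype.val this
  have hexp : ∀ s ∈ S, s * s = 1 := by
    intro s hs
    obtain ⟨w, hwS, hwN, h⟩ := hdec s hs
    rcases h with rfl | rfl
    · exact hsq _ hwS hwN
    · have hc : w * X.t = X.t * w := X.hab S w hwS X.t htS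
      calc X.t * w * (X.t * w) = X.t * (w * X.t) * w := by group
        _ = X.t * (X.t * w) * w := by rw [hc]
        _ = (X.t * X.t) * (w * w) := by group
        _ = 1 := by rw [htt, hsq w hwS hwN, one_mul]
  refine ⟨?_, hexp, hdec⟩
  -- cardinality
  have htN : X.t ∉ X.NG := fun h => X.t_not_mem_E (X.hNE h)
  have hW : Nat.card ((S : Subgroup G) ⊓ X.NG : Subgroup G) = 4 := by
    rw [← hV4]
    apply Nat.card_congr
    refine ⟨fun x => ⟨⟨x.1, x.2.2⟩, (hV _).2 x.2.1⟩, fun v => ⟨v.1.1, (hV _).1 v.2, v.1.2⟩, ?_, ?_⟩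
    · intro x; rfl
    · intro v; rfl
  have hidx : ((S : Subgroup G) ⊓ X.NG).relIndex (S : Subgroup G) = 2 := by
    apply relIndex_eq_two_of' (A := (S : Subgroup G) ⊓ X.NG) (B := (S : Subgroup G)) (a := X.t) htS
      (fun h => htN (Subgroup.mem_inf.mp h).2)
    intro x hx y hy hxW hyW
    obtain ⟨w1, hw1S, hw1N, h1⟩ := hdec x hx
    obtain ⟨w2, hw2S, hw2N, h2⟩ := hdec y hy
    rcases h1 with rfl | rfl
    · exact absurd (Subgroup.mem_inf.mpr ⟨hw1S, hw1N⟩) hxW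
    rcases h2 with rfl | rfl
    · exact absurd (Subgroup.mem_inf.mpr ⟨hw2S, hw2N⟩) hyW
    have : X.t * w1 * (X.t * w2)⁻¹ = w1 * w2⁻¹ := by
      have hc : w1 * X.t = X.t * w1 := X.hab S w1 hw1S X.t htS
      have hc2 : w2⁻¹ * X.t = X.t * w2⁻¹ := X.hab S _ (inv_mem hw2S) X.t htS
      calc X.t * w1 * (X.t * w2)⁻¹ = X.t * w1 * (w2⁻¹ * X.t⁻¹) := by rw [mul_inv_rev]
        _ = X.t * w1 * (w2⁻¹ * X.t) := by rw [htinv]
        _ = X.t * w1 * (X.t * w2⁻¹) := by rw [hc2]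
        _ = X.t * (w1 * X.t) * w2⁻¹ := by group
        _ = X.t * (X.t * w1) * w2⁻¹ := by rw [hc]
        _ = (X.t * X.t) * (w1 * w2⁻¹) := by group
        _ = w1 * w2⁻¹ := by rw [htt, one_mul]
    rw [this]
    exact Subgroup.mem_inf.mpr ⟨(S : Subgroup G).mul_mem hw1S ((S : Subgroup G).inv_mem hw2S),
      X.NG.mul_mem hw1N (X.NG.inv_mem hw2N)⟩
  have h := card_eq_relIndex_mul' (inf_le_left : (S : Subgroup G) ⊓ X.NG ≤ (S : Subgroup G))
  rw [hidx, hW] at h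
  exact h

end Cfsg.Agent.Lib.Helper9.JRG1c
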