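import Mathlib
import Cfsg.Agent.Lib.Helper1.AbelianSylow

set_option autoImplicit false

/-! Farm JR (S3206), unit G2: transitivity of `N_G(S)` on `S \ {1}`. -/

namespace Cfsg.Agent.Lib.Helper9.JRG2

variable {G : Type*} [Group G]

/-- the conjugation action of a subgroup on the group -/
@[reducible] def conjAct (Nm : Subgroup G) : MulAction ↥Nm G :=
  MulAction.compHom G ((MulAut.conj : G →* MulAut G).comp Nm.subtype)

theorem conjAct_smul (Nm : Subgroup G) (n : ↥Nm) (x : G) :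
    (letI := conjAct Nm; n • x) = n * x * (n : G)⁻¹ := rfl

/-- combinatorial core: an invariant partition of a 7-element set into odd classes of size `≠ 1`
has a single class. Here: `O x` is the class of `x`. -/
theorem single_class {α : Type*} (U : Set α) (hU : U.ncard = 7) (O : α → Set α)
    (hself : ∀ x ∈ U, x ∈ O x) (hsub : ∀ x ∈ U, O x ⊆ U)
    (heq : ∀ x ∈ U, ∀ y ∈ O x, O y = O x)
    (hodd : ∀ x ∈ U, ¬ 2 ∣ (O x).ncard) (hne1 : ∀ x ∈ U, (O x).ncard ≠ 1) :
    ∀ x ∈ U, ∀ y ∈ U, y ∈ O x := by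
  classical
  have hUfin : U.Finite := Set.finite_of_ncard_ne_zero (by rw [hU]; norm_num)
  have hOfin : ∀ x ∈ U, (O x).Finite := fun x hx => hUfin.subset (hsub x hx)
  have hpos : ∀ x ∈ U, 3 ≤ (O x).ncard := by
    intro x hx
    have h0 : (O x).ncard ≠ 0 := by
      rw [Ne, Set.ncard_eq_zero (hOfin x hx)]
      exact Set.nonempty_iff_ne_empty.mp ⟨x, hself x hx⟩
    have h1 := hne1 x hx
    have h2 := hodd x hx
    omega
  have hdisj : ∀ x ∈ U, ∀ y ∈ U, y ∉ O x → Disjoint (O x) (O y) := by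
    intro x hx y hy hyx
    rw [Set.disjoint_left]
    intro z hzx hzy
    apply hyx
    have h1 := heq x hx z hzx
    have h2 := heq y hy z hzy
    rw [← h1, h2]
    exact hself y hy
  intro x hx y hy
  by_contra hyx
  have hd := hdisj x hx y hy hyx
  have hunion : (O x ∪ O y).ncard = (O x).ncard + (O y).ncard :=
    Set.ncard_union_eq hd (hOfin x hx) (hOfin y hy)
  have hsubU : O x ∪ O y ⊆ U := Set.union_subset (hsub x hx) (hsub y hy)
  have hle := Set.ncard_le_ncard hsubU hUfin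
  have h3x := hpos x hx
  have h3y := hpos y hy
  have hox := hodd x hx
  have hoy := hodd y hy
  have hx3 : (O x).ncard = 3 := by omega
  have hy3 : (O y).ncard = 3 := by omega
  -- the remaining element
  have hdiff : (U \ (O x ∪ O y)).ncard = 1 := by
    have := Set.ncard_sdiff_add_ncard_of_subset hsubU hUfin
    omega
  obtain ⟨z, hz⟩ := Set.ncard_eq_one.mp hdiff
  have hzmem : z ∈ U \ (O x ∪ O y) := by rw [hz]; exact Set.mem_singleton z
  have hzU : z ∈ U := hzmem.1
  have hzx : z ∉ O x := fun h => hzmem.2 (Or.inl h)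
  have hzy : z ∉ O y := fun h => hzmem.2 (Or.inr h)
  have hOz : O z ⊆ {z} := by
    intro w hw
    rw [← hz]
    refine ⟨hsub z hzU hw, ?_⟩
    rintro (h | h)
    · exact Set.disjoint_left.mp (hdisj x hx z hzU hzx) h hw
    · exact Set.disjoint_left.mp (hdisj y hy z hzU hzy) h hw
  have := Set.ncard_le_ncard hOz (Set.finite_singleton z)
  rw [Set.ncard_singleton] at this
  have := hpos z hzU
  omega

variable [Finite G]

theorem G2 (hperf : commutator G = ⊤) (S : Sylow 2 G)
    (hc : ∀ a ∈ S, ∀ b ∈ S, a * b = b * a) (h8 : Nat.card S = 8) :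
    ∀ x ∈ S, ∀ y ∈ S, x ≠ 1 → y ≠ 1 →
      ∃ n ∈ Subgroup.normalizer ((S : Subgroup G) : Set G), n * x * n⁻¹ = y := by
  classical
  obtain ⟨Nm, hNm⟩ : ∃ Nm : Subgroup G, Nm = Subgroup.normalizer ((S : Subgroup G) : Set G) :=
    ⟨_, rfl⟩
  rw [← hNm]
  have hSN : (S : Subgroup G) ≤ Nm := by rw [hNm]; exact Subgroup.le_normalizer
  -- no fixed points
  have hfix : ∀ x ∈ S, (∀ n ∈ Nm, n * x * n⁻¹ = x) → x = 1 := by
    intro x hx hall
    have hcS : IsMulCommutative ↥(S : Subgroup G) :=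
      isMulCommutative_iff.mpr fun a b => Subtype.ext (hc a a.2 b b.2)
    obtain ⟨h1, -⟩ := Cfsg.Agent.Lib.Helper1.abelian_sylow_decomposition S hcS
    rw [hperf, top_inf_eq] at h1
    have hmem : x ∈ (⊥ : Subgroup G) := by
      rw [← h1]
      refine ⟨⟨hx, ?_⟩, hx⟩
      show x ∈ Subgroup.centralizer _
      rw [Subgroup.mem_centralizer_iff]
      intro n hn
      have := hall n (by rw [hNm]; exact hn)
      rw [mul_inv_eq_iff_eq_mul] at this
      exact this
    exact Subgroup.mem_bot.mp hmem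
  letI := conjAct Nm
  have hsm : ∀ (n : ↥Nm) (x : G), n • x = n * x * (n : G)⁻¹ := fun n x => rfl
  -- the classes
  let O : G → Set G := fun x => MulAction.orbit ↥Nm x
  let U : Set G := {x | x ∈ S ∧ x ≠ 1}
  have hOmem : ∀ x y, y ∈ O x ↔ ∃ n ∈ Nm, n * x * n⁻¹ = y := by
    intro x y
    show y ∈ MulAction.orbit ↥Nm x ↔ _
    rw [MulAction.mem_orbit_iff]
    constructor
    · rintro ⟨n, rfl⟩
      exact ⟨n, n.2, rfl⟩
    · rintro ⟨n, hn, rfl⟩
      exact ⟨⟨n, hn⟩, rfl⟩
  have hU : U.ncard = 7 := by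
    have h1 : U = ((S : Subgroup G) : Set G) \ {1} := by
      ext x
      simp [U]
    rw [h1, Set.ncard_sdiff (by simpa using one_mem (S : Subgroup G)) ,
      Set.ncard_singleton]
    have : ((S : Subgroup G) : Set G).ncard = 8 := by
      rw [← h8]
      exact (Nat.card_coe_set_eq _)
    rw [this]
  have hsub : ∀ x ∈ U, O x ⊆ U := by
    rintro x ⟨hxS, hx1⟩ y hy
    obtain ⟨n, hn, rfl⟩ := (hOmem x y).1 hy
    refine ⟨?_, ?_⟩
    · rw [hNm] at hn
      exact (Subgroup.mem_normalizer_iff.mp hn x).1 hxS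
    · intro h
      apply hx1
      have : n * x * n⁻¹ = n * 1 * n⁻¹ := by rw [h]; group
      exact mul_left_cancel (mul_right_cancel this)
  have hodd : ∀ x ∈ U, ¬ 2 ∣ (O x).ncard := by
    rintro x ⟨hxS, hx1⟩
    show ¬ 2 ∣ (MulAction.orbit ↥Nm x).ncard
    rw [← MulAction.index_stabilizer]
    have hle : (S : Subgroup G).subgroupOf Nm ≤ MulAction.stabilizer ↥Nm x := by
      intro n hn
      rw [MulAction.mem_stabilizer_iff, hsm]
      have : (n : G) ∈ (S : Subgroup G) := hn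
      rw [hc _ this x hxS, mul_inv_cancel_right]
    have h1 := Subgroup.index_dvd_of_le hle
    have h2 : ((S : Subgroup G).subgroupOf Nm).index ∣ (S : Subgroup G).index :=
      Subgroup.relIndex_dvd_index_of_le hSN
    intro h
    exact S.not_dvd_index (dvd_trans (dvd_trans h h1) h2)
  have hne1 : ∀ x ∈ U, (O x).ncard ≠ 1 := by
    rintro x ⟨hxS, hx1⟩ h
    obtain ⟨z, hz⟩ := Set.ncard_eq_one.mp h
    apply hx1
    apply hfix x hxS
    intro n hn
    have h1 : n * x * n⁻¹ ∈ O x := (hOmem x _).2 ⟨n, hn, rfl⟩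
    have h2 : x ∈ O x := MulAction.mem_orbit_self x
    rw [hz] at h1 h2
    rw [Set.mem_singleton_iff.mp h1, Set.mem_singleton_iff.mp h2]
  have key := single_class U hU O (fun x _ => MulAction.mem_orbit_self x) hsub
    (fun x _ y hy => MulAction.orbit_eq_iff.mpr hy) hodd hne1
  intro x hx y hy hx1 hy1
  exact (hOmem x y).1 (key x ⟨hx, hx1⟩ y ⟨hy, hy1⟩)

end Cfsg.Agent.Lib.Helper9.JRG2
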