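import Mathlib
import Cfsg.Agent.Lib.Helper9.JRP2c

set_option autoImplicit false

/-! Farm JR (S3206), unit P2, part b: `cG A` fixing the standard pair is conjugation by an element of
the standard four-group. -/

namespace Cfsg.Agent.Lib.Helper9.JRP2b

open Matrix
open Cfsg.Agent.Lib.Helper9.JRDefs Cfsg.Agent.Lib.Helper5.PairOrbits
  Cfsg.Agent.Lib.Helper5.PSL2KleinClasses Cfsg.Agent.Lib.Helper5.SL2Quat
  Cfsg.Agent.Lib.Helper5.SumTwoSq Cfsg.Agent.Lib.Helper5.AutPSL2

variable {F : Type*} [Field F]

/-- matrix form of "`cG A` fixes `mk g`" -/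
theorem mat_of_fix (A : GL (Fin 2) F) (g : Matrix.SpecialLinearGroup (Fin 2) F)
    (h : cG F A (QuotientGroup.mk g) = QuotientGroup.mk g) :
    (A : Matrix (Fin 2) (Fin 2) F) * g.1 = g.1 * A ∨
      (A : Matrix (Fin 2) (Fin 2) F) * g.1 = -(g.1 * A) := by
  have h' : pr F (glConj F A g) = pr F g := h
  have hm := glConj_mul_eq A g
  rcases (pr_eq_iff _ _).1 h' with h1 | h1
  · left
    rw [← hm, ← h1]
  · right
    have h2 : (g : Matrix (Fin 2) (Fin 2) F) = -(glConj F A g).1 := by
      have := congrArg Subtype.val h1
      rw [Matrix.SpecialLinearGroup.coe_mul, Cfsg.Agent.Lib.Helper5.AutPSL2.coe_negOne] at this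
      rw [this]; simp
    rw [← hm, h2]
    simp

/-- `cG` of a scalar multiple of an element of `SL₂` -/
theorem cG_of_smul (A : GL (Fin 2) F) (l : F) (g : Matrix.SpecialLinearGroup (Fin 2) F)
    (h : (A : Matrix (Fin 2) (Fin 2) F) = l • g.1) :
    ∀ x, cG F A x = (QuotientGroup.mk g : PSL2 F) * x * (QuotientGroup.mk g : PSL2 F)⁻¹ := by
  have hl : l ≠ 0 := by
    rintro rfl
    have := gl_det_ne_zero A
    rw [h] at this
    simp at this
  have hA : A = Matrix.GeneralLinearGroup.scalar (Fin 2) (Units.mk0 l hl) *
      Matrix.SpecialLinearGroup.toGL g := by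
    apply Units.ext
    rw [Units.val_mul, Matrix.GeneralLinearGroup.coe_scalar, h]
    ext i j
    simp [Matrix.scalar, Matrix.diagonal_mul]
  intro x
  rw [hA, map_mul, cG_scalar, one_mul, ← conj_eq_cG]
  rfl

theorem P2b : Cfsg.Agent.Lib.Helper9.JRP2c.P2bStatement F := by
  intro h2 p r hpr A h1 h2'
  have hi := mat_of_fix A (qi F) h1
  have hj := mat_of_fix A (qj p r hpr) h2'
  rw [qi_val] at hi
  rw [qj_val] at hj
  obtain ⟨a, b, c, d, hM⟩ : ∃ a b c d : F, (A : Matrix (Fin 2) (Fin 2) F) = !![a, b; c, d] :=
    ⟨_, _, _, _, (Matrix.etaExpand_eq (A : Matrix (Fin 2) (Fin 2) F)).symm⟩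
  rw [hM] at hi hj
  have two : (2 : F) ≠ 0 := h2
  rcases hi with hi | hi <;> rcases hj with hj | hj
  · -- (+,+): scalar
    have e00 := congrFun (congrFun hi 0) 0
    have e01 := congrFun (congrFun hi 0) 1
    have f00 := congrFun (congrFun hj 0) 0
    have f01 := congrFun (congrFun hj 0) 1
    simp [mul_apply, Fin.sum_univ_two] at e00 e01 f00 f01
    have hc : -b = c := by linear_combination e00
    have hd : a = d := by linear_combination e01
    subst hc hd
    have hbr : b * r = 0 := by
      have : (2 : F) * (b * r) = 0 := by linear_combination f00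
      exact (mul_eq_zero.mp this).resolve_left two
    have hbp : b * p = 0 := by
      have : (2 : F) * (b * p) = 0 := by linear_combination -f01
      exact (mul_eq_zero.mp this).resolve_left two
    have hb : b = 0 := by
      have : b * (p ^ 2 + r ^ 2) = 0 := by linear_combination p * hbp + r * hbr
      rw [hpr] at this
      simpa using this
    subst hb
    refine ⟨1, one_mem _, ?_⟩
    have := cG_of_smul A a 1 (by rw [hM]; ext i j; fin_cases i <;> fin_cases j <;> simp)
    intro x
    rw [this x]
    simp
  · -- (+,-): multiple of `qi`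
    have e00 := congrFun (congrFun hi 0) 0
    have e01 := congrFun (congrFun hi 0) 1
    have f00 := congrFun (congrFun hj 0) 0
    have f01 := congrFun (congrFun hj 0) 1
    simp [mul_apply, Fin.sum_univ_two] at e00 e01 f00 f01
    have hc : -b = c := by linear_combination e00
    have hd : a = d := by linear_combination e01
    subst hc hd
    have hap : a * p = 0 := by
      have : (2 : F) * (a * p) = 0 := by linear_combination f00
      exact (mul_eq_zero.mp this).resolve_left two
    have har : a * r = 0 := by
      have : (2 : F) * (a * r) = 0 := by linear_combination f01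
      exact (mul_eq_zero.mp this).resolve_left two
    have ha : a = 0 := by
      have : a * (p ^ 2 + r ^ 2) = 0 := by linear_combination p * hap + r * har
      rw [hpr] at this
      simpa using this
    subst ha
    refine ⟨QuotientGroup.mk (qi F), (mem_kvP _ _ _).2 (Or.inr (Or.inl rfl)), ?_⟩
    exact cG_of_smul A b (qi F) (by
      rw [hM, qi_val]; ext i j; fin_cases i <;> fin_cases j <;> simp)
  · -- (-,+): multiple of `qj`
    have e00 := congrFun (congrFun hi 0) 0
    have e01 := congrFun (congrFun hi 0) 1
    have f00 := congrFun (congrFun hj 0) 0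
    have f01 := congrFun (congrFun hj 0) 1
    simp [mul_apply, Fin.sum_univ_two] at e00 e01 f00 f01
    have hc : b = c := by linear_combination e00
    have hd : -a = d := by linear_combination -e01
    subst hc hd
    have har : a * r = b * p := by
      have : (2 : F) * (a * r - b * p) = 0 := by linear_combination f01
      have := (mul_eq_zero.mp this).resolve_left two
      linear_combination this
    refine ⟨QuotientGroup.mk (qj p r hpr), (mem_kvP _ _ _).2 (Or.inr (Or.inr (Or.inl rfl))), ?_⟩
    exact cG_of_smul A (-(a * p + b * r)) (qj p r hpr) (by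
      rw [hM, qj_val]
      ext i j
      fin_cases i <;> fin_cases j <;> simp
      · linear_combination (a) * hpr - r * har
      · linear_combination (b) * hpr + p * har
      · linear_combination (b) * hpr + p * har
      · linear_combination (a) * hpr - r * har)
  · -- (-,-): multiple of `qi * qj`
    have e00 := congrFun (congrFun hi 0) 0
    have e01 := congrFun (congrFun hi 0) 1
    have f00 := congrFun (congrFun hj 0) 0
    have f01 := congrFun (congrFun hj 0) 1
    simp [mul_apply, Fin.sum_univ_two] at e00 e01 f00 f01
    have hc : b = c := by linear_combination e00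
    have hd : -a = d := by linear_combination -e01
    subst hc hd
    have hap : a * p + b * r = 0 := by
      have : (2 : F) * (a * p + b * r) = 0 := by linear_combination f00
      exact (mul_eq_zero.mp this).resolve_left two
    refine ⟨QuotientGroup.mk (qi F) * QuotientGroup.mk (qj p r hpr),
      (mem_kvP _ _ _).2 (Or.inr (Or.inr (Or.inr rfl))), ?_⟩
    have := cG_of_smul A (b * p - a * r) (qi F * qj p r hpr) (by
      rw [hM, qi_mul_qj_val]
      ext i j
      fin_cases i <;> fin_cases j <;> simp
      · linear_combination (a) * hpr - p * hap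
      · linear_combination (b) * hpr - r * hap
      · linear_combination (b) * hpr - r * hap
      · linear_combination (a) * hpr - p * hap)
    intro x
    rw [this x, QuotientGroup.mk_mul]

end Cfsg.Agent.Lib.Helper9.JRP2b
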