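import Mathlib
import Cfsg.Agent.Lib.Helper9.JRP2b
import Cfsg.Agent.Lib.Helper2.JRP2a

set_option autoImplicit false

/-! Farm JR (S3206), unit P2. -/

namespace Cfsg.Agent.Lib.Helper9.JRP2

open Cfsg.Agent.Lib.Helper9.JRDefs

variable {F : Type*} [Field F] [Fintype F] {N : Type*} [Group N]

theorem P2 (hq : Fintype.card F % 8 = 3 ∨ Fintype.card F % 8 = 5) (e : N ≃* PSL2 F)
    (V : Sylow 2 N) (α : N ≃* N) (k : ℕ) (hα : α ^ (2 ^ k) = 1) (hfix : ∀ v ∈ V, α v = v) :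
    ∃ v ∈ V, ∀ x : N, α x = v * x * v⁻¹ :=
  Cfsg.Agent.Lib.Helper9.JRP2c.P2_of hq
    (fun α k h => Cfsg.Agent.Lib.Helper2.JRP2a.P2a hq α k h)
    Cfsg.Agent.Lib.Helper9.JRP2b.P2b e V α k hα hfix

end Cfsg.Agent.Lib.Helper9.JRP2
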