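import Mathlib
import Cfsg.Agent.Lib.Helper9.JRDefs
import Cfsg.Agent.Lib.Helper6.JRG1b
import Cfsg.Agent.Lib.Helper9.JRG1c
import Cfsg.Agent.Lib.Helper9.JRM1
import Cfsg.Agent.Lib.Helper9.JRP2
import Cfsg.Agent.Lib.Helper6.JRP3
import Cfsg.Agent.Lib.Helper7.JRsimpleN

set_option autoImplicit false

/-! Farm JR (S3206), unit M2: `ψ` is trivial on `C_G(t)`. -/

namespace Cfsg.Agent.Lib.Helper9.JRM2

open Cfsg.Agent.Lib.Helper9.JRDefs

section restr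
variable {G : Type*} [Group G]

/-- restriction of an automorphism stabilizing a subgroup -/
def restr (H : Subgroup G) (ψ : G ≃* G) (h : ∀ x, ψ x ∈ H ↔ x ∈ H) : ↥H ≃* ↥H where
  toFun x := ⟨ψ x, (h x).2 x.2⟩
  invFun x := ⟨ψ.symm x, (h _).1 (by rw [MulEquiv.apply_symm_apply]; exact x.2)⟩
  left_inv x := Subtype.ext (ψ.symm_apply_apply (x : G))
  right_inv x := Subtype.ext (ψ.apply_symm_apply (x : G))
  map_mul' x y := Subtype.ext (map_mul ψ (x : G) (y : G))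

theorem restr_apply (H : Subgroup G) (ψ : G ≃* G) (h : ∀ x, ψ x ∈ H ↔ x ∈ H) (x : ↥H) :
    ((restr H ψ h x : ↥H) : G) = ψ x := rfl

theorem restr_pow_apply (H : Subgroup G) (ψ : G ≃* G) (h : ∀ x, ψ x ∈ H ↔ x ∈ H) (n : ℕ)
    (x : ↥H) : ((((restr H ψ h) ^ n) x : ↥H) : G) = (ψ ^ n) x := by
  induction n generalizing x with
  | zero => simp
  | succ n ih =>
    rw [pow_succ, pow_succ, MulAut.mul_apply, MulAut.mul_apply, ih, restr_apply]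

end restr

variable {G : Type*} [Group G] [Finite G] {F : Type*} [Field F] [Fintype F]

theorem M2 (X : JR G F) (S : Sylow 2 G) (htS : X.t ∈ S) (ψ : G ≃* G) (k : ℕ)
    (hψk : ψ ^ (2 ^ k) = 1) (hψS : ∀ s ∈ S, ψ s = s)
    (hK : ∀ n ∈ Subgroup.normalizer ((S : Subgroup G) : Set G), ∃ μ : G ≃* G,
      (∀ s ∈ S, μ s = n * s * n⁻¹) ∧ μ * ψ = ψ * μ) :
    ∀ c ∈ Subgroup.centralizer ({X.t} : Set G), ψ c = c := by
  obtain ⟨hq, hSE, ⟨V, hV⟩, hodd⟩ := Cfsg.Agent.Lib.Helper6.JRG1b.G1b X S htS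
  obtain ⟨h8, hexp, hdec⟩ := Cfsg.Agent.Lib.Helper9.JRG1c.G1c X S htS
  obtain ⟨e⟩ := X.iso
  obtain ⟨hsimp, hZ, -⟩ := Cfsg.Agent.Lib.Helper7.JRsimpleN.simpleN X.hF3 e
  have hψt : ψ X.t = X.t := hψS _ htS
  obtain ⟨hψE, hψN⟩ := Cfsg.Agent.Lib.Helper9.JRM1.M1 X ψ hψt
  -- the restriction of `ψ` to `NG`
  have hψNk : (restr X.NG ψ hψN) ^ (2 ^ k) = 1 := by
    ext x
    rw [restr_pow_apply, hψk]
    rfl
  have hψNV : ∀ v ∈ V, (restr X.NG ψ hψN) v = v :=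
    fun v hv => Subtype.ext (hψS _ ((hV v).1 hv))
  obtain ⟨v, hvV, hv⟩ := Cfsg.Agent.Lib.Helper9.JRP2.P2 hq e V (restr X.NG ψ hψN) k hψNk hψNV
  obtain ⟨r, hrV, hrfix⟩ := Cfsg.Agent.Lib.Helper6.JRP3.P3 hq X.hF3 e V
  have hrt : (r : G) * X.t = X.t * r := (X.t_comm r (X.hNE r.2)).symm
  -- `r` normalizes `S`
  have hrS : (r : G) ∈ Subgroup.normalizer ((S : Subgroup G) : Set G) := by
    apply Subgroup.mem_normalizer_fintype
    intro s hs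
    obtain ⟨w, hwS, hwN, hsw⟩ := hdec s hs
    have hw' : r * ⟨w, hwN⟩ * r⁻¹ ∈ V := hrV ⟨w, hwN⟩ ((hV _).2 hwS)
    have hw'' : (r : G) * w * (r : G)⁻¹ ∈ S := (hV _).1 hw'
    rcases hsw with rfl | rfl
    · exact hw''
    · have : (r : G) * (X.t * w) * (r : G)⁻¹ = X.t * ((r : G) * w * (r : G)⁻¹) := by
        rw [← mul_assoc, hrt]
        group
      rw [SetLike.mem_coe, this]
      exact mul_mem htS hw''
  obtain ⟨μ, hμS, hμψ⟩ := hK r hrS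
  have hμt : μ X.t = X.t := by rw [hμS _ htS, hrt, mul_inv_cancel_right]
  obtain ⟨-, hμN⟩ := Cfsg.Agent.Lib.Helper9.JRM1.M1 X μ hμt
  have hvS : (v : G) ∈ S := (hV v).1 hvV
  have hμv : μ v = r * v * (r : G)⁻¹ := hμS _ hvS
  have hψNG0 : ∀ x (hx : x ∈ X.NG), ψ x = v * x * (v : G)⁻¹ := fun x hx =>
    congrArg Subtype.val (hv ⟨x, hx⟩)
  have hμvN : μ v ∈ X.NG := (hμN _).2 v.2
  -- `v⁻¹ μ(v)` is central in `NG`
  have key : ∀ y ∈ X.NG, ((v : G)⁻¹ * μ v) * y = y * ((v : G)⁻¹ * μ v) := by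
    intro y hy
    have hx : μ.symm y ∈ X.NG := (hμN _).1 (by rw [MulEquiv.apply_symm_apply]; exact hy)
    have h1 := hψNG0 _ hx
    have h2 : (μ * ψ) (μ.symm y) = (ψ * μ) (μ.symm y) := by rw [hμψ]
    rw [MulAut.mul_apply, MulAut.mul_apply, h1, MulEquiv.apply_symm_apply, hψNG0 y hy, map_mul,
      map_mul, MulEquiv.apply_symm_apply, map_inv] at h2
    -- h2 : μ v * y * (μ v)⁻¹ = v * y * v⁻¹
    calc ((v : G)⁻¹ * μ v) * y = (v : G)⁻¹ * (μ v * y * (μ v)⁻¹) * μ v := by group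
      _ = (v : G)⁻¹ * ((v : G) * y * (v : G)⁻¹) * μ v := by rw [h2]
      _ = y * ((v : G)⁻¹ * μ v) := by group
  have hcen : (⟨(v : G)⁻¹ * μ v, mul_mem (inv_mem v.2) hμvN⟩ : ↥X.NG) = 1 :=
    hZ _ (fun x => Subtype.ext (key x x.2))
  have hμvv : μ v = v := by
    have := congrArg Subtype.val hcen
    exact (inv_mul_eq_one.mp this).symm
  have hv1 : v = 1 := by
    apply hrfix v hvV
    apply Subtype.ext
    show (r : G) * v * (r : G)⁻¹ = v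
    rw [← hμv, hμvv]
  -- `ψ` is trivial on `NG`
  have hψNG : ∀ x ∈ X.NG, ψ x = x := by
    intro x hx
    rw [hψNG0 x hx, hv1]
    simp
  -- `ψ` is trivial on `E`
  have hψEfix : ∀ e0 ∈ X.E, ψ e0 = e0 := by
    intro e0 he0
    have h1 : e0⁻¹ * ψ e0 = 1 := by
      apply X.hcent _ (mul_mem (inv_mem he0) ((hψE e0).2 he0))
      intro x hx
      have h2 := hψNG _ (X.hnorm e0 he0 x hx)
      rw [map_mul, map_mul, map_inv, hψNG x hx] at h2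
      -- h2 : ψ e0 * x * (ψ e0)⁻¹ = e0 * x * e0⁻¹
      calc e0⁻¹ * ψ e0 * x = e0⁻¹ * (ψ e0 * x * (ψ e0)⁻¹) * ψ e0 := by group
        _ = e0⁻¹ * (e0 * x * e0⁻¹) * ψ e0 := by rw [h2]
        _ = x * (e0⁻¹ * ψ e0) := by group
    exact (inv_mul_eq_one.mp h1).symm
  intro c hc
  obtain ⟨e0, he0, h⟩ := X.mem_C c hc
  rcases h with rfl | rfl
  · exact hψEfix _ he0
  · rw [map_mul, hψt, hψEfix e0 he0]

end Cfsg.Agent.Lib.Helper9.JRM2
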