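import Mathlib
import Cfsg.Agent.Lib.Helper1.AbelianSylow
import Cfsg.Agent.Lib.Helper9.JRDefs
import Cfsg.Agent.Lib.Helper9.JRG1c
import Cfsg.Agent.Lib.Helper9.JRG2
import Cfsg.Agent.Lib.Helper9.JRM2
import Cfsg.Agent.Lib.Helper2.JRCE
import Cfsg.Agent.Lib.Helper3.JRK

set_option autoImplicit false

/-! Farm JR (S3206): assembly. -/

namespace Cfsg.Agent.Lib.Helper9.JRAsm

open Cfsg.Agent.Lib.Helper9.JRDefs
open scoped commutatorElement

section flatten
variable {G : Type*} [Group G] [Finite G]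

theorem perfect_of_simple [IsSimpleGroup G] (hG : ¬ IsMulCommutative G) : commutator G = ⊤ := by
  rcases (inferInstance : (commutator G).Normal).eq_bot_or_eq_top with h | h
  · exfalso
    apply hG
    rw [isMulCommutative_iff]
    intro a b
    have h1 : ⁅a, b⁆ ∈ commutator G := by
      rw [commutator_def]
      exact Subgroup.commutator_mem_commutator (Subgroup.mem_top a) (Subgroup.mem_top b)
    rw [h, Subgroup.mem_bot, commutatorElement_eq_one_iff_mul_comm] at h1
    exact h1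
  · exact h

/-- flattening the hypotheses of S3206 -/
theorem flatten [IsSimpleGroup G]
    (hG : ¬ IsMulCommutative G) (hab : ∀ S : Sylow 2 G, IsMulCommutative ↥(S : Subgroup G))
    (t : G) (ht : orderOf t = 2) (hmax : IsCoatom (Subgroup.centralizer ({t} : Set G)))
    (E : Subgroup G)
    (hE : Cfsg.IsInternalDirectProduct (Subgroup.zpowers t) E (Subgroup.centralizer ({t} : Set G)))
    {F : Type*} [Field F] [Fintype F] (hFo : Odd (Fintype.card F)) (hF3 : 3 < Fintype.card F)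
    (N : Subgroup ↥E) [N.Normal]
    (hN : Nonempty (↥N ≃* Matrix.ProjectiveSpecialLinearGroup (Fin 2) F))
    (hNc : Subgroup.centralizer (N : Set ↥E) = ⊥) :
    ∃ X : JR G F, X.t = t := by
  refine ⟨{ t := t, E := E, NG := N.map E.subtype, simple := inferInstance,
            perfect := perfect_of_simple hG, hab := ?_, ht := ht, hmax := hmax, hE := hE,
            hNE := ?_, hnorm := ?_, hcent := ?_, iso := ?_, hFo := hFo, hF3 := hF3 }, rfl⟩
  · intro S a ha b hb
    have h := (isMulCommutative_iff.mp (hab S)) ⟨a, ha⟩ ⟨b, hb⟩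
    exact congrArg Subtype.val h
  · exact Subgroup.map_subtype_le N
  · rintro e he _ ⟨n, hn, rfl⟩
    refine ⟨⟨e, he⟩ * n * ⟨e, he⟩⁻¹, ?_, rfl⟩
    exact (inferInstance : N.Normal).conj_mem n hn ⟨e, he⟩
  · intro e he hc
    have h1 : (⟨e, he⟩ : ↥E) ∈ Subgroup.centralizer (N : Set ↥E) := by
      rw [Subgroup.mem_centralizer_iff]
      intro n hn
      apply Subtype.ext
      have := hc (n : G) ⟨n, hn, rfl⟩
      exact this.symm
    rw [hNc, Subgroup.mem_bot] at h1
    exact congrArg Subtype.val h1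
  · obtain ⟨e⟩ := hN
    exact ⟨(N.equivMapOfInjective E.subtype E.subtype_injective).symm.trans e⟩

end flatten

section part1
variable {G : Type*} [Group G] [Finite G] {F : Type*} [Field F] [Fintype F]

theorem exists_sylow (X : JR G F) : ∃ S : Sylow 2 G, X.t ∈ S := by
  have h2 : IsPGroup 2 (Subgroup.zpowers X.t) := by
    apply IsPGroup.of_card (n := 1)
    rw [Nat.card_zpowers, X.ht, pow_one]
  obtain ⟨S, hS⟩ := h2.exists_le_sylow
  exact ⟨S, hS (Subgroup.mem_zpowers X.t)⟩

theorem part1 (X : JR G F) (L : Type) [Group L] [Finite L] (Z : Subgroup L) [Z.Normal]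
    (hL : commutator L = ⊤) (hZ : Z ≤ Subgroup.center L) (hZ2 : IsPGroup 2 ↥Z)
    (hq : Nonempty (L ⧸ Z ≃* G)) : Z = ⊥ := by
  obtain ⟨e⟩ := hq
  obtain ⟨S, htS⟩ := exists_sylow X
  obtain ⟨h8, hexp, -⟩ := Cfsg.Agent.Lib.Helper9.JRG1c.G1c X S htS
  have htrans := Cfsg.Agent.Lib.Helper9.JRG2.G2 X.perfect S (X.hab S) h8
  let π : L →* G := e.toMonoidHom.comp (QuotientGroup.mk' Z)
  have hπ : Function.Surjective π := e.surjective.comp (QuotientGroup.mk'_surjective Z)
  have hker : π.ker = Z := by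
    ext x
    rw [MonoidHom.mem_ker]
    show e (QuotientGroup.mk' Z x) = 1 ↔ _
    rw [e.map_eq_one_iff, QuotientGroup.mk'_apply, QuotientGroup.eq_one_iff]
  have hab := Cfsg.Agent.Lib.Helper2.JRCE.CE π hπ (by rw [hker]; exact hZ) (S : Subgroup G) h8 hexp htrans
  let P : Sylow 2 L := S.comapOfKerIsPGroup π (by rw [hker]; exact hZ2)
    (by rw [MonoidHom.range_eq_top.mpr hπ]; exact le_top)
  have hPc : IsMulCommutative ↥(P : Subgroup L) := by
    rw [isMulCommutative_iff]
    rintro ⟨a, ha⟩ ⟨b, hb⟩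
    apply Subtype.ext
    exact hab a ha b hb
  obtain ⟨h1, -⟩ := Cfsg.Agent.Lib.Helper1.abelian_sylow_decomposition P hPc
  rw [hL, top_inf_eq] at h1
  rw [eq_bot_iff]
  intro z hz
  rw [← h1]
  refine ⟨⟨?_, ?_⟩, ?_⟩
  · show z ∈ (S : Subgroup G).comap π
    rw [Subgroup.mem_comap]
    have : π z = 1 := by rw [← MonoidHom.mem_ker, hker]; exact hz
    rw [this]; exact one_mem _
  · show z ∈ Subgroup.centralizer _
    rw [Subgroup.mem_centralizer_iff]
    intro g _
    exact (Subgroup.mem_center_iff.mp (hZ hz) g)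
  · show z ∈ (S : Subgroup G).comap π
    rw [Subgroup.mem_comap]
    have : π z = 1 := by rw [← MonoidHom.mem_ker, hker]; exact hz
    rw [this]; exact one_mem _

end part1

section part2
variable {G : Type*} [Group G] [Finite G] {F : Type*} [Field F] [Fintype F]

/-- (M3) `ψ` is trivial. -/
theorem M3 (X : JR G F) (S : Sylow 2 G) (htS : X.t ∈ S) (ψ : G ≃* G) (k : ℕ)
    (hψk : ψ ^ (2 ^ k) = 1) (hψS : ∀ s ∈ S, ψ s = s)
    (hK : ∀ n ∈ Subgroup.normalizer ((S : Subgroup G) : Set G), ∃ μ : G ≃* G,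
      (∀ s ∈ S, μ s = n * s * n⁻¹) ∧ μ * ψ = ψ * μ) : ψ = 1 := by
  have hC := Cfsg.Agent.Lib.Helper9.JRM2.M2 X S htS ψ k hψk hψS hK
  obtain ⟨h8, hexp, hdec⟩ := Cfsg.Agent.Lib.Helper9.JRG1c.G1c X S htS
  have htrans := Cfsg.Agent.Lib.Helper9.JRG2.G2 X.perfect S (X.hab S) h8
  let Fix : Subgroup G := MonoidHom.eqLocus ψ.toMonoidHom (MonoidHom.id G)
  have hFix : ∀ x, x ∈ Fix ↔ ψ x = x := fun x => Iff.rfl
  have hCF : Subgroup.centralizer ({X.t} : Set G) ≤ Fix := fun c hc => (hFix c).2 (hC c hc)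
  by_contra hne
  have hFtop : Fix ≠ ⊤ := by
    intro h
    apply hne
    ext x
    exact (hFix x).1 (by rw [h]; exact Subgroup.mem_top x)
  have hFC : Fix = Subgroup.centralizer ({X.t} : Set G) := (X.hmax.le_iff_eq hFtop).mp hCF
  have ht1 : X.t ≠ 1 := by
    intro h
    have := X.ht
    rw [h, orderOf_one] at this
    omega
  -- an element `s` of `S` different from `1` and `t`
  obtain ⟨s, hsS, hs1, hst⟩ : ∃ s ∈ S, s ≠ 1 ∧ s ≠ X.t := by
    by_contra hcon
    push Not at hcon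
    have hle : (S : Subgroup G) ≤ Subgroup.zpowers X.t := by
      intro s hs
      by_cases h1 : s = 1
      · rw [h1]; exact one_mem _
      · rw [hcon s hs h1]; exact Subgroup.mem_zpowers _
    have := Subgroup.card_le_of_le hle
    rw [Nat.card_zpowers, X.ht] at this
    have h8' : Nat.card (S : Subgroup G) = 8 := h8
    omega
  obtain ⟨n1, hn1, hn1t⟩ := htrans X.t htS s hsS ht1 hs1
  obtain ⟨μ1, hμ1S, hμ1ψ⟩ := hK n1 hn1
  have hμ1t : μ1 X.t = s := by rw [hμ1S X.t htS, hn1t]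
  -- `C_G(s) ≤ Fix`
  have hcs : ∀ y ∈ Subgroup.centralizer ({s} : Set G),
      μ1.symm y ∈ Subgroup.centralizer ({X.t} : Set G) := by
    intro y hy
    rw [Subgroup.mem_centralizer_singleton_iff] at hy ⊢
    apply μ1.injective
    rw [map_mul, map_mul, MulEquiv.apply_symm_apply, hμ1t]
    exact hy
  have hsF : Subgroup.centralizer ({s} : Set G) ≤ Fix := by
    intro y hy
    rw [hFix]
    have hx := hC _ (hcs y hy)
    have h2 : (μ1 * ψ) (μ1.symm y) = (ψ * μ1) (μ1.symm y) := by rw [hμ1ψ]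
    rw [MulAut.mul_apply, MulAut.mul_apply, hx, MulEquiv.apply_symm_apply] at h2
    exact h2.symm
  rw [hFC] at hsF
  -- hence `C_G(t) ≤ C_G(s)` by cardinality
  have hts : Subgroup.centralizer ({X.t} : Set G) ≤ Subgroup.centralizer ({s} : Set G) := by
    have hmap : (Subgroup.centralizer ({X.t} : Set G)).map μ1.toMonoidHom ≤
        Subgroup.centralizer ({s} : Set G) := by
      rintro _ ⟨x, hx, rfl⟩
      rw [SetLike.mem_coe, Subgroup.mem_centralizer_singleton_iff] at hx
      rw [Subgroup.mem_centralizer_singleton_iff]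
      show μ1 x * s = s * μ1 x
      rw [← hμ1t, ← map_mul, ← map_mul, hx]
    have hcard : Nat.card (Subgroup.centralizer ({X.t} : Set G)) ≤
        Nat.card (Subgroup.centralizer ({s} : Set G)) := by
      calc Nat.card (Subgroup.centralizer ({X.t} : Set G))
          = Nat.card ((Subgroup.centralizer ({X.t} : Set G)).map μ1.toMonoidHom) :=
            (Subgroup.card_map_of_injective μ1.injective).symm
        _ ≤ _ := Subgroup.card_le_of_le hmap
    have := Subgroup.eq_of_le_of_card_ge hsF hcard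
    rw [this]
  -- `s` is central in `C_G(t)`
  have hscent : ∀ c ∈ Subgroup.centralizer ({X.t} : Set G), c * s = s * c := by
    intro c hc
    have := hts hc
    rw [Subgroup.mem_centralizer_singleton_iff] at this
    exact this
  have htcent : ∀ c ∈ Subgroup.centralizer ({X.t} : Set G), c * X.t = X.t * c := by
    intro c hc
    rw [Subgroup.mem_centralizer_singleton_iff] at hc
    exact hc
  have hEC : X.E ≤ Subgroup.centralizer ({X.t} : Set G) := X.hE.2.1
  obtain ⟨w, hwS, hwN, hsw⟩ := hdec s hsS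
  have hw1 : w = 1 := by
    apply X.hcent w (X.hNE hwN)
    intro x hx
    have hxC := hEC (X.hNE hx)
    rcases hsw with rfl | rfl
    · exact (hscent x hxC).symm
    · have h1 := hscent x hxC
      have h2 := htcent x hxC
      have h3 : X.t * (x * w) = X.t * (w * x) := by
        calc X.t * (x * w) = X.t * x * w := (mul_assoc _ _ _).symm
          _ = x * X.t * w := by rw [h2]
          _ = x * (X.t * w) := mul_assoc _ _ _
          _ = X.t * w * x := h1
          _ = X.t * (w * x) := mul_assoc _ _ _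
      exact (mul_left_cancel h3).symm
  rcases hsw with rfl | rfl
  · exact hs1 hw1
  · apply hst
    rw [hw1, mul_one]

theorem conj_comm_of_fix {G : Type*} [Group G] (φ : G ≃* G) (s0 : G) (h : φ s0 = s0) :
    Commute (MulAut.conj s0) φ := by
  show MulAut.conj s0 * φ = φ * MulAut.conj s0
  ext x
  simp only [MulAut.mul_apply, MulAut.conj_apply, map_mul, map_inv, h]

theorem part2 (X : JR G F) (φ : G ≃* G) (k : ℕ) (hφ : φ ^ (2 ^ k) = 1)
    (hS : ∃ S : Sylow 2 G, ∀ s ∈ (S : Subgroup G), φ s = s) :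
    ∃ g : G, ∀ x : G, φ x = g * x * g⁻¹ := by
  obtain ⟨S', hS'⟩ := hS
  obtain ⟨S, htS⟩ := exists_sylow X
  obtain ⟨g, hg⟩ := MulAction.exists_smul_eq G S' S
  obtain ⟨h8, hexp, -⟩ := Cfsg.Agent.Lib.Helper9.JRG1c.G1c X S htS
  -- the conjugated automorphism
  obtain ⟨φ', hφ'⟩ : ∃ φ' : G ≃* G, φ' = MulAut.conj g * φ * (MulAut.conj g)⁻¹ := ⟨_, rfl⟩
  have hφ'k : φ' ^ (2 ^ k) = 1 := by
    rw [hφ', conj_pow, hφ, mul_one, mul_inv_cancel]
  have hφ'S : ∀ s ∈ S, φ' s = s := by
    intro s hs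
    have h1 : g⁻¹ * s * g ∈ (S' : Subgroup G) := by
      have h2 : s ∈ ((g • S' : Sylow 2 G) : Subgroup G) := by rw [hg]; exact hs
      rw [Sylow.coe_subgroup_smul, Subgroup.mem_pointwise_smul_iff_inv_smul_mem] at h2
      simpa [MulAut.smul_def, mul_assoc] using h2
    rw [hφ']
    simp only [MulAut.mul_apply, MulAut.conj_inv_apply, MulAut.conj_apply]
    rw [hS' _ h1]
    group
  obtain ⟨s0, hs0, hK⟩ := Cfsg.Agent.Lib.Helper3.JRK.K X.perfect S (X.hab S) φ' k hφ'k hφ'S
  have hcomm := conj_comm_of_fix φ' s0 (hφ'S s0 hs0)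
  have hψk : (MulAut.conj s0 * φ') ^ (2 ^ (k + 1)) = 1 := by
    rw [hcomm.mul_pow, pow_succ 2 k, pow_mul φ', hφ'k, one_pow, mul_one, ← map_pow,
      mul_comm (2 ^ k) 2, pow_mul, pow_two, hexp s0 hs0, one_pow, map_one]
  have hψS : ∀ s ∈ S, (MulAut.conj s0 * φ') s = s := by
    intro s hs
    rw [MulAut.mul_apply, hφ'S s hs, MulAut.conj_apply, X.hab S s0 hs0 s hs, mul_inv_cancel_right]
  have h1 := M3 X S htS _ (k + 1) hψk hψS hK
  have h2 : φ = (MulAut.conj g)⁻¹ * (MulAut.conj s0)⁻¹ * MulAut.conj g := by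
    have h3 : φ' = (MulAut.conj s0)⁻¹ := eq_inv_of_mul_eq_one_right h1
    rw [hφ'] at h3
    rw [← h3]
    group
  refine ⟨g⁻¹ * s0⁻¹ * g, fun x => ?_⟩
  rw [h2]
  simp only [MulAut.mul_apply, MulAut.conj_inv_apply, MulAut.conj_apply]
  group

end part2

end Cfsg.Agent.Lib.Helper9.JRAsm
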