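import Mathlib
import Cfsg.Agent.Lib.Helper9.JRDefs

set_option autoImplicit false

/-! Farm JR (S3206): unit statements (stubs, `sorry`). NEVER import this file from a landed file.
Each stub carries its proof sketch. `JRDefs` has: `PSL2 F`, `IsSylowIn p Q K`, the structure `JR G F`
(flattened hypotheses of S3206) and small lemmas `JR.exists_sylow`, `JR.t_ne_one`, `JR.t_mul_self`,
`JR.E_le`, `JR.sylow_le`, `JR.mem_C` (every `c ∈ C_G(t)` is `e` or `t * e`, `e ∈ E`), `JR.t_not_mem_E`,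
`JR.t_comm`. -/

namespace Cfsg.Agent.Lib.Helper9.JRStubs

open Cfsg.Agent.Lib.Helper9.JRDefs

/-! ## PSL₂ units (abstract group `N` with `e : N ≃* PSL₂(F)`) -/

section psl
variable {F : Type*} [Field F] [Fintype F] {N : Type*} [Group N]

/-- U1 (P1): an abelian Sylow 2-subgroup forces `q ≡ 3, 5 (mod 8)`.
Proof: else `8 ∣ q - 1` or `8 ∣ q + 1`; `Helper5.PSL2Tori.exists_psl_dihedral_sub / _add` give a subgroup
`≃* DihedralGroup n`, `n = (q ∓ 1) / 2`, `4 ∣ n`; `x = r (n/4)` has order 4, `s = sr 0` has order 2,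
`s x s⁻¹ = x⁻¹ ≠ x`; `zpowers s ⊔ zpowers x` is a 2-group (`IsPGroup.to_sup_of_normal_right'`), so it lies
in a Sylow 2-subgroup (`IsPGroup.exists_le_sylow`), conjugate to the abelian `V`: contradiction. -/
theorem P1 (hFo : Odd (Fintype.card F)) (e : N ≃* PSL2 F) (V : Sylow 2 N)
    (hV : ∀ a ∈ V, ∀ b ∈ V, a * b = b * a) :
    Fintype.card F % 8 = 3 ∨ Fintype.card F % 8 = 5 := by
  sorry

/-- U1b (klein): transport of `Helper5.PSL2Klein.isKleinFour_sylow` along `e`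
(`Sylow.comapOfInjective` / `Sylow.map`-style transport, or cardinalities). -/
theorem klein (hq : Fintype.card F % 8 = 3 ∨ Fintype.card F % 8 = 5) (e : N ≃* PSL2 F)
    (V : Sylow 2 N) : Nat.card V = 4 ∧ ∀ v ∈ V, v * v = 1 := by
  sorry

/-- U2 (P2): an automorphism of 2-power order fixing a Sylow 2-subgroup elementwise is conjugation by
an element of that Sylow 2-subgroup.
Proof (for `N = PSL2 F`, then transport): `q = p ^ f` with `f` odd (an even `f` gives `q ≡ 1 mod 8`);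
`Helper5.AutPSL2.sig p α` has order dividing `2 ^ k` and `f = |RingAut F|` (`ringAut_cyclic_card`), so
`sig p α = 1`, `α = cG F A` (`sig_ker`). `V = {1, x, y, xy}`, `(x, y) ∈ PairSet`; by
`Helper5.PSL2KleinClasses.exists_rel_Pw` conjugate to the standard pair `(mk qi, mk (qj p r))`; so WLOG
`V` standard. `cG A` fixes `mk qi`, `mk qj`: `A qi A⁻¹ = ± qi`, `A qj A⁻¹ = ± qj`; replace `A` by `A * e`,
`e ∈ {1, qi, qj, qi qj}` to make both signs `+` (cf. `La`, `Lb`, `Lab` there); `A` commuting with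
`qi = !![0,1;-1,0]` is `!![a,b;-b,a]`, commuting with `qj = !![p,r;r,-p]` gives `b r = b p = 0`, `b = 0`
(as `p² + r² = -1`), so `A` is scalar, `cG A = 1` (`cG_scalar`); hence `α = conj (mk e)⁻¹`. -/
theorem P2 (hq : Fintype.card F % 8 = 3 ∨ Fintype.card F % 8 = 5) (e : N ≃* PSL2 F)
    (V : Sylow 2 N) (α : N ≃* N) (k : ℕ) (hα : α ^ (2 ^ k) = 1) (hfix : ∀ v ∈ V, α v = v) :
    ∃ v ∈ V, ∀ x : N, α x = v * x * v⁻¹ := by
  sorry

/-- U3 (P3): an element normalizing the Sylow four-group and fixing none of its involutions.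
Proof: for the standard pair take `r = mk (hh h2 p r hpr)` (`hh_qi`, `hh_qj`, `hh_qij` in
`Helper5.PSL2KleinClasses`: `hh` cycles `qi → qj → qi qj → qi`; the three images in `PSL₂` are distinct);
general `V` by `exists_rel_Pw` and conjugation; then transport along `e`. -/
theorem P3 (hq : Fintype.card F % 8 = 3 ∨ Fintype.card F % 8 = 5) (hF3 : 3 < Fintype.card F)
    (e : N ≃* PSL2 F) (V : Sylow 2 N) :
    ∃ r : N, (∀ v ∈ V, r * v * r⁻¹ ∈ V) ∧ ∀ v ∈ V, r * v * r⁻¹ = v → v = 1 := by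
  sorry

/-- U3b (simpleN): `Matrix.ProjectiveSpecialLinearGroup.rank_two_simple` (Mathlib) + transport; a simple
group with a noncyclic subgroup (or of non-prime order) is nonabelian; trivial centre follows. -/
theorem simpleN (hF3 : 3 < Fintype.card F) (e : N ≃* PSL2 F) :
    IsSimpleGroup N ∧ (∀ z : N, (∀ x : N, z * x = x * z) → z = 1) ∧ ∃ a b : N, a * b ≠ b * a := by
  sorry

end psl

/-! ## generic units -/

section generic
variable {G : Type*} [Group G]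

/-- U4a -/
theorem sylowIn_of_sylow [Finite G] {p : ℕ} [Fact p.Prime] (S : Sylow p G) (K : Subgroup G)
    (h : (S : Subgroup G) ≤ K) : IsSylowIn p (S : Subgroup G) K := by
  sorry

/-- U4b: a Sylow subgroup of `K` meets a subgroup `M ≤ K` normalized by `K` in a Sylow subgroup of `M`.
(`[M : Q ∩ M] = [QM : Q]` divides `[K : Q]`.) -/
theorem sylowIn_inf [Finite G] {p : ℕ} [Fact p.Prime] {Q K M : Subgroup G} (h : IsSylowIn p Q K)
    (hMK : M ≤ K) (hnorm : ∀ k ∈ K, ∀ m ∈ M, k * m * k⁻¹ ∈ M) : IsSylowIn p (Q ⊓ M) M := by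
  sorry

/-- U4c (`IsPGroup.toSylow` applied to `Q.subgroupOf K`). -/
theorem sylowIn_toSylow [Finite G] {p : ℕ} [Fact p.Prime] {Q K : Subgroup G} (h : IsSylowIn p Q K) :
    ∃ V : Sylow p ↥K, ∀ x : ↥K, x ∈ V ↔ (x : G) ∈ Q := by
  sorry

/-- U5 (G2): in a perfect group with abelian Sylow 2-subgroup `S` of order 8 the normalizer of `S` is
transitive on `S \ {1}`.
Proof: `Helper1.abelian_sylow_decomposition S` with `commutator G = ⊤` gives
`S ⊓ centralizer (normalizer S) = ⊥`: no `x ≠ 1` in `S` is fixed by all of `N_G(S)`. Orbit sizes of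
`N_G(S)` on `S \ {1}` divide `[N_G(S) : S]` (`S` abelian lies in every stabilizer), which is odd; so all
orbits have odd size `≥ 3`; `7 = ` sum of `m` odd numbers `≥ 3` forces `m = 1`. -/
theorem G2 [Finite G] (hperf : commutator G = ⊤) (S : Sylow 2 G)
    (hc : ∀ a ∈ S, ∀ b ∈ S, a * b = b * a) (h8 : Nat.card S = 8) :
    ∀ x ∈ S, ∀ y ∈ S, x ≠ 1 → y ≠ 1 →
      ∃ n ∈ Subgroup.normalizer ((S : Subgroup G) : Set G), n * x * n⁻¹ = y := by
  sorry

/-- U6 (PL): the pairing lemma.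
Proof: `S0` is abelian; `c x y * c x y = c (x*x) y = 1`, `c 1 y = 1 = c x 1`, `c y x = (c x y)⁻¹ = c x y`.
Suppose `κ := c x0 y0 ≠ 1` (then `x0 ≠ 1`). For `u ≠ 1` let `A u := {v | c u v = κ}`: empty or a coset of
the subgroup `K u := {v | c u v = 1}`, which contains `1, u` and is proper; so `|A u| ∈ {0, 2, 4}`. By
`htrans` + `hinv`, `v ↦ act r v` is a bijection `A x0 ≃ A u`, so `|A u| = n ∈ {2, 4}` for all `u ≠ 1`.
`T := {(u, v) | u ≠ 1 ∧ c u v = κ}` has `7 n ∈ {14, 28}` elements. `τ (u, v) := (v, u * v)` maps `T` to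
`T` (`v ≠ 1` as `κ ≠ 1`; `c v (u*v) = c v u = κ`), `τ³ = id`, no fixed point (`u = v` gives `c u u = 1`).
So `3 ∣ |T|` (`Equiv.Perm.card_fixedPoints_modEq`): contradiction. -/
theorem PL {S0 M R : Type*} [Group S0] [Finite S0] [CommGroup M] [Group R]
    (h8 : Nat.card S0 = 8) (hexp : ∀ x : S0, x * x = 1) (act : R →* MulAut S0)
    (htrans : ∀ x y : S0, x ≠ 1 → y ≠ 1 → ∃ r, act r x = y) (c : S0 → S0 → M)
    (hl : ∀ x y z, c (x * y) z = c x z * c y z) (hr : ∀ x y z, c x (y * z) = c x y * c x z)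
    (halt : ∀ x, c x x = 1) (hinv : ∀ r x y, c (act r x) (act r y) = c x y) :
    ∀ x y, c x y = 1 := by
  sorry

/-- U7 (CE): a central extension of `G` has abelian preimage of `S`.
Proof: `ℓ := Function.surjInv hπ`. For `a b` with `π a, π b ∈ S`: `⁅a, b⁆ ∈ ker π ≤ center`, and `⁅a,b⁆`
depends only on `π a, π b` (central kernel). Apply `PL` with `S0 := ↥S`, `M := ↥(center L)`,
`c s s' := ⁅ℓ s, ℓ s'⁆`, `R := ↥(normalizer S)` acting by conjugation on `↥S`; bimultiplicativity from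
class 2 (`⁅x*y, z⁆ = x ⁅y,z⁆ x⁻¹ ⁅x,z⁆ = ⁅x,z⁆ ⁅y,z⁆`), invariance by conjugating with a lift of `n`. -/
theorem CE {L : Type*} [Group L] (π : L →* G) (hπ : Function.Surjective π)
    (hker : π.ker ≤ Subgroup.center L) (S : Subgroup G) (h8 : Nat.card S = 8)
    (hexp : ∀ s ∈ S, s * s = 1)
    (htrans : ∀ x ∈ S, ∀ y ∈ S, x ≠ 1 → y ≠ 1 →
      ∃ n ∈ Subgroup.normalizer (S : Set G), n * x * n⁻¹ = y) :
    ∀ a ∈ S.comap π, ∀ b ∈ S.comap π, a * b = b * a := by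
  sorry

/-- U8 (Kabs): abelian Sylow 2-subgroup `T` of `H`, `G0 = H'`.
(1) `Helper1.abelian_sylow_decomposition T`: `(T ⊓ C(N(T))) ⊔ (H' ⊓ T) = T`, elements of `T` commute, so
every `f ∈ T` is `b * s`. (2) Frattini: `D := centralizer (T ⊓ G0)` contains `T` and `n T n⁻¹` (`n`
normalizes `T ⊓ G0`, hence `D`); both are Sylow in `D`, so conjugate by some `d ∈ D`. -/
theorem Kabs {H : Type*} [Group H] [Finite H] (G0 : Subgroup H) (hcomm : commutator H = G0)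
    (T : Sylow 2 H) (hT : ∀ a ∈ T, ∀ b ∈ T, a * b = b * a) :
    (∀ f ∈ T, ∃ b ∈ T, ∃ s ∈ T, s ∈ G0 ∧ f = b * s ∧
      ∀ m ∈ Subgroup.normalizer ((T : Subgroup H) : Set H), m * b = b * m) ∧
    (∀ n ∈ Subgroup.normalizer (((T : Subgroup H) ⊓ G0 : Subgroup H) : Set H),
      ∃ d : H, (∀ s ∈ T, s ∈ G0 → d * s = s * d) ∧
        d * n ∈ Subgroup.normalizer ((T : Subgroup H) : Set H)) := by
  sorry

/-- U9 (K): the key lemma on 2-automorphisms centralizing an abelian Sylow 2-subgroup.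
Proof: `A := zpowers φ`, `H := G ⋊[A.subtype] A` (`SemidirectProduct`), `Θ : H →* MulAut G`,
`Θ ⟨g, a⟩ = conj g * a`, with `h * inl x * h⁻¹ = inl (Θ h x)`. `T := {⟨s, a⟩ | s ∈ S}` is an abelian
2-subgroup of index `[G : S]`, so a Sylow 2-subgroup; `commutator H = range inl` (`H / inl G ≃ A`
abelian, `G` perfect). `Kabs` (1) with `f = inr φ`: `f = b * inl s`, `b = ⟨s⁻¹, φ⟩`, `s0 := s⁻¹`,
`Θ b = conj s0 * φ`. `Kabs` (2) with `inl n`: `m := d * inl n ∈ N(T)` commutes with `b`;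
`μ := Θ m`; `μ s = n s n⁻¹` because `d` centralizes `inl S`. -/
theorem K [Finite G] (hperf : commutator G = ⊤) (S : Sylow 2 G)
    (hc : ∀ a ∈ S, ∀ b ∈ S, a * b = b * a) (φ : G ≃* G) (k : ℕ) (hφ : φ ^ (2 ^ k) = 1)
    (hfix : ∀ s ∈ S, φ s = s) :
    ∃ s0 ∈ S, ∀ n ∈ Subgroup.normalizer ((S : Subgroup G) : Set G), ∃ μ : G ≃* G,
      (∀ s ∈ S, μ s = n * s * n⁻¹) ∧
        μ * (MulAut.conj s0 * φ) = (MulAut.conj s0 * φ) * μ := by
  sorry

end generic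

/-! ## units in the setting `JR G F` -/

section setting
variable {G : Type*} [Group G] [Finite G] {F : Type*} [Field F] [Fintype F]

/-- U10 (G1b): `S ∩ E ≤ NG`, and the numerical facts.
Proof: `C := centralizer {t}`; `S ≤ C` (`JR.sylow_le`); `sylowIn_of_sylow`, then `sylowIn_inf` twice
(`E` is normalized by `C = ⟨t⟩ ⊔ E`; `NG` by `E`): `S ⊓ E` Sylow in `E`, `S ⊓ NG` Sylow in `NG`;
`sylowIn_toSylow` gives `V`. `V` abelian ⟹ `hq` by `P1`. For `w ∈ S ⊓ E` conjugation by `w` is an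
automorphism of `↥NG` (use a hom `↥E →* MulAut ↥NG`), of 2-power order, fixing `V` (S abelian); `P2`
gives `v ∈ V` with `v⁻¹ w` centralizing `NG`; `X.hcent` ⟹ `w = v ∈ NG`. Finally
`(S ⊓ E).relIndex E = (S ⊓ E).relIndex NG * NG.relIndex E` is odd. -/
theorem G1b (X : JR G F) (S : Sylow 2 G) (htS : X.t ∈ S) :
    (Fintype.card F % 8 = 3 ∨ Fintype.card F % 8 = 5) ∧
    (∀ s ∈ S, s ∈ X.E → s ∈ X.NG) ∧
    (∃ V : Sylow 2 ↥X.NG, ∀ x : ↥X.NG, x ∈ V ↔ (x : G) ∈ S) ∧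
    ¬ 2 ∣ X.NG.relIndex X.E := by
  sorry

/-- U11 (G1c): `S = ⟨t⟩ × (S ∩ NG)` is elementary abelian of order 8.
Proof: `s ∈ S ≤ C`; `JR.mem_C`: `s = e` or `t * e`, `e ∈ E`, and `e ∈ S`, so `e ∈ NG` by `G1b`;
`klein`: `S ⊓ NG` (≃ `V`) has 4 elements of square 1; `t ∉ NG`; so `(S ⊓ NG).relIndex S = 2`
(cf. `Helper9.RuSylF.relIndex_eq_two_of`) and `|S| = 8`. -/
theorem G1c (X : JR G F) (S : Sylow 2 G) (htS : X.t ∈ S) :
    Nat.card S = 8 ∧ (∀ s ∈ S, s * s = 1) ∧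
    (∀ s ∈ S, ∃ w ∈ S, w ∈ X.NG ∧ (s = w ∨ s = X.t * w)) := by
  sorry

/-- U12 (M1): automorphisms fixing `t` stabilize `E` and `NG`.
Proof: `μ` stabilizes `C := centralizer {t}`. `NG ⊴ C`; `m := NG.relIndex E` is odd (`G1b`), `4 ∣ |NG|`
(`klein`), `NG` simple (`simpleN`). A normal subgroup `N1 ≠ NG` of `C` with `|N1| = |NG|` meets `NG`
trivially, so `|NG|² ∣ |C| = 2 m |NG|`, i.e. `|NG| ∣ 2 m`: impossible as `4 ∣ |NG|`. Hence
`μ(NG) = NG`. Then `E = {x ∈ C | x ^ m ∈ NG}` (`x = e` or `t e`; `e ^ m ∈ NG` by `Subgroup.pow_index_mem`;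
`(t e)^m = t e^m ∉ E`), which is `μ`-stable. -/
theorem M1 (X : JR G F) (μ : G ≃* G) (hμ : μ X.t = X.t) :
    (∀ x, μ x ∈ X.E ↔ x ∈ X.E) ∧ (∀ x, μ x ∈ X.NG ↔ x ∈ X.NG) := by
  sorry

/-- U13 (M2): `ψ` is trivial on `C_G(t)`.
Proof: `ψ t = t`; by `M1` `ψ` restricts to `ψN : ↥NG ≃* ↥NG`, of 2-power order, fixing `V` (`G1b`); `P2`:
`ψ x = v x v⁻¹` on `NG`, `v ∈ V`. `P3`: `r ∈ NG` normalizing `V`, fixing no involution of `V`;
`r ∈ N_G(S)` (`G1c`: `s = w` or `t w`; `r` commutes with `t`). `hK r` gives `μ`, `μ t = t`, `μ` stabilizes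
`NG` (`M1`); `μ ψ = ψ μ` on `NG` gives `v⁻¹ μ(v) ∈ Z(NG) = 1` (`simpleN`); `μ v = r v r⁻¹`; so `v = 1`.
Then for `e ∈ E`: `ψ e ∈ E` and `e⁻¹ ψ(e)` centralizes `NG`, so `ψ e = e` (`X.hcent`); `JR.mem_C`. -/
theorem M2 (X : JR G F) (S : Sylow 2 G) (htS : X.t ∈ S) (ψ : G ≃* G) (k : ℕ)
    (hψk : ψ ^ (2 ^ k) = 1) (hψS : ∀ s ∈ S, ψ s = s)
    (hK : ∀ n ∈ Subgroup.normalizer ((S : Subgroup G) : Set G), ∃ μ : G ≃* G,
      (∀ s ∈ S, μ s = n * s * n⁻¹) ∧ μ * ψ = ψ * μ) :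
    ∀ c ∈ Subgroup.centralizer ({X.t} : Set G), ψ c = c := by
  sorry

end setting

end Cfsg.Agent.Lib.Helper9.JRStubs
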