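import Cfsg.Agent.Lib.Helper9.Co1g

set_option autoImplicit false
set_option maxRecDepth 1000000

/-! Words in the non-monomial map, sign changes and coordinate permutations, evaluated on coded
lattice vectors by computation (for S5403). -/

namespace Cfsg.Agent.Lib.Helper9.JSecA

open scoped Pointwise
open Cfsg Finset Cfsg.Agent.Lib.Helper4.Leech Cfsg.Agent.Lib.Helper9.LeechC7
  Cfsg.Agent.Lib.Helper9.LeechM1 Cfsg.Agent.Lib.Helper9.LeechM2 Cfsg.Agent.Lib.Helper9.LeechM4
  Cfsg.Agent.Lib.Helper9.LeechX4 Cfsg.Agent.Lib.Helper9.LeechX7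
  Cfsg.Agent.Lib.Helper9.M24T8 Cfsg.Agent.Lib.Helper9.M24T3 Cfsg.Agent.Lib.Helper9.M24U1
  Cfsg.Agent.Lib.Helper9.M24T1 Cfsg.Agent.Lib.Helper9.GolayQR1
  Cfsg.Agent.Lib.Helper9.OrbCert1 Cfsg.Agent.Lib.Helper9.OrbCert3
  Cfsg.Agent.Lib.Helper9.Co1a Cfsg.Agent.Lib.Helper9.Co1b Cfsg.Agent.Lib.Helper9.Co1c
open Cfsg.Agent.Lib.Helper9.LeechX1 (xiFun)

/-- letters: the non-monomial map, a sign change (mask), a coordinate permutation (table and
inverse table) -/
inductive Ltr : Type
  | x : Ltr
  | e : ℕ → Ltr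
  | p : List ℕ → List ℕ → Ltr

/-- a table and its inverse table give an element of `M24` -/
abbrev Good (l l' : List ℕ) : Prop :=
  (∀ p, tfun l' (tfun l p) = p) ∧ (∀ p, tfun l (tfun l' p) = p) ∧
  (∀ p : GolayPt, l.getD (idx p) 0 < 24) ∧ (∀ p : GolayPt, l'.getD (idx p) 0 < 24) ∧
  (∀ i : Fin 12, Cfsg.Agent.Lib.Helper9.GolayQR3.reprod (pull l (Cfsg.Agent.Lib.Helper9.GolayQR2.bmask i)) = pull l (Cfsg.Agent.Lib.Helper9.GolayQR2.bmask i))

instance (l l' : List ℕ) : Decidable (Good l l') := by
  infer_instance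

/-- validity of a letter -/
def Ltr.ok : Ltr → Prop
  | .x => True
  | .e m => Cfsg.Agent.Lib.Helper9.GolayQR3.reprod m = m
  | .p l l' => Good l l'

instance : DecidablePred Ltr.ok := fun t => by
  cases t <;> unfold Ltr.ok <;> infer_instance

/-- the element of `Co0` of a letter (the identity for an invalid letter) -/
noncomputable def Ltr.el : Ltr → ↥Co0
  | .x => ⟨xi, xi_mem⟩
  | .e m => if h : Cfsg.Agent.Lib.Helper9.GolayQR3.reprod m = m then
      ⟨eps (M m) (mask_mem_Code m h), eps_mem _ _⟩ else 1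
  | .p l l' => if h : Good l l' then
      ⟨prm (tperm l l' h.1 h.2.1) (tperm_mem l l' h.1 h.2.1 h.2.2.1 h.2.2.2.2), prm_mem _ _⟩ else 1

/-- the letter on indices -/
def Ltr.fi : Ltr → FnI
  | .x => xiI
  | .e m => epsI m
  | .p _ l' => permI l'

theorem compat_eps (m : ℕ) : Compat (fun x i => if i ∈ M m then -x i else x i) (epsI m) := by
  intro y i
  show (if i ∈ M m then -y (idx i) else y (idx i))
    = if m.testBit (idx i) then -y (idx i) else y (idx i)
  by_cases h : i ∈ M m
  · rw [if_pos h, if_pos ((mem_M m i).mp h)]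
  · rw [if_neg h, if_neg (fun h' => h ((mem_M m i).mpr h'))]

theorem Ltr.spec (t : Ltr) (h : t.ok) (p c : ℕ) (hs : eqI (t.fi (vecI p)) (vecI c) = true)
    (v : leechLattice) (hv : v.1 = vecN p) : ((t.el).1 v).1 = vecN c := by
  cases t with
  | x =>
    have : ((Ltr.x.el).1 v).1 = xiFun v.1 := rfl
    rw [this, hv]
    exact gen_step compat_xi p c hs
  | e m =>
    have hm : Cfsg.Agent.Lib.Helper9.GolayQR3.reprod m = m := h
    have : (((Ltr.e m).el).1 v).1 = (fun x i => if i ∈ M m then -x i else x i) v.1 := by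
      rw [Ltr.el, dif_pos hm]
      rfl
    rw [this, hv]
    exact gen_step (compat_eps m) p c hs
  | p l l' =>
    have hg : Good l l' := h
    have : (((Ltr.p l l').el).1 v).1
        = (fun x i => x ((tperm l l' hg.1 hg.2.1).symm i)) v.1 := by
      rw [Ltr.el, dif_pos hg]
      rfl
    rw [this, hv]
    exact gen_step (compat_tperm l l' hg.1 hg.2.1 hg.2.2.2.1) p c hs

/-! ### words over a table of letters -/

section table

variable (LT : List Ltr)

/-- the `k`-th letter of the table -/
def lt (k : ℕ) : Ltr := LT.getD k Ltr.x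

/-- all letters of the table are valid -/
def AllOK : Prop := ∀ t ∈ LT, t.ok

instance : Decidable (AllOK LT) := by
  unfold AllOK
  infer_instance

theorem lt_ok (h : AllOK LT) (k : ℕ) : (lt LT k).ok := by
  unfold lt
  by_cases hk : k < LT.length
  · rw [List.getD_eq_getElem _ _ hk]
    exact h _ (List.getElem_mem hk)
  · rw [List.getD_eq_default _ _ (by omega)]
    trivial

/-- the element of a word (the first letter is applied last) -/
noncomputable def wel : List ℕ → ↥Co0
  | [] => 1
  | k :: L => (lt LT k).el * wel L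

theorem wel_nil : wel LT [] = 1 := rfl

theorem wel_cons (k : ℕ) (L : List ℕ) : wel LT (k :: L) = (lt LT k).el * wel LT L := rfl

theorem wel_append (L1 L2 : List ℕ) : wel LT (L1 ++ L2) = wel LT L1 * wel LT L2 := by
  induction L1 with
  | nil => rw [List.nil_append, wel_nil, one_mul]
  | cons k L ih => rw [List.cons_append, wel_cons, wel_cons, ih, mul_assoc]

/-! ### the letters on digits (a coordinate `x` is coded by the digit `x + 8`) -/

/-- maps of digit vectors -/
abbrev FnD : Type := (ℕ → ℕ) → ℕ → ℕ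

def epsD (m : ℕ) : FnD := fun d k => if m.testBit k then 16 - d k else d k

def permD (l' : List ℕ) : FnD := fun d k => d (l'.getD k 0)

/-- the sum of the digits of the tetrad of an index -/
def xiS (d : ℕ → ℕ) (k : ℕ) : ℕ :=
  d (ptI (tetI k) 0) + d (ptI (tetI k) 1) + d (ptI (tetI k) 2) + d (ptI (tetI k) 3)

def xiD : FnD := fun d k =>
  if tetI k = 0 then 16 - (d k + 16 - xiS d k / 2) else d k + 16 - xiS d k / 2

/-- the letter on digits -/
def Ltr.fd : Ltr → FnD
  | .x => xiD
  | .e m => epsD m
  | .p _ l' => permD l'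

/-- the side conditions at an index -/
def Ltr.okd : Ltr → (ℕ → ℕ) → ℕ → Bool
  | .x, d, k => decide (xiS d k % 2 = 0) && decide (xiS d k / 2 ≤ d k + 16) &&
      decide (d k + 16 - xiS d k / 2 ≤ 16)
  | .e _, d, k => decide (d k ≤ 16)
  | .p _ _, _, _ => true

theorem Ltr.fd_spec (t : Ltr) (d : ℕ → ℕ) (k : ℕ) (h : t.okd d k = true) :
    t.fi (fun j => (d j : ℤ) - 8) k = (t.fd d k : ℤ) - 8 := by
  cases t with
  | x =>
    have h' : (decide (xiS d k % 2 = 0) && decide (xiS d k / 2 ≤ d k + 16) &&
      decide (d k + 16 - xiS d k / 2 ≤ 16)) = true := h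
    simp only [Bool.and_eq_true, decide_eq_true_eq] at h'
    obtain ⟨⟨h1, h2⟩, h3⟩ := h'
    show sgnI (tetI k) * (((d k : ℤ) - 8) - ((((d (ptI (tetI k) 0) : ℤ) - 8)
      + ((d (ptI (tetI k) 1) : ℤ) - 8) + ((d (ptI (tetI k) 2) : ℤ) - 8)
      + ((d (ptI (tetI k) 3) : ℤ) - 8))) / 2) = ((xiD d k : ℕ) : ℤ) - 8
    unfold xiD sgnI
    unfold xiS at h1 h2 h3
    by_cases ht : tetI k = 0
    · rw [if_pos ht, if_pos ht]
      unfold xiS
      omega
    · rw [if_neg ht, if_neg ht]
      unfold xiS
      omega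
  | e m =>
    have h' : decide (d k ≤ 16) = true := h
    rw [decide_eq_true_eq] at h'
    show (if m.testBit k then -((d k : ℤ) - 8) else (d k : ℤ) - 8) = ((epsD m d k : ℕ) : ℤ) - 8
    unfold epsD
    by_cases hb : m.testBit k = true
    · rw [if_pos hb, if_pos hb]
      omega
    · rw [if_neg hb, if_neg hb]
  | p l l' => rfl

/-- coding of a digit vector -/
def encD (f : ℕ → ℕ) : ℕ → ℕ
  | 0 => 0
  | k + 1 => Nat.add (encD f k) (Nat.shiftLeft (f k) (Nat.mul 4 k))

/-- force the evaluation of a natural number before it is used -/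
def force (n : ℕ) (k : ℕ → Option ℕ) : Option ℕ :=
  match n with
  | 0 => k 0
  | m + 1 => k (m + 1)

theorem force_eq (n : ℕ) (k : ℕ → Option ℕ) : force n k = k n := by
  cases n <;> rfl

/-- the check of a step on digits -/
def stepOKD (t : Ltr) (q c : ℕ) : Bool :=
  (List.range 24).all fun k => t.okd (dg q) k && Nat.beq (dg c k) (t.fd (dg q) k)

theorem stepOKD_sound (t : Ltr) (q c : ℕ) (h : stepOKD t q c = true) :
    eqI (t.fi (vecI q)) (vecI c) = true := by
  unfold eqI
  rw [List.all_eq_true]
  intro k hk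
  unfold stepOKD at h
  rw [List.all_eq_true] at h
  have h1 := h k hk
  rw [Bool.and_eq_true] at h1
  have h2 : dg c k = t.fd (dg q) k := Nat.eq_of_beq_eq_true h1.2
  rw [decide_eq_true_eq]
  have h3 := Ltr.fd_spec t (dg q) k h1.1
  show t.fi (fun j => (dg q j : ℤ) - 8) k = (dg c k : ℤ) - 8
  rw [h3, h2]

/-- one step: compute the code of the image and check it -/
def stepC (t : Ltr) (q : ℕ) : Option ℕ :=
  force (encD (t.fd (dg q)) 24) fun c => if stepOKD t q c then some c else none

/-- the image of a coded vector under a word -/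
def run : List ℕ → ℕ → Option ℕ
  | [], p => some p
  | k :: L, p =>
    match run L p with
    | none => none
    | some q => stepC (lt LT k) q

theorem run_sound (hok : AllOK LT) : ∀ (L : List ℕ) (p c : ℕ), run LT L p = some c →
    ∀ v : leechLattice, v.1 = vecN p → ((wel LT L).1 v).1 = vecN c := by
  intro L
  induction L with
  | nil =>
    intro p c h v hv
    have : p = c := by
      unfold run at h
      exact Option.some.inj h
    subst this
    exact hv
  | cons k L ih =>
    intro p c h v hv
    unfold run at h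
    cases hr : run LT L p with
    | none => rw [hr] at h; exact absurd h (by simp)
    | some q =>
      rw [hr] at h
      have h1 := ih p q hr v hv
      have h' : stepC (lt LT k) q = some c := h
      clear h
      unfold stepC at h'
      rw [force_eq] at h'
      by_cases hc : stepOKD (lt LT k) q (encD ((lt LT k).fd (dg q)) 24) = true
      · rw [if_pos hc] at h'
        have hcc := Option.some.inj h'
        rw [wel_cons]
        have := Ltr.spec (lt LT k) (lt_ok LT hok k) q _ (stepOKD_sound _ _ _ hc)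
          ((wel LT L).1 v) h1
        rw [← hcc]
        exact this
      · rw [if_neg hc] at h'
        exact absurd h' (by simp)

end table

end Cfsg.Agent.Lib.Helper9.JSecA
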