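import Cfsg.Agent.Lib.Helper9.JSecA

set_option autoImplicit false
set_option maxRecDepth 1000000

/-! Equality and inequality of words (of `JSecA`) by evaluation on 24 coded lattice vectors
(for S5403). -/

namespace Cfsg.Agent.Lib.Helper9.JSecB

open scoped Pointwise
open Cfsg Finset Cfsg.Agent.Lib.Helper4.Leech Cfsg.Agent.Lib.Helper9.LeechC7
  Cfsg.Agent.Lib.Helper9.LeechM1 Cfsg.Agent.Lib.Helper9.LeechM2 Cfsg.Agent.Lib.Helper9.LeechM4
  Cfsg.Agent.Lib.Helper9.LeechX4 Cfsg.Agent.Lib.Helper9.LeechX7
  Cfsg.Agent.Lib.Helper9.M24T8 Cfsg.Agent.Lib.Helper9.M24T3 Cfsg.Agent.Lib.Helper9.M24U1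
  Cfsg.Agent.Lib.Helper9.M24T1 Cfsg.Agent.Lib.Helper9.GolayQR1
  Cfsg.Agent.Lib.Helper9.OrbCert1 Cfsg.Agent.Lib.Helper9.OrbCert3
  Cfsg.Agent.Lib.Helper9.Co1a Cfsg.Agent.Lib.Helper9.Co1b Cfsg.Agent.Lib.Helper9.Co1c
  Cfsg.Agent.Lib.Helper9.JSecA

/-- the codes of the 24 test vectors `4 e_∞ - 4 e_0`, `4 e_∞ + 4 e_j` (`j = 0, …, 22`) -/
def BC : List ℕ := [62062060636173731114942761092, 62062060636173731114942761100, 62062060636173731114942761160, 62062060636173731114942762120, 62062060636173731114942777480, 62062060636173731114943023240, 62062060636173731114946955400, 62062060636173731115009869960, 62062060636173731116016502920, 62062060636173731132122630280, 62062060636173731389820668040, 62062060636173735512989272200, 62062060636173801483686938760, 62062060636174857014849603720, 62062060636191745513452243080, 62062060636461961491094472840, 62062060640785417133370149000, 62062060709960707409780967560, 62062061816765351832354064520, 62062079525639662593523615880, 62062362867628634772236437640, 62066896339452189631641585800, 62139431888629067382123956360, 63300000675459111389841885320]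

/-- a coded vector with entries divisible by 4 and sum divisible by 8 is in the lattice -/
def Four (c : ℕ) : Prop := (∀ i, vecN c i % 4 = 0) ∧ (∑ i, vecN c i) % 8 = 0

instance (c : ℕ) : Decidable (Four c) := by
  unfold Four
  infer_instance

/-- the lattice vector of such a code -/
def mkv (c : ℕ) (h : Four c) : leechLattice :=
  ⟨vecN c, Cfsg.Agent.Lib.Helper9.LeechX12.four_mem _ h.1 h.2⟩

theorem mkv_val (c : ℕ) (h : Four c) : (mkv c h).1 = vecN c := rfl

theorem BC_four : ∀ j < 24, Four (BC.getD j 0) := by decide +kernel

/-- the test vectors -/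
def Bv (j : ℕ) (hj : j < 24) : leechLattice := mkv (BC.getD j 0) (BC_four j hj)

theorem E_none_rel : ∀ i, (E none).1 i = vecN (BC.getD 0 0) i + vecN (BC.getD 1 0) i := by
  decide +kernel

theorem E_some_rel : ∀ j : ZMod 23, ∀ i, (E (some j)).1 i + (E none).1 i
    = vecN (BC.getD (j.val + 1) 0) i + vecN (BC.getD (j.val + 1) 0) i := by
  decide +kernel

/-- two elements of `Co0` that agree on the test vectors are equal -/
theorem ext_B {f g : ↥Co0} (h : ∀ j (hj : j < 24), f.1 (Bv j hj) = g.1 (Bv j hj)) : f = g := by
  apply Subtype.ext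
  have hf := f.2.1
  have hg := g.2.1
  have e0' : E none = Bv 0 (by norm_num) + Bv 1 (by norm_num) := by
    apply Subtype.ext
    funext i
    exact E_none_rel i
  have h0 : f.1 (E none) = g.1 (E none) := by
    rw [e0', hf, hg, h 0 (by norm_num), h 1 (by norm_num)]
  apply ext_E f.2 g.2
  intro p
  cases p with
  | none => exact h0
  | some j =>
    have hj : j.val + 1 < 24 := by
      have := ZMod.val_lt j
      omega
    have ej : E (some j) + E none = Bv (j.val + 1) hj + Bv (j.val + 1) hj := by
      apply Subtype.ext
      funext i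
      exact E_some_rel j i
    have h2 := congrArg f.1 ej
    have h3 := congrArg g.1 ej
    rw [hf, hf] at h2
    rw [hg, hg] at h3
    rw [h (j.val + 1) hj, ← h3, h0] at h2
    exact add_right_cancel h2

section table

variable (LT : List Ltr)

/-- evaluation of a word on a lattice vector given by a code -/
theorem run_apply (hok : AllOK LT) (L : List ℕ) (p c : ℕ) (h : run LT L p = some c)
    (v : leechLattice) (hv : v.1 = vecN p) (w : leechLattice) (hw : w.1 = vecN c) :
    (wel LT L).1 v = w := by
  apply Subtype.ext
  rw [run_sound LT hok L p c h v hv, hw]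

/-- the check that two words agree on a coded vector -/
def agree (L1 L2 : List ℕ) (p : ℕ) : Bool :=
  match run LT L1 p, run LT L2 p with
  | some c1, some c2 => Nat.beq c1 c2
  | _, _ => false

theorem agree_sound (hok : AllOK LT) (L1 L2 : List ℕ) (p : ℕ) (h : agree LT L1 L2 p = true)
    (v : leechLattice) (hv : v.1 = vecN p) : (wel LT L1).1 v = (wel LT L2).1 v := by
  unfold agree at h
  cases h1 : run LT L1 p with
  | none => rw [h1] at h; exact absurd h (by simp)
  | some c1 =>
    cases h2 : run LT L2 p with
    | none => rw [h1, h2] at h; exact absurd h (by simp)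
    | some c2 =>
      rw [h1, h2] at h
      have hc : c1 = c2 := Nat.eq_of_beq_eq_true h
      subst hc
      apply Subtype.ext
      rw [run_sound LT hok L1 p c1 h1 v hv, run_sound LT hok L2 p c1 h2 v hv]

/-- the check that two words are equal -/
def weq (L1 L2 : List ℕ) : Bool := (List.range 24).all fun j => agree LT L1 L2 (BC.getD j 0)

theorem weq_sound (hok : AllOK LT) (L1 L2 : List ℕ) (h : weq LT L1 L2 = true) :
    wel LT L1 = wel LT L2 := by
  apply ext_B
  intro j hj
  unfold weq at h
  rw [List.all_eq_true] at h
  exact agree_sound LT hok L1 L2 _ (h j (List.mem_range.mpr hj)) (Bv j hj) rfl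

/-- the check that two words differ on a coded vector -/
def differ (L1 L2 : List ℕ) (p : ℕ) : Bool :=
  match run LT L1 p, run LT L2 p with
  | some c1, some c2 => !(eqI (vecI c1) (vecI c2))
  | _, _ => false

theorem vecI_eq_of_vecN {c1 c2 : ℕ} (h : vecN c1 = vecN c2) : eqI (vecI c1) (vecI c2) = true := by
  unfold eqI
  rw [List.all_eq_true]
  intro k hk
  have hk' : k < 24 := List.mem_range.mp hk
  have := congrFun h (unidx k)
  rw [vecN_unidx c1 k hk', vecN_unidx c2 k hk'] at this
  exact decide_eq_true this

theorem differ_sound (hok : AllOK LT) (L1 L2 : List ℕ) (p : ℕ) (h : differ LT L1 L2 p = true)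
    (v : leechLattice) (hv : v.1 = vecN p) : (wel LT L1).1 v ≠ (wel LT L2).1 v := by
  unfold differ at h
  cases h1 : run LT L1 p with
  | none => rw [h1] at h; exact absurd h (by simp)
  | some c1 =>
    cases h2 : run LT L2 p with
    | none => rw [h1, h2] at h; exact absurd h (by simp)
    | some c2 =>
      rw [h1, h2] at h
      have h' : (!(eqI (vecI c1) (vecI c2))) = true := h
      intro he
      have e1 := run_sound LT hok L1 p c1 h1 v hv
      have e2 := run_sound LT hok L2 p c2 h2 v hv
      rw [he, e2] at e1
      have := vecI_eq_of_vecN e1.symm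
      rw [this] at h'
      exact absurd h' (by simp)

/-- the check that two words are different: they differ on the `j`-th test vector -/
def wne (L1 L2 : List ℕ) (j : ℕ) : Bool := decide (j < 24) && differ LT L1 L2 (BC.getD j 0)

theorem wne_sound (hok : AllOK LT) (L1 L2 : List ℕ) (j : ℕ) (h : wne LT L1 L2 j = true) :
    wel LT L1 ≠ wel LT L2 := by
  unfold wne at h
  rw [Bool.and_eq_true] at h
  have hj : j < 24 := of_decide_eq_true h.1
  intro he
  exact differ_sound LT hok L1 L2 _ h.2 (Bv j hj) rfl (by rw [he])

end table

end Cfsg.Agent.Lib.Helper9.JSecB
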