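import Cfsg.Agent.Lib.Helper9.JSecC

set_option autoImplicit false
set_option maxRecDepth 1000000
set_option Elab.async false

/-! The checks for S5403, by computation. -/

namespace Cfsg.Agent.Lib.Helper9.JSecD

open Cfsg.Agent.Lib.Helper9.OrbCert1
open Cfsg.Agent.Lib.Helper9.JSecA Cfsg.Agent.Lib.Helper9.JSecB Cfsg.Agent.Lib.Helper9.JSecC

/-- the `k`-th power of a word -/
def wpow (L : List ℕ) : ℕ → List ℕ
  | 0 => []
  | k + 1 => L ++ wpow L k

/-- the codes of the two base roots -/
def u1c : ℕ := 42255020007607646716556773580
def u2c : ℕ := 42255020007607646716556774540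

/-- the eight test roots (the first, second, ... test vectors supported on the octad) -/
def rootC : List ℕ := [62062060636173731114942761092, 62062060636173731114942761100, 62062060636173731114942761160, 62062060636173731114942762120, 62062060636173731114942777480, 62062060636173731114946955400, 62062060636461961491094472840, 62062061816765351832354064520]

/-- the inner product of two coded vectors -/
def dotN (c c' : ℕ) : ℤ := ((List.range 24).map fun k => vecI c k * vecI c' k).sum

/-- the inner product of two coded vectors is `dotP - dotQ` -/
def dotP (c c' : ℕ) : ℕ := ((List.range 24).map fun k => Nat.mul (dg c k) (dg c' k)).sum + 1536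

def dotQ (c c' : ℕ) : ℕ := Nat.mul 8 ((List.range 24).map fun k => Nat.add (dg c k) (dg c' k)).sum

/-- the inner product of `c` and `c'` is `16` -/
def dotPos (c c' : ℕ) : Bool := Nat.beq (dotP c c') (dotQ c c' + 16)

/-- the inner product of `c` and `c'` is `-16` -/
def dotNeg (c c' : ℕ) : Bool := Nat.beq (dotP c c' + 16) (dotQ c c')

/-- the condition on an image `r` of the first base root: the inner product of `a r` and `r` is `-16` -/
def selfOK (e : ℕ × ℕ) : Bool := dotNeg e.2 e.1

/-- the conditions on an image `r` of the second base root under the stabiliser of the first: the inner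
products of `u_1, a u_1, a² u_1, a³ u_1` with `r` are `16, -16, 16, -16` -/
def crossOK (e : ℕ × ℕ) : Bool :=
  dotPos (WC.getD 0 0) e.1 && dotNeg (WC.getD 1 0) e.1 && dotPos (WC.getD 2 0) e.1 &&
    dotNeg (WC.getD 3 0) e.1

/-- two coded vectors have the same inner product with a third one -/
def sameDot (c1 c2 w : ℕ) : Bool := Nat.beq (dotP c1 w + dotQ c2 w) (dotP c2 w + dotQ c1 w)

/-- a list of codes has no repetition -/
def nodupB : List ℕ → Bool
  | [] => true
  | p :: l => l.all (fun q => !(Nat.beq p q)) && nodupB l

/-- a word fixes the eight test roots -/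
def fixR (L : List ℕ) : Bool := rootC.all fun c => decide (run LT L c = some c)

/-- a word commutes with the element of order 5 -/
def commA (L : List ℕ) : Bool := weq LT (L ++ aW) (aW ++ L)

/-- a word commutes with the sign change on the octad -/
def commT (L : List ℕ) : Bool := weq LT (L ++ tW) (tW ++ L)

/-- two coded vectors are different -/
def neC (c c' : ℕ) : Bool := !(eqI (vecI c) (vecI c'))

/-- the image of the first base root under a word is not one of the ten vectors `± a^k u_1` -/
def offN (L : List ℕ) : Bool :=
  match run LT L u1c with
  | some c => WN.all fun c' => neC c c'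
  | none => false

/-! ### the element of order 5, the primitive elements -/

theorem a_pow : weq LT (wpow aW 5) [] = true := by decide +kernel
theorem a_ne : wne LT aW [] 0 = true := by decide +kernel
theorem a_t : commT aW = true := by decide +kernel
theorem prim_a : [g0W, g1W, g2W, uW, c1W, q1W, q2W, q4W].all commA = true := by decide +kernel
theorem prim_t : [g0W, g1W, g2W].all commT = true := by decide +kernel
theorem g0_sq : weq LT (g0W ++ g0W) nW = true := by decide +kernel
theorem d01_eq : weq LT (d01W ++ g1W ++ g0W) (g0W ++ g1W) = true := by decide +kernel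
theorem d02_eq : weq LT (d02W ++ g2W ++ g0W) (g0W ++ g2W) = true := by decide +kernel
theorem d12_eq : weq LT (d12W ++ g2W ++ g1W) (g1W ++ g2W) = true := by decide +kernel
theorem k0_eq : weq LT (k0W ++ g0W ++ q1W) (q1W ++ g0W) = true := by decide +kernel
theorem k1_eq : weq LT (k1W ++ g2W ++ q1W) (q1W ++ g2W) = true := by decide +kernel
theorem k2_eq : weq LT (k2W ++ g2W ++ q2W) (q2W ++ g2W) = true := by decide +kernel
theorem k3_eq : weq LT (k3W ++ g1W ++ q4W) (q4W ++ g1W) = true := by decide +kernel

/-! ### the roots -/

theorem WC_ok : decide (WC.getD 0 0 = u1c) && decide (WC.getD 4 0 = u2c) &&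
    decide (run LT aW (WC.getD 0 0) = some (WC.getD 1 0)) &&
    decide (run LT aW (WC.getD 1 0) = some (WC.getD 2 0)) &&
    decide (run LT aW (WC.getD 2 0) = some (WC.getD 3 0)) &&
    decide (run LT aW (WC.getD 4 0) = some (WC.getD 5 0)) &&
    decide (run LT aW (WC.getD 5 0) = some (WC.getD 6 0)) &&
    decide (run LT aW (WC.getD 6 0) = some (WC.getD 7 0)) = true := by decide +kernel

theorem WC_dot : (dotPos (WC.getD 0 0) u2c && dotNeg (WC.getD 1 0) u2c && dotPos (WC.getD 2 0) u2c
    && dotNeg (WC.getD 3 0) u2c && dotNeg (WC.getD 1 0) u1c) = true := by decide +kernel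

/-- a root with the same inner products with the `a^k u_j` as a test root is that test root -/
theorem uniq_ok : (List.range 8).all (fun j => RT.all fun e =>
    !((List.range 8).all fun m => sameDot e.1 (rootC.getD j 0) (WC.getD m 0))
      || Nat.beq e.1 (rootC.getD j 0)) = true := by decide +kernel

/-! ### the spanning tree -/

def bfsStep (j : ℕ) : Bool :=
  let s := CT.getD j (0, 0)
  decide (s.1 < j) && decide (run LT (gensB.getD s.2 []) (OL.getD s.1 0) = some (OL.getD j 0))

/-- the word of a product of generators -/
def pathW : List ℕ → List ℕ
  | [] => []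
  | k :: l => gensB.getD k [] ++ pathW l

theorem OL_zero : OL.getD 0 0 = u1c := by decide +kernel

theorem OL_length : OL.length = 120 := by decide +kernel

theorem OL_lt : OL.all (fun p => decide (p < 79228162514264337593543950336)) = true := by
  decide +kernel

theorem FL_length : FL.length = 5 := by decide +kernel

theorem FL_lt : FL.all (fun p => decide (p < 79228162514264337593543950336)) = true := by
  decide +kernel

end Cfsg.Agent.Lib.Helper9.JSecD
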