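import Cfsg.Agent.Lib.Helper9.JSecD

set_option autoImplicit false
set_option maxRecDepth 1000000
set_option Elab.async false

/-! The checks for S5403, by computation: the table of the roots. -/

namespace Cfsg.Agent.Lib.Helper9.JSecD2

open Cfsg.Agent.Lib.Helper9.OrbCert1
open Cfsg.Agent.Lib.Helper9.JSecA Cfsg.Agent.Lib.Helper9.JSecB Cfsg.Agent.Lib.Helper9.JSecC
  Cfsg.Agent.Lib.Helper9.JSecD

theorem RT_ok : RT.all (fun e => decide (run LT aW e.1 = some e.2)) = true := by decide +kernel

/-- 120 roots satisfy the condition on the images of the first base root -/
theorem RT_self : (RT.filter selfOK).length = 120 := by decide +kernel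

/-- 5 roots satisfy the conditions on the images of the second base root -/
theorem RT_cross : (RT.filter crossOK).length = 5 := by decide +kernel

end Cfsg.Agent.Lib.Helper9.JSecD2
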