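import Cfsg.Agent.Lib.Helper9.JSecD

set_option autoImplicit false
set_option maxRecDepth 1000000
set_option Elab.async false

/-! The checks for S5403, by computation: the spanning tree. -/

namespace Cfsg.Agent.Lib.Helper9.JSecD3

open Cfsg.Agent.Lib.Helper9.OrbCert1
open Cfsg.Agent.Lib.Helper9.JSecA Cfsg.Agent.Lib.Helper9.JSecB Cfsg.Agent.Lib.Helper9.JSecC
  Cfsg.Agent.Lib.Helper9.JSecD

theorem bfs_ok : (List.range 120).all (fun j => decide (j = 0) || bfsStep j) = true := by
  decide +kernel

theorem OL_nodup : nodupB OL = true := by decide +kernel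

/-- the five elements of the stabiliser of the first base root -/
theorem FP_ok : (List.range 5).all (fun m =>
    decide (run LT (pathW (FP.getD m [])) u1c = some u1c) &&
    decide (run LT (pathW (FP.getD m [])) u2c = some (FL.getD m 0))) = true := by decide +kernel

theorem FL_nodup : nodupB FL = true := by decide +kernel

end Cfsg.Agent.Lib.Helper9.JSecD3
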