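import Cfsg.Agent.Lib.Helper9.JSecD

set_option autoImplicit false
set_option maxRecDepth 1000000
set_option Elab.async false

/-! The checks for S5403, by computation: the stabiliser of a pair of roots and the transversal. -/

namespace Cfsg.Agent.Lib.Helper9.JSecD4

open Cfsg.Agent.Lib.Helper9.OrbCert1
open Cfsg.Agent.Lib.Helper9.JSecA Cfsg.Agent.Lib.Helper9.JSecB Cfsg.Agent.Lib.Helper9.JSecC
  Cfsg.Agent.Lib.Helper9.JSecD

/-- the `i`-th element of the stabiliser -/
def sw (i : ℕ) : List ℕ := SW.getD i []

/-- the `i`-th element of the transversal -/
def tw (i : ℕ) : List ℕ := TW.getD i []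

def twi (i : ℕ) : List ℕ := TWinv.getD i []

theorem SW_length : SW.length = 32 := by decide +kernel

/-- the check of an element of the stabiliser -/
def swOK (i : ℕ) : Bool := commA (sw i) && commT (sw i) && fixR (sw i)

theorem SW_mem0 : (List.range' 0 8).all swOK = true := by decide +kernel
theorem SW_mem1 : (List.range' 8 8).all swOK = true := by decide +kernel
theorem SW_mem2 : (List.range' 16 8).all swOK = true := by decide +kernel
theorem SW_mem3 : (List.range' 24 8).all swOK = true := by decide +kernel

theorem SW_mem (i : ℕ) (hi : i < 32) : swOK i = true := by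
  by_cases h1 : i < 8
  · exact List.all_eq_true.mp SW_mem0 i (List.mem_range'_1.mpr ⟨by omega, by omega⟩)
  · by_cases h2 : i < 16
    · exact List.all_eq_true.mp SW_mem1 i (List.mem_range'_1.mpr ⟨by omega, by omega⟩)
    · by_cases h3 : i < 24
      · exact List.all_eq_true.mp SW_mem2 i (List.mem_range'_1.mpr ⟨by omega, by omega⟩)
      · exact List.all_eq_true.mp SW_mem3 i (List.mem_range'_1.mpr ⟨by omega, by omega⟩)

theorem SW_ne : (List.range 32).all (fun i => (List.range i).all fun j =>
    wne LT (sw i) (sw j) 5 || wne LT (sw i) (sw j) 8) = true := by decide +kernel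

/-- the elements of the stabiliser are products of the four commutators -/
def swGen (i : ℕ) : Bool := decide (i = 0) ||
  (decide ((SCT.getD i (0, 0)).1 < i) &&
    weq LT (sw i) (sw (SCT.getD i (0, 0)).1 ++ gensK.getD (SCT.getD i (0, 0)).2 []))

theorem SW_gen0 : (List.range' 0 16).all swGen = true := by decide +kernel
theorem SW_gen1 : (List.range' 16 16).all swGen = true := by decide +kernel

theorem SW_gen (i : ℕ) (hi : i < 32) : swGen i = true := by
  by_cases h1 : i < 16
  · exact List.all_eq_true.mp SW_gen0 i (List.mem_range'_1.mpr ⟨by omega, by omega⟩)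
  · exact List.all_eq_true.mp SW_gen1 i (List.mem_range'_1.mpr ⟨by omega, by omega⟩)

theorem SW_zero : sw 0 = [] := by decide +kernel

/-- the element of index 5 is the sign change on the complement of the octad -/
theorem SW_five : weq LT (sw 5) dW = true := by decide +kernel

/-- the elements other than those of index 0 and 5 are not central -/
theorem SW_cen : (List.range 32).all (fun i => decide (i = 0) || decide (i = 5) ||
    wne LT (sw i ++ sw (WIT.getD i (0, 0)).1) (sw (WIT.getD i (0, 0)).1 ++ sw i)
      (WIT.getD i (0, 0)).2) = true := by decide +kernel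

theorem TW_mem : (List.range 16).all (fun i => commT (tw i) && fixR (tw i) &&
    weq LT (tw i ++ twi i) []) = true := by decide +kernel

/-- the quotients of two different elements of the transversal do not commute with the element of
order 5 -/
theorem TW_ne : (List.range 16).all (fun i => (List.range i).all fun j =>
    wne LT ((tw i ++ twi j) ++ aW) (aW ++ (tw i ++ twi j)) ((TWIT.getD i []).getD j 0)) = true := by
  decide +kernel

end Cfsg.Agent.Lib.Helper9.JSecD4
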