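import Cfsg.Agent.Lib.Helper9.JSecD4

set_option autoImplicit false
set_option maxRecDepth 1000000
set_option Elab.async false

/-! The checks for S5403, by computation: the witnesses. -/

namespace Cfsg.Agent.Lib.Helper9.JSecD5

open Cfsg.Agent.Lib.Helper9.OrbCert1
open Cfsg.Agent.Lib.Helper9.JSecA Cfsg.Agent.Lib.Helper9.JSecB Cfsg.Agent.Lib.Helper9.JSecC
  Cfsg.Agent.Lib.Helper9.JSecD Cfsg.Agent.Lib.Helper9.JSecD4

/-- the ten vectors `± a^k u_1` -/
theorem WN_ok : (List.range 5).all (fun k =>
    decide (run LT (wpow aW k) u1c = some (WN.getD (2 * k) 0)) &&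
    (List.range 24).all fun i =>
      decide (vecI (WN.getD (2 * k + 1) 0) i = -vecI (WN.getD (2 * k) 0) i)) = true := by
  decide +kernel

theorem WN_length : WN.length = 10 := by decide +kernel

theorem b_pow : weq LT (wpow bW 5) [] = true := by decide +kernel

theorem b_eq : bW = g0W ++ g1W ++ g0W ++ g2W := by decide +kernel

theorem b_off : offN bW = true := by decide +kernel

theorem X_eq : (List.range 5).all (fun k =>
    weq LT (XW.getD k [] ++ wpow bW k ++ g0W) (g0W ++ bW)) = true := by decide +kernel

theorem X_off : XW.all offN = true := by decide +kernel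

theorem bq_eq : weq LT (bqW ++ bW) (bW ++ q1W) = true := by decide +kernel

theorem bq_ne : (wne LT bqW q1W 5 && wne LT bqW (dW ++ q1W) 5 && wne LT bqW (nW ++ q1W) 0
    && wne LT bqW (nW ++ dW ++ q1W) 0) = true := by decide +kernel

theorem q1_eq : weq LT q1W (nW ++ sw 22) = true := by decide +kernel

theorem cp_eq : cpW = sw 21 := by decide +kernel

theorem u_t : weq LT (uW ++ tW) (cpW ++ uW) = true := by decide +kernel

theorem cp_ne : (wne LT cpW tW 0 && wne LT cpW dW 8) = true := by decide +kernel

theorem x3_eq : weq LT (x3W ++ (g1W ++ g0W) ++ c1W) (c1W ++ (g1W ++ g0W)) = true := by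
  decide +kernel

theorem y3_eq : weq LT (y3W ++ g2W) (g2W ++ x3W) = true := by decide +kernel

theorem x3_pow : weq LT (wpow (nW ++ x3W) 3) [] = true := by decide +kernel

theorem y3_pow : weq LT (wpow (nW ++ y3W) 3) [] = true := by decide +kernel

theorem c_eq : weq LT (cW ++ y3W ++ x3W) (x3W ++ y3W) = true := by decide +kernel

theorem c_x3 : weq LT (cW ++ x3W) (x3W ++ cW) = true := by decide +kernel

theorem c_y3 : weq LT (cW ++ y3W) (y3W ++ cW) = true := by decide +kernel

theorem c_pow : weq LT (wpow cW 3) [] = true := by decide +kernel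

theorem c_ne : wne LT cW [] 0 = true := by decide +kernel

/-- a non-commuting pair in the stabiliser -/
theorem hna_ok : wne LT (sw 1 ++ sw 2) (sw 2 ++ sw 1) 5 = true := by decide +kernel

end Cfsg.Agent.Lib.Helper9.JSecD5
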