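import Cfsg.Agent.Lib.Helper9.JSecD

set_option autoImplicit false
set_option maxRecDepth 1000000
set_option Elab.async false

/-! The checks for S5403, by computation: more memberships. -/

namespace Cfsg.Agent.Lib.Helper9.JSecD6

open Cfsg.Agent.Lib.Helper9.OrbCert1
open Cfsg.Agent.Lib.Helper9.JSecA Cfsg.Agent.Lib.Helper9.JSecB Cfsg.Agent.Lib.Helper9.JSecC
  Cfsg.Agent.Lib.Helper9.JSecD

theorem more_t : [k0W, k1W, k2W, k3W, q1W, q2W, q4W, d01W, d02W, d12W].all commT = true := by
  decide +kernel

theorem more_a : [k0W, k1W, k2W, k3W, d01W, d02W, d12W].all commA = true := by decide +kernel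

end Cfsg.Agent.Lib.Helper9.JSecD6
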