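import Cfsg.Agent.Lib.Helper9.JSecD

set_option autoImplicit false
set_option maxRecDepth 1000000
set_option Elab.async false

/-! The checks for S5403, by computation: the cubes of the two elements of order 6. -/

namespace Cfsg.Agent.Lib.Helper9.JSecD7

open Cfsg.Agent.Lib.Helper9.OrbCert1
open Cfsg.Agent.Lib.Helper9.JSecA Cfsg.Agent.Lib.Helper9.JSecB Cfsg.Agent.Lib.Helper9.JSecC
  Cfsg.Agent.Lib.Helper9.JSecD

theorem x3_cube : weq LT (wpow x3W 3) nW = true := by decide +kernel

theorem y3_cube : weq LT (wpow y3W 3) nW = true := by decide +kernel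

end Cfsg.Agent.Lib.Helper9.JSecD7
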