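import Cfsg.Agent.Lib.Helper9.JSecD2
import Cfsg.Agent.Lib.Helper2.J2SROOTS

set_option autoImplicit false
set_option maxRecDepth 1000000

/-! S5403: the element `a` of order 5, the group `DD = C(a) ∩ C(e0)`, and the pairs of roots
`(g u1, g u2)`, `g ∈ DD`: they satisfy the inner product conditions (at most 600 pairs). -/

namespace Cfsg.Agent.Lib.Helper9.JSecE

open scoped Pointwise
open Cfsg Finset Cfsg.Agent.Lib.Helper4.Leech Cfsg.Agent.Lib.Helper9.LeechC7
  Cfsg.Agent.Lib.Helper9.LeechM1 Cfsg.Agent.Lib.Helper9.LeechM2 Cfsg.Agent.Lib.Helper9.LeechM4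
  Cfsg.Agent.Lib.Helper9.LeechX4 Cfsg.Agent.Lib.Helper9.LeechX7
  Cfsg.Agent.Lib.Helper9.M24T8 Cfsg.Agent.Lib.Helper9.M24T3 Cfsg.Agent.Lib.Helper9.M24U1
  Cfsg.Agent.Lib.Helper9.M24T1 Cfsg.Agent.Lib.Helper9.GolayQR1
  Cfsg.Agent.Lib.Helper9.OrbCert1 Cfsg.Agent.Lib.Helper9.OrbCert3
  Cfsg.Agent.Lib.Helper9.Co1a Cfsg.Agent.Lib.Helper9.Co1b Cfsg.Agent.Lib.Helper9.Co1c
  Cfsg.Agent.Lib.Helper9.JSecA Cfsg.Agent.Lib.Helper9.JSecB Cfsg.Agent.Lib.Helper9.JSecC
  Cfsg.Agent.Lib.Helper9.JSecD Cfsg.Agent.Lib.Helper9.JSecD2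

/-- the element of a word -/
noncomputable abbrev W (L : List ℕ) : ↥Co0 := wel LT L

theorem W_append (L1 L2 : List ℕ) : W (L1 ++ L2) = W L1 * W L2 := wel_append LT L1 L2

theorem W_nil : W [] = 1 := rfl

theorem W_eq {L1 L2 : List ℕ} (h : weq LT L1 L2 = true) : W L1 = W L2 := weq_sound LT LT_ok L1 L2 h

theorem W_ne {L1 L2 : List ℕ} {j : ℕ} (h : wne LT L1 L2 j = true) : W L1 ≠ W L2 :=
  wne_sound LT LT_ok L1 L2 j h

theorem W_run {L : List ℕ} {p c : ℕ} (h : run LT L p = some c) (v : leechLattice)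
    (hv : v.1 = vecN p) : ((W L).1 v).1 = vecN c := run_sound LT LT_ok L p c h v hv

theorem W_pow (L : List ℕ) : ∀ k : ℕ, W (wpow L k) = W L ^ k := by
  intro k
  induction k with
  | zero => rfl
  | succ k ih =>
    show W (L ++ wpow L k) = _
    rw [W_append, ih, pow_succ']

/-- the element of order 5 -/
noncomputable def a : ↥Co0 := W aW

theorem a_def : a = W aW := rfl

theorem a_pow_five : a ^ 5 = 1 := by
  unfold a
  rw [← W_pow, W_eq a_pow]
  rfl

theorem a_ne_one : a ≠ 1 := W_ne a_ne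

theorem commA_sound {L : List ℕ} (h : commA L = true) : W L * a = a * W L := by
  unfold a
  rw [← W_append, ← W_append]
  exact W_eq h

/-! ### the letters of the sign changes -/

theorem W_tW : W tW = e0 := by
  show (lt LT 5).el * 1 = e0
  rw [mul_one]
  have : lt LT 5 = Ltr.e 8536111 := rfl
  rw [this, Ltr.el, dif_pos (by decide +kernel)]
  rfl

theorem commT_sound {L : List ℕ} (h : commT L = true) : W L ∈ Ct := by
  rw [mem_Ct, ← W_tW, ← W_append, ← W_append]
  exact (W_eq h).symm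

theorem a_mem_Ct : a ∈ Ct := commT_sound a_t

/-! ### the group -/

/-- the centraliser of `⟨a⟩` -/
abbrev CA : Subgroup ↥Co0 :=
  Subgroup.centralizer ((Subgroup.zpowers a : Subgroup ↥Co0) : Set ↥Co0)

theorem mem_CA (g : ↥Co0) : g ∈ CA ↔ g * a = a * g := by
  rw [Subgroup.mem_centralizer_iff]
  constructor
  · intro h
    exact (h a (Subgroup.mem_zpowers a)).symm
  · intro h x hx
    obtain ⟨k, rfl⟩ := Subgroup.mem_zpowers_iff.mp hx
    have hc : Commute a g := h.symm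
    exact (hc.zpow_left k).eq

/-- the centraliser of `a` and of the sign change on the octad -/
def DD : Subgroup ↥Co0 := CA ⊓ Ct

theorem mem_DD (g : ↥Co0) : g ∈ DD ↔ g * a = a * g ∧ g ∈ Ct := by
  unfold DD
  rw [Subgroup.mem_inf, mem_CA]

theorem W_mem_DD {L : List ℕ} (h1 : commA L = true) (h2 : commT L = true) : W L ∈ DD :=
  (mem_DD _).mpr ⟨commA_sound h1, commT_sound h2⟩

/-- the action commutes with `a` -/
theorem DD_comm {g : ↥Co0} (hg : g ∈ DD) (v : leechLattice) : g.1 (a.1 v) = a.1 (g.1 v) := by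
  have h := ((mem_DD g).mp hg).1
  exact congrArg (fun x : ↥Co0 => x.1 v) h

/-! ### inner products of coded vectors -/

theorem sum_idx (F : ℕ → ℤ) : ∑ i : GolayPt, F (idx i) = ((List.range 24).map F).sum := by
  have h1 : ∑ i : GolayPt, F (idx i) = F 23 + ∑ x : ZMod 23, F x.val := by
    rw [Fintype.sum_option]
    rfl
  have h2 : ∑ x : ZMod 23, F x.val = ∑ k ∈ Finset.range 23, F k := by
    show ∑ x : Fin 23, F x.val = _
    exact Fin.sum_univ_eq_sum_range F 23
  rw [h1, h2]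
  simp [Finset.sum_range_succ, List.range_succ]
  ring

theorem dotInt_vecN (c c' : ℕ) : dotInt (vecN c) (vecN c') = dotN c c' := by
  unfold dotInt dotN
  exact sum_idx (fun k => vecI c k * vecI c' k)

theorem sum_dig (l : List ℕ) (f g : ℕ → ℕ) :
    ((l.map fun k => ((f k : ℤ) - 8) * ((g k : ℤ) - 8)).sum : ℤ)
      = ((l.map fun k => f k * g k).sum : ℕ) + 64 * (l.length : ℤ)
        - 8 * ((l.map fun k => f k + g k).sum : ℕ) := by
  induction l with
  | nil => simp
  | cons k l ih =>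
    rw [List.map_cons, List.sum_cons, ih, List.map_cons, List.sum_cons, List.map_cons,
      List.sum_cons, List.length_cons]
    push_cast
    ring

/-- the inner product by natural numbers -/
theorem dotN_eq (c c' : ℕ) : dotN c c' = (dotP c c' : ℤ) - (dotQ c c' : ℤ) := by
  have h := sum_dig (List.range 24) (dg c) (dg c')
  rw [List.length_range] at h
  have h1 : dotN c c' = ((List.range 24).map fun k => ((dg c k : ℤ) - 8) * ((dg c' k : ℤ) - 8)).sum :=
    rfl
  have h2 : dotP c c' = ((List.range 24).map fun k => dg c k * dg c' k).sum + 1536 := rfl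
  have h3 : dotQ c c' = 8 * ((List.range 24).map fun k => dg c k + dg c' k).sum := rfl
  rw [h1, h, h2, h3]
  push_cast
  ring

theorem dotPos_iff (c c' : ℕ) : dotPos c c' = true ↔ dotN c c' = 16 := by
  unfold dotPos
  rw [dotN_eq]
  constructor
  · intro h
    have := Nat.eq_of_beq_eq_true h
    omega
  · intro h
    have : dotP c c' = dotQ c c' + 16 := by omega
    rw [this]
    exact Nat.beq_refl _

theorem dotNeg_iff (c c' : ℕ) : dotNeg c c' = true ↔ dotN c c' = -16 := by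
  unfold dotNeg
  rw [dotN_eq]
  constructor
  · intro h
    have := Nat.eq_of_beq_eq_true h
    omega
  · intro h
    have : dotP c c' + 16 = dotQ c c' := by omega
    rw [this]
    exact Nat.beq_refl _

theorem sameDot_of {c1 c2 w : ℕ} (h : dotN c1 w = dotN c2 w) : sameDot c1 c2 w = true := by
  rw [dotN_eq, dotN_eq] at h
  unfold sameDot
  have : dotP c1 w + dotQ c2 w = dotP c2 w + dotQ c1 w := by omega
  rw [this]
  exact Nat.beq_refl _

/-! ### the two base roots -/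

theorem u1_four : Four u1c := by decide +kernel
theorem u2_four : Four u2c := by decide +kernel

def u1 : leechLattice := mkv u1c u1_four
def u2 : leechLattice := mkv u2c u2_four

theorem code_inO : ∀ c ∈ [u1c, u2c] ++ JSecD.rootC, ∀ i : GolayPt, i ∉ L8 → vecN c i = 0 := by
  decide +kernel

theorem inO_of_code {c : ℕ} (hc : c ∈ [u1c, u2c] ++ JSecD.rootC) (v : leechLattice) (hv : v.1 = vecN c) :
    InO v := by
  intro i hi
  rw [hv]
  exact code_inO c hc i (fun h => hi ((mem_O8 i).mpr h))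

theorem u1_inO : InO u1 := inO_of_code (by decide) u1 rfl
theorem u2_inO : InO u2 := inO_of_code (by decide) u2 rfl

theorem sq_u : sqNorm (vecN u1c) = 32 ∧ sqNorm (vecN u2c) = 32 := by decide +kernel

theorem RL_sub : ∀ c ∈ Cfsg.Agent.Lib.Helper2.J2SROOTS.RL, ∃ e ∈ RT, e.1 = c := by
  decide +kernel

/-- the image of a root under an element of the centraliser of the sign change is a root of the
table -/
theorem root_image {g : ↥Co0} (hg : g ∈ Ct) (v : leechLattice) (hO : InO v)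
    (hn : sqNorm v.1 = 32) : ∃ e ∈ RT, (g.1 v).1 = vecN e.1 := by
  have h1 : InO (g.1 v) := inO_smul hg hO
  have h2 : sqNorm (g.1 v).1 = 32 := by rw [g.2.2 v, hn]
  obtain ⟨c, hc, hv⟩ := Cfsg.Agent.Lib.Helper2.J2SROOTS.root_code (g.1 v) h1 h2
  obtain ⟨e, he, rfl⟩ := RL_sub c hc
  exact ⟨e, he, hv⟩

/-- the image under `a` of a root of the table -/
theorem RT_spec {e : ℕ × ℕ} (he : e ∈ RT) (v : leechLattice) (hv : v.1 = vecN e.1) :
    (a.1 v).1 = vecN e.2 := by
  have h := List.all_eq_true.mp RT_ok e he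
  rw [decide_eq_true_eq] at h
  exact W_run h v hv

/-- the images of the base roots under the powers of `a` -/
theorem WC_spec : (a.1 u1).1 = vecN (WC.getD 1 0) ∧ (a.1 (a.1 u1)).1 = vecN (WC.getD 2 0) ∧
    (a.1 (a.1 (a.1 u1))).1 = vecN (WC.getD 3 0) ∧
    (a.1 u2).1 = vecN (WC.getD 5 0) ∧ (a.1 (a.1 u2)).1 = vecN (WC.getD 6 0) ∧
    (a.1 (a.1 (a.1 u2))).1 = vecN (WC.getD 7 0) := by
  have h := WC_ok
  simp only [Bool.and_eq_true, decide_eq_true_eq] at h
  obtain ⟨⟨⟨⟨⟨⟨⟨h0, h4⟩, h1⟩, h2⟩, h3⟩, h5⟩, h6⟩, h7⟩ := h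
  have e1 := W_run h1 u1 (by rw [h0]; rfl)
  have e2 := W_run h2 (a.1 u1) e1
  have e3 := W_run h3 (a.1 (a.1 u1)) e2
  have e5 := W_run h5 u2 (by rw [h4]; rfl)
  have e6 := W_run h6 (a.1 u2) e5
  have e7 := W_run h7 (a.1 (a.1 u2)) e6
  exact ⟨e1, e2, e3, e5, e6, e7⟩

theorem dot_g {g : ↥Co0} (v w : leechLattice) : dotInt (g.1 v).1 (g.1 w).1 = dotInt v.1 w.1 :=
  Cfsg.Agent.Lib.Helper9.LeechX11.dot_pres g.1 g.2 v w

theorem WC_zero : WC.getD 0 0 = u1c := by decide +kernel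

/-- the image of the first base root under an element of the group satisfies the inner product
condition -/
theorem self_cond {g : ↥Co0} (hg : g ∈ DD) : ∃ e ∈ RT, selfOK e = true ∧
    (g.1 u1).1 = vecN e.1 := by
  have hC : g ∈ Ct := ((mem_DD g).mp hg).2
  obtain ⟨e, he, h1⟩ := root_image hC u1 u1_inO sq_u.1
  refine ⟨e, he, ?_, h1⟩
  have a1 := RT_spec he (g.1 u1) h1
  obtain ⟨w1, -, -, -, -, -⟩ := WC_spec
  have hd := WC_dot
  simp only [Bool.and_eq_true] at hd
  have d4 := (dotNeg_iff _ _).mp hd.2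
  unfold selfOK
  rw [dotNeg_iff, ← dotInt_vecN, ← a1, ← h1, ← DD_comm hg, dot_g, w1, ← d4, ← dotInt_vecN]
  rfl

/-- the image of the second base root under an element of the group that fixes the first one
satisfies the inner product conditions -/
theorem cross_cond {g : ↥Co0} (hg : g ∈ DD) (hu : g.1 u1 = u1) : ∃ e ∈ RT, crossOK e = true ∧
    (g.1 u2).1 = vecN e.1 := by
  have hC : g ∈ Ct := ((mem_DD g).mp hg).2
  obtain ⟨e, he, h2⟩ := root_image hC u2 u2_inO sq_u.2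
  refine ⟨e, he, ?_, h2⟩
  obtain ⟨w1, w2, w3, -, -, -⟩ := WC_spec
  have hd := WC_dot
  simp only [Bool.and_eq_true] at hd
  obtain ⟨⟨⟨⟨d0, d1⟩, d2⟩, d3⟩, -⟩ := hd
  rw [dotPos_iff] at d0 d2
  rw [dotNeg_iff] at d1 d3
  have f1 : g.1 (a.1 u1) = a.1 u1 := by rw [DD_comm hg, hu]
  have f2 : g.1 (a.1 (a.1 u1)) = a.1 (a.1 u1) := by rw [DD_comm hg, f1]
  have f3 : g.1 (a.1 (a.1 (a.1 u1))) = a.1 (a.1 (a.1 u1)) := by rw [DD_comm hg, f2]
  unfold crossOK
  simp only [Bool.and_eq_true]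
  rw [dotPos_iff, dotNeg_iff, dotPos_iff, dotNeg_iff]
  refine ⟨⟨⟨?_, ?_⟩, ?_⟩, ?_⟩
  · rw [← dotInt_vecN, ← h2, WC_zero, show vecN u1c = u1.1 from rfl]
    conv_lhs => rw [← hu]
    rw [dot_g, ← d0, WC_zero, ← dotInt_vecN]
    rfl
  · rw [← dotInt_vecN, ← h2, ← w1]
    conv_lhs => rw [← f1]
    rw [dot_g, w1, ← d1, ← dotInt_vecN]
    rfl
  · rw [← dotInt_vecN, ← h2, ← w2]
    conv_lhs => rw [← f2]
    rw [dot_g, w2, ← d2, ← dotInt_vecN]
    rfl
  · rw [← dotInt_vecN, ← h2, ← w3]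
    conv_lhs => rw [← f3]
    rw [dot_g, w3, ← d3, ← dotInt_vecN]
    rfl

end Cfsg.Agent.Lib.Helper9.JSecE
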