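import Cfsg.Agent.Lib.Helper9.JSecE
import Cfsg.Agent.Lib.Helper9.JSecD3
import Cfsg.Agent.Lib.Helper9.JSecD6

set_option autoImplicit false
set_option maxRecDepth 1000000

/-! S5403: the 600 pairs of roots are reached by the subgroup `HH` generated by `a` and seven
commutators. -/

namespace Cfsg.Agent.Lib.Helper9.JSecF

open scoped Pointwise
open Cfsg Finset Cfsg.Agent.Lib.Helper4.Leech Cfsg.Agent.Lib.Helper9.LeechC7
  Cfsg.Agent.Lib.Helper9.LeechM1 Cfsg.Agent.Lib.Helper9.LeechM2 Cfsg.Agent.Lib.Helper9.LeechM4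
  Cfsg.Agent.Lib.Helper9.LeechX4 Cfsg.Agent.Lib.Helper9.LeechX7
  Cfsg.Agent.Lib.Helper9.M24T8 Cfsg.Agent.Lib.Helper9.M24T3 Cfsg.Agent.Lib.Helper9.M24U1
  Cfsg.Agent.Lib.Helper9.M24T1 Cfsg.Agent.Lib.Helper9.GolayQR1
  Cfsg.Agent.Lib.Helper9.OrbCert1 Cfsg.Agent.Lib.Helper9.OrbCert3
  Cfsg.Agent.Lib.Helper9.Co1a Cfsg.Agent.Lib.Helper9.Co1b Cfsg.Agent.Lib.Helper9.Co1c
  Cfsg.Agent.Lib.Helper9.JSecA Cfsg.Agent.Lib.Helper9.JSecB Cfsg.Agent.Lib.Helper9.JSecC
  Cfsg.Agent.Lib.Helper9.JSecD Cfsg.Agent.Lib.Helper9.JSecD3 Cfsg.Agent.Lib.Helper9.JSecD6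
  Cfsg.Agent.Lib.Helper9.JSecE

/-- the generators: `a`, three commutators moving the pairs of roots, four commutators generating the
stabiliser of a pair -/
def GS : Set ↥Co0 := {x | x = a ∨ x = W d01W ∨ x = W d02W ∨ x = W d12W ∨
  x = W k0W ∨ x = W k1W ∨ x = W k2W ∨ x = W k3W}

/-- the subgroup they generate -/
def HH : Subgroup ↥Co0 := Subgroup.closure GS

theorem a_mem_DD : a ∈ DD := (mem_DD a).mpr ⟨rfl, a_mem_Ct⟩

theorem GS_sub_DD : GS ⊆ DD := by
  have ht := List.all_eq_true.mp more_t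
  have ha := List.all_eq_true.mp more_a
  rintro x (rfl | rfl | rfl | rfl | rfl | rfl | rfl | rfl)
  · exact a_mem_DD
  all_goals exact W_mem_DD (ha _ (by decide)) (ht _ (by decide))

theorem HH_le_DD : HH ≤ DD := (Subgroup.closure_le DD).mpr GS_sub_DD

theorem gensB_mem (k : ℕ) : W (gensB.getD k []) ∈ HH := by
  have h0 : W aW ∈ HH := Subgroup.subset_closure (Or.inl rfl)
  have h1 : W d01W ∈ HH := Subgroup.subset_closure (Or.inr (Or.inl rfl))
  have h2 : W d02W ∈ HH := Subgroup.subset_closure (Or.inr (Or.inr (Or.inl rfl)))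
  have h3 : W d12W ∈ HH := Subgroup.subset_closure (Or.inr (Or.inr (Or.inr (Or.inl rfl))))
  match k with
  | 0 => exact h0
  | 1 => exact h1
  | 2 => exact h2
  | 3 => exact h3
  | k + 4 =>
    have : gensB.getD (k + 4) [] = [] := by
      apply List.getD_eq_default
      show 4 ≤ k + 4
      omega
    rw [this]
    exact HH.one_mem

theorem gensK_mem (k : ℕ) : W (gensK.getD k []) ∈ HH := by
  have h0 : W k0W ∈ HH :=
    Subgroup.subset_closure (Or.inr (Or.inr (Or.inr (Or.inr (Or.inl rfl)))))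
  have h1 : W k1W ∈ HH :=
    Subgroup.subset_closure (Or.inr (Or.inr (Or.inr (Or.inr (Or.inr (Or.inl rfl))))))
  have h2 : W k2W ∈ HH :=
    Subgroup.subset_closure (Or.inr (Or.inr (Or.inr (Or.inr (Or.inr (Or.inr (Or.inl rfl)))))))
  have h3 : W k3W ∈ HH :=
    Subgroup.subset_closure (Or.inr (Or.inr (Or.inr (Or.inr (Or.inr (Or.inr (Or.inr rfl)))))))
  match k with
  | 0 => exact h0
  | 1 => exact h1
  | 2 => exact h2
  | 3 => exact h3
  | k + 4 =>
    have : gensK.getD (k + 4) [] = [] := by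
      apply List.getD_eq_default
      show 4 ≤ k + 4
      omega
    rw [this]
    exact HH.one_mem

/-- the `j`-th image of the first base root is reached -/
def Reach (j : ℕ) : Prop := ∃ h ∈ HH, (h.1 u1).1 = vecN (OL.getD j 0)

theorem reach : ∀ j, j < 120 → Reach j := by
  intro j
  induction j using Nat.strong_induction_on with
  | _ j ih =>
    intro hj
    by_cases h0 : j = 0
    · subst h0
      refine ⟨1, HH.one_mem, ?_⟩
      rw [OL_zero]
      rfl
    · have hb := List.all_eq_true.mp bfs_ok j (List.mem_range.mpr hj)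
      rw [Bool.or_eq_true, decide_eq_true_eq] at hb
      rcases hb with hb | hb
      · exact absurd hb h0
      · unfold bfsStep at hb
        simp only [Bool.and_eq_true, decide_eq_true_eq] at hb
        obtain ⟨hlt, r1⟩ := hb
        obtain ⟨h, hh, e1⟩ := ih _ hlt (by omega)
        exact ⟨W (gensB.getD (CT.getD j (0, 0)).2 []) * h, HH.mul_mem (gensB_mem _) hh,
          W_run r1 (h.1 u1) e1⟩

theorem pathW_mem : ∀ l : List ℕ, W (pathW l) ∈ HH := by
  intro l
  induction l with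
  | nil => exact HH.one_mem
  | cons k l ih =>
    show W (gensB.getD k [] ++ pathW l) ∈ HH
    rw [W_append]
    exact HH.mul_mem (gensB_mem k) ih

/-- elements of `HH` fixing the first base root and moving the second one to the five possible
images -/
theorem fibre (m : ℕ) (hm : m < 5) : ∃ h ∈ HH, h.1 u1 = u1 ∧ (h.1 u2).1 = vecN (FL.getD m 0) := by
  have h := List.all_eq_true.mp FP_ok m (List.mem_range.mpr hm)
  rw [Bool.and_eq_true, decide_eq_true_eq, decide_eq_true_eq] at h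
  refine ⟨W (pathW (FP.getD m [])), pathW_mem _, ?_, W_run h.2 u2 rfl⟩
  apply Subtype.ext
  rw [W_run h.1 u1 rfl]
  rfl

end Cfsg.Agent.Lib.Helper9.JSecF
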