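import Cfsg.Agent.Lib.Helper9.JSecF
import Cfsg.Agent.Lib.Helper9.JSecD4
import Cfsg.Agent.Lib.Helper8.J2SKBOUND

set_option autoImplicit false
set_option maxRecDepth 1000000

/-! S5403: the stabiliser of the pair of base roots in `DD` is the pointwise stabiliser `SS` of the
vectors supported on the octad; it has 32 elements, all in `HH`. -/

namespace Cfsg.Agent.Lib.Helper9.JSecG

open scoped Pointwise
open Cfsg Finset Cfsg.Agent.Lib.Helper4.Leech Cfsg.Agent.Lib.Helper9.LeechC7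
  Cfsg.Agent.Lib.Helper9.LeechM1 Cfsg.Agent.Lib.Helper9.LeechM2 Cfsg.Agent.Lib.Helper9.LeechM4
  Cfsg.Agent.Lib.Helper9.LeechX4 Cfsg.Agent.Lib.Helper9.LeechX7
  Cfsg.Agent.Lib.Helper9.M24T8 Cfsg.Agent.Lib.Helper9.M24T3 Cfsg.Agent.Lib.Helper9.M24U1
  Cfsg.Agent.Lib.Helper9.M24T1 Cfsg.Agent.Lib.Helper9.GolayQR1
  Cfsg.Agent.Lib.Helper9.OrbCert1 Cfsg.Agent.Lib.Helper9.OrbCert3
  Cfsg.Agent.Lib.Helper9.Co1a Cfsg.Agent.Lib.Helper9.Co1b
  Cfsg.Agent.Lib.Helper9.JSecA Cfsg.Agent.Lib.Helper9.JSecB Cfsg.Agent.Lib.Helper9.JSecC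
  Cfsg.Agent.Lib.Helper9.JSecD Cfsg.Agent.Lib.Helper9.JSecD4
  Cfsg.Agent.Lib.Helper9.JSecE Cfsg.Agent.Lib.Helper9.JSecF
open Cfsg.Agent.Lib.Helper9.Co1c (Qt mem_Qt mem_Qt_of_roots Rv eight_cancel)
open Cfsg.Agent.Lib.Helper9.Co1d (Rv_inO)

theorem rootC_eq : JSecD.rootC = Cfsg.Agent.Lib.Helper9.Co1c.rootC := rfl

theorem Rv_val (j : ℕ) (hj : j < 8) : (Rv j hj).1 = vecN (JSecD.rootC.getD j 0) := rfl

theorem Rv_sq : ∀ j < 8, sqNorm (vecN (JSecD.rootC.getD j 0)) = 32 := by decide +kernel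

theorem Rv_zero_ne : (Rv 0 (by norm_num) : leechLattice) ≠ -(Rv 0 (by norm_num)) := by
  intro h
  have h1 := congrFun (congrArg Subtype.val h) none
  have h2 : (Rv 0 (by norm_num) : leechLattice).1 none = 4 := by decide +kernel
  have h3 : (-(Rv 0 (by norm_num) : leechLattice)).1 none = -4 := by
    show -((Rv 0 (by norm_num) : leechLattice).1 none) = -4
    rw [h2]
  rw [h2, h3] at h1
  norm_num at h1

/-- an element of the centraliser of the sign change that fixes the eight test roots fixes all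
vectors supported on the octad -/
theorem fix_of_roots {g : ↥Co0} (hg : g ∈ Ct) (h : ∀ j (hj : j < 8), g.1 (Rv j hj) = Rv j hj)
    (v : leechLattice) (hv : InO v) : g.1 v = v := by
  have hq : (⟨g, hg⟩ : ↥Ct) ∈ Qt := by
    apply mem_Qt_of_roots ⟨g, hg⟩ 1 (Or.inl rfl)
    intro j hj
    rw [one_smul]
    exact h j hj
  rcases (mem_Qt _).mp hq with h1 | h1
  · exact h1 v hv
  · exfalso
    have h2 := h1 (Rv 0 (by norm_num)) (Rv_inO 0 (by norm_num))
    have h3 : g.1 (Rv 0 (by norm_num)) = -(Rv 0 (by norm_num)) := h2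
    rw [h 0 (by norm_num)] at h3
    exact Rv_zero_ne h3

/-- a word that fixes the codes of the eight test roots -/
theorem fixR_sound {L : List ℕ} (h1 : commT L = true) (h2 : fixR L = true) (v : leechLattice)
    (hv : InO v) : (W L).1 v = v := by
  apply fix_of_roots (commT_sound h1) _ v hv
  intro j hj
  have hm : JSecD.rootC.getD j 0 ∈ JSecD.rootC := by
    rw [List.getD_eq_getElem _ _ (by show j < 8; exact hj)]
    exact List.getElem_mem _
  have hr := List.all_eq_true.mp h2 _ hm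
  rw [decide_eq_true_eq] at hr
  apply Subtype.ext
  rw [W_run hr (Rv j hj) (Rv_val j hj), Rv_val]

/-! ### the eight vectors `a^k u_i` -/

/-- the vectors `a^k u_1`, `a^k u_2` (`k < 4`) -/
noncomputable def wv : ℕ → leechLattice
  | 0 => u1
  | 1 => a.1 u1
  | 2 => a.1 (a.1 u1)
  | 3 => a.1 (a.1 (a.1 u1))
  | 4 => u2
  | 5 => a.1 u2
  | 6 => a.1 (a.1 u2)
  | _ => a.1 (a.1 (a.1 u2))

theorem wv_code : ∀ m, m < 8 → (wv m).1 = vecN (WC.getD m 0) := by
  obtain ⟨w1, w2, w3, w5, w6, w7⟩ := WC_spec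
  have hw0 : WC.getD 0 0 = u1c := by decide +kernel
  have hw4 : WC.getD 4 0 = u2c := by decide +kernel
  intro m hm
  interval_cases m
  · rw [hw0]; rfl
  · exact w1
  · exact w2
  · exact w3
  · rw [hw4]; rfl
  · exact w5
  · exact w6
  · exact w7

theorem wv_fix {g : ↥Co0} (hg : g ∈ DD) (h1 : g.1 u1 = u1) (h2 : g.1 u2 = u2) :
    ∀ m, m < 8 → g.1 (wv m) = wv m := by
  intro m hm
  interval_cases m
  · exact h1
  · show g.1 (a.1 u1) = a.1 u1
    rw [DD_comm hg, h1]
  · show g.1 (a.1 (a.1 u1)) = a.1 (a.1 u1)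
    rw [DD_comm hg, DD_comm hg, h1]
  · show g.1 (a.1 (a.1 (a.1 u1))) = a.1 (a.1 (a.1 u1))
    rw [DD_comm hg, DD_comm hg, DD_comm hg, h1]
  · exact h2
  · show g.1 (a.1 u2) = a.1 u2
    rw [DD_comm hg, h2]
  · show g.1 (a.1 (a.1 u2)) = a.1 (a.1 u2)
    rw [DD_comm hg, DD_comm hg, h2]
  · show g.1 (a.1 (a.1 (a.1 u2))) = a.1 (a.1 (a.1 u2))
    rw [DD_comm hg, DD_comm hg, DD_comm hg, h2]

/-- an element of `DD` that fixes the two base roots fixes all vectors supported on the octad -/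
theorem fix_all {g : ↥Co0} (hg : g ∈ DD) (h1 : g.1 u1 = u1) (h2 : g.1 u2 = u2)
    (v : leechLattice) (hv : InO v) : g.1 v = v := by
  have hC : g ∈ Ct := ((mem_DD g).mp hg).2
  apply fix_of_roots hC _ v hv
  intro j hj
  obtain ⟨e, he, hr⟩ := root_image hC (Rv j hj) (Rv_inO j hj) (by rw [Rv_val]; exact Rv_sq j hj)
  have hu := List.all_eq_true.mp (List.all_eq_true.mp uniq_ok j (List.mem_range.mpr hj)) e he
  rw [Bool.or_eq_true, Bool.not_eq_true', ← Bool.not_eq_true] at hu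
  have hall : ((List.range 8).all fun m =>
      sameDot e.1 (JSecD.rootC.getD j 0) (WC.getD m 0)) = true := by
    rw [List.all_eq_true]
    intro m hm
    have hm8 : m < 8 := List.mem_range.mp hm
    apply sameDot_of
    rw [← dotInt_vecN, ← dotInt_vecN, ← hr, ← wv_code m hm8, ← Rv_val j hj]
    conv_lhs => rw [← wv_fix hg h1 h2 m hm8]
    exact dot_g _ _
  rcases hu with hu | hu
  · exact absurd hall hu
  · have hc : e.1 = JSecD.rootC.getD j 0 := Nat.eq_of_beq_eq_true hu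
    apply Subtype.ext
    rw [hr, hc, Rv_val]

/-! ### the pointwise stabiliser -/

/-- the elements of `DD` fixing the vectors supported on the octad -/
def SS : Subgroup ↥Co0 where
  carrier := {g | g ∈ DD ∧ ∀ v : leechLattice, InO v → g.1 v = v}
  one_mem' := ⟨DD.one_mem, fun v _ => rfl⟩
  mul_mem' := by
    rintro x y ⟨hx, fx⟩ ⟨hy, fy⟩
    refine ⟨DD.mul_mem hx hy, fun v hv => ?_⟩
    show x.1 (y.1 v) = v
    rw [fy v hv, fx v hv]
  inv_mem' := by
    rintro x ⟨hx, fx⟩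
    refine ⟨DD.inv_mem hx, fun v hv => ?_⟩
    show x.1.symm v = v
    rw [Equiv.symm_apply_eq, fx v hv]

theorem mem_SS (g : ↥Co0) : g ∈ SS ↔ g ∈ DD ∧ ∀ v : leechLattice, InO v → g.1 v = v := Iff.rfl

theorem SS_le_DD : SS ≤ DD := fun _ h => h.1

theorem mem_SS_of_fix {g : ↥Co0} (hg : g ∈ DD) (h1 : g.1 u1 = u1) (h2 : g.1 u2 = u2) : g ∈ SS :=
  ⟨hg, fix_all hg h1 h2⟩

/-- the words of the stabiliser -/
theorem sw_mem (i : ℕ) (hi : i < 32) : W (sw i) ∈ SS := by
  have h := SW_mem i hi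
  unfold swOK at h
  simp only [Bool.and_eq_true] at h
  exact ⟨W_mem_DD h.1.1 h.1.2, fixR_sound h.1.2 h.2⟩

theorem sw_inj (i j : ℕ) (hi : i < 32) (hj : j < 32) (h : W (sw i) = W (sw j)) : i = j := by
  by_contra hne
  rcases Nat.lt_or_gt_of_ne hne with hlt | hlt
  · have h1 := List.all_eq_true.mp (List.all_eq_true.mp SW_ne j (List.mem_range.mpr hj)) i
      (List.mem_range.mpr hlt)
    rw [Bool.or_eq_true] at h1
    rcases h1 with h1 | h1
    · exact W_ne h1 h.symm
    · exact W_ne h1 h.symm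
  · have h1 := List.all_eq_true.mp (List.all_eq_true.mp SW_ne i (List.mem_range.mpr hi)) j
      (List.mem_range.mpr hlt)
    rw [Bool.or_eq_true] at h1
    rcases h1 with h1 | h1
    · exact W_ne h1 h
    · exact W_ne h1 h

/-- the elements of the stabiliser lie in `HH` -/
theorem sw_mem_HH : ∀ i, i < 32 → W (sw i) ∈ HH := by
  intro i
  induction i using Nat.strong_induction_on with
  | _ i ih =>
    intro hi
    by_cases h0 : i = 0
    · subst h0
      rw [SW_zero]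
      exact HH.one_mem
    · have h := SW_gen i hi
      unfold swGen at h
      rw [Bool.or_eq_true, decide_eq_true_eq] at h
      rcases h with h | h
      · exact absurd h h0
      · rw [Bool.and_eq_true, decide_eq_true_eq] at h
        rw [W_eq h.2, W_append]
        exact HH.mul_mem (ih _ h.1 (by omega)) (gensK_mem _)

/-! ### the transversal -/

theorem tw_mem (i : ℕ) (hi : i < 16) : W (tw i) ∈ Ct ∧
    (∀ v : leechLattice, InO v → (W (tw i)).1 v = v) ∧ (W (tw i))⁻¹ = W (twi i) := by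
  have h := List.all_eq_true.mp TW_mem i (List.mem_range.mpr hi)
  simp only [Bool.and_eq_true] at h
  refine ⟨commT_sound h.1.1, fixR_sound h.1.1 h.1.2, ?_⟩
  have h3 := W_eq h.2
  rw [W_append] at h3
  exact inv_eq_of_mul_eq_one_right h3

theorem tw_ne (i j : ℕ) (hi : i < 16) (hji : j < i) : W (tw i) * (W (tw j))⁻¹ ∉ SS := by
  intro hS
  have h : wne LT ((tw i ++ twi j) ++ aW) (aW ++ (tw i ++ twi j)) ((TWIT.getD i []).getD j 0)
      = true :=
    List.all_eq_true.mp (List.all_eq_true.mp TW_ne i (List.mem_range.mpr hi)) j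
      (List.mem_range.mpr hji)
  have hne : W ((tw i ++ twi j) ++ aW) ≠ W (aW ++ (tw i ++ twi j)) := W_ne h
  apply hne
  rw [W_append, W_append, W_append, W_append]
  rw [(tw_mem j (by omega)).2.2] at hS
  have hc : W (tw i) * W (twi j) * a = a * (W (tw i) * W (twi j)) := ((mem_DD _).mp hS.1).1
  rw [a_def] at hc
  exact hc

theorem card_SS_le : Nat.card ↥SS ≤ 32 := by
  apply Cfsg.Agent.Lib.Helper8.J2SKBOUND.stab_card_le SS
    (fun g hg => ⟨((mem_DD g).mp hg.1).2, hg.2⟩) (fun i : Fin 16 => W (tw i.1))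
    (fun i => ⟨(tw_mem i.1 i.2).1, (tw_mem i.1 i.2).2.1⟩)
  intro i j hS
  by_contra hne
  have hne' : i.1 ≠ j.1 := fun h => hne (Fin.ext h)
  rcases Nat.lt_or_gt_of_ne hne' with hlt | hlt
  · have h2 := SS.inv_mem hS
    rw [mul_inv_rev, inv_inv] at h2
    exact tw_ne j.1 i.1 j.2 hlt h2
  · exact tw_ne i.1 j.1 i.2 hlt hS

theorem card_SS : Nat.card ↥SS = 32 := by
  apply le_antisymm card_SS_le
  have : Finite ↥Co0 := finite_Co0
  have hinj : Function.Injective (fun i : Fin 32 => (⟨W (sw i.1), sw_mem i.1 i.2⟩ : ↥SS)) := by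
    intro i j h
    exact Fin.ext (sw_inj i.1 j.1 i.2 j.2 (congrArg Subtype.val h))
  have := Nat.card_le_card_of_injective _ hinj
  simpa using this

/-- the elements of the stabiliser are the 32 words -/
theorem SS_elems (g : ↥Co0) (hg : g ∈ SS) : ∃ i, i < 32 ∧ g = W (sw i) := by
  have : Finite ↥Co0 := finite_Co0
  have hinj : Function.Injective (fun i : Fin 32 => (⟨W (sw i.1), sw_mem i.1 i.2⟩ : ↥SS)) := by
    intro i j h
    exact Fin.ext (sw_inj i.1 j.1 i.2 j.2 (congrArg Subtype.val h))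
  have hb : Function.Bijective (fun i : Fin 32 => (⟨W (sw i.1), sw_mem i.1 i.2⟩ : ↥SS)) := by
    apply hinj.bijective_of_nat_card_le
    rw [card_SS]
    simp
  obtain ⟨i, hi⟩ := hb.2 ⟨g, hg⟩
  exact ⟨i.1, i.2, (congrArg Subtype.val hi).symm⟩

theorem SS_le_HH : SS ≤ HH := by
  intro g hg
  obtain ⟨i, hi, rfl⟩ := SS_elems g hg
  exact sw_mem_HH i hi

end Cfsg.Agent.Lib.Helper9.JSecG
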