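import Cfsg.Agent.Lib.Helper9.JSecG

set_option autoImplicit false
set_option maxRecDepth 1000000

/-! S5403: the group `DD = C(a) ∩ C(e0)` has order `19200 = 600 * 32` and is generated by `a` and seven
commutators. -/

namespace Cfsg.Agent.Lib.Helper9.JSecH

open scoped Pointwise
open Cfsg Finset Cfsg.Agent.Lib.Helper4.Leech Cfsg.Agent.Lib.Helper9.LeechC7
  Cfsg.Agent.Lib.Helper9.LeechM1 Cfsg.Agent.Lib.Helper9.LeechM2 Cfsg.Agent.Lib.Helper9.LeechM4
  Cfsg.Agent.Lib.Helper9.LeechX4 Cfsg.Agent.Lib.Helper9.LeechX7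
  Cfsg.Agent.Lib.Helper9.M24T8 Cfsg.Agent.Lib.Helper9.M24T3 Cfsg.Agent.Lib.Helper9.M24U1
  Cfsg.Agent.Lib.Helper9.M24T1 Cfsg.Agent.Lib.Helper9.GolayQR1
  Cfsg.Agent.Lib.Helper9.OrbCert1 Cfsg.Agent.Lib.Helper9.OrbCert3
  Cfsg.Agent.Lib.Helper9.Co1a Cfsg.Agent.Lib.Helper9.Co1b
  Cfsg.Agent.Lib.Helper9.JSecA Cfsg.Agent.Lib.Helper9.JSecB Cfsg.Agent.Lib.Helper9.JSecC
  Cfsg.Agent.Lib.Helper9.JSecD Cfsg.Agent.Lib.Helper9.JSecD2 Cfsg.Agent.Lib.Helper9.JSecD3
  Cfsg.Agent.Lib.Helper9.JSecD4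
  Cfsg.Agent.Lib.Helper9.JSecE Cfsg.Agent.Lib.Helper9.JSecF Cfsg.Agent.Lib.Helper9.JSecG

theorem vecN_inj {c c' : ℕ} (hc : c < 79228162514264337593543950336)
    (hc' : c' < 79228162514264337593543950336) (h : vecN c = vecN c') : c = c' :=
  code_inj _ _ hc hc' (fun k hk => by rw [← vecN_unidx _ k hk, ← vecN_unidx _ k hk, h])

theorem nodupB_sound : ∀ l : List ℕ, nodupB l = true → l.Nodup := by
  intro l
  induction l with
  | nil => intro _; exact List.nodup_nil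
  | cons p l ih =>
    intro h
    unfold nodupB at h
    rw [Bool.and_eq_true, List.all_eq_true] at h
    rw [List.nodup_cons]
    refine ⟨fun hp => ?_, ih h.2⟩
    have := h.1 p hp
    rw [Nat.beq_refl] at this
    exact absurd this (by decide)

/-- a map into the coded vectors whose values lie in a list `U` of codes and take all the values of a
list `L` of distinct codes of the same length: its range is the set of the vectors of `L` -/
theorem range_codes {G : Type*} [Finite G] (f : G → (GolayPt → ℤ)) (L U : List ℕ)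
    (hlt : L.all (fun p => decide (p < 79228162514264337593543950336)) = true)
    (hnd : nodupB L = true) (hsub : ∀ g, ∃ c ∈ U, f g = vecN c) (hU : U.length = L.length)
    (hreach : ∀ c ∈ L, ∃ g, f g = vecN c) :
    (∀ g, ∃ c ∈ L, f g = vecN c) ∧ (Set.range f).ncard = L.length := by
  classical
  have hfin : (Set.range f).Finite := Set.finite_range f
  have hinj : ∀ x ∈ L, ∀ y ∈ L, vecN x = vecN y → x = y := by
    intro x hx y hy h
    have bx := List.all_eq_true.mp hlt x hx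
    have by' := List.all_eq_true.mp hlt y hy
    rw [decide_eq_true_eq] at bx by'
    exact vecN_inj bx by' h
  have hcard : ((L.map vecN).toFinset).card = L.length := by
    rw [List.toFinset_card_of_nodup (List.Nodup.map_on hinj (nodupB_sound L hnd)), List.length_map]
  have hsubL : (↑((L.map vecN).toFinset) : Set (GolayPt → ℤ)) ⊆ Set.range f := by
    intro x hx
    rw [Finset.mem_coe, List.mem_toFinset, List.mem_map] at hx
    obtain ⟨c, hc, rfl⟩ := hx
    obtain ⟨g, hg⟩ := hreach c hc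
    exact ⟨g, hg⟩
  have hle : (Set.range f).ncard ≤ L.length := by
    have h1 : Set.range f ⊆ vecN '' {c | c ∈ U} := by
      rintro _ ⟨g, rfl⟩
      obtain ⟨c, hc, h⟩ := hsub g
      exact ⟨c, hc, h.symm⟩
    have hUfin : ({c | c ∈ U} : Set ℕ).Finite := List.finite_toSet U
    have h2 := Set.ncard_le_ncard h1 (hUfin.image vecN)
    have h3 := Set.ncard_image_le (f := vecN) hUfin
    have h4 : ({c | c ∈ U} : Set ℕ).ncard ≤ U.length := by
      have : ({c | c ∈ U} : Set ℕ) = ↑U.toFinset := by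
        ext p
        simp
      rw [this, Set.ncard_coe_finset]
      exact List.toFinset_card_le U
    omega
  have heq : (↑((L.map vecN).toFinset) : Set (GolayPt → ℤ)) = Set.range f := by
    apply Set.eq_of_subset_of_ncard_le hsubL _ hfin
    rw [Set.ncard_coe_finset, hcard]
    exact hle
  refine ⟨fun g => ?_, ?_⟩
  · have hg : f g ∈ (↑((L.map vecN).toFinset) : Set (GolayPt → ℤ)) := by
      rw [heq]
      exact ⟨g, rfl⟩
    rw [Finset.mem_coe, List.mem_toFinset, List.mem_map] at hg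
    obtain ⟨c, hc, h⟩ := hg
    exact ⟨c, hc, h.symm⟩
  · rw [← heq, Set.ncard_coe_finset, hcard]

theorem finite_DD : Finite ↥DD := by
  have : Finite ↥Co0 := finite_Co0
  infer_instance

/-! ### the first stage: the images of the first base root -/

/-- the stabiliser of the first base root -/
def S1 : Subgroup ↥Co0 where
  carrier := {g | g ∈ DD ∧ g.1 u1 = u1}
  one_mem' := ⟨DD.one_mem, rfl⟩
  mul_mem' := by
    rintro x y ⟨hx, fx⟩ ⟨hy, fy⟩
    refine ⟨DD.mul_mem hx hy, ?_⟩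
    show x.1 (y.1 u1) = u1
    rw [fy, fx]
  inv_mem' := by
    rintro x ⟨hx, fx⟩
    refine ⟨DD.inv_mem hx, ?_⟩
    show x.1.symm u1 = u1
    rw [Equiv.symm_apply_eq, fx]

theorem S1_le_DD : S1 ≤ DD := fun _ h => h.1

theorem SS_le_S1 : SS ≤ S1 := fun _ h => ⟨h.1, h.2 u1 u1_inO⟩

/-- the image of the first base root -/
noncomputable def f1 (g : ↥DD) : GolayPt → ℤ := (g.1.1 u1).1

theorem f1_eq_iff (g h : ↥DD) : f1 g = f1 h ↔ g⁻¹ * h ∈ S1.subgroupOf DD := by
  rw [Subgroup.mem_subgroupOf]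
  constructor
  · intro he
    have h1 : g.1.1 u1 = h.1.1 u1 := Subtype.ext he
    refine ⟨DD.mul_mem (DD.inv_mem g.2) h.2, ?_⟩
    show g.1.1.symm (h.1.1 u1) = u1
    rw [← h1, Equiv.symm_apply_apply]
  · intro hS
    have h4 : g.1.1.symm (h.1.1 u1) = u1 := hS.2
    rw [Equiv.symm_apply_eq] at h4
    show (g.1.1 u1).1 = (h.1.1 u1).1
    rw [h4]

theorem mem_getD {L : List ℕ} {c : ℕ} (hc : c ∈ L) : ∃ j, j < L.length ∧ L.getD j 0 = c := by
  obtain ⟨j, hj, rfl⟩ := List.mem_iff_getElem.mp hc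
  exact ⟨j, hj, List.getD_eq_getElem _ _ hj⟩

theorem stage1 : (∀ g : ↥DD, ∃ c ∈ OL, f1 g = vecN c) ∧ (Set.range f1).ncard = 120 := by
  have : Finite ↥DD := finite_DD
  have h := range_codes f1 OL ((RT.filter selfOK).map Prod.fst) OL_lt OL_nodup ?_ ?_ ?_
  · rw [OL_length] at h
    exact h
  · intro g
    obtain ⟨e, he, hs, h1⟩ := self_cond g.2
    exact ⟨e.1, List.mem_map.mpr ⟨e, List.mem_filter.mpr ⟨he, hs⟩, rfl⟩, h1⟩
  · rw [List.length_map, RT_self, OL_length]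
  · intro c hc
    obtain ⟨j, hj, rfl⟩ := mem_getD hc
    rw [OL_length] at hj
    obtain ⟨h, hh, e1⟩ := reach j hj
    exact ⟨⟨h, HH_le_DD hh⟩, e1⟩

/-! ### the second stage: the images of the second base root under the stabiliser of the first -/

/-- the image of the second base root -/
noncomputable def f2 (g : ↥S1) : GolayPt → ℤ := (g.1.1 u2).1

theorem f2_eq_iff (g h : ↥S1) : f2 g = f2 h ↔ g⁻¹ * h ∈ SS.subgroupOf S1 := by
  rw [Subgroup.mem_subgroupOf]
  constructor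
  · intro he
    have h2 : g.1.1 u2 = h.1.1 u2 := Subtype.ext he
    have hm : (g⁻¹ * h).1 ∈ S1 := (g⁻¹ * h).2
    apply mem_SS_of_fix hm.1 hm.2
    show g.1.1.symm (h.1.1 u2) = u2
    rw [← h2, Equiv.symm_apply_apply]
  · intro hS
    have h3 := hS.2 u2 u2_inO
    have h4 : g.1.1.symm (h.1.1 u2) = u2 := h3
    rw [Equiv.symm_apply_eq] at h4
    show (g.1.1 u2).1 = (h.1.1 u2).1
    rw [h4]

theorem stage2 : (∀ g : ↥S1, ∃ c ∈ FL, f2 g = vecN c) ∧ (Set.range f2).ncard = 5 := by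
  have : Finite ↥Co0 := finite_Co0
  have h := range_codes f2 FL ((RT.filter crossOK).map Prod.fst) FL_lt FL_nodup ?_ ?_ ?_
  · rw [FL_length] at h
    exact h
  · intro g
    obtain ⟨e, he, hs, h1⟩ := cross_cond g.2.1 g.2.2
    exact ⟨e.1, List.mem_map.mpr ⟨e, List.mem_filter.mpr ⟨he, hs⟩, rfl⟩, h1⟩
  · rw [List.length_map, RT_cross, FL_length]
  · intro c hc
    obtain ⟨m, hm, rfl⟩ := mem_getD hc
    rw [FL_length] at hm
    obtain ⟨h, hh, e1, e2⟩ := fibre m hm
    exact ⟨⟨h, HH_le_DD hh, e1⟩, e2⟩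

/-! ### the order -/

theorem card_S1 : Nat.card ↥S1 = 160 := by
  have : Finite ↥Co0 := finite_Co0
  have hS : Nat.card ↥(SS.subgroupOf S1) = 32 := by
    rw [Nat.card_congr (Subgroup.subgroupOfEquivOfLe SS_le_S1).toEquiv, card_SS]
  exact Cfsg.Agent.Lib.Helper8.J2SKBOUND.card_eq_of_fibres f2 (SS.subgroupOf S1) f2_eq_iff 5 32
    stage2.2 hS

/-- the order of the centraliser of `a` and the sign change -/
theorem card_DD : Nat.card ↥DD = 19200 := by
  have : Finite ↥DD := finite_DD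
  have hS : Nat.card ↥(S1.subgroupOf DD) = 160 := by
    rw [Nat.card_congr (Subgroup.subgroupOfEquivOfLe S1_le_DD).toEquiv, card_S1]
  exact Cfsg.Agent.Lib.Helper8.J2SKBOUND.card_eq_of_fibres f1 (S1.subgroupOf DD) f1_eq_iff 120 160
    stage1.2 hS

/-- the group is generated by `a` and the seven commutators -/
theorem DD_le_HH : DD ≤ HH := by
  intro g hg
  -- first stage
  obtain ⟨c, hc, h1⟩ := stage1.1 ⟨g, hg⟩
  obtain ⟨j, hj, rfl⟩ := mem_getD hc
  rw [OL_length] at hj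
  obtain ⟨k1, hk1, e1⟩ := reach j hj
  have he1 : f1 ⟨k1, HH_le_DD hk1⟩ = f1 ⟨g, hg⟩ := by rw [h1]; exact e1
  have hS1 := (f1_eq_iff _ _).mp he1
  rw [Subgroup.mem_subgroupOf] at hS1
  have hg1 : k1⁻¹ * g ∈ S1 := hS1
  -- second stage
  obtain ⟨c2, hc2, h2⟩ := stage2.1 ⟨k1⁻¹ * g, hg1⟩
  obtain ⟨m, hm, rfl⟩ := mem_getD hc2
  rw [FL_length] at hm
  obtain ⟨k2, hk2, e21, e22⟩ := fibre m hm
  have hk2S : k2 ∈ S1 := ⟨HH_le_DD hk2, e21⟩
  have he2 : f2 ⟨k2, hk2S⟩ = f2 ⟨k1⁻¹ * g, hg1⟩ := by rw [h2]; exact e22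
  have hS2 := (f2_eq_iff _ _).mp he2
  rw [Subgroup.mem_subgroupOf] at hS2
  have hg2 : k2⁻¹ * (k1⁻¹ * g) ∈ SS := hS2
  have : g = k1 * (k2 * (k2⁻¹ * (k1⁻¹ * g))) := by group
  rw [this]
  exact HH.mul_mem hk1 (HH.mul_mem hk2 (SS_le_HH hg2))

theorem DD_eq_HH : DD = HH := le_antisymm DD_le_HH HH_le_DD

end Cfsg.Agent.Lib.Helper9.JSecH
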