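import Cfsg.Agent.Lib.Helper9.JSecH
import Cfsg.Agent.Lib.Helper9.JSecD5
import Cfsg.Agent.Lib.Helper8.J2SNSTR

set_option autoImplicit false
set_option maxRecDepth 1000000

/-! S5403: the centraliser `C` of `a`, its central subgroup `N = ⟨a, -1⟩`, the involution `t`, the
subgroup `Q2` of order 64 of the centraliser of `t`. -/

namespace Cfsg.Agent.Lib.Helper9.JSecI

open scoped Pointwise
open Cfsg Finset Cfsg.Agent.Lib.Helper4.Leech Cfsg.Agent.Lib.Helper9.LeechC7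
  Cfsg.Agent.Lib.Helper9.LeechM1 Cfsg.Agent.Lib.Helper9.LeechM2 Cfsg.Agent.Lib.Helper9.LeechM4
  Cfsg.Agent.Lib.Helper9.LeechX4 Cfsg.Agent.Lib.Helper9.LeechX7
  Cfsg.Agent.Lib.Helper9.M24T8 Cfsg.Agent.Lib.Helper9.M24T3 Cfsg.Agent.Lib.Helper9.M24U1
  Cfsg.Agent.Lib.Helper9.M24T1 Cfsg.Agent.Lib.Helper9.GolayQR1
  Cfsg.Agent.Lib.Helper9.OrbCert1 Cfsg.Agent.Lib.Helper9.OrbCert3
  Cfsg.Agent.Lib.Helper9.Co1a Cfsg.Agent.Lib.Helper9.Co1b
  Cfsg.Agent.Lib.Helper9.Co1e Cfsg.Agent.Lib.Helper9.Co1f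
  Cfsg.Agent.Lib.Helper9.JSecA Cfsg.Agent.Lib.Helper9.JSecB Cfsg.Agent.Lib.Helper9.JSecC
  Cfsg.Agent.Lib.Helper9.JSecD Cfsg.Agent.Lib.Helper9.JSecD4 Cfsg.Agent.Lib.Helper9.JSecD5
  Cfsg.Agent.Lib.Helper9.JSecE Cfsg.Agent.Lib.Helper9.JSecF Cfsg.Agent.Lib.Helper9.JSecG
  Cfsg.Agent.Lib.Helper9.JSecH
  Cfsg.Agent.Lib.Helper8.J2SNSTR
open Cfsg.Agent.Lib.Helper9.Co1c (Qt mem_Qt Qt_normal inO_neg)

noncomputable section

theorem pow_four_eq {G : Type*} [Group G] (x : G) : x ^ 4 = (x * x) * (x * x) := by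
  rw [show (4 : ℕ) = 2 + 2 from rfl, pow_add, pow_two]

/-- the centraliser of `a` -/
abbrev C : Type := ↥(CA a)

/-- the subgroup `⟨a, -1⟩` -/
abbrev N : Subgroup C := NA a

instance N_normal : N.Normal := NA_normal a

theorem e0_mem : e0 ∈ CA a := by
  rw [Cfsg.Agent.Lib.Helper8.J2SNSTR.mem_CA]
  exact (mem_Ct a).mp a_mem_Ct

theorem negOne_mem : negOne ∈ CA a := by
  rw [Cfsg.Agent.Lib.Helper8.J2SNSTR.mem_CA]
  exact (Subgroup.mem_center_iff.mp negOne_mem_center a).symm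

/-- the involution -/
def t : C := ⟨e0, e0_mem⟩

/-- minus the identity -/
def n : C := ⟨negOne, negOne_mem⟩

theorem negOne_ne_one : negOne ≠ 1 := by
  intro h
  apply nC_ne_one
  apply Subtype.ext
  rw [nC_val, h]
  rfl

theorem n_mem : n ∈ N := by
  rw [mem_NA a a_pow_five]
  exact ⟨0, by norm_num, Or.inr (by rw [pow_zero, one_mul]; rfl)⟩

theorem n_ne_one : n ≠ 1 := fun h => negOne_ne_one (congrArg Subtype.val h)

theorem t_sq : t * t = 1 := Subtype.ext Cfsg.Agent.Lib.Helper9.Co1g.e0_sq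

theorem t_notMem : t ∉ N := e0_notMem_NA a a_pow_five e0_mem

theorem t_conj : ∀ g : C, ∀ c ∈ N, g * t * g⁻¹ = c * t → c = 1 :=
  fun g c hc h => conj_e0 a a_pow_five e0_mem g c hc h

/-- the centraliser of `t` -/
abbrev Dt : Subgroup C := Subgroup.centralizer ({t} : Set C)

theorem mem_Dt (x : C) : x ∈ Dt ↔ x.1 ∈ DD := by
  rw [Subgroup.mem_centralizer_iff, mem_DD]
  constructor
  · intro h
    refine ⟨(Cfsg.Agent.Lib.Helper8.J2SNSTR.mem_CA a x.1).mp x.2, ?_⟩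
    rw [mem_Ct]
    exact congrArg Subtype.val (h t rfl)
  · rintro ⟨-, h⟩ y hy
    rw [Set.mem_singleton_iff] at hy
    subst hy
    exact Subtype.ext ((mem_Ct x.1).mp h)

theorem card_Dt : Nat.card ↥Dt = 19200 := by
  have h := card_centralizer_e0 a e0_mem
  have h2 : Nat.card ↥(CA a ⊓ Ct) = 19200 := card_DD
  rw [h2] at h
  exact h

/-! ### the subgroup `Q2` -/

/-- the elements of `C` that commute with `t` and act as a sign on the vectors supported on the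
octad -/
def Q2 : Subgroup C := (Qt.map (Subgroup.subtype Ct)).comap (Subgroup.subtype (CA a))

theorem mem_Q2 (x : C) : x ∈ Q2 ↔ ∃ q : ↥Ct, q ∈ Qt ∧ q.1 = x.1 := by
  unfold Q2
  rw [Subgroup.mem_comap, Subgroup.mem_map]
  constructor
  · rintro ⟨q, hq, h⟩
    exact ⟨q, hq, h⟩
  · rintro ⟨q, hq, h⟩
    exact ⟨q, hq, h⟩

theorem Q2_mem_Ct {x : C} (hx : x ∈ Q2) : x.1 ∈ Ct := by
  obtain ⟨q, -, h⟩ := (mem_Q2 x).mp hx
  rw [← h]
  exact q.2

theorem mem_Q2' (x : C) : x ∈ Q2 ↔ ∃ h : x.1 ∈ Ct, (⟨x.1, h⟩ : ↥Ct) ∈ Qt := by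
  rw [mem_Q2]
  constructor
  · rintro ⟨q, hq, h⟩
    have hC : x.1 ∈ Ct := by rw [← h]; exact q.2
    refine ⟨hC, ?_⟩
    have : q = ⟨x.1, hC⟩ := Subtype.ext h
    rw [← this]
    exact hq
  · rintro ⟨h, hq⟩
    exact ⟨⟨x.1, h⟩, hq, rfl⟩

theorem Q2_le_Dt : Q2 ≤ Dt := by
  intro x hx
  rw [mem_Dt, mem_DD]
  exact ⟨(Cfsg.Agent.Lib.Helper8.J2SNSTR.mem_CA a x.1).mp x.2, Q2_mem_Ct hx⟩

theorem Q2_conj : ∀ g ∈ Dt, ∀ q ∈ Q2, g * q * g⁻¹ ∈ Q2 := by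
  intro g hg q hq
  have hgC : g.1 ∈ Ct := ((mem_DD _).mp ((mem_Dt g).mp hg)).2
  obtain ⟨hqC, hqQ⟩ := (mem_Q2' q).mp hq
  rw [mem_Q2]
  refine ⟨(⟨g.1, hgC⟩ : ↥Ct) * ⟨q.1, hqC⟩ * (⟨g.1, hgC⟩ : ↥Ct)⁻¹,
    Qt_normal.conj_mem _ hqQ _, rfl⟩

theorem n_mem_Q2 : n ∈ Q2 := by
  rw [mem_Q2]
  exact ⟨nC, nC_mem, nC_val⟩

theorem dC_mem_CA : dC.1 ∈ CA a := by
  rw [Cfsg.Agent.Lib.Helper8.J2SNSTR.mem_CA]
  have h := dC_central ⟨a, a_mem_Ct⟩
  exact (congrArg Subtype.val h).symm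

/-- the sign change on the complement of the octad -/
def d : C := ⟨dC.1, dC_mem_CA⟩

theorem d_mem_Q2 : d ∈ Q2 := by
  rw [mem_Q2]
  exact ⟨dC, dC_mem, rfl⟩

theorem d_ne_one : d ≠ 1 := by
  intro h
  apply dC_ne_one
  apply Subtype.ext
  have h1 : d.1 = (1 : C).1 := congrArg Subtype.val h
  exact h1

theorem d_ne_n : d ≠ n := by
  intro h
  apply dC_ne_nC
  apply Subtype.ext
  rw [nC_val]
  have h1 : d.1 = n.1 := congrArg Subtype.val h
  exact h1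

theorem d_comm : ∀ x ∈ Q2, x * d = d * x := by
  intro x hx
  obtain ⟨hC, -⟩ := (mem_Q2' x).mp hx
  apply Subtype.ext
  have h := dC_central ⟨x.1, hC⟩
  have h1 := congrArg Subtype.val h
  exact h1

theorem Q2_comm : ∀ x ∈ Q2, ∀ y ∈ Q2, x * y = y * x ∨ x * y = d * (y * x) := by
  intro x hx y hy
  obtain ⟨hxC, hxQ⟩ := (mem_Q2' x).mp hx
  obtain ⟨hyC, hyQ⟩ := (mem_Q2' y).mp hy
  rcases Qt_comm _ _ hxQ hyQ with h | h
  · left
    apply Subtype.ext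
    exact congrArg (fun z : ↥Ct => z.1) h
  · right
    apply Subtype.ext
    exact congrArg (fun z : ↥Ct => z.1) h

theorem Q2_sq : ∀ x ∈ Q2, x * x = 1 ∨ x * x = d := by
  intro x hx
  obtain ⟨hxC, hxQ⟩ := (mem_Q2' x).mp hx
  rcases Qt_sq _ hxQ with h | h
  · left
    apply Subtype.ext
    exact congrArg (fun z : ↥Ct => z.1) h
  · right
    apply Subtype.ext
    exact congrArg (fun z : ↥Ct => z.1) h

theorem d_sq : d * d = 1 := by
  apply Subtype.ext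
  exact congrArg (fun z : ↥Ct => z.1) dC_sq

theorem Q2_inter_N : ∀ x ∈ Q2, x ∈ N → x = 1 ∨ x = n := by
  intro x hx hN
  have h4 : x ^ 4 = 1 := by
    rw [pow_four_eq]
    rcases Q2_sq x hx with h | h
    · rw [h, one_mul]
    · rw [h, d_sq]
  rcases NA_pow_four a a_pow_five x hN h4 with h | h
  · left
    exact Subtype.ext h
  · right
    exact Subtype.ext h

/-! ### the elements of `Q2` -/

/-- the pointwise stabiliser inside `C` -/
def SC : Subgroup C := SS.subgroupOf (CA a)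

theorem mem_SC (x : C) : x ∈ SC ↔ x.1 ∈ SS := Subgroup.mem_subgroupOf

theorem SS_le_CA : SS ≤ CA a := fun g hg => by
  rw [Cfsg.Agent.Lib.Helper8.J2SNSTR.mem_CA]
  exact ((mem_DD g).mp hg.1).1

theorem card_SC : Nat.card ↥SC = 32 := by
  unfold SC
  rw [Nat.card_congr (Subgroup.subgroupOfEquivOfLe SS_le_CA).toEquiv, card_SS]

theorem SC_le_Q2 : SC ≤ Q2 := by
  intro x hx
  have hS := (mem_SC x).mp hx
  have hC : x.1 ∈ Ct := ((mem_DD _).mp hS.1).2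
  rw [mem_Q2']
  exact ⟨hC, Or.inl hS.2⟩

/-- an element of `Q2` is in the pointwise stabiliser, or its negative is -/
theorem Q2_cases (x : C) (hx : x ∈ Q2) : x ∈ SC ∨ n * x ∈ SC := by
  obtain ⟨hC, hQ⟩ := (mem_Q2' x).mp hx
  have hD : x.1 ∈ DD := (mem_Dt x).mp (Q2_le_Dt hx)
  rcases (mem_Qt _).mp hQ with h | h
  · left
    exact (mem_SC x).mpr ⟨hD, h⟩
  · right
    rw [mem_SC]
    refine ⟨DD.mul_mem ?_ hD, ?_⟩
    · exact (mem_Dt n).mp (Q2_le_Dt n_mem_Q2)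
    · intro v hv
      show negOne.1 (x.1.1 v) = v
      have h1 : x.1.1 v = -v := h v hv
      rw [h1]
      show -(-v) = v
      exact neg_neg v

theorem n_sq : n * n = 1 := by
  apply Subtype.ext
  show negOne * negOne = 1
  rw [← nC_val]
  exact congrArg (fun z : ↥Ct => z.1) nC_sq

theorem n_notMem_SC : n ∉ SC := by
  intro h
  have h1 : negOne.1 u1 = u1 := ((mem_SC n).mp h).2 u1 u1_inO
  have h2 : negOne.1 u1 = -u1 := rfl
  rw [h2] at h1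
  have h3 := congrFun (congrArg Subtype.val h1) (some 0)
  have h4 : u1.1 (some 0) = 4 := by decide +kernel
  have h5 : (-u1).1 (some 0) = -(u1.1 (some 0)) := rfl
  rw [h5, h4] at h3
  norm_num at h3

theorem card_Q2 : Nat.card ↥Q2 = 64 := by
  have : Finite ↥Co0 := finite_Co0
  have hidx : (SC.subgroupOf Q2).index = 2 := by
    rw [Subgroup.index_eq_two_iff]
    refine ⟨⟨n, n_mem_Q2⟩, fun b => ?_⟩
    have hb : b.1 ∈ SC ∨ n * b.1 ∈ SC := Q2_cases b.1 b.2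
    have hnc : ∀ y : C, y * n = n * y := fun y =>
      (Subgroup.mem_center_iff.mp (NA_le_center a n_mem) y)
    rw [Subgroup.mem_subgroupOf, Subgroup.mem_subgroupOf]
    show Xor (b.1 * n ∈ SC) (b.1 ∈ SC)
    by_cases h1 : b.1 ∈ SC
    · right
      refine ⟨h1, fun h2 => n_notMem_SC ?_⟩
      have : n = b.1⁻¹ * (b.1 * n) := by group
      rw [this]
      exact SC.mul_mem (SC.inv_mem h1) h2
    · left
      rcases hb with hb | hb
      · exact absurd hb h1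
      · rw [hnc]
        exact ⟨hb, h1⟩
  have h1 := Subgroup.card_mul_index (SC.subgroupOf Q2)
  rw [hidx, Nat.card_congr (Subgroup.subgroupOfEquivOfLe SC_le_Q2).toEquiv, card_SC] at h1
  omega

end

end Cfsg.Agent.Lib.Helper9.JSecI
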