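import Cfsg.Agent.Lib.Helper9.JSecI

set_option autoImplicit false
set_option maxRecDepth 1000000

/-! S5403: the remaining hypotheses of `j2type_of_data`: the centre of `Q2`, the elements of order 5,
the fusion. -/

namespace Cfsg.Agent.Lib.Helper9.JSecJ

open scoped Pointwise
open Cfsg Finset Cfsg.Agent.Lib.Helper4.Leech Cfsg.Agent.Lib.Helper9.LeechC7
  Cfsg.Agent.Lib.Helper9.LeechM1 Cfsg.Agent.Lib.Helper9.LeechM2 Cfsg.Agent.Lib.Helper9.LeechM4
  Cfsg.Agent.Lib.Helper9.LeechX4 Cfsg.Agent.Lib.Helper9.LeechX7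
  Cfsg.Agent.Lib.Helper9.M24T8 Cfsg.Agent.Lib.Helper9.M24T3 Cfsg.Agent.Lib.Helper9.M24U1
  Cfsg.Agent.Lib.Helper9.M24T1 Cfsg.Agent.Lib.Helper9.GolayQR1
  Cfsg.Agent.Lib.Helper9.OrbCert1 Cfsg.Agent.Lib.Helper9.OrbCert3
  Cfsg.Agent.Lib.Helper9.Co1a Cfsg.Agent.Lib.Helper9.Co1b
  Cfsg.Agent.Lib.Helper9.Co1e Cfsg.Agent.Lib.Helper9.Co1f
  Cfsg.Agent.Lib.Helper9.JSecA Cfsg.Agent.Lib.Helper9.JSecB Cfsg.Agent.Lib.Helper9.JSecC
  Cfsg.Agent.Lib.Helper9.JSecD Cfsg.Agent.Lib.Helper9.JSecD4 Cfsg.Agent.Lib.Helper9.JSecD5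
  Cfsg.Agent.Lib.Helper9.JSecE Cfsg.Agent.Lib.Helper9.JSecF Cfsg.Agent.Lib.Helper9.JSecG
  Cfsg.Agent.Lib.Helper9.JSecH Cfsg.Agent.Lib.Helper9.JSecI
  Cfsg.Agent.Lib.Helper8.J2SNSTR
open Cfsg.Agent.Lib.Helper9.Co1c (Qt mem_Qt Qt_normal inO_neg)

/-! ### the letters of the sign changes -/

theorem W_nW : W nW = negOne := by
  show (lt LT 4).el * 1 = negOne
  rw [mul_one]
  have : lt LT 4 = Ltr.e 16777215 := rfl
  rw [this, Ltr.el, dif_pos (by decide +kernel)]
  apply Subtype.ext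
  show eps (M 16777215) (mask_mem_Code 16777215 (by decide +kernel)) = neg1
  exact (eps_congr M_full _ univ_code).trans eps_univ

theorem W_dW : W dW = dC.1 := by
  show (lt LT 6).el * 1 = dC.1
  rw [mul_one]
  have : lt LT 6 = Ltr.e 8241104 := rfl
  rw [this, Ltr.el, dif_pos (by decide +kernel)]
  apply Subtype.ext
  show eps (M 8241104) (mask_mem_Code 8241104 (by decide +kernel))
    = eps O8ᶜ (compl_mem_Code O8_code)
  exact eps_congr M_ocMask _ _

/-- the element of `C` of a word commuting with `a` -/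
noncomputable def cw (L : List ℕ) (h : commA L = true) : C :=
  ⟨W L, (Cfsg.Agent.Lib.Helper8.J2SNSTR.mem_CA a _).mpr (commA_sound h)⟩

theorem cw_val (L : List ℕ) (h : commA L = true) : (cw L h).1 = W L := rfl

theorem swA (i : ℕ) (hi : i < 32) : commA (sw i) = true := by
  have h := SW_mem i hi
  unfold swOK at h
  simp only [Bool.and_eq_true] at h
  exact h.1.1

/-- the elements of the pointwise stabiliser, in `C` -/
noncomputable def sC (i : ℕ) (hi : i < 32) : C := cw (sw i) (swA i hi)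

theorem sC_mem (i : ℕ) (hi : i < 32) : sC i hi ∈ SC := (mem_SC _).mpr (sw_mem i hi)

theorem SC_elems (x : C) (hx : x ∈ SC) : ∃ i, ∃ hi : i < 32, x = sC i hi := by
  obtain ⟨i, hi, h⟩ := SS_elems x.1 ((mem_SC x).mp hx)
  exact ⟨i, hi, Subtype.ext h⟩

/-- the centre of the pointwise stabiliser -/
theorem cen_SC (s : C) (hs : s ∈ SC) (hc : ∀ y ∈ SC, s * y = y * s) : s = 1 ∨ s = d := by
  obtain ⟨i, hi, rfl⟩ := SC_elems s hs
  have h := List.all_eq_true.mp SW_cen i (List.mem_range.mpr hi)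
  simp only [Bool.or_eq_true, decide_eq_true_eq] at h
  rcases h with (h | h) | h
  · left
    subst h
    apply Subtype.ext
    show W (sw 0) = 1
    rw [SW_zero]
    rfl
  · right
    subst h
    apply Subtype.ext
    show W (sw 5) = dC.1
    rw [W_eq SW_five, W_dW]
  · exfalso
    have hne := W_ne h
    rw [W_append, W_append] at hne
    by_cases hj : (WIT.getD i (0, 0)).1 < 32
    · exact hne (congrArg Subtype.val (hc _ (sC_mem _ hj)))
    · have : sw (WIT.getD i (0, 0)).1 = [] := by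
        unfold sw
        apply List.getD_eq_default
        rw [SW_length]
        omega
      rw [this] at hne
      exact hne (by rw [W_nil, mul_one, one_mul])

theorem n_central (y : C) : y * n = n * y :=
  Subgroup.mem_center_iff.mp (NA_le_center a n_mem) y

theorem Q2_cen : ∀ x ∈ Q2, (∀ y ∈ Q2, x * y = y * x) → x = 1 ∨ x = n ∨ x = d ∨ x = n * d := by
  intro x hx hc
  rcases Q2_cases x hx with h | h
  · rcases cen_SC x h (fun y hy => hc y (SC_le_Q2 hy)) with h1 | h1
    · exact Or.inl h1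
    · exact Or.inr (Or.inr (Or.inl h1))
  · have hc' : ∀ y ∈ SC, (n * x) * y = y * (n * x) := by
      intro y hy
      rw [mul_assoc, hc y (SC_le_Q2 hy), ← mul_assoc, ← mul_assoc, n_central y]
    have hx' : x = n * (n * x) := by rw [← mul_assoc, n_sq, one_mul]
    rcases cen_SC (n * x) h hc' with h1 | h1
    · right; left
      rw [hx', h1, mul_one]
    · right; right; right
      rw [hx', h1]

theorem Q2_na : ∃ x ∈ Q2, ∃ y ∈ Q2, x * y ≠ y * x := by
  refine ⟨sC 1 (by norm_num), SC_le_Q2 (sC_mem _ _), sC 2 (by norm_num), SC_le_Q2 (sC_mem _ _), ?_⟩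
  intro h
  have hne := W_ne hna_ok
  rw [W_append, W_append] at hne
  exact hne (congrArg Subtype.val h)

/-! ### the ten vectors `± a^k u_1` -/

theorem neg_code : ∀ m < 10, ∃ m' < 10, ∀ i : GolayPt,
    vecN (WN.getD m' 0) i = -vecN (WN.getD m 0) i := by decide +kernel

theorem a_pow_u1 (k : ℕ) (hk : k < 5) : ((a ^ k).1 u1).1 = vecN (WN.getD (2 * k) 0) := by
  have h := List.all_eq_true.mp WN_ok k (List.mem_range.mpr hk)
  rw [Bool.and_eq_true, decide_eq_true_eq] at h
  have h1 := W_run h.1 u1 rfl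
  rw [W_pow] at h1
  exact h1

theorem a_pow_mem_Ct (k : ℕ) : a ^ k ∈ Ct := Ct.pow_mem a_mem_Ct k

theorem negOne_apply (v : leechLattice) : negOne.1 v = -v := rfl

/-- the image of the first base root under an element of `Q2 ⊔ N` -/
theorem sup_code (x : C) (hx : x ∈ Q2 ⊔ N) : ∃ m < 10, (x.1.1 u1).1 = vecN (WN.getD m 0) := by
  have hx' : x ∈ ((Q2 ⊔ N : Subgroup C) : Set C) := hx
  rw [Subgroup.mul_normal] at hx'
  obtain ⟨q, hq, c, hc, rfl⟩ := Set.mem_mul.mp hx'
  obtain ⟨k, hk, hck⟩ := (mem_NA a a_pow_five c).mp hc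
  -- the image under `c`
  have h1 : ∃ m < 10, (c.1.1 u1).1 = vecN (WN.getD m 0) ∧ InO (c.1.1 u1) := by
    rcases hck with h | h
    · refine ⟨2 * k, by omega, ?_, ?_⟩
      · rw [h]; exact a_pow_u1 k hk
      · rw [h]; exact inO_smul (a_pow_mem_Ct k) u1_inO
    · obtain ⟨m', hm', hneg⟩ := neg_code (2 * k) (by omega)
      refine ⟨m', hm', ?_, ?_⟩
      · rw [h]
        show ((a ^ k).1 (negOne.1 u1)).1 = _
        have hcomm : (a ^ k).1 (negOne.1 u1) = negOne.1 ((a ^ k).1 u1) := by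
          have := Subgroup.mem_center_iff.mp negOne_mem_center (a ^ k)
          exact congrArg (fun z : ↥Co0 => z.1 u1) this
        rw [hcomm, negOne_apply]
        funext i
        show -((a ^ k).1 u1).1 i = _
        rw [a_pow_u1 k hk, hneg i]
      · rw [h]
        show InO ((a ^ k).1 (negOne.1 u1))
        rw [negOne_apply]
        exact inO_smul (a_pow_mem_Ct k) (inO_neg u1_inO)
  obtain ⟨m, hm, hcode, hO⟩ := h1
  obtain ⟨hqC, hqQ⟩ := (mem_Q2' q).mp hq
  rcases (mem_Qt _).mp hqQ with h | h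
  · refine ⟨m, hm, ?_⟩
    show (q.1.1 (c.1.1 u1)).1 = _
    have := h _ hO
    rw [show q.1.1 (c.1.1 u1) = c.1.1 u1 from this, hcode]
  · obtain ⟨m', hm', hneg⟩ := neg_code m hm
    refine ⟨m', hm', ?_⟩
    show (q.1.1 (c.1.1 u1)).1 = _
    have := h _ hO
    rw [show q.1.1 (c.1.1 u1) = -(c.1.1 u1) from this]
    funext i
    show -(c.1.1 u1).1 i = _
    rw [hcode, hneg i]

theorem offN_sound {L : List ℕ} (h : offN L = true) (m : ℕ) (hm : m < 10) :
    ((W L).1 u1).1 ≠ vecN (WN.getD m 0) := by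
  unfold offN at h
  cases hr : run LT L u1c with
  | none => rw [hr] at h; exact absurd h (by simp)
  | some c0 =>
    rw [hr] at h
    have h' : (WN.all fun c' => neC c0 c') = true := h
    have hmem : WN.getD m 0 ∈ WN := by
      rw [List.getD_eq_getElem _ _ (by rw [WN_length]; exact hm)]
      exact List.getElem_mem _
    have h1 := List.all_eq_true.mp h' _ hmem
    intro he
    rw [W_run hr u1 rfl] at he
    have h2 := vecI_eq_of_vecN he
    unfold neC at h1
    rw [h2] at h1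
    exact absurd h1 (by simp)

theorem not_sup_of_offN {x : C} {L : List ℕ} (hx : x.1 = W L) (h : offN L = true) :
    x ∉ Q2 ⊔ N := by
  intro hs
  obtain ⟨m, hm, hc⟩ := sup_code x hs
  rw [hx] at hc
  exact offN_sound h m hm hc

/-! ### the elements of order 5 -/

theorem primA : ∀ L ∈ [g0W, g1W, g2W, uW, c1W, q1W, q2W, q4W], commA L = true :=
  fun L hL => List.all_eq_true.mp prim_a L hL

theorem primT : ∀ L ∈ [g0W, g1W, g2W], commT L = true :=
  fun L hL => List.all_eq_true.mp prim_t L hL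

noncomputable def g0C : C := cw g0W (primA _ (by decide))
noncomputable def g1C : C := cw g1W (primA _ (by decide))
noncomputable def g2C : C := cw g2W (primA _ (by decide))
noncomputable def uC : C := cw uW (primA _ (by decide))
noncomputable def c1C : C := cw c1W (primA _ (by decide))
noncomputable def q1C : C := cw q1W (primA _ (by decide))
noncomputable def q2C : C := cw q2W (primA _ (by decide))
noncomputable def q4C : C := cw q4W (primA _ (by decide))

theorem mem_Dt_of {x : C} {L : List ℕ} (hx : x.1 = W L) (h1 : commA L = true)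
    (h2 : commT L = true) : x ∈ Dt := by
  rw [mem_Dt, hx]
  exact W_mem_DD h1 h2

theorem g0_mem : g0C ∈ Dt := mem_Dt_of rfl (primA _ (by decide)) (primT _ (by decide))
theorem g1_mem : g1C ∈ Dt := mem_Dt_of rfl (primA _ (by decide)) (primT _ (by decide))
theorem g2_mem : g2C ∈ Dt := mem_Dt_of rfl (primA _ (by decide)) (primT _ (by decide))

/-- the element of order 5 -/
noncomputable def bC : C := g0C * g1C * g0C * g2C

theorem bC_val : bC.1 = W bW := by
  show W g0W * W g1W * W g0W * W g2W = W bW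
  rw [b_eq, W_append, W_append, W_append]

theorem bC_mem : bC ∈ Dt := Dt.mul_mem (Dt.mul_mem (Dt.mul_mem g0_mem g1_mem) g0_mem) g2_mem

theorem bC_pow (k : ℕ) : (bC ^ k).1 = W (wpow bW k) := by
  rw [W_pow, ← bC_val]
  rfl

theorem bC_pow_five : bC ^ 5 = 1 := by
  apply Subtype.ext
  rw [bC_pow, W_eq b_pow]
  rfl

theorem bC_five_mem : bC ^ 5 ∈ Q2 ⊔ N := by
  rw [bC_pow_five]
  exact Subgroup.one_mem _

theorem bC_notMem : bC ∉ Q2 ⊔ N := not_sup_of_offN bC_val b_off

theorem XW_val (k : ℕ) (hk : k < 5) : (g0C * bC * g0C⁻¹ * (bC ^ k)⁻¹).1 = W (XW.getD k []) := by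
  have h := W_eq (List.all_eq_true.mp X_eq k (List.mem_range.mpr hk))
  rw [W_append, W_append, W_append, ← bC_val, ← bC_pow] at h
  show g0C.1 * bC.1 * g0C.1⁻¹ * ((bC ^ k).1)⁻¹ = _
  have h' : W (XW.getD k []) * (bC ^ k).1 * g0C.1 = g0C.1 * bC.1 := h
  rw [← h']
  group

theorem XW_notMem : ∀ k : ℕ, k < 5 → g0C * bC * g0C⁻¹ * (bC ^ k)⁻¹ ∉ Q2 ⊔ N := by
  intro k hk
  apply not_sup_of_offN (XW_val k hk)
  have hm : XW.getD k [] ∈ XW := by
    have hl : XW.length = 5 := by decide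
    rw [List.getD_eq_getElem _ _ (by rw [hl]; exact hk)]
    exact List.getElem_mem _
  exact List.all_eq_true.mp X_off _ hm

/-! ### the witness for the uniqueness of the module -/

theorem q1C_eq : q1C = n * sC 22 (by norm_num) := by
  apply Subtype.ext
  show W q1W = negOne * W (sw 22)
  rw [W_eq q1_eq, W_append, W_nW]

theorem q1C_mem : q1C ∈ Q2 := by
  rw [q1C_eq]
  exact Q2.mul_mem n_mem_Q2 (SC_le_Q2 (sC_mem _ _))

theorem bq_val : (bC * q1C * bC⁻¹).1 = W bqW := by
  have h := W_eq bq_eq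
  rw [W_append, W_append, ← bC_val] at h
  show bC.1 * W q1W * bC.1⁻¹ = W bqW
  rw [← h]
  group

theorem UF_wit : ∀ q' ∈ Q2, ∀ c ∈ N, bC * q1C * bC⁻¹ ≠ c * (q' * q1C * q'⁻¹) := by
  intro q' hq' c hc he
  have hb := bq_ne
  simp only [Bool.and_eq_true] at hb
  obtain ⟨⟨⟨b1, b2⟩, b3⟩, b4⟩ := hb
  have e1 := W_ne b1
  have e2 := W_ne b2
  have e3 := W_ne b3
  have e4 := W_ne b4
  rw [W_append, W_dW] at e2
  rw [W_append, W_nW] at e3
  rw [W_append, W_append, W_nW, W_dW] at e4
  rw [← bq_val] at e1 e2 e3 e4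
  -- the conjugate of `q1` by `q'`
  have hconj : q' * q1C * q'⁻¹ = q1C ∨ q' * q1C * q'⁻¹ = d * q1C := by
    rcases Q2_comm q' hq' q1C q1C_mem with h | h
    · left; rw [h]; group
    · right; rw [h]; group
  have hcQ : c ∈ Q2 := by
    have : c = (bC * q1C * bC⁻¹) * (q' * q1C * q'⁻¹)⁻¹ := by rw [he]; group
    rw [this]
    exact Q2.mul_mem (Q2_conj bC bC_mem q1C q1C_mem)
      (Q2.inv_mem (Q2_conj q' (Q2_le_Dt hq') q1C q1C_mem))
  rcases Q2_inter_N c hcQ hc with hc1 | hc1
  · rcases hconj with h | h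
    · rw [hc1, h, one_mul] at he
      exact e1 (congrArg Subtype.val he)
    · rw [hc1, h, one_mul] at he
      exact e2 (congrArg Subtype.val he)
  · rcases hconj with h | h
    · rw [hc1, h] at he
      exact e3 (congrArg Subtype.val he)
    · rw [hc1, h] at he
      apply e4
      have := congrArg Subtype.val he
      rw [this]
      show negOne * (dC.1 * W q1W) = negOne * dC.1 * W q1W
      rw [mul_assoc]

/-! ### the fusion -/

theorem cp_val : (uC * t * uC⁻¹).1 = W cpW := by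
  have h := W_eq u_t
  rw [W_append, W_append, W_tW] at h
  show W uW * e0 * (W uW)⁻¹ = W cpW
  rw [h]
  group

theorem fus_mem : uC * t * uC⁻¹ ∈ Q2 := by
  have : uC * t * uC⁻¹ = sC 21 (by norm_num) := by
    apply Subtype.ext
    rw [cp_val, cp_eq]
    rfl
  rw [this]
  exact SC_le_Q2 (sC_mem _ _)

theorem fus_ne : ∀ c ∈ N, uC * t * uC⁻¹ ≠ c * t := by
  intro c hc he
  have hcp := cp_ne
  rw [Bool.and_eq_true] at hcp
  have e1 := W_ne hcp.1
  have e2 := W_ne hcp.2
  rw [W_tW] at e1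
  rw [W_dW] at e2
  -- `c = (u t u⁻¹) * t` has order dividing 4
  have hc_eq : c = (uC * t * uC⁻¹) * t := by
    rw [he, mul_assoc, t_sq, mul_one]
  have hcomm : (uC * t * uC⁻¹) * t = t * (uC * t * uC⁻¹) := by
    have := Q2_le_Dt fus_mem
    rw [Subgroup.mem_centralizer_iff] at this
    exact (this t rfl).symm
  have h4 : c ^ 4 = 1 := by
    have hsq : c * c = (uC * t * uC⁻¹) * (uC * t * uC⁻¹) := by
      rw [hc_eq]
      calc (uC * t * uC⁻¹) * t * ((uC * t * uC⁻¹) * t)
          = (uC * t * uC⁻¹) * (t * (uC * t * uC⁻¹)) * t := by group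
        _ = (uC * t * uC⁻¹) * ((uC * t * uC⁻¹) * t) * t := by rw [hcomm]
        _ = (uC * t * uC⁻¹) * (uC * t * uC⁻¹) * (t * t) := by group
        _ = (uC * t * uC⁻¹) * (uC * t * uC⁻¹) := by rw [t_sq, mul_one]
    rw [pow_four_eq, hsq]
    rcases Q2_sq _ fus_mem with h | h
    · rw [h, one_mul]
    · rw [h, d_sq]
  rcases NA_pow_four a a_pow_five c hc h4 with h | h
  · apply e1
    have := congrArg Subtype.val he
    rw [cp_val] at this
    rw [this]
    show c.1 * e0 = e0
    rw [h, one_mul]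
  · apply e2
    have := congrArg Subtype.val he
    rw [cp_val] at this
    rw [this]
    show c.1 * e0 = dC.1
    rw [h, ← nC_val]
    exact congrArg (fun z : ↥Ct => z.1) nC_mul_eC

end Cfsg.Agent.Lib.Helper9.JSecJ
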