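import Cfsg.Agent.Lib.Helper9.JSecJ
import Cfsg.Agent.Lib.Helper9.JSecD7
import Cfsg.Agent.Lib.Helper3.J2STYPE
import Cfsg.Agent.Lib.Helper8.J2STWOCLS
import Cfsg.Agent.Lib.Helper8.J2SHEIS27

set_option autoImplicit false
set_option maxRecDepth 1000000

/-! S5403: the quotient `S = C ⧸ N`: the Hall–Janko-type data, the two classes of involutions, the
centraliser of the involution and a subgroup of order 27 inside the commutator subgroup. -/

namespace Cfsg.Agent.Lib.Helper9.JSecK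

open scoped Pointwise
open Cfsg Finset Cfsg.Agent.Lib.Helper4.Leech Cfsg.Agent.Lib.Helper9.LeechC7
  Cfsg.Agent.Lib.Helper9.LeechM1 Cfsg.Agent.Lib.Helper9.LeechM2 Cfsg.Agent.Lib.Helper9.LeechM4
  Cfsg.Agent.Lib.Helper9.LeechX4 Cfsg.Agent.Lib.Helper9.LeechX7
  Cfsg.Agent.Lib.Helper9.M24T8 Cfsg.Agent.Lib.Helper9.M24T3 Cfsg.Agent.Lib.Helper9.M24U1
  Cfsg.Agent.Lib.Helper9.M24T1 Cfsg.Agent.Lib.Helper9.GolayQR1
  Cfsg.Agent.Lib.Helper9.OrbCert1 Cfsg.Agent.Lib.Helper9.OrbCert3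
  Cfsg.Agent.Lib.Helper9.Co1a Cfsg.Agent.Lib.Helper9.Co1b
  Cfsg.Agent.Lib.Helper9.Co1e Cfsg.Agent.Lib.Helper9.Co1f
  Cfsg.Agent.Lib.Helper9.JSecA Cfsg.Agent.Lib.Helper9.JSecB Cfsg.Agent.Lib.Helper9.JSecC
  Cfsg.Agent.Lib.Helper9.JSecD Cfsg.Agent.Lib.Helper9.JSecD4 Cfsg.Agent.Lib.Helper9.JSecD5
  Cfsg.Agent.Lib.Helper9.JSecD7
  Cfsg.Agent.Lib.Helper9.JSecE Cfsg.Agent.Lib.Helper9.JSecF Cfsg.Agent.Lib.Helper9.JSecG
  Cfsg.Agent.Lib.Helper9.JSecH Cfsg.Agent.Lib.Helper9.JSecI Cfsg.Agent.Lib.Helper9.JSecJ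
  Cfsg.Agent.Lib.Helper8.J2SNSTR

noncomputable section

instance finite_C : Finite C := by
  have : Finite ↥Co0 := finite_Co0
  infer_instance

/-- the section -/
abbrev S : Type := C ⧸ N

/-- the image of an element -/
abbrev mk (x : C) : S := QuotientGroup.mk x

theorem mk_eq_one {x : C} : mk x = 1 ↔ x ∈ N := QuotientGroup.eq_one_iff x

/-- the data of Hall–Janko type -/
theorem type_data : orderOf (mk t) = 2 ∧
    Nat.card ↥(Subgroup.centralizer ({mk t} : Set S)) = 1920 ∧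
    (∀ y ∈ Subgroup.centralizer ({mk t} : Set S),
      ∃ g ∈ Subgroup.centralizer ({t} : Set C), mk g = y) ∧
    ∃ (Q : Subgroup (Subgroup.centralizer ({mk t} : Set S))) (_ : Q.Normal),
      Cfsg.generalizedFittingSubgroup (Subgroup.centralizer ({mk t} : Set S)) = Q ∧
      Cfsg.IsExtraspecial 2 Q ∧ Nat.card Q = 2 ^ 5 ∧
      Nonempty ((Subgroup.centralizer ({mk t} : Set S)) ⧸ Q ≃*
        Cfsg.Omega (ZMod 2) (Cfsg.quadFormMinus 1 (ZMod 2) 1 1)) ∧
      ∃ g : S,
        (∃ hq : g * mk t * g⁻¹ ∈ Subgroup.centralizer ({mk t} : Set S),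
          (⟨g * mk t * g⁻¹, hq⟩ : Subgroup.centralizer ({mk t} : Set S)) ∈ Q) ∧
        g * mk t * g⁻¹ ≠ mk t :=
  Cfsg.Agent.Lib.Helper3.J2STYPE.j2type_of_data N (NA_le_center a)
    (card_NA a a_pow_five a_ne_one) n n_mem n_ne_one t t_sq t_notMem t_conj card_Dt Q2 Q2_le_Dt
    Q2_conj card_Q2 n_mem_Q2 Q2_inter_N d d_mem_Q2 d_ne_one d_ne_n d_comm Q2_comm Q2_sq Q2_cen Q2_na
    bC g0C bC_mem g0_mem bC_five_mem bC_notMem XW_notMem bC q1C bC_mem q1C_mem UF_wit uC fus_mem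
    fus_ne

/-! ### two classes of involutions -/

theorem g0_sq_eq : g0C * g0C = n := by
  apply Subtype.ext
  show W g0W * W g0W = negOne
  rw [← W_append, W_eq g0_sq, W_nW]

theorem n_pow_five : n ^ 5 = n := by
  rw [show (5 : ℕ) = 2 + 2 + 1 from rfl, pow_add, pow_add, pow_two, pow_one, n_sq, one_mul,
    one_mul]

theorem g0_pow_ten : g0C ^ 10 = n := by
  have : g0C ^ 10 = (g0C * g0C) ^ 5 := by rw [← pow_two, ← pow_mul]
  rw [this, g0_sq_eq, n_pow_five]

theorem mk_n : mk n = 1 := mk_eq_one.mpr n_mem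

theorem order_mk_g0 : orderOf (mk g0C) = 2 := by
  apply orderOf_eq_prime
  · rw [pow_two]
    show mk (g0C * g0C) = 1
    rw [g0_sq_eq, mk_n]
  · intro h
    have h1 := NA_pow_ten a a_pow_five g0C (mk_eq_one.mp h)
    rw [g0_pow_ten] at h1
    exact n_ne_one h1

theorem two_classes : ∃ x y : S, orderOf x = 2 ∧ orderOf y = 2 ∧ ¬ IsConj x y := by
  refine ⟨mk t, mk g0C, type_data.1, order_mk_g0, ?_⟩
  apply Cfsg.Agent.Lib.Helper8.J2STWOCLS.not_isConj_of_pow N (NA_le_center a)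
    (NA_pow_ten a a_pow_five) t g0C
  · have : t ^ 10 = (t * t) ^ 5 := by rw [← pow_two, ← pow_mul]
    rw [this, t_sq, one_pow]
  · rw [g0_pow_ten]
    exact n_ne_one

/-! ### the commutator subgroup -/

theorem comm_mem (x y : C) : mk (x * y * x⁻¹ * y⁻¹) ∈ commutator S := by
  have h := Subgroup.commutator_mem_commutator (Subgroup.mem_top (mk x)) (Subgroup.mem_top (mk y))
  rw [commutatorElement_def] at h
  exact h

theorem a_mem_CA : a ∈ CA a := (Cfsg.Agent.Lib.Helper8.J2SNSTR.mem_CA a a).mpr rfl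

theorem mk_a : mk (⟨a, a_mem_CA⟩ : C) = 1 := by
  rw [mk_eq_one, mem_NA a a_pow_five]
  exact ⟨1, by norm_num, Or.inl (pow_one a).symm⟩

/-- a word that is the commutator of two elements of `C` -/
theorem comm_word {L : List ℕ} (x y : C) (h : W L * y.1 * x.1 = x.1 * y.1) (hL : W L ∈ CA a) :
    mk (⟨W L, hL⟩ : C) ∈ commutator S := by
  have : (⟨W L, hL⟩ : C) = x * y * x⁻¹ * y⁻¹ := by
    apply Subtype.ext
    show W L = x.1 * y.1 * x.1⁻¹ * y.1⁻¹
    rw [← h]
    group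
  rw [this]
  exact comm_mem x y

theorem HH_le_CA : HH ≤ CA a := fun g hg => by
  rw [Cfsg.Agent.Lib.Helper8.J2SNSTR.mem_CA]
  exact ((mem_DD g).mp (HH_le_DD hg)).1

theorem gens_comm (x : ↥Co0) (hx : x ∈ GS) (hC : x ∈ CA a) : mk (⟨x, hC⟩ : C) ∈ commutator S := by
  rcases hx with rfl | rfl | rfl | rfl | rfl | rfl | rfl | rfl
  · rw [mk_a]
    exact Subgroup.one_mem _
  · apply comm_word g0C g1C _ hC
    have := W_eq d01_eq
    rw [W_append, W_append, W_append] at this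
    exact this
  · apply comm_word g0C g2C _ hC
    have := W_eq d02_eq
    rw [W_append, W_append, W_append] at this
    exact this
  · apply comm_word g1C g2C _ hC
    have := W_eq d12_eq
    rw [W_append, W_append, W_append] at this
    exact this
  · apply comm_word q1C g0C _ hC
    have := W_eq k0_eq
    rw [W_append, W_append, W_append] at this
    exact this
  · apply comm_word q1C g2C _ hC
    have := W_eq k1_eq
    rw [W_append, W_append, W_append] at this
    exact this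
  · apply comm_word q2C g2C _ hC
    have := W_eq k2_eq
    rw [W_append, W_append, W_append] at this
    exact this
  · apply comm_word q4C g1C _ hC
    have := W_eq k3_eq
    rw [W_append, W_append, W_append] at this
    exact this

theorem HH_comm : ∀ x, x ∈ HH → ∃ hC : x ∈ CA a, mk (⟨x, hC⟩ : C) ∈ commutator S := by
  intro x hx
  unfold HH at hx
  induction hx using Subgroup.closure_induction with
  | mem x hx =>
    have hC : x ∈ CA a := HH_le_CA (Subgroup.subset_closure hx)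
    exact ⟨hC, gens_comm x hx hC⟩
  | one => exact ⟨Subgroup.one_mem _, Subgroup.one_mem _⟩
  | mul x y _ _ ihx ihy =>
    obtain ⟨hx, h1⟩ := ihx
    obtain ⟨hy, h2⟩ := ihy
    refine ⟨Subgroup.mul_mem _ hx hy, ?_⟩
    have : mk (⟨x * y, Subgroup.mul_mem _ hx hy⟩ : C) = mk ⟨x, hx⟩ * mk ⟨y, hy⟩ := rfl
    rw [this]
    exact Subgroup.mul_mem _ h1 h2
  | inv x _ ih =>
    obtain ⟨hx, h1⟩ := ih
    refine ⟨Subgroup.inv_mem _ hx, ?_⟩
    have : mk (⟨x⁻¹, Subgroup.inv_mem _ hx⟩ : C) = (mk ⟨x, hx⟩)⁻¹ := rfl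
    rw [this]
    exact Subgroup.inv_mem _ h1

theorem Cz_le_comm : Subgroup.centralizer ({mk t} : Set S) ≤ commutator S := by
  intro y hy
  obtain ⟨g, hg, rfl⟩ := type_data.2.2.1 y hy
  have hD : g.1 ∈ DD := (mem_Dt g).mp hg
  have hH : g.1 ∈ HH := DD_le_HH hD
  obtain ⟨hC, h⟩ := HH_comm g.1 hH
  exact h

/-! ### a subgroup of order 27 -/

/-- the first element of order 3 modulo `N` -/
noncomputable def x3C : C := c1C * (g1C * g0C) * c1C⁻¹ * (g1C * g0C)⁻¹

/-- the second one -/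
noncomputable def y3C : C := g2C * x3C * g2C⁻¹

/-- their commutator -/
noncomputable def cC : C := x3C * y3C * x3C⁻¹ * y3C⁻¹

theorem x3C_val : x3C.1 = W x3W := by
  have h := W_eq x3_eq
  simp only [W_append] at h
  show W c1W * (W g1W * W g0W) * (W c1W)⁻¹ * (W g1W * W g0W)⁻¹ = W x3W
  rw [← h]
  group

theorem y3C_val : y3C.1 = W y3W := by
  have h := W_eq y3_eq
  rw [W_append, W_append] at h
  show W g2W * x3C.1 * (W g2W)⁻¹ = W y3W
  rw [x3C_val, ← h]
  group

theorem cC_val : cC.1 = W cW := by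
  have h := W_eq c_eq
  rw [W_append, W_append, W_append] at h
  show x3C.1 * y3C.1 * x3C.1⁻¹ * y3C.1⁻¹ = W cW
  rw [x3C_val, y3C_val, ← h]
  group

theorem x3C_cube : x3C ^ 3 = n := by
  apply Subtype.ext
  show x3C.1 ^ 3 = negOne
  rw [x3C_val, ← W_pow, W_eq x3_cube, W_nW]

theorem y3C_cube : y3C ^ 3 = n := by
  apply Subtype.ext
  show y3C.1 ^ 3 = negOne
  rw [y3C_val, ← W_pow, W_eq y3_cube, W_nW]

theorem cC_x3 : cC * x3C = x3C * cC := by
  apply Subtype.ext
  show cC.1 * x3C.1 = x3C.1 * cC.1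
  rw [cC_val, x3C_val, ← W_append, ← W_append]
  exact W_eq c_x3

theorem cC_y3 : cC * y3C = y3C * cC := by
  apply Subtype.ext
  show cC.1 * y3C.1 = y3C.1 * cC.1
  rw [cC_val, y3C_val, ← W_append, ← W_append]
  exact W_eq c_y3

theorem cC_cube : cC ^ 3 = 1 := by
  apply Subtype.ext
  show cC.1 ^ 3 = 1
  rw [cC_val, ← W_pow, W_eq c_pow]
  rfl

theorem cC_ne_one : cC ≠ 1 := by
  intro h
  have := congrArg Subtype.val h
  rw [cC_val] at this
  exact W_ne c_ne this

theorem cC_notMem : cC ∉ N := by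
  intro h
  have h10 := NA_pow_ten a a_pow_five cC h
  apply cC_ne_one
  have : cC = cC ^ 10 * ((cC ^ 3)⁻¹) ^ 3 := by group
  rw [this, h10, cC_cube]
  group

theorem mk_cC : mk x3C * mk y3C * (mk x3C)⁻¹ * (mk y3C)⁻¹ = mk cC := rfl

/-- the subgroup of order 27 -/
noncomputable def R : Subgroup S := Subgroup.closure ({mk x3C, mk y3C} : Set S)

theorem card_R : Nat.card ↥R = 27 := by
  apply Cfsg.Agent.Lib.Helper8.J2SHEIS27.card_closure_pair (mk x3C) (mk y3C)
  · show mk (x3C ^ 3) = 1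
    rw [x3C_cube, mk_n]
  · show mk (y3C ^ 3) = 1
    rw [y3C_cube, mk_n]
  · rw [mk_cC]
    show mk (cC * x3C) = mk (x3C * cC)
    rw [cC_x3]
  · rw [mk_cC]
    show mk (cC * y3C) = mk (y3C * cC)
    rw [cC_y3]
  · rw [mk_cC]
    show mk (cC ^ 3) = 1
    rw [cC_cube]
    rfl
  · intro h
    apply cC_notMem
    rw [← mk_eq_one, ← mk_cC]
    have : mk x3C * mk y3C * (mk x3C)⁻¹ * (mk y3C)⁻¹
        = (mk x3C * mk y3C) * (mk y3C * mk x3C)⁻¹ := by group
    rw [this, h]
    group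

theorem R_le_comm : R ≤ commutator S := by
  unfold R
  rw [Subgroup.closure_le]
  have hx : mk x3C ∈ commutator S := comm_mem c1C (g1C * g0C)
  intro z hz
  rcases hz with rfl | hz
  · exact hx
  · rw [Set.mem_singleton_iff] at hz
    subst hz
    have : mk y3C = mk g2C * mk x3C * (mk g2C)⁻¹ := rfl
    rw [this]
    exact (inferInstance : (commutator S).Normal).conj_mem _ hx _

/-! ### the section is not commutative -/

theorem d_notMem : d ∉ N := by
  intro h
  have h4 : d ^ 4 = 1 := by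
    rw [pow_four_eq, d_sq, one_mul]
  rcases NA_pow_four a a_pow_five d h h4 with h1 | h1
  · exact d_ne_one (Subtype.ext h1)
  · exact d_ne_n (Subtype.ext h1)

theorem not_comm : ¬ IsMulCommutative S := by
  intro hc
  obtain ⟨x, hx, y, hy, hne⟩ := Q2_na
  apply d_notMem
  rcases Q2_comm x hx y hy with h | h
  · exact absurd h hne
  · have h1 : mk x * mk y = mk y * mk x := hc.is_comm.comm _ _
    have h2 : mk (x * y) = mk (y * x) := h1
    rw [h] at h2
    have h3 : mk d * mk (y * x) = mk (y * x) := h2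
    have h4 : mk d = 1 := by
      have := mul_right_cancel (h3.trans (one_mul _).symm)
      exact this
    exact mk_eq_one.mp h4

end

end Cfsg.Agent.Lib.Helper9.JSecK
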