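import Mathlib
import Cfsg.Prelude
import Cfsg.Agent.Lib.Helper9.KTe

set_option autoImplicit false
set_option linter.unusedSectionVars false
set_option linter.unusedVariables false
set_option linter.style.longLine false
set_option linter.unusedSimpArgs false
open Cfsg

set_option maxHeartbeats 1600000
namespace Cfsg.Agent.Lib.Helper9.KS

open Cfsg.Agent.Lib.Helper1 Cfsg.Agent.Lib.Helper3.JC
open scoped commutatorElement

variable {G : Type*} [Group G]

/-- core of S2948, for an arbitrary Sylow `2`-subgroup `T₀` of `L` over `J(T)`. -/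
theorem s2948_core [Finite G] (hL : Cfsg.IsCharacteristicTwoType G) (S : Sylow 2 G)
    {M T L T₀ : Subgroup G}
    (hMJ : Subgroup.normalizer (thompsonSubgroupOf 2 (S : Subgroup G) : Set G) ≤ M)
    (hT : T ∈ maxStraddlingTwoSubgroups M) (hL2 : IsTwoLocal L) (hLM : ¬ L ≤ M)
    (hT₀ : IsSylowTwoIn T₀ L) (hJT₀ : thompsonSubgroupOf 2 T ≤ T₀) :
    thompsonSubgroupOf 2 T = thompsonSubgroupOf 2 T₀ ∧ T₀ ∈ straddlingTwoSubgroups M ∧
      L ∈ jOvergroups T₀ ∧ Nat.card T₀ ≤ Nat.card T := by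
  have h2 : Fact (Nat.Prime 2) := ⟨Nat.prime_two⟩
  have hstar := normalizer_thompson_le S hMJ hT
  obtain ⟨hTp, hT1, hTM, -⟩ := hT.1
  have hJT : thompsonSubgroupOf 2 T ≤ T := thompsonSubgroupOf_le_self 2 T
  have hJ1 := thompson_ne_bot hTp hT1
  have hT₀p := hT₀.2.1
  have hne_bot : ∀ R : Subgroup G, thompsonSubgroupOf 2 T ≤ R → R ≠ ⊥ := by
    intro R hR hbot
    apply hJ1
    rw [eq_bot_iff, ← hbot]; exact hR
  -- (a)
  have hT₀M : T₀ ≤ M := by
    by_contra hne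
    have hT₁ : T₀ ⊓ M ∈ straddlingTwoSubgroups M :=
      ⟨hT₀p.to_le inf_le_left, hne_bot _ (le_inf hJT₀ (hJT.trans hTM)), inf_le_right, L, hL2,
        inf_le_left.trans hT₀.1, hLM⟩
    have hJ₁ := (max_tool hT hT₁ (le_inf hJT₀ (hJT.trans hTM))).1
    have hlt : T₀ ⊓ M < T₀ := by
      refine lt_of_le_of_ne inf_le_left ?_
      intro h
      exact hne (h ▸ inf_le_right)
    obtain ⟨T₂, -, hT₁T₂, hT₂T₀, hT₂N⟩ := BG8.exists_lt_normalizer_of_lt hT₀p hlt
    have hN : Subgroup.normalizer ((T₀ ⊓ M : Subgroup G) : Set G) ≤ M := by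
      refine le_trans ?_ hstar
      rw [← hJ₁]
      exact normalizer_le_normalizer_thompsonSubgroupOf (thompsonSubgroupOf_le_self 2 _) le_rfl
    exact hT₁T₂.not_ge (le_inf hT₂T₀ (hT₂N.trans hN))
  have hT₀' : T₀ ∈ straddlingTwoSubgroups M :=
    ⟨hT₀p, hne_bot _ hJT₀, hT₀M, L, hL2, hT₀.1, hLM⟩
  obtain ⟨hJeq, hcard⟩ := max_tool hT hT₀' hJT₀
  refine ⟨hJeq.symm, hT₀', ⟨hT₀, ?_, ?_⟩, hcard⟩
  · intro hJQ
    apply hLM
    have hQT₀ := pCoreOf_le_of_isSylowTwoIn hT₀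
    have h1 : Subgroup.normalizer (pCoreOf 2 L : Set G) ≤
        Subgroup.normalizer (thompsonSubgroupOf 2 T₀ : Set G) :=
      normalizer_le_normalizer_thompsonSubgroupOf hJQ hQT₀
    rw [hJeq] at h1
    exact ((nz_self_pCoreOf L).le_normalizer.trans h1).trans hstar
  · obtain ⟨W, hW, hW1, rfl⟩ := hL2
    exact cent_pCoreOf_le hL hW hW1

end Cfsg.Agent.Lib.Helper9.KS
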