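import Mathlib
import Cfsg.Prelude
import Cfsg.Agent.Lib.Helper9.KTf

set_option autoImplicit false
set_option linter.unusedSectionVars false
set_option linter.unusedVariables false
set_option linter.style.longLine false
set_option linter.unusedSimpArgs false
open Cfsg

set_option maxHeartbeats 1600000
namespace Cfsg.Agent.Lib.Helper9.KS

open Cfsg.Agent.Lib.Helper1 Cfsg.Agent.Lib.Helper3.JC
open scoped commutatorElement

variable {G : Type*} [Group G]

theorem pCoreOf_ne_bot_of_jOvergroups {T L : Subgroup G} (hT1 : T ≠ ⊥)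
    (hLT : L ∈ jOvergroups T) : pCoreOf 2 L ≠ ⊥ := by
  intro h
  have h1 := hLT.2.2
  rw [h] at h1
  have h3 : T ≤ (⊥ : Subgroup G) := by
    refine le_trans ?_ h1
    intro t _
    rw [Subgroup.mem_centralizer_iff]
    intro y hy
    have : y = 1 := by simpa using hy
    subst this
    simp
  exact hT1 (le_bot_iff.mp h3)

theorem wOf_isPGroup_ne_bot [Finite G] {T K : Subgroup G} (hK : IsJComponent T K) :
    IsPGroup 2 ↥(wOf K) ∧ wOf K ≠ ⊥ := by
  have h2 : Fact (Nat.Prime 2) := ⟨Nat.prime_two⟩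
  have hc := hK.2.2.2.2.1
  refine ⟨IsPGroup.of_card (n := 2) (by rw [hc]; norm_num), ?_⟩
  intro h
  rw [h, Subgroup.card_bot] at hc
  omega

/-- S2949, core. -/
theorem exists_outside_component [Finite G] (hL : Cfsg.IsCharacteristicTwoType G)
    (hN : ∀ N : Subgroup G, Cfsg.IsTwoLocal N → Group.IsSolvable ↥N)
    (hZ : ∀ S : Sylow 2 G, Subgroup.centralizer (Cfsg.omegaCenterOf (S : Subgroup G) : Set G) ≤
      Subgroup.normalizer ((S : Subgroup G) : Set G))
    (S : Sylow 2 G) {M T : Subgroup G}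
    (hMJ : Subgroup.normalizer (thompsonSubgroupOf 2 (S : Subgroup G) : Set G) ≤ M)
    (hT : T ∈ maxStraddlingTwoSubgroups M) : (jComponentsOutside M T).Nonempty := by
  obtain ⟨hTp, hT1, hTM, L, hL2, hTL, hLM⟩ := hT.1
  have hstar := normalizer_thompson_le S hMJ hT
  have hJT : thompsonSubgroupOf 2 T ≤ T := thompsonSubgroupOf_le_self 2 T
  obtain ⟨T₀, hT₀, hTT₀⟩ := exists_isSylowTwoIn hTL hTp
  obtain ⟨-, -, -, h4⟩ := s2948_core hL S hMJ hT hL2 hLM hT₀ (hJT.trans hTT₀)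
  have heq : T = T₀ := Subgroup.eq_of_le_of_card_ge hTT₀ h4
  obtain ⟨-, -, hLT₀, -⟩ := s2948_core hL S hMJ hT hL2 hLM hT₀ (hJT.trans hTT₀)
  rw [← heq] at hLT₀
  have hgen := le_genOf hL hN hZ hTp hT1 hLT₀
  -- some component is outside `M`
  have hex : ∃ K : Subgroup G, IsJComponent T K ∧ K ≤ L ∧ ¬ K ≤ M := by
    by_contra hcon
    push Not at hcon
    apply hLM
    refine hgen.trans (sup_le (sSup_le ?_) (inf_le_right.trans hstar))
    intro K hK
    exact hcon K hK.1 hK.2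
  obtain ⟨K, hK, hKL, hKM⟩ := hex
  refine ⟨K, ⟨hK, ?_⟩, hKM, ?_⟩
  · intro S' hJS' hS'
    obtain ⟨hWp, hW1⟩ := wOf_isPGroup_ne_bot hK
    have hKN : K ≤ Subgroup.normalizer (wOf K : Set G) :=
      Subgroup.le_normalizer.trans wOf_normalizer_le
    have hNM : ¬ Subgroup.normalizer (wOf K : Set G) ≤ M := fun h => hKM (hKN.trans h)
    exact (s2948_core hL S hMJ hT (isTwoLocal_normalizer hWp hW1) hNM hS' hJS').1.symm
  · have hQ1 := pCoreOf_ne_bot_of_jOvergroups hT1 hLT₀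
    have hQT := pCoreOf_le_of_isSylowTwoIn hLT₀.1
    have hle : pCoreOf 2 L ≤ pCoreOf 2 (K ⊔ T) :=
      Cfsg.Agent.Lib.Helper7.le_pCoreIn (p := 2) (hQT.trans le_sup_right) (pCoreOf_isPGroup L)
        ((sup_le hKL hTL).trans (nz_self_pCoreOf L).le_normalizer)
    intro h
    apply hQ1
    rw [eq_bot_iff, ← h]
    exact hle

end Cfsg.Agent.Lib.Helper9.KS
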