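import Mathlib
import Cfsg.Prelude
import Cfsg.Agent.Lib.Helper9.KTg

set_option autoImplicit false
set_option linter.unusedSectionVars false
set_option linter.unusedVariables false
set_option linter.style.longLine false
set_option linter.unusedSimpArgs false
open Cfsg

set_option maxHeartbeats 1600000
namespace Cfsg.Agent.Lib.Helper9.KS

open Cfsg.Agent.Lib.Helper1 Cfsg.Agent.Lib.Helper3.JC
open scoped commutatorElement

/-- **SN1**: if `K` is subnormal in `X` and `R` is a normal `2`-subgroup, then the odd-order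
elements of `K R` lie in `K`. -/
theorem odd_mem_of_subnormal {X : Type*} [Group X] [Finite X] {K R : Subgroup X}
    (hK : K.IsSubnormal) [hRn : R.Normal] (hR : IsPGroup 2 ↥R) :
    ∀ x ∈ K ⊔ R, Odd (orderOf x) → x ∈ K := by
  induction hK with
  | top => intro x _ _; exact Subgroup.mem_top x
  | step K M hKM hMsn hKn ih =>
    intro x hx hodd
    have hxM : x ∈ M := ih x (sup_le_sup_right hKM R hx) hodd
    rw [← SetLike.mem_coe, Subgroup.mul_normal] at hx
    obtain ⟨k, hk, r, hr, rfl⟩ := Set.mem_mul.mp hx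
    have hrM : r ∈ M := by
      have : r = k⁻¹ * (k * r) := by group
      rw [this]; exact M.mul_mem (M.inv_mem (hKM hk)) hxM
    have hRK : R ⊓ M ≤ Subgroup.normalizer (K : Set X) := by
      intro y hy
      exact (Subgroup.normal_subgroupOf_iff_le_normalizer hKM).1 hKn hy.2
    exact mem_of_odd_of_mem_sup (hR.to_le inf_le_left) hRK
      (Subgroup.mul_mem_sup hk ⟨hr, hrM⟩) hodd

/-- a normal `2`-subgroup normalizes every subnormal subgroup generated by odd-order elements. -/
theorem le_normalizer_of_subnormal {X : Type*} [Group X] [Finite X] {K R : Subgroup X}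
    (hK : K.IsSubnormal) [hRn : R.Normal] (hR : IsPGroup 2 ↥R)
    (hKodd : Subgroup.closure {g : X | g ∈ K ∧ Odd (orderOf g)} = K) :
    R ≤ Subgroup.normalizer (K : Set X) := by
  intro r hr
  have key : ∀ t ∈ R, ∀ s ∈ {g : X | g ∈ K ∧ Odd (orderOf g)},
      t * s * t⁻¹ ∈ {g : X | g ∈ K ∧ Odd (orderOf g)} := by
    intro t ht s hs
    have ho : Odd (orderOf (t * s * t⁻¹)) := by rw [orderOf_conj_eq]; exact hs.2
    refine ⟨odd_mem_of_subnormal hK hR _ ?_ ho, ho⟩
    exact Subgroup.mul_mem _ (Subgroup.mul_mem _ (Subgroup.mem_sup_right ht)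
      (Subgroup.mem_sup_left hs.1)) (Subgroup.inv_mem _ (Subgroup.mem_sup_right ht))
  have := mem_normalizer_closure_of_conj (S := {g : X | g ∈ K ∧ Odd (orderOf g)}) (t := r)
    (key r hr) (by
      intro s hs
      have := key r⁻¹ (R.inv_mem hr) s hs
      simpa using this)
  rwa [hKodd] at this

/-- a normal `2`-subgroup of `K` lies in `O₂(K)`. -/
theorem le_pCoreOf_of_normal {X : Type*} [Group X] {K P : Subgroup X} (hP : IsPGroup 2 ↥P)
    (hPK : P ≤ K) (hKP : K ≤ Subgroup.normalizer (P : Set X)) : P ≤ pCoreOf 2 K := by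
  have hn : (P.subgroupOf K).Normal :=
    (Subgroup.normal_subgroupOf_iff_le_normalizer hPK).2 hKP
  have h1 : P.subgroupOf K ≤ pCore 2 ↥K :=
    le_sSup ⟨hn, hP.comap_subtype⟩
  intro x hx
  exact ⟨⟨x, hPK hx⟩, h1 (Subgroup.mem_subgroupOf.2 hx), rfl⟩

/-- **SN2**: a normal `2`-subgroup of a subnormal subgroup lies in `O₂(X)`. -/
theorem le_pCore_of_subnormal {X : Type*} [Group X] [Finite X] {K : Subgroup X}
    (hK : K.IsSubnormal) :
    ∀ P : Subgroup X, IsPGroup 2 ↥P → P ≤ K → K ≤ Subgroup.normalizer (P : Set X) →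
      P ≤ pCore 2 X := by
  induction hK with
  | top =>
    intro P hP _ hN
    have hn : P.Normal := by
      rw [← Subgroup.normalizer_eq_top_iff]; exact top_le_iff.1 hN
    exact le_sSup ⟨hn, hP⟩
  | step K M hKM hMsn hKn ih =>
    intro P hP hPK hKP
    have hMK : M ≤ Subgroup.normalizer (K : Set X) :=
      (Subgroup.normal_subgroupOf_iff_le_normalizer hKM).1 hKn
    have h1 : P ≤ pCoreOf 2 K := le_pCoreOf_of_normal hP hPK hKP
    have h2 : Nz M (pCoreOf 2 K) := nz_pCoreOf (nz_of_le_normalizer hMK)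
    exact h1.trans (ih (pCoreOf 2 K) (pCoreOf_isPGroup K) ((pCoreOf_le K).trans hKM)
      h2.le_normalizer)

end Cfsg.Agent.Lib.Helper9.KS
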