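import Mathlib
import Cfsg.Prelude
import Cfsg.Agent.Lib.Helper9.KTh

set_option autoImplicit false
set_option linter.unusedSectionVars false
set_option linter.unusedVariables false
set_option linter.style.longLine false
set_option linter.unusedSimpArgs false
open Cfsg

set_option maxHeartbeats 1600000
namespace Cfsg.Agent.Lib.Helper9.KS

open Cfsg.Agent.Lib.Helper1 Cfsg.Agent.Lib.Helper3.JC
open Cfsg.Agent.Lib.Helper1.FF
open scoped commutatorElement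

variable {X : Type*} [Group X]

/-- A nontrivial `d`-invariant subgroup of a group of order `4` on which `d` acts
fixed-point-freely is the whole group. -/
theorem eq_of_invariant_ne_bot [Finite X] {W F : Subgroup X} {d : X} (hW4 : Nat.card W = 4)
    (hFW : F ≤ W) (hF1 : F ≠ ⊥) (hdF : ∀ f ∈ F, d * f * d⁻¹ ∈ F)
    (hfpf : ∀ w ∈ W, d * w * d⁻¹ = w → w = 1) : F = W := by
  have h2 : Fact (Nat.Prime 2) := ⟨Nat.prime_two⟩
  have hdvd : Nat.card F ∣ 2 ^ 2 := by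
    have := Subgroup.card_dvd_of_le hFW
    rw [hW4] at this; exact this
  obtain ⟨t, ht, ht1⟩ : ∃ t ∈ F, t ≠ 1 := by
    by_contra hcon
    push Not at hcon
    apply hF1
    rw [eq_bot_iff]
    intro x hx
    rw [Subgroup.mem_bot]
    exact hcon x hx
  rcases card_eq_of_dvd_prime_sq hdvd with h | h | h
  · exfalso
    apply hF1
    exact Subgroup.card_eq_one.1 h
  · exfalso
    obtain ⟨y, -, hy⟩ := (Nat.card_eq_two_iff' (1 : ↥F)).1 h
    have e1 : (⟨t, ht⟩ : ↥F) = y := hy _ (fun h0 => ht1 (congrArg Subtype.val h0))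
    have hdt1 : d * t * d⁻¹ ≠ 1 := by
      intro h0
      apply ht1
      have : t = d⁻¹ * (d * t * d⁻¹) * d := by group
      rw [this, h0]; group
    have e2 : (⟨d * t * d⁻¹, hdF t ht⟩ : ↥F) = y :=
      hy _ (fun h0 => hdt1 (congrArg Subtype.val h0))
    have e3 : d * t * d⁻¹ = t := congrArg Subtype.val (e2.trans e1.symm)
    exact ht1 (hfpf t (hFW ht) e3)
  · exact Subgroup.eq_of_le_of_card_ge hFW (by rw [h, hW4]; norm_num)

/-- involution case of the centralizing lemma -/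
theorem cent_of_sq_cent [Finite X] {W : Subgroup X} {d z : X} (hW4 : Nat.card W = 4)
    (hW2 : ∀ w ∈ W, w * w = 1) (hfpf : ∀ w ∈ W, d * w * d⁻¹ = w → w = 1)
    (hdW : d ∈ Subgroup.normalizer (W : Set X))
    (hzW : z ∈ Subgroup.normalizer (W : Set X))
    (hcomm : ∀ w ∈ W, z * (d * w * d⁻¹) * z⁻¹ = d * (z * w * z⁻¹) * d⁻¹)
    (hz2 : ∀ w ∈ W, (z * z) * w * (z * z)⁻¹ = w) : ∀ w ∈ W, z * w * z⁻¹ = w := by
  have hconj : ∀ {g : X}, g ∈ Subgroup.normalizer (W : Set X) → ∀ w ∈ W, g * w * g⁻¹ ∈ W :=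
    fun hg w hw => (Subgroup.mem_normalizer_iff.1 hg w).1 hw
  -- the fixed subgroup
  let F : Subgroup X := W ⊓ Subgroup.centralizer ({z} : Set X)
  have hmemF : ∀ w, w ∈ F ↔ w ∈ W ∧ z * w = w * z := by
    intro w
    constructor
    · rintro ⟨h1, h2⟩
      exact ⟨h1, Subgroup.mem_centralizer_iff.1 h2 z rfl⟩
    · rintro ⟨h1, h2⟩
      refine ⟨h1, Subgroup.mem_centralizer_iff.2 ?_⟩
      intro h hh
      rw [Set.mem_singleton_iff.1 hh]; exact h2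
  have hFW : F ≤ W := inf_le_left
  have hdF : ∀ f ∈ F, d * f * d⁻¹ ∈ F := by
    intro f hf
    obtain ⟨hfW, hfz⟩ := (hmemF f).1 hf
    refine (hmemF _).2 ⟨hconj hdW f hfW, ?_⟩
    have e := hcomm f hfW
    have e' : z * f * z⁻¹ = f := by rw [hfz]; group
    rw [e'] at e
    calc z * (d * f * d⁻¹) = (z * (d * f * d⁻¹) * z⁻¹) * z := by group
      _ = d * f * d⁻¹ * z := by rw [e]
  by_cases hF1 : F = ⊥
  · intro w hw
    have hzw := hconj hzW w hw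
    have ht : w * (z * w * z⁻¹) ∈ F := by
      refine (hmemF _).2 ⟨W.mul_mem hw hzw, ?_⟩
      have e1 : z * (z * w * z⁻¹) * z⁻¹ = w := by
        have := hz2 w hw
        calc z * (z * w * z⁻¹) * z⁻¹ = (z * z) * w * (z * z)⁻¹ := by group
          _ = w := this
      have e2 : (z * w * z⁻¹) * w = w * (z * w * z⁻¹) := comm_of_sq hW2 hzw hw
      calc z * (w * (z * w * z⁻¹)) = (z * w * z⁻¹) * (z * (z * w * z⁻¹) * z⁻¹) * z := by group
        _ = (z * w * z⁻¹) * w * z := by rw [e1]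
        _ = w * (z * w * z⁻¹) * z := by rw [e2]
    rw [hF1, Subgroup.mem_bot] at ht
    have : z * w * z⁻¹ = w⁻¹ := by
      rw [eq_inv_iff_mul_eq_one, ← ht]
      exact comm_of_sq hW2 hzw hw
    rw [this, Cfsg.Agent.Lib.Helper3.JC.inv_eq_self_of_sq (hW2 w hw)]
  · have hFeq := eq_of_invariant_ne_bot hW4 hFW hF1 hdF hfpf
    intro w hw
    have : w ∈ F := by rw [hFeq]; exact hw
    rw [((hmemF w).1 this).2]; group

/-- **Centralizing lemma**: an element of `2`-power order modulo `C(W)` which commutes with the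
fixed-point-free `d` on the four-group `W` centralizes `W`. -/
theorem cent_of_comm_fpf [Finite X] {W : Subgroup X} {d : X} (hW4 : Nat.card W = 4)
    (hW2 : ∀ w ∈ W, w * w = 1) (hfpf : ∀ w ∈ W, d * w * d⁻¹ = w → w = 1)
    (hdW : d ∈ Subgroup.normalizer (W : Set X)) :
    ∀ (m : ℕ) (y : X), y ∈ Subgroup.normalizer (W : Set X) →
      (∀ w ∈ W, y * (d * w * d⁻¹) * y⁻¹ = d * (y * w * y⁻¹) * d⁻¹) →
      (∀ w ∈ W, y ^ (2 ^ m) * w * (y ^ (2 ^ m))⁻¹ = w) → ∀ w ∈ W, y * w * y⁻¹ = w := by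
  intro m
  induction m with
  | zero =>
    intro y _ _ h
    simpa using h
  | succ m ih =>
    intro y hyW hcomm hpow
    have hconj : ∀ w ∈ W, y * w * y⁻¹ ∈ W :=
      fun w hw => (Subgroup.mem_normalizer_iff.1 hyW w).1 hw
    have hyy : ∀ w ∈ W, (y * y) * w * (y * y)⁻¹ = w := by
      apply ih (y * y) (Subgroup.mul_mem _ hyW hyW)
      · intro w hw
        calc y * y * (d * w * d⁻¹) * (y * y)⁻¹ = y * (y * (d * w * d⁻¹) * y⁻¹) * y⁻¹ := by group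
          _ = y * (d * (y * w * y⁻¹) * d⁻¹) * y⁻¹ := by rw [hcomm w hw]
          _ = d * (y * (y * w * y⁻¹) * y⁻¹) * d⁻¹ := hcomm _ (hconj w hw)
          _ = d * (y * y * w * (y * y)⁻¹) * d⁻¹ := by group
      · intro w hw
        have := hpow w hw
        have e : y ^ (2 ^ (m + 1)) = (y * y) ^ (2 ^ m) := by
          rw [pow_succ', pow_mul, pow_two]
        rwa [e] at this
    exact cent_of_sq_cent hW4 hW2 hfpf hdW hyW hcomm hyy

/-- **NC lemma**: a subgroup `Y` normalizing the abelian group `Z` and commuting with `d` modulo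
`C(Z)` normalizes `W = [Z, d]` and commutes with `d` on `W`. -/
theorem le_normalizer_of_comm_cent {Z W Y : Subgroup X} {d : X}
    (hdZ : d ∈ Subgroup.normalizer (Z : Set X)) (hWZ : W ≤ Z)
    (h1 : ∀ z ∈ Z, z * d * z⁻¹ * d⁻¹ ∈ W) (h2 : ∀ w ∈ W, ∃ z ∈ Z, w = z * d * z⁻¹ * d⁻¹)
    (hYZ : Y ≤ Subgroup.normalizer (Z : Set X))
    (hYc : ∀ y ∈ Y, y * d * y⁻¹ * d⁻¹ ∈ Subgroup.centralizer (Z : Set X)) :
    Y ≤ Subgroup.normalizer (W : Set X) ∧
      ∀ y ∈ Y, ∀ w ∈ W, y * (d * w * d⁻¹) * y⁻¹ = d * (y * w * y⁻¹) * d⁻¹ := by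
  have hconjZ : ∀ {g : X}, g ∈ Subgroup.normalizer (Z : Set X) → ∀ z ∈ Z, g * z * g⁻¹ ∈ Z :=
    fun hg z hz => (Subgroup.mem_normalizer_iff.1 hg z).1 hz
  have key : ∀ y ∈ Y, ∀ w ∈ W, y * w * y⁻¹ ∈ W := by
    intro y hy w hw
    obtain ⟨z, hz, rfl⟩ := h2 w hw
    have hz' : y * z * y⁻¹ ∈ Z := hconjZ (hYZ hy) z hz
    have he : d * (y * z * y⁻¹)⁻¹ * d⁻¹ ∈ Z := hconjZ hdZ _ (Z.inv_mem hz')
    have hc := Subgroup.mem_centralizer_iff.1 (hYc y hy) _ he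
    have e : y * (z * d * z⁻¹ * d⁻¹) * y⁻¹ =
        (y * z * y⁻¹) * d * (y * z * y⁻¹)⁻¹ * d⁻¹ := by
      calc y * (z * d * z⁻¹ * d⁻¹) * y⁻¹
          = (y * z * y⁻¹) * ((y * d * y⁻¹ * d⁻¹) * (d * (y * z * y⁻¹)⁻¹ * d⁻¹)) *
              (y * d * y⁻¹ * d⁻¹)⁻¹ := by group
        _ = (y * z * y⁻¹) * ((d * (y * z * y⁻¹)⁻¹ * d⁻¹) * (y * d * y⁻¹ * d⁻¹)) *
              (y * d * y⁻¹ * d⁻¹)⁻¹ := by rw [hc]
        _ = (y * z * y⁻¹) * d * (y * z * y⁻¹)⁻¹ * d⁻¹ := by group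
    rw [e]
    exact h1 _ hz'
  refine ⟨le_normalizer_of_conj_mem key, ?_⟩
  intro y hy w hw
  have hw' : y * w * y⁻¹ ∈ Z := hWZ (key y hy w hw)
  have he : d * (y * w * y⁻¹) * d⁻¹ ∈ Z := hconjZ hdZ _ hw'
  have hc := Subgroup.mem_centralizer_iff.1 (hYc y hy) _ he
  calc y * (d * w * d⁻¹) * y⁻¹
      = ((y * d * y⁻¹ * d⁻¹) * (d * (y * w * y⁻¹) * d⁻¹)) * (y * d * y⁻¹ * d⁻¹)⁻¹ := by group
    _ = ((d * (y * w * y⁻¹) * d⁻¹) * (y * d * y⁻¹ * d⁻¹)) * (y * d * y⁻¹ * d⁻¹)⁻¹ := by rw [hc]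
    _ = d * (y * w * y⁻¹) * d⁻¹ := by group

end Cfsg.Agent.Lib.Helper9.KS
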