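import Mathlib
import Cfsg.Prelude
import Cfsg.Agent.Lib.Helper9.KTi
import Cfsg.Agent.Lib.Helper1.CX2

set_option autoImplicit false
set_option linter.unusedSectionVars false
set_option linter.unusedVariables false
set_option linter.style.longLine false
set_option linter.unusedSimpArgs false
open Cfsg

set_option maxHeartbeats 1600000
namespace Cfsg.Agent.Lib.Helper9.KS

open Cfsg.Agent.Lib.Helper1 Cfsg.Agent.Lib.Helper3.JC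
open Cfsg.Agent.Lib.Helper1.FF Cfsg.Agent.Lib.Helper1.CX
open scoped commutatorElement

variable {G : Type*} [Group G]

/-- every element of a four-group with a fixed-point-free `δ` of order `3` is a commutator. -/
theorem eq_comm_of_fpf {W : Subgroup G} {δ : G} (hW2 : ∀ w ∈ W, w * w = 1) (hδ3 : δ ^ 3 = 1)
    (hδW : δ ∈ Subgroup.normalizer (W : Set G)) (hfpf : ∀ w ∈ W, δ * w * δ⁻¹ = w → w = 1) :
    ∀ x ∈ W, x = (δ * x * δ⁻¹) * δ * (δ * x * δ⁻¹)⁻¹ * δ⁻¹ := by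
  intro x hx
  have hconj : ∀ w ∈ W, δ * w * δ⁻¹ ∈ W :=
    fun w hw => (Subgroup.mem_normalizer_iff.1 hδW w).1 hw
  have h1 := hconj x hx
  have h2 := hconj _ h1
  have hd : δ * δ * δ = 1 := by rw [← pow_three']; exact hδ3
  have hd' : δ⁻¹ = δ * δ := by
    rw [inv_eq_iff_mul_eq_one, ← mul_assoc]; exact hd
  have e3 : δ * (δ * (δ * x * δ⁻¹) * δ⁻¹) * δ⁻¹ = x := by
    calc δ * (δ * (δ * x * δ⁻¹) * δ⁻¹) * δ⁻¹ = (δ * δ * δ) * x * (δ * δ * δ)⁻¹ := by group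
      _ = x := by rw [hd]; group
  have ht : x * (δ * x * δ⁻¹) * (δ * (δ * x * δ⁻¹) * δ⁻¹) = 1 := by
    apply hfpf _ (W.mul_mem (W.mul_mem hx h1) h2)
    calc δ * (x * (δ * x * δ⁻¹) * (δ * (δ * x * δ⁻¹) * δ⁻¹)) * δ⁻¹
        = (δ * x * δ⁻¹) * (δ * (δ * x * δ⁻¹) * δ⁻¹) *
            (δ * (δ * (δ * x * δ⁻¹) * δ⁻¹) * δ⁻¹) := by group
      _ = (δ * x * δ⁻¹) * (δ * (δ * x * δ⁻¹) * δ⁻¹) * x := by rw [e3]
      _ = x * ((δ * x * δ⁻¹) * (δ * (δ * x * δ⁻¹) * δ⁻¹)) :=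
          comm_of_sq hW2 (W.mul_mem h1 h2) hx
      _ = x * (δ * x * δ⁻¹) * (δ * (δ * x * δ⁻¹) * δ⁻¹) := by group
  have hinv : (δ * x * δ⁻¹)⁻¹ = δ * x * δ⁻¹ :=
    Cfsg.Agent.Lib.Helper3.JC.inv_eq_self_of_sq (hW2 _ h1)
  have hxinv : x⁻¹ = x := Cfsg.Agent.Lib.Helper3.JC.inv_eq_self_of_sq (hW2 _ hx)
  have : (δ * x * δ⁻¹) * (δ * (δ * x * δ⁻¹) * δ⁻¹) = x⁻¹ := by
    rw [eq_inv_iff_mul_eq_one]
    calc (δ * x * δ⁻¹) * (δ * (δ * x * δ⁻¹) * δ⁻¹) * x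
        = x * ((δ * x * δ⁻¹) * (δ * (δ * x * δ⁻¹) * δ⁻¹)) :=
          comm_of_sq hW2 (W.mul_mem h1 h2) hx
      _ = 1 := by rw [← ht]; group
  calc x = x⁻¹ := hxinv.symm
    _ = (δ * x * δ⁻¹) * (δ * (δ * x * δ⁻¹) * δ⁻¹) := this.symm
    _ = (δ * x * δ⁻¹) * (δ * (δ * x * δ⁻¹)⁻¹ * δ⁻¹) := by rw [hinv]
    _ = (δ * x * δ⁻¹) * δ * (δ * x * δ⁻¹)⁻¹ * δ⁻¹ := by group

theorem map_conj_cube {δ : G} (hδ3 : δ ^ 3 = 1) (U : Subgroup G) :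
    ((U.map (MulAut.conj δ).toMonoidHom).map (MulAut.conj δ).toMonoidHom).map
      (MulAut.conj δ).toMonoidHom = U := by
  have hd : δ * δ * δ = 1 := by rw [← pow_three']; exact hδ3
  ext x
  constructor
  · rintro ⟨_, ⟨_, ⟨u, hu, rfl⟩, rfl⟩, rfl⟩
    have : (MulAut.conj δ).toMonoidHom ((MulAut.conj δ).toMonoidHom
        ((MulAut.conj δ).toMonoidHom u)) = u := by
      simp only [MulEquiv.coe_toMonoidHom, MulAut.conj_apply]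
      calc δ * (δ * (δ * u * δ⁻¹) * δ⁻¹) * δ⁻¹ = (δ * δ * δ) * u * (δ * δ * δ)⁻¹ := by group
        _ = u := by rw [hd]; group
    rw [this]; exact hu
  · intro hx
    refine ⟨_, ⟨_, ⟨x, hx, rfl⟩, rfl⟩, ?_⟩
    simp only [MulEquiv.coe_toMonoidHom, MulAut.conj_apply]
    calc δ * (δ * (δ * x * δ⁻¹) * δ⁻¹) * δ⁻¹ = (δ * δ * δ) * x * (δ * δ * δ)⁻¹ := by group
      _ = x := by rw [hd]; group

/-- **AFF**: in a failure-of-factorization setup, an operator `δ` of order `3` whose commutator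
`W = [V, δ]` has order `4` has `W` normalized by `H`. -/
theorem aff_main [Finite G] {V H Q : Subgroup G} (s : Setup 2 V H Q)
    (hS3 : H = ⨆ A : {A : Subgroup G // A ≤ H ∧ IsBestOffenderOn 2 V A}, (A : Subgroup G))
    {δ : G} (hδ3 : δ ^ 3 = 1) (hδV : δ ∈ Subgroup.normalizer (V : Set G))
    (hδH : δ ∈ Subgroup.normalizer (H : Set G)) (hδQ : δ ∈ Subgroup.normalizer (Q : Set G))
    {W : Subgroup G} (hWV : W ≤ V) (hW4 : Nat.card W = 4)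
    (hP1 : ∀ v ∈ V, v * δ * v⁻¹ * δ⁻¹ ∈ W)
    (hδW : δ ∈ Subgroup.normalizer (W : Set G))
    (hfpf : ∀ w ∈ W, δ * w * δ⁻¹ = w → w = 1) :
    H ≤ Subgroup.normalizer (W : Set G) := by
  have h2 : Fact (Nat.Prime 2) := ⟨Nat.prime_two⟩
  apply s.le_of_forall_isTrH hS3
  intro A hA
  have hUC : ⁅V, ⁅Q, A⁆ ⊔ A⁆ ⊓ (V ⊓ Subgroup.centralizer ((⁅Q, A⁆ ⊔ A : Subgroup G) : Set G)) = ⊥ :=
    hA.W_inf_centralizer
  have hUCsup : ⁅V, ⁅Q, A⁆ ⊔ A⁆ ⊔ (V ⊓ Subgroup.centralizer ((⁅Q, A⁆ ⊔ A : Subgroup G) : Set G)) = V :=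
    hA.W_sup_centralizer
  have hU4 : Nat.card ↥(⁅V, ⁅Q, A⁆ ⊔ A⁆) = 4 := by
    have := hA.card_W; simpa using this
  have hUV : ⁅V, ⁅Q, A⁆ ⊔ A⁆ ≤ V := hA.W_le_V
  have hHU : H ≤ Subgroup.normalizer ((⁅V, ⁅Q, A⁆ ⊔ A⁆ : Subgroup G) : Set G) :=
    hA.H_le_normalizer_W hS3
  have hVc : ∀ x ∈ V, ∀ y ∈ V, x * y = y * x :=
    fun x hx y hy => isElementaryAbelian_comm s.hV hx hy
  have hV2 : ∀ x ∈ V, x * x = 1 := sq_of_isElementaryAbelian s.hV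
  have hW2 : ∀ w ∈ W, w * w = 1 := fun w hw => hV2 w (hWV hw)
  have hconjV : ∀ v ∈ V, δ * v * δ⁻¹ ∈ V :=
    fun v hv => (Subgroup.mem_normalizer_iff.1 hδV v).1 hv
  have hconjW : ∀ w ∈ W, δ * w * δ⁻¹ ∈ W :=
    fun w hw => (Subgroup.mem_normalizer_iff.1 hδW w).1 hw
  have hA1 := Ops.isTrH_conj hA hδV hδH
  have hU1 := Ops.W_map_conj (V := V) (Q := Q) (A := A) hδV hδQ
  have hE1 := Ops.E_map_conj (Q := Q) (A := A) hδQ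
  by_cases hcase : (⁅V, ⁅Q, A⁆ ⊔ A⁆).map (MulAut.conj δ).toMonoidHom = ⁅V, ⁅Q, A⁆ ⊔ A⁆
  · -- `δ` normalizes the component
    have hδU : δ ∈ Subgroup.normalizer ((⁅V, ⁅Q, A⁆ ⊔ A⁆ : Subgroup G) : Set G) :=
      Ops.mem_normalizer_of_map_conj_eq hcase
    have hEeq : (⁅Q, A⁆ ⊔ A).map (MulAut.conj δ).toMonoidHom = ⁅Q, A⁆ ⊔ A := by
      rw [hE1]
      exact (hA.E_eq_of_W_eq hA1 (by rw [← hU1, hcase])).symm
    have hδE : δ ∈ Subgroup.normalizer ((⁅Q, A⁆ ⊔ A : Subgroup G) : Set G) :=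
      Ops.mem_normalizer_of_map_conj_eq hEeq
    have hconjU : ∀ u ∈ ⁅V, ⁅Q, A⁆ ⊔ A⁆, δ * u * δ⁻¹ ∈ ⁅V, ⁅Q, A⁆ ⊔ A⁆ :=
      fun u hu => (Subgroup.mem_normalizer_iff.1 hδU u).1 hu
    have hconjC : ∀ c ∈ V ⊓ Subgroup.centralizer ((⁅Q, A⁆ ⊔ A : Subgroup G) : Set G),
        δ * c * δ⁻¹ ∈ V ⊓ Subgroup.centralizer ((⁅Q, A⁆ ⊔ A : Subgroup G) : Set G) := by
      intro c hc
      refine ⟨hconjV c hc.1, Subgroup.mem_centralizer_iff.2 ?_⟩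
      intro e he
      have he' : δ⁻¹ * e * δ ∈ ⁅Q, A⁆ ⊔ A := by
        have := (Subgroup.mem_normalizer_iff.1 (Subgroup.inv_mem _ hδE) e).1 he
        simpa using this
      have hcc := Subgroup.mem_centralizer_iff.1 hc.2 _ he'
      calc e * (δ * c * δ⁻¹) = δ * ((δ⁻¹ * e * δ) * c) * δ⁻¹ := by group
        _ = δ * (c * (δ⁻¹ * e * δ)) * δ⁻¹ := by rw [hcc]
        _ = δ * c * δ⁻¹ * e := by group
    -- decomposition of `W`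
    have hdec : ∀ x ∈ W, ∃ x₁ ∈ W ⊓ ⁅V, ⁅Q, A⁆ ⊔ A⁆, ∃ x₂ ∈ W ⊓ (V ⊓
        Subgroup.centralizer ((⁅Q, A⁆ ⊔ A : Subgroup G) : Set G)), x = x₁ * x₂ := by
      intro x hx
      have hy : δ * x * δ⁻¹ ∈ V := hWV (hconjW x hx)
      have hCN : V ⊓ Subgroup.centralizer ((⁅Q, A⁆ ⊔ A : Subgroup G) : Set G) ≤
          Subgroup.normalizer ((⁅V, ⁅Q, A⁆ ⊔ A⁆ : Subgroup G) : Set G) := by
        apply le_normalizer_of_conj_mem
        intro g hg u hu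
        have : g * u * g⁻¹ = u := by
          rw [hVc g hg.1 u (hUV hu)]; group
        rw [this]; exact hu
      rw [← hUCsup, ← SetLike.mem_coe,
        Subgroup.coe_mul_of_right_le_normalizer_left _ _ hCN] at hy
      obtain ⟨u, hu, c, hc, huc⟩ := Set.mem_mul.mp hy
      have hx' := eq_comm_of_fpf hW2 hδ3 hδW hfpf x hx
      rw [← huc] at hx'
      have huV := hUV hu
      have hcV : c ∈ V := hc.1
      refine ⟨u * δ * u⁻¹ * δ⁻¹, ⟨hP1 u huV, ?_⟩, c * δ * c⁻¹ * δ⁻¹, ⟨hP1 c hcV, ?_⟩, ?_⟩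
      · have : u * δ * u⁻¹ * δ⁻¹ = u * (δ * u⁻¹ * δ⁻¹) := by group
        rw [this]
        exact Subgroup.mul_mem _ hu (hconjU _ (Subgroup.inv_mem _ hu))
      · have : c * δ * c⁻¹ * δ⁻¹ = c * (δ * c⁻¹ * δ⁻¹) := by group
        rw [this]
        exact Subgroup.mul_mem _ hc (hconjC _ (Subgroup.inv_mem _ hc))
      · rw [hx']
        have e1 : δ * u⁻¹ * δ⁻¹ ∈ V := hconjV _ (V.inv_mem huV)
        have e2 := hVc c hcV _ e1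
        calc u * c * δ * (u * c)⁻¹ * δ⁻¹ = u * (c * (δ * u⁻¹ * δ⁻¹)) * (δ * c⁻¹ * δ⁻¹) := by
              have : (u * c)⁻¹ = u⁻¹ * c⁻¹ := by
                rw [mul_inv_rev]; exact hVc _ (V.inv_mem hcV) _ (V.inv_mem huV)
              rw [this]; group
          _ = u * ((δ * u⁻¹ * δ⁻¹) * c) * (δ * c⁻¹ * δ⁻¹) := by rw [e2]
          _ = u * δ * u⁻¹ * δ⁻¹ * (c * δ * c⁻¹ * δ⁻¹) := by group
    apply le_normalizer_of_conj_mem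
    intro a ha x hx
    obtain ⟨x₁, hx₁, x₂, hx₂, rfl⟩ := hdec x hx
    have haE : a ∈ ⁅Q, A⁆ ⊔ A := (le_sup_right : A ≤ ⁅Q, A⁆ ⊔ A) ha
    have hax₂ : a * x₂ * a⁻¹ = x₂ := by
      have := Subgroup.mem_centralizer_iff.1 hx₂.2.2 a haE
      rw [this]; group
    have hsplit : a * (x₁ * x₂) * a⁻¹ = (a * x₁ * a⁻¹) * x₂ := by
      calc a * (x₁ * x₂) * a⁻¹ = (a * x₁ * a⁻¹) * (a * x₂ * a⁻¹) := by group
        _ = (a * x₁ * a⁻¹) * x₂ := by rw [hax₂]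
    rw [hsplit]
    by_cases hWU : W ⊓ ⁅V, ⁅Q, A⁆ ⊔ A⁆ = ⊥
    · rw [hWU, Subgroup.mem_bot] at hx₁
      rw [hx₁]
      simp only [mul_one, mul_inv_cancel, one_mul]
      exact hx₂.1
    · have hFW : W ⊓ ⁅V, ⁅Q, A⁆ ⊔ A⁆ = W :=
        eq_of_invariant_ne_bot hW4 inf_le_left hWU
          (fun f hf => ⟨hconjW f hf.1, hconjU f hf.2⟩) hfpf
      have hWleU : W ≤ ⁅V, ⁅Q, A⁆ ⊔ A⁆ := by rw [← hFW]; exact inf_le_right
      have hWU' : W = ⁅V, ⁅Q, A⁆ ⊔ A⁆ :=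
        Subgroup.eq_of_le_of_card_ge hWleU (by rw [hU4, hW4])
      have haU : a ∈ Subgroup.normalizer ((⁅V, ⁅Q, A⁆ ⊔ A⁆ : Subgroup G) : Set G) :=
        hHU (hA.hAH ha)
      refine W.mul_mem ?_ hx₂.1
      rw [hWU']
      exact (Subgroup.mem_normalizer_iff.1 haU x₁).1 hx₁.2
  · -- three distinct components: impossible
    exfalso
    have hA2 := Ops.isTrH_conj hA1 hδV hδH
    have hU2 := Ops.W_map_conj (V := V) (Q := Q) (A := A.map (MulAut.conj δ).toMonoidHom) hδV hδQ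
    have hne1 : ⁅V, ⁅Q, A.map (MulAut.conj δ).toMonoidHom⁆ ⊔ A.map (MulAut.conj δ).toMonoidHom⁆ ≠
        ⁅V, ⁅Q, A⁆ ⊔ A⁆ := by rw [← hU1]; exact hcase
    have hne2 : ⁅V, ⁅Q, (A.map (MulAut.conj δ).toMonoidHom).map (MulAut.conj δ).toMonoidHom⁆ ⊔
        (A.map (MulAut.conj δ).toMonoidHom).map (MulAut.conj δ).toMonoidHom⁆ ≠
        ⁅V, ⁅Q, A⁆ ⊔ A⁆ := by
      rw [← hU2, ← hU1]
      intro h
      apply hcase
      have := map_conj_cube hδ3 ⁅V, ⁅Q, A⁆ ⊔ A⁆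
      rw [h] at this
      exact this
    have hne12 : ⁅V, ⁅Q, A.map (MulAut.conj δ).toMonoidHom⁆ ⊔ A.map (MulAut.conj δ).toMonoidHom⁆ ≠
        ⁅V, ⁅Q, (A.map (MulAut.conj δ).toMonoidHom).map (MulAut.conj δ).toMonoidHom⁆ ⊔
        (A.map (MulAut.conj δ).toMonoidHom).map (MulAut.conj δ).toMonoidHom⁆ := by
      rw [← hU2, ← hU1]
      intro h
      apply hcase
      have h3 := map_conj_cube hδ3 ⁅V, ⁅Q, A⁆ ⊔ A⁆
      rw [← h, ← h] at h3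
      exact h3
    have hc1 := hA1.E_le_centralizer_W hA hne1
    have hc2 := hA2.E_le_centralizer_W hA hne2
    have hinf := hA1.W_inf hA2 hne12
    rw [← hU1] at hc1 hinf
    rw [← hU2, ← hU1] at hc2 hinf
    have hU1V : (⁅V, ⁅Q, A⁆ ⊔ A⁆).map (MulAut.conj δ).toMonoidHom ≤ V := by
      rw [hU1]; exact hA1.W_le_V
    have hU2V : ((⁅V, ⁅Q, A⁆ ⊔ A⁆).map (MulAut.conj δ).toMonoidHom).map
        (MulAut.conj δ).toMonoidHom ≤ V := by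
      rw [hU1, hU2]; exact hA2.W_le_V
    have hU1C : (⁅V, ⁅Q, A⁆ ⊔ A⁆).map (MulAut.conj δ).toMonoidHom ≤
        V ⊓ Subgroup.centralizer ((⁅Q, A⁆ ⊔ A : Subgroup G) : Set G) :=
      le_inf hU1V (Subgroup.le_centralizer_iff.1 hc1)
    have hU2C : ((⁅V, ⁅Q, A⁆ ⊔ A⁆).map (MulAut.conj δ).toMonoidHom).map
        (MulAut.conj δ).toMonoidHom ≤
        V ⊓ Subgroup.centralizer ((⁅Q, A⁆ ⊔ A : Subgroup G) : Set G) :=
      le_inf hU2V (Subgroup.le_centralizer_iff.1 hc2)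
    -- the map `u₁ ↦ [u₁, δ]`
    let f₁ : ↥((⁅V, ⁅Q, A⁆ ⊔ A⁆).map (MulAut.conj δ).toMonoidHom) → ↥W :=
      fun u => ⟨(u : G) * δ * (u : G)⁻¹ * δ⁻¹, hP1 _ (hU1V u.2)⟩
    have hinj : Function.Injective f₁ := by
      intro u u' huu
      have e : (u : G) * δ * (u : G)⁻¹ * δ⁻¹ = (u' : G) * δ * (u' : G)⁻¹ * δ⁻¹ :=
        congrArg Subtype.val huu
      have ht1 : (u' : G)⁻¹ * (u : G) ∈ (⁅V, ⁅Q, A⁆ ⊔ A⁆).map (MulAut.conj δ).toMonoidHom :=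
        Subgroup.mul_mem _ (Subgroup.inv_mem _ u'.2) u.2
      have ht : (u' : G)⁻¹ * (u : G) = δ * ((u' : G)⁻¹ * (u : G)) * δ⁻¹ := by
        calc (u' : G)⁻¹ * (u : G)
            = (u' : G)⁻¹ * ((u : G) * δ * (u : G)⁻¹ * δ⁻¹) * (δ * (u : G) * δ⁻¹) := by group
          _ = (u' : G)⁻¹ * ((u' : G) * δ * (u' : G)⁻¹ * δ⁻¹) * (δ * (u : G) * δ⁻¹) := by rw [e]
          _ = δ * ((u' : G)⁻¹ * (u : G)) * δ⁻¹ := by group
      have ht2 : (u' : G)⁻¹ * (u : G) ∈ ((⁅V, ⁅Q, A⁆ ⊔ A⁆).map (MulAut.conj δ).toMonoidHom).map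
          (MulAut.conj δ).toMonoidHom := by
        rw [ht]; exact ⟨_, ht1, rfl⟩
      have : (u' : G)⁻¹ * (u : G) ∈ (⊥ : Subgroup G) := by
        rw [← hinf]; exact ⟨ht1, ht2⟩
      rw [Subgroup.mem_bot, inv_mul_eq_one] at this
      exact Subtype.ext this.symm
    have hcard1 : Nat.card ↥((⁅V, ⁅Q, A⁆ ⊔ A⁆).map (MulAut.conj δ).toMonoidHom) = 4 := by
      rw [Subgroup.card_map_of_injective (MulAut.conj δ).injective, hU4]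
    have hbij := hinj.bijective_of_nat_card_le (by rw [hcard1, hW4])
    -- a nontrivial element of `U`
    obtain ⟨u, hu, hu1⟩ : ∃ u ∈ ⁅V, ⁅Q, A⁆ ⊔ A⁆, u ≠ 1 := by
      by_contra hcon
      push Not at hcon
      have : ⁅V, ⁅Q, A⁆ ⊔ A⁆ = ⊥ := by
        rw [eq_bot_iff]; intro x hx; rw [Subgroup.mem_bot]; exact hcon x hx
      rw [this, Subgroup.card_bot] at hU4
      omega
    obtain ⟨u₁, hu₁⟩ := hbij.2 ⟨u * δ * u⁻¹ * δ⁻¹, hP1 u (hUV hu)⟩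
    have e : (u₁ : G) * δ * (u₁ : G)⁻¹ * δ⁻¹ = u * δ * u⁻¹ * δ⁻¹ := congrArg Subtype.val hu₁
    have hxC : u * δ * u⁻¹ * δ⁻¹ ∈
        V ⊓ Subgroup.centralizer ((⁅Q, A⁆ ⊔ A : Subgroup G) : Set G) := by
      rw [← e]
      have : (u₁ : G) * δ * (u₁ : G)⁻¹ * δ⁻¹ = (u₁ : G) * (δ * (u₁ : G)⁻¹ * δ⁻¹) := by group
      rw [this]
      exact Subgroup.mul_mem _ (hU1C u₁.2)
        (hU2C ⟨_, Subgroup.inv_mem _ u₁.2, rfl⟩)
    have huC : u ∈ V ⊓ Subgroup.centralizer ((⁅Q, A⁆ ⊔ A : Subgroup G) : Set G) := by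
      have h1 : δ * u * δ⁻¹ ∈ V ⊓ Subgroup.centralizer ((⁅Q, A⁆ ⊔ A : Subgroup G) : Set G) :=
        hU1C ⟨u, hu, rfl⟩
      have : u = (u * δ * u⁻¹ * δ⁻¹) * (δ * u * δ⁻¹) := by group
      rw [this]
      exact Subgroup.mul_mem _ hxC h1
    have : u ∈ (⊥ : Subgroup G) := by rw [← hUC]; exact ⟨hu, huC⟩
    exact hu1 (Subgroup.mem_bot.1 this)

end Cfsg.Agent.Lib.Helper9.KS
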