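import Mathlib
import Cfsg.Prelude
import Cfsg.Agent.Lib.Helper9.KTj
import Cfsg.Agent.Lib.Helper9.KSm

set_option autoImplicit false
set_option linter.unusedSectionVars false
set_option linter.unusedVariables false
set_option linter.style.longLine false
set_option linter.unusedSimpArgs false
open Cfsg

set_option maxHeartbeats 1600000
namespace Cfsg.Agent.Lib.Helper9.KS

open Cfsg.Agent.Lib.Helper1 Cfsg.Agent.Lib.Helper3.JC
open Cfsg.Agent.Lib.Helper1.FF Cfsg.Agent.Lib.Helper1.TF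
open scoped commutatorElement

/-- **AL**: in a finite `2`-solvable group `X` with a normal elementary abelian `2`-subgroup `V`
on which `X` acts with `O₂(X/C_X(V)) = 1`, if `d` has order `3` and `W = [V, d]` has order `4`,
then the Thompson subgroup of `X` normalizes `W`. -/
theorem al_main {X : Type*} [Group X] [Finite X] (V : Subgroup X) [hVn : V.Normal]
    (hVea : IsElementaryAbelian 2 V) (hsep : IsPSolvable 2 X)
    (hOp : ∀ D : Subgroup X, D.Normal → Subgroup.centralizer (V : Set X) ≤ D →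
      (∃ k : ℕ, (Subgroup.centralizer (V : Set X)).relIndex D = 2 ^ k) →
      D = Subgroup.centralizer (V : Set X))
    {d : X} (hd3 : d ^ 3 = 1) {W : Subgroup X} (hWV : W ≤ V) (hW4 : Nat.card W = 4)
    (hP1 : ∀ v ∈ V, v * d * v⁻¹ * d⁻¹ ∈ W)
    (hdW : d ∈ Subgroup.normalizer (W : Set X))
    (hfpf : ∀ w ∈ W, d * w * d⁻¹ = w → w = 1) :
    thompsonSubgroup 2 X ≤ Subgroup.normalizer (W : Set X) := by
  have h2 : Fact (Nat.Prime 2) := ⟨Nat.prime_two⟩
  have hJchar := thompsonSubgroup_characteristic 2 X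
  haveI hJn : (thompsonSubgroup 2 X).Normal := inferInstance
  have s := setup_tr V hVea hsep (thompsonSubgroup 2 X) hOp
  have hS3 : tr V (thompsonSubgroup 2 X) = ⨆ A' : {A' : Subgroup (Amb V) //
      A' ≤ tr V (thompsonSubgroup 2 X) ∧ IsBestOffenderOn 2 (VV V) A'},
      (A' : Subgroup (Amb V)) :=
    tr_generated V (maxElementaryAbelianSubgroups 2 X)
      (fun A hA => isBestOffenderOn_of_mem_max V hVea A hA)
  have hmemW' : ∀ x : Amb V, x ∈ (W.subgroupOf V).map (SemidirectProduct.inl : ↥V →* Amb V) ↔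
      ∃ v : ↥V, (v : X) ∈ W ∧ SemidirectProduct.inl v = x := by
    intro x
    constructor
    · rintro ⟨v, hv, rfl⟩
      exact ⟨v, Subgroup.mem_subgroupOf.1 hv, rfl⟩
    · rintro ⟨v, hv, rfl⟩
      exact ⟨v, Subgroup.mem_subgroupOf.2 hv, rfl⟩
  have hconjV : ∀ (g : X) (v : ↥V), g * (v : X) * g⁻¹ ∈ V :=
    fun g v => hVn.conj_mem v v.2 g
  have htc : ∀ (g : X) (v : ↥V), tau V g * SemidirectProduct.inl v * (tau V g)⁻¹ =
      SemidirectProduct.inl (⟨g * (v : X) * g⁻¹, hconjV g v⟩ : ↥V) := by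
    intro g v
    rw [tau_conj]
    congr 1
  have hδ3 : tau V d ^ 3 = 1 := by rw [← map_pow, hd3, map_one]
  have hδV : tau V d ∈ Subgroup.normalizer (VV V : Set (Amb V)) :=
    tr_le_normalizer V ⊤ ⟨d, Subgroup.mem_top d, rfl⟩
  have hδH : tau V d ∈ Subgroup.normalizer (tr V (thompsonSubgroup 2 X) : Set (Amb V)) := by
    apply mem_normalizer_of_conj
    · intro b hb
      exact tau_conj_mem_tr V d hb
    · intro b hb
      have := tau_conj_mem_tr V d⁻¹ hb
      rwa [map_inv, inv_inv] at this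
  have hch : (Cfsg.pPrimeCore 2 ↥(tr V (thompsonSubgroup 2 X))).Characteristic :=
    Cfsg.Agent.Lib.Helper2.pPrimeCore_characteristic 2
  have hδQ := normalizer_le_normalizer_map_characteristic _
    (Cfsg.pPrimeCore 2 ↥(tr V (thompsonSubgroup 2 X))) hδH
  have hW'V : (W.subgroupOf V).map (SemidirectProduct.inl : ↥V →* Amb V) ≤ VV V := by
    rintro _ ⟨v, -, rfl⟩
    exact ⟨v, rfl⟩
  have hW'4 : Nat.card ↥((W.subgroupOf V).map (SemidirectProduct.inl : ↥V →* Amb V)) = 4 := by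
    rw [Subgroup.card_map_of_injective SemidirectProduct.inl_injective, ← hW4]
    exact Nat.card_congr (Subgroup.subgroupOfEquivOfLe hWV).toEquiv
  have hP1' : ∀ v ∈ VV V, v * tau V d * v⁻¹ * (tau V d)⁻¹ ∈
      (W.subgroupOf V).map (SemidirectProduct.inl : ↥V →* Amb V) := by
    rintro _ ⟨v, rfl⟩
    rw [hmemW']
    refine ⟨⟨(v : X) * d * (v : X)⁻¹ * d⁻¹, hWV (hP1 v v.2)⟩, hP1 v v.2, ?_⟩
    have e1 : SemidirectProduct.inl v * tau V d * (SemidirectProduct.inl v)⁻¹ * (tau V d)⁻¹ =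
        SemidirectProduct.inl v * (tau V d * SemidirectProduct.inl v⁻¹ * (tau V d)⁻¹) := by
      rw [map_inv]; group
    show _ = (SemidirectProduct.inl : ↥V →* Amb V) v * tau V d *
      ((SemidirectProduct.inl : ↥V →* Amb V) v)⁻¹ * (tau V d)⁻¹
    rw [e1, htc, ← map_mul]
    congr 1
    apply Subtype.ext
    show (v : X) * d * (v : X)⁻¹ * d⁻¹ = (v : X) * (d * ((v⁻¹ : ↥V) : X) * d⁻¹)
    rw [Subgroup.coe_inv]; group
  have hδW' : tau V d ∈ Subgroup.normalizer
      (((W.subgroupOf V).map (SemidirectProduct.inl : ↥V →* Amb V) : Subgroup (Amb V)) :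
        Set (Amb V)) := by
    have hconjW : ∀ {g : X}, g ∈ Subgroup.normalizer (W : Set X) → ∀ w ∈ W, g * w * g⁻¹ ∈ W :=
      fun hg w hw => (Subgroup.mem_normalizer_iff.1 hg w).1 hw
    apply mem_normalizer_of_conj
    · intro b hb
      obtain ⟨v, hv, rfl⟩ := (hmemW' b).1 hb
      rw [htc, hmemW']
      exact ⟨_, hconjW hdW _ hv, rfl⟩
    · intro b hb
      obtain ⟨v, hv, rfl⟩ := (hmemW' b).1 hb
      have := htc d⁻¹ v
      rw [map_inv, inv_inv] at this
      rw [this, hmemW']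
      refine ⟨_, ?_, rfl⟩
      have := hconjW (Subgroup.inv_mem _ hdW) _ hv
      simpa using this
  have hfpf' : ∀ w ∈ (W.subgroupOf V).map (SemidirectProduct.inl : ↥V →* Amb V),
      tau V d * w * (tau V d)⁻¹ = w → w = 1 := by
    intro w hw hfix
    obtain ⟨v, hv, rfl⟩ := (hmemW' w).1 hw
    rw [htc] at hfix
    have e := SemidirectProduct.inl_injective hfix
    have e' : d * (v : X) * d⁻¹ = (v : X) := congrArg Subtype.val e
    have hv1 := hfpf _ hv e'
    have : v = 1 := Subtype.ext hv1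
    rw [this, map_one]
  have key := aff_main s hS3 hδ3 hδV hδH hδQ hW'V hW'4 hP1' hδW' hfpf'
  apply le_normalizer_of_conj_mem
  intro j hj w hw
  have hjt : tau V j ∈ tr V (thompsonSubgroup 2 X) := ⟨j, hj, rfl⟩
  have hn := key hjt
  have h1 := (Subgroup.mem_normalizer_iff.1 hn
    (SemidirectProduct.inl (⟨w, hWV hw⟩ : ↥V))).1 ((hmemW' _).2 ⟨⟨w, hWV hw⟩, hw, rfl⟩)
  rw [htc] at h1
  obtain ⟨v, hv, he⟩ := (hmemW' _).1 h1
  have e := SemidirectProduct.inl_injective he
  have e' : (v : X) = j * w * j⁻¹ := congrArg Subtype.val e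
  rw [← e']; exact hv

end Cfsg.Agent.Lib.Helper9.KS
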