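import Mathlib
import Cfsg.Prelude
import Cfsg.Agent.Lib.Helper9.KTk
import Cfsg.Agent.Lib.Helper9.KSz

set_option autoImplicit false
set_option linter.unusedSectionVars false
set_option linter.unusedVariables false
set_option linter.style.longLine false
set_option linter.unusedSimpArgs false
open Cfsg

set_option maxHeartbeats 1600000
namespace Cfsg.Agent.Lib.Helper9.KS

open Cfsg.Agent.Lib.Helper1 Cfsg.Agent.Lib.Helper3.JC
open Cfsg.Agent.Lib.Helper1.FF Cfsg.Agent.Lib.Helper1.TF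
open scoped commutatorElement

/-- the quotient argument: a normal subgroup `D` which is a `2`-group modulo `C` commutes modulo
`C` with the element `d` of order `3` of a subnormal subgroup `K = (K ∩ C)⟨d⟩`. -/
theorem comm_mem_of_subnormal {X : Type*} [Group X] [Finite X] {K D C : Subgroup X} {d : X}
    (hKsn : K.IsSubnormal) [hCn : C.Normal] [hDn : D.Normal] (hCD : C ≤ D)
    {k : ℕ} (hk : C.relIndex D = 2 ^ k) (hdK : d ∈ K) (hd3 : d ^ 3 = 1)
    (hKd : ∀ x ∈ K, ∃ q ∈ C, ∃ n : ℕ, x = q * d ^ n) :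
    ∀ y ∈ D, y * d * y⁻¹ * d⁻¹ ∈ C := by
  intro y hy
  have hsurj := QuotientGroup.mk'_surjective C
  have hKbar : (K.map (QuotientGroup.mk' C)).IsSubnormal := hKsn.map hsurj
  haveI hRn : (D.map (QuotientGroup.mk' C)).Normal := hDn.map _ hsurj
  have hpow : ∀ x ∈ D, (QuotientGroup.mk' C x) ^ (2 ^ k) = 1 := by
    intro x hx
    rw [← map_pow, ← hk]
    exact (QuotientGroup.eq_one_iff _).2 (Subgroup.pow_relIndex_mem C hx)
  have hR2 : IsPGroup 2 ↥(D.map (QuotientGroup.mk' C)) := by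
    rintro ⟨_, x, hx, rfl⟩
    refine ⟨k, ?_⟩
    apply Subtype.ext
    rw [Subgroup.coe_pow]
    exact hpow x hx
  have hcube : ∀ x ∈ K, (QuotientGroup.mk' C x) ^ 3 = 1 := by
    intro x hx
    obtain ⟨q, hq, n, rfl⟩ := hKd x hx
    have hq1 : QuotientGroup.mk' C q = 1 := (QuotientGroup.eq_one_iff _).2 hq
    rw [map_mul, hq1, one_mul, map_pow, ← pow_mul, mul_comm, pow_mul, ← map_pow, hd3, map_one,
      one_pow]
  -- the conjugate of `d` by `y`, modulo `C`
  have hx1 : QuotientGroup.mk' C (y * d * y⁻¹) ∈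
      K.map (QuotientGroup.mk' C) ⊔ D.map (QuotientGroup.mk' C) := by
    rw [map_mul, map_mul]
    exact Subgroup.mul_mem _ (Subgroup.mul_mem _
      (Subgroup.mem_sup_right ⟨y, hy, rfl⟩) (Subgroup.mem_sup_left ⟨d, hdK, rfl⟩))
      (Subgroup.mem_sup_right ⟨y⁻¹, D.inv_mem hy, rfl⟩)
  have hx3 : (QuotientGroup.mk' C (y * d * y⁻¹)) ^ 3 = 1 := by
    rw [← map_pow, conj_pow, hd3]
    simp
  have hxK := odd_mem_of_subnormal hKbar hR2 _ hx1 (odd_orderOf_of_pow_three hx3)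
  have hcK : QuotientGroup.mk' C (y * d * y⁻¹ * d⁻¹) ∈ K.map (QuotientGroup.mk' C) := by
    rw [map_mul]
    exact Subgroup.mul_mem _ hxK ⟨d⁻¹, K.inv_mem hdK, rfl⟩
  have hcD : y * d * y⁻¹ * d⁻¹ ∈ D := by
    have : y * d * y⁻¹ * d⁻¹ = y * (d * y⁻¹ * d⁻¹) := by group
    rw [this]
    exact D.mul_mem hy (hDn.conj_mem _ (D.inv_mem hy) d)
  obtain ⟨x, hxK', hxe⟩ := hcK
  have h3 : (QuotientGroup.mk' C (y * d * y⁻¹ * d⁻¹)) ^ 3 = 1 := by
    rw [← hxe]; exact hcube x hxK'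
  have h2 := hpow _ hcD
  have h1 := eq_one_of_pow_two_pow_of_pow_odd h2 h3 (by decide)
  exact (QuotientGroup.eq_one_iff _).1 h1

/-- a normal subgroup centralizing `W` centralizes the normal closure of `W`. -/
theorem le_centralizer_normalClosure {X : Type*} [Group X] {D W : Subgroup X} [hDn : D.Normal]
    (h : ∀ y ∈ D, ∀ w ∈ W, y * w * y⁻¹ = w) :
    D ≤ Subgroup.centralizer ((Subgroup.normalClosure (W : Set X) : Subgroup X) : Set X) := by
  unfold Subgroup.normalClosure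
  rw [Subgroup.centralizer_closure]
  intro y hy
  rw [Subgroup.mem_centralizer_iff]
  intro s hs
  obtain ⟨w, hw, hconj⟩ := Group.mem_conjugatesOfSet_iff.1 hs
  obtain ⟨g, rfl⟩ := isConj_iff.1 hconj
  have h1 := h (g⁻¹ * y * g) (by
    have := hDn.conj_mem y hy g⁻¹
    simpa using this) w hw
  calc g * w * g⁻¹ * y = g * (w * (g⁻¹ * y * g)) * g⁻¹ := by group
    _ = g * ((g⁻¹ * y * g) * w * (g⁻¹ * y * g)⁻¹ * (g⁻¹ * y * g)) * g⁻¹ := by rw [h1]
    _ = y * (g * w * g⁻¹) := by group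

end Cfsg.Agent.Lib.Helper9.KS
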