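import Mathlib
import Cfsg.Prelude
import Cfsg.Agent.Lib.Helper9.KTl
import Cfsg.Agent.Lib.Helper9.KSx
import Cfsg.Agent.Lib.Helper9.KSw

set_option autoImplicit false
set_option linter.unusedSectionVars false
set_option linter.unusedVariables false
set_option linter.style.longLine false
set_option linter.unusedSimpArgs false
open Cfsg

set_option maxHeartbeats 1600000
namespace Cfsg.Agent.Lib.Helper9.KS

open Cfsg.Agent.Lib.Helper1 Cfsg.Agent.Lib.Helper3.JC
open Cfsg.Agent.Lib.Helper1.FF Cfsg.Agent.Lib.Helper1.TF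
open scoped commutatorElement

/-- **ABS**: the abstract form of statement S2945.  In a finite `2`-solvable group `X`, let `K`
be a subnormal subgroup generated by odd-order elements with `K = P⟨d⟩`, `P = O₂(K)`, `d` of
order `3`, and let `W ≤ Ω₁Z(P)` be a four-group with `[Ω₁Z(P), d] ≤ W` on which `d` acts
fixed-point-freely.  Then the Thompson subgroup of `X` normalizes `W`. -/
theorem abs_main {X : Type*} [Group X] [Finite X] (hsep : IsPSolvable 2 X)
    {K P W : Subgroup X} {d : X} (hKsn : K.IsSubnormal)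
    (hKodd : Subgroup.closure {g : X | g ∈ K ∧ Odd (orderOf g)} = K)
    (hP2 : IsPGroup 2 ↥P) (hPK : P ≤ K) (hKP : K ≤ Subgroup.normalizer (P : Set X))
    (hPmax : ∀ k ∈ K, (∃ m : ℕ, k ^ (2 ^ m) = 1) → k ∈ P)
    (hdK : d ∈ K) (hd3 : d ^ 3 = 1)
    (hKd : ∀ k ∈ K, ∃ q ∈ P, ∃ n : ℕ, k = q * d ^ n)
    (hWP : W ≤ P) (hWc : ∀ w ∈ W, ∀ q ∈ P, q * w = w * q) (hW2 : ∀ w ∈ W, w * w = 1)
    (hW4 : Nat.card W = 4) (hdW : d ∈ Subgroup.normalizer (W : Set X))
    (hfpf : ∀ w ∈ W, d * w * d⁻¹ = w → w = 1)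
    (hU : ∀ u ∈ P, (∀ q ∈ P, q * u = u * q) → u * u = 1 → u * d * u⁻¹ * d⁻¹ ∈ W) :
    thompsonSubgroup 2 X ≤ Subgroup.normalizer (W : Set X) := by
  have h2 : Fact (Nat.Prime 2) := ⟨Nat.prime_two⟩
  -- `R = O₂(X)`
  haveI hRn : (pCore 2 X).Normal := Cfsg.Agent.Lib.Helper1.pCore_normal 2
  have hR2 : IsPGroup 2 ↥(pCore 2 X) := Cfsg.Agent.Lib.Helper1.pCore_isPGroup 2
  have hPR : P ≤ pCore 2 X := le_pCore_of_subnormal hKsn P hP2 hPK hKP
  have hRK : pCore 2 X ≤ Subgroup.normalizer (K : Set X) :=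
    le_normalizer_of_subnormal hKsn hR2 hKodd
  have hconjK : ∀ r ∈ pCore 2 X, ∀ k ∈ K, r * k * r⁻¹ ∈ K :=
    fun r hr k hk => (Subgroup.mem_normalizer_iff.1 (hRK hr) k).1 hk
  have hdconjW : ∀ w ∈ W, d * w * d⁻¹ ∈ W :=
    fun w hw => (Subgroup.mem_normalizer_iff.1 hdW w).1 hw
  -- `R` normalizes `P`
  have hRP : pCore 2 X ≤ Subgroup.normalizer (P : Set X) := by
    apply le_normalizer_of_conj_mem
    intro r hr p hp
    apply hPmax _ (hconjK r hr p (hPK hp))
    obtain ⟨m, hm⟩ := (hP2.to_le le_rfl) ⟨p, hp⟩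
    refine ⟨m, ?_⟩
    have hm' : p ^ (2 ^ m) = 1 := by
      have := congrArg Subtype.val hm
      simpa using this
    rw [conj_pow, hm']; group
  -- the groups `Ω₁Z(P)`
  have hNzKP : Nz K P := nz_of_le_normalizer hKP
  have hdZP : d ∈ Subgroup.normalizer (omegaCenterOf P : Set X) :=
    (nz_omegaCenterOf hNzKP).le_normalizer hdK
  have hRZP : pCore 2 X ≤ Subgroup.normalizer (omegaCenterOf P : Set X) :=
    (nz_omegaCenterOf (nz_of_le_normalizer hRP)).le_normalizer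
  have hWZP : W ≤ omegaCenterOf P :=
    fun w hw => mem_omegaCenterOf (hWP hw) (hWc w hw) (hW2 w hw)
  have hZPcent : ∀ z ∈ omegaCenterOf P, ∀ q ∈ P, q * z = z * q := by
    intro z hz q hq
    exact Subgroup.mem_centralizer_iff.1 ((omegaCenterOf_le P) hz).2 q hq
  have h1ZP : ∀ z ∈ omegaCenterOf P, z * d * z⁻¹ * d⁻¹ ∈ W := by
    intro z hz
    exact hU z ((omegaCenterOf_le P) hz).1 (hZPcent z hz) (omegaCenterOf_sq P z hz)
  have h2W : ∀ {Z : Subgroup X}, W ≤ Z → ∀ w ∈ W, ∃ z ∈ Z, w = z * d * z⁻¹ * d⁻¹ := by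
    intro Z hWZ w hw
    exact ⟨d * w * d⁻¹, hWZ (hdconjW w hw), eq_comm_of_fpf hW2 hd3 hdW hfpf w hw⟩
  -- `R` centralizes `W`
  have hRc : ∀ r ∈ pCore 2 X, r * d * r⁻¹ * d⁻¹ ∈
      Subgroup.centralizer (omegaCenterOf P : Set X) := by
    intro r hr
    have hcK : r * d * r⁻¹ * d⁻¹ ∈ K := K.mul_mem (hconjK r hr d hdK) (K.inv_mem hdK)
    have hcR : r * d * r⁻¹ * d⁻¹ ∈ pCore 2 X := by
      have : r * d * r⁻¹ * d⁻¹ = r * (d * r⁻¹ * d⁻¹) := by group
      rw [this]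
      exact Subgroup.mul_mem _ hr (hRn.conj_mem _ (Subgroup.inv_mem _ hr) d)
    have hcP : r * d * r⁻¹ * d⁻¹ ∈ P := by
      apply hPmax _ hcK
      obtain ⟨m, hm⟩ := hR2 ⟨_, hcR⟩
      refine ⟨m, ?_⟩
      have := congrArg Subtype.val hm
      simpa using this
    rw [Subgroup.mem_centralizer_iff]
    intro z hz
    exact (hZPcent z hz _ hcP).symm
  obtain ⟨hRNW, hRcomm⟩ := le_normalizer_of_comm_cent hdZP hWZP h1ZP (h2W hWZP) hRZP hRc
  have hRW : ∀ r ∈ pCore 2 X, ∀ w ∈ W, r * w * r⁻¹ = w := by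
    intro r hr
    obtain ⟨m, hm⟩ := hR2 ⟨r, hr⟩
    have hm' : r ^ (2 ^ m) = 1 := by
      have := congrArg Subtype.val hm
      simpa using this
    apply cent_of_comm_fpf hW4 hW2 hfpf hdW m r (hRNW hr) (hRcomm r hr)
    intro w hw
    rw [hm']; group
  -- `W ≤ Ω₁Z(R)`, `V = ⟨W^X⟩`
  have hWZR : W ≤ omegaCenterOf (pCore 2 X) := by
    intro w hw
    apply mem_omegaCenterOf (hPR (hWP hw)) _ (hW2 w hw)
    intro r hr
    have := hRW r hr w hw
    calc r * w = (r * w * r⁻¹) * r := by group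
      _ = w * r := by rw [this]
  haveI hZRn : (omegaCenterOf (pCore 2 X)).Normal := by
    have hnz : Nz (⊤ : Subgroup X) (pCore 2 X) :=
      fun l _ x hx => hRn.conj_mem x hx l
    have := (nz_omegaCenterOf hnz).le_normalizer
    rw [← Subgroup.normalizer_eq_top_iff]
    exact top_le_iff.1 this
  have hVZR : Subgroup.normalClosure (W : Set X) ≤ omegaCenterOf (pCore 2 X) :=
    Subgroup.normalClosure_le_normal hWZR
  have hWV : W ≤ Subgroup.normalClosure (W : Set X) := Subgroup.le_normalClosure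
  haveI hVn : (Subgroup.normalClosure (W : Set X)).Normal := Subgroup.normalClosure_normal
  have hV2 : ∀ v ∈ Subgroup.normalClosure (W : Set X), v * v = 1 :=
    fun v hv => omegaCenterOf_sq _ v (hVZR hv)
  have hVea : IsElementaryAbelian 2 (Subgroup.normalClosure (W : Set X)) :=
    isElementaryAbelian_of_sq hV2
  have hVR : Subgroup.normalClosure (W : Set X) ≤ pCore 2 X :=
    fun v hv => ((omegaCenterOf_le _) (hVZR hv)).1
  have hRcV : ∀ r ∈ pCore 2 X, ∀ v ∈ Subgroup.normalClosure (W : Set X), r * v = v * r := by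
    intro r hr v hv
    exact Subgroup.mem_centralizer_iff.1 ((omegaCenterOf_le _) (hVZR hv)).2 r hr
  have hVc : ∀ x ∈ Subgroup.normalClosure (W : Set X),
      ∀ y ∈ Subgroup.normalClosure (W : Set X), x * y = y * x :=
    fun x hx y hy => comm_of_sq hV2 hx hy
  have hdV : d ∈ Subgroup.normalizer ((Subgroup.normalClosure (W : Set X) : Subgroup X) : Set X) := by
    rw [Subgroup.normalizer_eq_top_iff.2 hVn]; exact Subgroup.mem_top d
  -- `[V, d] ≤ W`
  have hP1 : ∀ v ∈ Subgroup.normalClosure (W : Set X), v * d * v⁻¹ * d⁻¹ ∈ W := by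
    intro v hv
    have hxV : v * d * v⁻¹ * d⁻¹ ∈ Subgroup.normalClosure (W : Set X) := by
      have : v * d * v⁻¹ * d⁻¹ = v * (d * v⁻¹ * d⁻¹) := by group
      rw [this]
      exact Subgroup.mul_mem _ hv (hVn.conj_mem _ (Subgroup.inv_mem _ hv) d)
    have hxK : v * d * v⁻¹ * d⁻¹ ∈ K :=
      K.mul_mem (hconjK v (hVR hv) d hdK) (K.inv_mem hdK)
    have hxP : v * d * v⁻¹ * d⁻¹ ∈ P := by
      apply hPmax _ hxK
      refine ⟨1, ?_⟩
      rw [pow_one, pow_two]; exact hV2 _ hxV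
    have hxZP : v * d * v⁻¹ * d⁻¹ ∈ omegaCenterOf P := by
      apply mem_omegaCenterOf hxP _ (hV2 _ hxV)
      intro q hq
      exact hRcV q (hPR hq) _ hxV
    -- the trace identity
    have htr := trace_commutator (Z := Subgroup.normalClosure (W : Set X))
      (K := Subgroup.zpowers d) hVc hd3 hdV (by
        intro k hk
        obtain ⟨n, rfl⟩ := exists_nat_pow_of_mem_zpowers hd3 hk
        exact ⟨1, Subgroup.one_mem _, n, by simp⟩) (v * d * v⁻¹ * d⁻¹) (by
        have := Subgroup.commutator_mem_commutator hv (Subgroup.mem_zpowers d)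
        rwa [commutatorElement_def] at this)
    have hu : d * (v * d * v⁻¹ * d⁻¹) * d⁻¹ ∈ omegaCenterOf P :=
      (Subgroup.mem_normalizer_iff.1 hdZP _).1 hxZP
    have h3 := h1ZP _ hu
    have hxinv : (v * d * v⁻¹ * d⁻¹)⁻¹ = v * d * v⁻¹ * d⁻¹ :=
      Cfsg.Agent.Lib.Helper3.JC.inv_eq_self_of_sq (hV2 _ hxV)
    have e : d * (v * d * v⁻¹ * d⁻¹) * d⁻¹ * d * (d * (v * d * v⁻¹ * d⁻¹) * d⁻¹)⁻¹ * d⁻¹ =
        v * d * v⁻¹ * d⁻¹ := by
      have e1 : (d * (v * d * v⁻¹ * d⁻¹) * d⁻¹)⁻¹ = d * (v * d * v⁻¹ * d⁻¹) * d⁻¹ := by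
        rw [mul_inv_rev, mul_inv_rev, inv_inv, hxinv]; group
      rw [e1]
      have e2 := htr.2
      calc d * (v * d * v⁻¹ * d⁻¹) * d⁻¹ * d * (d * (v * d * v⁻¹ * d⁻¹) * d⁻¹) * d⁻¹
          = (v * d * v⁻¹ * d⁻¹)⁻¹ * ((v * d * v⁻¹ * d⁻¹) * (d * (v * d * v⁻¹ * d⁻¹) * d⁻¹) *
              (d * (d * (v * d * v⁻¹ * d⁻¹) * d⁻¹) * d⁻¹)) := by group
        _ = v * d * v⁻¹ * d⁻¹ := by rw [e2, mul_one, hxinv]
    rw [← e]; exact h3
  -- `O₂(X / C_X(V)) = 1`
  have hOp : ∀ D : Subgroup X, D.Normal →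
      Subgroup.centralizer ((Subgroup.normalClosure (W : Set X) : Subgroup X) : Set X) ≤ D →
      (∃ k : ℕ, (Subgroup.centralizer
        ((Subgroup.normalClosure (W : Set X) : Subgroup X) : Set X)).relIndex D = 2 ^ k) →
      D = Subgroup.centralizer ((Subgroup.normalClosure (W : Set X) : Subgroup X) : Set X) := by
    intro D hDn hCD hk
    obtain ⟨k, hk⟩ := hk
    haveI := hDn
    apply le_antisymm _ hCD
    have hPC : P ≤ Subgroup.centralizer
        ((Subgroup.normalClosure (W : Set X) : Subgroup X) : Set X) := by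
      intro q hq
      rw [Subgroup.mem_centralizer_iff]
      intro v hv
      exact (hRcV q (hPR hq) v hv).symm
    have hDc := comm_mem_of_subnormal hKsn hCD hk hdK hd3
      (fun x hx => by
        obtain ⟨q, hq, n, hn⟩ := hKd x hx
        exact ⟨q, hPC hq, n, hn⟩)
    have hDV : D ≤ Subgroup.normalizer
        ((Subgroup.normalClosure (W : Set X) : Subgroup X) : Set X) := by
      rw [Subgroup.normalizer_eq_top_iff.2 hVn]; exact le_top
    obtain ⟨hDNW, hDcomm⟩ := le_normalizer_of_comm_cent hdV hWV hP1 (h2W hWV) hDV hDc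
    apply le_centralizer_normalClosure
    intro y hy
    apply cent_of_comm_fpf hW4 hW2 hfpf hdW k y (hDNW hy) (hDcomm y hy)
    intro w hw
    have hmem := Subgroup.pow_relIndex_mem (Subgroup.centralizer
      ((Subgroup.normalClosure (W : Set X) : Subgroup X) : Set X)) hy
    rw [hk] at hmem
    have := Subgroup.mem_centralizer_iff.1 hmem w (hWV hw)
    rw [← this]; group
  exact al_main (Subgroup.normalClosure (W : Set X)) hVea hsep hOp hd3 hWV hW4 hP1 hdW hfpf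

end Cfsg.Agent.Lib.Helper9.KS
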