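import Mathlib
import Cfsg.Prelude
import Cfsg.Agent.Lib.Helper9.KTm
import Cfsg.Agent.Lib.Helper9.KSp
import Cfsg.Agent.Lib.Helper9.KTb

set_option autoImplicit false
set_option linter.unusedSectionVars false
set_option linter.unusedVariables false
set_option linter.style.longLine false
set_option linter.unusedSimpArgs false
open Cfsg

set_option maxHeartbeats 1600000
namespace Cfsg.Agent.Lib.Helper9.KS

open Cfsg.Agent.Lib.Helper1 Cfsg.Agent.Lib.Helper3.JC
open scoped commutatorElement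

variable {G : Type*} [Group G]

/-- `2`-elements of a `J`-component lie in `O₂(K)`. -/
theorem two_elt_mem_pCoreOf [Finite G] {T K : Subgroup G} (hT : IsPGroup 2 ↥T)
    (hK : IsJComponent T K) {k : G} (hk : k ∈ K) {m : ℕ} (hm : k ^ (2 ^ m) = 1) :
    k ∈ pCoreOf 2 K := by
  have h2 : Fact (Nat.Prime 2) := ⟨Nat.prime_two⟩
  have hkd := kdata_of_comp hT hK
  by_contra hkQ
  have hsup := hkd.sup_zpowers_eq hk hkQ
  have hz2 : IsPGroup 2 ↥(Subgroup.zpowers k) := by
    have hdvd : orderOf k ∣ 2 ^ m := orderOf_dvd_of_pow_eq_one hm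
    obtain ⟨j, -, hj⟩ := (Nat.dvd_prime_pow Nat.prime_two).1 hdvd
    apply IsPGroup.of_card (n := j)
    rw [Nat.card_zpowers, hj]
  have hzN : Subgroup.zpowers k ≤ Subgroup.normalizer ((pCoreOf 2 K : Subgroup G) : Set G) := by
    rw [Subgroup.zpowers_le]
    exact (nz_self_pCoreOf K).le_normalizer hk
  have hsup2 : IsPGroup 2 ↥(Subgroup.zpowers k ⊔ pCoreOf 2 K : Subgroup G) :=
    IsPGroup.to_sup_of_normal_right' hz2 (pCoreOf_isPGroup K) hzN
  rw [sup_comm, hsup] at hsup2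
  exact comp_not_le_pGroup hK hsup2 le_rfl

/-- **S2945, main step**: `J(T)` normalizes `W_K`. -/
theorem thompson_le_normalizer_wOf [Finite G] (hL : Cfsg.IsCharacteristicTwoType G)
    (hN : ∀ N : Subgroup G, Cfsg.IsTwoLocal N → Group.IsSolvable ↥N)
    {T T' L K : Subgroup G} (hT1 : T ≠ ⊥) (hLT : L ∈ jOvergroups T)
    (hKL : K ≤ L) (hKsn : (K.subgroupOf (K ⊔ thompsonSubgroupOf 2 T)).IsSubnormal)
    (hT' : IsPGroup 2 ↥T') (hK : IsJComponent T' K) :
    thompsonSubgroupOf 2 T ≤ Subgroup.normalizer (wOf K : Set G) := by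
  have h2 : Fact (Nat.Prime 2) := ⟨Nat.prime_two⟩
  have hkd := kdata_of_comp hT' hK
  have hJT : thompsonSubgroupOf 2 T ≤ T := thompsonSubgroupOf_le_self 2 T
  have hKH : K ≤ K ⊔ thompsonSubgroupOf 2 T := le_sup_left
  have hJH : thompsonSubgroupOf 2 T ≤ K ⊔ thompsonSubgroupOf 2 T := le_sup_right
  have hHL : K ⊔ thompsonSubgroupOf 2 T ≤ L := sup_le hKL (hJT.trans hLT.1.1)
  -- solvability
  have hQ1 := pCoreOf_ne_bot_of_jOvergroups hT1 hLT
  have hloc : IsTwoLocal (Subgroup.normalizer ((pCoreOf 2 L : Subgroup G) : Set G)) :=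
    ⟨pCoreOf 2 L, pCoreOf_isPGroup L, hQ1, rfl⟩
  haveI := hN _ hloc
  have hsolv : Group.IsSolvable ↥(K ⊔ thompsonSubgroupOf 2 T) :=
    Group.isSolvable_of_isSolvable_injective
      (Subgroup.inclusion_injective (hHL.trans (nz_self_pCoreOf L).le_normalizer))
  have hsep : IsPSolvable 2 ↥(K ⊔ thompsonSubgroupOf 2 T) :=
    Cfsg.Agent.Lib.Helper3.isPSolvable_of_isSolvable 2 hsolv
  -- the element of order 3
  obtain ⟨y, hyK, hy3, hyQ⟩ := hkd.exists_y
  have hyH : y ∈ K ⊔ thompsonSubgroupOf 2 T := hKH hyK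
  have hQK : pCoreOf 2 K ≤ K := pCoreOf_le K
  have hWK : wOf K ≤ K := hkd.W_le_K
  have hyNQ : y ∈ Subgroup.normalizer ((pCoreOf 2 K : Subgroup G) : Set G) :=
    (nz_self_pCoreOf K).le_normalizer hyK
  have hyNW : y ∈ Subgroup.normalizer (wOf K : Set G) :=
    wOf_normalizer_le (Subgroup.le_normalizer hyK)
  -- the hypotheses of the abstract theorem
  have hKodd : Subgroup.closure {x : ↥(K ⊔ thompsonSubgroupOf 2 T) |
      x ∈ K.subgroupOf (K ⊔ thompsonSubgroupOf 2 T) ∧ Odd (orderOf x)} =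
      K.subgroupOf (K ⊔ thompsonSubgroupOf 2 T) := by
    apply Subgroup.map_injective (K ⊔ thompsonSubgroupOf 2 T).subtype_injective
    rw [MonoidHom.map_closure, Subgroup.map_subgroupOf_eq_of_le hKH]
    have hset : (K ⊔ thompsonSubgroupOf 2 T).subtype '' {x : ↥(K ⊔ thompsonSubgroupOf 2 T) |
        x ∈ K.subgroupOf (K ⊔ thompsonSubgroupOf 2 T) ∧ Odd (orderOf x)} =
        {g : G | g ∈ K ∧ Odd (orderOf g)} := by
      ext g
      constructor
      · rintro ⟨x, ⟨hx1, hx2⟩, rfl⟩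
        refine ⟨Subgroup.mem_subgroupOf.1 hx1, ?_⟩
        rw [Subgroup.coe_subtype, Subgroup.orderOf_coe]; exact hx2
      · rintro ⟨hg1, hg2⟩
        refine ⟨⟨g, hKH hg1⟩, ⟨Subgroup.mem_subgroupOf.2 hg1, ?_⟩, rfl⟩
        rw [← Subgroup.orderOf_coe]; exact hg2
    rw [hset]
    exact hK.1
  have hmain := abs_main hsep (K := K.subgroupOf (K ⊔ thompsonSubgroupOf 2 T))
    (P := (pCoreOf 2 K).subgroupOf (K ⊔ thompsonSubgroupOf 2 T))
    (W := (wOf K).subgroupOf (K ⊔ thompsonSubgroupOf 2 T)) (d := ⟨y, hyH⟩) hKsn hKodd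
    (pCoreOf_isPGroup K).comap_subtype
    (fun x hx => Subgroup.mem_subgroupOf.2 (hQK (Subgroup.mem_subgroupOf.1 hx)))
    (by
      apply le_normalizer_of_conj_mem
      intro k hk p hp
      rw [Subgroup.mem_subgroupOf] at hk hp ⊢
      exact nz_self_pCoreOf K _ hk _ hp)
    (by
      rintro k hk ⟨m, hm⟩
      rw [Subgroup.mem_subgroupOf] at hk ⊢
      have hm' : (k : G) ^ (2 ^ m) = 1 := by
        have := congrArg Subtype.val hm
        simpa using this
      exact two_elt_mem_pCoreOf hT' hK hk hm')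
    (Subgroup.mem_subgroupOf.2 hyK)
    (by apply Subtype.ext; simpa using hy3)
    (by
      intro k hk
      rw [Subgroup.mem_subgroupOf] at hk
      have hk' : (k : G) ∈ pCoreOf 2 K ⊔ Subgroup.zpowers y := by
        rw [hkd.sup_zpowers_eq hyK hyQ]; exact hk
      obtain ⟨q, hq, z, hz, hkz⟩ := exists_mul_of_mem_sup hyNQ hk'
      obtain ⟨n, rfl⟩ := exists_nat_pow_of_mem_zpowers hy3 hz
      refine ⟨⟨q, hKH (hQK hq)⟩, Subgroup.mem_subgroupOf.2 hq, n, ?_⟩
      apply Subtype.ext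
      simpa using hkz)
    (fun x hx => Subgroup.mem_subgroupOf.2 (hkd.W_le_Q (Subgroup.mem_subgroupOf.1 hx)))
    (by
      intro w hw q hq
      rw [Subgroup.mem_subgroupOf] at hw hq
      apply Subtype.ext
      simpa using hkd.Q_comm_W hq hw)
    (by
      intro w hw
      rw [Subgroup.mem_subgroupOf] at hw
      apply Subtype.ext
      simpa using hkd.wsq _ hw)
    (by
      rw [← hkd.wcard]
      exact Nat.card_congr (Subgroup.subgroupOfEquivOfLe (hWK.trans hKH)).toEquiv)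
    (by
      have : (⟨y, hyH⟩ : ↥(K ⊔ thompsonSubgroupOf 2 T)) ∈
          (Subgroup.zpowers (⟨y, hyH⟩ : ↥(K ⊔ thompsonSubgroupOf 2 T))) :=
        Subgroup.mem_zpowers _
      refine (le_normalizer_of_conj_mem (S := Subgroup.zpowers
        (⟨y, hyH⟩ : ↥(K ⊔ thompsonSubgroupOf 2 T))) ?_) this
      intro z hz w hw
      rw [Subgroup.mem_subgroupOf] at hw ⊢
      have hzN : (z : G) ∈ Subgroup.normalizer (wOf K : Set G) := by
        obtain ⟨n, rfl⟩ := Subgroup.mem_zpowers_iff.1 hz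
        simpa using Subgroup.zpow_mem _ hyNW n
      simpa using (Subgroup.mem_normalizer_iff.1 hzN _).1 hw)
    (by
      intro w hw hfix
      rw [Subgroup.mem_subgroupOf] at hw
      have hfix' : y * (w : G) * y⁻¹ = (w : G) := by
        have := congrArg Subtype.val hfix
        simpa using this
      apply Subtype.ext
      simpa using hkd.fix_W hyK hy3 hyQ hw hfix')
    (by
      intro u hu hcu hu2
      rw [Subgroup.mem_subgroupOf] at hu ⊢
      have hu2' : (u : G) * (u : G) = 1 := by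
        have := congrArg Subtype.val hu2
        simpa using this
      have hcu' : ∀ q ∈ pCoreOf 2 K, q * (u : G) = (u : G) * q := by
        intro q hq
        have := congrArg Subtype.val
          (hcu ⟨q, hKH (hQK hq)⟩ (Subgroup.mem_subgroupOf.2 hq))
        simpa using this
      have huZ : (u : G) ∈ omegaCenterOf (pCoreOf 2 K) := mem_omegaCenterOf hu hcu' hu2'
      have := Subgroup.commutator_mem_commutator huZ hyK
      rw [commutatorElement_def] at this
      have h' : (u : G) * y * (u : G)⁻¹ * y⁻¹ ∈ wOf K := this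
      simpa using h')
  -- back to `G`
  rw [thompsonSubgroupOf_eq_sSup]
  apply sSup_le
  intro A hA
  have hAL := maxElAbIn_of_sylow hLT.1 hA
  have hAH : A ≤ K ⊔ thompsonSubgroupOf 2 T := (le_thompsonSubgroupOf_of_mem hA).trans hJH
  have hAH' : A ∈ maxElAbIn 2 (K ⊔ thompsonSubgroupOf 2 T) :=
    ⟨hAH, hA.2.1, fun B hB hBe => hAL.2.2 B (hB.trans hHL) hBe⟩
  have hmem := subgroupOf_mem_of_mem_maxElAbIn hAH'
  have hle : A.subgroupOf (K ⊔ thompsonSubgroupOf 2 T) ≤
      thompsonSubgroup 2 ↥(K ⊔ thompsonSubgroupOf 2 T) := le_sSup hmem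
  apply le_normalizer_of_conj_mem
  intro a ha w hw
  have haN := hmain (hle (Subgroup.mem_subgroupOf.2 (show ((⟨a, hAH ha⟩ :
    ↥(K ⊔ thompsonSubgroupOf 2 T)) : G) ∈ A from ha)))
  have := (Subgroup.mem_normalizer_iff.1 haN ⟨w, hKH (hWK hw)⟩).1
    (Subgroup.mem_subgroupOf.2 hw)
  rw [Subgroup.mem_subgroupOf] at this
  simpa using this

end Cfsg.Agent.Lib.Helper9.KS
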