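import Mathlib
import Cfsg.Prelude
import Cfsg.Agent.Lib.Helper9.KTn
import Cfsg.Agent.Lib.Helper7.KU1
import Cfsg.Agent.S2942
import Cfsg.Agent.S2948
import Cfsg.Agent.Lib.Helper9.KSr
import Cfsg.Agent.Lib.Helper9.KTd
import Cfsg.Agent.Lib.Helper9.KTg

set_option autoImplicit false
set_option linter.unusedSectionVars false
set_option linter.unusedVariables false
set_option linter.style.longLine false
set_option linter.unusedSimpArgs false
open Cfsg

set_option maxHeartbeats 1600000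
namespace Cfsg.Agent.Lib.Helper9.KS

open Cfsg.Agent.Lib.Helper1 Cfsg.Agent.Lib.Helper3.JC
open scoped commutatorElement

variable {G : Type*} [Group G]

/-- The standing context of statements S2951-S2954. -/
structure Ctx (S : Sylow 2 G) (M T K L : Subgroup G) : Prop where
  hL : Cfsg.IsCharacteristicTwoType G
  hN : ∀ N : Subgroup G, Cfsg.IsTwoLocal N → Group.IsSolvable ↥N
  hZ : ∀ S : Sylow 2 G, Subgroup.centralizer (Cfsg.omegaCenterOf (S : Subgroup G) : Set G) ≤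
    Subgroup.normalizer ((S : Subgroup G) : Set G)
  hO : Cfsg.pCore 2 G = ⊥
  hM : Cfsg.IsTwoLocal M
  hMJ : Subgroup.normalizer (Cfsg.thompsonSubgroupOf 2 (S : Subgroup G) : Set G) ≤ M
  hT : T ∈ Cfsg.maxStraddlingTwoSubgroups M
  hTS : T ≤ (S : Subgroup G)
  hK : K ∈ Cfsg.jComponentsOutside M T
  hLmax : Cfsg.IsMaximalTwoLocal L
  hKL : K ⊔ Cfsg.thompsonSubgroupOf 2 T ≤ L

namespace Ctx

variable [Finite G] {S : Sylow 2 G} {M T K L : Subgroup G} (c : Ctx S M T K L)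
include c

theorem hTp : IsPGroup 2 ↥T := c.hT.1.1
theorem hT1 : T ≠ ⊥ := c.hT.1.2.1
theorem hTM : T ≤ M := c.hT.1.2.2.1
theorem kJ : IsJComponent T K := c.hK.1.1
theorem hKM : ¬ K ≤ M := c.hK.2.1
theorem kd : KData K (thompsonSubgroupOf 2 T) := kdata_of_comp c.hTp c.kJ

theorem h48 : Cfsg.Agent.Lib.Helper7.KU.H48 M T :=
  fun L hL2 hLM T0 hT0 hJ =>
    Cfsg.Agent.S2948.result c.hL c.hN c.hZ c.hO S M c.hM c.hMJ T c.hT L hL2 hLM T0 hT0 hJ

theorem hc : Cfsg.Agent.Lib.Helper7.KU.HCent G :=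
  fun T' L K1 K2 a b c' d e f g h => comp_cent_of_ne c.hL c.hN c.hZ a b c' d e f g h

theorem hg : Cfsg.Agent.Lib.Helper7.KU.HGen G :=
  fun T' L a b c' => le_genOf c.hL c.hN c.hZ a b c'

theorem h42 : Cfsg.Agent.Lib.Helper7.KU.H42 G :=
  fun T' L K a b c' d e => Cfsg.Agent.S2942.result c.hL c.hN c.hZ T' a b L c' K d e

theorem hKLe : K ≤ L := le_sup_left.trans c.hKL
theorem hJL : thompsonSubgroupOf 2 T ≤ L := le_sup_right.trans c.hKL
theorem hLM : ¬ L ≤ M := fun h => c.hKM (c.hKLe.trans h)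

/-- `L` is the unique maximal 2-local over `K J`, contains `N_G(W_K)` and every 2-local over
`K J`. -/
theorem uniq_data : Subgroup.normalizer (wOf K : Set G) ≤ L ∧
    (∀ L' : Subgroup G, IsMaximalTwoLocal L' → K ⊔ thompsonSubgroupOf 2 T ≤ L' → L' = L) ∧
    ∀ X : Subgroup G, IsTwoLocal X → K ⊔ thompsonSubgroupOf 2 T ≤ X → X ≤ L := by
  obtain ⟨L₀, hL₀max, hNL₀, hKJL₀, huniq, hall⟩ :=
    Cfsg.Agent.Lib.Helper7.KU.uniq c.h48 c.hc c.hg c.hTp c.kJ c.hKM
  have e : L = L₀ := huniq L c.hLmax c.hKL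
  rw [e]
  exact ⟨hNL₀, huniq, hall⟩

theorem normalizer_wOf_le : Subgroup.normalizer (wOf K : Set G) ≤ L := c.uniq_data.1

theorem max_eq {L' : Subgroup G} (h1 : IsMaximalTwoLocal L')
    (h2 : K ⊔ thompsonSubgroupOf 2 T ≤ L') : L' = L := c.uniq_data.2.1 L' h1 h2

theorem two_local_le {X : Subgroup G} (h1 : IsTwoLocal X)
    (h2 : K ⊔ thompsonSubgroupOf 2 T ≤ X) : X ≤ L := c.uniq_data.2.2 X h1 h2

theorem main_data : (K.subgroupOf L).IsSubnormal ∧ IsSylowTwoIn T L := by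
  obtain ⟨L₀, hL₀max, hKJL₀, huniq, hsn, hsyl⟩ :=
    Cfsg.Agent.Lib.Helper7.KU.main c.h42 c.h48 c.hc c.hg c.hT c.hK
  have e : L = L₀ := huniq L c.hLmax c.hKL
  rw [e]
  exact ⟨hsn, hsyl⟩

theorem sylow : IsSylowTwoIn T L := c.main_data.2
theorem subnormal : (K.subgroupOf L).IsSubnormal := c.main_data.1
theorem hTL : T ≤ L := c.sylow.1

theorem ovr : L ∈ jOvergroups T := by
  have hJT := thompsonSubgroupOf_le_self 2 T
  obtain ⟨-, -, -, h4⟩ := c.h48 L c.hLmax.1 c.hLM T c.sylow hJT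
  exact (h4 c.hTL).1

theorem normJ_le : Subgroup.normalizer (thompsonSubgroupOf 2 T : Set G) ≤ M :=
  normalizer_thompson_le S c.hMJ c.hT

theorem pCoreOf_L_ne_bot : pCoreOf 2 L ≠ ⊥ := pCoreOf_ne_bot_of_jOvergroups c.hT1 c.ovr

/-- a maximal 2-local is self-normalizing. -/
theorem normL_le : Subgroup.normalizer (L : Set G) ≤ L := by
  have h2 : IsTwoLocal (Subgroup.normalizer ((pCoreOf 2 L : Subgroup G) : Set G)) :=
    isTwoLocal_normalizer (pCoreOf_isPGroup L) c.pCoreOf_L_ne_bot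
  have hle : L ≤ Subgroup.normalizer ((pCoreOf 2 L : Subgroup G) : Set G) :=
    (nz_self_pCoreOf L).le_normalizer
  have e := c.hLmax.2 _ h2 hle
  have hN : Nz (Subgroup.normalizer (L : Set G)) L :=
    nz_of_le_normalizer le_rfl
  have := (nz_pCoreOf hN).le_normalizer
  rw [e] at this
  exact this

theorem not_mem_of_not_normalizer {x : G} (hx : x ∉ L) :
    L.map (MulAut.conj x).toMonoidHom ≠ L := by
  intro h
  exact hx (c.normL_le (mem_normalizer_of_map_conj_eq h))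

end Ctx

end Cfsg.Agent.Lib.Helper9.KS
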