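import Mathlib
import Cfsg.Prelude
import Cfsg.Agent.Lib.Helper9.KUa
import Cfsg.Agent.S2946

set_option autoImplicit false
set_option linter.unusedSectionVars false
set_option linter.unusedVariables false
set_option linter.style.longLine false
set_option linter.unusedSimpArgs false
open Cfsg

set_option maxHeartbeats 1600000
namespace Cfsg.Agent.Lib.Helper9.KS

open Cfsg.Agent.Lib.Helper1 Cfsg.Agent.Lib.Helper3.JC
open scoped commutatorElement

variable {G : Type*} [Group G]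

/-- `B = C_{Z₀}(K J)`, `Z₀ = Ω₁Z(J(T))`. -/
def bOf (T K : Subgroup G) : Subgroup G :=
  omegaCenterOf (thompsonSubgroupOf 2 T) ⊓
    ((K ⊔ thompsonSubgroupOf 2 T) ⊓ Subgroup.centralizer ((K ⊔ thompsonSubgroupOf 2 T : Subgroup G) : Set G))

theorem centralizer_sup_eq (A B : Subgroup G) :
    Subgroup.centralizer ((A ⊔ B : Subgroup G) : Set G) =
      Subgroup.centralizer ((A : Set G) ⊔ (B : Set G)) := by
  rw [Subgroup.sup_eq_closure, Subgroup.centralizer_closure]
  rfl

theorem bOf_le (T K : Subgroup G) : bOf T K ≤ omegaCenterOf (thompsonSubgroupOf 2 T) := inf_le_left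

theorem isTwoLocal_map (φ : G ≃* G) {X : Subgroup G} (h : IsTwoLocal X) :
    IsTwoLocal (X.map φ.toMonoidHom) := by
  obtain ⟨P, hP, hP1, rfl⟩ := h
  refine ⟨P.map φ.toMonoidHom, hP.map _, ?_, ?_⟩
  · intro h0
    apply hP1
    rw [eq_bot_iff]
    intro x hx
    have : φ x ∈ P.map φ.toMonoidHom := ⟨x, hx, rfl⟩
    rw [h0, Subgroup.mem_bot] at this
    rw [Subgroup.mem_bot]
    exact φ.injective (by rw [map_one]; exact this)
  · exact (Subgroup.map_equiv_normalizer_eq P φ)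

theorem isMaximalTwoLocal_map (φ : G ≃* G) {X : Subgroup G} (h : IsMaximalTwoLocal X) :
    IsMaximalTwoLocal (X.map φ.toMonoidHom) := by
  refine ⟨isTwoLocal_map φ h.1, ?_⟩
  intro N hN hXN
  have h1 := isTwoLocal_map φ.symm hN
  have h2 : X ≤ N.map φ.symm.toMonoidHom := by
    intro x hx
    exact ⟨φ x, hXN ⟨x, hx, rfl⟩, by simp⟩
  have h3 := h.2 _ h1 h2
  rw [← h3, map_map_symm']

/-- the centralizer of an involution is a 2-local. -/
theorem isTwoLocal_centralizer_singleton {b : G} (hb2 : b * b = 1) (hb1 : b ≠ 1) :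
    IsTwoLocal (Subgroup.centralizer ({b} : Set G)) := by
  have h2 : Fact (Nat.Prime 2) := ⟨Nat.prime_two⟩
  have hmem : ∀ x ∈ Subgroup.zpowers b, x = 1 ∨ x = b := by
    intro x hx
    obtain ⟨n, rfl⟩ := Subgroup.mem_zpowers_iff.1 hx
    rcases Int.even_or_odd n with ⟨m, rfl⟩ | ⟨m, rfl⟩
    · left
      rw [← two_mul, zpow_mul, zpow_two, hb2, one_zpow]
    · right
      rw [zpow_add, zpow_one, zpow_mul, zpow_two, hb2, one_zpow, one_mul]
  refine ⟨Subgroup.zpowers b, ?_, ?_, ?_⟩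
  · rintro ⟨x, hx⟩
    refine ⟨1, Subtype.ext ?_⟩
    rcases hmem x hx with h | h
    · simp [h]
    · simp [h, pow_two, hb2]
  · intro h0
    have : b ∈ (⊥ : Subgroup G) := by rw [← h0]; exact Subgroup.mem_zpowers b
    exact hb1 (Subgroup.mem_bot.1 this)
  · apply le_antisymm
    · intro g hg
      have hgb : g * b = b * g := (Subgroup.mem_centralizer_iff.1 hg b rfl).symm
      apply mem_normalizer_of_conj
      · intro x hx
        rcases hmem x hx with h | h
        · rw [h]; simp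
        · have : g * b * g⁻¹ = b := by rw [hgb]; group
          rw [h, this]; exact Subgroup.mem_zpowers b
      · intro x hx
        rcases hmem x hx with h | h
        · rw [h]; simp
        · have : g⁻¹ * b * g = b := by rw [mul_assoc, ← hgb]; group
          rw [h, this]; exact Subgroup.mem_zpowers b
    · intro g hg
      have h1 := (Subgroup.mem_normalizer_iff.1 hg b).1 (Subgroup.mem_zpowers b)
      rw [Subgroup.mem_centralizer_iff]
      intro x hx
      rw [Set.mem_singleton_iff.1 hx]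
      rcases hmem _ h1 with h | h
      · exfalso
        apply hb1
        have : b = g⁻¹ * (g * b * g⁻¹) * g := by group
        rw [this, h]; group
      · calc b * g = (g * b * g⁻¹)⁻¹⁻¹ * g := by rw [h]; group
          _ = g * b := by group

namespace Ctx

variable [Finite G] {S : Sylow 2 G} {M T K L : Subgroup G} (c : Ctx S M T K L)
include c

theorem s2946 : Nat.card ↥(omegaCenterOf (thompsonSubgroupOf 2 T) ⊓ wOf K) = 2 ∧
    bOf T K ⊔ (omegaCenterOf (thompsonSubgroupOf 2 T) ⊓ wOf K) =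
      omegaCenterOf (thompsonSubgroupOf 2 T) :=
  by
    have := Cfsg.Agent.S2946.result c.hL c.hN c.hZ T c.hTp c.hT1 K c.kJ _ rfl
    unfold bOf
    rw [centralizer_sup_eq]
    exact this

theorem Z0_sq : ∀ z ∈ omegaCenterOf (thompsonSubgroupOf 2 T), z * z = 1 :=
  omegaCenterOf_sq _

theorem Z0_comm : ∀ x ∈ omegaCenterOf (thompsonSubgroupOf 2 T),
    ∀ y ∈ omegaCenterOf (thompsonSubgroupOf 2 T), x * y = y * x :=
  fun x hx y hy => comm_of_sq c.Z0_sq hx hy

/-- `B ∩ W = 1`. -/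
theorem bOf_inf_wOf : bOf T K ⊓ wOf K = ⊥ := by
  rw [eq_bot_iff]
  intro b hb
  rw [Subgroup.mem_bot]
  obtain ⟨y, hyK, hy3, hyQ⟩ := c.kd.exists_y
  have hcent := hb.1.2.2
  have h1 := Subgroup.mem_centralizer_iff.1 hcent y (Subgroup.mem_sup_left hyK)
  apply c.kd.fix_W hyK hy3 hyQ hb.2
  rw [h1]; group

/-- `|Z₀| = 2 |B|`. -/
theorem card_Z0 : Nat.card ↥(omegaCenterOf (thompsonSubgroupOf 2 T)) = 2 * Nat.card ↥(bOf T K) := by
  obtain ⟨h1, h2⟩ := c.s2946
  have h3 := Cfsg.Agent.Lib.Helper1.FF.card_sup_mul_card_inf_of_le_abelian c.Z0_comm (bOf_le T K)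
    (inf_le_left : omegaCenterOf (thompsonSubgroupOf 2 T) ⊓ wOf K ≤ _)
  have h4 : bOf T K ⊓ (omegaCenterOf (thompsonSubgroupOf 2 T) ⊓ wOf K) = ⊥ := by
    rw [eq_bot_iff, ← c.bOf_inf_wOf]
    exact inf_le_inf_left _ inf_le_right
  rw [h2, h4, Subgroup.card_bot, mul_one, h1] at h3
  rw [h3, mul_comm]

/-- for `1 ≠ b ∈ B`, `C_G(b) ≤ L`. -/
theorem cent_le {b : G} (hb : b ∈ bOf T K) (hb1 : b ≠ 1) :
    Subgroup.centralizer ({b} : Set G) ≤ L := by
  apply c.two_local_le (isTwoLocal_centralizer_singleton (c.Z0_sq b hb.1) hb1)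
  intro h hh
  rw [Subgroup.mem_centralizer_iff]
  intro x hx
  rw [Set.mem_singleton_iff.1 hx]
  exact (Subgroup.mem_centralizer_iff.1 hb.2.2 h hh).symm

/-- **(HYP)**: `B ∩ B^x = 1` for `x ∉ L`. -/
theorem bOf_inf_conj {x : G} (hx : x ∉ L) :
    bOf T K ⊓ (bOf T K).map (MulAut.conj x).toMonoidHom = ⊥ := by
  rw [eq_bot_iff]
  rintro b ⟨hb, b₀, hb₀, rfl⟩
  rw [Subgroup.mem_bot]
  by_contra hb1
  have hb₀1 : b₀ ≠ 1 := by
    intro h; apply hb1; rw [h]; simp
  have h1 := c.cent_le hb hb1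
  have h0 := c.cent_le hb₀ hb₀1
  have hKJ : K ⊔ thompsonSubgroupOf 2 T ≤ L.map (MulAut.conj x).toMonoidHom := by
    intro g hg
    have hgc : g ∈ Subgroup.centralizer ({(MulAut.conj x).toMonoidHom b₀} : Set G) := by
      rw [Subgroup.mem_centralizer_iff]
      intro z hz
      rw [Set.mem_singleton_iff.1 hz]
      exact (Subgroup.mem_centralizer_iff.1 hb.2.2 g hg).symm
    refine ⟨x⁻¹ * g * x, h0 ?_, by simp [mul_assoc]⟩
    rw [Subgroup.mem_centralizer_iff]
    intro z hz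
    rw [Set.mem_singleton_iff.1 hz]
    have := Subgroup.mem_centralizer_iff.1 hgc _ rfl
    simp only [MulEquiv.coe_toMonoidHom, MulAut.conj_apply] at this
    calc b₀ * (x⁻¹ * g * x) = x⁻¹ * (x * b₀ * x⁻¹ * g) * x := by group
      _ = x⁻¹ * (g * (x * b₀ * x⁻¹)) * x := by rw [this]
      _ = x⁻¹ * g * x * b₀ := by group
  have := c.max_eq (isMaximalTwoLocal_map (MulAut.conj x) c.hLmax) hKJ
  exact c.not_mem_of_not_normalizer hx this

/-- `|B| ≤ 2` if some `x ∈ N_G(J) \ L` exists. -/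
theorem card_bOf_le {x : G} (hx : x ∉ L)
    (hxJ : x ∈ Subgroup.normalizer (thompsonSubgroupOf 2 T : Set G)) :
    Nat.card ↥(bOf T K) ≤ 2 := by
  have hBx : (bOf T K).map (MulAut.conj x).toMonoidHom ≤ omegaCenterOf (thompsonSubgroupOf 2 T) := by
    have hnz : Nz (Subgroup.zpowers x) (thompsonSubgroupOf 2 T) :=
      nz_of_le_normalizer ((Subgroup.zpowers_le).2 hxJ)
    have := (nz_omegaCenterOf hnz)
    rintro _ ⟨b, hb, rfl⟩
    exact this x (Subgroup.mem_zpowers x) b hb.1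
  have h3 := Cfsg.Agent.Lib.Helper1.FF.card_sup_mul_card_inf_of_le_abelian c.Z0_comm (bOf_le T K) hBx
  rw [c.bOf_inf_conj hx, Subgroup.card_bot, mul_one,
    Subgroup.card_map_of_injective (MulAut.conj x).injective] at h3
  have h4 : Nat.card ↥(bOf T K ⊔ (bOf T K).map (MulAut.conj x).toMonoidHom : Subgroup G) ≤
      Nat.card ↥(omegaCenterOf (thompsonSubgroupOf 2 T)) :=
    Subgroup.card_le_of_le (sup_le (bOf_le T K) hBx)
  rw [h3, c.card_Z0] at h4
  have hpos : 0 < Nat.card ↥(bOf T K) := Nat.card_pos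
  exact Nat.le_of_mul_le_mul_right h4 hpos

end Ctx

end Cfsg.Agent.Lib.Helper9.KS
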