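import Mathlib
import Cfsg.Prelude
import Cfsg.Agent.Lib.Helper9.KUb

set_option autoImplicit false
set_option linter.unusedSectionVars false
set_option linter.unusedVariables false
set_option linter.style.longLine false
set_option linter.unusedSimpArgs false
open Cfsg

set_option maxHeartbeats 1600000
namespace Cfsg.Agent.Lib.Helper9.KS

open Cfsg.Agent.Lib.Helper1 Cfsg.Agent.Lib.Helper3.JC
open scoped commutatorElement

variable {G : Type*} [Group G]

/-- `Ω₁Z(T) ≤ Ω₁Z(J(T))`. -/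
theorem omegaCenterOf_le_thompson [Finite G] {T : Subgroup G} :
    omegaCenterOf T ≤ omegaCenterOf (thompsonSubgroupOf 2 T) := by
  have hJT := thompsonSubgroupOf_le_self 2 T
  obtain ⟨A, hA⟩ := exists_maxElAbIn T
  have hAJ : A ≤ thompsonSubgroupOf 2 T := le_thompsonSubgroupOf_of_mem hA
  have hsq := omegaCenterOf_sq T
  have hle := omegaCenterOf_le T
  have hZA : omegaCenterOf T ≤ A := by
    apply maxElAbIn_absorb hA (hle.trans inf_le_left) hsq
    intro a ha b hb
    exact Subgroup.mem_centralizer_iff.1 (hle hb).2 a (hA.1 ha)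
  intro x hx
  apply mem_omegaCenterOf (hAJ (hZA hx)) _ (hsq x hx)
  intro y hy
  exact Subgroup.mem_centralizer_iff.1 (hle hx).2 y (hJT hy)

theorem four_group_elems [Finite G] {W : Subgroup G} (hW : Nat.card ↥W = 4)
    (hsq : ∀ w ∈ W, w * w = 1) {a b : G} (ha : a ∈ W) (hb : b ∈ W) (ha1 : a ≠ 1) (hb1 : b ≠ 1)
    (hab : a ≠ b) : ∀ w ∈ W, w = 1 ∨ w = a ∨ w = b ∨ w = a * b := by
  classical
  intro w hw
  by_contra hcon
  push Not at hcon
  obtain ⟨h1, h2, h3, h4⟩ := hcon
  have hab1 : a * b ≠ 1 := by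
    intro h
    apply hab
    have := hsq b hb
    calc a = a * (b * b) := by rw [this, mul_one]
      _ = (a * b) * b := by group
      _ = b := by rw [h, one_mul]
  have haba : a * b ≠ a := by
    intro h
    apply hb1
    calc b = a⁻¹ * (a * b) := by group
      _ = 1 := by rw [h]; group
  have habb : a * b ≠ b := by
    intro h
    apply ha1
    calc a = (a * b) * b⁻¹ := by group
      _ = 1 := by rw [h]; group
  have hfin : Fintype ↥W := Fintype.ofFinite _
  let s : Finset ↥W := {⟨1, W.one_mem⟩, ⟨a, ha⟩, ⟨b, hb⟩, ⟨a * b, W.mul_mem ha hb⟩, ⟨w, hw⟩}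
  have hs : s.card = 5 := by
    rw [Finset.card_insert_of_notMem, Finset.card_insert_of_notMem, Finset.card_insert_of_notMem,
      Finset.card_insert_of_notMem, Finset.card_singleton]
    · simp only [Finset.mem_singleton, Subtype.mk.injEq]
      exact fun h => h4 h.symm
    · simp only [Finset.mem_insert, Finset.mem_singleton, Subtype.mk.injEq, not_or]
      exact ⟨fun h => habb h.symm, fun h => h3 h.symm⟩
    · simp only [Finset.mem_insert, Finset.mem_singleton, Subtype.mk.injEq, not_or]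
      exact ⟨hab, fun h => haba h.symm, fun h => h2 h.symm⟩
    · simp only [Finset.mem_insert, Finset.mem_singleton, Subtype.mk.injEq, not_or]
      exact ⟨fun h => ha1 h.symm, fun h => hb1 h.symm, fun h => hab1 h.symm, fun h => h1 h.symm⟩
  have hle := Finset.card_le_univ s
  rw [hs, ← Nat.card_eq_fintype_card, hW] at hle
  omega

namespace Ctx

variable [Finite G] {S : Sylow 2 G} {M T K L : Subgroup G} (c : Ctx S M T K L)
include c

theorem pCoreOf_le_T : pCoreOf 2 L ≤ T := pCoreOf_le_of_isSylowTwoIn c.sylow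

/-- `Ω₁Z(S) ≤ Ω₁Z(T)`. -/
theorem Z_le_ZT : omegaCenterOf (S : Subgroup G) ≤ omegaCenterOf T := by
  have hQS : pCoreOf 2 L ≤ (S : Subgroup G) := c.pCoreOf_le_T.trans c.hTS
  have h1 := omegaCenterOf_le_of_cent hQS c.ovr.2.2
  have hle := omegaCenterOf_le (S : Subgroup G)
  have hsq := omegaCenterOf_sq (S : Subgroup G)
  intro x hx
  have hxQ : x ∈ pCoreOf 2 L := ((omegaCenterOf_le _).trans inf_le_left) (h1 hx)
  apply mem_omegaCenterOf (c.pCoreOf_le_T hxQ) _ (hsq x hx)
  intro y hy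
  exact Subgroup.mem_centralizer_iff.1 (hle hx).2 y (c.hTS hy)

theorem ZT_le_Z0 : omegaCenterOf T ≤ omegaCenterOf (thompsonSubgroupOf 2 T) :=
  omegaCenterOf_le_thompson

theorem Z_le_Z0 : omegaCenterOf (S : Subgroup G) ≤ omegaCenterOf (thompsonSubgroupOf 2 T) :=
  c.Z_le_ZT.trans c.ZT_le_Z0

theorem Z0W_ne_bot : omegaCenterOf (thompsonSubgroupOf 2 T) ⊓ wOf K ≠ ⊥ := by
  intro h
  have := c.s2946.1
  rw [h] at this
  simp at this

theorem S_ne_bot : (S : Subgroup G) ≠ ⊥ := by
  intro h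
  apply c.hT1
  rw [eq_bot_iff, ← h]
  exact c.hTS

/-- `Ω₁Z(S) ≠ 1`. -/
theorem Z_ne_bot : omegaCenterOf (S : Subgroup G) ≠ ⊥ := by
  have h2 : Fact (Nat.Prime 2) := ⟨Nat.prime_two⟩
  intro h
  have hS1 : Nontrivial ↥(S : Subgroup G) := by
    rw [Subgroup.nontrivial_iff_ne_bot]
    exact c.S_ne_bot
  have hc : Nontrivial ↥(Subgroup.center ↥(S : Subgroup G)) :=
    (S.2 : IsPGroup 2 ↥(S : Subgroup G)).center_nontrivial
  obtain ⟨⟨z, hz⟩, hz1⟩ := exists_ne (1 : ↥(Subgroup.center ↥(S : Subgroup G)))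
  have hdvd : 2 ∣ Nat.card ↥(Subgroup.center ↥(S : Subgroup G)) := by
    rcases ((S.2 : IsPGroup 2 ↥(S : Subgroup G)).to_subgroup
      (Subgroup.center ↥(S : Subgroup G))).card_eq_or_dvd with h | h
    · exfalso
      have := (Subgroup.eq_bot_of_card_eq _ h)
      exact (not_nontrivial_iff_subsingleton.2 (by rw [this]; infer_instance)) hc
    · exact h
  obtain ⟨u, hu⟩ := exists_prime_orderOf_dvd_card' (G := ↥(Subgroup.center ↥(S : Subgroup G))) 2 hdvd
  have hu1 : (u : ↥(S : Subgroup G)).1 ≠ 1 := by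
    intro h1
    have : u = 1 := by
      apply Subtype.ext; apply Subtype.ext; exact h1
    rw [this, orderOf_one] at hu
    omega
  have hu2 : (u : ↥(S : Subgroup G)).1 * (u : ↥(S : Subgroup G)).1 = 1 := by
    have : u ^ 2 = 1 := by
      have h5 := pow_orderOf_eq_one u
      rwa [hu] at h5
    have h3 : ((u ^ 2 : ↥(Subgroup.center ↥(S : Subgroup G))) : ↥(S : Subgroup G)).1 = 1 := by
      rw [this]; rfl
    rw [← h3, pow_two]; rfl
  have hmem : (u : ↥(S : Subgroup G)).1 ∈ omegaCenterOf (S : Subgroup G) := by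
    apply mem_omegaCenterOf (u : ↥(S : Subgroup G)).2 _ hu2
    intro y hy
    have := Subgroup.mem_center_iff.1 u.2 ⟨y, hy⟩
    exact congrArg Subtype.val this
  rw [h, Subgroup.mem_bot] at hmem
  exact hu1 hmem

end Ctx

end Cfsg.Agent.Lib.Helper9.KS
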