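import Mathlib
import Cfsg.Prelude
import Cfsg.Agent.Lib.Helper9.KUc
import Cfsg.Agent.Lib.Helper5.KSEnd.Extract

set_option autoImplicit false
set_option linter.unusedSectionVars false
set_option linter.unusedVariables false
set_option linter.style.longLine false
set_option linter.unusedSimpArgs false
open Cfsg

set_option maxHeartbeats 1600000
namespace Cfsg.Agent.Lib.Helper9.KS

open Cfsg.Agent.Lib.Helper1 Cfsg.Agent.Lib.Helper3.JC
open scoped commutatorElement

variable {G : Type*} [Group G]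

theorem conj_cancel {x a b : G} (h : x * a * x⁻¹ = x * b * x⁻¹) : a = b := by
  calc a = x⁻¹ * (x * a * x⁻¹) * x := by group
    _ = x⁻¹ * (x * b * x⁻¹) * x := by rw [h]
    _ = b := by group

theorem conj_ne_one {x a : G} (h : a ≠ 1) : x * a * x⁻¹ ≠ 1 := by
  intro h1
  apply h
  apply conj_cancel (x := x)
  rw [h1]; group

/-- abstract index-two lemma for a four-group `Z₀ = {1, b, b^x, z}`, `z = b b^x`. -/
theorem relIndex_two_of_four [Finite G] {Z₀ H : Subgroup G} {b x z : G}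
    (hel : ∀ w ∈ Z₀, w = 1 ∨ w = b ∨ w = x * b * x⁻¹ ∨ w = z)
    (hsq : ∀ w ∈ Z₀, w * w = 1) (hb : b ∈ Z₀) (hb1 : b ≠ 1) (hz : z = b * (x * b * x⁻¹))
    (hbx : x * b * x⁻¹ ≠ b)
    (hxN : x ∈ Subgroup.normalizer (Z₀ : Set G)) (hxz : x * z * x⁻¹ = z)
    (hfix : ∀ g : G, g * z * g⁻¹ ≠ b)
    (hH1 : ∀ g ∈ H, g * b * g⁻¹ = b)
    (hH2 : ∀ g : G, g * b * g⁻¹ = b → g * z * g⁻¹ = z → g ∈ H) :
    H.relIndex (Subgroup.normalizer (Z₀ : Set G)) = 2 := by
  have hbb : b * b = 1 := hsq b hb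
  have hbz : x * b * x⁻¹ = b * z := by
    rw [hz, ← mul_assoc, hbb, one_mul]
  have hzb : z ≠ b := by
    intro h
    have h2 := hfix 1
    apply h2
    rw [← h]; group
  have hz1 : z ≠ 1 := by
    intro h
    have h2 : (x * b * x⁻¹) = b := by
      calc x * b * x⁻¹ = (b * b) * (x * b * x⁻¹) := by rw [hbb, one_mul]
        _ = b * (b * (x * b * x⁻¹)) := by group
        _ = b := by rw [← hz, h, mul_one]
    exact hbx h2
  have hzZ : z ∈ Z₀ := by
    rw [hz]
    exact Z₀.mul_mem hb ((Subgroup.mem_normalizer_iff.1 hxN b).1 hb)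
  have hfixz : ∀ g ∈ Subgroup.normalizer (Z₀ : Set G), g * z * g⁻¹ = z := by
    intro g hg
    have h1 := (Subgroup.mem_normalizer_iff.1 hg z).1 hzZ
    rcases hel _ h1 with h | h | h | h
    · exact absurd h (conj_ne_one hz1)
    · exact absurd h (hfix g)
    · exfalso
      apply hfix (x⁻¹ * g)
      calc x⁻¹ * g * z * (x⁻¹ * g)⁻¹ = x⁻¹ * (g * z * g⁻¹) * x := by group
        _ = x⁻¹ * (x * b * x⁻¹) * x := by rw [h]
        _ = b := by group
    · exact h
  have hdich : ∀ g ∈ Subgroup.normalizer (Z₀ : Set G),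
      g * b * g⁻¹ = b ∨ g * b * g⁻¹ = x * b * x⁻¹ := by
    intro g hg
    have h1 := (Subgroup.mem_normalizer_iff.1 hg b).1 hb
    rcases hel _ h1 with h | h | h | h
    · exact absurd h (conj_ne_one hb1)
    · exact Or.inl h
    · exact Or.inr h
    · exfalso
      apply hzb
      have h2 := hfixz g hg
      rw [← h2] at h
      exact (conj_cancel h).symm
  rw [Subgroup.relIndex_eq_two_iff]
  refine ⟨x, hxN, ?_⟩
  intro g hg
  have hgx : g * x * b * (g * x)⁻¹ = (g * b * g⁻¹) * z := by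
    calc g * x * b * (g * x)⁻¹ = g * (x * b * x⁻¹) * g⁻¹ := by group
      _ = g * (b * z) * g⁻¹ := by rw [hbz]
      _ = (g * b * g⁻¹) * (g * z * g⁻¹) := by group
      _ = (g * b * g⁻¹) * z := by rw [hfixz g hg]
  rcases hdich g hg with h | h
  · right
    refine ⟨hH2 g h (hfixz g hg), ?_⟩
    intro hgxH
    have h3 := hH1 _ hgxH
    rw [hgx, h, ← hbz] at h3
    exact hbx h3
  · left
    refine ⟨?_, ?_⟩
    · apply hH2
      · rw [hgx, h, hbz, mul_assoc]
        have hzz : z * z = 1 := hsq z hzZ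
        rw [hzz, mul_one]
      · exact hfixz _ (Subgroup.mul_mem _ hg hxN)
    · intro hgH
      have h3 := hH1 g hgH
      rw [h] at h3
      exact hbx h3

theorem card_eq_two_of_le_two [Finite G] {B : Subgroup G} (h1 : B ≠ ⊥) (h2 : Nat.card ↥B ≤ 2) :
    Nat.card ↥B = 2 := by
  have h3 : Nat.card ↥B ≠ 1 := fun h => h1 (Subgroup.card_eq_one.1 h)
  have h4 : 0 < Nat.card ↥B := Nat.card_pos
  omega

namespace Ctx

variable [Finite G] {S : Sylow 2 G} {M T K L : Subgroup G} (c : Ctx S M T K L)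
include c

theorem normT_le_normJ : Subgroup.normalizer (T : Set G) ≤
    Subgroup.normalizer (thompsonSubgroupOf 2 T : Set G) :=
  normalizer_le_normalizer_thompsonSubgroupOf (thompsonSubgroupOf_le_self 2 T) le_rfl

theorem S_inf_L : (S : Subgroup G) ⊓ L = T := inf_eq_of_isSylowTwoIn c.sylow c.hTS S.2

theorem exists_x (hne : T ≠ (S : Subgroup G)) : ∃ x ∈ (S : Subgroup G),
    x ∈ Subgroup.normalizer (T : Set G) ∧ x ∉ T ∧ x ∉ L := by
  have h2 : Fact (Nat.Prime 2) := ⟨Nat.prime_two⟩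
  have hlt : T < (S : Subgroup G) := lt_of_le_of_ne c.hTS hne
  have hnil : Group.IsNilpotent ↥(S : Subgroup G) := (S.2 : IsPGroup 2 ↥(S : Subgroup G)).isNilpotent
  obtain ⟨x, hxS, hxN, hxT⟩ := exists_mem_normalizer_not_mem_of_lt hnil hlt
  refine ⟨x, hxS, hxN, hxT, ?_⟩
  intro hxL
  apply hxT
  rw [← c.S_inf_L]
  exact ⟨hxS, hxL⟩

theorem normJ_le_normZ0 : Subgroup.normalizer (thompsonSubgroupOf 2 T : Set G) ≤
    Subgroup.normalizer (omegaCenterOf (thompsonSubgroupOf 2 T) : Set G) :=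
  (nz_omegaCenterOf (nz_of_le_normalizer le_rfl)).le_normalizer

/-- case (a): `B = 1`. -/
theorem case_a (hB : bOf T K = ⊥) :
    omegaCenterOf (S : Subgroup G) = omegaCenterOf (thompsonSubgroupOf 2 T) ∧
      Nat.card ↥(omegaCenterOf (thompsonSubgroupOf 2 T)) = 2 := by
  have h1 := c.card_Z0
  rw [hB, Subgroup.card_bot, mul_one] at h1
  refine ⟨?_, h1⟩
  apply Subgroup.eq_of_le_of_card_ge c.Z_le_Z0
  rw [h1]
  have h3 : Nat.card ↥(omegaCenterOf (S : Subgroup G)) ≠ 1 :=
    fun h => c.Z_ne_bot (Subgroup.card_eq_one.1 h)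
  have h4 : 0 < Nat.card ↥(omegaCenterOf (S : Subgroup G)) := Nat.card_pos
  omega

/-- The uniform consequence used later: `Ω₁Z(T) = Z₀` in case (a). -/
theorem ZT_eq_of_Z_eq (h : omegaCenterOf (S : Subgroup G) = omegaCenterOf (thompsonSubgroupOf 2 T)) :
    omegaCenterOf T = omegaCenterOf (thompsonSubgroupOf 2 T) :=
  le_antisymm c.ZT_le_Z0 (h ▸ c.Z_le_ZT)

/-- case (c): `T ≠ S`, `B ≠ 1`. -/
theorem case_c {x : G} (hxS : x ∈ (S : Subgroup G)) (hxN : x ∈ Subgroup.normalizer (T : Set G))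
    (hxL : x ∉ L) (hB : bOf T K ≠ ⊥) (hlt : Nat.card ↥T < Nat.card ↥(S : Subgroup G)) :
    omegaCenterOf T = omegaCenterOf (thompsonSubgroupOf 2 T) ∧
      Nat.card ↥(omegaCenterOf (thompsonSubgroupOf 2 T)) = 4 ∧
      (L ⊓ Subgroup.centralizer (omegaCenterOf (thompsonSubgroupOf 2 T) : Set G)).relIndex
        (Subgroup.normalizer (omegaCenterOf (thompsonSubgroupOf 2 T) : Set G)) = 2 := by
  have hxJ := c.normT_le_normJ hxN
  have hxZ0 := c.normJ_le_normZ0 hxJ
  have hB2 := card_eq_two_of_le_two hB (c.card_bOf_le hxL hxJ)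
  have hZ04 : Nat.card ↥(omegaCenterOf (thompsonSubgroupOf 2 T)) = 4 := by
    rw [c.card_Z0, hB2]
  obtain ⟨⟨b, hbB⟩, hb1'⟩ := (Subgroup.ne_bot_iff_exists_ne_one).1 hB
  have hb1 : b ≠ 1 := fun h => hb1' (Subtype.ext h)
  have hbZ0 : b ∈ omegaCenterOf (thompsonSubgroupOf 2 T) := bOf_le T K hbB
  have hsq := c.Z0_sq
  have hbx : x * b * x⁻¹ ≠ b := by
    intro h
    have h1 : b ∈ bOf T K ⊓ (bOf T K).map (MulAut.conj x).toMonoidHom :=
      ⟨hbB, ⟨b, hbB, h⟩⟩
    rw [c.bOf_inf_conj hxL, Subgroup.mem_bot] at h1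
    exact hb1 h1
  have hbxZ0 : x * b * x⁻¹ ∈ omegaCenterOf (thompsonSubgroupOf 2 T) :=
    (Subgroup.mem_normalizer_iff.1 hxZ0 b).1 hbZ0
  have hel := four_group_elems hZ04 hsq hbZ0 hbxZ0 hb1 (conj_ne_one hb1) (Ne.symm hbx)
  -- the central involution
  obtain ⟨⟨z, hzZ⟩, hz1'⟩ := (Subgroup.ne_bot_iff_exists_ne_one).1 c.Z_ne_bot
  have hz1 : z ≠ 1 := fun h => hz1' (Subtype.ext h)
  have hzZ0 : z ∈ omegaCenterOf (thompsonSubgroupOf 2 T) := c.Z_le_Z0 hzZ
  have hzS := omegaCenterOf_le _ hzZ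
  have hzc : ∀ s ∈ (S : Subgroup G), s * z * s⁻¹ = z := by
    intro s hs
    have := Subgroup.mem_centralizer_iff.1 hzS.2 s hs
    rw [this]; group
  have hzeq : z = b * (x * b * x⁻¹) := by
    rcases hel z hzZ0 with h | h | h | h
    · exact absurd h hz1
    · exfalso
      apply hbx
      rw [← h]
      exact hzc x hxS
    · exfalso
      apply hbx
      have h2 := hzc x hxS
      rw [h] at h2
      exact conj_cancel h2
    · exact h
  have hbb : b * b = 1 := hsq b hbZ0
  have hbz : x * b * x⁻¹ = b * z := by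
    rw [hzeq, ← mul_assoc, hbb, one_mul]
  have hzb : z ≠ b := by
    intro h
    apply conj_ne_one (x := x) hb1
    calc x * b * x⁻¹ = (b * b) * (x * b * x⁻¹) := by rw [hbb, one_mul]
      _ = b * (b * (x * b * x⁻¹)) := by group
      _ = b * z := by rw [← hzeq]
      _ = 1 := by rw [h, hbb]
  -- T centralizes Z₀
  have hTJ : T ≤ Subgroup.normalizer (thompsonSubgroupOf 2 T : Set G) :=
    Subgroup.le_normalizer.trans c.normT_le_normJ
  have hTb : ∀ t ∈ T, t * b * t⁻¹ = b := by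
    intro t ht
    have h1 := (Subgroup.mem_normalizer_iff.1 (c.normJ_le_normZ0 (hTJ ht)) b).1 hbZ0
    rcases hel _ h1 with h | h | h | h
    · exact absurd h (conj_ne_one hb1)
    · exact h
    · exfalso
      apply hxL
      have h2 : x⁻¹ * t ∈ Subgroup.centralizer ({b} : Set G) := by
        rw [Subgroup.mem_centralizer_iff]
        intro y hy
        rw [Set.mem_singleton_iff.1 hy]
        calc b * (x⁻¹ * t) = x⁻¹ * (x * b * x⁻¹) * t := by group
          _ = x⁻¹ * (t * b * t⁻¹) * t := by rw [h]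
          _ = x⁻¹ * t * b := by group
      have h3 := c.cent_le hbB hb1 h2
      have h4 : x = t * (x⁻¹ * t)⁻¹ := by group
      rw [h4]
      exact L.mul_mem (c.hTL ht) (L.inv_mem h3)
    · exfalso
      apply hzb
      have h2 := hzc t (c.hTS ht)
      rw [← hzeq, ← h2] at h
      exact (conj_cancel h).symm
  have hTc : ∀ w ∈ omegaCenterOf (thompsonSubgroupOf 2 T), ∀ t ∈ T, t * w * t⁻¹ = w := by
    intro w hw t ht
    have htz := hzc t (c.hTS ht)
    have htb := hTb t ht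
    rcases hel w hw with h | h | h | h
    · rw [h]; group
    · rw [h]; exact htb
    · rw [h, hbz]
      calc t * (b * z) * t⁻¹ = (t * b * t⁻¹) * (t * z * t⁻¹) := by group
        _ = b * z := by rw [htb, htz]
    · rw [h, ← hzeq]; exact htz
  have hZ0T : omegaCenterOf (thompsonSubgroupOf 2 T) ≤ omegaCenterOf T := by
    intro w hw
    have hwJ : w ∈ thompsonSubgroupOf 2 T := ((omegaCenterOf_le _).trans inf_le_left) hw
    apply mem_omegaCenterOf (thompsonSubgroupOf_le_self 2 T hwJ) _ (hsq w hw)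
    intro t ht
    have := hTc w hw t ht
    calc t * w = (t * w * t⁻¹) * t := by group
      _ = w * t := by rw [this]
  refine ⟨le_antisymm c.ZT_le_Z0 hZ0T, hZ04, ?_⟩
  have hel' : ∀ w ∈ omegaCenterOf (thompsonSubgroupOf 2 T),
      w = 1 ∨ w = b ∨ w = x * b * x⁻¹ ∨ w = z := by
    intro w hw
    rw [hzeq]
    exact hel w hw
  apply relIndex_two_of_four (z := z) hel' hsq hbZ0 hb1 hzeq hbx hxZ0 (hzc x hxS)
  · -- no conjugate of z equals b
    intro g hg
    have hSg : (S : Subgroup G).map (MulAut.conj g).toMonoidHom ≤ L := by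
      refine le_trans ?_ (c.cent_le hbB hb1)
      rintro _ ⟨s, hs, rfl⟩
      rw [Subgroup.mem_centralizer_iff]
      intro y hy
      rw [Set.mem_singleton_iff.1 hy]
      show b * (g * s * g⁻¹) = g * s * g⁻¹ * b
      have h5 := hzc s hs
      rw [← hg]
      calc g * z * g⁻¹ * (g * s * g⁻¹) = g * (z * s) * g⁻¹ := by group
        _ = g * (s * z * s⁻¹ * s) * g⁻¹ := by rw [h5]
        _ = g * s * g⁻¹ * (g * z * g⁻¹) := by group
    have h6 := Cfsg.Agent.Lib.Helper5.KSEnd.card_le_of_sylow c.sylow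
      ((S.2 : IsPGroup 2 ↥(S : Subgroup G)).map (MulAut.conj g).toMonoidHom) hSg
    rw [Subgroup.card_map_of_injective (MulAut.conj g).injective] at h6
    omega
  · rintro g ⟨-, hg⟩
    have := Subgroup.mem_centralizer_iff.1 hg b hbZ0
    rw [← this]; group
  · intro g hgb hgz
    have hgC : g ∈ Subgroup.centralizer ({b} : Set G) := by
      rw [Subgroup.mem_centralizer_iff]
      intro y hy
      rw [Set.mem_singleton_iff.1 hy]
      calc b * g = (g * b * g⁻¹) * g := by rw [hgb]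
        _ = g * b := by group
    refine ⟨c.cent_le hbB hb1 hgC, Subgroup.mem_centralizer_iff.2 ?_⟩
    intro w hw
    have hcomm : ∀ u : G, g * u * g⁻¹ = u → u * g = g * u := by
      intro u hu
      calc u * g = (g * u * g⁻¹) * g := by rw [hu]
        _ = g * u := by group
    apply hcomm
    rcases hel w hw with h | h | h | h
    · rw [h]; group
    · rw [h]; exact hgb
    · rw [h, hbz]
      calc g * (b * z) * g⁻¹ = (g * b * g⁻¹) * (g * z * g⁻¹) := by group
        _ = b * z := by rw [hgb, hgz]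
    · rw [h, ← hzeq]; exact hgz

end Ctx

end Cfsg.Agent.Lib.Helper9.KS
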