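import Mathlib
import Cfsg.Prelude
import Cfsg.Agent.Lib.Helper9.KUd
import Cfsg.Agent.S2943

set_option autoImplicit false
set_option linter.unusedSectionVars false
set_option linter.unusedVariables false
set_option linter.style.longLine false
set_option linter.unusedSimpArgs false
open Cfsg

set_option maxHeartbeats 1600000
namespace Cfsg.Agent.Lib.Helper9.KS

open Cfsg.Agent.Lib.Helper1 Cfsg.Agent.Lib.Helper3.JC
open scoped commutatorElement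

variable {G : Type*} [Group G]

/-- `Ctx` plus `Ω₁Z(T) = Ω₁Z(J(T))`. -/
structure Good [Finite G] (S : Sylow 2 G) (M T K L : Subgroup G) : Prop where
  c : Ctx S M T K L
  hZT : omegaCenterOf T = omegaCenterOf (thompsonSubgroupOf 2 T)

/-- `P / K` is a `2`-group when `P = K T`. -/
theorem exists_pow_mem_of_mem_sup [Finite G] {K R : Subgroup G} (hR : IsPGroup 2 ↥R)
    (hRK : R ≤ Subgroup.normalizer (K : Set G)) {x : G} (hx : x ∈ K ⊔ R) :
    ∃ m : ℕ, x ^ (2 ^ m) ∈ K := by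
  rw [← SetLike.mem_coe, Subgroup.coe_mul_of_right_le_normalizer_left K R hRK] at hx
  obtain ⟨k, hk, r, hr, rfl⟩ := Set.mem_mul.mp hx
  obtain ⟨m, hm⟩ := hR ⟨r, hr⟩
  have hm' : r ^ (2 ^ m) = 1 := by
    have := congrArg Subtype.val hm
    simpa using this
  refine ⟨m, ?_⟩
  obtain ⟨k', hk', e⟩ := pow_mul_mem (K := K) (k := k) (j := r) hk
    (fun n x hx => (Subgroup.mem_normalizer_iff.1 (hRK (R.pow_mem hr n)) x).1 hx) (2 ^ m)
  rw [e, hm', mul_one]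
  exact hk'

namespace Good

variable [Finite G] {S : Sylow 2 G} {M T K L : Subgroup G} (g : Good S M T K L)
include g

theorem ZTW_ne_bot : omegaCenterOf T ⊓ wOf K ≠ ⊥ := by
  rw [g.hZT]; exact g.c.Z0W_ne_bot

theorem T_le_normK : T ≤ Subgroup.normalizer (K : Set G) := by
  apply Cfsg.Agent.S2943.result g.c.hL g.c.hN g.c.hZ T g.c.hTp g.c.hT1 L g.c.ovr K g.c.kJ g.c.hKLe
  intro h
  apply g.ZTW_ne_bot
  rw [eq_bot_iff, ← h]
  exact inf_le_inf_right _ (omegaCenterOf_le T)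

theorem P_le_L : K ⊔ T ≤ L := sup_le g.c.hKLe g.c.hTL

theorem pCoreOf_L_le : pCoreOf 2 L ≤ pCoreOf 2 (K ⊔ T) :=
  le_pCoreOf_of_normal (pCoreOf_isPGroup L) (g.c.pCoreOf_le_T.trans le_sup_right)
    (g.P_le_L.trans (nz_self_pCoreOf L).le_normalizer)

theorem P_cent : Subgroup.centralizer (pCoreOf 2 (K ⊔ T) : Set G) ≤ pCoreOf 2 (K ⊔ T) := by
  refine le_trans (Subgroup.centralizer_le ?_) (g.c.ovr.2.2.trans g.pCoreOf_L_le)
  exact_mod_cast g.pCoreOf_L_le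

theorem P_sylow : IsSylowTwoIn T (K ⊔ T) := by
  refine ⟨le_sup_right, g.c.hTp, ?_⟩
  have h1 := Subgroup.relIndex_mul_relIndex T (K ⊔ T) L le_sup_right g.P_le_L
  have h2 := g.c.sylow.2.2
  rw [← h1] at h2
  exact (Nat.odd_mul.1 h2).1

theorem Q_le_T : pCoreOf 2 K ≤ T :=
  (pCoreOf_comp_le g.c.hL g.c.hN g.c.hZ g.c.hTp g.c.hT1 g.c.ovr g.c.kJ g.c.hKLe).trans
    g.c.pCoreOf_le_T

theorem K_inf_T : K ⊓ T = pCoreOf 2 K := by
  apply le_antisymm _ (le_inf (pCoreOf_le K) g.Q_le_T)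
  rintro k ⟨hkK, hkT⟩
  obtain ⟨m, hm⟩ := g.c.hTp ⟨k, hkT⟩
  have hm' : k ^ (2 ^ m) = 1 := by
    have := congrArg Subtype.val hm
    simpa using this
  exact two_elt_mem_pCoreOf g.c.hTp g.c.kJ hkK hm'

theorem card_P : Nat.card ↥(K ⊔ T : Subgroup G) = 3 * Nat.card ↥T := by
  have h1 := GlaubermanRepl.card_sup_mul_card_inf_of_le_normalizer T K g.T_le_normK
  rw [inf_comm, g.K_inf_T, g.c.kd.card_K, sup_comm] at h1
  have hpos : 0 < Nat.card ↥(pCoreOf 2 K) := Nat.card_pos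
  have h2 : Nat.card ↥(K ⊔ T : Subgroup G) * Nat.card ↥(pCoreOf 2 K) =
      (3 * Nat.card ↥T) * Nat.card ↥(pCoreOf 2 K) := by rw [h1]; ring
  exact Nat.eq_of_mul_eq_mul_right hpos h2

theorem relIndex_T_P : T.relIndex (K ⊔ T) = 3 := by
  have h1 := Subgroup.relIndex_mul_relIndex ⊥ T (K ⊔ T) bot_le le_sup_right
  rw [Subgroup.relIndex_bot_left, Subgroup.relIndex_bot_left, g.card_P] at h1
  have hpos : 0 < Nat.card ↥T := Nat.card_pos
  have h2 : Nat.card ↥T * T.relIndex (K ⊔ T) = Nat.card ↥T * 3 := by rw [h1]; ring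
  exact Nat.eq_of_mul_eq_mul_left hpos h2

theorem K_not_le_T : ¬ K ≤ T := by
  intro h
  have h1 : K ⊓ T = K := inf_eq_left.2 h
  rw [g.K_inf_T] at h1
  have h2 := g.c.kd.idx
  rw [h1, Subgroup.relIndex_self] at h2
  omega

theorem nzTK : Nz T K := nz_of_le_normalizer g.T_le_normK

theorem nzPW : Nz (K ⊔ T) (wOf K) := by
  have h1 : Nz T (wOf K) := by
    unfold wOf
    exact (nz_omegaCenterOf (nz_pCoreOf g.nzTK)).commutator g.nzTK
  exact (g.c.kd.nzLW.mono le_sup_left).sup_left h1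

/-- `D = C_P(W)`. -/
theorem D_le : (K ⊔ T) ⊓ Subgroup.centralizer (wOf K : Set G) ≤ pCoreOf 2 (K ⊔ T) := by
  apply le_pCoreOf_of_normal _ inf_le_left
  · exact ((nz_self (K ⊔ T)).inf g.nzPW.centralizer).le_normalizer
  · rintro ⟨d, hdP, hdC⟩
    obtain ⟨m, hm⟩ := exists_pow_mem_of_mem_sup g.c.hTp g.T_le_normK hdP
    have h1 : d ^ (2 ^ m) ∈ pCoreOf 2 K :=
      g.c.kd.K_inf_cent_le_Q ⟨hm, Subgroup.pow_mem _ hdC _⟩
    obtain ⟨n, hn⟩ := (pCoreOf_isPGroup K) ⟨_, h1⟩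
    have hn' : (d ^ (2 ^ m)) ^ (2 ^ n) = 1 := by
      have := congrArg Subtype.val hn
      simpa using this
    refine ⟨m + n, Subtype.ext ?_⟩
    show d ^ (2 ^ (m + n)) = 1
    rw [pow_add, pow_mul]
    exact hn'

theorem pCoreOf_P_le_T : pCoreOf 2 (K ⊔ T) ≤ T := pCoreOf_le_of_isSylowTwoIn g.P_sylow

theorem pCoreOf_P_ne : pCoreOf 2 (K ⊔ T) ≠ T := by
  intro h
  apply g.K_not_le_T
  have hKT : K ≤ Subgroup.normalizer (T : Set G) := by
    rw [← h]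
    exact le_sup_left.trans (nz_self_pCoreOf (K ⊔ T)).le_normalizer
  have h1 : ⁅K, thompsonSubgroupOf 2 T⁆ ≤ T := by
    rw [Subgroup.commutator_le]
    intro k hk j hj
    have hjT := thompsonSubgroupOf_le_self 2 T hj
    rw [commutatorElement_def]
    have h2 := (Subgroup.mem_normalizer_iff.1 (hKT hk) j).1 hjT
    exact T.mul_mem h2 (T.inv_mem hjT)
  rw [g.c.kd.comm] at h1
  exact h1

theorem P_comm : ¬ ⁅K ⊔ T, K ⊔ T⁆ ≤ pCoreOf 2 (K ⊔ T) := by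
  intro h
  apply g.K_not_le_T
  have h1 : ⁅K, thompsonSubgroupOf 2 T⁆ ≤ ⁅K ⊔ T, K ⊔ T⁆ :=
    Subgroup.commutator_mono le_sup_left ((thompsonSubgroupOf_le_self 2 T).trans le_sup_right)
  rw [g.c.kd.comm] at h1
  exact h1.trans (h.trans g.pCoreOf_P_le_T)

theorem exists_w0 : ∃ w0 ∈ omegaCenterOf T, w0 ∈ wOf K ∧ w0 ≠ 1 := by
  obtain ⟨⟨w0, hw0⟩, h1⟩ := (Subgroup.ne_bot_iff_exists_ne_one).1 g.ZTW_ne_bot
  exact ⟨w0, hw0.1, hw0.2, fun h => h1 (Subtype.ext h)⟩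

theorem P_Z : ⁅omegaCenterOf T, K ⊔ T⁆ ≠ ⊥ := by
  intro h
  obtain ⟨w0, hw0Z, hw0W, hw01⟩ := g.exists_w0
  obtain ⟨y, hyK, hy3, hyQ⟩ := g.c.kd.exists_y
  apply hw01
  apply g.c.kd.fix_W hyK hy3 hyQ hw0W
  have h1 : ⁅w0, y⁆ ∈ ⁅omegaCenterOf T, K ⊔ T⁆ :=
    Subgroup.commutator_mem_commutator hw0Z (Subgroup.mem_sup_left hyK)
  rw [h, Subgroup.mem_bot, commutatorElement_def] at h1
  have h2 : w0 * y = y * w0 := by
    calc w0 * y = (w0 * y * w0⁻¹ * y⁻¹) * y * w0 := by group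
      _ = y * w0 := by rw [h1, one_mul]
  rw [← h2]; group

theorem P_max : ∃ L' : Subgroup G, IsMaximalTwoLocal L' ∧ K ⊔ T ≤ L' ∧ IsSylowTwoIn T L' ∧
    ∀ L'' : Subgroup G, IsMaximalTwoLocal L'' → K ⊔ T ≤ L'' → L'' = L' := by
  refine ⟨L, g.c.hLmax, g.P_le_L, g.c.sylow, ?_⟩
  intro L'' h1 h2
  apply g.c.max_eq h1
  exact sup_le (le_sup_left.trans h2) ((thompsonSubgroupOf_le_self 2 T).trans (le_sup_right.trans h2))

end Good

end Cfsg.Agent.Lib.Helper9.KS
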