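import Mathlib
import Cfsg.Prelude
import Cfsg.Agent.Lib.Helper9.KUe

set_option autoImplicit false
set_option linter.unusedSectionVars false
set_option linter.unusedVariables false
set_option linter.style.longLine false
set_option linter.unusedSimpArgs false
open Cfsg

set_option maxHeartbeats 1600000
namespace Cfsg.Agent.Lib.Helper9.KS

open Cfsg.Agent.Lib.Helper1 Cfsg.Agent.Lib.Helper3.JC
open scoped commutatorElement

variable {G : Type*} [Group G]

theorem exists_third [Finite G] {W : Subgroup G} (hW : Nat.card ↥W = 4) (w0 : G) :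
    ∃ w ∈ W, w ≠ 1 ∧ w ≠ w0 := by
  classical
  by_contra hcon
  push Not at hcon
  have hinj : Function.Injective (fun w : ↥W => decide ((w : G) = 1)) := by
    intro a b hab
    simp only [decide_eq_decide] at hab
    apply Subtype.ext
    by_cases ha : (a : G) = 1
    · rw [ha, (hab.1 ha)]
    · have hb : (b : G) ≠ 1 := fun h => ha (hab.2 h)
      rw [hcon a a.2 ha, hcon b b.2 hb]
  have := Nat.card_le_card_of_injective _ hinj
  rw [hW] at this
  simp at this

namespace Good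

variable [Finite G] {S : Sylow 2 G} {M T K L : Subgroup G} (g : Good S M T K L)
include g

theorem relIndex_D_T :
    ((K ⊔ T) ⊓ Subgroup.centralizer (wOf K : Set G)).relIndex T = 2 := by
  obtain ⟨w0, hw0Z, hw0W, hw01⟩ := g.exists_w0
  obtain ⟨w, hwW, hw1, hww0⟩ := exists_third g.c.kd.wcard w0
  have hsq := g.c.kd.wsq
  have hel := four_group_elems g.c.kd.wcard hsq hw0W hwW hw01 hw1 (Ne.symm hww0)
  have hw0c : ∀ t ∈ T, t * w0 * t⁻¹ = w0 := by
    intro t ht
    have := Subgroup.mem_centralizer_iff.1 (omegaCenterOf_le T hw0Z).2 t ht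
    rw [this]; group
  have hnz : Nz T (wOf K) := g.nzPW.mono le_sup_right
  have hdich : ∀ t ∈ T, t * w * t⁻¹ = w ∨ t * w * t⁻¹ = w0 * w := by
    intro t ht
    rcases hel _ (hnz t ht w hwW) with h | h | h | h
    · exact absurd h (conj_ne_one hw1)
    · exfalso
      apply hww0
      rw [← hw0c t ht] at h
      exact conj_cancel h
    · exact Or.inl h
    · exact Or.inr h
  have hD : ∀ t ∈ T, (t ∈ (K ⊔ T) ⊓ Subgroup.centralizer (wOf K : Set G) ↔ t * w * t⁻¹ = w) := by
    intro t ht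
    constructor
    · rintro ⟨-, hc⟩
      have := Subgroup.mem_centralizer_iff.1 hc w hwW
      rw [← this]; group
    · intro h
      refine ⟨Subgroup.mem_sup_right ht, Subgroup.mem_centralizer_iff.2 ?_⟩
      intro u hu
      have hcomm : ∀ v : G, t * v * t⁻¹ = v → v * t = t * v := by
        intro v hv
        calc v * t = (t * v * t⁻¹) * t := by rw [hv]
          _ = t * v := by group
      apply hcomm
      rcases hel u hu with h' | h' | h' | h'
      · rw [h']; group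
      · rw [h']; exact hw0c t ht
      · rw [h']; exact h
      · rw [h']
        calc t * (w0 * w) * t⁻¹ = (t * w0 * t⁻¹) * (t * w * t⁻¹) := by group
          _ = w0 * w := by rw [hw0c t ht, h]
  have hw0w : w0 * w ≠ w := by
    intro h
    apply hw01
    calc w0 = (w0 * w) * w⁻¹ := by group
      _ = 1 := by rw [h]; group
  -- an element of `T` outside `D`
  obtain ⟨a, haT, haD⟩ : ∃ a ∈ T, a ∉ (K ⊔ T) ⊓ Subgroup.centralizer (wOf K : Set G) := by
    by_contra hcon
    push Not at hcon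
    apply g.pCoreOf_P_ne
    apply le_antisymm g.pCoreOf_P_le_T
    intro t ht
    exact g.D_le (hcon t ht)
  have haw : a * w * a⁻¹ = w0 * w := by
    rcases hdich a haT with h | h
    · exact absurd ((hD a haT).2 h) haD
    · exact h
  rw [Subgroup.relIndex_eq_two_iff]
  refine ⟨a, haT, ?_⟩
  intro b hbT
  have hba : b * a * w * (b * a)⁻¹ = w0 * (b * w * b⁻¹) := by
    calc b * a * w * (b * a)⁻¹ = b * (a * w * a⁻¹) * b⁻¹ := by group
      _ = b * (w0 * w) * b⁻¹ := by rw [haw]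
      _ = (b * w0 * b⁻¹) * (b * w * b⁻¹) := by group
      _ = w0 * (b * w * b⁻¹) := by rw [hw0c b hbT]
  have hbaT : b * a ∈ T := T.mul_mem hbT haT
  rcases hdich b hbT with h | h
  · right
    refine ⟨(hD b hbT).2 h, ?_⟩
    intro h2
    have h3 := (hD _ hbaT).1 h2
    rw [hba, h] at h3
    exact hw0w h3
  · left
    refine ⟨(hD _ hbaT).2 ?_, ?_⟩
    · rw [hba, h, ← mul_assoc, hsq w0 hw0W, one_mul]
    · intro h2
      have h3 := (hD b hbT).1 h2
      rw [h] at h3
      exact hw0w h3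

theorem relIndex_pCoreOf_T : (pCoreOf 2 (K ⊔ T)).relIndex T = 2 := by
  have h1 := Subgroup.relIndex_mul_relIndex _ _ T g.D_le g.pCoreOf_P_le_T
  rw [g.relIndex_D_T] at h1
  have h2 : (pCoreOf 2 (K ⊔ T)).relIndex T ∣ 2 := Dvd.intro_left _ h1
  rcases (Nat.dvd_prime Nat.prime_two).1 h2 with h | h
  · exfalso
    apply g.pCoreOf_P_ne
    exact le_antisymm g.pCoreOf_P_le_T (Subgroup.relIndex_eq_one.1 h)
  · exact h

theorem P_relIndex : (pCoreOf 2 (K ⊔ T)).relIndex (K ⊔ T) = 6 := by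
  have h1 := Subgroup.relIndex_mul_relIndex _ _ (K ⊔ T) g.pCoreOf_P_le_T le_sup_right
  rw [g.relIndex_pCoreOf_T, g.relIndex_T_P] at h1
  omega

/-- all the properties required of `P = K T` in S2953. -/
theorem P_all : Subgroup.centralizer (Cfsg.pCoreOf 2 (K ⊔ T) : Set G) ≤ Cfsg.pCoreOf 2 (K ⊔ T) ∧
    Cfsg.IsSylowTwoIn T (K ⊔ T) ∧
    (Cfsg.pCoreOf 2 (K ⊔ T)).relIndex (K ⊔ T) = 6 ∧ ¬ ⁅K ⊔ T, K ⊔ T⁆ ≤ Cfsg.pCoreOf 2 (K ⊔ T) ∧
    ⁅Cfsg.omegaCenterOf T, K ⊔ T⁆ ≠ ⊥ ∧
    ∃ L : Subgroup G, Cfsg.IsMaximalTwoLocal L ∧ K ⊔ T ≤ L ∧ Cfsg.IsSylowTwoIn T L ∧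
      ∀ L' : Subgroup G, Cfsg.IsMaximalTwoLocal L' → K ⊔ T ≤ L' → L' = L :=
  ⟨g.P_cent, g.P_sylow, g.P_relIndex, g.P_comm, g.P_Z, g.P_max⟩

end Good

end Cfsg.Agent.Lib.Helper9.KS
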