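import Mathlib
import Cfsg.Prelude
import Cfsg.Agent.Lib.Helper9.KUf

set_option autoImplicit false
set_option linter.unusedSectionVars false
set_option linter.unusedVariables false
set_option linter.style.longLine false
set_option linter.unusedSimpArgs false
open Cfsg

set_option maxHeartbeats 1600000
namespace Cfsg.Agent.Lib.Helper9.KS

open Cfsg.Agent.Lib.Helper1 Cfsg.Agent.Lib.Helper3.JC Cfsg.Agent.Lib.Helper7.KU
open scoped commutatorElement

variable {G : Type*} [Group G]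

theorem normalizer_map_cj (x : G) (W : Subgroup G) :
    (Subgroup.normalizer (W : Set G)).map (MulAut.conj x).toMonoidHom =
      Subgroup.normalizer ((W.map (MulAut.conj x).toMonoidHom : Subgroup G) : Set G) :=
  Subgroup.map_equiv_normalizer_eq W (MulAut.conj x)

theorem map_cj_le_iff (x : G) (A B : Subgroup G) :
    A.map (MulAut.conj x).toMonoidHom ≤ B.map (MulAut.conj x).toMonoidHom ↔ A ≤ B :=
  Subgroup.map_le_map_iff_of_injective (MulAut.conj x).injective

theorem inv_mem_normalizer {X : Subgroup G} {x : G} (h : x ∈ Subgroup.normalizer (X : Set G)) :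
    x⁻¹ ∈ Subgroup.normalizer (X : Set G) := Subgroup.inv_mem _ h

/-- transport of the `jComponentsZero` condition. -/
theorem jComponentsZero_conj {T K : Subgroup G} {x : G}
    (hx : x ∈ Subgroup.normalizer (thompsonSubgroupOf 2 T : Set G)) (h : K ∈ jComponentsZero T) :
    K.map (MulAut.conj x).toMonoidHom ∈ jComponentsZero T := by
  refine ⟨isJComponent_conj_of_mem_normalizer hx h.1, ?_⟩
  intro S' hJS' hS'
  have hx' := inv_mem_normalizer hx
  have h1 : thompsonSubgroupOf 2 T ≤ S'.map (MulAut.conj x⁻¹).toMonoidHom := by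
    have := Subgroup.map_mono (f := (MulAut.conj x⁻¹).toMonoidHom) hJS'
    rwa [map_cj_eq_self hx'] at this
  have h2 : IsSylowTwoIn (S'.map (MulAut.conj x⁻¹).toMonoidHom)
      (Subgroup.normalizer (wOf K : Set G)) := by
    have := isSylowTwoIn_map_cj x⁻¹ hS'
    rwa [normalizer_map_cj, wOf_map_cj, map_cj_inv_map_cj] at this
  have h3 := h.2 _ h1 h2
  rw [thompson_map_cj] at h3
  have h4 : ((thompsonSubgroupOf 2 S').map (MulAut.conj x⁻¹).toMonoidHom).map
      (MulAut.conj x).toMonoidHom = (thompsonSubgroupOf 2 T).map (MulAut.conj x).toMonoidHom := by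
    rw [h3]
  rw [map_cj_map_cj_inv, map_cj_eq_self hx] at h4
  exact h4

theorem isSylowTwoIn_of_card [Finite G] {T T' L : Subgroup G} (h : IsSylowTwoIn T' L)
    (hT : IsPGroup 2 ↥T) (hTL : T ≤ L) (hc : Nat.card ↥T = Nat.card ↥T') : IsSylowTwoIn T L := by
  refine ⟨hTL, hT, ?_⟩
  have h1 := Subgroup.relIndex_mul_relIndex ⊥ T L bot_le hTL
  have h2 := Subgroup.relIndex_mul_relIndex ⊥ T' L bot_le h.1
  rw [Subgroup.relIndex_bot_left, Subgroup.relIndex_bot_left] at h1 h2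
  have hpos : 0 < Nat.card ↥T' := Nat.card_pos
  have h3 : T.relIndex L = T'.relIndex L := by
    apply Nat.eq_of_mul_eq_mul_left hpos
    rw [h2, ← hc, h1]
  rw [h3]; exact h.2.2

namespace Ctx

variable [Finite G] {S : Sylow 2 G} {M T K L : Subgroup G} (c : Ctx S M T K L)
include c

theorem conj {x : G} (hx : x ∈ Subgroup.normalizer (thompsonSubgroupOf 2 T : Set G))
    (hTL : T ≤ L.map (MulAut.conj x).toMonoidHom) :
    Ctx S M T (K.map (MulAut.conj x).toMonoidHom) (L.map (MulAut.conj x).toMonoidHom) := by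
  have hxM : x ∈ M := c.normJ_le hx
  have hKL' : K.map (MulAut.conj x).toMonoidHom ⊔ thompsonSubgroupOf 2 T ≤
      L.map (MulAut.conj x).toMonoidHom := by
    have := Subgroup.map_mono (f := (MulAut.conj x).toMonoidHom) c.hKL
    rwa [Subgroup.map_sup, map_cj_eq_self hx] at this
  refine ⟨c.hL, c.hN, c.hZ, c.hO, c.hM, c.hMJ, c.hT, c.hTS, ⟨jComponentsZero_conj hx c.hK.1, ?_, ?_⟩,
    isMaximalTwoLocal_map (MulAut.conj x) c.hLmax, hKL'⟩
  · intro h
    apply c.hKM
    intro k hk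
    have h1 : x * k * x⁻¹ ∈ M := h ⟨k, hk, rfl⟩
    have : k = x⁻¹ * (x * k * x⁻¹) * x := by group
    rw [this]
    exact M.mul_mem (M.mul_mem (M.inv_mem hxM) h1) hxM
  · -- `O₂(L^x) ≤ O₂(K^x T)`
    have hsyl : IsSylowTwoIn T (L.map (MulAut.conj x).toMonoidHom) := by
      apply isSylowTwoIn_of_card (isSylowTwoIn_map_cj x c.sylow) c.hTp hTL
      rw [Subgroup.card_map_of_injective (MulAut.conj x).injective]
    have h1 : pCoreOf 2 (L.map (MulAut.conj x).toMonoidHom) ≤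
        pCoreOf 2 (K.map (MulAut.conj x).toMonoidHom ⊔ T) := by
      apply le_pCoreOf_of_normal (pCoreOf_isPGroup _)
        ((pCoreOf_le_of_isSylowTwoIn hsyl).trans le_sup_right)
      refine le_trans ?_ (nz_self_pCoreOf _).le_normalizer
      exact sup_le (le_sup_left.trans hKL') hTL
    intro h0
    rw [h0, le_bot_iff, pCoreOf_map_cj] at h1
    apply c.pCoreOf_L_ne_bot
    rw [eq_bot_iff]
    intro q hq
    have : x * q * x⁻¹ ∈ (pCoreOf 2 L).map (MulAut.conj x).toMonoidHom := ⟨q, hq, rfl⟩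
    rw [h1, Subgroup.mem_bot] at this
    rw [Subgroup.mem_bot]
    apply conj_cancel (x := x)
    rw [this]; group

end Ctx

namespace Good

variable [Finite G] {S : Sylow 2 G} {M T K L : Subgroup G} (g : Good S M T K L)
include g

theorem conj {x : G} (hx : x ∈ Subgroup.normalizer (thompsonSubgroupOf 2 T : Set G))
    (hTL : T ≤ L.map (MulAut.conj x).toMonoidHom) :
    Good S M T (K.map (MulAut.conj x).toMonoidHom) (L.map (MulAut.conj x).toMonoidHom) :=
  ⟨g.c.conj hx hTL, g.hZT⟩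

end Good

/-- The pair lemma: two good components over the same `T` with different maximal 2-locals give the
conclusion of S2953. -/
theorem s2953_of_pair [Finite G] {S S' : Sylow 2 G} {M M' T K₁ K₂ L₁ L₂ : Subgroup G}
    (g₁ : Good S M T K₁ L₁) (g₂ : Good S' M' T K₂ L₂) (hne : L₁ ≠ L₂) :
    ∃ K₁ K₂ : Subgroup G, K₁ ≠ K₂ ∧ Cfsg.IsJComponent T K₁ ∧ Cfsg.IsJComponent T K₂ ∧
      Cfsg.pCoreOf 2 ((K₁ ⊔ T) ⊔ (K₂ ⊔ T)) = ⊥ ∧
      ∀ P ∈ [K₁ ⊔ T, K₂ ⊔ T],
        Subgroup.centralizer (Cfsg.pCoreOf 2 P : Set G) ≤ Cfsg.pCoreOf 2 P ∧ Cfsg.IsSylowTwoIn T P ∧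
        (Cfsg.pCoreOf 2 P).relIndex P = 6 ∧ ¬ ⁅P, P⁆ ≤ Cfsg.pCoreOf 2 P ∧ ⁅Cfsg.omegaCenterOf T, P⁆ ≠ ⊥ ∧
        ∃ L : Subgroup G, Cfsg.IsMaximalTwoLocal L ∧ P ≤ L ∧ Cfsg.IsSylowTwoIn T L ∧
          ∀ L' : Subgroup G, Cfsg.IsMaximalTwoLocal L' → P ≤ L' → L' = L := by
  have hJT := thompsonSubgroupOf_le_self 2 T
  refine ⟨K₁, K₂, ?_, g₁.c.kJ, g₂.c.kJ, ?_, ?_⟩
  · intro h
    apply hne
    have := g₂.c.hKL
    rw [← h] at this
    exact (g₁.c.max_eq g₂.c.hLmax this).symm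
  · by_contra h0
    have h2l := isTwoLocal_normalizer (pCoreOf_isPGroup ((K₁ ⊔ T) ⊔ (K₂ ⊔ T))) h0
    have hle : (K₁ ⊔ T) ⊔ (K₂ ⊔ T) ≤
        Subgroup.normalizer ((pCoreOf 2 ((K₁ ⊔ T) ⊔ (K₂ ⊔ T)) : Subgroup G) : Set G) :=
      (nz_self_pCoreOf _).le_normalizer
    obtain ⟨L', hL'max, hNL'⟩ := exists_max h2l
    have h1 : K₁ ⊔ thompsonSubgroupOf 2 T ≤ L' :=
      (sup_le (le_sup_left.trans le_sup_left) (hJT.trans (le_sup_right.trans le_sup_left))).trans
        (hle.trans hNL')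
    have h2 : K₂ ⊔ thompsonSubgroupOf 2 T ≤ L' :=
      (sup_le (le_sup_left.trans le_sup_right) (hJT.trans (le_sup_right.trans le_sup_right))).trans
        (hle.trans hNL')
    apply hne
    rw [← g₁.c.max_eq hL'max h1, ← g₂.c.max_eq hL'max h2]
  · intro P hP
    simp only [List.mem_cons, List.not_mem_nil, or_false] at hP
    rcases hP with rfl | rfl
    · exact g₁.P_all
    · exact g₂.P_all

end Cfsg.Agent.Lib.Helper9.KS
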