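import Mathlib
import Cfsg.Prelude
import Cfsg.Agent.Lib.Helper9.KUg
import Cfsg.Agent.Lib.Helper7.Am10

set_option autoImplicit false
set_option linter.unusedSectionVars false
set_option linter.unusedVariables false
set_option linter.style.longLine false
set_option linter.unusedSimpArgs false
open Cfsg

set_option maxHeartbeats 1600000
namespace Cfsg.Agent.Lib.Helper9.KS

open Cfsg.Agent.Lib.Helper1 Cfsg.Agent.Lib.Helper3.JC Cfsg.Agent.Lib.Helper7.KU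
open scoped commutatorElement

variable {G : Type*} [Group G]

section pair

variable [Finite G] {S S' : Sylow 2 G} {M M' T K₁ K₂ L₁ L₂ : Subgroup G}

theorem pair_pCoreOf_eq_bot (g₁ : Good S M T K₁ L₁) (g₂ : Good S' M' T K₂ L₂) (hne : L₁ ≠ L₂) :
    pCoreOf 2 ((K₁ ⊔ T) ⊔ (K₂ ⊔ T)) = ⊥ := by
  have hJT := thompsonSubgroupOf_le_self 2 T
  by_contra h0
  have h2l := isTwoLocal_normalizer (pCoreOf_isPGroup ((K₁ ⊔ T) ⊔ (K₂ ⊔ T))) h0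
  have hle : (K₁ ⊔ T) ⊔ (K₂ ⊔ T) ≤
      Subgroup.normalizer ((pCoreOf 2 ((K₁ ⊔ T) ⊔ (K₂ ⊔ T)) : Subgroup G) : Set G) :=
    (nz_self_pCoreOf _).le_normalizer
  obtain ⟨L', hL'max, hNL'⟩ := exists_max h2l
  have h1 : K₁ ⊔ thompsonSubgroupOf 2 T ≤ L' :=
    (sup_le (le_sup_left.trans le_sup_left) (hJT.trans (le_sup_right.trans le_sup_left))).trans
      (hle.trans hNL')
  have h2 : K₂ ⊔ thompsonSubgroupOf 2 T ≤ L' :=
    (sup_le (le_sup_left.trans le_sup_right) (hJT.trans (le_sup_right.trans le_sup_right))).trans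
      (hle.trans hNL')
  apply hne
  rw [← g₁.c.max_eq hL'max h1, ← g₂.c.max_eq hL'max h2]

theorem pair_inf (g₁ : Good S M T K₁ L₁) (g₂ : Good S' M' T K₂ L₂) (hne : L₁ ≠ L₂) :
    (K₁ ⊔ T) ⊓ (K₂ ⊔ T) = T := by
  have hJT := thompsonSubgroupOf_le_self 2 T
  have hTX : T ≤ (K₁ ⊔ T) ⊓ (K₂ ⊔ T) := le_inf le_sup_right le_sup_right
  apply le_antisymm _ hTX
  have h1 := Subgroup.relIndex_mul_relIndex T ((K₁ ⊔ T) ⊓ (K₂ ⊔ T)) (K₁ ⊔ T) hTX inf_le_left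
  rw [g₁.relIndex_T_P] at h1
  have h2 : ((K₁ ⊔ T) ⊓ (K₂ ⊔ T)).relIndex (K₁ ⊔ T) ∣ 3 := Dvd.intro_left _ h1
  rcases (Nat.dvd_prime Nat.prime_three).1 h2 with h | h
  · exfalso
    apply hne
    have h3 : K₁ ⊔ T ≤ (K₁ ⊔ T) ⊓ (K₂ ⊔ T) := Subgroup.relIndex_eq_one.1 h
    have h4 : K₁ ⊔ thompsonSubgroupOf 2 T ≤ L₂ :=
      (sup_le le_sup_left (hJT.trans le_sup_right)).trans ((h3.trans inf_le_right).trans g₂.P_le_L)
    exact (g₁.c.max_eq g₂.c.hLmax h4).symm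
  · rw [h] at h1
    have h5 : T.relIndex ((K₁ ⊔ T) ⊓ (K₂ ⊔ T)) = 1 := by omega
    exact Subgroup.relIndex_eq_one.1 h5

theorem pair_loc (g₁ : Good S M T K₁ L₁) (g₂ : Good S' M' T K₂ L₂) (hne : L₁ ≠ L₂) :
    Cfsg.Agent.Lib.Helper7.Am.Loc (K₁ ⊔ T) (K₂ ⊔ T) := by
  have hinf := pair_inf g₁ g₂ hne
  refine ⟨inferInstance, inf_le_right.trans g₁.P_cent, ?_, ?_, g₁.pCoreOf_P_le_T.trans le_sup_right,
    ?_, ?_⟩
  · rw [hinf]; exact g₁.c.hTp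
  · rw [hinf]; exact g₁.relIndex_T_P
  · rw [hinf]; exact g₁.relIndex_pCoreOf_T
  · rw [hinf]
    intro h
    apply g₁.P_Z
    rw [Subgroup.commutator_comm, Subgroup.commutator_eq_bot_iff_le_centralizer]
    exact h

theorem pair_ctx (g₁ : Good S M T K₁ L₁) (g₂ : Good S' M' T K₂ L₂) (hne : L₁ ≠ L₂) :
    Cfsg.Agent.Lib.Helper7.Am.Ctx (fun i : Bool => cond i (K₁ ⊔ T) (K₂ ⊔ T)) := by
  refine ⟨fun i => ?_, ?_⟩
  · cases i
    · exact pair_loc g₂ g₁ hne.symm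
    · exact pair_loc g₁ g₂ hne
  · intro N hN h1 h2
    have hN' : N ≤ (K₁ ⊔ T) ⊓ (K₂ ⊔ T) := hN
    rw [pair_inf g₁ g₂ hne] at hN'
    have h3 : N ≤ pCoreOf 2 ((K₁ ⊔ T) ⊔ (K₂ ⊔ T)) := by
      apply le_pCoreOf_of_normal (g₁.c.hTp.to_le hN') (hN'.trans (le_sup_right.trans le_sup_left))
      exact sup_le h1.le_normalizer h2.le_normalizer
    rw [pair_pCoreOf_eq_bot g₁ g₂ hne] at h3
    exact le_bot_iff.1 h3

end pair

end Cfsg.Agent.Lib.Helper9.KS
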