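import Mathlib
import Cfsg.Prelude
import Cfsg.Agent.Lib.Helper9.KUh

set_option autoImplicit false
set_option linter.unusedSectionVars false
set_option linter.unusedVariables false
set_option linter.style.longLine false
set_option linter.unusedSimpArgs false
open Cfsg

set_option maxHeartbeats 1600000
namespace Cfsg.Agent.Lib.Helper9.KS

open Cfsg.Agent.Lib.Helper1 Cfsg.Agent.Lib.Helper3.JC Cfsg.Agent.Lib.Helper7.KU
open scoped commutatorElement

variable {G : Type*} [Group G]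

theorem mul_mem_of_card_le [Finite G] {W E : Subgroup G} (hWE : W ≤ E)
    (hc : Nat.card ↥E ≤ 2 * Nat.card ↥W) {a b : G} (ha : a ∈ E) (hb : b ∈ E) (haW : a ∉ W)
    (hbW : b ∉ W) : a * b ∈ W := by
  have h1 := Subgroup.relIndex_mul_relIndex ⊥ W E bot_le hWE
  rw [Subgroup.relIndex_bot_left, Subgroup.relIndex_bot_left] at h1
  have hpos : 0 < Nat.card ↥W := Nat.card_pos
  have h2 : W.relIndex E ≤ 2 := by
    by_contra h
    push Not at h
    have : Nat.card ↥W * 3 ≤ Nat.card ↥W * W.relIndex E := Nat.mul_le_mul_left _ h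
    omega
  have h3 : W.relIndex E ≠ 0 := by
    intro h; rw [h] at h1
    have : 0 < Nat.card ↥E := Nat.card_pos
    omega
  have h4 : W.relIndex E ≠ 1 := by
    intro h
    exact haW (Subgroup.relIndex_eq_one.1 h ha)
  have h5 : (W.subgroupOf E).index = 2 := by
    show W.relIndex E = 2
    omega
  have h6 := Subgroup.mul_mem_iff_of_index_two h5 (a := (⟨a, ha⟩ : ↥E)) (b := ⟨b, hb⟩)
  have h7 : (⟨a, ha⟩ : ↥E) * ⟨b, hb⟩ ∈ W.subgroupOf E := by
    rw [h6, Subgroup.mem_subgroupOf, Subgroup.mem_subgroupOf]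
    exact ⟨fun h => absurd h haW, fun h => absurd h hbW⟩
  exact Subgroup.mem_subgroupOf.1 h7

theorem comm_of_conj_eq {g u : G} (h : g * u * g⁻¹ = u) : u * g = g * u := by
  calc u * g = (g * u * g⁻¹) * g := by rw [h]
    _ = g * u := by group

theorem conj_eq_of_comm {g u : G} (h : u * g = g * u) : g * u * g⁻¹ = u := by
  rw [← h]; group

namespace Good

variable [Finite G] {S : Sylow 2 G} {M T K L : Subgroup G} (g : Good S M T K L)
include g

/-- `O₂(L) = O₂(P)` when the latter is abelian. -/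
theorem pCoreOf_L_eq (hexp : ∀ a ∈ pCoreOf 2 (K ⊔ T), a * a = 1) :
    pCoreOf 2 L = pCoreOf 2 (K ⊔ T) := by
  apply le_antisymm g.pCoreOf_L_le
  refine le_trans ?_ g.c.ovr.2.2
  intro e he
  rw [Subgroup.mem_centralizer_iff]
  intro q hq
  exact comm_of_sq hexp (g.pCoreOf_L_le hq) he

theorem comp_unique (hexp : ∀ a ∈ pCoreOf 2 (K ⊔ T), a * a = 1)
    (hc : Nat.card ↥(pCoreOf 2 (K ⊔ T)) ≤ 8) {K' : Subgroup G} (hK' : IsJComponent T K')
    (hK'L : K' ≤ L) : K = K' := by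
  have hE := g.pCoreOf_L_eq hexp
  have kd' := kdata_of_comp g.c.hTp hK'
  have hW : wOf K ≤ pCoreOf 2 (K ⊔ T) := by
    rw [← hE]
    exact g.c.kd.W_le_Q.trans
      (pCoreOf_comp_le g.c.hL g.c.hN g.c.hZ g.c.hTp g.c.hT1 g.c.ovr g.c.kJ g.c.hKLe)
  have hW' : wOf K' ≤ pCoreOf 2 (K ⊔ T) := by
    rw [← hE]
    exact kd'.W_le_Q.trans
      (pCoreOf_comp_le g.c.hL g.c.hN g.c.hZ g.c.hTp g.c.hT1 g.c.ovr hK' hK'L)
  apply comp_eq_of_W_inf g.c.hL g.c.hN g.c.hZ g.c.hTp g.c.hT1 g.c.ovr g.c.hTp g.c.hT1 g.c.ovr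
    g.c.kJ g.c.hKLe hK' hK'L
  intro h0
  have h1 := Cfsg.Agent.Lib.Helper1.FF.card_sup_mul_card_inf_of_le_abelian
    (fun x hx y hy => comm_of_sq hexp hx hy) hW hW'
  rw [h0, Subgroup.card_bot, mul_one, g.c.kd.wcard, kd'.wcard] at h1
  have h2 : Nat.card ↥(wOf K ⊔ wOf K' : Subgroup G) ≤ Nat.card ↥(pCoreOf 2 (K ⊔ T)) :=
    Subgroup.card_le_of_le (sup_le hW hW')
  omega

theorem L_le_normK (hexp : ∀ a ∈ pCoreOf 2 (K ⊔ T), a * a = 1)
    (hc : Nat.card ↥(pCoreOf 2 (K ⊔ T)) ≤ 8) : L ≤ Subgroup.normalizer (K : Set G) := by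
  refine (le_genOf g.c.hL g.c.hN g.c.hZ g.c.hTp g.c.hT1 g.c.ovr).trans (sup_le (sSup_le ?_) ?_)
  · rintro K' ⟨hK', hK'L⟩
    rw [← g.comp_unique hexp hc hK' hK'L]
    exact Subgroup.le_normalizer
  · rintro x ⟨hxL, hxJ⟩
    have h1 := isJComponent_conj_of_mem_normalizer hxJ g.c.kJ
    have h2 : K.map (MulAut.conj x).toMonoidHom ≤ L := by
      rintro _ ⟨k, hk, rfl⟩
      exact L.mul_mem (L.mul_mem hxL (g.c.hKLe hk)) (L.inv_mem hxL)
    exact mem_normalizer_of_map_conj_eq (g.comp_unique hexp hc h1 h2).symm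

theorem nzLW (hexp : ∀ a ∈ pCoreOf 2 (K ⊔ T), a * a = 1)
    (hc : Nat.card ↥(pCoreOf 2 (K ⊔ T)) ≤ 8) : Nz L (wOf K) := by
  have h1 : Nz L K := nz_of_le_normalizer (g.L_le_normK hexp hc)
  unfold wOf
  exact (nz_omegaCenterOf (nz_pCoreOf h1)).commutator h1

theorem cent_W_le (hexp : ∀ a ∈ pCoreOf 2 (K ⊔ T), a * a = 1)
    (hc : Nat.card ↥(pCoreOf 2 (K ⊔ T)) ≤ 8) :
    L ⊓ Subgroup.centralizer (wOf K : Set G) ≤ pCoreOf 2 (K ⊔ T) := by
  have hE := g.pCoreOf_L_eq hexp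
  have hnz := g.nzLW hexp hc
  have hW : wOf K ≤ pCoreOf 2 (K ⊔ T) := by
    rw [← hE]
    exact g.c.kd.W_le_Q.trans
      (pCoreOf_comp_le g.c.hL g.c.hN g.c.hZ g.c.hTp g.c.hT1 g.c.ovr g.c.kJ g.c.hKLe)
  have hcard : Nat.card ↥(pCoreOf 2 (K ⊔ T)) ≤ 2 * Nat.card ↥(wOf K) := by
    rw [g.c.kd.wcard]; omega
  have hnzE : Nz L (pCoreOf 2 (K ⊔ T)) := by rw [← hE]; exact nz_self_pCoreOf L
  rw [← hE]
  apply le_pCoreOf_of_normal _ inf_le_left
  · exact ((nz_self L).inf hnz.centralizer).le_normalizer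
  · rintro ⟨c, hcL, hcC⟩
    have hcw : ∀ u ∈ wOf K, c * u * c⁻¹ = u := by
      intro u hu
      have := Subgroup.mem_centralizer_iff.1 hcC u hu
      rw [← this]; group
    have hcc : c * c ∈ Subgroup.centralizer (pCoreOf 2 L : Set G) := by
      rw [hE, Subgroup.mem_centralizer_iff]
      intro e he
      apply comm_of_conj_eq
      by_cases heW : e ∈ wOf K
      · calc c * c * e * (c * c)⁻¹ = c * (c * e * c⁻¹) * c⁻¹ := by group
          _ = e := by rw [hcw e heW, hcw e heW]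
      · have he' : c * e * c⁻¹ ∈ pCoreOf 2 (K ⊔ T) := hnzE c hcL e he
        have he'W : c * e * c⁻¹ ∉ wOf K := by
          intro h
          apply heW
          have h2 := hcw _ h
          have h3 : c * e * c⁻¹ = e := conj_cancel h2
          rw [← h3]; exact h
        have hu := mul_mem_of_card_le hW hcard he he' heW he'W
        have hee : e * e = 1 := hexp e he
        have h4 : c * e * c⁻¹ = e * (e * (c * e * c⁻¹)) := by
          rw [← mul_assoc, hee, one_mul]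
        have h5 : (e * (c * e * c⁻¹)) * (e * (c * e * c⁻¹)) = 1 := g.c.kd.wsq _ hu
        calc c * c * e * (c * c)⁻¹ = c * (c * e * c⁻¹) * c⁻¹ := by group
          _ = c * (e * (e * (c * e * c⁻¹))) * c⁻¹ := by rw [← h4]
          _ = (c * e * c⁻¹) * (c * (e * (c * e * c⁻¹)) * c⁻¹) := by group
          _ = (c * e * c⁻¹) * (e * (c * e * c⁻¹)) := by rw [hcw _ hu]
          _ = e * (e * (c * e * c⁻¹)) * (e * (c * e * c⁻¹)) := by rw [← h4]
          _ = e * ((e * (c * e * c⁻¹)) * (e * (c * e * c⁻¹))) := by group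
          _ = e := by rw [h5, mul_one]
    have hccE : c * c ∈ pCoreOf 2 (K ⊔ T) := by
      rw [← hE]; exact g.c.ovr.2.2 hcc
    refine ⟨2, Subtype.ext ?_⟩
    show c ^ (2 ^ 2) = 1
    have := hexp _ hccE
    calc c ^ (2 ^ 2) = (c * c) * (c * c) := by
          show c ^ 4 = (c * c) * (c * c)
          rw [pow_succ, pow_succ, pow_succ, pow_one]; group
      _ = 1 := this

/-- **Maximality**: `K T = L` when `O₂(K T)` is elementary abelian of order at most `8`. -/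
theorem eq_L (hexp : ∀ a ∈ pCoreOf 2 (K ⊔ T), a * a = 1)
    (hc : Nat.card ↥(pCoreOf 2 (K ⊔ T)) ≤ 8) : K ⊔ T = L := by
  apply le_antisymm g.P_le_L
  have hnz := g.nzLW hexp hc
  have hC := g.cent_W_le hexp hc
  obtain ⟨w0, hw0Z, hw0W, hw01⟩ := g.exists_w0
  obtain ⟨w, hwW, hw1, hww0⟩ := exists_third g.c.kd.wcard w0
  have hsq := g.c.kd.wsq
  have hel := four_group_elems g.c.kd.wcard hsq hw0W hwW hw01 hw1 (Ne.symm hww0)
  have hw0c : ∀ t ∈ T, t * w0 * t⁻¹ = w0 := by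
    intro t ht
    have := Subgroup.mem_centralizer_iff.1 (omegaCenterOf_le T hw0Z).2 t ht
    rw [this]; group
  -- membership in `C_L(W)`
  have hmemC : ∀ l ∈ L, l * w0 * l⁻¹ = w0 → l * w * l⁻¹ = w → l ∈ K ⊔ T := by
    intro l hl h1 h2
    apply Subgroup.mem_sup_right
    apply g.pCoreOf_P_le_T
    apply hC
    refine ⟨hl, Subgroup.mem_centralizer_iff.2 ?_⟩
    intro u hu
    apply comm_of_conj_eq
    rcases hel u hu with h | h | h | h
    · rw [h]; group
    · rw [h]; exact h1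
    · rw [h]; exact h2
    · rw [h]
      calc l * (w0 * w) * l⁻¹ = (l * w0 * l⁻¹) * (l * w * l⁻¹) := by group
        _ = w0 * w := by rw [h1, h2]
  -- an element of `T` swapping `w` and `w0 w`
  obtain ⟨a, haT, haw⟩ : ∃ a ∈ T, a * w * a⁻¹ = w0 * w := by
    by_contra hcon
    push Not at hcon
    apply g.pCoreOf_P_ne
    apply le_antisymm g.pCoreOf_P_le_T
    intro t ht
    apply g.D_le
    refine ⟨Subgroup.mem_sup_right ht, Subgroup.mem_centralizer_iff.2 ?_⟩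
    have htw : t * w * t⁻¹ = w := by
      rcases hel _ (hnz t (g.c.hTL ht) w hwW) with h | h | h | h
      · exact absurd h (conj_ne_one hw1)
      · exfalso
        apply hww0
        rw [← hw0c t ht] at h
        exact conj_cancel h
      · exact h
      · exact absurd h (hcon t ht)
    intro u hu
    apply comm_of_conj_eq
    rcases hel u hu with h | h | h | h
    · rw [h]; group
    · rw [h]; exact hw0c t ht
    · rw [h]; exact htw
    · rw [h]
      calc t * (w0 * w) * t⁻¹ = (t * w0 * t⁻¹) * (t * w * t⁻¹) := by group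
        _ = w0 * w := by rw [hw0c t ht, htw]
  -- `K` is transitive on `W \ 1`
  obtain ⟨y, hyK, hy3, hyQ⟩ := g.c.kd.exists_y
  have hyw0 : y * w0 * y⁻¹ ≠ w0 := fun h => hw01 (g.c.kd.fix_W hyK hy3 hyQ hw0W h)
  have hyW : y * w0 * y⁻¹ ∈ wOf K := hnz y (g.c.hKLe hyK) w0 hw0W
  have hel2 := four_group_elems g.c.kd.wcard hsq hw0W hyW hw01 (conj_ne_one hw01) (Ne.symm hyw0)
  have hyi : y⁻¹ * w0 * y = w0 * (y * w0 * y⁻¹) := by
    have h1 : y⁻¹ * w0 * y ∈ wOf K := by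
      have := hnz y⁻¹ (L.inv_mem (g.c.hKLe hyK)) w0 hw0W
      simpa using this
    rcases hel2 _ h1 with h | h | h | h
    · exfalso
      apply hw01
      calc w0 = y * (y⁻¹ * w0 * y) * y⁻¹ := by group
        _ = 1 := by rw [h]; group
    · exfalso
      apply hyw0
      calc y * w0 * y⁻¹ = y * (y⁻¹ * w0 * y) * y⁻¹ := by rw [h]
        _ = w0 := by group
    · exfalso
      apply hyw0
      have hyy : y * y * y = 1 := by rw [← pow_three']; exact hy3
      have hyinv : y⁻¹ = y * y := by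
        calc y⁻¹ = y⁻¹ * (y * y * y) := by rw [hyy, mul_one]
          _ = y * y := by group
      have h2 : y * (y * w0 * y⁻¹) * y⁻¹ = w0 := by
        rw [← h]
        group
      calc y * w0 * y⁻¹ = y * (y * (y * w0 * y⁻¹) * y⁻¹) * y⁻¹ := by rw [h2]
        _ = (y * y * y) * w0 * (y * y * y)⁻¹ := by group
        _ = w0 := by rw [hyy]; group
    · exact h
  have htrans : ∀ u ∈ wOf K, u ≠ 1 → ∃ p ∈ K, p * w0 * p⁻¹ = u := by
    intro u hu hu1
    rcases hel2 u hu with h | h | h | h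
    · exact absurd h hu1
    · exact ⟨1, K.one_mem, by rw [h]; group⟩
    · exact ⟨y, hyK, h.symm⟩
    · refine ⟨y⁻¹, K.inv_mem hyK, ?_⟩
      rw [h, inv_inv]; exact hyi
  intro l hl
  have hu : l * w0 * l⁻¹ ∈ wOf K := hnz l hl w0 hw0W
  obtain ⟨p, hpK, hp⟩ := htrans _ hu (conj_ne_one hw01)
  have hpL : p ∈ L := g.c.hKLe hpK
  have hl1L : p⁻¹ * l ∈ L := L.mul_mem (L.inv_mem hpL) hl
  have hl1 : (p⁻¹ * l) * w0 * (p⁻¹ * l)⁻¹ = w0 := by
    calc (p⁻¹ * l) * w0 * (p⁻¹ * l)⁻¹ = p⁻¹ * (l * w0 * l⁻¹) * p := by group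
      _ = p⁻¹ * (p * w0 * p⁻¹) * p := by rw [hp]
      _ = w0 := by group
  have hl1w : (p⁻¹ * l) * w * (p⁻¹ * l)⁻¹ ∈ wOf K := hnz _ hl1L w hwW
  have hsplit : l = p * (p⁻¹ * l) := by group
  rcases hel _ hl1w with h | h | h | h
  · exact absurd h (conj_ne_one hw1)
  · exfalso
    apply hww0
    rw [← hl1] at h
    exact conj_cancel h
  · rw [hsplit]
    exact Subgroup.mul_mem _ (Subgroup.mem_sup_left hpK) (hmemC _ hl1L hl1 h)
  · have haL : a ∈ L := g.c.hTL haT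
    have h2L : a * (p⁻¹ * l) ∈ L := L.mul_mem haL hl1L
    have h2a : a * (p⁻¹ * l) * w0 * (a * (p⁻¹ * l))⁻¹ = w0 := by
      calc a * (p⁻¹ * l) * w0 * (a * (p⁻¹ * l))⁻¹
          = a * ((p⁻¹ * l) * w0 * (p⁻¹ * l)⁻¹) * a⁻¹ := by group
        _ = w0 := by rw [hl1, hw0c a haT]
    have h2b : a * (p⁻¹ * l) * w * (a * (p⁻¹ * l))⁻¹ = w := by
      calc a * (p⁻¹ * l) * w * (a * (p⁻¹ * l))⁻¹
          = a * ((p⁻¹ * l) * w * (p⁻¹ * l)⁻¹) * a⁻¹ := by group
        _ = a * (w0 * w) * a⁻¹ := by rw [h]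
        _ = (a * w0 * a⁻¹) * (a * w * a⁻¹) := by group
        _ = w0 * (w0 * w) := by rw [hw0c a haT, haw]
        _ = w := by rw [← mul_assoc, hsq w0 hw0W, one_mul]
    have h3 := hmemC _ h2L h2a h2b
    have hsplit2 : l = p * (a⁻¹ * (a * (p⁻¹ * l))) := by group
    rw [hsplit2]
    exact Subgroup.mul_mem _ (Subgroup.mem_sup_left hpK)
      (Subgroup.mul_mem _ (Subgroup.inv_mem _ (Subgroup.mem_sup_right haT)) h3)

end Good

end Cfsg.Agent.Lib.Helper9.KS
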