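import Mathlib
import Cfsg.Prelude
import Cfsg.Agent.Lib.Helper9.KUi

set_option autoImplicit false
set_option linter.unusedSectionVars false
set_option linter.unusedVariables false
set_option linter.style.longLine false
set_option linter.unusedSimpArgs false
open Cfsg

set_option maxHeartbeats 1600000
namespace Cfsg.Agent.Lib.Helper9.KS

open Cfsg.Agent.Lib.Helper1 Cfsg.Agent.Lib.Helper3.JC Cfsg.Agent.Lib.Helper7.KU
open Cfsg.Agent.Lib.Helper5.KSEnd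
open scoped commutatorElement

variable {G : Type*} [Group G]

/-- the conclusion of the amalgam theorem for two subgroups -/
def AmConcl (P₁ P₂ : Subgroup G) : Prop :=
  (Nonempty (↥P₁ ≃* Equiv.Perm (Fin 4)) ∧ Nonempty (↥P₂ ≃* Equiv.Perm (Fin 4))) ∨
    (Nonempty (↥P₁ ≃* Multiplicative (ZMod 2) × Equiv.Perm (Fin 4)) ∧
      Nonempty (↥P₂ ≃* Multiplicative (ZMod 2) × Equiv.Perm (Fin 4)))

namespace Good

variable [Finite G] {S : Sylow 2 G} {M T K L : Subgroup G} (g : Good S M T K L)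
include g

theorem pCoreOf_eq_of_normal {E₁ : Subgroup G} (hE₁ : E₁ ≤ K ⊔ T)
    (hn : ∀ p ∈ K ⊔ T, ∀ a ∈ E₁, p * a * p⁻¹ ∈ E₁) (hexp : ∀ a ∈ E₁, a * a = 1)
    (hcard : Nat.card ↥(K ⊔ T : Subgroup G) = Nat.card ↥E₁ * 6) : pCoreOf 2 (K ⊔ T) = E₁ := by
  have hp : IsPGroup 2 ↥E₁ := by
    rintro ⟨a, ha⟩
    refine ⟨1, Subtype.ext ?_⟩
    show a ^ (2 ^ 1) = 1
    rw [pow_one, pow_two]; exact hexp a ha
  have hle : E₁ ≤ pCoreOf 2 (K ⊔ T) :=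
    le_pCoreOf_of_normal hp hE₁ (nz_of_le_normalizer (Nz.le_normalizer hn)).le_normalizer
  symm
  apply Subgroup.eq_of_le_of_card_ge hle
  have h1 := Subgroup.relIndex_mul_relIndex ⊥ (pCoreOf 2 (K ⊔ T)) (K ⊔ T) bot_le (pCoreOf_le _)
  rw [Subgroup.relIndex_bot_left, Subgroup.relIndex_bot_left, g.P_relIndex, hcard] at h1
  omega

/-- the hypotheses of `eq_L` from the isomorphism type. -/
theorem exp_card_of_iso (h : Nonempty (↥(K ⊔ T : Subgroup G) ≃* Equiv.Perm (Fin 4)) ∨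
    Nonempty (↥(K ⊔ T : Subgroup G) ≃* Multiplicative (ZMod 2) × Equiv.Perm (Fin 4))) :
    (∀ a ∈ pCoreOf 2 (K ⊔ T), a * a = 1) ∧ Nat.card ↥(pCoreOf 2 (K ⊔ T)) ≤ 8 := by
  rcases h with ⟨⟨ψ⟩⟩ | ⟨⟨ψ⟩⟩
  · obtain ⟨⟨E₁, d⟩, -⟩ := exists_S4Data ψ g.P_sylow
    have hP : Nat.card ↥(K ⊔ T : Subgroup G) = Nat.card ↥E₁ * 6 := by
      rw [Nat.card_congr ψ.toEquiv, Nat.card_perm, Nat.card_fin, d.E_card]
      decide
    have e := g.pCoreOf_eq_of_normal d.E_le d.E_norm d.E_exp hP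
    rw [e]
    exact ⟨d.E_exp, by rw [d.E_card]; norm_num⟩
  · obtain ⟨E₁, E₂, c, t, d⟩ := exists_C2S4Data ψ g.P_sylow
    have hP : Nat.card ↥(K ⊔ T : Subgroup G) = Nat.card ↥E₁ * 6 := by
      rw [Nat.card_congr ψ.toEquiv, Nat.card_eq_fintype_card, card_M4, d.E1_card]
    have e := g.pCoreOf_eq_of_normal d.E1_le d.E1_norm d.E1_exp hP
    rw [e]
    exact ⟨d.E1_exp, by rw [d.E1_card]⟩

theorem eq_L_of_iso (h : Nonempty (↥(K ⊔ T : Subgroup G) ≃* Equiv.Perm (Fin 4)) ∨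
    Nonempty (↥(K ⊔ T : Subgroup G) ≃* Multiplicative (ZMod 2) × Equiv.Perm (Fin 4))) :
    K ⊔ T = L :=
  g.eq_L (g.exp_card_of_iso h).1 (g.exp_card_of_iso h).2

end Good

/-- S2954 from a pair and the amalgam conclusion. -/
theorem s2954_of_pair [Finite G] {S S' : Sylow 2 G} {M M' T K₁ K₂ L₁ L₂ : Subgroup G}
    (g₁ : Good S M T K₁ L₁) (g₂ : Good S' M' T K₂ L₂) (hne : L₁ ≠ L₂)
    (ham : AmConcl (K₁ ⊔ T) (K₂ ⊔ T)) :
    L₁ ≠ L₂ ∧ Cfsg.IsMaximalTwoLocal L₁ ∧ Cfsg.IsMaximalTwoLocal L₂ ∧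
      Cfsg.IsSylowTwoIn T L₁ ∧ Cfsg.IsSylowTwoIn T L₂ ∧
      ((Nonempty (↥L₁ ≃* Equiv.Perm (Fin 4)) ∧ Nonempty (↥L₂ ≃* Equiv.Perm (Fin 4))) ∨
        (Nonempty (↥L₁ ≃* Equiv.Perm (Fin 4) × Multiplicative (ZMod 2)) ∧
          Nonempty (↥L₂ ≃* Equiv.Perm (Fin 4) × Multiplicative (ZMod 2)))) := by
  have e1 : K₁ ⊔ T = L₁ := by
    apply g₁.eq_L_of_iso
    rcases ham with ⟨h, -⟩ | ⟨h, -⟩
    · exact Or.inl h
    · exact Or.inr h
  have e2 : K₂ ⊔ T = L₂ := by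
    apply g₂.eq_L_of_iso
    rcases ham with ⟨-, h⟩ | ⟨-, h⟩
    · exact Or.inl h
    · exact Or.inr h
  rw [e1, e2] at ham
  refine ⟨hne, g₁.c.hLmax, g₂.c.hLmax, g₁.c.sylow, g₂.c.sylow, ?_⟩
  rcases ham with ⟨h1, h2⟩ | ⟨⟨ψ₁⟩, ⟨ψ₂⟩⟩
  · exact Or.inl ⟨h1, h2⟩
  · exact Or.inr ⟨⟨ψ₁.trans MulEquiv.prodComm⟩, ⟨ψ₂.trans MulEquiv.prodComm⟩⟩

namespace Ctx

variable [Finite G] {S : Sylow 2 G} {M T K L : Subgroup G} (c : Ctx S M T K L)
include c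

theorem good_of_ne (hne : T ≠ (S : Subgroup G)) : Good S M T K L := by
  refine ⟨c, ?_⟩
  by_cases hB : bOf T K = ⊥
  · exact c.ZT_eq_of_Z_eq (c.case_a hB).1
  · obtain ⟨x, hxS, hxN, hxT, hxL⟩ := c.exists_x hne
    have hlt : Nat.card ↥T < Nat.card ↥(S : Subgroup G) := by
      have hlt' : T < (S : Subgroup G) := lt_of_le_of_ne c.hTS hne
      by_contra h
      push Not at h
      exact hne (Subgroup.eq_of_le_of_card_ge c.hTS h)
    exact (c.case_c hxS hxN hxL hB hlt).1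

/-- an element of `N_S(T) \ T` with square in `T`. -/
theorem exists_x_sq (hne : T ≠ (S : Subgroup G)) : ∃ x ∈ (S : Subgroup G),
    x ∈ Subgroup.normalizer (T : Set G) ∧ x ∉ T ∧ x * x ∈ T := by
  classical
  obtain ⟨x₀, hxS, hxN, hxT, -⟩ := c.exists_x hne
  obtain ⟨n, hn⟩ := (S.2 : IsPGroup 2 ↥(S : Subgroup G)) ⟨x₀, hxS⟩
  have hn' : x₀ ^ (2 ^ n) = 1 := by
    have := congrArg Subtype.val hn
    simpa using this
  have hex : ∃ k : ℕ, x₀ ^ (2 ^ k) ∈ T := ⟨n, by rw [hn']; exact T.one_mem⟩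
  have hk0 : Nat.find hex ≠ 0 := by
    intro h0
    have := Nat.find_spec hex
    rw [h0] at this
    simp only [pow_zero, pow_one] at this
    exact hxT this
  obtain ⟨k, hk⟩ := Nat.exists_eq_succ_of_ne_zero hk0
  refine ⟨x₀ ^ (2 ^ k), Subgroup.pow_mem _ hxS _, Subgroup.pow_mem _ hxN _, ?_, ?_⟩
  · have := Nat.find_min hex (m := k) (by omega)
    exact this
  · have := Nat.find_spec hex
    rw [hk, pow_succ, pow_mul, pow_two] at this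
    exact this

end Ctx

end Cfsg.Agent.Lib.Helper9.KS
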