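import Mathlib
import Cfsg.Prelude
import Cfsg.Agent.Lib.Helper9.KUj

set_option autoImplicit false
set_option linter.unusedSectionVars false
set_option linter.unusedVariables false
set_option linter.style.longLine false
set_option linter.unusedSimpArgs false
open Cfsg

set_option maxHeartbeats 1600000
namespace Cfsg.Agent.Lib.Helper9.KS

open Cfsg.Agent.Lib.Helper1 Cfsg.Agent.Lib.Helper3.JC Cfsg.Agent.Lib.Helper7.KU
open Cfsg.Agent.Lib.Helper5.KSEnd
open scoped commutatorElement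

variable {G : Type*} [Group G]

namespace Ctx

variable [Finite G] {S : Sylow 2 G} {M T K L : Subgroup G} (c : Ctx S M T K L)
include c

/-- the second component in the non-Sylow case, with the amalgam conclusion. -/
theorem nonsylow_pair (hne : T ≠ (S : Subgroup G)) :
    ∃ K₂ L₂ : Subgroup G, Good S M T K L ∧ Good S M T K₂ L₂ ∧ L ≠ L₂ ∧
      AmConcl (K ⊔ T) (K₂ ⊔ T) := by
  have g := c.good_of_ne hne
  obtain ⟨x, hxS, hxN, hxT, hxx⟩ := c.exists_x_sq hne
  have hxL : x ∉ L := by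
    intro h
    apply hxT
    rw [← c.S_inf_L]
    exact ⟨hxS, h⟩
  have hxJ := c.normT_le_normJ hxN
  have hTLx : T ≤ L.map (MulAut.conj x).toMonoidHom := by
    have := Subgroup.map_mono (f := (MulAut.conj x).toMonoidHom) c.hTL
    rwa [map_cj_eq_self hxN] at this
  have g₂ := g.conj hxJ hTLx
  have hneL : L ≠ L.map (MulAut.conj x).toMonoidHom := (c.not_mem_of_not_normalizer hxL).symm
  refine ⟨_, _, g, g₂, hneL, ?_⟩
  have hC := pair_ctx g g₂ hneL
  have hs : Cfsg.Agent.Lib.Helper7.Am.Sym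
      (fun i : Bool => cond i (K ⊔ T) (K.map (MulAut.conj x).toMonoidHom ⊔ T)) := by
    refine ⟨x, ?_, ?_⟩
    · show (K ⊔ T).map (MulAut.conj x).toMonoidHom = K.map (MulAut.conj x).toMonoidHom ⊔ T
      rw [Subgroup.map_sup, map_cj_eq_self hxN]
    · show (K.map (MulAut.conj x).toMonoidHom ⊔ T).map (MulAut.conj x).toMonoidHom = K ⊔ T
      rw [Subgroup.map_sup, map_cj_eq_self hxN]
      congr 1
      have h1 := Cfsg.Agent.Lib.Helper7.Am.cj_mul x x K
      have h2 := Cfsg.Agent.Lib.Helper7.Am.cj_eq_self (g.T_le_normK hxx)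
      rw [h2] at h1
      exact h1
  exact Cfsg.Agent.Lib.Helper7.Am.sym_ctx hC hs

/-- S2954 in the non-Sylow case. -/
theorem nonsylow_s2954 (hne : T ≠ (S : Subgroup G)) :
    ∃ L₂ : Subgroup G, L ≠ L₂ ∧ Cfsg.IsMaximalTwoLocal L ∧ Cfsg.IsMaximalTwoLocal L₂ ∧
      Cfsg.IsSylowTwoIn T L ∧ Cfsg.IsSylowTwoIn T L₂ ∧
      ((Nonempty (↥L ≃* Equiv.Perm (Fin 4)) ∧ Nonempty (↥L₂ ≃* Equiv.Perm (Fin 4))) ∨
        (Nonempty (↥L ≃* Equiv.Perm (Fin 4) × Multiplicative (ZMod 2)) ∧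
          Nonempty (↥L₂ ≃* Equiv.Perm (Fin 4) × Multiplicative (ZMod 2)))) := by
  obtain ⟨K₂, L₂, g₁, g₂, hneL, ham⟩ := c.nonsylow_pair hne
  exact ⟨L₂, s2954_of_pair g₁ g₂ hneL ham⟩

/-- what the refutation of II-b needs. -/
theorem nonsylow_iso (hne : T ≠ (S : Subgroup G)) :
    Nonempty (↥L ≃* Equiv.Perm (Fin 4)) ∨
      Nonempty (↥L ≃* Multiplicative (ZMod 2) × Equiv.Perm (Fin 4)) := by
  obtain ⟨K₂, L₂, g₁, g₂, hneL, ham⟩ := c.nonsylow_pair hne
  have e1 : K ⊔ T = L := by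
    apply g₁.eq_L_of_iso
    rcases ham with ⟨h, -⟩ | ⟨h, -⟩
    · exact Or.inl h
    · exact Or.inr h
  rw [e1] at ham
  rcases ham with ⟨h, -⟩ | ⟨h, -⟩
  · exact Or.inl h
  · exact Or.inr h

end Ctx

end Cfsg.Agent.Lib.Helper9.KS
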