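import Mathlib
import Cfsg.Prelude
import Cfsg.Agent.Lib.Helper9.KUk

set_option autoImplicit false
set_option linter.unusedSectionVars false
set_option linter.unusedVariables false
set_option linter.style.longLine false
set_option linter.unusedSimpArgs false
open Cfsg

set_option maxHeartbeats 1600000
namespace Cfsg.Agent.Lib.Helper9.KS

open Cfsg.Agent.Lib.Helper1 Cfsg.Agent.Lib.Helper3.JC Cfsg.Agent.Lib.Helper7.KU
open scoped commutatorElement

variable {G : Type*} [Group G]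

/-- abstract lemma: `Ω₁Z(S) = Z₀` for a four-group `Z₀ = {1, b, b', b b'}`. -/
theorem Z_eq_of_four [Finite G] {S0 Z0 : Subgroup G} {b b' : G}
    (hel : ∀ w ∈ Z0, w = 1 ∨ w = b ∨ w = b' ∨ w = b * b') (hsq : ∀ w ∈ Z0, w * w = 1)
    (hb : b ∈ Z0) (hb' : b' ∈ Z0) (hb'1 : b' ≠ 1)
    (hZ0S : Z0 ≤ S0) (hnz : ∀ s ∈ S0, ∀ w ∈ Z0, s * w * s⁻¹ ∈ Z0)
    (hZle : omegaCenterOf S0 ≤ Z0) (hZ1 : omegaCenterOf S0 ≠ ⊥)
    (h1 : (∀ u ∈ omegaCenterOf S0, u = 1 ∨ u = b) → False)
    (h2 : (∀ u ∈ omegaCenterOf S0, u = 1 ∨ u = b') → False)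
    (h3 : ∀ s ∈ S0, s * b * s⁻¹ ≠ b') :
    omegaCenterOf S0 = Z0 := by
  have hb1 : b ≠ 1 := by
    intro h
    apply h1
    intro u hu
    rcases hel u (hZle hu) with h' | h' | h' | h'
    · exact Or.inl h'
    · exact Or.inr h'
    · exfalso
      apply h2
      intro v hv
      rcases hel v (hZle hv) with h'' | h'' | h'' | h''
      · exact Or.inl h''
      · left; rw [h'', h]
      · exact Or.inr h''
      · right; rw [h'', h, one_mul]
    · exfalso
      apply h2
      intro v hv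
      rcases hel v (hZle hv) with h'' | h'' | h'' | h''
      · exact Or.inl h''
      · left; rw [h'', h]
      · exact Or.inr h''
      · right; rw [h'', h, one_mul]
  have hA : b ∈ omegaCenterOf S0 → b' ∈ omegaCenterOf S0 := by
    intro hbZ
    by_contra hb'Z
    apply h1
    intro u hu
    rcases hel u (hZle hu) with h | h | h | h
    · exact Or.inl h
    · exact Or.inr h
    · exact absurd (h ▸ hu) hb'Z
    · exfalso
      apply hb'Z
      have : b' = b⁻¹ * u := by rw [h]; group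
      rw [this]
      exact Subgroup.mul_mem _ (Subgroup.inv_mem _ hbZ) hu
  have hB : b' ∈ omegaCenterOf S0 → b ∈ omegaCenterOf S0 := by
    intro hb'Z
    by_contra hbZ
    apply h2
    intro u hu
    rcases hel u (hZle hu) with h | h | h | h
    · exact Or.inl h
    · exact absurd (h ▸ hu) hbZ
    · exact Or.inr h
    · exfalso
      apply hbZ
      have : b = u * b'⁻¹ := by rw [h]; group
      rw [this]
      exact Subgroup.mul_mem _ hu (Subgroup.inv_mem _ hb'Z)
  have hC : b * b' ∈ omegaCenterOf S0 → b ∈ omegaCenterOf S0 := by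
    intro hz
    apply mem_omegaCenterOf (hZ0S hb) _ (hsq b hb)
    intro s hs
    have hzc : s * (b * b') * s⁻¹ = b * b' := by
      have := Subgroup.mem_centralizer_iff.1 (omegaCenterOf_le S0 hz).2 s hs
      rw [this]; group
    have h4 : s * b * s⁻¹ = b := by
      rcases hel _ (hnz s hs b hb) with h | h | h | h
      · exact absurd h (conj_ne_one hb1)
      · exact h
      · exact absurd h (h3 s hs)
      · exfalso
        apply hb'1
        rw [← hzc] at h
        have h5 : b = b * b' := conj_cancel h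
        calc b' = b⁻¹ * (b * b') := by group
          _ = 1 := by rw [← h5]; group
    calc s * b = (s * b * s⁻¹) * s := by group
      _ = b * s := by rw [h4]
  obtain ⟨⟨z, hzZ⟩, hz1'⟩ := (Subgroup.ne_bot_iff_exists_ne_one).1 hZ1
  have hz1 : z ≠ 1 := fun h => hz1' (Subtype.ext h)
  have hboth : b ∈ omegaCenterOf S0 ∧ b' ∈ omegaCenterOf S0 := by
    rcases hel z (hZle hzZ) with h | h | h | h
    · exact absurd h hz1
    · have hbZ : b ∈ omegaCenterOf S0 := h ▸ hzZ
      exact ⟨hbZ, hA hbZ⟩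
    · have hb'Z : b' ∈ omegaCenterOf S0 := h ▸ hzZ
      exact ⟨hB hb'Z, hb'Z⟩
    · have hbZ : b ∈ omegaCenterOf S0 := hC (h ▸ hzZ)
      exact ⟨hbZ, hA hbZ⟩
  apply le_antisymm hZle
  intro w hw
  rcases hel w hw with h | h | h | h
  · rw [h]; exact Subgroup.one_mem _
  · rw [h]; exact hboth.1
  · rw [h]; exact hboth.2
  · rw [h]; exact Subgroup.mul_mem _ hboth.1 hboth.2

namespace Ctx

variable [Finite G] {S : Sylow 2 G} {M T K L : Subgroup G} (c : Ctx S M T K L)
include c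

theorem Z0_le_T : omegaCenterOf (thompsonSubgroupOf 2 T) ≤ T :=
  ((omegaCenterOf_le _).trans inf_le_left).trans (thompsonSubgroupOf_le_self 2 T)

theorem K_comm_bOf {k b : G} (hk : k ∈ K) (hb : b ∈ bOf T K) : b * k = k * b :=
  (Subgroup.mem_centralizer_iff.1 hb.2.2 k (Subgroup.mem_sup_left hk)).symm

/-- if `Ω₁Z(S) ⊆ {1, b}` with `b ∈ B` then `K ≤ N_G(S)`. -/
theorem K_le_normS {b : G} (hb : b ∈ bOf T K)
    (h : ∀ u ∈ omegaCenterOf (S : Subgroup G), u = 1 ∨ u = b) :
    K ≤ Subgroup.normalizer ((S : Subgroup G) : Set G) := by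
  refine le_trans ?_ (c.hZ S)
  intro k hk
  rw [Subgroup.mem_centralizer_iff]
  intro u hu
  rcases h u hu with h' | h'
  · rw [h']; group
  · rw [h']; exact c.K_comm_bOf hk hb

theorem normS_le_M (hTeq : T = (S : Subgroup G)) :
    Subgroup.normalizer ((S : Subgroup G) : Set G) ≤ M := by
  have := c.normT_le_normJ.trans c.normJ_le
  rwa [hTeq] at this


/-- **Case I** (`T = S`, `N_G(J) ≰ L`, `B ≠ 1`): `Z = Z₀` of order `4`. -/
theorem case_I (hTeq : T = (S : Subgroup G)) {x : G}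
    (hxJ : x ∈ Subgroup.normalizer (thompsonSubgroupOf 2 T : Set G)) (hxL : x ∉ L)
    (hB : bOf T K ≠ ⊥) :
    omegaCenterOf (S : Subgroup G) = omegaCenterOf (thompsonSubgroupOf 2 T) ∧
      Nat.card ↥(omegaCenterOf (thompsonSubgroupOf 2 T)) = 4 := by
  have hxZ0 := c.normJ_le_normZ0 hxJ
  have hB2 := card_eq_two_of_le_two hB (c.card_bOf_le hxL hxJ)
  have hZ04 : Nat.card ↥(omegaCenterOf (thompsonSubgroupOf 2 T)) = 4 := by
    rw [c.card_Z0, hB2]
  refine ⟨?_, hZ04⟩
  obtain ⟨⟨b, hbB⟩, hb1'⟩ := (Subgroup.ne_bot_iff_exists_ne_one).1 hB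
  have hb1 : b ≠ 1 := fun h => hb1' (Subtype.ext h)
  have hbZ0 : b ∈ omegaCenterOf (thompsonSubgroupOf 2 T) := bOf_le T K hbB
  have hsq := c.Z0_sq
  have hbx : x * b * x⁻¹ ≠ b := by
    intro h
    have h1 : b ∈ bOf T K ⊓ (bOf T K).map (MulAut.conj x).toMonoidHom :=
      ⟨hbB, ⟨b, hbB, h⟩⟩
    rw [c.bOf_inf_conj hxL, Subgroup.mem_bot] at h1
    exact hb1 h1
  have hbxZ0 : x * b * x⁻¹ ∈ omegaCenterOf (thompsonSubgroupOf 2 T) :=
    (Subgroup.mem_normalizer_iff.1 hxZ0 b).1 hbZ0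
  have hel := four_group_elems hZ04 hsq hbZ0 hbxZ0 hb1 (conj_ne_one hb1) (Ne.symm hbx)
  have hSJ : (S : Subgroup G) ≤ Subgroup.normalizer (thompsonSubgroupOf 2 T : Set G) := by
    rw [← hTeq]
    exact Subgroup.le_normalizer.trans c.normT_le_normJ
  apply Z_eq_of_four hel hsq hbZ0 hbxZ0 (conj_ne_one hb1) (c.Z0_le_T.trans c.hTS)
  · intro s hs w hw
    exact (Subgroup.mem_normalizer_iff.1 (c.normJ_le_normZ0 (hSJ hs)) w).1 hw
  · exact c.Z_le_Z0
  · exact c.Z_ne_bot
  · intro h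
    exact c.hKM ((c.K_le_normS hbB h).trans (c.normS_le_M hTeq))
  · intro h
    apply c.hKM
    have hxM : x ∈ M := c.normJ_le hxJ
    intro k hk
    have h1 : x * k * x⁻¹ ∈ Subgroup.normalizer ((S : Subgroup G) : Set G) := by
      apply c.hZ S
      rw [Subgroup.mem_centralizer_iff]
      intro u hu
      rcases h u hu with h' | h'
      · rw [h']; group
      · rw [h']
        have := c.K_comm_bOf hk hbB
        calc x * b * x⁻¹ * (x * k * x⁻¹) = x * (b * k) * x⁻¹ := by group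
          _ = x * (k * b) * x⁻¹ := by rw [this]
          _ = x * k * x⁻¹ * (x * b * x⁻¹) := by group
    have h2 := c.normS_le_M hTeq h1
    have : k = x⁻¹ * (x * k * x⁻¹) * x := by group
    rw [this]
    exact M.mul_mem (M.mul_mem (M.inv_mem hxM) h2) hxM
  · intro s hs h
    apply hxL
    have h2 : x⁻¹ * s ∈ Subgroup.centralizer ({b} : Set G) := by
      rw [Subgroup.mem_centralizer_iff]
      intro y hy
      rw [Set.mem_singleton_iff.1 hy]
      calc b * (x⁻¹ * s) = x⁻¹ * (x * b * x⁻¹) * s := by group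
        _ = x⁻¹ * (s * b * s⁻¹) * s := by rw [h]
        _ = x⁻¹ * s * b := by group
    have h3 := c.cent_le hbB hb1 h2
    have h4 : x = s * (x⁻¹ * s)⁻¹ := by group
    rw [h4]
    have hsL : s ∈ L := by
      apply c.hTL
      rw [hTeq]; exact hs
    exact L.mul_mem hsL (L.inv_mem h3)

/-- **Case II-a** (`T = S`, a second component `K'` for `(L, S)`, `B ≠ 1`). -/
theorem case_IIa (hTeq : T = (S : Subgroup G)) {K' L' : Subgroup G} (c' : Ctx S L T K' L')
    (hB : bOf T K ≠ ⊥) :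
    omegaCenterOf (S : Subgroup G) = omegaCenterOf (thompsonSubgroupOf 2 T) ∧
      Nat.card ↥(omegaCenterOf (thompsonSubgroupOf 2 T)) = 4 := by
  have hsq := c.Z0_sq
  have hinf : bOf T K ⊓ bOf T K' = ⊥ := by
    rw [eq_bot_iff]
    rintro b ⟨hb, hb'⟩
    rw [Subgroup.mem_bot]
    by_contra hb1
    apply c'.hKM
    refine le_trans ?_ (c.cent_le hb hb1)
    intro k hk
    rw [Subgroup.mem_centralizer_iff]
    intro y hy
    rw [Set.mem_singleton_iff.1 hy]
    exact c'.K_comm_bOf hk hb'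
  have hcard : Nat.card ↥(bOf T K) = Nat.card ↥(bOf T K') := by
    have h1 := c.card_Z0
    have h2 := c'.card_Z0
    omega
  have h5 := Cfsg.Agent.Lib.Helper1.FF.card_sup_mul_card_inf_of_le_abelian c.Z0_comm
    (bOf_le T K) (bOf_le T K')
  rw [hinf, Subgroup.card_bot, mul_one, ← hcard] at h5
  have h6 : Nat.card ↥(bOf T K ⊔ bOf T K' : Subgroup G) ≤
      Nat.card ↥(omegaCenterOf (thompsonSubgroupOf 2 T)) :=
    Subgroup.card_le_of_le (sup_le (bOf_le T K) (bOf_le T K'))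
  rw [h5, c.card_Z0] at h6
  have hpos : 0 < Nat.card ↥(bOf T K) := Nat.card_pos
  have hle2 : Nat.card ↥(bOf T K) ≤ 2 := by
    by_contra h
    push Not at h
    have : 3 * Nat.card ↥(bOf T K) ≤ Nat.card ↥(bOf T K) * Nat.card ↥(bOf T K) := by
      rw [mul_comm 3]
      exact Nat.mul_le_mul_left _ h
    omega
  have hB2 := card_eq_two_of_le_two hB hle2
  have hZ04 : Nat.card ↥(omegaCenterOf (thompsonSubgroupOf 2 T)) = 4 := by
    rw [c.card_Z0, hB2]
  refine ⟨?_, hZ04⟩
  have hB' : bOf T K' ≠ ⊥ := by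
    intro h
    rw [h, Subgroup.card_bot] at hcard
    omega
  obtain ⟨⟨b, hbB⟩, hb1'⟩ := (Subgroup.ne_bot_iff_exists_ne_one).1 hB
  have hb1 : b ≠ 1 := fun h => hb1' (Subtype.ext h)
  obtain ⟨⟨b', hb'B⟩, hb'1'⟩ := (Subgroup.ne_bot_iff_exists_ne_one).1 hB'
  have hb'1 : b' ≠ 1 := fun h => hb'1' (Subtype.ext h)
  have hbb' : b ≠ b' := by
    intro h
    have h1 : b ∈ bOf T K ⊓ bOf T K' := ⟨hbB, h ▸ hb'B⟩
    rw [hinf, Subgroup.mem_bot] at h1
    exact hb1 h1
  have hbZ0 : b ∈ omegaCenterOf (thompsonSubgroupOf 2 T) := bOf_le T K hbB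
  have hb'Z0 : b' ∈ omegaCenterOf (thompsonSubgroupOf 2 T) := bOf_le T K' hb'B
  have hel := four_group_elems hZ04 hsq hbZ0 hb'Z0 hb1 hb'1 hbb'
  have hSJ : (S : Subgroup G) ≤ Subgroup.normalizer (thompsonSubgroupOf 2 T : Set G) := by
    rw [← hTeq]
    exact Subgroup.le_normalizer.trans c.normT_le_normJ
  apply Z_eq_of_four hel hsq hbZ0 hb'Z0 hb'1 (c.Z0_le_T.trans c.hTS)
  · intro s hs w hw
    exact (Subgroup.mem_normalizer_iff.1 (c.normJ_le_normZ0 (hSJ hs)) w).1 hw
  · exact c.Z_le_Z0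
  · exact c.Z_ne_bot
  · intro h
    exact c.hKM ((c.K_le_normS hbB h).trans (c.normS_le_M hTeq))
  · intro h
    exact c'.hKM ((c'.K_le_normS hb'B h).trans (c'.normS_le_M hTeq))
  · intro s hs h
    apply c'.hKM
    have hsL : s ∈ L := by
      apply c.hTL
      rw [hTeq]; exact hs
    intro k hk
    have h2 : s⁻¹ * k * s ∈ Subgroup.centralizer ({b} : Set G) := by
      rw [Subgroup.mem_centralizer_iff]
      intro y hy
      rw [Set.mem_singleton_iff.1 hy]
      have h3 := c'.K_comm_bOf hk hb'B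
      rw [← h] at h3
      calc b * (s⁻¹ * k * s) = s⁻¹ * ((s * b * s⁻¹) * k) * s := by group
        _ = s⁻¹ * (k * (s * b * s⁻¹)) * s := by rw [h3]
        _ = s⁻¹ * k * s * b := by group
    have h4 := c.cent_le hbB hb1 h2
    have : k = s * (s⁻¹ * k * s) * s⁻¹ := by group
    rw [this]
    exact L.mul_mem (L.mul_mem hsL h4) (L.inv_mem hsL)

end Ctx

end Cfsg.Agent.Lib.Helper9.KS
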