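import Mathlib
import Cfsg.Prelude
import Cfsg.Agent.Lib.Helper9.KUl

set_option autoImplicit false
set_option linter.unusedSectionVars false
set_option linter.unusedVariables false
set_option linter.style.longLine false
set_option linter.unusedSimpArgs false
open Cfsg

set_option maxHeartbeats 1600000
namespace Cfsg.Agent.Lib.Helper9.KS

open Cfsg.Agent.Lib.Helper1 Cfsg.Agent.Lib.Helper3.JC Cfsg.Agent.Lib.Helper7.KU
open scoped commutatorElement

variable {G : Type*} [Group G]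

theorem isSylowTwoIn_top [Finite G] (S : Sylow 2 G) : IsSylowTwoIn (S : Subgroup G) ⊤ := by
  refine ⟨le_top, S.2, ?_⟩
  rw [Subgroup.relIndex_top_right, ← Nat.not_even_iff_odd]
  intro he
  exact S.not_dvd_index (even_iff_two_dvd.mp he)

/-- lexicographic comparison of a `2`-subgroup with a Sylow `2`-subgroup. -/
theorem lex_le_sylow [Finite G] (S : Sylow 2 G) {T' : Subgroup G} (hT' : IsPGroup 2 ↥T') :
    maxElemAbelianOrder T' ≤ maxElemAbelianOrder (S : Subgroup G) ∧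
    (maxElemAbelianOrder T' = maxElemAbelianOrder (S : Subgroup G) →
      Nat.card ↥(thompsonSubgroupOf 2 T') ≤ Nat.card ↥(thompsonSubgroupOf 2 (S : Subgroup G)) ∧
      (Nat.card ↥(thompsonSubgroupOf 2 T') = Nat.card ↥(thompsonSubgroupOf 2 (S : Subgroup G)) →
        Nat.card ↥T' ≤ Nat.card ↥(S : Subgroup G))) := by
  obtain ⟨g, -, hg⟩ := exists_conj_le (isSylowTwoIn_top S) (le_top : T' ≤ ⊤) hT'
  have hmap : ∀ B : Subgroup G, B ≤ T' → B.map (MulAut.conj g).toMonoidHom ≤ (S : Subgroup G) := by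
    rintro B hB _ ⟨b, hb, rfl⟩
    exact hg b (hB hb)
  obtain ⟨A, hA⟩ := exists_maxElAbIn (S : Subgroup G)
  obtain ⟨A', hA'⟩ := exists_maxElAbIn T'
  rw [maxElemAbelianOrder_eq hA, maxElemAbelianOrder_eq hA']
  have hcard : ∀ B : Subgroup G, Nat.card ↥(B.map (MulAut.conj g).toMonoidHom) = Nat.card ↥B :=
    fun B => Subgroup.card_map_of_injective (MulAut.conj g).injective
  have h1 : Nat.card ↥A' ≤ Nat.card ↥A := by
    rw [← hcard A']
    exact hA.2.2 _ (hmap A' hA'.1) (isElementaryAbelian_map hA'.2.1 _)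
  refine ⟨h1, fun heq => ⟨?_, fun _ => ?_⟩⟩
  · rw [← hcard (thompsonSubgroupOf 2 T')]
    apply Subgroup.card_le_of_le
    rw [Subgroup.map_le_iff_le_comap, thompsonSubgroupOf_eq_sSup]
    apply sSup_le
    intro B hB
    rw [← Subgroup.map_le_iff_le_comap]
    apply le_thompsonSubgroupOf_of_mem
    refine ⟨hmap B hB.1, isElementaryAbelian_map hB.2.1 _, ?_⟩
    intro C hCS hC
    rw [hcard B]
    have h2 : Nat.card ↥A' ≤ Nat.card ↥B := hB.2.2 A' hA'.1 hA'.2.1
    have h3 := hA.2.2 C hCS hC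
    omega
  · rw [← hcard T']
    exact Subgroup.card_le_of_le (hmap T' le_rfl)

theorem sylow_mem_maxStraddling [Finite G] (S : Sylow 2 G) {M : Subgroup G}
    (h : (S : Subgroup G) ∈ straddlingTwoSubgroups M) :
    (S : Subgroup G) ∈ maxStraddlingTwoSubgroups M :=
  ⟨h, fun T' hT' => lex_le_sylow S hT'.1⟩

theorem exists_maxStraddling [Finite G] {M : Subgroup G}
    (h : (straddlingTwoSubgroups M).Nonempty) : (maxStraddlingTwoSubgroups M).Nonempty := by
  let f : Subgroup G → ℕ ×ₗ ℕ ×ₗ ℕ := fun T =>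
    toLex (maxElemAbelianOrder T, toLex (Nat.card ↥(thompsonSubgroupOf 2 T), Nat.card ↥T))
  obtain ⟨T₀, hT₀, hmax⟩ := Set.exists_max_image (straddlingTwoSubgroups M) f (Set.toFinite _) h
  refine ⟨T₀, hT₀, ?_⟩
  intro T hT
  have h1 := hmax T hT
  simp only [f, Prod.Lex.le_iff, ofLex_toLex] at h1
  rcases h1 with h1 | ⟨h1, h2⟩
  · exact ⟨h1.le, fun he => absurd he h1.ne⟩
  · refine ⟨h1.le, fun _ => ?_⟩
    rcases h2 with h2 | ⟨h2, h3⟩
    · exact ⟨h2.le, fun he => absurd he h2.ne⟩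
    · exact ⟨h2.le, fun _ => h3⟩

/-- every `2`-subgroup of `M` lies in a Sylow `2`-subgroup `S'` of `G` with `N_G(J(S')) ≤ M`. -/
theorem exists_sylow_ge [Finite G] (S : Sylow 2 G) {M T : Subgroup G}
    (hMJ : Subgroup.normalizer (thompsonSubgroupOf 2 (S : Subgroup G) : Set G) ≤ M)
    (hTM : T ≤ M) (hTp : IsPGroup 2 ↥T) :
    ∃ (S' : Sylow 2 G) (m : G), m ∈ M ∧ T ≤ (S' : Subgroup G) ∧
      (S' : Subgroup G) = (S : Subgroup G).map (MulAut.conj m).toMonoidHom ∧
      Subgroup.normalizer (thompsonSubgroupOf 2 (S' : Subgroup G) : Set G) ≤ M := by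
  have h2 : Fact (Nat.Prime 2) := ⟨Nat.prime_two⟩
  have hSM : (S : Subgroup G) ≤ M := by
    refine le_trans ?_ hMJ
    exact Subgroup.le_normalizer.trans
      (normalizer_le_normalizer_thompsonSubgroupOf (thompsonSubgroupOf_le_self 2 _) le_rfl)
  have hSsyl : IsSylowTwoIn (S : Subgroup G) M := by
    refine ⟨hSM, S.2, ?_⟩
    have h1 : (S : Subgroup G).relIndex M ∣ (S : Subgroup G).index :=
      Subgroup.relIndex_dvd_index_of_le hSM
    have h3 : ¬ 2 ∣ (S : Subgroup G).index := S.not_dvd_index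
    rw [← Nat.not_even_iff_odd]
    intro he
    exact h3 ((even_iff_two_dvd.mp he).trans h1)
  obtain ⟨m, hm, hconj⟩ := exists_conj_le hSsyl hTM hTp
  have hS'p : IsPGroup 2 ↥((S : Subgroup G).map (MulAut.conj m⁻¹).toMonoidHom) := S.2.map _
  have hidx : ¬ 2 ∣ ((S : Subgroup G).map (MulAut.conj m⁻¹).toMonoidHom).index := by
    have h5 := S.not_dvd_index
    have h6 : ((S : Subgroup G).map (MulAut.conj m⁻¹).toMonoidHom).index = (S : Subgroup G).index :=
      Subgroup.index_map_equiv (S : Subgroup G) (MulAut.conj m⁻¹)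
    rw [h6]; exact h5
  refine ⟨hS'p.toSylow hidx, m⁻¹, M.inv_mem hm, ?_, rfl, ?_⟩
  · intro t ht
    show t ∈ (S : Subgroup G).map (MulAut.conj m⁻¹).toMonoidHom
    refine ⟨m * t * m⁻¹, hconj t ht, ?_⟩
    show m⁻¹ * (m * t * m⁻¹) * m⁻¹⁻¹ = t
    group
  · show Subgroup.normalizer
      (thompsonSubgroupOf 2 ((S : Subgroup G).map (MulAut.conj m⁻¹).toMonoidHom) : Set G) ≤ M
    rw [thompson_map_cj, ← normalizer_map_cj]
    rintro _ ⟨n, hn, rfl⟩
    show m⁻¹ * n * m⁻¹⁻¹ ∈ M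
    exact M.mul_mem (M.mul_mem (M.inv_mem hm) (hMJ hn)) (M.inv_mem (M.inv_mem hm))

end Cfsg.Agent.Lib.Helper9.KS
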