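import Mathlib
import Cfsg.Prelude
import Cfsg.Agent.Lib.Helper9.KUm
import Cfsg.Agent.S2949
import Cfsg.Agent.S2950
import Cfsg.Agent.S2947
import Cfsg.Agent.Lib.Lead.SETrans
import Cfsg.Agent.Lib.Helper5.KSEnd.Main

set_option autoImplicit false
set_option linter.unusedSectionVars false
set_option linter.unusedVariables false
set_option linter.style.longLine false
set_option linter.unusedSimpArgs false
open Cfsg

set_option maxHeartbeats 1600000
namespace Cfsg.Agent.Lib.Helper9.KS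

open Cfsg.Agent.Lib.Helper1 Cfsg.Agent.Lib.Helper3.JC Cfsg.Agent.Lib.Helper7.KU
open scoped commutatorElement

variable {G : Type*} [Group G]

/-- the context for a given component. -/
theorem ctx_of_comp [Finite G] (hL : Cfsg.IsCharacteristicTwoType G)
    (hN : ∀ N : Subgroup G, Cfsg.IsTwoLocal N → Group.IsSolvable ↥N)
    (hZ : ∀ S : Sylow 2 G, Subgroup.centralizer (Cfsg.omegaCenterOf (S : Subgroup G) : Set G) ≤
      Subgroup.normalizer ((S : Subgroup G) : Set G)) (hO : Cfsg.pCore 2 G = ⊥) (S : Sylow 2 G)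
    {M : Subgroup G} (hM : Cfsg.IsTwoLocal M)
    (hMJ : Subgroup.normalizer (Cfsg.thompsonSubgroupOf 2 (S : Subgroup G) : Set G) ≤ M)
    {T : Subgroup G} (hT : T ∈ Cfsg.maxStraddlingTwoSubgroups M) (hTS : T ≤ (S : Subgroup G))
    {K : Subgroup G} (hK : K ∈ Cfsg.jComponentsOutside M T) : ∃ L : Subgroup G, Ctx S M T K L := by
  obtain ⟨L, hLmax, hKL, -⟩ := Cfsg.Agent.S2950.result hL hN hZ hO S M hM hMJ T hT K hK
  exact ⟨L, ⟨hL, hN, hZ, hO, hM, hMJ, hT, hTS, hK, hLmax, hKL⟩⟩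

theorem exists_ctx [Finite G] (hL : Cfsg.IsCharacteristicTwoType G)
    (hN : ∀ N : Subgroup G, Cfsg.IsTwoLocal N → Group.IsSolvable ↥N)
    (hZ : ∀ S : Sylow 2 G, Subgroup.centralizer (Cfsg.omegaCenterOf (S : Subgroup G) : Set G) ≤
      Subgroup.normalizer ((S : Subgroup G) : Set G)) (hO : Cfsg.pCore 2 G = ⊥) (S : Sylow 2 G)
    {M : Subgroup G} (hM : Cfsg.IsTwoLocal M)
    (hMJ : Subgroup.normalizer (Cfsg.thompsonSubgroupOf 2 (S : Subgroup G) : Set G) ≤ M)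
    {T : Subgroup G} (hT : T ∈ Cfsg.maxStraddlingTwoSubgroups M) (hTS : T ≤ (S : Subgroup G)) :
    ∃ K L : Subgroup G, Ctx S M T K L := by
  obtain ⟨K, hK⟩ := Cfsg.Agent.S2949.result hL hN hZ hO S M hM hMJ T hT
  obtain ⟨L, c⟩ := ctx_of_comp hL hN hZ hO S hM hMJ hT hTS hK
  exact ⟨K, L, c⟩

theorem orderOf_eq_two {a : G} (h1 : a ≠ 1) (h2 : a * a = 1) : orderOf a = 2 :=
  orderOf_eq_prime (by rw [pow_two]; exact h2) h1

namespace Ctx

variable [Finite G] {S : Sylow 2 G} {M T K L : Subgroup G} (c : Ctx S M T K L)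
include c

/-- `L` is not strongly embedded. -/
theorem not_stronglyEmbedded : ¬ IsStronglyEmbedded L := by
  intro hSE
  have hJQ := c.ovr.2.1
  rw [thompsonSubgroupOf_eq_sSup] at hJQ
  have : ∃ A ∈ maxElAbIn 2 T, ¬ A ≤ pCoreOf 2 L := by
    by_contra hcon
    push Not at hcon
    exact hJQ (sSup_le hcon)
  obtain ⟨A, hA, hAQ⟩ := this
  obtain ⟨a, haA, haQ⟩ := SetLike.not_le_iff_exists.1 hAQ
  have ha1 : a ≠ 1 := by
    intro h; apply haQ; rw [h]; exact Subgroup.one_mem _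
  have ha2 := orderOf_eq_two ha1 (maxElAbIn_sq hA a haA)
  obtain ⟨⟨w, hwW⟩, hw1'⟩ := (Subgroup.ne_bot_iff_exists_ne_one).1 c.kd.W_ne_bot
  have hw1 : w ≠ 1 := fun h => hw1' (Subtype.ext h)
  have hw2 := orderOf_eq_two hw1 (c.kd.wsq w hwW)
  have hwQ : w ∈ pCoreOf 2 L :=
    (pCoreOf_comp_le c.hL c.hN c.hZ c.hTp c.hT1 c.ovr c.kJ c.hKLe) (c.kd.W_le_Q hwW)
  obtain ⟨g, hg⟩ := isConj_iff.1 (Cfsg.Agent.Lib.Lead.SE.isConj_invol hSE ha2 hw2)
  have haL : a ∈ L := c.hTL (hA.1 haA)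
  have hgL : g ∈ L := by
    by_contra hgL
    have hodd := hSE.2.2 g hgL
    have hmem : w ∈ L ⊓ L.map (MulAut.conj g).toMonoidHom :=
      ⟨pCoreOf_le L hwQ, ⟨a, haL, hg⟩⟩
    have hdvd : orderOf (⟨w, hmem⟩ : ↥(L ⊓ L.map (MulAut.conj g).toMonoidHom)) ∣
        Nat.card ↥(L ⊓ L.map (MulAut.conj g).toMonoidHom) := orderOf_dvd_natCard _
    have ho : orderOf (⟨w, hmem⟩ : ↥(L ⊓ L.map (MulAut.conj g).toMonoidHom)) = 2 := by
      rw [← hw2]
      exact (Subgroup.orderOf_coe (⟨w, hmem⟩ : ↥(L ⊓ L.map (MulAut.conj g).toMonoidHom))).symm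
    rw [ho] at hdvd
    exact (Nat.not_even_iff_odd.2 hodd) (even_iff_two_dvd.2 hdvd)
  apply haQ
  have h1 := (nz_self_pCoreOf L).inv_conj hgL hwQ
  rw [← hg] at h1
  have : g⁻¹ * (g * a * g⁻¹) * g = a := by group
  rwa [this] at h1

/-- `W_K ≤ Ω₁Z(O₂(L))`. -/
theorem W_le_V : wOf K ≤ omegaCenterOf (pCoreOf 2 L) := by
  refine (wOf_le_comm c.hL c.hN c.hZ c.hTp c.hT1 c.ovr c.kJ c.hKLe).trans ?_
  rw [Subgroup.commutator_le]
  intro v hv k hk
  have hnz : Nz L (omegaCenterOf (pCoreOf 2 L)) := nz_omegaCenterOf (nz_self_pCoreOf L)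
  rw [commutatorElement_def]
  have h1 := hnz k (c.hKLe hk) v⁻¹ (Subgroup.inv_mem _ hv)
  have : v * k * v⁻¹ * k⁻¹ = v * (k * v⁻¹ * k⁻¹) := by group
  rw [this]
  exact Subgroup.mul_mem _ hv h1


/-- **II-b is impossible.** -/
theorem no_IIb (hTeq : T = (S : Subgroup G))
    (hNJ : Subgroup.normalizer (thompsonSubgroupOf 2 T : Set G) ≤ L)
    (hall : ∀ H : Subgroup G, IsTwoLocal H → (S : Subgroup G) ≤ H → H ≤ L) : False := by
  have h2 : Fact (Nat.Prime 2) := ⟨Nat.prime_two⟩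
  have hMJ' : Subgroup.normalizer (thompsonSubgroupOf 2 (S : Subgroup G) : Set G) ≤ L := by
    rw [← hTeq]; exact hNJ
  have hLloc : IsTwoLocal L := c.hLmax.1
  have hSL : (S : Subgroup G) ≤ L := by rw [← hTeq]; exact c.hTL
  -- (1) the family of `L` is nonempty
  have hne : (straddlingTwoSubgroups L).Nonempty := by
    rw [Set.nonempty_iff_ne_empty]
    intro h
    exact c.not_stronglyEmbedded
      ((Cfsg.Agent.S2947.result c.hL c.hN c.hZ c.hO S L hLloc hMJ').2 h)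
  obtain ⟨R, hR⟩ := exists_maxStraddling hne
  obtain ⟨hRp, hR1, hRL, H, hH, hRH, hHL⟩ := hR.1
  obtain ⟨S', l, hl, hRS', hS'eq, hMJ''⟩ := exists_sylow_ge S hMJ' hRL hRp
  have hS'L : (S' : Subgroup G) ≤ L := by
    rw [hS'eq]
    rintro _ ⟨s, hs, rfl⟩
    exact L.mul_mem (L.mul_mem hl (hSL hs)) (L.inv_mem hl)
  have hRne : R ≠ (S' : Subgroup G) := by
    intro h
    apply hHL
    have h1 : (S : Subgroup G) ≤ H.map (MulAut.conj l⁻¹).toMonoidHom := by
      intro s hs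
      refine ⟨l * s * l⁻¹, hRH ?_, ?_⟩
      · rw [h, hS'eq]; exact ⟨s, hs, rfl⟩
      · show l⁻¹ * (l * s * l⁻¹) * l⁻¹⁻¹ = s
        group
    have h3 := hall _ (isTwoLocal_map (MulAut.conj l⁻¹) hH) h1
    intro y hy
    have h4 : l⁻¹ * y * l⁻¹⁻¹ ∈ L := h3 ⟨y, hy, rfl⟩
    have : y = l * (l⁻¹ * y * l⁻¹⁻¹) * l⁻¹ := by group
    rw [this]
    exact L.mul_mem (L.mul_mem hl h4) (L.inv_mem hl)
  obtain ⟨K', L', c'⟩ := exists_ctx c.hL c.hN c.hZ c.hO S' hLloc hMJ'' hR hRS'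
  have hiso := c'.nonsylow_iso hRne
  -- `L` belongs to the family of `S'`
  have hS'syl : IsSylowTwoIn (S' : Subgroup G) L := by
    refine ⟨hS'L, S'.2, ?_⟩
    have h1 : (S' : Subgroup G).relIndex L ∣ (S' : Subgroup G).index :=
      Subgroup.relIndex_dvd_index_of_le hS'L
    have h3 : ¬ 2 ∣ (S' : Subgroup G).index := S'.not_dvd_index
    rw [← Nat.not_even_iff_odd]
    intro he
    exact h3 ((even_iff_two_dvd.mp he).trans h1)
  have hov : L ∈ jOvergroups (S' : Subgroup G) := by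
    refine ⟨hS'syl, ?_, c.ovr.2.2⟩
    intro h
    apply c.ovr.2.1
    rw [hTeq]
    rw [hS'eq, thompson_map_cj] at h
    intro j hj
    have h1 : l * j * l⁻¹ ∈ pCoreOf 2 L := h ⟨j, hj, rfl⟩
    have h3 := (nz_self_pCoreOf L).inv_conj hl h1
    have : l⁻¹ * (l * j * l⁻¹) * l = j := by group
    rwa [this] at h3
  apply Cfsg.Agent.Lib.Helper5.KSEnd.no_IIb S' L L' R hS'L
  · refine le_trans ?_ (inf_cent_le_pCoreOf c.hZ hov)
    exact le_inf inf_le_left (le_inf (inf_le_left.trans hS'L) inf_le_right)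
  · exact omegaCenterOf_le_of_cent (pCoreOf_le_of_isSylowTwoIn hS'syl) c.ovr.2.2
  · have := Subgroup.card_le_of_le c.W_le_V
    rwa [c.kd.wcard] at this
  · exact (nz_omegaCenterOf (nz_self_pCoreOf L)).le_normalizer
  · have h1 : Nat.card ↥K ∣ Nat.card ↥L := Subgroup.card_dvd_of_le c.hKLe
    rw [c.kd.card_K] at h1
    exact (Dvd.intro_left _ rfl).trans h1
  · exact hiso
  · exact hRS'
  · exact c'.sylow
  · exact hRne
  · exact c'.hLmax.2

end Ctx

end Cfsg.Agent.Lib.Helper9.KS
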