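import Mathlib
import Cfsg.Prelude
import Cfsg.Agent.Lib.Helper9.KUn

set_option autoImplicit false
set_option linter.unusedSectionVars false
set_option linter.unusedVariables false
set_option linter.style.longLine false
set_option linter.unusedSimpArgs false
open Cfsg

set_option maxHeartbeats 1600000
namespace Cfsg.Agent.Lib.Helper9.KS

open Cfsg.Agent.Lib.Helper1 Cfsg.Agent.Lib.Helper3.JC Cfsg.Agent.Lib.Helper7.KU
open scoped commutatorElement

variable {G : Type*} [Group G]

theorem two_group_elems [Finite G] {Z : Subgroup G} (hZ : Nat.card ↥Z = 2) {z : G} (hz : z ∈ Z)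
    (hz1 : z ≠ 1) : ∀ u ∈ Z, u = 1 ∨ u = z := by
  classical
  intro u hu
  by_contra hcon
  push Not at hcon
  have hfin : Fintype ↥Z := Fintype.ofFinite _
  let s : Finset ↥Z := {⟨1, Z.one_mem⟩, ⟨z, hz⟩, ⟨u, hu⟩}
  have hs : s.card = 3 := by
    rw [Finset.card_insert_of_notMem, Finset.card_insert_of_notMem, Finset.card_singleton]
    · simp only [Finset.mem_singleton, Subtype.mk.injEq]
      exact fun h => hcon.2 h.symm
    · simp only [Finset.mem_insert, Finset.mem_singleton, Subtype.mk.injEq, not_or]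
      exact ⟨fun h => hz1 h.symm, fun h => hcon.1 h.symm⟩
  have hle := Finset.card_le_univ s
  rw [hs, ← Nat.card_eq_fintype_card, hZ] at hle
  omega

namespace Ctx

variable [Finite G] {S : Sylow 2 G} {M T K L : Subgroup G} (c : Ctx S M T K L)
include c

/-- in the Sylow case with `N_G(J) ≤ L` there is a second component relative to `(L, S)`. -/
theorem exists_IIa (hTeq : T = (S : Subgroup G))
    (hNJ : Subgroup.normalizer (thompsonSubgroupOf 2 T : Set G) ≤ L) :
    ∃ K' L' : Subgroup G, Ctx S L T K' L' := by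
  have hMJ' : Subgroup.normalizer (thompsonSubgroupOf 2 (S : Subgroup G) : Set G) ≤ L := by
    rw [← hTeq]; exact hNJ
  have hSL : (S : Subgroup G) ≤ L := by rw [← hTeq]; exact c.hTL
  by_cases hall : ∀ H : Subgroup G, IsTwoLocal H → (S : Subgroup G) ≤ H → H ≤ L
  · exact (c.no_IIb hTeq hNJ hall).elim
  · push Not at hall
    obtain ⟨H, hH, hSH, hHL⟩ := hall
    have hstr : (S : Subgroup G) ∈ straddlingTwoSubgroups L :=
      ⟨S.2, c.S_ne_bot, hSL, H, hH, hSH, hHL⟩
    have hmax := sylow_mem_maxStraddling S hstr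
    obtain ⟨K', L', c'⟩ := exists_ctx c.hL c.hN c.hZ c.hO S c.hLmax.1 hMJ' hmax le_rfl
    refine ⟨K', L', ?_⟩
    rw [hTeq]; exact c'

/-- **S2951.** -/
theorem trichotomy :
    omegaCenterOf (thompsonSubgroupOf 2 T) ⊓ Cfsg.wOf K ≠ ⊥ ∧
      ((omegaCenterOf (S : Subgroup G) = omegaCenterOf (thompsonSubgroupOf 2 T) ∧
          Nat.card ↥(omegaCenterOf (thompsonSubgroupOf 2 T)) = 2) ∨
        (omegaCenterOf (S : Subgroup G) = omegaCenterOf (thompsonSubgroupOf 2 T) ∧
          Nat.card ↥(omegaCenterOf (thompsonSubgroupOf 2 T)) = 4 ∧ T = (S : Subgroup G)) ∨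
        (Cfsg.omegaCenterOf T = omegaCenterOf (thompsonSubgroupOf 2 T) ∧
          Nat.card ↥(omegaCenterOf (thompsonSubgroupOf 2 T)) = 4 ∧
          (L ⊓ Subgroup.centralizer (omegaCenterOf (thompsonSubgroupOf 2 T) : Set G)).relIndex
            (Subgroup.normalizer (omegaCenterOf (thompsonSubgroupOf 2 T) : Set G)) = 2)) := by
  refine ⟨c.Z0W_ne_bot, ?_⟩
  by_cases hB : bOf T K = ⊥
  · left; exact c.case_a hB
  by_cases hTeq : T = (S : Subgroup G)
  · right; left
    have key : omegaCenterOf (S : Subgroup G) = omegaCenterOf (thompsonSubgroupOf 2 T) ∧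
        Nat.card ↥(omegaCenterOf (thompsonSubgroupOf 2 T)) = 4 := by
      by_cases hNJ : Subgroup.normalizer (thompsonSubgroupOf 2 T : Set G) ≤ L
      · obtain ⟨K', L', c'⟩ := c.exists_IIa hTeq hNJ
        exact c.case_IIa hTeq c' hB
      · obtain ⟨x, hxJ, hxL⟩ := SetLike.not_le_iff_exists.1 hNJ
        exact c.case_I hTeq hxJ hxL hB
    exact ⟨key.1, key.2, hTeq⟩
  · right; right
    obtain ⟨x, hxS, hxN, hxT, hxL⟩ := c.exists_x hTeq
    have hlt : Nat.card ↥T < Nat.card ↥(S : Subgroup G) := by
      by_contra h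
      push Not at h
      exact hTeq (Subgroup.eq_of_le_of_card_ge c.hTS h)
    exact c.case_c hxS hxN hxL hB hlt

theorem good : Good S M T K L := by
  refine ⟨c, ?_⟩
  rcases c.trichotomy.2 with h | h | h
  · exact c.ZT_eq_of_Z_eq h.1
  · exact c.ZT_eq_of_Z_eq h.1
  · exact h.1

/-- the second component. -/
theorem exists_second : ∃ (M' K₂ L₂ : Subgroup G), Good S M' T K₂ L₂ ∧ L ≠ L₂ := by
  have g := c.good
  by_cases hTeq : T = (S : Subgroup G)
  · by_cases hNJ : Subgroup.normalizer (thompsonSubgroupOf 2 T : Set G) ≤ L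
    · obtain ⟨K', L', c'⟩ := c.exists_IIa hTeq hNJ
      refine ⟨L, K', L', ⟨c', g.hZT⟩, ?_⟩
      intro h
      apply c'.hKM
      rw [h]; exact c'.hKLe
    · obtain ⟨x, hxJ, hxL⟩ := SetLike.not_le_iff_exists.1 hNJ
      have hTLx : T ≤ L.map (MulAut.conj x).toMonoidHom := by
        by_cases hB : bOf T K = ⊥
        · -- `x` normalizes `S`
          obtain ⟨hZeq, hZ02⟩ := c.case_a hB
          obtain ⟨⟨z, hzZ⟩, hz1'⟩ := (Subgroup.ne_bot_iff_exists_ne_one).1 c.Z_ne_bot
          have hz1 : z ≠ 1 := fun h => hz1' (Subtype.ext h)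
          have hcard : Nat.card ↥(omegaCenterOf (S : Subgroup G)) = 2 := by rw [hZeq]; exact hZ02
          have hel := two_group_elems hcard hzZ hz1
          have hxZ : x ∈ Subgroup.normalizer (omegaCenterOf (S : Subgroup G) : Set G) := by
            rw [hZeq]; exact c.normJ_le_normZ0 hxJ
          have hxC : x ∈ Subgroup.centralizer (omegaCenterOf (S : Subgroup G) : Set G) := by
            rw [Subgroup.mem_centralizer_iff]
            intro u hu
            apply comm_of_conj_eq
            have h1 := (Subgroup.mem_normalizer_iff.1 hxZ u).1 hu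
            rcases hel u hu with h | h
            · rw [h]; group
            · rcases hel _ h1 with h' | h'
              · exfalso
                apply hz1
                rw [h] at h'
                have : x * z * x⁻¹ = x * 1 * x⁻¹ := by rw [h']; group
                exact conj_cancel this
              · rw [h'] ; exact h.symm
          have hxS := c.hZ S hxC
          have h3 := Subgroup.map_mono (f := (MulAut.conj x).toMonoidHom) c.hTL
          rw [hTeq] at h3 ⊢
          rwa [map_cj_eq_self hxS] at h3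
        · obtain ⟨hZeq, -⟩ := c.case_I hTeq hxJ hxL hB
          obtain ⟨⟨b, hbB⟩, hb1'⟩ := (Subgroup.ne_bot_iff_exists_ne_one).1 hB
          have hb1 : b ≠ 1 := fun h => hb1' (Subtype.ext h)
          have hbZ0 : b ∈ omegaCenterOf (thompsonSubgroupOf 2 T) := bOf_le T K hbB
          have hbx : x * b * x⁻¹ ∈ omegaCenterOf (S : Subgroup G) := by
            rw [hZeq]
            exact (Subgroup.mem_normalizer_iff.1 (c.normJ_le_normZ0 hxJ) b).1 hbZ0
          intro s hs
          have hsS : s ∈ (S : Subgroup G) := hTeq ▸ hs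
          have h1 := Subgroup.mem_centralizer_iff.1 (omegaCenterOf_le _ hbx).2 s hsS
          have h2 : x⁻¹ * s * x ∈ Subgroup.centralizer ({b} : Set G) := by
            rw [Subgroup.mem_centralizer_iff]
            intro y hy
            rw [Set.mem_singleton_iff.1 hy]
            calc b * (x⁻¹ * s * x) = x⁻¹ * ((x * b * x⁻¹) * s) * x := by group
              _ = x⁻¹ * (s * (x * b * x⁻¹)) * x := by rw [h1]
              _ = x⁻¹ * s * x * b := by group
          refine ⟨x⁻¹ * s * x, c.cent_le hbB hb1 h2, ?_⟩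
          show x * (x⁻¹ * s * x) * x⁻¹ = s
          group
      exact ⟨M, _, _, g.conj hxJ hTLx, (c.not_mem_of_not_normalizer hxL).symm⟩
  · obtain ⟨K₂, L₂, -, g₂, hne, -⟩ := c.nonsylow_pair hTeq
    exact ⟨M, K₂, L₂, g₂, hne⟩

end Ctx

end Cfsg.Agent.Lib.Helper9.KS
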