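import Mathlib
import Cfsg.Prelude
import Cfsg.Agent.Lib.Helper9.KUo

set_option autoImplicit false
set_option linter.unusedSectionVars false
set_option linter.unusedVariables false
set_option linter.style.longLine false
set_option linter.unusedSimpArgs false
open Cfsg

set_option maxHeartbeats 1600000
namespace Cfsg.Agent.Lib.Helper9.KS

open Cfsg.Agent.Lib.Helper1 Cfsg.Agent.Lib.Helper3.JC Cfsg.Agent.Lib.Helper7.KU
open scoped commutatorElement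

variable {G : Type*} [Group G]

/-- **S2954**, conditional on the `(S₃, S₃)`-amalgam theorem in the form of helper7's `Am.Ctx`. -/
theorem s2954_of_am [Finite G] (hL : Cfsg.IsCharacteristicTwoType G)
    (hN : ∀ N : Subgroup G, Cfsg.IsTwoLocal N → Group.IsSolvable ↥N)
    (hZ : ∀ S : Sylow 2 G, Subgroup.centralizer (Cfsg.omegaCenterOf (S : Subgroup G) : Set G) ≤
      Subgroup.normalizer ((S : Subgroup G) : Set G)) (hO : Cfsg.pCore 2 G = ⊥) (S : Sylow 2 G)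
    (M : Subgroup G) (hM : Cfsg.IsTwoLocal M)
    (hMJ : Subgroup.normalizer (Cfsg.thompsonSubgroupOf 2 (S : Subgroup G) : Set G) ≤ M)
    (T : Subgroup G) (hT : T ∈ Cfsg.maxStraddlingTwoSubgroups M)
    (hAm : ∀ P : Bool → Subgroup G, Cfsg.Agent.Lib.Helper7.Am.Ctx P → AmConcl (P true) (P false)) :
    ∃ P₁ P₂ : Subgroup G, P₁ ≠ P₂ ∧ Cfsg.IsMaximalTwoLocal P₁ ∧ Cfsg.IsMaximalTwoLocal P₂ ∧
      Cfsg.IsSylowTwoIn T P₁ ∧ Cfsg.IsSylowTwoIn T P₂ ∧
      ((Nonempty (↥P₁ ≃* Equiv.Perm (Fin 4)) ∧ Nonempty (↥P₂ ≃* Equiv.Perm (Fin 4))) ∨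
        (Nonempty (↥P₁ ≃* Equiv.Perm (Fin 4) × Multiplicative (ZMod 2)) ∧
          Nonempty (↥P₂ ≃* Equiv.Perm (Fin 4) × Multiplicative (ZMod 2)))) := by
  obtain ⟨S', m, -, hTS', -, hMJ'⟩ := exists_sylow_ge S hMJ hT.1.2.2.1 hT.1.1
  obtain ⟨K, L, c⟩ := exists_ctx hL hN hZ hO S' hM hMJ' hT hTS'
  obtain ⟨M', K₂, L₂, g₂, hne⟩ := c.exists_second
  have ham := hAm _ (pair_ctx c.good g₂ hne)
  exact ⟨L, L₂, s2954_of_pair c.good g₂ hne ham⟩

end Cfsg.Agent.Lib.Helper9.KS
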