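import Mathlib
import Cfsg.Agent.Lib.Helper8.L34Defs

/-!
# Farm L34, unit UC1: the Levi complement `L1 = SL₂ ⊕ 1` acts on `A1`.
-/

set_option autoImplicit false

namespace Cfsg.Agent.Lib.Helper9.L34UC1

open Matrix
open Cfsg.Agent.Lib.Helper8.L34

variable {F : Type*} [Field F]

/-- the basic commutation relation -/
theorem emb1_mul_hS (A : SpecialLinearGroup (Fin 2) F) (b c : F) :
    emb1 A * hS 0 b c = hS 0 (A 1 0 * c + A 1 1 * b) (A 0 0 * c + A 0 1 * b) * emb1 A := by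
  apply Subtype.ext
  show (emb1 A : SpecialLinearGroup (Fin 3) F).1 * (hS 0 b c).1 =
    (hS 0 (A 1 0 * c + A 1 1 * b) (A 0 0 * c + A 0 1 * b)).1 * (emb1 A : SpecialLinearGroup (Fin 3) F).1
  have h1 : (emb1 A : SpecialLinearGroup (Fin 3) F).1 = !![A 0 0, A 0 1, 0; A 1 0, A 1 1, 0; 0, 0, 1] := rfl
  have h2 : ∀ a b c : F, (hS a b c).1 = !![1, a, c; 0, 1, b; 0, 0, 1] := fun _ _ _ => rfl
  rw [h1, h2, h2]
  ext i j
  fin_cases i <;> fin_cases j <;> simp [Matrix.mul_apply, Fin.sum_univ_succ]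

theorem conj_mem_A1 (A : SpecialLinearGroup (Fin 2) F) (b c : F) :
    emb1 A * hS 0 b c * (emb1 A)⁻¹ = hS 0 (A 1 0 * c + A 1 1 * b) (A 0 0 * c + A 0 1 * b) := by
  rw [emb1_mul_hS, mul_inv_cancel_right]

theorem L1_le_normalizer : L1 F ≤ Subgroup.normalizer (A1 F : Set (SpecialLinearGroup (Fin 3) F)) := by
  rintro l ⟨A, rfl⟩
  rw [Subgroup.mem_normalizer_iff]
  intro n
  constructor
  · rintro ⟨b, c, rfl⟩
    exact ⟨_, _, conj_mem_A1 A b c⟩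
  · intro h
    obtain ⟨b, c, hbc⟩ := h
    have h2 : n = (emb1 A⁻¹) * hS 0 b c * (emb1 A⁻¹)⁻¹ := by
      rw [← hbc, map_inv]
      group
    rw [h2, conj_mem_A1]
    exact ⟨_, _, rfl⟩

/-- an element of `SL₂` with prescribed first column -/
theorem exists_col (p q : F) (h : p ≠ 0 ∨ q ≠ 0) :
    ∃ M : SpecialLinearGroup (Fin 2) F, M 0 0 = p ∧ M 1 0 = q := by
  by_cases hp : p = 0
  · have hq : q ≠ 0 := by
      rcases h with h | h
      · exact absurd hp h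
      · exact h
    refine ⟨⟨!![0, -q⁻¹; q, 0], ?_⟩, ?_, ?_⟩
    · simp [Matrix.det_fin_two, hq]
    · simp [hp]
    · simp
  · refine ⟨⟨!![p, 0; q, p⁻¹], ?_⟩, ?_, ?_⟩
    · simp [Matrix.det_fin_two, hp]
    · simp
    · simp

theorem exists_conj_std (b c : F) (h : hS (0 : F) b c ≠ 1) :
    ∃ l ∈ L1 F, l * hS 0 0 1 * l⁻¹ = hS 0 b c := by
  have h' : c ≠ 0 ∨ b ≠ 0 := by
    by_contra hcon
    rw [not_or, not_not, not_not] at hcon
    apply h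
    rw [hcon.1, hcon.2, hS_zero]
  obtain ⟨M, h0, h1⟩ := exists_col c b h'
  refine ⟨emb1 M, ⟨M, rfl⟩, ?_⟩
  rw [conj_mem_A1, h0, h1]
  congr 1 <;> ring

theorem trans_A1 : ∀ x ∈ A1 F, ∀ y ∈ A1 F, x ≠ 1 → y ≠ 1 → ∃ l ∈ L1 F, l * x * l⁻¹ = y := by
  rintro _ ⟨b, c, rfl⟩ _ ⟨b', c', rfl⟩ hx hy
  obtain ⟨l1, hl1, e1⟩ := exists_conj_std b c hx
  obtain ⟨l2, hl2, e2⟩ := exists_conj_std b' c' hy
  refine ⟨l2 * l1⁻¹, (L1 F).mul_mem hl2 ((L1 F).inv_mem hl1), ?_⟩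
  rw [← e1, ← e2]
  group

theorem disj_A1 : ∀ l ∈ L1 F, ∀ a ∈ A1 F, ∀ z ∈ Subgroup.center (SpecialLinearGroup (Fin 3) F),
    l = a * z → l = 1 := by
  rintro _ ⟨A, rfl⟩ _ ⟨b, c, rfl⟩ z hz h
  rw [Matrix.SpecialLinearGroup.mem_center_iff] at hz
  obtain ⟨r, -, hr⟩ := hz
  have hm : (emb1 A : SpecialLinearGroup (Fin 3) F).1 = (hS 0 b c).1 * z.1 := by
    rw [h]; rfl
  rw [← hr] at hm
  have h1 : (emb1 A : SpecialLinearGroup (Fin 3) F).1 = !![A 0 0, A 0 1, 0; A 1 0, A 1 1, 0; 0, 0, 1] := rfl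
  have h2 : (hS (0 : F) b c).1 = !![1, 0, c; 0, 1, b; 0, 0, 1] := rfl
  rw [h1, h2] at hm
  have e22 := congrFun (congrFun hm 2) 2
  have e02 := congrFun (congrFun hm 0) 2
  have e12 := congrFun (congrFun hm 1) 2
  simp [Matrix.mul_apply, Fin.sum_univ_succ, Matrix.scalar_apply, Matrix.diagonal_apply] at e22 e02 e12
  have hr1 : r = 1 := e22.symm
  subst hr1
  have hz1 : z = 1 := by
    apply Subtype.ext
    rw [← hr]
    simp
  have hc : c = 0 := by simpa using e02.symm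
  have hb : b = 0 := by simpa using e12.symm
  rw [h, hz1, hb, hc, hS_zero, mul_one]

end Cfsg.Agent.Lib.Helper9.L34UC1
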