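import Mathlib
import Cfsg.Agent.Lib.Helper8.L34Defs

/-!
# Farm L34, unit UC2: the Levi complement `L2 = 1 ⊕ SL₂` acts on `A2`.
-/

set_option autoImplicit false

namespace Cfsg.Agent.Lib.Helper9.L34UC2

open Matrix
open Cfsg.Agent.Lib.Helper8.L34

variable {F : Type*} [Field F]

/-- the basic commutation relation -/
theorem hS_mul_emb2 (A : SpecialLinearGroup (Fin 2) F) (a c : F) :
    hS a 0 c * emb2 A = emb2 A * hS (a * A 0 0 + c * A 1 0) 0 (a * A 0 1 + c * A 1 1) := by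
  apply Subtype.ext
  show (hS a 0 c).1 * (emb2 A : SpecialLinearGroup (Fin 3) F).1 =
    (emb2 A : SpecialLinearGroup (Fin 3) F).1 * (hS (a * A 0 0 + c * A 1 0) 0 (a * A 0 1 + c * A 1 1)).1
  have h1 : (emb2 A : SpecialLinearGroup (Fin 3) F).1 = !![1, 0, 0; 0, A 0 0, A 0 1; 0, A 1 0, A 1 1] := rfl
  have h2 : ∀ a b c : F, (hS a b c).1 = !![1, a, c; 0, 1, b; 0, 0, 1] := fun _ _ _ => rfl
  rw [h1, h2, h2]
  ext i j
  fin_cases i <;> fin_cases j <;> simp [Matrix.mul_apply, Fin.sum_univ_succ]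

theorem conj_mem_A2 (A : SpecialLinearGroup (Fin 2) F) (a c : F) :
    (emb2 A)⁻¹ * hS a 0 c * emb2 A = hS (a * A 0 0 + c * A 1 0) 0 (a * A 0 1 + c * A 1 1) := by
  rw [mul_assoc, hS_mul_emb2, inv_mul_cancel_left]

theorem L2_le_normalizer : L2 F ≤ Subgroup.normalizer (A2 F : Set (SpecialLinearGroup (Fin 3) F)) := by
  rintro l ⟨A, rfl⟩
  rw [Subgroup.mem_normalizer_iff]
  intro n
  constructor
  · rintro ⟨a, c, rfl⟩
    have h2 : emb2 A * hS a 0 c * (emb2 A)⁻¹ = (emb2 A⁻¹)⁻¹ * hS a 0 c * emb2 A⁻¹ := by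
      rw [map_inv, inv_inv]
    rw [h2, conj_mem_A2]
    exact ⟨_, _, rfl⟩
  · intro h
    obtain ⟨a, c, hac⟩ := h
    have h2 : n = (emb2 A)⁻¹ * hS a 0 c * emb2 A := by
      rw [← hac]
      group
    rw [h2, conj_mem_A2]
    exact ⟨_, _, rfl⟩

/-- an element of `SL₂` with prescribed first row -/
theorem exists_row (p q : F) (h : p ≠ 0 ∨ q ≠ 0) :
    ∃ M : SpecialLinearGroup (Fin 2) F, M 0 0 = p ∧ M 0 1 = q := by
  by_cases hp : p = 0
  · have hq : q ≠ 0 := by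
      rcases h with h | h
      · exact absurd hp h
      · exact h
    refine ⟨⟨!![0, q; -q⁻¹, 0], ?_⟩, ?_, ?_⟩
    · simp [Matrix.det_fin_two, hq]
    · simp [hp]
    · simp
  · refine ⟨⟨!![p, q; 0, p⁻¹], ?_⟩, ?_, ?_⟩
    · simp [Matrix.det_fin_two, hp]
    · simp
    · simp

theorem exists_conj_std (a c : F) (h : hS a (0 : F) c ≠ 1) :
    ∃ l ∈ L2 F, l * hS 1 0 0 * l⁻¹ = hS a 0 c := by
  have h' : a ≠ 0 ∨ c ≠ 0 := by
    by_contra hcon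
    rw [not_or, not_not, not_not] at hcon
    apply h
    rw [hcon.1, hcon.2, hS_zero]
  obtain ⟨M, h0, h1⟩ := exists_row a c h'
  refine ⟨(emb2 M)⁻¹, (L2 F).inv_mem ⟨M, rfl⟩, ?_⟩
  rw [inv_inv, conj_mem_A2, h0, h1]
  congr 1 <;> ring

theorem trans_A2 : ∀ x ∈ A2 F, ∀ y ∈ A2 F, x ≠ 1 → y ≠ 1 → ∃ l ∈ L2 F, l * x * l⁻¹ = y := by
  rintro _ ⟨a, c, rfl⟩ _ ⟨a', c', rfl⟩ hx hy
  obtain ⟨l1, hl1, e1⟩ := exists_conj_std a c hx
  obtain ⟨l2, hl2, e2⟩ := exists_conj_std a' c' hy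
  refine ⟨l2 * l1⁻¹, (L2 F).mul_mem hl2 ((L2 F).inv_mem hl1), ?_⟩
  rw [← e1, ← e2]
  group

theorem disj_A2 : ∀ l ∈ L2 F, ∀ a ∈ A2 F, ∀ z ∈ Subgroup.center (SpecialLinearGroup (Fin 3) F),
    l = a * z → l = 1 := by
  rintro _ ⟨A, rfl⟩ _ ⟨a, c, rfl⟩ z hz h
  rw [Matrix.SpecialLinearGroup.mem_center_iff] at hz
  obtain ⟨r, -, hr⟩ := hz
  have hm : (emb2 A : SpecialLinearGroup (Fin 3) F).1 = (hS a 0 c).1 * z.1 := by
    rw [h]; rfl
  rw [← hr] at hm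
  have h1 : (emb2 A : SpecialLinearGroup (Fin 3) F).1 = !![1, 0, 0; 0, A 0 0, A 0 1; 0, A 1 0, A 1 1] := rfl
  have h2 : (hS a (0 : F) c).1 = !![1, a, c; 0, 1, 0; 0, 0, 1] := rfl
  rw [h1, h2] at hm
  have e00 := congrFun (congrFun hm 0) 0
  have e01 := congrFun (congrFun hm 0) 1
  have e02 := congrFun (congrFun hm 0) 2
  simp [Matrix.mul_apply, Fin.sum_univ_succ, Matrix.scalar_apply, Matrix.diagonal_apply] at e00 e01 e02
  have hr1 : r = 1 := e00.symm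
  subst hr1
  have hz1 : z = 1 := by
    apply Subtype.ext
    rw [← hr]
    simp
  have ha : a = 0 := by simpa using e01.symm
  have hc : c = 0 := by simpa using e02.symm
  rw [h, hz1, ha, hc, hS_zero, mul_one]

end Cfsg.Agent.Lib.Helper9.L34UC2
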