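import Mathlib
import Cfsg.Agent.Lib.Helper1.LS0
import Cfsg.Agent.Lib.Helper2.LS1
import Cfsg.Agent.Lib.Helper1.LS3
import Cfsg.Agent.Lib.Helper4.LS4

/-! S5286 piece P5 (first half, helper9): the realization property. -/

set_option autoImplicit false

namespace Cfsg.Agent.Lib.Helper1.LS

universe u

open Cfsg SemidirectProduct

variable {Ω : Type u} [Group Ω] {S : Subgroup Ω}

/-! ## P5 (file LS5): realization and the free normal subgroup -/

theorem realized (F : FusionSystem S) [Finite ↥S] : F.IsRealizedBy (iota F) := by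
  refine ⟨iota_injective F, ?_⟩
  intro P hP φ hφ
  constructor
  · intro h
    refine ⟨⟨tt F ⟨P, ⟨φ, h⟩⟩, tt_mem F _⟩, ?_⟩
    intro x
    apply Subtype.ext
    rw [Subgroup.coe_mul, Subgroup.coe_mul, Subgroup.coe_inv, coe_iota, coe_iota]
    exact (tt_conj F ⟨P, ⟨φ, h⟩⟩ x (hP x.2) (hφ x)).symm
  · rintro ⟨g, hg⟩
    refine hom_of_conj F (g : GS F) (nf_of_mem F _ g.2) P hP φ hφ ?_
    intro x
    have := congrArg Subtype.val (hg x)
    rw [Subgroup.coe_mul, Subgroup.coe_mul, Subgroup.coe_inv, coe_iota, coe_iota] at this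
    exact this

end Cfsg.Agent.Lib.Helper1.LS
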