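import Mathlib
import Cfsg.Agent.Lib.Helper1.LS0

/-! S5286 piece P5 (second half, helper9): the free normal subgroup of finite index. -/

set_option autoImplicit false

namespace Cfsg.Agent.Lib.Helper1.LS

universe u

open Cfsg SemidirectProduct

variable {Ω : Type u} [Group Ω] {S : Subgroup Ω}

/-- the projection of the realizing group onto `Perm S` -/
noncomputable def ls5_proj (F : FusionSystem S) : ↥(GG F) →* Equiv.Perm ↥S :=
  (rightHom : GS F →* Equiv.Perm ↥S).comp (GG F).subtype

/-- the left-part map on the kernel of the projection -/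
noncomputable def ls5_left (F : FusionSystem S) : ↥(ls5_proj F).ker →* FreeGroup (X F) where
  toFun n := ((n : ↥(GG F)) : GS F).left
  map_one' := rfl
  map_mul' a b := by
    have ha : ((a : ↥(GG F)) : GS F).right = 1 := a.2
    show (((a : ↥(GG F)) : GS F) * ((b : ↥(GG F)) : GS F)).left = _
    rw [mul_left, ha, map_one]
    rfl

theorem ls5_left_injective (F : FusionSystem S) : Function.Injective (ls5_left F) := by
  rw [injective_iff_map_eq_one]
  intro a ha
  have h1 : ((a : ↥(GG F)) : GS F).right = 1 := a.2
  have h2 : ((a : ↥(GG F)) : GS F).left = 1 := ha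
  apply Subtype.ext
  apply Subtype.ext
  exact SemidirectProduct.ext h2 h1

theorem free_normal (F : FusionSystem S) [Finite ↥S] :
    ∃ N : Subgroup ↥(GG F), N.Normal ∧ IsFreeGroup ↥N ∧ N.index ∣ (Nat.card ↥S).factorial := by
  refine ⟨(ls5_proj F).ker, inferInstance, ?_, ?_⟩
  · have e : ↥(ls5_proj F).ker ≃* ↥(ls5_left F).range := MonoidHom.ofInjective (ls5_left_injective F)
    have : IsFreeGroup ↥(ls5_left F).range := subgroupIsFreeOfIsFree _
    exact IsFreeGroup.ofMulEquiv e.symm
  · rw [Subgroup.index_ker]
    have h1 : Nat.card ↥(ls5_proj F).range ∣ Nat.card (Equiv.Perm ↥S) := Subgroup.card_subgroup_dvd_card _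
    rwa [Nat.card_perm] at h1

end Cfsg.Agent.Lib.Helper1.LS
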