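import Cfsg.Agent.Lib.Helper9.LargeExtra1
import Cfsg.Agent.Lib.Helper9.SylowConj2
import Cfsg.Agent.Lib.Helper2.SylowNormal

set_option autoImplicit false

namespace Cfsg.Agent.Lib.Helper9

open Cfsg

variable {G : Type*} [Group G]

/-- the centre of an extraspecial `2`-subgroup consists of `1` and one involution -/
theorem exists_center_gen {Q : Subgroup G} (h : Nat.card (Subgroup.center ↥Q) = 2) :
    ∃ z : G, z ∈ (Subgroup.center ↥Q).map Q.subtype ∧ z ≠ 1 ∧
      ∀ y ∈ (Subgroup.center ↥Q).map Q.subtype, y = 1 ∨ y = z := by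
  obtain ⟨z₀, hz₀, huniq⟩ := (Nat.card_eq_two_iff' (1 : Subgroup.center ↥Q)).mp h
  refine ⟨((z₀ : Q) : G), ⟨(z₀ : Q), z₀.2, rfl⟩, ?_, ?_⟩
  · intro h1
    apply hz₀
    apply Subtype.ext
    apply Subtype.ext
    exact h1
  · rintro _ ⟨y, hy, rfl⟩
    by_cases hy1 : (⟨y, hy⟩ : Subgroup.center ↥Q) = 1
    · left
      have := congrArg (fun t : Subgroup.center ↥Q => ((t : Q) : G)) hy1
      simpa using this
    · right
      have := huniq ⟨y, hy⟩ hy1
      have := congrArg (fun t : Subgroup.center ↥Q => ((t : Q) : G)) this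
      simpa using this

/-- S5433 -/
theorem sup_normalizer_eq_top_of_isLargeExtraspecial [Finite G] (Q : Subgroup G)
    (hQ : IsLargeExtraspecial Q) (L : Subgroup G) [L.Normal] (hQL : Q ≤ L) :
    L ⊔ Subgroup.normalizer (Q : Set G) = ⊤ := by
  obtain ⟨hL1, hL2, hL3, -⟩ := hQ
  have hQ2 : IsPGroup 2 Q := hL1.1.1
  have : Fact (Nat.Prime 2) := ⟨Nat.prime_two⟩
  obtain ⟨T, hQT⟩ := hQ2.exists_le_sylow
  obtain ⟨TL, hTL⟩ := Cfsg.Agent.Lib.Helper2.exists_sylow_eq_inf_normal T L
  obtain ⟨z, hzZ, hz1, hzall⟩ := exists_center_gen hL1.2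
  have hZQ : (Subgroup.center ↥Q).map Q.subtype ≤ Q := Subgroup.map_subtype_le _
  have hzQ : z ∈ Q := hZQ hzZ
  -- `z` is central in `T`
  have hzT : ∀ t ∈ (T : Subgroup G), t * z = z * t := by
    have hnt : Nontrivial (T : Subgroup G) := ⟨⟨⟨z, hQT hzQ⟩, 1, fun h => hz1 (congrArg Subtype.val h)⟩⟩
    have hcn : Nontrivial (Subgroup.center (T : Subgroup G)) := T.isPGroup'.center_nontrivial
    obtain ⟨c, hc⟩ := exists_ne (1 : Subgroup.center (T : Subgroup G))
    have hcQ : ((c : (T : Subgroup G)) : G) ∈ Subgroup.centralizer (Q : Set G) := by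
      rw [Subgroup.mem_centralizer_iff]
      intro q hq
      have := Subgroup.mem_center_iff.mp c.2 ⟨q, hQT hq⟩
      exact congrArg Subtype.val this
    rw [hL2] at hcQ
    have hcz : ((c : (T : Subgroup G)) : G) = z := by
      rcases hzall _ hcQ with h | h
      · exfalso
        apply hc
        apply Subtype.ext
        apply Subtype.ext
        exact h
      · exact h
    intro t ht
    have := Subgroup.mem_center_iff.mp c.2 ⟨t, ht⟩
    have h2 := congrArg Subtype.val this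
    rw [← hcz]
    exact h2
  rw [eq_top_iff]
  intro g _
  -- conjugate `Q^g` into `T` by an element of `L`
  have hQgL : Q.map (MulAut.conj g).toMonoidHom ≤ L := by
    rintro _ ⟨q, hq, rfl⟩
    exact ‹L.Normal›.conj_mem q (hQL hq) g
  have hQgp : IsPGroup 2 (Q.map (MulAut.conj g).toMonoidHom) := hQ2.map _
  obtain ⟨l, hlL, hle⟩ := exists_cj_le_of_sylowIn TL hTL hQgL hQgp
  have hle' : ∀ q ∈ Q, (l * g) * q * (l * g)⁻¹ ∈ (T : Subgroup G) := by
    intro q hq
    have h1 : l * (g * q * g⁻¹) * l⁻¹ ∈ (T : Subgroup G) ⊓ L := hle ⟨g * q * g⁻¹, ⟨q, hq, rfl⟩, rfl⟩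
    have h2 : (l * g) * q * (l * g)⁻¹ = l * (g * q * g⁻¹) * l⁻¹ := by group
    rw [h2]
    exact h1.1
  -- `(lg)⁻¹ z (lg)` centralizes `Q`
  have hcen : (l * g)⁻¹ * z * (l * g) ∈ Subgroup.centralizer (Q : Set G) := by
    rw [Subgroup.mem_centralizer_iff]
    intro q hq
    have h1 := hzT _ (hle' q hq)
    calc q * ((l * g)⁻¹ * z * (l * g))
        = (l * g)⁻¹ * (((l * g) * q * (l * g)⁻¹) * z) * (l * g) := by group
      _ = (l * g)⁻¹ * (z * ((l * g) * q * (l * g)⁻¹)) * (l * g) := by rw [h1]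
      _ = (l * g)⁻¹ * z * (l * g) * q := by group
  rw [hL2] at hcen
  have hfix : (l * g)⁻¹ * z * (l * g) = z := by
    rcases hzall _ hcen with h | h
    · exfalso
      apply hz1
      calc z = (l * g) * ((l * g)⁻¹ * z * (l * g)) * (l * g)⁻¹ := by group
        _ = 1 := by rw [h]; group
    · exact h
  have hlgN : l * g ∈ Subgroup.normalizer (Q : Set G) := by
    apply hL3
    rw [Subgroup.mem_centralizer_iff]
    intro y hy
    rcases hzall y hy with h | h
    · rw [h]
      simp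
    · rw [h]
      calc z * (l * g) = (l * g) * ((l * g)⁻¹ * z * (l * g)) := by group
        _ = l * g * z := by rw [hfix]
  have : g = l⁻¹ * (l * g) := by group
  rw [this]
  exact Subgroup.mul_mem _ (Subgroup.mem_sup_left (L.inv_mem hlL)) (Subgroup.mem_sup_right hlgN)

end Cfsg.Agent.Lib.Helper9
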