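import Mathlib
import Cfsg.Agent.Lib.Helper2.Emb4L

/-! # Generic machinery for classifying embeddings of a small lattice into `ℤ^ι`
(for helper2's S3702, piece (B) `lattice_classify`). -/

set_option autoImplicit false

namespace Cfsg.Agent.Lib.Helper9.Lc9

open Cfsg.Agent.Lib.Helper2.Emb4

/-- append two `Fin`-indexed families, with no casts -/
def app {α : Type*} {n m : ℕ} (f : Fin n → α) (g : Fin m → α) (c : Fin (n + m)) : α :=
  if h : (c : ℕ) < n then f ⟨c, h⟩ else g ⟨(c : ℕ) - n, by omega⟩

theorem app_castAdd {α : Type*} {n m : ℕ} (f : Fin n → α) (g : Fin m → α) (c : Fin n) :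
    app f g (Fin.castAdd m c) = f c := by
  unfold app
  simp

theorem app_natAdd {α : Type*} {n m : ℕ} (f : Fin n → α) (g : Fin m → α) (j : Fin m) :
    app f g (Fin.natAdd n j) = g j := by
  unfold app
  simp

theorem le_sq (x : ℤ) : x ≤ x * x ∧ -x ≤ x * x := by
  constructor <;> nlinarith [sq_nonneg x, sq_nonneg (x - 1), sq_nonneg (x + 1)]

section

variable {ι : Type*} [Fintype ι] [DecidableEq ι] (t0 : ι) (v : Fin 9 → ι → ℤ)

/-- the rows `i` with `P i` of `v` are given by the matrix `S` on the `n` distinct signed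
coordinates `X`, `s` and vanish elsewhere -/
def St (P : Fin 9 → Prop) (n : ℕ) (z : Fin n) (S : Fin 9 → Fin n → ℤ) : Prop :=
  ∃ (X : Fin n → ι) (s : Fin n → ℤ), Function.Injective X ∧ (∀ c, s c = 1 ∨ s c = -1) ∧
    X z = t0 ∧ s z = 1 ∧ ∀ i, P i → ∀ χ, v i χ = ∑ c, if χ = X c then S i c * s c else 0

theorem St_init : St t0 v (fun _ => False) 1 0 (fun _ _ => 0) :=
  ⟨fun _ => t0, fun _ => 1, fun a b _ => Subsingleton.elim a b, fun _ => Or.inl rfl, rfl, rfl,
    fun _ h => h.elim⟩

variable {t0 v}

theorem St.perm {P P' : Fin 9 → Prop} {n : ℕ} {z z' : Fin n} {S S' : Fin 9 → Fin n → ℤ}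
    (h : St t0 v P n z S)
    (σ : Fin n → Fin n) (hσ : Function.Bijective σ) (ε : Fin n → ℤ)
    (hε : ∀ c, ε c = 1 ∨ ε c = -1) (hz : σ z' = z) (hεz : ε z' = 1)
    (hP : ∀ i, P' i → P i) (hS : ∀ i, P' i → ∀ c, S' i c = S i (σ c) * ε c) :
    St t0 v P' n z' S' := by
  obtain ⟨X, s, hinj, hs, hXz, hsz, hv⟩ := h
  refine ⟨X ∘ σ, fun c => s (σ c) * ε c, hinj.comp hσ.1, ?_, ?_, ?_, ?_⟩
  · intro c
    rcases hs (σ c) with h1 | h1 <;> rcases hε c with h2 | h2 <;> simp [h1, h2]
  · simp [hz, hXz]
  · simp [hz, hsz, hεz]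
  · intro i hi χ
    rw [hv i (hP i hi) χ, ← hσ.sum_comp]
    refine Finset.sum_congr rfl fun c _ => ?_
    have he : ε c * ε c = 1 := by rcases hε c with h2 | h2 <;> simp [h2]
    simp only [Function.comp]
    rw [hS i hi c]
    congr 1
    calc S i (σ c) * s (σ c) = S i (σ c) * s (σ c) * (ε c * ε c) := by rw [he, mul_one]
      _ = S i (σ c) * ε c * (s (σ c) * ε c) := by ring

section main

variable (d : ι → ℤ) (hd : ∀ χ, 0 < d χ)
  (hgram : ∀ i j : Fin 9, ∑ χ, v i χ * v j χ = gramL i j)
  (htriv : ∀ i : Fin 9, v i t0 = trivL i)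
  (hdeg : ∀ i : Fin 9, ∑ χ, v i χ * d χ = 0)

include hd hgram hdeg in
theorem entry (i : Fin 9) (χ : ι) : v i χ = 0 ∨ v i χ = 1 ∨ v i χ = -1 := by
  have h4 : ∀ j : Fin 9, gramL j j ≤ 4 := by decide
  have hsum := hgram i i
  have h4 := h4 i
  have hle : v i χ * v i χ ≤ ∑ χ', v i χ' * v i χ' :=
    Finset.single_le_sum (f := fun χ' => v i χ' * v i χ') (fun χ' _ => mul_self_nonneg _)
      (Finset.mem_univ χ)
  have hb : -2 ≤ v i χ ∧ v i χ ≤ 2 := by constructor <;> nlinarith
  by_cases h2 : v i χ * v i χ = 4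
  · exfalso
    have hsplit := Finset.add_sum_erase Finset.univ (fun χ' => v i χ' * v i χ') (Finset.mem_univ χ)
    have hrest : ∑ χ' ∈ Finset.univ.erase χ, v i χ' * v i χ' = 0 := by
      have hnn : 0 ≤ ∑ χ' ∈ Finset.univ.erase χ, v i χ' * v i χ' :=
        Finset.sum_nonneg fun χ' _ => mul_self_nonneg _
      omega
    have hz : ∀ χ', χ' ≠ χ → v i χ' = 0 := by
      intro χ' hne
      have := (Finset.sum_eq_zero_iff_of_nonneg (fun χ' _ => mul_self_nonneg (v i χ'))).1 hrest χ'
        (Finset.mem_erase.2 ⟨hne, Finset.mem_univ _⟩)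
      exact mul_self_eq_zero.1 this
    have hdg := hdeg i
    rw [Finset.sum_eq_single χ (fun χ' _ hne => by rw [hz χ' hne, zero_mul])
      (fun h => (h (Finset.mem_univ χ)).elim)] at hdg
    have hdp := hd χ
    rcases mul_eq_zero.1 hdg with h0 | h0
    · rw [h0] at h2; norm_num at h2
    · omega
  · have : v i χ * v i χ ≤ 4 := by nlinarith
    have h1 : v i χ ≠ 2 := fun h => h2 (by rw [h]; norm_num)
    have h3 : v i χ ≠ -2 := fun h => h2 (by rw [h]; norm_num)
    omega

theorem sum_ite_X {n : ℕ} {X : Fin n → ι} (f : Fin n → ℤ) (g : ι → ℤ) :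
    ∑ χ, (∑ c, if χ = X c then f c else 0) * g χ = ∑ c, f c * g (X c) := by
  simp_rw [Finset.sum_mul]
  rw [Finset.sum_comm]
  refine Finset.sum_congr rfl fun c _ => ?_
  rw [Finset.sum_eq_single (X c)]
  · simp
  · intro χ _ hne
    simp [hne]
  · intro h
    exact (h (Finset.mem_univ _)).elim

include hd hdeg in
theorem St.deg {P : Fin 9 → Prop} {n : ℕ} {z : Fin n} {S : Fin 9 → Fin n → ℤ}
    (h : St t0 v P n z S) :
    ∃ D : Fin n → ℤ, (∀ c, D c ≠ 0) ∧ 0 < D z ∧ ∀ i, P i → ∑ c, S i c * D c = 0 := by
  obtain ⟨X, s, hinj, hs, hXz, hsz, hv⟩ := h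
  refine ⟨fun c => s c * d (X c), ?_, ?_, ?_⟩
  · intro c
    have := hd (X c)
    show s c * d (X c) ≠ 0
    rcases hs c with h1 | h1 <;> rw [h1] <;> omega
  · show 0 < s z * d (X z)
    rw [hsz, hXz, one_mul]
    exact hd t0
  · intro i hi
    have hdg := hdeg i
    have : ∑ χ, v i χ * d χ = ∑ χ, (∑ c, if χ = X c then S i c * s c else 0) * d χ :=
      Finset.sum_congr rfl fun χ _ => by rw [hv i hi χ]
    rw [this, sum_ite_X] at hdg
    rw [← hdg]
    exact Finset.sum_congr rfl fun c _ => by ring

include hd hgram htriv hdeg in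
theorem St.step {P : Fin 9 → Prop} {n : ℕ} {z : Fin n} {S : Fin 9 → Fin n → ℤ} (k : Fin 9)
    (h : St t0 v P n z S) :
    ∃ a : Fin n → ℤ, (∀ c, -1 ≤ a c ∧ a c ≤ 1) ∧ a z = trivL k ∧
      (∀ i, P i → ∑ c, S i c * a c = gramL i k) ∧
      (∑ c, a c * a c ≤ gramL k k) ∧
      ∀ m : ℕ, gramL k k = (∑ c, a c * a c) + m →
        St t0 v (fun i => i = k ∨ P i) (n + m) (Fin.castAdd m z)
          (fun i => if i = k then app a (fun _ => 1) else app (S i) (fun _ => 0)) := by
  obtain ⟨X, s, hinj, hs, hXz, hsz, hv⟩ := h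
  have hs2 : ∀ c, s c * s c = 1 := fun c => by rcases hs c with h1 | h1 <;> simp [h1]
  have hent := entry d hd hgram hdeg k
  -- the complement part
  set I : Finset ι := Finset.univ.image X with hI
  set T : Finset ι := Iᶜ.filter (fun χ => v k χ ≠ 0) with hT
  have hnorm : gramL k k = (∑ c, (v k (X c) * s c) * (v k (X c) * s c)) + (T.card : ℤ) := by
    rw [← hgram k k, ← Finset.sum_add_sum_compl I (fun χ => v k χ * v k χ)]
    congr 1
    · rw [hI, Finset.sum_image (fun a _ b _ hab => hinj hab)]
      refine Finset.sum_congr rfl fun c _ => ?_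
      calc v k (X c) * v k (X c) = v k (X c) * v k (X c) * (s c * s c) := by rw [hs2, mul_one]
        _ = _ := by ring
    · rw [hT, Finset.card_filter]
      push_cast
      refine Finset.sum_congr rfl fun χ _ => ?_
      rcases hent χ with h0 | h0 | h0 <;> simp [h0]
  refine ⟨fun c => v k (X c) * s c, ?_, ?_, ?_, ?_, ?_⟩
  · intro c
    rcases hent (X c) with h0 | h0 | h0 <;> rcases hs c with h1 | h1 <;> simp [h0, h1]
  · simp only [hXz, hsz, mul_one]
    exact htriv k
  · intro i hi
    rw [← hgram i k]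
    have : ∑ χ, v i χ * v k χ = ∑ χ, (∑ c, if χ = X c then S i c * s c else 0) * v k χ :=
      Finset.sum_congr rfl fun χ _ => by rw [hv i hi χ]
    rw [this, sum_ite_X]
    exact Finset.sum_congr rfl fun c _ => by ring
  · have : (0 : ℤ) ≤ (T.card : ℤ) := Int.natCast_nonneg _
    show ∑ c, (v k (X c) * s c) * (v k (X c) * s c) ≤ gramL k k
    omega
  · intro m hm
    have hm' : gramL k k = (∑ c, (v k (X c) * s c) * (v k (X c) * s c)) + (m : ℤ) := hm
    have hcard : T.card = m := by omega
    let e := T.equivFinOfCardEq hcard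
    let Y : Fin m → ι := fun j => (e.symm j : ι)
    have hYT : ∀ j, Y j ∈ T := fun j => (e.symm j).2
    have hYinj : Function.Injective Y := fun j j' hjj => by
      have : e.symm j = e.symm j' := Subtype.ext hjj
      exact e.symm.injective this
    have hYnotI : ∀ j c, Y j ≠ X c := by
      intro j c hYc
      have h1 := hYT j
      rw [hT, Finset.mem_filter, Finset.mem_compl, hI] at h1
      exact h1.1 (Finset.mem_image.2 ⟨c, Finset.mem_univ _, hYc.symm⟩)
    have hYne : ∀ j, v k (Y j) ≠ 0 := by
      intro j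
      have h1 := hYT j
      rw [hT, Finset.mem_filter] at h1
      exact h1.2
    have hYsurj : ∀ χ, (∀ c, χ ≠ X c) → v k χ ≠ 0 → ∃ j, Y j = χ := by
      intro χ hχ hne
      have hχT : χ ∈ T := by
        rw [hT, Finset.mem_filter, Finset.mem_compl, hI]
        refine ⟨fun hmem => ?_, hne⟩
        obtain ⟨c, _, hc⟩ := Finset.mem_image.1 hmem
        exact hχ c hc.symm
      refine ⟨e ⟨χ, hχT⟩, ?_⟩
      simp [Y]
    refine ⟨app X Y, app s (fun j => v k (Y j)), ?_, ?_, ?_, ?_, ?_⟩
    · intro c c' hcc
      induction c using Fin.addCases with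
      | left c =>
        induction c' using Fin.addCases with
        | left c' =>
          rw [app_castAdd, app_castAdd] at hcc
          rw [hinj hcc]
        | right j' =>
          rw [app_castAdd, app_natAdd] at hcc
          exact (hYnotI j' c hcc.symm).elim
      | right j =>
        induction c' using Fin.addCases with
        | left c' =>
          rw [app_castAdd, app_natAdd] at hcc
          exact (hYnotI j c' hcc).elim
        | right j' =>
          rw [app_natAdd, app_natAdd] at hcc
          rw [hYinj hcc]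
    · intro c
      induction c using Fin.addCases with
      | left c => rw [app_castAdd]; exact hs c
      | right j =>
        rw [app_natAdd]
        rcases hent (Y j) with h0 | h0 | h0
        · exact (hYne j h0).elim
        · exact Or.inl h0
        · exact Or.inr h0
    · rw [app_castAdd]; exact hXz
    · rw [app_castAdd]; exact hsz
    · intro i hi χ
      rw [Fin.sum_univ_add]
      simp only [app_castAdd, app_natAdd]
      by_cases hik : i = k
      · subst hik
        simp only [if_true]
        simp only [app_castAdd, app_natAdd, one_mul]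
        by_cases hχ : ∃ c, χ = X c
        · obtain ⟨c0, rfl⟩ := hχ
          have h2 : ∑ j, (if X c0 = Y j then v i (Y j) else 0) = 0 :=
            Finset.sum_eq_zero fun j _ => by rw [if_neg (fun h => hYnotI j c0 h.symm)]
          rw [h2, add_zero, Finset.sum_eq_single c0]
          · rw [if_pos rfl, mul_assoc, hs2, mul_one]
          · intro c _ hne
            rw [if_neg (fun h => hne (hinj h).symm)]
          · intro h; exact (h (Finset.mem_univ _)).elim
        · push Not at hχ
          have h1 : ∑ c, (if χ = X c then v i (X c) * s c * s c else 0) = 0 :=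
            Finset.sum_eq_zero fun c _ => by rw [if_neg (hχ c)]
          rw [h1, zero_add]
          by_cases hne : v i χ = 0
          · rw [hne]
            symm
            refine Finset.sum_eq_zero fun j _ => ?_
            by_cases hj : χ = Y j
            · rw [if_pos hj, ← hj, hne]
            · rw [if_neg hj]
          · obtain ⟨j0, rfl⟩ := hYsurj χ hχ hne
            rw [Finset.sum_eq_single j0]
            · rw [if_pos rfl]
            · intro j _ hne'
              rw [if_neg (fun h => hne' (hYinj h).symm)]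
            · intro h; exact (h (Finset.mem_univ _)).elim
      · have hPi : P i := hi.resolve_left hik
        simp only [if_neg hik, app_castAdd, app_natAdd, zero_mul, ite_self,
          Finset.sum_const_zero, add_zero]
        exact hv i hPi χ

end main

end

end Cfsg.Agent.Lib.Helper9.Lc9
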