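import Cfsg.Agent.Lib.Helper9.Lc9A

/-! # S3702 (B): the states of the search tree (generated by a script) -/

set_option autoImplicit false
set_option linter.unusedSimpArgs false
set_option linter.unusedVariables false
set_option linter.unusedSectionVars false
set_option linter.unusedTactic false
set_option linter.unreachableTactic false
set_option linter.unnecessarySeqFocus false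
set_option maxRecDepth 4000
set_option maxHeartbeats 40000000

namespace Cfsg.Agent.Lib.Helper9.Lc9

open Cfsg.Agent.Lib.Helper2.Emb4

/-- processed rows at stage `t` -/
def Pt (t : ℕ) (i : Fin 9) : Prop := i ∈ ([0, 1, 2, 3, 8, 4, 5, 6, 7] : List (Fin 9)).take t

instance (t : ℕ) : DecidablePred (Pt t) := fun i => by unfold Pt; infer_instance

def S1_0 : Fin 9 → Fin 3 → ℤ := ![![0,1,1],![0,0,0],![0,0,0],![0,0,0],![0,0,0],![0,0,0],![0,0,0],![0,0,0],![0,0,0]]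
def S2_0 : Fin 9 → Fin 5 → ℤ := ![![0,1,1,0,0],![0,-1,0,1,1],![0,0,0,0,0],![0,0,0,0,0],![0,0,0,0,0],![0,0,0,0,0],![0,0,0,0,0],![0,0,0,0,0],![0,0,0,0,0]]
def S3_0 : Fin 9 → Fin 7 → ℤ := ![![0,1,1,0,0,0,0],![0,-1,0,1,1,0,0],![0,1,0,0,0,1,1],![0,0,0,0,0,0,0],![0,0,0,0,0,0,0],![0,0,0,0,0,0,0],![0,0,0,0,0,0,0],![0,0,0,0,0,0,0],![0,0,0,0,0,0,0]]
def S3_1 : Fin 9 → Fin 6 → ℤ := ![![0,1,1,0,0,0],![0,-1,0,1,1,0],![0,0,1,-1,0,1],![0,0,0,0,0,0],![0,0,0,0,0,0],![0,0,0,0,0,0],![0,0,0,0,0,0],![0,0,0,0,0,0],![0,0,0,0,0,0]]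
def S4_0 : Fin 9 → Fin 8 → ℤ := ![![0,1,1,0,0,0,0,0],![0,-1,0,1,1,0,0,0],![0,1,0,0,0,1,1,0],![0,0,0,0,0,-1,0,1],![0,0,0,0,0,0,0,0],![0,0,0,0,0,0,0,0],![0,0,0,0,0,0,0,0],![0,0,0,0,0,0,0,0],![0,0,0,0,0,0,0,0]]
def S4_1 : Fin 9 → Fin 7 → ℤ := ![![0,1,1,0,0,0,0],![0,-1,0,1,1,0,0],![0,0,1,-1,0,1,0],![0,0,0,0,0,-1,1],![0,0,0,0,0,0,0],![0,0,0,0,0,0,0],![0,0,0,0,0,0,0],![0,0,0,0,0,0,0],![0,0,0,0,0,0,0]]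
def S4_2 : Fin 9 → Fin 6 → ℤ := ![![0,1,1,0,0,0],![0,-1,0,1,1,0],![0,0,1,-1,0,1],![0,0,0,1,-1,0],![0,0,0,0,0,0],![0,0,0,0,0,0],![0,0,0,0,0,0],![0,0,0,0,0,0],![0,0,0,0,0,0]]
def S5_0 : Fin 9 → Fin 10 → ℤ := ![![0,1,1,0,0,0,0,0,0,0],![0,-1,0,1,1,0,0,0,0,0],![0,1,0,0,0,1,1,0,0,0],![0,0,0,0,0,-1,0,1,0,0],![0,0,0,0,0,0,0,0,0,0],![0,0,0,0,0,0,0,0,0,0],![0,0,0,0,0,0,0,0,0,0],![0,0,0,0,0,0,0,0,0,0],![-1,1,0,0,0,0,0,0,1,1]]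
def S5_1 : Fin 9 → Fin 8 → ℤ := ![![0,1,1,0,0,0,0,0],![0,-1,0,1,1,0,0,0],![0,1,0,0,0,1,1,0],![0,0,0,0,0,-1,0,1],![0,0,0,0,0,0,0,0],![0,0,0,0,0,0,0,0],![0,0,0,0,0,0,0,0],![0,0,0,0,0,0,0,0],![-1,1,0,1,-1,0,0,0]]
def S5_2 : Fin 9 → Fin 8 → ℤ := ![![0,1,1,0,0,0,0,0],![0,-1,0,1,1,0,0,0],![0,1,0,0,0,1,1,0],![0,0,0,0,0,-1,0,1],![0,0,0,0,0,0,0,0],![0,0,0,0,0,0,0,0],![0,0,0,0,0,0,0,0],![0,0,0,0,0,0,0,0],![-1,0,1,-1,0,0,1,0]]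
def S5_3 : Fin 9 → Fin 8 → ℤ := ![![0,1,1,0,0,0,0,0],![0,-1,0,1,1,0,0,0],![0,0,1,-1,0,1,0,0],![0,0,0,0,0,-1,1,0],![0,0,0,0,0,0,0,0],![0,0,0,0,0,0,0,0],![0,0,0,0,0,0,0,0],![0,0,0,0,0,0,0,0],![-1,0,1,0,-1,0,0,1]]
def S5_4 : Fin 9 → Fin 7 → ℤ := ![![0,1,1,0,0,0,0],![0,-1,0,1,1,0,0],![0,0,1,-1,0,1,0],![0,0,0,0,0,-1,1],![0,0,0,0,0,0,0],![0,0,0,0,0,0,0],![0,0,0,0,0,0,0],![0,0,0,0,0,0,0],![-1,1,0,-1,1,0,0]]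
def S5_5 : Fin 9 → Fin 7 → ℤ := ![![0,1,1,0,0,0,0],![0,-1,0,1,1,0,0],![0,0,1,-1,0,1,0],![0,0,0,0,0,-1,1],![0,0,0,0,0,0,0],![0,0,0,0,0,0,0],![0,0,0,0,0,0,0],![0,0,0,0,0,0,0],![-1,1,0,0,0,1,1]]
def S5_6 : Fin 9 → Fin 7 → ℤ := ![![0,1,1,0,0,0,0],![0,-1,0,1,1,0,0],![0,0,1,-1,0,1,0],![0,0,0,1,-1,0,0],![0,0,0,0,0,0,0],![0,0,0,0,0,0,0],![0,0,0,0,0,0,0],![0,0,0,0,0,0,0],![-1,1,0,0,0,1,1]]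
def S6_0 : Fin 9 → Fin 11 → ℤ := ![![0,1,1,0,0,0,0,0,0,0,0],![0,-1,0,1,1,0,0,0,0,0,0],![0,1,0,0,0,1,1,0,0,0,0],![0,0,0,0,0,-1,0,1,0,0,0],![-1,0,0,1,0,0,1,0,0,0,1],![0,0,0,0,0,0,0,0,0,0,0],![0,0,0,0,0,0,0,0,0,0,0],![0,0,0,0,0,0,0,0,0,0,0],![-1,1,0,0,0,0,0,0,1,1,0]]
def S6_1 : Fin 9 → Fin 10 → ℤ := ![![0,1,1,0,0,0,0,0,0,0],![0,-1,0,1,1,0,0,0,0,0],![0,1,0,0,0,1,1,0,0,0],![0,0,0,0,0,-1,0,1,0,0],![-1,0,0,1,0,1,0,1,0,0],![0,0,0,0,0,0,0,0,0,0],![0,0,0,0,0,0,0,0,0,0],![0,0,0,0,0,0,0,0,0,0],![-1,1,0,0,0,0,0,0,1,1]]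
def S6_2 : Fin 9 → Fin 9 → ℤ := ![![0,1,1,0,0,0,0,0,0],![0,-1,0,1,1,0,0,0,0],![0,1,0,0,0,1,1,0,0],![0,0,0,0,0,-1,0,1,0],![-1,0,0,1,0,0,1,0,1],![0,0,0,0,0,0,0,0,0],![0,0,0,0,0,0,0,0,0],![0,0,0,0,0,0,0,0,0],![-1,0,1,-1,0,0,1,0,0]]
def S6_3 : Fin 9 → Fin 8 → ℤ := ![![0,1,1,0,0,0,0,0],![0,-1,0,1,1,0,0,0],![0,0,1,-1,0,1,0,0],![0,0,0,0,0,-1,1,0],![-1,-1,1,0,0,0,0,-1],![0,0,0,0,0,0,0,0],![0,0,0,0,0,0,0,0],![0,0,0,0,0,0,0,0],![-1,0,1,0,-1,0,0,1]]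
def S7_0 : Fin 9 → Fin 12 → ℤ := ![![0,1,1,0,0,0,0,0,0,0,0,0],![0,-1,0,1,1,0,0,0,0,0,0,0],![0,1,0,0,0,1,1,0,0,0,0,0],![0,0,0,0,0,-1,0,1,0,0,0,0],![-1,0,0,1,0,0,1,0,0,0,1,0],![0,0,0,0,1,0,1,0,1,0,0,1],![0,0,0,0,0,0,0,0,0,0,0,0],![0,0,0,0,0,0,0,0,0,0,0,0],![-1,1,0,0,0,0,0,0,1,1,0,0]]
def S7_1 : Fin 9 → Fin 11 → ℤ := ![![0,1,1,0,0,0,0,0,0,0,0],![0,-1,0,1,1,0,0,0,0,0,0],![0,1,0,0,0,1,1,0,0,0,0],![0,0,0,0,0,-1,0,1,0,0,0],![-1,0,0,1,0,0,1,0,0,0,1],![0,0,0,1,0,1,0,1,1,0,0],![0,0,0,0,0,0,0,0,0,0,0],![0,0,0,0,0,0,0,0,0,0,0],![-1,1,0,0,0,0,0,0,1,1,0]]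
def S7_2 : Fin 9 → Fin 11 → ℤ := ![![0,1,1,0,0,0,0,0,0,0,0],![0,-1,0,1,1,0,0,0,0,0,0],![0,1,0,0,0,1,1,0,0,0,0],![0,0,0,0,0,-1,0,1,0,0,0],![-1,0,0,1,0,0,1,0,0,0,1],![0,0,0,1,0,0,1,0,1,0,-1],![0,0,0,0,0,0,0,0,0,0,0],![0,0,0,0,0,0,0,0,0,0,0],![-1,1,0,0,0,0,0,0,1,1,0]]
def S7_3 : Fin 9 → Fin 11 → ℤ := ![![0,1,1,0,0,0,0,0,0,0,0],![0,-1,0,1,1,0,0,0,0,0,0],![0,1,0,0,0,1,1,0,0,0,0],![0,0,0,0,0,-1,0,1,0,0,0],![-1,0,0,1,0,1,0,1,0,0,0],![0,0,0,1,0,0,1,0,1,0,1],![0,0,0,0,0,0,0,0,0,0,0],![0,0,0,0,0,0,0,0,0,0,0],![-1,1,0,0,0,0,0,0,1,1,0]]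
def S7_4 : Fin 9 → Fin 11 → ℤ := ![![0,1,1,0,0,0,0,0,0,0,0],![0,-1,0,1,1,0,0,0,0,0,0],![0,1,0,0,0,1,1,0,0,0,0],![0,0,0,0,0,-1,0,1,0,0,0],![-1,0,0,1,0,0,1,0,1,0,0],![0,0,0,0,1,0,1,0,0,1,1],![0,0,0,0,0,0,0,0,0,0,0],![0,0,0,0,0,0,0,0,0,0,0],![-1,0,1,-1,0,0,1,0,0,0,0]]
def S8_0 : Fin 9 → Fin 13 → ℤ := ![![0,1,1,0,0,0,0,0,0,0,0,0,0],![0,-1,0,1,1,0,0,0,0,0,0,0,0],![0,1,0,0,0,1,1,0,0,0,0,0,0],![0,0,0,0,0,-1,0,1,0,0,0,0,0],![-1,0,0,1,0,0,1,0,0,0,1,0,0],![0,0,0,0,1,0,1,0,1,0,0,1,0],![-1,0,0,0,1,-1,0,0,0,0,0,0,1],![0,0,0,0,0,0,0,0,0,0,0,0,0],![-1,1,0,0,0,0,0,0,1,1,0,0,0]]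
def S8_1 : Fin 9 → Fin 12 → ℤ := ![![0,1,1,0,0,0,0,0,0,0,0,0],![0,-1,0,1,1,0,0,0,0,0,0,0],![0,1,0,0,0,1,1,0,0,0,0,0],![0,0,0,0,0,-1,0,1,0,0,0,0],![-1,0,0,1,0,1,0,1,0,0,0,0],![0,0,0,1,0,0,1,0,1,0,1,0],![-1,0,0,1,0,-1,0,0,0,0,0,1],![0,0,0,0,0,0,0,0,0,0,0,0],![-1,1,0,0,0,0,0,0,1,1,0,0]]
def S8_2 : Fin 9 → Fin 12 → ℤ := ![![0,1,1,0,0,0,0,0,0,0,0,0],![0,-1,0,1,1,0,0,0,0,0,0,0],![0,1,0,0,0,1,1,0,0,0,0,0],![0,0,0,0,0,-1,0,1,0,0,0,0],![-1,0,0,1,0,0,1,0,1,0,0,0],![0,0,0,0,1,0,1,0,0,1,1,0],![-1,0,0,0,1,-1,0,0,0,0,0,1],![0,0,0,0,0,0,0,0,0,0,0,0],![-1,0,1,-1,0,0,1,0,0,0,0,0]]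
def S9_0 : Fin 9 → Fin 14 → ℤ := ![![0,1,1,0,0,0,0,0,0,0,0,0,0,0],![0,-1,0,1,1,0,0,0,0,0,0,0,0,0],![0,1,0,0,0,1,1,0,0,0,0,0,0,0],![0,0,0,0,0,-1,0,1,0,0,0,0,0,0],![-1,0,0,1,0,0,1,0,0,0,1,0,0,0],![0,0,0,0,1,0,1,0,1,0,0,1,0,0],![-1,0,0,0,1,-1,0,0,0,0,0,0,1,0],![0,0,0,1,0,-1,0,0,1,0,0,0,0,1],![-1,1,0,0,0,0,0,0,1,1,0,0,0,0]]
def S9_1 : Fin 9 → Fin 13 → ℤ := ![![0,1,1,0,0,0,0,0,0,0,0,0,0],![0,-1,0,1,1,0,0,0,0,0,0,0,0],![0,1,0,0,0,1,1,0,0,0,0,0,0],![0,0,0,0,0,-1,0,1,0,0,0,0,0],![-1,0,0,1,0,0,1,0,0,0,1,0,0],![0,0,0,0,1,0,1,0,1,0,0,1,0],![-1,0,0,0,1,-1,0,0,0,0,0,0,1],![0,0,0,1,0,-1,0,0,0,1,0,1,0],![-1,1,0,0,0,0,0,0,1,1,0,0,0]]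


end Cfsg.Agent.Lib.Helper9.Lc9
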