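import Cfsg.Agent.Lib.Helper9.Lc9B

/-! # S3702 (B): extension steps of the search tree (generated by a script) -/

set_option autoImplicit false
set_option linter.unusedSimpArgs false
set_option linter.unusedVariables false
set_option linter.unusedSectionVars false
set_option linter.unusedTactic false
set_option linter.unreachableTactic false
set_option linter.unnecessarySeqFocus false
set_option maxRecDepth 4000
set_option maxHeartbeats 40000000

namespace Cfsg.Agent.Lib.Helper9.Lc9

open Cfsg.Agent.Lib.Helper2.Emb4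

section

variable {ι : Type*} [Fintype ι] [DecidableEq ι] {t0 : ι} {v : Fin 9 → ι → ℤ}
  (d : ι → ℤ) (hd : ∀ χ, 0 < d χ)
  (hgram : ∀ i j : Fin 9, ∑ χ, v i χ * v j χ = gramL i j)
  (htriv : ∀ i : Fin 9, v i t0 = trivL i)
  (hdeg : ∀ i : Fin 9, ∑ χ, v i χ * d χ = 0)

include hd hgram htriv hdeg

theorem ext_0_0 : St t0 v (Pt 1) 3 0 S1_0 := by
  have h := St_init t0 v
  obtain ⟨a, hb, hz, hip, hnorm, hnext⟩ := St.step d hd hgram htriv hdeg 0 h
  have h0 : a 0 = 0 := by simpa [trivL] using hz
  simp [Fin.sum_univ_succ, gramL] at hnorm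
  have q0 := le_sq (a 0)
  have ha : a = ![0] := by
    funext c; fin_cases c <;> simp <;> omega
  subst ha
  have h2 := hnext 2 (by decide +kernel)
  exact h2.perm ![0,1,2] (by decide +kernel) ![1,1,1] (by decide +kernel) (by decide +kernel) (by decide +kernel) (by decide +kernel) (by decide +kernel)

theorem ext_1_0 (h : St t0 v (Pt 1) 3 0 S1_0) : St t0 v (Pt 2) 5 0 S2_0 := by
  obtain ⟨a, hb, hz, hip, hnorm, hnext⟩ := St.step d hd hgram htriv hdeg 1 h
  have h0 : a 0 = 0 := by simpa [trivL] using hz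
  have e0 := hip 0 (by decide)
  simp [Fin.sum_univ_succ, S1_0, gramL] at e0
  simp [Fin.sum_univ_succ, gramL] at hnorm
  have q0 := le_sq (a 0)
  have b1 := hb 1
  have q1 := le_sq (a 1)
  have b2 := hb 2
  have q2 := le_sq (a 2)
  rcases (show a 2 = -1 ∨ a 2 = 0 ∨ a 2 = 1 by omega) with h2 | h2 | h2
  · have ha : a = ![0,0,-1] := by
      funext c; fin_cases c <;> simp <;> omega
    subst ha
    have h2 := hnext 2 (by decide +kernel)
    exact h2.perm ![0,2,1,3,4] (by decide +kernel) ![1,1,1,1,1] (by decide +kernel) (by decide +kernel) (by decide +kernel) (by decide +kernel) (by decide +kernel)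
  · have ha : a = ![0,-1,0] := by
      funext c; fin_cases c <;> simp <;> omega
    subst ha
    have h2 := hnext 2 (by decide +kernel)
    exact h2.perm ![0,1,2,3,4] (by decide +kernel) ![1,1,1,1,1] (by decide +kernel) (by decide +kernel) (by decide +kernel) (by decide +kernel) (by decide +kernel)
  · exfalso; omega

theorem ext_2_0 (h : St t0 v (Pt 2) 5 0 S2_0) : St t0 v (Pt 3) 7 0 S3_0 ∨ St t0 v (Pt 3) 6 0 S3_1 := by
  obtain ⟨a, hb, hz, hip, hnorm, hnext⟩ := St.step d hd hgram htriv hdeg 2 h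
  have h0 : a 0 = 0 := by simpa [trivL] using hz
  have e0 := hip 0 (by decide)
  simp [Fin.sum_univ_succ, S2_0, gramL] at e0
  have e1 := hip 1 (by decide)
  simp [Fin.sum_univ_succ, S2_0, gramL] at e1
  simp [Fin.sum_univ_succ, gramL] at hnorm
  have q0 := le_sq (a 0)
  have b1 := hb 1
  have q1 := le_sq (a 1)
  have b2 := hb 2
  have q2 := le_sq (a 2)
  have b3 := hb 3
  have q3 := le_sq (a 3)
  have b4 := hb 4
  have q4 := le_sq (a 4)
  rcases (show a 3 = -1 ∨ a 3 = 0 ∨ a 3 = 1 by omega) with h3 | h3 | h3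
  · rcases (show a 4 = -1 ∨ a 4 = 0 ∨ a 4 = 1 by omega) with h4 | h4 | h4
    · exfalso; omega
    · have ha : a = ![0,0,1,-1,0] := by
        funext c; fin_cases c <;> simp <;> omega
      subst ha
      have h2 := hnext 1 (by decide +kernel)
      exact (Or.inr (h2.perm ![0,1,2,3,4,5] (by decide +kernel) ![1,1,1,1,1,1] (by decide +kernel) (by decide +kernel) (by decide +kernel) (by decide +kernel) (by decide +kernel)))
    · have ha : a = ![0,1,0,-1,1] := by
        funext c; fin_cases c <;> simp <;> omega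
      subst ha
      have h2 := hnext 0 (by decide +kernel)
      have h3 := h2.perm (P' := Pt 3) (z' := 0) (S' := ![![0,1,1,0,0],![0,-1,0,1,1],![0,1,0,-1,1],![0,0,0,0,0],![0,0,0,0,0],![0,0,0,0,0],![0,0,0,0,0],![0,0,0,0,0],![0,0,0,0,0]]) ![0,1,2,3,4] (by decide +kernel) ![1,1,1,1,1] (by decide +kernel) (by decide +kernel) (by decide +kernel) (by decide +kernel) (by decide +kernel)
      obtain ⟨D, hD, _, hdg⟩ := St.deg d hd hdeg h3
      have g0 := hdg 0 (by decide)
      simp [Fin.sum_univ_succ] at g0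
      have g1 := hdg 1 (by decide)
      simp [Fin.sum_univ_succ] at g1
      have g2 := hdg 2 (by decide)
      simp [Fin.sum_univ_succ] at g2
      exact (hD 4 (by omega)).elim
  · rcases (show a 4 = -1 ∨ a 4 = 0 ∨ a 4 = 1 by omega) with h4 | h4 | h4
    · have ha : a = ![0,0,1,0,-1] := by
        funext c; fin_cases c <;> simp <;> omega
      subst ha
      have h2 := hnext 1 (by decide +kernel)
      exact (Or.inr (h2.perm ![0,1,2,4,3,5] (by decide +kernel) ![1,1,1,1,1,1] (by decide +kernel) (by decide +kernel) (by decide +kernel) (by decide +kernel) (by decide +kernel)))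
    · have ha : a = ![0,1,0,0,0] := by
        funext c; fin_cases c <;> simp <;> omega
      subst ha
      have h2 := hnext 2 (by decide +kernel)
      exact (Or.inl (h2.perm ![0,1,2,3,4,5,6] (by decide +kernel) ![1,1,1,1,1,1,1] (by decide +kernel) (by decide +kernel) (by decide +kernel) (by decide +kernel) (by decide +kernel)))
    · exfalso; omega
  · rcases (show a 4 = -1 ∨ a 4 = 0 ∨ a 4 = 1 by omega) with h4 | h4 | h4
    · have ha : a = ![0,1,0,1,-1] := by
        funext c; fin_cases c <;> simp <;> omega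
      subst ha
      have h2 := hnext 0 (by decide +kernel)
      have h3 := h2.perm (P' := Pt 3) (z' := 0) (S' := ![![0,1,1,0,0],![0,-1,0,1,1],![0,1,0,1,-1],![0,0,0,0,0],![0,0,0,0,0],![0,0,0,0,0],![0,0,0,0,0],![0,0,0,0,0],![0,0,0,0,0]]) ![0,1,2,3,4] (by decide +kernel) ![1,1,1,1,1] (by decide +kernel) (by decide +kernel) (by decide +kernel) (by decide +kernel) (by decide +kernel)
      obtain ⟨D, hD, _, hdg⟩ := St.deg d hd hdeg h3
      have g0 := hdg 0 (by decide)
      simp [Fin.sum_univ_succ] at g0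
      have g1 := hdg 1 (by decide)
      simp [Fin.sum_univ_succ] at g1
      have g2 := hdg 2 (by decide)
      simp [Fin.sum_univ_succ] at g2
      exact (hD 3 (by omega)).elim
    · exfalso; omega
    · exfalso; omega

theorem ext_3_0 (h : St t0 v (Pt 3) 7 0 S3_0) : St t0 v (Pt 4) 8 0 S4_0 := by
  obtain ⟨a, hb, hz, hip, hnorm, hnext⟩ := St.step d hd hgram htriv hdeg 3 h
  have h0 : a 0 = 0 := by simpa [trivL] using hz
  have e0 := hip 0 (by decide)
  simp [Fin.sum_univ_succ, S3_0, gramL] at e0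
  have e1 := hip 1 (by decide)
  simp [Fin.sum_univ_succ, S3_0, gramL] at e1
  have e2 := hip 2 (by decide)
  simp [Fin.sum_univ_succ, S3_0, gramL] at e2
  simp [Fin.sum_univ_succ, gramL] at hnorm
  have q0 := le_sq (a 0)
  have b1 := hb 1
  have q1 := le_sq (a 1)
  have b2 := hb 2
  have q2 := le_sq (a 2)
  have b3 := hb 3
  have q3 := le_sq (a 3)
  have b4 := hb 4
  have q4 := le_sq (a 4)
  have b5 := hb 5
  have q5 := le_sq (a 5)
  have b6 := hb 6
  have q6 := le_sq (a 6)
  rcases (show a 4 = -1 ∨ a 4 = 0 ∨ a 4 = 1 by omega) with h4 | h4 | h4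
  · rcases (show a 5 = -1 ∨ a 5 = 0 ∨ a 5 = 1 by omega) with h5 | h5 | h5
    · rcases (show a 6 = -1 ∨ a 6 = 0 ∨ a 6 = 1 by omega) with h6 | h6 | h6
      · exfalso; omega
      · exfalso; omega
      · exfalso; omega
    · rcases (show a 6 = -1 ∨ a 6 = 0 ∨ a 6 = 1 by omega) with h6 | h6 | h6
      · exfalso; omega
      · exfalso; omega
      · exfalso; omega
    · rcases (show a 6 = -1 ∨ a 6 = 0 ∨ a 6 = 1 by omega) with h6 | h6 | h6
      · exfalso; omega
      · exfalso; omega
      · exfalso; omega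
  · rcases (show a 5 = -1 ∨ a 5 = 0 ∨ a 5 = 1 by omega) with h5 | h5 | h5
    · rcases (show a 6 = -1 ∨ a 6 = 0 ∨ a 6 = 1 by omega) with h6 | h6 | h6
      · exfalso; omega
      · have ha : a = ![0,0,0,0,0,-1,0] := by
          funext c; fin_cases c <;> simp <;> omega
        subst ha
        have h2 := hnext 1 (by decide +kernel)
        exact h2.perm ![0,1,2,3,4,5,6,7] (by decide +kernel) ![1,1,1,1,1,1,1,1] (by decide +kernel) (by decide +kernel) (by decide +kernel) (by decide +kernel) (by decide +kernel)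
      · exfalso; omega
    · rcases (show a 6 = -1 ∨ a 6 = 0 ∨ a 6 = 1 by omega) with h6 | h6 | h6
      · have ha : a = ![0,0,0,0,0,0,-1] := by
          funext c; fin_cases c <;> simp <;> omega
        subst ha
        have h2 := hnext 1 (by decide +kernel)
        exact h2.perm ![0,1,2,3,4,6,5,7] (by decide +kernel) ![1,1,1,1,1,1,1,1] (by decide +kernel) (by decide +kernel) (by decide +kernel) (by decide +kernel) (by decide +kernel)
      · exfalso; omega
      · exfalso; omega
    · rcases (show a 6 = -1 ∨ a 6 = 0 ∨ a 6 = 1 by omega) with h6 | h6 | h6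
      · exfalso; omega
      · exfalso; omega
      · exfalso; omega
  · rcases (show a 5 = -1 ∨ a 5 = 0 ∨ a 5 = 1 by omega) with h5 | h5 | h5
    · rcases (show a 6 = -1 ∨ a 6 = 0 ∨ a 6 = 1 by omega) with h6 | h6 | h6
      · exfalso; omega
      · exfalso; omega
      · exfalso; omega
    · rcases (show a 6 = -1 ∨ a 6 = 0 ∨ a 6 = 1 by omega) with h6 | h6 | h6
      · exfalso; omega
      · exfalso; omega
      · exfalso; omega
    · rcases (show a 6 = -1 ∨ a 6 = 0 ∨ a 6 = 1 by omega) with h6 | h6 | h6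
      · exfalso; omega
      · exfalso; omega
      · exfalso; omega

theorem ext_3_1 (h : St t0 v (Pt 3) 6 0 S3_1) : St t0 v (Pt 4) 7 0 S4_1 ∨ St t0 v (Pt 4) 6 0 S4_2 := by
  obtain ⟨a, hb, hz, hip, hnorm, hnext⟩ := St.step d hd hgram htriv hdeg 3 h
  have h0 : a 0 = 0 := by simpa [trivL] using hz
  have e0 := hip 0 (by decide)
  simp [Fin.sum_univ_succ, S3_1, gramL] at e0
  have e1 := hip 1 (by decide)
  simp [Fin.sum_univ_succ, S3_1, gramL] at e1
  have e2 := hip 2 (by decide)
  simp [Fin.sum_univ_succ, S3_1, gramL] at e2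
  simp [Fin.sum_univ_succ, gramL] at hnorm
  have q0 := le_sq (a 0)
  have b1 := hb 1
  have q1 := le_sq (a 1)
  have b2 := hb 2
  have q2 := le_sq (a 2)
  have b3 := hb 3
  have q3 := le_sq (a 3)
  have b4 := hb 4
  have q4 := le_sq (a 4)
  have b5 := hb 5
  have q5 := le_sq (a 5)
  rcases (show a 4 = -1 ∨ a 4 = 0 ∨ a 4 = 1 by omega) with h4 | h4 | h4
  · rcases (show a 5 = -1 ∨ a 5 = 0 ∨ a 5 = 1 by omega) with h5 | h5 | h5
    · exfalso; omega
    · have ha : a = ![0,0,0,1,-1,0] := by
        funext c; fin_cases c <;> simp <;> omega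
      subst ha
      have h2 := hnext 0 (by decide +kernel)
      exact (Or.inr (h2.perm ![0,1,2,3,4,5] (by decide +kernel) ![1,1,1,1,1,1] (by decide +kernel) (by decide +kernel) (by decide +kernel) (by decide +kernel) (by decide +kernel)))
    · exfalso; omega
  · rcases (show a 5 = -1 ∨ a 5 = 0 ∨ a 5 = 1 by omega) with h5 | h5 | h5
    · have ha : a = ![0,0,0,0,0,-1] := by
        funext c; fin_cases c <;> simp <;> omega
      subst ha
      have h2 := hnext 1 (by decide +kernel)
      exact (Or.inl (h2.perm ![0,1,2,3,4,5,6] (by decide +kernel) ![1,1,1,1,1,1,1] (by decide +kernel) (by decide +kernel) (by decide +kernel) (by decide +kernel) (by decide +kernel)))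
    · exfalso; omega
    · exfalso; omega
  · rcases (show a 5 = -1 ∨ a 5 = 0 ∨ a 5 = 1 by omega) with h5 | h5 | h5
    · exfalso; omega
    · exfalso; omega
    · exfalso; omega

theorem ext_4_0 (h : St t0 v (Pt 4) 8 0 S4_0) : St t0 v (Pt 5) 10 0 S5_0 ∨ St t0 v (Pt 5) 8 0 S5_1 ∨ St t0 v (Pt 5) 8 0 S5_2 := by
  obtain ⟨a, hb, hz, hip, hnorm, hnext⟩ := St.step d hd hgram htriv hdeg 8 h
  have h0 : a 0 = -1 := by simpa [trivL] using hz
  have e0 := hip 0 (by decide)
  simp [Fin.sum_univ_succ, S4_0, gramL] at e0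
  have e1 := hip 1 (by decide)
  simp [Fin.sum_univ_succ, S4_0, gramL] at e1
  have e2 := hip 2 (by decide)
  simp [Fin.sum_univ_succ, S4_0, gramL] at e2
  have e3 := hip 3 (by decide)
  simp [Fin.sum_univ_succ, S4_0, gramL] at e3
  simp [Fin.sum_univ_succ, gramL] at hnorm
  have q0 := le_sq (a 0)
  have b1 := hb 1
  have q1 := le_sq (a 1)
  have b2 := hb 2
  have q2 := le_sq (a 2)
  have b3 := hb 3
  have q3 := le_sq (a 3)
  have b4 := hb 4
  have q4 := le_sq (a 4)
  have b5 := hb 5
  have q5 := le_sq (a 5)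
  have b6 := hb 6
  have q6 := le_sq (a 6)
  have b7 := hb 7
  have q7 := le_sq (a 7)
  rcases (show a 4 = -1 ∨ a 4 = 0 ∨ a 4 = 1 by omega) with h4 | h4 | h4
  · rcases (show a 6 = -1 ∨ a 6 = 0 ∨ a 6 = 1 by omega) with h6 | h6 | h6
    · rcases (show a 7 = -1 ∨ a 7 = 0 ∨ a 7 = 1 by omega) with h7 | h7 | h7
      · exfalso; omega
      · exfalso; omega
      · exfalso; omega
    · rcases (show a 7 = -1 ∨ a 7 = 0 ∨ a 7 = 1 by omega) with h7 | h7 | h7
      · exfalso; omega
      · have ha : a = ![-1,1,0,1,-1,0,0,0] := by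
          funext c; fin_cases c <;> simp <;> omega
        subst ha
        have h2 := hnext 0 (by decide +kernel)
        exact (Or.inr (Or.inl (h2.perm ![0,1,2,3,4,5,6,7] (by decide +kernel) ![1,1,1,1,1,1,1,1] (by decide +kernel) (by decide +kernel) (by decide +kernel) (by decide +kernel) (by decide +kernel))))
      · exfalso; omega
    · rcases (show a 7 = -1 ∨ a 7 = 0 ∨ a 7 = 1 by omega) with h7 | h7 | h7
      · exfalso; omega
      · have ha : a = ![-1,0,1,0,-1,0,1,0] := by
          funext c; fin_cases c <;> simp <;> omega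
        subst ha
        have h2 := hnext 0 (by decide +kernel)
        exact (Or.inr (Or.inr (h2.perm ![0,1,2,4,3,5,6,7] (by decide +kernel) ![1,1,1,1,1,1,1,1] (by decide +kernel) (by decide +kernel) (by decide +kernel) (by decide +kernel) (by decide +kernel))))
      · exfalso; omega
  · rcases (show a 6 = -1 ∨ a 6 = 0 ∨ a 6 = 1 by omega) with h6 | h6 | h6
    · rcases (show a 7 = -1 ∨ a 7 = 0 ∨ a 7 = 1 by omega) with h7 | h7 | h7
      · exfalso; omega
      · exfalso; omega
      · exfalso; omega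
    · rcases (show a 7 = -1 ∨ a 7 = 0 ∨ a 7 = 1 by omega) with h7 | h7 | h7
      · exfalso; omega
      · have ha : a = ![-1,1,0,0,0,0,0,0] := by
          funext c; fin_cases c <;> simp <;> omega
        subst ha
        have h2 := hnext 2 (by decide +kernel)
        exact (Or.inl (h2.perm ![0,1,2,3,4,5,6,7,8,9] (by decide +kernel) ![1,1,1,1,1,1,1,1,1,1] (by decide +kernel) (by decide +kernel) (by decide +kernel) (by decide +kernel) (by decide +kernel)))
      · exfalso; omega
    · rcases (show a 7 = -1 ∨ a 7 = 0 ∨ a 7 = 1 by omega) with h7 | h7 | h7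
      · exfalso; omega
      · have ha : a = ![-1,0,1,-1,0,0,1,0] := by
          funext c; fin_cases c <;> simp <;> omega
        subst ha
        have h2 := hnext 0 (by decide +kernel)
        exact (Or.inr (Or.inr (h2.perm ![0,1,2,3,4,5,6,7] (by decide +kernel) ![1,1,1,1,1,1,1,1] (by decide +kernel) (by decide +kernel) (by decide +kernel) (by decide +kernel) (by decide +kernel))))
      · exfalso; omega
  · rcases (show a 6 = -1 ∨ a 6 = 0 ∨ a 6 = 1 by omega) with h6 | h6 | h6
    · rcases (show a 7 = -1 ∨ a 7 = 0 ∨ a 7 = 1 by omega) with h7 | h7 | h7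
      · exfalso; omega
      · exfalso; omega
      · exfalso; omega
    · rcases (show a 7 = -1 ∨ a 7 = 0 ∨ a 7 = 1 by omega) with h7 | h7 | h7
      · exfalso; omega
      · have ha : a = ![-1,1,0,-1,1,0,0,0] := by
          funext c; fin_cases c <;> simp <;> omega
        subst ha
        have h2 := hnext 0 (by decide +kernel)
        exact (Or.inr (Or.inl (h2.perm ![0,1,2,4,3,5,6,7] (by decide +kernel) ![1,1,1,1,1,1,1,1] (by decide +kernel) (by decide +kernel) (by decide +kernel) (by decide +kernel) (by decide +kernel))))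
      · exfalso; omega
    · rcases (show a 7 = -1 ∨ a 7 = 0 ∨ a 7 = 1 by omega) with h7 | h7 | h7
      · exfalso; omega
      · exfalso; omega
      · exfalso; omega

theorem ext_4_1 (h : St t0 v (Pt 4) 7 0 S4_1) : St t0 v (Pt 5) 8 0 S5_3 ∨ St t0 v (Pt 5) 7 0 S5_4 ∨ St t0 v (Pt 5) 7 0 S5_5 := by
  obtain ⟨a, hb, hz, hip, hnorm, hnext⟩ := St.step d hd hgram htriv hdeg 8 h
  have h0 : a 0 = -1 := by simpa [trivL] using hz
  have e0 := hip 0 (by decide)
  simp [Fin.sum_univ_succ, S4_1, gramL] at e0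
  have e1 := hip 1 (by decide)
  simp [Fin.sum_univ_succ, S4_1, gramL] at e1
  have e2 := hip 2 (by decide)
  simp [Fin.sum_univ_succ, S4_1, gramL] at e2
  have e3 := hip 3 (by decide)
  simp [Fin.sum_univ_succ, S4_1, gramL] at e3
  simp [Fin.sum_univ_succ, gramL] at hnorm
  have q0 := le_sq (a 0)
  have b1 := hb 1
  have q1 := le_sq (a 1)
  have b2 := hb 2
  have q2 := le_sq (a 2)
  have b3 := hb 3
  have q3 := le_sq (a 3)
  have b4 := hb 4
  have q4 := le_sq (a 4)
  have b5 := hb 5
  have q5 := le_sq (a 5)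
  have b6 := hb 6
  have q6 := le_sq (a 6)
  rcases (show a 4 = -1 ∨ a 4 = 0 ∨ a 4 = 1 by omega) with h4 | h4 | h4
  · rcases (show a 6 = -1 ∨ a 6 = 0 ∨ a 6 = 1 by omega) with h6 | h6 | h6
    · exfalso; omega
    · have ha : a = ![-1,0,1,0,-1,0,0] := by
        funext c; fin_cases c <;> simp <;> omega
      subst ha
      have h2 := hnext 1 (by decide +kernel)
      exact (Or.inl (h2.perm ![0,1,2,3,4,5,6,7] (by decide +kernel) ![1,1,1,1,1,1,1,1] (by decide +kernel) (by decide +kernel) (by decide +kernel) (by decide +kernel) (by decide +kernel)))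
    · exfalso; omega
  · rcases (show a 6 = -1 ∨ a 6 = 0 ∨ a 6 = 1 by omega) with h6 | h6 | h6
    · exfalso; omega
    · exfalso; omega
    · have ha : a = ![-1,1,0,0,0,1,1] := by
        funext c; fin_cases c <;> simp <;> omega
      subst ha
      have h2 := hnext 0 (by decide +kernel)
      exact (Or.inr (Or.inr (h2.perm ![0,1,2,3,4,5,6] (by decide +kernel) ![1,1,1,1,1,1,1] (by decide +kernel) (by decide +kernel) (by decide +kernel) (by decide +kernel) (by decide +kernel))))
  · rcases (show a 6 = -1 ∨ a 6 = 0 ∨ a 6 = 1 by omega) with h6 | h6 | h6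
    · exfalso; omega
    · have ha : a = ![-1,1,0,-1,1,0,0] := by
        funext c; fin_cases c <;> simp <;> omega
      subst ha
      have h2 := hnext 0 (by decide +kernel)
      exact (Or.inr (Or.inl (h2.perm ![0,1,2,3,4,5,6] (by decide +kernel) ![1,1,1,1,1,1,1] (by decide +kernel) (by decide +kernel) (by decide +kernel) (by decide +kernel) (by decide +kernel))))
    · exfalso; omega

theorem ext_4_2 (h : St t0 v (Pt 4) 6 0 S4_2) : St t0 v (Pt 5) 7 0 S5_6 := by
  obtain ⟨a, hb, hz, hip, hnorm, hnext⟩ := St.step d hd hgram htriv hdeg 8 h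
  have h0 : a 0 = -1 := by simpa [trivL] using hz
  have e0 := hip 0 (by decide)
  simp [Fin.sum_univ_succ, S4_2, gramL] at e0
  have e1 := hip 1 (by decide)
  simp [Fin.sum_univ_succ, S4_2, gramL] at e1
  have e2 := hip 2 (by decide)
  simp [Fin.sum_univ_succ, S4_2, gramL] at e2
  have e3 := hip 3 (by decide)
  simp [Fin.sum_univ_succ, S4_2, gramL] at e3
  simp [Fin.sum_univ_succ, gramL] at hnorm
  have q0 := le_sq (a 0)
  have b1 := hb 1
  have q1 := le_sq (a 1)
  have b2 := hb 2
  have q2 := le_sq (a 2)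
  have b3 := hb 3
  have q3 := le_sq (a 3)
  have b4 := hb 4
  have q4 := le_sq (a 4)
  have b5 := hb 5
  have q5 := le_sq (a 5)
  rcases (show a 5 = -1 ∨ a 5 = 0 ∨ a 5 = 1 by omega) with h5 | h5 | h5
  · exfalso; omega
  · exfalso; omega
  · have ha : a = ![-1,1,0,0,0,1] := by
      funext c; fin_cases c <;> simp <;> omega
    subst ha
    have h2 := hnext 1 (by decide +kernel)
    exact h2.perm ![0,1,2,3,4,5,6] (by decide +kernel) ![1,1,1,1,1,1,1] (by decide +kernel) (by decide +kernel) (by decide +kernel) (by decide +kernel) (by decide +kernel)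

end

end Cfsg.Agent.Lib.Helper9.Lc9
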