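import Mathlib

set_option autoImplicit false

/-! Generic counting by Kronecker substitution: the number of functions `x` in a product of
finite value sets with prescribed total key is a base-`b` digit of a product of sums. -/

namespace Cfsg.Agent.Lib.Helper9.LeechC1

open Finset

theorem extract {α : Type*} [DecidableEq α] (P : Finset α) (key : α → ℕ) (b k0 : ℕ)
    (hb : P.card < b) :
    (∑ x ∈ P, b ^ key x) / b ^ k0 % b = (P.filter fun x => key x = k0).card := by
  have hb0 : 0 < b := by omega
  have hbk : 0 < b ^ k0 := Nat.pow_pos hb0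
  -- split the sum
  have h1 : ∑ x ∈ P, b ^ key x
      = ∑ x ∈ P.filter (fun x => key x < k0), b ^ key x
        + (∑ x ∈ P.filter (fun x => key x = k0), b ^ key x
          + ∑ x ∈ P.filter (fun x => k0 < key x), b ^ key x) := by
    rw [← Finset.sum_filter_add_sum_filter_not P (fun x => key x < k0)]
    congr 1
    rw [← Finset.sum_filter_add_sum_filter_not (P.filter fun x => ¬ key x < k0)
      (fun x => key x = k0)]
    congr 1
    · apply Finset.sum_congr _ (fun _ _ => rfl)
      ext x
      simp only [mem_filter]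
      constructor
      · rintro ⟨⟨h1, -⟩, h3⟩; exact ⟨h1, h3⟩
      · rintro ⟨h1, h3⟩; exact ⟨⟨h1, by omega⟩, h3⟩
    · apply Finset.sum_congr _ (fun _ _ => rfl)
      ext x
      simp only [mem_filter]
      constructor
      · rintro ⟨⟨h1, h2⟩, h3⟩; exact ⟨h1, by omega⟩
      · rintro ⟨h1, h3⟩; exact ⟨⟨h1, by omega⟩, by omega⟩
  have h2 : ∑ x ∈ P.filter (fun x => key x = k0), b ^ key x
      = b ^ k0 * (P.filter fun x => key x = k0).card := by
    rw [Finset.sum_congr rfl (g := fun _ => b ^ k0)]
    · rw [Finset.sum_const, smul_eq_mul, mul_comm]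
    · intro x hx
      rw [(mem_filter.mp hx).2]
  have h3 : ∑ x ∈ P.filter (fun x => k0 < key x), b ^ key x
      = b ^ k0 * (b * ∑ x ∈ P.filter (fun x => k0 < key x), b ^ (key x - k0 - 1)) := by
    rw [Finset.mul_sum, Finset.mul_sum]
    apply Finset.sum_congr rfl
    intro x hx
    have : k0 < key x := (mem_filter.mp hx).2
    rw [← mul_assoc, ← pow_succ, ← pow_add]
    congr 1
    omega
  have h4 : ∑ x ∈ P.filter (fun x => key x < k0), b ^ key x < b ^ k0 := by
    rcases Nat.eq_zero_or_pos k0 with h0 | h0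
    · subst h0
      simp
    · calc ∑ x ∈ P.filter (fun x => key x < k0), b ^ key x
          ≤ ∑ _x ∈ P.filter (fun x => key x < k0), b ^ (k0 - 1) := by
            apply Finset.sum_le_sum
            intro x hx
            have : key x < k0 := (mem_filter.mp hx).2
            exact Nat.pow_le_pow_right hb0 (by omega)
        _ = (P.filter (fun x => key x < k0)).card * b ^ (k0 - 1) := by
            rw [Finset.sum_const, smul_eq_mul]
        _ ≤ P.card * b ^ (k0 - 1) := Nat.mul_le_mul_right _ (card_filter_le _ _)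
        _ < b * b ^ (k0 - 1) := Nat.mul_lt_mul_of_pos_right hb (Nat.pow_pos hb0)
        _ = b ^ k0 := by rw [← pow_succ']; congr 1; omega
  rw [h1, h2, h3, ← mul_add, Nat.add_mul_div_left _ _ hbk, Nat.div_eq_of_lt h4, zero_add,
    Nat.add_mul_mod_self_left]
  exact Nat.mod_eq_of_lt (lt_of_le_of_lt (card_filter_le _ _) hb)

theorem gen_count {ι V : Type*} [Fintype ι] [DecidableEq ι] [DecidableEq V]
    (S : ι → Finset V) (kv : V → ℕ) (b k0 : ℕ) (hb : ∏ i, (S i).card < b) :
    ((Fintype.piFinset S).filter fun x => ∑ i, kv (x i) = k0).card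
      = (∏ i, ∑ a ∈ S i, b ^ kv a) / b ^ k0 % b := by
  rw [Finset.prod_univ_sum]
  simp_rw [Finset.prod_pow_eq_pow_sum]
  rw [extract _ _ _ _ (by rwa [Fintype.card_piFinset])]

/-- the number of `x` with total key in a finite set `Ks` -/
theorem gen_count_set {ι V : Type*} [Fintype ι] [DecidableEq ι] [DecidableEq V]
    (S : ι → Finset V) (kv : V → ℕ) (b : ℕ) (Ks : Finset ℕ) (hb : ∏ i, (S i).card < b) :
    ((Fintype.piFinset S).filter fun x => ∑ i, kv (x i) ∈ Ks).card
      = ∑ k ∈ Ks, (∏ i, ∑ a ∈ S i, b ^ kv a) / b ^ k % b := by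
  rw [Finset.card_eq_sum_card_fiberwise (f := fun x => ∑ i, kv (x i)) (t := Ks)]
  · apply Finset.sum_congr rfl
    intro k hk
    rw [← gen_count S kv b k hb]
    congr 1
    ext x
    simp only [mem_filter]
    constructor
    · rintro ⟨⟨h1, -⟩, h3⟩; exact ⟨h1, h3⟩
    · rintro ⟨h1, h3⟩; exact ⟨⟨h1, h3 ▸ hk⟩, h3⟩
  · intro x hx
    exact (mem_filter.mp hx).2

/-- two kinds of positions -/
theorem prod_two {ι : Type*} [Fintype ι] [DecidableEq ι] (c : Finset ι) (pa pb : ℕ) :
    (∏ i : ι, if i ∈ c then pa else pb) = pa ^ c.card * pb ^ (Fintype.card ι - c.card) := by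
  rw [Finset.prod_ite, Finset.prod_const, Finset.prod_const]
  congr 2
  · congr 1
    ext i; simp
  · rw [← Finset.card_compl]
    congr 1
    ext i; simp

end Cfsg.Agent.Lib.Helper9.LeechC1
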