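import Cfsg.Agent.Lib.Helper9.LeechC2

set_option autoImplicit false

/-! The counting formula for the rank-24 lattice. -/

namespace Cfsg.Agent.Lib.Helper9.LeechC3

open Cfsg Finset Cfsg.Agent.Lib.Helper9.Golay1 Cfsg.Agent.Lib.Helper4.Leech
  Cfsg.Agent.Lib.Helper9.GolayQR4 Cfsg.Agent.Lib.Helper9.GolayQR6
  Cfsg.Agent.Lib.Helper9.LeechC1 Cfsg.Agent.Lib.Helper9.LeechC2 Cfsg.Agent.Lib.Helper9.GolayQR5

def PA (U : Finset ℤ) (kv : ℤ → ℕ) (b : ℕ) (μ : ℤ) : ℕ :=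
  ∑ a ∈ U.filter (fun a => a % 4 = 2 - μ), b ^ kv a

def PB (U : Finset ℤ) (kv : ℤ → ℕ) (b : ℕ) (μ : ℤ) : ℕ :=
  ∑ a ∈ U.filter (fun a => a % 4 = 3 * μ), b ^ kv a

def G (U : Finset ℤ) (kv : ℤ → ℕ) (b : ℕ) (K0 : Finset ℕ) (μ : ℤ) (w : ℕ) : ℕ :=
  ∑ k ∈ K0.filter (fun k : ℕ => (k : ℤ) % 8 = 4 * μ),
    (PA U kv b μ ^ w * PB U kv b μ ^ (24 - w)) / b ^ k % b

theorem key_congr (U : Finset ℤ) (kv : ℤ → ℕ) (hkv : ∀ a ∈ U, ((kv a : ℤ) - a) % 8 = 0)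
    (x : GolayPt → ℤ) (hx : ∀ i, x i ∈ U) :
    ((∑ i, kv (x i) : ℕ) : ℤ) % 8 = (∑ i, x i) % 8 := by
  have h : (8 : ℤ) ∣ ∑ i, ((kv (x i) : ℤ) - x i) := by
    apply Finset.dvd_sum
    intro i _
    exact Int.dvd_of_emod_eq_zero (hkv _ (hx i))
  rw [Finset.sum_sub_distrib] at h
  push_cast
  omega

theorem class_count (U : Finset ℤ) (kv : ℤ → ℕ) (b : ℕ) (hb : U.card ^ 24 < b)
    (Ks : Finset ℕ) (μ : ℤ) (c : Finset GolayPt) :
    ((Fintype.piFinset (S U μ c)).filter fun x => ∑ i, kv (x i) ∈ Ks).card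
      = ∑ k ∈ Ks, (PA U kv b μ ^ c.card * PB U kv b μ ^ (24 - c.card)) / b ^ k % b := by
  have hb' : ∏ i, (S U μ c i).card < b := by
    refine lt_of_le_of_lt ?_ hb
    calc ∏ i, (S U μ c i).card ≤ ∏ _i : GolayPt, U.card := by
          apply Finset.prod_le_prod (fun _ _ => Nat.zero_le _)
          intro i _
          exact card_filter_le _ _
      _ = U.card ^ 24 := by rw [Finset.prod_const, card_univ, card_golayPt]
  rw [gen_count_set (S U μ c) kv b Ks hb']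
  have hprod : (∏ i, ∑ a ∈ S U μ c i, b ^ kv a)
      = PA U kv b μ ^ c.card * PB U kv b μ ^ (24 - c.card) := by
    rw [← card_golayPt, ← prod_two]
    apply Finset.prod_congr rfl
    intro i _
    unfold S PA PB
    by_cases hi : i ∈ c
    · simp only [hi, if_true]
    · simp only [hi, if_false]
  rw [hprod]

theorem count_main (U : Finset ℤ) (kv : ℤ → ℕ) (hkv : ∀ a ∈ U, ((kv a : ℤ) - a) % 8 = 0)
    (K0 : Finset ℕ) (b : ℕ) (hb : U.card ^ 24 < b) :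
    {x : GolayPt → ℤ | x ∈ leechSet ∧ (∀ i, x i ∈ U) ∧ ∑ i, kv (x i) ∈ K0}.ncard
      = ∑ μ ∈ ({0, 1} : Finset ℤ), (G U kv b K0 μ 0 + 759 * G U kv b K0 μ 8
          + 2576 * G U kv b K0 μ 12 + 759 * G U kv b K0 μ 16 + G U kv b K0 μ 24) := by
  classical
  obtain ⟨XF, hXF⟩ : ∃ XF : Finset (GolayPt → ℤ), XF = (Fintype.piFinset fun _ : GolayPt => U).filter
      (fun x => x ∈ leechSet ∧ ∑ i, kv (x i) ∈ K0) := ⟨_, rfl⟩
  have hmem : ∀ x, x ∈ XF ↔ (∀ i, x i ∈ U) ∧ x ∈ leechSet ∧ ∑ i, kv (x i) ∈ K0 := by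
    intro x
    rw [hXF, mem_filter, Fintype.mem_piFinset]
  have hset : {x : GolayPt → ℤ | x ∈ leechSet ∧ (∀ i, x i ∈ U) ∧ ∑ i, kv (x i) ∈ K0}
      = ↑XF := by
    ext x
    rw [mem_coe, hmem]
    simp only [Set.mem_setOf_eq]
    tauto
  rw [hset, Set.ncard_coe_finset]
  have hmaps : ∀ x ∈ XF, (par x, cl x) ∈ ({0, 1} : Finset ℤ) ×ˢ codeS := by
    intro x hx
    obtain ⟨h1, h2, -, -⟩ := fwd ((hmem x).mp hx).2.1
    rw [mem_product, mem_codeS]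
    refine ⟨?_, h2⟩
    simp only [mem_insert, mem_singleton]
    exact h1
  rw [card_eq_sum_card_fiberwise hmaps, Finset.sum_product]
  apply Finset.sum_congr rfl
  intro μ hμ
  have hμ' : μ = 0 ∨ μ = 1 := by simpa using hμ
  rw [← sum_code (fun w => G U kv b K0 μ w)]
  apply Finset.sum_congr rfl
  intro c hc
  have hfib : XF.filter (fun x => (par x, cl x) = (μ, c))
      = (Fintype.piFinset (S U μ c)).filter
          (fun x => ∑ i, kv (x i) ∈ K0.filter (fun k : ℕ => (k : ℤ) % 8 = 4 * μ)) := by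
    ext x
    rw [mem_filter, hmem, mem_filter, Fintype.mem_piFinset, mem_filter, Prod.mk.injEq]
    constructor
    · rintro ⟨⟨hU, hL, hK⟩, hp, hcl⟩
      obtain ⟨-, -, h3, h4⟩ := fwd hL
      rw [hp, hcl] at h3
      rw [hp] at h4
      refine ⟨fun i => ?_, hK, ?_⟩
      · unfold S
        rw [mem_filter]
        exact ⟨hU i, h3 i⟩
      · rw [key_congr U kv hkv x hU]
        exact h4
    · rintro ⟨hS, hK, hk8⟩
      have hU : ∀ i, x i ∈ U := fun i => (mem_filter.mp (hS i)).1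
      have hx := bwd hμ' ((mem_codeS c).mp hc) (fun i => (mem_filter.mp (hS i)).2)
        (by rw [← key_congr U kv hkv x hU]; exact hk8)
      exact ⟨⟨hU, hx.1, hK⟩, hx.2.1, hx.2.2⟩
  rw [hfib, class_count U kv b hb]
  rfl

end Cfsg.Agent.Lib.Helper9.LeechC3
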