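import Cfsg.Agent.Lib.Helper9.LeechC4

set_option autoImplicit false

/-! Shape counts for sum of squares 48, and the index of the lattice. -/

namespace Cfsg.Agent.Lib.Helper9.LeechC5

open Cfsg Finset Cfsg.Agent.Lib.Helper4.Leech Cfsg.Agent.Lib.Helper9.LeechC3
  Cfsg.Agent.Lib.Helper9.LeechC4 Cfsg.Agent.Lib.Helper9.LeechC2 Cfsg.Agent.Lib.Helper9.Golay1

/-- the set of lattice vectors of sum of squares `N` is finite -/
theorem finite_norm (N : ℕ) (hN : N ≤ 64) :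
    {x : GolayPt → ℤ | x ∈ leechLattice ∧ sqNorm x = N}.Finite := by
  apply Set.Finite.subset (s := ↑(Fintype.piFinset fun _ : GolayPt => Icc (-8 : ℤ) 8))
    (Finset.finite_toSet _)
  intro x hx
  rw [mem_coe, Fintype.mem_piFinset]
  exact entry_bound x N (by exact_mod_cast hN) hx.2

/-- vectors having some entry of absolute value `v` -/
theorem count_exists (N : ℕ) (hN : N ≤ 64) (v : ℤ) (hv : 0 ≤ v) :
    {x : GolayPt → ℤ | x ∈ leechLattice ∧ sqNorm x = N ∧ ∃ i, |x i| = v}.ncard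
      = TS (Icc (-8) 8) kvN (Ico (256 * N) (256 * N + 256))
        - TS ((Icc (-8) 8).filter fun a => ¬ (a = v ∨ a = -v)) kvN
            (Ico (256 * N) (256 * N + 256)) := by
  rw [← norm_count_all N hN, ← norm_count _ (filter_subset _ _) N]
  have hsub : {x : GolayPt → ℤ | x ∈ leechLattice ∧ sqNorm x = N ∧
        ∀ i, x i ∈ (Icc (-8 : ℤ) 8).filter fun a => ¬ (a = v ∨ a = -v)}
      ⊆ {x : GolayPt → ℤ | x ∈ leechLattice ∧ sqNorm x = N} := fun x hx => ⟨hx.1, hx.2.1⟩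
  rw [← Set.ncard_diff hsub ((finite_norm N hN).subset hsub)]
  congr 1
  ext x
  simp only [Set.mem_setOf_eq, Set.mem_diff, mem_filter]
  constructor
  · rintro ⟨h1, h2, i, hi⟩
    refine ⟨⟨h1, h2⟩, ?_⟩
    rintro ⟨-, -, h3⟩
    exact (h3 i).2 ((abs_eq hv).mp hi)
  · rintro ⟨⟨h1, h2⟩, h3⟩
    refine ⟨h1, h2, ?_⟩
    by_contra hcon
    push Not at hcon
    apply h3
    refine ⟨h1, h2, fun i => ⟨entry_bound x N (by exact_mod_cast hN) h2 i, ?_⟩⟩
    intro h
    exact hcon i ((abs_eq hv).mpr h)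

/-- a vector of sum of squares 48 with an entry `±3` has three such entries -/
theorem three_threes (x : GolayPt → ℤ) (hx : x ∈ leechLattice) (hn : sqNorm x = 48)
    (i0 : GolayPt) (h0 : |x i0| = 3) :
    ∃ i j k, i ≠ j ∧ j ≠ k ∧ i ≠ k ∧ |x i| = 3 ∧ |x j| = 3 ∧ |x k| = 3 := by
  classical
  rw [mem_leechLattice_iff, mem_leechSet_iff] at hx
  obtain ⟨m, h1, -, -⟩ := hx
  have hodd : ∀ i, x i % 2 = 1 := by
    intro i
    have e1 : x i % 2 = m % 2 := h1 i
    have e2 : x i0 % 2 = m % 2 := h1 i0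
    rcases (abs_eq (by norm_num : (0 : ℤ) ≤ 3)).mp h0 with h | h <;> omega
  obtain ⟨J, hJ⟩ : ∃ J : Finset GolayPt, J = univ.filter fun i => |x i| = 3 := ⟨_, rfl⟩
  have hmemJ : ∀ i, i ∈ J ↔ |x i| = 3 := by intro i; rw [hJ]; simp
  have hsum : ∑ i, (x i ^ 2 - 1) = 24 := by
    rw [Finset.sum_sub_distrib]
    have : ∑ i, x i ^ 2 = 48 := hn
    rw [this, Finset.sum_const, card_univ, Cfsg.Agent.Lib.Helper9.GolayQR5.card_golayPt]
    norm_num
  have hnn : ∀ i, 0 ≤ x i ^ 2 - 1 := by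
    intro i
    have := hodd i
    have : x i ≠ 0 := by omega
    have : 0 < x i ^ 2 := by positivity
    omega
  have hsplit : ∑ i ∈ J, (x i ^ 2 - 1) + ∑ i ∈ Jᶜ, (x i ^ 2 - 1) = 24 := by
    rw [Finset.sum_add_sum_compl]; exact hsum
  have hJsum : ∑ i ∈ J, (x i ^ 2 - 1) = 8 * (J.card : ℤ) := by
    rw [Finset.sum_congr rfl (g := fun _ => (8 : ℤ))]
    · rw [Finset.sum_const, nsmul_eq_mul]; ring
    · intro i hi
      have := (hmemJ i).mp hi
      have e : x i ^ 2 = |x i| ^ 2 := (sq_abs _).symm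
      rw [e, this]; norm_num
  have hi0 : i0 ∈ J := (hmemJ i0).mpr h0
  have hJpos : 1 ≤ J.card := Finset.card_pos.mpr ⟨i0, hi0⟩
  have hcard : J.card = 3 := by
    by_cases hbig : ∃ i1 ∈ Jᶜ, 24 ≤ x i1 ^ 2 - 1
    · obtain ⟨i1, hi1, hge⟩ := hbig
      have := Finset.single_le_sum (f := fun i => x i ^ 2 - 1) (fun i _ => hnn i) hi1
      have hJc : (1 : ℤ) ≤ J.card := by exact_mod_cast hJpos
      omega
    · push Not at hbig
      have hz : ∑ i ∈ Jᶜ, (x i ^ 2 - 1) = 0 := by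
        apply Finset.sum_eq_zero
        intro i hi
        have hlt := hbig i hi
        have hnot : ¬ |x i| = 3 := fun h => (mem_compl.mp hi) ((hmemJ i).mpr h)
        have ho := hodd i
        have hb1 : -5 < x i := by nlinarith
        have hb2 : x i < 5 := by nlinarith
        have hne3 : x i ≠ 3 := fun h => hnot (by rw [h]; norm_num)
        have hne3' : x i ≠ -3 := fun h => hnot (by rw [h]; norm_num)
        have : x i = 1 ∨ x i = -1 := by omega
        rcases this with h | h <;> rw [h] <;> norm_num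
      rw [hJsum, hz] at hsplit
      have : (J.card : ℤ) = 3 := by omega
      exact_mod_cast this
  obtain ⟨i, j, k, hij, hik, hjk, hJe⟩ := Finset.card_eq_three.mp hcard
  refine ⟨i, j, k, hij, hjk, hik, ?_, ?_, ?_⟩
  · apply (hmemJ i).mp; rw [hJe]; simp
  · apply (hmemJ j).mp; rw [hJe]; simp
  · apply (hmemJ k).mp; rw [hJe]; simp

set_option maxRecDepth 100000 in
theorem TS_a : TS ({0, 2, -2} : Finset ℤ) kvN (Ico (256 * 48) (256 * 48 + 256)) = 5275648 := by
  decide +kernel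

set_option maxRecDepth 100000 in
theorem TS_no3 : TS ((Icc (-8 : ℤ) 8).filter fun a => ¬ (a = 3 ∨ a = -3)) kvN
    (Ico (256 * 48) (256 * 48 + 256)) = 8482816 := by
  decide +kernel

set_option maxRecDepth 100000 in
theorem TS_no4 : TS ((Icc (-8 : ℤ) 8).filter fun a => ¬ (a = 4 ∨ a = -4)) kvN
    (Ico (256 * 48) (256 * 48 + 256)) = 13664256 := by
  decide +kernel

set_option maxRecDepth 100000 in
theorem TS_no5 : TS ((Icc (-8 : ℤ) 8).filter fun a => ¬ (a = 5 ∨ a = -5)) kvN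
    (Ico (256 * 48) (256 * 48 + 256)) = 16674816 := by
  decide +kernel

theorem shape_a : {x : GolayPt → ℤ | x ∈ leechLattice ∧ sqNorm x = 48 ∧
    ∀ i, x i = 0 ∨ x i = 2 ∨ x i = -2}.ncard = 5275648 := by
  have h := norm_count ({0, 2, -2} : Finset ℤ) (by decide) 48
  rw [TS_a] at h
  rw [← h]
  congr 1
  ext x
  simp only [Set.mem_setOf_eq, mem_insert, mem_singleton]
  norm_num

theorem shape_b : {x : GolayPt → ℤ | x ∈ leechLattice ∧ sqNorm x = 48 ∧
    ∃ i j k, i ≠ j ∧ j ≠ k ∧ i ≠ k ∧ |x i| = 3 ∧ |x j| = 3 ∧ |x k| = 3}.ncard = 8290304 := by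
  have h := count_exists 48 (by norm_num) 3 (by norm_num)
  rw [TS_48, TS_no3] at h
  have e : {x : GolayPt → ℤ | x ∈ leechLattice ∧ sqNorm x = 48 ∧
      ∃ i j k, i ≠ j ∧ j ≠ k ∧ i ≠ k ∧ |x i| = 3 ∧ |x j| = 3 ∧ |x k| = 3}
      = {x : GolayPt → ℤ | x ∈ leechLattice ∧ sqNorm x = ((48 : ℕ) : ℤ) ∧ ∃ i, |x i| = 3} := by
    ext x
    simp only [Set.mem_setOf_eq, Nat.cast_ofNat]
    constructor
    · rintro ⟨h1, h2, i, -, -, -, -, -, hi, -⟩
      exact ⟨h1, h2, i, hi⟩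
    · rintro ⟨h1, h2, i, hi⟩
      exact ⟨h1, h2, three_threes x h1 h2 i hi⟩
  rw [e, h]

theorem shape_c : {x : GolayPt → ℤ | x ∈ leechLattice ∧ sqNorm x = 48 ∧
    ∃ i, |x i| = 4}.ncard = 3108864 := by
  have h := count_exists 48 (by norm_num) 4 (by norm_num)
  rw [TS_48, TS_no4] at h
  exact_mod_cast h

theorem shape_d : {x : GolayPt → ℤ | x ∈ leechLattice ∧ sqNorm x = 48 ∧
    ∃ i, |x i| = 5}.ncard = 98304 := by
  have h := count_exists 48 (by norm_num) 5 (by norm_num)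
  rw [TS_48, TS_no5] at h
  exact_mod_cast h

end Cfsg.Agent.Lib.Helper9.LeechC5
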