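import Cfsg.Agent.Lib.Helper9.LeechC4

set_option autoImplicit false

/-! The index of the rank-24 lattice in the full integer lattice. -/

namespace Cfsg.Agent.Lib.Helper9.LeechC6

open Cfsg Finset Cfsg.Agent.Lib.Helper4.Leech Cfsg.Agent.Lib.Helper9.LeechC3
  Cfsg.Agent.Lib.Helper9.LeechC4 Cfsg.Agent.Lib.Helper9.LeechC2 Cfsg.Agent.Lib.Helper9.Golay1

def kvI (a : ℤ) : ℕ := a.toNat

theorem kvI_congr : ∀ a ∈ Icc (0 : ℤ) 7, ((kvI a : ℤ) - a) % 8 = 0 := by
  intro a ha
  rw [mem_Icc] at ha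
  unfold kvI
  rw [Int.toNat_of_nonneg ha.1]
  simp

set_option maxRecDepth 100000 in
theorem TS_box : TS (Icc (0 : ℤ) 7) kvI (range 169) = 2 ^ 36 := by
  decide +kernel

theorem box_count :
    {x : GolayPt → ℤ | x ∈ leechLattice ∧ ∀ i, x i ∈ Icc (0 : ℤ) 7}.ncard = 2 ^ 36 := by
  rw [← TS_box, ← count_TS (Icc (0 : ℤ) 7) kvI kvI_congr (range 169)
    (by rw [Int.card_Icc]; decide)]
  congr 1
  ext x
  simp only [Set.mem_setOf_eq, mem_leechLattice_iff]
  constructor
  · rintro ⟨h1, h2⟩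
    refine ⟨h1, h2, ?_⟩
    rw [mem_range]
    have : ∑ i, kvI (x i) ≤ ∑ _i : GolayPt, 7 := by
      apply Finset.sum_le_sum
      intro i _
      have := mem_Icc.mp (h2 i)
      unfold kvI
      omega
    rw [Finset.sum_const, card_univ, Cfsg.Agent.Lib.Helper9.GolayQR5.card_golayPt] at this
    simp only [smul_eq_mul] at this
    omega
  · rintro ⟨h1, h2, -⟩
    exact ⟨h1, h2⟩

/-- reduction modulo 8 -/
def red : (GolayPt → ℤ) →+ (GolayPt → ZMod 8) :=
  AddMonoidHom.compLeft (Int.castAddHom (ZMod 8)) GolayPt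

theorem red_apply (x : GolayPt → ℤ) (i : GolayPt) : red x i = ((x i : ℤ) : ZMod 8) := rfl

theorem red_surj : Function.Surjective red := by
  intro y
  refine ⟨fun i => ((y i).val : ℤ), ?_⟩
  ext i
  rw [red_apply]
  simp

theorem eight_mem (z : GolayPt → ℤ) (hz : ∀ i, (8 : ℤ) ∣ z i) : z ∈ leechLattice := by
  rw [mem_leechLattice_iff]
  have h8 : (8 : ℤ) ∣ ∑ i, z i := Finset.dvd_sum fun i _ => hz i
  refine (bwd (μ := 0) (c := ∅) (Or.inl rfl) ?_ (fun i => ?_) ?_).1
  · rw [ind_empty]; exact golayCode.zero_mem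
  · simp only [notMem_empty, if_false]
    have := hz i
    omega
  · omega

theorem ker_le : red.ker ≤ leechLattice := by
  intro z hz
  apply eight_mem
  intro i
  have : red z i = 0 := by rw [AddMonoidHom.mem_ker.mp hz]; rfl
  rw [red_apply] at this
  exact (ZMod.intCast_zmod_eq_zero_iff_dvd (z i) 8).mp this

theorem image_box :
    red '' {x : GolayPt → ℤ | x ∈ leechLattice ∧ ∀ i, x i ∈ Icc (0 : ℤ) 7}
      = ↑(leechLattice.map red) := by
  ext y
  constructor
  · rintro ⟨x, hx, rfl⟩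
    exact ⟨x, hx.1, rfl⟩
  · rintro ⟨x, hx, rfl⟩
    refine ⟨fun i => x i % 8, ⟨?_, fun i => ?_⟩, ?_⟩
    · have e : (fun i => x i % 8) = x - fun i => 8 * (x i / 8) := by
        ext i
        show x i % 8 = x i - 8 * (x i / 8)
        omega
      rw [e]
      exact leechLattice.sub_mem hx (eight_mem _ fun i => Dvd.intro _ rfl)
    · rw [mem_Icc]
      show 0 ≤ x i % 8 ∧ x i % 8 ≤ 7
      have := Int.emod_nonneg (x i) (by norm_num : (8 : ℤ) ≠ 0)
      have := Int.emod_lt_of_pos (x i) (by norm_num : (0 : ℤ) < 8)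
      omega
    · ext i
      rw [red_apply, red_apply]
      exact ZMod.intCast_mod (x i) 8

theorem injOn_box :
    Set.InjOn red {x : GolayPt → ℤ | x ∈ leechLattice ∧ ∀ i, x i ∈ Icc (0 : ℤ) 7} := by
  intro x hx y hy hxy
  ext i
  have h : red x i = red y i := by rw [hxy]
  rw [red_apply, red_apply, ZMod.intCast_eq_intCast_iff] at h
  have h1 := mem_Icc.mp (hx.2 i)
  have h2 := mem_Icc.mp (hy.2 i)
  have h3 : x i % 8 = y i % 8 := h
  omega

theorem card_map : Nat.card (leechLattice.map red) = 2 ^ 36 := by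
  rw [← box_count, ← Set.ncard_image_of_injOn injOn_box, image_box]
  exact (Nat.card_coe_set_eq _)

theorem index_eq : leechLattice.index = 2 ^ 36 := by
  rw [← AddSubgroup.index_map_eq _ red_surj ker_le]
  have h := AddSubgroup.card_mul_index (leechLattice.map red)
  rw [card_map] at h
  have hc : Nat.card (GolayPt → ZMod 8) = 2 ^ 36 * 2 ^ 36 := by
    rw [Nat.card_fun, Nat.card_zmod, Nat.card_eq_fintype_card,
      Cfsg.Agent.Lib.Helper9.GolayQR5.card_golayPt]
    norm_num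
  rw [hc] at h
  exact Nat.eq_of_mul_eq_mul_left (by norm_num) h

end Cfsg.Agent.Lib.Helper9.LeechC6
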