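import Cfsg.Agent.Lib.Helper9.LeechC7
import Cfsg.Agent.Lib.Helper9.LeechC5
import Cfsg.Prelude.Def_SporadicCombinatorics

set_option autoImplicit false

/-! Classes of the lattice modulo twice the lattice: representatives of small sum of squares,
and the 48 vectors of a cross. -/

namespace Cfsg.Agent.Lib.Helper9.LeechC8

open Cfsg Finset Cfsg.Agent.Lib.Helper4.Leech Cfsg.Agent.Lib.Helper9.LeechC7
  Cfsg.Agent.Lib.Helper9.LeechC6 Cfsg.Agent.Lib.Helper9.LeechC5 Cfsg.Agent.Lib.Helper9.LeechC4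

/-- doubling -/
def dbl : G →+ G := nsmulAddMonoidHom 2

theorem dbl_apply (z : G) : dbl z = 2 • z := rfl

theorem dbl_inj : Function.Injective dbl := by
  intro a b h
  ext i
  have := congrFun h i
  simp only [dbl_apply, Pi.smul_apply, nsmul_eq_mul, Nat.cast_ofNat] at this
  omega

/-- twice the lattice -/
def L2 : AddSubgroup G := leechLattice.map dbl

theorem mem_L2 (y : G) : y ∈ L2 ↔ ∃ z ∈ leechLattice, 2 • z = y := AddSubgroup.mem_map

theorem L2_le : L2 ≤ leechLattice := by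
  intro y hy
  obtain ⟨z, hz, rfl⟩ := (mem_L2 y).mp hy
  rw [two_nsmul]
  exact leechLattice.add_mem hz hz

/-- reduction modulo 2 -/
def red2 : G →+ (GolayPt → ZMod 2) := AddMonoidHom.compLeft (Int.castAddHom (ZMod 2)) GolayPt

theorem red2_apply (x : G) (i : GolayPt) : red2 x i = ((x i : ℤ) : ZMod 2) := rfl

theorem red2_surj : Function.Surjective red2 := by
  intro y
  refine ⟨fun i => ((y i).val : ℤ), ?_⟩
  ext i
  rw [red2_apply]
  simp

theorem range_dbl : dbl.range = red2.ker := by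
  ext x
  rw [AddMonoidHom.mem_range, AddMonoidHom.mem_ker]
  constructor
  · rintro ⟨z, rfl⟩
    ext i
    rw [red2_apply, dbl_apply]
    simp only [Pi.smul_apply, nsmul_eq_mul, Nat.cast_ofNat, Int.cast_mul, Int.cast_ofNat,
      Pi.zero_apply]
    have : (2 : ZMod 2) = 0 := by decide
    rw [this, zero_mul]
  · intro h
    have h2 : ∀ i, (2 : ℤ) ∣ x i := by
      intro i
      have : red2 x i = 0 := by rw [h]; rfl
      rw [red2_apply] at this
      exact (ZMod.intCast_zmod_eq_zero_iff_dvd (x i) 2).mp this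
    refine ⟨fun i => x i / 2, ?_⟩
    ext i
    rw [dbl_apply]
    simp only [Pi.smul_apply, nsmul_eq_mul, Nat.cast_ofNat]
    have := h2 i
    omega

theorem index_range_dbl : dbl.range.index = 2 ^ 24 := by
  rw [range_dbl, AddSubgroup.index_ker, AddMonoidHom.range_eq_top.mpr red2_surj]
  rw [Nat.card_congr (AddSubgroup.topEquiv (G := GolayPt → ZMod 2)).toEquiv, Nat.card_fun,
    Nat.card_zmod, Nat.card_eq_fintype_card, Cfsg.Agent.Lib.Helper9.GolayQR5.card_golayPt]

theorem index_L2 : L2.index = 2 ^ 36 * 2 ^ 24 := by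
  rw [L2, AddSubgroup.index_map_of_injective leechLattice dbl_inj, index_eq, index_range_dbl]

theorem relIndex_L2 : L2.relIndex leechLattice = 2 ^ 24 := by
  have h := AddSubgroup.relIndex_mul_index L2_le
  rw [index_L2, index_eq] at h
  have h' : L2.relIndex leechLattice * 2 ^ 36 = 2 ^ 24 * 2 ^ 36 := by rw [h]; ring
  exact Nat.eq_of_mul_eq_mul_right (by norm_num) h'

abbrev Q := G ⧸ L2

/-- the class map -/
def mk : G →+ Q := QuotientAddGroup.mk' L2

theorem mk_eq_iff (a b : G) : mk a = mk b ↔ ∃ z ∈ leechLattice, a - b = 2 • z := by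
  unfold mk
  rw [QuotientAddGroup.mk'_apply, QuotientAddGroup.mk'_apply, QuotientAddGroup.eq_iff_sub_mem,
    mem_L2]
  constructor
  · rintro ⟨z, hz, h⟩; exact ⟨z, hz, h.symm⟩
  · rintro ⟨z, hz, h⟩; exact ⟨z, hz, h.symm⟩

/-- classes of lattice vectors -/
def QL : AddSubgroup Q := leechLattice.map mk

theorem card_QL : Nat.card QL = 2 ^ 24 := by
  rw [← relIndex_L2]
  have := AddSubgroup.relIndex_ker leechLattice mk
  unfold QL
  rw [← this]
  unfold mk
  rw [QuotientAddGroup.ker_mk']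

theorem finite_QL : (QL : Set Q).Finite := by
  have : Finite ↥QL := Nat.finite_of_card_ne_zero (by rw [card_QL]; norm_num)
  exact Set.toFinite _

/-- vectors of given sum of squares -/
noncomputable def Lf (N : ℕ) (hN : N ≤ 64) : Finset G := (finite_norm N hN).toFinset

theorem mem_Lf {N : ℕ} {hN : N ≤ 64} {y : G} :
    y ∈ Lf N hN ↔ y ∈ leechLattice ∧ sqNorm y = N := by
  unfold Lf
  rw [Set.Finite.mem_toFinset]
  rfl

theorem card_Lf (N : ℕ) (hN : N ≤ 64) :
    (Lf N hN).card = {x : G | x ∈ leechLattice ∧ sqNorm x = N}.ncard := by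
  unfold Lf
  rw [Set.ncard_eq_toFinset_card _ (finite_norm N hN)]

theorem card_Lf32 : (Lf 32 (by norm_num)).card = 196560 := by
  rw [card_Lf]; exact_mod_cast count_32

theorem card_Lf48 : (Lf 48 (by norm_num)).card = 16773120 := by
  rw [card_Lf]; exact_mod_cast count_48

theorem card_Lf64 : (Lf 64 (by norm_num)).card = 398034000 := by
  rw [card_Lf]; exact_mod_cast count_64

theorem Lf0 : Lf 0 (by norm_num) = {0} := by
  ext y
  rw [mem_Lf, mem_singleton]
  constructor
  · rintro ⟨-, h⟩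
    exact sqNorm_eq_zero (by exact_mod_cast h)
  · rintro rfl
    refine ⟨leechLattice.zero_mem, ?_⟩
    simp [sqNorm]

theorem neg_mem_Lf {N : ℕ} {hN : N ≤ 64} {y : G} (hy : y ∈ Lf N hN) : -y ∈ Lf N hN := by
  rw [mem_Lf] at hy ⊢
  exact ⟨leechLattice.neg_mem hy.1, by rw [sqNorm_neg]; exact hy.2⟩

theorem mk_neg_self {y : G} (hy : y ∈ leechLattice) : mk (-y) = mk y := by
  rw [mk_eq_iff]
  refine ⟨-y, leechLattice.neg_mem hy, ?_⟩
  rw [two_nsmul]
  abel

/-- congruent vectors of small sum of squares -/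
theorem cong_cases {N N' : ℕ} {hN : N ≤ 64} {hN' : N' ≤ 64} {y y' : G} (hy : y ∈ Lf N hN)
    (hy' : y' ∈ Lf N' hN') (h : mk y = mk y') :
    y' = y ∨ y' = -y ∨ (N = 64 ∧ N' = 64 ∧ dotInt y y' = 0) := by
  rw [mem_Lf] at hy hy'
  obtain ⟨z, hz, hz2⟩ := (mk_eq_iff y y').mp h
  by_cases h1 : y' = y
  · exact Or.inl h1
  by_cases h2 : y' = -y
  · exact Or.inr (Or.inl h2)
  have hn : sqNorm y ≤ 64 := by rw [hy.2]; exact_mod_cast hN
  have hn' : sqNorm y' ≤ 64 := by rw [hy'.2]; exact_mod_cast hN'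
  obtain ⟨g1, g2, g3⟩ := geom y y' z hy.1 hy'.1 hz hz2 h1 h2 hn hn'
  refine Or.inr (Or.inr ⟨?_, ?_, g3⟩)
  · have := hy.2; rw [g1] at this; exact_mod_cast this.symm
  · have := hy'.2; rw [g2] at this; exact_mod_cast this.symm

section count

open Classical

/-- classes of vectors of sum of squares `N` -/
noncomputable def Cl (N : ℕ) (hN : N ≤ 64) : Finset Q := (Lf N hN).image mk

theorem disjoint_Cl {N N' : ℕ} {hN : N ≤ 64} {hN' : N' ≤ 64} (hne : N ≠ N') :
    Disjoint (Cl N hN) (Cl N' hN') := by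
  rw [Finset.disjoint_left]
  intro κ h1 h2
  obtain ⟨y, hy, rfl⟩ := mem_image.mp h1
  obtain ⟨y', hy', h⟩ := mem_image.mp h2
  have hn := (mem_Lf.mp hy).2
  have hn' := (mem_Lf.mp hy').2
  rcases cong_cases hy hy' h.symm with e | e | ⟨e1, e2, -⟩
  · rw [e, hn] at hn'
    exact hne (by exact_mod_cast hn')
  · rw [e, sqNorm_neg, hn] at hn'
    exact hne (by exact_mod_cast hn')
  · exact hne (e1.trans e2.symm)

theorem fiber_two {N : ℕ} {hN : N ≤ 64} (h0 : 0 < N) (h64 : N ≠ 64) {y0 : G}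
    (hy0 : y0 ∈ Lf N hN) : ((Lf N hN).filter fun y => mk y = mk y0).card = 2 := by
  have hne : y0 ≠ -y0 := by
    intro h
    have hz : y0 = 0 := by
      have : y0 + y0 = 0 := by nth_rewrite 2 [h]; simp
      ext i
      have := congrFun this i
      simp only [Pi.add_apply, Pi.zero_apply] at this ⊢
      omega
    have := (mem_Lf.mp hy0).2
    rw [hz] at this
    simp [sqNorm] at this
    omega
  have : (Lf N hN).filter (fun y => mk y = mk y0) = {y0, -y0} := by
    ext y
    rw [mem_filter, mem_insert, mem_singleton]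
    constructor
    · rintro ⟨hy, h⟩
      rcases cong_cases hy0 hy h.symm with e | e | ⟨e1, -, -⟩
      · exact Or.inl e
      · exact Or.inr e
      · exact absurd e1 h64
    · rintro (rfl | rfl)
      · exact ⟨hy0, rfl⟩
      · exact ⟨neg_mem_Lf hy0, mk_neg_self (mem_Lf.mp hy0).1⟩
  rw [this, card_pair hne]

theorem card_Lf_two {N : ℕ} {hN : N ≤ 64} (h0 : 0 < N) (h64 : N ≠ 64) :
    (Lf N hN).card = 2 * (Cl N hN).card := by
  rw [card_eq_sum_card_image mk (Lf N hN)]
  unfold Cl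
  rw [Finset.sum_congr rfl (g := fun _ => 2), Finset.sum_const, smul_eq_mul, mul_comm]
  intro κ hκ
  obtain ⟨y0, hy0, rfl⟩ := mem_image.mp hκ
  exact fiber_two h0 h64 hy0

theorem fiber_le {y0 : G} (hy0 : y0 ∈ Lf 64 (le_refl _)) :
    ((Lf 64 (le_refl _)).filter fun y => mk y = mk y0).card ≤ 48 := by
  apply orth_bound
  · intro y hy
    have := (mem_Lf.mp (mem_filter.mp hy).1).2
    exact_mod_cast this
  · intro y hy y' hy'
    rw [mem_filter] at hy hy'
    rcases cong_cases hy.1 hy'.1 (hy.2.trans hy'.2.symm) with e | e | ⟨-, -, e⟩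
    · exact Or.inl e
    · exact Or.inr (Or.inl e)
    · exact Or.inr (Or.inr e)

theorem Cl_subset (N : ℕ) (hN : N ≤ 64) : Cl N hN ⊆ finite_QL.toFinset := by
  intro κ hκ
  obtain ⟨y, hy, rfl⟩ := mem_image.mp hκ
  rw [Set.Finite.mem_toFinset]
  exact ⟨y, (mem_Lf.mp hy).1, rfl⟩

theorem card_QLf : finite_QL.toFinset.card = 2 ^ 24 := by
  rw [← Set.ncard_eq_toFinset_card _ finite_QL, ← card_QL]
  exact (Nat.card_coe_set_eq _).symm

theorem card_Cl0 : (Cl 0 (by norm_num)).card = 1 := by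
  unfold Cl
  rw [Lf0, image_singleton, card_singleton]

theorem card_Cl32 : (Cl 32 (by norm_num)).card = 98280 := by
  have := card_Lf_two (N := 32) (hN := by norm_num) (by norm_num) (by norm_num)
  rw [card_Lf32] at this
  omega

theorem card_Cl48 : (Cl 48 (by norm_num)).card = 8386560 := by
  have := card_Lf_two (N := 48) (hN := by norm_num) (by norm_num) (by norm_num)
  rw [card_Lf48] at this
  omega

theorem card_Lf64_le : (Lf 64 (le_refl _)).card ≤ 48 * (Cl 64 (le_refl _)).card := by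
  rw [card_eq_sum_card_image mk (Lf 64 (le_refl _))]
  unfold Cl
  rw [mul_comm, ← smul_eq_mul, ← Finset.sum_const]
  apply Finset.sum_le_sum
  intro κ hκ
  obtain ⟨y0, hy0, rfl⟩ := mem_image.mp hκ
  exact fiber_le hy0

/-- the union of the four families of classes -/
noncomputable def ClU : Finset Q :=
  Cl 0 (by norm_num) ∪ Cl 32 (by norm_num) ∪ Cl 48 (by norm_num) ∪ Cl 64 (le_refl _)

theorem card_ClU : ClU.card = 1 + 98280 + 8386560 + (Cl 64 (le_refl _)).card := by
  unfold ClU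
  rw [card_union_of_disjoint, card_union_of_disjoint, card_union_of_disjoint, card_Cl0,
    card_Cl32, card_Cl48]
  · exact disjoint_Cl (by norm_num)
  · rw [disjoint_union_left]
    exact ⟨disjoint_Cl (by norm_num), disjoint_Cl (by norm_num)⟩
  · rw [disjoint_union_left, disjoint_union_left]
    exact ⟨⟨disjoint_Cl (by norm_num), disjoint_Cl (by norm_num)⟩, disjoint_Cl (by norm_num)⟩

theorem ClU_subset : ClU ⊆ finite_QL.toFinset := by
  unfold ClU
  intro κ hκ
  simp only [mem_union] at hκ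
  rcases hκ with ((h | h) | h) | h
  · exact Cl_subset _ _ h
  · exact Cl_subset _ _ h
  · exact Cl_subset _ _ h
  · exact Cl_subset _ _ h

theorem card_Cl64 : (Cl 64 (le_refl _)).card = 8292375 := by
  have h1 := card_le_card ClU_subset
  rw [card_ClU, card_QLf] at h1
  have h2 := card_Lf64_le
  have h3 : (Lf 64 (le_refl _)).card = 398034000 := card_Lf64
  rw [h3] at h2
  norm_num at h1
  omega

theorem ClU_eq : ClU = finite_QL.toFinset := by
  apply eq_of_subset_of_card_le ClU_subset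
  rw [card_ClU, card_QLf, card_Cl64]
  norm_num

/-- every class has a representative of sum of squares at most 64 -/
theorem exists_rep (x : G) (hx : x ∈ leechLattice) :
    ∃ y ∈ leechLattice, sqNorm y ≤ 64 ∧ ∃ z ∈ leechLattice, x - y = 2 • z := by
  have hmem : mk x ∈ ClU := by
    rw [ClU_eq, Set.Finite.mem_toFinset]
    exact ⟨x, hx, rfl⟩
  have key : ∀ (N : ℕ) (hN : N ≤ 64), mk x ∈ Cl N hN →
      ∃ y ∈ leechLattice, sqNorm y ≤ 64 ∧ ∃ z ∈ leechLattice, x - y = 2 • z := by
    intro N hN h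
    obtain ⟨y, hy, hyx⟩ := mem_image.mp h
    rw [mem_Lf] at hy
    refine ⟨y, hy.1, ?_, (mk_eq_iff x y).mp hyx.symm⟩
    rw [hy.2]
    exact_mod_cast hN
  unfold ClU at hmem
  simp only [mem_union] at hmem
  rcases hmem with ((h | h) | h) | h
  · exact key _ _ h
  · exact key _ _ h
  · exact key _ _ h
  · exact key _ _ h

theorem fiber_eq {y0 : G} (hy0 : y0 ∈ Lf 64 (le_refl _)) :
    ((Lf 64 (le_refl _)).filter fun y => mk y = mk y0).card = 48 := by
  have hsum : ∑ κ ∈ Cl 64 (le_refl _), ((Lf 64 (le_refl _)).filter fun y => mk y = κ).card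
      = ∑ _κ ∈ Cl 64 (le_refl _), 48 := by
    rw [Finset.sum_const, smul_eq_mul, card_Cl64]
    have := card_eq_sum_card_image mk (Lf 64 (le_refl _))
    unfold Cl
    rw [← this]
    exact card_Lf64
  have hle : ∀ κ ∈ Cl 64 (le_refl _),
      ((Lf 64 (le_refl _)).filter fun y => mk y = κ).card ≤ 48 := by
    intro κ hκ
    obtain ⟨y1, hy1, rfl⟩ := mem_image.mp hκ
    exact fiber_le hy1
  exact (Finset.sum_eq_sum_iff_of_le hle).mp hsum (mk y0) (mem_image_of_mem _ hy0)

theorem cross_card (x : G) (hx : x ∈ leechLattice) (hxn : sqNorm x = 64) :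
    (cross x).ncard = 48 := by
  have hx64 : x ∈ Lf 64 (le_refl _) := mem_Lf.mpr ⟨hx, by exact_mod_cast hxn⟩
  rw [← fiber_eq hx64, ← Set.ncard_coe_finset]
  congr 1
  ext y
  unfold cross
  simp only [Set.mem_setOf_eq, mem_coe, mem_filter, mem_Lf]
  rw [hxn, mk_eq_iff]
  constructor
  · rintro ⟨h1, h2, z, hz, h3⟩
    refine ⟨⟨h1, by exact_mod_cast h2⟩, -z, leechLattice.neg_mem hz, ?_⟩
    rw [smul_neg, ← h3]
    abel
  · rintro ⟨⟨h1, h2⟩, z, hz, h3⟩
    refine ⟨h1, by exact_mod_cast h2, -z, leechLattice.neg_mem hz, ?_⟩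
    rw [smul_neg, ← h3]
    abel

end count

end Cfsg.Agent.Lib.Helper9.LeechC8
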