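import Cfsg.Agent.Lib.Helper9.LeechC6

set_option autoImplicit false

/-! A totally singular sublattice of index `2^12` between twice the lattice and the lattice. -/

namespace Cfsg.Agent.Lib.Helper9.LeechC9

open Cfsg Finset Cfsg.Agent.Lib.Helper4.Leech Cfsg.Agent.Lib.Helper9.LeechC3
  Cfsg.Agent.Lib.Helper9.LeechC4 Cfsg.Agent.Lib.Helper9.LeechC2 Cfsg.Agent.Lib.Helper9.LeechC6

/-- lattice vectors all of whose entries are `0 mod 4`, or all `2 mod 4` -/
def A : AddSubgroup (GolayPt → ℤ) where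
  carrier := {x | x ∈ leechLattice ∧ ((∀ i, x i % 4 = 0) ∨ (∀ i, x i % 4 = 2))}
  zero_mem' := ⟨leechLattice.zero_mem, Or.inl fun _ => rfl⟩
  add_mem' := by
    rintro x y ⟨hx, hx'⟩ ⟨hy, hy'⟩
    refine ⟨leechLattice.add_mem hx hy, ?_⟩
    rcases hx' with h1 | h1 <;> rcases hy' with h2 | h2
    · left; intro i; have := h1 i; have := h2 i; simp only [Pi.add_apply]; omega
    · right; intro i; have := h1 i; have := h2 i; simp only [Pi.add_apply]; omega
    · right; intro i; have := h1 i; have := h2 i; simp only [Pi.add_apply]; omega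
    · left; intro i; have := h1 i; have := h2 i; simp only [Pi.add_apply]; omega
  neg_mem' := by
    rintro x ⟨hx, hx'⟩
    refine ⟨leechLattice.neg_mem hx, ?_⟩
    rcases hx' with h1 | h1
    · left; intro i; have := h1 i; simp only [Pi.neg_apply]; omega
    · right; intro i; have := h1 i; simp only [Pi.neg_apply]; omega

theorem mem_A (x : GolayPt → ℤ) :
    x ∈ A ↔ x ∈ leechLattice ∧ ((∀ i, x i % 4 = 0) ∨ (∀ i, x i % 4 = 2)) := Iff.rfl

theorem A_le : A ≤ leechLattice := fun _ hx => hx.1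

theorem two_mem (v : GolayPt → ℤ) (hv : v ∈ leechLattice) : (2 : ℤ) • v ∈ A := by
  refine ⟨leechLattice.zsmul_mem hv 2, ?_⟩
  rw [mem_leechLattice_iff, mem_leechSet_iff] at hv
  obtain ⟨m, h1, -, -⟩ := hv
  rcases Int.emod_two_eq_zero_or_one m with hm | hm
  · left
    intro i
    have : v i % 2 = m % 2 := h1 i
    simp only [Pi.smul_apply, smul_eq_mul]
    omega
  · right
    intro i
    have : v i % 2 = m % 2 := h1 i
    simp only [Pi.smul_apply, smul_eq_mul]
    omega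

theorem sq_mod_zero (a : ℤ) (h : a % 4 = 0) : (32 : ℤ) ∣ a ^ 2 - 4 * a := by
  obtain ⟨y, rfl⟩ : (4 : ℤ) ∣ a := Int.dvd_of_emod_eq_zero h
  rcases Int.even_or_odd' y with ⟨k, rfl | rfl⟩
  · exact ⟨2 * k ^ 2 - k, by ring⟩
  · exact ⟨2 * k ^ 2 + k, by ring⟩

theorem sq_mod_two (a : ℤ) (h : a % 4 = 2) : (32 : ℤ) ∣ a ^ 2 - 4 := by
  obtain ⟨y, hy⟩ : (4 : ℤ) ∣ a - 2 := Int.dvd_of_emod_eq_zero (by omega)
  have ha : a = 4 * y + 2 := by omega
  subst ha
  rcases Int.even_or_odd' y with ⟨k, rfl | rfl⟩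
  · exact ⟨2 * k ^ 2 + k, by ring⟩
  · exact ⟨2 * k ^ 2 + 3 * k + 1, by ring⟩

theorem norm_dvd (v : GolayPt → ℤ) (hv : v ∈ A) : (32 : ℤ) ∣ sqNorm v := by
  obtain ⟨hL, h | h⟩ := hv
  · have h8 : (∑ i, v i) % 8 = 0 := by
      obtain ⟨-, -, -, h4⟩ := fwd ((mem_leechLattice_iff v).mp hL)
      have hp : par v = 0 := by
        unfold par
        have := h none
        omega
      rw [hp] at h4
      omega
    have e : sqNorm v = ∑ i, (v i ^ 2 - 4 * v i) + 4 * ∑ i, v i := by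
      unfold sqNorm
      rw [Finset.mul_sum, ← Finset.sum_add_distrib]
      apply Finset.sum_congr rfl
      intro i _
      ring
    rw [e]
    apply dvd_add
    · exact Finset.dvd_sum fun i _ => sq_mod_zero _ (h i)
    · have : (8 : ℤ) ∣ ∑ i, v i := Int.dvd_of_emod_eq_zero h8
      obtain ⟨k, hk⟩ := this
      exact ⟨k, by rw [hk]; ring⟩
  · have e : sqNorm v = ∑ i, (v i ^ 2 - 4) + 96 := by
      unfold sqNorm
      rw [Finset.sum_sub_distrib, Finset.sum_const, card_univ,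
        Cfsg.Agent.Lib.Helper9.GolayQR5.card_golayPt]
      norm_num
    rw [e]
    apply dvd_add
    · exact Finset.dvd_sum fun i _ => sq_mod_two _ (h i)
    · exact ⟨3, by norm_num⟩

/-! ### index -/

theorem ker_le_A : red.ker ≤ A := by
  intro z hz
  refine ⟨ker_le hz, Or.inl fun i => ?_⟩
  have : red z i = 0 := by rw [AddMonoidHom.mem_ker.mp hz]; rfl
  rw [red_apply] at this
  have := (ZMod.intCast_zmod_eq_zero_iff_dvd (z i) 8).mp this
  omega

theorem card_map_gen (H : AddSubgroup (GolayPt → ℤ)) (hH : red.ker ≤ H) :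
    Nat.card (H.map red) = {x : GolayPt → ℤ | x ∈ H ∧ ∀ i, x i ∈ Icc (0 : ℤ) 7}.ncard := by
  have himg : red '' {x : GolayPt → ℤ | x ∈ H ∧ ∀ i, x i ∈ Icc (0 : ℤ) 7} = ↑(H.map red) := by
    ext y
    constructor
    · rintro ⟨x, hx, rfl⟩
      exact ⟨x, hx.1, rfl⟩
    · rintro ⟨x, hx, rfl⟩
      refine ⟨fun i => x i % 8, ⟨?_, fun i => ?_⟩, ?_⟩
      · have e : (fun i => x i % 8) = x - fun i => 8 * (x i / 8) := by
          ext i
          show x i % 8 = x i - 8 * (x i / 8)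
          omega
        rw [e]
        apply H.sub_mem hx
        apply hH
        rw [AddMonoidHom.mem_ker]
        ext i
        rw [red_apply]
        simp only [Int.cast_mul, Int.cast_ofNat, Pi.zero_apply]
        have : (8 : ZMod 8) = 0 := by decide
        rw [this, zero_mul]
      · rw [mem_Icc]
        show 0 ≤ x i % 8 ∧ x i % 8 ≤ 7
        have := Int.emod_nonneg (x i) (by norm_num : (8 : ℤ) ≠ 0)
        have := Int.emod_lt_of_pos (x i) (by norm_num : (0 : ℤ) < 8)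
        omega
      · ext i
        rw [red_apply, red_apply]
        exact ZMod.intCast_mod (x i) 8
  have hinj : Set.InjOn red {x : GolayPt → ℤ | x ∈ H ∧ ∀ i, x i ∈ Icc (0 : ℤ) 7} := by
    intro x hx y hy hxy
    ext i
    have h : red x i = red y i := by rw [hxy]
    rw [red_apply, red_apply, ZMod.intCast_eq_intCast_iff] at h
    have h1 := mem_Icc.mp (hx.2 i)
    have h2 := mem_Icc.mp (hy.2 i)
    have h3 : x i % 8 = y i % 8 := h
    omega
  rw [← Set.ncard_image_of_injOn hinj, himg]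
  exact (Nat.card_coe_set_eq _).symm

set_option maxRecDepth 100000 in
theorem TS_04 : TS ({0, 4} : Finset ℤ) kvI (range 169) = 2 ^ 23 := by
  decide +kernel

set_option maxRecDepth 100000 in
theorem TS_26 : TS ({2, 6} : Finset ℤ) kvI (range 169) = 2 ^ 23 := by
  decide +kernel

theorem sum_kvI_lt (x : GolayPt → ℤ) (h : ∀ i, x i ∈ Icc (0 : ℤ) 7) :
    ∑ i, kvI (x i) ∈ range 169 := by
  rw [mem_range]
  have : ∑ i, kvI (x i) ≤ ∑ _i : GolayPt, 7 := by
    apply Finset.sum_le_sum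
    intro i _
    have := mem_Icc.mp (h i)
    unfold kvI
    omega
  rw [Finset.sum_const, card_univ, Cfsg.Agent.Lib.Helper9.GolayQR5.card_golayPt] at this
  simp only [smul_eq_mul] at this
  omega

theorem count_U (U : Finset ℤ) (hU : U ⊆ Icc (0 : ℤ) 7) :
    {x : GolayPt → ℤ | x ∈ leechLattice ∧ ∀ i, x i ∈ U}.ncard = TS U kvI (range 169) := by
  rw [← count_TS U kvI (fun a ha => kvI_congr a (hU ha)) (range 169)
    (card_pow_lt U (hU.trans (by decide)))]
  congr 1
  ext x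
  simp only [Set.mem_setOf_eq, mem_leechLattice_iff]
  constructor
  · rintro ⟨h1, h2⟩
    exact ⟨h1, h2, sum_kvI_lt x fun i => hU (h2 i)⟩
  · rintro ⟨h1, h2, -⟩
    exact ⟨h1, h2⟩

theorem box_A : {x : GolayPt → ℤ | x ∈ A ∧ ∀ i, x i ∈ Icc (0 : ℤ) 7}.ncard = 2 ^ 24 := by
  have hsplit : {x : GolayPt → ℤ | x ∈ A ∧ ∀ i, x i ∈ Icc (0 : ℤ) 7}
      = {x : GolayPt → ℤ | x ∈ leechLattice ∧ ∀ i, x i ∈ ({0, 4} : Finset ℤ)}
        ∪ {x : GolayPt → ℤ | x ∈ leechLattice ∧ ∀ i, x i ∈ ({2, 6} : Finset ℤ)} := by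
    ext x
    simp only [Set.mem_setOf_eq, Set.mem_union, mem_A, mem_insert, mem_singleton, mem_Icc]
    constructor
    · rintro ⟨⟨hL, h | h⟩, hb⟩
      · left
        refine ⟨hL, fun i => ?_⟩
        have := h i; have := hb i; omega
      · right
        refine ⟨hL, fun i => ?_⟩
        have := h i; have := hb i; omega
    · rintro (⟨hL, h⟩ | ⟨hL, h⟩)
      · refine ⟨⟨hL, Or.inl fun i => ?_⟩, fun i => ?_⟩
        · rcases h i with e | e <;> rw [e] <;> rfl
        · rcases h i with e | e <;> rw [e] <;> norm_num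
      · refine ⟨⟨hL, Or.inr fun i => ?_⟩, fun i => ?_⟩
        · rcases h i with e | e <;> rw [e] <;> rfl
        · rcases h i with e | e <;> rw [e] <;> norm_num
  have hfin : ∀ U : Finset ℤ, {x : GolayPt → ℤ | x ∈ leechLattice ∧ ∀ i, x i ∈ U}.Finite := by
    intro U
    apply Set.Finite.subset (s := ↑(Fintype.piFinset fun _ : GolayPt => U)) (Finset.finite_toSet _)
    intro x hx
    rw [mem_coe, Fintype.mem_piFinset]
    exact hx.2
  have hdisj : Disjoint {x : GolayPt → ℤ | x ∈ leechLattice ∧ ∀ i, x i ∈ ({0, 4} : Finset ℤ)}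
      {x : GolayPt → ℤ | x ∈ leechLattice ∧ ∀ i, x i ∈ ({2, 6} : Finset ℤ)} := by
    rw [Set.disjoint_left]
    rintro x ⟨-, h1⟩ ⟨-, h2⟩
    have a := h1 none
    have b := h2 none
    simp only [mem_insert, mem_singleton] at a b
    omega
  rw [hsplit, Set.ncard_union_eq hdisj (hfin _) (hfin _), count_U _ (by decide),
    count_U _ (by decide), TS_04, TS_26]
  norm_num

theorem index_A : A.index = 2 ^ 48 := by
  rw [← AddSubgroup.index_map_eq _ red_surj ker_le_A]
  have h := AddSubgroup.card_mul_index (A.map red)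
  rw [card_map_gen A ker_le_A, box_A] at h
  have hc : Nat.card (GolayPt → ZMod 8) = 2 ^ 24 * 2 ^ 48 := by
    rw [Nat.card_fun, Nat.card_zmod, Nat.card_eq_fintype_card,
      Cfsg.Agent.Lib.Helper9.GolayQR5.card_golayPt]
    norm_num
  rw [hc] at h
  exact Nat.eq_of_mul_eq_mul_left (by norm_num) h

theorem relIndex_A : (A.addSubgroupOf leechLattice).index = 2 ^ 12 := by
  have h := AddSubgroup.relIndex_mul_index A_le
  rw [index_A, index_eq] at h
  have h' : A.relIndex leechLattice * 2 ^ 36 = 2 ^ 12 * 2 ^ 36 := by rw [h]; norm_num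
  exact Nat.eq_of_mul_eq_mul_right (by norm_num) h'

theorem main : ∃ A : AddSubgroup (GolayPt → ℤ), A ≤ leechLattice ∧
    (∀ v ∈ leechLattice, (2 : ℤ) • v ∈ A) ∧ (A.addSubgroupOf leechLattice).index = 2 ^ 12 ∧
    ∀ v ∈ A, (32 : ℤ) ∣ sqNorm v :=
  ⟨A, A_le, two_mem, relIndex_A, norm_dvd⟩

end Cfsg.Agent.Lib.Helper9.LeechC9
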