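import Cfsg.Agent.Lib.Helper9.LeechC9
import Cfsg.Agent.S0359

set_option autoImplicit false

/-! Counting coordinates of lattice vectors by absolute value, and the resulting shape
classification of short vectors. -/

namespace Cfsg.Agent.Lib.Helper9.LeechX5

open Cfsg Finset Cfsg.Agent.Lib.Helper4.Leech Cfsg.Agent.Lib.Helper9.Golay1
open Cfsg.Agent.Lib.Helper9.LeechC2 (fwd bwd par cl mem_lev')

/-- number of coordinates of absolute value `k` -/
def cnt (x : GolayPt → ℤ) (k : ℤ) : ℕ := (univ.filter fun i => |x i| = k).card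

theorem card_pts : Fintype.card GolayPt = 24 := by decide

theorem sq_decomp' (x : GolayPt → ℤ) (hb : ∀ i, |x i| ≤ 8) :
    sqNorm x = ∑ k ∈ range 9, (k : ℤ) ^ 2 * (cnt x k : ℤ) := by
  have h1 : ∀ i, x i ^ 2 = ∑ k ∈ range 9, if |x i| = (k : ℤ) then (k : ℤ) ^ 2 else 0 := by
    intro i
    have hk : ((|x i|).toNat : ℤ) = |x i| := Int.toNat_of_nonneg (abs_nonneg _)
    have hlt : (|x i|).toNat < 9 := by
      have := hb i
      omega
    rw [Finset.sum_eq_single_of_mem ((|x i|).toNat) (mem_range.mpr hlt)]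
    · rw [if_pos hk.symm, hk, sq_abs]
    · intro b _ hne
      rw [if_neg]
      intro h
      apply hne
      omega
  unfold sqNorm
  simp_rw [h1]
  rw [Finset.sum_comm]
  apply Finset.sum_congr rfl
  intro k _
  rw [Finset.sum_ite, Finset.sum_const_zero, add_zero, Finset.sum_const, nsmul_eq_mul]
  unfold cnt
  ring

theorem cnt_total' (x : GolayPt → ℤ) (hb : ∀ i, |x i| ≤ 8) :
    ∑ k ∈ range 9, cnt x (k : ℤ) = 24 := by
  have h1 : ∀ i : GolayPt, (1 : ℕ) = ∑ k ∈ range 9, if |x i| = (k : ℤ) then 1 else 0 := by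
    intro i
    have hk : ((|x i|).toNat : ℤ) = |x i| := Int.toNat_of_nonneg (abs_nonneg _)
    have hlt : (|x i|).toNat < 9 := by
      have := hb i
      omega
    rw [Finset.sum_eq_single_of_mem ((|x i|).toNat) (mem_range.mpr hlt)]
    · rw [if_pos hk.symm]
    · intro b _ hne
      rw [if_neg]
      intro h
      apply hne
      omega
  have h2 : ∑ i : GolayPt, (1 : ℕ) = 24 := by
    rw [Finset.sum_const, Finset.card_univ, card_pts]
    rfl
  rw [← h2, Finset.sum_congr rfl (fun i _ => h1 i)]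
  rw [Finset.sum_comm]
  apply Finset.sum_congr rfl
  intro k _
  unfold cnt
  rw [Finset.sum_ite, Finset.sum_const_zero, add_zero, Finset.sum_const, smul_eq_mul, mul_one]

theorem sq_decomp (x : GolayPt → ℤ) (hb : ∀ i, |x i| ≤ 8) :
    sqNorm x = (cnt x 1 : ℤ) + 4 * cnt x 2 + 9 * cnt x 3 + 16 * cnt x 4 + 25 * cnt x 5
      + 36 * cnt x 6 + 49 * cnt x 7 + 64 * cnt x 8 := by
  rw [sq_decomp' x hb]
  simp only [Finset.sum_range_succ, Finset.sum_range_zero]
  push_cast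
  ring

theorem cnt_total (x : GolayPt → ℤ) (hb : ∀ i, |x i| ≤ 8) :
    cnt x 0 + cnt x 1 + cnt x 2 + cnt x 3 + cnt x 4 + cnt x 5 + cnt x 6 + cnt x 7 + cnt x 8
      = 24 := by
  have h := cnt_total' x hb
  simp only [Finset.sum_range_succ, Finset.sum_range_zero] at h
  push_cast at h
  omega

theorem abs_bound (x : GolayPt → ℤ) (N : ℤ) (hN : N ≤ 64) (hx : sqNorm x = N) (i : GolayPt) :
    |x i| ≤ 8 := by
  have h := Cfsg.Agent.Lib.Helper9.LeechC4.entry_bound x N hN hx i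
  rw [mem_Icc] at h
  rw [abs_le]
  exact h

theorem cnt_eq_zero (x : GolayPt → ℤ) (k : ℤ) (h : ∀ i, |x i| ≠ k) : cnt x k = 0 := by
  unfold cnt
  rw [Finset.card_eq_zero, Finset.filter_eq_empty_iff]
  intro i _
  exact h i

/-- odd vectors have no even coordinates -/
theorem cnt_odd (x : GolayPt → ℤ) (h : ∀ i, x i % 2 = 1) :
    cnt x 0 = 0 ∧ cnt x 2 = 0 ∧ cnt x 4 = 0 ∧ cnt x 6 = 0 ∧ cnt x 8 = 0 := by
  refine ⟨?_, ?_, ?_, ?_, ?_⟩ <;>
  · apply cnt_eq_zero
    intro i hi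
    have := h i
    rcases abs_cases (x i) with ⟨h1, -⟩ | ⟨h1, -⟩ <;> omega

/-- even vectors have no odd coordinates -/
theorem cnt_even (x : GolayPt → ℤ) (h : ∀ i, x i % 2 = 0) :
    cnt x 1 = 0 ∧ cnt x 3 = 0 ∧ cnt x 5 = 0 ∧ cnt x 7 = 0 := by
  refine ⟨?_, ?_, ?_, ?_⟩ <;>
  · apply cnt_eq_zero
    intro i hi
    have := h i
    rcases abs_cases (x i) with ⟨h1, -⟩ | ⟨h1, -⟩ <;> omega

/-- the codeword of an even vector consists of the coordinates of absolute value 2 or 6 -/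
theorem card_cl_even (x : GolayPt → ℤ) (hb : ∀ i, |x i| ≤ 8) (hp : par x = 0) :
    (cl x).card = cnt x 2 + cnt x 6 := by
  unfold cnt
  rw [← Finset.card_union_of_disjoint]
  · congr 1
    ext i
    unfold cl
    rw [mem_lev', hp, mem_union, mem_filter, mem_filter]
    simp only [mem_univ, true_and]
    have := hb i
    rcases abs_cases (x i) with ⟨h1, h2⟩ | ⟨h1, h2⟩ <;> omega
  · rw [Finset.disjoint_filter]
    intro i _ h1 h2
    omega

theorem card_cl_cases (x : GolayPt → ℤ) (hx : x ∈ leechSet) :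
    (cl x).card = 0 ∨ (cl x).card = 8 ∨ (cl x).card = 12 ∨ (cl x).card = 16 ∨
      (cl x).card = 24 := by
  obtain ⟨-, hc, -, -⟩ := fwd hx
  have h := Cfsg.Agent.S0359.result _ hc
  rw [wt_ind] at h
  exact h

/-- basic data of a short lattice vector -/
theorem short_data (x : GolayPt → ℤ) (hx : x ∈ leechLattice) (N : ℤ) (hN : N ≤ 64)
    (hn : sqNorm x = N) :
    (par x = 1 ∧ (∀ i, x i % 2 = 1) ∧ cnt x 0 = 0 ∧ cnt x 2 = 0 ∧ cnt x 4 = 0 ∧ cnt x 6 = 0 ∧
        cnt x 8 = 0 ∧ cnt x 1 + cnt x 3 + cnt x 5 + cnt x 7 = 24 ∧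
        N = (cnt x 1 : ℤ) + 9 * cnt x 3 + 25 * cnt x 5 + 49 * cnt x 7) ∨
    (par x = 0 ∧ (∀ i, x i % 2 = 0) ∧ cnt x 1 = 0 ∧ cnt x 3 = 0 ∧ cnt x 5 = 0 ∧ cnt x 7 = 0 ∧
        cnt x 0 + cnt x 2 + cnt x 4 + cnt x 6 + cnt x 8 = 24 ∧
        N = 4 * (cnt x 2 : ℤ) + 16 * cnt x 4 + 36 * cnt x 6 + 64 * cnt x 8 ∧
        (cl x).card = cnt x 2 + cnt x 6 ∧
        ((cl x).card = 0 ∨ (cl x).card = 8 ∨ (cl x).card = 12 ∨ (cl x).card = 16 ∨
          (cl x).card = 24) ∧ ((cl x).card = 0 → (32 : ℤ) ∣ N)) := by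
  have hb := abs_bound x N hN hn
  have hs := sq_decomp x hb
  have ht := cnt_total x hb
  rw [hn] at hs
  have hx' := (mem_leechLattice_iff x).mp hx
  obtain ⟨hμ, hc, hx4, hsum⟩ := fwd hx'
  rcases hμ with hp | hp
  · right
    have he : ∀ i, x i % 2 = 0 := by
      intro i
      have := hx4 i
      rw [hp] at this
      split_ifs at this <;> omega
    obtain ⟨c1, c3, c5, c7⟩ := cnt_even x he
    refine ⟨hp, he, c1, c3, c5, c7, by omega, by omega, card_cl_even x hb hp,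
      card_cl_cases x hx', ?_⟩
    intro h0
    rw [← hn]
    apply Cfsg.Agent.Lib.Helper9.LeechC9.norm_dvd
    refine ⟨hx, Or.inl fun i => ?_⟩
    have := hx4 i
    rw [Finset.card_eq_zero] at h0
    rw [h0, hp] at this
    simpa using this
  · left
    have ho : ∀ i, x i % 2 = 1 := by
      intro i
      have := hx4 i
      rw [hp] at this
      split_ifs at this <;> omega
    obtain ⟨c0, c2, c4, c6, c8⟩ := cnt_odd x ho
    exact ⟨hp, ho, c0, c2, c4, c6, c8, by omega, by omega⟩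

/-- shapes of the vectors of sum of squares 32 -/
theorem shapes32 (x : GolayPt → ℤ) (hx : x ∈ leechLattice) (hn : sqNorm x = 32) :
    (par x = 0 ∧ cnt x 4 = 2 ∧ cnt x 0 = 22) ∨
    (par x = 0 ∧ cnt x 2 = 8 ∧ cnt x 0 = 16 ∧ (cl x).card = 8) ∨
    (par x = 1 ∧ cnt x 3 = 1 ∧ cnt x 1 = 23) := by
  rcases short_data x hx 32 (by norm_num) hn with
    ⟨hp, -, -, -, -, -, -, h1, h2⟩ | ⟨hp, -, -, -, -, -, h1, h2, h3, h4, h5⟩
  · right; right
    omega
  · rcases h4 with h | h | h | h | h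
    · have := h5 h
      left
      omega
    · right; left
      omega
    · omega
    · omega
    · omega

/-- shapes of the vectors of sum of squares 48 -/
theorem shapes48 (x : GolayPt → ℤ) (hx : x ∈ leechLattice) (hn : sqNorm x = 48) :
    (par x = 0 ∧ cnt x 2 = 12 ∧ cnt x 0 = 12 ∧ (cl x).card = 12) ∨
    (par x = 0 ∧ cnt x 4 = 1 ∧ cnt x 2 = 8 ∧ cnt x 0 = 15 ∧ (cl x).card = 8) ∨
    (par x = 1 ∧ cnt x 3 = 3 ∧ cnt x 1 = 21) ∨
    (par x = 1 ∧ cnt x 5 = 1 ∧ cnt x 1 = 23) := by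
  rcases short_data x hx 48 (by norm_num) hn with
    ⟨hp, -, -, -, -, -, -, h1, h2⟩ | ⟨hp, -, -, -, -, -, h1, h2, h3, h4, h5⟩
  · right; right
    omega
  · rcases h4 with h | h | h | h | h
    · have := h5 h
      omega
    · right; left
      omega
    · left
      omega
    · omega
    · omega

/-- shapes of the vectors of sum of squares 64 -/
theorem shapes64 (x : GolayPt → ℤ) (hx : x ∈ leechLattice) (hn : sqNorm x = 64) :
    (par x = 0 ∧ cnt x 8 = 1 ∧ cnt x 0 = 23) ∨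
    (par x = 0 ∧ cnt x 4 = 4 ∧ cnt x 0 = 20) ∨
    (par x = 0 ∧ cnt x 6 = 1 ∧ cnt x 2 = 7 ∧ cnt x 0 = 16 ∧ (cl x).card = 8) ∨
    (par x = 0 ∧ cnt x 4 = 2 ∧ cnt x 2 = 8 ∧ cnt x 0 = 14 ∧ (cl x).card = 8) ∨
    (par x = 0 ∧ cnt x 4 = 1 ∧ cnt x 2 = 12 ∧ cnt x 0 = 11 ∧ (cl x).card = 12) ∨
    (par x = 0 ∧ cnt x 2 = 16 ∧ cnt x 0 = 8 ∧ (cl x).card = 16) ∨
    (par x = 1 ∧ cnt x 3 = 5 ∧ cnt x 1 = 19) ∨
    (par x = 1 ∧ cnt x 5 = 1 ∧ cnt x 3 = 2 ∧ cnt x 1 = 21) := by
  rcases short_data x hx 64 (by norm_num) hn with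
    ⟨hp, -, -, -, -, -, -, h1, h2⟩ | ⟨hp, -, -, -, -, -, h1, h2, h3, h4, h5⟩
  · have h6 : (cnt x 5 = 0 ∧ cnt x 3 = 5) ∨ (cnt x 5 = 1 ∧ cnt x 3 = 2) := by omega
    rcases h6 with h6 | h6
    · right; right; right; right; right; right; left
      omega
    · right; right; right; right; right; right; right
      omega
  · rcases h4 with h | h | h | h | h
    · have h6 : (cnt x 8 = 1 ∧ cnt x 4 = 0) ∨ (cnt x 8 = 0 ∧ cnt x 4 = 4) := by omega
      rcases h6 with h6 | h6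
      · left
        omega
      · right; left
        omega
    · have h6 : (cnt x 6 = 1 ∧ cnt x 4 = 0) ∨ (cnt x 6 = 0 ∧ cnt x 4 = 2) := by omega
      rcases h6 with h6 | h6
      · right; right; left
        omega
      · right; right; right; left
        omega
    · right; right; right; right; left
      omega
    · right; right; right; right; right; left
      omega
    · omega

end Cfsg.Agent.Lib.Helper9.LeechX5
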