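import Cfsg.Agent.Lib.Helper9.LeechX4
import Cfsg.Agent.Lib.Helper9.LeechX5

set_option autoImplicit false

/-! Fixing signs of lattice vectors by sign changes on codewords. -/

namespace Cfsg.Agent.Lib.Helper9.LeechX6

open Cfsg Finset Cfsg.Agent.Lib.Helper4.Leech Cfsg.Agent.Lib.Helper9.Golay1
  Cfsg.Agent.Lib.Helper9.LeechM1 Cfsg.Agent.Lib.Helper9.LeechX4
open Cfsg.Agent.Lib.Helper9.LeechC2 (fwd bwd par cl mem_lev')
open scoped symmDiff

theorem mem_Code_iff (c : Finset GolayPt) : c ∈ Code ↔ ind c ∈ golayCode :=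
  mem_supports_iff _ c

theorem ind_symmDiff (s t : Finset GolayPt) : ind (s ∆ t) = ind s + ind t := by
  funext i
  simp only [ind, Pi.add_apply, Finset.mem_symmDiff]
  by_cases hs : i ∈ s <;> by_cases ht : i ∈ t <;> simp [hs, ht]
  decide

theorem symmDiff_mem_Code {s t : Finset GolayPt} (hs : s ∈ Code) (ht : t ∈ Code) :
    s ∆ t ∈ Code := by
  rw [mem_Code_iff] at *
  rw [ind_symmDiff]
  exact golayCode.add_mem hs ht

theorem lev_mem_Code (x : GolayPt → ℤ) (hx : x ∈ leechLattice) (k : ℤ) : lev x k ∈ Code := by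
  rw [mem_Code_iff]
  rw [mem_leechLattice_iff, mem_leechSet_iff] at hx
  obtain ⟨m, -, -, h⟩ := hx
  exact h k

/-- parity of all coordinates of an odd vector -/
theorem odd_of_par (x : GolayPt → ℤ) (hx : x ∈ leechLattice) (hp : par x = 1) (i : GolayPt) :
    x i % 2 = 1 := by
  obtain ⟨-, -, hx4, -⟩ := fwd ((mem_leechLattice_iff x).mp hx)
  have := hx4 i
  rw [hp] at this
  split_ifs at this <;> omega

theorem even_of_par (x : GolayPt → ℤ) (hx : x ∈ leechLattice) (hp : par x = 0) (i : GolayPt) :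
    x i % 2 = 0 := by
  obtain ⟨-, -, hx4, -⟩ := fwd ((mem_leechLattice_iff x).mp hx)
  have := hx4 i
  rw [hp] at this
  split_ifs at this <;> omega

theorem sum_of_par_zero (x : GolayPt → ℤ) (hx : x ∈ leechLattice) (hp : par x = 0) :
    (∑ i, x i) % 8 = 0 := by
  obtain ⟨-, -, -, h⟩ := fwd ((mem_leechLattice_iff x).mp hx)
  rw [hp] at h
  omega

/-- two odd lattice vectors with the same absolute values differ by a sign change -/
theorem sign_fix_odd (w r : leechLattice) (hw : par w.1 = 1) (hr : par r.1 = 1)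
    (habs : ∀ i, |w.1 i| = |r.1 i|) : RelN w r := by
  have hc : lev w.1 1 ∆ lev r.1 1 ∈ Code :=
    symmDiff_mem_Code (lev_mem_Code w.1 w.2 1) (lev_mem_Code r.1 r.2 1)
  have e : eps _ hc w = r := by
    apply Subtype.ext
    funext i
    rw [eps_val]
    have h1 := odd_of_par w.1 w.2 hw i
    have h2 := odd_of_par r.1 r.2 hr i
    have h3 := habs i
    simp only [Finset.mem_symmDiff, mem_lev']
    rcases abs_cases (w.1 i) with ⟨a1, a2⟩ | ⟨a1, a2⟩ <;>
      rcases abs_cases (r.1 i) with ⟨b1, b2⟩ | ⟨b1, b2⟩ <;>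
      split_ifs with hh <;> omega
  rw [← e]
  exact relN_eps _ hc w

/-- the set of coordinates where two vectors differ, inside a given set -/
def D (Y : Finset GolayPt) (w r : GolayPt → ℤ) : Finset GolayPt := Y.filter fun i => w i ≠ r i

theorem eq_of_D_empty (r w : leechLattice) (Y : Finset GolayPt)
    (hY : ∀ i, r.1 i ≠ 0 → i ∈ Y) (habs : ∀ i, |w.1 i| = |r.1 i|)
    (hD : D Y w.1 r.1 = ∅) : w = r := by
  apply Subtype.ext
  funext i
  by_cases h0 : r.1 i = 0
  · have := habs i
    rw [h0, abs_zero, abs_eq_zero] at this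
    rw [this, h0]
  · by_contra hne
    have : i ∈ D Y w.1 r.1 := mem_filter.mpr ⟨hY i h0, hne⟩
    rw [hD] at this
    exact absurd this (notMem_empty i)

theorem abs_eps (c : Finset GolayPt) (hc : c ∈ Code) (w : leechLattice) (i : GolayPt) :
    |(eps c hc w).1 i| = |w.1 i| := by
  rw [eps_val]
  split_ifs
  · exact abs_neg _
  · rfl

/-- two even lattice vectors with the same absolute values differ by a sign change, provided
the code has enough words meeting the support suitably -/
theorem sign_fix_even (r : leechLattice) (Y1 Y2 : Finset GolayPt) (hpar : par r.1 = 0)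
    (hY : ∀ i, r.1 i ≠ 0 → i ∈ Y1 ∪ Y2)
    (h1 : ∀ a ∈ Y1, ∃ c ∈ Code, ∀ i ∈ Y1 ∪ Y2, (i ∈ c ↔ i = a))
    (h2 : ∀ a ∈ Y2, ∀ b ∈ Y2, a ≠ b → ∃ c ∈ Code, ∀ i ∈ Y1 ∪ Y2, (i ∈ c ↔ i = a ∨ i = b))
    (hodd : ∀ a ∈ Y2, r.1 a % 4 = 2) :
    ∀ (n : ℕ) (w : leechLattice), (∀ i, |w.1 i| = |r.1 i|) → (D (Y1 ∪ Y2) w.1 r.1).card = n →
      RelN w r := by
  intro n
  induction n using Nat.strong_induction_on with
  | _ n ih =>
    intro w habs hn
    by_cases hD : D (Y1 ∪ Y2) w.1 r.1 = ∅
    · rw [eq_of_D_empty r w _ hY habs hD]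
      exact RelN.refl r
    obtain ⟨a, ha⟩ := Finset.nonempty_iff_ne_empty.mpr hD
    have haY : a ∈ Y1 ∪ Y2 := (mem_filter.mp ha).1
    have hane : w.1 a ≠ r.1 a := (mem_filter.mp ha).2
    -- flipping along a codeword with prescribed trace
    have step : ∀ (c : Finset GolayPt) (hc : c ∈ Code) (T : Finset GolayPt),
        T ⊆ D (Y1 ∪ Y2) w.1 r.1 → T.Nonempty →
        (∀ i ∈ Y1 ∪ Y2, (i ∈ c ↔ i ∈ T)) → RelN w r := by
      intro c hc T hT hTne hcT
      have hlt : (D (Y1 ∪ Y2) (eps c hc w).1 r.1).card < n := by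
        rw [← hn]
        apply Finset.card_lt_card
        rw [Finset.ssubset_iff_of_subset]
        · obtain ⟨t, ht⟩ := hTne
          refine ⟨t, hT ht, ?_⟩
          intro h
          have htY : t ∈ Y1 ∪ Y2 := (mem_filter.mp (hT ht)).1
          have h3 := (mem_filter.mp h).2
          have h4 := (mem_filter.mp (hT ht)).2
          rw [eps_val, if_pos ((hcT t htY).mpr ht)] at h3
          have h5 := habs t
          rcases abs_cases (w.1 t) with ⟨a1, a2⟩ | ⟨a1, a2⟩ <;>
            rcases abs_cases (r.1 t) with ⟨b1, b2⟩ | ⟨b1, b2⟩ <;> omega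
        · intro i hi
          have hiY : i ∈ Y1 ∪ Y2 := (mem_filter.mp hi).1
          have h3 := (mem_filter.mp hi).2
          refine mem_filter.mpr ⟨hiY, ?_⟩
          rw [eps_val] at h3
          by_cases hic : i ∈ c
          · exact (mem_filter.mp (hT ((hcT i hiY).mp hic))).2
          · rwa [if_neg hic] at h3
      exact (relN_eps c hc w).trans
        (ih _ hlt (eps c hc w) (fun i => (abs_eps c hc w i).trans (habs i)) rfl)
    by_cases hex : ∃ a' ∈ D (Y1 ∪ Y2) w.1 r.1, a' ∈ Y1
    · obtain ⟨a', ha', ha1⟩ := hex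
      obtain ⟨c, hc, hcT⟩ := h1 a' ha1
      refine step c hc {a'} (by simpa using ha') ⟨a', mem_singleton_self _⟩ ?_
      intro i hi
      rw [hcT i hi, mem_singleton]
    · push_neg at hex
      have hY2 : ∀ i ∈ D (Y1 ∪ Y2) w.1 r.1, i ∈ Y2 := by
        intro i hi
        have := (mem_filter.mp hi).1
        rcases mem_union.mp this with h | h
        · exact absurd h (hex i hi)
        · exact h
      by_cases hb : ∃ b ∈ D (Y1 ∪ Y2) w.1 r.1, b ≠ a
      · obtain ⟨b, hb, hba⟩ := hb
        obtain ⟨c, hc, hcT⟩ := h2 a (hY2 a ha) b (hY2 b hb) (Ne.symm hba)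
        refine step c hc {a, b} ?_ ⟨a, by simp⟩ ?_
        · intro i hi
          rcases mem_insert.mp hi with rfl | hi
          · exact ha
          · rw [mem_singleton] at hi
            rw [hi]
            exact hb
        · intro i hi
          rw [hcT i hi]
          simp
      · push_neg at hb
        exfalso
        -- only `a` differs: contradiction with the sums
        have hs1 := sum_of_par_zero r.1 r.2 hpar
        have hpw : par w.1 = 0 := by
          have h0 := even_of_par r.1 r.2 hpar none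
          have h1 := habs none
          unfold par
          rcases abs_cases (w.1 none) with ⟨a1, a2⟩ | ⟨a1, a2⟩ <;>
            rcases abs_cases (r.1 none) with ⟨b1, b2⟩ | ⟨b1, b2⟩ <;> omega
        have hs2 := sum_of_par_zero w.1 w.2 hpw
        have hdiff : ∑ i, (w.1 i - r.1 i) = w.1 a - r.1 a := by
          apply Finset.sum_eq_single a
          · intro i _ hia
            by_contra hne
            have hne' : w.1 i ≠ r.1 i := fun h => hne (by rw [h, sub_self])
            have hr0 : r.1 i ≠ 0 := by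
              intro h0
              have := habs i
              rw [h0, abs_zero, abs_eq_zero] at this
              exact hne' (by rw [this, h0])
            exact hia (hb i (mem_filter.mpr ⟨hY i hr0, hne'⟩))
          · intro h
            exact absurd (mem_univ a) h
        rw [Finset.sum_sub_distrib] at hdiff
        have h4 := hodd a (hY2 a ha)
        have h5 := habs a
        rcases abs_cases (w.1 a) with ⟨a1, a2⟩ | ⟨a1, a2⟩ <;>
          rcases abs_cases (r.1 a) with ⟨b1, b2⟩ | ⟨b1, b2⟩ <;> omega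

end Cfsg.Agent.Lib.Helper9.LeechX6
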