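import Cfsg.Agent.Lib.Helper9.LeechC4
import Cfsg.Agent.Lib.Helper9.LeechX6
import Cfsg.Agent.Lib.Helper9.M24T7
import Cfsg.Agent.Lib.Helper9.M24X1

set_option autoImplicit false

/-! Codewords through a fixed point: the refined weight enumerator, by double counting and
point-transitivity. -/

namespace Cfsg.Agent.Lib.Helper9.LeechD1

open Cfsg Finset Cfsg.Agent.Lib.Helper9.Golay1 Cfsg.Agent.Lib.Helper4.Leech
  Cfsg.Agent.Lib.Helper9.LeechC2 Cfsg.Agent.Lib.Helper9.LeechM1
open scoped Pointwise

theorem smul_mem_codeS (g : Equiv.Perm GolayPt) (hg : g ∈ M24) (c : Finset GolayPt) :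
    g • c ∈ codeS ↔ c ∈ codeS := by
  rw [mem_codeS, mem_codeS, ← Cfsg.Agent.Lib.Helper9.LeechX6.mem_Code_iff,
    ← Cfsg.Agent.Lib.Helper9.LeechX6.mem_Code_iff]
  have h : g • (Code : Set (Finset GolayPt)) = Code := MulAction.mem_stabilizer_iff.mp hg
  constructor
  · intro h1
    rw [← h] at h1
    exact (Set.smul_mem_smul_set_iff).mp h1
  · intro h1
    rw [← h]
    exact Set.smul_mem_smul_set h1

/-- the weighted number of codewords through `p` does not depend on `p` -/
theorem sum_through (h : ℕ → ℕ) (p : GolayPt) :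
    ∑ c ∈ codeS, (if p ∈ c then h c.card else 0)
      = ∑ c ∈ codeS, (if (none : GolayPt) ∈ c then h c.card else 0) := by
  obtain ⟨g, hg, hgp⟩ := Cfsg.Agent.Lib.Helper9.M24T7.exists_mapn 1 (by norm_num) (fun _ => p)
    (by intro i hi j hj _; omega)
  have hg0 : g none = p := hgp 0 (by norm_num)
  symm
  refine Finset.sum_bij' (fun c _ => g • c) (fun c _ => g⁻¹ • c) ?_ ?_ ?_ ?_ ?_
  · intro c hc
    exact (smul_mem_codeS g hg c).mpr hc
  · intro c hc
    exact (smul_mem_codeS g⁻¹ (M24.inv_mem hg) c).mpr hc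
  · intro c _
    exact inv_smul_smul g c
  · intro c _
    exact smul_inv_smul g c
  · intro c _
    have h1 : (p ∈ g • c) ↔ (none : GolayPt) ∈ c := by
      rw [← hg0]
      exact Cfsg.Agent.Lib.Helper9.M24X1.smul_mem_iff g none c
    have h2 : (g • c).card = c.card := Finset.card_smul_finset g c
    simp only [h1, h2]

theorem sum_in (h : ℕ → ℕ) :
    ∑ c ∈ codeS, (if (none : GolayPt) ∈ c then h c.card else 0)
      = 253 * h 8 + 1288 * h 12 + 506 * h 16 + h 24 := by
  have h1 : ∑ p : GolayPt, ∑ c ∈ codeS, (if p ∈ c then h c.card else 0)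
      = ∑ c ∈ codeS, c.card * h c.card := by
    rw [Finset.sum_comm]
    apply Finset.sum_congr rfl
    intro c _
    rw [← Finset.sum_filter, Finset.sum_const, smul_eq_mul]
    congr 2
    ext i; simp
  have h2 : ∑ p : GolayPt, ∑ c ∈ codeS, (if p ∈ c then h c.card else 0)
      = 24 * ∑ c ∈ codeS, (if (none : GolayPt) ∈ c then h c.card else 0) := by
    rw [Finset.sum_congr rfl (fun p _ => sum_through h p), Finset.sum_const, smul_eq_mul,
      card_univ, Cfsg.Agent.Lib.Helper9.GolayQR5.card_golayPt]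
  rw [h2, sum_code (fun w => w * h w)] at h1
  omega

theorem sum_out (h : ℕ → ℕ) :
    ∑ c ∈ codeS, (if (none : GolayPt) ∈ c then 0 else h c.card)
      = h 0 + 506 * h 8 + 1288 * h 12 + 253 * h 16 := by
  have h1 : ∑ c ∈ codeS, (if (none : GolayPt) ∈ c then 0 else h c.card)
      + ∑ c ∈ codeS, (if (none : GolayPt) ∈ c then h c.card else 0) = ∑ c ∈ codeS, h c.card := by
    rw [← Finset.sum_add_distrib]
    apply Finset.sum_congr rfl
    intro c _
    by_cases hc : (none : GolayPt) ∈ c <;> simp [hc]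
  rw [sum_in, sum_code] at h1
  omega

/-- sums over the code of a function of the weight and of membership of `none` -/
theorem sum_code1 (g : ℕ → Bool → ℕ) :
    ∑ c ∈ codeS, g c.card (decide ((none : GolayPt) ∈ c))
      = g 0 false + 253 * g 8 true + 506 * g 8 false + 1288 * g 12 true + 1288 * g 12 false
        + 506 * g 16 true + 253 * g 16 false + g 24 true := by
  have h1 : ∑ c ∈ codeS, g c.card (decide ((none : GolayPt) ∈ c))
      = ∑ c ∈ codeS, (if (none : GolayPt) ∈ c then g c.card true else 0)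
        + ∑ c ∈ codeS, (if (none : GolayPt) ∈ c then 0 else g c.card false) := by
    rw [← Finset.sum_add_distrib]
    apply Finset.sum_congr rfl
    intro c _
    by_cases hc : (none : GolayPt) ∈ c <;> simp [hc]
  rw [h1, sum_in (fun w => g w true), sum_out (fun w => g w false)]
  ring

end Cfsg.Agent.Lib.Helper9.LeechD1
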