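import Cfsg.Agent.Lib.Helper9.LeechD1

set_option autoImplicit false

/-! Counting lattice vectors with a prescribed total key, the key of the position `none`
being allowed to differ from the key of the other positions. -/

namespace Cfsg.Agent.Lib.Helper9.LeechD2

open Cfsg Finset Cfsg.Agent.Lib.Helper9.Golay1 Cfsg.Agent.Lib.Helper4.Leech
  Cfsg.Agent.Lib.Helper9.LeechC1 Cfsg.Agent.Lib.Helper9.LeechC2 Cfsg.Agent.Lib.Helper9.LeechC3
  Cfsg.Agent.Lib.Helper9.LeechD1 Cfsg.Agent.Lib.Helper9.GolayQR5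

theorem gen_count' {ι V : Type*} [Fintype ι] [DecidableEq ι] [DecidableEq V]
    (S : ι → Finset V) (kv : ι → V → ℕ) (b k0 : ℕ) (hb : ∏ i, (S i).card < b) :
    ((Fintype.piFinset S).filter fun x => ∑ i, kv i (x i) = k0).card
      = (∏ i, ∑ a ∈ S i, b ^ kv i a) / b ^ k0 % b := by
  rw [Finset.prod_univ_sum]
  simp_rw [Finset.prod_pow_eq_pow_sum]
  rw [extract _ _ _ _ (by rwa [Fintype.card_piFinset])]

/-- position-dependent key: `ki` at `none`, `kf` elsewhere -/
def kvp (kf ki : ℤ → ℕ) : GolayPt → ℤ → ℕ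
  | none => ki
  | some _ => kf

/-- the digit giving the size of a class -/
def D (U : Finset ℤ) (kf ki : ℤ → ℕ) (b k0 : ℕ) (μ : ℤ) (w : ℕ) (e : Bool) : ℕ :=
  ((if e then PA U ki b μ else PB U ki b μ) * PA U kf b μ ^ (w - e.toNat)
    * PB U kf b μ ^ (23 - (w - e.toNat))) / b ^ k0 % b

theorem card_erase_none (c : Finset GolayPt) :
    (c.erase none).card = c.card - (decide ((none : GolayPt) ∈ c)).toNat := by
  by_cases h : (none : GolayPt) ∈ c
  · rw [card_erase_of_mem h]; simp [h]
  · rw [erase_eq_of_notMem h]; simp [h]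

theorem prod_some (c : Finset GolayPt) (pa pb : ℕ) :
    (∏ j : ZMod 23, if (some j : GolayPt) ∈ c then pa else pb)
      = pa ^ (c.erase none).card * pb ^ (23 - (c.erase none).card) := by
  have h1 : (univ.filter fun j : ZMod 23 => (some j : GolayPt) ∈ c).card = (c.erase none).card := by
    apply Finset.card_bij (fun j _ => (some j : GolayPt))
    · intro j hj
      rw [mem_erase]
      exact ⟨by simp, (mem_filter.mp hj).2⟩
    · intro j _ j' _ h
      exact Option.some_injective _ h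
    · intro i hi
      rw [mem_erase] at hi
      cases i with
      | none => exact absurd rfl hi.1
      | some j => exact ⟨j, by simp [hi.2], rfl⟩
  have h2 : (univ.filter fun j : ZMod 23 => ¬ (some j : GolayPt) ∈ c).card
      = 23 - (c.erase none).card := by
    rw [← h1, Finset.filter_not, Finset.card_sdiff_of_subset (Finset.filter_subset _ _), card_univ,
      ZMod.card 23]
  rw [Finset.prod_ite, Finset.prod_const, Finset.prod_const, h1, h2]

theorem class_count1 (U : Finset ℤ) (kf ki : ℤ → ℕ) (b : ℕ) (hb : U.card ^ 24 < b)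
    (k0 : ℕ) (μ : ℤ) (c : Finset GolayPt) :
    ((Fintype.piFinset (S U μ c)).filter fun x => ∑ i, kvp kf ki i (x i) = k0).card
      = D U kf ki b k0 μ c.card (decide ((none : GolayPt) ∈ c)) := by
  have hb' : ∏ i, (S U μ c i).card < b := by
    refine lt_of_le_of_lt ?_ hb
    calc ∏ i, (S U μ c i).card ≤ ∏ _i : GolayPt, U.card := by
          apply Finset.prod_le_prod (fun _ _ => Nat.zero_le _)
          intro i _
          exact card_filter_le _ _
      _ = U.card ^ 24 := by rw [Finset.prod_const, card_univ, card_golayPt]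
  rw [gen_count' (S U μ c) (kvp kf ki) b k0 hb']
  have hprod : (∏ i, ∑ a ∈ S U μ c i, b ^ kvp kf ki i a)
      = (if (decide ((none : GolayPt) ∈ c)) then PA U ki b μ else PB U ki b μ)
        * PA U kf b μ ^ (c.erase none).card * PB U kf b μ ^ (23 - (c.erase none).card) := by
    have e1 : (∑ a ∈ S U μ c none, b ^ kvp kf ki none a)
        = (if (decide ((none : GolayPt) ∈ c)) then PA U ki b μ else PB U ki b μ) := by
      unfold S PA PB kvp
      by_cases hi : (none : GolayPt) ∈ c
      · simp only [hi, if_true, decide_true]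
      · simp only [hi, if_false, decide_false]; rfl
    have e2 : ∀ j : ZMod 23, (∑ a ∈ S U μ c (some j), b ^ kvp kf ki (some j) a)
        = if (some j : GolayPt) ∈ c then PA U kf b μ else PB U kf b μ := by
      intro j
      unfold S PA PB kvp
      by_cases hi : (some j : GolayPt) ∈ c
      · simp only [hi, if_true]
      · simp only [hi, if_false]
    rw [Fintype.prod_option, e1, Finset.prod_congr rfl (fun j _ => e2 j), prod_some, mul_assoc]
  rw [hprod, card_erase_none]
  rfl

/-- the total over both parities and all classes of codewords -/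
def T1 (U : Finset ℤ) (kf ki : ℤ → ℕ) (b k0 : ℕ) : ℕ :=
  ∑ μ ∈ ({0, 1} : Finset ℤ), (D U kf ki b k0 μ 0 false + 253 * D U kf ki b k0 μ 8 true
    + 506 * D U kf ki b k0 μ 8 false + 1288 * D U kf ki b k0 μ 12 true
    + 1288 * D U kf ki b k0 μ 12 false + 506 * D U kf ki b k0 μ 16 true
    + 253 * D U kf ki b k0 μ 16 false + D U kf ki b k0 μ 24 true)

theorem count_main1 (U : Finset ℤ) (kf ki : ℤ → ℕ) (k0 : ℕ)
    (hcong : ∀ x : GolayPt → ℤ, (∀ i, x i ∈ U) → ∑ i, kvp kf ki i (x i) = k0 →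
      (∑ i, x i) % 8 = 4 * (x none % 2))
    (b : ℕ) (hb : U.card ^ 24 < b) :
    {x : GolayPt → ℤ | x ∈ leechSet ∧ (∀ i, x i ∈ U) ∧ ∑ i, kvp kf ki i (x i) = k0}.ncard
      = T1 U kf ki b k0 := by
  classical
  obtain ⟨XF, hXF⟩ : ∃ XF : Finset (GolayPt → ℤ), XF = (Fintype.piFinset fun _ : GolayPt => U).filter
      (fun x => x ∈ leechSet ∧ ∑ i, kvp kf ki i (x i) = k0) := ⟨_, rfl⟩
  have hmem : ∀ x, x ∈ XF ↔ (∀ i, x i ∈ U) ∧ x ∈ leechSet ∧ ∑ i, kvp kf ki i (x i) = k0 := by
    intro x
    rw [hXF, mem_filter, Fintype.mem_piFinset]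
  have hset : {x : GolayPt → ℤ | x ∈ leechSet ∧ (∀ i, x i ∈ U) ∧ ∑ i, kvp kf ki i (x i) = k0}
      = ↑XF := by
    ext x
    rw [mem_coe, hmem]
    constructor
    · rintro ⟨h1, h2, h3⟩; exact ⟨h2, h1, h3⟩
    · rintro ⟨h1, h2, h3⟩; exact ⟨h2, h1, h3⟩
  rw [hset, Set.ncard_coe_finset]
  have hmaps : ∀ x ∈ XF, (par x, cl x) ∈ ({0, 1} : Finset ℤ) ×ˢ codeS := by
    intro x hx
    obtain ⟨h1, h2, -, -⟩ := fwd ((hmem x).mp hx).2.1
    rw [mem_product, mem_codeS]
    refine ⟨?_, h2⟩
    simp only [mem_insert, mem_singleton]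
    exact h1
  rw [card_eq_sum_card_fiberwise hmaps, Finset.sum_product]
  unfold T1
  apply Finset.sum_congr rfl
  intro μ hμ
  have hμ' : μ = 0 ∨ μ = 1 := by simpa using hμ
  rw [← sum_code1 (fun w e => D U kf ki b k0 μ w e)]
  apply Finset.sum_congr rfl
  intro c hc
  have hfib : XF.filter (fun x => (par x, cl x) = (μ, c))
      = (Fintype.piFinset (S U μ c)).filter (fun x => ∑ i, kvp kf ki i (x i) = k0) := by
    ext x
    rw [mem_filter, hmem, mem_filter, Fintype.mem_piFinset, Prod.mk.injEq]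
    constructor
    · rintro ⟨⟨hU, hL, hK⟩, hp, hcl⟩
      obtain ⟨-, -, h3, -⟩ := fwd hL
      rw [hp, hcl] at h3
      refine ⟨fun i => ?_, hK⟩
      unfold S
      rw [mem_filter]
      exact ⟨hU i, h3 i⟩
    · rintro ⟨hS, hK⟩
      have hU : ∀ i, x i ∈ U := fun i => (mem_filter.mp (hS i)).1
      have h4 : ∀ i, x i % 4 = if i ∈ c then 2 - μ else 3 * μ := fun i => (mem_filter.mp (hS i)).2
      have h5 : x none % 2 = μ := by
        have := h4 none
        split_ifs at this <;> omega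
      have hx := bwd hμ' ((mem_codeS c).mp hc) h4 (by rw [hcong x hU hK, h5])
      exact ⟨⟨hU, hx.1, hK⟩, hx.2.1, hx.2.2⟩
  rw [hfib, class_count1 U kf ki b hb]

end Cfsg.Agent.Lib.Helper9.LeechD2
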