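import Cfsg.Agent.Lib.Helper9.LeechD2

set_option autoImplicit false

/-! Counting lattice vectors of given sum of squares and given value of
`∑ i, x i + (m - 1) * x none`. -/

namespace Cfsg.Agent.Lib.Helper9.LeechD3

open Cfsg Finset Cfsg.Agent.Lib.Helper4.Leech Cfsg.Agent.Lib.Helper9.LeechC3
  Cfsg.Agent.Lib.Helper9.LeechD2 Cfsg.Agent.Lib.Helper9.LeechC4

/-- key of a finite position -/
def kF (a : ℤ) : ℕ := 512 * a.natAbs ^ 2 + (a + 8).toNat

/-- key of the position `none` -/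
def kI (m off : ℤ) (a : ℤ) : ℕ := 512 * a.natAbs ^ 2 + (m * a + off).toNat

/-- the linear form -/
def lin (m : ℤ) (x : GolayPt → ℤ) : ℤ := ∑ i, x i + (m - 1) * x none

theorem key_sum (m off : ℤ) (x : GolayPt → ℤ) (hx : ∀ i, x i ∈ Icc (-8 : ℤ) 8)
    (h0 : 0 ≤ m * x none + off) :
    ((∑ i, kvp kF (kI m off) i (x i) : ℕ) : ℤ) = 512 * sqNorm x + (lin m x + 184 + off) := by
  have hF : ∀ j : ZMod 23, ((kF (x (some j)) : ℕ) : ℤ) = 512 * x (some j) ^ 2 + (x (some j) + 8) := by
    intro j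
    have := mem_Icc.mp (hx (some j))
    unfold kF
    push_cast
    rw [Int.toNat_of_nonneg (by omega), sq_abs]
  have hI : ((kI m off (x none) : ℕ) : ℤ) = 512 * x none ^ 2 + (m * x none + off) := by
    unfold kI
    push_cast
    rw [Int.toNat_of_nonneg h0, sq_abs]
  unfold sqNorm lin
  rw [Fintype.sum_option, Fintype.sum_option, Fintype.sum_option]
  push_cast
  show ((kI m off (x none) : ℕ) : ℤ) + ∑ j : ZMod 23, ((kF (x (some j)) : ℕ) : ℤ) = _
  rw [hI, Finset.sum_congr rfl (fun j _ => hF j), Finset.sum_add_distrib, Finset.sum_add_distrib,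
    ← Finset.mul_sum, Finset.sum_const, card_univ, ZMod.card 23]
  simp only [nsmul_eq_mul]
  push_cast
  ring

theorem lin_bounds (m off : ℤ) (x : GolayPt → ℤ) (hx : ∀ i, x i ∈ Icc (-8 : ℤ) 8)
    (h0 : 0 ≤ m * x none + off) (h1 : m * x none + off ≤ 143) :
    0 ≤ lin m x + 184 + off ∧ lin m x + 184 + off < 512 := by
  have hs : lin m x + 184 + off = ∑ j : ZMod 23, (x (some j) + 8) + (m * x none + off) := by
    unfold lin
    rw [Fintype.sum_option, Finset.sum_add_distrib, Finset.sum_const, card_univ, ZMod.card 23]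
    simp only [nsmul_eq_mul]
    push_cast
    ring
  have hlo : 0 ≤ ∑ j : ZMod 23, (x (some j) + 8) := by
    apply Finset.sum_nonneg
    intro j _
    have := mem_Icc.mp (hx (some j))
    omega
  have hhi : ∑ j : ZMod 23, (x (some j) + 8) ≤ 368 := by
    calc ∑ j : ZMod 23, (x (some j) + 8) ≤ ∑ _j : ZMod 23, (16 : ℤ) := by
          apply Finset.sum_le_sum
          intro j _
          have := mem_Icc.mp (hx (some j))
          omega
      _ = 368 := by
          rw [Finset.sum_const, card_univ, ZMod.card 23]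
          norm_num
  rw [hs]
  constructor <;> omega

/-- lattice vectors with entries in `U`, sum of squares `N` and `lin m x = s` -/
theorem dot_count (U : Finset ℤ) (hU : U ⊆ Icc (-8) 8) (m off : ℤ) (hm : m % 8 = 5)
    (hoff : ∀ a ∈ U, 0 ≤ m * a + off ∧ m * a + off ≤ 143) (N : ℕ) (s : ℤ) (hs : s % 8 = 0)
    (hs0 : 0 ≤ s + 184 + off) (hs1 : s + 184 + off < 512) :
    {x : GolayPt → ℤ | x ∈ leechLattice ∧ sqNorm x = N ∧ (∀ i, x i ∈ U) ∧ lin m x = s}.ncard
      = T1 U kF (kI m off) (2 ^ 100) (512 * N + (s + 184 + off).toNat) := by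
  have key : ∀ x : GolayPt → ℤ, (∀ i, x i ∈ U) →
      (∑ i, kvp kF (kI m off) i (x i) = 512 * N + (s + 184 + off).toNat
        ↔ sqNorm x = N ∧ lin m x = s) := by
    intro x hx
    have hx8 : ∀ i, x i ∈ Icc (-8 : ℤ) 8 := fun i => hU (hx i)
    obtain ⟨h0, h1⟩ := hoff _ (hx none)
    have h2 := key_sum m off x hx8 h0
    obtain ⟨h3, h4⟩ := lin_bounds m off x hx8 h0 h1
    constructor
    · intro h
      rw [h] at h2
      have ht : (((s + 184 + off).toNat : ℕ) : ℤ) = s + 184 + off := Int.toNat_of_nonneg hs0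
      rw [Nat.cast_add, ht] at h2
      push_cast at h2
      constructor <;> omega
    · rintro ⟨hN, hl⟩
      have : ((∑ i, kvp kF (kI m off) i (x i) : ℕ) : ℤ)
          = ((512 * N + (s + 184 + off).toNat : ℕ) : ℤ) := by
        rw [h2]
        push_cast
        rw [Int.toNat_of_nonneg hs0, hN, hl]
      exact_mod_cast this
  rw [← count_main1 U kF (kI m off) _ ?_ (2 ^ 100) (card_pow_lt U hU)]
  · congr 1
    ext x
    simp only [Set.mem_setOf_eq, mem_leechLattice_iff]
    constructor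
    · rintro ⟨h1, h2, h3, h4⟩
      exact ⟨h1, h3, (key x h3).mpr ⟨h2, h4⟩⟩
    · rintro ⟨h1, h3, h5⟩
      obtain ⟨h2, h4⟩ := (key x h3).mp h5
      exact ⟨h1, h2, h3, h4⟩
  · intro x hx hk
    obtain ⟨-, hl⟩ := (key x hx).mp hk
    unfold lin at hl
    obtain ⟨q, hq⟩ : ∃ q, m = 8 * q + 5 := ⟨m / 8, by omega⟩
    have h6 : (m - 1) * x none = 8 * (q * x none) + 4 * x none := by
      rw [hq]; ring
    rw [h6] at hl
    omega

end Cfsg.Agent.Lib.Helper9.LeechD3
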