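import Cfsg.Agent.Lib.Helper9.LeechD3

set_option autoImplicit false

/-! Evaluation of the counts. -/

namespace Cfsg.Agent.Lib.Helper9.LeechD4

open Cfsg Finset Cfsg.Agent.Lib.Helper4.Leech Cfsg.Agent.Lib.Helper9.LeechC3
  Cfsg.Agent.Lib.Helper9.LeechD2 Cfsg.Agent.Lib.Helper9.LeechD3 Cfsg.Agent.Lib.Helper9.LeechC4

/-- shift form of the digit -/
def DS (U : Finset ℤ) (kf ki : ℤ → ℕ) (k0 : ℕ) (μ : ℤ) (w : ℕ) (e : Bool) : ℕ :=
  (((if e then PA U ki (2 ^ 100) μ else PB U ki (2 ^ 100) μ) * PA U kf (2 ^ 100) μ ^ (w - e.toNat)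
    * PB U kf (2 ^ 100) μ ^ (23 - (w - e.toNat))) >>> (100 * k0)) % 2 ^ 100

theorem D_shift (U : Finset ℤ) (kf ki : ℤ → ℕ) (k0 : ℕ) (μ : ℤ) (w : ℕ) (e : Bool) :
    D U kf ki (2 ^ 100) k0 μ w e = DS U kf ki k0 μ w e := by
  unfold D DS
  rw [Nat.shiftRight_eq_div_pow, pow_mul]

def T1S (U : Finset ℤ) (kf ki : ℤ → ℕ) (k0 : ℕ) : ℕ :=
  (DS U kf ki k0 0 0 false + 253 * DS U kf ki k0 0 8 true
    + 506 * DS U kf ki k0 0 8 false + 1288 * DS U kf ki k0 0 12 true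
    + 1288 * DS U kf ki k0 0 12 false + 506 * DS U kf ki k0 0 16 true
    + 253 * DS U kf ki k0 0 16 false + DS U kf ki k0 0 24 true)
  + (DS U kf ki k0 1 0 false + 253 * DS U kf ki k0 1 8 true
    + 506 * DS U kf ki k0 1 8 false + 1288 * DS U kf ki k0 1 12 true
    + 1288 * DS U kf ki k0 1 12 false + 506 * DS U kf ki k0 1 16 true
    + 253 * DS U kf ki k0 1 16 false + DS U kf ki k0 1 24 true)

theorem T1_shift (U : Finset ℤ) (kf ki : ℤ → ℕ) (k0 : ℕ) :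
    T1 U kf ki (2 ^ 100) k0 = T1S U kf ki k0 := by
  unfold T1
  rw [Finset.sum_insert (by decide), Finset.sum_singleton]
  simp only [D_shift]
  rfl

/-- all lattice vectors of sum of squares `N ≤ 64` with `lin m x = s` -/
theorem dot_count_all (m off : ℤ) (hm : m % 8 = 5)
    (hoff : ∀ a ∈ Icc (-8 : ℤ) 8, 0 ≤ m * a + off ∧ m * a + off ≤ 143) (N : ℕ) (hN : N ≤ 64)
    (s : ℤ) (hs : s % 8 = 0) (hs0 : 0 ≤ s + 184 + off) (hs1 : s + 184 + off < 512) :
    {x : GolayPt → ℤ | x ∈ leechLattice ∧ sqNorm x = N ∧ lin m x = s}.ncard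
      = T1S (Icc (-8) 8) kF (kI m off) (512 * N + (s + 184 + off).toNat) := by
  rw [← T1_shift, ← dot_count (Icc (-8) 8) (subset_refl _) m off hm hoff N s hs hs0 hs1]
  congr 1
  ext x
  simp only [Set.mem_setOf_eq]
  constructor
  · rintro ⟨h1, h2, h3⟩
    exact ⟨h1, h2, entry_bound x N (by exact_mod_cast hN) h2, h3⟩
  · rintro ⟨h1, h2, -, h3⟩
    exact ⟨h1, h2, h3⟩

set_option maxRecDepth 100000 in
theorem T_m16 : T1S (Icc (-8) 8) kF (kI (-3) 24) (512 * 32 + 192) = 4600 := by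
  decide +kernel

set_option maxRecDepth 100000 in
theorem T_m8 : T1S (Icc (-8) 8) kF (kI (-3) 24) (512 * 32 + 200) = 47104 := by
  decide +kernel

set_option maxRecDepth 100000 in
theorem T_0 : T1S (Icc (-8) 8) kF (kI (-3) 24) (512 * 32 + 208) = 93150 := by
  decide +kernel

set_option maxRecDepth 100000 in
theorem T_24 : T1S (Icc (-8) 8) kF (kI 5 40) (512 * 32 + 248) = 552 := by
  decide +kernel

set_option maxRecDepth 100000 in
theorem T_u16 : T1S (Icc (-8) 8) kF (kI 5 40) (512 * 32 + 208) = 11178 := by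
  decide +kernel

end Cfsg.Agent.Lib.Helper9.LeechD4
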