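import Cfsg.Agent.Lib.Helper9.LeechD1

set_option autoImplicit false

/-! Codewords through two fixed points: the weight enumerator refined by membership of the two
standard points, by double counting and double transitivity. -/

namespace Cfsg.Agent.Lib.Helper9.LeechE1

open Cfsg Finset Cfsg.Agent.Lib.Helper9.Golay1 Cfsg.Agent.Lib.Helper4.Leech
  Cfsg.Agent.Lib.Helper9.LeechC2 Cfsg.Agent.Lib.Helper9.LeechM1 Cfsg.Agent.Lib.Helper9.LeechD1
open scoped Pointwise

/-- the weighted number of codewords through `p` and `q` does not depend on the pair -/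
theorem sum_through2 (h : ℕ → ℕ) (p q : GolayPt) (hpq : p ≠ q) :
    ∑ c ∈ codeS, (if p ∈ c ∧ q ∈ c then h c.card else 0)
      = ∑ c ∈ codeS, (if (none : GolayPt) ∈ c ∧ (some 0 : GolayPt) ∈ c then h c.card else 0) := by
  obtain ⟨g, hg, hgp⟩ := Cfsg.Agent.Lib.Helper9.M24T7.exists_mapn 2 (by norm_num)
    (fun i => if i = 0 then p else q)
    (by
      intro i hi j hj hij
      have hi' : i = 0 ∨ i = 1 := by omega
      have hj' : j = 0 ∨ j = 1 := by omega
      rcases hi' with rfl | rfl <;> rcases hj' with rfl | rfl
      · rfl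
      · simp at hij; exact absurd hij hpq
      · simp at hij; exact absurd hij.symm hpq
      · rfl)
  have hg0 : g none = p := hgp 0 (by norm_num)
  have hg1 : g (some 0) = q := hgp 1 (by norm_num)
  symm
  refine Finset.sum_bij' (fun c _ => g • c) (fun c _ => g⁻¹ • c) ?_ ?_ ?_ ?_ ?_
  · intro c hc
    exact (smul_mem_codeS g hg c).mpr hc
  · intro c hc
    exact (smul_mem_codeS g⁻¹ (M24.inv_mem hg) c).mpr hc
  · intro c _
    exact inv_smul_smul g c
  · intro c _
    exact smul_inv_smul g c
  · intro c _
    have h1 : (p ∈ g • c) ↔ (none : GolayPt) ∈ c := by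
      rw [← hg0]
      exact Cfsg.Agent.Lib.Helper9.M24X1.smul_mem_iff g none c
    have h1' : (q ∈ g • c) ↔ (some 0 : GolayPt) ∈ c := by
      rw [← hg1]
      exact Cfsg.Agent.Lib.Helper9.M24X1.smul_mem_iff g (some 0) c
    have h2 : (g • c).card = c.card := Finset.card_smul_finset g c
    simp only [h1, h1', h2]

theorem sum_tt (h : ℕ → ℕ) :
    ∑ c ∈ codeS, (if (none : GolayPt) ∈ c ∧ (some 0 : GolayPt) ∈ c then h c.card else 0)
      = 77 * h 8 + 616 * h 12 + 330 * h 16 + h 24 := by
  have h1 : ∑ p : GolayPt, ∑ q : GolayPt, (if p = q then 0 else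
      ∑ c ∈ codeS, (if p ∈ c ∧ q ∈ c then h c.card else 0))
      = ∑ c ∈ codeS, c.card * (c.card - 1) * h c.card := by
    have e1 : ∀ p q : GolayPt, (if p = q then 0 else
        ∑ c ∈ codeS, (if p ∈ c ∧ q ∈ c then h c.card else 0))
        = ∑ c ∈ codeS, (if p ∈ c ∧ q ∈ c.erase p then h c.card else 0) := by
      intro p q
      by_cases hpq : p = q
      · rw [if_pos hpq]
        symm
        apply Finset.sum_eq_zero
        intro c _
        rw [if_neg]
        rintro ⟨_, h2⟩
        exact (mem_erase.mp h2).1 hpq.symm
      · rw [if_neg hpq]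
        apply Finset.sum_congr rfl
        intro c _
        have : (q ∈ c.erase p) ↔ q ∈ c := by
          rw [mem_erase]
          exact ⟨fun h => h.2, fun h => ⟨fun e => hpq e.symm, h⟩⟩
        simp only [this]
    simp_rw [e1]
    have e2 : ∀ p : GolayPt, ∑ q : GolayPt, ∑ c ∈ codeS,
        (if p ∈ c ∧ q ∈ c.erase p then h c.card else 0)
        = ∑ c ∈ codeS, (if p ∈ c then (c.card - 1) * h c.card else 0) := by
      intro p
      rw [Finset.sum_comm]
      apply Finset.sum_congr rfl
      intro c _
      by_cases hp : p ∈ c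
      · simp only [hp, true_and, if_true]
        rw [← Finset.sum_filter, Finset.sum_const, smul_eq_mul]
        congr 1
        rw [← card_erase_of_mem hp]
        congr 1
        ext i; simp
      · simp [hp]
    simp_rw [e2]
    rw [Finset.sum_comm]
    apply Finset.sum_congr rfl
    intro c _
    rw [← Finset.sum_filter, Finset.sum_const, smul_eq_mul, mul_assoc]
    congr 2
    ext i; simp
  have h2 : ∑ p : GolayPt, ∑ q : GolayPt, (if p = q then 0 else
      ∑ c ∈ codeS, (if p ∈ c ∧ q ∈ c then h c.card else 0))
      = 552 * ∑ c ∈ codeS,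
        (if (none : GolayPt) ∈ c ∧ (some 0 : GolayPt) ∈ c then h c.card else 0) := by
    have e3 : ∀ p q : GolayPt, (if p = q then 0 else
        ∑ c ∈ codeS, (if p ∈ c ∧ q ∈ c then h c.card else 0))
        = if p = q then 0 else ∑ c ∈ codeS,
          (if (none : GolayPt) ∈ c ∧ (some 0 : GolayPt) ∈ c then h c.card else 0) := by
      intro p q
      by_cases hpq : p = q
      · rw [if_pos hpq, if_pos hpq]
      · rw [if_neg hpq, if_neg hpq, sum_through2 h p q hpq]
    simp_rw [e3]
    have e4 : ∀ p : GolayPt, ∑ q : GolayPt, (if p = q then 0 else ∑ c ∈ codeS,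
          (if (none : GolayPt) ∈ c ∧ (some 0 : GolayPt) ∈ c then h c.card else 0))
        = 23 * ∑ c ∈ codeS,
          (if (none : GolayPt) ∈ c ∧ (some 0 : GolayPt) ∈ c then h c.card else 0) := by
      intro p
      generalize (∑ c ∈ codeS,
          (if (none : GolayPt) ∈ c ∧ (some 0 : GolayPt) ∈ c then h c.card else 0)) = X
      have : (univ.filter fun q : GolayPt => ¬ p = q) = univ.erase p := by
        ext i; simp [eq_comm]
      have e5 : ∀ q : GolayPt, (if p = q then 0 else X) = if ¬ p = q then X else 0 := by
        intro q; by_cases hq : p = q <;> simp [hq]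
      simp_rw [e5]
      rw [← Finset.sum_filter, Finset.sum_const, smul_eq_mul, this,
        card_erase_of_mem (mem_univ _), card_univ,
        Cfsg.Agent.Lib.Helper9.GolayQR5.card_golayPt]
    simp_rw [e4]
    rw [Finset.sum_const, smul_eq_mul, card_univ, Cfsg.Agent.Lib.Helper9.GolayQR5.card_golayPt]
    ring
  rw [h2, sum_code (fun w => w * (w - 1) * h w)] at h1
  norm_num at h1
  omega

theorem sum_t_ (h : ℕ → ℕ) :
    ∑ c ∈ codeS, (if (some 0 : GolayPt) ∈ c then h c.card else 0)
      = 253 * h 8 + 1288 * h 12 + 506 * h 16 + h 24 := by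
  rw [sum_through h (some 0), sum_in]

/-- sums over the code of a function of the weight and of membership of the two standard
points -/
theorem sum_code2 (g : ℕ → Bool → Bool → ℕ) :
    ∑ c ∈ codeS, g c.card (decide ((none : GolayPt) ∈ c)) (decide ((some 0 : GolayPt) ∈ c))
      = g 0 false false
        + (77 * g 8 true true + 176 * g 8 true false + 176 * g 8 false true
          + 330 * g 8 false false)
        + (616 * g 12 true true + 672 * g 12 true false + 672 * g 12 false true
          + 616 * g 12 false false)
        + (330 * g 16 true true + 176 * g 16 true false + 176 * g 16 false true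
          + 77 * g 16 false false)
        + g 24 true true := by
  -- the four partial sums
  have htt := sum_tt (fun w => g w true true)
  have htf : ∑ c ∈ codeS, (if (none : GolayPt) ∈ c ∧ ¬ (some 0 : GolayPt) ∈ c
      then g c.card true false else 0) = 176 * g 8 true false + 672 * g 12 true false
        + 176 * g 16 true false := by
    have e : ∑ c ∈ codeS, (if (none : GolayPt) ∈ c ∧ ¬ (some 0 : GolayPt) ∈ c
        then g c.card true false else 0)
        + ∑ c ∈ codeS, (if (none : GolayPt) ∈ c ∧ (some 0 : GolayPt) ∈ c
          then g c.card true false else 0)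
        = ∑ c ∈ codeS, (if (none : GolayPt) ∈ c then g c.card true false else 0) := by
      rw [← Finset.sum_add_distrib]
      apply Finset.sum_congr rfl
      intro c _
      by_cases h1 : (none : GolayPt) ∈ c <;> by_cases h2 : (some 0 : GolayPt) ∈ c <;>
        simp [h1, h2]
    rw [sum_tt (fun w => g w true false), sum_in (fun w => g w true false)] at e
    omega
  have hft : ∑ c ∈ codeS, (if ¬ (none : GolayPt) ∈ c ∧ (some 0 : GolayPt) ∈ c
      then g c.card false true else 0) = 176 * g 8 false true + 672 * g 12 false true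
        + 176 * g 16 false true := by
    have e : ∑ c ∈ codeS, (if ¬ (none : GolayPt) ∈ c ∧ (some 0 : GolayPt) ∈ c
        then g c.card false true else 0)
        + ∑ c ∈ codeS, (if (none : GolayPt) ∈ c ∧ (some 0 : GolayPt) ∈ c
          then g c.card false true else 0)
        = ∑ c ∈ codeS, (if (some 0 : GolayPt) ∈ c then g c.card false true else 0) := by
      rw [← Finset.sum_add_distrib]
      apply Finset.sum_congr rfl
      intro c _
      by_cases h1 : (none : GolayPt) ∈ c <;> by_cases h2 : (some 0 : GolayPt) ∈ c <;>
        simp [h1, h2]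
    rw [sum_tt (fun w => g w false true), sum_t_ (fun w => g w false true)] at e
    omega
  have hff : ∑ c ∈ codeS, (if ¬ (none : GolayPt) ∈ c ∧ ¬ (some 0 : GolayPt) ∈ c
      then g c.card false false else 0) = g 0 false false + 330 * g 8 false false
        + 616 * g 12 false false + 77 * g 16 false false := by
    have e : ∑ c ∈ codeS, (if ¬ (none : GolayPt) ∈ c ∧ ¬ (some 0 : GolayPt) ∈ c
        then g c.card false false else 0)
        + ∑ c ∈ codeS, (if (some 0 : GolayPt) ∈ c then g c.card false false else 0)
        + ∑ c ∈ codeS, (if (none : GolayPt) ∈ c then g c.card false false else 0)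
        = ∑ c ∈ codeS, g c.card false false
          + ∑ c ∈ codeS, (if (none : GolayPt) ∈ c ∧ (some 0 : GolayPt) ∈ c
            then g c.card false false else 0) := by
      rw [← Finset.sum_add_distrib, ← Finset.sum_add_distrib, ← Finset.sum_add_distrib]
      apply Finset.sum_congr rfl
      intro c _
      by_cases h1 : (none : GolayPt) ∈ c <;> by_cases h2 : (some 0 : GolayPt) ∈ c <;>
        simp [h1, h2]
    rw [sum_tt (fun w => g w false false), sum_t_ (fun w => g w false false),
      sum_in (fun w => g w false false), sum_code (fun w => g w false false)] at e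
    omega
  have hsplit : ∑ c ∈ codeS, g c.card (decide ((none : GolayPt) ∈ c))
      (decide ((some 0 : GolayPt) ∈ c))
      = ∑ c ∈ codeS, (if (none : GolayPt) ∈ c ∧ (some 0 : GolayPt) ∈ c
          then g c.card true true else 0)
        + ∑ c ∈ codeS, (if (none : GolayPt) ∈ c ∧ ¬ (some 0 : GolayPt) ∈ c
          then g c.card true false else 0)
        + ∑ c ∈ codeS, (if ¬ (none : GolayPt) ∈ c ∧ (some 0 : GolayPt) ∈ c
          then g c.card false true else 0)
        + ∑ c ∈ codeS, (if ¬ (none : GolayPt) ∈ c ∧ ¬ (some 0 : GolayPt) ∈ c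
          then g c.card false false else 0) := by
    rw [← Finset.sum_add_distrib, ← Finset.sum_add_distrib, ← Finset.sum_add_distrib]
    apply Finset.sum_congr rfl
    intro c _
    by_cases h1 : (none : GolayPt) ∈ c <;> by_cases h2 : (some 0 : GolayPt) ∈ c <;>
      simp [h1, h2]
  rw [hsplit, htt, htf, hft, hff]
  ring

end Cfsg.Agent.Lib.Helper9.LeechE1
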