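import Cfsg.Agent.Lib.Helper9.LeechE1
import Cfsg.Agent.Lib.Helper9.LeechD2

set_option autoImplicit false

/-! Counting lattice vectors with a prescribed total key, the keys of the two standard positions
being allowed to differ from the key of the other positions. -/

namespace Cfsg.Agent.Lib.Helper9.LeechE2

open Cfsg Finset Cfsg.Agent.Lib.Helper9.Golay1 Cfsg.Agent.Lib.Helper4.Leech
  Cfsg.Agent.Lib.Helper9.LeechC1 Cfsg.Agent.Lib.Helper9.LeechC2 Cfsg.Agent.Lib.Helper9.LeechC3
  Cfsg.Agent.Lib.Helper9.LeechD1 Cfsg.Agent.Lib.Helper9.GolayQR5 Cfsg.Agent.Lib.Helper9.LeechD2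
  Cfsg.Agent.Lib.Helper9.LeechE1

/-- position-dependent key: `k0` at `none`, `k1` at `some 0`, `kf` elsewhere -/
def kvp2 (kf k0 k1 : ℤ → ℕ) : GolayPt → ℤ → ℕ
  | none => k0
  | some j => if j = 0 then k1 else kf

/-- the digit giving the size of a class -/
def D2 (U : Finset ℤ) (kf k0 k1 : ℤ → ℕ) (b t : ℕ) (μ : ℤ) (w : ℕ) (e0 e1 : Bool) : ℕ :=
  ((if e0 then PA U k0 b μ else PB U k0 b μ) * (if e1 then PA U k1 b μ else PB U k1 b μ)
    * PA U kf b μ ^ (w - e0.toNat - e1.toNat)
    * PB U kf b μ ^ (22 - (w - e0.toNat - e1.toNat))) / b ^ t % b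

theorem card_erase2 (c : Finset GolayPt) :
    ((c.erase none).erase (some 0)).card
      = c.card - (decide ((none : GolayPt) ∈ c)).toNat
        - (decide ((some 0 : GolayPt) ∈ c)).toNat := by
  rw [← card_erase_none]
  by_cases h : (some 0 : GolayPt) ∈ c
  · have h' : (some 0 : GolayPt) ∈ c.erase none := mem_erase.mpr ⟨by simp, h⟩
    rw [card_erase_of_mem h']; simp [h]
  · have h' : (some 0 : GolayPt) ∉ c.erase none := fun hh => h (mem_erase.mp hh).2
    rw [erase_eq_of_notMem h']; simp [h]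

theorem prod_some2 (c : Finset GolayPt) (pa pb : ℕ) :
    (∏ j ∈ (univ : Finset (ZMod 23)).erase 0, if (some j : GolayPt) ∈ c then pa else pb)
      = pa ^ ((c.erase none).erase (some 0)).card
        * pb ^ (22 - ((c.erase none).erase (some 0)).card) := by
  have h1 : (((univ : Finset (ZMod 23)).erase 0).filter fun j => (some j : GolayPt) ∈ c).card
      = ((c.erase none).erase (some 0)).card := by
    apply Finset.card_bij (fun j _ => (some j : GolayPt))
    · intro j hj
      rw [mem_filter, mem_erase] at hj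
      rw [mem_erase, mem_erase]
      refine ⟨?_, by simp, hj.2⟩
      intro h
      exact hj.1.1 (Option.some_injective _ h)
    · intro j _ j' _ h
      exact Option.some_injective _ h
    · intro i hi
      rw [mem_erase, mem_erase] at hi
      cases i with
      | none => exact absurd rfl hi.2.1
      | some j =>
        refine ⟨j, ?_, rfl⟩
        rw [mem_filter, mem_erase]
        refine ⟨⟨?_, mem_univ _⟩, hi.2.2⟩
        intro h
        exact hi.1 (by rw [h])
  have h2 : (((univ : Finset (ZMod 23)).erase 0).filter fun j => ¬ (some j : GolayPt) ∈ c).card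
      = 22 - ((c.erase none).erase (some 0)).card := by
    rw [← h1, Finset.filter_not, Finset.card_sdiff_of_subset (Finset.filter_subset _ _),
      card_erase_of_mem (mem_univ _), card_univ, ZMod.card 23]
  rw [Finset.prod_ite, Finset.prod_const, Finset.prod_const, h1, h2]

theorem class_count2 (U : Finset ℤ) (kf k0 k1 : ℤ → ℕ) (b : ℕ) (hb : U.card ^ 24 < b)
    (t : ℕ) (μ : ℤ) (c : Finset GolayPt) :
    ((Fintype.piFinset (S U μ c)).filter fun x => ∑ i, kvp2 kf k0 k1 i (x i) = t).card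
      = D2 U kf k0 k1 b t μ c.card (decide ((none : GolayPt) ∈ c))
        (decide ((some 0 : GolayPt) ∈ c)) := by
  have hb' : ∏ i, (S U μ c i).card < b := by
    refine lt_of_le_of_lt ?_ hb
    calc ∏ i, (S U μ c i).card ≤ ∏ _i : GolayPt, U.card := by
          apply Finset.prod_le_prod (fun _ _ => Nat.zero_le _)
          intro i _
          exact card_filter_le _ _
      _ = U.card ^ 24 := by rw [Finset.prod_const, card_univ, card_golayPt]
  rw [gen_count' (S U μ c) (kvp2 kf k0 k1) b t hb']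
  have hprod : (∏ i, ∑ a ∈ S U μ c i, b ^ kvp2 kf k0 k1 i a)
      = (if (decide ((none : GolayPt) ∈ c)) then PA U k0 b μ else PB U k0 b μ)
        * (if (decide ((some 0 : GolayPt) ∈ c)) then PA U k1 b μ else PB U k1 b μ)
        * PA U kf b μ ^ ((c.erase none).erase (some 0)).card
        * PB U kf b μ ^ (22 - ((c.erase none).erase (some 0)).card) := by
    have e1 : (∑ a ∈ S U μ c none, b ^ kvp2 kf k0 k1 none a)
        = (if (decide ((none : GolayPt) ∈ c)) then PA U k0 b μ else PB U k0 b μ) := by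
      unfold S PA PB kvp2
      by_cases hi : (none : GolayPt) ∈ c
      · simp only [hi, if_true, decide_true]
      · simp only [hi, if_false, decide_false]; rfl
    have e0 : (∑ a ∈ S U μ c (some 0), b ^ kvp2 kf k0 k1 (some 0) a)
        = (if (decide ((some 0 : GolayPt) ∈ c)) then PA U k1 b μ else PB U k1 b μ) := by
      unfold S PA PB kvp2
      by_cases hi : (some 0 : GolayPt) ∈ c
      · simp only [hi, if_true, decide_true]
      · simp only [hi, if_false, decide_false]; rfl
    have e2 : ∀ j ∈ (univ : Finset (ZMod 23)).erase 0,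
        (∑ a ∈ S U μ c (some j), b ^ kvp2 kf k0 k1 (some j) a)
        = if (some j : GolayPt) ∈ c then PA U kf b μ else PB U kf b μ := by
      intro j hj
      have hj0 : j ≠ 0 := (mem_erase.mp hj).1
      unfold S PA PB kvp2
      by_cases hi : (some j : GolayPt) ∈ c
      · simp only [hi, if_true, hj0, if_false]
      · simp only [hi, if_false, hj0]
    rw [Fintype.prod_option, e1, ← Finset.mul_prod_erase univ _ (mem_univ (0 : ZMod 23)), e0,
      Finset.prod_congr rfl e2, prod_some2]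
    ring
  rw [hprod, card_erase2]
  rfl

/-- the total over both parities and all classes of codewords -/
def T2 (U : Finset ℤ) (kf k0 k1 : ℤ → ℕ) (b t : ℕ) : ℕ :=
  ∑ μ ∈ ({0, 1} : Finset ℤ), (D2 U kf k0 k1 b t μ 0 false false
    + (77 * D2 U kf k0 k1 b t μ 8 true true + 176 * D2 U kf k0 k1 b t μ 8 true false
      + 176 * D2 U kf k0 k1 b t μ 8 false true + 330 * D2 U kf k0 k1 b t μ 8 false false)
    + (616 * D2 U kf k0 k1 b t μ 12 true true + 672 * D2 U kf k0 k1 b t μ 12 true false
      + 672 * D2 U kf k0 k1 b t μ 12 false true + 616 * D2 U kf k0 k1 b t μ 12 false false)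
    + (330 * D2 U kf k0 k1 b t μ 16 true true + 176 * D2 U kf k0 k1 b t μ 16 true false
      + 176 * D2 U kf k0 k1 b t μ 16 false true + 77 * D2 U kf k0 k1 b t μ 16 false false)
    + D2 U kf k0 k1 b t μ 24 true true)

theorem count_main2 (U : Finset ℤ) (kf k0 k1 : ℤ → ℕ) (t : ℕ)
    (hcong : ∀ x : GolayPt → ℤ, (∀ i, x i ∈ U) → (∀ i, x i % 2 = x none % 2) →
      ∑ i, kvp2 kf k0 k1 i (x i) = t → (∑ i, x i) % 8 = 4 * (x none % 2))
    (b : ℕ) (hb : U.card ^ 24 < b) :
    {x : GolayPt → ℤ | x ∈ leechSet ∧ (∀ i, x i ∈ U) ∧ ∑ i, kvp2 kf k0 k1 i (x i) = t}.ncard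
      = T2 U kf k0 k1 b t := by
  classical
  obtain ⟨XF, hXF⟩ : ∃ XF : Finset (GolayPt → ℤ), XF = (Fintype.piFinset fun _ : GolayPt => U).filter
      (fun x => x ∈ leechSet ∧ ∑ i, kvp2 kf k0 k1 i (x i) = t) := ⟨_, rfl⟩
  have hmem : ∀ x, x ∈ XF ↔ (∀ i, x i ∈ U) ∧ x ∈ leechSet ∧ ∑ i, kvp2 kf k0 k1 i (x i) = t := by
    intro x
    rw [hXF, mem_filter, Fintype.mem_piFinset]
  have hset : {x : GolayPt → ℤ | x ∈ leechSet ∧ (∀ i, x i ∈ U) ∧
      ∑ i, kvp2 kf k0 k1 i (x i) = t} = ↑XF := by
    ext x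
    rw [mem_coe, hmem]
    constructor
    · rintro ⟨h1, h2, h3⟩; exact ⟨h2, h1, h3⟩
    · rintro ⟨h1, h2, h3⟩; exact ⟨h2, h1, h3⟩
  rw [hset, Set.ncard_coe_finset]
  have hmaps : ∀ x ∈ XF, (par x, cl x) ∈ ({0, 1} : Finset ℤ) ×ˢ codeS := by
    intro x hx
    obtain ⟨h1, h2, -, -⟩ := fwd ((hmem x).mp hx).2.1
    rw [mem_product, mem_codeS]
    refine ⟨?_, h2⟩
    simp only [mem_insert, mem_singleton]
    exact h1
  rw [card_eq_sum_card_fiberwise hmaps, Finset.sum_product]
  unfold T2
  apply Finset.sum_congr rfl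
  intro μ hμ
  have hμ' : μ = 0 ∨ μ = 1 := by simpa using hμ
  rw [← sum_code2 (fun w e0 e1 => D2 U kf k0 k1 b t μ w e0 e1)]
  apply Finset.sum_congr rfl
  intro c hc
  have hfib : XF.filter (fun x => (par x, cl x) = (μ, c))
      = (Fintype.piFinset (S U μ c)).filter (fun x => ∑ i, kvp2 kf k0 k1 i (x i) = t) := by
    ext x
    rw [mem_filter, hmem, mem_filter, Fintype.mem_piFinset, Prod.mk.injEq]
    constructor
    · rintro ⟨⟨hU, hL, hK⟩, hp, hcl⟩
      obtain ⟨-, -, h3, -⟩ := fwd hL
      rw [hp, hcl] at h3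
      refine ⟨fun i => ?_, hK⟩
      unfold S
      rw [mem_filter]
      exact ⟨hU i, h3 i⟩
    · rintro ⟨hS, hK⟩
      have hU : ∀ i, x i ∈ U := fun i => (mem_filter.mp (hS i)).1
      have h4 : ∀ i, x i % 4 = if i ∈ c then 2 - μ else 3 * μ := fun i => (mem_filter.mp (hS i)).2
      have h5 : x none % 2 = μ := by
        have := h4 none
        split_ifs at this <;> omega
      have h6 : ∀ i, x i % 2 = x none % 2 := by
        intro i
        rw [h5]
        have := h4 i
        split_ifs at this <;> omega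
      have hx := bwd hμ' ((mem_codeS c).mp hc) h4 (by rw [hcong x hU h6 hK, h5])
      exact ⟨⟨hU, hx.1, hK⟩, hx.2.1, hx.2.2⟩
  rw [hfib, class_count2 U kf k0 k1 b hb]

end Cfsg.Agent.Lib.Helper9.LeechE2
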