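import Cfsg.Agent.Lib.Helper9.LeechE2
import Cfsg.Agent.Lib.Helper9.LeechC4
import Cfsg.Agent.Lib.Helper9.LeechC7
import Cfsg.Agent.S0392

set_option autoImplicit false

/-! Counting lattice vectors of given sum of squares and given value of a linear form whose
coefficients are constant outside the two standard positions. -/

namespace Cfsg.Agent.Lib.Helper9.LeechE3

open Cfsg Finset Cfsg.Agent.Lib.Helper4.Leech Cfsg.Agent.Lib.Helper9.LeechC3
  Cfsg.Agent.Lib.Helper9.LeechE2 Cfsg.Agent.Lib.Helper9.LeechC4 Cfsg.Agent.Lib.Helper9.LeechC7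

/-- key of a position -/
def kG (B : ℕ) (c off : ℤ) (a : ℤ) : ℕ := B * a.natAbs ^ 2 + (c * a + off).toNat

/-- a value depending on the position: `c0` at `none`, `c1` at `some 0`, `cg` elsewhere -/
def cf (cg c0 c1 : ℤ) (i : GolayPt) : ℤ :=
  cg + (if i = none then c0 - cg else 0) + (if i = some 0 then c1 - cg else 0)

/-- the linear form -/
def lin2 (cg c0 c1 : ℤ) (x : GolayPt → ℤ) : ℤ :=
  cg * ∑ i, x i + (c0 - cg) * x none + (c1 - cg) * x (some 0)

theorem kvp2_eq (B : ℕ) (cg c0 c1 og o0 o1 : ℤ) (i : GolayPt) (a : ℤ) :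
    kvp2 (kG B cg og) (kG B c0 o0) (kG B c1 o1) i a = kG B (cf cg c0 c1 i) (cf og o0 o1 i) a := by
  cases i with
  | none => simp [kvp2, cf]
  | some j =>
    by_cases hj : j = 0
    · subst hj; simp [kvp2, cf]
    · have : (some j : GolayPt) ≠ some 0 := fun h => hj (Option.some_injective _ h)
      simp [kvp2, cf, hj, this]

theorem sum_cf_mul (cg c0 c1 : ℤ) (x : GolayPt → ℤ) :
    ∑ i, cf cg c0 c1 i * x i = lin2 cg c0 c1 x := by
  unfold cf lin2
  simp only [add_mul, Finset.sum_add_distrib, ite_mul, zero_mul, Finset.sum_ite_eq', mem_univ,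
    if_true, Finset.mul_sum]

theorem sum_cf (cg c0 c1 : ℤ) : ∑ i : GolayPt, cf cg c0 c1 i = 22 * cg + c0 + c1 := by
  unfold cf
  simp only [Finset.sum_add_distrib, Finset.sum_ite_eq', mem_univ, if_true, Finset.sum_const,
    card_univ, Cfsg.Agent.Lib.Helper9.GolayQR5.card_golayPt]
  simp only [nsmul_eq_mul]
  push_cast
  ring

theorem key_sum2 (B : ℕ) (cg c0 c1 og o0 o1 : ℤ) (x : GolayPt → ℤ)
    (hpos : ∀ i, 0 ≤ cf cg c0 c1 i * x i + cf og o0 o1 i) :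
    ((∑ i, kvp2 (kG B cg og) (kG B c0 o0) (kG B c1 o1) i (x i) : ℕ) : ℤ)
      = B * sqNorm x + (lin2 cg c0 c1 x + (22 * og + o0 + o1)) := by
  have h1 : ∀ i, ((kvp2 (kG B cg og) (kG B c0 o0) (kG B c1 o1) i (x i) : ℕ) : ℤ)
      = B * x i ^ 2 + (cf cg c0 c1 i * x i + cf og o0 o1 i) := by
    intro i
    rw [kvp2_eq]
    unfold kG
    push_cast
    rw [Int.toNat_of_nonneg (hpos i), sq_abs]
  push_cast
  rw [Finset.sum_congr rfl (fun i _ => h1 i), Finset.sum_add_distrib, Finset.sum_add_distrib,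
    ← Finset.mul_sum, sum_cf_mul, sum_cf]
  rfl

theorem lin_bounds2 (B : ℕ) (cg c0 c1 og o0 o1 mg m0 m1 : ℤ) (x : GolayPt → ℤ)
    (hpos : ∀ i, 0 ≤ cf cg c0 c1 i * x i + cf og o0 o1 i ∧
      cf cg c0 c1 i * x i + cf og o0 o1 i ≤ cf mg m0 m1 i)
    (hB : 22 * mg + m0 + m1 < B) :
    0 ≤ lin2 cg c0 c1 x + (22 * og + o0 + o1) ∧ lin2 cg c0 c1 x + (22 * og + o0 + o1) < B := by
  have hs : lin2 cg c0 c1 x + (22 * og + o0 + o1)
      = ∑ i, (cf cg c0 c1 i * x i + cf og o0 o1 i) := by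
    rw [Finset.sum_add_distrib, sum_cf_mul, sum_cf]
  rw [hs]
  constructor
  · exact Finset.sum_nonneg (fun i _ => (hpos i).1)
  · calc ∑ i, (cf cg c0 c1 i * x i + cf og o0 o1 i) ≤ ∑ i, cf mg m0 m1 i :=
          Finset.sum_le_sum (fun i _ => (hpos i).2)
      _ = 22 * mg + m0 + m1 := sum_cf _ _ _
      _ < B := hB

/-- lattice vectors with entries in `U`, sum of squares `N` and `lin2 cg c0 c1 x = s` -/
theorem lin2_count (U : Finset ℤ) (hU : U ⊆ Icc (-8) 8) (B : ℕ) (cg c0 c1 og o0 o1 mg m0 m1 : ℤ)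
    (hpos : ∀ i, ∀ a ∈ U, 0 ≤ cf cg c0 c1 i * a + cf og o0 o1 i ∧
      cf cg c0 c1 i * a + cf og o0 o1 i ≤ cf mg m0 m1 i)
    (hB : 22 * mg + m0 + m1 < B) (N : ℕ) (s : ℤ)
    (hcong : ∀ x : GolayPt → ℤ, (∀ i, x i % 2 = x none % 2) → lin2 cg c0 c1 x = s →
      (∑ i, x i) % 8 = 4 * (x none % 2))
    (hs0 : 0 ≤ s + (22 * og + o0 + o1)) (hs1 : s + (22 * og + o0 + o1) < B) :
    {x : GolayPt → ℤ | x ∈ leechLattice ∧ sqNorm x = N ∧ (∀ i, x i ∈ U) ∧
        lin2 cg c0 c1 x = s}.ncard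
      = T2 U (kG B cg og) (kG B c0 o0) (kG B c1 o1) (2 ^ 100)
          (B * N + (s + (22 * og + o0 + o1)).toNat) := by
  have key : ∀ x : GolayPt → ℤ, (∀ i, x i ∈ U) →
      (∑ i, kvp2 (kG B cg og) (kG B c0 o0) (kG B c1 o1) i (x i)
          = B * N + (s + (22 * og + o0 + o1)).toNat
        ↔ sqNorm x = N ∧ lin2 cg c0 c1 x = s) := by
    intro x hx
    have hp : ∀ i, 0 ≤ cf cg c0 c1 i * x i + cf og o0 o1 i ∧
        cf cg c0 c1 i * x i + cf og o0 o1 i ≤ cf mg m0 m1 i := fun i => hpos i (x i) (hx i)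
    have h2 := key_sum2 B cg c0 c1 og o0 o1 x (fun i => (hp i).1)
    obtain ⟨h3, h4⟩ := lin_bounds2 B cg c0 c1 og o0 o1 mg m0 m1 x hp hB
    have ht : (((s + (22 * og + o0 + o1)).toNat : ℕ) : ℤ) = s + (22 * og + o0 + o1) :=
      Int.toNat_of_nonneg hs0
    constructor
    · intro h
      rw [h] at h2
      rw [Nat.cast_add, ht] at h2
      push_cast at h2
      have hBpos : (0 : ℤ) < B := by omega
      have e : (B : ℤ) * (sqNorm x - N) = s - lin2 cg c0 c1 x := by linarith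
      have hq : sqNorm x - N = 0 := by
        by_contra hne
        have h5 : (1 : ℤ) ≤ |sqNorm x - N| := Int.one_le_abs hne
        have h6 : |(B : ℤ) * (sqNorm x - N)| = B * |sqNorm x - N| := by
          rw [abs_mul, abs_of_pos hBpos]
        have h7 : |s - lin2 cg c0 c1 x| < B := by
          rw [abs_lt]; constructor <;> linarith
        rw [← e, h6] at h7
        nlinarith
      rw [hq, mul_zero] at e
      constructor <;> linarith
    · rintro ⟨hN, hl⟩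
      have : ((∑ i, kvp2 (kG B cg og) (kG B c0 o0) (kG B c1 o1) i (x i) : ℕ) : ℤ)
          = ((B * N + (s + (22 * og + o0 + o1)).toNat : ℕ) : ℤ) := by
        rw [h2]
        push_cast
        rw [Int.toNat_of_nonneg hs0, hN, hl]
      exact_mod_cast this
  rw [← count_main2 U (kG B cg og) (kG B c0 o0) (kG B c1 o1) _ ?_ (2 ^ 100) (card_pow_lt U hU)]
  · congr 1
    ext x
    simp only [Set.mem_setOf_eq, mem_leechLattice_iff]
    constructor
    · rintro ⟨h1, h2, h3, h4⟩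
      exact ⟨h1, h3, (key x h3).mpr ⟨h2, h4⟩⟩
    · rintro ⟨h1, h3, h5⟩
      obtain ⟨h2, h4⟩ := (key x h3).mp h5
      exact ⟨h1, h2, h3, h4⟩
  · intro x hx hpar hk
    obtain ⟨-, hl⟩ := (key x hx).mp hk
    exact hcong x hpar hl

/-- a congruence condition on the coefficients which suffices -/
theorem cong_of_coeffs (cg c0 c1 s : ℤ) (hg : cg % 2 = 1) (hs : s % 8 = 0)
    (hc : ((c0 - cg) % 8 = 4 ∧ (c1 - cg) % 8 = 0) ∨ ((c0 - cg) % 8 = 0 ∧ (c1 - cg) % 8 = 4))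
    (x : GolayPt → ℤ) (hpar : ∀ i, x i % 2 = x none % 2) (hl : lin2 cg c0 c1 x = s) :
    (∑ i, x i) % 8 = 4 * (x none % 2) := by
  unfold lin2 at hl
  have h0 := hpar (some 0)
  obtain ⟨S, hS⟩ : ∃ S, S = ∑ i, x i := ⟨_, rfl⟩
  rw [← hS] at hl ⊢
  obtain ⟨q, hq⟩ : ∃ q, cg = 2 * q + 1 := ⟨cg / 2, by omega⟩
  rcases hc with ⟨h1, h2⟩ | ⟨h1, h2⟩
  · obtain ⟨a, ha⟩ : ∃ a, c0 - cg = 8 * a + 4 := ⟨(c0 - cg) / 8, by omega⟩
    obtain ⟨b, hb⟩ : ∃ b, c1 - cg = 8 * b := ⟨(c1 - cg) / 8, by omega⟩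
    rw [ha, hb, hq] at hl
    have e : (2 * q + 1) * S = s - 8 * (a * x none + b * x (some 0)) - 4 * x none := by
      linarith
    have e2 : ((2 * q + 1) * S) % 8 = (4 * (x none % 2)) % 8 := by
      rw [e]; omega
    -- multiply by the inverse of the odd number modulo 8
    have e3 : ((2 * q + 1) * ((2 * q + 1) * S)) % 8 = S % 8 := by
      obtain ⟨m, hm⟩ : ∃ m, q * (q + 1) = 2 * m := by
        have : (q * (q + 1)) % 2 = 0 := by
          rcases Int.emod_two_eq_zero_or_one q with h | h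
          · rw [Int.mul_emod, h]; simp
          · rw [Int.mul_emod, Int.add_emod, h]; simp
        exact ⟨(q * (q + 1)) / 2, by omega⟩
      have : (2 * q + 1) * ((2 * q + 1) * S) = S + 8 * (m * S) := by
        linear_combination (4 * S) * hm
      rw [this]; omega
    have e4 : ((2 * q + 1) * ((2 * q + 1) * S)) % 8 = ((2 * q + 1) * (4 * (x none % 2))) % 8 := by
      rw [Int.mul_emod, e2, ← Int.mul_emod]
    rw [e3] at e4
    rw [e4]
    rcases Int.emod_two_eq_zero_or_one (x none) with h | h <;> rw [h] <;> omega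
  · obtain ⟨a, ha⟩ : ∃ a, c0 - cg = 8 * a := ⟨(c0 - cg) / 8, by omega⟩
    obtain ⟨b, hb⟩ : ∃ b, c1 - cg = 8 * b + 4 := ⟨(c1 - cg) / 8, by omega⟩
    rw [ha, hb, hq] at hl
    have e : (2 * q + 1) * S = s - 8 * (a * x none + b * x (some 0)) - 4 * x (some 0) := by
      linarith
    have e2 : ((2 * q + 1) * S) % 8 = (4 * (x none % 2)) % 8 := by
      rw [e]; omega
    have e3 : ((2 * q + 1) * ((2 * q + 1) * S)) % 8 = S % 8 := by
      obtain ⟨m, hm⟩ : ∃ m, q * (q + 1) = 2 * m := by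
        have : (q * (q + 1)) % 2 = 0 := by
          rcases Int.emod_two_eq_zero_or_one q with h | h
          · rw [Int.mul_emod, h]; simp
          · rw [Int.mul_emod, Int.add_emod, h]; simp
        exact ⟨(q * (q + 1)) / 2, by omega⟩
      have : (2 * q + 1) * ((2 * q + 1) * S) = S + 8 * (m * S) := by
        linear_combination (4 * S) * hm
      rw [this]; omega
    have e4 : ((2 * q + 1) * ((2 * q + 1) * S)) % 8 = ((2 * q + 1) * (4 * (x none % 2))) % 8 := by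
      rw [Int.mul_emod, e2, ← Int.mul_emod]
    rw [e3] at e4
    rw [e4]
    rcases Int.emod_two_eq_zero_or_one (x none) with h | h <;> rw [h] <;> omega

/-- entries of short vectors -/
theorem entry_bound5 (x : GolayPt → ℤ) (N : ℤ) (hN : N ≤ 35) (hx : sqNorm x = N) (i : GolayPt) :
    x i ∈ Icc (-5 : ℤ) 5 := by
  have h1 : x i ^ 2 ≤ sqNorm x := by
    unfold sqNorm
    exact Finset.single_le_sum (f := fun i => x i ^ 2) (fun j _ => sq_nonneg (x j)) (mem_univ i)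
  rw [mem_Icc]
  constructor <;> nlinarith

/-! ### the shift form -/

def D2S (U : Finset ℤ) (kf k0 k1 : ℤ → ℕ) (t : ℕ) (μ : ℤ) (w : ℕ) (e0 e1 : Bool) : ℕ :=
  (((if e0 then PA U k0 (2 ^ 100) μ else PB U k0 (2 ^ 100) μ)
    * (if e1 then PA U k1 (2 ^ 100) μ else PB U k1 (2 ^ 100) μ)
    * PA U kf (2 ^ 100) μ ^ (w - e0.toNat - e1.toNat)
    * PB U kf (2 ^ 100) μ ^ (22 - (w - e0.toNat - e1.toNat))) >>> (100 * t)) % 2 ^ 100

theorem D2_shift (U : Finset ℤ) (kf k0 k1 : ℤ → ℕ) (t : ℕ) (μ : ℤ) (w : ℕ) (e0 e1 : Bool) :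
    D2 U kf k0 k1 (2 ^ 100) t μ w e0 e1 = D2S U kf k0 k1 t μ w e0 e1 := by
  unfold D2 D2S
  rw [Nat.shiftRight_eq_div_pow, pow_mul]

def T2P (U : Finset ℤ) (kf k0 k1 : ℤ → ℕ) (t : ℕ) (μ : ℤ) : ℕ :=
  D2S U kf k0 k1 t μ 0 false false
    + (77 * D2S U kf k0 k1 t μ 8 true true + 176 * D2S U kf k0 k1 t μ 8 true false
      + 176 * D2S U kf k0 k1 t μ 8 false true + 330 * D2S U kf k0 k1 t μ 8 false false)
    + (616 * D2S U kf k0 k1 t μ 12 true true + 672 * D2S U kf k0 k1 t μ 12 true false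
      + 672 * D2S U kf k0 k1 t μ 12 false true + 616 * D2S U kf k0 k1 t μ 12 false false)
    + (330 * D2S U kf k0 k1 t μ 16 true true + 176 * D2S U kf k0 k1 t μ 16 true false
      + 176 * D2S U kf k0 k1 t μ 16 false true + 77 * D2S U kf k0 k1 t μ 16 false false)
    + D2S U kf k0 k1 t μ 24 true true

def T2S (U : Finset ℤ) (kf k0 k1 : ℤ → ℕ) (t : ℕ) : ℕ :=
  T2P U kf k0 k1 t 0 + T2P U kf k0 k1 t 1

theorem T2_shift (U : Finset ℤ) (kf k0 k1 : ℤ → ℕ) (t : ℕ) :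
    T2 U kf k0 k1 (2 ^ 100) t = T2S U kf k0 k1 t := by
  unfold T2
  rw [Finset.sum_insert (by decide), Finset.sum_singleton]
  simp only [D2_shift]
  rfl

/-- all lattice vectors of sum of squares `N ≤ 35` with `lin2 cg c0 c1 x = s` -/
theorem lin2_count_all (B : ℕ) (cg c0 c1 og o0 o1 mg m0 m1 : ℤ)
    (hpos : ∀ i, ∀ a ∈ Icc (-5 : ℤ) 5, 0 ≤ cf cg c0 c1 i * a + cf og o0 o1 i ∧
      cf cg c0 c1 i * a + cf og o0 o1 i ≤ cf mg m0 m1 i)
    (hB : 22 * mg + m0 + m1 < B) (N : ℕ) (hN : N ≤ 35) (s : ℤ)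
    (hg : cg % 2 = 1) (hs : s % 8 = 0)
    (hc : ((c0 - cg) % 8 = 4 ∧ (c1 - cg) % 8 = 0) ∨ ((c0 - cg) % 8 = 0 ∧ (c1 - cg) % 8 = 4))
    (hs0 : 0 ≤ s + (22 * og + o0 + o1)) (hs1 : s + (22 * og + o0 + o1) < B) :
    {x : GolayPt → ℤ | x ∈ leechLattice ∧ sqNorm x = N ∧ lin2 cg c0 c1 x = s}.ncard
      = T2S (Icc (-5) 5) (kG B cg og) (kG B c0 o0) (kG B c1 o1)
          (B * N + (s + (22 * og + o0 + o1)).toNat) := by
  rw [← T2_shift, ← lin2_count (Icc (-5) 5) (by decide) B cg c0 c1 og o0 o1 mg m0 m1 hpos hB N s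
    (cong_of_coeffs cg c0 c1 s hg hs hc) hs0 hs1]
  congr 1
  ext x
  simp only [Set.mem_setOf_eq]
  constructor
  · rintro ⟨h1, h2, h3⟩
    exact ⟨h1, h2, entry_bound5 x N (by exact_mod_cast hN) h2, h3⟩
  · rintro ⟨h1, h2, -, h3⟩
    exact ⟨h1, h2, h3⟩

/-! ### inner products -/

theorem dot_dvd8 (a b : GolayPt → ℤ) (ha : a ∈ leechLattice) (hb : b ∈ leechLattice) :
    (8 : ℤ) ∣ dotInt a b := by
  have h1 := Cfsg.Agent.S0392.result a ha
  have h2 := Cfsg.Agent.S0392.result b hb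
  have h3 := Cfsg.Agent.S0392.result (a + b) (leechLattice.add_mem ha hb)
  rw [sqNorm_add] at h3
  omega

theorem dot_sq_le (a b : GolayPt → ℤ) : dotInt a b ^ 2 ≤ sqNorm a * sqNorm b := by
  unfold dotInt sqNorm
  exact Finset.sum_mul_sq_le_sq_mul_sq univ a b

end Cfsg.Agent.Lib.Helper9.LeechE3
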