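import Cfsg.Agent.Lib.Helper9.LeechE5

set_option autoImplicit false

/-! An involution fixing a pair of vectors of sum of squares 48 with inner product `-32` and
moving each of the hundred minimal vectors attached to the pair. -/

namespace Cfsg.Agent.Lib.Helper9.LeechE6

open Cfsg Finset Cfsg.Agent.Lib.Helper4.Leech Cfsg.Agent.Lib.Helper9.LeechE3
  Cfsg.Agent.Lib.Helper9.LeechE4 Cfsg.Agent.Lib.Helper9.LeechE5
  Cfsg.Agent.Lib.Helper9.LeechM1 Cfsg.Agent.Lib.Helper9.M24U1
  Cfsg.Agent.Lib.Helper9.GolayQR1 Cfsg.Agent.Lib.Helper9.GolayQR3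
  Cfsg.Agent.Lib.Helper9.LeechX4 Cfsg.Agent.Lib.Helper9.LeechX7 Cfsg.Agent.Lib.Helper9.LeechX8
  Cfsg.Agent.Lib.Helper9.LeechX9 Cfsg.Agent.Lib.Helper9.LeechX11
  Cfsg.Agent.Lib.Helper9.LeechP1 Cfsg.Agent.Lib.Helper9.LeechC7
open Cfsg.Agent.Lib.Helper9.LeechC2 (fwd par)

def Lv1 : List ℤ := [2, 2, 0, 0, 2, 0, 2, 2, 2, 2, 0, 2, 0, 0, 2, 2, 0, 2, 0, 0, 0, 0, 2, 0]
def Lw1 : List ℤ :=
  [2, 2, 0, 0, -2, 0, -2, -2, -2, -2, 0, -2, 0, 0, -2, -2, 0, -2, 0, 0, 0, 0, -2, 0]

theorem Lv1_mem : vecL Lv1 ∈ leechLattice :=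
  mem_of_data _ 0 4377555 (Or.inl rfl) (by decide +kernel) (by decide +kernel) (by decide +kernel)

theorem Lw1_mem : vecL Lw1 ∈ leechLattice :=
  mem_of_data _ 0 4377555 (Or.inl rfl) (by decide +kernel) (by decide +kernel) (by decide +kernel)

/-- a vector with entries `2` on a dodecad -/
def v1 : leechLattice := ⟨vecL Lv1, Lv1_mem⟩

/-- its partner -/
def w1 : leechLattice := ⟨vecL Lw1, Lw1_mem⟩

theorem v1_norm : sqNorm v1.1 = 48 := by decide +kernel
theorem w1_norm : sqNorm w1.1 = 48 := by decide +kernel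
theorem v1_w1 : dotInt v1.1 w1.1 = -32 := by decide +kernel

theorem v1_vals : ∀ i : GolayPt,
    v1.1 i = if (12399660 : ℕ).testBit (idx i) = true then 0 else 2 := by decide +kernel

theorem w1_zero : ∀ i : GolayPt, (12399660 : ℕ).testBit (idx i) = true → w1.1 i = 0 := by
  decide +kernel

theorem mask_cw : reprod 12399660 = 12399660 := by decide +kernel

/-- sign change on the complementary dodecad -/
def g0 : Equiv.Perm leechLattice := eps (M 12399660) (mask_mem_Code _ mask_cw)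

theorem g0_mem : g0 ∈ Co0 := eps_mem _ _

theorem g0_val (x : leechLattice) (i : GolayPt) :
    (g0 x).1 i = if (12399660 : ℕ).testBit (idx i) = true then -x.1 i else x.1 i := by
  unfold g0
  rw [eps_val]
  simp only [mem_M]

theorem g0_fix_of_zero (x : leechLattice)
    (hx : ∀ i : GolayPt, (12399660 : ℕ).testBit (idx i) = true → x.1 i = 0) : g0 x = x := by
  apply Subtype.ext
  funext i
  rw [g0_val]
  split_ifs with h
  · rw [hx i h]; rfl
  · rfl

theorem g0_v1 : g0 v1 = v1 := by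
  apply g0_fix_of_zero
  intro i hi
  rw [v1_vals, if_pos hi]

theorem g0_w1 : g0 w1 = w1 := g0_fix_of_zero w1 w1_zero

theorem g0_sq : g0 * g0 = 1 := by
  apply Equiv.ext
  intro x
  apply Subtype.ext
  funext i
  rw [Equiv.Perm.mul_apply, g0_val, g0_val]
  split_ifs <;> simp

theorem g0_ne_one : g0 ≠ 1 := by
  intro h
  have h1 : (g0 z0).1 none = z0.1 none := by rw [h]; rfl
  rw [g0_val] at h1
  revert h1
  decide +kernel

/-- a minimal vector fixed by the sign change does not have inner product `24` with `v1` -/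
theorem fpf_std (x : leechLattice) (hfix : g0 x = x) : dotInt v1.1 x.1 ≠ 24 := by
  have hz : ∀ i : GolayPt, (12399660 : ℕ).testBit (idx i) = true → x.1 i = 0 := by
    intro i hi
    have : (g0 x).1 i = x.1 i := by rw [hfix]
    rw [g0_val, if_pos hi] at this
    omega
  have hdot : dotInt v1.1 x.1 = 2 * ∑ i, x.1 i := by
    unfold dotInt
    rw [Finset.mul_sum]
    apply Finset.sum_congr rfl
    intro i _
    rw [v1_vals]
    split_ifs with h
    · rw [hz i h]; ring
    · rfl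
  have hx := (mem_leechLattice_iff x.1).mp x.2
  obtain ⟨-, -, -, h4⟩ := fwd hx
  have hp : par x.1 = 0 := by
    unfold par
    rw [hz none (by decide)]
    rfl
  rw [hp] at h4
  intro h24
  rw [hdot] at h24
  omega

/-- the general statement -/
theorem hs_fpf (v w : leechLattice) (hv : sqNorm v.1 = 48) (hw : sqNorm w.1 = 48)
    (hd : dotInt v.1 w.1 = -32) :
    ∃ g ∈ Co0, g v = v ∧ g w = w ∧ g * g = 1 ∧ g ≠ 1 ∧
      ∀ x : leechLattice, dotInt v.1 x.1 = 24 → g x ≠ x := by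
  obtain ⟨h, hh, h1, h2⟩ := (hs_pair_std v w hv hw hd).trans
    (hs_pair_std v1 w1 v1_norm w1_norm v1_w1).symm
  refine ⟨h⁻¹ * g0 * h, Co0.mul_mem (Co0.mul_mem (Co0.inv_mem hh) g0_mem) hh, ?_, ?_, ?_, ?_, ?_⟩
  · rw [Equiv.Perm.mul_apply, Equiv.Perm.mul_apply, h1, g0_v1, ← h1]; simp
  · rw [Equiv.Perm.mul_apply, Equiv.Perm.mul_apply, h2, g0_w1, ← h2]; simp
  · calc h⁻¹ * g0 * h * (h⁻¹ * g0 * h) = h⁻¹ * (g0 * g0) * h := by group
      _ = 1 := by rw [g0_sq]; group
  · intro he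
    apply g0_ne_one
    calc g0 = h * (h⁻¹ * g0 * h) * h⁻¹ := by group
      _ = 1 := by rw [he]; group
  · intro x hx hfix
    rw [Equiv.Perm.mul_apply, Equiv.Perm.mul_apply] at hfix
    have e : g0 (h x) = h x := by
      have := congrArg h hfix
      simpa using this
    apply fpf_std (h x) e
    rw [← h1, dot_pres h hh]
    exact hx

end Cfsg.Agent.Lib.Helper9.LeechE6
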