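import Cfsg.Agent.Lib.Helper9.LeechE3

set_option autoImplicit false

/-! Counting lattice vectors of given sum of squares and given sum of entries with prescribed
entries at the two standard positions. -/

namespace Cfsg.Agent.Lib.Helper9.LeechE7

open Cfsg Finset Cfsg.Agent.Lib.Helper4.Leech Cfsg.Agent.Lib.Helper9.LeechC3
  Cfsg.Agent.Lib.Helper9.LeechE2 Cfsg.Agent.Lib.Helper9.LeechE3 Cfsg.Agent.Lib.Helper9.LeechC4
  Cfsg.Agent.Lib.Helper9.LeechC7

/-- key of a pinned position: a penalty unless the entry is the prescribed one -/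
def kP (B P : ℕ) (a0 : ℤ) (a : ℤ) : ℕ := if a = a0 then kG B 1 5 a else P

theorem kG_cast (B : ℕ) (a : ℤ) (ha : a ∈ Icc (-5 : ℤ) 5) :
    ((kG B 1 5 a : ℕ) : ℤ) = B * a ^ 2 + (a + 5) := by
  have := mem_Icc.mp ha
  unfold kG
  push_cast
  rw [Int.toNat_of_nonneg (by omega), sq_abs]
  ring

theorem sum_kG (B : ℕ) (x : GolayPt → ℤ) (hx : ∀ i, x i ∈ Icc (-5 : ℤ) 5) :
    ((∑ i, kG B 1 5 (x i) : ℕ) : ℤ) = B * sqNorm x + (∑ i, x i + 120) := by
  push_cast
  rw [Finset.sum_congr rfl (fun i _ => kG_cast B (x i) (hx i)), Finset.sum_add_distrib,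
    Finset.sum_add_distrib, ← Finset.mul_sum, Finset.sum_const, card_univ,
    Cfsg.Agent.Lib.Helper9.GolayQR5.card_golayPt]
  unfold sqNorm
  simp only [nsmul_eq_mul]
  push_cast
  ring

theorem sum_bounds (x : GolayPt → ℤ) (hx : ∀ i, x i ∈ Icc (-5 : ℤ) 5) :
    0 ≤ ∑ i, x i + 120 ∧ ∑ i, x i + 120 ≤ 240 := by
  have e : ∑ i, x i + 120 = ∑ i, (x i + 5) := by
    rw [Finset.sum_add_distrib, Finset.sum_const, card_univ,
      Cfsg.Agent.Lib.Helper9.GolayQR5.card_golayPt]
    simp
  rw [e]
  constructor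
  · apply Finset.sum_nonneg
    intro i _
    have := mem_Icc.mp (hx i)
    omega
  · calc ∑ i, (x i + 5) ≤ ∑ _i : GolayPt, (10 : ℤ) := by
          apply Finset.sum_le_sum
          intro i _
          have := mem_Icc.mp (hx i)
          omega
      _ = 240 := by
          rw [Finset.sum_const, card_univ, Cfsg.Agent.Lib.Helper9.GolayQR5.card_golayPt]
          norm_num

/-- lattice vectors with sum of squares `N`, entries `a0`, `a1` at the standard positions and
sum of entries `s` -/
theorem pin_count (B : ℕ) (hB : 240 < B) (a0 a1 : ℤ) (N : ℕ) (hN : N ≤ 35) (s : ℤ)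
    (hs : s % 8 = 4 * (a0 % 2)) (hs0 : 0 ≤ s + 120) (hs1 : s + 120 < B) :
    {x : GolayPt → ℤ | x ∈ leechLattice ∧ sqNorm x = N ∧ x none = a0 ∧ x (some 0) = a1 ∧
        ∑ i, x i = s}.ncard
      = T2S (Icc (-5) 5) (kG B 1 5) (kP B (B * (N + 1)) a0) (kP B (B * (N + 1)) a1)
          (B * N + (s + 120).toNat) := by
  have ht : (((s + 120).toNat : ℕ) : ℤ) = s + 120 := Int.toNat_of_nonneg hs0
  have key : ∀ x : GolayPt → ℤ, (∀ i, x i ∈ Icc (-5 : ℤ) 5) →
      (∑ i, kvp2 (kG B 1 5) (kP B (B * (N + 1)) a0) (kP B (B * (N + 1)) a1) i (x i)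
          = B * N + (s + 120).toNat
        ↔ sqNorm x = N ∧ x none = a0 ∧ x (some 0) = a1 ∧ ∑ i, x i = s) := by
    intro x hx
    obtain ⟨b0, b1⟩ := sum_bounds x hx
    have hnopen : x none = a0 → x (some 0) = a1 → ∀ i,
        kvp2 (kG B 1 5) (kP B (B * (N + 1)) a0) (kP B (B * (N + 1)) a1) i (x i)
          = kG B 1 5 (x i) := by
      intro h0 h1 i
      cases i with
      | none => simp [kvp2, kP, h0]
      | some j =>
        by_cases hj : j = 0
        · subst hj; simp [kvp2, kP, h1]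
        · simp [kvp2, hj]
    have hlt : B * N + (s + 120).toNat < B * (N + 1) := by
      have : (s + 120).toNat < B := by
        zify
        rw [ht]; exact hs1
      nlinarith
    constructor
    · intro h
      have h0 : x none = a0 := by
        by_contra hne
        have hle : kvp2 (kG B 1 5) (kP B (B * (N + 1)) a0) (kP B (B * (N + 1)) a1) none (x none)
            ≤ ∑ i, kvp2 (kG B 1 5) (kP B (B * (N + 1)) a0) (kP B (B * (N + 1)) a1) i (x i) :=
          Finset.single_le_sum (f := fun i =>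
            kvp2 (kG B 1 5) (kP B (B * (N + 1)) a0) (kP B (B * (N + 1)) a1) i (x i))
            (fun _ _ => Nat.zero_le _) (mem_univ none)
        have e : kvp2 (kG B 1 5) (kP B (B * (N + 1)) a0) (kP B (B * (N + 1)) a1) none (x none)
            = B * (N + 1) := by
          simp [kvp2, kP, hne]
        rw [e, h] at hle
        omega
      have h1 : x (some 0) = a1 := by
        by_contra hne
        have hle : kvp2 (kG B 1 5) (kP B (B * (N + 1)) a0) (kP B (B * (N + 1)) a1) (some 0)
              (x (some 0))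
            ≤ ∑ i, kvp2 (kG B 1 5) (kP B (B * (N + 1)) a0) (kP B (B * (N + 1)) a1) i (x i) :=
          Finset.single_le_sum (f := fun i =>
            kvp2 (kG B 1 5) (kP B (B * (N + 1)) a0) (kP B (B * (N + 1)) a1) i (x i))
            (fun _ _ => Nat.zero_le _) (mem_univ (some 0))
        have e : kvp2 (kG B 1 5) (kP B (B * (N + 1)) a0) (kP B (B * (N + 1)) a1) (some 0)
            (x (some 0)) = B * (N + 1) := by
          simp [kvp2, kP, hne]
        rw [e, h] at hle
        omega
      rw [Finset.sum_congr rfl (fun i _ => hnopen h0 h1 i)] at h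
      have h2 := sum_kG B x hx
      rw [h] at h2
      rw [Nat.cast_add, ht] at h2
      push_cast at h2
      have hBpos : (0 : ℤ) < B := by omega
      have e : (B : ℤ) * (sqNorm x - N) = s - ∑ i, x i := by linarith
      have hq : sqNorm x - N = 0 := by
        by_contra hne
        have h5 : (1 : ℤ) ≤ |sqNorm x - N| := Int.one_le_abs hne
        have h6 : |(B : ℤ) * (sqNorm x - N)| = B * |sqNorm x - N| := by
          rw [abs_mul, abs_of_pos hBpos]
        have h7 : |s - ∑ i, x i| < B := by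
          rw [abs_lt]; constructor <;> linarith
        rw [← e, h6] at h7
        nlinarith
      rw [hq, mul_zero] at e
      exact ⟨by linarith, h0, h1, by linarith⟩
    · rintro ⟨hN', h0, h1, hsum⟩
      rw [Finset.sum_congr rfl (fun i _ => hnopen h0 h1 i)]
      have : ((∑ i, kG B 1 5 (x i) : ℕ) : ℤ) = ((B * N + (s + 120).toNat : ℕ) : ℤ) := by
        rw [sum_kG B x hx]
        push_cast
        rw [ht, hN', hsum]
      exact_mod_cast this
  rw [← T2_shift, ← count_main2 (Icc (-5) 5) (kG B 1 5) (kP B (B * (N + 1)) a0)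
    (kP B (B * (N + 1)) a1) _ ?_ (2 ^ 100) (card_pow_lt _ (by decide))]
  · congr 1
    ext x
    simp only [Set.mem_setOf_eq, mem_leechLattice_iff]
    constructor
    · rintro ⟨h1, h2, h3, h4, h5⟩
      have hU : ∀ i, x i ∈ Icc (-5 : ℤ) 5 := entry_bound5 x N (by exact_mod_cast hN) h2
      exact ⟨h1, hU, (key x hU).mpr ⟨h2, h3, h4, h5⟩⟩
    · rintro ⟨h1, hU, h5⟩
      obtain ⟨h2, h3, h4, h6⟩ := (key x hU).mp h5
      exact ⟨h1, h2, h3, h4, h6⟩
  · intro x hx _ hk
    obtain ⟨-, h0, -, hsum⟩ := (key x hx).mp hk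
    rw [hsum, h0]
    exact hs

end Cfsg.Agent.Lib.Helper9.LeechE7
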