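import Cfsg.Agent.Lib.Helper9.LeechE5
import Cfsg.Agent.Lib.Helper9.LeechE7

set_option autoImplicit false

/-! The hundred minimal vectors attached to a pair of vectors of sum of squares 48 with inner
product `-32`: the census by inner product with one of them. -/

namespace Cfsg.Agent.Lib.Helper9.LeechE8

open Cfsg Finset Cfsg.Agent.Lib.Helper4.Leech Cfsg.Agent.Lib.Helper9.LeechE3
  Cfsg.Agent.Lib.Helper9.LeechE4 Cfsg.Agent.Lib.Helper9.LeechE5 Cfsg.Agent.Lib.Helper9.LeechE7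
  Cfsg.Agent.Lib.Helper9.LeechX4 Cfsg.Agent.Lib.Helper9.LeechX7 Cfsg.Agent.Lib.Helper9.LeechX8
  Cfsg.Agent.Lib.Helper9.LeechX9 Cfsg.Agent.Lib.Helper9.LeechX10 Cfsg.Agent.Lib.Helper9.LeechX11
  Cfsg.Agent.Lib.Helper9.LeechP1 Cfsg.Agent.Lib.Helper9.LeechP2 Cfsg.Agent.Lib.Helper9.LeechP4
  Cfsg.Agent.Lib.Helper9.LeechP8 Cfsg.Agent.Lib.Helper9.LeechP9 Cfsg.Agent.Lib.Helper9.LeechC7

set_option maxRecDepth 100000 in
theorem T_22 : T2S (Icc (-5) 5) (kG 256 1 5) (kP 256 (256 * (32 + 1)) 1)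
    (kP 256 (256 * (32 + 1)) 1) (256 * 32 + 140) = 22 := by
  decide +kernel

set_option maxRecDepth 100000 in
theorem T_77 : T2S (Icc (-5) 5) (kG 256 1 5) (kP 256 (256 * (32 + 1)) 2)
    (kP 256 (256 * (32 + 1)) 2) (256 * 32 + 136) = 77 := by
  decide +kernel

theorem w0_dot (y : GolayPt → ℤ) : dotInt w0.1 y = -(dotInt rG.1 y + dotInt z0.1 y) := by
  show dotInt (-(rG.1 + z0.1)) y = _
  rw [dot_neg_left, dot_add_left]

theorem rA_norm : sqNorm rA.1 = 32 := by decide +kernel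
theorem rG_rA : dotInt rG.1 rA.1 = 24 := by decide +kernel
theorem z0_rA : dotInt z0.1 rA.1 = 0 := by decide +kernel

theorem w0_rA : dotInt w0.1 rA.1 = -24 := by
  rw [w0_dot, rG_rA, z0_rA]; norm_num

/-- the standard counts -/
theorem count22_std :
    {y : GolayPt → ℤ | y ∈ leechLattice ∧ sqNorm y = 32 ∧ dotInt rG.1 y = 24 ∧
      dotInt z0.1 y = 0 ∧ dotInt rA.1 y = 8}.ncard = 22 := by
  have h := pin_count 256 (by norm_num) 1 1 32 (by norm_num) 20 (by norm_num) (by norm_num)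
    (by norm_num)
  rw [show ((20 : ℤ) + 120).toNat = 140 by decide, T_22] at h
  refine (congrArg Set.ncard ?_).trans h
  ext y
  simp only [Set.mem_setOf_eq, dot_rG', dot_z0, dot_rA]
  unfold lin2
  constructor
  · rintro ⟨h1, h2, h3, h4, h5⟩
    refine ⟨h1, by exact_mod_cast h2, by omega, by omega, by omega⟩
  · rintro ⟨h1, h2, h3, h4, h5⟩
    refine ⟨h1, by exact_mod_cast h2, by omega, by omega, by omega⟩

theorem count77_std :
    {y : GolayPt → ℤ | y ∈ leechLattice ∧ sqNorm y = 32 ∧ dotInt rG.1 y = 24 ∧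
      dotInt z0.1 y = 0 ∧ dotInt rA.1 y = 16}.ncard = 77 := by
  have h := pin_count 256 (by norm_num) 2 2 32 (by norm_num) 16 (by norm_num) (by norm_num)
    (by norm_num)
  rw [show ((16 : ℤ) + 120).toNat = 136 by decide, T_77] at h
  refine (congrArg Set.ncard ?_).trans h
  ext y
  simp only [Set.mem_setOf_eq, dot_rG', dot_z0, dot_rA]
  unfold lin2
  constructor
  · rintro ⟨h1, h2, h3, h4, h5⟩
    refine ⟨h1, by exact_mod_cast h2, by omega, by omega, by omega⟩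
  · rintro ⟨h1, h2, h3, h4, h5⟩
    refine ⟨h1, by exact_mod_cast h2, by omega, by omega, by omega⟩

/-! ### transport -/

theorem ncard_transport3 (g : Equiv.Perm leechLattice) (hg : g ∈ Co0) (v w x : leechLattice)
    (P : ℤ → ℤ → ℤ → ℤ → Prop) :
    {y : leechLattice | P (sqNorm y.1) (dotInt v.1 y.1) (dotInt w.1 y.1)
        (dotInt x.1 y.1)}.ncard
      = {y : leechLattice | P (sqNorm y.1) (dotInt (g v).1 y.1) (dotInt (g w).1 y.1)
          (dotInt (g x).1 y.1)}.ncard := by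
  have himg : {y : leechLattice | P (sqNorm y.1) (dotInt (g v).1 y.1) (dotInt (g w).1 y.1)
        (dotInt (g x).1 y.1)}
      = g '' {y : leechLattice | P (sqNorm y.1) (dotInt v.1 y.1) (dotInt w.1 y.1)
          (dotInt x.1 y.1)} := by
    ext y
    simp only [Set.mem_setOf_eq, Set.mem_image]
    constructor
    · intro hy
      refine ⟨g.symm y, ?_, Equiv.apply_symm_apply g y⟩
      have e1 := hg.2 (g.symm y)
      have e2 := dot_pres g hg v (g.symm y)
      have e3 := dot_pres g hg w (g.symm y)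
      have e4 := dot_pres g hg x (g.symm y)
      rw [Equiv.apply_symm_apply] at e1 e2 e3 e4
      rw [← e1, ← e2, ← e3, ← e4]
      exact hy
    · rintro ⟨y, hy, rfl⟩
      rw [hg.2 y, dot_pres g hg, dot_pres g hg, dot_pres g hg]
      exact hy
  rw [himg, Set.ncard_image_of_injective _ g.injective]

/-- every triple is in the orbit of the standard triple -/
theorem hs_triple_rA (v w x : leechLattice) (hv : sqNorm v.1 = 48) (hw : sqNorm w.1 = 48)
    (hd : dotInt v.1 w.1 = -32) (hx : sqNorm x.1 = 32) (hvx : dotInt v.1 x.1 = 24)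
    (hwx : dotInt w.1 x.1 = -24) :
    ∃ g ∈ Co0, g v = rG ∧ g w = w0 ∧ g x = rA := by
  obtain ⟨g, hg, g1, g2, g3⟩ := hs_triple_std v w x hv hw hd hx hvx hwx
  obtain ⟨g', hg', g1', g2', g3'⟩ := hs_triple_std rG w0 rA rG_norm w0_norm rG_w0 rA_norm
    rG_rA w0_rA
  have hm : g'⁻¹ * g ∈ Co0 := Co0.mul_mem (Co0.inv_mem hg') hg
  have ev : (g'⁻¹ * g) v = rG := by
    rw [Equiv.Perm.mul_apply, g1, ← g1']; simp
  have ez : (g'⁻¹ * g) (-(v + w)) = -(rG + w0) := by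
    rw [Equiv.Perm.mul_apply, g2, ← g2']; simp
  refine ⟨g'⁻¹ * g, hm, ev, ?_, ?_⟩
  · have e : w = -(-(v + w)) - v := by abel
    rw [e, co0_sub _ hm, co0_neg _ hm, ez, ev]
    abel
  · rw [Equiv.Perm.mul_apply, g3, ← g3']; simp

/-- the count of the vectors with a given inner product with one of the hundred -/
theorem hs_count_d (v w x : leechLattice) (hv : sqNorm v.1 = 48) (hw : sqNorm w.1 = 48)
    (hd : dotInt v.1 w.1 = -32) (hx : sqNorm x.1 = 32) (hvx : dotInt v.1 x.1 = 24)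
    (hwx : dotInt w.1 x.1 = -24) (d : ℤ) :
    {y : leechLattice | sqNorm y.1 = 32 ∧ dotInt v.1 y.1 = 24 ∧ dotInt w.1 y.1 = -24 ∧
        dotInt x.1 y.1 = d}.ncard
      = {y : GolayPt → ℤ | y ∈ leechLattice ∧ sqNorm y = 32 ∧ dotInt rG.1 y = 24 ∧
          dotInt z0.1 y = 0 ∧ dotInt rA.1 y = d}.ncard := by
  obtain ⟨g, hg, g1, g2, g3⟩ := hs_triple_rA v w x hv hw hd hx hvx hwx
  have h := ncard_transport3 g hg v w x (fun n a b c => n = 32 ∧ a = 24 ∧ b = -24 ∧ c = d)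
  rw [h, g1, g2, g3]
  have himg : {y : GolayPt → ℤ | y ∈ leechLattice ∧ sqNorm y = 32 ∧ dotInt rG.1 y = 24 ∧
      dotInt z0.1 y = 0 ∧ dotInt rA.1 y = d}
      = Subtype.val '' {y : leechLattice | sqNorm y.1 = 32 ∧ dotInt rG.1 y.1 = 24 ∧
          dotInt w0.1 y.1 = -24 ∧ dotInt rA.1 y.1 = d} := by
    ext y
    simp only [Set.mem_setOf_eq, Set.mem_image]
    constructor
    · rintro ⟨h1, h2, h3, h4, h5⟩
      refine ⟨⟨y, h1⟩, ⟨h2, h3, ?_, h5⟩, rfl⟩
      rw [w0_dot, h3, h4]; norm_num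
    · rintro ⟨y, ⟨h2, h3, h4, h5⟩, rfl⟩
      refine ⟨y.2, h2, h3, ?_, h5⟩
      rw [w0_dot, h3] at h4
      linarith
  rw [himg, Set.ncard_image_of_injective _ Subtype.val_injective]

theorem hs_count22 (v w x : leechLattice) (hv : sqNorm v.1 = 48) (hw : sqNorm w.1 = 48)
    (hd : dotInt v.1 w.1 = -32) (hx : sqNorm x.1 = 32) (hvx : dotInt v.1 x.1 = 24)
    (hwx : dotInt w.1 x.1 = -24) :
    {y : leechLattice | sqNorm y.1 = 32 ∧ dotInt v.1 y.1 = 24 ∧ dotInt w.1 y.1 = -24 ∧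
        dotInt x.1 y.1 = 8}.ncard = 22 := by
  rw [hs_count_d v w x hv hw hd hx hvx hwx 8, count22_std]

theorem hs_count77 (v w x : leechLattice) (hv : sqNorm v.1 = 48) (hw : sqNorm w.1 = 48)
    (hd : dotInt v.1 w.1 = -32) (hx : sqNorm x.1 = 32) (hvx : dotInt v.1 x.1 = 24)
    (hwx : dotInt w.1 x.1 = -24) :
    {y : leechLattice | sqNorm y.1 = 32 ∧ dotInt v.1 y.1 = 24 ∧ dotInt w.1 y.1 = -24 ∧
        dotInt x.1 y.1 = 16}.ncard = 77 := by
  rw [hs_count_d v w x hv hw hd hx hvx hwx 16, count77_std]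

/-- the three possibilities for the inner product with one of the hundred vectors -/
theorem hs_other (v w x y : leechLattice) (hv : sqNorm v.1 = 48) (hw : sqNorm w.1 = 48)
    (hd : dotInt v.1 w.1 = -32) (hx : sqNorm x.1 = 32) (hvx : dotInt v.1 x.1 = 24)
    (hwx : dotInt w.1 x.1 = -24) (hy : sqNorm y.1 = 32) (hvy : dotInt v.1 y.1 = 24)
    (hwy : dotInt w.1 y.1 = -24) :
    y = x ∨ dotInt x.1 y.1 = 8 ∨ dotInt x.1 y.1 = 16 := by
  obtain ⟨S, hS⟩ : ∃ S : Set leechLattice, S = {y : leechLattice | sqNorm y.1 = 32 ∧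
      dotInt v.1 y.1 = 24 ∧ dotInt w.1 y.1 = -24} := ⟨_, rfl⟩
  obtain ⟨A, hA⟩ : ∃ A : Set leechLattice, A = {y : leechLattice | sqNorm y.1 = 32 ∧
      dotInt v.1 y.1 = 24 ∧ dotInt w.1 y.1 = -24 ∧ dotInt x.1 y.1 = 8} := ⟨_, rfl⟩
  obtain ⟨B, hB⟩ : ∃ B : Set leechLattice, B = {y : leechLattice | sqNorm y.1 = 32 ∧
      dotInt v.1 y.1 = 24 ∧ dotInt w.1 y.1 = -24 ∧ dotInt x.1 y.1 = 16} := ⟨_, rfl⟩
  have cS : S.ncard = 100 := by rw [hS]; exact hs_count v w hv hw hd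
  have cA : A.ncard = 22 := by rw [hA]; exact hs_count22 v w x hv hw hd hx hvx hwx
  have cB : B.ncard = 77 := by rw [hB]; exact hs_count77 v w x hv hw hd hx hvx hwx
  have fS : S.Finite := Set.finite_of_ncard_ne_zero (by rw [cS]; norm_num)
  have sA : A ⊆ S := by
    rw [hA, hS]; rintro z ⟨h1, h2, h3, -⟩; exact ⟨h1, h2, h3⟩
  have sB : B ⊆ S := by
    rw [hB, hS]; rintro z ⟨h1, h2, h3, -⟩; exact ⟨h1, h2, h3⟩
  have sx : ({x} : Set leechLattice) ⊆ S := by
    rw [hS]; rintro z rfl; exact ⟨hx, hvx, hwx⟩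
  have fA : A.Finite := fS.subset sA
  have fB : B.Finite := fS.subset sB
  have dxx : dotInt x.1 x.1 = 32 := by rw [dot_self]; exact hx
  have dAB : Disjoint A B := by
    rw [Set.disjoint_left, hA, hB]
    rintro z ⟨-, -, -, h8⟩ ⟨-, -, -, h16⟩
    rw [h8] at h16; norm_num at h16
  have dABx : Disjoint (A ∪ B) {x} := by
    rw [Set.disjoint_singleton_right, hA, hB]
    rintro (⟨-, -, -, h⟩ | ⟨-, -, -, h⟩)
    · rw [dxx] at h; norm_num at h
    · rw [dxx] at h; norm_num at h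
  have cU : (A ∪ B ∪ {x}).ncard = 100 := by
    rw [Set.ncard_union_eq dABx (fA.union fB) (Set.finite_singleton x),
      Set.ncard_union_eq dAB fA fB, cA, cB, Set.ncard_singleton]
  have hU : A ∪ B ∪ {x} = S :=
    Set.eq_of_subset_of_ncard_le (Set.union_subset (Set.union_subset sA sB) sx)
      (by rw [cS, cU]) fS
  have hyS : y ∈ S := by rw [hS]; exact ⟨hy, hvy, hwy⟩
  rw [← hU] at hyS
  rcases hyS with (hyA | hyB) | hyx
  · rw [hA] at hyA; exact Or.inr (Or.inl hyA.2.2.2)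
  · rw [hB] at hyB; exact Or.inr (Or.inr hyB.2.2.2)
  · exact Or.inl hyx

end Cfsg.Agent.Lib.Helper9.LeechE8
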