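import Cfsg.Agent.Lib.Helper9.M24X10

set_option autoImplicit false

namespace Cfsg.Agent.Lib.Helper9.M24X11

open Cfsg Finset Cfsg.Agent.Lib.Helper9.Golay1 Cfsg.Agent.Lib.Helper9.GolayQR1
  Cfsg.Agent.Lib.Helper9.GolayQR5
  Cfsg.Agent.Lib.Helper9.M24T1 Cfsg.Agent.Lib.Helper9.M24T3 Cfsg.Agent.Lib.Helper9.M24T5
  Cfsg.Agent.Lib.Helper9.M24T6 Cfsg.Agent.Lib.Helper9.M24T7
  Cfsg.Agent.Lib.Helper9.M24T8 Cfsg.Agent.Lib.Helper9.M24T9
  Cfsg.Agent.Lib.Helper9.M24U1 Cfsg.Agent.Lib.Helper9.M24U2 Cfsg.Agent.Lib.Helper9.M24U3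
  Cfsg.Agent.Lib.Helper9.M24U4 Cfsg.Agent.Lib.Helper9.M24U5 Cfsg.Agent.Lib.Helper9.M24U6
  Cfsg.Agent.Lib.Helper9.M24V2 Cfsg.Agent.Lib.Helper9.M24X1 Cfsg.Agent.Lib.Helper9.M24X2
  Cfsg.Agent.Lib.Helper9.M24X4
  Cfsg.Agent.Lib.Helper9.M24X9 Cfsg.Agent.Lib.Helper9.M24X10
open scoped Pointwise

/-- the stabilizer of the standard flag is transitive on the other points of the octad -/
theorem flag_stab_trans : ∀ p : GolayPt, p ∈ L8 → p ≠ none →
    ∃ u ∈ stabC [23] [oMask], u (some 0) = p := by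
  have hfs : ∀ f ∈ ([⇑B1, ⇑B2] : List (GolayPt → GolayPt)),
      ∃ h ∈ stabC [23] [oMask], ⇑h = f := by
    intro f hf
    simp only [List.mem_cons, List.not_mem_nil, or_false] at hf
    rcases hf with rfl | rfl
    · exact ⟨B1, B1_stab, rfl⟩
    · exact ⟨B2, B2_stab, rfl⟩
  have hdec : ∀ p : GolayPt, p ∈ L8 → p ≠ none →
      p ∈ (orbStep [⇑B1, ⇑B2])^[7] [some 0] := by
    decide +kernel
  intro p hp hne
  exact orb_sound _ _ hfs _ _ p (hdec p hp hne)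

/-- standard position for two points of an octad -/
theorem exists_std_pq_in (p q : GolayPt) (hpq : p ≠ q) (o : Finset GolayPt) (ho : o ∈ octads)
    (hp : p ∈ o) (hq : q ∈ o) : ∃ t ∈ M24, t • o = O8 ∧ t p = none ∧ t q = some 0 := by
  obtain ⟨t1, ht1, h1o, h1p⟩ := exists_std_flag p o ho hp
  have hq1 : t1 q ∈ L8 := by
    rw [← mem_O8, ← h1o, smul_mem_iff]
    exact hq
  have hq2 : t1 q ≠ none := by
    rw [← h1p]
    exact fun h => hpq (t1.injective h).symm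
  obtain ⟨u, hu, huq⟩ := flag_stab_trans _ hq1 hq2
  obtain ⟨huM, hux, huo⟩ := (mem_stabC _ _ u).mp hu
  have hun : u none = none := hux 23 (by simp)
  have huO : u • O8 = O8 := huo oMask (by simp)
  refine ⟨u⁻¹ * t1, M24.mul_mem (M24.inv_mem huM) ht1, ?_, ?_, ?_⟩
  · rw [mul_smul, h1o, inv_smul_eq_iff, huO]
  · rw [Equiv.Perm.mul_apply, h1p, Equiv.Perm.inv_eq_iff_eq, hun]
  · rw [Equiv.Perm.mul_apply, ← huq, Chain1.inv_apply_self']

theorem count_pq_in_std (k : ℕ) :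
    {x : Finset GolayPt | x ∈ octads ∧ (none : GolayPt) ∈ x ∧ (some 0 : GolayPt) ∈ x ∧
        (O8 ∩ x).card = k}.ncard
      = (octadLit.filter fun m => m.testBit 23 && m.testBit 0 &&
          decide (wt24 (m &&& oMask) = k)).length := by
  apply ncard_class octadLit octadLit_nodup octadLit_lt octads mem_octads_iff'
    (fun x => (none : GolayPt) ∈ x ∧ (some 0 : GolayPt) ∈ x ∧ (O8 ∩ x).card = k)
  intro m _
  rw [O8_eq, card_inter_M, mem_M, mem_M]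
  change (m.testBit 23 = true ∧ m.testBit 0 = true ∧ _) ↔ _
  simp [and_assoc]

theorem trans_pq_in_std (p p' : Finset GolayPt) (hp : p ∈ octads) (hp' : p' ∈ octads)
    (hn : (none : GolayPt) ∈ p) (hq : (some 0 : GolayPt) ∈ p) (hn' : (none : GolayPt) ∈ p')
    (hq' : (some 0 : GolayPt) ∈ p')
    (h : (O8 ∩ p).card = (O8 ∩ p').card) : ∃ g ∈ stabC [23, 0] [oMask], g • p = p' := by
  have hnO : (none : GolayPt) ∈ O8 := by rw [mem_O8]; decide
  rcases octad_inter_cases O8 p O8_mem hp with hk | hk | hk | hk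
  · exfalso
    have : (none : GolayPt) ∈ O8 ∩ p := mem_inter.mpr ⟨hnO, hn⟩
    rw [card_eq_zero.mp hk] at this
    exact notMem_empty _ this
  on_goal 3 =>
    refine ⟨1, Subgroup.one_mem _, ?_⟩
    rw [one_smul, eq_of_inter_eight O8 p O8_mem hp hk,
      eq_of_inter_eight O8 p' O8_mem hp' (by rw [← h, hk])]
  all_goals
    obtain ⟨m, hm, rfl⟩ := (mem_octads_iff' p).mp hp
    obtain ⟨m', hm', rfl⟩ := (mem_octads_iff' p').mp hp'
    have b1 := bit_of_mem m 23 hn (by omega)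
    have b2 := bit_of_mem m 0 hq (by omega)
    have b1' := bit_of_mem m' 23 hn' (by omega)
    have b2' := bit_of_mem m' 0 hq' (by omega)
    rw [O8_eq, card_inter_M, card_inter_M] at h
    rw [O8_eq, card_inter_M] at hk
  · exact transJ2 m (List.mem_filter.mpr ⟨hm, by simp [b1, b2, hk]⟩) m'
      (List.mem_filter.mpr ⟨hm', by simp [b1', b2', ← h, hk]⟩)
  · exact transJ4 m (List.mem_filter.mpr ⟨hm, by simp [b1, b2, hk]⟩) m'
      (List.mem_filter.mpr ⟨hm', by simp [b1', b2', ← h, hk]⟩)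

theorem pq_in_result (p q : GolayPt) (hpq : p ≠ q) (o o' o'' : Finset GolayPt) (ho : o ∈ octads)
    (ho' : o' ∈ octads) (ho'' : o'' ∈ octads) (hp : p ∈ o ∧ p ∈ o' ∧ p ∈ o'')
    (hq : q ∈ o ∧ q ∈ o' ∧ q ∈ o'') (h : (o ∩ o').card = (o ∩ o'').card) :
    {x : Finset GolayPt | x ∈ octads ∧ p ∈ x ∧ q ∈ x ∧ (o ∩ x).card = 2}.ncard = 16 ∧
    {x : Finset GolayPt | x ∈ octads ∧ p ∈ x ∧ q ∈ x ∧ (o ∩ x).card = 4}.ncard = 60 ∧
    ∃ g : Equiv.Perm GolayPt, g ∈ M24 ∧ g p = p ∧ g q = q ∧ g • o = o ∧ g • o' = o'' := by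
  obtain ⟨t, ht, hto, htp, htq⟩ := exists_std_pq_in p q hpq o ho hp.1 hq.1
  have htinv : t⁻¹ ∈ M24 := M24.inv_mem ht
  have hcount : ∀ k,
      {x : Finset GolayPt | x ∈ octads ∧ p ∈ x ∧ q ∈ x ∧ (o ∩ x).card = k}.ncard
      = {x : Finset GolayPt | x ∈ octads ∧ (none : GolayPt) ∈ x ∧ (some 0 : GolayPt) ∈ x ∧
        (O8 ∩ x).card = k}.ncard := by
    intro k
    apply ncard_smul t⁻¹ octads (fun s hs => smul_octad_mem _ htinv s hs)
      (fun s hs => by rw [inv_inv]; exact smul_octad_mem _ ht s hs)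
      (fun s => p ∈ s ∧ q ∈ s ∧ (o ∩ s).card = k)
    intro s
    rw [mem_inv_smul, mem_inv_smul, htp, htq, inter_smul_card, hto]
  refine ⟨by rw [hcount, count_pq_in_std]; exact lenJ2,
    by rw [hcount, count_pq_in_std]; exact lenJ4, ?_⟩
  have e : (O8 ∩ t • o').card = (O8 ∩ t • o'').card := by
    rw [← hto, M24V2.card_smul_inter, M24V2.card_smul_inter, h]
  obtain ⟨g, hg, hgp⟩ := trans_pq_in_std (t • o') (t • o'') (smul_octad_mem t ht o' ho')
    (smul_octad_mem t ht o'' ho'') (by rw [← htp, smul_mem_iff]; exact hp.2.1)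
    (by rw [← htq, smul_mem_iff]; exact hq.2.1) (by rw [← htp, smul_mem_iff]; exact hp.2.2)
    (by rw [← htq, smul_mem_iff]; exact hq.2.2) e
  obtain ⟨hgM, hgx, hgo⟩ := (mem_stabC _ _ g).mp hg
  have hgp' : g none = none := hgx 23 (by simp)
  have hgq' : g (some 0) = some 0 := hgx 0 (by simp)
  have hgo' : g • O8 = O8 := hgo oMask (by simp)
  refine ⟨t⁻¹ * g * t, M24.mul_mem (M24.mul_mem htinv hgM) ht, ?_, ?_, ?_, ?_⟩
  · rw [Equiv.Perm.mul_apply, Equiv.Perm.mul_apply, htp, hgp', ← htp, Chain1.inv_apply_self']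
  · rw [Equiv.Perm.mul_apply, Equiv.Perm.mul_apply, htq, hgq', ← htq, Chain1.inv_apply_self']
  · rw [mul_smul, mul_smul, hto, hgo', ← hto, inv_smul_smul]
  · rw [mul_smul, mul_smul, hgp, inv_smul_smul]

end Cfsg.Agent.Lib.Helper9.M24X11
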