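import Cfsg.Agent.Lib.Helper9.LeechE8
import Cfsg.Agent.Lib.Helper9.M24X11
import Cfsg.Agent.S0391

set_option autoImplicit false

/-! The stabiliser of a pair of vectors of sum of squares 48 with inner product `-32` and of
one of the hundred attached minimal vectors is transitive on the 22 and on the 77 others. -/

namespace Cfsg.Agent.Lib.Helper9.LeechE9

open Cfsg Finset Cfsg.Agent.Lib.Helper4.Leech Cfsg.Agent.Lib.Helper9.Golay1
  Cfsg.Agent.Lib.Helper9.LeechE3
  Cfsg.Agent.Lib.Helper9.LeechE4 Cfsg.Agent.Lib.Helper9.LeechE5 Cfsg.Agent.Lib.Helper9.LeechE8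
  Cfsg.Agent.Lib.Helper9.LeechX4 Cfsg.Agent.Lib.Helper9.LeechX5 Cfsg.Agent.Lib.Helper9.LeechX7
  Cfsg.Agent.Lib.Helper9.LeechX8
  Cfsg.Agent.Lib.Helper9.LeechX9 Cfsg.Agent.Lib.Helper9.LeechX10 Cfsg.Agent.Lib.Helper9.LeechX11
  Cfsg.Agent.Lib.Helper9.LeechP1 Cfsg.Agent.Lib.Helper9.LeechP2 Cfsg.Agent.Lib.Helper9.LeechP3
  Cfsg.Agent.Lib.Helper9.LeechP4
  Cfsg.Agent.Lib.Helper9.LeechP8 Cfsg.Agent.Lib.Helper9.LeechP9 Cfsg.Agent.Lib.Helper9.LeechC7
open Cfsg.Agent.Lib.Helper9.LeechC2 (fwd bwd par cl mem_lev')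
open scoped Pointwise

/-! ### generalities -/

theorem abs_le4 (y : leechLattice) (hy : sqNorm y.1 = 32) : ∀ k, |y.1 k| ≤ 4 := by
  intro k
  rcases shapes32 y.1 y.2 hy with ⟨-, h4, h0⟩ | ⟨-, h2, h0, -⟩ | ⟨-, h3, h1⟩
  · have := cover y.1 {0, 4} (by rw [Finset.sum_pair (by norm_num)]; omega) k
    simp only [mem_insert, mem_singleton] at this
    rcases this with h | h <;> rw [h] <;> norm_num
  · have := cover y.1 {0, 2} (by rw [Finset.sum_pair (by norm_num)]; omega) k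
    simp only [mem_insert, mem_singleton] at this
    rcases this with h | h <;> rw [h] <;> norm_num
  · have := cover y.1 {1, 3} (by rw [Finset.sum_pair (by norm_num)]; omega) k
    simp only [mem_insert, mem_singleton] at this
    rcases this with h | h <;> rw [h] <;> norm_num

/-- `e + 4 y` -/
def m4 (e y : leechLattice) : leechLattice := e + (y + y + y + y)

theorem m4_val (e y : leechLattice) (k : GolayPt) : (m4 e y).1 k = e.1 k + 4 * y.1 k := by
  show e.1 k + (y.1 k + y.1 k + y.1 k + y.1 k) = _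
  ring

theorem co0_m4 (n : Equiv.Perm leechLattice) (hn : n ∈ Co0) (e y : leechLattice) :
    n (m4 e y) = m4 (n e) (n y) := by
  unfold m4
  rw [hn.1, hn.1, hn.1, hn.1]

theorem sqNorm_four (b : leechLattice) : sqNorm (b + b + b + b).1 = 16 * sqNorm b.1 := by
  show sqNorm (fun k => b.1 k + b.1 k + b.1 k + b.1 k) = 16 * sqNorm b.1
  unfold sqNorm
  rw [Finset.mul_sum]
  exact Finset.sum_congr rfl (fun i _ => by ring)

/-- an automorphism mapping `e + 4 y` to `e + 4 y'` fixes `e` and maps `y` to `y'` -/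
theorem decode (n : Equiv.Perm leechLattice) (hn : n ∈ Co0) (e y y' : leechLattice)
    (N : ℤ) (he : sqNorm e.1 = N) (hN0 : 0 ≤ N) (hN : N ≤ 48)
    (h : n (m4 e y) = m4 e y') : n e = e ∧ n y = y' := by
  rw [co0_m4 n hn] at h
  obtain ⟨b, hb⟩ : ∃ b : leechLattice, b = y' - n y := ⟨_, rfl⟩
  have hab : n e - e = b + b + b + b := by
    unfold m4 at h
    rw [hb]
    have h' : n e - e = (y' + y' + y' + y') - (n y + n y + n y + n y) := by
      rw [sub_eq_sub_iff_add_eq_add]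
      rw [h]
      abel
    rw [h']; abel
  have hb0 : b = 0 := by
    by_contra hne
    have hne' : b.1 ≠ 0 := fun h0 => hne (Subtype.ext h0)
    have h32 := Cfsg.Agent.S0391.result b.1 b.2 hne'
    have h1 : sqNorm (n e - e).1 = 16 * sqNorm b.1 := by rw [hab, sqNorm_four]
    have h2 : sqNorm (n e - e).1 = sqNorm (n e).1 - 2 * dotInt (n e).1 e.1 + sqNorm e.1 :=
      sqNorm_sub _ _
    rw [hn.2 e, he] at h2
    obtain ⟨b1, -⟩ := dot_abs_lt (n e).1 e.1 49 (by norm_num)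
      (by rw [hn.2 e, he]; nlinarith)
    omega
  rw [hb0] at hab
  have e1 : n e = e := by
    have : n e - e = 0 := by rw [hab]; simp
    exact sub_eq_zero.mp this
  have e2 : n y = y' := by
    have : y' - n y = 0 := by rw [← hb, hb0]
    exact (sub_eq_zero.mp this).symm
  exact ⟨e1, e2⟩

theorem ed2_abs : ∀ k : GolayPt, |ed2.1 k| = if k = some 0 then 5 else 1 := by decide +kernel
theorem ed2_none : ed2.1 none = 1 := by decide +kernel
theorem ed2_zero : ed2.1 (some 0) = -5 := by decide +kernel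
theorem ed2_norm : sqNorm ed2.1 = 48 := by decide +kernel

/-- `y - ed2` is a minimal vector -/
theorem diff_norm (y : leechLattice) (hy : sqNorm y.1 = 32) (hd : dotInt ed2.1 y.1 = 24) :
    sqNorm (y - ed2).1 = 32 := by
  show sqNorm (y.1 - ed2.1) = 32
  rw [sqNorm_sub, hy, ed2_norm, dot_comm, hd]; norm_num

/-- a permutation fixing the two standard points and mapping `a` to `b` -/
theorem exists_fix2_map (a b : GolayPt) (ha : a ≠ none) (ha0 : a ≠ some 0) (hb : b ≠ none)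
    (hb0 : b ≠ some 0) : ∃ h ∈ M24, h none = none ∧ h (some 0) = some 0 ∧ h a = b := by
  obtain ⟨s, hs, s1, s2, s3⟩ := exists_fix2 a ha ha0
  obtain ⟨t, ht, t1, t2, t3⟩ := exists_fix2 b hb hb0
  refine ⟨t * s⁻¹, M24.mul_mem ht (M24.inv_mem hs), ?_, ?_, ?_⟩
  · rw [Equiv.Perm.mul_apply, Equiv.Perm.inv_eq_iff_eq.mpr s1.symm, t1]
  · rw [Equiv.Perm.mul_apply, Equiv.Perm.inv_eq_iff_eq.mpr s2.symm, t2]
  · rw [Equiv.Perm.mul_apply, Equiv.Perm.inv_eq_iff_eq.mpr s3.symm, t3]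

/-! ### the 22 -/

/-- the pattern of absolute values of `ed2 + 4 y` for `y` among the 22 -/
theorem pat8 (y : leechLattice) (hy : sqNorm y.1 = 32) (hd : dotInt ed2.1 y.1 = 24)
    (hn : y.1 none = 1) (h0 : y.1 (some 0) = -1) :
    ∃ j0 : GolayPt, j0 ≠ none ∧ j0 ≠ some 0 ∧
      ∀ k, |(m4 ed2 y).1 k| = if k = some 0 then 9 else if k = j0 then 11 else 5 := by
  have ht := diff_norm y hy hd
  have tv : ∀ k, (y - ed2).1 k = y.1 k - ed2.1 k := fun k => rfl
  have tn : (y - ed2).1 none = 0 := by rw [tv, hn, ed2_none]; norm_num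
  have t0 : (y - ed2).1 (some 0) = 4 := by rw [tv, h0, ed2_zero]; norm_num
  rcases shapes32 (y - ed2).1 (y - ed2).2 ht with ⟨-, h4, hz⟩ | ⟨-, h2, hz, -⟩ | ⟨hp, -, -⟩
  · have hcov := cover (y - ed2).1 {0, 4} (by rw [Finset.sum_pair (by norm_num)]; omega)
    obtain ⟨i, j, hij, hi, hj, huniq⟩ := cnt_two (y - ed2).1 4 h4
    have h04 : |(y - ed2).1 (some 0)| = 4 := by rw [t0]; rfl
    -- the other point carrying a `4`
    obtain ⟨j0, hj0, hj4, huniq'⟩ : ∃ j0, j0 ≠ some 0 ∧ |(y - ed2).1 j0| = 4 ∧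
        ∀ l, |(y - ed2).1 l| = 4 → l = some 0 ∨ l = j0 := by
      rcases huniq (some 0) h04 with h | h
      · exact ⟨j, fun hh => hij (by rw [← h, hh]), hj, fun l hl => by
          rcases huniq l hl with h' | h'
          · left; rw [h', h]
          · right; exact h'⟩
      · exact ⟨i, fun hh => hij (by rw [← h, hh]), hi, fun l hl => by
          rcases huniq l hl with h' | h'
          · right; exact h'
          · left; rw [h', h]⟩
    have hjn : j0 ≠ none := by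
      intro h
      rw [h, tn] at hj4
      norm_num at hj4
    refine ⟨j0, hjn, hj0, fun k => ?_⟩
    rw [m4_val]
    by_cases hk0 : k = some 0
    · rw [if_pos hk0, hk0, ed2_zero, h0]; rfl
    rw [if_neg hk0]
    have ea := ed2_abs k
    rw [if_neg hk0] at ea
    by_cases hkj : k = j0
    · rw [if_pos hkj]
      have h1 := abs_le4 y hy k
      have h2 : |(y - ed2).1 k| = 4 := by rw [hkj]; exact hj4
      rw [tv] at h2
      rcases abs_cases (ed2.1 k) with ⟨a1, a2⟩ | ⟨a1, a2⟩ <;>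
        rcases abs_cases (y.1 k - ed2.1 k) with ⟨b1, b2⟩ | ⟨b1, b2⟩ <;>
        rcases abs_cases (y.1 k) with ⟨c1, c2⟩ | ⟨c1, c2⟩ <;>
        rcases abs_cases (ed2.1 k + 4 * y.1 k) with ⟨d1, d2⟩ | ⟨d1, d2⟩ <;> omega
    · rw [if_neg hkj]
      have h2 : (y - ed2).1 k = 0 := by
        have := hcov k
        simp only [mem_insert, mem_singleton] at this
        rcases this with h | h
        · exact abs_eq_zero.mp h
        · rcases huniq' k h with h' | h'
          · exact absurd h' hk0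
          · exact absurd h' hkj
      rw [tv] at h2
      have : y.1 k = ed2.1 k := by omega
      rw [this]
      rcases abs_cases (ed2.1 k) with ⟨a1, a2⟩ | ⟨a1, a2⟩ <;>
        rcases abs_cases (ed2.1 k + 4 * ed2.1 k) with ⟨d1, d2⟩ | ⟨d1, d2⟩ <;> omega
  · have hcov := cover (y - ed2).1 {0, 2} (by rw [Finset.sum_pair (by norm_num)]; omega)
    have := hcov (some 0)
    rw [t0] at this
    simp only [mem_insert, mem_singleton] at this
    norm_num at this
  · unfold par at hp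
    rw [tn] at hp
    norm_num at hp

theorem m4_par (y : leechLattice) (hpar : y.1 none % 2 = 0 ∨ True) :
    par (m4 ed2 y).1 = 1 := by
  unfold par
  rw [m4_val, ed2_none]
  omega

/-- the 22 form one orbit of the group fixing `ed2` and the vectors supported on the two
standard points -/
theorem Q8 (y y' : leechLattice) (hy : sqNorm y.1 = 32) (hd : dotInt ed2.1 y.1 = 24)
    (hn : y.1 none = 1) (h0 : y.1 (some 0) = -1) (hy' : sqNorm y'.1 = 32)
    (hd' : dotInt ed2.1 y'.1 = 24) (hn' : y'.1 none = 1) (h0' : y'.1 (some 0) = -1) :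
    ∃ n ∈ Co0, (∀ f, Sup2 f → n f = f) ∧ n ed2 = ed2 ∧ n y = y' := by
  obtain ⟨j0, a1, a2, hpat⟩ := pat8 y hy hd hn h0
  obtain ⟨j0', a1', a2', hpat'⟩ := pat8 y' hy' hd' hn' h0'
  obtain ⟨π, hπ, p1, p2, p3⟩ := exists_fix2_map j0' j0 a1' a2' a1 a2
  have hrel : RelF (m4 ed2 y) (m4 ed2 y') := by
    refine relF_of_perm (m4 ed2 y') (m4 ed2 y) π hπ p1 p2 ?_ ?_ ?_ ?_
    · intro w habs hwn hw0
      refine sign_fix_odd_F w (m4 ed2 y') ?_ (m4_par y' (Or.inr trivial)) habs hwn hw0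
      unfold par
      rw [hwn, m4_val, ed2_none]
      omega
    · intro k
      rw [hpat, hpat']
      have e1 : π k = some 0 ↔ k = some 0 := by
        constructor
        · intro h; rw [← p2] at h; exact π.injective h
        · intro h; rw [h, p2]
      have e2 : π k = j0 ↔ k = j0' := by
        constructor
        · intro h; rw [← p3] at h; exact π.injective h
        · intro h; rw [h, p3]
      simp only [e1, e2]
    · rw [m4_val, m4_val, hn, hn']
    · rw [m4_val, m4_val, h0, h0']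
  obtain ⟨n, hn1, hn2, hn3⟩ := hrel
  obtain ⟨d1, d2⟩ := decode n hn1 ed2 y y' 48 ed2_norm (by norm_num) (by norm_num) hn2
  exact ⟨n, hn1, hn3, d1, d2⟩

/-! ### the 77 -/

/-- the pattern of absolute values of `ed2 + 4 y` for `y` among the 77 -/
theorem pat16 (y : leechLattice) (hy : sqNorm y.1 = 32) (hd : dotInt ed2.1 y.1 = 24)
    (hn : y.1 none = 2) (h0 : y.1 (some 0) = -2) :
    ∃ O ∈ octads, (none : GolayPt) ∈ O ∧ (some 0 : GolayPt) ∈ O ∧
      ∀ k, |(m4 ed2 y).1 k| = if k = some 0 then 13 else if k ∈ O then 9 else 1 := by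
  have ht := diff_norm y hy hd
  have tv : ∀ k, (y - ed2).1 k = y.1 k - ed2.1 k := fun k => rfl
  have tn : (y - ed2).1 none = 1 := by rw [tv, hn, ed2_none]; norm_num
  have t0 : (y - ed2).1 (some 0) = 3 := by rw [tv, h0, ed2_zero]; norm_num
  -- the shape of `y - ed2`
  have tabs : ∀ k, |(y - ed2).1 k| = if k = some 0 then 3 else 1 := by
    rcases shapes32 (y - ed2).1 (y - ed2).2 ht with ⟨hp, -, -⟩ | ⟨hp, -, -, -⟩ | ⟨-, h3, h1⟩
    · unfold par at hp; rw [tn] at hp; norm_num at hp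
    · unfold par at hp; rw [tn] at hp; norm_num at hp
    · exact odd_abs (y - ed2) (some 0) h3 h1 (by rw [t0]; rfl)
  -- the shape of `y`
  have n2 : |y.1 none| = 2 := by rw [hn]; rfl
  rcases shapes32 y.1 y.2 hy with ⟨-, h4, hz⟩ | ⟨hp, h2, hz, hc⟩ | ⟨hp, -, -⟩
  · have := cover y.1 {0, 4} (by rw [Finset.sum_pair (by norm_num)]; omega) none
    rw [n2] at this
    simp only [mem_insert, mem_singleton] at this
    norm_num at this
  · have hst := cl_of_two y hp 8 h2 (by omega)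
    refine ⟨cl y.1, ⟨cl_mem_Code y, hc⟩, (hst none).1.mpr n2,
      (hst (some 0)).1.mpr (by rw [h0]; rfl), fun k => ?_⟩
    rw [m4_val]
    by_cases hk0 : k = some 0
    · rw [if_pos hk0, hk0, ed2_zero, h0]; rfl
    rw [if_neg hk0]
    have ea := ed2_abs k
    rw [if_neg hk0] at ea
    have eb := tabs k
    rw [if_neg hk0, tv] at eb
    by_cases hk : k ∈ cl y.1
    · rw [if_pos hk]
      have h2' := (hst k).1.mp hk
      rcases abs_cases (ed2.1 k) with ⟨a1, a2⟩ | ⟨a1, a2⟩ <;>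
        rcases abs_cases (y.1 k - ed2.1 k) with ⟨b1, b2⟩ | ⟨b1, b2⟩ <;>
        rcases abs_cases (y.1 k) with ⟨c1, c2⟩ | ⟨c1, c2⟩ <;>
        rcases abs_cases (ed2.1 k + 4 * y.1 k) with ⟨d1, d2⟩ | ⟨d1, d2⟩ <;> omega
    · rw [if_neg hk, (hst k).2 hk]
      simpa using ea
  · unfold par at hp
    rw [hn] at hp
    norm_num at hp

/-- the 77 form one orbit of the group fixing `ed2` and the vectors supported on the two
standard points -/
theorem Q16 (y y' : leechLattice) (hy : sqNorm y.1 = 32) (hd : dotInt ed2.1 y.1 = 24)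
    (hn : y.1 none = 2) (h0 : y.1 (some 0) = -2) (hy' : sqNorm y'.1 = 32)
    (hd' : dotInt ed2.1 y'.1 = 24) (hn' : y'.1 none = 2) (h0' : y'.1 (some 0) = -2) :
    ∃ n ∈ Co0, (∀ f, Sup2 f → n f = f) ∧ n ed2 = ed2 ∧ n y = y' := by
  obtain ⟨O, hO, a1, a2, hpat⟩ := pat16 y hy hd hn h0
  obtain ⟨O', hO', a1', a2', hpat'⟩ := pat16 y' hy' hd' hn' h0'
  obtain ⟨s, hs, s1, s2, s3⟩ := Cfsg.Agent.Lib.Helper9.M24X11.exists_std_pq_in none (some 0)
    (by decide) O hO a1 a2
  obtain ⟨t, ht, t1, t2, t3⟩ := Cfsg.Agent.Lib.Helper9.M24X11.exists_std_pq_in none (some 0)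
    (by decide) O' hO' a1' a2'
  -- `π` maps `O'` onto `O` and fixes the two standard points
  have hπ : s⁻¹ * t ∈ M24 := M24.mul_mem (M24.inv_mem hs) ht
  have p1 : (s⁻¹ * t) none = none := by
    rw [Equiv.Perm.mul_apply, t2, Equiv.Perm.inv_eq_iff_eq.mpr s2.symm]
  have p2 : (s⁻¹ * t) (some 0) = some 0 := by
    rw [Equiv.Perm.mul_apply, t3, Equiv.Perm.inv_eq_iff_eq.mpr s3.symm]
  have p3 : (s⁻¹ * t) • O' = O := by
    rw [mul_smul, t1, ← s1, inv_smul_smul]
  have hrel : RelF (m4 ed2 y) (m4 ed2 y') := by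
    refine relF_of_perm (m4 ed2 y') (m4 ed2 y) (s⁻¹ * t) hπ p1 p2 ?_ ?_ ?_ ?_
    · intro w habs hwn hw0
      refine sign_fix_odd_F w (m4 ed2 y') ?_ (m4_par y' (Or.inr trivial)) habs hwn hw0
      unfold par
      rw [hwn, m4_val, ed2_none]
      omega
    · intro k
      rw [hpat, hpat']
      have e1 : (s⁻¹ * t) k = some 0 ↔ k = some 0 := by
        constructor
        · intro h; rw [← p2] at h; exact (s⁻¹ * t).injective h
        · intro h; rw [h, p2]
      have e2 : (s⁻¹ * t) k ∈ O ↔ k ∈ O' := by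
        rw [← p3]
        exact Cfsg.Agent.Lib.Helper9.M24X1.smul_mem_iff (s⁻¹ * t) k O'
      simp only [e1, e2]
    · rw [m4_val, m4_val, hn, hn']
    · rw [m4_val, m4_val, h0, h0']
  obtain ⟨n, hn1, hn2, hn3⟩ := hrel
  obtain ⟨d1, d2⟩ := decode n hn1 ed2 y y' 48 ed2_norm (by norm_num) (by norm_num) hn2
  exact ⟨n, hn1, hn3, d1, d2⟩

/-! ### the general statement -/

theorem dot_rAc (b : GolayPt → ℤ) : dotInt rAc.1 b = 4 * b none - 4 * b (some 0) := by
  show dotInt (r8.1 - rA.1) b = _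
  rw [dot_sub_left, dot_r8, dot_rA]; ring

/-- the stabiliser of `v`, `w` and `x` is transitive on the vectors among the hundred having
a given inner product `8` or `16` with `x` -/
theorem hs_rank3 (v w x y y' : leechLattice) (hv : sqNorm v.1 = 48) (hw : sqNorm w.1 = 48)
    (hd : dotInt v.1 w.1 = -32) (hx : sqNorm x.1 = 32) (hvx : dotInt v.1 x.1 = 24)
    (hwx : dotInt w.1 x.1 = -24) (hy : sqNorm y.1 = 32) (hvy : dotInt v.1 y.1 = 24)
    (hwy : dotInt w.1 y.1 = -24) (hy' : sqNorm y'.1 = 32) (hvy' : dotInt v.1 y'.1 = 24)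
    (hwy' : dotInt w.1 y'.1 = -24) (d : ℤ) (hd8 : d = 8 ∨ d = 16) (hxy : dotInt x.1 y.1 = d)
    (hxy' : dotInt x.1 y'.1 = d) :
    ∃ g ∈ Co0, g v = v ∧ g w = w ∧ g x = x ∧ g y = y' := by
  obtain ⟨g, hg, g1, g2, g3⟩ := hs_triple_std v w x hv hw hd hx hvx hwx
  -- the images of `y` and `y'`
  have key : ∀ u : leechLattice, sqNorm u.1 = 32 → dotInt v.1 u.1 = 24 → dotInt w.1 u.1 = -24 →
      dotInt x.1 u.1 = d → sqNorm (g u).1 = 32 ∧ dotInt ed2.1 (g u).1 = 24 ∧
        8 * (g u).1 none = d ∧ (g u).1 (some 0) = -(g u).1 none := by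
    intro u hu hvu hwu hxu
    have e1 : dotInt ed2.1 (g u).1 = 24 := by rw [← g1, dot_pres g hg]; exact hvu
    have e2 : dotInt rA.1 (g u).1 = 0 := by
      rw [← g2, dot_pres g hg]
      show dotInt (-(v.1 + w.1)) u.1 = 0
      rw [dot_neg_left, dot_add_left, hvu, hwu]; norm_num
    have e3 : dotInt rAc.1 (g u).1 = d := by rw [← g3, dot_pres g hg]; exact hxu
    rw [dot_rA] at e2
    rw [dot_rAc] at e3
    refine ⟨by rw [hg.2, hu], e1, by omega, by omega⟩
  obtain ⟨k1, k2, k3, k4⟩ := key y hy hvy hwy hxy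
  obtain ⟨k1', k2', k3', k4'⟩ := key y' hy' hvy' hwy' hxy'
  obtain ⟨n, hn, nf, ne, ny⟩ : ∃ n ∈ Co0, (∀ f, Sup2 f → n f = f) ∧ n ed2 = ed2 ∧
      n (g y) = g y' := by
    rcases hd8 with rfl | rfl
    · exact Q8 (g y) (g y') k1 k2 (by omega) (by omega) k1' k2' (by omega) (by omega)
    · exact Q16 (g y) (g y') k1 k2 (by omega) (by omega) k1' k2' (by omega) (by omega)
  have hm : g⁻¹ * n * g ∈ Co0 := Co0.mul_mem (Co0.mul_mem (Co0.inv_mem hg) hn) hg
  have ev : (g⁻¹ * n * g) v = v := by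
    rw [Equiv.Perm.mul_apply, Equiv.Perm.mul_apply, g1, ne, ← g1]; simp
  have ez : (g⁻¹ * n * g) (-(v + w)) = -(v + w) := by
    rw [Equiv.Perm.mul_apply, Equiv.Perm.mul_apply, g2, nf rA sup2_rA, ← g2]; simp
  refine ⟨g⁻¹ * n * g, hm, ev, ?_, ?_, ?_⟩
  · have e : w = -(-(v + w)) - v := by abel
    rw [e, co0_sub _ hm, co0_neg _ hm, ez, ev]
  · rw [Equiv.Perm.mul_apply, Equiv.Perm.mul_apply, g3, nf rAc sup2_rAc, ← g3]; simp
  · rw [Equiv.Perm.mul_apply, Equiv.Perm.mul_apply, ny]; simp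

end Cfsg.Agent.Lib.Helper9.LeechE9
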