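import Cfsg.Agent.Lib.Helper9.LeechQ1

set_option autoImplicit false

/-! Invariant subgroups between twice the lattice and the lattice. -/

namespace Cfsg.Agent.Lib.Helper9.LeechQ2

open Cfsg Finset Cfsg.Agent.Lib.Helper4.Leech Cfsg.Agent.Lib.Helper9.Golay1
  Cfsg.Agent.Lib.Helper9.LeechM1 Cfsg.Agent.Lib.Helper9.LeechX4
  Cfsg.Agent.Lib.Helper9.LeechX7 Cfsg.Agent.Lib.Helper9.LeechX8 Cfsg.Agent.Lib.Helper9.LeechX9
  Cfsg.Agent.Lib.Helper9.LeechX10 Cfsg.Agent.Lib.Helper9.LeechX11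
  Cfsg.Agent.Lib.Helper9.LeechX12 Cfsg.Agent.Lib.Helper9.LeechC7 Cfsg.Agent.Lib.Helper9.LeechC8

open Classical in
/-- every class has a representative of sum of squares 0, 32, 48 or 64 -/
theorem exists_rep' (x : G) (hx : x ∈ leechLattice) :
    ∃ y ∈ leechLattice, (sqNorm y = 0 ∨ sqNorm y = 32 ∨ sqNorm y = 48 ∨ sqNorm y = 64) ∧
      ∃ z ∈ leechLattice, x - y = 2 • z := by
  have hmem : mk x ∈ ClU := by
    rw [ClU_eq, Set.Finite.mem_toFinset]
    exact ⟨x, hx, rfl⟩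
  have key : ∀ (N : ℕ) (hN : N ≤ 64), mk x ∈ Cl N hN →
      ∃ y ∈ leechLattice, sqNorm y = N ∧ ∃ z ∈ leechLattice, x - y = 2 • z := by
    intro N hN h
    obtain ⟨y, hy, hyx⟩ := mem_image.mp h
    rw [mem_Lf] at hy
    exact ⟨y, hy.1, hy.2, (mk_eq_iff x y).mp hyx.symm⟩
  unfold ClU at hmem
  simp only [mem_union] at hmem
  rcases hmem with ((h | h) | h) | h
  · obtain ⟨y, h1, h2, h3⟩ := key _ _ h
    exact ⟨y, h1, Or.inl (by exact_mod_cast h2), h3⟩
  · obtain ⟨y, h1, h2, h3⟩ := key _ _ h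
    exact ⟨y, h1, Or.inr (Or.inl (by exact_mod_cast h2)), h3⟩
  · obtain ⟨y, h1, h2, h3⟩ := key _ _ h
    exact ⟨y, h1, Or.inr (Or.inr (Or.inl (by exact_mod_cast h2))), h3⟩
  · obtain ⟨y, h1, h2, h3⟩ := key _ _ h
    exact ⟨y, h1, Or.inr (Or.inr (Or.inr (by exact_mod_cast h2))), h3⟩

/-! ### some explicit vectors -/

def LG0 : List ℤ := [5, 1, 1, 1, 1, 1, 1, 1, 1, 1, 1, 1, 1, 1, 1, 1, 1, 1, 1, 1, 1, 1, 1, 1]

theorem LG0_mem : vecL LG0 ∈ leechLattice :=
  mem_of_data _ 1 16777215 (Or.inr rfl) (by decide +kernel) (by decide +kernel)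
    (by decide +kernel)

def rG0 : leechLattice := ⟨vecL LG0, LG0_mem⟩

def LBb : List ℤ := [-3, 1, 1, 1, 1, 1, 1, 1, 1, 1, 1, 1, 1, 1, 1, 1, 1, 1, 1, 1, 1, 1, 1, 1]

theorem LBb_mem : vecL LBb ∈ leechLattice :=
  mem_of_data _ 1 16777215 (Or.inr rfl) (by decide +kernel) (by decide +kernel)
    (by decide +kernel)

def rBb : leechLattice := ⟨vecL LBb, LBb_mem⟩

def LAm : List ℤ := [-4, 0, 0, 0, 0, 0, 0, 0, 0, 0, 0, 0, 0, 0, 0, 0, 0, 0, 0, 0, 0, 0, 0, 4]

theorem LAm_mem : vecL LAm ∈ leechLattice :=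
  mem_of_data _ 0 0 (Or.inl rfl) (by decide +kernel) (by decide +kernel) (by decide +kernel)

def rAm : leechLattice := ⟨vecL LAm, LAm_mem⟩

theorem rAm_eq : rAm = rG - rG0 := by
  apply Subtype.ext
  funext k
  show vecL LAm k = vecL LG k - vecL LG0 k
  revert k
  decide +kernel

theorem rG_eq : rG = rA + rBb := by
  apply Subtype.ext
  funext k
  show vecL LG k = vecL LA k + vecL LBb k
  revert k
  decide +kernel

theorem r8_eq : r8 = rA + rAm := by
  apply Subtype.ext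
  funext k
  show vecL L8v k = vecL LA k + vecL LAm k
  revert k
  decide +kernel

theorem rB_eq : rB = r8 + r62 := by
  apply Subtype.ext
  funext k
  show vecL LB k = vecL L8v k + vecL L62 k
  revert k
  decide +kernel

theorem main (M : AddSubgroup G) (h2 : ∀ v ∈ leechLattice, (2 : ℤ) • v ∈ M)
    (hle : M ≤ leechLattice)
    (hinv : ∀ g ∈ Co0, ∀ v : leechLattice, v.1 ∈ M → (g v).1 ∈ M) :
    (∀ x ∈ M, ∃ w ∈ leechLattice, x = (2 : ℤ) • w) ∨ M = leechLattice := by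
  by_cases hM : ∀ x ∈ M, ∃ w ∈ leechLattice, x = (2 : ℤ) • w
  · exact Or.inl hM
  right
  obtain ⟨x, hx⟩ := not_forall.mp hM
  obtain ⟨hxM, hx2⟩ := Classical.not_imp.mp hx
  have h2' : ∀ z ∈ leechLattice, 2 • z ∈ M := by
    intro z hz
    have := h2 z hz
    rwa [show (2 : ℤ) • z = 2 • z by rw [two_nsmul, two_zsmul]] at this
  -- membership spreads along orbits
  have spread : ∀ v w : leechLattice, Rel v w → v.1 ∈ M → w.1 ∈ M := by
    rintro v w ⟨g, hg, rfl⟩ hv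
    exact hinv g hg v hv
  have full : ∀ (r : leechLattice) (N : ℤ), (∀ v : leechLattice, sqNorm v.1 = N → Rel r v) →
      r.1 ∈ M → ∀ v : leechLattice, sqNorm v.1 = N → v.1 ∈ M :=
    fun r N htr hr v hv => spread r v (htr v hv) hr
  have n32 : sqNorm rA.1 = 32 := by decide +kernel
  have nAm : sqNorm rAm.1 = 32 := by decide +kernel
  have nBb : sqNorm rBb.1 = 32 := by decide +kernel
  have nB : sqNorm rB.1 = 32 := by decide +kernel
  have n48 : sqNorm rG.1 = 48 := by decide +kernel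
  have n48' : sqNorm rG0.1 = 48 := by decide +kernel
  have n64 : sqNorm r8.1 = 64 := by decide +kernel
  have n64' : sqNorm r62.1 = 64 := by decide +kernel
  -- a minimal vector lies in `M`
  have hmin : ∃ v : leechLattice, sqNorm v.1 = 32 ∧ v.1 ∈ M := by
    obtain ⟨y, hy, hn, z, hz, hxy⟩ := exists_rep' x (hle hxM)
    have hyM : y ∈ M := by
      have : y = x - 2 • z := by rw [← hxy]; abel
      rw [this]
      exact M.sub_mem hxM (h2' z hz)
    rcases hn with hn | hn | hn | hn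
    · exfalso
      have hy0 := sqNorm_eq_zero hn
      rw [hy0, sub_zero] at hxy
      exact hx2 ⟨z, hz, by rw [hxy, two_nsmul, two_zsmul]⟩
    · exact ⟨⟨y, hy⟩, hn, hyM⟩
    · have h48 := full ⟨y, hy⟩ 48 (fun v hv => trans48 _ v hn hv) hyM
      refine ⟨rAm, nAm, ?_⟩
      rw [rAm_eq]
      exact M.sub_mem (h48 rG n48) (h48 rG0 n48')
    · have h64 := full ⟨y, hy⟩ 64 (fun v hv => trans64 _ v hn hv) hyM
      refine ⟨rB, nB, ?_⟩
      rw [rB_eq]
      exact M.add_mem (h64 r8 n64) (h64 r62 n64')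
  obtain ⟨v0, hv0, hv0M⟩ := hmin
  have h32 := full v0 32 (fun v hv => trans32 _ v hv0 hv) hv0M
  have hG : rG.1 ∈ M := by
    rw [rG_eq]
    exact M.add_mem (h32 rA n32) (h32 rBb nBb)
  have h8 : r8.1 ∈ M := by
    rw [r8_eq]
    exact M.add_mem (h32 rA n32) (h32 rAm nAm)
  have h48 := full rG 48 (fun v hv => trans48 _ v n48 hv) hG
  have h64 := full r8 64 (fun v hv => trans64 _ v n64 hv) h8
  apply le_antisymm hle
  intro t ht
  obtain ⟨y, hy, hn, z, hz, hty⟩ := exists_rep' t ht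
  have : t = y + 2 • z := by rw [← hty]; abel
  rw [this]
  refine M.add_mem ?_ (h2' z hz)
  rcases hn with hn | hn | hn | hn
  · rw [sqNorm_eq_zero hn]; exact M.zero_mem
  · exact h32 ⟨y, hy⟩ hn
  · exact h48 ⟨y, hy⟩ hn
  · exact h64 ⟨y, hy⟩ hn

end Cfsg.Agent.Lib.Helper9.LeechQ2
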