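import Cfsg.Agent.Lib.Helper9.LeechE8
import Cfsg.Agent.Lib.Helper9.LeechQ2

set_option autoImplicit false

/-! Pairs of minimal vectors with inner product `-8`: the 2025 minimal vectors orthogonal to the
first with inner product `16` with the second. Counts and the standard position. -/

namespace Cfsg.Agent.Lib.Helper9.LeechF1

open Cfsg Finset Cfsg.Agent.Lib.Helper4.Leech Cfsg.Agent.Lib.Helper9.LeechE3
  Cfsg.Agent.Lib.Helper9.LeechE4 Cfsg.Agent.Lib.Helper9.LeechE5 Cfsg.Agent.Lib.Helper9.LeechE7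
  Cfsg.Agent.Lib.Helper9.LeechE8
  Cfsg.Agent.Lib.Helper9.LeechX4 Cfsg.Agent.Lib.Helper9.LeechX7 Cfsg.Agent.Lib.Helper9.LeechX8
  Cfsg.Agent.Lib.Helper9.LeechX9 Cfsg.Agent.Lib.Helper9.LeechX10 Cfsg.Agent.Lib.Helper9.LeechX11
  Cfsg.Agent.Lib.Helper9.LeechP1 Cfsg.Agent.Lib.Helper9.LeechP2 Cfsg.Agent.Lib.Helper9.LeechP4
  Cfsg.Agent.Lib.Helper9.LeechP5 Cfsg.Agent.Lib.Helper9.LeechP6 Cfsg.Agent.Lib.Helper9.LeechC7
  Cfsg.Agent.Lib.Helper9.LeechQ2

theorem rBb_vals : ∀ k : GolayPt, rBb.1 k = cf 1 1 (-3) k := by decide +kernel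
theorem rBb_norm : sqNorm rBb.1 = 32 := by decide +kernel
theorem rA_rBb : dotInt rA.1 rBb.1 = -8 := by decide +kernel
theorem rBb_none : rBb.1 none = 1 := by decide +kernel
theorem rBb_zero : rBb.1 (some 0) = -3 := by decide +kernel

theorem dot_rBb (x : GolayPt → ℤ) : dotInt rBb.1 x = lin2 1 1 (-3) x :=
  dot_eq_lin2 _ _ _ _ _ rBb_vals

theorem rA_vals' : ∀ k : GolayPt, rA.1 k = cf 0 4 4 k := by decide +kernel

theorem dot_rA' (x : GolayPt → ℤ) : dotInt rA.1 x = lin2 0 4 4 x :=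
  dot_eq_lin2 _ _ _ _ _ rA_vals'

theorem dot_rAc (b : GolayPt → ℤ) : dotInt rAc.1 b = 4 * b none - 4 * b (some 0) := by
  show dotInt (r8.1 - rA.1) b = _
  rw [dot_sub_left, dot_r8, dot_rA]; ring

theorem rAc_norm : sqNorm rAc.1 = 32 := by
  show sqNorm (r8.1 - rA.1) = 32
  rw [sqNorm_sub]
  have e1 : sqNorm r8.1 = 64 := by decide +kernel
  have e2 : dotInt r8.1 rA.1 = 32 := by decide +kernel
  rw [e1, e2, rA_norm]; norm_num

theorem rA_rAc : dotInt rA.1 rAc.1 = 0 := by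
  rw [dot_rA]
  show 4 * (r8.1 none - rA.1 none) + 4 * (r8.1 (some 0) - rA.1 (some 0)) = 0
  rw [r8_vals, r8_vals, rA_vals, rA_vals]
  simp

theorem rBb_rAc : dotInt rBb.1 rAc.1 = 16 := by
  rw [dot_comm, dot_rAc, rBb_none, rBb_zero]; norm_num

/-! ### evaluation of the counts -/

set_option maxRecDepth 100000 in
theorem T_2025 : T2S (Icc (-5) 5) (kG 1024 1 5) (kG 1024 37 185) (kG 1024 33 165)
    (1024 * 32 + 476) = 2025 := by
  decide +kernel

set_option maxRecDepth 100000 in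
theorem T_330 : T2S (Icc (-5) 5) (kG 256 1 5) (kP 256 (256 * (32 + 1)) 0)
    (kP 256 (256 * (32 + 1)) 0) (256 * 32 + 136) = 330 := by
  decide +kernel

set_option maxRecDepth 100000 in
theorem T_1232 : T2S (Icc (-5) 5) (kG 256 1 5) (kP 256 (256 * (32 + 1)) 1)
    (kP 256 (256 * (32 + 1)) (-1)) (256 * 32 + 132) = 1232 := by
  decide +kernel

set_option maxRecDepth 100000 in
theorem T_462 : T2S (Icc (-5) 5) (kG 256 1 5) (kP 256 (256 * (32 + 1)) 2)
    (kP 256 (256 * (32 + 1)) (-2)) (256 * 32 + 128) = 462 := by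
  decide +kernel

theorem hpos_mcl : ∀ i, ∀ a ∈ Icc (-5 : ℤ) 5, 0 ≤ cf 1 37 33 i * a + cf 5 185 165 i ∧
    cf 1 37 33 i * a + cf 5 185 165 i ≤ cf 10 370 330 i := by
  decide +kernel

/-- the standard count -/
theorem count2025_std :
    {x : GolayPt → ℤ | x ∈ leechLattice ∧ sqNorm x = 32 ∧ dotInt rA.1 x = 0 ∧
      dotInt rBb.1 x = 16}.ncard = 2025 := by
  have h := lin2_count_all 1024 1 37 33 5 185 165 10 370 330 hpos_mcl (by norm_num) 32
    (by norm_num) 16 (by norm_num) (by norm_num) (Or.inl ⟨by norm_num, by norm_num⟩)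
    (by norm_num) (by norm_num)
  rw [show ((16 : ℤ) + (22 * 5 + 185 + 165)).toNat = 476 by decide, T_2025] at h
  refine (congrArg Set.ncard ?_).trans h
  ext x
  simp only [Set.mem_setOf_eq]
  have hcomb : dotInt rBb.1 x + 9 * dotInt rA.1 x = lin2 1 37 33 x := by
    rw [dot_rBb, dot_rA', lin2_comb]
    norm_num
  constructor
  · rintro ⟨h1, h2, h3, h4⟩
    refine ⟨h1, by exact_mod_cast h2, ?_⟩
    rw [← hcomb, h3, h4]; norm_num
  · rintro ⟨h1, h2, h3⟩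
    have h2' : sqNorm x = 32 := by exact_mod_cast h2
    rw [← hcomb] at h3
    obtain ⟨k, hk⟩ := dot_dvd8 rA.1 x rA.2 h1
    obtain ⟨b1, b2⟩ := dot_abs_lt rBb.1 x 33 (by norm_num) (by rw [rBb_norm, h2']; norm_num)
    have hk0 : k = 0 := by omega
    refine ⟨h1, h2', by omega, by omega⟩

/-- the standard counts of the classes -/
theorem count_class_std (a : ℤ) (n : ℕ) (ha : a = 0 ∨ a = 1 ∨ a = 2)
    (hT : T2S (Icc (-5) 5) (kG 256 1 5) (kP 256 (256 * (32 + 1)) a)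
      (kP 256 (256 * (32 + 1)) (-a)) (256 * 32 + (16 - 4 * a + 120).toNat) = n) :
    {y : GolayPt → ℤ | y ∈ leechLattice ∧ sqNorm y = 32 ∧ dotInt rA.1 y = 0 ∧
      dotInt rBb.1 y = 16 ∧ dotInt rAc.1 y = 8 * a}.ncard = n := by
  have h := pin_count 256 (by norm_num) a (-a) 32 (by norm_num) (16 - 4 * a)
    (by rcases ha with rfl | rfl | rfl <;> norm_num)
    (by rcases ha with rfl | rfl | rfl <;> norm_num)
    (by rcases ha with rfl | rfl | rfl <;> norm_num)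
  rw [hT] at h
  refine (congrArg Set.ncard ?_).trans h
  ext y
  simp only [Set.mem_setOf_eq, dot_rBb, dot_rA, dot_rAc]
  unfold lin2
  constructor
  · rintro ⟨h1, h2, h3, h4, h5⟩
    refine ⟨h1, by exact_mod_cast h2, by omega, by omega, by omega⟩
  · rintro ⟨h1, h2, h3, h4, h5⟩
    refine ⟨h1, by exact_mod_cast h2, by omega, by omega, by omega⟩

theorem count330_std :
    {y : GolayPt → ℤ | y ∈ leechLattice ∧ sqNorm y = 32 ∧ dotInt rA.1 y = 0 ∧
      dotInt rBb.1 y = 16 ∧ dotInt rAc.1 y = 0}.ncard = 330 :=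
  count_class_std 0 330 (Or.inl rfl) T_330

theorem count1232_std :
    {y : GolayPt → ℤ | y ∈ leechLattice ∧ sqNorm y = 32 ∧ dotInt rA.1 y = 0 ∧
      dotInt rBb.1 y = 16 ∧ dotInt rAc.1 y = 8}.ncard = 1232 :=
  count_class_std 1 1232 (Or.inr (Or.inl rfl)) T_1232

theorem count462_std :
    {y : GolayPt → ℤ | y ∈ leechLattice ∧ sqNorm y = 32 ∧ dotInt rA.1 y = 0 ∧
      dotInt rBb.1 y = 16 ∧ dotInt rAc.1 y = 16}.ncard = 462 :=
  count_class_std 2 462 (Or.inr (Or.inr rfl)) T_462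

/-! ### the standard position -/

/-- a pair together with one of its 2025 vectors can be moved to the standard position -/
theorem mcl_triple_std (v w x : leechLattice) (hv : sqNorm v.1 = 32) (hw : sqNorm w.1 = 32)
    (hd : dotInt v.1 w.1 = -8) (hx : sqNorm x.1 = 32) (hvx : dotInt v.1 x.1 = 0)
    (hwx : dotInt w.1 x.1 = 16) :
    ∃ g ∈ Co0, g v = rA ∧ g w = rBb ∧ g x = rAc := by
  obtain ⟨k, hk, hk8, hkA⟩ := to_std v x hv hx hvx
  have hkx : k x = rAc := by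
    have := hk.1 v x
    rw [hk8, hkA] at this
    show k x = r8 - rA
    rw [this]; abel
  have e1 : dotInt rA.1 (k w).1 = -8 := by
    rw [← hkA, dot_pres k hk]; exact hd
  have e2 : dotInt r8.1 (k w).1 = 8 := by
    rw [← hk8, dot_pres k hk]
    show dotInt (v.1 + x.1) w.1 = 8
    rw [dot_add_left, hd, dot_comm, hwx]; norm_num
  rw [dot_rA] at e1
  rw [dot_r8] at e2
  obtain ⟨n, hn, hnw, hnf⟩ := L1_8 (k w) rBb (by rw [hk.2, hw]) rBb_norm
    (by rw [rBb_none]; omega) (by rw [rBb_zero]; omega) (by omega)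
  refine ⟨n * k, Co0.mul_mem hn hk, ?_, ?_, ?_⟩
  · rw [Equiv.Perm.mul_apply, hkA, hnf rA sup2_rA]
  · rw [Equiv.Perm.mul_apply, hnw]
  · rw [Equiv.Perm.mul_apply, hkx, hnf rAc sup2_rAc]

/-- the joint stabiliser of the pair is transitive on the 2025 vectors -/
theorem mcl_trans2025 (v w x x' : leechLattice) (hv : sqNorm v.1 = 32) (hw : sqNorm w.1 = 32)
    (hd : dotInt v.1 w.1 = -8) (hx : sqNorm x.1 = 32) (hvx : dotInt v.1 x.1 = 0)
    (hwx : dotInt w.1 x.1 = 16) (hx' : sqNorm x'.1 = 32) (hvx' : dotInt v.1 x'.1 = 0)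
    (hwx' : dotInt w.1 x'.1 = 16) :
    ∃ g ∈ Co0, g v = v ∧ g w = w ∧ g x = x' := by
  obtain ⟨g, hg, g1, g2, g3⟩ := mcl_triple_std v w x hv hw hd hx hvx hwx
  obtain ⟨g', hg', g1', g2', g3'⟩ := mcl_triple_std v w x' hv hw hd hx' hvx' hwx'
  refine ⟨g'⁻¹ * g, Co0.mul_mem (Co0.inv_mem hg') hg, ?_, ?_, ?_⟩
  · rw [Equiv.Perm.mul_apply, g1, ← g1']; simp
  · rw [Equiv.Perm.mul_apply, g2, ← g2']; simp
  · rw [Equiv.Perm.mul_apply, g3, ← g3']; simp

/-- the count for an arbitrary pair -/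
theorem mcl_count (v w : leechLattice) (hv : sqNorm v.1 = 32) (hw : sqNorm w.1 = 32)
    (hd : dotInt v.1 w.1 = -8) :
    {x : leechLattice | sqNorm x.1 = 32 ∧ dotInt v.1 x.1 = 0 ∧ dotInt w.1 x.1 = 16}.ncard
      = 2025 := by
  obtain ⟨g, hg, g1, g2⟩ := pairs8 v w rA rBb hv hw rA_norm rBb_norm hd rA_rBb
  have h := ncard_transport g hg v w (fun n a b => n = 32 ∧ a = 0 ∧ b = 16)
  rw [h, g1, g2]
  refine Eq.trans ?_ count2025_std
  have himg : {x : GolayPt → ℤ | x ∈ leechLattice ∧ sqNorm x = 32 ∧ dotInt rA.1 x = 0 ∧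
      dotInt rBb.1 x = 16}
      = Subtype.val '' {x : leechLattice | sqNorm x.1 = 32 ∧ dotInt rA.1 x.1 = 0 ∧
          dotInt rBb.1 x.1 = 16} := by
    ext x
    simp only [Set.mem_setOf_eq, Set.mem_image]
    constructor
    · rintro ⟨h1, h2, h3, h4⟩
      exact ⟨⟨x, h1⟩, ⟨h2, h3, h4⟩, rfl⟩
    · rintro ⟨y, ⟨h2, h3, h4⟩, rfl⟩
      exact ⟨y.2, h2, h3, h4⟩
  rw [himg, Set.ncard_image_of_injective _ Subtype.val_injective]

/-- the count of a class for an arbitrary triple -/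
theorem mcl_count_d (v w x : leechLattice) (hv : sqNorm v.1 = 32) (hw : sqNorm w.1 = 32)
    (hd : dotInt v.1 w.1 = -8) (hx : sqNorm x.1 = 32) (hvx : dotInt v.1 x.1 = 0)
    (hwx : dotInt w.1 x.1 = 16) (d : ℤ) :
    {y : leechLattice | sqNorm y.1 = 32 ∧ dotInt v.1 y.1 = 0 ∧ dotInt w.1 y.1 = 16 ∧
        dotInt x.1 y.1 = d}.ncard
      = {y : GolayPt → ℤ | y ∈ leechLattice ∧ sqNorm y = 32 ∧ dotInt rA.1 y = 0 ∧
          dotInt rBb.1 y = 16 ∧ dotInt rAc.1 y = d}.ncard := by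
  obtain ⟨g, hg, g1, g2, g3⟩ := mcl_triple_std v w x hv hw hd hx hvx hwx
  have h := ncard_transport3 g hg v w x (fun n a b c => n = 32 ∧ a = 0 ∧ b = 16 ∧ c = d)
  rw [h, g1, g2, g3]
  have himg : {y : GolayPt → ℤ | y ∈ leechLattice ∧ sqNorm y = 32 ∧ dotInt rA.1 y = 0 ∧
      dotInt rBb.1 y = 16 ∧ dotInt rAc.1 y = d}
      = Subtype.val '' {y : leechLattice | sqNorm y.1 = 32 ∧ dotInt rA.1 y.1 = 0 ∧
          dotInt rBb.1 y.1 = 16 ∧ dotInt rAc.1 y.1 = d} := by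
    ext y
    simp only [Set.mem_setOf_eq, Set.mem_image]
    constructor
    · rintro ⟨h1, h2, h3, h4, h5⟩
      exact ⟨⟨y, h1⟩, ⟨h2, h3, h4, h5⟩, rfl⟩
    · rintro ⟨y, ⟨h2, h3, h4, h5⟩, rfl⟩
      exact ⟨y.2, h2, h3, h4, h5⟩
  rw [himg, Set.ncard_image_of_injective _ Subtype.val_injective]

end Cfsg.Agent.Lib.Helper9.LeechF1
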