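import Cfsg.Agent.Lib.Helper9.LeechP4

set_option autoImplicit false

/-! Minimal vectors with prescribed entries at the two standard points: the case of
entry sum `-2`. -/

namespace Cfsg.Agent.Lib.Helper9.LeechP5

open Cfsg Finset Cfsg.Agent.Lib.Helper4.Leech Cfsg.Agent.Lib.Helper9.Golay1
  Cfsg.Agent.Lib.Helper9.LeechM1 Cfsg.Agent.Lib.Helper9.LeechX4
  Cfsg.Agent.Lib.Helper9.LeechX5 Cfsg.Agent.Lib.Helper9.LeechX6
  Cfsg.Agent.Lib.Helper9.LeechX7 Cfsg.Agent.Lib.Helper9.LeechX8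
  Cfsg.Agent.Lib.Helper9.LeechX10 Cfsg.Agent.Lib.Helper9.LeechX11
  Cfsg.Agent.Lib.Helper9.LeechP1 Cfsg.Agent.Lib.Helper9.LeechP2 Cfsg.Agent.Lib.Helper9.LeechP3
  Cfsg.Agent.Lib.Helper9.LeechP4
  Cfsg.Agent.Lib.Helper9.LeechC7
  Cfsg.Agent.Lib.Helper9.GolayQR1 Cfsg.Agent.Lib.Helper9.GolayQR3
  Cfsg.Agent.Lib.Helper9.M24U1
open Cfsg.Agent.Lib.Helper9.LeechC2 (fwd bwd par cl mem_lev')
open scoped Pointwise

/-- two octads containing `p` and not `q` are exchanged by a permutation fixing `p` and `q` -/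
theorem exists_map_octad_pq (o o' : Finset GolayPt) (ho : o ∈ octads) (ho' : o' ∈ octads)
    (p q : GolayPt) (hp : p ∈ o) (hq : q ∉ o) (hp' : p ∈ o') (hq' : q ∉ o') :
    ∃ h ∈ M24, h • o = o' ∧ h p = p ∧ h q = q := by
  obtain ⟨t, ht, hto, htp, htq⟩ := Cfsg.Agent.Lib.Helper9.M24X10.exists_std_pqo p q o ho hp hq
  obtain ⟨s, hs, hso, hsp, hsq⟩ := Cfsg.Agent.Lib.Helper9.M24X10.exists_std_pqo p q o' ho' hp' hq'
  refine ⟨s⁻¹ * t, M24.mul_mem (M24.inv_mem hs) ht, ?_, ?_, ?_⟩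
  · rw [mul_smul, hto, ← hso, inv_smul_smul]
  · rw [Equiv.Perm.mul_apply, htp, ← hsp, Cfsg.Agent.Lib.Helper9.Chain1.inv_apply_self']
  · rw [Equiv.Perm.mul_apply, htq, ← hsq, Cfsg.Agent.Lib.Helper9.Chain1.inv_apply_self']

theorem testBit_iff' (m : ℕ) (t : Equiv.Perm GolayPt) (s : Finset GolayPt)
    (hts : t • s = M m) (k : GolayPt) : m.testBit (idx k) = true ↔ t⁻¹ k ∈ s := by
  rw [← mem_M, ← hts]
  have := Cfsg.Agent.Lib.Helper9.M24X1.smul_mem_iff t (t⁻¹ k) s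
  rwa [Cfsg.Agent.Lib.Helper9.Chain1.apply_inv_self'] at this

/-! ### shape `(2⁸, 0¹⁶)`, the octad containing exactly one of the two standard points -/

def L1v : List ℤ := [0, 0, 0, 0, -2, 0, 0, 0, 0, 2, 2, 2, 0, 0, 0, 0, 0, 2, 0, 0, 2, 2, 0, -2]

theorem L1v_mem : vecL L1v ∈ leechLattice :=
  mem_of_data _ 0 11669008 (Or.inl rfl) (by decide +kernel) (by decide +kernel)
    (by decide +kernel)

def r1 : leechLattice := ⟨vecL L1v, L1v_mem⟩

def L2v : List ℤ := [-2, 0, -2, 0, 0, 2, 2, 0, 0, 2, 0, 0, 0, 0, 0, 0, 0, 2, 0, 0, 2, 2, 0, 0]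

theorem L2v_mem : vecL L2v ∈ leechLattice :=
  mem_of_data _ 0 3277413 (Or.inl rfl) (by decide +kernel) (by decide +kernel)
    (by decide +kernel)

def r2 : leechLattice := ⟨vecL L2v, L2v_mem⟩

theorem fix1 (w : leechLattice) (habs : ∀ i, |w.1 i| = |r1.1 i|) (hn : w.1 none = r1.1 none)
    (h0 : w.1 (some 0) = r1.1 (some 0)) : RelF w r1 :=
  sign_fix_lists_F r1 [some 0] [some 4, some 9, some 10, some 11, some 17, some 20, some 21, none]
    [4800613, 5010234, 42232, 84464, 4632956, 1384564, 6594610, 13148440, 5035970, 5061322,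
      705094, 5854030, 2675464, 8704546, 126216, 4593028, 1410188, 6554826, 13108704, 4716684,
      1337732, 6678978, 13232360, 5476616, 2232654, 9310308, 7438406, 14516588, 11272490]
    (by decide +kernel) (by decide +kernel) (by decide +kernel) (by decide +kernel)
    (by decide +kernel) (by decide +kernel) (by decide +kernel) w habs hn h0

theorem fix2 (w : leechLattice) (habs : ∀ i, |w.1 i| = |r2.1 i|) (hn : w.1 none = r2.1 none)
    (h0 : w.1 (some 0) = r2.1 (some 0)) : RelF w r2 :=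
  sign_fix_lists_F r2 [none] [some 0, some 2, some 5, some 6, some 9, some 17, some 20, some 21]
    [13148440, 4842653, 4306235, 4259019, 797449, 924689, 6053905, 2422785, 545190, 596054,
      4575124, 4716684, 1410188, 7150748, 84464, 5086770, 5220650, 1955114, 6638906, 5035970,
      5169370, 1875162, 6554826, 145176, 5262104, 2675464, 5405696, 2810896, 7903248]
    (by decide +kernel) (by decide +kernel) (by decide +kernel) (by decide +kernel)
    (by decide +kernel) (by decide +kernel) (by decide +kernel) w habs hn h0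

theorem r1_abs : ∀ k : GolayPt, |r1.1 k| = if (11669008).testBit (idx k) = true then 2 else 0 := by
  decide +kernel

theorem r2_abs : ∀ k : GolayPt, |r2.1 k| = if (3277413).testBit (idx k) = true then 2 else 0 := by
  decide +kernel

theorem O1_mem : M 11669008 ∈ octads :=
  ⟨mask_mem_Code _ (by decide +kernel), by rw [card_M]; decide +kernel⟩

theorem O2_mem : M 3277413 ∈ octads :=
  ⟨mask_mem_Code _ (by decide +kernel), by rw [card_M]; decide +kernel⟩

/-- normal form for the shape `(2⁸, 0¹⁶)`, the octad containing `p` and not `q`, where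
`{p, q}` are the two standard points -/
theorem nf_B1 (x r : leechLattice) (m : ℕ) (p q : GolayPt) (hpq : (p = none ∧ q = some 0) ∨
      (p = some 0 ∧ q = none))
    (hm : M m ∈ octads) (hpm : p ∈ M m) (hqm : q ∉ M m)
    (hrabs : ∀ k : GolayPt, |r.1 k| = if m.testBit (idx k) = true then 2 else 0)
    (hfix : ∀ w : leechLattice, (∀ i, |w.1 i| = |r.1 i|) → w.1 none = r.1 none →
      w.1 (some 0) = r.1 (some 0) → RelF w r)
    (hp : par x.1 = 0) (h2 : cnt x.1 2 = 8) (h0 : cnt x.1 0 = 16)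
    (hc : (cl x.1).card = 8) (hxp : |x.1 p| = 2) (hxq : x.1 q = 0)
    (hxn : x.1 none = r.1 none) (hx0 : x.1 (some 0) = r.1 (some 0)) : RelF x r := by
  have hst := cl_of_two x hp 8 h2 (by omega)
  have hO : cl x.1 ∈ octads := ⟨cl_mem_Code x, hc⟩
  have hpO : p ∈ cl x.1 := (hst p).1.mpr hxp
  have hqO : q ∉ cl x.1 := by
    intro h
    have := (hst q).1.mp h
    rw [hxq] at this
    norm_num at this
  obtain ⟨t, ht, htO, htp, htq⟩ := exists_map_octad_pq _ _ hO hm p q hpO hqO hpm hqm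
  have ep : t⁻¹ p = p := by
    rw [Equiv.Perm.inv_eq_iff_eq]; exact htp.symm
  have eq : t⁻¹ q = q := by
    rw [Equiv.Perm.inv_eq_iff_eq]; exact htq.symm
  have e0 : t⁻¹ none = none := by
    rcases hpq with ⟨h1, h2⟩ | ⟨h1, h2⟩
    · rw [← h1]; exact ep
    · rw [← h2]; exact eq
  have e1 : t⁻¹ (some 0) = some 0 := by
    rcases hpq with ⟨h1, h2⟩ | ⟨h1, h2⟩
    · rw [← h2]; exact eq
    · rw [← h1]; exact ep
  refine relF_of_perm r x t⁻¹ (M24.inv_mem ht) e0 e1 hfix (fun k => ?_) hxn hx0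
  rw [hrabs k]
  have hk := testBit_iff' m t _ htO k
  by_cases hmem : t⁻¹ k ∈ cl x.1
  · rw [if_pos (hk.mpr hmem)]
    exact (hst _).1.mp hmem
  · rw [if_neg (fun h => hmem (hk.mp h)), (hst _).2 hmem]
    rfl

/-! ### odd vectors with the entry `±3` outside the two standard points -/

def LC3 : List ℤ := [-1, 3, -1, -1, 1, -1, 1, 1, 1, 1, 1, 1, 1, 1, -1, 1, 1, -1, 1, 1, 1, 1, 1, -1]

theorem LC3_mem : vecL LC3 ∈ leechLattice :=
  mem_of_data _ 1 8241104 (Or.inr rfl) (by decide +kernel) (by decide +kernel)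
    (by decide +kernel)

def rC3 : leechLattice := ⟨vecL LC3, LC3_mem⟩

theorem rC3_abs : ∀ k : GolayPt, |rC3.1 k| = if k = some 1 then 3 else 1 := by decide +kernel

theorem nf_C3 (x : leechLattice) (hp : par x.1 = 1) (h3 : cnt x.1 3 = 1) (h1 : cnt x.1 1 = 23)
    (hxn : x.1 none = -1) (hx0 : x.1 (some 0) = -1) : RelF x rC3 := by
  obtain ⟨p, hp3, huniq⟩ := cnt_one x.1 3 h3
  have habs := odd_abs x p h3 h1 hp3
  have hpn : p ≠ none := by
    intro h; rw [h, hxn] at hp3; norm_num at hp3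
  have hp0 : p ≠ some 0 := by
    intro h; rw [h, hx0] at hp3; norm_num at hp3
  obtain ⟨h, hh, e0, e1, e2⟩ := exists_fix2 p hpn hp0
  have rn : rC3.1 none = -1 := by decide +kernel
  have r0 : rC3.1 (some 0) = -1 := by decide +kernel
  refine relF_of_perm rC3 x h hh e0 e1 ?_ (fun k => ?_) (by rw [hxn, rn]) (by rw [hx0, r0])
  · intro w hwabs hwn hw0
    refine sign_fix_odd_F w rC3 ?_ (by decide +kernel) hwabs hwn hw0
    unfold par
    rw [hwn, rn]; rfl
  · rw [habs, rC3_abs]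
    by_cases hk : k = some 1
    · rw [if_pos hk, hk, e2, if_pos rfl]
    · rw [if_neg hk, if_neg]
      intro hk'
      rw [← e2] at hk'
      exact hk (h.injective hk')

/-- classification of the minimal vectors with entry sum `-2` at the two standard points -/
theorem classify8 (x : leechLattice) (hn : sqNorm x.1 = 32)
    (hs : x.1 none + x.1 (some 0) = -2) :
    (x.1 none = -2 ∧ x.1 (some 0) = 0 ∧ par x.1 = 0 ∧ cnt x.1 2 = 8 ∧ cnt x.1 0 = 16 ∧
      (cl x.1).card = 8) ∨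
    (x.1 none = 0 ∧ x.1 (some 0) = -2 ∧ par x.1 = 0 ∧ cnt x.1 2 = 8 ∧ cnt x.1 0 = 16 ∧
      (cl x.1).card = 8) ∨
    (x.1 none = -3 ∧ x.1 (some 0) = 1 ∧ par x.1 = 1 ∧ cnt x.1 3 = 1 ∧ cnt x.1 1 = 23) ∨
    (x.1 none = 1 ∧ x.1 (some 0) = -3 ∧ par x.1 = 1 ∧ cnt x.1 3 = 1 ∧ cnt x.1 1 = 23) ∨
    (x.1 none = -1 ∧ x.1 (some 0) = -1 ∧ par x.1 = 1 ∧ cnt x.1 3 = 1 ∧ cnt x.1 1 = 23) := by
  rcases shapes32 x.1 x.2 hn with ⟨hp, h4, h0⟩ | ⟨hp, h2, h0, hc⟩ | ⟨hp, h3, h1⟩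
  · exfalso
    have hcov := cover x.1 {0, 4} (by rw [Finset.sum_pair (by norm_num)]; omega)
    have a := hcov none
    have b := hcov (some 0)
    simp only [mem_insert, mem_singleton] at a b
    rcases abs_cases (x.1 none) with ⟨a1, a2⟩ | ⟨a1, a2⟩ <;>
      rcases abs_cases (x.1 (some 0)) with ⟨b1, b2⟩ | ⟨b1, b2⟩ <;> omega
  · have hcov := cover x.1 {0, 2} (by rw [Finset.sum_pair (by norm_num)]; omega)
    have a := hcov none
    have b := hcov (some 0)
    simp only [mem_insert, mem_singleton] at a b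
    have h6 : (x.1 none = -2 ∧ x.1 (some 0) = 0) ∨ (x.1 none = 0 ∧ x.1 (some 0) = -2) := by
      rcases abs_cases (x.1 none) with ⟨a1, a2⟩ | ⟨a1, a2⟩ <;>
        rcases abs_cases (x.1 (some 0)) with ⟨b1, b2⟩ | ⟨b1, b2⟩ <;> omega
    rcases h6 with ⟨e1, e2⟩ | ⟨e1, e2⟩
    · exact Or.inl ⟨e1, e2, hp, h2, h0, hc⟩
    · exact Or.inr (Or.inl ⟨e1, e2, hp, h2, h0, hc⟩)
  · have hcov := cover x.1 {1, 3} (by rw [Finset.sum_pair (by norm_num)]; omega)
    have a := hcov none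
    have b := hcov (some 0)
    simp only [mem_insert, mem_singleton] at a b
    have h6 : (x.1 none = -3 ∧ x.1 (some 0) = 1) ∨ (x.1 none = 1 ∧ x.1 (some 0) = -3) ∨
        (x.1 none = -1 ∧ x.1 (some 0) = -1) := by
      rcases abs_cases (x.1 none) with ⟨a1, a2⟩ | ⟨a1, a2⟩ <;>
        rcases abs_cases (x.1 (some 0)) with ⟨b1, b2⟩ | ⟨b1, b2⟩ <;> omega
    rcases h6 with ⟨e1, e2⟩ | ⟨e1, e2⟩ | ⟨e1, e2⟩
    · exact Or.inr (Or.inr (Or.inl ⟨e1, e2, hp, h3, h1⟩))
    · exact Or.inr (Or.inr (Or.inr (Or.inl ⟨e1, e2, hp, h3, h1⟩)))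
    · exact Or.inr (Or.inr (Or.inr (Or.inr ⟨e1, e2, hp, h3, h1⟩)))

theorem r1_n : r1.1 none = -2 ∧ r1.1 (some 0) = 0 := by decide +kernel
theorem r2_n : r2.1 none = 0 ∧ r2.1 (some 0) = -2 := by decide +kernel

/-- minimal vectors with the same entries at the two standard points, of sum `-2`, are in one
orbit of the group fixing the vectors supported on these two points -/
theorem L1_8 (w w' : leechLattice) (hw : sqNorm w.1 = 32) (hw' : sqNorm w'.1 = 32)
    (hn : w.1 none = w'.1 none) (h0 : w.1 (some 0) = w'.1 (some 0))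
    (hs : w.1 none + w.1 (some 0) = -2) : RelF w w' := by
  have hs' : w'.1 none + w'.1 (some 0) = -2 := by rw [← hn, ← h0]; exact hs
  rcases classify8 w hw hs with ⟨a1, a2, a3, a4, a5, a6⟩ | ⟨a1, a2, a3, a4, a5, a6⟩ |
      ⟨a1, a2, a3, a4, a5⟩ | ⟨a1, a2, a3, a4, a5⟩ | ⟨a1, a2, a3, a4, a5⟩ <;>
    rcases classify8 w' hw' hs' with ⟨b1, b2, b3, b4, b5, b6⟩ | ⟨b1, b2, b3, b4, b5, b6⟩ |
      ⟨b1, b2, b3, b4, b5⟩ | ⟨b1, b2, b3, b4, b5⟩ | ⟨b1, b2, b3, b4, b5⟩ <;>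
    first
    | (exfalso; omega)
    | skip
  · have key : ∀ x : leechLattice, x.1 none = -2 → x.1 (some 0) = 0 → par x.1 = 0 →
        cnt x.1 2 = 8 → cnt x.1 0 = 16 → (cl x.1).card = 8 → RelF x r1 := by
      intro x e1 e2 e3 e4 e5 e6
      exact nf_B1 x r1 11669008 none (some 0) (Or.inl ⟨rfl, rfl⟩) O1_mem
        (by rw [mem_M]; decide +kernel) (by rw [mem_M]; decide +kernel) r1_abs fix1 e3 e4 e5 e6
        (by rw [e1]; rfl) e2 (by rw [e1, r1_n.1]) (by rw [e2, r1_n.2])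
    exact (key w a1 a2 a3 a4 a5 a6).trans (key w' b1 b2 b3 b4 b5 b6).symm
  · have key : ∀ x : leechLattice, x.1 none = 0 → x.1 (some 0) = -2 → par x.1 = 0 →
        cnt x.1 2 = 8 → cnt x.1 0 = 16 → (cl x.1).card = 8 → RelF x r2 := by
      intro x e1 e2 e3 e4 e5 e6
      exact nf_B1 x r2 3277413 (some 0) none (Or.inr ⟨rfl, rfl⟩) O2_mem
        (by rw [mem_M]; decide +kernel) (by rw [mem_M]; decide +kernel) r2_abs fix2 e3 e4 e5 e6
        (by rw [e2]; rfl) e1 (by rw [e1, r2_n.1]) (by rw [e2, r2_n.2])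
    exact (key w a1 a2 a3 a4 a5 a6).trans (key w' b1 b2 b3 b4 b5 b6).symm
  · refine sign_fix_odd_F w w' a3 b3 (fun i => ?_) hn h0
    rw [odd_abs w none a4 a5 (by rw [a1]; rfl) i, odd_abs w' none b4 b5 (by rw [b1]; rfl) i]
  · refine sign_fix_odd_F w w' a3 b3 (fun i => ?_) hn h0
    rw [odd_abs w (some 0) a4 a5 (by rw [a2]; rfl) i, odd_abs w' (some 0) b4 b5 (by rw [b2]; rfl) i]
  · exact (nf_C3 w a3 a4 a5 a1 a2).trans (nf_C3 w' b3 b4 b5 b1 b2).symm

end Cfsg.Agent.Lib.Helper9.LeechP5
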