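import Cfsg.Agent.Lib.Helper9.M24Y1

set_option autoImplicit false

namespace Cfsg.Agent.Lib.Helper9.M24Y2

open Cfsg Finset Cfsg.Agent.Lib.Helper9.M24T5 Cfsg.Agent.Lib.Helper9.M24T7
  Cfsg.Agent.Lib.Helper9.M24Y1
open scoped Pointwise

theorem smul_toFinset (g : Equiv.Perm GolayPt) (l : List GolayPt) :
    g • l.toFinset = (l.map g).toFinset := by
  ext x
  simp only [mem_smul_finset, List.mem_toFinset, List.mem_map, Equiv.Perm.smul_def]

/-- the stabilizer of a set `s` is transitive on the sets of given size meeting `s` in a given
number of points, as long as at most five points are involved -/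
theorem exists_stab_map (s y z : Finset GolayPt) (hyz : y.card = z.card)
    (hi : (s ∩ y).card = (s ∩ z).card) (h5 : (s ∪ y).card ≤ 5) :
    ∃ g ∈ M24, g • s = s ∧ g • y = z := by
  have hsy : (s \ y).card + (s ∩ y).card = s.card := card_sdiff_add_card_inter s y
  have hsz : (s \ z).card + (s ∩ z).card = s.card := card_sdiff_add_card_inter s z
  have hys : (y \ s).card + (y ∩ s).card = y.card := card_sdiff_add_card_inter y s
  have hzs : (z \ s).card + (z ∩ s).card = z.card := card_sdiff_add_card_inter z s
  rw [inter_comm y s] at hys
  rw [inter_comm z s] at hzs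
  have hu : (s ∪ y).card = (s ∩ y).card + (s \ y).card + (y \ s).card := by
    have := card_union_add_card_inter s y
    omega
  have hnd : ((s ∩ y).toList ++ (s \ y).toList ++ (y \ s).toList).Nodup := by
    apply List.Nodup.append
    · apply List.Nodup.append (nodup_toList _) (nodup_toList _)
      intro a ha hb
      rw [mem_toList] at ha hb
      exact (mem_sdiff.mp hb).2 (mem_inter.mp ha).2
    · exact nodup_toList _
    · intro a ha hb
      rw [mem_toList] at hb
      rw [List.mem_append, mem_toList, mem_toList] at ha
      rcases ha with ha | ha
      · exact (mem_sdiff.mp hb).2 (mem_inter.mp ha).1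
      · exact (mem_sdiff.mp hb).2 (mem_sdiff.mp ha).1
  have hnd' : ((s ∩ z).toList ++ (s \ z).toList ++ (z \ s).toList).Nodup := by
    apply List.Nodup.append
    · apply List.Nodup.append (nodup_toList _) (nodup_toList _)
      intro a ha hb
      rw [mem_toList] at ha hb
      exact (mem_sdiff.mp hb).2 (mem_inter.mp ha).2
    · exact nodup_toList _
    · intro a ha hb
      rw [mem_toList] at hb
      rw [List.mem_append, mem_toList, mem_toList] at ha
      rcases ha with ha | ha
      · exact (mem_sdiff.mp hb).2 (mem_inter.mp ha).1
      · exact (mem_sdiff.mp hb).2 (mem_sdiff.mp ha).1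
  obtain ⟨g, hg, hmap⟩ := exists_map_list _ _ hnd hnd' (by
    simp only [List.length_append, length_toList]; omega) (by
    simp only [List.length_append, length_toList]; omega)
  rw [List.map_append, List.map_append] at hmap
  have h12 := List.append_inj hmap (by
    simp only [List.length_append, List.length_map, length_toList]; omega)
  have h1 := List.append_inj h12.1 (by simp only [List.length_map, length_toList]; omega)
  refine ⟨g, hg, ?_, ?_⟩
  · have e1 : s = ((s ∩ y).toList ++ (s \ y).toList).toFinset := by
      rw [List.toFinset_append, toList_toFinset, toList_toFinset, union_comm,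
        sdiff_union_inter]
    have e2 : s = ((s ∩ z).toList ++ (s \ z).toList).toFinset := by
      rw [List.toFinset_append, toList_toFinset, toList_toFinset, union_comm,
        sdiff_union_inter]
    conv_lhs => rw [e1]
    conv_rhs => rw [e2]
    rw [smul_toFinset, List.map_append, h1.1, h1.2]
  · have e1 : y = ((s ∩ y).toList ++ (y \ s).toList).toFinset := by
      rw [List.toFinset_append, toList_toFinset, toList_toFinset, union_comm, inter_comm,
        sdiff_union_inter]
    have e2 : z = ((s ∩ z).toList ++ (z \ s).toList).toFinset := by
      rw [List.toFinset_append, toList_toFinset, toList_toFinset, union_comm, inter_comm,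
        sdiff_union_inter]
    conv_lhs => rw [e1]
    conv_rhs => rw [e2]
    rw [smul_toFinset, List.map_append, h1.1, h12.2]

end Cfsg.Agent.Lib.Helper9.M24Y2
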