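import Cfsg.Agent.Lib.Helper9.M24Z2
import Cfsg.Agent.Lib.Helper9.M24Y1

set_option autoImplicit false

namespace Cfsg.Agent.Lib.Helper9.M24Z3

open Cfsg Finset Cfsg.Agent.Lib.Helper9.Golay1 Cfsg.Agent.Lib.Helper9.GolayQR1
  Cfsg.Agent.Lib.Helper9.GolayQR5
  Cfsg.Agent.Lib.Helper9.M24T1 Cfsg.Agent.Lib.Helper9.M24T3 Cfsg.Agent.Lib.Helper9.M24T5
  Cfsg.Agent.Lib.Helper9.M24T6 Cfsg.Agent.Lib.Helper9.M24T7
  Cfsg.Agent.Lib.Helper9.M24U1 Cfsg.Agent.Lib.Helper9.M24U2 Cfsg.Agent.Lib.Helper9.M24U3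
  Cfsg.Agent.Lib.Helper9.M24U4 Cfsg.Agent.Lib.Helper9.M24U5
  Cfsg.Agent.Lib.Helper9.M24X1 Cfsg.Agent.Lib.Helper9.M24Y1
  Cfsg.Agent.Lib.Helper9.M24Z1 Cfsg.Agent.Lib.Helper9.M24Z2
open scoped Pointwise

/-- the set lies in some octad -/
def InOct (A : Finset GolayPt) : Prop := ∃ o ∈ octads, A ⊆ o

theorem inOct_smul (t : Equiv.Perm GolayPt) (ht : t ∈ M24) (A : Finset GolayPt) :
    InOct (t • A) ↔ InOct A := by
  constructor
  · rintro ⟨o, ho, h⟩
    refine ⟨t⁻¹ • o, smul_octad_mem _ (M24.inv_mem ht) o ho, ?_⟩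
    rw [← smul_finset_subset_smul_finset_iff (a := t), smul_inv_smul]
    exact h
  · rintro ⟨o, ho, h⟩
    exact ⟨t • o, smul_octad_mem _ ht o ho, smul_finset_subset_smul_finset h⟩

theorem disjoint_smul (t : Equiv.Perm GolayPt) (A B : Finset GolayPt) :
    Disjoint (t • A) (t • B) ↔ Disjoint A B := by
  rw [disjoint_iff_inter_eq_empty, disjoint_iff_inter_eq_empty, ← smul_finset_inter,
    smul_finset_eq_empty]

/-- the standard triad -/
def T3 : Finset GolayPt := M 8388611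

theorem card_T3 : T3.card = 3 := by
  rw [T3, card_M]; decide +kernel

theorem lenKy : clsKy.length = 210 := by decide +kernel

theorem lenKn : clsKn.length = 1120 := by decide +kernel

theorem or_lt (m n : ℕ) (hm : m < 2 ^ 24) (hn : n < 2 ^ 24) : m ||| n < 2 ^ 24 :=
  Nat.or_lt_two_pow hm hn

theorem prop_iff (m : ℕ) (hm : m < 2 ^ 24) :
    (Disjoint T3 (M m) ↔ (m &&& 8388611 == 0) = true) ∧
      (InOct (T3 ∪ M m) ↔ inOct (m ||| 8388611) = true) := by
  constructor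
  · rw [T3, M_disjoint_iff _ _ (by norm_num), Nat.land_comm, beq_iff_eq]
  · rw [inOct_iff _ (or_lt _ _ hm (by norm_num)), M_or, union_comm, T3]
    rfl

theorem count_std_yes :
    {U : Finset GolayPt | U.card = 3 ∧ Disjoint T3 U ∧ InOct (T3 ∪ U)}.ncard = 210 := by
  rw [← lenKy]
  apply ncard_class triadLit triadLit_nodup triadLit_lt {t : Finset GolayPt | t.card = 3}
    mem_triads_iff (fun U => Disjoint T3 U ∧ InOct (T3 ∪ U))
  intro m hm
  obtain ⟨h1, h2⟩ := prop_iff m (triadLit_lt m hm)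
  rw [h1, h2, Bool.and_eq_true]

theorem count_std_no :
    {U : Finset GolayPt | U.card = 3 ∧ Disjoint T3 U ∧ ¬ InOct (T3 ∪ U)}.ncard = 1120 := by
  rw [← lenKn]
  apply ncard_class triadLit triadLit_nodup triadLit_lt {t : Finset GolayPt | t.card = 3}
    mem_triads_iff (fun U => Disjoint T3 U ∧ ¬ InOct (T3 ∪ U))
  intro m hm
  obtain ⟨h1, h2⟩ := prop_iff m (triadLit_lt m hm)
  rw [h1, h2, Bool.and_eq_true, Bool.not_eq_true', Bool.not_eq_true]

theorem trans_std (U U' : Finset GolayPt) (hU : U.card = 3) (hU' : U'.card = 3)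
    (hd : Disjoint T3 U) (hd' : Disjoint T3 U') (h : InOct (T3 ∪ U) ↔ InOct (T3 ∪ U')) :
    ∃ g ∈ stabC [] [8388611], g • U = U' := by
  obtain ⟨m, hm, rfl⟩ := (mem_triads_iff U).mp hU
  obtain ⟨m', hm', rfl⟩ := (mem_triads_iff U').mp hU'
  obtain ⟨h1, h2⟩ := prop_iff m (triadLit_lt m hm)
  obtain ⟨h1', h2'⟩ := prop_iff m' (triadLit_lt m' hm')
  by_cases hy : InOct (T3 ∪ M m)
  · exact transKy m (List.mem_filter.mpr ⟨hm, by
      rw [Bool.and_eq_true]; exact ⟨h1.mp hd, h2.mp hy⟩⟩) m' (List.mem_filter.mpr ⟨hm', by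
      rw [Bool.and_eq_true]; exact ⟨h1'.mp hd', h2'.mp (h.mp hy)⟩⟩)
  · have hy' : ¬ InOct (T3 ∪ M m') := fun h' => hy (h.mpr h')
    exact transKn m (List.mem_filter.mpr ⟨hm, by
      rw [Bool.and_eq_true, Bool.not_eq_true', ← Bool.not_eq_true]
      exact ⟨h1.mp hd, fun h' => hy (h2.mpr h')⟩⟩) m' (List.mem_filter.mpr ⟨hm', by
      rw [Bool.and_eq_true, Bool.not_eq_true', ← Bool.not_eq_true]
      exact ⟨h1'.mp hd', fun h' => hy' (h2'.mpr h')⟩⟩)

theorem triad_result (T : Finset GolayPt) (hT : T.card = 3) :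
    {U : Finset GolayPt | U.card = 3 ∧ Disjoint T U ∧ InOct (T ∪ U)}.ncard = 210 ∧
    {U : Finset GolayPt | U.card = 3 ∧ Disjoint T U ∧ ¬ InOct (T ∪ U)}.ncard = 1120 ∧
    ∀ U U' : Finset GolayPt, U.card = 3 → U'.card = 3 → Disjoint T U → Disjoint T U' →
      (InOct (T ∪ U) ↔ InOct (T ∪ U')) →
      ∃ g : Equiv.Perm GolayPt, g ∈ M24 ∧ g • T = T ∧ g • U = U' := by
  have hmem : T3 ∈ MulAction.orbit M24 T := by
    rw [orbit_subset T (by omega), Set.mem_ofPred_eq, hT, card_T3]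
  obtain ⟨⟨t, ht⟩, htT⟩ := hmem
  change t • T = T3 at htT
  have htinv : t⁻¹ ∈ M24 := M24.inv_mem ht
  have hS : ∀ (u : Equiv.Perm GolayPt) (s : Finset GolayPt),
      s ∈ {x : Finset GolayPt | x.card = 3} → u • s ∈ {x : Finset GolayPt | x.card = 3} := by
    intro u s hs
    rw [Set.mem_ofPred_eq] at hs ⊢
    rw [Finset.card_smul_finset, hs]
  have e1 : ∀ s : Finset GolayPt, Disjoint T (t⁻¹ • s) ↔ Disjoint T3 s := by
    intro s
    rw [← disjoint_smul t, smul_inv_smul, htT]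
  have e2 : ∀ s : Finset GolayPt, InOct (T ∪ t⁻¹ • s) ↔ InOct (T3 ∪ s) := by
    intro s
    rw [← inOct_smul t ht, smul_finset_union, smul_inv_smul, htT]
  refine ⟨?_, ?_, ?_⟩
  · rw [← count_std_yes]
    apply ncard_smul t⁻¹ {x : Finset GolayPt | x.card = 3} (hS _) (hS _)
      (fun s => Disjoint T s ∧ InOct (T ∪ s))
    intro s
    rw [e1, e2]
  · rw [← count_std_no]
    apply ncard_smul t⁻¹ {x : Finset GolayPt | x.card = 3} (hS _) (hS _)
      (fun s => Disjoint T s ∧ ¬ InOct (T ∪ s))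
    intro s
    rw [e1, e2]
  · intro U U' hU hU' hd hd' h
    obtain ⟨g, hg, hgU⟩ := trans_std (t • U) (t • U')
      (by rw [Finset.card_smul_finset, hU]) (by rw [Finset.card_smul_finset, hU'])
      (by rw [← htT, disjoint_smul]; exact hd) (by rw [← htT, disjoint_smul]; exact hd')
      (by rw [← htT, ← smul_finset_union, ← smul_finset_union, inOct_smul t ht,
        inOct_smul t ht]; exact h)
    obtain ⟨hgM, -, hgo⟩ := (mem_stabC _ _ g).mp hg
    have hgT : g • T3 = T3 := hgo 8388611 (by simp)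
    refine ⟨t⁻¹ * g * t, M24.mul_mem (M24.mul_mem htinv hgM) ht, ?_, ?_⟩
    · rw [mul_smul, mul_smul, htT, hgT, ← htT, inv_smul_smul]
    · rw [mul_smul, mul_smul, hgU, inv_smul_smul]

end Cfsg.Agent.Lib.Helper9.M24Z3
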