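import Cfsg.Agent.Lib.Helper9.M24Y6
import Cfsg.Agent.Lib.Helper9.M24Y2
import Cfsg.Agent.Lib.Helper9.M24Z3

set_option autoImplicit false

namespace Cfsg.Agent.Lib.Helper9.M24Y7

open Cfsg Finset Cfsg.Agent.Lib.Helper9.GolayQR1 Cfsg.Agent.Lib.Helper9.GolayQR5
  Cfsg.Agent.Lib.Helper9.M24T1 Cfsg.Agent.Lib.Helper9.M24T2
  Cfsg.Agent.Lib.Helper9.M24T3 Cfsg.Agent.Lib.Helper9.M24T4 Cfsg.Agent.Lib.Helper9.M24T7
  Cfsg.Agent.Lib.Helper9.M24T8 Cfsg.Agent.Lib.Helper9.M24X1
  Cfsg.Agent.Lib.Helper9.M24Y1 Cfsg.Agent.Lib.Helper9.M24Y2 Cfsg.Agent.Lib.Helper9.M24Y6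
  Cfsg.Agent.Lib.Helper9.M24Z3 Cfsg.Agent.Lib.Helper9.Chain1
open scoped Pointwise

/-- two octads sharing five points are equal -/
theorem octad_eq_of_five (o o' : Finset GolayPt) (ho : o ∈ octads) (ho' : o' ∈ octads)
    (s : Finset GolayPt) (hs : 5 ≤ s.card) (h1 : s ⊆ o) (h2 : s ⊆ o') : o = o' := by
  obtain ⟨u, hu, hu5⟩ := exists_subset_card_eq hs
  obtain ⟨x, -, hx⟩ := octads_isSteiner.2 u hu5
  rw [hx o ⟨ho, hu.trans h1⟩, hx o' ⟨ho', hu.trans h2⟩]

theorem exists_octad_five (l : List GolayPt) (hl : l.Nodup) (h5 : l.length = 5) :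
    ∃ o ∈ octads, ∀ p ∈ l, p ∈ o := by
  obtain ⟨o, ⟨ho, hsub⟩, -⟩ := octads_isSteiner.2 l.toFinset
    (by rw [List.toFinset_card_of_nodup hl, h5])
  exact ⟨o, ho, fun p hp => hsub (List.mem_toFinset.mpr hp)⟩

theorem mem_O8_iff (p : GolayPt) : p ∈ O8 ↔ oMask.testBit (idx p) = true := mem_supp_dec oMask p

/-- the pointwise stabilizer of the five standard points has two orbits on the other points -/
theorem fix5_trans_std (x y : GolayPt) (hx : x ∉ [none, some 0, some 1, some 2, some 3])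
    (hy : y ∉ [none, some 0, some 1, some 2, some 3]) (hxy : x ∈ O8 ↔ y ∈ O8) :
    ∃ h ∈ fixL M24 [none, some 0, some 1, some 2, some 3], h x = y := by
  have hsub : ∀ q : GolayPt, q ∈ [none, some 0, some 1, some 2, some 3] →
      q ∈ [none, some 0, some 1, some 2, some 3, some 4] := by decide
  by_cases hxo : x ∈ O8
  · have hyo := hxy.mp hxo
    obtain ⟨u, hu, hux⟩ := low7 x ⟨(mem_O8_iff x).mp hxo, hx⟩
    obtain ⟨u', hu', huy⟩ := low7 y ⟨(mem_O8_iff y).mp hyo, hy⟩
    have hu5 : u ∈ fixL M24 [none, some 0, some 1, some 2, some 3] :=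
      ⟨C_le hu.1, fun q hq => hu.2 q (hsub q hq)⟩
    have hu5' : u' ∈ fixL M24 [none, some 0, some 1, some 2, some 3] :=
      ⟨C_le hu'.1, fun q hq => hu'.2 q (hsub q hq)⟩
    refine ⟨u' * u⁻¹, Subgroup.mul_mem _ hu5' (Subgroup.inv_mem _ hu5), ?_⟩
    rw [Equiv.Perm.mul_apply, ← hux, inv_apply_self', huy]
  · have hyo : y ∉ O8 := fun h => hxo (hxy.mpr h)
    rw [mem_O8_iff, Bool.not_eq_true] at hxo hyo
    obtain ⟨u, hu, hux⟩ := low6 x hxo
    obtain ⟨u', hu', huy⟩ := low6 y hyo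
    have hu5 := fixL_mono C_le _ hu
    have hu5' := fixL_mono C_le _ hu'
    refine ⟨u' * u⁻¹, Subgroup.mul_mem _ hu5' (Subgroup.inv_mem _ hu5), ?_⟩
    rw [Equiv.Perm.mul_apply, ← hux, inv_apply_self', huy]

/-- the pointwise stabilizer of five points has two orbits on the other points: the rest of the
octad through them, and the points outside that octad -/
theorem fix5_trans (l : List GolayPt) (hl : l.Nodup) (h5 : l.length = 5) (o : Finset GolayPt)
    (ho : o ∈ octads) (hlo : ∀ p ∈ l, p ∈ o) (x y : GolayPt) (hx : x ∉ l) (hy : y ∉ l)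
    (hxy : x ∈ o ↔ y ∈ o) : ∃ h ∈ fixL M24 l, h x = y := by
  obtain ⟨t, ht, hmap⟩ := exists_map_list [none, some 0, some 1, some 2, some 3] l (by decide) hl
    (by rw [h5]; rfl) (by simp)
  have hto : t • O8 = o := by
    apply octad_eq_of_five _ _ (smul_octad_mem t ht O8 O8_mem) ho l.toFinset
      (by rw [List.toFinset_card_of_nodup hl, h5])
    · intro p hp
      rw [List.mem_toFinset, ← hmap, List.mem_map] at hp
      obtain ⟨q, hq, rfl⟩ := hp
      rw [smul_mem_iff, mem_O8]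
      revert q
      decide
    · intro p hp
      exact hlo p (List.mem_toFinset.mp hp)
  have hmem : ∀ z : GolayPt, z ∉ l → t⁻¹ z ∉ [none, some 0, some 1, some 2, some 3] := by
    intro z hz hmem
    apply hz
    rw [← hmap, List.mem_map]
    exact ⟨t⁻¹ z, hmem, apply_inv_self' t z⟩
  have hoct : ∀ z : GolayPt, t⁻¹ z ∈ O8 ↔ z ∈ o := by
    intro z
    rw [← hto, ← smul_mem_iff t, apply_inv_self']
  obtain ⟨h, hh, hhx⟩ := fix5_trans_std (t⁻¹ x) (t⁻¹ y) (hmem x hx) (hmem y hy)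
    (by rw [hoct, hoct]; exact hxy)
  refine ⟨t * h * t⁻¹, ⟨M24.mul_mem (M24.mul_mem ht hh.1) (M24.inv_mem ht), ?_⟩, ?_⟩
  · intro b hb
    rw [← hmap, List.mem_map] at hb
    obtain ⟨q, hq, rfl⟩ := hb
    rw [Equiv.Perm.mul_apply, Equiv.Perm.mul_apply, inv_apply_self', hh.2 q hq]
  · rw [Equiv.Perm.mul_apply, Equiv.Perm.mul_apply, hhx, apply_inv_self']

/-- whether a sixth point lies in the octad through five points, in terms of the six points -/
theorem inOct_snoc (l : List GolayPt) (hl : l.Nodup) (h5 : l.length = 5) (o : Finset GolayPt)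
    (ho : o ∈ octads) (hlo : ∀ p ∈ l, p ∈ o) (x : GolayPt) :
    InOct (l ++ [x]).toFinset ↔ x ∈ o := by
  constructor
  · rintro ⟨o', ho', hsub⟩
    have : o' = o := by
      apply octad_eq_of_five _ _ ho' ho l.toFinset (by rw [List.toFinset_card_of_nodup hl, h5])
      · intro p hp
        apply hsub
        rw [List.mem_toFinset] at hp ⊢
        exact List.mem_append_left _ hp
      · intro p hp
        exact hlo p (List.mem_toFinset.mp hp)
    rw [← this]
    apply hsub
    rw [List.mem_toFinset]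
    exact List.mem_append_right _ (List.mem_singleton.mpr rfl)
  · intro hx
    refine ⟨o, ho, ?_⟩
    intro p hp
    rw [List.mem_toFinset, List.mem_append, List.mem_singleton] at hp
    rcases hp with hp | rfl
    · exact hlo p hp
    · exact hx

/-- six points can be mapped to six points in order, as long as both or neither of the two sets
lie in an octad -/
theorem map_six (l l' : List GolayPt) (x y : GolayPt) (hl : (l ++ [x]).Nodup)
    (hl' : (l' ++ [y]).Nodup) (h5 : l.length = 5) (h5' : l'.length = 5)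
    (hcond : InOct (l ++ [x]).toFinset ↔ InOct (l' ++ [y]).toFinset) :
    ∃ g ∈ M24, l.map g = l' ∧ g x = y := by
  have hnd : l.Nodup := (List.nodup_append.mp hl).1
  have hnd' : l'.Nodup := (List.nodup_append.mp hl').1
  have hxl : x ∉ l := fun h => (List.nodup_append.mp hl).2.2 x h x (List.mem_singleton.mpr rfl) rfl
  have hyl : y ∉ l' := fun h =>
    (List.nodup_append.mp hl').2.2 y h y (List.mem_singleton.mpr rfl) rfl
  obtain ⟨g1, hg1, hmap⟩ := exists_map_list l l' hnd hnd' (by rw [h5, h5']) (by omega)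
  obtain ⟨o', ho', hlo'⟩ := exists_octad_five l' hnd' h5'
  have hx1 : g1 x ∉ l' := by
    intro h
    rw [← hmap, List.mem_map] at h
    obtain ⟨q, hq, hqx⟩ := h
    rw [g1.injective hqx] at hq
    exact hxl hq
  have e1 : g1 • (l ++ [x]).toFinset = (l' ++ [g1 x]).toFinset := by
    rw [smul_toFinset, List.map_append, hmap, List.map_cons, List.map_nil]
  have hc : g1 x ∈ o' ↔ y ∈ o' := by
    rw [← inOct_snoc l' hnd' h5' o' ho' hlo', ← inOct_snoc l' hnd' h5' o' ho' hlo', ← e1,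
      inOct_smul g1 hg1]
    exact hcond
  obtain ⟨h, hh, hhx⟩ := fix5_trans l' hnd' h5' o' ho' hlo' (g1 x) y hx1 hyl hc
  refine ⟨h * g1, M24.mul_mem hh.1 hg1, ?_, ?_⟩
  · rw [← hmap]
    apply List.ext_getElem
    · simp
    · intro i hi hi'
      rw [List.getElem_map, List.getElem_map, Equiv.Perm.mul_apply]
      apply hh.2
      rw [← hmap]
      exact List.mem_map.mpr ⟨_, List.getElem_mem _, rfl⟩
  · rw [Equiv.Perm.mul_apply, hhx]

end Cfsg.Agent.Lib.Helper9.M24Y7
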