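import Cfsg.Agent.Lib.Helper9.M24P1
import Cfsg.Agent.Lib.Helper9.M24T11
import Cfsg.Agent.Lib.Helper9.M24Y7
import Cfsg.Prelude.Def_SporadicCombinatorics

set_option autoImplicit false

namespace Cfsg.Agent.Lib.Helper9.M24P5

open Cfsg Finset Cfsg.Agent.Lib.Helper9.Golay1 Cfsg.Agent.Lib.Helper9.GolayQR1
  Cfsg.Agent.Lib.Helper9.GolayQR5 Cfsg.Agent.Lib.Helper9.GolayQR6
  Cfsg.Agent.Lib.Helper9.M24T1 Cfsg.Agent.Lib.Helper9.M24T6 Cfsg.Agent.Lib.Helper9.M24T9
  Cfsg.Agent.Lib.Helper9.M24T10 Cfsg.Agent.Lib.Helper9.M24T11 Cfsg.Agent.Lib.Helper9.M24X1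
  Cfsg.Agent.Lib.Helper9.M24Y7 Cfsg.Agent.Lib.Helper9.M24P1
open scoped Pointwise

/-- an element of the dodecad stabilizer fixing five points of the dodecad is trivial -/
theorem eq_one_of_fix (d : Finset GolayPt) (hd : d ∈ dodecads) (g : Equiv.Perm GolayPt)
    (hg : g ∈ stabF d) (s : Finset GolayPt) (hs : s ⊆ d) (h5 : 5 ≤ s.card)
    (hfix : ∀ p ∈ s, g p = p) : g = 1 := by
  obtain ⟨u, hu, hu5⟩ := exists_subset_card_eq h5
  obtain ⟨z, hz⟩ := exists_emb u 5 hu5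
  have hzd : ∀ i, z i ∈ d := fun i => hs (hu ((hz _).mpr ⟨i, rfl⟩))
  obtain ⟨g', -, huniq⟩ := sharp_dodecad d hd z z hzd hzd
  have h1 := huniq g ⟨hg, fun i => hfix _ (hu ((hz _).mpr ⟨i, rfl⟩))⟩
  have h2 := huniq 1 ⟨(stabF d).one_mem, fun i => rfl⟩
  rw [h1, h2]

theorem hexad_sub (d C : Finset GolayPt) (hC : C ∈ hexadsOn d) : C ⊆ d := by
  obtain ⟨-, o, -, rfl⟩ := hC
  exact inter_subset_right

/-- an element of the dodecad stabilizer mapping five points of a hexad into a hexad maps the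
hexad to that hexad -/
theorem map_hexad (d : Finset GolayPt) (C C' : Finset GolayPt)
    (hC : C ∈ hexadsOn d) (hC' : C' ∈ hexadsOn d) (g : Equiv.Perm GolayPt) (hg : g ∈ stabF d)
    (s : Finset GolayPt) (hs : s ⊆ C) (h5 : 5 ≤ s.card) (hmap : ∀ p ∈ s, g p ∈ C') :
    g • C = C' := by
  obtain ⟨-, o, ho, rfl⟩ := hC
  obtain ⟨-, o', ho', rfl⟩ := hC'
  rw [mem_stabF] at hg
  have h1 : g • o = o' := by
    apply octad_eq_of_five (g • o) o' (smul_octad_mem g hg.1 o ho) ho' (g • s)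
    · rw [Finset.card_smul_finset]; exact h5
    · exact Finset.smul_finset_subset_smul_finset (hs.trans inter_subset_left)
    · intro p hp
      rw [Finset.mem_smul_finset] at hp
      obtain ⟨q, hq, rfl⟩ := hp
      exact (mem_inter.mp (hmap q hq)).1
  rw [Finset.smul_finset_inter, h1, hg.2]

/-- restriction to the hexad -/
def resC (d C : Finset GolayPt) :
    ↥(MulAction.stabilizer M24 d ⊓ MulAction.stabilizer M24 C) →* Equiv.Perm ↥C where
  toFun k := (k.1.1 : Equiv.Perm GolayPt).subtypePerm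
    ((stab_iff C k.1.1).mp (MulAction.mem_stabilizer_iff.mp (Subgroup.mem_inf.mp k.2).2))
  map_one' := by
    apply Equiv.ext
    intro x
    rfl
  map_mul' := by
    intro a b
    apply Equiv.ext
    intro x
    rfl

theorem mem_stabF_of (d C : Finset GolayPt)
    (k : ↥(MulAction.stabilizer M24 d ⊓ MulAction.stabilizer M24 C)) :
    (k.1.1 : Equiv.Perm GolayPt) ∈ stabF d :=
  (mem_stabF d _).mpr ⟨k.1.2, MulAction.mem_stabilizer_iff.mp (Subgroup.mem_inf.mp k.2).1⟩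

theorem faithful (d : Finset GolayPt) (hd : d ∈ dodecads) (C : Finset GolayPt)
    (k : ↥(MulAction.stabilizer M24 d ⊓ MulAction.stabilizer M24 C))
    (s : Finset GolayPt) (hs : s ⊆ d) (h5 : 5 ≤ s.card)
    (hfix : ∀ p ∈ s, ((k : ↥M24) : Equiv.Perm GolayPt) p = p) : k = 1 := by
  have h1 := eq_one_of_fix d hd k.1.1 (mem_stabF_of d C k) s hs h5 hfix
  apply Subtype.ext
  apply Subtype.ext
  exact h1

theorem resC_injective (d : Finset GolayPt) (hd : d ∈ dodecads) (C : Finset GolayPt)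
    (hC : C ∈ hexadsOn d) : Function.Injective (resC d C) := by
  rw [injective_iff_map_eq_one]
  intro k hk
  apply faithful d hd C k C (hexad_sub d C hC) (by rw [hC.1]; norm_num)
  intro x hx
  have := congrArg (fun e : Equiv.Perm ↥C => ((e ⟨x, hx⟩ : ↥C) : GolayPt)) hk
  exact this

theorem resC_surjective (d : Finset GolayPt) (hd : d ∈ dodecads) (C : Finset GolayPt)
    (hC : C ∈ hexadsOn d) : Function.Surjective (resC d C) := by
  intro σ
  have hCd := hexad_sub d C hC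
  have h6 : C.card = 6 := hC.1
  obtain ⟨u, hu, hu5⟩ := exists_subset_card_eq (show 5 ≤ C.card by rw [h6]; norm_num)
  obtain ⟨z, hz⟩ := exists_emb u 5 hu5
  have hzC : ∀ i, z i ∈ C := fun i => hu ((hz _).mpr ⟨i, rfl⟩)
  obtain ⟨y, hy⟩ : ∃ y : Fin 5 ↪ GolayPt, ∀ i, y i = ((σ ⟨z i, hzC i⟩ : ↥C) : GolayPt) :=
    ⟨⟨fun i => ((σ ⟨z i, hzC i⟩ : ↥C) : GolayPt), fun i j h => by
      have h1 : (σ ⟨z i, hzC i⟩ : ↥C) = σ ⟨z j, hzC j⟩ := Subtype.ext h
      have h2 := σ.injective h1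
      exact z.injective (congrArg Subtype.val h2)⟩, fun i => rfl⟩
  have hyC : ∀ i, y i ∈ C := fun i => by rw [hy]; exact (σ _).2
  obtain ⟨g, ⟨hg, hgzy⟩, -⟩ := sharp_dodecad d hd z y (fun i => hCd (hzC i)) (fun i => hCd (hyC i))
  have hgC : g • C = C := by
    apply map_hexad d C C hC hC g hg u hu (by rw [hu5])
    intro p hp
    obtain ⟨i, rfl⟩ := (hz p).mp hp
    rw [hgzy]
    exact hyC i
  have hg' := (mem_stabF d g).mp hg
  refine ⟨⟨⟨g, hg'.1⟩, Subgroup.mem_inf.mpr ⟨MulAction.mem_stabilizer_iff.mpr hg'.2,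
    MulAction.mem_stabilizer_iff.mpr hgC⟩⟩, ?_⟩
  -- the two permutations of C agree on five of the six points
  obtain ⟨τ, hτ⟩ : ∃ τ : Equiv.Perm ↥C, τ = σ⁻¹ * resC d C ⟨⟨g, hg'.1⟩, Subgroup.mem_inf.mpr
    ⟨MulAction.mem_stabilizer_iff.mpr hg'.2, MulAction.mem_stabilizer_iff.mpr hgC⟩⟩ := ⟨_, rfl⟩
  have hτu : ∀ x : ↥C, (x : GolayPt) ∈ u → τ x = x := by
    intro x hx
    obtain ⟨i, hi⟩ := (hz _).mp hx
    rw [hτ, Equiv.Perm.mul_apply, Equiv.Perm.inv_eq_iff_eq]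
    apply Subtype.ext
    change g (x : GolayPt) = ((σ x : ↥C) : GolayPt)
    have hx' : x = ⟨z i, hzC i⟩ := Subtype.ext hi.symm
    rw [hx', ← hy i, ← hgzy i]
  have hτ1 : τ = 1 := by
    apply Equiv.ext
    intro x
    by_cases hx : (x : GolayPt) ∈ u
    · exact hτu x hx
    · -- the unique point outside u
      by_contra hne
      have hτx : ((τ x : ↥C) : GolayPt) ∉ u := by
        intro h
        have h1 := hτu (τ x) h
        exact hne (τ.injective h1)
      have hcard : (C \ u).card = 1 := by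
        rw [card_sdiff_of_subset hu, h6, hu5]
      rw [card_eq_one] at hcard
      obtain ⟨a, ha⟩ := hcard
      have h1 : (x : GolayPt) ∈ C \ u := mem_sdiff.mpr ⟨x.2, hx⟩
      have h2 : ((τ x : ↥C) : GolayPt) ∈ C \ u := mem_sdiff.mpr ⟨(τ x).2, hτx⟩
      rw [ha, mem_singleton] at h1 h2
      exact hne (Subtype.ext (h2.trans h1.symm))
  rw [hτ] at hτ1
  have := congrArg (fun e => σ * e) hτ1
  simp only [mul_inv_cancel_left, mul_one] at this
  exact this

theorem main (d : Finset GolayPt) (hd : d ∈ dodecads) (C : Finset GolayPt)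
    (hC : C ∈ hexadsOn d) :
    Nonempty (↥(MulAction.stabilizer M24 d ⊓ MulAction.stabilizer M24 C) ≃* Equiv.Perm (Fin 6)) ∧
    (∀ g ∈ MulAction.stabilizer M24 d ⊓ MulAction.stabilizer M24 C,
      (∀ p ∈ C, ((g : ↥M24) : Equiv.Perm GolayPt) p = p) → g = 1) ∧
    ∀ g ∈ MulAction.stabilizer M24 d ⊓ MulAction.stabilizer M24 C,
      (∀ p ∈ d \ C, ((g : ↥M24) : Equiv.Perm GolayPt) p = p) → g = 1 := by
  have hCd := hexad_sub d C hC
  have h6 : C.card = 6 := hC.1
  refine ⟨?_, ?_, ?_⟩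
  · exact ⟨(MulEquiv.ofBijective (resC d C)
      ⟨resC_injective d hd C hC, resC_surjective d hd C hC⟩).trans
      (C.equivFinOfCardEq h6).permCongrHom⟩
  · intro g hg hfix
    have := faithful d hd C ⟨g, hg⟩ C hCd (by rw [h6]; norm_num) hfix
    exact congrArg Subtype.val this
  · intro g hg hfix
    have h6' : (d \ C).card = 6 := by
      rw [card_sdiff_of_subset hCd, h6, hd.2]
    have := faithful d hd C ⟨g, hg⟩ (d \ C) sdiff_subset (by rw [h6']; norm_num) hfix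
    exact congrArg Subtype.val this

end Cfsg.Agent.Lib.Helper9.M24P5
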