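import Cfsg.Agent.Lib.Helper9.M24Q2
import Cfsg.Agent.Lib.Helper9.M24T7
import Cfsg.Agent.Lib.Helper9.M24T11
import Cfsg.Agent.Lib.Helper9.M24Y1
import Cfsg.Agent.Lib.Helper9.M24P5

set_option autoImplicit false

/-! Simplicity of the Mathieu groups `M23`, `M22`, `M11`, `M24`, `M12` inside `M24`. -/

namespace Cfsg.Agent.Lib.Helper9.M24Q3

open Cfsg Finset Cfsg.Agent.Lib.Helper9.M24H5 Cfsg.Agent.Lib.Helper9.M24Q1
  Cfsg.Agent.Lib.Helper9.M24Q2 Cfsg.Agent.Lib.Helper9.M24T3 Cfsg.Agent.Lib.Helper9.M24T7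
  Cfsg.Agent.Lib.Helper9.M24T9 Cfsg.Agent.Lib.Helper9.M24T11
  Cfsg.Agent.Lib.Helper9.SimpA Cfsg.Agent.Lib.Helper9.SimpB
open scoped Pointwise

/-- transport along an equality of membership -/
def subEquiv {G : Type*} [Group G] (H : Subgroup G) (K : Subgroup ↥H) (L : Subgroup G)
    (hL : L ≤ H) (h : ∀ g : ↥H, g ∈ K ↔ (g : G) ∈ L) : ↥K ≃* ↥L where
  toFun k := ⟨k.1.1, (h k.1).mp k.2⟩
  invFun l := ⟨⟨l.1, hL l.2⟩, (h _).mpr l.2⟩
  left_inv _ := rfl
  right_inv _ := rfl
  map_mul' _ _ := rfl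

theorem card_univ_pt : (Finset.univ : Finset GolayPt).card = 24 := by
  rw [Finset.card_univ]
  exact Cfsg.Agent.Lib.Helper9.GolayQR5.card_golayPt

theorem not_pp (n : ℕ) (h2 : 2 ∣ n) (h3 : 3 ∣ n) : ∀ r k : ℕ, r.Prime → n ≠ r ^ k := by
  intro r k hr h
  rw [h] at h2 h3
  have e2 : 2 = r := (Nat.prime_dvd_prime_iff_eq (by norm_num) hr).mp (Nat.Prime.dvd_of_dvd_pow (by norm_num) h2)
  have e3 : 3 = r := (Nat.prime_dvd_prime_iff_eq (by norm_num) hr).mp (Nat.Prime.dvd_of_dvd_pow (by norm_num) h3)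
  omega

theorem m23_simple (p0 : GolayPt) : IsSimpleGroup ↥(fixL M24 [p0]) := by
  haveI : Fact (Nat.Prime 23) := ⟨by norm_num⟩
  have hfix : ∀ h ∈ fixL M24 [p0], h p0 = p0 := fun h hh => hh.2 p0 (by simp)
  have hcard : ((Finset.univ : Finset GolayPt).erase p0).card = 23 := by
    rw [Finset.card_erase_of_mem (Finset.mem_univ _), card_univ_pt]
  refine simple_sub (fixL M24 [p0]) (fixL_le _ _) p0 hfix 23 11 (by norm_num) (Or.inr rfl)
    (Finset.univ.erase p0) ?_ ?_ ?_ (by rw [hcard]) (by rw [hcard]; norm_num) 10200960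
    (card_fix_point p0) (by norm_num) (by norm_num) (by intro h; norm_num at h) ?_ (by norm_num)
  · intro a ha b hb c hc d hd hab hcd
    have ha' := (Finset.mem_erase.mp ha).1
    have hb' := (Finset.mem_erase.mp hb).1
    have hc' := (Finset.mem_erase.mp hc).1
    have hd' := (Finset.mem_erase.mp hd).1
    obtain ⟨g, hg, hmap⟩ := Cfsg.Agent.Lib.Helper9.M24Y1.exists_map_list [p0, a, b] [p0, c, d]
      (by simp [ha'.symm, hb'.symm, hab]) (by simp [hc'.symm, hd'.symm, hcd]) rfl (by simp)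
    simp only [List.map_cons, List.map_nil, List.cons.injEq, and_true] at hmap
    refine ⟨g, ⟨hg, ?_⟩, hmap.2.1, hmap.2.2⟩
    intro x hx
    simp only [List.mem_singleton] at hx
    rw [hx]; exact hmap.1
  · intro h hh hx
    apply Equiv.ext
    intro x
    by_cases hxp : x = p0
    · rw [hxp]; exact hfix h hh
    · exact hx x (Finset.mem_erase.mpr ⟨hxp, Finset.mem_univ _⟩)
  · intro h hh x hx
    refine Finset.mem_erase.mpr ⟨?_, Finset.mem_univ _⟩
    intro he
    have := hfix h hh
    rw [← this] at he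
    exact (Finset.mem_erase.mp hx).1 (h.injective he)
  · intro e he1 he2 he3
    have hle : e ≤ 22 := Nat.le_of_dvd (by norm_num) he1
    interval_cases e <;> first | rfl | (exfalso; revert he1 he2 he3; decide)

theorem m22_simple (p0 q0 : GolayPt) (hpq : p0 ≠ q0) : IsSimpleGroup ↥(fixL M24 [p0, q0]) := by
  haveI : Fact (Nat.Prime 11) := ⟨by norm_num⟩
  have hfix : ∀ h ∈ fixL M24 [p0, q0], h p0 = p0 := fun h hh => hh.2 p0 (by simp)
  have hfixq : ∀ h ∈ fixL M24 [p0, q0], h q0 = q0 := fun h hh => hh.2 q0 (by simp)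
  have hcard : (((Finset.univ : Finset GolayPt).erase p0).erase q0).card = 22 := by
    rw [Finset.card_erase_of_mem (Finset.mem_erase.mpr ⟨hpq.symm, Finset.mem_univ _⟩),
      Finset.card_erase_of_mem (Finset.mem_univ _), card_univ_pt]
  refine simple_sub (fixL M24 [p0, q0]) (fixL_le _ _) p0 hfix 11 5 (by norm_num) (Or.inl rfl)
    ((Finset.univ.erase p0).erase q0) ?_ ?_ ?_ (by rw [hcard]; norm_num) (by rw [hcard]; norm_num)
    443520 (card_fix_two p0 q0 hpq) (by norm_num) (by norm_num) (by intro _; norm_num) ?_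
    (by norm_num)
  · intro a ha b hb c hc d hd hab hcd
    obtain ⟨haq, ha'⟩ := Finset.mem_erase.mp ha
    obtain ⟨hbq, hb'⟩ := Finset.mem_erase.mp hb
    obtain ⟨hcq, hc'⟩ := Finset.mem_erase.mp hc
    obtain ⟨hdq, hd'⟩ := Finset.mem_erase.mp hd
    have ha' := (Finset.mem_erase.mp ha').1
    have hb' := (Finset.mem_erase.mp hb').1
    have hc' := (Finset.mem_erase.mp hc').1
    have hd' := (Finset.mem_erase.mp hd').1
    obtain ⟨g, hg, hmap⟩ := Cfsg.Agent.Lib.Helper9.M24Y1.exists_map_list [p0, q0, a, b]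
      [p0, q0, c, d]
      (by simp [ha'.symm, hb'.symm, hab, haq.symm, hbq.symm, hpq])
      (by simp [hc'.symm, hd'.symm, hcd, hcq.symm, hdq.symm, hpq]) rfl (by simp)
    simp only [List.map_cons, List.map_nil, List.cons.injEq, and_true] at hmap
    refine ⟨g, ⟨hg, ?_⟩, hmap.2.2.1, hmap.2.2.2⟩
    intro x hx
    simp only [List.mem_cons, List.not_mem_nil, or_false] at hx
    rcases hx with rfl | rfl
    · exact hmap.1
    · exact hmap.2.1
  · intro h hh hx
    apply Equiv.ext
    intro x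
    by_cases hxp : x = p0
    · rw [hxp]; exact hfix h hh
    by_cases hxq : x = q0
    · rw [hxq]; exact hfixq h hh
    · exact hx x (Finset.mem_erase.mpr ⟨hxq, Finset.mem_erase.mpr ⟨hxp, Finset.mem_univ _⟩⟩)
  · intro h hh x hx
    obtain ⟨hxq, hx'⟩ := Finset.mem_erase.mp hx
    have hxp := (Finset.mem_erase.mp hx').1
    refine Finset.mem_erase.mpr ⟨?_, Finset.mem_erase.mpr ⟨?_, Finset.mem_univ _⟩⟩
    · intro he
      have := hfixq h hh
      rw [← this] at he
      exact hxq (h.injective he)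
    · intro he
      have := hfix h hh
      rw [← this] at he
      exact hxp (h.injective he)
  · intro e he1 he2 he3
    have hle : e ≤ 10 := Nat.le_of_dvd (by norm_num) he1
    interval_cases e <;> first | rfl | (exfalso; revert he1 he2 he3; decide)

/-- extend a list of distinct points of `d` to one of length `n` -/
theorem extend_list (d : Finset GolayPt) (n : ℕ) (hn : n ≤ d.card) :
    ∀ (k : ℕ) (l : List GolayPt), l.Nodup → (∀ x ∈ l, x ∈ d) → l.length + k = n →
      ∃ l' : List GolayPt, l'.Nodup ∧ (∀ x ∈ l', x ∈ d) ∧ l'.length = n ∧ l <+: l' := by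
  intro k
  induction k with
  | zero =>
    intro l hl hld hlen
    exact ⟨l, hl, hld, by omega, List.prefix_refl l⟩
  | succ k ih =>
    intro l hl hld hlen
    have hlt : l.toFinset.card < d.card := by
      have := List.toFinset_card_le l
      omega
    obtain ⟨u, hud, hul⟩ := Finset.exists_mem_notMem_of_card_lt_card hlt
    have hul' : u ∉ l := fun h => hul (List.mem_toFinset.mpr h)
    obtain ⟨l', h1, h2, h3, h4⟩ := ih (l ++ [u])
      (List.Nodup.append hl (List.nodup_singleton u) (by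
        intro a ha hb
        rw [List.mem_singleton] at hb
        rw [hb] at ha
        exact hul' ha))
      (by
        intro x hx
        rcases List.mem_append.mp hx with h | h
        · exact hld x h
        · rw [List.mem_singleton.mp h]; exact hud)
      (by rw [List.length_append, List.length_singleton]; omega)
    exact ⟨l', h1, h2, h3, (List.prefix_append l [u]).trans h4⟩

/-- an embedding `Fin 5 ↪ d` starting with a given list -/
theorem exists_emb_prefix (d : Finset GolayPt) (hd : 5 ≤ d.card) (l : List GolayPt)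
    (hl : l.Nodup) (hld : ∀ x ∈ l, x ∈ d) (hlen : l.length ≤ 5) :
    ∃ x : Fin 5 ↪ GolayPt, (∀ i, x i ∈ d) ∧
      ∀ (i : ℕ) (hi : i < l.length), x ⟨i, by omega⟩ = l[i] := by
  obtain ⟨l', h1, h2, h3, h4⟩ := extend_list d 5 hd (5 - l.length) l hl hld (by omega)
  refine ⟨⟨fun i => l'[i.val]'(by rw [h3]; exact i.2), ?_⟩, ?_, ?_⟩
  · intro i j hij
    have := (List.Nodup.getElem_inj_iff h1).mp hij
    exact Fin.ext this
  · intro i
    exact h2 _ (List.getElem_mem _)
  · intro i hi
    exact (List.IsPrefix.getElem h4 hi).symm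

end Cfsg.Agent.Lib.Helper9.M24Q3
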