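import Cfsg.Agent.Lib.Helper9.M24X11
import Cfsg.Agent.Lib.Helper9.M24Q3
import Cfsg.Agent.Lib.Helper9.LeechP5

set_option autoImplicit false

/-! Transitivity of the two-point stabiliser on flags consisting of an octad and a point. -/

namespace Cfsg.Agent.Lib.Helper9.LeechF2

open Cfsg Finset Cfsg.Agent.Lib.Helper9.Golay1
  Cfsg.Agent.Lib.Helper9.M24T3 Cfsg.Agent.Lib.Helper9.M24T8 Cfsg.Agent.Lib.Helper9.M24T9
  Cfsg.Agent.Lib.Helper9.M24X1 Cfsg.Agent.Lib.Helper9.M24Q3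
open scoped Pointwise

theorem inv_apply_of (g : Equiv.Perm GolayPt) (a b : GolayPt) (h : g a = b) : g⁻¹ b = a := by
  rw [Equiv.Perm.inv_eq_iff_eq]; exact h.symm

/-- the stabiliser of an octad is transitive on the ordered triples of its points -/
theorem octad_stab_map3 (o : Finset GolayPt) (ho : o ∈ octads) (a b c a' b' c' : GolayPt)
    (ha : a ∈ o) (hb : b ∈ o) (hc : c ∈ o) (ha' : a' ∈ o) (hb' : b' ∈ o) (hc' : c' ∈ o)
    (hab : a ≠ b) (hac : a ≠ c) (hbc : b ≠ c) (hab' : a' ≠ b') (hac' : a' ≠ c')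
    (hbc' : b' ≠ c') : ∃ g ∈ stabF o, g a = a' ∧ g b = b' ∧ g c = c' := by
  have h8 : o.card = 8 := ho.2
  obtain ⟨x, hx, hxl⟩ := exists_emb_prefix o (by omega) [a, b, c]
    (by simp [hab, hac, hbc]) (by
      intro z hz
      simp only [List.mem_cons, List.not_mem_nil, or_false] at hz
      rcases hz with rfl | rfl | rfl <;> assumption) (by simp)
  obtain ⟨y, hy, hyl⟩ := exists_emb_prefix o (by omega) [a', b', c']
    (by simp [hab', hac', hbc']) (by
      intro z hz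
      simp only [List.mem_cons, List.not_mem_nil, or_false] at hz
      rcases hz with rfl | rfl | rfl <;> assumption) (by simp)
  obtain ⟨g, hg, hxy⟩ := octad_stab_trans5 o ho x y hx hy
  refine ⟨g, hg, ?_, ?_, ?_⟩
  · have e1 := hxl 0 (by simp)
    have e2 := hyl 0 (by simp)
    simp only [List.getElem_cons_zero] at e1 e2
    rw [← e1, ← e2]; exact hxy _
  · have e1 := hxl 1 (by simp)
    have e2 := hyl 1 (by simp)
    simp only [List.getElem_cons_succ, List.getElem_cons_zero] at e1 e2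
    rw [← e1, ← e2]; exact hxy _
  · have e1 := hxl 2 (by simp)
    have e2 := hyl 2 (by simp)
    simp only [List.getElem_cons_succ, List.getElem_cons_zero] at e1 e2
    rw [← e1, ← e2]; exact hxy _

/-- flags `(O, p)` with `O` an octad through the two standard points and `p` another point
of `O` -/
theorem exists_map_flag_in (O O' : Finset GolayPt) (hO : O ∈ octads) (hO' : O' ∈ octads)
    (hn : (none : GolayPt) ∈ O) (h0 : (some 0 : GolayPt) ∈ O) (hn' : (none : GolayPt) ∈ O')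
    (h0' : (some 0 : GolayPt) ∈ O') (p p' : GolayPt) (hp : p ∈ O) (hp' : p' ∈ O')
    (hpn : p ≠ none) (hp0 : p ≠ some 0) (hpn' : p' ≠ none) (hp0' : p' ≠ some 0) :
    ∃ π ∈ M24, π none = none ∧ π (some 0) = some 0 ∧ π • O' = O ∧ π p' = p := by
  obtain ⟨s, hs, s1, s2, s3⟩ := Cfsg.Agent.Lib.Helper9.M24X11.exists_std_pq_in none (some 0)
    (by decide) O hO hn h0
  obtain ⟨t, ht, t1, t2, t3⟩ := Cfsg.Agent.Lib.Helper9.M24X11.exists_std_pq_in none (some 0)
    (by decide) O' hO' hn' h0'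
  -- `u` maps `O'` onto `O` and fixes the two standard points
  have hu : s⁻¹ * t ∈ M24 := M24.mul_mem (M24.inv_mem hs) ht
  have u1 : (s⁻¹ * t) none = none := by
    rw [Equiv.Perm.mul_apply, t2, inv_apply_of s _ _ s2]
  have u2 : (s⁻¹ * t) (some 0) = some 0 := by
    rw [Equiv.Perm.mul_apply, t3, inv_apply_of s _ _ s3]
  have u3 : (s⁻¹ * t) • O' = O := by
    rw [mul_smul, t1, ← s1, inv_smul_smul]
  have hq : (s⁻¹ * t) p' ∈ O := by rw [← u3, smul_mem_iff]; exact hp'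
  have hqn : (s⁻¹ * t) p' ≠ none := by
    intro h; rw [← u1] at h; exact hpn' ((s⁻¹ * t).injective h)
  have hq0 : (s⁻¹ * t) p' ≠ some 0 := by
    intro h; rw [← u2] at h; exact hp0' ((s⁻¹ * t).injective h)
  obtain ⟨g, hg, g1, g2, g3⟩ := octad_stab_map3 O hO none (some 0) ((s⁻¹ * t) p') none (some 0) p
    hn h0 hq hn h0 hp (by decide) (Ne.symm hqn) (Ne.symm hq0) (by decide) (Ne.symm hpn)
    (Ne.symm hp0)
  obtain ⟨hgM, hgO⟩ := (mem_stabF O g).mp hg
  refine ⟨g * (s⁻¹ * t), M24.mul_mem hgM hu, ?_, ?_, ?_, ?_⟩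
  · rw [Equiv.Perm.mul_apply, u1, g1]
  · rw [Equiv.Perm.mul_apply, u2, g2]
  · rw [mul_smul, u3, hgO]
  · rw [Equiv.Perm.mul_apply, g3]

/-- flags `(P, p)` with `P` an octad through `some 0` avoiding `none` and `p` another point
of `P` -/
theorem exists_map_flag_out (P P' : Finset GolayPt) (hP : P ∈ octads) (hP' : P' ∈ octads)
    (hn : (none : GolayPt) ∉ P) (h0 : (some 0 : GolayPt) ∈ P) (hn' : (none : GolayPt) ∉ P')
    (h0' : (some 0 : GolayPt) ∈ P') (p p' : GolayPt) (hp : p ∈ P) (hp' : p' ∈ P')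
    (hp0 : p ≠ some 0) (hp0' : p' ≠ some 0) :
    ∃ π ∈ M24, π none = none ∧ π (some 0) = some 0 ∧ π • P' = P ∧ π p' = p := by
  obtain ⟨s, hs, s1, s2, s3⟩ := Cfsg.Agent.Lib.Helper9.LeechP5.exists_map_octad_pq P' P hP' hP
    (some 0) none h0' hn' h0 hn
  have hq : s p' ∈ P := by rw [← s1, smul_mem_iff]; exact hp'
  have hq0 : s p' ≠ some 0 := by
    intro h; rw [← s2] at h; exact hp0' (s.injective h)
  -- standardise `P`
  obtain ⟨t, ht, t1, t2, t3⟩ := Cfsg.Agent.Lib.Helper9.M24X10.exists_std_pqo (some 0) none P hP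
    h0 hn
  have hnO : (none : GolayPt) ∈ O8 := by rw [mem_O8]; decide
  have a1 : t (s p') ∈ O8 := by rw [← t1, smul_mem_iff]; exact hq
  have a2 : t p ∈ O8 := by rw [← t1, smul_mem_iff]; exact hp
  have a3 : t (s p') ≠ none := by
    intro h; rw [← t2] at h; exact hq0 (t.injective h)
  have a4 : t p ≠ none := by
    intro h; rw [← t2] at h; exact hp0 (t.injective h)
  -- an element of the octad stabiliser fixing `none` and mapping `t (s p')` to `t p`
  obtain ⟨c, hc, hcn, hcq⟩ : ∃ c ∈ O8, c ≠ none ∧ c ≠ t (s p') := by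
    by_cases h1 : t (s p') = some 0
    · exact ⟨some 1, by rw [mem_O8]; decide, by decide, by rw [h1]; decide⟩
    · exact ⟨some 0, by rw [mem_O8]; decide, by decide, fun h => h1 h.symm⟩
  obtain ⟨c', hc', hcn', hcq'⟩ : ∃ c' ∈ O8, c' ≠ none ∧ c' ≠ t p := by
    by_cases h1 : t p = some 0
    · exact ⟨some 1, by rw [mem_O8]; decide, by decide, by rw [h1]; decide⟩
    · exact ⟨some 0, by rw [mem_O8]; decide, by decide, fun h => h1 h.symm⟩
  obtain ⟨h0', hh0, b1, b2, -⟩ := octad_stab_map3 O8 O8_mem none (t (s p')) c none (t p) c'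
    hnO a1 hc hnO a2 hc' (Ne.symm a3) (Ne.symm hcn) (Ne.symm hcq) (Ne.symm a4) (Ne.symm hcn')
    (Ne.symm hcq')
  obtain ⟨hh0M, hh0O⟩ := (mem_stabF O8 h0').mp hh0
  -- correct the image of `some 4`
  have hr : h0' (some 4) ∉ L8 := by
    rw [← mem_O8, ← hh0O, smul_mem_iff, mem_O8]
    decide
  obtain ⟨e1, e2, e3, e4, he⟩ := eprod_cover _ hr
  have hem := eprod_mem e1 e2 e3 e4
  have heM : eprod e1 e2 e3 e4 ∈ M24 := hem.1
  have hefix : ∀ q ∈ O8, eprod e1 e2 e3 e4 q = q := fun q hq => hem.2 q ((mem_O8 q).mp hq)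
  have he4 : eprod e1 e2 e3 e4 (h0' (some 4)) = some 4 := by
    rw [← he, eprod_sq]
  -- the element of the stabiliser of `O8`
  have hhM : eprod e1 e2 e3 e4 * h0' ∈ M24 := M24.mul_mem heM hh0M
  have hhO : (eprod e1 e2 e3 e4 * h0') • O8 = O8 := by
    rw [mul_smul, hh0O, eprod_smul_O8]
  have hhn : (eprod e1 e2 e3 e4 * h0') none = none := by
    rw [Equiv.Perm.mul_apply, b1, hefix none hnO]
  have hhq : (eprod e1 e2 e3 e4 * h0') (t (s p')) = t p := by
    rw [Equiv.Perm.mul_apply, b2, hefix _ a2]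
  have hh4 : (eprod e1 e2 e3 e4 * h0') (some 4) = some 4 := by
    rw [Equiv.Perm.mul_apply, he4]
  refine ⟨t⁻¹ * (eprod e1 e2 e3 e4 * h0') * t * s,
    M24.mul_mem (M24.mul_mem (M24.mul_mem (M24.inv_mem ht) hhM) ht) hs, ?_, ?_, ?_, ?_⟩
  · rw [Equiv.Perm.mul_apply, Equiv.Perm.mul_apply, Equiv.Perm.mul_apply, s3, t3, hh4,
      inv_apply_of t _ _ t3]
  · rw [Equiv.Perm.mul_apply, Equiv.Perm.mul_apply, Equiv.Perm.mul_apply, s2, t2, hhn,
      inv_apply_of t _ _ t2]
  · rw [mul_smul, mul_smul, mul_smul, s1, t1, hhO, ← t1, inv_smul_smul]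
  · rw [Equiv.Perm.mul_apply, Equiv.Perm.mul_apply, Equiv.Perm.mul_apply, hhq,
      inv_apply_of t _ _ rfl]

end Cfsg.Agent.Lib.Helper9.LeechF2
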