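import Cfsg.Agent.Lib.Helper9.LeechF1
import Cfsg.Agent.Lib.Helper9.LeechF2
import Cfsg.Agent.Lib.Helper9.LeechE9

set_option autoImplicit false

/-! Pairs of minimal vectors with inner product `-8`: the stabiliser of the pair and of one of
the 2025 attached vectors is transitive on each of the three classes of the others. -/

namespace Cfsg.Agent.Lib.Helper9.LeechF3

open Cfsg Finset Cfsg.Agent.Lib.Helper4.Leech Cfsg.Agent.Lib.Helper9.Golay1
  Cfsg.Agent.Lib.Helper9.LeechE3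
  Cfsg.Agent.Lib.Helper9.LeechE4 Cfsg.Agent.Lib.Helper9.LeechE5 Cfsg.Agent.Lib.Helper9.LeechE8
  Cfsg.Agent.Lib.Helper9.LeechE9 Cfsg.Agent.Lib.Helper9.LeechF1 Cfsg.Agent.Lib.Helper9.LeechF2
  Cfsg.Agent.Lib.Helper9.LeechX4 Cfsg.Agent.Lib.Helper9.LeechX5 Cfsg.Agent.Lib.Helper9.LeechX7
  Cfsg.Agent.Lib.Helper9.LeechX8
  Cfsg.Agent.Lib.Helper9.LeechX9 Cfsg.Agent.Lib.Helper9.LeechX10 Cfsg.Agent.Lib.Helper9.LeechX11
  Cfsg.Agent.Lib.Helper9.LeechP1 Cfsg.Agent.Lib.Helper9.LeechP2 Cfsg.Agent.Lib.Helper9.LeechP3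
  Cfsg.Agent.Lib.Helper9.LeechP4 Cfsg.Agent.Lib.Helper9.LeechQ2
  Cfsg.Agent.Lib.Helper9.LeechC7
open Cfsg.Agent.Lib.Helper9.LeechC2 (fwd bwd par cl mem_lev')
open scoped Pointwise

/-- common tail: from a permutation matching the absolute values to an automorphism -/
theorem relF_decode (e y y' : leechLattice) (N : ℤ) (he : sqNorm e.1 = N) (hN0 : 0 ≤ N)
    (hN : N ≤ 48) (π : Equiv.Perm GolayPt) (hπ : π ∈ M24) (p1 : π none = none)
    (p2 : π (some 0) = some 0) (hodd : e.1 none % 2 = 1)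
    (habs : ∀ k, |(m4 e y).1 (π k)| = |(m4 e y').1 k|) (hn : y.1 none = y'.1 none)
    (h0 : y.1 (some 0) = y'.1 (some 0)) :
    ∃ n ∈ Co0, (∀ f, Sup2 f → n f = f) ∧ n e = e ∧ n y = y' := by
  have hpar : par (m4 e y').1 = 1 := by
    unfold par
    rw [m4_val]
    omega
  have hrel : RelF (m4 e y) (m4 e y') := by
    refine relF_of_perm (m4 e y') (m4 e y) π hπ p1 p2 ?_ habs ?_ ?_
    · intro w habs' hwn hw0
      refine sign_fix_odd_F w (m4 e y') ?_ hpar habs' hwn hw0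
      unfold par
      rw [hwn]
      exact hpar
    · rw [m4_val, m4_val, hn]
    · rw [m4_val, m4_val, h0]
  obtain ⟨n, hn1, hn2, hn3⟩ := hrel
  obtain ⟨d1, d2⟩ := decode n hn1 e y y' N he hN0 hN hn2
  exact ⟨n, hn1, hn3, d1, d2⟩

theorem rBb_gen : ∀ k : GolayPt, k ≠ some 0 → rBb.1 k = 1 := by decide +kernel

theorem diff_norm' (y : leechLattice) (hy : sqNorm y.1 = 32) (hd : dotInt rBb.1 y.1 = 16) :
    sqNorm (y - rBb).1 = 32 := by
  show sqNorm (y.1 - rBb.1) = 32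
  rw [sqNorm_sub, hy, rBb_norm, dot_comm, hd]; norm_num

/-! ### the class of 330 -/

theorem pat0 (y : leechLattice) (hy : sqNorm y.1 = 32) (hd : dotInt rBb.1 y.1 = 16)
    (hn : y.1 none = 0) (h0 : y.1 (some 0) = 0) :
    ∃ O ∈ octads, (none : GolayPt) ∉ O ∧ (some 0 : GolayPt) ∉ O ∧
      ∀ k, |(m4 rBb y).1 k| = if k = some 0 then 3 else if k ∈ O then 9 else 1 := by
  have ht := diff_norm' y hy hd
  have tv : ∀ k, (y - rBb).1 k = y.1 k - rBb.1 k := fun k => rfl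
  have tn : (y - rBb).1 none = -1 := by rw [tv, hn, rBb_none]; norm_num
  have t0 : (y - rBb).1 (some 0) = 3 := by rw [tv, h0, rBb_zero]; norm_num
  have tabs : ∀ k, |(y - rBb).1 k| = if k = some 0 then 3 else 1 := by
    rcases shapes32 (y - rBb).1 (y - rBb).2 ht with ⟨hp, -, -⟩ | ⟨hp, -, -, -⟩ | ⟨-, h3, h1⟩
    · unfold par at hp; rw [tn] at hp; norm_num at hp
    · unfold par at hp; rw [tn] at hp; norm_num at hp
    · exact odd_abs (y - rBb) (some 0) h3 h1 (by rw [t0]; rfl)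
  -- the entries of `y` outside `some 0` are `0` or `2`
  have yv : ∀ k, k ≠ some 0 → y.1 k = 0 ∨ y.1 k = 2 := by
    intro k hk
    have e1 := tabs k
    rw [if_neg hk, tv, rBb_gen k hk] at e1
    rcases abs_cases (y.1 k - 1) with ⟨a1, a2⟩ | ⟨a1, a2⟩ <;> omega
  rcases shapes32 y.1 y.2 hy with ⟨-, h4, hz⟩ | ⟨hp, h2, hz, hc⟩ | ⟨hp, -, -⟩
  · obtain ⟨i, j, hij, hi, hj, -⟩ := cnt_two y.1 4 h4
    exfalso
    by_cases hi0 : i = some 0
    · rw [hi0, h0] at hi; norm_num at hi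
    · rcases yv i hi0 with h | h <;> rw [h] at hi <;> norm_num at hi
  · have hst := cl_of_two y hp 8 h2 (by omega)
    refine ⟨cl y.1, ⟨cl_mem_Code y, hc⟩, ?_, ?_, fun k => ?_⟩
    · intro h
      have := (hst none).1.mp h
      rw [hn] at this; norm_num at this
    · intro h
      have := (hst (some 0)).1.mp h
      rw [h0] at this; norm_num at this
    · rw [m4_val]
      by_cases hk0 : k = some 0
      · rw [if_pos hk0, hk0, rBb_zero, h0]; rfl
      rw [if_neg hk0, rBb_gen k hk0]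
      by_cases hk : k ∈ cl y.1
      · rw [if_pos hk]
        have h2' := (hst k).1.mp hk
        rcases yv k hk0 with h | h
        · rw [h] at h2'; norm_num at h2'
        · rw [h]; rfl
      · rw [if_neg hk, (hst k).2 hk]; rfl
  · unfold par at hp
    rw [hn] at hp
    norm_num at hp

theorem Q0 (y y' : leechLattice) (hy : sqNorm y.1 = 32) (hd : dotInt rBb.1 y.1 = 16)
    (hn : y.1 none = 0) (h0 : y.1 (some 0) = 0) (hy' : sqNorm y'.1 = 32)
    (hd' : dotInt rBb.1 y'.1 = 16) (hn' : y'.1 none = 0) (h0' : y'.1 (some 0) = 0) :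
    ∃ n ∈ Co0, (∀ f, Sup2 f → n f = f) ∧ n rBb = rBb ∧ n y = y' := by
  obtain ⟨O, hO, a1, a2, hpat⟩ := pat0 y hy hd hn h0
  obtain ⟨O', hO', a1', a2', hpat'⟩ := pat0 y' hy' hd' hn' h0'
  obtain ⟨π, hπ, p3, p1, p2⟩ := Cfsg.Agent.Lib.Helper9.LeechP7.exists_map_octad_out2 O' O hO' hO
    none (some 0) (by decide) a1' a2' a1 a2
  refine relF_decode rBb y y' 32 rBb_norm (by norm_num) (by norm_num) π hπ p1 p2
    (by rw [rBb_none]; norm_num) ?_ (by rw [hn, hn']) (by rw [h0, h0'])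
  intro k
  rw [hpat, hpat']
  have e1 : π k = some 0 ↔ k = some 0 := by
    constructor
    · intro h; rw [← p2] at h; exact π.injective h
    · intro h; rw [h, p2]
  have e2 : π k ∈ O ↔ k ∈ O' := by
    rw [← p3]
    exact Cfsg.Agent.Lib.Helper9.M24X1.smul_mem_iff π k O'
  simp only [e1, e2]

/-! ### the class of 1232 -/

theorem pat1 (y : leechLattice) (hy : sqNorm y.1 = 32) (hd : dotInt rBb.1 y.1 = 16)
    (hn : y.1 none = 1) (h0 : y.1 (some 0) = -1) :
    ∃ P ∈ octads, ∃ p : GolayPt, (none : GolayPt) ∉ P ∧ (some 0 : GolayPt) ∈ P ∧ p ∈ P ∧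
      p ≠ some 0 ∧
      ∀ k, |(m4 rBb y).1 k| = if k = some 0 then 7 else if k = p then 13 else
        if k ∈ P then 3 else 5 := by
  have ht := diff_norm' y hy hd
  have tv : ∀ k, (y - rBb).1 k = y.1 k - rBb.1 k := fun k => rfl
  have tn : (y - rBb).1 none = 0 := by rw [tv, hn, rBb_none]; norm_num
  have t0 : (y - rBb).1 (some 0) = 2 := by rw [tv, h0, rBb_zero]; norm_num
  -- the shape of `y`
  have yshape : cnt y.1 3 = 1 ∧ cnt y.1 1 = 23 := by
    rcases shapes32 y.1 y.2 hy with ⟨hp, -, -⟩ | ⟨hp, -, -, -⟩ | ⟨-, h3, h1⟩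
    · unfold par at hp; rw [hn] at hp; norm_num at hp
    · unfold par at hp; rw [hn] at hp; norm_num at hp
    · exact ⟨h3, h1⟩
  obtain ⟨p, hp3, hpuniq⟩ := cnt_one y.1 3 yshape.1
  have ycov := cover y.1 {1, 3} (by rw [Finset.sum_pair (by norm_num)]; omega)
  have hpn : p ≠ none := by
    intro h; rw [h, hn] at hp3; norm_num at hp3
  have hp0 : p ≠ some 0 := by
    intro h; rw [h, h0] at hp3; norm_num at hp3
  -- the shape of the difference
  rcases shapes32 (y - rBb).1 (y - rBb).2 ht with ⟨-, h4, hz⟩ | ⟨hp, h2, hz, hc⟩ | ⟨hp, -, -⟩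
  · have := cover (y - rBb).1 {0, 4} (by rw [Finset.sum_pair (by norm_num)]; omega) (some 0)
    rw [t0] at this
    simp only [mem_insert, mem_singleton] at this
    norm_num at this
  · have hst := cl_of_two (y - rBb) hp 8 h2 (by omega)
    have tcov := cover (y - rBb).1 {0, 2} (by rw [Finset.sum_pair (by norm_num)]; omega)
    have hpP : p ∈ cl (y - rBb).1 := by
      rw [(hst p).1, tv, rBb_gen p hp0]
      have := tcov p
      rw [tv, rBb_gen p hp0] at this
      simp only [mem_insert, mem_singleton] at this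
      rcases abs_cases (y.1 p) with ⟨a1, a2⟩ | ⟨a1, a2⟩ <;>
        rcases abs_cases (y.1 p - 1) with ⟨b1, b2⟩ | ⟨b1, b2⟩ <;> omega
    refine ⟨cl (y - rBb).1, ⟨cl_mem_Code (y - rBb), hc⟩, p, ?_, ?_, hpP, hp0, fun k => ?_⟩
    · intro h
      have := (hst none).1.mp h
      rw [tn] at this; norm_num at this
    · exact (hst (some 0)).1.mpr (by rw [t0]; rfl)
    · rw [m4_val]
      by_cases hk0 : k = some 0
      · rw [if_pos hk0, hk0, rBb_zero, h0]; rfl
      rw [if_neg hk0, rBb_gen k hk0]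
      have hyk := ycov k
      simp only [mem_insert, mem_singleton] at hyk
      have htk := tcov k
      rw [tv, rBb_gen k hk0] at htk
      simp only [mem_insert, mem_singleton] at htk
      by_cases hkp : k = p
      · rw [if_pos hkp, hkp]
        rw [hkp] at htk
        rcases abs_cases (y.1 p) with ⟨a1, a2⟩ | ⟨a1, a2⟩ <;>
          rcases abs_cases (y.1 p - 1) with ⟨b1, b2⟩ | ⟨b1, b2⟩ <;>
          rcases abs_cases (1 + 4 * y.1 p) with ⟨c1, c2⟩ | ⟨c1, c2⟩ <;> omega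
      rw [if_neg hkp]
      have hk1 : |y.1 k| = 1 := by
        rcases hyk with h | h
        · exact h
        · exact absurd (hpuniq k h) hkp
      by_cases hk : k ∈ cl (y - rBb).1
      · rw [if_pos hk]
        have h2' := (hst k).1.mp hk
        rw [tv, rBb_gen k hk0] at h2'
        rcases abs_cases (y.1 k) with ⟨a1, a2⟩ | ⟨a1, a2⟩ <;>
          rcases abs_cases (y.1 k - 1) with ⟨b1, b2⟩ | ⟨b1, b2⟩ <;>
          rcases abs_cases (1 + 4 * y.1 k) with ⟨c1, c2⟩ | ⟨c1, c2⟩ <;> omega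
      · rw [if_neg hk]
        have h2' := (hst k).2 hk
        rw [tv, rBb_gen k hk0] at h2'
        have : y.1 k = 1 := by omega
        rw [this]; rfl
  · unfold par at hp
    rw [tn] at hp
    norm_num at hp

theorem Q1 (y y' : leechLattice) (hy : sqNorm y.1 = 32) (hd : dotInt rBb.1 y.1 = 16)
    (hn : y.1 none = 1) (h0 : y.1 (some 0) = -1) (hy' : sqNorm y'.1 = 32)
    (hd' : dotInt rBb.1 y'.1 = 16) (hn' : y'.1 none = 1) (h0' : y'.1 (some 0) = -1) :
    ∃ n ∈ Co0, (∀ f, Sup2 f → n f = f) ∧ n rBb = rBb ∧ n y = y' := by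
  obtain ⟨P, hP, p, a1, a2, a3, a4, hpat⟩ := pat1 y hy hd hn h0
  obtain ⟨P', hP', p', a1', a2', a3', a4', hpat'⟩ := pat1 y' hy' hd' hn' h0'
  obtain ⟨π, hπ, p1, p2, p3, p4⟩ := exists_map_flag_out P P' hP hP' a1 a2 a1' a2' p p' a3 a3'
    a4 a4'
  refine relF_decode rBb y y' 32 rBb_norm (by norm_num) (by norm_num) π hπ p1 p2
    (by rw [rBb_none]; norm_num) ?_ (by rw [hn, hn']) (by rw [h0, h0'])
  intro k
  rw [hpat, hpat']
  have e1 : π k = some 0 ↔ k = some 0 := by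
    constructor
    · intro h; rw [← p2] at h; exact π.injective h
    · intro h; rw [h, p2]
  have e2 : π k ∈ P ↔ k ∈ P' := by
    rw [← p3]
    exact Cfsg.Agent.Lib.Helper9.M24X1.smul_mem_iff π k P'
  have e3 : π k = p ↔ k = p' := by
    constructor
    · intro h; rw [← p4] at h; exact π.injective h
    · intro h; rw [h, p4]
  simp only [e1, e2, e3]

/-! ### the class of 462 -/

theorem pat2 (y : leechLattice) (hy : sqNorm y.1 = 32) (hd : dotInt rBb.1 y.1 = 16)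
    (hn : y.1 none = 2) (h0 : y.1 (some 0) = -2) :
    ∃ O ∈ octads, ∃ p : GolayPt, (none : GolayPt) ∈ O ∧ (some 0 : GolayPt) ∈ O ∧ p ∈ O ∧
      p ≠ none ∧ p ≠ some 0 ∧
      ∀ k, |(m4 rBb y).1 k| = if k = some 0 then 11 else if k = p then 7 else
        if k ∈ O then 9 else 1 := by
  have ht := diff_norm' y hy hd
  have tv : ∀ k, (y - rBb).1 k = y.1 k - rBb.1 k := fun k => rfl
  have tn : (y - rBb).1 none = 1 := by rw [tv, hn, rBb_none]; norm_num
  have t0 : (y - rBb).1 (some 0) = 1 := by rw [tv, h0, rBb_zero]; norm_num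
  -- the shape of the difference
  have tshape : cnt (y - rBb).1 3 = 1 ∧ cnt (y - rBb).1 1 = 23 := by
    rcases shapes32 (y - rBb).1 (y - rBb).2 ht with ⟨hp, -, -⟩ | ⟨hp, -, -, -⟩ | ⟨-, h3, h1⟩
    · unfold par at hp; rw [tn] at hp; norm_num at hp
    · unfold par at hp; rw [tn] at hp; norm_num at hp
    · exact ⟨h3, h1⟩
  obtain ⟨p, hp3, hpuniq⟩ := cnt_one (y - rBb).1 3 tshape.1
  have tcov := cover (y - rBb).1 {1, 3} (by rw [Finset.sum_pair (by norm_num)]; omega)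
  have hpn : p ≠ none := by
    intro h; rw [h, tn] at hp3; norm_num at hp3
  have hp0 : p ≠ some 0 := by
    intro h; rw [h, t0] at hp3; norm_num at hp3
  have n2 : |y.1 none| = 2 := by rw [hn]; rfl
  rcases shapes32 y.1 y.2 hy with ⟨-, h4, hz⟩ | ⟨hp, h2, hz, hc⟩ | ⟨hp, -, -⟩
  · have := cover y.1 {0, 4} (by rw [Finset.sum_pair (by norm_num)]; omega) none
    rw [n2] at this
    simp only [mem_insert, mem_singleton] at this
    norm_num at this
  · have hst := cl_of_two y hp 8 h2 (by omega)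
    have ycov := cover y.1 {0, 2} (by rw [Finset.sum_pair (by norm_num)]; omega)
    have hpv : y.1 p = -2 := by
      have e1 := ycov p
      simp only [mem_insert, mem_singleton] at e1
      rw [tv, rBb_gen p hp0] at hp3
      rcases abs_cases (y.1 p) with ⟨a1, a2⟩ | ⟨a1, a2⟩ <;>
        rcases abs_cases (y.1 p - 1) with ⟨b1, b2⟩ | ⟨b1, b2⟩ <;> omega
    refine ⟨cl y.1, ⟨cl_mem_Code y, hc⟩, p, (hst none).1.mpr n2,
      (hst (some 0)).1.mpr (by rw [h0]; rfl), (hst p).1.mpr (by rw [hpv]; rfl), hpn, hp0,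
      fun k => ?_⟩
    rw [m4_val]
    by_cases hk0 : k = some 0
    · rw [if_pos hk0, hk0, rBb_zero, h0]; rfl
    rw [if_neg hk0, rBb_gen k hk0]
    by_cases hkp : k = p
    · rw [if_pos hkp, hkp, hpv]; rfl
    rw [if_neg hkp]
    have htk : |(y - rBb).1 k| = 1 := by
      have := tcov k
      simp only [mem_insert, mem_singleton] at this
      rcases this with h | h
      · exact h
      · exact absurd (hpuniq k h) hkp
    rw [tv, rBb_gen k hk0] at htk
    by_cases hk : k ∈ cl y.1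
    · rw [if_pos hk]
      have h2' := (hst k).1.mp hk
      rcases abs_cases (y.1 k) with ⟨a1, a2⟩ | ⟨a1, a2⟩ <;>
        rcases abs_cases (y.1 k - 1) with ⟨b1, b2⟩ | ⟨b1, b2⟩ <;>
        rcases abs_cases (1 + 4 * y.1 k) with ⟨c1, c2⟩ | ⟨c1, c2⟩ <;> omega
    · rw [if_neg hk, (hst k).2 hk]; rfl
  · unfold par at hp
    rw [hn] at hp
    norm_num at hp

theorem Q2 (y y' : leechLattice) (hy : sqNorm y.1 = 32) (hd : dotInt rBb.1 y.1 = 16)
    (hn : y.1 none = 2) (h0 : y.1 (some 0) = -2) (hy' : sqNorm y'.1 = 32)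
    (hd' : dotInt rBb.1 y'.1 = 16) (hn' : y'.1 none = 2) (h0' : y'.1 (some 0) = -2) :
    ∃ n ∈ Co0, (∀ f, Sup2 f → n f = f) ∧ n rBb = rBb ∧ n y = y' := by
  obtain ⟨O, hO, p, a1, a2, a3, a4, a5, hpat⟩ := pat2 y hy hd hn h0
  obtain ⟨O', hO', p', a1', a2', a3', a4', a5', hpat'⟩ := pat2 y' hy' hd' hn' h0'
  obtain ⟨π, hπ, p1, p2, p3, p4⟩ := exists_map_flag_in O O' hO hO' a1 a2 a1' a2' p p' a3 a3'
    a4 a5 a4' a5'
  refine relF_decode rBb y y' 32 rBb_norm (by norm_num) (by norm_num) π hπ p1 p2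
    (by rw [rBb_none]; norm_num) ?_ (by rw [hn, hn']) (by rw [h0, h0'])
  intro k
  rw [hpat, hpat']
  have e1 : π k = some 0 ↔ k = some 0 := by
    constructor
    · intro h; rw [← p2] at h; exact π.injective h
    · intro h; rw [h, p2]
  have e2 : π k ∈ O ↔ k ∈ O' := by
    rw [← p3]
    exact Cfsg.Agent.Lib.Helper9.M24X1.smul_mem_iff π k O'
  have e3 : π k = p ↔ k = p' := by
    constructor
    · intro h; rw [← p4] at h; exact π.injective h
    · intro h; rw [h, p4]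
  simp only [e1, e2, e3]

/-! ### the general statement -/

/-- the stabiliser of `v`, `w` and `x` is transitive on the vectors among the 2025 having a
given inner product `0`, `8` or `16` with `x` -/
theorem mcl_rank4 (v w x y y' : leechLattice) (hv : sqNorm v.1 = 32) (hw : sqNorm w.1 = 32)
    (hd : dotInt v.1 w.1 = -8) (hx : sqNorm x.1 = 32) (hvx : dotInt v.1 x.1 = 0)
    (hwx : dotInt w.1 x.1 = 16) (hy : sqNorm y.1 = 32) (hvy : dotInt v.1 y.1 = 0)
    (hwy : dotInt w.1 y.1 = 16) (hy' : sqNorm y'.1 = 32) (hvy' : dotInt v.1 y'.1 = 0)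
    (hwy' : dotInt w.1 y'.1 = 16) (d : ℤ) (hd8 : d = 0 ∨ d = 8 ∨ d = 16)
    (hxy : dotInt x.1 y.1 = d) (hxy' : dotInt x.1 y'.1 = d) :
    ∃ g ∈ Co0, g v = v ∧ g w = w ∧ g x = x ∧ g y = y' := by
  obtain ⟨g, hg, g1, g2, g3⟩ := mcl_triple_std v w x hv hw hd hx hvx hwx
  have key : ∀ u : leechLattice, sqNorm u.1 = 32 → dotInt v.1 u.1 = 0 → dotInt w.1 u.1 = 16 →
      dotInt x.1 u.1 = d → sqNorm (g u).1 = 32 ∧ dotInt rBb.1 (g u).1 = 16 ∧
        8 * (g u).1 none = d ∧ (g u).1 (some 0) = -(g u).1 none := by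
    intro u hu hvu hwu hxu
    have e1 : dotInt rBb.1 (g u).1 = 16 := by rw [← g2, dot_pres g hg]; exact hwu
    have e2 : dotInt rA.1 (g u).1 = 0 := by rw [← g1, dot_pres g hg]; exact hvu
    have e3 : dotInt rAc.1 (g u).1 = d := by rw [← g3, dot_pres g hg]; exact hxu
    rw [dot_rA] at e2
    rw [LeechF1.dot_rAc] at e3
    refine ⟨by rw [hg.2, hu], e1, by omega, by omega⟩
  obtain ⟨k1, k2, k3, k4⟩ := key y hy hvy hwy hxy
  obtain ⟨k1', k2', k3', k4'⟩ := key y' hy' hvy' hwy' hxy'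
  obtain ⟨n, hn, nf, ne, ny⟩ : ∃ n ∈ Co0, (∀ f, Sup2 f → n f = f) ∧ n rBb = rBb ∧
      n (g y) = g y' := by
    rcases hd8 with rfl | rfl | rfl
    · exact Q0 (g y) (g y') k1 k2 (by omega) (by omega) k1' k2' (by omega) (by omega)
    · exact Q1 (g y) (g y') k1 k2 (by omega) (by omega) k1' k2' (by omega) (by omega)
    · exact Q2 (g y) (g y') k1 k2 (by omega) (by omega) k1' k2' (by omega) (by omega)
  refine ⟨g⁻¹ * n * g, Co0.mul_mem (Co0.mul_mem (Co0.inv_mem hg) hn) hg, ?_, ?_, ?_, ?_⟩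
  · rw [Equiv.Perm.mul_apply, Equiv.Perm.mul_apply, g1, nf rA sup2_rA, ← g1]; simp
  · rw [Equiv.Perm.mul_apply, Equiv.Perm.mul_apply, g2, ne, ← g2]; simp
  · rw [Equiv.Perm.mul_apply, Equiv.Perm.mul_apply, g3, nf rAc sup2_rAc, ← g3]; simp
  · rw [Equiv.Perm.mul_apply, Equiv.Perm.mul_apply, ny]; simp

end Cfsg.Agent.Lib.Helper9.LeechF3
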