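import Cfsg.Agent.Lib.Helper9.LeechF3

set_option autoImplicit false

/-! Pairs of minimal vectors with inner product `-8`: the orbits of the stabiliser of the pair
and of one of the 2025 attached vectors. -/

namespace Cfsg.Agent.Lib.Helper9.LeechF4

open Cfsg Finset Cfsg.Agent.Lib.Helper4.Leech
  Cfsg.Agent.Lib.Helper9.LeechE4 Cfsg.Agent.Lib.Helper9.LeechE5 Cfsg.Agent.Lib.Helper9.LeechE8
  Cfsg.Agent.Lib.Helper9.LeechF1 Cfsg.Agent.Lib.Helper9.LeechF3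
  Cfsg.Agent.Lib.Helper9.LeechX8 Cfsg.Agent.Lib.Helper9.LeechX11

/-- the orbit of a vector of a class is the class -/
theorem orbit_eq_class (v w x y : leechLattice) (hv : sqNorm v.1 = 32) (hw : sqNorm w.1 = 32)
    (hd : dotInt v.1 w.1 = -8) (hx : sqNorm x.1 = 32) (hvx : dotInt v.1 x.1 = 0)
    (hwx : dotInt w.1 x.1 = 16) (hy : sqNorm y.1 = 32) (hvy : dotInt v.1 y.1 = 0)
    (hwy : dotInt w.1 y.1 = 16) (d : ℤ) (hd8 : d = 0 ∨ d = 8 ∨ d = 16)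
    (hxy : dotInt x.1 y.1 = d) :
    MulAction.orbit ↥(MulAction.stabilizer ↥Co0 v ⊓ MulAction.stabilizer ↥Co0 w ⊓
        MulAction.stabilizer ↥Co0 x) y
      = {y' : leechLattice | sqNorm y'.1 = 32 ∧ dotInt v.1 y'.1 = 0 ∧ dotInt w.1 y'.1 = 16 ∧
          dotInt x.1 y'.1 = d} := by
  ext y'
  rw [MulAction.mem_orbit_iff, Set.mem_setOf_eq]
  constructor
  · rintro ⟨h, rfl⟩
    obtain ⟨⟨g, hg⟩, hmem⟩ := h
    rw [Subgroup.mem_inf, Subgroup.mem_inf, MulAction.mem_stabilizer_iff,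
      MulAction.mem_stabilizer_iff, MulAction.mem_stabilizer_iff] at hmem
    obtain ⟨⟨e1, e2⟩, e3⟩ := hmem
    have e1' : g v = v := e1
    have e2' : g w = w := e2
    have e3' : g x = x := e3
    show sqNorm (g y).1 = 32 ∧ dotInt v.1 (g y).1 = 0 ∧ dotInt w.1 (g y).1 = 16 ∧
      dotInt x.1 (g y).1 = d
    refine ⟨by rw [hg.2, hy], ?_, ?_, ?_⟩
    · have := dot_pres g hg v y
      rw [e1'] at this
      rw [this]; exact hvy
    · have := dot_pres g hg w y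
      rw [e2'] at this
      rw [this]; exact hwy
    · have := dot_pres g hg x y
      rw [e3'] at this
      rw [this]; exact hxy
  · rintro ⟨h1, h2, h3, h4⟩
    obtain ⟨g, hg, g1, g2, g3, g4⟩ := mcl_rank4 v w x y y' hv hw hd hx hvx hwx hy hvy hwy h1 h2 h3
      d hd8 hxy h4
    refine ⟨⟨⟨g, hg⟩, ?_⟩, g4⟩
    rw [Subgroup.mem_inf, Subgroup.mem_inf, MulAction.mem_stabilizer_iff,
      MulAction.mem_stabilizer_iff, MulAction.mem_stabilizer_iff]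
    exact ⟨⟨g1, g2⟩, g3⟩

/-- there is an orbit of each of the three sizes -/
theorem exists_orbit (v w x : leechLattice) (hv : sqNorm v.1 = 32) (hw : sqNorm w.1 = 32)
    (hd : dotInt v.1 w.1 = -8) (hx : sqNorm x.1 = 32) (hvx : dotInt v.1 x.1 = 0)
    (hwx : dotInt w.1 x.1 = 16) (d : ℤ) (n : ℕ) (hn : n ≠ 0) (hd8 : d = 0 ∨ d = 8 ∨ d = 16)
    (hcount : {y : GolayPt → ℤ | y ∈ leechLattice ∧ sqNorm y = 32 ∧ dotInt rA.1 y = 0 ∧
      dotInt Cfsg.Agent.Lib.Helper9.LeechQ2.rBb.1 y = 16 ∧ dotInt rAc.1 y = d}.ncard = n) :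
    ∃ y : leechLattice, (sqNorm y.1 = 32 ∧ dotInt v.1 y.1 = 0 ∧ dotInt w.1 y.1 = 16) ∧
      (MulAction.orbit ↥(MulAction.stabilizer ↥Co0 v ⊓ MulAction.stabilizer ↥Co0 w ⊓
        MulAction.stabilizer ↥Co0 x) y).ncard = n := by
  have hc := mcl_count_d v w x hv hw hd hx hvx hwx d
  rw [hcount] at hc
  have hne : {y : leechLattice | sqNorm y.1 = 32 ∧ dotInt v.1 y.1 = 0 ∧ dotInt w.1 y.1 = 16 ∧
      dotInt x.1 y.1 = d}.Nonempty := by
    apply Set.nonempty_of_ncard_ne_zero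
    rw [hc]; exact hn
  obtain ⟨y, h1, h2, h3, h4⟩ := hne
  refine ⟨y, ⟨h1, h2, h3⟩, ?_⟩
  rw [orbit_eq_class v w x y hv hw hd hx hvx hwx h1 h2 h3 d hd8 h4, hc]

end Cfsg.Agent.Lib.Helper9.LeechF4
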