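import Cfsg.Agent.Lib.Helper9.LeechX11
import Cfsg.Prelude.Def_Spor_Conway

set_option autoImplicit false

/-! Reduction modulo 13 of the automorphisms of the rank-24 lattice, and the induced action of
the stabiliser of `(4, 4, 0, …)` on a space of dimension 23. -/

namespace Cfsg.Agent.Lib.Helper9.LeechGL1

open Cfsg Finset Matrix Cfsg.Agent.Lib.Helper9.LeechM1

abbrev K : Type := ZMod 13

/-- the integer matrix of an automorphism with respect to the vectors `8 e_j` -/
def Aint (f : Equiv.Perm leechLattice) : Matrix GolayPt GolayPt ℤ :=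
  Matrix.of fun i j => (f (E j)).1 i

theorem Aint_apply (f : Equiv.Perm leechLattice) (i j : GolayPt) :
    Aint f i j = (f (E j)).1 i := rfl

theorem Aint_one (i j : GolayPt) : Aint 1 i j = if i = j then 8 else 0 := by
  rw [Aint_apply, Equiv.Perm.one_apply, E_val, Pi.single_apply]

theorem Aint_mul (f g : Equiv.Perm leechLattice) (hf : f ∈ Co0) (i j : GolayPt) :
    ∑ k, Aint f i k * Aint g k j = 8 * Aint (f * g) i j := by
  have h := congrArg (fun w : leechLattice => w.1 i) (apply_eight f hf (g (E j)))
  simp only [AddSubgroup.coe_zsmul, Pi.smul_apply, smul_eq_mul, AddSubgroup.val_finset_sum,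
    Finset.sum_apply] at h
  simp only [Aint_apply, Equiv.Perm.mul_apply]
  rw [h]
  exact Finset.sum_congr rfl (fun k _ => mul_comm _ _)

theorem Aint_orth (f : Equiv.Perm leechLattice) (hf : f ∈ Co0) (j k : GolayPt) :
    ∑ i, Aint f i j * Aint f i k = if j = k then 64 else 0 := by
  have h := Cfsg.Agent.Lib.Helper9.LeechX11.dot_pres f hf (E j) (E k)
  unfold dotInt at h
  simp only [Aint_apply]
  rw [h]
  simp only [E_val, Pi.single_apply]
  by_cases hjk : j = k
  · subst hjk
    simp
  · rw [if_neg hjk]
    apply Finset.sum_eq_zero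
    intro i _
    by_cases hi : i = j
    · rw [if_neg (fun h : i = k => hjk (hi.symm.trans h)), mul_zero]
    · rw [if_neg hi, zero_mul]

theorem Aint_fix (f : Equiv.Perm leechLattice) (hf : f ∈ Co0) (hfu : f Spor.leechU = Spor.leechU)
    (i : GolayPt) : Aint f i none + Aint f i (some 0) = 2 * Spor.vecU i := by
  have h := congrArg (fun w : leechLattice => w.1 i) (apply_eight f hf Spor.leechU)
  simp only [AddSubgroup.coe_zsmul, Pi.smul_apply, smul_eq_mul, AddSubgroup.val_finset_sum,
    Finset.sum_apply] at h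
  rw [hfu] at h
  have h2 : ∑ k, Spor.leechU.1 k * (f (E k)).1 i = 4 * Aint f i none + 4 * Aint f i (some 0) := by
    rw [Fintype.sum_option]
    rw [Finset.sum_eq_single (0 : ZMod 23)]
    · have e1 : Spor.leechU.1 none = 4 := by decide
      have e2 : Spor.leechU.1 (some 0) = 4 := by decide
      rw [e1, e2, Aint_apply, Aint_apply]
    · intro b _ hb
      have : Spor.leechU.1 (some b) = 0 := by
        show Spor.vecU (some b) = 0
        unfold Spor.vecU
        rw [if_neg]
        rintro (h | h)
        · exact absurd h (by simp)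
        · exact hb (Option.some.inj h)
      rw [this, zero_mul]
    · intro h0
      exact absurd (mem_univ _) h0
  rw [h2] at h
  have h3 : Spor.leechU.1 i = Spor.vecU i := rfl
  rw [h3] at h
  linarith

/-! ### reduction modulo 13 -/

/-- the matrix modulo 13 -/
def Mbar (f : Equiv.Perm leechLattice) : Matrix GolayPt GolayPt K :=
  Matrix.of fun i j => 5 * ((Aint f i j : ℤ) : K)

theorem Mbar_apply (f : Equiv.Perm leechLattice) (i j : GolayPt) :
    Mbar f i j = 5 * ((Aint f i j : ℤ) : K) := rfl

theorem k40 : (40 : K) = 1 := by decide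

theorem Mbar_one : Mbar 1 = 1 := by
  ext i j
  rw [Mbar_apply, Aint_one, Matrix.one_apply]
  by_cases h : i = j
  · rw [if_pos h, if_pos h]
    push_cast
    norm_num
    exact k40
  · rw [if_neg h, if_neg h]
    simp

theorem Mbar_mul (f g : Equiv.Perm leechLattice) (hf : f ∈ Co0) :
    Mbar (f * g) = Mbar f * Mbar g := by
  ext i j
  rw [Matrix.mul_apply]
  simp only [Mbar_apply]
  have h := congrArg (fun z : ℤ => (z : K)) (Aint_mul f g hf i j)
  simp only [Int.cast_sum, Int.cast_mul] at h
  have e : ∑ k, 5 * ((Aint f i k : ℤ) : K) * (5 * ((Aint g k j : ℤ) : K)) =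
      25 * ∑ k, ((Aint f i k : ℤ) : K) * ((Aint g k j : ℤ) : K) := by
    rw [Finset.mul_sum]
    exact Finset.sum_congr rfl (fun k _ => by ring)
  rw [e, h]
  have e2 : (25 : K) * 8 = 5 := by decide
  push_cast
  rw [← mul_assoc, e2]

theorem Mbar_orth (f : Equiv.Perm leechLattice) (hf : f ∈ Co0) (j k : GolayPt) :
    ∑ i, Mbar f i j * Mbar f i k = if j = k then 1 else 0 := by
  simp only [Mbar_apply]
  have h := congrArg (fun z : ℤ => (z : K)) (Aint_orth f hf j k)
  simp only [Int.cast_sum, Int.cast_mul] at h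
  have e : ∑ i, 5 * ((Aint f i j : ℤ) : K) * (5 * ((Aint f i k : ℤ) : K)) =
      25 * ∑ i, ((Aint f i j : ℤ) : K) * ((Aint f i k : ℤ) : K) := by
    rw [Finset.mul_sum]
    exact Finset.sum_congr rfl (fun k _ => by ring)
  rw [e, h]
  by_cases hjk : j = k
  · rw [if_pos hjk, if_pos hjk]
    push_cast
    decide
  · rw [if_neg hjk, if_neg hjk]
    simp

/-- the reduction of `(1, 1, 0, …)` -/
def uB : GolayPt → K := fun i => if i = none ∨ i = some 0 then 1 else 0

theorem Mbar_fix (f : Equiv.Perm leechLattice) (hf : f ∈ Co0) (hfu : f Spor.leechU = Spor.leechU)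
    (i : GolayPt) : Mbar f i none + Mbar f i (some 0) = uB i := by
  have h := congrArg (fun z : ℤ => (z : K)) (Aint_fix f hf hfu i)
  simp only [Int.cast_add, Int.cast_mul] at h
  rw [Mbar_apply, Mbar_apply, ← mul_add, h]
  unfold Spor.vecU uB
  by_cases hi : i = none ∨ i = some 0
  · rw [if_pos hi, if_pos hi]
    push_cast
    decide
  · rw [if_neg hi, if_neg hi]
    simp

end Cfsg.Agent.Lib.Helper9.LeechGL1
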