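import Cfsg.Agent.Lib.Helper9.LeechGL1

set_option autoImplicit false

/-! The action on the quotient by the fixed vector, in matrix form. -/

namespace Cfsg.Agent.Lib.Helper9.LeechGL2

open Cfsg Finset Matrix Cfsg.Agent.Lib.Helper9.LeechM1 Cfsg.Agent.Lib.Helper9.LeechGL1

/-- the 23 ordinary points -/
def pt' (j : Fin 23) : GolayPt := some (show ZMod 23 from j)

def Tm : Matrix (Fin 23) GolayPt K :=
  Matrix.of fun k i => (if i = pt' k then 1 else 0) - (if k = 0 ∧ i = none then 1 else 0)

def Sm : Matrix GolayPt (Fin 23) K := Matrix.of fun i j => if i = pt' j then 1 else 0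

def Pm : Matrix GolayPt GolayPt K := Matrix.of fun i i' => if i' = none then uB i else 0

theorem TS : Tm * Sm = 1 := by decide +kernel

theorem ST : Sm * Tm = 1 - Pm := by decide +kernel

theorem TP : Tm * Pm = 0 := by decide +kernel

theorem mul_Sm {α : Type*} (A : Matrix α GolayPt K) (a : α) (j : Fin 23) :
    (A * Sm) a j = A a (pt' j) := by
  rw [Matrix.mul_apply, Finset.sum_eq_single (pt' j)]
  · show A a (pt' j) * (if pt' j = pt' j then 1 else 0) = _
    rw [if_pos rfl, mul_one]
  · intro b _ hb
    show A a b * (if b = pt' j then 1 else 0) = 0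
    rw [if_neg hb, mul_zero]
  · intro h
    exact absurd (mem_univ _) h

theorem Tm_mul {β : Type*} (A : Matrix GolayPt β K) (k : Fin 23) (b : β) :
    (Tm * A) k b = A (pt' k) b - if k = 0 then A none b else 0 := by
  rw [Matrix.mul_apply]
  have e : ∀ i, Tm k i * A i b =
      (if i = pt' k then A i b else 0) - (if i = none then (if k = 0 then A i b else 0) else 0) := by
    intro i
    show ((if i = pt' k then 1 else 0) - (if k = 0 ∧ i = none then 1 else 0)) * A i b = _
    have hp : ∀ k, none ≠ pt' k := fun k => (Option.some_ne_none _).symm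
    by_cases h2 : i = none
    · subst h2
      by_cases h3 : k = 0
      · simp [h3, hp]
      · simp [h3, hp]
    · by_cases h1 : i = pt' k
      · have hq : pt' k ≠ none := Option.some_ne_none _
        simp [h1, hq]
      · simp [h1, h2]
  rw [Finset.sum_congr rfl (fun i _ => e i), Finset.sum_sub_distrib, Finset.sum_ite_eq',
    Finset.sum_ite_eq', if_pos (mem_univ _), if_pos (mem_univ _)]

/-- the induced matrix of degree 23 -/
def Nm (f : Equiv.Perm leechLattice) : Matrix (Fin 23) (Fin 23) K := Tm * Mbar f * Sm

theorem Nm_one : Nm 1 = 1 := by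
  unfold Nm
  rw [Mbar_one, Matrix.mul_one, TS]

theorem Mbar_P (f : Equiv.Perm leechLattice) (hf : f ∈ Co0) (hfu : f Spor.leechU = Spor.leechU) :
    Mbar f * Pm = Pm := by
  ext i i'
  rw [Matrix.mul_apply]
  show ∑ k, Mbar f i k * (if i' = none then uB k else 0) = if i' = none then uB i else 0
  by_cases h : i' = none
  · simp only [if_pos h]
    rw [← Mbar_fix f hf hfu i, Fintype.sum_option, Finset.sum_eq_single (0 : ZMod 23)]
    · have e1 : uB none = 1 := by decide
      have e2 : uB (some 0) = 1 := by decide
      rw [e1, e2, mul_one, mul_one]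
    · intro b _ hb
      have : uB (some b) = 0 := by
        unfold uB
        rw [if_neg]
        rintro (h | h)
        · exact absurd h (by simp)
        · exact hb (Option.some.inj h)
      rw [this, mul_zero]
    · intro h0
      exact absurd (mem_univ _) h0
  · simp only [if_neg h, mul_zero, Finset.sum_const_zero]

theorem Nm_mul (f g : Equiv.Perm leechLattice) (hf : f ∈ Co0)
    (hfu : f Spor.leechU = Spor.leechU) : Nm (f * g) = Nm f * Nm g := by
  unfold Nm
  have e1 : Tm * Mbar f * Sm * (Tm * Mbar g * Sm) = Tm * (Mbar f * (Sm * Tm)) * (Mbar g * Sm) := by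
    simp only [Matrix.mul_assoc]
  rw [e1, ST, Matrix.mul_sub, Matrix.mul_one, Mbar_P f hf hfu, Matrix.mul_sub, TP, sub_zero,
    Mbar_mul f g hf]
  simp only [Matrix.mul_assoc]

end Cfsg.Agent.Lib.Helper9.LeechGL2
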