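import Cfsg.Agent.Lib.Helper9.LeechGL2

set_option autoImplicit false

/-! Faithfulness of the action of degree 23 modulo 13. -/

namespace Cfsg.Agent.Lib.Helper9.LeechGL3

open Cfsg Finset Matrix Cfsg.Agent.Lib.Helper9.LeechM1 Cfsg.Agent.Lib.Helper9.LeechGL1
  Cfsg.Agent.Lib.Helper9.LeechGL2

theorem pt'_zero : pt' 0 = some 0 := rfl

theorem pt'_inj (j k : Fin 23) (h : pt' j = pt' k) : j = k := Option.some.inj h

theorem two_ne : ∀ r : K, r + r = 0 → r = 0 := by decide

/-- an automorphism fixing the vector and acting trivially on the quotient is trivial modulo 13 -/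
theorem Mbar_eq_one (f : Equiv.Perm leechLattice) (hf : f ∈ Co0)
    (hfu : f Spor.leechU = Spor.leechU) (hN : Nm f = 1) : Mbar f = 1 := by
  -- entries of the induced matrix
  have h1 : ∀ k j : Fin 23, Mbar f (pt' k) (pt' j) - (if k = 0 then Mbar f none (pt' j) else 0) =
      if k = j then 1 else 0 := by
    intro k j
    have := congrFun (congrFun hN k) j
    unfold Nm at this
    rw [mul_Sm, Tm_mul, Matrix.one_apply] at this
    exact this
  -- the coefficient along the fixed vector vanishes
  have h2 : ∀ j : Fin 23, Mbar f none (pt' j) = 0 := by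
    intro j
    have e1 : ∑ i, Mbar f i (pt' j) * uB i = if pt' j = none ∨ pt' j = some 0 then 1 else 0 := by
      have : ∀ i, Mbar f i (pt' j) * uB i =
          Mbar f i (pt' j) * Mbar f i none + Mbar f i (pt' j) * Mbar f i (some 0) := by
        intro i
        rw [← Mbar_fix f hf hfu i, mul_add]
      rw [Finset.sum_congr rfl (fun i _ => this i), Finset.sum_add_distrib,
        Mbar_orth f hf, Mbar_orth f hf]
      have hq : pt' j ≠ none := Option.some_ne_none _
      by_cases h0 : pt' j = some 0
      · simp [hq, h0]
      · simp [hq, h0]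
    have e2 : ∑ i, Mbar f i (pt' j) * uB i = Mbar f none (pt' j) + Mbar f (some 0) (pt' j) := by
      rw [Fintype.sum_option, Finset.sum_eq_single (0 : ZMod 23)]
      · have e1 : uB none = 1 := by decide
        have e2 : uB (some 0) = 1 := by decide
        rw [e1, e2, mul_one, mul_one]
      · intro b _ hb
        have : uB (some b) = 0 := by
          unfold uB
          rw [if_neg]
          rintro (h | h)
          · exact absurd h (by simp)
          · exact hb (Option.some.inj h)
        rw [this, mul_zero]
      · intro h0
        exact absurd (mem_univ _) h0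
    have e3 := h1 0 j
    rw [if_pos rfl, pt'_zero] at e3
    rw [e2] at e1
    have hq : pt' j ≠ none := Option.some_ne_none _
    apply two_ne
    by_cases h0 : (0 : Fin 23) = j
    · subst h0
      rw [if_pos rfl] at e3
      rw [if_pos (Or.inr pt'_zero)] at e1
      rw [pt'_zero] at e1 e3 ⊢
      linear_combination e1 - e3
    · rw [if_neg h0] at e3
      have : ¬ (pt' j = none ∨ pt' j = some 0) := by
        rintro (h | h)
        · exact hq h
        · exact h0 (pt'_inj _ _ (h.trans pt'_zero.symm)).symm
      rw [if_neg this] at e1
      linear_combination e1 - e3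
  -- columns of the ordinary points
  have h3 : ∀ (i : GolayPt) (j : Fin 23), Mbar f i (pt' j) = if i = pt' j then 1 else 0 := by
    intro i j
    cases i with
    | none =>
      rw [h2 j, if_neg (show (none : GolayPt) ≠ pt' j from (Option.some_ne_none _).symm)]
    | some k0 =>
      obtain ⟨k, hk⟩ : ∃ k : Fin 23, pt' k = some k0 := ⟨(show Fin 23 from k0), rfl⟩
      rw [← hk]
      have e := h1 k j
      rw [h2 j] at e
      have : (if k = 0 then (0 : K) else 0) = 0 := by split_ifs <;> rfl
      rw [this, sub_zero] at e
      show Mbar f (pt' k) (pt' j) = _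
      rw [e]
      by_cases hkj : k = j
      · rw [if_pos hkj, if_pos (by rw [hkj])]
      · rw [if_neg hkj, if_neg (fun h => hkj (pt'_inj _ _ h))]
  ext i i'
  rw [Matrix.one_apply]
  cases i' with
  | none =>
    have e := Mbar_fix f hf hfu i
    have e0 := h3 i 0
    rw [pt'_zero] at e0
    rw [e0] at e
    unfold uB at e
    by_cases hi : i = none
    · subst hi
      rw [if_pos rfl]
      rw [if_neg (by simp), if_pos (Or.inl rfl), add_zero] at e
      exact e
    · rw [if_neg hi]
      by_cases hi0 : i = some 0
      · rw [if_pos hi0, if_pos (Or.inr hi0)] at e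
        linear_combination e
      · rw [if_neg hi0, if_neg (by tauto), add_zero] at e
        exact e
  | some k0 =>
    exact h3 i (show Fin 23 from k0)

end Cfsg.Agent.Lib.Helper9.LeechGL3
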