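import Cfsg.Agent.Lib.Helper9.LeechGL3

set_option autoImplicit false

/-! An automorphism that is trivial modulo 13 is trivial; the embedding of the stabiliser. -/

namespace Cfsg.Agent.Lib.Helper9.LeechGL4

open Cfsg Finset Matrix Cfsg.Agent.Lib.Helper9.LeechM1 Cfsg.Agent.Lib.Helper9.LeechGL1
  Cfsg.Agent.Lib.Helper9.LeechGL2 Cfsg.Agent.Lib.Helper9.LeechGL3

theorem k_eight : ∀ a d : K, 5 * a = d → a = 8 * d := by decide

theorem sqNorm_E (j : GolayPt) : sqNorm (E j).1 = 64 := by
  unfold sqNorm
  rw [Finset.sum_eq_single j]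
  · rw [E_val, Pi.single_eq_same]; norm_num
  · intro b _ hb
    rw [E_val, Pi.single_eq_of_ne hb]; norm_num
  · intro h
    exact absurd (mem_univ _) h

theorem eq_one_of_Mbar (f : Equiv.Perm leechLattice) (hf : f ∈ Co0) (hM : Mbar f = 1) :
    f = 1 := by
  -- congruences
  have hc : ∀ i j, (13 : ℤ) ∣ Aint f i j - (if i = j then 8 else 0) := by
    intro i j
    have h := congrFun (congrFun hM i) j
    rw [Mbar_apply, Matrix.one_apply] at h
    have h2 := k_eight _ _ h
    have h3 : ((Aint f i j - (if i = j then 8 else 0) : ℤ) : ZMod 13) = 0 := by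
      push_cast
      rw [h2]
      by_cases hij : i = j
      · rw [if_pos hij, if_pos hij]; push_cast; ring
      · rw [if_neg hij, if_neg hij]; push_cast; ring
    exact_mod_cast (ZMod.intCast_zmod_eq_zero_iff_dvd _ 13).mp h3
  -- norms
  have hn : ∀ j, ∑ i, Aint f i j ^ 2 = 64 := by
    intro j
    have := hf.2 (E j)
    rw [sqNorm_E] at this
    exact this
  have hb : ∀ i j, Aint f i j ^ 2 ≤ 64 := by
    intro i j
    rw [← hn j]
    exact Finset.single_le_sum (f := fun i => Aint f i j ^ 2) (fun i _ => sq_nonneg _) (mem_univ i)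
  have hoff : ∀ i j, i ≠ j → Aint f i j = 0 := by
    intro i j hij
    obtain ⟨c, hc⟩ := hc i j
    rw [if_neg hij, sub_zero] at hc
    have := hb i j
    have h1 : Aint f i j ≤ 8 := by nlinarith
    have h2 : -8 ≤ Aint f i j := by nlinarith
    omega
  have hdiag : ∀ j, Aint f j j = 8 := by
    intro j
    have h1 := hn j
    rw [Finset.sum_eq_single j] at h1
    · obtain ⟨c, hc⟩ := hc j j
      rw [if_pos rfl] at hc
      have h3 : Aint f j j ≤ 8 := by nlinarith
      have h4 : -8 ≤ Aint f j j := by nlinarith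
      have h5 : Aint f j j = 8 ∨ Aint f j j = -5 := by omega
      rcases h5 with h5 | h5
      · exact h5
      · rw [h5] at h1; norm_num at h1
    · intro b _ hb
      rw [hoff b j hb]; norm_num
    · intro h
      exact absurd (mem_univ _) h
  have hE : ∀ j, f (E j) = E j := by
    intro j
    apply Subtype.ext
    funext i
    rw [E_val, Pi.single_apply]
    by_cases hij : i = j
    · rw [if_pos hij, hij]; exact hdiag j
    · rw [if_neg hij]; exact hoff i j hij
  apply Equiv.ext
  intro v
  rw [Equiv.Perm.one_apply]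
  have h := apply_eight f hf v
  rw [Finset.sum_congr rfl (fun i _ => by rw [hE i]), ← eight_smul] at h
  apply Subtype.ext
  funext i
  have h2 := congrArg (fun w : leechLattice => w.1 i) h
  simp only [AddSubgroup.coe_zsmul, Pi.smul_apply, smul_eq_mul] at h2
  linarith

theorem fix_u (g : ↥Spor.Co2) : g.1 Spor.leechU = Spor.leechU := by
  have h : g.1 ∈ MulAction.stabilizer (Equiv.Perm leechLattice) Spor.leechU := g.2.2
  exact MulAction.mem_stabilizer_iff.mp h

/-- the representation of degree 23 modulo 13 -/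
noncomputable def rho : ↥Spor.Co2 →* Matrix (Fin 23) (Fin 23) K where
  toFun g := Nm g.1
  map_one' := Nm_one
  map_mul' g h := Nm_mul g.1 h.1 g.2.1 (fix_u g)

theorem rho_inj : Function.Injective rho.toHomUnits := by
  rw [injective_iff_map_eq_one]
  intro g hg
  have h1 : Nm g.1 = 1 := by
    have := congrArg Units.val hg
    exact this
  have hu : g.1 Spor.leechU = Spor.leechU := fix_u g
  have h2 := Mbar_eq_one g.1 g.2.1 hu h1
  have h3 := eq_one_of_Mbar g.1 g.2.1 h2
  exact Subtype.ext h3

theorem embed : ∃ f : ↥Spor.Co2 →* GL (Fin 23) (ZMod 13), Function.Injective f :=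
  ⟨rho.toHomUnits, rho_inj⟩

end Cfsg.Agent.Lib.Helper9.LeechGL4
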