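import Cfsg.Agent.Lib.Helper9.M24X1

set_option autoImplicit false

namespace Cfsg.Agent.Lib.Helper9.M24X8

open Cfsg Finset Cfsg.Agent.Lib.Helper9.Golay1 Cfsg.Agent.Lib.Helper9.GolayQR1
  Cfsg.Agent.Lib.Helper9.M24T1 Cfsg.Agent.Lib.Helper9.M24T3 Cfsg.Agent.Lib.Helper9.M24T8
  Cfsg.Agent.Lib.Helper9.M24T9
  Cfsg.Agent.Lib.Helper9.M24U1 Cfsg.Agent.Lib.Helper9.M24U2 Cfsg.Agent.Lib.Helper9.M24U3
  Cfsg.Agent.Lib.Helper9.M24U4 Cfsg.Agent.Lib.Helper9.M24U6 Cfsg.Agent.Lib.Helper9.M24X1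
open scoped Pointwise

/-- generator `I1` -/
def I1 : Equiv.Perm GolayPt :=
  tperm [3, 2, 0, 14, 4, 1, 19, 18, 6, 7, 11, 20, 16, 8, 17, 15, 21, 5, 12, 10, 13, 22, 9, 23]
    [2, 5, 1, 0, 4, 17, 8, 9, 13, 22, 19, 10, 18, 20, 3, 15, 12, 14, 7, 6, 11, 16, 21, 23] (by decide +kernel) (by decide +kernel)

theorem I1_mem : I1 ∈ M24 := tperm_mem _ _ _ _ (by decide +kernel) (by decide +kernel)

theorem I1_smul (m : ℕ) : I1 • M m = M (pull [2, 5, 1, 0, 4, 17, 8, 9, 13, 22, 19, 10, 18, 20, 3, 15, 12, 14, 7, 6, 11, 16, 21, 23] m) :=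
  tperm_smul_M _ _ _ _ (by decide +kernel) m

theorem I1_stab : I1 ∈ stabC [23, 4] [oMask] := by
  exact tperm_mem_stabC _ _ _ _ (by decide +kernel) (by decide +kernel) (by decide +kernel)
    [23, 4] [oMask] (by decide +kernel) (by decide +kernel)

/-- generator `I2` -/
def I2 : Equiv.Perm GolayPt :=
  tperm [3, 17, 1, 0, 4, 14, 12, 18, 19, 11, 8, 16, 22, 7, 5, 9, 21, 2, 6, 10, 15, 20, 13, 23]
    [3, 2, 17, 0, 4, 14, 18, 13, 10, 15, 19, 9, 6, 22, 5, 20, 11, 1, 7, 8, 21, 16, 12, 23] (by decide +kernel) (by decide +kernel)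

theorem I2_mem : I2 ∈ M24 := tperm_mem _ _ _ _ (by decide +kernel) (by decide +kernel)

theorem I2_smul (m : ℕ) : I2 • M m = M (pull [3, 2, 17, 0, 4, 14, 18, 13, 10, 15, 19, 9, 6, 22, 5, 20, 11, 1, 7, 8, 21, 16, 12, 23] m) :=
  tperm_smul_M _ _ _ _ (by decide +kernel) m

theorem I2_stab : I2 ∈ stabC [23, 4] [oMask] := by
  exact tperm_mem_stabC _ _ _ _ (by decide +kernel) (by decide +kernel) (by decide +kernel)
    [23, 4] [oMask] (by decide +kernel) (by decide +kernel)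

/-- the inverse tables of the generators -/
def tabsI : List (List ℕ) :=
  [[2, 5, 1, 0, 4, 17, 8, 9, 13, 22, 19, 10, 18, 20, 3, 15, 12, 14, 7, 6, 11, 16, 21, 23],
    [3, 2, 17, 0, 4, 14, 18, 13, 10, 15, 19, 9, 6, 22, 5, 20, 11, 1, 7, 8, 21, 16, 12, 23]]

theorem htabsI : ∀ t ∈ tabsI, ∃ h ∈ stabC [23, 4] [oMask], ∀ m, h • M m = M (pull t m) := by
  intro t ht
  simp only [tabsI, List.mem_cons, List.not_mem_nil, or_false] at ht
  rcases ht with rfl | rfl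
  · exact ⟨I1, I1_stab, I1_smul⟩
  · exact ⟨I2, I2_stab, I2_smul⟩

set_option maxRecDepth 100000 in
/-- orbit certificate: the octads through infinity avoiding 4 meeting the standard octad in 2 points -/
def certI2 : List (ℕ × ℕ) :=
  [(0, 0), (0, 0), (0, 0), (0, 0), (0, 0), (0, 0), (1, 0), (0, 0), (0, 0), (0, 0), (0, 0), (0, 0), (0,
    0), (1, 0), (0, 0), (0, 0), (0, 0), (0, 0), (0, 0), (0, 0), (1, 1), (0, 0), (0, 0), (0, 0), (0, 0),
    (0, 0), (0, 0), (1, 0), (0, 0), (0, 0), (0, 0), (0, 0), (0, 0), (0, 0), (1, 1), (0, 0), (0, 0), (0,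
    0), (0, 0), (0, 0), (0, 0), (1, 4), (0, 0), (0, 0), (0, 0), (0, 0), (0, 0), (0, 0), (1, 1), (0, 0),
    (0, 0), (0, 0), (0, 0), (0, 0), (0, 0), (1, 6), (0, 0), (0, 0), (0, 0), (0, 0), (0, 0), (0, 0), (1,
    3), (0, 0), (0, 0), (0, 0), (0, 0), (0, 0), (0, 0)]

/-- the octads through infinity avoiding 4 meeting the standard octad in 2 points -/
def clsI2 : List ℕ := octadLit.filter fun m => m.testBit 23 && !m.testBit 4 && decide (wt24 (m &&& oMask) = 2)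

set_option maxRecDepth 100000 in
theorem clsI2_check :
    growK tabsI certI2 [11548936] (fun L => subCheck clsI2 L) = true := by
  decide +kernel

theorem transI2 : ∀ m ∈ clsI2, ∀ m' ∈ clsI2, ∃ g ∈ stabC [23, 4] [oMask], g • M m = M m' :=
  trans_of_cert' (stabC [23, 4] [oMask]) tabsI htabsI 11548936 certI2 clsI2
    (fun m hm => octadLit_reprod m (List.mem_filter.mp hm).1) clsI2_check

set_option maxRecDepth 100000 in
/-- orbit certificate: the octads through infinity avoiding 4 meeting the standard octad in 4 points -/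
def certI4 : List (ℕ × ℕ) :=
  [(0, 0), (0, 0), (0, 0), (0, 0), (0, 0), (0, 0), (1, 0), (0, 0), (0, 0), (0, 0), (0, 0), (0, 0), (0,
    0), (1, 0), (0, 0), (0, 0), (0, 0), (0, 0), (0, 0), (0, 0), (1, 1), (0, 0), (0, 0), (0, 0), (0, 0),
    (0, 0), (0, 0), (1, 0), (0, 0), (0, 0), (0, 0), (0, 0), (0, 0), (0, 0), (1, 1), (0, 0), (0, 0), (0,
    0), (0, 0), (0, 0), (0, 0), (1, 0), (0, 0), (0, 0), (0, 0), (0, 0), (0, 0), (0, 0), (1, 1), (0, 0),
    (0, 0), (0, 0), (0, 0), (0, 0), (0, 0), (1, 0), (0, 0), (0, 0), (0, 0), (0, 0), (0, 0), (0, 0), (1,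
    1), (0, 0), (0, 0), (0, 0), (0, 0), (0, 0), (0, 0), (1, 0), (0, 0), (0, 0), (0, 0), (0, 0), (0, 0),
    (0, 0), (1, 1), (0, 0), (0, 0), (0, 0), (0, 0), (0, 0), (0, 0), (1, 3), (0, 0), (0, 0), (0, 0), (0,
    0), (0, 0), (0, 0), (1, 2), (0, 0), (0, 0), (0, 0), (0, 0), (0, 0), (0, 0), (1, 0), (0, 0), (0, 0),
    (0, 0), (0, 0), (0, 0), (0, 0)]

/-- the octads through infinity avoiding 4 meeting the standard octad in 4 points -/
def clsI4 : List ℕ := octadLit.filter fun m => m.testBit 23 && !m.testBit 4 && decide (wt24 (m &&& oMask) = 4)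

set_option maxRecDepth 100000 in
theorem clsI4_check :
    growK tabsI certI4 [9748745] (fun L => subCheck clsI4 L) = true := by
  decide +kernel

theorem transI4 : ∀ m ∈ clsI4, ∀ m' ∈ clsI4, ∃ g ∈ stabC [23, 4] [oMask], g • M m = M m' :=
  trans_of_cert' (stabC [23, 4] [oMask]) tabsI htabsI 9748745 certI4 clsI4
    (fun m hm => octadLit_reprod m (List.mem_filter.mp hm).1) clsI4_check

end Cfsg.Agent.Lib.Helper9.M24X8
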