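import Cfsg.Agent.Lib.Helper9.M24X1

set_option autoImplicit false

namespace Cfsg.Agent.Lib.Helper9.M24X9

open Cfsg Finset Cfsg.Agent.Lib.Helper9.Golay1 Cfsg.Agent.Lib.Helper9.GolayQR1
  Cfsg.Agent.Lib.Helper9.M24T1 Cfsg.Agent.Lib.Helper9.M24T3 Cfsg.Agent.Lib.Helper9.M24T8
  Cfsg.Agent.Lib.Helper9.M24T9
  Cfsg.Agent.Lib.Helper9.M24U1 Cfsg.Agent.Lib.Helper9.M24U2 Cfsg.Agent.Lib.Helper9.M24U3
  Cfsg.Agent.Lib.Helper9.M24U4 Cfsg.Agent.Lib.Helper9.M24U6 Cfsg.Agent.Lib.Helper9.M24X1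
open scoped Pointwise

/-- generator `J1` -/
def J1 : Equiv.Perm GolayPt :=
  tperm [0, 5, 17, 14, 18, 2, 20, 15, 16, 22, 4, 7, 6, 9, 3, 21, 10, 1, 13, 11, 19, 12, 8, 23]
    [0, 17, 5, 14, 10, 1, 12, 11, 22, 13, 16, 19, 21, 18, 3, 7, 8, 2, 4, 20, 6, 15, 9, 23] (by decide +kernel) (by decide +kernel)

theorem J1_mem : J1 ∈ M24 := tperm_mem _ _ _ _ (by decide +kernel) (by decide +kernel)

theorem J1_smul (m : ℕ) : J1 • M m = M (pull [0, 17, 5, 14, 10, 1, 12, 11, 22, 13, 16, 19, 21, 18, 3, 7, 8, 2, 4, 20, 6, 15, 9, 23] m) :=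
  tperm_smul_M _ _ _ _ (by decide +kernel) m

theorem J1_stab : J1 ∈ stabC [23, 0] [oMask] := by
  exact tperm_mem_stabC _ _ _ _ (by decide +kernel) (by decide +kernel) (by decide +kernel)
    [23, 0] [oMask] (by decide +kernel) (by decide +kernel)

/-- generator `J2` -/
def J2 : Equiv.Perm GolayPt :=
  tperm [0, 14, 3, 2, 6, 1, 8, 15, 16, 12, 10, 13, 21, 7, 17, 11, 4, 5, 19, 18, 9, 20, 22, 23]
    [0, 5, 3, 2, 16, 17, 4, 13, 6, 20, 10, 15, 9, 11, 1, 7, 8, 14, 19, 18, 21, 12, 22, 23] (by decide +kernel) (by decide +kernel)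

theorem J2_mem : J2 ∈ M24 := tperm_mem _ _ _ _ (by decide +kernel) (by decide +kernel)

theorem J2_smul (m : ℕ) : J2 • M m = M (pull [0, 5, 3, 2, 16, 17, 4, 13, 6, 20, 10, 15, 9, 11, 1, 7, 8, 14, 19, 18, 21, 12, 22, 23] m) :=
  tperm_smul_M _ _ _ _ (by decide +kernel) m

theorem J2_stab : J2 ∈ stabC [23, 0] [oMask] := by
  exact tperm_mem_stabC _ _ _ _ (by decide +kernel) (by decide +kernel) (by decide +kernel)
    [23, 0] [oMask] (by decide +kernel) (by decide +kernel)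

/-- the inverse tables of the generators -/
def tabsJ : List (List ℕ) :=
  [[0, 17, 5, 14, 10, 1, 12, 11, 22, 13, 16, 19, 21, 18, 3, 7, 8, 2, 4, 20, 6, 15, 9, 23],
    [0, 5, 3, 2, 16, 17, 4, 13, 6, 20, 10, 15, 9, 11, 1, 7, 8, 14, 19, 18, 21, 12, 22, 23]]

theorem htabsJ : ∀ t ∈ tabsJ, ∃ h ∈ stabC [23, 0] [oMask], ∀ m, h • M m = M (pull t m) := by
  intro t ht
  simp only [tabsJ, List.mem_cons, List.not_mem_nil, or_false] at ht
  rcases ht with rfl | rfl
  · exact ⟨J1, J1_stab, J1_smul⟩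
  · exact ⟨J2, J2_stab, J2_smul⟩

set_option maxRecDepth 100000 in
/-- orbit certificate: the octads through infinity and 0 meeting the standard octad in 2 points -/
def certJ2 : List (ℕ × ℕ) :=
  [(0, 0), (0, 0), (0, 0), (0, 0), (0, 0), (0, 0), (0, 0), (1, 3), (0, 0), (0, 0), (0, 0), (0, 0), (0,
    0), (0, 0), (0, 0)]

/-- the octads through infinity and 0 meeting the standard octad in 2 points -/
def clsJ2 : List ℕ := octadLit.filter fun m => m.testBit 23 && m.testBit 0 && decide (wt24 (m &&& oMask) = 2)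

set_option maxRecDepth 100000 in
theorem clsJ2_check :
    growK tabsJ certJ2 [12325377] (fun L => subCheck clsJ2 L) = true := by
  decide +kernel

theorem transJ2 : ∀ m ∈ clsJ2, ∀ m' ∈ clsJ2, ∃ g ∈ stabC [23, 0] [oMask], g • M m = M m' :=
  trans_of_cert' (stabC [23, 0] [oMask]) tabsJ htabsJ 12325377 certJ2 clsJ2
    (fun m hm => octadLit_reprod m (List.mem_filter.mp hm).1) clsJ2_check

set_option maxRecDepth 100000 in
/-- orbit certificate: the octads through infinity and 0 meeting the standard octad in 4 points -/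
def certJ4 : List (ℕ × ℕ) :=
  [(0, 0), (0, 0), (0, 0), (0, 0), (0, 0), (0, 0), (0, 0), (1, 0), (0, 0), (0, 0), (0, 0), (0, 0), (0,
    0), (0, 0), (0, 0), (1, 2), (0, 0), (1, 1), (0, 0), (0, 0), (0, 0), (1, 0), (0, 0), (0, 0), (0, 0),
    (0, 0), (0, 0), (0, 0), (0, 0), (1, 0), (0, 0), (0, 0), (0, 0), (0, 0), (0, 0), (0, 0), (0, 0), (1,
    1), (0, 0), (0, 0), (0, 0), (0, 0), (0, 0), (0, 0), (0, 0), (1, 1), (0, 0), (0, 0), (0, 0), (0, 0),
    (0, 0), (0, 0), (0, 0), (1, 0), (0, 0), (0, 0), (0, 0), (1, 24), (0, 0)]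

/-- the octads through infinity and 0 meeting the standard octad in 4 points -/
def clsJ4 : List ℕ := octadLit.filter fun m => m.testBit 23 && m.testBit 0 && decide (wt24 (m &&& oMask) = 4)

set_option maxRecDepth 100000 in
theorem clsJ4_check :
    growK tabsJ certJ4 [8391797] (fun L => subCheck clsJ4 L) = true := by
  decide +kernel

theorem transJ4 : ∀ m ∈ clsJ4, ∀ m' ∈ clsJ4, ∃ g ∈ stabC [23, 0] [oMask], g • M m = M m' :=
  trans_of_cert' (stabC [23, 0] [oMask]) tabsJ htabsJ 8391797 certJ4 clsJ4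
    (fun m hm => octadLit_reprod m (List.mem_filter.mp hm).1) clsJ4_check

end Cfsg.Agent.Lib.Helper9.M24X9
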