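import Cfsg.Agent.Lib.Helper9.M24X7
import Cfsg.Agent.Lib.Helper9.M24X8
import Cfsg.Agent.Lib.Helper9.M24X9
import Cfsg.Agent.Lib.Helper9.M24X4

set_option autoImplicit false

namespace Cfsg.Agent.Lib.Helper9.M24X10

open Cfsg Finset Cfsg.Agent.Lib.Helper9.Golay1 Cfsg.Agent.Lib.Helper9.GolayQR1
  Cfsg.Agent.Lib.Helper9.GolayQR5
  Cfsg.Agent.Lib.Helper9.M24T1 Cfsg.Agent.Lib.Helper9.M24T3 Cfsg.Agent.Lib.Helper9.M24T5
  Cfsg.Agent.Lib.Helper9.M24T6 Cfsg.Agent.Lib.Helper9.M24T7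
  Cfsg.Agent.Lib.Helper9.M24T8 Cfsg.Agent.Lib.Helper9.M24T9
  Cfsg.Agent.Lib.Helper9.M24U1 Cfsg.Agent.Lib.Helper9.M24U2 Cfsg.Agent.Lib.Helper9.M24U3
  Cfsg.Agent.Lib.Helper9.M24U4 Cfsg.Agent.Lib.Helper9.M24U5 Cfsg.Agent.Lib.Helper9.M24U6
  Cfsg.Agent.Lib.Helper9.M24V2 Cfsg.Agent.Lib.Helper9.M24X1 Cfsg.Agent.Lib.Helper9.M24X2
  Cfsg.Agent.Lib.Helper9.M24X4
  Cfsg.Agent.Lib.Helper9.M24X7 Cfsg.Agent.Lib.Helper9.M24X8 Cfsg.Agent.Lib.Helper9.M24X9
open scoped Pointwise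

/-- `M24` is 2-transitive, in explicit form -/
theorem exists_map_pair (p q p' q' : GolayPt) (hpq : p ≠ q) (hpq' : p' ≠ q') :
    ∃ t ∈ M24, t p = p' ∧ t q = q' := by
  have key : ∀ a b : GolayPt, a ≠ b → ∃ g ∈ M24, g none = a ∧ g (some 0) = b := by
    intro a b hab
    obtain ⟨g, hg, h⟩ := exists_mapn 2 (by omega) (fun i => if i = 0 then a else b) (by
      intro i hi j hj hij
      by_contra hne
      have : (i = 0 ∧ j = 1) ∨ (i = 1 ∧ j = 0) := by omega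
      rcases this with ⟨rfl, rfl⟩ | ⟨rfl, rfl⟩
      · exact hab (by simpa using hij)
      · exact hab (by simpa using hij.symm))
    exact ⟨g, hg, h 0 (by omega), h 1 (by omega)⟩
  obtain ⟨g, hg, h0, h1⟩ := key p q hpq
  obtain ⟨g', hg', h0', h1'⟩ := key p' q' hpq'
  refine ⟨g' * g⁻¹, M24.mul_mem hg' (M24.inv_mem hg), ?_, ?_⟩
  · rw [Equiv.Perm.mul_apply, ← h0, Chain1.inv_apply_self', h0']
  · rw [Equiv.Perm.mul_apply, ← h1, Chain1.inv_apply_self', h1']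

theorem lenHa : clsHa.length = 176 := by decide +kernel
theorem lenI2 : clsI2.length = 70 := by decide +kernel
theorem lenI4 : clsI4.length = 105 := by decide +kernel
theorem lenJ2 : clsJ2.length = 16 := by decide +kernel
theorem lenJ4 : clsJ4.length = 60 := by decide +kernel

theorem bit_of_notMem (m i : ℕ) (h : unidx i ∉ M m) (hi : i < 24) : m.testBit i = false := by
  rw [mem_M, idx_unidx i hi] at h
  simpa using h

theorem bit_of_mem (m i : ℕ) (h : unidx i ∈ M m) (hi : i < 24) : m.testBit i = true := by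
  rw [mem_M, idx_unidx i hi] at h
  exact h

/-! ### octads through one point avoiding another -/

theorem count_pq_std :
    {x : Finset GolayPt | x ∈ octads ∧ (none : GolayPt) ∈ x ∧ (some 4 : GolayPt) ∉ x}.ncard
      = 176 := by
  rw [← lenHa]
  apply ncard_class octadLit octadLit_nodup octadLit_lt octads mem_octads_iff'
    (fun x => (none : GolayPt) ∈ x ∧ (some 4 : GolayPt) ∉ x)
  intro m _
  rw [mem_M, mem_M]
  change (m.testBit 23 = true ∧ ¬ (m.testBit 4 = true)) ↔ _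
  simp

theorem count_pq (p q : GolayPt) (hpq : p ≠ q) :
    {x : Finset GolayPt | (x ∈ octads ∧ p ∈ x ∧ q ∉ x)}.ncard = 176 := by
  obtain ⟨t, ht, htp, htq⟩ := exists_map_pair p q none (some 4) hpq (by decide)
  have htinv : t⁻¹ ∈ M24 := M24.inv_mem ht
  rw [← count_pq_std]
  apply ncard_smul t⁻¹ octads (fun s hs => smul_octad_mem _ htinv s hs)
    (fun s hs => by rw [inv_inv]; exact smul_octad_mem _ ht s hs) (fun s => p ∈ s ∧ q ∉ s)
  intro s
  rw [mem_inv_smul, mem_inv_smul, htp, htq]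

theorem trans_pq_std (o o' : Finset GolayPt) (ho : o ∈ octads) (ho' : o' ∈ octads)
    (hn : (none : GolayPt) ∈ o) (hq : (some 4 : GolayPt) ∉ o) (hn' : (none : GolayPt) ∈ o')
    (hq' : (some 4 : GolayPt) ∉ o') : ∃ g ∈ stabC [23, 4] [], g • o = o' := by
  obtain ⟨m, hm, rfl⟩ := (mem_octads_iff' o).mp ho
  obtain ⟨m', hm', rfl⟩ := (mem_octads_iff' o').mp ho'
  have b1 := bit_of_mem m 23 hn (by omega)
  have b2 := bit_of_notMem m 4 hq (by omega)
  have b1' := bit_of_mem m' 23 hn' (by omega)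
  have b2' := bit_of_notMem m' 4 hq' (by omega)
  exact transHa m (List.mem_filter.mpr ⟨hm, by simp [b1, b2]⟩) m'
    (List.mem_filter.mpr ⟨hm', by simp [b1', b2']⟩)

theorem trans_pq (p q : GolayPt) (hpq : p ≠ q) (o o' : Finset GolayPt)
    (ho : o ∈ octads ∧ p ∈ o ∧ q ∉ o) (ho' : o' ∈ octads ∧ p ∈ o' ∧ q ∉ o') :
    ∃ g : Equiv.Perm GolayPt, g ∈ M24 ∧ g p = p ∧ g q = q ∧ g • o = o' := by
  obtain ⟨t, ht, htp, htq⟩ := exists_map_pair p q none (some 4) hpq (by decide)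
  have htinv : t⁻¹ ∈ M24 := M24.inv_mem ht
  obtain ⟨g, hg, hgo⟩ := trans_pq_std (t • o) (t • o') (smul_octad_mem t ht o ho.1)
    (smul_octad_mem t ht o' ho'.1) (by rw [← htp, smul_mem_iff]; exact ho.2.1)
    (by rw [← htq, smul_mem_iff]; exact ho.2.2) (by rw [← htp, smul_mem_iff]; exact ho'.2.1)
    (by rw [← htq, smul_mem_iff]; exact ho'.2.2)
  obtain ⟨hgM, hgx, -⟩ := (mem_stabC _ _ g).mp hg
  have hgp : g none = none := hgx 23 (by simp)
  have hgq : g (some 4) = some 4 := hgx 4 (by simp)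
  refine ⟨t⁻¹ * g * t, M24.mul_mem (M24.mul_mem htinv hgM) ht, ?_, ?_, ?_⟩
  · rw [Equiv.Perm.mul_apply, Equiv.Perm.mul_apply, htp, hgp, ← htp, Chain1.inv_apply_self']
  · rw [Equiv.Perm.mul_apply, Equiv.Perm.mul_apply, htq, hgq, ← htq, Chain1.inv_apply_self']
  · rw [mul_smul, mul_smul, hgo, inv_smul_smul]

/-- standard position for a point in an octad and a point outside it -/
theorem exists_std_pqo (p q : GolayPt) (o : Finset GolayPt) (ho : o ∈ octads) (hp : p ∈ o)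
    (hq : q ∉ o) : ∃ t ∈ M24, t • o = O8 ∧ t p = none ∧ t q = some 4 := by
  obtain ⟨t1, ht1, h1o, h1p⟩ := exists_std_flag p o ho hp
  have hq1 : t1 q ∉ L8 := by
    rw [← mem_O8, ← h1o, smul_mem_iff]
    exact hq
  obtain ⟨a1, a2, a3, a4, ha⟩ := eprod_cover _ hq1
  have hmem := eprod_mem a1 a2 a3 a4
  refine ⟨(eprod a1 a2 a3 a4)⁻¹ * t1, M24.mul_mem (M24.inv_mem hmem.1) ht1, ?_, ?_, ?_⟩
  · rw [mul_smul, h1o, inv_smul_eq_iff, eprod_smul_O8]
  · rw [Equiv.Perm.mul_apply, h1p, Equiv.Perm.inv_eq_iff_eq]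
    exact (hmem.2 none (by decide)).symm
  · rw [Equiv.Perm.mul_apply, ← ha, Chain1.inv_apply_self']

theorem count_pqo_std (k : ℕ) :
    {x : Finset GolayPt | (x ∈ octads ∧ (none : GolayPt) ∈ x ∧ (some 4 : GolayPt) ∉ x) ∧
        (O8 ∩ x).card = k}.ncard
      = (octadLit.filter fun m => m.testBit 23 && !m.testBit 4 &&
          decide (wt24 (m &&& oMask) = k)).length := by
  have : {x : Finset GolayPt | (x ∈ octads ∧ (none : GolayPt) ∈ x ∧ (some 4 : GolayPt) ∉ x) ∧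
        (O8 ∩ x).card = k} = {x : Finset GolayPt | x ∈ octads ∧ ((none : GolayPt) ∈ x ∧
        (some 4 : GolayPt) ∉ x ∧ (O8 ∩ x).card = k)} := by
    ext x
    simp only [Set.mem_ofPred_eq, and_assoc]
  rw [this]
  apply ncard_class octadLit octadLit_nodup octadLit_lt octads mem_octads_iff'
    (fun x => (none : GolayPt) ∈ x ∧ (some 4 : GolayPt) ∉ x ∧ (O8 ∩ x).card = k)
  intro m _
  rw [O8_eq, card_inter_M, mem_M, mem_M]
  change (m.testBit 23 = true ∧ ¬ (m.testBit 4 = true) ∧ _) ↔ _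
  simp [and_assoc]

theorem trans_pqo_std (p p' : Finset GolayPt) (hp : p ∈ octads) (hp' : p' ∈ octads)
    (hn : (none : GolayPt) ∈ p) (hq : (some 4 : GolayPt) ∉ p) (hn' : (none : GolayPt) ∈ p')
    (hq' : (some 4 : GolayPt) ∉ p')
    (h : (O8 ∩ p).card = (O8 ∩ p').card) : ∃ g ∈ stabC [23, 4] [oMask], g • p = p' := by
  have hnO : (none : GolayPt) ∈ O8 := by rw [mem_O8]; decide
  rcases octad_inter_cases O8 p O8_mem hp with hk | hk | hk | hk
  · exfalso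
    have : (none : GolayPt) ∈ O8 ∩ p := mem_inter.mpr ⟨hnO, hn⟩
    rw [card_eq_zero.mp hk] at this
    exact notMem_empty _ this
  on_goal 3 =>
    refine ⟨1, Subgroup.one_mem _, ?_⟩
    rw [one_smul, eq_of_inter_eight O8 p O8_mem hp hk,
      eq_of_inter_eight O8 p' O8_mem hp' (by rw [← h, hk])]
  all_goals
    obtain ⟨m, hm, rfl⟩ := (mem_octads_iff' p).mp hp
    obtain ⟨m', hm', rfl⟩ := (mem_octads_iff' p').mp hp'
    have b1 := bit_of_mem m 23 hn (by omega)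
    have b2 := bit_of_notMem m 4 hq (by omega)
    have b1' := bit_of_mem m' 23 hn' (by omega)
    have b2' := bit_of_notMem m' 4 hq' (by omega)
    rw [O8_eq, card_inter_M, card_inter_M] at h
    rw [O8_eq, card_inter_M] at hk
  · exact transI2 m (List.mem_filter.mpr ⟨hm, by simp [b1, b2, hk]⟩) m'
      (List.mem_filter.mpr ⟨hm', by simp [b1', b2', ← h, hk]⟩)
  · exact transI4 m (List.mem_filter.mpr ⟨hm, by simp [b1, b2, hk]⟩) m'
      (List.mem_filter.mpr ⟨hm', by simp [b1', b2', ← h, hk]⟩)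

theorem pqo_result (p q : GolayPt) (o : Finset GolayPt) (ho : o ∈ octads ∧ p ∈ o ∧ q ∉ o) :
    {x : Finset GolayPt | (x ∈ octads ∧ p ∈ x ∧ q ∉ x) ∧ (o ∩ x).card = 2}.ncard = 70 ∧
    {x : Finset GolayPt | (x ∈ octads ∧ p ∈ x ∧ q ∉ x) ∧ (o ∩ x).card = 4}.ncard = 105 ∧
    ∀ o' o'' : Finset GolayPt, (o' ∈ octads ∧ p ∈ o' ∧ q ∉ o') →
      (o'' ∈ octads ∧ p ∈ o'' ∧ q ∉ o'') → (o ∩ o').card = (o ∩ o'').card →
      ∃ g : Equiv.Perm GolayPt, g ∈ M24 ∧ g p = p ∧ g q = q ∧ g • o = o ∧ g • o' = o'' := by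
  obtain ⟨t, ht, hto, htp, htq⟩ := exists_std_pqo p q o ho.1 ho.2.1 ho.2.2
  have htinv : t⁻¹ ∈ M24 := M24.inv_mem ht
  have hcount : ∀ k,
      {x : Finset GolayPt | (x ∈ octads ∧ p ∈ x ∧ q ∉ x) ∧ (o ∩ x).card = k}.ncard
      = {x : Finset GolayPt | (x ∈ octads ∧ (none : GolayPt) ∈ x ∧ (some 4 : GolayPt) ∉ x) ∧
        (O8 ∩ x).card = k}.ncard := by
    intro k
    have e1 : {x : Finset GolayPt | (x ∈ octads ∧ p ∈ x ∧ q ∉ x) ∧ (o ∩ x).card = k}
        = {x : Finset GolayPt | x ∈ octads ∧ (p ∈ x ∧ q ∉ x ∧ (o ∩ x).card = k)} := by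
      ext x; simp only [Set.mem_ofPred_eq, and_assoc]
    have e2 : {x : Finset GolayPt | (x ∈ octads ∧ (none : GolayPt) ∈ x ∧
        (some 4 : GolayPt) ∉ x) ∧ (O8 ∩ x).card = k}
        = {x : Finset GolayPt | x ∈ octads ∧ ((none : GolayPt) ∈ x ∧ (some 4 : GolayPt) ∉ x ∧
          (O8 ∩ x).card = k)} := by
      ext x; simp only [Set.mem_ofPred_eq, and_assoc]
    rw [e1, e2]
    apply ncard_smul t⁻¹ octads (fun s hs => smul_octad_mem _ htinv s hs)
      (fun s hs => by rw [inv_inv]; exact smul_octad_mem _ ht s hs)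
      (fun s => p ∈ s ∧ q ∉ s ∧ (o ∩ s).card = k)
    intro s
    rw [mem_inv_smul, mem_inv_smul, htp, htq, inter_smul_card, hto]
  refine ⟨by rw [hcount, count_pqo_std]; exact lenI2, by rw [hcount, count_pqo_std]; exact lenI4,
    ?_⟩
  intro o' o'' ho' ho'' h
  have e : (O8 ∩ t • o').card = (O8 ∩ t • o'').card := by
    rw [← hto, M24V2.card_smul_inter, M24V2.card_smul_inter, h]
  obtain ⟨g, hg, hgp⟩ := trans_pqo_std (t • o') (t • o'') (smul_octad_mem t ht o' ho'.1)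
    (smul_octad_mem t ht o'' ho''.1) (by rw [← htp, smul_mem_iff]; exact ho'.2.1)
    (by rw [← htq, smul_mem_iff]; exact ho'.2.2) (by rw [← htp, smul_mem_iff]; exact ho''.2.1)
    (by rw [← htq, smul_mem_iff]; exact ho''.2.2) e
  obtain ⟨hgM, hgx, hgo⟩ := (mem_stabC _ _ g).mp hg
  have hgp' : g none = none := hgx 23 (by simp)
  have hgq' : g (some 4) = some 4 := hgx 4 (by simp)
  have hgo' : g • O8 = O8 := hgo oMask (by simp)
  refine ⟨t⁻¹ * g * t, M24.mul_mem (M24.mul_mem htinv hgM) ht, ?_, ?_, ?_, ?_⟩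
  · rw [Equiv.Perm.mul_apply, Equiv.Perm.mul_apply, htp, hgp', ← htp, Chain1.inv_apply_self']
  · rw [Equiv.Perm.mul_apply, Equiv.Perm.mul_apply, htq, hgq', ← htq, Chain1.inv_apply_self']
  · rw [mul_smul, mul_smul, hto, hgo', ← hto, inv_smul_smul]
  · rw [mul_smul, mul_smul, hgp, inv_smul_smul]

end Cfsg.Agent.Lib.Helper9.M24X10
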