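import Cfsg.Agent.Lib.Helper9.LeechC7
import Cfsg.Agent.S0432
import Cfsg.Agent.S0433
import Cfsg.Agent.Lib.Helper9.M24X10
import Cfsg.Agent.Lib.Helper9.M24P6

set_option autoImplicit false

/-! Monomial automorphisms of the rank-24 lattice. -/

namespace Cfsg.Agent.Lib.Helper9.LeechM1

open scoped Pointwise
open Cfsg Finset Cfsg.Agent.Lib.Helper4.Leech Cfsg.Agent.Lib.Helper9.LeechC7
  Cfsg.Agent.Lib.Helper9.LeechC6

abbrev Code : Set (Finset GolayPt) := supports (golayCode : Set (GolayPt → ZMod 2))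

/-- the vector `8 e_i` -/
def E (i : GolayPt) : leechLattice :=
  ⟨Pi.single i 8, eight_mem _ (fun j => by
    by_cases h : j = i
    · subst h; simp
    · simp [Pi.single_eq_of_ne h])⟩

theorem E_val (i : GolayPt) : (E i : GolayPt → ℤ) = Pi.single i 8 := rfl

/-- sign change on a codeword -/
def eps (c : Finset GolayPt) (hc : c ∈ Code) : Equiv.Perm leechLattice where
  toFun v := ⟨fun i => if i ∈ c then -v.1 i else v.1 i, Cfsg.Agent.S0433.result c hc v.1 v.2⟩
  invFun v := ⟨fun i => if i ∈ c then -v.1 i else v.1 i, Cfsg.Agent.S0433.result c hc v.1 v.2⟩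
  left_inv v := by
    apply Subtype.ext
    funext i
    by_cases h : i ∈ c <;> simp [h]
  right_inv v := by
    apply Subtype.ext
    funext i
    by_cases h : i ∈ c <;> simp [h]

theorem eps_val (c : Finset GolayPt) (hc : c ∈ Code) (v : leechLattice) (i : GolayPt) :
    (eps c hc v : GolayPt → ℤ) i = if i ∈ c then -v.1 i else v.1 i := rfl

theorem eps_mem (c : Finset GolayPt) (hc : c ∈ Code) : eps c hc ∈ Co0 := by
  refine ⟨fun v w => ?_, fun v => ?_⟩
  · apply Subtype.ext
    funext i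
    show (if i ∈ c then -(v.1 i + w.1 i) else v.1 i + w.1 i)
      = (if i ∈ c then -v.1 i else v.1 i) + (if i ∈ c then -w.1 i else w.1 i)
    by_cases h : i ∈ c <;> simp [h]
    ring
  · unfold sqNorm
    apply Finset.sum_congr rfl
    intro i _
    rw [eps_val]
    by_cases h : i ∈ c <;> simp [h]

/-- coordinate permutation by an element of `M24` -/
def prm (σ : Equiv.Perm GolayPt) (hσ : σ ∈ M24) : Equiv.Perm leechLattice where
  toFun v := ⟨fun i => v.1 (σ.symm i), Cfsg.Agent.S0432.result σ.symm (M24.inv_mem hσ) v.1 v.2⟩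
  invFun v := ⟨fun i => v.1 (σ i), Cfsg.Agent.S0432.result σ hσ v.1 v.2⟩
  left_inv v := by
    apply Subtype.ext
    funext i
    simp
  right_inv v := by
    apply Subtype.ext
    funext i
    simp

theorem prm_val (σ : Equiv.Perm GolayPt) (hσ : σ ∈ M24) (v : leechLattice) (i : GolayPt) :
    (prm σ hσ v : GolayPt → ℤ) i = v.1 (σ.symm i) := rfl

theorem prm_mem (σ : Equiv.Perm GolayPt) (hσ : σ ∈ M24) : prm σ hσ ∈ Co0 := by
  refine ⟨fun v w => ?_, fun v => ?_⟩
  · apply Subtype.ext
    funext i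
    rfl
  · unfold sqNorm
    exact Equiv.sum_comp σ.symm (fun i => v.1 i ^ 2)

/-- negation -/
def neg1 : Equiv.Perm leechLattice := Equiv.neg _

theorem neg1_apply (v : leechLattice) : neg1 v = -v := rfl

theorem neg1_mem : neg1 ∈ Co0 := by
  refine ⟨fun v w => ?_, fun v => ?_⟩
  · rw [neg1_apply, neg1_apply, neg1_apply, neg_add]
  · rw [neg1_apply]
    exact sqNorm_neg _

/-- elements of `Co0` as additive maps -/
def toHom (f : Equiv.Perm leechLattice) (hf : f ∈ Co0) : leechLattice →+ leechLattice :=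
  AddMonoidHom.mk' f hf.1

theorem toHom_apply (f : Equiv.Perm leechLattice) (hf : f ∈ Co0) (v : leechLattice) :
    toHom f hf v = f v := rfl

theorem eight_smul (v : leechLattice) : (8 : ℤ) • v = ∑ i, v.1 i • E i := by
  apply Subtype.ext
  rw [AddSubgroup.val_finset_sum]
  funext j
  rw [Finset.sum_apply]
  simp only [AddSubgroup.coe_zsmul, Pi.smul_apply, E_val, smul_eq_mul]
  rw [Finset.sum_eq_single j]
  · simp; ring
  · intro i _ hij
    simp [Pi.single_eq_of_ne hij.symm]
  · intro h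
    exact absurd (mem_univ j) h

theorem apply_eight (f : Equiv.Perm leechLattice) (hf : f ∈ Co0) (v : leechLattice) :
    (8 : ℤ) • f v = ∑ i, v.1 i • f (E i) := by
  have h := congrArg (toHom f hf) (eight_smul v)
  rw [map_zsmul, map_sum] at h
  simp only [map_zsmul, toHom_apply] at h
  exact h

/-- the code separates points -/
theorem sep (i j : GolayPt) (hij : i ≠ j) : ∃ c ∈ Code, j ∈ c ∧ i ∉ c := by
  obtain ⟨t, ht, h1, h2⟩ := Cfsg.Agent.Lib.Helper9.M24X10.exists_map_pair none (some 0) i j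
    (by decide) hij
  have ht' : t • Code = Code := MulAction.mem_stabilizer_iff.mp ht
  have hd : Spor.squareDodecad ∈ Code :=
    ⟨qrWord 0, Cfsg.Agent.Lib.Helper9.GolayM24b.qrWord_mem 0, rfl⟩
  refine ⟨t • Spor.squareDodecad, ?_, ?_, ?_⟩
  · rw [← ht']
    exact Set.smul_mem_smul_set hd
  · rw [← h2, Cfsg.Agent.Lib.Helper9.M24X1.smul_mem_iff]
    exact Cfsg.Agent.Lib.Helper9.M24P6.zero_mem_sq
  · rw [← h1, Cfsg.Agent.Lib.Helper9.M24X1.smul_mem_iff]
    decide

end Cfsg.Agent.Lib.Helper9.LeechM1
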