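import Cfsg.Agent.Lib.Helper9.LeechM2

set_option autoImplicit false

/-! The automorphism group of the rank-24 lattice does not split over negation. -/

namespace Cfsg.Agent.Lib.Helper9.LeechM3

open scoped Pointwise
open Cfsg Finset Cfsg.Agent.Lib.Helper4.Leech Cfsg.Agent.Lib.Helper9.LeechC7
  Cfsg.Agent.Lib.Helper9.LeechM1 Cfsg.Agent.Lib.Helper9.LeechM2

theorem sq_code : Spor.squareDodecad ∈ Code :=
  ⟨qrWord 0, Cfsg.Agent.Lib.Helper9.GolayM24b.qrWord_mem 0, rfl⟩

theorem proj_invol : ∀ i : GolayPt, projInv (projInv i) = i := by decide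

theorem proj_swap : ∀ i : GolayPt, i ∈ Spor.squareDodecad ↔ projInv i ∉ Spor.squareDodecad := by
  decide

/-- a monomial element whose square is negation -/
def gM : Equiv.Perm leechLattice :=
  eps Spor.squareDodecad sq_code * prm projInv Cfsg.Agent.Lib.Helper9.GolayM24b.projInv_mem

theorem gM_mem : gM ∈ Co0 :=
  Co0.mul_mem (eps_mem _ _) (prm_mem _ _)

theorem gM_val (v : leechLattice) (i : GolayPt) :
    (gM v : GolayPt → ℤ) i
      = if i ∈ Spor.squareDodecad then -v.1 (projInv i) else v.1 (projInv i) := rfl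

theorem gM_sq : gM * gM = neg1 := by
  apply Equiv.ext
  intro v
  apply Subtype.ext
  funext i
  rw [Equiv.Perm.mul_apply, gM_val]
  simp only [gM_val, proj_invol]
  rw [neg1_apply]
  have h := proj_swap i
  by_cases hi : i ∈ Spor.squareDodecad
  · have h2 : projInv i ∉ Spor.squareDodecad := h.mp hi
    simp [hi, h2]
  · have h2 : projInv i ∈ Spor.squareDodecad := by
      by_contra hcon
      exact hi (h.mpr hcon)
    simp [hi, h2]

def gC : ↥Co0 := ⟨gM, gM_mem⟩

theorem gC_sq : gC * gC = negOne := Subtype.ext gM_sq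

theorem negOne_sq : negOne * negOne = 1 := by
  apply Subtype.ext
  apply Equiv.ext
  intro v
  show neg1 (neg1 v) = v
  rw [neg1_apply, neg1_apply, neg_neg]

theorem zpow_sq (h : ↥Co0) (hh : h ∈ Subgroup.zpowers negOne) : h * h = 1 := by
  obtain ⟨a, rfl⟩ := Subgroup.mem_zpowers_iff.mp hh
  rw [← zpow_add, ← two_mul, zpow_mul, zpow_two, negOne_sq, one_zpow]

theorem no_complement (K : Subgroup ↥Co0) : ¬ (Subgroup.zpowers negOne).IsComplement' K := by
  intro hK
  obtain ⟨⟨⟨h, hh⟩, ⟨k, hk⟩⟩, hx, -⟩ := hK.existsUnique gC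
  simp only at hx
  have hcen : h ∈ Subgroup.center ↥Co0 :=
    (Subgroup.zpowers_le.mpr negOne_mem_center) hh
  have hcomm : k * h = h * k := Subgroup.mem_center_iff.mp hcen k
  have hsq : gC * gC = k * k := by
    rw [← hx]
    calc h * k * (h * k) = h * (k * h) * k := by group
      _ = h * (h * k) * k := by rw [hcomm]
      _ = (h * h) * (k * k) := by group
      _ = k * k := by rw [zpow_sq h hh, one_mul]
  rw [gC_sq] at hsq
  have h1 : negOne ∈ K := by rw [hsq]; exact K.mul_mem hk hk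
  have h2 : negOne ∈ Subgroup.zpowers negOne := Subgroup.mem_zpowers _
  have h3 : negOne ∈ (Subgroup.zpowers negOne ⊓ K : Subgroup ↥Co0) := ⟨h2, h1⟩
  rw [hK.disjoint.eq_bot, Subgroup.mem_bot] at h3
  exact negOne_ne_one h3

theorem main : ∃ n : ↥Co0,
    (∀ v : ↥leechLattice, ((n • v : ↥leechLattice) : GolayPt → ℤ) = -(v : GolayPt → ℤ)) ∧
    ∀ K : Subgroup ↥Co0, ¬ (Subgroup.zpowers n).IsComplement' K :=
  ⟨negOne, fun _ => rfl, no_complement⟩

end Cfsg.Agent.Lib.Helper9.LeechM3
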