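import Cfsg.Agent.Lib.Helper9.LeechX11

set_option autoImplicit false

/-! Orbits on pairs of lattice vectors; orthogonal pairs of minimal vectors. -/

namespace Cfsg.Agent.Lib.Helper9.LeechP1

open Cfsg Finset Cfsg.Agent.Lib.Helper4.Leech Cfsg.Agent.Lib.Helper9.Golay1
  Cfsg.Agent.Lib.Helper9.LeechM1 Cfsg.Agent.Lib.Helper9.LeechX4
  Cfsg.Agent.Lib.Helper9.LeechX5 Cfsg.Agent.Lib.Helper9.LeechX7 Cfsg.Agent.Lib.Helper9.LeechX8
  Cfsg.Agent.Lib.Helper9.LeechX10 Cfsg.Agent.Lib.Helper9.LeechX11
  Cfsg.Agent.Lib.Helper9.LeechC7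
open Cfsg.Agent.Lib.Helper9.LeechC2 (par)

/-- same orbit on pairs -/
def Rel2 (a b a' b' : leechLattice) : Prop := ∃ g ∈ Co0, g a = a' ∧ g b = b'

theorem Rel2.refl (a b : leechLattice) : Rel2 a b a b := ⟨1, Co0.one_mem, rfl, rfl⟩

theorem Rel2.symm {a b a' b' : leechLattice} (h : Rel2 a b a' b') : Rel2 a' b' a b := by
  obtain ⟨g, hg, rfl, rfl⟩ := h
  exact ⟨g⁻¹, Co0.inv_mem hg, by simp, by simp⟩

theorem Rel2.trans {a b a' b' a'' b'' : leechLattice} (h1 : Rel2 a b a' b')
    (h2 : Rel2 a' b' a'' b'') : Rel2 a b a'' b'' := by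
  obtain ⟨g, hg, rfl, rfl⟩ := h1
  obtain ⟨h, hh, rfl, rfl⟩ := h2
  exact ⟨h * g, Co0.mul_mem hh hg, rfl, rfl⟩

theorem Rel2.exists_smul {a b a' b' : leechLattice} (h : Rel2 a b a' b') :
    ∃ g : ↥Co0, g • a = a' ∧ g • b = b' := by
  obtain ⟨g, hg, rfl, rfl⟩ := h
  exact ⟨⟨g, hg⟩, rfl, rfl⟩

theorem r8_vals : ∀ k : GolayPt, r8.1 k = if k = none then 8 else 0 := by decide +kernel

theorem rA_vals : ∀ k : GolayPt, rA.1 k = if k = none ∨ k = some 0 then 4 else 0 := by
  decide +kernel

theorem dot_r8 (b : GolayPt → ℤ) : dotInt r8.1 b = 8 * b none := by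
  unfold dotInt
  rw [Finset.sum_eq_single none]
  · rw [r8_vals]; simp
  · intro k _ hk
    rw [r8_vals, if_neg hk, zero_mul]
  · intro h; exact absurd (mem_univ _) h

/-- a minimal vector with entry `4` at `none` can be moved to the standard one by an
automorphism fixing `(8, 0, …, 0)` -/
theorem nf_frame (a : leechLattice) (hn : sqNorm a.1 = 32) (h4 : a.1 none = 4) :
    Rel2 r8 a r8 rA := by
  have hpar : par a.1 = 0 := by unfold par; rw [h4]; rfl
  have habs4 : |a.1 none| = 4 := by rw [h4]; rfl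
  rcases shapes32 a.1 a.2 hn with ⟨-, hc4, hc0⟩ | ⟨-, hc2, hc0, -⟩ | ⟨hp, -, -⟩
  · obtain ⟨i, j, hij, hi, hj, huniq⟩ := cnt_two a.1 4 hc4
    have hcov := cover a.1 {0, 4} (by rw [Finset.sum_pair (by norm_num)]; omega)
    -- the other point with entry ±4
    obtain ⟨j', hj'n, hj'4, huniq'⟩ : ∃ j' : GolayPt, j' ≠ none ∧ |a.1 j'| = 4 ∧
        ∀ l, |a.1 l| = 4 → l = none ∨ l = j' := by
      rcases huniq none habs4 with h | h
      · exact ⟨j, fun hh => hij (by rw [← h, hh]), hj, fun l hl => by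
          rcases huniq l hl with h' | h'
          · left; rw [h', h]
          · right; exact h'⟩
      · exact ⟨i, fun hh => hij (by rw [← h, hh]), hi, fun l hl => by
          rcases huniq l hl with h' | h'
          · right; exact h'
          · left; rw [h', h]⟩
    obtain ⟨h, hh, hmap⟩ := Cfsg.Agent.Lib.Helper9.M24T7.exists_mapn 2 (by norm_num)
      (fun n => if n = 0 then none else j') (by
        intro p hp q hq hpq
        have : p = 0 ∨ p = 1 := by omega
        have : q = 0 ∨ q = 1 := by omega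
        rcases ‹p = 0 ∨ p = 1› with rfl | rfl <;> rcases ‹q = 0 ∨ q = 1› with rfl | rfl <;>
          simp_all)
    have e0 : h none = none := hmap 0 (by norm_num)
    have e1 : h (some 0) = j' := hmap 1 (by norm_num)
    -- first step: the permutation
    have hP8 : prm h⁻¹ (M24.inv_mem hh) r8 = r8 := by
      apply Subtype.ext
      funext k
      rw [prm_inv_val h hh, r8_vals, r8_vals]
      by_cases hk : k = none
      · rw [hk, e0]
      · rw [if_neg hk, if_neg]
        intro hk'
        rw [← e0] at hk'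
        exact hk (h.injective hk')
    obtain ⟨a1, ha1⟩ : ∃ a1, a1 = prm h⁻¹ (M24.inv_mem hh) a := ⟨_, rfl⟩
    have hv : ∀ k, a1.1 k = a.1 (h k) := by
      intro k; rw [ha1, prm_inv_val h hh]
    have hr1 : Rel2 r8 a r8 a1 :=
      ⟨_, prm_mem _ (M24.inv_mem hh), hP8, ha1.symm⟩
    have hz : ∀ k, k ≠ none → k ≠ some 0 → a1.1 k = 0 := by
      intro k hk0 hk1
      rw [hv]
      have hne : |a.1 (h k)| ≠ 4 := by
        intro h4'
        rcases huniq' _ h4' with h' | h'
        · rw [← e0] at h'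
          exact hk0 (h.injective h')
        · rw [← e1] at h'
          exact hk1 (h.injective h')
      have := hcov (h k)
      simp only [mem_insert, mem_singleton] at this
      rcases this with h0 | h0
      · exact abs_eq_zero.mp h0
      · exact absurd h0 hne
    have hn1 : a1.1 none = 4 := by rw [hv, e0, h4]
    have hs1 : |a1.1 (some 0)| = 4 := by rw [hv, e1, hj'4]
    -- second step: the sign
    rcases (abs_eq (by norm_num : (0 : ℤ) ≤ 4)).mp hs1 with hpos | hneg
    · refine hr1.trans ?_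
      have : a1 = rA := by
        apply Subtype.ext
        funext k
        rw [rA_vals]
        by_cases hk0 : k = none
        · rw [hk0, hn1]; simp
        by_cases hk1 : k = some 0
        · rw [hk1, hpos]; simp
        rw [if_neg (by tauto), hz k hk0 hk1]
      rw [this]
      exact Rel2.refl _ _
    · obtain ⟨c, hc, hc1, hc0⟩ := sep none (some 0) (by decide)
      refine hr1.trans ⟨eps c hc, eps_mem c hc, ?_, ?_⟩
      · apply Subtype.ext
        funext k
        rw [eps_val, r8_vals]
        by_cases hk : k = none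
        · rw [hk, if_neg hc0]
        · rw [if_neg hk]; simp
      · apply Subtype.ext
        funext k
        rw [eps_val, rA_vals]
        by_cases hk0 : k = none
        · rw [hk0, if_neg hc0, hn1]; simp
        by_cases hk1 : k = some 0
        · rw [hk1, if_pos hc1, hneg]; simp
        rw [hz k hk0 hk1]
        simp [hk0, hk1]
  · have hcov := cover a.1 {0, 2} (by rw [Finset.sum_pair (by norm_num)]; omega)
    have := hcov none
    rw [habs4] at this
    simp at this
  · rw [hpar] at hp
    exact absurd hp (by norm_num)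

theorem dot_add_self (v w : leechLattice) : dotInt (v + w).1 v.1 = sqNorm v.1 + dotInt v.1 w.1 := by
  show dotInt (v.1 + w.1) v.1 = sqNorm v.1 + dotInt v.1 w.1
  unfold dotInt sqNorm
  rw [← Finset.sum_add_distrib]
  apply Finset.sum_congr rfl
  intro i _
  simp only [Pi.add_apply]
  ring

/-- an orthogonal pair of minimal vectors `v`, `w` can be moved so that `v + w` becomes
`(8, 0, …)` and `v` becomes `(4, 4, 0, …)` -/
theorem to_std (v w : leechLattice) (hv : sqNorm v.1 = 32) (hw : sqNorm w.1 = 32)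
    (hd : dotInt v.1 w.1 = 0) : Rel2 (v + w) v r8 rA := by
  have hz : sqNorm (v + w).1 = 64 := by
    show sqNorm (v.1 + w.1) = 64
    rw [sqNorm_add, hv, hw, hd]; norm_num
  obtain ⟨g, hg, hgz⟩ := rel64 (v + w) hz
  have h1 : Rel2 (v + w) v r8 (g v) := ⟨g, hg, hgz, rfl⟩
  refine h1.trans (nf_frame (g v) (by rw [hg.2 v, hv]) ?_)
  have h2 := dot_pres g hg (v + w) v
  rw [hgz, dot_r8, dot_add_self, hv, hd] at h2
  omega

/-- ordered pairs of orthogonal minimal vectors form a single orbit -/
theorem orth_pairs (v w w' : leechLattice) (hv : sqNorm v.1 = 32) (hw : sqNorm w.1 = 32)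
    (hw' : sqNorm w'.1 = 32) (hd : dotInt v.1 w.1 = 0) (hd' : dotInt v.1 w'.1 = 0) :
    Rel2 v w v w' := by
  obtain ⟨g, hg, hgz, hgv⟩ := (to_std v w hv hw hd).trans (to_std v w' hv hw' hd').symm
  refine ⟨g, hg, hgv, ?_⟩
  have h1 := hg.1 v w
  rw [hgz, hgv] at h1
  exact (add_left_cancel h1).symm

end Cfsg.Agent.Lib.Helper9.LeechP1
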