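import Cfsg.Agent.Lib.Helper9.LeechP1

set_option autoImplicit false

/-! Orbits relative to the vectors supported on the two points `none`, `some 0`. -/

namespace Cfsg.Agent.Lib.Helper9.LeechP2

open Cfsg Finset Cfsg.Agent.Lib.Helper4.Leech Cfsg.Agent.Lib.Helper9.Golay1
  Cfsg.Agent.Lib.Helper9.LeechM1 Cfsg.Agent.Lib.Helper9.LeechX4
  Cfsg.Agent.Lib.Helper9.LeechX5 Cfsg.Agent.Lib.Helper9.LeechX6
  Cfsg.Agent.Lib.Helper9.LeechX7 Cfsg.Agent.Lib.Helper9.LeechX8
  Cfsg.Agent.Lib.Helper9.GolayQR1 Cfsg.Agent.Lib.Helper9.GolayQR3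
open Cfsg.Agent.Lib.Helper9.LeechC2 (fwd bwd par cl mem_lev')
open scoped symmDiff

/-- supported on the two standard points -/
def Sup2 (f : leechLattice) : Prop := ∀ i, f.1 i ≠ 0 → i = none ∨ i = some 0

/-- same orbit under the automorphisms fixing all vectors supported on the two standard points -/
def RelF (x y : leechLattice) : Prop := ∃ g ∈ Co0, g x = y ∧ ∀ f, Sup2 f → g f = f

theorem RelF.refl (x : leechLattice) : RelF x x := ⟨1, Co0.one_mem, rfl, fun _ _ => rfl⟩

theorem RelF.symm {x y : leechLattice} (h : RelF x y) : RelF y x := by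
  obtain ⟨g, hg, rfl, hf⟩ := h
  refine ⟨g⁻¹, Co0.inv_mem hg, by simp, fun f hs => ?_⟩
  rw [Equiv.Perm.inv_eq_iff_eq, hf f hs]

theorem RelF.trans {x y z : leechLattice} (h1 : RelF x y) (h2 : RelF y z) : RelF x z := by
  obtain ⟨g, hg, rfl, hf⟩ := h1
  obtain ⟨h, hh, rfl, hf'⟩ := h2
  exact ⟨h * g, Co0.mul_mem hh hg, rfl, fun f hs => by
    rw [Equiv.Perm.mul_apply, hf f hs, hf' f hs]⟩

theorem eps_fix (c : Finset GolayPt) (hc : c ∈ Code) (hn : (none : GolayPt) ∉ c)
    (h0 : (some 0 : GolayPt) ∉ c) (f : leechLattice) (hf : Sup2 f) : eps c hc f = f := by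
  apply Subtype.ext
  funext k
  rw [eps_val]
  by_cases hk : k ∈ c
  · rw [if_pos hk]
    by_cases hfk : f.1 k = 0
    · rw [hfk]; rfl
    · rcases hf k hfk with h | h
      · rw [h] at hk; exact absurd hk hn
      · rw [h] at hk; exact absurd hk h0
  · rw [if_neg hk]

theorem relF_eps (c : Finset GolayPt) (hc : c ∈ Code) (hn : (none : GolayPt) ∉ c)
    (h0 : (some 0 : GolayPt) ∉ c) (x : leechLattice) : RelF x (eps c hc x) :=
  ⟨_, eps_mem c hc, rfl, fun f hf => eps_fix c hc hn h0 f hf⟩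

theorem prm_fix (h : Equiv.Perm GolayPt) (hh : h ∈ M24) (hn : h none = none)
    (h0 : h (some 0) = some 0) (f : leechLattice) (hf : Sup2 f) :
    prm h⁻¹ (M24.inv_mem hh) f = f := by
  apply Subtype.ext
  funext k
  rw [prm_inv_val h hh]
  by_cases hk : k = none
  · rw [hk, hn]
  by_cases hk0 : k = some 0
  · rw [hk0, h0]
  have e1 : f.1 k = 0 := by
    by_contra hne
    rcases hf k hne with h' | h'
    · exact hk h'
    · exact hk0 h'
  have e2 : f.1 (h k) = 0 := by
    by_contra hne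
    rcases hf (h k) hne with h' | h'
    · rw [← hn] at h'; exact hk (h.injective h')
    · rw [← h0] at h'; exact hk0 (h.injective h')
  rw [e1, e2]

theorem relF_prm (h : Equiv.Perm GolayPt) (hh : h ∈ M24) (hn : h none = none)
    (h0 : h (some 0) = some 0) (x : leechLattice) : RelF x (prm h⁻¹ (M24.inv_mem hh) x) :=
  ⟨_, prm_mem _ _, rfl, fun f hf => prm_fix h hh hn h0 f hf⟩

theorem RelF.rel2 {x y : leechLattice} (h : RelF x y) (f : leechLattice) (hf : Sup2 f) :
    Cfsg.Agent.Lib.Helper9.LeechP1.Rel2 f x f y := by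
  obtain ⟨g, hg, hxy, hfix⟩ := h
  exact ⟨g, hg, hfix f hf, hxy⟩

/-- two odd lattice vectors with the same absolute values, agreeing at the two standard points -/
theorem sign_fix_odd_F (w r : leechLattice) (hw : par w.1 = 1) (hr : par r.1 = 1)
    (habs : ∀ i, |w.1 i| = |r.1 i|) (hn : w.1 none = r.1 none)
    (h0 : w.1 (some 0) = r.1 (some 0)) : RelF w r := by
  have hc : lev w.1 1 ∆ lev r.1 1 ∈ Code :=
    symmDiff_mem_Code (lev_mem_Code w.1 w.2 1) (lev_mem_Code r.1 r.2 1)
  have e : eps _ hc w = r := by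
    apply Subtype.ext
    funext i
    rw [eps_val]
    have h1 := odd_of_par w.1 w.2 hw i
    have h2 := odd_of_par r.1 r.2 hr i
    have h3 := habs i
    simp only [Finset.mem_symmDiff, mem_lev']
    rcases abs_cases (w.1 i) with ⟨a1, a2⟩ | ⟨a1, a2⟩ <;>
      rcases abs_cases (r.1 i) with ⟨b1, b2⟩ | ⟨b1, b2⟩ <;>
      split_ifs with hh <;> omega
  rw [← e]
  have notin : ∀ i, w.1 i = r.1 i → i ∉ lev w.1 1 ∆ lev r.1 1 := by
    intro i hi
    simp only [Finset.mem_symmDiff, mem_lev', hi]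
    tauto
  exact relF_eps _ hc (notin _ hn) (notin _ h0) w

/-- two even lattice vectors with the same absolute values, agreeing at the two standard
points -/
theorem sign_fix_even_F (r : leechLattice) (Y1 Y2 : Finset GolayPt) (hpar : par r.1 = 0)
    (hY : ∀ i, r.1 i ≠ 0 → i ∈ Y1 ∪ Y2)
    (hYn : (none : GolayPt) ∈ Y1 ∪ Y2) (hY0 : (some 0 : GolayPt) ∈ Y1 ∪ Y2)
    (h1 : ∀ a ∈ Y1, ∃ c ∈ Code, ∀ i ∈ Y1 ∪ Y2, (i ∈ c ↔ i = a))
    (h2 : ∀ a ∈ Y2, ∀ b ∈ Y2, a ≠ b → ∃ c ∈ Code, ∀ i ∈ Y1 ∪ Y2, (i ∈ c ↔ i = a ∨ i = b))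
    (hodd : ∀ a ∈ Y2, r.1 a % 4 = 2) :
    ∀ (n : ℕ) (w : leechLattice), (∀ i, |w.1 i| = |r.1 i|) → w.1 none = r.1 none →
      w.1 (some 0) = r.1 (some 0) → (D (Y1 ∪ Y2) w.1 r.1).card = n → RelF w r := by
  intro n
  induction n using Nat.strong_induction_on with
  | _ n ih =>
    intro w habs hwn hw0 hn
    by_cases hD : D (Y1 ∪ Y2) w.1 r.1 = ∅
    · rw [eq_of_D_empty r w _ hY habs hD]
      exact RelF.refl r
    obtain ⟨a, ha⟩ := Finset.nonempty_iff_ne_empty.mpr hD
    have haY : a ∈ Y1 ∪ Y2 := (mem_filter.mp ha).1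
    have hane : w.1 a ≠ r.1 a := (mem_filter.mp ha).2
    have hnD : (none : GolayPt) ∉ D (Y1 ∪ Y2) w.1 r.1 := fun h => (mem_filter.mp h).2 hwn
    have h0D : (some 0 : GolayPt) ∉ D (Y1 ∪ Y2) w.1 r.1 := fun h => (mem_filter.mp h).2 hw0
    -- flipping along a codeword with prescribed trace
    have step : ∀ (c : Finset GolayPt) (hc : c ∈ Code) (T : Finset GolayPt),
        T ⊆ D (Y1 ∪ Y2) w.1 r.1 → T.Nonempty →
        (∀ i ∈ Y1 ∪ Y2, (i ∈ c ↔ i ∈ T)) → RelF w r := by
      intro c hc T hT hTne hcT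
      have hcn : (none : GolayPt) ∉ c := fun h => hnD (hT ((hcT _ hYn).mp h))
      have hc0 : (some 0 : GolayPt) ∉ c := fun h => h0D (hT ((hcT _ hY0).mp h))
      have hlt : (D (Y1 ∪ Y2) (eps c hc w).1 r.1).card < n := by
        rw [← hn]
        apply Finset.card_lt_card
        rw [Finset.ssubset_iff_of_subset]
        · obtain ⟨t, ht⟩ := hTne
          refine ⟨t, hT ht, ?_⟩
          intro h
          have htY : t ∈ Y1 ∪ Y2 := (mem_filter.mp (hT ht)).1
          have h3 := (mem_filter.mp h).2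
          have h4 := (mem_filter.mp (hT ht)).2
          rw [eps_val, if_pos ((hcT t htY).mpr ht)] at h3
          have h5 := habs t
          rcases abs_cases (w.1 t) with ⟨a1, a2⟩ | ⟨a1, a2⟩ <;>
            rcases abs_cases (r.1 t) with ⟨b1, b2⟩ | ⟨b1, b2⟩ <;> omega
        · intro i hi
          have hiY : i ∈ Y1 ∪ Y2 := (mem_filter.mp hi).1
          have h3 := (mem_filter.mp hi).2
          refine mem_filter.mpr ⟨hiY, ?_⟩
          rw [eps_val] at h3
          by_cases hic : i ∈ c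
          · exact (mem_filter.mp (hT ((hcT i hiY).mp hic))).2
          · rwa [if_neg hic] at h3
      exact (relF_eps c hc hcn hc0 w).trans
        (ih _ hlt (eps c hc w) (fun i => (abs_eps c hc w i).trans (habs i))
          (by rw [eps_val, if_neg hcn]; exact hwn) (by rw [eps_val, if_neg hc0]; exact hw0) rfl)
    by_cases hex : ∃ a' ∈ D (Y1 ∪ Y2) w.1 r.1, a' ∈ Y1
    · obtain ⟨a', ha', ha1⟩ := hex
      obtain ⟨c, hc, hcT⟩ := h1 a' ha1
      refine step c hc {a'} (by simpa using ha') ⟨a', mem_singleton_self _⟩ ?_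
      intro i hi
      rw [hcT i hi, mem_singleton]
    · push_neg at hex
      have hY2 : ∀ i ∈ D (Y1 ∪ Y2) w.1 r.1, i ∈ Y2 := by
        intro i hi
        have := (mem_filter.mp hi).1
        rcases mem_union.mp this with h | h
        · exact absurd h (hex i hi)
        · exact h
      by_cases hb : ∃ b ∈ D (Y1 ∪ Y2) w.1 r.1, b ≠ a
      · obtain ⟨b, hb, hba⟩ := hb
        obtain ⟨c, hc, hcT⟩ := h2 a (hY2 a ha) b (hY2 b hb) (Ne.symm hba)
        refine step c hc {a, b} ?_ ⟨a, by simp⟩ ?_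
        · intro i hi
          rcases mem_insert.mp hi with rfl | hi
          · exact ha
          · rw [mem_singleton] at hi
            rw [hi]
            exact hb
        · intro i hi
          rw [hcT i hi]
          simp
      · push_neg at hb
        exfalso
        -- only `a` differs: contradiction with the sums
        have hs1 := sum_of_par_zero r.1 r.2 hpar
        have hpw : par w.1 = 0 := by
          have h0 := even_of_par r.1 r.2 hpar none
          have h1 := habs none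
          unfold par
          rcases abs_cases (w.1 none) with ⟨a1, a2⟩ | ⟨a1, a2⟩ <;>
            rcases abs_cases (r.1 none) with ⟨b1, b2⟩ | ⟨b1, b2⟩ <;> omega
        have hs2 := sum_of_par_zero w.1 w.2 hpw
        have hdiff : ∑ i, (w.1 i - r.1 i) = w.1 a - r.1 a := by
          apply Finset.sum_eq_single a
          · intro i _ hia
            by_contra hne
            have hne' : w.1 i ≠ r.1 i := fun h => hne (by rw [h, sub_self])
            have hr0 : r.1 i ≠ 0 := by
              intro h0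
              have := habs i
              rw [h0, abs_zero, abs_eq_zero] at this
              exact hne' (by rw [this, h0])
            exact hia (hb i (mem_filter.mpr ⟨hY i hr0, hne'⟩))
          · intro h
            exact absurd (mem_univ a) h
        rw [Finset.sum_sub_distrib] at hdiff
        have h4 := hodd a (hY2 a ha)
        have h5 := habs a
        rcases abs_cases (w.1 a) with ⟨a1, a2⟩ | ⟨a1, a2⟩ <;>
          rcases abs_cases (r.1 a) with ⟨b1, b2⟩ | ⟨b1, b2⟩ <;> omega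

/-- sign fixing from explicit lists of points and code words, relative version -/
theorem sign_fix_lists_F (r : leechLattice) (YL1 YL2 : List GolayPt) (WL : List ℕ)
    (hpar : par r.1 = 0)
    (hY : ∀ i, r.1 i ≠ 0 → i ∈ YL1 ++ YL2)
    (hYn : (none : GolayPt) ∈ YL1 ++ YL2) (hY0 : (some 0 : GolayPt) ∈ YL1 ++ YL2)
    (h1 : ∀ a ∈ YL1, ∃ m ∈ WL, reprod m = m ∧
      ∀ i ∈ YL1 ++ YL2, (m.testBit (idx i) = true ↔ i = a))
    (h2 : ∀ a ∈ YL2, ∀ b ∈ YL2, a ≠ b → ∃ m ∈ WL, reprod m = m ∧
      ∀ i ∈ YL1 ++ YL2, (m.testBit (idx i) = true ↔ (i = a ∨ i = b)))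
    (hodd : ∀ a ∈ YL2, r.1 a % 4 = 2)
    (w : leechLattice) (habs : ∀ i, |w.1 i| = |r.1 i|) (hwn : w.1 none = r.1 none)
    (hw0 : w.1 (some 0) = r.1 (some 0)) : RelF w r := by
  have hU : YL1.toFinset ∪ YL2.toFinset = (YL1 ++ YL2).toFinset := (List.toFinset_append).symm
  refine sign_fix_even_F r YL1.toFinset YL2.toFinset hpar ?_ ?_ ?_ ?_ ?_ ?_ _ w habs hwn hw0 rfl
  · intro i hi
    rw [hU]
    exact List.mem_toFinset.mpr (hY i hi)
  · rw [hU]; exact List.mem_toFinset.mpr hYn
  · rw [hU]; exact List.mem_toFinset.mpr hY0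
  · intro a ha
    rw [hU]
    exact trace_one _ WL a (h1 a (List.mem_toFinset.mp ha))
  · intro a ha b hb hab
    rw [hU]
    exact trace_two _ WL a b (h2 a (List.mem_toFinset.mp ha) b (List.mem_toFinset.mp hb) hab)
  · intro a ha
    exact hodd a (List.mem_toFinset.mp ha)

/-- moving a vector by a permutation fixing the two standard points and then fixing signs -/
theorem relF_of_perm (r x : leechLattice) (h : Equiv.Perm GolayPt) (hh : h ∈ M24)
    (hn : h none = none) (h0 : h (some 0) = some 0)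
    (hfix : ∀ w : leechLattice, (∀ i, |w.1 i| = |r.1 i|) → w.1 none = r.1 none →
      w.1 (some 0) = r.1 (some 0) → RelF w r)
    (habs : ∀ k, |x.1 (h k)| = |r.1 k|) (hxn : x.1 none = r.1 none)
    (hx0 : x.1 (some 0) = r.1 (some 0)) : RelF x r := by
  refine (relF_prm h hh hn h0 x).trans (hfix _ (fun k => ?_) ?_ ?_)
  · rw [prm_inv_val h hh]
    exact habs k
  · rw [prm_inv_val h hh, hn]; exact hxn
  · rw [prm_inv_val h hh, h0]; exact hx0

end Cfsg.Agent.Lib.Helper9.LeechP2
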