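import Cfsg.Agent.Lib.Helper9.LeechP2
import Cfsg.Agent.Lib.Helper9.M24X11

set_option autoImplicit false

/-! Minimal vectors with prescribed entries at the two standard points: the case of
entry sum `-4`. -/

namespace Cfsg.Agent.Lib.Helper9.LeechP3

open Cfsg Finset Cfsg.Agent.Lib.Helper4.Leech Cfsg.Agent.Lib.Helper9.Golay1
  Cfsg.Agent.Lib.Helper9.LeechM1 Cfsg.Agent.Lib.Helper9.LeechX4
  Cfsg.Agent.Lib.Helper9.LeechX5 Cfsg.Agent.Lib.Helper9.LeechX6
  Cfsg.Agent.Lib.Helper9.LeechX7 Cfsg.Agent.Lib.Helper9.LeechX8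
  Cfsg.Agent.Lib.Helper9.LeechX10 Cfsg.Agent.Lib.Helper9.LeechP2
  Cfsg.Agent.Lib.Helper9.GolayQR1 Cfsg.Agent.Lib.Helper9.GolayQR3
open Cfsg.Agent.Lib.Helper9.LeechC2 (fwd bwd par cl mem_lev')

/-- a permutation in the group fixing the two standard points and moving `some 1` to `j` -/
theorem exists_fix2 (j : GolayPt) (hj : j ≠ none) (hj0 : j ≠ some 0) :
    ∃ h ∈ M24, h none = none ∧ h (some 0) = some 0 ∧ h (some 1) = j := by
  obtain ⟨h, hh, hmap⟩ := Cfsg.Agent.Lib.Helper9.M24T7.exists_mapn 3 (by norm_num)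
    (fun n => if n = 0 then none else if n = 1 then some 0 else j) (by
      intro p hp q hq hpq
      have : p = 0 ∨ p = 1 ∨ p = 2 := by omega
      have : q = 0 ∨ q = 1 ∨ q = 2 := by omega
      rcases ‹p = 0 ∨ p = 1 ∨ p = 2› with rfl | rfl | rfl <;>
        rcases ‹q = 0 ∨ q = 1 ∨ q = 2› with rfl | rfl | rfl <;> simp_all)
  exact ⟨h, hh, hmap 0 (by norm_num), hmap 1 (by norm_num), hmap 2 (by norm_num)⟩

/-! ### shape `(4², 0²²)` -/

def LA1 : List ℤ := [0, 4, 0, 0, 0, 0, 0, 0, 0, 0, 0, 0, 0, 0, 0, 0, 0, 0, 0, 0, 0, 0, 0, -4]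

theorem LA1_mem : vecL LA1 ∈ leechLattice :=
  mem_of_data _ 0 0 (Or.inl rfl) (by decide +kernel) (by decide +kernel) (by decide +kernel)

def rA1 : leechLattice := ⟨vecL LA1, LA1_mem⟩

def LA2 : List ℤ := [-4, 4, 0, 0, 0, 0, 0, 0, 0, 0, 0, 0, 0, 0, 0, 0, 0, 0, 0, 0, 0, 0, 0, 0]

theorem LA2_mem : vecL LA2 ∈ leechLattice :=
  mem_of_data _ 0 0 (Or.inl rfl) (by decide +kernel) (by decide +kernel) (by decide +kernel)

def rA2 : leechLattice := ⟨vecL LA2, LA2_mem⟩

theorem fixA1 (w : leechLattice) (habs : ∀ i, |w.1 i| = |rA1.1 i|) (hn : w.1 none = rA1.1 none)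
    (h0 : w.1 (some 0) = rA1.1 (some 0)) : RelF w rA1 :=
  sign_fix_lists_F rA1 [none, some 0, some 1] [] [14760928, 6371221, 2358342] (by decide +kernel)
    (by decide +kernel) (by decide +kernel) (by decide +kernel) (by decide +kernel)
    (by decide +kernel) (by decide +kernel) w habs hn h0

theorem fixA2 (w : leechLattice) (habs : ∀ i, |w.1 i| = |rA2.1 i|) (hn : w.1 none = rA2.1 none)
    (h0 : w.1 (some 0) = rA2.1 (some 0)) : RelF w rA2 :=
  sign_fix_lists_F rA2 [none, some 0, some 1] [] [14760928, 6371221, 2358342] (by decide +kernel)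
    (by decide +kernel) (by decide +kernel) (by decide +kernel) (by decide +kernel)
    (by decide +kernel) (by decide +kernel) w habs hn h0

theorem rA1_abs : ∀ k : GolayPt, |rA1.1 k| = if k = none ∨ k = some 1 then 4 else 0 := by
  decide +kernel

theorem rA2_abs : ∀ k : GolayPt, |rA2.1 k| = if k = some 0 ∨ k = some 1 then 4 else 0 := by
  decide +kernel

/-- normal form of a vector of shape `(4², 0²²)` with a given point `p` of its support among the
two standard points, the other standard point being outside the support -/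
theorem nf_A (x r : leechLattice) (p : GolayPt) (h4 : cnt x.1 4 = 2) (h0 : cnt x.1 0 = 22)
    (hp : p = none ∨ p = some 0) (hxp : |x.1 p| = 4)
    (hq : ∀ q, (q = none ∨ q = some 0) → q ≠ p → x.1 q = 0)
    (hrabs : ∀ k : GolayPt, |r.1 k| = if k = p ∨ k = some 1 then 4 else 0)
    (hfix : ∀ w : leechLattice, (∀ i, |w.1 i| = |r.1 i|) → w.1 none = r.1 none →
      w.1 (some 0) = r.1 (some 0) → RelF w r)
    (hxn : x.1 none = r.1 none) (hx0 : x.1 (some 0) = r.1 (some 0)) : RelF x r := by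
  obtain ⟨i, j, hij, hi, hj, huniq⟩ := cnt_two x.1 4 h4
  have hcov := cover x.1 {0, 4} (by rw [Finset.sum_pair (by norm_num)]; omega)
  -- the other point with entry ±4
  obtain ⟨j', hj'p, hj'4, huniq'⟩ : ∃ j' : GolayPt, j' ≠ p ∧ |x.1 j'| = 4 ∧
      ∀ l, |x.1 l| = 4 → l = p ∨ l = j' := by
    rcases huniq p hxp with h | h
    · exact ⟨j, fun hh => hij (by rw [← h, hh]), hj, fun l hl => by
        rcases huniq l hl with h' | h'
        · left; rw [h', h]
        · right; exact h'⟩
    · exact ⟨i, fun hh => hij (by rw [← h, hh]), hi, fun l hl => by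
        rcases huniq l hl with h' | h'
        · right; exact h'
        · left; rw [h', h]⟩
  have hj'n : j' ≠ none := by
    intro h
    have := hq none (Or.inl rfl) (by rw [← h]; exact hj'p)
    rw [h, this] at hj'4
    norm_num at hj'4
  have hj'0 : j' ≠ some 0 := by
    intro h
    have := hq (some 0) (Or.inr rfl) (by rw [← h]; exact hj'p)
    rw [h, this] at hj'4
    norm_num at hj'4
  obtain ⟨h, hh, e0, e1, e2⟩ := exists_fix2 j' hj'n hj'0
  refine relF_of_perm r x h hh e0 e1 hfix (fun k => ?_) hxn hx0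
  rw [hrabs k]
  have hpfix : h p = p := by
    rcases hp with rfl | rfl
    · exact e0
    · exact e1
  by_cases hk0 : k = p
  · rw [if_pos (Or.inl hk0), hk0, hpfix, hxp]
  by_cases hk1 : k = some 1
  · rw [if_pos (Or.inr hk1), hk1, e2, hj'4]
  rw [if_neg (by tauto)]
  have hne : |x.1 (h k)| ≠ 4 := by
    intro h4'
    rcases huniq' _ h4' with h' | h'
    · rw [← hpfix] at h'
      exact hk0 (h.injective h')
    · rw [← e2] at h'
      exact hk1 (h.injective h')
  have := hcov (h k)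
  simp only [mem_insert, mem_singleton] at this
  tauto

/-! ### shape `(2⁸, 0¹⁶)`, the octad containing the two standard points -/

def LBm : List ℤ := [-2, 2, 2, 2, 0, 2, 0, 0, 0, 0, 0, 0, 0, 0, 2, 0, 0, 2, 0, 0, 0, 0, 0, -2]

theorem LBm_mem : vecL LBm ∈ leechLattice :=
  mem_of_data _ 0 8536111 (Or.inl rfl) (by decide +kernel) (by decide +kernel) (by decide +kernel)

def rBm : leechLattice := ⟨vecL LBm, LBm_mem⟩

theorem fixBm (w : leechLattice) (habs : ∀ i, |w.1 i| = |rBm.1 i|) (hn : w.1 none = rBm.1 none)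
    (h0 : w.1 (some 0) = rBm.1 (some 0)) : RelF w rBm :=
  sign_fix_lists_F rBm [] [some 0, some 1, some 2, none, some 3, some 5, some 14, some 17]
    [1095635, 6371221, 12325377, 7648025, 6105569, 6053905, 924689, 7438406, 11314642, 6554826,
      5086770, 5035970, 2010050, 14493076, 1410188, 3939956, 4020100, 7285636, 13148440, 14760928,
      14709264, 11669008, 2726648, 2675464, 8040200, 84464, 5453296, 5405696]
    (by decide +kernel) (by decide +kernel) (by decide +kernel) (by decide +kernel)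
    (by decide +kernel) (by decide +kernel) (by decide +kernel) w habs hn h0

theorem rBm_abs : ∀ k : GolayPt, |rBm.1 k| = if (8536111).testBit (idx k) = true then 2 else 0 := by
  decide +kernel

theorem nf_Bm (x : leechLattice) (hp : par x.1 = 0) (h2 : cnt x.1 2 = 8) (h0 : cnt x.1 0 = 16)
    (hc : (cl x.1).card = 8) (hxn : x.1 none = -2) (hx0 : x.1 (some 0) = -2) : RelF x rBm := by
  have hst := cl_of_two x hp 8 h2 (by omega)
  have hO : cl x.1 ∈ octads := ⟨cl_mem_Code x, hc⟩
  have hnO : (none : GolayPt) ∈ cl x.1 := (hst none).1.mpr (by rw [hxn]; rfl)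
  have h0O : (some 0 : GolayPt) ∈ cl x.1 := (hst (some 0)).1.mpr (by rw [hx0]; rfl)
  obtain ⟨t, ht, htO, htn, ht0⟩ := Cfsg.Agent.Lib.Helper9.M24X11.exists_std_pq_in none (some 0)
    (by decide) _ hO hnO h0O
  have e0 : t⁻¹ none = none := by
    rw [Equiv.Perm.inv_eq_iff_eq]; exact htn.symm
  have e1 : t⁻¹ (some 0) = some 0 := by
    rw [Equiv.Perm.inv_eq_iff_eq]; exact ht0.symm
  refine relF_of_perm rBm x t⁻¹ (M24.inv_mem ht) e0 e1 fixBm (fun k => ?_) hxn hx0
  rw [rBm_abs k]
  have hk := testBit_iff t _ htO k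
  by_cases hm : t⁻¹ k ∈ cl x.1
  · rw [if_pos (hk.mpr hm)]
    exact (hst _).1.mp hm
  · rw [if_neg (fun h => hm (hk.mp h)), (hst _).2 hm]
    rfl

end Cfsg.Agent.Lib.Helper9.LeechP3
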