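import Cfsg.Agent.Lib.Helper9.LeechP5

set_option autoImplicit false

/-! Pairs of minimal vectors with inner product `-8` form a single orbit. -/

namespace Cfsg.Agent.Lib.Helper9.LeechP6

open Cfsg Finset Cfsg.Agent.Lib.Helper4.Leech Cfsg.Agent.Lib.Helper9.Golay1
  Cfsg.Agent.Lib.Helper9.LeechM1 Cfsg.Agent.Lib.Helper9.LeechX4
  Cfsg.Agent.Lib.Helper9.LeechX5 Cfsg.Agent.Lib.Helper9.LeechX6
  Cfsg.Agent.Lib.Helper9.LeechX7 Cfsg.Agent.Lib.Helper9.LeechX8
  Cfsg.Agent.Lib.Helper9.LeechX10 Cfsg.Agent.Lib.Helper9.LeechX11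
  Cfsg.Agent.Lib.Helper9.LeechP1 Cfsg.Agent.Lib.Helper9.LeechP2 Cfsg.Agent.Lib.Helper9.LeechP3
  Cfsg.Agent.Lib.Helper9.LeechP4 Cfsg.Agent.Lib.Helper9.LeechP5
  Cfsg.Agent.Lib.Helper9.LeechC7
open Cfsg.Agent.Lib.Helper9.LeechC2 (fwd bwd par cl mem_lev')

def Lf2 : List ℤ := [-2, 0, 0, 0, -2, 0, 0, 0, 0, 0, 0, 0, 0, 2, 2, 0, 0, 0, 2, 2, 2, 0, 2, 0]
def Lf3 : List ℤ := [1, -1, 1, -1, 1, 1, -1, -1, 1, 1, -1, 1, 1, 1, 1, 1, 1, 1, -1, 1, 1, -1, -1, -3]
def Lf1 : List ℤ := [-3, -1, 1, -1, 1, 1, -1, -1, 1, 1, -1, 1, 1, 1, 1, 1, 1, 1, -1, 1, 1, -1, -1, 1]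
def Lfm : List ℤ := [-1, -1, 1, -3, -1, -1, 1, 1, 1, 1, 1, 1, -1, -1, -1, -1, -1, -1, 1, 1, 1, -1, 1, -1]

theorem Lf2_mem : vecL Lf2 ∈ leechLattice :=
  mem_of_data _ 0 6053905 (Or.inl rfl) (by decide +kernel) (by decide +kernel) (by decide +kernel)
theorem Lf3_mem : vecL Lf3 ∈ leechLattice :=
  mem_of_data _ 1 10222389 (Or.inr rfl) (by decide +kernel) (by decide +kernel) (by decide +kernel)
theorem Lf1_mem : vecL Lf1 ∈ leechLattice :=
  mem_of_data _ 1 10222389 (Or.inr rfl) (by decide +kernel) (by decide +kernel) (by decide +kernel)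
theorem Lfm_mem : vecL Lfm ∈ leechLattice :=
  mem_of_data _ 1 6033356 (Or.inr rfl) (by decide +kernel) (by decide +kernel) (by decide +kernel)

def f2 : leechLattice := ⟨vecL Lf2, Lf2_mem⟩
def f3 : leechLattice := ⟨vecL Lf3, Lf3_mem⟩
def f1 : leechLattice := ⟨vecL Lf1, Lf1_mem⟩
def fm : leechLattice := ⟨vecL Lfm, Lfm_mem⟩

theorem L1_8' (w w' : leechLattice) (hw : sqNorm w.1 = 32) (hw' : sqNorm w'.1 = 32)
    (hn : w.1 none = w'.1 none) (h0 : w.1 (some 0) = w'.1 (some 0))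
    (hs : 4 * w.1 none + 4 * w.1 (some 0) = -8) : RelF w w' :=
  L1_8 w w' hw hw' hn h0 (by omega)

/-- every minimal vector with inner product `-8` with `(4, 4, 0, …)` is in the orbit of `r1` -/
theorem hub8 (w : leechLattice) (hw : sqNorm w.1 = 32) (hd : dotInt rA.1 w.1 = -8) :
    Rel2 rA w rA r1 := by
  have hs : w.1 none + w.1 (some 0) = -2 := by
    rw [dot_rA] at hd; omega
  have link : ∀ e : leechLattice, sqNorm e.1 = 32 → dotInt rA.1 e.1 = -8 →
      dotInt r44.1 e.1 = -8 → Rel2 rA e rA r1 := by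
    intro e h1 h2 h3
    exact gen_pos (-8) L1_8' rA r44 e r1 (by decide +kernel) (by decide +kernel)
      (by decide +kernel) h1 (by decide +kernel) h2 (by decide +kernel)
      (by rw [h3]; decide +kernel)
  have step : ∀ e : leechLattice, sqNorm e.1 = 32 → w.1 none = e.1 none →
      w.1 (some 0) = e.1 (some 0) → Rel2 rA w rA e := by
    intro e h1 h2 h3
    exact (L1_8 w e hw h1 h2 h3 hs).rel2 rA sup2_rA
  rcases classify8 w hw hs with ⟨a1, a2, -⟩ | ⟨a1, a2, -⟩ | ⟨a1, a2, -⟩ | ⟨a1, a2, -⟩ |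
      ⟨a1, a2, -⟩
  · exact step r1 (by decide +kernel) (by rw [a1]; decide +kernel) (by rw [a2]; decide +kernel)
  · exact (step f2 (by decide +kernel) (by rw [a1]; decide +kernel)
      (by rw [a2]; decide +kernel)).trans
      (link f2 (by decide +kernel) (by decide +kernel) (by decide +kernel))
  · exact (step f3 (by decide +kernel) (by rw [a1]; decide +kernel)
      (by rw [a2]; decide +kernel)).trans
      (link f3 (by decide +kernel) (by decide +kernel) (by decide +kernel))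
  · exact (step f1 (by decide +kernel) (by rw [a1]; decide +kernel)
      (by rw [a2]; decide +kernel)).trans
      (link f1 (by decide +kernel) (by decide +kernel) (by decide +kernel))
  · exact (step fm (by decide +kernel) (by rw [a1]; decide +kernel)
      (by rw [a2]; decide +kernel)).trans
      (link fm (by decide +kernel) (by decide +kernel) (by decide +kernel))

/-- ordered pairs of minimal vectors with inner product `-8` form a single orbit -/
theorem pairs8 (v w v' w' : leechLattice) (hv : sqNorm v.1 = 32) (hw : sqNorm w.1 = 32)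
    (hv' : sqNorm v'.1 = 32) (hw' : sqNorm w'.1 = 32) (hd : dotInt v.1 w.1 = -8)
    (hd' : dotInt v'.1 w'.1 = -8) : Rel2 v w v' w' := by
  have key : ∀ v w : leechLattice, sqNorm v.1 = 32 → sqNorm w.1 = 32 → dotInt v.1 w.1 = -8 →
      Rel2 v w rA r1 := by
    intro v w hv hw hd
    obtain ⟨k, hk, hkv⟩ := trans32 v rA hv (by decide +kernel)
    have h1 : Rel2 v w rA (k w) := ⟨k, hk, hkv, rfl⟩
    refine h1.trans (hub8 (k w) (by rw [hk.2, hw]) ?_)
    rw [← hkv, dot_pres k hk]; exact hd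
  exact (key v w hv hw hd).trans (key v' w' hv' hw' hd').symm

/-- the stabiliser of a vector `u` of sum of squares 48 is transitive on the minimal vectors `v`
with `u - v` minimal -/
theorem co3_pairs (u v v' : leechLattice) (hu : sqNorm u.1 = 48) (hv : sqNorm v.1 = 32)
    (huv : sqNorm (u - v).1 = 32) (hv' : sqNorm v'.1 = 32) (huv' : sqNorm (u - v').1 = 32) :
    Rel2 u v u v' := by
  have hdot : ∀ v : leechLattice, sqNorm v.1 = 32 → sqNorm (u - v).1 = 32 →
      dotInt v.1 (u - v).1 = -8 := by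
    intro v hv huv
    have h1 : sqNorm (u.1 - v.1) = 32 := huv
    rw [sqNorm_sub, hu, hv] at h1
    show dotInt v.1 (u.1 - v.1) = -8
    have : dotInt v.1 (u.1 - v.1) = dotInt u.1 v.1 - sqNorm v.1 := by
      unfold dotInt sqNorm
      rw [← Finset.sum_sub_distrib]
      apply Finset.sum_congr rfl
      intro i _
      simp only [Pi.sub_apply]
      ring
    rw [this, hv]
    omega
  obtain ⟨g, hg, hgv, hguv⟩ := pairs8 v (u - v) v' (u - v') hv huv hv' huv' (hdot v hv huv)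
    (hdot v' hv' huv')
  refine ⟨g, hg, ?_, hgv⟩
  have h1 := hg.1 v (u - v)
  rw [add_sub_cancel, hgv, hguv, add_sub_cancel] at h1
  exact h1

end Cfsg.Agent.Lib.Helper9.LeechP6
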