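import Cfsg.Agent.Lib.Helper9.M24M1
import Cfsg.Agent.Lib.Helper9.M24Q3
import Cfsg.Agent.Lib.Helper9.M24P5
import Cfsg.Agent.Lib.Helper9.M24Y1
import Cfsg.Agent.Lib.Helper9.M24U4

set_option autoImplicit false

/-! The stabilizer of a pair of points of the complement in `M11` (on 12 points) is `S5`. -/

namespace Cfsg.Agent.Lib.Helper9.M24M2

open Cfsg Finset Cfsg.Agent.Lib.Helper9.GolayQR1 Cfsg.Agent.Lib.Helper9.M24T1
  Cfsg.Agent.Lib.Helper9.M24T9 Cfsg.Agent.Lib.Helper9.M24T10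
  Cfsg.Agent.Lib.Helper9.M24T11 Cfsg.Agent.Lib.Helper9.M24X1 Cfsg.Agent.Lib.Helper9.M24X4
  Cfsg.Agent.Lib.Helper9.M24Z11 Cfsg.Agent.Lib.Helper9.M24H5 Cfsg.Agent.Lib.Helper9.M24Q1
  Cfsg.Agent.Lib.Helper9.Chain1 Cfsg.Agent.Lib.Helper9.SimpB Cfsg.Agent.Lib.Helper9.M24M1
  Cfsg.Agent.Lib.Helper9.M24U1 Cfsg.Agent.Lib.Helper9.M24U4 Cfsg.Agent.Lib.Helper9.M24P1
open scoped Pointwise

theorem card_orbit_finset {G X : Type*} [Group G] [Finite G] [MulAction G X] (b : X)
    (Δ : Finset X) (hup : ∀ g : G, g • b ∈ Δ) (hlow : ∀ x ∈ Δ, ∃ g : G, g • b = x) :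
    Δ.card * Nat.card (MulAction.stabilizer G b) = Nat.card G := by
  have : MulAction.orbit G b = ↑Δ := by
    ext x
    constructor
    · rintro ⟨g, rfl⟩
      exact hup g
    · intro hx
      obtain ⟨g, rfl⟩ := hlow x hx
      exact ⟨g, rfl⟩
  have h := card_orbit_mul (G := G) b
  rw [this] at h
  rw [← h]
  congr 1
  simp

/-- the stabilizer of a pair in `M11` -/
abbrev P5 (d : Finset GolayPt) (p q q' : GolayPt) : Subgroup (Equiv.Perm GolayPt) :=
  M11 d p ⊓ MulAction.stabilizer (Equiv.Perm GolayPt) ({q, q'} : Finset GolayPt)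

theorem mem_P5 (d : Finset GolayPt) (p q q' : GolayPt) (g : Equiv.Perm GolayPt) :
    g ∈ P5 d p q q' ↔ g ∈ M11 d p ∧ g • ({q, q'} : Finset GolayPt) = {q, q'} := by
  rw [Subgroup.mem_inf, MulAction.mem_stabilizer_iff]

theorem card_P5 (d : Finset GolayPt) (hd : d ∈ dodecads) (p q q' : GolayPt) (hp : p ∈ d)
    (hq : q ∉ d) (hq' : q' ∉ d) (hqq : q ≠ q') : Nat.card ↥(P5 d p q q') = 120 := by
  have h12 : d.card = 12 := hd.2
  have h := card_orbit_finset (G := ↥(M11 d p)) ({q, q'} : Finset GolayPt)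
    (powersetCard 2 dᶜ)
    (fun g => by
      have hgd := ((mem_M11 d p g.1).mp g.2).2.1
      change g.1 • ({q, q'} : Finset GolayPt) ∈ _
      rw [M24Y1.smul_pair, mem_powersetCard]
      refine ⟨?_, card_pair (fun h => hqq (g.1.injective h))⟩
      intro x hx
      rw [mem_insert, mem_singleton] at hx
      rw [mem_compl]
      rcases hx with rfl | rfl
      · exact maps_compl d g.1 hgd q hq
      · exact maps_compl d g.1 hgd q' hq')
    (fun x hx => by
      rw [mem_powersetCard] at hx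
      obtain ⟨a, b, hab, rfl⟩ := card_eq_two.mp hx.2
      have ha : a ∉ d := mem_compl.mp (hx.1 (mem_insert_self _ _))
      have hb : b ∉ d := mem_compl.mp (hx.1 (mem_insert_of_mem (mem_singleton_self _)))
      obtain ⟨g, hg, h1, h2⟩ := pair_trans d hd p hp q q' a b hq hq' ha hb hqq hab
      refine ⟨⟨g, hg⟩, ?_⟩
      change g • ({q, q'} : Finset GolayPt) = _
      rw [M24Y1.smul_pair, h1, h2])
  rw [card_powersetCard, card_compl, Cfsg.Agent.Lib.Helper9.GolayQR5.card_golayPt, h12,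
    card_stab_point d hd p hp] at h
  have e := M24Q3.subEquiv (M11 d p)
    (MulAction.stabilizer ↥(M11 d p) ({q, q'} : Finset GolayPt)) (P5 d p q q') inf_le_left
    (fun g => by
      rw [mem_P5, MulAction.mem_stabilizer_iff]
      constructor
      · intro h
        exact ⟨g.2, h⟩
      · intro h
        exact h.2)
  rw [← Nat.card_congr e.toEquiv]
  have : Nat.choose (24 - 12) 2 = 66 := by decide
  rw [this] at h
  omega


theorem octad_unique_aux : octadLit.all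
    (fun m => !(m.testBit 23) || !(m &&& 1832768 == 320) || m == 14682450) = true := by
  decide +kernel

theorem octad_unique (m : ℕ) (hm : m ∈ octadLit) (h1 : m.testBit 23 = true)
    (h2 : m &&& 1832768 = 320) : m = 14682450 := by
  have := List.all_eq_true.mp octad_unique_aux m hm
  simpa [h1, h2] using this

theorem pair_eq : M (14682450 &&& 1832768) = ({some 6, some 8} : Finset GolayPt) := by
  decide +kernel

theorem compl_D12 : D12ᶜ = M 1832768 := by
  rw [M24W2.D12_eq, ← M_xor_ones]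
  rfl

theorem std_O1 (g : Equiv.Perm GolayPt) (hg : g ∈ M24) (hd : g • D12 = D12)
    (hn : g none = none)
    (hp : g • ({some 6, some 8} : Finset GolayPt) = {some 6, some 8}) :
    g • M 14682450 = M 14682450 := by
  have hO : M 14682450 ∈ octads := (mem_octads_iff' _).mpr ⟨_, by decide +kernel, rfl⟩
  obtain ⟨m, hm, hgm⟩ := (mem_octads_iff' _).mp (smul_octad_mem g hg _ hO)
  have h23 : m.testBit 23 = true := by
    have h1 : g none ∈ g • M 14682450 :=
      (smul_mem_iff g none _).mpr ((mem_M _ _).mpr (by decide))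
    rw [hn, hgm, mem_M] at h1
    exact h1
  have h1 : g • (M 14682450 ∩ D12ᶜ) = g • M 14682450 ∩ (g • D12)ᶜ := by
    rw [smul_finset_inter, M24F7.smul_compl']
  rw [hd, hgm, compl_D12, ← M_and, ← M_and, pair_eq, hp, ← pair_eq] at h1
  have h2 : m &&& 1832768 = 320 := by
    have := M_inj _ _ (by decide) (lt_of_le_of_lt Nat.and_le_right (by norm_num)) h1
    rw [← this]
    decide
  rw [hgm, octad_unique m hm h23 h2]

theorem memY : ∀ x : GolayPt, x ∈ M 6293522 ↔ (x ∈ M 14682450 ∧ x ∈ D12 ∧ x ≠ none) := by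
  decide +kernel

theorem std_Y (g : Equiv.Perm GolayPt) (hg : g ∈ M24) (hd : g • D12 = D12)
    (hn : g none = none)
    (hp : g • ({some 6, some 8} : Finset GolayPt) = {some 6, some 8}) :
    g • M 6293522 = M 6293522 := by
  have hO := std_O1 g hg hd hn hp
  rw [stab_iff]
  intro x
  rw [memY, memY, (stab_iff _ g).mp hO x, (stab_iff _ g).mp hd x]
  have : g x = none ↔ x = none := by
    constructor
    · intro h
      exact g.injective (h.trans hn.symm)
    · rintro rfl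
      exact hn
  rw [Ne, Ne, this]

theorem exists_std (d : Finset GolayPt) (hd : d ∈ dodecads) (p q q' : GolayPt) (hp : p ∈ d)
    (hq : q ∉ d) (hq' : q' ∉ d) (hqq : q ≠ q') :
    ∃ t ∈ M24, t • D12 = d ∧ t none = p ∧ t (some 6) = q ∧ t (some 8) = q' := by
  obtain ⟨t0, ht0, h0⟩ := exists_smul_D12 d hd
  have hin : ∀ x, t0⁻¹ x ∈ D12 ↔ x ∈ d := by
    intro x
    rw [← smul_mem_iff t0, h0, apply_inv_self']
  have hnone : (none : GolayPt) ∈ D12 := (mem_D12 _).mpr (by decide)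
  obtain ⟨u, hu, hu1⟩ := transitive_on_dodecad D12 D12_mem none (t0⁻¹ p) hnone ((hin p).mpr hp)
  obtain ⟨huM, hud⟩ := (mem_stabF D12 u).mp hu
  have hin1 : ∀ x, (t0 * u)⁻¹ x ∈ D12 ↔ x ∈ d := by
    intro x
    rw [mul_inv_rev, Equiv.Perm.mul_apply, ← hin x, ← smul_mem_iff u, hud,
      apply_inv_self']
  have h6 : (some 6 : GolayPt) ∉ D12 := by rw [mem_D12]; decide
  have h8 : (some 8 : GolayPt) ∉ D12 := by rw [mem_D12]; decide
  obtain ⟨v, hv, hv1, hv2⟩ := pair_trans D12 D12_mem none hnone (some 6) (some 8)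
    ((t0 * u)⁻¹ q) ((t0 * u)⁻¹ q') h6 h8 (fun h => hq ((hin1 q).mp h))
    (fun h => hq' ((hin1 q').mp h)) (by decide)
    (fun h => hqq ((t0 * u)⁻¹.injective h))
  obtain ⟨hvM, hvd, hvn⟩ := (mem_M11 D12 none v).mp hv
  refine ⟨t0 * u * v, M24.mul_mem (M24.mul_mem ht0 huM) hvM, ?_, ?_, ?_, ?_⟩
  · rw [mul_smul, mul_smul, hvd, hud, h0]
  · rw [Equiv.Perm.mul_apply, hvn, Equiv.Perm.mul_apply, hu1, apply_inv_self']
  · rw [Equiv.Perm.mul_apply, hv1, apply_inv_self']
  · rw [Equiv.Perm.mul_apply, hv2, apply_inv_self']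

theorem exists_five (d : Finset GolayPt) (hd : d ∈ dodecads) (p q q' : GolayPt) (hp : p ∈ d)
    (hq : q ∉ d) (hq' : q' ∉ d) (hqq : q ≠ q') :
    ∃ Y : Finset GolayPt, Y ⊆ d ∧ p ∉ Y ∧ Y.card = 5 ∧ ∀ g ∈ P5 d p q q', g • Y = Y := by
  obtain ⟨t, ht, htd, htn, ht6, ht8⟩ := exists_std d hd p q q' hp hq hq' hqq
  refine ⟨t • M 6293522, ?_, ?_, ?_, ?_⟩
  · intro x hx
    obtain ⟨y, hy, rfl⟩ := mem_smul_finset.mp hx
    rw [← htd]
    exact smul_mem_smul_finset (((memY y).mp hy).2.1)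
  · rw [← htn, smul_mem_iff, memY]
    intro h
    exact h.2.2 rfl
  · rw [card_smul_finset, card_M]
    decide
  · intro g hg
    obtain ⟨hg1, hgp⟩ := (mem_P5 d p q q' g).mp hg
    obtain ⟨hgM, hgd, hgpt⟩ := (mem_M11 d p g).mp hg1
    have hstd := std_Y (t⁻¹ * g * t) (M24.mul_mem (M24.mul_mem (M24.inv_mem ht) hgM) ht)
      (by rw [mul_smul, mul_smul, htd, hgd, inv_smul_eq_iff, htd])
      (by rw [Equiv.Perm.mul_apply, Equiv.Perm.mul_apply, htn, hgpt, ← htn,
        inv_apply_self'])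
      (by rw [mul_smul, mul_smul, M24Y1.smul_pair t, ht6, ht8, hgp, inv_smul_eq_iff,
        M24Y1.smul_pair t, ht6, ht8])
    rw [mul_smul, mul_smul, inv_smul_eq_iff] at hstd
    exact hstd

theorem iso_P5 (d : Finset GolayPt) (hd : d ∈ dodecads) (p q q' : GolayPt) (hp : p ∈ d)
    (hq : q ∉ d) (hq' : q' ∉ d) (hqq : q ≠ q') :
    Nonempty (↥(P5 d p q q') ≃* Equiv.Perm (Fin 5)) := by
  obtain ⟨Y, hYd, hpY, h5, hY⟩ := exists_five d hd p q q' hp hq hq' hqq
  have hle : P5 d p q q' ≤ stabF Y := fun g hg =>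
    (mem_stabF Y g).mpr ⟨((mem_M11 d p g).mp ((mem_P5 d p q q' g).mp hg).1).1, hY g hg⟩
  obtain ⟨φ, hφ⟩ : ∃ φ : ↥(P5 d p q q') →* Equiv.Perm ↥Y,
      φ = (resHom Y).comp (Subgroup.inclusion hle) := ⟨_, rfl⟩
  have hφa : ∀ (g : ↥(P5 d p q q')) (x : ↥Y), ((φ g x : ↥Y) : GolayPt) = g.1 x := by
    intro g x
    rw [hφ]
    rfl
  have hinj : Function.Injective φ := by
    rw [injective_iff_map_eq_one]
    intro g hg1
    apply Subtype.ext
    obtain ⟨hgM, hgd, hgpt⟩ := (mem_M11 d p g.1).mp ((mem_P5 d p q q' g.1).mp g.2).1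
    apply M24P5.eq_one_of_fix d hd g.1 ((mem_stabF d g.1).mpr ⟨hgM, hgd⟩) (insert p Y)
      (insert_subset hp hYd) (by rw [card_insert_of_notMem hpY, h5]; norm_num)
    intro x hx
    rcases mem_insert.mp hx with rfl | hx
    · exact hgpt
    · have := hφa g ⟨x, hx⟩
      rw [hg1] at this
      exact this.symm
  have hbij : Function.Bijective φ := by
    rw [Nat.bijective_iff_injective_and_card]
    refine ⟨hinj, ?_⟩
    rw [card_P5 d hd p q q' hp hq hq' hqq, Nat.card_eq_fintype_card, Fintype.card_perm,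
      Fintype.card_coe, h5]
    rfl
  exact ⟨(MulEquiv.ofBijective φ hbij).trans (Y.equivFinOfCardEq h5).permCongrHom⟩

theorem main (d : Finset GolayPt) (hd : d ∈ dodecads) (p q q' : GolayPt) (hp : p ∈ d)
    (hq : q ∉ d) (hq' : q' ∉ d) (hqq : q ≠ q') :
    Nonempty (↥(MulAction.stabilizer M24 d ⊓ MulAction.stabilizer M24 p ⊓
      MulAction.stabilizer M24 ({q, q'} : Finset GolayPt)) ≃* Equiv.Perm (Fin 5)) := by
  obtain ⟨e⟩ := iso_P5 d hd p q q' hp hq hq' hqq
  have hmem : ∀ g : M24, g ∈ (MulAction.stabilizer M24 d ⊓ MulAction.stabilizer M24 p ⊓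
      MulAction.stabilizer M24 ({q, q'} : Finset GolayPt)) ↔ g.1 ∈ P5 d p q q' := by
    intro g
    rw [mem_P5, mem_M11]
    simp only [Subgroup.mem_inf, MulAction.mem_stabilizer_iff]
    constructor
    · rintro ⟨⟨h1, h2⟩, h3⟩
      exact ⟨⟨g.2, h1, h2⟩, h3⟩
    · rintro ⟨⟨-, h1, h2⟩, h3⟩
      exact ⟨⟨h1, h2⟩, h3⟩
  have hP : P5 d p q q' ≤ M24 := fun g hg =>
    ((mem_M11 d p g).mp ((mem_P5 d p q q' g).mp hg).1).1
  exact ⟨(M24Q3.subEquiv M24 _ (P5 d p q q') hP hmem).trans e⟩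

end Cfsg.Agent.Lib.Helper9.M24M2
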