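import Cfsg.Agent.Lib.Helper9.M24W2
import Cfsg.Agent.Lib.Helper9.Chain4
import Cfsg.Agent.Lib.Helper9.GolayTrio1

set_option autoImplicit false

namespace Cfsg.Agent.Lib.Helper9.M24Y4

open Cfsg Finset Cfsg.Agent.Lib.Helper9.Golay1 Cfsg.Agent.Lib.Helper9.GolayQR1
  Cfsg.Agent.Lib.Helper9.GolayQR5 Cfsg.Agent.Lib.Helper9.GolayQR6
  Cfsg.Agent.Lib.Helper9.GolayQR8 Cfsg.Agent.Lib.Helper9.GolayTrio1
  Cfsg.Agent.Lib.Helper9.M24T9 Cfsg.Agent.Lib.Helper9.M24T10
  Cfsg.Agent.Lib.Helper9.M24W2 Cfsg.Agent.Lib.Helper9.Chain4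
open scoped Pointwise

/-- the complement of a dodecad is a dodecad -/
theorem compl_mem_dodecads (d : Finset GolayPt) (hd : d ∈ dodecads) : dᶜ ∈ dodecads := by
  obtain ⟨c, hc, h12, rfl⟩ := dodecad_word d hd
  rw [← supp_add_one]
  refine ⟨⟨c + 1, golayCode.add_mem hc one_mem, (supp_eq_support₂ _).symm⟩, ?_⟩
  rw [← wt_eq]
  have := wt_add_one c
  omega

/-- a set together with its complement -/
def cpair (e : Finset GolayPt) : Finset (Finset GolayPt) := {e, eᶜ}

theorem ne_compl (e : Finset GolayPt) : e ≠ eᶜ := by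
  intro h
  have h1 : (none : GolayPt) ∈ e ↔ (none : GolayPt) ∈ eᶜ := by rw [← h]
  rw [mem_compl] at h1
  tauto

theorem cpair_compl (e : Finset GolayPt) : cpair eᶜ = cpair e := by
  unfold cpair
  rw [compl_compl, pair_comm]

theorem cpair_eq_iff (e f : Finset GolayPt) : cpair e = cpair f ↔ e = f ∨ e = fᶜ := by
  constructor
  · intro h
    have : e ∈ cpair f := by rw [← h]; exact mem_insert_self _ _
    rw [cpair, mem_insert, mem_singleton] at this
    exact this
  · rintro (rfl | rfl)
    · rfl
    · exact cpair_compl f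

theorem smul_compl (g : Equiv.Perm GolayPt) (e : Finset GolayPt) : g • eᶜ = (g • e)ᶜ := by
  ext x
  rw [mem_compl, ← inv_smul_mem_iff, ← inv_smul_mem_iff, mem_compl]

theorem smul_cpair (g : Equiv.Perm GolayPt) (e : Finset GolayPt) :
    g • cpair e = cpair (g • e) := by
  unfold cpair
  rw [smul_finset_insert, smul_finset_singleton, smul_compl]

theorem card_image_cpair (D : Finset (Finset GolayPt)) (hD : ∀ e ∈ D, eᶜ ∈ D) :
    (D.image cpair).card * 2 = D.card := by
  rw [card_eq_sum_card_image cpair D, sum_const_nat (m := 2)]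
  · intro X hX
    obtain ⟨e, he, rfl⟩ := mem_image.mp hX
    have : D.filter (fun e' => cpair e' = cpair e) = {e, eᶜ} := by
      ext e'
      rw [mem_filter, cpair_eq_iff, mem_insert, mem_singleton]
      constructor
      · exact fun h => h.2
      · rintro (rfl | rfl)
        · exact ⟨he, Or.inl rfl⟩
        · exact ⟨hD e he, Or.inr rfl⟩
    rw [this, card_pair (ne_compl e)]

/-- class of a dodecad relative to `d`, by the size of the intersection -/
def cls (n : ℕ) : Fin 3 := if n = 6 then 2 else if n = 4 ∨ n = 8 then 1 else 0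

theorem card_inter_compl (d e : Finset GolayPt) (hd : d.card = 12) :
    (d ∩ eᶜ).card = 12 - (d ∩ e).card := by
  have := card_sdiff_add_card_inter d e
  rw [← hd, ← this, sdiff_eq_inter_compl]
  omega

theorem inter_values (d e : Finset GolayPt) (hd : d ∈ dodecads) (he : e ∈ dodecads) :
    ((d ∩ e).card = 12 ∧ e = d) ∨ ((d ∩ e).card = 0 ∧ e = dᶜ) ∨ (d ∩ e).card = 4 ∨
      (d ∩ e).card = 6 ∨ (d ∩ e).card = 8 := by
  have hd12 : d.card = 12 := hd.2
  have he12 : e.card = 12 := he.2
  by_cases hed : e = d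
  · left
    rw [hed, inter_self]
    exact ⟨hd12, rfl⟩
  · rcases dodecad_inter d e hd he hed with h | h | h | h
    · right; left
      refine ⟨h, ?_⟩
      have hsub : e ⊆ dᶜ := by
        intro x hx
        rw [mem_compl]
        intro hxd
        have : x ∈ d ∩ e := mem_inter.mpr ⟨hxd, hx⟩
        rw [card_eq_zero.mp h] at this
        exact notMem_empty _ this
      apply eq_of_subset_of_card_le hsub
      rw [card_compl, card_golayPt, hd12, he12]
    · right; right; left; exact h
    · right; right; right; left; exact h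
    · right; right; right; right; exact h

theorem dodecad_pair_isCoatom (d : Finset GolayPt) (hd : d ∈ dodecads) :
    IsCoatom (MulAction.stabilizer M24 ({d, dᶜ} : Finset (Finset GolayPt))) := by
  classical
  change IsCoatom (MulAction.stabilizer M24 (cpair d))
  have hd12 : d.card = 12 := hd.2
  obtain ⟨Df, hDf⟩ := Cfsg.Agent.Lib.Helper9.Steiner5.exists_finset dodecads
  have hDmem : ∀ e, e ∈ Df ↔ e ∈ dodecads := fun e => by rw [← hDf]; exact Iff.rfl
  have hDc : ∀ e ∈ Df, eᶜ ∈ Df := fun e he => (hDmem _).mpr (compl_mem_dodecads e ((hDmem e).mp he))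
  have h2576 : Df.card = 2576 := by
    rw [← Set.ncard_coe_finset, hDf]; exact card_dodecads
  obtain ⟨n4, n6, n8⟩ := dodecad_meet_counts d hd
  have hk : ∀ k, (Df.filter (fun e => (d ∩ e).card = k)).card =
      {d' : Finset GolayPt | d' ∈ dodecads ∧ (d ∩ d').card = k}.ncard := by
    intro k
    rw [← Set.ncard_coe_finset]
    congr 1
    ext e
    rw [mem_coe, mem_filter, hDmem]
    rfl
  -- the orbit
  have horb : MulAction.orbit M24 (cpair d) = ((Df.image cpair : Finset _) : Set _) := by
    ext Y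
    rw [mem_coe, mem_image]
    constructor
    · rintro ⟨g, rfl⟩
      refine ⟨g.1 • d, (hDmem _).mpr (smul_dodecad_mem g.1 g.2 d hd), ?_⟩
      change _ = g.1 • cpair d
      rw [smul_cpair]
    · rintro ⟨e, he, rfl⟩
      obtain ⟨g, hg, rfl⟩ := dodecad_transitive d e hd ((hDmem e).mp he)
      refine ⟨⟨g, hg⟩, ?_⟩
      change g • cpair d = _
      rw [smul_cpair]
  -- the type function
  obtain ⟨τ, hτ⟩ : ∃ τ : Finset (Finset GolayPt) → Fin 3, ∀ e, τ (cpair e) = cls (d ∩ e).card := by
    refine ⟨fun Y => if h : ∃ e, cpair e = Y then cls (d ∩ h.choose).card else 0, ?_⟩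
    intro e
    have hex : ∃ e', cpair e' = cpair e := ⟨e, rfl⟩
    dsimp only
    rw [dif_pos hex]
    rcases (cpair_eq_iff _ _).mp hex.choose_spec with h | h
    · rw [h]
    · rw [h, card_inter_compl d e hd12]
      unfold cls
      have : (d ∩ e).card ≤ 12 := by rw [← hd12]; exact card_le_card inter_subset_left
      by_cases h6 : (d ∩ e).card = 6
      · rw [if_pos h6, if_pos (by omega)]
      · by_cases h48 : (d ∩ e).card = 4 ∨ (d ∩ e).card = 8
        · rw [if_neg h6, if_pos h48, if_neg (by omega), if_pos (by omega)]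
        · rw [if_neg h6, if_neg h48, if_neg (by omega), if_neg (by omega)]
  have hclass : ∀ i : Fin 3, {Y | Y ∈ MulAction.orbit M24 (cpair d) ∧ τ Y = i}.ncard * 2 =
      (Df.filter (fun e => cls (d ∩ e).card = i)).card := by
    intro i
    rw [← card_image_cpair, ← Set.ncard_coe_finset]
    · congr 2
      ext Y
      rw [Set.mem_ofPred_eq, horb, mem_coe, mem_image, mem_coe, mem_image]
      constructor
      · rintro ⟨⟨e, he, rfl⟩, hi⟩
        exact ⟨e, mem_filter.mpr ⟨he, by rw [← hτ]; exact hi⟩, rfl⟩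
      · rintro ⟨e, he, rfl⟩
        rw [mem_filter] at he
        exact ⟨⟨e, he.1, rfl⟩, by rw [hτ]; exact he.2⟩
    · intro e he
      rw [mem_filter] at he ⊢
      refine ⟨hDc e he.1, ?_⟩
      rw [← hτ, cpair_compl, hτ]
      exact he.2
  have hc2 : (Df.filter (fun e => cls (d ∩ e).card = 2)).card = 1584 := by
    rw [← n6, ← hk]
    congr 1
    apply filter_congr
    intro e _
    unfold cls
    constructor
    · intro h
      by_contra h6
      rw [if_neg h6] at h
      split_ifs at h <;> exact absurd h (by decide)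
    · intro h
      rw [if_pos h]
  have hc1 : (Df.filter (fun e => cls (d ∩ e).card = 1)).card = 990 := by
    have : Df.filter (fun e => cls (d ∩ e).card = 1) =
        Df.filter (fun e => (d ∩ e).card = 4) ∪ Df.filter (fun e => (d ∩ e).card = 8) := by
      ext e
      rw [mem_union, mem_filter, mem_filter, mem_filter, ← and_or_left]
      refine and_congr_right (fun _ => ?_)
      unfold cls
      constructor
      · intro h
        by_contra h48
        split_ifs at h <;> exact absurd h (by decide)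
      · intro h
        rw [if_neg (by omega), if_pos h]
    rw [this, card_union_of_disjoint, hk, hk, n4, n8]
    rw [disjoint_filter]
    intro e _ h4 h8
    omega
  have hc0 : (Df.filter (fun e => cls (d ∩ e).card = 0)).card = 2 := by
    have hsum := card_eq_sum_card_fiberwise (f := fun e => cls (d ∩ e).card) (s := Df)
      (t := univ) (fun e _ => mem_univ _)
    rw [Fin.sum_univ_three, h2576, hc1, hc2] at hsum
    omega
  have harith : ∀ S : Finset (Fin 3), (0 : Fin 3) ∈ S →
      (∑ i ∈ S, (![1, 495, 792] : Fin 3 → ℕ) i) ∣ 1288 → S = {0} ∨ S = Finset.univ := by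
    decide
  have h1288 : (MulAction.orbit M24 (cpair d)).ncard = 1288 := by
    rw [horb, Set.ncard_coe_finset]
    have := card_image_cpair Df hDc
    omega
  have hτd : τ (cpair d) = 0 := by
    rw [hτ, inter_self, hd12]; rfl
  -- normal forms of members of a class
  have hnorm : ∀ e ∈ dodecads, ∃ e' ∈ dodecads, cpair e' = cpair e ∧
      (d ∩ e').card = (if cls (d ∩ e).card = 0 then 12 else if cls (d ∩ e).card = 1 then 4
        else 6) := by
    intro e he
    rcases inter_values d e hd he with ⟨h, rfl⟩ | ⟨h, rfl⟩ | h | h | h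
    · exact ⟨e, he, rfl, by rw [h]; rfl⟩
    · refine ⟨d, hd, (cpair_compl d).symm, ?_⟩
      rw [inter_self, hd12, h]; rfl
    · exact ⟨e, he, rfl, by rw [h]; rfl⟩
    · exact ⟨e, he, rfl, by rw [h]; rfl⟩
    · refine ⟨eᶜ, compl_mem_dodecads e he, cpair_compl e, ?_⟩
      rw [card_inter_compl d e hd12, h]; rfl
  have s0 : {Y | Y ∈ MulAction.orbit M24 (cpair d) ∧ τ Y = 0}.ncard = 1 := by
    have := hclass 0
    rw [hc0] at this
    omega
  have s1 : {Y | Y ∈ MulAction.orbit M24 (cpair d) ∧ τ Y = 1}.ncard = 495 := by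
    have := hclass 1
    rw [hc1] at this
    omega
  have s2 : {Y | Y ∈ MulAction.orbit M24 (cpair d) ∧ τ Y = 2}.ncard = 792 := by
    have := hclass 2
    rw [hc2] at this
    omega
  apply isCoatom_of_types (G := M24) (cpair d) ?_ τ ![1, 495, 792] 0 hτd
  · -- the trivial class
    intro Y hY h0
    rw [horb, mem_coe, mem_image] at hY
    obtain ⟨e, he, rfl⟩ := hY
    rw [hτ] at h0
    rcases inter_values d e hd ((hDmem e).mp he) with ⟨-, rfl⟩ | ⟨-, rfl⟩ | h | h | h
    · rfl
    · exact cpair_compl d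
    · rw [h] at h0; exact absurd h0 (by decide)
    · rw [h] at h0; exact absurd h0 (by decide)
    · rw [h] at h0; exact absurd h0 (by decide)
  · intro i
    fin_cases i
    · exact s0
    · exact s1
    · exact s2
  · intro Y hY Z hZ hYZ
    rw [horb, mem_coe, mem_image] at hY hZ
    obtain ⟨e, he, rfl⟩ := hY
    obtain ⟨f, hf, rfl⟩ := hZ
    rw [hτ, hτ] at hYZ
    obtain ⟨e', he', hee, hke⟩ := hnorm e ((hDmem e).mp he)
    obtain ⟨f', hf', hff, hkf⟩ := hnorm f ((hDmem f).mp hf)
    obtain ⟨g, hg, hgd, hge⟩ := dodecad_orbits d e' f' hd he' hf' (by rw [hke, hkf, hYZ])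
    refine ⟨⟨g, hg⟩, MulAction.mem_stabilizer_iff.mpr ?_, ?_⟩
    · change g • cpair d = cpair d
      rw [smul_cpair, hgd]
    · change g • cpair e = cpair f
      rw [← hee, ← hff, smul_cpair, hge]
  · rw [h1288]
    exact harith
  · -- some element moves the pair
    have : (Df.filter (fun e => cls (d ∩ e).card = 2)).Nonempty := by
      rw [← card_pos, hc2]; omega
    obtain ⟨e, he⟩ := this
    rw [mem_filter] at he
    obtain ⟨g, hg, rfl⟩ := dodecad_transitive d e hd ((hDmem e).mp he.1)
    refine ⟨⟨g, hg⟩, ?_⟩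
    change g • cpair d ≠ cpair d
    rw [smul_cpair]
    intro h
    have h2 := he.2
    rw [← hτ, h, hτd] at h2
    exact absurd h2 (by decide)

end Cfsg.Agent.Lib.Helper9.M24Y4
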