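import Cfsg.Agent.Lib.Helper9.LeechP6
import Cfsg.Agent.Lib.Helper9.M24M2
import Cfsg.Agent.Lib.Helper9.M24Y4

set_option autoImplicit false

/-! Vectors of sum of squares 48 with prescribed entries at the two standard points: the even
shapes. -/

namespace Cfsg.Agent.Lib.Helper9.LeechP7

open Cfsg Finset Cfsg.Agent.Lib.Helper4.Leech Cfsg.Agent.Lib.Helper9.Golay1
  Cfsg.Agent.Lib.Helper9.LeechM1 Cfsg.Agent.Lib.Helper9.LeechX4
  Cfsg.Agent.Lib.Helper9.LeechX5 Cfsg.Agent.Lib.Helper9.LeechX6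
  Cfsg.Agent.Lib.Helper9.LeechX7 Cfsg.Agent.Lib.Helper9.LeechX8 Cfsg.Agent.Lib.Helper9.LeechX9
  Cfsg.Agent.Lib.Helper9.LeechX10 Cfsg.Agent.Lib.Helper9.LeechX11
  Cfsg.Agent.Lib.Helper9.LeechP1 Cfsg.Agent.Lib.Helper9.LeechP2 Cfsg.Agent.Lib.Helper9.LeechP3
  Cfsg.Agent.Lib.Helper9.LeechP4 Cfsg.Agent.Lib.Helper9.LeechP5
  Cfsg.Agent.Lib.Helper9.GolayQR1 Cfsg.Agent.Lib.Helper9.GolayQR3
  Cfsg.Agent.Lib.Helper9.M24U1
open Cfsg.Agent.Lib.Helper9.LeechC2 (fwd bwd par cl mem_lev')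
open scoped Pointwise

/-- two dodecads containing `p` and `q` are exchanged by a permutation fixing `p` and `q` -/
theorem exists_map_dodecad_pq (d d' : Finset GolayPt) (hd : d ∈ dodecads) (hd' : d' ∈ dodecads)
    (p q : GolayPt) (hpq : p ≠ q) (hp : p ∈ d) (hq : q ∈ d) (hp' : p ∈ d') (hq' : q ∈ d') :
    ∃ h ∈ M24, h • d = d' ∧ h p = p ∧ h q = q := by
  have key : ∀ e : Finset GolayPt, e ∈ dodecads → p ∈ e → q ∈ e →
      ∃ t ∈ M24, t • Cfsg.Agent.Lib.Helper9.M24T9.D12 = eᶜ ∧ t (some 6) = p ∧ t (some 8) = q := by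
    intro e he hpe hqe
    have hc := Cfsg.Agent.Lib.Helper9.M24Y4.compl_mem_dodecads e he
    have hne : eᶜ.Nonempty := by
      rw [← Finset.card_pos, hc.2]; norm_num
    obtain ⟨x, hx⟩ := hne
    obtain ⟨t, ht, h1, -, h3, h4⟩ := Cfsg.Agent.Lib.Helper9.M24M2.exists_std eᶜ hc x p q hx
      (by rw [Finset.mem_compl, not_not]; exact hpe) (by rw [Finset.mem_compl, not_not]; exact hqe)
      hpq
    exact ⟨t, ht, h1, h3, h4⟩
  obtain ⟨t, ht, h1, h3, h4⟩ := key d hd hp hq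
  obtain ⟨s, hs, g1, g3, g4⟩ := key d' hd' hp' hq'
  have e3 : t⁻¹ p = some 6 := by rw [Equiv.Perm.inv_eq_iff_eq]; exact h3.symm
  have e4 : t⁻¹ q = some 8 := by rw [Equiv.Perm.inv_eq_iff_eq]; exact h4.symm
  refine ⟨s * t⁻¹, M24.mul_mem hs (M24.inv_mem ht), ?_, ?_, ?_⟩
  · have hc : (s * t⁻¹) • dᶜ = d'ᶜ := by
      rw [mul_smul, ← h1, inv_smul_smul, g1]
    ext x
    have h5 := Cfsg.Agent.Lib.Helper9.M24X1.smul_mem_iff (s * t⁻¹) ((s * t⁻¹)⁻¹ x) d
    have h6 := Cfsg.Agent.Lib.Helper9.M24X1.smul_mem_iff (s * t⁻¹) ((s * t⁻¹)⁻¹ x) dᶜ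
    rw [Cfsg.Agent.Lib.Helper9.Chain1.apply_inv_self'] at h5 h6
    rw [hc, Finset.mem_compl, Finset.mem_compl] at h6
    rw [h5]
    exact not_iff_not.mp h6.symm
  · rw [Equiv.Perm.mul_apply, e3, g3]
  · rw [Equiv.Perm.mul_apply, e4, g4]

/-- two octads avoiding `p` and `q` are exchanged by a permutation fixing `p` and `q` -/
theorem exists_map_octad_out2 (o o' : Finset GolayPt) (ho : o ∈ octads) (ho' : o' ∈ octads)
    (p q : GolayPt) (hpq : p ≠ q) (hp : p ∉ o) (hq : q ∉ o) (hp' : p ∉ o') (hq' : q ∉ o') :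
    ∃ h ∈ M24, h • o = o' ∧ h p = p ∧ h q = q := by
  obtain ⟨t, ht, hto, htp, htq⟩ := exists_std_two_out o ho p q hp hq hpq
  obtain ⟨s, hs, hso, hsp, hsq⟩ := exists_std_two_out o' ho' p q hp' hq' hpq
  refine ⟨s⁻¹ * t, M24.mul_mem (M24.inv_mem hs) ht, ?_, ?_, ?_⟩
  · rw [mul_smul, hto, ← hso, inv_smul_smul]
  · rw [Equiv.Perm.mul_apply, htp, ← hsp, Cfsg.Agent.Lib.Helper9.Chain1.inv_apply_self']
  · rw [Equiv.Perm.mul_apply, htq, ← hsq, Cfsg.Agent.Lib.Helper9.Chain1.inv_apply_self']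

/-- standard position for an octad through the two standard points and a point outside it -/
theorem exists_std_in2_out1 (o : Finset GolayPt) (ho : o ∈ octads) (hn : (none : GolayPt) ∈ o)
    (h0 : (some 0 : GolayPt) ∈ o) (p : GolayPt) (hp : p ∉ o) :
    ∃ t ∈ M24, t • o = Cfsg.Agent.Lib.Helper9.M24T8.O8 ∧ t none = none ∧ t (some 0) = some 0 ∧
      t p = some 4 := by
  obtain ⟨t1, ht1, h1o, h1n, h10⟩ := Cfsg.Agent.Lib.Helper9.M24X11.exists_std_pq_in none (some 0)
    (by decide) o ho hn h0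
  have hp1 : t1 p ∉ Cfsg.Agent.Lib.Helper9.M24T8.L8 := by
    rw [← Cfsg.Agent.Lib.Helper9.M24T8.mem_O8, ← h1o, Cfsg.Agent.Lib.Helper9.M24X1.smul_mem_iff]
    exact hp
  obtain ⟨a1, a2, a3, a4, ha⟩ := Cfsg.Agent.Lib.Helper9.M24T8.eprod_cover _ hp1
  have hmem := Cfsg.Agent.Lib.Helper9.M24T8.eprod_mem a1 a2 a3 a4
  refine ⟨(Cfsg.Agent.Lib.Helper9.M24T8.eprod a1 a2 a3 a4)⁻¹ * t1,
    M24.mul_mem (M24.inv_mem hmem.1) ht1, ?_, ?_, ?_, ?_⟩
  · rw [mul_smul, h1o, inv_smul_eq_iff, Cfsg.Agent.Lib.Helper9.M24X1.eprod_smul_O8]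
  · rw [Equiv.Perm.mul_apply, h1n, Equiv.Perm.inv_eq_iff_eq]
    exact (hmem.2 none (by decide)).symm
  · rw [Equiv.Perm.mul_apply, h10, Equiv.Perm.inv_eq_iff_eq]
    exact (hmem.2 (some 0) (by decide)).symm
  · rw [Equiv.Perm.mul_apply, ← ha, Cfsg.Agent.Lib.Helper9.Chain1.inv_apply_self']

/-! ### shape `(2¹², 0¹²)`, the dodecad containing the two standard points -/

def La0 : List ℤ := [-2, 2, 2, 2, 2, 2, 0, 2, 0, 0, 0, 2, 0, 0, 0, 0, 0, 0, 2, 0, 0, 2, 2, -2]

theorem La0_mem : vecL La0 ∈ leechLattice :=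
  mem_of_data _ 0 14944447 (Or.inl rfl) (by decide +kernel) (by decide +kernel)
    (by decide +kernel)

def a0 : leechLattice := ⟨vecL La0, La0_mem⟩

theorem fixa0 (w : leechLattice) (habs : ∀ i, |w.1 i| = |a0.1 i|) (hn : w.1 none = a0.1 none)
    (h0 : w.1 (some 0) = a0.1 (some 0)) : RelF w a0 :=
  sign_fix_lists_F a0 []
    [some 0, some 1, some 2, some 3, some 4, some 5, some 7, some 11, some 18, some 21, some 22,
      none]
    [185603, 530245, 1618953, 1737489, 684577, 582081, 1661185, 902657, 3172097, 4924673, 8499969,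
      705094, 1728778, 1594898, 567074, 668866, 1805314, 987906, 3322370, 4845570, 8611330,
      1090380, 1217620, 157028, 63108, 1134148, 381252, 3698756, 4403780, 9020484, 145176,
      1230376, 1070536, 126216, 1405448, 2675464, 5476616, 10028808, 1110320, 1204944, 252432,
      1525008, 2810896, 5350928, 10170384, 168928, 1256224, 504864, 3806496, 4282144, 9158944,
      1161408, 337856, 3704512, 4441280, 8999616, 1351424, 2702848, 5405696, 10021376, 4038912,
      4645632, 9204992, 8077824, 11654144, 13276672]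
    (by decide +kernel) (by decide +kernel) (by decide +kernel) (by decide +kernel)
    (by decide +kernel) (by decide +kernel) (by decide +kernel) w habs hn h0

theorem a0_abs : ∀ k : GolayPt, |a0.1 k| = if (14944447).testBit (idx k) = true then 2 else 0 := by
  decide +kernel

theorem nf_a0 (x : leechLattice) (hp : par x.1 = 0) (h2 : cnt x.1 2 = 12) (h0 : cnt x.1 0 = 12)
    (hc : (cl x.1).card = 12) (hxn : x.1 none = -2) (hx0 : x.1 (some 0) = -2) : RelF x a0 := by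
  have hst := cl_of_two x hp 12 h2 (by omega)
  have hO : cl x.1 ∈ dodecads := ⟨cl_mem_Code x, hc⟩
  have hnO : (none : GolayPt) ∈ cl x.1 := (hst none).1.mpr (by rw [hxn]; rfl)
  have h0O : (some 0 : GolayPt) ∈ cl x.1 := (hst (some 0)).1.mpr (by rw [hx0]; rfl)
  obtain ⟨t, ht, htO, htn, ht0⟩ := exists_map_dodecad_pq _ _ hO Dstd_mem none (some 0) (by decide)
    hnO h0O (by rw [mem_M]; decide +kernel) (by rw [mem_M]; decide +kernel)
  have e0 : t⁻¹ none = none := by
    rw [Equiv.Perm.inv_eq_iff_eq]; exact htn.symm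
  have e1 : t⁻¹ (some 0) = some 0 := by
    rw [Equiv.Perm.inv_eq_iff_eq]; exact ht0.symm
  refine relF_of_perm a0 x t⁻¹ (M24.inv_mem ht) e0 e1 fixa0 (fun k => ?_)
    (by rw [hxn]; decide +kernel) (by rw [hx0]; decide +kernel)
  rw [a0_abs k]
  have hk := testBit_iff' 14944447 t _ htO k
  by_cases hm : t⁻¹ k ∈ cl x.1
  · rw [if_pos (hk.mpr hm)]
    exact (hst _).1.mp hm
  · rw [if_neg (fun h => hm (hk.mp h)), (hst _).2 hm]
    rfl

/-! ### shape `(4, 2⁸, 0¹⁵)` -/

def Lb1 : List ℤ := [0, -2, 0, 2, 0, 0, 2, 2, 0, 0, 2, 0, 0, 0, 0, 0, 0, 0, 2, 0, 0, 2, 2, -4]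
def Lb2 : List ℤ := [-4, -2, 0, 2, 0, 0, 2, 2, 0, 0, 2, 0, 0, 0, 0, 0, 0, 0, 2, 0, 0, 2, 2, 0]
def Lb3 : List ℤ := [-2, -2, 2, 2, 4, 2, 0, 0, 0, 0, 0, 0, 0, 0, 2, 0, 0, 2, 0, 0, 0, 0, 0, -2]

theorem Lb1_mem : vecL Lb1 ∈ leechLattice :=
  mem_of_data _ 0 6554826 (Or.inl rfl) (by decide +kernel) (by decide +kernel)
    (by decide +kernel)
theorem Lb2_mem : vecL Lb2 ∈ leechLattice :=
  mem_of_data _ 0 6554826 (Or.inl rfl) (by decide +kernel) (by decide +kernel)
    (by decide +kernel)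
theorem Lb3_mem : vecL Lb3 ∈ leechLattice :=
  mem_of_data _ 0 8536111 (Or.inl rfl) (by decide +kernel) (by decide +kernel)
    (by decide +kernel)

def b1 : leechLattice := ⟨vecL Lb1, Lb1_mem⟩
def b2 : leechLattice := ⟨vecL Lb2, Lb2_mem⟩
def b3 : leechLattice := ⟨vecL Lb3, Lb3_mem⟩

def Wb : List ℕ := [10021376, 1302533, 10558, 596054, 545190, 138790, 2089522, 2685494, 5268006,
  602472, 555160, 145176, 2083596, 2675464, 5262104, 84464, 722544, 1505892, 2220640, 5864048,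
  675712, 1553300, 2141072, 5780352, 1965076, 2810896, 5405696, 3610628, 5210132, 7903248]

theorem fixb1 (w : leechLattice) (habs : ∀ i, |w.1 i| = |b1.1 i|) (hn : w.1 none = b1.1 none)
    (h0 : w.1 (some 0) = b1.1 (some 0)) : RelF w b1 :=
  sign_fix_lists_F b1 [none, some 0]
    [some 1, some 3, some 6, some 7, some 10, some 18, some 21, some 22] Wb
    (by decide +kernel) (by decide +kernel) (by decide +kernel) (by decide +kernel)
    (by decide +kernel) (by decide +kernel) (by decide +kernel) w habs hn h0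

theorem fixb2 (w : leechLattice) (habs : ∀ i, |w.1 i| = |b2.1 i|) (hn : w.1 none = b2.1 none)
    (h0 : w.1 (some 0) = b2.1 (some 0)) : RelF w b2 :=
  sign_fix_lists_F b2 [none, some 0]
    [some 1, some 3, some 6, some 7, some 10, some 18, some 21, some 22] Wb
    (by decide +kernel) (by decide +kernel) (by decide +kernel) (by decide +kernel)
    (by decide +kernel) (by decide +kernel) (by decide +kernel) w habs hn h0

theorem fixb3 (w : leechLattice) (habs : ∀ i, |w.1 i| = |b3.1 i|) (hn : w.1 none = b3.1 none)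
    (h0 : w.1 (some 0) = b3.1 (some 0)) : RelF w b3 :=
  sign_fix_lists_F b3 [some 4]
    [none, some 0, some 1, some 2, some 3, some 5, some 14, some 17]
    [7903248, 12325377, 13909442, 10861956, 11548936, 14760928, 10021376, 13276672, 6827971,
      1683333, 797449, 6105569, 2422785, 7767041, 7438406, 6554826, 3474978, 5035970, 2010050,
      1410188, 4490852, 4020100, 7285636, 5309160, 2675464, 8040200, 7983584, 2862560, 5405696]
    (by decide +kernel) (by decide +kernel) (by decide +kernel) (by decide +kernel)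
    (by decide +kernel) (by decide +kernel) (by decide +kernel) w habs hn h0

theorem b1_abs : ∀ k : GolayPt, |b1.1 k| =
    if k = none then 4 else if (6554826).testBit (idx k) = true then 2 else 0 := by
  decide +kernel

theorem b2_abs : ∀ k : GolayPt, |b2.1 k| =
    if k = some 0 then 4 else if (6554826).testBit (idx k) = true then 2 else 0 := by
  decide +kernel

theorem b3_abs : ∀ k : GolayPt, |b3.1 k| =
    if k = some 4 then 4 else if (8536111).testBit (idx k) = true then 2 else 0 := by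
  decide +kernel

theorem Ob_mem : M 6554826 ∈ octads :=
  ⟨mask_mem_Code _ (by decide +kernel), by rw [card_M]; decide +kernel⟩

/-- normal form for the shape `(4, 2⁸, 0¹⁵)` with the entry `±4` at the standard point `p` and
the octad avoiding both standard points -/
theorem nf_b12 (x r : leechLattice) (p q : GolayPt) (hpq : (p = none ∧ q = some 0) ∨
      (p = some 0 ∧ q = none))
    (hrabs : ∀ k : GolayPt, |r.1 k| =
      if k = p then 4 else if (6554826).testBit (idx k) = true then 2 else 0)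
    (hfix : ∀ w : leechLattice, (∀ i, |w.1 i| = |r.1 i|) → w.1 none = r.1 none →
      w.1 (some 0) = r.1 (some 0) → RelF w r)
    (hp : par x.1 = 0) (h4 : cnt x.1 4 = 1) (h2 : cnt x.1 2 = 8) (h0 : cnt x.1 0 = 15)
    (hc : (cl x.1).card = 8) (hxp : |x.1 p| = 4) (hxq : x.1 q = 0)
    (hxn : x.1 none = r.1 none) (hx0 : x.1 (some 0) = r.1 (some 0)) : RelF x r := by
  have hst := cl_of_024 x hp (by omega)
  have hO : cl x.1 ∈ octads := ⟨cl_mem_Code x, hc⟩
  obtain ⟨p', hp4, huniq⟩ := cnt_one x.1 4 h4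
  have hpp : p = p' := huniq p hxp
  have hpO : p ∉ cl x.1 := by
    intro h
    have := (hst p).1.mp h
    omega
  have hqO : q ∉ cl x.1 := by
    intro h
    have := (hst q).1.mp h
    rw [hxq] at this
    norm_num at this
  have hpqne : p ≠ q := by
    rcases hpq with ⟨h1, h2⟩ | ⟨h1, h2⟩ <;> rw [h1, h2] <;> decide
  have hpM : p ∉ M 6554826 := by
    rcases hpq with ⟨h1, -⟩ | ⟨h1, -⟩ <;> rw [h1, mem_M] <;> decide +kernel
  have hqM : q ∉ M 6554826 := by
    rcases hpq with ⟨-, h1⟩ | ⟨-, h1⟩ <;> rw [h1, mem_M] <;> decide +kernel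
  obtain ⟨t, ht, htO, htp, htq⟩ := exists_map_octad_out2 _ _ hO Ob_mem p q hpqne hpO hqO hpM hqM
  have ep : t⁻¹ p = p := by
    rw [Equiv.Perm.inv_eq_iff_eq]; exact htp.symm
  have eq : t⁻¹ q = q := by
    rw [Equiv.Perm.inv_eq_iff_eq]; exact htq.symm
  have e0 : t⁻¹ none = none := by
    rcases hpq with ⟨h1, h2⟩ | ⟨h1, h2⟩
    · rw [← h1]; exact ep
    · rw [← h2]; exact eq
  have e1 : t⁻¹ (some 0) = some 0 := by
    rcases hpq with ⟨h1, h2⟩ | ⟨h1, h2⟩
    · rw [← h2]; exact eq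
    · rw [← h1]; exact ep
  refine relF_of_perm r x t⁻¹ (M24.inv_mem ht) e0 e1 hfix (fun k => ?_) hxn hx0
  rw [hrabs k]
  have hk := testBit_iff' 6554826 t _ htO k
  by_cases hkp : k = p
  · rw [if_pos hkp, hkp, ep]
    exact hxp
  rw [if_neg hkp]
  have hne : t⁻¹ k ≠ p' := by
    intro h
    apply hkp
    rw [← hpp, ← ep] at h
    exact (t⁻¹).injective h
  by_cases hm : t⁻¹ k ∈ cl x.1
  · rw [if_pos (hk.mpr hm)]
    exact (hst _).1.mp hm
  · rw [if_neg (fun h => hm (hk.mp h))]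
    rcases (hst _).2 hm with h | h
    · exact h
    · exact absurd (huniq _ h) hne

/-- normal form for the shape `(4, 2⁸, 0¹⁵)` with the octad through both standard points -/
theorem nf_b3 (x : leechLattice) (hp : par x.1 = 0) (h4 : cnt x.1 4 = 1) (h2 : cnt x.1 2 = 8)
    (h0 : cnt x.1 0 = 15) (hc : (cl x.1).card = 8) (hxn : x.1 none = -2)
    (hx0 : x.1 (some 0) = -2) : RelF x b3 := by
  have hst := cl_of_024 x hp (by omega)
  have hO : cl x.1 ∈ octads := ⟨cl_mem_Code x, hc⟩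
  obtain ⟨p, hp4, huniq⟩ := cnt_one x.1 4 h4
  have hpO : p ∉ cl x.1 := by
    intro h
    have := (hst p).1.mp h
    omega
  have hnO : (none : GolayPt) ∈ cl x.1 := (hst none).1.mpr (by rw [hxn]; rfl)
  have h0O : (some 0 : GolayPt) ∈ cl x.1 := (hst (some 0)).1.mpr (by rw [hx0]; rfl)
  obtain ⟨t, ht, htO, htn, ht0, htp⟩ := exists_std_in2_out1 _ hO hnO h0O p hpO
  have e0 : t⁻¹ none = none := by
    rw [Equiv.Perm.inv_eq_iff_eq]; exact htn.symm
  have e1 : t⁻¹ (some 0) = some 0 := by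
    rw [Equiv.Perm.inv_eq_iff_eq]; exact ht0.symm
  refine relF_of_perm b3 x t⁻¹ (M24.inv_mem ht) e0 e1 fixb3 (fun k => ?_)
    (by rw [hxn]; decide +kernel) (by rw [hx0]; decide +kernel)
  rw [b3_abs k]
  have hk := testBit_iff t _ htO k
  by_cases hk4 : k = some 4
  · rw [if_pos hk4, hk4, ← htp, Cfsg.Agent.Lib.Helper9.Chain1.inv_apply_self']
    exact hp4
  rw [if_neg hk4]
  have hne : t⁻¹ k ≠ p := by
    intro h
    apply hk4
    rw [← htp, ← h, Cfsg.Agent.Lib.Helper9.Chain1.apply_inv_self']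
  by_cases hm : t⁻¹ k ∈ cl x.1
  · rw [if_pos (hk.mpr hm)]
    exact (hst _).1.mp hm
  · rw [if_neg (fun h => hm (hk.mp h))]
    rcases (hst _).2 hm with h | h
    · exact h
    · exact absurd (huniq _ h) hne

end Cfsg.Agent.Lib.Helper9.LeechP7
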