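import Cfsg.Agent.Lib.Helper9.LeechP7

set_option autoImplicit false

/-! Pairs consisting of a minimal vector and a vector of sum of squares 48 with inner
product `-16` form a single orbit. -/

namespace Cfsg.Agent.Lib.Helper9.LeechP8

open Cfsg Finset Cfsg.Agent.Lib.Helper4.Leech Cfsg.Agent.Lib.Helper9.Golay1
  Cfsg.Agent.Lib.Helper9.LeechM1 Cfsg.Agent.Lib.Helper9.LeechX4
  Cfsg.Agent.Lib.Helper9.LeechX5 Cfsg.Agent.Lib.Helper9.LeechX6
  Cfsg.Agent.Lib.Helper9.LeechX7 Cfsg.Agent.Lib.Helper9.LeechX8 Cfsg.Agent.Lib.Helper9.LeechX9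
  Cfsg.Agent.Lib.Helper9.LeechX10 Cfsg.Agent.Lib.Helper9.LeechX11
  Cfsg.Agent.Lib.Helper9.LeechP1 Cfsg.Agent.Lib.Helper9.LeechP2 Cfsg.Agent.Lib.Helper9.LeechP3
  Cfsg.Agent.Lib.Helper9.LeechP4 Cfsg.Agent.Lib.Helper9.LeechP5 Cfsg.Agent.Lib.Helper9.LeechP7
  Cfsg.Agent.Lib.Helper9.LeechC7
open Cfsg.Agent.Lib.Helper9.LeechC2 (fwd bwd par cl mem_lev')

/-- a permutation in the group fixing the two standard points and moving `some 1`, `some 2` to
`a`, `b` -/
theorem exists_fix4 (a b : GolayPt) (ha : a ≠ none) (ha0 : a ≠ some 0) (hb : b ≠ none)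
    (hb0 : b ≠ some 0) (hab : a ≠ b) :
    ∃ h ∈ M24, h none = none ∧ h (some 0) = some 0 ∧ h (some 1) = a ∧ h (some 2) = b := by
  obtain ⟨h, hh, hmap⟩ := Cfsg.Agent.Lib.Helper9.M24T7.exists_mapn 4 (by norm_num)
    (fun n => if n = 0 then none else if n = 1 then some 0 else if n = 2 then a else b) (by
      intro p hp q hq hpq
      have : p = 0 ∨ p = 1 ∨ p = 2 ∨ p = 3 := by omega
      have : q = 0 ∨ q = 1 ∨ q = 2 ∨ q = 3 := by omega
      rcases ‹p = 0 ∨ p = 1 ∨ p = 2 ∨ p = 3› with rfl | rfl | rfl | rfl <;>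
        rcases ‹q = 0 ∨ q = 1 ∨ q = 2 ∨ q = 3› with rfl | rfl | rfl | rfl <;> simp_all)
  exact ⟨h, hh, hmap 0 (by norm_num), hmap 1 (by norm_num), hmap 2 (by norm_num),
    hmap 3 (by norm_num)⟩

/-- the structure of an odd vector of shape `(3³, 1²¹)` with an entry `±3` at `p` -/
theorem odd_abs3 (x : leechLattice) (p : GolayPt) (h3 : cnt x.1 3 = 3) (h1 : cnt x.1 1 = 21)
    (hp : |x.1 p| = 3) : ∃ a b, a ≠ b ∧ a ≠ p ∧ b ≠ p ∧
      ∀ i, |x.1 i| = if i = p ∨ i = a ∨ i = b then 3 else 1 := by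
  obtain ⟨i, j, l, hij, hil, hjl, hi, hj, hl, huniq⟩ := cnt_three x.1 3 h3
  have hcov := cover x.1 {1, 3} (by rw [Finset.sum_pair (by norm_num)]; omega)
  have fin : ∀ a b : GolayPt, a ≠ b → a ≠ p → b ≠ p → |x.1 a| = 3 → |x.1 b| = 3 →
      (∀ t, |x.1 t| = 3 → t = p ∨ t = a ∨ t = b) →
      ∃ a b, a ≠ b ∧ a ≠ p ∧ b ≠ p ∧ ∀ i, |x.1 i| = if i = p ∨ i = a ∨ i = b then 3 else 1 := by
    intro a b hab hap hbp ha hb hu
    refine ⟨a, b, hab, hap, hbp, fun t => ?_⟩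
    by_cases ht : t = p ∨ t = a ∨ t = b
    · rw [if_pos ht]
      rcases ht with rfl | rfl | rfl
      · exact hp
      · exact ha
      · exact hb
    · rw [if_neg ht]
      have := hcov t
      simp only [mem_insert, mem_singleton] at this
      rcases this with h | h
      · exact h
      · exact absurd (hu t h) ht
  rcases huniq p hp with h | h | h
  · subst h
    exact fin j l hjl (Ne.symm hij) (Ne.symm hil) hj hl huniq
  · subst h
    exact fin i l hil hij (Ne.symm hjl) hi hl (fun t ht => by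
      rcases huniq t ht with h | h | h
      · right; left; exact h
      · left; exact h
      · right; right; exact h)
  · subst h
    exact fin i j hij hil hjl hi hj (fun t ht => by
      rcases huniq t ht with h | h | h
      · right; left; exact h
      · right; right; exact h
      · left; exact h)

/-! ### odd representatives -/

def Lc1 : List ℤ := [-1, -3, -3, -1, -1, 1, -1, 1, 1, 1, 1, -1, -1, -1, 1, 1, -1, 1, -1, -1, -1, -1, 1, -3]
def Lc2 : List ℤ := [-3, -3, 3, -1, 1, -1, 1, 1, 1, 1, -1, 1, -1, -1, 1, 1, -1, 1, -1, -1, -1, -1, 1, -1]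

theorem Lc1_mem : vecL Lc1 ∈ leechLattice :=
  mem_of_data _ 1 12765094 (Or.inr rfl) (by decide +kernel) (by decide +kernel)
    (by decide +kernel)
theorem Lc2_mem : vecL Lc2 ∈ leechLattice :=
  mem_of_data _ 1 4377555 (Or.inr rfl) (by decide +kernel) (by decide +kernel)
    (by decide +kernel)

def c1 : leechLattice := ⟨vecL Lc1, Lc1_mem⟩
def c2 : leechLattice := ⟨vecL Lc2, Lc2_mem⟩

theorem c1_abs : ∀ k : GolayPt, |c1.1 k| = if k = none ∨ k = some 1 ∨ k = some 2 then 3 else 1 := by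
  decide +kernel

theorem c2_abs : ∀ k : GolayPt, |c2.1 k| = if k = some 0 ∨ k = some 1 ∨ k = some 2 then 3 else 1 := by
  decide +kernel

/-- normal form of the odd vectors of shape `(3³, 1²¹)` with an entry `±3` at exactly one of the
two standard points -/
theorem nf_c (x r : leechLattice) (p q : GolayPt) (hpq : (p = none ∧ q = some 0) ∨
      (p = some 0 ∧ q = none))
    (hrabs : ∀ k : GolayPt, |r.1 k| = if k = p ∨ k = some 1 ∨ k = some 2 then 3 else 1)
    (hrp : par r.1 = 1)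
    (h3 : cnt x.1 3 = 3) (h1 : cnt x.1 1 = 21) (hxp : |x.1 p| = 3)
    (hxq : |x.1 q| = 1) (hxn : x.1 none = r.1 none) (hx0 : x.1 (some 0) = r.1 (some 0)) :
    RelF x r := by
  obtain ⟨a, b, hab, hap, hbp, habs⟩ := odd_abs3 x p h3 h1 hxp
  have haq : a ≠ q := by
    intro h
    have := habs a
    rw [if_pos (Or.inr (Or.inl rfl)), h, hxq] at this
    norm_num at this
  have hbq : b ≠ q := by
    intro h
    have := habs b
    rw [if_pos (Or.inr (Or.inr rfl)), h, hxq] at this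
    norm_num at this
  have han : a ≠ none := by
    rcases hpq with ⟨h1, h2⟩ | ⟨h1, h2⟩
    · rw [← h1]; exact hap
    · rw [← h2]; exact haq
  have ha0 : a ≠ some 0 := by
    rcases hpq with ⟨h1, h2⟩ | ⟨h1, h2⟩
    · rw [← h2]; exact haq
    · rw [← h1]; exact hap
  have hbn : b ≠ none := by
    rcases hpq with ⟨h1, h2⟩ | ⟨h1, h2⟩
    · rw [← h1]; exact hbp
    · rw [← h2]; exact hbq
  have hb0 : b ≠ some 0 := by
    rcases hpq with ⟨h1, h2⟩ | ⟨h1, h2⟩
    · rw [← h2]; exact hbq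
    · rw [← h1]; exact hbp
  obtain ⟨h, hh, e0, e1, e2, e3⟩ := exists_fix4 a b han ha0 hbn hb0 hab
  have hpfix : h p = p := by
    rcases hpq with ⟨h1, -⟩ | ⟨h1, -⟩
    · rw [h1]; exact e0
    · rw [h1]; exact e1
  refine relF_of_perm r x h hh e0 e1 ?_ (fun k => ?_) hxn hx0
  · intro w hwabs hwn hw0
    refine sign_fix_odd_F w r ?_ hrp hwabs hwn hw0
    unfold par at hrp ⊢
    rw [hwn]; exact hrp
  · rw [habs, hrabs]
    have hiff : (h k = p ∨ h k = a ∨ h k = b) ↔ (k = p ∨ k = some 1 ∨ k = some 2) := by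
      constructor
      · rintro (h' | h' | h')
        · left; rw [← hpfix] at h'; exact h.injective h'
        · right; left; rw [← e2] at h'; exact h.injective h'
        · right; right; rw [← e3] at h'; exact h.injective h'
      · rintro (h' | h' | h')
        · left; rw [h', hpfix]
        · right; left; rw [h', e2]
        · right; right; rw [h', e3]
    by_cases hk : k = p ∨ k = some 1 ∨ k = some 2
    · rw [if_pos hk, if_pos (hiff.mpr hk)]
    · rw [if_neg hk, if_neg (fun h' => hk (hiff.mp h'))]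

/-- the structure of an odd vector of shape `(5, 1²³)` with an entry `±5` at `p` -/
theorem odd_abs5 (x : leechLattice) (p : GolayPt) (h5 : cnt x.1 5 = 1) (h1 : cnt x.1 1 = 23)
    (hp : |x.1 p| = 5) : ∀ i, |x.1 i| = if i = p then 5 else 1 := by
  obtain ⟨q, hq, huniq⟩ := cnt_one x.1 5 h5
  have hcov := cover x.1 {1, 5} (by rw [Finset.sum_pair (by norm_num)]; omega)
  have hpq : p = q := huniq p hp
  intro i
  by_cases hi : i = p
  · rw [if_pos hi, hi, hp]
  · rw [if_neg hi]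
    have := hcov i
    simp only [mem_insert, mem_singleton] at this
    rcases this with h | h
    · exact h
    · exact absurd ((huniq i h).trans hpq.symm) hi

/-- classification of the vectors of sum of squares 48 with entry sum `-4` at the two standard
points -/
theorem classify48 (x : leechLattice) (hn : sqNorm x.1 = 48)
    (hs : x.1 none + x.1 (some 0) = -4) :
    (x.1 none = -2 ∧ x.1 (some 0) = -2 ∧ par x.1 = 0 ∧ cnt x.1 2 = 12 ∧ cnt x.1 0 = 12 ∧
      (cl x.1).card = 12) ∨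
    (x.1 none = -4 ∧ x.1 (some 0) = 0 ∧ par x.1 = 0 ∧ cnt x.1 4 = 1 ∧ cnt x.1 2 = 8 ∧
      cnt x.1 0 = 15 ∧ (cl x.1).card = 8) ∨
    (x.1 none = 0 ∧ x.1 (some 0) = -4 ∧ par x.1 = 0 ∧ cnt x.1 4 = 1 ∧ cnt x.1 2 = 8 ∧
      cnt x.1 0 = 15 ∧ (cl x.1).card = 8) ∨
    (x.1 none = -2 ∧ x.1 (some 0) = -2 ∧ par x.1 = 0 ∧ cnt x.1 4 = 1 ∧ cnt x.1 2 = 8 ∧
      cnt x.1 0 = 15 ∧ (cl x.1).card = 8) ∨
    (x.1 none = -3 ∧ x.1 (some 0) = -1 ∧ par x.1 = 1 ∧ cnt x.1 3 = 3 ∧ cnt x.1 1 = 21) ∨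
    (x.1 none = -1 ∧ x.1 (some 0) = -3 ∧ par x.1 = 1 ∧ cnt x.1 3 = 3 ∧ cnt x.1 1 = 21) ∨
    (x.1 none = -5 ∧ x.1 (some 0) = 1 ∧ par x.1 = 1 ∧ cnt x.1 5 = 1 ∧ cnt x.1 1 = 23) ∨
    (x.1 none = 1 ∧ x.1 (some 0) = -5 ∧ par x.1 = 1 ∧ cnt x.1 5 = 1 ∧ cnt x.1 1 = 23) := by
  rcases shapes48 x.1 x.2 hn with ⟨hp, h2, h0, hc⟩ | ⟨hp, h4, h2, h0, hc⟩ | ⟨hp, h3, h1⟩ |
    ⟨hp, h5, h1⟩
  · have hcov := cover x.1 {0, 2} (by rw [Finset.sum_pair (by norm_num)]; omega)
    have a := hcov none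
    have b := hcov (some 0)
    simp only [mem_insert, mem_singleton] at a b
    have h6 : x.1 none = -2 ∧ x.1 (some 0) = -2 := by
      rcases abs_cases (x.1 none) with ⟨a1, a2⟩ | ⟨a1, a2⟩ <;>
        rcases abs_cases (x.1 (some 0)) with ⟨b1, b2⟩ | ⟨b1, b2⟩ <;> omega
    exact Or.inl ⟨h6.1, h6.2, hp, h2, h0, hc⟩
  · have hcov := cover x.1 {0, 2, 4} (by
      rw [Finset.sum_insert (by norm_num), Finset.sum_pair (by norm_num)]; omega)
    have a := hcov none
    have b := hcov (some 0)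
    simp only [mem_insert, mem_singleton] at a b
    have h6 : (x.1 none = -4 ∧ x.1 (some 0) = 0) ∨ (x.1 none = 0 ∧ x.1 (some 0) = -4) ∨
        (x.1 none = -2 ∧ x.1 (some 0) = -2) := by
      rcases abs_cases (x.1 none) with ⟨a1, a2⟩ | ⟨a1, a2⟩ <;>
        rcases abs_cases (x.1 (some 0)) with ⟨b1, b2⟩ | ⟨b1, b2⟩ <;> omega
    rcases h6 with ⟨e1, e2⟩ | ⟨e1, e2⟩ | ⟨e1, e2⟩
    · exact Or.inr (Or.inl ⟨e1, e2, hp, h4, h2, h0, hc⟩)
    · exact Or.inr (Or.inr (Or.inl ⟨e1, e2, hp, h4, h2, h0, hc⟩))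
    · exact Or.inr (Or.inr (Or.inr (Or.inl ⟨e1, e2, hp, h4, h2, h0, hc⟩)))
  · have hcov := cover x.1 {1, 3} (by rw [Finset.sum_pair (by norm_num)]; omega)
    have a := hcov none
    have b := hcov (some 0)
    simp only [mem_insert, mem_singleton] at a b
    have h6 : (x.1 none = -3 ∧ x.1 (some 0) = -1) ∨ (x.1 none = -1 ∧ x.1 (some 0) = -3) := by
      rcases abs_cases (x.1 none) with ⟨a1, a2⟩ | ⟨a1, a2⟩ <;>
        rcases abs_cases (x.1 (some 0)) with ⟨b1, b2⟩ | ⟨b1, b2⟩ <;> omega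
    rcases h6 with ⟨e1, e2⟩ | ⟨e1, e2⟩
    · exact Or.inr (Or.inr (Or.inr (Or.inr (Or.inl ⟨e1, e2, hp, h3, h1⟩))))
    · exact Or.inr (Or.inr (Or.inr (Or.inr (Or.inr (Or.inl ⟨e1, e2, hp, h3, h1⟩)))))
  · have hcov := cover x.1 {1, 5} (by rw [Finset.sum_pair (by norm_num)]; omega)
    have a := hcov none
    have b := hcov (some 0)
    simp only [mem_insert, mem_singleton] at a b
    have h6 : (x.1 none = -5 ∧ x.1 (some 0) = 1) ∨ (x.1 none = 1 ∧ x.1 (some 0) = -5) := by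
      rcases abs_cases (x.1 none) with ⟨a1, a2⟩ | ⟨a1, a2⟩ <;>
        rcases abs_cases (x.1 (some 0)) with ⟨b1, b2⟩ | ⟨b1, b2⟩ <;> omega
    rcases h6 with ⟨e1, e2⟩ | ⟨e1, e2⟩
    · exact Or.inr (Or.inr (Or.inr (Or.inr (Or.inr (Or.inr (Or.inl ⟨e1, e2, hp, h5, h1⟩))))))
    · exact Or.inr (Or.inr (Or.inr (Or.inr (Or.inr (Or.inr (Or.inr ⟨e1, e2, hp, h5, h1⟩))))))

/-- general position, for vectors of arbitrary sum of squares `N` and prescribed entries `a`, `b`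
at the two standard points in the standard position -/
theorem gen_pos' (N a b : ℤ) (L1 : ∀ w w' : leechLattice, sqNorm w.1 = N → sqNorm w'.1 = N →
      w.1 none = a → w'.1 none = a → w.1 (some 0) = b → w'.1 (some 0) = b → RelF w w')
    (v t w w' : leechLattice) (hv : sqNorm v.1 = 32) (ht : sqNorm t.1 = 64)
    (hvt : dotInt v.1 t.1 = 32) (hw : sqNorm w.1 = N) (hw' : sqNorm w'.1 = N)
    (hd : dotInt v.1 w.1 = 4 * a + 4 * b) (hd' : dotInt v.1 w'.1 = 4 * a + 4 * b)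
    (he : dotInt t.1 w.1 = 8 * a) (he' : dotInt t.1 w'.1 = 8 * a) : Rel2 v w v w' := by
  have ha : sqNorm (t - v).1 = 32 := by
    show sqNorm (t.1 - v.1) = 32
    rw [sqNorm_sub, ht, hv]
    have : dotInt t.1 v.1 = 32 := by
      rw [← hvt]; unfold dotInt
      exact Finset.sum_congr rfl (fun i _ => mul_comm _ _)
    rw [this]; norm_num
  have hva : dotInt v.1 (t - v).1 = 0 := by
    show dotInt v.1 (t.1 - v.1) = 0
    have : dotInt v.1 (t.1 - v.1) = dotInt v.1 t.1 - sqNorm v.1 := by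
      unfold dotInt sqNorm
      rw [← Finset.sum_sub_distrib]
      apply Finset.sum_congr rfl
      intro i _
      simp only [Pi.sub_apply]
      ring
    rw [this, hvt, hv]; norm_num
  obtain ⟨k, hk, hkt, hkv⟩ := to_std v (t - v) hv ha hva
  rw [add_sub_cancel] at hkt
  have hx : dotInt rA.1 (k w).1 = 4 * a + 4 * b := by rw [← hkv, dot_pres k hk]; exact hd
  have hx' : dotInt rA.1 (k w').1 = 4 * a + 4 * b := by rw [← hkv, dot_pres k hk]; exact hd'
  have h8 : dotInt r8.1 (k w).1 = 8 * a := by rw [← hkt, dot_pres k hk]; exact he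
  have h8' : dotInt r8.1 (k w').1 = 8 * a := by rw [← hkt, dot_pres k hk]; exact he'
  rw [dot_rA] at hx hx'
  rw [dot_r8] at h8 h8'
  obtain ⟨n, hn, hnx, hnf⟩ := L1 (k w) (k w') (by rw [hk.2, hw]) (by rw [hk.2, hw'])
    (by omega) (by omega) (by omega) (by omega)
  refine ⟨k⁻¹ * n * k, Co0.mul_mem (Co0.mul_mem (Co0.inv_mem hk) hn) hk, ?_, ?_⟩
  · rw [Equiv.Perm.mul_apply, Equiv.Perm.mul_apply, hkv, hnf rA sup2_rA, ← hkv]
    simp
  · rw [Equiv.Perm.mul_apply, Equiv.Perm.mul_apply, hnx]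
    simp

end Cfsg.Agent.Lib.Helper9.LeechP8
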