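import Cfsg.Agent.Lib.Helper9.LeechX12

set_option autoImplicit false

/-! Automorphisms acting trivially modulo twice the lattice are `± 1`. -/

namespace Cfsg.Agent.Lib.Helper9.LeechQ1

open Cfsg Finset Cfsg.Agent.Lib.Helper4.Leech Cfsg.Agent.Lib.Helper9.Golay1
  Cfsg.Agent.Lib.Helper9.LeechM1 Cfsg.Agent.Lib.Helper9.LeechX4
  Cfsg.Agent.Lib.Helper9.LeechX12 Cfsg.Agent.Lib.Helper9.LeechC7 Cfsg.Agent.Lib.Helper9.LeechC8

/-- the vector `a e_p + b e_q` -/
def pv (p q : GolayPt) (a b : ℤ) : G := Pi.single p a + Pi.single q b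

theorem pv_apply (p q : GolayPt) (a b : ℤ) (k : GolayPt) :
    pv p q a b k = (if k = p then a else 0) + (if k = q then b else 0) := by
  unfold pv
  simp [Pi.single_apply]

theorem pv_mem (p q : GolayPt) (a b : ℤ) (ha : a % 4 = 0) (hb : b % 4 = 0)
    (hab : (a + b) % 8 = 0) : pv p q a b ∈ leechLattice := by
  apply four_mem
  · intro k
    rw [pv_apply]
    split_ifs <;> omega
  · have : ∑ k, pv p q a b k = a + b := by
      unfold pv
      simp [Finset.sum_add_distrib]
    rw [this, hab]

theorem pv_norm (p q : GolayPt) (hpq : p ≠ q) (a b : ℤ) : sqNorm (pv p q a b) = a ^ 2 + b ^ 2 := by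
  unfold sqNorm
  have h : ∀ k, pv p q a b k ^ 2 = (if k = p then a ^ 2 else 0) + (if k = q then b ^ 2 else 0) := by
    intro k
    rw [pv_apply]
    by_cases h1 : k = p
    · subst h1
      simp [hpq]
    · by_cases h2 : k = q
      · subst h2
        simp [h1]
      · simp [h1, h2]
  rw [Finset.sum_congr rfl (fun k _ => h k), Finset.sum_add_distrib]
  simp

/-- the lattice vector `a e_p + b e_q` -/
def V (p q : GolayPt) (a b : ℤ) (ha : a % 4 = 0) (hb : b % 4 = 0) (hab : (a + b) % 8 = 0) :
    leechLattice := ⟨pv p q a b, pv_mem p q a b ha hb hab⟩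

/-- the vector `4 e_∞ + 4 e_j` -/
def bj (j : GolayPt) : leechLattice := V none j 4 4 (by norm_num) (by norm_num) (by norm_num)

/-- the vector `4 e_∞ - 4 e_0` -/
def cv : leechLattice := V none (some 0) 4 (-4) (by norm_num) (by norm_num) (by norm_num)

theorem bj_norm (j : GolayPt) (hj : j ≠ none) : sqNorm (bj j).1 = 32 := by
  show sqNorm (pv none j 4 4) = 32
  rw [pv_norm none j (Ne.symm hj)]; norm_num

theorem cv_norm : sqNorm cv.1 = 32 := by
  show sqNorm (pv none (some 0) 4 (-4)) = 32
  rw [pv_norm none (some 0) (by decide)]; norm_num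

theorem bj_sub (j : GolayPt) (hj : j ≠ none) (hj0 : j ≠ some 0) :
    sqNorm (bj j - bj (some 0)).1 = 32 := by
  have : (bj j - bj (some 0)).1 = pv j (some 0) 4 (-4) := by
    funext k
    show pv none j 4 4 k - pv none (some 0) 4 4 k = pv j (some 0) 4 (-4) k
    simp only [pv_apply]
    split_ifs <;> omega
  rw [this, pv_norm j (some 0) hj0]; norm_num

theorem bj_sub_cv (j : GolayPt) (hj : j ≠ none) (hj0 : j ≠ some 0) :
    sqNorm (bj j - cv).1 = 32 := by
  have : (bj j - cv).1 = pv j (some 0) 4 4 := by
    funext k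
    show pv none j 4 4 k - pv none (some 0) 4 (-4) k = pv j (some 0) 4 4 k
    simp only [pv_apply]
    split_ifs <;> omega
  rw [this, pv_norm j (some 0) hj0]; norm_num

theorem E_none_eq : E none = bj (some 0) + cv := by
  apply Subtype.ext
  funext k
  show (E none).1 k = pv none (some 0) 4 4 k + pv none (some 0) 4 (-4) k
  rw [E_val]
  simp only [pv_apply, Pi.single_apply]
  split_ifs <;> omega

theorem E_add (j : GolayPt) (hj : j ≠ none) : E j + E none = bj j + bj j := by
  apply Subtype.ext
  funext k
  show (E j).1 k + (E none).1 k = pv none j 4 4 k + pv none j 4 4 k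
  rw [E_val, E_val]
  simp only [pv_apply, Pi.single_apply]
  split_ifs <;> omega

section main

variable (g : Equiv.Perm leechLattice) (hg : g ∈ Co0)
  (hc : ∀ v : leechLattice, ∃ w : leechLattice, (g v).1 - v.1 = 2 • w.1)

include hg hc

theorem pm_of_min (v : leechLattice) (hv : sqNorm v.1 = 32) : g v = v ∨ g v = -v := by
  obtain ⟨w, hw⟩ := hc v
  have h1 : mk (g v).1 = mk v.1 := (mk_eq_iff _ _).mpr ⟨w.1, w.2, hw⟩
  have hy : v.1 ∈ Lf 32 (by norm_num) := mem_Lf.mpr ⟨v.2, by exact_mod_cast hv⟩
  have hy' : (g v).1 ∈ Lf 32 (by norm_num) :=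
    mem_Lf.mpr ⟨(g v).2, by rw [hg.2 v]; exact_mod_cast hv⟩
  rcases cong_cases hy hy' h1.symm with h | h | ⟨h, -, -⟩
  · left; exact Subtype.ext h
  · right; exact Subtype.ext h
  · norm_num at h

/-- two minimal vectors whose difference is minimal get the same sign -/
theorem same_sign (v v' : leechLattice) (hv : sqNorm v.1 = 32) (hv' : sqNorm v'.1 = 32)
    (hd : sqNorm (v - v').1 = 32) :
    (g v = v ∧ g v' = v') ∨ (g v = -v ∧ g v' = -v') := by
  have hsub : g (v - v') = g v - g v' := by
    have h1 := hg.1 (v - v') v'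
    rw [sub_add_cancel] at h1
    rw [h1, add_sub_cancel_right]
  have hv0 : v ≠ 0 := by
    intro h; rw [h] at hv; simp [sqNorm] at hv
  have hv0' : v' ≠ 0 := by
    intro h; rw [h] at hv'; simp [sqNorm] at hv'
  have two_ne : ∀ x : leechLattice, x ≠ 0 → x + x ≠ 0 := by
    intro x hx h
    apply hx
    apply Subtype.ext
    funext k
    have := congrFun (congrArg Subtype.val h) k
    simp only [AddSubgroup.coe_add, Pi.add_apply, ZeroMemClass.coe_zero, Pi.zero_apply] at this
    show x.1 k = 0
    omega
  rcases pm_of_min g hg hc v hv with h1 | h1 <;> rcases pm_of_min g hg hc v' hv' with h2 | h2 <;>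
    rcases pm_of_min g hg hc (v - v') hd with h3 | h3
  · left; exact ⟨h1, h2⟩
  · left; exact ⟨h1, h2⟩
  · exfalso
    rw [hsub, h1, h2] at h3
    apply two_ne v' hv0'
    have e : v' + v' = (v - -v') - (v - v') := by abel
    rw [e, h3, sub_self]
  · exfalso
    rw [hsub, h1, h2] at h3
    apply two_ne v hv0
    have e : v + v = (v - -v') - -(v - v') := by abel
    rw [e, h3, sub_self]
  · exfalso
    rw [hsub, h1, h2] at h3
    apply two_ne v hv0
    have e : v + v = (v - v') - (-v - v') := by abel
    rw [e, h3, sub_self]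
  · exfalso
    rw [hsub, h1, h2] at h3
    apply two_ne v' hv0'
    have e : v' + v' = -(v - v') - (-v - v') := by abel
    rw [e, h3, sub_self]
  · right; exact ⟨h1, h2⟩
  · right; exact ⟨h1, h2⟩

theorem not_both (v : leechLattice) (hv : sqNorm v.1 = 32) (h1 : g v = v) (h2 : g v = -v) : False := by
  have hv0 : v ≠ 0 := by
    intro h; rw [h] at hv; simp [sqNorm] at hv
  apply hv0
  rw [h1] at h2
  apply Subtype.ext
  funext k
  have := congrFun (congrArg Subtype.val h2) k
  simp only [NegMemClass.coe_neg, Pi.neg_apply] at this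
  show v.1 k = 0
  omega

theorem same_pos (v v' : leechLattice) (hv : sqNorm v.1 = 32) (hv' : sqNorm v'.1 = 32)
    (hd : sqNorm (v - v').1 = 32) : g v = v ↔ g v' = v' := by
  rcases same_sign g hg hc v v' hv hv' hd with ⟨h1, h2⟩ | ⟨h1, h2⟩
  · exact ⟨fun _ => h2, fun _ => h1⟩
  · constructor
    · intro h; exact (not_both g hg hc v hv h h1).elim
    · intro h; exact (not_both g hg hc v' hv' h h2).elim

/-- an automorphism congruent to the identity modulo twice the lattice is `± 1` -/
theorem pm_all : (∀ v, g v = v) ∨ (∀ v, g v = -v) := by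
  have hb0 := bj_norm (some 0) (by decide)
  have hb : ∀ j, j ≠ none → (g (bj j) = bj j ↔ g (bj (some 0)) = bj (some 0)) := by
    intro j hj
    by_cases hj0 : j = some 0
    · rw [hj0]
    · exact same_pos g hg hc (bj j) (bj (some 0)) (bj_norm j hj) hb0 (bj_sub j hj hj0)
  have hcv : g cv = cv ↔ g (bj (some 0)) = bj (some 0) := by
    rw [← hb (some 1) (by decide)]
    exact (same_pos g hg hc (bj (some 1)) cv (bj_norm _ (by decide)) cv_norm
      (bj_sub_cv _ (by decide) (by decide))).symm
  have fin : ∀ (s : ℤ), (∀ i, g (E i) = s • E i) → ∀ v, g v = s • v := by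
    intro s hs v
    have h1 := apply_eight g hg v
    have h2 := eight_smul v
    simp only [hs] at h1
    have h3 : (8 : ℤ) • g v = s • ((8 : ℤ) • v) := by
      rw [h1, h2, Finset.smul_sum]
      apply Finset.sum_congr rfl
      intro i _
      rw [smul_comm]
    apply Subtype.ext
    funext k
    have := congrFun (congrArg Subtype.val h3) k
    simp only [AddSubgroup.coe_zsmul, Pi.smul_apply, smul_eq_mul] at this
    show (g v).1 k = s * v.1 k
    linarith
  by_cases h0 : g (bj (some 0)) = bj (some 0)
  · left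
    have hE0 : g (E none) = E none := by
      rw [E_none_eq, hg.1, h0, hcv.mpr h0]
    have := fin 1 (fun i => by
      rw [one_smul]
      by_cases hi : i = none
      · rw [hi]; exact hE0
      · have h1 : g (E i + E none) = E i + E none := by
          rw [E_add i hi, hg.1, (hb i hi).mpr h0]
        rw [hg.1, hE0] at h1
        exact add_right_cancel h1)
    intro v
    rw [this v, one_smul]
  · right
    have hneg : ∀ v : leechLattice, sqNorm v.1 = 32 → ¬ g v = v → g v = -v := by
      intro v hv hn
      rcases pm_of_min g hg hc v hv with h | h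
      · exact absurd h hn
      · exact h
    have n0 := hneg _ hb0 h0
    have ncv := hneg _ cv_norm (fun h => h0 (hcv.mp h))
    have hE0 : g (E none) = -E none := by
      rw [E_none_eq, hg.1, n0, ncv]; abel
    have := fin (-1) (fun i => by
      rw [neg_one_smul]
      by_cases hi : i = none
      · rw [hi]; exact hE0
      · have nb := hneg _ (bj_norm i hi) (fun h => h0 ((hb i hi).mp h))
        have h1 : g (E i + E none) = -(E i + E none) := by
          rw [E_add i hi, hg.1, nb]; abel
        rw [hg.1, hE0, neg_add] at h1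
        exact add_right_cancel h1)
    intro v
    rw [this v, neg_one_smul]

end main

end Cfsg.Agent.Lib.Helper9.LeechQ1
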