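import Cfsg.Agent.Lib.Helper9.LeechX11
import Cfsg.Agent.Lib.Helper9.LeechE4
import Cfsg.Agent.S1570
import Cfsg.Agent.S0391

set_option autoImplicit false

/-! The invariant quadratic forms modulo two on the rank-24 lattice. -/

namespace Cfsg.Agent.Lib.Helper9.LeechQF1

open Cfsg Finset Cfsg.Agent.Lib.Helper4.Leech
  Cfsg.Agent.Lib.Helper9.LeechX4
  Cfsg.Agent.Lib.Helper9.LeechX7 Cfsg.Agent.Lib.Helper9.LeechX8
  Cfsg.Agent.Lib.Helper9.LeechX9 Cfsg.Agent.Lib.Helper9.LeechX10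
  Cfsg.Agent.Lib.Helper9.LeechX11
  Cfsg.Agent.Lib.Helper9.LeechC7 Cfsg.Agent.Lib.Helper9.LeechE3 Cfsg.Agent.Lib.Helper9.LeechE4

/-! ### explicit vectors -/

def Lq1 : List ℤ := [-3, 1, 1, 1, 1, 1, 1, 1, 1, 1, 1, 1, 1, 1, 1, 1, 1, 1, 1, 1, 1, 1, 1, 1]

theorem Lq1_mem : vecL Lq1 ∈ leechLattice :=
  mem_of_data _ 1 16777215 (Or.inr rfl) (by decide +kernel) (by decide +kernel) (by decide +kernel)

def q1 : leechLattice := ⟨vecL Lq1, Lq1_mem⟩

def Lq2 : List ℤ :=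
  [0, 0, 0, 0, -2, 0, 0, 0, 0, -2, -2, -2, 0, 0, 0, 0, 0, -2, 0, 0, -2, -2, 0, -2]

theorem Lq2_mem : vecL Lq2 ∈ leechLattice :=
  mem_of_data _ 0 11669008 (Or.inl rfl) (by decide +kernel) (by decide +kernel) (by decide +kernel)

def q2 : leechLattice := ⟨vecL Lq2, Lq2_mem⟩

def Lq3 : List ℤ := [0, 4, 4, 0, 0, 0, 0, 0, 0, 0, 0, 0, 0, 0, 0, 0, 0, 0, 0, 0, 0, 0, 0, 0]

theorem Lq3_mem : vecL Lq3 ∈ leechLattice :=
  mem_of_data _ 0 0 (Or.inl rfl) (by decide +kernel) (by decide +kernel) (by decide +kernel)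

def q3 : leechLattice := ⟨vecL Lq3, Lq3_mem⟩

def Lq4 : List ℤ := [0, 0, -4, 4, 0, 0, 0, 0, 0, 0, 0, 0, 0, 0, 0, 0, 0, 0, 0, 0, 0, 0, 0, 0]

theorem Lq4_mem : vecL Lq4 ∈ leechLattice :=
  mem_of_data _ 0 0 (Or.inl rfl) (by decide +kernel) (by decide +kernel) (by decide +kernel)

def q4 : leechLattice := ⟨vecL Lq4, Lq4_mem⟩

/-! ### constancy on the vectors of a given small sum of squares -/

theorem Q_rel (Q : leechLattice → ZMod 2)
    (hinv : ∀ (g : ↥Co0) (v : leechLattice), Q (g • v) = Q v)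
    (v w : leechLattice) (h : Rel v w) : Q v = Q w := by
  obtain ⟨g, hg⟩ := h.exists_smul
  rw [← hg, hinv]

theorem Q32 (Q : leechLattice → ZMod 2)
    (hinv : ∀ (g : ↥Co0) (v : leechLattice), Q (g • v) = Q v)
    (x : leechLattice) (hx : sqNorm x.1 = 32) : Q x = Q rA :=
  Q_rel Q hinv x rA (trans32 x rA hx (by decide +kernel))

theorem Q48 (Q : leechLattice → ZMod 2)
    (hinv : ∀ (g : ↥Co0) (v : leechLattice), Q (g • v) = Q v)
    (x : leechLattice) (hx : sqNorm x.1 = 48) : Q x = Q rF :=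
  Q_rel Q hinv x rF (trans48 x rF hx (by decide +kernel))

theorem Q64 (Q : leechLattice → ZMod 2)
    (hinv : ∀ (g : ↥Co0) (v : leechLattice), Q (g • v) = Q v)
    (x : leechLattice) (hx : sqNorm x.1 = 64) : Q x = Q r8 :=
  Q_rel Q hinv x r8 (trans64 x r8 hx (by decide +kernel))

theorem zmod2_a : ∀ a b : ZMod 2, a + a + a + a = b + b + a → a = 0 := by decide

theorem zmod2_c : ∀ a c : ZMod 2, c + a + a + a = c + c + a → c = 0 := by decide

theorem Q_a (Q : leechLattice → ZMod 2)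
    (hquad : ∀ u v w : leechLattice,
      Q (u + v + w) + Q u + Q v + Q w = Q (u + v) + Q (u + w) + Q (v + w))
    (hinv : ∀ (g : ↥Co0) (v : leechLattice), Q (g • v) = Q v) : Q rA = 0 := by
  have h := hquad rA q1 q2
  rw [Q32 Q hinv (rA + q1 + q2) (by decide +kernel), Q32 Q hinv q1 (by decide +kernel),
    Q32 Q hinv q2 (by decide +kernel), Q48 Q hinv (rA + q1) (by decide +kernel),
    Q48 Q hinv (rA + q2) (by decide +kernel), Q32 Q hinv (q1 + q2) (by decide +kernel)] at h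
  exact zmod2_a _ _ h

theorem Q_c (Q : leechLattice → ZMod 2)
    (hquad : ∀ u v w : leechLattice,
      Q (u + v + w) + Q u + Q v + Q w = Q (u + v) + Q (u + w) + Q (v + w))
    (hinv : ∀ (g : ↥Co0) (v : leechLattice), Q (g • v) = Q v) : Q r8 = 0 := by
  have h := hquad rA q3 q4
  rw [Q64 Q hinv (rA + q3 + q4) (by decide +kernel), Q32 Q hinv q3 (by decide +kernel),
    Q32 Q hinv q4 (by decide +kernel), Q64 Q hinv (rA + q3) (by decide +kernel),
    Q64 Q hinv (rA + q4) (by decide +kernel), Q32 Q hinv (q3 + q4) (by decide +kernel)] at h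
  exact zmod2_c _ _ h

/-! ### reduction to short vectors -/

theorem short_norm (y : leechLattice) (hy : sqNorm y.1 ≤ 64) :
    y = 0 ∨ sqNorm y.1 = 32 ∨ sqNorm y.1 = 48 ∨ sqNorm y.1 = 64 := by
  by_cases h0 : y = 0
  · exact Or.inl h0
  · right
    have h1 : y.1 ≠ 0 := fun h => h0 (Subtype.ext h)
    have h2 := Cfsg.Agent.S0391.result y.1 y.2 h1
    obtain ⟨k, hk⟩ := Cfsg.Agent.S0392.result y.1 y.2
    omega

theorem reduce_short (Q : leechLattice → ZMod 2)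
    (hcoset : ∀ v w : leechLattice, Q (v + (w + w)) = Q v) (x : leechLattice) :
    ∃ y : leechLattice, sqNorm y.1 ≤ 64 ∧ Q x = Q y ∧ ∃ k : ℤ, sqNorm x.1 = sqNorm y.1 + 32 * k := by
  obtain ⟨y, hy, hyn, z, hz, hxy⟩ := Cfsg.Agent.S1570.result x.1 x.2
  have hx : x.1 = y + (z + z) := by
    rw [two_smul] at hxy
    rw [← hxy]
    abel
  refine ⟨⟨y, hy⟩, hyn, ?_, ?_⟩
  · have : x = (⟨y, hy⟩ : leechLattice) + (⟨z, hz⟩ + ⟨z, hz⟩) := Subtype.ext hx
    rw [this, hcoset]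
  · obtain ⟨k1, hk1⟩ := dot_dvd8 y z hy hz
    obtain ⟨k2, hk2⟩ := Cfsg.Agent.S0392.result z hz
    refine ⟨k1 + 2 * k2, ?_⟩
    show sqNorm x.1 = sqNorm y + 32 * (k1 + 2 * k2)
    rw [hx, sqNorm_add, sqNorm_add, dot_add_right, dot_self, hk1, hk2]
    ring

theorem zmod2_cases (b : ZMod 2) : b = 0 ∨ b = 1 := by
  revert b
  decide

theorem two_zero : (2 : ZMod 2) = 0 := by decide

theorem main (Q : leechLattice → ZMod 2)
    (hcoset : ∀ v w : leechLattice, Q (v + (w + w)) = Q v)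
    (hquad : ∀ u v w : leechLattice,
      Q (u + v + w) + Q u + Q v + Q w = Q (u + v) + Q (u + w) + Q (v + w))
    (hinv : ∀ (g : ↥Co0) (v : leechLattice), Q (g • v) = Q v)
    (hne : ∃ v : leechLattice, Q v ≠ 0) (v : leechLattice) :
    Q v = ((sqNorm (v : GolayPt → ℤ) / 16 : ℤ) : ZMod 2) := by
  have hQ0 : Q 0 = 0 := by
    have h := hquad 0 0 0
    simp only [add_zero] at h
    revert h
    generalize Q 0 = t
    revert t
    decide
  have ha := Q_a Q hquad hinv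
  have hc := Q_c Q hquad hinv
  have hval : ∀ x : leechLattice, ∃ y : leechLattice, Q x = Q y ∧
      ((y = 0 ∧ ∃ k : ℤ, sqNorm x.1 = 32 * k) ∨ (Q y = 0 ∧ ∃ k : ℤ, sqNorm x.1 = 32 * k) ∨
        (Q y = Q rF ∧ ∃ k : ℤ, sqNorm x.1 = 48 + 32 * k)) := by
    intro x
    obtain ⟨y, hyn, hxy, k, hk⟩ := reduce_short Q hcoset x
    refine ⟨y, hxy, ?_⟩
    rcases short_norm y hyn with h | h | h | h
    · left
      refine ⟨h, k, ?_⟩
      rw [hk, h]
      have : sqNorm ((0 : leechLattice) : GolayPt → ℤ) = 0 := by decide +kernel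
      rw [this]; ring
    · right; left
      refine ⟨by rw [Q32 Q hinv y h, ha], k + 1, ?_⟩
      rw [hk, h]; ring
    · right; right
      refine ⟨Q48 Q hinv y h, k, ?_⟩
      rw [hk, h]
    · right; left
      refine ⟨by rw [Q64 Q hinv y h, hc], k + 2, ?_⟩
      rw [hk, h]; ring
  have hb : Q rF = 1 := by
    rcases zmod2_cases (Q rF) with h | h
    · exfalso
      obtain ⟨x, hx⟩ := hne
      apply hx
      obtain ⟨y, hxy, h1 | h1 | h1⟩ := hval x
      · rw [hxy, h1.1, hQ0]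
      · rw [hxy, h1.1]
      · rw [hxy, h1.1, h]
    · exact h
  obtain ⟨y, hxy, h1 | h1 | h1⟩ := hval v
  · obtain ⟨h2, k, hk⟩ := h1
    rw [hxy, h2, hQ0, hk]
    have : (32 * k / 16 : ℤ) = 2 * k := by omega
    rw [this]
    push_cast
    rw [two_zero, zero_mul]
  · obtain ⟨h2, k, hk⟩ := h1
    rw [hxy, h2, hk]
    have : (32 * k / 16 : ℤ) = 2 * k := by omega
    rw [this]
    push_cast
    rw [two_zero, zero_mul]
  · obtain ⟨h2, k, hk⟩ := h1
    rw [hxy, h2, hb, hk]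
    have : ((48 + 32 * k) / 16 : ℤ) = 1 + 2 * (k + 1) := by omega
    rw [this]
    push_cast
    rw [two_zero, zero_mul, add_zero]

end Cfsg.Agent.Lib.Helper9.LeechQF1
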