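import Mathlib
import Cfsg.Agent.Lib.Helper9.EvenLat1

set_option autoImplicit false
set_option linter.unusedSectionVars false

/-! Coordinates of an even root-free lattice of rank 24 relative to an orthogonal frame of
24 vectors of norm 8 that are pairwise congruent modulo 2. -/

namespace Cfsg.Agent.Lib.Helper9.LeechU1

open Matrix Finset
open Cfsg.Agent.Lib.Helper9.EvenLat1

/-- the bilinear form -/
def bil (B : Matrix (Fin 24) (Fin 24) ℤ) (x y : V) : ℤ := x ⬝ᵥ (B *ᵥ y)

section basic
variable (B : Matrix (Fin 24) (Fin 24) ℤ)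

theorem bil_add_left (x y z : V) : bil B (x + y) z = bil B x z + bil B y z := by
  unfold bil; rw [add_dotProduct]

theorem bil_add_right (x y z : V) : bil B x (y + z) = bil B x y + bil B x z := by
  unfold bil; rw [mulVec_add, dotProduct_add]

theorem bil_sub_left (x y z : V) : bil B (x - y) z = bil B x z - bil B y z := by
  unfold bil; rw [sub_dotProduct]

theorem bil_sub_right (x y z : V) : bil B x (y - z) = bil B x y - bil B x z := by
  unfold bil; rw [mulVec_sub, dotProduct_sub]

theorem bil_smul_left (n : ℤ) (x y : V) : bil B (n • x) y = n * bil B x y := by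
  unfold bil; rw [smul_dotProduct, smul_eq_mul]

theorem bil_smul_right (n : ℤ) (x y : V) : bil B x (n • y) = n * bil B x y := by
  unfold bil; rw [mulVec_smul, dotProduct_smul, smul_eq_mul]

theorem bil_zero_left (y : V) : bil B 0 y = 0 := by
  unfold bil; rw [zero_dotProduct]

theorem bil_sum_left {ι : Type*} (s : Finset ι) (f : ι → V) (y : V) :
    bil B (∑ i ∈ s, f i) y = ∑ i ∈ s, bil B (f i) y := by
  unfold bil; rw [sum_dotProduct]

theorem bil_comm (hsymm : B.IsSymm) (x y : V) : bil B x y = bil B y x :=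
  symm_form B hsymm y x

end basic

/-- an orthogonal frame of norm 8 vectors congruent mod 2 -/
structure Frame (B : Matrix (Fin 24) (Fin 24) ℤ) where
  v : Fin 24 → V
  h8 : ∀ i, bil B (v i) (v i) = 8
  ho : ∀ i j, i ≠ j → bil B (v i) (v j) = 0
  hc : ∀ i j, red (v i) = red (v j)

variable {B : Matrix (Fin 24) (Fin 24) ℤ}

/-- coordinates -/
def coord (F : Frame B) (x : V) : Fin 24 → ℤ := fun i => bil B x (F.v i)

theorem coord_add (F : Frame B) (x y : V) : coord F (x + y) = coord F x + coord F y := by
  funext i; simp only [coord, Pi.add_apply, bil_add_left]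

theorem coord_sub (F : Frame B) (x y : V) : coord F (x - y) = coord F x - coord F y := by
  funext i; simp only [coord, Pi.sub_apply, bil_sub_left]

theorem coord_smul (F : Frame B) (n : ℤ) (x : V) : coord F (n • x) = n • coord F x := by
  funext i; simp only [coord, Pi.smul_apply, bil_smul_left, smul_eq_mul]

theorem coord_zero (F : Frame B) : coord F 0 = 0 := by
  funext i; simp only [coord, bil_zero_left, Pi.zero_apply]

theorem coord_sum (F : Frame B) {ι : Type*} (s : Finset ι) (f : ι → V) :
    coord F (∑ i ∈ s, f i) = ∑ i ∈ s, coord F (f i) := by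
  funext k; simp only [coord, bil_sum_left, Finset.sum_apply]

theorem bil_frame (F : Frame B) (i j : Fin 24) :
    bil B (F.v i) (F.v j) = if i = j then 8 else 0 := by
  split_ifs with h
  · rw [h]; exact F.h8 j
  · exact F.ho i j h

theorem coord_frame (F : Frame B) (i k : Fin 24) :
    coord F (F.v i) k = if i = k then 8 else 0 := bil_frame F i k

section lattice

variable (hsymm : B.IsSymm) (hpos : ∀ x : V, x ≠ 0 → 0 < x ⬝ᵥ (B *ᵥ x))
include hsymm hpos

omit hsymm hpos in
theorem det_ne_zero (F : Frame B) : (Matrix.of F.v).det ≠ 0 := by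
  intro hdet
  obtain ⟨a, ha0, ha⟩ := (Matrix.exists_vecMul_eq_zero_iff (M := Matrix.of F.v)).mpr hdet
  rw [Matrix.vecMul_eq_sum] at ha
  apply ha0
  funext j
  have h1 : bil B (∑ i, a i • (Matrix.of F.v) i) (F.v j) = 0 := by rw [ha, bil_zero_left]
  rw [bil_sum_left, Finset.sum_eq_single j] at h1
  · rw [bil_smul_left] at h1
    have : (Matrix.of F.v) j = F.v j := rfl
    rw [this, F.h8 j] at h1
    simp only [Pi.zero_apply]
    omega
  · intro i _ hij
    rw [bil_smul_left]
    have : (Matrix.of F.v) i = F.v i := rfl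
    rw [this, F.ho i j hij, mul_zero]
  · intro h; exact absurd (Finset.mem_univ j) h

omit hsymm hpos in
theorem exists_comb (F : Frame B) (y : V) :
    ∃ a : Fin 24 → ℤ, ∑ i, a i • F.v i = (Matrix.of F.v).det • y := by
  refine ⟨y ᵥ* (Matrix.of F.v).adjugate, ?_⟩
  have h := Matrix.vecMul_eq_sum (y ᵥ* (Matrix.of F.v).adjugate) (Matrix.of F.v)
  rw [Matrix.vecMul_vecMul, Matrix.adjugate_mul, Matrix.vecMul_smul, Matrix.vecMul_one] at h
  rw [h]
  rfl

theorem eq_zero_of_orth (F : Frame B) (y : V) (h : ∀ j, bil B y (F.v j) = 0) : y = 0 := by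
  obtain ⟨a, ha⟩ := exists_comb F y
  by_contra hy
  have h1 := hpos y hy
  have h2 : bil B y ((Matrix.of F.v).det • y) = 0 := by
    rw [← ha, bil_comm B hsymm, bil_sum_left]
    apply Finset.sum_eq_zero
    intro i _
    rw [bil_smul_left, bil_comm B hsymm, h i, mul_zero]
  rw [bil_smul_right] at h2
  rcases mul_eq_zero.mp h2 with h3 | h3
  · exact det_ne_zero F h3
  · unfold bil at h3; omega

/-- expansion in the frame -/
theorem expand (F : Frame B) (x : V) : (8 : ℤ) • x = ∑ i, coord F x i • F.v i := by
  have : (8 : ℤ) • x - ∑ i, coord F x i • F.v i = 0 := by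
    apply eq_zero_of_orth hsymm hpos F
    intro j
    rw [bil_sub_left, bil_smul_left, bil_sum_left, Finset.sum_eq_single j]
    · rw [bil_smul_left, F.h8 j]; unfold coord; ring
    · intro i _ hij
      rw [bil_smul_left, F.ho i j hij, mul_zero]
    · intro h; exact absurd (Finset.mem_univ j) h
  exact sub_eq_zero.mp this

/-- the form in coordinates -/
theorem coord_dot (F : Frame B) (x y : V) :
    ∑ i, coord F x i * coord F y i = 8 * bil B x y := by
  have h : bil B ((8 : ℤ) • x) y = bil B (∑ i, coord F x i • F.v i) y := by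
    rw [← expand hsymm hpos F x]
  rw [bil_smul_left, bil_sum_left] at h
  rw [h]
  apply Finset.sum_congr rfl
  intro i _
  rw [bil_smul_left, bil_comm B hsymm (F.v i) y]
  rfl

theorem coord_sq (F : Frame B) (x : V) :
    ∑ i, coord F x i ^ 2 = 8 * bil B x x := by
  rw [← coord_dot hsymm hpos F x x]
  apply Finset.sum_congr rfl
  intro i _; ring

theorem coord_injective (F : Frame B) : Function.Injective (coord F) := by
  intro x y hxy
  have h0 : coord F (x - y) = 0 := by rw [coord_sub, hxy, sub_self]
  have : x - y = 0 := by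
    apply eq_zero_of_orth hsymm hpos F
    intro j
    exact congrFun h0 j
  exact sub_eq_zero.mp this

theorem exists_diff (F : Frame B) (i j : Fin 24) : ∃ z : V, F.v i - F.v j = (2 : ℤ) • z := by
  have h := (red_eq_iff (F.v i) (F.v j)).mp (F.hc i j)
  choose z hz using h
  refine ⟨z, ?_⟩
  funext k
  rw [hz k]; simp

theorem exists_half (F : Frame B) (i j : Fin 24) : ∃ u : V, (2 : ℤ) • u = F.v i + F.v j := by
  obtain ⟨z, hz⟩ := exists_diff hsymm hpos F i j
  refine ⟨z + F.v j, ?_⟩
  rw [smul_add, ← hz]
  funext k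
  simp only [Pi.add_apply, Pi.sub_apply, Pi.smul_apply, smul_eq_mul]
  ring

theorem coord_half (F : Frame B) (i j : Fin 24) (u : V) (hu : (2 : ℤ) • u = F.v i + F.v j)
    (k : Fin 24) : coord F u k = (if i = k then 4 else 0) + (if j = k then 4 else 0) := by
  have h := congrFun (congrArg (coord F) hu) k
  rw [coord_smul, coord_add, Pi.add_apply, coord_frame, coord_frame, Pi.smul_apply,
    smul_eq_mul] at h
  split_ifs at h ⊢ <;> omega

/-- all coordinates have the same parity -/
theorem coord_parity (F : Frame B) (x : V) (i j : Fin 24) :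
    (2 : ℤ) ∣ coord F x i - coord F x j := by
  obtain ⟨z, hz⟩ := exists_diff hsymm hpos F i j
  refine ⟨bil B x z, ?_⟩
  unfold coord
  rw [← bil_sub_right, hz, bil_smul_right]

/-- the image of the coordinate map contains `4 D₂₄` -/
theorem exists_D24 (F : Frame B) (b : Fin 24 → ℤ) (hb : (2 : ℤ) ∣ ∑ i, b i) :
    ∃ u : V, ∀ k, coord F u k = 4 * b k := by
  have hh := fun i => exists_half hsymm hpos F i 0
  choose hp hhp using hh
  obtain ⟨s, hs⟩ := hb
  refine ⟨∑ i, b i • hp i - s • F.v 0, fun k => ?_⟩
  rw [coord_sub, Pi.sub_apply, coord_sum, Finset.sum_apply, coord_smul, Pi.smul_apply,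
    coord_frame, smul_eq_mul]
  have h1 : ∀ i, coord F (b i • hp i) k = b i * ((if i = k then 4 else 0) +
      (if (0 : Fin 24) = k then 4 else 0)) := by
    intro i
    rw [coord_smul, Pi.smul_apply, smul_eq_mul,
      coord_half hsymm hpos F i 0 (hp i) (hhp i) k]
  rw [Finset.sum_congr rfl (fun i _ => h1 i)]
  simp only [mul_add, Finset.sum_add_distrib, mul_ite, mul_zero, Finset.sum_ite_eq',
    Finset.mem_univ, if_true]
  by_cases h0 : (0 : Fin 24) = k
  · simp only [h0, if_true]
    rw [← Finset.sum_mul, hs]; ring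
  · simp only [h0, if_false, Finset.sum_const_zero]; ring

/-- norm of a vector with coordinates `4 b` -/
theorem norm_of_four (F : Frame B) (u : V) (b : Fin 24 → ℤ)
    (hu : ∀ k, coord F u k = 4 * b k) : bil B u u = 2 * ∑ k, b k ^ 2 := by
  have h := coord_sq hsymm hpos F u
  have h2 : ∑ i, coord F u i ^ 2 = 16 * ∑ k, b k ^ 2 := by
    rw [Finset.mul_sum]
    apply Finset.sum_congr rfl
    intro k _
    rw [hu k]; ring
  rw [h2] at h
  omega

end lattice

end Cfsg.Agent.Lib.Helper9.LeechU1
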