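import Mathlib
import Cfsg.Agent.Lib.Helper9.LeechU1

set_option autoImplicit false
set_option linter.unusedSectionVars false

/-! The binary code of an even root-free lattice relative to a frame. -/

namespace Cfsg.Agent.Lib.Helper9.LeechU2

open Matrix Finset
open Cfsg.Agent.Lib.Helper9.EvenLat1 Cfsg.Agent.Lib.Helper9.LeechU1

/-! ### integer lemmas -/

theorem sum_mod_two (a : Fin 24 → ℤ) :
    ∑ i, a i % 2 = ((univ.filter fun i => a i % 2 = 1).card : ℤ) := by
  rw [Finset.card_filter]
  push_cast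
  apply Finset.sum_congr rfl
  intro i _
  rcases Int.emod_two_eq_zero_or_one (a i) with h | h <;> simp [h]

theorem hamming_cast (a : Fin 24 → ℤ) :
    hammingNorm (fun i => ((a i : ℤ) : ZMod 2)) = (univ.filter fun i => a i % 2 = 1).card := by
  unfold hammingNorm
  congr 1
  ext i
  simp only [mem_filter, mem_univ, true_and, ne_eq]
  rw [ZMod.intCast_zmod_eq_zero_iff_dvd]
  push_cast
  omega

theorem sq_mod_four (a : ℤ) : (4 : ℤ) ∣ a ^ 2 - a % 2 := by
  have h4 : a % 4 = 0 ∨ a % 4 = 1 ∨ a % 4 = 2 ∨ a % 4 = 3 := by omega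
  obtain ⟨q, hq⟩ : ∃ q, a = 4 * q + a % 4 := ⟨a / 4, by omega⟩
  rcases h4 with h | h | h | h
  · have : a % 2 = 0 := by omega
    rw [this, hq, h]; exact ⟨4 * q ^ 2, by ring⟩
  · have : a % 2 = 1 := by omega
    rw [this, hq, h]; exact ⟨4 * q ^ 2 + 2 * q, by ring⟩
  · have : a % 2 = 0 := by omega
    rw [this, hq, h]; exact ⟨4 * q ^ 2 + 4 * q + 1, by ring⟩
  · have : a % 2 = 1 := by omega
    rw [this, hq, h]; exact ⟨4 * q ^ 2 + 6 * q + 2, by ring⟩

theorem sum_sq_mod_four (a : Fin 24 → ℤ) :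
    (4 : ℤ) ∣ ∑ i, a i ^ 2 - ((univ.filter fun i => a i % 2 = 1).card : ℤ) := by
  rw [← sum_mod_two, ← Finset.sum_sub_distrib]
  exact Finset.dvd_sum fun i _ => sq_mod_four (a i)

section code

variable {B : Matrix (Fin 24) (Fin 24) ℤ}

/-- even vectors -/
def IsEven (F : Frame B) (x : V) : Prop := ∀ i, (2 : ℤ) ∣ coord F x i

/-- half coordinates -/
def hc (F : Frame B) (x : V) : Fin 24 → ℤ := fun i => coord F x i / 2

theorem two_hc (F : Frame B) (x : V) (hx : IsEven F x) (i : Fin 24) :
    coord F x i = 2 * hc F x i := by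
  unfold hc; have := hx i; omega

/-- the pattern of a vector -/
def pat (F : Frame B) (x : V) : Fin 24 → ZMod 2 := fun i => ((hc F x i : ℤ) : ZMod 2)

theorem isEven_add (F : Frame B) (x y : V) (hx : IsEven F x) (hy : IsEven F y) :
    IsEven F (x + y) := fun i => by
  rw [coord_add, Pi.add_apply]; exact dvd_add (hx i) (hy i)

theorem isEven_sub (F : Frame B) (x y : V) (hx : IsEven F x) (hy : IsEven F y) :
    IsEven F (x - y) := fun i => by
  rw [coord_sub, Pi.sub_apply]; exact dvd_sub (hx i) (hy i)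

theorem isEven_zero (F : Frame B) : IsEven F 0 := fun i => by
  rw [coord_zero]; exact dvd_zero _

theorem hc_add (F : Frame B) (x y : V) (hx : IsEven F x) (hy : IsEven F y) :
    hc F (x + y) = hc F x + hc F y := by
  funext i
  have h1 := two_hc F x hx i
  have h2 := two_hc F y hy i
  have h3 := two_hc F (x + y) (isEven_add F x y hx hy) i
  rw [coord_add, Pi.add_apply] at h3
  rw [Pi.add_apply]; omega

theorem hc_sub (F : Frame B) (x y : V) (hx : IsEven F x) (hy : IsEven F y) :
    hc F (x - y) = hc F x - hc F y := by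
  funext i
  have h1 := two_hc F x hx i
  have h2 := two_hc F y hy i
  have h3 := two_hc F (x - y) (isEven_sub F x y hx hy) i
  rw [coord_sub, Pi.sub_apply] at h3
  rw [Pi.sub_apply]; omega

theorem pat_add (F : Frame B) (x y : V) (hx : IsEven F x) (hy : IsEven F y) :
    pat F (x + y) = pat F x + pat F y := by
  funext i
  unfold pat
  rw [hc_add F x y hx hy, Pi.add_apply, Pi.add_apply]
  push_cast; rfl

theorem pat_zero (F : Frame B) : pat F 0 = 0 := by
  funext i
  unfold pat hc
  rw [coord_zero]; simp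

/-- the code of patterns of even vectors -/
def code (F : Frame B) : Submodule (ZMod 2) (Fin 24 → ZMod 2) where
  carrier := {w | ∃ x, IsEven F x ∧ pat F x = w}
  add_mem' := by
    rintro _ _ ⟨x, hx, rfl⟩ ⟨y, hy, rfl⟩
    exact ⟨x + y, isEven_add F x y hx hy, pat_add F x y hx hy⟩
  zero_mem' := ⟨0, isEven_zero F, pat_zero F⟩
  smul_mem' := by
    rintro a _ ⟨x, hx, rfl⟩
    rcases (by decide : ∀ a : ZMod 2, a = 0 ∨ a = 1) a with rfl | rfl
    · refine ⟨0, isEven_zero F, ?_⟩
      rw [pat_zero, zero_smul]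
    · exact ⟨x, hx, by rw [one_smul]⟩

theorem mem_code (F : Frame B) (w : Fin 24 → ZMod 2) :
    w ∈ code F ↔ ∃ x, IsEven F x ∧ pat F x = w := Iff.rfl

theorem hamming_pat (F : Frame B) (x : V) :
    hammingNorm (pat F x) = (univ.filter fun i => hc F x i % 2 = 1).card :=
  hamming_cast (hc F x)

variable (hsymm : B.IsSymm) (hpos : ∀ x : V, x ≠ 0 → 0 < x ⬝ᵥ (B *ᵥ x))
  (heven : ∀ x : V, (2 : ℤ) ∣ x ⬝ᵥ (B *ᵥ x))
  (h2 : ∀ x : V, x ⬝ᵥ (B *ᵥ x) ≠ 2)
include hsymm hpos

theorem hc_dot (F : Frame B) (x y : V) (hx : IsEven F x) (hy : IsEven F y) :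
    ∑ i, hc F x i * hc F y i = 2 * bil B x y := by
  have h := coord_dot hsymm hpos F x y
  have h2 : ∑ i, coord F x i * coord F y i = 4 * ∑ i, hc F x i * hc F y i := by
    rw [Finset.mul_sum]
    apply Finset.sum_congr rfl
    intro i _
    rw [two_hc F x hx i, two_hc F y hy i]; ring
  rw [h2] at h
  omega

theorem hc_sq (F : Frame B) (x : V) (hx : IsEven F x) :
    ∑ i, hc F x i ^ 2 = 2 * bil B x x := by
  rw [← hc_dot hsymm hpos F x x hx hx]
  apply Finset.sum_congr rfl
  intro i _; ring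

/-- the code is self-orthogonal -/
theorem code_orth (F : Frame B) (w w' : Fin 24 → ZMod 2) (hw : w ∈ code F) (hw' : w' ∈ code F) :
    ∑ i, w i * w' i = 0 := by
  obtain ⟨x, hx, rfl⟩ := hw
  obtain ⟨y, hy, rfl⟩ := hw'
  have h := hc_dot hsymm hpos F x y hx hy
  have h3 : ((∑ i, hc F x i * hc F y i : ℤ) : ZMod 2) = ((2 * bil B x y : ℤ) : ZMod 2) := by
    rw [h]
  push_cast at h3
  unfold pat
  rw [h3]
  have : (2 : ZMod 2) = 0 := by decide
  rw [this, zero_mul]

include heven

/-- the code is doubly even -/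
theorem code_dvd (F : Frame B) (w : Fin 24 → ZMod 2) (hw : w ∈ code F) : 4 ∣ hammingNorm w := by
  obtain ⟨x, hx, rfl⟩ := hw
  rw [hamming_pat]
  have h1 := hc_sq hsymm hpos F x hx
  have h3 := sum_sq_mod_four (hc F x)
  obtain ⟨k, hk⟩ := heven x
  unfold bil at h1
  rw [h1, hk] at h3
  have : (4 : ℤ) ∣ ((univ.filter fun i => hc F x i % 2 = 1).card : ℤ) := by omega
  exact_mod_cast this

include h2

/-- no words of weight 4 -/
theorem code_no_four (F : Frame B) (w : Fin 24 → ZMod 2) (hw : w ∈ code F) :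
    hammingNorm w ≠ 4 := by
  obtain ⟨x, hx, rfl⟩ := hw
  rw [hamming_pat]
  intro h4
  have hr : ∑ i, hc F x i % 2 = 4 := by rw [sum_mod_two, h4]; norm_num
  -- choose the correction vector
  have key : ∃ b : Fin 24 → ℤ, (2 : ℤ) ∣ ∑ i, b i ∧
      ∀ i, (hc F x i - 2 * b i) ^ 2 = hc F x i % 2 := by
    by_cases hpar : (2 : ℤ) ∣ ∑ i, hc F x i / 2
    · refine ⟨fun i => hc F x i / 2, hpar, fun i => ?_⟩
      have e : hc F x i - 2 * (hc F x i / 2) = hc F x i % 2 := by omega
      rw [e]
      rcases Int.emod_two_eq_zero_or_one (hc F x i) with h | h <;> rw [h] <;> norm_num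
    · obtain ⟨i0, hi0⟩ : ∃ i0, hc F x i0 % 2 = 1 := by
        by_contra hno
        push Not at hno
        have : ∑ i, hc F x i % 2 = 0 := by
          apply Finset.sum_eq_zero
          intro i _
          rcases Int.emod_two_eq_zero_or_one (hc F x i) with h | h
          · exact h
          · exact absurd h (hno i)
        omega
      refine ⟨fun i => hc F x i / 2 + (if i = i0 then 1 else 0), ?_, fun i => ?_⟩
      · rw [Finset.sum_add_distrib, Finset.sum_ite_eq' univ i0]
        simp only [mem_univ, if_true]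
        omega
      · by_cases hi : i = i0
        · subst hi
          simp only [if_true]
          have e : hc F x i - 2 * (hc F x i / 2 + 1) = -1 := by omega
          rw [e, hi0]; norm_num
        · simp only [hi, if_false, add_zero]
          have e : hc F x i - 2 * (hc F x i / 2) = hc F x i % 2 := by omega
          rw [e]
          rcases Int.emod_two_eq_zero_or_one (hc F x i) with h | h <;> rw [h] <;> norm_num
  obtain ⟨b, hb, hb2⟩ := key
  obtain ⟨u, hu⟩ := exists_D24 hsymm hpos F b hb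
  have hc' : ∀ i, coord F (x - u) i = 2 * (hc F x i - 2 * b i) := by
    intro i
    rw [coord_sub, Pi.sub_apply, hu i, two_hc F x hx i]; ring
  have hsq := coord_sq hsymm hpos F (x - u)
  have h16 : ∑ i, coord F (x - u) i ^ 2 = 16 := by
    have : ∀ i, coord F (x - u) i ^ 2 = 4 * (hc F x i % 2) := by
      intro i; rw [hc' i, mul_pow, hb2 i]; norm_num
    rw [Finset.sum_congr rfl (fun i _ => this i), ← Finset.mul_sum, hr]; norm_num
  rw [h16] at hsq
  apply h2 (x - u)
  unfold bil at hsq
  omega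

end code

end Cfsg.Agent.Lib.Helper9.LeechU2
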