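import Mathlib
import Cfsg.Agent.Lib.Helper9.LeechU2

set_option autoImplicit false
set_option linter.unusedSectionVars false

/-! Counting the minimal vectors of an even root-free lattice relative to a frame: type I. -/

namespace Cfsg.Agent.Lib.Helper9.LeechU3

open Matrix Finset
open Cfsg.Agent.Lib.Helper9.EvenLat1 Cfsg.Agent.Lib.Helper9.LeechU1
  Cfsg.Agent.Lib.Helper9.LeechU2

theorem int_sq_le_two (b : ℤ) (h : b ^ 2 ≤ 2) : b = -1 ∨ b = 0 ∨ b = 1 := by
  have h1 : b ≤ 1 := by nlinarith
  have h2 : -1 ≤ b := by nlinarith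
  omega

theorem sum_one_unique (t : Fin 24 → ℤ) (h0 : ∀ i, 0 ≤ t i) (h1 : ∑ i, t i = 1) :
    ∃ i0, t i0 = 1 ∧ ∀ i, i ≠ i0 → t i = 0 := by
  obtain ⟨i0, hi0⟩ : ∃ i0, 1 ≤ t i0 := by
    by_contra hno
    push Not at hno
    have : ∑ i, t i = 0 := Finset.sum_eq_zero fun i _ => by
      have := h0 i; have := hno i; omega
    omega
  have h2 := Finset.add_sum_erase univ t (Finset.mem_univ i0)
  have h3 : 0 ≤ ∑ i ∈ univ.erase i0, t i := Finset.sum_nonneg fun i _ => h0 i
  have h4 : ∑ i ∈ univ.erase i0, t i = 0 := by omega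
  refine ⟨i0, by omega, fun i hi => ?_⟩
  exact (Finset.sum_eq_zero_iff_of_nonneg fun i _ => h0 i).mp h4 i
    (Finset.mem_erase.mpr ⟨hi, Finset.mem_univ i⟩)

/-- support of a word -/
def supp (w : Fin 24 → ZMod 2) : Finset (Fin 24) := univ.filter fun i => w i ≠ 0

theorem card_supp (w : Fin 24 → ZMod 2) : (supp w).card = hammingNorm w := rfl

/-- a chosen point of the support -/
noncomputable def pick (w : Fin 24 → ZMod 2) : Fin 24 :=
  if h : (supp w).Nonempty then (supp w).min' h else 0

theorem pick_mem (w : Fin 24 → ZMod 2) (h : hammingNorm w = 8) : pick w ∈ supp w := by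
  have hne : (supp w).Nonempty := by
    rw [← Finset.card_pos, card_supp, h]; norm_num
  unfold pick
  rw [dif_pos hne]
  exact Finset.min'_mem _ _


section count

variable {B : Matrix (Fin 24) (Fin 24) ℤ}
variable (hsymm : B.IsSymm) (hpos : ∀ x : V, x ≠ 0 → 0 < x ⬝ᵥ (B *ᵥ x))
  (heven : ∀ x : V, (2 : ℤ) ∣ x ⬝ᵥ (B *ᵥ x))
  (h2 : ∀ x : V, x ⬝ᵥ (B *ᵥ x) ≠ 2)
include hsymm hpos heven h2

open Classical in
/-- vectors of norm 4 with all coordinates divisible by 4 -/
theorem card_typeI (F : Frame B) (S : Finset V)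
    (hS : ∀ x ∈ S, bil B x x = 4 ∧ ∀ i, (4 : ℤ) ∣ coord F x i) : S.card ≤ 1104 := by
  have hb : ∀ x ∈ S, ∑ i, (coord F x i / 4) ^ 2 = 2 := by
    intro x hx
    have h := norm_of_four hsymm hpos F x (fun i => coord F x i / 4)
      (fun k => by have := (hS x hx).2 k; omega)
    rw [(hS x hx).1] at h
    omega
  have hval : ∀ x ∈ S, ∀ i, coord F x i / 4 = -1 ∨ coord F x i / 4 = 0 ∨ coord F x i / 4 = 1 := by
    intro x hx i
    apply int_sq_le_two
    rw [← hb x hx]
    exact Finset.single_le_sum (f := fun i => (coord F x i / 4) ^ 2)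
      (fun j _ => sq_nonneg _) (Finset.mem_univ i)
  let T : V → Finset (Fin 24) := fun x => univ.filter fun i => coord F x i / 4 ≠ 0
  let Tp : V → Finset (Fin 24) := fun x => univ.filter fun i => coord F x i / 4 = 1
  have hT : ∀ x ∈ S, (T x).card = 2 := by
    intro x hx
    have h := hb x hx
    have h3 : ∀ i, (coord F x i / 4) ^ 2 = if coord F x i / 4 ≠ 0 then 1 else 0 := by
      intro i
      rcases hval x hx i with h | h | h <;> rw [h] <;> norm_num
    rw [Finset.sum_congr rfl (fun i _ => h3 i), Finset.sum_boole] at h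
    exact_mod_cast h
  have hcod : ((powersetCard 2 (univ : Finset (Fin 24))).sigma fun T => T.powerset).card = 1104 := by
    rw [Finset.card_sigma]
    have : ∀ T ∈ powersetCard 2 (univ : Finset (Fin 24)), T.powerset.card = 4 := by
      intro T hT
      rw [Finset.card_powerset, (Finset.mem_powersetCard.mp hT).2]; norm_num
    rw [Finset.sum_congr rfl this, Finset.sum_const, Finset.card_powersetCard]
    simp
    decide
  rw [← hcod]
  apply Finset.card_le_card_of_injOn (fun x => (⟨T x, Tp x⟩ : Σ _ : Finset (Fin 24), Finset (Fin 24)))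
  · intro x hx
    simp only [Finset.mem_coe, Finset.mem_sigma, Finset.mem_powersetCard, Finset.mem_powerset]
    refine ⟨⟨Finset.subset_univ _, hT x hx⟩, ?_⟩
    intro i hi
    simp only [T, Tp, Finset.mem_filter, Finset.mem_univ, true_and] at hi ⊢
    omega
  · intro x hx y hy hxy
    simp only [Sigma.mk.injEq, heq_eq_eq] at hxy
    obtain ⟨h1, h3⟩ := hxy
    apply coord_injective hsymm hpos F
    funext i
    have hx4 := (hS x hx).2 i
    have hy4 := (hS y hy).2 i
    have e1 : i ∈ T x ↔ i ∈ T y := by rw [h1]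
    have e2 : i ∈ Tp x ↔ i ∈ Tp y := by rw [h3]
    simp only [T, Tp, Finset.mem_filter, Finset.mem_univ, true_and] at e1 e2
    rcases hval x hx i with h | h | h <;> rcases hval y hy i with h' | h' | h' <;> omega

/-- structure of the even minimal vectors with non-zero pattern -/
theorem typeII_struct (F : Frame B) (x : V) (h4 : bil B x x = 4) (hx : IsEven F x)
    (hp : pat F x ≠ 0) :
    hammingNorm (pat F x) = 8 ∧ ∀ i, hc F x i = -1 ∨ hc F x i = 0 ∨ hc F x i = 1 := by
  have hsq := hc_sq hsymm hpos F x hx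
  rw [h4] at hsq
  have hmem : pat F x ∈ code F := ⟨x, hx, rfl⟩
  have hd := code_dvd hsymm hpos heven F _ hmem
  have hn4 := code_no_four hsymm hpos heven h2 F _ hmem
  have hn0 : hammingNorm (pat F x) ≠ 0 := fun h => hp (hammingNorm_eq_zero.mp h)
  have hle : ∀ i, hc F x i % 2 ≤ hc F x i ^ 2 := by
    intro i
    rcases Int.emod_two_eq_zero_or_one (hc F x i) with h | h
    · rw [h]; exact sq_nonneg _
    · rw [h]
      have : hc F x i ≠ 0 := by intro h0; rw [h0] at h; omega
      have : 0 < hc F x i ^ 2 := by positivity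
      omega
  have hsum : ((hammingNorm (pat F x) : ℕ) : ℤ) ≤ 8 := by
    rw [hamming_pat, ← sum_mod_two]
    calc ∑ i, hc F x i % 2 ≤ ∑ i, hc F x i ^ 2 := Finset.sum_le_sum fun i _ => hle i
      _ = 8 := by rw [hsq]; norm_num
  have h8 : hammingNorm (pat F x) = 8 := by
    obtain ⟨k, hk⟩ := hd
    have : hammingNorm (pat F x) ≤ 8 := by exact_mod_cast hsum
    omega
  refine ⟨h8, ?_⟩
  have hz : ∑ i, (hc F x i ^ 2 - hc F x i % 2) = 0 := by
    rw [Finset.sum_sub_distrib, hsq, sum_mod_two, ← hamming_pat, h8]; norm_num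
  have hz' := (Finset.sum_eq_zero_iff_of_nonneg
    (fun i _ => by have := hle i; omega)).mp hz
  intro i
  apply int_sq_le_two
  have := hz' i (Finset.mem_univ i)
  rcases Int.emod_two_eq_zero_or_one (hc F x i) with h | h <;> omega

open Classical in
/-- the words of weight 8 -/
noncomputable def W8 (F : Frame B) : Finset (Fin 24 → ZMod 2) :=
  univ.filter fun w => w ∈ code F ∧ hammingNorm w = 8

omit hsymm hpos heven h2 in
theorem pat_ne_zero_iff (F : Frame B) (x : V) (i : Fin 24) :
    pat F x i ≠ 0 ↔ hc F x i % 2 = 1 := by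
  unfold pat
  rw [ne_eq, ZMod.intCast_zmod_eq_zero_iff_dvd]
  push_cast
  omega

omit hsymm hpos heven h2 in
theorem pat_eq_iff (F : Frame B) (x y : V) (i : Fin 24) (h : pat F x i = pat F y i) :
    (2 : ℤ) ∣ hc F x i - hc F y i := by
  unfold pat at h
  have := (ZMod.intCast_eq_intCast_iff_dvd_sub (hc F x i) (hc F y i) 2).mp h
  push_cast at this
  omega

open Classical in
/-- even vectors of norm 4 with non-zero pattern -/
theorem card_typeII (F : Frame B) (S : Finset V)
    (hS : ∀ x ∈ S, bil B x x = 4 ∧ IsEven F x ∧ pat F x ≠ 0) :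
    S.card ≤ 128 * (W8 F).card := by
  have hcod : ((W8 F).sigma fun w => ((supp w).erase (pick w)).powerset).card =
      128 * (W8 F).card := by
    rw [Finset.card_sigma]
    have : ∀ w ∈ W8 F, ((supp w).erase (pick w)).powerset.card = 128 := by
      intro w hw
      have hw8 : hammingNorm w = 8 := (Finset.mem_filter.mp hw).2.2
      rw [Finset.card_powerset, Finset.card_erase_of_mem (pick_mem w hw8), card_supp, hw8]
      norm_num
    rw [Finset.sum_congr rfl this, Finset.sum_const, smul_eq_mul, mul_comm]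
  rw [← hcod]
  have hst := fun x (hx : x ∈ S) =>
    typeII_struct hsymm hpos heven h2 F x (hS x hx).1 (hS x hx).2.1 (hS x hx).2.2
  apply Finset.card_le_card_of_injOn (fun x =>
    (⟨pat F x, univ.filter fun i => hc F x i < 0 ∧ i ≠ pick (pat F x)⟩ :
      Σ _ : Fin 24 → ZMod 2, Finset (Fin 24)))
  · intro x hx
    simp only [Finset.mem_coe, Finset.mem_sigma, Finset.mem_powerset]
    refine ⟨?_, ?_⟩
    · unfold W8
      rw [Finset.mem_filter]
      exact ⟨Finset.mem_univ _, ⟨x, (hS x hx).2.1, rfl⟩, (hst x hx).1⟩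
    · intro i hi
      rw [Finset.mem_filter] at hi
      rw [Finset.mem_erase]
      refine ⟨hi.2.2, ?_⟩
      unfold supp
      rw [Finset.mem_filter]
      refine ⟨Finset.mem_univ _, ?_⟩
      rw [pat_ne_zero_iff]
      rcases (hst x hx).2 i with h | h | h <;> omega
  · intro x hx y hy hxy
    simp only [Sigma.mk.injEq, heq_eq_eq] at hxy
    obtain ⟨h1, h3⟩ := hxy
    have hoff : ∀ i, i ≠ pick (pat F x) → hc F x i = hc F y i := by
      intro i hi
      have e1 := pat_eq_iff F x y i (congrFun h1 i)
      have e2 : i ∈ (univ.filter fun i => hc F x i < 0 ∧ i ≠ pick (pat F x)) ↔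
          i ∈ (univ.filter fun i => hc F y i < 0 ∧ i ≠ pick (pat F y)) := by rw [h3]
      simp only [Finset.mem_filter, Finset.mem_univ, true_and] at e2
      have hi' : i ≠ pick (pat F y) := by rw [← h1]; exact hi
      have e3 : hc F x i < 0 ↔ hc F y i < 0 := by
        constructor
        · intro h; exact (e2.mp ⟨h, hi⟩).1
        · intro h; exact (e2.mpr ⟨h, hi'⟩).1
      rcases (hst x hx).2 i with h | h | h <;> rcases (hst y hy).2 i with h' | h' | h' <;> omega
    set p := pick (pat F x) with hp
    by_cases hpp : hc F x p = hc F y p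
    · apply coord_injective hsymm hpos F
      funext i
      rw [two_hc F x (hS x hx).2.1 i, two_hc F y (hS y hy).2.1 i]
      by_cases hi : i = p
      · rw [hi, hpp]
      · rw [hoff i hi]
    · exfalso
      have e1 := pat_eq_iff F x y p (congrFun h1 p)
      have hb : ∀ k, coord F (x - y) k = 4 * ((hc F x k - hc F y k) / 2) := by
        intro k
        rw [coord_sub, Pi.sub_apply, two_hc F x (hS x hx).2.1 k, two_hc F y (hS y hy).2.1 k]
        by_cases hk : k = p
        · rw [hk]; omega
        · rw [hoff k hk]; simp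
      have hn := norm_of_four hsymm hpos F (x - y) _ hb
      rw [Finset.sum_eq_single p] at hn
      · apply h2 (x - y)
        unfold bil at hn
        have : ((hc F x p - hc F y p) / 2) ^ 2 = 1 := by
          rcases (hst x hx).2 p with h | h | h <;> rcases (hst y hy).2 p with h' | h' | h' <;>
            rw [h, h'] at hpp e1 ⊢ <;> omega
        rw [this] at hn
        omega
      · intro k _ hk
        rw [hoff k hk]; simp
      · intro h; exact absurd (Finset.mem_univ p) h

end count

end Cfsg.Agent.Lib.Helper9.LeechU3
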