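import Mathlib
import Cfsg.Agent.Lib.Helper9.LeechU3

set_option autoImplicit false
set_option linter.unusedSectionVars false

/-! Counting the minimal vectors of an even root-free lattice relative to a frame:
odd vectors, the packing bound and the conclusion. -/

namespace Cfsg.Agent.Lib.Helper9.LeechU4

open Matrix Finset
open Cfsg.Agent.Lib.Helper9.EvenLat1 Cfsg.Agent.Lib.Helper9.LeechU1
  Cfsg.Agent.Lib.Helper9.LeechU2 Cfsg.Agent.Lib.Helper9.LeechU3

theorem odd_sq (a : ℤ) (ha : ¬ (2 : ℤ) ∣ a) : (8 : ℤ) ∣ a ^ 2 - 1 := by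
  have h8 : a % 8 = 1 ∨ a % 8 = 3 ∨ a % 8 = 5 ∨ a % 8 = 7 := by omega
  obtain ⟨q, hq⟩ : ∃ q, a = 8 * q + a % 8 := ⟨a / 8, by omega⟩
  rcases h8 with h | h | h | h <;> rw [hq, h]
  · exact ⟨8 * q ^ 2 + 2 * q, by ring⟩
  · exact ⟨8 * q ^ 2 + 6 * q + 1, by ring⟩
  · exact ⟨8 * q ^ 2 + 10 * q + 3, by ring⟩
  · exact ⟨8 * q ^ 2 + 14 * q + 6, by ring⟩

theorem zmod2_add_ne (a b : ZMod 2) : a + b ≠ 0 ↔ (a ≠ 0 ∧ b = 0) ∨ (a = 0 ∧ b ≠ 0) := by
  revert a b; decide

theorem supp_add (w w' : Fin 24 → ZMod 2) :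
    supp (w + w') = (supp w \ supp w') ∪ (supp w' \ supp w) := by
  ext i
  simp only [supp, Finset.mem_filter, Finset.mem_univ, true_and, Finset.mem_union,
    Finset.mem_sdiff, Pi.add_apply, not_not]
  rw [zmod2_add_ne]
  tauto

theorem hamming_add (w w' : Fin 24 → ZMod 2) :
    hammingNorm (w + w') + 2 * (supp w ∩ supp w').card = hammingNorm w + hammingNorm w' := by
  rw [← card_supp, ← card_supp, ← card_supp, supp_add, Finset.card_union_of_disjoint]
  · have h1 := Finset.card_sdiff_add_card_inter (supp w) (supp w')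
    have h2 := Finset.card_sdiff_add_card_inter (supp w') (supp w)
    rw [Finset.inter_comm] at h2
    omega
  · rw [Finset.disjoint_left]
    intro i hi hi'
    exact (Finset.mem_sdiff.mp hi).2 (Finset.mem_sdiff.mp hi').1

section count

variable {B : Matrix (Fin 24) (Fin 24) ℤ}
variable (hsymm : B.IsSymm) (hpos : ∀ x : V, x ≠ 0 → 0 < x ⬝ᵥ (B *ᵥ x))
  (heven : ∀ x : V, (2 : ℤ) ∣ x ⬝ᵥ (B *ᵥ x))
  (h2 : ∀ x : V, x ⬝ᵥ (B *ᵥ x) ≠ 2)
include hsymm hpos heven h2

omit hsymm hpos heven h2 in
open Classical in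
theorem mem_W8 (F : Frame B) (w : Fin 24 → ZMod 2) :
    w ∈ W8 F ↔ w ∈ code F ∧ hammingNorm w = 8 := by
  unfold W8
  rw [Finset.mem_filter]
  simp

/-- weights of non-zero words are at least 8 -/
theorem weight_ge (F : Frame B) (w : Fin 24 → ZMod 2) (hw : w ∈ code F) (h0 : w ≠ 0) :
    8 ≤ hammingNorm w := by
  obtain ⟨k, hk⟩ := code_dvd hsymm hpos heven F w hw
  have h4 := code_no_four hsymm hpos heven h2 F w hw
  have hn0 : hammingNorm w ≠ 0 := fun h => h0 (hammingNorm_eq_zero.mp h)
  omega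

theorem inter_le (F : Frame B) (w w' : Fin 24 → ZMod 2) (hw : w ∈ W8 F) (hw' : w' ∈ W8 F)
    (hne : w ≠ w') : (supp w ∩ supp w').card ≤ 4 := by
  rw [mem_W8] at hw hw'
  have hadd := hamming_add w w'
  have hmem : w + w' ∈ code F := (code F).add_mem hw.1 hw'.1
  have hne0 : w + w' ≠ 0 := by
    intro h
    apply hne
    have : w = -w' := eq_neg_of_add_eq_zero_left h
    rw [this]
    funext i
    have : ∀ a : ZMod 2, -a = a := by decide
    exact this (w' i)
  have := weight_ge hsymm hpos heven h2 F _ hmem hne0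
  rw [hw.2, hw'.2] at hadd
  omega

/-- the packing bound -/
theorem card_W8_le (F : Frame B) : (W8 F).card ≤ 759 := by
  classical
  have hdisj : ((W8 F : Finset (Fin 24 → ZMod 2)) : Set (Fin 24 → ZMod 2)).PairwiseDisjoint
      (fun w => powersetCard 5 (supp w)) := by
    intro w hw w' hw' hne
    rw [Function.onFun, Finset.disjoint_left]
    intro s hs hs'
    rw [Finset.mem_powersetCard] at hs hs'
    have h1 : s ⊆ supp w ∩ supp w' := Finset.subset_inter hs.1 hs'.1
    have h2' := Finset.card_le_card h1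
    have := inter_le hsymm hpos heven h2 F w w' hw hw' hne
    omega
  have hcard := Finset.card_biUnion hdisj
  have h56 : ∀ w ∈ W8 F, (powersetCard 5 (supp w)).card = 56 := by
    intro w hw
    have hw8 : hammingNorm w = 8 := ((mem_W8 F w).mp hw).2
    rw [Finset.card_powersetCard, card_supp, hw8]; rfl
  rw [Finset.sum_congr rfl h56, Finset.sum_const, smul_eq_mul] at hcard
  have hsub : ((W8 F).biUnion fun w => powersetCard 5 (supp w)) ⊆
      powersetCard 5 (univ : Finset (Fin 24)) := by
    intro s hs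
    rw [Finset.mem_biUnion] at hs
    obtain ⟨w, _, hsw⟩ := hs
    rw [Finset.mem_powersetCard] at hsw ⊢
    exact ⟨Finset.subset_univ _, hsw.2⟩
  have hle := Finset.card_le_card hsub
  rw [hcard, Finset.card_powersetCard] at hle
  have : Nat.choose (univ : Finset (Fin 24)).card 5 = 42504 := by
    rw [Finset.card_univ, Fintype.card_fin]; rfl
  rw [this] at hle
  omega

open Classical in
/-- the words of the code as a finset -/
noncomputable def codeF (F : Frame B) : Finset (Fin 24 → ZMod 2) := univ.filter fun w => w ∈ code F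

/-- all coordinates of an odd vector are odd -/
theorem odd_all (F : Frame B) (x : V) (hx : ¬ (2 : ℤ) ∣ coord F x 0) (i : Fin 24) :
    ¬ (2 : ℤ) ∣ coord F x i := by
  have := coord_parity hsymm hpos F x i 0
  omega

theorem odd_struct (F : Frame B) (x : V) (h4 : bil B x x = 4) (hx : ¬ (2 : ℤ) ∣ coord F x 0) :
    ∃ i0, coord F x i0 ^ 2 = 9 ∧ ∀ i, i ≠ i0 → coord F x i ^ 2 = 1 := by
  have hsq := coord_sq hsymm hpos F x
  rw [h4] at hsq
  have hodd := odd_all hsymm hpos heven h2 F x hx
  have hd := fun i => odd_sq (coord F x i) (hodd i)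
  choose t ht using hd
  have ht0 : ∀ i, 0 ≤ t i := by
    intro i
    have : 0 < coord F x i ^ 2 := by
      have : coord F x i ≠ 0 := by intro h; apply hodd i; rw [h]; exact dvd_zero _
      positivity
    have := ht i
    omega
  have hsum : ∑ i, t i = 1 := by
    have : ∑ i, (coord F x i ^ 2 - 1) = 8 * ∑ i, t i := by
      rw [Finset.mul_sum]; exact Finset.sum_congr rfl fun i _ => ht i
    rw [Finset.sum_sub_distrib, hsq] at this
    simp at this
    omega
  obtain ⟨i0, h1, h0⟩ := sum_one_unique t ht0 hsum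
  refine ⟨i0, ?_, fun i hi => ?_⟩
  · have := ht i0; rw [h1] at this; omega
  · have := ht i; rw [h0 i hi] at this; omega

open Classical in
/-- position of the coordinate `±3` -/
noncomputable def idx (F : Frame B) (x : V) : Fin 24 :=
  if h : ∃ i0, coord F x i0 ^ 2 = 9 then h.choose else 0

open Classical in
/-- odd vectors of norm 4 -/
theorem card_typeIII (F : Frame B) (x0 : V) (hx0 : ¬ (2 : ℤ) ∣ coord F x0 0) (S : Finset V)
    (hS : ∀ x ∈ S, bil B x x = 4 ∧ ¬ (2 : ℤ) ∣ coord F x 0) :
    S.card ≤ 24 * (codeF F).card := by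
  have hcod : ((codeF F) ×ˢ (univ : Finset (Fin 24))).card = 24 * (codeF F).card := by
    rw [Finset.card_product, Finset.card_univ, Fintype.card_fin, mul_comm]
  rw [← hcod]
  have hev : ∀ x ∈ S, IsEven F (x - x0) := by
    intro x hx i
    rw [coord_sub, Pi.sub_apply]
    have h1 := odd_all hsymm hpos heven h2 F x (hS x hx).2 i
    have h3 := odd_all hsymm hpos heven h2 F x0 hx0 i
    omega
  have hidx : ∀ x ∈ S, coord F x (idx F x) ^ 2 = 9 ∧
      ∀ i, i ≠ idx F x → coord F x i ^ 2 = 1 := by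
    intro x hx
    obtain ⟨i0, h9, h1⟩ := odd_struct hsymm hpos heven h2 F x (hS x hx).1 (hS x hx).2
    have hex : ∃ i0, coord F x i0 ^ 2 = 9 := ⟨i0, h9⟩
    have hch : coord F x (idx F x) ^ 2 = 9 := by
      unfold idx; rw [dif_pos hex]; exact hex.choose_spec
    have heq : idx F x = i0 := by
      by_contra hne
      have := h1 _ hne
      omega
    rw [heq]
    exact ⟨h9, h1⟩
  apply Finset.card_le_card_of_injOn (fun x => (pat F (x - x0), idx F x))
  · intro x hx
    simp only [Finset.mem_coe, Finset.mem_product, Finset.mem_univ, and_true]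
    unfold codeF
    rw [Finset.mem_filter]
    exact ⟨Finset.mem_univ _, x - x0, hev x hx, rfl⟩
  · intro x hx y hy hxy
    simp only [Prod.mk.injEq] at hxy
    obtain ⟨h1, h3⟩ := hxy
    apply coord_injective hsymm hpos F
    funext i
    have e1 := pat_eq_iff F (x - x0) (y - x0) i (congrFun h1 i)
    have e2 := two_hc F (x - x0) (hev x hx) i
    have e3 := two_hc F (y - x0) (hev y hy) i
    rw [coord_sub, Pi.sub_apply] at e2 e3
    have e4 : (4 : ℤ) ∣ coord F x i - coord F y i := by
      obtain ⟨k, hk⟩ := e1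
      exact ⟨k, by omega⟩
    have hsqeq : coord F x i ^ 2 = coord F y i ^ 2 := by
      by_cases hi : i = idx F x
      · rw [hi, (hidx x hx).1, h3, (hidx y hy).1]
      · rw [(hidx x hx).2 i hi, (hidx y hy).2 i (by rw [← h3]; exact hi)]
    have hprod : (coord F x i - coord F y i) * (coord F x i + coord F y i) = 0 := by
      have : (coord F x i - coord F y i) * (coord F x i + coord F y i) =
          coord F x i ^ 2 - coord F y i ^ 2 := by ring
      rw [this, hsqeq, sub_self]
    rcases mul_eq_zero.mp hprod with h | h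
    · omega
    · exfalso
      have hodd := odd_all hsymm hpos heven h2 F x (hS x hx).2 i
      omega

open Classical in
/-- the conclusion of the count -/
theorem count_main (F : Frame B) (S4 : Finset V) (m4 : ∀ x, x ∈ S4 ↔ bil B x x = 4)
    (c4 : S4.card = 196560) :
    (∃ x0, ¬ (2 : ℤ) ∣ coord F x0 0) ∧ 4096 ≤ (codeF F).card := by
  set S1 := S4.filter fun x => ∀ i, (4 : ℤ) ∣ coord F x i with hS1
  set S2 := S4.filter fun x => IsEven F x ∧ pat F x ≠ 0 with hS2
  set S3 := S4.filter fun x => ¬ (2 : ℤ) ∣ coord F x 0 with hS3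
  have hcover : S4 ⊆ S1 ∪ (S2 ∪ S3) := by
    intro x hx
    rw [Finset.mem_union, Finset.mem_union, hS1, hS2, hS3, Finset.mem_filter, Finset.mem_filter,
      Finset.mem_filter]
    by_cases hodd : (2 : ℤ) ∣ coord F x 0
    · have hev : IsEven F x := by
        intro i
        have := coord_parity hsymm hpos F x i 0
        omega
      by_cases hp : pat F x = 0
      · left
        refine ⟨hx, fun i => ?_⟩
        have h1 : ¬ (pat F x i ≠ 0) := by rw [hp]; simp
        rw [pat_ne_zero_iff] at h1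
        have := two_hc F x hev i
        omega
      · right; left
        exact ⟨hx, hev, hp⟩
    · right; right
      exact ⟨hx, hodd⟩
  have b1 : S1.card ≤ 1104 := card_typeI hsymm hpos heven h2 F S1 (fun x hx => by
    rw [hS1, Finset.mem_filter] at hx
    exact ⟨(m4 x).mp hx.1, hx.2⟩)
  have b2 : S2.card ≤ 128 * (W8 F).card := card_typeII hsymm hpos heven h2 F S2 (fun x hx => by
    rw [hS2, Finset.mem_filter] at hx
    exact ⟨(m4 x).mp hx.1, hx.2⟩)
  have b2' := card_W8_le hsymm hpos heven h2 F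
  have hle : S4.card ≤ S1.card + (S2.card + S3.card) :=
    (Finset.card_le_card hcover).trans ((Finset.card_union_le _ _).trans
      (Nat.add_le_add_left (Finset.card_union_le _ _) _))
  have h3pos : 0 < S3.card := by omega
  obtain ⟨x0, hx0⟩ := Finset.card_pos.mp h3pos
  rw [hS3, Finset.mem_filter] at hx0
  refine ⟨⟨x0, hx0.2⟩, ?_⟩
  have b3 : S3.card ≤ 24 * (codeF F).card :=
    card_typeIII hsymm hpos heven h2 F x0 hx0.2 S3 (fun x hx => by
      rw [hS3, Finset.mem_filter] at hx
      exact ⟨(m4 x).mp hx.1, hx.2⟩)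
  omega

end count

end Cfsg.Agent.Lib.Helper9.LeechU4
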