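import Mathlib
import Cfsg.Agent.Lib.Helper9.LeechU4
import Cfsg.Agent.Lib.Helper9.EvenLat2

set_option autoImplicit false
set_option linter.unusedSectionVars false

/-! Dimension of the code, existence of a frame and its normalisation. -/

namespace Cfsg.Agent.Lib.Helper9.LeechU5

open Matrix Finset Module
open Cfsg.Agent.Lib.Helper9.EvenLat1 Cfsg.Agent.Lib.Helper9.LeechU1
  Cfsg.Agent.Lib.Helper9.LeechU2 Cfsg.Agent.Lib.Helper9.LeechU3 Cfsg.Agent.Lib.Helper9.LeechU4

theorem self_orth_finrank_le (C : Submodule (ZMod 2) (Fin 24 → ZMod 2))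
    (horth : ∀ v ∈ C, ∀ w ∈ C, ∑ i, v i * w i = 0) : finrank (ZMod 2) C ≤ 12 := by
  let Bf : LinearMap.BilinForm (ZMod 2) (Fin 24 → ZMod 2) :=
    Matrix.toBilin' (1 : Matrix (Fin 24) (Fin 24) (ZMod 2))
  have hnd : Bf.Nondegenerate :=
    LinearMap.BilinForm.nondegenerate_toBilin'_of_det_ne_zero' _ (by simp)
  have h1 := LinearMap.BilinForm.finrank_orthogonal hnd C
  have hle : C ≤ Bf.orthogonal C := by
    intro w hw
    rw [LinearMap.BilinForm.mem_orthogonal_iff]
    intro v hv
    show Bf v w = 0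
    simp only [Bf, Matrix.toBilin'_apply', Matrix.one_mulVec]
    exact horth v hv w hw
  have h2 := Submodule.finrank_mono hle
  rw [h1, Module.finrank_fin_fun] at h2
  omega

section main

variable {B : Matrix (Fin 24) (Fin 24) ℤ}
variable (hsymm : B.IsSymm) (hpos : ∀ x : V, x ≠ 0 → 0 < x ⬝ᵥ (B *ᵥ x))
  (heven : ∀ x : V, (2 : ℤ) ∣ x ⬝ᵥ (B *ᵥ x))
  (h2 : ∀ x : V, x ⬝ᵥ (B *ᵥ x) ≠ 2)
include hsymm hpos heven h2

open Classical in
theorem finrank_code (F : Frame B) (hc : 4096 ≤ (codeF F).card) :
    finrank (ZMod 2) (code F) = 12 := by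
  have hle := self_orth_finrank_le (code F)
    (fun v hv w hw => code_orth hsymm hpos F v w hv hw)
  have hcard : Fintype.card (code F) = (codeF F).card := by
    unfold codeF
    rw [Fintype.card_subtype]
  have hpow := Module.card_eq_pow_finrank (K := ZMod 2) (V := code F)
  rw [ZMod.card, hcard] at hpow
  by_contra hne
  have hlt : finrank (ZMod 2) (code F) ≤ 11 := by omega
  have : 2 ^ finrank (ZMod 2) (code F) ≤ 2 ^ 11 := Nat.pow_le_pow_right (by norm_num) hlt
  omega

/-- the sign-normalised frame -/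
def signFrame (F : Frame B) (ε : Fin 24 → ℤ) (hε : ∀ i, ε i = 1 ∨ ε i = -1) : Frame B where
  v := fun i => ε i • F.v i
  h8 := fun i => by
    rw [bil_smul_left, bil_smul_right, F.h8 i]
    rcases hε i with h | h <;> rw [h] <;> norm_num
  ho := fun i j hij => by
    rw [bil_smul_left, bil_smul_right, F.ho i j hij]; ring
  hc := fun i j => by
    have key : ∀ i, red (ε i • F.v i) = red (F.v i) := by
      intro i
      rcases hε i with h | h <;> rw [h]
      · rw [one_smul]
      · rw [red_eq_iff]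
        intro k
        refine ⟨-F.v i k, ?_⟩
        simp only [Pi.sub_apply, Pi.smul_apply, smul_eq_mul]
        ring
    rw [key i, key j]
    exact F.hc i j

omit hsymm hpos heven h2 in
theorem coord_signFrame (F : Frame B) (ε : Fin 24 → ℤ) (hε : ∀ i, ε i = 1 ∨ ε i = -1) (x : V)
    (i : Fin 24) : coord (signFrame F ε hε) x i = ε i * coord F x i := by
  unfold coord signFrame
  simp only
  rw [bil_smul_right]

/-- there is a frame normalised at an odd vector -/
theorem exists_normal (F : Frame B) (x0 : V) (hx0 : ¬ (2 : ℤ) ∣ coord F x0 0) :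
    ∃ F' : Frame B, ∀ i, coord F' x0 i % 4 = 1 := by
  have hodd := odd_all hsymm hpos heven h2 F x0 hx0
  have hε : ∀ i, (if coord F x0 i % 4 = 1 then (1 : ℤ) else -1) = 1 ∨
      (if coord F x0 i % 4 = 1 then (1 : ℤ) else -1) = -1 := by
    intro i; split_ifs <;> simp
  refine ⟨signFrame F (fun i => if coord F x0 i % 4 = 1 then (1 : ℤ) else -1) hε, fun i => ?_⟩
  rw [coord_signFrame]
  have := hodd i
  split_ifs with h <;> omega

/-- a frame exists -/
theorem exists_frame (S8 : Finset V) (hS8 : ∀ x, x ∈ S8 ↔ x ⬝ᵥ (B *ᵥ x) = 8)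
    (x : V) (hx : x ∈ S8) (hfib : (S8.filter fun y => red y = red x).card = 48) :
    Nonempty (Frame B) := by
  classical
  set Fb := S8.filter fun y => red y = red x with hFb
  have hFb8 : ∀ y ∈ Fb, y ⬝ᵥ (B *ᵥ y) = 8 := fun y hy =>
    (hS8 y).mp (Finset.mem_filter.mp hy).1
  have hFbr : ∀ y ∈ Fb, red y = red x := fun y hy => (Finset.mem_filter.mp hy).2
  have hneg : ∀ y ∈ Fb, -y ∈ Fb := by
    intro y hy
    rw [hFb, Finset.mem_filter, hS8, q_neg B hsymm hpos heven h2, ← hFbr y hy]
    refine ⟨hFb8 y hy, ?_⟩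
    rw [red_eq_iff]
    intro k
    exact ⟨-y k, by simp only [Pi.sub_apply, Pi.neg_apply]; ring⟩
  have hne0 : ∀ y ∈ Fb, y ≠ -y := fun y hy =>
    ne_neg B hsymm hpos heven h2 y (q_ne_zero B hsymm hpos heven h2 y 8 (by norm_num) (hFb8 y hy))
  set P := Fb.filter fun y => WellOrderingRel y (-y) with hP
  have hPF : ∀ y ∈ P, y ∈ Fb := fun y hy => (Finset.mem_filter.mp hy).1
  have hcover : Fb = P ∪ P.image (fun y => -y) := by
    ext y
    rw [Finset.mem_union, Finset.mem_image]
    constructor
    · intro hy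
      by_cases hyP : y ∈ P
      · exact Or.inl hyP
      · right
        refine ⟨-y, ?_, neg_neg y⟩
        rw [hP, Finset.mem_filter]
        refine ⟨hneg y hy, ?_⟩
        rw [neg_neg]
        rcases trichotomous_of WellOrderingRel y (-y) with h | h | h
        · exact absurd (Finset.mem_filter.mpr ⟨hy, h⟩) hyP
        · exact absurd h (hne0 y hy)
        · exact h
    · rintro (hy | ⟨z, hz, rfl⟩)
      · exact hPF y hy
      · exact hneg z (hPF z hz)
  have hdisj : Disjoint P (P.image (fun y => -y)) := by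
    rw [Finset.disjoint_left]
    intro y hy hy'
    obtain ⟨z, hz, rfl⟩ := Finset.mem_image.mp hy'
    have a1 := (Finset.mem_filter.mp hy).2
    have a2 := (Finset.mem_filter.mp hz).2
    rw [neg_neg] at a1
    exact asymm_of WellOrderingRel a1 a2
  have hPcard : P.card = 24 := by
    have h1 := congrArg Finset.card hcover
    rw [Finset.card_union_of_disjoint hdisj,
      Finset.card_image_of_injective _ neg_injective, hfib] at h1
    omega
  let e := Finset.equivFinOfCardEq hPcard
  have hvP : ∀ i, ((e.symm i : ↥P) : V) ∈ P := fun i => (e.symm i).2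
  refine ⟨⟨fun i => ((e.symm i : ↥P) : V), fun i => hFb8 _ (hPF _ (hvP i)), ?_, ?_⟩⟩
  · intro i j hij
    have hne : ((e.symm i : ↥P) : V) ≠ ((e.symm j : ↥P) : V) := by
      intro h
      exact hij (e.symm.injective (Subtype.ext h))
    have hi := hPF _ (hvP i)
    have hj := hPF _ (hvP j)
    rcases geom B hsymm hpos heven h2 _ _ (le_of_eq (hFb8 _ hi)) (le_of_eq (hFb8 _ hj))
      ((hFbr _ hi).trans (hFbr _ hj).symm) with h | h | h
    · exact absurd h.symm hne
    · exfalso
      have a1 := (Finset.mem_filter.mp (hvP i)).2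
      have a2 := (Finset.mem_filter.mp (hvP j)).2
      rw [h, neg_neg] at a2
      exact asymm_of WellOrderingRel a1 a2
    · exact h.2.2
  · intro i j
    exact (hFbr _ (hPF _ (hvP i))).trans (hFbr _ (hPF _ (hvP j))).symm

end main

end Cfsg.Agent.Lib.Helper9.LeechU5
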