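import Mathlib
import Cfsg.Prelude.Def_Sporadic_a
import Cfsg.Agent.Lib.Helper9.LeechU5

set_option autoImplicit false
set_option linter.unusedSectionVars false

/-! The isometry of an even root-free lattice with the vector counts of the rank-24 code
lattice onto that lattice. -/

namespace Cfsg.Agent.Lib.Helper9.LeechU6

open Matrix Finset Module Cfsg
open Cfsg.Agent.Lib.Helper9.EvenLat1 Cfsg.Agent.Lib.Helper9.LeechU1
  Cfsg.Agent.Lib.Helper9.LeechU2 Cfsg.Agent.Lib.Helper9.LeechU3 Cfsg.Agent.Lib.Helper9.LeechU4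
  Cfsg.Agent.Lib.Helper9.LeechU5

section main

variable {B : Matrix (Fin 24) (Fin 24) ℤ}
variable (hsymm : B.IsSymm) (hpos : ∀ x : V, x ≠ 0 → 0 < x ⬝ᵥ (B *ᵥ x))
  (heven : ∀ x : V, (2 : ℤ) ∣ x ⬝ᵥ (B *ᵥ x))
  (h2 : ∀ x : V, x ⬝ᵥ (B *ᵥ x) ≠ 2)
  (F : Frame B) (x0 : V) (hx0 : ∀ i, coord F x0 i % 4 = 1) (e : Fin 24 ≃ GolayPt)
  (he : ∀ w : GolayPt → ZMod 2, w ∈ golayCode ↔ (fun i => w (e i)) ∈ code F)

/-- the map to coordinates indexed by the 24 points -/
def fmap (F : Frame B) (e : Fin 24 ≃ GolayPt) (x : V) : GolayPt → ℤ :=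
  fun p => coord F x (e.symm p)

omit hsymm hpos heven h2 in
theorem fmap_add (x y : V) : fmap F e (x + y) = fmap F e x + fmap F e y := by
  funext p; unfold fmap; rw [coord_add]; rfl

omit hsymm hpos heven h2 in
theorem sum_fmap (x : V) : ∑ p, fmap F e x p = ∑ i, coord F x i := by
  unfold fmap
  exact Equiv.sum_comp e.symm (fun i => coord F x i)

include hsymm hpos heven h2 hx0 he

/-- supports of patterns -/
theorem supp_mem (y : V) (hy : IsEven F y) :
    (univ.filter fun p : GolayPt => hc F y (e.symm p) % 2 = 1) ∈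
      supports (golayCode : Set (GolayPt → ZMod 2)) := by
  refine ⟨fun p => pat F y (e.symm p), ?_, ?_⟩
  · rw [SetLike.mem_coe, he]
    have : (fun i => pat F y (e.symm (e i))) = pat F y := by
      funext i; rw [Equiv.symm_apply_apply]
    rw [this]
    exact ⟨y, hy, rfl⟩
  · unfold support₂
    ext p
    simp only [Finset.mem_filter, Finset.mem_univ, true_and]
    exact pat_ne_zero_iff F y (e.symm p)

theorem empty_mem : (∅ : Finset GolayPt) ∈ supports (golayCode : Set (GolayPt → ZMod 2)) := by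
  refine ⟨0, golayCode.zero_mem, ?_⟩
  unfold support₂
  ext p
  simp

theorem isEven_two_x0 : IsEven F ((2 : ℤ) • x0) := fun i => by
  rw [coord_smul, Pi.smul_apply, smul_eq_mul]; exact dvd_mul_right _ _

theorem hc_two_x0 (i : Fin 24) : hc F ((2 : ℤ) • x0) i = coord F x0 i := by
  unfold hc
  rw [coord_smul, Pi.smul_apply, smul_eq_mul]
  omega

/-- the residue sets of an even vector -/
theorem sets_mem (y : V) (hy : IsEven F y) (r : ℤ) (hr : r = 0 ∨ r = 2) :
    (univ.filter fun p : GolayPt => coord F y (e.symm p) % 4 = r) ∈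
      supports (golayCode : Set (GolayPt → ZMod 2)) := by
  rcases hr with rfl | rfl
  · have hy' : IsEven F (y + (2 : ℤ) • x0) :=
      isEven_add F _ _ hy (isEven_two_x0 hsymm hpos heven h2 F x0 hx0 e he)
    have h := supp_mem hsymm hpos heven h2 F x0 hx0 e he _ hy'
    convert h using 2
    rename_i p _hp
    rw [hc_add F _ _ hy (isEven_two_x0 hsymm hpos heven h2 F x0 hx0 e he), Pi.add_apply,
      hc_two_x0 hsymm hpos heven h2 F x0 hx0 e he]
    have h1 := two_hc F y hy (e.symm p)
    have h3 := hx0 (e.symm p)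
    omega
  · have h := supp_mem hsymm hpos heven h2 F x0 hx0 e he y hy
    convert h using 2
    rename_i p _hp
    have h1 := two_hc F y hy (e.symm p)
    omega

/-- coordinate sums of even vectors -/
theorem sum_even (y : V) (hy : IsEven F y) : (8 : ℤ) ∣ ∑ i, coord F y i := by
  have h := coord_dot hsymm hpos F y x0
  have h1 : ∑ i, coord F y i * coord F x0 i =
      ∑ i, coord F y i + 8 * ∑ i, hc F y i * (coord F x0 i / 4) := by
    rw [Finset.mul_sum, ← Finset.sum_add_distrib]
    apply Finset.sum_congr rfl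
    intro i _
    have e1 := two_hc F y hy i
    have e2 : coord F x0 i = 4 * (coord F x0 i / 4) + 1 := by have := hx0 i; omega
    rw [e1]
    nth_rewrite 1 [e2]
    ring
  rw [h1] at h
  exact ⟨bil B y x0 - ∑ i, hc F y i * (coord F x0 i / 4), by linarith⟩

/-- coordinate sum of the odd reference vector -/
theorem sum_x0 : (∑ i, coord F x0 i) % 8 = 4 := by
  have h := coord_sq hsymm hpos F x0
  obtain ⟨k, hk⟩ := heven x0
  unfold bil at h
  rw [hk] at h
  have h1 : ∑ i, coord F x0 i ^ 2 =
      24 + 8 * ∑ i, coord F x0 i / 4 + 16 * ∑ i, (coord F x0 i / 4) ^ 2 := by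
    rw [Finset.mul_sum, Finset.mul_sum]
    have : (24 : ℤ) = ∑ _i : Fin 24, (1 : ℤ) := by simp
    rw [this, ← Finset.sum_add_distrib, ← Finset.sum_add_distrib]
    apply Finset.sum_congr rfl
    intro i _
    have e2 : coord F x0 i = 4 * (coord F x0 i / 4) + 1 := by have := hx0 i; omega
    nth_rewrite 1 [e2]
    ring
  have h3 : ∑ i, coord F x0 i = 24 + 4 * ∑ i, coord F x0 i / 4 := by
    rw [Finset.mul_sum]
    have : (24 : ℤ) = ∑ _i : Fin 24, (1 : ℤ) := by simp
    rw [this, ← Finset.sum_add_distrib]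
    apply Finset.sum_congr rfl
    intro i _
    have := hx0 i; omega
  rw [h1] at h
  omega

end main

end Cfsg.Agent.Lib.Helper9.LeechU6
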