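import Mathlib
import Cfsg.Prelude.Def_Sporadic_a
import Cfsg.Agent.Lib.Helper9.LeechU6

set_option autoImplicit false
set_option linter.unusedSectionVars false

/-! The coordinate map of an even root-free lattice with the right vector counts is an
isometry onto the rank-24 code lattice (scaled). -/

namespace Cfsg.Agent.Lib.Helper9.LeechU7

open Matrix Finset Module Cfsg
open Cfsg.Agent.Lib.Helper9.EvenLat1 Cfsg.Agent.Lib.Helper9.LeechU1
  Cfsg.Agent.Lib.Helper9.LeechU2 Cfsg.Agent.Lib.Helper9.LeechU3 Cfsg.Agent.Lib.Helper9.LeechU4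
  Cfsg.Agent.Lib.Helper9.LeechU5 Cfsg.Agent.Lib.Helper9.LeechU6

section main

variable {B : Matrix (Fin 24) (Fin 24) ℤ}
variable (hsymm : B.IsSymm) (hpos : ∀ x : V, x ≠ 0 → 0 < x ⬝ᵥ (B *ᵥ x))
  (heven : ∀ x : V, (2 : ℤ) ∣ x ⬝ᵥ (B *ᵥ x))
  (h2 : ∀ x : V, x ⬝ᵥ (B *ᵥ x) ≠ 2)
  (F : Frame B) (x0 : V) (hx0 : ∀ i, coord F x0 i % 4 = 1) (e : Fin 24 ≃ GolayPt)
  (he : ∀ w : GolayPt → ZMod 2, w ∈ golayCode ↔ (fun i => w (e i)) ∈ code F)

include hsymm hpos heven h2 hx0 he

/-- even vectors land in the generating set -/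
theorem mem_even (x : V) (hx : IsEven F x) : fmap F e x ∈ leechSet := by
  refine ⟨0, fun p => ?_, ?_, fun k => ?_⟩
  · rw [Int.modEq_zero_iff_dvd]; exact hx (e.symm p)
  · rw [sum_fmap]
    obtain ⟨s, hs⟩ := sum_even hsymm hpos heven h2 F x0 hx0 e he x hx
    rw [hs]; unfold Int.ModEq; omega
  · have hk4 : k % 4 = 0 ∨ k % 4 = 2 ∨ k % 4 = 1 ∨ k % 4 = 3 := by omega
    rcases hk4 with hk | hk | hk | hk
    · have : (univ.filter fun p : GolayPt => fmap F e x p ≡ k [ZMOD 4]) =
          univ.filter fun p : GolayPt => coord F x (e.symm p) % 4 = 0 :=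
        Finset.filter_congr (fun p _ => by unfold Int.ModEq fmap; omega)
      rw [this]
      exact sets_mem hsymm hpos heven h2 F x0 hx0 e he x hx 0 (Or.inl rfl)
    · have : (univ.filter fun p : GolayPt => fmap F e x p ≡ k [ZMOD 4]) =
          univ.filter fun p : GolayPt => coord F x (e.symm p) % 4 = 2 :=
        Finset.filter_congr (fun p _ => by unfold Int.ModEq fmap; omega)
      rw [this]
      exact sets_mem hsymm hpos heven h2 F x0 hx0 e he x hx 2 (Or.inr rfl)
    · have : (univ.filter fun p : GolayPt => fmap F e x p ≡ k [ZMOD 4]) = ∅ := by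
        apply Finset.filter_false_of_mem
        intro p _
        have h1 := hx (e.symm p)
        unfold Int.ModEq fmap; omega
      rw [this]
      exact empty_mem hsymm hpos heven h2 F x0 hx0 e he
    · have : (univ.filter fun p : GolayPt => fmap F e x p ≡ k [ZMOD 4]) = ∅ := by
        apply Finset.filter_false_of_mem
        intro p _
        have h1 := hx (e.symm p)
        unfold Int.ModEq fmap; omega
      rw [this]
      exact empty_mem hsymm hpos heven h2 F x0 hx0 e he

/-- odd vectors land in the generating set -/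
theorem mem_odd (x : V) (hx : ¬ IsEven F x) : fmap F e x ∈ leechSet := by
  have hodd : ∀ i, coord F x i % 2 = 1 := by
    unfold IsEven at hx
    push Not at hx
    obtain ⟨j, hj⟩ := hx
    intro i
    have := coord_parity hsymm hpos F x i j
    omega
  have hy : IsEven F (x - x0) := fun i => by
    rw [coord_sub, Pi.sub_apply]
    have h1 := hodd i
    have h3 := hx0 i
    omega
  have hxy : ∀ i, coord F x i = coord F (x - x0) i + coord F x0 i := by
    intro i; rw [coord_sub, Pi.sub_apply]; ring
  refine ⟨1, fun p => ?_, ?_, fun k => ?_⟩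
  · have := hodd (e.symm p)
    unfold Int.ModEq fmap; omega
  · rw [sum_fmap]
    obtain ⟨s, hs⟩ := sum_even hsymm hpos heven h2 F x0 hx0 e he _ hy
    have h4 := sum_x0 hsymm hpos heven h2 F x0 hx0 e he
    have : ∑ i, coord F x i = ∑ i, coord F (x - x0) i + ∑ i, coord F x0 i := by
      rw [← Finset.sum_add_distrib]
      exact Finset.sum_congr rfl (fun i _ => hxy i)
    rw [this, hs]; unfold Int.ModEq; omega
  · have hk4 : k % 4 = 1 ∨ k % 4 = 3 ∨ k % 4 = 0 ∨ k % 4 = 2 := by omega
    rcases hk4 with hk | hk | hk | hk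
    · have : (univ.filter fun p : GolayPt => fmap F e x p ≡ k [ZMOD 4]) =
          univ.filter fun p : GolayPt => coord F (x - x0) (e.symm p) % 4 = 0 :=
        Finset.filter_congr (fun p _ => by
          have h1 := hxy (e.symm p)
          have h3 := hx0 (e.symm p)
          unfold Int.ModEq fmap; omega)
      rw [this]
      exact sets_mem hsymm hpos heven h2 F x0 hx0 e he _ hy 0 (Or.inl rfl)
    · have : (univ.filter fun p : GolayPt => fmap F e x p ≡ k [ZMOD 4]) =
          univ.filter fun p : GolayPt => coord F (x - x0) (e.symm p) % 4 = 2 :=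
        Finset.filter_congr (fun p _ => by
          have h1 := hxy (e.symm p)
          have h3 := hx0 (e.symm p)
          unfold Int.ModEq fmap; omega)
      rw [this]
      exact sets_mem hsymm hpos heven h2 F x0 hx0 e he _ hy 2 (Or.inr rfl)
    · have : (univ.filter fun p : GolayPt => fmap F e x p ≡ k [ZMOD 4]) = ∅ := by
        apply Finset.filter_false_of_mem
        intro p _
        have h1 := hodd (e.symm p)
        unfold Int.ModEq fmap; omega
      rw [this]
      exact empty_mem hsymm hpos heven h2 F x0 hx0 e he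
    · have : (univ.filter fun p : GolayPt => fmap F e x p ≡ k [ZMOD 4]) = ∅ := by
        apply Finset.filter_false_of_mem
        intro p _
        have h1 := hodd (e.symm p)
        unfold Int.ModEq fmap; omega
      rw [this]
      exact empty_mem hsymm hpos heven h2 F x0 hx0 e he

theorem fmap_mem (x : V) : fmap F e x ∈ leechSet := by
  by_cases hx : IsEven F x
  · exact mem_even hsymm hpos heven h2 F x0 hx0 e he x hx
  · exact mem_odd hsymm hpos heven h2 F x0 hx0 e he x hx

/-- even vectors of the code lattice are hit -/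
theorem surj_even (z : GolayPt → ℤ) (hz : ∀ p, (2 : ℤ) ∣ z p) (hs : (8 : ℤ) ∣ ∑ p, z p)
    (hset : (univ.filter fun p : GolayPt => z p % 4 = 2) ∈
      supports (golayCode : Set (GolayPt → ZMod 2))) :
    ∃ x : V, fmap F e x = z := by
  obtain ⟨w, hw, hsupp⟩ := hset
  rw [SetLike.mem_coe, he] at hw
  obtain ⟨y, hy, hpat⟩ := hw
  have hw2 : ∀ i, (coord F y i % 4 = 2 ↔ z (e i) % 4 = 2) := by
    intro i
    have h1 : pat F y i ≠ 0 ↔ hc F y i % 2 = 1 := pat_ne_zero_iff F y i
    have h3 : pat F y i = w (e i) := congrFun hpat i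
    have h4 : w (e i) ≠ 0 ↔ z (e i) % 4 = 2 := by
      have : e i ∈ support₂ w ↔ e i ∈ (univ.filter fun p : GolayPt => z p % 4 = 2) := by
        rw [hsupp]
      unfold support₂ at this
      simpa only [Finset.mem_filter, Finset.mem_univ, true_and] using this
    rw [h3] at h1
    have h5 := two_hc F y hy i
    rw [← h4, h1]
    omega
  have hdiv : ∀ i, (4 : ℤ) ∣ z (e i) - coord F y i := by
    intro i
    have h1 := hw2 i
    have h3 := hz (e i)
    have h4 := hy i
    by_cases h5 : coord F y i % 4 = 2
    · have := h1.mp h5; omega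
    · have : ¬ z (e i) % 4 = 2 := fun h => h5 (h1.mpr h)
      omega
  have hsum : (2 : ℤ) ∣ ∑ i, (z (e i) - coord F y i) / 4 := by
    have h1 : ∑ i, (z (e i) - coord F y i) = 4 * ∑ i, (z (e i) - coord F y i) / 4 := by
      rw [Finset.mul_sum]
      apply Finset.sum_congr rfl
      intro i _
      have := hdiv i
      omega
    rw [Finset.sum_sub_distrib] at h1
    have h3 : ∑ i, z (e i) = ∑ p, z p := Equiv.sum_comp e z
    obtain ⟨s, hs'⟩ := sum_even hsymm hpos heven h2 F x0 hx0 e he y hy
    obtain ⟨t, ht⟩ := hs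
    rw [h3, ht, hs'] at h1
    omega
  obtain ⟨u, hu⟩ := exists_D24 hsymm hpos F (fun i => (z (e i) - coord F y i) / 4) hsum
  refine ⟨y + u, ?_⟩
  funext p
  unfold fmap
  rw [coord_add, Pi.add_apply, hu]
  have := hdiv (e.symm p)
  rw [Equiv.apply_symm_apply] at this ⊢
  omega

/-- every generator of the code lattice is hit -/
theorem surj_set (z : GolayPt → ℤ) (hz : z ∈ leechSet) : ∃ x : V, fmap F e x = z := by
  obtain ⟨m, hpar, hsum, hsets⟩ := hz
  rcases Int.emod_two_eq_zero_or_one m with hm | hm
  · apply surj_even hsymm hpos heven h2 F x0 hx0 e he z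
    · intro p
      have := hpar p
      unfold Int.ModEq at this; omega
    · unfold Int.ModEq at hsum; omega
    · have : (univ.filter fun p : GolayPt => z p % 4 = 2) =
          univ.filter fun p : GolayPt => z p ≡ 2 [ZMOD 4] :=
        Finset.filter_congr (fun p _ => by unfold Int.ModEq; omega)
      rw [this]
      exact hsets 2
  · have g1 : ∀ p, (2 : ℤ) ∣ (z - fmap F e x0) p := by
      intro p
      have := hpar p
      have h3 := hx0 (e.symm p)
      rw [Pi.sub_apply]
      unfold Int.ModEq at this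
      unfold fmap; omega
    have g2 : (8 : ℤ) ∣ ∑ p, (z - fmap F e x0) p := by
      have h4 := sum_x0 hsymm hpos heven h2 F x0 hx0 e he
      have : ∑ p, (z - fmap F e x0) p = ∑ p, z p - ∑ i, coord F x0 i := by
        rw [← sum_fmap F e x0, ← Finset.sum_sub_distrib]
        rfl
      rw [this]
      unfold Int.ModEq at hsum; omega
    have g3 : (univ.filter fun p : GolayPt => (z - fmap F e x0) p % 4 = 2) ∈
        supports (golayCode : Set (GolayPt → ZMod 2)) := by
      have : (univ.filter fun p : GolayPt => (z - fmap F e x0) p % 4 = 2) =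
          univ.filter fun p : GolayPt => z p ≡ 3 [ZMOD 4] :=
        Finset.filter_congr (fun p _ => by
          have h3 := hx0 (e.symm p)
          rw [Pi.sub_apply]
          unfold Int.ModEq fmap; omega)
      rw [this]
      exact hsets 3
    obtain ⟨x', hx'⟩ := surj_even hsymm hpos heven h2 F x0 hx0 e he (z - fmap F e x0) g1 g2 g3
    refine ⟨x' + x0, ?_⟩
    rw [fmap_add, hx']; abel

/-- the coordinate map as a homomorphism -/
def fhom (F : Frame B) (e : Fin 24 ≃ GolayPt) : V →+ (GolayPt → ℤ) where
  toFun := fmap F e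
  map_zero' := by funext p; unfold fmap; rw [coord_zero]; rfl
  map_add' := fmap_add F e

theorem range_fhom : (fhom F e).range = leechLattice := by
  apply le_antisymm
  · rintro _ ⟨x, rfl⟩
    exact AddSubgroup.subset_closure (fmap_mem hsymm hpos heven h2 F x0 hx0 e he x)
  · unfold leechLattice
    rw [AddSubgroup.closure_le]
    intro z hz
    obtain ⟨x, hx⟩ := surj_set hsymm hpos heven h2 F x0 hx0 e he z hz
    exact ⟨x, hx⟩

theorem fmap_injective : Function.Injective (fmap F e) := by
  intro x y hxy
  apply coord_injective hsymm hpos F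
  funext i
  have := congrFun hxy (e i)
  unfold fmap at this
  rwa [Equiv.symm_apply_apply] at this

theorem sqNorm_fmap (x : V) : sqNorm (fmap F e x) = 8 * (x ⬝ᵥ (B *ᵥ x)) := by
  unfold sqNorm fmap
  rw [Equiv.sum_comp e.symm (fun i => coord F x i ^ 2)]
  exact coord_sq hsymm hpos F x

/-- the isometry -/
theorem exists_iso : ∃ f : V ≃+ leechLattice,
    ∀ x : V, sqNorm ((f x : leechLattice) : GolayPt → ℤ) = 8 * (x ⬝ᵥ (B *ᵥ x)) := by
  have hr := range_fhom hsymm hpos heven h2 F x0 hx0 e he
  have hmem : ∀ x, fhom F e x ∈ leechLattice := by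
    intro x; rw [← hr]; exact ⟨x, rfl⟩
  let g : V →+ leechLattice := (fhom F e).codRestrict leechLattice hmem
  have hg : ∀ x, ((g x : leechLattice) : GolayPt → ℤ) = fmap F e x := fun x => rfl
  have hbij : Function.Bijective g := by
    constructor
    · intro x y hxy
      apply fmap_injective hsymm hpos heven h2 F x0 hx0 e he
      rw [← hg, ← hg, hxy]
    · rintro ⟨z, hz⟩
      rw [← hr] at hz
      obtain ⟨x, hx⟩ := hz
      exact ⟨x, Subtype.ext hx⟩
  refine ⟨AddEquiv.ofBijective g hbij, fun x => ?_⟩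
  rw [AddEquiv.ofBijective_apply, hg]
  exact sqNorm_fmap hsymm hpos heven h2 F x0 hx0 e he x

end main

end Cfsg.Agent.Lib.Helper9.LeechU7
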