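import Cfsg.Agent.Lib.Helper9.GolayM24c
import Cfsg.Agent.Lib.Helper9.GolayQR7
import Cfsg.Agent.Lib.Helper9.Chain1

set_option autoImplicit false

namespace Cfsg.Agent.Lib.Helper9.M24T1

open Cfsg Finset Cfsg.Agent.Lib.Helper9.Golay1 Cfsg.Agent.Lib.Helper9.GolayQR1
  Cfsg.Agent.Lib.Helper9.GolayQR3 Cfsg.Agent.Lib.Helper9.GolayQR4
  Cfsg.Agent.Lib.Helper9.GolayQR5 Cfsg.Agent.Lib.Helper9.GolayQR7
open scoped Pointwise

/-- function on the 24 points given by a table of images -/
def tfun (l : List ℕ) : GolayPt → GolayPt := fun p => unidx (l.getD (idx p) 0)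

/-- permutation of the 24 points given by a table and the inverse table -/
def tperm (l l' : List ℕ) (h1 : ∀ p, tfun l' (tfun l p) = p) (h2 : ∀ p, tfun l (tfun l' p) = p) :
    Equiv.Perm GolayPt := ⟨tfun l, tfun l', h1, h2⟩

theorem tperm_apply (l l' : List ℕ) (h1 : ∀ p, tfun l' (tfun l p) = p)
    (h2 : ∀ p, tfun l (tfun l' p) = p) (p : GolayPt) : tperm l l' h1 h2 p = tfun l p := rfl

/-! ### orbits by breadth-first search -/

/-- one round of closing a list of points under a list of maps -/
def orbStep (fs : List (GolayPt → GolayPt)) (l : List GolayPt) : List GolayPt :=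
  (l ++ fs.flatMap (fun f => l.map f)).dedup

theorem orb_sound (H : Subgroup (Equiv.Perm GolayPt)) (fs : List (GolayPt → GolayPt))
    (hfs : ∀ f ∈ fs, ∃ h ∈ H, ⇑h = f) (b : GolayPt) (n : ℕ) :
    ∀ p ∈ (orbStep fs)^[n] [b], ∃ h ∈ H, h b = p := by
  induction n with
  | zero =>
    intro p hp
    rw [Function.iterate_zero, id, List.mem_singleton] at hp
    exact ⟨1, H.one_mem, hp.symm⟩
  | succ n ih =>
    intro p hp
    rw [Function.iterate_succ_apply'] at hp
    unfold orbStep at hp
    rw [List.mem_dedup, List.mem_append, List.mem_flatMap] at hp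
    rcases hp with hp | ⟨f, hf, hp⟩
    · exact ih p hp
    · rw [List.mem_map] at hp
      obtain ⟨q, hq, rfl⟩ := hp
      obtain ⟨h, hh, rfl⟩ := hfs f hf
      obtain ⟨h', hh', rfl⟩ := ih q hq
      exact ⟨h * h', H.mul_mem hh hh', rfl⟩

/-! ### invariant masks -/

/-- the set of points coded by a mask is mapped to itself -/
def MaskInv (g : Equiv.Perm GolayPt) (m : ℕ) : Prop :=
  ∀ p, m.testBit (idx (g p)) = m.testBit (idx p)

theorem maskInv_zero (g : Equiv.Perm GolayPt) : MaskInv g 0 := fun p => by simp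

theorem testBit_ones : ∀ p : GolayPt, (16777215 : ℕ).testBit (idx p) = true := by decide +kernel

theorem maskInv_ones (g : Equiv.Perm GolayPt) : MaskInv g 16777215 := fun p => by
  rw [testBit_ones, testBit_ones]

theorem maskInv_and (g : Equiv.Perm GolayPt) (m n : ℕ) (hm : MaskInv g m) (hn : MaskInv g n) :
    MaskInv g (m &&& n) := fun p => by
  rw [Nat.testBit_and, Nat.testBit_and, hm p, hn p]

theorem maskInv_xor (g : Equiv.Perm GolayPt) (m n : ℕ) (hm : MaskInv g m) (hn : MaskInv g n) :
    MaskInv g (m ^^^ n) := fun p => by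
  rw [Nat.testBit_xor, Nat.testBit_xor, hm p, hn p]

theorem idx_injective : Function.Injective idx := fun p q h => by
  rw [← unidx_idx p, ← unidx_idx q, h]

theorem fixed_of_maskInv (g : Equiv.Perm GolayPt) (i : ℕ) (hi : i < 24)
    (h : MaskInv g (2 ^ i)) : g (unidx i) = unidx i := by
  have h1 := h (unidx i)
  rw [Nat.testBit_two_pow, Nat.testBit_two_pow, idx_unidx i hi] at h1
  simp only [decide_true, decide_eq_true_eq] at h1
  apply idx_injective
  rw [← h1, idx_unidx i hi]

theorem mem_supp_dec (m : ℕ) (p : GolayPt) : p ∈ supp (dec m) ↔ m.testBit (idx p) = true := by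
  rw [mem_supp, dec_ne_zero_iff]

theorem dec_mem_of_reprod (m : ℕ) (h : reprod m = m) : dec m ∈ golayCode := by
  rw [golayCode_eq_span]
  exact dec_mem_span_of_reprod m h

theorem smul_octad_mem (g : Equiv.Perm GolayPt) (hg : g ∈ M24) (o : Finset GolayPt)
    (ho : o ∈ octads) : g • o ∈ octads := by
  rw [Cfsg.Agent.Lib.Helper9.GolayM24c.M24_eq_aut_octads, MulAction.mem_stabilizer_iff] at hg
  rw [← hg]
  exact ⟨o, ho, rfl⟩

/-- an octad containing five fixed points of an automorphism is invariant -/
theorem maskInv_octad (g : Equiv.Perm GolayPt) (hg : g ∈ M24) (m F : ℕ)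
    (hF : ∀ p, F.testBit (idx p) = true → g p = p) (hm : reprod m = m) (h8 : wt24 m = 8)
    (h5 : 5 ≤ wt24 (m &&& F)) : MaskInv g m := by
  have ho : supp (dec m) ∈ octads := word_octad _ (dec_mem_of_reprod m hm) (by rw [wt_dec, h8])
  have hgo := smul_octad_mem g hg _ ho
  have h5' : 5 ≤ (supp (dec (m &&& F))).card := by rw [← wt_eq, wt_dec]; exact h5
  obtain ⟨s, hs, hs5⟩ := exists_subset_card_eq h5'
  have hs1 : s ⊆ supp (dec m) := by
    intro p hp
    have := hs hp
    rw [mem_supp_dec, Nat.testBit_and, Bool.and_eq_true] at this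
    rw [mem_supp_dec]
    exact this.1
  have hs2 : s ⊆ g • supp (dec m) := by
    intro p hp
    have := hs hp
    rw [mem_supp_dec, Nat.testBit_and, Bool.and_eq_true] at this
    rw [Finset.mem_smul_finset]
    refine ⟨p, hs1 hp, ?_⟩
    rw [Equiv.Perm.smul_def]
    exact hF p this.2
  obtain ⟨x, -, hx⟩ := octads_isSteiner.2 s hs5
  have e : g • supp (dec m) = supp (dec m) := by
    rw [hx _ ⟨hgo, hs2⟩, hx _ ⟨ho, hs1⟩]
  intro p
  rw [Bool.eq_iff_iff, ← mem_supp_dec, ← mem_supp_dec]
  constructor
  · intro h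
    rw [← e, Finset.mem_smul_finset] at h
    obtain ⟨q, hq, hqp⟩ := h
    rw [Equiv.Perm.smul_def] at hqp
    rwa [← g.injective hqp]
  · intro h
    rw [← e, Finset.mem_smul_finset]
    exact ⟨p, h, rfl⟩

/-! ### certificates of triviality -/

/-- a step of a fixed-point certificate -/
inductive Step where
  | and (x y : ℕ)
  | xor (x y : ℕ)
  | oct (m : ℕ)
  | fix (i : ℕ)

/-- run a certificate on a state (list of invariant masks, mask of fixed points) -/
def run : List Step → List ℕ → ℕ → Option (List ℕ × ℕ)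
  | [], L, F => some (L, F)
  | Step.and x y :: r, L, F => if x ∈ L ∧ y ∈ L then run r ((x &&& y) :: L) F else none
  | Step.xor x y :: r, L, F => if x ∈ L ∧ y ∈ L then run r ((x ^^^ y) :: L) F else none
  | Step.oct m :: r, L, F =>
      if reprod m = m ∧ wt24 m = 8 ∧ 5 ≤ wt24 (m &&& F) then run r (m :: L) F else none
  | Step.fix i :: r, L, F => if 2 ^ i ∈ L ∧ i < 24 then run r L (F ||| 2 ^ i) else none

theorem run_sound (g : Equiv.Perm GolayPt) (hg : g ∈ M24) (steps : List Step) :
    ∀ (L : List ℕ) (F : ℕ) (L' : List ℕ) (F' : ℕ), (∀ m ∈ L, MaskInv g m) →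
      (∀ p, F.testBit (idx p) = true → g p = p) → run steps L F = some (L', F') →
      (∀ m ∈ L', MaskInv g m) ∧ (∀ p, F'.testBit (idx p) = true → g p = p) := by
  induction steps with
  | nil =>
    intro L F L' F' hL hF hrun
    simp only [run, Option.some.injEq, Prod.mk.injEq] at hrun
    obtain ⟨rfl, rfl⟩ := hrun
    exact ⟨hL, hF⟩
  | cons st r ih =>
    intro L F L' F' hL hF hrun
    cases st with
    | and x y =>
      simp only [run] at hrun
      split_ifs at hrun with hc
      refine ih _ _ _ _ ?_ hF hrun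
      intro m hm
      rcases List.mem_cons.mp hm with rfl | hm
      · exact maskInv_and g x y (hL x hc.1) (hL y hc.2)
      · exact hL m hm
    | xor x y =>
      simp only [run] at hrun
      split_ifs at hrun with hc
      refine ih _ _ _ _ ?_ hF hrun
      intro m hm
      rcases List.mem_cons.mp hm with rfl | hm
      · exact maskInv_xor g x y (hL x hc.1) (hL y hc.2)
      · exact hL m hm
    | oct m =>
      simp only [run] at hrun
      split_ifs at hrun with hc
      refine ih _ _ _ _ ?_ hF hrun
      intro m' hm'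
      rcases List.mem_cons.mp hm' with rfl | hm'
      · exact maskInv_octad g hg m' F hF hc.1 hc.2.1 hc.2.2
      · exact hL m' hm'
    | fix i =>
      simp only [run] at hrun
      split_ifs at hrun with hc
      refine ih _ _ _ _ hL ?_ hrun
      intro p hp
      rw [Nat.testBit_or, Bool.or_eq_true] at hp
      rcases hp with hp | hp
      · exact hF p hp
      · rw [Nat.testBit_two_pow, decide_eq_true_eq] at hp
        have := fixed_of_maskInv g i hc.2 (hL _ hc.1)
        rw [hp, unidx_idx] at this
        exact this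

/-- a successful certificate ending with all points fixed proves triviality -/
theorem eq_one_of_run (g : Equiv.Perm GolayPt) (hg : g ∈ M24) (steps : List Step)
    (L : List ℕ) (F : ℕ) (L' : List ℕ) (hL : ∀ m ∈ L, MaskInv g m)
    (hF : ∀ p, F.testBit (idx p) = true → g p = p)
    (hrun : run steps L F = some (L', 16777215)) : g = 1 := by
  obtain ⟨-, h⟩ := run_sound g hg steps L F L' _ hL hF hrun
  apply Equiv.ext
  intro p
  exact h p (testBit_ones p)

end Cfsg.Agent.Lib.Helper9.M24T1
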