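import Cfsg.Agent.Lib.Helper9.LeechM1
import Cfsg.Agent.Lib.Helper9.M24T1

set_option autoImplicit false

/-! A non-monomial automorphism of the rank-24 lattice attached to the standard sextet:
basic definitions and algebraic identities. -/

namespace Cfsg.Agent.Lib.Helper9.LeechX1

open Cfsg Finset Cfsg.Agent.Lib.Helper4.Leech Cfsg.Agent.Lib.Helper9.LeechC7
  Cfsg.Agent.Lib.Helper9.GolayQR1

/-- the points of the six tetrads of the standard sextet, by index -/
def tetTab : List (List ℕ) :=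
  [[0, 1, 2, 23], [3, 5, 14, 17], [8, 11, 12, 18], [9, 10, 15, 20], [6, 7, 19, 21],
    [4, 13, 16, 22]]

/-- the tetrad number of each point, by index -/
def tetInv : List ℕ :=
  [0, 0, 0, 1, 5, 1, 4, 4, 2, 3, 3, 2, 2, 5, 1, 3, 5, 1, 2, 4, 3, 4, 5, 0]

/-- the `k`-th point of the `a`-th tetrad -/
def pt (a : Fin 6) (k : Fin 4) : GolayPt := unidx ((tetTab.getD a.val []).getD k.val 0)

/-- the tetrad containing a point -/
def tetF (p : GolayPt) : Fin 6 := ⟨tetInv.getD (idx p) 0 % 6, Nat.mod_lt _ (by norm_num)⟩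

theorem tetF_pt : ∀ (a : Fin 6) (k : Fin 4), tetF (pt a k) = a := by decide

theorem pt_surj : ∀ p : GolayPt, ∃ k : Fin 4, pt (tetF p) k = p := by decide

theorem pt_surj' (p : GolayPt) : ∃ (a : Fin 6) (k : Fin 4), pt a k = p :=
  ⟨tetF p, pt_surj p⟩

theorem pt_bij : Function.Bijective (fun ak : Fin 6 × Fin 4 => pt ak.1 ak.2) := by decide

/-- points as pairs (tetrad, position) -/
noncomputable def ptEquiv : Fin 6 × Fin 4 ≃ GolayPt := Equiv.ofBijective _ pt_bij

theorem sum_pt {β : Type*} [AddCommMonoid β] (g : GolayPt → β) :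
    ∑ i, g i = ∑ a : Fin 6, (g (pt a 0) + g (pt a 1) + g (pt a 2) + g (pt a 3)) := by
  rw [← Equiv.sum_comp ptEquiv g, Fintype.sum_prod_type]
  apply Finset.sum_congr rfl
  intro a _
  rw [Fin.sum_univ_four]
  rfl

/-- the sum of a vector over a tetrad -/
def S (x : GolayPt → ℤ) (a : Fin 6) : ℤ := x (pt a 0) + x (pt a 1) + x (pt a 2) + x (pt a 3)

/-- the sign attached to a tetrad -/
def sgn (a : Fin 6) : ℤ := if a = 0 then -1 else 1

theorem sgn_sq (a : Fin 6) : sgn a * sgn a = 1 := by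
  unfold sgn
  split_ifs <;> norm_num

theorem sgn_cases (a : Fin 6) : sgn a = 1 ∨ sgn a = -1 := by
  unfold sgn
  split_ifs <;> simp

/-- the non-monomial map on vectors -/
def xiFun (x : GolayPt → ℤ) : GolayPt → ℤ := fun i => sgn (tetF i) * (x i - S x (tetF i) / 2)

theorem xiFun_pt (x : GolayPt → ℤ) (a : Fin 6) (k : Fin 4) :
    xiFun x (pt a k) = sgn a * (x (pt a k) - S x a / 2) := by
  unfold xiFun
  rw [tetF_pt]

theorem S_xiFun (x : GolayPt → ℤ) (a : Fin 6) :
    S (xiFun x) a = sgn a * (S x a - 4 * (S x a / 2)) := by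
  unfold S
  rw [xiFun_pt, xiFun_pt, xiFun_pt, xiFun_pt]
  unfold S
  ring

/-- all tetrad sums are even -/
def EvenT (x : GolayPt → ℤ) : Prop := ∀ a, (2 : ℤ) ∣ S x a

theorem evenT_of_parity (x : GolayPt → ℤ) (m : ℤ) (h : ∀ i, x i ≡ m [ZMOD 2]) : EvenT x := by
  intro a
  unfold S
  have h0 : x (pt a 0) % 2 = m % 2 := h _
  have h1 : x (pt a 1) % 2 = m % 2 := h _
  have h2 : x (pt a 2) % 2 = m % 2 := h _
  have h3 : x (pt a 3) % 2 = m % 2 := h _
  omega

theorem evenT_of_mem (x : GolayPt → ℤ) (hx : x ∈ leechLattice) : EvenT x := by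
  rw [mem_leechLattice_iff, mem_leechSet_iff] at hx
  obtain ⟨m, h1, -, -⟩ := hx
  exact evenT_of_parity x m h1

theorem xiFun_xiFun (x : GolayPt → ℤ) (hx : EvenT x) : xiFun (xiFun x) = x := by
  funext i
  obtain ⟨a, k, rfl⟩ := pt_surj' i
  rw [xiFun_pt, S_xiFun, xiFun_pt]
  obtain ⟨h, hh⟩ := hx a
  rw [hh]
  have e1 : (2 * h) / 2 = h := Int.mul_ediv_cancel_left _ (by norm_num)
  rw [e1]
  have e2 : sgn a * (2 * h - 4 * h) / 2 = - (sgn a * h) := by
    have : sgn a * (2 * h - 4 * h) = 2 * (-(sgn a * h)) := by ring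
    rw [this]
    exact Int.mul_ediv_cancel_left _ (by norm_num)
  rw [e2]
  have := sgn_sq a
  linear_combination (x (pt a k)) * this

theorem xiFun_add (x y : GolayPt → ℤ) (hx : EvenT x) (hy : EvenT y) :
    xiFun (x + y) = xiFun x + xiFun y := by
  funext i
  show sgn (tetF i) * ((x + y) i - S (x + y) (tetF i) / 2)
    = sgn (tetF i) * (x i - S x (tetF i) / 2) + sgn (tetF i) * (y i - S y (tetF i) / 2)
  have e : S (x + y) (tetF i) = S x (tetF i) + S y (tetF i) := by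
    unfold S
    simp only [Pi.add_apply]
    ring
  rw [e, Int.add_ediv_of_dvd_left (hx _)]
  simp only [Pi.add_apply]
  ring

theorem sqNorm_xiFun (x : GolayPt → ℤ) (hx : EvenT x) : sqNorm (xiFun x) = sqNorm x := by
  unfold sqNorm
  rw [sum_pt, sum_pt]
  apply Finset.sum_congr rfl
  intro a _
  rw [xiFun_pt, xiFun_pt, xiFun_pt, xiFun_pt]
  obtain ⟨h, hh⟩ := hx a
  rw [hh]
  have e1 : (2 * h) / 2 = h := Int.mul_ediv_cancel_left _ (by norm_num)
  rw [e1]
  have hs := sgn_sq a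
  have hS : x (pt a 0) + x (pt a 1) + x (pt a 2) + x (pt a 3) = 2 * h := hh
  have e3 : x (pt a 3) = 2 * h - x (pt a 0) - x (pt a 1) - x (pt a 2) := by linarith
  rw [e3]
  linear_combination
    ((x (pt a 0) - h) ^ 2 + (x (pt a 1) - h) ^ 2 + (x (pt a 2) - h) ^ 2
      + (2 * h - x (pt a 0) - x (pt a 1) - x (pt a 2) - h) ^ 2) * hs

end Cfsg.Agent.Lib.Helper9.LeechX1
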