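import Cfsg.Agent.Lib.Helper9.LeechX9

set_option autoImplicit false

/-! Normal forms of some lattice vectors of sum of squares 64 under the monomial group, and
their fusion under the non-monomial automorphism. -/

namespace Cfsg.Agent.Lib.Helper9.LeechX10

open Cfsg Finset Cfsg.Agent.Lib.Helper4.Leech Cfsg.Agent.Lib.Helper9.Golay1
  Cfsg.Agent.Lib.Helper9.LeechM1 Cfsg.Agent.Lib.Helper9.LeechX4
  Cfsg.Agent.Lib.Helper9.LeechX5 Cfsg.Agent.Lib.Helper9.LeechX6
  Cfsg.Agent.Lib.Helper9.LeechX7 Cfsg.Agent.Lib.Helper9.LeechX8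
  Cfsg.Agent.Lib.Helper9.LeechX9
  Cfsg.Agent.Lib.Helper9.GolayQR1 Cfsg.Agent.Lib.Helper9.GolayQR3
  Cfsg.Agent.Lib.Helper9.M24U1 Cfsg.Agent.Lib.Helper9.M24T5 Cfsg.Agent.Lib.Helper9.M24T1
  Cfsg.Agent.Lib.Helper9.M24X1
open Cfsg.Agent.Lib.Helper9.LeechC2 (fwd bwd par cl mem_lev')
open Cfsg.Agent.Lib.Helper9.LeechX1 (xiFun)
open scoped Pointwise

/-! ### moving a small set to standard position -/

theorem exists_map_set (s : Finset GolayPt) (n : ℕ) (hn : n ≤ 5) (hs : s.card = n) :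
    ∃ h ∈ M24, ∀ k, h k ∈ s ↔ ∃ m < n, k = bpt m := by
  classical
  let e := Finset.equivFinOfCardEq hs
  obtain ⟨h, hh, hmap⟩ := Cfsg.Agent.Lib.Helper9.M24T7.exists_mapn n hn
    (fun m => if hm : m < n then (e.symm ⟨m, hm⟩).1 else none) (by
      intro a ha b hb hab
      simp only [dif_pos ha, dif_pos hb] at hab
      have := e.symm.injective (Subtype.ext hab)
      exact Fin.mk.inj_iff.mp this)
  refine ⟨h, hh, fun k => ⟨fun hk => ?_, ?_⟩⟩
  · obtain ⟨m, hm⟩ : ∃ m : Fin n, e.symm m = ⟨h k, hk⟩ := e.symm.surjective _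
    refine ⟨m.1, m.2, ?_⟩
    apply h.injective
    rw [hmap m.1 m.2, dif_pos m.2]
    have := congrArg Subtype.val hm
    exact this.symm
  · rintro ⟨m, hm, rfl⟩
    rw [hmap m hm, dif_pos hm]
    exact (e.symm ⟨m, hm⟩).2

/-! ### shape `(8, 0²³)` -/

def L8v : List ℤ := [0, 0, 0, 0, 0, 0, 0, 0, 0, 0, 0, 0, 0, 0, 0, 0, 0, 0, 0, 0, 0, 0, 0, 8]

theorem L8v_mem : vecL L8v ∈ leechLattice :=
  mem_of_data _ 0 0 (Or.inl rfl) (by decide +kernel) (by decide +kernel) (by decide +kernel)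

def r8 : leechLattice := ⟨vecL L8v, L8v_mem⟩

theorem fix8 (w : leechLattice) (habs : ∀ i, |w.1 i| = |r8.1 i|) : RelN w r8 :=
  sign_fix_lists r8 [none] [] [8391797] (by decide +kernel) (by decide +kernel)
    (by decide +kernel) (by decide +kernel) (by decide +kernel) w habs

theorem r8_abs : ∀ k : GolayPt, |r8.1 k| = if k = none then 8 else 0 := by decide +kernel

theorem nf_8 (x : leechLattice) (h8 : cnt x.1 8 = 1) (h0 : cnt x.1 0 = 23) : RelN x r8 := by
  obtain ⟨i0, hi0, huniq⟩ := cnt_one x.1 8 h8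
  have hcov := cover x.1 {8, 0} (by rw [Finset.sum_pair (by norm_num)]; omega)
  obtain ⟨h, hh, hmap⟩ := Cfsg.Agent.Lib.Helper9.M24T7.exists_mapn 1 (by norm_num)
    (fun _ => i0) (by
      intro a ha b hb _
      omega)
  have e0 : h none = i0 := hmap 0 (by norm_num)
  refine relN_of_perm r8 x h hh fix8 fun k => ?_
  rw [r8_abs k]
  by_cases hk : k = none
  · rw [hk, e0, if_pos rfl, hi0]
  · rw [if_neg hk]
    have hne : |x.1 (h k)| ≠ 8 := by
      intro h'
      have := huniq _ h'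
      rw [← e0] at this
      exact hk (h.injective this)
    have := hcov (h k)
    simp only [mem_insert, mem_singleton] at this
    tauto

/-! ### shape `(4⁴, 0²⁰)` -/

def L44 : List ℤ := [4, 4, 4, 0, 0, 0, 0, 0, 0, 0, 0, 0, 0, 0, 0, 0, 0, 0, 0, 0, 0, 0, 0, 4]

theorem L44_mem : vecL L44 ∈ leechLattice :=
  mem_of_data _ 0 0 (Or.inl rfl) (by decide +kernel) (by decide +kernel) (by decide +kernel)

def r44 : leechLattice := ⟨vecL L44, L44_mem⟩

theorem fix44 (w : leechLattice) (habs : ∀ i, |w.1 i| = |r44.1 i|) : RelN w r44 :=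
  sign_fix_lists r44 [none, some 0, some 1, some 2] [] [14760928, 2543385, 6554826, 4716684]
    (by decide +kernel) (by decide +kernel) (by decide +kernel) (by decide +kernel)
    (by decide +kernel) w habs

theorem r44_abs : ∀ k : GolayPt, |r44.1 k| =
    if k ∈ [none, some 0, some 1, some 2] then 4 else 0 := by
  decide +kernel

theorem bpt4 (k : GolayPt) : (∃ m < 4, k = bpt m) ↔ k ∈ [none, some 0, some 1, some 2] := by
  constructor
  · rintro ⟨m, hm, rfl⟩
    interval_cases m <;> simp [bpt]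
  · intro h
    simp only [List.mem_cons, List.not_mem_nil, or_false] at h
    rcases h with rfl | rfl | rfl | rfl
    · exact ⟨0, by norm_num, rfl⟩
    · exact ⟨1, by norm_num, rfl⟩
    · exact ⟨2, by norm_num, rfl⟩
    · exact ⟨3, by norm_num, rfl⟩

theorem nf_44 (x : leechLattice) (h4 : cnt x.1 4 = 4) (h0 : cnt x.1 0 = 20) : RelN x r44 := by
  have hcov := cover x.1 {4, 0} (by rw [Finset.sum_pair (by norm_num)]; omega)
  obtain ⟨h, hh, hmap⟩ := exists_map_set (univ.filter fun i => |x.1 i| = 4) 4 (by norm_num) h4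
  refine relN_of_perm r44 x h hh fix44 fun k => ?_
  rw [r44_abs k]
  have hk := hmap k
  rw [mem_filter, bpt4] at hk
  by_cases hm : k ∈ [none, some 0, some 1, some 2]
  · rw [if_pos hm]
    exact (hk.mpr hm).2
  · rw [if_neg hm]
    have hne : |x.1 (h k)| ≠ 4 := fun h' => hm (hk.mp ⟨mem_univ _, h'⟩)
    have := hcov (h k)
    simp only [mem_insert, mem_singleton] at this
    tauto

/-! ### shape `(6, 2⁷, 0¹⁶)` -/

def L62 : List ℤ := [2, 2, 2, 2, 0, 2, 0, 0, 0, 0, 0, 0, 0, 0, 2, 0, 0, 2, 0, 0, 0, 0, 0, -6]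

theorem L62_mem : vecL L62 ∈ leechLattice :=
  mem_of_data _ 0 8536111 (Or.inl rfl) (by decide +kernel) (by decide +kernel)
    (by decide +kernel)

def r62 : leechLattice := ⟨vecL L62, L62_mem⟩

theorem fix62 (w : leechLattice) (habs : ∀ i, |w.1 i| = |r62.1 i|) : RelN w r62 :=
  sign_fix_lists r62 [] [some 0, some 1, some 2, none, some 3, some 5, some 14, some 17]
    [1095635, 6371221, 12325377, 7648025, 6105569, 6053905, 924689, 7438406, 11314642, 6554826,
      5086770, 5035970, 2010050, 14493076, 1410188, 3939956, 4020100, 7285636, 13148440, 14760928,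
      14709264, 11669008, 2726648, 2675464, 8040200, 84464, 5453296, 5405696]
    (by decide +kernel) (by decide +kernel) (by decide +kernel) (by decide +kernel)
    (by decide +kernel) w habs

theorem r62_abs : ∀ k : GolayPt, |r62.1 k| =
    if k = none then 6 else if (8536111).testBit (idx k) = true then 2 else 0 := by
  decide +kernel

/-- the structure of a vector with entries `0, ±2, ±6` -/
theorem cl_of_026 (x : leechLattice) (hp : par x.1 = 0)
    (h : cnt x.1 0 + cnt x.1 2 + cnt x.1 6 = 24) :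
    ∀ i, (i ∈ cl x.1 ↔ |x.1 i| = 2 ∨ |x.1 i| = 6) ∧ (i ∉ cl x.1 → |x.1 i| = 0) := by
  have hcov := cover x.1 {0, 2, 6} (by
    rw [Finset.sum_insert (by norm_num), Finset.sum_pair (by norm_num)]
    omega)
  intro i
  have h := hcov i
  simp only [mem_insert, mem_singleton] at h
  have hm : i ∈ cl x.1 ↔ x.1 i % 4 = 2 := by
    unfold cl
    rw [mem_lev', hp]
    norm_num
  rw [hm]
  constructor
  · rcases abs_cases (x.1 i) with ⟨a1, a2⟩ | ⟨a1, a2⟩ <;> omega
  · intro hn
    rcases h with h | h | h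
    · exact h
    · exfalso
      apply hn
      rcases abs_cases (x.1 i) with ⟨a1, a2⟩ | ⟨a1, a2⟩ <;> omega
    · exfalso
      apply hn
      rcases abs_cases (x.1 i) with ⟨a1, a2⟩ | ⟨a1, a2⟩ <;> omega

theorem O8_eq : M 8536111 = Cfsg.Agent.Lib.Helper9.M24T8.O8 := rfl

theorem testBit_iff (t : Equiv.Perm GolayPt) (s : Finset GolayPt)
    (hts : t • s = Cfsg.Agent.Lib.Helper9.M24T8.O8) (k : GolayPt) :
    (8536111).testBit (idx k) = true ↔ t⁻¹ k ∈ s := by
  rw [← mem_M, O8_eq, ← hts]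
  have := Cfsg.Agent.Lib.Helper9.M24X1.smul_mem_iff t (t⁻¹ k) s
  rwa [Cfsg.Agent.Lib.Helper9.Chain1.apply_inv_self'] at this

theorem nf_62 (x : leechLattice) (hp : par x.1 = 0) (h6 : cnt x.1 6 = 1) (h2 : cnt x.1 2 = 7)
    (h0 : cnt x.1 0 = 16) (hc : (cl x.1).card = 8) : RelN x r62 := by
  have hst := cl_of_026 x hp (by omega)
  have hO : cl x.1 ∈ octads := ⟨cl_mem_Code x, hc⟩
  obtain ⟨p, hp6, huniq⟩ := cnt_one x.1 6 h6
  have hpO : p ∈ cl x.1 := (hst p).1.mpr (Or.inr hp6)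
  obtain ⟨t, ht, htO, htp⟩ := Cfsg.Agent.Lib.Helper9.M24X1.exists_std_flag p _ hO hpO
  refine relN_of_perm r62 x t⁻¹ (M24.inv_mem ht) fix62 fun k => ?_
  rw [r62_abs k]
  have hk := testBit_iff t _ htO k
  by_cases hk4 : k = none
  · rw [if_pos hk4, hk4, ← htp, Cfsg.Agent.Lib.Helper9.Chain1.inv_apply_self']
    exact hp6
  rw [if_neg hk4]
  have hne : t⁻¹ k ≠ p := by
    intro h
    apply hk4
    rw [← htp, ← h, Cfsg.Agent.Lib.Helper9.Chain1.apply_inv_self']
  by_cases hm : t⁻¹ k ∈ cl x.1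
  · rw [if_pos (hk.mpr hm)]
    rcases (hst _).1.mp hm with h | h
    · exact h
    · exact absurd (huniq _ h) hne
  · rw [if_neg (fun h => hm (hk.mp h))]
    exact (hst _).2 hm

/-! ### shape `(4², 2⁸, 0¹⁴)` -/

def sA : Equiv.Perm GolayPt :=
  tperm [3, 2, 1, 14, 4, 5, 9, 19, 16, 8, 22, 10, 21, 15, 17, 7, 6, 0, 11, 13, 20, 12, 18, 23]
    [17, 2, 1, 0, 4, 5, 16, 15, 9, 6, 11, 18, 21, 19, 3, 13, 8, 14, 22, 7, 20, 12, 10, 23]
    (by decide +kernel) (by decide +kernel)

def sB : Equiv.Perm GolayPt :=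
  tperm [1, 3, 5, 14, 4, 0, 13, 18, 8, 21, 20, 10, 7, 19, 2, 22, 15, 23, 16, 6, 11, 9, 12, 17]
    [5, 0, 14, 1, 4, 2, 19, 12, 8, 21, 11, 20, 22, 6, 3, 16, 18, 23, 7, 13, 10, 9, 15, 17]
    (by decide +kernel) (by decide +kernel)

theorem sA_mem : sA ∈ stabC [4] [8536111] :=
  tperm_mem_stabC _ _ _ _ (by decide +kernel) (by decide +kernel) (by decide +kernel) _ _
    (by decide +kernel) (by decide +kernel)

theorem sB_mem : sB ∈ stabC [4] [8536111] :=
  tperm_mem_stabC _ _ _ _ (by decide +kernel) (by decide +kernel) (by decide +kernel) _ _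
    (by decide +kernel) (by decide +kernel)

theorem orb_cover : ∀ p : GolayPt, (8536111).testBit (idx p) = false → p ≠ some 4 →
    p ∈ (orbStep [⇑sA, ⇑sB])^[8] [some 6] := by decide +kernel

theorem exists_std_two_out (o : Finset GolayPt) (ho : o ∈ octads) (p q : GolayPt) (hp : p ∉ o)
    (hq : q ∉ o) (hpq : p ≠ q) :
    ∃ t ∈ M24, t • o = Cfsg.Agent.Lib.Helper9.M24T8.O8 ∧ t p = some 4 ∧ t q = some 6 := by
  obtain ⟨t1, ht1, h1o, h1p⟩ := Cfsg.Agent.Lib.Helper9.M24X1.exists_std_antiflag p o ho hp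
  have hq1 : (8536111).testBit (idx (t1 q)) = false := by
    have h := testBit_iff t1 o h1o (t1 q)
    rw [Cfsg.Agent.Lib.Helper9.Chain1.inv_apply_self'] at h
    cases hb : (8536111).testBit (idx (t1 q))
    · rfl
    · exact absurd (h.mp hb) hq
  have hq2 : t1 q ≠ some 4 := by
    rw [← h1p]
    exact fun h => hpq (t1.injective h).symm
  obtain ⟨s, hs, hsq⟩ := orb_sound (stabC [4] [8536111]) [⇑sA, ⇑sB] (by
    intro f hf
    simp only [List.mem_cons, List.not_mem_nil, or_false] at hf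
    rcases hf with rfl | rfl
    · exact ⟨sA, sA_mem, rfl⟩
    · exact ⟨sB, sB_mem, rfl⟩) (some 6) 8 (t1 q) (orb_cover _ hq1 hq2)
  obtain ⟨hsM, hs4, hsO⟩ := (mem_stabC _ _ s).mp hs
  have hs4' : s (some 4) = some 4 := hs4 4 (by simp)
  have hsO' : s • Cfsg.Agent.Lib.Helper9.M24T8.O8 = Cfsg.Agent.Lib.Helper9.M24T8.O8 := by
    rw [← O8_eq]
    exact hsO _ (by simp)
  refine ⟨s⁻¹ * t1, M24.mul_mem (M24.inv_mem hsM) ht1, ?_, ?_, ?_⟩
  · rw [mul_smul, h1o, inv_smul_eq_iff, hsO']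
  · rw [Equiv.Perm.mul_apply, h1p, Equiv.Perm.inv_eq_iff_eq, hs4']
  · rw [Equiv.Perm.mul_apply, ← hsq, Cfsg.Agent.Lib.Helper9.Chain1.inv_apply_self']

def L428 : List ℤ := [2, 2, 2, 2, 4, 2, 4, 0, 0, 0, 0, 0, 0, 0, 2, 0, 0, 2, 0, 0, 0, 0, 0, 2]

theorem L428_mem : vecL L428 ∈ leechLattice :=
  mem_of_data _ 0 8536111 (Or.inl rfl) (by decide +kernel) (by decide +kernel)
    (by decide +kernel)

def r428 : leechLattice := ⟨vecL L428, L428_mem⟩

theorem fix428 (w : leechLattice) (habs : ∀ i, |w.1 i| = |r428.1 i|) : RelN w r428 :=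
  sign_fix_lists r428 [some 4, some 6]
    [none, some 0, some 1, some 2, some 3, some 5, some 14, some 17]
    [7903248, 1161408, 12325377, 12944642, 10861956, 11548936, 15762208, 10021376, 13276672,
      7968515, 1683333, 797449, 5017889, 2422785, 7767041, 6305926, 7715850, 3474978, 6123266,
      987906, 1410188, 5586596, 4020100, 7285636, 4241960, 2675464, 8040200, 6842656, 3806496,
      5405696]
    (by decide +kernel) (by decide +kernel) (by decide +kernel) (by decide +kernel)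
    (by decide +kernel) w habs

theorem r428_abs : ∀ k : GolayPt, |r428.1 k| =
    if k = some 4 ∨ k = some 6 then 4 else if (8536111).testBit (idx k) = true then 2 else 0 := by
  decide +kernel

theorem nf_428 (x : leechLattice) (hp : par x.1 = 0) (h4 : cnt x.1 4 = 2) (h2 : cnt x.1 2 = 8)
    (h0 : cnt x.1 0 = 14) (hc : (cl x.1).card = 8) : RelN x r428 := by
  have hst := cl_of_024 x hp (by omega)
  have hO : cl x.1 ∈ octads := ⟨cl_mem_Code x, hc⟩
  obtain ⟨p, q, hpq, hp4, hq4, huniq⟩ := cnt_two x.1 4 h4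
  have hpO : p ∉ cl x.1 := by
    intro h
    have := (hst p).1.mp h
    omega
  have hqO : q ∉ cl x.1 := by
    intro h
    have := (hst q).1.mp h
    omega
  obtain ⟨t, ht, htO, htp, htq⟩ := exists_std_two_out _ hO p q hpO hqO hpq
  refine relN_of_perm r428 x t⁻¹ (M24.inv_mem ht) fix428 fun k => ?_
  rw [r428_abs k]
  have hk := testBit_iff t _ htO k
  by_cases hk4 : k = some 4
  · rw [if_pos (Or.inl hk4), hk4, ← htp, Cfsg.Agent.Lib.Helper9.Chain1.inv_apply_self']
    exact hp4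
  by_cases hk6 : k = some 6
  · rw [if_pos (Or.inr hk6), hk6, ← htq, Cfsg.Agent.Lib.Helper9.Chain1.inv_apply_self']
    exact hq4
  rw [if_neg (by tauto)]
  have hnep : t⁻¹ k ≠ p := by
    intro h
    apply hk4
    rw [← htp, ← h, Cfsg.Agent.Lib.Helper9.Chain1.apply_inv_self']
  have hneq : t⁻¹ k ≠ q := by
    intro h
    apply hk6
    rw [← htq, ← h, Cfsg.Agent.Lib.Helper9.Chain1.apply_inv_self']
  by_cases hm : t⁻¹ k ∈ cl x.1
  · rw [if_pos (hk.mpr hm)]
    exact (hst _).1.mp hm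
  · rw [if_neg (fun h => hm (hk.mp h))]
    rcases (hst _).2 hm with h | h
    · exact h
    · rcases huniq _ h with h' | h'
      · exact absurd h' hnep
      · exact absurd h' hneq

/-! ### shape `(5, 3², 1²¹)` -/

def L532 : List ℤ := [-3, -3, 1, 1, 1, 1, 1, 1, 1, 1, 1, 1, 1, 1, 1, 1, 1, 1, 1, 1, 1, 1, 1, 5]

theorem L532_mem : vecL L532 ∈ leechLattice :=
  mem_of_data _ 1 16777215 (Or.inr rfl) (by decide +kernel) (by decide +kernel)
    (by decide +kernel)

def r532 : leechLattice := ⟨vecL L532, L532_mem⟩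

theorem r532_abs : ∀ k : GolayPt, |r532.1 k| =
    if k = none then 5 else if k = some 0 ∨ k = some 1 then 3 else 1 := by
  decide +kernel

theorem r532_par : par r532.1 = 1 := by decide +kernel

theorem nf_532 (x : leechLattice) (hp : par x.1 = 1) (h5 : cnt x.1 5 = 1) (h3 : cnt x.1 3 = 2)
    (h1 : cnt x.1 1 = 21) : RelN x r532 := by
  obtain ⟨i, hi, hiu⟩ := cnt_one x.1 5 h5
  obtain ⟨j, l, hjl, hj, hl, huniq⟩ := cnt_two x.1 3 h3
  have hcov := cover x.1 {5, 3, 1} (by
    rw [Finset.sum_insert (by norm_num), Finset.sum_pair (by norm_num)]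
    omega)
  have hij : i ≠ j := by
    rintro rfl
    omega
  have hil : i ≠ l := by
    rintro rfl
    omega
  obtain ⟨h, hh, hmap⟩ := Cfsg.Agent.Lib.Helper9.M24T7.exists_mapn 3 (by norm_num)
    (fun n => if n = 0 then i else if n = 1 then j else l) (by
      intro a ha b hb hab
      have : a = 0 ∨ a = 1 ∨ a = 2 := by omega
      have : b = 0 ∨ b = 1 ∨ b = 2 := by omega
      rcases ‹a = 0 ∨ a = 1 ∨ a = 2› with rfl | rfl | rfl <;>
        rcases ‹b = 0 ∨ b = 1 ∨ b = 2› with rfl | rfl | rfl <;> simp_all)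
  have e0 : h none = i := hmap 0 (by norm_num)
  have e1 : h (some 0) = j := hmap 1 (by norm_num)
  have e2 : h (some 1) = l := hmap 2 (by norm_num)
  refine (relN_prm h⁻¹ (M24.inv_mem hh) x).trans (sign_fix_odd _ r532 ?_ r532_par fun k => ?_)
  · unfold par
    rw [prm_inv_val h hh]
    exact odd_of_par x.1 x.2 hp _
  · rw [prm_inv_val h hh, r532_abs k]
    by_cases hk0 : k = none
    · rw [if_pos hk0, hk0, e0, hi]
    rw [if_neg hk0]
    by_cases hk1 : k = some 0
    · rw [if_pos (Or.inl hk1), hk1, e1, hj]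
    by_cases hk2 : k = some 1
    · rw [if_pos (Or.inr hk2), hk2, e2, hl]
    rw [if_neg (by tauto)]
    have hne5 : |x.1 (h k)| ≠ 5 := by
      intro h'
      have := hiu _ h'
      rw [← e0] at this
      exact hk0 (h.injective this)
    have hne3 : |x.1 (h k)| ≠ 3 := by
      intro h'
      rcases huniq _ h' with h'' | h''
      · rw [← e1] at h''
        exact hk1 (h.injective h'')
      · rw [← e2] at h''
        exact hk2 (h.injective h'')
    have := hcov (h k)
    simp only [mem_insert, mem_singleton] at this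
    tauto

end Cfsg.Agent.Lib.Helper9.LeechX10
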