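import Cfsg.Agent.Lib.Helper9.LeechX10
import Cfsg.Agent.Lib.Helper9.LeechC8

set_option autoImplicit false

/-! Transitivity of the automorphism group on the lattice vectors of sum of squares 64. -/

namespace Cfsg.Agent.Lib.Helper9.LeechX11

open Cfsg Finset Cfsg.Agent.Lib.Helper4.Leech Cfsg.Agent.Lib.Helper9.Golay1
  Cfsg.Agent.Lib.Helper9.LeechM1 Cfsg.Agent.Lib.Helper9.LeechX4
  Cfsg.Agent.Lib.Helper9.LeechX5 Cfsg.Agent.Lib.Helper9.LeechX6
  Cfsg.Agent.Lib.Helper9.LeechX7 Cfsg.Agent.Lib.Helper9.LeechX8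
  Cfsg.Agent.Lib.Helper9.LeechX9 Cfsg.Agent.Lib.Helper9.LeechX10
  Cfsg.Agent.Lib.Helper9.LeechC7
  Cfsg.Agent.Lib.Helper9.GolayQR1 Cfsg.Agent.Lib.Helper9.GolayQR3
open Cfsg.Agent.Lib.Helper9.LeechC2 (fwd bwd par cl mem_lev')
open Cfsg.Agent.Lib.Helper9.LeechX1 (xiFun)

/-! ### fusion of the shapes -/

def Lu44 : List ℤ := [0, 0, 0, 4, 0, 4, 0, 0, 0, 0, 0, 0, 0, 0, 4, 0, 0, -4, 0, 0, 0, 0, 0, 0]

def Lu44' : List ℤ := [0, 0, 0, 0, 0, 0, 0, 0, 0, 0, 0, 0, 0, 0, 0, 0, 0, -8, 0, 0, 0, 0, 0, 0]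

theorem Lu44_mem : vecL Lu44 ∈ leechLattice :=
  mem_of_data _ 0 0 (Or.inl rfl) (by decide +kernel) (by decide +kernel) (by decide +kernel)

def u44 : leechLattice := ⟨vecL Lu44, Lu44_mem⟩

theorem xi_u44 : (xi u44).1 = vecL Lu44' := by
  rw [xi_val]
  funext i
  revert i
  decide +kernel

def Lu428 : List ℤ := [0, 0, 0, 4, 0, 4, 0, 0, 2, 2, 2, 2, 2, 0, 0, 2, 0, 0, -2, 0, -2, 0, 0, 0]

def Lu428' : List ℤ :=
  [0, 0, 0, 0, 0, 0, 0, 0, 0, 0, 0, 0, 0, 0, -4, 0, 0, -4, -4, 0, -4, 0, 0, 0]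

theorem Lu428_mem : vecL Lu428 ∈ leechLattice :=
  mem_of_data _ 0 1351424 (Or.inl rfl) (by decide +kernel) (by decide +kernel)
    (by decide +kernel)

def u428 : leechLattice := ⟨vecL Lu428, Lu428_mem⟩

theorem xi_u428 : (xi u428).1 = vecL Lu428' := by
  rw [xi_val]
  funext i
  revert i
  decide +kernel

def Lu62 : List ℤ := [-6, 0, 2, 0, 0, 2, 2, 0, 0, 2, 0, 0, 0, 0, 0, 0, 0, 2, 0, 0, 2, 2, 0, 0]

def Lu62' : List ℤ :=
  [4, -2, -4, -2, 0, 0, 0, -2, 0, 0, -2, 0, 0, 0, -2, -2, 0, 0, 0, -2, 0, 0, 0, -2]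

theorem Lu62_mem : vecL Lu62 ∈ leechLattice :=
  mem_of_data _ 0 3277413 (Or.inl rfl) (by decide +kernel) (by decide +kernel)
    (by decide +kernel)

def u62 : leechLattice := ⟨vecL Lu62, Lu62_mem⟩

theorem xi_u62 : (xi u62).1 = vecL Lu62' := by
  rw [xi_val]
  funext i
  revert i
  decide +kernel

def Lu62b : List ℤ := [-6, 0, 2, 0, 2, 2, 2, 0, 0, 0, 2, 2, 0, 0, 0, 0, 0, 0, 0, 0, 0, 0, 0, 2]

def Lu62b' : List ℤ :=
  [5, -1, -3, -1, 1, 1, 1, -1, -1, -1, 1, 1, -1, -1, -1, -1, -1, -1, -1, -1, -1, -1, -1, -3]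

theorem Lu62b_mem : vecL Lu62b ∈ leechLattice :=
  mem_of_data _ 0 8391797 (Or.inl rfl) (by decide +kernel) (by decide +kernel)
    (by decide +kernel)

def u62b : leechLattice := ⟨vecL Lu62b, Lu62b_mem⟩

theorem xi_u62b : (xi u62b).1 = vecL Lu62b' := by
  rw [xi_val]
  funext i
  revert i
  decide +kernel

theorem rel_44_8 : Rel r44 r8 := by
  have h1 : RelN u44 r44 := by
    apply nf_44 <;> decide +kernel
  have h2 : RelN (xi u44) r8 := by
    apply nf_8 <;> rw [xi_u44] <;> decide +kernel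
  exact h1.symm.rel.trans ((rel_xi u44).trans h2.rel)

theorem rel_428_44 : Rel r428 r44 := by
  have h1 : RelN u428 r428 := by
    apply nf_428 <;> decide +kernel
  have h2 : RelN (xi u428) r44 := by
    apply nf_44 <;> rw [xi_u428] <;> decide +kernel
  exact h1.symm.rel.trans ((rel_xi u428).trans h2.rel)

theorem rel_62_428 : Rel r62 r428 := by
  have h1 : RelN u62 r62 := by
    apply nf_62 <;> decide +kernel
  have h2 : RelN (xi u62) r428 := by
    apply nf_428 <;> rw [xi_u62] <;> decide +kernel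
  exact h1.symm.rel.trans ((rel_xi u62).trans h2.rel)

theorem rel_532_62 : Rel r532 r62 := by
  have h1 : RelN u62b r62 := by
    apply nf_62 <;> decide +kernel
  have h2 : RelN (xi u62b) r532 := by
    apply nf_532 <;> rw [xi_u62b] <;> decide +kernel
  exact h2.symm.rel.trans ((rel_xi u62b).symm.trans h1.rel)

theorem rel_428_8 : Rel r428 r8 := rel_428_44.trans rel_44_8
theorem rel_62_8 : Rel r62 r8 := rel_62_428.trans rel_428_8
theorem rel_532_8 : Rel r532 r8 := rel_532_62.trans rel_62_8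

/-! ### preservation of inner products -/

theorem dot_pres (g : Equiv.Perm leechLattice) (hg : g ∈ Co0) (v w : leechLattice) :
    dotInt (g v).1 (g w).1 = dotInt v.1 w.1 := by
  have h1 := hg.2 (v + w)
  rw [hg.1 v w] at h1
  have h2 : sqNorm ((g v).1 + (g w).1) = sqNorm (v.1 + w.1) := h1
  rw [sqNorm_add, sqNorm_add, hg.2 v, hg.2 w] at h2
  linarith

/-- the inner product with the standard vector `(4, 4, 0, …)` -/
theorem dot_rA (b : GolayPt → ℤ) : dotInt rA.1 b = 4 * b none + 4 * b (some 0) := by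
  unfold dotInt
  have hsub : ({none, some 0} : Finset GolayPt) ⊆ univ := subset_univ _
  rw [← Finset.sum_subset hsub]
  · rw [Finset.sum_pair (by decide)]
    have e1 : rA.1 none = 4 := by decide +kernel
    have e2 : rA.1 (some 0) = 4 := by decide +kernel
    rw [e1, e2]
  · intro i _ hi
    have h := rA_abs i
    simp only [mem_insert, mem_singleton] at hi
    rw [if_neg hi, abs_eq_zero] at h
    rw [h, zero_mul]

/-! ### reduction to vectors with a prescribed pair of coordinates -/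

theorem exists_partner (v : leechLattice) (hn : sqNorm v.1 = 64) :
    ∃ y ∈ cross v.1, y ≠ v.1 ∧ y ≠ -v.1 := by
  by_contra hcon
  push_neg at hcon
  have hsub : cross v.1 ⊆ {v.1, -v.1} := by
    intro y hy
    by_cases h : y = v.1
    · exact Or.inl h
    · exact Or.inr (hcon y hy h)
  have h1 := Set.ncard_le_ncard hsub (Set.toFinite _)
  have h2 : ({v.1, -v.1} : Set (GolayPt → ℤ)).ncard ≤ 2 := by
    refine (Set.ncard_insert_le _ _).trans ?_
    rw [Set.ncard_singleton]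
  have h3 := Cfsg.Agent.Lib.Helper9.LeechC8.cross_card v.1 v.2 hn
  omega

theorem reduce (v : leechLattice) (hn : sqNorm v.1 = 64) :
    ∃ v1 : leechLattice, Rel v v1 ∧ sqNorm v1.1 = 64 ∧ v1.1 none + v1.1 (some 0) = 8 := by
  obtain ⟨y, ⟨hyL, hyn, z, hz, hvy⟩, hne1, hne2⟩ := exists_partner v hn
  rw [hn] at hyn
  obtain ⟨-, -, hdot⟩ := geom v.1 y z v.2 hyL hz hvy hne1 hne2 (by rw [hn]) (by rw [hyn])
  -- the two summands
  have hzn : sqNorm z = 32 := by
    have e := congrArg sqNorm hvy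
    rw [sqNorm_sub, sqNorm_two, hn, hyn, hdot] at e
    omega
  let a : leechLattice := ⟨v.1 - z, leechLattice.sub_mem v.2 hz⟩
  have ha2 : (2 : ℕ) • (v.1 - z) = v.1 + y := by
    have : v.1 - z + (v.1 - z) = v.1 + y := by
      have h2z : z + z = v.1 - y := by rw [hvy, two_nsmul]
      calc v.1 - z + (v.1 - z) = v.1 + v.1 - (z + z) := by abel
        _ = v.1 + y := by rw [h2z]; abel
    rw [two_nsmul]
    exact this
  have han : sqNorm a.1 = 32 := by
    have e := congrArg sqNorm ha2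
    rw [sqNorm_two, sqNorm_add, hn, hyn, hdot] at e
    show sqNorm (v.1 - z) = 32
    omega
  have haz : dotInt a.1 z = 0 := by
    have e : a.1 + z = v.1 := sub_add_cancel v.1 z
    have e2 := congrArg sqNorm e
    rw [sqNorm_add, han, hzn, hn] at e2
    omega
  obtain ⟨g, hg, hga⟩ := trans32 a rA han (by decide +kernel)
  let zL : leechLattice := ⟨z, hz⟩
  have hv : v = a + zL := by
    apply Subtype.ext
    show v.1 = v.1 - z + z
    rw [sub_add_cancel]
  refine ⟨g v, ⟨g, hg, rfl⟩, ?_, ?_⟩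
  · rw [hg.2 v, hn]
  · have e1 : g v = rA + g zL := by rw [hv, hg.1, hga]
    have e2 : dotInt rA.1 (g zL).1 = 0 := by
      rw [← hga, dot_pres g hg a zL]
      exact haz
    rw [dot_rA] at e2
    have e3 : (g v).1 = rA.1 + (g zL).1 := by rw [e1]; rfl
    rw [e3]
    simp only [Pi.add_apply]
    have e4 : rA.1 none = 4 := by decide +kernel
    have e5 : rA.1 (some 0) = 4 := by decide +kernel
    rw [e4, e5]
    omega

/-- every lattice vector of sum of squares 64 is in the orbit of the standard one -/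
theorem rel64 (x : leechLattice) (hn : sqNorm x.1 = 64) : Rel x r8 := by
  obtain ⟨v, hxv, hvn, hv8⟩ := reduce x hn
  refine hxv.trans ?_
  have hb := abs_bound v.1 64 (by norm_num) hvn
  rcases shapes64 v.1 v.2 hvn with ⟨hp, h8, h0⟩ | ⟨hp, h4, h0⟩ | ⟨hp, h6, h2, h0, hc⟩ |
    ⟨hp, h4, h2, h0, hc⟩ | ⟨hp, h4, h2, h0, hc⟩ | ⟨hp, h2, h0, hc⟩ | ⟨hp, h3, h1⟩ |
    ⟨hp, h5, h3, h1⟩
  · exact (nf_8 v h8 h0).rel
  · exact (nf_44 v h4 h0).rel.trans rel_44_8
  · exact (nf_62 v hp h6 h2 h0 hc).rel.trans rel_62_8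
  · exact (nf_428 v hp h4 h2 h0 hc).rel.trans rel_428_8
  · -- (4, 2¹², 0¹¹): impossible
    exfalso
    have hcov := cover v.1 {0, 2, 4} (by
      rw [Finset.sum_insert (by norm_num), Finset.sum_pair (by norm_num)]
      omega)
    obtain ⟨p, -, huniq⟩ := cnt_one v.1 4 h4
    have c1 := hcov none
    have c2 := hcov (some 0)
    simp only [mem_insert, mem_singleton] at c1 c2
    have a1 : |v.1 none| = 4 := by
      rcases abs_cases (v.1 none) with ⟨a1, a2⟩ | ⟨a1, a2⟩ <;>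
        rcases abs_cases (v.1 (some 0)) with ⟨b1, b2⟩ | ⟨b1, b2⟩ <;> omega
    have a2 : |v.1 (some 0)| = 4 := by
      rcases abs_cases (v.1 none) with ⟨a1, a2⟩ | ⟨a1, a2⟩ <;>
        rcases abs_cases (v.1 (some 0)) with ⟨b1, b2⟩ | ⟨b1, b2⟩ <;> omega
    have := (huniq _ a1).trans (huniq _ a2).symm
    exact absurd this (by decide)
  · -- (2¹⁶, 0⁸): impossible
    exfalso
    have hcov := cover v.1 {0, 2} (by rw [Finset.sum_pair (by norm_num)]; omega)
    have c1 := hcov none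
    have c2 := hcov (some 0)
    simp only [mem_insert, mem_singleton] at c1 c2
    rcases abs_cases (v.1 none) with ⟨a1, a2⟩ | ⟨a1, a2⟩ <;>
      rcases abs_cases (v.1 (some 0)) with ⟨b1, b2⟩ | ⟨b1, b2⟩ <;> omega
  · -- (3⁵, 1¹⁹): impossible
    exfalso
    have hcov := cover v.1 {3, 1} (by rw [Finset.sum_pair (by norm_num)]; omega)
    have c1 := hcov none
    have c2 := hcov (some 0)
    simp only [mem_insert, mem_singleton] at c1 c2
    rcases abs_cases (v.1 none) with ⟨a1, a2⟩ | ⟨a1, a2⟩ <;>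
      rcases abs_cases (v.1 (some 0)) with ⟨b1, b2⟩ | ⟨b1, b2⟩ <;> omega
  · exact (nf_532 v hp h5 h3 h1).rel.trans rel_532_8

theorem trans64 (v w : leechLattice) (hv : sqNorm v.1 = 64) (hw : sqNorm w.1 = 64) : Rel v w :=
  (rel64 v hv).trans (rel64 w hw).symm

end Cfsg.Agent.Lib.Helper9.LeechX11
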