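import Cfsg.Agent.Lib.Helper9.LeechX1
import Cfsg.Agent.Lib.Helper9.LeechC2

set_option autoImplicit false

/-! The non-monomial map preserves the rank-24 lattice. -/

namespace Cfsg.Agent.Lib.Helper9.LeechX2

open Cfsg Finset Cfsg.Agent.Lib.Helper4.Leech Cfsg.Agent.Lib.Helper9.LeechC7
  Cfsg.Agent.Lib.Helper9.GolayQR1 Cfsg.Agent.Lib.Helper9.Golay1
  Cfsg.Agent.Lib.Helper9.LeechX1 Cfsg.Agent.Lib.Helper9.LeechC2
  Cfsg.Agent.Lib.Helper9.GolayQR3 Cfsg.Agent.Lib.Helper9.GolayQR4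

/-! ### unions of an even number of tetrads -/

/-- masks of the six tetrads -/
def tmask : List ℕ := [8388615, 147496, 268544, 1082880, 2621632, 4268048]

def bmask (b : Bool) (m : ℕ) : ℕ := if b then m else 0

def umask (b0 b1 b2 b3 b4 b5 : Bool) : ℕ :=
  bmask b0 8388615 ||| bmask b1 147496 ||| bmask b2 268544 ||| bmask b3 1082880 |||
    bmask b4 2621632 ||| bmask b5 4268048

def sel (b0 b1 b2 b3 b4 b5 : Bool) (a : Fin 6) : Bool := [b0, b1, b2, b3, b4, b5].getD a.val false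

def bcnt (b : Bool) : ℤ := if b then 1 else 0

theorem umask_cw : ∀ b0 b1 b2 b3 b4 b5 : Bool,
    (bcnt b0 + bcnt b1 + bcnt b2 + bcnt b3 + bcnt b4 + bcnt b5) % 2 = 0 →
    reprod (umask b0 b1 b2 b3 b4 b5) = umask b0 b1 b2 b3 b4 b5 := by decide +kernel

theorem umask_dec : ∀ (b0 b1 b2 b3 b4 b5 : Bool) (p : GolayPt),
    dec (umask b0 b1 b2 b3 b4 b5) p = if sel b0 b1 b2 b3 b4 b5 (tetF p) = true then 1 else 0 := by
  decide +kernel

theorem even_union (g : Fin 6 → Bool)
    (h : (bcnt (g 0) + bcnt (g 1) + bcnt (g 2) + bcnt (g 3) + bcnt (g 4) + bcnt (g 5)) % 2 = 0) :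
    ind (univ.filter fun i : GolayPt => g (tetF i) = true) ∈ golayCode := by
  have hsel : ∀ a, sel (g 0) (g 1) (g 2) (g 3) (g 4) (g 5) a = g a := by
    intro a
    fin_cases a <;> rfl
  have e : ind (univ.filter fun i : GolayPt => g (tetF i) = true)
      = dec (umask (g 0) (g 1) (g 2) (g 3) (g 4) (g 5)) := by
    funext p
    rw [umask_dec, hsel]
    simp [ind]
  rw [e]
  exact Cfsg.Agent.Lib.Helper9.M24T1.dec_mem_of_reprod _ (umask_cw _ _ _ _ _ _ h)

/-! ### a codeword meets all tetrads with the same parity -/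

theorem dec_pair : ∀ (a a' : Fin 6) (k : Fin 4), a ≠ 0 →
    dec (8388615 ||| tmask.getD a.val 0) (pt a' k) = if a' = 0 ∨ a' = a then 1 else 0 := by
  decide +kernel

theorem pair_cw : ∀ a : Fin 6, a ≠ 0 →
    reprod (8388615 ||| tmask.getD a.val 0) = 8388615 ||| tmask.getD a.val 0 := by
  decide +kernel

/-- number of points of a set in a tetrad, mod 2 -/
def NZ (c : Finset GolayPt) (a : Fin 6) : ZMod 2 :=
  ind c (pt a 0) + ind c (pt a 1) + ind c (pt a 2) + ind c (pt a 3)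

theorem NZ_const (c : Finset GolayPt) (hc : ind c ∈ golayCode) (a : Fin 6) : NZ c a = NZ c 0 := by
  by_cases ha : a = 0
  · rw [ha]
  have h := self_orth (dec (8388615 ||| tmask.getD a.val 0)) (ind c)
    (Cfsg.Agent.Lib.Helper9.M24T1.dec_mem_of_reprod _ (pair_cw a ha)) hc
  rw [sum_pt] at h
  have h2 : ∀ a' : Fin 6,
      dec (8388615 ||| tmask.getD a.val 0) (pt a' 0) * ind c (pt a' 0)
        + dec (8388615 ||| tmask.getD a.val 0) (pt a' 1) * ind c (pt a' 1)
        + dec (8388615 ||| tmask.getD a.val 0) (pt a' 2) * ind c (pt a' 2)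
        + dec (8388615 ||| tmask.getD a.val 0) (pt a' 3) * ind c (pt a' 3)
        = if a' = 0 ∨ a' = a then NZ c a' else 0 := by
    intro a'
    rw [dec_pair a a' 0 ha, dec_pair a a' 1 ha, dec_pair a a' 2 ha, dec_pair a a' 3 ha]
    split_ifs <;> simp [NZ]
  simp only [h2] at h
  rw [Finset.sum_ite, Finset.sum_const_zero, add_zero] at h
  have hf : univ.filter (fun a' : Fin 6 => a' = 0 ∨ a' = a) = {0, a} := by
    ext b
    simp
  rw [hf, Finset.sum_pair (Ne.symm ha)] at h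
  generalize NZ c 0 = u at h ⊢
  generalize NZ c a = v at h ⊢
  revert u v
  decide

/-- integer indicator -/
def U (c : Finset GolayPt) (a : Fin 6) (k : Fin 4) : ℤ := if pt a k ∈ c then 1 else 0

/-- number of points of a set in a tetrad -/
def N (c : Finset GolayPt) (a : Fin 6) : ℤ := U c a 0 + U c a 1 + U c a 2 + U c a 3

theorem U_cases (c : Finset GolayPt) (a : Fin 6) (k : Fin 4) : U c a k = 0 ∨ U c a k = 1 := by
  unfold U
  split_ifs <;> simp

theorem N_cast (c : Finset GolayPt) (a : Fin 6) : ((N c a : ℤ) : ZMod 2) = NZ c a := by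
  unfold N NZ U ind
  push_cast
  rfl

theorem N_const (c : Finset GolayPt) (hc : ind c ∈ golayCode) (a : Fin 6) :
    N c a % 2 = N c 0 % 2 := by
  have h := NZ_const c hc a
  rw [← N_cast, ← N_cast] at h
  exact_mod_cast (ZMod.intCast_eq_intCast_iff' _ _ 2).mp h

end Cfsg.Agent.Lib.Helper9.LeechX2
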