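import Cfsg.Agent.Lib.Helper9.LeechX2

set_option autoImplicit false

/-! The non-monomial map preserves the rank-24 lattice: the main computation. -/

namespace Cfsg.Agent.Lib.Helper9.LeechX3

open Cfsg Finset Cfsg.Agent.Lib.Helper4.Leech Cfsg.Agent.Lib.Helper9.LeechC7
  Cfsg.Agent.Lib.Helper9.GolayQR1 Cfsg.Agent.Lib.Helper9.Golay1
  Cfsg.Agent.Lib.Helper9.LeechX1 Cfsg.Agent.Lib.Helper9.LeechX2
open Cfsg.Agent.Lib.Helper9.LeechC2 (fwd bwd par cl)

/-- assembling the membership from pointwise data -/
theorem assemble (x : GolayPt → ℤ) (c : Finset GolayPt) (hc : ind c ∈ golayCode) (μ' : ℤ)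
    (hμ' : μ' = 0 ∨ μ' = 1) (fl : Fin 6 → Bool)
    (h1 : ∀ a k, (sgn a * (x (pt a k) - S x a / 2)) % 4
        = if (pt a k ∈ c ↔ fl a = false) then 2 - μ' else 3 * μ')
    (h2 : (bcnt (fl 0) + bcnt (fl 1) + bcnt (fl 2) + bcnt (fl 3) + bcnt (fl 4) + bcnt (fl 5)) % 2
        = 0)
    (h3 : (∑ i, xiFun x i) % 8 = 4 * μ') : xiFun x ∈ leechSet := by
  classical
  have hind : ind (univ.filter fun i : GolayPt => (i ∈ c ↔ fl (tetF i) = false))
      = ind c + ind (univ.filter fun i : GolayPt => fl (tetF i) = true) := by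
    funext i
    simp only [ind, Pi.add_apply, mem_filter, mem_univ, true_and]
    by_cases h : i ∈ c <;> cases hf : fl (tetF i) <;> simp [h] <;> decide
  have hcw : ind (univ.filter fun i : GolayPt => (i ∈ c ↔ fl (tetF i) = false)) ∈ golayCode := by
    rw [hind]
    exact golayCode.add_mem hc (even_union fl h2)
  refine (bwd hμ' hcw ?_ h3).1
  intro i
  obtain ⟨a, k, rfl⟩ := pt_surj' i
  rw [xiFun_pt, h1 a k]
  simp only [mem_filter, mem_univ, true_and, tetF_pt]

theorem sgn0 : sgn 0 = -1 := rfl
theorem sgn1 : sgn 1 = 1 := rfl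
theorem sgn2 : sgn 2 = 1 := rfl
theorem sgn3 : sgn 3 = 1 := rfl
theorem sgn4 : sgn 4 = 1 := rfl
theorem sgn5 : sgn 5 = 1 := rfl

theorem sgn_ne (a : Fin 6) (h : a ≠ 0) : sgn a = 1 := by
  unfold sgn
  rw [if_neg h]

/-- the sum of the image in terms of half tetrad sums -/
theorem sum_xi (x : GolayPt → ℤ) (H : Fin 6 → ℤ) (hH : ∀ a, S x a = 2 * H a) :
    ∑ i, xiFun x i = -2 * (H 0 + H 1 + H 2 + H 3 + H 4 + H 5) + 4 * H 0 := by
  rw [sum_pt, Fin.sum_univ_six]
  simp only [xiFun_pt]
  have e : ∀ a, S x a / 2 = H a := fun a => by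
    rw [hH a]
    exact Int.mul_ediv_cancel_left _ (by norm_num)
  rw [e 0, e 1, e 2, e 3, e 4, e 5, sgn0, sgn1, sgn2, sgn3, sgn4, sgn5]
  have h0 := hH 0
  have h1 := hH 1
  have h2 := hH 2
  have h3 := hH 3
  have h4 := hH 4
  have h5 := hH 5
  unfold S at h0 h1 h2 h3 h4 h5
  linarith

/-- flip functions for the two odd cases -/
def flA (H : Fin 6 → ℤ) (a : Fin 6) : Bool :=
  if a = 0 then decide (H a % 4 = 1) else decide (H a % 4 = 3)

def flB (H : Fin 6 → ℤ) (a : Fin 6) : Bool :=
  if a = 0 then decide (H a % 4 = 0) else decide (H a % 4 = 2)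

theorem flA_zero (H : Fin 6 → ℤ) : flA H 0 = decide (H 0 % 4 = 1) := rfl

theorem flA_ne (H : Fin 6 → ℤ) (a : Fin 6) (h : a ≠ 0) : flA H a = decide (H a % 4 = 3) := by
  unfold flA
  rw [if_neg h]

theorem flB_zero (H : Fin 6 → ℤ) : flB H 0 = decide (H 0 % 4 = 0) := rfl

theorem flB_ne (H : Fin 6 → ℤ) (a : Fin 6) (h : a ≠ 0) : flB H a = decide (H a % 4 = 2) := by
  unfold flB
  rw [if_neg h]

theorem core (x : GolayPt → ℤ) (μ : ℤ) (c : Finset GolayPt) (hμ : μ = 0 ∨ μ = 1)
    (hc : ind c ∈ golayCode)
    (hx4 : ∀ i, x i % 4 = if i ∈ c then 2 - μ else 3 * μ)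
    (hsum : (∑ i, x i) % 8 = 4 * μ) : xiFun x ∈ leechSet := by
  have hN := N_const c hc
  have hX : ∀ a k, (pt a k ∈ c ∧ U c a k = 1 ∧ x (pt a k) % 4 = 2 - μ) ∨
      (pt a k ∉ c ∧ U c a k = 0 ∧ x (pt a k) % 4 = 3 * μ) := by
    intro a k
    have h := hx4 (pt a k)
    by_cases hm : pt a k ∈ c
    · left
      rw [if_pos hm] at h
      exact ⟨hm, if_pos hm, h⟩
    · right
      rw [if_neg hm] at h
      exact ⟨hm, if_neg hm, h⟩
  have hsumS : (S x 0 + S x 1 + S x 2 + S x 3 + S x 4 + S x 5) % 8 = 4 * μ := by
    have h := hsum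
    rw [sum_pt, Fin.sum_univ_six] at h
    exact h
  have n1 : (1 : Fin 6) ≠ 0 := by decide
  have n2 : (2 : Fin 6) ≠ 0 := by decide
  have n3 : (3 : Fin 6) ≠ 0 := by decide
  have n4 : (4 : Fin 6) ≠ 0 := by decide
  have n5 : (5 : Fin 6) ≠ 0 := by decide
  rcases hμ with rfl | rfl
  · -- μ = 0
    have hXa : ∀ a k, x (pt a k) % 4 = 2 * U c a k := by
      intro a k
      rcases hX a k with ⟨-, u, h⟩ | ⟨-, u, h⟩ <;> omega
    have key : ∀ a, ∃ H, S x a = 2 * H ∧ H % 2 = N c a % 2 := by
      intro a
      have h0 := hXa a 0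
      have h1 := hXa a 1
      have h2 := hXa a 2
      have h3 := hXa a 3
      have u0 := U_cases c a 0
      have u1 := U_cases c a 1
      have u2 := U_cases c a 2
      have u3 := U_cases c a 3
      refine ⟨S x a / 2, ?_, ?_⟩
      · unfold S
        omega
      · unfold S N
        omega
    choose H hH1 hH2 using key
    have hHp : ∀ a, H a % 2 = N c 0 % 2 := fun a => (hH2 a).trans (hN a)
    have hS3 := sum_xi x H hH1
    have e0 := hH1 0
    have e1 := hH1 1
    have e2 := hH1 2
    have e3 := hH1 3
    have e4 := hH1 4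
    have e5 := hH1 5
    rcases Int.emod_two_eq_zero_or_one (N c 0) with hp | hp
    · -- p = 0
      refine assemble x c hc 0 (Or.inl rfl) (fun a => decide (H a % 4 = 2)) ?_ ?_ ?_
      · intro a k
        rw [hH1 a, Int.mul_ediv_cancel_left _ (by norm_num : (2 : ℤ) ≠ 0)]
        have hh := hHp a
        rcases sgn_cases a with hs | hs <;> rw [hs] <;>
          rcases hX a k with ⟨hm, -, hx⟩ | ⟨hm, -, hx⟩ <;>
          by_cases hq : H a % 4 = 2 <;> simp only [hm, hq, decide_true, decide_false,
            true_iff, false_iff, if_true, if_false, not_true_eq_false, not_false_eq_true,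
            reduceCtorEq, Bool.true_eq_false, Bool.false_eq_true] <;> omega
      · have hb : ∀ a, H a % 4 = 2 * bcnt (decide (H a % 4 = 2)) := by
          intro a
          have := hHp a
          unfold bcnt
          by_cases hq : H a % 4 = 2 <;> simp only [hq, decide_true, decide_false, if_true,
            if_false, Bool.false_eq_true] <;> omega
        have b0 := hb 0
        have b1 := hb 1
        have b2 := hb 2
        have b3 := hb 3
        have b4 := hb 4
        have b5 := hb 5
        show (bcnt (decide (H 0 % 4 = 2)) + bcnt (decide (H 1 % 4 = 2)) + bcnt (decide (H 2 % 4 = 2))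
          + bcnt (decide (H 3 % 4 = 2)) + bcnt (decide (H 4 % 4 = 2)) + bcnt (decide (H 5 % 4 = 2))) % 2 = 0
        omega
      · rw [hS3]
        have := hHp 0
        omega
    · -- p = 1
      refine assemble x c hc 1 (Or.inr rfl) (flA H) ?_ ?_ ?_
      · intro a k
        rw [hH1 a, Int.mul_ediv_cancel_left _ (by norm_num : (2 : ℤ) ≠ 0)]
        have hh := hHp a
        by_cases ha : a = 0
        · subst ha
          rw [sgn0, flA_zero]
          rcases hX 0 k with ⟨hm, -, hx⟩ | ⟨hm, -, hx⟩ <;>
            by_cases hq : H 0 % 4 = 1 <;> simp only [hm, hq, decide_true, decide_false,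
              true_iff, false_iff, if_true, if_false, not_true_eq_false, not_false_eq_true,
              reduceCtorEq, Bool.true_eq_false, Bool.false_eq_true] <;> omega
        · rw [sgn_ne a ha, flA_ne H a ha]
          rcases hX a k with ⟨hm, -, hx⟩ | ⟨hm, -, hx⟩ <;>
            by_cases hq : H a % 4 = 3 <;> simp only [hm, hq, decide_true, decide_false,
              true_iff, false_iff, if_true, if_false, not_true_eq_false, not_false_eq_true,
              reduceCtorEq, Bool.true_eq_false, Bool.false_eq_true] <;> omega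
      · have hb0 : H 0 % 4 = 3 - 2 * bcnt (decide (H 0 % 4 = 1)) := by
          have := hHp 0
          unfold bcnt
          by_cases hq : H 0 % 4 = 1 <;> simp only [hq, decide_true, decide_false, if_true,
            if_false, Bool.false_eq_true] <;> omega
        have hb : ∀ a, H a % 4 = 1 + 2 * bcnt (decide (H a % 4 = 3)) := by
          intro a
          have := hHp a
          unfold bcnt
          by_cases hq : H a % 4 = 3 <;> simp only [hq, decide_true, decide_false, if_true,
            if_false, Bool.false_eq_true] <;> omega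
        have b1 := hb 1
        have b2 := hb 2
        have b3 := hb 3
        have b4 := hb 4
        have b5 := hb 5
        rw [flA_zero, flA_ne H 1 n1, flA_ne H 2 n2, flA_ne H 3 n3, flA_ne H 4 n4, flA_ne H 5 n5]
        omega
      · rw [hS3]
        have := hHp 0
        omega
  · -- μ = 1
    have hXa : ∀ a k, x (pt a k) % 4 = 3 - 2 * U c a k := by
      intro a k
      rcases hX a k with ⟨-, u, h⟩ | ⟨-, u, h⟩ <;> omega
    have key : ∀ a, ∃ H, S x a = 2 * H ∧ H % 2 = N c a % 2 := by
      intro a
      have h0 := hXa a 0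
      have h1 := hXa a 1
      have h2 := hXa a 2
      have h3 := hXa a 3
      have u0 := U_cases c a 0
      have u1 := U_cases c a 1
      have u2 := U_cases c a 2
      have u3 := U_cases c a 3
      refine ⟨S x a / 2, ?_, ?_⟩
      · unfold S
        omega
      · unfold S N
        omega
    choose H hH1 hH2 using key
    have hHp : ∀ a, H a % 2 = N c 0 % 2 := fun a => (hH2 a).trans (hN a)
    have hS3 := sum_xi x H hH1
    have e0 := hH1 0
    have e1 := hH1 1
    have e2 := hH1 2
    have e3 := hH1 3
    have e4 := hH1 4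
    have e5 := hH1 5
    rcases Int.emod_two_eq_zero_or_one (N c 0) with hp | hp
    · -- p = 0
      refine assemble x c hc 1 (Or.inr rfl) (flB H) ?_ ?_ ?_
      · intro a k
        rw [hH1 a, Int.mul_ediv_cancel_left _ (by norm_num : (2 : ℤ) ≠ 0)]
        have hh := hHp a
        by_cases ha : a = 0
        · subst ha
          rw [sgn0, flB_zero]
          rcases hX 0 k with ⟨hm, -, hx⟩ | ⟨hm, -, hx⟩ <;>
            by_cases hq : H 0 % 4 = 0 <;> simp only [hm, hq, decide_true, decide_false,
              true_iff, false_iff, if_true, if_false, not_true_eq_false, not_false_eq_true,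
              reduceCtorEq, Bool.true_eq_false, Bool.false_eq_true] <;> omega
        · rw [sgn_ne a ha, flB_ne H a ha]
          rcases hX a k with ⟨hm, -, hx⟩ | ⟨hm, -, hx⟩ <;>
            by_cases hq : H a % 4 = 2 <;> simp only [hm, hq, decide_true, decide_false,
              true_iff, false_iff, if_true, if_false, not_true_eq_false, not_false_eq_true,
              reduceCtorEq, Bool.true_eq_false, Bool.false_eq_true] <;> omega
      · have hb0 : H 0 % 4 = 2 - 2 * bcnt (decide (H 0 % 4 = 0)) := by
          have := hHp 0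
          unfold bcnt
          by_cases hq : H 0 % 4 = 0 <;> simp only [hq, decide_true, decide_false, if_true,
            if_false, Bool.false_eq_true] <;> omega
        have hb : ∀ a, H a % 4 = 2 * bcnt (decide (H a % 4 = 2)) := by
          intro a
          have := hHp a
          unfold bcnt
          by_cases hq : H a % 4 = 2 <;> simp only [hq, decide_true, decide_false, if_true,
            if_false, Bool.false_eq_true] <;> omega
        have b1 := hb 1
        have b2 := hb 2
        have b3 := hb 3
        have b4 := hb 4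
        have b5 := hb 5
        rw [flB_zero, flB_ne H 1 n1, flB_ne H 2 n2, flB_ne H 3 n3, flB_ne H 4 n4, flB_ne H 5 n5]
        omega
      · rw [hS3]
        have := hHp 0
        omega
    · -- p = 1
      refine assemble x c hc 0 (Or.inl rfl) (fun a => decide (H a % 4 = 1)) ?_ ?_ ?_
      · intro a k
        rw [hH1 a, Int.mul_ediv_cancel_left _ (by norm_num : (2 : ℤ) ≠ 0)]
        have hh := hHp a
        rcases sgn_cases a with hs | hs <;> rw [hs] <;>
          rcases hX a k with ⟨hm, -, hx⟩ | ⟨hm, -, hx⟩ <;>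
          by_cases hq : H a % 4 = 1 <;> simp only [hm, hq, decide_true, decide_false,
            true_iff, false_iff, if_true, if_false, not_true_eq_false, not_false_eq_true,
            reduceCtorEq, Bool.true_eq_false, Bool.false_eq_true] <;> omega
      · have hb : ∀ a, H a % 4 = 3 - 2 * bcnt (decide (H a % 4 = 1)) := by
          intro a
          have := hHp a
          unfold bcnt
          by_cases hq : H a % 4 = 1 <;> simp only [hq, decide_true, decide_false, if_true,
            if_false, Bool.false_eq_true] <;> omega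
        have b0 := hb 0
        have b1 := hb 1
        have b2 := hb 2
        have b3 := hb 3
        have b4 := hb 4
        have b5 := hb 5
        show (bcnt (decide (H 0 % 4 = 1)) + bcnt (decide (H 1 % 4 = 1)) + bcnt (decide (H 2 % 4 = 1))
          + bcnt (decide (H 3 % 4 = 1)) + bcnt (decide (H 4 % 4 = 1)) + bcnt (decide (H 5 % 4 = 1))) % 2 = 0
        omega
      · rw [hS3]
        have := hHp 0
        omega

/-- the non-monomial map preserves the lattice -/
theorem xiFun_mem (x : GolayPt → ℤ) (hx : x ∈ leechLattice) : xiFun x ∈ leechLattice := by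
  rw [mem_leechLattice_iff] at hx ⊢
  obtain ⟨hμ, hc, hx4, hsum⟩ := fwd hx
  exact core x (par x) (cl x) hμ hc hx4 hsum

end Cfsg.Agent.Lib.Helper9.LeechX3
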