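import Cfsg.Agent.Lib.Helper9.LeechX3
import Cfsg.Agent.Lib.Helper9.LeechM4

set_option autoImplicit false

/-! The non-monomial automorphism as an element of the automorphism group, and the orbit
relations. -/

namespace Cfsg.Agent.Lib.Helper9.LeechX4

open Cfsg Finset Cfsg.Agent.Lib.Helper4.Leech Cfsg.Agent.Lib.Helper9.LeechC7
  Cfsg.Agent.Lib.Helper9.LeechX1 Cfsg.Agent.Lib.Helper9.LeechX3
  Cfsg.Agent.Lib.Helper9.LeechM1 Cfsg.Agent.Lib.Helper9.LeechM4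

/-- the non-monomial automorphism -/
def xi : Equiv.Perm leechLattice where
  toFun v := ⟨xiFun v.1, xiFun_mem v.1 v.2⟩
  invFun v := ⟨xiFun v.1, xiFun_mem v.1 v.2⟩
  left_inv v := Subtype.ext (xiFun_xiFun v.1 (evenT_of_mem v.1 v.2))
  right_inv v := Subtype.ext (xiFun_xiFun v.1 (evenT_of_mem v.1 v.2))

theorem xi_val (v : leechLattice) : (xi v : GolayPt → ℤ) = xiFun v.1 := rfl

theorem xi_mem : xi ∈ Co0 := by
  refine ⟨fun v w => ?_, fun v => ?_⟩
  · apply Subtype.ext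
    exact xiFun_add v.1 w.1 (evenT_of_mem v.1 v.2) (evenT_of_mem w.1 w.2)
  · exact sqNorm_xiFun v.1 (evenT_of_mem v.1 v.2)

/-- the monomial subgroup -/
def Nsub : Subgroup (Equiv.Perm leechLattice) :=
  Subgroup.closure ({f | ∃ c, ∃ hc : c ∈ Code, f = eps c hc} ∪
    {f | ∃ σ, ∃ hσ : σ ∈ M24, f = prm σ hσ})

theorem Nsub_le : Nsub ≤ Co0 := by
  unfold Nsub
  rw [Subgroup.closure_le]
  rintro f (⟨c, hc, rfl⟩ | ⟨σ, hσ, rfl⟩)
  · exact eps_mem c hc
  · exact prm_mem σ hσ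

theorem eps_mem_N (c : Finset GolayPt) (hc : c ∈ Code) : eps c hc ∈ Nsub :=
  Subgroup.subset_closure (Or.inl ⟨c, hc, rfl⟩)

theorem prm_mem_N (σ : Equiv.Perm GolayPt) (hσ : σ ∈ M24) : prm σ hσ ∈ Nsub :=
  Subgroup.subset_closure (Or.inr ⟨σ, hσ, rfl⟩)

/-- same orbit under the monomial group -/
def RelN (v w : leechLattice) : Prop := ∃ g ∈ Nsub, g v = w

/-- same orbit under the full automorphism group -/
def Rel (v w : leechLattice) : Prop := ∃ g ∈ Co0, g v = w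

theorem RelN.refl (v : leechLattice) : RelN v v := ⟨1, Nsub.one_mem, rfl⟩

theorem RelN.symm {v w : leechLattice} (h : RelN v w) : RelN w v := by
  obtain ⟨g, hg, rfl⟩ := h
  exact ⟨g⁻¹, Nsub.inv_mem hg, by simp⟩

theorem RelN.trans {u v w : leechLattice} (h1 : RelN u v) (h2 : RelN v w) : RelN u w := by
  obtain ⟨g, hg, rfl⟩ := h1
  obtain ⟨h, hh, rfl⟩ := h2
  exact ⟨h * g, Nsub.mul_mem hh hg, rfl⟩

theorem Rel.refl (v : leechLattice) : Rel v v := ⟨1, Co0.one_mem, rfl⟩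

theorem Rel.symm {v w : leechLattice} (h : Rel v w) : Rel w v := by
  obtain ⟨g, hg, rfl⟩ := h
  exact ⟨g⁻¹, Co0.inv_mem hg, by simp⟩

theorem Rel.trans {u v w : leechLattice} (h1 : Rel u v) (h2 : Rel v w) : Rel u w := by
  obtain ⟨g, hg, rfl⟩ := h1
  obtain ⟨h, hh, rfl⟩ := h2
  exact ⟨h * g, Co0.mul_mem hh hg, rfl⟩

theorem RelN.rel {v w : leechLattice} (h : RelN v w) : Rel v w := by
  obtain ⟨g, hg, rfl⟩ := h
  exact ⟨g, Nsub_le hg, rfl⟩

theorem relN_eps (c : Finset GolayPt) (hc : c ∈ Code) (v : leechLattice) : RelN v (eps c hc v) :=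
  ⟨_, eps_mem_N c hc, rfl⟩

theorem relN_prm (σ : Equiv.Perm GolayPt) (hσ : σ ∈ M24) (v : leechLattice) :
    RelN v (prm σ hσ v) := ⟨_, prm_mem_N σ hσ, rfl⟩

theorem rel_xi (v : leechLattice) : Rel v (xi v) := ⟨_, xi_mem, rfl⟩

/-- the relation in the form used by the statements -/
theorem Rel.exists_smul {v w : leechLattice} (h : Rel v w) : ∃ g : ↥Co0, g • v = w := by
  obtain ⟨g, hg, rfl⟩ := h
  exact ⟨⟨g, hg⟩, rfl⟩

end Cfsg.Agent.Lib.Helper9.LeechX4
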