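import Cfsg.Agent.Lib.Helper9.M24G4
import Cfsg.Agent.Lib.Helper9.M24SK2

set_option autoImplicit false

/-! The standard trio, the seven sextets refining it, and the parity pairing with the code. -/

namespace Cfsg.Agent.Lib.Helper9.M24TR1

open Cfsg Finset Cfsg.Agent.Lib.Helper9.Golay1 Cfsg.Agent.Lib.Helper9.GolayQR1
  Cfsg.Agent.Lib.Helper9.GolayQR3 Cfsg.Agent.Lib.Helper9.GolayQR4
  Cfsg.Agent.Lib.Helper9.M24T1 Cfsg.Agent.Lib.Helper9.M24U1 Cfsg.Agent.Lib.Helper9.M24Z1
  Cfsg.Agent.Lib.Helper9.M24S1 Cfsg.Agent.Lib.Helper9.M24S2 Cfsg.Agent.Lib.Helper9.M24F7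
open scoped Pointwise symmDiff

/-! ### parity of intersections -/

/-- the parity of the intersection of two sets of points -/
def par (x c : Finset GolayPt) : ZMod 2 := ((x ∩ c).card : ZMod 2)

theorem par_eq_sum (x c : Finset GolayPt) :
    par x c = ∑ p : GolayPt, (if p ∈ x ∧ p ∈ c then (1 : ZMod 2) else 0) := by
  unfold par
  rw [Finset.sum_boole]
  congr 2
  ext p
  simp [mem_inter]

theorem par_symmDiff (x y c : Finset GolayPt) : par (x ∆ y) c = par x c + par y c := by
  rw [par_eq_sum, par_eq_sum, par_eq_sum, ← Finset.sum_add_distrib]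
  apply Finset.sum_congr rfl
  intro p _
  have h2 : (1 : ZMod 2) + 1 = 0 := by decide
  by_cases hx : p ∈ x <;> by_cases hy : p ∈ y <;> by_cases hc : p ∈ c <;>
    simp [mem_symmDiff, hx, hy, hc, h2]

theorem par_empty (c : Finset GolayPt) : par ∅ c = 0 := by
  unfold par
  simp

/-- supports of code words -/
def IsCW (s : Finset GolayPt) : Prop := s ∈ supports (golayCode : Set (GolayPt → ZMod 2))

theorem isCW_smul (g : Equiv.Perm GolayPt) (hg : g ∈ M24) (s : Finset GolayPt) (hs : IsCW s) :
    IsCW (g • s) := by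
  have h := MulAction.mem_stabilizer_iff.mp hg
  unfold IsCW
  rw [← h]
  exact Set.smul_mem_smul_set hs

theorem par_cw (s c : Finset GolayPt) (hs : IsCW s) (hc : IsCW c) : par s c = 0 := by
  obtain ⟨u, hu, rfl⟩ := hs
  obtain ⟨v, hv, rfl⟩ := hc
  unfold par
  rw [← supp_eq_support₂, ← supp_eq_support₂, ← dot_eq_card]
  exact self_orth u v hu hv

theorem isCW_M (m : ℕ) (h : reprod m = m) : IsCW (M m) :=
  ⟨dec m, dec_mem_of_reprod m h, (supp_eq_support₂ _).symm⟩

theorem par_M (a b : ℕ) : par (M a) (M b) = ((wt24 (a &&& b) : ℕ) : ZMod 2) := by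
  unfold par
  rw [← M_and, card_M]

/-! ### the standard trio -/

/-- the masks of the octads of the standard trio -/
def octs : List ℕ := [8694112, 5279, 8077824]

/-- the standard trio -/
abbrev T0 : Finset (Finset GolayPt) := Tr (litT 0)

theorem litT0 : litT 0 = 88575617376 := by decide +kernel

theorem T0_mem : T0 ∈ trios := Tr_mem _ (litT_VTr 0 (by norm_num))

theorem mem_T0 (o : Finset GolayPt) : o ∈ T0 ↔ ∃ m ∈ octs, o = M m := by
  have h : T0 = {M 8694112, M 5279, M 8077824} := by
    change Tr (litT 0) = _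
    rw [Tr_eq, litT0]
    rfl
  rw [h]
  simp [octs]

theorem octs_lt : ∀ o ∈ octs, o < 2 ^ 24 := by decide +kernel

/-! ### the sextets refining the standard trio -/

/-- the tetrads through the point at infinity of the seven sextets refining the standard trio,
listed so that the labels `1, ..., 7` add as the classes modulo the code -/
def R0 : List ℕ := [8390752, 8421664, 8658976, 8397120, 8683584, 8653056, 8431616]

theorem R0_VS : ∀ u ∈ R0, VS u := by
  intro u hu
  simp only [R0, List.mem_cons, List.not_mem_nil, or_false] at hu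
  rcases hu with rfl | rfl | rfl | rfl | rfl | rfl | rfl <;>
    exact ⟨by decide +kernel, by decide +kernel, by decide +kernel⟩

/-- a family of sets refines another if each member lies in a member of the other -/
def Refines (S T : Finset (Finset GolayPt)) : Prop := ∀ t ∈ S, ∃ o ∈ T, t ⊆ o

theorem refines_smul (g : Equiv.Perm GolayPt) (S T : Finset (Finset GolayPt))
    (h : Refines S T) : Refines (g • S) (g • T) := by
  intro t ht
  obtain ⟨t0, ht0, rfl⟩ := Finset.mem_smul_finset.mp ht
  obtain ⟨o, ho, hto⟩ := h t0 ht0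
  exact ⟨g • o, Finset.smul_mem_smul_finset ho, Finset.smul_finset_subset_smul_finset hto⟩

/-- the refining test on codes -/
def refB (τ : ℕ) : Bool := (tets τ).all fun m => octs.any fun o => m &&& o == m

theorem refB_class : tetLit.all (fun τ => !(refB τ) || R0.contains τ) = true := by
  decide +kernel

/-- the sextets refining the standard trio are the seven listed ones -/
theorem refines_class (S : Finset (Finset GolayPt)) (hS : S ∈ sextets) (h : Refines S T0) :
    ∃ u ∈ R0, S = Sx u := by
  obtain ⟨τ, hτ, rfl⟩ := (mem_sextets_iff S).mp hS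
  have hV := tetLit_VS τ hτ
  refine ⟨τ, ?_, rfl⟩
  have hc := List.all_eq_true.mp refB_class τ hτ
  have hr : refB τ = true := by
    unfold refB
    rw [List.all_eq_true]
    intro m hm
    rw [List.any_eq_true]
    obtain ⟨o, ho, hmo⟩ := h (M m) ((mem_Sx_iff τ hV _).mpr ⟨m, hm, rfl⟩)
    obtain ⟨om, hom, rfl⟩ := (mem_T0 o).mp ho
    refine ⟨om, hom, ?_⟩
    rw [beq_iff_eq]
    exact (M_subset_iff m om (tets_lt τ hV m hm)).mp hmo
  rw [hr] at hc
  simpa using hc

/-- the listed sextets refine the standard trio -/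
theorem R0_refines : ∀ u ∈ R0, ∀ m ∈ tets u, ∃ o ∈ octs, m &&& o = m := by decide +kernel

end Cfsg.Agent.Lib.Helper9.M24TR1
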