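import Cfsg.Agent.Lib.Helper9.LeechX6
import Cfsg.Agent.Lib.Helper9.M24TR1

set_option autoImplicit false

/-! Tools for normal forms of short lattice vectors under the monomial group. -/

namespace Cfsg.Agent.Lib.Helper9.LeechX7

open Cfsg Finset Cfsg.Agent.Lib.Helper4.Leech Cfsg.Agent.Lib.Helper9.Golay1
  Cfsg.Agent.Lib.Helper9.LeechM1 Cfsg.Agent.Lib.Helper9.LeechX4
  Cfsg.Agent.Lib.Helper9.LeechX5 Cfsg.Agent.Lib.Helper9.LeechX6
  Cfsg.Agent.Lib.Helper9.GolayQR1 Cfsg.Agent.Lib.Helper9.GolayQR3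
  Cfsg.Agent.Lib.Helper9.M24U1
open Cfsg.Agent.Lib.Helper9.LeechC2 (fwd bwd par cl mem_lev')
open scoped Pointwise

/-- a vector given by the list of its coordinates -/
def vecL (L : List ℤ) : GolayPt → ℤ := fun i => L.getD (idx i) 0

/-- membership of an explicit vector in the lattice -/
theorem mem_of_data (x : GolayPt → ℤ) (μ : ℤ) (m : ℕ) (hμ : μ = 0 ∨ μ = 1)
    (hm : reprod m = m)
    (h4 : ∀ i, x i % 4 = if m.testBit (idx i) = true then 2 - μ else 3 * μ)
    (hs : (∑ i, x i) % 8 = 4 * μ) : x ∈ leechLattice := by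
  rw [mem_leechLattice_iff]
  have hc : ind (M m) ∈ golayCode := by
    have := Cfsg.Agent.Lib.Helper9.M24TR1.isCW_M m hm
    exact (mem_Code_iff _).mp this
  refine (bwd hμ hc ?_ hs).1
  intro i
  rw [h4 i]
  simp only [mem_M]

theorem mask_mem_Code (m : ℕ) (hm : reprod m = m) : M m ∈ Code :=
  Cfsg.Agent.Lib.Helper9.M24TR1.isCW_M m hm

/-- all coordinates have absolute value in `K` if the counts add up -/
theorem cover (x : GolayPt → ℤ) (K : Finset ℤ) (h : ∑ k ∈ K, cnt x k = 24) :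
    ∀ i, |x i| ∈ K := by
  classical
  have h1 : (univ.filter fun i => |x i| ∈ K).card = ∑ k ∈ K, cnt x k := by
    rw [Finset.card_eq_sum_card_fiberwise (f := fun i => |x i|) (t := K)]
    · apply Finset.sum_congr rfl
      intro k hk
      unfold cnt
      congr 1
      ext i
      simp only [mem_filter, mem_univ, true_and]
      constructor
      · rintro ⟨-, h⟩
        exact h
      · intro h
        exact ⟨h ▸ hk, h⟩
    · intro i hi
      exact (mem_filter.mp hi).2
  rw [h, ← card_pts, ← Finset.card_univ] at h1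
  have h2 := (Finset.card_eq_iff_eq_univ _).mp h1
  intro i
  have : i ∈ univ.filter fun i => |x i| ∈ K := by
    rw [h2]
    exact mem_univ i
  exact (mem_filter.mp this).2

theorem cnt_one (x : GolayPt → ℤ) (k : ℤ) (h : cnt x k = 1) :
    ∃ i, |x i| = k ∧ ∀ j, |x j| = k → j = i := by
  unfold cnt at h
  obtain ⟨i, hi⟩ := Finset.card_eq_one.mp h
  refine ⟨i, ?_, fun j hj => ?_⟩
  · have : i ∈ univ.filter fun i => |x i| = k := by
      rw [hi]
      exact mem_singleton_self i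
    exact (mem_filter.mp this).2
  · have : j ∈ univ.filter fun i => |x i| = k := mem_filter.mpr ⟨mem_univ j, hj⟩
    rw [hi] at this
    exact mem_singleton.mp this

theorem cnt_two (x : GolayPt → ℤ) (k : ℤ) (h : cnt x k = 2) :
    ∃ i j, i ≠ j ∧ |x i| = k ∧ |x j| = k ∧ ∀ l, |x l| = k → l = i ∨ l = j := by
  unfold cnt at h
  obtain ⟨i, j, hij, hs⟩ := Finset.card_eq_two.mp h
  have mem : ∀ l, |x l| = k ↔ l = i ∨ l = j := by
    intro l
    have : l ∈ univ.filter (fun i => |x i| = k) ↔ l ∈ ({i, j} : Finset GolayPt) := by rw [hs]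
    simpa using this
  exact ⟨i, j, hij, (mem i).mpr (Or.inl rfl), (mem j).mpr (Or.inr rfl), fun l hl => (mem l).mp hl⟩

theorem cnt_three (x : GolayPt → ℤ) (k : ℤ) (h : cnt x k = 3) :
    ∃ i j l, i ≠ j ∧ i ≠ l ∧ j ≠ l ∧ |x i| = k ∧ |x j| = k ∧ |x l| = k ∧
      ∀ t, |x t| = k → t = i ∨ t = j ∨ t = l := by
  unfold cnt at h
  obtain ⟨i, j, l, hij, hil, hjl, hs⟩ := Finset.card_eq_three.mp h
  have mem : ∀ t, |x t| = k ↔ t = i ∨ t = j ∨ t = l := by
    intro t
    have : t ∈ univ.filter (fun i => |x i| = k) ↔ t ∈ ({i, j, l} : Finset GolayPt) := by rw [hs]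
    simpa using this
  exact ⟨i, j, l, hij, hil, hjl, (mem i).mpr (Or.inl rfl), (mem j).mpr (Or.inr (Or.inl rfl)),
    (mem l).mpr (Or.inr (Or.inr rfl)), fun t ht => (mem t).mp ht⟩

/-- the value of a permuted vector -/
theorem prm_inv_val (h : Equiv.Perm GolayPt) (hh : h ∈ M24) (v : leechLattice) (k : GolayPt) :
    (prm h⁻¹ (M24.inv_mem hh) v : GolayPt → ℤ) k = v.1 (h k) := by
  rw [prm_val]
  rfl

/-- code words with prescribed trace on a list of points: the one-point version -/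
theorem trace_one (YL : List GolayPt) (WL : List ℕ) (a : GolayPt)
    (h : ∃ m ∈ WL, reprod m = m ∧ ∀ i ∈ YL, (m.testBit (idx i) = true ↔ i = a)) :
    ∃ c ∈ Code, ∀ i ∈ YL.toFinset, (i ∈ c ↔ i = a) := by
  obtain ⟨m, -, hm, h⟩ := h
  refine ⟨M m, mask_mem_Code m hm, fun i hi => ?_⟩
  rw [mem_M]
  exact h i (List.mem_toFinset.mp hi)

/-- code words with prescribed trace on a list of points: the two-point version -/
theorem trace_two (YL : List GolayPt) (WL : List ℕ) (a b : GolayPt)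
    (h : ∃ m ∈ WL, reprod m = m ∧ ∀ i ∈ YL, (m.testBit (idx i) = true ↔ (i = a ∨ i = b))) :
    ∃ c ∈ Code, ∀ i ∈ YL.toFinset, (i ∈ c ↔ i = a ∨ i = b) := by
  obtain ⟨m, -, hm, h⟩ := h
  refine ⟨M m, mask_mem_Code m hm, fun i hi => ?_⟩
  rw [mem_M]
  exact h i (List.mem_toFinset.mp hi)

/-- moving a vector by a permutation and then fixing signs -/
theorem relN_of_perm (r x : leechLattice) (h : Equiv.Perm GolayPt) (hh : h ∈ M24)
    (hfix : ∀ w : leechLattice, (∀ i, |w.1 i| = |r.1 i|) → RelN w r)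
    (habs : ∀ k, |x.1 (h k)| = |r.1 k|) : RelN x r := by
  refine (relN_prm h⁻¹ (M24.inv_mem hh) x).trans (hfix _ fun k => ?_)
  rw [prm_inv_val h hh]
  exact habs k

end Cfsg.Agent.Lib.Helper9.LeechX7
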