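import Cfsg.Agent.Lib.Helper9.M24T5

set_option autoImplicit false

namespace Cfsg.Agent.Lib.Helper9.M24T6

open Cfsg Finset Cfsg.Agent.Lib.Helper9.GolayQR1 Cfsg.Agent.Lib.Helper9.GolayQR3
  Cfsg.Agent.Lib.Helper9.GolayQR5
  Cfsg.Agent.Lib.Helper9.M24T1 Cfsg.Agent.Lib.Helper9.M24T2 Cfsg.Agent.Lib.Helper9.M24T3
  Cfsg.Agent.Lib.Helper9.M24T5 Cfsg.Agent.Lib.Helper9.Chain1
open scoped Pointwise

/-- an embedding enumerating a finset with `n` elements -/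
theorem exists_emb (s : Finset GolayPt) (n : ℕ) (hs : s.card = n) :
    ∃ x : Fin n ↪ GolayPt, ∀ p, p ∈ s ↔ ∃ i, x i = p := by
  obtain ⟨e⟩ : Nonempty (s ≃ Fin n) := ⟨Finset.equivFinOfCardEq hs⟩
  refine ⟨⟨fun i => ((e.symm i : s) : GolayPt), fun i j h => e.symm.injective (Subtype.ext h)⟩, ?_⟩
  intro p
  constructor
  · intro hp
    refine ⟨e ⟨p, hp⟩, ?_⟩
    change ((e.symm (e ⟨p, hp⟩) : s) : GolayPt) = p
    rw [Equiv.symm_apply_apply]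
  · rintro ⟨i, rfl⟩
    exact (e.symm i).2

/-- two 5-subsets are conjugate under `M24` -/
theorem exists_map_five (s s' : Finset GolayPt) (hs : s.card = 5) (hs' : s'.card = 5) :
    ∃ g ∈ M24, g • s = s' := by
  obtain ⟨x, hx⟩ := exists_emb s 5 hs
  obtain ⟨y, hy⟩ := exists_emb s' 5 hs'
  obtain ⟨g, hg, hxy⟩ := exists_map_emb x y
  refine ⟨g, hg, ?_⟩
  ext p
  rw [Finset.mem_smul_finset, hy]
  constructor
  · rintro ⟨q, hq, rfl⟩
    obtain ⟨i, rfl⟩ := (hx q).mp hq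
    exact ⟨i, (hxy i).symm⟩
  · rintro ⟨i, rfl⟩
    exact ⟨x i, (hx _).mpr ⟨i, rfl⟩, hxy i⟩

theorem octad_transitive (o o' : Finset GolayPt) (ho : o ∈ octads) (ho' : o' ∈ octads) :
    ∃ g ∈ M24, g • o = o' := by
  have h8 : o.card = 8 := ho.2
  have h8' : o'.card = 8 := ho'.2
  obtain ⟨s, hs, hs5⟩ := exists_subset_card_eq (show 5 ≤ o.card by omega)
  obtain ⟨s', hs', hs5'⟩ := exists_subset_card_eq (show 5 ≤ o'.card by omega)
  obtain ⟨g, hg, hgs⟩ := exists_map_five s s' hs5 hs5'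
  refine ⟨g, hg, ?_⟩
  have h1 : g • o ∈ octads := smul_octad_mem g hg o ho
  have h2 : s' ⊆ g • o := by
    rw [← hgs]
    exact Finset.smul_finset_subset_smul_finset hs
  obtain ⟨x, -, hx⟩ := octads_isSteiner.2 s' hs5'
  rw [hx _ ⟨h1, h2⟩, hx _ ⟨ho', hs'⟩]

end Cfsg.Agent.Lib.Helper9.M24T6
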