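import Cfsg.Agent.Lib.Helper9.LeechX7
import Cfsg.Agent.Lib.Helper9.M24T7
import Cfsg.Agent.Lib.Helper9.M24T6

set_option autoImplicit false

/-! Transitivity of the automorphism group on the lattice vectors of sum of squares 32. -/

namespace Cfsg.Agent.Lib.Helper9.LeechX8

open Cfsg Finset Cfsg.Agent.Lib.Helper4.Leech Cfsg.Agent.Lib.Helper9.Golay1
  Cfsg.Agent.Lib.Helper9.LeechM1 Cfsg.Agent.Lib.Helper9.LeechX4
  Cfsg.Agent.Lib.Helper9.LeechX5 Cfsg.Agent.Lib.Helper9.LeechX6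
  Cfsg.Agent.Lib.Helper9.LeechX7
  Cfsg.Agent.Lib.Helper9.GolayQR1 Cfsg.Agent.Lib.Helper9.GolayQR3
  Cfsg.Agent.Lib.Helper9.M24U1 Cfsg.Agent.Lib.Helper9.M24T5
open Cfsg.Agent.Lib.Helper9.LeechC2 (fwd bwd par cl mem_lev')
open Cfsg.Agent.Lib.Helper9.LeechX1 (xiFun)
open scoped Pointwise

/-- sign fixing from explicit lists of points and code words -/
theorem sign_fix_lists (r : leechLattice) (YL1 YL2 : List GolayPt) (WL : List ℕ)
    (hpar : par r.1 = 0)
    (hY : ∀ i, r.1 i ≠ 0 → i ∈ YL1 ++ YL2)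
    (h1 : ∀ a ∈ YL1, ∃ m ∈ WL, reprod m = m ∧
      ∀ i ∈ YL1 ++ YL2, (m.testBit (idx i) = true ↔ i = a))
    (h2 : ∀ a ∈ YL2, ∀ b ∈ YL2, a ≠ b → ∃ m ∈ WL, reprod m = m ∧
      ∀ i ∈ YL1 ++ YL2, (m.testBit (idx i) = true ↔ (i = a ∨ i = b)))
    (hodd : ∀ a ∈ YL2, r.1 a % 4 = 2)
    (w : leechLattice) (habs : ∀ i, |w.1 i| = |r.1 i|) : RelN w r := by
  have hU : YL1.toFinset ∪ YL2.toFinset = (YL1 ++ YL2).toFinset := (List.toFinset_append).symm
  refine sign_fix_even r YL1.toFinset YL2.toFinset hpar ?_ ?_ ?_ ?_ _ w habs rfl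
  · intro i hi
    rw [hU]
    exact List.mem_toFinset.mpr (hY i hi)
  · intro a ha
    rw [hU]
    exact trace_one _ WL a (h1 a (List.mem_toFinset.mp ha))
  · intro a ha b hb hab
    rw [hU]
    exact trace_two _ WL a b (h2 a (List.mem_toFinset.mp ha) b (List.mem_toFinset.mp hb) hab)
  · intro a ha
    exact hodd a (List.mem_toFinset.mp ha)

/-! ### shape `(4², 0²²)` -/

def LA : List ℤ := [4, 0, 0, 0, 0, 0, 0, 0, 0, 0, 0, 0, 0, 0, 0, 0, 0, 0, 0, 0, 0, 0, 0, 4]

theorem LA_mem : vecL LA ∈ leechLattice :=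
  mem_of_data _ 0 0 (Or.inl rfl) (by decide +kernel) (by decide +kernel) (by decide +kernel)

def rA : leechLattice := ⟨vecL LA, LA_mem⟩

theorem fixA (w : leechLattice) (habs : ∀ i, |w.1 i| = |rA.1 i|) : RelN w rA :=
  sign_fix_lists rA [none, some 0] [] [12765094, 4377555] (by decide +kernel)
    (by decide +kernel) (by decide +kernel) (by decide +kernel) (by decide +kernel) w habs

theorem rA_abs : ∀ k : GolayPt, |rA.1 k| = if k = none ∨ k = some 0 then 4 else 0 := by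
  decide +kernel

theorem nf_a (x : leechLattice) (h4 : cnt x.1 4 = 2) (h0 : cnt x.1 0 = 22) : RelN x rA := by
  obtain ⟨i, j, hij, hi, hj, huniq⟩ := cnt_two x.1 4 h4
  have hcov := cover x.1 {0, 4} (by rw [Finset.sum_pair (by norm_num)]; omega)
  obtain ⟨h, hh, hmap⟩ := Cfsg.Agent.Lib.Helper9.M24T7.exists_mapn 2 (by norm_num)
    (fun n => if n = 0 then i else j) (by
      intro a ha b hb hab
      have : a = 0 ∨ a = 1 := by omega
      have : b = 0 ∨ b = 1 := by omega
      rcases ‹a = 0 ∨ a = 1› with rfl | rfl <;> rcases ‹b = 0 ∨ b = 1› with rfl | rfl <;>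
        simp_all)
  have e0 : h none = i := hmap 0 (by norm_num)
  have e1 : h (some 0) = j := hmap 1 (by norm_num)
  refine relN_of_perm rA x h hh fixA fun k => ?_
  rw [rA_abs k]
  by_cases hk0 : k = none
  · rw [hk0, e0, hi]
    simp
  by_cases hk1 : k = some 0
  · rw [hk1, e1, hj]
    simp
  rw [if_neg (by tauto)]
  have hne : |x.1 (h k)| ≠ 4 := by
    intro h4'
    rcases huniq _ h4' with h' | h'
    · rw [← e0] at h'
      exact hk0 (h.injective h')
    · rw [← e1] at h'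
      exact hk1 (h.injective h')
  have := hcov (h k)
  simp only [mem_insert, mem_singleton] at this
  tauto

/-! ### shape `(2⁸, 0¹⁶)` -/

def LB : List ℤ := [2, 2, 2, 2, 0, 2, 0, 0, 0, 0, 0, 0, 0, 0, 2, 0, 0, 2, 0, 0, 0, 0, 0, 2]

theorem LB_mem : vecL LB ∈ leechLattice :=
  mem_of_data _ 0 8536111 (Or.inl rfl) (by decide +kernel) (by decide +kernel) (by decide +kernel)

def rB : leechLattice := ⟨vecL LB, LB_mem⟩

theorem fixB (w : leechLattice) (habs : ∀ i, |w.1 i| = |rB.1 i|) : RelN w rB :=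
  sign_fix_lists rB [] [some 0, some 1, some 2, none, some 3, some 5, some 14, some 17]
    [1095635, 6371221, 12325377, 7648025, 6105569, 6053905, 924689, 7438406, 11314642, 6554826,
      5086770, 5035970, 2010050, 14493076, 1410188, 3939956, 4020100, 7285636, 13148440, 14760928,
      14709264, 11669008, 2726648, 2675464, 8040200, 84464, 5453296, 5405696]
    (by decide +kernel) (by decide +kernel) (by decide +kernel) (by decide +kernel)
    (by decide +kernel) w habs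

theorem rB_abs : ∀ k : GolayPt, |rB.1 k| = if (8536111).testBit (idx k) = true then 2 else 0 := by
  decide +kernel

theorem Ostd_mem : M 8536111 ∈ octads :=
  ⟨mask_mem_Code _ (by decide +kernel), by rw [card_M]; decide +kernel⟩

/-- the structure of a vector of shape `(2^a, 0^b)` -/
theorem cl_of_two (x : leechLattice) (hp : par x.1 = 0) (n : ℕ) (h2 : cnt x.1 2 = n)
    (h0 : cnt x.1 0 + n = 24) : ∀ i, (i ∈ cl x.1 ↔ |x.1 i| = 2) ∧ (i ∉ cl x.1 → x.1 i = 0) := by
  have hcov := cover x.1 {0, 2} (by rw [Finset.sum_pair (by norm_num)]; omega)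
  intro i
  have h := hcov i
  simp only [mem_insert, mem_singleton] at h
  have hm : i ∈ cl x.1 ↔ x.1 i % 4 = 2 := by
    unfold cl
    rw [mem_lev', hp]
    norm_num
  rw [hm]
  constructor
  · rcases abs_cases (x.1 i) with ⟨a1, a2⟩ | ⟨a1, a2⟩ <;> omega
  · intro hn
    rcases h with h | h
    · exact abs_eq_zero.mp h
    · exfalso
      apply hn
      rcases abs_cases (x.1 i) with ⟨a1, a2⟩ | ⟨a1, a2⟩ <;> omega

theorem cl_mem_Code (x : leechLattice) : cl x.1 ∈ Code := by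
  obtain ⟨-, hc, -, -⟩ := fwd ((mem_leechLattice_iff x.1).mp x.2)
  exact (mem_Code_iff _).mpr hc

theorem nf_b (x : leechLattice) (hp : par x.1 = 0) (h2 : cnt x.1 2 = 8) (h0 : cnt x.1 0 = 16)
    (hc : (cl x.1).card = 8) : RelN x rB := by
  have hst := cl_of_two x hp 8 h2 (by omega)
  have hO : cl x.1 ∈ octads := ⟨cl_mem_Code x, hc⟩
  obtain ⟨g, hg, hgO⟩ := Cfsg.Agent.Lib.Helper9.M24T6.octad_transitive _ _ hO Ostd_mem
  refine relN_of_perm rB x g⁻¹ (M24.inv_mem hg) fixB fun k => ?_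
  rw [rB_abs k]
  have hk : (8536111).testBit (idx k) = true ↔ g⁻¹ k ∈ cl x.1 := by
    rw [← mem_M, ← hgO]
    have := Cfsg.Agent.Lib.Helper9.M24X1.smul_mem_iff g (g⁻¹ k) (cl x.1)
    rwa [Cfsg.Agent.Lib.Helper9.Chain1.apply_inv_self'] at this
  by_cases hm : g⁻¹ k ∈ cl x.1
  · rw [if_pos (hk.mpr hm)]
    exact (hst _).1.mp hm
  · rw [if_neg (fun h => hm (hk.mp h)), (hst _).2 hm]
    rfl

/-! ### shape `(3, 1²³)` -/

def LC : List ℤ := [1, 1, 1, 1, 1, 1, 1, 1, 1, 1, 1, 1, 1, 1, 1, 1, 1, 1, 1, 1, 1, 1, 1, -3]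

theorem LC_mem : vecL LC ∈ leechLattice :=
  mem_of_data _ 1 16777215 (Or.inr rfl) (by decide +kernel) (by decide +kernel)
    (by decide +kernel)

def rC : leechLattice := ⟨vecL LC, LC_mem⟩

theorem rC_abs : ∀ k : GolayPt, |rC.1 k| = if k = none then 3 else 1 := by decide +kernel

theorem rC_par : par rC.1 = 1 := by decide +kernel

/-- moving one distinguished coordinate of an odd vector to the point at infinity -/
theorem nf_odd_one (r x : leechLattice) (hr : par r.1 = 1) (hp : par x.1 = 1) (a b : ℤ)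
    (hab : a ≠ b) (ha : cnt x.1 a = 1) (hb : cnt x.1 b = 23)
    (hrabs : ∀ k : GolayPt, |r.1 k| = if k = none then a else b) : RelN x r := by
  obtain ⟨i0, hi0, huniq⟩ := cnt_one x.1 a ha
  have hcov := cover x.1 {a, b} (by rw [Finset.sum_pair hab]; omega)
  obtain ⟨h, hh, hmap⟩ := Cfsg.Agent.Lib.Helper9.M24T7.exists_mapn 1 (by norm_num)
    (fun _ => i0) (by
      intro a ha b hb _
      omega)
  have e0 : h none = i0 := hmap 0 (by norm_num)
  refine (relN_prm h⁻¹ (M24.inv_mem hh) x).trans (sign_fix_odd _ r ?_ hr fun k => ?_)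
  · unfold par
    rw [prm_inv_val h hh]
    exact odd_of_par x.1 x.2 hp _
  · rw [prm_inv_val h hh, hrabs k]
    by_cases hk : k = none
    · rw [hk, e0, if_pos rfl, hi0]
    · rw [if_neg hk]
      have hne : |x.1 (h k)| ≠ a := by
        intro h'
        have := huniq _ h'
        rw [← e0] at this
        exact hk (h.injective this)
      have := hcov (h k)
      simp only [mem_insert, mem_singleton] at this
      tauto

theorem nf_c (x : leechLattice) (hp : par x.1 = 1) (h3 : cnt x.1 3 = 1) (h1 : cnt x.1 1 = 23) :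
    RelN x rC :=
  nf_odd_one rC x rC_par hp 3 1 (by norm_num) h3 h1 rC_abs

/-! ### fusion -/

def LuA : List ℤ := [0, 0, 0, 4, 0, 0, 0, 0, 4, 0, 0, 0, 0, 0, 0, 0, 0, 0, 0, 0, 0, 0, 0, 0]

def LuA' : List ℤ :=
  [0, 0, 0, 2, 0, -2, 0, 0, 2, 0, 0, -2, -2, 0, -2, 0, 0, -2, -2, 0, 0, 0, 0, 0]

theorem LuA_mem : vecL LuA ∈ leechLattice :=
  mem_of_data _ 0 0 (Or.inl rfl) (by decide +kernel) (by decide +kernel) (by decide +kernel)

def uA : leechLattice := ⟨vecL LuA, LuA_mem⟩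

theorem xi_uA : (xi uA).1 = vecL LuA' := by
  rw [xi_val]
  funext i
  revert i
  decide +kernel

def LuB : List ℤ := [2, 0, 2, 0, 2, 2, 2, 0, 0, 0, 2, 2, 0, 0, 0, 0, 0, 0, 0, 0, 0, 0, 0, 2]

def LuB' : List ℤ :=
  [1, 3, 1, -1, 1, 1, 1, -1, -1, -1, 1, 1, -1, -1, -1, -1, -1, -1, -1, -1, -1, -1, -1, 1]

theorem LuB_mem : vecL LuB ∈ leechLattice :=
  mem_of_data _ 0 8391797 (Or.inl rfl) (by decide +kernel) (by decide +kernel) (by decide +kernel)

def uB : leechLattice := ⟨vecL LuB, LuB_mem⟩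

theorem xi_uB : (xi uB).1 = vecL LuB' := by
  rw [xi_val]
  funext i
  revert i
  decide +kernel

theorem relAB : Rel rA rB := by
  have h1 : RelN uA rA := nf_a uA (by decide +kernel) (by decide +kernel)
  have h2 : RelN (xi uA) rB := by
    apply nf_b <;> rw [xi_uA] <;> decide +kernel
  exact h1.symm.rel.trans ((rel_xi uA).trans h2.rel)

theorem relBC : Rel rB rC := by
  have h1 : RelN uB rB := by
    apply nf_b <;> decide +kernel
  have h2 : RelN (xi uB) rC := by
    apply nf_c <;> rw [xi_uB] <;> decide +kernel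
  exact h1.symm.rel.trans ((rel_xi uB).trans h2.rel)

/-- every lattice vector of sum of squares 32 is in the orbit of the standard one -/
theorem rel32 (x : leechLattice) (hn : sqNorm x.1 = 32) : Rel x rC := by
  rcases shapes32 x.1 x.2 hn with ⟨-, h4, h0⟩ | ⟨hp, h2, h0, hc⟩ | ⟨hp, h3, h1⟩
  · exact (nf_a x h4 h0).rel.trans (relAB.trans relBC)
  · exact (nf_b x hp h2 h0 hc).rel.trans relBC
  · exact (nf_c x hp h3 h1).rel

theorem trans32 (v w : leechLattice) (hv : sqNorm v.1 = 32) (hw : sqNorm w.1 = 32) : Rel v w :=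
  (rel32 v hv).trans (rel32 w hw).symm

end Cfsg.Agent.Lib.Helper9.LeechX8
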