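import Cfsg.Agent.Lib.Helper9.LeechX12

set_option autoImplicit false

/-! A subgroup of the automorphism group of the rank-24 lattice containing the monomial group and
the non-monomial automorphism is the whole group. -/

namespace Cfsg.Agent.Lib.Helper9.LeechY1

open Cfsg Finset Cfsg.Agent.Lib.Helper4.Leech Cfsg.Agent.Lib.Helper9.Golay1
  Cfsg.Agent.Lib.Helper9.LeechM1 Cfsg.Agent.Lib.Helper9.LeechM4 Cfsg.Agent.Lib.Helper9.LeechX4
  Cfsg.Agent.Lib.Helper9.LeechX5 Cfsg.Agent.Lib.Helper9.LeechX6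
  Cfsg.Agent.Lib.Helper9.LeechX7 Cfsg.Agent.Lib.Helper9.LeechX8
  Cfsg.Agent.Lib.Helper9.LeechX9 Cfsg.Agent.Lib.Helper9.LeechX10
  Cfsg.Agent.Lib.Helper9.LeechX11 Cfsg.Agent.Lib.Helper9.LeechX12
  Cfsg.Agent.Lib.Helper9.LeechC7 Cfsg.Agent.Lib.Helper9.LeechC8
  Cfsg.Agent.Lib.Helper9.GolayQR1 Cfsg.Agent.Lib.Helper9.GolayQR3
open Cfsg.Agent.Lib.Helper9.LeechC2 (fwd bwd par cl mem_lev')
open Cfsg.Agent.Lib.Helper9.LeechX1 (xiFun)

/-- same orbit under a subgroup -/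
def RelS (K0 : Subgroup (Equiv.Perm leechLattice)) (v w : leechLattice) : Prop :=
  ∃ g ∈ K0, g v = w

variable {K0 : Subgroup (Equiv.Perm leechLattice)}

theorem RelS.refl (v : leechLattice) : RelS K0 v v := ⟨1, K0.one_mem, rfl⟩

theorem RelS.symm {v w : leechLattice} (h : RelS K0 v w) : RelS K0 w v := by
  obtain ⟨g, hg, rfl⟩ := h
  exact ⟨g⁻¹, K0.inv_mem hg, by simp⟩

theorem RelS.trans {u v w : leechLattice} (h1 : RelS K0 u v) (h2 : RelS K0 v w) :
    RelS K0 u w := by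
  obtain ⟨g, hg, rfl⟩ := h1
  obtain ⟨h, hh, rfl⟩ := h2
  exact ⟨h * g, K0.mul_mem hh hg, rfl⟩

theorem relS_of_relN (hN : Nsub ≤ K0) {v w : leechLattice} (h : RelN v w) : RelS K0 v w := by
  obtain ⟨g, hg, rfl⟩ := h
  exact ⟨g, hN hg, rfl⟩

theorem relS_xi (hξ : xi ∈ K0) (v : leechLattice) : RelS K0 v (xi v) := ⟨_, hξ, rfl⟩

/-! ### sum of squares 32 -/

theorem relAB' (hN : Nsub ≤ K0) (hξ : xi ∈ K0) : RelS K0 rA rB := by
  have h1 : RelN uA rA := nf_a uA (by decide +kernel) (by decide +kernel)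
  have h2 : RelN (xi uA) rB := by
    apply nf_b <;> rw [xi_uA] <;> decide +kernel
  exact (relS_of_relN hN h1.symm).trans ((relS_xi hξ uA).trans (relS_of_relN hN h2))

theorem relBC' (hN : Nsub ≤ K0) (hξ : xi ∈ K0) : RelS K0 rB rC := by
  have h1 : RelN uB rB := by
    apply nf_b <;> decide +kernel
  have h2 : RelN (xi uB) rC := by
    apply nf_c <;> rw [xi_uB] <;> decide +kernel
  exact (relS_of_relN hN h1.symm).trans ((relS_xi hξ uB).trans (relS_of_relN hN h2))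

theorem rel32' (hN : Nsub ≤ K0) (hξ : xi ∈ K0) (x : leechLattice) (hn : sqNorm x.1 = 32) :
    RelS K0 x rC := by
  rcases shapes32 x.1 x.2 hn with ⟨-, h4, h0⟩ | ⟨hp, h2, h0, hc⟩ | ⟨hp, h3, h1⟩
  · exact (relS_of_relN hN (nf_a x h4 h0)).trans ((relAB' hN hξ).trans (relBC' hN hξ))
  · exact (relS_of_relN hN (nf_b x hp h2 h0 hc)).trans (relBC' hN hξ)
  · exact relS_of_relN hN (nf_c x hp h3 h1)

theorem trans32' (hN : Nsub ≤ K0) (hξ : xi ∈ K0) (v w : leechLattice) (hv : sqNorm v.1 = 32)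
    (hw : sqNorm w.1 = 32) : RelS K0 v w :=
  (rel32' hN hξ v hv).trans (rel32' hN hξ w hw).symm

/-! ### sum of squares 64 -/

theorem rel_44_8' (hN : Nsub ≤ K0) (hξ : xi ∈ K0) : RelS K0 r44 r8 := by
  have h1 : RelN u44 r44 := by
    apply nf_44 <;> decide +kernel
  have h2 : RelN (xi u44) r8 := by
    apply nf_8 <;> rw [xi_u44] <;> decide +kernel
  exact (relS_of_relN hN h1.symm).trans ((relS_xi hξ u44).trans (relS_of_relN hN h2))

theorem rel_428_44' (hN : Nsub ≤ K0) (hξ : xi ∈ K0) : RelS K0 r428 r44 := by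
  have h1 : RelN u428 r428 := by
    apply nf_428 <;> decide +kernel
  have h2 : RelN (xi u428) r44 := by
    apply nf_44 <;> rw [xi_u428] <;> decide +kernel
  exact (relS_of_relN hN h1.symm).trans ((relS_xi hξ u428).trans (relS_of_relN hN h2))

theorem rel_62_428' (hN : Nsub ≤ K0) (hξ : xi ∈ K0) : RelS K0 r62 r428 := by
  have h1 : RelN u62 r62 := by
    apply nf_62 <;> decide +kernel
  have h2 : RelN (xi u62) r428 := by
    apply nf_428 <;> rw [xi_u62] <;> decide +kernel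
  exact (relS_of_relN hN h1.symm).trans ((relS_xi hξ u62).trans (relS_of_relN hN h2))

theorem rel_532_62' (hN : Nsub ≤ K0) (hξ : xi ∈ K0) : RelS K0 r532 r62 := by
  have h1 : RelN u62b r62 := by
    apply nf_62 <;> decide +kernel
  have h2 : RelN (xi u62b) r532 := by
    apply nf_532 <;> rw [xi_u62b] <;> decide +kernel
  exact (relS_of_relN hN h2.symm).trans ((relS_xi hξ u62b).symm.trans (relS_of_relN hN h1))

theorem rel_428_8' (hN : Nsub ≤ K0) (hξ : xi ∈ K0) : RelS K0 r428 r8 :=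
  (rel_428_44' hN hξ).trans (rel_44_8' hN hξ)

theorem rel_62_8' (hN : Nsub ≤ K0) (hξ : xi ∈ K0) : RelS K0 r62 r8 :=
  (rel_62_428' hN hξ).trans (rel_428_8' hN hξ)

theorem rel_532_8' (hN : Nsub ≤ K0) (hξ : xi ∈ K0) : RelS K0 r532 r8 :=
  (rel_532_62' hN hξ).trans (rel_62_8' hN hξ)

theorem reduce' (hN : Nsub ≤ K0) (hξ : xi ∈ K0) (hK : K0 ≤ Co0) (v : leechLattice)
    (hn : sqNorm v.1 = 64) :
    ∃ v1 : leechLattice, RelS K0 v v1 ∧ sqNorm v1.1 = 64 ∧ v1.1 none + v1.1 (some 0) = 8 := by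
  obtain ⟨y, ⟨hyL, hyn, z, hz, hvy⟩, hne1, hne2⟩ := exists_partner v hn
  rw [hn] at hyn
  obtain ⟨-, -, hdot⟩ := geom v.1 y z v.2 hyL hz hvy hne1 hne2 (by rw [hn]) (by rw [hyn])
  have hzn : sqNorm z = 32 := by
    have e := congrArg sqNorm hvy
    rw [sqNorm_sub, sqNorm_two, hn, hyn, hdot] at e
    omega
  let a : leechLattice := ⟨v.1 - z, leechLattice.sub_mem v.2 hz⟩
  have ha2 : (2 : ℕ) • (v.1 - z) = v.1 + y := by
    have : v.1 - z + (v.1 - z) = v.1 + y := by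
      have h2z : z + z = v.1 - y := by rw [hvy, two_nsmul]
      calc v.1 - z + (v.1 - z) = v.1 + v.1 - (z + z) := by abel
        _ = v.1 + y := by rw [h2z]; abel
    rw [two_nsmul]
    exact this
  have han : sqNorm a.1 = 32 := by
    have e := congrArg sqNorm ha2
    rw [sqNorm_two, sqNorm_add, hn, hyn, hdot] at e
    show sqNorm (v.1 - z) = 32
    omega
  have haz : dotInt a.1 z = 0 := by
    have e : a.1 + z = v.1 := sub_add_cancel v.1 z
    have e2 := congrArg sqNorm e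
    rw [sqNorm_add, han, hzn, hn] at e2
    omega
  obtain ⟨g, hgK, hga⟩ := trans32' hN hξ a rA han (by decide +kernel)
  have hg : g ∈ Co0 := hK hgK
  let zL : leechLattice := ⟨z, hz⟩
  have hv : v = a + zL := by
    apply Subtype.ext
    show v.1 = v.1 - z + z
    rw [sub_add_cancel]
  refine ⟨g v, ⟨g, hgK, rfl⟩, ?_, ?_⟩
  · rw [hg.2 v, hn]
  · have e1 : g v = rA + g zL := by rw [hv, hg.1, hga]
    have e2 : dotInt rA.1 (g zL).1 = 0 := by
      rw [← hga, dot_pres g hg a zL]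
      exact haz
    rw [dot_rA] at e2
    have e3 : (g v).1 = rA.1 + (g zL).1 := by rw [e1]; rfl
    rw [e3]
    simp only [Pi.add_apply]
    have e4 : rA.1 none = 4 := by decide +kernel
    have e5 : rA.1 (some 0) = 4 := by decide +kernel
    rw [e4, e5]
    omega

/-- every lattice vector of sum of squares 64 is in the orbit of the standard one -/
theorem rel64' (hN : Nsub ≤ K0) (hξ : xi ∈ K0) (hK : K0 ≤ Co0) (x : leechLattice)
    (hn : sqNorm x.1 = 64) : RelS K0 x r8 := by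
  obtain ⟨v, hxv, hvn, hv8⟩ := reduce' hN hξ hK x hn
  refine hxv.trans ?_
  have hb := abs_bound v.1 64 (by norm_num) hvn
  rcases shapes64 v.1 v.2 hvn with ⟨hp, h8, h0⟩ | ⟨hp, h4, h0⟩ | ⟨hp, h6, h2, h0, hc⟩ |
    ⟨hp, h4, h2, h0, hc⟩ | ⟨hp, h4, h2, h0, hc⟩ | ⟨hp, h2, h0, hc⟩ | ⟨hp, h3, h1⟩ |
    ⟨hp, h5, h3, h1⟩
  · exact relS_of_relN hN (nf_8 v h8 h0)
  · exact (relS_of_relN hN (nf_44 v h4 h0)).trans (rel_44_8' hN hξ)
  · exact (relS_of_relN hN (nf_62 v hp h6 h2 h0 hc)).trans (rel_62_8' hN hξ)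
  · exact (relS_of_relN hN (nf_428 v hp h4 h2 h0 hc)).trans (rel_428_8' hN hξ)
  · exfalso
    have hcov := cover v.1 {0, 2, 4} (by
      rw [Finset.sum_insert (by norm_num), Finset.sum_pair (by norm_num)]
      omega)
    obtain ⟨p, -, huniq⟩ := cnt_one v.1 4 h4
    have c1 := hcov none
    have c2 := hcov (some 0)
    simp only [mem_insert, mem_singleton] at c1 c2
    have a1 : |v.1 none| = 4 := by
      rcases abs_cases (v.1 none) with ⟨a1, a2⟩ | ⟨a1, a2⟩ <;>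
        rcases abs_cases (v.1 (some 0)) with ⟨b1, b2⟩ | ⟨b1, b2⟩ <;> omega
    have a2 : |v.1 (some 0)| = 4 := by
      rcases abs_cases (v.1 none) with ⟨a1, a2⟩ | ⟨a1, a2⟩ <;>
        rcases abs_cases (v.1 (some 0)) with ⟨b1, b2⟩ | ⟨b1, b2⟩ <;> omega
    have := (huniq _ a1).trans (huniq _ a2).symm
    exact absurd this (by decide)
  · exfalso
    have hcov := cover v.1 {0, 2} (by rw [Finset.sum_pair (by norm_num)]; omega)
    have c1 := hcov none
    have c2 := hcov (some 0)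
    simp only [mem_insert, mem_singleton] at c1 c2
    rcases abs_cases (v.1 none) with ⟨a1, a2⟩ | ⟨a1, a2⟩ <;>
      rcases abs_cases (v.1 (some 0)) with ⟨b1, b2⟩ | ⟨b1, b2⟩ <;> omega
  · exfalso
    have hcov := cover v.1 {3, 1} (by rw [Finset.sum_pair (by norm_num)]; omega)
    have c1 := hcov none
    have c2 := hcov (some 0)
    simp only [mem_insert, mem_singleton] at c1 c2
    rcases abs_cases (v.1 none) with ⟨a1, a2⟩ | ⟨a1, a2⟩ <;>
      rcases abs_cases (v.1 (some 0)) with ⟨b1, b2⟩ | ⟨b1, b2⟩ <;> omega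
  · exact (relS_of_relN hN (nf_532 v hp h5 h3 h1)).trans (rel_532_8' hN hξ)

/-! ### the stabilizer of the standard vector is monomial -/

theorem r8_eq : r8 = E none := by
  apply Subtype.ext
  funext i
  revert i
  decide +kernel

theorem mono_mem_N (σ : Equiv.Perm GolayPt) (hσ : σ ∈ M24) (c : Finset GolayPt) (hc : c ∈ Code) :
    mono σ hσ c hc ∈ Nsub := Nsub.mul_mem (eps_mem_N c hc) (prm_mem_N σ hσ)

theorem mem_N_of_P (g : ↥Co0) (hg : P g) : g.1 ∈ Nsub := by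
  obtain ⟨σ, hσ, c, hc, e⟩ := mono_of_P g hg
  rw [e]
  exact mono_mem_N σ hσ c hc

theorem stab_r8 (f : Equiv.Perm leechLattice) (hf : f ∈ Co0) (h : f r8 = r8) : f ∈ Nsub := by
  have hP : P ((1 : ↥Co0)⁻¹ * ⟨f, hf⟩) := P_of_cong ⟨f, hf⟩ 1 (by
    show mk (f (E none)).1 = mk (E none).1
    rw [← r8_eq, h])
  rw [inv_one, one_mul] at hP
  exact mem_N_of_P _ hP

/-- the two-generator criterion -/
theorem eq_top_of (hN : Nsub ≤ K0) (hξ : xi ∈ K0) (hK : K0 ≤ Co0) : K0 = Co0 := by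
  apply le_antisymm hK
  intro g hg
  have hn : sqNorm (g r8).1 = 64 := by
    rw [hg.2 r8]
    decide +kernel
  obtain ⟨k, hk, hkg⟩ := rel64' hN hξ hK (g r8) hn
  have h1 : k * g ∈ Nsub := stab_r8 (k * g) (Co0.mul_mem (hK hk) hg) hkg
  have h2 : k * g ∈ K0 := hN h1
  have e : g = k⁻¹ * (k * g) := by group
  rw [e]
  exact K0.mul_mem (K0.inv_mem hk) h2

end Cfsg.Agent.Lib.Helper9.LeechY1
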