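import Cfsg.Agent.Lib.Helper9.M24P1
import Cfsg.Agent.Lib.Helper9.M24H5

set_option autoImplicit false

/-! Fixed points of elements of `M24`. -/

namespace Cfsg.Agent.Lib.Helper9.M24Q1

open Cfsg Finset Cfsg.Agent.Lib.Helper9.GolayQR5 Cfsg.Agent.Lib.Helper9.M24T1
  Cfsg.Agent.Lib.Helper9.M24X1 Cfsg.Agent.Lib.Helper9.M24P1 Cfsg.Agent.Lib.Helper9.M24H5
open scoped Pointwise

theorem Fix_eq_compl_support (g : Equiv.Perm GolayPt) : Fix g = g.supportᶜ := by
  ext x
  rw [mem_Fix, mem_compl, Equiv.Perm.mem_support, not_not]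

/-- an even permutation moving at most three points has cube one -/
theorem cube_eq_one {α : Type*} [Fintype α] [DecidableEq α] (π : Equiv.Perm α)
    (halt : π ∈ alternatingGroup α) (h3 : π.support.card ≤ 3) : π ^ 3 = 1 := by
  have hsign : Equiv.Perm.sign π = 1 := Equiv.Perm.mem_alternatingGroup.mp halt
  have hcases : π.support.card = 0 ∨ π.support.card = 1 ∨ π.support.card = 2 ∨
      π.support.card = 3 := by omega
  rcases hcases with h | h | h | h
  · rw [Equiv.Perm.card_support_eq_zero] at h
    rw [h, one_pow]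
  · exact absurd h (Equiv.Perm.card_support_ne_one π)
  · rw [Equiv.Perm.card_support_eq_two] at h
    rw [h.sign_eq] at hsign
    exact absurd hsign (by decide)
  · rw [card_support_eq_three_iff] at h
    rw [← h.orderOf]
    exact pow_orderOf_eq_one π

/-- a nonidentity element of `M24` has at most eight fixed points -/
theorem fix_le (g : Equiv.Perm GolayPt) (hg : g ∈ M24) (h9 : 9 ≤ (Fix g).card) : g = 1 := by
  obtain ⟨s5, hs5sub, hs5card⟩ := Finset.exists_subset_card_eq (show 5 ≤ (Fix g).card by omega)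
  obtain ⟨o, ⟨ho, hso⟩, huniq⟩ := octads_isSteiner.2 s5 hs5card
  have hgo : g • o = o := by
    apply huniq
    refine ⟨smul_octad_mem g hg o ho, fun x hx => ?_⟩
    have hfx : g x = x := (mem_Fix g x).mp (hs5sub hx)
    rw [← hfx, smul_mem_iff]
    exact hso hx
  obtain ⟨y, hyF, hyo⟩ : ∃ y ∈ Fix g, y ∉ o := by
    by_contra hcon
    push Not at hcon
    have : (Fix g).card ≤ o.card := card_le_card hcon
    rw [ho.2] at this
    omega
  have hgB : g ∈ (M24 ⊓ MulAction.stabilizer (Equiv.Perm GolayPt) o ⊓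
      MulAction.stabilizer (Equiv.Perm GolayPt) y) :=
    ⟨⟨hg, MulAction.mem_stabilizer_iff.mpr hgo⟩,
      MulAction.mem_stabilizer_iff.mpr ((mem_Fix g y).mp hyF)⟩
  have halt : resB o y ⟨g, hgB⟩ ∈ alternatingGroup ↥o := by
    rw [← range_resB o ho y hyo]
    exact ⟨_, rfl⟩
  have hsupp : (resB o y ⟨g, hgB⟩).support.card ≤ 3 := by
    have hsub : (resB o y ⟨g, hgB⟩).support ⊆ univ.filter fun x : ↥o => x.1 ∉ s5 := by
      intro x hx
      rw [mem_filter]
      refine ⟨mem_univ _, fun hxs => ?_⟩
      rw [Equiv.Perm.mem_support] at hx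
      apply hx
      apply Subtype.ext
      show g x.1 = x.1
      exact (mem_Fix g x.1).mp (hs5sub hxs)
    have hcard : (univ.filter fun x : ↥o => x.1 ∉ s5).card = 3 := by
      have h1 : (univ.filter fun x : ↥o => x.1 ∈ s5).card = 5 := by
        rw [← hs5card]
        apply Finset.card_bij (fun x _ => x.1)
        · intro x hx; exact (mem_filter.mp hx).2
        · intro x _ y _ h; exact Subtype.ext h
        · intro b hb; exact ⟨⟨b, hso hb⟩, by simp [hb], rfl⟩
      have h2 := Finset.card_filter_add_card_filter_not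
        (s := (univ : Finset ↥o)) (fun x : ↥o => x.1 ∈ s5)
      rw [h1, card_univ, Fintype.card_coe, ho.2] at h2
      omega
    calc (resB o y ⟨g, hgB⟩).support.card ≤ _ := card_le_card hsub
      _ = 3 := hcard
  have hcube := cube_eq_one _ halt hsupp
  rw [← map_pow] at hcube
  have h1 : (⟨g, hgB⟩ : ↥(M24 ⊓ MulAction.stabilizer (Equiv.Perm GolayPt) o ⊓
      MulAction.stabilizer (Equiv.Perm GolayPt) y)) ^ 3 = 1 := by
    apply resB_injective o ho y hyo
    rw [hcube, map_one]
  have hg3 : g ^ 3 = 1 := by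
    have := congrArg Subtype.val h1
    simpa using this
  by_contra hne
  have hord : orderOf g = 3 := by
    haveI : Fact (Nat.Prime 3) := ⟨by norm_num⟩
    exact orderOf_eq_prime hg3 hne
  rcases three_cases g hg hord with ⟨-, -, -, h6⟩ | ⟨-, -, -, h0⟩
  · omega
  · rw [h0] at h9
    simp at h9

/-- fixed points modulo a prime -/
theorem fix_mod (g : Equiv.Perm GolayPt) (r : ℕ) [Fact r.Prime] (hg : g ^ r = 1) :
    (Fix g).card ≡ 24 [MOD r] := by
  have := Equiv.Perm.card_compl_support_modEq (p := r) (n := 1) (σ := g) (by rwa [pow_one])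
  rw [card_golayPt] at this
  rw [Fix_eq_compl_support]
  exact this

/-- the fixed points of a nonidentity element commuting with an element of large prime order -/
theorem fix_sub (s c : Equiv.Perm GolayPt) (hc : c ∈ M24) (hc1 : c ≠ 1) (hcomm : s * c = c * s)
    (p : ℕ) [hp : Fact p.Prime] (hp8 : 8 < p) (hs : s ^ p = 1) : Fix c ⊆ Fix s := by
  have hF8 : (Fix c).card ≤ 8 := by
    by_contra hcon
    push Not at hcon
    exact hc1 (fix_le c hc hcon)
  have hinv : ∀ x, s x ∈ Fix c ↔ x ∈ Fix c := by
    intro x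
    rw [mem_Fix, mem_Fix]
    have h1 : c (s x) = s (c x) := by
      have := congrArg (fun f : Equiv.Perm GolayPt => f x) hcomm
      simp only [Equiv.Perm.mul_apply] at this
      exact this.symm
    rw [h1]
    exact s.injective.eq_iff
  have hpow : (s.subtypePerm hinv) ^ p = 1 := by
    ext x
    simp [Equiv.Perm.subtypePerm_pow, hs]
  by_contra hsub
  have hne : s.subtypePerm hinv ≠ 1 := by
    intro h1
    apply hsub
    intro x hx
    rw [mem_Fix]
    have := congrArg (fun f : Equiv.Perm {x // x ∈ Fix c} => (f ⟨x, hx⟩ : GolayPt)) h1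
    simpa using this
  have hmod := Equiv.Perm.card_compl_support_modEq (p := p) (n := 1)
    (σ := s.subtypePerm hinv) (by rwa [pow_one])
  have hpos : 0 < (s.subtypePerm hinv).support.card := by
    have hne' : (s.subtypePerm hinv).support.Nonempty := by
      rw [Finset.nonempty_iff_ne_empty]
      intro h
      exact hne (Equiv.Perm.support_eq_empty_iff.mp h)
    exact Finset.Nonempty.card_pos hne'
  have hle : (s.subtypePerm hinv).support.card ≤ Fintype.card {x // x ∈ Fix c} :=
    Finset.card_le_univ _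
  have hcc : (s.subtypePerm hinv).supportᶜ.card
      = Fintype.card {x // x ∈ Fix c} - (s.subtypePerm hinv).support.card := Finset.card_compl _
  rw [Fintype.card_coe] at hle hcc
  rw [Fintype.card_coe, hcc] at hmod
  have hdvd : p ∣ (s.subtypePerm hinv).support.card := by
    have := (Nat.modEq_iff_dvd' (Nat.sub_le _ _)).mp hmod
    rwa [Nat.sub_sub_self hle] at this
  have := Nat.le_of_dvd hpos hdvd
  omega

theorem fix_eleven (s : Equiv.Perm GolayPt) (hs : s ∈ M24) (ho : orderOf s = 11) :
    (Fix s).card = 2 := by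
  haveI : Fact (Nat.Prime 11) := ⟨by norm_num⟩
  have h1 : s ≠ 1 := by
    intro h; rw [h, orderOf_one] at ho; omega
  have h8 : (Fix s).card ≤ 8 := by
    by_contra hcon
    push Not at hcon
    exact h1 (fix_le s hs hcon)
  have hmod := fix_mod s 11 (by rw [← ho]; exact pow_orderOf_eq_one s)
  unfold Nat.ModEq at hmod
  omega

theorem fix_twentythree (s : Equiv.Perm GolayPt) (hs : s ∈ M24) (ho : orderOf s = 23) :
    (Fix s).card = 1 := by
  haveI : Fact (Nat.Prime 23) := ⟨by norm_num⟩
  have h1 : s ≠ 1 := by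
    intro h; rw [h, orderOf_one] at ho; omega
  have h8 : (Fix s).card ≤ 8 := by
    by_contra hcon
    push Not at hcon
    exact h1 (fix_le s hs hcon)
  have hmod := fix_mod s 23 (by rw [← ho]; exact pow_orderOf_eq_one s)
  unfold Nat.ModEq at hmod
  omega

end Cfsg.Agent.Lib.Helper9.M24Q1
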