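import Cfsg.Agent.Lib.Helper9.SimpA
import Cfsg.Agent.Lib.Helper9.SimpB

set_option autoImplicit false

/-! A simplicity criterion for 2-transitive groups of prime degree `p` with `p² ∤ |H|`. -/

namespace Cfsg.Agent.Lib.Helper9.SimpC

open Cfsg.Agent.Lib.Helper9.SimpA Cfsg.Agent.Lib.Helper9.SimpB

variable {Ω : Type*} [Fintype Ω] [DecidableEq Ω]

/-- an element of prime order `p = |X|` acts on `X` as a `p`-cycle -/
theorem cycle_cover (H : Subgroup (Equiv.Perm Ω)) (X : Finset Ω) (hf : Faithful H X)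
    (hpres : Pres H X) (p : ℕ) [hp : Fact p.Prime] (hX : X.card = p) (s : ↥H)
    (hs : orderOf s = p) :
    ∃ x0 ∈ X, ∀ x ∈ X, ∃ i : ℕ, x = ((s : Equiv.Perm Ω) ^ i) x0 := by
  have hs1 : (s : Equiv.Perm Ω) ≠ 1 := by
    intro h
    have : s = 1 := Subtype.ext h
    rw [this, orderOf_one] at hs
    exact hp.out.one_lt.ne hs
  obtain ⟨x0, hx0, hne⟩ : ∃ x ∈ X, (s : Equiv.Perm Ω) x ≠ x := by
    by_contra hcon
    push Not at hcon
    exact hs1 (hf s.1 s.2 hcon)
  refine ⟨x0, hx0, ?_⟩
  have hsp : (s : Equiv.Perm Ω) ^ p = 1 := by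
    have : s ^ p = 1 := by rw [← hs]; exact pow_orderOf_eq_one s
    have := congrArg Subtype.val this
    simpa using this
  have hper : Function.IsPeriodicPt (s : Equiv.Perm Ω) p x0 := by
    unfold Function.IsPeriodicPt Function.IsFixedPt
    rw [← Equiv.Perm.coe_pow, hsp]
    rfl
  have hmin : Function.minimalPeriod (s : Equiv.Perm Ω) x0 = p := by
    have hd := hper.minimalPeriod_dvd
    rcases (Nat.dvd_prime hp.out).mp hd with h | h
    · exfalso
      exact hne (Function.minimalPeriod_eq_one_iff_isFixedPt.mp h)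
    · exact h
  have hinj : Set.InjOn (fun i : ℕ => ((s : Equiv.Perm Ω) ^ i) x0) (Finset.range p : Set ℕ) := by
    intro i hi j hj hij
    have := Function.iterate_injOn_Iio_minimalPeriod (f := (s : Equiv.Perm Ω)) (x := x0)
    rw [hmin] at this
    apply this
    · simpa using hi
    · simpa using hj
    · simpa [Equiv.Perm.coe_pow] using hij
  have hsub : (Finset.range p).image (fun i : ℕ => ((s : Equiv.Perm Ω) ^ i) x0) ⊆ X := by
    intro x hx
    obtain ⟨i, -, rfl⟩ := Finset.mem_image.mp hx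
    exact hpres _ (H.pow_mem s.2 i) x0 hx0
  have hcard : ((Finset.range p).image (fun i : ℕ => ((s : Equiv.Perm Ω) ^ i) x0)).card = p := by
    rw [Finset.card_image_of_injOn hinj, Finset.card_range]
  have heq := Finset.eq_of_subset_of_card_le hsub (by rw [hcard, hX])
  intro x hx
  rw [← heq] at hx
  obtain ⟨i, -, rfl⟩ := Finset.mem_image.mp hx
  exact ⟨i, rfl⟩

theorem card_centralizer_cycle (H : Subgroup (Equiv.Perm Ω)) (X : Finset Ω) (hf : Faithful H X)
    (hpres : Pres H X) (p : ℕ) [hp : Fact p.Prime] (hX : X.card = p) (s : ↥H)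
    (hs : orderOf s = p) :
    Nat.card (Subgroup.centralizer ((Subgroup.zpowers s : Subgroup ↥H) : Set ↥H)) = p := by
  obtain ⟨x0, hx0, hcov⟩ := cycle_cover H X hf hpres p hX s hs
  have hle : Subgroup.zpowers s ≤ Subgroup.centralizer ((Subgroup.zpowers s : Subgroup ↥H) : Set ↥H) := by
    intro x hx
    rw [Subgroup.mem_centralizer_iff]
    intro y hy
    obtain ⟨i, rfl⟩ := Subgroup.mem_zpowers_iff.mp hx
    obtain ⟨j, rfl⟩ := Subgroup.mem_zpowers_iff.mp hy
    exact (Commute.zpow_zpow_self s j i).eq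
  have hge : p ≤ Nat.card (Subgroup.centralizer ((Subgroup.zpowers s : Subgroup ↥H) : Set ↥H)) := by
    have h1 := Subgroup.card_le_of_le hle
    rwa [Nat.card_zpowers, hs] at h1
  refine le_antisymm ?_ hge
  let f : ↥(Subgroup.centralizer ((Subgroup.zpowers s : Subgroup ↥H) : Set ↥H)) → {x // x ∈ X} :=
    fun c => ⟨(c.1.1 : Equiv.Perm Ω) x0, hpres _ c.1.2 x0 hx0⟩
  have hcomm : ∀ (c : ↥(Subgroup.centralizer ((Subgroup.zpowers s : Subgroup ↥H) : Set ↥H)))
      (i : ℕ) (y : Ω), (c.1.1 : Equiv.Perm Ω) (((s : Equiv.Perm Ω) ^ i) y)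
        = ((s : Equiv.Perm Ω) ^ i) ((c.1.1 : Equiv.Perm Ω) y) := by
    intro c i y
    have h1 : s * c.1 = c.1 * s :=
      Subgroup.mem_centralizer_iff.mp c.2 s (Subgroup.mem_zpowers s)
    have h2 : (s : Equiv.Perm Ω) * (c.1.1 : Equiv.Perm Ω) = (c.1.1 : Equiv.Perm Ω) * (s : Equiv.Perm Ω) :=
      congrArg Subtype.val h1
    have h3 : Commute (c.1.1 : Equiv.Perm Ω) ((s : Equiv.Perm Ω) ^ i) :=
      (Commute.pow_right (show Commute (c.1.1 : Equiv.Perm Ω) (s : Equiv.Perm Ω) from h2.symm) i)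
    have := congrArg (fun t : Equiv.Perm Ω => t y) h3.eq
    simpa [Equiv.Perm.mul_apply] using this
  have hfinj : Function.Injective f := by
    intro c c' hcc
    have h0 : (c.1.1 : Equiv.Perm Ω) x0 = (c'.1.1 : Equiv.Perm Ω) x0 := congrArg Subtype.val hcc
    have hall : ∀ x ∈ X, ((c'.1.1 : Equiv.Perm Ω)⁻¹ * (c.1.1 : Equiv.Perm Ω)) x = x := by
      intro x hx
      obtain ⟨i, rfl⟩ := hcov x hx
      rw [Equiv.Perm.mul_apply, hcomm c i x0, h0, ← hcomm c' i x0]
      exact inv_app _ _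
    have h1 := hf _ (H.mul_mem (H.inv_mem c'.1.2) c.1.2) hall
    have h2 : (c.1.1 : Equiv.Perm Ω) = (c'.1.1 : Equiv.Perm Ω) := by
      have := inv_mul_eq_one.mp h1
      exact this.symm
    exact Subtype.ext (Subtype.ext h2)
  have := Nat.card_le_card_of_injective f hfinj
  rw [Nat.card_eq_fintype_card (α := {x // x ∈ X}), Fintype.card_coe, hX] at this
  exact this

/-- a 2-transitive faithful group of prime degree `p` with `p² ∤ n = |H|` is simple if the
Sylow numerics force `|N(P)| = p q` with `n ≠ p q` -/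
theorem simple_gen (H : Subgroup (Equiv.Perm Ω)) (p q : ℕ) [hp : Fact p.Prime] (hq : q.Prime)
    (X : Finset Ω) (h2 : TwoTrans H X) (hf : Faithful H X)
    (hpres : Pres H X) (hpX : X.card = p)
    (n : ℕ) (hn : Nat.card H = n) (hpn : p ∣ n) (hpn2 : ¬ p ^ 2 ∣ n)
    (hnum : ∀ e, e ∣ p - 1 → p * e ∣ n → (n / (p * e)) % p = 1 → e = q)
    (hnpq : n ≠ p * q) : IsSimpleGroup H := by
  have hfinH : Finite H := inferInstance
  obtain ⟨s, hs⟩ := exists_prime_orderOf_dvd_card' (G := ↥H) p (by rw [hn]; exact hpn)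
  have hPcard : Nat.card (Subgroup.zpowers s) = p := by rw [Nat.card_zpowers, hs]
  have hPp : IsPGroup p (Subgroup.zpowers s) := IsPGroup.of_card (n := 1) (by rw [hPcard, pow_one])
  obtain ⟨Q, hQ⟩ := hPp.exists_le_sylow
  have hfact : (Nat.card H).factorization p = 1 := by
    have h1 : 1 ≤ (Nat.card H).factorization p :=
      (hp.out.dvd_iff_one_le_factorization (Nat.card_pos.ne')).mp (by rw [hn]; exact hpn)
    have h2 : (Nat.card H).factorization p ≤ 1 := by
      by_contra hcon
      push Not at hcon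
      have : p ^ 2 ∣ Nat.card H :=
        (hp.out.pow_dvd_iff_le_factorization (Nat.card_pos.ne')).mpr hcon
      rw [hn] at this
      exact hpn2 this
    omega
  have hQcard : Nat.card Q = p := by rw [Q.card_eq_multiplicity, hfact, pow_one]
  have hQeq : Subgroup.zpowers s = (Q : Subgroup ↥H) :=
    Subgroup.eq_of_le_of_card_ge hQ (by rw [hQcard, hPcard])
  have hCcard := card_centralizer_cycle H X hf hpres p hpX s hs
  have hNdvd := card_normalizer_dvd (Subgroup.zpowers s : Subgroup ↥H) p hPcard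
  rw [hCcard] at hNdvd
  have hPN : p ∣ Nat.card (Subgroup.normalizer ((Subgroup.zpowers s : Subgroup ↥H) : Set ↥H)) := by
    rw [← hPcard]
    exact Subgroup.card_dvd_of_le Subgroup.le_normalizer
  obtain ⟨e, he⟩ := hPN
  have hpos : 0 < p := hp.out.pos
  have hediv : e ∣ p - 1 := by
    rw [he] at hNdvd
    exact (Nat.mul_dvd_mul_iff_left hpos).mp hNdvd
  have hNQ : Subgroup.normalizer (Q : Set ↥H)
      = Subgroup.normalizer ((Subgroup.zpowers s : Subgroup ↥H) : Set ↥H) := by rw [hQeq]; rfl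
  have hsyl := card_sylow_modEq_one p (↥H)
  rw [Sylow.card_eq_index_normalizer Q, hNQ] at hsyl
  have hidx : (Subgroup.normalizer ((Subgroup.zpowers s : Subgroup ↥H) : Set ↥H)).index
      = n / (p * e) := by
    have := Subgroup.card_mul_index
      (Subgroup.normalizer ((Subgroup.zpowers s : Subgroup ↥H) : Set ↥H))
    rw [he, hn] at this
    rw [← this, Nat.mul_div_cancel_left]
    rw [← he]
    exact Nat.card_pos
  have hpe : p * e ∣ n := by
    rw [← he, ← hn]
    exact Subgroup.card_subgroup_dvd_card _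
  have heq : e = q := by
    apply hnum e hediv hpe
    rw [← hidx]
    have := hsyl
    unfold Nat.ModEq at this
    rw [this]
    exact Nat.mod_eq_of_lt hp.out.one_lt
  have hNcard : Nat.card (Subgroup.normalizer (Q : Set ↥H)) = p * q := by
    rw [hNQ, he, heq]
  have hdiv : ∀ N : Subgroup ↥H, N.Normal → N ≠ ⊥ → p ∣ Nat.card N := by
    intro N hN hne
    obtain ⟨a, ha⟩ : X.Nonempty := Finset.card_pos.mp (by rw [hpX]; exact hpos)
    have htr := normal_trans H X h2 hf hpres N hN hne a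
    have := card_dvd_of_trans H X hpres N a ha (fun b hb => htr b ha hb)
    rw [hpX] at this
    exact this
  exact simple_of_sylow p q hq Q hQcard hNcard hdiv (by rw [hn]; exact hnpq)

end Cfsg.Agent.Lib.Helper9.SimpC
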