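import Cfsg.Agent.Lib.Helper9.M24Z11
import Cfsg.Agent.Lib.Helper9.M24Q1
import Cfsg.Agent.Lib.Helper9.SimpC

set_option autoImplicit false

/-! The stabilizer of a dodecad and one of its points acts 2-transitively on the complement. -/

namespace Cfsg.Agent.Lib.Helper9.M24M1

open Cfsg Finset Cfsg.Agent.Lib.Helper9.GolayQR1 Cfsg.Agent.Lib.Helper9.M24T1
  Cfsg.Agent.Lib.Helper9.M24T9 Cfsg.Agent.Lib.Helper9.M24T10
  Cfsg.Agent.Lib.Helper9.M24T11 Cfsg.Agent.Lib.Helper9.M24X1 Cfsg.Agent.Lib.Helper9.M24X4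
  Cfsg.Agent.Lib.Helper9.M24Z11 Cfsg.Agent.Lib.Helper9.M24H5 Cfsg.Agent.Lib.Helper9.M24Q1
  Cfsg.Agent.Lib.Helper9.Chain1 Cfsg.Agent.Lib.Helper9.SimpB
open scoped Pointwise

/-- an element of prime order `p` moving a point of an invariant `p`-set is a `p`-cycle on it -/
theorem cycle_orbit {Ω : Type*} [Fintype Ω] [DecidableEq Ω] (s : Equiv.Perm Ω) (p : ℕ)
    [hp : Fact p.Prime] (hsp : s ^ p = 1) (X : Finset Ω) (hX : X.card = p)
    (hinv : ∀ x ∈ X, s x ∈ X) (x0 : Ω) (hx0 : x0 ∈ X) (hne : s x0 ≠ x0) :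
    ∀ x ∈ X, ∃ i : ℕ, x = (s ^ i) x0 := by
  have hper : Function.IsPeriodicPt s p x0 := by
    unfold Function.IsPeriodicPt Function.IsFixedPt
    rw [← Equiv.Perm.coe_pow, hsp]
    rfl
  have hmin : Function.minimalPeriod s x0 = p := by
    have hd := hper.minimalPeriod_dvd
    rcases (Nat.dvd_prime hp.out).mp hd with h | h
    · exfalso
      exact hne (Function.minimalPeriod_eq_one_iff_isFixedPt.mp h)
    · exact h
  have hinj : Set.InjOn (fun i : ℕ => (s ^ i) x0) (Finset.range p : Set ℕ) := by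
    intro i hi j hj hij
    have := Function.iterate_injOn_Iio_minimalPeriod (f := s) (x := x0)
    rw [hmin] at this
    apply this
    · simpa using hi
    · simpa using hj
    · simpa [Equiv.Perm.coe_pow] using hij
  have hpow : ∀ i : ℕ, (s ^ i) x0 ∈ X := by
    intro i
    induction i with
    | zero => simpa using hx0
    | succ n ih =>
      rw [pow_succ', Equiv.Perm.mul_apply]
      exact hinv _ ih
  have hsub : (Finset.range p).image (fun i : ℕ => (s ^ i) x0) ⊆ X := by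
    intro x hx
    obtain ⟨i, -, rfl⟩ := Finset.mem_image.mp hx
    exact hpow i
  have hcard : ((Finset.range p).image (fun i : ℕ => (s ^ i) x0)).card = p := by
    rw [Finset.card_image_of_injOn hinj, Finset.card_range]
  have heq := Finset.eq_of_subset_of_card_le hsub (by rw [hcard, hX])
  intro x hx
  rw [← heq] at hx
  obtain ⟨i, -, rfl⟩ := Finset.mem_image.mp hx
  exact ⟨i, rfl⟩

/-- the group `M11` of a dodecad and a point, as a permutation group -/
abbrev M11 (d : Finset GolayPt) (p : GolayPt) : Subgroup (Equiv.Perm GolayPt) :=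
  stabF d ⊓ MulAction.stabilizer (Equiv.Perm GolayPt) p

theorem mem_M11 (d : Finset GolayPt) (p : GolayPt) (g : Equiv.Perm GolayPt) :
    g ∈ M11 d p ↔ g ∈ M24 ∧ g • d = d ∧ g p = p := by
  rw [mem_inf_stab, mem_stabF, and_assoc]

theorem maps_compl (d : Finset GolayPt) (g : Equiv.Perm GolayPt) (hg : g • d = d) (x : GolayPt)
    (hx : x ∉ d) : g x ∉ d := by
  intro h
  apply hx
  rw [← hg, smul_mem_iff] at h
  exact h

theorem trans_compl (d : Finset GolayPt) (hd : d ∈ dodecads) (p : GolayPt) (hp : p ∈ d)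
    (x y : GolayPt) (hx : x ∉ d) (hy : y ∉ d) : ∃ g ∈ M11 d p, g x = y := by
  have h12 : d.card = 12 := hd.2
  obtain ⟨q, hq⟩ : (d.erase p).Nonempty := card_pos.mp (by rw [card_erase_of_mem hp]; omega)
  obtain ⟨hqp, hqd⟩ := mem_erase.mp hq
  obtain ⟨r, hr⟩ : ((d.erase p).erase q).Nonempty :=
    card_pos.mp (by rw [card_erase_of_mem hq, card_erase_of_mem hp]; omega)
  obtain ⟨hrq, hr'⟩ := mem_erase.mp hr
  obtain ⟨hrp, hrd⟩ := mem_erase.mp hr'
  obtain ⟨g, hg, hgx⟩ := (three_result d hd p q r hp hqd hrd (Ne.symm hqp) (Ne.symm hrp)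
    (Ne.symm hrq)).2 x hx y hy
  simp only [Subgroup.mem_inf, MulAction.mem_stabilizer_iff] at hg
  refine ⟨g.1, (mem_M11 d p g.1).mpr ⟨g.2, hg.1.1.1, hg.1.1.2⟩, hgx⟩

theorem card_M11_pt (d : Finset GolayPt) (hd : d ∈ dodecads) (p : GolayPt) (hp : p ∈ d)
    (q : GolayPt) (hq : q ∉ d) :
    Nat.card ↥(M11 d p ⊓ MulAction.stabilizer (Equiv.Perm GolayPt) q) = 660 := by
  have h := card_step (M11 d p) q dᶜ (fun g hg => by
      rw [mem_compl]
      exact maps_compl d g ((mem_M11 d p g).mp hg).2.1 q hq)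
    (fun x hx => trans_compl d hd p hp q x hq (mem_compl.mp hx))
  have h12 : d.card = 12 := hd.2
  rw [card_stab_point d hd p hp, card_compl, Cfsg.Agent.Lib.Helper9.GolayQR5.card_golayPt, h12] at h
  omega

theorem two_trans_compl (d : Finset GolayPt) (hd : d ∈ dodecads) (p : GolayPt) (hp : p ∈ d)
    (q a b : GolayPt) (hq : q ∉ d) (ha : a ∉ d) (hb : b ∉ d) (haq : a ≠ q) (hbq : b ≠ q) :
    ∃ g ∈ M11 d p, g q = q ∧ g a = b := by
  haveI : Fact (Nat.Prime 11) := ⟨by norm_num⟩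
  have h12 : d.card = 12 := hd.2
  obtain ⟨s0, hs0⟩ := exists_prime_orderOf_dvd_card'
    (G := ↥(M11 d p ⊓ MulAction.stabilizer (Equiv.Perm GolayPt) q)) 11
    (by rw [card_M11_pt d hd p hp q hq]; norm_num)
  obtain ⟨s, hsdef⟩ : ∃ s : Equiv.Perm GolayPt, s = s0.1 := ⟨_, rfl⟩
  have hs' : orderOf s = 11 := by rw [hsdef, Subgroup.orderOf_coe]; exact hs0
  have hsm : s ∈ M11 d p ∧ s q = q := by
    rw [hsdef]
    exact (mem_inf_stab _ _ _).mp s0.2
  clear hsdef hs0 s0
  obtain ⟨hsM, hsd, hsp⟩ := (mem_M11 d p s).mp hsm.1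
  have hsq : s q = q := hsm.2
  have hfix := fix_eleven s hsM hs'
  have hFix : Fix s = {p, q} := by
    symm
    apply eq_of_subset_of_card_le
    · intro x hx
      rcases mem_insert.mp hx with rfl | hx
      · exact (mem_Fix _ _).mpr hsp
      · rw [mem_singleton.mp hx]; exact (mem_Fix _ _).mpr hsq
    · rw [hfix, card_pair]
      rintro rfl
      exact hq hp
  have hs11 : s ^ 11 = 1 := by rw [← hs']; exact pow_orderOf_eq_one _
  have hXcard : (dᶜ.erase q).card = 11 := by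
    rw [card_erase_of_mem (mem_compl.mpr hq), card_compl,
      Cfsg.Agent.Lib.Helper9.GolayQR5.card_golayPt, h12]
  have hinv : ∀ x ∈ dᶜ.erase q, s x ∈ dᶜ.erase q := by
    intro x hx
    obtain ⟨hxq, hxd⟩ := mem_erase.mp hx
    refine mem_erase.mpr ⟨?_, mem_compl.mpr (maps_compl d s hsd x (mem_compl.mp hxd))⟩
    intro h
    have : s x = s q := h.trans hsq.symm
    exact hxq (s.injective this)
  have haX : a ∈ dᶜ.erase q := mem_erase.mpr ⟨haq, mem_compl.mpr ha⟩
  have hbX : b ∈ dᶜ.erase q := mem_erase.mpr ⟨hbq, mem_compl.mpr hb⟩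
  have hane : s a ≠ a := by
    intro h
    have : a ∈ Fix s := (mem_Fix _ _).mpr h
    rw [hFix, mem_insert, mem_singleton] at this
    rcases this with rfl | rfl
    · exact ha hp
    · exact haq rfl
  obtain ⟨i, hi⟩ := cycle_orbit s 11 hs11 (dᶜ.erase q) hXcard hinv a haX hane b hbX
  refine ⟨s ^ i, (M11 d p).pow_mem hsm.1 i, ?_, hi.symm⟩
  have : ∀ n : ℕ, (s ^ n) q = q := by
    intro n
    induction n with
    | zero => rfl
    | succ n ih => rw [pow_succ', Equiv.Perm.mul_apply, ih, hsq]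
  exact this i

/-- `M11` is transitive on the pairs of the complementary dodecad -/
theorem pair_trans (d : Finset GolayPt) (hd : d ∈ dodecads) (p : GolayPt) (hp : p ∈ d)
    (q q' a b : GolayPt) (hq : q ∉ d) (hq' : q' ∉ d) (ha : a ∉ d) (hb : b ∉ d) (hqq : q ≠ q')
    (hab : a ≠ b) : ∃ g ∈ M11 d p, g q = a ∧ g q' = b := by
  obtain ⟨g1, hg1, h1⟩ := trans_compl d hd p hp q a hq ha
  have hg1d := ((mem_M11 d p g1).mp hg1).2.1
  have hc : g1 q' ∉ d := maps_compl d g1 hg1d q' hq'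
  have hne : g1 q' ≠ a := by
    rw [← h1]
    intro h
    exact hqq (g1.injective h).symm
  obtain ⟨g2, hg2, h2, h3⟩ := two_trans_compl d hd p hp a (g1 q') b ha hc hb hne (Ne.symm hab)
  refine ⟨g2 * g1, (M11 d p).mul_mem hg2 hg1, ?_, ?_⟩
  · rw [Equiv.Perm.mul_apply, h1, h2]
  · rw [Equiv.Perm.mul_apply, h3]

end Cfsg.Agent.Lib.Helper9.M24M1
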