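import Cfsg.Agent.Lib.Helper9.LeechX11
import Cfsg.Agent.Lib.Helper9.M24M1

set_option autoImplicit false

/-! Normal forms under the monomial group for two more shapes of vectors of sum of squares 64. -/

namespace Cfsg.Agent.Lib.Helper9.LeechY2

open Cfsg Finset Cfsg.Agent.Lib.Helper4.Leech Cfsg.Agent.Lib.Helper9.Golay1
  Cfsg.Agent.Lib.Helper9.LeechM1 Cfsg.Agent.Lib.Helper9.LeechX4
  Cfsg.Agent.Lib.Helper9.LeechX5 Cfsg.Agent.Lib.Helper9.LeechX6
  Cfsg.Agent.Lib.Helper9.LeechX7 Cfsg.Agent.Lib.Helper9.LeechX8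
  Cfsg.Agent.Lib.Helper9.LeechX9 Cfsg.Agent.Lib.Helper9.LeechX10
  Cfsg.Agent.Lib.Helper9.GolayQR1 Cfsg.Agent.Lib.Helper9.GolayQR3
  Cfsg.Agent.Lib.Helper9.M24U1 Cfsg.Agent.Lib.Helper9.M24T5
open Cfsg.Agent.Lib.Helper9.LeechC2 (fwd bwd par cl mem_lev')
open scoped Pointwise

/-! ### shape `(3⁵, 1¹⁹)` -/

def L35 : List ℤ := [-3, -3, -3, -3, 1, 1, 1, 1, 1, 1, 1, 1, 1, 1, 1, 1, 1, 1, 1, 1, 1, 1, 1, -3]

theorem L35_mem : vecL L35 ∈ leechLattice :=
  mem_of_data _ 1 16777215 (Or.inr rfl) (by decide +kernel) (by decide +kernel)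
    (by decide +kernel)

def r35 : leechLattice := ⟨vecL L35, L35_mem⟩

theorem r35_abs : ∀ k : GolayPt, |r35.1 k| =
    if k ∈ [none, some 0, some 1, some 2, some 3] then 3 else 1 := by
  decide +kernel

theorem r35_par : par r35.1 = 1 := by decide +kernel

theorem bpt5 (k : GolayPt) :
    (∃ m < 5, k = bpt m) ↔ k ∈ [none, some 0, some 1, some 2, some 3] := by
  constructor
  · rintro ⟨m, hm, rfl⟩
    interval_cases m <;> simp [bpt]
  · intro h
    simp only [List.mem_cons, List.not_mem_nil, or_false] at h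
    rcases h with rfl | rfl | rfl | rfl | rfl
    · exact ⟨0, by norm_num, rfl⟩
    · exact ⟨1, by norm_num, rfl⟩
    · exact ⟨2, by norm_num, rfl⟩
    · exact ⟨3, by norm_num, rfl⟩
    · exact ⟨4, by norm_num, rfl⟩

theorem nf_35 (x : leechLattice) (hp : par x.1 = 1) (h3 : cnt x.1 3 = 5) (h1 : cnt x.1 1 = 19) :
    RelN x r35 := by
  have hcov := cover x.1 {3, 1} (by rw [Finset.sum_pair (by norm_num)]; omega)
  obtain ⟨h, hh, hmap⟩ := exists_map_set (univ.filter fun i => |x.1 i| = 3) 5 (by norm_num) h3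
  refine (relN_prm h⁻¹ (M24.inv_mem hh) x).trans (sign_fix_odd _ r35 ?_ r35_par fun k => ?_)
  · unfold par
    rw [prm_inv_val h hh]
    exact odd_of_par x.1 x.2 hp _
  · rw [prm_inv_val h hh, r35_abs k]
    have hk := hmap k
    rw [mem_filter, bpt5] at hk
    by_cases hm : k ∈ [none, some 0, some 1, some 2, some 3]
    · rw [if_pos hm]
      exact (hk.mpr hm).2
    · rw [if_neg hm]
      have hne : |x.1 (h k)| ≠ 3 := fun h' => hm (hk.mp ⟨mem_univ _, h'⟩)
      have := hcov (h k)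
      simp only [mem_insert, mem_singleton] at this
      tauto

/-! ### shape `(4, 2¹², 0¹¹)` -/

def L412 : List ℤ := [-2, 2, 2, 2, 2, 2, 4, 2, 0, 0, 0, 2, 0, 0, 0, 0, 0, 0, 2, 0, 0, 2, 2, 2]

theorem L412_mem : vecL L412 ∈ leechLattice :=
  mem_of_data _ 0 14944447 (Or.inl rfl) (by decide +kernel) (by decide +kernel)
    (by decide +kernel)

def r412 : leechLattice := ⟨vecL L412, L412_mem⟩

theorem fix412 (w : leechLattice) (habs : ∀ i, |w.1 i| = |r412.1 i|) : RelN w r412 :=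
  sign_fix_lists r412 [some 6]
    [some 0, some 1, some 2, some 3, some 4, some 5, some 7, some 11, some 18, some 21, some 22,
      none]
    [1832768, 185603, 1302533, 1618953, 1737489, 684577, 1250945, 1661185, 902657, 3172097,
      4924673, 8499969, 1127686, 1728778, 1594898, 567074, 1164162, 1805314, 987906, 3322370,
      4845570, 8611330, 742412, 615188, 1675812, 63108, 702724, 1975812, 2328324, 5817604,
      9589508, 145176, 1230376, 762504, 126216, 1405448, 2675464, 5476616, 10028808, 1110320,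
      628112, 252432, 1525008, 2810896, 5350928, 10170384, 1664160, 1256224, 504864, 3806496,
      4282144, 9158944, 675712, 2019456, 2322816, 5780352, 9610624, 1351424, 2702848, 5405696,
      10021376, 4038912, 4645632, 9204992, 8077824, 11654144, 13276672]
    (by decide +kernel) (by decide +kernel) (by decide +kernel) (by decide +kernel)
    (by decide +kernel) w habs

theorem r412_abs : ∀ k : GolayPt, |r412.1 k| =
    if k = some 6 then 4 else if (14944447).testBit (idx k) = true then 2 else 0 := by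
  decide +kernel

theorem nf_412 (x : leechLattice) (hp : par x.1 = 0) (h4 : cnt x.1 4 = 1) (h2 : cnt x.1 2 = 12)
    (h0 : cnt x.1 0 = 11) (hc : (cl x.1).card = 12) : RelN x r412 := by
  have hst := cl_of_024 x hp (by omega)
  have hO : cl x.1 ∈ dodecads := ⟨cl_mem_Code x, hc⟩
  obtain ⟨p, hp4, huniq⟩ := cnt_one x.1 4 h4
  have hpO : p ∉ cl x.1 := by
    intro h
    have := (hst p).1.mp h
    omega
  obtain ⟨g, hg, hgO⟩ := Cfsg.Agent.Lib.Helper9.M24T10.dodecad_transitive _ _ hO Dstd_mem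
  have hgp : g p ∉ M 14944447 := by
    rw [← hgO]
    intro h
    exact hpO ((Cfsg.Agent.Lib.Helper9.M24X1.smul_mem_iff g p _).mp h)
  have h6 : some 6 ∉ M 14944447 := by
    rw [mem_M]
    decide +kernel
  have hn : none ∈ M 14944447 := by
    rw [mem_M]
    decide +kernel
  obtain ⟨s, hs, hsp⟩ := Cfsg.Agent.Lib.Helper9.M24M1.trans_compl (M 14944447) Dstd_mem none hn
    (g p) (some 6) hgp h6
  obtain ⟨hsM, hsD, -⟩ := (Cfsg.Agent.Lib.Helper9.M24M1.mem_M11 _ _ s).mp hs
  have htM : s * g ∈ M24 := M24.mul_mem hsM hg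
  have htO : (s * g) • cl x.1 = M 14944447 := by rw [mul_smul, hgO, hsD]
  have htp : (s * g) p = some 6 := hsp
  refine relN_of_perm r412 x (s * g)⁻¹ (M24.inv_mem htM) fix412 fun k => ?_
  rw [r412_abs k]
  have hk : (14944447).testBit (idx k) = true ↔ (s * g)⁻¹ k ∈ cl x.1 := by
    rw [← mem_M, ← htO]
    have := Cfsg.Agent.Lib.Helper9.M24X1.smul_mem_iff (s * g) ((s * g)⁻¹ k) (cl x.1)
    rwa [Cfsg.Agent.Lib.Helper9.Chain1.apply_inv_self'] at this
  by_cases hk4 : k = some 6
  · rw [if_pos hk4, hk4, ← htp, Cfsg.Agent.Lib.Helper9.Chain1.inv_apply_self']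
    exact hp4
  rw [if_neg hk4]
  have hne : (s * g)⁻¹ k ≠ p := by
    intro h
    apply hk4
    rw [← htp, ← h, Cfsg.Agent.Lib.Helper9.Chain1.apply_inv_self']
  by_cases hm : (s * g)⁻¹ k ∈ cl x.1
  · rw [if_pos (hk.mpr hm)]
    exact (hst _).1.mp hm
  · rw [if_neg (fun h => hm (hk.mp h))]
    rcases (hst _).2 hm with h | h
    · exact h
    · exact absurd (huniq _ h) hne

end Cfsg.Agent.Lib.Helper9.LeechY2
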