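import Cfsg.Agent.Lib.Helper9.LeechX12

set_option autoImplicit false

/-! The images of the 24 standard vectors under an automorphism of the rank-24 lattice: the
matrix of inner products is orthogonal, and the images cannot all have shape `(2¹⁶, 0⁸)`. -/

namespace Cfsg.Agent.Lib.Helper9.LeechY3

open Cfsg Finset Cfsg.Agent.Lib.Helper4.Leech Cfsg.Agent.Lib.Helper9.Golay1
  Cfsg.Agent.Lib.Helper9.LeechM1 Cfsg.Agent.Lib.Helper9.LeechM4 Cfsg.Agent.Lib.Helper9.LeechX4
  Cfsg.Agent.Lib.Helper9.LeechX5 Cfsg.Agent.Lib.Helper9.LeechX6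
  Cfsg.Agent.Lib.Helper9.LeechX7
  Cfsg.Agent.Lib.Helper9.LeechX11 Cfsg.Agent.Lib.Helper9.LeechX12
  Cfsg.Agent.Lib.Helper9.LeechC7 Cfsg.Agent.Lib.Helper9.LeechC8
open Cfsg.Agent.Lib.Helper9.LeechC2 (fwd bwd par cl mem_lev')

theorem dot_single' (y : GolayPt → ℤ) (j : GolayPt) : dotInt (Pi.single j 8) y = 8 * y j := by
  unfold dotInt
  rw [Finset.sum_eq_single j]
  · rw [Pi.single_eq_same]
  · intro i _ hi
    rw [Pi.single_eq_of_ne hi, zero_mul]
  · intro h
    exact absurd (mem_univ j) h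

/-- the matrix of an automorphism is the transpose of the matrix of its inverse -/
theorem col_row (k : Equiv.Perm leechLattice) (hk : k ∈ Co0) (i j : GolayPt) :
    (k (E j)).1 i = (k⁻¹ (E i)).1 j := by
  have h := dot_pres k hk (E j) (k⁻¹ (E i))
  rw [Cfsg.Agent.Lib.Helper9.Chain1.apply_inv_self', E_val, E_val, dot_single, dot_single'] at h
  omega

theorem parseval (k : Equiv.Perm leechLattice) (hk : k ∈ Co0) (i : GolayPt) :
    ∑ j, ((k (E j)).1 i) ^ 2 = 64 := by
  have h1 : sqNorm (k⁻¹ (E i)).1 = 64 := by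
    rw [(Co0.inv_mem hk).2 (E i)]
    exact Cfsg.Agent.Lib.Helper9.LeechM2.sqNorm_E i
  unfold sqNorm at h1
  rw [← h1]
  apply Finset.sum_congr rfl
  intro j _
  rw [col_row k hk i j]

/-- congruent vectors with entries `0, ±2` and eight zeros each have the same zeros -/
theorem same_zeros (x y : leechLattice) (hx : ∀ i, |x.1 i| = 0 ∨ |x.1 i| = 2)
    (hy : ∀ i, |y.1 i| = 0 ∨ |y.1 i| = 2) (hx0 : cnt x.1 0 = 8) (hy0 : cnt y.1 0 = 8)
    (hc : mk x.1 = mk y.1) (i : GolayPt) (hi : x.1 i = 0) : y.1 i = 0 := by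
  rw [mk_eq_iff] at hc
  obtain ⟨z, hz, hxy⟩ := hc
  have hzi : ∀ j, x.1 j - y.1 j = 2 * z j := by
    intro j
    have := congrFun hxy j
    simpa [two_nsmul, two_mul] using this
  have hpar : par z = 0 ∨ par z = 1 := by
    unfold par
    omega
  rcases hpar with hpz | hpz
  · have h0 := even_of_par z hz hpz i
    have h1 := hzi i
    rw [hi] at h1
    rcases hy i with h2 | h2
    · exact abs_eq_zero.mp h2
    · exfalso
      rcases abs_cases (y.1 i) with ⟨a1, a2⟩ | ⟨a1, a2⟩ <;> omega
  · exfalso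
    have hex : ∀ j, |y.1 j| = 0 ↔ ¬ |x.1 j| = 0 := by
      intro j
      have h1 := hzi j
      have h2 := odd_of_par z hz hpz j
      rcases hx j with a | a <;> rcases hy j with b | b <;>
        rcases abs_cases (x.1 j) with ⟨a1, a2⟩ | ⟨a1, a2⟩ <;>
        rcases abs_cases (y.1 j) with ⟨b1, b2⟩ | ⟨b1, b2⟩ <;>
        constructor <;> intro _ <;> omega
    have hcard : cnt y.1 0 = 24 - cnt x.1 0 := by
      unfold cnt
      have e : (univ.filter fun j => |y.1 j| = 0) = (univ.filter fun j => |x.1 j| = 0)ᶜ := by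
        ext j
        simp only [mem_filter, mem_univ, true_and, mem_compl]
        exact hex j
      rw [e, card_compl, card_pts]
    omega

/-- not all images of the standard vectors have shape `(2¹⁶, 0⁸)` -/
theorem exists_other_col (k : Equiv.Perm leechLattice) (hk : k ∈ Co0)
    (h2 : cnt (k (E none)).1 2 = 16) (h0 : cnt (k (E none)).1 0 = 8) :
    ∃ j, ¬ (cnt (k (E j)).1 2 = 16 ∧ cnt (k (E j)).1 0 = 8) := by
  by_contra hcon
  push_neg at hcon
  have hpos : 0 < cnt (k (E none)).1 0 := by omega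
  obtain ⟨i0, hi0⟩ : ∃ i, (k (E none)).1 i = 0 := by
    unfold cnt at hpos
    obtain ⟨i, hi⟩ := card_pos.mp hpos
    exact ⟨i, abs_eq_zero.mp (mem_filter.mp hi).2⟩
  have hent : ∀ j i, |(k (E j)).1 i| = 0 ∨ |(k (E j)).1 i| = 2 := by
    intro j i
    have hcov := cover (k (E j)).1 {0, 2} (by
      rw [Finset.sum_pair (by norm_num)]
      have := hcon j
      omega)
    have := hcov i
    simpa only [mem_insert, mem_singleton] using this
  have hall : ∀ j, (k (E j)).1 i0 = 0 := by
    intro j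
    have hc : mk (k (E none)).1 = mk (k (E j)).1 :=
      cong_pres k hk (E none) (E j) (E_cong j).symm
    exact same_zeros (k (E none)) (k (E j)) (hent none) (hent j) h0 (hcon j).2 hc i0 hi0
  have hp := parseval k hk i0
  simp only [hall] at hp
  norm_num at hp

/-- the images of the standard vectors are in the standard cross together or not at all -/
theorem col_not_std (k : Equiv.Perm leechLattice) (hk : k ∈ Co0)
    (hns : (k (E none)).1 ∉ stdCross) (j : GolayPt) : (k (E j)).1 ∉ stdCross := by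
  intro hj
  apply hns
  have hc : mk (k (E none)).1 = mk (k (E j)).1 :=
    cong_pres k hk (E none) (E j) (E_cong j).symm
  apply mem_std_of_cong _ (k (E none)).2 _ (hc.trans (std_cong _ hj))
  rw [hk.2]
  exact Cfsg.Agent.Lib.Helper9.LeechM2.sqNorm_E none

end Cfsg.Agent.Lib.Helper9.LeechY3
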