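import Cfsg.Agent.Lib.Helper9.LeechX11

set_option autoImplicit false

/-! Explicit words in the monomial group and the non-monomial automorphism, with their values on
some vectors (generated data). -/

namespace Cfsg.Agent.Lib.Helper9.LeechY4

open Cfsg Finset Cfsg.Agent.Lib.Helper4.Leech Cfsg.Agent.Lib.Helper9.Golay1
  Cfsg.Agent.Lib.Helper9.LeechM1 Cfsg.Agent.Lib.Helper9.LeechM4 Cfsg.Agent.Lib.Helper9.LeechX4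
  Cfsg.Agent.Lib.Helper9.LeechX7 Cfsg.Agent.Lib.Helper9.LeechX10
  Cfsg.Agent.Lib.Helper9.GolayQR1 Cfsg.Agent.Lib.Helper9.GolayQR3
  Cfsg.Agent.Lib.Helper9.M24U1 Cfsg.Agent.Lib.Helper9.M24T1
open Cfsg.Agent.Lib.Helper9.LeechX1 (xiFun)

theorem xi_eval (L L' : List ℤ) (h : ∀ i, xiFun (vecL L) i = vecL L' i) (v : leechLattice)
    (hv : v.1 = vecL L) : (xi v).1 = vecL L' := by
  rw [xi_val, hv]
  exact funext h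

theorem mono_eval (σ : Equiv.Perm GolayPt) (hσ : σ ∈ M24) (l' : List ℕ)
    (hl' : ∀ i, σ.symm i = tfun l' i) (m : ℕ) (hm : M m ∈ Code) (L L' : List ℤ)
    (h : ∀ i : GolayPt, (if m.testBit (idx i) = true then -(vecL L (tfun l' i))
      else vecL L (tfun l' i)) = vecL L' i)
    (v : leechLattice) (hv : v.1 = vecL L) : (mono σ hσ (M m) hm v).1 = vecL L' := by
  rw [mono_val, hv]
  funext i
  rw [← h i]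
  unfold signedPerm
  simp only [mem_M, hl']

def Lxr8 : List ℤ := [4, 4, 4, 0, 0, 0, 0, 0, 0, 0, 0, 0, 0, 0, 0, 0, 0, 0, 0, 0, 0, 0, 0, -4]

theorem xi_r8 : (xi r8).1 = vecL Lxr8 := xi_eval L8v Lxr8 (by decide +kernel) r8 rfl

/-! ### shape 62 -/

def sg62_1 : Equiv.Perm GolayPt :=
  tperm [19, 6, 21, 22, 14, 20, 7, 18, 5, 13, 23, 4, 15, 10, 3, 9, 1, 0, 2, 12, 17, 11, 16, 8]
    [17, 16, 18, 14, 11, 8, 1, 6, 23, 15, 13, 21, 19, 9, 4, 12, 22, 20, 7, 0, 5, 2, 3, 10]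
    (by decide +kernel) (by decide +kernel)

theorem sg62_1_mem : sg62_1 ∈ M24 :=
  tperm_mem _ _ _ _ (by decide +kernel) (by decide +kernel)

theorem cw62_1 : M 504864 ∈ Code := mask_mem_Code 504864 (by decide +kernel)

def nn62_1 : Equiv.Perm leechLattice := mono sg62_1 sg62_1_mem (M 504864) cw62_1

def wd62 : Equiv.Perm leechLattice := xi * (nn62_1 * (xi))

theorem wd62_mem : wd62 ∈ Co0 :=
  Co0.mul_mem xi_mem (Co0.mul_mem (mono_mem _ _ _ _) (xi_mem))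

theorem wd62_r8 : (wd62 r8).1 = vecL [0, 0, 0, 0, 0, 0, -2, -6, -2, 0, 0, 2, 2, 0, 0, 0, 0, 0, 2, -2, 0, -2, 0, 0] := by
  have e1 := xi_eval L8v [4, 4, 4, 0, 0, 0, 0, 0, 0, 0, 0, 0, 0, 0, 0, 0, 0, 0, 0, 0, 0, 0, 0, -4]
    (by decide +kernel) r8 rfl
  have e2 := mono_eval sg62_1 sg62_1_mem [17, 16, 18, 14, 11, 8, 1, 6, 23, 15, 13, 21, 19, 9, 4, 12, 22, 20, 7, 0, 5, 2, 3, 10]
    (fun _ => rfl) 504864 cw62_1 [4, 4, 4, 0, 0, 0, 0, 0, 0, 0, 0, 0, 0, 0, 0, 0, 0, 0, 0, 0, 0, 0, 0, -4]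
    [0, 0, 0, 0, 0, 0, 4, 0, -4, 0, 0, 0, 0, 0, 0, 0, 0, 0, 0, 4, 0, 4, 0, 0]
    (by decide +kernel) _ e1
  have e3 := xi_eval [0, 0, 0, 0, 0, 0, 4, 0, -4, 0, 0, 0, 0, 0, 0, 0, 0, 0, 0, 4, 0, 4, 0, 0] [0, 0, 0, 0, 0, 0, -2, -6, -2, 0, 0, 2, 2, 0, 0, 0, 0, 0, 2, -2, 0, -2, 0, 0]
    (by decide +kernel) _ e2
  exact e3

def Lw62 : List ℤ := [-2, -2, -6, 0, 0, 0, -2, -2, 0, 0, 0, 0, 0, 0, 0, 0, 0, 0, 0, 2, 0, -2, 0, -2]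

theorem Lw62_mem : vecL Lw62 ∈ leechLattice :=
  mem_of_data _ 0 11010247 (Or.inl rfl) (by decide +kernel) (by decide +kernel)
    (by decide +kernel)

def wu62 : leechLattice := ⟨vecL Lw62, Lw62_mem⟩

theorem wd62_u : (wd62 wu62).1 = vecL [0, 0, 0, 0, 0, 0, 0, 4, 0, 0, 0, 4, 0, 0, 0, 0, 0, 0, 4, 0, 0, 4, 0, 0] := by
  have e1 := xi_eval Lw62 [-4, -4, 0, 0, 0, 0, 0, 0, 0, 0, 0, 0, 0, 0, 0, 0, 0, 0, 0, 4, 0, 0, 0, -4]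
    (by decide +kernel) wu62 rfl
  have e2 := mono_eval sg62_1 sg62_1_mem [17, 16, 18, 14, 11, 8, 1, 6, 23, 15, 13, 21, 19, 9, 4, 12, 22, 20, 7, 0, 5, 2, 3, 10]
    (fun _ => rfl) 504864 cw62_1 [-4, -4, 0, 0, 0, 0, 0, 0, 0, 0, 0, 0, 0, 0, 0, 0, 0, 0, 0, 4, 0, 0, 0, -4]
    [0, 0, 0, 0, 0, 0, -4, 0, -4, 0, 0, 0, -4, 0, 0, 0, 0, 0, 0, -4, 0, 0, 0, 0]
    (by decide +kernel) _ e1
  have e3 := xi_eval [0, 0, 0, 0, 0, 0, -4, 0, -4, 0, 0, 0, -4, 0, 0, 0, 0, 0, 0, -4, 0, 0, 0, 0] [0, 0, 0, 0, 0, 0, 0, 4, 0, 0, 0, 4, 0, 0, 0, 0, 0, 0, 4, 0, 0, 4, 0, 0]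
    (by decide +kernel) _ e2
  exact e3

/-! ### shape 428 -/

def sg428_1 : Equiv.Perm GolayPt :=
  tperm [16, 1, 6, 0, 8, 20, 23, 12, 2, 11, 22, 14, 7, 4, 9, 10, 17, 19, 3, 18, 5, 21, 15, 13]
    [3, 1, 8, 18, 13, 20, 2, 12, 4, 14, 15, 9, 7, 23, 11, 22, 0, 16, 19, 17, 5, 21, 10, 6]
    (by decide +kernel) (by decide +kernel)

theorem sg428_1_mem : sg428_1 ∈ M24 :=
  tperm_mem _ _ _ _ (by decide +kernel) (by decide +kernel)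

theorem cw428_1 : M 15374696 ∈ Code := mask_mem_Code 15374696 (by decide +kernel)

def nn428_1 : Equiv.Perm leechLattice := mono sg428_1 sg428_1_mem (M 15374696) cw428_1

def wd428 : Equiv.Perm leechLattice := xi * (nn428_1 * (xi))

theorem wd428_mem : wd428 ∈ Co0 :=
  Co0.mul_mem xi_mem (Co0.mul_mem (mono_mem _ _ _ _) (xi_mem))

theorem wd428_r8 : (wd428 r8).1 = vecL [2, -2, 2, 0, 0, 0, -2, 2, 0, 0, 0, 0, 0, -4, 0, 0, 4, 0, 0, 2, 0, 2, 0, 2] := by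
  have e1 := xi_eval L8v [4, 4, 4, 0, 0, 0, 0, 0, 0, 0, 0, 0, 0, 0, 0, 0, 0, 0, 0, 0, 0, 0, 0, -4]
    (by decide +kernel) r8 rfl
  have e2 := mono_eval sg428_1 sg428_1_mem [3, 1, 8, 18, 13, 20, 2, 12, 4, 14, 15, 9, 7, 23, 11, 22, 0, 16, 19, 17, 5, 21, 10, 6]
    (fun _ => rfl) 15374696 cw428_1 [4, 4, 4, 0, 0, 0, 0, 0, 0, 0, 0, 0, 0, 0, 0, 0, 0, 0, 0, 0, 0, 0, 0, -4]
    [0, 4, 0, 0, 0, 0, -4, 0, 0, 0, 0, 0, 0, -4, 0, 0, 4, 0, 0, 0, 0, 0, 0, 0]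
    (by decide +kernel) _ e1
  have e3 := xi_eval [0, 4, 0, 0, 0, 0, -4, 0, 0, 0, 0, 0, 0, -4, 0, 0, 4, 0, 0, 0, 0, 0, 0, 0] [2, -2, 2, 0, 0, 0, -2, 2, 0, 0, 0, 0, 0, -4, 0, 0, 4, 0, 0, 2, 0, 2, 0, 2]
    (by decide +kernel) _ e2
  exact e3

def Lw428 : List ℤ := [0, -2, -2, 0, 0, 0, 0, 0, -2, 4, -2, 0, -2, 2, 0, 0, 2, 0, 0, 0, -2, 0, 4, 0]

theorem Lw428_mem : vecL Lw428 ∈ leechLattice :=
  mem_of_data _ 0 1127686 (Or.inl rfl) (by decide +kernel) (by decide +kernel)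
    (by decide +kernel)

def wu428 : leechLattice := ⟨vecL Lw428, Lw428_mem⟩

theorem wd428_u : (wd428 wu428).1 = vecL [0, 0, 0, -4, 0, 0, 0, 0, 4, 0, 0, -4, 0, 0, 0, 0, 0, 0, 0, 0, 0, 0, 4, 0] := by
  have e1 := xi_eval Lw428 [-2, 0, 0, 0, -4, 0, 0, 0, 0, 4, -2, 2, 0, -2, 0, 0, -2, 0, 2, 0, -2, 0, 0, -2]
    (by decide +kernel) wu428 rfl
  have e2 := mono_eval sg428_1 sg428_1_mem [3, 1, 8, 18, 13, 20, 2, 12, 4, 14, 15, 9, 7, 23, 11, 22, 0, 16, 19, 17, 5, 21, 10, 6]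
    (fun _ => rfl) 15374696 cw428_1 [-2, 0, 0, 0, -4, 0, 0, 0, 0, 4, -2, 2, 0, -2, 0, 0, -2, 0, 2, 0, -2, 0, 0, -2]
    [0, 0, 0, -2, -2, 2, 0, 0, 4, 0, 0, -4, 0, -2, 2, 0, -2, 2, 0, 0, 0, 0, 2, 0]
    (by decide +kernel) _ e1
  have e3 := xi_eval [0, 0, 0, -2, -2, 2, 0, 0, 4, 0, 0, -4, 0, -2, 2, 0, -2, 2, 0, 0, 0, 0, 2, 0] [0, 0, 0, -4, 0, 0, 0, 0, 4, 0, 0, -4, 0, 0, 0, 0, 0, 0, 0, 0, 0, 0, 4, 0]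
    (by decide +kernel) _ e2
  exact e3

/-! ### shape 532 -/

def sg532_1 : Equiv.Perm GolayPt :=
  tperm [20, 15, 16, 13, 5, 21, 2, 23, 9, 17, 3, 14, 1, 6, 19, 22, 10, 18, 7, 4, 12, 11, 0, 8]
    [22, 12, 6, 10, 19, 4, 13, 18, 23, 8, 16, 21, 20, 3, 11, 1, 2, 9, 17, 14, 0, 5, 15, 7]
    (by decide +kernel) (by decide +kernel)

theorem sg532_1_mem : sg532_1 ∈ M24 :=
  tperm_mem _ _ _ _ (by decide +kernel) (by decide +kernel)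

theorem cw532_1 : M 9975226 ∈ Code := mask_mem_Code 9975226 (by decide +kernel)

def nn532_1 : Equiv.Perm leechLattice := mono sg532_1 sg532_1_mem (M 9975226) cw532_1

def sg532_2 : Equiv.Perm GolayPt :=
  tperm [9, 22, 3, 10, 19, 5, 0, 13, 16, 8, 6, 15, 14, 21, 4, 18, 11, 1, 2, 17, 12, 20, 7, 23]
    [6, 17, 18, 2, 14, 5, 10, 22, 9, 0, 3, 16, 20, 7, 12, 11, 8, 19, 15, 4, 21, 13, 1, 23]
    (by decide +kernel) (by decide +kernel)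

theorem sg532_2_mem : sg532_2 ∈ M24 :=
  tperm_mem _ _ _ _ (by decide +kernel) (by decide +kernel)

theorem cw532_2 : M 6946666 ∈ Code := mask_mem_Code 6946666 (by decide +kernel)

def nn532_2 : Equiv.Perm leechLattice := mono sg532_2 sg532_2_mem (M 6946666) cw532_2

def wd532 : Equiv.Perm leechLattice := xi * (nn532_2 * (xi * (nn532_1 * (xi))))

theorem wd532_mem : wd532 ∈ Co0 :=
  Co0.mul_mem xi_mem (Co0.mul_mem (mono_mem _ _ _ _) (Co0.mul_mem xi_mem (Co0.mul_mem (mono_mem _ _ _ _) (xi_mem))))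

theorem wd532_r8 : (wd532 r8).1 = vecL [-1, -1, 1, -1, 1, -1, -1, -3, -3, -1, -1, -5, 1, 1, 1, 1, -1, -1, 1, 1, -1, 1, 1, -1] := by
  have e1 := xi_eval L8v [4, 4, 4, 0, 0, 0, 0, 0, 0, 0, 0, 0, 0, 0, 0, 0, 0, 0, 0, 0, 0, 0, 0, -4]
    (by decide +kernel) r8 rfl
  have e2 := mono_eval sg532_1 sg532_1_mem [22, 12, 6, 10, 19, 4, 13, 18, 23, 8, 16, 21, 20, 3, 11, 1, 2, 9, 17, 14, 0, 5, 15, 7]
    (fun _ => rfl) 9975226 cw532_1 [4, 4, 4, 0, 0, 0, 0, 0, 0, 0, 0, 0, 0, 0, 0, 0, 0, 0, 0, 0, 0, 0, 0, -4]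
    [0, 0, 0, 0, 0, 0, 0, 0, 4, 0, 0, 0, 0, 0, 0, 4, 4, 0, 0, 0, -4, 0, 0, 0]
    (by decide +kernel) _ e1
  have e3 := xi_eval [0, 0, 0, 0, 0, 0, 0, 0, 4, 0, 0, 0, 0, 0, 0, 4, 4, 0, 0, 0, -4, 0, 0, 0] [0, 0, 0, 0, -2, 0, 0, 0, 2, 0, 0, -2, -2, -2, 0, 4, 2, 0, -2, 0, -4, 0, -2, 0]
    (by decide +kernel) _ e2
  have e4 := mono_eval sg532_2 sg532_2_mem [6, 17, 18, 2, 14, 5, 10, 22, 9, 0, 3, 16, 20, 7, 12, 11, 8, 19, 15, 4, 21, 13, 1, 23]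
    (fun _ => rfl) 6946666 cw532_2 [0, 0, 0, 0, -2, 0, 0, 0, 2, 0, 0, -2, -2, -2, 0, 4, 2, 0, -2, 0, -4, 0, -2, 0]
    [0, 0, -2, 0, 0, 0, 0, -2, 0, 0, 0, -2, 4, 0, 2, 2, -2, 0, 4, 2, 0, 2, 0, 0]
    (by decide +kernel) _ e3
  have e5 := xi_eval [0, 0, -2, 0, 0, 0, 0, -2, 0, 0, 0, -2, 4, 0, 2, 2, -2, 0, 4, 2, 0, 2, 0, 0] [-1, -1, 1, -1, 1, -1, -1, -3, -3, -1, -1, -5, 1, 1, 1, 1, -1, -1, 1, 1, -1, 1, 1, -1]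
    (by decide +kernel) _ e4
  exact e5

def Lw532 : List ℤ := [3, -1, -1, -1, 5, -1, -1, 1, 1, -1, 1, 1, 1, 1, -1, -1, -1, 1, -1, 1, -1, 1, 1, -3]

theorem Lw532_mem : vecL Lw532 ∈ leechLattice :=
  mem_of_data _ 1 15351184 (Or.inr rfl) (by decide +kernel) (by decide +kernel)
    (by decide +kernel)

def wu532 : leechLattice := ⟨vecL Lw532, Lw532_mem⟩

theorem wd532_u : (wd532 wu532).1 = vecL [0, 0, -4, 0, 0, 0, 0, 0, 4, 0, 0, 0, 0, -4, 0, 0, 0, 0, -4, 0, 0, 0, 0, 0] := by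
  have e1 := xi_eval Lw532 [-4, 0, 0, 0, 2, 0, -2, 0, 0, 0, 2, 0, 0, -2, 0, 0, -4, 2, -2, 0, 0, 0, -2, 2]
    (by decide +kernel) wu532 rfl
  have e2 := mono_eval sg532_1 sg532_1_mem [22, 12, 6, 10, 19, 4, 13, 18, 23, 8, 16, 21, 20, 3, 11, 1, 2, 9, 17, 14, 0, 5, 15, 7]
    (fun _ => rfl) 9975226 cw532_1 [-4, 0, 0, 0, 2, 0, -2, 0, 0, 0, 2, 0, 0, -2, 0, 0, -4, 2, -2, 0, 0, 0, -2, 2]
    [-2, 0, -2, -2, 0, -2, -2, 2, -2, 0, 4, 0, 0, 0, 0, 0, 0, 0, 2, 0, 4, 0, 0, 0]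
    (by decide +kernel) _ e1
  have e3 := xi_eval [-2, 0, -2, -2, 0, -2, -2, 2, -2, 0, 4, 0, 0, 0, 0, 0, 0, 0, 2, 0, 4, 0, 0, 0] [0, -2, 0, 0, 0, 0, -2, 2, -2, -4, 0, 0, 0, 0, 2, -4, 0, 2, 2, 0, 0, 0, 0, -2]
    (by decide +kernel) _ e2
  have e4 := mono_eval sg532_2 sg532_2_mem [6, 17, 18, 2, 14, 5, 10, 22, 9, 0, 3, 16, 20, 7, 12, 11, 8, 19, 15, 4, 21, 13, 1, 23]
    (fun _ => rfl) 6946666 cw532_2 [0, -2, 0, 0, 0, 0, -2, 2, -2, -4, 0, 0, 0, 0, 2, -4, 0, 2, 2, 0, 0, 0, 0, -2]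
    [-2, -2, 2, 0, 2, 0, 0, 0, 4, 0, 0, 0, 0, -2, 0, 0, 2, 0, -4, 0, 0, 0, 2, -2]
    (by decide +kernel) _ e3
  have e5 := xi_eval [-2, -2, 2, 0, 2, 0, 0, 0, 4, 0, 0, 0, 0, -2, 0, 0, 2, 0, -4, 0, 0, 0, 2, -2] [0, 0, -4, 0, 0, 0, 0, 0, 4, 0, 0, 0, 0, -4, 0, 0, 0, 0, -4, 0, 0, 0, 0, 0]
    (by decide +kernel) _ e4
  exact e5

/-! ### shape 412 -/

def sg412_1 : Equiv.Perm GolayPt :=
  tperm [20, 21, 19, 4, 23, 15, 6, 14, 16, 17, 8, 1, 7, 9, 11, 10, 0, 22, 3, 2, 5, 13, 18, 12]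
    [16, 11, 19, 18, 3, 20, 6, 12, 10, 13, 15, 14, 23, 21, 7, 5, 8, 9, 22, 2, 0, 1, 17, 4]
    (by decide +kernel) (by decide +kernel)

theorem sg412_1_mem : sg412_1 ∈ M24 :=
  tperm_mem _ _ _ _ (by decide +kernel) (by decide +kernel)

theorem cw412_1 : M 7193382 ∈ Code := mask_mem_Code 7193382 (by decide +kernel)

def nn412_1 : Equiv.Perm leechLattice := mono sg412_1 sg412_1_mem (M 7193382) cw412_1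

def sg412_2 : Equiv.Perm GolayPt :=
  tperm [4, 14, 2, 18, 8, 1, 15, 23, 3, 20, 22, 9, 5, 10, 17, 16, 11, 13, 6, 0, 7, 19, 21, 12]
    [19, 5, 2, 8, 0, 12, 18, 20, 4, 11, 13, 16, 23, 17, 1, 6, 15, 14, 3, 21, 9, 22, 10, 7]
    (by decide +kernel) (by decide +kernel)

theorem sg412_2_mem : sg412_2 ∈ M24 :=
  tperm_mem _ _ _ _ (by decide +kernel) (by decide +kernel)

theorem cw412_2 : M 2052693 ∈ Code := mask_mem_Code 2052693 (by decide +kernel)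

def nn412_2 : Equiv.Perm leechLattice := mono sg412_2 sg412_2_mem (M 2052693) cw412_2

def wd412 : Equiv.Perm leechLattice := xi * (nn412_2 * (xi * (nn412_1 * (xi))))

theorem wd412_mem : wd412 ∈ Co0 :=
  Co0.mul_mem xi_mem (Co0.mul_mem (mono_mem _ _ _ _) (Co0.mul_mem xi_mem (Co0.mul_mem (mono_mem _ _ _ _) (xi_mem))))

theorem wd412_r8 : (wd412 r8).1 = vecL [2, 2, 2, 2, 0, -2, -2, 2, 0, -4, -2, 0, 0, 0, 0, 2, 2, 0, 0, 0, 0, 0, -2, -2] := by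
  have e1 := xi_eval L8v [4, 4, 4, 0, 0, 0, 0, 0, 0, 0, 0, 0, 0, 0, 0, 0, 0, 0, 0, 0, 0, 0, 0, -4]
    (by decide +kernel) r8 rfl
  have e2 := mono_eval sg412_1 sg412_1_mem [16, 11, 19, 18, 3, 20, 6, 12, 10, 13, 15, 14, 23, 21, 7, 5, 8, 9, 22, 2, 0, 1, 17, 4]
    (fun _ => rfl) 7193382 cw412_1 [4, 4, 4, 0, 0, 0, 0, 0, 0, 0, 0, 0, 0, 0, 0, 0, 0, 0, 0, 0, 0, 0, 0, -4]
    [0, 0, 0, 0, 0, 0, 0, 0, 0, 0, 0, 0, -4, 0, 0, 0, 0, 0, 0, -4, 4, -4, 0, 0]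
    (by decide +kernel) _ e1
  have e3 := xi_eval [0, 0, 0, 0, 0, 0, 0, 0, 0, 0, 0, 0, -4, 0, 0, 0, 0, 0, 0, -4, 4, -4, 0, 0] [0, 0, 0, 0, 0, 0, 4, 4, 2, -2, -2, 2, -2, 0, 0, -2, 0, 0, 2, 0, 2, 0, 0, 0]
    (by decide +kernel) _ e2
  have e4 := mono_eval sg412_2 sg412_2_mem [19, 5, 2, 8, 0, 12, 18, 20, 4, 11, 13, 16, 23, 17, 1, 6, 15, 14, 3, 21, 9, 22, 10, 7]
    (fun _ => rfl) 2052693 cw412_2 [0, 0, 0, 0, 0, 0, 4, 4, 2, -2, -2, 2, -2, 0, 0, -2, 0, 0, 2, 0, 2, 0, 0, 0]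
    [0, 0, 0, 2, 0, -2, -2, 2, 0, -2, 0, 0, 0, 0, 0, 4, 2, 0, 0, 0, 2, 0, -2, 4]
    (by decide +kernel) _ e3
  have e5 := xi_eval [0, 0, 0, 2, 0, -2, -2, 2, 0, -2, 0, 0, 0, 0, 0, 4, 2, 0, 0, 0, 2, 0, -2, 4] [2, 2, 2, 2, 0, -2, -2, 2, 0, -4, -2, 0, 0, 0, 0, 2, 2, 0, 0, 0, 0, 0, -2, -2]
    (by decide +kernel) _ e4
  exact e5

def Lw412 : List ℤ := [-2, 0, 2, 0, 0, -2, 0, -2, 0, 0, 0, 2, -2, 2, 2, -2, 4, 0, 0, 2, 2, 0, 2, 0]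

theorem Lw412_mem : vecL Lw412 ∈ leechLattice :=
  mem_of_data _ 0 5830821 (Or.inl rfl) (by decide +kernel) (by decide +kernel)
    (by decide +kernel)

def wu412 : leechLattice := ⟨vecL Lw412, Lw412_mem⟩

theorem wd412_u : (wd412 wu412).1 = vecL [0, 0, -4, 0, 4, 0, 0, 0, 0, 0, 0, 0, 0, 0, 4, 0, 0, 0, 0, 0, 0, 0, -4, 0] := by
  have e1 := xi_eval Lw412 [2, 0, -2, 0, -4, -2, 0, -2, 0, 0, 0, 2, -2, -2, 2, -2, 0, 0, 0, 2, 2, 0, -2, 0]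
    (by decide +kernel) wu412 rfl
  have e2 := mono_eval sg412_1 sg412_1_mem [16, 11, 19, 18, 3, 20, 6, 12, 10, 13, 15, 14, 23, 21, 7, 5, 8, 9, 22, 2, 0, 1, 17, 4]
    (fun _ => rfl) 7193382 cw412_1 [2, 0, -2, 0, -4, -2, 0, -2, 0, 0, 0, 2, -2, -2, 2, -2, 0, 0, 0, 2, 2, 0, -2, 0]
    [0, -2, -2, 0, 0, -2, 0, -2, 0, 2, -2, 2, 0, 0, 2, 2, 0, 0, 2, 2, 2, 0, 0, -4]
    (by decide +kernel) _ e1
  have e3 := xi_eval [0, -2, -2, 0, 0, -2, 0, -2, 0, 2, -2, 2, 0, 0, 2, 2, 0, 0, 2, 2, 2, 0, 0, -4] [-4, -2, -2, 0, 0, -2, 0, -2, -2, 0, -4, 0, -2, 0, 2, 0, 0, 0, 0, 2, 0, 0, 0, 0]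
    (by decide +kernel) _ e2
  have e4 := mono_eval sg412_2 sg412_2_mem [19, 5, 2, 8, 0, 12, 18, 20, 4, 11, 13, 16, 23, 17, 1, 6, 15, 14, 3, 21, 9, 22, 10, 7]
    (fun _ => rfl) 2052693 cw412_2 [-4, -2, -2, 0, 0, -2, 0, -2, -2, 0, -4, 0, -2, 0, 2, 0, 0, 0, 0, 2, 0, 0, 0, 0]
    [-2, -2, 2, -2, 4, -2, 0, 0, 0, 0, 0, 0, 0, 0, 2, 0, 0, -2, 0, 0, 0, 0, -4, -2]
    (by decide +kernel) _ e3
  have e5 := xi_eval [-2, -2, 2, -2, 4, -2, 0, 0, 0, 0, 0, 0, 0, 0, 2, 0, 0, -2, 0, 0, 0, 0, -4, -2] [0, 0, -4, 0, 4, 0, 0, 0, 0, 0, 0, 0, 0, 0, 4, 0, 0, 0, 0, 0, 0, 0, -4, 0]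
    (by decide +kernel) _ e4
  exact e5

/-! ### shape 35 -/

def sg35_1 : Equiv.Perm GolayPt :=
  tperm [18, 15, 7, 5, 23, 2, 16, 17, 14, 19, 22, 6, 3, 20, 4, 10, 21, 12, 9, 8, 13, 0, 1, 11]
    [21, 22, 5, 12, 14, 3, 11, 2, 19, 18, 15, 23, 17, 20, 8, 1, 6, 7, 0, 9, 13, 16, 10, 4]
    (by decide +kernel) (by decide +kernel)

theorem sg35_1_mem : sg35_1 ∈ M24 :=
  tperm_mem _ _ _ _ (by decide +kernel) (by decide +kernel)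

theorem cw35_1 : M 1811772 ∈ Code := mask_mem_Code 1811772 (by decide +kernel)

def nn35_1 : Equiv.Perm leechLattice := mono sg35_1 sg35_1_mem (M 1811772) cw35_1

def sg35_2 : Equiv.Perm GolayPt :=
  tperm [22, 12, 6, 8, 11, 17, 0, 2, 23, 1, 20, 16, 5, 10, 19, 3, 9, 14, 15, 18, 13, 21, 7, 4]
    [6, 9, 7, 15, 23, 12, 2, 22, 3, 16, 13, 4, 1, 20, 17, 18, 11, 5, 19, 14, 10, 21, 0, 8]
    (by decide +kernel) (by decide +kernel)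

theorem sg35_2_mem : sg35_2 ∈ M24 :=
  tperm_mem _ _ _ _ (by decide +kernel) (by decide +kernel)

theorem cw35_2 : M 8280161 ∈ Code := mask_mem_Code 8280161 (by decide +kernel)

def nn35_2 : Equiv.Perm leechLattice := mono sg35_2 sg35_2_mem (M 8280161) cw35_2

def wd35 : Equiv.Perm leechLattice := xi * (nn35_2 * (xi * (nn35_1 * (xi))))

theorem wd35_mem : wd35 ∈ Co0 :=
  Co0.mul_mem xi_mem (Co0.mul_mem (mono_mem _ _ _ _) (Co0.mul_mem xi_mem (Co0.mul_mem (mono_mem _ _ _ _) (xi_mem))))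

theorem wd35_r8 : (wd35 r8).1 = vecL [1, 1, 1, -1, 1, 1, -1, -1, -1, -1, -1, -1, -1, 3, 1, 3, -3, 1, 1, -1, -3, 1, 1, 3] := by
  have e1 := xi_eval L8v [4, 4, 4, 0, 0, 0, 0, 0, 0, 0, 0, 0, 0, 0, 0, 0, 0, 0, 0, 0, 0, 0, 0, -4]
    (by decide +kernel) r8 rfl
  have e2 := mono_eval sg35_1 sg35_1_mem [21, 22, 5, 12, 14, 3, 11, 2, 19, 18, 15, 23, 17, 20, 8, 1, 6, 7, 0, 9, 13, 16, 10, 4]
    (fun _ => rfl) 1811772 cw35_1 [4, 4, 4, 0, 0, 0, 0, 0, 0, 0, 0, 0, 0, 0, 0, 0, 0, 0, 0, 0, 0, 0, 0, -4]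
    [0, 0, 0, 0, 0, 0, 0, 4, 0, 0, 0, -4, 0, 0, 0, -4, 0, 0, 4, 0, 0, 0, 0, 0]
    (by decide +kernel) _ e1
  have e3 := xi_eval [0, 0, 0, 0, 0, 0, 0, 4, 0, 0, 0, -4, 0, 0, 0, -4, 0, 0, 4, 0, 0, 0, 0, 0] [0, 0, 0, 0, 0, 0, -2, 2, 0, 2, 2, -4, 0, 0, 0, -2, 0, 0, 4, -2, 2, -2, 0, 0]
    (by decide +kernel) _ e2
  have e4 := mono_eval sg35_2 sg35_2_mem [6, 9, 7, 15, 23, 12, 2, 22, 3, 16, 13, 4, 1, 20, 17, 18, 11, 5, 19, 14, 10, 21, 0, 8]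
    (fun _ => rfl) 8280161 cw35_2 [0, 0, 0, 0, 0, 0, -2, 2, 0, 2, 2, -4, 0, 0, 0, -2, 0, 0, 4, -2, 2, -2, 0, 0]
    [2, 2, 2, -2, 0, 0, 0, 0, 0, 0, 0, 0, 0, 2, 0, 4, -4, 0, 2, 0, -2, 2, 0, 0]
    (by decide +kernel) _ e3
  have e5 := xi_eval [2, 2, 2, -2, 0, 0, 0, 0, 0, 0, 0, 0, 0, 2, 0, 4, -4, 0, 2, 0, -2, 2, 0, 0] [1, 1, 1, -1, 1, 1, -1, -1, -1, -1, -1, -1, -1, 3, 1, 3, -3, 1, 1, -1, -3, 1, 1, 3]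
    (by decide +kernel) _ e4
  exact e5

def Lw35 : List ℤ := [1, -1, 1, 1, 1, -1, 1, 1, -3, -1, -1, -1, -3, 3, 1, -1, -3, -1, -1, 1, -1, -3, -1, -1]

theorem Lw35_mem : vecL Lw35 ∈ leechLattice :=
  mem_of_data _ 1 2707933 (Or.inr rfl) (by decide +kernel) (by decide +kernel)
    (by decide +kernel)

def wu35 : leechLattice := ⟨vecL Lw35, Lw35_mem⟩

theorem wd35_u : (wd35 wu35).1 = vecL [4, -4, 0, 0, 0, 0, 0, 0, 0, 0, 0, 0, 0, 0, 0, 0, 4, 0, 0, -4, 0, 0, 0, 0] := by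
  have e1 := xi_eval Lw35 [-1, 1, -1, 1, 1, -1, 1, 1, 1, 1, 1, 3, 1, 3, 1, 1, -3, -1, 3, 1, 1, -3, -1, 1]
    (by decide +kernel) wu35 rfl
  have e2 := mono_eval sg35_1 sg35_1_mem [21, 22, 5, 12, 14, 3, 11, 2, 19, 18, 15, 23, 17, 20, 8, 1, 6, 7, 0, 9, 13, 16, 10, 4]
    (fun _ => rfl) 1811772 cw35_1 [-1, 1, -1, 1, 1, -1, 1, 1, 1, 1, 1, 3, 1, 3, 1, 1, -3, -1, 3, 1, 1, -3, -1, 1]
    [-3, -1, 1, -1, -1, -1, 3, -1, -1, 3, -1, 1, -1, -1, 1, -1, -1, -1, -1, -1, -3, -3, 1, 1]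
    (by decide +kernel) _ e1
  have e3 := xi_eval [-3, -1, 1, -1, -1, -1, 3, -1, -1, 3, -1, 1, -1, -1, 1, -1, -1, -1, -1, -1, -3, -3, 1, 1] [2, 0, -2, 0, 0, 0, 4, 0, 0, 4, 0, 2, 0, 0, 2, 0, 0, 0, 0, 0, -2, -2, 2, -2]
    (by decide +kernel) _ e2
  have e4 := mono_eval sg35_2 sg35_2_mem [6, 9, 7, 15, 23, 12, 2, 22, 3, 16, 13, 4, 1, 20, 17, 18, 11, 5, 19, 14, 10, 21, 0, 8]
    (fun _ => rfl) 8280161 cw35_2 [2, 0, -2, 0, 0, 0, 4, 0, 0, 4, 0, 2, 0, 0, 2, 0, 0, 0, 0, 0, -2, -2, 2, -2]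
    [-4, 4, 0, 0, -2, 0, 2, 2, 0, 0, 0, 0, 0, -2, 0, 0, 2, 0, 0, -2, 0, 2, -2, 0]
    (by decide +kernel) _ e3
  have e5 := xi_eval [-4, 4, 0, 0, -2, 0, 2, 2, 0, 0, 0, 0, 0, -2, 0, 0, 2, 0, 0, -2, 0, 2, -2, 0] [4, -4, 0, 0, 0, 0, 0, 0, 0, 0, 0, 0, 0, 0, 0, 0, 4, 0, 0, -4, 0, 0, 0, 0]
    (by decide +kernel) _ e4
  exact e5

end Cfsg.Agent.Lib.Helper9.LeechY4
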