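import Cfsg.Agent.Lib.Helper9.LeechY1
import Cfsg.Agent.Lib.Helper9.LeechY2
import Cfsg.Agent.Lib.Helper9.LeechY3
import Cfsg.Agent.Lib.Helper9.LeechY4

set_option autoImplicit false

/-! The monomial group is a maximal subgroup of the automorphism group of the rank-24 lattice. -/

namespace Cfsg.Agent.Lib.Helper9.LeechY5

open Cfsg Finset Cfsg.Agent.Lib.Helper4.Leech Cfsg.Agent.Lib.Helper9.Golay1
  Cfsg.Agent.Lib.Helper9.LeechM1 Cfsg.Agent.Lib.Helper9.LeechM4 Cfsg.Agent.Lib.Helper9.LeechX4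
  Cfsg.Agent.Lib.Helper9.LeechX5 Cfsg.Agent.Lib.Helper9.LeechX6
  Cfsg.Agent.Lib.Helper9.LeechX7 Cfsg.Agent.Lib.Helper9.LeechX10
  Cfsg.Agent.Lib.Helper9.LeechX12
  Cfsg.Agent.Lib.Helper9.LeechY1 Cfsg.Agent.Lib.Helper9.LeechY2
  Cfsg.Agent.Lib.Helper9.LeechY3 Cfsg.Agent.Lib.Helper9.LeechY4
open Cfsg.Agent.Lib.Helper9.LeechC2 (fwd bwd par cl mem_lev')

variable {K0 : Subgroup (Equiv.Perm leechLattice)}

/-- an automorphism is in an overgroup of the monomial group as soon as the image of the standard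
vector is in the orbit of the standard vector -/
theorem key (hN : Nsub ≤ K0) (hK : K0 ≤ Co0) (k h : Equiv.Perm leechLattice) (hk : k ∈ K0)
    (hh : h ∈ Co0) (hrel : RelN (k r8) (h r8)) : h ∈ K0 := by
  obtain ⟨n, hn, hnk⟩ := hrel
  have h1 : (h⁻¹ * (n * k)) r8 = r8 := by
    show h⁻¹ (n (k r8)) = r8
    rw [hnk]
    exact Cfsg.Agent.Lib.Helper9.Chain1.inv_apply_self' h r8
  have h2 : h⁻¹ * (n * k) ∈ Nsub :=
    stab_r8 _ (Co0.mul_mem (Co0.inv_mem hh) (Co0.mul_mem (Nsub_le hn) (hK hk))) h1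
  have h3 : h⁻¹ * (n * k) ∈ K0 := hN h2
  have e : h = (n * k) * (h⁻¹ * (n * k))⁻¹ := by group
  rw [e]
  exact K0.mul_mem (K0.mul_mem (hN hn) hk) (K0.inv_mem h3)

theorem orbit_mem (hN : Nsub ≤ K0) (k : Equiv.Perm leechLattice) (hk : k ∈ K0) (u : leechLattice)
    (hrel : RelN (k r8) u) : ∃ k' ∈ K0, k' r8 = u := by
  obtain ⟨n, hn, hnk⟩ := hrel
  exact ⟨n * k, K0.mul_mem (hN hn) hk, hnk⟩

theorem xi_of_44 (hN : Nsub ≤ K0) (hK : K0 ≤ Co0) (k : Equiv.Perm leechLattice) (hk : k ∈ K0)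
    (hrel : RelN (k r8) r44) : xi ∈ K0 := by
  have h1 : RelN (xi r8) r44 := by
    apply nf_44 <;> rw [xi_r8] <;> decide +kernel
  exact key hN hK k xi hk xi_mem (hrel.trans h1.symm)

theorem xi_of_shape (hN : Nsub ≤ K0) (hK : K0 ≤ Co0) (rs : leechLattice)
    (h : Equiv.Perm leechLattice) (hh : h ∈ Co0) (u : leechLattice)
    (ha : RelN (h r8) rs) (hu : RelN u rs) (hb : RelN (h u) r44)
    (k : Equiv.Perm leechLattice) (hk : k ∈ K0) (hrel : RelN (k r8) rs) : xi ∈ K0 := by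
  have hhK : h ∈ K0 := key hN hK k h hk hh (hrel.trans ha.symm)
  obtain ⟨k', hk', hk'u⟩ := orbit_mem hN k hk u (hrel.trans hu.symm)
  have hb' : RelN ((h * k') r8) r44 := by
    show RelN (h (k' r8)) r44
    rw [hk'u]
    exact hb
  exact xi_of_44 hN hK (h * k') (K0.mul_mem hhK hk') hb'

theorem xi_of_62 (hN : Nsub ≤ K0) (hK : K0 ≤ Co0) (k : Equiv.Perm leechLattice) (hk : k ∈ K0)
    (hrel : RelN (k r8) r62) : xi ∈ K0 :=
  xi_of_shape hN hK r62 wd62 wd62_mem wu62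
    (by apply nf_62 <;> rw [wd62_r8] <;> decide +kernel)
    (by apply nf_62 <;> decide +kernel)
    (by apply nf_44 <;> rw [wd62_u] <;> decide +kernel) k hk hrel

theorem xi_of_428 (hN : Nsub ≤ K0) (hK : K0 ≤ Co0) (k : Equiv.Perm leechLattice) (hk : k ∈ K0)
    (hrel : RelN (k r8) r428) : xi ∈ K0 :=
  xi_of_shape hN hK r428 wd428 wd428_mem wu428
    (by apply nf_428 <;> rw [wd428_r8] <;> decide +kernel)
    (by apply nf_428 <;> decide +kernel)
    (by apply nf_44 <;> rw [wd428_u] <;> decide +kernel) k hk hrel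

theorem xi_of_532 (hN : Nsub ≤ K0) (hK : K0 ≤ Co0) (k : Equiv.Perm leechLattice) (hk : k ∈ K0)
    (hrel : RelN (k r8) r532) : xi ∈ K0 :=
  xi_of_shape hN hK r532 wd532 wd532_mem wu532
    (by apply nf_532 <;> rw [wd532_r8] <;> decide +kernel)
    (by apply nf_532 <;> decide +kernel)
    (by apply nf_44 <;> rw [wd532_u] <;> decide +kernel) k hk hrel

theorem xi_of_412 (hN : Nsub ≤ K0) (hK : K0 ≤ Co0) (k : Equiv.Perm leechLattice) (hk : k ∈ K0)
    (hrel : RelN (k r8) r412) : xi ∈ K0 :=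
  xi_of_shape hN hK r412 wd412 wd412_mem wu412
    (by apply nf_412 <;> rw [wd412_r8] <;> decide +kernel)
    (by apply nf_412 <;> decide +kernel)
    (by apply nf_44 <;> rw [wd412_u] <;> decide +kernel) k hk hrel

theorem xi_of_35 (hN : Nsub ≤ K0) (hK : K0 ≤ Co0) (k : Equiv.Perm leechLattice) (hk : k ∈ K0)
    (hrel : RelN (k r8) r35) : xi ∈ K0 :=
  xi_of_shape hN hK r35 wd35 wd35_mem wu35
    (by apply nf_35 <;> rw [wd35_r8] <;> decide +kernel)
    (by apply nf_35 <;> decide +kernel)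
    (by apply nf_44 <;> rw [wd35_u] <;> decide +kernel) k hk hrel

/-! ### the case analysis -/

theorem std_of_shape8 (x : GolayPt → ℤ) (h8 : cnt x 8 = 1) (h0 : cnt x 0 = 23) :
    x ∈ stdCross := by
  obtain ⟨p, hp, huniq⟩ := cnt_one x 8 h8
  have hcov := cover x {8, 0} (by rw [Finset.sum_pair (by norm_num)]; omega)
  refine ⟨p, x p, ?_, ?_⟩
  · rcases abs_cases (x p) with ⟨a1, a2⟩ | ⟨a1, a2⟩
    · left; omega
    · right; omega
  · funext j
    by_cases hj : j = p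
    · rw [hj, Pi.single_eq_same]
    · rw [Pi.single_eq_of_ne hj]
      have := hcov j
      simp only [mem_insert, mem_singleton] at this
      rcases this with h | h
      · exact absurd (huniq j h) hj
      · exact abs_eq_zero.mp h

theorem xi_mem_A (hN : Nsub ≤ K0) (hK : K0 ≤ Co0) (k : Equiv.Perm leechLattice) (hk : k ∈ K0)
    (hns : (k r8).1 ∉ stdCross)
    (h216 : ¬ (cnt (k r8).1 2 = 16 ∧ cnt (k r8).1 0 = 8)) : xi ∈ K0 := by
  have hn : sqNorm (k r8).1 = 64 := by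
    rw [(hK hk).2 r8]
    decide +kernel
  rcases shapes64 (k r8).1 (k r8).2 hn with ⟨hp, h8, h0⟩ | ⟨hp, h4, h0⟩ | ⟨hp, h6, h2, h0, hc⟩ |
    ⟨hp, h4, h2, h0, hc⟩ | ⟨hp, h4, h2, h0, hc⟩ | ⟨hp, h2, h0, hc⟩ | ⟨hp, h3, h1⟩ |
    ⟨hp, h5, h3, h1⟩
  · exact absurd (std_of_shape8 _ h8 h0) hns
  · exact xi_of_44 hN hK k hk (nf_44 _ h4 h0)
  · exact xi_of_62 hN hK k hk (nf_62 _ hp h6 h2 h0 hc)
  · exact xi_of_428 hN hK k hk (nf_428 _ hp h4 h2 h0 hc)
  · exact xi_of_412 hN hK k hk (nf_412 _ hp h4 h2 h0 hc)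
  · exact absurd ⟨h2, h0⟩ h216
  · exact xi_of_35 hN hK k hk (nf_35 _ hp h3 h1)
  · exact xi_of_532 hN hK k hk (nf_532 _ hp h5 h3 h1)

theorem cnt_E : ∀ j : GolayPt, cnt (E j).1 8 = 1 ∧ cnt (E j).1 0 = 23 := by decide +kernel

theorem cnt_single : ∀ i : GolayPt,
    cnt (Pi.single i 8 : GolayPt → ℤ) 8 = 1 ∧ cnt (Pi.single i 8 : GolayPt → ℤ) 0 = 23 ∧
    cnt (Pi.single i (-8) : GolayPt → ℤ) 8 = 1 ∧ cnt (Pi.single i (-8) : GolayPt → ℤ) 0 = 23 := by
  decide +kernel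

theorem xi_mem_of (hN : Nsub ≤ K0) (hK : K0 ≤ Co0) (k : Equiv.Perm leechLattice) (hk : k ∈ K0)
    (hns : (k r8).1 ∉ stdCross) : xi ∈ K0 := by
  by_cases h216 : cnt (k r8).1 2 = 16 ∧ cnt (k r8).1 0 = 8
  · have hkC := hK hk
    have h216' := h216
    have hns' := hns
    rw [r8_eq] at h216' hns'
    obtain ⟨j, hj⟩ := exists_other_col k hkC h216'.1 h216'.2
    have hjns := col_not_std k hkC hns' j
    have hrel : RelN r8 (E j) := (nf_8 (E j) (cnt_E j).1 (cnt_E j).2).symm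
    obtain ⟨n, hn, hnj⟩ := hrel
    have hk' : k * n ∈ K0 := K0.mul_mem hk (hN hn)
    apply xi_mem_A hN hK (k * n) hk'
    · show (k (n r8)).1 ∉ stdCross
      rw [hnj]
      exact hjns
    · show ¬ (cnt (k (n r8)).1 2 = 16 ∧ cnt (k (n r8)).1 0 = 8)
      rw [hnj]
      exact hj
  · exact xi_mem_A hN hK k hk hns h216

/-! ### the monomial group and the stabilizer of the standard cross -/

theorem P_eps (c : Finset GolayPt) (hc : c ∈ Code) : P ⟨eps c hc, eps_mem c hc⟩ := by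
  rintro v ⟨i, s, hs, hv⟩
  show (eps c hc v).1 ∈ stdCross
  refine ⟨i, if i ∈ c then -s else s, ?_, ?_⟩
  · split_ifs <;> rcases hs with rfl | rfl <;> simp
  · funext j
    rw [eps_val, hv]
    by_cases hj : j = i
    · subst hj
      rw [Pi.single_eq_same, Pi.single_eq_same]
    · rw [Pi.single_eq_of_ne hj, Pi.single_eq_of_ne hj]
      simp

theorem P_prm (σ : Equiv.Perm GolayPt) (hσ : σ ∈ M24) : P ⟨prm σ hσ, prm_mem σ hσ⟩ := by
  rintro v ⟨i, s, hs, hv⟩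
  show (prm σ hσ v).1 ∈ stdCross
  refine ⟨σ i, s, hs, ?_⟩
  funext j
  rw [prm_val, hv]
  by_cases hj : j = σ i
  · subst hj
    rw [Equiv.symm_apply_apply, Pi.single_eq_same, Pi.single_eq_same]
  · rw [Pi.single_eq_of_ne hj, Pi.single_eq_of_ne]
    intro h
    apply hj
    rw [← h, Equiv.apply_symm_apply]

theorem N_le_of (H : Subgroup ↥Co0) (hH : ∀ g, g ∈ H ↔ P g) : Nsub ≤ H.map Co0.subtype := by
  unfold Nsub
  rw [Subgroup.closure_le]
  rintro f (⟨c, hc, rfl⟩ | ⟨σ, hσ, rfl⟩)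
  · exact ⟨⟨eps c hc, eps_mem c hc⟩, (hH _).mpr (P_eps c hc), rfl⟩
  · exact ⟨⟨prm σ hσ, prm_mem σ hσ⟩, (hH _).mpr (P_prm σ hσ), rfl⟩

/-- the stabilizer of the standard cross is a maximal subgroup -/
theorem main (H : Subgroup ↥Co0) (hH : (H : Set ↥Co0) = {g | P g}) : IsCoatom H := by
  have hH' : ∀ g, g ∈ H ↔ P g := fun g => by
    rw [← SetLike.mem_coe, hH]
    rfl
  constructor
  · intro htop
    have hx : (⟨xi, xi_mem⟩ : ↥Co0) ∈ H := by
      rw [htop]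
      trivial
    have hP := (hH' _).mp hx
    have h1 : (xi r8).1 ∈ stdCross := hP r8 (by rw [r8_eq]; exact E_none_std)
    rw [xi_r8] at h1
    obtain ⟨i, s, hs, he⟩ := h1
    have h2 := congrFun he none
    have h3 : vecL Lxr8 none = -4 := by decide +kernel
    rw [h3, Pi.single_apply] at h2
    split_ifs at h2 <;> rcases hs with rfl | rfl <;> omega
  · intro K hK
    have hK0 : K.map Co0.subtype ≤ Co0 := by
      rintro f ⟨g, -, rfl⟩
      exact g.2
    have hN : Nsub ≤ K.map Co0.subtype := (N_le_of H hH').trans (Subgroup.map_mono hK.le)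
    obtain ⟨g, hgK, hgH⟩ := SetLike.exists_of_lt hK
    have hnP : ¬ P g := fun h => hgH ((hH' g).mpr h)
    have hex : ∃ k ∈ K.map Co0.subtype, (k r8).1 ∉ stdCross := by
      unfold P at hnP
      push_neg at hnP
      obtain ⟨v, hv, hgv⟩ := hnP
      have hrel : RelN v r8 := by
        obtain ⟨i, s, hs, hvs⟩ := hv
        rcases hs with rfl | rfl
        · exact nf_8 v (by rw [hvs]; exact (cnt_single i).1) (by rw [hvs]; exact (cnt_single i).2.1)
        · exact nf_8 v (by rw [hvs]; exact (cnt_single i).2.2.1)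
            (by rw [hvs]; exact (cnt_single i).2.2.2)
      obtain ⟨n, hn, hnv⟩ := hrel.symm
      refine ⟨g.1 * n, Subgroup.mul_mem _ ⟨g, hgK, rfl⟩ (hN hn), ?_⟩
      show (g.1 (n r8)).1 ∉ stdCross
      rw [hnv]
      exact hgv
    obtain ⟨k, hk, hkns⟩ := hex
    have hξ : xi ∈ K.map Co0.subtype := xi_mem_of hN hK0 k hk hkns
    have htop := eq_top_of hN hξ hK0
    rw [eq_top_iff]
    intro g' _
    have hg' : g'.1 ∈ K.map Co0.subtype := by
      rw [htop]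
      exact g'.2
    obtain ⟨g'', hg'', e⟩ := hg'
    have e' : g'' = g' := Subtype.ext e
    rw [← e']
    exact hg''

end Cfsg.Agent.Lib.Helper9.LeechY5
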