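import Mathlib
import Cfsg.Prelude.Def_Characters
import Cfsg.Prelude.Def_Blocks
import Cfsg.Prelude.Def_CaseTheorems
import Cfsg.Agent.Lib.Helper9.LgC
import Cfsg.Agent.Lib.Helper9.LgK
import Cfsg.Agent.Lib.Helper6.Schur

set_option autoImplicit false
set_option linter.unusedSectionVars false
set_option linter.unusedVariables false
set_option linter.style.longLine false
set_option linter.unusedSimpArgs false

set_option maxHeartbeats 1600000
namespace Cfsg.Agent.Lib.Helper9.Lg
open Matrix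

/-- **Main theorem, representation form.** -/
theorem main_rep {n : ℕ} {G : Type*} [Group G] [Finite G]
    (ρ : Representation ℂ G (Fin n → ℂ)) [hρ : ρ.IsIrreducible]
    (hfaith : ∀ g : G, ρ.character g = ρ.character 1 → g = 1)
    {p : ℕ} [hp : Fact p.Prime] (h7 : 7 ≤ p) (hn2 : n < 2 * p) (hnp : n ≠ p)
    (P : Sylow p G) {x y : G} (hx : x ∈ (P : Subgroup G)) (hy : y ∈ (P : Subgroup G))
    (hxy : x * y ≠ y * x) :
    ¬ p ^ 2 ∣ (Cfsg.pCore p G).index := by
  classical
  let M : G →* Matrix (Fin n) (Fin n) ℂ :=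
    { toFun := fun g => LinearMap.toMatrix' (ρ g)
      map_one' := by rw [map_one]; exact LinearMap.toMatrix'_one
      map_mul' := by intro g h; rw [map_mul]; exact LinearMap.toMatrix'_mul _ _ }
  have hM : ∀ g, M g = LinearMap.toMatrix' (ρ g) := fun g => rfl
  obtain ⟨S, S', hSS', hS'S, hunit⟩ := exists_unitarize M
  let U : G →* Matrix (Fin n) (Fin n) ℂ :=
    { toFun := fun g => S * M g * S'
      map_one' := by rw [map_one, Matrix.mul_one, hSS']
      map_mul' := by
        intro g h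
        rw [map_mul]
        have : S * M g * S' * (S * M h * S') = S * M g * (S' * S) * M h * S' := by
          simp only [Matrix.mul_assoc]
        rw [this, hS'S, Matrix.mul_one]
        simp only [Matrix.mul_assoc] }
  have hUdef : ∀ g, U g = S * M g * S' := fun g => rfl
  have hMU : ∀ g, M g = S' * U g * S := by
    intro g
    rw [hUdef]
    have : S' * (S * M g * S') * S = (S' * S) * M g * (S' * S) := by
      simp only [Matrix.mul_assoc]
    rw [this, hS'S, Matrix.one_mul, Matrix.mul_one]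
  have hinj : Function.Injective U := by
    rw [injective_iff_map_eq_one]
    intro g hg
    apply hfaith
    have h1 : M g = 1 := by rw [hMU, hg, Matrix.mul_one, hS'S]
    have h2 : ρ g = 1 := by
      apply LinearMap.toMatrix'.injective
      rw [← hM, h1]
      exact LinearMap.toMatrix'_one.symm
    have h3 : ρ g = ρ 1 := by rw [h2, map_one]
    simp only [Representation.character, h3]
  have hirr : ∀ T : Matrix (Fin n) (Fin n) ℂ, T * T = T → (∀ g, T * U g = U g * T) →
      T = 0 ∨ T = 1 := by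
    intro T hTI hTc
    obtain ⟨T', hT'⟩ : ∃ T' : Matrix (Fin n) (Fin n) ℂ, T' = S' * T * S := ⟨_, rfl⟩
    have hTT' : T = S * T' * S' := by
      rw [hT']
      have : S * (S' * T * S) * S' = (S * S') * T * (S * S') := by
        simp only [Matrix.mul_assoc]
      rw [this, hSS', Matrix.one_mul, Matrix.mul_one]
    have hT'c : ∀ g, T' * M g = M g * T' := by
      intro g
      rw [hT', hMU]
      have e1 : S' * T * S * (S' * U g * S) = S' * (T * (S * S') * U g) * S := by
        simp only [Matrix.mul_assoc]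
      have e2 : S' * U g * S * (S' * T * S) = S' * (U g * (S * S') * T) * S := by
        simp only [Matrix.mul_assoc]
      rw [e1, e2, hSS', Matrix.mul_one, Matrix.mul_one, hTc g]
    have hL : ∀ g : G, (Matrix.toLin' T') ∘ₗ ρ g = ρ g ∘ₗ (Matrix.toLin' T') := by
      intro g
      have h1 : ρ g = Matrix.toLin' (M g) := by rw [hM, Matrix.toLin'_toMatrix']
      rw [h1, ← Matrix.toLin'_mul, ← Matrix.toLin'_mul, hT'c g]
    obtain ⟨c, hc⟩ := Cfsg.Agent.Lib.Helper6.exists_smul_id_of_comm ρ (Matrix.toLin' T') hL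
    have hT'c' : T' = c • (1 : Matrix (Fin n) (Fin n) ℂ) := by
      have h1 := congrArg LinearMap.toMatrix' hc
      rw [LinearMap.toMatrix'_toLin'] at h1
      rw [h1, map_smul, LinearMap.toMatrix'_id]
    have hTc' : T = c • (1 : Matrix (Fin n) (Fin n) ℂ) := by
      rw [hTT', hT'c', Matrix.mul_smul, Matrix.smul_mul, Matrix.mul_one, hSS']
    rw [hTc'] at hTI ⊢
    rw [Matrix.smul_mul, Matrix.mul_smul, Matrix.mul_one, smul_smul] at hTI
    by_cases hn0 : n = 0
    · left
      subst hn0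
      exact Subsingleton.elim _ _
    · haveI : Nonempty (Fin n) := ⟨⟨0, Nat.pos_of_ne_zero hn0⟩⟩
      have h1 : (c * c - c) • (1 : Matrix (Fin n) (Fin n) ℂ) = 0 := by
        rw [sub_smul, hTI, sub_self]
      rcases smul_eq_zero.mp h1 with h | h
      · have h2 : c * (c - 1) = 0 := by rw [mul_sub, mul_one]; exact h
        rcases mul_eq_zero.mp h2 with h3 | h3
        · left; rw [h3, zero_smul]
        · right; rw [sub_eq_zero.mp h3, one_smul]
      · exact absurd h one_ne_zero
  exact main_matrix U hunit hinj hirr h7 hn2 hnp P hx hy hxy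

/-- **S4471.** -/
theorem s4471 {G : Type*} [Group G] [Finite G] (χ : Cfsg.IrrCharacter G)
    (hfaith : ∀ g : G, (χ : G → ℂ) g = (χ : G → ℂ) 1 → g = 1) (n : ℕ)
    (hn : Cfsg.charDegree (χ : G → ℂ) = n) (p : ℕ) (hp : p.Prime) (h7 : 7 ≤ p)
    (hn2 : n < 2 * p) (hnp : n ≠ p) :
    ((∃ P : Sylow p G, ∃ x ∈ (P : Subgroup G), ∃ y ∈ (P : Subgroup G), x * y ≠ y * x) →
        ¬ p ^ 2 ∣ (Cfsg.pCore p G).index) ∧
      ∀ Q : Sylow p (G ⧸ Cfsg.pCore p G), ∀ x ∈ (Q : Subgroup (G ⧸ Cfsg.pCore p G)),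
        ∀ y ∈ (Q : Subgroup (G ⧸ Cfsg.pCore p G)), x * y = y * x := by
  haveI : Fact p.Prime := ⟨hp⟩
  obtain ⟨m, ρ, hirr, hχ⟩ := χ.2
  have hmn : m = n := by
    rw [← hn, Cfsg.charDegree, ← hχ, Representation.char_one, Module.finrank_fin_fun]
    simp
  subst hmn
  haveI := hirr
  have key : (∃ P : Sylow p G, ∃ x ∈ (P : Subgroup G), ∃ y ∈ (P : Subgroup G), x * y ≠ y * x) →
      ¬ p ^ 2 ∣ (Cfsg.pCore p G).index := by
    rintro ⟨P, x, hx, y, hy, hxy⟩
    refine main_rep ρ ?_ h7 hn2 hnp P hx hy hxy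
    intro g hg
    apply hfaith
    rw [← hχ]
    exact hg
  refine ⟨key, ?_⟩
  intro Q
  by_cases h : ∃ P : Sylow p G, ∃ x ∈ (P : Subgroup G), ∃ y ∈ (P : Subgroup G), x * y ≠ y * x
  · exact sylow_quot_comm_of_not_sq _ (key h) Q
  · push Not at h
    exact sylow_quot_comm_of_sylow_comm _ (Cfsg.Agent.Lib.Helper1.pCore_isPGroup p) h Q

end Cfsg.Agent.Lib.Helper9.Lg
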