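import Mathlib
import Mathlib
import Cfsg.Prelude.Def_Characters
import Cfsg.Agent.Lib.Helper9.LgS
import Cfsg.Agent.Lib.Helper7.BqG

set_option autoImplicit false
set_option linter.unusedSectionVars false
set_option linter.unusedVariables false
set_option linter.style.longLine false
set_option linter.unusedSimpArgs false

set_option maxHeartbeats 1600000
namespace Cfsg.Agent.Lib.Helper9.Lg

/-- **Case (4B2) of S4501.** -/
theorem case_4B2 {G : Type*} [Group G] [Finite G] [IsSimpleGroup G]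
    (hna : ∃ x y : G, x * y ≠ y * x)
    (p b : ℕ) (hp : p.Prime) (hp5 : 5 ≤ p) (hG : Nat.card G = 4 * p ^ 2 * 3 ^ b)
    {χ : G → ℂ} (hχ : Cfsg.IsIrrCharacter G χ) (hdeg : χ 1 = 4)
    (hfaith : ∀ g : G, χ g = χ 1 → g = 1) (hvan : ∀ g : G, 2 ∣ orderOf g → χ g = 0) : False :=
  case_4B2_of_no_invol hna p b hp hp5 hG hχ hdeg hfaith
    (Cfsg.Agent.Lib.Helper7.Bq.no_invol_commute hna p b hp hp5 hG hχ hdeg hfaith hvan)

end Cfsg.Agent.Lib.Helper9.Lg
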