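import Mathlib
import Cfsg.Agent.Lib.Helper9.M11Conc
import Cfsg.Agent.Lib.Helper7.M11StC

/-!
# The end game of the uniqueness of `M11`: a sharply 4-transitive group of degree 11 is the
concrete `M11` (modulo the line lemma)
-/

set_option autoImplicit false

open scoped Pointwise
open Cfsg

namespace Cfsg.Agent.Lib.Helper9.M11End

open Cfsg.Agent.Lib.Helper9.M11Conc Cfsg.Agent.Lib.Helper7.M11St

/-- a sharply 4-transitive group of degree 11 is isomorphic to the concrete `M11`, given the line
lemma for both actions -/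
theorem iso_of_sharp4_of_line {G : Type*} {X : Type*} [Group G] [MulAction G X]
    (hX : Nat.card X = 11) (h4 : Cfsg.Agent.Lib.Helper8.Sh.IsSharp G X 4)
    (d : Finset GolayPt) (hd : d ∈ dodecads) (p : GolayPt) (hp : p ∈ d)
    (hlG : LineStmt G X) (hlH : LineStmt (HH d p) (YY d p)) :
    Nonempty (G ≃* ↥(MulAction.stabilizer M24 d ⊓ MulAction.stabilizer M24 p)) := by
  have hY : Nat.card (YY d p) = 11 := by
    rw [Nat.card_eq_fintype_card, card_YY hd hp]
  exact iso_of_sharp4_abstract hX hY h4 (isSharp hd hp) hlG hlH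

end Cfsg.Agent.Lib.Helper9.M11End
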