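import Cfsg.Agent.Lib.Helper9.OutM5

set_option autoImplicit false

/-! Every automorphism of `M23` and of `M24` is inner: assembly. -/

namespace Cfsg.Agent.Lib.Helper9.OutM

open Cfsg Finset MulAction Cfsg.Agent.Lib.Helper9.Golay1 Cfsg.Agent.Lib.Helper9.GolayQR1
  Cfsg.Agent.Lib.Helper9.GolayQR2 Cfsg.Agent.Lib.Helper9.GolayQR3
  Cfsg.Agent.Lib.Helper9.GolayM24a Cfsg.Agent.Lib.Helper9.GolayM24c
  Cfsg.Agent.Lib.Helper9.M24T1 Cfsg.Agent.Lib.Helper9.M24U1
  Cfsg.Agent.Lib.Helper9.M24T3 Cfsg.Agent.Lib.Helper9.M24T5 Cfsg.Agent.Lib.Helper9.M24T6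
  Cfsg.Agent.Lib.Helper9.M24T7
open scoped Pointwise

/-- a permutation mapping the octads through the extra point to octads lies in `M24` -/
theorem mem_M24_of_octads_inf (π : Equiv.Perm GolayPt)
    (h : ∀ O ∈ octads, (none : GolayPt) ∈ O → π • O ∈ octads) : π ∈ M24 := by
  rw [← Subgroup.inv_mem_iff]
  apply mem_M24_of_map_eq
  apply map_eq_of_span π⁻¹ _ span_om
  rintro _ ⟨i, rfl⟩
  have ho : M (om i) ∈ octads := Cfsg.Agent.Lib.Helper9.M24F2.isOctF_sound _ (om_oct i)
  have hn : (none : GolayPt) ∈ M (om i) := by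
    rw [mem_M]
    exact om_inf i
  obtain ⟨⟨w', hw', hw'eq⟩, -⟩ := h _ ho hn
  have : dec (om i) ∘ ⇑π⁻¹ = w' := by
    rw [← supp_eq_iff, supp_eq_support₂, supp_eq_support₂, support_comp, inv_inv, hw'eq]
    rfl
  rw [this]
  exact hw'

theorem mem_M23_of_normalizes (π : Equiv.Perm GolayPt) (hπ0 : π none = none)
    (hπ : ∀ g ∈ Spor.M23, π * g * π⁻¹ ∈ Spor.M23) : π ∈ Spor.M23 := by
  refine Subgroup.mem_inf.mpr ⟨?_, MulAction.mem_stabilizer_iff.mpr hπ0⟩
  apply mem_M24_of_octads_inf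
  intro O hO hn
  obtain ⟨z, hz, hz2, hz1, hfix⟩ := exists_involution_fix O hO
  have hz23 : z ∈ Spor.M23 := by
    refine Subgroup.mem_inf.mpr ⟨hz, MulAction.mem_stabilizer_iff.mpr ?_⟩
    rw [← hfix, mem_fixF] at hn
    exact hn
  exact smul_octad_of_conj π z hz2 hz1 O hO hfix (Subgroup.mem_inf.mp (hπ z hz23)).1

/-! ### `M24` -/

theorem transitive24 (p : GolayPt) : ∃ g ∈ M24, g none = p := by
  obtain ⟨g, hg, h⟩ := exists_mapn 1 (by omega) (fun _ => p) (by intro i hi j hj _; omega)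
  exact ⟨g, hg, h 0 (by omega)⟩

theorem inner24 (φ : ↥M24 ≃* ↥M24) : ∃ k : ↥M24, ∀ g : ↥M24, φ g = k * g * k⁻¹ := by
  apply inner_of_perm M24 none
  · intro x hx
    exact absurd (transitive24 x) hx
  · intro φ
    obtain ⟨H', hH', hcard, hmem⟩ := image_subgroup M24 φ (fixL M24 [none]) (fixL_le _ _)
    rw [card_fix_point] at hcard
    obtain ⟨a, ha⟩ := index24 H' hH' hcard
    obtain ⟨k, hk, hka⟩ := transitive24 a
    refine ⟨k, hk, ?_⟩
    intro g
    rw [hka]
    have h1 := hmem g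
    rw [ha, mem_fixL, mem_fixL] at h1
    constructor
    · intro h
      exact (h1.mp ⟨(φ g).2, fun b hb => by rw [List.mem_singleton] at hb; rw [hb]; exact h⟩).2 none
        (List.mem_singleton.mpr rfl)
    · intro h
      exact (h1.mpr ⟨g.2, fun b hb => by rw [List.mem_singleton] at hb; rw [hb]; exact h⟩).2 a
        (List.mem_singleton.mpr rfl)
  · intro π _ hπ
    exact mem_M24_of_normalizes π hπ

theorem card_out_M24 : Nat.card (Cfsg.Out ↥M24) = 1 := card_out_eq_one inner24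

/-! ### `M23` -/

theorem transitive23 (p : GolayPt) (hp : p ≠ none) : ∃ g ∈ Spor.M23, g (some 0) = p := by
  obtain ⟨g, hg, h⟩ := exists_mapn 2 (by omega) (fun i => if i = 0 then none else p) (by
    intro i hi j hj hij
    by_contra hne
    have : (i = 0 ∧ j = 1) ∨ (i = 1 ∧ j = 0) := by omega
    rcases this with ⟨rfl, rfl⟩ | ⟨rfl, rfl⟩
    · exact hp (by simpa using hij.symm)
    · exact hp (by simpa using hij))
  have h0 : g none = none := h 0 (by omega)
  have h1 : g (some 0) = p := h 1 (by omega)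
  exact ⟨g, Subgroup.mem_inf.mpr ⟨hg, MulAction.mem_stabilizer_iff.mpr h0⟩, h1⟩

theorem M23_fix (g : Equiv.Perm GolayPt) (hg : g ∈ Spor.M23) : g none = none :=
  MulAction.mem_stabilizer_iff.mp (Subgroup.mem_inf.mp hg).2

theorem inner23 (φ : ↥Spor.M23 ≃* ↥Spor.M23) :
    ∃ k : ↥Spor.M23, ∀ g : ↥Spor.M23, φ g = k * g * k⁻¹ := by
  have hout : ∀ x : GolayPt, (¬ ∃ g ∈ Spor.M23, g (some 0) = x) → x = none := by
    intro x hx
    by_contra hne
    exact hx (transitive23 x hne)
  apply inner_of_perm Spor.M23 (some 0)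
  · intro x hx g hg
    rw [hout x hx]
    exact M23_fix g hg
  · intro φ
    have hle : fixL M24 [none, some 0] ≤ Spor.M23 := by
      intro g hg
      exact Subgroup.mem_inf.mpr ⟨hg.1, MulAction.mem_stabilizer_iff.mpr (hg.2 none (by simp))⟩
    obtain ⟨H', hH', hcard, hmem⟩ := image_subgroup Spor.M23 φ (fixL M24 [none, some 0]) hle
    rw [card_fix_two none (some 0) (by decide)] at hcard
    obtain ⟨a, han, ha⟩ := index23 H' hH' hcard
    obtain ⟨k, hk, hka⟩ := transitive23 a han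
    refine ⟨k, hk, ?_⟩
    intro g
    rw [hka]
    have h1 := hmem g
    rw [ha, mem_fixL, mem_fixL] at h1
    constructor
    · intro h
      refine (h1.mp ⟨(Subgroup.mem_inf.mp (φ g).2).1, fun b hb => ?_⟩).2 (some 0) (by simp)
      simp only [List.mem_cons, List.not_mem_nil, or_false] at hb
      rcases hb with rfl | rfl
      · exact M23_fix _ (φ g).2
      · exact h
    · intro h
      refine (h1.mpr ⟨(Subgroup.mem_inf.mp g.2).1, fun b hb => ?_⟩).2 a (by simp)
      simp only [List.mem_cons, List.not_mem_nil, or_false] at hb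
      rcases hb with rfl | rfl
      · exact M23_fix _ g.2
      · exact h
  · intro π hπout hπ
    apply mem_M23_of_normalizes π _ hπ
    apply hπout
    rintro ⟨g, hg, h⟩
    have := M23_fix g hg
    have h2 : g (some 0) = g none := by rw [h, this]
    exact absurd (g.injective h2) (by decide)

theorem card_out_M23 : Nat.card (Cfsg.Out ↥Spor.M23) = 1 := card_out_eq_one inner23

end Cfsg.Agent.Lib.Helper9.OutM
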