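import Cfsg.Agent.Lib.Helper9.Syl2M23a
import Cfsg.Agent.Lib.Helper9.M24T4
import Cfsg.Agent.Lib.Helper9.M24T7
import Cfsg.Agent.Lib.Helper9.M24T10
import Cfsg.Agent.Lib.Helper9.M24L1
import Cfsg.Agent.Lib.Helper9.M24P9

set_option autoImplicit false

/-! An explicit Sylow `2`-subgroup of `M23`: it is self-normalizing and the `2`-fusion system of
`M23` on it is simple. -/

namespace Cfsg.Agent.Lib.Helper9.Syl2M23

open Cfsg Finset Cfsg.Agent.Lib.Helper9.GolayQR1 Cfsg.Agent.Lib.Helper9.M24F1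
  Cfsg.Agent.Lib.Helper9.M24T1 Cfsg.Agent.Lib.Helper9.M24U1 Cfsg.Agent.Lib.Helper9.M24T3
  Cfsg.Agent.Lib.Helper9.M24T9 Cfsg.Agent.Lib.Helper9.Syl2B Cfsg.Agent.Lib.Helper9.Syl2B.Tab
open scoped Pointwise

theorem memG (c : Equiv.Perm GolayPt) (hc : c ∈ M24) (h1 : c none = none) : c ∈ Spor.M23 :=
  Subgroup.mem_inf.mpr ⟨hc, MulAction.mem_stabilizer_iff.mpr h1⟩

/-- generator 0 -/
def c0 : Equiv.Perm GolayPt :=
  tperm [2, 16, 0, 15, 4, 5, 10, 7, 19, 12, 6, 11, 9, 13, 21, 3, 1, 18, 17, 8, 20, 14, 22, 23]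
    [2, 16, 0, 15, 4, 5, 10, 7, 19, 12, 6, 11, 9, 13, 21, 3, 1, 18, 17, 8, 20, 14, 22, 23] (by decide +kernel) (by decide +kernel)

theorem c0_mem : c0 ∈ M24 := tperm_mem _ _ _ _ (by decide +kernel) (by decide +kernel)

theorem c0_memG : c0 ∈ Spor.M23 := memG c0 c0_mem (by decide +kernel)

/-- generator 1 -/
def c1 : Equiv.Perm GolayPt :=
  tperm [0, 1, 2, 8, 4, 11, 10, 20, 3, 21, 6, 5, 14, 13, 12, 19, 16, 18, 17, 15, 7, 9, 22, 23]
    [0, 1, 2, 8, 4, 11, 10, 20, 3, 21, 6, 5, 14, 13, 12, 19, 16, 18, 17, 15, 7, 9, 22, 23] (by decide +kernel) (by decide +kernel)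

theorem c1_mem : c1 ∈ M24 := tperm_mem _ _ _ _ (by decide +kernel) (by decide +kernel)

theorem c1_memG : c1 ∈ Spor.M23 := memG c1 c1_mem (by decide +kernel)

/-- generator 2 -/
def c2 : Equiv.Perm GolayPt :=
  tperm [3, 19, 15, 0, 4, 5, 14, 7, 16, 17, 21, 11, 18, 13, 6, 2, 8, 9, 12, 1, 20, 10, 22, 23]
    [3, 19, 15, 0, 4, 5, 14, 7, 16, 17, 21, 11, 18, 13, 6, 2, 8, 9, 12, 1, 20, 10, 22, 23] (by decide +kernel) (by decide +kernel)

theorem c2_mem : c2 ∈ M24 := tperm_mem _ _ _ _ (by decide +kernel) (by decide +kernel)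

theorem c2_memG : c2 ∈ Spor.M23 := memG c2 c2_mem (by decide +kernel)

/-- generator 3 -/
def c3 : Equiv.Perm GolayPt :=
  tperm [18, 16, 17, 3, 4, 13, 10, 7, 14, 9, 6, 22, 12, 5, 8, 15, 1, 2, 0, 21, 20, 19, 11, 23]
    [18, 16, 17, 3, 4, 13, 10, 7, 14, 9, 6, 22, 12, 5, 8, 15, 1, 2, 0, 21, 20, 19, 11, 23] (by decide +kernel) (by decide +kernel)

theorem c3_mem : c3 ∈ M24 := tperm_mem _ _ _ _ (by decide +kernel) (by decide +kernel)

theorem c3_memG : c3 ∈ Spor.M23 := memG c3 c3_mem (by decide +kernel)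

/-- conjugator 1 -/
def h1 : Equiv.Perm GolayPt :=
  tperm [8, 10, 3, 11, 13, 4, 19, 16, 21, 12, 15, 22, 14, 0, 7, 5, 6, 18, 17, 9, 2, 20, 1, 23]
    [13, 22, 20, 2, 5, 15, 16, 14, 0, 19, 1, 3, 9, 4, 12, 10, 7, 18, 17, 6, 21, 8, 11, 23] (by decide +kernel) (by decide +kernel)

theorem h1_mem : h1 ∈ M24 := tperm_mem _ _ _ _ (by decide +kernel) (by decide +kernel)

theorem h1_memG : h1 ∈ Spor.M23 := memG h1 h1_mem (by decide +kernel)

/-- conjugator 2 -/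
def h2 : Equiv.Perm GolayPt :=
  tperm [21, 17, 10, 15, 11, 5, 18, 7, 8, 0, 12, 22, 3, 4, 1, 2, 9, 6, 14, 16, 13, 19, 20, 23]
    [9, 14, 15, 12, 13, 5, 17, 7, 8, 16, 2, 4, 10, 20, 18, 3, 19, 1, 6, 21, 22, 0, 11, 23] (by decide +kernel) (by decide +kernel)

theorem h2_mem : h2 ∈ M24 := tperm_mem _ _ _ _ (by decide +kernel) (by decide +kernel)

theorem h2_memG : h2 ∈ Spor.M23 := memG h2 h2_mem (by decide +kernel)

/-- conjugator 3 -/
def h3 : Equiv.Perm GolayPt :=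
  tperm [2, 0, 17, 13, 7, 12, 16, 9, 22, 14, 1, 15, 8, 4, 21, 5, 18, 10, 6, 11, 3, 19, 20, 23]
    [1, 10, 0, 20, 13, 15, 18, 4, 12, 7, 17, 19, 5, 3, 9, 11, 6, 2, 16, 21, 22, 14, 8, 23] (by decide +kernel) (by decide +kernel)

theorem h3_mem : h3 ∈ M24 := tperm_mem _ _ _ _ (by decide +kernel) (by decide +kernel)

theorem h3_memG : h3 ∈ Spor.M23 := memG h3 h3_mem (by decide +kernel)

/-- the generators -/
def gg : ℕ → Equiv.Perm GolayPt := fun a => [c0, c1, c2, c3].getD a 1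

theorem rep_gg : ∀ a < tab.k, Rep (gg a) (tab.Gc a) := by
  intro a ha
  have ha' : a < 4 := ha
  interval_cases a

  · exact rep_tperm _ _ _ _ _ (by decide +kernel)

  · exact rep_tperm _ _ _ _ _ (by decide +kernel)

  · exact rep_tperm _ _ _ _ _ (by decide +kernel)

  · exact rep_tperm _ _ _ _ _ (by decide +kernel)


theorem hgG : ∀ a < tab.k, gg a ∈ Spor.M23 := by
  intro a ha
  have ha' : a < 4 := ha
  interval_cases a

  · exact c0_memG

  · exact c1_memG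

  · exact c2_memG

  · exact c3_memG


theorem hSG : tab.S0 gg ≤ Spor.M23 := by
  unfold Tab.S0
  rw [Subgroup.closure_le]
  rintro x ⟨a, ha, rfl⟩
  exact hgG a ha

theorem card_S0 : Nat.card (tab.S0 gg) = 2 ^ 7 := Tab.card_S0 ok rep_gg

theorem G_eq : Spor.M23 = fixL M24 [none] := by
  ext x
  constructor
  · rintro ⟨h1, h2⟩
    refine ⟨h1, ?_⟩
    intro b hb
    rw [List.mem_singleton] at hb
    rw [hb]
    exact MulAction.mem_stabilizer_iff.mp h2
  · rintro ⟨h1, h2⟩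
    exact Subgroup.mem_inf.mpr ⟨h1, MulAction.mem_stabilizer_iff.mpr (h2 none (by simp))⟩

theorem card_G : Nat.card ↥Spor.M23 = 2 ^ 7 * 79695 := by
  rw [G_eq, Cfsg.Agent.Lib.Helper9.M24T7.card_fix_point]
  norm_num

theorem hGM : Spor.M23 ≤ M24 := fun x hx => (Subgroup.mem_inf.mp hx).1

theorem hDG : ∀ s ∈ Spor.M23, ∀ p, (16777215 : ℕ).testBit (idx (s p)) = (16777215 : ℕ).testBit (idx p) :=
  fun s _ p => ones_inv s p

theorem hDS : ∀ s ∈ tab.S0 gg, ∀ p, (16777215 : ℕ).testBit (idx (s p)) = (16777215 : ℕ).testBit (idx p) :=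
  fun s hs p => hDG s (hSG hs) p

theorem r0 : tab.Reach gg Spor.M23 16777215 [23] := by
  apply Tab.reach_of_fix
  intro g0 hg0 f hf
  rw [List.mem_singleton] at hf
  rw [hf]
  exact MulAction.mem_stabilizer_iff.mp (Subgroup.mem_inf.mp hg0).2

theorem r1 : tab.Reach gg Spor.M23 16777215 [23, 0] :=
  Tab.reach_step ok rep_gg Spor.M23 hSG 16777215 hDS [23] r0 (by decide) [[]] (by decide) 0
    (by decide) (by decide) (by decide +kernel)

theorem r2 : tab.Reach gg Spor.M23 16777215 [23, 0, 1] :=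
  Tab.reach_step ok rep_gg Spor.M23 hSG 16777215 hDS [23, 0] r1 (by decide) [[], [0]] (by decide) 1
    (by decide) (by decide) (by decide +kernel)

theorem r3 : tab.Reach gg Spor.M23 16777215 [23, 0, 1, 2] :=
  Tab.reach_step ok rep_gg Spor.M23 hSG 16777215 hDS [23, 0, 1] r2 (by decide) [[], [0]] (by decide) 2
    (by decide) (by decide) (by decide +kernel)

theorem r4 : tab.Reach gg Spor.M23 16777215 [23, 0, 1, 2, 4] :=
  Tab.reach_step ok rep_gg Spor.M23 hSG 16777215 hDS [23, 0, 1, 2] r3 (by decide) [[]] (by decide) 4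
    (by decide) (by decide) (by decide +kernel)

theorem r5 : tab.Reach gg Spor.M23 16777215 [23, 0, 1, 2, 4, 16] :=
  Tab.reach_step ok rep_gg Spor.M23 hSG 16777215 hDS [23, 0, 1, 2, 4] r4 (by decide) [[1]] (by decide) 16
    (by decide) (by decide) (by decide +kernel)

theorem hfin : ∀ g1 ∈ Spor.M23, Nrm g1 (tab.S0 gg) → (∀ f ∈ [23, 0, 1, 2, 4, 16], g1 (unidx f) = unidx f) →
    g1 ∈ tab.S0 gg :=
  Tab.hfin_oct Spor.M23 hGM hSG 7 79695 card_S0 card_G (by decide) [23, 0, 1, 2, 4] 16 rfl (by decide) (by decide)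
    12656663 (by decide +kernel) (by decide)

theorem e1 : c1 = h1 * c0 * h1⁻¹ := by
  apply Equiv.ext
  decide +kernel

theorem e2 : c2 = h2 * c0 * h2⁻¹ := by
  apply Equiv.ext
  decide +kernel

theorem e3 : c3 = h3 * c0 * h3⁻¹ := by
  apply Equiv.ext
  decide +kernel

theorem hconj : ∀ T : Subgroup (Equiv.Perm GolayPt), T ≤ tab.S0 gg → c0 ∈ T →
    (∀ x ∈ T, ∀ k ∈ Spor.M23, k * x * k⁻¹ ∈ tab.S0 gg → k * x * k⁻¹ ∈ T) → ∀ a < tab.k, gg a ∈ T := by
  intro T _ hz hcl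

  have m1 : c1 ∈ T := conj_mem_T hcl hz h1_memG
    (Tab.gen_mem (t := tab) (g := gg) (a := 1) (by decide)) e1

  have m2 : c2 ∈ T := conj_mem_T hcl hz h2_memG
    (Tab.gen_mem (t := tab) (g := gg) (a := 2) (by decide)) e2

  have m3 : c3 ∈ T := conj_mem_T hcl hz h3_memG
    (Tab.gen_mem (t := tab) (g := gg) (a := 3) (by decide)) e3

  intro a ha
  have ha' : a < 4 := ha
  interval_cases a
  exacts [hz, m1, m2, m3]

theorem hz : Rep c0 (tab.E 22) := rep_tperm _ _ _ _ _ (by decide +kernel)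

theorem good : Cfsg.Agent.Lib.Helper9.Syl2A.Good Spor.M23 (tab.S0 gg) :=
  Tab.good_of ok rep_gg Spor.M23 hgG 16777215 hDG [23, 0, 1, 2, 4, 16] r5 hfin 22 ok_cen c0 hz hconj 7 rfl

/-- the `2`-fusion system of `M23` is simple -/
theorem simple (S : Sylow 2 ↥Spor.M23) : (groupFusionSystem (S : Subgroup ↥Spor.M23)).IsSimple 2 :=
  Cfsg.Agent.Lib.Helper9.Syl2A.simple_main good 7 79695 (by norm_num) card_S0 card_G (by decide) S

/-- the Sylow `2`-subgroups of `M23` are self-normalizing -/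
theorem normalizer_eq (S : Sylow 2 ↥Spor.M23) :
    Subgroup.normalizer ((S : Subgroup ↥Spor.M23) : Set ↥Spor.M23) = (S : Subgroup ↥Spor.M23) :=
  Cfsg.Agent.Lib.Helper9.Syl2A.normalizer_main good 7 79695 (by norm_num) card_S0 card_G (by decide) S

end Cfsg.Agent.Lib.Helper9.Syl2M23

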