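import Cfsg.Agent.Lib.Helper9.Ree3
import Cfsg.Agent.Lib.Helper9.Syl2M23b
import Cfsg.Agent.Lib.Helper9.OutM6

set_option autoImplicit false
set_option maxRecDepth 100000
set_option linter.unusedVariables false
set_option linter.style.haveILetI false

/-! Elements of prime order of `M23`: fixed points and the rank of `1 - x` on the permutation
module; triples with product one generating `M23` satisfy the inequality of Ree. -/

namespace Cfsg.Agent.Lib.Helper9.M23G

open Cfsg Cfsg.Agent.Lib.Helper9.GolayQR1 Cfsg.Agent.Lib.Helper9.M24F1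
  Cfsg.Agent.Lib.Helper9.M24T1 Cfsg.Agent.Lib.Helper9.M24U1 Cfsg.Agent.Lib.Helper9.M24T3
  Cfsg.Agent.Lib.Helper9.Syl2B Cfsg.Agent.Lib.Helper9.Ree
open scoped Pointwise

theorem fact_prime_pow {p k m : ℕ} (hp : p.Prime) (hm : ¬ p ∣ m) :
    (p ^ k * m).factorization p = k := by
  have hm0 : m ≠ 0 := by
    rintro rfl
    exact hm (dvd_zero p)
  rw [Nat.factorization_mul (pow_ne_zero k hp.ne_zero) hm0, Finsupp.add_apply,
    Nat.Prime.factorization_pow hp, Finsupp.single_eq_same,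
    Nat.factorization_eq_zero_of_not_dvd hm, add_zero]

/-- an element of order dividing `p` is conjugate into a given subgroup of Sylow order -/
theorem conj_into {A : Type*} [Group A] (G P : Subgroup A) [Finite G] (hPG : P ≤ G) (p k m : ℕ)
    (hp : p.Prime) (hP : Nat.card P = p ^ k) (hG : Nat.card G = p ^ k * m) (hm : ¬ p ∣ m)
    (x : A) (hx : x ∈ G) (hxp : x ^ p = 1) : ∃ g ∈ G, g * x * g⁻¹ ∈ P := by
  haveI : Fact p.Prime := ⟨hp⟩
  have hc : Nat.card (P.subgroupOf G) = p ^ (Nat.card ↥G).factorization p := by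
    rw [hG, fact_prime_pow hp hm, ← hP]
    exact Nat.card_congr (Subgroup.subgroupOfEquivOfLe hPG).toEquiv
  let Q : Sylow p ↥G := Sylow.ofCard (P.subgroupOf G) hc
  let x' : ↥G := ⟨x, hx⟩
  have hx' : x' ^ p = 1 := Subtype.ext hxp
  have hpg : IsPGroup p ↥(Subgroup.zpowers x') := by
    rintro ⟨g, hg⟩
    obtain ⟨n, rfl⟩ := Subgroup.mem_zpowers_iff.mp hg
    refine ⟨1, Subtype.ext ?_⟩
    show (x' ^ n) ^ p ^ 1 = 1
    rw [pow_one, ← zpow_natCast, ← zpow_mul, mul_comm, zpow_mul, zpow_natCast, hx', one_zpow]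
  obtain ⟨R, hR⟩ := hpg.exists_le_sylow
  obtain ⟨g, hg⟩ := MulAction.exists_smul_eq ↥G R Q
  refine ⟨g.1, g.2, ?_⟩
  have h1 : x' ∈ (R : Subgroup ↥G) := hR (Subgroup.mem_zpowers x')
  have h2 : MulAut.conj g • x' ∈ MulAut.conj g • (R : Subgroup ↥G) :=
    Subgroup.smul_mem_pointwise_smul _ _ _ h1
  rw [← Sylow.coe_subgroup_smul, hg] at h2
  have h3 : MulAut.conj g • x' ∈ P.subgroupOf G := h2
  rw [Subgroup.mem_subgroupOf] at h3
  exact h3

/-! ### fixed points -/

theorem ncard_fixed_conj {α : Type*} (g x : Equiv.Perm α) :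
    (Function.fixedPoints ⇑(g * x * g⁻¹)).ncard = (Function.fixedPoints ⇑x).ncard := by
  have h : Function.fixedPoints ⇑(g * x * g⁻¹) = g '' Function.fixedPoints ⇑x := by
    ext a
    rw [Function.mem_fixedPoints_iff, Set.mem_image]
    constructor
    · intro h1
      refine ⟨g⁻¹ a, ?_, g.apply_symm_apply a⟩
      rw [Function.mem_fixedPoints_iff]
      have h2 : g (x (g⁻¹ a)) = a := h1
      have h3 := congrArg (⇑g⁻¹) h2
      rw [show g⁻¹ (g (x (g⁻¹ a))) = x (g⁻¹ a) from g.symm_apply_apply _] at h3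
      exact h3
    · rintro ⟨b, hb, rfl⟩
      rw [Function.mem_fixedPoints_iff] at hb
      show g (x (g⁻¹ (g b))) = g b
      rw [show g⁻¹ (g b) = b from g.symm_apply_apply _, hb]
  rw [h, Set.ncard_image_of_injective _ g.injective]

/-- the number of fixed points of a permutation given by a packed table -/
theorem ncard_fixed_rep {h : Equiv.Perm GolayPt} {P : ℕ} (hr : Rep h P) :
    (Function.fixedPoints ⇑h).ncard = countB 24 (fun j => Nat.beq (im P j) j) := by
  classical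
  rw [countB_eq]
  have hX : Function.fixedPoints ⇑h =
      unidx '' (↑((Finset.range 24).filter fun j => Nat.beq (im P j) j = true) : Set ℕ) := by
    ext p
    rw [Function.mem_fixedPoints_iff, Set.mem_image]
    constructor
    · intro hp
      refine ⟨idx p, ?_, unidx_idx p⟩
      simp only [Finset.coe_filter, Finset.mem_range, Set.mem_setOf_eq]
      refine ⟨idx_lt p, ?_⟩
      rw [beq_iff, ← hr p, hp]
    · rintro ⟨j, hj, rfl⟩
      simp only [Finset.coe_filter, Finset.mem_range, Set.mem_setOf_eq] at hj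
      rw [hr.apply j hj.1, (beq_iff _ _).mp hj.2]
  rw [hX, Set.ncard_image_of_injOn, Set.ncard_coe_finset]
  intro a ha b hb hab
  simp only [Finset.coe_filter, Finset.mem_range, Set.mem_setOf_eq] at ha hb
  rw [← idx_unidx a ha.1, ← idx_unidx b hb.1, hab]

theorem card_pt : Fintype.card GolayPt = 24 := by decide

theorem ncard_fixed_le (x : Equiv.Perm GolayPt) : (Function.fixedPoints ⇑x).ncard ≤ 24 := by
  have := Set.ncard_le_card (Function.fixedPoints ⇑x)
  rwa [Nat.card_eq_fintype_card, card_pt] at this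

theorem ncard_fixed_pos (x : Equiv.Perm GolayPt) (hx : x ∈ Spor.M23) :
    1 ≤ (Function.fixedPoints ⇑x).ncard := by
  rw [Nat.one_le_iff_ne_zero, Ne, Set.ncard_eq_zero (Set.toFinite _)]
  intro h
  have h1 : (none : GolayPt) ∈ Function.fixedPoints ⇑x := by
    rw [Function.mem_fixedPoints_iff]
    exact Cfsg.Agent.Lib.Helper9.OutM.M23_fix x hx
  rw [h] at h1
  exact h1

/-! ### involutions -/

theorem inv_chk : allB 128 (fun i =>
    !(allB 24 (fun j => Nat.beq (im (Syl2M23.tab.E i) (im (Syl2M23.tab.E i) j)) j)) ||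
      Nat.ble 8 (countB 24 (fun j => Nat.beq (im (Syl2M23.tab.E i) j) j))) = true := by
  decide +kernel

theorem fixed_two (x : Equiv.Perm GolayPt) (hx : x ∈ Spor.M23) (hx2 : x ^ 2 = 1) :
    8 ≤ (Function.fixedPoints ⇑x).ncard := by
  obtain ⟨g, hg, hgx⟩ := conj_into Spor.M23 (Syl2M23.tab.S0 Syl2M23.gg) Syl2M23.hSG 2 7 79695
    Nat.prime_two Syl2M23.card_S0 Syl2M23.card_G (by norm_num) x hx hx2
  obtain ⟨i, hi, hr⟩ := Tab.exists_rep Syl2M23.ok Syl2M23.rep_gg _ hgx
  have hsq : (g * x * g⁻¹) ^ 2 = 1 := by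
    rw [pow_two]
    have h1 : g * x * g⁻¹ * (g * x * g⁻¹) = g * (x * x) * g⁻¹ := by group
    rw [h1, ← pow_two, hx2]
    group
  have h := (allB_iff _ _).mp inv_chk i hi
  have h1 : allB 24 (fun j => Nat.beq (im (Syl2M23.tab.E i) (im (Syl2M23.tab.E i) j)) j) = true := by
    rw [allB_iff]
    intro j hj
    rw [beq_iff]
    have h2 := hr (unidx j)
    rw [idx_unidx j hj] at h2
    have h3 := hr ((g * x * g⁻¹) (unidx j))
    rw [h2] at h3
    rw [← h3]
    have h4 : (g * x * g⁻¹) ((g * x * g⁻¹) (unidx j)) = unidx j := by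
      rw [← Equiv.Perm.mul_apply, ← pow_two, hsq, Equiv.Perm.one_apply]
    rw [h4, idx_unidx j hj]
  rw [h1] at h
  simp only [Bool.not_true, Bool.false_or] at h
  have h5 := Nat.le_of_ble_eq_true h
  rw [← ncard_fixed_rep hr, ncard_fixed_conj] at h5
  exact h5

/-! ### elements of order three -/

/-- generator of a Sylow `3`-subgroup -/
def a3 : Equiv.Perm GolayPt :=
  tperm [0, 4, 15, 3, 19, 10, 8, 7, 9, 6, 21, 11, 18, 2, 17, 13, 14, 16, 22, 1, 20, 5, 12, 23]
    [0, 19, 13, 3, 1, 21, 9, 7, 6, 8, 5, 11, 22, 15, 16, 2, 17, 14, 12, 4, 20, 10, 18, 23]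
    (by decide +kernel) (by decide +kernel)

/-- generator of a Sylow `3`-subgroup -/
def b3 : Equiv.Perm GolayPt :=
  tperm [7, 6, 2, 0, 8, 21, 17, 3, 16, 14, 5, 11, 18, 13, 19, 15, 4, 1, 22, 9, 20, 10, 12, 23]
    [3, 17, 2, 7, 16, 10, 1, 0, 4, 19, 21, 11, 22, 13, 9, 15, 8, 6, 12, 14, 20, 5, 18, 23]
    (by decide +kernel) (by decide +kernel)

theorem a3_mem : a3 ∈ Spor.M23 :=
  Syl2M23.memG a3 (tperm_mem _ _ _ _ (by decide +kernel) (by decide +kernel)) (by decide +kernel)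

theorem b3_mem : b3 ∈ Spor.M23 :=
  Syl2M23.memG b3 (tperm_mem _ _ _ _ (by decide +kernel) (by decide +kernel)) (by decide +kernel)

/-- the nine elements -/
def q3 (k : ℕ) : Equiv.Perm GolayPt := a3 ^ (k / 3) * b3 ^ (k % 3)

/-- the multiplication table -/
def mu3 (k l : ℕ) : ℕ := 3 * ((k / 3 + l / 3) % 3) + (k % 3 + l % 3) % 3

theorem q3_mul : ∀ k : Fin 9, ∀ l : Fin 9, q3 k.1 * q3 l.1 = q3 (mu3 k.1 l.1) := by
  decide +kernel

theorem q3_inj : ∀ k : Fin 9, ∀ l : Fin 9, q3 k.1 = q3 l.1 → k = l := by decide +kernel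

theorem q3_fixed : ∀ k : Fin 9, 6 ≤ (Finset.univ.filter (fun p : GolayPt => q3 k.1 p = p)).card := by
  decide +kernel

theorem mu3_lt {k l : ℕ} : mu3 k l < 9 := by
  unfold mu3
  omega

/-- the Sylow `3`-subgroup -/
def Q3 : Subgroup (Equiv.Perm GolayPt) where
  carrier := {g | ∃ k < 9, g = q3 k}
  one_mem' := ⟨0, by norm_num, by unfold q3; simp⟩
  mul_mem' := by
    rintro _ _ ⟨k, hk, rfl⟩ ⟨l, hl, rfl⟩
    exact ⟨mu3 k l, mu3_lt, q3_mul ⟨k, hk⟩ ⟨l, hl⟩⟩
  inv_mem' := by
    rintro _ ⟨k, hk, rfl⟩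
    refine ⟨mu3 k k, mu3_lt, ?_⟩
    have h1 := q3_mul ⟨k, hk⟩ ⟨k, hk⟩
    have h2 := q3_mul ⟨k, hk⟩ ⟨mu3 k k, mu3_lt⟩
    have h3 : mu3 k (mu3 k k) = 0 := by
      unfold mu3
      omega
    simp only at h1 h2
    rw [h3] at h2
    have h4 : q3 0 = 1 := by unfold q3; simp
    rw [h4] at h2
    exact inv_eq_of_mul_eq_one_right h2

theorem Q3_le : Q3 ≤ Spor.M23 := by
  rintro _ ⟨k, hk, rfl⟩
  unfold q3
  exact Subgroup.mul_mem _ (Subgroup.pow_mem _ a3_mem _) (Subgroup.pow_mem _ b3_mem _)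

theorem card_Q3 : Nat.card ↥Q3 = 3 ^ 2 := by
  classical
  have h1 : (Q3 : Set (Equiv.Perm GolayPt)) = (fun k : Fin 9 => q3 k.1) '' Set.univ := by
    ext g
    constructor
    · rintro ⟨k, hk, rfl⟩
      exact ⟨⟨k, hk⟩, Set.mem_univ _, rfl⟩
    · rintro ⟨k, -, rfl⟩
      exact ⟨k.1, k.2, rfl⟩
  show Nat.card ↥(Q3 : Set (Equiv.Perm GolayPt)) = 3 ^ 2
  rw [Nat.card_coe_set_eq, h1, Set.ncard_image_of_injective _ (fun k l h => q3_inj k l h),
    Set.ncard_univ, Nat.card_eq_fintype_card, Fintype.card_fin]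
  norm_num

theorem fixed_three (x : Equiv.Perm GolayPt) (hx : x ∈ Spor.M23) (hx3 : x ^ 3 = 1) :
    6 ≤ (Function.fixedPoints ⇑x).ncard := by
  classical
  have hG : Nat.card ↥Spor.M23 = 3 ^ 2 * 1133440 := by
    rw [Syl2M23.card_G]
    norm_num
  obtain ⟨g, hg, k, hk, hgx⟩ := conj_into Spor.M23 Q3 Q3_le 3 2 1133440
    Nat.prime_three card_Q3 hG (by norm_num) x hx hx3
  rw [← ncard_fixed_conj g x, hgx]
  have h1 := q3_fixed ⟨k, hk⟩
  have h2 : Function.fixedPoints ⇑(q3 k) =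
      ↑(Finset.univ.filter (fun p : GolayPt => q3 k p = p)) := by
    ext p
    rw [Function.mem_fixedPoints_iff]
    simp
  rw [h2, Set.ncard_coe_finset]
  exact h1

/-! ### the rank of `1 - x` -/

theorem rk_two (x : Equiv.Perm GolayPt) (hx : x ∈ Spor.M23) (h : x ^ 2 = 1) : rk x ≤ 8 := by
  have h1 := rk_prime x 2 Nat.prime_two h
  have h2 := fixed_two x hx h
  have h3 := ncard_fixed_le x
  rw [card_pt] at h1
  omega

theorem rk_three (x : Equiv.Perm GolayPt) (hx : x ∈ Spor.M23) (h : x ^ 3 = 1) : rk x ≤ 12 := by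
  have h1 := rk_prime x 3 Nat.prime_three h
  have h2 := fixed_three x hx h
  have h3 := ncard_fixed_le x
  rw [card_pt] at h1
  omega

theorem rk_five (x : Equiv.Perm GolayPt) (hx : x ∈ Spor.M23) (h : x ^ 5 = 1) : rk x ≤ 16 := by
  have h1 := rk_prime x 5 (by norm_num) h
  have h2 := ncard_fixed_pos x hx
  have h3 := ncard_fixed_le x
  rw [card_pt] at h1
  omega

theorem rk_seven (x : Equiv.Perm GolayPt) (hx : x ∈ Spor.M23) (h : x ^ 7 = 1) : rk x ≤ 18 := by
  have h1 := rk_prime x 7 (by norm_num) h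
  have h2 := ncard_fixed_pos x hx
  have h3 := ncard_fixed_le x
  rw [card_pt] at h1
  omega

theorem rk_eleven (x : Equiv.Perm GolayPt) (hx : x ∈ Spor.M23) (h : x ^ 11 = 1) : rk x ≤ 20 := by
  have h1 := rk_prime x 11 (by norm_num) h
  have h2 := ncard_fixed_pos x hx
  have h3 := ncard_fixed_le x
  rw [card_pt] at h1
  omega

theorem rk_any (x : Equiv.Perm GolayPt) (hx : x ∈ Spor.M23) (p : ℕ) (hp : p.Prime)
    (h : x ^ p = 1) : rk x ≤ 22 := by
  have h1 := rk_prime x p hp h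
  have h2 := ncard_fixed_pos x hx
  have h3 := ncard_fixed_le x
  rw [card_pt] at h1
  have h4 : p * rk x ≤ (p - 1) * 23 := by
    rw [h1]
    exact Nat.mul_le_mul_left _ (by omega)
  by_contra hcon
  push Not at hcon
  have h5 : p * 23 ≤ p * rk x := Nat.mul_le_mul_left _ hcon
  have h6 : (p - 1) * 23 < p * 23 := by
    have := hp.one_le
    have h7 : p - 1 < p := by omega
    exact Nat.mul_lt_mul_of_pos_right h7 (by norm_num)
  omega

/-- the bound for each prime -/
def bd (p : ℕ) : ℕ :=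
  if p = 2 then 8 else if p = 3 then 12 else if p = 5 then 16 else if p = 7 then 18
  else if p = 11 then 20 else 22

theorem rk_le_bd (x : Equiv.Perm GolayPt) (hx : x ∈ Spor.M23) (p : ℕ) (hp : p.Prime)
    (h : x ^ p = 1) : rk x ≤ bd p := by
  unfold bd
  split_ifs with h2 h3 h5 h7 h11
  · subst h2; exact rk_two x hx h
  · subst h3; exact rk_three x hx h
  · subst h5; exact rk_five x hx h
  · subst h7; exact rk_seven x hx h
  · subst h11; exact rk_eleven x hx h
  · exact rk_any x hx p hp h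

/-! ### the inequality of Ree -/

theorem ree23 (x y z : ↥Spor.M23) (hxyz : x * y * z = 1) (hgen : Subgroup.closure {x, y} = ⊤) :
    44 ≤ rk x.1 + rk y.1 + rk z.1 := by
  classical
  have hcl : Spor.M23 ≤ Subgroup.closure {x.1, y.1} := by
    intro g hg
    have h1 : (⟨g, hg⟩ : ↥Spor.M23) ∈ Subgroup.closure {x, y} := by
      rw [hgen]
      exact Subgroup.mem_top _
    have h2 : g ∈ (Subgroup.closure {x, y}).map Spor.M23.subtype := ⟨⟨g, hg⟩, h1, rfl⟩
    rw [MonoidHom.map_closure, Set.image_pair] at h2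
    exact h2
  have h := ree x.1 y.1 z.1 (congrArg Subtype.val hxyz)
    (fun a : GolayPt => if a = none then (0 : Fin 2) else 1) (by
      intro a b hab
      by_cases ha : a = none
      · subst ha
        by_cases hb : b = none
        · subst hb
          exact ⟨1, Subgroup.one_mem _, rfl⟩
        · rw [if_pos rfl, if_neg hb] at hab
          exact absurd hab (by decide)
      · by_cases hb : b = none
        · subst hb
          rw [if_neg ha, if_pos rfl] at hab
          exact absurd hab (by decide)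
        · obtain ⟨g1, hg1, h1⟩ := Cfsg.Agent.Lib.Helper9.OutM.transitive23 a ha
          obtain ⟨g2, hg2, h2⟩ := Cfsg.Agent.Lib.Helper9.OutM.transitive23 b hb
          refine ⟨g2 * g1⁻¹, hcl (Subgroup.mul_mem _ hg2 (Subgroup.inv_mem _ hg1)), ?_⟩
          rw [Equiv.Perm.mul_apply, ← h1, show g1⁻¹ (g1 (some 0)) = some 0 from g1.symm_apply_apply _, h2])
  rw [card_pt] at h
  exact h

end Cfsg.Agent.Lib.Helper9.M23G
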