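import Cfsg.Agent.Lib.Helper9.M23Ga
import Cfsg.Agent.Lib.Helper9.M24T4

set_option autoImplicit false
set_option maxRecDepth 100000
set_option linter.unusedVariables false

/-! Certificates that two elements generate `M23`: a straight-line program of packed tables and,
for every level of the stabiliser chain, a node for every point of the orbit. -/

namespace Cfsg.Agent.Lib.Helper9.M23G

open Cfsg Cfsg.Agent.Lib.Helper9.GolayQR1 Cfsg.Agent.Lib.Helper9.M24F1
  Cfsg.Agent.Lib.Helper9.M24T1 Cfsg.Agent.Lib.Helper9.M24U1 Cfsg.Agent.Lib.Helper9.M24T3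
  Cfsg.Agent.Lib.Helper9.M24T4 Cfsg.Agent.Lib.Helper9.Syl2B Cfsg.Agent.Lib.Helper9.Chain1

/-- a generation certificate -/
structure Cert where
  nn : ℕ
  T : ℕ → ℕ
  li : ℕ → ℕ
  ri : ℕ → ℕ
  tr : ℕ → ℕ → ℕ

namespace Cert

variable (c : Cert)

/-- every node beyond the first two is the product of two earlier nodes -/
def okSlp : Bool := Nat.ble 2 c.nn && allB c.nn (fun k => Nat.blt k 2 ||
  (Nat.blt (c.li k) k && Nat.blt (c.ri k) k &&
    allB 24 (fun j => Nat.beq (im (c.T k) j) (im (c.T (c.li k)) (im (c.T (c.ri k)) j)))))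

/-- the orbit of the base point at each level, as a Boolean predicate on indices -/
def dB (l t : ℕ) : Bool :=
  match l with
  | 0 => !Nat.beq t 23
  | 1 => !(Nat.beq t 23 || Nat.beq t 0)
  | 2 => !(Nat.beq t 23 || Nat.beq t 0 || Nat.beq t 1)
  | 3 => !(Nat.beq t 23 || Nat.beq t 0 || Nat.beq t 1 || Nat.beq t 2)
  | 4 => !(oMask.testBit t)
  | _ => oMask.testBit t &&
      !(Nat.beq t 23 || Nat.beq t 0 || Nat.beq t 1 || Nat.beq t 2 || Nat.beq t 3)

/-- the table fixes the point 23 and the points below `l` -/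
def fixB (P l : ℕ) : Bool := Nat.beq (im P 23) 23 && allB l (fun m => Nat.beq (im P m) m)

def okLev (l : ℕ) : Bool := allB 24 (fun t => !(dB l t) ||
  (Nat.blt (c.tr l t) c.nn && fixB (c.T (c.tr l t)) l && Nat.beq (im (c.T (c.tr l t)) l) t))

/-- all the checks -/
def ok : Bool := c.okSlp && allB 6 (fun l => c.okLev l)

variable {c}

theorem node {x y : Equiv.Perm GolayPt} (hx : Rep x (c.T 0)) (hy : Rep y (c.T 1))
    (h : c.okSlp = true) : ∀ k < c.nn, ∃ g ∈ Subgroup.closure {x, y}, Rep g (c.T k) := by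
  unfold okSlp at h
  rw [Bool.and_eq_true, allB_iff] at h
  intro k
  induction k using Nat.strong_induction_on with
  | _ k ih =>
    intro hk
    have h1 := h.2 k hk
    rw [Bool.or_eq_true] at h1
    rcases h1 with h1 | h1
    · have hk2 : k < 2 := (Tab.blt_iff _ _).mp h1
      interval_cases k
      · exact ⟨x, Subgroup.subset_closure (Or.inl rfl), hx⟩
      · exact ⟨y, Subgroup.subset_closure (Or.inr rfl), hy⟩
    · simp only [Bool.and_eq_true] at h1
      obtain ⟨⟨h2, h3⟩, h4⟩ := h1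
      have h2' := (Tab.blt_iff _ _).mp h2
      have h3' := (Tab.blt_iff _ _).mp h3
      obtain ⟨g1, hg1, hr1⟩ := ih (c.li k) h2' (lt_trans h2' hk)
      obtain ⟨g2, hg2, hr2⟩ := ih (c.ri k) h3' (lt_trans h3' hk)
      refine ⟨g1 * g2, Subgroup.mul_mem _ hg1 hg2, ?_⟩
      intro p
      rw [allB_iff] at h4
      rw [(beq_iff _ _).mp (h4 (idx p) (idx_lt p)), Equiv.Perm.mul_apply, hr1 (g2 p), hr2 p]

/-- the orbit of the base point of a level under the subgroup generated -/
theorem low_of {D : Subgroup (Equiv.Perm GolayPt)}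
    (hnode : ∀ k < c.nn, ∃ g ∈ D, Rep g (c.T k)) (l : ℕ) (hl : l < 24)
    (hok : c.okLev l = true) (L : List GolayPt) (hL : ∀ b ∈ L, idx b = 23 ∨ idx b < l)
    (δ : GolayPt → Prop) (hδ : ∀ p, δ p → dB l (idx p) = true) :
    ∀ p, δ p → ∃ u ∈ fixL D L, u (unidx l) = p := by
  intro p hp
  unfold okLev at hok
  rw [allB_iff] at hok
  have h1 := hok (idx p) (idx_lt p)
  rw [hδ p hp] at h1
  simp only [Bool.not_true, Bool.false_or, Bool.and_eq_true] at h1
  obtain ⟨⟨h2, h3⟩, h4⟩ := h1
  have h2' := (Tab.blt_iff _ _).mp h2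
  obtain ⟨g, hg, hr⟩ := hnode _ h2'
  unfold fixB at h3
  rw [Bool.and_eq_true, allB_iff] at h3
  refine ⟨g, ⟨hg, ?_⟩, ?_⟩
  · intro b hb
    apply idx_injective
    rw [hr b]
    rcases hL b hb with h5 | h5
    · rw [h5]
      exact (beq_iff _ _).mp h3.1
    · exact (beq_iff _ _).mp (h3.2 (idx b) h5)
  · rw [hr.apply l hl, (beq_iff _ _).mp h4, unidx_idx]

end Cert

theorem level_le' (D : Subgroup (Equiv.Perm GolayPt)) (hD : D ≤ M24) (l : List GolayPt)
    (b : GolayPt) (δ : GolayPt → Prop)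
    (hup : ∀ g ∈ fixL M24 l, δ (g b)) (hlow : ∀ p, δ p → ∃ u ∈ fixL D l, u b = p)
    (hnext : fixL M24 (l ++ [b]) ≤ D) : fixL M24 l ≤ D := by
  apply le_step (fixL M24 l) D b
  · intro g hg
    obtain ⟨u, hu, hux⟩ := hlow _ (hup g hg)
    exact ⟨u, hu.1, fixL_mono hD l hu, hux⟩
  · rw [← fixL_snoc]
    exact hnext

theorem d0 : ∀ p : GolayPt, p ∉ [none] → Cert.dB 0 (idx p) = true := by decide +kernel

theorem d1 : ∀ p : GolayPt, p ∉ [none, some 0] → Cert.dB 1 (idx p) = true := by decide +kernel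

theorem d2 : ∀ p : GolayPt, p ∉ [none, some 0, some 1] → Cert.dB 2 (idx p) = true := by
  decide +kernel

theorem d3 : ∀ p : GolayPt, p ∉ [none, some 0, some 1, some 2] → Cert.dB 3 (idx p) = true := by
  decide +kernel

theorem d4 : ∀ p : GolayPt, oMask.testBit (idx p) = false → Cert.dB 4 (idx p) = true := by
  decide +kernel

theorem d5 : ∀ p : GolayPt,
    (oMask.testBit (idx p) = true ∧ p ∉ [none, some 0, some 1, some 2, some 3]) →
      Cert.dB 5 (idx p) = true := by
  decide +kernel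

theorem l0 : ∀ b ∈ ([none] : List GolayPt), idx b = 23 ∨ idx b < 0 := by decide +kernel

theorem l1 : ∀ b ∈ ([none, some 0] : List GolayPt), idx b = 23 ∨ idx b < 1 := by decide +kernel

theorem l2 : ∀ b ∈ ([none, some 0, some 1] : List GolayPt), idx b = 23 ∨ idx b < 2 := by
  decide +kernel

theorem l3 : ∀ b ∈ ([none, some 0, some 1, some 2] : List GolayPt), idx b = 23 ∨ idx b < 3 := by
  decide +kernel

theorem l4 : ∀ b ∈ ([none, some 0, some 1, some 2, some 3] : List GolayPt),
    idx b = 23 ∨ idx b < 4 := by decide +kernel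

theorem l5 : ∀ b ∈ ([none, some 0, some 1, some 2, some 3, some 4] : List GolayPt),
    idx b = 23 ∨ idx b < 5 := by decide +kernel

theorem u0 : unidx 0 = some 0 := by decide
theorem u1 : unidx 1 = some 1 := by decide
theorem u2 : unidx 2 = some 2 := by decide
theorem u3 : unidx 3 = some 3 := by decide
theorem u4 : unidx 4 = some 4 := by decide
theorem u5 : unidx 5 = some 5 := by decide

/-- two elements with a valid certificate generate a group containing `M23` -/
theorem Cert.le_closure {c : Cert} {x y : Equiv.Perm GolayPt} (hxm : x ∈ M24) (hym : y ∈ M24)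
    (hx : Rep x (c.T 0)) (hy : Rep y (c.T 1)) (h : c.ok = true) :
    fixL M24 [none] ≤ Subgroup.closure {x, y} := by
  unfold Cert.ok at h
  rw [Bool.and_eq_true, allB_iff] at h
  obtain ⟨hslp, hlev⟩ := h
  have hnode := Cert.node hx hy hslp
  have hD : Subgroup.closure {x, y} ≤ M24 := by
    rw [Subgroup.closure_le]
    rintro g (rfl | rfl)
    · exact hxm
    · exact hym
  have h6 : fixL M24 [none, some 0, some 1, some 2, some 3, some 4, some 5] ≤
      Subgroup.closure {x, y} := by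
    rw [fix7_eq_bot]
    exact bot_le
  have h5 := level_le' _ hD [none, some 0, some 1, some 2, some 3, some 4] (some 5) _ up7
    (by
      have := Cert.low_of hnode 5 (by norm_num) (hlev 5 (by norm_num)) _ l5 _ d5
      rwa [u5] at this) h6
  have h4 := level_le' _ hD [none, some 0, some 1, some 2, some 3] (some 4) _ up6
    (by
      have := Cert.low_of hnode 4 (by norm_num) (hlev 4 (by norm_num)) _ l4 _ d4
      rwa [u4] at this) h5
  have h3 := level_le' _ hD [none, some 0, some 1, some 2] (some 3) _ up5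
    (by
      have := Cert.low_of hnode 3 (by norm_num) (hlev 3 (by norm_num)) _ l3 _ d3
      rwa [u3] at this) h4
  have h2 := level_le' _ hD [none, some 0, some 1] (some 2) _ up4
    (by
      have := Cert.low_of hnode 2 (by norm_num) (hlev 2 (by norm_num)) _ l2 _ d2
      rwa [u2] at this) h3
  have h1 := level_le' _ hD [none, some 0] (some 1) _ up3
    (by
      have := Cert.low_of hnode 1 (by norm_num) (hlev 1 (by norm_num)) _ l1 _ d1
      rwa [u1] at this) h2
  exact level_le' _ hD [none] (some 0) _ up2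
    (by
      have := Cert.low_of hnode 0 (by norm_num) (hlev 0 (by norm_num)) _ l0 _ d0
      rwa [u0] at this) h1

/-- the statement for a triple of primes -/
def Gen (p q r : ℕ) : Prop :=
  ∃ x y z : ↥Spor.M23, orderOf x = p ∧ orderOf y = q ∧ orderOf z = r ∧ x * y * z = 1 ∧
    Subgroup.closure {x, y} = ⊤

theorem ne_one_of_moves {x : Equiv.Perm GolayPt} (a : GolayPt) (h : x a ≠ a) : x ≠ 1 := by
  rintro rfl
  exact h rfl

theorem gen_of (c : Cert) (x y : Equiv.Perm GolayPt) (hxm : x ∈ Spor.M23) (hym : y ∈ Spor.M23)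
    (hx : Rep x (c.T 0)) (hy : Rep y (c.T 1)) (h : c.ok = true) (p q r : ℕ) (hp : p.Prime)
    (hq : q.Prime) (hr : r.Prime) (hxp : x ^ p = 1) (hx1 : x ≠ 1) (hyq : y ^ q = 1) (hy1 : y ≠ 1)
    (hzr : (x * y) ^ r = 1) (hz1 : x * y ≠ 1) : Gen p q r := by
  haveI := Fact.mk hp
  haveI := Fact.mk hq
  haveI := Fact.mk hr
  refine ⟨⟨x, hxm⟩, ⟨y, hym⟩, (⟨x, hxm⟩ * ⟨y, hym⟩)⁻¹, ?_, ?_, ?_, ?_, ?_⟩
  · exact orderOf_eq_prime (Subtype.ext hxp) (fun h => hx1 (congrArg Subtype.val h))
  · exact orderOf_eq_prime (Subtype.ext hyq) (fun h => hy1 (congrArg Subtype.val h))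
  · rw [orderOf_inv]
    exact orderOf_eq_prime (Subtype.ext hzr) (fun h => hz1 (congrArg Subtype.val h))
  · group
  · rw [eq_top_iff]
    rintro ⟨g, hg⟩ -
    have hg' : g ∈ fixL M24 [none] := by
      rw [← Syl2M23.G_eq]
      exact hg
    have h1 := Cert.le_closure (Syl2M23.hGM hxm) (Syl2M23.hGM hym) hx hy h hg'
    have h2 : Subgroup.closure {x, y} =
        (Subgroup.closure {(⟨x, hxm⟩ : ↥Spor.M23), ⟨y, hym⟩}).map Spor.M23.subtype := by
      rw [MonoidHom.map_closure, Set.image_pair]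
      rfl
    rw [h2] at h1
    obtain ⟨g', hg', hgg⟩ := h1
    have : g' = ⟨g, hg⟩ := Subtype.ext hgg
    rw [← this]
    exact hg'

end Cfsg.Agent.Lib.Helper9.M23G
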