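import Cfsg.Agent.Lib.Helper9.M23Gc1
import Cfsg.Agent.Lib.Helper9.M23Gc2
import Cfsg.Agent.Lib.Helper9.M23Gc3
import Cfsg.Agent.Lib.Helper9.M23Gc4
import Cfsg.Agent.Lib.Helper9.M23Gc5

set_option autoImplicit false

/-! Generating pairs of `M23` for all the admissible triples of primes. -/

namespace Cfsg.Agent.Lib.Helper9.M23G

/-- the admissible triples -/
def triples : List (ℕ × ℕ × ℕ) :=
  [(2, 5, 11), (2, 5, 23), (2, 7, 7), (2, 7, 11), (2, 7, 23), (2, 11, 11), (2, 11, 23), (2, 23, 23), (3, 3, 11), (3, 3, 23), (3, 5, 5), (3, 5, 7), (3, 5, 11), (3, 5, 23), (3, 7, 7), (3, 7, 11), (3, 7, 23), (3, 11, 11), (3, 11, 23), (3, 23, 23), (5, 5, 5), (5, 5, 7), (5, 5, 11), (5, 5, 23), (5, 7, 7), (5, 7, 11), (5, 7, 23), (5, 11, 11), (5, 11, 23), (5, 23, 23), (7, 7, 7), (7, 7, 11), (7, 7, 23), (7, 11, 11), (7, 11, 23), (7, 23, 23), (11, 11, 11), (11, 11, 23), (11, 23, 23), (23, 23, 23)]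

theorem gen_all : ∀ t ∈ triples, Gen t.1 t.2.1 t.2.2 := by
  intro t ht
  unfold triples at ht
  simp only [List.mem_cons, List.not_mem_nil, or_false] at ht
  rcases ht with rfl | rfl | rfl | rfl | rfl | rfl | rfl | rfl | rfl | rfl | rfl | rfl | rfl | rfl | rfl | rfl | rfl | rfl | rfl | rfl | rfl | rfl | rfl | rfl | rfl | rfl | rfl | rfl | rfl | rfl | rfl | rfl | rfl | rfl | rfl | rfl | rfl | rfl | rfl | rfl
  · exact gen_2_5_11
  · exact gen_2_5_23
  · exact gen_2_7_7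
  · exact gen_2_7_11
  · exact gen_2_7_23
  · exact gen_2_11_11
  · exact gen_2_11_23
  · exact gen_2_23_23
  · exact gen_3_3_11
  · exact gen_3_3_23
  · exact gen_3_5_5
  · exact gen_3_5_7
  · exact gen_3_5_11
  · exact gen_3_5_23
  · exact gen_3_7_7
  · exact gen_3_7_11
  · exact gen_3_7_23
  · exact gen_3_11_11
  · exact gen_3_11_23
  · exact gen_3_23_23
  · exact gen_5_5_5
  · exact gen_5_5_7
  · exact gen_5_5_11
  · exact gen_5_5_23
  · exact gen_5_7_7
  · exact gen_5_7_11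
  · exact gen_5_7_23
  · exact gen_5_11_11
  · exact gen_5_11_23
  · exact gen_5_23_23
  · exact gen_7_7_7
  · exact gen_7_7_11
  · exact gen_7_7_23
  · exact gen_7_11_11
  · exact gen_7_11_23
  · exact gen_7_23_23
  · exact gen_11_11_11
  · exact gen_11_11_23
  · exact gen_11_23_23
  · exact gen_23_23_23

end Cfsg.Agent.Lib.Helper9.M23G
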