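import Cfsg.Agent.Lib.Helper9.M23Gd

set_option autoImplicit false
set_option maxRecDepth 100000
set_option linter.unusedVariables false

/-! Generation of `M23` by triples of elements of prime orders with product one. -/

namespace Cfsg.Agent.Lib.Helper9.M23G

open Cfsg Cfsg.Agent.Lib.Helper9.Ree

theorem prime_dvd_card (p : ℕ) (hp : p.Prime) (h : p ∣ 10200960) :
    p = 2 ∨ p = 3 ∨ p = 5 ∨ p = 7 ∨ p = 11 ∨ p = 23 := by
  have h1 : (10200960 : ℕ) = 2 ^ 7 * (3 ^ 2 * (5 * (7 * (11 * 23)))) := by norm_num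
  rw [h1] at h
  rcases (Nat.Prime.dvd_mul hp).mp h with h | h
  · left
    exact (Nat.prime_dvd_prime_iff_eq hp Nat.prime_two).mp (hp.dvd_of_dvd_pow h)
  rcases (Nat.Prime.dvd_mul hp).mp h with h | h
  · right; left
    exact (Nat.prime_dvd_prime_iff_eq hp Nat.prime_three).mp (hp.dvd_of_dvd_pow h)
  rcases (Nat.Prime.dvd_mul hp).mp h with h | h
  · right; right; left
    exact (Nat.prime_dvd_prime_iff_eq hp (by norm_num)).mp h
  rcases (Nat.Prime.dvd_mul hp).mp h with h | h
  · right; right; right; left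
    exact (Nat.prime_dvd_prime_iff_eq hp (by norm_num)).mp h
  rcases (Nat.Prime.dvd_mul hp).mp h with h | h
  · right; right; right; right; left
    exact (Nat.prime_dvd_prime_iff_eq hp (by norm_num)).mp h
  · right; right; right; right; right
    exact (Nat.prime_dvd_prime_iff_eq hp (by norm_num)).mp h

theorem bd_le (p : ℕ) : bd p ≤ 22 := by
  unfold bd
  split_ifs <;> norm_num

theorem rk_of_order (x : ↥Spor.M23) (p : ℕ) (hp : p.Prime) (h : orderOf x = p) :
    rk x.1 ≤ bd p := by
  apply rk_le_bd x.1 x.2 p hp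
  have h1 : x ^ p = 1 := by
    rw [← h]
    exact pow_orderOf_eq_one x
  have h2 := congrArg Subtype.val h1
  exact h2

theorem main (p q r : ℕ) (hp : p.Prime) (hq : q.Prime) (hr : r.Prime) (hpq : p ≤ q)
    (hqr : q ≤ r) (hp2 : ¬ (p = 2 ∧ q = 2))
    (hdvd : p ∣ 10200960 ∧ q ∣ 10200960 ∧ r ∣ 10200960) :
    Gen p q r ↔
      ¬ ((p = 2 ∧ q = 3) ∨ (p = 2 ∧ q = 5 ∧ r = 5) ∨ (p = 2 ∧ q = 5 ∧ r = 7) ∨
        (p = 3 ∧ q = 3 ∧ r ≤ 7)) := by
  constructor
  · rintro ⟨x, y, z, hx, hy, hz, hxyz, hgen⟩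
    have h1 := ree23 x y z hxyz hgen
    have h2 := rk_of_order x p hp hx
    have h3 := rk_of_order y q hq hy
    have h4 := rk_of_order z r hr hz
    have h5 := bd_le r
    rintro (⟨rfl, rfl⟩ | ⟨rfl, rfl, rfl⟩ | ⟨rfl, rfl, rfl⟩ | ⟨rfl, rfl, hr7⟩)
    · have e1 : bd 2 = 8 := by decide
      have e2 : bd 3 = 12 := by decide
      omega
    · have e1 : bd 2 = 8 := by decide
      have e2 : bd 5 = 16 := by decide
      omega
    · have e1 : bd 2 = 8 := by decide
      have e2 : bd 5 = 16 := by decide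
      have e3 : bd 7 = 18 := by decide
      omega
    · have e2 : bd 3 = 12 := by decide
      have e3 : bd r ≤ 18 := by
        interval_cases r <;> first | decide | (exfalso; revert hr; norm_num)
      omega
  · obtain ⟨dp, dq, dr⟩ := hdvd
    have hP := prime_dvd_card p hp dp
    have hQ := prime_dvd_card q hq dq
    have hR := prime_dvd_card r hr dr
    rcases hP with rfl | rfl | rfl | rfl | rfl | rfl <;>
    rcases hQ with rfl | rfl | rfl | rfl | rfl | rfl <;>
    rcases hR with rfl | rfl | rfl | rfl | rfl | rfl <;>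
    first
      | (exfalso; omega)
      | (intro hne; exfalso; omega)
      | (intro _; exact gen_all (_, _, _) (by decide))

end Cfsg.Agent.Lib.Helper9.M23G
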