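import Mathlib

set_option autoImplicit false

/-! A combinatorial inequality: integers `m r` congruent modulo `d` and not all equal have
`n ∑ m² - (∑ m)² ≥ (n - 1) d²`. -/

namespace Cfsg.Agent.Lib.Helper9.M24A3b

open Finset

theorem comb_ineq (n : ℕ) (m : Fin n → ℤ) (d : ℤ) (hdiv : ∀ r s, d ∣ m r - m s)
    (hne : ∃ r s, m r ≠ m s) :
    ((n : ℤ) - 1) * d ^ 2 ≤ (n : ℤ) * ∑ r, m r ^ 2 - (∑ r, m r) ^ 2 := by
  classical
  obtain ⟨r1, r0, hr⟩ := hne
  have hd0 : d ≠ 0 := by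
    rintro rfl
    apply hr
    have := hdiv r1 r0
    rw [zero_dvd_iff] at this
    linarith
  choose y hy using fun s => hdiv s r0
  have hm : ∀ s, m s = m r0 + d * y s := fun s => by linarith [hy s]
  set c := m r0 with hc
  -- the support
  set B := Finset.univ.filter (fun s : Fin n => y s ≠ 0) with hB
  have hy0 : y r0 = 0 := by
    have := hy r0
    rw [sub_self] at this
    rcases mul_eq_zero.mp this.symm with h | h
    · exact absurd h hd0
    · exact h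
  have hr1 : r1 ∈ B := by
    rw [hB, Finset.mem_filter]
    refine ⟨Finset.mem_univ _, fun h => hr ?_⟩
    rw [hm r1, h, mul_zero, add_zero]
  have hr0 : r0 ∉ B := by
    rw [hB, Finset.mem_filter]
    exact fun h => h.2 hy0
  have hb1 : 1 ≤ B.card := Finset.card_pos.mpr ⟨r1, hr1⟩
  have hbn : B.card + 1 ≤ n := by
    have h1 : (insert r0 B).card = B.card + 1 := Finset.card_insert_of_notMem hr0
    have h2 : (insert r0 B).card ≤ Fintype.card (Fin n) := Finset.card_le_univ _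
    rw [Fintype.card_fin] at h2
    omega
  have hY1 : ∑ s, y s = ∑ s ∈ B, y s := by
    rw [hB, Finset.sum_filter]
    apply Finset.sum_congr rfl
    intro s _
    by_cases h : y s = 0
    · simp [h]
    · simp [h]
  have hY2 : ∑ s, y s ^ 2 = ∑ s ∈ B, y s ^ 2 := by
    rw [hB, Finset.sum_filter]
    apply Finset.sum_congr rfl
    intro s _
    by_cases h : y s = 0
    · simp [h]
    · simp [h]
  have hY2b : (B.card : ℤ) ≤ ∑ s ∈ B, y s ^ 2 := by
    have : ∑ s ∈ B, (1 : ℤ) ≤ ∑ s ∈ B, y s ^ 2 := by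
      apply Finset.sum_le_sum
      intro s hs
      rw [hB, Finset.mem_filter] at hs
      have h1 : 0 < y s ^ 2 := by have := sq_nonneg (y s); have h2 : y s ^ 2 ≠ 0 := pow_ne_zero 2 hs.2; omega
      omega
    simpa using this
  have hCS : (∑ s ∈ B, y s) ^ 2 ≤ (B.card : ℤ) * ∑ s ∈ B, y s ^ 2 :=
    sq_sum_le_card_mul_sum_sq
  -- algebra
  have hS1 : ∑ r, m r = (n : ℤ) * c + d * ∑ s, y s := by
    rw [Finset.sum_congr rfl (fun s _ => hm s), Finset.sum_add_distrib, Finset.sum_const,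
      Finset.card_univ, Fintype.card_fin, ← Finset.mul_sum]
    simp
  have hS2 : ∑ r, m r ^ 2 = (n : ℤ) * c ^ 2 + 2 * c * d * ∑ s, y s + d ^ 2 * ∑ s, y s ^ 2 := by
    have : ∀ s, m s ^ 2 = c ^ 2 + 2 * c * d * y s + d ^ 2 * y s ^ 2 := fun s => by
      rw [hm s]; ring
    rw [Finset.sum_congr rfl (fun s _ => this s), Finset.sum_add_distrib, Finset.sum_add_distrib,
      Finset.sum_const, Finset.card_univ, Fintype.card_fin, ← Finset.mul_sum, ← Finset.mul_sum]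
    simp
  rw [hS1, hS2, hY1, hY2]
  set Y1 := ∑ s ∈ B, y s with hY1d
  set Y2 := ∑ s ∈ B, y s ^ 2 with hY2d
  set b : ℤ := (B.card : ℤ) with hbd
  have hb1' : (1 : ℤ) ≤ b := by rw [hbd]; exact_mod_cast hb1
  have hbn' : b + 1 ≤ (n : ℤ) := by rw [hbd]; exact_mod_cast hbn
  have key : (n : ℤ) - 1 ≤ (n : ℤ) * Y2 - Y1 ^ 2 := by
    nlinarith [mul_nonneg (sub_nonneg.mpr hbn') (sub_nonneg.mpr hY2b),
      mul_nonneg (sub_nonneg.mpr hb1') (by linarith : (0 : ℤ) ≤ (n : ℤ) - b - 1)]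
  have hd2 : 0 ≤ d ^ 2 := by positivity
  have : ((n : ℤ) - 1) * d ^ 2 ≤ ((n : ℤ) * Y2 - Y1 ^ 2) * d ^ 2 :=
    mul_le_mul_of_nonneg_right key hd2
  calc ((n : ℤ) - 1) * d ^ 2 ≤ ((n : ℤ) * Y2 - Y1 ^ 2) * d ^ 2 := this
    _ = (n : ℤ) * ((n : ℤ) * c ^ 2 + 2 * c * d * Y1 + d ^ 2 * Y2) - ((n : ℤ) * c + d * Y1) ^ 2 := by
        ring

end Cfsg.Agent.Lib.Helper9.M24A3b
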