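import Mathlib
import Cfsg.Prelude.Def_Blocks

set_option autoImplicit false

/-! From a bound on `∑_{1 ≤ j < q} F (g ^ j)` for each element `g` of prime order `q` to a bound on
the sum of `F` over all elements of order `q`. -/

namespace Cfsg.Agent.Lib.Helper9.M24A3c

open Finset

variable {G : Type*} [Group G] [Fintype G]

open Classical in
/-- for `j` prime to `q`, `g ↦ g ^ j` permutes the elements of order `q` -/
theorem sum_pow_eq (q : ℕ) [hq : Fact q.Prime] (F : G → ℝ) (j : ℕ) (hj : Nat.Coprime j q) :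
    ∑ g ∈ Finset.univ.filter (fun g : G => orderOf g = q), F (g ^ j) =
      ∑ g ∈ Finset.univ.filter (fun g : G => orderOf g = q), F g := by
  obtain ⟨i, _, hi⟩ := Nat.exists_mul_mod_eq_one_of_coprime hj hq.out.one_lt
  have hi' : Nat.Coprime i q := by
    have : Nat.Coprime (j * i) q := by
      rw [Nat.coprime_iff_gcd_eq_one, Nat.gcd_comm, Nat.gcd_rec, hi]
      simp
    exact Nat.Coprime.coprime_mul_left this
  have hord : ∀ (g : G) (k : ℕ), Nat.Coprime k q → orderOf g = q → orderOf (g ^ k) = q := by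
    intro g k hk hg
    rw [Nat.Coprime.orderOf_pow (by rw [hg]; exact hk.symm), hg]
  have hback : ∀ g : G, orderOf g = q → (g ^ j) ^ i = g := by
    intro g hg
    rw [← pow_mul, ← pow_mod_orderOf, hg, hi, pow_one]
  have hback' : ∀ g : G, orderOf g = q → (g ^ i) ^ j = g := by
    intro g hg
    rw [← pow_mul, mul_comm, ← pow_mod_orderOf, hg, hi, pow_one]
  apply Finset.sum_nbij' (fun g => g ^ j) (fun g => g ^ i)
  · intro g hg
    rw [Finset.mem_filter] at hg ⊢
    exact ⟨Finset.mem_univ _, hord g j hj hg.2⟩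
  · intro g hg
    rw [Finset.mem_filter] at hg ⊢
    exact ⟨Finset.mem_univ _, hord g i hi' hg.2⟩
  · intro g hg
    rw [Finset.mem_filter] at hg
    exact hback g hg.2
  · intro g hg
    rw [Finset.mem_filter] at hg
    exact hback' g hg.2
  · intro g _
    rfl

open Classical in
/-- local bound on each cyclic subgroup of order `q` implies the global bound -/
theorem sum_orderOf_ge (q : ℕ) [hq : Fact q.Prime] (F : G → ℝ) (c : ℝ)
    (hloc : ∀ g : G, orderOf g = q → ((q : ℝ) - 1) * c ≤ ∑ j ∈ Finset.Ico 1 q, F (g ^ j)) :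
    c * ((Finset.univ.filter (fun g : G => orderOf g = q)).card : ℝ) ≤
      ∑ g ∈ Finset.univ.filter (fun g : G => orderOf g = q), F g := by
  set S := Finset.univ.filter (fun g : G => orderOf g = q) with hS
  have h1 : ∑ g ∈ S, ((q : ℝ) - 1) * c ≤ ∑ g ∈ S, ∑ j ∈ Finset.Ico 1 q, F (g ^ j) := by
    apply Finset.sum_le_sum
    intro g hg
    rw [hS, Finset.mem_filter] at hg
    exact hloc g hg.2
  rw [Finset.sum_comm] at h1
  have h2 : ∀ j ∈ Finset.Ico 1 q, ∑ g ∈ S, F (g ^ j) = ∑ g ∈ S, F g := by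
    intro j hj
    rw [Finset.mem_Ico] at hj
    apply sum_pow_eq q F j
    rw [Nat.coprime_comm]
    exact Nat.coprime_of_lt_prime (by omega) hj.2 hq.out
  rw [Finset.sum_congr rfl h2] at h1
  rw [Finset.sum_const, Finset.sum_const, Nat.card_Ico, nsmul_eq_mul, nsmul_eq_mul] at h1
  have hq1 : (0 : ℝ) < (q : ℝ) - 1 := by
    have : (1 : ℝ) < q := by exact_mod_cast hq.out.one_lt
    linarith
  have hcast : ((q - 1 : ℕ) : ℝ) = (q : ℝ) - 1 := by
    rw [Nat.cast_sub hq.out.one_lt.le, Nat.cast_one]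
  rw [hcast] at h1
  have h3 : ((q : ℝ) - 1) * (c * (S.card : ℝ)) ≤ ((q : ℝ) - 1) * ∑ g ∈ S, F g := by
    calc ((q : ℝ) - 1) * (c * (S.card : ℝ)) = (S.card : ℝ) * (((q : ℝ) - 1) * c) := by ring
      _ ≤ ((q : ℝ) - 1) * ∑ g ∈ S, F g := h1
  exact le_of_mul_le_mul_left h3 hq1

open Classical in
/-- the stub shape of A3c, from the local statement (whatever its hypotheses were) -/
theorem a3c_of_local (p q k : ℕ) [Fact q.Prime] (χ : G → ℂ)
    (hloc : ∀ g : G, orderOf g = q →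
      ((q : ℝ) - 1) * (p : ℝ) ^ (2 * k) ≤ ∑ j ∈ Finset.Ico 1 q, ‖χ (g ^ j)‖ ^ 2) :
    ((p : ℝ) ^ (2 * k)) * ((Finset.univ.filter (fun g : G => orderOf g = q)).card : ℝ)
      ≤ ∑ g ∈ Finset.univ.filter (fun g : G => orderOf g = q), ‖χ g‖ ^ 2 :=
  sum_orderOf_ge q (fun g => ‖χ g‖ ^ 2) ((p : ℝ) ^ (2 * k)) hloc

end Cfsg.Agent.Lib.Helper9.M24A3c
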