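import Mathlib
import Cfsg.Agent.Lib.Helper9.M24A3c
import Cfsg.Agent.Lib.Helper9.M24A3b
import Cfsg.Agent.Lib.Helper4.DegSet

set_option autoImplicit false

/-! The global bound A3c from the multiplicity statement A3a. -/

namespace Cfsg.Agent.Lib.Helper9.M24A3c

open Finset

variable {G : Type*} [Group G] [Fintype G]

/-- the local bound from the multiplicities of the restriction to a cyclic subgroup -/
theorem local_of_mult (p q k : ℕ) [hq : Fact q.Prime] (χ : G → ℂ) (deg : ℕ)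
    (h1 : χ 1 = (deg : ℂ)) (hqd : ¬ q ∣ deg) (g : G)
    (hA : ∃ m : Fin q → ℤ, (∑ r, m r = (deg : ℤ)) ∧
      (∑ j ∈ Finset.range q, ‖χ (g ^ j)‖ ^ 2 = (q : ℝ) * ∑ r, ((m r : ℤ) : ℝ) ^ 2) ∧
      ∀ r s, (p : ℤ) ^ k ∣ m r - m s) :
    ((q : ℝ) - 1) * (p : ℝ) ^ (2 * k) ≤ ∑ j ∈ Finset.Ico 1 q, ‖χ (g ^ j)‖ ^ 2 := by
  obtain ⟨m, hsum, hpars, hdiv⟩ := hA
  have hq0 : 0 < q := hq.out.pos
  have hne : ∃ r s, m r ≠ m s := by
    by_contra hall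
    push Not at hall
    apply hqd
    have hconst : ∀ r, m r = m ⟨0, hq0⟩ := fun r => hall r _
    have : ∑ r, m r = (q : ℤ) * m ⟨0, hq0⟩ := by
      rw [Finset.sum_congr rfl (fun r _ => hconst r), Finset.sum_const, Finset.card_univ,
        Fintype.card_fin]
      simp
    rw [hsum] at this
    have hdvd : (q : ℤ) ∣ (deg : ℤ) := ⟨_, this⟩
    exact_mod_cast hdvd
  have hcomb := Cfsg.Agent.Lib.Helper9.M24A3b.comb_ineq q m ((p : ℤ) ^ k) hdiv hne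
  rw [hsum] at hcomb
  have hsplit : ∑ j ∈ Finset.range q, ‖χ (g ^ j)‖ ^ 2 =
      ‖χ (g ^ 0)‖ ^ 2 + ∑ j ∈ Finset.Ico 1 q, ‖χ (g ^ j)‖ ^ 2 := by
    rw [Finset.range_eq_Ico, Finset.sum_eq_sum_Ico_succ_bot hq0]
  rw [pow_zero, h1] at hsplit
  have hnorm : ‖((deg : ℕ) : ℂ)‖ ^ 2 = (deg : ℝ) ^ 2 := by
    rw [Complex.norm_natCast]
  rw [hnorm, hpars] at hsplit
  have hcast : (((q : ℤ) - 1) * ((p : ℤ) ^ k) ^ 2 : ℝ) ≤
      (q : ℝ) * ∑ r, ((m r : ℤ) : ℝ) ^ 2 - (deg : ℝ) ^ 2 := by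
    have := (Int.cast_le (R := ℝ)).mpr hcomb
    push_cast at this
    exact this
  have hpow : ((p : ℝ) ^ k) ^ 2 = (p : ℝ) ^ (2 * k) := by
    rw [← pow_mul, mul_comm]
  rw [← hpow]
  simp only [Int.cast_natCast] at hcast
  linarith

open Classical in
/-- A3c in the stub shape, with the conclusion of A3a as a hypothesis -/
theorem a3c_of_a3a (p q k : ℕ) [Fact q.Prime] (χ : Cfsg.IrrCharacter G)
    (hq : ¬ q ∣ Cfsg.charDegree (χ : G → ℂ))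
    (hA : ∀ g : G, orderOf g = q →
      ∃ m : Fin q → ℤ, (∑ r, m r = (Cfsg.charDegree (χ : G → ℂ) : ℤ)) ∧
        (∑ j ∈ Finset.range q, ‖(χ : G → ℂ) (g ^ j)‖ ^ 2 = (q : ℝ) * ∑ r, ((m r : ℤ) : ℝ) ^ 2) ∧
        ∀ r s, (p : ℤ) ^ k ∣ m r - m s) :
    ((p : ℝ) ^ (2 * k)) * ((Finset.univ.filter (fun g : G => orderOf g = q)).card : ℝ)
      ≤ ∑ g ∈ Finset.univ.filter (fun g : G => orderOf g = q), ‖(χ : G → ℂ) g‖ ^ 2 :=
  a3c_of_local p q k (χ : G → ℂ) fun g hg =>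
    local_of_mult p q k (χ : G → ℂ) _ (Cfsg.Agent.Lib.Helper4.apply_one_eq_charDegree χ) hq g
      (hA g hg)

end Cfsg.Agent.Lib.Helper9.M24A3c
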