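import Cfsg.Agent.Lib.Helper9.M24A3d
import Cfsg.Agent.Lib.Helper7.M24A3a

/-!
# S5006 / A3c: the global lower bound, verbatim stub shape

`a3c_sum_ge` = `a3c_of_a3a` (helper9) applied to `a3a_mult` (helper7, with helper1's `mult_nat`).
-/

set_option autoImplicit false

namespace Cfsg.Agent.Lib.Helper9.M24A3e

open Classical in
/-- **A3c**, verbatim the `a3c_sum_ge` stub of helper2's S5006 plan. -/
theorem a3c_sum_ge {G : Type*} [Group G] [Fintype G] (p q k : ℕ) [Fact p.Prime] [Fact q.Prime]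
    (hpq : p ≠ q) (χ : Cfsg.IrrCharacter G)
    (hdef : (Cfsg.charDegree (χ : G → ℂ)).factorization p = (Nat.card G).factorization p)
    (hq : ¬ q ∣ Cfsg.charDegree (χ : G → ℂ))
    (hC : ∀ g : G, orderOf g = q → p ^ k ∣ Nat.card (Subgroup.centralizer ({g} : Set G))) :
    ((p : ℝ) ^ (2 * k)) * ((Finset.univ.filter (fun g : G => orderOf g = q)).card : ℝ)
      ≤ ∑ g ∈ Finset.univ.filter (fun g : G => orderOf g = q), ‖(χ : G → ℂ) g‖ ^ 2 := by
  have h := Cfsg.Agent.Lib.Helper9.M24A3c.a3c_of_a3a p q k χ hq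
    (fun g hg => Cfsg.Agent.Lib.Helper7.M24A3a.a3a_mult p q k hpq χ hdef g hg (hC g hg))
  convert h using 3
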