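import Cfsg.Agent.Lib.Helper9.M24Rad3
import Cfsg.Agent.Lib.Helper3.M24A1

/-!
# S5006 / C6: hypothesis (H2) for `M24`, verbatim stub shape

A radical `2`-subgroup `D ≠ 1` of `M24` has no nontrivial centralizing element of odd order.
`h2_M24` (`M24Rad3`) + helper3's A1 (`a1_rad_centralizes`).
-/

set_option autoImplicit false

namespace Cfsg.Agent.Lib.Helper9.M24C6

/-- **C6**, verbatim the `c6_H2` stub of helper2's S5006 plan. -/
theorem c6_H2 (D : Subgroup ↥Cfsg.M24) (hD : D ≠ ⊥) (hD2 : IsPGroup 2 D)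
    (hrad : (Cfsg.pCore 2 (Subgroup.normalizer (D : Set ↥Cfsg.M24))).map
      (Subgroup.normalizer (D : Set ↥Cfsg.M24)).subtype = D)
    (x : ↥Cfsg.M24) (hx : x ∈ Subgroup.centralizer (D : Set ↥Cfsg.M24))
    (hx2 : ¬ 2 ∣ orderOf x) : x = 1 :=
  Cfsg.Agent.Lib.Helper9.M24Rad.h2_M24 D hD2 hD
    (fun H R hDH hCH _ hRn hR2 y hy hy2 =>
      Cfsg.Agent.Lib.Helper3.M24A.a1_rad_centralizes D hD2 hrad y hy hy2 H R hDH hCH hRn hR2)
    x hx hx2

end Cfsg.Agent.Lib.Helper9.M24C6
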