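import Mathlib

set_option autoImplicit false

/-! Kernel-friendly orbit-cover certificates: packed tables, bounded loops, and the soundness of a
spanning-forest certificate for the orbits of a subgroup on a coded set. -/

namespace Cfsg.Agent.Lib.Helper9.M24F1

/-- lane `i` of width `w` of a packed table `T`, with `msk = 2 ^ w - 1` -/
def lane (w msk T i : ℕ) : ℕ := Nat.land (Nat.shiftRight T (Nat.mul w i)) msk

/-- bounded universal quantifier as a loop -/
def allB (n : ℕ) (f : ℕ → Bool) : Bool := Nat.rec true (fun i acc => f i && acc) n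

theorem allB_succ (n : ℕ) (f : ℕ → Bool) : allB (n + 1) f = (f n && allB n f) := rfl

theorem allB_iff (n : ℕ) (f : ℕ → Bool) : allB n f = true ↔ ∀ i < n, f i = true := by
  induction n with
  | zero => exact ⟨fun _ i hi => absurd hi (Nat.not_lt_zero i), fun _ => rfl⟩
  | succ n ih =>
    rw [allB_succ, Bool.and_eq_true, ih]
    constructor
    · rintro ⟨h1, h2⟩ i hi
      rcases Nat.lt_succ_iff_lt_or_eq.mp hi with h | rfl
      · exact h2 i h
      · exact h1
    · intro h
      exact ⟨h n (Nat.lt_succ_self n), fun i hi => h i (Nat.lt_succ_of_lt hi)⟩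

theorem beq_iff (a b : ℕ) : Nat.beq a b = true ↔ a = b :=
  ⟨Nat.eq_of_beq_eq_true, fun h => h ▸ Nat.beq_refl a⟩

/-- bounded counting as a loop -/
def countB (n : ℕ) (f : ℕ → Bool) : ℕ := Nat.rec 0 (fun i acc => Bool.rec acc (Nat.succ acc) (f i)) n

theorem countB_succ (n : ℕ) (f : ℕ → Bool) :
    countB (n + 1) f = Bool.rec (countB n f) (Nat.succ (countB n f)) (f n) := rfl

theorem countB_eq (n : ℕ) (f : ℕ → Bool) :
    countB n f = ((Finset.range n).filter fun i => f i = true).card := by
  induction n with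
  | zero => rfl
  | succ n ih =>
    rw [countB_succ, Finset.range_add_one, Finset.filter_insert]
    cases h : f n
    · simp only [Bool.false_eq_true, if_false]
      exact ih
    · simp only [if_true]
      rw [Finset.card_insert_of_notMem (by simp), ← ih]

section cover

variable {G : Type*} [Group G] {α : Type*} [MulAction G α]

/-- soundness of a forest certificate: every coded object is in the orbit of the representative
with its label -/
theorem cover_sound (H : Subgroup G) (X : ℕ → α) (V : ℕ → Prop) (n ng : ℕ) (code : ℕ → ℕ)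
    (hV : ∀ r < n, V (code r))
    (acts : ℕ → ℕ → ℕ)
    (hacts : ∀ j < ng, ∀ c, V c → V (acts j c) ∧ ∃ h ∈ H, h • X c = X (acts j c))
    (eqv : ℕ → ℕ → Bool) (heqv : ∀ a b, V a → V b → eqv a b = true → X a = X b)
    (par gen lab dep reps : ℕ → ℕ)
    (hchk : ∀ r < n, (r = reps (lab r)) ∨ (par r < n ∧ dep (par r) < dep r ∧
      lab (par r) = lab r ∧ gen r < ng ∧ eqv (acts (gen r) (code (par r))) (code r) = true)) :
    ∀ r < n, ∃ h ∈ H, h • X (code (reps (lab r))) = X (code r) := by
  have key : ∀ d r, r < n → dep r = d → ∃ h ∈ H, h • X (code (reps (lab r))) = X (code r) := by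
    intro d
    induction d using Nat.strong_induction_on with
    | _ d ih =>
      intro r hr hd
      rcases hchk r hr with h0 | ⟨hp, hdp, hl, hg, he⟩
      · exact ⟨1, H.one_mem, by rw [one_smul, ← h0]⟩
      · obtain ⟨h, hh, e⟩ := ih (dep (par r)) (by omega) (par r) hp rfl
        obtain ⟨hv, g, hg, eg⟩ := hacts (gen r) hg (code (par r)) (hV _ hp)
        refine ⟨g * h, H.mul_mem hg hh, ?_⟩
        rw [mul_smul, ← hl, e, eg]
        exact heqv _ _ hv (hV r hr) he
  intro r hr
  exact key (dep r) r hr rfl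

/-! ### packed certificates

An entry is `par + 2^12 * gen + 2^15 * lab + 2^18 * dep`. -/

/-- parent field -/
def fPar (e : ℕ) : ℕ := Nat.land e 4095
/-- generator field -/
def fGen (e : ℕ) : ℕ := Nat.land (Nat.shiftRight e 12) 7
/-- label field -/
def fLab (e : ℕ) : ℕ := Nat.land (Nat.shiftRight e 15) 7
/-- depth field -/
def fDep (e : ℕ) : ℕ := Nat.shiftRight e 18

/-- the check for a non-root entry `e` at index `r` with parent entry `e'` -/
def chkN (n ng : ℕ) (code : ℕ → ℕ) (acts : ℕ → ℕ → ℕ) (eqv : ℕ → ℕ → Bool) (r e e' : ℕ) : Bool :=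
  Nat.ble (Nat.succ (fPar e)) n && (Nat.ble (Nat.succ (fDep e')) (fDep e) &&
    (Nat.beq (fLab e') (fLab e) && (Nat.ble (Nat.succ (fGen e)) ng &&
      eqv (acts (fGen e) (code (fPar e))) (code r))))

/-- the check for the entry at index `r` -/
def chk1 (n ng m : ℕ) (code : ℕ → ℕ) (acts : ℕ → ℕ → ℕ) (eqv : ℕ → ℕ → Bool) (CERT REPS r : ℕ) :
    Bool :=
  Nat.ble (Nat.succ (fLab (lane 24 16777215 CERT r))) m &&
  Bool.rec
    (chkN n ng code acts eqv r (lane 24 16777215 CERT r)
      (lane 24 16777215 CERT (fPar (lane 24 16777215 CERT r))))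
    (Nat.beq r (lane 12 4095 REPS (fLab (lane 24 16777215 CERT r))))
    (Nat.beq (fDep (lane 24 16777215 CERT r)) 0)

/-- the whole certificate check -/
def checkAll (n ng m : ℕ) (code : ℕ → ℕ) (acts : ℕ → ℕ → ℕ) (eqv : ℕ → ℕ → Bool) (CERT REPS : ℕ) :
    Bool :=
  allB n (chk1 n ng m code acts eqv CERT REPS)

theorem ble_succ_iff (a b : ℕ) : Nat.ble (Nat.succ a) b = true ↔ a < b := by
  rw [Nat.ble_eq]
  exact Nat.succ_le_iff

theorem cert_sound (H : Subgroup G) (X : ℕ → α) (V : ℕ → Prop) (n ng m : ℕ) (code : ℕ → ℕ)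
    (hV : ∀ r < n, V (code r))
    (acts : ℕ → ℕ → ℕ)
    (hacts : ∀ j < ng, ∀ c, V c → V (acts j c) ∧ ∃ h ∈ H, h • X c = X (acts j c))
    (eqv : ℕ → ℕ → Bool) (heqv : ∀ a b, V a → V b → eqv a b = true → X a = X b)
    (CERT REPS : ℕ) (hchk : checkAll n ng m code acts eqv CERT REPS = true) :
    (∀ r < n, fLab (lane 24 16777215 CERT r) < m) ∧
    ∀ r < n, ∃ h ∈ H, h • X (code (lane 12 4095 REPS (fLab (lane 24 16777215 CERT r)))) =
      X (code r) := by
  have h1 := (allB_iff _ _).mp hchk
  refine ⟨fun r hr => ?_, ?_⟩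
  · have := h1 r hr
    unfold chk1 at this
    rw [Bool.and_eq_true, ble_succ_iff] at this
    exact this.1
  · apply cover_sound H X V n ng code hV acts hacts eqv heqv
      (fun r => fPar (lane 24 16777215 CERT r)) (fun r => fGen (lane 24 16777215 CERT r))
      (fun r => fLab (lane 24 16777215 CERT r)) (fun r => fDep (lane 24 16777215 CERT r))
      (fun k => lane 12 4095 REPS k)
    intro r hr
    have := h1 r hr
    unfold chk1 at this
    rw [Bool.and_eq_true] at this
    have h2 := this.2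
    cases hd : Nat.beq (fDep (lane 24 16777215 CERT r)) 0
    · rw [hd] at h2
      right
      change chkN n ng code acts eqv r _ _ = true at h2
      unfold chkN at h2
      simp only [Bool.and_eq_true, ble_succ_iff, beq_iff] at h2
      exact ⟨h2.1, h2.2.1, h2.2.2.1, h2.2.2.2.1, h2.2.2.2.2⟩
    · rw [hd] at h2
      left
      exact (beq_iff _ _).mp h2

end cover

section orbits

variable {G : Type*} [Group G] {α : Type*} [MulAction G α]

/-- from a cover by orbits of labelled representatives and a separating invariant: the orbits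
are the level sets of the invariant, with sizes given by counting labels -/
theorem orbits_of_cover (H : Subgroup G) (U : Set α) (X : ℕ → α) (n : ℕ) (code : ℕ → ℕ)
    (hUiff : ∀ y, y ∈ U ↔ ∃ r < n, y = X (code r))
    (hinj : ∀ r < n, ∀ r' < n, X (code r) = X (code r') → r = r')
    (inv : α → ℕ) (hinv : ∀ h ∈ H, ∀ y ∈ U, inv (h • y) = inv y)
    (hUH : ∀ h ∈ H, ∀ y ∈ U, h • y ∈ U)
    (lab reps : ℕ → ℕ) (m : ℕ) (hlab : ∀ r < n, lab r < m) (hreps : ∀ k < m, reps k < n)
    (hsep : ∀ k < m, ∀ k' < m,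
      inv (X (code (reps k))) = inv (X (code (reps k'))) → k = k')
    (hcov : ∀ r < n, ∃ h ∈ H, h • X (code (reps (lab r))) = X (code r)) :
    (∀ y ∈ U, ∃ k < m, y ∈ MulAction.orbit H (X (code (reps k)))) ∧
    ∀ k < m, MulAction.orbit H (X (code (reps k))) =
        {y | y ∈ U ∧ inv y = inv (X (code (reps k)))} ∧
      (MulAction.orbit H (X (code (reps k)))).ncard = countB n (fun r => Nat.beq (lab r) k) := by
  classical
  have hmemU : ∀ r < n, X (code r) ∈ U := fun r hr => (hUiff _).mpr ⟨r, hr, rfl⟩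
  have hinvr : ∀ r < n, inv (X (code r)) = inv (X (code (reps (lab r)))) := by
    intro r hr
    obtain ⟨h, hh, e⟩ := hcov r hr
    rw [← e]
    exact hinv h hh _ (hmemU _ (hreps _ (hlab r hr)))
  have horb : ∀ k < m, MulAction.orbit H (X (code (reps k))) =
      {y | y ∈ U ∧ inv y = inv (X (code (reps k)))} := by
    intro k hk
    ext y
    constructor
    · rintro ⟨h, rfl⟩
      exact ⟨hUH h.1 h.2 _ (hmemU _ (hreps k hk)), hinv h.1 h.2 _ (hmemU _ (hreps k hk))⟩
    · rintro ⟨hy, hi⟩
      obtain ⟨r, hr, rfl⟩ := (hUiff y).mp hy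
      obtain ⟨h, hh, e⟩ := hcov r hr
      have : lab r = k := hsep _ (hlab r hr) k hk (by rw [← hinvr r hr, hi])
      rw [← e, this]
      exact ⟨⟨h, hh⟩, rfl⟩
  refine ⟨?_, fun k hk => ⟨horb k hk, ?_⟩⟩
  · intro y hy
    obtain ⟨r, hr, rfl⟩ := (hUiff y).mp hy
    obtain ⟨h, hh, e⟩ := hcov r hr
    exact ⟨lab r, hlab r hr, ⟨⟨h, hh⟩, e⟩⟩
  · rw [horb k hk, countB_eq]
    have hset : {y | y ∈ U ∧ inv y = inv (X (code (reps k)))} =
        ((((Finset.range n).filter fun r => Nat.beq (lab r) k = true).image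
          fun r => X (code r) : Finset α) : Set α) := by
      ext y
      rw [Finset.mem_coe, Finset.mem_image]
      constructor
      · rintro ⟨hy, hi⟩
        obtain ⟨r, hr, rfl⟩ := (hUiff y).mp hy
        refine ⟨r, ?_, rfl⟩
        rw [Finset.mem_filter, Finset.mem_range]
        refine ⟨hr, ?_⟩
        rw [beq_iff]
        exact hsep _ (hlab r hr) k hk (by rw [← hinvr r hr, hi])
      · rintro ⟨r, hr, rfl⟩
        rw [Finset.mem_filter, Finset.mem_range, beq_iff] at hr
        exact ⟨hmemU r hr.1, by rw [hinvr r hr.1, hr.2]⟩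
    rw [hset, Set.ncard_coe_finset, Finset.card_image_of_injOn]
    intro r hr r' hr' e
    rw [Finset.mem_coe, Finset.mem_filter, Finset.mem_range] at hr hr'
    exact hinj r hr.1 r' hr'.1 e

/-- the same for a conjugate of the base subgroup: the cover is computed for `H`, the conclusion
is about `H'` containing the conjugate of `H` by `g`, with all objects moved by `g` -/
theorem orbits_of_cover_conj (H H' : Subgroup G) (g : G) (hconj : ∀ h ∈ H, g * h * g⁻¹ ∈ H')
    (U : Set α) (hUg : ∀ y, g • y ∈ U ↔ y ∈ U) (X : ℕ → α) (n : ℕ) (code : ℕ → ℕ)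
    (hUiff : ∀ y, y ∈ U ↔ ∃ r < n, y = X (code r))
    (hinj : ∀ r < n, ∀ r' < n, X (code r) = X (code r') → r = r')
    (inv' : α → ℕ) (hinv' : ∀ h ∈ H', ∀ y ∈ U, inv' (h • y) = inv' y)
    (hUH' : ∀ h ∈ H', ∀ y ∈ U, h • y ∈ U)
    (lab reps : ℕ → ℕ) (m : ℕ) (hlab : ∀ r < n, lab r < m) (hreps : ∀ k < m, reps k < n)
    (hsep : ∀ k < m, ∀ k' < m,
      inv' (g • X (code (reps k))) = inv' (g • X (code (reps k'))) → k = k')
    (hcov : ∀ r < n, ∃ h ∈ H, h • X (code (reps (lab r))) = X (code r)) :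
    (∀ y ∈ U, ∃ k < m, y ∈ MulAction.orbit H' (g • X (code (reps k)))) ∧
    ∀ k < m, MulAction.orbit H' (g • X (code (reps k))) =
        {y | y ∈ U ∧ inv' y = inv' (g • X (code (reps k)))} ∧
      (MulAction.orbit H' (g • X (code (reps k)))).ncard =
        countB n (fun r => Nat.beq (lab r) k) := by
  apply orbits_of_cover H' U (fun c => g • X c) n code _ _ inv' hinv' hUH' lab reps m hlab hreps
    hsep
  · intro r hr
    obtain ⟨h, hh, e⟩ := hcov r hr
    refine ⟨g * h * g⁻¹, hconj h hh, ?_⟩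
    rw [mul_smul, mul_smul, inv_smul_smul, e]
  · intro y
    constructor
    · intro hy
      have : g⁻¹ • y ∈ U := by
        rw [← hUg, smul_inv_smul]
        exact hy
      obtain ⟨r, hr, e⟩ := (hUiff _).mp this
      exact ⟨r, hr, by rw [← e, smul_inv_smul]⟩
    · rintro ⟨r, hr, rfl⟩
      rw [hUg]
      exact (hUiff _).mpr ⟨r, hr, rfl⟩
  · intro r hr r' hr' e
    exact hinj r hr r' hr' (smul_left_cancel g e)

/-- conjugating the base object conjugates the orbits of its stabilizer -/
theorem orbit_stabilizer_smul {β : Type*} [MulAction G β] (g : G) (B : β) (y : α) :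
    MulAction.orbit (MulAction.stabilizer G (g • B)) (g • y) =
      (fun z => g • z) '' MulAction.orbit (MulAction.stabilizer G B) y := by
  ext z
  constructor
  · rintro ⟨⟨h, hh⟩, rfl⟩
    rw [MulAction.mem_stabilizer_iff] at hh
    refine ⟨(g⁻¹ * h * g) • y, ⟨⟨g⁻¹ * h * g, ?_⟩, rfl⟩, ?_⟩
    · rw [MulAction.mem_stabilizer_iff, mul_smul, mul_smul, hh, inv_smul_smul]
    · change g • (g⁻¹ * h * g) • y = h • g • y
      rw [← mul_smul, ← mul_smul, mul_assoc, mul_inv_cancel_left]
  · rintro ⟨_, ⟨⟨h, hh⟩, rfl⟩, rfl⟩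
    rw [MulAction.mem_stabilizer_iff] at hh
    refine ⟨⟨g * h * g⁻¹, ?_⟩, ?_⟩
    · rw [MulAction.mem_stabilizer_iff, mul_smul, mul_smul, inv_smul_smul, hh]
    · change (g * h * g⁻¹) • g • y = g • h • y
      rw [← mul_smul, ← mul_smul, mul_assoc, mul_assoc, inv_mul_cancel, mul_one]

theorem ncard_orbit_stabilizer_smul {β : Type*} [MulAction G β] (g : G) (B : β) (y : α) :
    (MulAction.orbit (MulAction.stabilizer G (g • B)) (g • y)).ncard =
      (MulAction.orbit (MulAction.stabilizer G B) y).ncard := by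
  rw [orbit_stabilizer_smul, Set.ncard_image_of_injective _ (MulAction.injective g)]

end orbits

end Cfsg.Agent.Lib.Helper9.M24F1
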