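import Cfsg.Agent.Lib.Helper9.M24U1

set_option autoImplicit false

namespace Cfsg.Agent.Lib.Helper9.M24U2

open Cfsg Finset Cfsg.Agent.Lib.Helper9.Golay1 Cfsg.Agent.Lib.Helper9.GolayQR1
  Cfsg.Agent.Lib.Helper9.GolayQR2 Cfsg.Agent.Lib.Helper9.GolayQR3 Cfsg.Agent.Lib.Helper9.GolayQR4
  Cfsg.Agent.Lib.Helper9.GolayQR5 Cfsg.Agent.Lib.Helper9.GolayQR7 Cfsg.Agent.Lib.Helper9.GolayQR8
  Cfsg.Agent.Lib.Helper9.M24T1 Cfsg.Agent.Lib.Helper9.M24U1
open scoped Pointwise

/-- the mask of the codeword with systematic coordinates given by the bits of `k` -/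
def codeOf (k : ℕ) : ℕ :=
  m12 (k.testBit 0) (k.testBit 1) (k.testBit 2) (k.testBit 3) (k.testBit 4) (k.testBit 5)
    (k.testBit 6) (k.testBit 7) (k.testBit 8) (k.testBit 9) (k.testBit 10) (k.testBit 11)

/-- the masks of the 4096 codewords -/
def codeList : List ℕ := (List.range 4096).map codeOf

/-- the number with given low twelve bits -/
def kOf (a0 a1 a2 a3 a4 a5 a6 a7 a8 a9 a10 a11 : Bool) : ℕ :=
  a0.toNat + 2 * a1.toNat + 4 * a2.toNat + 8 * a3.toNat + 16 * a4.toNat + 32 * a5.toNat +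
    64 * a6.toNat + 128 * a7.toNat + 256 * a8.toNat + 512 * a9.toNat + 1024 * a10.toNat +
    2048 * a11.toNat

theorem codeOf_kOf : ∀ a0 a1 a2 a3 a4 a5 a6 a7 a8 a9 a10 a11 : Bool,
    kOf a0 a1 a2 a3 a4 a5 a6 a7 a8 a9 a10 a11 < 4096 ∧
    codeOf (kOf a0 a1 a2 a3 a4 a5 a6 a7 a8 a9 a10 a11) =
      m12 a0 a1 a2 a3 a4 a5 a6 a7 a8 a9 a10 a11 := by
  decide +kernel

theorem codeList_check :
    (List.range 4096).all
      (fun k => decide (reprod (codeOf k) = codeOf k ∧ codeOf k < 16777216)) = true := by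
  decide +kernel

theorem codeList_reprod : ∀ m ∈ codeList, reprod m = m ∧ m < 16777216 := by
  intro m hm
  obtain ⟨k, hk, rfl⟩ := List.mem_map.mp hm
  have := List.all_eq_true.mp codeList_check k hk
  exact of_decide_eq_true this

theorem mem_golayCode_iff (c : GolayPt → ZMod 2) :
    c ∈ golayCode ↔ ∃ m ∈ codeList, c = dec m := by
  constructor
  · intro hc
    obtain ⟨g, rfl⟩ := exists_coords c hc
    rw [sum_eq_dec]
    obtain ⟨h1, h2⟩ := codeOf_kOf (bit (g 0)) (bit (g 1)) (bit (g 2)) (bit (g 3)) (bit (g 4))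
      (bit (g 5)) (bit (g 6)) (bit (g 7)) (bit (g 8)) (bit (g 9)) (bit (g 10)) (bit (g 11))
    refine ⟨_, ?_, rfl⟩
    rw [← h2]
    exact List.mem_map.mpr ⟨_, List.mem_range.mpr h1, rfl⟩
  · rintro ⟨m, hm, rfl⟩
    exact dec_mem_of_reprod m (codeList_reprod m hm).1

/-- the masks of the octads -/
def octadList : List ℕ := codeList.filter fun m => wt24 m = 8

/-- the masks of the dodecads -/
def dodecadList : List ℕ := codeList.filter fun m => wt24 m = 12

theorem mem_wordsOfWeight_iff (n : ℕ) (o : Finset GolayPt) :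
    o ∈ wordsOfWeight (golayCode : Set (GolayPt → ZMod 2)) n ↔
      ∃ m ∈ codeList.filter (fun m => wt24 m = n), o = M m := by
  constructor
  · rintro ⟨⟨c, hc, rfl⟩, hn⟩
    obtain ⟨m, hm, rfl⟩ := (mem_golayCode_iff c).mp hc
    refine ⟨m, ?_, (supp_eq_support₂ _).symm⟩
    rw [List.mem_filter]
    refine ⟨hm, ?_⟩
    rw [← supp_eq_support₂, ← wt_eq, wt_dec] at hn
    simpa using hn
  · rintro ⟨m, hm, rfl⟩
    rw [List.mem_filter] at hm
    refine ⟨⟨dec m, (mem_golayCode_iff _).mpr ⟨m, hm.1, rfl⟩, (supp_eq_support₂ _).symm⟩, ?_⟩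
    rw [card_M]
    simpa using hm.2

theorem mem_octads_iff (o : Finset GolayPt) : o ∈ octads ↔ ∃ m ∈ octadList, o = M m :=
  mem_wordsOfWeight_iff 8 o

theorem mem_dodecads_iff (o : Finset GolayPt) : o ∈ dodecads ↔ ∃ m ∈ dodecadList, o = M m :=
  mem_wordsOfWeight_iff 12 o

theorem octadList_lt (m : ℕ) (hm : m ∈ octadList) : m < 2 ^ 24 :=
  (codeList_reprod m (List.mem_filter.mp hm).1).2

theorem dodecadList_lt (m : ℕ) (hm : m ∈ dodecadList) : m < 2 ^ 24 :=
  (codeList_reprod m (List.mem_filter.mp hm).1).2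

end Cfsg.Agent.Lib.Helper9.M24U2
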