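import Cfsg.Agent.Lib.Helper9.M24F1
import Cfsg.Agent.Lib.Helper9.M24U2

set_option autoImplicit false

/-! Kernel-friendly primitives on 24-bit masks: applying a packed permutation, and a table-driven
octad test. -/

namespace Cfsg.Agent.Lib.Helper9.M24F2

open Cfsg Finset Cfsg.Agent.Lib.Helper9.GolayQR1 Cfsg.Agent.Lib.Helper9.M24T1
  Cfsg.Agent.Lib.Helper9.M24U1 Cfsg.Agent.Lib.Helper9.M24U2 Cfsg.Agent.Lib.Helper9.M24F1
open scoped Pointwise

/-! ### applying a packed permutation -/

/-- gather along a packed table of 5-bit entries: bit `j` of the result is bit `P[j]` of `m`,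
for `j < n` -/
def pmGn (P m n : ℕ) : ℕ :=
  Nat.rec 0 (fun j acc =>
    Nat.lor acc (Nat.shiftLeft (Nat.land (Nat.shiftRight m (lane 5 31 P j)) 1) j)) n

/-- gather along a packed table of 24 entries -/
def pmG (P m : ℕ) : ℕ := pmGn P m 24

theorem pmGn_succ (P m n : ℕ) :
    pmGn P m (n + 1) = pmGn P m n ||| (((m >>> lane 5 31 P n) &&& 1) <<< n) := rfl

theorem testBit_bit_shift (m a n k : ℕ) :
    (((m >>> a) &&& 1) <<< n).testBit k = (decide (k = n) && m.testBit a) := by
  rw [Nat.testBit_shiftLeft]
  by_cases h : k = n
  · subst h
    simp
  · by_cases h2 : n ≤ k
    · have h3 : 1 ≤ k - n := by omega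
      have h4 : (m >>> a &&& 1) < 2 ^ (k - n) := by
        rw [Nat.and_one_is_mod]
        calc m >>> a % 2 < 2 ^ 1 := Nat.mod_lt _ (by norm_num)
          _ ≤ 2 ^ (k - n) := Nat.pow_le_pow_right (by norm_num) h3
      rw [Nat.testBit_lt_two_pow h4]
      simp [h]
    · simp [h, h2]

theorem testBit_pmGn (P m n k : ℕ) :
    (pmGn P m n).testBit k = (decide (k < n) && m.testBit (lane 5 31 P k)) := by
  induction n with
  | zero => simp [pmGn]
  | succ n ih =>
    rw [pmGn_succ, Nat.testBit_or, ih, testBit_bit_shift]
    by_cases h : k = n
    · subst h
      simp
    · by_cases h2 : k < n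
      · have : k < n + 1 := by omega
        simp [h, h2, this]
      · have : ¬ k < n + 1 := by omega
        simp [h, h2, this]

theorem pmG_eq_pull (P : ℕ) (l : List ℕ) (hP : ∀ j < 24, lane 5 31 P j = l.getD j 0) (m : ℕ) :
    pmG P m = pull l m := by
  apply Nat.eq_of_testBit_eq
  intro k
  rw [testBit_pull, pmG, testBit_pmGn]
  by_cases h : k < 24
  · rw [hP k h]
  · simp [h]

/-! ### the octad test -/

/-- parities of the codewords with information bits `0..5` -/
def PA : ℕ := 308714912366440683752529063202020378517677170378703505385258261654792573286551712988903408786850595737829688332584154285964903000121645395541787465903943748205884410175014335754557617224869766580066855721696347300498678643086192640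

/-- parities of the codewords with information bits `6..11` -/
def PB : ℕ := 1243920014697301491810636937854978237174863619115065381005718904340074840051182607815672350528903886775826512155513951190085538308845158395309167768606824781915295947497152368246195590593517993403848861709925438362508654865509437440

/-- bitmap of the information words whose codeword has weight 8 -/
def OCTBM : ℕ := 12276732301627698083448394574003162919631296283398698344327761922933443252923885721773053710156139489443260463690320330758300544910469975008844834187072988995799626652744525248139306860917894254669150902640501317568587807439174295155350965962349307365960348531866616811534091015545835467867685866907947134336193651959593577959731264378321292404324633703962110780973174360400637903862573680361118171633971704528624453649326413454454129556028710303878892417854590536297258897635778893772906734540426886853605964205180376048845640631965565894451172102303304476113703646915662763556554750740844718782871087781872221188246792069601197383513458449983104968521900046932120468130498792354980872279711951803395115859855299693499229146208651417500659759771812598216657881605292608298867569016961799576980978066531750090444673039731720389629425062442665894206047290052885025093910835780303360859841242935962294769111339489479996408240355644315878829565924199864475296950758825394944490923046276645696360338066280953793435785432013778648216961827490265691950531159015885793014873163342918927228790609311589015679579706001106707990030185063947165433076438348740285050375102054593256797520117457311243844968382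

/-- fast systematic encoder -/
def encF (k : ℕ) : ℕ :=
  Nat.lor (Nat.shiftLeft k 12)
    (Nat.xor (lane 12 4095 PA (Nat.land k 63)) (lane 12 4095 PB (Nat.shiftRight k 6)))

/-- fast octad test on masks -/
def isOctF (m : ℕ) : Bool :=
  Nat.ble m 16777215 && (Nat.beq (encF (Nat.shiftRight m 12)) m &&
    Nat.beq (Nat.land (Nat.shiftRight OCTBM (Nat.shiftRight m 12)) 1) 1)

set_option maxRecDepth 100000 in
theorem encF_check : allB 4096 (fun k => Nat.beq (encF k) (codeOf k) &&
    (Nat.beq (Nat.land (Nat.shiftRight OCTBM k) 1) 0 || Nat.beq (wt24 (codeOf k)) 8)) = true := by
  decide +kernel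

theorem isOctF_sound (m : ℕ) (h : isOctF m = true) : M m ∈ octads := by
  unfold isOctF at h
  simp only [Bool.and_eq_true, Nat.ble_eq, beq_iff] at h
  obtain ⟨hlt, he, hb⟩ := h
  have hk : m >>> 12 < 4096 := by
    rw [Nat.shiftRight_eq_div_pow]
    omega
  have hc := (allB_iff _ _).mp encF_check (m >>> 12) hk
  simp only [Bool.and_eq_true, Bool.or_eq_true, beq_iff] at hc
  change encF (m >>> 12) = m at he
  change OCTBM >>> (m >>> 12) &&& 1 = 1 at hb
  obtain ⟨h1, h2⟩ := hc
  have h8 : wt24 (codeOf (m >>> 12)) = 8 := by
    rcases h2 with h2 | h2
    · change OCTBM >>> (m >>> 12) &&& 1 = 0 at h2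
      omega
    · exact h2
  rw [h1] at he
  rw [mem_octads_iff]
  refine ⟨m, ?_, rfl⟩
  unfold octadList
  rw [List.mem_filter]
  refine ⟨?_, ?_⟩
  · rw [← he]
    exact List.mem_map.mpr ⟨m >>> 12, List.mem_range.mpr hk, rfl⟩
  · rw [← he]
    simpa using h8

end Cfsg.Agent.Lib.Helper9.M24F2
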