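import Cfsg.Agent.Lib.Helper9.M24F3

set_option autoImplicit false

/-! The intersection-pattern invariant of two families of sets, and the orbit engine for sextets. -/

namespace Cfsg.Agent.Lib.Helper9.M24F4

open Cfsg Finset Cfsg.Agent.Lib.Helper9.GolayQR1 Cfsg.Agent.Lib.Helper9.GolaySextet1
  Cfsg.Agent.Lib.Helper9.M24T1
  Cfsg.Agent.Lib.Helper9.M24U1 Cfsg.Agent.Lib.Helper9.M24U2 Cfsg.Agent.Lib.Helper9.M24Z1
  Cfsg.Agent.Lib.Helper9.M24S1 Cfsg.Agent.Lib.Helper9.M24S2 Cfsg.Agent.Lib.Helper9.M24S3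
  Cfsg.Agent.Lib.Helper9.M24F1 Cfsg.Agent.Lib.Helper9.M24F2 Cfsg.Agent.Lib.Helper9.M24F3
open scoped Pointwise

/-! ### the invariant -/

/-- the intersection pattern of two families of sets, as a number -/
def iota (A B : Finset (Finset GolayPt)) : ℕ := ∑ a ∈ A, ∑ b ∈ B, 37 ^ (a ∩ b).card

theorem iota_smul (g : Equiv.Perm GolayPt) (A B : Finset (Finset GolayPt)) :
    iota (g • A) (g • B) = iota A B := by
  unfold iota
  have e1 : g • A = A.image (fun t => g • t) := rfl
  have e2 : g • B = B.image (fun u => g • u) := rfl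
  rw [e1, sum_image (fun a _ b _ h => smul_left_cancel g h)]
  apply sum_congr rfl
  intro a _
  rw [e2, sum_image (fun a _ b _ h => smul_left_cancel g h)]
  apply sum_congr rfl
  intro b _
  rw [M24V2.card_smul_inter]

theorem iota_smul_right (g : Equiv.Perm GolayPt) (A B : Finset (Finset GolayPt))
    (hA : g • A = A) : iota A (g • B) = iota A B := by
  conv_lhs => rw [← hA]
  exact iota_smul g A B

/-- the invariant on lists of masks -/
def iotaL (LA LB : List ℕ) : ℕ :=
  (LA.map fun a => (LB.map fun b => 37 ^ wt24 (a &&& b)).sum).sum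

theorem iota_image (LA LB : List ℕ) (hA : LA.Nodup) (hB : LB.Nodup)
    (hAlt : ∀ a ∈ LA, a < 2 ^ 24) (hBlt : ∀ b ∈ LB, b < 2 ^ 24) :
    iota (LA.toFinset.image M) (LB.toFinset.image M) = iotaL LA LB := by
  unfold iota iotaL
  rw [sum_image, List.sum_toFinset _ hA]
  · congr 1
    apply List.map_congr_left
    intro a _
    rw [sum_image, List.sum_toFinset _ hB]
    · congr 1
      apply List.map_congr_left
      intro b _
      rw [← M_and, card_M]
    · intro b hb b' hb' h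
      rw [mem_coe, List.mem_toFinset] at hb hb'
      exact M_inj b b' (hBlt b hb) (hBlt b' hb') h
  · intro a ha a' ha' h
    rw [mem_coe, List.mem_toFinset] at ha ha'
    exact M_inj a a' (hAlt a ha) (hAlt a' ha') h

theorem Sx_eq_image (τ : ℕ) (hτ : VS τ) : Sx τ = (tets τ).toFinset.image M := by
  ext u
  rw [mem_Sx_iff τ hτ, mem_image]
  constructor
  · rintro ⟨m, hm, rfl⟩
    exact ⟨m, List.mem_toFinset.mpr hm, rfl⟩
  · rintro ⟨m, hm, rfl⟩
    exact ⟨m, List.mem_toFinset.mp hm, rfl⟩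

/-! ### generators given by packed tables -/

/-- the action on masks of the `j`-th of a packed family of permutation tables -/
def actM (PP j c : ℕ) : ℕ := pmG (lane 120 1329227995784915872903807060280344575 PP j) c

/-- the stabilizer of `x` in `M24` as a subgroup of `M24` has the same orbits as `stabX x` -/
theorem orbit_stabX {α β : Type*} [MulAction (Equiv.Perm GolayPt) α]
    [MulAction (Equiv.Perm GolayPt) β] (x : β) (y : α) :
    MulAction.orbit (MulAction.stabilizer M24 x) y = MulAction.orbit (stabX x) y := by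
  ext z
  constructor
  · rintro ⟨⟨⟨g, hg⟩, hs⟩, rfl⟩
    rw [MulAction.mem_stabilizer_iff] at hs
    exact ⟨⟨g, (mem_stabX x g).mpr ⟨hg, hs⟩⟩, rfl⟩
  · rintro ⟨⟨g, hg⟩, rfl⟩
    obtain ⟨h1, h2⟩ := (mem_stabX x g).mp hg
    exact ⟨⟨⟨g, h1⟩, MulAction.mem_stabilizer_iff.mpr h2⟩, rfl⟩

/-- a group element given by a table fixes a sextet -/
theorem stab_Sx (g : Equiv.Perm GolayPt) (hg : g ∈ M24) (P : ℕ)
    (hP : ∀ m, g • M m = M (pmG P m)) (τ : ℕ) (hτ : VT4 τ) (h : sameSx (pmG P τ) τ = true) :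
    g • Sx τ = Sx τ := by
  obtain ⟨h1, h2⟩ := act_Sx g hg P hP τ hτ
  rw [h2]
  exact sameSx_sound _ _ h1 hτ h

theorem iota_Sx_Sx (τ0 τ : ℕ) (h0 : VS τ0) (h : VS τ) :
    iota (Sx τ0) (Sx τ) = iotaL (tets τ0) (tets τ) := by
  rw [Sx_eq_image τ0 h0, Sx_eq_image τ h]
  exact iota_image _ _ (tets_nodup τ0 h0) (tets_nodup τ h) (tets_lt τ0 h0) (tets_lt τ h)

/-- separation of the representatives from a table of values of the invariant -/
theorem sep_of_vals (f vals : ℕ → ℕ) (m : ℕ) (hv : ∀ k < m, f k = vals k)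
    (hd : ∀ k < m, ∀ k' < m, vals k = vals k' → k = k') :
    ∀ k < m, ∀ k' < m, f k = f k' → k = k' := by
  intro k hk k' hk' h
  rw [hv k hk, hv k' hk'] at h
  exact hd k hk k' hk' h

/-! ### the engine for sextets -/

theorem stabX_conj {β : Type*} [MulAction (Equiv.Perm GolayPt) β] (B : β)
    (g : Equiv.Perm GolayPt) (hg : g ∈ M24) (h : Equiv.Perm GolayPt) (hh : h ∈ stabX B) :
    g * h * g⁻¹ ∈ stabX (g • B) := by
  rw [mem_stabX] at hh ⊢
  refine ⟨M24.mul_mem (M24.mul_mem hg hh.1) (M24.inv_mem hg), ?_⟩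
  rw [mul_smul, mul_smul, inv_smul_smul, hh.2]

theorem fam_conj {β : Type*} [MulAction (Equiv.Perm GolayPt) β] (B : β)
    (Bf : Finset (Finset GolayPt)) (hfam : ∀ h : Equiv.Perm GolayPt, h • B = B → h • Bf = Bf)
    (g h : Equiv.Perm GolayPt) (hh : h • g • B = g • B) : h • g • Bf = g • Bf := by
  have h1 : (g⁻¹ * h * g) • B = B := by
    rw [mul_smul, mul_smul, hh, inv_smul_smul]
  have h2 := hfam _ h1
  rw [mul_smul, mul_smul] at h2
  conv_rhs => rw [← h2]
  rw [smul_inv_smul]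

theorem sextet_engine {β : Type*} [MulAction (Equiv.Perm GolayPt) β] (B : β)
    (Bf : Finset (Finset GolayPt)) (hfam : ∀ h : Equiv.Perm GolayPt, h • B = B → h • Bf = Bf)
    (PP ng : ℕ)
    (hgens : ∀ j < ng, ∃ g ∈ stabX B, ∀ m, g • M m = M (actM PP j m))
    (m CERT REPS : ℕ) (hchk : checkAll 1771 ng m litS (actM PP) sameSx CERT REPS = true)
    (hreps : ∀ k < m, lane 12 4095 REPS k < 1771)
    (hsep : ∀ k < m, ∀ k' < m, iota Bf (Sx (litS (lane 12 4095 REPS k))) =
      iota Bf (Sx (litS (lane 12 4095 REPS k'))) → k = k')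
    (g : Equiv.Perm GolayPt) (hg : g ∈ M24) :
    (∀ y ∈ sextets, ∃ k < m, y ∈ MulAction.orbit (stabX (g • B))
      (g • Sx (litS (lane 12 4095 REPS k)))) ∧
    ∀ k < m, MulAction.orbit (stabX (g • B)) (g • Sx (litS (lane 12 4095 REPS k))) =
        {y | y ∈ sextets ∧ iota (g • Bf) y =
          iota (g • Bf) (g • Sx (litS (lane 12 4095 REPS k)))} ∧
      (MulAction.orbit (stabX (g • B)) (g • Sx (litS (lane 12 4095 REPS k)))).ncard =
        countB 1771 (fun r => Nat.beq (fLab (lane 24 16777215 CERT r)) k) := by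
  have hHM : stabX B ≤ M24 := inf_le_left
  have hacts : ∀ j < ng, ∀ c, VT4 c →
      VT4 (actM PP j c) ∧ ∃ h ∈ stabX B, h • Sx c = Sx (actM PP j c) := by
    intro j hj c hc
    obtain ⟨g, hg, hP⟩ := hgens j hj
    obtain ⟨h1, h2⟩ := act_Sx g (hHM hg) _ hP c hc
    exact ⟨h1, g, hg, h2⟩
  obtain ⟨hlab, hcov⟩ := cert_sound (stabX B) Sx VT4 1771 ng m litS litS_VT4 (actM PP) hacts
    sameSx sameSx_sound CERT REPS hchk
  refine orbits_of_cover_conj (stabX B) (stabX (g • B)) g (stabX_conj B g hg) sextets ?_ Sx 1771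
    litS mem_sextets_iff' litS_inj (iota (g • Bf)) ?_ ?_
    (fun r => fLab (lane 24 16777215 CERT r)) (fun k => lane 12 4095 REPS k) m hlab hreps ?_ hcov
  · intro y
    constructor
    · intro hy
      have := smul_sextet_mem g⁻¹ (M24.inv_mem hg) _ hy
      rwa [inv_smul_smul] at this
    · exact smul_sextet_mem g hg y
  · intro h hh y _
    exact iota_smul_right h _ y (fam_conj B Bf hfam g h ((mem_stabX _ h).mp hh).2)
  · intro h hh y hy
    exact smul_sextet_mem h ((mem_stabX _ h).mp hh).1 y hy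
  · intro k hk k' hk' e
    rw [iota_smul, iota_smul] at e
    exact hsep k hk k' hk' e

end Cfsg.Agent.Lib.Helper9.M24F4
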