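import Cfsg.Agent.Lib.Helper9.M24F4
import Cfsg.Agent.Lib.Helper9.Chain4
import Cfsg.Agent.Lib.Helper9.M24Y1

set_option autoImplicit false

/-! Assembling orbit decompositions: maximality from level sets, transport along conjugation, and
transitivity of the group of the code on sextets. -/

namespace Cfsg.Agent.Lib.Helper9.M24F5

open Cfsg Finset Cfsg.Agent.Lib.Helper9.GolaySextet1
  Cfsg.Agent.Lib.Helper9.M24S1 Cfsg.Agent.Lib.Helper9.M24S3 Cfsg.Agent.Lib.Helper9.Chain4
  Cfsg.Agent.Lib.Helper9.M24Y1 Cfsg.Agent.Lib.Helper9.M24F4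
open scoped Pointwise

section abstract

variable {G : Type*} [Group G] {α : Type*} [MulAction G α]

open MulAction

/-- maximality of a stabilizer whose orbits on the orbit of its point are level sets of an
invariant, from the arithmetic of the orbit sizes -/
theorem isCoatom_of_levels [Finite G] (x : α) (hne : ∃ g : G, g • x ≠ x) (inv : α → ℕ) (m : ℕ)
    (v : Fin (m + 1) → ℕ) (hv : Function.Injective v) (xs : Fin (m + 1) → α)
    (hlev : ∀ k, orbit (stabilizer G x) (xs k) = {y | y ∈ orbit G x ∧ inv y = v k})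
    (hcov : ∀ y ∈ orbit G x, ∃ k, inv y = v k)
    (hx0 : ∀ y ∈ orbit G x, inv y = v 0 → y = x) (hxv : inv x = v 0)
    (sz : Fin (m + 1) → ℕ) (hsz : ∀ k, (orbit (stabilizer G x) (xs k)).ncard = sz k)
    (harith : ∀ S : Finset (Fin (m + 1)), 0 ∈ S → (∑ i ∈ S, sz i) ∣ (orbit G x).ncard →
      S = {0} ∨ S = Finset.univ) :
    IsCoatom (stabilizer G x) := by
  classical
  let τ : α → Fin (m + 1) := fun y => if h : ∃ k, inv y = v k then Classical.choose h else 0
  have hτ : ∀ y ∈ orbit G x, v (τ y) = inv y := by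
    intro y hy
    have h := hcov y hy
    change v (if h : ∃ k, inv y = v k then Classical.choose h else 0) = inv y
    rw [dif_pos h]
    exact (Classical.choose_spec h).symm
  have hτi : ∀ y ∈ orbit G x, ∀ i, τ y = i ↔ inv y = v i := by
    intro y hy i
    constructor
    · intro h
      rw [← h, hτ y hy]
    · intro h
      apply hv
      rw [hτ y hy, h]
  apply isCoatom_of_types x hne τ sz 0
  · exact (hτi x (mem_orbit_self x) 0).mpr hxv
  · intro y hy h0
    exact hx0 y hy ((hτi y hy 0).mp h0)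
  · intro i
    rw [← hsz i, hlev i]
    congr 1
    ext y
    exact and_congr_right (fun hy => hτi y hy i)
  · intro y hy z hz hyz
    have h1 : y ∈ orbit (stabilizer G x) (xs (τ y)) := by
      rw [hlev]; exact ⟨hy, (hτi y hy _).mp rfl⟩
    have h2 : z ∈ orbit (stabilizer G x) (xs (τ y)) := by
      rw [hlev]; exact ⟨hz, (hτi z hz _).mp hyz.symm⟩
    obtain ⟨a, ha⟩ := h1
    obtain ⟨b, hb⟩ := h2
    refine ⟨(b * a⁻¹ : stabilizer G x), (b * a⁻¹).2, ?_⟩
    rw [← ha, ← hb]
    change (b * a⁻¹) • a • xs (τ y) = b • xs (τ y)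
    rw [← mul_smul, inv_mul_cancel_right]
  · exact harith

/-- conjugate stabilizers are maximal together -/
theorem isCoatom_stabilizer_smul (g : G) (x : α) (h : IsCoatom (stabilizer G x)) :
    IsCoatom (stabilizer G (g • x)) := by
  rw [stabilizer_smul_eq_stabilizer_map_conj]
  exact ((MulAut.conj g).mapSubgroup.isCoatom_iff _).mpr h

end abstract

/-- maximality of the stabilizer in the group of the code from the output of the orbit engine -/
theorem isCoatom_of_engine {α : Type*} [MulAction (Equiv.Perm GolayPt) α] (B : α) (U : Set α)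
    (hU : MulAction.orbit M24 B = U) (hne : ∃ g : M24, g • B ≠ B) (m : ℕ) (X : ℕ → α)
    (inv : α → ℕ) (hX0 : X 0 = B) (sz : ℕ → ℕ)
    (hcov : ∀ y ∈ U, ∃ k < m + 1, y ∈ MulAction.orbit (stabX B) (X k))
    (hlev : ∀ k < m + 1, MulAction.orbit (stabX B) (X k) = {y | y ∈ U ∧ inv y = inv (X k)} ∧
      (MulAction.orbit (stabX B) (X k)).ncard = sz k)
    (hsep : ∀ k < m + 1, ∀ k' < m + 1, inv (X k) = inv (X k') → k = k')
    (harith : ∀ S : Finset (Fin (m + 1)), 0 ∈ S → (∑ i ∈ S, sz i) ∣ U.ncard →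
      S = {0} ∨ S = Finset.univ) :
    IsCoatom (MulAction.stabilizer M24 B) := by
  apply isCoatom_of_levels (G := M24) B hne inv m (fun k => inv (X k)) ?_ (fun k => X k) ?_ ?_ ?_ ?_
    (fun k => sz k) ?_ ?_
  · intro k k' h
    exact Fin.ext (hsep k k.2 k' k'.2 h)
  · intro k
    rw [orbit_stabX, hU]
    exact (hlev k k.2).1
  · intro y hy
    rw [hU] at hy
    obtain ⟨k, hk, hyk⟩ := hcov y hy
    rw [(hlev k hk).1] at hyk
    exact ⟨⟨k, hk⟩, hyk.2⟩
  · intro y hy h0
    rw [hU] at hy
    have : y ∈ MulAction.orbit (stabX B) (X 0) := by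
      rw [(hlev 0 (by omega)).1]
      exact ⟨hy, h0⟩
    obtain ⟨h, rfl⟩ := this
    rw [hX0]
    exact ((mem_stabX B h.1).mp h.2).2
  · change inv B = inv (X 0)
    rw [hX0]
  · intro k
    rw [orbit_stabX]
    exact (hlev k k.2).2
  · rw [hU]
    exact harith

/-- the group of the code is transitive on sextets -/
theorem orbit_sextet (S : Finset (Finset GolayPt)) (hS : S ∈ sextets) :
    MulAction.orbit M24 S = sextets := by
  ext T
  constructor
  · rintro ⟨g, rfl⟩
    exact smul_sextet_mem g.1 g.2 S hS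
  · intro hT
    obtain ⟨t, ht⟩ : ∃ t, t ∈ S := by
      apply Finset.card_pos.mp
      rw [hS.1]; norm_num
    obtain ⟨u, hu⟩ : ∃ u, u ∈ T := by
      apply Finset.card_pos.mp
      rw [hT.1]; norm_num
    have ht4 : t.card = 4 := hS.2.1 t ht
    have hu4 : u.card = 4 := hT.2.1 u hu
    have : u ∈ MulAction.orbit M24 t := by
      rw [orbit_subset t (by omega), Set.mem_ofPred_eq, hu4, ht4]
    obtain ⟨g, hg⟩ := this
    refine ⟨g, ?_⟩
    change (g : Equiv.Perm GolayPt) • S = T
    rw [sextet_eq S hS t ht, sextet_eq T hT u hu, smul_sextetOf g.1 g.2 t ht4]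
    congr 1

end Cfsg.Agent.Lib.Helper9.M24F5
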