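import Cfsg.Agent.Lib.Helper9.M24F5

set_option autoImplicit false

/-! Putting the output of the orbit engine into the shape of the statements. -/

namespace Cfsg.Agent.Lib.Helper9.M24F8

open Cfsg Cfsg.Agent.Lib.Helper9.M24S3 Cfsg.Agent.Lib.Helper9.M24F4

variable {α β : Type*} [MulAction (Equiv.Perm GolayPt) α] [MulAction (Equiv.Perm GolayPt) β]

theorem decomp3 (B : β) (U : Set α) (X : ℕ → α) (sz : ℕ → ℕ)
    (hcov : ∀ y ∈ U, ∃ k < 3, y ∈ MulAction.orbit (stabX B) (X k))
    (hsub : ∀ k < 3, MulAction.orbit (stabX B) (X k) ⊆ U)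
    (hn : ∀ k < 3, (MulAction.orbit (stabX B) (X k)).ncard = sz k) (hX : ∀ k < 3, X k ∈ U) :
    ∃ X₁ ∈ U, ∃ X₂ ∈ U, ∃ X₃ ∈ U,
      (MulAction.orbit (MulAction.stabilizer M24 B) X₁).ncard = sz 0 ∧
      (MulAction.orbit (MulAction.stabilizer M24 B) X₂).ncard = sz 1 ∧
      (MulAction.orbit (MulAction.stabilizer M24 B) X₃).ncard = sz 2 ∧
      U = MulAction.orbit (MulAction.stabilizer M24 B) X₁ ∪
        MulAction.orbit (MulAction.stabilizer M24 B) X₂ ∪
        MulAction.orbit (MulAction.stabilizer M24 B) X₃ := by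
  have hO : ∀ y : α, MulAction.orbit (MulAction.stabilizer M24 B) y =
      MulAction.orbit (stabX B) y := fun y => orbit_stabX _ y
  refine ⟨X 0, hX 0 (by norm_num), X 1, hX 1 (by norm_num), X 2, hX 2 (by norm_num), ?_, ?_, ?_, ?_⟩
  · rw [hO]; exact hn 0 (by norm_num)
  · rw [hO]; exact hn 1 (by norm_num)
  · rw [hO]; exact hn 2 (by norm_num)
  · rw [hO, hO, hO]
    ext y
    constructor
    · intro hy
      obtain ⟨k, hk, hyk⟩ := hcov y hy
      interval_cases k
      · left; left; exact hyk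
      · left; right; exact hyk
      · right; exact hyk
    · rintro ((h | h) | h)
      · exact hsub 0 (by norm_num) h
      · exact hsub 1 (by norm_num) h
      · exact hsub 2 (by norm_num) h

theorem decomp4 (B : β) (U : Set α) (X : ℕ → α) (sz : ℕ → ℕ)
    (hcov : ∀ y ∈ U, ∃ k < 4, y ∈ MulAction.orbit (stabX B) (X k))
    (hsub : ∀ k < 4, MulAction.orbit (stabX B) (X k) ⊆ U)
    (hn : ∀ k < 4, (MulAction.orbit (stabX B) (X k)).ncard = sz k) (hX : ∀ k < 4, X k ∈ U) :
    ∃ X₁ ∈ U, ∃ X₂ ∈ U, ∃ X₃ ∈ U, ∃ X₄ ∈ U,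
      (MulAction.orbit (MulAction.stabilizer M24 B) X₁).ncard = sz 0 ∧
      (MulAction.orbit (MulAction.stabilizer M24 B) X₂).ncard = sz 1 ∧
      (MulAction.orbit (MulAction.stabilizer M24 B) X₃).ncard = sz 2 ∧
      (MulAction.orbit (MulAction.stabilizer M24 B) X₄).ncard = sz 3 ∧
      U = MulAction.orbit (MulAction.stabilizer M24 B) X₁ ∪
        MulAction.orbit (MulAction.stabilizer M24 B) X₂ ∪
        MulAction.orbit (MulAction.stabilizer M24 B) X₃ ∪
        MulAction.orbit (MulAction.stabilizer M24 B) X₄ := by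
  have hO : ∀ y : α, MulAction.orbit (MulAction.stabilizer M24 B) y =
      MulAction.orbit (stabX B) y := fun y => orbit_stabX _ y
  refine ⟨X 0, hX 0 (by norm_num), X 1, hX 1 (by norm_num), X 2, hX 2 (by norm_num),
    X 3, hX 3 (by norm_num), ?_, ?_, ?_, ?_, ?_⟩
  · rw [hO]; exact hn 0 (by norm_num)
  · rw [hO]; exact hn 1 (by norm_num)
  · rw [hO]; exact hn 2 (by norm_num)
  · rw [hO]; exact hn 3 (by norm_num)
  · rw [hO, hO, hO, hO]
    ext y
    constructor
    · intro hy
      obtain ⟨k, hk, hyk⟩ := hcov y hy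
      interval_cases k
      · left; left; left; exact hyk
      · left; left; right; exact hyk
      · left; right; exact hyk
      · right; exact hyk
    · rintro (((h | h) | h) | h)
      · exact hsub 0 (by norm_num) h
      · exact hsub 1 (by norm_num) h
      · exact hsub 2 (by norm_num) h
      · exact hsub 3 (by norm_num) h

/-- five classes, the first being the base object itself (acting on its own kind) -/
theorem decomp_s4 (B : α) (U : Set α) (X : ℕ → α) (sz : ℕ → ℕ) (hX0 : X 0 = B)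
    (hcov : ∀ y ∈ U, ∃ k < 5, y ∈ MulAction.orbit (stabX B) (X k))
    (hsub : ∀ k < 5, MulAction.orbit (stabX B) (X k) ⊆ U)
    (hn : ∀ k < 5, (MulAction.orbit (stabX B) (X k)).ncard = sz k) (hX : ∀ k < 5, X k ∈ U) :
    ∃ X₁ ∈ U, ∃ X₂ ∈ U, ∃ X₃ ∈ U, ∃ X₄ ∈ U,
      (MulAction.orbit (MulAction.stabilizer M24 B) X₁).ncard = sz 1 ∧
      (MulAction.orbit (MulAction.stabilizer M24 B) X₂).ncard = sz 2 ∧
      (MulAction.orbit (MulAction.stabilizer M24 B) X₃).ncard = sz 3 ∧
      (MulAction.orbit (MulAction.stabilizer M24 B) X₄).ncard = sz 4 ∧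
      U = {B} ∪ MulAction.orbit (MulAction.stabilizer M24 B) X₁ ∪
        MulAction.orbit (MulAction.stabilizer M24 B) X₂ ∪
        MulAction.orbit (MulAction.stabilizer M24 B) X₃ ∪
        MulAction.orbit (MulAction.stabilizer M24 B) X₄ := by
  have hO : ∀ y : α, MulAction.orbit (MulAction.stabilizer M24 B) y =
      MulAction.orbit (stabX B) y := fun y => orbit_stabX _ y
  refine ⟨X 1, hX 1 (by norm_num), X 2, hX 2 (by norm_num), X 3, hX 3 (by norm_num),
    X 4, hX 4 (by norm_num), ?_, ?_, ?_, ?_, ?_⟩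
  · rw [hO]; exact hn 1 (by norm_num)
  · rw [hO]; exact hn 2 (by norm_num)
  · rw [hO]; exact hn 3 (by norm_num)
  · rw [hO]; exact hn 4 (by norm_num)
  · rw [hO, hO, hO, hO]
    ext y
    constructor
    · intro hy
      obtain ⟨k, hk, hyk⟩ := hcov y hy
      interval_cases k
      · left; left; left; left
        obtain ⟨h, rfl⟩ := hyk
        rw [hX0]
        exact ((mem_stabX _ h.1).mp h.2).2
      · left; left; left; right; exact hyk
      · left; left; right; exact hyk
      · left; right; exact hyk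
      · right; exact hyk
    · rintro ((((h | h) | h) | h) | h)
      · rw [Set.mem_singleton_iff] at h
        rw [h, ← hX0]
        exact hX 0 (by norm_num)
      · exact hsub 1 (by norm_num) h
      · exact hsub 2 (by norm_num) h
      · exact hsub 3 (by norm_num) h
      · exact hsub 4 (by norm_num) h

end Cfsg.Agent.Lib.Helper9.M24F8
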