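import Cfsg.Agent.Lib.Helper9.M24Y8
import Cfsg.Agent.Lib.Helper9.M24F7

set_option autoImplicit false

namespace Cfsg.Agent.Lib.Helper9.M24H1

open Cfsg Finset Cfsg.Agent.Lib.Helper9.GolayQR1
  Cfsg.Agent.Lib.Helper9.M24T1 Cfsg.Agent.Lib.Helper9.M24T3 Cfsg.Agent.Lib.Helper9.M24T4
  Cfsg.Agent.Lib.Helper9.M24U1 Cfsg.Agent.Lib.Helper9.M24U4
  Cfsg.Agent.Lib.Helper9.M24Y8 Cfsg.Agent.Lib.Helper9.M24Z3
open scoped Pointwise

/-! ### exhausting a finite subgroup by a list -/

/-- a subgroup whose order is the length of a duplicate-free list of its elements consists of the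
members of the list -/
theorem mem_of_card {G : Type*} [Group G] (H : Subgroup G) (F : List G) (hnd : F.Nodup)
    (hF : ∀ f ∈ F, f ∈ H) (hc : Nat.card H = F.length) (hpos : 0 < F.length) :
    ∀ g ∈ H, g ∈ F := by
  classical
  have hfin : Finite H := Nat.finite_of_card_ne_zero (by omega)
  have hfin' : (H : Set G).Finite := Set.toFinite _
  have hsub : (↑F.toFinset : Set G) ⊆ (H : Set G) := by
    intro x hx
    exact hF x (List.mem_toFinset.mp (Finset.mem_coe.mp hx))
  have heq : (↑F.toFinset : Set G) = (H : Set G) := by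
    apply Set.eq_of_subset_of_ncard_le hsub _ hfin'
    rw [Set.ncard_coe_finset, List.toFinset_card_of_nodup hnd, ← hc]
    exact (Nat.card_coe_set_eq (H : Set G)).symm.le
  intro g hg
  have : g ∈ (↑F.toFinset : Set G) := by rw [heq]; exact hg
  exact List.mem_toFinset.mp (Finset.mem_coe.mp this)

/-! ### the standard lists of six points -/

/-- the standard special list of six points -/
def Ls : List GolayPt := [none, some 0, some 1, some 2, some 3, some 5]

/-- the standard non-special list of six points -/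
def Ln : List GolayPt := [none, some 0, some 1, some 2, some 3, some 4]

theorem Ls_nodup : Ls.Nodup := by decide

theorem Ln_nodup : Ln.Nodup := by decide

theorem inOct_Ls : InOct Ls.toFinset := by
  refine ⟨M 8536111, (mem_octads_iff' _).mpr ⟨8536111, by decide +kernel, rfl⟩, ?_⟩
  intro p hp
  rw [List.mem_toFinset] at hp
  rw [mem_M]
  revert p
  decide +kernel

theorem card_fixLs : Nat.card (fixL M24 Ls) = 16 :=
  (card_fix_six [none, some 0, some 1, some 2, some 3] (some 5) Ls_nodup rfl).1 inOct_Ls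

theorem card_fixLn : Nat.card (fixL M24 Ln) = 3 := card_fix6

theorem not_inOct_Ln : ¬ InOct Ln.toFinset := by
  intro h
  have := (card_fix_six [none, some 0, some 1, some 2, some 3] (some 4) Ln_nodup rfl).1 h
  rw [show ([none, some 0, some 1, some 2, some 3] ++ [some 4] : List GolayPt) = Ln from rfl,
    card_fixLn] at this
  omega

/-- every duplicate-free list of six points is mapped to one of the two standard lists -/
theorem std_map (L : List GolayPt) (hnd : L.Nodup) (h6 : L.length = 6) :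
    ∃ k ∈ M24, L.map k = Ls ∨ L.map k = Ln := by
  by_cases h : InOct L.toFinset
  · obtain ⟨k, hk, hkL⟩ := map_six' L Ls hnd Ls_nodup h6 rfl
      ⟨fun _ => inOct_Ls, fun _ => h⟩
    exact ⟨k, hk, Or.inl hkL⟩
  · obtain ⟨k, hk, hkL⟩ := map_six' L Ln hnd Ln_nodup h6 rfl
      ⟨fun h' => absurd h' h, fun h' => absurd h' not_inOct_Ln⟩
    exact ⟨k, hk, Or.inr hkL⟩

/-! ### rearrangements of lists -/

/-- the rearrangement of a list along a list of positions -/
def rearr (σ : List ℕ) (L : List GolayPt) : List GolayPt := σ.filterMap (fun i => L[i]?)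

theorem rearr_map (σ : List ℕ) (L : List GolayPt) (k : GolayPt → GolayPt) :
    (rearr σ L).map k = rearr σ (L.map k) := by
  unfold rearr
  rw [List.map_filterMap]
  apply List.filterMap_congr
  intro i _
  rw [List.getElem?_map]

theorem map_conj (L : List GolayPt) (k g : Equiv.Perm GolayPt) :
    (L.map k).map (k * g * k⁻¹) = (L.map g).map k := by
  rw [List.map_map, List.map_map]
  apply List.map_congr_left
  intro p _
  simp

/-- an element acting on a list of six points by a rearrangement is conjugate to an element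
acting in the same way on a standard list -/
theorem conj_to_std (σ : List ℕ) (g : Equiv.Perm GolayPt) (L : List GolayPt) (hnd : L.Nodup)
    (h6 : L.length = 6) (hgL : L.map g = rearr σ L) :
    ∃ k ∈ M24, Ls.map (k * g * k⁻¹) = rearr σ Ls ∨ Ln.map (k * g * k⁻¹) = rearr σ Ln := by
  obtain ⟨k, hk, hkL⟩ := std_map L hnd h6
  refine ⟨k, hk, ?_⟩
  rcases hkL with hkL | hkL
  · left
    rw [← hkL, map_conj, hgL, rearr_map]
  · right
    rw [← hkL, map_conj, hgL, rearr_map]

theorem cand_of_map (L L' : List GolayPt) (u g : Equiv.Perm GolayPt) (hu : u ∈ M24) (hg : g ∈ M24)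
    (hLu : L.map u = L') (hLg : L.map g = L') : ∃ f ∈ fixL M24 L, g = u * f := by
  refine ⟨u⁻¹ * g, ?_, by group⟩
  rw [mem_fixL]
  refine ⟨M24.mul_mem (M24.inv_mem hu) hg, fun b hb => ?_⟩
  have := List.map_inj_left.mp (hLu.trans hLg.symm) b hb
  rw [Equiv.Perm.mul_apply, ← this]
  exact u.symm_apply_apply b

/-- the classes of the elements with a given action on a list of six points -/
theorem class_of_pattern (P Q : Equiv.Perm GolayPt → Prop)
    (hQ : ∀ g k : Equiv.Perm GolayPt, k ∈ M24 → Q (k * g * k⁻¹) → Q g)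
    (hP : ∀ g k : Equiv.Perm GolayPt, P g → P (k * g * k⁻¹))
    (F16 F3 : List (Equiv.Perm GolayPt)) (hF16 : ∀ f ∈ fixL M24 Ls, f ∈ F16)
    (hF3 : ∀ f ∈ fixL M24 Ln, f ∈ F3)
    (σ : List ℕ) (us un : Equiv.Perm GolayPt) (hus : us ∈ M24) (hun : un ∈ M24)
    (hLs : Ls.map us = rearr σ Ls) (hLn : Ln.map un = rearr σ Ln)
    (halls : ∀ f ∈ F16, P (us * f) → Q (us * f)) (halln : ∀ f ∈ F3, P (un * f) → Q (un * f))
    (g : Equiv.Perm GolayPt) (hg : g ∈ M24) (L : List GolayPt) (hnd : L.Nodup)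
    (h6 : L.length = 6) (hgL : L.map g = rearr σ L) (hPg : P g) : Q g := by
  obtain ⟨k, hk, hkL⟩ := conj_to_std σ g L hnd h6 hgL
  apply hQ g k hk
  have hg' : k * g * k⁻¹ ∈ M24 := M24.mul_mem (M24.mul_mem hk hg) (M24.inv_mem hk)
  have hP' := hP g k hPg
  rcases hkL with hkL | hkL
  · obtain ⟨f, hf, e⟩ := cand_of_map Ls _ us _ hus hg' hLs hkL
    rw [e] at hP' ⊢
    exact halls f (hF16 f hf) hP'
  · obtain ⟨f, hf, e⟩ := cand_of_map Ln _ un _ hun hg' hLn hkL
    rw [e] at hP' ⊢
    exact halln f (hF3 f hf) hP'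

/-! ### picking cycles -/

/-- three disjoint transpositions of an involution -/
theorem pick_pairs (s : Equiv.Perm GolayPt) (hs : s * s = 1) (A : Finset GolayPt)
    (hmv : ∀ p ∈ A, s p ≠ p) (hc : 5 ≤ A.card) :
    ∃ a c e, a ∈ A ∧ c ∈ A ∧ e ∈ A ∧ [a, s a, c, s c, e, s e].Nodup := by
  have hss : ∀ p, s (s p) = p := fun p => by rw [← Equiv.Perm.mul_apply, hs]; rfl
  obtain ⟨a, ha⟩ : A.Nonempty := card_pos.mp (by omega)
  have h1 : (A \ {a, s a}).Nonempty := by
    apply card_pos.mp
    have h := card_le_card_sdiff_add_card (s := A) (t := {a, s a})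
    have h2 : ({a, s a} : Finset GolayPt).card ≤ 2 := card_le_two
    omega
  obtain ⟨c, hc'⟩ := h1
  rw [mem_sdiff, mem_insert, mem_singleton, not_or] at hc'
  obtain ⟨hcA, hc1, hc2⟩ := hc'
  have hc1 : c ≠ a := hc1
  have hc2 : c ≠ s a := hc2
  have h2 : (A \ {a, s a, c, s c}).Nonempty := by
    apply card_pos.mp
    have h := card_le_card_sdiff_add_card (s := A) (t := {a, s a, c, s c})
    have h2 : ({a, s a, c, s c} : Finset GolayPt).card ≤ 4 := card_le_four
    omega
  obtain ⟨e, he'⟩ := h2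
  simp only [mem_sdiff, mem_insert, mem_singleton, not_or] at he'
  obtain ⟨heA, he1, he2, he3, he4⟩ := he'
  have he1 : e ≠ a := he1
  have he2 : e ≠ s a := he2
  have he3 : e ≠ c := he3
  have he4 : e ≠ s c := he4
  refine ⟨a, c, e, ha, hcA, heA, ?_⟩
  have n1 : s a ≠ a := hmv a ha
  have n2 : s c ≠ c := hmv c hcA
  have n3 : s e ≠ e := hmv e heA
  have n4 : s c ≠ a := fun h => hc2 (by rw [← h, hss])
  have n5 : s c ≠ s a := fun h => hc1 (s.injective h)
  have n6 : s e ≠ a := fun h => he2 (by rw [← h, hss])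
  have n7 : s e ≠ s a := fun h => he1 (s.injective h)
  have n8 : s e ≠ c := fun h => he4 (by rw [← h, hss])
  have n9 : s e ≠ s c := fun h => he3 (s.injective h)
  simp only [List.nodup_cons, List.mem_cons, List.not_mem_nil, or_false, not_or, List.nodup_nil,
    and_true, not_false_eq_true]
  exact ⟨⟨n1.symm, hc1.symm, n4.symm, he1.symm, n6.symm⟩, ⟨hc2.symm, n5.symm, he2.symm, n7.symm⟩,
    ⟨n2.symm, he3.symm, n8.symm⟩, ⟨he4.symm, n9.symm⟩, n3.symm⟩

/-- two disjoint cycles of an element of order three -/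
theorem pick_triples (g : Equiv.Perm GolayPt) (h3 : g * g * g = 1) (A : Finset GolayPt)
    (hA : ∀ p ∈ A, g p ∈ A) (hmv : ∀ p ∈ A, g p ≠ p) (hc : 4 ≤ A.card) :
    ∃ a d, a ∈ A ∧ d ∈ A ∧ [a, g a, g (g a), d, g d, g (g d)].Nodup := by
  have hggg : ∀ p, g (g (g p)) = p := fun p => by
    rw [← Equiv.Perm.mul_apply, ← Equiv.Perm.mul_apply, h3]; rfl
  obtain ⟨a, ha⟩ : A.Nonempty := card_pos.mp (by omega)
  have h1 : (A \ {a, g a, g (g a)}).Nonempty := by
    apply card_pos.mp
    have h := card_le_card_sdiff_add_card (s := A) (t := {a, g a, g (g a)})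
    have h2 : ({a, g a, g (g a)} : Finset GolayPt).card ≤ 3 := card_le_three
    omega
  obtain ⟨d, hd'⟩ := h1
  simp only [mem_sdiff, mem_insert, mem_singleton, not_or] at hd'
  obtain ⟨hdA, hd1, hd2, hd3⟩ := hd'
  have hd1 : d ≠ a := hd1
  have hd2 : d ≠ g a := hd2
  have hd3 : d ≠ g (g a) := hd3
  refine ⟨a, d, ha, hdA, ?_⟩
  have key : ∀ p ∈ A, g (g p) ≠ p := fun p hp h => hmv p hp (by
    have := congrArg g h
    rw [hggg] at this
    exact this.symm)
  have n1 : g a ≠ a := hmv a ha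
  have n2 : g (g a) ≠ g a := hmv _ (hA a ha)
  have n3 : g (g a) ≠ a := key a ha
  have m1 : g d ≠ d := hmv d hdA
  have m2 : g (g d) ≠ g d := hmv _ (hA d hdA)
  have m3 : g (g d) ≠ d := key d hdA
  have c1 : g d ≠ a := fun h => hd3 (by rw [← h, hggg])
  have c2 : g d ≠ g a := fun h => hd1 (g.injective h)
  have c3 : g d ≠ g (g a) := fun h => hd2 (g.injective h)
  have c4 : g (g d) ≠ a := fun h => hd2 (by
    have := congrArg g h
    rw [hggg] at this
    exact this)
  have c5 : g (g d) ≠ g a := fun h => c1 (g.injective h)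
  have c6 : g (g d) ≠ g (g a) := fun h => c2 (g.injective h)
  simp only [List.nodup_cons, List.mem_cons, List.not_mem_nil, or_false, not_or, List.nodup_nil,
    and_true, not_false_eq_true]
  exact ⟨⟨n1.symm, n3.symm, hd1.symm, c1.symm, c4.symm⟩, ⟨n2.symm, hd2.symm, c2.symm, c5.symm⟩,
    ⟨hd3.symm, c3.symm, c6.symm⟩, ⟨m1.symm, m3.symm⟩, m2.symm⟩

/-- a list of six points in a set of at least six points -/
theorem pick_six (B : Finset GolayPt) (hB : 6 ≤ B.card) :
    ∃ L : List GolayPt, L.Nodup ∧ L.length = 6 ∧ ∀ p ∈ L, p ∈ B := by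
  obtain ⟨t, ht, h6⟩ := exists_subset_card_eq hB
  exact ⟨t.toList, nodup_toList t, by rw [length_toList, h6], fun p hp => ht (mem_toList.mp hp)⟩

theorem rearr_id (L : List GolayPt) (h6 : L.length = 6) : rearr [0, 1, 2, 3, 4, 5] L = L := by
  match L, h6 with
  | [a, b, c, d, e, f], _ => rfl

end Cfsg.Agent.Lib.Helper9.M24H1
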