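import Cfsg.Agent.Lib.Helper9.M24H9
import Cfsg.Agent.Lib.Helper9.M24H10

set_option autoImplicit false

namespace Cfsg.Agent.Lib.Helper9.M24H11

open Cfsg Finset Cfsg.Agent.Lib.Helper9.GolayQR1 Cfsg.Agent.Lib.Helper9.GolayQR5
  Cfsg.Agent.Lib.Helper9.M24T1 Cfsg.Agent.Lib.Helper9.M24U1 Cfsg.Agent.Lib.Helper9.M24H1
  Cfsg.Agent.Lib.Helper9.M24H2 Cfsg.Agent.Lib.Helper9.M24H3 Cfsg.Agent.Lib.Helper9.M24H4
  Cfsg.Agent.Lib.Helper9.M24H5 Cfsg.Agent.Lib.Helper9.M24H8 Cfsg.Agent.Lib.Helper9.M24H9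
  Cfsg.Agent.Lib.Helper9.M24H10
open scoped Pointwise

theorem fixed_2A (g : Equiv.Perm Cfsg.GolayPt) (hg : g ∈ Cfsg.M24) (h₂ : orderOf g = 2)
    (h₈ : (Finset.univ.filter fun p => g p = p).card = 8) :
    {o : Finset Cfsg.GolayPt | o ∈ Cfsg.octads ∧ g • o = o}.ncard = 71 ∧
    {T : Finset (Finset Cfsg.GolayPt) | T ∈ Cfsg.trios ∧ g • T = T}.ncard = 99 ∧
    {S : Finset (Finset Cfsg.GolayPt) | S ∈ Cfsg.sextets ∧ g • S = S}.ncard = 91 := by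
  rcases invol_cases g hg h₂ with ⟨k, hk, e, -, -⟩ | ⟨k, hk, e, hf⟩
  · rw [fixed_ncard_conj octads octads_inv g k hk, fixed_ncard_conj trios trios_inv g k hk,
      fixed_ncard_conj sextets sextets_inv g k hk, e]
    exact ⟨fixedO2A, fixedT2A, fixedS2A⟩
  · exfalso
    change (Fix g).card = 8 at h₈
    rw [hf] at h₈
    simp at h₈

theorem fixed_2B (g : Equiv.Perm Cfsg.GolayPt) (hg : g ∈ Cfsg.M24) (h₂ : orderOf g = 2)
    (h₀ : ∀ p, g p ≠ p) :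
    {o : Finset Cfsg.GolayPt | o ∈ Cfsg.octads ∧ g • o = o}.ncard = 15 ∧
    {T : Finset (Finset Cfsg.GolayPt) | T ∈ Cfsg.trios ∧ g • T = T}.ncard = 75 ∧
    {S : Finset (Finset Cfsg.GolayPt) | S ∈ Cfsg.sextets ∧ g • S = S}.ncard = 51 := by
  rcases invol_cases g hg h₂ with ⟨k, hk, e, -, hc⟩ | ⟨k, hk, e, hf⟩
  · exfalso
    rw [(Fix_eq_empty_iff g).mpr h₀] at hc
    simp at hc
  · rw [fixed_ncard_conj octads octads_inv g k hk, fixed_ncard_conj trios trios_inv g k hk,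
      fixed_ncard_conj sextets sextets_inv g k hk, e]
    exact ⟨fixedO2B, fixedT2B, fixedS2B⟩

theorem fixed_3A (g : Equiv.Perm Cfsg.GolayPt) (hg : g ∈ Cfsg.M24) (h₃ : orderOf g = 3)
    (h₆ : (Finset.univ.filter fun p => g p = p).card = 6) :
    {o : Finset Cfsg.GolayPt | o ∈ Cfsg.octads ∧ g • o = o}.ncard = 21 ∧
    {T : Finset (Finset Cfsg.GolayPt) | T ∈ Cfsg.trios ∧ g • T = T}.ncard = 15 ∧
    {S : Finset (Finset Cfsg.GolayPt) | S ∈ Cfsg.sextets ∧ g • S = S}.ncard = 16 ∧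
    {d : Finset Cfsg.GolayPt | d ∈ Cfsg.dodecads ∧ g • d = d}.ncard = 20 := by
  rcases three_cases g hg h₃ with ⟨k, hk, e, -⟩ | ⟨k, hk, e, hf⟩
  · rw [fixed_ncard_conj octads octads_inv g k hk, fixed_ncard_conj trios trios_inv g k hk,
      fixed_ncard_conj sextets sextets_inv g k hk, fixed_ncard_conj dodecads dodecads_inv g k hk, e]
    exact ⟨fixedO3A, fixedT3A, fixedS3A, fixedD3A⟩
  · exfalso
    change (Fix g).card = 6 at h₆
    rw [hf] at h₆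
    simp at h₆

theorem fixed_3B (g : Equiv.Perm Cfsg.GolayPt) (hg : g ∈ Cfsg.M24) (h₃ : orderOf g = 3)
    (h₀ : ∀ p, g p ≠ p) :
    {S : Finset (Finset Cfsg.GolayPt) | S ∈ Cfsg.sextets ∧ g • S = S}.ncard = 7 ∧
    {T : Finset (Finset Cfsg.GolayPt) | T ∈ Cfsg.trios ∧ g • T = T}.ncard = 15 := by
  rcases three_cases g hg h₃ with ⟨k, hk, e, hc⟩ | ⟨k, hk, e, hf⟩
  · exfalso
    rw [(Fix_eq_empty_iff g).mpr h₀] at hc
    simp at hc
  · rw [fixed_ncard_conj trios trios_inv g k hk,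
      fixed_ncard_conj sextets sextets_inv g k hk, e]
    exact ⟨fixedS3B, fixedT3B⟩

end Cfsg.Agent.Lib.Helper9.M24H11
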