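import Cfsg.Agent.Lib.Helper9.M24H5

set_option autoImplicit false

namespace Cfsg.Agent.Lib.Helper9.M24H12

open Cfsg Finset Cfsg.Agent.Lib.Helper9.GolayQR1 Cfsg.Agent.Lib.Helper9.GolayQR5
  Cfsg.Agent.Lib.Helper9.M24T1 Cfsg.Agent.Lib.Helper9.M24T3 Cfsg.Agent.Lib.Helper9.M24U1
  Cfsg.Agent.Lib.Helper9.M24H1
  Cfsg.Agent.Lib.Helper9.M24H2 Cfsg.Agent.Lib.Helper9.M24H3 Cfsg.Agent.Lib.Helper9.M24H4
  Cfsg.Agent.Lib.Helper9.M24H5
open scoped Pointwise

/-- an element of order three without fixed points on an invariant set -/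
theorem three_dvd_card (x : Equiv.Perm GolayPt) (h3 : x * x * x = 1) (B : Finset GolayPt)
    (hB : ∀ p, x p ∈ B ↔ p ∈ B) (hfpf : ∀ p ∈ B, x p ≠ p) : 3 ∣ B.card := by
  classical
  haveI : Fact (Nat.Prime 3) := ⟨Nat.prime_three⟩
  have hσ : (x.subtypePerm hB) ^ 3 ^ 1 = 1 := by
    rw [pow_one, Equiv.Perm.subtypePerm_pow]
    apply Equiv.ext
    intro q
    apply Subtype.ext
    rw [Equiv.Perm.subtypePerm_apply]
    have : x ^ 3 = 1 := by rw [pow_succ, pow_two, h3]
    change (x ^ 3) q.1 = q.1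
    rw [this]
    rfl
  have h := Equiv.Perm.card_compl_support_modEq (p := 3) (n := 1) hσ
  have hsupp : (x.subtypePerm hB).supportᶜ = ∅ := by
    rw [Finset.eq_empty_iff_forall_notMem]
    intro q hq
    rw [Finset.mem_compl, Equiv.Perm.mem_support, not_not] at hq
    have := congrArg Subtype.val hq
    rw [Equiv.Perm.subtypePerm_apply] at this
    exact hfpf q.1 q.2 this
  rw [hsupp, Finset.card_empty, Fintype.card_coe] at h
  exact (Nat.modEq_zero_iff_dvd.mp h.symm)

theorem F16_no_three_aux :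
    (F16.all fun f => decide (f = 1 ∨ f * f * f ≠ 1)) = true := by decide +kernel

theorem F16_no_three : ∀ f ∈ F16, f * f * f = 1 → f = 1 := by
  intro f hf h
  have := List.all_eq_true.mp F16_no_three_aux f hf
  rw [decide_eq_true_eq] at this
  rcases this with h1 | h1
  · exact h1
  · exact absurd h h1

theorem F3_no_commute_aux :
    (F3.all fun f => F3.all fun y => decide (y = 1 ∨ (un2 * f) * y ≠ y * (un2 * f))) = true := by
  decide +kernel

theorem F3_no_commute : ∀ f ∈ F3, ∀ y ∈ F3, y ≠ 1 → (un2 * f) * y ≠ y * (un2 * f) := by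
  intro f hf y hy hy1
  have := List.all_eq_true.mp (List.all_eq_true.mp F3_no_commute_aux f hf) y hy
  rw [decide_eq_true_eq] at this
  rcases this with h1 | h1
  · exact absurd h1 hy1
  · exact h1

theorem commuting_pair (x s : Equiv.Perm Cfsg.GolayPt) (hx : x ∈ Cfsg.M24) (hs : s ∈ Cfsg.M24)
    (h₃ : orderOf x = 3) (h₂ : orderOf s = 2) (hc : Commute x s) :
    ((Finset.univ.filter fun p => x p = p).card = 6 ∧
      (Finset.univ.filter fun p => s p = p).card = 8) ∨
    ((Finset.univ.filter fun p => x p = p).card = 0 ∧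
      (Finset.univ.filter fun p => s p = p).card = 0) := by
  change ((Fix x).card = 6 ∧ (Fix s).card = 8) ∨ ((Fix x).card = 0 ∧ (Fix s).card = 0)
  have hxs : ∀ p, x (s p) = s (x p) := fun p => by
    rw [← Equiv.Perm.mul_apply, ← Equiv.Perm.mul_apply, hc.eq]
  obtain ⟨hx3, hx1⟩ := order_three x h₃
  obtain ⟨hs2, hs1⟩ := order_two s h₂
  rcases three_cases x hx h₃ with ⟨k, hk, e, hcx⟩ | ⟨k, hk, e, hfx⟩
  · rcases invol_cases s hs h₂ with ⟨k', hk', e', -, hcs⟩ | ⟨k', hk', e', hfs⟩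
    · exact Or.inl ⟨hcx, hcs⟩
    · exfalso
      -- `s` acts without fixed points on the six fixed points of `x`
      have hmv : ∀ p ∈ Fix x, s p ≠ p := fun p _ => (Fix_eq_empty_iff s).mp hfs p
      obtain ⟨a, c, e₁, ha, hc', he, hnd⟩ := pick_pairs s hs2 (Fix x) hmv (by omega)
      have hss : ∀ p, s (s p) = p := fun p => by rw [← Equiv.Perm.mul_apply, hs2]; rfl
      have hinv : ∀ p ∈ Fix x, s p ∈ Fix x := fun p hp => by
        rw [mem_Fix] at hp ⊢
        rw [hxs, hp]
      have hxL : ∀ p ∈ [a, s a, c, s c, e₁, s e₁], x p = p := by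
        intro p hp
        simp only [List.mem_cons, List.not_mem_nil, or_false] at hp
        rcases hp with rfl | rfl | rfl | rfl | rfl | rfl
        · exact (mem_Fix _ _).mp ha
        · exact (mem_Fix _ _).mp (hinv _ ha)
        · exact (mem_Fix _ _).mp hc'
        · exact (mem_Fix _ _).mp (hinv _ hc')
        · exact (mem_Fix _ _).mp he
        · exact (mem_Fix _ _).mp (hinv _ he)
      have hsL : [a, s a, c, s c, e₁, s e₁].map s =
          rearr [1, 0, 3, 2, 5, 4] [a, s a, c, s c, e₁, s e₁] := by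
        simp only [List.map_cons, List.map_nil, hss]
        rfl
      have hxL' : [a, s a, c, s c, e₁, s e₁].map x =
          rearr [0, 1, 2, 3, 4, 5] [a, s a, c, s c, e₁, s e₁] := by
        rw [rearr_id _ rfl]
        conv_rhs => rw [← List.map_id [a, s a, c, s c, e₁, s e₁]]
        exact List.map_congr_left hxL
      obtain ⟨k₀, hk₀, hkL⟩ := std_map _ hnd rfl
      have hx' : k₀ * x * k₀⁻¹ ∈ M24 := M24.mul_mem (M24.mul_mem hk₀ hx) (M24.inv_mem hk₀)
      have hs' : k₀ * s * k₀⁻¹ ∈ M24 := M24.mul_mem (M24.mul_mem hk₀ hs) (M24.inv_mem hk₀)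
      have hx3' : (k₀ * x * k₀⁻¹) * (k₀ * x * k₀⁻¹) * (k₀ * x * k₀⁻¹) = 1 := by
        have : (k₀ * x * k₀⁻¹) * (k₀ * x * k₀⁻¹) * (k₀ * x * k₀⁻¹) = k₀ * (x * x * x) * k₀⁻¹ := by
          group
        rw [this, hx3]
        group
      have hx1' : k₀ * x * k₀⁻¹ ≠ 1 := by
        intro h
        apply hx1
        have : x = k₀⁻¹ * (k₀ * x * k₀⁻¹) * k₀ := by group
        rw [this, h]
        group
      have hcomm : (k₀ * s * k₀⁻¹) * (k₀ * x * k₀⁻¹) = (k₀ * x * k₀⁻¹) * (k₀ * s * k₀⁻¹) := by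
        have e1 : (k₀ * s * k₀⁻¹) * (k₀ * x * k₀⁻¹) = k₀ * (s * x) * k₀⁻¹ := by group
        have e2 : (k₀ * x * k₀⁻¹) * (k₀ * s * k₀⁻¹) = k₀ * (x * s) * k₀⁻¹ := by group
        rw [e1, e2, hc.eq]
      rcases hkL with hkL | hkL
      · have hxm : Ls.map (k₀ * x * k₀⁻¹) = Ls.map (1 : Equiv.Perm GolayPt) := by
          rw [← hkL, map_conj, hxL', rearr_map, rearr_id _ (by simp)]
          simp
        obtain ⟨f, hf, ef⟩ := cand_of_map Ls _ 1 _ M24.one_mem hx' rfl hxm
        rw [one_mul] at ef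
        rw [ef] at hx3' hx1'
        exact hx1' (F16_no_three f (F16_sub f hf) hx3')
      · have hxm : Ln.map (k₀ * x * k₀⁻¹) = Ln.map (1 : Equiv.Perm GolayPt) := by
          rw [← hkL, map_conj, hxL', rearr_map, rearr_id _ (by simp)]
          simp
        obtain ⟨y, hy, ey⟩ := cand_of_map Ln _ 1 _ M24.one_mem hx' rfl hxm
        rw [one_mul] at ey
        have hsm : Ln.map (k₀ * s * k₀⁻¹) = rearr [1, 0, 3, 2, 5, 4] Ln := by
          rw [← hkL, map_conj, hsL, rearr_map]
        obtain ⟨f, hf, ef⟩ := cand_of_map Ln _ un2 _ un2_mem hs' un2_map hsm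
        rw [ey] at hx1'
        rw [ey, ef] at hcomm
        exact F3_no_commute f (F3_sub f hf) y (F3_sub y hy) hx1' hcomm
  · rcases invol_cases s hs h₂ with ⟨k', hk', e', -, hcs⟩ | ⟨k', hk', e', hfs⟩
    · exfalso
      have h := three_dvd_card x hx3 (Fix s) (fun p => by
        rw [mem_Fix, mem_Fix, ← hxs]
        exact ⟨fun h => x.injective h, fun h => by rw [h]⟩)
        (fun p _ => (Fix_eq_empty_iff x).mp hfx p)
      rw [hcs] at h
      omega
    · right
      rw [hfx, hfs]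
      exact ⟨rfl, rfl⟩

end Cfsg.Agent.Lib.Helper9.M24H12
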