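import Cfsg.Agent.Lib.Helper9.M24H1

set_option autoImplicit false

namespace Cfsg.Agent.Lib.Helper9.M24H2

open Cfsg Finset Cfsg.Agent.Lib.Helper9.GolayQR1
  Cfsg.Agent.Lib.Helper9.M24T1 Cfsg.Agent.Lib.Helper9.M24T3 Cfsg.Agent.Lib.Helper9.M24T4
  Cfsg.Agent.Lib.Helper9.M24U1 Cfsg.Agent.Lib.Helper9.M24H1
open scoped Pointwise

/-- element `a0` fixing the special list pointwise -/
def a0 : Equiv.Perm GolayPt :=
  tperm [0, 1, 2, 3, 4, 5, 6, 7, 8, 9, 10, 11, 12, 13, 14, 15, 16, 17, 18, 19, 20, 21, 22, 23]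
    [0, 1, 2, 3, 4, 5, 6, 7, 8, 9, 10, 11, 12, 13, 14, 15, 16, 17, 18, 19, 20, 21, 22, 23] (by decide +kernel) (by decide +kernel)

theorem a0_mem : a0 ∈ M24 := tperm_mem _ _ _ _ (by decide +kernel) (by decide +kernel)

/-- element `a1` fixing the special list pointwise -/
def a1 : Equiv.Perm GolayPt :=
  tperm [0, 1, 2, 3, 6, 5, 4, 22, 20, 12, 11, 10, 9, 19, 14, 18, 21, 17, 15, 13, 8, 16, 7, 23]
    [0, 1, 2, 3, 6, 5, 4, 22, 20, 12, 11, 10, 9, 19, 14, 18, 21, 17, 15, 13, 8, 16, 7, 23] (by decide +kernel) (by decide +kernel)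

theorem a1_mem : a1 ∈ M24 := tperm_mem _ _ _ _ (by decide +kernel) (by decide +kernel)

/-- element `a2` fixing the special list pointwise -/
def a2 : Equiv.Perm GolayPt :=
  tperm [0, 1, 2, 3, 7, 5, 22, 4, 15, 11, 12, 9, 10, 21, 14, 8, 19, 17, 20, 16, 18, 13, 6, 23]
    [0, 1, 2, 3, 7, 5, 22, 4, 15, 11, 12, 9, 10, 21, 14, 8, 19, 17, 20, 16, 18, 13, 6, 23] (by decide +kernel) (by decide +kernel)

theorem a2_mem : a2 ∈ M24 := tperm_mem _ _ _ _ (by decide +kernel) (by decide +kernel)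

/-- element `a3` fixing the special list pointwise -/
def a3 : Equiv.Perm GolayPt :=
  tperm [0, 1, 2, 3, 8, 5, 20, 15, 4, 21, 19, 13, 16, 11, 14, 7, 12, 17, 22, 10, 6, 9, 18, 23]
    [0, 1, 2, 3, 8, 5, 20, 15, 4, 21, 19, 13, 16, 11, 14, 7, 12, 17, 22, 10, 6, 9, 18, 23] (by decide +kernel) (by decide +kernel)

theorem a3_mem : a3 ∈ M24 := tperm_mem _ _ _ _ (by decide +kernel) (by decide +kernel)

/-- element `a4` fixing the special list pointwise -/
def a4 : Equiv.Perm GolayPt :=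
  tperm [0, 1, 2, 3, 9, 5, 12, 11, 21, 4, 22, 7, 6, 15, 14, 13, 20, 17, 19, 18, 16, 8, 10, 23]
    [0, 1, 2, 3, 9, 5, 12, 11, 21, 4, 22, 7, 6, 15, 14, 13, 20, 17, 19, 18, 16, 8, 10, 23] (by decide +kernel) (by decide +kernel)

theorem a4_mem : a4 ∈ M24 := tperm_mem _ _ _ _ (by decide +kernel) (by decide +kernel)

/-- element `a5` fixing the special list pointwise -/
def a5 : Equiv.Perm GolayPt :=
  tperm [0, 1, 2, 3, 10, 5, 11, 12, 19, 22, 4, 6, 7, 20, 14, 16, 15, 17, 21, 8, 13, 18, 9, 23]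
    [0, 1, 2, 3, 10, 5, 11, 12, 19, 22, 4, 6, 7, 20, 14, 16, 15, 17, 21, 8, 13, 18, 9, 23] (by decide +kernel) (by decide +kernel)

theorem a5_mem : a5 ∈ M24 := tperm_mem _ _ _ _ (by decide +kernel) (by decide +kernel)

/-- element `a6` fixing the special list pointwise -/
def a6 : Equiv.Perm GolayPt :=
  tperm [0, 1, 2, 3, 11, 5, 10, 9, 13, 7, 6, 4, 22, 8, 14, 21, 18, 17, 16, 20, 19, 15, 12, 23]
    [0, 1, 2, 3, 11, 5, 10, 9, 13, 7, 6, 4, 22, 8, 14, 21, 18, 17, 16, 20, 19, 15, 12, 23] (by decide +kernel) (by decide +kernel)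

theorem a6_mem : a6 ∈ M24 := tperm_mem _ _ _ _ (by decide +kernel) (by decide +kernel)

/-- element `a7` fixing the special list pointwise -/
def a7 : Equiv.Perm GolayPt :=
  tperm [0, 1, 2, 3, 12, 5, 9, 10, 16, 6, 7, 22, 4, 18, 14, 19, 8, 17, 13, 15, 21, 20, 11, 23]
    [0, 1, 2, 3, 12, 5, 9, 10, 16, 6, 7, 22, 4, 18, 14, 19, 8, 17, 13, 15, 21, 20, 11, 23] (by decide +kernel) (by decide +kernel)

theorem a7_mem : a7 ∈ M24 := tperm_mem _ _ _ _ (by decide +kernel) (by decide +kernel)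

/-- element `a8` fixing the special list pointwise -/
def a8 : Equiv.Perm GolayPt :=
  tperm [0, 1, 2, 3, 13, 5, 19, 21, 11, 15, 20, 8, 18, 4, 14, 9, 22, 17, 12, 6, 10, 7, 16, 23]
    [0, 1, 2, 3, 13, 5, 19, 21, 11, 15, 20, 8, 18, 4, 14, 9, 22, 17, 12, 6, 10, 7, 16, 23] (by decide +kernel) (by decide +kernel)

theorem a8_mem : a8 ∈ M24 := tperm_mem _ _ _ _ (by decide +kernel) (by decide +kernel)

/-- element `a9` fixing the special list pointwise -/
def a9 : Equiv.Perm GolayPt :=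
  tperm [0, 1, 2, 3, 15, 5, 18, 8, 7, 13, 16, 21, 19, 9, 14, 4, 10, 17, 6, 12, 22, 11, 20, 23]
    [0, 1, 2, 3, 15, 5, 18, 8, 7, 13, 16, 21, 19, 9, 14, 4, 10, 17, 6, 12, 22, 11, 20, 23] (by decide +kernel) (by decide +kernel)

theorem a9_mem : a9 ∈ M24 := tperm_mem _ _ _ _ (by decide +kernel) (by decide +kernel)

/-- element `a10` fixing the special list pointwise -/
def a10 : Equiv.Perm GolayPt :=
  tperm [0, 1, 2, 3, 16, 5, 21, 19, 12, 20, 15, 18, 8, 22, 14, 10, 4, 17, 11, 7, 9, 6, 13, 23]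
    [0, 1, 2, 3, 16, 5, 21, 19, 12, 20, 15, 18, 8, 22, 14, 10, 4, 17, 11, 7, 9, 6, 13, 23] (by decide +kernel) (by decide +kernel)

theorem a10_mem : a10 ∈ M24 := tperm_mem _ _ _ _ (by decide +kernel) (by decide +kernel)

/-- element `a11` fixing the special list pointwise -/
def a11 : Equiv.Perm GolayPt :=
  tperm [0, 1, 2, 3, 18, 5, 15, 20, 22, 19, 21, 16, 13, 12, 14, 6, 11, 17, 4, 9, 7, 10, 8, 23]
    [0, 1, 2, 3, 18, 5, 15, 20, 22, 19, 21, 16, 13, 12, 14, 6, 11, 17, 4, 9, 7, 10, 8, 23] (by decide +kernel) (by decide +kernel)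

theorem a11_mem : a11 ∈ M24 := tperm_mem _ _ _ _ (by decide +kernel) (by decide +kernel)

/-- element `a12` fixing the special list pointwise -/
def a12 : Equiv.Perm GolayPt :=
  tperm [0, 1, 2, 3, 19, 5, 13, 16, 10, 18, 8, 20, 15, 6, 14, 12, 7, 17, 9, 4, 11, 22, 21, 23]
    [0, 1, 2, 3, 19, 5, 13, 16, 10, 18, 8, 20, 15, 6, 14, 12, 7, 17, 9, 4, 11, 22, 21, 23] (by decide +kernel) (by decide +kernel)

theorem a12_mem : a12 ∈ M24 := tperm_mem _ _ _ _ (by decide +kernel) (by decide +kernel)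

/-- element `a13` fixing the special list pointwise -/
def a13 : Equiv.Perm GolayPt :=
  tperm [0, 1, 2, 3, 20, 5, 8, 18, 6, 16, 13, 19, 21, 10, 14, 22, 9, 17, 7, 11, 4, 12, 15, 23]
    [0, 1, 2, 3, 20, 5, 8, 18, 6, 16, 13, 19, 21, 10, 14, 22, 9, 17, 7, 11, 4, 12, 15, 23] (by decide +kernel) (by decide +kernel)

theorem a13_mem : a13 ∈ M24 := tperm_mem _ _ _ _ (by decide +kernel) (by decide +kernel)

/-- element `a14` fixing the special list pointwise -/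
def a14 : Equiv.Perm GolayPt :=
  tperm [0, 1, 2, 3, 21, 5, 16, 13, 9, 8, 18, 15, 20, 7, 14, 11, 6, 17, 10, 22, 12, 4, 19, 23]
    [0, 1, 2, 3, 21, 5, 16, 13, 9, 8, 18, 15, 20, 7, 14, 11, 6, 17, 10, 22, 12, 4, 19, 23] (by decide +kernel) (by decide +kernel)

theorem a14_mem : a14 ∈ M24 := tperm_mem _ _ _ _ (by decide +kernel) (by decide +kernel)

/-- element `a15` fixing the special list pointwise -/
def a15 : Equiv.Perm GolayPt :=
  tperm [0, 1, 2, 3, 22, 5, 7, 6, 18, 10, 9, 12, 11, 16, 14, 20, 13, 17, 8, 21, 15, 19, 4, 23]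
    [0, 1, 2, 3, 22, 5, 7, 6, 18, 10, 9, 12, 11, 16, 14, 20, 13, 17, 8, 21, 15, 19, 4, 23] (by decide +kernel) (by decide +kernel)

theorem a15_mem : a15 ∈ M24 := tperm_mem _ _ _ _ (by decide +kernel) (by decide +kernel)

/-- element `b0` fixing the non-special list pointwise -/
def b0 : Equiv.Perm GolayPt :=
  tperm [0, 1, 2, 3, 4, 5, 6, 7, 8, 9, 10, 11, 12, 13, 14, 15, 16, 17, 18, 19, 20, 21, 22, 23]
    [0, 1, 2, 3, 4, 5, 6, 7, 8, 9, 10, 11, 12, 13, 14, 15, 16, 17, 18, 19, 20, 21, 22, 23] (by decide +kernel) (by decide +kernel)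

theorem b0_mem : b0 ∈ M24 := tperm_mem _ _ _ _ (by decide +kernel) (by decide +kernel)

/-- element `b1` fixing the non-special list pointwise -/
def b1 : Equiv.Perm GolayPt :=
  tperm [0, 1, 2, 3, 4, 14, 15, 10, 21, 8, 12, 19, 7, 22, 17, 18, 13, 5, 6, 20, 11, 9, 16, 23]
    [0, 1, 2, 3, 4, 17, 18, 12, 9, 21, 7, 20, 10, 16, 5, 6, 22, 14, 15, 11, 19, 8, 13, 23] (by decide +kernel) (by decide +kernel)

theorem b1_mem : b1 ∈ M24 := tperm_mem _ _ _ _ (by decide +kernel) (by decide +kernel)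

/-- element `b2` fixing the non-special list pointwise -/
def b2 : Equiv.Perm GolayPt :=
  tperm [0, 1, 2, 3, 4, 17, 18, 12, 9, 21, 7, 20, 10, 16, 5, 6, 22, 14, 15, 11, 19, 8, 13, 23]
    [0, 1, 2, 3, 4, 14, 15, 10, 21, 8, 12, 19, 7, 22, 17, 18, 13, 5, 6, 20, 11, 9, 16, 23] (by decide +kernel) (by decide +kernel)

theorem b2_mem : b2 ∈ M24 := tperm_mem _ _ _ _ (by decide +kernel) (by decide +kernel)

/-- the elements fixing `Ls` pointwise -/
def F16 : List (Equiv.Perm GolayPt) := [a0, a1, a2, a3, a4, a5, a6, a7, a8, a9, a10, a11, a12, a13, a14, a15]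

theorem F16_fix : ∀ f ∈ F16, f ∈ fixL M24 Ls := by
  intro f hf
  simp only [F16, List.mem_cons, List.not_mem_nil, or_false] at hf
  rcases hf with rfl | rfl | rfl | rfl | rfl | rfl | rfl | rfl | rfl | rfl | rfl | rfl | rfl | rfl | rfl | rfl
  · exact ⟨a0_mem, by decide +kernel⟩
  · exact ⟨a1_mem, by decide +kernel⟩
  · exact ⟨a2_mem, by decide +kernel⟩
  · exact ⟨a3_mem, by decide +kernel⟩
  · exact ⟨a4_mem, by decide +kernel⟩
  · exact ⟨a5_mem, by decide +kernel⟩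
  · exact ⟨a6_mem, by decide +kernel⟩
  · exact ⟨a7_mem, by decide +kernel⟩
  · exact ⟨a8_mem, by decide +kernel⟩
  · exact ⟨a9_mem, by decide +kernel⟩
  · exact ⟨a10_mem, by decide +kernel⟩
  · exact ⟨a11_mem, by decide +kernel⟩
  · exact ⟨a12_mem, by decide +kernel⟩
  · exact ⟨a13_mem, by decide +kernel⟩
  · exact ⟨a14_mem, by decide +kernel⟩
  · exact ⟨a15_mem, by decide +kernel⟩

theorem F16_nodup : F16.Nodup := by
  apply List.Nodup.of_map (fun f : Equiv.Perm GolayPt => f (some 4))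
  decide +kernel

theorem F16_sub : ∀ f ∈ fixL M24 Ls, f ∈ F16 :=
  mem_of_card _ F16 F16_nodup F16_fix (by rw [card_fixLs]; rfl) (by decide)

/-- the elements fixing `Ln` pointwise -/
def F3 : List (Equiv.Perm GolayPt) := [b0, b1, b2]

theorem F3_fix : ∀ f ∈ F3, f ∈ fixL M24 Ln := by
  intro f hf
  simp only [F3, List.mem_cons, List.not_mem_nil, or_false] at hf
  rcases hf with rfl | rfl | rfl
  · exact ⟨b0_mem, by decide +kernel⟩
  · exact ⟨b1_mem, by decide +kernel⟩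
  · exact ⟨b2_mem, by decide +kernel⟩

theorem F3_nodup : F3.Nodup := by
  apply List.Nodup.of_map (fun f : Equiv.Perm GolayPt => f (some 5))
  decide +kernel

theorem F3_sub : ∀ f ∈ fixL M24 Ln, f ∈ F3 :=
  mem_of_card _ F3 F3_nodup F3_fix (by rw [card_fixLn]; rfl) (by decide)

end Cfsg.Agent.Lib.Helper9.M24H2
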