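import Cfsg.Agent.Lib.Helper9.M24H2

set_option autoImplicit false

namespace Cfsg.Agent.Lib.Helper9.M24H3

open Cfsg Finset Cfsg.Agent.Lib.Helper9.GolayQR1
  Cfsg.Agent.Lib.Helper9.M24T1 Cfsg.Agent.Lib.Helper9.M24T3 Cfsg.Agent.Lib.Helper9.M24T4
  Cfsg.Agent.Lib.Helper9.M24U1 Cfsg.Agent.Lib.Helper9.M24H1 Cfsg.Agent.Lib.Helper9.M24H2
  Cfsg.Agent.Lib.Helper9.GolayQR5
open scoped Pointwise

/-- the representative of the class `2A` -/
def r2A : Equiv.Perm GolayPt :=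
  tperm [0, 1, 2, 3, 6, 5, 4, 22, 20, 12, 11, 10, 9, 19, 14, 18, 21, 17, 15, 13, 8, 16, 7, 23]
    [0, 1, 2, 3, 6, 5, 4, 22, 20, 12, 11, 10, 9, 19, 14, 18, 21, 17, 15, 13, 8, 16, 7, 23] (by decide +kernel) (by decide +kernel)

theorem r2A_mem : r2A ∈ M24 := tperm_mem _ _ _ _ (by decide +kernel) (by decide +kernel)

/-- the representative of the class `2B` -/
def r2B : Equiv.Perm GolayPt :=
  tperm [23, 2, 1, 5, 18, 3, 9, 10, 22, 6, 7, 16, 13, 12, 17, 19, 11, 14, 4, 15, 21, 20, 8, 0]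
    [23, 2, 1, 5, 18, 3, 9, 10, 22, 6, 7, 16, 13, 12, 17, 19, 11, 14, 4, 15, 21, 20, 8, 0] (by decide +kernel) (by decide +kernel)

theorem r2B_mem : r2B ∈ M24 := tperm_mem _ _ _ _ (by decide +kernel) (by decide +kernel)

/-- an element acting on the special list by the pattern -/
def us2 : Equiv.Perm GolayPt :=
  tperm [23, 2, 1, 5, 9, 3, 18, 8, 21, 13, 16, 7, 6, 15, 17, 4, 20, 14, 19, 12, 22, 11, 10, 0]
    [23, 2, 1, 5, 15, 3, 12, 11, 7, 4, 22, 21, 19, 9, 17, 13, 10, 14, 6, 18, 16, 8, 20, 0] (by decide +kernel) (by decide +kernel)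

theorem us2_mem : us2 ∈ M24 := tperm_mem _ _ _ _ (by decide +kernel) (by decide +kernel)

/-- an element acting on the non-special list by the pattern -/
def un2 : Equiv.Perm GolayPt :=
  tperm [23, 2, 1, 4, 3, 16, 7, 6, 20, 11, 18, 9, 15, 17, 22, 12, 5, 13, 10, 21, 8, 19, 14, 0]
    [23, 2, 1, 4, 3, 16, 7, 6, 20, 11, 18, 9, 15, 17, 22, 12, 5, 13, 10, 21, 8, 19, 14, 0] (by decide +kernel) (by decide +kernel)

theorem un2_mem : un2 ∈ M24 := tperm_mem _ _ _ _ (by decide +kernel) (by decide +kernel)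

theorem us2_map : Ls.map us2 = rearr [1, 0, 3, 2, 5, 4] Ls := by decide +kernel

theorem un2_map : Ln.map un2 = rearr [1, 0, 3, 2, 5, 4] Ln := by decide +kernel

/-- nontrivial elements of order dividing 2 -/
def P2 (g : Equiv.Perm GolayPt) : Prop := g * g = 1 ∧ g ≠ 1

/-- conjugates of the representatives -/
def Q2 (g : Equiv.Perm GolayPt) : Prop :=
  ∃ k ∈ M24, k * g * k⁻¹ = r2A ∨ k * g * k⁻¹ = r2B

theorem hQ2 (g k : Equiv.Perm GolayPt) (hk : k ∈ M24) (h : Q2 (k * g * k⁻¹)) : Q2 g := by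
  obtain ⟨k', hk', h'⟩ := h
  refine ⟨k' * k, M24.mul_mem hk' hk, ?_⟩
  have e : k' * k * g * (k' * k)⁻¹ = k' * (k * g * k⁻¹) * k'⁻¹ := by group
  rw [e]
  exact h'

theorem hP2 (g k : Equiv.Perm GolayPt) (h : P2 g) : P2 (k * g * k⁻¹) := by
  obtain ⟨h1, h2⟩ := h
  constructor
  · have e : (k * g * k⁻¹) * (k * g * k⁻¹) = k * (g * g) * k⁻¹ := by group
    rw [e, h1]
    group
  · intro h
    apply h2
    have e : g = k⁻¹ * (k * g * k⁻¹) * k := by group
    rw [e, h]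
    group

theorem hall_s2 : ∀ f ∈ F16, P2 (us2 * f) → Q2 (us2 * f) := by
  intro f hf
  simp only [F16, List.mem_cons, List.not_mem_nil, or_false] at hf
  rcases hf with rfl | rfl | rfl | rfl | rfl | rfl | rfl | rfl | rfl | rfl | rfl | rfl | rfl | rfl | rfl | rfl
  · intro h; exact absurd h.1 (by decide +kernel)
  · intro _
    exact ⟨tperm [0, 1, 2, 3, 4, 5, 6, 7, 8, 9, 10, 11, 12, 13, 14, 15, 16, 17, 18, 19, 20, 21, 22, 23]
      [0, 1, 2, 3, 4, 5, 6, 7, 8, 9, 10, 11, 12, 13, 14, 15, 16, 17, 18, 19, 20, 21, 22, 23] (by decide +kernel) (by decide +kernel),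
      tperm_mem _ _ _ _ (by decide +kernel) (by decide +kernel), Or.inr (by decide +kernel)⟩
  · intro _
    exact ⟨tperm [8, 10, 7, 21, 15, 20, 4, 14, 19, 17, 18, 6, 5, 9, 16, 2, 3, 11, 23, 13, 12, 1, 0, 22]
      [22, 21, 15, 16, 6, 12, 11, 2, 0, 13, 1, 17, 20, 19, 7, 4, 14, 9, 10, 8, 5, 3, 23, 18] (by decide +kernel) (by decide +kernel),
      tperm_mem _ _ _ _ (by decide +kernel) (by decide +kernel), Or.inr (by decide +kernel)⟩
  · intro h; exact absurd h.1 (by decide +kernel)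
  · intro _
    exact ⟨tperm [7, 16, 21, 8, 19, 20, 2, 0, 15, 1, 5, 18, 9, 13, 11, 23, 6, 10, 12, 3, 14, 17, 4, 22]
      [7, 9, 6, 19, 22, 10, 16, 0, 3, 12, 17, 14, 18, 13, 20, 8, 1, 21, 11, 4, 5, 2, 23, 15] (by decide +kernel) (by decide +kernel),
      tperm_mem _ _ _ _ (by decide +kernel) (by decide +kernel), Or.inl (by decide +kernel)⟩
  · intro _
    exact ⟨tperm [20, 10, 7, 15, 11, 19, 17, 14, 18, 23, 0, 13, 4, 22, 6, 3, 16, 9, 12, 2, 5, 1, 8, 21]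
      [10, 21, 19, 15, 12, 20, 14, 2, 22, 17, 1, 4, 18, 11, 7, 3, 16, 6, 8, 5, 0, 23, 13, 9] (by decide +kernel) (by decide +kernel),
      tperm_mem _ _ _ _ (by decide +kernel) (by decide +kernel), Or.inr (by decide +kernel)⟩
  · intro h; exact absurd h.1 (by decide +kernel)
  · intro h; exact absurd h.1 (by decide +kernel)
  · intro h; exact absurd h.1 (by decide +kernel)
  · intro _
    exact ⟨tperm [11, 4, 6, 9, 5, 12, 19, 20, 3, 21, 15, 14, 1, 2, 22, 16, 23, 7, 17, 13, 18, 8, 0, 10]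
      [22, 12, 13, 8, 1, 4, 2, 17, 21, 3, 23, 0, 5, 19, 11, 10, 15, 18, 20, 6, 7, 9, 14, 16] (by decide +kernel) (by decide +kernel),
      tperm_mem _ _ _ _ (by decide +kernel) (by decide +kernel), Or.inl (by decide +kernel)⟩
  · intro h; exact absurd h.1 (by decide +kernel)
  · intro h; exact absurd h.1 (by decide +kernel)
  · intro _
    exact ⟨tperm [7, 22, 8, 20, 18, 21, 5, 6, 1, 0, 15, 14, 4, 12, 11, 3, 2, 16, 13, 23, 9, 19, 17, 10]
      [9, 8, 16, 15, 12, 6, 7, 0, 2, 20, 23, 14, 13, 18, 11, 10, 17, 22, 4, 21, 3, 5, 1, 19] (by decide +kernel) (by decide +kernel),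
      tperm_mem _ _ _ _ (by decide +kernel) (by decide +kernel), Or.inr (by decide +kernel)⟩
  · intro _
    exact ⟨tperm [23, 5, 3, 18, 1, 4, 11, 8, 7, 9, 19, 20, 21, 14, 12, 15, 17, 13, 10, 22, 6, 16, 2, 0]
      [23, 4, 22, 2, 5, 1, 20, 8, 7, 9, 18, 6, 14, 17, 13, 15, 21, 16, 3, 10, 11, 12, 19, 0] (by decide +kernel) (by decide +kernel),
      tperm_mem _ _ _ _ (by decide +kernel) (by decide +kernel), Or.inr (by decide +kernel)⟩
  · intro _
    exact ⟨tperm [0, 14, 17, 2, 21, 1, 16, 18, 10, 13, 8, 20, 19, 7, 5, 4, 9, 3, 6, 22, 11, 12, 15, 23]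
      [0, 5, 3, 17, 15, 14, 18, 13, 10, 16, 8, 20, 21, 9, 1, 22, 6, 2, 7, 12, 11, 4, 19, 23] (by decide +kernel) (by decide +kernel),
      tperm_mem _ _ _ _ (by decide +kernel) (by decide +kernel), Or.inr (by decide +kernel)⟩
  · intro h; exact absurd h.1 (by decide +kernel)

theorem hall_n2 : ∀ f ∈ F3, P2 (un2 * f) → Q2 (un2 * f) := by
  intro f hf
  simp only [F3, List.mem_cons, List.not_mem_nil, or_false] at hf
  rcases hf with rfl | rfl | rfl
  · intro _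
    exact ⟨tperm [22, 14, 17, 9, 6, 18, 16, 11, 10, 20, 5, 21, 23, 12, 15, 0, 4, 13, 3, 2, 7, 1, 19, 8]
      [15, 21, 19, 18, 16, 10, 4, 20, 23, 3, 8, 7, 13, 17, 1, 14, 6, 2, 5, 22, 9, 11, 0, 12] (by decide +kernel) (by decide +kernel),
      tperm_mem _ _ _ _ (by decide +kernel) (by decide +kernel), Or.inr (by decide +kernel)⟩
  · intro _
    exact ⟨tperm [4, 1, 2, 10, 7, 11, 5, 0, 6, 14, 12, 15, 3, 8, 22, 13, 21, 20, 23, 9, 17, 19, 16, 18]
      [7, 1, 2, 12, 0, 6, 8, 4, 13, 19, 3, 5, 10, 15, 9, 11, 22, 20, 23, 21, 17, 16, 14, 18] (by decide +kernel) (by decide +kernel),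
      tperm_mem _ _ _ _ (by decide +kernel) (by decide +kernel), Or.inr (by decide +kernel)⟩
  · intro _
    exact ⟨tperm [3, 21, 20, 8, 22, 16, 9, 19, 10, 18, 6, 7, 0, 11, 2, 15, 1, 14, 23, 4, 12, 13, 17, 5]
      [12, 16, 14, 0, 19, 23, 10, 11, 3, 6, 8, 13, 20, 21, 17, 15, 5, 22, 9, 7, 2, 1, 4, 18] (by decide +kernel) (by decide +kernel),
      tperm_mem _ _ _ _ (by decide +kernel) (by decide +kernel), Or.inr (by decide +kernel)⟩

theorem hall_s2_id : ∀ f ∈ F16, P2 ((1 : Equiv.Perm GolayPt) * f) → Q2 ((1 : Equiv.Perm GolayPt) * f) := by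
  intro f hf
  simp only [F16, List.mem_cons, List.not_mem_nil, or_false] at hf
  rcases hf with rfl | rfl | rfl | rfl | rfl | rfl | rfl | rfl | rfl | rfl | rfl | rfl | rfl | rfl | rfl | rfl
  · intro h; exact absurd (by decide +kernel) h.2
  · intro _
    exact ⟨tperm [0, 1, 2, 3, 4, 5, 6, 7, 8, 9, 10, 11, 12, 13, 14, 15, 16, 17, 18, 19, 20, 21, 22, 23]
      [0, 1, 2, 3, 4, 5, 6, 7, 8, 9, 10, 11, 12, 13, 14, 15, 16, 17, 18, 19, 20, 21, 22, 23] (by decide +kernel) (by decide +kernel),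
      tperm_mem _ _ _ _ (by decide +kernel) (by decide +kernel), Or.inl (by decide +kernel)⟩
  · intro _
    exact ⟨tperm [14, 0, 1, 2, 4, 3, 16, 6, 7, 9, 8, 12, 20, 10, 17, 22, 18, 5, 13, 15, 19, 11, 21, 23]
      [1, 2, 3, 5, 4, 17, 7, 8, 10, 9, 13, 21, 11, 18, 0, 19, 6, 14, 16, 20, 12, 22, 15, 23] (by decide +kernel) (by decide +kernel),
      tperm_mem _ _ _ _ (by decide +kernel) (by decide +kernel), Or.inl (by decide +kernel)⟩
  · intro _
    exact ⟨tperm [1, 2, 0, 17, 11, 3, 19, 21, 10, 22, 4, 20, 15, 8, 14, 16, 18, 5, 9, 6, 13, 7, 12, 23]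
      [2, 0, 1, 5, 10, 17, 19, 21, 13, 18, 8, 4, 22, 20, 14, 12, 15, 3, 16, 6, 11, 7, 9, 23] (by decide +kernel) (by decide +kernel),
      tperm_mem _ _ _ _ (by decide +kernel) (by decide +kernel), Or.inl (by decide +kernel)⟩
  · intro _
    exact ⟨tperm [2, 23, 1, 17, 10, 3, 6, 8, 12, 11, 19, 20, 4, 18, 14, 15, 7, 0, 21, 16, 22, 9, 13, 5]
      [17, 2, 0, 5, 12, 23, 6, 16, 7, 21, 4, 9, 8, 22, 14, 15, 19, 3, 13, 10, 11, 18, 20, 1] (by decide +kernel) (by decide +kernel),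
      tperm_mem _ _ _ _ (by decide +kernel) (by decide +kernel), Or.inl (by decide +kernel)⟩
  · intro _
    exact ⟨tperm [17, 5, 1, 2, 12, 0, 4, 11, 15, 7, 9, 6, 10, 13, 3, 20, 8, 14, 21, 18, 19, 16, 22, 23]
      [5, 2, 3, 14, 6, 1, 11, 9, 16, 10, 12, 7, 4, 13, 17, 8, 21, 0, 19, 20, 15, 18, 22, 23] (by decide +kernel) (by decide +kernel),
      tperm_mem _ _ _ _ (by decide +kernel) (by decide +kernel), Or.inl (by decide +kernel)⟩
  · intro _
    exact ⟨tperm [1, 17, 2, 0, 9, 3, 19, 8, 15, 20, 13, 12, 7, 18, 14, 11, 21, 5, 16, 4, 6, 10, 22, 23]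
      [3, 0, 2, 5, 19, 17, 20, 12, 7, 4, 21, 15, 11, 10, 14, 8, 18, 1, 13, 6, 9, 16, 22, 23] (by decide +kernel) (by decide +kernel),
      tperm_mem _ _ _ _ (by decide +kernel) (by decide +kernel), Or.inl (by decide +kernel)⟩
  · intro _
    exact ⟨tperm [17, 5, 2, 1, 20, 0, 4, 15, 11, 6, 18, 7, 8, 16, 14, 12, 10, 3, 21, 9, 19, 13, 22, 23]
      [5, 3, 2, 17, 6, 1, 9, 11, 12, 19, 16, 8, 15, 21, 14, 7, 13, 0, 10, 20, 4, 18, 22, 23] (by decide +kernel) (by decide +kernel),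
      tperm_mem _ _ _ _ (by decide +kernel) (by decide +kernel), Or.inl (by decide +kernel)⟩
  · intro _
    exact ⟨tperm [1, 17, 0, 2, 11, 3, 19, 15, 8, 12, 4, 20, 21, 10, 5, 9, 7, 14, 16, 13, 6, 18, 22, 23]
      [2, 0, 3, 5, 10, 14, 20, 16, 8, 15, 13, 4, 9, 19, 17, 7, 18, 1, 21, 6, 11, 12, 22, 23] (by decide +kernel) (by decide +kernel),
      tperm_mem _ _ _ _ (by decide +kernel) (by decide +kernel), Or.inl (by decide +kernel)⟩
  · intro _
    exact ⟨tperm [2, 3, 5, 17, 4, 1, 20, 18, 15, 13, 21, 12, 10, 19, 0, 6, 16, 14, 8, 11, 22, 9, 7, 23]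
      [14, 5, 0, 1, 4, 2, 15, 22, 18, 21, 12, 19, 11, 9, 17, 8, 16, 3, 7, 13, 6, 10, 20, 23] (by decide +kernel) (by decide +kernel),
      tperm_mem _ _ _ _ (by decide +kernel) (by decide +kernel), Or.inl (by decide +kernel)⟩
  · intro _
    exact ⟨tperm [1, 2, 3, 5, 4, 17, 7, 8, 10, 9, 13, 21, 11, 18, 0, 19, 6, 14, 16, 20, 12, 22, 15, 23]
      [14, 0, 1, 2, 4, 3, 16, 6, 7, 9, 8, 12, 20, 10, 17, 22, 18, 5, 13, 15, 19, 11, 21, 23] (by decide +kernel) (by decide +kernel),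
      tperm_mem _ _ _ _ (by decide +kernel) (by decide +kernel), Or.inl (by decide +kernel)⟩
  · intro _
    exact ⟨tperm [3, 0, 2, 5, 19, 17, 20, 12, 7, 4, 21, 15, 11, 10, 14, 8, 18, 1, 13, 6, 9, 16, 22, 23]
      [1, 17, 2, 0, 9, 3, 19, 8, 15, 20, 13, 12, 7, 18, 14, 11, 21, 5, 16, 4, 6, 10, 22, 23] (by decide +kernel) (by decide +kernel),
      tperm_mem _ _ _ _ (by decide +kernel) (by decide +kernel), Or.inl (by decide +kernel)⟩
  · intro _
    exact ⟨tperm [2, 1, 17, 3, 16, 5, 22, 9, 8, 13, 20, 10, 4, 7, 14, 6, 12, 0, 19, 21, 11, 18, 15, 23]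
      [17, 1, 0, 3, 12, 5, 15, 13, 8, 7, 11, 20, 16, 9, 14, 22, 4, 2, 21, 18, 10, 19, 6, 23] (by decide +kernel) (by decide +kernel),
      tperm_mem _ _ _ _ (by decide +kernel) (by decide +kernel), Or.inl (by decide +kernel)⟩
  · intro _
    exact ⟨tperm [5, 3, 2, 17, 6, 1, 9, 11, 12, 19, 16, 8, 15, 21, 14, 7, 13, 0, 10, 20, 4, 18, 22, 23]
      [17, 5, 2, 1, 20, 0, 4, 15, 11, 6, 18, 7, 8, 16, 14, 12, 10, 3, 21, 9, 19, 13, 22, 23] (by decide +kernel) (by decide +kernel),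
      tperm_mem _ _ _ _ (by decide +kernel) (by decide +kernel), Or.inl (by decide +kernel)⟩
  · intro _
    exact ⟨tperm [17, 3, 0, 1, 20, 14, 19, 7, 16, 21, 6, 10, 15, 22, 5, 11, 13, 2, 4, 12, 18, 8, 9, 23]
      [2, 3, 17, 1, 18, 14, 10, 7, 21, 22, 11, 15, 19, 16, 5, 12, 8, 0, 20, 6, 4, 9, 13, 23] (by decide +kernel) (by decide +kernel),
      tperm_mem _ _ _ _ (by decide +kernel) (by decide +kernel), Or.inl (by decide +kernel)⟩
  · intro _
    exact ⟨tperm [5, 3, 17, 2, 7, 1, 9, 12, 11, 8, 20, 19, 13, 18, 0, 6, 15, 14, 10, 16, 4, 21, 22, 23]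
      [14, 5, 3, 1, 20, 0, 15, 4, 9, 6, 18, 8, 7, 12, 17, 16, 19, 2, 13, 11, 10, 21, 22, 23] (by decide +kernel) (by decide +kernel),
      tperm_mem _ _ _ _ (by decide +kernel) (by decide +kernel), Or.inl (by decide +kernel)⟩

theorem hall_n2_id : ∀ f ∈ F3, P2 ((1 : Equiv.Perm GolayPt) * f) → Q2 ((1 : Equiv.Perm GolayPt) * f) := by
  intro f hf
  simp only [F3, List.mem_cons, List.not_mem_nil, or_false] at hf
  rcases hf with rfl | rfl | rfl
  · intro h; exact absurd (by decide +kernel) h.2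
  · intro h; exact absurd h.1 (by decide +kernel)
  · intro h; exact absurd h.1 (by decide +kernel)

/-- elements acting by the pattern are conjugate to a representative -/
theorem class_pat2 (g : Equiv.Perm GolayPt) (hg : g ∈ M24) (L : List GolayPt) (hnd : L.Nodup)
    (h6 : L.length = 6) (hgL : L.map g = rearr [1, 0, 3, 2, 5, 4] L) (hP : P2 g) : Q2 g :=
  class_of_pattern P2 Q2 hQ2 hP2 F16 F3 F16_sub F3_sub [1, 0, 3, 2, 5, 4] us2 un2 us2_mem un2_mem
    us2_map un2_map hall_s2 hall_n2 g hg L hnd h6 hgL hP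

/-- elements fixing six points are conjugate to a representative -/
theorem class_fix2 (g : Equiv.Perm GolayPt) (hg : g ∈ M24) (L : List GolayPt) (hnd : L.Nodup)
    (h6 : L.length = 6) (hgL : ∀ p ∈ L, g p = p) (hP : P2 g) : Q2 g := by
  refine class_of_pattern P2 Q2 hQ2 hP2 F16 F3 F16_sub F3_sub [0, 1, 2, 3, 4, 5] 1 1 M24.one_mem
    M24.one_mem (by decide +kernel) (by decide +kernel) hall_s2_id hall_n2_id g hg L hnd h6 ?_ hP
  rw [rearr_id L h6]
  conv_rhs => rw [← List.map_id L]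
  apply List.map_congr_left
  intro p hp
  exact hgL p hp

/-- the classification of the involutions of `M24` -/
theorem invol_class (g : Equiv.Perm GolayPt) (hg : g ∈ M24) (h2 : g * g = 1) (h1 : g ≠ 1) : Q2 g := by
  have hgg : ∀ p, g (g p) = p := fun p => by rw [← Equiv.Perm.mul_apply, h2]; rfl
  by_cases hc : 5 ≤ (univ.filter fun p => g p ≠ p).card
  · obtain ⟨a, c, e, -, -, -, hnd⟩ := pick_pairs g h2 (univ.filter fun p => g p ≠ p)
      (fun p hp => (mem_filter.mp hp).2) hc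
    refine class_pat2 g hg _ hnd rfl ?_ ⟨h2, h1⟩
    simp only [List.map_cons, List.map_nil, hgg]
    rfl
  · have hB : 6 ≤ (univ.filter fun p => g p = p).card := by
      have h := card_filter_add_card_filter_not (s := (univ : Finset GolayPt))
        (fun p => g p = p)
      rw [card_univ, card_golayPt] at h
      change _ + (univ.filter fun p => g p ≠ p).card = 24 at h
      omega
    obtain ⟨L, hnd, h6, hL⟩ := pick_six _ hB
    exact class_fix2 g hg L hnd h6 (fun p hp => (mem_filter.mp (hL p hp)).2) ⟨h2, h1⟩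

end Cfsg.Agent.Lib.Helper9.M24H3
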