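import Cfsg.Agent.Lib.Helper9.M24H5

set_option autoImplicit false

namespace Cfsg.Agent.Lib.Helper9.M24H6

open Cfsg Finset Cfsg.Agent.Lib.Helper9.GolayQR1 Cfsg.Agent.Lib.Helper9.GolayQR5
  Cfsg.Agent.Lib.Helper9.M24T1 Cfsg.Agent.Lib.Helper9.M24U1 Cfsg.Agent.Lib.Helper9.M24H1
  Cfsg.Agent.Lib.Helper9.M24H2 Cfsg.Agent.Lib.Helper9.M24H3 Cfsg.Agent.Lib.Helper9.M24H4
  Cfsg.Agent.Lib.Helper9.M24H5
open scoped Pointwise

theorem two_involution_classes :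
    (∀ g ∈ Cfsg.M24, orderOf g = 2 →
      (Finset.univ.filter fun p => g p = p) ∈ Cfsg.octads ∨ ∀ p, g p ≠ p) ∧
    (∃ g ∈ Cfsg.M24, orderOf g = 2 ∧ (Finset.univ.filter fun p => g p = p) ∈ Cfsg.octads) ∧
    (∃ g ∈ Cfsg.M24, orderOf g = 2 ∧ ∀ p, g p ≠ p) ∧
    ∀ g ∈ Cfsg.M24, ∀ h ∈ Cfsg.M24, orderOf g = 2 → orderOf h = 2 →
      ((∀ p, g p ≠ p) ↔ (∀ p, h p ≠ p)) → ∃ k ∈ Cfsg.M24, k * g * k⁻¹ = h := by
  refine ⟨?_, ⟨r2A, r2A_mem, orderOf_r2A, Fix_r2A_mem⟩,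
    ⟨r2B, r2B_mem, orderOf_r2B, (Fix_eq_empty_iff _).mp Fix_r2B⟩, ?_⟩
  · intro g hg h2
    rcases invol_cases g hg h2 with ⟨k, hk, -, h, -⟩ | ⟨k, hk, -, h⟩
    · exact Or.inl h
    · exact Or.inr ((Fix_eq_empty_iff _).mp h)
  · intro g hg h hh h2 h2' hiff
    rcases invol_cases g hg h2 with ⟨k, hk, e, -, hc⟩ | ⟨k, hk, e, hf⟩
    · rcases invol_cases h hh h2' with ⟨k', hk', e', -, -⟩ | ⟨k', hk', e', hf'⟩
      · exact conj_of_conj g h _ k k' hk hk' e e'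
      · exfalso
        have := (Fix_eq_empty_iff _).mpr (hiff.mpr ((Fix_eq_empty_iff _).mp hf'))
        rw [this] at hc
        simp at hc
    · rcases invol_cases h hh h2' with ⟨k', hk', e', -, hc'⟩ | ⟨k', hk', e', hf'⟩
      · exfalso
        have := (Fix_eq_empty_iff _).mpr (hiff.mp ((Fix_eq_empty_iff _).mp hf))
        rw [this] at hc'
        simp at hc'
      · exact conj_of_conj g h _ k k' hk hk' e e'

end Cfsg.Agent.Lib.Helper9.M24H6
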