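import Cfsg.Agent.Lib.Helper9.M24H5

set_option autoImplicit false

namespace Cfsg.Agent.Lib.Helper9.M24H7

open Cfsg Finset Cfsg.Agent.Lib.Helper9.GolayQR1 Cfsg.Agent.Lib.Helper9.GolayQR5
  Cfsg.Agent.Lib.Helper9.M24T1 Cfsg.Agent.Lib.Helper9.M24U1 Cfsg.Agent.Lib.Helper9.M24H1
  Cfsg.Agent.Lib.Helper9.M24H2 Cfsg.Agent.Lib.Helper9.M24H3 Cfsg.Agent.Lib.Helper9.M24H4
  Cfsg.Agent.Lib.Helper9.M24H5
open scoped Pointwise

/-- a subgroup of prime order is generated by an element of that order -/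
theorem exists_gen {G : Type*} [Group G] (p : ℕ) (hp : p.Prime) (X : Subgroup G)
    (h : Nat.card X = p) : ∃ x : G, orderOf x = p ∧ X = Subgroup.zpowers x := by
  have hfin : Finite X := Nat.finite_of_card_ne_zero (by rw [h]; exact hp.ne_zero)
  rcases X.bot_or_exists_ne_one with hb | ⟨x, hx, hx1⟩
  · rw [hb, Subgroup.card_bot] at h
    exact absurd h hp.one_lt.ne
  · have hle : Subgroup.zpowers x ≤ X := (Subgroup.zpowers_le).mpr hx
    have hdvd := Subgroup.card_dvd_of_le hle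
    rw [Nat.card_zpowers, h] at hdvd
    have ho : orderOf x = p := by
      rcases (Nat.dvd_prime hp).mp hdvd with h1 | h1
      · exact absurd (orderOf_eq_one_iff.mp h1) hx1
      · exact h1
    refine ⟨x, ho, (Subgroup.eq_of_le_of_card_ge hle ?_).symm⟩
    rw [Nat.card_zpowers, ho, h]

/-- the points fixed by a cyclic subgroup -/
theorem fixed_zpowers (x : ↥M24) :
    {p : GolayPt | ∀ y ∈ Subgroup.zpowers x, ((y : ↥M24) : Equiv.Perm GolayPt) p = p}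
      = ↑(Fix (x : Equiv.Perm GolayPt)) := by
  ext p
  rw [Set.mem_ofPred_eq, Finset.mem_coe, mem_Fix]
  constructor
  · intro h
    exact h x (Subgroup.mem_zpowers x)
  · intro h y hy
    obtain ⟨n, rfl⟩ := Subgroup.mem_zpowers_iff.mp hy
    have : ((x ^ n : ↥M24) : Equiv.Perm GolayPt) = (x : Equiv.Perm GolayPt) ^ n := by
      simp
    rw [this]
    exact Equiv.Perm.zpow_apply_eq_self_of_apply_eq_self h n

theorem ncard_fixed_zpowers (x : ↥M24) :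
    {p : GolayPt | ∀ y ∈ Subgroup.zpowers x, ((y : ↥M24) : Equiv.Perm GolayPt) p = p}.ncard
      = (Fix (x : Equiv.Perm GolayPt)).card := by
  rw [fixed_zpowers, Set.ncard_coe_finset]

theorem orderOf_coe (x : ↥M24) : orderOf (x : Equiv.Perm GolayPt) = orderOf x :=
  Subgroup.orderOf_coe x

theorem conj_zpowers (k x : ↥M24) :
    MulAut.conj k • Subgroup.zpowers x = Subgroup.zpowers (k * x * k⁻¹) := by
  rw [Subgroup.pointwise_smul_def]
  exact MonoidHom.map_zpowers (MulAut.conj k).toMonoidHom x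

theorem three_subgroups :
    (∀ X : Subgroup ↥Cfsg.M24, Nat.card X = 3 →
      {p : Cfsg.GolayPt | ∀ x ∈ X, ((x : ↥Cfsg.M24) : Equiv.Perm Cfsg.GolayPt) p = p}.ncard = 6 ∨
      {p : Cfsg.GolayPt | ∀ x ∈ X, ((x : ↥Cfsg.M24) : Equiv.Perm Cfsg.GolayPt) p = p}.ncard = 0) ∧
    (∃ X : Subgroup ↥Cfsg.M24, Nat.card X = 3 ∧
      {p : Cfsg.GolayPt | ∀ x ∈ X, ((x : ↥Cfsg.M24) : Equiv.Perm Cfsg.GolayPt) p = p}.ncard = 6) ∧
    (∃ X : Subgroup ↥Cfsg.M24, Nat.card X = 3 ∧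
      {p : Cfsg.GolayPt | ∀ x ∈ X, ((x : ↥Cfsg.M24) : Equiv.Perm Cfsg.GolayPt) p = p}.ncard = 0) ∧
    ∀ X Y : Subgroup ↥Cfsg.M24, Nat.card X = 3 → Nat.card Y = 3 →
      {p : Cfsg.GolayPt | ∀ x ∈ X, ((x : ↥Cfsg.M24) : Equiv.Perm Cfsg.GolayPt) p = p}.ncard =
      {p : Cfsg.GolayPt | ∀ x ∈ Y, ((x : ↥Cfsg.M24) : Equiv.Perm Cfsg.GolayPt) p = p}.ncard →
      ∃ k : ↥Cfsg.M24, MulAut.conj k • X = Y := by
  have key : ∀ x : ↥M24, orderOf x = 3 →
      (∃ k : ↥M24, k * x * k⁻¹ = ⟨r3A, r3A_mem⟩ ∧ (Fix (x : Equiv.Perm GolayPt)).card = 6) ∨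
      (∃ k : ↥M24, k * x * k⁻¹ = ⟨r3B, r3B_mem⟩ ∧ (Fix (x : Equiv.Perm GolayPt)).card = 0) := by
    intro x hx
    rcases three_cases x.1 x.2 (by rw [orderOf_coe, hx]) with ⟨k, hk, e, hc⟩ | ⟨k, hk, e, hf⟩
    · exact Or.inl ⟨⟨k, hk⟩, Subtype.ext e, hc⟩
    · exact Or.inr ⟨⟨k, hk⟩, Subtype.ext e, by rw [hf]; rfl⟩
  refine ⟨?_, ?_, ?_, ?_⟩
  · intro X hX
    obtain ⟨x, hx, rfl⟩ := exists_gen 3 Nat.prime_three X hX
    rw [ncard_fixed_zpowers]
    rcases key x hx with ⟨-, -, h⟩ | ⟨-, -, h⟩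
    · exact Or.inl h
    · exact Or.inr h
  · refine ⟨Subgroup.zpowers ⟨r3A, r3A_mem⟩, ?_, ?_⟩
    · rw [Nat.card_zpowers, ← orderOf_coe]
      exact orderOf_r3A
    · rw [ncard_fixed_zpowers]
      exact card_Fix_r3A
  · refine ⟨Subgroup.zpowers ⟨r3B, r3B_mem⟩, ?_, ?_⟩
    · rw [Nat.card_zpowers, ← orderOf_coe]
      exact orderOf_r3B
    · rw [ncard_fixed_zpowers]
      change (Fix r3B).card = 0
      rw [Fix_r3B]
      rfl
  · intro X Y hX hY hXY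
    obtain ⟨x, hx, rfl⟩ := exists_gen 3 Nat.prime_three X hX
    obtain ⟨y, hy, rfl⟩ := exists_gen 3 Nat.prime_three Y hY
    rw [ncard_fixed_zpowers, ncard_fixed_zpowers] at hXY
    have fin : ∀ (k k' r : ↥M24), k * x * k⁻¹ = r → k' * y * k'⁻¹ = r →
        ∃ c : ↥M24, MulAut.conj c • Subgroup.zpowers x = Subgroup.zpowers y := by
      intro k k' r e e'
      refine ⟨k'⁻¹ * k, ?_⟩
      rw [conj_zpowers]
      congr 1
      have : k'⁻¹ * k * x * (k'⁻¹ * k)⁻¹ = k'⁻¹ * (k * x * k⁻¹) * k' := by group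
      rw [this, e, ← e']
      group
    rcases key x hx with ⟨k, e, hc⟩ | ⟨k, e, hc⟩
    · rcases key y hy with ⟨k', e', hc'⟩ | ⟨k', e', hc'⟩
      · exact fin k k' _ e e'
      · omega
    · rcases key y hy with ⟨k', e', hc'⟩ | ⟨k', e', hc'⟩
      · omega
      · exact fin k k' _ e e'

end Cfsg.Agent.Lib.Helper9.M24H7
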