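import Cfsg.Agent.Lib.Helper9.M24T8
import Cfsg.Agent.Lib.Helper9.Chain2

set_option autoImplicit false

namespace Cfsg.Agent.Lib.Helper9.M24T9

open Cfsg Finset Cfsg.Agent.Lib.Helper9.Golay1 Cfsg.Agent.Lib.Helper9.GolayQR1
  Cfsg.Agent.Lib.Helper9.GolayQR3 Cfsg.Agent.Lib.Helper9.GolayQR5 Cfsg.Agent.Lib.Helper9.GolayQR6
  Cfsg.Agent.Lib.Helper9.GolayQR7
  Cfsg.Agent.Lib.Helper9.M24T1 Cfsg.Agent.Lib.Helper9.M24T2 Cfsg.Agent.Lib.Helper9.M24T3
  Cfsg.Agent.Lib.Helper9.M24T4 Cfsg.Agent.Lib.Helper9.M24T5 Cfsg.Agent.Lib.Helper9.M24T6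
  Cfsg.Agent.Lib.Helper9.M24T7 Cfsg.Agent.Lib.Helper9.M24T8 Cfsg.Agent.Lib.Helper9.Chain1
  Cfsg.Agent.Lib.Helper9.Chain2
open scoped Pointwise

/-- powers of the element of order three fixing six base points -/
def zpw (k : Fin 3) : Equiv.Perm GolayPt :=
  match k with
  | 0 => 1
  | 1 => G60
  | 2 => G60 * G60

theorem G60_fix : G60 ∈ fixL M24 [none, some 0, some 1, some 2, some 3, some 4] :=
  ⟨C_le G60_mem, by decide +kernel⟩

theorem zpw_mem (k : Fin 3) : zpw k ∈ fixL M24 [none, some 0, some 1, some 2, some 3, some 4] := by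
  fin_cases k
  · exact Subgroup.one_mem _
  · exact G60_fix
  · exact Subgroup.mul_mem _ G60_fix G60_fix

theorem notMem_L8_of_bit : ∀ p : GolayPt, oMask.testBit (idx p) = false → p ∉ L8 := by
  decide +kernel

theorem zpw_cover : ∀ p : GolayPt,
    (oMask.testBit (idx p) = true ∧ p ∉ [none, some 0, some 1, some 2, some 3]) →
    ∃ k, zpw k (some 5) = p := by decide +kernel

theorem fix5_of_L8 (g : Equiv.Perm GolayPt) (hg : g ∈ fixL M24 L8) :
    g ∈ fixL M24 [none, some 0, some 1, some 2, some 3] :=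
  ⟨hg.1, fun b hb => hg.2 b (by
    have : ∀ q : GolayPt, q ∈ [none, some 0, some 1, some 2, some 3] → q ∈ L8 := by decide
    exact this b hb)⟩

/-- the 48 elements fixing the first five base points -/
theorem fix5_eq (g : Equiv.Perm GolayPt)
    (hg : g ∈ fixL M24 [none, some 0, some 1, some 2, some 3]) :
    ∃ a1 a2 a3 a4 k, g = eprod a1 a2 a3 a4 * zpw k := by
  have h4 : g (some 4) ∉ L8 := notMem_L8_of_bit _ (up6 g hg)
  obtain ⟨a1, a2, a3, a4, ha⟩ := eprod_cover _ h4
  have hu := fix5_of_L8 _ (eprod_mem a1 a2 a3 a4)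
  have h1 : (eprod a1 a2 a3 a4)⁻¹ * g ∈
      fixL M24 ([none, some 0, some 1, some 2, some 3] ++ [some 4]) := by
    rw [fixL_snoc]
    exact sift_step _ _ _ _ hg hu ha
  obtain ⟨k, hk⟩ := zpw_cover _ (up7 _ h1)
  have h2 : (zpw k)⁻¹ * ((eprod a1 a2 a3 a4)⁻¹ * g) ∈
      fixL M24 ([none, some 0, some 1, some 2, some 3, some 4] ++ [some 5]) := by
    rw [fixL_snoc]
    exact sift_step _ _ _ _ h1 (zpw_mem k) hk
  have h3 := fix7_eq_one _ h2
  refine ⟨a1, a2, a3, a4, k, ?_⟩
  have h4 : (eprod a1 a2 a3 a4)⁻¹ * g = zpw k := (inv_mul_eq_one.mp h3).symm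
  rw [← h4, mul_inv_cancel_left]

/-- the mask of the standard dodecad -/
def dMask : ℕ := 14944447

/-- the standard dodecad -/
def D12 : Finset GolayPt := supp (dec dMask)

theorem D12_mem : D12 ∈ dodecads := by
  refine ⟨⟨dec dMask, dec_mem_of_reprod dMask (by decide +kernel), (supp_eq_support₂ _).symm⟩, ?_⟩
  change (supp (dec dMask)).card = 12
  rw [← wt_eq, wt_dec]
  decide +kernel

theorem mem_D12 (p : GolayPt) : p ∈ D12 ↔ dMask.testBit (idx p) = true := mem_supp_dec dMask p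

theorem stab_check : ∀ (a1 a2 a3 a4 : Bool) (k : Fin 3),
    (∀ p : GolayPt, dMask.testBit (idx ((eprod a1 a2 a3 a4 * zpw k) p)) = dMask.testBit (idx p)) →
    ∀ p : GolayPt, (eprod a1 a2 a3 a4 * zpw k) p = p := by decide +kernel

theorem maskInv_of_smul (g : Equiv.Perm GolayPt) (m : ℕ) (h : g • supp (dec m) = supp (dec m)) :
    MaskInv g m := by
  intro p
  rw [Bool.eq_iff_iff, ← mem_supp_dec, ← mem_supp_dec]
  conv_lhs => rw [← h]
  exact Finset.smul_mem_smul_finset_iff g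

/-- only the identity fixes the five base points and stabilizes the standard dodecad -/
theorem stab_D12_trivial (g : Equiv.Perm GolayPt)
    (hg : g ∈ fixL M24 [none, some 0, some 1, some 2, some 3]) (hd : g • D12 = D12) : g = 1 := by
  obtain ⟨a1, a2, a3, a4, k, rfl⟩ := fix5_eq g hg
  have := maskInv_of_smul _ dMask hd
  apply Equiv.ext
  exact stab_check a1 a2 a3 a4 k this

/-- the setwise stabilizer of a set of points in `M24`, as a group of permutations -/
def stabF (d : Finset GolayPt) : Subgroup (Equiv.Perm GolayPt) :=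
  M24 ⊓ MulAction.stabilizer (Equiv.Perm GolayPt) d

theorem mem_stabF (d : Finset GolayPt) (g : Equiv.Perm GolayPt) :
    g ∈ stabF d ↔ g ∈ M24 ∧ g • d = d := by
  unfold stabF
  rw [Subgroup.mem_inf]
  exact and_congr_right fun _ => MulAction.mem_stabilizer_iff

/-- the five base points as an embedding -/
def b5 : Fin 5 ↪ GolayPt :=
  ⟨fun i => bpt i.val, by decide⟩

theorem b5_mem : ∀ i, b5 i ∈ D12 := by
  intro i
  rw [mem_D12]
  revert i
  decide +kernel

theorem stabF_D12_trivial (g : Equiv.Perm GolayPt) (hg : g ∈ stabF D12)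
    (hfix : ∀ i, g (b5 i) = b5 i) : g = 1 := by
  rw [mem_stabF] at hg
  apply stab_D12_trivial g ⟨hg.1, ?_⟩ hg.2
  intro b hb
  have : ∀ q : GolayPt, q ∈ [none, some 0, some 1, some 2, some 3] → ∃ i, b5 i = q := by decide
  obtain ⟨i, rfl⟩ := this b hb
  exact hfix i

theorem card_D12 : D12.card = 12 := D12_mem.2

theorem card_stabF_le : Nat.card (stabF D12) ≤ 95040 := by
  have := (sharp_bound (stabF D12) D12 5 b5 b5_mem (fun g hg => ((mem_stabF _ _).mp hg).2)
    stabF_D12_trivial).1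
  rw [card_D12] at this
  exact this

/-- `M24` maps dodecads to dodecads -/
theorem smul_dodecad_mem (g : Equiv.Perm GolayPt) (hg : g ∈ M24) (d : Finset GolayPt)
    (hd : d ∈ dodecads) : g • d ∈ dodecads := by
  have hg' : g • supports (golayCode : Set (GolayPt → ZMod 2))
      = supports (golayCode : Set (GolayPt → ZMod 2)) := MulAction.mem_stabilizer_iff.mp hg
  refine ⟨?_, ?_⟩
  · rw [← hg']
    exact ⟨d, hd.1, rfl⟩
  · rw [Finset.card_smul_finset]
    exact hd.2

end Cfsg.Agent.Lib.Helper9.M24T9
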