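import Cfsg.Agent.Lib.Helper9.M24U4

set_option autoImplicit false

namespace Cfsg.Agent.Lib.Helper9.M24U5

open Cfsg Finset Cfsg.Agent.Lib.Helper9.GolayQR1 Cfsg.Agent.Lib.Helper9.M24U1
  Cfsg.Agent.Lib.Helper9.M24U2 Cfsg.Agent.Lib.Helper9.M24U4

theorem codeOf_shift :
    (List.range 4096).all (fun k => decide (codeOf k >>> 12 = k)) = true := by
  decide +kernel

theorem codeList_shift : codeList.map (fun m => m >>> 12) = List.range 4096 := by
  unfold codeList
  rw [List.map_map]
  conv_rhs => rw [← List.map_id (List.range 4096)]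
  apply List.map_congr_left
  intro k hk
  exact of_decide_eq_true (List.all_eq_true.mp codeOf_shift k hk)

theorem codeList_nodup : codeList.Nodup := by
  apply List.Nodup.of_map (fun m => m >>> 12)
  rw [codeList_shift]
  exact List.nodup_range

theorem octadLit_nodup : octadLit.Nodup := by
  rw [← octadList_eq]
  exact codeList_nodup.filter _

theorem dodecadLit_nodup : dodecadLit.Nodup := by
  rw [← dodecadList_eq]
  exact codeList_nodup.filter _

/-- counting a class of coded sets by filtering a list of masks -/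
theorem ncard_class (lit : List ℕ) (hnd : lit.Nodup) (hlt : ∀ m ∈ lit, m < 2 ^ 24)
    (S : Set (Finset GolayPt)) (hS : ∀ o, o ∈ S ↔ ∃ m ∈ lit, o = M m)
    (P : Finset GolayPt → Prop) (Q : ℕ → Bool) (hPQ : ∀ m ∈ lit, P (M m) ↔ Q m = true) :
    {o | o ∈ S ∧ P o}.ncard = (lit.filter Q).length := by
  have hset : {o | o ∈ S ∧ P o} = ((lit.filter Q).toFinset.image M : Finset (Finset GolayPt)) := by
    ext o
    rw [Set.mem_ofPred_eq, hS, mem_coe, mem_image]
    constructor
    · rintro ⟨⟨m, hm, rfl⟩, hP⟩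
      refine ⟨m, ?_, rfl⟩
      rw [List.mem_toFinset, List.mem_filter]
      exact ⟨hm, (hPQ m hm).mp hP⟩
    · rintro ⟨m, hm, rfl⟩
      rw [List.mem_toFinset, List.mem_filter] at hm
      exact ⟨⟨m, hm.1, rfl⟩, (hPQ m hm.1).mpr hm.2⟩
  rw [hset, Set.ncard_coe_finset, card_image_of_injOn, List.toFinset_card_of_nodup (hnd.filter _)]
  intro m hm m' hm' h
  rw [mem_coe, List.mem_toFinset, List.mem_filter] at hm hm'
  exact M_inj m m' (hlt m hm.1) (hlt m' hm'.1) h

end Cfsg.Agent.Lib.Helper9.M24U5
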