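import Cfsg.Agent.Lib.Helper9.M24H5
import Cfsg.Agent.Lib.Helper9.M24T9
import Cfsg.Agent.Lib.Helper9.M24U5

set_option autoImplicit false

namespace Cfsg.Agent.Lib.Helper9.M24H8

open Cfsg Finset Cfsg.Agent.Lib.Helper9.GolayQR1 Cfsg.Agent.Lib.Helper9.GolaySextet1
  Cfsg.Agent.Lib.Helper9.M24T1 Cfsg.Agent.Lib.Helper9.M24T9
  Cfsg.Agent.Lib.Helper9.M24U1 Cfsg.Agent.Lib.Helper9.M24U2 Cfsg.Agent.Lib.Helper9.M24U4
  Cfsg.Agent.Lib.Helper9.M24U5
  Cfsg.Agent.Lib.Helper9.M24S1 Cfsg.Agent.Lib.Helper9.M24S2 Cfsg.Agent.Lib.Helper9.M24S3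
  Cfsg.Agent.Lib.Helper9.M24F1 Cfsg.Agent.Lib.Helper9.M24F2 Cfsg.Agent.Lib.Helper9.M24F3
  Cfsg.Agent.Lib.Helper9.M24F4 Cfsg.Agent.Lib.Helper9.M24F6 Cfsg.Agent.Lib.Helper9.M24F7
open scoped Pointwise

/-- the number of fixed objects is a class function -/
theorem fixed_ncard_conj {α : Type*} [MulAction (Equiv.Perm GolayPt) α] (U : Set α)
    (hU : ∀ k ∈ M24, ∀ y ∈ U, k • y ∈ U) (g k : Equiv.Perm GolayPt) (hk : k ∈ M24) :
    {y | y ∈ U ∧ g • y = y}.ncard = {y | y ∈ U ∧ (k * g * k⁻¹) • y = y}.ncard := by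
  have : {y | y ∈ U ∧ (k * g * k⁻¹) • y = y} = (fun y => k • y) '' {y | y ∈ U ∧ g • y = y} := by
    ext z
    constructor
    · rintro ⟨hz, hfz⟩
      refine ⟨k⁻¹ • z, ⟨hU _ (M24.inv_mem hk) z hz, ?_⟩, smul_inv_smul k z⟩
      rw [mul_smul, mul_smul] at hfz
      have := congrArg (fun w => k⁻¹ • w) hfz
      simpa using this
    · rintro ⟨y, ⟨hy, hfy⟩, rfl⟩
      refine ⟨hU k hk y hy, ?_⟩
      change (k * g * k⁻¹) • k • y = k • y
      rw [mul_smul, mul_smul, inv_smul_smul, hfy]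
  rw [this, Set.ncard_image_of_injective _ (MulAction.injective k)]

/-- counting the fixed objects with a table of images -/
theorem fixed_count {α : Type*} [MulAction (Equiv.Perm GolayPt) α] (U : Set α) (X : ℕ → α)
    (V : ℕ → Prop) (n : ℕ) (code : ℕ → ℕ) (hV : ∀ r < n, V (code r))
    (hUiff : ∀ y, y ∈ U ↔ ∃ r < n, y = X (code r))
    (hinj : ∀ r < n, ∀ r' < n, X (code r) = X (code r') → r = r')
    (g : Equiv.Perm GolayPt) (act : ℕ → ℕ) (hact : ∀ c, V c → V (act c) ∧ g • X c = X (act c))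
    (eqv : ℕ → ℕ → Bool) (heqv : ∀ c c', V c → V c' → eqv c c' = true → X c = X c')
    (IMG : ℕ)
    (hchk : allB n (fun r => Nat.ble (Nat.succ (lane 12 4095 IMG r)) n &&
      eqv (act (code r)) (code (lane 12 4095 IMG r))) = true) :
    {y | y ∈ U ∧ g • y = y}.ncard = countB n (fun r => Nat.beq (lane 12 4095 IMG r) r) := by
  classical
  have himg : ∀ r < n, lane 12 4095 IMG r < n ∧ g • X (code r) = X (code (lane 12 4095 IMG r)) := by
    intro r hr
    have h := (allB_iff _ _).mp hchk r hr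
    rw [Bool.and_eq_true, ble_succ_iff] at h
    refine ⟨h.1, ?_⟩
    obtain ⟨h1, h2⟩ := hact (code r) (hV r hr)
    rw [h2]
    exact heqv _ _ h1 (hV _ h.1) h.2
  have hset : {y | y ∈ U ∧ g • y = y} =
      ↑(((Finset.range n).filter fun r => Nat.beq (lane 12 4095 IMG r) r = true).image
        fun r => X (code r)) := by
    ext y
    rw [Finset.mem_coe, Finset.mem_image]
    constructor
    · rintro ⟨hy, hgy⟩
      obtain ⟨r, hr, rfl⟩ := (hUiff y).mp hy
      refine ⟨r, ?_, rfl⟩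
      rw [Finset.mem_filter, Finset.mem_range, beq_iff]
      refine ⟨hr, ?_⟩
      obtain ⟨h1, h2⟩ := himg r hr
      rw [h2] at hgy
      exact hinj _ h1 _ hr hgy
    · rintro ⟨r, hr, rfl⟩
      rw [Finset.mem_filter, Finset.mem_range, beq_iff] at hr
      refine ⟨(hUiff _).mpr ⟨r, hr.1, rfl⟩, ?_⟩
      rw [(himg r hr.1).2, hr.2]
  rw [hset, Set.ncard_coe_finset, Finset.card_image_of_injOn, countB_eq]
  intro r hr r' hr' h
  rw [Finset.mem_coe, Finset.mem_filter, Finset.mem_range] at hr hr'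
  exact hinj r hr.1 r' hr'.1 h

/-- fixed octads -/
theorem fixed_octads (g : Equiv.Perm GolayPt) (hg : g ∈ M24) (P : ℕ)
    (hP : ∀ m, g • M m = M (pmG P m)) (IMG : ℕ)
    (hchk : allB 759 (fun r => Nat.ble (Nat.succ (lane 12 4095 IMG r)) 759 &&
      Nat.beq (pmG P (litO r)) (litO (lane 12 4095 IMG r))) = true) :
    {o : Finset GolayPt | o ∈ octads ∧ g • o = o}.ncard =
      countB 759 (fun r => Nat.beq (lane 12 4095 IMG r) r) :=
  fixed_count octads M VO 759 litO litO_VO mem_octads_iff'' litO_inj g (pmG P)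
    (fun c hc => act_M g hg P hP c hc) Nat.beq
    (fun c c' _ _ h => by rw [(beq_iff c c').mp h]) IMG hchk

/-- fixed sextets -/
theorem fixed_sextets (g : Equiv.Perm GolayPt) (hg : g ∈ M24) (P : ℕ)
    (hP : ∀ m, g • M m = M (pmG P m)) (IMG : ℕ)
    (hchk : allB 1771 (fun r => Nat.ble (Nat.succ (lane 12 4095 IMG r)) 1771 &&
      sameSx (pmG P (litS r)) (litS (lane 12 4095 IMG r))) = true) :
    {S : Finset (Finset GolayPt) | S ∈ sextets ∧ g • S = S}.ncard =
      countB 1771 (fun r => Nat.beq (lane 12 4095 IMG r) r) :=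
  fixed_count sextets Sx VT4 1771 litS litS_VT4 mem_sextets_iff' litS_inj g (pmG P)
    (fun c hc => act_Sx g hg P hP c hc) sameSx sameSx_sound IMG hchk

/-- fixed trios -/
theorem fixed_trios (g : Equiv.Perm GolayPt) (hg : g ∈ M24) (P : ℕ)
    (hP : ∀ m, g • M m = M (pmG P m)) (IMG : ℕ)
    (hchk : allB 3795 (fun r => Nat.ble (Nat.succ (lane 12 4095 IMG r)) 3795 &&
      sameTr (actT P (litT r)) (litT (lane 12 4095 IMG r))) = true) :
    {T : Finset (Finset GolayPt) | T ∈ trios ∧ g • T = T}.ncard =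
      countB 3795 (fun r => Nat.beq (lane 12 4095 IMG r) r) :=
  fixed_count trios Tr VTr 3795 litT litT_VTr mem_trios_iff litT_inj g (actT P)
    (fun c hc => act_Tr g hg P hP c hc) sameTr sameTr_sound IMG hchk

/-- fixed dodecads -/
theorem fixed_dodecads (g : Equiv.Perm GolayPt) (P : ℕ)
    (hP : ∀ m, g • M m = M (pmG P m)) :
    {d : Finset GolayPt | d ∈ dodecads ∧ g • d = d}.ncard =
      (dodecadLit.filter fun m => Nat.beq (pmG P m) m).length := by
  apply ncard_class dodecadLit dodecadLit_nodup dodecadLit_lt dodecads mem_dodecads_iff'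
  intro m hm
  rw [hP, beq_iff]
  constructor
  · intro h
    exact M_inj _ _ (pmG_lt P m) (dodecadLit_lt m hm) h
  · intro h
    rw [h]

theorem octads_inv : ∀ k ∈ M24, ∀ y ∈ octads, k • y ∈ octads := fun k hk y hy =>
  smul_octad_mem k hk y hy

theorem sextets_inv : ∀ k ∈ M24, ∀ y ∈ sextets, k • y ∈ sextets := fun k hk y hy =>
  smul_sextet_mem k hk y hy

theorem trios_inv : ∀ k ∈ M24, ∀ y ∈ trios, k • y ∈ trios := fun k hk y hy =>
  smul_trio_mem k hk y hy

theorem dodecads_inv : ∀ k ∈ M24, ∀ y ∈ dodecads, k • y ∈ dodecads := fun k hk y hy =>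
  smul_dodecad_mem k hk y hy

end Cfsg.Agent.Lib.Helper9.M24H8
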