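import Cfsg.Agent.Lib.Helper9.M24H11

set_option autoImplicit false

namespace Cfsg.Agent.Lib.Helper9.M24J1

open Cfsg Finset Cfsg.Agent.Lib.Helper9.GolayQR1 Cfsg.Agent.Lib.Helper9.GolaySextet1
  Cfsg.Agent.Lib.Helper9.M24T1 Cfsg.Agent.Lib.Helper9.M24T3 Cfsg.Agent.Lib.Helper9.Chain1
  Cfsg.Agent.Lib.Helper9.M24U1 Cfsg.Agent.Lib.Helper9.M24U2 Cfsg.Agent.Lib.Helper9.M24U4
  Cfsg.Agent.Lib.Helper9.M24Z1
  Cfsg.Agent.Lib.Helper9.M24S1 Cfsg.Agent.Lib.Helper9.M24S2 Cfsg.Agent.Lib.Helper9.M24S3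
  Cfsg.Agent.Lib.Helper9.M24F1 Cfsg.Agent.Lib.Helper9.M24F2 Cfsg.Agent.Lib.Helper9.M24F3
  Cfsg.Agent.Lib.Helper9.M24F4
open scoped Pointwise

/-- the centralizer of `t` in `M24` as a permutation group -/
def Cent (t : Equiv.Perm GolayPt) : Subgroup (Equiv.Perm GolayPt) :=
  M24 ⊓ Subgroup.centralizer {t}

theorem mem_Cent (t c : Equiv.Perm GolayPt) : c ∈ Cent t ↔ c ∈ M24 ∧ c * t = t * c := by
  unfold Cent
  rw [Subgroup.mem_inf, Subgroup.mem_centralizer_iff]
  constructor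
  · rintro ⟨h1, h2⟩
    exact ⟨h1, (h2 t rfl).symm⟩
  · rintro ⟨h1, h2⟩
    refine ⟨h1, fun h hh => ?_⟩
    rw [Set.mem_singleton_iff] at hh
    rw [hh]
    exact h2.symm

/-- all the members of a family are invariant -/
def Phi (t : Equiv.Perm GolayPt) (S : Finset (Finset GolayPt)) : Prop := ∀ T ∈ S, t • T = T

theorem phi_smul (t c : Equiv.Perm GolayPt) (hc : c * t = t * c) (S : Finset (Finset GolayPt))
    (h : Phi t S) : Phi t (c • S) := by
  intro T' hT'
  obtain ⟨T, hT, rfl⟩ := Finset.mem_smul_finset.mp hT'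
  change t • c • T = c • T
  rw [← mul_smul, ← hc, mul_smul, h T hT]

theorem mem_Sx_of_sameSx (a b : ℕ) (ha : VT4 a) (h : sameSx a b = true) : M b ∈ Sx a := by
  have hcard : (M a).card = 4 := by rw [card_M, ha.1]
  unfold sameSx at h
  rw [Bool.or_eq_true, Bool.and_eq_true, beq_iff, beq_iff] at h
  rcases h with rfl | ⟨h0, hoct⟩
  · exact (sextetOf_struct (M a) hcard).1
  · change a &&& b = 0 at h0
    have ho := isOctF_sound _ hoct
    change M (a ||| b) ∈ octads at ho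
    have hsub : M a ⊆ M (a ||| b) := by rw [M_or]; exact subset_union_left
    have hdisj : Disjoint (M a) (M b) := (M_disjoint_iff a b ha.2).mpr h0
    have hb' : M (a ||| b) \ M a = M b := by
      rw [M_or, union_sdiff_left]
      exact sdiff_eq_self_of_disjoint hdisj.symm
    have := sdiff_mem_sextetOf (M a) hcard _ ho hsub
    rw [hb'] at this
    exact this

/-- one level of a stabilizer chain -/
theorem level_cardH (H : Subgroup (Equiv.Perm GolayPt)) (l : List GolayPt) (b : GolayPt)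
    (δ : GolayPt → Prop) [DecidablePred δ]
    (hup : ∀ g ∈ fixL H l, δ (g b)) (hlow : ∀ p, δ p → ∃ u ∈ fixL H l, u b = p) :
    Nat.card (fixL H l) = (univ.filter δ).card * Nat.card (fixL H (l ++ [b])) := by
  rw [fixL_snoc]
  apply card_step
  · intro g hg
    rw [mem_filter]
    exact ⟨mem_univ _, hup g hg⟩
  · intro x hx
    rw [mem_filter] at hx
    exact hlow x hx.2

/-- the order of a subgroup whose elements are listed -/
theorem card_of_list {G : Type*} [Group G] (H : Subgroup G) (F : List G) (hnd : F.Nodup)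
    (h1 : ∀ f ∈ F, f ∈ H) (h2 : ∀ g ∈ H, g ∈ F) : Nat.card H = F.length := by
  classical
  have : (H : Set G) = ↑F.toFinset := by
    ext x
    rw [Finset.mem_coe, List.mem_toFinset]
    exact ⟨h2 x, h1 x⟩
  have e : Nat.card H = (H : Set G).ncard := (Nat.card_coe_set_eq (H : Set G))
  rw [e, this, Set.ncard_coe_finset, List.toFinset_card_of_nodup hnd]

/-- centralizers of conjugate elements have the same order -/
theorem cent_card_conj (t k : Equiv.Perm GolayPt) (hk : k ∈ M24) :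
    Nat.card {c : Equiv.Perm GolayPt // c ∈ M24 ∧ c * t = t * c} =
      Nat.card {c : Equiv.Perm GolayPt // c ∈ M24 ∧ c * (k * t * k⁻¹) = (k * t * k⁻¹) * c} := by
  apply Nat.card_congr
  refine
    { toFun := fun c => ⟨k * c.1 * k⁻¹, M24.mul_mem (M24.mul_mem hk c.2.1) (M24.inv_mem hk), ?_⟩
      invFun := fun c => ⟨k⁻¹ * c.1 * k, M24.mul_mem (M24.mul_mem (M24.inv_mem hk) c.2.1) hk, ?_⟩
      left_inv := fun c => Subtype.ext (by simp [mul_assoc])
      right_inv := fun c => Subtype.ext (by simp [mul_assoc]) }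
  · have e1 : k * c.1 * k⁻¹ * (k * t * k⁻¹) = k * (c.1 * t) * k⁻¹ := by group
    have e2 : k * t * k⁻¹ * (k * c.1 * k⁻¹) = k * (t * c.1) * k⁻¹ := by group
    rw [e1, e2, c.2.2]
  · have h := c.2.2
    have e1 : k⁻¹ * c.1 * k * t = k⁻¹ * (c.1 * (k * t * k⁻¹)) * k := by group
    have e2 : t * (k⁻¹ * c.1 * k) = k⁻¹ * ((k * t * k⁻¹) * c.1) * k := by group
    rw [e1, e2, h]

end Cfsg.Agent.Lib.Helper9.M24J1
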