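import Cfsg.Agent.Lib.Helper9.M24J2

set_option autoImplicit false

namespace Cfsg.Agent.Lib.Helper9.M24J3

open Cfsg Finset Cfsg.Agent.Lib.Helper9.GolayQR1
  Cfsg.Agent.Lib.Helper9.M24T1 Cfsg.Agent.Lib.Helper9.M24U1
  Cfsg.Agent.Lib.Helper9.M24S1
  Cfsg.Agent.Lib.Helper9.M24H3 Cfsg.Agent.Lib.Helper9.M24H5
  Cfsg.Agent.Lib.Helper9.M24J1 Cfsg.Agent.Lib.Helper9.M24J2
open scoped Pointwise

theorem cent_2B (t : Equiv.Perm Cfsg.GolayPt) (ht : t ∈ Cfsg.M24) (h₂ : orderOf t = 2)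
    (h₀ : ∀ p, t p ≠ p) :
    Nat.card {c : Equiv.Perm Cfsg.GolayPt // c ∈ Cfsg.M24 ∧ c * t = t * c} = 7680 ∧
    (∀ p q : Cfsg.GolayPt, ∃ c ∈ Cfsg.M24, c * t = t * c ∧ c p = q) ∧
    ∃ S ∈ Cfsg.sextets, t • S = S ∧ ∀ c ∈ Cfsg.M24, c * t = t * c → c • S = S := by
  rcases invol_cases t ht h₂ with ⟨k, hk, e, -, hc⟩ | ⟨k, hk, e, -⟩
  · exfalso
    rw [(Fix_eq_empty_iff t).mpr h₀] at hc
    simp at hc
  · have hki : k⁻¹ ∈ M24 := M24.inv_mem hk
    have et : t = k⁻¹ * r2B * k⁻¹⁻¹ := by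
      rw [← e]
      group
    -- transfer of commutation
    have hcomm : ∀ c : Equiv.Perm GolayPt, c * t = t * c → (k * c * k⁻¹) * r2B = r2B * (k * c * k⁻¹) := by
      intro c hc
      rw [← e]
      have e1 : k * c * k⁻¹ * (k * t * k⁻¹) = k * (c * t) * k⁻¹ := by group
      have e2 : k * t * k⁻¹ * (k * c * k⁻¹) = k * (t * c) * k⁻¹ := by group
      rw [e1, e2, hc]
    have hcomm' : ∀ c : Equiv.Perm GolayPt, c * r2B = r2B * c → (k⁻¹ * c * k) * t = t * (k⁻¹ * c * k) := by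
      intro c hc
      have et' : t = k⁻¹ * r2B * k := by rw [← e]; group
      rw [et']
      have e1 : k⁻¹ * c * k * (k⁻¹ * r2B * k) = k⁻¹ * (c * r2B) * k := by group
      have e2 : k⁻¹ * r2B * k * (k⁻¹ * c * k) = k⁻¹ * (r2B * c) * k := by group
      rw [e1, e2, hc]
    refine ⟨?_, ?_, ?_⟩
    · rw [et, ← cent_card_conj r2B k⁻¹ hki, ← card_cent_r2B]
      apply Nat.card_congr
      exact Equiv.subtypeEquivRight (fun c => (mem_Cent r2B c).symm)
    · intro p q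
      obtain ⟨c, hc, hcp⟩ := trans_cent_r2B (k p) (k q)
      rw [mem_Cent] at hc
      refine ⟨k⁻¹ * c * k, M24.mul_mem (M24.mul_mem hki hc.1) hk, hcomm' c hc.2, ?_⟩
      rw [Equiv.Perm.mul_apply, Equiv.Perm.mul_apply, hcp]
      exact k.symm_apply_apply q
    · refine ⟨k⁻¹ • S0, smul_sextet_mem _ hki _ S0_mem, ?_, ?_⟩
      · have : t • k⁻¹ • S0 = k⁻¹ • (k * t * k⁻¹) • S0 := by
          rw [← mul_smul, ← mul_smul]
          congr 1
          group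
        rw [this, e, r2B_fix_S0]
      · intro c hc hct
        have h1 := cent_fix_S0 (k * c * k⁻¹)
          ((mem_Cent _ _).mpr ⟨M24.mul_mem (M24.mul_mem hk hc) hki, hcomm c hct⟩)
        have : c • k⁻¹ • S0 = k⁻¹ • (k * c * k⁻¹) • S0 := by
          rw [← mul_smul, ← mul_smul]
          congr 1
          group
        rw [this, h1]

end Cfsg.Agent.Lib.Helper9.M24J3
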