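import Cfsg.Agent.Lib.Helper9.M24J1
import Mathlib.GroupTheory.Sylow

set_option autoImplicit false

namespace Cfsg.Agent.Lib.Helper9.M24K1

open scoped Pointwise

/-- subgroups of prime order `p` are conjugate when `p ^ 2` does not divide the group order -/
theorem sylow_conj {G : Type*} [Group G] [Finite G] (p : ℕ) [hp : Fact p.Prime]
    (S T : Subgroup G) (hS : Nat.card S = p) (hT : Nat.card T = p)
    (hp2 : ¬ p ^ 2 ∣ Nat.card G) : ∃ k : G, MulAut.conj k • S = T := by
  have hfac : (Nat.card G).factorization p = 1 := by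
    have h1 : p ^ 1 ∣ Nat.card G := by
      rw [pow_one, ← hS]
      exact Subgroup.card_subgroup_dvd_card S
    have hne : Nat.card G ≠ 0 := Nat.card_pos.ne'
    have h1' := (hp.out.pow_dvd_iff_le_factorization hne).mp h1
    have h2' : ¬ 2 ≤ (Nat.card G).factorization p := fun h =>
      hp2 ((hp.out.pow_dvd_iff_le_factorization hne).mpr h)
    omega
  have key : ∀ U : Subgroup G, Nat.card U = p → ∃ P : Sylow p G, (P : Subgroup G) = U := by
    intro U hU
    have hpg : IsPGroup p U := IsPGroup.of_card (n := 1) (by rw [hU, pow_one])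
    obtain ⟨P, hP⟩ := hpg.exists_le_sylow
    refine ⟨P, (Subgroup.eq_of_le_of_card_ge hP ?_).symm⟩
    rw [P.card_eq_multiplicity, hfac, pow_one, hU]
  obtain ⟨P, hP⟩ := key S hS
  obtain ⟨Q, hQ⟩ := key T hT
  obtain ⟨k, hk⟩ := MulAction.exists_smul_eq G P Q
  refine ⟨k, ?_⟩
  rw [← hP, ← hQ, ← hk]
  rfl

theorem mem_centralizer_zpowers {G : Type*} [Group G] (x g : G) :
    g ∈ Subgroup.centralizer (Subgroup.zpowers x : Set G) ↔ g * x = x * g := by
  rw [Subgroup.mem_centralizer_iff]
  constructor
  · intro h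
    exact (h x (Subgroup.mem_zpowers x)).symm
  · intro h y hy
    obtain ⟨n, rfl⟩ := Subgroup.mem_zpowers_iff.mp hy
    have hc : Commute x g := h.symm
    exact (hc.zpow_left n).eq

theorem mem_normalizer_zpowers {G : Type*} [Group G] [Finite G] (x g : G) :
    g ∈ Subgroup.normalizer (Subgroup.zpowers x : Set G) ↔
      g * x * g⁻¹ ∈ Subgroup.zpowers x := by
  constructor
  · intro h
    exact (Subgroup.mem_normalizer_iff.mp h x).mp (Subgroup.mem_zpowers x)
  · intro h
    rw [Subgroup.mem_normalizer_iff_map_conj_eq]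
    have e : (Subgroup.zpowers x).map (MulAut.conj g).toMonoidHom =
        Subgroup.zpowers (g * x * g⁻¹) := MonoidHom.map_zpowers _ x
    have hle : (Subgroup.zpowers x).map (MulAut.conj g).toMonoidHom ≤ Subgroup.zpowers x := by
      rw [e]
      exact Subgroup.zpowers_le.mpr h
    apply Subgroup.eq_of_le_of_card_ge hle
    rw [Subgroup.card_map_of_injective (MulAut.conj g).injective]

theorem map_equiv_centralizer_eq {G N : Type*} [Group G] [Group N] (H : Subgroup G)
    (f : G ≃* N) :
    (Subgroup.centralizer (H : Set G)).map f.toMonoidHom =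
      Subgroup.centralizer ((H.map f.toMonoidHom : Subgroup N) : Set N) := by
  ext y
  rw [Subgroup.mem_map, Subgroup.mem_centralizer_iff]
  constructor
  · rintro ⟨c, hc, rfl⟩ h hh
    obtain ⟨h', hh', rfl⟩ := Subgroup.mem_map.mp hh
    rw [Subgroup.mem_centralizer_iff] at hc
    change f h' * f c = f c * f h'
    rw [← map_mul, ← map_mul, hc h' hh']
  · intro h
    refine ⟨f.symm y, ?_, f.apply_symm_apply y⟩
    rw [Subgroup.mem_centralizer_iff]
    intro h' hh'
    apply f.injective
    rw [map_mul, map_mul, f.apply_symm_apply]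
    exact h (f h') (Subgroup.mem_map.mpr ⟨h', hh', rfl⟩)

theorem conj_apply_pow {α : Type*} (n s : Equiv.Perm α) (p : α) (i : ℕ) :
    n ((s ^ i) p) = ((n * s * n⁻¹) ^ i) (n p) := by
  rw [conj_pow, Equiv.Perm.mul_apply, Equiv.Perm.mul_apply]
  congr 2
  exact (n.symm_apply_apply p).symm

theorem map_orbit_list {α : Type*} (n s y : Equiv.Perm α) (p : α) (h0 : n p = p)
    (h : n * s * n⁻¹ = y) (k : ℕ) :
    ((List.range k).map (fun i => (s ^ i) p)).map n = (List.range k).map (fun i => (y ^ i) p) := by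
  rw [List.map_map]
  apply List.map_congr_left
  intro i _
  change n ((s ^ i) p) = (y ^ i) p
  rw [conj_apply_pow, h, h0]

theorem comm_pow_apply {α : Type*} (g s : Equiv.Perm α) (h : g * s = s * g) (p : α) (i : ℕ) :
    g ((s ^ i) p) = (s ^ i) (g p) := by
  have hc : Commute g s := h
  have := (hc.pow_right i).eq
  rw [← Equiv.Perm.mul_apply, this, Equiv.Perm.mul_apply]

theorem zpowers_fix {α β : Type*} [Group α] [MulAction α β] (s y : α) (T : β)
    (hy : y ∈ Subgroup.zpowers s) (h : s • T = T) : y • T = T := by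
  have : Subgroup.zpowers s ≤ MulAction.stabilizer α T :=
    Subgroup.zpowers_le.mpr (MulAction.mem_stabilizer_iff.mpr h)
  exact MulAction.mem_stabilizer_iff.mp (this hy)

end Cfsg.Agent.Lib.Helper9.M24K1
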