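import Cfsg.Agent.Lib.Helper9.M24W2
import Cfsg.Agent.Lib.Helper9.GolayM24c

set_option autoImplicit false

namespace Cfsg.Agent.Lib.Helper9.M24N1

open Cfsg Finset Cfsg.Agent.Lib.Helper9.Golay1 Cfsg.Agent.Lib.Helper9.GolayQR4
  Cfsg.Agent.Lib.Helper9.GolayQR5 Cfsg.Agent.Lib.Helper9.GolayQR6 Cfsg.Agent.Lib.Helper9.GolayQR7
  Cfsg.Agent.Lib.Helper9.M24T6 Cfsg.Agent.Lib.Helper9.M24T10 Cfsg.Agent.Lib.Helper9.M24W2
open scoped Pointwise

/-- the action of a permutation on words -/
def act (σ : Equiv.Perm GolayPt) (w : GolayPt → ZMod 2) : GolayPt → ZMod 2 := fun p => w (σ.symm p)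

theorem supp_act (σ : Equiv.Perm GolayPt) (w : GolayPt → ZMod 2) : supp (act σ w) = σ • supp w := by
  ext p
  rw [mem_supp, Finset.mem_smul_finset]
  constructor
  · intro h
    exact ⟨σ.symm p, mem_supp.mpr h, by simp⟩
  · rintro ⟨q, hq, rfl⟩
    show w (σ.symm (σ • q)) ≠ 0
    rw [Equiv.Perm.smul_def, Equiv.symm_apply_apply]
    exact mem_supp.mp hq

theorem wt_act (σ : Equiv.Perm GolayPt) (w : GolayPt → ZMod 2) :
    hammingNorm (act σ w) = hammingNorm w := by
  rw [wt_eq, supp_act, Finset.card_smul_finset, ← wt_eq]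

theorem main : (fun _ : GolayPt => (1 : ZMod 2)) ∈ golayCode ∧
    ∀ W : Submodule (ZMod 2) (GolayPt → ZMod 2), (fun _ => (1 : ZMod 2)) ∈ W → W ≤ golayCode →
      (∀ σ ∈ M24, ∀ w ∈ W, (fun p => w (σ.symm p)) ∈ W) →
      W = Submodule.span (ZMod 2) {fun _ => (1 : ZMod 2)} ∨ W = golayCode := by
  refine ⟨one_mem, ?_⟩
  intro W h1 hle hinv
  have h1' : (1 : GolayPt → ZMod 2) ∈ W := h1
  by_cases hW : W ≤ Submodule.span (ZMod 2) {fun _ => (1 : ZMod 2)}
  · left
    apply le_antisymm hW
    rw [Submodule.span_le, Set.singleton_subset_iff]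
    exact h1
  · right
    obtain ⟨w, hwW, hwn⟩ := SetLike.not_le_iff_exists.mp hW
    have hw0 : w ≠ 0 := by
      rintro rfl
      exact hwn (Submodule.zero_mem _)
    have hw1 : w ≠ 1 := by
      rintro rfl
      exact hwn (Submodule.subset_span rfl)
    have hoct : ∃ c ∈ W, hammingNorm c = 8 := by
      have key12 : ∀ c ∈ W, hammingNorm c = 12 → ∃ c' ∈ W, hammingNorm c' = 8 := by
        intro c hc h12
        have hd : supp c ∈ dodecads :=
          ⟨⟨c, hle hc, (supp_eq_support₂ c).symm⟩, by rw [← wt_eq]; exact h12⟩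
        have hcnt := (dodecad_meet_counts (supp c) hd).2.2
        have hne : {d' : Finset GolayPt | d' ∈ dodecads ∧ (supp c ∩ d').card = 8}.Nonempty := by
          apply Set.nonempty_of_ncard_ne_zero
          rw [hcnt]
          norm_num
        obtain ⟨d', hd', h8⟩ := hne
        obtain ⟨σ, hσ, hσd⟩ := dodecad_transitive (supp c) d' hd hd'
        refine ⟨c + act σ c, W.add_mem hc (hinv σ hσ c hc), ?_⟩
        have := wt_add c (act σ c)
        rw [supp_act, hσd, h8, wt_act, h12] at this
        omega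
      rcases weight_values w (hle hwW) with h | h | h | h | h
      · exact absurd (hammingNorm_eq_zero.mp h) hw0
      · exact ⟨w, hwW, h⟩
      · exact key12 w hwW h
      · refine ⟨w + 1, W.add_mem hwW h1', ?_⟩
        have := wt_add_one w
        omega
      · exfalso
        apply hw1
        have hs : supp w = univ := by
          apply Finset.eq_univ_of_card
          rw [← wt_eq, h, card_golayPt]
        ext p
        have hp : p ∈ supp w := by
          rw [hs]
          exact mem_univ p
        rcases zmod2_cases (w p) with h0 | h1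
        · exact absurd h0 (mem_supp.mp hp)
        · simpa using h1
    obtain ⟨c, hcW, hc8⟩ := hoct
    apply le_antisymm hle
    rw [← Cfsg.Agent.Lib.Helper9.GolayG4.span_octads card_golayPt golayCode finrank_golayCode
      min_weight, Submodule.span_le]
    rintro v ⟨hvC, hv8⟩
    obtain ⟨σ, hσ, hσo⟩ := octad_transitive (supp c) (supp v) (word_octad c (hle hcW) hc8)
      (word_octad v hvC hv8)
    have : act σ c = v := by
      rw [← supp_eq_iff, supp_act, hσo]
    rw [SetLike.mem_coe, ← this]
    exact hinv σ hσ c hcW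

end Cfsg.Agent.Lib.Helper9.M24N1
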