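import Cfsg.Agent.Lib.Helper9.M24P1
import Cfsg.Agent.Lib.Helper9.M24G4
import Cfsg.Agent.Lib.Helper9.M24G3

set_option autoImplicit false

namespace Cfsg.Agent.Lib.Helper9.M24P2

open Cfsg Finset Cfsg.Agent.Lib.Helper9.Golay1 Cfsg.Agent.Lib.Helper9.GolayQR1
  Cfsg.Agent.Lib.Helper9.GolayQR5 Cfsg.Agent.Lib.Helper9.GolayQR6
  Cfsg.Agent.Lib.Helper9.GolayTrio1 Cfsg.Agent.Lib.Helper9.Steiner4
  Cfsg.Agent.Lib.Helper9.M24T6 Cfsg.Agent.Lib.Helper9.M24T8 Cfsg.Agent.Lib.Helper9.M24T9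
  Cfsg.Agent.Lib.Helper9.M24F7 Cfsg.Agent.Lib.Helper9.M24P1
open scoped Pointwise

/-- the trios through an octad -/
def Xs (o : Finset GolayPt) : Set (Finset (Finset GolayPt)) := {T | T ∈ trios ∧ o ∈ T}

theorem card_Xs (o : Finset GolayPt) (ho : o ∈ octads) : (Xs o).ncard = 15 := by
  classical
  obtain ⟨Bf, hBf⟩ := Cfsg.Agent.Lib.Helper9.GolayQR8.exists_octads_finset
  have hBmem : ∀ b, b ∈ Bf ↔ b ∈ octads := fun b => by rw [← hBf]; exact Iff.rfl
  have hB : IsSteinerSystem 5 8 (Bf : Set (Finset GolayPt)) := by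
    rw [hBf]; exact octads_isSteiner
  obtain ⟨n0, -⟩ := inter_distribution card_golayPt Bf hB o ((hBmem o).mpr ho)
  obtain ⟨Tx, hTx⟩ : ∃ Tx : Finset (Finset (Finset GolayPt)), ∀ T, T ∈ Tx ↔ (T ∈ trios ∧ o ∈ T) :=
    ⟨Finset.univ.filter (fun T => T ∈ trios ∧ o ∈ T), by simp⟩
  have hset : Xs o = (Tx : Set (Finset (Finset GolayPt))) := by
    ext T
    rw [mem_coe, hTx]
    rfl
  rw [hset, Set.ncard_coe_finset]
  obtain ⟨A, hA⟩ : ∃ A, A = Bf.filter (fun c => (c ∩ o).card = 0) := ⟨_, rfl⟩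
  have hAmem : ∀ a, a ∈ A ↔ a ∈ octads ∧ Disjoint o a := by
    intro a
    rw [hA, mem_filter, hBmem, card_eq_zero, ← disjoint_iff_inter_eq_empty, disjoint_comm]
  have hmaps : (A : Set (Finset GolayPt)).MapsTo (fun a => trioOf o a) Tx := by
    intro a ha
    rw [mem_coe, hAmem] at ha
    rw [mem_coe, hTx]
    refine ⟨trioOf_mem o a ho ha.1 ha.2, ?_⟩
    unfold trioOf
    exact mem_insert_self _ _
  have hfib : ∀ T ∈ Tx, (A.filter (fun a => trioOf o a = T)).card = 2 := by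
    intro T hT
    rw [hTx] at hT
    have : A.filter (fun a => trioOf o a = T) = T.erase o := by
      ext a
      rw [mem_filter, mem_erase, hAmem]
      constructor
      · rintro ⟨⟨ha, hd⟩, rfl⟩
        refine ⟨(ne_of_disjoint_octad o a ho hd).symm, ?_⟩
        unfold trioOf
        exact mem_insert_of_mem (mem_insert_self _ _)
      · rintro ⟨hne, haT⟩
        exact ⟨⟨hT.1.2.1 a haT, hT.1.2.2 o hT.2 a haT hne.symm⟩,
          (trio_eq T hT.1 o a hT.2 haT hne.symm).symm⟩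
    rw [this, card_erase_of_mem hT.2, hT.1.1]
  have hsum := Finset.card_eq_sum_card_fiberwise hmaps
  rw [Finset.sum_congr rfl hfib, Finset.sum_const, smul_eq_mul, hA, n0] at hsum
  omega

theorem Xs_finite (o : Finset GolayPt) : (Xs o).Finite := Set.toFinite _

theorem Xs_smul (o : Finset GolayPt) (g : Equiv.Perm GolayPt) (hg : g ∈ M24) (hgo : g • o = o)
    (T : Finset (Finset GolayPt)) (hT : T ∈ Xs o) : g • T ∈ Xs o := by
  refine ⟨smul_trio_mem g hg T hT.1, ?_⟩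
  have := Finset.smul_mem_smul_finset (a := g) hT.2
  rwa [hgo] at this

/-- the stabilizer of an octad is transitive on the trios through it -/
theorem trans_through (o : Finset GolayPt) (ho : o ∈ octads) (T T' : Finset (Finset GolayPt))
    (hT : T ∈ Xs o) (hT' : T' ∈ Xs o) : ∃ g ∈ M24, g • o = o ∧ g • T = T' := by
  obtain ⟨⟨X₁, -, X₂, -, X₃, -, n1, n2, n3, hU⟩, -⟩ :=
    Cfsg.Agent.Lib.Helper9.M24G3.octad_stab_trios_sextets o ho
  have hsub : MulAction.orbit (MulAction.stabilizer M24 o) T ⊆ Xs o := by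
    rintro _ ⟨k, rfl⟩
    exact Xs_smul o k.1.1 k.1.2 (MulAction.mem_stabilizer_iff.mp k.2) T hT
  have hle := Set.ncard_le_ncard hsub (Xs_finite o)
  rw [card_Xs o ho] at hle
  have h15 : (MulAction.orbit (MulAction.stabilizer M24 o) T).ncard = 15 := by
    have hTU : T ∈ trios := hT.1
    rw [hU] at hTU
    rcases hTU with (h | h) | h
    · rw [MulAction.orbit_eq_iff.mpr h]; exact n1
    · rw [MulAction.orbit_eq_iff.mpr h] at hle; omega
    · rw [MulAction.orbit_eq_iff.mpr h] at hle; omega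
  have heq := Set.eq_of_subset_of_ncard_le hsub (by rw [card_Xs o ho, h15]) (Xs_finite o)
  rw [← heq] at hT'
  obtain ⟨k, rfl⟩ := hT'
  exact ⟨k.1.1, k.1.2, MulAction.mem_stabilizer_iff.mp k.2, rfl⟩

/-- the trios sharing an octad with a given trio -/
def Ys (T₁ : Finset (Finset GolayPt)) : Set (Finset (Finset GolayPt)) :=
  {T' | T' ∈ trios ∧ T' ≠ T₁ ∧ ∃ a ∈ T₁, a ∈ T'}

theorem card_Ys_le (T₁ : Finset (Finset GolayPt)) (hT₁ : T₁ ∈ trios) : (Ys T₁).ncard ≤ 42 := by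
  obtain ⟨a, b, c, -, -, -, habc⟩ := Finset.card_eq_three.mp hT₁.1
  have hmem : ∀ x ∈ T₁, x ∈ octads := hT₁.2.1
  have ha : a ∈ T₁ := by rw [habc]; simp
  have hb : b ∈ T₁ := by rw [habc]; simp
  have hc : c ∈ T₁ := by rw [habc]; simp
  have hsub : Ys T₁ ⊆ (Xs a \ {T₁}) ∪ (Xs b \ {T₁}) ∪ (Xs c \ {T₁}) := by
    rintro T' ⟨hT', hne, x, hx, hxT'⟩
    rw [habc, mem_insert, mem_insert, mem_singleton] at hx
    rcases hx with rfl | rfl | rfl
    · exact Or.inl (Or.inl ⟨⟨hT', hxT'⟩, hne⟩)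
    · exact Or.inl (Or.inr ⟨⟨hT', hxT'⟩, hne⟩)
    · exact Or.inr ⟨⟨hT', hxT'⟩, hne⟩
  have h14 : ∀ x ∈ T₁, (Xs x \ {T₁}).ncard = 14 := by
    intro x hx
    rw [Set.ncard_sdiff_singleton_of_mem (show T₁ ∈ Xs x from ⟨hT₁, hx⟩), card_Xs x (hmem x hx)]
  have h1 := Set.ncard_le_ncard hsub (Set.toFinite _)
  have h2 := Set.ncard_union_le ((Xs a \ {T₁}) ∪ (Xs b \ {T₁})) (Xs c \ {T₁})
  have h3 := Set.ncard_union_le (Xs a \ {T₁}) (Xs b \ {T₁})
  rw [h14 a ha, h14 b hb] at h3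
  rw [h14 c hc] at h2
  omega

theorem Ys_smul (T₁ : Finset (Finset GolayPt)) (g : Equiv.Perm GolayPt) (hg : g ∈ M24)
    (hgT : g • T₁ = T₁) (T : Finset (Finset GolayPt)) (hT : T ∈ Ys T₁) : g • T ∈ Ys T₁ := by
  obtain ⟨hT', hne, x, hx, hxT⟩ := hT
  refine ⟨smul_trio_mem g hg T hT', ?_, g • x, ?_, Finset.smul_mem_smul_finset hxT⟩
  · intro h
    apply hne
    rw [← hgT] at h
    exact MulAction.injective g h
  · have := Finset.smul_mem_smul_finset (a := g) hx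
    rwa [hgT] at this

/-- the stabilizer of a trio is transitive on the trios sharing an octad with it -/
theorem trans_share (T₁ : Finset (Finset GolayPt)) (hT₁ : T₁ ∈ trios)
    (T T' : Finset (Finset GolayPt)) (hT : T ∈ Ys T₁) (hT' : T' ∈ Ys T₁) :
    ∃ g ∈ M24, g • T₁ = T₁ ∧ g • T = T' := by
  obtain ⟨X₁, -, X₂, -, X₃, -, X₄, -, n1, n2, n3, n4, hU, -⟩ :=
    Cfsg.Agent.Lib.Helper9.M24G4.trio_stab_result T₁ hT₁
  have key : ∀ S ∈ Ys T₁, S ∈ MulAction.orbit (MulAction.stabilizer M24 T₁) X₁ := by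
    intro S hS
    have hsub : MulAction.orbit (MulAction.stabilizer M24 T₁) S ⊆ Ys T₁ := by
      rintro _ ⟨k, rfl⟩
      exact Ys_smul T₁ k.1.1 k.1.2 (MulAction.mem_stabilizer_iff.mp k.2) S hS
    have hle := Set.ncard_le_ncard hsub (Set.toFinite _)
    have h42 := card_Ys_le T₁ hT₁
    have hSU : S ∈ trios := hS.1
    rw [hU] at hSU
    rcases hSU with (((h | h) | h) | h) | h
    · exact absurd h hS.2.1
    · exact h
    · rw [MulAction.orbit_eq_iff.mpr h] at hle; omega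
    · rw [MulAction.orbit_eq_iff.mpr h] at hle; omega
    · rw [MulAction.orbit_eq_iff.mpr h] at hle; omega
  have h1 := key T hT
  have h2 := key T' hT'
  rw [← MulAction.orbit_eq_iff.mpr h1] at h2
  obtain ⟨k, rfl⟩ := h2
  exact ⟨k.1.1, k.1.2, MulAction.mem_stabilizer_iff.mp k.2, rfl⟩

/-- two distinct trios share at most one octad -/
theorem share_unique (T T' : Finset (Finset GolayPt)) (hT : T ∈ trios) (hT' : T' ∈ trios)
    (hne : T ≠ T') (a b : Finset GolayPt) (ha : a ∈ T) (ha' : a ∈ T') (hb : b ∈ T) (hb' : b ∈ T') :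
    a = b := by
  by_contra hab
  apply hne
  rw [trio_eq T hT a b ha hb hab, trio_eq T' hT' a b ha' hb' hab]

/-- the stabilizer of an octad is 2-transitive on the trios through it -/
theorem two_trans (o : Finset GolayPt) (ho : o ∈ octads)
    (T₁ T₂ T₁' T₂' : Finset (Finset GolayPt)) (h1 : T₁ ∈ Xs o) (h2 : T₂ ∈ Xs o)
    (h1' : T₁' ∈ Xs o) (h2' : T₂' ∈ Xs o) (hne : T₁ ≠ T₂) (hne' : T₁' ≠ T₂') :
    ∃ g ∈ M24, g • o = o ∧ g • T₁ = T₁' ∧ g • T₂ = T₂' := by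
  obtain ⟨g₁, hg₁, hg₁o, hg₁T⟩ := trans_through o ho T₁ T₁' h1 h1'
  have h3 : g₁ • T₂ ∈ Xs o := Xs_smul o g₁ hg₁ hg₁o T₂ h2
  have hne3 : g₁ • T₂ ≠ T₁' := by
    rw [← hg₁T]
    intro h
    exact hne (MulAction.injective g₁ h).symm
  have hY3 : g₁ • T₂ ∈ Ys T₁' := ⟨h3.1, hne3, o, h1'.2, h3.2⟩
  have hY2 : T₂' ∈ Ys T₁' := ⟨h2'.1, hne'.symm, o, h1'.2, h2'.2⟩
  obtain ⟨h, hh, hhT, hh2⟩ := trans_share T₁' h1'.1 _ _ hY3 hY2
  have hho : h • o = o := by
    apply share_unique T₁' T₂' h1'.1 h2'.1 hne' (h • o) o _ _ h1'.2 h2'.2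
    · have := Finset.smul_mem_smul_finset (a := h) h1'.2
      rwa [hhT] at this
    · have := Finset.smul_mem_smul_finset (a := h) h3.2
      rwa [hh2] at this
  refine ⟨h * g₁, M24.mul_mem hh hg₁, ?_, ?_, ?_⟩
  · rw [mul_smul, hg₁o, hho]
  · rw [mul_smul, hg₁T, hhT]
  · rw [mul_smul, hh2]

end Cfsg.Agent.Lib.Helper9.M24P2
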