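import Cfsg.Agent.Lib.Helper9.M24P2

set_option autoImplicit false

namespace Cfsg.Agent.Lib.Helper9.M24P3

open Cfsg Finset Cfsg.Agent.Lib.Helper9.Golay1 Cfsg.Agent.Lib.Helper9.GolayQR1
  Cfsg.Agent.Lib.Helper9.GolayQR5 Cfsg.Agent.Lib.Helper9.GolayQR6
  Cfsg.Agent.Lib.Helper9.GolayTrio1
  Cfsg.Agent.Lib.Helper9.M24T6 Cfsg.Agent.Lib.Helper9.M24T8 Cfsg.Agent.Lib.Helper9.M24T9
  Cfsg.Agent.Lib.Helper9.M24F7 Cfsg.Agent.Lib.Helper9.M24P1 Cfsg.Agent.Lib.Helper9.M24P2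
open scoped Pointwise

/-- the trios through an octad, as a set acted on by the pointwise stabilizer -/
def trioSub (o : Finset GolayPt) : SubMulAction ↥(fixS o) (Finset (Finset GolayPt)) where
  carrier := Xs o
  smul_mem' := by
    intro n T hT
    have hn := fixS_le_stabF o n.2
    rw [mem_stabF] at hn
    exact Xs_smul o n.1 hn.1 hn.2 T hT

theorem card_trioSub (o : Finset GolayPt) (ho : o ∈ octads) : Nat.card ↥(trioSub o) = 15 := by
  rw [← card_Xs o ho]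
  exact Nat.card_coe_set_eq (Xs o)

theorem fixS_conj (o : Finset GolayPt) (h n : Equiv.Perm GolayPt) (hh : h ∈ stabF o)
    (hn : n ∈ fixS o) : h⁻¹ * n * h ∈ fixS o := by
  rw [mem_fixS] at hn ⊢
  rw [mem_stabF, stab_iff] at hh
  refine ⟨M24.mul_mem (M24.mul_mem (M24.inv_mem hh.1) hn.1) hh.1, fun x hx => ?_⟩
  rw [Equiv.Perm.mul_apply, Equiv.Perm.mul_apply, hn.2 _ ((hh.2 x).mpr hx), inv_app]

/-- the pointwise stabilizer of an octad fixes every trio through it -/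
theorem fixS_trivial (o : Finset GolayPt) (ho : o ∈ octads) (n : Equiv.Perm GolayPt)
    (hn : n ∈ fixS o) (T : Finset (Finset GolayPt)) (hT : T ∈ Xs o) : n • T = T := by
  have hp : IsPGroup 2 ↥(fixS o) := IsPGroup.of_card (n := 4) (octad_pointwise o ho).1
  have hnd : ¬ 2 ∣ Nat.card ↥(trioSub o) := by
    rw [card_trioSub o ho]
    decide
  obtain ⟨T₀, hT₀⟩ := hp.nonempty_fixed_point_of_prime_not_dvd_card ↥(trioSub o) hnd
  have hT₀X : (T₀ : Finset (Finset GolayPt)) ∈ Xs o := T₀.2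
  obtain ⟨h, hh, hho, hhT⟩ := trans_through o ho _ T hT₀X hT
  have hconj := fixS_conj o h n ((mem_stabF o h).mpr ⟨hh, hho⟩) hn
  have hfix : (h⁻¹ * n * h) • (T₀ : Finset (Finset GolayPt)) = T₀ := by
    have := hT₀ ⟨h⁻¹ * n * h, hconj⟩
    exact congrArg Subtype.val this
  rw [← hhT]
  have : n • h • (T₀ : Finset (Finset GolayPt)) = h • (h⁻¹ * n * h) • (T₀ : Finset (Finset GolayPt)) := by
    rw [← mul_smul, ← mul_smul]
    congr 1
    group
  rw [this, hfix]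

/-- the kernel of the action on the trios through an octad -/
def Kt (o : Finset GolayPt) : Subgroup (Equiv.Perm GolayPt) where
  carrier := {g | g ∈ stabF o ∧ ∀ T ∈ Xs o, g • T = T}
  mul_mem' := by
    rintro a b ⟨ha, ha'⟩ ⟨hb, hb'⟩
    exact ⟨(stabF o).mul_mem ha hb, fun T hT => by rw [mul_smul, hb' T hT, ha' T hT]⟩
  one_mem' := ⟨(stabF o).one_mem, fun T _ => one_smul _ T⟩
  inv_mem' := by
    rintro a ⟨ha, ha'⟩
    refine ⟨(stabF o).inv_mem ha, fun T hT => ?_⟩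
    rw [inv_smul_eq_iff, ha' T hT]

theorem mem_Kt (o : Finset GolayPt) (g : Equiv.Perm GolayPt) :
    g ∈ Kt o ↔ g ∈ stabF o ∧ ∀ T ∈ Xs o, g • T = T := Iff.rfl

theorem fixS_le_Kt (o : Finset GolayPt) (ho : o ∈ octads) : fixS o ≤ Kt o := fun n hn =>
  ⟨fixS_le_stabF o hn, fun T hT => fixS_trivial o ho n hn T hT⟩

theorem Kt_normal (o : Finset GolayPt) : ((Kt o).subgroupOf (stabF o)).Normal := by
  constructor
  intro n hn h
  rw [Subgroup.mem_subgroupOf] at hn ⊢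
  rw [mem_Kt] at hn
  have hh := (mem_stabF o h).mp h.2
  refine ⟨(stabF o).mul_mem ((stabF o).mul_mem h.2 hn.1) ((stabF o).inv_mem h.2), fun T hT => ?_⟩
  have hinv : (h : Equiv.Perm GolayPt)⁻¹ • T ∈ Xs o := by
    apply Xs_smul o _ (M24.inv_mem hh.1) _ T hT
    rw [inv_smul_eq_iff, hh.2]
  change ((h : Equiv.Perm GolayPt) * n * (h : Equiv.Perm GolayPt)⁻¹) • T = T
  rw [mul_smul, mul_smul, hn.2 _ hinv, smul_inv_smul]

theorem exists_two_Xs (o : Finset GolayPt) (ho : o ∈ octads) :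
    ∃ T ∈ Xs o, ∃ T' ∈ Xs o, T ≠ T' := by
  have h := card_Xs o ho
  have h1 : 1 < (Xs o).ncard := by rw [h]; norm_num
  obtain ⟨T, hT, T', hT', hne⟩ := (Set.one_lt_ncard (Xs_finite o)).mp h1
  exact ⟨T, hT, T', hT', hne⟩

theorem Kt_le_fixS (o : Finset GolayPt) (ho : o ∈ octads) : Kt o ≤ fixS o := by
  have h8 : Fintype.card ↥o = 8 := by
    rw [Fintype.card_coe]
    exact ho.2
  have hsimp : IsSimpleGroup ↥(resHom o).range := by
    rw [range_res o ho]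
    apply alternatingGroup.isSimpleGroup
    rw [Nat.card_eq_fintype_card, h8]
    norm_num
  have hsurj : Function.Surjective (resHom o).rangeRestrict := (resHom o).rangeRestrict_surjective
  have hN : (((Kt o).subgroupOf (stabF o)).map (resHom o).rangeRestrict).Normal :=
    Subgroup.Normal.map (Kt_normal o) _ hsurj
  rcases hN.eq_bot_or_eq_top with hbot | htop
  · intro g hg
    have hgs : g ∈ stabF o := hg.1
    have h1 : (resHom o).rangeRestrict ⟨g, hgs⟩ ∈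
        ((Kt o).subgroupOf (stabF o)).map (resHom o).rangeRestrict :=
      Subgroup.mem_map_of_mem _ (Subgroup.mem_subgroupOf.mpr hg)
    rw [hbot, Subgroup.mem_bot] at h1
    have h2 : resHom o ⟨g, hgs⟩ = 1 := by
      have := congrArg Subtype.val h1
      exact this
    exact (mem_ker_res o ⟨g, hgs⟩).mp (MonoidHom.mem_ker.mpr h2)
  · exfalso
    obtain ⟨T, hT, T', hT', hne⟩ := exists_two_Xs o ho
    obtain ⟨h, hh, hho, hhT⟩ := trans_through o ho T T' hT hT'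
    have hhs : h ∈ stabF o := (mem_stabF o h).mpr ⟨hh, hho⟩
    have h1 : (resHom o).rangeRestrict ⟨h, hhs⟩ ∈
        ((Kt o).subgroupOf (stabF o)).map (resHom o).rangeRestrict := by
      rw [htop]
      exact Subgroup.mem_top _
    obtain ⟨k, hk, hkh⟩ := Subgroup.mem_map.mp h1
    rw [Subgroup.mem_subgroupOf] at hk
    have h2 : resHom o k = resHom o ⟨h, hhs⟩ := congrArg Subtype.val hkh
    have h3 : k⁻¹ * ⟨h, hhs⟩ ∈ (resHom o).ker := by
      rw [MonoidHom.mem_ker, map_mul, map_inv, h2, inv_mul_cancel]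
    rw [mem_ker_res] at h3
    have h4 : (k : Equiv.Perm GolayPt)⁻¹ * h ∈ Kt o := fixS_le_Kt o ho h3
    have h5 : h ∈ Kt o := by
      have := (Kt o).mul_mem hk h4
      rwa [mul_inv_cancel_left] at this
    apply hne
    rw [← hhT, h5.2 T hT]

theorem kernel_iff (o : Finset GolayPt) (ho : o ∈ octads) (g : Equiv.Perm GolayPt) (hg : g ∈ M24)
    (hgo : g • o = o) :
    (∀ T ∈ trios, o ∈ T → g • T = T) ↔ ∀ p ∈ o, g p = p := by
  constructor
  · intro h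
    have : g ∈ Kt o := ⟨(mem_stabF o g).mpr ⟨hg, hgo⟩, fun T hT => h T hT.1 hT.2⟩
    exact ((mem_fixS o g).mp (Kt_le_fixS o ho this)).2
  · intro h T hT hoT
    exact fixS_trivial o ho g ((mem_fixS o g).mpr ⟨hg, h⟩) T ⟨hT, hoT⟩

theorem main (o : Finset GolayPt) (ho : o ∈ octads) :
    {T : Finset (Finset GolayPt) | T ∈ trios ∧ o ∈ T}.ncard = 15 ∧
    (∀ T₁ T₂ T₁' T₂' : Finset (Finset GolayPt), T₁ ∈ trios → T₂ ∈ trios → T₁' ∈ trios →
      T₂' ∈ trios → o ∈ T₁ → o ∈ T₂ → o ∈ T₁' → o ∈ T₂' → T₁ ≠ T₂ → T₁' ≠ T₂' →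
      ∃ g ∈ M24, g • o = o ∧ g • T₁ = T₁' ∧ g • T₂ = T₂') ∧
    ∀ g ∈ M24, g • o = o → ((∀ T ∈ trios, o ∈ T → g • T = T) ↔ ∀ p ∈ o, g p = p) :=
  ⟨card_Xs o ho, fun T₁ T₂ T₁' T₂' h1 h2 h1' h2' m1 m2 m1' m2' hne hne' =>
    two_trans o ho T₁ T₂ T₁' T₂' ⟨h1, m1⟩ ⟨h2, m2⟩ ⟨h1', m1'⟩ ⟨h2', m2'⟩ hne hne',
    fun g hg hgo => kernel_iff o ho g hg hgo⟩

end Cfsg.Agent.Lib.Helper9.M24P3
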