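import Cfsg.Agent.Lib.Helper9.M24P1
import Cfsg.Agent.Lib.Helper9.M24H2

set_option autoImplicit false

namespace Cfsg.Agent.Lib.Helper9.M24P4

open Cfsg Finset Cfsg.Agent.Lib.Helper9.Golay1 Cfsg.Agent.Lib.Helper9.GolayQR1
  Cfsg.Agent.Lib.Helper9.GolayQR5 Cfsg.Agent.Lib.Helper9.GolayQR6
  Cfsg.Agent.Lib.Helper9.M24T1 Cfsg.Agent.Lib.Helper9.M24T3 Cfsg.Agent.Lib.Helper9.M24T4
  Cfsg.Agent.Lib.Helper9.M24T6 Cfsg.Agent.Lib.Helper9.M24T8 Cfsg.Agent.Lib.Helper9.M24T9
  Cfsg.Agent.Lib.Helper9.M24U1 Cfsg.Agent.Lib.Helper9.M24V2 Cfsg.Agent.Lib.Helper9.M24X1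
  Cfsg.Agent.Lib.Helper9.M24Y5 Cfsg.Agent.Lib.Helper9.M24H1 Cfsg.Agent.Lib.Helper9.M24H2
  Cfsg.Agent.Lib.Helper9.M24P1
open scoped Pointwise

/-- a standard octad meeting the standard octad in two points -/
def O2 : Finset GolayPt := M 252432

def L2 : List GolayPt := [some 4, some 9, some 11, some 12, some 14, some 15, some 16, some 17]

theorem O2_mem : O2 ∈ octads := Cfsg.Agent.Lib.Helper9.M24F2.isOctF_sound 252432 (by decide +kernel)

theorem mem_O2 (p : GolayPt) : p ∈ O2 ↔ p ∈ L2 := by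
  unfold O2
  rw [mem_M]
  revert p
  decide +kernel

theorem card_O8_O2 : (O8 ∩ O2).card = 2 := by
  have : O8 ∩ O2 = {some 14, some 17} := by
    ext p
    rw [mem_inter, mem_O8, mem_O2]
    revert p
    decide
  rw [this]
  rfl

theorem Ls_sub_L8 : ∀ b ∈ Ls, b ∈ L8 := by decide

theorem Ls_not_L2 : ∀ b ∈ Ls, b ∉ L2 := by decide

theorem F16_O2 : (F16.all fun f => decide (f = 1) || !(L2.all fun x => decide (f x ∈ L2))) = true := by
  decide +kernel

theorem fix_six_trivial (o o' : Finset GolayPt) (ho : o ∈ octads) (ho' : o' ∈ octads)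
    (h2 : (o ∩ o').card = 2) (g : Equiv.Perm GolayPt) (hg : g ∈ M24) (hgo' : g • o' = o')
    (hfix : ∀ x ∈ o \ o', g x = x) : g = 1 := by
  obtain ⟨t₁, ht₁, h1⟩ := octad_transitive o O8 ho O8_mem
  have e : (O8 ∩ t₁ • o').card = (O8 ∩ O2).card := by
    rw [card_O8_O2, ← h1, card_smul_inter, h2]
  obtain ⟨u, hu, huO, huo'⟩ := octad_orbits O8 (t₁ • o') O2 O8_mem (smul_octad_mem t₁ ht₁ o' ho')
    O2_mem e
  obtain ⟨t, htdef⟩ : ∃ t, t = u * t₁ := ⟨_, rfl⟩
  have ht : t ∈ M24 := by rw [htdef]; exact M24.mul_mem hu ht₁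
  have hto : t • o = O8 := by rw [htdef, mul_smul, h1, huO]
  have hto' : t • o' = O2 := by rw [htdef, mul_smul, huo']
  have hmem : t * g * t⁻¹ ∈ fixL M24 Ls := by
    refine ⟨M24.mul_mem (M24.mul_mem ht hg) (M24.inv_mem ht), fun b hb => ?_⟩
    have hb8 : b ∈ O8 := (mem_O8 b).mpr (Ls_sub_L8 b hb)
    have hb2 : b ∉ O2 := fun h => Ls_not_L2 b hb ((mem_O2 b).mp h)
    have hbo : t⁻¹ b ∈ o := by
      rw [← smul_mem_iff t, hto, app_inv]
      exact hb8
    have hbo' : t⁻¹ b ∉ o' := by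
      rw [← smul_mem_iff t, hto', app_inv]
      exact hb2
    rw [Equiv.Perm.mul_apply, Equiv.Perm.mul_apply, hfix _ (mem_sdiff.mpr ⟨hbo, hbo'⟩), app_inv]
  have hF := F16_sub _ hmem
  have hsm : (t * g * t⁻¹) • O2 = O2 := by
    rw [mul_smul, mul_smul, ← hto', inv_smul_smul, hgo']
  have hstab : ∀ x ∈ L2, (t * g * t⁻¹) x ∈ L2 := by
    intro x hx
    rw [← mem_O2] at hx ⊢
    have := (smul_mem_iff (t * g * t⁻¹) x O2).mpr hx
    rwa [hsm] at this
  have h1 : t * g * t⁻¹ = 1 := by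
    have := List.all_eq_true.mp F16_O2 _ hF
    rw [Bool.or_eq_true, decide_eq_true_eq] at this
    rcases this with h | h
    · exact h
    · exfalso
      have h' : (L2.all fun x => decide ((t * g * t⁻¹) x ∈ L2)) = true :=
        List.all_eq_true.mpr (fun x hx => decide_eq_true (hstab x hx))
      rw [h'] at h
      exact Bool.noConfusion h
  have : g = t⁻¹ * (t * g * t⁻¹) * t := by group
  rw [this, h1]
  group

theorem sdiff_iff (o o' : Finset GolayPt) (g : Equiv.Perm GolayPt) (hgo : g • o = o)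
    (hgo' : g • o' = o') : ∀ x, g x ∈ o \ o' ↔ x ∈ o \ o' := by
  intro x
  rw [mem_sdiff, mem_sdiff, (stab_iff o g).mp hgo x, (stab_iff o' g).mp hgo' x]

/-- restriction to the six points of the first octad outside the second -/
def res6 (o o' : Finset GolayPt) :
    ↥(MulAction.stabilizer M24 o ⊓ MulAction.stabilizer M24 o') →* Equiv.Perm ↥(o \ o') where
  toFun k := (k.1.1 : Equiv.Perm GolayPt).subtypePerm
    (sdiff_iff o o' k.1.1 (MulAction.mem_stabilizer_iff.mp (Subgroup.mem_inf.mp k.2).1)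
      (MulAction.mem_stabilizer_iff.mp (Subgroup.mem_inf.mp k.2).2))
  map_one' := by
    apply Equiv.ext
    intro x
    rfl
  map_mul' := by
    intro a b
    apply Equiv.ext
    intro x
    rfl

theorem res6_injective (o o' : Finset GolayPt) (ho : o ∈ octads) (ho' : o' ∈ octads)
    (h2 : (o ∩ o').card = 2) : Function.Injective (res6 o o') := by
  rw [injective_iff_map_eq_one]
  intro k hk
  have hfix : ∀ x ∈ o \ o', (k.1.1 : Equiv.Perm GolayPt) x = x := by
    intro x hx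
    have := congrArg (fun e : Equiv.Perm ↥(o \ o') => ((e ⟨x, hx⟩ : ↥(o \ o')) : GolayPt)) hk
    exact this
  have h1 := fix_six_trivial o o' ho ho' h2 k.1.1 k.1.2
    (MulAction.mem_stabilizer_iff.mp (Subgroup.mem_inf.mp k.2).2) hfix
  apply Subtype.ext
  apply Subtype.ext
  exact h1

theorem main (o o' : Finset GolayPt) (ho : o ∈ octads) (ho' : o' ∈ octads)
    (h₂ : (o ∩ o').card = 2) :
    Nonempty (↥(MulAction.stabilizer M24 o ⊓ MulAction.stabilizer M24 o') ≃* Equiv.Perm (Fin 6)) := by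
  have h6 : (o \ o').card = 6 := by
    have := Finset.card_sdiff_add_card_inter o o'
    rw [h₂, ho.2] at this
    omega
  have hc : Nat.card (Equiv.Perm ↥(o \ o')) ≤
      Nat.card ↥(MulAction.stabilizer M24 o ⊓ MulAction.stabilizer M24 o') := by
    rw [(two_octads o o' ho ho').2.2 h₂, Nat.card_eq_fintype_card, Fintype.card_perm,
      Fintype.card_coe, h6]
    decide
  have hbij := (res6_injective o o' ho ho' h₂).bijective_of_nat_card_le hc
  exact ⟨(MulEquiv.ofBijective (res6 o o') hbij).trans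
    ((o \ o').equivFinOfCardEq h6).permCongrHom⟩

end Cfsg.Agent.Lib.Helper9.M24P4
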