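import Cfsg.Agent.Lib.Helper9.M24N1
import Cfsg.Agent.Lib.Helper9.M24P1
import Cfsg.Agent.Lib.Helper9.M24G3
import Cfsg.Agent.Lib.Helper9.M24G5
import Cfsg.Agent.Lib.Helper9.M24T11
import Cfsg.Agent.Lib.Helper9.M24X10

set_option autoImplicit false

namespace Cfsg.Agent.Lib.Helper9.M24P7

open Cfsg Finset Cfsg.Agent.Lib.Helper9.Golay1 Cfsg.Agent.Lib.Helper9.GolayQR1
  Cfsg.Agent.Lib.Helper9.GolayQR4 Cfsg.Agent.Lib.Helper9.GolayQR5 Cfsg.Agent.Lib.Helper9.GolayQR6
  Cfsg.Agent.Lib.Helper9.GolayQR7 Cfsg.Agent.Lib.Helper9.GolayG5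
  Cfsg.Agent.Lib.Helper9.GolaySextet1 Cfsg.Agent.Lib.Helper9.GolayTrio1
  Cfsg.Agent.Lib.Helper9.M24S1 Cfsg.Agent.Lib.Helper9.M24T6 Cfsg.Agent.Lib.Helper9.M24T9
  Cfsg.Agent.Lib.Helper9.M24T10 Cfsg.Agent.Lib.Helper9.M24T11 Cfsg.Agent.Lib.Helper9.M24X1
  Cfsg.Agent.Lib.Helper9.M24X10 Cfsg.Agent.Lib.Helper9.M24Y4 Cfsg.Agent.Lib.Helper9.M24F5
  Cfsg.Agent.Lib.Helper9.M24F7 Cfsg.Agent.Lib.Helper9.M24N1 Cfsg.Agent.Lib.Helper9.M24P1
open scoped Pointwise

/-- a subgroup of `M24` with no small invariant sets and no invariant sextet -/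
structure Good (H : Subgroup (Equiv.Perm GolayPt)) : Prop where
  le : H ≤ M24
  pts : ∀ p : GolayPt, ∀ t : Finset GolayPt, t.card ≤ 3 → ∃ h ∈ H, h p ∉ t
  sx : ∀ S ∈ sextets, ∃ h ∈ H, h • S ≠ S

theorem good_move (H : Subgroup (Equiv.Perm GolayPt)) (hH : Good H) (s : Finset GolayPt)
    (h1 : 1 ≤ s.card) (h4 : s.card ≤ 4) :
    ∃ σ ∈ H, σ • s ≠ s ∧ (s.card = 4 → σ • s ∉ sextetOf s) := by
  by_cases hc : s.card = 4
  · obtain ⟨h, hh, hne⟩ := hH.sx (sextetOf s) (sextetOf_mem s hc)
    have key : h • s ∉ sextetOf s := by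
      intro hmem
      apply hne
      rw [smul_sextetOf h (hH.le hh) s hc]
      exact (sextet_eq (sextetOf s) (sextetOf_mem s hc) (h • s) hmem).symm
    refine ⟨h, hh, ?_, fun _ => key⟩
    intro e
    rw [e] at key
    exact key (sextetOf_struct s hc).1
  · obtain ⟨p, hp⟩ := Finset.card_pos.mp h1
    obtain ⟨h, hh, hhp⟩ := hH.pts p s (by omega)
    refine ⟨h, hh, ?_, fun h' => absurd h' hc⟩
    intro e
    apply hhp
    rw [← e]
    exact (smul_mem_iff h p s).mpr hp

theorem exists_move_of_orbit_card {G α : Type*} [Group G] [MulAction G α] (x : α)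
    (h : 1 < (MulAction.orbit G x).ncard) : ∃ g : G, g • x ≠ x := by
  by_contra hcon
  push Not at hcon
  have : MulAction.orbit G x = {x} := by
    ext y
    constructor
    · rintro ⟨g, rfl⟩
      exact hcon g
    · rintro rfl
      exact MulAction.mem_orbit_self _
  rw [this, Set.ncard_singleton] at h
  exact lt_irrefl _ h

theorem exists_notMem_small (A t : Finset GolayPt) (ht : t.card ≤ 3) (hA : 4 ≤ A.card) :
    ∃ q ∈ A, q ∉ t :=
  Finset.exists_mem_notMem_of_card_lt_card (by omega)

theorem good_M24 : Good M24 where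
  le := le_refl _
  pts := by
    intro p t ht
    obtain ⟨q, -, hq⟩ := exists_notMem_small univ t ht (by rw [card_univ, card_golayPt]; norm_num)
    obtain ⟨p', hp'⟩ := exists_ne p
    obtain ⟨q', hq'⟩ := exists_ne q
    obtain ⟨g, hg, hgp, -⟩ := exists_map_pair p p' q q' hp'.symm hq'.symm
    exact ⟨g, hg, by rw [hgp]; exact hq⟩
  sx := by
    intro S hS
    have h1 : 1 < (MulAction.orbit M24 S).ncard := by
      rw [orbit_sextet S hS, card_sextets]
      norm_num
    obtain ⟨g, hg⟩ := exists_move_of_orbit_card S h1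
    exact ⟨g.1, g.2, hg⟩

theorem good_octad (o : Finset GolayPt) (ho : o ∈ octads) : Good (stabF o) where
  le := inf_le_left
  pts := by
    intro p t ht
    by_cases hp : p ∈ o
    · obtain ⟨q, hq, hqt⟩ := exists_notMem_small o t ht (by rw [ho.2]; norm_num)
      obtain ⟨g, hg, hgp⟩ := octad_stab_trans1 o ho p q hp hq
      exact ⟨g, hg, by rw [hgp]; exact hqt⟩
    · obtain ⟨q, hq, hqt⟩ := exists_notMem_small oᶜ t ht (by
        rw [card_compl, card_golayPt, ho.2]; norm_num)
      obtain ⟨k, hk, hkp⟩ := fixS_trans o ho p q hp (mem_compl.mp hq)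
      exact ⟨k, fixS_le_stabF o hk, by rw [hkp]; exact hqt⟩
  sx := by
    intro S hS
    obtain ⟨-, Y₁, -, Y₂, -, Y₃, -, n1, n2, n3, hU⟩ :=
      Cfsg.Agent.Lib.Helper9.M24G3.octad_stab_trios_sextets o ho
    have h1 : 1 < (MulAction.orbit (MulAction.stabilizer M24 o) S).ncard := by
      rw [hU] at hS
      rcases hS with (h | h) | h
      · rw [MulAction.orbit_eq_iff.mpr h, n1]; norm_num
      · rw [MulAction.orbit_eq_iff.mpr h, n2]; norm_num
      · rw [MulAction.orbit_eq_iff.mpr h, n3]; norm_num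
    obtain ⟨k, hk⟩ := exists_move_of_orbit_card S h1
    exact ⟨k.1.1, (mem_stabF o _).mpr ⟨k.1.2, MulAction.mem_stabilizer_iff.mp k.2⟩, hk⟩

theorem stabF_compl (s : Finset GolayPt) : stabF sᶜ = stabF s := by
  ext g
  rw [mem_stabF, mem_stabF, smul_compl', compl_inj_iff]

theorem good_dodecad (d : Finset GolayPt) (hd : d ∈ dodecads) : Good (stabF d) where
  le := inf_le_left
  pts := by
    intro p t ht
    by_cases hp : p ∈ d
    · obtain ⟨q, hq, hqt⟩ := exists_notMem_small d t ht (by rw [hd.2]; norm_num)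
      obtain ⟨g, hg, hgp⟩ := transitive_on_dodecad d hd p q hp hq
      exact ⟨g, hg, by rw [hgp]; exact hqt⟩
    · have hd' := compl_mem_dodecads d hd
      obtain ⟨q, hq, hqt⟩ := exists_notMem_small dᶜ t ht (by rw [hd'.2]; norm_num)
      obtain ⟨g, hg, hgp⟩ := transitive_on_dodecad dᶜ hd' p q (mem_compl.mpr hp) hq
      rw [stabF_compl] at hg
      exact ⟨g, hg, by rw [hgp]; exact hqt⟩
  sx := by
    intro S hS
    by_contra hcon
    push Not at hcon
    obtain ⟨X₁, -, X₂, -, X₃, -, n1, n2, n3, hU⟩ :=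
      Cfsg.Agent.Lib.Helper9.M24G5.dodecad_pair_sextets d hd
    have h396 : 396 ≤ (MulAction.orbit (MulAction.stabilizer M24
        ({d, Finset.univ \ d} : Finset (Finset GolayPt))) S).ncard := by
      rw [hU] at hS
      rcases hS with (h | h) | h
      · rw [MulAction.orbit_eq_iff.mpr h, n1]
      · rw [MulAction.orbit_eq_iff.mpr h, n2]; norm_num
      · rw [MulAction.orbit_eq_iff.mpr h, n3]; norm_num
    -- the orbit has at most two elements
    have hcase : ∀ g : MulAction.stabilizer M24 ({d, Finset.univ \ d} : Finset (Finset GolayPt)),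
        (g.1.1 : Equiv.Perm GolayPt) • d = d ∨ (g.1.1 : Equiv.Perm GolayPt) • d = Finset.univ \ d := by
      intro g
      have h1 : (g.1.1 : Equiv.Perm GolayPt) • ({d, Finset.univ \ d} : Finset (Finset GolayPt))
          = {d, Finset.univ \ d} := MulAction.mem_stabilizer_iff.mp g.2
      have h2 : (g.1.1 : Equiv.Perm GolayPt) • d ∈
          (g.1.1 : Equiv.Perm GolayPt) • ({d, Finset.univ \ d} : Finset (Finset GolayPt)) :=
        Finset.smul_mem_smul_finset (mem_insert_self _ _)
      rw [h1, mem_insert, mem_singleton] at h2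
      exact h2
    have hfixd : ∀ g : MulAction.stabilizer M24 ({d, Finset.univ \ d} : Finset (Finset GolayPt)),
        (g.1.1 : Equiv.Perm GolayPt) • d = d → g • S = S := by
      intro g hg
      exact hcon g.1.1 ((mem_stabF d _).mpr ⟨g.1.2, hg⟩)
    obtain ⟨X, hX⟩ : ∃ X : Finset (Finset GolayPt),
        MulAction.orbit (MulAction.stabilizer M24
          ({d, Finset.univ \ d} : Finset (Finset GolayPt))) S ⊆ {S, X} := by
      by_cases hex : ∃ g₀ : MulAction.stabilizer M24
          ({d, Finset.univ \ d} : Finset (Finset GolayPt)), (g₀.1.1 : Equiv.Perm GolayPt) • d ≠ d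
      · obtain ⟨g₀, hg₀⟩ := hex
        refine ⟨g₀ • S, ?_⟩
        rintro _ ⟨g, rfl⟩
        by_cases hg : (g.1.1 : Equiv.Perm GolayPt) • d = d
        · left
          exact hfixd g hg
        · right
          have e1 := (hcase g).resolve_left hg
          have e0 := (hcase g₀).resolve_left hg₀
          have h3 : ((g₀⁻¹ * g).1.1 : Equiv.Perm GolayPt) • d = d := by
            change ((g₀.1.1 : Equiv.Perm GolayPt)⁻¹ * g.1.1) • d = d
            rw [mul_smul, e1, inv_smul_eq_iff]
            exact e0.symm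
          have h4 := hfixd (g₀⁻¹ * g) h3
          rw [mul_smul, inv_smul_eq_iff] at h4
          exact h4
      · push Not at hex
        refine ⟨S, ?_⟩
        rintro _ ⟨g, rfl⟩
        left
        exact hfixd g (hex g)
    have hle := Set.ncard_le_ncard hX (Set.toFinite _)
    have h2 : ({S, X} : Set (Finset (Finset GolayPt))).ncard ≤ 2 := by
      have := Set.ncard_insert_le S ({X} : Set (Finset (Finset GolayPt)))
      rw [Set.ncard_singleton] at this
      exact this
    omega

theorem stabF_empty : stabF (∅ : Finset GolayPt) = M24 := by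
  ext g
  rw [mem_stabF, Finset.smul_finset_empty]
  simp

theorem stabF_univ : stabF (univ : Finset GolayPt) = M24 := by
  ext g
  rw [mem_stabF, Finset.smul_finset_univ]
  simp

theorem good_of_code (u : GolayPt → ZMod 2) (hu : u ∈ golayCode) : Good (stabF (supp u)) := by
  rcases weight_values u hu with h | h | h | h | h
  · have : supp u = ∅ := by rw [← card_eq_zero, ← wt_eq, h]
    rw [this, stabF_empty]
    exact good_M24
  · exact good_octad _ (word_octad u hu h)
  · exact good_dodecad _ ⟨⟨u, hu, (supp_eq_support₂ u).symm⟩, by rw [← wt_eq]; exact h⟩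
  · rw [← stabF_compl, ← supp_add_one]
    apply good_octad
    apply word_octad _ (golayCode.add_mem hu one_mem)
    have := wt_add_one u
    omega
  · have : supp u = univ := by
      apply Finset.eq_univ_of_card
      rw [← wt_eq, h, card_golayPt]
    rw [this, stabF_univ]
    exact good_M24

theorem act_mem (σ : Equiv.Perm GolayPt) (hσ : σ ∈ M24) (c : GolayPt → ZMod 2)
    (hc : c ∈ golayCode) : act σ c ∈ golayCode := by
  have hσ' : σ • supports (golayCode : Set (GolayPt → ZMod 2))
      = supports (golayCode : Set (GolayPt → ZMod 2)) := MulAction.mem_stabilizer_iff.mp hσ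
  have h1 : σ • supp c ∈ supports (golayCode : Set (GolayPt → ZMod 2)) := by
    rw [← hσ']
    exact Set.smul_mem_smul_set ⟨c, hc, (supp_eq_support₂ c).symm⟩
  obtain ⟨c', hc', hcc'⟩ := h1
  have : act σ c = c' := by
    rw [← supp_eq_iff, supp_act, supp_eq_support₂ c', hcc']
  rw [this]
  exact hc'

theorem main (u : GolayPt → ZMod 2) (hu : u ∈ golayCode) (w : GolayPt → ZMod 2)
    (hw : w ∉ golayCode) :
    ∃ σ ∈ M24, (fun p => u (σ.symm p)) = u ∧ (fun p => w (σ.symm p)) - w ∉ golayCode := by
  have hH : Good (stabF (supp u)) := good_of_code u hu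
  obtain ⟨v, hv4, hwv⟩ : ∃ v : GolayPt → ZMod 2, hammingNorm v ≤ 4 ∧ w - v ∈ golayCode := by
    rcases coset_reps w with ⟨-, v, hv, h⟩ | ⟨h6, -⟩
    · exact ⟨v, by omega, h⟩
    · have hne : {v : GolayPt → ZMod 2 | hammingNorm v ≤ 4 ∧ w - v ∈ golayCode}.Nonempty := by
        apply Set.nonempty_of_ncard_ne_zero
        rw [h6]
        norm_num
      obtain ⟨v, hv⟩ := hne
      exact ⟨v, hv.1, hv.2⟩
  have hv0 : v ≠ 0 := by
    rintro rfl
    apply hw
    simpa using hwv
  have hs1 : 1 ≤ (supp v).card := by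
    rw [← wt_eq]
    exact Nat.one_le_iff_ne_zero.mpr (fun h => hv0 (hammingNorm_eq_zero.mp h))
  obtain ⟨σ, hσ, hne, h4⟩ := good_move _ hH (supp v) hs1 (by rw [← wt_eq]; exact hv4)
  have hσM := (mem_stabF _ σ).mp hσ
  refine ⟨σ, hσM.1, ?_, ?_⟩
  · change act σ u = u
    rw [← supp_eq_iff, supp_act, hσM.2]
  · change act σ w - w ∉ golayCode
    intro hin
    have hsub : ∀ a b : ZMod 2, a - b = a + b := by decide
    have hx : act σ v + v ∈ golayCode := by
      have h1 : act σ (w - v) ∈ golayCode := act_mem σ hσM.1 _ hwv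
      have h2 : act σ w - w - (act σ (w - v) - (w - v)) ∈ golayCode :=
        golayCode.sub_mem hin (golayCode.sub_mem h1 hwv)
      have e : act σ w - w - (act σ (w - v) - (w - v)) = act σ v + v := by
        funext p
        simp only [act, Pi.sub_apply, Pi.add_apply]
        rw [← hsub (v (σ.symm p)) (v p)]
        ring
      rw [e] at h2
      exact h2
    have hwx := wt_add (act σ v) v
    rw [wt_act] at hwx
    rcases weight_values _ hx with h | h | h | h | h
    · have h0 : act σ v + v = 0 := hammingNorm_eq_zero.mp h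
      have e : act σ v = v := by
        have := congrArg (fun x => x + v) h0
        simp only [add_assoc, add_self', add_zero, zero_add] at this
        exact this
      apply hne
      rw [← supp_act, e]
    · have hv4' : hammingNorm v = 4 := by omega
      have hdisj : (supp (act σ v) ∩ supp v).card = 0 := by omega
      have hd : Disjoint (supp (act σ v)) (supp v) := by
        rw [disjoint_iff_inter_eq_empty, ← card_eq_zero]
        exact hdisj
      apply h4 (by rw [← wt_eq]; exact hv4')
      have hoct : supp (act σ v + v) ∈ octads := word_octad _ hx h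
      have hsub' : supp v ⊆ supp (act σ v + v) := by
        rw [supp_add_of_disjoint _ _ hd]
        exact subset_union_right
      have hmem := sdiff_mem_sextetOf (supp v) (by rw [← wt_eq]; exact hv4') _ hoct hsub'
      rw [supp_add_of_disjoint _ _ hd, union_sdiff_right, sdiff_eq_self_of_disjoint hd,
        supp_act] at hmem
      exact hmem
    · omega
    · omega
    · omega

end Cfsg.Agent.Lib.Helper9.M24P7
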