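import Cfsg.Agent.Lib.Helper9.M24P7
import Cfsg.Agent.Lib.Helper9.M24Y1

set_option autoImplicit false

namespace Cfsg.Agent.Lib.Helper9.M24P8

open Cfsg Finset Cfsg.Agent.Lib.Helper9.Golay1 Cfsg.Agent.Lib.Helper9.GolayQR1
  Cfsg.Agent.Lib.Helper9.GolayQR4 Cfsg.Agent.Lib.Helper9.GolayQR5 Cfsg.Agent.Lib.Helper9.GolayQR6
  Cfsg.Agent.Lib.Helper9.GolayQR7 Cfsg.Agent.Lib.Helper9.GolayG5
  Cfsg.Agent.Lib.Helper9.GolayTrio1 Cfsg.Agent.Lib.Helper9.Steiner4
  Cfsg.Agent.Lib.Helper9.M24T6 Cfsg.Agent.Lib.Helper9.M24T9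
  Cfsg.Agent.Lib.Helper9.M24T10 Cfsg.Agent.Lib.Helper9.M24X1
  Cfsg.Agent.Lib.Helper9.M24X10 Cfsg.Agent.Lib.Helper9.M24Y1 Cfsg.Agent.Lib.Helper9.M24W2
  Cfsg.Agent.Lib.Helper9.M24N1 Cfsg.Agent.Lib.Helper9.M24P1 Cfsg.Agent.Lib.Helper9.M24P7
open scoped Pointwise

/-- invariance of a subspace of the word space -/
def Inv (W : Submodule (ZMod 2) (GolayPt → ZMod 2)) : Prop :=
  ∀ σ ∈ M24, ∀ w ∈ W, (fun p => w (σ.symm p)) ∈ W

theorem inv_act (W : Submodule (ZMod 2) (GolayPt → ZMod 2)) (h : Inv W) (σ : Equiv.Perm GolayPt)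
    (hσ : σ ∈ M24) (w : GolayPt → ZMod 2) (hw : w ∈ W) : act σ w ∈ W := h σ hσ w hw

theorem act_ind (σ : Equiv.Perm GolayPt) (s : Finset GolayPt) : act σ (ind s) = ind (σ • s) := by
  rw [← supp_eq_iff, supp_act, supp_ind, supp_ind]

theorem code_le_of_wt8 (W : Submodule (ZMod 2) (GolayPt → ZMod 2)) (hinv : Inv W)
    (c : GolayPt → ZMod 2) (hcW : c ∈ W) (hcC : c ∈ golayCode) (h8 : hammingNorm c = 8) :
    golayCode ≤ W := by
  rw [← Cfsg.Agent.Lib.Helper9.GolayG4.span_octads card_golayPt golayCode finrank_golayCode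
    min_weight, Submodule.span_le]
  rintro v ⟨hvC, hv8⟩
  obtain ⟨σ, hσ, hσo⟩ := octad_transitive (supp c) (supp v) (word_octad c hcC h8)
    (word_octad v hvC hv8)
  have : act σ c = v := by
    rw [← supp_eq_iff, supp_act, hσo]
  rw [SetLike.mem_coe, ← this]
  exact inv_act W hinv σ hσ c hcW

theorem wt8_of_wt12 (W : Submodule (ZMod 2) (GolayPt → ZMod 2)) (hinv : Inv W)
    (c : GolayPt → ZMod 2) (hcW : c ∈ W) (hcC : c ∈ golayCode) (h12 : hammingNorm c = 12) :
    ∃ c' ∈ W, c' ∈ golayCode ∧ hammingNorm c' = 8 := by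
  have hd : supp c ∈ dodecads :=
    ⟨⟨c, hcC, (supp_eq_support₂ c).symm⟩, by rw [← wt_eq]; exact h12⟩
  have hcnt := (dodecad_meet_counts (supp c) hd).2.2
  have hne : {d' : Finset GolayPt | d' ∈ dodecads ∧ (supp c ∩ d').card = 8}.Nonempty := by
    apply Set.nonempty_of_ncard_ne_zero
    rw [hcnt]
    norm_num
  obtain ⟨d', hd', h8⟩ := hne
  obtain ⟨σ, hσ, hσd⟩ := dodecad_transitive (supp c) d' hd hd'
  refine ⟨c + act σ c, W.add_mem hcW (inv_act W hinv σ hσ c hcW),
    golayCode.add_mem hcC (act_mem σ hσ c hcC), ?_⟩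
  have := wt_add c (act σ c)
  rw [supp_act, hσd, h8, wt_act, h12] at this
  omega

theorem wt8_of_wt16 (W : Submodule (ZMod 2) (GolayPt → ZMod 2)) (hinv : Inv W)
    (c : GolayPt → ZMod 2) (hcW : c ∈ W) (hcC : c ∈ golayCode) (h16 : hammingNorm c = 16) :
    ∃ c' ∈ W, c' ∈ golayCode ∧ hammingNorm c' = 8 := by
  classical
  have hx8 : hammingNorm (c + 1) = 8 := by
    have := wt_add_one c
    omega
  have hxC : c + 1 ∈ golayCode := golayCode.add_mem hcC one_mem
  have ho : supp (c + 1) ∈ octads := word_octad _ hxC hx8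
  obtain ⟨Bf, hBf⟩ := Cfsg.Agent.Lib.Helper9.GolayQR8.exists_octads_finset
  have hBmem : ∀ b, b ∈ Bf ↔ b ∈ octads := fun b => by rw [← hBf]; exact Iff.rfl
  have hB : IsSteinerSystem 5 8 (Bf : Set (Finset GolayPt)) := by
    rw [hBf]; exact octads_isSteiner
  obtain ⟨-, -, -, -, n4⟩ := inter_distribution card_golayPt Bf hB _ ((hBmem _).mpr ho)
  have hne : (Bf.filter (fun x => (x ∩ supp (c + 1)).card = 4)).Nonempty := by
    rw [← Finset.card_pos, n4]
    norm_num
  obtain ⟨o', ho'⟩ := hne
  rw [mem_filter, hBmem] at ho'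
  obtain ⟨σ, hσ, hσo⟩ := octad_transitive _ o' ho ho'.1
  refine ⟨c + act σ c, W.add_mem hcW (inv_act W hinv σ hσ c hcW),
    golayCode.add_mem hcC (act_mem σ hσ c hcC), ?_⟩
  have e : c + act σ c = (c + 1) + act σ (c + 1) := by
    funext p
    change c p + c (σ.symm p) = (c p + 1) + (c (σ.symm p) + 1)
    have h2 : (1 : ZMod 2) + 1 = 0 := by decide
    linear_combination -h2
  rw [e]
  have := wt_add (c + 1) (act σ (c + 1))
  rw [supp_act, hσo, inter_comm, ho'.2, wt_act, hx8] at this
  omega

/-- the invariant subspaces of the code -/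
theorem inv_le_code (W : Submodule (ZMod 2) (GolayPt → ZMod 2)) (hinv : Inv W)
    (hle : W ≤ golayCode) :
    W = ⊥ ∨ W = Submodule.span (ZMod 2) {fun _ => (1 : ZMod 2)} ∨ W = golayCode := by
  by_cases h1 : (fun _ => (1 : ZMod 2)) ∈ W
  · right
    exact Cfsg.Agent.Lib.Helper9.M24N1.main.2 W h1 hle hinv
  · left
    rw [eq_bot_iff]
    intro w hwW
    rw [Submodule.mem_bot]
    by_contra hw0
    have hwC := hle hwW
    have h8 : ∃ c ∈ W, c ∈ golayCode ∧ hammingNorm c = 8 := by
      rcases weight_values w hwC with h | h | h | h | h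
      · exact absurd (hammingNorm_eq_zero.mp h) hw0
      · exact ⟨w, hwW, hwC, h⟩
      · exact wt8_of_wt12 W hinv w hwW hwC h
      · exact wt8_of_wt16 W hinv w hwW hwC h
      · exfalso
        apply h1
        have hs : supp w = univ := by
          apply Finset.eq_univ_of_card
          rw [← wt_eq, h, card_golayPt]
        have hw1 : w = fun _ => (1 : ZMod 2) := by
          funext p
          have hp : p ∈ supp w := by
            rw [hs]
            exact mem_univ p
          rcases zmod2_cases (w p) with h0 | h1'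
          · exact absurd h0 (mem_supp.mp hp)
          · exact h1'
        rw [← hw1]
        exact hwW
    obtain ⟨c, hcW, hcC, hc8⟩ := h8
    exact h1 (code_le_of_wt8 W hinv c hcW hcC hc8 one_mem)

/-- an invariant subspace containing a non-zero word of weight at most four contains all
words of weight two -/
theorem pairs_of_small (W : Submodule (ZMod 2) (GolayPt → ZMod 2)) (hinv : Inv W)
    (x : GolayPt → ZMod 2) (hxW : x ∈ W) (h1 : 1 ≤ hammingNorm x) (h4 : hammingNorm x ≤ 4) :
    ∀ p q : GolayPt, p ≠ q → ind {p, q} ∈ W := by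
  rw [wt_eq] at h1 h4
  obtain ⟨a, ha⟩ : ∃ a, a ∈ supp x := Finset.card_pos.mp h1
  obtain ⟨z, -, hz⟩ : ∃ z ∈ (univ : Finset GolayPt), z ∉ supp x :=
    Finset.exists_mem_notMem_of_card_lt_card (by rw [card_univ, card_golayPt]; omega)
  have haz : a ≠ z := fun h => hz (h ▸ ha)
  obtain ⟨s', hs'⟩ : ∃ s', s' = insert z ((supp x).erase a) := ⟨_, rfl⟩
  have hcard : s'.card = (supp x).card := by
    rw [hs', card_insert_of_notMem (fun h => hz (mem_of_mem_erase h)), card_erase_of_mem ha]
    omega
  have horb : s' ∈ MulAction.orbit M24 (supp x) := by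
    rw [Cfsg.Agent.Lib.Helper9.M24Y1.orbit_subset _ (by omega)]
    exact hcard
  obtain ⟨g, hg⟩ := horb
  have hg' : (g.1 : Equiv.Perm GolayPt) • supp x = s' := hg
  have h2 : act g.1 x = ind s' := by
    rw [← supp_eq_iff, supp_act, supp_ind]
    exact hg'
  have hpair : ind {a, z} ∈ W := by
    have hsum := W.add_mem hxW (inv_act W hinv g.1 g.2 x hxW)
    have e : x + act g.1 x = ind {a, z} := by
      rw [h2, ← supp_eq_iff, supp_add, supp_ind, supp_ind, hs']
      ext y
      simp only [Finset.mem_symmDiff, mem_insert, mem_erase, mem_singleton]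
      constructor
      · rintro (⟨h1, h2⟩ | ⟨h1, h2⟩)
        · left
          by_contra hya
          exact h2 (Or.inr ⟨hya, h1⟩)
        · rcases h1 with rfl | ⟨_, h1⟩
          · right; rfl
          · exact absurd h1 h2
      · rintro (rfl | rfl)
        · left
          refine ⟨ha, fun h => ?_⟩
          rcases h with h | ⟨h, _⟩
          · exact haz h
          · exact h rfl
        · right
          exact ⟨Or.inl rfl, hz⟩
    rwa [e] at hsum
  intro p q hpq
  obtain ⟨g, hg, hgl⟩ := exists_map_list [a, z] [p, q] (by simp [haz]) (by simp [hpq]) rfl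
    (by norm_num)
  simp only [List.map_cons, List.map_nil, List.cons.injEq, and_true] at hgl
  have := inv_act W hinv g hg _ hpair
  rw [act_ind, smul_pair, hgl.1, hgl.2] at this
  exact this

theorem ind_insert (p : GolayPt) (s : Finset GolayPt) (hp : p ∉ s) :
    ind (insert p s) = ind s + ind {p} := by
  rw [← supp_eq_iff, supp_add, supp_ind, supp_ind, supp_ind]
  ext y
  simp only [Finset.mem_symmDiff, mem_insert, mem_singleton]
  constructor
  · rintro (rfl | h)
    · right; exact ⟨rfl, hp⟩
    · left; exact ⟨h, fun e => hp (e ▸ h)⟩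
  · rintro (⟨h1, _⟩ | ⟨h1, _⟩)
    · right; exact h1
    · left; exact h1

theorem ind_pair (p b : GolayPt) (hpb : p ≠ b) :
    ind ({p, b} : Finset GolayPt) = ind {p} + ind {b} := by
  rw [ind_insert p {b} (by rw [mem_singleton]; exact hpb), add_comm]

theorem key_ind (W : Submodule (ZMod 2) (GolayPt → ZMod 2))
    (hp : ∀ p q : GolayPt, p ≠ q → ind {p, q} ∈ W) (b : GolayPt) :
    ∀ s : Finset GolayPt, (Even s.card → ind s ∈ W) ∧ (Odd s.card → ind s + ind {b} ∈ W) := by
  intro s
  induction s using Finset.induction_on with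
  | empty =>
    refine ⟨fun _ => ?_, fun h => ?_⟩
    · have : ind (∅ : Finset GolayPt) = 0 := by
        rw [← supp_eq_iff, supp_ind]
        ext y
        simp [mem_supp]
      rw [this]
      exact W.zero_mem
    · simp at h
  | insert p s hps ih =>
    rw [card_insert_of_notMem hps, ind_insert p s hps]
    refine ⟨fun h => ?_, fun h => ?_⟩
    · have hodd : Odd s.card := by
        rcases Nat.even_or_odd s.card with h' | h'
        · exact absurd h (by rw [Nat.even_add_one]; exact not_not.mpr h')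
        · exact h'
      have h1 := ih.2 hodd
      by_cases hpb : p = b
      · rw [hpb]; exact h1
      · have h2 := W.add_mem h1 (hp p b hpb)
        have e : ind s + ind {b} + ind {p, b} = ind s + ind {p} := by
          rw [ind_pair p b hpb]
          funext y
          simp only [Pi.add_apply]
          have h2 : ∀ t : ZMod 2, t + t = 0 := by decide
          linear_combination h2 (ind {b} y)
        rwa [e] at h2
    · have heven : Even s.card := by
        rcases Nat.even_or_odd s.card with h' | h'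
        · exact h'
        · exact absurd h (by rw [Nat.odd_add_one]; exact not_not.mpr h')
      have h1 := ih.1 heven
      by_cases hpb : p = b
      · have e : ind s + ind {p} + ind {b} = ind s := by
          rw [hpb]
          funext y
          simp only [Pi.add_apply]
          have h2 : ∀ t : ZMod 2, t + t = 0 := by decide
          linear_combination h2 (ind {b} y)
        rw [e]; exact h1
      · have h2 := W.add_mem h1 (hp p b hpb)
        rw [ind_pair p b hpb, ← add_assoc] at h2
        exact h2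

theorem sum_eq_card (w : GolayPt → ZMod 2) : ∑ p, w p = ((supp w).card : ZMod 2) := by
  have : ∀ p, w p = if w p ≠ 0 then (1 : ZMod 2) else 0 := by
    intro p
    rcases zmod2_cases (w p) with h | h <;> rw [h] <;> simp
  rw [Finset.sum_congr rfl (fun p _ => this p), Finset.sum_boole]
  rfl

theorem even_or_top (W : Submodule (ZMod 2) (GolayPt → ZMod 2))
    (hp : ∀ p q : GolayPt, p ≠ q → ind {p, q} ∈ W) :
    (W : Set (GolayPt → ZMod 2)) = {w | ∑ p, w p = 0} ∨ W = ⊤ := by
  have key := key_ind W hp none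
  have hev : ∀ w : GolayPt → ZMod 2, (∑ p, w p = 0 ↔ Even (supp w).card) := by
    intro w
    rw [sum_eq_card, ZMod.natCast_eq_zero_iff, even_iff_two_dvd]
  by_cases hb : ind {(none : GolayPt)} ∈ W
  · right
    rw [eq_top_iff]
    intro w _
    rcases Nat.even_or_odd (supp w).card with h | h
    · have := (key (supp w)).1 h
      rwa [ind_supp] at this
    · have := W.add_mem ((key (supp w)).2 h) hb
      rw [ind_supp, add_assoc, add_self', add_zero] at this
      exact this
  · left
    ext w
    rw [SetLike.mem_coe, Set.mem_ofPred_eq, hev]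
    constructor
    · intro hw
      rcases Nat.even_or_odd (supp w).card with h | h
      · exact h
      · exfalso
        apply hb
        have := W.add_mem ((key (supp w)).2 h) hw
        rw [ind_supp, add_comm w, add_assoc, add_self', add_zero] at this
        exact this
    · intro h
      have := (key (supp w)).1 h
      rwa [ind_supp] at this

theorem inv_sup (W : Submodule (ZMod 2) (GolayPt → ZMod 2)) (hinv : Inv W) :
    Inv (W ⊔ golayCode) := by
  intro σ hσ x hx
  obtain ⟨a, ha, b, hb, rfl⟩ := Submodule.mem_sup.mp hx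
  exact Submodule.mem_sup.mpr ⟨act σ a, inv_act W hinv σ hσ a ha, act σ b, act_mem σ hσ b hb, rfl⟩

theorem inv_inf (W : Submodule (ZMod 2) (GolayPt → ZMod 2)) (hinv : Inv W) :
    Inv (W ⊓ golayCode) := by
  intro σ hσ x hx
  exact ⟨inv_act W hinv σ hσ x hx.1, act_mem σ hσ x hx.2⟩

/-- a codeword whose images under the stabilizer of two points differ from it by a multiple of
the all-ones word is zero or the all-ones word -/
theorem code_fixed (p q : GolayPt) (hpq : p ≠ q) (c : GolayPt → ZMod 2) (hc : c ∈ golayCode)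
    (h : ∀ σ ∈ M24, σ p = p → σ q = q → act σ c + c = 0 ∨ act σ c + c = 1) :
    c = 0 ∨ c = 1 := by
  rcases weight_values c hc with h0 | hw
  · left; exact hammingNorm_eq_zero.mp h0
  by_cases h24 : hammingNorm c = 24
  · right
    have hs : supp c = univ := by
      apply Finset.eq_univ_of_card
      rw [← wt_eq, h24, card_golayPt]
    funext y
    have hy : y ∈ supp c := by rw [hs]; exact mem_univ y
    rcases zmod2_cases (c y) with h0 | h1
    · exact absurd h0 (mem_supp.mp hy)
    · exact h1
  exfalso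
  have hlo : 8 ≤ (supp c).card := by rw [← wt_eq]; omega
  have hhi : (supp c).card ≤ 16 := by rw [← wt_eq]; omega
  -- three points of the support and two outside, away from p and q
  obtain ⟨A, hA⟩ : ∃ A, A = supp c \ {p, q} := ⟨_, rfl⟩
  obtain ⟨B, hB⟩ : ∃ B, B = (supp c)ᶜ \ {p, q} := ⟨_, rfl⟩
  have hpq2 : ({p, q} : Finset GolayPt).card ≤ 2 := Finset.card_le_two
  have hA6 : 3 ≤ A.card := by
    have := Finset.le_card_sdiff ({p, q} : Finset GolayPt) (supp c)
    rw [hA]; omega
  have hB6 : 2 ≤ B.card := by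
    have := Finset.le_card_sdiff ({p, q} : Finset GolayPt) (supp c)ᶜ
    rw [card_compl, card_golayPt] at this
    rw [hB]; omega
  obtain ⟨A', hA', hA'3⟩ := exists_subset_card_eq hA6
  obtain ⟨x₁, x₂, x₃, h12, h13, h23, rfl⟩ := Finset.card_eq_three.mp hA'3
  obtain ⟨B', hB', hB'2⟩ := exists_subset_card_eq hB6
  obtain ⟨z₁, z₂, hz12, rfl⟩ := Finset.card_eq_two.mp hB'2
  have hx : ∀ x ∈ ({x₁, x₂, x₃} : Finset GolayPt), x ∈ supp c ∧ x ≠ p ∧ x ≠ q := by
    intro x hx
    have := hA' hx
    rw [hA, mem_sdiff, mem_insert, mem_singleton, not_or] at this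
    exact ⟨this.1, this.2.1, this.2.2⟩
  have hz : ∀ z ∈ ({z₁, z₂} : Finset GolayPt), z ∉ supp c ∧ z ≠ p ∧ z ≠ q := by
    intro z hz
    have := hB' hz
    rw [hB, mem_sdiff, mem_compl, mem_insert, mem_singleton, not_or] at this
    exact ⟨this.1, this.2.1, this.2.2⟩
  have hx1 := hx x₁ (by simp)
  have hx2 := hx x₂ (by simp)
  have hx3 := hx x₃ (by simp)
  have hz1 := hz z₁ (by simp)
  have hz2 := hz z₂ (by simp)
  have hx1z1 : x₁ ≠ z₁ := fun e => hz1.1 (e ▸ hx1.1)
  have hx1z2 : x₁ ≠ z₂ := fun e => hz2.1 (e ▸ hx1.1)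
  obtain ⟨σ, hσ, hσl⟩ := exists_map_list [p, q, x₁, x₂, x₃] [p, q, x₁, z₁, z₂]
    (by
      simp only [List.nodup_cons, List.mem_cons, List.not_mem_nil, or_false, not_or,
        List.nodup_nil, and_true, not_false_eq_true]
      exact ⟨⟨hpq, hx1.2.1.symm, hx2.2.1.symm, hx3.2.1.symm⟩,
        ⟨hx1.2.2.symm, hx2.2.2.symm, hx3.2.2.symm⟩, ⟨h12, h13⟩, h23⟩)
    (by
      simp only [List.nodup_cons, List.mem_cons, List.not_mem_nil, or_false, not_or,
        List.nodup_nil, and_true, not_false_eq_true]
      exact ⟨⟨hpq, hx1.2.1.symm, hz1.2.1.symm, hz2.2.1.symm⟩,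
        ⟨hx1.2.2.symm, hz1.2.2.symm, hz2.2.2.symm⟩, ⟨hx1z1, hx1z2⟩, hz12⟩)
    rfl (by norm_num)
  simp only [List.map_cons, List.map_nil, List.cons.injEq, and_true] at hσl
  obtain ⟨hσp, hσq, hσ1, hσ2, -⟩ := hσl
  have hm1 : x₁ ∈ supp (act σ c) := by
    rw [supp_act, ← hσ1]
    exact (smul_mem_iff σ x₁ _).mpr hx1.1
  have hm2 : z₁ ∈ supp (act σ c) := by
    rw [supp_act, ← hσ2]
    exact (smul_mem_iff σ x₂ _).mpr hx2.1
  rcases h σ hσ hσp hσq with h0 | h1
  · have e : act σ c = c := by
      have := congrArg (fun x => x + c) h0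
      simp only [add_assoc, add_self', add_zero, zero_add] at this
      exact this
    rw [e] at hm2
    exact hz1.1 hm2
  · have e : act σ c = c + 1 := by
      have := congrArg (fun x => x + c) h1
      simp only [add_assoc, add_self', add_zero] at this
      rw [this, add_comm]
    rw [e, supp_add_one, mem_compl] at hm1
    exact hm1 hx1.1

theorem pairs_of_not_le (W : Submodule (ZMod 2) (GolayPt → ZMod 2)) (hinv : Inv W)
    (hnle : ¬ W ≤ golayCode) : ∀ p q : GolayPt, p ≠ q → ind {p, q} ∈ W := by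
  obtain ⟨w, hwW, hwC⟩ := SetLike.not_le_iff_exists.mp hnle
  obtain ⟨v, hv4, hwv⟩ : ∃ v : GolayPt → ZMod 2, hammingNorm v ≤ 4 ∧ w - v ∈ golayCode := by
    rcases coset_reps w with ⟨-, v, hv, h⟩ | ⟨h6, -⟩
    · exact ⟨v, by omega, h⟩
    · have hne : {v : GolayPt → ZMod 2 | hammingNorm v ≤ 4 ∧ w - v ∈ golayCode}.Nonempty := by
        apply Set.nonempty_of_ncard_ne_zero
        rw [h6]
        norm_num
      obtain ⟨v, hv⟩ := hne
      exact ⟨v, hv.1, hv.2⟩
  have hv0 : v ≠ 0 := by
    rintro rfl
    apply hwC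
    simpa using hwv
  have hv1 : 1 ≤ hammingNorm v :=
    Nat.one_le_iff_ne_zero.mpr (fun h => hv0 (hammingNorm_eq_zero.mp h))
  have hvS : v ∈ W ⊔ golayCode := by
    have : v = w - (w - v) := by abel
    rw [this]
    exact Submodule.sub_mem _ (Submodule.mem_sup_left hwW) (Submodule.mem_sup_right hwv)
  have hsup := pairs_of_small (W ⊔ golayCode) (inv_sup W hinv) v hvS hv1 hv4
  have hK := inv_le_code (W ⊓ golayCode) (inv_inf W hinv) inf_le_right
  -- a weight two word in W
  have key : ∀ p q : GolayPt, p ≠ q → ∃ a b : GolayPt, a ≠ b ∧ ind {a, b} ∈ W := by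
    intro p q hpq
    obtain ⟨w₁, hw₁, c, hc, hsum⟩ := Submodule.mem_sup.mp (hsup p q hpq)
    by_cases hKC : W ⊓ golayCode = golayCode
    · have hcW : c ∈ W := by
        have : c ∈ W ⊓ golayCode := by rw [hKC]; exact hc
        exact this.1
      refine ⟨p, q, hpq, ?_⟩
      rw [← hsum]
      exact W.add_mem hw₁ hcW
    · have hKle : W ⊓ golayCode ≤ Submodule.span (ZMod 2) {fun _ => (1 : ZMod 2)} := by
        rcases hK with h | h | h
        · rw [h]; exact bot_le
        · rw [h]
        · exact absurd h hKC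
      have hfix : ∀ σ ∈ M24, σ p = p → σ q = q → act σ c + c = 0 ∨ act σ c + c = 1 := by
        intro σ hσ hσp hσq
        have h1 : act σ (ind {p, q}) = ind {p, q} := by
          rw [act_ind, smul_pair, hσp, hσq]
        have h2 : act σ c + c = act σ w₁ + w₁ := by
          have e1 : act σ w₁ + act σ c = w₁ + c := by
            have : act σ (w₁ + c) = w₁ + c := by rw [hsum]; exact h1
            exact this
          funext y
          have e1y := congrFun e1 y
          simp only [Pi.add_apply] at e1y ⊢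
          have h2 : ∀ t : ZMod 2, t + t = 0 := by decide
          linear_combination e1y + h2 (c y) - h2 (act σ w₁ y)
        have h3 : act σ c + c ∈ W ⊓ golayCode := by
          refine ⟨?_, golayCode.add_mem (act_mem σ hσ c hc) hc⟩
          rw [h2]
          exact W.add_mem (inv_act W hinv σ hσ w₁ hw₁) hw₁
        obtain ⟨t, ht⟩ := Submodule.mem_span_singleton.mp (hKle h3)
        rcases zmod2_cases t with rfl | rfl
        · left; rw [← ht, zero_smul]
        · right; rw [← ht, one_smul]; rfl
      rcases code_fixed p q hpq c hc hfix with rfl | rfl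
      · refine ⟨p, q, hpq, ?_⟩
        rw [← hsum, add_zero]
        exact hw₁
      · -- w₁ = ind {p,q} + 1
        obtain ⟨q', -, hq'⟩ : ∃ q' ∈ (univ : Finset GolayPt), q' ∉ ({p, q} : Finset GolayPt) :=
          Finset.exists_mem_notMem_of_card_lt_card (by
            rw [card_univ, card_golayPt]
            exact lt_of_le_of_lt Finset.card_le_two (by norm_num))
        rw [mem_insert, mem_singleton, not_or] at hq'
        have hpq' : p ≠ q' := fun h => hq'.1 h.symm
        have hqq' : q ≠ q' := fun h => hq'.2 h.symm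
        obtain ⟨σ, hσ, hσp, hσq⟩ := exists_map_pair p q p q' hpq hpq'
        refine ⟨q, q', hqq', ?_⟩
        have hw₁' : w₁ = ind {p, q} + 1 := by
          rw [← hsum, add_assoc, add_self', add_zero]
        have h5 := W.add_mem (inv_act W hinv σ hσ w₁ hw₁) hw₁
        have e : act σ w₁ + w₁ = ind {q, q'} := by
          rw [hw₁']
          have : act σ (ind {p, q} + 1) = ind {p, q'} + 1 := by
            change act σ (ind {p, q}) + act σ 1 = _
            rw [act_ind, smul_pair, hσp, hσq]
            rfl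
          rw [this, ind_pair p q' hpq', ind_pair p q hpq, ind_pair q q' hqq']
          funext y
          simp only [Pi.add_apply, Pi.one_apply]
          have h2 : ∀ t : ZMod 2, t + t = 0 := by decide
          linear_combination h2 (ind {p} y) + h2 1
        rwa [e] at h5
  obtain ⟨a, b, hab, hW2⟩ := key none (some 0) (by decide)
  exact pairs_of_small W hinv (ind {a, b}) hW2
    (by rw [wt_ind, card_pair hab]; norm_num) (by rw [wt_ind, card_pair hab]; norm_num)

theorem main (W : Submodule (ZMod 2) (GolayPt → ZMod 2))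
    (hW : ∀ σ ∈ M24, ∀ w ∈ W, (fun p => w (σ.symm p)) ∈ W) :
    W = ⊥ ∨ W = Submodule.span (ZMod 2) {fun _ => (1 : ZMod 2)} ∨ W = golayCode ∨
      (W : Set (GolayPt → ZMod 2)) = {w | ∑ p, w p = 0} ∨ W = ⊤ := by
  by_cases hle : W ≤ golayCode
  · rcases inv_le_code W hW hle with h | h | h
    · exact Or.inl h
    · exact Or.inr (Or.inl h)
    · exact Or.inr (Or.inr (Or.inl h))
  · rcases even_or_top W (pairs_of_not_le W hW hle) with h | h
    · exact Or.inr (Or.inr (Or.inr (Or.inl h)))
    · exact Or.inr (Or.inr (Or.inr (Or.inr h)))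

end Cfsg.Agent.Lib.Helper9.M24P8
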