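import Cfsg.Agent.Lib.Helper9.M24Q1
import Cfsg.Agent.Lib.Helper9.SimpB

set_option autoImplicit false

/-! A simplicity criterion for subgroups of `M24` fixing a point. -/

namespace Cfsg.Agent.Lib.Helper9.M24Q2

open Cfsg Finset Cfsg.Agent.Lib.Helper9.M24H5 Cfsg.Agent.Lib.Helper9.M24Q1
  Cfsg.Agent.Lib.Helper9.SimpA Cfsg.Agent.Lib.Helper9.SimpB
open scoped Pointwise

/-- prime-order elements centralizing an element of order 11 or 23 -/
theorem cent_prime (H : Subgroup (Equiv.Perm GolayPt)) (hH : H ≤ M24) (a0 : GolayPt)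
    (hfix : ∀ h ∈ H, h a0 = a0) (p : ℕ) [hp : Fact p.Prime] (hp' : p = 11 ∨ p = 23)
    (h23 : p = 11 → ¬ 23 ∣ Nat.card H) (s c : ↥H) (hs : orderOf s = p)
    (hcomm : s * c = c * s) (r : ℕ) (hr : r.Prime) (hc : orderOf c = r) : r = p := by
  haveI : Fact r.Prime := ⟨hr⟩
  have hc1 : (c : Equiv.Perm GolayPt) ≠ 1 := by
    intro h
    have : c = 1 := Subtype.ext h
    rw [this, orderOf_one] at hc
    exact hr.one_lt.ne hc
  have hs' : orderOf (s : Equiv.Perm GolayPt) = p := by rw [Subgroup.orderOf_coe]; exact hs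
  have hc' : orderOf (c : Equiv.Perm GolayPt) = r := by rw [Subgroup.orderOf_coe]; exact hc
  have hsp : (s : Equiv.Perm GolayPt) ^ p = 1 := by rw [← hs']; exact pow_orderOf_eq_one _
  have hcr : (c : Equiv.Perm GolayPt) ^ r = 1 := by rw [← hc']; exact pow_orderOf_eq_one _
  have hcomm' : (s : Equiv.Perm GolayPt) * (c : Equiv.Perm GolayPt)
      = (c : Equiv.Perm GolayPt) * (s : Equiv.Perm GolayPt) := congrArg Subtype.val hcomm
  have hp8 : 8 < p := by rcases hp' with h | h <;> omega
  have hsub := fix_sub s.1 c.1 (hH c.2) hc1 hcomm' p hp8 hsp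
  have ha0 : a0 ∈ Fix c.1 := (mem_Fix _ _).mpr (hfix c.1 c.2)
  have hpos : 1 ≤ (Fix c.1).card := Finset.card_pos.mpr ⟨a0, ha0⟩
  have hle := Finset.card_le_card hsub
  have hmod := fix_mod c.1 r hcr
  have hrdvd : r ∣ Nat.card H := by rw [← hc]; exact orderOf_dvd_natCard c
  rcases hp' with hp11 | hp23
  · have hfs := fix_eleven s.1 (hH s.2) (by rw [hs', hp11])
    rw [hfs] at hle
    have hcases : (Fix c.1).card = 1 ∨ (Fix c.1).card = 2 := by omega
    rcases hcases with h1 | h2
    · rw [h1] at hmod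
      have hd : r ∣ 24 - 1 := (Nat.modEq_iff_dvd' (by norm_num)).mp hmod
      have : r = 23 := (Nat.prime_dvd_prime_iff_eq hr (by norm_num)).mp hd
      rw [this] at hrdvd
      exact absurd hrdvd (h23 hp11)
    · rw [h2] at hmod
      have hd : r ∣ 24 - 2 := (Nat.modEq_iff_dvd' (by norm_num)).mp hmod
      have hd' : r ∣ 2 * 11 := by norm_num at hd ⊢; exact hd
      rcases (Nat.Prime.dvd_mul hr).mp hd' with h | h
      · have hr2 : r = 2 := (Nat.prime_dvd_prime_iff_eq hr (by norm_num)).mp h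
        exfalso
        rcases invol_cases c.1 (hH c.2) (by rw [hc', hr2]) with ⟨-, -, -, -, h8⟩ | ⟨-, -, -, h0⟩
        · omega
        · rw [h0] at h2; simp at h2
      · rw [hp11]
        exact (Nat.prime_dvd_prime_iff_eq hr (by norm_num)).mp h
  · have hfs := fix_twentythree s.1 (hH s.2) (by rw [hs', hp23])
    rw [hfs] at hle
    have h1 : (Fix c.1).card = 1 := by omega
    rw [h1] at hmod
    have hd : r ∣ 24 - 1 := (Nat.modEq_iff_dvd' (by norm_num)).mp hmod
    rw [hp23]
    exact (Nat.prime_dvd_prime_iff_eq hr (by norm_num)).mp hd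

/-- the centralizer of an element of order `p` is a `p`-group -/
theorem cent_pgroup (H : Subgroup (Equiv.Perm GolayPt)) (hH : H ≤ M24) (a0 : GolayPt)
    (hfix : ∀ h ∈ H, h a0 = a0) (p : ℕ) [hp : Fact p.Prime] (hp' : p = 11 ∨ p = 23)
    (h23 : p = 11 → ¬ 23 ∣ Nat.card H) (s : ↥H) (hs : orderOf s = p) :
    IsPGroup p (Subgroup.centralizer ((Subgroup.zpowers s : Subgroup ↥H) : Set ↥H)) := by
  intro c
  have hcs : s * c.1 = c.1 * s := by
    have := Subgroup.mem_centralizer_iff.mp c.2 s (Subgroup.mem_zpowers s)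
    exact this
  have hfin : 0 < orderOf c.1 := orderOf_pos c.1
  have hpp : ∀ r : ℕ, r.Prime → r ∣ orderOf c.1 → r = p := by
    intro r hr hrd
    have hord : orderOf (c.1 ^ (orderOf c.1 / r)) = r := by
      rw [orderOf_pow' c.1 (by
        intro h0
        have := Nat.div_eq_zero_iff.mp h0
        rcases this with h | h
        · exact hr.ne_zero h
        · exact absurd (Nat.le_of_dvd hfin hrd) (by omega))]
      rw [Nat.gcd_eq_right (Nat.div_dvd_of_dvd hrd)]
      exact Nat.div_div_self hrd hfin.ne'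
    have hcomm2 : s * (c.1 ^ (orderOf c.1 / r)) = (c.1 ^ (orderOf c.1 / r)) * s :=
      (Commute.pow_right hcs _)
    exact cent_prime H hH a0 hfix p hp' h23 s _ hs hcomm2 r hr hord
  have hk : ∃ k, orderOf c.1 = p ^ k := by
    by_cases h1 : orderOf c.1 = 1
    · exact ⟨0, by rw [h1, pow_zero]⟩
    · exact ⟨(orderOf c.1).primeFactorsList.length,
        Nat.eq_prime_pow_of_unique_prime_dvd hfin.ne' (fun {d} hd hdd => hpp d hd hdd)⟩
  obtain ⟨k, hk⟩ := hk
  refine ⟨k, ?_⟩
  apply Subtype.ext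
  rw [Subgroup.coe_pow, ← hk]
  exact pow_orderOf_eq_one c.1

theorem simple_sub (H : Subgroup (Equiv.Perm GolayPt)) (hH : H ≤ M24) (a0 : GolayPt)
    (hfix : ∀ h ∈ H, h a0 = a0) (p q : ℕ) [hp : Fact p.Prime] (hq : q.Prime)
    (hp' : p = 11 ∨ p = 23) (X : Finset GolayPt) (h2 : TwoTrans H X) (hf : Faithful H X)
    (hpres : Pres H X) (hpX : p ∣ X.card) (hX : 2 ≤ X.card)
    (n : ℕ) (hn : Nat.card H = n) (hpn : p ∣ n) (hpn2 : ¬ p ^ 2 ∣ n) (h23 : p = 11 → ¬ 23 ∣ n)
    (hnum : ∀ e, e ∣ p - 1 → p * e ∣ n → (n / (p * e)) % p = 1 → e = q)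
    (hnpq : n ≠ p * q) : IsSimpleGroup H := by
  have hfinH : Finite H := inferInstance
  -- an element of order p
  obtain ⟨s, hs⟩ := exists_prime_orderOf_dvd_card' (G := ↥H) p (by rw [hn]; exact hpn)
  have hPcard : Nat.card (Subgroup.zpowers s) = p := by rw [Nat.card_zpowers, hs]
  have hPp : IsPGroup p (Subgroup.zpowers s) := IsPGroup.of_card (n := 1) (by rw [hPcard, pow_one])
  obtain ⟨Q, hQ⟩ := hPp.exists_le_sylow
  have hfact : (Nat.card H).factorization p = 1 := by
    have h1 : 1 ≤ (Nat.card H).factorization p :=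
      (hp.out.dvd_iff_one_le_factorization (Nat.card_pos.ne')).mp (by rw [hn]; exact hpn)
    have h2 : (Nat.card H).factorization p ≤ 1 := by
      by_contra hcon
      push Not at hcon
      have : p ^ 2 ∣ Nat.card H :=
        (hp.out.pow_dvd_iff_le_factorization (Nat.card_pos.ne')).mpr hcon
      rw [hn] at this
      exact hpn2 this
    omega
  have hQcard : Nat.card Q = p := by rw [Q.card_eq_multiplicity, hfact, pow_one]
  have hQeq : Subgroup.zpowers s = (Q : Subgroup ↥H) :=
    Subgroup.eq_of_le_of_card_ge hQ (by rw [hQcard, hPcard])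
  -- the centralizer has order p
  have hCp := cent_pgroup H hH a0 hfix p hp' (by rw [hn]; exact h23) s hs
  have hCcard : Nat.card (Subgroup.centralizer ((Subgroup.zpowers s : Subgroup ↥H) : Set ↥H)) = p := by
    obtain ⟨k, hk⟩ := (IsPGroup.iff_card).mp hCp
    have hdvd : p ^ k ∣ Nat.card H := by rw [← hk]; exact Subgroup.card_subgroup_dvd_card _
    have hk1 : k ≤ 1 := by
      rw [← hfact]
      exact (hp.out.pow_dvd_iff_le_factorization (Nat.card_pos.ne')).mp hdvd
    have hle : Subgroup.zpowers s ≤ Subgroup.centralizer ((Subgroup.zpowers s : Subgroup ↥H) : Set ↥H) := by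
      intro x hx
      rw [Subgroup.mem_centralizer_iff]
      intro y hy
      obtain ⟨i, rfl⟩ := Subgroup.mem_zpowers_iff.mp hx
      obtain ⟨j, rfl⟩ := Subgroup.mem_zpowers_iff.mp hy
      exact (Commute.zpow_zpow_self s j i).eq
    have hpd : p ∣ p ^ k := by
      rw [← hk, ← hPcard]
      exact Subgroup.card_dvd_of_le hle
    have hk0 : k ≠ 0 := by
      rintro rfl
      rw [pow_zero] at hpd
      exact hp.out.one_lt.ne' (Nat.dvd_one.mp hpd)
    have : k = 1 := by omega
    rw [hk, this, pow_one]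
  -- the normalizer
  have hNdvd := card_normalizer_dvd (Subgroup.zpowers s : Subgroup ↥H) p hPcard
  rw [hCcard] at hNdvd
  have hPN : p ∣ Nat.card (Subgroup.normalizer ((Subgroup.zpowers s : Subgroup ↥H) : Set ↥H)) := by
    rw [← hPcard]
    exact Subgroup.card_dvd_of_le Subgroup.le_normalizer
  obtain ⟨e, he⟩ := hPN
  have hpos : 0 < p := hp.out.pos
  have hediv : e ∣ p - 1 := by
    rw [he] at hNdvd
    exact (Nat.mul_dvd_mul_iff_left hpos).mp hNdvd
  have hNQ : Subgroup.normalizer (Q : Set ↥H)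
      = Subgroup.normalizer ((Subgroup.zpowers s : Subgroup ↥H) : Set ↥H) := by rw [hQeq]; rfl
  have hsyl := card_sylow_modEq_one p (↥H)
  rw [Sylow.card_eq_index_normalizer Q, hNQ] at hsyl
  have hidx : (Subgroup.normalizer ((Subgroup.zpowers s : Subgroup ↥H) : Set ↥H)).index
      = n / (p * e) := by
    have := Subgroup.card_mul_index
      (Subgroup.normalizer ((Subgroup.zpowers s : Subgroup ↥H) : Set ↥H))
    rw [he, hn] at this
    rw [← this, Nat.mul_div_cancel_left]
    rw [← he]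
    exact Nat.card_pos
  have hpe : p * e ∣ n := by
    rw [← he, ← hn]
    exact Subgroup.card_subgroup_dvd_card _
  have heq : e = q := by
    apply hnum e hediv hpe
    rw [← hidx]
    have := hsyl
    unfold Nat.ModEq at this
    rw [this]
    exact Nat.mod_eq_of_lt hp.out.one_lt
  have hNcard : Nat.card (Subgroup.normalizer (Q : Set ↥H)) = p * q := by
    rw [hNQ, he, heq]
  -- normal subgroups have order divisible by p
  have hdiv : ∀ N : Subgroup ↥H, N.Normal → N ≠ ⊥ → p ∣ Nat.card N := by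
    intro N hN hne
    obtain ⟨a, ha⟩ : X.Nonempty := Finset.card_pos.mp (by omega)
    have htr := normal_trans H X h2 hf hpres N hN hne a
    have := card_dvd_of_trans H X hpres N a ha (fun b hb => htr b ha hb)
    exact hpX.trans this
  exact simple_of_sylow p q hq Q hQcard hNcard hdiv (by rw [hn]; exact hnpq)

end Cfsg.Agent.Lib.Helper9.M24Q2
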