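import Cfsg.Agent.Lib.Helper9.M24X5
import Cfsg.Agent.Lib.Helper9.M24X4

set_option autoImplicit false

namespace Cfsg.Agent.Lib.Helper9.M24X6

open Cfsg Finset Cfsg.Agent.Lib.Helper9.Golay1 Cfsg.Agent.Lib.Helper9.GolayQR1
  Cfsg.Agent.Lib.Helper9.GolayQR5
  Cfsg.Agent.Lib.Helper9.M24T1 Cfsg.Agent.Lib.Helper9.M24T3 Cfsg.Agent.Lib.Helper9.M24T6
  Cfsg.Agent.Lib.Helper9.M24T8 Cfsg.Agent.Lib.Helper9.M24T9 Cfsg.Agent.Lib.Helper9.M24T10
  Cfsg.Agent.Lib.Helper9.M24T11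
  Cfsg.Agent.Lib.Helper9.M24U1 Cfsg.Agent.Lib.Helper9.M24U2 Cfsg.Agent.Lib.Helper9.M24U3
  Cfsg.Agent.Lib.Helper9.M24U4 Cfsg.Agent.Lib.Helper9.M24U5 Cfsg.Agent.Lib.Helper9.M24U6
  Cfsg.Agent.Lib.Helper9.M24V2 Cfsg.Agent.Lib.Helper9.M24W2 Cfsg.Agent.Lib.Helper9.M24X1
  Cfsg.Agent.Lib.Helper9.M24X4 Cfsg.Agent.Lib.Helper9.M24X5
open scoped Pointwise

theorem lenG4 : clsG4.length = 165 := by decide +kernel
theorem lenG6 : clsG6.length = 792 := by decide +kernel
theorem lenG8 : clsG8.length = 330 := by decide +kernel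

theorem none_mem_D12 : (none : GolayPt) ∈ D12 := by
  rw [mem_D12]
  decide +kernel

theorem count_dflag_std (k : ℕ) :
    {d' : Finset GolayPt | d' ∈ dodecads ∧ (none : GolayPt) ∈ d' ∧ (D12 ∩ d').card = k}.ncard
      = (dodecadLit.filter fun m => m.testBit 23 && decide (wt24 (m &&& dMask) = k)).length := by
  apply ncard_class dodecadLit dodecadLit_nodup dodecadLit_lt dodecads mem_dodecads_iff'
    (fun o' => (none : GolayPt) ∈ o' ∧ (D12 ∩ o').card = k)
  intro m _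
  rw [D12_eq, card_inter_M, mem_M]
  change (m.testBit 23 = true ∧ _) ↔ _
  simp

theorem trans_dflag_std (p p' : Finset GolayPt) (hp : p ∈ dodecads) (hp' : p' ∈ dodecads)
    (hn : (none : GolayPt) ∈ p) (hn' : (none : GolayPt) ∈ p')
    (h : (D12 ∩ p).card = (D12 ∩ p').card) : ∃ g ∈ stabC [23] [dMask], g • p = p' := by
  have h12 : D12.card = 12 := D12_mem.2
  have full : ∀ q : Finset GolayPt, q.card = 12 → (D12 ∩ q).card = 12 → q = D12 := by
    intro q hq hk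
    have h1 : D12 ∩ q = D12 := eq_of_subset_of_card_le inter_subset_left (by omega)
    have h2 : D12 ∩ q = q := eq_of_subset_of_card_le inter_subset_right (by omega)
    rw [← h2, h1]
  by_cases hpD : p = D12
  · refine ⟨1, Subgroup.one_mem _, ?_⟩
    rw [one_smul, hpD]
    rw [hpD, inter_self, h12] at h
    exact (full p' hp'.2 h.symm).symm
  · rcases dodecad_inter D12 p D12_mem hp hpD with hk | hk | hk | hk
    · exfalso
      have : (none : GolayPt) ∈ D12 ∩ p := mem_inter.mpr ⟨none_mem_D12, hn⟩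
      rw [card_eq_zero.mp hk] at this
      exact notMem_empty _ this
    all_goals
      obtain ⟨m, hm, rfl⟩ := (mem_dodecads_iff' p).mp hp
      obtain ⟨m', hm', rfl⟩ := (mem_dodecads_iff' p').mp hp'
      rw [mem_M] at hn hn'
      rw [D12_eq, card_inter_M, card_inter_M] at h
      rw [D12_eq, card_inter_M] at hk
      have hn1 : m.testBit 23 = true := hn
      have hn1' : m'.testBit 23 = true := hn'
    · exact transG4 m (List.mem_filter.mpr ⟨hm, by simp [hn1, hk]⟩) m'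
        (List.mem_filter.mpr ⟨hm', by simp [hn1', ← h, hk]⟩)
    · exact transG6 m (List.mem_filter.mpr ⟨hm, by simp [hn1, hk]⟩) m'
        (List.mem_filter.mpr ⟨hm', by simp [hn1', ← h, hk]⟩)
    · exact transG8 m (List.mem_filter.mpr ⟨hm, by simp [hn1, hk]⟩) m'
        (List.mem_filter.mpr ⟨hm', by simp [hn1', ← h, hk]⟩)

/-- moving a point of a dodecad to the standard position -/
theorem exists_std_dflag (x : GolayPt) (d : Finset GolayPt) (hd : d ∈ dodecads) (hx : x ∈ d) :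
    ∃ t ∈ M24, t • d = D12 ∧ t x = none := by
  obtain ⟨t0, ht0, h0⟩ := exists_smul_D12 d hd
  have hx1 : t0⁻¹ x ∈ D12 := by
    rw [← mem_inv_smul, inv_inv, h0]
    exact hx
  obtain ⟨u, hu, hux⟩ := transitive_on_dodecad D12 D12_mem (t0⁻¹ x) none hx1 none_mem_D12
  rw [mem_stabF] at hu
  refine ⟨u * t0⁻¹, M24.mul_mem hu.1 (M24.inv_mem ht0), ?_, ?_⟩
  · rw [mul_smul, ← h0, inv_smul_smul, hu.2]
  · rw [Equiv.Perm.mul_apply, hux]

theorem dflag_result (x : GolayPt) (d : Finset GolayPt) (hd : d ∈ dodecads) (hx : x ∈ d) :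
    {d' : Finset GolayPt | d' ∈ dodecads ∧ x ∈ d' ∧ (d ∩ d').card = 4}.ncard = 165 ∧
    {d' : Finset GolayPt | d' ∈ dodecads ∧ x ∈ d' ∧ (d ∩ d').card = 8}.ncard = 330 ∧
    {d' : Finset GolayPt | d' ∈ dodecads ∧ x ∈ d' ∧ (d ∩ d').card = 6}.ncard = 792 ∧
    ∀ d' d'' : Finset GolayPt, d' ∈ dodecads → d'' ∈ dodecads → x ∈ d' → x ∈ d'' →
      (d ∩ d').card = (d ∩ d'').card →
      ∃ g : Equiv.Perm GolayPt, g ∈ M24 ∧ g x = x ∧ g • d = d ∧ g • d' = d'' := by
  obtain ⟨t, ht, hto, htx⟩ := exists_std_dflag x d hd hx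
  have htinv : t⁻¹ ∈ M24 := M24.inv_mem ht
  have hcount : ∀ k, {d' : Finset GolayPt | d' ∈ dodecads ∧ x ∈ d' ∧ (d ∩ d').card = k}.ncard
      = {d' : Finset GolayPt | d' ∈ dodecads ∧ (none : GolayPt) ∈ d' ∧
          (D12 ∩ d').card = k}.ncard := by
    intro k
    apply ncard_smul t⁻¹ dodecads (fun s hs => smul_dodecad_mem _ htinv s hs)
      (fun s hs => by rw [inv_inv]; exact smul_dodecad_mem _ ht s hs)
      (fun s => x ∈ s ∧ (d ∩ s).card = k)
    intro s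
    rw [mem_inv_smul, htx, inter_smul_card, hto]
  refine ⟨by rw [hcount, count_dflag_std]; exact lenG4,
    by rw [hcount, count_dflag_std]; exact lenG8,
    by rw [hcount, count_dflag_std]; exact lenG6, ?_⟩
  intro d' d'' hd' hd'' hx' hx'' h
  have e : (D12 ∩ t • d').card = (D12 ∩ t • d'').card := by
    rw [← hto, M24V2.card_smul_inter, M24V2.card_smul_inter, h]
  obtain ⟨g, hg, hgp⟩ := trans_dflag_std (t • d') (t • d'') (smul_dodecad_mem t ht d' hd')
    (smul_dodecad_mem t ht d'' hd'') (by rw [← htx, smul_mem_iff]; exact hx')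
    (by rw [← htx, smul_mem_iff]; exact hx'') e
  obtain ⟨hgM, hgx, hgo⟩ := (mem_stabC _ _ g).mp hg
  have hgx' : g none = none := hgx 23 (by simp)
  have hgo' : g • D12 = D12 := hgo dMask (by simp)
  refine ⟨t⁻¹ * g * t, M24.mul_mem (M24.mul_mem htinv hgM) ht, ?_, ?_, ?_⟩
  · rw [Equiv.Perm.mul_apply, Equiv.Perm.mul_apply, htx, hgx', ← htx, Chain1.inv_apply_self']
  · rw [mul_smul, mul_smul, hto, hgo', ← hto, inv_smul_smul]
  · rw [mul_smul, mul_smul, hgp, inv_smul_smul]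

end Cfsg.Agent.Lib.Helper9.M24X6
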