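import Cfsg.Agent.Lib.Helper9.M24T11
import Cfsg.Agent.Lib.Helper9.M24X6

set_option autoImplicit false

namespace Cfsg.Agent.Lib.Helper9.M24Z10

open Cfsg Finset Cfsg.Agent.Lib.Helper9.M24T9 Cfsg.Agent.Lib.Helper9.M24T10
  Cfsg.Agent.Lib.Helper9.M24T11
open scoped Pointwise

/-- extend a list of distinct points of `d` to a list of five distinct points of `d` -/
theorem exists_extend (d : Finset GolayPt) (l : List GolayPt) (hl : l.Nodup)
    (hld : ∀ p ∈ l, p ∈ d) (h5 : 5 ≤ d.card) (hlen : l.length ≤ 5) :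
    ∃ x : Fin 5 ↪ GolayPt, (∀ i, x i ∈ d) ∧ ∀ i (hi : i < l.length), x ⟨i, by omega⟩ = l[i] := by
  have hsub : l.toFinset ⊆ d := fun p hp => hld p (List.mem_toFinset.mp hp)
  have hc : l.toFinset.card = l.length := List.toFinset_card_of_nodup hl
  have h1 : 5 - l.length ≤ (d \ l.toFinset).card := by
    rw [card_sdiff_of_subset hsub, hc]; omega
  obtain ⟨s, hs, hs4⟩ := exists_subset_card_eq h1
  have hnd : (l ++ s.toList).Nodup := by
    apply List.Nodup.append hl (nodup_toList _)
    intro a ha hb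
    rw [mem_toList] at hb
    exact (mem_sdiff.mp (hs hb)).2 (List.mem_toFinset.mpr ha)
  have hL5 : (l ++ s.toList).length = 5 := by
    rw [List.length_append, length_toList, hs4]; omega
  refine ⟨⟨fun i => (l ++ s.toList)[i.val]'(by rw [hL5]; exact i.2), ?_⟩, ?_, ?_⟩
  · intro i j hij
    have := (List.Nodup.getElem_inj_iff hnd).mp hij
    exact Fin.ext this
  · intro i
    have : (l ++ s.toList)[i.val]'(by rw [hL5]; exact i.2) ∈ l ++ s.toList :=
      List.getElem_mem _
    rcases List.mem_append.mp this with h | h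
    · exact hld _ h
    · rw [mem_toList] at h
      exact (mem_sdiff.mp (hs h)).1
  · intro i hi
    change (l ++ s.toList)[i]'_ = l[i]
    rw [List.getElem_append_left hi]

/-- the stabilizer of a dodecad maps any list of at most five distinct points of it to any other
of the same length -/
theorem dodecad_map_list (d : Finset GolayPt) (hd : d ∈ dodecads) (l l' : List GolayPt)
    (hl : l.Nodup) (hl' : l'.Nodup) (hld : ∀ p ∈ l, p ∈ d) (hld' : ∀ p ∈ l', p ∈ d)
    (hlen : l.length = l'.length) (h5 : l.length ≤ 5) : ∃ g ∈ stabF d, l.map g = l' := by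
  have h12 : d.card = 12 := hd.2
  obtain ⟨x, hx, hxl⟩ := exists_extend d l hl hld (by omega) h5
  obtain ⟨y, hy, hyl⟩ := exists_extend d l' hl' hld' (by omega) (by omega)
  obtain ⟨g, ⟨hg, hgxy⟩, -⟩ := sharp_dodecad d hd x y hx hy
  refine ⟨g, hg, ?_⟩
  apply List.ext_getElem
  · rw [List.length_map, hlen]
  · intro i hi hi'
    rw [List.length_map] at hi
    rw [List.getElem_map, ← hxl i hi, hgxy, hyl i hi']

end Cfsg.Agent.Lib.Helper9.M24Z10
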