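import Cfsg.Agent.Lib.Helper9.M24M2
import Cfsg.Agent.Lib.Helper9.M24Z10

set_option autoImplicit false

/-! Quartets of a dodecad: two triples forming a hexad determine a unique quartet. -/

namespace Cfsg.Agent.Lib.Helper9.M24QT1

open Cfsg Finset Cfsg.Agent.Lib.Helper9.GolayQR1 Cfsg.Agent.Lib.Helper9.M24T1
  Cfsg.Agent.Lib.Helper9.M24T9 Cfsg.Agent.Lib.Helper9.M24T10
  Cfsg.Agent.Lib.Helper9.M24T11 Cfsg.Agent.Lib.Helper9.M24X1 Cfsg.Agent.Lib.Helper9.M24X4
  Cfsg.Agent.Lib.Helper9.M24Z10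
  Cfsg.Agent.Lib.Helper9.Chain1 Cfsg.Agent.Lib.Helper9.SimpB
  Cfsg.Agent.Lib.Helper9.M24U1 Cfsg.Agent.Lib.Helper9.M24U4 Cfsg.Agent.Lib.Helper9.M24P1
open scoped Pointwise

theorem smul_hexad_mem (g : Equiv.Perm GolayPt) (hg : g ∈ M24) (d h : Finset GolayPt)
    (hh : h ∈ hexadsOn d) : g • h ∈ hexadsOn (g • d) := by
  obtain ⟨h6, o, ho, rfl⟩ := hh
  refine ⟨by rw [card_smul_finset]; exact h6, g • o, smul_octad_mem g hg o ho, ?_⟩
  rw [smul_finset_inter]

theorem smul_quartet_mem (g : Equiv.Perm GolayPt) (hg : g ∈ M24) (d : Finset GolayPt)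
    (Q : Finset (Finset GolayPt)) (hQ : Q ∈ quartets d) : g • Q ∈ quartets (g • d) := by
  obtain ⟨h4, h3, hh⟩ := hQ
  refine ⟨by rw [card_smul_finset]; exact h4, ?_, ?_⟩
  · intro t ht
    obtain ⟨t0, ht0, rfl⟩ := mem_smul_finset.mp ht
    exact ⟨by rw [card_smul_finset]; exact (h3 t0 ht0).1,
      smul_finset_subset_smul_finset (h3 t0 ht0).2⟩
  · intro t ht u hu hne
    obtain ⟨t0, ht0, rfl⟩ := mem_smul_finset.mp ht
    obtain ⟨u0, hu0, rfl⟩ := mem_smul_finset.mp hu
    rw [← smul_finset_union]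
    exact smul_hexad_mem g hg d _ (hh t0 ht0 u0 hu0 (fun h => hne (by rw [h])))

/-- members of a quartet are pairwise disjoint -/
theorem quartet_disjoint (d : Finset GolayPt) (Q : Finset (Finset GolayPt)) (hQ : Q ∈ quartets d)
    (t u : Finset GolayPt) (ht : t ∈ Q) (hu : u ∈ Q) (hne : t ≠ u) : Disjoint t u := by
  obtain ⟨-, h3, hh⟩ := hQ
  have h6 : (t ∪ u).card = 6 := (hh t ht u hu hne).1
  rw [disjoint_iff_inter_eq_empty, ← card_eq_zero]
  have := card_union_add_card_inter t u
  have := (h3 t ht).1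
  have := (h3 u hu).1
  omega

/-! ### the standard quartet -/

theorem key_aux : octadLit.all (fun m => !(wt24 (m &&& dMask) == 6) ||
    !((m &&& dMask) &&& 7 == 7) || !((m &&& dMask) &&& 152 == 0) ||
    (m &&& dMask == 6291495) || (m &&& dMask == 8652807)) = true := by
  decide +kernel

theorem key_mask (m : ℕ) (hm : m ∈ octadLit) (h6 : wt24 (m &&& dMask) = 6)
    (h7 : (m &&& dMask) &&& 7 = 7) (h152 : (m &&& dMask) &&& 152 = 0) :
    m &&& dMask = 6291495 ∨ m &&& dMask = 8652807 := by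
  have := List.all_eq_true.mp key_aux m hm
  simpa [h6, h7, h152] using this

theorem disj_of_card (a x : Finset GolayPt) (ha : a.card = 3) (hx : x.card = 3)
    (h6 : (a ∪ x).card = 6) : Disjoint a x := by
  rw [disjoint_iff_inter_eq_empty, ← card_eq_zero]
  have := card_union_add_card_inter a x
  omega

theorem c7 : (M 7).card = 3 := by rw [card_M]; decide
theorem c152 : (M 152).card = 3 := by rw [card_M]; decide

theorem std_key (x : Finset GolayPt) (hx3 : x.card = 3) (h1 : M 7 ∪ x ∈ hexadsOn D12)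
    (h2 : M 152 ∪ x ∈ hexadsOn D12) : x = M 6291488 ∨ x = M 8652800 := by
  obtain ⟨hc, o, ho, hoD⟩ := h1
  obtain ⟨m, hm, rfl⟩ := (mem_octads_iff' o).mp ho
  have hd7 : Disjoint (M 7) x := disj_of_card _ _ c7 hx3 hc
  have hd152 : Disjoint (M 152) x := disj_of_card _ _ c152 hx3 h2.1
  rw [M24W2.D12_eq, ← M_and] at hoD
  have hlt : m &&& dMask < 2 ^ 24 := lt_of_le_of_lt Nat.and_le_right (by decide)
  have h7 : (m &&& dMask) &&& 7 = 7 := by
    apply M_inj _ _ (lt_of_le_of_lt Nat.and_le_right (by decide)) (by decide)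
    rw [M_and, hoD, union_inter_cancel_left]
  have h152 : (m &&& dMask) &&& 152 = 0 := by
    apply M_inj _ _ (lt_of_le_of_lt Nat.and_le_right (by decide)) (by decide)
    rw [M_and, hoD, union_inter_distrib_right, ← M_and, inter_comm x,
      disjoint_iff_inter_eq_empty.mp hd152]
    decide +kernel
  have h6 : wt24 (m &&& dMask) = 6 := by rw [← card_M, hoD]; exact hc
  have hx : x = M (m &&& dMask) \ M 7 := by
    rw [hoD, union_sdiff_cancel_left hd7]
  rcases key_mask m hm h6 h7 h152 with h | h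
  · left
    rw [hx, h]
    decide +kernel
  · right
    rw [hx, h]
    decide +kernel

/-- the standard quartet -/
def Q0 : Finset (Finset GolayPt) := {M 7, M 152, M 6291488, M 8652800}

theorem hex_fact (a b o : ℕ) (ho : o ∈ octadLit) (h6 : wt24 (a ||| b) = 6)
    (h : o &&& dMask = a ||| b) : M a ∪ M b ∈ hexadsOn D12 := by
  have hu : M a ∪ M b = M (a ||| b) := by
    ext p
    rw [mem_union, mem_M, mem_M, mem_M, Nat.testBit_lor, Bool.or_eq_true]
  refine ⟨by rw [hu, card_M]; exact h6, M o, (mem_octads_iff' _).mpr ⟨o, ho, rfl⟩, ?_⟩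
  rw [hu, M24W2.D12_eq, ← M_and, h]

theorem sub_D12 (a : ℕ) (h : a &&& dMask = a) : M a ⊆ D12 := by
  rw [← h, M_and, M24W2.D12_eq]
  exact inter_subset_right

theorem Q0_mem : Q0 ∈ quartets D12 := by
  have f1 : M 7 ∪ M 152 ∈ hexadsOn D12 :=
    hex_fact 7 152 5279 (by decide +kernel) (by decide) (by decide)
  have f2 : M 7 ∪ M 6291488 ∈ hexadsOn D12 :=
    hex_fact 7 6291488 6292775 (by decide +kernel) (by decide) (by decide)
  have f3 : M 7 ∪ M 8652800 ∈ hexadsOn D12 :=
    hex_fact 7 8652800 8657159 (by decide +kernel) (by decide) (by decide)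
  have f4 : M 152 ∪ M 6291488 ∈ hexadsOn D12 :=
    hex_fact 152 6291488 6295992 (by decide +kernel) (by decide) (by decide)
  have f5 : M 152 ∪ M 8652800 ∈ hexadsOn D12 :=
    hex_fact 152 8652800 8654232 (by decide +kernel) (by decide) (by decide)
  have f6 : M 6291488 ∪ M 8652800 ∈ hexadsOn D12 :=
    hex_fact 6291488 8652800 14949408 (by decide +kernel) (by decide) (by decide)
  refine ⟨by unfold Q0; decide +kernel, ?_, ?_⟩
  · intro t ht
    unfold Q0 at ht
    simp only [mem_insert, mem_singleton] at ht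
    rcases ht with rfl | rfl | rfl | rfl
    · exact ⟨by rw [card_M]; decide, sub_D12 _ (by decide)⟩
    · exact ⟨by rw [card_M]; decide, sub_D12 _ (by decide)⟩
    · exact ⟨by rw [card_M]; decide, sub_D12 _ (by decide)⟩
    · exact ⟨by rw [card_M]; decide, sub_D12 _ (by decide)⟩
  · intro t ht u hu hne
    unfold Q0 at ht hu
    simp only [mem_insert, mem_singleton] at ht hu
    rcases ht with rfl | rfl | rfl | rfl <;> rcases hu with rfl | rfl | rfl | rfl
    · exact absurd rfl hne
    · exact f1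
    · exact f2
    · exact f3
    · rw [union_comm]; exact f1
    · exact absurd rfl hne
    · exact f4
    · exact f5
    · rw [union_comm]; exact f2
    · rw [union_comm]; exact f4
    · exact absurd rfl hne
    · exact f6
    · rw [union_comm]; exact f3
    · rw [union_comm]; exact f5
    · rw [union_comm]; exact f6
    · exact absurd rfl hne

theorem std_unique (Q : Finset (Finset GolayPt)) (hQ : Q ∈ quartets D12) (h7 : M 7 ∈ Q)
    (h152 : M 152 ∈ Q) : Q = Q0 := by
  apply eq_of_subset_of_card_le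
  · intro x hx
    unfold Q0
    simp only [mem_insert, mem_singleton]
    by_cases hx7 : x = M 7
    · left; exact hx7
    by_cases hx152 : x = M 152
    · right; left; exact hx152
    right; right
    exact std_key x (hQ.2.1 x hx).1 (hQ.2.2 _ h7 x hx (Ne.symm hx7))
      (hQ.2.2 _ h152 x hx (Ne.symm hx152))
  · rw [hQ.1, Q0_mem.1]

end Cfsg.Agent.Lib.Helper9.M24QT1
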