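import Cfsg.Agent.Lib.Helper9.M24QT1

set_option autoImplicit false

/-! Transport of a pair of triples to the standard position; uniqueness of the quartet. -/

namespace Cfsg.Agent.Lib.Helper9.M24QT2

open Cfsg Finset Cfsg.Agent.Lib.Helper9.GolayQR1 Cfsg.Agent.Lib.Helper9.M24T1
  Cfsg.Agent.Lib.Helper9.M24T9 Cfsg.Agent.Lib.Helper9.M24T10
  Cfsg.Agent.Lib.Helper9.M24T11 Cfsg.Agent.Lib.Helper9.M24X1 Cfsg.Agent.Lib.Helper9.M24X4
  Cfsg.Agent.Lib.Helper9.M24Z10
  Cfsg.Agent.Lib.Helper9.Chain1 Cfsg.Agent.Lib.Helper9.SimpB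
  Cfsg.Agent.Lib.Helper9.M24U1 Cfsg.Agent.Lib.Helper9.M24U4 Cfsg.Agent.Lib.Helper9.M24P1
  Cfsg.Agent.Lib.Helper9.M24QT1
open scoped Pointwise

theorem smul_triple (g : Equiv.Perm GolayPt) (a b c : GolayPt) :
    g • ({a, b, c} : Finset GolayPt) = {g a, g b, g c} := by
  change Finset.image (fun p => g • p) {a, b, c} = _
  rw [image_insert, image_insert, image_singleton]
  rfl

theorem std_triple : ({some 0, some 1, some 2} : Finset GolayPt) = M 7 := by decide +kernel

theorem std_sdiff : (M 7 ∪ M 152) \ M 7 = M 152 := by decide +kernel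

theorem std_hex : M 7 ∪ M 152 ∈ hexadsOn D12 :=
  Q0_mem.2.2 (M 7) (by unfold Q0; simp) (M 152) (by unfold Q0; simp) (by decide +kernel)

theorem std_in (p : GolayPt) (hp : p ∈ [some 0, some 1, some 2, some 3, some 4]) :
    p ∈ M 7 ∪ M 152 := by
  revert p
  decide +kernel

/-- transport to the standard position inside `D12` -/
theorem transport_std (t u : Finset GolayPt) (ht : t.card = 3) (hu : u.card = 3)
    (hh : t ∪ u ∈ hexadsOn D12) : ∃ g ∈ stabF D12, g • t = M 7 ∧ g • u = M 152 := by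
  have hdisj : Disjoint t u := disj_of_card t u ht hu hh.1
  have hsub := M24P5.hexad_sub D12 _ hh
  obtain ⟨a, b, c, hab, hac, hbc, hta⟩ := card_eq_three.mp ht
  obtain ⟨x, y, z, hxy, hxz, hyz, hux⟩ := card_eq_three.mp hu
  have hat : a ∈ t := by rw [hta]; simp
  have hbt : b ∈ t := by rw [hta]; simp
  have hct : c ∈ t := by rw [hta]; simp
  have hxu : x ∈ u := by rw [hux]; simp
  have hyu : y ∈ u := by rw [hux]; simp
  have hne : ∀ p ∈ t, ∀ q ∈ u, p ≠ q := fun p hp q hq h =>
    disjoint_left.mp hdisj hp (h ▸ hq)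
  obtain ⟨g, hg, hmap⟩ := dodecad_map_list D12 D12_mem [a, b, c, x, y]
    [some 0, some 1, some 2, some 3, some 4]
    (by
      simp only [List.nodup_cons, List.mem_cons, List.not_mem_nil, or_false, not_or,
        List.nodup_nil, and_true, not_false_eq_true]
      exact ⟨⟨hab, hac, hne a hat x hxu, hne a hat y hyu⟩, ⟨hbc, hne b hbt x hxu, hne b hbt y hyu⟩,
        ⟨hne c hct x hxu, hne c hct y hyu⟩, hxy⟩)
    (by decide)
    (by
      intro p hp
      simp only [List.mem_cons, List.not_mem_nil, or_false] at hp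
      rcases hp with rfl | rfl | rfl | rfl | rfl
      · exact hsub (mem_union_left _ hat)
      · exact hsub (mem_union_left _ hbt)
      · exact hsub (mem_union_left _ hct)
      · exact hsub (mem_union_right _ hxu)
      · exact hsub (mem_union_right _ hyu))
    (by
      intro p hp
      exact M24P5.hexad_sub D12 _ std_hex (std_in p hp))
    rfl (by simp)
  simp only [List.map_cons, List.map_nil, List.cons.injEq, and_true] at hmap
  obtain ⟨ha, hb, hc, hx, hy⟩ := hmap
  have hC : g • (t ∪ u) = M 7 ∪ M 152 := by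
    apply M24P5.map_hexad D12 _ _ hh std_hex g hg {a, b, c, x, y}
    · intro p hp
      simp only [mem_insert, mem_singleton] at hp
      rcases hp with rfl | rfl | rfl | rfl | rfl
      · exact mem_union_left _ hat
      · exact mem_union_left _ hbt
      · exact mem_union_left _ hct
      · exact mem_union_right _ hxu
      · exact mem_union_right _ hyu
    · have : ({a, b, c, x, y} : Finset GolayPt).card = 5 := by
        rw [card_insert_of_notMem, card_insert_of_notMem, card_insert_of_notMem, card_pair hxy]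
        · simp only [mem_insert, mem_singleton, not_or]
          exact ⟨hne c hct x hxu, hne c hct y hyu⟩
        · simp only [mem_insert, mem_singleton, not_or]
          exact ⟨hbc, hne b hbt x hxu, hne b hbt y hyu⟩
        · simp only [mem_insert, mem_singleton, not_or]
          exact ⟨hab, hac, hne a hat x hxu, hne a hat y hyu⟩
      rw [this]
    · intro p hp
      simp only [mem_insert, mem_singleton] at hp
      rcases hp with rfl | rfl | rfl | rfl | rfl
      · rw [ha]; exact std_in _ (by simp)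
      · rw [hb]; exact std_in _ (by simp)
      · rw [hc]; exact std_in _ (by simp)
      · rw [hx]; exact std_in _ (by simp)
      · rw [hy]; exact std_in _ (by simp)
  have hgt : g • t = M 7 := by
    rw [hta, smul_triple, ha, hb, hc, std_triple]
  refine ⟨g, hg, hgt, ?_⟩
  have : u = (t ∪ u) \ t := by rw [union_sdiff_cancel_left hdisj]
  rw [this, smul_finset_sdiff, hC, hgt, std_sdiff]

theorem transport (d : Finset GolayPt) (hd : d ∈ dodecads) (t u : Finset GolayPt)
    (ht : t.card = 3) (hu : u.card = 3) (hh : t ∪ u ∈ hexadsOn d) :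
    ∃ g ∈ M24, g • d = D12 ∧ g • t = M 7 ∧ g • u = M 152 := by
  obtain ⟨g0, hg0, h0⟩ := exists_smul_D12 d hd
  have hd' : g0⁻¹ • d = D12 := by rw [inv_smul_eq_iff, h0]
  have hh' : g0⁻¹ • t ∪ g0⁻¹ • u ∈ hexadsOn D12 := by
    rw [← smul_finset_union, ← hd']
    exact smul_hexad_mem g0⁻¹ (M24.inv_mem hg0) d _ hh
  obtain ⟨g1, hg1, h1t, h1u⟩ := transport_std (g0⁻¹ • t) (g0⁻¹ • u)
    (by rw [card_smul_finset]; exact ht) (by rw [card_smul_finset]; exact hu) hh'
  obtain ⟨hg1M, hg1d⟩ := (mem_stabF D12 g1).mp hg1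
  refine ⟨g1 * g0⁻¹, M24.mul_mem hg1M (M24.inv_mem hg0), ?_, ?_, ?_⟩
  · rw [mul_smul, hd', hg1d]
  · rw [mul_smul, h1t]
  · rw [mul_smul, h1u]

/-- two triples forming a hexad lie in exactly one quartet -/
theorem unique_quartet (d : Finset GolayPt) (hd : d ∈ dodecads) (t u : Finset GolayPt)
    (ht : t.card = 3) (hu : u.card = 3) (hh : t ∪ u ∈ hexadsOn d) :
    ∃! Q : Finset (Finset GolayPt), Q ∈ quartets d ∧ t ∈ Q ∧ u ∈ Q := by
  obtain ⟨g, hg, hgd, hgt, hgu⟩ := transport d hd t u ht hu hh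
  refine ⟨g⁻¹ • Q0, ⟨?_, ?_, ?_⟩, ?_⟩
  · have := smul_quartet_mem g⁻¹ (M24.inv_mem hg) D12 Q0 Q0_mem
    rwa [← hgd, inv_smul_smul] at this
  · have : t = g⁻¹ • M 7 := by rw [← hgt, inv_smul_smul]
    rw [this]
    exact smul_mem_smul_finset (by unfold Q0; simp)
  · have : u = g⁻¹ • M 152 := by rw [← hgu, inv_smul_smul]
    rw [this]
    exact smul_mem_smul_finset (by unfold Q0; simp)
  · rintro Q ⟨hQ, htQ, huQ⟩
    have h1 := smul_quartet_mem g hg d Q hQ
    rw [hgd] at h1
    have := std_unique (g • Q) h1 (hgt ▸ smul_mem_smul_finset htQ)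
      (hgu ▸ smul_mem_smul_finset huQ)
    rw [← this, inv_smul_smul]

/-- the members of a quartet give data for `transport` -/
theorem quartet_pair (d : Finset GolayPt) (Q : Finset (Finset GolayPt)) (hQ : Q ∈ quartets d)
    (t u : Finset GolayPt) (ht : t ∈ Q) (hu : u ∈ Q) (hne : t ≠ u) :
    t.card = 3 ∧ u.card = 3 ∧ t ∪ u ∈ hexadsOn d :=
  ⟨(hQ.2.1 t ht).1, (hQ.2.1 u hu).1, hQ.2.2 t ht u hu hne⟩

/-- the stabilizer of a dodecad is transitive on (quartet, ordered pair of members) -/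
theorem pair_transport (d : Finset GolayPt) (hd : d ∈ dodecads)
    (Q Q' : Finset (Finset GolayPt)) (hQ : Q ∈ quartets d) (hQ' : Q' ∈ quartets d)
    (t u t' u' : Finset GolayPt) (ht : t ∈ Q) (hu : u ∈ Q) (hne : t ≠ u)
    (ht' : t' ∈ Q') (hu' : u' ∈ Q') (hne' : t' ≠ u') :
    ∃ g ∈ stabF d, g • t = t' ∧ g • u = u' ∧ g • Q = Q' := by
  obtain ⟨h1, h2, h3⟩ := quartet_pair d Q hQ t u ht hu hne
  obtain ⟨h1', h2', h3'⟩ := quartet_pair d Q' hQ' t' u' ht' hu' hne'
  obtain ⟨g, hg, hgd, hgt, hgu⟩ := transport d hd t u h1 h2 h3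
  obtain ⟨g', hg', hgd', hgt', hgu'⟩ := transport d hd t' u' h1' h2' h3'
  have e1 : g • Q = Q0 := by
    have h := smul_quartet_mem g hg d Q hQ
    rw [hgd] at h
    exact std_unique _ h (hgt ▸ smul_mem_smul_finset ht) (hgu ▸ smul_mem_smul_finset hu)
  have e2 : g' • Q' = Q0 := by
    have h := smul_quartet_mem g' hg' d Q' hQ'
    rw [hgd'] at h
    exact std_unique _ h (hgt' ▸ smul_mem_smul_finset ht') (hgu' ▸ smul_mem_smul_finset hu')
  refine ⟨g'⁻¹ * g, (mem_stabF d _).mpr ⟨M24.mul_mem (M24.inv_mem hg') hg, ?_⟩, ?_, ?_, ?_⟩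
  · rw [mul_smul, hgd, inv_smul_eq_iff, hgd']
  · rw [mul_smul, hgt, inv_smul_eq_iff, hgt']
  · rw [mul_smul, hgu, inv_smul_eq_iff, hgu']
  · rw [mul_smul, e1, inv_smul_eq_iff, e2]

end Cfsg.Agent.Lib.Helper9.M24QT2
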