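import Cfsg.Agent.Lib.Helper9.M24X1
import Cfsg.Agent.Lib.Helper9.Grp72

set_option autoImplicit false

/-! Explicit `3^2` and `Q8` inside the stabilizer of the standard dodecad and three points. -/

namespace Cfsg.Agent.Lib.Helper9.M24R2

open Cfsg Finset Cfsg.Agent.Lib.Helper9.Golay1 Cfsg.Agent.Lib.Helper9.GolayQR1
  Cfsg.Agent.Lib.Helper9.M24T1 Cfsg.Agent.Lib.Helper9.M24T3 Cfsg.Agent.Lib.Helper9.M24T9
  Cfsg.Agent.Lib.Helper9.M24U1 Cfsg.Agent.Lib.Helper9.M24X1
open scoped Pointwise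

/-- generator of order four -/
def qA : Equiv.Perm GolayPt :=
  tperm [0, 1, 2, 21, 18, 7, 17, 3, 16, 15, 20, 4, 13, 8, 6, 9, 12, 19, 22, 14, 10, 5, 11, 23]
    [0, 1, 2, 7, 11, 21, 14, 5, 13, 15, 20, 22, 16, 12, 19, 9, 8, 6, 4, 17, 10, 3, 18, 23]
    (by decide +kernel) (by decide +kernel)

/-- second generator of order four -/
def qX : Equiv.Perm GolayPt :=
  tperm [0, 1, 2, 22, 3, 4, 8, 11, 19, 10, 9, 21, 6, 14, 16, 20, 17, 13, 7, 12, 15, 18, 5, 23]
    [0, 1, 2, 4, 5, 22, 12, 18, 6, 10, 9, 7, 19, 17, 13, 20, 14, 16, 21, 8, 15, 11, 3, 23]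
    (by decide +kernel) (by decide +kernel)

/-- generator of order three -/
def k1 : Equiv.Perm GolayPt :=
  tperm [0, 1, 22, 7, 2, 11, 20, 18, 12, 9, 14, 21, 15, 13, 17, 8, 16, 10, 3, 6, 19, 5, 4, 23]
    [0, 1, 4, 18, 22, 21, 19, 3, 15, 9, 17, 5, 8, 13, 10, 12, 16, 14, 7, 20, 6, 11, 2, 23]
    (by decide +kernel) (by decide +kernel)

/-- second generator of order three -/
def k2 : Equiv.Perm GolayPt :=
  tperm [0, 1, 3, 5, 18, 2, 19, 11, 12, 13, 10, 22, 15, 16, 14, 8, 9, 17, 21, 20, 6, 4, 7, 23]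
    [0, 1, 5, 2, 21, 3, 20, 22, 15, 16, 10, 7, 8, 9, 14, 12, 13, 17, 4, 6, 19, 18, 11, 23]
    (by decide +kernel) (by decide +kernel)

/-- the stabilizer of the standard dodecad and the three points `∞, 0, 1` -/
abbrev H0 : Subgroup (Equiv.Perm GolayPt) := stabC [23, 0, 1] [dMask]

theorem qA_mem : qA ∈ H0 :=
  tperm_mem_stabC _ _ _ _ (by decide +kernel) (by decide +kernel) (by decide +kernel)
    [23, 0, 1] [dMask] (by decide +kernel) (by decide +kernel)

theorem qX_mem : qX ∈ H0 :=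
  tperm_mem_stabC _ _ _ _ (by decide +kernel) (by decide +kernel) (by decide +kernel)
    [23, 0, 1] [dMask] (by decide +kernel) (by decide +kernel)

theorem k1_mem : k1 ∈ H0 :=
  tperm_mem_stabC _ _ _ _ (by decide +kernel) (by decide +kernel) (by decide +kernel)
    [23, 0, 1] [dMask] (by decide +kernel) (by decide +kernel)

theorem k2_mem : k2 ∈ H0 :=
  tperm_mem_stabC _ _ _ _ (by decide +kernel) (by decide +kernel) (by decide +kernel)
    [23, 0, 1] [dMask] (by decide +kernel) (by decide +kernel)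

/-- small powers -/
def pw (g : Equiv.Perm GolayPt) : ℕ → Equiv.Perm GolayPt
  | 0 => 1
  | 1 => g
  | 2 => g * g
  | _ => g * g * g

theorem pw_mem (H : Subgroup (Equiv.Perm GolayPt)) (g : Equiv.Perm GolayPt) (hg : g ∈ H)
    (n : ℕ) : pw g n ∈ H := by
  match n with
  | 0 => exact H.one_mem
  | 1 => exact hg
  | 2 => exact H.mul_mem hg hg
  | (n + 3) => exact H.mul_mem (H.mul_mem hg hg) hg

/-- the quaternion group inside `H0` -/
def gT : QuaternionGroup 2 → Equiv.Perm GolayPt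
  | .a i => pw qA i.val
  | .xa i => qX * pw qA i.val

/-- the group `3^2` inside `H0` -/
def gK (z : Multiplicative (ZMod 3 × ZMod 3)) : Equiv.Perm GolayPt :=
  pw k1 (Multiplicative.toAdd z).1.val * pw k2 (Multiplicative.toAdd z).2.val

theorem gT_mem (q : QuaternionGroup 2) : gT q ∈ H0 := by
  cases q with
  | a i => exact pw_mem _ _ qA_mem _
  | xa i => exact Subgroup.mul_mem _ qX_mem (pw_mem _ _ qA_mem _)

theorem gK_mem (z : Multiplicative (ZMod 3 × ZMod 3)) : gK z ∈ H0 :=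
  Subgroup.mul_mem _ (pw_mem _ _ k1_mem _) (pw_mem _ _ k2_mem _)

theorem gT_mul : ∀ (x y : QuaternionGroup 2) (p : GolayPt), gT (x * y) p = gT x (gT y p) := by
  decide +kernel

theorem gT_inj : ∀ x y : QuaternionGroup 2, (∀ p : GolayPt, gT x p = gT y p) → x = y := by
  decide +kernel

theorem gK_mul : ∀ (x y : Multiplicative (ZMod 3 × ZMod 3)) (p : GolayPt),
    gK (x * y) p = gK x (gK y p) := by
  decide +kernel

theorem gK_inj : ∀ x y : Multiplicative (ZMod 3 × ZMod 3),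
    (∀ p : GolayPt, gK x p = gK y p) → x = y := by
  decide +kernel

theorem conj_TK : ∀ (q : QuaternionGroup 2) (z : Multiplicative (ZMod 3 × ZMod 3)),
    ∃ z' : Multiplicative (ZMod 3 × ZMod 3), ∀ p : GolayPt,
      gT q (gK z (gT q⁻¹ p)) = gK z' p := by
  decide +kernel

end Cfsg.Agent.Lib.Helper9.M24R2
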