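import Cfsg.Agent.Lib.Helper9.M24QT5

set_option autoImplicit false

/-! The stabilizer of a quartet is transitive on the dodecad; assembly. -/

namespace Cfsg.Agent.Lib.Helper9.M24QT6

open Cfsg Finset Cfsg.Agent.Lib.Helper9.GolayQR1 Cfsg.Agent.Lib.Helper9.M24T1
  Cfsg.Agent.Lib.Helper9.M24T9 Cfsg.Agent.Lib.Helper9.M24T10
  Cfsg.Agent.Lib.Helper9.M24T11 Cfsg.Agent.Lib.Helper9.M24X1 Cfsg.Agent.Lib.Helper9.M24X4
  Cfsg.Agent.Lib.Helper9.M24Z10
  Cfsg.Agent.Lib.Helper9.Chain1 Cfsg.Agent.Lib.Helper9.SimpB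
  Cfsg.Agent.Lib.Helper9.M24U1 Cfsg.Agent.Lib.Helper9.M24U4 Cfsg.Agent.Lib.Helper9.M24P1
  Cfsg.Agent.Lib.Helper9.M24QT1 Cfsg.Agent.Lib.Helper9.M24QT2 Cfsg.Agent.Lib.Helper9.M24QT3
  Cfsg.Agent.Lib.Helper9.M24QT5
open scoped Pointwise

theorem A_surj (d : Finset GolayPt) (hd : d ∈ dodecads) (t u : Finset GolayPt)
    (ht : t.card = 3) (hu : u.card = 3) (hh : t ∪ u ∈ hexadsOn d)
    (σ : Equiv.Perm ↥(t ∪ u)) (hσ : col t u ∘ σ = col t u) :
    ∃ g ∈ A d t u, ∀ x : ↥(t ∪ u), g x.1 = ((σ x : ↥(t ∪ u)) : GolayPt) := by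
  have hdisj : Disjoint t u := disj_of_card t u ht hu hh.1
  obtain ⟨k, hk⟩ := M24P5.resC_surjective d hd _ hh σ
  obtain ⟨s, hs⟩ : ∃ s : Equiv.Perm GolayPt, s = k.1.1 := ⟨_, rfl⟩
  have hsd : s ∈ stabF d := by rw [hs]; exact M24P5.mem_stabF_of d _ k
  have hkx : ∀ x : ↥(t ∪ u), s x.1 = ((σ x : ↥(t ∪ u)) : GolayPt) := by
    intro x
    rw [← hk, hs]
    rfl
  have hkC : s • (t ∪ u) = t ∪ u := by
    rw [hs]
    exact MulAction.mem_stabilizer_iff.mp (Subgroup.mem_inf.mp k.2).2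
  clear hs hk k
  have hkt : s • t = t := by
    rw [stab_iff]
    intro x
    by_cases hx : x ∈ t ∪ u
    · have := congrFun hσ ⟨x, hx⟩
      unfold col at this
      simp only [Function.comp_apply, decide_eq_decide] at this
      rw [← hkx ⟨x, hx⟩] at this
      exact this
    · have h1 : x ∉ t := fun h => hx (mem_union_left _ h)
      have h2 : s x ∉ t ∪ u := fun h => hx (((stab_iff _ _).mp hkC x).mp h)
      have h3 : s x ∉ t := fun h => h2 (mem_union_left _ h)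
      exact ⟨fun h => absurd h h3, fun h => absurd h h1⟩
  have hku : s • u = u := by
    have : u = (t ∪ u) \ t := by rw [union_sdiff_cancel_left hdisj]
    rw [this, smul_finset_sdiff, hkC, hkt]
  exact ⟨s, (mem_A d t u _).mpr ⟨hsd, hkt, hku⟩, hkx⟩

theorem col_swap (t u : Finset GolayPt) (a b : ↥(t ∪ u)) (ha : (a : GolayPt) ∈ t)
    (hb : (b : GolayPt) ∈ t) : col t u ∘ (Equiv.swap a b) = col t u := by
  funext x
  unfold col
  simp only [Function.comp_apply, decide_eq_decide]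
  by_cases hxa : x = a
  · rw [hxa, Equiv.swap_apply_left]
    exact ⟨fun _ => ha, fun _ => hb⟩
  by_cases hxb : x = b
  · rw [hxb, Equiv.swap_apply_right]
    exact ⟨fun _ => hb, fun _ => ha⟩
  rw [Equiv.swap_apply_of_ne_of_ne hxa hxb]

theorem quartet_cover (d : Finset GolayPt) (hd : d ∈ dodecads) (Q : Finset (Finset GolayPt))
    (hQ : Q ∈ quartets d) (p : GolayPt) (hp : p ∈ d) : ∃ t ∈ Q, p ∈ t := by
  have hdisj : (Q : Set (Finset GolayPt)).PairwiseDisjoint id := by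
    intro t ht u hu hne
    exact quartet_disjoint d Q hQ t u ht hu hne
  have hcard : (Q.biUnion id).card = 12 := by
    rw [card_biUnion hdisj]
    have : ∀ u ∈ Q, (id u : Finset GolayPt).card = 3 := fun u hu => (hQ.2.1 u hu).1
    rw [sum_congr rfl this, sum_const, hQ.1]
    rfl
  have hsub : Q.biUnion id ⊆ d := by
    intro x hx
    obtain ⟨t, ht, hxt⟩ := mem_biUnion.mp hx
    exact (hQ.2.1 t ht).2 hxt
  have heq : Q.biUnion id = d := eq_of_subset_of_card_le hsub (by rw [hcard, hd.2])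
  rw [← heq] at hp
  obtain ⟨t, ht, hpt⟩ := mem_biUnion.mp hp
  exact ⟨t, ht, hpt⟩

theorem trans_on_d (d : Finset GolayPt) (hd : d ∈ dodecads) (Q : Finset (Finset GolayPt))
    (hQ : Q ∈ quartets d) (p q : GolayPt) (hp : p ∈ d) (hq : q ∈ d) :
    ∃ g ∈ HQ d Q, g p = q := by
  obtain ⟨t, ht, hpt⟩ := quartet_cover d hd Q hQ p hp
  obtain ⟨t', ht', hqt'⟩ := quartet_cover d hd Q hQ q hq
  obtain ⟨u, hu, hne⟩ := Finset.exists_mem_ne (by rw [hQ.1]; norm_num : 1 < Q.card) t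
  obtain ⟨u', hu', hne'⟩ := Finset.exists_mem_ne (by rw [hQ.1]; norm_num : 1 < Q.card) t'
  obtain ⟨g1, hg1, h1t, h1u, h1Q⟩ := pair_transport d hd Q Q hQ hQ t u t' u' ht hu (Ne.symm hne)
    ht' hu' (Ne.symm hne')
  obtain ⟨c1, c2, c3⟩ := quartet_pair d Q hQ t' u' ht' hu' (Ne.symm hne')
  have hp' : g1 p ∈ t' := by
    rw [← h1t]
    exact (smul_mem_iff g1 p t).mpr hpt
  obtain ⟨a, ha, hax⟩ := A_surj d hd t' u' c1 c2 c3
    (Equiv.swap ⟨g1 p, mem_union_left _ hp'⟩ ⟨q, mem_union_left _ hqt'⟩)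
    (col_swap t' u' _ _ hp' hqt')
  refine ⟨a * g1, (HQ d Q).mul_mem (A_le_HQ d hd Q hQ t' u' ht' hu' (Ne.symm hne') ha)
    ((mem_HQ d Q g1).mpr ⟨hg1, h1Q⟩), ?_⟩
  rw [Equiv.Perm.mul_apply]
  have := hax ⟨g1 p, mem_union_left _ hp'⟩
  rw [Equiv.swap_apply_left] at this
  exact this

theorem main (d : Finset GolayPt) (hd : d ∈ dodecads) (Q : Finset (Finset GolayPt))
    (hQ : Q ∈ quartets d) :
    Nat.card ↥(MulAction.stabilizer M24 d ⊓ MulAction.stabilizer M24 Q) = 432 ∧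
    (∃ (N : Subgroup ↥(MulAction.stabilizer M24 d ⊓ MulAction.stabilizer M24 Q)) (_ : N.Normal),
      Nat.card N = 9 ∧ Nonempty (↥(MulAction.stabilizer M24 d ⊓ MulAction.stabilizer M24 Q) ⧸ N ≃*
        GL (Fin 2) (ZMod 3))) ∧
    ∀ p ∈ d, ∀ q ∈ d, ∃ g ∈ (MulAction.stabilizer M24 d ⊓ MulAction.stabilizer M24 Q),
      ((g : ↥M24) : Equiv.Perm GolayPt) p = q := by
  refine ⟨?_, quotient_GL d hd Q hQ, ?_⟩
  · obtain ⟨g, hg, hgd, hgQ⟩ := exists_std_quartet d hd Q hQ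
    rw [Nat.card_congr (conjEquiv d Q g hg hgd hgQ).toEquiv, card_H0]
  · intro p hp q hq
    obtain ⟨g, hg, hgp⟩ := trans_on_d d hd Q hQ p q hp hq
    obtain ⟨hF, hgQ⟩ := (mem_HQ d Q g).mp hg
    obtain ⟨hM, hgd⟩ := (mem_stabF d g).mp hF
    refine ⟨⟨g, hM⟩, Subgroup.mem_inf.mpr ⟨MulAction.mem_stabilizer_iff.mpr ?_,
      MulAction.mem_stabilizer_iff.mpr ?_⟩, hgp⟩
    · exact hgd
    · exact hgQ

end Cfsg.Agent.Lib.Helper9.M24QT6
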