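import Cfsg.Agent.Lib.Helper9.M24U3

set_option autoImplicit false

namespace Cfsg.Agent.Lib.Helper9.M24R1

open Cfsg Cfsg.Agent.Lib.Helper9.M24U3

variable {α : Type*} [MulAction (Equiv.Perm GolayPt) α]

/-- grow a list of codes along a certificate: each entry `(j, k)` adds the image under the `j`-th
map of the `k`-th newest code -/
def growG (fs : List (ℕ → ℕ)) : List (ℕ × ℕ) → List ℕ → List ℕ
  | [], L => L
  | (j, k) :: r, L =>
    match fs[j]?, L[k]? with
    | some f, some c => growG fs r (f c :: L)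
    | _, _ => growG fs r L

/-- continuation-passing version of `growG`, evaluating the codes eagerly -/
def growGK (fs : List (ℕ → ℕ)) : List (ℕ × ℕ) → List ℕ → (List ℕ → Bool) → Bool
  | [], L, c => c L
  | (j, k) :: r, L, c =>
    match fs[j]?, L[k]? with
    | some f, some m => withNat (f m) fun v => growGK fs r (v :: L) c
    | _, _ => growGK fs r L c

theorem growGK_eq (fs : List (ℕ → ℕ)) (cert : List (ℕ × ℕ)) (c : List ℕ → Bool) :
    ∀ L : List ℕ, growGK fs cert L c = c (growG fs cert L) := by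
  induction cert with
  | nil => intro L; rfl
  | cons e r ih =>
    intro L
    obtain ⟨j, k⟩ := e
    unfold growGK growG
    split
    · rw [withNat_eq, ih]
    · rw [ih]

theorem growG_sound (H : Subgroup (Equiv.Perm GolayPt)) (X : ℕ → α) (V : ℕ → Prop)
    (fs : List (ℕ → ℕ))
    (hfs : ∀ f ∈ fs, ∃ h ∈ H, ∀ c, V c → h • X c = X (f c) ∧ V (f c)) (c0 : ℕ)
    (cert : List (ℕ × ℕ)) :
    ∀ L : List ℕ, (∀ c ∈ L, V c ∧ ∃ h ∈ H, h • X c0 = X c) →
      ∀ c ∈ growG fs cert L, V c ∧ ∃ h ∈ H, h • X c0 = X c := by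
  induction cert with
  | nil => intro L hL; exact hL
  | cons e r ih =>
    intro L hL
    obtain ⟨j, k⟩ := e
    unfold growG
    split
    · rename_i f m hf hm
      apply ih
      intro c' hc'
      rcases List.mem_cons.mp hc' with rfl | hc'
      · obtain ⟨h, hh, hact⟩ := hfs f (List.mem_of_getElem? hf)
        obtain ⟨hV, h', hh', hm0⟩ := hL m (List.mem_of_getElem? hm)
        obtain ⟨e1, e2⟩ := hact m hV
        exact ⟨e2, h * h', H.mul_mem hh hh', by rw [mul_smul, hm0, e1]⟩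
      · exact hL c' hc'
    · exact ih L hL

/-- transitivity on a class of coded objects from an orbit certificate -/
theorem trans_of_certG (H : Subgroup (Equiv.Perm GolayPt)) (X : ℕ → α) (V : ℕ → Prop)
    (fs : List (ℕ → ℕ))
    (hfs : ∀ f ∈ fs, ∃ h ∈ H, ∀ c, V c → h • X c = X (f c) ∧ V (f c)) (c0 : ℕ) (hc0 : V c0)
    (cert : List (ℕ × ℕ)) (cls : List ℕ)
    (hcls : growGK fs cert [c0] (fun L => cls.all fun m => L.contains m) = true) :
    ∀ m ∈ cls, ∀ m' ∈ cls, ∃ g ∈ H, g • X m = X m' := by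
  rw [growGK_eq] at hcls
  have key : ∀ m ∈ cls, ∃ h ∈ H, h • X c0 = X m := by
    intro m hm
    have h1 := List.all_eq_true.mp hcls m hm
    rw [List.contains_iff_mem] at h1
    refine (growG_sound H X V fs hfs c0 cert [c0] ?_ m h1).2
    intro m' hm'
    rw [List.mem_singleton] at hm'
    exact ⟨by rw [hm']; exact hc0, 1, H.one_mem, by rw [hm', one_smul]⟩
  intro m hm m' hm'
  obtain ⟨h, hh, e⟩ := key m hm
  obtain ⟨h', hh', e'⟩ := key m' hm'
  refine ⟨h' * h⁻¹, H.mul_mem hh' (H.inv_mem hh), ?_⟩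
  rw [← e, mul_smul, inv_smul_smul, e']

/-- counting a class of coded objects by filtering a list of codes -/
theorem ncard_classG {β : Type*} (X : ℕ → β) (lit : List ℕ) (hnd : lit.Nodup)
    (hinj : ∀ c ∈ lit, ∀ c' ∈ lit, X c = X c' → c = c')
    (S : Set β) (hS : ∀ o, o ∈ S ↔ ∃ c ∈ lit, o = X c)
    (P : β → Prop) (Q : ℕ → Bool) (hPQ : ∀ c ∈ lit, P (X c) ↔ Q c = true) :
    {o | o ∈ S ∧ P o}.ncard = (lit.filter Q).length := by
  classical
  have hset : {o | o ∈ S ∧ P o} = ((lit.filter Q).toFinset.image X : Finset β) := by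
    ext o
    rw [Set.mem_ofPred_eq, hS, Finset.mem_coe, Finset.mem_image]
    constructor
    · rintro ⟨⟨c, hc, rfl⟩, hP⟩
      refine ⟨c, ?_, rfl⟩
      rw [List.mem_toFinset, List.mem_filter]
      exact ⟨hc, (hPQ c hc).mp hP⟩
    · rintro ⟨c, hc, rfl⟩
      rw [List.mem_toFinset, List.mem_filter] at hc
      exact ⟨⟨c, hc.1, rfl⟩, (hPQ c hc.1).mpr hc.2⟩
  rw [hset, Set.ncard_coe_finset, Finset.card_image_of_injOn,
    List.toFinset_card_of_nodup (hnd.filter _)]
  intro c hc c' hc' h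
  rw [Finset.mem_coe, List.mem_toFinset, List.mem_filter] at hc hc'
  exact hinj c hc.1 c' hc'.1 h

end Cfsg.Agent.Lib.Helper9.M24R1
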