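import Cfsg.Agent.Lib.Helper9.M24QT6
import Cfsg.Agent.Lib.Helper9.M24R1
import Cfsg.Agent.Lib.Helper9.M24F4

set_option autoImplicit false

/-! Coded quartets: decoding, action of table permutations, validity check, invariant. -/

namespace Cfsg.Agent.Lib.Helper9.M24QT7

open Cfsg Finset Cfsg.Agent.Lib.Helper9.GolayQR1 Cfsg.Agent.Lib.Helper9.M24T1
  Cfsg.Agent.Lib.Helper9.M24T9 Cfsg.Agent.Lib.Helper9.M24T10
  Cfsg.Agent.Lib.Helper9.M24X1
  Cfsg.Agent.Lib.Helper9.M24U1 Cfsg.Agent.Lib.Helper9.M24U4 Cfsg.Agent.Lib.Helper9.M24P1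
  Cfsg.Agent.Lib.Helper9.M24QT1 Cfsg.Agent.Lib.Helper9.M24QT2 Cfsg.Agent.Lib.Helper9.M24QT3
  Cfsg.Agent.Lib.Helper9.M24QT4 Cfsg.Agent.Lib.Helper9.M24QT5
  Cfsg.Agent.Lib.Helper9.M24F1 Cfsg.Agent.Lib.Helper9.M24F4
  Cfsg.Agent.Lib.Helper9.GolayQR2 Cfsg.Agent.Lib.Helper9.GolayQR3
open scoped Pointwise

/-- the four masks of a code -/
def lanes (c : ℕ) : List ℕ :=
  [lane 24 16777215 c 0, lane 24 16777215 c 1, lane 24 16777215 c 2, lane 24 16777215 c 3]

theorem lane_eq (c i : ℕ) : lane 24 16777215 c i = c / 2 ^ (24 * i) % 16777216 := by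
  unfold lane
  change (c >>> (24 * i)) &&& (2 ^ 24 - 1) = _
  rw [Nat.and_two_pow_sub_one_eq_mod, Nat.shiftRight_eq_div_pow]

theorem lane_lt (c i : ℕ) : lane 24 16777215 c i < 2 ^ 24 := by
  rw [lane_eq]
  exact Nat.mod_lt _ (by norm_num)

theorem lanes_lt (c : ℕ) : ∀ a ∈ lanes c, a < 2 ^ 24 := by
  intro a ha
  unfold lanes at ha
  simp only [List.mem_cons, List.not_mem_nil, or_false] at ha
  rcases ha with rfl | rfl | rfl | rfl <;> exact lane_lt _ _

/-- packing four masks -/
def pack (l : List ℕ) : ℕ :=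
  l.getD 0 0 + 16777216 * l.getD 1 0 + 281474976710656 * l.getD 2 0 +
    4722366482869645213696 * l.getD 3 0

theorem lanes_pack (a b c d : ℕ) (ha : a < 2 ^ 24) (hb : b < 2 ^ 24) (hc : c < 2 ^ 24)
    (hd : d < 2 ^ 24) : lanes (pack [a, b, c, d]) = [a, b, c, d] := by
  unfold lanes pack
  simp only [List.getD_cons_zero, List.getD_cons_succ]
  rw [lane_eq, lane_eq, lane_eq, lane_eq]
  norm_num at ha hb hc hd ⊢
  refine ⟨?_, ?_, ?_, ?_⟩ <;> omega

/-- the quartet of a code -/
def Qx (c : ℕ) : Finset (Finset GolayPt) := (lanes c).toFinset.image M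

/-- the action of a table on codes -/
def fQ (tab : List ℕ) (c : ℕ) : ℕ := pack ((lanes c).map (pull tab))

theorem lanes_fQ (tab : List ℕ) (c : ℕ) : lanes (fQ tab c) = (lanes c).map (pull tab) := by
  unfold fQ
  conv_lhs => rw [show lanes c = [lane 24 16777215 c 0, lane 24 16777215 c 1,
    lane 24 16777215 c 2, lane 24 16777215 c 3] from rfl]
  conv_rhs => rw [show lanes c = [lane 24 16777215 c 0, lane 24 16777215 c 1,
    lane 24 16777215 c 2, lane 24 16777215 c 3] from rfl]
  simp only [List.map_cons, List.map_nil]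
  exact lanes_pack _ _ _ _ (pull_lt _ _) (pull_lt _ _) (pull_lt _ _) (pull_lt _ _)

theorem smul_Qx (h : Equiv.Perm GolayPt) (tab : List ℕ) (hh : ∀ m, h • M m = M (pull tab m))
    (c : ℕ) : h • Qx c = Qx (fQ tab c) := by
  unfold Qx
  have e : ((lanes c).map (pull tab)).toFinset = (lanes c).toFinset.image (pull tab) := by
    ext x
    simp only [List.mem_toFinset, List.mem_map, mem_image]
  rw [lanes_fQ, e, Finset.image_image]
  change Finset.image (fun t => h • t) _ = _
  rw [Finset.image_image]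
  apply Finset.image_congr
  intro a _
  exact hh a

/-! ### membership of table permutations in `H0` -/

theorem tperm_mem_H0 (l l' : List ℕ) (h1 : ∀ p, tfun l' (tfun l p) = p)
    (h2 : ∀ p, tfun l (tfun l' p) = p) (c1 : ∀ p : GolayPt, l.getD (idx p) 0 < 24)
    (c2 : ∀ p : GolayPt, l'.getD (idx p) 0 < 24)
    (c3 : ∀ j : Fin 12, reprod (pull l (bmask j)) = pull l (bmask j))
    (c4 : pull l' dMask = dMask) (c5 : pull l' 7 ∈ Q0L) (c6 : pull l' 152 ∈ Q0L)
    (c7' : pull l' 6291488 ∈ Q0L) (c8 : pull l' 8652800 ∈ Q0L) :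
    tperm l l' h1 h2 ∈ H0 := by
  have hS : tperm l l' h1 h2 ∈ stabC [] [dMask] :=
    tperm_mem_stabC _ _ _ _ c1 c2 c3 [] [dMask] (fun _ h => absurd h List.not_mem_nil)
      (fun m hm => by rw [List.mem_singleton.mp hm]; exact c4)
  rw [mem_stabC] at hS
  rw [mem_HQ, mem_stabF]
  refine ⟨⟨hS.1, hS.2.2 dMask (by simp)⟩, ?_⟩
  have hsm : ∀ m, tperm l l' h1 h2 • M m = M (pull l' m) := fun m => tperm_smul_M _ _ _ _ c2 m
  apply eq_of_subset_of_card_le
  · rw [smul_Q0, hsm, hsm, hsm, hsm]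
    intro t ht
    simp only [mem_insert, mem_singleton] at ht
    rcases ht with rfl | rfl | rfl | rfl
    · exact M_mem_Q0 _ c5
    · exact M_mem_Q0 _ c6
    · exact M_mem_Q0 _ c7'
    · exact M_mem_Q0 _ c8
  · rw [card_smul_finset]

/-! ### validity check -/

/-- a mask is a hexad of the standard dodecad -/
def isHexB (h : ℕ) : Bool := wt24 h == 6 && octadLit.any (fun o => o &&& dMask == h)

/-- a code is a quartet of the standard dodecad -/
def isQB (c : ℕ) : Bool :=
  decide (lanes c).Nodup && (lanes c).all (fun a => wt24 a == 3 && a &&& dMask == a &&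
    (lanes c).all (fun b => a == b || isHexB (a ||| b)))

theorem M_injOn_lanes (c : ℕ) : Set.InjOn M ((lanes c).toFinset : Set ℕ) := by
  intro a ha b hb h
  rw [mem_coe, List.mem_toFinset] at ha hb
  exact M_inj a b (lanes_lt c a ha) (lanes_lt c b hb) h

theorem lanes_length (c : ℕ) : (lanes c).length = 4 := rfl

theorem isQB_sound (c : ℕ) (h : isQB c = true) : Qx c ∈ quartets D12 := by
  unfold isQB at h
  rw [Bool.and_eq_true, decide_eq_true_eq, List.all_eq_true] at h
  obtain ⟨hnd, hall⟩ := h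
  refine ⟨?_, ?_, ?_⟩
  · unfold Qx
    rw [card_image_of_injOn (M_injOn_lanes c), List.toFinset_card_of_nodup hnd, lanes_length]
  · intro t ht
    unfold Qx at ht
    obtain ⟨a, ha, rfl⟩ := mem_image.mp ht
    rw [List.mem_toFinset] at ha
    have := hall a ha
    simp only [Bool.and_eq_true, beq_iff_eq] at this
    exact ⟨by rw [card_M]; exact this.1.1, sub_D12 a this.1.2⟩
  · intro t ht u hu hne
    unfold Qx at ht hu
    obtain ⟨a, ha, rfl⟩ := mem_image.mp ht
    obtain ⟨b, hb, rfl⟩ := mem_image.mp hu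
    rw [List.mem_toFinset] at ha hb
    have h1 := hall a ha
    simp only [Bool.and_eq_true, beq_iff_eq, List.all_eq_true, Bool.or_eq_true] at h1
    rcases h1.2 b hb with h2 | h2
    · exact absurd (by rw [h2]) hne
    · unfold isHexB at h2
      simp only [Bool.and_eq_true, beq_iff_eq, List.any_eq_true] at h2
      obtain ⟨h6, o, ho, hoe⟩ := h2
      exact hex_fact a b o ho h6 hoe

/-! ### injectivity -/

/-- a symmetric function of the masks separating the codes -/
def sqsum (c : ℕ) : ℕ := ((lanes c).map (fun x => x * x)).sum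

theorem toFinset_of_Qx (c c' : ℕ) (h : Qx c = Qx c') : (lanes c).toFinset ⊆ (lanes c').toFinset := by
  intro x hx
  have h1 : M x ∈ Qx c := mem_image_of_mem M hx
  rw [h] at h1
  obtain ⟨y, hy, hyx⟩ := mem_image.mp h1
  rw [List.mem_toFinset] at hx hy
  have := M_inj y x (lanes_lt c' y hy) (lanes_lt c x hx) hyx
  rw [← this]
  exact List.mem_toFinset.mpr hy

theorem sqsum_eq (c c' : ℕ) (hn : (lanes c).Nodup) (hn' : (lanes c').Nodup) (h : Qx c = Qx c') :
    sqsum c = sqsum c' := by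
  have e : (lanes c).toFinset = (lanes c').toFinset :=
    subset_antisymm (toFinset_of_Qx c c' h) (toFinset_of_Qx c' c h.symm)
  unfold sqsum
  rw [← List.sum_toFinset _ hn, ← List.sum_toFinset _ hn', e]

/-! ### the invariant -/

theorem Q0_eq_image : Q0 = Q0L.toFinset.image M := by
  unfold Q0 Q0L
  simp only [List.toFinset_cons, List.toFinset_nil, insert_empty_eq, image_insert,
    image_singleton]

/-- the invariant on codes -/
def invL (c : ℕ) : ℕ := iotaL Q0L (lanes c)

theorem iota_Qx (c : ℕ) (hn : (lanes c).Nodup) : iota Q0 (Qx c) = invL c := by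
  rw [Q0_eq_image]
  unfold Qx invL
  exact iota_image _ _ (by decide) hn (by decide) (lanes_lt c)

end Cfsg.Agent.Lib.Helper9.M24QT7
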