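import Cfsg.Agent.Lib.Helper9.M24QT8

set_option autoImplicit false

/-! The orbits of the stabilizer of a quartet on the quartets: sizes 1, 12, 27, 72, 108. -/

namespace Cfsg.Agent.Lib.Helper9.M24QT9

open Cfsg Finset Cfsg.Agent.Lib.Helper9.GolayQR1 Cfsg.Agent.Lib.Helper9.M24T1
  Cfsg.Agent.Lib.Helper9.M24T9 Cfsg.Agent.Lib.Helper9.M24X1
  Cfsg.Agent.Lib.Helper9.M24U1 Cfsg.Agent.Lib.Helper9.M24U3 Cfsg.Agent.Lib.Helper9.M24U4
  Cfsg.Agent.Lib.Helper9.M24QT1 Cfsg.Agent.Lib.Helper9.M24QT2 Cfsg.Agent.Lib.Helper9.M24QT3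
  Cfsg.Agent.Lib.Helper9.M24QT4 Cfsg.Agent.Lib.Helper9.M24QT5 Cfsg.Agent.Lib.Helper9.M24QT7
  Cfsg.Agent.Lib.Helper9.M24QT8 Cfsg.Agent.Lib.Helper9.M24F4
open scoped Pointwise

theorem lit_nodup_lanes (c : ℕ) (hc : c ∈ lit) : (lanes c).Nodup := by
  have := List.all_eq_true.mp lit_lanes c hc
  simpa using this

theorem lit_nodup : lit.Nodup := List.Nodup.of_map _ lit_sq

theorem lit_inj (c c' : ℕ) (hc : c ∈ lit) (hc' : c' ∈ lit) (h : Qx c = Qx c') : c = c' :=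
  List.inj_on_of_nodup_map lit_sq hc hc'
    (sqsum_eq c c' (lit_nodup_lanes c hc) (lit_nodup_lanes c' hc') h)

theorem Qx_cQ0 : Qx cQ0 = Q0 := by
  unfold Qx
  rw [lanes_cQ0, ← Q0_eq_image]

theorem sub1 : ∀ c ∈ cls1, c ∈ lit := fun c hc => by
  unfold lit; simp [hc]
theorem sub2 : ∀ c ∈ cls2, c ∈ lit := fun c hc => by
  unfold lit; simp [hc]
theorem sub3 : ∀ c ∈ cls3, c ∈ lit := fun c hc => by
  unfold lit; simp [hc]
theorem sub4 : ∀ c ∈ cls4, c ∈ lit := fun c hc => by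
  unfold lit; simp [hc]

theorem mem_lit (c : ℕ) : c ∈ lit ↔ c = cQ0 ∨ c ∈ cls1 ∨ c ∈ cls2 ∨ c ∈ cls3 ∨ c ∈ cls4 := by
  unfold lit
  simp only [List.mem_cons, List.mem_append, or_assoc]

theorem H0_quartet (g : Equiv.Perm GolayPt) (hg : g ∈ H0) (y : Finset (Finset GolayPt))
    (hy : y ∈ quartets D12) : g • y ∈ quartets D12 := by
  obtain ⟨hF, -⟩ := (mem_HQ D12 Q0 g).mp hg
  obtain ⟨hM, hD⟩ := (mem_stabF D12 g).mp hF
  have := smul_quartet_mem g hM D12 y hy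
  rwa [hD] at this

theorem cls_quartet (cls : List ℕ) (rep : ℕ) (hrep : rep ∈ cls) (hv : isQB rep = true)
    (htr : ∀ m ∈ cls, ∀ m' ∈ cls, ∃ g ∈ H0, g • Qx m = Qx m') (c : ℕ) (hc : c ∈ cls) :
    Qx c ∈ quartets D12 := by
  obtain ⟨g, hg, e⟩ := htr rep hrep c hc
  rw [← e]
  exact H0_quartet g hg _ (isQB_sound rep hv)

theorem lit_quartet (c : ℕ) (hc : c ∈ lit) : Qx c ∈ quartets D12 := by
  rcases (mem_lit c).mp hc with rfl | h | h | h | h
  · rw [Qx_cQ0]; exact Q0_mem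
  · exact cls_quartet cls1 rep1 rep1_mem rep1_valid trans1 c h
  · exact cls_quartet cls2 rep2 rep2_mem rep2_valid trans2 c h
  · exact cls_quartet cls3 rep3 rep3_mem rep3_valid trans3 c h
  · exact cls_quartet cls4 rep4 rep4_mem rep4_valid trans4 c h

theorem mem_quartets_std (y : Finset (Finset GolayPt)) :
    y ∈ quartets D12 ↔ ∃ c ∈ lit, y = Qx c := by
  constructor
  · intro hy
    have hsub : lit.toFinset.image Qx ⊆ (quartets_finite D12).toFinset := by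
      intro z hz
      obtain ⟨c, hc, rfl⟩ := mem_image.mp hz
      rw [Set.Finite.mem_toFinset]
      exact lit_quartet c (List.mem_toFinset.mp hc)
    have hcard : (lit.toFinset.image Qx).card = 220 := by
      rw [card_image_of_injOn, List.toFinset_card_of_nodup lit_nodup, lit_length]
      intro c hc c' hc' h
      rw [mem_coe, List.mem_toFinset] at hc hc'
      exact lit_inj c c' hc hc' h
    have heq := eq_of_subset_of_card_le hsub (by
      rw [hcard, ← Set.ncard_eq_toFinset_card _ (quartets_finite D12), card_quartets D12 D12_mem])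
    have : y ∈ lit.toFinset.image Qx := by
      rw [heq, Set.Finite.mem_toFinset]
      exact hy
    obtain ⟨c, hc, rfl⟩ := mem_image.mp this
    exact ⟨c, List.mem_toFinset.mp hc, rfl⟩
  · rintro ⟨c, hc, rfl⟩
    exact lit_quartet c hc

theorem orbit_eq (cls : List ℕ) (rep v : ℕ) (hsub : ∀ c ∈ cls, c ∈ lit) (hrep : rep ∈ cls)
    (hv : invL rep = v) (htr : ∀ m ∈ cls, ∀ m' ∈ cls, ∃ g ∈ H0, g • Qx m = Qx m')
    (hchk : lit.all (fun c => !(invL c == v) || cls.contains c) = true) :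
    MulAction.orbit ↥H0 (Qx rep) = Qx '' {c | c ∈ cls} := by
  ext y
  constructor
  · rintro ⟨h, rfl⟩
    have hq : h.1 • Qx rep ∈ quartets D12 :=
      H0_quartet h.1 h.2 _ (lit_quartet rep (hsub rep hrep))
    obtain ⟨c, hc, e⟩ := (mem_quartets_std _).mp hq
    have hQ0 : h.1 • Q0 = Q0 := ((mem_HQ D12 Q0 h.1).mp h.2).2
    have hi : invL c = v := by
      rw [← iota_Qx c (lit_nodup_lanes c hc), ← e, iota_smul_right h.1 Q0 _ hQ0,
        iota_Qx rep (lit_nodup_lanes rep (hsub rep hrep)), hv]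
    have := List.all_eq_true.mp hchk c hc
    rw [hi] at this
    simp only [beq_self_eq_true, Bool.not_true, Bool.false_or, List.contains_iff_mem] at this
    exact ⟨c, this, e.symm⟩
  · rintro ⟨c, hc, rfl⟩
    obtain ⟨g, hg, e⟩ := htr rep hrep c hc
    exact ⟨⟨g, hg⟩, e⟩

theorem orbit_ncard (cls : List ℕ) (rep v : ℕ) (hsub : ∀ c ∈ cls, c ∈ lit) (hrep : rep ∈ cls)
    (hv : invL rep = v) (htr : ∀ m ∈ cls, ∀ m' ∈ cls, ∃ g ∈ H0, g • Qx m = Qx m')
    (hchk : lit.all (fun c => !(invL c == v) || cls.contains c) = true) (hnd : cls.Nodup) :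
    (MulAction.orbit ↥H0 (Qx rep)).ncard = cls.length := by
  rw [orbit_eq cls rep v hsub hrep hv htr hchk]
  have : Qx '' {c | c ∈ cls} = ((cls.toFinset.image Qx : Finset _) : Set _) := by
    ext y
    simp only [Set.mem_image, Set.mem_setOf_eq, coe_image, List.coe_toFinset]
  rw [this, Set.ncard_coe_finset, card_image_of_injOn, List.toFinset_card_of_nodup hnd]
  intro c hc c' hc' h
  rw [mem_coe, List.mem_toFinset] at hc hc'
  exact lit_inj c c' (hsub c hc) (hsub c' hc') h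

theorem nodup_all : (cls1 ++ cls2 ++ cls3 ++ cls4).Nodup := (List.nodup_cons.mp lit_nodup).2

theorem nd1 : cls1.Nodup := nodup_all.of_append_left.of_append_left.of_append_left
theorem nd2 : cls2.Nodup := nodup_all.of_append_left.of_append_left.of_append_right
theorem nd3 : cls3.Nodup := nodup_all.of_append_left.of_append_right
theorem nd4 : cls4.Nodup := nodup_all.of_append_right

theorem std_result : ∃ X₁ ∈ quartets D12, ∃ X₂ ∈ quartets D12, ∃ X₃ ∈ quartets D12,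
    ∃ X₄ ∈ quartets D12, (MulAction.orbit ↥H0 X₁).ncard = 12 ∧
    (MulAction.orbit ↥H0 X₂).ncard = 27 ∧ (MulAction.orbit ↥H0 X₃).ncard = 72 ∧
    (MulAction.orbit ↥H0 X₄).ncard = 108 ∧
    quartets D12 = {Q0} ∪ MulAction.orbit ↥H0 X₁ ∪ MulAction.orbit ↥H0 X₂ ∪
      MulAction.orbit ↥H0 X₃ ∪ MulAction.orbit ↥H0 X₄ := by
  refine ⟨Qx rep1, lit_quartet _ (sub1 _ rep1_mem), Qx rep2, lit_quartet _ (sub2 _ rep2_mem),
    Qx rep3, lit_quartet _ (sub3 _ rep3_mem), Qx rep4, lit_quartet _ (sub4 _ rep4_mem),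
    ?_, ?_, ?_, ?_, ?_⟩
  · rw [orbit_ncard cls1 rep1 _ sub1 rep1_mem rep1_inv trans1 inv1 nd1, cls1_length]
  · rw [orbit_ncard cls2 rep2 _ sub2 rep2_mem rep2_inv trans2 inv2 nd2, cls2_length]
  · rw [orbit_ncard cls3 rep3 _ sub3 rep3_mem rep3_inv trans3 inv3 nd3, cls3_length]
  · rw [orbit_ncard cls4 rep4 _ sub4 rep4_mem rep4_inv trans4 inv4 nd4, cls4_length]
  · rw [orbit_eq cls1 rep1 _ sub1 rep1_mem rep1_inv trans1 inv1,
      orbit_eq cls2 rep2 _ sub2 rep2_mem rep2_inv trans2 inv2,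
      orbit_eq cls3 rep3 _ sub3 rep3_mem rep3_inv trans3 inv3,
      orbit_eq cls4 rep4 _ sub4 rep4_mem rep4_inv trans4 inv4]
    ext y
    rw [mem_quartets_std]
    simp only [Set.mem_union, Set.mem_singleton_iff, Set.mem_image, Set.mem_setOf_eq]
    constructor
    · rintro ⟨c, hc, rfl⟩
      rcases (mem_lit c).mp hc with rfl | h | h | h | h
      · left; left; left; left; exact Qx_cQ0
      · left; left; left; right; exact ⟨c, h, rfl⟩
      · left; left; right; exact ⟨c, h, rfl⟩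
      · left; right; exact ⟨c, h, rfl⟩
      · right; exact ⟨c, h, rfl⟩
    · rintro ((((h | ⟨c, h, rfl⟩) | ⟨c, h, rfl⟩) | ⟨c, h, rfl⟩) | ⟨c, h, rfl⟩)
      · exact ⟨cQ0, (mem_lit _).mpr (Or.inl rfl), by rw [h, Qx_cQ0]⟩
      · exact ⟨c, sub1 c h, rfl⟩
      · exact ⟨c, sub2 c h, rfl⟩
      · exact ⟨c, sub3 c h, rfl⟩
      · exact ⟨c, sub4 c h, rfl⟩

/-! ### transport -/

theorem orbit_conj (d : Finset GolayPt) (Q : Finset (Finset GolayPt)) (g : Equiv.Perm GolayPt)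
    (hg : g ∈ M24) (hgd : g • D12 = d) (hgQ : g • Q0 = Q) (X : Finset (Finset GolayPt)) :
    MulAction.orbit ↥(MulAction.stabilizer M24 d ⊓ MulAction.stabilizer M24 Q) (g • X) =
      (fun z => g • z) '' MulAction.orbit ↥H0 X := by
  ext z
  constructor
  · rintro ⟨⟨⟨h, hM⟩, hs⟩, rfl⟩
    rw [Subgroup.mem_inf, MulAction.mem_stabilizer_iff, MulAction.mem_stabilizer_iff] at hs
    have h1 : h • d = d := hs.1
    have h2 : h • Q = Q := hs.2
    refine ⟨(g⁻¹ * h * g) • X, ⟨⟨g⁻¹ * h * g, ?_⟩, rfl⟩, ?_⟩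
    · rw [mem_HQ, mem_stabF]
      refine ⟨⟨M24.mul_mem (M24.mul_mem (M24.inv_mem hg) hM) hg, ?_⟩, ?_⟩
      · rw [mul_smul, mul_smul, hgd, h1, ← hgd, inv_smul_smul]
      · rw [mul_smul, mul_smul, hgQ, h2, ← hgQ, inv_smul_smul]
    · change g • (g⁻¹ * h * g) • X = h • g • X
      rw [← mul_smul, ← mul_smul, mul_assoc, mul_inv_cancel_left]
  · rintro ⟨_, ⟨⟨h, hh⟩, rfl⟩, rfl⟩
    obtain ⟨hF, hQ0⟩ := (mem_HQ D12 Q0 h).mp hh
    obtain ⟨hM, hD⟩ := (mem_stabF D12 h).mp hF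
    refine ⟨⟨⟨g * h * g⁻¹, M24.mul_mem (M24.mul_mem hg hM) (M24.inv_mem hg)⟩, ?_⟩, ?_⟩
    · refine Subgroup.mem_inf.mpr ⟨MulAction.mem_stabilizer_iff.mpr ?_,
        MulAction.mem_stabilizer_iff.mpr ?_⟩
      · change (g * h * g⁻¹) • d = d
        rw [mul_smul, mul_smul, ← hgd, inv_smul_smul, hD]
      · change (g * h * g⁻¹) • Q = Q
        rw [mul_smul, mul_smul, ← hgQ, inv_smul_smul, hQ0]
    · change (g * h * g⁻¹) • g • X = g • h • X
      rw [← mul_smul, ← mul_smul, mul_assoc, mul_assoc, inv_mul_cancel, mul_one]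

theorem main (d : Finset GolayPt) (hd : d ∈ dodecads) (Q : Finset (Finset GolayPt))
    (hQ : Q ∈ quartets d) :
    ∃ X₁ ∈ quartets d, ∃ X₂ ∈ quartets d, ∃ X₃ ∈ quartets d, ∃ X₄ ∈ quartets d,
    (MulAction.orbit ↥(MulAction.stabilizer M24 d ⊓ MulAction.stabilizer M24 Q) X₁).ncard = 12 ∧
    (MulAction.orbit ↥(MulAction.stabilizer M24 d ⊓ MulAction.stabilizer M24 Q) X₂).ncard = 27 ∧
    (MulAction.orbit ↥(MulAction.stabilizer M24 d ⊓ MulAction.stabilizer M24 Q) X₃).ncard = 72 ∧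
    (MulAction.orbit ↥(MulAction.stabilizer M24 d ⊓ MulAction.stabilizer M24 Q) X₄).ncard = 108 ∧
    quartets d = {Q} ∪
      MulAction.orbit ↥(MulAction.stabilizer M24 d ⊓ MulAction.stabilizer M24 Q) X₁ ∪
      MulAction.orbit ↥(MulAction.stabilizer M24 d ⊓ MulAction.stabilizer M24 Q) X₂ ∪
      MulAction.orbit ↥(MulAction.stabilizer M24 d ⊓ MulAction.stabilizer M24 Q) X₃ ∪
      MulAction.orbit ↥(MulAction.stabilizer M24 d ⊓ MulAction.stabilizer M24 Q) X₄ := by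
  obtain ⟨g0, hg0, hg0d, hg0Q⟩ := exists_std_quartet d hd Q hQ
  obtain ⟨g, hgdef⟩ : ∃ g : Equiv.Perm GolayPt, g = g0⁻¹ := ⟨_, rfl⟩
  have hg : g ∈ M24 := by rw [hgdef]; exact M24.inv_mem hg0
  have hgd : g • D12 = d := by rw [hgdef, inv_smul_eq_iff, hg0d]
  have hgQ : g • Q0 = Q := by rw [hgdef, inv_smul_eq_iff, hg0Q]
  obtain ⟨X₁, h1, X₂, h2, X₃, h3, X₄, h4, n1, n2, n3, n4, hU⟩ := std_result
  have hq : ∀ X ∈ quartets D12, g • X ∈ quartets d := by
    intro X hX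
    have := smul_quartet_mem g hg D12 X hX
    rwa [hgd] at this
  have hinj : Function.Injective (fun z : Finset (Finset GolayPt) => g • z) :=
    MulAction.injective g
  refine ⟨g • X₁, hq _ h1, g • X₂, hq _ h2, g • X₃, hq _ h3, g • X₄, hq _ h4, ?_, ?_, ?_, ?_, ?_⟩
  · rw [orbit_conj d Q g hg hgd hgQ, Set.ncard_image_of_injective _ hinj, n1]
  · rw [orbit_conj d Q g hg hgd hgQ, Set.ncard_image_of_injective _ hinj, n2]
  · rw [orbit_conj d Q g hg hgd hgQ, Set.ncard_image_of_injective _ hinj, n3]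
  · rw [orbit_conj d Q g hg hgd hgQ, Set.ncard_image_of_injective _ hinj, n4]
  · have e1 : ({Q} : Set (Finset (Finset GolayPt))) = (fun z => g • z) '' {Q0} := by
      rw [Set.image_singleton, hgQ]
    rw [orbit_conj d Q g hg hgd hgQ, orbit_conj d Q g hg hgd hgQ, orbit_conj d Q g hg hgd hgQ,
      orbit_conj d Q g hg hgd hgQ, e1, ← Set.image_union, ← Set.image_union, ← Set.image_union,
      ← Set.image_union, ← hU]
    ext y
    constructor
    · intro hy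
      refine ⟨g⁻¹ • y, ?_, smul_inv_smul g y⟩
      have := smul_quartet_mem g⁻¹ (M24.inv_mem hg) d y hy
      rwa [← hgd, inv_smul_smul] at this
    · rintro ⟨x, hx, rfl⟩
      exact hq x hx

end Cfsg.Agent.Lib.Helper9.M24QT9
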