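import Cfsg.Agent.Lib.Helper9.M24X1

set_option autoImplicit false

namespace Cfsg.Agent.Lib.Helper9.M24Z7

open Cfsg Finset Cfsg.Agent.Lib.Helper9.Golay1 Cfsg.Agent.Lib.Helper9.GolayQR1
  Cfsg.Agent.Lib.Helper9.M24T1 Cfsg.Agent.Lib.Helper9.M24T3 Cfsg.Agent.Lib.Helper9.M24T8
  Cfsg.Agent.Lib.Helper9.M24T9
  Cfsg.Agent.Lib.Helper9.M24U1 Cfsg.Agent.Lib.Helper9.M24U2 Cfsg.Agent.Lib.Helper9.M24U3
  Cfsg.Agent.Lib.Helper9.M24U4 Cfsg.Agent.Lib.Helper9.M24U6 Cfsg.Agent.Lib.Helper9.M24X1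
open scoped Pointwise

/-- generator `Q1` -/
def Q1 : Equiv.Perm GolayPt :=
  tperm [0, 1, 22, 2, 11, 4, 15, 3, 20, 14, 9, 18, 6, 10, 13, 19, 17, 16, 5, 12, 8, 21, 7, 23]
    [0, 1, 3, 7, 5, 18, 12, 22, 20, 10, 13, 4, 19, 14, 9, 6, 17, 16, 11, 15, 8, 21, 2, 23] (by decide +kernel) (by decide +kernel)

theorem Q1_mem : Q1 ∈ M24 := tperm_mem _ _ _ _ (by decide +kernel) (by decide +kernel)

theorem Q1_smul (m : ℕ) : Q1 • M m = M (pull [0, 1, 3, 7, 5, 18, 12, 22, 20, 10, 13, 4, 19, 14, 9, 6, 17, 16, 11, 15, 8, 21, 2, 23] m) :=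
  tperm_smul_M _ _ _ _ (by decide +kernel) m

theorem Q1_stab : Q1 ∈ stabC [23, 0, 1] [dMask] := by
  exact tperm_mem_stabC _ _ _ _ (by decide +kernel) (by decide +kernel) (by decide +kernel)
    [23, 0, 1] [dMask] (by decide +kernel) (by decide +kernel)

/-- generator `Q2` -/
def Q2 : Equiv.Perm GolayPt :=
  tperm [0, 1, 11, 4, 18, 3, 17, 7, 9, 15, 6, 21, 13, 12, 20, 16, 8, 19, 5, 10, 14, 22, 2, 23]
    [0, 1, 22, 5, 3, 18, 10, 7, 16, 8, 19, 2, 13, 12, 20, 9, 15, 6, 4, 17, 14, 11, 21, 23] (by decide +kernel) (by decide +kernel)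

theorem Q2_mem : Q2 ∈ M24 := tperm_mem _ _ _ _ (by decide +kernel) (by decide +kernel)

theorem Q2_smul (m : ℕ) : Q2 • M m = M (pull [0, 1, 22, 5, 3, 18, 10, 7, 16, 8, 19, 2, 13, 12, 20, 9, 15, 6, 4, 17, 14, 11, 21, 23] m) :=
  tperm_smul_M _ _ _ _ (by decide +kernel) m

theorem Q2_stab : Q2 ∈ stabC [23, 0, 1] [dMask] := by
  exact tperm_mem_stabC _ _ _ _ (by decide +kernel) (by decide +kernel) (by decide +kernel)
    [23, 0, 1] [dMask] (by decide +kernel) (by decide +kernel)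

/-- the inverse tables of the generators -/
def tabsQ : List (List ℕ) :=
  [[0, 1, 3, 7, 5, 18, 12, 22, 20, 10, 13, 4, 19, 14, 9, 6, 17, 16, 11, 15, 8, 21, 2, 23],
    [0, 1, 22, 5, 3, 18, 10, 7, 16, 8, 19, 2, 13, 12, 20, 9, 15, 6, 4, 17, 14, 11, 21, 23]]

theorem htabsQ : ∀ t ∈ tabsQ, ∃ h ∈ stabC [23, 0, 1] [dMask], ∀ m, h • M m = M (pull t m) := by
  intro t ht
  simp only [tabsQ, List.mem_cons, List.not_mem_nil, or_false] at ht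
  rcases ht with rfl | rfl
  · exact ⟨Q1, Q1_stab, Q1_smul⟩
  · exact ⟨Q2, Q2_stab, Q2_smul⟩

end Cfsg.Agent.Lib.Helper9.M24Z7
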