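import Cfsg.Agent.Lib.Helper9.M24Z10
import Cfsg.Agent.Lib.Helper9.M24Z7

set_option autoImplicit false

namespace Cfsg.Agent.Lib.Helper9.M24Z11

open Cfsg Finset Cfsg.Agent.Lib.Helper9.GolayQR1 Cfsg.Agent.Lib.Helper9.M24T1
  Cfsg.Agent.Lib.Helper9.M24T9 Cfsg.Agent.Lib.Helper9.M24T10
  Cfsg.Agent.Lib.Helper9.M24T11 Cfsg.Agent.Lib.Helper9.M24X1 Cfsg.Agent.Lib.Helper9.M24X4
  Cfsg.Agent.Lib.Helper9.M24X6
  Cfsg.Agent.Lib.Helper9.M24W2 Cfsg.Agent.Lib.Helper9.M24Z7 Cfsg.Agent.Lib.Helper9.M24Z10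
  Cfsg.Agent.Lib.Helper9.Chain1
open scoped Pointwise

/-- comparing a subgroup of `M24` as a type with the corresponding permutation group -/
theorem card_eq_of_iff (K : Subgroup ↥M24) (K' : Subgroup (Equiv.Perm GolayPt))
    (h : ∀ g : Equiv.Perm GolayPt, g ∈ K' ↔ ∃ hg : g ∈ M24, (⟨g, hg⟩ : M24) ∈ K) :
    Nat.card K = Nat.card K' := by
  apply Nat.card_congr
  exact
    { toFun := fun k => ⟨k.1.1, (h _).mpr ⟨k.1.2, k.2⟩⟩
      invFun := fun k' => ⟨⟨k'.1, ((h _).mp k'.2).1⟩, ((h _).mp k'.2).2⟩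
      left_inv := fun k => rfl
      right_inv := fun k' => rfl }

/-- the pointwise stabilizer of three points of a dodecad in its stabilizer has order 72 -/
theorem card_three (d : Finset GolayPt) (hd : d ∈ dodecads) (p q r : GolayPt) (hp : p ∈ d)
    (hq : q ∈ d) (hr : r ∈ d) (hpq : p ≠ q) (hpr : p ≠ r) (hqr : q ≠ r) :
    Nat.card ↥(stabF d ⊓ MulAction.stabilizer (Equiv.Perm GolayPt) p ⊓
      MulAction.stabilizer (Equiv.Perm GolayPt) q ⊓
      MulAction.stabilizer (Equiv.Perm GolayPt) r) = 72 := by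
  have h12 : d.card = 12 := hd.2
  have hmemd : ∀ g ∈ stabF d, ∀ x ∈ d, g x ∈ d := by
    intro g hg x hx
    have := ((mem_stabF d g).mp hg).2
    rw [← this]
    exact Finset.smul_mem_smul_finset hx
  have h1 := card_stab_point d hd p hp
  have h2 := card_step (stabF d ⊓ MulAction.stabilizer (Equiv.Perm GolayPt) p) q (d.erase p)
    (fun g hg => by
      obtain ⟨hg1, hg2⟩ := (mem_inf_stab _ _ _).mp hg
      refine mem_erase.mpr ⟨fun h => hpq ?_, hmemd g hg1 q hq⟩
      rw [← hg2] at h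
      exact (g.injective h).symm)
    (fun x hx => by
      obtain ⟨hxp, hxd⟩ := mem_erase.mp hx
      obtain ⟨g, hg, hmap⟩ := dodecad_map_list d hd [p, q] [p, x] (by simp [hpq])
        (by simp [hxp.symm]) (by simp [hp, hq]) (by simp [hp, hxd]) rfl (by simp)
      simp only [List.map_cons, List.map_nil, List.cons.injEq, and_true] at hmap
      exact ⟨g, (mem_inf_stab _ _ _).mpr ⟨hg, hmap.1⟩, hmap.2⟩)
  have h3 := card_step (stabF d ⊓ MulAction.stabilizer (Equiv.Perm GolayPt) p ⊓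
      MulAction.stabilizer (Equiv.Perm GolayPt) q) r ((d.erase p).erase q)
    (fun g hg => by
      obtain ⟨hg12, hg3⟩ := (mem_inf_stab _ _ _).mp hg
      obtain ⟨hg1, hg2⟩ := (mem_inf_stab _ _ _).mp hg12
      refine mem_erase.mpr ⟨fun h => hqr ?_, mem_erase.mpr ⟨fun h => hpr ?_, hmemd g hg1 r hr⟩⟩
      · rw [← hg3] at h
        exact (g.injective h).symm
      · rw [← hg2] at h
        exact (g.injective h).symm)
    (fun x hx => by
      obtain ⟨hxq, hx'⟩ := mem_erase.mp hx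
      obtain ⟨hxp, hxd⟩ := mem_erase.mp hx'
      obtain ⟨g, hg, hmap⟩ := dodecad_map_list d hd [p, q, r] [p, q, x] (by simp [hpq, hpr, hqr])
        (by simp [hpq, hxp.symm, hxq.symm]) (by simp [hp, hq, hr]) (by simp [hp, hq, hxd]) rfl
        (by simp)
      simp only [List.map_cons, List.map_nil, List.cons.injEq, and_true] at hmap
      exact ⟨g, (mem_inf_stab _ _ _).mpr ⟨(mem_inf_stab _ _ _).mpr ⟨hg, hmap.1⟩, hmap.2.1⟩,
        hmap.2.2⟩)
  rw [card_erase_of_mem hp, h12] at h2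
  rw [card_erase_of_mem (mem_erase.mpr ⟨hpq.symm, hq⟩), card_erase_of_mem hp, h12] at h3
  omega

/-- the standard three-point stabilizer is transitive on the complement of the dodecad -/
theorem trans_std : ∀ p : GolayPt, p ∉ D12 → ∃ u ∈ stabC [23, 0, 1] [dMask], u (some 6) = p := by
  have hfs : ∀ f ∈ ([⇑Q1, ⇑Q2] : List (GolayPt → GolayPt)),
      ∃ h ∈ stabC [23, 0, 1] [dMask], ⇑h = f := by
    intro f hf
    simp only [List.mem_cons, List.not_mem_nil, or_false] at hf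
    rcases hf with rfl | rfl
    · exact ⟨Q1, Q1_stab, rfl⟩
    · exact ⟨Q2, Q2_stab, rfl⟩
  have hdec : ∀ p : GolayPt, dMask.testBit (idx p) = false →
      p ∈ (orbStep [⇑Q1, ⇑Q2])^[11] [some 6] := by
    decide +kernel
  intro p hp
  rw [mem_D12, Bool.not_eq_true] at hp
  exact orb_sound _ _ hfs _ _ p (hdec p hp)

theorem three_result (d : Finset GolayPt) (hd : d ∈ dodecads) (p q r : GolayPt) (hp : p ∈ d)
    (hq : q ∈ d) (hr : r ∈ d) (hpq : p ≠ q) (hpr : p ≠ r) (hqr : q ≠ r) :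
    Nat.card ↥(MulAction.stabilizer M24 d ⊓ MulAction.stabilizer M24 p ⊓
      MulAction.stabilizer M24 q ⊓ MulAction.stabilizer M24 r) = 72 ∧
    ∀ x ∉ d, ∀ y ∉ d, ∃ g ∈ (MulAction.stabilizer M24 d ⊓ MulAction.stabilizer M24 p ⊓
      MulAction.stabilizer M24 q ⊓ MulAction.stabilizer M24 r),
      ((g : ↥M24) : Equiv.Perm GolayPt) x = y := by
  have hmem : ∀ g : M24, g ∈ (MulAction.stabilizer M24 d ⊓ MulAction.stabilizer M24 p ⊓
      MulAction.stabilizer M24 q ⊓ MulAction.stabilizer M24 r) ↔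
      g.1 • d = d ∧ g.1 p = p ∧ g.1 q = q ∧ g.1 r = r := by
    intro g
    simp only [Subgroup.mem_inf, MulAction.mem_stabilizer_iff, and_assoc]
    rfl
  constructor
  · rw [← card_three d hd p q r hp hq hr hpq hpr hqr]
    apply card_eq_of_iff
    intro g
    simp only [mem_inf_stab, mem_stabF, and_assoc]
    constructor
    · rintro ⟨hg, h1, h2, h3, h4⟩
      exact ⟨hg, (hmem _).mpr ⟨h1, h2, h3, h4⟩⟩
    · rintro ⟨hg, h⟩
      obtain ⟨h1, h2, h3, h4⟩ := (hmem _).mp h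
      exact ⟨hg, h1, h2, h3, h4⟩
  · -- standard position
    obtain ⟨t0, ht0, h0⟩ := exists_smul_D12 d hd
    have hin : ∀ x, x ∈ d → t0⁻¹ x ∈ D12 := by
      intro x hx
      rw [← mem_inv_smul, inv_inv, h0]
      exact hx
    have h01 : ((some 0 : GolayPt) ∈ D12) ∧ ((some 1 : GolayPt) ∈ D12) := by
      rw [mem_D12, mem_D12]
      decide +kernel
    obtain ⟨u, hu, hmap⟩ := dodecad_map_list D12 D12_mem [t0⁻¹ p, t0⁻¹ q, t0⁻¹ r]
      [none, some 0, some 1]
      (by simp [hpq, hpr, hqr]) (by decide)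
      (by
        intro x hx
        simp only [List.mem_cons, List.not_mem_nil, or_false] at hx
        rcases hx with rfl | rfl | rfl
        · exact hin p hp
        · exact hin q hq
        · exact hin r hr) (by simp [none_mem_D12, h01.1, h01.2]) rfl
      (by simp)
    simp only [List.map_cons, List.map_nil, List.cons.injEq, and_true] at hmap
    obtain ⟨m1, m2, m3⟩ := hmap
    rw [mem_stabF] at hu
    obtain ⟨t, ht, htd, htp, htq, htr⟩ : ∃ t ∈ M24, t • d = D12 ∧ t p = none ∧ t q = some 0 ∧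
        t r = some 1 := by
      refine ⟨u * t0⁻¹, M24.mul_mem hu.1 (M24.inv_mem ht0), ?_, ?_, ?_, ?_⟩
      · rw [mul_smul, ← h0, inv_smul_smul, hu.2]
      · rw [Equiv.Perm.mul_apply, m1]
      · rw [Equiv.Perm.mul_apply, m2]
      · rw [Equiv.Perm.mul_apply, m3]
    have htinv : t⁻¹ ∈ M24 := M24.inv_mem ht
    have key : ∀ x ∉ d, ∃ g : M24, g ∈ (MulAction.stabilizer M24 d ⊓ MulAction.stabilizer M24 p ⊓
        MulAction.stabilizer M24 q ⊓ MulAction.stabilizer M24 r) ∧ g.1 (t⁻¹ (some 6)) = x := by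
      intro x hx
      have hx' : t x ∉ D12 := by
        rw [← htd, smul_mem_iff]
        exact hx
      obtain ⟨k, hk, hkx⟩ := trans_std (t x) hx'
      obtain ⟨hkM, hkx', hko⟩ := (mem_stabC _ _ k).mp hk
      have hkp : k none = none := hkx' 23 (by simp)
      have hkq : k (some 0) = some 0 := hkx' 0 (by simp)
      have hkr : k (some 1) = some 1 := hkx' 1 (by simp)
      have hkd : k • D12 = D12 := hko dMask (by simp)
      refine ⟨⟨t⁻¹ * k * t, M24.mul_mem (M24.mul_mem htinv hkM) ht⟩, (hmem _).mpr ⟨?_, ?_, ?_, ?_⟩,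
        ?_⟩
      · change (t⁻¹ * k * t) • d = d
        rw [mul_smul, mul_smul, htd, hkd, ← htd, inv_smul_smul]
      · change (t⁻¹ * k * t) p = p
        rw [Equiv.Perm.mul_apply, Equiv.Perm.mul_apply, htp, hkp, ← htp, inv_apply_self']
      · change (t⁻¹ * k * t) q = q
        rw [Equiv.Perm.mul_apply, Equiv.Perm.mul_apply, htq, hkq, ← htq, inv_apply_self']
      · change (t⁻¹ * k * t) r = r
        rw [Equiv.Perm.mul_apply, Equiv.Perm.mul_apply, htr, hkr, ← htr, inv_apply_self']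
      · change (t⁻¹ * k * t) (t⁻¹ (some 6)) = x
        rw [Equiv.Perm.mul_apply, Equiv.Perm.mul_apply, apply_inv_self', hkx, inv_apply_self']
    intro x hx y hy
    obtain ⟨g, hg, hgx⟩ := key x hx
    obtain ⟨g', hg', hgy⟩ := key y hy
    refine ⟨g' * g⁻¹, Subgroup.mul_mem _ hg' (Subgroup.inv_mem _ hg), ?_⟩
    change (g'.1 * g.1⁻¹) x = y
    rw [Equiv.Perm.mul_apply, ← hgx, inv_apply_self', hgy]

end Cfsg.Agent.Lib.Helper9.M24Z11
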