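import Cfsg.Agent.Lib.Helper9.M24R2
import Cfsg.Agent.Lib.Helper9.M24Z11

set_option autoImplicit false

/-! The structure `3^2:Q8` of the stabilizer of a dodecad and three of its points. -/

namespace Cfsg.Agent.Lib.Helper9.M24R3

open Cfsg Finset Cfsg.Agent.Lib.Helper9.GolayQR1 Cfsg.Agent.Lib.Helper9.M24T1
  Cfsg.Agent.Lib.Helper9.M24T9 Cfsg.Agent.Lib.Helper9.M24T10
  Cfsg.Agent.Lib.Helper9.M24T11 Cfsg.Agent.Lib.Helper9.M24X1 Cfsg.Agent.Lib.Helper9.M24X4
  Cfsg.Agent.Lib.Helper9.M24X6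
  Cfsg.Agent.Lib.Helper9.M24W2 Cfsg.Agent.Lib.Helper9.M24Z7 Cfsg.Agent.Lib.Helper9.M24Z10
  Cfsg.Agent.Lib.Helper9.M24Z11 Cfsg.Agent.Lib.Helper9.M24R2
  Cfsg.Agent.Lib.Helper9.Chain1
open scoped Pointwise

/-- the quaternion group as a homomorphism into `H0` -/
def homT : QuaternionGroup 2 →* ↥H0 :=
  MonoidHom.mk' (fun q => ⟨gT q, gT_mem q⟩) (fun x y => Subtype.ext (Equiv.ext (gT_mul x y)))

/-- the group `3^2` as a homomorphism into `H0` -/
def homK : Multiplicative (ZMod 3 × ZMod 3) →* ↥H0 :=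
  MonoidHom.mk' (fun z => ⟨gK z, gK_mem z⟩) (fun x y => Subtype.ext (Equiv.ext (gK_mul x y)))

theorem homT_inj : Function.Injective homT := by
  intro x y h
  apply gT_inj x y
  intro p
  have : gT x = gT y := congrArg Subtype.val h
  rw [this]

theorem homK_inj : Function.Injective homK := by
  intro x y h
  apply gK_inj x y
  intro p
  have : gK x = gK y := congrArg Subtype.val h
  rw [this]

theorem hom_conj (q : QuaternionGroup 2) (z : Multiplicative (ZMod 3 × ZMod 3)) :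
    ∃ z', homT q * homK z * (homT q)⁻¹ = homK z' := by
  obtain ⟨z', hz'⟩ := conj_TK q z
  refine ⟨z', ?_⟩
  rw [← map_inv]
  apply Subtype.ext
  apply Equiv.ext
  intro p
  exact hz' p

theorem m9_struct (d : Finset GolayPt) (hd : d ∈ dodecads) (p q r : GolayPt) (hp : p ∈ d)
    (hq : q ∈ d) (hr : r ∈ d) (hpq : p ≠ q) (hpr : p ≠ r) (hqr : q ≠ r) :
    (∀ Q : Sylow 3 ↥(MulAction.stabilizer M24 d ⊓ MulAction.stabilizer M24 p ⊓
        MulAction.stabilizer M24 q ⊓ MulAction.stabilizer M24 r),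
      (Q : Subgroup ↥(MulAction.stabilizer M24 d ⊓ MulAction.stabilizer M24 p ⊓
        MulAction.stabilizer M24 q ⊓ MulAction.stabilizer M24 r)).Normal ∧ Nat.card ↥Q = 9 ∧
      ∀ x ∈ (Q : Subgroup ↥(MulAction.stabilizer M24 d ⊓ MulAction.stabilizer M24 p ⊓
        MulAction.stabilizer M24 q ⊓ MulAction.stabilizer M24 r)), x ^ 3 = 1) ∧
    ∀ P : Sylow 2 ↥(MulAction.stabilizer M24 d ⊓ MulAction.stabilizer M24 p ⊓
        MulAction.stabilizer M24 q ⊓ MulAction.stabilizer M24 r),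
      Nonempty (↥P ≃* QuaternionGroup 2) := by
  have hmem : ∀ g : M24, g ∈ (MulAction.stabilizer M24 d ⊓ MulAction.stabilizer M24 p ⊓
      MulAction.stabilizer M24 q ⊓ MulAction.stabilizer M24 r) ↔
      g.1 • d = d ∧ g.1 p = p ∧ g.1 q = q ∧ g.1 r = r := by
    intro g
    simp only [Subgroup.mem_inf, MulAction.mem_stabilizer_iff, and_assoc]
    rfl
  -- standard position
  obtain ⟨t0, ht0, h0⟩ := exists_smul_D12 d hd
  have hin : ∀ x, x ∈ d → t0⁻¹ x ∈ D12 := by
    intro x hx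
    rw [← mem_inv_smul, inv_inv, h0]
    exact hx
  have h01 : ((some 0 : GolayPt) ∈ D12) ∧ ((some 1 : GolayPt) ∈ D12) := by
    rw [mem_D12, mem_D12]
    decide +kernel
  obtain ⟨u, hu, hmap⟩ := dodecad_map_list D12 D12_mem [t0⁻¹ p, t0⁻¹ q, t0⁻¹ r]
    [none, some 0, some 1]
    (by simp [hpq, hpr, hqr]) (by decide)
    (by
      intro x hx
      simp only [List.mem_cons, List.not_mem_nil, or_false] at hx
      rcases hx with rfl | rfl | rfl
      · exact hin p hp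
      · exact hin q hq
      · exact hin r hr) (by simp [none_mem_D12, h01.1, h01.2]) rfl
    (by simp)
  simp only [List.map_cons, List.map_nil, List.cons.injEq, and_true] at hmap
  obtain ⟨m1, m2, m3⟩ := hmap
  rw [mem_stabF] at hu
  obtain ⟨t, ht, htd, htp, htq, htr⟩ : ∃ t ∈ M24, t • d = D12 ∧ t p = none ∧ t q = some 0 ∧
      t r = some 1 := by
    refine ⟨u * t0⁻¹, M24.mul_mem hu.1 (M24.inv_mem ht0), ?_, ?_, ?_, ?_⟩
    · rw [mul_smul, ← h0, inv_smul_smul, hu.2]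
    · rw [Equiv.Perm.mul_apply, m1]
    · rw [Equiv.Perm.mul_apply, m2]
    · rw [Equiv.Perm.mul_apply, m3]
  have htinv : t⁻¹ ∈ M24 := M24.inv_mem ht
  have hback : ∀ k ∈ H0, ∃ hk : t⁻¹ * k * t ∈ M24,
      (⟨t⁻¹ * k * t, hk⟩ : M24) ∈ (MulAction.stabilizer M24 d ⊓ MulAction.stabilizer M24 p ⊓
      MulAction.stabilizer M24 q ⊓ MulAction.stabilizer M24 r) := by
    intro k hk
    obtain ⟨hkM, hkx', hko⟩ := (mem_stabC _ _ k).mp hk
    have hkp : k none = none := hkx' 23 (by simp)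
    have hkq : k (some 0) = some 0 := hkx' 0 (by simp)
    have hkr : k (some 1) = some 1 := hkx' 1 (by simp)
    have hkd : k • D12 = D12 := hko dMask (by simp)
    refine ⟨M24.mul_mem (M24.mul_mem htinv hkM) ht, (hmem _).mpr ⟨?_, ?_, ?_, ?_⟩⟩
    · change (t⁻¹ * k * t) • d = d
      rw [mul_smul, mul_smul, htd, hkd, ← htd, inv_smul_smul]
    · change (t⁻¹ * k * t) p = p
      rw [Equiv.Perm.mul_apply, Equiv.Perm.mul_apply, htp, hkp, ← htp]
      exact t.symm_apply_apply p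
    · change (t⁻¹ * k * t) q = q
      rw [Equiv.Perm.mul_apply, Equiv.Perm.mul_apply, htq, hkq, ← htq]
      exact t.symm_apply_apply q
    · change (t⁻¹ * k * t) r = r
      rw [Equiv.Perm.mul_apply, Equiv.Perm.mul_apply, htr, hkr, ← htr]
      exact t.symm_apply_apply r
  -- the embedding of `H0`
  let ψ : ↥H0 →* ↥(MulAction.stabilizer M24 d ⊓ MulAction.stabilizer M24 p ⊓
      MulAction.stabilizer M24 q ⊓ MulAction.stabilizer M24 r) :=
    MonoidHom.mk' (fun k => ⟨⟨t⁻¹ * k.1 * t, (hback k.1 k.2).1⟩, (hback k.1 k.2).2⟩) (by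
      intro a b
      apply Subtype.ext
      apply Subtype.ext
      show t⁻¹ * (a.1 * b.1) * t = (t⁻¹ * a.1 * t) * (t⁻¹ * b.1 * t)
      group)
  have hψ : Function.Injective ψ := by
    intro a b h
    have h1 : t⁻¹ * a.1 * t = t⁻¹ * b.1 * t := congrArg (fun x => x.1.1) h
    apply Subtype.ext
    have h2 := congrArg (fun x => t * x * t⁻¹) h1
    simp only [mul_assoc, mul_inv_cancel_left, mul_inv_cancel, mul_one] at h2
    exact h2
  have h72 := (three_result d hd p q r hp hq hr hpq hpr hqr).1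
  refine Cfsg.Agent.Lib.Helper9.Grp72.struct72 h72 (ψ.comp homK) (hψ.comp homK_inj)
    (ψ.comp homT) (hψ.comp homT_inj) ?_
  intro q' z
  obtain ⟨z', hz'⟩ := hom_conj q' z
  refine ⟨z', ?_⟩
  simp only [MonoidHom.comp_apply]
  rw [← map_inv, ← map_mul, ← map_mul, hz']

end Cfsg.Agent.Lib.Helper9.M24R3
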