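import Cfsg.Agent.Lib.Helper9.M24SK1
import Cfsg.Agent.Lib.Helper9.M24SK2

set_option autoImplicit false

/-! The stabilizer of the standard sextet induces the symmetric group on the six tetrads. -/

namespace Cfsg.Agent.Lib.Helper9.M24SK3

open Cfsg Finset Cfsg.Agent.Lib.Helper9.Golay1 Cfsg.Agent.Lib.Helper9.GolayQR1
  Cfsg.Agent.Lib.Helper9.M24T1 Cfsg.Agent.Lib.Helper9.M24U1 Cfsg.Agent.Lib.Helper9.M24X1
  Cfsg.Agent.Lib.Helper9.M24S2 Cfsg.Agent.Lib.Helper9.M24SK1 Cfsg.Agent.Lib.Helper9.M24SK2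
  Cfsg.Agent.Lib.Helper9.M24TB1
open scoped Pointwise

/-- the standard sextet -/
noncomputable abbrev S0 : Finset (Finset GolayPt) := Sx 8388615

theorem VS0 : VS 8388615 := ⟨by decide +kernel, by decide +kernel, by decide +kernel⟩

theorem S0_mem : S0 ∈ sextets := Sx_mem _ VS0

/-- the tetrads of the standard sextet in order -/
noncomputable def T0 (i : Fin 6) : Finset GolayPt := M (tets0.getD i.val 0)

theorem tets0_lt : ∀ i : Fin 6, tets0.getD i.val 0 < 2 ^ 24 := by decide +kernel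

theorem tets0_inj : ∀ i j : Fin 6, tets0.getD i.val 0 = tets0.getD j.val 0 → i = j := by
  decide +kernel

theorem T0_inj : Function.Injective T0 := fun i j h =>
  tets0_inj i j (M_inj _ _ (tets0_lt i) (tets0_lt j) h)

theorem mem_S0 (u : Finset GolayPt) : u ∈ S0 ↔ ∃ i : Fin 6, u = T0 i := by
  rw [mem_Sx_iff _ VS0, tets_eq]
  constructor
  · rintro ⟨m, hm, rfl⟩
    obtain ⟨i, hi, rfl⟩ := List.getElem_of_mem hm
    refine ⟨⟨i, hi⟩, ?_⟩
    unfold T0
    rw [List.getD_eq_getElem _ _ hi]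
  · rintro ⟨i, rfl⟩
    refine ⟨_, ?_, rfl⟩
    have hi : i.val < tets0.length := i.2
    rw [List.getD_eq_getElem _ _ hi]
    exact List.getElem_mem hi

theorem T0_mem (i : Fin 6) : T0 i ∈ S0 := (mem_S0 _).mpr ⟨i, rfl⟩

/-- the permutations of the six tetrads induced by the group of the code -/
def Real : Subgroup (Equiv.Perm (Fin 6)) where
  carrier := {π | ∃ g ∈ M24, ∀ i, g • T0 i = T0 (π i)}
  one_mem' := ⟨1, M24.one_mem, fun i => by rw [one_smul, Equiv.Perm.one_apply]⟩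
  mul_mem' := by
    rintro a b ⟨g, hg, hga⟩ ⟨h, hh, hhb⟩
    refine ⟨g * h, M24.mul_mem hg hh, fun i => ?_⟩
    rw [mul_smul, hhb, hga, Equiv.Perm.mul_apply]
  inv_mem' := by
    rintro a ⟨g, hg, hga⟩
    refine ⟨g⁻¹, M24.inv_mem hg, fun i => ?_⟩
    rw [inv_smul_eq_iff, hga]
    simp

theorem Real_top : Real = ⊤ := by
  rw [eq_top_iff, ← Equiv.Perm.closure_cycle_adjacent_swap (σ := finRotate 6)
    isCycle_finRotate support_finRotate 0, Subgroup.closure_le]
  rintro π hπ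
  rcases hπ with rfl | hπ
  · refine ⟨sg1, sg1_mem, fun i => ?_⟩
    unfold T0
    rw [sg1_smul, sg1_act]
  · rw [Set.mem_singleton_iff] at hπ
    subst hπ
    refine ⟨sg2, sg2_mem, fun i => ?_⟩
    unfold T0
    rw [sg2_smul, sg2_act]
    rfl

/-- the enumeration of the standard sextet -/
noncomputable def f0 : Fin 6 ≃ ↥S0 :=
  Equiv.ofBijective (fun i => ⟨T0 i, T0_mem i⟩)
    ⟨fun i j h => T0_inj (congrArg Subtype.val h),
      fun t => by
        obtain ⟨i, hi⟩ := (mem_S0 t.1).mp t.2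
        exact ⟨i, Subtype.ext hi.symm⟩⟩

theorem f0_val (i : Fin 6) : ((f0 i : ↥S0) : Finset GolayPt) = T0 i := rfl

theorem surj0 : Function.Surjective (permOn (G := M24) S0) := by
  intro e
  have hπ : (f0.trans (e.trans f0.symm)) ∈ Real := by rw [Real_top]; exact Subgroup.mem_top _
  obtain ⟨g, hg, hgπ⟩ := hπ
  have hgf : ∀ i, g • T0 i = ((e (f0 i) : ↥S0) : Finset GolayPt) := by
    intro i
    rw [hgπ i, ← f0_val]
    simp
  have hsub : g • S0 ⊆ S0 := by
    intro u hu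
    obtain ⟨t, ht, rfl⟩ := Finset.mem_smul_finset.mp hu
    obtain ⟨i, rfl⟩ := (mem_S0 t).mp ht
    rw [hgf i]
    exact (e (f0 i)).2
  have hstab : g • S0 = S0 :=
    Finset.eq_of_subset_of_card_le hsub (by rw [Finset.card_smul_finset])
  refine ⟨⟨⟨g, hg⟩, MulAction.mem_stabilizer_iff.mpr hstab⟩, ?_⟩
  apply Equiv.ext
  intro t
  apply Subtype.ext
  obtain ⟨i, rfl⟩ := f0.surjective t
  rw [permOn_apply]
  exact hgf i

theorem card_fix0 :
    Nat.card {g : ↥(MulAction.stabilizer M24 S0) // ∀ t ∈ S0, (g : M24) • t = t} = 192 :=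
  (surj_iff_card S0 S0_mem).mp surj0

/-! ### the elements fixing each tetrad -/

theorem mem_K0_iff (g : Equiv.Perm GolayPt) : g ∈ K0 ↔ g ∈ M24 ∧ ∀ t ∈ S0, g • t = t := by
  rw [mem_stabC]
  constructor
  · rintro ⟨h1, -, h3⟩
    refine ⟨h1, fun t ht => ?_⟩
    rw [mem_Sx_iff _ VS0, tets_eq] at ht
    obtain ⟨m, hm, rfl⟩ := ht
    exact h3 m hm
  · rintro ⟨h1, h2⟩
    refine ⟨h1, fun i hi => absurd hi List.not_mem_nil, fun m hm => ?_⟩
    apply h2
    rw [mem_Sx_iff _ VS0, tets_eq]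
    exact ⟨m, hm, rfl⟩

theorem K0_stab (g : Equiv.Perm GolayPt) (hg : g ∈ K0) : g • S0 = S0 := by
  apply Finset.eq_of_subset_of_card_le _ (by rw [Finset.card_smul_finset])
  intro u hu
  obtain ⟨t, ht, rfl⟩ := Finset.mem_smul_finset.mp hu
  rw [((mem_K0_iff g).mp hg).2 t ht]
  exact ht

theorem C192_getD (z : Fin 192) : C192.getD z.val 0 ∈ C192 := by
  have hz : z.val < C192.length := by rw [C192_length]; exact z.2
  rw [List.getD_eq_getElem _ _ hz]
  exact List.getElem_mem hz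

theorem C192_cvalid (z : Fin 192) : cvalid (C192.getD z.val 0) = true := by
  have h := List.all_eq_true.mp C192_valid _ (C192_getD z)
  rw [Bool.and_eq_true] at h
  exact h.1

theorem C192_recode (z : Fin 192) : recode (C192.getD z.val 0) = C192.getD z.val 0 := by
  have h := List.all_eq_true.mp C192_valid _ (C192_getD z)
  rw [Bool.and_eq_true, beq_iff_eq] at h
  exact h.2

theorem gK192_inj (x y : Fin 192) (h : gK192 x.val = gK192 y.val) : x = y := by
  have hx : x.val < C192.length := by rw [C192_length]; exact x.2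
  have hy : y.val < C192.length := by rw [C192_length]; exact y.2
  have hc : C192.getD x.val 0 = C192.getD y.val 0 := by
    apply hasCode_inj (gK192 x.val) _ _ (gK192_code x) _ (C192_cvalid x) (C192_cvalid y)
      (C192_recode x) (C192_recode y)
    rw [h]
    exact gK192_code y
  rw [List.getD_eq_getElem _ _ hx, List.getD_eq_getElem _ _ hy] at hc
  exact Fin.ext ((C192_nodup.getElem_inj_iff).mp hc)

theorem gK192_sq (z : Fin 192) (h : gK192 z.val * gK192 z.val = 1) : z.val < 64 :=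
  C192_sq z (isInvol_of _ _ (gK192_code z) (C192_cvalid z) h)

theorem lt192 (z : Fin 64) : z.val < 192 := lt_trans z.2 (by norm_num)

theorem gK192_sq' (z : Fin 64) : gK192 z.val * gK192 z.val = 1 :=
  sq_of_isInvol _ _ (gK192_code ⟨z.val, lt192 z⟩) (C192_cvalid ⟨z.val, lt192 z⟩) (C192_low z)

theorem gK192_comm (x y : Fin 64) : gK192 x.val * gK192 y.val = gK192 y.val * gK192 x.val :=
  comm_of_commC _ _ _ _ (gK192_code ⟨x.val, lt192 x⟩) (gK192_code ⟨y.val, lt192 y⟩)
    (C192_cvalid ⟨x.val, lt192 x⟩) (C192_cvalid ⟨y.val, lt192 y⟩) (C192_comm x y)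

/-- the elements fixing each tetrad are the listed ones -/
theorem K0_enum (g : Equiv.Perm GolayPt) (hg : g ∈ K0) : ∃ z : Fin 192, gK192 z.val = g := by
  have hmem : ∀ z : Fin 192, gK192 z.val ∈ M24 := fun z => ((mem_K0_iff _).mp (gK192_mem z.val)).1
  have hfix : ∀ z : Fin 192, ∀ t ∈ S0, gK192 z.val • t = t :=
    fun z => ((mem_K0_iff _).mp (gK192_mem z.val)).2
  let Φ : Fin 192 → {g : ↥(MulAction.stabilizer M24 S0) // ∀ t ∈ S0, (g : M24) • t = t} :=
    fun z => ⟨⟨⟨gK192 z.val, hmem z⟩,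
      MulAction.mem_stabilizer_iff.mpr (K0_stab _ (gK192_mem z.val))⟩, hfix z⟩
  have hinj : Function.Injective Φ := by
    intro x y hxy
    apply gK192_inj
    exact congrArg (fun u : {g : ↥(MulAction.stabilizer M24 S0) // ∀ t ∈ S0, (g : M24) • t = t} =>
      ((u.1 : M24) : Equiv.Perm GolayPt)) hxy
  have hbij := hinj.bijective_of_nat_card_le (by rw [card_fix0]; simp)
  obtain ⟨z, hz⟩ := hbij.2 ⟨⟨⟨g, ((mem_K0_iff g).mp hg).1⟩,
    MulAction.mem_stabilizer_iff.mpr (K0_stab g hg)⟩, ((mem_K0_iff g).mp hg).2⟩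
  exact ⟨z, congrArg (fun u : {g : ↥(MulAction.stabilizer M24 S0) // ∀ t ∈ S0, (g : M24) • t = t} =>
      ((u.1 : M24) : Equiv.Perm GolayPt)) hz⟩

/-- the normal subgroup of order 64: the elements fixing each tetrad and squaring to one -/
def N0 : Subgroup (Equiv.Perm GolayPt) where
  carrier := {g | g ∈ K0 ∧ g * g = 1}
  one_mem' := ⟨K0.one_mem, one_mul 1⟩
  inv_mem' := by
    rintro a ⟨h1, h2⟩
    exact ⟨K0.inv_mem h1, by rw [← mul_inv_rev, h2, inv_one]⟩
  mul_mem' := by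
    rintro a b ⟨ha, ha2⟩ ⟨hb, hb2⟩
    refine ⟨K0.mul_mem ha hb, ?_⟩
    obtain ⟨x, rfl⟩ := K0_enum a ha
    obtain ⟨y, rfl⟩ := K0_enum b hb
    have hx := gK192_sq x ha2
    have hy := gK192_sq y hb2
    have hc := gK192_comm ⟨x.val, hx⟩ ⟨y.val, hy⟩
    change gK192 x.val * gK192 y.val = gK192 y.val * gK192 x.val at hc
    calc gK192 x.val * gK192 y.val * (gK192 x.val * gK192 y.val)
        = gK192 x.val * (gK192 y.val * gK192 x.val) * gK192 y.val := by group
      _ = gK192 x.val * (gK192 x.val * gK192 y.val) * gK192 y.val := by rw [hc]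
      _ = (gK192 x.val * gK192 x.val) * (gK192 y.val * gK192 y.val) := by group
      _ = 1 := by rw [ha2, hb2, one_mul]

theorem mem_N0 (g : Equiv.Perm GolayPt) : g ∈ N0 ↔ g ∈ K0 ∧ g * g = 1 := Iff.rfl

theorem card_N0 : Nat.card ↥N0 = 64 := by
  let Ψ : Fin 64 → ↥N0 := fun z => ⟨gK192 z.val, gK192_mem z.val, gK192_sq' z⟩
  have hbij : Function.Bijective Ψ := by
    constructor
    · intro x y hxy
      have := gK192_inj ⟨x.val, lt192 x⟩ ⟨y.val, lt192 y⟩ (congrArg Subtype.val hxy)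
      exact Fin.ext (congrArg (fun u : Fin 192 => u.val) this)
    · rintro ⟨g, hg, hg2⟩
      obtain ⟨z, rfl⟩ := K0_enum g hg
      exact ⟨⟨z.val, gK192_sq z hg2⟩, rfl⟩
  rw [← Nat.card_congr (Equiv.ofBijective Ψ hbij)]
  simp

/-- conjugation by an element of the sextet stabilizer preserves the subgroup -/
theorem conj_mem_N0 (h n : Equiv.Perm GolayPt) (hh : h ∈ M24) (hS : h • S0 = S0) (hn : n ∈ N0) :
    h * n * h⁻¹ ∈ N0 := by
  obtain ⟨hn1, hn2⟩ := hn
  obtain ⟨hnM, hnfix⟩ := (mem_K0_iff n).mp hn1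
  refine ⟨(mem_K0_iff _).mpr ⟨M24.mul_mem (M24.mul_mem hh hnM) (M24.inv_mem hh), fun t ht => ?_⟩, ?_⟩
  · have ht' : h⁻¹ • t ∈ S0 := by
      have := Finset.smul_mem_smul_finset (a := h⁻¹) ht
      rwa [← hS, inv_smul_smul] at this
    rw [mul_smul, mul_smul, hnfix _ ht', smul_inv_smul]
  · calc h * n * h⁻¹ * (h * n * h⁻¹) = h * (n * n) * h⁻¹ := by group
      _ = 1 := by rw [hn2, mul_one, mul_inv_cancel]

/-- the inclusion of the sextet stabilizer into the permutations -/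
noncomputable def incl : ↥(MulAction.stabilizer M24 S0) →* Equiv.Perm GolayPt :=
  (Subgroup.subtype M24).comp (Subgroup.subtype _)

theorem incl_inj : Function.Injective incl :=
  (Subgroup.subtype_injective _).comp (Subgroup.subtype_injective _)

theorem part3_std : ∃ N : Subgroup ↥(MulAction.stabilizer M24 S0), N.Normal ∧ Nat.card N = 64 ∧
    ∀ x ∈ N, x * x = 1 := by
  refine ⟨N0.comap incl, ⟨fun n hn g => ?_⟩, ?_, fun x hx => ?_⟩
  · rw [Subgroup.mem_comap, map_mul, map_mul, map_inv]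
    exact conj_mem_N0 _ _ g.1.2 (MulAction.mem_stabilizer_iff.mp g.2) hn
  · have hle : N0 ≤ incl.range := by
      rintro n ⟨hn1, hn2⟩
      exact ⟨⟨⟨n, ((mem_K0_iff n).mp hn1).1⟩,
        MulAction.mem_stabilizer_iff.mpr (K0_stab n hn1)⟩, rfl⟩
    rw [Nat.card_congr ((N0.comap incl).equivMapOfInjective incl incl_inj).toEquiv,
      Subgroup.map_comap_eq_self hle, card_N0]
  · apply incl_inj
    rw [map_mul, map_one]
    exact hx.2

end Cfsg.Agent.Lib.Helper9.M24SK3
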