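import Mathlib
import Cfsg.Agent.Lib.Helper9.M24SK3
import Cfsg.Agent.Lib.Helper9.OutM2
import Cfsg.Agent.Lib.Helper9.IdxA1

set_option autoImplicit false

/-! No elementary abelian subgroup of order 64 of the group of the length-24 code centralizes an
element of odd prime order (fixed-point counting). -/

namespace Cfsg.Agent.Lib.Helper9.M24Rad

open Cfsg Finset Cfsg.Agent.Lib.Helper9.OutM Cfsg.Agent.Lib.Helper9.M24SK2
open scoped Pointwise

/-- commuting permutations preserve each other's fixed points -/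
theorem fix_inv (r x : Equiv.Perm GolayPt) (hc : r * x = x * r) : ∀ b ∈ fixF r, x b ∈ fixF r := by
  intro b hb
  rw [mem_fixF] at hb ⊢
  have h := congrArg (fun f : Equiv.Perm GolayPt => f b) hc
  simp only [Equiv.Perm.mul_apply] at h
  rw [hb] at h
  exact h

/-- the odd primes dividing the order of the group -/
theorem prime_cases (x : Equiv.Perm GolayPt) (hx : x ∈ M24) (q : ℕ) (hq : q.Prime) (hq2 : q ≠ 2)
    (ho : orderOf x = q) : q = 3 ∨ q = 5 ∨ q = 7 ∨ q = 11 ∨ q = 23 := by
  have h1 : orderOf (⟨x, hx⟩ : ↥M24) = q := by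
    rw [← ho]
    exact Subgroup.orderOf_mk x hx
  have h2 : q ∣ Nat.card ↥M24 := by
    rw [← h1]
    exact orderOf_dvd_natCard _
  rw [Cfsg.Agent.Lib.Helper9.M24T4.card_M24] at h2
  have h3 : (244823040 : ℕ) = 2 ^ 10 * 3 ^ 3 * 5 * 7 * 11 * 23 := by norm_num
  rw [h3] at h2
  have hdvd : ∀ {a b : ℕ}, q ∣ a * b → q ∣ a ∨ q ∣ b := fun h => (Nat.Prime.dvd_mul hq).mp h
  have hpr : ∀ {p : ℕ}, p.Prime → q ∣ p → q = p := fun hp h =>
    (Nat.prime_dvd_prime_iff_eq hq hp).mp h
  rcases hdvd h2 with h | h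
  · rcases hdvd h with h | h
    · rcases hdvd h with h | h
      · rcases hdvd h with h | h
        · rcases hdvd h with h | h
          · exact absurd (hpr Nat.prime_two (hq.dvd_of_dvd_pow h)) hq2
          · exact Or.inl (hpr Nat.prime_three (hq.dvd_of_dvd_pow h))
        · exact Or.inr (Or.inl (hpr (by norm_num) h))
      · exact Or.inr (Or.inr (Or.inl (hpr (by norm_num) h)))
    · exact Or.inr (Or.inr (Or.inr (Or.inl (hpr (by norm_num) h))))
  · exact Or.inr (Or.inr (Or.inr (Or.inr (hpr (by norm_num) h))))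

/-- the number of fixed points of an element of odd prime order -/
theorem card_fix_cases (x : Equiv.Perm GolayPt) (hx : x ∈ M24) (q : ℕ) (hq : q.Prime) (hq2 : q ≠ 2)
    (ho : orderOf x = q) :
    (q = 3 ∧ ((fixF x).card = 0 ∨ (fixF x).card = 6)) ∨ (q = 5 ∧ (fixF x).card = 4) ∨
      (q = 7 ∧ (fixF x).card = 3) ∨ (q = 11 ∧ (fixF x).card = 2) ∨ (q = 23 ∧ (fixF x).card = 1) := by
  have hx1 : x ≠ 1 := by
    intro h
    rw [h, orderOf_one] at ho
    exact hq.one_lt.ne ho
  have hxq : x ^ q = 1 := by rw [← ho]; exact pow_orderOf_eq_one x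
  rcases prime_cases x hx q hq hq2 ho with rfl | rfl | rfl | rfl | rfl
  · exact Or.inl ⟨rfl, Cfsg.Agent.Lib.Helper9.Idx.card_fixF_three x hx hx1 hxq⟩
  · exact Or.inr (Or.inl ⟨rfl,
      Cfsg.Agent.Lib.Helper9.OutM.card_fixF_prime x hx hx1 5 (Or.inl rfl) hxq⟩)
  · exact Or.inr (Or.inr (Or.inl ⟨rfl,
      Cfsg.Agent.Lib.Helper9.OutM.card_fixF_prime x hx hx1 7 (Or.inr (Or.inl rfl)) hxq⟩))
  · exact Or.inr (Or.inr (Or.inr (Or.inl ⟨rfl,
      Cfsg.Agent.Lib.Helper9.OutM.card_fixF_prime x hx hx1 11 (Or.inr (Or.inr (Or.inl rfl))) hxq⟩)))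
  · exact Or.inr (Or.inr (Or.inr (Or.inr ⟨rfl,
      Cfsg.Agent.Lib.Helper9.OutM.card_fixF_prime x hx hx1 23 (Or.inr (Or.inr (Or.inr rfl))) hxq⟩)))

/-- an involution commuting with an element of odd prime order: the congruence of fixed points -/
theorem invol_fix (x r : Equiv.Perm GolayPt) (hr : r ∈ M24) (q : ℕ) (hq : q.Prime)
    (ho : orderOf x = q) (hr2 : r * r = 1) (hr1 : r ≠ 1) (hc : r * x = x * r) :
    ((fixF r).card = 0 ∨ (fixF r).card = 8) ∧ (fixF r).card ≡ (fixF r ∩ fixF x).card [MOD q] := by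
  haveI : Fact q.Prime := ⟨hq⟩
  have hxq : x ^ q = 1 := by rw [← ho]; exact pow_orderOf_eq_one x
  refine ⟨Cfsg.Agent.Lib.Helper9.OutM.card_fixF_involution r hr (by rw [pow_two]; exact hr2) hr1, ?_⟩
  exact card_modEq_fix x q hxq (fixF r) (fix_inv r x hc)

/-- restriction of a subgroup of permutations preserving a finite set -/
theorem smul_fix_eq (x r : Equiv.Perm GolayPt) (hc : r * x = x * r) : r • fixF x = fixF x := by
  have hsub : r • fixF x ⊆ fixF x := by
    intro b hb
    obtain ⟨a, ha, rfl⟩ := Finset.mem_smul_finset.mp hb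
    rw [mem_fixF] at ha ⊢
    have h := congrArg (fun f : Equiv.Perm GolayPt => f a) hc
    simp only [Equiv.Perm.mul_apply] at h
    rw [ha] at h
    rw [Equiv.Perm.smul_def]
    exact h.symm
  exact Finset.eq_of_subset_of_card_le hsub (by rw [Finset.card_smul_finset])

theorem sixtyfour_not_dvd_factorial (n : ℕ) (hn : n ≤ 6) : ¬ 64 ∣ n.factorial := by
  interval_cases n <;> decide

/-- no elementary abelian subgroup of order 64 centralizes an element of odd prime order -/
theorem no_E64 (x : Equiv.Perm GolayPt) (hx : x ∈ M24) (q : ℕ) (hq : q.Prime) (hq2 : q ≠ 2)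
    (ho : orderOf x = q) (R : Subgroup (Equiv.Perm GolayPt)) (hRM : R ≤ M24)
    (hR2 : ∀ r ∈ R, r * r = 1) (hRx : ∀ r ∈ R, r * x = x * r) (hcard : Nat.card R = 64) : False := by
  have hkey : ∀ r ∈ R, r ≠ 1 → ((fixF r).card = 0 ∨ (fixF r).card = 8) ∧
      (fixF r).card ≡ (fixF r ∩ fixF x).card [MOD q] := fun r hr hr1 =>
    invol_fix x r (hRM hr) q hq ho (hR2 r hr) hr1 (hRx r hr)
  have hq8 : ¬ q ∣ 8 := by
    intro h
    have h8 : (8 : ℕ) = 2 ^ 3 := by norm_num
    rw [h8] at h
    exact hq2 ((Nat.prime_dvd_prime_iff_eq hq Nat.prime_two).mp (hq.dvd_of_dvd_pow h))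
  haveI : Finite ↥R := Nat.finite_of_card_ne_zero (by rw [hcard]; norm_num)
  by_cases hΦ : fixF x = ∅
  · -- free action
    have hfree : ∀ r ∈ R, r ≠ 1 → ∀ p, r p ≠ p := by
      intro r hr hr1 p hp
      obtain ⟨h08, hmod⟩ := hkey r hr hr1
      rw [hΦ, Finset.inter_empty, Finset.card_empty] at hmod
      rcases h08 with h0 | h8
      · have : p ∈ fixF r := (mem_fixF r p).mpr hp
        rw [Finset.card_eq_zero.mp h0] at this
        exact absurd this (Finset.notMem_empty p)
      · rw [h8] at hmod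
        exact hq8 ((Nat.modEq_zero_iff_dvd).mp hmod)
    have hne : Nonempty GolayPt :=
      Fintype.card_pos_iff.mp (by rw [Cfsg.Agent.Lib.Helper9.GolayQR5.card_golayPt]; norm_num)
    obtain ⟨p0⟩ := hne
    have hinj : Function.Injective (fun r : ↥R => (r : Equiv.Perm GolayPt) p0) := by
      intro a b hab
      by_contra hne
      have h1 : (a : Equiv.Perm GolayPt)⁻¹ * b ≠ 1 := by
        intro h
        apply hne
        apply Subtype.ext
        exact inv_mul_eq_one.mp h
      apply hfree _ (R.mul_mem (R.inv_mem a.2) b.2) h1 p0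
      rw [Equiv.Perm.mul_apply]
      change (a : Equiv.Perm GolayPt) p0 = (b : Equiv.Perm GolayPt) p0 at hab
      rw [← hab]; exact Equiv.symm_apply_apply _ _
    have hle := Nat.card_le_card_of_injective _ hinj
    rw [hcard, Nat.card_eq_fintype_card, Cfsg.Agent.Lib.Helper9.GolayQR5.card_golayPt] at hle
    omega
  · -- faithful action on the fixed points
    have hΦne : (fixF x).Nonempty := Finset.nonempty_iff_ne_empty.mpr hΦ
    have hcases := card_fix_cases x hx q hq hq2 ho
    have hΦcard : (fixF x).card ≤ 6 ∧ ¬ 8 ≡ (fixF x).card [MOD q] := by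
      rcases hcases with ⟨rfl, h | h⟩ | ⟨rfl, h⟩ | ⟨rfl, h⟩ | ⟨rfl, h⟩ | ⟨rfl, h⟩
      · exact absurd (Finset.card_eq_zero.mp h) hΦ
      · rw [h]; exact ⟨le_refl _, by decide⟩
      · rw [h]; exact ⟨by norm_num, by decide⟩
      · rw [h]; exact ⟨by norm_num, by decide⟩
      · rw [h]; exact ⟨by norm_num, by decide⟩
      · rw [h]; exact ⟨by norm_num, by decide⟩
    have hstab : R ≤ MulAction.stabilizer (Equiv.Perm GolayPt) (fixF x) := fun r hr =>
      MulAction.mem_stabilizer_iff.mpr (smul_fix_eq x r (hRx r hr))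
    let ρ : ↥R →* Equiv.Perm ↥(fixF x) := (permOn (fixF x)).comp (Subgroup.inclusion hstab)
    have hρ : Function.Injective ρ := by
      rw [injective_iff_map_eq_one]
      intro r hr
      by_contra hr1
      have hr1' : (r : Equiv.Perm GolayPt) ≠ 1 := fun h => hr1 (Subtype.ext h)
      have hfixall : ∀ t ∈ fixF x, (r : Equiv.Perm GolayPt) t = t := by
        have hk : Subgroup.inclusion hstab r ∈ (permOn (G := Equiv.Perm GolayPt) (fixF x)).ker :=
          MonoidHom.mem_ker.mpr hr
        have := (mem_ker_permOn (fixF x) _).mp hk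
        intro t ht
        exact this t ht
      obtain ⟨h08, hmod⟩ := hkey r r.2 hr1'
      have hsub : fixF x ⊆ fixF (r : Equiv.Perm GolayPt) := fun t ht =>
        (mem_fixF _ t).mpr (hfixall t ht)
      have hinter : fixF (r : Equiv.Perm GolayPt) ∩ fixF x = fixF x :=
        Finset.inter_eq_right.mpr hsub
      rw [hinter] at hmod
      rcases h08 with h0 | h8
      · obtain ⟨t, ht⟩ := hΦne
        have := hsub ht
        rw [Finset.card_eq_zero.mp h0] at this
        exact Finset.notMem_empty t this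
      · rw [h8] at hmod
        exact hΦcard.2 hmod
    have hdvd := Subgroup.card_dvd_of_injective ρ hρ
    rw [hcard, Nat.card_eq_fintype_card, Fintype.card_perm, Fintype.card_coe] at hdvd
    exact sixtyfour_not_dvd_factorial _ hΦcard.1 hdvd

end Cfsg.Agent.Lib.Helper9.M24Rad
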