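import Mathlib
import Cfsg.Agent.Lib.Helper9.CZE
import Cfsg.Agent.Lib.Helper9.M24X1
import Cfsg.Agent.Lib.Helper9.StronglyEmbedded

/-!
Involutions of `M₂₄` fixing an octad pointwise (S5425): they are all conjugate to `z0 = E1`, and the
translation `tr 2` is a conjugate of `z0` lying in `O₂(C(z0))`.
The table of `H15` was found by computer and is re-verified by `decide`.
-/

set_option autoImplicit false

namespace Cfsg.Agent.Lib.Helper9.Oct

open Cfsg Finset Cfsg.Agent.Lib.Helper9.Golay1 Cfsg.Agent.Lib.Helper9.GolayQR1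
  Cfsg.Agent.Lib.Helper9.GolayQR2 Cfsg.Agent.Lib.Helper9.GolayQR3
  Cfsg.Agent.Lib.Helper9.M24T1 Cfsg.Agent.Lib.Helper9.M24T3 Cfsg.Agent.Lib.Helper9.M24T6
  Cfsg.Agent.Lib.Helper9.M24T8
  Cfsg.Agent.Lib.Helper9.M24U1 Cfsg.Agent.Lib.Helper9.G2U Cfsg.Agent.Lib.Helper9.Chain1
  Cfsg.Agent.Lib.Helper9.M24X1 Cfsg.Agent.Lib.Helper9.CZ
open scoped Pointwise

/-- table of an element of `M₂₄` stabilising the standard octad and permuting the 15 translations cyclically -/
def hL : List ℕ := [14, 17, 1, 5, 10, 0, 16, 18, 13, 12, 22, 20, 19, 4, 23, 7, 11, 2, 8, 15, 9, 21, 6, 3]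

/-- inverse table -/
def hL' : List ℕ := [5, 2, 17, 23, 13, 3, 22, 15, 18, 20, 4, 16, 9, 8, 0, 19, 6, 1, 7, 12, 11, 21, 10, 14]

/-- the element -/
def H15 : Equiv.Perm GolayPt := tperm hL hL' (by decide +kernel) (by decide +kernel)

theorem H15_mem : H15 ∈ M24 := tperm_mem _ _ _ _ (by decide +kernel) (by decide +kernel)

/-- exponents -/
def expT : Fin 16 → ℕ := ![0, 0, 14, 11, 3, 4, 2, 9, 6, 8, 12, 1, 7, 13, 5, 10]

set_option maxRecDepth 100000 in
theorem H15_conj : ∀ y : Fin 16, y ≠ 0 → ∀ p : GolayPt,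
    (tfun hL)^[expT y] (tr 1 p) = tr y ((tfun hL)^[expT y] p) := by decide +kernel

theorem tr_zero : tr 0 = 1 := by
  apply Equiv.ext
  decide +kernel

theorem tr_two_ne : tr 2 (some 4) ≠ E1 (some 4) := by decide +kernel

theorem tr_two_comm : ∀ p : GolayPt, tr 2 (E1 p) = E1 (tr 2 p) := by decide +kernel

theorem tr_mem (y : Fin 16) : tr y ∈ fixL M24 L8 := eprod_mem _ _ _ _

theorem tr_one_eq : tr 1 = E1 := Equiv.ext tr_one

/-- every nontrivial translation is conjugate to `E1` in `M₂₄` -/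
theorem exists_conj_tr (y : Fin 16) (hy : y ≠ 0) : ∃ g ∈ M24, g * E1 * g⁻¹ = tr y := by
  refine ⟨H15 ^ expT y, M24.pow_mem H15_mem _, ?_⟩
  rw [mul_inv_eq_iff_eq_mul]
  apply Equiv.ext
  intro p
  have h := H15_conj y hy p
  have e : (tfun hL)^[expT y] = ⇑(H15 ^ expT y) := Equiv.Perm.iterate_eq_pow H15 (expT y)
  rw [e, tr_one] at h
  rw [Equiv.Perm.mul_apply, Equiv.Perm.mul_apply]
  exact h

/-- an involution of `M₂₄` whose fixed points form an octad is conjugate to `z0` -/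
theorem exists_conj_z0 (z : ↥M24) (hz : orderOf z = 2)
    (hfix : (Finset.univ.filter fun p : GolayPt => (z : Equiv.Perm GolayPt) p = p) ∈ octads) :
    ∃ u : ↥M24, z = u * z0 * u⁻¹ := by
  set o := Finset.univ.filter fun p : GolayPt => (z : Equiv.Perm GolayPt) p = p with ho
  obtain ⟨t, ht, hto⟩ := octad_transitive o O8 hfix O8_mem
  have h1 : t * z.1 * t⁻¹ ∈ fixL M24 L8 := by
    refine ⟨M24.mul_mem (M24.mul_mem ht z.2) (M24.inv_mem ht), fun b hb => ?_⟩
    have hb' : b ∈ t • o := by rw [hto, mem_O8]; exact hb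
    rw [Finset.mem_smul_finset] at hb'
    obtain ⟨q, hq, rfl⟩ := hb'
    rw [ho, Finset.mem_filter] at hq
    rw [Equiv.Perm.smul_def, Equiv.Perm.mul_apply, Equiv.Perm.mul_apply, inv_apply_self', hq.2]
  obtain ⟨a1, a2, a3, a4, ha⟩ := fixO_eq _ h1
  obtain ⟨y, hy⟩ := tr_surj a1 a2 a3 a4
  have hty : t * z.1 * t⁻¹ = tr y := by rw [ha]; exact Equiv.ext hy
  have hy0 : y ≠ 0 := by
    rintro rfl
    rw [tr_zero, mul_inv_eq_one] at hty
    have h2 : z.1 = 1 := by
      have := congrArg (fun x => t⁻¹ * x) hty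
      simpa using this
    have h3 : z = 1 := Subtype.ext h2
    rw [h3, orderOf_one] at hz
    omega
  obtain ⟨g, hg, hgy⟩ := exists_conj_tr y hy0
  refine ⟨⟨t⁻¹ * g, M24.mul_mem (M24.inv_mem ht) hg⟩, ?_⟩
  apply Subtype.ext
  show z.1 = t⁻¹ * g * E1 * (t⁻¹ * g)⁻¹
  have h4 : z.1 = t⁻¹ * (t * z.1 * t⁻¹) * t := by group
  rw [h4, hty, ← hgy]
  group

/-- the translation by `2` as an element of the centraliser of `z0` -/
def w0 : ↥M24 := ⟨tr 2, (tr_mem 2).1⟩

theorem w0_ne : w0 ≠ z0 := by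
  intro h
  have h1 : tr 2 = E1 := congrArg Subtype.val h
  apply tr_two_ne
  rw [h1]

theorem w0_mem_CM : w0 ∈ CM := by
  rw [Subgroup.mem_centralizer_singleton_iff]
  apply Subtype.ext
  apply Equiv.ext
  intro p
  show tr 2 (E1 p) = E1 (tr 2 p)
  exact tr_two_comm p

theorem exists_conj_w0 : ∃ g : ↥M24, g * z0 * g⁻¹ = w0 := by
  obtain ⟨g, hg, hgy⟩ := exists_conj_tr 2 (by decide)
  exact ⟨⟨g, hg⟩, Subtype.ext hgy⟩

/-- the pointwise stabiliser of the octad inside the centraliser -/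
def E16 : Subgroup ↥CM := (fixL M24 L8).comap iotaM

theorem E16_normal : E16.Normal := by
  constructor
  intro e he c
  show iotaM (c * e * c⁻¹) ∈ fixL M24 L8
  have he' : iotaM e ∈ fixL M24 L8 := he
  rw [map_mul, map_mul, map_inv]
  refine ⟨M24.mul_mem (M24.mul_mem c.1.2 he'.1) (M24.inv_mem c.1.2), fun b hb => ?_⟩
  have hc : ∀ p, (iotaM c) (E1 p) = E1 ((iotaM c) p) := comm_of_mem c
  have h2 : (iotaM c)⁻¹ b ∈ L8 := by
    rw [pres (iotaM c) hc]
    rw [apply_inv_self']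
    exact hb
  rw [Equiv.Perm.mul_apply, Equiv.Perm.mul_apply, he'.2 _ h2, apply_inv_self']

theorem iotaM_injective : Function.Injective iotaM := by
  intro a b h
  apply Subtype.ext
  apply Subtype.ext
  exact h

theorem E16_isPGroup : IsPGroup 2 ↥E16 := by
  intro x
  refine ⟨1, ?_⟩
  apply Subtype.ext
  apply iotaM_injective
  have hx : iotaM x.1 ∈ fixL M24 L8 := x.2
  have := sq_fixO _ hx
  rw [pow_one, pow_two]
  simp only [Subgroup.coe_mul, map_mul, Subgroup.coe_one, map_one]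
  exact this

theorem w0_mem_pCore : w0 ∈ (pCore 2 ↥CM).map CM.subtype := by
  refine ⟨⟨w0, w0_mem_CM⟩, ?_, rfl⟩
  apply le_pCore' E16_normal E16_isPGroup
  show tr 2 ∈ fixL M24 L8
  exact tr_mem 2

end Cfsg.Agent.Lib.Helper9.Oct
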