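import Mathlib
import Cfsg.Agent.Lib.Helper7.TvAff3
import Cfsg.Agent.S5422

/-!
Transport of helper7's analysis of the centraliser of a transvection in `SL₅(2)` along an isomorphism
of that centraliser onto an involution centraliser `C_G(z)` (for S5425).
-/

set_option autoImplicit false

namespace Cfsg.Agent.Lib.Helper9.Oct

open Cfsg Cfsg.Agent.Lib.Helper7

theorem transport_main {G : Type*} [Group G] [Finite G] (z : G) (hz1 : z ≠ 1)
    (ψ : ↥(TvCent.CS 3) →* G) (hinj : Function.Injective ψ)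
    (hrange : ψ.range = Subgroup.centralizer ({z} : Set G))
    (g : G) (hg1 : g * z * g⁻¹ ≠ z) (hg2 : g * z * g⁻¹ ∈ (TvCent.piS 3).ker.map ψ)
    (Q : Subgroup G)
    (hQ : Q = (Cfsg.pCore 2 ↥(Subgroup.centralizer ({z} : Set G))).map
      (Subgroup.centralizer ({z} : Set G)).subtype) :
    Cfsg.IsExtraspecial 2 ↥Q ∧ Nat.card ↥Q = 2 ^ 7 ∧
      (∃ E : Subgroup G, E ≤ Q ∧ Cfsg.IsElementaryAbelian 2 E ∧ Nat.card ↥E = 2 ^ 4) ∧
      Cfsg.IsLargeExtraspecial Q ∧
      ∃ K : Subgroup G, K ≤ Subgroup.centralizer ({z} : Set G) ∧ Q ⊓ K = ⊥ ∧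
        Q ⊔ K = Subgroup.centralizer ({z} : Set G) ∧
        Nonempty (↥K ≃* Matrix.SpecialLinearGroup (Fin 3) (ZMod 2)) := by
  classical
  have hQ' : Q = (TvCent.piS 3).ker.map ψ := by
    rw [hQ]
    exact TvAff.pCore_range_map ψ hinj hrange
  subst hQ'
  have h1q : (1 : G) = TvAff.qG ψ 0 0 0 := by
    unfold TvAff.qG
    have : (⟨TvCent.hS 3 0 0 0, TvCent.hS_mem_CS 3 0 0 0⟩ : ↥(TvCent.CS 3)) = 1 :=
      Subtype.ext (TvCent.hS_one 3)
    rw [this, map_one]
  have hzr : z ∈ ψ.range := by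
    rw [hrange]
    exact Subgroup.mem_centralizer_singleton_iff.mpr rfl
  have hrange_comm : ∀ y ∈ ψ.range, y * z = z * y := by
    intro y hy
    rw [hrange, Subgroup.mem_centralizer_singleton_iff] at hy
    exact hy
  have hzc : ∀ y ∈ (TvCent.piS 3).ker.map ψ, y * z = z * y :=
    fun y hy => hrange_comm y (Subgroup.map_le_range _ _ hy)
  obtain ⟨t, ht⟩ := TvAff.centralizer_image ψ hinj hzr hzc
  have hzq : z = TvAff.qG ψ 0 0 1 := by
    rcases TvCent.zmod_two_cases t with rfl | rfl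
    · exact absurd (ht.trans h1q.symm) hz1
    · exact ht
  -- the centre
  let Z : Subgroup G := ((TvCent.Zs 3).subgroupOf (TvCent.CS 3)).map ψ
  have hZiff : ∀ y, y ∈ Z ↔ ∃ t, y = TvAff.qG ψ 0 0 t := by
    intro y
    constructor
    · rintro ⟨x, hx, rfl⟩
      obtain ⟨c, hc⟩ := (TvCent.mem_Zs 3 x.1).mp (Subgroup.mem_subgroupOf.mp hx)
      refine ⟨c, ?_⟩
      unfold TvAff.qG
      congr 1
      exact Subtype.ext hc
    · rintro ⟨t, rfl⟩
      exact ⟨⟨TvCent.hS 3 0 0 t, TvCent.hS_mem_CS 3 0 0 t⟩,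
        Subgroup.mem_subgroupOf.mpr ((TvCent.mem_Zs 3 _).mpr ⟨t, rfl⟩), rfl⟩
  have hZmem : ∀ y ∈ Z, y = 1 ∨ y = z := by
    intro y hy
    obtain ⟨t, rfl⟩ := (hZiff y).mp hy
    rcases TvCent.zmod_two_cases t with rfl | rfl
    · exact Or.inl h1q.symm
    · exact Or.inr hzq.symm
  have hzZ : z ∈ Z := (hZiff z).mpr ⟨1, hzq⟩
  have hZQ : Z ≤ (TvCent.piS 3).ker.map ψ := by
    intro y hy
    obtain ⟨t, rfl⟩ := (hZiff y).mp hy
    exact (TvAff.mem_map_ker_iff ψ _).mpr ⟨_, _, _, rfl⟩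
  have hcentQ : Subgroup.centralizer (((TvCent.piS 3).ker.map ψ : Subgroup G) : Set G) = Z := by
    apply le_antisymm
    · intro x hx
      rw [Subgroup.mem_centralizer_iff] at hx
      have hxr : x ∈ ψ.range := by
        rw [hrange, Subgroup.mem_centralizer_singleton_iff]
        exact (hx z (hZQ hzZ)).symm
      obtain ⟨t, ht⟩ := TvAff.centralizer_image ψ hinj hxr hx
      exact (hZiff x).mpr ⟨t, ht⟩
    · intro y hy
      obtain ⟨t, rfl⟩ := (hZiff y).mp hy
      rw [Subgroup.mem_centralizer_iff]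
      exact TvAff.qG_central ψ t
  have hcen := TvAff.center_map_eq_of_centralizer hZQ hcentQ
  have hES := TvAff.extraspecial_image ψ hinj (by norm_num : 1 ≤ 3)
  have hL2 : Subgroup.centralizer (((TvCent.piS 3).ker.map ψ : Subgroup G) : Set G) =
      (Subgroup.center ↥((TvCent.piS 3).ker.map ψ)).map ((TvCent.piS 3).ker.map ψ).subtype := by
    rw [hcentQ, hcen]
  have hL3 : Subgroup.centralizer
      (((Subgroup.center ↥((TvCent.piS 3).ker.map ψ)).map
        ((TvCent.piS 3).ker.map ψ).subtype : Subgroup G) : Set G) ≤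
      Subgroup.normalizer (((TvCent.piS 3).ker.map ψ : Subgroup G) : Set G) := by
    rw [hcen]
    intro x hx
    apply TvAff.range_le_normalizer ψ
    rw [hrange, Subgroup.mem_centralizer_singleton_iff]
    exact ((Subgroup.mem_centralizer_iff.mp hx) z hzZ).symm
  have hgN : g ∉ Subgroup.normalizer
      (((Subgroup.center ↥((TvCent.piS 3).ker.map ψ)).map
        ((TvCent.piS 3).ker.map ψ).subtype : Subgroup G) : Set G) := by
    rw [hcen]
    intro h
    have h2 := (Subgroup.mem_normalizer_iff.mp h z).mp hzZ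
    rcases hZmem _ h2 with h3 | h3
    · apply hz1
      have : z = g⁻¹ * (g * z * g⁻¹) * g := by group
      rw [this, h3]
      group
    · exact hg1 h3
  have hZg : ((Subgroup.center ↥((TvCent.piS 3).ker.map ψ)).map
        ((TvCent.piS 3).ker.map ψ).subtype).map (MulAut.conj g).toMonoidHom ≤
      (TvCent.piS 3).ker.map ψ := by
    rw [hcen]
    rintro _ ⟨y, hy, rfl⟩
    rcases hZmem y hy with rfl | rfl
    · rw [map_one]
      exact Subgroup.one_mem _
    · exact hg2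
  have hcard : Nat.card ↥((TvCent.piS 3).ker.map ψ) = 2 ^ (2 * 3 + 1) := TvAff.card_image ψ hinj
  have hlarge := (Cfsg.Agent.S5422.result _ hES hL2 hL3 3 (by norm_num) hcard g hgN hZg).2.2
  -- the elementary abelian subgroup
  have hEle : TvCent.Es 3 ≤ TvCent.CS 3 := (TvCent.Es_le_Qs 3).trans (TvCent.Qs_le_CS 3)
  refine ⟨hES, by rw [hcard], ⟨((TvCent.Es 3).subgroupOf (TvCent.CS 3)).map ψ, ?_, ⟨⟨⟨?_⟩⟩, ?_⟩, ?_⟩,
    hlarge, ⟨(ψ.comp (TvAff.sigma' 3)).range, ?_, TvAff.image_inf_comp_range ψ hinj, ?_,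
      ⟨(MonoidHom.ofInjective (f := ψ.comp (TvAff.sigma' 3))
        (hinj.comp (TvAff.sigma'_injective (n := 3)))).symm⟩⟩⟩
  · rintro _ ⟨x, hx, rfl⟩
    obtain ⟨a, c, h⟩ := (TvCent.mem_Es 3 x.1).mp (Subgroup.mem_subgroupOf.mp hx)
    exact Subgroup.mem_map_of_mem _ ((TvCent.mem_ker_piS 3 x).mpr ⟨a, 0, c, h⟩)
  · rintro ⟨_, x, hx, rfl⟩ ⟨_, y, hy, rfl⟩
    apply Subtype.ext
    show ψ x * ψ y = ψ y * ψ x
    rw [← map_mul, ← map_mul]
    congr 1
    apply Subtype.ext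
    have hc := (TvCent.Es_elementary 3).1
    have := hc.is_comm.comm (⟨x.1, Subgroup.mem_subgroupOf.mp hx⟩ : ↥(TvCent.Es 3))
      ⟨y.1, Subgroup.mem_subgroupOf.mp hy⟩
    show x.1 * y.1 = y.1 * x.1
    exact congrArg Subtype.val this
  · rintro _ ⟨x, hx, rfl⟩
    rw [← map_pow]
    have h2 := (TvCent.Es_elementary 3).2 x.1 (Subgroup.mem_subgroupOf.mp hx)
    have h3 : x ^ 2 = 1 := Subtype.ext h2
    rw [h3, map_one]
  · rw [Subgroup.card_map_of_injective hinj,
      Nat.card_congr (Subgroup.subgroupOfEquivOfLe hEle).toEquiv, TvCent.card_Es]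
  · rw [← hrange]
    exact TvAff.comp_range_le ψ
  · rw [← hrange]
    exact TvAff.image_sup_comp_range ψ

end Cfsg.Agent.Lib.Helper9.Oct
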