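import Mathlib
import Cfsg.Agent.Lib.Helper9.OctA
import Cfsg.Agent.Lib.Helper9.OctB

/-!
The embedding of the centraliser of a transvection of `SL₅(2)` onto the centraliser in `M₂₄` of an
involution fixing an octad pointwise (S5425).
-/

set_option autoImplicit false

namespace Cfsg.Agent.Lib.Helper9.Oct

open Cfsg Cfsg.Agent.Lib.Helper7 Cfsg.Agent.Lib.Helper9.CZ

/-- the isomorphism of S2133 -/
noncomputable def Psi0 : ↥CM ≃* ↥(TvCent.CS 3) :=
  (MonoidHom.ofInjective rhoM_injective).trans
    ((MulEquiv.subgroupCongr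
      (rangeM_eq.trans (rangeS_eq (TvCent.zS 3) (TvCent.zS_val 3)).symm)).trans
      (MonoidHom.ofInjective (rhoS_injective (TvCent.zS 3) (TvCent.zS_val 3))).symm)

/-- the embedding for `z0` -/
noncomputable def psi0 : ↥(TvCent.CS 3) →* ↥M24 := CM.subtype.comp Psi0.symm.toMonoidHom

theorem psi0_injective : Function.Injective psi0 :=
  Subtype.val_injective.comp Psi0.symm.injective

theorem psi0_range : psi0.range = CM := by
  unfold psi0
  rw [MonoidHom.range_comp]
  have : Psi0.symm.toMonoidHom.range = ⊤ := MonoidHom.range_eq_top.mpr Psi0.symm.surjective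
  rw [this, ← MonoidHom.range_eq_map, Subgroup.range_subtype]

theorem map_conj_centralizer {G : Type*} [Group G] (u z : G) :
    (Subgroup.centralizer ({z} : Set G)).map (MulAut.conj u).toMonoidHom =
      Subgroup.centralizer ({u * z * u⁻¹} : Set G) := by
  ext x
  rw [Subgroup.mem_map, Subgroup.mem_centralizer_singleton_iff]
  constructor
  · rintro ⟨y, hy, rfl⟩
    rw [Subgroup.mem_centralizer_singleton_iff] at hy
    show u * y * u⁻¹ * (u * z * u⁻¹) = u * z * u⁻¹ * (u * y * u⁻¹)
    have e1 : u * z * u⁻¹ * (u * y * u⁻¹) = u * (z * y) * u⁻¹ := by group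
    have e2 : u * y * u⁻¹ * (u * z * u⁻¹) = u * (y * z) * u⁻¹ := by group
    rw [e1, e2, hy]
  · intro hx
    refine ⟨u⁻¹ * x * u, ?_, ?_⟩
    · rw [Subgroup.mem_centralizer_singleton_iff]
      have e1 : z * (u⁻¹ * x * u) = u⁻¹ * (u * z * u⁻¹ * x) * u := by group
      have e2 : u⁻¹ * x * u * z = u⁻¹ * (x * (u * z * u⁻¹)) * u := by group
      rw [e1, e2, hx]
    · show u * (u⁻¹ * x * u) * u⁻¹ = x
      group

/-- the embedding for a conjugate of `z0` -/
noncomputable def psiU (u : ↥M24) : ↥(TvCent.CS 3) →* ↥M24 :=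
  (MulAut.conj u).toMonoidHom.comp psi0

theorem psiU_injective (u : ↥M24) : Function.Injective (psiU u) :=
  (MulAut.conj u).injective.comp psi0_injective

theorem psiU_range (u : ↥M24) :
    (psiU u).range = Subgroup.centralizer ({u * z0 * u⁻¹} : Set ↥M24) := by
  unfold psiU
  rw [MonoidHom.range_comp, psi0_range]
  exact map_conj_centralizer u z0

theorem psiU_apply (u : ↥M24) (x : ↥(TvCent.CS 3)) : psiU u x = u * psi0 x * u⁻¹ := rfl

end Cfsg.Agent.Lib.Helper9.Oct
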