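import Mathlib
import Cfsg.Agent.Lib.Helper9.M24Rad1
import Cfsg.Agent.S5607
import Cfsg.Agent.S5425
import Cfsg.Agent.S5394

set_option autoImplicit false

/-! For an involution `z` of the group of the length-24 code: a 2-subgroup `R`, normal in a subgroup
`L` containing the centralizer of `z`, that is centralized by no element of odd prime order. -/

namespace Cfsg.Agent.Lib.Helper9.M24Rad

open Cfsg Finset Cfsg.Agent.Lib.Helper9.OutM Cfsg.Agent.Lib.Helper9.M24SK2
  Cfsg.Agent.Lib.Helper9.M24SK1 Cfsg.Agent.Lib.Helper9.M24SK3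
open scoped Pointwise

/-- the conjugate of the normal subgroup of order 64 of the standard sextet group -/
noncomputable def RP (g : Equiv.Perm GolayPt) : Subgroup (Equiv.Perm GolayPt) :=
  N0.map (MulAut.conj g).toMonoidHom

theorem mem_RP (g y : Equiv.Perm GolayPt) : y ∈ RP g ↔ g⁻¹ * y * g ∈ N0 := by
  unfold RP
  constructor
  · rintro ⟨n, hn, rfl⟩
    have : g⁻¹ * ((MulAut.conj g).toMonoidHom n) * g = n := by
      simp [MulAut.conj_apply]
      group
    rw [this]
    exact hn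
  · intro h
    refine ⟨g⁻¹ * y * g, h, ?_⟩
    simp [MulAut.conj_apply]
    group

theorem card_RP (g : Equiv.Perm GolayPt) : Nat.card ↥(RP g) = 64 := by
  unfold RP
  rw [← card_N0]
  exact (Nat.card_congr (N0.equivMapOfInjective (MulAut.conj g).toMonoidHom
    (MulAut.conj g).injective).toEquiv).symm

theorem RP_le (g : Equiv.Perm GolayPt) (hg : g ∈ M24) : RP g ≤ M24 := by
  intro y hy
  rw [mem_RP] at hy
  have h1 : g⁻¹ * y * g ∈ M24 := ((mem_K0_iff _).mp hy.1).1
  have : y = g * (g⁻¹ * y * g) * g⁻¹ := by group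
  rw [this]
  exact M24.mul_mem (M24.mul_mem hg h1) (M24.inv_mem hg)

theorem RP_sq (g y : Equiv.Perm GolayPt) (hy : y ∈ RP g) : y * y = 1 := by
  rw [mem_RP] at hy
  have h2 := hy.2
  have : y * y = g * ((g⁻¹ * y * g) * (g⁻¹ * y * g)) * g⁻¹ := by group
  rw [this, h2, mul_one, mul_inv_cancel]

/-- elements of the conjugate fix each tetrad of the image sextet, hence stabilize it -/
theorem RP_stab (g y : Equiv.Perm GolayPt) (hy : y ∈ RP g) : y • (g • S0) = g • S0 := by
  rw [mem_RP] at hy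
  have h1 := K0_stab _ hy.1
  have : y = g * (g⁻¹ * y * g) * g⁻¹ := by group
  rw [this, mul_smul, mul_smul, inv_smul_smul, h1]

/-- the stabilizer of the image sextet normalizes the conjugate -/
theorem RP_conj (g l y : Equiv.Perm GolayPt) (hg : g ∈ M24) (hl : l ∈ M24)
    (hlS : l • (g • S0) = g • S0) (hy : y ∈ RP g) : l * y * l⁻¹ ∈ RP g := by
  rw [mem_RP] at hy ⊢
  have hl' : (g⁻¹ * l * g) • S0 = S0 := by
    rw [mul_smul, mul_smul, hlS, inv_smul_smul]
  have hM : g⁻¹ * l * g ∈ M24 := M24.mul_mem (M24.mul_mem (M24.inv_mem hg) hl) hg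
  have := conj_mem_N0 (g⁻¹ * l * g) (g⁻¹ * y * g) hM hl' hy
  have e : g⁻¹ * (l * y * l⁻¹) * g = g⁻¹ * l * g * (g⁻¹ * y * g) * (g⁻¹ * l * g)⁻¹ := by group
  rw [e]
  exact this

/-- the fixed-point-free case -/
theorem c6b (z : ↥M24) (hz : orderOf z = 2) (hfpf : ∀ p, (z : Equiv.Perm GolayPt) p ≠ p) :
    ∃ L R : Subgroup ↥M24, Subgroup.centralizer ({z} : Set ↥M24) ≤ L ∧ R ≤ L ∧
      L ≤ Subgroup.normalizer (R : Set ↥M24) ∧ IsPGroup 2 R ∧
      ∀ (x : ↥M24) (q : ℕ), q.Prime → q ≠ 2 → orderOf x = q →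
        x ∉ Subgroup.centralizer (R : Set ↥M24) := by
  have hz' : orderOf (z : Equiv.Perm GolayPt) = 2 := by rw [Subgroup.orderOf_coe]; exact hz
  obtain ⟨_, _, S, hS, _, hcS⟩ := Cfsg.Agent.S5607.result (z : Equiv.Perm GolayPt) z.2 hz' hfpf
  have horb : S ∈ MulAction.orbit M24 S0 := by
    rw [Cfsg.Agent.Lib.Helper9.M24F5.orbit_sextet S0 S0_mem]
    exact hS
  obtain ⟨g, hg⟩ := horb
  have hgS : (g : Equiv.Perm GolayPt) • S0 = S := hg
  refine ⟨MulAction.stabilizer ↥M24 S, (RP (g : Equiv.Perm GolayPt)).comap M24.subtype,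
    ?_, ?_, ?_, ?_, ?_⟩
  · intro c hc
    rw [Subgroup.mem_centralizer_iff] at hc
    have h1 := hc z (Set.mem_singleton z)
    rw [MulAction.mem_stabilizer_iff]
    change (c : Equiv.Perm GolayPt) • S = S
    apply hcS _ c.2
    have := congrArg (Subtype.val) h1
    simp only [Subgroup.coe_mul] at this
    exact this.symm
  · intro y hy
    rw [Subgroup.mem_comap] at hy
    rw [MulAction.mem_stabilizer_iff]
    change (y : Equiv.Perm GolayPt) • S = S
    rw [← hgS]
    exact RP_stab _ _ hy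
  · intro l hl
    rw [MulAction.mem_stabilizer_iff] at hl
    have hl' : (l : Equiv.Perm GolayPt) • ((g : Equiv.Perm GolayPt) • S0) =
        (g : Equiv.Perm GolayPt) • S0 := by
      rw [hgS]; exact hl
    have hli : ((l⁻¹ : ↥M24) : Equiv.Perm GolayPt) • ((g : Equiv.Perm GolayPt) • S0) =
        (g : Equiv.Perm GolayPt) • S0 := by
      rw [Subgroup.coe_inv]
      nth_rewrite 1 [← hl']
      rw [inv_smul_smul]
    rw [Subgroup.mem_normalizer_iff]
    intro y
    constructor
    · intro hy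
      rw [Subgroup.mem_comap] at hy ⊢
      simp only [Subgroup.coe_subtype, Subgroup.coe_mul, Subgroup.coe_inv] at hy ⊢
      exact RP_conj _ _ _ g.2 l.2 hl' hy
    · intro hy
      rw [Subgroup.mem_comap] at hy ⊢
      simp only [Subgroup.coe_subtype, Subgroup.coe_mul, Subgroup.coe_inv] at hy ⊢
      have := RP_conj _ _ _ g.2 (l⁻¹ : ↥M24).2 hli hy
      rw [Subgroup.coe_inv] at this
      have e : (l : Equiv.Perm GolayPt)⁻¹ * ((l : Equiv.Perm GolayPt) * (y : Equiv.Perm GolayPt) *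
          (l : Equiv.Perm GolayPt)⁻¹) * ((l : Equiv.Perm GolayPt)⁻¹)⁻¹ = (y : Equiv.Perm GolayPt) := by
        group
      rw [e] at this
      exact this
  · intro y
    refine ⟨1, ?_⟩
    apply Subtype.ext
    have hy : ((y : ↥M24) : Equiv.Perm GolayPt) ∈ RP (g : Equiv.Perm GolayPt) := y.2
    have := RP_sq _ _ hy
    rw [pow_one, pow_two]
    apply Subtype.ext
    simp only [Subgroup.coe_mul, Subgroup.coe_one]
    exact this
  · intro x q hq hq2 ho hx
    rw [Subgroup.mem_centralizer_iff] at hx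
    apply no_E64 (x : Equiv.Perm GolayPt) x.2 q hq hq2 (by rw [Subgroup.orderOf_coe]; exact ho)
      (RP (g : Equiv.Perm GolayPt)) (RP_le _ g.2) (RP_sq _) ?_ (card_RP _)
    intro r hr
    have hrM : r ∈ M24 := RP_le _ g.2 hr
    have := hx ⟨r, hrM⟩ (by
      change (⟨r, hrM⟩ : ↥M24) ∈ (RP (g : Equiv.Perm GolayPt)).comap M24.subtype
      rw [Subgroup.mem_comap]
      exact hr)
    have h2 := congrArg (Subtype.val) this
    simp only [Subgroup.coe_mul] at h2
    exact h2

end Cfsg.Agent.Lib.Helper9.M24Rad
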