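import Mathlib
import Cfsg.Agent.Lib.Helper9.M24Rad2
import Cfsg.Agent.Lib.Helper9.StronglyEmbedded

set_option autoImplicit false

/-! Radical 2-subgroups of the group of the length-24 code have no nontrivial centralizing
elements of odd order (given the abstract "radical + Thompson P×Q" lemma as a hypothesis). -/

namespace Cfsg.Agent.Lib.Helper9.M24Rad

open Cfsg Finset
open scoped Pointwise

/-- the octad case -/
theorem c6a (z : ↥M24) (hz : orderOf z = 2)
    (hfix : (Finset.univ.filter fun p : GolayPt => (z : Equiv.Perm GolayPt) p = p) ∈ octads) :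
    ∃ L R : Subgroup ↥M24, Subgroup.centralizer ({z} : Set ↥M24) ≤ L ∧ R ≤ L ∧
      L ≤ Subgroup.normalizer (R : Set ↥M24) ∧ IsPGroup 2 R ∧
      ∀ (x : ↥M24) (q : ℕ), q.Prime → q ≠ 2 → orderOf x = q →
        x ∉ Subgroup.centralizer (R : Set ↥M24) := by
  obtain ⟨_, _, _, hLE, _⟩ := Cfsg.Agent.S5425.result z hz hfix _ rfl
  have hP : IsPGroup 2 ↥((Cfsg.pCore 2 ↥(Subgroup.centralizer ({z} : Set ↥M24))).map
      (Subgroup.centralizer ({z} : Set ↥M24)).subtype) :=
    (Cfsg.Agent.Lib.Helper9.pCore_isPGroup' 2 _).map _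
  refine ⟨Subgroup.centralizer ({z} : Set ↥M24), _, le_refl _, Subgroup.map_subtype_le _, ?_, hP, ?_⟩
  · have hn := Cfsg.Agent.Lib.Helper9.pCore_normal' 2 ↥(Subgroup.centralizer ({z} : Set ↥M24))
    have h := Subgroup.le_normalizer_map (H := Cfsg.pCore 2 ↥(Subgroup.centralizer ({z} : Set ↥M24)))
      (Subgroup.centralizer ({z} : Set ↥M24)).subtype
    rw [Subgroup.normalizer_eq_top_iff.mpr hn, ← MonoidHom.range_eq_map,
      Subgroup.range_subtype] at h
    exact h
  · intro x q hq hq2 ho hx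
    rw [hLE.2.1] at hx
    obtain ⟨y, _, rfl⟩ := hx
    have hy : ((y : ↥M24)) ∈ (Cfsg.pCore 2 ↥(Subgroup.centralizer ({z} : Set ↥M24))).map
        (Subgroup.centralizer ({z} : Set ↥M24)).subtype := y.2
    haveI : Fact (Nat.Prime 2) := ⟨Nat.prime_two⟩
    obtain ⟨k, hk⟩ := (IsPGroup.iff_orderOf.mp hP) ⟨_, hy⟩
    rw [Subgroup.orderOf_mk] at hk
    change orderOf ((y : ↥M24)) = q at ho
    rw [hk] at ho
    have h2 : 2 ∣ q := by
      rcases k with _ | k
      · rw [pow_zero] at ho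
        exact absurd ho.symm hq.one_lt.ne'
      · rw [← ho]
        exact dvd_pow_self 2 (Nat.succ_ne_zero k)
    exact hq2 ((Nat.prime_dvd_prime_iff_eq Nat.prime_two hq).mp h2).symm

/-- a radical 2-subgroup has no nontrivial centralizing element of odd order -/
theorem h2_M24 (D : Subgroup ↥M24) (hD : IsPGroup 2 D) (hD1 : D ≠ ⊥)
    (hA1 : ∀ H R : Subgroup ↥M24, D ≤ H → Subgroup.centralizer (D : Set ↥M24) ≤ H → R ≤ H →
      H ≤ Subgroup.normalizer (R : Set ↥M24) → IsPGroup 2 R →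
      ∀ y ∈ Subgroup.centralizer (D : Set ↥M24), ¬ 2 ∣ orderOf y →
        y ∈ Subgroup.centralizer (R : Set ↥M24))
    (x : ↥M24) (hxD : x ∈ Subgroup.centralizer (D : Set ↥M24)) (hodd : ¬ 2 ∣ orderOf x) : x = 1 := by
  haveI : Finite ↥M24 := Nat.finite_of_card_ne_zero (by
    rw [Cfsg.Agent.Lib.Helper9.M24T4.card_M24]; norm_num)
  haveI : Fact (Nat.Prime 2) := ⟨Nat.prime_two⟩
  by_contra hx1
  -- a power of prime order
  have ho1 : orderOf x ≠ 1 := fun h => hx1 (orderOf_eq_one_iff.mp h)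
  obtain ⟨q, hq, hqd⟩ := Nat.exists_prime_and_dvd ho1
  have hq2 : q ≠ 2 := by
    rintro rfl
    exact hodd hqd
  have ho0 : orderOf x ≠ 0 := (orderOf_pos x).ne'
  have hx' : orderOf (x ^ (orderOf x / q)) = q := orderOf_pow_orderOf_div ho0 hqd
  have hx'D : x ^ (orderOf x / q) ∈ Subgroup.centralizer (D : Set ↥M24) := pow_mem hxD _
  have hx'odd : ¬ 2 ∣ orderOf (x ^ (orderOf x / q)) := by
    rw [hx']
    intro h
    exact hq2 ((Nat.prime_dvd_prime_iff_eq Nat.prime_two hq).mp h).symm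
  -- an involution in the centre of D
  haveI : Nontrivial ↥D := (Subgroup.nontrivial_iff_ne_bot D).mpr hD1
  haveI := hD.center_nontrivial
  have hZ : IsPGroup 2 ↥(Subgroup.center ↥D) := hD.to_subgroup _
  obtain ⟨n, hn⟩ := hZ.exists_card_eq
  have hn0 : n ≠ 0 := by
    rintro rfl
    rw [pow_zero] at hn
    have := (Nat.card_eq_one_iff_unique.mp hn).1
    exact not_subsingleton _ this
  have h2card : 2 ∣ Nat.card ↥(Subgroup.center ↥D) := by
    rw [hn]; exact dvd_pow_self 2 hn0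
  obtain ⟨z0, hz0⟩ := exists_prime_orderOf_dvd_card' 2 h2card
  set z : ↥M24 := ((z0 : ↥D) : ↥M24) with hzdef
  have hz : orderOf z = 2 := by
    rw [hzdef, Subgroup.orderOf_coe, Subgroup.orderOf_coe]
    exact hz0
  have hzc : ∀ d ∈ D, d * z = z * d := by
    intro d hd
    have h := Subgroup.mem_center_iff.mp z0.2 ⟨d, hd⟩
    have h2 := congrArg (Subtype.val) h
    simp only [Subgroup.coe_mul] at h2
    exact h2
  have hDz : D ≤ Subgroup.centralizer ({z} : Set ↥M24) := by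
    intro d hd
    rw [Subgroup.mem_centralizer_iff]
    intro w hw
    rw [Set.mem_singleton_iff] at hw
    rw [hw]
    exact (hzc d hd).symm
  have hCz : Subgroup.centralizer (D : Set ↥M24) ≤ Subgroup.centralizer ({z} : Set ↥M24) := by
    intro y hy
    rw [Subgroup.mem_centralizer_iff] at hy ⊢
    intro w hw
    rw [Set.mem_singleton_iff] at hw
    rw [hw]
    exact hy z (z0 : ↥D).2
  have hz' : orderOf (z : Equiv.Perm GolayPt) = 2 := by rw [Subgroup.orderOf_coe]; exact hz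
  have hcase : ∃ L R : Subgroup ↥M24, Subgroup.centralizer ({z} : Set ↥M24) ≤ L ∧ R ≤ L ∧
      L ≤ Subgroup.normalizer (R : Set ↥M24) ∧ IsPGroup 2 R ∧
      ∀ (x : ↥M24) (q : ℕ), q.Prime → q ≠ 2 → orderOf x = q →
        x ∉ Subgroup.centralizer (R : Set ↥M24) := by
    rcases Cfsg.Agent.S5394.result.1 (z : Equiv.Perm GolayPt) z.2 hz' with h | h
    · exact c6a z hz h
    · exact c6b z hz h
  obtain ⟨L, R, hCL, hRL, hLN, hR, hno⟩ := hcase
  exact hno _ q hq hq2 hx' (hA1 L R (hDz.trans hCL) (hCz.trans hCL) hRL hLN hR _ hx'D hx'odd)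

end Cfsg.Agent.Lib.Helper9.M24Rad
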