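import Cfsg.Agent.Lib.Helper9.GolaySextet1
import Cfsg.Agent.Lib.Helper9.M24T1

set_option autoImplicit false

namespace Cfsg.Agent.Lib.Helper9.M24S1

open Cfsg Finset Cfsg.Agent.Lib.Helper9.Golay1 Cfsg.Agent.Lib.Helper9.GolayQR4
  Cfsg.Agent.Lib.Helper9.GolayQR5 Cfsg.Agent.Lib.Helper9.GolayQR6
  Cfsg.Agent.Lib.Helper9.GolayQR7 Cfsg.Agent.Lib.Helper9.GolayG2
  Cfsg.Agent.Lib.Helper9.GolayG5 Cfsg.Agent.Lib.Helper9.GolaySextet1
  Cfsg.Agent.Lib.Helper9.M24T1
open scoped Pointwise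

theorem smul_sextet_mem (g : Equiv.Perm GolayPt) (hg : g ∈ M24) (S : Finset (Finset GolayPt))
    (hS : S ∈ sextets) : g • S ∈ sextets := by
  obtain ⟨h6, h4, hoct⟩ := hS
  refine ⟨by rw [Finset.card_smul_finset, h6], ?_, ?_⟩
  · intro t ht
    obtain ⟨t0, ht0, rfl⟩ := mem_smul_finset.mp ht
    rw [Finset.card_smul_finset]
    exact h4 t0 ht0
  · intro t ht u hu hne
    obtain ⟨t0, ht0, rfl⟩ := mem_smul_finset.mp ht
    obtain ⟨u0, hu0, rfl⟩ := mem_smul_finset.mp hu
    rw [← smul_finset_union]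
    exact smul_octad_mem g hg _ (hoct t0 ht0 u0 hu0 (fun h => hne (by rw [h])))

theorem smul_sextetOf (g : Equiv.Perm GolayPt) (hg : g ∈ M24) (t : Finset GolayPt)
    (ht : t.card = 4) : g • sextetOf t = sextetOf (g • t) :=
  sextet_eq (g • sextetOf t) (smul_sextet_mem g hg _ (sextetOf_mem t ht)) (g • t)
    (smul_mem_smul_finset (sextetOf_struct t ht).1)

theorem sdiff_mem_sextetOf (t : Finset GolayPt) (ht : t.card = 4) (o : Finset GolayPt)
    (ho : o ∈ octads) (hto : t ⊆ o) : o \ t ∈ sextetOf t := by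
  obtain ⟨c, hc, hc8, rfl⟩ := octad_word o ho
  obtain ⟨m1, m2⟩ := octad_sub_mem_fib golayCode t c hc hc8 ht hto
  unfold sextetOf
  rw [mem_image]
  exact ⟨c + ind t, m1, m2⟩

theorem sextetOf_eq_of_mem (t : Finset GolayPt) (ht : t.card = 4) (u : Finset GolayPt)
    (hu : u ∈ sextetOf t) : sextetOf u = sextetOf t :=
  (sextet_eq (sextetOf t) (sextetOf_mem t ht) u hu).symm

theorem sextet_disjoint (S : Finset (Finset GolayPt)) (hS : S ∈ sextets) (t u : Finset GolayPt)
    (ht : t ∈ S) (hu : u ∈ S) (hne : t ≠ u) : Disjoint t u := by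
  obtain ⟨-, h4, hoct⟩ := hS
  have h8 : (t ∪ u).card = 8 := (hoct t ht u hu hne).2
  rw [disjoint_iff_inter_eq_empty, ← card_eq_zero]
  have := card_union_add_card_inter t u
  have := h4 t ht
  have := h4 u hu
  omega

theorem sextet_cover (S : Finset (Finset GolayPt)) (hS : S ∈ sextets) (p : GolayPt) :
    ∃ t ∈ S, p ∈ t := by
  have hdisj : (S : Set (Finset GolayPt)).PairwiseDisjoint id := by
    intro t ht u hu hne
    exact sextet_disjoint S hS t u ht hu hne
  have hcard : (S.biUnion id).card = 24 := by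
    rw [card_biUnion hdisj]
    have : ∀ u ∈ S, (id u : Finset GolayPt).card = 4 := fun u hu => hS.2.1 u hu
    rw [sum_congr rfl this, sum_const, hS.1]
    rfl
  have huniv : S.biUnion id = univ := by
    apply eq_univ_of_card
    rw [hcard, card_golayPt]
  have : p ∈ S.biUnion id := by rw [huniv]; exact mem_univ p
  obtain ⟨t, ht, hp⟩ := mem_biUnion.mp this
  exact ⟨t, ht, hp⟩

/-- two tetrads of a sextet through a common point are equal -/
theorem sextet_tetrad_unique (S : Finset (Finset GolayPt)) (hS : S ∈ sextets)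
    (t u : Finset GolayPt) (ht : t ∈ S) (hu : u ∈ S) (p : GolayPt) (hpt : p ∈ t) (hpu : p ∈ u) :
    t = u := by
  by_contra hne
  exact disjoint_left.mp (sextet_disjoint S hS t u ht hu hne) hpt hpu

end Cfsg.Agent.Lib.Helper9.M24S1
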