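import Cfsg.Agent.Lib.Helper9.M24V1

set_option autoImplicit false

namespace Cfsg.Agent.Lib.Helper9.M24V2

open Cfsg Finset Cfsg.Agent.Lib.Helper9.Golay1 Cfsg.Agent.Lib.Helper9.GolayQR1
  Cfsg.Agent.Lib.Helper9.GolayQR5
  Cfsg.Agent.Lib.Helper9.M24T1 Cfsg.Agent.Lib.Helper9.M24T3 Cfsg.Agent.Lib.Helper9.M24T6
  Cfsg.Agent.Lib.Helper9.M24T8 Cfsg.Agent.Lib.Helper9.M24T9
  Cfsg.Agent.Lib.Helper9.M24U1 Cfsg.Agent.Lib.Helper9.M24U2 Cfsg.Agent.Lib.Helper9.M24U3
  Cfsg.Agent.Lib.Helper9.M24U4 Cfsg.Agent.Lib.Helper9.M24V1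
open scoped Pointwise

theorem O8_eq : O8 = M oMask := rfl

theorem card_inter_M (m n : ℕ) : (M m ∩ M n).card = wt24 (n &&& m) := by
  rw [← M_and, card_M, Nat.land_comm]

theorem card_smul_inter (g : Equiv.Perm GolayPt) (a b : Finset GolayPt) :
    (g • a ∩ g • b).card = (a ∩ b).card := by
  rw [← Finset.smul_finset_inter, Finset.card_smul_finset]

/-- the stabilizer of the standard octad is transitive on the octads meeting it in a given number
of points -/
theorem std_octad_orbits (p p' : Finset GolayPt) (hp : p ∈ octads) (hp' : p' ∈ octads)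
    (h : (O8 ∩ p).card = (O8 ∩ p').card) : ∃ g ∈ stabF O8, g • p = p' := by
  by_cases hpO : p = O8
  · have h8 : O8.card = 8 := O8_mem.2
    have h8' : p'.card = 8 := hp'.2
    rw [hpO, inter_self, h8] at h
    have hsub : O8 ∩ p' = O8 := eq_of_subset_of_card_le inter_subset_left (by omega)
    have hsub2 : O8 ∩ p' = p' := eq_of_subset_of_card_le inter_subset_right (by omega)
    refine ⟨1, (stabF O8).one_mem, ?_⟩
    rw [one_smul, hpO, ← hsub, hsub2]
  · have hp'O : p' ≠ O8 := by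
      rintro rfl
      have h8 : O8.card = 8 := O8_mem.2
      have h8' : p.card = 8 := hp.2
      rw [inter_self, h8] at h
      have hsub : O8 ∩ p = O8 := eq_of_subset_of_card_le inter_subset_left (by omega)
      have hsub2 : O8 ∩ p = p := eq_of_subset_of_card_le inter_subset_right (by omega)
      exact hpO (by rw [← hsub2, hsub])
    obtain ⟨m, hm, rfl⟩ := (mem_octads_iff' p).mp hp
    obtain ⟨m', hm', rfl⟩ := (mem_octads_iff' p').mp hp'
    have hk := Cfsg.Agent.Lib.Helper9.Steiner5.block_inter card_golayPt octads_isSteiner O8_mem hp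
      (fun e => hpO e.symm)
    rw [O8_eq, card_inter_M, card_inter_M] at h
    rw [O8_eq, card_inter_M] at hk
    rcases hk with hk | hk | hk
    · exact transA0 m (List.mem_filter.mpr ⟨hm, by simpa using hk⟩) m'
        (List.mem_filter.mpr ⟨hm', by rw [← h]; simpa using hk⟩)
    · exact transA2 m (List.mem_filter.mpr ⟨hm, by simpa using hk⟩) m'
        (List.mem_filter.mpr ⟨hm', by rw [← h]; simpa using hk⟩)
    · exact transA4 m (List.mem_filter.mpr ⟨hm, by simpa using hk⟩) m'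
        (List.mem_filter.mpr ⟨hm', by rw [← h]; simpa using hk⟩)

theorem octad_orbits (o o' o'' : Finset GolayPt) (ho : o ∈ octads) (ho' : o' ∈ octads)
    (ho'' : o'' ∈ octads) (h : (o ∩ o').card = (o ∩ o'').card) :
    ∃ g : Equiv.Perm GolayPt, g ∈ M24 ∧ g • o = o ∧ g • o' = o'' := by
  obtain ⟨t, ht, rfl⟩ := octad_transitive O8 o O8_mem ho
  have htinv : t⁻¹ ∈ M24 := M24.inv_mem ht
  have e1 : (O8 ∩ t⁻¹ • o').card = (O8 ∩ t⁻¹ • o'').card := by
    have a1 := card_smul_inter t⁻¹ (t • O8) o'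
    have a2 := card_smul_inter t⁻¹ (t • O8) o''
    rw [inv_smul_smul] at a1 a2
    rw [a1, a2, h]
  obtain ⟨g, hg, hgp⟩ := std_octad_orbits _ _ (smul_octad_mem _ htinv _ ho')
    (smul_octad_mem _ htinv _ ho'') e1
  rw [mem_stabF] at hg
  refine ⟨t * g * t⁻¹, M24.mul_mem (M24.mul_mem ht hg.1) htinv, ?_, ?_⟩
  · rw [mul_smul, mul_smul, inv_smul_smul, hg.2]
  · rw [mul_smul, mul_smul, hgp, smul_inv_smul]

end Cfsg.Agent.Lib.Helper9.M24V2
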