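import Cfsg.Agent.Lib.Helper9.M24S2
import Cfsg.Agent.Lib.Helper9.M24V2

set_option autoImplicit false

namespace Cfsg.Agent.Lib.Helper9.M24S3

open Cfsg Finset Cfsg.Agent.Lib.Helper9.Golay1 Cfsg.Agent.Lib.Helper9.GolayQR1
  Cfsg.Agent.Lib.Helper9.GolayQR5 Cfsg.Agent.Lib.Helper9.GolaySextet1
  Cfsg.Agent.Lib.Helper9.M24T1 Cfsg.Agent.Lib.Helper9.M24U1 Cfsg.Agent.Lib.Helper9.M24U3
  Cfsg.Agent.Lib.Helper9.M24U4 Cfsg.Agent.Lib.Helper9.M24U5
  Cfsg.Agent.Lib.Helper9.M24Z1 Cfsg.Agent.Lib.Helper9.M24S1 Cfsg.Agent.Lib.Helper9.M24S2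
open scoped Pointwise

/-- the stabilizer in `M24` of an object -/
def stabX {α : Type*} [MulAction (Equiv.Perm GolayPt) α] (x : α) :
    Subgroup (Equiv.Perm GolayPt) :=
  M24 ⊓ MulAction.stabilizer (Equiv.Perm GolayPt) x

theorem mem_stabX {α : Type*} [MulAction (Equiv.Perm GolayPt) α] (x : α)
    (g : Equiv.Perm GolayPt) : g ∈ stabX x ↔ g ∈ M24 ∧ g • x = x := by
  unfold stabX
  rw [Subgroup.mem_inf]
  exact ⟨fun h => ⟨h.1, MulAction.mem_stabilizer_iff.mp h.2⟩,
    fun h => ⟨h.1, MulAction.mem_stabilizer_iff.mpr h.2⟩⟩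

theorem M_two_pow (k : ℕ) (hk : k < 24) : M (2 ^ k) = {unidx k} := by
  ext p
  rw [mem_M, Nat.testBit_two_pow, mem_singleton, decide_eq_true_eq]
  constructor
  · intro h
    rw [h, unidx_idx]
  · intro h
    rw [h, idx_unidx k hk]

/-- a mask has at most one bit iff the usual bit trick gives zero -/
theorem card_M_le_one_iff (x : ℕ) (hx : x < 2 ^ 24) : (M x).card ≤ 1 ↔ x &&& (x - 1) = 0 := by
  by_cases h0 : x = 0
  · rw [h0, M_zero]
    simp
  · rw [Nat.and_sub_one_eq_zero_iff_isPowerOfTwo h0]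
    constructor
    · intro hc
      have hne : M x ≠ ∅ := by
        intro h
        apply h0
        exact M_inj x 0 hx (by norm_num) (by rw [h, M_zero])
      have h1 : (M x).card = 1 := by
        have := card_pos.mpr (nonempty_iff_ne_empty.mpr hne)
        omega
      obtain ⟨p, hp⟩ := card_eq_one.mp h1
      refine ⟨idx p, ?_⟩
      apply M_inj x (2 ^ idx p) hx (Nat.pow_lt_pow_right (by norm_num) (idx_lt p))
      rw [hp, M_two_pow _ (idx_lt p), unidx_idx]
    · rintro ⟨k, rfl⟩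
      have hk : k < 24 := (Nat.pow_lt_pow_iff_right (by norm_num)).mp hx
      rw [M_two_pow k hk, card_singleton]

/-- at least two common points, on masks -/
def meet2 (a b : ℕ) : Bool := (a &&& b) &&& ((a &&& b) - 1) != 0

theorem meet2_iff (a b : ℕ) (ha : a < 2 ^ 24) :
    2 ≤ (M a ∩ M b).card ↔ meet2 a b = true := by
  unfold meet2
  rw [← M_and, bne_iff_ne, Ne, ← card_M_le_one_iff _ (and_lt a b ha)]
  omega

/-- number of pairs of members of two families with at least two common points -/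
def iotaSS (S X : Finset (Finset GolayPt)) : ℕ :=
  ∑ t ∈ S, (X.filter (fun u => 2 ≤ (t ∩ u).card)).card

theorem iotaSS_smul (g : Equiv.Perm GolayPt) (S X : Finset (Finset GolayPt)) :
    iotaSS (g • S) (g • X) = iotaSS S X := by
  unfold iotaSS
  have e1 : g • S = S.image (fun t => g • t) := rfl
  have e2 : g • X = X.image (fun u => g • u) := rfl
  rw [e1, sum_image (fun a _ b _ h => smul_left_cancel g h)]
  apply sum_congr rfl
  intro t _
  rw [e2, filter_image, card_image_of_injective _ (MulAction.injective g)]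
  congr 1
  apply filter_congr
  intro u _
  rw [M24V2.card_smul_inter]

theorem iotaSS_smul_right (g : Equiv.Perm GolayPt) (S X : Finset (Finset GolayPt))
    (hS : g • S = S) : iotaSS S (g • X) = iotaSS S X := by
  conv_lhs => rw [← hS]
  exact iotaSS_smul g S X

/-- sum over the tetrads of a coded sextet -/
theorem sum_Sx (τ : ℕ) (hτ : VS τ) (F : Finset GolayPt → ℕ) :
    ∑ t ∈ Sx τ, F t = ((tets τ).map (fun m => F (M m))).sum := by
  have hset : Sx τ = (tets τ).toFinset.image M := by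
    ext u
    rw [mem_Sx_iff τ hτ, mem_image]
    constructor
    · rintro ⟨m, hm, rfl⟩
      exact ⟨m, List.mem_toFinset.mpr hm, rfl⟩
    · rintro ⟨m, hm, rfl⟩
      exact ⟨m, List.mem_toFinset.mp hm, rfl⟩
  rw [hset, sum_image, List.sum_toFinset _ (tets_nodup τ hτ)]
  intro m hm m' hm' h
  rw [mem_coe, List.mem_toFinset] at hm hm'
  exact M_inj m m' (tets_lt τ hτ m hm) (tets_lt τ hτ m' hm') h

/-- the invariant on codes -/
def iotaC (T0 : List ℕ) (τ : ℕ) : ℕ :=
  (T0.map fun a => ((tets τ).filter fun b => meet2 a b).length).sum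

theorem iotaSS_eq (τ0 τ : ℕ) (hτ0 : VS τ0) (hτ : VS τ) :
    iotaSS (Sx τ0) (Sx τ) = iotaC (tets τ0) τ := by
  unfold iotaSS iotaC
  rw [sum_Sx τ0 hτ0]
  congr 1
  apply List.map_congr_left
  intro a ha
  apply card_filter_Sx τ hτ
  intro b _
  exact meet2_iff a b (tets_lt τ0 hτ0 a ha)

end Cfsg.Agent.Lib.Helper9.M24S3
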