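import Cfsg.Agent.Lib.Helper9.M24T1
import Cfsg.Agent.Lib.Helper9.GolayM24b

set_option autoImplicit false

namespace Cfsg.Agent.Lib.Helper9.M24T2

open Cfsg Cfsg.Agent.Lib.Helper9.GolayQR1 Cfsg.Agent.Lib.Helper9.M24T1
  Cfsg.Agent.Lib.Helper9.GolayM24b

/-- the subgroup generated by the three standard generators -/
def C : Subgroup (Equiv.Perm GolayPt) :=
  Subgroup.closure {Equiv.optionCongr (Equiv.addRight (1 : ZMod 23)), projInv, cubeTwist}

theorem C_le : C ≤ M24 := by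
  unfold C
  rw [Subgroup.closure_le]
  rintro g (rfl | rfl | rfl)
  · exact shift_mem
  · exact projInv_mem
  · exact cubeTwist_mem

theorem mem_of_mul_eq (H : Subgroup (Equiv.Perm GolayPt)) {a x b : Equiv.Perm GolayPt}
    (ha : a ∈ H) (hb : b ∈ H) (h : a * x = b) : x ∈ H := by
  have : x = a⁻¹ * b := by rw [← h, inv_mul_cancel_left]
  rw [this]
  exact H.mul_mem (H.inv_mem ha) hb

/-- table permutation `pS` -/
def pS : Equiv.Perm GolayPt :=
  tperm [1, 2, 3, 4, 5, 6, 7, 8, 9, 10, 11, 12, 13, 14, 15, 16, 17, 18, 19, 20, 21, 22, 0, 23]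
    [22, 0, 1, 2, 3, 4, 5, 6, 7, 8, 9, 10, 11, 12, 13, 14, 15, 16, 17, 18, 19, 20, 21, 23] (by decide +kernel) (by decide +kernel)

/-- table permutation `pJ` -/
def pJ : Equiv.Perm GolayPt :=
  tperm [23, 22, 11, 15, 17, 9, 19, 13, 20, 5, 16, 2, 21, 7, 18, 3, 10, 4, 14, 6, 8, 12, 1, 0]
    [23, 22, 11, 15, 17, 9, 19, 13, 20, 5, 16, 2, 21, 7, 18, 3, 10, 4, 14, 6, 8, 12, 1, 0] (by decide +kernel) (by decide +kernel)

/-- table permutation `pC` -/
def pC : Equiv.Perm GolayPt :=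
  tperm [0, 18, 6, 3, 2, 21, 1, 5, 16, 12, 7, 19, 8, 9, 17, 15, 13, 11, 4, 22, 10, 20, 14, 23]
    [0, 6, 4, 3, 18, 7, 2, 10, 12, 13, 20, 17, 9, 16, 22, 15, 8, 14, 1, 11, 21, 5, 19, 23] (by decide +kernel) (by decide +kernel)

theorem pS_eq : Equiv.optionCongr (Equiv.addRight (1 : ZMod 23)) = pS :=
  Equiv.ext (by decide +kernel)

theorem pJ_eq : projInv = pJ := Equiv.ext (by decide +kernel)

theorem pC_eq : cubeTwist = pC := Equiv.ext (by decide +kernel)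

theorem pS_mem : pS ∈ C := by
  rw [← pS_eq]
  exact Subgroup.subset_closure (Or.inl rfl)

theorem pJ_mem : pJ ∈ C := by
  rw [← pJ_eq]
  exact Subgroup.subset_closure (Or.inr (Or.inl rfl))

theorem pC_mem : pC ∈ C := by
  rw [← pC_eq]
  exact Subgroup.subset_closure (Or.inr (Or.inr rfl))

/-- table permutation `G21` -/
def G21 : Equiv.Perm GolayPt :=
  tperm [0, 2, 5, 19, 17, 20, 12, 7, 4, 21, 15, 11, 10, 14, 8, 18, 1, 13, 6, 9, 16, 22, 3, 23]
    [0, 16, 1, 22, 8, 2, 18, 7, 14, 19, 12, 11, 6, 17, 13, 10, 20, 4, 15, 3, 5, 9, 21, 23] (by decide +kernel) (by decide +kernel)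

theorem G21_def : pS * G21 = pC * pC * pS * pS := Equiv.ext (by decide +kernel)

theorem G21_mem : G21 ∈ C :=
  mem_of_mul_eq C (pS_mem) (C.mul_mem (C.mul_mem (C.mul_mem pC_mem pC_mem) pS_mem) pS_mem) G21_def

/-- table permutation `G30` -/
def G30 : Equiv.Perm GolayPt :=
  tperm [0, 1, 8, 22, 21, 14, 6, 10, 18, 7, 5, 12, 2, 20, 9, 4, 17, 19, 11, 3, 15, 13, 16, 23]
    [0, 1, 12, 19, 15, 10, 6, 9, 2, 14, 7, 18, 11, 21, 5, 20, 22, 16, 8, 17, 13, 4, 3, 23] (by decide +kernel) (by decide +kernel)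

theorem G30_def : G30 = pC * G21 * pC := Equiv.ext (by decide +kernel)

theorem G30_mem : G30 ∈ C := by
  rw [G30_def]
  exact C.mul_mem (C.mul_mem pC_mem G21_mem) pC_mem

/-- table permutation `G31` -/
def G31 : Equiv.Perm GolayPt :=
  tperm [0, 1, 13, 5, 17, 9, 22, 4, 6, 7, 20, 3, 10, 18, 21, 12, 15, 11, 8, 2, 14, 16, 19, 23]
    [0, 1, 19, 11, 7, 3, 8, 9, 18, 5, 12, 17, 15, 2, 20, 16, 21, 4, 13, 22, 10, 14, 6, 23] (by decide +kernel) (by decide +kernel)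

theorem G31_def : G21 * pC * G31 = pC * G21 := Equiv.ext (by decide +kernel)

theorem G31_mem : G31 ∈ C :=
  mem_of_mul_eq C (C.mul_mem G21_mem pC_mem) (C.mul_mem pC_mem G21_mem) G31_def

/-- table permutation `G40` -/
def G40 : Equiv.Perm GolayPt :=
  tperm [0, 1, 2, 20, 8, 9, 3, 14, 19, 13, 4, 21, 6, 11, 15, 22, 12, 10, 7, 17, 16, 5, 18, 23]
    [0, 1, 2, 6, 10, 21, 12, 18, 4, 5, 17, 13, 16, 9, 7, 14, 20, 19, 22, 8, 3, 11, 15, 23] (by decide +kernel) (by decide +kernel)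

theorem G40_def : G30 * G40 = G31 * G30 * G30 := Equiv.ext (by decide +kernel)

theorem G40_mem : G40 ∈ C :=
  mem_of_mul_eq C (G30_mem) (C.mul_mem (C.mul_mem G31_mem G30_mem) G30_mem) G40_def

/-- table permutation `G41` -/
def G41 : Equiv.Perm GolayPt :=
  tperm [0, 1, 2, 18, 15, 12, 4, 22, 21, 5, 14, 19, 7, 10, 11, 3, 20, 8, 6, 13, 17, 16, 9, 23]
    [0, 1, 2, 15, 6, 9, 18, 12, 17, 22, 13, 14, 5, 19, 10, 4, 21, 20, 3, 11, 16, 8, 7, 23] (by decide +kernel) (by decide +kernel)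

theorem G41_def : G31 * G30 * G41 = G30 * G31 * G30 := Equiv.ext (by decide +kernel)

theorem G41_mem : G41 ∈ C :=
  mem_of_mul_eq C (C.mul_mem G31_mem G30_mem) (C.mul_mem (C.mul_mem G30_mem G31_mem) G30_mem) G41_def

/-- table permutation `G50` -/
def G50 : Equiv.Perm GolayPt :=
  tperm [0, 1, 2, 3, 20, 14, 22, 13, 12, 6, 21, 11, 18, 15, 17, 7, 10, 5, 8, 4, 19, 16, 9, 23]
    [0, 1, 2, 3, 19, 17, 9, 15, 18, 22, 16, 11, 8, 7, 5, 13, 21, 14, 12, 20, 4, 10, 6, 23] (by decide +kernel) (by decide +kernel)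

theorem G50_def : G50 = G40 * G41 * G41 := Equiv.ext (by decide +kernel)

theorem G50_mem : G50 ∈ C := by
  rw [G50_def]
  exact C.mul_mem (C.mul_mem G40_mem G41_mem) G41_mem

/-- table permutation `G51` -/
def G51 : Equiv.Perm GolayPt :=
  tperm [0, 1, 2, 3, 9, 17, 19, 6, 4, 8, 11, 16, 22, 20, 5, 12, 10, 14, 13, 7, 18, 21, 15, 23]
    [0, 1, 2, 3, 8, 14, 7, 19, 9, 4, 16, 10, 15, 18, 17, 22, 11, 5, 20, 6, 13, 21, 12, 23] (by decide +kernel) (by decide +kernel)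

theorem G51_def : G40 * G51 = G41 * G40 * G40 := Equiv.ext (by decide +kernel)

theorem G51_mem : G51 ∈ C :=
  mem_of_mul_eq C (G40_mem) (C.mul_mem (C.mul_mem G41_mem G40_mem) G40_mem) G51_def

/-- table permutation `G52` -/
def G52 : Equiv.Perm GolayPt :=
  tperm [0, 1, 2, 3, 22, 17, 8, 11, 10, 19, 6, 15, 9, 13, 5, 7, 4, 14, 20, 12, 21, 18, 16, 23]
    [0, 1, 2, 3, 16, 14, 10, 15, 6, 12, 8, 7, 19, 13, 17, 11, 22, 5, 21, 9, 18, 20, 4, 23] (by decide +kernel) (by decide +kernel)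

theorem G52_def : G52 = G41 * G40 * G40 * G40 * G41 := Equiv.ext (by decide +kernel)

theorem G52_mem : G52 ∈ C := by
  rw [G52_def]
  exact C.mul_mem (C.mul_mem (C.mul_mem (C.mul_mem G41_mem G40_mem) G40_mem) G40_mem) G41_mem

/-- table permutation `G60` -/
def G60 : Equiv.Perm GolayPt :=
  tperm [0, 1, 2, 3, 4, 14, 15, 10, 21, 8, 12, 19, 7, 22, 17, 18, 13, 5, 6, 20, 11, 9, 16, 23]
    [0, 1, 2, 3, 4, 17, 18, 12, 9, 21, 7, 20, 10, 16, 5, 6, 22, 14, 15, 11, 19, 8, 13, 23] (by decide +kernel) (by decide +kernel)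

theorem G60_def : G51 * G60 = G50 * G52 := Equiv.ext (by decide +kernel)

theorem G60_mem : G60 ∈ C :=
  mem_of_mul_eq C (G51_mem) (C.mul_mem G50_mem G52_mem) G60_def

end Cfsg.Agent.Lib.Helper9.M24T2
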