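import Cfsg.Agent.Lib.Helper9.M24T2

set_option autoImplicit false

namespace Cfsg.Agent.Lib.Helper9.M24T3

open Cfsg Cfsg.Agent.Lib.Helper9.GolayQR1 Cfsg.Agent.Lib.Helper9.GolayQR3
  Cfsg.Agent.Lib.Helper9.M24T1 Cfsg.Agent.Lib.Helper9.M24T2 Cfsg.Agent.Lib.Helper9.Chain1

/-- elements of `H` fixing all points of a list -/
def fixL (H : Subgroup (Equiv.Perm GolayPt)) (l : List GolayPt) : Subgroup (Equiv.Perm GolayPt) where
  carrier := {g | g ∈ H ∧ ∀ b ∈ l, g b = b}
  mul_mem' := by
    rintro a b ⟨ha, ha'⟩ ⟨hb, hb'⟩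
    exact ⟨H.mul_mem ha hb, fun p hp => by rw [Equiv.Perm.mul_apply, hb' p hp, ha' p hp]⟩
  one_mem' := ⟨H.one_mem, fun _ _ => rfl⟩
  inv_mem' := by
    rintro a ⟨ha, ha'⟩
    refine ⟨H.inv_mem ha, fun p hp => ?_⟩
    have := ha' p hp
    rw [Equiv.Perm.inv_eq_iff_eq]
    exact this.symm

theorem mem_fixL (H : Subgroup (Equiv.Perm GolayPt)) (l : List GolayPt) (g : Equiv.Perm GolayPt) :
    g ∈ fixL H l ↔ g ∈ H ∧ ∀ b ∈ l, g b = b := Iff.rfl

theorem fixL_nil (H : Subgroup (Equiv.Perm GolayPt)) : fixL H [] = H := by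
  ext g
  rw [mem_fixL]
  simp

theorem fixL_snoc (H : Subgroup (Equiv.Perm GolayPt)) (l : List GolayPt) (b : GolayPt) :
    fixL H (l ++ [b]) = fixL H l ⊓ MulAction.stabilizer (Equiv.Perm GolayPt) b := by
  ext g
  rw [mem_inf_stab, mem_fixL, mem_fixL]
  simp only [List.mem_append, List.mem_singleton]
  constructor
  · rintro ⟨h1, h2⟩
    exact ⟨⟨h1, fun p hp => h2 p (Or.inl hp)⟩, h2 b (Or.inr rfl)⟩
  · rintro ⟨⟨h1, h2⟩, h3⟩
    refine ⟨h1, fun p hp => ?_⟩
    rcases hp with hp | rfl
    · exact h2 p hp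
    · exact h3

theorem fixL_mono {H H' : Subgroup (Equiv.Perm GolayPt)} (h : H ≤ H') (l : List GolayPt) :
    fixL H l ≤ fixL H' l := fun _ hg => ⟨h hg.1, hg.2⟩

theorem fixL_le (H : Subgroup (Equiv.Perm GolayPt)) (l : List GolayPt) : fixL H l ≤ H :=
  fun _ hg => hg.1

/-- an element fixing the points of a list maps a point outside the list outside the list -/
theorem apply_notMem (g : Equiv.Perm GolayPt) (l : List GolayPt) (hg : ∀ b ∈ l, g b = b)
    (p : GolayPt) (hp : p ∉ l) : g p ∉ l := by
  intro h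
  have := hg _ h
  exact hp (g.injective this ▸ h)

/-- the mask of the octad through the first five base points -/
def oMask : ℕ := 8536111

theorem maskInv_oMask (g : Equiv.Perm GolayPt) (hg : g ∈ fixL M24 [none, some 0, some 1, some 2, some 3]) :
    MaskInv g oMask := by
  apply maskInv_octad g hg.1 oMask 8388623
  · have h : ∀ p : GolayPt, (8388623 : ℕ).testBit (idx p) = true → p ∈ [none, some 0, some 1, some 2, some 3] := by
      decide +kernel
    intro p hp
    exact hg.2 p (h p hp)
  · decide +kernel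
  · decide +kernel
  · decide +kernel

/-- level 1: the orbit of the base point is at least `Δ` -/
theorem low1 : ∀ p : GolayPt, (fun _ : GolayPt => True) p →
    ∃ u ∈ fixL C [], u (none) = p := by
  have hfs : ∀ f ∈ ([⇑pS, ⇑pJ, ⇑pC] : List (GolayPt → GolayPt)),
      ∃ h ∈ fixL C [], ⇑h = f := by
    intro f hf
    simp only [List.mem_cons, List.not_mem_nil, or_false] at hf
    rcases hf with rfl | rfl | rfl
    · exact ⟨pS, ⟨pS_mem, by decide +kernel⟩, rfl⟩
    · exact ⟨pJ, ⟨pJ_mem, by decide +kernel⟩, rfl⟩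
    · exact ⟨pC, ⟨pC_mem, by decide +kernel⟩, rfl⟩
  have hdec : ∀ p : GolayPt, (fun _ : GolayPt => True) p →
      p ∈ (orbStep [⇑pS, ⇑pJ, ⇑pC])^[6] [none] := by
    decide +kernel
  intro p hp
  exact orb_sound _ _ hfs _ _ p (hdec p hp)

theorem up1 (g : Equiv.Perm GolayPt) (_hg : g ∈ fixL M24 []) :
    (fun _ : GolayPt => True) (g (none)) := trivial

/-- level 2: the orbit of the base point is at least `Δ` -/
theorem low2 : ∀ p : GolayPt, (fun p : GolayPt => p ∉ [none]) p →
    ∃ u ∈ fixL C [none], u (some 0) = p := by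
  have hfs : ∀ f ∈ ([⇑pS, ⇑pC] : List (GolayPt → GolayPt)),
      ∃ h ∈ fixL C [none], ⇑h = f := by
    intro f hf
    simp only [List.mem_cons, List.not_mem_nil, or_false] at hf
    rcases hf with rfl | rfl
    · exact ⟨pS, ⟨pS_mem, by decide +kernel⟩, rfl⟩
    · exact ⟨pC, ⟨pC_mem, by decide +kernel⟩, rfl⟩
  have hdec : ∀ p : GolayPt, (fun p : GolayPt => p ∉ [none]) p →
      p ∈ (orbStep [⇑pS, ⇑pC])^[7] [some 0] := by
    decide +kernel
  intro p hp
  exact orb_sound _ _ hfs _ _ p (hdec p hp)

theorem up2 (g : Equiv.Perm GolayPt) (hg : g ∈ fixL M24 [none]) :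
    (fun p : GolayPt => p ∉ [none]) (g (some 0)) :=
  apply_notMem g _ hg.2 _ (by decide)

/-- level 3: the orbit of the base point is at least `Δ` -/
theorem low3 : ∀ p : GolayPt, (fun p : GolayPt => p ∉ [none, some 0]) p →
    ∃ u ∈ fixL C [none, some 0], u (some 1) = p := by
  have hfs : ∀ f ∈ ([⇑pC, ⇑G21] : List (GolayPt → GolayPt)),
      ∃ h ∈ fixL C [none, some 0], ⇑h = f := by
    intro f hf
    simp only [List.mem_cons, List.not_mem_nil, or_false] at hf
    rcases hf with rfl | rfl
    · exact ⟨pC, ⟨pC_mem, by decide +kernel⟩, rfl⟩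
    · exact ⟨G21, ⟨G21_mem, by decide +kernel⟩, rfl⟩
  have hdec : ∀ p : GolayPt, (fun p : GolayPt => p ∉ [none, some 0]) p →
      p ∈ (orbStep [⇑pC, ⇑G21])^[5] [some 1] := by
    decide +kernel
  intro p hp
  exact orb_sound _ _ hfs _ _ p (hdec p hp)

theorem up3 (g : Equiv.Perm GolayPt) (hg : g ∈ fixL M24 [none, some 0]) :
    (fun p : GolayPt => p ∉ [none, some 0]) (g (some 1)) :=
  apply_notMem g _ hg.2 _ (by decide)

/-- level 4: the orbit of the base point is at least `Δ` -/
theorem low4 : ∀ p : GolayPt, (fun p : GolayPt => p ∉ [none, some 0, some 1]) p →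
    ∃ u ∈ fixL C [none, some 0, some 1], u (some 2) = p := by
  have hfs : ∀ f ∈ ([⇑G30, ⇑G31] : List (GolayPt → GolayPt)),
      ∃ h ∈ fixL C [none, some 0, some 1], ⇑h = f := by
    intro f hf
    simp only [List.mem_cons, List.not_mem_nil, or_false] at hf
    rcases hf with rfl | rfl
    · exact ⟨G30, ⟨G30_mem, by decide +kernel⟩, rfl⟩
    · exact ⟨G31, ⟨G31_mem, by decide +kernel⟩, rfl⟩
  have hdec : ∀ p : GolayPt, (fun p : GolayPt => p ∉ [none, some 0, some 1]) p →
      p ∈ (orbStep [⇑G30, ⇑G31])^[5] [some 2] := by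
    decide +kernel
  intro p hp
  exact orb_sound _ _ hfs _ _ p (hdec p hp)

theorem up4 (g : Equiv.Perm GolayPt) (hg : g ∈ fixL M24 [none, some 0, some 1]) :
    (fun p : GolayPt => p ∉ [none, some 0, some 1]) (g (some 2)) :=
  apply_notMem g _ hg.2 _ (by decide)

/-- level 5: the orbit of the base point is at least `Δ` -/
theorem low5 : ∀ p : GolayPt, (fun p : GolayPt => p ∉ [none, some 0, some 1, some 2]) p →
    ∃ u ∈ fixL C [none, some 0, some 1, some 2], u (some 3) = p := by
  have hfs : ∀ f ∈ ([⇑G40, ⇑G41] : List (GolayPt → GolayPt)),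
      ∃ h ∈ fixL C [none, some 0, some 1, some 2], ⇑h = f := by
    intro f hf
    simp only [List.mem_cons, List.not_mem_nil, or_false] at hf
    rcases hf with rfl | rfl
    · exact ⟨G40, ⟨G40_mem, by decide +kernel⟩, rfl⟩
    · exact ⟨G41, ⟨G41_mem, by decide +kernel⟩, rfl⟩
  have hdec : ∀ p : GolayPt, (fun p : GolayPt => p ∉ [none, some 0, some 1, some 2]) p →
      p ∈ (orbStep [⇑G40, ⇑G41])^[5] [some 3] := by
    decide +kernel
  intro p hp
  exact orb_sound _ _ hfs _ _ p (hdec p hp)

theorem up5 (g : Equiv.Perm GolayPt) (hg : g ∈ fixL M24 [none, some 0, some 1, some 2]) :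
    (fun p : GolayPt => p ∉ [none, some 0, some 1, some 2]) (g (some 3)) :=
  apply_notMem g _ hg.2 _ (by decide)

/-- level 6: the orbit of the base point is at least `Δ` -/
theorem low6 : ∀ p : GolayPt, (fun p : GolayPt => oMask.testBit (idx p) = false) p →
    ∃ u ∈ fixL C [none, some 0, some 1, some 2, some 3], u (some 4) = p := by
  have hfs : ∀ f ∈ ([⇑G50, ⇑G51, ⇑G52] : List (GolayPt → GolayPt)),
      ∃ h ∈ fixL C [none, some 0, some 1, some 2, some 3], ⇑h = f := by
    intro f hf
    simp only [List.mem_cons, List.not_mem_nil, or_false] at hf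
    rcases hf with rfl | rfl | rfl
    · exact ⟨G50, ⟨G50_mem, by decide +kernel⟩, rfl⟩
    · exact ⟨G51, ⟨G51_mem, by decide +kernel⟩, rfl⟩
    · exact ⟨G52, ⟨G52_mem, by decide +kernel⟩, rfl⟩
  have hdec : ∀ p : GolayPt, (fun p : GolayPt => oMask.testBit (idx p) = false) p →
      p ∈ (orbStep [⇑G50, ⇑G51, ⇑G52])^[4] [some 4] := by
    decide +kernel
  intro p hp
  exact orb_sound _ _ hfs _ _ p (hdec p hp)

theorem up6 (g : Equiv.Perm GolayPt) (hg : g ∈ fixL M24 [none, some 0, some 1, some 2, some 3]) :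
    (fun p : GolayPt => oMask.testBit (idx p) = false) (g (some 4)) := by
  have h := maskInv_oMask g hg (some 4)
  change oMask.testBit (idx (g (some 4))) = false
  rw [h]
  decide +kernel

/-- level 7: the orbit of the base point is at least `Δ` -/
theorem low7 : ∀ p : GolayPt, (fun p : GolayPt => oMask.testBit (idx p) = true ∧ p ∉ [none, some 0, some 1, some 2, some 3]) p →
    ∃ u ∈ fixL C [none, some 0, some 1, some 2, some 3, some 4], u (some 5) = p := by
  have hfs : ∀ f ∈ ([⇑G60] : List (GolayPt → GolayPt)),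
      ∃ h ∈ fixL C [none, some 0, some 1, some 2, some 3, some 4], ⇑h = f := by
    intro f hf
    simp only [List.mem_cons, List.not_mem_nil, or_false] at hf
    rcases hf with rfl
    · exact ⟨G60, ⟨G60_mem, by decide +kernel⟩, rfl⟩
  have hdec : ∀ p : GolayPt, (fun p : GolayPt => oMask.testBit (idx p) = true ∧ p ∉ [none, some 0, some 1, some 2, some 3]) p →
      p ∈ (orbStep [⇑G60])^[2] [some 5] := by
    decide +kernel
  intro p hp
  exact orb_sound _ _ hfs _ _ p (hdec p hp)

theorem up7 (g : Equiv.Perm GolayPt) (hg : g ∈ fixL M24 [none, some 0, some 1, some 2, some 3, some 4]) :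
    (fun p : GolayPt => oMask.testBit (idx p) = true ∧ p ∉ [none, some 0, some 1, some 2, some 3]) (g (some 5)) := by
  have hg5 : g ∈ fixL M24 [none, some 0, some 1, some 2, some 3] :=
    ⟨hg.1, fun p hp => hg.2 p (by
      have : ∀ q : GolayPt, q ∈ [none, some 0, some 1, some 2, some 3] → q ∈ [none, some 0, some 1, some 2, some 3, some 4] := by decide
      exact this p hp)⟩
  have h := maskInv_oMask g hg5 (some 5)
  refine ⟨?_, apply_notMem g _ hg5.2 _ (by decide)⟩
  rw [h]
  decide +kernel

/-- the certificate that an automorphism fixing the seven base points is trivial -/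
def cert7 : List Step :=
  [.oct 8391797,
    .oct 8663097,
    .and 8391797 8663097,
    .xor 8391797 8388657,
    .oct 2162811,
    .and 3140 2162811,
    .fix 6,
    .oct 8421811,
    .xor 8421811 8388657,
    .oct 8978620,
    .and 33154 8978620,
    .fix 7,
    .oct 10486557,
    .and 33154 10486557,
    .fix 8,
    .and 10486557 8391797,
    .xor 10486557 8388629,
    .oct 786999,
    .and 2097928 786999,
    .fix 9,
    .oct 12584506,
    .and 3140 12584506,
    .fix 10,
    .oct 9963547,
    .and 3140 9963547,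
    .fix 11,
    .xor 8663097 8388657,
    .oct 11538486,
    .and 274440 11538486,
    .fix 12,
    .oct 12656663,
    .and 274440 12656663,
    .fix 13,
    .oct 5275709,
    .and 33154 5275709,
    .fix 15,
    .and 2162811 8391797,
    .xor 2162811 113,
    .and 2162698 8978620,
    .and 65544 8663097,
    .xor 65544 8,
    .fix 16,
    .and 274440 786999,
    .fix 18,
    .and 8978620 8391797,
    .xor 8978620 8388660,
    .and 589960 786999,
    .fix 19,
    .and 9963547 8391797,
    .xor 9963547 8390673,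
    .and 1572874 2162811,
    .xor 1572874 10,
    .xor 1572864 524288,
    .fix 20,
    .and 2097928 11538486,
    .fix 21,
    .and 12584506 8391797,
    .xor 12584506 8389680,
    .xor 4194826 10,
    .xor 4194816 512,
    .fix 22,
    .oct 9748745,
    .oct 545190,
    .and 9748745 545190,
    .xor 16640 256,
    .fix 14,
    .oct 3277413,
    .oct 145176,
    .and 3277413 145176,
    .xor 131584 512,
    .fix 17]

theorem cert7_run : ∃ L', run cert7 [16777215] 8388671 = some (L', 16777215) := by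
  have : (run cert7 [16777215] 8388671).map Prod.snd = some 16777215 := by decide +kernel
  match h : run cert7 [16777215] 8388671, this with
  | some (L', F'), this =>
    simp only [Option.map_some, Option.some.injEq] at this
    exact ⟨L', by rw [← this]⟩

theorem fix7_eq_one (g : Equiv.Perm GolayPt) (hg : g ∈ fixL M24 [none, some 0, some 1, some 2, some 3, some 4, some 5]) : g = 1 := by
  obtain ⟨L', hrun⟩ := cert7_run
  refine eq_one_of_run g hg.1 cert7 [16777215] 8388671 L' ?_ ?_ hrun
  · intro m hm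
    rw [List.mem_singleton] at hm
    rw [hm]
    exact maskInv_ones g
  · have h : ∀ p : GolayPt, (8388671 : ℕ).testBit (idx p) = true → p ∈ [none, some 0, some 1, some 2, some 3, some 4, some 5] := by
      decide +kernel
    intro p hp
    exact hg.2 p (h p hp)

theorem fix7_eq_bot : fixL M24 [none, some 0, some 1, some 2, some 3, some 4, some 5] = ⊥ := by
  rw [eq_bot_iff]
  intro g hg
  rw [Subgroup.mem_bot]
  exact fix7_eq_one g hg

end Cfsg.Agent.Lib.Helper9.M24T3
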