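import Cfsg.Agent.Lib.Helper9.M24T1

set_option autoImplicit false

/-! Permutations of the 24 points coded by one number (base 32), for checks done on numbers. -/

namespace Cfsg.Agent.Lib.Helper9.M24TB1

open Cfsg Cfsg.Agent.Lib.Helper9.GolayQR1

/-- digit number `i` of a code in base 32 -/
def cget (c i : ℕ) : ℕ := (c >>> (5 * i)) &&& 31

/-- the function on points coded by a number -/
def cfun (c : ℕ) : GolayPt → GolayPt := fun p => unidx (cget c (idx p))

/-- a permutation has a given code -/
def HasCode (g : Equiv.Perm GolayPt) (c : ℕ) : Prop := ∀ p, g p = cfun c p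

/-- all digits of a code are indices of points -/
def cvalid (c : ℕ) : Bool := (List.range 24).all fun i => decide (cget c i < 24)

/-- rebuild a code from its digits -/
def recode (c : ℕ) : ℕ := ((List.range 24).map (cget c)).foldr (fun v acc => v + 32 * acc) 0

/-- the coded function squares to the identity -/
def isInvol (c : ℕ) : Bool := (List.range 24).all fun i => cget c (cget c i) == i

/-- the coded functions commute -/
def commC (c c' : ℕ) : Bool :=
  (List.range 24).all fun i => cget c (cget c' i) == cget c' (cget c i)

/-- the coded function is the identity -/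
def isOne (c : ℕ) : Bool := (List.range 24).all fun i => cget c i == i

theorem cvalid_lt (c : ℕ) (hc : cvalid c = true) (i : ℕ) (hi : i < 24) : cget c i < 24 := by
  unfold cvalid at hc
  rw [List.all_eq_true] at hc
  exact of_decide_eq_true (hc i (List.mem_range.mpr hi))

theorem hasCode_idx (g : Equiv.Perm GolayPt) (c : ℕ) (h : HasCode g c) (hc : cvalid c = true)
    (p : GolayPt) : idx (g p) = cget c (idx p) := by
  rw [h p]
  exact idx_unidx _ (cvalid_lt c hc _ (idx_lt p))

theorem hasCode_mul (g g' : Equiv.Perm GolayPt) (c c' : ℕ) (h : HasCode g c) (h' : HasCode g' c')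
    (hc' : cvalid c' = true) (p : GolayPt) : (g * g') p = unidx (cget c (cget c' (idx p))) := by
  rw [Equiv.Perm.mul_apply, h (g' p)]
  unfold cfun
  rw [hasCode_idx g' c' h' hc' p]

theorem unidx_inj (a b : ℕ) (ha : a < 24) (hb : b < 24) (h : unidx a = unidx b) : a = b := by
  rw [← idx_unidx a ha, ← idx_unidx b hb, h]

/-- permutations with the same code are equal -/
theorem hasCode_ext (g g' : Equiv.Perm GolayPt) (c : ℕ) (h : HasCode g c) (h' : HasCode g' c) :
    g = g' := Equiv.ext fun p => by rw [h p, h' p]

/-- a permutation has at most one canonical code -/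
theorem hasCode_inj (g : Equiv.Perm GolayPt) (c c' : ℕ) (h : HasCode g c) (h' : HasCode g c')
    (hc : cvalid c = true) (hc' : cvalid c' = true) (hr : recode c = c) (hr' : recode c' = c') :
    c = c' := by
  have hm : (List.range 24).map (cget c) = (List.range 24).map (cget c') := by
    apply List.map_congr_left
    intro i hi
    have hi' : i < 24 := List.mem_range.mp hi
    have h1 := hasCode_idx g c h hc (unidx i)
    have h2 := hasCode_idx g c' h' hc' (unidx i)
    rw [idx_unidx i hi'] at h1 h2
    rw [← h1, ← h2]
  have hrr : recode c = recode c' := congrArg (fun l => List.foldr (fun v acc => v + 32 * acc) 0 l) hm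
  exact hr.symm.trans (hrr.trans hr')

theorem isInvol_of (g : Equiv.Perm GolayPt) (c : ℕ) (h : HasCode g c) (hc : cvalid c = true)
    (hg : g * g = 1) : isInvol c = true := by
  unfold isInvol
  rw [List.all_eq_true]
  intro i hi
  have hi' : i < 24 := List.mem_range.mp hi
  rw [beq_iff_eq]
  have h1 := hasCode_mul g g c c h h hc (unidx i)
  rw [hg, Equiv.Perm.one_apply, idx_unidx i hi'] at h1
  exact (unidx_inj _ _ hi' (cvalid_lt c hc _ (cvalid_lt c hc _ hi')) h1).symm

theorem sq_of_isInvol (g : Equiv.Perm GolayPt) (c : ℕ) (h : HasCode g c) (hc : cvalid c = true)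
    (hi : isInvol c = true) : g * g = 1 := by
  unfold isInvol at hi
  rw [List.all_eq_true] at hi
  ext p
  rw [hasCode_mul g g c c h h hc p, Equiv.Perm.one_apply]
  have := hi (idx p) (List.mem_range.mpr (idx_lt p))
  rw [beq_iff_eq] at this
  rw [this, unidx_idx]

theorem comm_of_commC (g g' : Equiv.Perm GolayPt) (c c' : ℕ) (h : HasCode g c)
    (h' : HasCode g' c') (hc : cvalid c = true) (hc' : cvalid c' = true)
    (hcomm : commC c c' = true) : g * g' = g' * g := by
  unfold commC at hcomm
  rw [List.all_eq_true] at hcomm
  ext p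
  rw [hasCode_mul g g' c c' h h' hc' p, hasCode_mul g' g c' c h' h hc p]
  have := hcomm (idx p) (List.mem_range.mpr (idx_lt p))
  rw [beq_iff_eq] at this
  rw [this]

theorem one_of_isOne (g : Equiv.Perm GolayPt) (c : ℕ) (h : HasCode g c) (hi : isOne c = true) :
    g = 1 := by
  unfold isOne at hi
  rw [List.all_eq_true] at hi
  ext p
  have := hi (idx p) (List.mem_range.mpr (idx_lt p))
  rw [beq_iff_eq] at this
  rw [h p, Equiv.Perm.one_apply]
  unfold cfun
  rw [this, unidx_idx]

end Cfsg.Agent.Lib.Helper9.M24TB1
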