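import Cfsg.Agent.Lib.Helper9.M24TR1

set_option autoImplicit false

/-! The trio stabilizer acts linearly on the space of the seven refining sextets. -/

namespace Cfsg.Agent.Lib.Helper9.M24TR2

open Cfsg Finset Cfsg.Agent.Lib.Helper9.Golay1 Cfsg.Agent.Lib.Helper9.GolayQR1
  Cfsg.Agent.Lib.Helper9.GolayQR3 Cfsg.Agent.Lib.Helper9.GolayQR4
  Cfsg.Agent.Lib.Helper9.M24T1 Cfsg.Agent.Lib.Helper9.M24U1 Cfsg.Agent.Lib.Helper9.M24Z1
  Cfsg.Agent.Lib.Helper9.M24S1 Cfsg.Agent.Lib.Helper9.M24S2 Cfsg.Agent.Lib.Helper9.M24F7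
  Cfsg.Agent.Lib.Helper9.M24TR1
open scoped Pointwise symmDiff

/-- the three basis tetrads -/
def tau : Fin 3 → ℕ
  | 0 => 8390752
  | 1 => 8421664
  | 2 => 8397120

/-- the three dual octads -/
def dual : Fin 3 → ℕ
  | 0 => 84464
  | 1 => 145176
  | 2 => 6053905

/-- the combination of the basis tetrads with given label -/
def comboMask (v : ℕ) : ℕ :=
  (if v.testBit 0 then 8390752 else 0) ^^^ (if v.testBit 1 then 8421664 else 0) ^^^
    (if v.testBit 2 then 8397120 else 0)

theorem combo_cw : ∀ v : Fin 7, ∀ m ∈ tets (R0.getD v.val 0),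
    reprod (m ^^^ comboMask (v.val + 1)) = m ^^^ comboMask (v.val + 1) := by decide +kernel

theorem combo_dual : ∀ v : Fin 8, ∀ k : Fin 3,
    wt24 (comboMask v.val &&& dual k) % 2 = if v.val.testBit k.val then 1 else 0 := by
  decide +kernel

theorem dual_cw : ∀ k : Fin 3, reprod (dual k) = dual k := by decide +kernel

theorem tau_R0 : ∀ j : Fin 3, tau j ∈ R0 := by decide +kernel

theorem tau_dual : ∀ i j : Fin 3, wt24 (tau j &&& dual i) % 2 = if i = j then 1 else 0 := by
  decide +kernel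

theorem R0_label : ∀ v : Fin 7, ∀ j : Fin 3,
    (∀ k : Fin 3, (v.val + 1).testBit k.val = decide (k = j)) → R0.getD v.val 0 = tau j := by
  decide +kernel

/-- the standard trio is refined by the listed sextets -/
theorem Sx_refines (u : ℕ) (hu : u ∈ R0) : Refines (Sx u) T0 := by
  intro t ht
  obtain ⟨m, hm, rfl⟩ := (mem_Sx_iff u (R0_VS u hu) t).mp ht
  obtain ⟨o, ho, hmo⟩ := R0_refines u hu m hm
  exact ⟨M o, (mem_T0 _).mpr ⟨o, ho, rfl⟩,
    (M_subset_iff m o (tets_lt u (R0_VS u hu) m hm)).mpr hmo⟩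

/-- the image of a basis tetrad under an element of the trio stabilizer -/
theorem key (g : Equiv.Perm GolayPt) (hg : g ∈ M24) (hT : g • T0 = T0) (j : Fin 3) :
    ∃ v : Fin 7, g • Sx (tau j) = Sx (R0.getD v.val 0) ∧
      ∃ w, IsCW w ∧ g • M (tau j) = M (comboMask (v.val + 1)) ∆ w := by
  have hVj := R0_VS _ (tau_R0 j)
  have hS : g • Sx (tau j) ∈ sextets := smul_sextet_mem g hg _ (Sx_mem _ hVj)
  have hR : Refines (g • Sx (tau j)) T0 := by
    have := refines_smul g _ _ (Sx_refines _ (tau_R0 j))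
    rwa [hT] at this
  obtain ⟨u, hu, hSu⟩ := refines_class _ hS hR
  obtain ⟨v, hv, rfl⟩ := List.getElem_of_mem hu
  have hv7 : v < 7 := hv
  refine ⟨⟨v, hv7⟩, ?_, ?_⟩
  · rw [hSu, List.getD_eq_getElem _ _ hv]
  · have hmem : g • M (tau j) ∈ g • Sx (tau j) :=
      Finset.smul_mem_smul_finset (M_mem_Sx _ hVj)
    rw [hSu] at hmem
    obtain ⟨m, hm, hgm⟩ := (mem_Sx_iff _ (R0_VS _ hu) _).mp hmem
    have hm' : m ∈ tets (R0.getD (⟨v, hv7⟩ : Fin 7).val 0) := by
      rw [List.getD_eq_getElem _ _ hv]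
      exact hm
    refine ⟨M (m ^^^ comboMask (v + 1)), isCW_M _ (combo_cw ⟨v, hv7⟩ m hm'), ?_⟩
    rw [hgm, ← M_xor]
    congr 1
    rw [Nat.xor_comm m, ← Nat.xor_assoc, Nat.xor_self, Nat.zero_xor]

/-- the matrix of a permutation on the basis tetrads, by the parity pairing -/
def Amat (g : Equiv.Perm GolayPt) : Matrix (Fin 3) (Fin 3) (ZMod 2) :=
  fun i j => par (g • M (tau j)) (M (dual i))

theorem isCW_dual (k : Fin 3) : IsCW (M (dual k)) := isCW_M _ (dual_cw k)

theorem cast_mod2 (n : ℕ) : ((n : ℕ) : ZMod 2) = ((n % 2 : ℕ) : ZMod 2) :=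
  (ZMod.natCast_mod n 2).symm

/-- the entries of the matrix from the label of the image sextet -/
theorem Amat_entry (g : Equiv.Perm GolayPt) (j : Fin 3) (v : Fin 7) (w : Finset GolayPt)
    (hw : IsCW w) (h : g • M (tau j) = M (comboMask (v.val + 1)) ∆ w) (i : Fin 3) :
    Amat g i j = if (v.val + 1).testBit i.val then 1 else 0 := by
  unfold Amat
  rw [h, par_symmDiff, par_cw w _ hw (isCW_dual i), add_zero, par_M, cast_mod2]
  have := combo_dual ⟨v.val + 1, by omega⟩ i
  rw [this]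
  split_ifs <;> simp

theorem par_combo (g : Equiv.Perm GolayPt) (v : ℕ) (c : Finset GolayPt) :
    par (g • M (comboMask v)) c =
      (if v.testBit 0 then par (g • M (tau 0)) c else 0) +
        (if v.testBit 1 then par (g • M (tau 1)) c else 0) +
          (if v.testBit 2 then par (g • M (tau 2)) c else 0) := by
  unfold comboMask
  rw [M_xor, M_xor, smul_finset_symmDiff, smul_finset_symmDiff, par_symmDiff, par_symmDiff]
  congr 1
  · congr 1
    · split_ifs
      · rfl
      · rw [M_zero, smul_finset_empty, par_empty]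
    · split_ifs
      · rfl
      · rw [M_zero, smul_finset_empty, par_empty]
  · split_ifs
    · rfl
    · rw [M_zero, smul_finset_empty, par_empty]

theorem Amat_mul (g h : Equiv.Perm GolayPt) (hg : g ∈ M24) (hh : h ∈ M24)
    (hhT : h • T0 = T0) : Amat (g * h) = Amat g * Amat h := by
  ext i j
  obtain ⟨v, -, w, hw, hv⟩ := key h hh hhT j
  rw [Matrix.mul_apply, Fin.sum_univ_three, Amat_entry h j v w hw hv 0,
    Amat_entry h j v w hw hv 1, Amat_entry h j v w hw hv 2]
  have h1 : Amat (g * h) i j = par (g • (h • M (tau j))) (M (dual i)) := by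
    unfold Amat
    rw [mul_smul]
  rw [h1, hv, smul_finset_symmDiff, par_symmDiff,
    par_cw _ _ (isCW_smul g hg w hw) (isCW_dual i), add_zero, par_combo]
  change _ = par (g • M (tau 0)) (M (dual i)) * _ + par (g • M (tau 1)) (M (dual i)) * _ +
    par (g • M (tau 2)) (M (dual i)) * _
  simp only [Fin.val_zero, Fin.val_one, Fin.val_two, mul_ite, mul_one, mul_zero]

theorem Amat_one : Amat 1 = 1 := by
  ext i j
  unfold Amat
  rw [one_smul, par_M, cast_mod2, tau_dual i j, Matrix.one_apply]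
  split_ifs <;> simp

end Cfsg.Agent.Lib.Helper9.M24TR2
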