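import Cfsg.Agent.Lib.Helper9.M24TR2
import Cfsg.Agent.Lib.Helper9.M24T9

set_option autoImplicit false

/-! Rigidity of the elements of the trio stabilizer acting trivially on the octads and on the
refining sextets. -/

namespace Cfsg.Agent.Lib.Helper9.M24TR3

open Cfsg Finset Cfsg.Agent.Lib.Helper9.Golay1 Cfsg.Agent.Lib.Helper9.GolayQR1
  Cfsg.Agent.Lib.Helper9.GolayQR3 Cfsg.Agent.Lib.Helper9.GolayQR4
  Cfsg.Agent.Lib.Helper9.M24T1 Cfsg.Agent.Lib.Helper9.M24U1 Cfsg.Agent.Lib.Helper9.M24Z1
  Cfsg.Agent.Lib.Helper9.M24S1 Cfsg.Agent.Lib.Helper9.M24S2 Cfsg.Agent.Lib.Helper9.M24F7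
  Cfsg.Agent.Lib.Helper9.M24TR1 Cfsg.Agent.Lib.Helper9.M24TR2 Cfsg.Agent.Lib.Helper9.M24T9
open scoped Pointwise symmDiff

/-- the elements fixing each octad of the standard trio and the three basis sextets -/
def InK (g : Equiv.Perm GolayPt) : Prop :=
  g ∈ M24 ∧ (∀ o ∈ octs, g • M o = M o) ∧ ∀ j : Fin 3, g • Sx (tau j) = Sx (tau j)

theorem tets_pair : ∀ j : Fin 3, ∀ m ∈ tets (tau j), ∀ m' ∈ tets (tau j), ∀ o ∈ octs,
    m &&& o = m → m' &&& o = m' → m' = m ∨ m' = o ^^^ m := by decide +kernel

theorem tau_VS (j : Fin 3) : VS (tau j) := R0_VS _ (tau_R0 j)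

/-- a tetrad of a basis sextet is fixed or exchanged with its complement in the octad -/
theorem tet_cases (g : Equiv.Perm GolayPt) (hK : InK g) (j : Fin 3) (m : ℕ)
    (hm : m ∈ tets (tau j)) (o : ℕ) (ho : o ∈ octs) (hmo : m &&& o = m) :
    g • M m = M m ∨ g • M m = M o \ M m := by
  have hsub : M m ⊆ M o := (M_subset_iff m o (tets_lt _ (tau_VS j) m hm)).mpr hmo
  have h1 : g • M m ∈ Sx (tau j) := by
    rw [← hK.2.2 j]
    exact Finset.smul_mem_smul_finset ((mem_Sx_iff _ (tau_VS j) _).mpr ⟨m, hm, rfl⟩)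
  obtain ⟨m', hm', hgm⟩ := (mem_Sx_iff _ (tau_VS j) _).mp h1
  have h2 : M m' ⊆ M o := by
    rw [← hgm, ← hK.2.1 o ho]
    exact Finset.smul_finset_subset_smul_finset hsub
  have hm'o := (M_subset_iff m' o (tets_lt _ (tau_VS j) m' hm')).mp h2
  rcases tets_pair j m hm m' hm' o ho hmo hm'o with rfl | rfl
  · exact Or.inl hgm
  · right
    rw [hgm, M_xor_of_subset o m hsub]

theorem sq_fix (g : Equiv.Perm GolayPt) (hK : InK g) (j : Fin 3) (m : ℕ)
    (hm : m ∈ tets (tau j)) (o : ℕ) (ho : o ∈ octs) (hmo : m &&& o = m) :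
    (g * g) • M m = M m := by
  have hsub : M m ⊆ M o := (M_subset_iff m o (tets_lt _ (tau_VS j) m hm)).mpr hmo
  rw [mul_smul]
  rcases tet_cases g hK j m hm o ho hmo with h | h
  · rw [h, h]
  · rw [h, smul_finset_sdiff, hK.2.1 o ho, h, Finset.sdiff_sdiff_eq_self hsub]

/-- the eighteen tetrads of the three basis sextets -/
def T18 : List ℕ := [8390752, 1045, 3735552, 4342272, 4234, 303360, 8421664, 7340544, 737280, 147,
  5132, 272448, 8397120, 1035, 5324800, 2753024, 4244, 296992]

theorem T18_spec : ∀ m ∈ T18, ∃ j : Fin 3, m ∈ tets (tau j) ∧ ∃ o ∈ octs, m &&& o = m := by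
  decide +kernel

/-- the certificate for the squares -/
def cert1 : List Step := [.and 1045 147,
    .and 17 1035,
    .fix 0,
    .and 4234 147,
    .and 130 1035,
    .fix 1,
    .xor 1045 17,
    .and 1028 1035,
    .xor 1028 1024,
    .fix 2,
    .xor 4234 130,
    .and 4104 1035,
    .fix 3,
    .xor 17 1,
    .fix 4,
    .and 8390752 8421664,
    .and 8388640 8397120,
    .xor 8388640 8388608,
    .fix 5,
    .xor 8390752 8388640,
    .and 2112 8397120,
    .fix 6,
    .xor 130 2,
    .fix 7,
    .and 303360 8421664,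
    .and 33024 8397120,
    .fix 8,
    .and 4342272 7340544,
    .and 4194816 5324800,
    .xor 4194816 4194304,
    .fix 9,
    .fix 10,
    .xor 2112 64,
    .fix 11,
    .xor 4104 8,
    .fix 12,
    .xor 303360 33024,
    .and 270336 8397120,
    .fix 13,
    .xor 4342272 4194816,
    .and 147456 5324800,
    .fix 14,
    .xor 33024 256,
    .fix 15,
    .and 3735552 7340544,
    .xor 3735552 3145728,
    .and 589824 5324800,
    .fix 16,
    .xor 147456 16384,
    .fix 17,
    .xor 270336 8192,
    .fix 18,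
    .xor 589824 65536,
    .fix 19,
    .and 3145728 5324800,
    .fix 20,
    .xor 3145728 1048576,
    .fix 21,
    .fix 22,
    .fix 23]

theorem cert1_run : ∃ L', run cert1 (16777215 :: T18) 0 = some (L', 16777215) := by
  have : (run cert1 (16777215 :: T18) 0).map Prod.snd = some 16777215 := by decide +kernel
  match h : run cert1 (16777215 :: T18) 0, this with
  | some (L', F'), this =>
    simp only [Option.map_some, Option.some.injEq] at this
    exact ⟨L', by rw [← this]⟩

/-- the elements of the kernel square to the identity -/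
theorem sq_one (g : Equiv.Perm GolayPt) (hK : InK g) : g * g = 1 := by
  obtain ⟨L', hrun⟩ := cert1_run
  refine eq_one_of_run (g * g) (M24.mul_mem hK.1 hK.1) cert1 (16777215 :: T18) 0 L' ?_ ?_ hrun
  · intro m hm
    rcases List.mem_cons.mp hm with rfl | hm
    · exact maskInv_ones _
    · obtain ⟨j, hmj, o, ho, hmo⟩ := T18_spec m hm
      exact maskInv_of_smul _ m (sq_fix g hK j m hmj o ho hmo)
  · intro p hp
    simp at hp

/-- the tetrads of the basis sextets through the two base points -/
def T6 : List ℕ := [8390752, 1045, 8421664, 147, 8397120, 1035]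

theorem T6_spec : ∀ m ∈ T6, ∃ j : Fin 3, m ∈ tets (tau j) ∧ ∃ o ∈ octs, m &&& o = m ∧
    ((m.testBit 23 = true ∧ o.testBit 23 = true) ∨ (m.testBit 0 = true ∧ o.testBit 0 = true)) := by
  decide +kernel

/-- the certificate for the elements fixing the two base points -/
def cert2 : List Step := [.and 147 1045,
    .xor 147 17,
    .and 130 1035,
    .fix 1,
    .xor 1045 17,
    .and 1028 1035,
    .xor 1028 1024,
    .fix 2,
    .and 1035 1045,
    .xor 1035 1025,
    .xor 10 2,
    .fix 3,
    .and 17 1035,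
    .xor 17 1,
    .fix 4,
    .and 8390752 8421664,
    .and 8388640 8397120,
    .xor 8388640 8388608,
    .fix 5,
    .xor 8390752 8388640,
    .and 2112 8397120,
    .fix 6,
    .xor 130 2,
    .fix 7,
    .xor 8421664 8388640,
    .and 33024 8397120,
    .fix 8,
    .fix 10,
    .xor 2112 64,
    .fix 11,
    .xor 5279 1045,
    .xor 4234 130,
    .xor 4104 8,
    .fix 12,
    .and 8397120 8390752,
    .xor 8397120 8388672,
    .xor 8448 256,
    .fix 13,
    .xor 33024 256,
    .fix 15,
    .xor 8694112 8390752,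
    .xor 303360 33024,
    .xor 270336 8192,
    .fix 18,
    .oct 145176,
    .and 8077824 145176,
    .oct 459847,
    .and 131584 459847,
    .xor 131584 131072,
    .fix 9,
    .oct 9748745,
    .and 8077824 9748745,
    .oct 11548936,
    .and 1064960 11548936,
    .xor 1064960 1048576,
    .fix 14,
    .and 8077824 459847,
    .xor 196608 131072,
    .fix 16,
    .fix 17,
    .oct 13148440,
    .and 8077824 13148440,
    .oct 6554826,
    .and 4718592 6554826,
    .xor 4718592 4194304,
    .fix 19,
    .fix 20,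
    .and 8077824 11548936,
    .xor 3145728 1048576,
    .fix 21,
    .fix 22]

theorem cert2_run : ∃ L', run cert2 (16777215 :: (octs ++ T6)) 8388609 = some (L', 16777215) := by
  have : (run cert2 (16777215 :: (octs ++ T6)) 8388609).map Prod.snd = some 16777215 := by
    decide +kernel
  match h : run cert2 (16777215 :: (octs ++ T6)) 8388609, this with
  | some (L', F'), this =>
    simp only [Option.map_some, Option.some.injEq] at this
    exact ⟨L', by rw [← this]⟩

theorem fixed_tet (g : Equiv.Perm GolayPt) (hK : InK g) (j : Fin 3) (m : ℕ)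
    (hm : m ∈ tets (tau j)) (o : ℕ) (ho : o ∈ octs) (hmo : m &&& o = m) (i : ℕ) (hi : i < 24)
    (hgi : g (unidx i) = unidx i) (hmi : m.testBit i = true) (hoi : o.testBit i = true) :
    g • M m = M m := by
  rcases tet_cases g hK j m hm o ho hmo with h | h
  · exact h
  · exfalso
    have h1 : unidx i ∈ M m := by rw [mem_M, idx_unidx i hi]; exact hmi
    have h2 : g • unidx i ∈ g • M m := Finset.smul_mem_smul_finset h1
    rw [Equiv.Perm.smul_def, hgi, h, mem_sdiff] at h2
    exact h2.2 h1

/-- an element of the kernel fixing the two base points is trivial -/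
theorem eq_one_of_fix (g : Equiv.Perm GolayPt) (hK : InK g) (h1 : g (unidx 23) = unidx 23)
    (h2 : g (unidx 0) = unidx 0) : g = 1 := by
  obtain ⟨L', hrun⟩ := cert2_run
  refine eq_one_of_run g hK.1 cert2 (16777215 :: (octs ++ T6)) 8388609 L' ?_ ?_ hrun
  · intro m hm
    rcases List.mem_cons.mp hm with rfl | hm
    · exact maskInv_ones _
    · rcases List.mem_append.mp hm with hm | hm
      · exact maskInv_of_smul _ m (hK.2.1 m hm)
      · obtain ⟨j, hmj, o, ho, hmo, hb⟩ := T6_spec m hm
        rcases hb with ⟨hb1, hb2⟩ | ⟨hb1, hb2⟩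
        · exact maskInv_of_smul _ m
            (fixed_tet g hK j m hmj o ho hmo 23 (by norm_num) h1 hb1 hb2)
        · exact maskInv_of_smul _ m
            (fixed_tet g hK j m hmj o ho hmo 0 (by norm_num) h2 hb1 hb2)
  · have h : ∀ p : GolayPt, (8388609 : ℕ).testBit (idx p) = true → p = unidx 23 ∨ p = unidx 0 := by
      decide +kernel
    intro p hp
    rcases h p hp with rfl | rfl
    · exact h1
    · exact h2

end Cfsg.Agent.Lib.Helper9.M24TR3
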