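import Cfsg.Agent.Lib.Helper9.M24TR3
import Cfsg.Agent.Lib.Helper9.GolayTrio1

set_option autoImplicit false

/-! The structure of the stabilizer of the standard trio. -/

namespace Cfsg.Agent.Lib.Helper9.M24TR4

open Cfsg Finset Cfsg.Agent.Lib.Helper9.Golay1 Cfsg.Agent.Lib.Helper9.GolayQR1
  Cfsg.Agent.Lib.Helper9.M24T1 Cfsg.Agent.Lib.Helper9.M24U1 Cfsg.Agent.Lib.Helper9.M24Z1
  Cfsg.Agent.Lib.Helper9.M24S2 Cfsg.Agent.Lib.Helper9.M24F7
  Cfsg.Agent.Lib.Helper9.M24TR1 Cfsg.Agent.Lib.Helper9.M24TR2 Cfsg.Agent.Lib.Helper9.M24TR3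
  Cfsg.Agent.Lib.Helper9.M24SK2
open scoped Pointwise

/-- the stabilizer of the standard trio -/
abbrev G0 : Type := ↥(MulAction.stabilizer M24 T0)

theorem G0_stab (g : G0) : ((g : M24) : Equiv.Perm GolayPt) • T0 = T0 :=
  MulAction.mem_stabilizer_iff.mp g.2

/-- the action on the space of refining sextets, as matrices -/
noncomputable def phi1m : G0 →* Matrix (Fin 3) (Fin 3) (ZMod 2) where
  toFun g := Amat ((g : M24) : Equiv.Perm GolayPt)
  map_one' := Amat_one
  map_mul' a b := Amat_mul _ _ a.1.2 b.1.2 (G0_stab b)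

/-- the action on the space of refining sextets -/
noncomputable def phi1 : G0 →* GL (Fin 3) (ZMod 2) := phi1m.toHomUnits

theorem octs_inj : ∀ i j : Fin 3, octs.getD i.val 0 = octs.getD j.val 0 → i = j := by
  decide +kernel

theorem octs_getD_mem (i : Fin 3) : octs.getD i.val 0 ∈ octs := by
  have hi : i.val < octs.length := i.2
  rw [List.getD_eq_getElem _ _ hi]
  exact List.getElem_mem hi

/-- the enumeration of the standard trio -/
noncomputable def f3 : Fin 3 ≃ ↥T0 :=
  Equiv.ofBijective (fun i => ⟨M (octs.getD i.val 0), (mem_T0 _).mpr ⟨_, octs_getD_mem i, rfl⟩⟩)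
    ⟨fun i j h => octs_inj i j (M_inj _ _ (octs_lt _ (octs_getD_mem i)) (octs_lt _ (octs_getD_mem j))
        (congrArg Subtype.val h)),
      fun t => by
        obtain ⟨m, hm, hmt⟩ := (mem_T0 t.1).mp t.2
        obtain ⟨i, hi, rfl⟩ := List.getElem_of_mem hm
        refine ⟨⟨i, hi⟩, Subtype.ext ?_⟩
        change M (octs.getD i 0) = t.1
        rw [hmt, List.getD_eq_getElem _ _ hi]⟩

/-- the action on the three octads -/
noncomputable def phi2 : G0 →* Equiv.Perm (Fin 3) :=
  (f3.symm.permCongrHom.toMonoidHom).comp (permOn T0)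

/-- the two actions together -/
noncomputable def phi : G0 →* GL (Fin 3) (ZMod 2) × Equiv.Perm (Fin 3) := phi1.prod phi2

theorem ker_InK (g : G0) (hg : g ∈ phi.ker) : InK ((g : M24) : Equiv.Perm GolayPt) := by
  rw [MonoidHom.mem_ker] at hg
  have h1 : phi1 g = 1 := congrArg Prod.fst hg
  have h2 : phi2 g = 1 := congrArg Prod.snd hg
  have hA : Amat ((g : M24) : Equiv.Perm GolayPt) = 1 := congrArg Units.val h1
  have hP : permOn T0 g = 1 := by
    have : f3.symm.permCongrHom (permOn T0 g) = 1 := h2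
    exact (MulEquiv.map_eq_one_iff _).mp this
  have hfix := (mem_ker_permOn T0 g).mp ((MonoidHom.mem_ker).mpr hP)
  refine ⟨g.1.2, fun o ho => hfix _ ((mem_T0 _).mpr ⟨o, ho, rfl⟩), fun j => ?_⟩
  obtain ⟨v, hv, w, hw, hgw⟩ := key _ g.1.2 (G0_stab g) j
  rw [hv]
  congr 1
  apply R0_label v j
  intro k
  have he := Amat_entry _ j v w hw hgw k
  rw [hA, Matrix.one_apply] at he
  by_cases hkj : k = j
  · rw [if_pos hkj] at he
    rw [decide_eq_true hkj]
    by_contra hb
    rw [if_neg hb] at he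
    exact one_ne_zero he
  · rw [if_neg hkj] at he
    rw [decide_eq_false hkj]
    by_contra hb
    rw [Bool.not_eq_false] at hb
    rw [if_pos hb] at he
    exact zero_ne_one he

theorem card_M_o1 : (M 8694112).card = 8 := by rw [card_M]; decide +kernel

theorem card_M_o2 : (M 5279).card = 8 := by rw [card_M]; decide +kernel

theorem mem_o1 : unidx 23 ∈ M 8694112 := by rw [mem_M]; decide +kernel

theorem mem_o2 : unidx 0 ∈ M 5279 := by rw [mem_M]; decide +kernel

theorem o1_mem : 8694112 ∈ octs := by decide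

theorem o2_mem : 5279 ∈ octs := by decide

/-- the kernel has at most 64 elements -/
theorem card_ker_le : Nat.card ↥phi.ker ≤ 64 := by
  let f : ↥phi.ker → ↥((M 8694112) ×ˢ (M 5279)) := fun g =>
    ⟨(((g.1 : M24) : Equiv.Perm GolayPt) (unidx 23), ((g.1 : M24) : Equiv.Perm GolayPt) (unidx 0)), by
      have hK := ker_InK g.1 g.2
      rw [Finset.mem_product]
      constructor
      · have := Finset.smul_mem_smul_finset (a := ((g.1 : M24) : Equiv.Perm GolayPt)) mem_o1
        rwa [hK.2.1 _ o1_mem] at this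
      · have := Finset.smul_mem_smul_finset (a := ((g.1 : M24) : Equiv.Perm GolayPt)) mem_o2
        rwa [hK.2.1 _ o2_mem] at this⟩
  have hf : Function.Injective f := by
    intro a b hab
    have h1 : ((a.1 : M24) : Equiv.Perm GolayPt) (unidx 23) = ((b.1 : M24) : Equiv.Perm GolayPt) (unidx 23) :=
      congrArg (fun x : ↥((M 8694112) ×ˢ (M 5279)) => x.1.1) hab
    have h2 : ((a.1 : M24) : Equiv.Perm GolayPt) (unidx 0) = ((b.1 : M24) : Equiv.Perm GolayPt) (unidx 0) :=
      congrArg (fun x : ↥((M 8694112) ×ˢ (M 5279)) => x.1.2) hab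
    have hc : ((b⁻¹ * a : ↥phi.ker) : G0) ∈ phi.ker := (b⁻¹ * a).2
    have hK := ker_InK _ hc
    have hone : (((b⁻¹ * a : ↥phi.ker) : G0) : M24) = 1 := by
      apply Subtype.ext
      apply eq_one_of_fix _ hK
      · change (((b.1 : M24) : Equiv.Perm GolayPt)⁻¹ * ((a.1 : M24) : Equiv.Perm GolayPt)) (unidx 23) = _
        rw [Equiv.Perm.mul_apply, h1]
        simp
      · change (((b.1 : M24) : Equiv.Perm GolayPt)⁻¹ * ((a.1 : M24) : Equiv.Perm GolayPt)) (unidx 0) = _
        rw [Equiv.Perm.mul_apply, h2]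
        simp
    have : b⁻¹ * a = 1 := Subtype.ext (Subtype.ext hone)
    exact (inv_mul_eq_one.mp this).symm
  have := Nat.card_le_card_of_injective f hf
  rwa [Nat.card_eq_finsetCard, Finset.card_product, card_M_o1, card_M_o2] at this

theorem card_G0 : Nat.card G0 = 64512 := by
  have h := Cfsg.Agent.Lib.Helper9.SimpB.card_orbit_mul (G := M24) T0
  rw [Cfsg.Agent.Lib.Helper9.M24G4.orbit_trio T0 T0_mem, Cfsg.Agent.Lib.Helper9.M24T4.card_M24,
    Nat.card_coe_set_eq, Cfsg.Agent.Lib.Helper9.GolayTrio1.card_trios] at h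
  change Nat.card ↥(MulAction.stabilizer M24 T0) = 64512
  omega

theorem card_target : Nat.card (GL (Fin 3) (ZMod 2) × Equiv.Perm (Fin 3)) = 1008 := by
  rw [Nat.card_prod, Matrix.card_GL_field, Fin.prod_univ_three, ZMod.card, Nat.card_perm,
    Nat.card_eq_fintype_card, Fintype.card_fin]
  rfl

theorem phi_surj : Function.Surjective phi := by
  apply MonoidHom.surjective_of_card_ker_le_div
  have h64 : (64512 : ℕ) / 1008 = 64 := by norm_num
  have e1 : Nat.card G0 / Nat.card (GL (Fin 3) (ZMod 2) × Equiv.Perm (Fin 3)) = 64 := by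
    have a := card_G0
    have b := card_target
    exact (congrArg₂ (· / ·) a b).trans h64
  exact le_of_le_of_eq card_ker_le e1.symm

theorem card_ker : Nat.card ↥phi.ker = 64 := by
  have hmul := Subgroup.card_mul_index phi.ker
  have h1 : phi.ker.index = 1008 := by
    rw [Subgroup.index_ker, MonoidHom.range_eq_top.mpr phi_surj, Subgroup.card_top]
    exact card_target
  have h2 : Nat.card G0 = 64512 := card_G0
  have hmul' : Nat.card ↥phi.ker * 1008 = 64512 := by
    calc Nat.card ↥phi.ker * 1008 = Nat.card ↥phi.ker * phi.ker.index := by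
          exact congrArg (fun t => Nat.card ↥phi.ker * t) h1.symm
      _ = Nat.card G0 := hmul
      _ = 64512 := h2
  clear hmul h1 h2
  generalize Nat.card ↥phi.ker = n at hmul' ⊢
  omega

/-- the structure of the stabilizer of the standard trio -/
theorem main0 : (∀ e : Equiv.Perm ↥T0, ∃ g ∈ MulAction.stabilizer M24 T0, ∀ o : ↥T0,
      (g : Equiv.Perm GolayPt) • (o : Finset GolayPt) = ((e o : ↥T0) : Finset GolayPt)) ∧
    ∃ (N : Subgroup G0) (_ : N.Normal), Nat.card N = 64 ∧ (∀ x ∈ N, x * x = 1) ∧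
      Nonempty (G0 ⧸ N ≃* GL (Fin 3) (ZMod 2) × Equiv.Perm (Fin 3)) := by
  constructor
  · intro e
    obtain ⟨g, hg⟩ := phi_surj (1, f3.symm.permCongrHom e)
    have h2 : f3.symm.permCongrHom (permOn T0 g) = f3.symm.permCongrHom e := congrArg Prod.snd hg
    have h3 : permOn T0 g = e := f3.symm.permCongrHom.injective h2
    refine ⟨g.1, g.2, fun o => ?_⟩
    rw [← h3]
    rfl
  · refine ⟨phi.ker, MonoidHom.normal_ker phi, card_ker, fun x hx => ?_,
      ⟨QuotientGroup.quotientKerEquivOfSurjective phi phi_surj⟩⟩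
    have hK := ker_InK x hx
    exact Subtype.ext (Subtype.ext (sq_one _ hK))

end Cfsg.Agent.Lib.Helper9.M24TR4
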