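import Cfsg.Agent.Lib.Helper9.M24TR4

set_option autoImplicit false

/-! The structure of the stabilizer of a trio, by transport from the standard trio. -/

namespace Cfsg.Agent.Lib.Helper9.M24TR5

open Cfsg Finset Cfsg.Agent.Lib.Helper9.M24TR1 Cfsg.Agent.Lib.Helper9.M24TR4
open scoped Pointwise

section generic

variable {G X : Type*} [Group G] [MulAction G X] [DecidableEq X]

/-- if the stabilizer of a finite set induces all its permutations, so does that of an image -/
theorem induce_smul (S : Finset X) (h : G)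
    (H : ∀ e : Equiv.Perm ↥S, ∃ g ∈ MulAction.stabilizer G S, ∀ t : ↥S,
      g • (t : X) = ((e t : ↥S) : X)) :
    ∀ e : Equiv.Perm ↥(h • S), ∃ g ∈ MulAction.stabilizer G (h • S), ∀ t : ↥(h • S),
      g • (t : X) = ((e t : ↥(h • S)) : X) := by
  intro e
  let β : ↥S ≃ ↥(h • S) :=
    { toFun := fun t => ⟨h • t.1, Finset.smul_mem_smul_finset t.2⟩
      invFun := fun t => ⟨h⁻¹ • t.1, Finset.inv_smul_mem_iff.mpr t.2⟩
      left_inv := fun t => Subtype.ext (inv_smul_smul h t.1)
      right_inv := fun t => Subtype.ext (smul_inv_smul h t.1) }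
  obtain ⟨g0, hg0, hact⟩ := H ((β.trans e).trans β.symm)
  refine ⟨h * g0 * h⁻¹, ?_, fun t => ?_⟩
  · rw [MulAction.mem_stabilizer_iff, mul_smul, mul_smul, inv_smul_smul,
      MulAction.mem_stabilizer_iff.mp hg0]
  · have h1 := hact (β.symm t)
    have h2 : (((β.trans e).trans β.symm) (β.symm t) : ↥S) = β.symm (e t) := by
      simp
    rw [h2] at h1
    have h3 : ((β.symm t : ↥S) : X) = h⁻¹ • (t : X) := rfl
    have h4 : ((β.symm (e t) : ↥S) : X) = h⁻¹ • ((e t : ↥(h • S)) : X) := rfl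
    rw [h3, h4] at h1
    rw [mul_smul, mul_smul, h1, smul_inv_smul]

end generic

/-- transport of the structure statement along an isomorphism -/
theorem transfer64 {A B Y : Type*} [Group A] [Group B] [Group Y] (e : A ≃* B)
    (h : ∃ (N : Subgroup A) (_ : N.Normal), Nat.card N = 64 ∧ (∀ x ∈ N, x * x = 1) ∧
      Nonempty (A ⧸ N ≃* Y)) :
    ∃ (N : Subgroup B) (_ : N.Normal), Nat.card N = 64 ∧ (∀ x ∈ N, x * x = 1) ∧
      Nonempty (B ⧸ N ≃* Y) := by
  obtain ⟨N, hN, hc, hx, ⟨iso⟩⟩ := h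
  have hN' : (N.map e.toMonoidHom).Normal := hN.map e.toMonoidHom e.surjective
  refine ⟨N.map e.toMonoidHom, hN', ?_, ?_, ?_⟩
  · rw [← hc]
    exact Nat.card_congr (N.equivMapOfInjective e.toMonoidHom e.injective).symm.toEquiv
  · rintro _ ⟨y, hy, rfl⟩
    change e y * e y = 1
    rw [← map_mul, hx y hy, map_one]
  · exact ⟨(QuotientGroup.congr N (N.map e.toMonoidHom) e rfl).symm.trans iso⟩

/-- the structure of the stabilizer of a trio -/
theorem main (T : Finset (Finset GolayPt)) (hT : T ∈ trios) :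
    (∀ e : Equiv.Perm ↥T, ∃ g ∈ MulAction.stabilizer M24 T, ∀ o : ↥T,
      (g : Equiv.Perm GolayPt) • (o : Finset GolayPt) = ((e o : ↥T) : Finset GolayPt)) ∧
    ∃ (N : Subgroup ↥(MulAction.stabilizer M24 T)) (_ : N.Normal), Nat.card N = 64 ∧
      (∀ x ∈ N, x * x = 1) ∧
      Nonempty (↥(MulAction.stabilizer M24 T) ⧸ N ≃* GL (Fin 3) (ZMod 2) × Equiv.Perm (Fin 3)) := by
  have horb : T ∈ MulAction.orbit M24 T0 := by
    rw [Cfsg.Agent.Lib.Helper9.M24G4.orbit_trio _ T0_mem]
    exact hT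
  obtain ⟨h, rfl⟩ := horb
  exact ⟨induce_smul T0 h main0.1,
    transfer64 (MulAction.stabilizerEquivStabilizer rfl) main0.2⟩

end Cfsg.Agent.Lib.Helper9.M24TR5
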