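import Cfsg.Agent.Lib.Helper9.M24U2

set_option autoImplicit false

namespace Cfsg.Agent.Lib.Helper9.M24U3

open Cfsg Finset Cfsg.Agent.Lib.Helper9.Golay1 Cfsg.Agent.Lib.Helper9.GolayQR1
  Cfsg.Agent.Lib.Helper9.M24T1 Cfsg.Agent.Lib.Helper9.M24U1 Cfsg.Agent.Lib.Helper9.M24U2
open scoped Pointwise

/-- apply a continuation to a number, forcing its evaluation first -/
def withNat {α : Type} (n : ℕ) (k : ℕ → α) : α :=
  match n with
  | 0 => k 0
  | n + 1 => k (n + 1)

theorem withNat_eq {α : Type} (n : ℕ) (k : ℕ → α) : withNat n k = k n := by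
  cases n <;> rfl

/-- grow a list of masks along a certificate: each entry `(j, k)` adds the pull-back along the
`j`-th table of the `k`-th newest mask -/
def grow (tabs : List (List ℕ)) : List (ℕ × ℕ) → List ℕ → List ℕ
  | [], L => L
  | (j, k) :: r, L =>
    match tabs[j]?, L[k]? with
    | some t, some m => grow tabs r (pull t m :: L)
    | _, _ => grow tabs r L

/-- continuation-passing version of `grow`, evaluating the masks eagerly -/
def growK (tabs : List (List ℕ)) : List (ℕ × ℕ) → List ℕ → (List ℕ → Bool) → Bool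
  | [], L, c => c L
  | (j, k) :: r, L, c =>
    match tabs[j]?, L[k]? with
    | some t, some m => withNat (pull t m) fun v => growK tabs r (v :: L) c
    | _, _ => growK tabs r L c

theorem growK_eq (tabs : List (List ℕ)) (cert : List (ℕ × ℕ)) (c : List ℕ → Bool) :
    ∀ L : List ℕ, growK tabs cert L c = c (grow tabs cert L) := by
  induction cert with
  | nil => intro L; rfl
  | cons e r ih =>
    intro L
    obtain ⟨j, k⟩ := e
    unfold growK grow
    split
    · rw [withNat_eq, ih]
    · rw [ih]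

theorem grow_sound (H : Subgroup (Equiv.Perm GolayPt)) (tabs : List (List ℕ))
    (htabs : ∀ t ∈ tabs, ∃ h ∈ H, ∀ m, h • M m = M (pull t m)) (m0 : ℕ)
    (cert : List (ℕ × ℕ)) :
    ∀ L : List ℕ, (∀ m ∈ L, ∃ h ∈ H, h • M m0 = M m) →
      ∀ m ∈ grow tabs cert L, ∃ h ∈ H, h • M m0 = M m := by
  induction cert with
  | nil => intro L hL; exact hL
  | cons e r ih =>
    intro L hL
    obtain ⟨j, k⟩ := e
    unfold grow
    split
    · rename_i t m ht hm
      apply ih
      intro m' hm'
      rcases List.mem_cons.mp hm' with rfl | hm'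
      · obtain ⟨h, hh, hact⟩ := htabs t (List.mem_of_getElem? ht)
        obtain ⟨h', hh', hm0⟩ := hL m (List.mem_of_getElem? hm)
        exact ⟨h * h', H.mul_mem hh hh', by rw [mul_smul, hm0, hact]⟩
      · exact hL m' hm'
    · exact ih L hL

/-- transitivity on a class of coded sets from an orbit certificate -/
theorem trans_of_cert (H : Subgroup (Equiv.Perm GolayPt)) (tabs : List (List ℕ))
    (htabs : ∀ t ∈ tabs, ∃ h ∈ H, ∀ m, h • M m = M (pull t m)) (m0 : ℕ)
    (cert : List (ℕ × ℕ)) (cls : List ℕ)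
    (hcls : growK tabs cert [m0] (fun L => cls.all fun m => L.contains m) = true) :
    ∀ m ∈ cls, ∀ m' ∈ cls, ∃ g ∈ H, g • M m = M m' := by
  rw [growK_eq] at hcls
  have key : ∀ m ∈ cls, ∃ h ∈ H, h • M m0 = M m := by
    intro m hm
    have h1 := List.all_eq_true.mp hcls m hm
    rw [List.contains_iff_mem] at h1
    apply grow_sound H tabs htabs m0 cert [m0] ?_ m h1
    intro m' hm'
    rw [List.mem_singleton] at hm'
    exact ⟨1, H.one_mem, by rw [hm', one_smul]⟩
  intro m hm m' hm'
  obtain ⟨h, hh, e⟩ := key m hm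
  obtain ⟨h', hh', e'⟩ := key m' hm'
  refine ⟨h' * h⁻¹, H.mul_mem hh' (H.inv_mem hh), ?_⟩
  rw [← e, mul_smul, inv_smul_smul, e']

end Cfsg.Agent.Lib.Helper9.M24U3
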