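import Cfsg.Agent.Lib.Helper9.M24U5

set_option autoImplicit false

namespace Cfsg.Agent.Lib.Helper9.M24U6

open Cfsg Finset Cfsg.Agent.Lib.Helper9.Golay1 Cfsg.Agent.Lib.Helper9.GolayQR1
  Cfsg.Agent.Lib.Helper9.GolayQR2 Cfsg.Agent.Lib.Helper9.GolayQR3
  Cfsg.Agent.Lib.Helper9.M24T1 Cfsg.Agent.Lib.Helper9.M24U1 Cfsg.Agent.Lib.Helper9.M24U2
  Cfsg.Agent.Lib.Helper9.M24U3 Cfsg.Agent.Lib.Helper9.M24U4
open scoped Pointwise

theorem reprod_eq_codeOf (m : ℕ) : reprod m = codeOf (m >>> 12) := by
  unfold reprod codeOf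
  simp only [Nat.testBit_shiftRight]

/-- a codeword mask is determined by its systematic part -/
theorem eq_of_shift_eq (m m' : ℕ) (hm : reprod m = m) (hm' : reprod m' = m')
    (h : m >>> 12 = m' >>> 12) : m = m' := by
  rw [← hm, ← hm', reprod_eq_codeOf, reprod_eq_codeOf, h]

theorem testBit_foldl_key (c : ℕ → Bool) (key : ℕ → ℕ) (L : List ℕ) (acc j : ℕ) :
    (L.foldl (fun acc m => if c m then acc ||| 2 ^ key m else acc) acc).testBit j
      = (acc.testBit j || L.any (fun m => c m && decide (key m = j))) := by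
  induction L generalizing acc with
  | nil => simp
  | cons i L ih =>
    rw [List.foldl_cons, ih, List.any_cons]
    by_cases hc : c i
    · by_cases hk : key i = j
      · simp [hc, hk, Nat.testBit_or]
      · simp [hc, hk, Nat.testBit_or]
    · simp [hc]

/-- the bitmap of the systematic parts of the codeword masks in a list -/
def bitmapOf (L : List ℕ) : ℕ :=
  L.foldl (fun acc m => if decide (reprod m = m) then acc ||| 2 ^ (m >>> 12) else acc) 0

/-- fast test that all masks of `cls` occur in `L` -/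
def subCheck (cls L : List ℕ) : Bool :=
  withNat (bitmapOf L) fun B => cls.all fun m => B.testBit (m >>> 12)

theorem subCheck_sound (cls L : List ℕ) (hcls : ∀ m ∈ cls, reprod m = m)
    (h : subCheck cls L = true) : ∀ m ∈ cls, m ∈ L := by
  unfold subCheck at h
  rw [withNat_eq] at h
  intro m hm
  have h1 := List.all_eq_true.mp h m hm
  unfold bitmapOf at h1
  rw [testBit_foldl_key (fun m => decide (reprod m = m)) (fun m => m >>> 12)] at h1
  simp only [Nat.zero_testBit, Bool.false_or, List.any_eq_true, Bool.and_eq_true,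
    decide_eq_true_eq] at h1
  obtain ⟨m', hm', hr, hk⟩ := h1
  rw [← eq_of_shift_eq m' m hr (hcls m hm) hk]
  exact hm'

/-- transitivity on a class of coded sets from an orbit certificate (fast check) -/
theorem trans_of_cert' (H : Subgroup (Equiv.Perm GolayPt)) (tabs : List (List ℕ))
    (htabs : ∀ t ∈ tabs, ∃ h ∈ H, ∀ m, h • M m = M (pull t m)) (m0 : ℕ)
    (cert : List (ℕ × ℕ)) (cls : List ℕ) (hr : ∀ m ∈ cls, reprod m = m)
    (hcls : growK tabs cert [m0] (fun L => subCheck cls L) = true) :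
    ∀ m ∈ cls, ∀ m' ∈ cls, ∃ g ∈ H, g • M m = M m' := by
  rw [growK_eq] at hcls
  have hsub := subCheck_sound cls _ hr hcls
  have key : ∀ m ∈ cls, ∃ h ∈ H, h • M m0 = M m := by
    intro m hm
    apply grow_sound H tabs htabs m0 cert [m0] ?_ m (hsub m hm)
    intro m' hm'
    rw [List.mem_singleton] at hm'
    exact ⟨1, H.one_mem, by rw [hm', one_smul]⟩
  intro m hm m' hm'
  obtain ⟨h, hh, e⟩ := key m hm
  obtain ⟨h', hh', e'⟩ := key m' hm'
  refine ⟨h' * h⁻¹, H.mul_mem hh' (H.inv_mem hh), ?_⟩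
  rw [← e, mul_smul, inv_smul_smul, e']

theorem octadLit_reprod (m : ℕ) (hm : m ∈ octadLit) : reprod m = m := by
  rw [← octadList_eq] at hm
  exact (codeList_reprod m (List.mem_filter.mp hm).1).1

theorem dodecadLit_reprod (m : ℕ) (hm : m ∈ dodecadLit) : reprod m = m := by
  rw [← dodecadList_eq] at hm
  exact (codeList_reprod m (List.mem_filter.mp hm).1).1

end Cfsg.Agent.Lib.Helper9.M24U6
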