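import Cfsg.Agent.Lib.Helper9.M24U4
import Cfsg.Agent.Lib.Helper9.M24T11

set_option autoImplicit false

namespace Cfsg.Agent.Lib.Helper9.M24V1

open Cfsg Finset Cfsg.Agent.Lib.Helper9.Golay1 Cfsg.Agent.Lib.Helper9.GolayQR1
  Cfsg.Agent.Lib.Helper9.M24T1 Cfsg.Agent.Lib.Helper9.M24T3 Cfsg.Agent.Lib.Helper9.M24T8
  Cfsg.Agent.Lib.Helper9.M24T9
  Cfsg.Agent.Lib.Helper9.M24U1 Cfsg.Agent.Lib.Helper9.M24U2 Cfsg.Agent.Lib.Helper9.M24U3
  Cfsg.Agent.Lib.Helper9.M24U4
open scoped Pointwise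

/-- generator `A1` of the stabilizer of the standard octad -/
def A1 : Equiv.Perm GolayPt :=
  tperm [23, 2, 0, 14, 22, 5, 8, 21, 6, 7, 11, 16, 20, 19, 17, 13, 18, 1, 12, 9, 15, 4, 10, 3]
    [2, 17, 1, 23, 21, 5, 8, 9, 6, 19, 22, 10, 18, 15, 3, 20, 11, 14, 16, 13, 12, 7, 4, 0] (by decide +kernel) (by decide +kernel)

theorem A1_mem : A1 ∈ M24 := tperm_mem _ _ _ _ (by decide +kernel) (by decide +kernel)

theorem A1_smul (m : ℕ) : A1 • M m = M (pull [2, 17, 1, 23, 21, 5, 8, 9, 6, 19, 22, 10, 18, 15, 3, 20, 11, 14, 16, 13, 12, 7, 4, 0] m) :=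
  tperm_smul_M _ _ _ _ (by decide +kernel) m

theorem A1_stab : A1 ∈ stabF O8 := by
  rw [mem_stabF]
  refine ⟨A1_mem, ?_⟩
  change A1 • M oMask = M oMask
  rw [A1_smul]
  exact congrArg M (by decide +kernel)

/-- generator `A2` of the stabilizer of the standard octad -/
def A2 : Equiv.Perm GolayPt :=
  tperm [2, 23, 3, 0, 4, 1, 22, 9, 11, 18, 21, 19, 8, 20, 17, 7, 13, 5, 6, 15, 12, 16, 10, 14]
    [3, 5, 0, 2, 4, 17, 18, 15, 12, 7, 22, 8, 20, 16, 23, 19, 21, 14, 9, 11, 13, 10, 6, 1] (by decide +kernel) (by decide +kernel)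

theorem A2_mem : A2 ∈ M24 := tperm_mem _ _ _ _ (by decide +kernel) (by decide +kernel)

theorem A2_smul (m : ℕ) : A2 • M m = M (pull [3, 5, 0, 2, 4, 17, 18, 15, 12, 7, 22, 8, 20, 16, 23, 19, 21, 14, 9, 11, 13, 10, 6, 1] m) :=
  tperm_smul_M _ _ _ _ (by decide +kernel) m

theorem A2_stab : A2 ∈ stabF O8 := by
  rw [mem_stabF]
  refine ⟨A2_mem, ?_⟩
  change A2 • M oMask = M oMask
  rw [A2_smul]
  exact congrArg M (by decide +kernel)

/-- the inverse tables of the generators -/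
def tabsA : List (List ℕ) :=
  [[2, 17, 1, 23, 21, 5, 8, 9, 6, 19, 22, 10, 18, 15, 3, 20, 11, 14, 16, 13, 12, 7, 4, 0],
    [3, 5, 0, 2, 4, 17, 18, 15, 12, 7, 22, 8, 20, 16, 23, 19, 21, 14, 9, 11, 13, 10, 6, 1]]

theorem htabsA : ∀ t ∈ tabsA, ∃ h ∈ stabF O8, ∀ m, h • M m = M (pull t m) := by
  intro t ht
  simp only [tabsA, List.mem_cons, List.not_mem_nil, or_false] at ht
  rcases ht with rfl | rfl

  · exact ⟨A1, A1_stab, A1_smul⟩
  · exact ⟨A2, A2_stab, A2_smul⟩

/-- orbit certificate for the octads meeting the standard octad in 0 points -/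
def certA0 : List (ℕ × ℕ) :=
  [(0, 0), (1, 1), (0, 1), (1, 2), (0, 2), (1, 3), (0, 3), (1, 4), (1, 4), (1, 4), (0, 4), (1, 5), (1,
    5), (1, 5), (0, 5), (1, 6), (0, 6), (1, 7), (0, 7), (1, 7), (1, 7), (1, 7), (1, 7), (1, 7), (1, 7),
    (1, 7), (1, 7), (0, 7), (0, 4)]

/-- the octads meeting the standard octad in 0 points -/
def clsA0 : List ℕ := octadLit.filter fun m => wt24 (m &&& oMask) = 0

theorem clsA0_check :
    growK tabsA certA0 [7903248] (fun L => clsA0.all fun m => L.contains m) = true := by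
  decide +kernel

theorem transA0 : ∀ m ∈ clsA0, ∀ m' ∈ clsA0, ∃ g ∈ stabF O8, g • M m = M m' :=
  trans_of_cert (stabF O8) tabsA htabsA 7903248 certA0 clsA0 clsA0_check

/-- orbit certificate for the octads meeting the standard octad in 2 points -/
def certA2 : List (ℕ × ℕ) :=
  [(0, 0), (1, 1), (0, 1), (1, 2), (0, 2), (1, 3), (0, 3), (1, 4), (0, 4), (1, 5), (0, 5), (1, 6), (0,
    6), (1, 7), (0, 7), (1, 8), (0, 8), (1, 9), (0, 9), (1, 10), (0, 10), (1, 11), (0, 11), (1, 12), (0,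
    12), (1, 13), (0, 13), (1, 14), (0, 14), (1, 15), (0, 15), (1, 16), (0, 16), (0, 16), (1, 17), (0,
    17), (1, 18), (0, 18), (1, 19), (0, 19), (1, 20), (0, 20), (1, 21), (0, 21), (0, 21), (1, 22), (0,
    22), (1, 23), (0, 23), (1, 24), (0, 24), (1, 25), (0, 25), (1, 26), (0, 26), (1, 27), (0, 27), (1,
    28), (0, 28), (1, 29), (0, 29), (1, 30), (0, 30), (1, 31), (0, 31), (1, 32), (0, 32), (1, 33), (0,
    33), (1, 34), (0, 34), (1, 35), (0, 35), (1, 36), (0, 36), (1, 37), (0, 37), (1, 38), (1, 38), (0,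
    38), (1, 39), (0, 39), (1, 40), (0, 40), (1, 41), (0, 41), (1, 42), (0, 42), (1, 43), (1, 43), (0,
    43), (1, 44), (1, 44), (0, 44), (1, 45), (0, 45), (1, 46), (0, 46), (1, 47), (0, 47), (1, 48), (0,
    48), (1, 49), (0, 49), (1, 50), (1, 50), (1, 50), (0, 50), (1, 51), (0, 51), (1, 52), (1, 52), (0,
    52), (1, 53), (0, 53), (1, 54), (0, 54), (1, 55), (0, 55), (1, 56), (0, 55), (1, 56), (0, 56), (1,
    57), (0, 57), (0, 57), (1, 58), (0, 58), (1, 59), (0, 59), (1, 60), (0, 60), (0, 60), (1, 61), (1,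
    61), (0, 61), (1, 62), (1, 62), (0, 62), (1, 63), (0, 63), (1, 64), (0, 63), (1, 64), (0, 64), (1,
    65), (0, 65), (1, 66), (0, 66), (1, 67), (0, 67), (1, 68), (1, 68), (0, 68), (1, 69), (0, 69), (1,
    70), (0, 70), (1, 71), (1, 71), (0, 71), (1, 72), (0, 72), (1, 73), (0, 73), (1, 74), (0, 74), (1,
    75), (0, 75), (1, 76), (0, 76), (1, 77), (0, 77), (1, 78), (0, 78), (1, 79), (0, 79), (1, 80), (1,
    80), (0, 79), (1, 80), (0, 80), (1, 81), (0, 81), (0, 81), (1, 82), (0, 82), (0, 81), (1, 82), (0,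
    82), (1, 83), (0, 83), (1, 84), (0, 84), (1, 85), (1, 84), (0, 84), (1, 85), (0, 85), (1, 86), (0,
    86), (0, 86), (1, 87), (0, 86), (1, 87), (0, 87), (1, 88), (0, 87), (1, 88), (1, 88), (1, 88), (1,
    88), (0, 88), (0, 88), (1, 89), (0, 89), (1, 90), (1, 90), (0, 90), (0, 90), (1, 91), (0, 91), (1,
    91), (0, 91), (1, 92), (0, 92), (1, 93), (0, 93), (0, 93), (1, 94), (0, 94), (0, 94), (1, 95), (0,
    95), (1, 96), (0, 96), (1, 97), (0, 97), (1, 98), (0, 98), (1, 99), (0, 99), (0, 99), (1, 98), (0,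
    98), (1, 99), (0, 99), (1, 100), (0, 100), (1, 101), (1, 101), (0, 101), (1, 102), (0, 102), (1,
    103), (0, 102), (1, 103), (0, 103), (1, 104), (0, 104), (1, 105), (0, 105), (0, 105), (1, 106), (0,
    106), (1, 107), (1, 107), (1, 107), (0, 106), (1, 107), (0, 107), (1, 108), (0, 108), (1, 107), (0,
    107), (1, 108), (0, 107), (1, 105), (0, 105), (1, 106), (0, 106), (0, 106), (1, 107), (1, 106), (1,
    106), (0, 105), (1, 106), (0, 106), (1, 107), (1, 106), (0, 106), (1, 107), (0, 107), (1, 108), (0,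
    108), (0, 108), (0, 108), (1, 109), (0, 109), (1, 110), (1, 109), (0, 109), (0, 108), (1, 109), (1,
    109), (0, 109), (1, 110), (0, 109), (1, 110), (0, 110), (1, 110), (1, 110), (0, 110), (1, 110), (1,
    110), (0, 110), (1, 111), (1, 111), (1, 111), (0, 111), (0, 111), (0, 111), (1, 111), (0, 111), (1,
    112), (0, 112), (0, 112), (1, 113), (0, 112), (1, 113), (0, 113), (1, 114), (0, 114), (1, 114), (1,
    114), (0, 114), (1, 115), (0, 115), (1, 115), (1, 114), (0, 114), (1, 115), (0, 115), (1, 115), (0,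
    114), (0, 114), (1, 115), (1, 115), (0, 114), (0, 114), (0, 114), (0, 114), (0, 114), (1, 115), (0,
    114), (1, 115), (0, 115), (0, 115), (0, 114), (1, 115), (0, 114), (0, 114), (0, 114), (0, 113), (1,
    114), (0, 114), (1, 115), (0, 115), (1, 116), (0, 116), (1, 116), (0, 116), (0, 116), (1, 117), (1,
    117), (0, 117), (0, 116), (0, 116), (0, 116), (0, 116), (0, 113), (1, 114), (1, 112), (0, 112), (1,
    112), (0, 112), (1, 113), (1, 113), (1, 113), (0, 112), (0, 112), (0, 112), (1, 111), (0, 111), (1,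
    112), (0, 110), (0, 109), (0, 107), (0, 107), (0, 107), (1, 107), (0, 100), (1, 101), (0, 96), (1,
    95), (0, 95), (1, 95), (1, 94), (0, 93), (0, 93), (0, 93), (1, 94), (1, 91), (0, 91), (1, 89), (0,
    89), (0, 88), (1, 88), (0, 87), (1, 88), (0, 87), (1, 88), (0, 88), (1, 89), (1, 87), (1, 87), (1,
    85), (0, 84), (0, 82), (0, 82), (0, 82), (1, 81), (1, 81), (0, 77), (1, 78), (0, 73), (1, 69), (1,
    69), (1, 65), (0, 49), (1, 49), (0, 38), (0, 38), (0, 38), (1, 38), (1, 29), (1, 13)]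

/-- the octads meeting the standard octad in 2 points -/
def clsA2 : List ℕ := octadLit.filter fun m => wt24 (m &&& oMask) = 2

theorem clsA2_check :
    growK tabsA certA2 [11669008] (fun L => clsA2.all fun m => L.contains m) = true := by
  decide +kernel

theorem transA2 : ∀ m ∈ clsA2, ∀ m' ∈ clsA2, ∃ g ∈ stabF O8, g • M m = M m' :=
  trans_of_cert (stabF O8) tabsA htabsA 11669008 certA2 clsA2 clsA2_check

/-- orbit certificate for the octads meeting the standard octad in 4 points -/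
def certA4 : List (ℕ × ℕ) :=
  [(0, 0), (1, 1), (0, 1), (1, 2), (0, 2), (1, 3), (0, 3), (1, 4), (0, 4), (1, 5), (0, 5), (1, 6), (0,
    6), (1, 7), (0, 7), (1, 8), (0, 8), (1, 9), (0, 9), (1, 10), (0, 10), (1, 11), (0, 11), (1, 12), (0,
    12), (1, 13), (0, 13), (1, 14), (0, 14), (1, 15), (0, 15), (1, 16), (0, 16), (1, 17), (0, 17), (1,
    18), (0, 18), (1, 19), (0, 19), (1, 20), (0, 20), (1, 21), (0, 21), (1, 22), (0, 22), (1, 23), (0,
    23), (1, 24), (0, 24), (1, 25), (0, 24), (1, 25), (0, 25), (1, 26), (0, 26), (1, 27), (0, 27), (1,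
    28), (0, 28), (1, 29), (0, 29), (1, 30), (0, 30), (1, 31), (0, 31), (0, 31), (1, 32), (0, 32), (1,
    33), (0, 33), (1, 34), (0, 34), (1, 35), (0, 35), (1, 36), (0, 36), (1, 37), (0, 37), (1, 38), (0,
    38), (0, 38), (1, 39), (0, 39), (1, 40), (0, 40), (1, 41), (0, 41), (1, 41), (0, 41), (1, 42), (0,
    42), (1, 43), (0, 43), (1, 44), (0, 44), (1, 45), (0, 45), (1, 46), (1, 46), (0, 46), (1, 47), (0,
    47), (1, 48), (0, 48), (1, 49), (0, 49), (1, 50), (0, 50), (1, 51), (0, 51), (1, 52), (0, 52), (1,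
    53), (0, 53), (1, 54), (0, 54), (1, 55), (0, 55), (1, 56), (0, 56), (0, 56), (1, 57), (0, 57), (1,
    57), (0, 57), (1, 58), (0, 58), (0, 58), (1, 59), (0, 59), (0, 59), (1, 60), (0, 60), (1, 61), (0,
    61), (1, 62), (0, 62), (0, 62), (0, 62), (1, 63), (0, 63), (0, 63), (0, 63), (0, 63), (1, 64), (1,
    64), (0, 64), (1, 65), (0, 65), (1, 66), (0, 66), (1, 67), (0, 66), (1, 67), (0, 67), (1, 68), (1,
    68), (0, 68), (1, 69), (1, 69), (0, 69), (1, 70), (0, 70), (1, 71), (1, 71), (0, 70), (1, 71), (0,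
    71), (1, 71), (0, 71), (0, 71), (1, 71), (0, 71), (1, 72), (0, 72), (1, 72), (0, 72), (1, 73), (0,
    73), (1, 74), (1, 74), (0, 74), (1, 75), (0, 75), (0, 75), (1, 76), (0, 76), (1, 76), (0, 76), (0,
    76), (1, 77), (0, 76), (0, 76), (1, 77), (1, 76), (1, 76), (1, 76), (0, 76), (1, 77), (1, 77), (0,
    76), (1, 77), (1, 76), (0, 76), (1, 77), (0, 76), (1, 77), (0, 77), (1, 78), (0, 78), (1, 78), (1,
    77), (0, 77), (0, 77), (0, 77), (0, 77), (0, 77), (1, 78), (0, 78), (1, 79), (0, 79), (1, 80), (0,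
    80), (0, 80), (1, 81), (1, 78), (0, 78), (0, 76), (0, 74), (0, 74), (0, 74), (0, 74), (1, 73), (0,
    73), (0, 73), (1, 74), (1, 74), (1, 74), (0, 74), (0, 73), (1, 74), (1, 73), (0, 72), (1, 73), (0,
    72), (1, 72), (0, 71), (0, 71), (1, 72), (0, 72), (1, 72), (1, 71), (1, 70), (0, 70), (1, 71), (0,
    71), (0, 71), (1, 72), (0, 66), (0, 59), (0, 50), (0, 49), (1, 50), (0, 50), (1, 50), (0, 50), (1,
    50), (1, 49), (0, 44), (1, 44), (1, 44), (0, 36), (0, 32), (0, 32), (1, 28), (1, 27), (0, 27), (0,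
    21), (1, 16)]

/-- the octads meeting the standard octad in 4 points -/
def clsA4 : List ℕ := octadLit.filter fun m => wt24 (m &&& oMask) = 4

theorem clsA4_check :
    growK tabsA certA4 [8391797] (fun L => clsA4.all fun m => L.contains m) = true := by
  decide +kernel

theorem transA4 : ∀ m ∈ clsA4, ∀ m' ∈ clsA4, ∃ g ∈ stabF O8, g • M m = M m' :=
  trans_of_cert (stabF O8) tabsA htabsA 8391797 certA4 clsA4 clsA4_check

end Cfsg.Agent.Lib.Helper9.M24V1
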