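import Cfsg.Agent.Lib.Helper9.M24U6
import Cfsg.Agent.Lib.Helper9.M24T11

set_option autoImplicit false

namespace Cfsg.Agent.Lib.Helper9.M24W1

open Cfsg Finset Cfsg.Agent.Lib.Helper9.Golay1 Cfsg.Agent.Lib.Helper9.GolayQR1
  Cfsg.Agent.Lib.Helper9.M24T1 Cfsg.Agent.Lib.Helper9.M24T3 Cfsg.Agent.Lib.Helper9.M24T8
  Cfsg.Agent.Lib.Helper9.M24T9
  Cfsg.Agent.Lib.Helper9.M24U1 Cfsg.Agent.Lib.Helper9.M24U2 Cfsg.Agent.Lib.Helper9.M24U3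
  Cfsg.Agent.Lib.Helper9.M24U4 Cfsg.Agent.Lib.Helper9.M24U6
open scoped Pointwise

/-- generator `F1` -/
def F1 : Equiv.Perm GolayPt :=
  tperm [3, 11, 22, 18, 2, 23, 20, 21, 16, 12, 8, 7, 15, 6, 13, 10, 9, 14, 4, 17, 19, 5, 0, 1]
    [22, 23, 4, 0, 18, 21, 13, 11, 10, 16, 15, 1, 9, 14, 17, 12, 8, 19, 3, 20, 6, 7, 2, 5] (by decide +kernel) (by decide +kernel)

theorem F1_mem : F1 ∈ M24 := tperm_mem _ _ _ _ (by decide +kernel) (by decide +kernel)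

theorem F1_smul (m : ℕ) : F1 • M m = M (pull [22, 23, 4, 0, 18, 21, 13, 11, 10, 16, 15, 1, 9, 14, 17, 12, 8, 19, 3, 20, 6, 7, 2, 5] m) :=
  tperm_smul_M _ _ _ _ (by decide +kernel) m

theorem F1_stab : F1 ∈ stabF D12 := by
  rw [mem_stabF]
  refine ⟨F1_mem, ?_⟩
  change F1 • M dMask = M dMask
  rw [F1_smul]
  exact congrArg M (by decide +kernel)

/-- generator `F2` -/
def F2 : Equiv.Perm GolayPt :=
  tperm [1, 23, 21, 3, 22, 18, 13, 0, 20, 17, 15, 4, 12, 16, 19, 6, 14, 8, 2, 9, 10, 11, 7, 5]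
    [7, 0, 18, 3, 11, 23, 15, 22, 17, 19, 20, 21, 12, 6, 16, 10, 13, 9, 5, 14, 8, 2, 4, 1] (by decide +kernel) (by decide +kernel)

theorem F2_mem : F2 ∈ M24 := tperm_mem _ _ _ _ (by decide +kernel) (by decide +kernel)

theorem F2_smul (m : ℕ) : F2 • M m = M (pull [7, 0, 18, 3, 11, 23, 15, 22, 17, 19, 20, 21, 12, 6, 16, 10, 13, 9, 5, 14, 8, 2, 4, 1] m) :=
  tperm_smul_M _ _ _ _ (by decide +kernel) m

theorem F2_stab : F2 ∈ stabF D12 := by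
  rw [mem_stabF]
  refine ⟨F2_mem, ?_⟩
  change F2 • M dMask = M dMask
  rw [F2_smul]
  exact congrArg M (by decide +kernel)

/-- the inverse tables of the generators -/
def tabsF : List (List ℕ) :=
  [[22, 23, 4, 0, 18, 21, 13, 11, 10, 16, 15, 1, 9, 14, 17, 12, 8, 19, 3, 20, 6, 7, 2, 5],
    [7, 0, 18, 3, 11, 23, 15, 22, 17, 19, 20, 21, 12, 6, 16, 10, 13, 9, 5, 14, 8, 2, 4, 1]]

theorem htabsF : ∀ t ∈ tabsF, ∃ h ∈ stabF D12, ∀ m, h • M m = M (pull t m) := by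
  intro t ht
  simp only [tabsF, List.mem_cons, List.not_mem_nil, or_false] at ht
  rcases ht with rfl | rfl
  · exact ⟨F1, F1_stab, F1_smul⟩
  · exact ⟨F2, F2_stab, F2_smul⟩

set_option maxRecDepth 100000 in
/-- orbit certificate: the dodecads meeting the standard dodecad in 4 points -/
def certF4 : List (ℕ × ℕ) :=
  [(0, 0), (0, 0), (0, 0), (0, 0), (0, 0), (1, 0), (0, 0), (0, 0), (0, 0), (0, 0), (0, 0), (1, 0), (0,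
    0), (0, 0), (0, 0), (0, 0), (0, 0), (1, 0), (0, 0), (0, 0), (0, 0), (0, 0), (0, 0), (1, 0), (0, 0),
    (0, 0), (0, 0), (0, 0), (0, 0), (1, 0), (0, 0), (0, 0), (0, 0), (0, 0), (0, 0), (1, 1), (0, 0), (0,
    0), (0, 0), (0, 0), (0, 0), (1, 0), (0, 0), (0, 0), (0, 0), (0, 0), (0, 0), (1, 0), (0, 0), (0, 0),
    (0, 0), (0, 0), (0, 0), (1, 0), (0, 0), (0, 0), (0, 0), (0, 0), (0, 0), (1, 0), (0, 0), (0, 0), (0,
    0), (0, 0), (0, 0), (1, 1), (0, 0), (0, 0), (0, 0), (0, 0), (0, 0), (1, 0), (0, 0), (0, 0), (0, 0),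
    (0, 0), (0, 0), (1, 1), (0, 0), (0, 0), (0, 0), (0, 0), (0, 0), (1, 1), (0, 0), (0, 0), (0, 0), (0,
    0), (0, 0), (1, 3), (0, 0), (0, 0), (0, 0), (0, 0), (0, 0), (1, 0), (0, 0), (0, 0), (0, 0), (0, 0),
    (0, 0), (1, 1), (0, 0), (0, 0), (0, 0), (0, 0), (0, 0), (1, 1), (0, 0), (0, 0), (0, 0), (0, 0), (0,
    0), (1, 1), (0, 0), (0, 0), (0, 0), (0, 0), (0, 0), (1, 0), (0, 0), (0, 0), (0, 0), (0, 0), (0, 0),
    (1, 0), (0, 0), (0, 0), (0, 0), (0, 0), (0, 0), (1, 0), (0, 0), (0, 0), (0, 0), (0, 0), (0, 0), (1,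
    1), (0, 0), (0, 0), (0, 0), (0, 0), (0, 0), (1, 1), (0, 0), (0, 0), (0, 0), (0, 0), (0, 0), (1, 0),
    (0, 0), (0, 0), (0, 0), (0, 0), (0, 0), (1, 0), (0, 0), (0, 0), (0, 0), (0, 0), (0, 0), (1, 1), (0,
    0), (0, 0), (0, 0), (0, 0), (0, 0), (1, 0), (0, 0), (0, 0), (0, 0), (0, 0), (0, 0), (1, 0), (0, 0),
    (0, 0), (0, 0), (0, 0), (0, 0), (1, 0), (0, 0), (0, 0), (0, 0), (0, 0), (0, 0), (1, 0), (0, 0), (0,
    0), (0, 0), (0, 0), (0, 0), (1, 1), (0, 0), (0, 0), (0, 0), (0, 0), (0, 0), (1, 0), (0, 0), (0, 0),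
    (0, 0), (0, 0), (0, 0), (1, 1), (0, 0), (0, 0), (0, 0), (0, 0), (0, 0), (1, 1), (0, 0), (0, 0), (0,
    0), (0, 0), (0, 0), (1, 0), (0, 0), (0, 0), (0, 0), (0, 0), (0, 0), (1, 0), (0, 0), (0, 0), (0, 0),
    (0, 0), (0, 0), (1, 0), (0, 0), (0, 0), (0, 0), (0, 0), (0, 0), (1, 0), (0, 0), (0, 0), (0, 0), (0,
    0), (0, 0), (1, 1), (0, 0), (0, 0), (0, 0), (0, 0), (0, 0), (1, 0), (0, 0), (0, 0), (1, 0), (0, 0),
    (0, 0), (0, 0), (0, 0), (0, 0), (1, 0), (0, 0), (0, 0), (0, 0), (0, 0), (0, 0), (1, 0), (0, 0), (0,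
    0), (0, 0), (0, 0), (0, 0), (1, 3), (0, 0), (0, 0), (0, 0), (0, 0), (0, 0), (1, 0), (0, 0), (0, 0),
    (0, 0), (0, 0), (0, 0), (1, 0), (0, 0), (0, 0), (0, 0), (0, 0), (0, 0), (1, 1), (0, 0), (0, 0), (0,
    0), (0, 0), (0, 0), (1, 0), (0, 0), (0, 0), (0, 0), (0, 0), (0, 0), (1, 1), (0, 0), (0, 0), (0, 0),
    (0, 0), (0, 0), (1, 8), (0, 0), (0, 0), (0, 0), (0, 0), (0, 0), (1, 1), (0, 0), (0, 0), (0, 0), (0,
    0), (0, 0), (1, 0), (0, 0), (0, 0), (0, 0), (0, 0), (0, 0), (1, 5), (0, 0), (0, 0), (0, 0), (0, 0),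
    (0, 0), (1, 0), (0, 0), (0, 0), (0, 0), (0, 0), (0, 0), (1, 4), (0, 0), (0, 0), (0, 0), (0, 0), (0,
    0), (1, 0), (0, 0), (0, 0), (1, 1), (0, 0), (0, 0), (0, 0), (0, 0), (0, 0), (1, 0), (0, 0), (0, 0),
    (0, 0), (0, 0), (0, 0), (1, 1), (0, 0), (0, 0), (0, 0), (0, 0), (0, 0), (1, 1), (0, 0), (0, 0), (0,
    0), (0, 0), (0, 0), (1, 0), (0, 0), (0, 0), (1, 5), (0, 0), (0, 0), (0, 0), (0, 0), (0, 0), (1, 0),
    (0, 0), (0, 0), (0, 0), (0, 0), (0, 0), (1, 2), (0, 0), (0, 0), (0, 0), (0, 0), (0, 0), (1, 2), (0,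
    0), (0, 0), (0, 0), (0, 0), (0, 0), (1, 2), (0, 0), (0, 0), (0, 0), (0, 0), (0, 0), (1, 0), (0, 0),
    (0, 0), (0, 0), (0, 0), (0, 0), (1, 2), (0, 0), (0, 0), (0, 0), (0, 0), (0, 0), (1, 15), (0, 0), (0,
    0), (0, 0), (0, 0), (0, 0), (1, 0), (0, 0), (0, 0), (0, 0), (0, 0), (0, 0), (1, 2), (0, 0), (0, 0),
    (0, 0), (0, 0), (0, 0), (1, 0), (0, 0), (0, 0), (0, 0), (0, 0), (0, 0), (1, 0), (0, 0), (0, 0), (0,
    0), (0, 0), (0, 0), (1, 1), (0, 0), (0, 0), (0, 0), (0, 0), (0, 0), (1, 2), (0, 0), (0, 0), (0, 0),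
    (0, 0), (0, 0), (1, 5), (0, 0), (0, 0), (0, 0), (0, 0), (0, 0), (1, 1), (0, 0), (0, 0), (0, 0), (0,
    0), (0, 0), (1, 10), (0, 0), (0, 0), (0, 0), (0, 0), (0, 0), (1, 33), (0, 0), (0, 0), (1, 79), (0,
    0), (0, 0), (0, 0), (0, 0), (0, 0), (1, 124), (0, 0), (0, 0), (1, 147), (0, 0), (0, 0), (0, 0), (0,
    0), (0, 0), (1, 3), (0, 0), (0, 0), (0, 0), (0, 0), (0, 0)]

/-- the dodecads meeting the standard dodecad in 4 points -/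
def clsF4 : List ℕ := dodecadLit.filter fun m => wt24 (m &&& dMask) = 4

set_option maxRecDepth 100000 in
theorem clsF4_check :
    growK tabsF certF4 [2358342] (fun L => subCheck clsF4 L) = true := by
  decide +kernel

theorem transF4 : ∀ m ∈ clsF4, ∀ m' ∈ clsF4, ∃ g ∈ stabF D12, g • M m = M m' :=
  trans_of_cert' (stabF D12) tabsF htabsF 2358342 certF4 clsF4
    (fun m hm => dodecadLit_reprod m (List.mem_filter.mp hm).1) clsF4_check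

set_option maxRecDepth 100000 in
/-- orbit certificate: the dodecads meeting the standard dodecad in 6 points -/
def certF6 : List (ℕ × ℕ) :=
  [(0, 0), (0, 0), (0, 0), (0, 0), (0, 0), (1, 0), (0, 0), (0, 0), (0, 0), (0, 0), (0, 0), (1, 0), (0,
    0), (0, 0), (0, 0), (0, 0), (0, 0), (1, 0), (0, 0), (0, 0), (0, 0), (0, 0), (0, 0), (1, 0), (0, 0),
    (0, 0), (0, 0), (0, 0), (0, 0), (1, 0), (0, 0), (0, 0), (0, 0), (0, 0), (0, 0), (1, 1), (0, 0), (0,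
    0), (0, 0), (0, 0), (0, 0), (1, 0), (0, 0), (0, 0), (0, 0), (0, 0), (0, 0), (1, 0), (0, 0), (0, 0),
    (0, 0), (0, 0), (0, 0), (1, 0), (0, 0), (0, 0), (0, 0), (0, 0), (0, 0), (1, 0), (0, 0), (0, 0), (0,
    0), (0, 0), (0, 0), (1, 1), (0, 0), (0, 0), (0, 0), (0, 0), (0, 0), (1, 0), (0, 0), (0, 0), (0, 0),
    (0, 0), (0, 0), (1, 0), (0, 0), (0, 0), (0, 0), (0, 0), (0, 0), (1, 0), (0, 0), (0, 0), (0, 0), (0,
    0), (0, 0), (1, 0), (0, 0), (0, 0), (0, 0), (0, 0), (0, 0), (1, 1), (0, 0), (0, 0), (0, 0), (0, 0),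
    (0, 0), (1, 0), (0, 0), (0, 0), (0, 0), (0, 0), (0, 0), (1, 0), (0, 0), (0, 0), (0, 0), (0, 0), (0,
    0), (1, 0), (0, 0), (0, 0), (0, 0), (0, 0), (0, 0), (1, 0), (0, 0), (0, 0), (0, 0), (0, 0), (0, 0),
    (1, 1), (0, 0), (0, 0), (0, 0), (0, 0), (0, 0), (1, 0), (0, 0), (0, 0), (0, 0), (0, 0), (0, 0), (1,
    0), (0, 0), (0, 0), (0, 0), (0, 0), (0, 0), (1, 0), (0, 0), (0, 0), (0, 0), (0, 0), (0, 0), (1, 0),
    (0, 0), (0, 0), (0, 0), (0, 0), (0, 0), (1, 2), (0, 0), (0, 0), (0, 0), (0, 0), (0, 0), (1, 0), (0,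
    0), (0, 0), (0, 0), (0, 0), (0, 0), (1, 0), (0, 0), (0, 0), (0, 0), (0, 0), (0, 0), (1, 0), (0, 0),
    (0, 0), (0, 0), (0, 0), (0, 0), (1, 0), (0, 0), (0, 0), (0, 0), (0, 0), (0, 0), (1, 2), (0, 0), (0,
    0), (0, 0), (0, 0), (0, 0), (1, 0), (0, 0), (0, 0), (0, 0), (0, 0), (0, 0), (1, 0), (0, 0), (0, 0),
    (0, 0), (0, 0), (0, 0), (1, 0), (0, 0), (0, 0), (0, 0), (0, 0), (0, 0), (1, 0), (0, 0), (0, 0), (0,
    0), (0, 0), (0, 0), (1, 1), (0, 0), (0, 0), (0, 0), (0, 0), (0, 0), (1, 0), (0, 0), (0, 0), (0, 0),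
    (0, 0), (0, 0), (1, 1), (0, 0), (0, 0), (0, 0), (0, 0), (0, 0), (1, 1), (0, 0), (0, 0), (0, 0), (0,
    0), (0, 0), (1, 0), (0, 0), (0, 0), (0, 0), (0, 0), (0, 0), (1, 0), (0, 0), (0, 0), (0, 0), (0, 0),
    (0, 0), (1, 0), (0, 0), (0, 0), (0, 0), (0, 0), (0, 0), (1, 0), (0, 0), (0, 0), (0, 0), (0, 0), (0,
    0), (1, 1), (0, 0), (0, 0), (0, 0), (0, 0), (0, 0), (1, 0), (0, 0), (0, 0), (0, 0), (0, 0), (0, 0),
    (1, 0), (0, 0), (0, 0), (0, 0), (0, 0), (0, 0), (1, 0), (0, 0), (0, 0), (0, 0), (0, 0), (0, 0), (1,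
    0), (0, 0), (0, 0), (0, 0), (0, 0), (0, 0), (1, 1), (0, 0), (0, 0), (0, 0), (0, 0), (0, 0), (1, 0),
    (0, 0), (0, 0), (0, 0), (0, 0), (0, 0), (1, 0), (0, 0), (0, 0), (0, 0), (0, 0), (0, 0), (1, 0), (0,
    0), (0, 0), (0, 0), (0, 0), (0, 0), (1, 0), (0, 0), (0, 0), (0, 0), (0, 0), (0, 0), (1, 2), (0, 0),
    (0, 0), (0, 0), (0, 0), (0, 0), (1, 0), (0, 0), (0, 0), (0, 0), (0, 0), (0, 0), (1, 0), (0, 0), (0,
    0), (0, 0), (0, 0), (0, 0), (1, 0), (0, 0), (0, 0), (0, 0), (0, 0), (0, 0), (1, 0), (0, 0), (0, 0),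
    (0, 0), (0, 0), (0, 0), (1, 1), (0, 0), (0, 0), (0, 0), (0, 0), (0, 0), (1, 1), (0, 0), (0, 0), (0,
    0), (0, 0), (0, 0), (1, 0), (0, 0), (0, 0), (0, 0), (0, 0), (0, 0), (1, 0), (0, 0), (0, 0), (0, 0),
    (0, 0), (0, 0), (1, 0), (0, 0), (0, 0), (0, 0), (0, 0), (0, 0), (1, 0), (0, 0), (0, 0), (0, 0), (0,
    0), (0, 0), (1, 1), (0, 0), (0, 0), (0, 0), (0, 0), (0, 0), (1, 0), (0, 0), (0, 0), (0, 0), (0, 0),
    (0, 0), (1, 0), (0, 0), (0, 0), (0, 0), (0, 0), (0, 0), (1, 0), (0, 0), (0, 0), (0, 0), (0, 0), (0,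
    0), (1, 1), (0, 0), (0, 0), (0, 0), (0, 0), (0, 0), (1, 0), (0, 0), (0, 0), (0, 0), (0, 0), (0, 0),
    (1, 1), (0, 0), (0, 0), (0, 0), (0, 0), (0, 0), (1, 1), (0, 0), (0, 0), (0, 0), (0, 0), (0, 0), (1,
    1), (0, 0), (0, 0), (0, 0), (0, 0), (0, 0), (1, 1), (0, 0), (0, 0), (0, 0), (0, 0), (0, 0), (1, 0),
    (0, 0), (0, 0), (0, 0), (0, 0), (0, 0), (1, 1), (0, 0), (0, 0), (0, 0), (0, 0), (0, 0), (1, 0), (0,
    0), (0, 0), (0, 0), (0, 0), (0, 0), (1, 2), (0, 0), (0, 0), (0, 0), (0, 0), (0, 0), (1, 0), (0, 0),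
    (0, 0), (0, 0), (0, 0), (0, 0), (1, 0), (0, 0), (0, 0), (0, 0), (0, 0), (0, 0), (1, 1), (0, 0), (0,
    0), (0, 0), (0, 0), (0, 0), (1, 0), (0, 0), (0, 0), (0, 0), (0, 0), (0, 0), (1, 2), (0, 0), (0, 0),
    (0, 0), (0, 0), (0, 0), (1, 1), (0, 0), (0, 0), (0, 0), (0, 0), (0, 0), (1, 0), (0, 0), (0, 0), (0,
    0), (0, 0), (0, 0), (1, 0), (0, 0), (0, 0), (0, 0), (0, 0), (0, 0), (1, 0), (0, 0), (0, 0), (0, 0),
    (0, 0), (0, 0), (1, 1), (0, 0), (0, 0), (0, 0), (0, 0), (0, 0), (1, 1), (0, 0), (0, 0), (0, 0), (0,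
    0), (0, 0), (1, 1), (0, 0), (0, 0), (0, 0), (0, 0), (0, 0), (1, 0), (0, 0), (0, 0), (0, 0), (0, 0),
    (0, 0), (1, 0), (0, 0), (0, 0), (0, 0), (0, 0), (0, 0), (1, 0), (0, 0), (0, 0), (0, 0), (0, 0), (0,
    0), (1, 1), (0, 0), (0, 0), (0, 0), (0, 0), (0, 0), (1, 0), (0, 0), (0, 0), (0, 0), (0, 0), (0, 0),
    (1, 0), (0, 0), (0, 0), (0, 0), (0, 0), (0, 0), (1, 0), (0, 0), (0, 0), (0, 0), (0, 0), (0, 0), (1,
    0), (0, 0), (0, 0), (0, 0), (0, 0), (0, 0), (1, 7), (0, 0), (0, 0), (0, 0), (0, 0), (0, 0), (1, 0),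
    (0, 0), (0, 0), (0, 0), (0, 0), (0, 0), (1, 0), (0, 0), (1, 0), (0, 0), (0, 0), (0, 0), (0, 0), (0,
    0), (1, 3), (0, 0), (0, 0), (0, 0), (0, 0), (0, 0), (1, 0), (0, 0), (0, 0), (0, 0), (0, 0), (0, 0),
    (1, 0), (0, 0), (0, 0), (0, 0), (0, 0), (0, 0), (1, 2), (0, 0), (0, 0), (0, 0), (0, 0), (0, 0), (1,
    0), (0, 0), (0, 0), (0, 0), (0, 0), (0, 0), (1, 0), (0, 0), (0, 0), (0, 0), (0, 0), (0, 0), (1, 0),
    (0, 0), (0, 0), (0, 0), (0, 0), (0, 0), (1, 0), (0, 0), (0, 0), (0, 0), (0, 0), (0, 0), (1, 1), (0,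
    0), (0, 0), (0, 0), (0, 0), (0, 0), (1, 2), (0, 0), (0, 0), (0, 0), (0, 0), (0, 0), (1, 0), (0, 0),
    (0, 0), (0, 0), (0, 0), (0, 0), (1, 0), (0, 0), (0, 0), (0, 0), (0, 0), (0, 0), (1, 0), (0, 0), (0,
    0), (0, 0), (0, 0), (0, 0), (1, 0), (0, 0), (0, 0), (0, 0), (0, 0), (0, 0), (1, 2), (0, 0), (0, 0),
    (0, 0), (0, 0), (0, 0), (1, 0), (0, 0), (0, 0), (0, 0), (0, 0), (0, 0), (1, 0), (0, 0), (0, 0), (0,
    0), (0, 0), (0, 0), (1, 0), (0, 0), (0, 0), (0, 0), (0, 0), (0, 0), (1, 0), (0, 0), (0, 0), (0, 0),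
    (0, 0), (0, 0), (1, 3), (0, 0), (0, 0), (0, 0), (0, 0), (0, 0), (1, 4), (0, 0), (0, 0), (0, 0), (0,
    0), (0, 0), (1, 0), (0, 0), (0, 0), (0, 0), (0, 0), (0, 0), (1, 0), (0, 0), (0, 0), (0, 0), (0, 0),
    (0, 0), (1, 0), (0, 0), (0, 0), (0, 0), (0, 0), (0, 0), (1, 0), (0, 0), (0, 0), (0, 0), (0, 0), (0,
    0), (1, 1), (0, 0), (0, 0), (0, 0), (0, 0), (0, 0), (1, 0), (0, 0), (0, 0), (0, 0), (0, 0), (0, 0),
    (1, 0), (0, 0), (0, 0), (0, 0), (0, 0), (0, 0), (1, 0), (0, 0), (0, 0), (0, 0), (0, 0), (0, 0), (1,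
    1), (0, 0), (0, 0), (0, 0), (0, 0), (0, 0), (1, 3), (0, 0), (0, 0), (0, 0), (0, 0), (0, 0), (1, 1),
    (0, 0), (0, 0), (0, 0), (0, 0), (0, 0), (1, 1), (0, 0), (0, 0), (0, 0), (0, 0), (0, 0), (1, 2), (0,
    0), (0, 0), (0, 0), (0, 0), (0, 0), (1, 0), (0, 0), (0, 0), (0, 0), (0, 0), (0, 0), (1, 0), (0, 0),
    (0, 0), (0, 0), (0, 0), (0, 0), (1, 2), (0, 0), (0, 0), (0, 0), (0, 0), (0, 0), (1, 2), (0, 0), (0,
    0), (0, 0), (0, 0), (0, 0), (1, 0), (0, 0), (0, 0), (0, 0), (0, 0), (0, 0), (1, 1), (0, 0), (0, 0),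
    (0, 0), (0, 0), (0, 0), (1, 0), (0, 0), (0, 0), (0, 0), (0, 0), (0, 0), (1, 0), (0, 0), (0, 0), (0,
    0), (0, 0), (0, 0), (1, 5), (0, 0), (0, 0), (0, 0), (0, 0), (0, 0), (1, 1), (0, 0), (0, 0), (0, 0),
    (0, 0), (0, 0), (1, 2), (0, 0), (0, 0), (0, 0), (0, 0), (0, 0), (1, 1), (0, 0), (0, 0), (0, 0), (0,
    0), (0, 0), (1, 0), (0, 0), (0, 0), (0, 0), (0, 0), (0, 0), (1, 0), (0, 0), (0, 0), (0, 0), (0, 0),
    (0, 0), (1, 1), (0, 0), (0, 0), (0, 0), (0, 0), (0, 0), (1, 1), (0, 0), (0, 0), (0, 0), (0, 0), (0,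
    0), (1, 2), (0, 0), (0, 0), (0, 0), (0, 0), (0, 0), (1, 4), (0, 0), (0, 0), (0, 0), (0, 0), (0, 0),
    (1, 1), (0, 0), (0, 0), (0, 0), (0, 0), (0, 0), (1, 1), (0, 0), (0, 0), (0, 0), (0, 0), (0, 0), (1,
    0), (0, 0), (0, 0), (0, 0), (0, 0), (0, 0), (1, 0), (0, 0), (0, 0), (0, 0), (0, 0), (0, 0), (1, 0),
    (0, 0), (1, 0), (0, 0), (0, 0), (0, 0), (0, 0), (0, 0), (1, 1), (0, 0), (0, 0), (0, 0), (0, 0), (0,
    0), (1, 0), (0, 0), (0, 0), (0, 0), (0, 0), (0, 0), (1, 3), (0, 0), (0, 0), (0, 0), (0, 0), (0, 0),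
    (1, 0), (0, 0), (0, 0), (0, 0), (0, 0), (0, 0), (1, 1), (0, 0), (0, 0), (0, 0), (0, 0), (0, 0), (1,
    4), (0, 0), (0, 0), (0, 0), (0, 0), (0, 0), (1, 1), (0, 0), (0, 0), (0, 0), (0, 0), (0, 0), (1, 1),
    (0, 0), (0, 0), (0, 0), (0, 0), (0, 0), (1, 1), (0, 0), (0, 0), (0, 0), (0, 0), (0, 0), (1, 0), (0,
    0), (0, 0), (0, 0), (0, 0), (0, 0), (1, 2), (0, 0), (0, 0), (0, 0), (0, 0), (0, 0), (1, 0), (0, 0),
    (0, 0), (0, 0), (0, 0), (0, 0), (1, 3), (0, 0), (0, 0), (0, 0), (0, 0), (0, 0), (1, 2), (0, 0), (0,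
    0), (0, 0), (0, 0), (0, 0), (1, 2), (0, 0), (0, 0), (0, 0), (0, 0), (0, 0), (1, 0), (0, 0), (0, 0),
    (0, 0), (0, 0), (0, 0), (1, 1), (0, 0), (0, 0), (0, 0), (0, 0), (0, 0), (1, 3), (0, 0), (0, 0), (0,
    0), (0, 0), (0, 0), (1, 0), (0, 0), (0, 0), (0, 0), (0, 0), (0, 0), (1, 2), (0, 0), (0, 0), (0, 0),
    (0, 0), (0, 0), (1, 1), (0, 0), (0, 0), (0, 0), (0, 0), (0, 0), (1, 2), (0, 0), (0, 0), (0, 0), (0,
    0), (0, 0), (1, 1), (0, 0), (0, 0), (0, 0), (0, 0), (0, 0), (1, 0), (0, 0), (0, 0), (0, 0), (0, 0),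
    (0, 0), (1, 2), (0, 0), (0, 0), (0, 0), (0, 0), (0, 0), (1, 1), (0, 0), (0, 0), (0, 0), (0, 0), (0,
    0), (1, 4), (0, 0), (0, 0), (0, 0), (0, 0), (0, 0), (1, 3), (0, 0), (0, 0), (0, 0), (0, 0), (0, 0),
    (1, 1), (0, 0), (0, 0), (0, 0), (0, 0), (0, 0), (1, 0), (0, 0), (0, 0), (0, 0), (0, 0), (0, 0), (1,
    0), (0, 0), (0, 0), (0, 0), (0, 0), (0, 0), (1, 1), (0, 0), (0, 0), (0, 0), (0, 0), (0, 0), (1, 0),
    (0, 0), (0, 0), (0, 0), (0, 0), (0, 0), (1, 3), (0, 0), (0, 0), (0, 0), (0, 0), (0, 0), (1, 0), (0,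
    0), (0, 0), (0, 0), (0, 0), (0, 0), (1, 2), (0, 0), (0, 0), (0, 0), (0, 0), (0, 0), (1, 1), (0, 0),
    (0, 0), (0, 0), (0, 0), (0, 0), (1, 2), (0, 0), (0, 0), (0, 0), (0, 0), (0, 0), (1, 9), (0, 0), (0,
    0), (0, 0), (0, 0), (0, 0), (1, 0), (0, 0), (0, 0), (0, 0), (0, 0), (0, 0), (1, 8), (0, 0), (0, 0),
    (0, 0), (0, 0), (0, 0), (1, 28), (0, 0), (0, 0), (0, 0), (0, 0), (0, 0), (1, 4), (0, 0), (0, 0), (0,
    0), (0, 0), (0, 0), (1, 1), (0, 0), (0, 0), (0, 0), (0, 0), (0, 0), (1, 9), (0, 0), (0, 0), (0, 0),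
    (0, 0), (0, 0), (1, 4), (0, 0), (0, 0), (0, 0), (0, 0), (0, 0), (1, 1), (0, 0), (0, 0), (0, 0), (0,
    0), (0, 0), (1, 1), (0, 0), (0, 0), (0, 0), (0, 0), (0, 0), (1, 5), (0, 0), (0, 0), (0, 0), (0, 0),
    (0, 0), (1, 0), (0, 0), (0, 0), (0, 0), (0, 0), (0, 0), (1, 0), (0, 0), (0, 0), (0, 0), (0, 0), (0,
    0), (1, 1), (0, 0), (0, 0), (0, 0), (0, 0), (0, 0), (1, 0), (0, 0), (1, 6), (0, 0), (0, 0), (0, 0),
    (0, 0), (0, 0), (1, 16), (0, 0), (0, 0), (0, 0), (0, 0), (0, 0), (1, 28), (0, 0), (0, 0), (0, 0),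
    (0, 0), (0, 0), (1, 4), (0, 0), (0, 0), (0, 0), (0, 0), (0, 0), (1, 1), (0, 0), (0, 0), (0, 0), (0,
    0), (0, 0), (1, 2), (0, 0), (0, 0), (0, 0), (0, 0), (0, 0), (1, 10), (0, 0), (0, 0), (0, 0), (0, 0),
    (0, 0), (1, 2), (0, 0), (0, 0), (0, 0), (0, 0), (0, 0), (1, 2), (0, 0), (1, 1), (0, 0), (0, 0), (0,
    0), (0, 0), (0, 0), (1, 74), (0, 0), (0, 0), (0, 0), (0, 0), (0, 0), (1, 1), (0, 0), (0, 0), (0, 0),
    (0, 0), (0, 0), (1, 3), (0, 0), (0, 0), (0, 0), (0, 0), (0, 0), (1, 0), (0, 0), (0, 0), (0, 0), (0,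
    0), (0, 0), (1, 7), (0, 0), (0, 0), (0, 0), (0, 0), (0, 0), (1, 1), (0, 0), (0, 0), (0, 0), (0, 0),
    (0, 0), (1, 10), (0, 0), (0, 0), (0, 0), (0, 0), (0, 0), (1, 1), (0, 0), (0, 0), (0, 0), (0, 0), (0,
    0), (1, 4), (0, 0), (0, 0), (0, 0), (0, 0), (0, 0), (1, 1), (0, 0), (0, 0), (0, 0), (0, 0), (0, 0),
    (1, 10), (0, 0), (0, 0), (0, 0), (0, 0), (0, 0), (1, 2), (0, 0), (0, 0), (0, 0), (0, 0), (0, 0), (1,
    5), (0, 0), (1, 11), (0, 0), (0, 0), (0, 0), (0, 0), (0, 0), (1, 3), (0, 0), (1, 6), (0, 0), (0, 0),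
    (0, 0), (0, 0), (0, 0), (1, 0), (0, 0), (0, 0), (0, 0), (0, 0), (0, 0), (1, 0), (0, 0), (0, 0), (0,
    0), (0, 0), (0, 0), (1, 3), (0, 0), (0, 0), (0, 0), (0, 0), (0, 0), (1, 3), (0, 0), (0, 0), (0, 0),
    (0, 0), (0, 0), (1, 10), (0, 0), (0, 0), (0, 0), (0, 0), (0, 0), (1, 2), (0, 0), (0, 0), (0, 0), (0,
    0), (0, 0), (1, 4), (0, 0), (0, 0), (0, 0), (0, 0), (0, 0), (1, 0), (0, 0), (0, 0), (0, 0), (0, 0),
    (0, 0), (1, 46), (0, 0), (0, 0), (0, 0), (0, 0), (0, 0), (1, 55), (0, 0), (0, 0), (0, 0), (0, 0),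
    (0, 0), (1, 5), (0, 0), (0, 0), (0, 0), (0, 0), (0, 0), (1, 138), (0, 0), (0, 0), (0, 0), (0, 0),
    (0, 0), (1, 1), (0, 0), (0, 0), (0, 0), (0, 0), (0, 0), (1, 2), (0, 0), (0, 0), (0, 0), (0, 0), (0,
    0), (1, 3), (0, 0), (0, 0), (0, 0), (0, 0), (0, 0), (1, 2), (0, 0), (0, 0), (0, 0), (0, 0), (0, 0),
    (1, 22), (0, 0), (0, 0), (0, 0), (0, 0), (0, 0), (1, 182), (0, 0), (0, 0), (0, 0), (0, 0), (0, 0),
    (1, 276), (0, 0), (0, 0), (0, 0), (0, 0), (0, 0), (1, 318), (0, 0), (0, 0), (0, 0), (0, 0), (0, 0),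
    (1, 390), (0, 0), (0, 0), (0, 0), (0, 0), (0, 0), (1, 400), (0, 0), (0, 0), (0, 0), (0, 0), (0, 0),
    (1, 417), (0, 0), (0, 0), (0, 0), (0, 0), (0, 0), (1, 2), (0, 0), (0, 0), (0, 0), (0, 0), (0, 0),
    (1, 514), (0, 0), (0, 0), (0, 0), (0, 0), (0, 0), (1, 523), (0, 0), (0, 0), (0, 0), (0, 0), (0, 0),
    (1, 599), (0, 0), (0, 0), (0, 0), (0, 0), (0, 0), (1, 637), (0, 0), (0, 0), (0, 0), (0, 0), (0, 0)]

/-- the dodecads meeting the standard dodecad in 6 points -/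
def clsF6 : List ℕ := dodecadLit.filter fun m => wt24 (m &&& dMask) = 6

set_option maxRecDepth 100000 in
theorem clsF6_check :
    growK tabsF certF6 [4377555] (fun L => subCheck clsF6 L) = true := by
  decide +kernel

theorem transF6 : ∀ m ∈ clsF6, ∀ m' ∈ clsF6, ∃ g ∈ stabF D12, g • M m = M m' :=
  trans_of_cert' (stabF D12) tabsF htabsF 4377555 certF6 clsF6
    (fun m hm => dodecadLit_reprod m (List.mem_filter.mp hm).1) clsF6_check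

set_option maxRecDepth 100000 in
/-- orbit certificate: the dodecads meeting the standard dodecad in 8 points -/
def certF8 : List (ℕ × ℕ) :=
  [(0, 0), (0, 0), (0, 0), (0, 0), (0, 0), (1, 0), (0, 0), (0, 0), (0, 0), (0, 0), (0, 0), (1, 0), (0,
    0), (0, 0), (0, 0), (0, 0), (0, 0), (1, 0), (0, 0), (0, 0), (0, 0), (0, 0), (0, 0), (1, 0), (0, 0),
    (0, 0), (0, 0), (0, 0), (0, 0), (1, 0), (0, 0), (0, 0), (0, 0), (0, 0), (0, 0), (1, 1), (0, 0), (0,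
    0), (0, 0), (0, 0), (0, 0), (1, 0), (0, 0), (0, 0), (0, 0), (0, 0), (0, 0), (1, 0), (0, 0), (0, 0),
    (0, 0), (0, 0), (0, 0), (1, 0), (0, 0), (0, 0), (0, 0), (0, 0), (0, 0), (1, 0), (0, 0), (0, 0), (0,
    0), (0, 0), (0, 0), (1, 1), (0, 0), (0, 0), (0, 0), (0, 0), (0, 0), (1, 0), (0, 0), (0, 0), (0, 0),
    (0, 0), (0, 0), (1, 0), (0, 0), (0, 0), (0, 0), (0, 0), (0, 0), (1, 0), (0, 0), (0, 0), (0, 0), (0,
    0), (0, 0), (1, 0), (0, 0), (0, 0), (0, 0), (0, 0), (0, 0), (1, 1), (0, 0), (0, 0), (0, 0), (0, 0),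
    (0, 0), (1, 0), (0, 0), (0, 0), (0, 0), (0, 0), (0, 0), (1, 0), (0, 0), (0, 0), (0, 0), (0, 0), (0,
    0), (1, 1), (0, 0), (0, 0), (0, 0), (0, 0), (0, 0), (1, 2), (0, 0), (0, 0), (0, 0), (0, 0), (0, 0),
    (1, 0), (0, 0), (0, 0), (0, 0), (0, 0), (0, 0), (1, 0), (0, 0), (0, 0), (0, 0), (0, 0), (0, 0), (1,
    0), (0, 0), (0, 0), (0, 0), (0, 0), (0, 0), (1, 1), (0, 0), (0, 0), (0, 0), (0, 0), (0, 0), (1, 1),
    (0, 0), (0, 0), (0, 0), (0, 0), (0, 0), (1, 1), (0, 0), (0, 0), (0, 0), (0, 0), (0, 0), (1, 0), (0,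
    0), (0, 0), (0, 0), (0, 0), (0, 0), (1, 0), (0, 0), (0, 0), (0, 0), (0, 0), (0, 0), (1, 1), (0, 0),
    (0, 0), (0, 0), (0, 0), (0, 0), (1, 1), (0, 0), (0, 0), (0, 0), (0, 0), (0, 0), (1, 0), (0, 0), (0,
    0), (0, 0), (0, 0), (0, 0), (1, 0), (0, 0), (0, 0), (0, 0), (0, 0), (0, 0), (1, 0), (0, 0), (0, 0),
    (0, 0), (0, 0), (0, 0), (1, 0), (0, 0), (0, 0), (0, 0), (0, 0), (0, 0), (1, 1), (0, 0), (0, 0), (0,
    0), (0, 0), (0, 0), (1, 1), (0, 0), (0, 0), (0, 0), (0, 0), (0, 0), (1, 2), (0, 0), (0, 0), (0, 0),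
    (0, 0), (0, 0), (1, 0), (0, 0), (0, 0), (0, 0), (0, 0), (0, 0), (1, 0), (0, 0), (0, 0), (0, 0), (0,
    0), (0, 0), (1, 0), (0, 0), (0, 0), (0, 0), (0, 0), (0, 0), (1, 1), (0, 0), (0, 0), (0, 0), (0, 0),
    (0, 0), (1, 2), (0, 0), (0, 0), (0, 0), (0, 0), (0, 0), (1, 1), (0, 0), (0, 0), (0, 0), (0, 0), (0,
    0), (1, 0), (0, 0), (0, 0), (0, 0), (0, 0), (0, 0), (1, 1), (0, 0), (0, 0), (0, 0), (0, 0), (0, 0),
    (1, 0), (0, 0), (0, 0), (0, 0), (0, 0), (0, 0), (1, 4), (0, 0), (0, 0), (0, 0), (0, 0), (0, 0), (1,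
    1), (0, 0), (0, 0), (0, 0), (0, 0), (0, 0), (1, 1), (0, 0), (0, 0), (0, 0), (0, 0), (0, 0), (1, 3),
    (0, 0), (0, 0), (0, 0), (0, 0), (0, 0), (1, 0), (0, 0), (0, 0), (0, 0), (0, 0), (0, 0), (1, 5), (0,
    0), (0, 0), (0, 0), (0, 0), (0, 0), (1, 1), (0, 0), (0, 0), (0, 0), (0, 0), (0, 0), (1, 1), (0, 0),
    (0, 0), (0, 0), (0, 0), (0, 0), (1, 3), (0, 0), (0, 0), (0, 0), (0, 0), (0, 0), (1, 1), (0, 0), (0,
    0), (1, 6), (0, 0), (0, 0), (0, 0), (0, 0), (0, 0), (1, 0), (0, 0), (0, 0), (0, 0), (0, 0), (0, 0),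
    (1, 3), (0, 0), (0, 0), (0, 0), (0, 0), (0, 0), (1, 1), (0, 0), (0, 0), (0, 0), (0, 0), (0, 0), (1,
    2), (0, 0), (0, 0), (0, 0), (0, 0), (0, 0), (1, 1), (0, 0), (0, 0), (1, 2), (0, 0), (0, 0), (0, 0),
    (0, 0), (0, 0), (1, 0), (0, 0), (0, 0), (0, 0), (0, 0), (0, 0), (1, 0), (0, 0), (0, 0), (0, 0), (0,
    0), (0, 0), (1, 2), (0, 0), (0, 0), (0, 0), (0, 0), (0, 0), (1, 1), (0, 0), (0, 0), (0, 0), (0, 0),
    (0, 0), (1, 1), (0, 0), (0, 0), (0, 0), (0, 0), (0, 0), (1, 1), (0, 0), (0, 0), (0, 0), (0, 0), (0,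
    0), (1, 0), (0, 0), (0, 0), (0, 0), (0, 0), (0, 0), (1, 0), (0, 0), (0, 0), (0, 0), (0, 0), (0, 0),
    (1, 11), (0, 0), (0, 0), (0, 0), (0, 0), (0, 0), (1, 2), (0, 0), (0, 0), (0, 0), (0, 0), (0, 0), (1,
    2), (0, 0), (0, 0), (0, 0), (0, 0), (0, 0), (1, 2), (0, 0), (0, 0), (0, 0), (0, 0), (0, 0), (1, 23),
    (0, 0), (0, 0), (0, 0), (0, 0), (0, 0), (1, 2), (0, 0), (0, 0), (0, 0), (0, 0), (0, 0), (1, 68), (0,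
    0), (0, 0), (1, 73), (0, 0), (0, 0), (0, 0), (0, 0), (0, 0), (1, 107), (0, 0), (0, 0), (0, 0), (0,
    0), (0, 0), (1, 2), (0, 0), (0, 0), (0, 0), (0, 0), (0, 0), (1, 123), (0, 0), (0, 0), (1, 211), (0,
    0), (0, 0), (0, 0), (0, 0), (0, 0), (1, 219), (0, 0), (0, 0)]

/-- the dodecads meeting the standard dodecad in 8 points -/
def clsF8 : List ℕ := dodecadLit.filter fun m => wt24 (m &&& dMask) = 8

set_option maxRecDepth 100000 in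
theorem clsF8_check :
    growK tabsF certF8 [7391670] (fun L => subCheck clsF8 L) = true := by
  decide +kernel

theorem transF8 : ∀ m ∈ clsF8, ∀ m' ∈ clsF8, ∃ g ∈ stabF D12, g • M m = M m' :=
  trans_of_cert' (stabF D12) tabsF htabsF 7391670 certF8 clsF8
    (fun m hm => dodecadLit_reprod m (List.mem_filter.mp hm).1) clsF8_check

end Cfsg.Agent.Lib.Helper9.M24W1
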