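import Cfsg.Agent.Lib.Helper9.M24W1
import Cfsg.Agent.Lib.Helper9.M24V2

set_option autoImplicit false

namespace Cfsg.Agent.Lib.Helper9.M24W2

open Cfsg Finset Cfsg.Agent.Lib.Helper9.Golay1 Cfsg.Agent.Lib.Helper9.GolayQR1
  Cfsg.Agent.Lib.Helper9.GolayQR4 Cfsg.Agent.Lib.Helper9.GolayQR5 Cfsg.Agent.Lib.Helper9.GolayQR8
  Cfsg.Agent.Lib.Helper9.M24T1 Cfsg.Agent.Lib.Helper9.M24T3 Cfsg.Agent.Lib.Helper9.M24T6
  Cfsg.Agent.Lib.Helper9.M24T8 Cfsg.Agent.Lib.Helper9.M24T9 Cfsg.Agent.Lib.Helper9.M24T10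
  Cfsg.Agent.Lib.Helper9.M24U1 Cfsg.Agent.Lib.Helper9.M24U2 Cfsg.Agent.Lib.Helper9.M24U3
  Cfsg.Agent.Lib.Helper9.M24U4 Cfsg.Agent.Lib.Helper9.M24U5 Cfsg.Agent.Lib.Helper9.M24U6
  Cfsg.Agent.Lib.Helper9.M24V2 Cfsg.Agent.Lib.Helper9.M24W1
open scoped Pointwise

theorem D12_eq : D12 = M dMask := rfl

/-- two distinct dodecads meet in 0, 4, 6 or 8 points -/
theorem dodecad_inter (d d' : Finset GolayPt) (hd : d ∈ dodecads) (hd' : d' ∈ dodecads)
    (hne : d' ≠ d) : (d ∩ d').card = 0 ∨ (d ∩ d').card = 4 ∨ (d ∩ d').card = 6 ∨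
      (d ∩ d').card = 8 := by
  obtain ⟨c, hc, hc12, rfl⟩ := dodecad_word d hd
  obtain ⟨c', hc', hc12', rfl⟩ := dodecad_word d' hd'
  have hadd := wt_add c c'
  have hw := weight_values (c + c') (golayCode.add_mem hc hc')
  have hnz : hammingNorm (c + c') ≠ 0 := by
    intro h0
    apply hne
    have : c + c' = 0 := hammingNorm_eq_zero.mp h0
    have : c' = c := by
      have h2 : c - c' = 0 := by rw [sub_eq_add']; exact this
      exact (sub_eq_zero.mp h2).symm
    rw [this]
  omega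

theorem len4 : clsF4.length = 495 := by decide +kernel
theorem len6 : clsF6.length = 1584 := by decide +kernel
theorem len8 : clsF8.length = 495 := by decide +kernel

theorem count_std (k : ℕ) :
    {d' : Finset GolayPt | d' ∈ dodecads ∧ (D12 ∩ d').card = k}.ncard
      = (dodecadLit.filter fun m => decide (wt24 (m &&& dMask) = k)).length := by
  apply ncard_class dodecadLit dodecadLit_nodup dodecadLit_lt dodecads mem_dodecads_iff'
  intro m _
  rw [D12_eq, card_inter_M]
  simp

/-- transport of intersection counts along an element of `M24` -/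
theorem count_transport (g : Equiv.Perm GolayPt) (hg : g ∈ M24) (a : Finset GolayPt) (k : ℕ) :
    {d' : Finset GolayPt | d' ∈ dodecads ∧ (g • a ∩ d').card = k}.ncard
      = {d' : Finset GolayPt | d' ∈ dodecads ∧ (a ∩ d').card = k}.ncard := by
  have : {d' : Finset GolayPt | d' ∈ dodecads ∧ (g • a ∩ d').card = k}
      = (fun s : Finset GolayPt => g • s) ''
        {d' : Finset GolayPt | d' ∈ dodecads ∧ (a ∩ d').card = k} := by
    ext s
    constructor
    · rintro ⟨hs, hk⟩
      refine ⟨g⁻¹ • s, ⟨smul_dodecad_mem _ (M24.inv_mem hg) s hs, ?_⟩, smul_inv_smul g s⟩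
      have := M24V2.card_smul_inter g⁻¹ (g • a) s
      rw [inv_smul_smul] at this
      rw [this, hk]
    · rintro ⟨s', ⟨hs', hk⟩, rfl⟩
      exact ⟨smul_dodecad_mem g hg s' hs', by
        change (g • a ∩ g • s').card = k
        rw [M24V2.card_smul_inter, hk]⟩
  rw [this, Set.ncard_image_of_injective _ (MulAction.injective g)]

theorem dodecad_meet_counts (d : Finset GolayPt) (hd : d ∈ dodecads) :
    {d' : Finset GolayPt | d' ∈ dodecads ∧ (d ∩ d').card = 4}.ncard = 495 ∧
    {d' : Finset GolayPt | d' ∈ dodecads ∧ (d ∩ d').card = 6}.ncard = 1584 ∧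
    {d' : Finset GolayPt | d' ∈ dodecads ∧ (d ∩ d').card = 8}.ncard = 495 := by
  obtain ⟨g, hg, rfl⟩ := exists_smul_D12 d hd
  rw [count_transport g hg, count_transport g hg, count_transport g hg, count_std, count_std,
    count_std]
  exact ⟨len4, len6, len8⟩

/-- the stabilizer of the standard dodecad is transitive on the dodecads meeting it in a given
number of points -/
theorem std_dodecad_orbits (p p' : Finset GolayPt) (hp : p ∈ dodecads) (hp' : p' ∈ dodecads)
    (h : (D12 ∩ p).card = (D12 ∩ p').card) : ∃ g ∈ stabF D12, g • p = p' := by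
  have h12 : D12.card = 12 := D12_mem.2
  have hp12 : p.card = 12 := hp.2
  have hp12' : p'.card = 12 := hp'.2
  have full : ∀ q : Finset GolayPt, q.card = 12 → (D12 ∩ q).card = 12 → q = D12 := by
    intro q hq hk
    have h1 : D12 ∩ q = D12 := eq_of_subset_of_card_le inter_subset_left (by omega)
    have h2 : D12 ∩ q = q := eq_of_subset_of_card_le inter_subset_right (by omega)
    rw [← h2, h1]
  have empty : ∀ q : Finset GolayPt, q.card = 12 → (D12 ∩ q).card = 0 → q = D12ᶜ := by
    intro q hq hk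
    apply eq_of_subset_of_card_le
    · intro x hx
      rw [mem_compl]
      intro hxD
      have : x ∈ D12 ∩ q := mem_inter.mpr ⟨hxD, hx⟩
      rw [card_eq_zero.mp hk] at this
      exact notMem_empty x this
    · rw [card_compl, card_golayPt, h12, hq]
  by_cases hpD : p = D12
  · refine ⟨1, (stabF D12).one_mem, ?_⟩
    rw [one_smul, hpD]
    rw [hpD, inter_self, h12] at h
    exact (full p' hp12' h.symm).symm
  · have hp'D : p' ≠ D12 := by
      rintro rfl
      rw [inter_self, h12] at h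
      exact hpD (full p hp12 h)
    rcases dodecad_inter D12 p D12_mem hp hpD with hk | hk | hk | hk
    · refine ⟨1, (stabF D12).one_mem, ?_⟩
      rw [one_smul, empty p hp12 hk, empty p' hp12' (by rw [← h, hk])]
    all_goals
      obtain ⟨m, hm, rfl⟩ := (mem_dodecads_iff' p).mp hp
      obtain ⟨m', hm', rfl⟩ := (mem_dodecads_iff' p').mp hp'
      rw [D12_eq, card_inter_M, card_inter_M] at h
      rw [D12_eq, card_inter_M] at hk
    · exact transF4 m (List.mem_filter.mpr ⟨hm, by simpa using hk⟩) m'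
        (List.mem_filter.mpr ⟨hm', by rw [← h]; simpa using hk⟩)
    · exact transF6 m (List.mem_filter.mpr ⟨hm, by simpa using hk⟩) m'
        (List.mem_filter.mpr ⟨hm', by rw [← h]; simpa using hk⟩)
    · exact transF8 m (List.mem_filter.mpr ⟨hm, by simpa using hk⟩) m'
        (List.mem_filter.mpr ⟨hm', by rw [← h]; simpa using hk⟩)

theorem dodecad_orbits (d d' d'' : Finset GolayPt) (hd : d ∈ dodecads) (hd' : d' ∈ dodecads)
    (hd'' : d'' ∈ dodecads) (h : (d ∩ d').card = (d ∩ d'').card) :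
    ∃ g : Equiv.Perm GolayPt, g ∈ M24 ∧ g • d = d ∧ g • d' = d'' := by
  obtain ⟨t, ht, rfl⟩ := exists_smul_D12 d hd
  have htinv : t⁻¹ ∈ M24 := M24.inv_mem ht
  have e1 : (D12 ∩ t⁻¹ • d').card = (D12 ∩ t⁻¹ • d'').card := by
    have a1 := M24V2.card_smul_inter t⁻¹ (t • D12) d'
    have a2 := M24V2.card_smul_inter t⁻¹ (t • D12) d''
    rw [inv_smul_smul] at a1 a2
    rw [a1, a2, h]
  obtain ⟨g, hg, hgp⟩ := std_dodecad_orbits _ _ (smul_dodecad_mem _ htinv _ hd')
    (smul_dodecad_mem _ htinv _ hd'') e1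
  rw [mem_stabF] at hg
  refine ⟨t * g * t⁻¹, M24.mul_mem (M24.mul_mem ht hg.1) htinv, ?_, ?_⟩
  · rw [mul_smul, mul_smul, inv_smul_smul, hg.2]
  · rw [mul_smul, mul_smul, hgp, smul_inv_smul]

end Cfsg.Agent.Lib.Helper9.M24W2
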