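import Cfsg.Agent.Lib.Helper9.M24X1

set_option autoImplicit false

namespace Cfsg.Agent.Lib.Helper9.M24X2

open Cfsg Finset Cfsg.Agent.Lib.Helper9.Golay1 Cfsg.Agent.Lib.Helper9.GolayQR1
  Cfsg.Agent.Lib.Helper9.M24T1 Cfsg.Agent.Lib.Helper9.M24T3 Cfsg.Agent.Lib.Helper9.M24T8
  Cfsg.Agent.Lib.Helper9.M24T9
  Cfsg.Agent.Lib.Helper9.M24U1 Cfsg.Agent.Lib.Helper9.M24U2 Cfsg.Agent.Lib.Helper9.M24U3
  Cfsg.Agent.Lib.Helper9.M24U4 Cfsg.Agent.Lib.Helper9.M24U6 Cfsg.Agent.Lib.Helper9.M24X1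
open scoped Pointwise

/-- generator `B1` -/
def B1 : Equiv.Perm GolayPt :=
  tperm [2, 1, 14, 5, 18, 0, 9, 11, 8, 22, 6, 13, 21, 16, 3, 12, 19, 17, 15, 7, 10, 4, 20, 23]
    [5, 1, 0, 14, 21, 3, 10, 19, 8, 6, 20, 7, 15, 11, 2, 18, 13, 17, 4, 16, 22, 12, 9, 23] (by decide +kernel) (by decide +kernel)

theorem B1_mem : B1 ∈ M24 := tperm_mem _ _ _ _ (by decide +kernel) (by decide +kernel)

theorem B1_smul (m : ℕ) : B1 • M m = M (pull [5, 1, 0, 14, 21, 3, 10, 19, 8, 6, 20, 7, 15, 11, 2, 18, 13, 17, 4, 16, 22, 12, 9, 23] m) :=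
  tperm_smul_M _ _ _ _ (by decide +kernel) m

theorem B1_stab : B1 ∈ stabC [23] [oMask] := by
  exact tperm_mem_stabC _ _ _ _ (by decide +kernel) (by decide +kernel) (by decide +kernel)
    [23] [oMask] (by decide +kernel) (by decide +kernel)

/-- generator `B2` -/
def B2 : Equiv.Perm GolayPt :=
  tperm [2, 0, 17, 1, 9, 5, 4, 7, 22, 21, 13, 15, 8, 16, 14, 12, 19, 3, 6, 20, 10, 18, 11, 23]
    [1, 3, 0, 17, 6, 5, 18, 7, 12, 4, 20, 22, 15, 10, 14, 11, 13, 2, 21, 16, 19, 9, 8, 23] (by decide +kernel) (by decide +kernel)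

theorem B2_mem : B2 ∈ M24 := tperm_mem _ _ _ _ (by decide +kernel) (by decide +kernel)

theorem B2_smul (m : ℕ) : B2 • M m = M (pull [1, 3, 0, 17, 6, 5, 18, 7, 12, 4, 20, 22, 15, 10, 14, 11, 13, 2, 21, 16, 19, 9, 8, 23] m) :=
  tperm_smul_M _ _ _ _ (by decide +kernel) m

theorem B2_stab : B2 ∈ stabC [23] [oMask] := by
  exact tperm_mem_stabC _ _ _ _ (by decide +kernel) (by decide +kernel) (by decide +kernel)
    [23] [oMask] (by decide +kernel) (by decide +kernel)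

/-- the inverse tables of the generators -/
def tabsB : List (List ℕ) :=
  [[5, 1, 0, 14, 21, 3, 10, 19, 8, 6, 20, 7, 15, 11, 2, 18, 13, 17, 4, 16, 22, 12, 9, 23],
    [1, 3, 0, 17, 6, 5, 18, 7, 12, 4, 20, 22, 15, 10, 14, 11, 13, 2, 21, 16, 19, 9, 8, 23]]

theorem htabsB : ∀ t ∈ tabsB, ∃ h ∈ stabC [23] [oMask], ∀ m, h • M m = M (pull t m) := by
  intro t ht
  simp only [tabsB, List.mem_cons, List.not_mem_nil, or_false] at ht
  rcases ht with rfl | rfl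
  · exact ⟨B1, B1_stab, B1_smul⟩
  · exact ⟨B2, B2_stab, B2_smul⟩

set_option maxRecDepth 100000 in
/-- orbit certificate: the octads through the point at infinity meeting the standard octad in 2 points -/
def certB2 : List (ℕ × ℕ) :=
  [(0, 0), (0, 0), (0, 0), (0, 0), (1, 0), (0, 0), (0, 0), (0, 0), (0, 0), (1, 0), (0, 0), (0, 0), (0,
    0), (0, 0), (1, 1), (0, 0), (0, 0), (0, 0), (0, 0), (1, 0), (0, 0), (0, 0), (0, 0), (0, 0), (1, 1),
    (0, 0), (0, 0), (0, 0), (0, 0), (1, 0), (0, 0), (0, 0), (0, 0), (0, 0), (1, 2), (0, 0), (0, 0), (0,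
    0), (0, 0), (1, 1), (0, 0), (0, 0), (0, 0), (0, 0), (1, 0), (0, 0), (0, 0), (0, 0), (0, 0), (1, 1),
    (1, 3), (0, 0), (0, 0), (0, 0), (0, 0), (1, 0), (0, 0), (0, 0), (0, 0), (0, 0), (1, 2), (0, 0), (0,
    0), (0, 0), (0, 0), (1, 1), (0, 0), (0, 0), (0, 0), (0, 0), (1, 1), (0, 0), (0, 0), (0, 0), (0, 0),
    (1, 0), (0, 0), (0, 0), (0, 0), (0, 0), (1, 1), (0, 0), (0, 0), (0, 0), (0, 0), (1, 0), (0, 0), (0,
    0), (0, 0), (0, 0), (1, 1), (0, 0), (0, 0), (0, 0), (0, 0), (1, 0), (0, 0), (0, 0), (0, 0), (0, 0),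
    (1, 1), (0, 0), (0, 0), (0, 0), (0, 0), (1, 49), (0, 0), (0, 0), (0, 0), (0, 0), (1, 74)]

/-- the octads through the point at infinity meeting the standard octad in 2 points -/
def clsB2 : List ℕ := octadLit.filter fun m => m.testBit 23 && decide (wt24 (m &&& oMask) = 2)

set_option maxRecDepth 100000 in
theorem clsB2_check :
    growK tabsB certB2 [11669008] (fun L => subCheck clsB2 L) = true := by
  decide +kernel

theorem transB2 : ∀ m ∈ clsB2, ∀ m' ∈ clsB2, ∃ g ∈ stabC [23] [oMask], g • M m = M m' :=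
  trans_of_cert' (stabC [23] [oMask]) tabsB htabsB 11669008 certB2 clsB2
    (fun m hm => octadLit_reprod m (List.mem_filter.mp hm).1) clsB2_check

set_option maxRecDepth 100000 in
/-- orbit certificate: the octads through the point at infinity meeting the standard octad in 4 points -/
def certB4 : List (ℕ × ℕ) :=
  [(0, 0), (0, 0), (0, 0), (0, 0), (1, 0), (0, 0), (0, 0), (0, 0), (0, 0), (1, 0), (0, 0), (0, 0), (0,
    0), (0, 0), (1, 1), (0, 0), (0, 0), (0, 0), (0, 0), (1, 0), (0, 0), (0, 0), (0, 0), (0, 0), (1, 1),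
    (0, 0), (0, 0), (0, 0), (0, 0), (1, 0), (0, 0), (0, 0), (0, 0), (0, 0), (1, 3), (0, 0), (0, 0), (0,
    0), (0, 0), (1, 0), (0, 0), (0, 0), (0, 0), (0, 0), (1, 1), (0, 0), (0, 0), (0, 0), (0, 0), (1, 2),
    (0, 0), (0, 0), (0, 0), (0, 0), (1, 0), (0, 0), (0, 0), (0, 0), (0, 0), (1, 1), (0, 0), (0, 0), (0,
    0), (0, 0), (1, 0), (0, 0), (0, 0), (0, 0), (0, 0), (1, 1), (0, 0), (0, 0), (0, 0), (0, 0), (1, 1),
    (0, 0), (0, 0), (0, 0), (0, 0), (1, 0), (0, 0), (0, 0), (0, 0), (0, 0), (1, 1), (0, 0), (0, 0), (0,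
    0), (0, 0), (1, 0), (0, 0), (0, 0), (0, 0), (0, 0), (1, 2), (0, 0), (0, 0), (0, 0), (0, 0), (1, 1),
    (0, 0), (0, 0), (0, 0), (0, 0), (1, 0), (0, 0), (0, 0), (0, 0), (0, 0), (1, 8), (0, 0), (0, 0), (0,
    0), (0, 0), (1, 4), (0, 0), (0, 0), (0, 0), (0, 0), (1, 0), (0, 0), (0, 0), (0, 0), (0, 0), (1, 24),
    (0, 0), (0, 0), (0, 0), (0, 0), (1, 42), (0, 0), (0, 0), (0, 0), (0, 0), (1, 4), (0, 0), (0, 0), (0,
    0), (0, 0)]

/-- the octads through the point at infinity meeting the standard octad in 4 points -/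
def clsB4 : List ℕ := octadLit.filter fun m => m.testBit 23 && decide (wt24 (m &&& oMask) = 4)

set_option maxRecDepth 100000 in
theorem clsB4_check :
    growK tabsB certB4 [8391797] (fun L => subCheck clsB4 L) = true := by
  decide +kernel

theorem transB4 : ∀ m ∈ clsB4, ∀ m' ∈ clsB4, ∃ g ∈ stabC [23] [oMask], g • M m = M m' :=
  trans_of_cert' (stabC [23] [oMask]) tabsB htabsB 8391797 certB4 clsB4
    (fun m hm => octadLit_reprod m (List.mem_filter.mp hm).1) clsB4_check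

end Cfsg.Agent.Lib.Helper9.M24X2
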