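import Cfsg.Agent.Lib.Helper9.M24X1

set_option autoImplicit false

namespace Cfsg.Agent.Lib.Helper9.M24X5

open Cfsg Finset Cfsg.Agent.Lib.Helper9.Golay1 Cfsg.Agent.Lib.Helper9.GolayQR1
  Cfsg.Agent.Lib.Helper9.M24T1 Cfsg.Agent.Lib.Helper9.M24T3 Cfsg.Agent.Lib.Helper9.M24T8
  Cfsg.Agent.Lib.Helper9.M24T9
  Cfsg.Agent.Lib.Helper9.M24U1 Cfsg.Agent.Lib.Helper9.M24U2 Cfsg.Agent.Lib.Helper9.M24U3
  Cfsg.Agent.Lib.Helper9.M24U4 Cfsg.Agent.Lib.Helper9.M24U6 Cfsg.Agent.Lib.Helper9.M24X1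
open scoped Pointwise

/-- generator `G1` -/
def G1 : Equiv.Perm GolayPt :=
  tperm [11, 18, 22, 5, 1, 21, 6, 7, 15, 19, 8, 4, 9, 13, 12, 20, 14, 10, 0, 16, 17, 2, 3, 23]
    [18, 4, 21, 22, 11, 3, 6, 7, 10, 12, 17, 0, 14, 13, 16, 8, 19, 20, 1, 9, 15, 5, 2, 23] (by decide +kernel) (by decide +kernel)

theorem G1_mem : G1 ∈ M24 := tperm_mem _ _ _ _ (by decide +kernel) (by decide +kernel)

theorem G1_smul (m : ℕ) : G1 • M m = M (pull [18, 4, 21, 22, 11, 3, 6, 7, 10, 12, 17, 0, 14, 13, 16, 8, 19, 20, 1, 9, 15, 5, 2, 23] m) :=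
  tperm_smul_M _ _ _ _ (by decide +kernel) m

theorem G1_stab : G1 ∈ stabC [23] [dMask] := by
  exact tperm_mem_stabC _ _ _ _ (by decide +kernel) (by decide +kernel) (by decide +kernel)
    [23] [dMask] (by decide +kernel) (by decide +kernel)

/-- generator `G2` -/
def G2 : Equiv.Perm GolayPt :=
  tperm [7, 11, 1, 22, 5, 0, 15, 18, 14, 16, 8, 4, 9, 12, 17, 19, 6, 10, 2, 20, 13, 21, 3, 23]
    [5, 2, 18, 22, 11, 4, 16, 0, 10, 12, 17, 1, 13, 20, 8, 6, 9, 14, 7, 15, 19, 21, 3, 23] (by decide +kernel) (by decide +kernel)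

theorem G2_mem : G2 ∈ M24 := tperm_mem _ _ _ _ (by decide +kernel) (by decide +kernel)

theorem G2_smul (m : ℕ) : G2 • M m = M (pull [5, 2, 18, 22, 11, 4, 16, 0, 10, 12, 17, 1, 13, 20, 8, 6, 9, 14, 7, 15, 19, 21, 3, 23] m) :=
  tperm_smul_M _ _ _ _ (by decide +kernel) m

theorem G2_stab : G2 ∈ stabC [23] [dMask] := by
  exact tperm_mem_stabC _ _ _ _ (by decide +kernel) (by decide +kernel) (by decide +kernel)
    [23] [dMask] (by decide +kernel) (by decide +kernel)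

/-- the inverse tables of the generators -/
def tabsG : List (List ℕ) :=
  [[18, 4, 21, 22, 11, 3, 6, 7, 10, 12, 17, 0, 14, 13, 16, 8, 19, 20, 1, 9, 15, 5, 2, 23],
    [5, 2, 18, 22, 11, 4, 16, 0, 10, 12, 17, 1, 13, 20, 8, 6, 9, 14, 7, 15, 19, 21, 3, 23]]

theorem htabsG : ∀ t ∈ tabsG, ∃ h ∈ stabC [23] [dMask], ∀ m, h • M m = M (pull t m) := by
  intro t ht
  simp only [tabsG, List.mem_cons, List.not_mem_nil, or_false] at ht
  rcases ht with rfl | rfl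
  · exact ⟨G1, G1_stab, G1_smul⟩
  · exact ⟨G2, G2_stab, G2_smul⟩

set_option maxRecDepth 100000 in
/-- orbit certificate: the dodecads through the point at infinity meeting the standard dodecad in 4 points -/
def certG4 : List (ℕ × ℕ) :=
  [(0, 0), (0, 0), (0, 0), (0, 0), (1, 0), (0, 0), (0, 0), (0, 0), (0, 0), (1, 0), (0, 0), (0, 0), (0,
    0), (0, 0), (1, 1), (0, 0), (0, 0), (0, 0), (0, 0), (1, 0), (0, 0), (0, 0), (0, 0), (0, 0), (1, 1),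
    (0, 0), (0, 0), (0, 0), (0, 0), (1, 0), (0, 0), (0, 0), (0, 0), (0, 0), (1, 1), (0, 0), (0, 0), (0,
    0), (0, 0), (1, 0), (0, 0), (0, 0), (0, 0), (0, 0), (1, 1), (0, 0), (0, 0), (0, 0), (0, 0), (1, 0),
    (0, 0), (0, 0), (0, 0), (0, 0), (1, 3), (0, 0), (0, 0), (0, 0), (0, 0), (1, 0), (0, 0), (0, 0), (0,
    0), (0, 0), (1, 1), (0, 0), (0, 0), (0, 0), (0, 0), (1, 0), (0, 0), (0, 0), (0, 0), (0, 0), (1, 2),
    (0, 0), (0, 0), (0, 0), (0, 0), (1, 2), (0, 0), (0, 0), (0, 0), (0, 0), (1, 2), (0, 0), (0, 0), (0,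
    0), (0, 0), (1, 0), (0, 0), (0, 0), (0, 0), (0, 0), (1, 1), (0, 0), (0, 0), (0, 0), (0, 0), (1, 0),
    (0, 0), (0, 0), (0, 0), (0, 0), (1, 1), (0, 0), (0, 0), (0, 0), (0, 0), (1, 7), (0, 0), (0, 0), (0,
    0), (0, 0), (1, 4), (0, 0), (0, 0), (0, 0), (0, 0), (1, 2), (0, 0), (0, 0), (0, 0), (0, 0), (1, 3),
    (0, 0), (0, 0), (0, 0), (0, 0), (1, 0), (0, 0), (0, 0), (0, 0), (0, 0), (1, 2), (0, 0), (0, 0), (0,
    0), (0, 0), (1, 1), (0, 0), (0, 0), (0, 0), (0, 0), (1, 17), (0, 0), (0, 0), (0, 0), (0, 0), (1,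
    29), (0, 0), (0, 0), (0, 0), (0, 0), (1, 109), (0, 0), (0, 0), (0, 0), (0, 0), (1, 2), (0, 0), (0,
    0), (0, 0), (0, 0)]

/-- the dodecads through the point at infinity meeting the standard dodecad in 4 points -/
def clsG4 : List ℕ := dodecadLit.filter fun m => m.testBit 23 && decide (wt24 (m &&& dMask) = 4)

set_option maxRecDepth 100000 in
theorem clsG4_check :
    growK tabsG certG4 [9564758] (fun L => subCheck clsG4 L) = true := by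
  decide +kernel

theorem transG4 : ∀ m ∈ clsG4, ∀ m' ∈ clsG4, ∃ g ∈ stabC [23] [dMask], g • M m = M m' :=
  trans_of_cert' (stabC [23] [dMask]) tabsG htabsG 9564758 certG4 clsG4
    (fun m hm => dodecadLit_reprod m (List.mem_filter.mp hm).1) clsG4_check

set_option maxRecDepth 100000 in
/-- orbit certificate: the dodecads through the point at infinity meeting the standard dodecad in 6 points -/
def certG6 : List (ℕ × ℕ) :=
  [(0, 0), (0, 0), (0, 0), (0, 0), (1, 0), (0, 0), (0, 0), (0, 0), (0, 0), (1, 0), (0, 0), (0, 0), (0,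
    0), (0, 0), (1, 1), (0, 0), (0, 0), (0, 0), (0, 0), (1, 0), (0, 0), (0, 0), (0, 0), (0, 0), (1, 1),
    (0, 0), (0, 0), (0, 0), (0, 0), (1, 0), (0, 0), (0, 0), (0, 0), (0, 0), (1, 1), (0, 0), (0, 0), (0,
    0), (0, 0), (1, 0), (0, 0), (0, 0), (0, 0), (0, 0), (1, 1), (0, 0), (0, 0), (0, 0), (0, 0), (1, 0),
    (0, 0), (0, 0), (0, 0), (0, 0), (1, 1), (0, 0), (0, 0), (0, 0), (0, 0), (1, 0), (0, 0), (0, 0), (0,
    0), (0, 0), (1, 1), (0, 0), (0, 0), (0, 0), (0, 0), (1, 0), (0, 0), (0, 0), (0, 0), (0, 0), (1, 1),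
    (0, 0), (0, 0), (0, 0), (0, 0), (1, 1), (0, 0), (0, 0), (0, 0), (0, 0), (1, 0), (0, 0), (0, 0), (0,
    0), (0, 0), (1, 1), (0, 0), (0, 0), (0, 0), (0, 0), (1, 0), (0, 0), (0, 0), (0, 0), (0, 0), (1, 1),
    (0, 0), (0, 0), (0, 0), (0, 0), (1, 1), (0, 0), (0, 0), (0, 0), (0, 0), (1, 0), (0, 0), (0, 0), (0,
    0), (0, 0), (1, 1), (0, 0), (0, 0), (0, 0), (0, 0), (1, 0), (0, 0), (0, 0), (0, 0), (0, 0), (1, 2),
    (0, 0), (0, 0), (0, 0), (0, 0), (1, 0), (0, 0), (0, 0), (0, 0), (0, 0), (1, 1), (0, 0), (0, 0), (0,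
    0), (0, 0), (1, 0), (0, 0), (0, 0), (0, 0), (0, 0), (1, 1), (0, 0), (0, 0), (0, 0), (0, 0), (1, 0),
    (0, 0), (0, 0), (0, 0), (0, 0), (1, 1), (0, 0), (0, 0), (0, 0), (0, 0), (1, 0), (0, 0), (0, 0), (0,
    0), (0, 0), (1, 2), (0, 0), (0, 0), (0, 0), (0, 0), (1, 1), (0, 0), (0, 0), (0, 0), (0, 0), (1, 0),
    (0, 0), (0, 0), (0, 0), (0, 0), (1, 1), (0, 0), (0, 0), (0, 0), (0, 0), (1, 2), (0, 0), (0, 0), (0,
    0), (0, 0), (1, 1), (0, 0), (0, 0), (0, 0), (0, 0), (1, 0), (0, 0), (0, 0), (0, 0), (0, 0), (1, 1),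
    (0, 0), (0, 0), (0, 0), (0, 0), (1, 0), (0, 0), (0, 0), (0, 0), (0, 0), (1, 1), (0, 0), (0, 0), (0,
    0), (0, 0), (1, 0), (0, 0), (0, 0), (0, 0), (0, 0), (1, 1), (0, 0), (0, 0), (0, 0), (0, 0), (1, 0),
    (0, 0), (0, 0), (0, 0), (0, 0), (1, 2), (0, 0), (0, 0), (0, 0), (0, 0), (1, 0), (0, 0), (0, 0), (0,
    0), (0, 0), (1, 1), (0, 0), (0, 0), (0, 0), (0, 0), (1, 0), (0, 0), (0, 0), (0, 0), (0, 0), (1, 1),
    (0, 0), (0, 0), (0, 0), (0, 0), (1, 0), (0, 0), (0, 0), (0, 0), (0, 0), (1, 1), (0, 0), (0, 0), (0,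
    0), (0, 0), (1, 1), (0, 0), (0, 0), (0, 0), (0, 0), (1, 0), (0, 0), (0, 0), (0, 0), (0, 0), (1, 1),
    (0, 0), (0, 0), (0, 0), (0, 0), (1, 1), (0, 0), (0, 0), (0, 0), (0, 0), (1, 1), (0, 0), (0, 0), (0,
    0), (0, 0), (1, 0), (0, 0), (0, 0), (0, 0), (0, 0), (1, 3), (0, 0), (0, 0), (0, 0), (0, 0), (1, 0),
    (0, 0), (0, 0), (0, 0), (0, 0), (1, 3), (0, 0), (0, 0), (0, 0), (0, 0), (1, 1), (0, 0), (0, 0), (0,
    0), (0, 0), (1, 1), (0, 0), (0, 0), (0, 0), (0, 0), (1, 1), (0, 0), (0, 0), (0, 0), (0, 0), (1, 0),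
    (0, 0), (0, 0), (0, 0), (0, 0), (1, 1), (0, 0), (0, 0), (0, 0), (0, 0), (1, 0), (0, 0), (0, 0), (0,
    0), (0, 0), (1, 1), (0, 0), (0, 0), (0, 0), (0, 0), (1, 0), (0, 0), (0, 0), (0, 0), (0, 0), (1, 1),
    (0, 0), (0, 0), (0, 0), (0, 0), (1, 0), (0, 0), (0, 0), (0, 0), (0, 0), (1, 1), (0, 0), (0, 0), (0,
    0), (0, 0), (1, 0), (0, 0), (0, 0), (0, 0), (0, 0), (1, 1), (0, 0), (0, 0), (0, 0), (0, 0), (1, 1),
    (0, 0), (0, 0), (0, 0), (0, 0), (1, 1), (0, 0), (0, 0), (0, 0), (0, 0), (1, 2), (0, 0), (0, 0), (0,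
    0), (0, 0), (1, 0), (0, 0), (0, 0), (0, 0), (0, 0), (1, 1), (0, 0), (0, 0), (0, 0), (0, 0), (1, 0),
    (0, 0), (0, 0), (0, 0), (0, 0), (1, 1), (0, 0), (0, 0), (0, 0), (0, 0), (1, 2), (0, 0), (0, 0), (0,
    0), (0, 0), (1, 0), (0, 0), (0, 0), (0, 0), (0, 0), (1, 1), (0, 0), (0, 0), (0, 0), (0, 0), (1, 1),
    (0, 0), (0, 0), (0, 0), (0, 0), (1, 1), (0, 0), (0, 0), (0, 0), (0, 0), (1, 0), (0, 0), (0, 0), (0,
    0), (0, 0), (1, 3), (0, 0), (0, 0), (0, 0), (0, 0), (1, 1), (0, 0), (0, 0), (0, 0), (0, 0), (1, 0),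
    (0, 0), (0, 0), (0, 0), (0, 0), (1, 3), (0, 0), (0, 0), (0, 0), (0, 0), (1, 0), (0, 0), (0, 0), (0,
    0), (0, 0), (1, 1), (0, 0), (0, 0), (0, 0), (0, 0), (1, 0), (0, 0), (0, 0), (0, 0), (0, 0), (1, 3),
    (0, 0), (0, 0), (0, 0), (0, 0), (1, 0), (0, 0), (0, 0), (0, 0), (0, 0), (1, 2), (0, 0), (0, 0), (0,
    0), (0, 0), (1, 0), (0, 0), (0, 0), (0, 0), (0, 0), (1, 2), (0, 0), (0, 0), (0, 0), (0, 0), (1, 0),
    (0, 0), (0, 0), (0, 0), (0, 0), (1, 2), (0, 0), (0, 0), (0, 0), (0, 0), (1, 2), (0, 0), (0, 0), (0,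
    0), (0, 0), (1, 0), (0, 0), (0, 0), (0, 0), (0, 0), (1, 1), (0, 0), (0, 0), (0, 0), (0, 0), (1, 2),
    (0, 0), (0, 0), (0, 0), (0, 0), (1, 0), (0, 0), (0, 0), (0, 0), (0, 0), (1, 1), (0, 0), (0, 0), (0,
    0), (0, 0), (1, 0), (0, 0), (0, 0), (0, 0), (0, 0), (1, 3), (0, 0), (0, 0), (0, 0), (0, 0), (1, 0),
    (0, 0), (0, 0), (0, 0), (0, 0), (1, 2), (0, 0), (0, 0), (0, 0), (0, 0), (1, 2), (0, 0), (0, 0), (0,
    0), (0, 0), (1, 0), (0, 0), (0, 0), (0, 0), (0, 0), (1, 1), (0, 0), (0, 0), (0, 0), (0, 0), (1, 0),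
    (0, 0), (0, 0), (0, 0), (0, 0), (1, 6), (0, 0), (0, 0), (0, 0), (0, 0), (1, 12), (0, 0), (0, 0), (0,
    0), (0, 0), (1, 1), (0, 0), (0, 0), (0, 0), (0, 0), (1, 2), (0, 0), (0, 0), (0, 0), (0, 0), (1, 1),
    (0, 0), (0, 0), (0, 0), (0, 0), (1, 4), (0, 0), (0, 0), (0, 0), (0, 0), (1, 0), (0, 0), (0, 0), (0,
    0), (0, 0), (1, 1), (0, 0), (0, 0), (0, 0), (0, 0), (1, 0), (0, 0), (0, 0), (0, 0), (0, 0), (1, 7),
    (0, 0), (0, 0), (0, 0), (0, 0), (1, 2), (0, 0), (0, 0), (0, 0), (0, 0), (1, 0), (0, 0), (0, 0), (0,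
    0), (0, 0), (1, 1), (0, 0), (0, 0), (0, 0), (0, 0), (1, 0), (0, 0), (0, 0), (0, 0), (0, 0), (1, 4),
    (0, 0), (0, 0), (0, 0), (0, 0), (1, 1), (0, 0), (0, 0), (0, 0), (0, 0), (1, 0), (0, 0), (0, 0), (0,
    0), (0, 0), (1, 2), (0, 0), (0, 0), (0, 0), (0, 0), (1, 8), (0, 0), (0, 0), (0, 0), (0, 0), (1, 0),
    (0, 0), (0, 0), (0, 0), (0, 0), (1, 3), (0, 0), (0, 0), (0, 0), (0, 0), (1, 1), (0, 0), (0, 0), (0,
    0), (0, 0), (1, 0), (0, 0), (0, 0), (0, 0), (0, 0), (1, 1), (0, 0), (0, 0), (0, 0), (0, 0), (1, 0),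
    (0, 0), (0, 0), (0, 0), (0, 0), (1, 7), (0, 0), (0, 0), (0, 0), (0, 0), (1, 39), (0, 0), (0, 0), (0,
    0), (0, 0), (1, 2), (0, 0), (0, 0), (0, 0), (0, 0), (1, 9), (0, 0), (0, 0), (0, 0), (0, 0), (1, 74),
    (0, 0), (0, 0), (0, 0), (0, 0), (1, 0), (0, 0), (0, 0), (0, 0), (0, 0), (1, 101), (0, 0), (0, 0),
    (0, 0), (0, 0), (1, 0), (0, 0), (0, 0), (0, 0), (0, 0), (1, 119), (0, 0), (0, 0), (0, 0), (0, 0),
    (1, 138), (0, 0), (0, 0), (0, 0), (0, 0), (1, 4), (0, 0), (0, 0), (0, 0), (0, 0), (1, 209), (0, 0),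
    (0, 0), (0, 0), (0, 0), (1, 283), (0, 0), (0, 0), (0, 0), (0, 0), (1, 321), (0, 0), (0, 0), (0, 0),
    (0, 0), (1, 348), (0, 0), (0, 0), (0, 0), (0, 0), (1, 362), (0, 0), (0, 0), (0, 0), (0, 0), (1,
    393), (1, 418), (0, 0), (0, 0), (0, 0), (0, 0), (1, 769)]

/-- the dodecads through the point at infinity meeting the standard dodecad in 6 points -/
def clsG6 : List ℕ := dodecadLit.filter fun m => m.testBit 23 && decide (wt24 (m &&& dMask) = 6)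

set_option maxRecDepth 100000 in
theorem clsG6_check :
    growK tabsG certG6 [12765094] (fun L => subCheck clsG6 L) = true := by
  decide +kernel

theorem transG6 : ∀ m ∈ clsG6, ∀ m' ∈ clsG6, ∃ g ∈ stabC [23] [dMask], g • M m = M m' :=
  trans_of_cert' (stabC [23] [dMask]) tabsG htabsG 12765094 certG6 clsG6
    (fun m hm => dodecadLit_reprod m (List.mem_filter.mp hm).1) clsG6_check

set_option maxRecDepth 100000 in
/-- orbit certificate: the dodecads through the point at infinity meeting the standard dodecad in 8 points -/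
def certG8 : List (ℕ × ℕ) :=
  [(0, 0), (0, 0), (0, 0), (0, 0), (1, 0), (0, 0), (0, 0), (0, 0), (0, 0), (1, 0), (0, 0), (0, 0), (0,
    0), (0, 0), (1, 1), (0, 0), (0, 0), (0, 0), (0, 0), (1, 0), (0, 0), (0, 0), (0, 0), (0, 0), (1, 1),
    (0, 0), (0, 0), (0, 0), (0, 0), (1, 0), (0, 0), (0, 0), (0, 0), (0, 0), (1, 1), (0, 0), (0, 0), (0,
    0), (0, 0), (1, 2), (0, 0), (0, 0), (0, 0), (0, 0), (1, 0), (0, 0), (0, 0), (0, 0), (0, 0), (1, 1),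
    (0, 0), (0, 0), (0, 0), (0, 0), (1, 0), (0, 0), (0, 0), (0, 0), (0, 0), (1, 1), (0, 0), (0, 0), (0,
    0), (0, 0), (1, 0), (0, 0), (0, 0), (0, 0), (0, 0), (1, 1), (0, 0), (0, 0), (0, 0), (0, 0), (1, 0),
    (0, 0), (0, 0), (0, 0), (0, 0), (1, 2), (0, 0), (0, 0), (0, 0), (0, 0), (1, 0), (0, 0), (0, 0), (0,
    0), (0, 0), (1, 1), (0, 0), (0, 0), (0, 0), (0, 0), (1, 0), (0, 0), (0, 0), (0, 0), (0, 0), (1, 1),
    (0, 0), (0, 0), (0, 0), (0, 0), (1, 0), (0, 0), (0, 0), (0, 0), (0, 0), (1, 1), (0, 0), (0, 0), (0,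
    0), (0, 0), (1, 1), (0, 0), (0, 0), (0, 0), (0, 0), (1, 0), (0, 0), (0, 0), (0, 0), (0, 0), (1, 1),
    (0, 0), (0, 0), (0, 0), (0, 0), (1, 0), (0, 0), (0, 0), (0, 0), (0, 0), (1, 3), (0, 0), (0, 0), (0,
    0), (0, 0), (1, 0), (0, 0), (0, 0), (0, 0), (0, 0), (1, 3), (0, 0), (0, 0), (0, 0), (0, 0), (1, 1),
    (0, 0), (0, 0), (0, 0), (0, 0), (1, 1), (0, 0), (0, 0), (0, 0), (0, 0), (1, 0), (0, 0), (0, 0), (0,
    0), (0, 0), (1, 1), (0, 0), (0, 0), (0, 0), (0, 0), (1, 2), (0, 0), (0, 0), (0, 0), (0, 0), (1, 1),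
    (0, 0), (0, 0), (0, 0), (0, 0), (1, 0), (0, 0), (0, 0), (0, 0), (0, 0), (1, 1), (0, 0), (0, 0), (0,
    0), (0, 0), (1, 0), (0, 0), (0, 0), (0, 0), (0, 0), (1, 1), (0, 0), (0, 0), (0, 0), (0, 0), (1, 0),
    (0, 0), (0, 0), (0, 0), (0, 0), (1, 1), (0, 0), (0, 0), (0, 0), (0, 0), (1, 0), (0, 0), (0, 0), (0,
    0), (0, 0), (1, 1), (0, 0), (0, 0), (0, 0), (0, 0), (1, 1), (0, 0), (0, 0), (0, 0), (0, 0), (1, 0),
    (0, 0), (0, 0), (0, 0), (0, 0), (1, 1), (0, 0), (0, 0), (0, 0), (0, 0), (1, 0), (0, 0), (0, 0), (0,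
    0), (0, 0), (1, 1), (0, 0), (0, 0), (0, 0), (0, 0), (1, 4), (0, 0), (0, 0), (0, 0), (0, 0), (1, 2),
    (0, 0), (0, 0), (0, 0), (0, 0), (1, 0), (0, 0), (0, 0), (0, 0), (0, 0), (1, 2), (0, 0), (0, 0), (0,
    0), (0, 0), (1, 4), (0, 0), (0, 0), (0, 0), (0, 0), (1, 0), (0, 0), (0, 0), (0, 0), (0, 0), (1, 8),
    (0, 0), (0, 0), (0, 0), (0, 0), (1, 4), (0, 0), (0, 0), (0, 0), (0, 0), (1, 1), (0, 0), (0, 0), (0,
    0), (0, 0), (1, 1), (0, 0), (0, 0), (0, 0), (0, 0), (1, 1), (0, 0), (0, 0), (0, 0), (0, 0), (1, 0),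
    (0, 0), (0, 0), (0, 0), (0, 0), (1, 3), (0, 0), (0, 0), (0, 0), (0, 0), (1, 17), (0, 0), (0, 0), (0,
    0), (0, 0), (1, 28), (0, 0), (0, 0), (0, 0), (0, 0), (1, 83), (0, 0), (0, 0), (0, 0), (0, 0), (1,
    89), (0, 0), (0, 0), (0, 0), (0, 0)]

/-- the dodecads through the point at infinity meeting the standard dodecad in 8 points -/
def clsG8 : List ℕ := dodecadLit.filter fun m => m.testBit 23 && decide (wt24 (m &&& dMask) = 8)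

set_option maxRecDepth 100000 in
theorem clsG8_check :
    growK tabsG certG8 [12085422] (fun L => subCheck clsG8 L) = true := by
  decide +kernel

theorem transG8 : ∀ m ∈ clsG8, ∀ m' ∈ clsG8, ∃ g ∈ stabC [23] [dMask], g • M m = M m' :=
  trans_of_cert' (stabC [23] [dMask]) tabsG htabsG 12085422 certG8 clsG8
    (fun m hm => dodecadLit_reprod m (List.mem_filter.mp hm).1) clsG8_check

end Cfsg.Agent.Lib.Helper9.M24X5
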