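import Cfsg.Agent.Lib.Helper9.M24X1

set_option autoImplicit false

namespace Cfsg.Agent.Lib.Helper9.M24X7

open Cfsg Finset Cfsg.Agent.Lib.Helper9.Golay1 Cfsg.Agent.Lib.Helper9.GolayQR1
  Cfsg.Agent.Lib.Helper9.M24T1 Cfsg.Agent.Lib.Helper9.M24T3 Cfsg.Agent.Lib.Helper9.M24T8
  Cfsg.Agent.Lib.Helper9.M24T9
  Cfsg.Agent.Lib.Helper9.M24U1 Cfsg.Agent.Lib.Helper9.M24U2 Cfsg.Agent.Lib.Helper9.M24U3
  Cfsg.Agent.Lib.Helper9.M24U4 Cfsg.Agent.Lib.Helper9.M24U6 Cfsg.Agent.Lib.Helper9.M24X1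
open scoped Pointwise

/-- generator `H1` -/
def H1 : Equiv.Perm GolayPt :=
  tperm [14, 6, 11, 22, 4, 5, 21, 13, 19, 16, 15, 3, 2, 18, 9, 1, 20, 17, 8, 7, 0, 10, 12, 23]
    [20, 15, 12, 11, 4, 5, 1, 19, 18, 14, 21, 2, 22, 7, 0, 10, 9, 17, 13, 8, 16, 6, 3, 23] (by decide +kernel) (by decide +kernel)

theorem H1_mem : H1 ∈ M24 := tperm_mem _ _ _ _ (by decide +kernel) (by decide +kernel)

theorem H1_smul (m : ℕ) : H1 • M m = M (pull [20, 15, 12, 11, 4, 5, 1, 19, 18, 14, 21, 2, 22, 7, 0, 10, 9, 17, 13, 8, 16, 6, 3, 23] m) :=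
  tperm_smul_M _ _ _ _ (by decide +kernel) m

theorem H1_stab : H1 ∈ stabC [23, 4] [] := by
  exact tperm_mem_stabC _ _ _ _ (by decide +kernel) (by decide +kernel) (by decide +kernel)
    [23, 4] [] (by decide +kernel) (by decide +kernel)

/-- generator `H2` -/
def H2 : Equiv.Perm GolayPt :=
  tperm [11, 0, 5, 8, 4, 16, 1, 21, 12, 19, 18, 17, 20, 2, 22, 7, 10, 3, 15, 13, 14, 9, 6, 23]
    [1, 6, 13, 17, 4, 2, 22, 15, 3, 21, 16, 0, 8, 19, 20, 18, 5, 11, 10, 9, 12, 7, 14, 23] (by decide +kernel) (by decide +kernel)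

theorem H2_mem : H2 ∈ M24 := tperm_mem _ _ _ _ (by decide +kernel) (by decide +kernel)

theorem H2_smul (m : ℕ) : H2 • M m = M (pull [1, 6, 13, 17, 4, 2, 22, 15, 3, 21, 16, 0, 8, 19, 20, 18, 5, 11, 10, 9, 12, 7, 14, 23] m) :=
  tperm_smul_M _ _ _ _ (by decide +kernel) m

theorem H2_stab : H2 ∈ stabC [23, 4] [] := by
  exact tperm_mem_stabC _ _ _ _ (by decide +kernel) (by decide +kernel) (by decide +kernel)
    [23, 4] [] (by decide +kernel) (by decide +kernel)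

/-- the inverse tables of the generators -/
def tabsH : List (List ℕ) :=
  [[20, 15, 12, 11, 4, 5, 1, 19, 18, 14, 21, 2, 22, 7, 0, 10, 9, 17, 13, 8, 16, 6, 3, 23],
    [1, 6, 13, 17, 4, 2, 22, 15, 3, 21, 16, 0, 8, 19, 20, 18, 5, 11, 10, 9, 12, 7, 14, 23]]

theorem htabsH : ∀ t ∈ tabsH, ∃ h ∈ stabC [23, 4] [], ∀ m, h • M m = M (pull t m) := by
  intro t ht
  simp only [tabsH, List.mem_cons, List.not_mem_nil, or_false] at ht
  rcases ht with rfl | rfl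
  · exact ⟨H1, H1_stab, H1_smul⟩
  · exact ⟨H2, H2_stab, H2_smul⟩

set_option maxRecDepth 100000 in
/-- orbit certificate: the octads through the point at infinity avoiding the point 4 -/
def certHa : List (ℕ × ℕ) :=
  [(0, 0), (0, 0), (0, 0), (0, 0), (1, 0), (0, 0), (0, 0), (0, 0), (0, 0), (1, 0), (0, 0), (0, 0), (0,
    0), (0, 0), (1, 1), (0, 0), (0, 0), (0, 0), (0, 0), (1, 0), (0, 0), (0, 0), (0, 0), (0, 0), (1, 0),
    (0, 0), (0, 0), (0, 0), (0, 0), (1, 0), (0, 0), (0, 0), (0, 0), (0, 0), (1, 0), (0, 0), (0, 0), (0,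
    0), (0, 0), (1, 0), (0, 0), (0, 0), (0, 0), (0, 0), (1, 0), (0, 0), (0, 0), (0, 0), (0, 0), (1, 1),
    (0, 0), (0, 0), (0, 0), (0, 0), (1, 0), (0, 0), (0, 0), (0, 0), (0, 0), (1, 2), (0, 0), (0, 0), (0,
    0), (0, 0), (1, 0), (0, 0), (0, 0), (0, 0), (0, 0), (1, 0), (0, 0), (0, 0), (0, 0), (0, 0), (1, 0),
    (0, 0), (0, 0), (0, 0), (0, 0), (1, 0), (0, 0), (0, 0), (0, 0), (0, 0), (1, 2), (0, 0), (0, 0), (0,
    0), (0, 0), (1, 0), (0, 0), (0, 0), (0, 0), (0, 0), (1, 0), (0, 0), (0, 0), (0, 0), (0, 0), (1, 0),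
    (0, 0), (0, 0), (0, 0), (0, 0), (1, 2), (0, 0), (0, 0), (0, 0), (0, 0), (1, 0), (0, 0), (0, 0), (0,
    0), (0, 0), (1, 0), (0, 0), (0, 0), (0, 0), (0, 0), (1, 1), (0, 0), (0, 0), (0, 0), (0, 0), (1, 0),
    (0, 0), (0, 0), (0, 0), (0, 0), (1, 0), (0, 0), (0, 0), (0, 0), (0, 0), (1, 1), (0, 0), (0, 0), (0,
    0), (0, 0), (1, 1), (0, 0), (0, 0), (0, 0), (0, 0), (1, 3), (0, 0), (0, 0), (0, 0), (0, 0), (1, 9),
    (0, 0), (0, 0), (0, 0), (0, 0), (1, 2), (0, 0), (0, 0), (0, 0), (0, 0), (1, 0), (0, 0), (0, 0), (0,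
    0), (0, 0), (1, 8), (0, 0), (0, 0), (0, 0), (0, 0), (1, 96), (0, 0), (0, 0), (0, 0), (0, 0), (1,
    148)]

/-- the octads through the point at infinity avoiding the point 4 -/
def clsHa : List ℕ := octadLit.filter fun m => m.testBit 23 && !m.testBit 4

set_option maxRecDepth 100000 in
theorem clsHa_check :
    growK tabsH certHa [8536111] (fun L => subCheck clsHa L) = true := by
  decide +kernel

theorem transHa : ∀ m ∈ clsHa, ∀ m' ∈ clsHa, ∃ g ∈ stabC [23, 4] [], g • M m = M m' :=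
  trans_of_cert' (stabC [23, 4] []) tabsH htabsH 8536111 certHa clsHa
    (fun m hm => octadLit_reprod m (List.mem_filter.mp hm).1) clsHa_check

end Cfsg.Agent.Lib.Helper9.M24X7
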