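import Cfsg.Agent.Lib.Helper9.M24Y2
import Cfsg.Agent.Lib.Helper9.GolayQR5

set_option autoImplicit false

namespace Cfsg.Agent.Lib.Helper9.M24Y3

open Cfsg Finset Cfsg.Agent.Lib.Helper9.M24T5 Cfsg.Agent.Lib.Helper9.M24T7
  Cfsg.Agent.Lib.Helper9.M24Y1 Cfsg.Agent.Lib.Helper9.M24Y2 Cfsg.Agent.Lib.Helper9.Chain4
  Cfsg.Agent.Lib.Helper9.Comb1 Cfsg.Agent.Lib.Helper9.GolayQR5
open scoped Pointwise

/-- some element of `M24` moves a given set of `1 ≤ n ≤ 5` points -/
theorem exists_smul_ne (s : Finset GolayPt) (h1 : 1 ≤ s.card) (h5 : s.card ≤ 5) :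
    ∃ g : M24, g • s ≠ s := by
  obtain ⟨a, ha⟩ : s.Nonempty := card_pos.mp h1
  obtain ⟨c, hc⟩ : ∃ c : GolayPt, c ∉ s := by
    by_contra hcon
    push Not at hcon
    have : (univ : Finset GolayPt) ⊆ s := fun x _ => hcon x
    have := card_le_card this
    rw [card_univ, card_golayPt] at this
    omega
  have hmem : insert c (s.erase a) ∈ MulAction.orbit M24 s := by
    rw [orbit_subset s h5, Set.mem_ofPred_eq, card_insert_of_notMem, card_erase_of_mem ha]
    · omega
    · exact fun h => hc (mem_of_mem_erase h)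
  obtain ⟨g, hg⟩ := hmem
  refine ⟨g, ?_⟩
  change g • s = _ at hg
  rw [hg]
  intro h
  apply hc
  rw [← h]
  exact mem_insert_self _ _

/-- type of a pair relative to a pair -/
def tau2 (n : ℕ) : Fin 3 := if n = 2 then 0 else if n = 1 then 1 else 2

theorem tau2_eq (n : ℕ) (hn : n ≤ 2) :
    (tau2 n = 0 ↔ n = 2) ∧ (tau2 n = 1 ↔ n = 1) ∧ (tau2 n = 2 ↔ n = 0) := by
  interval_cases n <;> decide

theorem tau2_inj (n m : ℕ) (hn : n ≤ 2) (hm : m ≤ 2) (h : tau2 n = tau2 m) : n = m := by
  interval_cases n <;> interval_cases m <;> first | rfl | exact absurd h (by decide)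

theorem duad_stabilizer_isCoatom (s : Finset GolayPt) (hs : s.card = 2) :
    IsCoatom (MulAction.stabilizer M24 s) := by
  classical
  have hs5 : s.card ≤ 5 := by omega
  have horb := orbit_subset s hs5
  rw [hs] at horb
  have hcompl : sᶜ.card = 22 := by
    rw [card_compl, hs, card_golayPt]
  have hle : ∀ y : Finset GolayPt, (s ∩ y).card ≤ 2 := fun y => by
    rw [← hs]; exact card_le_card inter_subset_left
  have c2 : {t : Finset GolayPt | t.card = 2 ∧ (s ∩ t).card = 2}.ncard = 1 := by
    rw [ncard_inter s 2 2 (by omega), hs, hcompl]; decide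
  have c1 : {t : Finset GolayPt | t.card = 2 ∧ (s ∩ t).card = 1}.ncard = 44 := by
    rw [ncard_inter s 2 1 (by omega), hs, hcompl]; decide
  have c0 : {t : Finset GolayPt | t.card = 2 ∧ (s ∩ t).card = 0}.ncard = 231 := by
    rw [ncard_inter s 2 0 (by omega), hs, hcompl]; decide
  have harith : ∀ S : Finset (Fin 3), (0 : Fin 3) ∈ S →
      (∑ i ∈ S, (![1, 44, 231] : Fin 3 → ℕ) i) ∣ 276 → S = {0} ∨ S = Finset.univ := by
    decide
  have h276 : (MulAction.orbit M24 s).ncard = 276 := by
    rw [horb]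
    have := ncard_inter (∅ : Finset GolayPt) 2 0 (by omega)
    rw [card_empty, compl_empty, card_univ, card_golayPt] at this
    have e : {t : Finset GolayPt | t.card = 2} =
        {t : Finset GolayPt | t.card = 2 ∧ ((∅ : Finset GolayPt) ∩ t).card = 0} := by
      ext t; simp
    rw [e, this]; decide
  apply isCoatom_of_types (G := M24) s (exists_smul_ne s (by omega) hs5)
    (fun t => tau2 (s ∩ t).card) ![1, 44, 231] 0
  · exact (tau2_eq _ (hle s)).1.mpr (by rw [inter_self, hs])
  · intro y hy h0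
    rw [horb, Set.mem_ofPred_eq] at hy
    have h2 : (s ∩ y).card = 2 := (tau2_eq _ (hle y)).1.mp h0
    have e1 : s ∩ y = s := eq_of_subset_of_card_le inter_subset_left (by rw [h2, hs])
    have e2 : s ∩ y = y := eq_of_subset_of_card_le inter_subset_right (by rw [h2, hy])
    rw [← e2, e1]
  · intro i
    rw [horb]
    fin_cases i
    · change _ = 1
      rw [← c2]
      congr 1
      ext y
      exact and_congr_right (fun _ => (tau2_eq _ (hle y)).1)
    · change _ = 44
      rw [← c1]
      congr 1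
      ext y
      exact and_congr_right (fun _ => (tau2_eq _ (hle y)).2.1)
    · change _ = 231
      rw [← c0]
      congr 1
      ext y
      exact and_congr_right (fun _ => (tau2_eq _ (hle y)).2.2)
  · intro y hy z hz hyz
    rw [horb, Set.mem_ofPred_eq] at hy hz
    have hcard : (s ∩ y).card = (s ∩ z).card := tau2_inj _ _ (hle y) (hle z) hyz
    have hu : (s ∪ y).card ≤ 5 := by
      have := card_union_le s y
      omega
    obtain ⟨g, hg, hgs, hgy⟩ := exists_stab_map s y z (by rw [hy, hz]) hcard hu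
    exact ⟨⟨g, hg⟩, MulAction.mem_stabilizer_iff.mpr hgs, hgy⟩
  · rw [h276]
    exact harith

end Cfsg.Agent.Lib.Helper9.M24Y3
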