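import Cfsg.Agent.Lib.Helper9.M24Y1
import Cfsg.Agent.Lib.Helper9.Chain5
import Cfsg.Agent.Lib.Helper9.GolayQR5

set_option autoImplicit false

namespace Cfsg.Agent.Lib.Helper9.M24Y6

open Cfsg Finset Cfsg.Agent.Lib.Helper9.GolayQR5
  Cfsg.Agent.Lib.Helper9.M24T3 Cfsg.Agent.Lib.Helper9.M24T4 Cfsg.Agent.Lib.Helper9.M24T7
  Cfsg.Agent.Lib.Helper9.M24Y1 Cfsg.Agent.Lib.Helper9.Chain5
open scoped Pointwise

/-- the pointwise stabilizer of any five points has order 48 -/
theorem card_fix_five (l : List GolayPt) (hl : l.Nodup) (h5 : l.length = 5) :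
    Nat.card (fixL M24 l) = 48 := by
  obtain ⟨g, hg, hmap⟩ := exists_map_list [none, some 0, some 1, some 2, some 3] l (by decide) hl
    (by rw [h5]; rfl) (by simp)
  rw [← hmap, card_fixL_map M24 g hg, card_fix5]

theorem base_size : (∀ B : Finset GolayPt, B.card ≤ 6 → ∃ g ∈ M24, g ≠ 1 ∧ ∀ b ∈ B, g b = b) ∧
    (∃ B : Finset GolayPt, B.card = 7 ∧ ∀ g ∈ M24, (∀ b ∈ B, g b = b) → g = 1) := by
  constructor
  · intro B hB
    obtain ⟨t, hBt, ht6⟩ := exists_superset_card_eq hB (by rw [card_golayPt]; omega)
    -- split off one point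
    obtain ⟨x, hx⟩ : t.Nonempty := card_pos.mp (by omega)
    have h5 : (t.erase x).card = 5 := by rw [card_erase_of_mem hx, ht6]
    have hnd : (t.erase x).toList.Nodup := nodup_toList _
    have hlen : (t.erase x).toList.length = 5 := by rw [length_toList, h5]
    have hc := card_fix_five _ hnd hlen
    have hos := ncard_orbit_mul_card_stabilizer (G := fixL M24 (t.erase x).toList) x
    rw [hc] at hos
    have horb : (MulAction.orbit (fixL M24 (t.erase x).toList) x).ncard ≤ 19 := by
      have hsub : MulAction.orbit (fixL M24 (t.erase x).toList) x ⊆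
          ((t.erase x)ᶜ : Finset GolayPt) := by
        rintro _ ⟨k, rfl⟩
        rw [mem_coe, mem_compl]
        have hk := k.2.2
        have hx' : x ∉ (t.erase x).toList := by
          rw [mem_toList]; exact notMem_erase x t
        have := apply_notMem k.1 _ hk x hx'
        rw [mem_toList] at this
        exact this
      have := Set.ncard_le_ncard hsub (Set.toFinite _)
      rw [Set.ncard_coe_finset, card_compl, card_golayPt, h5] at this
      exact this
    have hst : 1 < Nat.card (MulAction.stabilizer (fixL M24 (t.erase x).toList) x) := by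
      by_contra hle
      have h1 : Nat.card (MulAction.stabilizer (fixL M24 (t.erase x).toList) x) ≤ 1 := by omega
      have : (MulAction.orbit (fixL M24 (t.erase x).toList) x).ncard *
          Nat.card (MulAction.stabilizer (fixL M24 (t.erase x).toList) x) ≤ 19 * 1 :=
        Nat.mul_le_mul horb h1
      omega
    have hnt : Nontrivial (MulAction.stabilizer (fixL M24 (t.erase x).toList) x) :=
      Finite.one_lt_card_iff_nontrivial.mp hst
    obtain ⟨k, hk⟩ := exists_ne (1 : MulAction.stabilizer (fixL M24 (t.erase x).toList) x)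
    refine ⟨k.1.1, k.1.2.1, ?_, ?_⟩
    · intro h
      apply hk
      apply Subtype.ext
      apply Subtype.ext
      exact h
    · intro b hb
      have hbt := hBt hb
      by_cases hbx : b = x
      · rw [hbx]
        have := k.2
        rw [MulAction.mem_stabilizer_iff] at this
        exact this
      · exact k.1.2.2 b (by rw [mem_toList]; exact mem_erase.mpr ⟨hbx, hbt⟩)
  · refine ⟨{none, some 0, some 1, some 2, some 3, some 4, some 5}, by decide, ?_⟩
    intro g hg hfix
    apply fix7_eq_one g
    refine ⟨hg, ?_⟩
    intro b hb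
    apply hfix
    simp only [List.mem_cons, List.not_mem_nil, or_false] at hb
    simp only [mem_insert, mem_singleton]
    exact hb

end Cfsg.Agent.Lib.Helper9.M24Y6
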