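import Cfsg.Agent.Lib.Helper9.M24Y7

set_option autoImplicit false

namespace Cfsg.Agent.Lib.Helper9.M24Y8

open Cfsg Finset Cfsg.Agent.Lib.Helper9.GolayQR1 Cfsg.Agent.Lib.Helper9.GolayQR5
  Cfsg.Agent.Lib.Helper9.M24T1
  Cfsg.Agent.Lib.Helper9.M24T3 Cfsg.Agent.Lib.Helper9.M24T4 Cfsg.Agent.Lib.Helper9.M24T7
  Cfsg.Agent.Lib.Helper9.M24X1
  Cfsg.Agent.Lib.Helper9.M24Y1 Cfsg.Agent.Lib.Helper9.M24Y2 Cfsg.Agent.Lib.Helper9.M24Y6
  Cfsg.Agent.Lib.Helper9.M24Y7
  Cfsg.Agent.Lib.Helper9.M24Z3 Cfsg.Agent.Lib.Helper9.Chain1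
open scoped Pointwise

/-- split a list of six elements -/
theorem split_six {α : Type*} (l : List α) (h6 : l.length = 6) :
    ∃ (l5 : List α) (x : α), l = l5 ++ [x] ∧ l5.length = 5 := by
  have h1 : (l.drop 5).length = 1 := by rw [List.length_drop, h6]
  obtain ⟨x, hx⟩ := List.length_eq_one_iff.mp h1
  refine ⟨l.take 5, x, ?_, ?_⟩
  · rw [← hx, List.take_append_drop]
  · rw [List.length_take, h6]; rfl

theorem map_six' (l l' : List GolayPt) (hl : l.Nodup) (hl' : l'.Nodup) (h6 : l.length = 6)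
    (h6' : l'.length = 6) (hcond : InOct l.toFinset ↔ InOct l'.toFinset) :
    ∃ g ∈ M24, l.map g = l' := by
  obtain ⟨l5, x, rfl, h5⟩ := split_six l h6
  obtain ⟨l5', y, rfl, h5'⟩ := split_six l' h6'
  obtain ⟨g, hg, hmap, hgx⟩ := map_six l5 l5' x y hl hl' h5 h5' hcond
  exact ⟨g, hg, by rw [List.map_append, hmap, List.map_cons, List.map_nil, hgx]⟩

/-- every permutation of a set of six points is induced by an element of `M24` -/
theorem induce_six (E : Finset GolayPt) (hE : E.card = 6) (σ : Equiv.Perm ↥E) :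
    ∃ g ∈ M24, ∀ p : ↥E, g p = σ p := by
  have hnd : E.attach.toList.Nodup := nodup_toList _
  have hlen : E.attach.toList.length = 6 := by rw [length_toList, card_attach, hE]
  have hmemL : ∀ p : ↥E, p ∈ E.attach.toList := fun p => mem_toList.mpr (mem_attach E p)
  have e1 : (E.attach.toList.map (fun p : ↥E => (p : GolayPt))).toFinset = E := by
    ext q
    rw [List.mem_toFinset, List.mem_map]
    constructor
    · rintro ⟨p, -, rfl⟩
      exact p.2
    · intro hq
      exact ⟨⟨q, hq⟩, hmemL _, rfl⟩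
  have e2 : (E.attach.toList.map (fun p : ↥E => ((σ p : ↥E) : GolayPt))).toFinset = E := by
    ext q
    rw [List.mem_toFinset, List.mem_map]
    constructor
    · rintro ⟨p, -, rfl⟩
      exact (σ p).2
    · intro hq
      exact ⟨σ⁻¹ ⟨q, hq⟩, hmemL _, by simp⟩
  obtain ⟨g, hg, hmap⟩ := map_six' (E.attach.toList.map (fun p : ↥E => (p : GolayPt)))
    (E.attach.toList.map (fun p : ↥E => ((σ p : ↥E) : GolayPt)))
    (hnd.map Subtype.val_injective)
    (hnd.map (fun a b hab => σ.injective (Subtype.val_injective hab)))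
    (by rw [List.length_map, hlen]) (by rw [List.length_map, hlen]) (by rw [e1, e2])
  refine ⟨g, hg, fun p => ?_⟩
  rw [List.map_map] at hmap
  exact List.map_inj_left.mp hmap p (hmemL p)

theorem exists_list_six (E : Finset GolayPt) (hE : E.card = 6) :
    ∃ (l : List GolayPt) (x : GolayPt), (l ++ [x]).Nodup ∧ l.length = 5 ∧
      (l ++ [x]).toFinset = E := by
  obtain ⟨l, x, hlx, h5⟩ := split_six E.toList (by rw [length_toList, hE])
  refine ⟨l, x, ?_, h5, ?_⟩
  · rw [← hlx]; exact nodup_toList E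
  · rw [← hlx]; exact toList_toFinset E

/-- the order of the pointwise stabilizer of six points -/
theorem card_fix_six (l : List GolayPt) (x : GolayPt) (hl : (l ++ [x]).Nodup) (h5 : l.length = 5) :
    (InOct (l ++ [x]).toFinset → Nat.card (fixL M24 (l ++ [x])) = 16) ∧
    (¬ InOct (l ++ [x]).toFinset → Nat.card (fixL M24 (l ++ [x])) = 3) := by
  classical
  have hnd : l.Nodup := (List.nodup_append.mp hl).1
  have hxl : x ∉ l := fun h => (List.nodup_append.mp hl).2.2 x h x (List.mem_singleton.mpr rfl) rfl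
  obtain ⟨o, ho, hlo⟩ := exists_octad_five l hnd h5
  have h8 : o.card = 8 := ho.2
  have hstep := card_step (fixL M24 l) x
    (univ.filter (fun p => p ∉ l ∧ (p ∈ o ↔ x ∈ o))) (by
      intro g hg
      rw [mem_filter]
      refine ⟨mem_univ _, apply_notMem g l hg.2 x hxl, ?_⟩
      have hgo : g • o = o := by
        apply octad_eq_of_five _ _ (smul_octad_mem g hg.1 o ho) ho l.toFinset
          (by rw [List.toFinset_card_of_nodup hnd, h5])
        · intro p hp
          rw [List.mem_toFinset] at hp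
          rw [← hg.2 p hp, smul_mem_iff]
          exact hlo p hp
        · intro p hp
          exact hlo p (List.mem_toFinset.mp hp)
      conv_lhs => rw [← hgo]
      rw [smul_mem_iff]) (by
      intro y hy
      rw [mem_filter] at hy
      exact fix5_trans l hnd h5 o ho hlo x y hxl hy.2.1 hy.2.2.symm)
  rw [card_fix_five l hnd h5, ← fixL_snoc] at hstep
  rw [inOct_snoc l hnd h5 o ho hlo x]
  constructor
  · intro hx
    have : univ.filter (fun p => p ∉ l ∧ (p ∈ o ↔ x ∈ o)) = o \ l.toFinset := by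
      ext p
      rw [mem_filter, mem_sdiff, List.mem_toFinset]
      constructor
      · rintro ⟨-, h1, h2⟩
        exact ⟨h2.mpr hx, h1⟩
      · rintro ⟨h1, h2⟩
        exact ⟨mem_univ _, h2, fun _ => hx, fun _ => h1⟩
    rw [this, card_sdiff_of_subset (fun p hp => hlo p (List.mem_toFinset.mp hp)), h8,
      List.toFinset_card_of_nodup hnd, h5] at hstep
    omega
  · intro hx
    have : univ.filter (fun p => p ∉ l ∧ (p ∈ o ↔ x ∈ o)) = oᶜ := by
      ext p
      rw [mem_filter, mem_compl]
      constructor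
      · rintro ⟨-, -, h2⟩ hp
        exact hx (h2.mp hp)
      · intro hp
        exact ⟨mem_univ _, fun h => hp (hlo p h), fun h => absurd h hp, fun h => absurd h hx⟩
    rw [this, card_compl, card_golayPt, h8] at hstep
    omega

theorem six_result (E : Finset GolayPt) (hE : E.card = 6) :
    (∀ σ : Equiv.Perm ↥E, ∃ g ∈ M24, ∀ p : ↥E, g p = σ p) ∧
    ((∃ o ∈ octads, E ⊆ o) →
      Nat.card {g : Equiv.Perm GolayPt // g ∈ M24 ∧ ∀ p ∈ E, g p = p} = 16) ∧
    ((¬ ∃ o ∈ octads, E ⊆ o) →
      Nat.card {g : Equiv.Perm GolayPt // g ∈ M24 ∧ ∀ p ∈ E, g p = p} = 3 ∧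
      Nat.card ↥(MulAction.stabilizer M24 E) = 2160) := by
  classical
  obtain ⟨l, x, hl, h5, hlE⟩ := exists_list_six E hE
  obtain ⟨c16, c3⟩ := card_fix_six l x hl h5
  rw [hlE] at c16 c3
  have hcongr : Nat.card {g : Equiv.Perm GolayPt // g ∈ M24 ∧ ∀ p ∈ E, g p = p} =
      Nat.card (fixL M24 (l ++ [x])) := by
    apply Nat.card_congr
    apply Equiv.subtypeEquivRight
    intro g
    change _ ↔ g ∈ M24 ∧ ∀ b ∈ l ++ [x], g b = b
    rw [← hlE]
    simp only [List.mem_toFinset]
  refine ⟨induce_six E hE, fun h => by rw [hcongr]; exact c16 h, fun h => ?_⟩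
  have hc3 : Nat.card {g : Equiv.Perm GolayPt // g ∈ M24 ∧ ∀ p ∈ E, g p = p} = 3 := by
    rw [hcongr]; exact c3 h
  refine ⟨hc3, ?_⟩
  -- the restriction homomorphism
  have key : ∀ g : Equiv.Perm GolayPt, g • E = E → ∀ y, g y ∈ E ↔ y ∈ E := by
    intro g hgE y
    have := smul_mem_iff g y E
    rw [hgE] at this
    exact this
  have hk : ∀ k : MulAction.stabilizer M24 E, ∀ y : GolayPt, k.1.1 y ∈ E ↔ y ∈ E :=
    fun k y => key k.1.1 (MulAction.mem_stabilizer_iff.mp k.2) y
  let φ : MulAction.stabilizer M24 E →* Equiv.Perm ↥E :=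
    { toFun := fun k => Equiv.Perm.subtypePerm k.1.1 (hk k)
      map_one' := by ext p; rfl
      map_mul' := fun a b => by ext p; rfl }
  have hsurj : Function.Surjective φ := by
    intro σ
    obtain ⟨g, hg, hgσ⟩ := induce_six E hE σ
    have hgE : g • E = E := by
      apply eq_of_subset_of_card_le
      · intro y hy
        obtain ⟨p, hp, rfl⟩ := mem_smul_finset.mp hy
        have := hgσ ⟨p, hp⟩
        change g p ∈ E
        rw [show g p = ((σ ⟨p, hp⟩ : ↥E) : GolayPt) from this]
        exact (σ ⟨p, hp⟩).2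
      · rw [Finset.card_smul_finset]
    refine ⟨⟨⟨g, hg⟩, MulAction.mem_stabilizer_iff.mpr hgE⟩, ?_⟩
    apply Equiv.ext
    intro p
    apply Subtype.ext
    exact hgσ p
  have hker : Nat.card φ.ker = 3 := by
    rw [← hc3]
    apply Nat.card_congr
    exact
      { toFun := fun k => ⟨k.1.1.1, k.1.1.2, fun p hp => by
          have := k.2
          rw [MonoidHom.mem_ker] at this
          have h2 := congrArg (fun τ : Equiv.Perm ↥E => ((τ ⟨p, hp⟩ : ↥E) : GolayPt)) this
          exact h2⟩
        invFun := fun g => ⟨⟨⟨g.1, g.2.1⟩, by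
          rw [MulAction.mem_stabilizer_iff]
          change g.1 • E = E
          apply eq_of_subset_of_card_le
          · intro y hy
            obtain ⟨p, hp, rfl⟩ := mem_smul_finset.mp hy
            change g.1 p ∈ E
            rw [g.2.2 p hp]
            exact hp
          · rw [Finset.card_smul_finset]⟩, by
          rw [MonoidHom.mem_ker]
          apply Equiv.ext
          intro p
          apply Subtype.ext
          exact g.2.2 p.1 p.2⟩
        left_inv := fun k => rfl
        right_inv := fun g => rfl }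
  have h1 := Subgroup.card_eq_card_quotient_mul_card_subgroup φ.ker
  have h720 : Nat.card (Equiv.Perm ↥E) = 720 := by
    rw [Nat.card_eq_fintype_card, Fintype.card_perm, Fintype.card_coe, hE]
    rfl
  rw [Nat.card_congr (QuotientGroup.quotientKerEquivOfSurjective φ hsurj).toEquiv, hker,
    h720] at h1
  rw [h1]

end Cfsg.Agent.Lib.Helper9.M24Y8
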