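import Cfsg.Agent.Lib.Helper9.M24X1

set_option autoImplicit false

namespace Cfsg.Agent.Lib.Helper9.M24Z9

open Cfsg Finset Cfsg.Agent.Lib.Helper9.Golay1 Cfsg.Agent.Lib.Helper9.GolayQR1
  Cfsg.Agent.Lib.Helper9.M24T1 Cfsg.Agent.Lib.Helper9.M24T3 Cfsg.Agent.Lib.Helper9.M24T8
  Cfsg.Agent.Lib.Helper9.M24T9
  Cfsg.Agent.Lib.Helper9.M24U1 Cfsg.Agent.Lib.Helper9.M24U2 Cfsg.Agent.Lib.Helper9.M24U3
  Cfsg.Agent.Lib.Helper9.M24U4 Cfsg.Agent.Lib.Helper9.M24U6 Cfsg.Agent.Lib.Helper9.M24X1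
open scoped Pointwise

/-- generator `S1` -/
def S1 : Equiv.Perm GolayPt :=
  tperm [0, 11, 5, 7, 1, 18, 6, 2, 8, 15, 20, 22, 16, 9, 19, 12, 13, 14, 3, 10, 17, 4, 21, 23]
    [0, 4, 7, 18, 21, 2, 6, 3, 8, 13, 19, 1, 15, 16, 17, 9, 12, 20, 5, 14, 10, 22, 11, 23] (by decide +kernel) (by decide +kernel)

theorem S1_mem : S1 ∈ M24 := tperm_mem _ _ _ _ (by decide +kernel) (by decide +kernel)

theorem S1_smul (m : ℕ) : S1 • M m = M (pull [0, 4, 7, 18, 21, 2, 6, 3, 8, 13, 19, 1, 15, 16, 17, 9, 12, 20, 5, 14, 10, 22, 11, 23] m) :=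
  tperm_smul_M _ _ _ _ (by decide +kernel) m

theorem S1_stab : S1 ∈ stabC [23, 6, 8] [dMask] := by
  exact tperm_mem_stabC _ _ _ _ (by decide +kernel) (by decide +kernel) (by decide +kernel)
    [23, 6, 8] [dMask] (by decide +kernel) (by decide +kernel)

/-- generator `S2` -/
def S2 : Equiv.Perm GolayPt :=
  tperm [18, 11, 3, 5, 1, 2, 6, 0, 8, 19, 15, 4, 10, 13, 20, 12, 14, 9, 7, 17, 16, 21, 22, 23]
    [7, 4, 5, 2, 11, 3, 6, 18, 8, 17, 12, 1, 15, 13, 16, 10, 20, 19, 0, 9, 14, 21, 22, 23] (by decide +kernel) (by decide +kernel)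

theorem S2_mem : S2 ∈ M24 := tperm_mem _ _ _ _ (by decide +kernel) (by decide +kernel)

theorem S2_smul (m : ℕ) : S2 • M m = M (pull [7, 4, 5, 2, 11, 3, 6, 18, 8, 17, 12, 1, 15, 13, 16, 10, 20, 19, 0, 9, 14, 21, 22, 23] m) :=
  tperm_smul_M _ _ _ _ (by decide +kernel) m

theorem S2_stab : S2 ∈ stabC [23, 6, 8] [dMask] := by
  exact tperm_mem_stabC _ _ _ _ (by decide +kernel) (by decide +kernel) (by decide +kernel)
    [23, 6, 8] [dMask] (by decide +kernel) (by decide +kernel)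

/-- the inverse tables of the generators -/
def tabsS : List (List ℕ) :=
  [[0, 4, 7, 18, 21, 2, 6, 3, 8, 13, 19, 1, 15, 16, 17, 9, 12, 20, 5, 14, 10, 22, 11, 23],
    [7, 4, 5, 2, 11, 3, 6, 18, 8, 17, 12, 1, 15, 13, 16, 10, 20, 19, 0, 9, 14, 21, 22, 23]]

theorem htabsS : ∀ t ∈ tabsS, ∃ h ∈ stabC [23, 6, 8] [dMask], ∀ m, h • M m = M (pull t m) := by
  intro t ht
  simp only [tabsS, List.mem_cons, List.not_mem_nil, or_false] at ht
  rcases ht with rfl | rfl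
  · exact ⟨S1, S1_stab, S1_smul⟩
  · exact ⟨S2, S2_stab, S2_smul⟩

end Cfsg.Agent.Lib.Helper9.M24Z9
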