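import Cfsg.Agent.Lib.Helper9.M24Z8
import Cfsg.Agent.Lib.Helper9.M24Z9
import Cfsg.Agent.Lib.Helper9.M24X6

set_option autoImplicit false

namespace Cfsg.Agent.Lib.Helper9.M24Z12

open Cfsg Finset Cfsg.Agent.Lib.Helper9.GolayQR1 Cfsg.Agent.Lib.Helper9.M24T1
  Cfsg.Agent.Lib.Helper9.M24T9 Cfsg.Agent.Lib.Helper9.M24T10
  Cfsg.Agent.Lib.Helper9.M24T11 Cfsg.Agent.Lib.Helper9.M24X1 Cfsg.Agent.Lib.Helper9.M24X4
  Cfsg.Agent.Lib.Helper9.M24X5 Cfsg.Agent.Lib.Helper9.M24X6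
  Cfsg.Agent.Lib.Helper9.M24W2 Cfsg.Agent.Lib.Helper9.M24Z8 Cfsg.Agent.Lib.Helper9.M24Z9
  Cfsg.Agent.Lib.Helper9.Chain1
open scoped Pointwise

/-- mapping a base tuple to an arbitrary injective tuple inside an invariant set -/
theorem exists_map_tuple_on {α : Type*} (H : Subgroup (Equiv.Perm α)) (Ω : Set α)
    (hΩ : ∀ h ∈ H, ∀ x ∈ Ω, h x ∈ Ω) (b : ℕ → α) (n : ℕ)
    (hstep : ∀ k < n, ∀ x ∈ Ω, (∀ j < k, x ≠ b j) →
      ∃ u ∈ H, (∀ j < k, u (b j) = b j) ∧ u (b k) = x)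
    (y : ℕ → α) (hyΩ : ∀ i < n, y i ∈ Ω) (hy : ∀ i < n, ∀ j < n, y i = y j → i = j) :
    ∃ h ∈ H, ∀ i < n, h (b i) = y i := by
  suffices hk : ∀ k ≤ n, ∃ h ∈ H, ∀ i < k, h (b i) = y i from hk n le_rfl
  intro k
  induction k with
  | zero => exact fun _ => ⟨1, H.one_mem, fun i hi => absurd hi (Nat.not_lt_zero i)⟩
  | succ k ih =>
    intro hk
    obtain ⟨h, hh, hfix⟩ := ih (by omega)
    have hx : ∀ j < k, h⁻¹ (y k) ≠ b j := by
      intro j hj heq
      have h1 : y k = h (b j) := by rw [← heq, apply_inv_self']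
      rw [hfix j hj] at h1
      have := hy k (by omega) j (by omega) h1
      omega
    obtain ⟨u, hu, hufix, huk⟩ := hstep k (by omega) (h⁻¹ (y k))
      (hΩ _ (H.inv_mem hh) _ (hyΩ k (by omega))) hx
    refine ⟨h * u, H.mul_mem hh hu, ?_⟩
    intro i hi
    rw [Equiv.Perm.mul_apply]
    rcases Nat.lt_succ_iff_lt_or_eq.mp hi with hlt | rfl
    · rw [hufix i hlt, hfix i hlt]
    · rw [huk, apply_inv_self']

/-- base points in the complement of the standard dodecad -/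
def cpt (i : ℕ) : GolayPt := if i = 0 then some 6 else if i = 1 then some 8 else some 9

theorem step0 : ∀ p : GolayPt, p ∉ D12 → ∃ u ∈ stabC [23] [dMask], u (some 6) = p := by
  have hfs : ∀ f ∈ ([⇑G1, ⇑G2] : List (GolayPt → GolayPt)),
      ∃ h ∈ stabC [23] [dMask], ⇑h = f := by
    intro f hf
    simp only [List.mem_cons, List.not_mem_nil, or_false] at hf
    rcases hf with rfl | rfl
    · exact ⟨G1, G1_stab, rfl⟩
    · exact ⟨G2, G2_stab, rfl⟩
  have hdec : ∀ p : GolayPt, dMask.testBit (idx p) = false →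
      p ∈ (orbStep [⇑G1, ⇑G2])^[11] [some 6] := by
    decide +kernel
  intro p hp
  rw [mem_D12, Bool.not_eq_true] at hp
  exact orb_sound _ _ hfs _ _ p (hdec p hp)

theorem step1 : ∀ p : GolayPt, p ∉ D12 → p ≠ some 6 →
    ∃ u ∈ stabC [23, 6] [dMask], u (some 8) = p := by
  have hfs : ∀ f ∈ ([⇑R1, ⇑R2] : List (GolayPt → GolayPt)),
      ∃ h ∈ stabC [23, 6] [dMask], ⇑h = f := by
    intro f hf
    simp only [List.mem_cons, List.not_mem_nil, or_false] at hf
    rcases hf with rfl | rfl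
    · exact ⟨R1, R1_stab, rfl⟩
    · exact ⟨R2, R2_stab, rfl⟩
  have hdec : ∀ p : GolayPt, dMask.testBit (idx p) = false → p ≠ some 6 →
      p ∈ (orbStep [⇑R1, ⇑R2])^[10] [some 8] := by
    decide +kernel
  intro p hp hne
  rw [mem_D12, Bool.not_eq_true] at hp
  exact orb_sound _ _ hfs _ _ p (hdec p hp hne)

theorem step2 : ∀ p : GolayPt, p ∉ D12 → p ≠ some 6 → p ≠ some 8 →
    ∃ u ∈ stabC [23, 6, 8] [dMask], u (some 9) = p := by
  have hfs : ∀ f ∈ ([⇑S1, ⇑S2] : List (GolayPt → GolayPt)),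
      ∃ h ∈ stabC [23, 6, 8] [dMask], ⇑h = f := by
    intro f hf
    simp only [List.mem_cons, List.not_mem_nil, or_false] at hf
    rcases hf with rfl | rfl
    · exact ⟨S1, S1_stab, rfl⟩
    · exact ⟨S2, S2_stab, rfl⟩
  have hdec : ∀ p : GolayPt, dMask.testBit (idx p) = false → p ≠ some 6 → p ≠ some 8 →
      p ∈ (orbStep [⇑S1, ⇑S2])^[9] [some 9] := by
    decide +kernel
  intro p hp hne hne'
  rw [mem_D12, Bool.not_eq_true] at hp
  exact orb_sound _ _ hfs _ _ p (hdec p hp hne hne')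

theorem std_three (y : ℕ → GolayPt) (hyΩ : ∀ i < 3, y i ∉ D12)
    (hy : ∀ i < 3, ∀ j < 3, y i = y j → i = j) :
    ∃ h ∈ stabC [23] [dMask], ∀ i < 3, h (cpt i) = y i := by
  apply exists_map_tuple_on (stabC [23] [dMask]) {x | x ∉ D12} ?_ cpt 3 ?_ y hyΩ hy
  · intro h hh x hx
    obtain ⟨-, -, hd⟩ := (mem_stabC _ _ h).mp hh
    have hd' : h • D12 = D12 := hd dMask (by simp)
    rw [Set.mem_ofPred_eq] at hx ⊢
    rw [← hd', smul_mem_iff]
    exact hx
  · intro k hk x hx hne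
    rw [Set.mem_ofPred_eq] at hx
    interval_cases k
    · obtain ⟨u, hu, hux⟩ := step0 x hx
      exact ⟨u, hu, fun j hj => absurd hj (Nat.not_lt_zero j), hux⟩
    · have h6 : x ≠ some 6 := hne 0 (by omega)
      obtain ⟨u, hu, hux⟩ := step1 x hx h6
      obtain ⟨huM, hupt, hud⟩ := (mem_stabC _ _ u).mp hu
      refine ⟨u, (mem_stabC _ _ u).mpr ⟨huM, fun i hi => hupt i (by
        simp only [List.mem_cons, List.not_mem_nil, or_false] at hi ⊢
        exact Or.inl hi), hud⟩, ?_, hux⟩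
      intro j hj
      have : j = 0 := by omega
      subst this
      exact hupt 6 (by simp)
    · have h6 : x ≠ some 6 := hne 0 (by omega)
      have h8 : x ≠ some 8 := hne 1 (by omega)
      obtain ⟨u, hu, hux⟩ := step2 x hx h6 h8
      obtain ⟨huM, hupt, hud⟩ := (mem_stabC _ _ u).mp hu
      refine ⟨u, (mem_stabC _ _ u).mpr ⟨huM, fun i hi => hupt i (by
        simp only [List.mem_cons, List.not_mem_nil, or_false] at hi ⊢
        exact Or.inl hi), hud⟩, ?_, hux⟩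
      intro j hj
      have : j = 0 ∨ j = 1 := by omega
      rcases this with rfl | rfl
      · exact hupt 6 (by simp)
      · exact hupt 8 (by simp)

theorem m11_three_transitive (d : Finset GolayPt) (hd : d ∈ dodecads) (p : GolayPt) (hp : p ∈ d)
    (x y : Fin 3 ↪ GolayPt) (hx : ∀ i, x i ∉ d) (hy : ∀ i, y i ∉ d) :
    ∃ g ∈ MulAction.stabilizer M24 d ⊓ MulAction.stabilizer M24 p,
      ∀ i, (g : Equiv.Perm GolayPt) (x i) = y i := by
  obtain ⟨t, ht, htd, htp⟩ := exists_std_dflag p d hd hp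
  have htinv : t⁻¹ ∈ M24 := M24.inv_mem ht
  have key : ∀ z : Fin 3 ↪ GolayPt, (∀ i, z i ∉ d) →
      ∃ h ∈ stabC [23] [dMask], ∀ i : Fin 3, h (cpt i.val) = t (z i) := by
    intro z hz
    obtain ⟨h, hh, hmap⟩ := std_three (fun i => if hi : i < 3 then t (z ⟨i, hi⟩) else none) (by
      intro i hi
      rw [dif_pos hi, ← htd, smul_mem_iff]
      exact hz _) (by
      intro i hi j hj hij
      rw [dif_pos hi, dif_pos hj] at hij
      have := z.injective (t.injective hij)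
      exact Fin.mk.inj_iff.mp this)
    refine ⟨h, hh, fun i => ?_⟩
    rw [hmap i.val i.2, dif_pos i.2]
  obtain ⟨h, hh, hmx⟩ := key x hx
  obtain ⟨h', hh', hmy⟩ := key y hy
  have hk : h' * h⁻¹ ∈ stabC [23] [dMask] := Subgroup.mul_mem _ hh' (Subgroup.inv_mem _ hh)
  obtain ⟨hkM, hkx, hko⟩ := (mem_stabC _ _ _).mp hk
  have hkp : (h' * h⁻¹) none = none := hkx 23 (by simp)
  have hkd : (h' * h⁻¹) • D12 = D12 := hko dMask (by simp)
  refine ⟨⟨t⁻¹ * (h' * h⁻¹) * t, M24.mul_mem (M24.mul_mem htinv hkM) ht⟩, ?_, ?_⟩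
  · rw [Subgroup.mem_inf, MulAction.mem_stabilizer_iff, MulAction.mem_stabilizer_iff]
    constructor
    · change (t⁻¹ * (h' * h⁻¹) * t) • d = d
      rw [mul_smul, mul_smul, htd, hkd, ← htd, inv_smul_smul]
    · change (t⁻¹ * (h' * h⁻¹) * t) p = p
      rw [Equiv.Perm.mul_apply, Equiv.Perm.mul_apply, htp, hkp, ← htp, inv_apply_self']
  · intro i
    change (t⁻¹ * (h' * h⁻¹) * t) (x i) = y i
    rw [Equiv.Perm.mul_apply, Equiv.Perm.mul_apply, Equiv.Perm.mul_apply, ← hmx i,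
      inv_apply_self', hmy i, inv_apply_self']

end Cfsg.Agent.Lib.Helper9.M24Z12
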