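import Cfsg.Agent.Lib.Helper9.M24Z3
import Cfsg.Agent.Lib.Helper9.M24Y3

set_option autoImplicit false

namespace Cfsg.Agent.Lib.Helper9.M24Z4

open Cfsg Finset Cfsg.Agent.Lib.Helper9.GolayQR5
  Cfsg.Agent.Lib.Helper9.M24Y1 Cfsg.Agent.Lib.Helper9.M24Y2 Cfsg.Agent.Lib.Helper9.M24Y3
  Cfsg.Agent.Lib.Helper9.Chain4 Cfsg.Agent.Lib.Helper9.Comb1
  Cfsg.Agent.Lib.Helper9.M24Z3
open scoped Pointwise

/-- type of a triad relative to a triad: the size of the intersection and, for disjoint triads,
whether the two lie in a common octad -/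
def tau3 (n : ℕ) (b : Prop) [Decidable b] : Fin 5 :=
  if n = 3 then 0 else if n = 2 then 1 else if n = 1 then 2 else if b then 3 else 4

theorem tau3_eq (n : ℕ) (hn : n ≤ 3) (b : Prop) [Decidable b] :
    (tau3 n b = 0 ↔ n = 3) ∧ (tau3 n b = 1 ↔ n = 2) ∧ (tau3 n b = 2 ↔ n = 1) ∧
      (tau3 n b = 3 ↔ n = 0 ∧ b) ∧ (tau3 n b = 4 ↔ n = 0 ∧ ¬ b) := by
  by_cases hb : b <;> interval_cases n <;> simp [tau3, hb]

theorem tau3_inj (n m : ℕ) (hn : n ≤ 3) (hm : m ≤ 3) (b c : Prop) [Decidable b] [Decidable c]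
    (h : tau3 n b = tau3 m c) : n = m ∧ (n = 0 → (b ↔ c)) := by
  by_cases hb : b <;> by_cases hc : c <;> interval_cases n <;> interval_cases m <;>
    simp [tau3, hb, hc] at h ⊢

theorem triad_stabilizer_isCoatom (s : Finset GolayPt) (hs : s.card = 3) :
    IsCoatom (MulAction.stabilizer M24 s) := by
  classical
  have hs5 : s.card ≤ 5 := by omega
  have horb := orbit_subset s hs5
  rw [hs] at horb
  have hcompl : sᶜ.card = 21 := by
    rw [card_compl, hs, card_golayPt]
  have hle : ∀ y : Finset GolayPt, (s ∩ y).card ≤ 3 := fun y => by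
    rw [← hs]; exact card_le_card inter_subset_left
  have c3 : {t : Finset GolayPt | t.card = 3 ∧ (s ∩ t).card = 3}.ncard = 1 := by
    rw [ncard_inter s 3 3 (by omega), hs, hcompl]; decide
  have c2 : {t : Finset GolayPt | t.card = 3 ∧ (s ∩ t).card = 2}.ncard = 63 := by
    rw [ncard_inter s 3 2 (by omega), hs, hcompl]; decide
  have c1 : {t : Finset GolayPt | t.card = 3 ∧ (s ∩ t).card = 1}.ncard = 630 := by
    rw [ncard_inter s 3 1 (by omega), hs, hcompl]; decide
  obtain ⟨cy, cn, htr⟩ := triad_result s hs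
  have hdis : ∀ y : Finset GolayPt, Disjoint s y ↔ (s ∩ y).card = 0 := by
    intro y
    rw [disjoint_iff_inter_eq_empty, card_eq_zero]
  have harith : ∀ S : Finset (Fin 5), (0 : Fin 5) ∈ S →
      (∑ i ∈ S, (![1, 63, 630, 210, 1120] : Fin 5 → ℕ) i) ∣ 2024 →
        S = {0} ∨ S = Finset.univ := by
    decide
  have h2024 : (MulAction.orbit M24 s).ncard = 2024 := by
    rw [horb]
    have := ncard_inter (∅ : Finset GolayPt) 3 0 (by omega)
    rw [card_empty, compl_empty, card_univ, card_golayPt] at this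
    have e : {t : Finset GolayPt | t.card = 3} =
        {t : Finset GolayPt | t.card = 3 ∧ ((∅ : Finset GolayPt) ∩ t).card = 0} := by
      ext t; simp
    rw [e, this]; decide
  apply isCoatom_of_types (G := M24) s (exists_smul_ne s (by omega) hs5)
    (fun t => tau3 (s ∩ t).card (InOct (s ∪ t))) ![1, 63, 630, 210, 1120] 0
  · exact (tau3_eq _ (hle s) _).1.mpr (by rw [inter_self, hs])
  · intro y hy h0
    rw [horb, Set.mem_ofPred_eq] at hy
    have h2 : (s ∩ y).card = 3 := (tau3_eq _ (hle y) _).1.mp h0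
    have e1 : s ∩ y = s := eq_of_subset_of_card_le inter_subset_left (by rw [h2, hs])
    have e2 : s ∩ y = y := eq_of_subset_of_card_le inter_subset_right (by rw [h2, hy])
    rw [← e2, e1]
  · intro i
    rw [horb]
    fin_cases i
    · change _ = 1
      rw [← c3]
      congr 1
      ext y
      exact and_congr_right (fun _ => (tau3_eq _ (hle y) _).1)
    · change _ = 63
      rw [← c2]
      congr 1
      ext y
      exact and_congr_right (fun _ => (tau3_eq _ (hle y) _).2.1)
    · change _ = 630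
      rw [← c1]
      congr 1
      ext y
      exact and_congr_right (fun _ => (tau3_eq _ (hle y) _).2.2.1)
    · change _ = 210
      rw [← cy]
      congr 1
      ext y
      refine and_congr_right (fun _ => ?_)
      rw [hdis]
      exact (tau3_eq _ (hle y) _).2.2.2.1
    · change _ = 1120
      rw [← cn]
      congr 1
      ext y
      refine and_congr_right (fun _ => ?_)
      rw [hdis]
      exact (tau3_eq _ (hle y) _).2.2.2.2
  · intro y hy z hz hyz
    rw [horb, Set.mem_ofPred_eq] at hy hz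
    obtain ⟨hcard, hb⟩ := tau3_inj _ _ (hle y) (hle z) _ _ hyz
    by_cases h0 : (s ∩ y).card = 0
    · obtain ⟨g, hg, hgs, hgy⟩ := htr y z hy hz ((hdis y).mpr h0)
        ((hdis z).mpr (by rw [← hcard, h0])) (hb h0)
      exact ⟨⟨g, hg⟩, MulAction.mem_stabilizer_iff.mpr hgs, hgy⟩
    · have hu : (s ∪ y).card ≤ 5 := by
        have := card_union_add_card_inter s y
        omega
      obtain ⟨g, hg, hgs, hgy⟩ := exists_stab_map s y z (by rw [hy, hz]) hcard hu
      exact ⟨⟨g, hg⟩, MulAction.mem_stabilizer_iff.mpr hgs, hgy⟩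
  · rw [h2024]
    exact harith

end Cfsg.Agent.Lib.Helper9.M24Z4
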