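import Cfsg.Agent.Lib.Helper9.M24X1
import Cfsg.Agent.Lib.Helper9.M24Z1

set_option autoImplicit false

namespace Cfsg.Agent.Lib.Helper9.M24Z5

open Cfsg Finset Cfsg.Agent.Lib.Helper9.Golay1 Cfsg.Agent.Lib.Helper9.GolayQR1
  Cfsg.Agent.Lib.Helper9.M24T1 Cfsg.Agent.Lib.Helper9.M24T3 Cfsg.Agent.Lib.Helper9.M24T8
  Cfsg.Agent.Lib.Helper9.M24T9
  Cfsg.Agent.Lib.Helper9.M24U1 Cfsg.Agent.Lib.Helper9.M24U2 Cfsg.Agent.Lib.Helper9.M24U3
  Cfsg.Agent.Lib.Helper9.M24U4 Cfsg.Agent.Lib.Helper9.M24U6 Cfsg.Agent.Lib.Helper9.M24X1 Cfsg.Agent.Lib.Helper9.M24Z1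
open scoped Pointwise

/-- generator `N1` -/
def N1 : Equiv.Perm GolayPt :=
  tperm [0, 1, 2, 16, 21, 13, 10, 9, 5, 18, 12, 17, 14, 19, 22, 11, 7, 4, 3, 20, 8, 15, 6, 23]
    [0, 1, 2, 18, 17, 8, 22, 16, 20, 7, 6, 15, 10, 5, 12, 21, 3, 11, 9, 13, 19, 4, 14, 23] (by decide +kernel) (by decide +kernel)

theorem N1_mem : N1 ∈ M24 := tperm_mem _ _ _ _ (by decide +kernel) (by decide +kernel)

theorem N1_smul (m : ℕ) : N1 • M m = M (pull [0, 1, 2, 18, 17, 8, 22, 16, 20, 7, 6, 15, 10, 5, 12, 21, 3, 11, 9, 13, 19, 4, 14, 23] m) :=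
  tperm_smul_M _ _ _ _ (by decide +kernel) m

theorem N1_stab : N1 ∈ stabC [23, 0] [6] := by
  exact tperm_mem_stabC _ _ _ _ (by decide +kernel) (by decide +kernel) (by decide +kernel)
    [23, 0] [6] (by decide +kernel) (by decide +kernel)

/-- generator `N2` -/
def N2 : Equiv.Perm GolayPt :=
  tperm [0, 2, 1, 13, 21, 22, 15, 20, 11, 5, 3, 12, 18, 7, 4, 14, 19, 16, 8, 10, 17, 9, 6, 23]
    [0, 2, 1, 10, 14, 9, 22, 13, 18, 21, 19, 8, 11, 3, 15, 6, 17, 20, 12, 16, 7, 4, 5, 23] (by decide +kernel) (by decide +kernel)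

theorem N2_mem : N2 ∈ M24 := tperm_mem _ _ _ _ (by decide +kernel) (by decide +kernel)

theorem N2_smul (m : ℕ) : N2 • M m = M (pull [0, 2, 1, 10, 14, 9, 22, 13, 18, 21, 19, 8, 11, 3, 15, 6, 17, 20, 12, 16, 7, 4, 5, 23] m) :=
  tperm_smul_M _ _ _ _ (by decide +kernel) m

theorem N2_stab : N2 ∈ stabC [23, 0] [6] := by
  exact tperm_mem_stabC _ _ _ _ (by decide +kernel) (by decide +kernel) (by decide +kernel)
    [23, 0] [6] (by decide +kernel) (by decide +kernel)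

/-- the inverse tables of the generators -/
def tabsN : List (List ℕ) :=
  [[0, 1, 2, 18, 17, 8, 22, 16, 20, 7, 6, 15, 10, 5, 12, 21, 3, 11, 9, 13, 19, 4, 14, 23],
    [0, 2, 1, 10, 14, 9, 22, 13, 18, 21, 19, 8, 11, 3, 15, 6, 17, 20, 12, 16, 7, 4, 5, 23]]

theorem htabsN : ∀ t ∈ tabsN, ∃ h ∈ stabC [23, 0] [6], ∀ m, h • M m = M (pull t m) := by
  intro t ht
  simp only [tabsN, List.mem_cons, List.not_mem_nil, or_false] at ht
  rcases ht with rfl | rfl
  · exact ⟨N1, N1_stab, N1_smul⟩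
  · exact ⟨N2, N2_stab, N2_smul⟩

set_option maxRecDepth 100000 in
/-- orbit certificate: the pairs off the two points, disjoint from the standard pair, in a common octad with them -/
def certNy : List (ℕ × ℕ) :=
  [(0, 0), (0, 0), (0, 0), (0, 0), (1, 0), (0, 0), (0, 0), (0, 0), (0, 0), (1, 0), (0, 0), (0, 0), (0,
    0), (0, 0), (1, 0), (0, 0), (0, 0), (0, 0), (0, 0), (1, 2), (0, 0), (0, 0), (0, 0), (0, 0), (1, 2),
    (0, 0), (0, 0), (0, 0), (0, 0)]

/-- the pairs off the two points, disjoint from the standard pair, in a common octad with them -/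
def clsNy : List ℕ := pairLit.filter fun m => !m.testBit 23 && !m.testBit 0 && (m &&& 6 == 0) && inOct (m ||| 8388615)

set_option maxRecDepth 100000 in
theorem clsNy_check :
    growK tabsN certNy [40]
      (fun L => clsNy.all fun m => L.contains m) = true := by
  decide +kernel

theorem transNy : ∀ m ∈ clsNy, ∀ m' ∈ clsNy, ∃ g ∈ stabC [23, 0] [6], g • M m = M m' :=
  trans_of_cert (stabC [23, 0] [6]) tabsN htabsN 40 certNy clsNy
    clsNy_check

set_option maxRecDepth 100000 in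
/-- orbit certificate: the pairs off the two points, disjoint from the standard pair, in no common octad with them -/
def certNn : List (ℕ × ℕ) :=
  [(0, 0), (0, 0), (0, 0), (0, 0), (1, 0), (0, 0), (0, 0), (0, 0), (0, 0), (1, 0), (0, 0), (0, 0), (0,
    0), (0, 0), (1, 0), (0, 0), (0, 0), (0, 0), (0, 0), (1, 1), (0, 0), (0, 0), (0, 0), (0, 0), (1, 0),
    (0, 0), (0, 0), (0, 0), (0, 0), (1, 0), (0, 0), (0, 0), (0, 0), (0, 0), (1, 1), (0, 0), (0, 0), (0,
    0), (0, 0), (1, 0), (0, 0), (0, 0), (0, 0), (0, 0), (1, 0), (0, 0), (0, 0), (0, 0), (0, 0), (1, 1),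
    (0, 0), (0, 0), (0, 0), (0, 0), (1, 0), (0, 0), (0, 0), (0, 0), (0, 0), (1, 0), (0, 0), (0, 0), (0,
    0), (0, 0), (1, 1), (0, 0), (0, 0), (0, 0), (0, 0), (1, 3), (0, 0), (0, 0), (0, 0), (0, 0), (1, 1),
    (0, 0), (0, 0), (0, 0), (0, 0), (1, 0), (0, 0), (0, 0), (0, 0), (0, 0), (1, 0), (0, 0), (0, 0), (0,
    0), (0, 0), (1, 2), (0, 0), (0, 0), (0, 0), (0, 0), (1, 0), (0, 0), (0, 0), (0, 0), (0, 0), (1, 2),
    (0, 0), (0, 0), (0, 0), (0, 0), (1, 0), (0, 0), (0, 0), (0, 0), (0, 0), (1, 0), (0, 0), (0, 0), (0,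
    0), (0, 0), (1, 1), (0, 0), (0, 0), (0, 0), (0, 0), (1, 4), (0, 0), (0, 0), (0, 0), (0, 0), (1, 1),
    (0, 0), (0, 0), (0, 0), (0, 0), (1, 4), (0, 0), (0, 0), (0, 0), (0, 0), (1, 4), (0, 0), (0, 0), (0,
    0), (0, 0), (1, 0), (0, 0), (0, 0), (0, 0), (0, 0), (1, 3), (0, 0), (0, 0), (0, 0), (0, 0), (1, 1),
    (0, 0), (0, 0), (0, 0), (0, 0), (1, 2), (0, 0), (0, 0), (0, 0), (0, 0)]

/-- the pairs off the two points, disjoint from the standard pair, in no common octad with them -/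
def clsNn : List ℕ := pairLit.filter fun m => !m.testBit 23 && !m.testBit 0 && (m &&& 6 == 0) && !inOct (m ||| 8388615)

set_option maxRecDepth 100000 in
theorem clsNn_check :
    growK tabsN certNn [24]
      (fun L => clsNn.all fun m => L.contains m) = true := by
  decide +kernel

theorem transNn : ∀ m ∈ clsNn, ∀ m' ∈ clsNn, ∃ g ∈ stabC [23, 0] [6], g • M m = M m' :=
  trans_of_cert (stabC [23, 0] [6]) tabsN htabsN 24 certNn clsNn
    clsNn_check

set_option maxRecDepth 100000 in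
/-- orbit certificate: the pairs off the two points meeting the standard pair in one point -/
def certNo : List (ℕ × ℕ) :=
  [(0, 0), (0, 0), (0, 0), (0, 0), (1, 0), (0, 0), (0, 0), (0, 0), (0, 0), (1, 0), (0, 0), (0, 0), (0,
    0), (0, 0), (1, 0), (0, 0), (0, 0), (0, 0), (0, 0), (1, 2), (0, 0), (0, 0), (0, 0), (0, 0), (1, 1),
    (0, 0), (0, 0), (0, 0), (0, 0), (1, 7), (0, 0), (0, 0), (0, 0), (0, 0), (1, 0), (0, 0), (0, 0), (0,
    0), (0, 0)]

/-- the pairs off the two points meeting the standard pair in one point -/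
def clsNo : List ℕ := pairLit.filter fun m => !m.testBit 23 && !m.testBit 0 && decide (wt24 (m &&& 6) = 1)

set_option maxRecDepth 100000 in
theorem clsNo_check :
    growK tabsN certNo [10]
      (fun L => clsNo.all fun m => L.contains m) = true := by
  decide +kernel

theorem transNo : ∀ m ∈ clsNo, ∀ m' ∈ clsNo, ∃ g ∈ stabC [23, 0] [6], g • M m = M m' :=
  trans_of_cert (stabC [23, 0] [6]) tabsN htabsN 10 certNo clsNo
    clsNo_check

end Cfsg.Agent.Lib.Helper9.M24Z5
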