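import Cfsg.Agent.Lib.Helper9.M24Z5
import Cfsg.Agent.Lib.Helper9.M24Z3
import Cfsg.Agent.Lib.Helper9.M24X10

set_option autoImplicit false

namespace Cfsg.Agent.Lib.Helper9.M24Z6

open Cfsg Finset Cfsg.Agent.Lib.Helper9.Golay1 Cfsg.Agent.Lib.Helper9.GolayQR1
  Cfsg.Agent.Lib.Helper9.GolayQR5
  Cfsg.Agent.Lib.Helper9.M24T1 Cfsg.Agent.Lib.Helper9.M24T3 Cfsg.Agent.Lib.Helper9.M24T5
  Cfsg.Agent.Lib.Helper9.M24T6 Cfsg.Agent.Lib.Helper9.M24T7
  Cfsg.Agent.Lib.Helper9.M24U1 Cfsg.Agent.Lib.Helper9.M24U2 Cfsg.Agent.Lib.Helper9.M24U3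
  Cfsg.Agent.Lib.Helper9.M24U4 Cfsg.Agent.Lib.Helper9.M24U5
  Cfsg.Agent.Lib.Helper9.M24X1 Cfsg.Agent.Lib.Helper9.M24X4 Cfsg.Agent.Lib.Helper9.M24X10
  Cfsg.Agent.Lib.Helper9.M24Y1
  Cfsg.Agent.Lib.Helper9.M24Z1 Cfsg.Agent.Lib.Helper9.M24Z3 Cfsg.Agent.Lib.Helper9.M24Z5
open scoped Pointwise

/-- the octad condition of the statement, as containment of one set in an octad -/
theorem exists_octad_iff (p q : GolayPt) (A : Finset GolayPt) :
    (∃ o ∈ octads, p ∈ o ∧ q ∈ o ∧ A ⊆ o) ↔ InOct ({p, q} ∪ A) := by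
  unfold InOct
  constructor
  · rintro ⟨o, ho, hp, hq, hA⟩
    refine ⟨o, ho, union_subset ?_ hA⟩
    intro x hx
    rcases mem_insert.mp hx with rfl | hx
    · exact hp
    · rw [mem_singleton.mp hx]; exact hq
  · rintro ⟨o, ho, h⟩
    exact ⟨o, ho, h (mem_union_left _ (by simp)), h (mem_union_left _ (by simp)),
      fun x hx => h (mem_union_right _ hx)⟩

/-- the standard pair -/
def S2 : Finset GolayPt := M 6

theorem S2_eq : S2 = {some 1, some 2} := by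
  ext p
  rw [S2, mem_M]
  revert p
  decide +kernel

theorem M_pq : M 8388609 = {none, some 0} := by
  ext p
  rw [mem_M]
  revert p
  decide +kernel

theorem lenNy : clsNy.length = 30 := by decide +kernel

theorem lenNn : clsNn.length = 160 := by decide +kernel

theorem prop_iff (m : ℕ) (hm : m < 2 ^ 24) :
    (((none : GolayPt) ∉ M m ∧ (some 0 : GolayPt) ∉ M m) ↔
        (!m.testBit 23 && !m.testBit 0) = true) ∧
    (Disjoint S2 (M m) ↔ (m &&& 6 == 0) = true) ∧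
    (InOct ({none, some 0} ∪ (S2 ∪ M m)) ↔ inOct (m ||| 8388615) = true) ∧
    ((S2 ∩ M m).card = 1 ↔ decide (wt24 (m &&& 6) = 1) = true) := by
  refine ⟨?_, ?_, ?_, ?_⟩
  · rw [mem_M, mem_M]
    change (¬ m.testBit 23 = true ∧ ¬ m.testBit 0 = true) ↔ _
    simp
  · rw [S2, M_disjoint_iff _ _ (by norm_num), Nat.land_comm, beq_iff_eq]
  · rw [inOct_iff _ (M24Z3.or_lt _ _ hm (by norm_num)), M_or, ← M_pq, S2, ← union_assoc, ← M_or,
      union_comm]
    rfl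
  · rw [S2, ← M_and, card_M, Nat.land_comm, decide_eq_true_eq]

/-- the condition on a pair in standard position -/
def Pstd (b : Prop) (x : Finset GolayPt) : Prop :=
  ((none : GolayPt) ∉ x ∧ (some 0 : GolayPt) ∉ x) ∧ Disjoint S2 x ∧ b

theorem count_std_yes :
    {x : Finset GolayPt | x.card = 2 ∧ ((none : GolayPt) ∉ x ∧ (some 0 : GolayPt) ∉ x) ∧
      Disjoint S2 x ∧ InOct ({none, some 0} ∪ (S2 ∪ x))}.ncard = 30 := by
  rw [← lenNy]
  apply ncard_class pairLit pairLit_nodup pairLit_lt {t : Finset GolayPt | t.card = 2}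
    mem_pairs_iff (fun x => ((none : GolayPt) ∉ x ∧ (some 0 : GolayPt) ∉ x) ∧
      Disjoint S2 x ∧ InOct ({none, some 0} ∪ (S2 ∪ x)))
  intro m hm
  obtain ⟨h1, h2, h3, -⟩ := prop_iff m (pairLit_lt m hm)
  rw [h1, h2, h3]
  simp only [Bool.and_eq_true, and_assoc]

theorem count_std_no :
    {x : Finset GolayPt | x.card = 2 ∧ ((none : GolayPt) ∉ x ∧ (some 0 : GolayPt) ∉ x) ∧
      Disjoint S2 x ∧ ¬ InOct ({none, some 0} ∪ (S2 ∪ x))}.ncard = 160 := by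
  rw [← lenNn]
  apply ncard_class pairLit pairLit_nodup pairLit_lt {t : Finset GolayPt | t.card = 2}
    mem_pairs_iff (fun x => ((none : GolayPt) ∉ x ∧ (some 0 : GolayPt) ∉ x) ∧
      Disjoint S2 x ∧ ¬ InOct ({none, some 0} ∪ (S2 ∪ x)))
  intro m hm
  obtain ⟨h1, h2, h3, -⟩ := prop_iff m (pairLit_lt m hm)
  rw [h1, h2, h3]
  simp only [Bool.and_eq_true, Bool.not_eq_true', Bool.not_eq_true, and_assoc]

theorem card_S2 : S2.card = 2 := by
  rw [S2, card_M]; decide +kernel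

theorem trans_std (x x' : Finset GolayPt) (hx : x.card = 2) (hx' : x'.card = 2)
    (hp : (none : GolayPt) ∉ x ∧ (some 0 : GolayPt) ∉ x)
    (hp' : (none : GolayPt) ∉ x' ∧ (some 0 : GolayPt) ∉ x')
    (hne : x ≠ S2) (hne' : x' ≠ S2) (hc : (S2 ∩ x).card = (S2 ∩ x').card)
    (h : InOct ({none, some 0} ∪ (S2 ∪ x)) ↔ InOct ({none, some 0} ∪ (S2 ∪ x'))) :
    ∃ g ∈ stabC [23, 0] [6], g • x = x' := by
  have hle : (S2 ∩ x).card ≤ 2 := by rw [← card_S2]; exact card_le_card inter_subset_left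
  have hne2 : ∀ y : Finset GolayPt, y.card = 2 → y ≠ S2 → (S2 ∩ y).card ≠ 2 := by
    intro y hy hyne h2
    apply hyne
    have e1 : S2 ∩ y = S2 := eq_of_subset_of_card_le inter_subset_left (by rw [h2, card_S2])
    have e2 : S2 ∩ y = y := eq_of_subset_of_card_le inter_subset_right (by rw [h2, hy])
    rw [← e2, e1]
  have hk2 := hne2 x hx hne
  obtain ⟨m, hm, rfl⟩ := (mem_pairs_iff x).mp hx
  obtain ⟨m', hm', rfl⟩ := (mem_pairs_iff x').mp hx'
  obtain ⟨h1, h2, h3, h4⟩ := prop_iff m (pairLit_lt m hm)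
  obtain ⟨h1', h2', h3', h4'⟩ := prop_iff m' (pairLit_lt m' hm')
  have hdis : ∀ y : Finset GolayPt, Disjoint S2 y ↔ (S2 ∩ y).card = 0 := by
    intro y
    rw [disjoint_iff_inter_eq_empty, card_eq_zero]
  by_cases h0 : (S2 ∩ M m).card = 0
  · have hd : Disjoint S2 (M m) := (hdis _).mpr h0
    have hd' : Disjoint S2 (M m') := (hdis _).mpr (by rw [← hc, h0])
    by_cases hy : InOct ({none, some 0} ∪ (S2 ∪ M m))
    · exact transNy m (List.mem_filter.mpr ⟨hm, by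
        rw [Bool.and_eq_true, Bool.and_eq_true]
        exact ⟨⟨h1.mp hp, h2.mp hd⟩, h3.mp hy⟩⟩) m' (List.mem_filter.mpr ⟨hm', by
        rw [Bool.and_eq_true, Bool.and_eq_true]
        exact ⟨⟨h1'.mp hp', h2'.mp hd'⟩, h3'.mp (h.mp hy)⟩⟩)
    · have hy' : ¬ InOct ({none, some 0} ∪ (S2 ∪ M m')) := fun h' => hy (h.mpr h')
      exact transNn m (List.mem_filter.mpr ⟨hm, by
        rw [Bool.and_eq_true, Bool.and_eq_true, Bool.not_eq_true', ← Bool.not_eq_true]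
        exact ⟨⟨h1.mp hp, h2.mp hd⟩, fun h' => hy (h3.mpr h')⟩⟩) m'
        (List.mem_filter.mpr ⟨hm', by
        rw [Bool.and_eq_true, Bool.and_eq_true, Bool.not_eq_true', ← Bool.not_eq_true]
        exact ⟨⟨h1'.mp hp', h2'.mp hd'⟩, fun h' => hy' (h3'.mpr h')⟩⟩)
  · have hk1 : (S2 ∩ M m).card = 1 := by omega
    exact transNo m (List.mem_filter.mpr ⟨hm, by
      rw [Bool.and_eq_true]
      exact ⟨h1.mp hp, h4.mp hk1⟩⟩) m' (List.mem_filter.mpr ⟨hm', by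
      rw [Bool.and_eq_true]
      exact ⟨h1'.mp hp', h4'.mp (by rw [← hc, hk1])⟩⟩)

/-- standard position for two points and a pair off them -/
theorem exists_std_pqs (p q : GolayPt) (hpq : p ≠ q) (s : Finset GolayPt)
    (hs : s.card = 2 ∧ p ∉ s ∧ q ∉ s) :
    ∃ t ∈ M24, t p = none ∧ t q = some 0 ∧ t • s = S2 := by
  obtain ⟨hs2, hps, hqs⟩ := hs
  obtain ⟨a, b, hab, rfl⟩ := card_eq_two.mp hs2
  have hpa : p ≠ a := fun h => hps (by rw [h]; simp)
  have hpb : p ≠ b := fun h => hps (by rw [h]; simp)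
  have hqa : q ≠ a := fun h => hqs (by rw [h]; simp)
  have hqb : q ≠ b := fun h => hqs (by rw [h]; simp)
  obtain ⟨t, ht, hmap⟩ := exists_map_list [p, q, a, b] [none, some 0, some 1, some 2]
    (by simp [hpq, hpa, hpb, hqa, hqb, hab]) (by decide) rfl (by simp)
  simp only [List.map_cons, List.map_nil, List.cons.injEq, and_true] at hmap
  obtain ⟨h1, h2, h3, h4⟩ := hmap
  refine ⟨t, ht, h1, h2, ?_⟩
  rw [smul_pair, h3, h4, S2_eq]

theorem duads_result (p q : GolayPt) (hpq : p ≠ q) (s : Finset GolayPt)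
    (hs : s.card = 2 ∧ p ∉ s ∧ q ∉ s) :
    {t : Finset GolayPt | (t.card = 2 ∧ p ∉ t ∧ q ∉ t) ∧ Disjoint s t ∧
      (∃ o ∈ octads, p ∈ o ∧ q ∈ o ∧ s ∪ t ⊆ o)}.ncard = 30 ∧
    {t : Finset GolayPt | (t.card = 2 ∧ p ∉ t ∧ q ∉ t) ∧ Disjoint s t ∧
      ¬ (∃ o ∈ octads, p ∈ o ∧ q ∈ o ∧ s ∪ t ⊆ o)}.ncard = 160 ∧
    ∀ t t' : Finset GolayPt, (t.card = 2 ∧ p ∉ t ∧ q ∉ t) → (t'.card = 2 ∧ p ∉ t' ∧ q ∉ t') →
      t ≠ s → t' ≠ s → (s ∩ t).card = (s ∩ t').card →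
      ((∃ o ∈ octads, p ∈ o ∧ q ∈ o ∧ s ∪ t ⊆ o) ↔ (∃ o ∈ octads, p ∈ o ∧ q ∈ o ∧ s ∪ t' ⊆ o)) →
      ∃ g : Equiv.Perm GolayPt, g ∈ M24 ∧ g p = p ∧ g q = q ∧ g • s = s ∧ g • t = t' := by
  obtain ⟨u, hu, hup, huq, hus⟩ := exists_std_pqs p q hpq s hs
  have huinv : u⁻¹ ∈ M24 := M24.inv_mem hu
  have hS : ∀ (v : Equiv.Perm GolayPt) (x : Finset GolayPt),
      x ∈ {x : Finset GolayPt | x.card = 2} → v • x ∈ {x : Finset GolayPt | x.card = 2} := by
    intro v x hx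
    rw [Set.mem_ofPred_eq] at hx ⊢
    rw [Finset.card_smul_finset, hx]
  have e1 : ∀ x : Finset GolayPt, Disjoint s (u⁻¹ • x) ↔ Disjoint S2 x := by
    intro x
    rw [← disjoint_smul u, smul_inv_smul, hus]
  have e2 : ∀ x : Finset GolayPt, InOct ({p, q} ∪ (s ∪ u⁻¹ • x)) ↔
      InOct ({none, some 0} ∪ (S2 ∪ x)) := by
    intro x
    rw [← inOct_smul u hu, smul_finset_union, smul_finset_union, smul_inv_smul, hus, smul_pair,
      hup, huq]
  have e3 : ∀ x : Finset GolayPt, InOct ({p, q} ∪ (s ∪ x)) ↔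
      InOct ({none, some 0} ∪ (S2 ∪ u • x)) := by
    intro x
    rw [← inOct_smul u hu, smul_finset_union, smul_finset_union, hus, smul_pair, hup, huq]
  refine ⟨?_, ?_, ?_⟩
  · rw [← count_std_yes]
    have : {t : Finset GolayPt | (t.card = 2 ∧ p ∉ t ∧ q ∉ t) ∧ Disjoint s t ∧
        (∃ o ∈ octads, p ∈ o ∧ q ∈ o ∧ s ∪ t ⊆ o)} =
        {t : Finset GolayPt | t ∈ {x : Finset GolayPt | x.card = 2} ∧ ((p ∉ t ∧ q ∉ t) ∧
          Disjoint s t ∧ InOct ({p, q} ∪ (s ∪ t)))} := by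
      ext t
      simp only [Set.mem_ofPred_eq, exists_octad_iff, and_assoc]
    rw [this]
    apply ncard_smul u⁻¹ {x : Finset GolayPt | x.card = 2} (hS _) (hS _)
      (fun t => (p ∉ t ∧ q ∉ t) ∧ Disjoint s t ∧ InOct ({p, q} ∪ (s ∪ t)))
    intro x
    rw [mem_inv_smul, mem_inv_smul, hup, huq, e1, e2]
  · rw [← count_std_no]
    have : {t : Finset GolayPt | (t.card = 2 ∧ p ∉ t ∧ q ∉ t) ∧ Disjoint s t ∧
        ¬ (∃ o ∈ octads, p ∈ o ∧ q ∈ o ∧ s ∪ t ⊆ o)} =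
        {t : Finset GolayPt | t ∈ {x : Finset GolayPt | x.card = 2} ∧ ((p ∉ t ∧ q ∉ t) ∧
          Disjoint s t ∧ ¬ InOct ({p, q} ∪ (s ∪ t)))} := by
      ext t
      simp only [Set.mem_ofPred_eq, exists_octad_iff, and_assoc]
    rw [this]
    apply ncard_smul u⁻¹ {x : Finset GolayPt | x.card = 2} (hS _) (hS _)
      (fun t => (p ∉ t ∧ q ∉ t) ∧ Disjoint s t ∧ ¬ InOct ({p, q} ∪ (s ∪ t)))
    intro x
    rw [mem_inv_smul, mem_inv_smul, hup, huq, e1, e2]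
  · intro t t' ht ht' hne hne' hc h
    rw [exists_octad_iff, exists_octad_iff, e3, e3] at h
    obtain ⟨g, hg, hgt⟩ := trans_std (u • t) (u • t')
      (by rw [Finset.card_smul_finset, ht.1]) (by rw [Finset.card_smul_finset, ht'.1])
      ⟨by rw [← hup, smul_mem_iff]; exact ht.2.1, by rw [← huq, smul_mem_iff]; exact ht.2.2⟩
      ⟨by rw [← hup, smul_mem_iff]; exact ht'.2.1, by rw [← huq, smul_mem_iff]; exact ht'.2.2⟩
      (by rw [← hus]; exact fun h' => hne (smul_left_cancel u h'))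
      (by rw [← hus]; exact fun h' => hne' (smul_left_cancel u h'))
      (by rw [← hus, ← smul_finset_inter, ← smul_finset_inter, Finset.card_smul_finset,
        Finset.card_smul_finset, hc]) h
    obtain ⟨hgM, hgx, hgo⟩ := (mem_stabC _ _ g).mp hg
    have hgp : g none = none := hgx 23 (by simp)
    have hgq : g (some 0) = some 0 := hgx 0 (by simp)
    have hgs : g • S2 = S2 := hgo 6 (by simp)
    refine ⟨u⁻¹ * g * u, M24.mul_mem (M24.mul_mem huinv hgM) hu, ?_, ?_, ?_, ?_⟩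
    · rw [Equiv.Perm.mul_apply, Equiv.Perm.mul_apply, hup, hgp, ← hup, Chain1.inv_apply_self']
    · rw [Equiv.Perm.mul_apply, Equiv.Perm.mul_apply, huq, hgq, ← huq, Chain1.inv_apply_self']
    · rw [mul_smul, mul_smul, hus, hgs, ← hus, inv_smul_smul]
    · rw [mul_smul, mul_smul, hgt, inv_smul_smul]

end Cfsg.Agent.Lib.Helper9.M24Z6
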