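import Cfsg.Agent.Lib.Helper9.M24X1

set_option autoImplicit false

namespace Cfsg.Agent.Lib.Helper9.M24Z8

open Cfsg Finset Cfsg.Agent.Lib.Helper9.Golay1 Cfsg.Agent.Lib.Helper9.GolayQR1
  Cfsg.Agent.Lib.Helper9.M24T1 Cfsg.Agent.Lib.Helper9.M24T3 Cfsg.Agent.Lib.Helper9.M24T8
  Cfsg.Agent.Lib.Helper9.M24T9
  Cfsg.Agent.Lib.Helper9.M24U1 Cfsg.Agent.Lib.Helper9.M24U2 Cfsg.Agent.Lib.Helper9.M24U3
  Cfsg.Agent.Lib.Helper9.M24U4 Cfsg.Agent.Lib.Helper9.M24U6 Cfsg.Agent.Lib.Helper9.M24X1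
open scoped Pointwise

/-- generator `R1` -/
def R1 : Equiv.Perm GolayPt :=
  tperm [22, 2, 5, 4, 0, 18, 6, 3, 19, 17, 20, 1, 15, 9, 14, 10, 12, 8, 11, 13, 16, 21, 7, 23]
    [4, 11, 1, 7, 3, 2, 6, 22, 17, 13, 15, 18, 16, 19, 14, 12, 20, 9, 5, 8, 10, 21, 0, 23] (by decide +kernel) (by decide +kernel)

theorem R1_mem : R1 ∈ M24 := tperm_mem _ _ _ _ (by decide +kernel) (by decide +kernel)

theorem R1_smul (m : ℕ) : R1 • M m = M (pull [4, 11, 1, 7, 3, 2, 6, 22, 17, 13, 15, 18, 16, 19, 14, 12, 20, 9, 5, 8, 10, 21, 0, 23] m) :=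
  tperm_smul_M _ _ _ _ (by decide +kernel) m

theorem R1_stab : R1 ∈ stabC [23, 6] [dMask] := by
  exact tperm_mem_stabC _ _ _ _ (by decide +kernel) (by decide +kernel) (by decide +kernel)
    [23, 6] [dMask] (by decide +kernel) (by decide +kernel)

/-- generator `R2` -/
def R2 : Equiv.Perm GolayPt :=
  tperm [4, 2, 3, 21, 22, 0, 6, 1, 16, 20, 14, 7, 19, 17, 8, 13, 12, 9, 5, 15, 10, 18, 11, 23]
    [5, 7, 1, 2, 0, 18, 6, 11, 14, 17, 20, 22, 16, 15, 10, 19, 8, 13, 21, 12, 9, 3, 4, 23] (by decide +kernel) (by decide +kernel)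

theorem R2_mem : R2 ∈ M24 := tperm_mem _ _ _ _ (by decide +kernel) (by decide +kernel)

theorem R2_smul (m : ℕ) : R2 • M m = M (pull [5, 7, 1, 2, 0, 18, 6, 11, 14, 17, 20, 22, 16, 15, 10, 19, 8, 13, 21, 12, 9, 3, 4, 23] m) :=
  tperm_smul_M _ _ _ _ (by decide +kernel) m

theorem R2_stab : R2 ∈ stabC [23, 6] [dMask] := by
  exact tperm_mem_stabC _ _ _ _ (by decide +kernel) (by decide +kernel) (by decide +kernel)
    [23, 6] [dMask] (by decide +kernel) (by decide +kernel)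

/-- the inverse tables of the generators -/
def tabsR : List (List ℕ) :=
  [[4, 11, 1, 7, 3, 2, 6, 22, 17, 13, 15, 18, 16, 19, 14, 12, 20, 9, 5, 8, 10, 21, 0, 23],
    [5, 7, 1, 2, 0, 18, 6, 11, 14, 17, 20, 22, 16, 15, 10, 19, 8, 13, 21, 12, 9, 3, 4, 23]]

theorem htabsR : ∀ t ∈ tabsR, ∃ h ∈ stabC [23, 6] [dMask], ∀ m, h • M m = M (pull t m) := by
  intro t ht
  simp only [tabsR, List.mem_cons, List.not_mem_nil, or_false] at ht
  rcases ht with rfl | rfl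
  · exact ⟨R1, R1_stab, R1_smul⟩
  · exact ⟨R2, R2_stab, R2_smul⟩

end Cfsg.Agent.Lib.Helper9.M24Z8
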