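import Cfsg.Agent.Lib.Helper6.MIdxQ1
import Cfsg.Agent.Lib.Helper6.MIdxQ9a

/-! S1589 farm, piece Q9b (helper9), main part: `tetrads` given an octad `O` with `fixS O ≤ K`. -/

set_option autoImplicit false
set_option maxHeartbeats 1000000

namespace Cfsg.Agent.Lib.Helper6.MIdx

open Cfsg Finset MulAction Cfsg.Agent.Lib.Helper9.OutM Cfsg.Agent.Lib.Helper9.M24T3
  Cfsg.Agent.Lib.Helper9.M24T9 Cfsg.Agent.Lib.Helper9.M24P1
open scoped Pointwise

theorem h9_conj_pow_five (g f : Equiv.Perm GolayPt) (hf : f ^ 5 = 1) : (g⁻¹ * f * g) ^ 5 = 1 := by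
  have h : g⁻¹ * f * g = g⁻¹ * f * (g⁻¹)⁻¹ := by rw [inv_inv]
  rw [h, conj_pow, hf]; simp

theorem h9_conj_ne_one (g f : Equiv.Perm GolayPt) (hf : f ≠ 1) : g⁻¹ * f * g ≠ 1 := by
  intro h
  apply hf
  have : f = g * (g⁻¹ * f * g) * g⁻¹ := by group
  rw [this, h]; group

theorem h9_tetrads_aux (K : Subgroup (Equiv.Perm GolayPt)) (hK : K ≤ M24) (hc : Nat.card K = 138240)
    (O : Finset GolayPt) (hO : O ∈ octads) (hE : fixS O ≤ K) :
    ∃ T : GolayPt → Finset GolayPt, (∀ c, (T c).card = 4 ∧ c ∈ T c) ∧ (∀ c d, d ∈ T c → T d = T c) ∧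
      (∀ g ∈ K, ∀ c, g • T c = T (g c)) ∧ (∀ c c', T c ≠ T c' → T c ∪ T c' ∈ octads) := by
  classical
  have htr : Trans K := trans_of_orb24 K (orb_eq24 K hK (Or.inr hc))
  have hcpt : ∀ c, Nat.card ↥(pt K c) = 5760 := by
    intro c
    have := card_of_trans K htr c
    omega
  have : Fact (Nat.Prime 5) := ⟨by norm_num⟩
  -- a 5-element in every point stabilizer
  have hex5 : ∀ c, ∃ f ∈ pt K c, f ≠ 1 ∧ f ^ 5 = 1 := by
    intro c
    exact exists_prime_order (pt K c) 5 (by rw [hcpt c]; norm_num) (by rw [hcpt c]; norm_num)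
  have hO8 : O.card = 8 := hO.2
  obtain ⟨x0, hx0⟩ : ∃ x0, x0 ∈ O := by
    apply Finset.card_pos.mp
    rw [hO8]; norm_num
  obtain ⟨T0, hT0c, hx0T0, hT0O, hT0tr, hT0fix⟩ := tetrad_at K hK hc O hO hE x0 hx0
  -- all 5-elements of `pt K (g x0)` have fixed point set `g • T0`
  have hfixg : ∀ g ∈ K, ∀ f ∈ pt K (g x0), f ≠ 1 → f ^ 5 = 1 → fixF f = g • T0 := by
    intro g hg f hf hf1 hf5
    have h1 := hT0fix (g⁻¹ * f * g) ((pt_conj K g hg x0 f).mp hf) (h9_conj_ne_one g f hf1)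
      (h9_conj_pow_five g f hf5)
    have h2 : f = g * (g⁻¹ * f * g) * g⁻¹ := by group
    rw [h2, fixF_conj, h1]
  choose γ hγK hγx using fun c => htr x0 c
  refine ⟨fun c => γ c • T0, ?_, ?_, ?_, ?_⟩
  all_goals
    -- key lemma: 5-elements of `pt K c` have fixed point set `T c`
    have hKL : ∀ c, ∀ f ∈ pt K c, f ≠ 1 → f ^ 5 = 1 → fixF f = γ c • T0 := by
      intro c f hf hf1 hf5
      have hf' : f ∈ pt K (γ c x0) := by rw [hγx c]; exact hf
      exact hfixg (γ c) (hγK c) f hf' hf1 hf5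
    -- independence of the representative
    have hP0 : ∀ g ∈ K, ∀ c, g x0 = c → g • T0 = γ c • T0 := by
      intro g hg c hgc
      obtain ⟨f, hf, hf1, hf5⟩ := hex5 c
      have hf' : f ∈ pt K (g x0) := by rw [hgc]; exact hf
      rw [← hfixg g hg f hf' hf1 hf5, hKL c f hf hf1 hf5]
  · -- (1)
    intro c
    refine ⟨by rw [Finset.card_smul_finset, hT0c], ?_⟩
    have h1 : γ c • x0 ∈ γ c • T0 := Finset.smul_mem_smul_finset hx0T0
    rw [Equiv.Perm.smul_def, hγx c] at h1
    exact h1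
  · -- (2)
    intro c d hd
    show γ d • T0 = γ c • T0
    obtain ⟨f, hf, hf1, hf5⟩ := hex5 c
    have h1 := hKL c f hf hf1 hf5
    have hfd : f d = d := by
      have : d ∈ fixF f := by rw [h1]; exact hd
      exact (mem_fixF f d).mp this
    have hf' : f ∈ pt K d := Subgroup.mem_inf.mpr ⟨(Subgroup.mem_inf.mp hf).1, mem_stabilizer_iff.mpr hfd⟩
    rw [← hKL d f hf' hf1 hf5, h1]
  · -- (3)
    intro g hg c
    show g • (γ c • T0) = γ (g c) • T0
    rw [smul_smul]
    apply hP0 (g * γ c) (K.mul_mem hg (hγK c)) (g c)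
    rw [Equiv.Perm.mul_apply, hγx c]
  · -- (4)
    -- restate (1)-(3) locally
    have hT1 : ∀ c, (γ c • T0).card = 4 ∧ c ∈ γ c • T0 := by
      intro c
      refine ⟨by rw [Finset.card_smul_finset, hT0c], ?_⟩
      have h1 : γ c • x0 ∈ γ c • T0 := Finset.smul_mem_smul_finset hx0T0
      rw [Equiv.Perm.smul_def, hγx c] at h1
      exact h1
    have hT2 : ∀ c d, d ∈ γ c • T0 → γ d • T0 = γ c • T0 := by
      intro c d hd
      obtain ⟨f, hf, hf1, hf5⟩ := hex5 c
      have h1 := hKL c f hf hf1 hf5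
      have hfd : f d = d := by
        have : d ∈ fixF f := by rw [h1]; exact hd
        exact (mem_fixF f d).mp this
      have hf' : f ∈ pt K d := Subgroup.mem_inf.mpr ⟨(Subgroup.mem_inf.mp hf).1, mem_stabilizer_iff.mpr hfd⟩
      rw [← hKL d f hf' hf1 hf5, h1]
    have hT3 : ∀ g ∈ K, ∀ c, g • (γ c • T0) = γ (g c) • T0 := by
      intro g hg c
      rw [smul_smul]
      apply hP0 (g * γ c) (K.mul_mem hg (hγK c)) (g c)
      rw [Equiv.Perm.mul_apply, hγx c]
    -- `T x0 = T0`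
    have hTx0 : γ x0 • T0 = T0 := by
      have := hP0 1 K.one_mem x0 rfl
      rw [one_smul] at this
      exact this.symm
    -- Step a: for `c ∈ O`, `T c ⊆ O`
    have hstepa : ∀ c ∈ O, γ c • T0 ⊆ O := by
      intro c hcO
      obtain ⟨T', _, _, hT'O, _, hT'fix⟩ := tetrad_at K hK hc O hO hE c hcO
      obtain ⟨f, hf, hf1, hf5⟩ := hex5 c
      rw [← hKL c f hf hf1 hf5, hT'fix f hf hf1 hf5]
      exact hT'O
    -- Step b: a point of `O` off `T0`
    obtain ⟨c1, hc1O, hc1T⟩ : ∃ c1 ∈ O, c1 ∉ T0 := by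
      by_contra hcon
      push Not at hcon
      have : O ⊆ T0 := hcon
      have := Finset.card_le_card this
      omega
    have hdisj : Disjoint T0 (γ c1 • T0) := by
      rw [Finset.disjoint_left]
      intro d hd0 hd1
      have h1 := hT2 c1 d hd1
      have h2 := hT2 x0 d (by rw [hTx0]; exact hd0)
      rw [hTx0] at h2
      apply hc1T
      rw [← h2, h1]
      exact (hT1 c1).2
    have hunion : T0 ∪ γ c1 • T0 = O := by
      apply Finset.eq_of_subset_of_card_le (Finset.union_subset hT0O (hstepa c1 hc1O))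
      rw [Finset.card_union_of_disjoint hdisj, hT0c, (hT1 c1).1, hO8]
    -- Step c
    have hstepc : ∀ c', c' ∉ T0 → T0 ∪ γ c' • T0 ∈ octads := by
      intro c' hc'
      obtain ⟨h, hh, hhc⟩ := hT0tr c1 c' hc1T hc'
      have hhK : h ∈ K := (Subgroup.mem_inf.mp hh).1
      have hhx : h x0 = x0 := mem_stabilizer_iff.mp (Subgroup.mem_inf.mp hh).2
      have h1 : h • T0 = T0 := by
        have := hT3 h hhK x0
        rw [hhx, hTx0] at this
        exact this
      have h2 : h • (γ c1 • T0) = γ c' • T0 := by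
        have := hT3 h hhK c1
        rw [hhc] at this
        exact this
      have h3 : T0 ∪ γ c' • T0 = h • O := by
        rw [← hunion, Finset.smul_finset_union, h1, h2]
      rw [h3]
      exact Cfsg.Agent.Lib.Helper9.M24T1.smul_octad_mem h (hK hhK) O hO
    -- Step d
    intro c c' hne
    show γ c • T0 ∪ γ c' • T0 ∈ octads
    set c'' := (γ c)⁻¹ c' with hc''
    have hgc'' : γ c c'' = c' := by rw [hc'']; simp
    have hc''T : c'' ∉ T0 := by
      intro hmem
      apply hne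
      show γ c • T0 = γ c' • T0
      have h1 := hT2 x0 c'' (by rw [hTx0]; exact hmem)
      rw [hTx0] at h1
      have h2 := hT3 (γ c) (hγK c) c''
      rw [hgc'', h1] at h2
      exact h2
    have h4 := hstepc c'' hc''T
    have h5 : γ c • T0 ∪ γ c' • T0 = γ c • (T0 ∪ γ c'' • T0) := by
      rw [Finset.smul_finset_union]
      have h2 := hT3 (γ c) (hγK c) c''
      rw [hgc''] at h2
      rw [h2]
    rw [h5]
    exact Cfsg.Agent.Lib.Helper9.M24T1.smul_octad_mem (γ c) (hK (hγK c)) _ h4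

end Cfsg.Agent.Lib.Helper6.MIdx
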