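import Mathlib
import Cfsg.Prelude.Def_MonsterType
import Cfsg.Agent.Lib.Helper4.ES2E

/-!
# Monster type, part a: the squaring form of an extraspecial 2-group

For a group `E` with elementwise extraspecial data `Data ⊤ z0` (helper4's `ES2`): the map
`sqv x = [x * x ≠ 1] : ZMod 2` is a quadratic form (cube identity), it is constant on cosets of the
centre and invariant under automorphisms.
-/

set_option autoImplicit false

namespace Cfsg.Agent.Lib.Helper9.MTa

open Cfsg.Agent.Lib.Helper4.ES2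

variable {E : Type*} [Group E]

open Classical in
/-- indicator of `c ≠ 1` with values in `ZMod 2` -/
noncomputable def iv (c : E) : ZMod 2 := if c = 1 then 0 else 1

/-- the squaring indicator -/
noncomputable def sqv (x : E) : ZMod 2 := iv (x * x)

theorem iv_one : iv (1 : E) = 0 := by simp [iv]

theorem iv_ne {c : E} (h : c ≠ 1) : iv c = 1 := by simp [iv, h]

theorem iv_eq_zero_iff {c : E} : iv c = 0 ↔ c = 1 := by
  unfold iv
  split_ifs with h
  · simp [h]
  · simp [h]

theorem sqv_eq_zero_iff {x : E} : sqv x = 0 ↔ x * x = 1 := iv_eq_zero_iff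

variable {z0 : E}

theorem iv_mul (h : Data (⊤ : Subgroup E) z0) {c d : E} (hc : c = 1 ∨ c = z0) (hd : d = 1 ∨ d = z0) :
    iv (c * d) = iv c + iv d := by
  have h2 : (1 : ZMod 2) + 1 = 0 := by decide
  rcases hc with rfl | rfl <;> rcases hd with rfl | rfl
  · simp [iv_one]
  · simp [iv_one]
  · simp [iv_one]
  · rw [h.z_sq, iv_one, iv_ne h.z_ne, h2]

theorem mem_pair_mul (h : Data (⊤ : Subgroup E) z0) {c d : E} (hc : c = 1 ∨ c = z0)
    (hd : d = 1 ∨ d = z0) : c * d = 1 ∨ c * d = z0 := by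
  rcases hc with rfl | rfl <;> rcases hd with rfl | rfl
  · left; simp
  · right; simp
  · right; simp
  · left; exact h.z_sq

/-- `sqv (a b) = β(a, b) + sqv a + sqv b` -/
theorem sqv_mul (h : Data (⊤ : Subgroup E) z0) (a b : E) :
    sqv (a * b) = iv (cm a b) + sqv a + sqv b := by
  have hm : ∀ x : E, x ∈ (⊤ : Subgroup E) := fun _ => Subgroup.mem_top _
  unfold sqv
  rw [h.sq_mul (hm a) (hm b)]
  have h1 := h.comm_mem a (hm a) b (hm b)
  have h2 := h.sq_mem a (hm a)
  have h3 := h.sq_mem b (hm b)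
  rw [iv_mul h (mem_pair_mul h h1 h2) h3, iv_mul h h1 h2]

theorem iv_cm_mul_left (h : Data (⊤ : Subgroup E) z0) (a b c : E) :
    iv (cm (a * b) c) = iv (cm a c) + iv (cm b c) := by
  have hm : ∀ x : E, x ∈ (⊤ : Subgroup E) := fun _ => Subgroup.mem_top _
  rw [h.cm_mul_left (hm a) (hm b) (hm c)]
  exact iv_mul h (h.comm_mem a (hm a) c (hm c)) (h.comm_mem b (hm b) c (hm c))

/-- the cube identity: `sqv` is a quadratic form -/
theorem sqv_cube (h : Data (⊤ : Subgroup E) z0) (a b c : E) :
    sqv (a * b * c) + sqv a + sqv b + sqv c = sqv (a * b) + sqv (a * c) + sqv (b * c) := by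
  rw [sqv_mul h (a * b) c, iv_cm_mul_left h a b c, sqv_mul h a b, sqv_mul h a c, sqv_mul h b c]
  ring

/-- `sqv` is constant on cosets of `{1, z0}` -/
theorem sqv_mul_central (h : Data (⊤ : Subgroup E) z0) (a : E) {c : E} (hc : c = 1 ∨ c = z0) :
    sqv (a * c) = sqv a := by
  rcases hc with hc | hc <;> rw [hc]
  · rw [mul_one]
  · have hm : ∀ x : E, x ∈ (⊤ : Subgroup E) := fun _ => Subgroup.mem_top _
    rw [sqv_mul h, (cm_eq_one_iff).mpr (h.z_comm a (hm a)), iv_one, zero_add]
    have : sqv z0 = 0 := sqv_eq_zero_iff.mpr h.z_sq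
    rw [this, add_zero]

theorem mem_center_iff (h : Data (⊤ : Subgroup E) z0) (c : E) :
    c ∈ Subgroup.center E ↔ c = 1 ∨ c = z0 := by
  have hm : ∀ x : E, x ∈ (⊤ : Subgroup E) := fun _ => Subgroup.mem_top _
  constructor
  · intro hc
    apply h.center_sub c (hm c)
    intro q _
    exact (Subgroup.mem_center_iff.mp hc q)
  · rintro (rfl | rfl)
    · exact Subgroup.one_mem _
    · rw [Subgroup.mem_center_iff]
      intro q
      exact h.z_comm q (hm q)

/-- `sqv` descends to `E ⧸ center E` -/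
theorem sqv_congr (h : Data (⊤ : Subgroup E) z0) {a b : E}
    (hab : (QuotientGroup.mk a : E ⧸ Subgroup.center E) = QuotientGroup.mk b) : sqv a = sqv b := by
  have h1 : a⁻¹ * b ∈ Subgroup.center E := QuotientGroup.eq.mp hab
  have h2 := (mem_center_iff h _).mp h1
  have h3 : b = a * (a⁻¹ * b) := by group
  rw [h3, sqv_mul_central h a h2]

theorem sqv_conj (g a : E) : sqv (g * a * g⁻¹) = sqv a := by
  have h1 : g * a * g⁻¹ * (g * a * g⁻¹) = g * (a * a) * g⁻¹ := by group
  by_cases h : a * a = 1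
  · rw [sqv_eq_zero_iff.mpr h, sqv_eq_zero_iff, h1, h]; group
  · have h' : g * a * g⁻¹ * (g * a * g⁻¹) ≠ 1 := by
      rw [h1]
      intro h2
      apply h
      have : a * a = g⁻¹ * (g * (a * a) * g⁻¹) * g := by group
      rw [this, h2]; group
    unfold sqv
    rw [iv_ne h, iv_ne h']

/-- a group all of whose squares are trivial is commutative -/
theorem comm_of_sq {H : Subgroup E} (hsq : ∀ a ∈ H, a * a = 1) : ∀ a ∈ H, ∀ b ∈ H, a * b = b * a := by
  intro a ha b hb
  have h1 := hsq (a * b) (H.mul_mem ha hb)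
  have h2 := hsq a ha
  have h3 := hsq b hb
  have ha' : a⁻¹ = a := inv_eq_of_mul_eq_one_right h2
  have hb' : b⁻¹ = b := inv_eq_of_mul_eq_one_right h3
  calc a * b = (a * b)⁻¹ := (inv_eq_of_mul_eq_one_right h1).symm
    _ = b⁻¹ * a⁻¹ := mul_inv_rev a b
    _ = b * a := by rw [ha', hb']

/-- an extraspecial 2-group has an element of order 4 -/
theorem exists_sq_ne_one [Finite E] (hE : Cfsg.IsExtraspecial 2 E) (hcard : 2 < Nat.card E) :
    ∃ x : E, x * x ≠ 1 := by
  by_contra hno
  push_neg at hno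
  have hcomm : ∀ a b : E, a * b = b * a := by
    intro a b
    exact comm_of_sq (H := ⊤) (fun a _ => hno a) a (Subgroup.mem_top _) b (Subgroup.mem_top _)
  have hc : Subgroup.center E = ⊤ := by
    rw [eq_top_iff]
    intro x _
    rw [Subgroup.mem_center_iff]
    intro g
    exact hcomm g x
  have h2 := hE.2
  rw [hc, Subgroup.card_top] at h2
  omega

end Cfsg.Agent.Lib.Helper9.MTa
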