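import Cfsg.Agent.Lib.Helper9.MTa
import Cfsg.Agent.S5552
import Cfsg.Agent.S5553

/-!
# Monster type, part b: the squaring form of `Q` is the norm form of the Leech lattice mod 2

Setting: `C = C_G(z)`, `Q ⊴ C` extraspecial, `e : C ⧸ Q ≃* Co1`, `ψ : Λ → Q ⧸ Z(Q)` a module isomorphism
modulo `2Λ` (`Cfsg.IsLeechModTwoIso`).  Then `x * x = 1 ↔ sqNorm v / 16` is even, whenever `ψ v = x Z(Q)`
(by the proved row S5552), and `Q` has an elementary abelian subgroup of index `2 ^ 12` (S5553).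
-/

set_option autoImplicit false

namespace Cfsg.Agent.Lib.Helper9.MTb

open Cfsg Cfsg.Agent.Lib.Helper4.ES2 Cfsg.Agent.Lib.Helper9.MTa

variable {G : Type*} [Group G] {z : G}
  {Q : Subgroup (Subgroup.centralizer ({z} : Set G))} [Q.Normal]

/-- the quadratic form on the lattice pulled back from `Q ⧸ Z(Q)` -/
noncomputable def Qf (ψ : leechLattice → Q ⧸ Subgroup.center Q) (v : leechLattice) : ZMod 2 :=
  sqv (Quotient.out (ψ v))

variable {e : (Subgroup.centralizer ({z} : Set G)) ⧸ Q ≃* Spor.Co1}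
  {ψ : leechLattice → Q ⧸ Subgroup.center Q}

theorem psi_zero (hψ : IsLeechModTwoIso Q e ψ) : ψ 0 = 1 := by
  have h := hψ.1 0 0
  rw [add_zero] at h
  exact (mul_eq_left (a := ψ 0)).mp h.symm

theorem psi_double (hψ : IsLeechModTwoIso Q e ψ) (w : leechLattice) : ψ (w + w) = 1 :=
  (hψ.2.2.1 (w + w)).mpr ⟨w, rfl⟩

theorem psi_neg (hψ : IsLeechModTwoIso Q e ψ) (v : leechLattice) : ψ (-v) = (ψ v)⁻¹ := by
  have h := hψ.1 (-v) v
  rw [neg_add_cancel, psi_zero hψ] at h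
  exact eq_inv_of_mul_eq_one_left h.symm

variable {z0 : Q}

theorem Qf_eq (hD : Data (⊤ : Subgroup Q) z0) (v : leechLattice) (x : Q)
    (hx : ψ v = QuotientGroup.mk x) : Qf ψ v = sqv x := by
  unfold Qf
  apply sqv_congr hD
  rw [← hx]
  exact QuotientGroup.out_eq' (ψ v)

theorem Qf_coset (hψ : IsLeechModTwoIso Q e ψ) (v w : leechLattice) :
    Qf ψ (v + (w + w)) = Qf ψ v := by
  unfold Qf
  rw [hψ.1, psi_double hψ, mul_one]

theorem Qf_quad (hD : Data (⊤ : Subgroup Q) z0) (hψ : IsLeechModTwoIso Q e ψ)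
    (u v w : leechLattice) :
    Qf ψ (u + v + w) + Qf ψ u + Qf ψ v + Qf ψ w = Qf ψ (u + v) + Qf ψ (u + w) + Qf ψ (v + w) := by
  obtain ⟨a, ha⟩ := QuotientGroup.mk_surjective (ψ u)
  obtain ⟨b, hb⟩ := QuotientGroup.mk_surjective (ψ v)
  obtain ⟨c, hc⟩ := QuotientGroup.mk_surjective (ψ w)
  have h1 : ψ (u + v + w) = QuotientGroup.mk (a * b * c) := by
    rw [hψ.1, hψ.1, ← ha, ← hb, ← hc]; rfl
  have h2 : ψ (u + v) = QuotientGroup.mk (a * b) := by rw [hψ.1, ← ha, ← hb]; rfl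
  have h3 : ψ (u + w) = QuotientGroup.mk (a * c) := by rw [hψ.1, ← ha, ← hc]; rfl
  have h4 : ψ (v + w) = QuotientGroup.mk (b * c) := by rw [hψ.1, ← hb, ← hc]; rfl
  rw [Qf_eq hD _ _ h1, Qf_eq hD _ _ h2, Qf_eq hD _ _ h3, Qf_eq hD _ _ h4, Qf_eq hD _ _ ha.symm,
    Qf_eq hD _ _ hb.symm, Qf_eq hD _ _ hc.symm]
  exact sqv_cube hD a b c

theorem Qf_inv (hD : Data (⊤ : Subgroup Q) z0) (hψ : IsLeechModTwoIso Q e ψ) (g : Co0)
    (v : leechLattice) : Qf ψ (g • v) = Qf ψ v := by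
  obtain ⟨q, hq⟩ := QuotientGroup.mk_surjective (ψ v)
  obtain ⟨h, hh⟩ := QuotientGroup.mk_surjective (e.symm (QuotientGroup.mk g : Spor.Co1))
  have hg : (QuotientGroup.mk g : Spor.Co1) = e (QuotientGroup.mk h) := by
    rw [hh, MulEquiv.apply_symm_apply]
  have h1 := hψ.2.2.2 h g hg v q hq.symm
  rw [Qf_eq hD _ _ h1, Qf_eq hD _ _ hq.symm]
  have : (⟨h * q * h⁻¹, (inferInstance : Q.Normal).conj_mem
      (q : Subgroup.centralizer ({z} : Set G)) q.2 h⟩ : Q) * ⟨h * q * h⁻¹,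
      (inferInstance : Q.Normal).conj_mem (q : Subgroup.centralizer ({z} : Set G)) q.2 h⟩ = 1 ↔
      q * q = 1 := by
    constructor
    · intro h2
      have h3 := congrArg (fun t : Q => ((t : Subgroup.centralizer ({z} : Set G)))) h2
      simp only [Subgroup.coe_mul, Subgroup.coe_one] at h3
      have h4 : (q : Subgroup.centralizer ({z} : Set G)) * q = 1 := by
        have : (q : Subgroup.centralizer ({z} : Set G)) * q =
            h⁻¹ * (h * q * h⁻¹ * (h * q * h⁻¹)) * h := by group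
        rw [this, h3]; group
      apply Subtype.ext
      simpa using h4
    · intro h2
      have h4 : (q : Subgroup.centralizer ({z} : Set G)) * q = 1 := by
        have := congrArg (fun t : Q => ((t : Subgroup.centralizer ({z} : Set G)))) h2
        simpa using this
      apply Subtype.ext
      simp only [Subgroup.coe_mul, Subgroup.coe_one]
      have : h * (q : Subgroup.centralizer ({z} : Set G)) * h⁻¹ * (h * q * h⁻¹) =
          h * ((q : Subgroup.centralizer ({z} : Set G)) * q) * h⁻¹ := by group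
      rw [this, h4]; group
  by_cases hq1 : q * q = 1
  · rw [sqv_eq_zero_iff.mpr hq1, sqv_eq_zero_iff.mpr (this.mpr hq1)]
  · have h5 := fun hh => hq1 (this.mp hh)
    unfold sqv
    rw [iv_ne hq1, iv_ne h5]

theorem Qf_ne [Finite G] (hQ : IsExtraspecial 2 Q) (hcard : 2 < Nat.card Q)
    (hD : Data (⊤ : Subgroup Q) z0) (hψ : IsLeechModTwoIso Q e ψ) :
    ∃ v : leechLattice, Qf ψ v ≠ 0 := by
  obtain ⟨x, hx⟩ := exists_sq_ne_one hQ hcard
  obtain ⟨v, hv⟩ := hψ.2.1 (QuotientGroup.mk x)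
  refine ⟨v, ?_⟩
  rw [Qf_eq hD v x hv]
  intro h
  exact hx (sqv_eq_zero_iff.mp h)

/-- the squaring form is the norm form -/
theorem Qf_sqNorm [Finite G] (hQ : IsExtraspecial 2 Q) (hcard : 2 < Nat.card Q)
    (hD : Data (⊤ : Subgroup Q) z0) (hψ : IsLeechModTwoIso Q e ψ) (v : leechLattice) :
    Qf ψ v = ((sqNorm (v : GolayPt → ℤ) / 16 : ℤ) : ZMod 2) :=
  Cfsg.Agent.S5552.result (Qf ψ) (Qf_coset hψ) (Qf_quad hD hψ) (Qf_inv hD hψ)
    (Qf_ne hQ hcard hD hψ) v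

/-- elements over a lattice vector: `x * x = 1` iff the norm is `0 mod 32` -/
theorem sq_eq_one_iff [Finite G] (hQ : IsExtraspecial 2 Q) (hcard : 2 < Nat.card Q)
    (hD : Data (⊤ : Subgroup Q) z0) (hψ : IsLeechModTwoIso Q e ψ) (v : leechLattice) (x : Q)
    (hx : ψ v = QuotientGroup.mk x) :
    x * x = 1 ↔ ((sqNorm (v : GolayPt → ℤ) / 16 : ℤ) : ZMod 2) = 0 := by
  rw [← Qf_sqNorm hQ hcard hD hψ v, Qf_eq hD v x hx, sqv_eq_zero_iff]

end Cfsg.Agent.Lib.Helper9.MTb
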