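import Cfsg.Agent.Lib.Helper9.MTb
import Cfsg.Agent.Lib.Helper8.FStar
import Cfsg.Agent.Lib.Helper1.Fitting
import Cfsg.Agent.S1570
import Cfsg.Agent.S5551
import Cfsg.Agent.S0400
import Cfsg.Agent.S5593

/-!
# Monster type, part c: the basic toolkit

`MT z Q e ψ` bundles the hypotheses (without the fusion clause).  Consequences: `z ∈ Q`, `Z(Q) = {1, z}`,
elementwise extraspecial data for `Q ≤ C`, short representatives, the swap `x ~ x z` under `Q`, and the
transitivity of `C` on the elements of `Q` of type 2 and of type 4.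
-/

set_option autoImplicit false

namespace Cfsg.Agent.Lib.Helper9.MTc

open Cfsg Cfsg.Agent.Lib.Helper4.ES2 Cfsg.Agent.Lib.Helper9.MTa Cfsg.Agent.Lib.Helper9.MTb

variable {G : Type*} [Group G] {z : G}
  {Q : Subgroup (Subgroup.centralizer ({z} : Set G))} [Q.Normal]
  {e : (Subgroup.centralizer ({z} : Set G)) ⧸ Q ≃* Spor.Co1}
  {ψ : leechLattice → Q ⧸ Subgroup.center Q}

/-- the Monster-type hypotheses without the fusion clause -/
structure MT (z : G) (Q : Subgroup (Subgroup.centralizer ({z} : Set G))) [Q.Normal]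
    (e : (Subgroup.centralizer ({z} : Set G)) ⧸ Q ≃* Spor.Co1)
    (ψ : leechLattice → Q ⧸ Subgroup.center Q) : Prop where
  hz : orderOf z = 2
  hF : generalizedFittingSubgroup (Subgroup.centralizer ({z} : Set G)) = Q
  hQ : IsExtraspecial 2 Q
  hcard : Nat.card Q = 2 ^ 25
  hψ : IsLeechModTwoIso Q e ψ

theorem MT.of_type (hM : IsOfMonsterType z Q) :
    ∃ e ψ, MT z Q e ψ ∧ ∃ g : G, (∃ hq : g * z * g⁻¹ ∈ Subgroup.centralizer ({z} : Set G),
      (⟨g * z * g⁻¹, hq⟩ : Subgroup.centralizer ({z} : Set G)) ∈ Q) ∧ g * z * g⁻¹ ≠ z := by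
  obtain ⟨⟨hz, hF, hQ, hcard, hfus⟩, e, ψ, hψ⟩ := hM
  exact ⟨e, ψ, ⟨hz, hF, hQ, by rw [hcard], hψ⟩, hfus⟩

/-- `z` as an element of its centralizer -/
def zC (z : G) : Subgroup.centralizer ({z} : Set G) :=
  ⟨z, Subgroup.mem_centralizer_singleton_iff.mpr rfl⟩

theorem zC_comm (c : Subgroup.centralizer ({z} : Set G)) : c * zC z = zC z * c := by
  apply Subtype.ext
  exact (Subgroup.mem_centralizer_singleton_iff.mp c.2)

theorem zC_ne_one (hz : orderOf z = 2) : zC z ≠ 1 := by
  intro h
  have h1 : z = 1 := congrArg Subtype.val h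
  rw [h1, orderOf_one] at hz
  norm_num at hz

theorem zC_sq (hz : orderOf z = 2) : zC z * zC z = 1 := by
  apply Subtype.ext
  show z * z = 1
  rw [← pow_two, ← hz, pow_orderOf_eq_one]

/-- transfer of the elementwise data from the group `Q` to the subgroup `Q ≤ C` -/
theorem data_of_top {C : Type*} [Group C] (Q : Subgroup C) (z0 : Q) (h : Data (⊤ : Subgroup Q) z0) :
    Data Q (z0 : C) where
  zQ := z0.2
  z_ne := fun h1 => h.z_ne (Subtype.ext h1)
  z_sq := by
    have := congrArg Subtype.val h.z_sq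
    simpa using this
  z_comm := fun q hq => by
    have := congrArg Subtype.val (h.z_comm ⟨q, hq⟩ (Subgroup.mem_top _))
    simpa using this
  center_sub := fun c hc hcq => by
    have h1 := h.center_sub ⟨c, hc⟩ (Subgroup.mem_top _) (fun q _ => Subtype.ext (hcq q.1 q.2))
    rcases h1 with h1 | h1
    · left; exact congrArg Subtype.val h1
    · right; exact congrArg Subtype.val h1
  comm_mem := fun a ha b hb => by
    have h1 := h.comm_mem ⟨a, ha⟩ (Subgroup.mem_top _) ⟨b, hb⟩ (Subgroup.mem_top _)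
    rcases h1 with h1 | h1
    · left
      have := congrArg Subtype.val h1
      simpa [cm] using this
    · right
      have := congrArg Subtype.val h1
      simpa [cm] using this
  sq_mem := fun a ha => by
    have h1 := h.sq_mem ⟨a, ha⟩ (Subgroup.mem_top _)
    rcases h1 with h1 | h1
    · left
      have := congrArg Subtype.val h1
      simpa using this
    · right
      have := congrArg Subtype.val h1
      simpa using this

variable [Finite G]

/-- `z ∈ Q` -/
theorem MT.zC_mem (h : MT z Q e ψ) : zC z ∈ Q := by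
  have hn : (Subgroup.zpowers (zC z)).Normal := by
    constructor
    intro n hn g
    have hgn : g * n = n * g := by
      obtain ⟨k, rfl⟩ := Subgroup.mem_zpowers_iff.mp hn
      have : Commute g (zC z) := zC_comm g
      exact (this.zpow_right k)
    rw [hgn, mul_assoc, mul_inv_cancel, mul_one]
    exact hn
  have hnil : Group.IsNilpotent (Subgroup.zpowers (zC z)) := by
    haveI : Fact (Nat.Prime 2) := ⟨Nat.prime_two⟩
    have hp : IsPGroup 2 (Subgroup.zpowers (zC z)) := by
      apply IsPGroup.of_card (n := 1)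
      rw [Nat.card_zpowers, pow_one]
      rw [← h.hz]
      exact (Subgroup.orderOf_coe (zC z)).symm
    exact hp.isNilpotent
  have h1 := Cfsg.Agent.Lib.Helper1.le_fittingSubgroup hn hnil
  have h2 : Cfsg.fittingSubgroup ↥(Subgroup.centralizer ({z} : Set G)) ≤
      Cfsg.generalizedFittingSubgroup ↥(Subgroup.centralizer ({z} : Set G)) := le_sup_right
  rw [h.hF] at h2
  exact h2 (h1 (Subgroup.mem_zpowers _))

/-- the elementwise data of `Q ≤ C` with centre `{1, z}` -/
theorem MT.data (h : MT z Q e ψ) : Data Q (zC z) := by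
  obtain ⟨z0, hD0, _⟩ := data_top h.hQ
  have hD1 := data_of_top Q z0 hD0
  have h1 : ∀ q ∈ Q, q * zC z = zC z * q := fun q _ => zC_comm q
  rcases hD1.center_sub (zC z) h.zC_mem h1 with h2 | h2
  · exact absurd h2 (zC_ne_one h.hz)
  · rw [h2]; exact hD1

/-- the data inside the group `Q` -/
theorem MT.dataQ (h : MT z Q e ψ) : Data (⊤ : Subgroup Q) (⟨zC z, h.zC_mem⟩ : Q) := by
  have hD := h.data
  refine ⟨Subgroup.mem_top _, ?_, ?_, ?_, ?_, ?_, ?_⟩
  · intro h1
    exact hD.z_ne (congrArg Subtype.val h1)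
  · exact Subtype.ext hD.z_sq
  · intro q _
    exact Subtype.ext (hD.z_comm q.1 q.2)
  · intro c _ hc
    rcases hD.center_sub c.1 c.2 (fun q hq => congrArg Subtype.val (hc ⟨q, hq⟩ (Subgroup.mem_top _)))
      with h1 | h1
    · left; exact Subtype.ext h1
    · right; exact Subtype.ext h1
  · intro a _ b _
    rcases hD.comm_mem a.1 a.2 b.1 b.2 with h1 | h1
    · left; apply Subtype.ext; simpa [cm] using h1
    · right; apply Subtype.ext; simpa [cm] using h1
  · intro a _
    rcases hD.sq_mem a.1 a.2 with h1 | h1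
    · left; apply Subtype.ext; simpa using h1
    · right; apply Subtype.ext; simpa using h1

theorem MT.two_lt (h : MT z Q e ψ) : 2 < Nat.card Q := by rw [h.hcard]; norm_num

/-- `x * x = 1` iff the norm of a lattice vector over `x` is `0 mod 32` -/
theorem MT.sq_iff (h : MT z Q e ψ) (v : leechLattice) (x : Q) (hx : ψ v = QuotientGroup.mk x) :
    x * x = 1 ↔ ((sqNorm (v : GolayPt → ℤ) / 16 : ℤ) : ZMod 2) = 0 :=
  sq_eq_one_iff h.hQ h.two_lt h.dataQ h.hψ v x hx

/-- centre of `Q` -/
theorem MT.mk_eq_one_iff (h : MT z Q e ψ) (x : Q) :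
    (QuotientGroup.mk x : Q ⧸ Subgroup.center Q) = 1 ↔ x = 1 ∨ (x : Subgroup.centralizer ({z} : Set G)) = zC z := by
  rw [QuotientGroup.eq_one_iff, mem_center_iff h.dataQ]
  constructor
  · rintro (h1 | h1)
    · left; exact h1
    · right; rw [h1]
  · rintro (h1 | h1)
    · left; exact h1
    · right; exact Subtype.ext h1

/-- congruent vectors have the same image -/
theorem MT.psi_congr (h : MT z Q e ψ) (v w : leechLattice)
    (hvw : ∃ u ∈ leechLattice, (v : GolayPt → ℤ) - (w : GolayPt → ℤ) = 2 • u) : ψ v = ψ w := by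
  obtain ⟨u, hu, huv⟩ := hvw
  have h1 : v = w + ((⟨u, hu⟩ : leechLattice) + ⟨u, hu⟩) := by
    apply Subtype.ext
    have : (v : GolayPt → ℤ) = w + 2 • u := by rw [← huv]; abel
    rw [this, two_smul]
    rfl
  rw [h1, h.hψ.1, psi_double h.hψ, mul_one]

/-- short representatives -/
theorem MT.exists_short (h : MT z Q e ψ) (x : Q) :
    ∃ v : leechLattice, sqNorm (v : GolayPt → ℤ) ≤ 64 ∧ ψ v = QuotientGroup.mk x := by
  obtain ⟨w, hw⟩ := h.hψ.2.1 (QuotientGroup.mk x)
  obtain ⟨y, hy, hyn, u, hu, hwu⟩ := Cfsg.Agent.S1570.result (w : GolayPt → ℤ) w.2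
  refine ⟨⟨y, hy⟩, hyn, ?_⟩
  rw [← hw]
  exact (h.psi_congr w ⟨y, hy⟩ ⟨u, hu, hwu⟩).symm

end Cfsg.Agent.Lib.Helper9.MTc
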