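import Cfsg.Agent.Lib.Helper9.MTd
import Cfsg.Agent.Lib.Helper9.LeechM2

/-!
# Monster type, part e: the map `Φ : C → Co1` and the stabiliser of an element of type 2 or 3

* `Phi e : C →* Co1`, surjective with kernel `Q`.
* `card_eq_inf_ker_mul_map`: `|H| = |H ∩ ker f| |f(H)|`.
* `MT.map_centralizer`: for `x ∈ Q` over a lattice vector `v` of norm 32 or 48, the image under `Φ` of
  `C_C(x)` is the image in `Co1` of the stabiliser of `v` in `Co0`.
-/

set_option autoImplicit false

namespace Cfsg.Agent.Lib.Helper9.MTc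

open Cfsg Cfsg.Agent.Lib.Helper4.ES2 Cfsg.Agent.Lib.Helper9.MTa Cfsg.Agent.Lib.Helper9.MTb
  Cfsg.Agent.Lib.Helper9.LeechM2

theorem card_eq_inf_ker_mul_map {C D : Type*} [Group C] [Group D] [Finite C] (f : C →* D)
    (H : Subgroup C) : Nat.card H = Nat.card ↥(H ⊓ f.ker) * Nat.card ↥(H.map f) := by
  have h1 := Subgroup.card_eq_card_quotient_mul_card_subgroup (f.comp H.subtype).ker
  have h2 : Nat.card (↥H ⧸ (f.comp H.subtype).ker) = Nat.card ↥(H.map f) := by
    rw [Nat.card_congr (QuotientGroup.quotientKerEquivRange (f.comp H.subtype)).toEquiv]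
    have : (f.comp H.subtype).range = H.map f := by
      rw [MonoidHom.range_comp, Subgroup.range_subtype]
    rw [this]
  have h3 : Nat.card ↥(f.comp H.subtype).ker = Nat.card ↥(H ⊓ f.ker) := by
    have h4 : (f.comp H.subtype).ker = (H ⊓ f.ker).subgroupOf H := by
      ext x
      simp [MonoidHom.mem_ker, Subgroup.mem_subgroupOf]
    rw [h4]
    exact Nat.card_congr (Subgroup.subgroupOfEquivOfLe (inf_le_left : H ⊓ f.ker ≤ H)).toEquiv
  rw [h1, h2, h3, mul_comm]

variable {G : Type*} [Group G] {z : G}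
  {Q : Subgroup (Subgroup.centralizer ({z} : Set G))} [Q.Normal]
  {e : (Subgroup.centralizer ({z} : Set G)) ⧸ Q ≃* Spor.Co1}
  {ψ : leechLattice → Q ⧸ Subgroup.center Q}

/-- the surjection `C → Co1` -/
noncomputable def Phi (e : (Subgroup.centralizer ({z} : Set G)) ⧸ Q ≃* Spor.Co1) :
    (Subgroup.centralizer ({z} : Set G)) →* Spor.Co1 :=
  e.toMonoidHom.comp (QuotientGroup.mk' Q)

theorem Phi_apply (c : Subgroup.centralizer ({z} : Set G)) : Phi e c = e (QuotientGroup.mk c) := rfl

theorem Phi_surjective : Function.Surjective (Phi e) := by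
  intro y
  obtain ⟨c, hc⟩ := QuotientGroup.mk_surjective (e.symm y)
  refine ⟨c, ?_⟩
  rw [Phi_apply, hc, MulEquiv.apply_symm_apply]

theorem Phi_ker : (Phi e).ker = Q := by
  ext c
  rw [MonoidHom.mem_ker, Phi_apply, MulEquiv.map_eq_one_iff, QuotientGroup.eq_one_iff]

theorem smul_def' (g : Co0) (v : leechLattice) : g • v = g.1 v := rfl

theorem sqNorm_smul (g : Co0) (v : leechLattice) :
    sqNorm ((g • v : leechLattice) : GolayPt → ℤ) = sqNorm (v : GolayPt → ℤ) := g.2.2 v

theorem smul_add' (g : Co0) (v w : leechLattice) : g • (v + w) = g • v + g • w := g.2.1 v w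

theorem negOne_smul (v : leechLattice) : negOne • v = -v := rfl

theorem MT.equivariant (h : MT z Q e ψ) (c : Subgroup.centralizer ({z} : Set G)) (g : Co0)
    (hg : (QuotientGroup.mk g : Spor.Co1) = Phi e c) (v : leechLattice) (x : Q)
    (hx : ψ v = QuotientGroup.mk x) :
    ψ (g • v) = QuotientGroup.mk (⟨c * x * c⁻¹, (inferInstance : Q.Normal).conj_mem
      (x : Subgroup.centralizer ({z} : Set G)) x.2 c⟩ : Q) :=
  h.hψ.2.2.2 c g hg v x hx

/-- equality of images means congruence modulo twice the lattice -/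
theorem MT.congr_of_psi_eq (h : MT z Q e ψ) (v w : leechLattice) (hvw : ψ v = ψ w) :
    ∃ u ∈ leechLattice, (v : GolayPt → ℤ) - (w : GolayPt → ℤ) = 2 • u := by
  have h1 : ψ (v + -w) = 1 := by
    rw [h.hψ.1, psi_neg h.hψ, hvw, mul_inv_cancel]
  obtain ⟨u, hu⟩ := (h.hψ.2.2.1 _).mp h1
  refine ⟨u, u.2, ?_⟩
  have := congrArg (fun t : leechLattice => (t : GolayPt → ℤ)) hu
  simp only [AddSubgroup.coe_add, AddSubgroup.coe_neg] at this
  rw [two_smul, ← this]
  abel

variable [Finite G]

/-- the image of the centralizer of an element over a vector of norm 32 or 48 -/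
theorem MT.map_centralizer (h : MT z Q e ψ) (v : leechLattice) (x : Q)
    (hx : ψ v = QuotientGroup.mk x) (hv0 : 0 < sqNorm (v : GolayPt → ℤ))
    (hv : sqNorm (v : GolayPt → ℤ) < 64) :
    (Subgroup.centralizer ({(x : Subgroup.centralizer ({z} : Set G))} :
      Set (Subgroup.centralizer ({z} : Set G)))).map (Phi e) =
      (MulAction.stabilizer Co0 v).map (QuotientGroup.mk' (Subgroup.center Co0)) := by
  have hs0 : sqNorm (0 : GolayPt → ℤ) = 0 := by simp [sqNorm]
  have hv0' : (v : GolayPt → ℤ) ≠ 0 := by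
    intro h0
    rw [h0, hs0] at hv0
    omega
  ext y
  constructor
  · rintro ⟨c, hc, rfl⟩
    obtain ⟨g, hg⟩ := QuotientGroup.mk_surjective (Phi e c)
    have hcx : c * (x : Subgroup.centralizer ({z} : Set G)) * c⁻¹ = x := by
      have := Subgroup.mem_centralizer_singleton_iff.mp hc
      rw [this]; group
    have h1 := h.equivariant c g hg v x hx
    have h2 : (⟨c * x * c⁻¹, (inferInstance : Q.Normal).conj_mem
        (x : Subgroup.centralizer ({z} : Set G)) x.2 c⟩ : Q) = x := Subtype.ext hcx
    rw [h2, ← hx] at h1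
    obtain ⟨u, hu, huv⟩ := h.congr_of_psi_eq _ _ h1
    have hgv0 : ((g • v : leechLattice) : GolayPt → ℤ) ≠ 0 := by
      intro h0
      have h5 := sqNorm_smul g v
      rw [h0, hs0] at h5
      omega
    have h3 := Cfsg.Agent.S5551.result ((g • v : leechLattice) : GolayPt → ℤ) (v : GolayPt → ℤ)
      (g • v).2 v.2 hgv0 hv0' (by rw [sqNorm_smul]; omega) (by omega) ⟨u, hu, huv⟩
    rcases h3.2 (by rw [sqNorm_smul]; exact hv) with h4 | h4
    · refine ⟨g, ?_, hg⟩
      show g ∈ MulAction.stabilizer Co0 v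
      rw [MulAction.mem_stabilizer_iff]
      exact (Subtype.ext h4).symm
    · refine ⟨negOne * g, ?_, ?_⟩
      · show negOne * g ∈ MulAction.stabilizer Co0 v
        rw [MulAction.mem_stabilizer_iff, mul_smul, negOne_smul]
        apply Subtype.ext
        rw [AddSubgroup.coe_neg, h4]
      · rw [← hg]
        show (QuotientGroup.mk (negOne * g) : Spor.Co1) = QuotientGroup.mk g
        rw [QuotientGroup.mk_mul]
        have : (QuotientGroup.mk negOne : Spor.Co1) = 1 :=
          (QuotientGroup.eq_one_iff _).mpr negOne_mem_center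
        rw [this, one_mul]
  · rintro ⟨g, hg, rfl⟩
    have hg : g ∈ MulAction.stabilizer Co0 v := hg
    obtain ⟨c, hc⟩ := Phi_surjective (e := e) (QuotientGroup.mk' (Subgroup.center Co0) g)
    have h1 := h.equivariant c g hc.symm v x hx
    rw [MulAction.mem_stabilizer_iff.mp hg, hx] at h1
    have h2 : x⁻¹ * (⟨c * x * c⁻¹, (inferInstance : Q.Normal).conj_mem
        (x : Subgroup.centralizer ({z} : Set G)) x.2 c⟩ : Q) ∈ Subgroup.center Q :=
      QuotientGroup.eq.mp h1
    have hnc := h.noncentral v x hx hv0 (by omega)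
    rcases (mem_center_iff h.dataQ _).mp h2 with h3 | h3
    · refine ⟨c, ?_, hc⟩
      show c ∈ Subgroup.centralizer _
      rw [Subgroup.mem_centralizer_singleton_iff]
      have h4 := congrArg (fun t : Q => (t : Subgroup.centralizer ({z} : Set G)))
        (inv_mul_eq_one.mp h3)
      simp only at h4
      calc c * (x : Subgroup.centralizer ({z} : Set G)) = (c * x * c⁻¹) * c := by group
        _ = x * c := by rw [← h4]
    · -- `c x c⁻¹ = x z`
      have h4 : c * (x : Subgroup.centralizer ({z} : Set G)) * c⁻¹ = x * zC z := by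
        have h5 : (⟨c * x * c⁻¹, (inferInstance : Q.Normal).conj_mem
            (x : Subgroup.centralizer ({z} : Set G)) x.2 c⟩ : Q) = x * ⟨zC z, h.zC_mem⟩ := by
          rw [← h3]; group
        exact congrArg (fun t : Q => (t : Subgroup.centralizer ({z} : Set G))) h5
      obtain ⟨y, hyQ, hy⟩ := h.swap x.2 hnc.1 hnc.2
      refine ⟨y * c, ?_, ?_⟩
      · show y * c ∈ Subgroup.centralizer _
        rw [Subgroup.mem_centralizer_singleton_iff]
        have h6 : y * c * (x : Subgroup.centralizer ({z} : Set G)) * (y * c)⁻¹ = x := by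
          have : y * c * (x : Subgroup.centralizer ({z} : Set G)) * (y * c)⁻¹ =
              y * (c * x * c⁻¹) * y⁻¹ := by group
          rw [this, h4]
          have : y * ((x : Subgroup.centralizer ({z} : Set G)) * zC z) * y⁻¹ =
              (y * x * y⁻¹) * (y * zC z * y⁻¹) := by group
          rw [this, hy]
          have : y * zC z * y⁻¹ = zC z := by rw [zC_comm y]; group
          rw [this, mul_assoc, zC_sq h.hz, mul_one]
        calc y * c * (x : Subgroup.centralizer ({z} : Set G))
            = (y * c * x * (y * c)⁻¹) * (y * c) := by group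
          _ = x * (y * c) := by rw [h6]
      · rw [map_mul]
        have : Phi e y = 1 := by
          have := (Phi_ker (e := e)).symm ▸ hyQ
          exact MonoidHom.mem_ker.mp this
        rw [this, one_mul, hc]

end Cfsg.Agent.Lib.Helper9.MTc
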