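import Cfsg.Agent.Lib.Helper9.MTe
import Cfsg.Agent.S0402
import Cfsg.Agent.S0397
import Cfsg.Agent.S0399

/-!
# Monster type, part f: elements of type 2

For `x ∈ Q` over a lattice vector `v` of norm 32: `|C_C(x)| = 2^24 |Co2|`, and the image of `C_C(x)` in
`Co1` (a copy of the simple group `Co2`) has no non-trivial normal 2-subgroup.
-/

set_option autoImplicit false

namespace Cfsg.Agent.Lib.Helper9.MTc

open Cfsg Cfsg.Agent.Lib.Helper4.ES2 Cfsg.Agent.Lib.Helper9.MTa Cfsg.Agent.Lib.Helper9.MTb
  Cfsg.Agent.Lib.Helper9.LeechM2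

theorem finite_Co0 : Finite ↥Co0 := by
  apply Nat.finite_of_card_ne_zero
  rw [Cfsg.Agent.S0397.result]
  norm_num

theorem card_Co1 : Nat.card Spor.Co1 = 4157776806543360000 := Cfsg.Agent.S0399.result.2

/-- the stabiliser of a non-zero vector meets the centre trivially -/
theorem stab_inf_center (v : leechLattice) (hv : (v : GolayPt → ℤ) ≠ 0) :
    MulAction.stabilizer Co0 v ⊓ (QuotientGroup.mk' (Subgroup.center Co0)).ker = ⊥ := by
  rw [eq_bot_iff]
  rintro g ⟨hg, hgk⟩
  rw [QuotientGroup.ker_mk'] at hgk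
  rcases central_eq g hgk with h1 | h1
  · exact h1
  · exfalso
    have hg' : g ∈ MulAction.stabilizer Co0 v := hg
    rw [MulAction.mem_stabilizer_iff, h1, negOne_smul] at hg'
    apply hv
    have h2 := congrArg (fun t : leechLattice => (t : GolayPt → ℤ)) hg'
    simp only [AddSubgroup.coe_neg] at h2
    funext i
    have h3 := congrFun h2 i
    simp only [Pi.neg_apply, Pi.zero_apply] at h3 ⊢
    omega

theorem card_stab_map (v : leechLattice) (hv : (v : GolayPt → ℤ) ≠ 0) :
    Nat.card ↥((MulAction.stabilizer Co0 v).map (QuotientGroup.mk' (Subgroup.center Co0))) =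
      Nat.card ↥(MulAction.stabilizer Co0 v) := by
  haveI : Finite Co0 := finite_Co0
  have h1 := card_eq_inf_ker_mul_map (QuotientGroup.mk' (Subgroup.center Co0))
    (MulAction.stabilizer Co0 v)
  rw [stab_inf_center v hv, Subgroup.card_bot, one_mul] at h1
  exact h1.symm


variable {G : Type*} [Group G] [Finite G] {z : G}
  {Q : Subgroup (Subgroup.centralizer ({z} : Set G))} [Q.Normal]
  {e : (Subgroup.centralizer ({z} : Set G)) ⧸ Q ≃* Spor.Co1}
  {ψ : leechLattice → Q ⧸ Subgroup.center Q}

/-- the centralizer in `Q` of a non-central element has index two -/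
theorem MT.card_centralizer_Q (h : MT z Q e ψ) {x : Subgroup.centralizer ({z} : Set G)} (hx : x ∈ Q)
    (h1 : x ≠ 1) (hxz : x ≠ zC z) :
    Nat.card ↥(Q ⊓ Subgroup.centralizer ({x} : Set (Subgroup.centralizer ({z} : Set G)))) = 2 ^ 24 := by
  obtain ⟨y, hy, hc⟩ := h.data.exists_nc hx h1 hxz
  have h2 : cm y x = zC z := by rw [h.data.cm_symm hy hx]; exact hc
  have h3 := h.data.card_centralizer (le_refl Q) hx hy h2
  rw [h.hcard] at h3
  omega

/-- the order of the centralizer in `C` of an element of type 2 -/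
theorem MT.card_centralizer2 (h : MT z Q e ψ) (v : leechLattice) (x : Q)
    (hx : ψ v = QuotientGroup.mk x) (hv : sqNorm (v : GolayPt → ℤ) = 32) :
    Nat.card ↥(Subgroup.centralizer ({(x : Subgroup.centralizer ({z} : Set G))} :
      Set (Subgroup.centralizer ({z} : Set G)))) = 2 ^ 24 * 42305421312000 := by
  have hs0 : sqNorm (0 : GolayPt → ℤ) = 0 := by simp [sqNorm]
  have hv0 : (v : GolayPt → ℤ) ≠ 0 := by
    intro h0
    rw [h0, hs0] at hv
    omega
  have hnc := h.noncentral v x hx (by omega) (by omega)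
  have h1 := card_eq_inf_ker_mul_map (Phi e) (Subgroup.centralizer
    ({(x : Subgroup.centralizer ({z} : Set G))} : Set (Subgroup.centralizer ({z} : Set G))))
  rw [h.map_centralizer v x hx (by omega) (by omega), card_stab_map v hv0,
    (Cfsg.Agent.S0402.result v hv).2, Phi_ker, inf_comm, h.card_centralizer_Q x.2 hnc.1 hnc.2] at h1
  exact h1

/-- the image in `Co1` of the centralizer of an element of type 2 has no non-trivial normal
2-subgroup -/
theorem MT.no_normal2 (h : MT z Q e ψ) (v : leechLattice) (x : Q)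
    (hx : ψ v = QuotientGroup.mk x) (hv : sqNorm (v : GolayPt → ℤ) = 32)
    (N : Subgroup Spor.Co1)
    (hN : N ≤ (Subgroup.centralizer ({(x : Subgroup.centralizer ({z} : Set G))} :
      Set (Subgroup.centralizer ({z} : Set G)))).map (Phi e))
    (hnorm : ∀ a ∈ (Subgroup.centralizer ({(x : Subgroup.centralizer ({z} : Set G))} :
      Set (Subgroup.centralizer ({z} : Set G)))).map (Phi e), ∀ n ∈ N, a * n * a⁻¹ ∈ N)
    (h2 : IsPGroup 2 N) : N = ⊥ := by
  have hs0 : sqNorm (0 : GolayPt → ℤ) = 0 := by simp [sqNorm]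
  have hv0 : (v : GolayPt → ℤ) ≠ 0 := by
    intro h0
    rw [h0, hs0] at hv
    omega
  rw [h.map_centralizer v x hx (by omega) (by omega)] at hN hnorm
  obtain ⟨hsimple, hcard⟩ := Cfsg.Agent.S0402.result v hv
  -- the normal subgroup of the stabiliser
  let f : ↥(MulAction.stabilizer Co0 v) →* Spor.Co1 :=
    (QuotientGroup.mk' (Subgroup.center Co0)).comp (MulAction.stabilizer Co0 v).subtype
  have hfinj : Function.Injective f := by
    rw [← MonoidHom.ker_eq_bot_iff, eq_bot_iff]
    intro g hg
    have h3 : (g : Co0) ∈ MulAction.stabilizer Co0 v ⊓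
        (QuotientGroup.mk' (Subgroup.center Co0)).ker := ⟨g.2, hg⟩
    rw [stab_inf_center v hv0] at h3
    exact Subtype.ext h3
  have hNn : (N.comap f).Normal := by
    constructor
    intro n hn g
    show f (g * n * g⁻¹) ∈ N
    rw [map_mul, map_mul, map_inv]
    exact hnorm (f g) ⟨g.1, g.2, rfl⟩ (f n) hn
  rcases hsimple.eq_bot_or_eq_top_of_normal (N.comap f) hNn with h3 | h3
  · rw [eq_bot_iff]
    intro n hn
    obtain ⟨g, hg, rfl⟩ := hN hn
    have h4 : (⟨g, hg⟩ : ↥(MulAction.stabilizer Co0 v)) ∈ N.comap f := hn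
    rw [h3] at h4
    have h5 : g = 1 := congrArg Subtype.val (Subgroup.mem_bot.mp h4)
    rw [h5, map_one]
    exact Subgroup.mem_bot.mpr rfl
  · exfalso
    -- the stabiliser would be a 2-group
    have h4 : IsPGroup 2 ↥(MulAction.stabilizer Co0 v) := by
      intro g
      have hg : f g ∈ N := by
        have : g ∈ N.comap f := by rw [h3]; exact Subgroup.mem_top _
        exact this
      obtain ⟨k, hk⟩ := h2 ⟨f g, hg⟩
      refine ⟨k, ?_⟩
      apply hfinj
      rw [map_pow, map_one]
      have := congrArg Subtype.val hk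
      simpa using this
    haveI : Finite ↥Co0 := finite_Co0
    obtain ⟨k, hk⟩ := h4.exists_card_eq
    rw [hcard] at hk
    have h5 : (3 : ℕ) ∣ 2 ^ k := by rw [← hk]; norm_num
    have h6 := (Nat.Prime.dvd_of_dvd_pow Nat.prime_three h5)
    omega

end Cfsg.Agent.Lib.Helper9.MTc
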