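import Cfsg.Agent.Lib.Helper9.MTf

/-!
# Monster type, part g: a conjugate of `z` in `Q` is not of type 2

If `s = g0 z g0⁻¹ ∈ Q`, `s ≠ z`, lies over a lattice vector of norm 32, then `C_C(s)` maps onto a copy of
`Co2` in `C ⧸ Q`, so the normal 2-subgroup `Q^{g0} ∩ C` of `C_C(s)` lies in `Q`; hence
`Q^{g0} ∩ C = Q ∩ Q^{g0}` is elementary abelian, of order at most `2^13`.  But `C_C(s) = C_{C^{g0}}(z)` has
order `2^24 |Co2|` and its image in `C^{g0} ⧸ Q^{g0} ≅ Co1` has order `2^24 |Co2| / |Q ∩ Q^{g0}|`, which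
does not divide `|Co1| = 98280 |Co2|`.
-/

set_option autoImplicit false

namespace Cfsg.Agent.Lib.Helper9.MTc

open Cfsg Cfsg.Agent.Lib.Helper4.ES2 Cfsg.Agent.Lib.Helper9.MTa Cfsg.Agent.Lib.Helper9.MTb
  Cfsg.Agent.Lib.Helper9.LeechM2

/-- transport of extraspecial data along an injective homomorphism -/
theorem data_map' {G E : Type*} [Group G] [Group E] (ι : E →* G) (hι : Function.Injective ι)
    (Q : Subgroup E) (z0 : E) (h : Data Q z0) : Data (Q.map ι) (ι z0) where
  zQ := Subgroup.mem_map_of_mem ι h.zQ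
  z_ne := by
    intro h1
    apply h.z_ne
    apply hι
    rw [h1, map_one]
  z_sq := by rw [← map_mul, h.z_sq, map_one]
  z_comm := by
    rintro q ⟨q', hq', rfl⟩
    rw [← map_mul, ← map_mul, h.z_comm q' hq']
  center_sub := by
    rintro c ⟨c', hc', rfl⟩ hc
    have h1 : ∀ q ∈ Q, q * c' = c' * q := by
      intro q hq
      apply hι
      rw [map_mul, map_mul]
      exact hc (ι q) (Subgroup.mem_map_of_mem ι hq)
    rcases h.center_sub c' hc' h1 with h2 | h2
    · left; rw [h2, map_one]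
    · right; rw [h2]
  comm_mem := by
    rintro a ⟨a', ha', rfl⟩ b ⟨b', hb', rfl⟩
    have h1 : cm (ι a') (ι b') = ι (cm a' b') := by
      unfold cm
      simp only [map_mul, map_inv]
    rw [h1]
    rcases h.comm_mem a' ha' b' hb' with h2 | h2
    · left; rw [h2, map_one]
    · right; rw [h2]
  sq_mem := by
    rintro a ⟨a', ha', rfl⟩
    rw [← map_mul]
    rcases h.sq_mem a' ha' with h2 | h2
    · left; rw [h2, map_one]
    · right; rw [h2]

variable {G : Type*} [Group G] {z : G}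
  {Q : Subgroup (Subgroup.centralizer ({z} : Set G))} [Q.Normal]
  {e : (Subgroup.centralizer ({z} : Set G)) ⧸ Q ≃* Spor.Co1}
  {ψ : leechLattice → Q ⧸ Subgroup.center Q}

/-- `Q` as a subgroup of `G` -/
def QG (Q : Subgroup (Subgroup.centralizer ({z} : Set G))) : Subgroup G :=
  Q.map (Subgroup.centralizer ({z} : Set G)).subtype

theorem mem_QG {y : G} : y ∈ QG Q ↔ ∃ hy : y ∈ Subgroup.centralizer ({z} : Set G),
    (⟨y, hy⟩ : Subgroup.centralizer ({z} : Set G)) ∈ Q := by
  constructor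
  · rintro ⟨c, hc, rfl⟩
    exact ⟨c.2, hc⟩
  · rintro ⟨hy, hyQ⟩
    exact ⟨⟨y, hy⟩, hyQ, rfl⟩

theorem QG_le : QG Q ≤ Subgroup.centralizer ({z} : Set G) := by
  intro y hy
  obtain ⟨hy', _⟩ := mem_QG.mp hy
  exact hy'

theorem card_QG [Finite G] : Nat.card ↥(QG Q) = Nat.card Q :=
  Subgroup.card_map_of_injective (Subgroup.subtype_injective _)

theorem QG_conj_mem {c q : G} (hc : c ∈ Subgroup.centralizer ({z} : Set G)) (hq : q ∈ QG Q) :
    c * q * c⁻¹ ∈ QG Q := by
  obtain ⟨hq', hqQ⟩ := mem_QG.mp hq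
  have := (inferInstance : Q.Normal).conj_mem ⟨q, hq'⟩ hqQ ⟨c, hc⟩
  exact mem_QG.mpr ⟨_, this⟩

variable [Finite G]

theorem MT.dataG (h : MT z Q e ψ) : Data (QG Q) z :=
  data_map' (Subgroup.centralizer ({z} : Set G)).subtype (Subgroup.subtype_injective _) Q (zC z) h.data

/-- elementary abelian subgroups of `Q` have order at most `2 ^ 13` -/
theorem MT.rk (h : MT z Q e ψ) : RkLE 13 (QG Q) := by
  have hc : Nat.card ↥(QG Q) = 2 ^ (2 * 12 + 1) := by rw [card_QG, h.hcard]
  rcases Data.structure_thm 12 (QG Q) z h.dataG hc with h1 | h1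
  · exact h1.2.1
  · intro A hA hcomm hsq
    exact (h1.2.2.1 A hA hcomm hsq).trans (Nat.pow_le_pow_right (by norm_num) (by norm_num))

/-- a conjugate of `z` inside `Q` is not of type 2 -/
theorem MT.not_type2 (h : MT z Q e ψ) (g0 : G)
    (hsC : g0 * z * g0⁻¹ ∈ Subgroup.centralizer ({z} : Set G))
    (hsQ : (⟨g0 * z * g0⁻¹, hsC⟩ : Subgroup.centralizer ({z} : Set G)) ∈ Q)
    (hsz : g0 * z * g0⁻¹ ≠ z) (v : leechLattice) (hv : sqNorm (v : GolayPt → ℤ) = 32)
    (hx : ψ v = QuotientGroup.mk (⟨⟨g0 * z * g0⁻¹, hsC⟩, hsQ⟩ : Q)) : False := by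
  classical
  set s : G := g0 * z * g0⁻¹ with hs
  set x : Q := ⟨⟨s, hsC⟩, hsQ⟩ with hxdef
  have hKcard := h.card_centralizer2 v x hx hv
  have hDz : Data (QG Q) z := h.dataG
  set Qs : Subgroup G := (QG Q).map (MulAut.conj g0).toMonoidHom with hQs
  have hDs : Data Qs s := by
    have := data_map' (MulAut.conj g0).toMonoidHom (MulAut.conj g0).injective (QG Q) z hDz
    exact this
  have hzs : z = g0⁻¹ * s * g0 := by rw [hs]; group
  have hsz' : s * z = z * s := (Subgroup.mem_centralizer_singleton_iff.mp hsC)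
  -- elements of `C` commuting with `s`, conjugated back by `g0`
  have hback : ∀ k : G, k * s = s * k → g0⁻¹ * k * g0 ∈ (Subgroup.centralizer ({z} : Set G)) := by
    intro k hk
    rw [Subgroup.mem_centralizer_singleton_iff]
    rw [hzs]
    calc g0⁻¹ * k * g0 * (g0⁻¹ * s * g0) = g0⁻¹ * (k * s) * g0 := by group
      _ = g0⁻¹ * (s * k) * g0 := by rw [hk]
      _ = g0⁻¹ * s * g0 * (g0⁻¹ * k * g0) := by group
  have hmemQs : ∀ y : G, y ∈ Qs ↔ g0⁻¹ * y * g0 ∈ QG Q := by
    intro y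
    constructor
    · rintro ⟨q, hq, rfl⟩
      have : g0⁻¹ * ((MulAut.conj g0).toMonoidHom q) * g0 = q := by
        simp [MulAut.conj_apply]; group
      rw [this]; exact hq
    · intro hy
      refine ⟨g0⁻¹ * y * g0, hy, ?_⟩
      simp [MulAut.conj_apply]; group
  -- conjugation by elements commuting with `s` preserves `Qs`
  have hQsn : ∀ k : G, k * s = s * k → ∀ y ∈ Qs, k * y * k⁻¹ ∈ Qs := by
    intro k hk y hy
    rw [hmemQs] at hy ⊢
    have h1 := QG_conj_mem (hback k hk) hy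
    have h2 : g0⁻¹ * (k * y * k⁻¹) * g0 = g0⁻¹ * k * g0 * (g0⁻¹ * y * g0) * (g0⁻¹ * k * g0)⁻¹ := by
      group
    rw [h2]; exact h1
  -- Step A: `Qs ∩ C ≤ Q`
  set Kx : Subgroup ↥(Subgroup.centralizer ({z} : Set G)) := Subgroup.centralizer ({(x : ↥(Subgroup.centralizer ({z} : Set G)))} : Set ↥(Subgroup.centralizer ({z} : Set G))) with hKx
  set Y' : Subgroup ↥(Subgroup.centralizer ({z} : Set G)) := Qs.subgroupOf (Subgroup.centralizer ({z} : Set G)) with hY'
  have hxval : ((x : ↥(Subgroup.centralizer ({z} : Set G))) : G) = s := rfl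
  have hKx_iff : ∀ c : ↥(Subgroup.centralizer ({z} : Set G)), c ∈ Kx ↔ (c : G) * s = s * c := by
    intro c
    rw [hKx, Subgroup.mem_centralizer_singleton_iff]
    constructor
    · intro h1
      have := congrArg (fun t : ↥(Subgroup.centralizer ({z} : Set G)) => (t : G)) h1
      simp only [Subgroup.coe_mul, hxval] at this
      exact this
    · intro h1
      apply Subtype.ext
      simp only [Subgroup.coe_mul, hxval]
      exact h1
  have hY'K : Y' ≤ Kx := by
    intro c hc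
    rw [hKx_iff]
    have hc' : (c : G) ∈ Qs := hc
    exact hDs.z_comm _ hc'
  have hY'2 : IsPGroup 2 Y' := by
    have h1 : IsPGroup 2 Qs := hDs.isPGroup
    exact h1.comap_of_injective (Subgroup.centralizer ({z} : Set G)).subtype (Subgroup.subtype_injective _)
  have hNbot : Y'.map (Phi e) = ⊥ := by
    apply h.no_normal2 v x hx hv (Y'.map (Phi e)) (Subgroup.map_mono hY'K)
    · rintro a ⟨k, hk, rfl⟩ n ⟨y, hy, rfl⟩
      refine ⟨k * y * k⁻¹, ?_, by simp⟩
      have hk' := (hKx_iff k).mp hk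
      have hy' : (y : G) ∈ Qs := hy
      have := hQsn k hk' y hy'
      show ((k * y * k⁻¹ : ↥(Subgroup.centralizer ({z} : Set G))) : G) ∈ Qs
      simpa using this
    · exact hY'2.map (Phi e)
  have hY'Q : Y' ≤ Q := by
    intro c hc
    have h1 : Phi e c ∈ Y'.map (Phi e) := Subgroup.mem_map_of_mem _ hc
    rw [hNbot, Subgroup.mem_bot] at h1
    have h2 : c ∈ (Phi e).ker := h1
    rw [Phi_ker] at h2
    exact h2
  have hA : ∀ y ∈ Qs, y ∈ (Subgroup.centralizer ({z} : Set G)) → y ∈ QG Q := by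
    intro y hy hyC
    have h1 : (⟨y, hyC⟩ : ↥(Subgroup.centralizer ({z} : Set G))) ∈ Y' := hy
    exact mem_QG.mpr ⟨hyC, hY'Q h1⟩
  -- Step B: `E = Q ∩ Qs` is elementary abelian
  set E : Subgroup G := QG Q ⊓ Qs with hE
  have hEcomm : ∀ a ∈ E, ∀ b ∈ E, a * b = b * a := by
    intro a ha b hb
    rw [← cm_eq_one_iff]
    rcases hDz.comm_mem a ha.1 b hb.1 with h1 | h1
    · exact h1
    · rcases hDs.comm_mem a ha.2 b hb.2 with h2 | h2
      · exact h2
      · exfalso
        exact hsz (h2.symm.trans h1)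
  have hEsq : ∀ a ∈ E, a * a = 1 := by
    intro a ha
    rcases hDz.sq_mem a ha.1 with h1 | h1
    · exact h1
    · rcases hDs.sq_mem a ha.2 with h2 | h2
      · exact h2
      · exfalso
        exact hsz (h2.symm.trans h1)
  have hEcard : Nat.card E ≤ 2 ^ 13 := h.rk E inf_le_left hEcomm hEsq
  have hE2 : IsPGroup 2 E := by
    have h1 : IsPGroup 2 (QG Q) := hDz.isPGroup
    exact h1.to_le inf_le_left
  -- Step C: the homomorphism `K → Co1`
  set Cs : Subgroup G := Subgroup.centralizer ({s} : Set G) with hCs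
  set K : Subgroup G := (Subgroup.centralizer ({z} : Set G)) ⊓ Cs with hK
  have hK_iff : ∀ k : G, k ∈ K ↔ k ∈ (Subgroup.centralizer ({z} : Set G)) ∧ k * s = s * k := by
    intro k
    rw [hK, Subgroup.mem_inf]
    constructor
    · rintro ⟨h1, h2⟩; exact ⟨h1, Subgroup.mem_centralizer_singleton_iff.mp h2⟩
    · rintro ⟨h1, h2⟩; exact ⟨h1, Subgroup.mem_centralizer_singleton_iff.mpr h2⟩
  have hKK : K = Kx.map (Subgroup.centralizer ({z} : Set G)).subtype := by
    ext k
    rw [hK_iff]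
    constructor
    · rintro ⟨h1, h2⟩
      exact ⟨⟨k, h1⟩, (hKx_iff _).mpr h2, rfl⟩
    · rintro ⟨c, hc, rfl⟩
      exact ⟨c.2, (hKx_iff c).mp hc⟩
  have hKcard' : Nat.card K = 2 ^ 24 * 42305421312000 := by
    rw [hKK, Subgroup.card_map_of_injective (Subgroup.subtype_injective _)]
    exact hKcard
  let θ : ↥K →* ↥(Subgroup.centralizer ({z} : Set G)) :=
    { toFun := fun k => ⟨g0⁻¹ * k * g0, hback k ((hK_iff k).mp k.2).2⟩
      map_one' := by
        apply Subtype.ext
        show g0⁻¹ * ((1 : ↥K) : G) * g0 = ((1 : ↥(Subgroup.centralizer ({z} : Set G))) : G)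
        simp
      map_mul' := by
        intro a b
        apply Subtype.ext
        show g0⁻¹ * ((a * b : ↥K) : G) * g0 = (g0⁻¹ * a * g0) * (g0⁻¹ * b * g0)
        rw [Subgroup.coe_mul]
        group }
  set Θ : ↥K →* Spor.Co1 := (Phi e).comp θ with hΘ
  have hker : Θ.ker = E.subgroupOf K := by
    ext k
    rw [MonoidHom.mem_ker, hΘ, MonoidHom.comp_apply, ← MonoidHom.mem_ker, Phi_ker,
      Subgroup.mem_subgroupOf]
    have h1 : θ k ∈ Q ↔ (k : G) ∈ Qs := by
      rw [hmemQs, mem_QG]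
      constructor
      · intro h2; exact ⟨_, h2⟩
      · rintro ⟨_, h2⟩; exact h2
    rw [h1]
    constructor
    · intro h2
      exact ⟨hA _ h2 ((hK_iff k).mp k.2).1, h2⟩
    · intro h2
      exact h2.2
  have hEK : E ≤ K := by
    intro y hy
    rw [hK_iff]
    exact ⟨QG_le hy.1, hDs.z_comm y hy.2⟩
  have hkercard : Nat.card Θ.ker = Nat.card E := by
    rw [hker]
    exact Nat.card_congr (Subgroup.subgroupOfEquivOfLe hEK).toEquiv
  have h1 := Subgroup.card_eq_card_quotient_mul_card_subgroup Θ.ker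
  rw [Nat.card_congr (QuotientGroup.quotientKerEquivRange Θ).toEquiv, hkercard, hKcard'] at h1
  have h2 : Nat.card Θ.range ∣ Nat.card Spor.Co1 := Subgroup.card_subgroup_dvd_card _
  rw [card_Co1] at h2
  obtain ⟨k, hk⟩ := hE2.exists_card_eq
  rw [hk] at h1 hEcard
  have hk13 : k ≤ 13 := (Nat.pow_le_pow_iff_right (by norm_num)).mp hEcard
  -- arithmetic
  have h3 : (2 : ℕ) ^ 24 = 2 ^ k * (2 ^ 11 * 2 ^ (13 - k)) := by
    rw [← pow_add, ← pow_add]
    congr 1
    omega
  rw [h3] at h1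
  have h4 : Nat.card Θ.range = 2 ^ 11 * 2 ^ (13 - k) * 42305421312000 := by
    have h5 : 2 ^ k * (2 ^ 11 * 2 ^ (13 - k) * 42305421312000) = 2 ^ k * Nat.card Θ.range := by
      rw [mul_comm (Nat.card ↥Θ.range)] at h1
      rw [← h1]; ring
    exact (Nat.eq_of_mul_eq_mul_left (by positivity) h5).symm
  rw [h4] at h2
  have h6 : 2 ^ 11 * 42305421312000 ∣ 4157776806543360000 := by
    refine Dvd.dvd.trans ?_ h2
    exact ⟨2 ^ (13 - k), by ring⟩
  norm_num at h6

end Cfsg.Agent.Lib.Helper9.MTc
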