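import Cfsg.Agent.Lib.Helper9.MTf
import Cfsg.Agent.Lib.Helper9.LeechX12
import Cfsg.Agent.S0364
import Cfsg.Agent.S0365

/-!
# Monster type, part i: the monomial group `2^12 : M24` and its image `2^11 : M24` in `Co1`

`Nst` is the stabiliser in `Co0` of the standard cross (equivalently of the class of `8 e_∞` modulo twice the
lattice).  `piN : Nst →* M24` reads off the permutation part, `secN : M24 →* Nst` is the section by coordinate
permutations.  In `Co1`: `Nbar`, `Dbar` (elementary abelian of order `2^11`, containing every normal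
2-subgroup of `Nbar`) and the complement `Kbar ≃* M24`.
-/

set_option autoImplicit false

namespace Cfsg.Agent.Lib.Helper9.MTc

open Cfsg Cfsg.Agent.Lib.Helper9.LeechM1 Cfsg.Agent.Lib.Helper9.LeechM2 Cfsg.Agent.Lib.Helper9.LeechM4
  Cfsg.Agent.Lib.Helper9.LeechX12 Cfsg.Agent.Lib.Helper4.Leech

theorem empty_code' : (∅ : Finset GolayPt) ∈ Code := by
  rw [Cfsg.Agent.Lib.Helper9.LeechX6.mem_Code_iff, ind_empty]
  exact golayCode.zero_mem

/-- the monomial group -/
def Nst : Subgroup Co0 where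
  carrier := {g | P g}
  one_mem' := by
    intro v hv
    exact hv
  mul_mem' := by
    intro a b ha hb v hv
    exact ha (b • v) (hb v hv)
  inv_mem' := by
    intro a ha
    have h1 := P_of_cong 1 a (cong_of_P a ha).symm
    rwa [mul_one] at h1

theorem mem_Nst (g : Co0) : g ∈ Nst ↔ P g := Iff.rfl

theorem mem_Nst_iff_cong (g : Co0) : g ∈ Nst ↔
    Cfsg.Agent.Lib.Helper9.LeechC8.mk (g.1 (E none)).1 = Cfsg.Agent.Lib.Helper9.LeechC8.mk (E none).1 := by
  constructor
  · exact cong_of_P g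
  · intro h
    have h1 := P_of_cong g 1 h
    rw [inv_one, one_mul] at h1
    exact h1

theorem exists_mono (g : Nst) : ∃ (σ : Equiv.Perm GolayPt) (hσ : σ ∈ M24) (c : Finset GolayPt)
    (hc : c ∈ Code), g.1.1 = mono σ hσ c hc := mono_of_P g.1 g.2

/-- the permutation part of a monomial element -/
noncomputable def sig (g : Nst) : Equiv.Perm GolayPt := Classical.choose (exists_mono g)

theorem sig_mem (g : Nst) : sig g ∈ M24 := by
  obtain ⟨hσ, _⟩ := Classical.choose_spec (exists_mono g)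
  exact hσ

theorem sig_spec (g : Nst) : ∃ (c : Finset GolayPt) (hc : c ∈ Code),
    g.1.1 = mono (sig g) (sig_mem g) c hc := by
  obtain ⟨hσ, c, hc, h⟩ := Classical.choose_spec (exists_mono g)
  exact ⟨c, hc, h⟩

theorem sig_val (g : Nst) : ∃ c ∈ Code, ∀ w : leechLattice,
    ((g.1.1 w : leechLattice) : GolayPt → ℤ) = signedPerm (sig g) c w.1 := by
  obtain ⟨c, hc, h⟩ := sig_spec g
  refine ⟨c, hc, fun w => ?_⟩
  rw [h]
  exact mono_val _ _ _ _ w

theorem sig_eq_of (g : Nst) (σ : Equiv.Perm GolayPt) (hσ : σ ∈ M24) (c : Finset GolayPt)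
    (hc : c ∈ Code) (h : g.1.1 = mono σ hσ c hc) : sig g = σ := by
  obtain ⟨c', hc', h'⟩ := sig_spec g
  exact (mono_inj (h'.symm.trans h)).1

theorem sig_unique (g : Nst) (τ : Equiv.Perm GolayPt)
    (h : ∀ i, ∃ s : ℤ, ((g.1.1 (E i) : leechLattice) : GolayPt → ℤ) = Pi.single (τ i) s) :
    sig g = τ := by
  obtain ⟨c, hc, hv⟩ := sig_val g
  apply Equiv.ext
  intro i
  obtain ⟨s, h1⟩ := h i
  rw [hv, E_val, signedPerm_single] at h1
  exact (single_inj (by split_ifs <;> norm_num) h1).1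

theorem sig_mul (g h : Nst) : sig (g * h) = sig g * sig h := by
  apply sig_unique
  intro i
  obtain ⟨c, hc, hg⟩ := sig_val g
  obtain ⟨c', hc', hh⟩ := sig_val h
  have h1 : ((g * h).1.1 (E i)) = g.1.1 (h.1.1 (E i)) := rfl
  rw [h1, hg, hh, E_val, signedPerm_single, signedPerm_single]
  exact ⟨_, rfl⟩

/-- the permutation part, as a homomorphism onto `M24` -/
noncomputable def piN : Nst →* M24 :=
  MonoidHom.mk' (fun g => ⟨sig g, sig_mem g⟩) (fun a b => Subtype.ext (sig_mul a b))

theorem piN_val (g : Nst) : (piN g : Equiv.Perm GolayPt) = sig g := rfl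

/-- coordinate permutations -/
def secFun (σ : M24) : Nst :=
  ⟨⟨mono σ.1 σ.2 ∅ empty_code', mono_mem _ _ _ _⟩, mono_P _ _ _ _⟩

theorem sig_sec (σ : M24) : sig (secFun σ) = σ.1 := sig_eq_of _ _ _ _ _ rfl

theorem secFun_mul (σ τ : M24) : secFun (σ * τ) = secFun σ * secFun τ := by
  apply Subtype.ext
  apply Subtype.ext
  apply Equiv.ext
  intro w
  apply Subtype.ext
  funext i
  show signedPerm (σ * τ).1 ∅ w.1 i = signedPerm σ.1 ∅ (signedPerm τ.1 ∅ w.1) i
  simp only [signedPerm, Finset.notMem_empty, if_false]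
  rfl

/-- the section `M24 → Nst` -/
noncomputable def secN : M24 →* Nst := MonoidHom.mk' secFun secFun_mul

theorem piN_secN (σ : M24) : piN (secN σ) = σ := Subtype.ext (sig_sec σ)

theorem piN_surjective : Function.Surjective piN := fun σ => ⟨secN σ, piN_secN σ⟩

theorem ker_val (g : Nst) (hg : g ∈ piN.ker) : ∃ c ∈ Code, ∀ (w : leechLattice) (i : GolayPt),
    ((g.1.1 w : leechLattice) : GolayPt → ℤ) i = if i ∈ c then -w.1 i else w.1 i := by
  have h1 : sig g = 1 := congrArg Subtype.val (MonoidHom.mem_ker.mp hg)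
  obtain ⟨c, hc, hv⟩ := sig_val g
  refine ⟨c, hc, fun w i => ?_⟩
  rw [hv, h1]
  rfl

theorem Nst_ext {a b : Nst} (h : ∀ (w : leechLattice) (i : GolayPt),
    ((a.1.1 w : leechLattice) : GolayPt → ℤ) i = ((b.1.1 w : leechLattice) : GolayPt → ℤ) i) : a = b := by
  apply Subtype.ext
  apply Subtype.ext
  apply Equiv.ext
  intro w
  apply Subtype.ext
  funext i
  exact h w i

theorem ker_sq (g : Nst) (hg : g ∈ piN.ker) : g * g = 1 := by
  obtain ⟨c, hc, hv⟩ := ker_val g hg
  apply Nst_ext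
  intro w i
  show ((g.1.1 (g.1.1 w) : leechLattice) : GolayPt → ℤ) i = w.1 i
  rw [hv, hv]
  split_ifs <;> simp

theorem ker_comm (g h : Nst) (hg : g ∈ piN.ker) (hh : h ∈ piN.ker) : g * h = h * g := by
  obtain ⟨c, hc, hv⟩ := ker_val g hg
  obtain ⟨c', hc', hv'⟩ := ker_val h hh
  apply Nst_ext
  intro w i
  show ((g.1.1 (h.1.1 w) : leechLattice) : GolayPt → ℤ) i = ((h.1.1 (g.1.1 w) : leechLattice) : GolayPt → ℤ) i
  rw [hv, hv', hv', hv]
  split_ifs <;> simp

theorem negOne_mem_Nst : negOne ∈ Nst := by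
  rintro v ⟨i, s, hs, hv⟩
  refine ⟨i, -s, ?_, ?_⟩
  · rcases hs with rfl | rfl
    · right; rfl
    · left; norm_num
  · show ((-v : leechLattice) : GolayPt → ℤ) = Pi.single i (-s)
    rw [AddSubgroup.coe_neg, hv, Pi.single_neg]

theorem negOne_mem_ker : (⟨negOne, negOne_mem_Nst⟩ : Nst) ∈ piN.ker := by
  rw [MonoidHom.mem_ker]
  apply Subtype.ext
  show sig _ = 1
  apply sig_unique
  intro i
  refine ⟨-8, ?_⟩
  show ((-(E i) : leechLattice) : GolayPt → ℤ) = Pi.single i (-8)
  rw [AddSubgroup.coe_neg, E_val, Pi.single_neg]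

theorem card_Nst : Nat.card Nst = 4096 * 244823040 := card_stab

theorem card_ker : Nat.card piN.ker = 4096 := by
  have h1 := Subgroup.card_eq_card_quotient_mul_card_subgroup piN.ker
  rw [Nat.card_congr (QuotientGroup.quotientKerEquivOfSurjective piN piN_surjective).toEquiv,
    card_Nst, Cfsg.Agent.S0364.result] at h1
  omega

/-- a normal 2-subgroup of the monomial group consists of sign changes -/
theorem normal2_le_ker (P : Subgroup Nst) (hn : P.Normal) (hP : IsPGroup 2 P) : P ≤ piN.ker := by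
  have hn' : (P.map piN).Normal := Subgroup.Normal.map hn piN piN_surjective
  haveI := Cfsg.Agent.S0365.result
  rcases hn'.eq_bot_or_eq_top with h | h
  · intro g hg
    rw [MonoidHom.mem_ker]
    have h1 : piN g ∈ P.map piN := Subgroup.mem_map_of_mem _ hg
    rw [h] at h1
    exact Subgroup.mem_bot.mp h1
  · exfalso
    have h2 : IsPGroup 2 (P.map piN) := hP.map piN
    have h3 : IsPGroup 2 M24 := by
      intro g
      have hg : g ∈ P.map piN := by rw [h]; exact Subgroup.mem_top _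
      obtain ⟨k, hk⟩ := h2 ⟨g, hg⟩
      refine ⟨k, ?_⟩
      have := congrArg Subtype.val hk
      simpa using this
    obtain ⟨k, hk⟩ := h3.exists_card_eq
    rw [Cfsg.Agent.S0364.result] at hk
    have h5 : (3 : ℕ) ∣ 2 ^ k := by rw [← hk]; norm_num
    have h6 := (Nat.Prime.dvd_of_dvd_pow Nat.prime_three h5)
    omega

end Cfsg.Agent.Lib.Helper9.MTc
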