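import Cfsg.Agent.Lib.Helper9.MTi

/-!
# Monster type, part j: the group `2^11 : M24` inside `Co1`

`Nbar`, `Dbar`, `Kbar` are the images in `Co1 = Co0 / {±1}` of the monomial group, of its subgroup of sign
changes and of the coordinate permutations.
-/

set_option autoImplicit false

namespace Cfsg.Agent.Lib.Helper9.MTc

open Cfsg Cfsg.Agent.Lib.Helper9.LeechM1 Cfsg.Agent.Lib.Helper9.LeechM2 Cfsg.Agent.Lib.Helper9.LeechM4
  Cfsg.Agent.Lib.Helper9.LeechX12 Cfsg.Agent.Lib.Helper4.Leech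

/-- the quotient map `Co0 → Co1` -/
def mkC : Co0 →* Spor.Co1 := QuotientGroup.mk' (Subgroup.center Co0)

theorem mkC_eq_one_iff (g : Co0) : mkC g = 1 ↔ g = 1 ∨ g = negOne := by
  unfold mkC
  rw [QuotientGroup.mk'_apply, QuotientGroup.eq_one_iff]
  constructor
  · exact central_eq g
  · rintro (h | h)
    · rw [h]; exact Subgroup.one_mem _
    · rw [h]; exact negOne_mem_center

/-- the map `Nst → Co1` -/
def fN : Nst →* Spor.Co1 := mkC.comp Nst.subtype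

theorem fN_apply (g : Nst) : fN g = mkC g.1 := rfl

theorem fN_eq_one_iff (g : Nst) : fN g = 1 ↔ g = 1 ∨ g = ⟨negOne, negOne_mem_Nst⟩ := by
  rw [fN_apply, mkC_eq_one_iff]
  constructor
  · rintro (h | h)
    · left; exact Subtype.ext h
    · right; exact Subtype.ext h
  · rintro (h | h)
    · left; rw [h]; rfl
    · right; rw [h]

theorem fN_ker_le : fN.ker ≤ piN.ker := by
  intro g hg
  rcases (fN_eq_one_iff g).mp (MonoidHom.mem_ker.mp hg) with h | h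
  · rw [h]; exact Subgroup.one_mem _
  · rw [h]; exact negOne_mem_ker

def Nbar : Subgroup Spor.Co1 := fN.range
noncomputable def Dbar : Subgroup Spor.Co1 := piN.ker.map fN
noncomputable def Kbar : Subgroup Spor.Co1 := secN.range.map fN

theorem Nbar_eq : Nbar = Nst.map mkC := by
  unfold Nbar fN
  rw [MonoidHom.range_comp, Subgroup.range_subtype]

theorem Dbar_le : Dbar ≤ Nbar := by
  rintro _ ⟨d, _, rfl⟩
  exact ⟨d, rfl⟩

theorem Kbar_le : Kbar ≤ Nbar := by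
  rintro _ ⟨d, _, rfl⟩
  exact ⟨d, rfl⟩

theorem Dbar_comm (a b : Spor.Co1) (ha : a ∈ Dbar) (hb : b ∈ Dbar) : a * b = b * a := by
  obtain ⟨d, hd, rfl⟩ := ha
  obtain ⟨d', hd', rfl⟩ := hb
  rw [← map_mul, ← map_mul, ker_comm d d' hd hd']

theorem Dbar_sq (a : Spor.Co1) (ha : a ∈ Dbar) : a * a = 1 := by
  obtain ⟨d, hd, rfl⟩ := ha
  rw [← map_mul, ker_sq d hd, map_one]

theorem Dbar_normal (a : Spor.Co1) (ha : a ∈ Nbar) (b : Spor.Co1) (hb : b ∈ Dbar) :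
    a * b * a⁻¹ ∈ Dbar := by
  obtain ⟨n, rfl⟩ := ha
  obtain ⟨d, hd, rfl⟩ := hb
  refine ⟨n * d * n⁻¹, ?_, by simp⟩
  exact (inferInstance : piN.ker.Normal).conj_mem d hd n

theorem card_fN_ker : Nat.card fN.ker = 2 := by
  rw [Nat.card_eq_two_iff]
  refine ⟨⟨1, Subgroup.one_mem _⟩, ⟨⟨negOne, negOne_mem_Nst⟩, ?_⟩, ?_, ?_⟩
  · rw [MonoidHom.mem_ker, fN_eq_one_iff]; right; rfl
  · intro h
    have h1 := congrArg (fun t : fN.ker => ((t : Nst) : Co0)) h
    exact negOne_ne_one h1.symm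
  · rw [Set.eq_univ_iff_forall]
    rintro ⟨g, hg⟩
    rcases (fN_eq_one_iff g).mp (MonoidHom.mem_ker.mp hg) with h | h
    · left; exact Subtype.ext h
    · right; exact Subtype.ext h

theorem card_Dbar : Nat.card Dbar = 2 ^ 11 := by
  haveI : Finite ↥Co0 := finite_Co0
  have h1 := card_eq_inf_ker_mul_map fN piN.ker
  rw [inf_eq_right.mpr fN_ker_le, card_fN_ker, card_ker] at h1
  have h2 : Nat.card ↥(piN.ker.map fN) = Nat.card Dbar := rfl
  rw [h2] at h1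
  omega

theorem decomp (n : Nst) : n * (secN (piN n))⁻¹ ∈ piN.ker := by
  rw [MonoidHom.mem_ker, map_mul, map_inv, piN_secN, mul_inv_cancel]

theorem Dbar_inf_Kbar : Dbar ⊓ Kbar = ⊥ := by
  rw [eq_bot_iff]
  rintro y ⟨⟨d, hd, rfl⟩, ⟨k, ⟨σ, rfl⟩, hk⟩⟩
  rw [Subgroup.mem_bot]
  have h1 : fN (d⁻¹ * secN σ) = 1 := by rw [map_mul, map_inv, hk, inv_mul_cancel]
  have h2 : d⁻¹ * secN σ ∈ piN.ker := fN_ker_le (MonoidHom.mem_ker.mpr h1)
  have h3 : secN σ ∈ piN.ker := by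
    have := Subgroup.mul_mem _ hd h2
    rwa [mul_inv_cancel_left] at this
  rw [MonoidHom.mem_ker, piN_secN] at h3
  rw [← hk, h3, map_one, map_one]

theorem Dbar_sup_Kbar : Dbar ⊔ Kbar = Nbar := by
  apply le_antisymm (sup_le Dbar_le Kbar_le)
  rintro _ ⟨n, rfl⟩
  have h1 : n = (n * (secN (piN n))⁻¹) * secN (piN n) := by group
  rw [h1, map_mul]
  exact Subgroup.mul_mem_sup (Subgroup.mem_map_of_mem _ (decomp n))
    (Subgroup.mem_map_of_mem _ ⟨piN n, rfl⟩)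

theorem Nbar_decomp (a : Spor.Co1) (ha : a ∈ Nbar) : ∃ d ∈ Dbar, ∃ k ∈ Kbar, a = d * k := by
  obtain ⟨n, rfl⟩ := ha
  refine ⟨fN (n * (secN (piN n))⁻¹), Subgroup.mem_map_of_mem _ (decomp n), fN (secN (piN n)),
    Subgroup.mem_map_of_mem _ ⟨piN n, rfl⟩, ?_⟩
  rw [← map_mul]
  congr 1
  group

theorem fN_secN_injective : Function.Injective (fN.comp secN) := by
  rw [← MonoidHom.ker_eq_bot_iff, eq_bot_iff]
  intro σ hσ
  rw [Subgroup.mem_bot]
  have h1 : secN σ ∈ fN.ker := hσ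
  have h2 := fN_ker_le h1
  rw [MonoidHom.mem_ker, piN_secN] at h2
  exact h2

theorem Kbar_equiv : Nonempty (Kbar ≃* M24) := by
  have h1 : (fN.comp secN).range = Kbar := by
    unfold Kbar
    rw [MonoidHom.range_comp]
  exact ⟨(MulEquiv.subgroupCongr h1.symm).trans (MonoidHom.ofInjective fN_secN_injective).symm⟩

/-- every normal 2-subgroup of `Nbar` lies in `Dbar` -/
theorem normal2_le_Dbar (Pb : Subgroup Spor.Co1) (hle : Pb ≤ Nbar)
    (hn : ∀ a ∈ Nbar, ∀ b ∈ Pb, a * b * a⁻¹ ∈ Pb) (h2 : IsPGroup 2 Pb) : Pb ≤ Dbar := by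
  have hPn : (Pb.comap fN).Normal := by
    constructor
    intro n hn' g
    show fN (g * n * g⁻¹) ∈ Pb
    rw [map_mul, map_mul, map_inv]
    exact hn (fN g) ⟨g, rfl⟩ (fN n) hn'
  have hP2 : IsPGroup 2 (Pb.comap fN) := by
    rintro ⟨g, hg⟩
    obtain ⟨k, hk⟩ := h2 ⟨fN g, hg⟩
    have hk' : fN (g ^ 2 ^ k) = 1 := by
      have := congrArg Subtype.val hk
      simpa using this
    refine ⟨k + 1, ?_⟩
    apply Subtype.ext
    show g ^ 2 ^ (k + 1) = 1
    rw [pow_succ, pow_mul, pow_two]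
    exact ker_sq _ (fN_ker_le (MonoidHom.mem_ker.mpr hk'))
  have h3 := normal2_le_ker _ hPn hP2
  intro y hy
  obtain ⟨n, rfl⟩ := hle hy
  exact ⟨n, h3 hy, rfl⟩

end Cfsg.Agent.Lib.Helper9.MTc
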