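import Cfsg.Agent.Lib.Helper9.MTj
import Cfsg.Agent.Lib.Helper9.MTh
import Cfsg.Agent.Lib.Helper2.ExtraSp

/-!
# Monster type, part k: twisting the identification; the centralizer of an element of type 4

* `MT.twist`: the pair `(e, ψ)` may be twisted by any lattice automorphism; hence (`MT.exists_twist`) a given
  element of type 4 may be assumed to lie over the standard vector `8 e_∞`.
* `MT.map_centralizer4`: if `x ∈ Q` lies over `8 e_∞`, the image of `C_C(x)` in `Co1` is `Nbar`.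
* `MT.z_mem_conj`: if `s = g z g⁻¹ ∈ Q`, `s ≠ z`, then `z ∈ g Q g⁻¹`.
-/

set_option autoImplicit false

namespace Cfsg.Agent.Lib.Helper9.MTc

open Cfsg Cfsg.Agent.Lib.Helper4.ES2 Cfsg.Agent.Lib.Helper9.MTa Cfsg.Agent.Lib.Helper9.MTb
  Cfsg.Agent.Lib.Helper9.LeechM1 Cfsg.Agent.Lib.Helper9.LeechM2

variable {G : Type*} [Group G] {z : G}
  {Q : Subgroup (Subgroup.centralizer ({z} : Set G))} [Q.Normal]
  {e : (Subgroup.centralizer ({z} : Set G)) ⧸ Q ≃* Spor.Co1}
  {ψ : leechLattice → Q ⧸ Subgroup.center Q}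

/-- twisting the identification by a lattice automorphism -/
theorem MT.twist (h : MT z Q e ψ) (g0 : Co0) :
    MT z Q (e.trans (MulAut.conj (mkC g0)⁻¹)) (fun v => ψ (g0 • v)) := by
  refine ⟨h.hz, h.hF, h.hQ, h.hcard, ?_, ?_, ?_, ?_⟩
  · intro v w
    show ψ (g0 • (v + w)) = ψ (g0 • v) * ψ (g0 • w)
    rw [smul_add', h.hψ.1]
  · intro y
    obtain ⟨w, hw⟩ := h.hψ.2.1 y
    refine ⟨g0⁻¹ • w, ?_⟩
    show ψ (g0 • g0⁻¹ • w) = y
    rw [smul_inv_smul]
    exact hw
  · intro v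
    show ψ (g0 • v) = 1 ↔ _
    rw [h.hψ.2.2.1]
    constructor
    · rintro ⟨w, hw⟩
      refine ⟨g0⁻¹ • w, ?_⟩
      rw [← smul_add', ← hw, inv_smul_smul]
    · rintro ⟨w, hw⟩
      exact ⟨g0 • w, by rw [hw, smul_add']⟩
  · intro c g hg v q hq
    show ψ (g0 • g • v) = _
    have e1 : (QuotientGroup.mk g : Spor.Co1) =
        (mkC g0)⁻¹ * e (QuotientGroup.mk c) * (mkC g0) := by
      rw [hg]
      show (mkC g0)⁻¹ * e (QuotientGroup.mk c) * ((mkC g0)⁻¹)⁻¹ = _
      rw [inv_inv]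
    have hg' : (QuotientGroup.mk (g0 * g * g0⁻¹) : Spor.Co1) = e (QuotientGroup.mk c) := by
      show mkC (g0 * g * g0⁻¹) = _
      rw [map_mul, map_mul, map_inv]
      have : mkC g = (QuotientGroup.mk g : Spor.Co1) := rfl
      rw [this, e1]
      group
    have h1 := h.hψ.2.2.2 c (g0 * g * g0⁻¹) hg' (g0 • v) q hq
    rw [mul_smul, mul_smul, inv_smul_smul] at h1
    exact h1

variable [Finite G]

/-- an element of type 4 may be assumed to lie over the standard vector -/
theorem MT.exists_twist (h : MT z Q e ψ) (x : Q) (v : leechLattice)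
    (hv : sqNorm (v : GolayPt → ℤ) = 64) (hx : ψ v = QuotientGroup.mk x) :
    ∃ (e' : (Subgroup.centralizer ({z} : Set G)) ⧸ Q ≃* Spor.Co1)
      (ψ' : leechLattice → Q ⧸ Subgroup.center Q), MT z Q e' ψ' ∧ ψ' (E none) = QuotientGroup.mk x := by
  obtain ⟨g0, u, hu, hg0⟩ := Cfsg.Agent.S5593.result (E none) v (sqNorm_E none) hv
  refine ⟨_, _, h.twist g0, ?_⟩
  show ψ (g0 • E none) = _
  rw [h.psi_congr _ _ ⟨u, hu, hg0⟩, hx]

theorem mem_Nst_iff' (g : Co0) : g ∈ Nst ↔ ∃ u ∈ leechLattice,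
    ((g • E none : leechLattice) : GolayPt → ℤ) - (E none : GolayPt → ℤ) = 2 • u := by
  rw [mem_Nst_iff_cong, Cfsg.Agent.Lib.Helper9.LeechC8.mk_eq_iff]
  rfl

/-- the image of the centralizer of an element over the standard vector of norm 64 -/
theorem MT.map_centralizer4 (h : MT z Q e ψ) (x : Q) (hx : ψ (E none) = QuotientGroup.mk x) :
    (Subgroup.centralizer ({(x : Subgroup.centralizer ({z} : Set G))} :
      Set (Subgroup.centralizer ({z} : Set G)))).map (Phi e) = Nbar := by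
  have hn64 : sqNorm ((E none : leechLattice) : GolayPt → ℤ) = 64 := sqNorm_E none
  rw [Nbar_eq]
  ext y
  constructor
  · rintro ⟨c, hc, rfl⟩
    obtain ⟨g, hg⟩ := QuotientGroup.mk_surjective (Phi e c)
    have hcx : c * (x : Subgroup.centralizer ({z} : Set G)) * c⁻¹ = x := by
      have := Subgroup.mem_centralizer_singleton_iff.mp hc
      rw [this]; group
    have h1 := h.equivariant c g hg (E none) x hx
    have h2 : (⟨c * x * c⁻¹, (inferInstance : Q.Normal).conj_mem
        (x : Subgroup.centralizer ({z} : Set G)) x.2 c⟩ : Q) = x := Subtype.ext hcx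
    rw [h2, ← hx] at h1
    obtain ⟨u, hu, huv⟩ := h.congr_of_psi_eq _ _ h1
    exact ⟨g, (mem_Nst_iff' g).mpr ⟨u, hu, huv⟩, hg⟩
  · rintro ⟨g, hg, rfl⟩
    obtain ⟨c, hc⟩ := Phi_surjective (e := e) (mkC g)
    have h1 := h.equivariant c g hc.symm (E none) x hx
    rw [h.psi_congr _ _ ((mem_Nst_iff' g).mp hg), hx] at h1
    have h2 : x⁻¹ * (⟨c * x * c⁻¹, (inferInstance : Q.Normal).conj_mem
        (x : Subgroup.centralizer ({z} : Set G)) x.2 c⟩ : Q) ∈ Subgroup.center Q :=
      QuotientGroup.eq.mp h1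
    have hnc := h.noncentral (E none) x hx (by omega) (by omega)
    rcases (mem_center_iff h.dataQ _).mp h2 with h3 | h3
    · refine ⟨c, ?_, hc⟩
      show c ∈ Subgroup.centralizer _
      rw [Subgroup.mem_centralizer_singleton_iff]
      have h4 := congrArg (fun t : Q => (t : Subgroup.centralizer ({z} : Set G)))
        (inv_mul_eq_one.mp h3)
      simp only at h4
      calc c * (x : Subgroup.centralizer ({z} : Set G)) = (c * x * c⁻¹) * c := by group
        _ = x * c := by rw [← h4]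
    · -- `c x c⁻¹ = x z`
      have h4 : c * (x : Subgroup.centralizer ({z} : Set G)) * c⁻¹ = x * zC z := by
        have h5 : (⟨c * x * c⁻¹, (inferInstance : Q.Normal).conj_mem
            (x : Subgroup.centralizer ({z} : Set G)) x.2 c⟩ : Q) = x * ⟨zC z, h.zC_mem⟩ := by
          rw [← h3]; group
        exact congrArg (fun t : Q => (t : Subgroup.centralizer ({z} : Set G))) h5
      obtain ⟨y, hyQ, hy⟩ := h.swap x.2 hnc.1 hnc.2
      refine ⟨y * c, ?_, ?_⟩
      · show y * c ∈ Subgroup.centralizer _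
        rw [Subgroup.mem_centralizer_singleton_iff]
        have h6 : y * c * (x : Subgroup.centralizer ({z} : Set G)) * (y * c)⁻¹ = x := by
          have : y * c * (x : Subgroup.centralizer ({z} : Set G)) * (y * c)⁻¹ =
              y * (c * x * c⁻¹) * y⁻¹ := by group
          rw [this, h4]
          have : y * ((x : Subgroup.centralizer ({z} : Set G)) * zC z) * y⁻¹ =
              (y * x * y⁻¹) * (y * zC z * y⁻¹) := by group
          rw [this, hy]
          have : y * zC z * y⁻¹ = zC z := by rw [zC_comm y]; group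
          rw [this, mul_assoc, zC_sq h.hz, mul_one]
        calc y * c * (x : Subgroup.centralizer ({z} : Set G))
            = (y * c * x * (y * c)⁻¹) * (y * c) := by group
          _ = x * (y * c) := by rw [h6]
      · rw [map_mul]
        have : Phi e y = 1 := by
          have := (Phi_ker (e := e)).symm ▸ hyQ
          exact MonoidHom.mem_ker.mp this
        rw [this, one_mul, hc]

/-- helper2's elementwise data from helper4's -/
theorem esdata_of_data {Q' : Subgroup G} {z' : G} (hD : Data Q' z') :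
    Cfsg.Agent.Lib.Helper2.ExtraSp.ESData Q' z' where
  two := hD.isPGroup
  zQ := hD.zQ
  z_ne := hD.z_ne
  z_sq := hD.z_sq
  z_comm := hD.z_comm
  center_sub := hD.center_sub
  comm_mem := hD.comm_mem
  sq_mem := hD.sq_mem

/-- `C_G(Q) ≤ Q` -/
theorem MT.centralizer_QG_le (h : MT z Q e ψ) :
    Subgroup.centralizer ((QG Q : Subgroup G) : Set G) ≤ QG Q := by
  intro y hy
  have hzQ : z ∈ QG Q := h.dataG.zQ
  have hyz : y * z = z * y := (Subgroup.mem_centralizer_iff.mp hy z hzQ).symm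
  have hyC : y ∈ Subgroup.centralizer ({z} : Set G) :=
    Subgroup.mem_centralizer_singleton_iff.mpr hyz
  have h1 : (⟨y, hyC⟩ : Subgroup.centralizer ({z} : Set G)) ∈
      Subgroup.centralizer ((Q : Subgroup (Subgroup.centralizer ({z} : Set G))) : Set _) := by
    rw [Subgroup.mem_centralizer_iff]
    intro q hq
    apply Subtype.ext
    exact Subgroup.mem_centralizer_iff.mp hy q (mem_QG.mpr ⟨q.2, hq⟩)
  have h2 := Cfsg.Agent.Lib.Helper8.centralizer_generalizedFittingSubgroup_le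
    (G := Subgroup.centralizer ({z} : Set G))
  rw [h.hF] at h2
  exact mem_QG.mpr ⟨hyC, h2 h1⟩

theorem centralizer_le_normalizer_QG :
    Subgroup.centralizer ({z} : Set G) ≤ Subgroup.normalizer ((QG Q : Subgroup G) : Set G) := by
  intro c hc
  rw [Subgroup.mem_normalizer_iff]
  intro q
  constructor
  · intro hq
    exact QG_conj_mem hc hq
  · intro hq
    have h1 := QG_conj_mem (Q := Q) (Subgroup.inv_mem _ hc) hq
    have h2 : c⁻¹ * (c * q * c⁻¹) * c⁻¹⁻¹ = q := by group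
    rwa [h2] at h1

/-- `z` lies in `g Q g⁻¹` whenever `g z g⁻¹ ∈ Q` is not `z` -/
theorem MT.z_mem_conj (h : MT z Q e ψ) (g : G) (hsQ : g * z * g⁻¹ ∈ QG Q) (hsz : g * z * g⁻¹ ≠ z) :
    z ∈ (QG Q).map (MulAut.conj g).toMonoidHom := by
  have hES := esdata_of_data h.dataG
  obtain ⟨ρ, hρz, hρx⟩ := Cfsg.Agent.Lib.Helper2.ExtraSp.key_rho hES h.centralizer_QG_le
    centralizer_le_normalizer_QG g hsQ hsz
  -- `g⁻¹ ρ` centralizes `z`
  have hcz : g⁻¹ * ρ ∈ Subgroup.centralizer ({z} : Set G) := by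
    rw [Subgroup.mem_centralizer_singleton_iff]
    have h1 : g⁻¹ * ρ * z * (g⁻¹ * ρ)⁻¹ = z := by
      calc g⁻¹ * ρ * z * (g⁻¹ * ρ)⁻¹ = g⁻¹ * (ρ * z * ρ⁻¹) * g := by group
        _ = g⁻¹ * (g * z * g⁻¹) * g := by rw [hρz]
        _ = z := by group
    calc g⁻¹ * ρ * z = (g⁻¹ * ρ * z * (g⁻¹ * ρ)⁻¹) * (g⁻¹ * ρ) := by group
      _ = z * (g⁻¹ * ρ) := by rw [h1]
  have h1 := QG_conj_mem hcz hsQ
  have h2 : g⁻¹ * ρ * (g * z * g⁻¹) * (g⁻¹ * ρ)⁻¹ = g⁻¹ * (ρ * (g * z * g⁻¹) * ρ⁻¹) * g := by group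
  rw [h2, hρx] at h1
  -- `x z ∈ Q^g` and `x ∈ Q^g`
  have hxz : g * z * g⁻¹ * z ∈ (QG Q).map (MulAut.conj g).toMonoidHom := by
    refine ⟨_, h1, ?_⟩
    simp only [MulEquiv.coe_toMonoidHom, MulAut.conj_apply]
    group
  have hx : g * z * g⁻¹ ∈ (QG Q).map (MulAut.conj g).toMonoidHom := by
    refine ⟨z, h.dataG.zQ, ?_⟩
    simp only [MulEquiv.coe_toMonoidHom, MulAut.conj_apply]
  have h3 := Subgroup.mul_mem _ (Subgroup.inv_mem _ hx) hxz
  have h4 : (g * z * g⁻¹)⁻¹ * (g * z * g⁻¹ * z) = z := by group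
  rwa [h4] at h3

end Cfsg.Agent.Lib.Helper9.MTc
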