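import Cfsg.Agent.Lib.Helper9.MTk

/-!
# Monster type, part l: `Q ∩ Q^g` for a conjugate `s = g z g⁻¹ ∈ Q` of `z`

With `s` over the standard vector `8 e_∞`: `|Q ∩ Q^g| = 2^13` and the image of `Q^g ∩ C` in `Co1` is `Dbar`.
-/

set_option autoImplicit false

namespace Cfsg.Agent.Lib.Helper9.MTc

open Cfsg Cfsg.Agent.Lib.Helper4.ES2 Cfsg.Agent.Lib.Helper9.MTa Cfsg.Agent.Lib.Helper9.MTb
  Cfsg.Agent.Lib.Helper9.LeechM1 Cfsg.Agent.Lib.Helper9.LeechM2

variable {G : Type*} [Group G] [Finite G] {z : G}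
  {Q : Subgroup (Subgroup.centralizer ({z} : Set G))} [Q.Normal]
  {e : (Subgroup.centralizer ({z} : Set G)) ⧸ Q ≃* Spor.Co1}
  {ψ : leechLattice → Q ⧸ Subgroup.center Q}

theorem finite_Co1 : Finite Spor.Co1 := by
  haveI : Finite ↥Co0 := finite_Co0
  unfold Spor.Co1
  infer_instance

theorem arith_2_24 {a b : ℕ} (hab : 2 ^ 24 = a * b) (ha : a ≤ 2 ^ 13) (hb : b ≤ 2 ^ 11) :
    a = 2 ^ 13 ∧ b = 2 ^ 11 := by
  constructor
  · by_contra hne
    have h1 : a ≤ 2 ^ 13 - 1 := by omega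
    have h2 : a * b ≤ (2 ^ 13 - 1) * 2 ^ 11 := Nat.mul_le_mul h1 hb
    omega
  · by_contra hne
    have h1 : b ≤ 2 ^ 11 - 1 := by omega
    have h2 : a * b ≤ 2 ^ 13 * (2 ^ 11 - 1) := Nat.mul_le_mul ha h1
    omega

/-- the subgroup `C_C(s)` of `C`, written as in the statements -/
theorem subgroupOf_inf_centralizer (s : G) (hsC : s ∈ Subgroup.centralizer ({z} : Set G)) :
    (Subgroup.centralizer ({z} : Set G) ⊓ Subgroup.centralizer ({s} : Set G)).subgroupOf
      (Subgroup.centralizer ({z} : Set G)) =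
    Subgroup.centralizer ({(⟨s, hsC⟩ : Subgroup.centralizer ({z} : Set G))} :
      Set (Subgroup.centralizer ({z} : Set G))) := by
  ext c
  rw [Subgroup.mem_subgroupOf, Subgroup.mem_inf]
  constructor
  · rintro ⟨_, h2⟩
    rw [Subgroup.mem_centralizer_singleton_iff] at h2 ⊢
    exact Subtype.ext h2
  · intro h2
    rw [Subgroup.mem_centralizer_singleton_iff] at h2
    refine ⟨c.2, ?_⟩
    rw [Subgroup.mem_centralizer_singleton_iff]
    exact congrArg Subtype.val h2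

/-- the core computation -/
theorem MT.inter_core (h : MT z Q e ψ) (g : G)
    (hsC : g * z * g⁻¹ ∈ Subgroup.centralizer ({z} : Set G))
    (hsQ : (⟨g * z * g⁻¹, hsC⟩ : Subgroup.centralizer ({z} : Set G)) ∈ Q)
    (hsz : g * z * g⁻¹ ≠ z)
    (hx : ψ (E none) = QuotientGroup.mk (⟨⟨g * z * g⁻¹, hsC⟩, hsQ⟩ : Q)) :
    Nat.card ↥(QG Q ⊓ (QG Q).map (MulAut.conj g).toMonoidHom) = 2 ^ 13 ∧
    ((((QG Q).map (MulAut.conj g).toMonoidHom ⊓ Subgroup.centralizer ({z} : Set G)).subgroupOf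
      (Subgroup.centralizer ({z} : Set G))).map (Phi e)) = Dbar := by
  classical
  haveI : Finite Spor.Co1 := finite_Co1
  set s : G := g * z * g⁻¹ with hs
  set x : Q := ⟨⟨s, hsC⟩, hsQ⟩ with hxdef
  have hDz : Data (QG Q) z := h.dataG
  set Qs : Subgroup G := (QG Q).map (MulAut.conj g).toMonoidHom with hQs
  have hDs : Data Qs s := by
    have := data_map' (MulAut.conj g).toMonoidHom (MulAut.conj g).injective (QG Q) z hDz
    exact this
  have hzs : z = g⁻¹ * s * g := by rw [hs]; group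
  have hback : ∀ k : G, k * s = s * k → g⁻¹ * k * g ∈ (Subgroup.centralizer ({z} : Set G)) := by
    intro k hk
    rw [Subgroup.mem_centralizer_singleton_iff]
    rw [hzs]
    calc g⁻¹ * k * g * (g⁻¹ * s * g) = g⁻¹ * (k * s) * g := by group
      _ = g⁻¹ * (s * k) * g := by rw [hk]
      _ = g⁻¹ * s * g * (g⁻¹ * k * g) := by group
  have hmemQs : ∀ y : G, y ∈ Qs ↔ g⁻¹ * y * g ∈ QG Q := by
    intro y
    constructor
    · rintro ⟨q, hq, rfl⟩
      have : g⁻¹ * ((MulAut.conj g).toMonoidHom q) * g = q := by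
        simp [MulAut.conj_apply]; group
      rw [this]; exact hq
    · intro hy
      refine ⟨g⁻¹ * y * g, hy, ?_⟩
      simp [MulAut.conj_apply]; group
  have hQsn : ∀ k : G, k * s = s * k → ∀ y ∈ Qs, k * y * k⁻¹ ∈ Qs := by
    intro k hk y hy
    rw [hmemQs] at hy ⊢
    have h1 := QG_conj_mem (hback k hk) hy
    have h2 : g⁻¹ * (k * y * k⁻¹) * g = g⁻¹ * k * g * (g⁻¹ * y * g) * (g⁻¹ * k * g)⁻¹ := by
      group
    rw [h2]; exact h1
  set Kx : Subgroup ↥(Subgroup.centralizer ({z} : Set G)) :=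
    Subgroup.centralizer ({(x : ↥(Subgroup.centralizer ({z} : Set G)))} :
      Set ↥(Subgroup.centralizer ({z} : Set G))) with hKx
  set Y' : Subgroup ↥(Subgroup.centralizer ({z} : Set G)) :=
    (Qs ⊓ Subgroup.centralizer ({z} : Set G)).subgroupOf (Subgroup.centralizer ({z} : Set G)) with hY'
  have hY'mem : ∀ c : ↥(Subgroup.centralizer ({z} : Set G)), c ∈ Y' ↔ (c : G) ∈ Qs := by
    intro c
    rw [hY', Subgroup.mem_subgroupOf, Subgroup.mem_inf]
    exact ⟨fun h1 => h1.1, fun h1 => ⟨h1, c.2⟩⟩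
  have hxval : ((x : ↥(Subgroup.centralizer ({z} : Set G))) : G) = s := rfl
  have hKx_iff : ∀ c : ↥(Subgroup.centralizer ({z} : Set G)), c ∈ Kx ↔ (c : G) * s = s * c := by
    intro c
    rw [hKx, Subgroup.mem_centralizer_singleton_iff]
    constructor
    · intro h1
      have := congrArg (fun t : ↥(Subgroup.centralizer ({z} : Set G)) => (t : G)) h1
      simp only [Subgroup.coe_mul, hxval] at this
      exact this
    · intro h1
      apply Subtype.ext
      simp only [Subgroup.coe_mul, hxval]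
      exact h1
  have hY'K : Y' ≤ Kx := by
    intro c hc
    rw [hKx_iff]
    exact hDs.z_comm _ ((hY'mem c).mp hc)
  have hY'2 : IsPGroup 2 Y' := by
    have h1 : IsPGroup 2 Qs := hDs.isPGroup
    have h2 : IsPGroup 2 ↥(Qs ⊓ Subgroup.centralizer ({z} : Set G)) := h1.to_le inf_le_left
    exact h2.comap_of_injective (Subgroup.centralizer ({z} : Set G)).subtype
      (Subgroup.subtype_injective _)
  have hKmap : Kx.map (Phi e) = Nbar := h.map_centralizer4 x hx
  -- the image of `Y'` lies in `Dbar`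
  have hYD : Y'.map (Phi e) ≤ Dbar := by
    apply normal2_le_Dbar
    · rw [← hKmap]; exact Subgroup.map_mono hY'K
    · rw [← hKmap]
      rintro a ⟨k, hk, rfl⟩ n ⟨y, hy, rfl⟩
      refine ⟨k * y * k⁻¹, ?_, by simp⟩
      show k * y * k⁻¹ ∈ Y'
      rw [hY'mem]
      have hk' := (hKx_iff k).mp hk
      have := hQsn k hk' y ((hY'mem y).mp hy)
      simpa using this
    · exact hY'2.map (Phi e)
  -- `E = Q ∩ Qs` is elementary abelian
  set E : Subgroup G := QG Q ⊓ Qs with hE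
  have hEcomm : ∀ a ∈ E, ∀ b ∈ E, a * b = b * a := by
    intro a ha b hb
    rw [← cm_eq_one_iff]
    rcases hDz.comm_mem a ha.1 b hb.1 with h1 | h1
    · exact h1
    · rcases hDs.comm_mem a ha.2 b hb.2 with h2 | h2
      · exact h2
      · exfalso
        exact hsz (h2.symm.trans h1)
  have hEsq : ∀ a ∈ E, a * a = 1 := by
    intro a ha
    rcases hDz.sq_mem a ha.1 with h1 | h1
    · exact h1
    · rcases hDs.sq_mem a ha.2 with h2 | h2
      · exact h2
      · exfalso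
        exact hsz (h2.symm.trans h1)
  have hEcard : Nat.card E ≤ 2 ^ 13 := h.rk E inf_le_left hEcomm hEsq
  -- `|Qs ∩ C| = 2^24`
  have hzQs : z ∈ Qs := h.z_mem_conj g (mem_QG.mpr ⟨hsC, hsQ⟩) hsz
  obtain ⟨y, hy, hc⟩ := hDs.exists_nc hzQs hDz.z_ne (Ne.symm hsz)
  have h2 : cm y z = s := by rw [hDs.cm_symm hy hzQs]; exact hc
  have h3 := hDs.card_centralizer (le_refl Qs) hzQs hy h2
  have hQscard : Nat.card Qs = 2 ^ 25 := by
    rw [hQs, Subgroup.card_map_of_injective (MulAut.conj g).injective, card_QG, h.hcard]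
  have hYcard : Nat.card Y' = 2 ^ 24 := by
    rw [hY']
    rw [Nat.card_congr (Subgroup.subgroupOfEquivOfLe
      (inf_le_right (a := Qs) (b := Subgroup.centralizer ({z} : Set G)))).toEquiv]
    omega
  -- `|Y'| = |E| |Φ(Y')|`
  have h4 := card_eq_inf_ker_mul_map (Phi e) Y'
  have h5 : Nat.card ↥(Y' ⊓ (Phi e).ker) = Nat.card E := by
    have h5a : Nat.card ↥((Y' ⊓ Q).map (Subgroup.centralizer ({z} : Set G)).subtype) =
        Nat.card ↥(Y' ⊓ Q) :=
      Subgroup.card_map_of_injective (Subgroup.subtype_injective _)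
    rw [Phi_ker, ← h5a]
    congr 2
    ext y
    constructor
    · rintro ⟨c, ⟨hc1, hc2⟩, rfl⟩
      exact ⟨mem_QG.mpr ⟨c.2, hc2⟩, (hY'mem c).mp hc1⟩
    · rintro ⟨hy1, hy2⟩
      obtain ⟨hyC, hyQ⟩ := mem_QG.mp hy1
      exact ⟨⟨y, hyC⟩, ⟨(hY'mem _).mpr hy2, hyQ⟩, rfl⟩
  rw [h5, hYcard] at h4
  have h6 : Nat.card ↥(Y'.map (Phi e)) ≤ 2 ^ 11 := by
    rw [← card_Dbar]
    exact Subgroup.card_le_of_le hYD
  obtain ⟨h7, h8⟩ := arith_2_24 h4 hEcard h6
  refine ⟨h7, ?_⟩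
  apply Subgroup.eq_of_le_of_card_ge hYD
  rw [h8, card_Dbar]

end Cfsg.Agent.Lib.Helper9.MTc
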