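import Cfsg.Agent.Lib.Helper9.MTl

/-!
# Monster type, part m: the structure `2^11 : M24` of the image of `C_C(s)` in `C / Q`
-/

set_option autoImplicit false

namespace Cfsg.Agent.Lib.Helper9.MTc

open Cfsg Cfsg.Agent.Lib.Helper4.ES2 Cfsg.Agent.Lib.Helper9.MTa Cfsg.Agent.Lib.Helper9.MTb
  Cfsg.Agent.Lib.Helper9.LeechM1 Cfsg.Agent.Lib.Helper9.LeechM2

/-- transport of the structure of `Nbar` along an isomorphism onto `Co1` -/
theorem transport_core {A : Type*} [Group A] (e : A ≃* Spor.Co1) (X Est : Subgroup A)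
    (hX : X.map e.toMonoidHom = Nbar) (hE : Est.map e.toMonoidHom = Dbar) :
    Est ≤ X ∧ (∀ x ∈ X, ∀ y ∈ Est, x * y * x⁻¹ ∈ Est) ∧ IsElementaryAbelian 2 Est ∧
      Nat.card Est = 2 ^ 11 ∧ ∃ K : Subgroup A, K ≤ X ∧ Est ⊓ K = ⊥ ∧ Est ⊔ K = X ∧
        Nonempty (K ≃* M24) := by
  have hXm : ∀ a : A, a ∈ X ↔ e a ∈ Nbar := by
    intro a
    rw [← hX]
    exact (Subgroup.mem_map_iff_mem e.injective).symm
  have hEm : ∀ a : A, a ∈ Est ↔ e a ∈ Dbar := by
    intro a
    rw [← hE]
    exact (Subgroup.mem_map_iff_mem e.injective).symm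
  refine ⟨?_, ?_, ?_, ?_, ?_⟩
  · intro a ha
    rw [hXm]
    exact Dbar_le ((hEm a).mp ha)
  · intro x hx y hy
    rw [hEm, map_mul, map_mul, map_inv]
    exact Dbar_normal _ ((hXm x).mp hx) _ ((hEm y).mp hy)
  · constructor
    · refine ⟨⟨fun a b => ?_⟩⟩
      apply Subtype.ext
      apply e.injective
      show e (a.1 * b.1) = e (b.1 * a.1)
      rw [map_mul, map_mul]
      exact Dbar_comm _ _ ((hEm _).mp a.2) ((hEm _).mp b.2)
    · intro a ha
      apply e.injective
      rw [map_pow, map_one, pow_two]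
      exact Dbar_sq _ ((hEm a).mp ha)
  · rw [← card_Dbar, ← hE]
    exact (Subgroup.card_map_of_injective e.injective).symm
  · refine ⟨Kbar.comap e.toMonoidHom, ?_, ?_, ?_, ?_⟩
    · intro a ha
      rw [hXm]
      exact Kbar_le ha
    · rw [eq_bot_iff]
      intro a ha
      rw [Subgroup.mem_bot]
      apply e.injective
      rw [map_one]
      have h1 : e a ∈ Dbar ⊓ Kbar := ⟨(hEm a).mp ha.1, ha.2⟩
      rw [Dbar_inf_Kbar] at h1
      exact Subgroup.mem_bot.mp h1
    · apply le_antisymm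
      · apply sup_le
        · intro a ha
          rw [hXm]
          exact Dbar_le ((hEm a).mp ha)
        · intro a ha
          rw [hXm]
          exact Kbar_le ha
      · intro a ha
        obtain ⟨d, hd, k, hk, hdk⟩ := Nbar_decomp (e a) ((hXm a).mp ha)
        have h2 : a = e.symm d * e.symm k := by
          rw [← map_mul, ← hdk, MulEquiv.symm_apply_apply]
        rw [h2]
        apply Subgroup.mul_mem_sup
        · rw [hEm, MulEquiv.apply_symm_apply]; exact hd
        · show e (e.symm k) ∈ Kbar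
          rw [MulEquiv.apply_symm_apply]; exact hk
    · obtain ⟨f⟩ := Kbar_equiv
      have h1 : (Kbar.comap e.toMonoidHom).map e.toMonoidHom = Kbar :=
        Subgroup.map_comap_eq_self_of_surjective e.surjective Kbar
      exact ⟨((Subgroup.equivMapOfInjective _ e.toMonoidHom e.injective).trans
        (MulEquiv.subgroupCongr h1)).trans f⟩

variable {G : Type*} [Group G] [Finite G] {z : G}
  {Q : Subgroup (Subgroup.centralizer ({z} : Set G))} [Q.Normal]
  {e : (Subgroup.centralizer ({z} : Set G)) ⧸ Q ≃* Spor.Co1}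
  {ψ : leechLattice → Q ⧸ Subgroup.center Q}

theorem map_map_Phi (H : Subgroup (Subgroup.centralizer ({z} : Set G))) :
    (H.map (QuotientGroup.mk' Q)).map e.toMonoidHom = H.map (Phi e) := by
  rw [Subgroup.map_map]
  rfl

/-- the structure of the image of `C_C(s)` in `C / Q`, for `s` over the standard vector -/
theorem MT.s5410_core (h : MT z Q e ψ) (g : G)
    (hsC : g * z * g⁻¹ ∈ Subgroup.centralizer ({z} : Set G))
    (hsQ : (⟨g * z * g⁻¹, hsC⟩ : Subgroup.centralizer ({z} : Set G)) ∈ Q)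
    (hsz : g * z * g⁻¹ ≠ z)
    (hx : ψ (E none) = QuotientGroup.mk (⟨⟨g * z * g⁻¹, hsC⟩, hsQ⟩ : Q))
    (X Est : Subgroup ((Subgroup.centralizer ({z} : Set G)) ⧸ Q))
    (hX : X = ((Subgroup.centralizer ({z} : Set G) ⊓
      Subgroup.centralizer ({g * z * g⁻¹} : Set G)).subgroupOf
        (Subgroup.centralizer ({z} : Set G))).map (QuotientGroup.mk' Q))
    (hE : Est = (((Q.map (Subgroup.centralizer ({z} : Set G)).subtype).map
      (MulAut.conj g).toMonoidHom ⊓ Subgroup.centralizer ({z} : Set G)).subgroupOf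
        (Subgroup.centralizer ({z} : Set G))).map (QuotientGroup.mk' Q)) :
    Est ≤ X ∧ (∀ x ∈ X, ∀ y ∈ Est, x * y * x⁻¹ ∈ Est) ∧ IsElementaryAbelian 2 Est ∧
      Nat.card Est = 2 ^ 11 ∧ ∃ K : Subgroup ((Subgroup.centralizer ({z} : Set G)) ⧸ Q),
        K ≤ X ∧ Est ⊓ K = ⊥ ∧ Est ⊔ K = X ∧ Nonempty (K ≃* M24) := by
  apply transport_core e X Est
  · rw [hX, map_map_Phi, subgroupOf_inf_centralizer _ hsC]
    exact h.map_centralizer4 ⟨⟨g * z * g⁻¹, hsC⟩, hsQ⟩ hx
  · rw [hE, map_map_Phi]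
    exact (h.inter_core g hsC hsQ hsz hx).2

end Cfsg.Agent.Lib.Helper9.MTc
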