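import Cfsg.Agent.Lib.Helper9.MTm

/-!
# Monster type, part n: the commutator form, and a type-2 element in `Q ∩ Q^g`

* `MT.cm_iff`: elements of `Q` over `v` and `w` commute iff `(|v+w|² - |v|² - |w|²)/16` is even.
* `MT.exists_type2_inter`: if `s = g z g⁻¹ ∈ Q` lies over `8 e_∞`, then `Q ∩ Q^g` contains an element over a
  vector of norm 32 (the commutator of an element of `Q` over an octad vector `2·1_O` and an element of
  `Q^g ∩ C` inducing the sign change on a codeword meeting `O` in two points).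
-/

set_option autoImplicit false

namespace Cfsg.Agent.Lib.Helper9.MTc

open Cfsg Cfsg.Agent.Lib.Helper4.ES2 Cfsg.Agent.Lib.Helper9.MTa Cfsg.Agent.Lib.Helper9.MTb
  Cfsg.Agent.Lib.Helper9.LeechM1 Cfsg.Agent.Lib.Helper9.LeechM2 Cfsg.Agent.Lib.Helper9.LeechM4
  Cfsg.Agent.Lib.Helper9.M24U1

/-! ### explicit data -/

theorem octO_code : M 8536111 ∈ Code :=
  Cfsg.Agent.Lib.Helper9.LeechX7.mask_mem_Code _ (by decide +kernel)

theorem octS_code : M 6053905 ∈ Code :=
  Cfsg.Agent.Lib.Helper9.LeechX7.mask_mem_Code _ (by decide +kernel)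

/-- the octad vector `2·1_O` -/
def w0 : leechLattice := ⟨fun i => if i ∈ M 8536111 then (2 : ℤ) else 0, two_ind_mem _ octO_code⟩

theorem w0_norm : sqNorm (w0 : GolayPt → ℤ) = 32 := by
  show sqNorm (fun i : GolayPt => if i ∈ M 8536111 then (2 : ℤ) else 0) = 32
  decide +kernel

theorem w0_add_norm : sqNorm ((w0 + E none : leechLattice) : GolayPt → ℤ) = 128 := by
  show sqNorm ((fun i : GolayPt => if i ∈ M 8536111 then (2 : ℤ) else 0) + Pi.single none 8) = 128
  decide +kernel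

/-- sign changes as elements of the monomial group -/
def epsN (c : Finset GolayPt) (hc : c ∈ Code) : Nst :=
  ⟨⟨mono 1 M24.one_mem c hc, mono_mem _ _ _ _⟩, mono_P _ _ _ _⟩

theorem epsN_ker (c : Finset GolayPt) (hc : c ∈ Code) : epsN c hc ∈ piN.ker := by
  rw [MonoidHom.mem_ker]
  apply Subtype.ext
  show sig (epsN c hc) = 1
  exact sig_eq_of _ _ _ _ _ rfl

theorem epsN_val (c : Finset GolayPt) (hc : c ∈ Code) (v : leechLattice) (i : GolayPt) :
    (((epsN c hc).1 • v : leechLattice) : GolayPt → ℤ) i = if i ∈ c then -v.1 i else v.1 i := rfl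

theorem diff_norm : sqNorm ((((epsN (M 6053905) octS_code).1 • w0 + -w0 : leechLattice)) : GolayPt → ℤ) = 32 := by
  show sqNorm (fun i : GolayPt => (if i ∈ M 6053905 then -(if i ∈ M 8536111 then (2 : ℤ) else 0)
    else (if i ∈ M 8536111 then 2 else 0)) + -(if i ∈ M 8536111 then (2 : ℤ) else 0)) = 32
  decide +kernel

variable {G : Type*} [Group G] [Finite G] {z : G}
  {Q : Subgroup (Subgroup.centralizer ({z} : Set G))} [Q.Normal]
  {e : (Subgroup.centralizer ({z} : Set G)) ⧸ Q ≃* Spor.Co1}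
  {ψ : leechLattice → Q ⧸ Subgroup.center Q}

/-- the value of the squaring form -/
theorem MT.sqv_eq (h : MT z Q e ψ) (v : leechLattice) (a : Q) (ha : ψ v = QuotientGroup.mk a) :
    sqv a = ((sqNorm (v : GolayPt → ℤ) / 16 : ℤ) : ZMod 2) := by
  rw [← Qf_eq h.dataQ v a ha, Qf_sqNorm h.hQ h.two_lt h.dataQ h.hψ v]

/-- the commutator form -/
theorem MT.cm_iff (h : MT z Q e ψ) (v w : leechLattice) (a b : Q)
    (ha : ψ v = QuotientGroup.mk a) (hb : ψ w = QuotientGroup.mk b) :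
    a * b = b * a ↔ ((sqNorm ((v + w : leechLattice) : GolayPt → ℤ) / 16 : ℤ) : ZMod 2) =
      ((sqNorm (v : GolayPt → ℤ) / 16 : ℤ) : ZMod 2) + ((sqNorm (w : GolayPt → ℤ) / 16 : ℤ) : ZMod 2) := by
  have hab : ψ (v + w) = QuotientGroup.mk (a * b) := by
    rw [h.hψ.1, ha, hb]; rfl
  have key := sqv_mul h.dataQ a b
  rw [h.sqv_eq _ _ hab, h.sqv_eq _ _ ha, h.sqv_eq _ _ hb] at key
  rw [← cm_eq_one_iff, ← iv_eq_zero_iff, key]
  constructor
  · intro h1
    have : iv (cm a b) = 0 := by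
      have h2 := h1
      generalize iv (cm a b) = i at h2 ⊢
      generalize ((sqNorm (v : GolayPt → ℤ) / 16 : ℤ) : ZMod 2) = p at h2 ⊢
      generalize ((sqNorm (w : GolayPt → ℤ) / 16 : ℤ) : ZMod 2) = q at h2 ⊢
      revert h2
      revert i p q
      decide
    rw [this, zero_add]
  · intro h1
    generalize iv (cm a b) = i at h1 ⊢
    generalize ((sqNorm (v : GolayPt → ℤ) / 16 : ℤ) : ZMod 2) = p at h1 ⊢
    generalize ((sqNorm (w : GolayPt → ℤ) / 16 : ℤ) : ZMod 2) = q at h1 ⊢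
    revert h1
    revert i p q
    decide

/-- conjugation by an element commuting with `g z g⁻¹` preserves `g Q g⁻¹` -/
theorem conj_mem_of_comm (g k y : G) (hk : k * (g * z * g⁻¹) = (g * z * g⁻¹) * k)
    (hy : y ∈ (QG Q).map (MulAut.conj g).toMonoidHom) :
    k * y * k⁻¹ ∈ (QG Q).map (MulAut.conj g).toMonoidHom := by
  have hmemQs : ∀ y : G, y ∈ (QG Q).map (MulAut.conj g).toMonoidHom ↔ g⁻¹ * y * g ∈ QG Q := by
    intro y
    constructor
    · rintro ⟨q, hq, rfl⟩
      have : g⁻¹ * ((MulAut.conj g).toMonoidHom q) * g = q := by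
        simp [MulAut.conj_apply]; group
      rw [this]; exact hq
    · intro hy
      refine ⟨g⁻¹ * y * g, hy, ?_⟩
      simp [MulAut.conj_apply]; group
  have hback : g⁻¹ * k * g ∈ Subgroup.centralizer ({z} : Set G) := by
    rw [Subgroup.mem_centralizer_singleton_iff]
    have hzs : z = g⁻¹ * (g * z * g⁻¹) * g := by group
    calc g⁻¹ * k * g * z = g⁻¹ * (k * (g * z * g⁻¹)) * g := by group
      _ = g⁻¹ * ((g * z * g⁻¹) * k) * g := by rw [hk]
      _ = z * (g⁻¹ * k * g) := by group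
  rw [hmemQs] at hy ⊢
  have h1 := QG_conj_mem hback hy
  have h2 : g⁻¹ * (k * y * k⁻¹) * g = g⁻¹ * k * g * (g⁻¹ * y * g) * (g⁻¹ * k * g)⁻¹ := by
    group
  rw [h2]; exact h1

theorem mem_conj_iff (g y : G) :
    y ∈ (QG Q).map (MulAut.conj g).toMonoidHom ↔ g⁻¹ * y * g ∈ QG Q := by
  constructor
  · rintro ⟨q, hq, rfl⟩
    have : g⁻¹ * ((MulAut.conj g).toMonoidHom q) * g = q := by
      simp [MulAut.conj_apply]; group
    rw [this]; exact hq
  · intro hy
    refine ⟨g⁻¹ * y * g, hy, ?_⟩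
    simp [MulAut.conj_apply]; group

/-- `Q ∩ Q^g` contains an element of type 2 -/
theorem MT.exists_type2_inter (h : MT z Q e ψ) (g : G)
    (hsC : g * z * g⁻¹ ∈ Subgroup.centralizer ({z} : Set G))
    (hsQ : (⟨g * z * g⁻¹, hsC⟩ : Subgroup.centralizer ({z} : Set G)) ∈ Q)
    (hsz : g * z * g⁻¹ ≠ z)
    (hx : ψ (E none) = QuotientGroup.mk (⟨⟨g * z * g⁻¹, hsC⟩, hsQ⟩ : Q)) :
    ∃ (t0 : Q) (w : leechLattice), sqNorm (w : GolayPt → ℤ) = 32 ∧ ψ w = QuotientGroup.mk t0 ∧
      ((t0 : Subgroup.centralizer ({z} : Set G)) : G) ∈ (QG Q).map (MulAut.conj g).toMonoidHom := by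
  obtain ⟨a, ha⟩ := QuotientGroup.mk_surjective (ψ w0)
  -- `a` commutes with `s`
  have hcomm : a * (⟨⟨g * z * g⁻¹, hsC⟩, hsQ⟩ : Q) = ⟨⟨g * z * g⁻¹, hsC⟩, hsQ⟩ * a := by
    rw [h.cm_iff w0 (E none) a _ ha.symm hx, w0_add_norm, w0_norm, sqNorm_E]
    decide
  have hcommG : ((a : Subgroup.centralizer ({z} : Set G)) : G) * (g * z * g⁻¹) =
      (g * z * g⁻¹) * ((a : Subgroup.centralizer ({z} : Set G)) : G) := by
    have := congrArg (fun t : Q => ((t : Subgroup.centralizer ({z} : Set G)) : G)) hcomm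
    exact this
  -- the element `b`
  have hD : fN (epsN (M 6053905) octS_code) ∈ Dbar :=
    Subgroup.mem_map_of_mem _ (epsN_ker _ _)
  rw [← (h.inter_core g hsC hsQ hsz hx).2] at hD
  obtain ⟨b, hbY, hb⟩ := hD
  have hbQs : (b : G) ∈ (QG Q).map (MulAut.conj g).toMonoidHom := by
    have h1 : (b : G) ∈ (QG Q).map (MulAut.conj g).toMonoidHom ⊓
        Subgroup.centralizer ({z} : Set G) := hbY
    exact h1.1
  have h1 := h.equivariant b (epsN (M 6053905) octS_code).1 hb.symm w0 a ha.symm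
  set t0 : Q := (⟨b * a * b⁻¹, (inferInstance : Q.Normal).conj_mem
      (a : Subgroup.centralizer ({z} : Set G)) a.2 b⟩ : Q) * a⁻¹ with ht0
  refine ⟨t0, (epsN (M 6053905) octS_code).1 • w0 + -w0, diff_norm, ?_, ?_⟩
  · rw [h.hψ.1, psi_neg h.hψ, h1, ← ha]
    rfl
  · have h2 : ((t0 : Subgroup.centralizer ({z} : Set G)) : G) =
        (b : G) * ((a : Subgroup.centralizer ({z} : Set G)) * ((b : G))⁻¹ *
          ((a : Subgroup.centralizer ({z} : Set G)) : G)⁻¹) := by
      rw [ht0]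
      simp only [Subgroup.coe_mul, Subgroup.coe_inv]
      group
    rw [h2]
    exact Subgroup.mul_mem _ hbQs (conj_mem_of_comm g _ _ hcommG (Subgroup.inv_mem _ hbQs))

end Cfsg.Agent.Lib.Helper9.MTc
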