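import Cfsg.Agent.Lib.Helper9.Majorana2A

set_option autoImplicit false

namespace Cfsg.Agent.Lib.Helper9.Majorana2

open Cfsg Cfsg.Axial Cfsg.Agent.Lib.Helper9.Majorana2A

variable {V : Type*} [AddCommGroup V] [Module ℝ V]

theorem eigen_le_eigenSum (mul : V →ₗ[ℝ] V →ₗ[ℝ] V) (a : V) (S : Set ℝ) (c : ℝ) (hc : c ∈ S) :
    eigen mul a c ≤ eigenSum mul a S :=
  le_iSup₂_of_le c hc le_rfl

theorem mem_eigen_iff (mul : V →ₗ[ℝ] V →ₗ[ℝ] V) (a : V) (c : ℝ) (v : V) :
    v ∈ eigen mul a c ↔ mul a v = c • v :=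
  Module.End.mem_eigenspace_iff

theorem symm_hom (mul : V →ₗ[ℝ] V →ₗ[ℝ] V) (g : V ≃ₗ[ℝ] V)
    (hg : ∀ u v : V, g (mul u v) = mul (g u) (g v)) (u v : V) :
    g.symm (mul u v) = mul (g.symm u) (g.symm v) := by
  apply g.injective
  rw [hg, LinearEquiv.apply_symm_apply, LinearEquiv.apply_symm_apply, LinearEquiv.apply_symm_apply]

theorem eigen_map (mul : V →ₗ[ℝ] V →ₗ[ℝ] V) (g : V ≃ₗ[ℝ] V)
    (hg : ∀ u v : V, g (mul u v) = mul (g u) (g v)) (a : V) (c : ℝ) (v : V)
    (hv : v ∈ eigen mul a c) : g v ∈ eigen mul (g a) c := by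
  rw [mem_eigen_iff] at hv ⊢
  rw [← hg, hv, map_smul]

theorem eigenSum_map (mul : V →ₗ[ℝ] V →ₗ[ℝ] V) (g : V ≃ₗ[ℝ] V)
    (hg : ∀ u v : V, g (mul u v) = mul (g u) (g v)) (a : V) (S : Set ℝ) (v : V)
    (hv : v ∈ eigenSum mul a S) : g v ∈ eigenSum mul (g a) S := by
  have h : eigenSum mul a S ≤ (eigenSum mul (g a) S).comap (g : V →ₗ[ℝ] V) := by
    unfold eigenSum
    refine iSup₂_le fun c hc => ?_
    intro w hw
    rw [Submodule.mem_comap]
    exact (le_iSup₂_of_le (f := fun c _ => eigen mul (g a) c) c hc le_rfl)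
      (eigen_map mul g hg a c w hw)
  exact h hv

/-- transport of a Majorana pair along an automorphism commuting with the involution -/
theorem majoranaPair_map (mul : V →ₗ[ℝ] V →ₗ[ℝ] V) (B : LinearMap.BilinForm ℝ V)
    (μ g : V ≃ₗ[ℝ] V) (a : V) (h : IsMajoranaPair mul B μ a)
    (hg : ∀ u v : V, g (mul u v) = mul (g u) (g v)) (hc : μ * g = g * μ) :
    IsMajoranaPair mul B μ (g a) := by
  obtain ⟨hμ, hμB, ⟨⟨ha0, haa, htop, hfus⟩, hprim⟩, hmiy1, hmiy2⟩ := h
  have hgs := symm_hom mul g hg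
  have hcomm : ∀ v, μ (g v) = g (μ v) := by
    intro v
    have := congrArg (fun f : V ≃ₗ[ℝ] V => f v) hc
    simpa [LinearEquiv.mul_apply] using this
  have hback : ∀ (c : ℝ) (v : V), v ∈ eigen mul (g a) c → g.symm v ∈ eigen mul a c := by
    intro c v hv
    have := eigen_map mul g.symm hgs (g a) c v hv
    rwa [LinearEquiv.symm_apply_apply] at this
  have hbackS : ∀ (S : Set ℝ) (v : V), v ∈ eigenSum mul (g a) S → g.symm v ∈ eigenSum mul a S := by
    intro S v hv
    have := eigenSum_map mul g.symm hgs (g a) S v hv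
    rwa [LinearEquiv.symm_apply_apply] at this
  refine ⟨hμ, hμB, ⟨⟨?_, ?_, ?_, ?_⟩, ?_⟩, ?_, ?_⟩
  · intro h0
    apply ha0
    exact g.map_eq_zero_iff.mp h0
  · rw [← hg, haa]
  · rw [eq_top_iff]
    intro v _
    have h1 : g.symm v ∈ eigenSum mul a majoranaSpectrum := by rw [htop]; trivial
    have h2 := eigenSum_map mul g hg a majoranaSpectrum _ h1
    rwa [LinearEquiv.apply_symm_apply] at h2
  · intro c hc d hd u hu v hv
    have h1 := hfus c hc d hd _ (hback c u hu) _ (hback d v hv)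
    have h2 := eigenSum_map mul g hg a _ _ h1
    rwa [hg, LinearEquiv.apply_symm_apply, LinearEquiv.apply_symm_apply] at h2
  · apply le_antisymm
    · intro v hv
      have h1 := hback 1 v hv
      rw [hprim, Submodule.mem_span_singleton] at h1
      obtain ⟨r, hr⟩ := h1
      rw [Submodule.mem_span_singleton]
      refine ⟨r, ?_⟩
      rw [← map_smul, hr, LinearEquiv.apply_symm_apply]
    · rw [Submodule.span_le, Set.singleton_subset_iff]
      have : a ∈ eigen mul a 1 := by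
        rw [hprim]
        exact Submodule.mem_span_singleton_self a
      exact eigen_map mul g hg a 1 a this
  · intro v hv
    have h1 := hmiy1 _ (hbackS _ v hv)
    have h2 : μ v = μ (g (g.symm v)) := by rw [LinearEquiv.apply_symm_apply]
    change μ v = v
    rw [h2, hcomm]
    have h3 : μ (g.symm v) = g.symm v := h1
    rw [h3, LinearEquiv.apply_symm_apply]
  · intro v hv
    have h1 := hmiy2 _ (hback _ v hv)
    have h2 : μ v = μ (g (g.symm v)) := by rw [LinearEquiv.apply_symm_apply]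
    change μ v = -v
    rw [h2, hcomm]
    have h3 : μ (g.symm v) = -g.symm v := h1
    rw [h3, map_neg, LinearEquiv.apply_symm_apply]

end Cfsg.Agent.Lib.Helper9.Majorana2
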