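import Cfsg.Prelude.Def_AxialAlgebras

set_option autoImplicit false

namespace Cfsg.Agent.Lib.Helper9.Majorana2A

open Cfsg Cfsg.Axial

variable {V : Type*} [AddCommGroup V] [Module ℝ V]

theorem orth_of_eigen (mul : V →ₗ[ℝ] V →ₗ[ℝ] V) (B : LinearMap.BilinForm ℝ V)
    (hcomm : IsCommMul mul) (hassoc : ∀ u v w : V, B u (mul v w) = B (mul u v) w)
    (a : V) (c d : ℝ) (hcd : c ≠ d) (u v : V) (hu : u ∈ eigen mul a c)
    (hv : v ∈ eigen mul a d) : B u v = 0 := by
  have hu' : mul a u = c • u := Module.End.mem_eigenspace_iff.mp hu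
  have hv' : mul a v = d • v := Module.End.mem_eigenspace_iff.mp hv
  have h1 : B (mul a u) v = B u (mul a v) := by
    rw [hcomm a u, ← hassoc]
  rw [hu', hv'] at h1
  simp only [map_smul, LinearMap.smul_apply, smul_eq_mul] at h1
  have h2 : (c - d) * B u v = 0 := by linarith
  rcases mul_eq_zero.mp h2 with h | h
  · exact absurd (sub_eq_zero.mp h) hcd
  · exact h

theorem orth_of_eigenSum (mul : V →ₗ[ℝ] V →ₗ[ℝ] V) (B : LinearMap.BilinForm ℝ V)
    (hcomm : IsCommMul mul) (hassoc : ∀ u v w : V, B u (mul v w) = B (mul u v) w)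
    (a : V) (c : ℝ) (S : Set ℝ) (hS : c ∉ S) (u v : V) (hu : u ∈ eigen mul a c)
    (hv : v ∈ eigenSum mul a S) : B u v = 0 := by
  have h : eigenSum mul a S ≤ LinearMap.ker (B u) := by
    unfold eigenSum
    refine iSup₂_le fun d hd => ?_
    intro w hw
    rw [LinearMap.mem_ker]
    exact orth_of_eigen mul B hcomm hassoc a c d (by rintro rfl; exact hS hd) u w hu hw
  exact LinearMap.mem_ker.mp (h hv)

theorem exists_not_mem_finset {G : Type*} [Group G] (X : Subgroup G) (t : Finset G)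
    (h : t.card < Nat.card X) : ∃ z ∈ X, z ∉ t := by
  by_contra hcon
  push Not at hcon
  have hsub : (X : Set G) ⊆ (t : Set G) := fun z hz => hcon z hz
  have h1 : Nat.card (X : Set G) ≤ Nat.card (t : Set G) :=
    Nat.card_mono (Finset.finite_toSet t) hsub
  have h2 : Nat.card (t : Set G) = t.card := by
    rw [Nat.card_coe_set_eq, Set.ncard_coe_finset]
  have h3 : Nat.card (X : Set G) = Nat.card X := rfl
  omega

theorem monsterLaw_quarter :
    monsterLaw (1 / 4 : ℝ) (1 / 32) (1 / 4) (1 / 4) = {1, 0} := by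
  unfold monsterLaw
  norm_num

theorem card_le_four (mul : V →ₗ[ℝ] V →ₗ[ℝ] V) (B : LinearMap.BilinForm ℝ V)
    (hV : IsMajoranaAmbient mul B) (X : Subgroup (V ≃ₗ[ℝ] V)) (hX : ∀ x ∈ X, x * x = 1)
    (ax : (V ≃ₗ[ℝ] V) → V) (hax : ∀ x ∈ X, x ≠ 1 → IsMajoranaPair mul B x (ax x))
    (h1 : ∀ x ∈ X, x ≠ 1 → B (ax x) (ax x) = 1)
    (h2A : ∀ x ∈ X, ∀ y ∈ X, x ≠ 1 → y ≠ 1 → x ≠ y →
      mul (ax x) (ax y) = (1 / 8 : ℝ) • (ax x + ax y - ax (x * y))) : Nat.card ↥X ≤ 4 := by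
  classical
  obtain ⟨hcomm, hsymm, hpos, hassoc, -⟩ := hV
  by_contra hcard
  push Not at hcard
  have hXc : ∀ x ∈ X, ∀ y ∈ X, x * y = y * x := by
    intro x hx y hy
    have hx2 := hX x hx
    have hy2 := hX y hy
    calc x * y = (y * y) * (x * y) * (x * x) := by rw [hx2, hy2]; group
      _ = y * ((y * x) * (y * x)) * x := by group
      _ = y * x := by rw [hX (y * x) (X.mul_mem hy hx)]; group
  have hxxy : ∀ x ∈ X, ∀ y : (V ≃ₗ[ℝ] V), x * (x * y) = y := by
    intro x hx y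
    rw [← mul_assoc, hX x hx, one_mul]
  have hprod1 : ∀ x ∈ X, ∀ y : (V ≃ₗ[ℝ] V), x ≠ y → x * y ≠ 1 := by
    intro x hx y hxy h
    apply hxy
    calc x = x * 1 := (mul_one x).symm
      _ = x * (x * y) := by rw [h]
      _ = y := hxxy x hx y
  have hB : ∀ x ∈ X, ∀ y ∈ X, x ≠ 1 → y ≠ 1 → x ≠ y → B (ax x) (ax y) = 1 / 8 := by
    intro x hx y hy hx1 hy1 hxy
    have hxy1 : x * y ≠ 1 := hprod1 x hx y hxy
    have hxxy1 : x ≠ x * y := fun h => hy1 (left_eq_mul.mp h)
    have e1 := h2A x hx y hy hx1 hy1 hxy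
    have e2 := h2A x hx (x * y) (X.mul_mem hx hy) hx1 hxy1 hxxy1
    rw [hxxy x hx y] at e2
    have idem : mul (ax x) (ax x) = ax x := (hax x hx hx1).2.2.1.1.2.1
    have a1 : B (ax x) (mul (ax x) (ax y)) = B (ax x) (ax y) := by rw [hassoc, idem]
    have a2 : B (ax x) (mul (ax x) (ax (x * y))) = B (ax x) (ax (x * y)) := by
      rw [hassoc, idem]
    rw [e1] at a1
    rw [e2] at a2
    simp only [map_smul, map_add, map_sub, smul_eq_mul, h1 x hx hx1] at a1 a2
    linarith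
  have hE : ∀ x ∈ X, ∀ u ∈ X, x ≠ 1 → u ≠ 1 → x ≠ u →
      ax u - ax (x * u) ∈ eigen mul (ax x) (1 / 4) := by
    intro x hx u hu hx1 hu1 hxu
    have hxu1 : x * u ≠ 1 := hprod1 x hx u hxu
    have hxxu1 : x ≠ x * u := fun h => hu1 (left_eq_mul.mp h)
    have e1 := h2A x hx u hu hx1 hu1 hxu
    have e2 := h2A x hx (x * u) (X.mul_mem hx hu) hx1 hxu1 hxxu1
    rw [hxxy x hx u] at e2
    unfold eigen
    rw [Module.End.mem_eigenspace_iff, map_sub, e1, e2]
    module
  obtain ⟨x, hx, hx'⟩ := exists_not_mem_finset X {1} (by simp; omega)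
  obtain ⟨y, hy, hy'⟩ := exists_not_mem_finset X {1, x} (by
    have := Finset.card_le_two (a := (1 : V ≃ₗ[ℝ] V)) (b := x); omega)
  obtain ⟨z, hz, hz'⟩ := exists_not_mem_finset X {1, x, y, x * y} (by
    have := Finset.card_le_four (a := (1 : V ≃ₗ[ℝ] V)) (b := x) (c := y) (d := x * y); omega)
  simp only [Finset.mem_insert, Finset.mem_singleton, not_or] at hx' hy' hz'
  have hx1 : x ≠ 1 := hx'
  obtain ⟨hy1, hyx⟩ := hy'
  obtain ⟨hz1, hzx, hzy, hzxy⟩ := hz'
  have hxy : x ≠ y := fun h => hyx h.symm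
  have hxz : x ≠ z := fun h => hzx h.symm
  have hyz : y ≠ z := fun h => hzy h.symm
  have hyz1 : y * z ≠ 1 := hprod1 y hy z hyz
  have hxz1 : x * z ≠ 1 := hprod1 x hx z hxz
  have hxy1 : x * y ≠ 1 := hprod1 x hx y hxy
  have hxyz : x ≠ y * z := by
    intro h
    apply hzxy
    calc z = y * (y * z) := (hxxy y hy z).symm
      _ = y * x := by rw [← h]
      _ = x * y := hXc y hy x hx
  have hyxz : y ≠ x * z := by
    intro h
    apply hzxy
    calc z = x * (x * z) := (hxxy x hx z).symm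
      _ = x * y := by rw [← h]
  have hxyz' : x * y ≠ z := fun h => hzxy h.symm
  have hxyxz : x * y ≠ x * z := fun h => hyz (mul_left_cancel h)
  have hyzX : y * z ∈ X := X.mul_mem hy hz
  have hxyX : x * y ∈ X := X.mul_mem hx hy
  have hxzX : x * z ∈ X := X.mul_mem hx hz
  -- the three eigenvectors
  have he1 := hE x hx y hy hx1 hy1 hxy
  have he2 := hE x hx z hz hx1 hz1 hxz
  have he3 := hE x hx (y * z) hyzX hx1 hyz1 hxyz
  -- products
  have p1 := h2A y hy z hz hy1 hz1 hyz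
  have p2 := h2A y hy (x * z) hxzX hy1 hxz1 hyxz
  have p3 := h2A (x * y) hxyX z hz hxy1 hz1 hxyz'
  have p4 := h2A (x * y) hxyX (x * z) hxzX hxy1 hxz1 hxyxz
  have q2 : y * (x * z) = x * (y * z) := by
    rw [← mul_assoc, hXc y hy x hx, mul_assoc]
  have q3 : x * y * z = x * (y * z) := mul_assoc x y z
  have q4 : x * y * (x * z) = y * z := by
    rw [hXc x hx y hy, mul_assoc, hxxy x hx z]
  rw [q2] at p2
  rw [q3] at p3
  rw [q4] at p4
  have hprod : mul (ax y - ax (x * y)) (ax z - ax (x * z)) =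
      (-(1 / 4 : ℝ)) • (ax (y * z) - ax (x * (y * z))) := by
    simp only [map_sub, LinearMap.sub_apply]
    rw [p1, p2, p3, p4]
    module
  have hfus := (hax x hx hx1).2.2.1.1.2.2.2 (1 / 4) (by simp [majoranaSpectrum]) (1 / 4)
    (by simp [majoranaSpectrum]) _ he1 _ he2
  rw [monsterLaw_quarter, hprod] at hfus
  have horth := orth_of_eigenSum mul B hcomm hassoc (ax x) (1 / 4) {1, 0} (by norm_num) _ _
    he3 hfus
  rw [map_smul, smul_eq_mul] at horth
  have hzero : ax (y * z) - ax (x * (y * z)) = 0 := by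
    by_contra hne
    have := hpos _ hne
    nlinarith
  have heq : ax (y * z) = ax (x * (y * z)) := sub_eq_zero.mp hzero
  have hxyz1 : x * (y * z) ≠ 1 := hprod1 x hx (y * z) hxyz
  have hne' : y * z ≠ x * (y * z) := fun h => hx1 (right_eq_mul.mp h)
  have b1 := hB (y * z) hyzX (x * (y * z)) (X.mul_mem hx hyzX) hyz1 hxyz1 hne'
  rw [← heq, h1 (y * z) hyzX hyz1] at b1
  norm_num at b1

end Cfsg.Agent.Lib.Helper9.Majorana2A
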