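import Cfsg.Agent.Lib.Helper9.Majorana2

set_option autoImplicit false

namespace Cfsg.Agent.Lib.Helper9.Majorana3

open Cfsg Cfsg.Axial Cfsg.Agent.Lib.Helper9.Majorana2A Cfsg.Agent.Lib.Helper9.Majorana2

variable {V : Type*} [AddCommGroup V] [Module ℝ V]

/-- decomposition of a vector fixed by the Majorana involution of `b` -/
theorem decomp_of_fixed (mul : V →ₗ[ℝ] V →ₗ[ℝ] V) (B : LinearMap.BilinForm ℝ V)
    (hcomm : IsCommMul mul) (hassoc : ∀ u v w : V, B u (mul v w) = B (mul u v) w)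
    (μ : V ≃ₗ[ℝ] V) (b a : V) (h : IsMajoranaPair mul B μ b) (hbb : B b b = 1)
    (hfix : μ a = a) :
    ∃ α₀ αq : V, α₀ ∈ eigen mul b 0 ∧ αq ∈ eigen mul b (1 / 4) ∧
      a = (B a b) • b + α₀ + αq := by
  obtain ⟨-, -, ⟨⟨-, hbidem, htop, -⟩, hprim⟩, hmiy1, hmiy2⟩ := h
  have ha : a ∈ eigenSum mul b majoranaSpectrum := by rw [htop]; trivial
  unfold eigenSum majoranaSpectrum at ha
  rw [iSup_insert, iSup_insert, iSup_insert, iSup_singleton] at ha
  obtain ⟨v1, hv1, w, hw, rfl⟩ := Submodule.mem_sup.mp ha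
  obtain ⟨v0, hv0, w', hw', rfl⟩ := Submodule.mem_sup.mp hw
  obtain ⟨vq, hvq, vr, hvr, rfl⟩ := Submodule.mem_sup.mp hw'
  have m1 : μ v1 = v1 := hmiy1 v1 (eigen_le_eigenSum mul b _ 1 (by simp) hv1)
  have m0 : μ v0 = v0 := hmiy1 v0 (eigen_le_eigenSum mul b _ 0 (by simp) hv0)
  have mq : μ vq = vq := hmiy1 vq (eigen_le_eigenSum mul b _ (1 / 4) (by simp) hvq)
  have mr : μ vr = -vr := hmiy2 vr hvr
  rw [map_add, map_add, map_add, m1, m0, mq, mr] at hfix
  have hvr0 : vr = 0 := by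
    have h2 : (2 : ℝ) • vr = 0 := by
      linear_combination (norm := module) (-1 : ℝ) • hfix
    exact (smul_eq_zero.mp h2).resolve_left (by norm_num)
  subst hvr0
  rw [hprim, Submodule.mem_span_singleton] at hv1
  obtain ⟨r, rfl⟩ := hv1
  have hb1 : b ∈ eigen mul b 1 := by
    rw [hprim]; exact Submodule.mem_span_singleton_self b
  have o0 : B v0 b = 0 := orth_of_eigen mul B hcomm hassoc b 0 1 (by norm_num) v0 b hv0 hb1
  have oq : B vq b = 0 :=
    orth_of_eigen mul B hcomm hassoc b (1 / 4) 1 (by norm_num) vq b hvq hb1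
  have hr : B (r • b + (v0 + (vq + 0))) b = r := by
    simp only [map_add, map_smul, LinearMap.add_apply, LinearMap.smul_apply, smul_eq_mul, hbb,
      o0, oq, map_zero, LinearMap.zero_apply]
    ring
  refine ⟨v0, vq, hv0, hvq, ?_⟩
  rw [hr]
  module

/-- first consequences of the decomposition -/
theorem mul_sigma (mul : V →ₗ[ℝ] V →ₗ[ℝ] V) (hcomm : IsCommMul mul) (a b α₀ αq : V) (lam : ℝ)
    (hbb : mul b b = b) (h0 : α₀ ∈ eigen mul b 0) (hq : αq ∈ eigen mul b (1 / 4))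
    (ha : a = lam • b + α₀ + αq) :
    mul a b = lam • b + (1 / 4 : ℝ) • αq ∧
    mul b (mul a b) = (3 * lam / 4) • b + (1 / 4 : ℝ) • mul a b := by
  rw [mem_eigen_iff] at h0 hq
  have h1 : mul a b = lam • b + (1 / 4 : ℝ) • αq := by
    rw [hcomm a b, ha]
    simp only [map_add, map_smul, hbb, h0, hq]
    module
  refine ⟨h1, ?_⟩
  rw [h1]
  simp only [map_add, map_smul, hbb, hq]
  module

theorem monsterLaw_zero_quarter :
    monsterLaw (1 / 4 : ℝ) (1 / 32) 0 (1 / 4) = {1 / 4} := by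
  unfold monsterLaw
  norm_num

theorem monsterLaw_zero_zero :
    monsterLaw (1 / 4 : ℝ) (1 / 32) 0 0 = {0} := by
  unfold monsterLaw
  norm_num

theorem eigenSum_singleton (mul : V →ₗ[ℝ] V →ₗ[ℝ] V) (a : V) (c : ℝ) :
    eigenSum mul a {c} = eigen mul a c := by
  unfold eigenSum
  rw [iSup_singleton]

theorem eigenSum_mono (mul : V →ₗ[ℝ] V →ₗ[ℝ] V) (a : V) (S T : Set ℝ) (h : S ⊆ T) :
    eigenSum mul a S ≤ eigenSum mul a T := by
  unfold eigenSum
  exact biSup_mono h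

/-- the key fusion computation: the square of `σ = a ∘ b` -/
theorem sigma_sq (mul : V →ₗ[ℝ] V →ₗ[ℝ] V) (B : LinearMap.BilinForm ℝ V)
    (hcomm : IsCommMul mul) (hpos : ∀ u : V, u ≠ 0 → 0 < B u u)
    (hassoc : ∀ u v w : V, B u (mul v w) = B (mul u v) w)
    (μ : V ≃ₗ[ℝ] V) (a b : V) (h : IsMajoranaPair mul B μ b) (haa : mul a a = a)
    (α₀ αq : V) (lam : ℝ) (h0 : α₀ ∈ eigen mul b 0) (hq : αq ∈ eigen mul b (1 / 4))
    (ha : a = lam • b + α₀ + αq)
    (haσ : mul a (mul a b) = (3 * lam / 4) • a + (1 / 4 : ℝ) • mul a b) :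
    (4 : ℝ) • mul (mul a b) (mul a b)
      = (3 * lam / 4) • a + (2 * lam ^ 2 + lam / 2) • b + (lam - 1 / 4) • mul a b := by
  obtain ⟨-, -, ⟨⟨-, hbb, -, hfus⟩, hprim⟩, -, -⟩ := h
  obtain ⟨hσ, hbσ⟩ := mul_sigma mul hcomm a b α₀ αq lam hbb h0 hq ha
  have hb1 : b ∈ eigen mul b 1 := by
    rw [hprim]; exact Submodule.mem_span_singleton_self b
  have h0' := (mem_eigen_iff mul b 0 α₀).mp h0
  have hq' := (mem_eigen_iff mul b (1 / 4) αq).mp hq
  -- memberships from the fusion law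
  have f1 : mul α₀ αq ∈ eigen mul b (1 / 4) := by
    have := hfus 0 (by simp [majoranaSpectrum]) (1 / 4) (by simp [majoranaSpectrum]) α₀ h0 αq hq
    rwa [monsterLaw_zero_quarter, eigenSum_singleton] at this
  have f2 : mul α₀ α₀ ∈ eigenSum mul b {1, 0} := by
    have := hfus 0 (by simp [majoranaSpectrum]) 0 (by simp [majoranaSpectrum]) α₀ h0 α₀ h0
    rw [monsterLaw_zero_zero] at this
    exact eigenSum_mono mul b {0} {1, 0} (by simp) this
  have f3 : mul αq αq ∈ eigenSum mul b {1, 0} := by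
    have := hfus (1 / 4) (by simp [majoranaSpectrum]) (1 / 4) (by simp [majoranaSpectrum])
      αq hq αq hq
    rwa [monsterLaw_quarter] at this
  have f4 : b ∈ eigenSum mul b {1, 0} := eigen_le_eigenSum mul b _ 1 (by simp) hb1
  have f5 : α₀ ∈ eigenSum mul b {1, 0} := eigen_le_eigenSum mul b _ 0 (by simp) h0
  -- expand a ∘ a = a
  have hexp := haa
  rw [ha] at hexp
  simp only [map_add, map_smul, LinearMap.add_apply, LinearMap.smul_apply, hbb, h0', hq',
    hcomm α₀ b, hcomm αq b, hcomm αq α₀] at hexp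
  obtain ⟨P, hP⟩ : ∃ P, P = (2 : ℝ) • mul α₀ αq + (lam / 2 - 1) • αq := ⟨_, rfl⟩
  have hPq : P ∈ eigen mul b (1 / 4) := by
    rw [hP]
    exact Submodule.add_mem _ (Submodule.smul_mem _ _ f1) (Submodule.smul_mem _ _ hq)
  have hPR : P = (lam - lam ^ 2) • b + α₀ - mul α₀ α₀ - mul αq αq := by
    rw [hP]
    linear_combination (norm := module) hexp
  have hPS : P ∈ eigenSum mul b {1, 0} := by
    rw [hPR]
    exact Submodule.sub_mem _ (Submodule.sub_mem _
      (Submodule.add_mem _ (Submodule.smul_mem _ _ f4) f5) f2) f3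
  have hP0 : P = 0 := by
    have horth := orth_of_eigenSum mul B hcomm hassoc b (1 / 4) {1, 0} (by norm_num) P P hPq hPS
    by_contra hne
    have := hpos P hne
    linarith
  have E1 : mul α₀ αq = (1 / 2 - lam / 4) • αq := by
    rw [hP] at hP0
    linear_combination (norm := module) (1 / 2 : ℝ) • hP0
  have E2 : αq = (4 : ℝ) • (mul a b - lam • b) := by
    rw [hσ]
    module
  have E3 : α₀ = a + (3 * lam) • b - (4 : ℝ) • mul a b := by
    rw [hσ]
    linear_combination (norm := module) (-1 : ℝ) • ha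
  have hσb : mul (mul a b) b = mul b (mul a b) := hcomm _ _
  have hE := E1
  rw [E3, E2] at hE
  simp only [map_add, map_sub, map_smul, LinearMap.add_apply, LinearMap.sub_apply,
    LinearMap.smul_apply, haσ, hbσ, hbb, hσb] at hE
  linear_combination (norm := module) (-1 / 4 : ℝ) • hE

end Cfsg.Agent.Lib.Helper9.Majorana3
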