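import Cfsg.Agent.Lib.Helper9.Majorana3

set_option autoImplicit false

namespace Cfsg.Agent.Lib.Helper9.Majorana4

open Cfsg Cfsg.Axial Cfsg.Agent.Lib.Helper9.Majorana2A Cfsg.Agent.Lib.Helper9.Majorana2
  Cfsg.Agent.Lib.Helper9.Majorana3

variable {V : Type*} [AddCommGroup V] [Module ℝ V]

theorem commuting_2A_or_2B (mul : V →ₗ[ℝ] V →ₗ[ℝ] V) (B : LinearMap.BilinForm ℝ V)
    (hV : IsMajoranaAmbient mul B) (μ₀ μ₁ : V ≃ₗ[ℝ] V) (a₀ a₁ : V)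
    (h₀ : IsMajoranaPair mul B μ₀ a₀) (h₁ : IsMajoranaPair mul B μ₁ a₁)
    (hu₀ : ∀ a : V, IsMajoranaPair mul B μ₀ a → a = a₀)
    (hu₁ : ∀ a : V, IsMajoranaPair mul B μ₁ a → a = a₁)
    (hn₀ : B a₀ a₀ = 1) (hn₁ : B a₁ a₁ = 1) (hc : μ₀ * μ₁ = μ₁ * μ₀) (hne : a₀ ≠ a₁) :
    (B a₀ a₁ = 0 ∧ mul a₀ a₁ = 0) ∨
    (B a₀ a₁ = 1 / 8 ∧
      mul (a₀ + a₁ - (8 : ℝ) • mul a₀ a₁) (a₀ + a₁ - (8 : ℝ) • mul a₀ a₁)
        = a₀ + a₁ - (8 : ℝ) • mul a₀ a₁ ∧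
      mul a₀ (a₀ + a₁ - (8 : ℝ) • mul a₀ a₁)
        = (1 / 8 : ℝ) • (a₀ + (a₀ + a₁ - (8 : ℝ) • mul a₀ a₁) - a₁) ∧
      mul a₁ (a₀ + a₁ - (8 : ℝ) • mul a₀ a₁)
        = (1 / 8 : ℝ) • (a₁ + (a₀ + a₁ - (8 : ℝ) • mul a₀ a₁) - a₀)) := by
  obtain ⟨hcomm, hsymm, hpos, hassoc, -⟩ := hV
  have fix1 : μ₁ a₀ = a₀ := hu₀ _ (majoranaPair_map mul B μ₀ μ₁ a₀ h₀ h₁.1 hc)
  have fix0 : μ₀ a₁ = a₁ := hu₁ _ (majoranaPair_map mul B μ₁ μ₀ a₁ h₁ h₀.1 hc.symm)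
  obtain ⟨lam, hlam⟩ : ∃ lam, lam = B a₀ a₁ := ⟨_, rfl⟩
  obtain ⟨α₀, αq, hα0, hαq, hadec⟩ :=
    decomp_of_fixed mul B hcomm hassoc μ₁ a₁ a₀ h₁ hn₁ fix1
  obtain ⟨β₀, βq, hβ0, hβq, hbdec⟩ :=
    decomp_of_fixed mul B hcomm hassoc μ₀ a₀ a₁ h₀ hn₀ fix0
  rw [hsymm a₁ a₀, ← hlam] at hbdec
  rw [← hlam] at hadec
  have idem0 : mul a₀ a₀ = a₀ := h₀.2.2.1.1.2.1
  have idem1 : mul a₁ a₁ = a₁ := h₁.2.2.1.1.2.1
  obtain ⟨-, hbσ⟩ := mul_sigma mul hcomm a₀ a₁ α₀ αq lam idem1 hα0 hαq hadec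
  obtain ⟨-, haσ⟩ := mul_sigma mul hcomm a₁ a₀ β₀ βq lam idem0 hβ0 hβq hbdec
  rw [hcomm a₁ a₀] at haσ
  have s1 := sigma_sq mul B hcomm hpos hassoc μ₁ a₀ a₁ h₁ idem0 α₀ αq lam hα0 hαq hadec haσ
  have s2 := sigma_sq mul B hcomm hpos hassoc μ₀ a₁ a₀ h₀ idem1 β₀ βq lam hβ0 hβq hbdec
    (by rw [hcomm a₁ a₀]; exact hbσ)
  rw [hcomm a₁ a₀] at s2
  have key : (lam * (1 - 8 * lam)) • (a₀ - a₁) = 0 := by
    linear_combination (norm := module) (-4 : ℝ) • s1 + (4 : ℝ) • s2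
  have hlamcases : lam = 0 ∨ lam = 1 / 8 := by
    rcases smul_eq_zero.mp key with h | h
    · rcases mul_eq_zero.mp h with h | h
      · exact Or.inl h
      · right; linarith
    · exact absurd (sub_eq_zero.mp h) hne
  have hσσ : B (mul a₀ a₁) (mul a₀ a₁) = 3 * lam ^ 2 / 4 + lam / 4 := by
    have e1 : B (mul a₀ a₁) (mul a₀ a₁) = B a₀ (mul a₁ (mul a₀ a₁)) := (hassoc _ _ _).symm
    have e2 : B a₀ (mul a₀ a₁) = lam := by rw [hassoc, idem0, hlam]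
    rw [e1, hbσ]
    simp only [map_add, map_smul, smul_eq_mul, e2, ← hlam]
    ring
  rcases hlamcases with h0 | h8
  · left
    rw [← hlam]
    refine ⟨h0, ?_⟩
    rw [h0] at hσσ
    by_contra hne0
    have := hpos _ hne0
    norm_num at hσσ
    linarith
  · right
    rw [← hlam]
    refine ⟨h8, ?_, ?_, ?_⟩
    · have hσa0 : mul (mul a₀ a₁) a₀ = mul a₀ (mul a₀ a₁) := hcomm _ _
      have hσa1 : mul (mul a₀ a₁) a₁ = mul a₁ (mul a₀ a₁) := hcomm _ _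
      have hss : mul (mul a₀ a₁) (mul a₀ a₁)
          = (1 / 4 : ℝ) • ((3 * lam / 4) • a₀ + (2 * lam ^ 2 + lam / 2) • a₁
            + (lam - 1 / 4) • mul a₀ a₁) := by
        rw [← s1]
        module
      simp only [map_add, map_sub, map_smul, LinearMap.add_apply, LinearMap.sub_apply,
        LinearMap.smul_apply, idem0, idem1, hcomm a₁ a₀, hσa0, hσa1, haσ, hbσ, hss, h8]
      module
    · simp only [map_add, map_sub, map_smul, idem0, haσ, h8]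
      module
    · simp only [map_add, map_sub, map_smul, idem1, hbσ, hcomm a₁ a₀, h8]
      module

end Cfsg.Agent.Lib.Helper9.Majorana4
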