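import Cfsg.Agent.Lib.Helper9.OrbCert3
import Cfsg.Agent.Lib.Helper9.LeechP9

set_option autoImplicit false

/-! Generators of the stabiliser of the standard vector of sum of squares 48 and two minimal
vectors attached to it. -/

namespace Cfsg.Agent.Lib.Helper9.McL162a

open Cfsg Finset Cfsg.Agent.Lib.Helper4.Leech Cfsg.Agent.Lib.Helper9.Golay1
  Cfsg.Agent.Lib.Helper9.LeechM1 Cfsg.Agent.Lib.Helper9.LeechX4
  Cfsg.Agent.Lib.Helper9.LeechX5 Cfsg.Agent.Lib.Helper9.LeechX7 Cfsg.Agent.Lib.Helper9.LeechX8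
  Cfsg.Agent.Lib.Helper9.LeechX9
  Cfsg.Agent.Lib.Helper9.GolayQR1 Cfsg.Agent.Lib.Helper9.GolayQR3
  Cfsg.Agent.Lib.Helper9.M24U1 Cfsg.Agent.Lib.Helper9.M24T5 Cfsg.Agent.Lib.Helper9.M24T1
  Cfsg.Agent.Lib.Helper9.M24X1 Cfsg.Agent.Lib.Helper9.OrbCert1 Cfsg.Agent.Lib.Helper9.OrbCert3
open Cfsg.Agent.Lib.Helper9.LeechX1 (xiFun)

def La3 : List ℤ := [0, 0, 0, 4, 0, 0, 0, 0, 0, 0, 0, 0, 0, 0, 0, 0, 0, 0, 0, 0, 0, 0, 0, 4]

theorem La3_mem : vecL La3 ∈ leechLattice :=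
  mem_of_data _ 0 0 (Or.inl rfl) (by decide +kernel) (by decide +kernel) (by decide +kernel)

/-- a base vector -/
def a3 : leechLattice := ⟨vecL La3, La3_mem⟩

def La5 : List ℤ := [0, 0, 0, 0, 0, 4, 0, 0, 0, 0, 0, 0, 0, 0, 0, 0, 0, 0, 0, 0, 0, 0, 0, 4]

theorem La5_mem : vecL La5 ∈ leechLattice :=
  mem_of_data _ 0 0 (Or.inl rfl) (by decide +kernel) (by decide +kernel) (by decide +kernel)

/-- a base vector -/
def a5 : leechLattice := ⟨vecL La5, La5_mem⟩

def la : List ℕ := [17, 16, 9, 3, 2, 5, 15, 20, 10, 7, 4, 13, 1, 0, 21, 22, 11, 12, 14, 18, 8, 6, 19, 23]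
def la' : List ℕ := [13, 12, 4, 3, 10, 5, 21, 9, 20, 2, 8, 16, 17, 11, 18, 6, 1, 0, 19, 22, 7, 14, 15, 23]
def lb : List ℕ := [13, 20, 16, 3, 4, 5, 21, 7, 11, 6, 8, 10, 0, 12, 1, 22, 19, 15, 18, 2, 14, 9, 17, 23]
def lb' : List ℕ := [12, 14, 19, 3, 4, 5, 9, 7, 10, 21, 11, 8, 13, 0, 20, 17, 2, 22, 18, 16, 1, 6, 15, 23]
def ls : List ℕ := [0, 2, 1, 3, 4, 5, 22, 7, 13, 9, 12, 11, 10, 8, 23, 21, 20, 17, 19, 18, 16, 15, 6, 14]
def ls' : List ℕ := [0, 2, 1, 3, 4, 5, 22, 7, 13, 9, 12, 11, 10, 8, 23, 21, 20, 17, 19, 18, 16, 15, 6, 14]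

def sa : Equiv.Perm GolayPt := tperm la la' (by decide +kernel) (by decide +kernel)
def sb : Equiv.Perm GolayPt := tperm lb lb' (by decide +kernel) (by decide +kernel)
def ss : Equiv.Perm GolayPt := tperm ls ls' (by decide +kernel) (by decide +kernel)

theorem sa_mem : sa ∈ M24 := tperm_mem _ _ _ _ (by decide +kernel) (by decide +kernel)
theorem sb_mem : sb ∈ M24 := tperm_mem _ _ _ _ (by decide +kernel) (by decide +kernel)
theorem ss_mem : ss ∈ M24 := tperm_mem _ _ _ _ (by decide +kernel) (by decide +kernel)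

/-- the generators as maps of vectors -/
def FA : Fn := fun x i => x (sa.symm i)
def FB : Fn := fun x i => x (sb.symm i)
def FC : Fn := fun x => xiFun (fun i => xiFun x (ss.symm i))

def tabA : ℕ := 975431411245123411037781565810774413
def tabB : ℕ := 975099048718146254393993015683304908

/-- the third generator on indices -/
def GC : FnI := fun y => xiI (permI ls' (xiI y))

theorem cA : Compat FA (permT tabA) := compat_permT tabA (fun i => sa.symm i) (by decide +kernel)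
theorem cB : Compat FB (permT tabB) := compat_permT tabB (fun i => sb.symm i) (by decide +kernel)
theorem cC : Compat FC GC := by
  have h1 : Compat (fun x i => x (ss.symm i)) (permI ls') := by
    unfold ss
    exact compat_tperm _ _ _ _ (by decide +kernel)
  exact Compat.comp (F1 := xiFun) (F2 := fun x => (fun x i => x (ss.symm i)) (xiFun x)) compat_xi
    (Compat.comp (F1 := fun x i => x (ss.symm i)) (F2 := xiFun) h1 compat_xi)

/-- the check of one step -/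
def stepOK (g p c : ℕ) : Bool :=
  match g with
  | 0 => permChk tabA p c 24
  | 1 => permChk tabB p c 24
  | _ => eqI (GC (vecI p)) (vecI c)

/-- the elements of the stabiliser of the base vectors -/
def Good (n : Equiv.Perm leechLattice) : Prop := n ∈ Co0 ∧ n rG = rG ∧ n a3 = a3 ∧ n a5 = a5

theorem good_one : Good 1 := ⟨Co0.one_mem, rfl, rfl, rfl⟩

theorem good_mul (a b : Equiv.Perm leechLattice) (ha : Good a) (hb : Good b) : Good (a * b) :=
  ⟨Co0.mul_mem ha.1 hb.1, by rw [Equiv.Perm.mul_apply, hb.2.1, ha.2.1],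
    by rw [Equiv.Perm.mul_apply, hb.2.2.1, ha.2.2.1],
    by rw [Equiv.Perm.mul_apply, hb.2.2.2, ha.2.2.2]⟩

theorem good_inv (a : Equiv.Perm leechLattice) (ha : Good a) : Good a⁻¹ :=
  ⟨Co0.inv_mem ha.1, by rw [Equiv.Perm.inv_eq_iff_eq, ha.2.1],
    by rw [Equiv.Perm.inv_eq_iff_eq, ha.2.2.1],
    by rw [Equiv.Perm.inv_eq_iff_eq, ha.2.2.2]⟩

theorem FA_rG : ∀ i, FA rG.1 i = rG.1 i := by decide +kernel
theorem FA_a3 : ∀ i, FA a3.1 i = a3.1 i := by decide +kernel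
theorem FA_a5 : ∀ i, FA a5.1 i = a5.1 i := by decide +kernel
theorem FB_rG : ∀ i, FB rG.1 i = rG.1 i := by decide +kernel
theorem FB_a3 : ∀ i, FB a3.1 i = a3.1 i := by decide +kernel
theorem FB_a5 : ∀ i, FB a5.1 i = a5.1 i := by decide +kernel
theorem FC_rG : ∀ i, FC rG.1 i = rG.1 i := by decide +kernel
theorem FC_a3 : ∀ i, FC a3.1 i = a3.1 i := by decide +kernel
theorem FC_a5 : ∀ i, FC a5.1 i = a5.1 i := by decide +kernel

theorem hok : ∀ g p c, stepOK g p c = true → ∃ n, Good n ∧ ∃ F : Fn,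
    (∀ v : leechLattice, (n v).1 = F v.1) ∧ F (vecN p) = vecN c := by
  intro g p c h
  match g, h with
  | 0, h =>
    exact ⟨prm sa sa_mem, ⟨prm_mem _ _, Subtype.ext (funext FA_rG), Subtype.ext (funext FA_a3), Subtype.ext (funext FA_a5)⟩,
      FA, fun v => rfl, perm_step tabA cA p c h⟩
  | 1, h =>
    exact ⟨prm sb sb_mem, ⟨prm_mem _ _, Subtype.ext (funext FB_rG), Subtype.ext (funext FB_a3), Subtype.ext (funext FB_a5)⟩,
      FB, fun v => rfl, perm_step tabB cB p c h⟩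
  | (k + 2), h =>
    exact ⟨xi * prm ss ss_mem * xi,
      ⟨Co0.mul_mem (Co0.mul_mem xi_mem (prm_mem _ _)) xi_mem, Subtype.ext (funext FC_rG), Subtype.ext (funext FC_a3), Subtype.ext (funext FC_a5)⟩,
      FC, fun v => rfl, gen_step cC p c h⟩

end Cfsg.Agent.Lib.Helper9.McL162a
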