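import Cfsg.Agent.Lib.Helper9.McL162a
import Cfsg.Agent.Lib.Helper9.McL162b
import Cfsg.Agent.Lib.Helper9.McL162c

set_option autoImplicit false

/-! The checks of the certificates for the 275 vectors. -/

namespace Cfsg.Agent.Lib.Helper9.McL162d

open Cfsg Cfsg.Agent.Lib.Helper9.OrbCert0 Cfsg.Agent.Lib.Helper9.OrbCert1
  Cfsg.Agent.Lib.Helper9.OrbCert2
  Cfsg.Agent.Lib.Helper9.McL162a Cfsg.Agent.Lib.Helper9.McL162b Cfsg.Agent.Lib.Helper9.McL162c

/-- the codes of a block -/
def codes (r : ℕ) (E : List ℕ) : List ℕ := r :: E.map (Nat.shiftRight · 24)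

set_option maxRecDepth 10000000 in
theorem cert_p8 : chk stepOK (codes rp8 Ep8) 1 Ep8 = true := by decide +kernel

set_option maxRecDepth 10000000 in
theorem cert_p16 : chk stepOK (codes rp16 Ep16) 1 Ep16 = true := by decide +kernel

/-- the codes of all blocks -/
def codeBlocks : List (List ℕ) :=
  [[ca5], codes rp8 Ep8, codes rp16 Ep16]

set_option maxRecDepth 10000000 in
theorem idx_ok : idxChk T codeBlocks.flatten 0 = true := by decide +kernel

set_option maxRecDepth 10000000 in
theorem len_all : codeBlocks.flatten.length = 275 := by decide +kernel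

set_option maxRecDepth 10000000 in
theorem len_p8 : (codes rp8 Ep8).length = 112 := by decide +kernel

set_option maxRecDepth 10000000 in
theorem len_p16 : (codes rp16 Ep16).length = 162 := by decide +kernel

end Cfsg.Agent.Lib.Helper9.McL162d
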