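import Cfsg.Agent.Lib.Helper9.McL275b

set_option autoImplicit false

/-! The 275 minimal vectors attached to a vector `u` of sum of squares 48 and a minimal vector
`v` with `u - v` minimal: the count and the transitivity of the stabiliser of `u` and `v`. -/

namespace Cfsg.Agent.Lib.Helper9.McL275c

open Cfsg Finset Cfsg.Agent.Lib.Helper4.Leech
  Cfsg.Agent.Lib.Helper9.LeechE3
  Cfsg.Agent.Lib.Helper9.LeechE4 Cfsg.Agent.Lib.Helper9.LeechE5 Cfsg.Agent.Lib.Helper9.LeechE8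
  Cfsg.Agent.Lib.Helper9.LeechF1
  Cfsg.Agent.Lib.Helper9.LeechX8
  Cfsg.Agent.Lib.Helper9.LeechX9 Cfsg.Agent.Lib.Helper9.LeechX10 Cfsg.Agent.Lib.Helper9.LeechX11
  Cfsg.Agent.Lib.Helper9.LeechP1 Cfsg.Agent.Lib.Helper9.LeechP2
  Cfsg.Agent.Lib.Helper9.LeechP6 Cfsg.Agent.Lib.Helper9.LeechQ2
  Cfsg.Agent.Lib.Helper9.LeechC7 Cfsg.Agent.Lib.Helper9.McL275a Cfsg.Agent.Lib.Helper9.McL275b

theorem norm_sub_iff (u x : leechLattice) (hu : sqNorm u.1 = 48) (hx : sqNorm x.1 = 32) :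
    sqNorm (u.1 - x.1) = 32 ↔ dotInt u.1 x.1 = 24 := by
  rw [sqNorm_sub, hu, hx]
  constructor <;> intro h <;> omega

/-- moving `u`, `v` to the standard position -/
theorem to_std275 (u v : leechLattice) (hu : sqNorm u.1 = 48) (hv : sqNorm v.1 = 32)
    (huv : sqNorm (u.1 - v.1) = 32) :
    ∃ g ∈ Co0, g u = rG ∧ g v = rA ∧ g (u - v) = rBb := by
  have huv' : dotInt u.1 v.1 = 24 := (norm_sub_iff u v hu hv).mp huv
  have hw : sqNorm (u - v).1 = 32 := huv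
  have hd : dotInt v.1 (u - v).1 = -8 := by
    show dotInt v.1 (u.1 - v.1) = -8
    rw [dot_sub_right, dot_self, hv, dot_comm, huv']; norm_num
  obtain ⟨g, hg, g1, g2⟩ := pairs8 v (u - v) rA rBb hv hw rA_norm rBb_norm hd rA_rBb
  refine ⟨g, hg, ?_, g1, g2⟩
  have : u = v + (u - v) := by abel
  rw [this, hg.1, g1, g2, McL275b.rG_eq]

theorem count275 (u v : leechLattice) (hu : sqNorm u.1 = 48) (hv : sqNorm v.1 = 32)
    (huv : sqNorm (u.1 - v.1) = 32) :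
    {x : leechLattice | sqNorm x.1 = 32 ∧ sqNorm (u.1 - x.1) = 32 ∧
      dotInt v.1 x.1 = 16}.ncard = 275 := by
  obtain ⟨g, hg, g1, g2, -⟩ := to_std275 u v hu hv huv
  have h := ncard_transport g hg u v (fun n a b => n = 32 ∧ a = 24 ∧ b = 16)
  rw [g1, g2] at h
  have e1 : {x : leechLattice | sqNorm x.1 = 32 ∧ sqNorm (u.1 - x.1) = 32 ∧
      dotInt v.1 x.1 = 16} = {x : leechLattice | sqNorm x.1 = 32 ∧ dotInt u.1 x.1 = 24 ∧
      dotInt v.1 x.1 = 16} := by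
    ext x
    simp only [Set.mem_setOf_eq]
    constructor
    · rintro ⟨a1, a2, a3⟩
      exact ⟨a1, (norm_sub_iff u x hu a1).mp a2, a3⟩
    · rintro ⟨a1, a2, a3⟩
      exact ⟨a1, (norm_sub_iff u x hu a1).mpr a2, a3⟩
  rw [e1, h]
  refine Eq.trans ?_ count275_std
  have himg : {x : GolayPt → ℤ | x ∈ leechLattice ∧ sqNorm x = 32 ∧ dotInt rG.1 x = 24 ∧
      dotInt rA.1 x = 16}
      = Subtype.val '' {x : leechLattice | sqNorm x.1 = 32 ∧ dotInt rG.1 x.1 = 24 ∧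
          dotInt rA.1 x.1 = 16} := by
    ext x
    simp only [Set.mem_setOf_eq, Set.mem_image]
    constructor
    · rintro ⟨h1, h2, h3, h4⟩
      exact ⟨⟨x, h1⟩, ⟨h2, h3, h4⟩, rfl⟩
    · rintro ⟨y, ⟨h2, h3, h4⟩, rfl⟩
      exact ⟨y.2, h2, h3, h4⟩
  rw [himg, Set.ncard_image_of_injective _ Subtype.val_injective]

theorem trans275 (u v x x' : leechLattice) (hu : sqNorm u.1 = 48) (hv : sqNorm v.1 = 32)
    (huv : sqNorm (u.1 - v.1) = 32)
    (hx : sqNorm x.1 = 32 ∧ sqNorm (u.1 - x.1) = 32 ∧ dotInt v.1 x.1 = 16)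
    (hx' : sqNorm x'.1 = 32 ∧ sqNorm (u.1 - x'.1) = 32 ∧ dotInt v.1 x'.1 = 16) :
    ∃ g ∈ Co0, g u = u ∧ g v = v ∧ g x = x' := by
  obtain ⟨g, hg, g1, g2, g3⟩ := to_std275 u v hu hv huv
  have key : ∀ z : leechLattice, sqNorm z.1 = 32 ∧ sqNorm (u.1 - z.1) = 32 ∧
      dotInt v.1 z.1 = 16 → S275 (g z) := by
    rintro z ⟨a1, a2, a3⟩
    refine ⟨by rw [hg.2, a1], ?_, ?_⟩
    · rw [← g1, dot_pres g hg]; exact (norm_sub_iff u z hu a1).mp a2
    · rw [← g2, dot_pres g hg]; exact a3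
  obtain ⟨n, hn, n1, n2, n3⟩ := std_trans (g x) (g x') (key x hx) (key x' hx')
  have nG : n rG = rG := by rw [McL275b.rG_eq, hn.1, n1, n2]
  refine ⟨g⁻¹ * n * g, Co0.mul_mem (Co0.mul_mem (Co0.inv_mem hg) hn) hg, ?_, ?_, ?_⟩
  · rw [Equiv.Perm.mul_apply, Equiv.Perm.mul_apply, g1, nG, ← g1]; simp
  · rw [Equiv.Perm.mul_apply, Equiv.Perm.mul_apply, g2, n1, ← g2]; simp
  · rw [Equiv.Perm.mul_apply, Equiv.Perm.mul_apply, n3]; simp

end Cfsg.Agent.Lib.Helper9.McL275c
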