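import Cfsg.Agent.Lib.Helper9.McL162d
import Cfsg.Agent.Lib.Helper9.McL275c
import Cfsg.Agent.Lib.Helper9.LeechE4

set_option autoImplicit false

/-! The orbits of the stabiliser of the standard triple on the 275 vectors. -/

namespace Cfsg.Agent.Lib.Helper9.McL162e

open Cfsg Cfsg.Agent.Lib.Helper4.Leech
  Cfsg.Agent.Lib.Helper9.LeechX5 Cfsg.Agent.Lib.Helper9.LeechX7 Cfsg.Agent.Lib.Helper9.LeechX8
  Cfsg.Agent.Lib.Helper9.LeechX9 Cfsg.Agent.Lib.Helper9.LeechX11 Cfsg.Agent.Lib.Helper9.LeechE4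
  Cfsg.Agent.Lib.Helper9.OrbCert0 Cfsg.Agent.Lib.Helper9.OrbCert1
  Cfsg.Agent.Lib.Helper9.OrbCert2
  Cfsg.Agent.Lib.Helper9.McL162a Cfsg.Agent.Lib.Helper9.McL162b Cfsg.Agent.Lib.Helper9.McL162c
  Cfsg.Agent.Lib.Helper9.McL162d

theorem rp8_mem : vecN rp8 ∈ leechLattice :=
  mem_of_data _ 1 8355404 (Or.inr rfl) (by decide +kernel) (by decide +kernel) (by decide +kernel)

theorem rp16_mem : vecN rp16 ∈ leechLattice :=
  mem_of_data _ 1 4120552 (Or.inr rfl) (by decide +kernel) (by decide +kernel) (by decide +kernel)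

def yp8 : leechLattice := ⟨vecN rp8, rp8_mem⟩
def yp16 : leechLattice := ⟨vecN rp16, rp16_mem⟩

theorem a5_code : a5.1 = vecN ca5 := by
  funext i
  revert i
  decide +kernel

theorem a3_norm : sqNorm a3.1 = 32 := by decide +kernel
theorem a5_norm : sqNorm a5.1 = 32 := by decide +kernel
theorem rG_a3 : sqNorm (rG.1 - a3.1) = 32 := by decide +kernel
theorem rG_a5 : sqNorm (rG.1 - a5.1) = 32 := by decide +kernel
theorem a3_a5 : dotInt a3.1 a5.1 = 16 := by decide +kernel

/-- the set of the 275 vectors, as functions -/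
def SF : Set (GolayPt → ℤ) :=
  {w | w ∈ leechLattice ∧ sqNorm w = 32 ∧ dotInt rG.1 w = 24 ∧ dotInt a3.1 w = 16}

theorem SF_card : SF.ncard = 275 := by
  rw [← Cfsg.Agent.Lib.Helper9.McL275c.count275 rG a3 rG_norm a3_norm rG_a3]
  have himg : SF = Subtype.val '' {x : leechLattice | sqNorm x.1 = 32 ∧
      sqNorm (rG.1 - x.1) = 32 ∧ dotInt a3.1 x.1 = 16} := by
    ext x
    simp only [SF, Set.mem_setOf_eq, Set.mem_image]
    constructor
    · rintro ⟨h1, h2, h3, h4⟩
      exact ⟨⟨x, h1⟩, ⟨h2, (Cfsg.Agent.Lib.Helper9.McL275c.norm_sub_iff rG ⟨x, h1⟩ rG_norm h2).mpr h3,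
        h4⟩, rfl⟩
    · rintro ⟨y, ⟨h2, h3, h4⟩, rfl⟩
      exact ⟨y.2, h2, (Cfsg.Agent.Lib.Helper9.McL275c.norm_sub_iff rG y rG_norm h2).mp h3, h4⟩
  rw [himg, Set.ncard_image_of_injective _ Subtype.val_injective]

/-- the invariant separating the orbits -/
def phi (y : leechLattice) : ℤ := dotInt a5.1 y.1

theorem phi_inv (n : Equiv.Perm leechLattice) (hn : Good n) (y : leechLattice) :
    phi (n y) = phi y := by
  have := dot_pres n hn.1 a5 y
  rw [hn.2.2.2] at this
  exact this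

theorem SF_inv (n : Equiv.Perm leechLattice) (hn : Good n) (y : leechLattice) (hy : y.1 ∈ SF) :
    (n y).1 ∈ SF := by
  obtain ⟨-, h2, h3, h4⟩ := hy
  refine ⟨(n y).2, by rw [hn.1.2, h2], ?_, ?_⟩
  · have := dot_pres n hn.1 rG y
    rw [hn.2.1] at this
    rw [this, h3]
  · have := dot_pres n hn.1 a3 y
    rw [hn.2.2.1] at this
    rw [this, h4]

/-- the blocks -/
def blocks : List (leechLattice × List ℕ) :=
  [(a5, [ca5]), (yp8, codes rp8 Ep8), (yp16, codes rp16 Ep16)]

theorem allCodes_eq : allCodes blocks = codeBlocks.flatten := rfl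

theorem hroot : ∀ b ∈ blocks, b.1.1 ∈ SF := by
  intro b hb
  simp only [blocks, List.mem_cons, List.not_mem_nil, or_false] at hb
  rcases hb with rfl | rfl | rfl
  · exact ⟨a5.2, by decide +kernel, by decide +kernel, by decide +kernel⟩
  · exact ⟨yp8.2, by decide +kernel, by decide +kernel, by decide +kernel⟩
  · exact ⟨yp16.2, by decide +kernel, by decide +kernel, by decide +kernel⟩

theorem hin : ∀ b ∈ blocks, ∀ c ∈ b.2, InOrb Good b.1 c := by
  intro b hb
  simp only [blocks, List.mem_cons, List.not_mem_nil, or_false] at hb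
  rcases hb with rfl | rfl | rfl
  · intro c hc
    rw [List.mem_singleton] at hc
    rw [hc]
    exact ⟨1, good_one, a5_code⟩
  · exact all_inorb stepOK good_one good_mul hok yp8 rp8 Ep8 rfl cert_p8
  · exact all_inorb stepOK good_one good_mul hok yp16 rp16 Ep16 rfl cert_p16

theorem hnd : ((allCodes blocks).map vecN).Nodup := by
  rw [allCodes_eq]
  exact nodup_of_idxChk T _ idx_ok

theorem hsub : ∀ b ∈ blocks, ∀ c ∈ b.2, vecN c ∈ SF := by
  intro b hb c hc
  obtain ⟨n, hn, hnc⟩ := hin b hb c hc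
  rw [← hnc]
  exact SF_inv n hn b.1 (hroot b hb)

theorem hcov : ∀ w ∈ SF, ∃ b ∈ blocks, ∃ c ∈ b.2, w = vecN c :=
  cover SF 275 SF_card (by norm_num) blocks hsub hnd (by rw [allCodes_eq]; exact len_all)

theorem phi_a5 : phi a5 = 32 := by decide +kernel
theorem phi_p8 : phi yp8 = 8 := by decide +kernel
theorem phi_p16 : phi yp16 = 16 := by decide +kernel

theorem hsep : ∀ b ∈ blocks, ∀ b' ∈ blocks, phi b.1 = phi b'.1 → b = b' := by
  intro b hb b' hb' h
  simp only [blocks, List.mem_cons, List.not_mem_nil, or_false] at hb hb'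
  rcases hb with rfl | rfl | rfl <;> rcases hb' with rfl | rfl | rfl <;>
    first
    | rfl
    | (exfalso; simp only [phi_a5, phi_p8, phi_p16] at h; omega)

theorem orb (b : leechLattice × List ℕ) (hb : b ∈ blocks) :
    Orb Good b.1 = {y : leechLattice | y.1 ∈ SF ∧ phi y = phi b.1} ∧
      (Orb Good b.1).ncard = b.2.length :=
  orbit_eq_card SF blocks phi phi_inv hin hcov SF_inv hroot hsep hnd b hb

theorem card_p8 : {y : leechLattice | y.1 ∈ SF ∧ phi y = 8}.ncard = 112 := by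
  have h := orb (yp8, codes rp8 Ep8) (by simp [blocks])
  rw [h.1, phi_p8] at h
  exact h.2.trans len_p8

theorem card_p16 : {y : leechLattice | y.1 ∈ SF ∧ phi y = 16}.ncard = 162 := by
  have h := orb (yp16, codes rp16 Ep16) (by simp [blocks])
  rw [h.1, phi_p16] at h
  exact h.2.trans len_p16

/-- two of the 275 vectors with the same inner product with the base point are conjugate -/
theorem trans (y y' : leechLattice) (hy : y.1 ∈ SF) (hy' : y'.1 ∈ SF) (h : phi y = phi y') :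
    ∃ n, Good n ∧ n y = y' := by
  obtain ⟨b, hb, c, hc, hyc⟩ := hcov y.1 hy
  obtain ⟨n, hn, hnc⟩ := hin b hb c hc
  have e1 : n b.1 = y := Subtype.ext (by rw [hnc, hyc])
  obtain ⟨b', hb', c', hc', hyc'⟩ := hcov y'.1 hy'
  obtain ⟨n', hn', hnc'⟩ := hin b' hb' c' hc'
  have e2 : n' b'.1 = y' := Subtype.ext (by rw [hnc', hyc'])
  have hbb : b = b' := by
    apply hsep b hb b' hb'
    rw [← phi_inv n hn b.1, ← phi_inv n' hn' b'.1, e1, e2, h]
  subst hbb
  refine ⟨n' * n⁻¹, good_mul _ _ hn' (good_inv _ hn), ?_⟩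
  rw [Equiv.Perm.mul_apply, ← e1]
  have : n⁻¹ (n b.1) = b.1 := by simp
  rw [this, e2]

end Cfsg.Agent.Lib.Helper9.McL162e
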