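import Cfsg.Agent.Lib.Helper9.McL162e

set_option autoImplicit false

/-! Moving a triple to the standard triple. -/

namespace Cfsg.Agent.Lib.Helper9.McL162f

open Cfsg Cfsg.Agent.Lib.Helper4.Leech
  Cfsg.Agent.Lib.Helper9.LeechX9 Cfsg.Agent.Lib.Helper9.LeechX11 Cfsg.Agent.Lib.Helper9.LeechE4
  Cfsg.Agent.Lib.Helper9.McL162a Cfsg.Agent.Lib.Helper9.McL162e
  Cfsg.Agent.Lib.Helper9.McL275c

theorem mem_iff (u v : leechLattice) (δ : Equiv.Perm leechLattice) (hδ : δ ∈ Co0)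
    (hu : sqNorm u.1 = 48) (d1 : δ u = rG) (d2 : δ v = a3) (y : leechLattice) :
    (sqNorm y.1 = 32 ∧ sqNorm (u.1 - y.1) = 32 ∧ dotInt v.1 y.1 = 16) ↔ (δ y).1 ∈ SF := by
  have e1 := dot_pres δ hδ u y
  have e2 := dot_pres δ hδ v y
  rw [d1] at e1
  rw [d2] at e2
  constructor
  · rintro ⟨h1, h2, h3⟩
    refine ⟨(δ y).2, by rw [hδ.2, h1], ?_, ?_⟩
    · rw [e1]; exact (norm_sub_iff u y hu h1).mp h2
    · rw [e2, h3]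
  · rintro ⟨-, h2, h3, h4⟩
    have h1 : sqNorm y.1 = 32 := by rw [← hδ.2 y]; exact h2
    refine ⟨h1, (norm_sub_iff u y hu h1).mpr (by rw [← e1]; exact h3), by rw [← e2]; exact h4⟩

theorem to_std (u v x : leechLattice) (hu : sqNorm u.1 = 48) (hv : sqNorm v.1 = 32)
    (huv : sqNorm (u.1 - v.1) = 32)
    (hx : sqNorm x.1 = 32 ∧ sqNorm (u.1 - x.1) = 32 ∧ dotInt v.1 x.1 = 16) :
    ∃ δ ∈ Co0, δ u = rG ∧ δ v = a3 ∧ δ x = a5 := by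
  obtain ⟨g, hg, g1, g2, -⟩ := to_std275 u v hu hv huv
  obtain ⟨h, hh, h1, h2, -⟩ := to_std275 rG a3 rG_norm a3_norm rG_a3
  have hg1 : h⁻¹ * g ∈ Co0 := Co0.mul_mem (Co0.inv_mem hh) hg
  have e1 : (h⁻¹ * g) u = rG := by
    rw [Equiv.Perm.mul_apply, g1, Equiv.Perm.inv_eq_iff_eq, h1]
  have e2 : (h⁻¹ * g) v = a3 := by
    rw [Equiv.Perm.mul_apply, g2, Equiv.Perm.inv_eq_iff_eq, h2]
  have hx' := (mem_iff u v (h⁻¹ * g) hg1 hu e1 e2 x).mp hx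
  have ha5 : a5.1 ∈ SF := hroot (a5, [Cfsg.Agent.Lib.Helper9.McL162b.ca5]) (by simp [blocks])
  obtain ⟨k, hk, k1, k2, k3⟩ := trans275 rG a3 ((h⁻¹ * g) x) a5 rG_norm a3_norm rG_a3
    ⟨hx'.2.1, (norm_sub_iff rG _ rG_norm hx'.2.1).mpr hx'.2.2.1, hx'.2.2.2⟩
    ⟨a5_norm, rG_a5, a3_a5⟩
  refine ⟨k * (h⁻¹ * g), Co0.mul_mem hk hg1, ?_, ?_, ?_⟩
  · rw [Equiv.Perm.mul_apply, e1, k1]
  · rw [Equiv.Perm.mul_apply, e2, k2]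
  · rw [Equiv.Perm.mul_apply, k3]

end Cfsg.Agent.Lib.Helper9.McL162f
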