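import Cfsg.Agent.Lib.Helper9.LeechF3

set_option autoImplicit false

/-! The 275 minimal vectors attached to the standard pair `(4, 4, 0^22)`, `(1, -3, 1^22)`:
the three classes under the coordinate permutations fixing the two standard points. -/

namespace Cfsg.Agent.Lib.Helper9.McL275a

open Cfsg Finset Cfsg.Agent.Lib.Helper4.Leech Cfsg.Agent.Lib.Helper9.Golay1
  Cfsg.Agent.Lib.Helper9.LeechE3
  Cfsg.Agent.Lib.Helper9.LeechE4 Cfsg.Agent.Lib.Helper9.LeechE5 Cfsg.Agent.Lib.Helper9.LeechE8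
  Cfsg.Agent.Lib.Helper9.LeechE9 Cfsg.Agent.Lib.Helper9.LeechF1 Cfsg.Agent.Lib.Helper9.LeechF2
  Cfsg.Agent.Lib.Helper9.LeechF3
  Cfsg.Agent.Lib.Helper9.LeechX4 Cfsg.Agent.Lib.Helper9.LeechX5 Cfsg.Agent.Lib.Helper9.LeechX7
  Cfsg.Agent.Lib.Helper9.LeechX8
  Cfsg.Agent.Lib.Helper9.LeechX9 Cfsg.Agent.Lib.Helper9.LeechX10 Cfsg.Agent.Lib.Helper9.LeechX11
  Cfsg.Agent.Lib.Helper9.LeechP1 Cfsg.Agent.Lib.Helper9.LeechP2 Cfsg.Agent.Lib.Helper9.LeechP3
  Cfsg.Agent.Lib.Helper9.LeechP4 Cfsg.Agent.Lib.Helper9.LeechQ2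
  Cfsg.Agent.Lib.Helper9.LeechC7
open Cfsg.Agent.Lib.Helper9.LeechC2 (fwd bwd par cl mem_lev')
open scoped Pointwise

theorem rG_gen : ∀ k : GolayPt, k ≠ none → rG.1 k = 1 := by decide +kernel
theorem rG_none : rG.1 none = 5 := by decide +kernel

theorem diff_normG (y : leechLattice) (hy : sqNorm y.1 = 32) (hd : dotInt rG.1 y.1 = 24) :
    sqNorm (y - rG).1 = 32 := by
  show sqNorm (y.1 - rG.1) = 32
  rw [sqNorm_sub, hy, rG_norm, dot_comm, hd]; norm_num

/-- two octads through the two standard points -/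
theorem exists_map_octad_in2 (o o' : Finset GolayPt) (ho : o ∈ octads) (ho' : o' ∈ octads)
    (hn : (none : GolayPt) ∈ o) (h0 : (some 0 : GolayPt) ∈ o) (hn' : (none : GolayPt) ∈ o')
    (h0' : (some 0 : GolayPt) ∈ o') :
    ∃ h ∈ M24, h • o = o' ∧ h none = none ∧ h (some 0) = some 0 := by
  obtain ⟨t, ht, hto, htp, htq⟩ := Cfsg.Agent.Lib.Helper9.M24X11.exists_std_pq_in none (some 0)
    (by decide) o ho hn h0
  obtain ⟨s, hs, hso, hsp, hsq⟩ := Cfsg.Agent.Lib.Helper9.M24X11.exists_std_pq_in none (some 0)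
    (by decide) o' ho' hn' h0'
  refine ⟨s⁻¹ * t, M24.mul_mem (M24.inv_mem hs) ht, ?_, ?_, ?_⟩
  · rw [mul_smul, hto, ← hso, inv_smul_smul]
  · rw [Equiv.Perm.mul_apply, htp, Equiv.Perm.inv_eq_iff_eq, hsp]
  · rw [Equiv.Perm.mul_apply, htq, Equiv.Perm.inv_eq_iff_eq, hsq]

/-! ### the class of 22 -/

theorem pat16 (y : leechLattice) (hy : sqNorm y.1 = 32) (hd : dotInt rG.1 y.1 = 24)
    (hn : y.1 none = 4) (h0 : y.1 (some 0) = 0) :
    ∃ j0 : GolayPt, j0 ≠ none ∧ j0 ≠ some 0 ∧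
      ∀ k, |(m4 rG y).1 k| = if k = none then 21 else if k = j0 then 17 else 1 := by
  have ht := diff_normG y hy hd
  have tv : ∀ k, (y - rG).1 k = y.1 k - rG.1 k := fun k => rfl
  have t4 := abs_le4 (y - rG) ht
  rcases shapes32 y.1 y.2 hy with ⟨-, h4, hz⟩ | ⟨hp, h2, hz, hc⟩ | ⟨hp, -, -⟩
  · have hcov := cover y.1 {0, 4} (by rw [Finset.sum_pair (by norm_num)]; omega)
    obtain ⟨i, j, hij, hi, hj, huniq⟩ := cnt_two y.1 4 h4
    have hn4 : |y.1 none| = 4 := by rw [hn]; rfl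
    obtain ⟨j0, hj0, hj4, huniq'⟩ : ∃ j0, j0 ≠ none ∧ |y.1 j0| = 4 ∧
        ∀ l, |y.1 l| = 4 → l = none ∨ l = j0 := by
      rcases huniq none hn4 with h | h
      · exact ⟨j, fun hh => hij (by rw [← h, hh]), hj, fun l hl => by
          rcases huniq l hl with h' | h'
          · left; rw [h', h]
          · right; exact h'⟩
      · exact ⟨i, fun hh => hij (by rw [← h, hh]), hi, fun l hl => by
          rcases huniq l hl with h' | h'
          · right; exact h'
          · left; rw [h', h]⟩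
    have hj00 : j0 ≠ some 0 := by
      intro h; rw [h, h0] at hj4; norm_num at hj4
    refine ⟨j0, hj0, hj00, fun k => ?_⟩
    rw [m4_val]
    by_cases hk : k = none
    · rw [if_pos hk, hk, rG_none, hn]; rfl
    rw [if_neg hk, rG_gen k hk]
    by_cases hkj : k = j0
    · rw [if_pos hkj, hkj]
      have e1 := t4 j0
      rw [tv, rG_gen j0 hj0] at e1
      have : y.1 j0 = 4 := by
        rcases abs_cases (y.1 j0) with ⟨a1, a2⟩ | ⟨a1, a2⟩ <;>
          rcases abs_cases (y.1 j0 - 1) with ⟨b1, b2⟩ | ⟨b1, b2⟩ <;> omega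
      rw [this]; rfl
    · rw [if_neg hkj]
      have e2 := hcov k
      simp only [mem_insert, mem_singleton] at e2
      rcases e2 with h | h
      · rw [abs_eq_zero] at h
        rw [h]; rfl
      · rcases huniq' k h with h' | h'
        · exact absurd h' hk
        · exact absurd h' hkj
  · exfalso
    have hcov := cover y.1 {0, 2} (by rw [Finset.sum_pair (by norm_num)]; omega) none
    rw [hn] at hcov
    simp only [mem_insert, mem_singleton] at hcov
    norm_num at hcov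
  · unfold par at hp
    rw [hn] at hp
    norm_num at hp

theorem Q16 (y y' : leechLattice) (hy : sqNorm y.1 = 32) (hd : dotInt rG.1 y.1 = 24)
    (hn : y.1 none = 4) (h0 : y.1 (some 0) = 0) (hy' : sqNorm y'.1 = 32)
    (hd' : dotInt rG.1 y'.1 = 24) (hn' : y'.1 none = 4) (h0' : y'.1 (some 0) = 0) :
    ∃ n ∈ Co0, (∀ f, Sup2 f → n f = f) ∧ n rG = rG ∧ n y = y' := by
  obtain ⟨j0, a1, a2, hpat⟩ := pat16 y hy hd hn h0
  obtain ⟨j0', a1', a2', hpat'⟩ := pat16 y' hy' hd' hn' h0'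
  obtain ⟨π, hπ, p1, p2, p3⟩ := exists_fix2_map j0' j0 a1' a2' a1 a2
  refine relF_decode rG y y' 48 rG_norm (by norm_num) (by norm_num) π hπ p1 p2
    (by rw [rG_none]; norm_num) ?_ (by rw [hn, hn']) (by rw [h0, h0'])
  intro k
  rw [hpat, hpat']
  have e1 : π k = none ↔ k = none := by
    constructor
    · intro h; rw [← p1] at h; exact π.injective h
    · intro h; rw [h, p1]
  have e3 : π k = j0 ↔ k = j0' := by
    constructor
    · intro h; rw [← p3] at h; exact π.injective h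
    · intro h; rw [h, p3]
  simp only [e1, e3]

/-! ### the class of 77 -/

theorem pat0 (y : leechLattice) (hy : sqNorm y.1 = 32) (hd : dotInt rG.1 y.1 = 24)
    (hn : y.1 none = 2) (h0 : y.1 (some 0) = 2) :
    ∃ O ∈ octads, (none : GolayPt) ∈ O ∧ (some 0 : GolayPt) ∈ O ∧
      ∀ k, |(m4 rG y).1 k| = if k = none then 13 else if k ∈ O then 9 else 1 := by
  have ht := diff_normG y hy hd
  have tv : ∀ k, (y - rG).1 k = y.1 k - rG.1 k := fun k => rfl
  have tn : (y - rG).1 none = -3 := by rw [tv, hn, rG_none]; norm_num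
  have tabs : ∀ k, |(y - rG).1 k| = if k = none then 3 else 1 := by
    rcases shapes32 (y - rG).1 (y - rG).2 ht with ⟨hp, -, -⟩ | ⟨hp, -, -, -⟩ | ⟨-, h3, h1⟩
    · unfold par at hp; rw [tn] at hp; norm_num at hp
    · unfold par at hp; rw [tn] at hp; norm_num at hp
    · exact odd_abs (y - rG) none h3 h1 (by rw [tn]; rfl)
  have yv : ∀ k, k ≠ none → y.1 k = 0 ∨ y.1 k = 2 := by
    intro k hk
    have e1 := tabs k
    rw [if_neg hk, tv, rG_gen k hk] at e1
    rcases abs_cases (y.1 k - 1) with ⟨a1, a2⟩ | ⟨a1, a2⟩ <;> omega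
  rcases shapes32 y.1 y.2 hy with ⟨-, h4, hz⟩ | ⟨hp, h2, hz, hc⟩ | ⟨hp, -, -⟩
  · exfalso
    have hcov := cover y.1 {0, 4} (by rw [Finset.sum_pair (by norm_num)]; omega) none
    rw [hn] at hcov
    simp only [mem_insert, mem_singleton] at hcov
    norm_num at hcov
  · have hst := cl_of_two y hp 8 h2 (by omega)
    refine ⟨cl y.1, ⟨cl_mem_Code y, hc⟩, ?_, ?_, fun k => ?_⟩
    · exact (hst none).1.mpr (by rw [hn]; rfl)
    · exact (hst (some 0)).1.mpr (by rw [h0]; rfl)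
    · rw [m4_val]
      by_cases hk : k = none
      · rw [if_pos hk, hk, rG_none, hn]; rfl
      rw [if_neg hk, rG_gen k hk]
      by_cases hkO : k ∈ cl y.1
      · rw [if_pos hkO]
        have h2' := (hst k).1.mp hkO
        rcases yv k hk with h | h
        · rw [h] at h2'; norm_num at h2'
        · rw [h]; rfl
      · rw [if_neg hkO, (hst k).2 hkO]; rfl
  · unfold par at hp
    rw [hn] at hp
    norm_num at hp

theorem Q0 (y y' : leechLattice) (hy : sqNorm y.1 = 32) (hd : dotInt rG.1 y.1 = 24)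
    (hn : y.1 none = 2) (h0 : y.1 (some 0) = 2) (hy' : sqNorm y'.1 = 32)
    (hd' : dotInt rG.1 y'.1 = 24) (hn' : y'.1 none = 2) (h0' : y'.1 (some 0) = 2) :
    ∃ n ∈ Co0, (∀ f, Sup2 f → n f = f) ∧ n rG = rG ∧ n y = y' := by
  obtain ⟨O, hO, a1, a2, hpat⟩ := pat0 y hy hd hn h0
  obtain ⟨O', hO', a1', a2', hpat'⟩ := pat0 y' hy' hd' hn' h0'
  obtain ⟨π, hπ, p3, p1, p2⟩ := exists_map_octad_in2 O' O hO' hO a1' a2' a1 a2
  refine relF_decode rG y y' 48 rG_norm (by norm_num) (by norm_num) π hπ p1 p2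
    (by rw [rG_none]; norm_num) ?_ (by rw [hn, hn']) (by rw [h0, h0'])
  intro k
  rw [hpat, hpat']
  have e1 : π k = none ↔ k = none := by
    constructor
    · intro h; rw [← p1] at h; exact π.injective h
    · intro h; rw [h, p1]
  have e2 : π k ∈ O ↔ k ∈ O' := by
    rw [← p3]
    exact Cfsg.Agent.Lib.Helper9.M24X1.smul_mem_iff π k O'
  simp only [e1, e2]

/-! ### the class of 176 -/

theorem pat8 (y : leechLattice) (hy : sqNorm y.1 = 32) (hd : dotInt rG.1 y.1 = 24)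
    (hn : y.1 none = 3) (h0 : y.1 (some 0) = 1) :
    ∃ O ∈ octads, (none : GolayPt) ∈ O ∧ (some 0 : GolayPt) ∉ O ∧
      ∀ k, |(m4 rG y).1 k| = if k = none then 17 else if k ∈ O then 3 else 5 := by
  have ht := diff_normG y hy hd
  have tv : ∀ k, (y - rG).1 k = y.1 k - rG.1 k := fun k => rfl
  have tn : (y - rG).1 none = -2 := by rw [tv, hn, rG_none]; norm_num
  have t0 : (y - rG).1 (some 0) = 0 := by
    rw [tv, h0, rG_gen (some 0) (by decide)]; norm_num
  -- the shape of `y`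
  have yshape : cnt y.1 3 = 1 ∧ cnt y.1 1 = 23 := by
    rcases shapes32 y.1 y.2 hy with ⟨hp, -, -⟩ | ⟨hp, -, -, -⟩ | ⟨-, h3, h1⟩
    · unfold par at hp; rw [hn] at hp; norm_num at hp
    · unfold par at hp; rw [hn] at hp; norm_num at hp
    · exact ⟨h3, h1⟩
  have yabs := odd_abs y none yshape.1 yshape.2 (by rw [hn]; rfl)
  rcases shapes32 (y - rG).1 (y - rG).2 ht with ⟨-, h4, hz⟩ | ⟨hp, h2, hz, hc⟩ | ⟨hp, -, -⟩
  · exfalso
    have := cover (y - rG).1 {0, 4} (by rw [Finset.sum_pair (by norm_num)]; omega) none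
    rw [tn] at this
    simp only [mem_insert, mem_singleton] at this
    norm_num at this
  · have hst := cl_of_two (y - rG) hp 8 h2 (by omega)
    refine ⟨cl (y - rG).1, ⟨cl_mem_Code (y - rG), hc⟩, ?_, ?_, fun k => ?_⟩
    · exact (hst none).1.mpr (by rw [tn]; rfl)
    · intro h
      have := (hst (some 0)).1.mp h
      rw [t0] at this; norm_num at this
    · rw [m4_val]
      by_cases hk : k = none
      · rw [if_pos hk, hk, rG_none, hn]; rfl
      rw [if_neg hk, rG_gen k hk]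
      have hyk := yabs k
      rw [if_neg hk] at hyk
      by_cases hkO : k ∈ cl (y - rG).1
      · rw [if_pos hkO]
        have h2' := (hst k).1.mp hkO
        rw [tv, rG_gen k hk] at h2'
        rcases abs_cases (y.1 k) with ⟨a1, a2⟩ | ⟨a1, a2⟩ <;>
          rcases abs_cases (y.1 k - 1) with ⟨b1, b2⟩ | ⟨b1, b2⟩ <;>
          rcases abs_cases (1 + 4 * y.1 k) with ⟨c1, c2⟩ | ⟨c1, c2⟩ <;> omega
      · rw [if_neg hkO]
        have h2' := (hst k).2 hkO
        rw [tv, rG_gen k hk] at h2'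
        have : y.1 k = 1 := by omega
        rw [this]; rfl
  · unfold par at hp
    rw [tn] at hp
    norm_num at hp

theorem Q8 (y y' : leechLattice) (hy : sqNorm y.1 = 32) (hd : dotInt rG.1 y.1 = 24)
    (hn : y.1 none = 3) (h0 : y.1 (some 0) = 1) (hy' : sqNorm y'.1 = 32)
    (hd' : dotInt rG.1 y'.1 = 24) (hn' : y'.1 none = 3) (h0' : y'.1 (some 0) = 1) :
    ∃ n ∈ Co0, (∀ f, Sup2 f → n f = f) ∧ n rG = rG ∧ n y = y' := by
  obtain ⟨O, hO, a1, a2, hpat⟩ := pat8 y hy hd hn h0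
  obtain ⟨O', hO', a1', a2', hpat'⟩ := pat8 y' hy' hd' hn' h0'
  obtain ⟨π, hπ, p3, p1, p2⟩ := Cfsg.Agent.Lib.Helper9.LeechP5.exists_map_octad_pq O' O hO' hO
    none (some 0) a1' a2' a1 a2
  refine relF_decode rG y y' 48 rG_norm (by norm_num) (by norm_num) π hπ p1 p2
    (by rw [rG_none]; norm_num) ?_ (by rw [hn, hn']) (by rw [h0, h0'])
  intro k
  rw [hpat, hpat']
  have e1 : π k = none ↔ k = none := by
    constructor
    · intro h; rw [← p1] at h; exact π.injective h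
    · intro h; rw [h, p1]
  have e2 : π k ∈ O ↔ k ∈ O' := by
    rw [← p3]
    exact Cfsg.Agent.Lib.Helper9.M24X1.smul_mem_iff π k O'
  simp only [e1, e2]

end Cfsg.Agent.Lib.Helper9.McL275a
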