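import Cfsg.Agent.Lib.Helper9.McL275a

set_option autoImplicit false

/-! The 275 minimal vectors attached to a pair of minimal vectors with inner product `-8`:
the count and the transitivity of the stabiliser of the pair. -/

namespace Cfsg.Agent.Lib.Helper9.McL275b

open Cfsg Finset Cfsg.Agent.Lib.Helper4.Leech Cfsg.Agent.Lib.Helper9.Golay1
  Cfsg.Agent.Lib.Helper9.LeechE3
  Cfsg.Agent.Lib.Helper9.LeechE4 Cfsg.Agent.Lib.Helper9.LeechE5 Cfsg.Agent.Lib.Helper9.LeechE8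
  Cfsg.Agent.Lib.Helper9.LeechF1
  Cfsg.Agent.Lib.Helper9.LeechX4 Cfsg.Agent.Lib.Helper9.LeechX5 Cfsg.Agent.Lib.Helper9.LeechX7
  Cfsg.Agent.Lib.Helper9.LeechX8
  Cfsg.Agent.Lib.Helper9.LeechX9 Cfsg.Agent.Lib.Helper9.LeechX10 Cfsg.Agent.Lib.Helper9.LeechX11
  Cfsg.Agent.Lib.Helper9.LeechP1 Cfsg.Agent.Lib.Helper9.LeechP2 Cfsg.Agent.Lib.Helper9.LeechP4
  Cfsg.Agent.Lib.Helper9.LeechP6 Cfsg.Agent.Lib.Helper9.LeechQ2
  Cfsg.Agent.Lib.Helper9.LeechC7 Cfsg.Agent.Lib.Helper9.McL275a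
open Cfsg.Agent.Lib.Helper9.LeechC2 (fwd bwd par cl mem_lev')

theorem rG_eq : rG = rA + rBb := by
  apply Subtype.ext
  funext k
  show rG.1 k = rA.1 k + rBb.1 k
  revert k
  decide +kernel

/-! ### the count -/

set_option maxRecDepth 100000 in
theorem T_275 : T2S (Icc (-5) 5) (kG 1024 1 5) (kG 1024 41 205) (kG 1024 37 185)
    (1024 * 32 + 668) = 275 := by
  decide +kernel

theorem hpos_275 : ∀ i, ∀ a ∈ Icc (-5 : ℤ) 5, 0 ≤ cf 1 41 37 i * a + cf 5 205 185 i ∧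
    cf 1 41 37 i * a + cf 5 205 185 i ≤ cf 10 410 370 i := by
  decide +kernel

theorem count275_std :
    {x : GolayPt → ℤ | x ∈ leechLattice ∧ sqNorm x = 32 ∧ dotInt rG.1 x = 24 ∧
      dotInt rA.1 x = 16}.ncard = 275 := by
  have h := lin2_count_all 1024 1 41 37 5 205 185 10 410 370 hpos_275 (by norm_num) 32
    (by norm_num) 168 (by norm_num) (by norm_num) (Or.inr ⟨by norm_num, by norm_num⟩)
    (by norm_num) (by norm_num)
  rw [show ((168 : ℤ) + (22 * 5 + 205 + 185)).toNat = 668 by decide, T_275] at h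
  refine (congrArg Set.ncard ?_).trans h
  ext x
  simp only [Set.mem_setOf_eq]
  have hcomb : dotInt rG.1 x + 9 * dotInt rA.1 x = lin2 1 41 37 x := by
    rw [dot_rG', dot_rA', lin2_comb]
    norm_num
  constructor
  · rintro ⟨h1, h2, h3, h4⟩
    refine ⟨h1, by exact_mod_cast h2, ?_⟩
    rw [← hcomb, h3, h4]; norm_num
  · rintro ⟨h1, h2, h3⟩
    have h2' : sqNorm x = 32 := by exact_mod_cast h2
    rw [← hcomb] at h3
    obtain ⟨k, hk⟩ := dot_dvd8 rA.1 x rA.2 h1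
    obtain ⟨k', hk'⟩ := dot_dvd8 rG.1 x rG.2 h1
    obtain ⟨b1, b2⟩ := dot_abs_lt rA.1 x 33 (by norm_num) (by rw [rA_norm, h2']; norm_num)
    obtain ⟨c1, c2⟩ := dot_abs_lt rG.1 x 40 (by norm_num) (by rw [rG_norm, h2']; norm_num)
    refine ⟨h1, h2', by omega, by omega⟩

/-! ### the standard configuration -/

/-- the standard 275 -/
def S275 (y : leechLattice) : Prop :=
  sqNorm y.1 = 32 ∧ dotInt rG.1 y.1 = 24 ∧ dotInt rA.1 y.1 = 16

theorem class_vals (y : leechLattice) (hy : S275 y) :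
    (y.1 none = 4 ∧ y.1 (some 0) = 0) ∨ (y.1 none = 2 ∧ y.1 (some 0) = 2) ∨
      (y.1 none = 3 ∧ y.1 (some 0) = 1) := by
  obtain ⟨h1, h2, h3⟩ := hy
  rw [dot_rA] at h3
  have ht := diff_normG y h1 h2
  have tv : ∀ k, (y - rG).1 k = y.1 k - rG.1 k := fun k => rfl
  have b1 := Cfsg.Agent.Lib.Helper9.LeechE9.abs_le4 y h1 none
  have b2 := Cfsg.Agent.Lib.Helper9.LeechE9.abs_le4 y h1 (some 0)
  have b3 := Cfsg.Agent.Lib.Helper9.LeechE9.abs_le4 (y - rG) ht none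
  rw [tv, rG_none] at b3
  rw [abs_le] at b1 b2 b3
  have hcases : y.1 none = 1 ∨ y.1 none = 2 ∨ y.1 none = 3 ∨ y.1 none = 4 := by omega
  rcases hcases with h | h | h | h
  · exfalso
    have tn : (y - rG).1 none = -4 := by rw [tv, rG_none, h]; norm_num
    have t0 : (y - rG).1 (some 0) = 2 := by
      rw [tv, rG_gen (some 0) (by decide)]; omega
    rcases shapes32 (y - rG).1 (y - rG).2 ht with ⟨-, h4, hz⟩ | ⟨hp, h2', hz, hc⟩ | ⟨hp, -, -⟩
    · have := cover (y - rG).1 {0, 4} (by rw [Finset.sum_pair (by norm_num)]; omega) (some 0)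
      rw [t0] at this
      simp only [mem_insert, mem_singleton] at this
      norm_num at this
    · have := cover (y - rG).1 {0, 2} (by rw [Finset.sum_pair (by norm_num)]; omega) none
      rw [tn] at this
      simp only [mem_insert, mem_singleton] at this
      norm_num at this
    · unfold par at hp
      rw [tn] at hp
      norm_num at hp
  · right; left; exact ⟨h, by omega⟩
  · right; right; exact ⟨h, by omega⟩
  · left; exact ⟨h, by omega⟩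

/-- the stabiliser of the standard triple is transitive on each class -/
theorem T_std (y y' : leechLattice) (hy : S275 y) (hy' : S275 y')
    (hc : dotInt rAc.1 y.1 = dotInt rAc.1 y'.1) :
    ∃ n ∈ Co0, (∀ f, Sup2 f → n f = f) ∧ n rG = rG ∧ n y = y' := by
  rw [LeechF1.dot_rAc, LeechF1.dot_rAc] at hc
  rcases class_vals y hy with ⟨a1, a2⟩ | ⟨a1, a2⟩ | ⟨a1, a2⟩ <;>
    rcases class_vals y' hy' with ⟨b1, b2⟩ | ⟨b1, b2⟩ | ⟨b1, b2⟩
  · exact Q16 y y' hy.1 hy.2.1 a1 a2 hy'.1 hy'.2.1 b1 b2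
  · omega
  · omega
  · omega
  · exact Q0 y y' hy.1 hy.2.1 a1 a2 hy'.1 hy'.2.1 b1 b2
  · omega
  · omega
  · omega
  · exact Q8 y y' hy.1 hy.2.1 a1 a2 hy'.1 hy'.2.1 b1 b2

/-- same orbit under the stabiliser of the standard pair -/
def Rel275 (y y' : leechLattice) : Prop := ∃ n ∈ Co0, n rA = rA ∧ n rBb = rBb ∧ n y = y'

theorem Rel275.symm {x y : leechLattice} (h : Rel275 x y) : Rel275 y x := by
  obtain ⟨g, hg, g1, g2, rfl⟩ := h
  refine ⟨g⁻¹, Co0.inv_mem hg, ?_, ?_, by simp⟩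
  · rw [Equiv.Perm.inv_eq_iff_eq, g1]
  · rw [Equiv.Perm.inv_eq_iff_eq, g2]

theorem Rel275.trans {x y z : leechLattice} (h1 : Rel275 x y) (h2 : Rel275 y z) : Rel275 x z := by
  obtain ⟨g, hg, g1, g2, rfl⟩ := h1
  obtain ⟨h, hh, k1, k2, rfl⟩ := h2
  exact ⟨h * g, Co0.mul_mem hh hg, by rw [Equiv.Perm.mul_apply, g1, k1],
    by rw [Equiv.Perm.mul_apply, g2, k2], rfl⟩

theorem rBb_eq : rBb = rG - rA := by
  rw [rG_eq]; abel

theorem rel_of_T (y y' : leechLattice) (hy : S275 y) (hy' : S275 y')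
    (hc : dotInt rAc.1 y.1 = dotInt rAc.1 y'.1) : Rel275 y y' := by
  obtain ⟨n, hn, n1, n2, n3⟩ := T_std y y' hy hy' hc
  refine ⟨n, hn, n1 rA sup2_rA, ?_, n3⟩
  rw [rBb_eq, co0_sub n hn, n2, n1 rA sup2_rA]

/-! ### fusion -/

def Lxp : List ℤ := [0, 2, 0, 2, 0, 0, 2, 2, 0, 0, 2, 0, 0, 0, 0, 0, 0, 0, 2, 0, 0, 2, 2, 0]
def Ly1 : List ℤ := [0, 4, 0, 0, 0, 0, 0, 0, 0, 0, 0, 0, 0, 0, 0, 0, 0, 0, 0, 0, 0, 0, 0, 4]
def Ly2 : List ℤ :=
  [1, 1, 1, 1, -1, 1, 1, 1, 1, -1, -1, -1, 1, 1, 1, 1, 1, -1, 1, 1, -1, -1, 1, 3]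
def Ly3 : List ℤ := [2, 0, 2, 0, 2, 2, 2, 0, 0, 0, 2, 2, 0, 0, 0, 0, 0, 0, 0, 0, 0, 0, 0, 2]

theorem Lxp_mem : vecL Lxp ∈ leechLattice :=
  mem_of_data _ 0 6554826 (Or.inl rfl) (by decide +kernel) (by decide +kernel) (by decide +kernel)
theorem Ly1_mem : vecL Ly1 ∈ leechLattice :=
  mem_of_data _ 0 0 (Or.inl rfl) (by decide +kernel) (by decide +kernel) (by decide +kernel)
theorem Ly2_mem : vecL Ly2 ∈ leechLattice :=
  mem_of_data _ 1 5108207 (Or.inr rfl) (by decide +kernel) (by decide +kernel) (by decide +kernel)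
theorem Ly3_mem : vecL Ly3 ∈ leechLattice :=
  mem_of_data _ 0 8391797 (Or.inl rfl) (by decide +kernel) (by decide +kernel) (by decide +kernel)

def xp : leechLattice := ⟨vecL Lxp, Lxp_mem⟩
def y1 : leechLattice := ⟨vecL Ly1, Ly1_mem⟩
def y2 : leechLattice := ⟨vecL Ly2, Ly2_mem⟩
def y3 : leechLattice := ⟨vecL Ly3, Ly3_mem⟩

theorem xp_norm : sqNorm xp.1 = 32 := by decide +kernel
theorem rA_xp : dotInt rA.1 xp.1 = 0 := by decide +kernel
theorem rBb_xp : dotInt rBb.1 xp.1 = 16 := by decide +kernel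

theorem y1_S : S275 y1 := ⟨by decide +kernel, by decide +kernel, by decide +kernel⟩
theorem y2_S : S275 y2 := ⟨by decide +kernel, by decide +kernel, by decide +kernel⟩
theorem y3_S : S275 y3 := ⟨by decide +kernel, by decide +kernel, by decide +kernel⟩

theorem y1_c : dotInt rAc.1 y1.1 = 16 := by rw [LeechF1.dot_rAc]; decide +kernel
theorem y2_c : dotInt rAc.1 y2.1 = 8 := by rw [LeechF1.dot_rAc]; decide +kernel
theorem y3_c : dotInt rAc.1 y3.1 = 0 := by rw [LeechF1.dot_rAc]; decide +kernel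

theorem y1_p : dotInt xp.1 y1.1 = 8 := by decide +kernel
theorem y2_p : dotInt xp.1 y2.1 = 8 := by decide +kernel
theorem y3_p : dotInt xp.1 y3.1 = 8 := by decide +kernel

/-- the classes relative to the second base point -/
theorem rel_of_T' (y y' : leechLattice) (hy : S275 y) (hy' : S275 y')
    (hc : dotInt xp.1 y.1 = dotInt xp.1 y'.1) : Rel275 y y' := by
  obtain ⟨h, hh, h1, h2, h3⟩ := mcl_trans2025 rA rBb rAc xp rA_norm rBb_norm rA_rBb rAc_norm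
    rA_rAc rBb_rAc xp_norm rA_xp rBb_xp
  have hi := Co0.inv_mem hh
  have i1 : h⁻¹ rA = rA := by rw [Equiv.Perm.inv_eq_iff_eq, h1]
  have i2 : h⁻¹ rBb = rBb := by rw [Equiv.Perm.inv_eq_iff_eq, h2]
  have i3 : h⁻¹ xp = rAc := by rw [Equiv.Perm.inv_eq_iff_eq, h3]
  have iG : h⁻¹ rG = rG := by rw [rG_eq, hi.1, i1, i2]
  have key : ∀ z : leechLattice, S275 z → S275 (h⁻¹ z) ∧
      dotInt rAc.1 (h⁻¹ z).1 = dotInt xp.1 z.1 := by
    intro z hz
    refine ⟨⟨by rw [hi.2, hz.1], ?_, ?_⟩, ?_⟩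
    · rw [← hz.2.1, ← dot_pres h⁻¹ hi rG z, iG]
    · rw [← hz.2.2, ← dot_pres h⁻¹ hi rA z, i1]
    · rw [← dot_pres h⁻¹ hi xp z, i3]
  obtain ⟨k1, k2⟩ := key y hy
  obtain ⟨k1', k2'⟩ := key y' hy'
  obtain ⟨n, hn, n1, n2, n3⟩ := rel_of_T (h⁻¹ y) (h⁻¹ y') k1 k1' (by rw [k2, k2', hc])
  refine ⟨h * n * h⁻¹, Co0.mul_mem (Co0.mul_mem hh hn) hi, ?_, ?_, ?_⟩
  · rw [Equiv.Perm.mul_apply, Equiv.Perm.mul_apply, i1, n1, h1]
  · rw [Equiv.Perm.mul_apply, Equiv.Perm.mul_apply, i2, n2, h2]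
  · rw [Equiv.Perm.mul_apply, Equiv.Perm.mul_apply, n3]; simp

/-- the stabiliser of the standard pair is transitive on the standard 275 -/
theorem std_trans (y y' : leechLattice) (hy : S275 y) (hy' : S275 y') : Rel275 y y' := by
  have h12 : Rel275 y1 y2 := rel_of_T' y1 y2 y1_S y2_S (by rw [y1_p, y2_p])
  have h13 : Rel275 y1 y3 := rel_of_T' y1 y3 y1_S y3_S (by rw [y1_p, y3_p])
  have key : ∀ z : leechLattice, S275 z → Rel275 z y1 := by
    intro z hz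
    have hz' := hz
    obtain ⟨z1, z2, z3⟩ := hz'
    rw [dot_rA] at z3
    rcases class_vals z hz with ⟨a1, a2⟩ | ⟨a1, a2⟩ | ⟨a1, a2⟩
    · exact rel_of_T z y1 hz y1_S (by rw [y1_c, LeechF1.dot_rAc]; omega)
    · exact (rel_of_T z y3 hz y3_S (by rw [y3_c, LeechF1.dot_rAc]; omega)).trans h13.symm
    · exact (rel_of_T z y2 hz y2_S (by rw [y2_c, LeechF1.dot_rAc]; omega)).trans h12.symm
  exact (key y hy).trans (key y' hy').symm

end Cfsg.Agent.Lib.Helper9.McL275b
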