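import Cfsg.Agent.Lib.Helper9.McLCa
import Cfsg.Agent.Lib.Helper9.SlpS
import Cfsg.Agent.Lib.Helper8.SSU

/-! Kernel-checked certificates for the tables of `McLCa` (generated). -/

set_option autoImplicit false
set_option maxHeartbeats 0
set_option maxRecDepth 1000000

namespace Cfsg.Agent.Lib.Helper9.McLC

open Cfsg.Agent.Lib.Helper8.SS Cfsg.Agent.Lib.Helper8.MatN Cfsg.Agent.Lib.Helper9.SlpS

theorem lv0 : LevelOK 275 cN 339 L0 L1.S (deepOf [L1, L2]) :=
  levelOK_of (by decide +kernel) (by decide +kernel) (by decide +kernel)
    (by decide +kernel)

theorem tq0 : treeB 8 qN L0 = true := by decide +kernel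

theorem sq0 : siftB 8 qN L0 (deepOf [L1, L2]) = true := by decide +kernel

theorem lv1 : LevelOK 275 cN 339 L1 L2.S (deepOf [L2]) :=
  levelOK_of (by decide +kernel) (by decide +kernel) (by decide +kernel)
    (by decide +kernel)

theorem tq1 : treeB 8 qN L1 = true := by decide +kernel

theorem sq1 : siftB 8 qN L1 (deepOf [L2]) = true := by decide +kernel

theorem lv2 : LevelOK 275 cN 339 L2 [] (deepOf []) :=
  levelOK_of (by decide +kernel) (by decide +kernel) (by decide +kernel)
    (by decide +kernel)

theorem tq2 : treeB 8 qN L2 = true := by decide +kernel

theorem sq2 : siftB 8 qN L2 (deepOf []) = true := by decide +kernel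

theorem chainC : ChainOK 275 cN 339 [L0, L1, L2] :=
  ⟨lv0, lv1, lv2, trivial⟩

theorem mv0 : LevelOK 8 qN 339 M0 M1.S (deepOf [M1, M2, M3, M4, M5]) :=
  levelOK_of (by decide +kernel) (by decide +kernel) (by decide +kernel)
    (by decide +kernel)

theorem mv1 : LevelOK 8 qN 339 M1 M2.S (deepOf [M2, M3, M4, M5]) :=
  levelOK_of (by decide +kernel) (by decide +kernel) (by decide +kernel)
    (by decide +kernel)

theorem mv2 : LevelOK 8 qN 339 M2 M3.S (deepOf [M3, M4, M5]) :=
  levelOK_of (by decide +kernel) (by decide +kernel) (by decide +kernel)
    (by decide +kernel)

theorem mv3 : LevelOK 8 qN 339 M3 M4.S (deepOf [M4, M5]) :=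
  levelOK_of (by decide +kernel) (by decide +kernel) (by decide +kernel)
    (by decide +kernel)

theorem mv4 : LevelOK 8 qN 339 M4 M5.S (deepOf [M5]) :=
  levelOK_of (by decide +kernel) (by decide +kernel) (by decide +kernel)
    (by decide +kernel)

theorem mv5 : LevelOK 8 qN 339 M5 [] (deepOf []) :=
  levelOK_of (by decide +kernel) (by decide +kernel) (by decide +kernel)
    (by decide +kernel)

theorem chainM : ChainOK 8 qN 339 [M0, M1, M2, M3, M4, M5] :=
  ⟨mv0, mv1, mv2, mv3, mv4, mv5, trivial⟩

def W : List ℕ := List.range 339

def slpW : List (List (ℕ × Bool)) := [[], [], [], [], [(1, true), (0, true)], [(2, true), (0, true)], [(3, true), (0, true)], [(2, true), (4, true)], [(3, true), (4, true)], [(1, true), (5, true)], [(2, true), (5, true)], [(3, true), (5, true)], [(1, true), (6, true)], [(2, true), (6, true)], [(3, true), (6, true)], [(1, true), (7, true)], [(2, true), (7, true)], [(3, true), (7, true)], [(1, true), (8, true)], [(2, true), (8, true)], [(3, true), (8, true)], [(1, true), (9, true)], [(3, true), (9, true)], [(1, true), (10, true)], [(2, true), (10, true)], [(3, true), (10, true)], [(1, true), (11, true)], [(2, true), (11, true)], [(3, true), (11, true)], [(1, true),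 (12, true)], [(2, true), (12, true)], [(3, true), (12, true)], [(1, true), (13, true)], [(2, true), (13, true)], [(3, true), (13, true)], [(1, true), (15, true)], [(2, true), (15, true)], [(3, true), (15, true)], [(1, true), (16, true)], [(2, true), (16, true)], [(3, true), (16, true)], [(1, true), (17, true)], [(2, true), (17, true)], [(3, true), (17, true)], [(1, true), (18, true)], [(3, true), (18, true)], [(1, true), (19, true)], [(2, true), (19, true)], [(3, true), (19, true)], [(3, true), (20, true)], [(1, true), (21, true)], [(2, true), (21, true)], [(3, true), (21, true)], [(1, true), (22, true)], [(2, true), (22, true)], [(3, true), (22, true)], [(1, true), (23, true)], [(2, true), (23, true)], [(3, true), (23, true)], [(1, true), (24, true)], [(2, true), (24, true)], [(3, true), (24, true)], [(1, true), (25, true)], [(2, true), (25, true)], [(3, true), (25, true)], [(1, true), (26, true)], [(2, true), (26, true)], [(1, true), (27, true)], [(2, true), (27, true)], [(3, true), (28, true)], [(2, true), (29, true)], [(3, true), (29, true)], [(1, true), (30, true)], [(2, true), (30, true)], [(1, true), (31, true)], [(2, true), (31, true)], [(1, true), (32, true)], [(2, true), (32, true)],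 [(3, true), (32, true)], [(2, true), (33, true)], [(3, true), (33, true)], [(1, true), (34, true)], [(2, true), (34, true)], [(2, true), (35, true)], [(3, true), (35, true)], [(1, true), (36, true)], [(2, true), (36, true)], [(3, true), (36, true)], [(2, true), (37, true)], [(3, true), (37, true)], [(1, true), (38, true)], [(2, true), (38, true)], [(3, true), (38, true)], [(2, true), (39, true)], [(3, true), (39, true)], [(1, true), (40, true)], [(2, true), (40, true)], [(3, true), (40, true)], [(1, true), (41, true)], [(1, true), (42, true)], [(2, true), (42, true)], [(3, true), (43, true)], [(1, true), (45, true)], [(2, true), (45, true)], [(3, true), (45, true)], [(2, true), (46, true)], [(3, true), (46, true)], [(2, true), (47, true)], [(3, true), (47, true)], [(2, true), (48, true)], [(2, true), (50, true)], [(3, true), (50, true)], [(2, true), (51, true)], [(2, true), (52, true)], [(3, true), (52, true)], [(1, true), (53, true)], [(2, true), (53, true)], [(1, true), (54, true)], [(3, true), (54, true)], [(1, true), (56, true)], [(3, true), (56, true)], [(2, true), (57, true)], [(3, true), (57, true)], [(2, true), (58, true)], [(3, true), (58, true)], [(2, true), (59, true)], [(1, true),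 (60, true)], [(2, true), (60, true)], [(3, true), (60, true)], [(1, true), (61, true)], [(2, true), (61, true)], [(3, true), (61, true)], [(1, true), (62, true)], [(1, true), (63, true)], [(3, true), (63, true)], [(3, true), (64, true)], [(2, true), (65, true)], [(1, true), (66, true)], [(3, true), (66, true)], [(2, true), (67, true)], [(3, true), (67, true)], [(1, true), (68, true)], [(2, true), (68, true)], [(3, true), (68, true)], [(3, true), (70, true)], [(1, true), (71, true)], [(3, true), (71, true)], [(3, true), (72, true)], [(1, true), (73, true)], [(2, true), (73, true)], [(1, true), (74, true)], [(2, true), (74, true)], [(3, true), (74, true)], [(1, true), (75, true)], [(3, true), (75, true)], [(3, true), (76, true)], [(2, true), (77, true)], [(1, true), (78, true)], [(2, true), (78, true)], [(1, true), (80, true)], [(2, true), (80, true)], [(1, true), (81, true)], [(2, true), (81, true)], [(1, true), (82, true)], [(3, true), (82, true)], [(1, true), (83, true)], [(1, true), (84, true)], [(2, true), (84, true)], [(3, true), (84, true)], [(1, true), (85, true)], [(2, true), (85, true)], [(3, true), (85, true)], [(1, true), (86, true)], [(3, true), (86, true)], [(2, true), (87, true)],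 [(1, true), (88, true)], [(2, true), (88, true)], [(3, true), (89, true)], [(3, true), (90, true)], [(2, true), (91, true)], [(1, true), (92, true)], [(2, true), (92, true)], [(3, true), (92, true)], [(3, true), (93, true)], [(1, true), (94, true)], [(3, true), (94, true)], [(1, true), (95, true)], [(2, true), (95, true)], [(1, true), (96, true)], [(3, true), (96, true)], [(3, true), (97, true)], [(3, true), (99, true)], [(3, true), (100, true)], [(1, true), (102, true)], [(2, true), (103, true)], [(1, true), (105, true)], [(2, true), (106, true)], [(3, true), (107, true)], [(1, true), (108, true)], [(1, true), (109, true)], [(2, true), (112, true)], [(3, true), (112, true)], [(3, true), (114, true)], [(2, true), (115, true)], [(3, true), (115, true)], [(2, true), (116, true)], [(3, true), (116, true)], [(1, true), (117, true)], [(1, true), (119, true)], [(3, true), (119, true)], [(1, true), (120, true)], [(2, true), (122, true)], [(3, true), (123, true)], [(1, true), (125, true)], [(2, true), (126, true)], [(1, true), (128, true)], [(1, true), (129, true)], [(2, true), (129, true)], [(3, true), (130, true)], [(2, true), (133, true)], [(2, true), (137, true)], [(2, true), (138, true)], [(1,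 true), (144, true)], [(2, true), (145, true)], [(1, true), (147, true)], [(2, true), (147, true)], [(1, true), (148, true)], [(2, true), (150, true)], [(3, true), (150, true)], [(1, true), (151, true)], [(2, true), (151, true)], [(2, true), (160, true)], [(1, true), (163, true)], [(3, true), (170, true)], [(1, true), (175, true)], [(2, true), (175, true)], [(1, true), (176, true)], [(2, true), (180, true)], [(1, true), (181, true)], [(2, true), (187, true)], [(1, true), (204, true)], [(2, true), (209, true)], [(3, true), (226, true)], [(101, false), (1, true), (180, true)], [(155, false), (2, true), (230, true)], [(243, true), (0, true)], [(244, true), (0, true)], [(243, true), (245, true)], [(244, true), (245, true)], [(243, true), (246, true)], [(244, true), (246, true)], [(243, true), (247, true)], [(244, true), (247, true)], [(243, true), (248, true)], [(244, true), (248, true)], [(243, true), (249, true)], [(244, true), (249, true)], [(243, true), (250, true)], [(244, true), (251, true)], [(243, true), (252, true)], [(243, true), (253, true)], [(244, true), (253, true)], [(243, true), (254, true)], [(243, true), (255, true)], [(243, true), (256, true)], [(244, true), (256, true)], [(244,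 true), (257, true)], [(243, true), (258, true)], [(244, true), (259, true)], [(243, true), (260, true)], [(244, true), (261, true)], [(244, true), (262, true)], [(244, true), (263, true)], [(243, true), (264, true)], [(243, true), (265, true)], [(243, true), (266, true)], [(244, true), (266, true)], [(244, true), (267, true)], [(243, true), (268, true)], [(244, true), (268, true)], [(244, true), (269, true)], [(243, true), (270, true)], [(244, true), (271, true)], [(243, true), (272, true)], [(244, true), (274, true)], [(244, true), (275, true)], [(243, true), (276, true)], [(243, true), (277, true)], [(243, true), (279, true)], [(243, true), (282, true)], [(243, true), (284, true)], [(243, true), (285, true)], [(244, true), (286, true)], [(244, true), (287, true)], [(244, true), (288, true)], [(244, true), (289, true)], [(243, true), (291, true)], [(244, true), (293, true)], [(243, true), (295, true)], [(243, true), (297, true)], [(271, false), (243, true), (280, true)], [(300, true), (0, true)], [(300, true), (301, true)], [(1, true), (0, true)], [(2, true), (0, true)], [(1, true), (303, true)], [(2, true), (303, true)], [(1, true), (304, true)], [(2, true), (305, true)], [(1, true), (308,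 true)], [(305, false), (2, true), (308, true)], [(0, false), (2, true), (307, true)], [(311, true), (0, true)], [(311, true), (312, true)], [(311, true), (313, true)], [(310, true), (314, true)], [(310, true), (315, true)], [(311, true), (315, true)], [(0, false), (310, true), (0, true)], [(316, false), (311, true), (316, true)], [(319, true), (0, true)], [(318, true), (320, true)], [(319, true), (320, true)], [(318, true), (321, true)], [(319, true), (322, true)], [(321, false), (319, true), (323, true)], [(324, false), (318, true), (324, true)], [(325, true), (0, true)], [(326, true), (0, true)], [(325, true), (327, true)], [(325, true), (328, true)], [(328, false), (325, true), (329, true)], [(0, false), (326, true), (329, true)], [(331, true), (0, true)], [(332, true), (0, true)], [(332, true), (334, true)], [(0, false), (331, true), (334, true)], [(336, true), (0, true)], [(336, true), (337, true)]]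

theorem slp_ok : SlpS 8 qN qM 339 [1, 2, 3] W slpW := by
  unfold SlpS; decide +kernel

theorem M0_sub : ∀ i ∈ M0.S, i ∈ W := by decide +kernel

theorem gens_sub : ∀ i ∈ [1, 2, 3], i ∈ L0.S := by decide +kernel

def MW : List (ℕ × List ℕ) := [(1, [102, 328, 396, 495, 507]), (2, [365, 446, 487, 511]), (3, [167, 311, 418, 494, 510]), (243, [97, 377, 395, 481, 511]), (244, [57, 308, 410, 490, 507]), (300, [57, 359, 424, 497, 507])]

theorem MW_cover : ∀ i ∈ L0.S, ∃ e ∈ MW, e.1 = i := by decide +kernel

theorem w_sq_Q : ∀ x < 8, get (qN 3) (get (qN 3) x) = x := by decide +kernel

theorem w_sq_C : get (cN 3) (get (cN 3) 1) ≠ 1 := by decide +kernel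

end Cfsg.Agent.Lib.Helper9.McLC
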