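import Cfsg.Agent.Lib.Helper9.McLn

set_option autoImplicit false
set_option maxRecDepth 100000

/-! The involutions of the permutation group of degree 275: they are conjugate, the centraliser of
one of them has order at least 40320, and they are listed as conjugates of 2025 of them under the
powers of an element of order 11. -/

namespace Cfsg.Agent.Lib.Helper9.McLa

open Cfsg.Agent.Lib.Helper8.SS Cfsg.Agent.Lib.Helper8.MatN Cfsg.Agent.Lib.Helper8.FastDec
  Cfsg.Agent.Lib.Helper9.SSB Cfsg.Agent.Lib.Helper9.SSC Cfsg.Agent.Lib.Helper9.SSE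
  Cfsg.Agent.Lib.Helper9.GrpCount Cfsg.Agent.Lib.Helper9.OutG Cfsg.Agent.Lib.Helper9.J1O

theorem KW_single (a : ℕ) : KW [a] = P 275 pN pM a := by
  show prodW 275 pN pM [a] = _
  rw [prodW_cons, prodW_nil, mul_one]

theorem KS_single (a : ℕ) : KS [(a, true)] = P 275 pN pM a := by
  have := KS_fwd [a]
  rw [KW_single] at this
  exact this

theorem KS_single_inv (a : ℕ) : KS [(a, false)] = (P 275 pN pM a)⁻¹ := by
  show prodS 275 pN pM [(a, false)] = _
  rw [prodS_cons]
  show PS 275 pN pM (a, false) * 1 = _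
  rw [mul_one]
  unfold PS
  simp

theorem KW_nil : KW [] = 1 := rfl

theorem KS_nil : KS [] = 1 := rfl

theorem P0 : P 275 pN pM 0 = 1 := P_zero (valid_all 0 (by norm_num)) id_tab

/-- the element of order `11` -/
noncomputable def x0 : Equiv.Perm (Fin 275) := P 275 pN pM 517

/-- an element normalizing it -/
noncomputable def nn : Equiv.Perm (Fin 275) := P 275 pN pM 527

theorem x0_mem : x0 ∈ K := P_mem_K 517 (by norm_num)

theorem nn_mem : nn ∈ K := P_mem_K 527 (by norm_num)

theorem xi_lt {i : ℕ} (hi : i < 11) : xi i < 528 := by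
  unfold xi
  cases h : Nat.beq i 0
  · rw [cond_false]; omega
  · rw [cond_true]; norm_num

theorem xi_zero : xi 0 = 0 := rfl

theorem xi_succ (i : ℕ) : xi (i + 1) = 517 + i := by
  unfold xi
  have : Nat.beq (i + 1) 0 = false := rfl
  rw [this, cond_false]
  omega

theorem lt_pair {a b : ℕ} (ha : a < 528) (hb : b < 528) : ∀ i ∈ [a, b], i < 528 := by
  intro i hi
  simp only [List.mem_cons, List.not_mem_nil, or_false] at hi
  rcases hi with rfl | rfl
  · exact ha
  · exact hb

theorem lt_single {a : ℕ} (ha : a < 528) : ∀ i ∈ [a], i < 528 := by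
  intro i hi
  simp only [List.mem_cons, List.not_mem_nil, or_false] at hi
  rw [hi]
  exact ha

theorem P_xi : ∀ i < 11, P 275 pN pM (xi i) = x0 ^ i := by
  intro i
  induction i with
  | zero =>
    intro _
    rw [xi_zero, P0, pow_zero]
  | succ i ih =>
    intro hi
    have h1 := KW_eq_of_eqw (lt_pair (by norm_num : 517 < 528) (xi_lt (by omega : i < 11)))
      (lt_single (xi_lt hi)) (X_pow i (by omega))
    rw [KW_single] at h1
    rw [← h1]
    show prodW 275 pN pM [517, xi i] = _
    rw [prodW_cons, prodW_cons, prodW_nil, mul_one, ih (by omega), pow_succ']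
    rfl

theorem x0_pow_eleven : x0 ^ 11 = 1 := by
  have h1 := KW_eq_of_eqw (lt_pair (by norm_num : 517 < 528) (by norm_num : 526 < 528))
    (by simp) X_11
  have h2 : P 275 pN pM 526 = x0 ^ 10 := P_xi 10 (by norm_num)
  rw [KW_nil] at h1
  rw [← h1]
  show _ = prodW 275 pN pM [517, 526]
  rw [prodW_cons, prodW_cons, prodW_nil, mul_one, h2]
  show x0 ^ 11 = x0 * x0 ^ 10
  rw [← pow_succ']

theorem x0_ne_one : x0 ≠ 1 := by
  intro h
  apply X_ne
  apply fpw_eq (lt_single (by norm_num : 517 < 528)) (by simp)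
  rw [KW_single, KW_nil]
  exact h

theorem nn_conj : nn * x0 * nn⁻¹ = x0 ^ 3 := by
  have h := KS_eq_of_eqP (conjw_lt (lt_single (by norm_num : 527 < 528))
    (lt_single (by norm_num : 517 < 528))) (fwd_lt (lt_single (by norm_num : 519 < 528))) N_ok
  rw [KS_conjw, KS_fwd, KW_single, KW_single, KW_single] at h
  have h3 : P 275 pN pM 519 = x0 ^ 3 := P_xi 3 (by norm_num)
  rw [h3] at h
  exact h

/-! ### the involutions of the Sylow subgroup -/

theorem INVC_lt (m : ℕ) (h : ((nthR INVC m (0, [])).2.all (fun i => Nat.blt i 528)) = true) :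
    ∀ i ∈ (nthR INVC m (0, [])).2, i < 528 := by
  intro i hi
  rw [List.all_eq_true] at h
  have := h i hi
  rwa [Nat.blt_eq] at this

theorem inv_Sg (m : ℕ) (hm : m < 128) :
    m = 0 ∨ sw m * sw m ≠ 1 ∨ ∃ c ∈ K, c * tt * c⁻¹ = sw m := by
  have h := INVC_ok m hm
  unfold chkInv at h
  cases h0 : Nat.beq (nthR INVC m (0, [])).1 0
  · rw [h0, cond_false] at h
    cases h1 : Nat.beq (nthR INVC m (0, [])).1 1
    · rw [h1, cond_false, Bool.and_eq_true] at h
      right; right
      have hlt := INVC_lt m h.1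
      refine ⟨KW (nthR INVC m (0, [])).2, KW_mem_K hlt, ?_⟩
      have h2 := h.2
      rw [nthR_eq SW m []] at h2
      have := KS_eq_of_eqP (conjw_lt hlt wt_l) (fwd_lt (SW_l m)) h2
      rw [KS_conjw, KS_fwd] at this
      exact this
    · rw [h1, cond_true] at h
      right; left
      intro hsq
      rw [nthR_eq, Bool.not_eq_true', ← Bool.not_eq_true] at h
      apply h
      have e : fpw (SW.getD m [] ++ SW.getD m []) = fpw [] := by
        apply fpw_eq (append_lt (SW_l m) (SW_l m)) (by simp)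
        show prodW 275 pN pM _ = _
        rw [prodW_append]
        exact hsq
      rw [e]
      exact Nat.beq_refl _
  · rw [h0, cond_true] at h
    left
    exact Nat.eq_of_beq_eq_true h

theorem card_SgK : Nat.card (Sg.subgroupOf K) = 2 ^ 7 := by
  rw [Nat.card_congr (Subgroup.subgroupOfEquivOfLe Sg_le_K).toEquiv, card_Sg]

/-- all involutions are conjugate -/
theorem inv_conj (u : Equiv.Perm (Fin 275)) (hu : u ∈ K) (h2 : u * u = 1) (h1 : u ≠ 1) :
    ∃ c ∈ K, c * tt * c⁻¹ = u := by
  haveI : Fact (Nat.Prime 2) := ⟨Nat.prime_two⟩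
  have hE : IsPGroup 2 (Sg.subgroupOf K) := IsPGroup.of_card card_SgK
  have hidx : ¬ 2 ∣ (Sg.subgroupOf K).index := by
    have h := (Sg.subgroupOf K).card_mul_index
    rw [card_SgK, card_K] at h
    have : (Sg.subgroupOf K).index = 7016625 := by omega
    rw [this]
    decide
  obtain ⟨g, e, he, hue⟩ := exists_conj_mem_sylow 2 (Sg.subgroupOf K) hE hidx (⟨u, hu⟩ : ↥K) 1
    (by
      apply Subtype.ext
      show u ^ 2 ^ 1 = 1
      rw [pow_one, pow_two]
      exact h2)
  have hv : u = g.1 * e.1 * g.1⁻¹ := congrArg Subtype.val hue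
  have heS : e.1 ∈ Sg := Subgroup.mem_subgroupOf.mp he
  obtain ⟨m, hm, hme⟩ := (mem_Sg_iff e.1).mp heS
  have he1 : e.1 ≠ 1 := by
    intro h
    apply h1
    rw [hv, h]
    group
  have he2 : e.1 * e.1 = 1 := by
    have : e.1 * e.1 = g.1⁻¹ * (u * u) * g.1 := by
      rw [hv]
      group
    rw [this, h2]
    group
  rcases inv_Sg m hm with rfl | h | ⟨c, hc, hce⟩
  · exfalso
    apply he1
    rw [← hme, sw_zero]
  · exfalso
    apply h
    rw [hme]
    exact he2
  · refine ⟨g.1 * c, K.mul_mem g.2 hc, ?_⟩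
    rw [hv, ← hme, ← hce]
    group

/-! ### the centraliser of the involution -/

/-- the centraliser of the involution -/
noncomputable def CK : Subgroup (Equiv.Perm (Fin 275)) := K ⊓ Subgroup.centralizer {tt}

theorem M1_le_CK : M1 ≤ CK := by
  intro g hg
  unfold M1 at hg
  unfold CK
  rw [Subgroup.mem_inf] at hg ⊢
  exact ⟨K0_le hg.1, hg.2⟩

theorem card_M1 : Nat.card M1 = 1152 := by
  apply le_antisymm card_M1_le
  have := Nat.card_le_card_of_injective (fun j : Fin 1152 => (⟨m1 j.1, m1_mem j.1 j.2⟩ : M1))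
    (fun j j' h => Fin.ext (m1_inj j.2 j'.2 (congrArg Subtype.val h)))
  rwa [Nat.card_fin] at this

theorem DW_chk (i : ℕ) (hi : i < 35) : (∀ a ∈ DW.getD i [], a < 528) ∧
    eqw (DW.getD i [] ++ wt) (wt ++ DW.getD i []) = true := by
  have h := DW_ok
  rw [List.all_eq_true] at h
  have hi' : i < DW.length := by rw [DW_len]; exact hi
  have := h (DW.getD i []) (by rw [List.getD_eq_getElem _ _ hi']; exact List.getElem_mem hi')
  rw [Bool.and_eq_true, List.all_eq_true] at this
  refine ⟨?_, this.2⟩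
  intro a ha
  have := this.1 a ha
  rwa [Nat.blt_eq] at this

theorem mem_CK_of_eqw {w : List ℕ} (hw : ∀ a ∈ w, a < 528)
    (h : eqw (w ++ wt) (wt ++ w) = true) : KW w ∈ CK := by
  unfold CK
  rw [Subgroup.mem_inf]
  refine ⟨KW_mem_K hw, ?_⟩
  rw [Subgroup.mem_centralizer_iff]
  intro z hz
  rw [Set.mem_singleton_iff] at hz
  rw [hz]
  have := KW_eq_of_eqw (append_lt hw wt_l) (append_lt wt_l hw) h
  unfold tt
  rw [← prodW_append, ← prodW_append]
  exact this.symm

theorem card_CK_ge : 40320 ≤ Nat.card CK := by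
  have h := card_centralizer_ge CK M1 M1_le_CK p0 (fun g hg => K0_fix g (Subgroup.mem_inf.mp hg).1) 35
    (fun i => KW (DW.getD i.1 [])) (fun i => mem_CK_of_eqw (DW_chk i.1 i.2).1 (DW_chk i.1 i.2).2)
    (by
      intro i i' e
      apply Fin.ext
      apply idx_eq_of_nodup DW [] (fun d => ev pN d 0) DW_pts (by rw [DW_len]; exact i.2)
        (by rw [DW_len]; exact i'.2)
      have e' := congrArg Fin.val e
      simp only at e'
      rw [prodW_apply 275 pN pM (fun a ha => valid_all a ((DW_chk i.1 i.2).1 a ha)),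
        prodW_apply 275 pN pM (fun a ha => valid_all a ((DW_chk i'.1 i'.2).1 a ha))] at e'
      exact e')
  rw [card_M1] at h
  omega

/-- the conjugates of the involution -/
def Cl : Set (Equiv.Perm (Fin 275)) := {u | ∃ c ∈ K, c * tt * c⁻¹ = u}

theorem card_Cl_le : Nat.card Cl ≤ 22275 := by
  have h := card_conj_mul_le K tt
  rw [card_K] at h
  have h2 := card_CK_ge
  unfold CK at h2
  have h3 : Nat.card Cl * 40320 ≤ 22275 * 40320 :=
    le_trans (Nat.mul_le_mul_left _ h2) (by unfold Cl; omega)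
  omega

/-! ### the list of the involutions -/

theorem RD_l (j : ℕ) : ∀ a ∈ (RD.getD j ([], (0, 0), (0, 0))).1, a < 528 := by
  by_cases hj : j < RD.length
  · rw [List.getD_eq_getElem _ _ hj]
    have h := RD_lt
    rw [List.all_eq_true] at h
    have := h _ (List.getElem_mem hj)
    rw [List.all_eq_true] at this
    intro a ha
    have := this a ha
    rwa [Nat.blt_eq] at this
  · rw [List.getD_eq_default _ _ (not_lt.mp hj)]
    simp

/-- the signed word of a conjugate of an involution by a power of the element of order `11` -/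
noncomputable def clsW (i : ℕ) (c : List ℕ) : List (ℕ × Bool) :=
  (xi i, true) :: (conjw c wt ++ [(xi i, false)])

/-- the representatives of the involutions -/
noncomputable def rr (j : ℕ) : Equiv.Perm (Fin 275) :=
  KS (conjw (RD.getD j ([], (0, 0), (0, 0))).1 wt)

/-- the involutions -/
noncomputable def cl (i j : ℕ) : Equiv.Perm (Fin 275) :=
  KS (clsW i (RD.getD j ([], (0, 0), (0, 0))).1)

theorem rr_eq (j : ℕ) : rr j = KW (RD.getD j ([], (0, 0), (0, 0))).1 * tt *
    (KW (RD.getD j ([], (0, 0), (0, 0))).1)⁻¹ := KS_conjw _ _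

theorem rr_mem_K (j : ℕ) : rr j ∈ K := by
  rw [rr_eq]
  exact K.mul_mem (K.mul_mem (KW_mem_K (RD_l j)) (K0_le tt_mem_K0)) (K.inv_mem (KW_mem_K (RD_l j)))

theorem clsW_lt {i : ℕ} (hi : i < 11) (j : ℕ) :
    ∀ l ∈ clsW i (RD.getD j ([], (0, 0), (0, 0))).1, l.1 < 528 := by
  intro l hl
  unfold clsW at hl
  rw [List.mem_cons, List.mem_append] at hl
  rcases hl with rfl | h | h
  · exact xi_lt hi
  · exact conjw_lt (RD_l j) wt_l l h
  · simp only [List.mem_cons, List.not_mem_nil, or_false] at h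
    rw [h]
    exact xi_lt hi

theorem cl_eq {i : ℕ} (hi : i < 11) (j : ℕ) : cl i j = x0 ^ i * rr j * (x0 ^ i)⁻¹ := by
  unfold cl clsW rr
  show prodS 275 pN pM _ = _
  rw [prodS_cons, prodS_append]
  have h1 : PS 275 pN pM (xi i, true) = x0 ^ i := by
    unfold PS
    rw [if_pos rfl]
    exact P_xi i hi
  have h2 : prodS 275 pN pM [(xi i, false)] = (x0 ^ i)⁻¹ := by
    have := KS_single_inv (xi i)
    rw [P_xi i hi] at this
    exact this
  rw [h1, h2, mul_assoc]

theorem cl_mem {i : ℕ} (hi : i < 11) (j : ℕ) : cl i j ∈ Cl := by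
  refine ⟨x0 ^ i * KW (RD.getD j ([], (0, 0), (0, 0))).1,
    K.mul_mem (K.pow_mem x0_mem i) (KW_mem_K (RD_l j)), ?_⟩
  rw [cl_eq hi, rr_eq]
  group

theorem codes_clsW (i : ℕ) (c : List ℕ) :
    codesOf pN pM (clsW i c) = pN (xi i) :: (codesOf pN pM (conjw c wt) ++ [pM (xi i)]) := by
  unfold clsW codesOf
  rw [List.map_cons, List.map_append, List.map_cons, List.map_nil]
  rfl

theorem look_cl {i j : ℕ} (hi : i < 11) (hj : j < 2025) :
    lookH (fpS pN pM BASE (clsW i (RD.getD j ([], (0, 0), (0, 0))).1)) = 11 * j + i := by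
  have h := FL_ok j hj
  unfold chkFL at h
  rw [forceList_eq, allLt_iff, nthR_eq] at h
  have h2 := h i hi
  rw [withVal_eq] at h2
  have h3 := Nat.eq_of_beq_eq_true h2
  unfold fpS
  rw [forceList_eq, codes_clsW]
  exact h3

theorem cl_inj {i i' j j' : ℕ} (hi : i < 11) (hi' : i' < 11) (hj : j < 2025) (hj' : j' < 2025)
    (e : cl i j = cl i' j') : i = i' ∧ j = j' := by
  have hfp : fpS pN pM BASE (clsW i (RD.getD j ([], (0, 0), (0, 0))).1) =
      fpS pN pM BASE (clsW i' (RD.getD j' ([], (0, 0), (0, 0))).1) :=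
    fpS_eq (clsW_lt hi j) (clsW_lt hi' j') e
  have h1 := look_cl hi hj
  have h2 := look_cl hi' hj'
  rw [hfp, h2] at h1
  omega

/-- every involution is in the list -/
theorem inv_list (u : Equiv.Perm (Fin 275)) (hu : u ∈ K) (h2 : u * u = 1) (h1 : u ≠ 1) :
    ∃ i < 11, ∃ j < 2025, u = x0 ^ i * rr j * (x0 ^ i)⁻¹ := by
  have hcl : u ∈ Cl := inv_conj u hu h2 h1
  haveI : Finite Cl := Set.toFinite _
  have := exists_of_card_le Cl 22275 (fun k => cl (k.1 % 11) (k.1 / 11))
    (by
      intro k k' e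
      have hk : k.1 / 11 < 2025 := by have := k.2; omega
      have hk' : k'.1 / 11 < 2025 := by have := k'.2; omega
      obtain ⟨e1, e2⟩ := cl_inj (Nat.mod_lt _ (by norm_num)) (Nat.mod_lt _ (by norm_num)) hk hk' e
      apply Fin.ext
      omega)
    (fun k => cl_mem (Nat.mod_lt _ (by norm_num)) _) card_Cl_le u hcl
  obtain ⟨k, hk⟩ := this
  have hk' : k.1 / 11 < 2025 := by have := k.2; omega
  refine ⟨k.1 % 11, Nat.mod_lt _ (by norm_num), k.1 / 11, hk', ?_⟩
  rw [← hk]
  exact cl_eq (Nat.mod_lt _ (by norm_num)) _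

end Cfsg.Agent.Lib.Helper9.McLa
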