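import Cfsg.Agent.Lib.Helper9.McLCb
import Cfsg.Agent.Lib.Helper9.McLo
import Cfsg.Agent.Lib.Helper9.DblCover

/-! The centraliser of an involution of the permutation group of degree 275 and order 898128000 is
a non-split double cover of the alternating group of degree 8. -/

set_option autoImplicit false
set_option maxHeartbeats 0
set_option maxRecDepth 1000000
set_option linter.unusedVariables false
set_option linter.style.haveILetI false

namespace Cfsg.Agent.Lib.Helper9.McLC

open Cfsg.Agent.Lib.Helper8.SS Cfsg.Agent.Lib.Helper8.MatN Cfsg.Agent.Lib.Helper8.FastDec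
  Cfsg.Agent.Lib.Helper9.SlpS

/-- the strong generators as words in the tables of the big group, commuting with the involution -/
theorem MW_ok : MW.all (fun e => e.2.all (fun i => Nat.blt i 528) &&
    (McLa.eqw (e.2 ++ McLa.wt) (McLa.wt ++ e.2) &&
      allLt 275 (fun x => Nat.beq (get (cN e.1) x) (ev McLa.pN e.2 x)))) = true := by
  decide +kernel

theorem MW_lt : ∀ e ∈ MW, e.1 < 339 := by decide +kernel

theorem MW_chk (e : ℕ × List ℕ) (he : e ∈ MW) : (∀ a ∈ e.2, a < 528) ∧
    McLa.eqw (e.2 ++ McLa.wt) (McLa.wt ++ e.2) = true ∧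
    ∀ x < 275, get (cN e.1) x = ev McLa.pN e.2 x := by
  have h := MW_ok
  rw [List.all_eq_true] at h
  have := h e he
  rw [Bool.and_eq_true, Bool.and_eq_true, List.all_eq_true, allLt_iff] at this
  refine ⟨?_, this.2.1, ?_⟩
  · intro a ha
    have := this.1 a ha
    rwa [Nat.blt_eq] at this
  · intro x hx
    exact Nat.eq_of_beq_eq_true (this.2.2 x hx)

theorem P_eq_KW (e : ℕ × List ℕ) (he : e ∈ MW) : P 275 cN cM e.1 = McLa.KW e.2 := by
  obtain ⟨h1, h2, h3⟩ := MW_chk e he
  apply Equiv.ext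
  intro x
  apply Fin.ext
  rw [P_apply_val validC (MW_lt e he)]
  show _ = ((prodW 275 McLa.pN McLa.pM e.2) x).1
  rw [prodW_apply 275 McLa.pN McLa.pM (fun a ha => McLa.valid_all a (h1 a ha))]
  exact h3 x.1 x.2

/-- the group of the chain -/
noncomputable def G : Subgroup (Equiv.Perm (Fin 275)) := grp 275 cN cM L0.S

theorem card_G : Nat.card G = 40320 := by
  have h := (chain_spec (pM := cM) validC idC _ chainC).2
  have h2 : ([L0, L1, L2].map (fun L => L.U.length)).prod = 40320 := by decide +kernel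
  rw [h2] at h
  exact h

theorem G_le_CK : G ≤ McLa.CK := by
  unfold G grp
  rw [Subgroup.closure_le]
  rintro g ⟨i, hi, rfl⟩
  obtain ⟨e, he, rfl⟩ := MW_cover i hi
  rw [P_eq_KW e he]
  obtain ⟨h1, h2, h3⟩ := MW_chk e he
  exact McLa.mem_CK_of_eqw h1 h2

theorem card_CK_le : Nat.card McLa.CK ≤ 40320 := by
  have hc : ∀ k : Fin 22275, ∃ c ∈ McLa.K, c * McLa.tt * c⁻¹ = McLa.cl (k.1 % 11) (k.1 / 11) :=
    fun k => McLa.cl_mem (Nat.mod_lt _ (by norm_num)) _
  choose c hc1 hc2 using hc
  haveI : Finite McLa.K := Nat.finite_of_card_ne_zero (by rw [McLa.card_K]; norm_num)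
  have h := Cfsg.Agent.Lib.Helper9.GrpCount.card_centralizer_le McLa.K McLa.tt 22275 c hc1
    (by
      intro k k' e
      simp only at e
      rw [hc2, hc2] at e
      have hk : k.1 / 11 < 2025 := by have := k.2; omega
      have hk' : k'.1 / 11 < 2025 := by have := k'.2; omega
      obtain ⟨e1, e2⟩ := McLa.cl_inj (Nat.mod_lt _ (by norm_num)) (Nat.mod_lt _ (by norm_num))
        hk hk' e
      apply Fin.ext
      omega)
  rw [McLa.card_K] at h
  unfold McLa.CK
  omega

theorem G_eq_CK : G = McLa.CK := by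
  haveI : Finite McLa.CK := Nat.finite_of_card_ne_zero (by have := McLa.card_CK_ge; omega)
  exact Subgroup.eq_of_le_of_card_ge G_le_CK (by rw [card_G]; exact card_CK_le)

/-- the permutations of 8 points -/
noncomputable abbrev Q (i : ℕ) : Equiv.Perm (Fin 8) := P 8 qN qM i

/-- the subgroup of the product -/
noncomputable def D : Subgroup (Equiv.Perm (Fin 275) × Equiv.Perm (Fin 8)) :=
  grpD 275 cN cM Q L0.S

theorem Q_zero : Q 0 = 1 := P_zero (validQ 0 (by norm_num)) idQ

theorem deepC_lt : ∀ i ∈ deepOf [L0, L1, L2], i < 339 := fun i hi =>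
  ((chain_spec (pM := cM) validC idC _ chainC).1 i hi).1

theorem chainQ : ChainQ Q [L0, L1, L2] := by
  have hd1 : ∀ i ∈ deepOf [L1, L2], i < 339 := fun i hi =>
    ((chain_spec (pM := cM) validC idC _ chainC.2).1 i hi).1
  have hd2 : ∀ i ∈ deepOf [L2], i < 339 := fun i hi =>
    ((chain_spec (pM := cM) validC idC _ chainC.2.2).1 i hi).1
  have hd3 : ∀ i ∈ deepOf ([] : List Level), i < 339 := by
    intro i hi
    simp [deepOf] at hi
  exact ⟨levelQ_of validQ lv0.2.1 lv0.2.2.1 hd1 tq0 sq0,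
    levelQ_of validQ lv1.2.1 lv1.2.2.1 hd2 tq1 sq1,
    levelQ_of validQ lv2.2.1 lv2.2.2.1 hd3 tq2 sq2, trivial⟩

theorem card_D_le : Nat.card D ≤ 40320 := by
  have h := (chain_spec_D (Q := Q) (pM := cM) validC idC Q_zero _ chainC chainQ).2
  have h2 : ([L0, L1, L2].map (fun L => L.U.length)).prod = 40320 := by decide +kernel
  rw [h2] at h
  exact h

theorem map_fst_D : D.map (MonoidHom.fst _ _) = G := map_fst_grpD L0.S

/-- the image on 8 points -/
noncomputable def R : Subgroup (Equiv.Perm (Fin 8)) := Subgroup.closure {g | ∃ i ∈ L0.S, Q i = g}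

theorem map_snd_D : D.map (MonoidHom.snd _ _) = R := map_snd_grpD L0.S

/-- the group of the chain on 8 points -/
noncomputable def R0 : Subgroup (Equiv.Perm (Fin 8)) := grp 8 qN qM M0.S

theorem card_R0 : Nat.card R0 = 20160 := by
  have h := (chain_spec (pM := qM) validQ idQ _ chainM).2
  have h2 : ([M0, M1, M2, M3, M4, M5].map (fun L => L.U.length)).prod = 20160 := by decide +kernel
  rw [h2] at h
  exact h

theorem R0_le_R : R0 ≤ R := by
  have h1 : R0 ≤ grp 8 qN qM [1, 2, 3] := by
    unfold R0 grp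
    rw [Subgroup.closure_le]
    rintro g ⟨i, hi, rfl⟩
    exact slpS_mem validQ slp_ok i (M0_sub i hi)
  refine h1.trans ?_
  unfold grp R
  apply Subgroup.closure_mono
  rintro g ⟨i, hi, rfl⟩
  exact ⟨i, gens_sub i hi, rfl⟩

/-- the element of order four -/
noncomputable def ww : Equiv.Perm (Fin 275) := P 275 cN cM 3

theorem three_mem : 3 ∈ L0.S := gens_sub 3 (by decide)

theorem ww_mem_D : (ww, Q 3) ∈ D := PQ_mem_grpD (Q := Q) three_mem

theorem Q3_sq : Q 3 ^ 2 = 1 := by
  apply Equiv.ext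
  intro x
  apply Fin.ext
  rw [pow_two, Equiv.Perm.mul_apply, P_apply_val validQ (by norm_num), P_apply_val validQ (by norm_num)]
  exact w_sq_Q x.1 x.2

theorem ww_sq_ne : ww ^ 2 ≠ 1 := by
  intro h
  have h2 : ((ww ^ 2) (⟨1, by norm_num⟩ : Fin 275)).1 = 1 := by rw [h]; rfl
  unfold ww at h2
  rw [pow_two, Equiv.Perm.mul_apply, P_apply_val validC (by norm_num),
    P_apply_val validC (by norm_num)] at h2
  exact w_sq_C h2

theorem ww_sq_mem_D : (ww ^ 2, (1 : Equiv.Perm (Fin 8))) ∈ D := by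
  have h := D.pow_mem ww_mem_D 2
  rw [Prod.pow_mk, Q3_sq] at h
  exact h

end Cfsg.Agent.Lib.Helper9.McLC
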