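import Cfsg.Agent.Lib.Helper9.McLCd

/-! The centraliser of an involution of the permutation group of degree 275 and order 898128000 is
a non-split double cover of the alternating group of degree 8 (conclusion). -/

set_option autoImplicit false
set_option maxRecDepth 100000
set_option linter.unusedVariables false
set_option linter.style.haveILetI false

namespace Cfsg.Agent.Lib.Helper9.McLC

open Cfsg.Agent.Lib.Helper8.SS Cfsg.Agent.Lib.Helper9.DblCover

/-- the first projection of the subgroup of the product -/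
noncomputable abbrev G' : Subgroup (Equiv.Perm (Fin 275)) :=
  D.map (MonoidHom.fst (Equiv.Perm (Fin 275)) (Equiv.Perm (Fin 8)))

theorem G'_eq : G' = McLa.CK := map_fst_D.trans G_eq_CK

theorem card_G' : Nat.card G' = 40320 := by
  show Nat.card ↥(D.map (MonoidHom.fst (Equiv.Perm (Fin 275)) (Equiv.Perm (Fin 8)))) = 40320
  rw [map_fst_D, card_G]

theorem cover_G' : Cfsg.IsNonsplitDoubleCover ↥G' ↥(alternatingGroup (Fin 8)) := by
  obtain ⟨ρ, hρ, hrange⟩ := graph_hom D (by rw [card_G']; exact card_D_le)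
  rw [map_snd_D] at hrange
  -- the kernel is not trivial
  have hwG : ww ^ 2 ∈ G' := Subgroup.mem_map_of_mem _ ww_sq_mem_D
  have hw1 : ρ ⟨ww ^ 2, hwG⟩ = 1 := hρ (ww ^ 2, 1) ww_sq_mem_D
  have hker2 : 2 ≤ Nat.card ρ.ker := by
    rw [← Nat.card_fin 2]
    apply Nat.card_le_card_of_injective
      (fun i : Fin 2 => if i = 0 then (1 : ρ.ker) else ⟨⟨ww ^ 2, hwG⟩, hw1⟩)
    intro i j hij
    fin_cases i <;> fin_cases j
    · rfl
    · exfalso
      simp only [Fin.zero_eta, Fin.isValue, ↓reduceIte, Fin.mk_one, one_ne_zero] at hij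
      have := congrArg (fun z : ρ.ker => z.1.1) hij
      exact ww_sq_ne this.symm
    · exfalso
      simp only [Fin.zero_eta, Fin.isValue, ↓reduceIte, Fin.mk_one, one_ne_zero] at hij
      have := congrArg (fun z : ρ.ker => z.1.1) hij
      exact ww_sq_ne this
    · rfl
  have hmul : Nat.card ρ.ker * Nat.card ρ.range = 40320 := by
    rw [← Subgroup.index_ker, Subgroup.card_mul_index, card_G']
  have hR0 : 20160 ≤ Nat.card ρ.range := by
    rw [hrange, ← card_R0]
    exact Subgroup.card_le_of_le R0_le_R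
  have hr : Nat.card ρ.range = 20160 := by
    have h1 : 2 * Nat.card ρ.range ≤ 40320 := by
      rw [← hmul]
      exact Nat.mul_le_mul_right _ hker2
    omega
  have hk : Nat.card ρ.ker = 2 := by
    rw [hr] at hmul
    omega
  -- the image is the alternating group
  have hidx : R.index = 2 := by
    have h1 : Nat.card R * R.index = 40320 := by
      rw [Subgroup.card_mul_index, Nat.card_perm, Nat.card_fin]
      rfl
    rw [← hrange, hr] at h1
    rw [← hrange]
    omega
  have hRA : R = alternatingGroup (Fin 8) := Equiv.Perm.eq_alternatingGroup_of_index_eq_two hidx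
  have hmem : ∀ x, ρ x ∈ alternatingGroup (Fin 8) := by
    intro x
    rw [← hRA, ← hrange]
    exact ⟨x, rfl⟩
  let ρ' : ↥G' →* ↥(alternatingGroup (Fin 8)) := ρ.codRestrict _ hmem
  have hsurj : Function.Surjective ρ' := by
    rintro ⟨a, ha⟩
    rw [← hRA, ← hrange] at ha
    obtain ⟨x, rfl⟩ := ha
    exact ⟨x, rfl⟩
  have hker' : ρ'.ker = ρ.ker := MonoidHom.ker_codRestrict _ _ _
  have hcenter : Subgroup.center ↥(alternatingGroup (Fin 8)) = ⊥ :=
    alternatingGroup.center_eq_bot (by simp)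
  refine nonsplit_of_hom ρ' hsurj hcenter (by rw [hker', hk]) ⟨ww, ?_⟩ ?_ ?_
  · exact Subgroup.mem_map_of_mem _ ww_mem_D
  · apply Subtype.ext
    show ρ _ = 1
    exact hw1
  · intro h
    exact ww_sq_ne (congrArg Subtype.val h)

theorem cover_CK : Cfsg.IsNonsplitDoubleCover ↥McLa.CK ↥(alternatingGroup (Fin 8)) :=
  nonsplit_of_equiv (MulEquiv.subgroupCongr G'_eq) cover_G'

theorem tt_sq_chk : McLa.eqw (McLa.wt ++ McLa.wt) [] = true := by decide +kernel

theorem tt_sq : McLa.tt * McLa.tt = 1 := by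
  have h := McLa.KW_eq_of_eqw (McLa.append_lt McLa.wt_l McLa.wt_l)
    (by intro i hi; simp at hi) tt_sq_chk
  unfold McLa.tt
  rw [← prodW_append]
  exact h

theorem tt_mem : McLa.tt ∈ McLa.K := McLa.K0_le McLa.tt_mem_K0

/-- the statement for the permutation group -/
theorem main_K : (∀ x y : ↥McLa.K, orderOf x = 2 → orderOf y = 2 → IsConj x y) ∧
    ∃ t : ↥McLa.K, orderOf t = 2 ∧
      Cfsg.IsNonsplitDoubleCover ↥(Subgroup.centralizer ({t} : Set ↥McLa.K))
        ↥(alternatingGroup (Fin 8)) := by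
  have hconj : ∀ x : ↥McLa.K, orderOf x = 2 →
      ∃ c : ↥McLa.K, c * ⟨McLa.tt, tt_mem⟩ * c⁻¹ = x := by
    intro x hx
    have h2 : x.1 * x.1 = 1 := by
      have := pow_orderOf_eq_one x
      rw [hx, pow_two] at this
      exact congrArg Subtype.val this
    have h1 : x.1 ≠ 1 := by
      intro h
      have : x = 1 := Subtype.ext h
      rw [this, orderOf_one] at hx
      norm_num at hx
    obtain ⟨c, hc, hcx⟩ := McLa.inv_conj x.1 x.2 h2 h1
    exact ⟨⟨c, hc⟩, Subtype.ext hcx⟩
  refine ⟨?_, ⟨McLa.tt, tt_mem⟩, ?_, ?_⟩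
  · intro x y hx hy
    obtain ⟨c, hc⟩ := hconj x hx
    obtain ⟨d, hd⟩ := hconj y hy
    rw [isConj_iff]
    refine ⟨d * c⁻¹, ?_⟩
    rw [← hc, ← hd]
    group
  · haveI : Fact (Nat.Prime 2) := ⟨Nat.prime_two⟩
    apply orderOf_eq_prime
    · apply Subtype.ext
      show McLa.tt ^ 2 = 1
      rw [pow_two]
      exact tt_sq
    · intro h
      exact McLa.tt_ne_one (congrArg Subtype.val h)
  · haveI : Finite ↥McLa.CK := Nat.finite_of_card_ne_zero (by have := McLa.card_CK_ge; omega)
    exact nonsplit_of_equiv (centSubEquiv McLa.K McLa.tt tt_mem).symm cover_CK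

end Cfsg.Agent.Lib.Helper9.McLC
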