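import Cfsg.Agent.Lib.Helper9.McLi
import Cfsg.Agent.Lib.Helper4.U43pIso

set_option autoImplicit false
set_option maxHeartbeats 0
set_option maxRecDepth 1000000

/-! The point stabiliser `K0` of the permutation group of degree 275 (`McLa`) is isomorphic to the
presented group `PU43p.P.Grp` of helper4 (the unitary group `U₄(3)`): images of the generators
`c, d, t` are given as words in the strong generators (found off line by matching the actions on the
112 totally isotropic lines of the unitary space and on the suborbit of length 112), the relators are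
checked on the base points. -/

namespace Cfsg.Agent.Lib.Helper9.McLU43

open Cfsg.Agent.Lib.Helper8.SS Cfsg.Agent.Lib.Helper8.MatN Cfsg.Agent.Lib.Helper8.FastDec
  Cfsg.Agent.Lib.Helper9.SSB Cfsg.Agent.Lib.Helper9.SSC Cfsg.Agent.Lib.Helper9.McLa
  Cfsg.Agent.Lib.Helper4.TC Cfsg.Agent.Lib.Helper4.TC.Log

/-- the words of the six letters `c, c⁻¹, d, d⁻¹, t, t⁻¹` -/
def LW : List (List ℕ) := [[292, 432, 494, 515], [322, 426, 482, 509], [299, 434, 485, 509],
  [371, 418, 475, 508], [362, 460, 478, 510], [304, 427, 479, 512]]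

/-- the word of a letter -/
def lw (l : ℕ) : List ℕ := LW.getD l []

/-- the word of a list of letters -/
def expW : List ℕ → List ℕ
  | [] => []
  | l :: L => lw l ++ expW L

theorem LW_deep : ∀ w ∈ LW, ∀ i ∈ w, i ∈ deep1 := by decide +kernel

theorem lw_deep (l : ℕ) : ∀ i ∈ lw l, i ∈ deep1 := by
  intro i hi
  unfold lw at hi
  by_cases h : l < LW.length
  · rw [List.getD_eq_getElem _ _ h] at hi
    exact LW_deep _ (List.getElem_mem h) i hi
  · rw [List.getD_eq_default _ _ (by omega)] at hi
    simp at hi

theorem expW_deep (L : List ℕ) : ∀ i ∈ expW L, i ∈ deep1 := by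
  induction L with
  | nil => intro i hi; simp [expW] at hi
  | cons l L ih =>
    intro i hi
    rw [expW, List.mem_append] at hi
    rcases hi with h | h
    · exact lw_deep l i h
    · exact ih i h

/-- the images of the letters -/
noncomputable def gK (l : ℕ) : ↥K0 := ⟨KW (lw l), KW_mem_K0 (lw_deep l)⟩

theorem wordP_gK (L : List ℕ) : (wordP gK L).1 = KW (expW L) := by
  induction L with
  | nil => rfl
  | cons l L ih =>
    rw [wordP_cons, expW]
    show (gK l).1 * (wordP gK L).1 = prodW 275 pN pM (lw l ++ expW L)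
    rw [prodW_append, ih]
    rfl

/-- the relators (and the inverse pairs) hold on the base points -/
theorem rel_chk : ∀ L ∈ PU43p.P.real ++ [[0, 1], [1, 0], [2, 3], [3, 2], [4, 5], [5, 4]],
    eqw (expW L) [] = true := by decide +kernel

theorem wordP_eq_one (L : List ℕ)
    (hL : L ∈ PU43p.P.real ++ [[0, 1], [1, 0], [2, 3], [3, 2], [4, 5], [5, 4]]) :
    wordP gK L = 1 := by
  apply Subtype.ext
  rw [wordP_gK]
  have h := KW_eq_of_eqw (lt_of_deep1 (expW_deep L)) (by intro i hi; simp at hi) (rel_chk L hL)
  rw [h]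
  rfl

theorem c_ne : fpw (lw 0) ≠ fpw [] := by decide +kernel

theorem gK_zero_ne : gK 0 ≠ 1 := by
  intro h
  apply c_ne
  apply fpw_eq (lt_of_deep1 (lw_deep 0)) (by intro i hi; simp at hi)
  have := congrArg Subtype.val h
  exact this

theorem exists_hom : ∃ ψ : PU43p.P.Grp →* ↥K0, ∀ l, l < 6 → ψ (PU43p.P.gR l) = gK l := by
  apply exists_hom_of_letters PU43p.P PU43p.valid gK
  · intro l hl
    have hl : l < 6 := hl
    have key : ∀ a b : ℕ, [a, b] ∈ PU43p.P.real ++ [[0, 1], [1, 0], [2, 3], [3, 2], [4, 5], [5, 4]] →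
        gK a * gK b = 1 := by
      intro a b hab
      have := wordP_eq_one [a, b] hab
      rwa [wordP_cons, wordP_cons, wordP_nil, mul_one] at this
    interval_cases l
    · exact key 0 1 (by simp)
    · exact key 1 0 (by simp)
    · exact key 2 3 (by simp)
    · exact key 3 2 (by simp)
    · exact key 4 5 (by simp)
    · exact key 5 4 (by simp)
  · intro L hL
    exact wordP_eq_one L (List.mem_append_left _ hL)

/-- the point stabiliser is the presented group `U₄(3)` -/
theorem equiv_K0 : Nonempty (PU43p.P.Grp ≃* ↥K0) := by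
  obtain ⟨ψ, hψ⟩ := exists_hom
  obtain ⟨fG, _, hcard⟩ := Cfsg.Agent.Lib.Helper4.U43pMain.order_aux
  have hinj : Function.Injective ψ := by
    apply Cfsg.Agent.Lib.Helper4.RepLib.injective_of_simple
      Cfsg.Agent.Lib.Helper4.U43pMain.simple_aux ψ (PU43p.P.gR 0)
    rw [hψ 0 (by norm_num)]
    exact gK_zero_ne
  have hfin : Finite ↥K0 := by
    apply Nat.finite_of_card_ne_zero
    rw [card_K0]
    norm_num
  have hbij : Function.Bijective ψ := by
    apply hinj.bijective_of_nat_card_le
    rw [hcard, card_K0]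
  exact ⟨MulEquiv.ofBijective ψ hbij⟩

end Cfsg.Agent.Lib.Helper9.McLU43
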