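import Cfsg.Agent.Lib.Helper9.McLd
import Cfsg.Prelude.Def_Spor_Conway

set_option autoImplicit false
set_option maxHeartbeats 0
set_option maxRecDepth 1000000

/-! The McLaughlin group of the definitions is isomorphic to the permutation group of `McLc`. -/

namespace Cfsg.Agent.Lib.Helper9.McLe

open Cfsg Cfsg.Agent.Lib.Helper4.Leech Cfsg.Agent.Lib.Helper9.Golay1
  Cfsg.Agent.Lib.Helper9.LeechM1 Cfsg.Agent.Lib.Helper9.LeechX4
  Cfsg.Agent.Lib.Helper9.LeechX7 Cfsg.Agent.Lib.Helper9.LeechX8 Cfsg.Agent.Lib.Helper9.LeechX9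
  Cfsg.Agent.Lib.Helper9.LeechX11 Cfsg.Agent.Lib.Helper9.LeechQ2
  Cfsg.Agent.Lib.Helper9.LeechE4 Cfsg.Agent.Lib.Helper9.LeechE5 Cfsg.Agent.Lib.Helper9.LeechC7
  Cfsg.Agent.Lib.Helper9.LeechP1 Cfsg.Agent.Lib.Helper9.LeechP6
  Cfsg.Agent.Lib.Helper9.OrbCert1 Cfsg.Agent.Lib.Helper9.OrbCert3
  Cfsg.Agent.Lib.Helper9.Co2orba Cfsg.Agent.Lib.Helper9.McLa Cfsg.Agent.Lib.Helper9.McLd
  Cfsg.Agent.Lib.Helper8.SS

/-- the stabiliser of the pair -/
abbrev G3 : Subgroup ↥Co0 := MulAction.stabilizer ↥Co0 a3 ⊓ MulAction.stabilizer ↥Co0 b3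

theorem mem_G3 (g : ↥Co0) : g ∈ G3 ↔ g.1 a3 = a3 ∧ g.1 b3 = b3 := by
  show (g ∈ MulAction.stabilizer ↥Co0 a3 ∧ g ∈ MulAction.stabilizer ↥Co0 b3) ↔ _
  rw [MulAction.mem_stabilizer_iff, MulAction.mem_stabilizer_iff]
  rfl

theorem a3_norm : sqNorm a3.1 = 32 := by decide +kernel
theorem b3_norm : sqNorm b3.1 = 32 := by decide +kernel
theorem a3_b3 : dotInt a3.1 b3.1 = -8 := by decide +kernel

theorem G3_spec : IsSimpleGroup ↥G3 ∧ Nat.card ↥G3 = 898128000 :=
  Cfsg.Agent.Lib.Helper9.McLsimple3.mcl_general a3 b3 a3_norm b3_norm a3_b3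

instance : Finite ↥G3 := by
  apply Nat.finite_of_card_ne_zero
  rw [G3_spec.2]
  norm_num

/-- the 275 vectors -/
def set3 : Set leechLattice :=
  {y | sqNorm y.1 = 32 ∧ dotInt a3.1 y.1 = -8 ∧ dotInt b3.1 y.1 = -16}

def sub3 : SubMulAction ↥G3 leechLattice where
  carrier := set3
  smul_mem' := by
    rintro g y ⟨h1, h2, h3⟩
    have hg := (mem_G3 g.1).mp g.2
    have hc : g.1.1 ∈ Co0 := g.1.2
    show sqNorm (g.1.1 y).1 = 32 ∧ dotInt a3.1 (g.1.1 y).1 = -8 ∧ dotInt b3.1 (g.1.1 y).1 = -16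
    refine ⟨by rw [hc.2, h1], ?_, ?_⟩
    · have := dot_pres g.1.1 hc a3 y
      rw [hg.1] at this
      rw [this, h2]
    · have := dot_pres g.1.1 hc b3 y
      rw [hg.2] at this
      rw [this, h3]

theorem smul_val (g : ↥G3) (y : ↥sub3) : (g • y).1 = g.1.1 y.1 := rfl

theorem card_set3 : set3.ncard = 275 := by
  have hu : sqNorm (-a3 - b3 : leechLattice).1 = 48 := by
    have e : (-a3 - b3 : leechLattice).1 = -a3.1 - b3.1 := rfl
    rw [e, sqNorm_sub, sqNorm_neg, dot_neg_left, a3_norm, b3_norm, a3_b3]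
    norm_num
  have hv : sqNorm (-b3 : leechLattice).1 = 32 := by
    have e : (-b3 : leechLattice).1 = -b3.1 := rfl
    rw [e, sqNorm_neg, b3_norm]
  have huv : sqNorm ((-a3 - b3 : leechLattice).1 - (-b3 : leechLattice).1) = 32 := by
    have e : (-a3 - b3 : leechLattice).1 - (-b3 : leechLattice).1 = -a3.1 := by
      have e1 : (-a3 - b3 : leechLattice).1 = -a3.1 - b3.1 := rfl
      have e2 : (-b3 : leechLattice).1 = -b3.1 := rfl
      rw [e1, e2]
      abel
    rw [e, sqNorm_neg, a3_norm]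
  have h := Cfsg.Agent.Lib.Helper9.McL275c.count275 (-a3 - b3) (-b3) hu hv huv
  rw [← h]
  congr 1
  ext x
  show (sqNorm x.1 = 32 ∧ dotInt a3.1 x.1 = -8 ∧ dotInt b3.1 x.1 = -16) ↔
    (sqNorm x.1 = 32 ∧ sqNorm ((-a3 - b3 : leechLattice).1 - x.1) = 32 ∧
      dotInt (-b3 : leechLattice).1 x.1 = 16)
  have e1 : (-a3 - b3 : leechLattice).1 = -a3.1 - b3.1 := rfl
  have e2 : (-b3 : leechLattice).1 = -b3.1 := rfl
  constructor
  · rintro ⟨h1, h2, h3⟩
    refine ⟨h1, ?_, ?_⟩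
    · rw [Cfsg.Agent.Lib.Helper9.McL275c.norm_sub_iff _ x hu h1, e1, dot_sub_left, dot_neg_left, h2, h3]
      norm_num
    · rw [e2, dot_neg_left, h3]
      norm_num
  · rintro ⟨h1, h2, h3⟩
    rw [Cfsg.Agent.Lib.Helper9.McL275c.norm_sub_iff _ x hu h1, e1, dot_sub_left, dot_neg_left] at h2
    rw [e2, dot_neg_left] at h3
    refine ⟨h1, by omega, by omega⟩

theorem card_sub3 : Nat.card ↥sub3 = 275 := by
  have e : Nat.card ↥sub3 = set3.ncard := rfl
  rw [e, card_set3]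

instance : Finite ↥sub3 := by
  apply Nat.finite_of_card_ne_zero
  rw [card_sub3]
  norm_num

/-- the points -/
def pt (i : Fin 275) : ↥sub3 :=
  ⟨⟨vecN (C.getD i.1 0), mem_all i.1 i.2⟩, props_all i.1 i.2⟩

theorem pt_val (i : Fin 275) : (pt i).1.1 = vecN (C.getD i.1 0) := rfl

theorem pt_inj : Function.Injective pt := by
  intro i j h
  have h1 : vecN (C.getD i.1 0) = vecN (C.getD j.1 0) := by
    rw [← pt_val, ← pt_val, h]
  apply Fin.ext
  apply C_inj i.1 i.2 j.1 j.2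
  apply code_inj _ _ (C_lt i.1 i.2) (C_lt j.1 j.2)
  intro k hk
  rw [← vecN_unidx _ k hk, ← vecN_unidx _ k hk, h1]

theorem pt_bij : Function.Bijective pt := by
  apply Function.Injective.bijective_of_nat_card_le pt_inj
  rw [card_sub3, Nat.card_eq_fintype_card, Fintype.card_fin]

/-- the numbering of the points -/
noncomputable def e3 : Fin 275 ≃ ↥sub3 := Equiv.ofBijective pt pt_bij

theorem e3_apply (i : Fin 275) : e3 i = pt i := rfl

/-- the action on the numbers of the points -/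
noncomputable def phi : ↥G3 →* Equiv.Perm (Fin 275) :=
  (e3.symm.permCongrHom : Equiv.Perm ↥sub3 ≃* Equiv.Perm (Fin 275)).toMonoidHom.comp
    (MulAction.toPermHom ↥G3 ↥sub3)

theorem phi_eq (g : ↥G3) (i j : Fin 275) (h : g • pt i = pt j) : phi g i = j := by
  show e3.symm (g • (e3.symm.symm i)) = j
  rw [Equiv.symm_symm, e3_apply, h, ← e3_apply, Equiv.symm_apply_apply]

/-- building elements of the group -/
def mk3 (g : Equiv.Perm leechLattice) (hg : Good g) : ↥G3 :=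
  ⟨⟨g, hg.1⟩, (mem_G3 _).mpr ⟨hg.2.1, hg.2.2⟩⟩

theorem phi_gen (g : ℕ) (hg : g < 3) :
    phi (mk3 (gen g) (gen_good g)) = P 275 pN pM (g + 1) := by
  apply Equiv.ext
  intro i
  apply phi_eq
  apply Subtype.ext
  apply Subtype.ext
  show ((gen g) (pt i).1).1 = vecN (C.getD ((P 275 pN pM (g + 1)) i).1 0)
  rw [P_apply_val valid_all (by omega : g + 1 < 528)]
  exact step_spec g _ _ (act_ok g hg i.1 i.2) (pt i).1 rfl

theorem ne1 : ∃ x < 275, get (pN 1) x ≠ x := by decide +kernel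

theorem phi_inj : Function.Injective phi := by
  haveI := G3_spec.1
  rw [← MonoidHom.ker_eq_bot_iff]
  rcases (MonoidHom.normal_ker phi).eq_bot_or_eq_top with h | h
  · exact h
  · exfalso
    have hm : mk3 (gen 0) (gen_good 0) ∈ phi.ker := by rw [h]; trivial
    rw [MonoidHom.mem_ker, phi_gen 0 (by norm_num)] at hm
    obtain ⟨x, hx, hne⟩ := ne1
    apply hne
    have h2 := P_apply_val valid_all (by norm_num : 0 + 1 < 528) (⟨x, hx⟩ : Fin 275)
    rw [hm] at h2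
    exact h2.symm

theorem range_phi : phi.range = K := by
  symm
  apply Subgroup.eq_of_le_of_card_ge
  · rw [K_eq]
    apply (Subgroup.closure_le _).mpr
    rintro g ⟨i, hi, rfl⟩
    simp only [List.mem_cons, List.mem_nil_iff, or_false] at hi
    rcases hi with rfl | rfl | rfl
    · exact ⟨_, phi_gen 0 (by norm_num)⟩
    · exact ⟨_, phi_gen 1 (by norm_num)⟩
    · exact ⟨_, phi_gen 2 (by norm_num)⟩
  · rw [card_K, ← G3_spec.2]
    exact le_of_eq (Nat.card_congr (MonoidHom.ofInjective phi_inj).toEquiv).symm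

/-- the isomorphism with the permutation group -/
noncomputable def iso3 : ↥G3 ≃* ↥K :=
  (MonoidHom.ofInjective phi_inj).trans (MulEquiv.subgroupCongr range_phi)

end Cfsg.Agent.Lib.Helper9.McLe
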