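import Cfsg.Agent.Lib.Helper9.McLU43
import Cfsg.Agent.Lib.Helper9.McLe
import Cfsg.Agent.Lib.Helper9.McL162f

set_option autoImplicit false
set_option maxHeartbeats 1000000

/-! The stabiliser of a point of the McLaughlin configuration is the unitary group `PSU₄(3)`. -/

namespace Cfsg.Agent.Lib.Helper9.McLU43

open Cfsg Cfsg.Agent.Lib.Helper4.Leech Cfsg.Agent.Lib.Helper9.Golay1
  Cfsg.Agent.Lib.Helper9.LeechM1 Cfsg.Agent.Lib.Helper9.LeechX4
  Cfsg.Agent.Lib.Helper9.LeechX7 Cfsg.Agent.Lib.Helper9.LeechX8 Cfsg.Agent.Lib.Helper9.LeechX9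
  Cfsg.Agent.Lib.Helper9.LeechX11 Cfsg.Agent.Lib.Helper9.LeechQ2
  Cfsg.Agent.Lib.Helper9.LeechE4 Cfsg.Agent.Lib.Helper9.LeechE5 Cfsg.Agent.Lib.Helper9.LeechC7
  Cfsg.Agent.Lib.Helper9.LeechP1 Cfsg.Agent.Lib.Helper9.LeechP6
  Cfsg.Agent.Lib.Helper9.Co2orba Cfsg.Agent.Lib.Helper9.McLa Cfsg.Agent.Lib.Helper9.McLd
  Cfsg.Agent.Lib.Helper9.McLe
  Cfsg.Agent.Lib.Helper8.SS

/-- conjugating the stabiliser of a triple -/
theorem stab3_conj {G α : Type*} [Group G] [MulAction G α] (g : G) (u v x : α) :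
    Nonempty (↥(MulAction.stabilizer G u ⊓ MulAction.stabilizer G v ⊓ MulAction.stabilizer G x) ≃*
      ↥(MulAction.stabilizer G (g • u) ⊓ MulAction.stabilizer G (g • v) ⊓
        MulAction.stabilizer G (g • x))) := by
  have hinj : Function.Injective (MulAut.conj g).toMonoidHom := (MulAut.conj g).injective
  have e : MulAction.stabilizer G (g • u) ⊓ MulAction.stabilizer G (g • v) ⊓
      MulAction.stabilizer G (g • x) =
      (MulAction.stabilizer G u ⊓ MulAction.stabilizer G v ⊓ MulAction.stabilizer G x).map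
        (MulAut.conj g).toMonoidHom := by
    rw [Subgroup.map_inf _ _ _ hinj, Subgroup.map_inf _ _ _ hinj,
      MulAction.stabilizer_smul_eq_stabilizer_map_conj,
      MulAction.stabilizer_smul_eq_stabilizer_map_conj,
      MulAction.stabilizer_smul_eq_stabilizer_map_conj]
  rw [e]
  exact ⟨(MulAut.conj g).subgroupMap _⟩

/-- the standard triple attached to the pair `a3`, `b3` -/
def uS : leechLattice := -a3 - b3
def vS : leechLattice := -b3
def xS : leechLattice := (pt p0).1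

theorem uS_val : uS.1 = -a3.1 - b3.1 := rfl
theorem vS_val : vS.1 = -b3.1 := rfl

theorem uS_norm : sqNorm uS.1 = 48 := by
  rw [uS_val, sqNorm_sub, sqNorm_neg, dot_neg_left, McLe.a3_norm, McLe.b3_norm, McLe.a3_b3]
  norm_num

theorem vS_norm : sqNorm vS.1 = 32 := by
  rw [vS_val, sqNorm_neg, McLe.b3_norm]

theorem uS_vS : sqNorm (uS.1 - vS.1) = 32 := by
  have e : uS.1 - vS.1 = -a3.1 := by
    rw [uS_val, vS_val]
    abel
  rw [e, sqNorm_neg, McLe.a3_norm]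

theorem xS_props : sqNorm xS.1 = 32 ∧ sqNorm (uS.1 - xS.1) = 32 ∧ dotInt vS.1 xS.1 = 16 := by
  obtain ⟨h1, h2, h3⟩ : sqNorm xS.1 = 32 ∧ dotInt a3.1 xS.1 = -8 ∧ dotInt b3.1 xS.1 = -16 :=
    (pt p0).2
  refine ⟨h1, ?_, ?_⟩
  · rw [Cfsg.Agent.Lib.Helper9.McL275c.norm_sub_iff _ xS uS_norm h1, uS_val, dot_sub_left,
      dot_neg_left, h2, h3]
    norm_num
  · rw [vS_val, dot_neg_left, h3]
    norm_num

/-- the stabiliser of the standard triple -/
abbrev TS : Subgroup ↥Co0 :=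
  MulAction.stabilizer ↥Co0 uS ⊓ MulAction.stabilizer ↥Co0 vS ⊓ MulAction.stabilizer ↥Co0 xS

theorem mem_TS (g : ↥Co0) : g ∈ TS ↔ g.1 uS = uS ∧ g.1 vS = vS ∧ g.1 xS = xS := by
  show ((g ∈ MulAction.stabilizer ↥Co0 uS ∧ g ∈ MulAction.stabilizer ↥Co0 vS) ∧
    g ∈ MulAction.stabilizer ↥Co0 xS) ↔ _
  rw [MulAction.mem_stabilizer_iff, MulAction.mem_stabilizer_iff, MulAction.mem_stabilizer_iff,
    and_assoc]
  rfl

theorem fix_ab (g : Equiv.Perm leechLattice) (hg : g ∈ Co0) :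
    (g uS = uS ∧ g vS = vS) ↔ (g a3 = a3 ∧ g b3 = b3) := by
  constructor
  · rintro ⟨h1, h2⟩
    have hb : g b3 = b3 := by
      have : g (-b3) = -b3 := h2
      rw [co0_neg g hg] at this
      exact neg_inj.mp this
    refine ⟨?_, hb⟩
    have : g (-a3 - b3) = -a3 - b3 := h1
    rw [co0_sub g hg, co0_neg g hg, hb] at this
    exact neg_inj.mp (sub_left_injective this)
  · rintro ⟨h1, h2⟩
    constructor
    · show g (-a3 - b3) = -a3 - b3
      rw [co0_sub g hg, co0_neg g hg, h1, h2]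
    · show g (-b3) = -b3
      rw [co0_neg g hg, h2]

theorem TS_le : TS ≤ G3 := by
  intro g hg
  obtain ⟨h1, h2, -⟩ := (mem_TS g).mp hg
  exact (mem_G3 g).mpr ((fix_ab g.1 g.2).mp ⟨h1, h2⟩)

/-- the action of the stabiliser of the standard triple on the 275 points -/
noncomputable def Phi : ↥TS →* Equiv.Perm (Fin 275) := phi.comp (Subgroup.inclusion TS_le)

theorem Phi_inj : Function.Injective Phi :=
  phi_inj.comp (Subgroup.inclusion_injective TS_le)

theorem Phi_range : Phi.range = K0 := by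
  apply le_antisymm
  · rintro _ ⟨g, rfl⟩
    apply mem_K0_of_fix
    · have h : phi (Subgroup.inclusion TS_le g) ∈ phi.range := ⟨_, rfl⟩
      rw [range_phi] at h
      exact h
    · apply phi_eq
      apply Subtype.ext
      rw [smul_val]
      exact ((mem_TS g.1).mp g.2).2.2
  · intro k hk
    have hkK : k ∈ K := K0_le hk
    rw [← range_phi] at hkK
    obtain ⟨g', rfl⟩ := hkK
    have hfix : phi g' p0 = p0 := K0_fix _ hk
    have h1 : g' • pt p0 = pt p0 := by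
      have h2 : e3.symm (g' • e3 p0) = p0 := hfix
      rw [Equiv.symm_apply_eq] at h2
      exact h2
    have hx : g'.1.1 xS = xS := by
      have := congrArg Subtype.val h1
      rw [smul_val] at this
      exact this
    have hab := (mem_G3 g'.1).mp g'.2
    have huv := (fix_ab g'.1.1 g'.1.2).mpr hab
    have hT : g'.1 ∈ TS := (mem_TS g'.1).mpr ⟨huv.1, huv.2, hx⟩
    refine ⟨⟨g'.1, hT⟩, ?_⟩
    show phi (Subgroup.inclusion TS_le ⟨g'.1, hT⟩) = phi g'
    congr 1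

theorem TS_equiv_K0 : Nonempty (↥TS ≃* ↥K0) :=
  ⟨(MonoidHom.ofInjective Phi_inj).trans (MulEquiv.subgroupCongr Phi_range)⟩

/-- the stabiliser of a point of the McLaughlin configuration is `PSU₄(3)` -/
theorem stab_equiv_PSU (u v x : leechLattice) (hu : sqNorm u.1 = 48) (hv : sqNorm v.1 = 32)
    (huv : sqNorm (u.1 - v.1) = 32)
    (hx : sqNorm x.1 = 32 ∧ sqNorm (u.1 - x.1) = 32 ∧ dotInt v.1 x.1 = 16)
    (F : Type) [Field F] [Fintype F] (hF : Fintype.card F = 9) :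
    Nonempty (↥(MulAction.stabilizer ↥Co0 u ⊓ MulAction.stabilizer ↥Co0 v ⊓
      MulAction.stabilizer ↥Co0 x) ≃* Cfsg.PSU 4 F 3) := by
  obtain ⟨δ1, hδ1, a1, a2, a3'⟩ := Cfsg.Agent.Lib.Helper9.McL162f.to_std u v x hu hv huv hx
  obtain ⟨δ2, hδ2, b1, b2, b3'⟩ :=
    Cfsg.Agent.Lib.Helper9.McL162f.to_std uS vS xS uS_norm vS_norm uS_vS xS_props
  let δ : ↥Co0 := ⟨δ2⁻¹ * δ1, Co0.mul_mem (Co0.inv_mem hδ2) hδ1⟩
  have e1 : δ • u = uS := by
    show (δ2⁻¹ * δ1) u = uS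
    rw [Equiv.Perm.mul_apply, a1, Equiv.Perm.inv_eq_iff_eq, b1]
  have e2 : δ • v = vS := by
    show (δ2⁻¹ * δ1) v = vS
    rw [Equiv.Perm.mul_apply, a2, Equiv.Perm.inv_eq_iff_eq, b2]
  have e3 : δ • x = xS := by
    show (δ2⁻¹ * δ1) x = xS
    rw [Equiv.Perm.mul_apply, a3', Equiv.Perm.inv_eq_iff_eq, b3']
  obtain ⟨f1⟩ := stab3_conj δ u v x
  rw [e1, e2, e3] at f1
  obtain ⟨f2⟩ := TS_equiv_K0
  obtain ⟨f3⟩ := equiv_K0
  obtain ⟨f4⟩ := Cfsg.Agent.Lib.Helper4.U43pIso.equiv_PSU (F := F) hF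
  exact ⟨f1.trans (f2.trans (f3.symm.trans f4))⟩

end Cfsg.Agent.Lib.Helper9.McLU43
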